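import Mathlib

set_option autoImplicit false
set_option maxRecDepth 1000000

/-! Data: the stabiliser of a point of the complementary dodecad in M11 as an image of SL(2,11). -/

namespace Cfsg.Agent.helper28.L211

/-- images of the matrices of determinant one over the field of eleven elements -/
def slTab : List (List ℕ × List ℕ) := [
  ([0, 1, 2, 3, 4, 5, 6, 7, 8, 9, 10, 11, 12, 13, 14, 15, 16, 17, 18, 19, 20, 21, 22, 23], [0, 1, 2, 3, 4, 5, 6, 7, 8, 9, 10, 11, 12, 13, 14, 15, 16, 17, 18, 19, 20, 21, 22, 23]),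
  ([0, 4, 8, 12, 2, 20, 13, 17, 18, 1, 5, 19, 16, 3, 10, 7, 9, 22, 6, 14, 15, 11, 21, 23], [0, 9, 4, 13, 1, 10, 18, 15, 2, 16, 14, 21, 3, 6, 19, 20, 12, 7, 8, 11, 5, 22, 17, 23]),
  ([0, 2, 18, 16, 8, 15, 3, 22, 6, 4, 20, 14, 9, 12, 5, 17, 1, 21, 13, 10, 7, 19, 11, 23], [0, 16, 1, 6, 9, 14, 8, 20, 4, 12, 19, 22, 13, 18, 11, 5, 3, 15, 2, 21, 10, 17, 7, 23]),
  ([0, 8, 6, 9, 18, 7, 12, 21, 13, 2, 15, 10, 1, 16, 20, 22, 4, 11, 3, 5, 17, 14, 19, 23], [0, 12, 9, 18, 16, 19, 2, 5, 1, 3, 11, 17, 6, 8, 21, 10, 13, 20, 4, 22, 14, 7, 15, 23]),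
  ([0, 18, 13, 1, 6, 17, 16, 11, 3, 8, 7, 5, 4, 9, 15, 21, 2, 19, 12, 20, 22, 10, 14, 23], [0, 3, 16, 8, 12, 11, 4, 10, 9, 13, 21, 7, 18, 2, 22, 14, 6, 5, 1, 17, 19, 15, 20, 23]),
  ([0, 6, 3, 4, 13, 22, 9, 19, 12, 18, 17, 20, 2, 1, 7, 11, 8, 14, 16, 15, 21, 5, 10, 23], [0, 13, 12, 2, 3, 21, 1, 14, 16, 6, 22, 15, 8, 4, 17, 19, 18, 10, 9, 7, 11, 20, 5, 23]),
  ([0, 13, 12, 2, 3, 21, 1, 14, 16, 6, 22, 15, 8, 4, 17, 19, 18, 10, 9, 7, 11, 20, 5, 23], [0, 6, 3, 4, 13, 22, 9, 19, 12, 18, 17, 20, 2, 1, 7, 11, 8, 14, 16, 15, 21, 5, 10, 23]),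
  ([0, 3, 16, 8, 12, 11, 4, 10, 9, 13, 21, 7, 18, 2, 22, 14, 6, 5, 1, 17, 19, 15, 20, 23], [0, 18, 13, 1, 6, 17, 16, 11, 3, 8, 7, 5, 4, 9, 15, 21, 2, 19, 12, 20, 22, 10, 14, 23]),
  ([0, 12, 9, 18, 16, 19, 2, 5, 1, 3, 11, 17, 6, 8, 21, 10, 13, 20, 4, 22, 14, 7, 15, 23], [0, 8, 6, 9, 18, 7, 12, 21, 13, 2, 15, 10, 1, 16, 20, 22, 4, 11, 3, 5, 17, 14, 19, 23]),
  ([0, 16, 1, 6, 9, 14, 8, 20, 4, 12, 19, 22, 13, 18, 11, 5, 3, 15, 2, 21, 10, 17, 7, 23], [0, 2, 18, 16, 8, 15, 3, 22, 6, 4, 20, 14, 9, 12, 5, 17, 1, 21, 13, 10, 7, 19, 11, 23]),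
  ([0, 9, 4, 13, 1, 10, 18, 15, 2, 16, 14, 21, 3, 6, 19, 20, 12, 7, 8, 11, 5, 22, 17, 23], [0, 4, 8, 12, 2, 20, 13, 17, 18, 1, 5, 19, 16, 3, 10, 7, 9, 22, 6, 14, 15, 11, 21, 23]),
  ([0, 2, 12, 9, 1, 7, 13, 21, 6, 4, 14, 20, 16, 18, 5, 19, 8, 22, 3, 10, 15, 17, 11, 23], [0, 4, 1, 18, 9, 14, 8, 5, 16, 3, 19, 22, 2, 6, 10, 20, 12, 21, 13, 15, 11, 7, 17, 23]),
  ([0, 8, 16, 1, 4, 17, 3, 11, 13, 2, 10, 15, 9, 6, 20, 14, 18, 21, 12, 5, 7, 22, 19, 23], [0, 3, 9, 6, 4, 19, 13, 20, 1, 12, 10, 7, 18, 8, 15, 11, 2, 5, 16, 22, 14, 17, 21, 23]),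
  ([0, 18, 9, 4, 2, 22, 12, 19, 3, 8, 5, 7, 1, 13, 15, 10, 6, 11, 16, 20, 17, 21, 14, 23], [0, 12, 4, 8, 3, 10, 16, 11, 9, 2, 15, 17, 6, 13, 22, 14, 18, 20, 1, 7, 19, 21, 5, 23]),
  ([0, 6, 1, 2, 8, 21, 16, 14, 12, 18, 20, 17, 4, 3, 7, 5, 13, 19, 9, 15, 22, 11, 10, 23], [0, 2, 3, 13, 12, 15, 1, 14, 4, 18, 22, 21, 8, 16, 7, 19, 6, 11, 9, 17, 10, 5, 20, 23]),
  ([0, 13, 4, 8, 18, 11, 9, 10, 16, 6, 15, 22, 2, 12, 17, 20, 3, 14, 1, 7, 21, 19, 5, 23], [0, 18, 12, 16, 2, 22, 9, 19, 3, 6, 7, 5, 13, 1, 17, 10, 8, 14, 4, 21, 15, 20, 11, 23]),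
  ([0, 3, 2, 18, 6, 19, 1, 5, 9, 13, 7, 21, 8, 16, 22, 15, 12, 10, 4, 17, 11, 14, 20, 23], [0, 6, 2, 1, 18, 7, 4, 10, 12, 8, 17, 20, 16, 9, 21, 15, 13, 19, 3, 5, 22, 11, 14, 23]),
  ([0, 12, 8, 6, 13, 14, 4, 20, 1, 3, 17, 11, 18, 9, 21, 7, 16, 5, 2, 22, 19, 10, 15, 23], [0, 8, 18, 9, 6, 17, 3, 15, 2, 13, 21, 11, 1, 4, 5, 22, 16, 10, 12, 20, 7, 14, 19, 23]),
  ([0, 16, 18, 13, 3, 10, 2, 15, 4, 12, 22, 19, 6, 1, 11, 17, 9, 20, 8, 21, 14, 5, 7, 23], [0, 13, 6, 4, 8, 21, 12, 22, 18, 16, 5, 14, 9, 3, 20, 7, 1, 15, 2, 11, 17, 19, 10, 23]),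
  ([0, 9, 6, 3, 12, 5, 8, 7, 2, 16, 21, 14, 13, 4, 19, 22, 1, 15, 18, 11, 10, 20, 17, 23], [0, 16, 8, 3, 13, 5, 2, 7, 6, 1, 20, 19, 4, 12, 11, 17, 9, 22, 18, 14, 21, 10, 15, 23]),
  ([0, 1, 13, 12, 16, 20, 18, 17, 8, 9, 11, 10, 3, 2, 14, 21, 4, 7, 6, 19, 5, 15, 22, 23], [0, 1, 13, 12, 16, 20, 18, 17, 8, 9, 11, 10, 3, 2, 14, 21, 4, 7, 6, 19, 5, 15, 22, 23]),
  ([0, 4, 3, 16, 9, 15, 6, 22, 18, 1, 19, 5, 12, 8, 10, 11, 2, 17, 13, 14, 20, 7, 21, 23], [0, 9, 16, 2, 1, 11, 6, 21, 13, 4, 14, 15, 12, 18, 19, 5, 3, 17, 8, 10, 20, 22, 7, 23]),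
  ([0, 12, 16, 4, 2, 21, 18, 17, 13, 1, 5, 15, 8, 3, 7, 10, 6, 11, 9, 14, 19, 22, 20, 23], [0, 9, 4, 13, 3, 10, 16, 14, 12, 18, 15, 17, 1, 8, 19, 11, 2, 7, 6, 20, 22, 5, 21, 23]),
  ([0, 16, 9, 2, 8, 11, 6, 22, 3, 4, 20, 7, 18, 12, 17, 5, 13, 19, 1, 10, 14, 21, 15, 23], [0, 18, 3, 8, 9, 15, 6, 11, 4, 2, 19, 5, 13, 16, 20, 22, 1, 14, 12, 17, 10, 21, 7, 23]),
  ([0, 9, 1, 8, 18, 19, 13, 21, 12, 2, 15, 17, 6, 16, 22, 20, 3, 14, 4, 5, 10, 11, 7, 23], [0, 2, 9, 16, 18, 19, 12, 22, 3, 1, 20, 21, 8, 6, 17, 10, 13, 11, 4, 5, 15, 7, 14, 23]),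
  ([0, 1, 4, 18, 6, 14, 3, 11, 16, 8, 7, 22, 13, 9, 21, 15, 12, 10, 2, 20, 5, 19, 17, 23], [0, 1, 18, 6, 2, 20, 4, 10, 9, 13, 17, 7, 16, 12, 5, 15, 8, 22, 3, 21, 19, 14, 11, 23]),
  ([0, 4, 2, 6, 13, 10, 12, 19, 9, 18, 17, 21, 3, 1, 11, 7, 16, 5, 8, 15, 20, 14, 22, 23], [0, 13, 2, 12, 1, 17, 3, 15, 18, 8, 5, 14, 6, 4, 21, 19, 16, 10, 9, 7, 20, 11, 22, 23]),
  ([0, 2, 8, 13, 3, 5, 16, 14, 1, 6, 22, 11, 12, 4, 19, 17, 9, 20, 18, 7, 15, 10, 21, 23], [0, 8, 1, 4, 13, 5, 9, 19, 2, 16, 21, 11, 12, 3, 7, 20, 6, 15, 18, 14, 17, 22, 10, 23]),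
  ([0, 8, 18, 3, 12, 20, 9, 10, 4, 13, 21, 19, 16, 2, 14, 22, 1, 15, 6, 17, 7, 5, 11, 23], [0, 16, 13, 3, 8, 21, 18, 20, 1, 6, 7, 22, 4, 9, 14, 17, 12, 19, 2, 11, 5, 10, 15, 23]),
  ([0, 18, 6, 12, 16, 15, 1, 5, 2, 3, 11, 14, 9, 8, 10, 21, 4, 7, 13, 22, 17, 20, 19, 23], [0, 6, 8, 9, 16, 7, 2, 17, 13, 12, 14, 10, 3, 18, 11, 5, 4, 20, 1, 22, 21, 15, 19, 23]),
  ([0, 6, 13, 16, 9, 7, 4, 20, 8, 12, 19, 10, 1, 18, 5, 11, 2, 17, 3, 21, 22, 15, 14, 23], [0, 12, 16, 18, 6, 14, 1, 5, 8, 4, 11, 15, 9, 2, 22, 21, 3, 17, 13, 10, 7, 19, 20, 23]),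
  ([0, 13, 3, 9, 1, 17, 2, 15, 18, 16, 14, 5, 4, 6, 20, 19, 8, 22, 12, 11, 21, 7, 10, 23], [0, 4, 6, 2, 12, 11, 13, 21, 16, 3, 22, 19, 18, 1, 10, 7, 9, 5, 8, 15, 14, 20, 17, 23]),
  ([0, 3, 12, 1, 4, 22, 8, 7, 6, 9, 10, 20, 2, 13, 15, 14, 18, 21, 16, 19, 11, 17, 5, 23], [0, 3, 12, 1, 4, 22, 8, 7, 6, 9, 10, 20, 2, 13, 15, 14, 18, 21, 16, 19, 11, 17, 5, 23]),
  ([0, 16, 8, 1, 12, 17, 3, 22, 18, 2, 7, 19, 6, 9, 21, 14, 13, 20, 4, 5, 10, 11, 15, 23], [0, 3, 9, 6, 18, 19, 12, 10, 2, 13, 20, 21, 4, 16, 15, 22, 1, 5, 8, 11, 17, 14, 7, 23]),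
  ([0, 9, 18, 4, 16, 22, 12, 21, 6, 8, 17, 14, 13, 1, 11, 10, 3, 15, 2, 20, 5, 19, 7, 23], [0, 13, 18, 16, 3, 20, 8, 22, 9, 1, 15, 14, 6, 12, 11, 17, 4, 10, 2, 21, 19, 7, 5, 23]),
  ([0, 1, 6, 2, 9, 21, 16, 11, 13, 18, 22, 10, 3, 4, 19, 5, 12, 7, 8, 15, 20, 14, 17, 23], [0, 1, 3, 12, 13, 15, 2, 17, 18, 4, 11, 7, 16, 8, 21, 19, 6, 22, 9, 14, 20, 5, 10, 23]),
  ([0, 4, 13, 8, 1, 11, 9, 19, 3, 6, 21, 5, 12, 2, 14, 20, 16, 17, 18, 7, 15, 10, 22, 23], [0, 4, 13, 8, 1, 11, 9, 19, 3, 6, 21, 5, 12, 2, 14, 20, 16, 17, 18, 7, 15, 10, 22, 23]),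
  ([0, 2, 3, 18, 4, 19, 1, 14, 12, 13, 11, 20, 16, 8, 10, 15, 9, 22, 6, 17, 7, 5, 21, 23], [0, 6, 1, 2, 4, 21, 18, 20, 13, 16, 14, 10, 8, 9, 7, 15, 12, 19, 3, 5, 11, 22, 17, 23]),
  ([0, 8, 12, 6, 2, 14, 4, 10, 16, 3, 19, 15, 9, 18, 5, 7, 1, 21, 13, 22, 17, 20, 11, 23], [0, 16, 4, 9, 6, 14, 3, 15, 1, 12, 7, 22, 2, 18, 5, 11, 8, 20, 13, 10, 21, 17, 19, 23]),
  ([0, 18, 16, 13, 8, 10, 2, 5, 9, 12, 14, 7, 1, 6, 20, 17, 4, 11, 3, 21, 22, 15, 19, 23], [0, 12, 6, 18, 16, 7, 13, 11, 4, 8, 5, 17, 9, 3, 10, 21, 2, 15, 1, 22, 14, 19, 20, 23]),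
  ([0, 6, 9, 3, 18, 5, 8, 20, 1, 16, 10, 17, 4, 13, 15, 22, 2, 19, 12, 11, 21, 7, 14, 23], [0, 8, 16, 3, 12, 5, 1, 21, 6, 2, 10, 19, 18, 13, 22, 14, 9, 11, 4, 17, 7, 20, 15, 23]),
  ([0, 13, 1, 12, 6, 20, 18, 15, 4, 9, 5, 22, 2, 3, 7, 21, 8, 14, 16, 19, 11, 17, 10, 23], [0, 2, 12, 13, 8, 10, 4, 14, 16, 9, 22, 20, 3, 1, 17, 7, 18, 21, 6, 19, 5, 15, 11, 23]),
  ([0, 3, 4, 16, 13, 15, 6, 7, 2, 1, 20, 21, 8, 12, 17, 11, 18, 10, 9, 14, 19, 22, 5, 23], [0, 9, 8, 1, 2, 22, 6, 7, 12, 18, 17, 15, 13, 4, 19, 5, 3, 14, 16, 20, 10, 11, 21, 23]),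
  ([0, 12, 2, 9, 3, 7, 13, 17, 8, 4, 15, 11, 18, 16, 22, 19, 6, 5, 1, 10, 14, 21, 20, 23], [0, 18, 2, 4, 9, 17, 16, 5, 8, 3, 19, 11, 1, 6, 20, 10, 13, 7, 12, 15, 22, 21, 14, 23]),
  ([0, 8, 6, 2, 16, 22, 9, 11, 3, 12, 21, 10, 13, 4, 17, 5, 18, 15, 1, 7, 14, 20, 19, 23], [0, 18, 3, 8, 13, 15, 2, 19, 1, 6, 11, 7, 9, 12, 20, 17, 4, 14, 16, 22, 21, 10, 5, 23]),
  ([0, 18, 13, 8, 9, 21, 1, 19, 12, 16, 11, 5, 3, 2, 22, 20, 6, 7, 4, 17, 10, 15, 14, 23], [0, 6, 13, 12, 18, 11, 16, 17, 3, 4, 20, 10, 8, 2, 22, 21, 9, 19, 1, 7, 15, 5, 14, 23]),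
  ([0, 6, 3, 18, 1, 11, 4, 14, 16, 9, 19, 20, 12, 8, 21, 15, 13, 17, 2, 22, 5, 7, 10, 23], [0, 4, 18, 2, 6, 20, 1, 21, 13, 9, 22, 5, 12, 16, 7, 15, 8, 17, 3, 10, 11, 14, 19, 23]),
  ([0, 13, 12, 6, 4, 19, 2, 10, 9, 1, 14, 15, 16, 18, 11, 7, 3, 22, 8, 21, 20, 17, 5, 23], [0, 9, 6, 16, 4, 22, 3, 15, 18, 8, 7, 14, 2, 1, 10, 11, 12, 21, 13, 5, 20, 19, 17, 23]),
  ([0, 3, 16, 13, 2, 14, 8, 5, 1, 4, 10, 7, 9, 6, 19, 17, 12, 21, 18, 11, 15, 22, 20, 23], [0, 8, 4, 1, 9, 7, 13, 11, 6, 12, 10, 19, 16, 3, 5, 20, 2, 15, 18, 14, 22, 17, 21, 23]),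
  ([0, 12, 9, 3, 8, 10, 18, 20, 4, 2, 5, 17, 1, 13, 14, 22, 16, 11, 6, 19, 7, 21, 15, 23], [0, 12, 9, 3, 8, 10, 18, 20, 4, 2, 5, 17, 1, 13, 14, 22, 16, 11, 6, 19, 7, 21, 15, 23]),
  ([0, 16, 1, 12, 18, 5, 6, 15, 2, 8, 20, 22, 4, 3, 10, 21, 9, 19, 13, 14, 17, 11, 7, 23], [0, 2, 8, 13, 12, 5, 6, 22, 9, 16, 14, 21, 3, 18, 19, 7, 1, 20, 4, 17, 10, 15, 11, 23]),
  ([0, 9, 4, 16, 6, 20, 13, 7, 8, 18, 15, 21, 2, 12, 5, 11, 1, 14, 3, 10, 22, 19, 17, 23], [0, 16, 12, 18, 2, 14, 4, 7, 8, 1, 19, 15, 13, 6, 17, 10, 3, 22, 9, 21, 5, 11, 20, 23]),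
  ([0, 1, 2, 9, 13, 15, 3, 17, 18, 6, 7, 11, 8, 16, 20, 19, 4, 10, 12, 5, 21, 14, 22, 23], [0, 1, 2, 6, 16, 19, 9, 10, 12, 3, 17, 11, 18, 4, 21, 5, 13, 7, 8, 15, 14, 20, 22, 23]),
  ([0, 4, 8, 1, 3, 7, 12, 22, 6, 13, 17, 19, 18, 9, 15, 14, 2, 5, 16, 20, 11, 10, 21, 23], [0, 3, 16, 4, 1, 17, 8, 5, 2, 13, 21, 20, 6, 9, 15, 14, 18, 10, 12, 11, 19, 22, 7, 23]),
  ([0, 2, 18, 4, 12, 17, 16, 21, 13, 3, 22, 14, 6, 1, 7, 10, 8, 20, 9, 15, 19, 5, 11, 23], [0, 13, 1, 9, 3, 21, 12, 14, 16, 18, 15, 22, 4, 8, 11, 19, 6, 5, 2, 20, 17, 7, 10, 23]),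
  ([0, 6, 13, 12, 8, 11, 4, 20, 9, 16, 17, 14, 18, 1, 22, 7, 3, 19, 2, 21, 5, 15, 10, 23], [0, 13, 18, 16, 6, 20, 1, 15, 4, 8, 22, 5, 3, 2, 11, 21, 9, 10, 12, 17, 7, 19, 14, 23]),
  ([0, 13, 3, 16, 18, 19, 2, 15, 1, 9, 22, 10, 6, 4, 21, 17, 12, 14, 8, 11, 20, 7, 5, 23], [0, 8, 6, 2, 13, 22, 12, 21, 18, 9, 11, 19, 16, 1, 17, 7, 3, 15, 4, 5, 20, 14, 10, 23]),
  ([0, 3, 12, 9, 6, 14, 8, 7, 4, 1, 21, 5, 13, 2, 11, 22, 16, 10, 18, 19, 15, 17, 20, 23], [0, 9, 13, 1, 8, 11, 4, 7, 6, 3, 17, 14, 2, 12, 5, 20, 16, 21, 18, 19, 22, 10, 15, 23]),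
  ([0, 12, 16, 1, 13, 10, 18, 17, 2, 4, 11, 20, 3, 8, 19, 21, 9, 5, 6, 14, 7, 22, 15, 23], [0, 3, 8, 12, 9, 17, 18, 20, 13, 16, 5, 10, 1, 4, 19, 22, 2, 7, 6, 14, 11, 15, 21, 23]),
  ([0, 16, 9, 4, 3, 5, 6, 22, 8, 2, 19, 15, 12, 18, 14, 11, 1, 20, 13, 10, 17, 21, 7, 23], [0, 16, 9, 4, 3, 5, 6, 22, 8, 2, 19, 15, 12, 18, 14, 11, 1, 20, 13, 10, 17, 21, 7, 23]),
  ([0, 9, 1, 2, 12, 20, 13, 21, 18, 8, 14, 7, 16, 6, 10, 19, 4, 15, 3, 5, 22, 11, 17, 23], [0, 2, 3, 18, 16, 19, 13, 11, 9, 1, 14, 21, 4, 6, 10, 17, 12, 22, 8, 15, 5, 7, 20, 23]),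
  ([0, 1, 4, 8, 16, 15, 3, 11, 6, 18, 10, 17, 9, 13, 5, 14, 2, 7, 12, 20, 21, 19, 22, 23], [0, 1, 16, 6, 2, 14, 8, 17, 3, 12, 10, 7, 18, 13, 15, 5, 4, 11, 9, 21, 19, 20, 22, 23]),
  ([0, 4, 2, 18, 9, 7, 12, 19, 13, 6, 5, 22, 1, 3, 20, 10, 8, 17, 16, 15, 11, 14, 21, 23], [0, 12, 2, 13, 1, 10, 9, 5, 16, 4, 15, 20, 6, 8, 21, 19, 18, 17, 3, 7, 14, 22, 11, 23]),
  ([0, 2, 8, 6, 1, 17, 16, 14, 3, 13, 20, 21, 4, 12, 15, 5, 18, 22, 9, 7, 19, 10, 11, 23], [0, 4, 1, 8, 12, 15, 3, 19, 2, 18, 21, 22, 13, 9, 7, 14, 6, 5, 16, 20, 10, 11, 17, 23]),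
  ([0, 8, 18, 13, 4, 22, 9, 10, 12, 3, 15, 11, 2, 16, 7, 20, 6, 21, 1, 17, 14, 5, 19, 23], [0, 18, 12, 9, 4, 21, 16, 14, 1, 6, 7, 11, 8, 3, 20, 10, 13, 19, 2, 22, 15, 17, 5, 23]),
  ([0, 18, 6, 3, 2, 21, 1, 5, 16, 12, 7, 19, 8, 9, 17, 15, 13, 11, 4, 22, 10, 20, 14, 23], [0, 6, 4, 3, 18, 7, 2, 10, 12, 13, 20, 17, 9, 16, 22, 15, 8, 14, 1, 11, 21, 5, 19, 23]),
  ([0, 13, 18, 16, 6, 20, 1, 15, 4, 8, 22, 5, 3, 2, 11, 21, 9, 10, 12, 17, 7, 19, 14, 23], [0, 6, 13, 12, 8, 11, 4, 20, 9, 16, 17, 14, 18, 1, 22, 7, 3, 19, 2, 21, 5, 15, 10, 23]),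
  ([0, 3, 6, 9, 13, 15, 4, 7, 2, 18, 21, 20, 12, 8, 19, 11, 1, 5, 16, 22, 17, 14, 10, 23], [0, 16, 8, 1, 6, 17, 2, 7, 13, 3, 22, 15, 12, 4, 21, 5, 18, 20, 9, 14, 11, 10, 19, 23]),
  ([0, 12, 13, 1, 3, 7, 2, 17, 8, 6, 11, 15, 16, 18, 14, 19, 4, 20, 9, 21, 22, 10, 5, 23], [0, 3, 6, 4, 16, 22, 9, 5, 8, 18, 21, 10, 1, 2, 14, 11, 12, 7, 13, 15, 17, 19, 20, 23]),
  ([0, 16, 3, 4, 12, 17, 8, 22, 18, 13, 19, 7, 9, 6, 10, 14, 2, 15, 1, 11, 21, 5, 20, 23], [0, 18, 16, 2, 3, 21, 13, 11, 6, 12, 14, 19, 4, 9, 15, 17, 1, 5, 8, 10, 22, 20, 7, 23]),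
  ([0, 9, 12, 2, 16, 22, 18, 21, 6, 3, 14, 17, 1, 13, 5, 10, 8, 7, 4, 19, 11, 20, 15, 23], [0, 12, 3, 9, 18, 14, 8, 17, 16, 1, 15, 20, 2, 13, 10, 22, 4, 11, 6, 19, 21, 7, 5, 23]),
  ([0, 1, 16, 8, 9, 21, 6, 11, 13, 12, 10, 22, 4, 3, 20, 5, 18, 17, 2, 14, 19, 15, 7, 23], [0, 1, 18, 13, 12, 15, 6, 22, 3, 4, 10, 7, 9, 8, 19, 21, 2, 17, 16, 20, 14, 5, 11, 23]),
  ([0, 4, 9, 18, 1, 11, 13, 19, 3, 16, 5, 21, 2, 12, 15, 20, 6, 22, 8, 10, 14, 7, 17, 23], [0, 4, 12, 8, 1, 10, 16, 21, 18, 2, 19, 5, 13, 6, 20, 14, 9, 22, 3, 7, 15, 11, 17, 23]),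
  ([0, 2, 1, 6, 4, 19, 3, 14, 12, 9, 20, 11, 8, 16, 7, 15, 13, 21, 18, 5, 10, 17, 22, 23], [0, 2, 1, 6, 4, 19, 3, 14, 12, 9, 20, 11, 8, 16, 7, 15, 13, 21, 18, 5, 10, 17, 22, 23]),
  ([0, 8, 4, 13, 2, 14, 12, 10, 16, 1, 15, 19, 18, 9, 17, 7, 3, 11, 6, 20, 5, 22, 21, 23], [0, 9, 4, 16, 2, 20, 18, 15, 1, 13, 7, 17, 6, 3, 5, 10, 8, 14, 12, 11, 19, 22, 21, 23]),
  ([0, 18, 2, 3, 8, 10, 16, 5, 9, 4, 7, 14, 6, 1, 22, 17, 12, 19, 13, 15, 20, 21, 11, 23], [0, 13, 2, 3, 9, 7, 12, 10, 4, 8, 5, 22, 16, 18, 11, 19, 6, 15, 1, 17, 20, 21, 14, 23]),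
  ([0, 6, 8, 12, 18, 5, 9, 20, 1, 2, 17, 10, 13, 4, 21, 22, 16, 14, 3, 7, 15, 11, 19, 23], [0, 8, 9, 18, 13, 5, 1, 19, 2, 6, 11, 21, 3, 12, 17, 20, 16, 10, 4, 22, 7, 14, 15, 23]),
  ([0, 18, 3, 8, 13, 15, 2, 19, 1, 6, 11, 7, 9, 12, 20, 17, 4, 14, 16, 22, 21, 10, 5, 23], [0, 8, 6, 2, 16, 22, 9, 11, 3, 12, 21, 10, 13, 4, 17, 5, 18, 15, 1, 7, 14, 20, 19, 23]),
  ([0, 6, 12, 18, 3, 7, 8, 14, 4, 13, 19, 17, 1, 16, 15, 22, 2, 10, 9, 21, 11, 5, 20, 23], [0, 12, 16, 4, 8, 21, 1, 5, 6, 18, 17, 20, 2, 9, 7, 14, 13, 11, 3, 10, 22, 19, 15, 23]),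
  ([0, 13, 16, 6, 12, 17, 18, 10, 2, 3, 14, 22, 4, 9, 7, 21, 8, 5, 1, 11, 19, 20, 15, 23], [0, 18, 8, 9, 12, 17, 3, 14, 16, 13, 7, 19, 4, 1, 10, 22, 2, 5, 6, 20, 21, 15, 11, 23]),
  ([0, 3, 9, 13, 16, 22, 6, 5, 8, 12, 10, 21, 2, 1, 17, 11, 18, 20, 4, 19, 14, 15, 7, 23], [0, 13, 12, 1, 18, 7, 6, 22, 8, 2, 10, 15, 9, 3, 20, 21, 4, 14, 16, 19, 17, 11, 5, 23]),
  ([0, 12, 1, 3, 9, 21, 13, 20, 18, 16, 5, 11, 8, 4, 22, 19, 6, 15, 2, 14, 10, 7, 17, 23], [0, 2, 18, 3, 13, 10, 16, 21, 12, 4, 20, 11, 1, 6, 19, 17, 9, 22, 8, 15, 7, 5, 14, 23]),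
  ([0, 16, 4, 12, 1, 11, 3, 15, 6, 9, 20, 19, 18, 2, 21, 14, 13, 7, 8, 10, 5, 17, 22, 23], [0, 4, 13, 6, 2, 20, 8, 17, 18, 9, 19, 5, 3, 16, 15, 7, 1, 21, 12, 11, 10, 14, 22, 23]),
  ([0, 9, 2, 16, 4, 19, 12, 7, 13, 1, 15, 14, 6, 8, 11, 10, 3, 17, 18, 5, 20, 22, 21, 23], [0, 9, 2, 16, 4, 19, 12, 7, 13, 1, 15, 14, 6, 8, 11, 10, 3, 17, 18, 5, 20, 22, 21, 23]),
  ([0, 1, 8, 9, 2, 14, 16, 17, 3, 4, 7, 10, 13, 18, 19, 5, 12, 22, 6, 20, 15, 21, 11, 23], [0, 1, 4, 8, 9, 15, 18, 10, 2, 3, 11, 22, 16, 12, 5, 20, 6, 7, 13, 14, 19, 21, 17, 23]),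
  ([0, 4, 18, 1, 8, 10, 9, 22, 12, 2, 17, 5, 3, 6, 14, 20, 16, 21, 13, 15, 7, 11, 19, 23], [0, 3, 9, 12, 1, 11, 13, 20, 4, 6, 5, 21, 8, 18, 14, 19, 16, 10, 2, 22, 15, 17, 7, 23]),
  ([0, 2, 6, 4, 18, 5, 1, 21, 16, 8, 22, 20, 12, 13, 10, 15, 9, 11, 3, 7, 17, 19, 14, 23], [0, 6, 1, 18, 3, 5, 2, 19, 9, 16, 14, 17, 12, 13, 22, 15, 8, 20, 4, 21, 11, 7, 10, 23]),
  ([0, 8, 13, 2, 6, 20, 4, 11, 9, 18, 21, 15, 16, 3, 5, 7, 1, 19, 12, 17, 22, 14, 10, 23], [0, 16, 3, 13, 6, 14, 4, 15, 1, 8, 22, 7, 18, 2, 21, 11, 12, 19, 9, 17, 5, 10, 20, 23]),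
  ([0, 3, 9, 6, 18, 19, 12, 10, 2, 13, 20, 21, 4, 16, 15, 22, 1, 5, 8, 11, 17, 14, 7, 23], [0, 16, 8, 1, 12, 17, 3, 22, 18, 2, 7, 19, 6, 9, 21, 14, 13, 20, 4, 5, 10, 11, 15, 23]),
  ([0, 12, 1, 13, 6, 14, 16, 5, 8, 3, 15, 11, 2, 9, 7, 21, 4, 20, 18, 19, 22, 10, 17, 23], [0, 2, 12, 9, 16, 7, 4, 14, 8, 13, 21, 11, 1, 3, 5, 10, 6, 22, 18, 19, 17, 15, 20, 23]),
  ([0, 16, 4, 3, 13, 10, 9, 20, 18, 12, 7, 19, 8, 1, 17, 11, 2, 15, 6, 14, 21, 5, 22, 23], [0, 13, 16, 3, 2, 21, 18, 10, 12, 6, 5, 15, 9, 4, 19, 17, 1, 14, 8, 11, 7, 20, 22, 23]),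
  ([0, 9, 2, 12, 3, 5, 1, 15, 6, 16, 17, 14, 18, 4, 22, 19, 8, 7, 13, 10, 11, 20, 21, 23], [0, 6, 2, 4, 13, 5, 8, 17, 16, 1, 19, 20, 3, 18, 11, 7, 9, 10, 12, 15, 21, 22, 14, 23]),
  ([0, 1, 8, 16, 12, 20, 4, 7, 13, 9, 22, 10, 6, 2, 21, 14, 18, 17, 3, 5, 19, 15, 11, 23], [0, 1, 13, 18, 6, 19, 12, 7, 2, 9, 11, 22, 4, 8, 15, 21, 3, 17, 16, 20, 5, 14, 10, 23]),
  ([0, 4, 18, 9, 16, 15, 2, 17, 3, 1, 21, 5, 13, 8, 11, 10, 6, 22, 12, 20, 14, 7, 19, 23], [0, 9, 6, 8, 1, 11, 16, 21, 13, 3, 15, 14, 18, 12, 20, 5, 4, 7, 2, 22, 19, 10, 17, 23]),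
  ([0, 2, 6, 1, 9, 7, 8, 22, 12, 4, 11, 20, 3, 18, 19, 5, 13, 21, 16, 15, 10, 17, 14, 23], [0, 3, 1, 12, 9, 15, 2, 5, 6, 4, 20, 10, 8, 16, 22, 19, 18, 21, 13, 14, 11, 17, 7, 23]),
  ([0, 8, 13, 4, 1, 17, 18, 21, 16, 2, 19, 15, 12, 6, 14, 20, 3, 11, 9, 7, 5, 22, 10, 23], [0, 4, 9, 16, 3, 20, 13, 19, 1, 18, 22, 17, 12, 2, 14, 11, 8, 5, 6, 10, 15, 7, 21, 23]),
  ([0, 18, 3, 2, 4, 22, 6, 11, 9, 8, 14, 7, 16, 13, 10, 15, 12, 19, 1, 17, 20, 21, 5, 23], [0, 18, 3, 2, 4, 22, 6, 11, 9, 8, 14, 7, 16, 13, 10, 15, 12, 19, 1, 17, 20, 21, 5, 23]),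
  ([0, 6, 12, 8, 2, 21, 13, 19, 1, 18, 10, 17, 9, 3, 5, 7, 16, 14, 4, 22, 15, 11, 20, 23], [0, 8, 4, 13, 18, 14, 1, 15, 3, 12, 10, 21, 2, 6, 17, 20, 16, 11, 9, 7, 22, 5, 19, 23]),
  ([0, 13, 16, 18, 8, 11, 3, 14, 4, 6, 5, 22, 1, 12, 20, 17, 9, 10, 2, 21, 7, 19, 15, 23], [0, 12, 18, 6, 8, 10, 9, 20, 4, 16, 17, 5, 13, 1, 7, 22, 2, 15, 3, 21, 14, 19, 11, 23]),
  ([0, 9, 4, 13, 3, 10, 16, 14, 12, 18, 15, 17, 1, 8, 19, 11, 2, 7, 6, 20, 22, 5, 21, 23], [0, 12, 16, 4, 2, 21, 18, 17, 13, 1, 5, 15, 8, 3, 7, 10, 6, 11, 9, 14, 19, 22, 20, 23]),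
  ([0, 1, 2, 3, 12, 5, 9, 10, 16, 6, 7, 22, 4, 18, 14, 19, 8, 17, 13, 15, 21, 20, 11, 23], [0, 1, 2, 3, 12, 5, 9, 10, 16, 6, 7, 22, 4, 18, 14, 19, 8, 17, 13, 15, 21, 20, 11, 23]),
  ([0, 4, 8, 12, 16, 20, 1, 5, 9, 13, 17, 21, 2, 6, 10, 14, 18, 22, 3, 7, 11, 15, 19, 23], [0, 6, 12, 18, 1, 7, 13, 19, 2, 8, 14, 20, 3, 9, 15, 21, 4, 10, 16, 22, 5, 11, 17, 23]),
  ([0, 2, 18, 16, 9, 15, 4, 20, 1, 3, 22, 11, 8, 13, 5, 10, 6, 21, 12, 17, 19, 7, 14, 23], [0, 8, 1, 9, 6, 14, 16, 21, 12, 4, 15, 11, 18, 13, 22, 5, 3, 19, 2, 20, 7, 17, 10, 23]),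
  ([0, 8, 6, 9, 1, 7, 2, 15, 4, 12, 21, 19, 18, 3, 20, 5, 13, 11, 16, 22, 14, 17, 10, 23], [0, 4, 6, 13, 8, 15, 2, 5, 1, 3, 22, 17, 9, 16, 20, 7, 18, 21, 12, 11, 14, 10, 19, 23]),
  ([0, 18, 13, 1, 4, 17, 8, 7, 2, 16, 11, 14, 6, 12, 15, 20, 3, 19, 9, 21, 10, 22, 5, 23], [0, 3, 8, 16, 4, 22, 12, 7, 6, 18, 20, 10, 13, 2, 11, 14, 9, 5, 1, 17, 15, 19, 21, 23]),
  ([0, 6, 3, 4, 2, 22, 18, 17, 8, 9, 19, 10, 13, 16, 7, 15, 12, 14, 1, 11, 5, 21, 20, 23], [0, 18, 4, 2, 3, 20, 1, 14, 8, 9, 11, 19, 16, 12, 17, 15, 13, 7, 6, 10, 22, 21, 5, 23]),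
  ([0, 13, 12, 2, 8, 21, 6, 22, 18, 1, 14, 5, 3, 9, 17, 7, 16, 10, 4, 19, 20, 11, 15, 23], [0, 9, 3, 12, 18, 11, 6, 15, 4, 13, 17, 21, 2, 1, 10, 22, 16, 14, 8, 19, 20, 5, 7, 23]),
  ([0, 3, 16, 8, 18, 11, 13, 21, 6, 4, 10, 20, 12, 1, 22, 17, 9, 5, 2, 14, 15, 19, 7, 23], [0, 13, 18, 1, 9, 17, 8, 22, 3, 16, 10, 5, 12, 6, 19, 20, 2, 15, 4, 21, 11, 7, 14, 23]),
  ([0, 12, 9, 18, 6, 19, 3, 11, 13, 2, 5, 15, 16, 4, 21, 22, 1, 20, 8, 10, 7, 14, 17, 23], [0, 16, 9, 6, 13, 10, 4, 20, 18, 2, 19, 7, 1, 8, 21, 11, 12, 22, 3, 5, 17, 14, 15, 23]),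
  ([0, 16, 1, 6, 13, 14, 12, 19, 3, 8, 20, 7, 9, 2, 11, 21, 4, 15, 18, 5, 17, 10, 22, 23], [0, 2, 13, 8, 16, 19, 3, 11, 9, 12, 21, 14, 6, 4, 5, 17, 1, 20, 18, 7, 10, 15, 22, 23]),
  ([0, 4, 1, 18, 9, 14, 8, 5, 16, 3, 19, 22, 2, 6, 10, 20, 12, 21, 13, 15, 11, 7, 17, 23], [0, 2, 12, 9, 1, 7, 13, 21, 6, 4, 14, 20, 16, 18, 5, 19, 8, 22, 3, 10, 15, 17, 11, 23]),
  ([0, 2, 4, 6, 1, 10, 18, 20, 9, 12, 14, 21, 8, 13, 5, 15, 16, 11, 3, 7, 19, 17, 22, 23], [0, 4, 1, 18, 2, 14, 3, 19, 12, 8, 5, 17, 9, 13, 10, 15, 16, 21, 6, 20, 7, 11, 22, 23]),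
  ([0, 8, 2, 13, 4, 5, 6, 15, 1, 16, 10, 11, 18, 3, 20, 7, 9, 19, 12, 17, 14, 22, 21, 23], [0, 8, 2, 13, 4, 5, 6, 15, 1, 16, 10, 11, 18, 3, 20, 7, 9, 19, 12, 17, 14, 22, 21, 23]),
  ([0, 18, 8, 3, 2, 20, 13, 7, 4, 9, 5, 19, 6, 12, 15, 17, 1, 14, 16, 22, 10, 21, 11, 23], [0, 16, 4, 3, 8, 10, 12, 7, 2, 9, 20, 22, 13, 6, 17, 14, 18, 15, 1, 11, 5, 21, 19, 23]),
  ([0, 6, 18, 12, 8, 15, 3, 17, 2, 1, 20, 14, 13, 16, 7, 22, 4, 10, 9, 21, 5, 11, 19, 23], [0, 9, 8, 6, 16, 20, 1, 14, 4, 18, 17, 21, 3, 12, 11, 5, 13, 7, 2, 22, 10, 19, 15, 23]),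
  ([0, 13, 6, 16, 18, 7, 12, 22, 8, 4, 15, 10, 3, 9, 17, 21, 2, 5, 1, 11, 20, 19, 14, 23], [0, 18, 16, 12, 9, 17, 2, 5, 8, 13, 11, 19, 6, 1, 22, 10, 3, 14, 4, 21, 20, 15, 7, 23]),
  ([0, 3, 13, 9, 6, 17, 16, 21, 18, 2, 7, 5, 12, 1, 22, 11, 8, 20, 4, 19, 15, 14, 10, 23], [0, 13, 9, 1, 18, 11, 4, 10, 16, 3, 22, 15, 12, 2, 21, 20, 6, 5, 8, 19, 17, 7, 14, 23]),
  ([0, 12, 3, 1, 13, 22, 9, 11, 6, 8, 17, 20, 16, 4, 21, 19, 18, 15, 2, 14, 7, 10, 5, 23], [0, 3, 18, 2, 13, 22, 8, 20, 9, 6, 21, 7, 1, 4, 19, 17, 12, 10, 16, 15, 11, 14, 5, 23]),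
  ([0, 16, 12, 4, 3, 21, 1, 19, 13, 18, 22, 15, 9, 2, 11, 14, 6, 7, 8, 10, 17, 5, 20, 23], [0, 6, 13, 4, 3, 21, 16, 17, 18, 12, 19, 14, 2, 8, 15, 11, 1, 20, 9, 7, 22, 5, 10, 23]),
  ([0, 9, 16, 2, 12, 11, 4, 14, 3, 6, 21, 7, 1, 8, 19, 10, 13, 17, 18, 5, 22, 20, 15, 23], [0, 12, 3, 8, 6, 19, 9, 11, 13, 1, 15, 5, 4, 16, 7, 22, 2, 17, 18, 14, 21, 10, 20, 23]),
  ([0, 1, 9, 8, 16, 19, 2, 10, 12, 13, 11, 17, 4, 18, 14, 5, 3, 22, 6, 20, 21, 15, 7, 23], [0, 1, 6, 16, 12, 15, 18, 22, 3, 2, 7, 10, 8, 9, 14, 21, 4, 11, 13, 5, 19, 20, 17, 23]),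
  ([0, 16, 18, 12, 4, 17, 2, 15, 3, 13, 20, 7, 1, 6, 14, 10, 8, 22, 9, 21, 11, 5, 19, 23], [0, 12, 6, 8, 4, 21, 13, 11, 16, 18, 15, 20, 3, 9, 14, 7, 1, 5, 2, 22, 10, 19, 17, 23]),
  ([0, 18, 9, 8, 3, 10, 12, 19, 2, 4, 11, 14, 13, 1, 17, 22, 16, 5, 6, 20, 15, 21, 7, 23], [0, 13, 8, 4, 9, 17, 18, 22, 3, 2, 5, 10, 6, 12, 11, 20, 16, 14, 1, 7, 19, 21, 15, 23]),
  ([0, 9, 6, 16, 2, 22, 8, 7, 12, 3, 15, 17, 4, 13, 10, 5, 18, 21, 1, 11, 19, 20, 14, 23], [0, 18, 4, 9, 12, 15, 2, 7, 6, 1, 14, 19, 8, 13, 22, 10, 3, 11, 16, 20, 21, 17, 5, 23]),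
  ([0, 6, 1, 18, 12, 5, 16, 14, 8, 2, 19, 10, 3, 4, 22, 21, 9, 20, 13, 15, 7, 11, 17, 23], [0, 2, 9, 12, 13, 5, 1, 20, 8, 16, 11, 21, 4, 18, 7, 19, 6, 22, 3, 10, 17, 15, 14, 23]),
  ([0, 1, 13, 9, 8, 21, 18, 17, 16, 12, 7, 22, 2, 3, 5, 20, 6, 11, 4, 19, 14, 15, 10, 23], [0, 1, 12, 13, 18, 14, 16, 10, 4, 3, 22, 17, 9, 2, 20, 21, 8, 7, 6, 19, 15, 5, 11, 23]),
  ([0, 13, 4, 6, 16, 20, 9, 10, 18, 8, 14, 5, 12, 2, 21, 11, 1, 15, 3, 7, 17, 19, 22, 23], [0, 16, 13, 18, 2, 11, 3, 19, 9, 6, 7, 15, 12, 1, 10, 17, 4, 20, 8, 21, 5, 14, 22, 23]),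
  ([0, 4, 3, 1, 18, 11, 6, 22, 9, 16, 17, 21, 8, 12, 20, 15, 13, 19, 2, 14, 10, 7, 5, 23], [0, 3, 18, 2, 1, 22, 6, 21, 12, 8, 20, 5, 13, 16, 19, 15, 9, 10, 4, 17, 14, 11, 7, 23]),
  ([0, 3, 2, 13, 9, 15, 1, 5, 6, 18, 10, 20, 16, 8, 11, 19, 4, 7, 12, 17, 22, 14, 21, 23], [0, 6, 2, 1, 16, 7, 8, 17, 13, 4, 10, 14, 18, 3, 21, 5, 12, 19, 9, 15, 11, 22, 20, 23]),
  ([0, 2, 12, 4, 6, 19, 13, 21, 1, 9, 22, 11, 18, 16, 15, 7, 3, 14, 8, 10, 5, 17, 20, 23], [0, 8, 1, 16, 3, 20, 4, 15, 18, 9, 19, 11, 2, 6, 17, 14, 13, 21, 12, 5, 22, 7, 10, 23]),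
  ([0, 12, 8, 3, 1, 7, 4, 20, 13, 6, 5, 15, 9, 18, 19, 14, 2, 17, 16, 22, 21, 10, 11, 23], [0, 4, 16, 3, 6, 10, 9, 5, 2, 12, 21, 22, 1, 8, 15, 11, 18, 17, 13, 14, 7, 20, 19, 23]),
  ([0, 8, 16, 2, 13, 14, 3, 11, 4, 1, 21, 19, 6, 9, 7, 17, 12, 10, 18, 5, 20, 22, 15, 23], [0, 9, 3, 6, 8, 19, 12, 14, 1, 13, 17, 7, 16, 4, 5, 22, 2, 15, 18, 11, 20, 10, 21, 23]),
  ([0, 6, 9, 8, 2, 11, 16, 10, 4, 3, 19, 17, 12, 18, 7, 5, 13, 20, 1, 22, 15, 21, 14, 23], [0, 18, 4, 9, 8, 15, 1, 14, 3, 2, 7, 5, 12, 16, 22, 20, 6, 11, 13, 10, 17, 21, 19, 23]),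
  ([0, 1, 6, 16, 12, 15, 18, 22, 3, 2, 7, 10, 8, 9, 14, 21, 4, 11, 13, 5, 19, 20, 17, 23], [0, 1, 9, 8, 16, 19, 2, 10, 12, 13, 11, 17, 4, 18, 14, 5, 3, 22, 6, 20, 21, 15, 7, 23]),
  ([0, 13, 1, 18, 8, 19, 9, 5, 2, 12, 14, 22, 16, 6, 17, 20, 3, 15, 4, 21, 7, 11, 10, 23], [0, 2, 8, 16, 18, 7, 13, 20, 4, 6, 22, 21, 9, 1, 10, 17, 12, 14, 3, 5, 15, 19, 11, 23]),
  ([0, 4, 13, 9, 16, 7, 6, 21, 12, 8, 17, 5, 18, 1, 10, 11, 2, 19, 3, 20, 14, 15, 22, 23], [0, 13, 16, 18, 1, 11, 6, 5, 9, 3, 14, 15, 8, 2, 20, 21, 4, 10, 12, 17, 19, 7, 22, 23]),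
  ([0, 3, 4, 6, 18, 14, 1, 20, 8, 16, 10, 21, 9, 13, 22, 15, 12, 7, 2, 11, 17, 19, 5, 23], [0, 6, 18, 1, 2, 22, 3, 17, 8, 12, 10, 19, 16, 13, 5, 15, 9, 20, 4, 21, 7, 11, 14, 23]),
  ([0, 2, 3, 1, 9, 17, 13, 11, 16, 18, 22, 20, 6, 4, 5, 19, 8, 14, 12, 15, 10, 7, 21, 23], [0, 3, 1, 2, 13, 14, 12, 21, 16, 4, 20, 7, 18, 6, 17, 19, 8, 5, 9, 15, 11, 22, 10, 23]),
  ([0, 12, 2, 13, 6, 10, 4, 15, 18, 9, 5, 11, 1, 3, 21, 7, 16, 17, 8, 19, 22, 14, 20, 23], [0, 12, 2, 13, 6, 10, 4, 15, 18, 9, 5, 11, 1, 3, 21, 7, 16, 17, 8, 19, 22, 14, 20, 23]),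
  ([0, 8, 12, 4, 1, 22, 3, 19, 9, 6, 21, 15, 13, 2, 20, 14, 18, 10, 16, 7, 5, 17, 11, 23], [0, 4, 13, 6, 3, 20, 9, 19, 1, 8, 17, 22, 2, 12, 15, 11, 18, 21, 16, 7, 14, 10, 5, 23]),
  ([0, 16, 8, 3, 13, 5, 2, 7, 6, 1, 20, 19, 4, 12, 11, 17, 9, 22, 18, 14, 21, 10, 15, 23], [0, 9, 6, 3, 12, 5, 8, 7, 2, 16, 21, 14, 13, 4, 19, 22, 1, 15, 18, 11, 10, 20, 17, 23]),
  ([0, 18, 16, 2, 4, 21, 12, 14, 1, 13, 11, 7, 3, 8, 15, 10, 6, 5, 9, 17, 20, 22, 19, 23], [0, 8, 3, 12, 4, 17, 16, 11, 13, 18, 15, 10, 6, 9, 7, 14, 2, 19, 1, 22, 20, 5, 21, 23]),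
  ([0, 9, 18, 12, 3, 20, 8, 17, 13, 4, 15, 14, 2, 16, 19, 22, 1, 21, 6, 10, 11, 5, 7, 23], [0, 16, 12, 4, 9, 21, 18, 22, 6, 1, 19, 20, 3, 8, 11, 10, 13, 7, 2, 14, 5, 17, 15, 23]),
  ([0, 18, 1, 13, 16, 15, 6, 5, 2, 4, 14, 11, 8, 9, 17, 21, 3, 19, 12, 20, 10, 22, 7, 23], [0, 2, 8, 16, 9, 7, 6, 22, 12, 13, 20, 11, 18, 3, 10, 5, 4, 14, 1, 17, 19, 15, 21, 23]),
  ([0, 9, 13, 4, 18, 19, 1, 21, 12, 3, 17, 15, 16, 6, 10, 20, 2, 7, 8, 11, 22, 5, 14, 23], [0, 6, 16, 9, 3, 21, 13, 17, 18, 1, 14, 19, 8, 2, 22, 11, 12, 10, 4, 5, 15, 7, 20, 23]),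
  ([0, 6, 4, 3, 9, 7, 13, 20, 8, 2, 10, 19, 18, 1, 22, 11, 12, 14, 16, 15, 5, 21, 17, 23], [0, 13, 9, 3, 2, 20, 1, 5, 8, 4, 10, 15, 16, 6, 17, 19, 18, 22, 12, 11, 7, 21, 14, 23]),
  ([0, 1, 3, 2, 6, 14, 4, 11, 16, 12, 22, 7, 9, 13, 5, 15, 8, 17, 18, 19, 21, 20, 10, 23], [0, 1, 3, 2, 6, 14, 4, 11, 16, 12, 22, 7, 9, 13, 5, 15, 8, 17, 18, 19, 21, 20, 10, 23]),
  ([0, 13, 2, 12, 1, 17, 3, 15, 18, 8, 5, 14, 6, 4, 21, 19, 16, 10, 9, 7, 20, 11, 22, 23], [0, 4, 2, 6, 13, 10, 12, 19, 9, 18, 17, 21, 3, 1, 11, 7, 16, 5, 8, 15, 20, 14, 22, 23]),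
  ([0, 4, 12, 8, 13, 10, 2, 19, 9, 16, 21, 17, 1, 3, 20, 7, 18, 22, 6, 14, 11, 15, 5, 23], [0, 12, 6, 13, 1, 22, 18, 15, 3, 8, 5, 20, 2, 4, 19, 21, 9, 11, 16, 7, 14, 10, 17, 23]),
  ([0, 3, 8, 16, 4, 22, 12, 7, 6, 18, 20, 10, 13, 2, 11, 14, 9, 5, 1, 17, 15, 19, 21, 23], [0, 18, 13, 1, 4, 17, 8, 7, 2, 16, 11, 14, 6, 12, 15, 20, 3, 19, 9, 21, 10, 22, 5, 23]),
  ([0, 2, 16, 18, 3, 5, 8, 14, 1, 9, 11, 22, 4, 12, 15, 17, 6, 21, 13, 10, 19, 7, 20, 23], [0, 8, 1, 4, 12, 5, 16, 21, 6, 9, 19, 10, 13, 18, 7, 14, 2, 15, 3, 20, 22, 17, 11, 23]),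
  ([0, 12, 18, 9, 2, 21, 16, 17, 13, 6, 15, 5, 3, 8, 19, 10, 1, 20, 4, 22, 7, 14, 11, 23], [0, 16, 4, 12, 18, 11, 9, 20, 13, 3, 15, 22, 1, 8, 21, 10, 6, 7, 2, 14, 17, 5, 19, 23]),
  ([0, 8, 9, 6, 12, 20, 18, 10, 4, 1, 19, 21, 2, 16, 7, 22, 13, 11, 3, 5, 14, 17, 15, 23], [0, 9, 12, 18, 8, 19, 3, 14, 1, 2, 7, 17, 4, 16, 20, 22, 13, 21, 6, 10, 5, 11, 15, 23]),
  ([0, 16, 6, 1, 8, 11, 9, 22, 3, 13, 7, 20, 12, 18, 14, 5, 4, 15, 2, 21, 17, 10, 19, 23], [0, 3, 18, 8, 16, 15, 2, 10, 4, 6, 21, 5, 12, 9, 14, 17, 1, 20, 13, 22, 11, 19, 7, 23]),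
  ([0, 9, 12, 3, 6, 10, 18, 21, 16, 2, 7, 15, 13, 1, 11, 22, 4, 14, 8, 19, 5, 20, 17, 23], [0, 13, 9, 3, 16, 20, 4, 10, 18, 1, 5, 14, 2, 12, 17, 11, 8, 22, 6, 19, 21, 7, 15, 23]),
  ([0, 6, 8, 2, 1, 22, 9, 20, 18, 12, 14, 19, 4, 13, 15, 5, 3, 17, 16, 7, 21, 11, 10, 23], [0, 4, 3, 16, 12, 15, 1, 19, 2, 6, 22, 21, 9, 13, 10, 14, 18, 17, 8, 11, 7, 20, 5, 23]),
  ([0, 1, 16, 12, 13, 5, 6, 11, 9, 8, 17, 7, 3, 4, 19, 21, 2, 10, 18, 14, 20, 15, 22, 23], [0, 1, 16, 12, 13, 5, 6, 11, 9, 8, 17, 7, 3, 4, 19, 21, 2, 10, 18, 14, 20, 15, 22, 23]),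
  ([0, 13, 18, 8, 4, 21, 1, 15, 6, 16, 10, 14, 2, 3, 7, 20, 12, 22, 9, 17, 11, 19, 5, 23], [0, 6, 12, 13, 4, 22, 8, 14, 3, 18, 10, 20, 16, 1, 11, 7, 9, 19, 2, 21, 15, 5, 17, 23]),
  ([0, 4, 9, 16, 3, 20, 13, 19, 1, 18, 22, 17, 12, 2, 14, 11, 8, 5, 6, 10, 15, 7, 21, 23], [0, 8, 13, 4, 1, 17, 18, 21, 16, 2, 19, 15, 12, 6, 14, 20, 3, 11, 9, 7, 5, 22, 10, 23]),
  ([0, 3, 6, 18, 2, 11, 4, 7, 13, 9, 5, 10, 8, 12, 17, 15, 16, 21, 1, 22, 19, 14, 20, 23], [0, 18, 4, 1, 6, 10, 2, 7, 12, 9, 11, 5, 13, 8, 21, 15, 16, 14, 3, 20, 22, 17, 19, 23]),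
  ([0, 2, 1, 9, 12, 15, 3, 14, 4, 6, 21, 22, 16, 8, 10, 19, 18, 20, 13, 5, 7, 17, 11, 23], [0, 2, 1, 6, 8, 19, 9, 20, 13, 3, 14, 22, 4, 18, 7, 5, 12, 21, 16, 15, 17, 10, 11, 23]),
  ([0, 12, 13, 6, 8, 19, 2, 17, 3, 1, 20, 5, 18, 16, 22, 7, 9, 11, 4, 21, 14, 10, 15, 23], [0, 9, 6, 8, 18, 11, 3, 15, 4, 16, 21, 17, 1, 2, 20, 22, 13, 7, 12, 5, 10, 19, 14, 23]),
  ([0, 8, 4, 1, 16, 7, 12, 10, 2, 13, 11, 21, 9, 18, 5, 14, 6, 15, 3, 20, 17, 22, 19, 23], [0, 3, 8, 18, 2, 14, 16, 5, 1, 12, 7, 10, 6, 9, 15, 17, 4, 20, 13, 22, 19, 11, 21, 23]),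
  ([0, 16, 3, 13, 18, 14, 8, 22, 12, 4, 15, 20, 6, 9, 21, 17, 1, 19, 2, 11, 10, 5, 7, 23], [0, 16, 18, 2, 9, 21, 12, 22, 6, 13, 20, 19, 8, 3, 5, 10, 1, 15, 4, 17, 11, 14, 7, 23]),
  ([0, 18, 2, 4, 9, 17, 16, 5, 8, 3, 19, 11, 1, 6, 20, 10, 13, 7, 12, 15, 22, 21, 14, 23], [0, 12, 2, 9, 3, 7, 13, 17, 8, 4, 15, 11, 18, 16, 22, 19, 6, 5, 1, 10, 14, 21, 20, 23]),
  ([0, 1, 8, 4, 18, 5, 9, 22, 6, 16, 17, 10, 3, 12, 15, 20, 2, 7, 13, 14, 21, 19, 11, 23], [0, 1, 16, 12, 3, 5, 8, 17, 2, 6, 11, 22, 13, 18, 19, 14, 9, 10, 4, 21, 15, 20, 7, 23]),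
  ([0, 13, 16, 3, 9, 21, 6, 5, 1, 18, 10, 22, 2, 8, 19, 11, 12, 14, 4, 17, 20, 7, 15, 23], [0, 8, 12, 3, 18, 7, 6, 21, 13, 4, 10, 15, 16, 1, 17, 22, 2, 19, 9, 14, 20, 5, 11, 23]),
  ([0, 4, 18, 2, 6, 20, 1, 21, 13, 9, 22, 5, 12, 16, 7, 15, 8, 17, 3, 10, 11, 14, 19, 23], [0, 6, 3, 18, 1, 11, 4, 14, 16, 9, 19, 20, 12, 8, 21, 15, 13, 17, 2, 22, 5, 7, 10, 23]),
  ([0, 3, 9, 12, 1, 11, 13, 20, 4, 6, 5, 21, 8, 18, 14, 19, 16, 10, 2, 22, 15, 17, 7, 23], [0, 4, 18, 1, 8, 10, 9, 22, 12, 2, 17, 5, 3, 6, 14, 20, 16, 21, 13, 15, 7, 11, 19, 23]),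
  ([0, 2, 6, 8, 13, 15, 4, 11, 3, 1, 21, 20, 16, 9, 17, 7, 18, 22, 12, 5, 19, 10, 14, 23], [0, 9, 1, 8, 6, 19, 2, 15, 3, 13, 21, 7, 18, 4, 22, 5, 12, 14, 16, 20, 11, 10, 17, 23]),
  ([0, 12, 1, 16, 4, 19, 3, 15, 2, 13, 20, 11, 18, 6, 10, 14, 9, 5, 8, 21, 7, 22, 17, 23], [0, 2, 8, 6, 4, 17, 13, 20, 18, 16, 14, 11, 1, 9, 15, 7, 3, 22, 12, 5, 10, 19, 21, 23]),
  ([0, 8, 13, 18, 3, 7, 2, 19, 12, 4, 11, 15, 9, 1, 22, 17, 6, 21, 16, 20, 14, 5, 10, 23], [0, 13, 6, 4, 9, 21, 16, 5, 1, 12, 22, 10, 8, 2, 20, 11, 18, 15, 3, 7, 19, 17, 14, 23]),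
  ([0, 16, 4, 9, 2, 14, 12, 7, 8, 3, 15, 19, 6, 13, 5, 10, 1, 20, 18, 11, 17, 21, 22, 23], [0, 16, 4, 9, 2, 14, 12, 7, 8, 3, 15, 19, 6, 13, 5, 10, 1, 20, 18, 11, 17, 21, 22, 23]),
  ([0, 18, 3, 6, 12, 17, 8, 14, 16, 2, 19, 7, 1, 4, 21, 22, 13, 11, 9, 15, 10, 20, 5, 23], [0, 12, 9, 2, 13, 22, 3, 11, 6, 18, 20, 17, 4, 16, 7, 19, 8, 5, 1, 10, 21, 14, 15, 23]),
  ([0, 9, 2, 1, 8, 10, 16, 17, 18, 12, 7, 14, 13, 3, 20, 5, 4, 15, 6, 19, 22, 11, 21, 23], [0, 3, 2, 13, 16, 15, 18, 10, 4, 1, 5, 21, 9, 12, 11, 17, 6, 7, 8, 19, 14, 22, 20, 23]),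
  ([0, 6, 12, 13, 16, 22, 18, 10, 9, 8, 14, 17, 4, 2, 11, 21, 3, 19, 1, 7, 5, 15, 20, 23], [0, 18, 13, 16, 12, 20, 1, 19, 9, 8, 7, 14, 2, 3, 10, 21, 4, 11, 6, 17, 22, 15, 5, 23]),
  ([0, 12, 13, 2, 9, 21, 1, 20, 18, 6, 11, 5, 4, 8, 10, 19, 16, 17, 3, 7, 22, 14, 15, 23], [0, 6, 3, 18, 12, 11, 9, 19, 13, 4, 14, 10, 1, 2, 21, 22, 16, 17, 8, 15, 7, 5, 20, 23]),
  ([0, 8, 4, 12, 6, 20, 13, 11, 9, 1, 15, 21, 3, 16, 22, 7, 18, 10, 2, 14, 5, 17, 19, 23], [0, 9, 18, 12, 2, 20, 4, 15, 1, 8, 17, 7, 3, 6, 19, 10, 13, 21, 16, 22, 5, 11, 14, 23]),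
  ([0, 16, 3, 8, 1, 11, 4, 15, 6, 13, 19, 20, 2, 18, 5, 14, 9, 22, 12, 17, 21, 10, 7, 23], [0, 4, 12, 2, 6, 14, 8, 22, 3, 16, 21, 5, 18, 9, 15, 7, 1, 19, 13, 10, 11, 20, 17, 23]),
  ([0, 18, 2, 16, 13, 15, 3, 19, 1, 4, 7, 11, 12, 9, 21, 17, 6, 5, 8, 10, 20, 22, 14, 23], [0, 8, 2, 6, 9, 17, 16, 10, 18, 13, 19, 11, 12, 4, 22, 5, 3, 15, 1, 7, 20, 14, 21, 23]),
  ([0, 9, 12, 18, 4, 19, 2, 7, 13, 3, 14, 15, 8, 6, 20, 10, 1, 21, 16, 22, 11, 5, 17, 23], [0, 16, 6, 9, 4, 21, 13, 7, 12, 1, 15, 20, 2, 8, 10, 11, 18, 22, 3, 5, 14, 17, 19, 23]),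
  ([0, 6, 8, 9, 3, 7, 12, 14, 4, 2, 17, 19, 16, 1, 11, 22, 13, 20, 18, 5, 15, 21, 10, 23], [0, 13, 9, 4, 8, 19, 1, 5, 2, 3, 22, 14, 6, 16, 7, 20, 12, 10, 18, 11, 17, 21, 15, 23]),
  ([0, 1, 16, 6, 2, 14, 8, 17, 3, 12, 10, 7, 18, 13, 15, 5, 4, 11, 9, 21, 19, 20, 22, 23], [0, 1, 4, 8, 16, 15, 3, 11, 6, 18, 10, 17, 9, 13, 5, 14, 2, 7, 12, 20, 21, 19, 22, 23]),
  ([0, 13, 18, 1, 12, 17, 16, 10, 2, 8, 22, 14, 9, 4, 19, 21, 3, 15, 6, 20, 7, 11, 5, 23], [0, 3, 8, 16, 13, 22, 18, 20, 9, 12, 7, 21, 4, 1, 11, 17, 6, 5, 2, 14, 19, 15, 10, 23]),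
  ([0, 4, 9, 13, 8, 10, 18, 22, 12, 16, 5, 17, 6, 3, 7, 20, 2, 19, 1, 11, 14, 15, 21, 23], [0, 18, 16, 13, 1, 10, 12, 14, 4, 2, 5, 19, 8, 3, 20, 21, 9, 11, 6, 17, 15, 22, 7, 23]),
  ([0, 3, 6, 4, 16, 22, 9, 5, 8, 18, 21, 10, 1, 2, 14, 11, 12, 7, 13, 15, 17, 19, 20, 23], [0, 12, 13, 1, 3, 7, 2, 17, 8, 6, 11, 15, 16, 18, 14, 19, 4, 20, 9, 21, 22, 10, 5, 23]),
  ([0, 2, 1, 3, 18, 5, 6, 21, 16, 9, 20, 22, 13, 12, 17, 15, 8, 14, 4, 19, 10, 7, 11, 23], [0, 2, 1, 3, 18, 5, 6, 21, 16, 9, 20, 22, 13, 12, 17, 15, 8, 14, 4, 19, 10, 7, 11, 23]),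
  ([0, 8, 3, 16, 1, 22, 12, 19, 9, 18, 15, 21, 2, 13, 5, 14, 6, 11, 4, 17, 20, 7, 10, 23], [0, 4, 12, 2, 18, 14, 16, 21, 1, 8, 22, 17, 6, 13, 15, 10, 3, 19, 9, 7, 20, 11, 5, 23]),
  ([0, 16, 2, 18, 13, 5, 8, 7, 6, 9, 19, 20, 12, 4, 21, 17, 1, 15, 3, 10, 11, 14, 22, 23], [0, 16, 2, 18, 13, 5, 8, 7, 6, 9, 19, 20, 12, 4, 21, 17, 1, 15, 3, 10, 11, 14, 22, 23]),
  ([0, 18, 12, 9, 4, 21, 16, 14, 1, 6, 7, 11, 8, 3, 20, 10, 13, 19, 2, 22, 15, 17, 5, 23], [0, 8, 18, 13, 4, 22, 9, 10, 12, 3, 15, 11, 2, 16, 7, 20, 6, 21, 1, 17, 14, 5, 19, 23]),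
  ([0, 9, 8, 6, 3, 20, 18, 17, 13, 1, 14, 15, 16, 2, 11, 22, 4, 7, 12, 5, 19, 10, 21, 23], [0, 9, 13, 4, 16, 19, 3, 17, 2, 1, 21, 14, 18, 8, 10, 11, 12, 7, 6, 20, 5, 22, 15, 23]),
  ([0, 6, 16, 1, 2, 11, 9, 10, 4, 13, 17, 19, 18, 12, 15, 5, 3, 14, 8, 21, 7, 22, 20, 23], [0, 3, 4, 16, 8, 15, 1, 20, 18, 6, 7, 5, 13, 9, 17, 14, 2, 10, 12, 11, 22, 19, 21, 23]),
  ([0, 1, 18, 13, 12, 15, 6, 22, 3, 4, 10, 7, 9, 8, 19, 21, 2, 17, 16, 20, 14, 5, 11, 23], [0, 1, 16, 8, 9, 21, 6, 11, 13, 12, 10, 22, 4, 3, 20, 5, 18, 17, 2, 14, 19, 15, 7, 23]),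
  ([0, 13, 9, 4, 8, 19, 1, 5, 2, 3, 22, 14, 6, 16, 7, 20, 12, 10, 18, 11, 17, 21, 15, 23], [0, 6, 8, 9, 3, 7, 12, 14, 4, 2, 17, 19, 16, 1, 11, 22, 13, 20, 18, 5, 15, 21, 10, 23]),
  ([0, 4, 6, 3, 16, 7, 13, 21, 12, 2, 5, 17, 1, 18, 14, 11, 8, 22, 9, 15, 10, 20, 19, 23], [0, 12, 9, 3, 1, 10, 2, 5, 16, 18, 20, 15, 8, 6, 14, 19, 4, 11, 13, 22, 21, 7, 17, 23]),
  ([0, 3, 1, 2, 18, 14, 4, 20, 8, 12, 21, 10, 13, 9, 17, 15, 16, 5, 6, 19, 22, 11, 7, 23], [0, 2, 3, 1, 6, 17, 18, 22, 8, 13, 11, 21, 9, 12, 5, 15, 16, 14, 4, 19, 7, 10, 20, 23]),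
  ([0, 2, 13, 12, 9, 17, 3, 11, 16, 8, 20, 22, 4, 6, 10, 19, 18, 21, 1, 7, 5, 15, 14, 23], [0, 18, 1, 6, 12, 20, 13, 19, 9, 4, 14, 7, 3, 2, 22, 21, 8, 5, 16, 15, 10, 17, 11, 23]),
  ([0, 12, 4, 8, 6, 10, 2, 15, 18, 16, 11, 5, 3, 1, 22, 7, 9, 20, 13, 14, 21, 19, 17, 23], [0, 13, 6, 12, 2, 11, 4, 15, 3, 16, 5, 10, 1, 18, 19, 7, 9, 22, 8, 21, 17, 20, 14, 23]),
  ([0, 13, 4, 6, 12, 20, 8, 14, 1, 9, 10, 22, 16, 3, 21, 7, 18, 15, 2, 11, 19, 17, 5, 23], [0, 8, 18, 13, 2, 22, 3, 15, 6, 9, 10, 19, 4, 1, 7, 17, 12, 21, 16, 20, 5, 14, 11, 23]),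
  ([0, 4, 3, 1, 8, 11, 16, 17, 13, 6, 22, 5, 18, 2, 20, 14, 9, 19, 12, 15, 7, 10, 21, 23], [0, 3, 13, 2, 1, 11, 9, 20, 4, 16, 21, 5, 18, 8, 15, 19, 6, 7, 12, 17, 14, 22, 10, 23]),
  ([0, 3, 2, 13, 16, 15, 18, 10, 4, 1, 5, 21, 9, 12, 11, 17, 6, 7, 8, 19, 14, 22, 20, 23], [0, 9, 2, 1, 8, 10, 16, 17, 18, 12, 7, 14, 13, 3, 20, 5, 4, 15, 6, 19, 22, 11, 21, 23]),
  ([0, 2, 12, 4, 18, 19, 9, 22, 3, 13, 21, 20, 6, 8, 15, 10, 1, 14, 16, 7, 17, 5, 11, 23], [0, 16, 1, 8, 3, 21, 12, 19, 13, 6, 15, 22, 2, 9, 17, 14, 18, 20, 4, 5, 11, 10, 7, 23]),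
  ([0, 12, 8, 3, 9, 7, 6, 5, 2, 4, 20, 11, 1, 16, 19, 22, 13, 17, 18, 14, 10, 21, 15, 23], [0, 12, 8, 3, 9, 7, 6, 5, 2, 4, 20, 11, 1, 16, 19, 22, 13, 17, 18, 14, 10, 21, 15, 23]),
  ([0, 8, 16, 2, 6, 14, 1, 21, 12, 3, 11, 15, 13, 18, 7, 5, 4, 10, 9, 17, 22, 20, 19, 23], [0, 6, 3, 9, 16, 15, 4, 14, 1, 18, 17, 10, 8, 12, 5, 11, 2, 19, 13, 22, 21, 7, 20, 23]),
  ([0, 16, 18, 12, 1, 17, 13, 20, 8, 2, 15, 19, 4, 9, 14, 21, 3, 22, 6, 10, 5, 11, 7, 23], [0, 4, 9, 16, 12, 20, 18, 22, 8, 13, 19, 21, 3, 6, 14, 10, 1, 5, 2, 11, 7, 15, 17, 23]),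
  ([0, 18, 9, 8, 13, 10, 4, 11, 16, 12, 19, 7, 3, 6, 17, 20, 2, 5, 1, 22, 21, 15, 14, 23], [0, 18, 16, 12, 6, 17, 13, 11, 3, 2, 5, 7, 9, 4, 22, 21, 8, 14, 1, 10, 15, 20, 19, 23]),
  ([0, 9, 6, 16, 4, 22, 3, 15, 18, 8, 7, 14, 2, 1, 10, 11, 12, 21, 13, 5, 20, 19, 17, 23], [0, 13, 12, 6, 4, 19, 2, 10, 9, 1, 14, 15, 16, 18, 11, 7, 3, 22, 8, 21, 20, 17, 5, 23]),
  ([0, 6, 1, 18, 3, 5, 2, 19, 9, 16, 14, 17, 12, 13, 22, 15, 8, 20, 4, 21, 11, 7, 10, 23], [0, 2, 6, 4, 18, 5, 1, 21, 16, 8, 22, 20, 12, 13, 10, 15, 9, 11, 3, 7, 17, 19, 14, 23]),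
  ([0, 1, 13, 9, 2, 21, 12, 7, 6, 18, 17, 10, 8, 4, 5, 19, 16, 11, 3, 20, 15, 14, 22, 23], [0, 1, 4, 18, 13, 14, 8, 7, 12, 3, 11, 17, 6, 2, 21, 20, 16, 10, 9, 15, 19, 5, 22, 23]),
  ([0, 3, 2, 18, 8, 19, 13, 7, 12, 1, 5, 20, 6, 4, 22, 17, 9, 10, 16, 15, 14, 11, 21, 23], [0, 9, 2, 1, 13, 10, 12, 7, 4, 16, 17, 21, 8, 6, 20, 19, 18, 15, 3, 5, 11, 22, 14, 23]),
  ([0, 2, 12, 9, 16, 7, 4, 14, 8, 13, 21, 11, 1, 3, 5, 10, 6, 22, 18, 19, 17, 15, 20, 23], [0, 12, 1, 13, 6, 14, 16, 5, 8, 3, 15, 11, 2, 9, 7, 21, 4, 20, 18, 19, 22, 10, 17, 23]),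
  ([0, 12, 8, 6, 18, 14, 3, 17, 16, 4, 20, 15, 13, 2, 21, 22, 1, 5, 9, 7, 10, 19, 11, 23], [0, 16, 13, 6, 9, 17, 3, 19, 2, 18, 20, 22, 1, 12, 5, 11, 8, 7, 4, 21, 10, 14, 15, 23]),
  ([0, 8, 16, 1, 9, 17, 2, 10, 18, 3, 11, 19, 4, 12, 20, 5, 13, 21, 6, 14, 22, 7, 15, 23], [0, 3, 6, 9, 12, 15, 18, 21, 1, 4, 7, 10, 13, 16, 19, 22, 2, 5, 8, 11, 14, 17, 20, 23]),
  ([0, 16, 18, 13, 6, 10, 12, 22, 9, 2, 15, 7, 3, 8, 11, 21, 4, 20, 1, 17, 5, 14, 19, 23], [0, 18, 9, 12, 16, 20, 4, 11, 13, 8, 5, 14, 6, 3, 21, 10, 1, 19, 2, 22, 17, 15, 7, 23]),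
  ([0, 18, 9, 4, 1, 22, 8, 5, 6, 12, 19, 14, 2, 16, 15, 20, 3, 11, 13, 10, 21, 17, 7, 23], [0, 4, 12, 16, 3, 7, 8, 22, 6, 2, 19, 17, 9, 18, 11, 14, 13, 21, 1, 10, 15, 20, 5, 23]),
  ([0, 9, 6, 3, 13, 5, 16, 21, 1, 8, 7, 17, 12, 18, 19, 11, 2, 15, 4, 22, 20, 10, 14, 23], [0, 8, 16, 3, 18, 5, 2, 10, 9, 1, 21, 15, 12, 4, 22, 17, 6, 11, 13, 14, 20, 7, 19, 23]),
  ([0, 6, 1, 2, 4, 21, 18, 20, 13, 16, 14, 10, 8, 9, 7, 15, 12, 19, 3, 5, 11, 22, 17, 23], [0, 2, 3, 18, 4, 19, 1, 14, 12, 13, 11, 20, 16, 8, 10, 15, 9, 22, 6, 17, 7, 5, 21, 23]),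
  ([0, 1, 13, 12, 3, 20, 9, 11, 4, 18, 17, 22, 16, 6, 14, 19, 8, 7, 2, 21, 15, 5, 10, 23], [0, 1, 18, 4, 8, 21, 13, 17, 16, 6, 22, 7, 3, 2, 14, 20, 12, 10, 9, 15, 5, 19, 11, 23]),
  ([0, 13, 4, 8, 2, 11, 6, 15, 3, 9, 10, 5, 18, 1, 17, 7, 16, 14, 12, 20, 19, 21, 22, 23], [0, 13, 4, 8, 2, 11, 6, 15, 3, 9, 10, 5, 18, 1, 17, 7, 16, 14, 12, 20, 19, 21, 22, 23]),
  ([0, 4, 3, 16, 12, 15, 1, 19, 2, 6, 22, 21, 9, 13, 10, 14, 18, 17, 8, 11, 7, 20, 5, 23], [0, 6, 8, 2, 1, 22, 9, 20, 18, 12, 14, 19, 4, 13, 15, 5, 3, 17, 16, 7, 21, 11, 10, 23]),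
  ([0, 4, 16, 9, 13, 14, 3, 17, 8, 12, 21, 19, 18, 2, 20, 11, 1, 5, 6, 10, 7, 15, 22, 23], [0, 16, 13, 6, 1, 17, 18, 20, 8, 3, 19, 15, 9, 4, 5, 21, 2, 7, 12, 11, 14, 10, 22, 23]),
  ([0, 3, 18, 6, 4, 17, 2, 10, 16, 8, 20, 7, 9, 12, 11, 15, 13, 21, 1, 22, 14, 19, 5, 23], [0, 18, 6, 1, 4, 22, 3, 11, 9, 12, 7, 14, 13, 16, 20, 15, 8, 5, 2, 21, 10, 17, 19, 23]),
  ([0, 2, 9, 1, 3, 10, 12, 22, 18, 16, 11, 14, 6, 8, 15, 19, 4, 20, 13, 5, 17, 7, 21, 23], [0, 3, 1, 4, 16, 19, 12, 21, 13, 2, 5, 10, 6, 18, 11, 14, 9, 20, 8, 15, 17, 22, 7, 23]),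
  ([0, 12, 6, 13, 2, 22, 8, 5, 9, 18, 15, 17, 1, 16, 19, 7, 3, 11, 4, 21, 10, 14, 20, 23], [0, 12, 4, 16, 18, 7, 2, 15, 6, 8, 20, 17, 1, 3, 21, 10, 13, 11, 9, 14, 22, 19, 5, 23]),
  ([0, 8, 1, 4, 12, 5, 16, 21, 6, 9, 19, 10, 13, 18, 7, 14, 2, 15, 3, 20, 22, 17, 11, 23], [0, 2, 16, 18, 3, 5, 8, 14, 1, 9, 11, 22, 4, 12, 15, 17, 6, 21, 13, 10, 19, 7, 20, 23]),
  ([0, 16, 13, 3, 8, 21, 18, 20, 1, 6, 7, 22, 4, 9, 14, 17, 12, 19, 2, 11, 5, 10, 15, 23], [0, 8, 18, 3, 12, 20, 9, 10, 4, 13, 21, 19, 16, 2, 14, 22, 1, 15, 6, 17, 7, 5, 11, 23]),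
  ([0, 18, 4, 2, 16, 20, 9, 11, 13, 1, 14, 5, 3, 6, 17, 10, 8, 7, 12, 15, 21, 22, 19, 23], [0, 9, 3, 12, 2, 11, 13, 17, 16, 6, 15, 7, 18, 8, 10, 19, 4, 14, 1, 22, 5, 20, 21, 23]),
  ([0, 9, 3, 12, 18, 11, 6, 15, 4, 13, 17, 21, 2, 1, 10, 22, 16, 14, 8, 19, 20, 5, 7, 23], [0, 13, 12, 2, 8, 21, 6, 22, 18, 1, 14, 5, 3, 9, 17, 7, 16, 10, 4, 19, 20, 11, 15, 23]),
  ([0, 6, 2, 8, 9, 15, 1, 19, 3, 4, 10, 20, 12, 13, 22, 5, 18, 17, 16, 7, 11, 21, 14, 23], [0, 6, 2, 8, 9, 15, 1, 19, 3, 4, 10, 20, 12, 13, 22, 5, 18, 17, 16, 7, 11, 21, 14, 23]),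
  ([0, 1, 12, 16, 6, 19, 13, 7, 2, 3, 22, 11, 8, 4, 5, 21, 9, 10, 18, 14, 15, 20, 17, 23], [0, 1, 8, 9, 13, 14, 4, 7, 12, 16, 17, 11, 2, 6, 19, 20, 3, 22, 18, 5, 21, 15, 10, 23]),
  ([0, 13, 8, 18, 1, 7, 4, 14, 12, 2, 5, 15, 16, 3, 21, 20, 6, 22, 9, 17, 19, 11, 10, 23], [0, 4, 9, 13, 6, 10, 16, 5, 2, 18, 22, 21, 8, 1, 7, 11, 12, 19, 3, 20, 15, 14, 17, 23]),
  ([0, 2, 6, 1, 3, 7, 4, 11, 13, 8, 22, 14, 9, 16, 19, 15, 12, 21, 18, 5, 17, 10, 20, 23], [0, 3, 1, 4, 6, 19, 2, 5, 9, 12, 21, 7, 16, 8, 11, 15, 13, 20, 18, 14, 22, 17, 10, 23]),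
  ([0, 12, 1, 13, 2, 14, 3, 15, 4, 16, 5, 17, 6, 18, 7, 19, 8, 20, 9, 21, 10, 22, 11, 23], [0, 2, 4, 6, 8, 10, 12, 14, 16, 18, 20, 22, 1, 3, 5, 7, 9, 11, 13, 15, 17, 19, 21, 23]),
  ([0, 8, 13, 4, 12, 17, 2, 19, 3, 18, 21, 10, 1, 9, 14, 7, 16, 11, 6, 20, 22, 5, 15, 23], [0, 12, 6, 8, 3, 21, 18, 15, 1, 13, 11, 17, 4, 2, 14, 22, 16, 5, 9, 7, 19, 10, 20, 23]),
  ([0, 16, 4, 3, 8, 10, 12, 7, 2, 9, 20, 22, 13, 6, 17, 14, 18, 15, 1, 11, 5, 21, 19, 23], [0, 18, 8, 3, 2, 20, 13, 7, 4, 9, 5, 19, 6, 12, 15, 17, 1, 14, 16, 22, 10, 21, 11, 23]),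
  ([0, 18, 3, 2, 16, 22, 8, 14, 12, 6, 11, 5, 4, 1, 10, 17, 9, 19, 13, 15, 21, 20, 7, 23], [0, 13, 3, 2, 12, 11, 9, 22, 6, 16, 14, 10, 8, 18, 7, 19, 4, 15, 1, 17, 21, 20, 5, 23]),
  ([0, 9, 2, 12, 18, 5, 16, 17, 8, 1, 15, 21, 3, 13, 22, 10, 6, 7, 4, 19, 20, 11, 14, 23], [0, 9, 2, 12, 18, 5, 16, 17, 8, 1, 15, 21, 3, 13, 22, 10, 6, 7, 4, 19, 20, 11, 14, 23]),
  ([0, 6, 12, 8, 9, 21, 18, 10, 16, 13, 19, 20, 2, 4, 5, 22, 1, 14, 3, 7, 11, 15, 17, 23], [0, 16, 12, 18, 13, 14, 1, 19, 3, 4, 7, 20, 2, 9, 17, 21, 8, 22, 6, 10, 11, 5, 15, 23]),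
  ([0, 1, 8, 16, 6, 20, 9, 22, 18, 4, 7, 11, 12, 3, 21, 5, 13, 17, 2, 14, 15, 19, 10, 23], [0, 1, 18, 13, 9, 15, 4, 10, 2, 6, 22, 11, 12, 16, 19, 20, 3, 17, 8, 21, 5, 14, 7, 23]),
  ([0, 13, 16, 18, 1, 11, 6, 5, 9, 3, 14, 15, 8, 2, 20, 21, 4, 10, 12, 17, 19, 7, 22, 23], [0, 4, 13, 9, 16, 7, 6, 21, 12, 8, 17, 5, 18, 1, 10, 11, 2, 19, 3, 20, 14, 15, 22, 23]),
  ([0, 4, 18, 9, 13, 15, 1, 21, 6, 2, 17, 19, 16, 12, 11, 20, 3, 22, 8, 10, 7, 14, 5, 23], [0, 6, 9, 16, 1, 22, 8, 20, 18, 3, 19, 14, 13, 4, 21, 5, 12, 10, 2, 11, 15, 7, 17, 23]),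
  ([0, 3, 9, 6, 4, 19, 13, 20, 1, 12, 10, 7, 18, 8, 15, 11, 2, 5, 16, 22, 14, 17, 21, 23], [0, 8, 16, 1, 4, 17, 3, 11, 13, 2, 10, 15, 9, 6, 20, 14, 18, 21, 12, 5, 7, 22, 19, 23]),
  ([0, 3, 13, 16, 4, 19, 9, 20, 1, 2, 7, 10, 8, 18, 14, 11, 12, 21, 6, 17, 15, 22, 5, 23], [0, 8, 9, 1, 4, 22, 18, 10, 12, 6, 11, 15, 16, 2, 14, 20, 3, 19, 13, 5, 7, 17, 21, 23]),
  ([0, 1, 9, 2, 6, 20, 8, 22, 18, 13, 11, 7, 3, 12, 15, 5, 4, 10, 16, 19, 21, 14, 17, 23], [0, 1, 3, 12, 16, 15, 4, 11, 6, 2, 17, 10, 13, 9, 21, 14, 18, 22, 8, 19, 5, 20, 7, 23]),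
  ([0, 18, 8, 13, 16, 22, 3, 14, 12, 9, 5, 11, 1, 4, 21, 17, 6, 7, 2, 20, 10, 15, 19, 23], [0, 12, 18, 6, 13, 10, 16, 17, 2, 9, 20, 11, 8, 3, 7, 21, 4, 15, 1, 22, 19, 14, 5, 23]),
  ([0, 12, 3, 9, 2, 14, 1, 15, 4, 8, 17, 5, 18, 6, 10, 19, 16, 11, 13, 22, 7, 21, 20, 23], [0, 6, 4, 2, 8, 11, 13, 20, 9, 3, 14, 17, 1, 18, 5, 7, 16, 10, 12, 15, 22, 21, 19, 23]),
  ([0, 4, 1, 8, 13, 15, 18, 21, 6, 3, 19, 17, 12, 16, 7, 20, 2, 5, 9, 14, 11, 10, 22, 23], [0, 2, 16, 9, 1, 17, 8, 14, 3, 18, 21, 20, 12, 4, 19, 5, 13, 11, 6, 10, 15, 7, 22, 23]),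
  ([0, 6, 18, 3, 9, 21, 12, 10, 16, 1, 20, 19, 4, 2, 11, 22, 13, 17, 8, 15, 5, 7, 14, 23], [0, 9, 13, 3, 12, 20, 1, 21, 18, 4, 7, 14, 6, 16, 22, 19, 8, 17, 2, 11, 10, 5, 15, 23]),
  ([0, 16, 12, 1, 8, 10, 4, 7, 2, 18, 22, 20, 6, 13, 5, 14, 9, 19, 3, 21, 17, 11, 15, 23], [0, 3, 8, 18, 6, 14, 12, 7, 4, 16, 5, 21, 2, 13, 15, 22, 1, 20, 9, 17, 11, 19, 10, 23]),
  ([0, 2, 4, 18, 3, 7, 6, 11, 13, 12, 14, 22, 16, 9, 17, 15, 8, 20, 1, 10, 19, 5, 21, 23], [0, 18, 1, 4, 2, 21, 6, 5, 16, 13, 19, 7, 9, 8, 10, 15, 12, 14, 3, 20, 17, 22, 11, 23]),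
  ([0, 13, 6, 12, 1, 11, 16, 5, 9, 4, 15, 14, 2, 8, 19, 21, 3, 22, 18, 7, 20, 17, 10, 23], [0, 4, 12, 16, 9, 7, 2, 19, 13, 8, 22, 5, 3, 1, 11, 10, 6, 21, 18, 14, 20, 15, 17, 23]),
  ([0, 9, 16, 4, 18, 5, 2, 17, 8, 6, 21, 15, 13, 3, 20, 10, 1, 14, 12, 11, 22, 19, 7, 23], [0, 16, 6, 13, 3, 5, 9, 22, 8, 1, 15, 19, 18, 12, 17, 11, 2, 7, 4, 21, 14, 10, 20, 23]),
  ([0, 8, 2, 6, 12, 17, 13, 19, 3, 16, 10, 21, 9, 1, 22, 7, 18, 15, 4, 5, 14, 20, 11, 23], [0, 13, 2, 8, 18, 19, 3, 15, 1, 12, 10, 22, 4, 6, 20, 17, 9, 5, 16, 7, 21, 11, 14, 23]),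
  ([0, 1, 9, 13, 12, 5, 2, 10, 16, 8, 22, 7, 18, 4, 21, 19, 6, 11, 3, 20, 14, 15, 17, 23], [0, 1, 6, 18, 13, 5, 16, 11, 9, 2, 7, 17, 4, 3, 20, 21, 8, 22, 12, 15, 19, 14, 10, 23]),
  ([0, 18, 8, 9, 4, 17, 13, 7, 2, 3, 14, 11, 12, 6, 10, 20, 16, 5, 1, 22, 15, 21, 19, 23], [0, 18, 8, 9, 4, 17, 13, 7, 2, 3, 14, 11, 12, 6, 10, 20, 16, 5, 1, 22, 15, 21, 19, 23]),
  ([0, 12, 3, 8, 6, 19, 9, 11, 13, 1, 15, 5, 4, 16, 7, 22, 2, 17, 18, 14, 21, 10, 20, 23], [0, 9, 16, 2, 12, 11, 4, 14, 3, 6, 21, 7, 1, 8, 19, 10, 13, 17, 18, 5, 22, 20, 15, 23]),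
  ([0, 4, 1, 3, 16, 20, 8, 5, 9, 18, 21, 17, 6, 2, 11, 14, 13, 19, 12, 15, 10, 7, 22, 23], [0, 2, 13, 3, 1, 7, 12, 21, 6, 8, 20, 14, 18, 16, 15, 19, 4, 11, 9, 17, 5, 10, 22, 23]),
  ([0, 6, 18, 1, 2, 22, 3, 17, 8, 12, 10, 19, 16, 13, 5, 15, 9, 20, 4, 21, 7, 11, 14, 23], [0, 3, 4, 6, 18, 14, 1, 20, 8, 16, 10, 21, 9, 13, 22, 15, 12, 7, 2, 11, 17, 19, 5, 23]),
  ([0, 16, 12, 18, 13, 14, 1, 19, 3, 4, 7, 20, 2, 9, 17, 21, 8, 22, 6, 10, 11, 5, 15, 23], [0, 6, 12, 8, 9, 21, 18, 10, 16, 13, 19, 20, 2, 4, 5, 22, 1, 14, 3, 7, 11, 15, 17, 23]),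
  ([0, 2, 4, 12, 9, 15, 18, 20, 1, 6, 11, 22, 13, 8, 19, 10, 3, 14, 16, 7, 5, 17, 21, 23], [0, 8, 1, 16, 2, 20, 9, 19, 13, 4, 15, 10, 3, 12, 17, 5, 18, 21, 6, 14, 7, 22, 11, 23]),
  ([0, 13, 6, 4, 8, 21, 12, 22, 18, 16, 5, 14, 9, 3, 20, 7, 1, 15, 2, 11, 17, 19, 10, 23], [0, 16, 18, 13, 3, 10, 2, 15, 4, 12, 22, 19, 6, 1, 11, 17, 9, 20, 8, 21, 14, 5, 7, 23]),
  ([0, 9, 16, 6, 3, 10, 4, 14, 12, 2, 17, 15, 8, 1, 22, 11, 18, 21, 13, 5, 19, 20, 7, 23], [0, 13, 9, 4, 6, 19, 3, 22, 12, 1, 5, 15, 8, 18, 7, 11, 2, 10, 16, 20, 21, 17, 14, 23]),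
  ([0, 8, 2, 16, 1, 7, 6, 15, 4, 13, 19, 21, 3, 18, 14, 5, 12, 10, 9, 17, 20, 22, 11, 23], [0, 4, 2, 12, 8, 15, 6, 5, 1, 18, 17, 22, 16, 9, 14, 7, 3, 19, 13, 10, 20, 11, 21, 23]),
  ([0, 3, 13, 2, 18, 11, 16, 21, 6, 9, 20, 10, 1, 12, 15, 17, 4, 7, 8, 19, 22, 14, 5, 23], [0, 12, 3, 1, 16, 22, 8, 17, 18, 9, 11, 5, 13, 2, 21, 14, 6, 15, 4, 19, 10, 7, 20, 23]),
  ([0, 16, 2, 9, 6, 17, 8, 7, 13, 18, 15, 22, 4, 12, 11, 5, 3, 19, 1, 10, 21, 14, 20, 23], [0, 18, 2, 16, 12, 15, 4, 7, 6, 3, 19, 14, 13, 8, 21, 10, 1, 5, 9, 17, 22, 20, 11, 23]),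
  ([0, 2, 13, 8, 16, 19, 3, 11, 9, 12, 21, 14, 6, 4, 5, 17, 1, 20, 18, 7, 10, 15, 22, 23], [0, 16, 1, 6, 13, 14, 12, 19, 3, 8, 20, 7, 9, 2, 11, 21, 4, 15, 18, 5, 17, 10, 22, 23]),
  ([0, 13, 9, 3, 2, 20, 1, 5, 8, 4, 10, 15, 16, 6, 17, 19, 18, 22, 12, 11, 7, 21, 14, 23], [0, 6, 4, 3, 9, 7, 13, 20, 8, 2, 10, 19, 18, 1, 22, 11, 12, 14, 16, 15, 5, 21, 17, 23]),
  ([0, 9, 8, 1, 13, 22, 18, 17, 3, 6, 7, 21, 2, 16, 19, 20, 12, 14, 4, 5, 11, 10, 15, 23], [0, 3, 12, 8, 18, 19, 9, 10, 2, 1, 21, 20, 16, 4, 17, 22, 13, 7, 6, 14, 15, 11, 5, 23]),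
  ([0, 8, 3, 18, 9, 14, 12, 19, 1, 16, 11, 10, 13, 2, 20, 22, 4, 15, 6, 17, 5, 7, 21, 23], [0, 8, 13, 2, 16, 20, 18, 21, 1, 4, 11, 10, 6, 12, 5, 17, 9, 19, 3, 7, 14, 22, 15, 23]),
  ([0, 3, 1, 12, 8, 15, 4, 20, 18, 2, 5, 7, 9, 13, 22, 14, 6, 21, 16, 19, 17, 11, 10, 23], [0, 2, 9, 1, 6, 10, 16, 11, 4, 12, 22, 21, 3, 13, 15, 5, 18, 20, 8, 19, 7, 17, 14, 23]),
  ([0, 1, 18, 4, 3, 21, 6, 22, 12, 13, 17, 11, 8, 9, 14, 15, 16, 10, 2, 20, 19, 5, 7, 23], [0, 1, 18, 4, 3, 21, 6, 22, 12, 13, 17, 11, 8, 9, 14, 15, 16, 10, 2, 20, 19, 5, 7, 23]),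
  ([0, 18, 12, 6, 1, 10, 16, 14, 4, 9, 19, 5, 3, 8, 15, 21, 2, 7, 13, 22, 20, 17, 11, 23], [0, 4, 16, 12, 8, 11, 3, 17, 13, 9, 5, 22, 2, 18, 7, 14, 6, 21, 1, 10, 20, 15, 19, 23]),
  ([0, 12, 4, 16, 18, 7, 2, 15, 6, 8, 20, 17, 1, 3, 21, 10, 13, 11, 9, 14, 22, 19, 5, 23], [0, 12, 6, 13, 2, 22, 8, 5, 9, 18, 15, 17, 1, 16, 19, 7, 3, 11, 4, 21, 10, 14, 20, 23]),
  ([0, 4, 6, 2, 12, 11, 13, 21, 16, 3, 22, 19, 18, 1, 10, 7, 9, 5, 8, 15, 14, 20, 17, 23], [0, 13, 3, 9, 1, 17, 2, 15, 18, 16, 14, 5, 4, 6, 20, 19, 8, 22, 12, 11, 21, 7, 10, 23]),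
  ([0, 6, 16, 13, 4, 5, 9, 10, 2, 1, 14, 20, 12, 18, 7, 11, 8, 17, 3, 21, 15, 22, 19, 23], [0, 9, 8, 18, 4, 5, 1, 14, 16, 6, 7, 15, 12, 3, 10, 20, 2, 17, 13, 22, 11, 19, 21, 23]),
  ([0, 13, 8, 2, 3, 20, 18, 22, 9, 4, 14, 15, 12, 6, 19, 17, 1, 5, 16, 7, 11, 21, 10, 23], [0, 16, 3, 4, 9, 17, 13, 19, 2, 8, 22, 20, 12, 1, 10, 11, 18, 15, 6, 14, 5, 21, 7, 23]),
  ([0, 9, 3, 13, 1, 22, 12, 14, 8, 6, 15, 21, 4, 16, 20, 19, 18, 17, 2, 11, 5, 10, 7, 23], [0, 4, 18, 2, 12, 20, 9, 22, 8, 1, 21, 19, 6, 3, 7, 10, 13, 17, 16, 15, 14, 11, 5, 23]),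
  ([0, 8, 1, 9, 18, 14, 4, 15, 3, 16, 21, 10, 6, 2, 22, 20, 12, 19, 13, 5, 17, 7, 11, 23], [0, 2, 13, 8, 6, 19, 12, 21, 1, 3, 11, 22, 16, 18, 5, 7, 9, 20, 4, 17, 15, 10, 14, 23]),
  ([0, 3, 18, 8, 12, 15, 6, 21, 1, 2, 10, 7, 16, 13, 14, 22, 4, 20, 9, 17, 19, 11, 5, 23], [0, 8, 9, 1, 16, 22, 6, 11, 3, 18, 10, 21, 4, 13, 14, 5, 12, 19, 2, 20, 17, 7, 15, 23]),
  ([0, 1, 12, 3, 4, 21, 16, 10, 18, 13, 7, 11, 2, 9, 15, 14, 6, 22, 8, 19, 20, 5, 17, 23], [0, 1, 12, 3, 4, 21, 16, 10, 18, 13, 7, 11, 2, 9, 15, 14, 6, 22, 8, 19, 20, 5, 17, 23]),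
  ([0, 18, 4, 1, 6, 10, 2, 7, 12, 9, 11, 5, 13, 8, 21, 15, 16, 14, 3, 20, 22, 17, 19, 23], [0, 3, 6, 18, 2, 11, 4, 7, 13, 9, 5, 10, 8, 12, 17, 15, 16, 21, 1, 22, 19, 14, 20, 23]),
  ([0, 12, 6, 18, 16, 7, 13, 11, 4, 8, 5, 17, 9, 3, 10, 21, 2, 15, 1, 22, 14, 19, 20, 23], [0, 18, 16, 13, 8, 10, 2, 5, 9, 12, 14, 7, 1, 6, 20, 17, 4, 11, 3, 21, 22, 15, 19, 23]),
  ([0, 4, 16, 12, 2, 11, 9, 5, 6, 3, 17, 19, 8, 1, 7, 10, 13, 21, 18, 14, 15, 20, 22, 23], [0, 13, 4, 9, 1, 7, 8, 14, 12, 6, 15, 5, 3, 16, 19, 20, 2, 10, 18, 11, 21, 17, 22, 23]),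
  ([0, 6, 2, 4, 13, 5, 8, 17, 16, 1, 19, 20, 3, 18, 11, 7, 9, 10, 12, 15, 21, 22, 14, 23], [0, 9, 2, 12, 3, 5, 1, 15, 6, 16, 17, 14, 18, 4, 22, 19, 8, 7, 13, 10, 11, 20, 21, 23]),
  ([0, 16, 13, 6, 9, 17, 3, 19, 2, 18, 20, 22, 1, 12, 5, 11, 8, 7, 4, 21, 10, 14, 15, 23], [0, 12, 8, 6, 18, 14, 3, 17, 16, 4, 20, 15, 13, 2, 21, 22, 1, 5, 9, 7, 10, 19, 11, 23]),
  ([0, 2, 9, 16, 8, 19, 1, 20, 13, 12, 22, 14, 18, 4, 17, 5, 3, 11, 6, 10, 7, 15, 21, 23], [0, 6, 1, 16, 13, 15, 18, 20, 4, 2, 19, 17, 9, 8, 11, 21, 3, 14, 12, 5, 7, 22, 10, 23]),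
  ([0, 9, 18, 8, 1, 10, 4, 15, 2, 12, 21, 14, 6, 3, 5, 20, 16, 17, 13, 22, 19, 11, 7, 23], [0, 4, 8, 13, 6, 14, 12, 22, 3, 1, 5, 21, 9, 18, 11, 7, 16, 17, 2, 20, 15, 10, 19, 23]),
  ([0, 8, 12, 3, 18, 7, 6, 21, 13, 4, 10, 15, 16, 1, 17, 22, 2, 19, 9, 14, 20, 5, 11, 23], [0, 13, 16, 3, 9, 21, 6, 5, 1, 18, 10, 22, 2, 8, 19, 11, 12, 14, 4, 17, 20, 7, 15, 23]),
  ([0, 3, 4, 1, 12, 11, 16, 10, 9, 6, 7, 21, 2, 18, 19, 14, 13, 20, 8, 15, 22, 17, 5, 23], [0, 3, 12, 1, 2, 22, 9, 10, 18, 8, 7, 5, 4, 16, 15, 19, 6, 21, 13, 14, 17, 11, 20, 23]),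
  ([0, 1, 6, 18, 4, 5, 2, 7, 8, 16, 11, 10, 13, 12, 20, 15, 9, 22, 3, 21, 14, 19, 17, 23], [0, 1, 6, 18, 4, 5, 2, 7, 8, 16, 11, 10, 13, 12, 20, 15, 9, 22, 3, 21, 14, 19, 17, 23]),
  ([0, 18, 16, 12, 6, 17, 13, 11, 3, 2, 5, 7, 9, 4, 22, 21, 8, 14, 1, 10, 15, 20, 19, 23], [0, 18, 9, 8, 13, 10, 4, 11, 16, 12, 19, 7, 3, 6, 17, 20, 2, 5, 1, 22, 21, 15, 14, 23]),
  ([0, 12, 2, 4, 16, 19, 9, 5, 1, 13, 17, 11, 8, 6, 14, 10, 3, 15, 18, 7, 21, 22, 20, 23], [0, 8, 2, 16, 3, 7, 13, 19, 12, 6, 15, 11, 1, 9, 14, 17, 4, 10, 18, 5, 22, 20, 21, 23]),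
  ([0, 4, 13, 6, 2, 20, 8, 17, 18, 9, 19, 5, 3, 16, 15, 7, 1, 21, 12, 11, 10, 14, 22, 23], [0, 16, 4, 12, 1, 11, 3, 15, 6, 9, 20, 19, 18, 2, 21, 14, 13, 7, 8, 10, 5, 17, 22, 23]),
  ([0, 6, 9, 16, 13, 22, 3, 19, 12, 8, 20, 17, 1, 2, 21, 11, 18, 10, 4, 5, 7, 15, 14, 23], [0, 12, 13, 6, 18, 19, 1, 20, 9, 2, 17, 15, 8, 4, 22, 21, 3, 11, 16, 7, 10, 14, 5, 23]),
  ([0, 16, 8, 2, 9, 14, 1, 20, 4, 3, 22, 19, 18, 13, 10, 5, 12, 7, 6, 17, 11, 21, 15, 23], [0, 6, 3, 9, 8, 15, 18, 17, 2, 4, 14, 20, 16, 13, 5, 22, 1, 19, 12, 11, 7, 21, 10, 23]),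
  ([0, 2, 3, 13, 8, 15, 18, 22, 6, 1, 14, 20, 12, 9, 7, 17, 4, 11, 16, 19, 5, 10, 21, 23], [0, 9, 1, 2, 16, 20, 8, 14, 4, 13, 21, 17, 12, 3, 10, 5, 18, 15, 6, 19, 11, 22, 7, 23]),
  ([0, 13, 1, 9, 3, 21, 12, 14, 16, 18, 15, 22, 4, 8, 11, 19, 6, 5, 2, 20, 17, 7, 10, 23], [0, 2, 18, 4, 12, 17, 16, 21, 13, 3, 22, 14, 6, 1, 7, 10, 8, 20, 9, 15, 19, 5, 11, 23]),
  ([0, 2, 4, 18, 16, 7, 12, 14, 8, 6, 11, 21, 3, 1, 17, 10, 13, 20, 9, 15, 5, 19, 22, 23], [0, 13, 1, 12, 2, 20, 9, 5, 8, 18, 15, 10, 6, 16, 7, 19, 4, 14, 3, 21, 17, 11, 22, 23]),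
  ([0, 13, 6, 12, 2, 11, 4, 15, 3, 16, 5, 10, 1, 18, 19, 7, 9, 22, 8, 21, 17, 20, 14, 23], [0, 12, 4, 8, 6, 10, 2, 15, 18, 16, 11, 5, 3, 1, 22, 7, 9, 20, 13, 14, 21, 19, 17, 23]),
  ([0, 9, 16, 4, 13, 5, 6, 21, 1, 2, 17, 7, 18, 12, 20, 11, 8, 14, 3, 10, 19, 22, 15, 23], [0, 8, 9, 18, 3, 5, 6, 11, 16, 1, 19, 15, 13, 4, 17, 22, 2, 10, 12, 20, 14, 7, 21, 23]),
  ([0, 8, 2, 6, 9, 17, 16, 10, 18, 13, 19, 11, 12, 4, 22, 5, 3, 15, 1, 7, 20, 14, 21, 23], [0, 18, 2, 16, 13, 15, 3, 19, 1, 4, 7, 11, 12, 9, 21, 17, 6, 5, 8, 10, 20, 22, 14, 23]),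
  ([0, 3, 13, 16, 8, 19, 2, 7, 12, 9, 20, 5, 4, 6, 14, 17, 1, 21, 18, 11, 22, 15, 10, 23], [0, 16, 6, 1, 12, 11, 13, 7, 4, 9, 22, 19, 8, 2, 14, 21, 3, 15, 18, 5, 10, 17, 20, 23]),
  ([0, 1, 9, 2, 3, 20, 13, 11, 4, 8, 22, 17, 6, 16, 15, 19, 18, 10, 12, 5, 14, 21, 7, 23], [0, 1, 3, 4, 8, 19, 12, 22, 9, 2, 17, 7, 18, 6, 20, 14, 13, 11, 16, 15, 5, 21, 10, 23]),
  ([0, 18, 8, 13, 1, 22, 9, 5, 6, 3, 14, 19, 16, 2, 21, 20, 12, 7, 4, 17, 15, 10, 11, 23], [0, 4, 13, 9, 18, 7, 8, 17, 2, 6, 21, 22, 16, 3, 10, 20, 12, 19, 1, 11, 15, 14, 5, 23]),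
  ([0, 12, 3, 9, 18, 14, 8, 17, 16, 1, 15, 20, 2, 13, 10, 22, 4, 11, 6, 19, 21, 7, 5, 23], [0, 9, 12, 2, 16, 22, 18, 21, 6, 3, 14, 17, 1, 13, 5, 10, 8, 7, 4, 19, 11, 20, 15, 23]),
  ([0, 4, 1, 8, 12, 15, 3, 19, 2, 18, 21, 22, 13, 9, 7, 14, 6, 5, 16, 20, 10, 11, 17, 23], [0, 2, 8, 6, 1, 17, 16, 14, 3, 13, 20, 21, 4, 12, 15, 5, 18, 22, 9, 7, 19, 10, 11, 23]),
  ([0, 6, 18, 3, 4, 21, 1, 20, 13, 12, 10, 14, 9, 8, 11, 15, 16, 17, 2, 22, 7, 5, 19, 23], [0, 6, 18, 3, 4, 21, 1, 20, 13, 12, 10, 14, 9, 8, 11, 15, 16, 17, 2, 22, 7, 5, 19, 23]),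
  ([0, 16, 12, 1, 6, 10, 18, 22, 9, 4, 7, 15, 8, 3, 5, 21, 2, 19, 13, 14, 11, 17, 20, 23], [0, 3, 16, 13, 9, 14, 4, 10, 12, 8, 5, 20, 2, 18, 19, 11, 1, 21, 6, 17, 22, 15, 7, 23]),
  ([0, 8, 12, 4, 13, 22, 6, 21, 18, 3, 19, 11, 1, 16, 20, 7, 9, 10, 2, 14, 17, 5, 15, 23], [0, 12, 18, 9, 3, 21, 6, 15, 1, 16, 17, 11, 2, 4, 19, 22, 13, 20, 8, 10, 14, 7, 5, 23]),
  ([0, 3, 4, 6, 9, 14, 16, 10, 12, 1, 20, 5, 18, 2, 22, 11, 8, 7, 13, 15, 19, 17, 21, 23], [0, 9, 13, 1, 2, 11, 3, 17, 16, 4, 7, 15, 8, 18, 5, 19, 6, 21, 12, 20, 10, 22, 14, 23]),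
  ([0, 1, 6, 16, 8, 15, 2, 7, 4, 18, 22, 17, 12, 13, 14, 5, 3, 11, 9, 21, 20, 19, 10, 23], [0, 1, 6, 16, 8, 15, 2, 7, 4, 18, 22, 17, 12, 13, 14, 5, 3, 11, 9, 21, 20, 19, 10, 23]),
  ([0, 18, 16, 2, 3, 21, 13, 11, 6, 12, 14, 19, 4, 9, 15, 17, 1, 5, 8, 10, 22, 20, 7, 23], [0, 16, 3, 4, 12, 17, 8, 22, 18, 13, 19, 7, 9, 6, 10, 14, 2, 15, 1, 11, 21, 5, 20, 23]),
  ([0, 12, 2, 13, 1, 10, 9, 5, 16, 4, 15, 20, 6, 8, 21, 19, 18, 17, 3, 7, 14, 22, 11, 23], [0, 4, 2, 18, 9, 7, 12, 19, 13, 6, 5, 22, 1, 3, 20, 10, 8, 17, 16, 15, 11, 14, 21, 23]),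
  ([0, 4, 13, 9, 18, 7, 8, 17, 2, 6, 21, 22, 16, 3, 10, 20, 12, 19, 1, 11, 15, 14, 5, 23], [0, 18, 8, 13, 1, 22, 9, 5, 6, 3, 14, 19, 16, 2, 21, 20, 12, 7, 4, 17, 15, 10, 11, 23]),
  ([0, 6, 9, 8, 12, 11, 3, 19, 13, 16, 10, 14, 2, 1, 7, 22, 4, 20, 18, 5, 21, 15, 17, 23], [0, 13, 12, 6, 16, 19, 1, 14, 3, 2, 10, 5, 4, 8, 11, 21, 9, 22, 18, 7, 17, 20, 15, 23]),
  ([0, 16, 8, 3, 4, 5, 1, 20, 9, 2, 7, 15, 13, 18, 11, 14, 6, 22, 12, 17, 10, 21, 19, 23], [0, 6, 9, 3, 4, 5, 16, 10, 2, 8, 20, 14, 18, 12, 15, 11, 1, 19, 13, 22, 7, 21, 17, 23]),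
  ([0, 2, 3, 1, 6, 17, 18, 22, 8, 13, 11, 21, 9, 12, 5, 15, 16, 14, 4, 19, 7, 10, 20, 23], [0, 3, 1, 2, 18, 14, 4, 20, 8, 12, 21, 10, 13, 9, 17, 15, 16, 5, 6, 19, 22, 11, 7, 23]),
  ([0, 13, 1, 18, 16, 19, 12, 14, 3, 9, 5, 10, 8, 4, 17, 21, 2, 15, 6, 20, 11, 7, 22, 23], [0, 2, 16, 8, 13, 10, 18, 21, 12, 9, 11, 20, 6, 1, 7, 17, 4, 14, 3, 5, 19, 15, 22, 23]),
  ([0, 9, 18, 12, 2, 20, 4, 15, 1, 8, 17, 7, 3, 6, 19, 10, 13, 21, 16, 22, 5, 11, 14, 23], [0, 8, 4, 12, 6, 20, 13, 11, 9, 1, 15, 21, 3, 16, 22, 7, 18, 10, 2, 14, 5, 17, 19, 23]),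
  ([0, 18, 6, 12, 9, 15, 3, 11, 4, 1, 5, 19, 16, 13, 10, 22, 2, 7, 8, 21, 20, 17, 14, 23], [0, 9, 16, 6, 8, 10, 2, 17, 18, 4, 14, 7, 3, 13, 22, 5, 12, 21, 1, 11, 20, 19, 15, 23]),
  ([0, 12, 16, 4, 8, 21, 1, 5, 6, 18, 17, 20, 2, 9, 7, 14, 13, 11, 3, 10, 22, 19, 15, 23], [0, 6, 12, 18, 3, 7, 8, 14, 4, 13, 19, 17, 1, 16, 15, 22, 2, 10, 9, 21, 11, 5, 20, 23]),
  ([0, 4, 2, 6, 3, 10, 18, 17, 16, 12, 19, 22, 13, 8, 11, 15, 9, 5, 1, 7, 14, 20, 21, 23], [0, 18, 2, 4, 1, 17, 3, 19, 13, 16, 5, 14, 9, 12, 20, 15, 8, 7, 6, 10, 21, 22, 11, 23]),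
  ([0, 6, 13, 16, 1, 7, 12, 19, 2, 4, 20, 14, 9, 3, 5, 21, 8, 17, 18, 11, 15, 22, 10, 23], [0, 4, 8, 13, 9, 14, 1, 5, 16, 12, 22, 19, 6, 2, 11, 20, 3, 17, 18, 7, 10, 15, 21, 23]),
  ([0, 16, 9, 2, 18, 11, 4, 20, 13, 6, 22, 15, 8, 1, 17, 10, 3, 19, 12, 5, 21, 14, 7, 23], [0, 13, 3, 16, 6, 19, 9, 22, 12, 2, 15, 5, 18, 8, 21, 11, 1, 14, 4, 17, 7, 20, 10, 23]),
  ([0, 2, 8, 13, 12, 5, 6, 22, 9, 16, 14, 21, 3, 18, 19, 7, 1, 20, 4, 17, 10, 15, 11, 23], [0, 16, 1, 12, 18, 5, 6, 15, 2, 8, 20, 22, 4, 3, 10, 21, 9, 19, 13, 14, 17, 11, 7, 23]),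
  ([0, 13, 3, 9, 4, 17, 16, 14, 8, 2, 15, 10, 1, 12, 20, 11, 18, 22, 6, 19, 7, 21, 5, 23], [0, 12, 9, 2, 4, 22, 18, 20, 8, 3, 11, 15, 13, 1, 7, 10, 6, 5, 16, 19, 14, 21, 17, 23]),
  ([0, 9, 1, 8, 6, 19, 2, 15, 3, 13, 21, 7, 18, 4, 22, 5, 12, 14, 16, 20, 11, 10, 17, 23], [0, 2, 6, 8, 13, 15, 4, 11, 3, 1, 21, 20, 16, 9, 17, 7, 18, 22, 12, 5, 19, 10, 14, 23]),
  ([0, 8, 18, 3, 16, 20, 13, 21, 1, 9, 10, 11, 12, 6, 14, 17, 4, 15, 2, 22, 5, 7, 19, 23], [0, 8, 18, 3, 16, 20, 13, 21, 1, 9, 10, 11, 12, 6, 14, 17, 4, 15, 2, 22, 5, 7, 19, 23]),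
  ([0, 3, 12, 1, 2, 22, 9, 10, 18, 8, 7, 5, 4, 16, 15, 19, 6, 21, 13, 14, 17, 11, 20, 23], [0, 3, 4, 1, 12, 11, 16, 10, 9, 6, 7, 21, 2, 18, 19, 14, 13, 20, 8, 15, 22, 17, 5, 23]),
  ([0, 1, 4, 18, 13, 14, 8, 7, 12, 3, 11, 17, 6, 2, 21, 20, 16, 10, 9, 15, 19, 5, 22, 23], [0, 1, 13, 9, 2, 21, 12, 7, 6, 18, 17, 10, 8, 4, 5, 19, 16, 11, 3, 20, 15, 14, 22, 23]),
  ([0, 4, 3, 6, 2, 14, 1, 19, 12, 16, 17, 5, 13, 9, 7, 15, 8, 22, 18, 11, 10, 20, 21, 23], [0, 6, 4, 2, 1, 11, 3, 14, 16, 13, 20, 19, 8, 12, 5, 15, 9, 10, 18, 7, 21, 22, 17, 23]),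
  ([0, 6, 1, 16, 13, 15, 18, 20, 4, 2, 19, 17, 9, 8, 11, 21, 3, 14, 12, 5, 7, 22, 10, 23], [0, 2, 9, 16, 8, 19, 1, 20, 13, 12, 22, 14, 18, 4, 17, 5, 3, 11, 6, 10, 7, 15, 21, 23]),
  ([0, 16, 18, 2, 9, 21, 12, 22, 6, 13, 20, 19, 8, 3, 5, 10, 1, 15, 4, 17, 11, 14, 7, 23], [0, 16, 3, 13, 18, 14, 8, 22, 12, 4, 15, 20, 6, 9, 21, 17, 1, 19, 2, 11, 10, 5, 7, 23]),
  ([0, 2, 12, 13, 8, 10, 4, 14, 16, 9, 22, 20, 3, 1, 17, 7, 18, 21, 6, 19, 5, 15, 11, 23], [0, 13, 1, 12, 6, 20, 18, 15, 4, 9, 5, 22, 2, 3, 7, 21, 8, 14, 16, 19, 11, 17, 10, 23]),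
  ([0, 13, 4, 9, 3, 7, 6, 15, 2, 8, 14, 22, 1, 18, 19, 11, 12, 10, 16, 20, 17, 21, 5, 23], [0, 12, 8, 4, 2, 22, 6, 5, 9, 3, 17, 15, 16, 1, 10, 7, 18, 20, 13, 14, 19, 21, 11, 23]),
  ([0, 9, 6, 8, 1, 11, 16, 21, 13, 3, 15, 14, 18, 12, 20, 5, 4, 7, 2, 22, 19, 10, 17, 23], [0, 4, 18, 9, 16, 15, 2, 17, 3, 1, 21, 5, 13, 8, 11, 10, 6, 22, 12, 20, 14, 7, 19, 23]),
  ([0, 8, 16, 3, 18, 5, 2, 10, 9, 1, 21, 15, 12, 4, 22, 17, 6, 11, 13, 14, 20, 7, 19, 23], [0, 9, 6, 3, 13, 5, 16, 21, 1, 8, 7, 17, 12, 18, 19, 11, 2, 15, 4, 22, 20, 10, 14, 23]),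
  ([0, 3, 2, 1, 12, 17, 13, 7, 8, 18, 10, 21, 4, 6, 14, 19, 16, 5, 9, 15, 22, 11, 20, 23], [0, 3, 2, 1, 12, 17, 13, 7, 8, 18, 10, 21, 4, 6, 14, 19, 16, 5, 9, 15, 22, 11, 20, 23]),
  ([0, 1, 13, 18, 4, 19, 9, 11, 3, 12, 7, 10, 6, 16, 15, 20, 2, 17, 8, 21, 14, 5, 22, 23], [0, 1, 16, 8, 4, 21, 12, 10, 18, 6, 11, 7, 9, 2, 20, 14, 13, 17, 3, 5, 15, 19, 22, 23]),
  ([0, 18, 9, 12, 6, 20, 8, 5, 1, 4, 11, 7, 16, 2, 21, 22, 13, 19, 3, 10, 15, 17, 14, 23], [0, 8, 13, 18, 9, 7, 4, 11, 6, 2, 19, 10, 3, 16, 22, 20, 12, 21, 1, 17, 5, 14, 15, 23]),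
  ([0, 12, 8, 4, 16, 22, 3, 17, 18, 6, 5, 11, 2, 13, 10, 14, 9, 20, 1, 7, 21, 19, 15, 23], [0, 18, 12, 6, 3, 10, 9, 19, 2, 16, 14, 11, 1, 13, 15, 22, 4, 7, 8, 21, 17, 20, 5, 23]),
  ([0, 12, 1, 3, 8, 21, 16, 5, 6, 13, 20, 17, 9, 2, 22, 14, 18, 15, 4, 19, 7, 10, 11, 23], [0, 2, 13, 3, 18, 7, 8, 20, 4, 12, 21, 22, 1, 9, 15, 17, 6, 11, 16, 19, 10, 5, 14, 23]),
  ([0, 4, 18, 1, 3, 10, 2, 17, 16, 9, 22, 19, 8, 13, 14, 15, 12, 21, 6, 20, 11, 7, 5, 23], [0, 3, 6, 4, 1, 22, 18, 21, 12, 9, 5, 20, 16, 13, 14, 15, 8, 7, 2, 11, 19, 17, 10, 23]),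
  ([0, 6, 12, 18, 1, 7, 13, 19, 2, 8, 14, 20, 3, 9, 15, 21, 4, 10, 16, 22, 5, 11, 17, 23], [0, 4, 8, 12, 16, 20, 1, 5, 9, 13, 17, 21, 2, 6, 10, 14, 18, 22, 3, 7, 11, 15, 19, 23]),
  ([0, 16, 4, 12, 18, 11, 9, 20, 13, 3, 15, 22, 1, 8, 21, 10, 6, 7, 2, 14, 17, 5, 19, 23], [0, 12, 18, 9, 2, 21, 16, 17, 13, 6, 15, 5, 3, 8, 19, 10, 1, 20, 4, 22, 7, 14, 11, 23]),
  ([0, 2, 6, 4, 12, 5, 8, 22, 9, 1, 21, 14, 18, 3, 10, 7, 16, 11, 13, 15, 19, 17, 20, 23], [0, 9, 1, 13, 3, 5, 2, 15, 6, 8, 14, 17, 4, 18, 11, 19, 16, 21, 12, 20, 22, 10, 7, 23]),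
  ([0, 13, 16, 6, 4, 17, 3, 14, 8, 18, 10, 15, 12, 1, 7, 11, 2, 5, 9, 21, 20, 19, 22, 23], [0, 13, 16, 6, 4, 17, 3, 14, 8, 18, 10, 15, 12, 1, 7, 11, 2, 5, 9, 21, 20, 19, 22, 23]),
  ([0, 9, 2, 16, 6, 19, 1, 15, 3, 12, 7, 21, 4, 18, 11, 5, 13, 17, 8, 10, 22, 20, 14, 23], [0, 6, 2, 8, 12, 15, 4, 10, 18, 1, 19, 14, 9, 16, 22, 7, 3, 17, 13, 5, 21, 11, 20, 23]),
  ([0, 8, 13, 2, 16, 20, 18, 21, 1, 4, 11, 10, 6, 12, 5, 17, 9, 19, 3, 7, 14, 22, 15, 23], [0, 8, 3, 18, 9, 14, 12, 19, 1, 16, 11, 10, 13, 2, 20, 22, 4, 15, 6, 17, 5, 7, 21, 23]),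
  ([0, 3, 9, 13, 2, 22, 12, 10, 18, 6, 5, 7, 16, 4, 17, 19, 8, 20, 1, 11, 15, 14, 21, 23], [0, 18, 4, 1, 13, 10, 9, 11, 16, 2, 7, 19, 6, 3, 21, 20, 12, 14, 8, 15, 17, 22, 5, 23]),
  ([0, 1, 8, 9, 13, 14, 4, 7, 12, 16, 17, 11, 2, 6, 19, 20, 3, 22, 18, 5, 21, 15, 10, 23], [0, 1, 12, 16, 6, 19, 13, 7, 2, 3, 22, 11, 8, 4, 5, 21, 9, 10, 18, 14, 15, 20, 17, 23]),
  ([0, 18, 3, 8, 9, 15, 6, 11, 4, 2, 19, 5, 13, 16, 20, 22, 1, 14, 12, 17, 10, 21, 7, 23], [0, 16, 9, 2, 8, 11, 6, 22, 3, 4, 20, 7, 18, 12, 17, 5, 13, 19, 1, 10, 14, 21, 15, 23]),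
  ([0, 6, 16, 1, 18, 11, 13, 17, 3, 9, 10, 20, 2, 8, 15, 21, 4, 14, 12, 5, 22, 7, 19, 23], [0, 3, 12, 8, 16, 19, 1, 21, 13, 9, 10, 5, 18, 6, 17, 14, 2, 7, 4, 22, 11, 15, 20, 23]),
  ([0, 16, 2, 18, 12, 5, 9, 19, 1, 8, 7, 22, 13, 3, 21, 10, 6, 15, 4, 17, 14, 11, 20, 23], [0, 8, 2, 13, 18, 5, 16, 10, 9, 6, 15, 21, 4, 12, 20, 17, 1, 19, 3, 7, 22, 14, 11, 23]),
  ([0, 2, 13, 12, 4, 17, 8, 20, 18, 3, 11, 14, 9, 1, 10, 7, 16, 21, 6, 19, 15, 5, 22, 23], [0, 13, 1, 9, 4, 21, 18, 15, 6, 12, 14, 10, 3, 2, 11, 20, 16, 5, 8, 19, 7, 17, 22, 23]),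
  ([0, 13, 9, 4, 6, 19, 3, 22, 12, 1, 5, 15, 8, 18, 7, 11, 2, 10, 16, 20, 21, 17, 14, 23], [0, 9, 16, 6, 3, 10, 4, 14, 12, 2, 17, 15, 8, 1, 22, 11, 18, 21, 13, 5, 19, 20, 7, 23]),
  ([0, 9, 8, 6, 16, 20, 1, 14, 4, 18, 17, 21, 3, 12, 11, 5, 13, 7, 2, 22, 10, 19, 15, 23], [0, 6, 18, 12, 8, 15, 3, 17, 2, 1, 20, 14, 13, 16, 7, 22, 4, 10, 9, 21, 5, 11, 19, 23]),
  ([0, 8, 3, 16, 2, 22, 18, 15, 6, 12, 19, 10, 1, 4, 5, 17, 9, 11, 13, 14, 7, 20, 21, 23], [0, 12, 4, 2, 13, 14, 8, 20, 1, 16, 11, 17, 9, 18, 19, 7, 3, 15, 6, 10, 21, 22, 5, 23]),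
  ([0, 3, 1, 2, 13, 14, 12, 21, 16, 4, 20, 7, 18, 6, 17, 19, 8, 5, 9, 15, 11, 22, 10, 23], [0, 2, 3, 1, 9, 17, 13, 11, 16, 18, 22, 20, 6, 4, 5, 19, 8, 14, 12, 15, 10, 7, 21, 23]),
  ([0, 1, 18, 13, 9, 15, 4, 10, 2, 6, 22, 11, 12, 16, 19, 20, 3, 17, 8, 21, 5, 14, 7, 23], [0, 1, 8, 16, 6, 20, 9, 22, 18, 4, 7, 11, 12, 3, 21, 5, 13, 17, 2, 14, 15, 19, 10, 23]),
  ([0, 18, 12, 9, 8, 21, 6, 7, 13, 16, 14, 5, 4, 2, 20, 22, 1, 19, 3, 10, 17, 15, 11, 23], [0, 16, 13, 18, 12, 11, 6, 7, 4, 3, 19, 22, 2, 8, 10, 21, 9, 20, 1, 17, 14, 5, 15, 23]),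
  ([0, 12, 4, 8, 3, 10, 16, 11, 9, 2, 15, 17, 6, 13, 22, 14, 18, 20, 1, 7, 19, 21, 5, 23], [0, 18, 9, 4, 2, 22, 12, 19, 3, 8, 5, 7, 1, 13, 15, 10, 6, 11, 16, 20, 17, 21, 14, 23]),
  ([0, 4, 6, 3, 1, 7, 2, 5, 8, 13, 21, 19, 16, 9, 14, 15, 12, 22, 18, 11, 20, 10, 17, 23], [0, 4, 6, 3, 1, 7, 2, 5, 8, 13, 21, 19, 16, 9, 14, 15, 12, 22, 18, 11, 20, 10, 17, 23]),
  ([0, 8, 9, 1, 4, 22, 18, 10, 12, 6, 11, 15, 16, 2, 14, 20, 3, 19, 13, 5, 7, 17, 21, 23], [0, 3, 13, 16, 4, 19, 9, 20, 1, 2, 7, 10, 8, 18, 14, 11, 12, 21, 6, 17, 15, 22, 5, 23]),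
  ([0, 13, 2, 8, 18, 19, 3, 15, 1, 12, 10, 22, 4, 6, 20, 17, 9, 5, 16, 7, 21, 11, 14, 23], [0, 8, 2, 6, 12, 17, 13, 19, 3, 16, 10, 21, 9, 1, 22, 7, 18, 15, 4, 5, 14, 20, 11, 23]),
  ([0, 16, 6, 13, 3, 5, 9, 22, 8, 1, 15, 19, 18, 12, 17, 11, 2, 7, 4, 21, 14, 10, 20, 23], [0, 9, 16, 4, 18, 5, 2, 17, 8, 6, 21, 15, 13, 3, 20, 10, 1, 14, 12, 11, 22, 19, 7, 23]),
  ([0, 4, 12, 16, 9, 7, 2, 19, 13, 8, 22, 5, 3, 1, 11, 10, 6, 21, 18, 14, 20, 15, 17, 23], [0, 13, 6, 12, 1, 11, 16, 5, 9, 4, 15, 14, 2, 8, 19, 21, 3, 22, 18, 7, 20, 17, 10, 23]),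
  ([0, 18, 1, 4, 2, 21, 6, 5, 16, 13, 19, 7, 9, 8, 10, 15, 12, 14, 3, 20, 17, 22, 11, 23], [0, 2, 4, 18, 3, 7, 6, 11, 13, 12, 14, 22, 16, 9, 17, 15, 8, 20, 1, 10, 19, 5, 21, 23]),
  ([0, 3, 8, 18, 6, 14, 12, 7, 4, 16, 5, 21, 2, 13, 15, 22, 1, 20, 9, 17, 11, 19, 10, 23], [0, 16, 12, 1, 8, 10, 4, 7, 2, 18, 22, 20, 6, 13, 5, 14, 9, 19, 3, 21, 17, 11, 15, 23]),
  ([0, 9, 13, 3, 12, 20, 1, 21, 18, 4, 7, 14, 6, 16, 22, 19, 8, 17, 2, 11, 10, 5, 15, 23], [0, 6, 18, 3, 9, 21, 12, 10, 16, 1, 20, 19, 4, 2, 11, 22, 13, 17, 8, 15, 5, 7, 14, 23]),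
  ([0, 2, 16, 9, 1, 17, 8, 14, 3, 18, 21, 20, 12, 4, 19, 5, 13, 11, 6, 10, 15, 7, 22, 23], [0, 4, 1, 8, 13, 15, 18, 21, 6, 3, 19, 17, 12, 16, 7, 20, 2, 5, 9, 14, 11, 10, 22, 23]),
  ([0, 6, 4, 2, 8, 11, 13, 20, 9, 3, 14, 17, 1, 18, 5, 7, 16, 10, 12, 15, 22, 21, 19, 23], [0, 12, 3, 9, 2, 14, 1, 15, 4, 8, 17, 5, 18, 6, 10, 19, 16, 11, 13, 22, 7, 21, 20, 23]),
  ([0, 12, 18, 6, 13, 10, 16, 17, 2, 9, 20, 11, 8, 3, 7, 21, 4, 15, 1, 22, 19, 14, 5, 23], [0, 18, 8, 13, 16, 22, 3, 14, 12, 9, 5, 11, 1, 4, 21, 17, 6, 7, 2, 20, 10, 15, 19, 23]),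
  ([0, 1, 3, 12, 16, 15, 4, 11, 6, 2, 17, 10, 13, 9, 21, 14, 18, 22, 8, 19, 5, 20, 7, 23], [0, 1, 9, 2, 6, 20, 8, 22, 18, 13, 11, 7, 3, 12, 15, 5, 4, 10, 16, 19, 21, 14, 17, 23]),
  ([0, 3, 12, 8, 16, 19, 1, 21, 13, 9, 10, 5, 18, 6, 17, 14, 2, 7, 4, 22, 11, 15, 20, 23], [0, 6, 16, 1, 18, 11, 13, 17, 3, 9, 10, 20, 2, 8, 15, 21, 4, 14, 12, 5, 22, 7, 19, 23]),
  ([0, 9, 1, 13, 4, 5, 8, 14, 16, 2, 15, 7, 3, 12, 11, 20, 6, 21, 18, 19, 10, 22, 17, 23], [0, 2, 9, 12, 4, 5, 16, 11, 6, 1, 20, 14, 13, 3, 7, 10, 8, 22, 18, 19, 15, 17, 21, 23]),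
  ([0, 2, 8, 16, 18, 7, 13, 20, 4, 6, 22, 21, 9, 1, 10, 17, 12, 14, 3, 5, 15, 19, 11, 23], [0, 13, 1, 18, 8, 19, 9, 5, 2, 12, 14, 22, 16, 6, 17, 20, 3, 15, 4, 21, 7, 11, 10, 23]),
  ([0, 6, 13, 4, 3, 21, 16, 17, 18, 12, 19, 14, 2, 8, 15, 11, 1, 20, 9, 7, 22, 5, 10, 23], [0, 16, 12, 4, 3, 21, 1, 19, 13, 18, 22, 15, 9, 2, 11, 14, 6, 7, 8, 10, 17, 5, 20, 23]),
  ([0, 12, 16, 18, 9, 14, 4, 11, 3, 1, 5, 20, 6, 13, 22, 10, 8, 17, 2, 21, 19, 7, 15, 23], [0, 9, 18, 8, 6, 10, 12, 21, 16, 4, 15, 7, 1, 13, 5, 22, 2, 17, 3, 20, 11, 19, 14, 23]),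
  ([0, 1, 4, 3, 2, 20, 18, 10, 9, 8, 7, 17, 12, 16, 19, 15, 13, 11, 6, 14, 5, 21, 22, 23], [0, 1, 4, 3, 2, 20, 18, 10, 9, 8, 7, 17, 12, 16, 19, 15, 13, 11, 6, 14, 5, 21, 22, 23]),
  ([0, 8, 18, 9, 6, 17, 3, 15, 2, 13, 21, 11, 1, 4, 5, 22, 16, 10, 12, 20, 7, 14, 19, 23], [0, 12, 8, 6, 13, 14, 4, 20, 1, 3, 17, 11, 18, 9, 21, 7, 16, 5, 2, 22, 19, 10, 15, 23]),
  ([0, 13, 3, 2, 12, 11, 9, 22, 6, 16, 14, 10, 8, 18, 7, 19, 4, 15, 1, 17, 21, 20, 5, 23], [0, 18, 3, 2, 16, 22, 8, 14, 12, 6, 11, 5, 4, 1, 10, 17, 9, 19, 13, 15, 21, 20, 7, 23]),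
  ([0, 16, 9, 6, 1, 10, 2, 19, 12, 4, 20, 15, 13, 3, 21, 5, 18, 22, 8, 11, 14, 17, 7, 23], [0, 4, 6, 13, 9, 15, 3, 22, 18, 2, 5, 19, 8, 12, 20, 11, 1, 21, 16, 7, 10, 14, 17, 23]),
  ([0, 4, 2, 12, 8, 15, 6, 5, 1, 18, 17, 22, 16, 9, 14, 7, 3, 19, 13, 10, 20, 11, 21, 23], [0, 8, 2, 16, 1, 7, 6, 15, 4, 13, 19, 21, 3, 18, 14, 5, 12, 10, 9, 17, 20, 22, 11, 23]),
  ([0, 18, 6, 1, 13, 22, 12, 7, 8, 3, 11, 19, 4, 2, 20, 21, 9, 5, 16, 15, 17, 10, 14, 23], [0, 3, 13, 9, 12, 17, 2, 7, 8, 16, 21, 10, 6, 4, 22, 19, 18, 20, 1, 11, 14, 15, 5, 23]),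
  ([0, 2, 13, 3, 18, 7, 8, 20, 4, 12, 21, 22, 1, 9, 15, 17, 6, 11, 16, 19, 10, 5, 14, 23], [0, 12, 1, 3, 8, 21, 16, 5, 6, 13, 20, 17, 9, 2, 22, 14, 18, 15, 4, 19, 7, 10, 11, 23]),
  ([0, 6, 16, 9, 3, 21, 13, 17, 18, 1, 14, 19, 8, 2, 22, 11, 12, 10, 4, 5, 15, 7, 20, 23], [0, 9, 13, 4, 18, 19, 1, 21, 12, 3, 17, 15, 16, 6, 10, 20, 2, 7, 8, 11, 22, 5, 14, 23]),
  ([0, 12, 4, 2, 9, 14, 16, 11, 3, 8, 20, 5, 13, 6, 19, 10, 1, 15, 18, 7, 22, 21, 17, 23], [0, 16, 3, 8, 2, 11, 13, 19, 9, 4, 15, 7, 1, 12, 5, 17, 6, 22, 18, 14, 10, 21, 20, 23]),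
  ([0, 1, 18, 6, 2, 20, 4, 10, 9, 13, 17, 7, 16, 12, 5, 15, 8, 22, 3, 21, 19, 14, 11, 23], [0, 1, 4, 18, 6, 14, 3, 11, 16, 8, 7, 22, 13, 9, 21, 15, 12, 10, 2, 20, 5, 19, 17, 23]),
  ([0, 8, 3, 12, 6, 17, 18, 15, 2, 16, 11, 21, 4, 1, 7, 22, 13, 19, 9, 14, 5, 20, 10, 23], [0, 13, 8, 2, 12, 20, 4, 14, 1, 18, 22, 10, 3, 16, 19, 7, 9, 5, 6, 17, 21, 11, 15, 23]),
  ([0, 13, 9, 1, 12, 11, 3, 22, 6, 4, 10, 14, 18, 8, 21, 19, 16, 5, 2, 20, 7, 17, 15, 23], [0, 3, 18, 6, 9, 17, 8, 20, 13, 2, 10, 5, 4, 1, 11, 22, 16, 21, 12, 15, 19, 14, 7, 23]),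
  ([0, 16, 2, 8, 1, 10, 9, 19, 12, 18, 15, 20, 3, 13, 14, 5, 4, 7, 6, 17, 21, 11, 22, 23], [0, 4, 2, 12, 16, 15, 18, 17, 3, 6, 5, 21, 8, 13, 14, 10, 1, 19, 9, 7, 11, 20, 22, 23]),
  ([0, 4, 6, 13, 8, 15, 2, 5, 1, 3, 22, 17, 9, 16, 20, 7, 18, 21, 12, 11, 14, 10, 19, 23], [0, 8, 6, 9, 1, 7, 2, 15, 4, 12, 21, 19, 18, 3, 20, 5, 13, 11, 16, 22, 14, 17, 10, 23]),
  ([0, 18, 12, 16, 13, 22, 6, 7, 8, 9, 19, 11, 2, 4, 17, 21, 3, 14, 1, 10, 20, 15, 5, 23], [0, 18, 12, 16, 13, 22, 6, 7, 8, 9, 19, 11, 2, 4, 17, 21, 3, 14, 1, 10, 20, 15, 5, 23]),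
  ([0, 3, 1, 4, 16, 19, 12, 21, 13, 2, 5, 10, 6, 18, 11, 14, 9, 20, 8, 15, 17, 22, 7, 23], [0, 2, 9, 1, 3, 10, 12, 22, 18, 16, 11, 14, 6, 8, 15, 19, 4, 20, 13, 5, 17, 7, 21, 23]),
  ([0, 9, 8, 18, 4, 5, 1, 14, 16, 6, 7, 15, 12, 3, 10, 20, 2, 17, 13, 22, 11, 19, 21, 23], [0, 6, 16, 13, 4, 5, 9, 10, 2, 1, 14, 20, 12, 18, 7, 11, 8, 17, 3, 21, 15, 22, 19, 23]),
  ([0, 6, 4, 2, 1, 11, 3, 14, 16, 13, 20, 19, 8, 12, 5, 15, 9, 10, 18, 7, 21, 22, 17, 23], [0, 4, 3, 6, 2, 14, 1, 19, 12, 16, 17, 5, 13, 9, 7, 15, 8, 22, 18, 11, 10, 20, 21, 23]),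
  ([0, 12, 18, 6, 8, 10, 9, 20, 4, 16, 17, 5, 13, 1, 7, 22, 2, 15, 3, 21, 14, 19, 11, 23], [0, 13, 16, 18, 8, 11, 3, 14, 4, 6, 5, 22, 1, 12, 20, 17, 9, 10, 2, 21, 7, 19, 15, 23]),
  ([0, 1, 3, 12, 13, 15, 2, 17, 18, 4, 11, 7, 16, 8, 21, 19, 6, 22, 9, 14, 20, 5, 10, 23], [0, 1, 6, 2, 9, 21, 16, 11, 13, 18, 22, 10, 3, 4, 19, 5, 12, 7, 8, 15, 20, 14, 17, 23]),
  ([0, 8, 9, 1, 16, 22, 6, 11, 3, 18, 10, 21, 4, 13, 14, 5, 12, 19, 2, 20, 17, 7, 15, 23], [0, 3, 18, 8, 12, 15, 6, 21, 1, 2, 10, 7, 16, 13, 14, 22, 4, 20, 9, 17, 19, 11, 5, 23]),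
  ([0, 13, 2, 8, 4, 19, 12, 10, 9, 3, 15, 14, 18, 16, 20, 7, 1, 5, 6, 17, 11, 21, 22, 23], [0, 16, 2, 9, 4, 17, 18, 15, 3, 8, 7, 20, 6, 1, 11, 10, 13, 19, 12, 5, 14, 21, 22, 23]),
  ([0, 16, 6, 13, 18, 5, 1, 15, 2, 9, 22, 20, 3, 4, 17, 21, 8, 7, 12, 11, 10, 14, 19, 23], [0, 6, 8, 12, 13, 5, 2, 17, 16, 9, 20, 19, 18, 3, 21, 7, 1, 14, 4, 22, 11, 15, 10, 23]),
  ([0, 4, 12, 16, 3, 7, 8, 22, 6, 2, 19, 17, 9, 18, 11, 14, 13, 21, 1, 10, 15, 20, 5, 23], [0, 18, 9, 4, 1, 22, 8, 5, 6, 12, 19, 14, 2, 16, 15, 20, 3, 11, 13, 10, 21, 17, 7, 23]),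
  ([0, 18, 1, 4, 9, 21, 13, 19, 12, 6, 5, 11, 2, 3, 10, 20, 16, 14, 8, 15, 22, 17, 7, 23], [0, 2, 12, 13, 3, 10, 9, 22, 18, 4, 14, 11, 8, 6, 17, 19, 16, 21, 1, 7, 15, 5, 20, 23]),
  ([0, 3, 8, 18, 2, 14, 16, 5, 1, 12, 7, 10, 6, 9, 15, 17, 4, 20, 13, 22, 19, 11, 21, 23], [0, 8, 4, 1, 16, 7, 12, 10, 2, 13, 11, 21, 9, 18, 5, 14, 6, 15, 3, 20, 17, 22, 19, 23]),
  ([0, 9, 13, 3, 6, 20, 4, 7, 8, 1, 21, 15, 12, 2, 22, 11, 18, 17, 16, 19, 5, 10, 14, 23], [0, 9, 13, 3, 6, 20, 4, 7, 8, 1, 21, 15, 12, 2, 22, 11, 18, 17, 16, 19, 5, 10, 14, 23]),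
  ([0, 2, 16, 9, 12, 17, 18, 21, 13, 8, 14, 22, 1, 6, 19, 10, 3, 11, 4, 5, 7, 15, 20, 23], [0, 12, 1, 16, 18, 19, 13, 20, 9, 3, 15, 17, 4, 8, 10, 21, 2, 5, 6, 14, 22, 7, 11, 23]),
  ([0, 9, 16, 6, 8, 10, 2, 17, 18, 4, 14, 7, 3, 13, 22, 5, 12, 21, 1, 11, 20, 19, 15, 23], [0, 18, 6, 12, 9, 15, 3, 11, 4, 1, 5, 19, 16, 13, 10, 22, 2, 7, 8, 21, 20, 17, 14, 23]),
  ([0, 2, 4, 12, 13, 15, 6, 11, 3, 18, 20, 21, 9, 16, 19, 7, 1, 14, 8, 10, 17, 5, 22, 23], [0, 16, 1, 8, 2, 21, 6, 15, 18, 12, 19, 7, 3, 4, 17, 5, 13, 20, 9, 14, 10, 11, 22, 23]),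
  ([0, 6, 18, 1, 16, 22, 12, 10, 9, 3, 17, 14, 2, 4, 5, 21, 8, 20, 13, 15, 11, 7, 19, 23], [0, 3, 12, 9, 13, 14, 1, 21, 16, 8, 7, 20, 6, 18, 11, 19, 4, 10, 2, 22, 17, 15, 5, 23]),
  ([0, 12, 3, 8, 4, 19, 1, 15, 2, 9, 11, 20, 6, 18, 7, 14, 13, 17, 16, 22, 10, 21, 5, 23], [0, 6, 8, 2, 4, 22, 12, 14, 3, 9, 20, 10, 1, 16, 15, 7, 18, 17, 13, 5, 11, 21, 19, 23]),
  ([0, 1, 9, 13, 18, 5, 8, 22, 6, 2, 10, 17, 12, 3, 21, 20, 16, 11, 4, 19, 15, 14, 7, 23], [0, 1, 9, 13, 18, 5, 8, 22, 6, 2, 10, 17, 12, 3, 21, 20, 16, 11, 4, 19, 15, 14, 7, 23]),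
  ([0, 8, 2, 16, 3, 7, 13, 19, 12, 6, 15, 11, 1, 9, 14, 17, 4, 10, 18, 5, 22, 20, 21, 23], [0, 12, 2, 4, 16, 19, 9, 5, 1, 13, 17, 11, 8, 6, 14, 10, 3, 15, 18, 7, 21, 22, 20, 23]),
  ([0, 13, 6, 4, 9, 21, 16, 5, 1, 12, 22, 10, 8, 2, 20, 11, 18, 15, 3, 7, 19, 17, 14, 23], [0, 8, 13, 18, 3, 7, 2, 19, 12, 4, 11, 15, 9, 1, 22, 17, 6, 21, 16, 20, 14, 5, 10, 23]),
  ([0, 16, 12, 18, 2, 14, 4, 7, 8, 1, 19, 15, 13, 6, 17, 10, 3, 22, 9, 21, 5, 11, 20, 23], [0, 9, 4, 16, 6, 20, 13, 7, 8, 18, 15, 21, 2, 12, 5, 11, 1, 14, 3, 10, 22, 19, 17, 23]),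
  ([0, 4, 1, 3, 6, 20, 18, 21, 13, 8, 5, 22, 16, 12, 11, 15, 9, 19, 2, 14, 7, 10, 17, 23], [0, 2, 18, 3, 1, 10, 4, 20, 9, 16, 21, 14, 13, 8, 19, 15, 12, 22, 6, 17, 5, 7, 11, 23]),
  ([0, 18, 8, 9, 12, 17, 3, 14, 16, 13, 7, 19, 4, 1, 10, 22, 2, 5, 6, 20, 21, 15, 11, 23], [0, 13, 16, 6, 12, 17, 18, 10, 2, 3, 14, 22, 4, 9, 7, 21, 8, 5, 1, 11, 19, 20, 15, 23]),
  ([0, 3, 13, 2, 1, 11, 9, 20, 4, 16, 21, 5, 18, 8, 15, 19, 6, 7, 12, 17, 14, 22, 10, 23], [0, 4, 3, 1, 8, 11, 16, 17, 13, 6, 22, 5, 18, 2, 20, 14, 9, 19, 12, 15, 7, 10, 21, 23]),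
  ([0, 12, 18, 9, 3, 21, 6, 15, 1, 16, 17, 11, 2, 4, 19, 22, 13, 20, 8, 10, 14, 7, 5, 23], [0, 8, 12, 4, 13, 22, 6, 21, 18, 3, 19, 11, 1, 16, 20, 7, 9, 10, 2, 14, 17, 5, 15, 23]),
  ([0, 1, 3, 2, 9, 14, 12, 22, 8, 4, 11, 10, 6, 18, 5, 19, 16, 17, 13, 15, 20, 21, 7, 23], [0, 1, 3, 2, 9, 14, 12, 22, 8, 4, 11, 10, 6, 18, 5, 19, 16, 17, 13, 15, 20, 21, 7, 23]),
  ([0, 8, 9, 6, 2, 20, 1, 19, 13, 18, 10, 15, 12, 3, 7, 5, 4, 11, 16, 22, 17, 14, 21, 23], [0, 6, 4, 13, 16, 15, 3, 14, 1, 2, 10, 17, 12, 8, 21, 11, 18, 20, 9, 7, 5, 22, 19, 23]),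
  ([0, 13, 2, 12, 6, 17, 8, 5, 16, 3, 15, 22, 1, 9, 21, 7, 18, 10, 4, 19, 11, 20, 14, 23], [0, 12, 2, 9, 18, 7, 4, 15, 6, 13, 17, 20, 3, 1, 22, 10, 8, 5, 16, 19, 21, 14, 11, 23]),
  ([0, 16, 6, 1, 12, 11, 13, 7, 4, 9, 22, 19, 8, 2, 14, 21, 3, 15, 18, 5, 10, 17, 20, 23], [0, 3, 13, 16, 8, 19, 2, 7, 12, 9, 20, 5, 4, 6, 14, 17, 1, 21, 18, 11, 22, 15, 10, 23]),
  ([0, 4, 12, 8, 1, 10, 16, 21, 18, 2, 19, 5, 13, 6, 20, 14, 9, 22, 3, 7, 15, 11, 17, 23], [0, 4, 9, 18, 1, 11, 13, 19, 3, 16, 5, 21, 2, 12, 15, 20, 6, 22, 8, 10, 14, 7, 17, 23]),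
  ([0, 18, 1, 13, 8, 15, 4, 14, 3, 6, 5, 7, 16, 12, 17, 20, 2, 19, 9, 21, 22, 10, 11, 23], [0, 2, 16, 8, 6, 10, 9, 11, 4, 18, 21, 22, 13, 3, 7, 5, 12, 14, 1, 17, 15, 19, 20, 23]),
  ([0, 3, 8, 16, 13, 22, 18, 20, 9, 12, 7, 21, 4, 1, 11, 17, 6, 5, 2, 14, 19, 15, 10, 23], [0, 13, 18, 1, 12, 17, 16, 10, 2, 8, 22, 14, 9, 4, 19, 21, 3, 15, 6, 20, 7, 11, 5, 23]),
  ([0, 9, 13, 4, 16, 19, 3, 17, 2, 1, 21, 14, 18, 8, 10, 11, 12, 7, 6, 20, 5, 22, 15, 23], [0, 9, 8, 6, 3, 20, 18, 17, 13, 1, 14, 15, 16, 2, 11, 22, 4, 7, 12, 5, 19, 10, 21, 23]),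
  ([0, 2, 16, 18, 4, 5, 9, 11, 6, 8, 14, 20, 3, 13, 15, 10, 1, 21, 12, 17, 7, 19, 22, 23], [0, 16, 1, 12, 4, 5, 8, 20, 9, 6, 15, 7, 18, 13, 10, 14, 2, 19, 3, 21, 11, 17, 22, 23]),
  ([0, 6, 4, 3, 18, 7, 2, 10, 12, 13, 20, 17, 9, 16, 22, 15, 8, 14, 1, 11, 21, 5, 19, 23], [0, 18, 6, 3, 2, 21, 1, 5, 16, 12, 7, 19, 8, 9, 17, 15, 13, 11, 4, 22, 10, 20, 14, 23]),
  ([0, 13, 1, 12, 2, 20, 9, 5, 8, 18, 15, 10, 6, 16, 7, 19, 4, 14, 3, 21, 17, 11, 22, 23], [0, 2, 4, 18, 16, 7, 12, 14, 8, 6, 11, 21, 3, 1, 17, 10, 13, 20, 9, 15, 5, 19, 22, 23]),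
  ([0, 16, 8, 1, 6, 17, 2, 7, 13, 3, 22, 15, 12, 4, 21, 5, 18, 20, 9, 14, 11, 10, 19, 23], [0, 3, 6, 9, 13, 15, 4, 7, 2, 18, 21, 20, 12, 8, 19, 11, 1, 5, 16, 22, 17, 14, 10, 23]),
  ([0, 4, 13, 8, 12, 11, 6, 21, 16, 9, 19, 22, 1, 18, 14, 7, 3, 17, 2, 20, 10, 15, 5, 23], [0, 12, 18, 16, 1, 22, 6, 15, 3, 9, 20, 5, 4, 2, 14, 21, 8, 17, 13, 10, 19, 7, 11, 23]),
  ([0, 18, 16, 13, 1, 10, 12, 14, 4, 2, 5, 19, 8, 3, 20, 21, 9, 11, 6, 17, 15, 22, 7, 23], [0, 4, 9, 13, 8, 10, 18, 22, 12, 16, 5, 17, 6, 3, 7, 20, 2, 19, 1, 11, 14, 15, 21, 23]),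
  ([0, 3, 4, 16, 8, 15, 1, 20, 18, 6, 7, 5, 13, 9, 17, 14, 2, 10, 12, 11, 22, 19, 21, 23], [0, 6, 16, 1, 2, 11, 9, 10, 4, 13, 17, 19, 18, 12, 15, 5, 3, 14, 8, 21, 7, 22, 20, 23]),
  ([0, 9, 18, 4, 13, 22, 8, 17, 3, 12, 21, 7, 16, 2, 11, 20, 6, 15, 1, 10, 19, 5, 14, 23], [0, 18, 13, 8, 3, 21, 16, 11, 6, 1, 19, 14, 9, 4, 22, 17, 12, 7, 2, 20, 15, 10, 5, 23]),
  ([0, 2, 3, 18, 16, 19, 13, 11, 9, 1, 14, 21, 4, 6, 10, 17, 12, 22, 8, 15, 5, 7, 20, 23], [0, 9, 1, 2, 12, 20, 13, 21, 18, 8, 14, 7, 16, 6, 10, 19, 4, 15, 3, 5, 22, 11, 17, 23]),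
  ([0, 6, 9, 3, 4, 5, 16, 10, 2, 8, 20, 14, 18, 12, 15, 11, 1, 19, 13, 22, 7, 21, 17, 23], [0, 16, 8, 3, 4, 5, 1, 20, 9, 2, 7, 15, 13, 18, 11, 14, 6, 22, 12, 17, 10, 21, 19, 23]),
  ([0, 12, 2, 9, 18, 7, 4, 15, 6, 13, 17, 20, 3, 1, 22, 10, 8, 5, 16, 19, 21, 14, 11, 23], [0, 13, 2, 12, 6, 17, 8, 5, 16, 3, 15, 22, 1, 9, 21, 7, 18, 10, 4, 19, 11, 20, 14, 23]),
  ([0, 1, 6, 2, 3, 21, 18, 22, 12, 16, 11, 17, 9, 8, 19, 15, 13, 7, 4, 5, 14, 20, 10, 23], [0, 1, 3, 4, 18, 19, 2, 17, 13, 12, 22, 10, 8, 16, 20, 15, 9, 11, 6, 14, 21, 5, 7, 23]),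
  ([0, 8, 12, 6, 9, 14, 3, 19, 1, 4, 10, 11, 2, 13, 5, 22, 16, 21, 18, 7, 20, 17, 15, 23], [0, 8, 12, 6, 9, 14, 3, 19, 1, 4, 10, 11, 2, 13, 5, 22, 16, 21, 18, 7, 20, 17, 15, 23]),
  ([0, 4, 8, 13, 6, 14, 12, 22, 3, 1, 5, 21, 9, 18, 11, 7, 16, 17, 2, 20, 15, 10, 19, 23], [0, 9, 18, 8, 1, 10, 4, 15, 2, 12, 21, 14, 6, 3, 5, 20, 16, 17, 13, 22, 19, 11, 7, 23]),
  ([0, 18, 13, 16, 12, 20, 1, 19, 9, 8, 7, 14, 2, 3, 10, 21, 4, 11, 6, 17, 22, 15, 5, 23], [0, 6, 12, 13, 16, 22, 18, 10, 9, 8, 14, 17, 4, 2, 11, 21, 3, 19, 1, 7, 5, 15, 20, 23]),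
  ([0, 3, 16, 4, 1, 17, 8, 5, 2, 13, 21, 20, 6, 9, 15, 14, 18, 10, 12, 11, 19, 22, 7, 23], [0, 4, 8, 1, 3, 7, 12, 22, 6, 13, 17, 19, 18, 9, 15, 14, 2, 5, 16, 20, 11, 10, 21, 23]),
  ([0, 9, 4, 18, 8, 11, 13, 7, 6, 16, 14, 17, 12, 2, 22, 20, 3, 15, 1, 10, 5, 19, 21, 23], [0, 18, 13, 16, 2, 20, 8, 7, 4, 1, 19, 5, 12, 6, 10, 17, 9, 11, 3, 21, 15, 22, 14, 23]),
  ([0, 2, 18, 3, 13, 10, 16, 21, 12, 4, 20, 11, 1, 6, 19, 17, 9, 22, 8, 15, 7, 5, 14, 23], [0, 12, 1, 3, 9, 21, 13, 20, 18, 16, 5, 11, 8, 4, 22, 19, 6, 15, 2, 14, 10, 7, 17, 23]),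
  ([0, 6, 3, 9, 16, 15, 4, 14, 1, 18, 17, 10, 8, 12, 5, 11, 2, 19, 13, 22, 21, 7, 20, 23], [0, 8, 16, 2, 6, 14, 1, 21, 12, 3, 11, 15, 13, 18, 7, 5, 4, 10, 9, 17, 22, 20, 19, 23]),
  ([0, 12, 9, 2, 4, 22, 18, 20, 8, 3, 11, 15, 13, 1, 7, 10, 6, 5, 16, 19, 14, 21, 17, 23], [0, 13, 3, 9, 4, 17, 16, 14, 8, 2, 15, 10, 1, 12, 20, 11, 18, 22, 6, 19, 7, 21, 5, 23]),
  ([0, 1, 2, 6, 18, 19, 3, 17, 13, 9, 10, 22, 16, 8, 21, 15, 12, 7, 4, 5, 20, 14, 11, 23], [0, 1, 2, 6, 18, 19, 3, 17, 13, 9, 10, 22, 16, 8, 21, 15, 12, 7, 4, 5, 20, 14, 11, 23]),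
  ([0, 8, 6, 12, 3, 5, 9, 11, 16, 2, 15, 19, 4, 13, 14, 22, 1, 21, 18, 7, 17, 20, 10, 23], [0, 16, 9, 4, 12, 5, 2, 19, 1, 6, 22, 7, 3, 13, 14, 10, 8, 20, 18, 11, 21, 17, 15, 23]),
  ([0, 13, 12, 1, 9, 7, 2, 10, 4, 6, 22, 5, 18, 16, 20, 19, 8, 14, 3, 21, 11, 17, 15, 23], [0, 3, 6, 18, 8, 11, 9, 5, 16, 4, 7, 20, 2, 1, 17, 22, 13, 21, 12, 15, 14, 19, 10, 23]),
  ([0, 16, 1, 8, 2, 21, 6, 15, 18, 12, 19, 7, 3, 4, 17, 5, 13, 20, 9, 14, 10, 11, 22, 23], [0, 2, 4, 12, 13, 15, 6, 11, 3, 18, 20, 21, 9, 16, 19, 7, 1, 14, 8, 10, 17, 5, 22, 23]),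
  ([0, 16, 3, 4, 9, 17, 13, 19, 2, 8, 22, 20, 12, 1, 10, 11, 18, 15, 6, 14, 5, 21, 7, 23], [0, 13, 8, 2, 3, 20, 18, 22, 9, 4, 14, 15, 12, 6, 19, 17, 1, 5, 16, 7, 11, 21, 10, 23]),
  ([0, 4, 9, 18, 2, 11, 16, 5, 6, 13, 19, 17, 1, 8, 15, 10, 3, 22, 12, 20, 7, 14, 21, 23], [0, 12, 4, 16, 1, 7, 8, 20, 13, 2, 15, 5, 18, 9, 21, 14, 6, 11, 3, 10, 19, 22, 17, 23]),
  ([0, 18, 2, 3, 6, 10, 4, 7, 12, 16, 5, 11, 8, 13, 22, 15, 9, 19, 1, 17, 21, 20, 14, 23], [0, 18, 2, 3, 6, 10, 4, 7, 12, 16, 5, 11, 8, 13, 22, 15, 9, 19, 1, 17, 21, 20, 14, 23]),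
  ([0, 3, 6, 9, 12, 15, 18, 21, 1, 4, 7, 10, 13, 16, 19, 22, 2, 5, 8, 11, 14, 17, 20, 23], [0, 8, 16, 1, 9, 17, 2, 10, 18, 3, 11, 19, 4, 12, 20, 5, 13, 21, 6, 14, 22, 7, 15, 23]),
  ([0, 9, 12, 2, 1, 22, 3, 14, 8, 18, 21, 15, 16, 4, 5, 19, 6, 7, 13, 10, 20, 11, 17, 23], [0, 4, 3, 6, 13, 14, 16, 17, 8, 1, 19, 21, 2, 18, 7, 11, 12, 22, 9, 15, 20, 10, 5, 23]),
  ([0, 2, 1, 6, 8, 19, 9, 20, 13, 3, 14, 22, 4, 18, 7, 5, 12, 21, 16, 15, 17, 10, 11, 23], [0, 2, 1, 9, 12, 15, 3, 14, 4, 6, 21, 22, 16, 8, 10, 19, 18, 20, 13, 5, 7, 17, 11, 23]),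
  ([0, 6, 8, 12, 13, 5, 2, 17, 16, 9, 20, 19, 18, 3, 21, 7, 1, 14, 4, 22, 11, 15, 10, 23], [0, 16, 6, 13, 18, 5, 1, 15, 2, 9, 22, 20, 3, 4, 17, 21, 8, 7, 12, 11, 10, 14, 19, 23]),
  ([0, 12, 13, 1, 16, 7, 6, 11, 4, 2, 17, 5, 3, 9, 14, 21, 8, 20, 18, 19, 10, 22, 15, 23], [0, 3, 9, 12, 8, 11, 6, 5, 16, 13, 20, 7, 1, 2, 14, 22, 4, 10, 18, 19, 17, 15, 21, 23]),
  ([0, 1, 16, 8, 4, 21, 12, 10, 18, 6, 11, 7, 9, 2, 20, 14, 13, 17, 3, 5, 15, 19, 22, 23], [0, 1, 13, 18, 4, 19, 9, 11, 3, 12, 7, 10, 6, 16, 15, 20, 2, 17, 8, 21, 14, 5, 22, 23]),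
  ([0, 8, 4, 13, 18, 14, 1, 15, 3, 12, 10, 21, 2, 6, 17, 20, 16, 11, 9, 7, 22, 5, 19, 23], [0, 6, 12, 8, 2, 21, 13, 19, 1, 18, 10, 17, 9, 3, 5, 7, 16, 14, 4, 22, 15, 11, 20, 23]),
  ([0, 13, 18, 16, 3, 20, 8, 22, 9, 1, 15, 14, 6, 12, 11, 17, 4, 10, 2, 21, 19, 7, 5, 23], [0, 9, 18, 4, 16, 22, 12, 21, 6, 8, 17, 14, 13, 1, 11, 10, 3, 15, 2, 20, 5, 19, 7, 23]),
  ([0, 18, 2, 16, 12, 15, 4, 7, 6, 3, 19, 14, 13, 8, 21, 10, 1, 5, 9, 17, 22, 20, 11, 23], [0, 16, 2, 9, 6, 17, 8, 7, 13, 18, 15, 22, 4, 12, 11, 5, 3, 19, 1, 10, 21, 14, 20, 23]),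
  ([0, 3, 6, 4, 1, 22, 18, 21, 12, 9, 5, 20, 16, 13, 14, 15, 8, 7, 2, 11, 19, 17, 10, 23], [0, 4, 18, 1, 3, 10, 2, 17, 16, 9, 22, 19, 8, 13, 14, 15, 12, 21, 6, 20, 11, 7, 5, 23]),
  ([0, 9, 12, 18, 8, 19, 3, 14, 1, 2, 7, 17, 4, 16, 20, 22, 13, 21, 6, 10, 5, 11, 15, 23], [0, 8, 9, 6, 12, 20, 18, 10, 4, 1, 19, 21, 2, 16, 7, 22, 13, 11, 3, 5, 14, 17, 15, 23]),
  ([0, 2, 1, 3, 13, 5, 9, 20, 8, 6, 21, 11, 18, 4, 17, 19, 16, 14, 12, 15, 7, 10, 22, 23], [0, 2, 1, 3, 13, 5, 9, 20, 8, 6, 21, 11, 18, 4, 17, 19, 16, 14, 12, 15, 7, 10, 22, 23]),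
  ([0, 6, 8, 9, 16, 7, 2, 17, 13, 12, 14, 10, 3, 18, 11, 5, 4, 20, 1, 22, 21, 15, 19, 23], [0, 18, 6, 12, 16, 15, 1, 5, 2, 3, 11, 14, 9, 8, 10, 21, 4, 7, 13, 22, 17, 20, 19, 23]),
  ([0, 12, 13, 2, 4, 21, 6, 11, 16, 1, 20, 15, 9, 3, 10, 7, 18, 17, 8, 19, 14, 22, 5, 23], [0, 9, 3, 13, 4, 22, 6, 15, 18, 12, 14, 7, 1, 2, 20, 11, 8, 17, 16, 19, 10, 5, 21, 23]),
  ([0, 1, 16, 6, 18, 14, 12, 10, 4, 8, 17, 22, 2, 9, 15, 21, 3, 11, 13, 5, 20, 19, 7, 23], [0, 1, 12, 16, 8, 19, 3, 22, 9, 13, 7, 17, 6, 18, 5, 14, 2, 10, 4, 21, 20, 15, 11, 23]),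
  ([0, 8, 4, 12, 3, 20, 1, 15, 18, 13, 11, 19, 6, 2, 22, 14, 9, 10, 16, 7, 17, 5, 21, 23], [0, 6, 13, 4, 2, 21, 12, 19, 1, 16, 17, 10, 3, 9, 15, 7, 18, 20, 8, 11, 5, 22, 14, 23]),
  ([0, 13, 18, 1, 9, 17, 8, 22, 3, 16, 10, 5, 12, 6, 19, 20, 2, 15, 4, 21, 11, 7, 14, 23], [0, 3, 16, 8, 18, 11, 13, 21, 6, 4, 10, 20, 12, 1, 22, 17, 9, 5, 2, 14, 15, 19, 7, 23]),
  ([0, 16, 3, 8, 2, 11, 13, 19, 9, 4, 15, 7, 1, 12, 5, 17, 6, 22, 18, 14, 10, 21, 20, 23], [0, 12, 4, 2, 9, 14, 16, 11, 3, 8, 20, 5, 13, 6, 19, 10, 1, 15, 18, 7, 22, 21, 17, 23]),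
  ([0, 4, 9, 13, 6, 10, 16, 5, 2, 18, 22, 21, 8, 1, 7, 11, 12, 19, 3, 20, 15, 14, 17, 23], [0, 13, 8, 18, 1, 7, 4, 14, 12, 2, 5, 15, 16, 3, 21, 20, 6, 22, 9, 17, 19, 11, 10, 23]),
  ([0, 1, 6, 18, 13, 5, 16, 11, 9, 2, 7, 17, 4, 3, 20, 21, 8, 22, 12, 15, 19, 14, 10, 23], [0, 1, 9, 13, 12, 5, 2, 10, 16, 8, 22, 7, 18, 4, 21, 19, 6, 11, 3, 20, 14, 15, 17, 23]),
  ([0, 8, 12, 3, 16, 7, 4, 10, 2, 6, 21, 11, 18, 9, 17, 14, 13, 19, 1, 22, 5, 20, 15, 23], [0, 18, 8, 3, 6, 20, 9, 5, 1, 13, 7, 11, 2, 16, 15, 22, 4, 14, 12, 17, 21, 10, 19, 23]),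
  ([0, 13, 1, 9, 4, 21, 18, 15, 6, 12, 14, 10, 3, 2, 11, 20, 16, 5, 8, 19, 7, 17, 22, 23], [0, 2, 13, 12, 4, 17, 8, 20, 18, 3, 11, 14, 9, 1, 10, 7, 16, 21, 6, 19, 15, 5, 22, 23]),
  ([0, 16, 8, 2, 18, 14, 3, 22, 12, 1, 20, 15, 9, 6, 10, 17, 4, 7, 13, 5, 21, 11, 19, 23], [0, 9, 3, 6, 16, 19, 13, 17, 2, 12, 14, 21, 8, 18, 5, 11, 1, 15, 4, 22, 10, 20, 7, 23]),
  ([0, 4, 13, 6, 3, 20, 9, 19, 1, 8, 17, 22, 2, 12, 15, 11, 18, 21, 16, 7, 14, 10, 5, 23], [0, 8, 12, 4, 1, 22, 3, 19, 9, 6, 21, 15, 13, 2, 20, 14, 18, 10, 16, 7, 5, 17, 11, 23]),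
  ([0, 18, 16, 12, 9, 17, 2, 5, 8, 13, 11, 19, 6, 1, 22, 10, 3, 14, 4, 21, 20, 15, 7, 23], [0, 13, 6, 16, 18, 7, 12, 22, 8, 4, 15, 10, 3, 9, 17, 21, 2, 5, 1, 11, 20, 19, 14, 23]),
  ([0, 3, 4, 1, 2, 11, 6, 7, 13, 16, 10, 5, 12, 8, 19, 15, 9, 20, 18, 14, 17, 22, 21, 23], [0, 3, 4, 1, 2, 11, 6, 7, 13, 16, 10, 5, 12, 8, 19, 15, 9, 20, 18, 14, 17, 22, 21, 23]),
  ([0, 9, 18, 8, 6, 10, 12, 21, 16, 4, 15, 7, 1, 13, 5, 22, 2, 17, 3, 20, 11, 19, 14, 23], [0, 12, 16, 18, 9, 14, 4, 11, 3, 1, 5, 20, 6, 13, 22, 10, 8, 17, 2, 21, 19, 7, 15, 23]),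
  ([0, 2, 3, 13, 12, 15, 1, 14, 4, 18, 22, 21, 8, 16, 7, 19, 6, 11, 9, 17, 10, 5, 20, 23], [0, 6, 1, 2, 8, 21, 16, 14, 12, 18, 20, 17, 4, 3, 7, 5, 13, 19, 9, 15, 22, 11, 10, 23]),
  ([0, 6, 9, 16, 1, 22, 8, 20, 18, 3, 19, 14, 13, 4, 21, 5, 12, 10, 2, 11, 15, 7, 17, 23], [0, 4, 18, 9, 13, 15, 1, 21, 6, 2, 17, 19, 16, 12, 11, 20, 3, 22, 8, 10, 7, 14, 5, 23]),
  ([0, 12, 2, 4, 8, 19, 13, 17, 3, 9, 5, 20, 16, 18, 14, 7, 1, 15, 6, 10, 22, 21, 11, 23], [0, 16, 2, 8, 3, 10, 18, 15, 4, 9, 19, 22, 1, 6, 14, 17, 12, 7, 13, 5, 11, 21, 20, 23]),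
  ([0, 12, 6, 8, 4, 21, 13, 11, 16, 18, 15, 20, 3, 9, 14, 7, 1, 5, 2, 22, 10, 19, 17, 23], [0, 16, 18, 12, 4, 17, 2, 15, 3, 13, 20, 7, 1, 6, 14, 10, 8, 22, 9, 21, 11, 5, 19, 23]),
  ([0, 13, 8, 4, 9, 17, 18, 22, 3, 2, 5, 10, 6, 12, 11, 20, 16, 14, 1, 7, 19, 21, 15, 23], [0, 18, 9, 8, 3, 10, 12, 19, 2, 4, 11, 14, 13, 1, 17, 22, 16, 5, 6, 20, 15, 21, 7, 23]),
  ([0, 18, 4, 9, 12, 15, 2, 7, 6, 1, 14, 19, 8, 13, 22, 10, 3, 11, 16, 20, 21, 17, 5, 23], [0, 9, 6, 16, 2, 22, 8, 7, 12, 3, 15, 17, 4, 13, 10, 5, 18, 21, 1, 11, 19, 20, 14, 23]),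
  ([0, 2, 9, 12, 13, 5, 1, 20, 8, 16, 11, 21, 4, 18, 7, 19, 6, 22, 3, 10, 17, 15, 14, 23], [0, 6, 1, 18, 12, 5, 16, 14, 8, 2, 19, 10, 3, 4, 22, 21, 9, 20, 13, 15, 7, 11, 17, 23]),
  ([0, 1, 12, 13, 18, 14, 16, 10, 4, 3, 22, 17, 9, 2, 20, 21, 8, 7, 6, 19, 15, 5, 11, 23], [0, 1, 13, 9, 8, 21, 18, 17, 16, 12, 7, 22, 2, 3, 5, 20, 6, 11, 4, 19, 14, 15, 10, 23]),
  ([0, 16, 13, 18, 2, 11, 3, 19, 9, 6, 7, 15, 12, 1, 10, 17, 4, 20, 8, 21, 5, 14, 22, 23], [0, 13, 4, 6, 16, 20, 9, 10, 18, 8, 14, 5, 12, 2, 21, 11, 1, 15, 3, 7, 17, 19, 22, 23]),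
  ([0, 3, 18, 2, 1, 22, 6, 21, 12, 8, 20, 5, 13, 16, 19, 15, 9, 10, 4, 17, 14, 11, 7, 23], [0, 4, 3, 1, 18, 11, 6, 22, 9, 16, 17, 21, 8, 12, 20, 15, 13, 19, 2, 14, 10, 7, 5, 23]),
  ([0, 6, 2, 1, 16, 7, 8, 17, 13, 4, 10, 14, 18, 3, 21, 5, 12, 19, 9, 15, 11, 22, 20, 23], [0, 3, 2, 13, 9, 15, 1, 5, 6, 18, 10, 20, 16, 8, 11, 19, 4, 7, 12, 17, 22, 14, 21, 23]),
  ([0, 8, 1, 16, 3, 20, 4, 15, 18, 9, 19, 11, 2, 6, 17, 14, 13, 21, 12, 5, 22, 7, 10, 23], [0, 2, 12, 4, 6, 19, 13, 21, 1, 9, 22, 11, 18, 16, 15, 7, 3, 14, 8, 10, 5, 17, 20, 23]),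
  ([0, 4, 16, 3, 6, 10, 9, 5, 2, 12, 21, 22, 1, 8, 15, 11, 18, 17, 13, 14, 7, 20, 19, 23], [0, 12, 8, 3, 1, 7, 4, 20, 13, 6, 5, 15, 9, 18, 19, 14, 2, 17, 16, 22, 21, 10, 11, 23]),
  ([0, 9, 3, 6, 8, 19, 12, 14, 1, 13, 17, 7, 16, 4, 5, 22, 2, 15, 18, 11, 20, 10, 21, 23], [0, 8, 16, 2, 13, 14, 3, 11, 4, 1, 21, 19, 6, 9, 7, 17, 12, 10, 18, 5, 20, 22, 15, 23]),
  ([0, 18, 4, 9, 8, 15, 1, 14, 3, 2, 7, 5, 12, 16, 22, 20, 6, 11, 13, 10, 17, 21, 19, 23], [0, 6, 9, 8, 2, 11, 16, 10, 4, 3, 19, 17, 12, 18, 7, 5, 13, 20, 1, 22, 15, 21, 14, 23]),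
  ([0, 2, 9, 12, 4, 5, 16, 11, 6, 1, 20, 14, 13, 3, 7, 10, 8, 22, 18, 19, 15, 17, 21, 23], [0, 9, 1, 13, 4, 5, 8, 14, 16, 2, 15, 7, 3, 12, 11, 20, 6, 21, 18, 19, 10, 22, 17, 23]),
  ([0, 1, 12, 13, 9, 14, 3, 22, 8, 16, 10, 11, 18, 6, 20, 19, 4, 7, 2, 21, 5, 15, 17, 23], [0, 1, 18, 6, 16, 20, 13, 17, 8, 4, 10, 11, 2, 3, 5, 21, 9, 22, 12, 15, 14, 19, 7, 23]),
  ([0, 16, 13, 18, 12, 11, 6, 7, 4, 3, 19, 22, 2, 8, 10, 21, 9, 20, 1, 17, 14, 5, 15, 23], [0, 18, 12, 9, 8, 21, 6, 7, 13, 16, 14, 5, 4, 2, 20, 22, 1, 19, 3, 10, 17, 15, 11, 23]),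
  ([0, 3, 18, 2, 13, 22, 8, 20, 9, 6, 21, 7, 1, 4, 19, 17, 12, 10, 16, 15, 11, 14, 5, 23], [0, 12, 3, 1, 13, 22, 9, 11, 6, 8, 17, 20, 16, 4, 21, 19, 18, 15, 2, 14, 7, 10, 5, 23]),
  ([0, 6, 2, 1, 18, 7, 4, 10, 12, 8, 17, 20, 16, 9, 21, 15, 13, 19, 3, 5, 22, 11, 14, 23], [0, 3, 2, 18, 6, 19, 1, 5, 9, 13, 7, 21, 8, 16, 22, 15, 12, 10, 4, 17, 11, 14, 20, 23]),
  ([0, 8, 1, 16, 2, 20, 9, 19, 13, 4, 15, 10, 3, 12, 17, 5, 18, 21, 6, 14, 7, 22, 11, 23], [0, 2, 4, 12, 9, 15, 18, 20, 1, 6, 11, 22, 13, 8, 19, 10, 3, 14, 16, 7, 5, 17, 21, 23]),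
  ([0, 4, 16, 3, 1, 10, 12, 21, 18, 9, 5, 19, 6, 13, 15, 14, 2, 17, 8, 11, 20, 7, 22, 23], [0, 4, 16, 3, 1, 10, 12, 21, 18, 9, 5, 19, 6, 13, 15, 14, 2, 17, 8, 11, 20, 7, 22, 23]),
  ([0, 9, 3, 6, 16, 19, 13, 17, 2, 12, 14, 21, 8, 18, 5, 11, 1, 15, 4, 22, 10, 20, 7, 23], [0, 16, 8, 2, 18, 14, 3, 22, 12, 1, 20, 15, 9, 6, 10, 17, 4, 7, 13, 5, 21, 11, 19, 23]),
  ([0, 12, 6, 8, 3, 21, 18, 15, 1, 13, 11, 17, 4, 2, 14, 22, 16, 5, 9, 7, 19, 10, 20, 23], [0, 8, 13, 4, 12, 17, 2, 19, 3, 18, 21, 10, 1, 9, 14, 7, 16, 11, 6, 20, 22, 5, 15, 23]),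
  ([0, 13, 8, 4, 6, 17, 2, 5, 16, 18, 22, 15, 9, 1, 11, 7, 3, 14, 12, 20, 21, 19, 10, 23], [0, 13, 6, 16, 3, 7, 4, 15, 2, 12, 22, 14, 18, 1, 17, 11, 8, 5, 9, 21, 19, 20, 10, 23]),
  ([0, 2, 8, 16, 9, 7, 6, 22, 12, 13, 20, 11, 18, 3, 10, 5, 4, 14, 1, 17, 19, 15, 21, 23], [0, 18, 1, 13, 16, 15, 6, 5, 2, 4, 14, 11, 8, 9, 17, 21, 3, 19, 12, 20, 10, 22, 7, 23]),
  ([0, 1, 4, 3, 12, 20, 8, 7, 13, 18, 10, 22, 2, 6, 19, 14, 9, 11, 16, 15, 21, 5, 17, 23], [0, 1, 12, 3, 2, 21, 13, 7, 6, 16, 10, 17, 4, 8, 15, 19, 18, 22, 9, 14, 5, 20, 11, 23]),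
  ([0, 16, 9, 6, 13, 10, 4, 20, 18, 2, 19, 7, 1, 8, 21, 11, 12, 22, 3, 5, 17, 14, 15, 23], [0, 12, 9, 18, 6, 19, 3, 11, 13, 2, 5, 15, 16, 4, 21, 22, 1, 20, 8, 10, 7, 14, 17, 23]),
  ([0, 3, 12, 8, 18, 19, 9, 10, 2, 1, 21, 20, 16, 4, 17, 22, 13, 7, 6, 14, 15, 11, 5, 23], [0, 9, 8, 1, 13, 22, 18, 17, 3, 6, 7, 21, 2, 16, 19, 20, 12, 14, 4, 5, 11, 10, 15, 23]),
  ([0, 6, 13, 4, 2, 21, 12, 19, 1, 16, 17, 10, 3, 9, 15, 7, 18, 20, 8, 11, 5, 22, 14, 23], [0, 8, 4, 12, 3, 20, 1, 15, 18, 13, 11, 19, 6, 2, 22, 14, 9, 10, 16, 7, 17, 5, 21, 23]),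
  ([0, 8, 18, 9, 1, 17, 13, 21, 16, 3, 15, 19, 6, 12, 5, 20, 2, 10, 4, 22, 14, 7, 11, 23], [0, 4, 16, 9, 18, 14, 12, 21, 1, 3, 17, 22, 13, 6, 20, 10, 8, 5, 2, 11, 15, 7, 19, 23]),
  ([0, 4, 2, 12, 16, 15, 18, 17, 3, 6, 5, 21, 8, 13, 14, 10, 1, 19, 9, 7, 11, 20, 22, 23], [0, 16, 2, 8, 1, 10, 9, 19, 12, 18, 15, 20, 3, 13, 14, 5, 4, 7, 6, 17, 21, 11, 22, 23]),
  ([0, 9, 1, 13, 3, 5, 2, 15, 6, 8, 14, 17, 4, 18, 11, 19, 16, 21, 12, 20, 22, 10, 7, 23], [0, 2, 6, 4, 12, 5, 8, 22, 9, 1, 21, 14, 18, 3, 10, 7, 16, 11, 13, 15, 19, 17, 20, 23]),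
  ([0, 12, 16, 18, 6, 14, 1, 5, 8, 4, 11, 15, 9, 2, 22, 21, 3, 17, 13, 10, 7, 19, 20, 23], [0, 6, 13, 16, 9, 7, 4, 20, 8, 12, 19, 10, 1, 18, 5, 11, 2, 17, 3, 21, 22, 15, 14, 23]),
  ([0, 13, 3, 2, 8, 11, 16, 14, 4, 9, 22, 5, 12, 1, 7, 17, 6, 15, 18, 19, 20, 21, 10, 23], [0, 13, 3, 2, 8, 11, 16, 14, 4, 9, 22, 5, 12, 1, 7, 17, 6, 15, 18, 19, 20, 21, 10, 23]),
  ([0, 18, 6, 1, 4, 22, 3, 11, 9, 12, 7, 14, 13, 16, 20, 15, 8, 5, 2, 21, 10, 17, 19, 23], [0, 3, 18, 6, 4, 17, 2, 10, 16, 8, 20, 7, 9, 12, 11, 15, 13, 21, 1, 22, 14, 19, 5, 23]),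
  ([0, 13, 9, 3, 16, 20, 4, 10, 18, 1, 5, 14, 2, 12, 17, 11, 8, 22, 6, 19, 21, 7, 15, 23], [0, 9, 12, 3, 6, 10, 18, 21, 16, 2, 7, 15, 13, 1, 11, 22, 4, 14, 8, 19, 5, 20, 17, 23]),
  ([0, 18, 12, 6, 3, 10, 9, 19, 2, 16, 14, 11, 1, 13, 15, 22, 4, 7, 8, 21, 17, 20, 5, 23], [0, 12, 8, 4, 16, 22, 3, 17, 18, 6, 5, 11, 2, 13, 10, 14, 9, 20, 1, 7, 21, 19, 15, 23]),
  ([0, 2, 13, 8, 6, 19, 12, 21, 1, 3, 11, 22, 16, 18, 5, 7, 9, 20, 4, 17, 15, 10, 14, 23], [0, 8, 1, 9, 18, 14, 4, 15, 3, 16, 21, 10, 6, 2, 22, 20, 12, 19, 13, 5, 17, 7, 11, 23]),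
  ([0, 1, 18, 4, 8, 21, 13, 17, 16, 6, 22, 7, 3, 2, 14, 20, 12, 10, 9, 15, 5, 19, 11, 23], [0, 1, 13, 12, 3, 20, 9, 11, 4, 18, 17, 22, 16, 6, 14, 19, 8, 7, 2, 21, 15, 5, 10, 23]),
  ([0, 16, 2, 9, 4, 17, 18, 15, 3, 8, 7, 20, 6, 1, 11, 10, 13, 19, 12, 5, 14, 21, 22, 23], [0, 13, 2, 8, 4, 19, 12, 10, 9, 3, 15, 14, 18, 16, 20, 7, 1, 5, 6, 17, 11, 21, 22, 23]),
  ([0, 3, 1, 12, 9, 15, 2, 5, 6, 4, 20, 10, 8, 16, 22, 19, 18, 21, 13, 14, 11, 17, 7, 23], [0, 2, 6, 1, 9, 7, 8, 22, 12, 4, 11, 20, 3, 18, 19, 5, 13, 21, 16, 15, 10, 17, 14, 23]),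
  ([0, 6, 16, 13, 12, 5, 1, 14, 8, 9, 10, 19, 4, 3, 7, 21, 2, 17, 18, 11, 22, 15, 20, 23], [0, 6, 16, 13, 12, 5, 1, 14, 8, 9, 10, 19, 4, 3, 7, 21, 2, 17, 18, 11, 22, 15, 20, 23]),
  ([0, 8, 3, 18, 13, 14, 16, 11, 4, 12, 19, 21, 9, 6, 20, 17, 1, 15, 2, 22, 7, 5, 10, 23], [0, 16, 18, 2, 8, 21, 13, 20, 1, 12, 22, 7, 9, 4, 5, 17, 6, 15, 3, 10, 14, 11, 19, 23]),
  ([0, 4, 6, 2, 18, 11, 3, 22, 9, 13, 21, 17, 12, 8, 10, 15, 16, 5, 1, 7, 20, 14, 19, 23], [0, 18, 3, 6, 1, 17, 2, 19, 13, 8, 14, 5, 12, 9, 21, 15, 16, 11, 4, 22, 20, 10, 7, 23]),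
  ([0, 9, 8, 1, 2, 22, 6, 7, 12, 18, 17, 15, 13, 4, 19, 5, 3, 14, 16, 20, 10, 11, 21, 23], [0, 3, 4, 16, 13, 15, 6, 7, 2, 1, 20, 21, 8, 12, 17, 11, 18, 10, 9, 14, 19, 22, 5, 23]),
  ([0, 12, 4, 16, 1, 7, 8, 20, 13, 2, 15, 5, 18, 9, 21, 14, 6, 11, 3, 10, 19, 22, 17, 23], [0, 4, 9, 18, 2, 11, 16, 5, 6, 13, 19, 17, 1, 8, 15, 10, 3, 22, 12, 20, 7, 14, 21, 23]),
  ([0, 1, 16, 12, 3, 5, 8, 17, 2, 6, 11, 22, 13, 18, 19, 14, 9, 10, 4, 21, 15, 20, 7, 23], [0, 1, 8, 4, 18, 5, 9, 22, 6, 16, 17, 10, 3, 12, 15, 20, 2, 7, 13, 14, 21, 19, 11, 23]),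
  ([0, 16, 3, 13, 6, 14, 4, 15, 1, 8, 22, 7, 18, 2, 21, 11, 12, 19, 9, 17, 5, 10, 20, 23], [0, 8, 13, 2, 6, 20, 4, 11, 9, 18, 21, 15, 16, 3, 5, 7, 1, 19, 12, 17, 22, 14, 10, 23]),
  ([0, 3, 6, 18, 8, 11, 9, 5, 16, 4, 7, 20, 2, 1, 17, 22, 13, 21, 12, 15, 14, 19, 10, 23], [0, 13, 12, 1, 9, 7, 2, 10, 4, 6, 22, 5, 18, 16, 20, 19, 8, 14, 3, 21, 11, 17, 15, 23]),
  ([0, 6, 8, 2, 4, 22, 12, 14, 3, 9, 20, 10, 1, 16, 15, 7, 18, 17, 13, 5, 11, 21, 19, 23], [0, 12, 3, 8, 4, 19, 1, 15, 2, 9, 11, 20, 6, 18, 7, 14, 13, 17, 16, 22, 10, 21, 5, 23]),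
  ([0, 8, 4, 1, 9, 7, 13, 11, 6, 12, 10, 19, 16, 3, 5, 20, 2, 15, 18, 14, 22, 17, 21, 23], [0, 3, 16, 13, 2, 14, 8, 5, 1, 4, 10, 7, 9, 6, 19, 17, 12, 21, 18, 11, 15, 22, 20, 23]),
  ([0, 4, 9, 16, 12, 20, 18, 22, 8, 13, 19, 21, 3, 6, 14, 10, 1, 5, 2, 11, 7, 15, 17, 23], [0, 16, 18, 12, 1, 17, 13, 20, 8, 2, 15, 19, 4, 9, 14, 21, 3, 22, 6, 10, 5, 11, 7, 23]),
  ([0, 9, 12, 3, 13, 10, 2, 7, 4, 18, 21, 17, 6, 8, 11, 19, 16, 14, 1, 22, 20, 5, 15, 23], [0, 18, 6, 3, 8, 21, 12, 7, 13, 1, 5, 14, 2, 4, 17, 22, 16, 11, 9, 15, 20, 10, 19, 23]),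
  ([0, 12, 13, 6, 18, 19, 1, 20, 9, 2, 17, 15, 8, 4, 22, 21, 3, 11, 16, 7, 10, 14, 5, 23], [0, 6, 9, 16, 13, 22, 3, 19, 12, 8, 20, 17, 1, 2, 21, 11, 18, 10, 4, 5, 7, 15, 14, 23]),
  ([0, 13, 18, 8, 2, 21, 16, 10, 12, 1, 15, 5, 4, 9, 7, 17, 6, 22, 3, 20, 19, 11, 14, 23], [0, 9, 4, 18, 12, 11, 16, 14, 3, 13, 7, 21, 8, 1, 22, 10, 6, 15, 2, 20, 19, 5, 17, 23]),
  ([0, 18, 2, 4, 1, 17, 3, 19, 13, 16, 5, 14, 9, 12, 20, 15, 8, 7, 6, 10, 21, 22, 11, 23], [0, 4, 2, 6, 3, 10, 18, 17, 16, 12, 19, 22, 13, 8, 11, 15, 9, 5, 1, 7, 14, 20, 21, 23]),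
  ([0, 2, 1, 9, 16, 15, 6, 21, 18, 3, 14, 11, 12, 13, 10, 5, 4, 20, 8, 19, 17, 7, 22, 23], [0, 2, 1, 9, 16, 15, 6, 21, 18, 3, 14, 11, 12, 13, 10, 5, 4, 20, 8, 19, 17, 7, 22, 23]),
  ([0, 6, 3, 18, 12, 11, 9, 19, 13, 4, 14, 10, 1, 2, 21, 22, 16, 17, 8, 15, 7, 5, 20, 23], [0, 12, 13, 2, 9, 21, 1, 20, 18, 6, 11, 5, 4, 8, 10, 19, 16, 17, 3, 7, 22, 14, 15, 23]),
  ([0, 8, 6, 2, 13, 22, 12, 21, 18, 9, 11, 19, 16, 1, 17, 7, 3, 15, 4, 5, 20, 14, 10, 23], [0, 13, 3, 16, 18, 19, 2, 15, 1, 9, 22, 10, 6, 4, 21, 17, 12, 14, 8, 11, 20, 7, 5, 23]),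
  ([0, 4, 8, 1, 18, 7, 13, 17, 2, 12, 22, 21, 3, 16, 15, 20, 6, 5, 9, 14, 10, 11, 19, 23], [0, 3, 8, 12, 1, 17, 16, 5, 2, 18, 20, 21, 9, 6, 19, 14, 13, 7, 4, 22, 15, 11, 10, 23]),
  ([0, 9, 4, 16, 2, 20, 18, 15, 1, 13, 7, 17, 6, 3, 5, 10, 8, 14, 12, 11, 19, 22, 21, 23], [0, 8, 4, 13, 2, 14, 12, 10, 16, 1, 15, 19, 18, 9, 17, 7, 3, 11, 6, 20, 5, 22, 21, 23]),
  ([0, 12, 9, 3, 1, 10, 2, 5, 16, 18, 20, 15, 8, 6, 14, 19, 4, 11, 13, 22, 21, 7, 17, 23], [0, 4, 6, 3, 16, 7, 13, 21, 12, 2, 5, 17, 1, 18, 14, 11, 8, 22, 9, 15, 10, 20, 19, 23]),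
  ([0, 13, 12, 6, 16, 19, 1, 14, 3, 2, 10, 5, 4, 8, 11, 21, 9, 22, 18, 7, 17, 20, 15, 23], [0, 6, 9, 8, 12, 11, 3, 19, 13, 16, 10, 14, 2, 1, 7, 22, 4, 20, 18, 5, 21, 15, 17, 23]),
  ([0, 18, 13, 8, 3, 21, 16, 11, 6, 1, 19, 14, 9, 4, 22, 17, 12, 7, 2, 20, 15, 10, 5, 23], [0, 9, 18, 4, 13, 22, 8, 17, 3, 12, 21, 7, 16, 2, 11, 20, 6, 15, 1, 10, 19, 5, 14, 23]),
  ([0, 2, 18, 4, 6, 17, 3, 22, 8, 16, 21, 11, 12, 9, 7, 15, 13, 20, 1, 10, 5, 19, 14, 23], [0, 18, 1, 6, 3, 20, 4, 14, 8, 13, 19, 11, 12, 16, 22, 15, 9, 5, 2, 21, 17, 10, 7, 23]),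
  ([0, 1, 2, 9, 8, 15, 6, 7, 4, 3, 17, 22, 13, 12, 20, 5, 18, 10, 16, 19, 14, 21, 11, 23], [0, 1, 2, 9, 8, 15, 6, 7, 4, 3, 17, 22, 13, 12, 20, 5, 18, 10, 16, 19, 14, 21, 11, 23]),
  ([0, 16, 1, 12, 4, 5, 8, 20, 9, 6, 15, 7, 18, 13, 10, 14, 2, 19, 3, 21, 11, 17, 22, 23], [0, 2, 16, 18, 4, 5, 9, 11, 6, 8, 14, 20, 3, 13, 15, 10, 1, 21, 12, 17, 7, 19, 22, 23]),
  ([0, 3, 16, 13, 9, 14, 4, 10, 12, 8, 5, 20, 2, 18, 19, 11, 1, 21, 6, 17, 22, 15, 7, 23], [0, 16, 12, 1, 6, 10, 18, 22, 9, 4, 7, 15, 8, 3, 5, 21, 2, 19, 13, 14, 11, 17, 20, 23]),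
  ([0, 4, 12, 2, 18, 14, 16, 21, 1, 8, 22, 17, 6, 13, 15, 10, 3, 19, 9, 7, 20, 11, 5, 23], [0, 8, 3, 16, 1, 22, 12, 19, 9, 18, 15, 21, 2, 13, 5, 14, 6, 11, 4, 17, 20, 7, 10, 23]),
  ([0, 9, 13, 1, 2, 11, 3, 17, 16, 4, 7, 15, 8, 18, 5, 19, 6, 21, 12, 20, 10, 22, 14, 23], [0, 3, 4, 6, 9, 14, 16, 10, 12, 1, 20, 5, 18, 2, 22, 11, 8, 7, 13, 15, 19, 17, 21, 23]),
  ([0, 12, 18, 16, 1, 22, 6, 15, 3, 9, 20, 5, 4, 2, 14, 21, 8, 17, 13, 10, 19, 7, 11, 23], [0, 4, 13, 8, 12, 11, 6, 21, 16, 9, 19, 22, 1, 18, 14, 7, 3, 17, 2, 20, 10, 15, 5, 23]),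
  ([0, 13, 2, 3, 16, 7, 8, 5, 6, 12, 10, 14, 9, 1, 11, 17, 4, 15, 18, 19, 21, 20, 22, 23], [0, 13, 2, 3, 16, 7, 8, 5, 6, 12, 10, 14, 9, 1, 11, 17, 4, 15, 18, 19, 21, 20, 22, 23]),
  ([0, 18, 1, 6, 3, 20, 4, 14, 8, 13, 19, 11, 12, 16, 22, 15, 9, 5, 2, 21, 17, 10, 7, 23], [0, 2, 18, 4, 6, 17, 3, 22, 8, 16, 21, 11, 12, 9, 7, 15, 13, 20, 1, 10, 5, 19, 14, 23]),
  ([0, 2, 16, 8, 6, 10, 9, 11, 4, 18, 21, 22, 13, 3, 7, 5, 12, 14, 1, 17, 15, 19, 20, 23], [0, 18, 1, 13, 8, 15, 4, 14, 3, 6, 5, 7, 16, 12, 17, 20, 2, 19, 9, 21, 22, 10, 11, 23]),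
  ([0, 1, 3, 4, 8, 19, 12, 22, 9, 2, 17, 7, 18, 6, 20, 14, 13, 11, 16, 15, 5, 21, 10, 23], [0, 1, 9, 2, 3, 20, 13, 11, 4, 8, 22, 17, 6, 16, 15, 19, 18, 10, 12, 5, 14, 21, 7, 23]),
  ([0, 16, 6, 9, 4, 21, 13, 7, 12, 1, 15, 20, 2, 8, 10, 11, 18, 22, 3, 5, 14, 17, 19, 23], [0, 9, 12, 18, 4, 19, 2, 7, 13, 3, 14, 15, 8, 6, 20, 10, 1, 21, 16, 22, 11, 5, 17, 23]),
  ([0, 3, 8, 12, 9, 17, 18, 20, 13, 16, 5, 10, 1, 4, 19, 22, 2, 7, 6, 14, 11, 15, 21, 23], [0, 12, 16, 1, 13, 10, 18, 17, 2, 4, 11, 20, 3, 8, 19, 21, 9, 5, 6, 14, 7, 22, 15, 23]),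
  ([0, 6, 4, 13, 12, 15, 2, 10, 18, 3, 14, 19, 16, 9, 21, 7, 1, 20, 8, 11, 22, 5, 17, 23], [0, 16, 6, 9, 2, 21, 1, 15, 18, 13, 7, 19, 4, 3, 10, 5, 12, 22, 8, 11, 17, 14, 20, 23]),
  ([0, 8, 9, 18, 13, 5, 1, 19, 2, 6, 11, 21, 3, 12, 17, 20, 16, 10, 4, 22, 7, 14, 15, 23], [0, 6, 8, 12, 18, 5, 9, 20, 1, 2, 17, 10, 13, 4, 21, 22, 16, 14, 3, 7, 15, 11, 19, 23]),
  ([0, 8, 18, 13, 2, 22, 3, 15, 6, 9, 10, 19, 4, 1, 7, 17, 12, 21, 16, 20, 5, 14, 11, 23], [0, 13, 4, 6, 12, 20, 8, 14, 1, 9, 10, 22, 16, 3, 21, 7, 18, 15, 2, 11, 19, 17, 5, 23]),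
  ([0, 4, 2, 18, 1, 7, 6, 5, 8, 12, 19, 21, 9, 16, 20, 15, 13, 17, 3, 10, 14, 11, 22, 23], [0, 4, 2, 18, 1, 7, 6, 5, 8, 12, 19, 21, 9, 16, 20, 15, 13, 17, 3, 10, 14, 11, 22, 23]),
  ([0, 9, 1, 2, 16, 20, 8, 14, 4, 13, 21, 17, 12, 3, 10, 5, 18, 15, 6, 19, 11, 22, 7, 23], [0, 2, 3, 13, 8, 15, 18, 22, 6, 1, 14, 20, 12, 9, 7, 17, 4, 11, 16, 19, 5, 10, 21, 23]),
  ([0, 12, 16, 1, 3, 10, 4, 11, 9, 18, 17, 15, 13, 6, 19, 14, 2, 5, 8, 21, 22, 7, 20, 23], [0, 3, 16, 4, 6, 17, 13, 21, 18, 8, 5, 7, 1, 12, 15, 11, 2, 10, 9, 14, 22, 19, 20, 23]),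
  ([0, 13, 3, 16, 6, 19, 9, 22, 12, 2, 15, 5, 18, 8, 21, 11, 1, 14, 4, 17, 7, 20, 10, 23], [0, 16, 9, 2, 18, 11, 4, 20, 13, 6, 22, 15, 8, 1, 17, 10, 3, 19, 12, 5, 21, 14, 7, 23]),
  ([0, 18, 6, 3, 8, 21, 12, 7, 13, 1, 5, 14, 2, 4, 17, 22, 16, 11, 9, 15, 20, 10, 19, 23], [0, 9, 12, 3, 13, 10, 2, 7, 4, 18, 21, 17, 6, 8, 11, 19, 16, 14, 1, 22, 20, 5, 15, 23]),
  ([0, 2, 8, 6, 4, 17, 13, 20, 18, 16, 14, 11, 1, 9, 15, 7, 3, 22, 12, 5, 10, 19, 21, 23], [0, 12, 1, 16, 4, 19, 3, 15, 2, 13, 20, 11, 18, 6, 10, 14, 9, 5, 8, 21, 7, 22, 17, 23]),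
  ([0, 1, 4, 8, 9, 15, 18, 10, 2, 3, 11, 22, 16, 12, 5, 20, 6, 7, 13, 14, 19, 21, 17, 23], [0, 1, 8, 9, 2, 14, 16, 17, 3, 4, 7, 10, 13, 18, 19, 5, 12, 22, 6, 20, 15, 21, 11, 23]),
  ([0, 16, 9, 4, 12, 5, 2, 19, 1, 6, 22, 7, 3, 13, 14, 10, 8, 20, 18, 11, 21, 17, 15, 23], [0, 8, 6, 12, 3, 5, 9, 11, 16, 2, 15, 19, 4, 13, 14, 22, 1, 21, 18, 7, 17, 20, 10, 23]),
  ([0, 3, 12, 9, 13, 14, 1, 21, 16, 8, 7, 20, 6, 18, 11, 19, 4, 10, 2, 22, 17, 15, 5, 23], [0, 6, 18, 1, 16, 22, 12, 10, 9, 3, 17, 14, 2, 4, 5, 21, 8, 20, 13, 15, 11, 7, 19, 23]),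
  ([0, 6, 13, 12, 18, 11, 16, 17, 3, 4, 20, 10, 8, 2, 22, 21, 9, 19, 1, 7, 15, 5, 14, 23], [0, 18, 13, 8, 9, 21, 1, 19, 12, 16, 11, 5, 3, 2, 22, 20, 6, 7, 4, 17, 10, 15, 14, 23]),
  ([0, 9, 2, 1, 13, 10, 12, 7, 4, 16, 17, 21, 8, 6, 20, 19, 18, 15, 3, 5, 11, 22, 14, 23], [0, 3, 2, 18, 8, 19, 13, 7, 12, 1, 5, 20, 6, 4, 22, 17, 9, 10, 16, 15, 14, 11, 21, 23]),
  ([0, 12, 1, 16, 18, 19, 13, 20, 9, 3, 15, 17, 4, 8, 10, 21, 2, 5, 6, 14, 22, 7, 11, 23], [0, 2, 16, 9, 12, 17, 18, 21, 13, 8, 14, 22, 1, 6, 19, 10, 3, 11, 4, 5, 7, 15, 20, 23]),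
  ([0, 13, 16, 3, 2, 21, 18, 10, 12, 6, 5, 15, 9, 4, 19, 17, 1, 14, 8, 11, 7, 20, 22, 23], [0, 16, 4, 3, 13, 10, 9, 20, 18, 12, 7, 19, 8, 1, 17, 11, 2, 15, 6, 14, 21, 5, 22, 23]),
  ([0, 18, 3, 6, 1, 17, 2, 19, 13, 8, 14, 5, 12, 9, 21, 15, 16, 11, 4, 22, 20, 10, 7, 23], [0, 4, 6, 2, 18, 11, 3, 22, 9, 13, 21, 17, 12, 8, 10, 15, 16, 5, 1, 7, 20, 14, 19, 23]),
  ([0, 2, 6, 8, 16, 15, 1, 21, 18, 4, 11, 14, 13, 12, 17, 5, 3, 22, 9, 7, 10, 19, 20, 23], [0, 6, 1, 16, 9, 15, 2, 19, 3, 18, 20, 10, 13, 12, 11, 5, 4, 14, 8, 21, 22, 7, 17, 23]),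
  ([0, 1, 8, 4, 3, 5, 16, 17, 2, 9, 22, 11, 18, 13, 15, 14, 6, 7, 12, 20, 19, 21, 10, 23], [0, 1, 8, 4, 3, 5, 16, 17, 2, 9, 22, 11, 18, 13, 15, 14, 6, 7, 12, 20, 19, 21, 10, 23]),
  ([0, 16, 4, 9, 6, 14, 3, 15, 1, 12, 7, 22, 2, 18, 5, 11, 8, 20, 13, 10, 21, 17, 19, 23], [0, 8, 12, 6, 2, 14, 4, 10, 16, 3, 19, 15, 9, 18, 5, 7, 1, 21, 13, 22, 17, 20, 11, 23]),
  ([0, 3, 9, 12, 8, 11, 6, 5, 16, 13, 20, 7, 1, 2, 14, 22, 4, 10, 18, 19, 17, 15, 21, 23], [0, 12, 13, 1, 16, 7, 6, 11, 4, 2, 17, 5, 3, 9, 14, 21, 8, 20, 18, 19, 10, 22, 15, 23]),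
  ([0, 6, 12, 13, 4, 22, 8, 14, 3, 18, 10, 20, 16, 1, 11, 7, 9, 19, 2, 21, 15, 5, 17, 23], [0, 13, 18, 8, 4, 21, 1, 15, 6, 16, 10, 14, 2, 3, 7, 20, 12, 22, 9, 17, 11, 19, 5, 23]),
  ([0, 8, 13, 18, 9, 7, 4, 11, 6, 2, 19, 10, 3, 16, 22, 20, 12, 21, 1, 17, 5, 14, 15, 23], [0, 18, 9, 12, 6, 20, 8, 5, 1, 4, 11, 7, 16, 2, 21, 22, 13, 19, 3, 10, 15, 17, 14, 23]),
  ([0, 4, 18, 2, 12, 20, 9, 22, 8, 1, 21, 19, 6, 3, 7, 10, 13, 17, 16, 15, 14, 11, 5, 23], [0, 9, 3, 13, 1, 22, 12, 14, 8, 6, 15, 21, 4, 16, 20, 19, 18, 17, 2, 11, 5, 10, 7, 23]),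
  ([0, 16, 13, 6, 1, 17, 18, 20, 8, 3, 19, 15, 9, 4, 5, 21, 2, 7, 12, 11, 14, 10, 22, 23], [0, 4, 16, 9, 13, 14, 3, 17, 8, 12, 21, 19, 18, 2, 20, 11, 1, 5, 6, 10, 7, 15, 22, 23]),
  ([0, 3, 18, 8, 16, 15, 2, 10, 4, 6, 21, 5, 12, 9, 14, 17, 1, 20, 13, 22, 11, 19, 7, 23], [0, 16, 6, 1, 8, 11, 9, 22, 3, 13, 7, 20, 12, 18, 14, 5, 4, 15, 2, 21, 17, 10, 19, 23]),
  ([0, 6, 2, 4, 3, 5, 1, 19, 9, 8, 17, 14, 13, 12, 11, 15, 16, 10, 18, 7, 22, 21, 20, 23], [0, 6, 2, 4, 3, 5, 1, 19, 9, 8, 17, 14, 13, 12, 11, 15, 16, 10, 18, 7, 22, 21, 20, 23]),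
  ([0, 8, 1, 9, 6, 14, 16, 21, 12, 4, 15, 11, 18, 13, 22, 5, 3, 19, 2, 20, 7, 17, 10, 23], [0, 2, 18, 16, 9, 15, 4, 20, 1, 3, 22, 11, 8, 13, 5, 10, 6, 21, 12, 17, 19, 7, 14, 23]),
  ([0, 4, 16, 12, 8, 11, 3, 17, 13, 9, 5, 22, 2, 18, 7, 14, 6, 21, 1, 10, 20, 15, 19, 23], [0, 18, 12, 6, 1, 10, 16, 14, 4, 9, 19, 5, 3, 8, 15, 21, 2, 7, 13, 22, 20, 17, 11, 23]),
  ([0, 9, 3, 13, 4, 22, 6, 15, 18, 12, 14, 7, 1, 2, 20, 11, 8, 17, 16, 19, 10, 5, 21, 23], [0, 12, 13, 2, 4, 21, 6, 11, 16, 1, 20, 15, 9, 3, 10, 7, 18, 17, 8, 19, 14, 22, 5, 23]),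
  ([0, 12, 6, 18, 9, 7, 8, 5, 2, 13, 11, 20, 16, 1, 10, 22, 4, 15, 3, 21, 19, 14, 17, 23], [0, 13, 8, 18, 16, 7, 2, 5, 6, 4, 14, 10, 1, 9, 21, 17, 12, 22, 3, 20, 11, 19, 15, 23]),
  ([0, 13, 8, 2, 12, 20, 4, 14, 1, 18, 22, 10, 3, 16, 19, 7, 9, 5, 6, 17, 21, 11, 15, 23], [0, 8, 3, 12, 6, 17, 18, 15, 2, 16, 11, 21, 4, 1, 7, 22, 13, 19, 9, 14, 5, 20, 10, 23]),
  ([0, 18, 4, 1, 13, 10, 9, 11, 16, 2, 7, 19, 6, 3, 21, 20, 12, 14, 8, 15, 17, 22, 5, 23], [0, 3, 9, 13, 2, 22, 12, 10, 18, 6, 5, 7, 16, 4, 17, 19, 8, 20, 1, 11, 15, 14, 21, 23]),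
  ([0, 2, 9, 16, 18, 19, 12, 22, 3, 1, 20, 21, 8, 6, 17, 10, 13, 11, 4, 5, 15, 7, 14, 23], [0, 9, 1, 8, 18, 19, 13, 21, 12, 2, 15, 17, 6, 16, 22, 20, 3, 14, 4, 5, 10, 11, 7, 23]),
  ([0, 1, 12, 3, 2, 21, 13, 7, 6, 16, 10, 17, 4, 8, 15, 19, 18, 22, 9, 14, 5, 20, 11, 23], [0, 1, 4, 3, 12, 20, 8, 7, 13, 18, 10, 22, 2, 6, 19, 14, 9, 11, 16, 15, 21, 5, 17, 23]),
  ([0, 3, 1, 4, 6, 19, 2, 5, 9, 12, 21, 7, 16, 8, 11, 15, 13, 20, 18, 14, 22, 17, 10, 23], [0, 2, 6, 1, 3, 7, 4, 11, 13, 8, 22, 14, 9, 16, 19, 15, 12, 21, 18, 5, 17, 10, 20, 23]),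
  ([0, 6, 16, 9, 8, 21, 1, 14, 12, 13, 17, 20, 3, 4, 22, 5, 18, 10, 2, 11, 7, 15, 19, 23], [0, 6, 18, 12, 13, 15, 1, 20, 4, 3, 17, 19, 8, 9, 7, 21, 2, 10, 16, 22, 11, 5, 14, 23]),
  ([0, 8, 3, 12, 4, 17, 16, 11, 13, 18, 15, 10, 6, 9, 7, 14, 2, 19, 1, 22, 20, 5, 21, 23], [0, 18, 16, 2, 4, 21, 12, 14, 1, 13, 11, 7, 3, 8, 15, 10, 6, 5, 9, 17, 20, 22, 19, 23]),
  ([0, 4, 6, 13, 9, 15, 3, 22, 18, 2, 5, 19, 8, 12, 20, 11, 1, 21, 16, 7, 10, 14, 17, 23], [0, 16, 9, 6, 1, 10, 2, 19, 12, 4, 20, 15, 13, 3, 21, 5, 18, 22, 8, 11, 14, 17, 7, 23]),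
  ([0, 9, 8, 18, 12, 5, 6, 7, 2, 1, 14, 21, 4, 13, 10, 22, 16, 17, 3, 20, 19, 11, 15, 23], [0, 9, 8, 18, 12, 5, 6, 7, 2, 1, 14, 21, 4, 13, 10, 22, 16, 17, 3, 20, 19, 11, 15, 23]),
  ([0, 12, 4, 2, 13, 14, 8, 20, 1, 16, 11, 17, 9, 18, 19, 7, 3, 15, 6, 10, 21, 22, 5, 23], [0, 8, 3, 16, 2, 22, 18, 15, 6, 12, 19, 10, 1, 4, 5, 17, 9, 11, 13, 14, 7, 20, 21, 23]),
  ([0, 13, 9, 1, 18, 11, 4, 10, 16, 3, 22, 15, 12, 2, 21, 20, 6, 5, 8, 19, 17, 7, 14, 23], [0, 3, 13, 9, 6, 17, 16, 21, 18, 2, 7, 5, 12, 1, 22, 11, 8, 20, 4, 19, 15, 14, 10, 23]),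
  ([0, 18, 12, 16, 2, 22, 9, 19, 3, 6, 7, 5, 13, 1, 17, 10, 8, 14, 4, 21, 15, 20, 11, 23], [0, 13, 4, 8, 18, 11, 9, 10, 16, 6, 15, 22, 2, 12, 17, 20, 3, 14, 1, 7, 21, 19, 5, 23]),
  ([0, 2, 13, 3, 1, 7, 12, 21, 6, 8, 20, 14, 18, 16, 15, 19, 4, 11, 9, 17, 5, 10, 22, 23], [0, 4, 1, 3, 16, 20, 8, 5, 9, 18, 21, 17, 6, 2, 11, 14, 13, 19, 12, 15, 10, 7, 22, 23]),
  ([0, 1, 18, 6, 16, 20, 13, 17, 8, 4, 10, 11, 2, 3, 5, 21, 9, 22, 12, 15, 14, 19, 7, 23], [0, 1, 12, 13, 9, 14, 3, 22, 8, 16, 10, 11, 18, 6, 20, 19, 4, 7, 2, 21, 5, 15, 17, 23]),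
  ([0, 16, 2, 8, 3, 10, 18, 15, 4, 9, 19, 22, 1, 6, 14, 17, 12, 7, 13, 5, 11, 21, 20, 23], [0, 12, 2, 4, 8, 19, 13, 17, 3, 9, 5, 20, 16, 18, 14, 7, 1, 15, 6, 10, 22, 21, 11, 23]),
  ([0, 12, 6, 8, 4, 21, 13, 11, 16, 18, 15, 20, 3, 9, 14, 7, 1, 5, 2, 22, 10, 19, 17, 23], [0, 16, 18, 12, 4, 17, 2, 15, 3, 13, 20, 7, 1, 6, 14, 10, 8, 22, 9, 21, 11, 5, 19, 23]),
  ([0, 9, 3, 6, 8, 19, 12, 14, 1, 13, 17, 7, 16, 4, 5, 22, 2, 15, 18, 11, 20, 10, 21, 23], [0, 8, 16, 2, 13, 14, 3, 11, 4, 1, 21, 19, 6, 9, 7, 17, 12, 10, 18, 5, 20, 22, 15, 23]),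
  ([0, 4, 16, 3, 6, 10, 9, 5, 2, 12, 21, 22, 1, 8, 15, 11, 18, 17, 13, 14, 7, 20, 19, 23], [0, 12, 8, 3, 1, 7, 4, 20, 13, 6, 5, 15, 9, 18, 19, 14, 2, 17, 16, 22, 21, 10, 11, 23]),
  ([0, 8, 1, 16, 3, 20, 4, 15, 18, 9, 19, 11, 2, 6, 17, 14, 13, 21, 12, 5, 22, 7, 10, 23], [0, 2, 12, 4, 6, 19, 13, 21, 1, 9, 22, 11, 18, 16, 15, 7, 3, 14, 8, 10, 5, 17, 20, 23]),
  ([0, 6, 2, 1, 16, 7, 8, 17, 13, 4, 10, 14, 18, 3, 21, 5, 12, 19, 9, 15, 11, 22, 20, 23], [0, 3, 2, 13, 9, 15, 1, 5, 6, 18, 10, 20, 16, 8, 11, 19, 4, 7, 12, 17, 22, 14, 21, 23]),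
  ([0, 3, 18, 2, 1, 22, 6, 21, 12, 8, 20, 5, 13, 16, 19, 15, 9, 10, 4, 17, 14, 11, 7, 23], [0, 4, 3, 1, 18, 11, 6, 22, 9, 16, 17, 21, 8, 12, 20, 15, 13, 19, 2, 14, 10, 7, 5, 23]),
  ([0, 16, 13, 18, 2, 11, 3, 19, 9, 6, 7, 15, 12, 1, 10, 17, 4, 20, 8, 21, 5, 14, 22, 23], [0, 13, 4, 6, 16, 20, 9, 10, 18, 8, 14, 5, 12, 2, 21, 11, 1, 15, 3, 7, 17, 19, 22, 23]),
  ([0, 1, 12, 13, 18, 14, 16, 10, 4, 3, 22, 17, 9, 2, 20, 21, 8, 7, 6, 19, 15, 5, 11, 23], [0, 1, 13, 9, 8, 21, 18, 17, 16, 12, 7, 22, 2, 3, 5, 20, 6, 11, 4, 19, 14, 15, 10, 23]),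
  ([0, 2, 9, 12, 13, 5, 1, 20, 8, 16, 11, 21, 4, 18, 7, 19, 6, 22, 3, 10, 17, 15, 14, 23], [0, 6, 1, 18, 12, 5, 16, 14, 8, 2, 19, 10, 3, 4, 22, 21, 9, 20, 13, 15, 7, 11, 17, 23]),
  ([0, 18, 4, 9, 12, 15, 2, 7, 6, 1, 14, 19, 8, 13, 22, 10, 3, 11, 16, 20, 21, 17, 5, 23], [0, 9, 6, 16, 2, 22, 8, 7, 12, 3, 15, 17, 4, 13, 10, 5, 18, 21, 1, 11, 19, 20, 14, 23]),
  ([0, 13, 8, 4, 9, 17, 18, 22, 3, 2, 5, 10, 6, 12, 11, 20, 16, 14, 1, 7, 19, 21, 15, 23], [0, 18, 9, 8, 3, 10, 12, 19, 2, 4, 11, 14, 13, 1, 17, 22, 16, 5, 6, 20, 15, 21, 7, 23]),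
  ([0, 3, 1, 4, 6, 19, 2, 5, 9, 12, 21, 7, 16, 8, 11, 15, 13, 20, 18, 14, 22, 17, 10, 23], [0, 2, 6, 1, 3, 7, 4, 11, 13, 8, 22, 14, 9, 16, 19, 15, 12, 21, 18, 5, 17, 10, 20, 23]),
  ([0, 16, 2, 8, 3, 10, 18, 15, 4, 9, 19, 22, 1, 6, 14, 17, 12, 7, 13, 5, 11, 21, 20, 23], [0, 12, 2, 4, 8, 19, 13, 17, 3, 9, 5, 20, 16, 18, 14, 7, 1, 15, 6, 10, 22, 21, 11, 23]),
  ([0, 1, 18, 6, 16, 20, 13, 17, 8, 4, 10, 11, 2, 3, 5, 21, 9, 22, 12, 15, 14, 19, 7, 23], [0, 1, 12, 13, 9, 14, 3, 22, 8, 16, 10, 11, 18, 6, 20, 19, 4, 7, 2, 21, 5, 15, 17, 23]),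
  ([0, 2, 13, 3, 1, 7, 12, 21, 6, 8, 20, 14, 18, 16, 15, 19, 4, 11, 9, 17, 5, 10, 22, 23], [0, 4, 1, 3, 16, 20, 8, 5, 9, 18, 21, 17, 6, 2, 11, 14, 13, 19, 12, 15, 10, 7, 22, 23]),
  ([0, 18, 12, 16, 2, 22, 9, 19, 3, 6, 7, 5, 13, 1, 17, 10, 8, 14, 4, 21, 15, 20, 11, 23], [0, 13, 4, 8, 18, 11, 9, 10, 16, 6, 15, 22, 2, 12, 17, 20, 3, 14, 1, 7, 21, 19, 5, 23]),
  ([0, 13, 9, 1, 18, 11, 4, 10, 16, 3, 22, 15, 12, 2, 21, 20, 6, 5, 8, 19, 17, 7, 14, 23], [0, 3, 13, 9, 6, 17, 16, 21, 18, 2, 7, 5, 12, 1, 22, 11, 8, 20, 4, 19, 15, 14, 10, 23]),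
  ([0, 12, 4, 2, 13, 14, 8, 20, 1, 16, 11, 17, 9, 18, 19, 7, 3, 15, 6, 10, 21, 22, 5, 23], [0, 8, 3, 16, 2, 22, 18, 15, 6, 12, 19, 10, 1, 4, 5, 17, 9, 11, 13, 14, 7, 20, 21, 23]),
  ([0, 9, 8, 18, 12, 5, 6, 7, 2, 1, 14, 21, 4, 13, 10, 22, 16, 17, 3, 20, 19, 11, 15, 23], [0, 9, 8, 18, 12, 5, 6, 7, 2, 1, 14, 21, 4, 13, 10, 22, 16, 17, 3, 20, 19, 11, 15, 23]),
  ([0, 4, 6, 13, 9, 15, 3, 22, 18, 2, 5, 19, 8, 12, 20, 11, 1, 21, 16, 7, 10, 14, 17, 23], [0, 16, 9, 6, 1, 10, 2, 19, 12, 4, 20, 15, 13, 3, 21, 5, 18, 22, 8, 11, 14, 17, 7, 23]),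
  ([0, 8, 3, 12, 4, 17, 16, 11, 13, 18, 15, 10, 6, 9, 7, 14, 2, 19, 1, 22, 20, 5, 21, 23], [0, 18, 16, 2, 4, 21, 12, 14, 1, 13, 11, 7, 3, 8, 15, 10, 6, 5, 9, 17, 20, 22, 19, 23]),
  ([0, 6, 16, 9, 8, 21, 1, 14, 12, 13, 17, 20, 3, 4, 22, 5, 18, 10, 2, 11, 7, 15, 19, 23], [0, 6, 18, 12, 13, 15, 1, 20, 4, 3, 17, 19, 8, 9, 7, 21, 2, 10, 16, 22, 11, 5, 14, 23]),
  ([0, 16, 13, 6, 1, 17, 18, 20, 8, 3, 19, 15, 9, 4, 5, 21, 2, 7, 12, 11, 14, 10, 22, 23], [0, 4, 16, 9, 13, 14, 3, 17, 8, 12, 21, 19, 18, 2, 20, 11, 1, 5, 6, 10, 7, 15, 22, 23]),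
  ([0, 1, 12, 3, 2, 21, 13, 7, 6, 16, 10, 17, 4, 8, 15, 19, 18, 22, 9, 14, 5, 20, 11, 23], [0, 1, 4, 3, 12, 20, 8, 7, 13, 18, 10, 22, 2, 6, 19, 14, 9, 11, 16, 15, 21, 5, 17, 23]),
  ([0, 2, 9, 16, 18, 19, 12, 22, 3, 1, 20, 21, 8, 6, 17, 10, 13, 11, 4, 5, 15, 7, 14, 23], [0, 9, 1, 8, 18, 19, 13, 21, 12, 2, 15, 17, 6, 16, 22, 20, 3, 14, 4, 5, 10, 11, 7, 23]),
  ([0, 18, 4, 1, 13, 10, 9, 11, 16, 2, 7, 19, 6, 3, 21, 20, 12, 14, 8, 15, 17, 22, 5, 23], [0, 3, 9, 13, 2, 22, 12, 10, 18, 6, 5, 7, 16, 4, 17, 19, 8, 20, 1, 11, 15, 14, 21, 23]),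
  ([0, 13, 8, 2, 12, 20, 4, 14, 1, 18, 22, 10, 3, 16, 19, 7, 9, 5, 6, 17, 21, 11, 15, 23], [0, 8, 3, 12, 6, 17, 18, 15, 2, 16, 11, 21, 4, 1, 7, 22, 13, 19, 9, 14, 5, 20, 10, 23]),
  ([0, 12, 6, 18, 9, 7, 8, 5, 2, 13, 11, 20, 16, 1, 10, 22, 4, 15, 3, 21, 19, 14, 17, 23], [0, 13, 8, 18, 16, 7, 2, 5, 6, 4, 14, 10, 1, 9, 21, 17, 12, 22, 3, 20, 11, 19, 15, 23]),
  ([0, 9, 3, 13, 4, 22, 6, 15, 18, 12, 14, 7, 1, 2, 20, 11, 8, 17, 16, 19, 10, 5, 21, 23], [0, 12, 13, 2, 4, 21, 6, 11, 16, 1, 20, 15, 9, 3, 10, 7, 18, 17, 8, 19, 14, 22, 5, 23]),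
  ([0, 4, 16, 12, 8, 11, 3, 17, 13, 9, 5, 22, 2, 18, 7, 14, 6, 21, 1, 10, 20, 15, 19, 23], [0, 18, 12, 6, 1, 10, 16, 14, 4, 9, 19, 5, 3, 8, 15, 21, 2, 7, 13, 22, 20, 17, 11, 23]),
  ([0, 8, 1, 9, 6, 14, 16, 21, 12, 4, 15, 11, 18, 13, 22, 5, 3, 19, 2, 20, 7, 17, 10, 23], [0, 2, 18, 16, 9, 15, 4, 20, 1, 3, 22, 11, 8, 13, 5, 10, 6, 21, 12, 17, 19, 7, 14, 23]),
  ([0, 6, 2, 4, 3, 5, 1, 19, 9, 8, 17, 14, 13, 12, 11, 15, 16, 10, 18, 7, 22, 21, 20, 23], [0, 6, 2, 4, 3, 5, 1, 19, 9, 8, 17, 14, 13, 12, 11, 15, 16, 10, 18, 7, 22, 21, 20, 23]),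
  ([0, 3, 18, 8, 16, 15, 2, 10, 4, 6, 21, 5, 12, 9, 14, 17, 1, 20, 13, 22, 11, 19, 7, 23], [0, 16, 6, 1, 8, 11, 9, 22, 3, 13, 7, 20, 12, 18, 14, 5, 4, 15, 2, 21, 17, 10, 19, 23]),
  ([0, 9, 2, 1, 13, 10, 12, 7, 4, 16, 17, 21, 8, 6, 20, 19, 18, 15, 3, 5, 11, 22, 14, 23], [0, 3, 2, 18, 8, 19, 13, 7, 12, 1, 5, 20, 6, 4, 22, 17, 9, 10, 16, 15, 14, 11, 21, 23]),
  ([0, 4, 18, 2, 12, 20, 9, 22, 8, 1, 21, 19, 6, 3, 7, 10, 13, 17, 16, 15, 14, 11, 5, 23], [0, 9, 3, 13, 1, 22, 12, 14, 8, 6, 15, 21, 4, 16, 20, 19, 18, 17, 2, 11, 5, 10, 7, 23]),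
  ([0, 8, 13, 18, 9, 7, 4, 11, 6, 2, 19, 10, 3, 16, 22, 20, 12, 21, 1, 17, 5, 14, 15, 23], [0, 18, 9, 12, 6, 20, 8, 5, 1, 4, 11, 7, 16, 2, 21, 22, 13, 19, 3, 10, 15, 17, 14, 23]),
  ([0, 6, 12, 13, 4, 22, 8, 14, 3, 18, 10, 20, 16, 1, 11, 7, 9, 19, 2, 21, 15, 5, 17, 23], [0, 13, 18, 8, 4, 21, 1, 15, 6, 16, 10, 14, 2, 3, 7, 20, 12, 22, 9, 17, 11, 19, 5, 23]),
  ([0, 3, 9, 12, 8, 11, 6, 5, 16, 13, 20, 7, 1, 2, 14, 22, 4, 10, 18, 19, 17, 15, 21, 23], [0, 12, 13, 1, 16, 7, 6, 11, 4, 2, 17, 5, 3, 9, 14, 21, 8, 20, 18, 19, 10, 22, 15, 23]),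
  ([0, 16, 4, 9, 6, 14, 3, 15, 1, 12, 7, 22, 2, 18, 5, 11, 8, 20, 13, 10, 21, 17, 19, 23], [0, 8, 12, 6, 2, 14, 4, 10, 16, 3, 19, 15, 9, 18, 5, 7, 1, 21, 13, 22, 17, 20, 11, 23]),
  ([0, 1, 8, 4, 3, 5, 16, 17, 2, 9, 22, 11, 18, 13, 15, 14, 6, 7, 12, 20, 19, 21, 10, 23], [0, 1, 8, 4, 3, 5, 16, 17, 2, 9, 22, 11, 18, 13, 15, 14, 6, 7, 12, 20, 19, 21, 10, 23]),
  ([0, 2, 6, 8, 16, 15, 1, 21, 18, 4, 11, 14, 13, 12, 17, 5, 3, 22, 9, 7, 10, 19, 20, 23], [0, 6, 1, 16, 9, 15, 2, 19, 3, 18, 20, 10, 13, 12, 11, 5, 4, 14, 8, 21, 22, 7, 17, 23]),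
  ([0, 18, 3, 6, 1, 17, 2, 19, 13, 8, 14, 5, 12, 9, 21, 15, 16, 11, 4, 22, 20, 10, 7, 23], [0, 4, 6, 2, 18, 11, 3, 22, 9, 13, 21, 17, 12, 8, 10, 15, 16, 5, 1, 7, 20, 14, 19, 23]),
  ([0, 13, 16, 3, 2, 21, 18, 10, 12, 6, 5, 15, 9, 4, 19, 17, 1, 14, 8, 11, 7, 20, 22, 23], [0, 16, 4, 3, 13, 10, 9, 20, 18, 12, 7, 19, 8, 1, 17, 11, 2, 15, 6, 14, 21, 5, 22, 23]),
  ([0, 12, 1, 16, 18, 19, 13, 20, 9, 3, 15, 17, 4, 8, 10, 21, 2, 5, 6, 14, 22, 7, 11, 23], [0, 2, 16, 9, 12, 17, 18, 21, 13, 8, 14, 22, 1, 6, 19, 10, 3, 11, 4, 5, 7, 15, 20, 23]),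
  ([0, 8, 18, 13, 2, 22, 3, 15, 6, 9, 10, 19, 4, 1, 7, 17, 12, 21, 16, 20, 5, 14, 11, 23], [0, 13, 4, 6, 12, 20, 8, 14, 1, 9, 10, 22, 16, 3, 21, 7, 18, 15, 2, 11, 19, 17, 5, 23]),
  ([0, 6, 13, 12, 18, 11, 16, 17, 3, 4, 20, 10, 8, 2, 22, 21, 9, 19, 1, 7, 15, 5, 14, 23], [0, 18, 13, 8, 9, 21, 1, 19, 12, 16, 11, 5, 3, 2, 22, 20, 6, 7, 4, 17, 10, 15, 14, 23]),
  ([0, 3, 12, 9, 13, 14, 1, 21, 16, 8, 7, 20, 6, 18, 11, 19, 4, 10, 2, 22, 17, 15, 5, 23], [0, 6, 18, 1, 16, 22, 12, 10, 9, 3, 17, 14, 2, 4, 5, 21, 8, 20, 13, 15, 11, 7, 19, 23]),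
  ([0, 16, 9, 4, 12, 5, 2, 19, 1, 6, 22, 7, 3, 13, 14, 10, 8, 20, 18, 11, 21, 17, 15, 23], [0, 8, 6, 12, 3, 5, 9, 11, 16, 2, 15, 19, 4, 13, 14, 22, 1, 21, 18, 7, 17, 20, 10, 23]),
  ([0, 1, 4, 8, 9, 15, 18, 10, 2, 3, 11, 22, 16, 12, 5, 20, 6, 7, 13, 14, 19, 21, 17, 23], [0, 1, 8, 9, 2, 14, 16, 17, 3, 4, 7, 10, 13, 18, 19, 5, 12, 22, 6, 20, 15, 21, 11, 23]),
  ([0, 2, 8, 6, 4, 17, 13, 20, 18, 16, 14, 11, 1, 9, 15, 7, 3, 22, 12, 5, 10, 19, 21, 23], [0, 12, 1, 16, 4, 19, 3, 15, 2, 13, 20, 11, 18, 6, 10, 14, 9, 5, 8, 21, 7, 22, 17, 23]),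
  ([0, 18, 6, 3, 8, 21, 12, 7, 13, 1, 5, 14, 2, 4, 17, 22, 16, 11, 9, 15, 20, 10, 19, 23], [0, 9, 12, 3, 13, 10, 2, 7, 4, 18, 21, 17, 6, 8, 11, 19, 16, 14, 1, 22, 20, 5, 15, 23]),
  ([0, 13, 3, 16, 6, 19, 9, 22, 12, 2, 15, 5, 18, 8, 21, 11, 1, 14, 4, 17, 7, 20, 10, 23], [0, 16, 9, 2, 18, 11, 4, 20, 13, 6, 22, 15, 8, 1, 17, 10, 3, 19, 12, 5, 21, 14, 7, 23]),
  ([0, 12, 16, 1, 3, 10, 4, 11, 9, 18, 17, 15, 13, 6, 19, 14, 2, 5, 8, 21, 22, 7, 20, 23], [0, 3, 16, 4, 6, 17, 13, 21, 18, 8, 5, 7, 1, 12, 15, 11, 2, 10, 9, 14, 22, 19, 20, 23]),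
  ([0, 9, 1, 2, 16, 20, 8, 14, 4, 13, 21, 17, 12, 3, 10, 5, 18, 15, 6, 19, 11, 22, 7, 23], [0, 2, 3, 13, 8, 15, 18, 22, 6, 1, 14, 20, 12, 9, 7, 17, 4, 11, 16, 19, 5, 10, 21, 23]),
  ([0, 4, 2, 18, 1, 7, 6, 5, 8, 12, 19, 21, 9, 16, 20, 15, 13, 17, 3, 10, 14, 11, 22, 23], [0, 4, 2, 18, 1, 7, 6, 5, 8, 12, 19, 21, 9, 16, 20, 15, 13, 17, 3, 10, 14, 11, 22, 23]),
  ([0, 4, 12, 2, 18, 14, 16, 21, 1, 8, 22, 17, 6, 13, 15, 10, 3, 19, 9, 7, 20, 11, 5, 23], [0, 8, 3, 16, 1, 22, 12, 19, 9, 18, 15, 21, 2, 13, 5, 14, 6, 11, 4, 17, 20, 7, 10, 23]),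
  ([0, 8, 9, 18, 13, 5, 1, 19, 2, 6, 11, 21, 3, 12, 17, 20, 16, 10, 4, 22, 7, 14, 15, 23], [0, 6, 8, 12, 18, 5, 9, 20, 1, 2, 17, 10, 13, 4, 21, 22, 16, 14, 3, 7, 15, 11, 19, 23]),
  ([0, 6, 4, 13, 12, 15, 2, 10, 18, 3, 14, 19, 16, 9, 21, 7, 1, 20, 8, 11, 22, 5, 17, 23], [0, 16, 6, 9, 2, 21, 1, 15, 18, 13, 7, 19, 4, 3, 10, 5, 12, 22, 8, 11, 17, 14, 20, 23]),
  ([0, 3, 8, 12, 9, 17, 18, 20, 13, 16, 5, 10, 1, 4, 19, 22, 2, 7, 6, 14, 11, 15, 21, 23], [0, 12, 16, 1, 13, 10, 18, 17, 2, 4, 11, 20, 3, 8, 19, 21, 9, 5, 6, 14, 7, 22, 15, 23]),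
  ([0, 16, 6, 9, 4, 21, 13, 7, 12, 1, 15, 20, 2, 8, 10, 11, 18, 22, 3, 5, 14, 17, 19, 23], [0, 9, 12, 18, 4, 19, 2, 7, 13, 3, 14, 15, 8, 6, 20, 10, 1, 21, 16, 22, 11, 5, 17, 23]),
  ([0, 1, 3, 4, 8, 19, 12, 22, 9, 2, 17, 7, 18, 6, 20, 14, 13, 11, 16, 15, 5, 21, 10, 23], [0, 1, 9, 2, 3, 20, 13, 11, 4, 8, 22, 17, 6, 16, 15, 19, 18, 10, 12, 5, 14, 21, 7, 23]),
  ([0, 2, 16, 8, 6, 10, 9, 11, 4, 18, 21, 22, 13, 3, 7, 5, 12, 14, 1, 17, 15, 19, 20, 23], [0, 18, 1, 13, 8, 15, 4, 14, 3, 6, 5, 7, 16, 12, 17, 20, 2, 19, 9, 21, 22, 10, 11, 23]),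
  ([0, 18, 1, 6, 3, 20, 4, 14, 8, 13, 19, 11, 12, 16, 22, 15, 9, 5, 2, 21, 17, 10, 7, 23], [0, 2, 18, 4, 6, 17, 3, 22, 8, 16, 21, 11, 12, 9, 7, 15, 13, 20, 1, 10, 5, 19, 14, 23]),
  ([0, 13, 2, 3, 16, 7, 8, 5, 6, 12, 10, 14, 9, 1, 11, 17, 4, 15, 18, 19, 21, 20, 22, 23], [0, 13, 2, 3, 16, 7, 8, 5, 6, 12, 10, 14, 9, 1, 11, 17, 4, 15, 18, 19, 21, 20, 22, 23]),
  ([0, 12, 18, 16, 1, 22, 6, 15, 3, 9, 20, 5, 4, 2, 14, 21, 8, 17, 13, 10, 19, 7, 11, 23], [0, 4, 13, 8, 12, 11, 6, 21, 16, 9, 19, 22, 1, 18, 14, 7, 3, 17, 2, 20, 10, 15, 5, 23]),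
  ([0, 9, 13, 1, 2, 11, 3, 17, 16, 4, 7, 15, 8, 18, 5, 19, 6, 21, 12, 20, 10, 22, 14, 23], [0, 3, 4, 6, 9, 14, 16, 10, 12, 1, 20, 5, 18, 2, 22, 11, 8, 7, 13, 15, 19, 17, 21, 23]),
  ([0, 6, 3, 18, 12, 11, 9, 19, 13, 4, 14, 10, 1, 2, 21, 22, 16, 17, 8, 15, 7, 5, 20, 23], [0, 12, 13, 2, 9, 21, 1, 20, 18, 6, 11, 5, 4, 8, 10, 19, 16, 17, 3, 7, 22, 14, 15, 23]),
  ([0, 3, 16, 13, 9, 14, 4, 10, 12, 8, 5, 20, 2, 18, 19, 11, 1, 21, 6, 17, 22, 15, 7, 23], [0, 16, 12, 1, 6, 10, 18, 22, 9, 4, 7, 15, 8, 3, 5, 21, 2, 19, 13, 14, 11, 17, 20, 23]),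
  ([0, 16, 1, 12, 4, 5, 8, 20, 9, 6, 15, 7, 18, 13, 10, 14, 2, 19, 3, 21, 11, 17, 22, 23], [0, 2, 16, 18, 4, 5, 9, 11, 6, 8, 14, 20, 3, 13, 15, 10, 1, 21, 12, 17, 7, 19, 22, 23]),
  ([0, 1, 2, 9, 8, 15, 6, 7, 4, 3, 17, 22, 13, 12, 20, 5, 18, 10, 16, 19, 14, 21, 11, 23], [0, 1, 2, 9, 8, 15, 6, 7, 4, 3, 17, 22, 13, 12, 20, 5, 18, 10, 16, 19, 14, 21, 11, 23]),
  ([0, 2, 18, 4, 6, 17, 3, 22, 8, 16, 21, 11, 12, 9, 7, 15, 13, 20, 1, 10, 5, 19, 14, 23], [0, 18, 1, 6, 3, 20, 4, 14, 8, 13, 19, 11, 12, 16, 22, 15, 9, 5, 2, 21, 17, 10, 7, 23]),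
  ([0, 18, 13, 8, 3, 21, 16, 11, 6, 1, 19, 14, 9, 4, 22, 17, 12, 7, 2, 20, 15, 10, 5, 23], [0, 9, 18, 4, 13, 22, 8, 17, 3, 12, 21, 7, 16, 2, 11, 20, 6, 15, 1, 10, 19, 5, 14, 23]),
  ([0, 13, 12, 6, 16, 19, 1, 14, 3, 2, 10, 5, 4, 8, 11, 21, 9, 22, 18, 7, 17, 20, 15, 23], [0, 6, 9, 8, 12, 11, 3, 19, 13, 16, 10, 14, 2, 1, 7, 22, 4, 20, 18, 5, 21, 15, 17, 23]),
  ([0, 12, 9, 3, 1, 10, 2, 5, 16, 18, 20, 15, 8, 6, 14, 19, 4, 11, 13, 22, 21, 7, 17, 23], [0, 4, 6, 3, 16, 7, 13, 21, 12, 2, 5, 17, 1, 18, 14, 11, 8, 22, 9, 15, 10, 20, 19, 23]),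
  ([0, 9, 4, 16, 2, 20, 18, 15, 1, 13, 7, 17, 6, 3, 5, 10, 8, 14, 12, 11, 19, 22, 21, 23], [0, 8, 4, 13, 2, 14, 12, 10, 16, 1, 15, 19, 18, 9, 17, 7, 3, 11, 6, 20, 5, 22, 21, 23]),
  ([0, 4, 8, 1, 18, 7, 13, 17, 2, 12, 22, 21, 3, 16, 15, 20, 6, 5, 9, 14, 10, 11, 19, 23], [0, 3, 8, 12, 1, 17, 16, 5, 2, 18, 20, 21, 9, 6, 19, 14, 13, 7, 4, 22, 15, 11, 10, 23]),
  ([0, 8, 6, 2, 13, 22, 12, 21, 18, 9, 11, 19, 16, 1, 17, 7, 3, 15, 4, 5, 20, 14, 10, 23], [0, 13, 3, 16, 18, 19, 2, 15, 1, 9, 22, 10, 6, 4, 21, 17, 12, 14, 8, 11, 20, 7, 5, 23]),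
  ([0, 1, 16, 12, 3, 5, 8, 17, 2, 6, 11, 22, 13, 18, 19, 14, 9, 10, 4, 21, 15, 20, 7, 23], [0, 1, 8, 4, 18, 5, 9, 22, 6, 16, 17, 10, 3, 12, 15, 20, 2, 7, 13, 14, 21, 19, 11, 23]),
  ([0, 2, 1, 9, 16, 15, 6, 21, 18, 3, 14, 11, 12, 13, 10, 5, 4, 20, 8, 19, 17, 7, 22, 23], [0, 2, 1, 9, 16, 15, 6, 21, 18, 3, 14, 11, 12, 13, 10, 5, 4, 20, 8, 19, 17, 7, 22, 23]),
  ([0, 18, 2, 4, 1, 17, 3, 19, 13, 16, 5, 14, 9, 12, 20, 15, 8, 7, 6, 10, 21, 22, 11, 23], [0, 4, 2, 6, 3, 10, 18, 17, 16, 12, 19, 22, 13, 8, 11, 15, 9, 5, 1, 7, 14, 20, 21, 23]),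
  ([0, 13, 18, 8, 2, 21, 16, 10, 12, 1, 15, 5, 4, 9, 7, 17, 6, 22, 3, 20, 19, 11, 14, 23], [0, 9, 4, 18, 12, 11, 16, 14, 3, 13, 7, 21, 8, 1, 22, 10, 6, 15, 2, 20, 19, 5, 17, 23]),
  ([0, 12, 13, 6, 18, 19, 1, 20, 9, 2, 17, 15, 8, 4, 22, 21, 3, 11, 16, 7, 10, 14, 5, 23], [0, 6, 9, 16, 13, 22, 3, 19, 12, 8, 20, 17, 1, 2, 21, 11, 18, 10, 4, 5, 7, 15, 14, 23]),
  ([0, 9, 12, 3, 13, 10, 2, 7, 4, 18, 21, 17, 6, 8, 11, 19, 16, 14, 1, 22, 20, 5, 15, 23], [0, 18, 6, 3, 8, 21, 12, 7, 13, 1, 5, 14, 2, 4, 17, 22, 16, 11, 9, 15, 20, 10, 19, 23]),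
  ([0, 4, 9, 16, 12, 20, 18, 22, 8, 13, 19, 21, 3, 6, 14, 10, 1, 5, 2, 11, 7, 15, 17, 23], [0, 16, 18, 12, 1, 17, 13, 20, 8, 2, 15, 19, 4, 9, 14, 21, 3, 22, 6, 10, 5, 11, 7, 23]),
  ([0, 8, 4, 1, 9, 7, 13, 11, 6, 12, 10, 19, 16, 3, 5, 20, 2, 15, 18, 14, 22, 17, 21, 23], [0, 3, 16, 13, 2, 14, 8, 5, 1, 4, 10, 7, 9, 6, 19, 17, 12, 21, 18, 11, 15, 22, 20, 23]),
  ([0, 6, 8, 2, 4, 22, 12, 14, 3, 9, 20, 10, 1, 16, 15, 7, 18, 17, 13, 5, 11, 21, 19, 23], [0, 12, 3, 8, 4, 19, 1, 15, 2, 9, 11, 20, 6, 18, 7, 14, 13, 17, 16, 22, 10, 21, 5, 23]),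
  ([0, 3, 6, 18, 8, 11, 9, 5, 16, 4, 7, 20, 2, 1, 17, 22, 13, 21, 12, 15, 14, 19, 10, 23], [0, 13, 12, 1, 9, 7, 2, 10, 4, 6, 22, 5, 18, 16, 20, 19, 8, 14, 3, 21, 11, 17, 15, 23]),
  ([0, 16, 3, 13, 6, 14, 4, 15, 1, 8, 22, 7, 18, 2, 21, 11, 12, 19, 9, 17, 5, 10, 20, 23], [0, 8, 13, 2, 6, 20, 4, 11, 9, 18, 21, 15, 16, 3, 5, 7, 1, 19, 12, 17, 22, 14, 10, 23]),
  ([0, 13, 9, 3, 16, 20, 4, 10, 18, 1, 5, 14, 2, 12, 17, 11, 8, 22, 6, 19, 21, 7, 15, 23], [0, 9, 12, 3, 6, 10, 18, 21, 16, 2, 7, 15, 13, 1, 11, 22, 4, 14, 8, 19, 5, 20, 17, 23]),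
  ([0, 12, 4, 16, 1, 7, 8, 20, 13, 2, 15, 5, 18, 9, 21, 14, 6, 11, 3, 10, 19, 22, 17, 23], [0, 4, 9, 18, 2, 11, 16, 5, 6, 13, 19, 17, 1, 8, 15, 10, 3, 22, 12, 20, 7, 14, 21, 23]),
  ([0, 9, 8, 1, 2, 22, 6, 7, 12, 18, 17, 15, 13, 4, 19, 5, 3, 14, 16, 20, 10, 11, 21, 23], [0, 3, 4, 16, 13, 15, 6, 7, 2, 1, 20, 21, 8, 12, 17, 11, 18, 10, 9, 14, 19, 22, 5, 23]),
  ([0, 4, 6, 2, 18, 11, 3, 22, 9, 13, 21, 17, 12, 8, 10, 15, 16, 5, 1, 7, 20, 14, 19, 23], [0, 18, 3, 6, 1, 17, 2, 19, 13, 8, 14, 5, 12, 9, 21, 15, 16, 11, 4, 22, 20, 10, 7, 23]),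
  ([0, 8, 3, 18, 13, 14, 16, 11, 4, 12, 19, 21, 9, 6, 20, 17, 1, 15, 2, 22, 7, 5, 10, 23], [0, 16, 18, 2, 8, 21, 13, 20, 1, 12, 22, 7, 9, 4, 5, 17, 6, 15, 3, 10, 14, 11, 19, 23]),
  ([0, 6, 16, 13, 12, 5, 1, 14, 8, 9, 10, 19, 4, 3, 7, 21, 2, 17, 18, 11, 22, 15, 20, 23], [0, 6, 16, 13, 12, 5, 1, 14, 8, 9, 10, 19, 4, 3, 7, 21, 2, 17, 18, 11, 22, 15, 20, 23]),
  ([0, 3, 1, 12, 9, 15, 2, 5, 6, 4, 20, 10, 8, 16, 22, 19, 18, 21, 13, 14, 11, 17, 7, 23], [0, 2, 6, 1, 9, 7, 8, 22, 12, 4, 11, 20, 3, 18, 19, 5, 13, 21, 16, 15, 10, 17, 14, 23]),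
  ([0, 16, 2, 9, 4, 17, 18, 15, 3, 8, 7, 20, 6, 1, 11, 10, 13, 19, 12, 5, 14, 21, 22, 23], [0, 13, 2, 8, 4, 19, 12, 10, 9, 3, 15, 14, 18, 16, 20, 7, 1, 5, 6, 17, 11, 21, 22, 23]),
  ([0, 1, 18, 4, 8, 21, 13, 17, 16, 6, 22, 7, 3, 2, 14, 20, 12, 10, 9, 15, 5, 19, 11, 23], [0, 1, 13, 12, 3, 20, 9, 11, 4, 18, 17, 22, 16, 6, 14, 19, 8, 7, 2, 21, 15, 5, 10, 23]),
  ([0, 2, 13, 8, 6, 19, 12, 21, 1, 3, 11, 22, 16, 18, 5, 7, 9, 20, 4, 17, 15, 10, 14, 23], [0, 8, 1, 9, 18, 14, 4, 15, 3, 16, 21, 10, 6, 2, 22, 20, 12, 19, 13, 5, 17, 7, 11, 23]),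
  ([0, 18, 12, 6, 3, 10, 9, 19, 2, 16, 14, 11, 1, 13, 15, 22, 4, 7, 8, 21, 17, 20, 5, 23], [0, 12, 8, 4, 16, 22, 3, 17, 18, 6, 5, 11, 2, 13, 10, 14, 9, 20, 1, 7, 21, 19, 15, 23]),
  ([0, 2, 8, 16, 9, 7, 6, 22, 12, 13, 20, 11, 18, 3, 10, 5, 4, 14, 1, 17, 19, 15, 21, 23], [0, 18, 1, 13, 16, 15, 6, 5, 2, 4, 14, 11, 8, 9, 17, 21, 3, 19, 12, 20, 10, 22, 7, 23]),
  ([0, 18, 6, 1, 4, 22, 3, 11, 9, 12, 7, 14, 13, 16, 20, 15, 8, 5, 2, 21, 10, 17, 19, 23], [0, 3, 18, 6, 4, 17, 2, 10, 16, 8, 20, 7, 9, 12, 11, 15, 13, 21, 1, 22, 14, 19, 5, 23]),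
  ([0, 13, 3, 2, 8, 11, 16, 14, 4, 9, 22, 5, 12, 1, 7, 17, 6, 15, 18, 19, 20, 21, 10, 23], [0, 13, 3, 2, 8, 11, 16, 14, 4, 9, 22, 5, 12, 1, 7, 17, 6, 15, 18, 19, 20, 21, 10, 23]),
  ([0, 12, 16, 18, 6, 14, 1, 5, 8, 4, 11, 15, 9, 2, 22, 21, 3, 17, 13, 10, 7, 19, 20, 23], [0, 6, 13, 16, 9, 7, 4, 20, 8, 12, 19, 10, 1, 18, 5, 11, 2, 17, 3, 21, 22, 15, 14, 23]),
  ([0, 9, 1, 13, 3, 5, 2, 15, 6, 8, 14, 17, 4, 18, 11, 19, 16, 21, 12, 20, 22, 10, 7, 23], [0, 2, 6, 4, 12, 5, 8, 22, 9, 1, 21, 14, 18, 3, 10, 7, 16, 11, 13, 15, 19, 17, 20, 23]),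
  ([0, 4, 2, 12, 16, 15, 18, 17, 3, 6, 5, 21, 8, 13, 14, 10, 1, 19, 9, 7, 11, 20, 22, 23], [0, 16, 2, 8, 1, 10, 9, 19, 12, 18, 15, 20, 3, 13, 14, 5, 4, 7, 6, 17, 21, 11, 22, 23]),
  ([0, 8, 18, 9, 1, 17, 13, 21, 16, 3, 15, 19, 6, 12, 5, 20, 2, 10, 4, 22, 14, 7, 11, 23], [0, 4, 16, 9, 18, 14, 12, 21, 1, 3, 17, 22, 13, 6, 20, 10, 8, 5, 2, 11, 15, 7, 19, 23]),
  ([0, 6, 13, 4, 2, 21, 12, 19, 1, 16, 17, 10, 3, 9, 15, 7, 18, 20, 8, 11, 5, 22, 14, 23], [0, 8, 4, 12, 3, 20, 1, 15, 18, 13, 11, 19, 6, 2, 22, 14, 9, 10, 16, 7, 17, 5, 21, 23]),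
  ([0, 3, 12, 8, 18, 19, 9, 10, 2, 1, 21, 20, 16, 4, 17, 22, 13, 7, 6, 14, 15, 11, 5, 23], [0, 9, 8, 1, 13, 22, 18, 17, 3, 6, 7, 21, 2, 16, 19, 20, 12, 14, 4, 5, 11, 10, 15, 23]),
  ([0, 16, 9, 6, 13, 10, 4, 20, 18, 2, 19, 7, 1, 8, 21, 11, 12, 22, 3, 5, 17, 14, 15, 23], [0, 12, 9, 18, 6, 19, 3, 11, 13, 2, 5, 15, 16, 4, 21, 22, 1, 20, 8, 10, 7, 14, 17, 23]),
  ([0, 1, 4, 3, 12, 20, 8, 7, 13, 18, 10, 22, 2, 6, 19, 14, 9, 11, 16, 15, 21, 5, 17, 23], [0, 1, 12, 3, 2, 21, 13, 7, 6, 16, 10, 17, 4, 8, 15, 19, 18, 22, 9, 14, 5, 20, 11, 23]),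
  ([0, 18, 4, 9, 8, 15, 1, 14, 3, 2, 7, 5, 12, 16, 22, 20, 6, 11, 13, 10, 17, 21, 19, 23], [0, 6, 9, 8, 2, 11, 16, 10, 4, 3, 19, 17, 12, 18, 7, 5, 13, 20, 1, 22, 15, 21, 14, 23]),
  ([0, 13, 8, 4, 6, 17, 2, 5, 16, 18, 22, 15, 9, 1, 11, 7, 3, 14, 12, 20, 21, 19, 10, 23], [0, 13, 6, 16, 3, 7, 4, 15, 2, 12, 22, 14, 18, 1, 17, 11, 8, 5, 9, 21, 19, 20, 10, 23]),
  ([0, 12, 6, 8, 3, 21, 18, 15, 1, 13, 11, 17, 4, 2, 14, 22, 16, 5, 9, 7, 19, 10, 20, 23], [0, 8, 13, 4, 12, 17, 2, 19, 3, 18, 21, 10, 1, 9, 14, 7, 16, 11, 6, 20, 22, 5, 15, 23]),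
  ([0, 9, 3, 6, 16, 19, 13, 17, 2, 12, 14, 21, 8, 18, 5, 11, 1, 15, 4, 22, 10, 20, 7, 23], [0, 16, 8, 2, 18, 14, 3, 22, 12, 1, 20, 15, 9, 6, 10, 17, 4, 7, 13, 5, 21, 11, 19, 23]),
  ([0, 4, 16, 3, 1, 10, 12, 21, 18, 9, 5, 19, 6, 13, 15, 14, 2, 17, 8, 11, 20, 7, 22, 23], [0, 4, 16, 3, 1, 10, 12, 21, 18, 9, 5, 19, 6, 13, 15, 14, 2, 17, 8, 11, 20, 7, 22, 23]),
  ([0, 8, 1, 16, 2, 20, 9, 19, 13, 4, 15, 10, 3, 12, 17, 5, 18, 21, 6, 14, 7, 22, 11, 23], [0, 2, 4, 12, 9, 15, 18, 20, 1, 6, 11, 22, 13, 8, 19, 10, 3, 14, 16, 7, 5, 17, 21, 23]),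
  ([0, 6, 2, 1, 18, 7, 4, 10, 12, 8, 17, 20, 16, 9, 21, 15, 13, 19, 3, 5, 22, 11, 14, 23], [0, 3, 2, 18, 6, 19, 1, 5, 9, 13, 7, 21, 8, 16, 22, 15, 12, 10, 4, 17, 11, 14, 20, 23]),
  ([0, 3, 18, 2, 13, 22, 8, 20, 9, 6, 21, 7, 1, 4, 19, 17, 12, 10, 16, 15, 11, 14, 5, 23], [0, 12, 3, 1, 13, 22, 9, 11, 6, 8, 17, 20, 16, 4, 21, 19, 18, 15, 2, 14, 7, 10, 5, 23]),
  ([0, 16, 13, 18, 12, 11, 6, 7, 4, 3, 19, 22, 2, 8, 10, 21, 9, 20, 1, 17, 14, 5, 15, 23], [0, 18, 12, 9, 8, 21, 6, 7, 13, 16, 14, 5, 4, 2, 20, 22, 1, 19, 3, 10, 17, 15, 11, 23]),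
  ([0, 1, 12, 13, 9, 14, 3, 22, 8, 16, 10, 11, 18, 6, 20, 19, 4, 7, 2, 21, 5, 15, 17, 23], [0, 1, 18, 6, 16, 20, 13, 17, 8, 4, 10, 11, 2, 3, 5, 21, 9, 22, 12, 15, 14, 19, 7, 23]),
  ([0, 2, 9, 12, 4, 5, 16, 11, 6, 1, 20, 14, 13, 3, 7, 10, 8, 22, 18, 19, 15, 17, 21, 23], [0, 9, 1, 13, 4, 5, 8, 14, 16, 2, 15, 7, 3, 12, 11, 20, 6, 21, 18, 19, 10, 22, 17, 23]),
  ([0, 8, 9, 1, 4, 22, 18, 10, 12, 6, 11, 15, 16, 2, 14, 20, 3, 19, 13, 5, 7, 17, 21, 23], [0, 3, 13, 16, 4, 19, 9, 20, 1, 2, 7, 10, 8, 18, 14, 11, 12, 21, 6, 17, 15, 22, 5, 23]),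
  ([0, 1, 3, 12, 16, 15, 4, 11, 6, 2, 17, 10, 13, 9, 21, 14, 18, 22, 8, 19, 5, 20, 7, 23], [0, 1, 9, 2, 6, 20, 8, 22, 18, 13, 11, 7, 3, 12, 15, 5, 4, 10, 16, 19, 21, 14, 17, 23]),
  ([0, 12, 18, 6, 13, 10, 16, 17, 2, 9, 20, 11, 8, 3, 7, 21, 4, 15, 1, 22, 19, 14, 5, 23], [0, 18, 8, 13, 16, 22, 3, 14, 12, 9, 5, 11, 1, 4, 21, 17, 6, 7, 2, 20, 10, 15, 19, 23]),
  ([0, 6, 4, 2, 8, 11, 13, 20, 9, 3, 14, 17, 1, 18, 5, 7, 16, 10, 12, 15, 22, 21, 19, 23], [0, 12, 3, 9, 2, 14, 1, 15, 4, 8, 17, 5, 18, 6, 10, 19, 16, 11, 13, 22, 7, 21, 20, 23]),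
  ([0, 2, 16, 9, 1, 17, 8, 14, 3, 18, 21, 20, 12, 4, 19, 5, 13, 11, 6, 10, 15, 7, 22, 23], [0, 4, 1, 8, 13, 15, 18, 21, 6, 3, 19, 17, 12, 16, 7, 20, 2, 5, 9, 14, 11, 10, 22, 23]),
  ([0, 9, 13, 3, 12, 20, 1, 21, 18, 4, 7, 14, 6, 16, 22, 19, 8, 17, 2, 11, 10, 5, 15, 23], [0, 6, 18, 3, 9, 21, 12, 10, 16, 1, 20, 19, 4, 2, 11, 22, 13, 17, 8, 15, 5, 7, 14, 23]),
  ([0, 3, 8, 18, 6, 14, 12, 7, 4, 16, 5, 21, 2, 13, 15, 22, 1, 20, 9, 17, 11, 19, 10, 23], [0, 16, 12, 1, 8, 10, 4, 7, 2, 18, 22, 20, 6, 13, 5, 14, 9, 19, 3, 21, 17, 11, 15, 23]),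
  ([0, 18, 1, 4, 2, 21, 6, 5, 16, 13, 19, 7, 9, 8, 10, 15, 12, 14, 3, 20, 17, 22, 11, 23], [0, 2, 4, 18, 3, 7, 6, 11, 13, 12, 14, 22, 16, 9, 17, 15, 8, 20, 1, 10, 19, 5, 21, 23]),
  ([0, 4, 12, 16, 9, 7, 2, 19, 13, 8, 22, 5, 3, 1, 11, 10, 6, 21, 18, 14, 20, 15, 17, 23], [0, 13, 6, 12, 1, 11, 16, 5, 9, 4, 15, 14, 2, 8, 19, 21, 3, 22, 18, 7, 20, 17, 10, 23]),
  ([0, 16, 6, 13, 3, 5, 9, 22, 8, 1, 15, 19, 18, 12, 17, 11, 2, 7, 4, 21, 14, 10, 20, 23], [0, 9, 16, 4, 18, 5, 2, 17, 8, 6, 21, 15, 13, 3, 20, 10, 1, 14, 12, 11, 22, 19, 7, 23]),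
  ([0, 13, 2, 8, 18, 19, 3, 15, 1, 12, 10, 22, 4, 6, 20, 17, 9, 5, 16, 7, 21, 11, 14, 23], [0, 8, 2, 6, 12, 17, 13, 19, 3, 16, 10, 21, 9, 1, 22, 7, 18, 15, 4, 5, 14, 20, 11, 23]),
  ([0, 1, 6, 18, 13, 5, 16, 11, 9, 2, 7, 17, 4, 3, 20, 21, 8, 22, 12, 15, 19, 14, 10, 23], [0, 1, 9, 13, 12, 5, 2, 10, 16, 8, 22, 7, 18, 4, 21, 19, 6, 11, 3, 20, 14, 15, 17, 23]),
  ([0, 12, 2, 4, 8, 19, 13, 17, 3, 9, 5, 20, 16, 18, 14, 7, 1, 15, 6, 10, 22, 21, 11, 23], [0, 16, 2, 8, 3, 10, 18, 15, 4, 9, 19, 22, 1, 6, 14, 17, 12, 7, 13, 5, 11, 21, 20, 23]),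
  ([0, 6, 9, 16, 1, 22, 8, 20, 18, 3, 19, 14, 13, 4, 21, 5, 12, 10, 2, 11, 15, 7, 17, 23], [0, 4, 18, 9, 13, 15, 1, 21, 6, 2, 17, 19, 16, 12, 11, 20, 3, 22, 8, 10, 7, 14, 5, 23]),
  ([0, 2, 3, 13, 12, 15, 1, 14, 4, 18, 22, 21, 8, 16, 7, 19, 6, 11, 9, 17, 10, 5, 20, 23], [0, 6, 1, 2, 8, 21, 16, 14, 12, 18, 20, 17, 4, 3, 7, 5, 13, 19, 9, 15, 22, 11, 10, 23]),
  ([0, 9, 18, 8, 6, 10, 12, 21, 16, 4, 15, 7, 1, 13, 5, 22, 2, 17, 3, 20, 11, 19, 14, 23], [0, 12, 16, 18, 9, 14, 4, 11, 3, 1, 5, 20, 6, 13, 22, 10, 8, 17, 2, 21, 19, 7, 15, 23]),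
  ([0, 3, 4, 1, 2, 11, 6, 7, 13, 16, 10, 5, 12, 8, 19, 15, 9, 20, 18, 14, 17, 22, 21, 23], [0, 3, 4, 1, 2, 11, 6, 7, 13, 16, 10, 5, 12, 8, 19, 15, 9, 20, 18, 14, 17, 22, 21, 23]),
  ([0, 18, 16, 12, 9, 17, 2, 5, 8, 13, 11, 19, 6, 1, 22, 10, 3, 14, 4, 21, 20, 15, 7, 23], [0, 13, 6, 16, 18, 7, 12, 22, 8, 4, 15, 10, 3, 9, 17, 21, 2, 5, 1, 11, 20, 19, 14, 23]),
  ([0, 4, 13, 6, 3, 20, 9, 19, 1, 8, 17, 22, 2, 12, 15, 11, 18, 21, 16, 7, 14, 10, 5, 23], [0, 8, 12, 4, 1, 22, 3, 19, 9, 6, 21, 15, 13, 2, 20, 14, 18, 10, 16, 7, 5, 17, 11, 23]),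
  ([0, 16, 8, 2, 18, 14, 3, 22, 12, 1, 20, 15, 9, 6, 10, 17, 4, 7, 13, 5, 21, 11, 19, 23], [0, 9, 3, 6, 16, 19, 13, 17, 2, 12, 14, 21, 8, 18, 5, 11, 1, 15, 4, 22, 10, 20, 7, 23]),
  ([0, 13, 1, 9, 4, 21, 18, 15, 6, 12, 14, 10, 3, 2, 11, 20, 16, 5, 8, 19, 7, 17, 22, 23], [0, 2, 13, 12, 4, 17, 8, 20, 18, 3, 11, 14, 9, 1, 10, 7, 16, 21, 6, 19, 15, 5, 22, 23]),
  ([0, 8, 12, 3, 16, 7, 4, 10, 2, 6, 21, 11, 18, 9, 17, 14, 13, 19, 1, 22, 5, 20, 15, 23], [0, 18, 8, 3, 6, 20, 9, 5, 1, 13, 7, 11, 2, 16, 15, 22, 4, 14, 12, 17, 21, 10, 19, 23]),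
  ([0, 18, 2, 16, 12, 15, 4, 7, 6, 3, 19, 14, 13, 8, 21, 10, 1, 5, 9, 17, 22, 20, 11, 23], [0, 16, 2, 9, 6, 17, 8, 7, 13, 18, 15, 22, 4, 12, 11, 5, 3, 19, 1, 10, 21, 14, 20, 23]),
  ([0, 4, 9, 13, 6, 10, 16, 5, 2, 18, 22, 21, 8, 1, 7, 11, 12, 19, 3, 20, 15, 14, 17, 23], [0, 13, 8, 18, 1, 7, 4, 14, 12, 2, 5, 15, 16, 3, 21, 20, 6, 22, 9, 17, 19, 11, 10, 23]),
  ([0, 16, 3, 8, 2, 11, 13, 19, 9, 4, 15, 7, 1, 12, 5, 17, 6, 22, 18, 14, 10, 21, 20, 23], [0, 12, 4, 2, 9, 14, 16, 11, 3, 8, 20, 5, 13, 6, 19, 10, 1, 15, 18, 7, 22, 21, 17, 23]),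
  ([0, 13, 18, 1, 9, 17, 8, 22, 3, 16, 10, 5, 12, 6, 19, 20, 2, 15, 4, 21, 11, 7, 14, 23], [0, 3, 16, 8, 18, 11, 13, 21, 6, 4, 10, 20, 12, 1, 22, 17, 9, 5, 2, 14, 15, 19, 7, 23]),
  ([0, 8, 4, 12, 3, 20, 1, 15, 18, 13, 11, 19, 6, 2, 22, 14, 9, 10, 16, 7, 17, 5, 21, 23], [0, 6, 13, 4, 2, 21, 12, 19, 1, 16, 17, 10, 3, 9, 15, 7, 18, 20, 8, 11, 5, 22, 14, 23]),
  ([0, 1, 16, 6, 18, 14, 12, 10, 4, 8, 17, 22, 2, 9, 15, 21, 3, 11, 13, 5, 20, 19, 7, 23], [0, 1, 12, 16, 8, 19, 3, 22, 9, 13, 7, 17, 6, 18, 5, 14, 2, 10, 4, 21, 20, 15, 11, 23]),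
  ([0, 12, 13, 2, 4, 21, 6, 11, 16, 1, 20, 15, 9, 3, 10, 7, 18, 17, 8, 19, 14, 22, 5, 23], [0, 9, 3, 13, 4, 22, 6, 15, 18, 12, 14, 7, 1, 2, 20, 11, 8, 17, 16, 19, 10, 5, 21, 23]),
  ([0, 6, 8, 9, 16, 7, 2, 17, 13, 12, 14, 10, 3, 18, 11, 5, 4, 20, 1, 22, 21, 15, 19, 23], [0, 18, 6, 12, 16, 15, 1, 5, 2, 3, 11, 14, 9, 8, 10, 21, 4, 7, 13, 22, 17, 20, 19, 23]),
  ([0, 2, 1, 3, 13, 5, 9, 20, 8, 6, 21, 11, 18, 4, 17, 19, 16, 14, 12, 15, 7, 10, 22, 23], [0, 2, 1, 3, 13, 5, 9, 20, 8, 6, 21, 11, 18, 4, 17, 19, 16, 14, 12, 15, 7, 10, 22, 23]),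
  ([0, 9, 12, 18, 8, 19, 3, 14, 1, 2, 7, 17, 4, 16, 20, 22, 13, 21, 6, 10, 5, 11, 15, 23], [0, 8, 9, 6, 12, 20, 18, 10, 4, 1, 19, 21, 2, 16, 7, 22, 13, 11, 3, 5, 14, 17, 15, 23]),
  ([0, 3, 6, 4, 1, 22, 18, 21, 12, 9, 5, 20, 16, 13, 14, 15, 8, 7, 2, 11, 19, 17, 10, 23], [0, 4, 18, 1, 3, 10, 2, 17, 16, 9, 22, 19, 8, 13, 14, 15, 12, 21, 6, 20, 11, 7, 5, 23]),
  ([0, 16, 3, 4, 9, 17, 13, 19, 2, 8, 22, 20, 12, 1, 10, 11, 18, 15, 6, 14, 5, 21, 7, 23], [0, 13, 8, 2, 3, 20, 18, 22, 9, 4, 14, 15, 12, 6, 19, 17, 1, 5, 16, 7, 11, 21, 10, 23]),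
  ([0, 13, 18, 16, 3, 20, 8, 22, 9, 1, 15, 14, 6, 12, 11, 17, 4, 10, 2, 21, 19, 7, 5, 23], [0, 9, 18, 4, 16, 22, 12, 21, 6, 8, 17, 14, 13, 1, 11, 10, 3, 15, 2, 20, 5, 19, 7, 23]),
  ([0, 8, 4, 13, 18, 14, 1, 15, 3, 12, 10, 21, 2, 6, 17, 20, 16, 11, 9, 7, 22, 5, 19, 23], [0, 6, 12, 8, 2, 21, 13, 19, 1, 18, 10, 17, 9, 3, 5, 7, 16, 14, 4, 22, 15, 11, 20, 23]),
  ([0, 1, 16, 8, 4, 21, 12, 10, 18, 6, 11, 7, 9, 2, 20, 14, 13, 17, 3, 5, 15, 19, 22, 23], [0, 1, 13, 18, 4, 19, 9, 11, 3, 12, 7, 10, 6, 16, 15, 20, 2, 17, 8, 21, 14, 5, 22, 23]),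
  ([0, 12, 13, 1, 16, 7, 6, 11, 4, 2, 17, 5, 3, 9, 14, 21, 8, 20, 18, 19, 10, 22, 15, 23], [0, 3, 9, 12, 8, 11, 6, 5, 16, 13, 20, 7, 1, 2, 14, 22, 4, 10, 18, 19, 17, 15, 21, 23]),
  ([0, 6, 8, 12, 13, 5, 2, 17, 16, 9, 20, 19, 18, 3, 21, 7, 1, 14, 4, 22, 11, 15, 10, 23], [0, 16, 6, 13, 18, 5, 1, 15, 2, 9, 22, 20, 3, 4, 17, 21, 8, 7, 12, 11, 10, 14, 19, 23]),
  ([0, 2, 1, 6, 8, 19, 9, 20, 13, 3, 14, 22, 4, 18, 7, 5, 12, 21, 16, 15, 17, 10, 11, 23], [0, 2, 1, 9, 12, 15, 3, 14, 4, 6, 21, 22, 16, 8, 10, 19, 18, 20, 13, 5, 7, 17, 11, 23]),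
  ([0, 9, 12, 2, 1, 22, 3, 14, 8, 18, 21, 15, 16, 4, 5, 19, 6, 7, 13, 10, 20, 11, 17, 23], [0, 4, 3, 6, 13, 14, 16, 17, 8, 1, 19, 21, 2, 18, 7, 11, 12, 22, 9, 15, 20, 10, 5, 23]),
  ([0, 3, 6, 9, 12, 15, 18, 21, 1, 4, 7, 10, 13, 16, 19, 22, 2, 5, 8, 11, 14, 17, 20, 23], [0, 8, 16, 1, 9, 17, 2, 10, 18, 3, 11, 19, 4, 12, 20, 5, 13, 21, 6, 14, 22, 7, 15, 23]),
  ([0, 18, 2, 3, 6, 10, 4, 7, 12, 16, 5, 11, 8, 13, 22, 15, 9, 19, 1, 17, 21, 20, 14, 23], [0, 18, 2, 3, 6, 10, 4, 7, 12, 16, 5, 11, 8, 13, 22, 15, 9, 19, 1, 17, 21, 20, 14, 23]),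
  ([0, 4, 9, 18, 2, 11, 16, 5, 6, 13, 19, 17, 1, 8, 15, 10, 3, 22, 12, 20, 7, 14, 21, 23], [0, 12, 4, 16, 1, 7, 8, 20, 13, 2, 15, 5, 18, 9, 21, 14, 6, 11, 3, 10, 19, 22, 17, 23]),
  ([0, 4, 8, 13, 6, 14, 12, 22, 3, 1, 5, 21, 9, 18, 11, 7, 16, 17, 2, 20, 15, 10, 19, 23], [0, 9, 18, 8, 1, 10, 4, 15, 2, 12, 21, 14, 6, 3, 5, 20, 16, 17, 13, 22, 19, 11, 7, 23]),
  ([0, 16, 1, 8, 2, 21, 6, 15, 18, 12, 19, 7, 3, 4, 17, 5, 13, 20, 9, 14, 10, 11, 22, 23], [0, 2, 4, 12, 13, 15, 6, 11, 3, 18, 20, 21, 9, 16, 19, 7, 1, 14, 8, 10, 17, 5, 22, 23]),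
  ([0, 13, 12, 1, 9, 7, 2, 10, 4, 6, 22, 5, 18, 16, 20, 19, 8, 14, 3, 21, 11, 17, 15, 23], [0, 3, 6, 18, 8, 11, 9, 5, 16, 4, 7, 20, 2, 1, 17, 22, 13, 21, 12, 15, 14, 19, 10, 23]),
  ([0, 8, 6, 12, 3, 5, 9, 11, 16, 2, 15, 19, 4, 13, 14, 22, 1, 21, 18, 7, 17, 20, 10, 23], [0, 16, 9, 4, 12, 5, 2, 19, 1, 6, 22, 7, 3, 13, 14, 10, 8, 20, 18, 11, 21, 17, 15, 23]),
  ([0, 1, 2, 6, 18, 19, 3, 17, 13, 9, 10, 22, 16, 8, 21, 15, 12, 7, 4, 5, 20, 14, 11, 23], [0, 1, 2, 6, 18, 19, 3, 17, 13, 9, 10, 22, 16, 8, 21, 15, 12, 7, 4, 5, 20, 14, 11, 23]),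
  ([0, 12, 9, 2, 4, 22, 18, 20, 8, 3, 11, 15, 13, 1, 7, 10, 6, 5, 16, 19, 14, 21, 17, 23], [0, 13, 3, 9, 4, 17, 16, 14, 8, 2, 15, 10, 1, 12, 20, 11, 18, 22, 6, 19, 7, 21, 5, 23]),
  ([0, 6, 3, 9, 16, 15, 4, 14, 1, 18, 17, 10, 8, 12, 5, 11, 2, 19, 13, 22, 21, 7, 20, 23], [0, 8, 16, 2, 6, 14, 1, 21, 12, 3, 11, 15, 13, 18, 7, 5, 4, 10, 9, 17, 22, 20, 19, 23]),
  ([0, 2, 18, 3, 13, 10, 16, 21, 12, 4, 20, 11, 1, 6, 19, 17, 9, 22, 8, 15, 7, 5, 14, 23], [0, 12, 1, 3, 9, 21, 13, 20, 18, 16, 5, 11, 8, 4, 22, 19, 6, 15, 2, 14, 10, 7, 17, 23]),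
  ([0, 9, 4, 18, 8, 11, 13, 7, 6, 16, 14, 17, 12, 2, 22, 20, 3, 15, 1, 10, 5, 19, 21, 23], [0, 18, 13, 16, 2, 20, 8, 7, 4, 1, 19, 5, 12, 6, 10, 17, 9, 11, 3, 21, 15, 22, 14, 23]),
  ([0, 3, 16, 4, 1, 17, 8, 5, 2, 13, 21, 20, 6, 9, 15, 14, 18, 10, 12, 11, 19, 22, 7, 23], [0, 4, 8, 1, 3, 7, 12, 22, 6, 13, 17, 19, 18, 9, 15, 14, 2, 5, 16, 20, 11, 10, 21, 23]),
  ([0, 18, 13, 16, 12, 20, 1, 19, 9, 8, 7, 14, 2, 3, 10, 21, 4, 11, 6, 17, 22, 15, 5, 23], [0, 6, 12, 13, 16, 22, 18, 10, 9, 8, 14, 17, 4, 2, 11, 21, 3, 19, 1, 7, 5, 15, 20, 23]),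
  ([0, 13, 1, 12, 2, 20, 9, 5, 8, 18, 15, 10, 6, 16, 7, 19, 4, 14, 3, 21, 17, 11, 22, 23], [0, 2, 4, 18, 16, 7, 12, 14, 8, 6, 11, 21, 3, 1, 17, 10, 13, 20, 9, 15, 5, 19, 22, 23]),
  ([0, 8, 12, 6, 9, 14, 3, 19, 1, 4, 10, 11, 2, 13, 5, 22, 16, 21, 18, 7, 20, 17, 15, 23], [0, 8, 12, 6, 9, 14, 3, 19, 1, 4, 10, 11, 2, 13, 5, 22, 16, 21, 18, 7, 20, 17, 15, 23]),
  ([0, 1, 6, 2, 3, 21, 18, 22, 12, 16, 11, 17, 9, 8, 19, 15, 13, 7, 4, 5, 14, 20, 10, 23], [0, 1, 3, 4, 18, 19, 2, 17, 13, 12, 22, 10, 8, 16, 20, 15, 9, 11, 6, 14, 21, 5, 7, 23]),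
  ([0, 12, 2, 9, 18, 7, 4, 15, 6, 13, 17, 20, 3, 1, 22, 10, 8, 5, 16, 19, 21, 14, 11, 23], [0, 13, 2, 12, 6, 17, 8, 5, 16, 3, 15, 22, 1, 9, 21, 7, 18, 10, 4, 19, 11, 20, 14, 23]),
  ([0, 6, 9, 3, 4, 5, 16, 10, 2, 8, 20, 14, 18, 12, 15, 11, 1, 19, 13, 22, 7, 21, 17, 23], [0, 16, 8, 3, 4, 5, 1, 20, 9, 2, 7, 15, 13, 18, 11, 14, 6, 22, 12, 17, 10, 21, 19, 23]),
  ([0, 2, 3, 18, 16, 19, 13, 11, 9, 1, 14, 21, 4, 6, 10, 17, 12, 22, 8, 15, 5, 7, 20, 23], [0, 9, 1, 2, 12, 20, 13, 21, 18, 8, 14, 7, 16, 6, 10, 19, 4, 15, 3, 5, 22, 11, 17, 23]),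
  ([0, 9, 18, 4, 13, 22, 8, 17, 3, 12, 21, 7, 16, 2, 11, 20, 6, 15, 1, 10, 19, 5, 14, 23], [0, 18, 13, 8, 3, 21, 16, 11, 6, 1, 19, 14, 9, 4, 22, 17, 12, 7, 2, 20, 15, 10, 5, 23]),
  ([0, 3, 4, 16, 8, 15, 1, 20, 18, 6, 7, 5, 13, 9, 17, 14, 2, 10, 12, 11, 22, 19, 21, 23], [0, 6, 16, 1, 2, 11, 9, 10, 4, 13, 17, 19, 18, 12, 15, 5, 3, 14, 8, 21, 7, 22, 20, 23]),
  ([0, 18, 16, 13, 1, 10, 12, 14, 4, 2, 5, 19, 8, 3, 20, 21, 9, 11, 6, 17, 15, 22, 7, 23], [0, 4, 9, 13, 8, 10, 18, 22, 12, 16, 5, 17, 6, 3, 7, 20, 2, 19, 1, 11, 14, 15, 21, 23]),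
  ([0, 4, 13, 8, 12, 11, 6, 21, 16, 9, 19, 22, 1, 18, 14, 7, 3, 17, 2, 20, 10, 15, 5, 23], [0, 12, 18, 16, 1, 22, 6, 15, 3, 9, 20, 5, 4, 2, 14, 21, 8, 17, 13, 10, 19, 7, 11, 23]),
  ([0, 16, 8, 1, 6, 17, 2, 7, 13, 3, 22, 15, 12, 4, 21, 5, 18, 20, 9, 14, 11, 10, 19, 23], [0, 3, 6, 9, 13, 15, 4, 7, 2, 18, 21, 20, 12, 8, 19, 11, 1, 5, 16, 22, 17, 14, 10, 23]),
  ([0, 12, 18, 9, 3, 21, 6, 15, 1, 16, 17, 11, 2, 4, 19, 22, 13, 20, 8, 10, 14, 7, 5, 23], [0, 8, 12, 4, 13, 22, 6, 21, 18, 3, 19, 11, 1, 16, 20, 7, 9, 10, 2, 14, 17, 5, 15, 23]),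
  ([0, 6, 4, 3, 18, 7, 2, 10, 12, 13, 20, 17, 9, 16, 22, 15, 8, 14, 1, 11, 21, 5, 19, 23], [0, 18, 6, 3, 2, 21, 1, 5, 16, 12, 7, 19, 8, 9, 17, 15, 13, 11, 4, 22, 10, 20, 14, 23]),
  ([0, 2, 16, 18, 4, 5, 9, 11, 6, 8, 14, 20, 3, 13, 15, 10, 1, 21, 12, 17, 7, 19, 22, 23], [0, 16, 1, 12, 4, 5, 8, 20, 9, 6, 15, 7, 18, 13, 10, 14, 2, 19, 3, 21, 11, 17, 22, 23]),
  ([0, 9, 13, 4, 16, 19, 3, 17, 2, 1, 21, 14, 18, 8, 10, 11, 12, 7, 6, 20, 5, 22, 15, 23], [0, 9, 8, 6, 3, 20, 18, 17, 13, 1, 14, 15, 16, 2, 11, 22, 4, 7, 12, 5, 19, 10, 21, 23]),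
  ([0, 3, 8, 16, 13, 22, 18, 20, 9, 12, 7, 21, 4, 1, 11, 17, 6, 5, 2, 14, 19, 15, 10, 23], [0, 13, 18, 1, 12, 17, 16, 10, 2, 8, 22, 14, 9, 4, 19, 21, 3, 15, 6, 20, 7, 11, 5, 23]),
  ([0, 18, 1, 13, 8, 15, 4, 14, 3, 6, 5, 7, 16, 12, 17, 20, 2, 19, 9, 21, 22, 10, 11, 23], [0, 2, 16, 8, 6, 10, 9, 11, 4, 18, 21, 22, 13, 3, 7, 5, 12, 14, 1, 17, 15, 19, 20, 23]),
  ([0, 4, 12, 8, 1, 10, 16, 21, 18, 2, 19, 5, 13, 6, 20, 14, 9, 22, 3, 7, 15, 11, 17, 23], [0, 4, 9, 18, 1, 11, 13, 19, 3, 16, 5, 21, 2, 12, 15, 20, 6, 22, 8, 10, 14, 7, 17, 23]),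
  ([0, 16, 6, 1, 12, 11, 13, 7, 4, 9, 22, 19, 8, 2, 14, 21, 3, 15, 18, 5, 10, 17, 20, 23], [0, 3, 13, 16, 8, 19, 2, 7, 12, 9, 20, 5, 4, 6, 14, 17, 1, 21, 18, 11, 22, 15, 10, 23]),
  ([0, 13, 2, 12, 6, 17, 8, 5, 16, 3, 15, 22, 1, 9, 21, 7, 18, 10, 4, 19, 11, 20, 14, 23], [0, 12, 2, 9, 18, 7, 4, 15, 6, 13, 17, 20, 3, 1, 22, 10, 8, 5, 16, 19, 21, 14, 11, 23]),
  ([0, 8, 9, 6, 2, 20, 1, 19, 13, 18, 10, 15, 12, 3, 7, 5, 4, 11, 16, 22, 17, 14, 21, 23], [0, 6, 4, 13, 16, 15, 3, 14, 1, 2, 10, 17, 12, 8, 21, 11, 18, 20, 9, 7, 5, 22, 19, 23]),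
  ([0, 1, 3, 2, 9, 14, 12, 22, 8, 4, 11, 10, 6, 18, 5, 19, 16, 17, 13, 15, 20, 21, 7, 23], [0, 1, 3, 2, 9, 14, 12, 22, 8, 4, 11, 10, 6, 18, 5, 19, 16, 17, 13, 15, 20, 21, 7, 23]),
  ([0, 9, 16, 6, 8, 10, 2, 17, 18, 4, 14, 7, 3, 13, 22, 5, 12, 21, 1, 11, 20, 19, 15, 23], [0, 18, 6, 12, 9, 15, 3, 11, 4, 1, 5, 19, 16, 13, 10, 22, 2, 7, 8, 21, 20, 17, 14, 23]),
  ([0, 3, 13, 2, 1, 11, 9, 20, 4, 16, 21, 5, 18, 8, 15, 19, 6, 7, 12, 17, 14, 22, 10, 23], [0, 4, 3, 1, 8, 11, 16, 17, 13, 6, 22, 5, 18, 2, 20, 14, 9, 19, 12, 15, 7, 10, 21, 23]),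
  ([0, 18, 8, 9, 12, 17, 3, 14, 16, 13, 7, 19, 4, 1, 10, 22, 2, 5, 6, 20, 21, 15, 11, 23], [0, 13, 16, 6, 12, 17, 18, 10, 2, 3, 14, 22, 4, 9, 7, 21, 8, 5, 1, 11, 19, 20, 15, 23]),
  ([0, 4, 1, 3, 6, 20, 18, 21, 13, 8, 5, 22, 16, 12, 11, 15, 9, 19, 2, 14, 7, 10, 17, 23], [0, 2, 18, 3, 1, 10, 4, 20, 9, 16, 21, 14, 13, 8, 19, 15, 12, 22, 6, 17, 5, 7, 11, 23]),
  ([0, 16, 12, 18, 2, 14, 4, 7, 8, 1, 19, 15, 13, 6, 17, 10, 3, 22, 9, 21, 5, 11, 20, 23], [0, 9, 4, 16, 6, 20, 13, 7, 8, 18, 15, 21, 2, 12, 5, 11, 1, 14, 3, 10, 22, 19, 17, 23]),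
  ([0, 13, 6, 4, 9, 21, 16, 5, 1, 12, 22, 10, 8, 2, 20, 11, 18, 15, 3, 7, 19, 17, 14, 23], [0, 8, 13, 18, 3, 7, 2, 19, 12, 4, 11, 15, 9, 1, 22, 17, 6, 21, 16, 20, 14, 5, 10, 23]),
  ([0, 8, 2, 16, 3, 7, 13, 19, 12, 6, 15, 11, 1, 9, 14, 17, 4, 10, 18, 5, 22, 20, 21, 23], [0, 12, 2, 4, 16, 19, 9, 5, 1, 13, 17, 11, 8, 6, 14, 10, 3, 15, 18, 7, 21, 22, 20, 23]),
  ([0, 1, 9, 13, 18, 5, 8, 22, 6, 2, 10, 17, 12, 3, 21, 20, 16, 11, 4, 19, 15, 14, 7, 23], [0, 1, 9, 13, 18, 5, 8, 22, 6, 2, 10, 17, 12, 3, 21, 20, 16, 11, 4, 19, 15, 14, 7, 23]),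
  ([0, 12, 3, 8, 4, 19, 1, 15, 2, 9, 11, 20, 6, 18, 7, 14, 13, 17, 16, 22, 10, 21, 5, 23], [0, 6, 8, 2, 4, 22, 12, 14, 3, 9, 20, 10, 1, 16, 15, 7, 18, 17, 13, 5, 11, 21, 19, 23]),
  ([0, 6, 18, 1, 16, 22, 12, 10, 9, 3, 17, 14, 2, 4, 5, 21, 8, 20, 13, 15, 11, 7, 19, 23], [0, 3, 12, 9, 13, 14, 1, 21, 16, 8, 7, 20, 6, 18, 11, 19, 4, 10, 2, 22, 17, 15, 5, 23]),
  ([0, 2, 4, 12, 13, 15, 6, 11, 3, 18, 20, 21, 9, 16, 19, 7, 1, 14, 8, 10, 17, 5, 22, 23], [0, 16, 1, 8, 2, 21, 6, 15, 18, 12, 19, 7, 3, 4, 17, 5, 13, 20, 9, 14, 10, 11, 22, 23]),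
  ([0, 6, 4, 2, 1, 11, 3, 14, 16, 13, 20, 19, 8, 12, 5, 15, 9, 10, 18, 7, 21, 22, 17, 23], [0, 4, 3, 6, 2, 14, 1, 19, 12, 16, 17, 5, 13, 9, 7, 15, 8, 22, 18, 11, 10, 20, 21, 23]),
  ([0, 2, 16, 9, 12, 17, 18, 21, 13, 8, 14, 22, 1, 6, 19, 10, 3, 11, 4, 5, 7, 15, 20, 23], [0, 12, 1, 16, 18, 19, 13, 20, 9, 3, 15, 17, 4, 8, 10, 21, 2, 5, 6, 14, 22, 7, 11, 23]),
  ([0, 9, 13, 3, 6, 20, 4, 7, 8, 1, 21, 15, 12, 2, 22, 11, 18, 17, 16, 19, 5, 10, 14, 23], [0, 9, 13, 3, 6, 20, 4, 7, 8, 1, 21, 15, 12, 2, 22, 11, 18, 17, 16, 19, 5, 10, 14, 23]),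
  ([0, 3, 8, 18, 2, 14, 16, 5, 1, 12, 7, 10, 6, 9, 15, 17, 4, 20, 13, 22, 19, 11, 21, 23], [0, 8, 4, 1, 16, 7, 12, 10, 2, 13, 11, 21, 9, 18, 5, 14, 6, 15, 3, 20, 17, 22, 19, 23]),
  ([0, 18, 1, 4, 9, 21, 13, 19, 12, 6, 5, 11, 2, 3, 10, 20, 16, 14, 8, 15, 22, 17, 7, 23], [0, 2, 12, 13, 3, 10, 9, 22, 18, 4, 14, 11, 8, 6, 17, 19, 16, 21, 1, 7, 15, 5, 20, 23]),
  ([0, 4, 12, 16, 3, 7, 8, 22, 6, 2, 19, 17, 9, 18, 11, 14, 13, 21, 1, 10, 15, 20, 5, 23], [0, 18, 9, 4, 1, 22, 8, 5, 6, 12, 19, 14, 2, 16, 15, 20, 3, 11, 13, 10, 21, 17, 7, 23]),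
  ([0, 16, 6, 13, 18, 5, 1, 15, 2, 9, 22, 20, 3, 4, 17, 21, 8, 7, 12, 11, 10, 14, 19, 23], [0, 6, 8, 12, 13, 5, 2, 17, 16, 9, 20, 19, 18, 3, 21, 7, 1, 14, 4, 22, 11, 15, 10, 23]),
  ([0, 13, 2, 8, 4, 19, 12, 10, 9, 3, 15, 14, 18, 16, 20, 7, 1, 5, 6, 17, 11, 21, 22, 23], [0, 16, 2, 9, 4, 17, 18, 15, 3, 8, 7, 20, 6, 1, 11, 10, 13, 19, 12, 5, 14, 21, 22, 23]),
  ([0, 8, 9, 1, 16, 22, 6, 11, 3, 18, 10, 21, 4, 13, 14, 5, 12, 19, 2, 20, 17, 7, 15, 23], [0, 3, 18, 8, 12, 15, 6, 21, 1, 2, 10, 7, 16, 13, 14, 22, 4, 20, 9, 17, 19, 11, 5, 23]),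
  ([0, 1, 3, 12, 13, 15, 2, 17, 18, 4, 11, 7, 16, 8, 21, 19, 6, 22, 9, 14, 20, 5, 10, 23], [0, 1, 6, 2, 9, 21, 16, 11, 13, 18, 22, 10, 3, 4, 19, 5, 12, 7, 8, 15, 20, 14, 17, 23]),
  ([0, 12, 18, 6, 8, 10, 9, 20, 4, 16, 17, 5, 13, 1, 7, 22, 2, 15, 3, 21, 14, 19, 11, 23], [0, 13, 16, 18, 8, 11, 3, 14, 4, 6, 5, 22, 1, 12, 20, 17, 9, 10, 2, 21, 7, 19, 15, 23]),
  ([0, 2, 13, 3, 18, 7, 8, 20, 4, 12, 21, 22, 1, 9, 15, 17, 6, 11, 16, 19, 10, 5, 14, 23], [0, 12, 1, 3, 8, 21, 16, 5, 6, 13, 20, 17, 9, 2, 22, 14, 18, 15, 4, 19, 7, 10, 11, 23]),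
  ([0, 9, 8, 18, 4, 5, 1, 14, 16, 6, 7, 15, 12, 3, 10, 20, 2, 17, 13, 22, 11, 19, 21, 23], [0, 6, 16, 13, 4, 5, 9, 10, 2, 1, 14, 20, 12, 18, 7, 11, 8, 17, 3, 21, 15, 22, 19, 23]),
  ([0, 3, 1, 4, 16, 19, 12, 21, 13, 2, 5, 10, 6, 18, 11, 14, 9, 20, 8, 15, 17, 22, 7, 23], [0, 2, 9, 1, 3, 10, 12, 22, 18, 16, 11, 14, 6, 8, 15, 19, 4, 20, 13, 5, 17, 7, 21, 23]),
  ([0, 18, 12, 16, 13, 22, 6, 7, 8, 9, 19, 11, 2, 4, 17, 21, 3, 14, 1, 10, 20, 15, 5, 23], [0, 18, 12, 16, 13, 22, 6, 7, 8, 9, 19, 11, 2, 4, 17, 21, 3, 14, 1, 10, 20, 15, 5, 23]),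
  ([0, 4, 6, 13, 8, 15, 2, 5, 1, 3, 22, 17, 9, 16, 20, 7, 18, 21, 12, 11, 14, 10, 19, 23], [0, 8, 6, 9, 1, 7, 2, 15, 4, 12, 21, 19, 18, 3, 20, 5, 13, 11, 16, 22, 14, 17, 10, 23]),
  ([0, 16, 2, 8, 1, 10, 9, 19, 12, 18, 15, 20, 3, 13, 14, 5, 4, 7, 6, 17, 21, 11, 22, 23], [0, 4, 2, 12, 16, 15, 18, 17, 3, 6, 5, 21, 8, 13, 14, 10, 1, 19, 9, 7, 11, 20, 22, 23]),
  ([0, 13, 9, 1, 12, 11, 3, 22, 6, 4, 10, 14, 18, 8, 21, 19, 16, 5, 2, 20, 7, 17, 15, 23], [0, 3, 18, 6, 9, 17, 8, 20, 13, 2, 10, 5, 4, 1, 11, 22, 16, 21, 12, 15, 19, 14, 7, 23]),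
  ([0, 8, 3, 12, 6, 17, 18, 15, 2, 16, 11, 21, 4, 1, 7, 22, 13, 19, 9, 14, 5, 20, 10, 23], [0, 13, 8, 2, 12, 20, 4, 14, 1, 18, 22, 10, 3, 16, 19, 7, 9, 5, 6, 17, 21, 11, 15, 23]),
  ([0, 1, 18, 6, 2, 20, 4, 10, 9, 13, 17, 7, 16, 12, 5, 15, 8, 22, 3, 21, 19, 14, 11, 23], [0, 1, 4, 18, 6, 14, 3, 11, 16, 8, 7, 22, 13, 9, 21, 15, 12, 10, 2, 20, 5, 19, 17, 23]),
  ([0, 12, 4, 2, 9, 14, 16, 11, 3, 8, 20, 5, 13, 6, 19, 10, 1, 15, 18, 7, 22, 21, 17, 23], [0, 16, 3, 8, 2, 11, 13, 19, 9, 4, 15, 7, 1, 12, 5, 17, 6, 22, 18, 14, 10, 21, 20, 23]),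
  ([0, 6, 16, 9, 3, 21, 13, 17, 18, 1, 14, 19, 8, 2, 22, 11, 12, 10, 4, 5, 15, 7, 20, 23], [0, 9, 13, 4, 18, 19, 1, 21, 12, 3, 17, 15, 16, 6, 10, 20, 2, 7, 8, 11, 22, 5, 14, 23]),
  ([0, 3, 12, 8, 16, 19, 1, 21, 13, 9, 10, 5, 18, 6, 17, 14, 2, 7, 4, 22, 11, 15, 20, 23], [0, 6, 16, 1, 18, 11, 13, 17, 3, 9, 10, 20, 2, 8, 15, 21, 4, 14, 12, 5, 22, 7, 19, 23]),
  ([0, 18, 6, 1, 13, 22, 12, 7, 8, 3, 11, 19, 4, 2, 20, 21, 9, 5, 16, 15, 17, 10, 14, 23], [0, 3, 13, 9, 12, 17, 2, 7, 8, 16, 21, 10, 6, 4, 22, 19, 18, 20, 1, 11, 14, 15, 5, 23]),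
  ([0, 4, 2, 12, 8, 15, 6, 5, 1, 18, 17, 22, 16, 9, 14, 7, 3, 19, 13, 10, 20, 11, 21, 23], [0, 8, 2, 16, 1, 7, 6, 15, 4, 13, 19, 21, 3, 18, 14, 5, 12, 10, 9, 17, 20, 22, 11, 23]),
  ([0, 16, 9, 6, 1, 10, 2, 19, 12, 4, 20, 15, 13, 3, 21, 5, 18, 22, 8, 11, 14, 17, 7, 23], [0, 4, 6, 13, 9, 15, 3, 22, 18, 2, 5, 19, 8, 12, 20, 11, 1, 21, 16, 7, 10, 14, 17, 23]),
  ([0, 13, 3, 2, 12, 11, 9, 22, 6, 16, 14, 10, 8, 18, 7, 19, 4, 15, 1, 17, 21, 20, 5, 23], [0, 18, 3, 2, 16, 22, 8, 14, 12, 6, 11, 5, 4, 1, 10, 17, 9, 19, 13, 15, 21, 20, 7, 23]),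
  ([0, 8, 18, 9, 6, 17, 3, 15, 2, 13, 21, 11, 1, 4, 5, 22, 16, 10, 12, 20, 7, 14, 19, 23], [0, 12, 8, 6, 13, 14, 4, 20, 1, 3, 17, 11, 18, 9, 21, 7, 16, 5, 2, 22, 19, 10, 15, 23]),
  ([0, 1, 4, 3, 2, 20, 18, 10, 9, 8, 7, 17, 12, 16, 19, 15, 13, 11, 6, 14, 5, 21, 22, 23], [0, 1, 4, 3, 2, 20, 18, 10, 9, 8, 7, 17, 12, 16, 19, 15, 13, 11, 6, 14, 5, 21, 22, 23]),
  ([0, 12, 16, 18, 9, 14, 4, 11, 3, 1, 5, 20, 6, 13, 22, 10, 8, 17, 2, 21, 19, 7, 15, 23], [0, 9, 18, 8, 6, 10, 12, 21, 16, 4, 15, 7, 1, 13, 5, 22, 2, 17, 3, 20, 11, 19, 14, 23]),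
  ([0, 6, 13, 4, 3, 21, 16, 17, 18, 12, 19, 14, 2, 8, 15, 11, 1, 20, 9, 7, 22, 5, 10, 23], [0, 16, 12, 4, 3, 21, 1, 19, 13, 18, 22, 15, 9, 2, 11, 14, 6, 7, 8, 10, 17, 5, 20, 23]),
  ([0, 2, 8, 16, 18, 7, 13, 20, 4, 6, 22, 21, 9, 1, 10, 17, 12, 14, 3, 5, 15, 19, 11, 23], [0, 13, 1, 18, 8, 19, 9, 5, 2, 12, 14, 22, 16, 6, 17, 20, 3, 15, 4, 21, 7, 11, 10, 23]),
  ([0, 9, 1, 13, 4, 5, 8, 14, 16, 2, 15, 7, 3, 12, 11, 20, 6, 21, 18, 19, 10, 22, 17, 23], [0, 2, 9, 12, 4, 5, 16, 11, 6, 1, 20, 14, 13, 3, 7, 10, 8, 22, 18, 19, 15, 17, 21, 23]),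
  ([0, 3, 13, 16, 4, 19, 9, 20, 1, 2, 7, 10, 8, 18, 14, 11, 12, 21, 6, 17, 15, 22, 5, 23], [0, 8, 9, 1, 4, 22, 18, 10, 12, 6, 11, 15, 16, 2, 14, 20, 3, 19, 13, 5, 7, 17, 21, 23]),
  ([0, 8, 2, 6, 12, 17, 13, 19, 3, 16, 10, 21, 9, 1, 22, 7, 18, 15, 4, 5, 14, 20, 11, 23], [0, 13, 2, 8, 18, 19, 3, 15, 1, 12, 10, 22, 4, 6, 20, 17, 9, 5, 16, 7, 21, 11, 14, 23]),
  ([0, 9, 16, 4, 18, 5, 2, 17, 8, 6, 21, 15, 13, 3, 20, 10, 1, 14, 12, 11, 22, 19, 7, 23], [0, 16, 6, 13, 3, 5, 9, 22, 8, 1, 15, 19, 18, 12, 17, 11, 2, 7, 4, 21, 14, 10, 20, 23]),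
  ([0, 13, 6, 12, 1, 11, 16, 5, 9, 4, 15, 14, 2, 8, 19, 21, 3, 22, 18, 7, 20, 17, 10, 23], [0, 4, 12, 16, 9, 7, 2, 19, 13, 8, 22, 5, 3, 1, 11, 10, 6, 21, 18, 14, 20, 15, 17, 23]),
  ([0, 2, 4, 18, 3, 7, 6, 11, 13, 12, 14, 22, 16, 9, 17, 15, 8, 20, 1, 10, 19, 5, 21, 23], [0, 18, 1, 4, 2, 21, 6, 5, 16, 13, 19, 7, 9, 8, 10, 15, 12, 14, 3, 20, 17, 22, 11, 23]),
  ([0, 16, 12, 1, 8, 10, 4, 7, 2, 18, 22, 20, 6, 13, 5, 14, 9, 19, 3, 21, 17, 11, 15, 23], [0, 3, 8, 18, 6, 14, 12, 7, 4, 16, 5, 21, 2, 13, 15, 22, 1, 20, 9, 17, 11, 19, 10, 23]),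
  ([0, 6, 18, 3, 9, 21, 12, 10, 16, 1, 20, 19, 4, 2, 11, 22, 13, 17, 8, 15, 5, 7, 14, 23], [0, 9, 13, 3, 12, 20, 1, 21, 18, 4, 7, 14, 6, 16, 22, 19, 8, 17, 2, 11, 10, 5, 15, 23]),
  ([0, 4, 1, 8, 13, 15, 18, 21, 6, 3, 19, 17, 12, 16, 7, 20, 2, 5, 9, 14, 11, 10, 22, 23], [0, 2, 16, 9, 1, 17, 8, 14, 3, 18, 21, 20, 12, 4, 19, 5, 13, 11, 6, 10, 15, 7, 22, 23]),
  ([0, 12, 3, 9, 2, 14, 1, 15, 4, 8, 17, 5, 18, 6, 10, 19, 16, 11, 13, 22, 7, 21, 20, 23], [0, 6, 4, 2, 8, 11, 13, 20, 9, 3, 14, 17, 1, 18, 5, 7, 16, 10, 12, 15, 22, 21, 19, 23]),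
  ([0, 18, 8, 13, 16, 22, 3, 14, 12, 9, 5, 11, 1, 4, 21, 17, 6, 7, 2, 20, 10, 15, 19, 23], [0, 12, 18, 6, 13, 10, 16, 17, 2, 9, 20, 11, 8, 3, 7, 21, 4, 15, 1, 22, 19, 14, 5, 23]),
  ([0, 1, 9, 2, 6, 20, 8, 22, 18, 13, 11, 7, 3, 12, 15, 5, 4, 10, 16, 19, 21, 14, 17, 23], [0, 1, 3, 12, 16, 15, 4, 11, 6, 2, 17, 10, 13, 9, 21, 14, 18, 22, 8, 19, 5, 20, 7, 23]),
  ([0, 6, 16, 1, 18, 11, 13, 17, 3, 9, 10, 20, 2, 8, 15, 21, 4, 14, 12, 5, 22, 7, 19, 23], [0, 3, 12, 8, 16, 19, 1, 21, 13, 9, 10, 5, 18, 6, 17, 14, 2, 7, 4, 22, 11, 15, 20, 23]),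
  ([0, 4, 6, 3, 1, 7, 2, 5, 8, 13, 21, 19, 16, 9, 14, 15, 12, 22, 18, 11, 20, 10, 17, 23], [0, 4, 6, 3, 1, 7, 2, 5, 8, 13, 21, 19, 16, 9, 14, 15, 12, 22, 18, 11, 20, 10, 17, 23]),
  ([0, 12, 4, 8, 3, 10, 16, 11, 9, 2, 15, 17, 6, 13, 22, 14, 18, 20, 1, 7, 19, 21, 5, 23], [0, 18, 9, 4, 2, 22, 12, 19, 3, 8, 5, 7, 1, 13, 15, 10, 6, 11, 16, 20, 17, 21, 14, 23]),
  ([0, 18, 12, 9, 8, 21, 6, 7, 13, 16, 14, 5, 4, 2, 20, 22, 1, 19, 3, 10, 17, 15, 11, 23], [0, 16, 13, 18, 12, 11, 6, 7, 4, 3, 19, 22, 2, 8, 10, 21, 9, 20, 1, 17, 14, 5, 15, 23]),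
  ([0, 1, 18, 13, 9, 15, 4, 10, 2, 6, 22, 11, 12, 16, 19, 20, 3, 17, 8, 21, 5, 14, 7, 23], [0, 1, 8, 16, 6, 20, 9, 22, 18, 4, 7, 11, 12, 3, 21, 5, 13, 17, 2, 14, 15, 19, 10, 23]),
  ([0, 3, 1, 2, 13, 14, 12, 21, 16, 4, 20, 7, 18, 6, 17, 19, 8, 5, 9, 15, 11, 22, 10, 23], [0, 2, 3, 1, 9, 17, 13, 11, 16, 18, 22, 20, 6, 4, 5, 19, 8, 14, 12, 15, 10, 7, 21, 23]),
  ([0, 8, 3, 16, 2, 22, 18, 15, 6, 12, 19, 10, 1, 4, 5, 17, 9, 11, 13, 14, 7, 20, 21, 23], [0, 12, 4, 2, 13, 14, 8, 20, 1, 16, 11, 17, 9, 18, 19, 7, 3, 15, 6, 10, 21, 22, 5, 23]),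
  ([0, 9, 8, 6, 16, 20, 1, 14, 4, 18, 17, 21, 3, 12, 11, 5, 13, 7, 2, 22, 10, 19, 15, 23], [0, 6, 18, 12, 8, 15, 3, 17, 2, 1, 20, 14, 13, 16, 7, 22, 4, 10, 9, 21, 5, 11, 19, 23]),
  ([0, 13, 9, 4, 6, 19, 3, 22, 12, 1, 5, 15, 8, 18, 7, 11, 2, 10, 16, 20, 21, 17, 14, 23], [0, 9, 16, 6, 3, 10, 4, 14, 12, 2, 17, 15, 8, 1, 22, 11, 18, 21, 13, 5, 19, 20, 7, 23]),
  ([0, 2, 13, 12, 4, 17, 8, 20, 18, 3, 11, 14, 9, 1, 10, 7, 16, 21, 6, 19, 15, 5, 22, 23], [0, 13, 1, 9, 4, 21, 18, 15, 6, 12, 14, 10, 3, 2, 11, 20, 16, 5, 8, 19, 7, 17, 22, 23]),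
  ([0, 16, 2, 18, 12, 5, 9, 19, 1, 8, 7, 22, 13, 3, 21, 10, 6, 15, 4, 17, 14, 11, 20, 23], [0, 8, 2, 13, 18, 5, 16, 10, 9, 6, 15, 21, 4, 12, 20, 17, 1, 19, 3, 7, 22, 14, 11, 23]),
  ([0, 12, 1, 3, 8, 21, 16, 5, 6, 13, 20, 17, 9, 2, 22, 14, 18, 15, 4, 19, 7, 10, 11, 23], [0, 2, 13, 3, 18, 7, 8, 20, 4, 12, 21, 22, 1, 9, 15, 17, 6, 11, 16, 19, 10, 5, 14, 23]),
  ([0, 18, 3, 8, 9, 15, 6, 11, 4, 2, 19, 5, 13, 16, 20, 22, 1, 14, 12, 17, 10, 21, 7, 23], [0, 16, 9, 2, 8, 11, 6, 22, 3, 4, 20, 7, 18, 12, 17, 5, 13, 19, 1, 10, 14, 21, 15, 23]),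
  ([0, 1, 8, 9, 13, 14, 4, 7, 12, 16, 17, 11, 2, 6, 19, 20, 3, 22, 18, 5, 21, 15, 10, 23], [0, 1, 12, 16, 6, 19, 13, 7, 2, 3, 22, 11, 8, 4, 5, 21, 9, 10, 18, 14, 15, 20, 17, 23]),
  ([0, 3, 9, 13, 2, 22, 12, 10, 18, 6, 5, 7, 16, 4, 17, 19, 8, 20, 1, 11, 15, 14, 21, 23], [0, 18, 4, 1, 13, 10, 9, 11, 16, 2, 7, 19, 6, 3, 21, 20, 12, 14, 8, 15, 17, 22, 5, 23]),
  ([0, 8, 13, 2, 16, 20, 18, 21, 1, 4, 11, 10, 6, 12, 5, 17, 9, 19, 3, 7, 14, 22, 15, 23], [0, 8, 3, 18, 9, 14, 12, 19, 1, 16, 11, 10, 13, 2, 20, 22, 4, 15, 6, 17, 5, 7, 21, 23]),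
  ([0, 9, 2, 16, 6, 19, 1, 15, 3, 12, 7, 21, 4, 18, 11, 5, 13, 17, 8, 10, 22, 20, 14, 23], [0, 6, 2, 8, 12, 15, 4, 10, 18, 1, 19, 14, 9, 16, 22, 7, 3, 17, 13, 5, 21, 11, 20, 23]),
  ([0, 13, 16, 6, 4, 17, 3, 14, 8, 18, 10, 15, 12, 1, 7, 11, 2, 5, 9, 21, 20, 19, 22, 23], [0, 13, 16, 6, 4, 17, 3, 14, 8, 18, 10, 15, 12, 1, 7, 11, 2, 5, 9, 21, 20, 19, 22, 23]),
  ([0, 2, 6, 4, 12, 5, 8, 22, 9, 1, 21, 14, 18, 3, 10, 7, 16, 11, 13, 15, 19, 17, 20, 23], [0, 9, 1, 13, 3, 5, 2, 15, 6, 8, 14, 17, 4, 18, 11, 19, 16, 21, 12, 20, 22, 10, 7, 23]),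
  ([0, 16, 4, 12, 18, 11, 9, 20, 13, 3, 15, 22, 1, 8, 21, 10, 6, 7, 2, 14, 17, 5, 19, 23], [0, 12, 18, 9, 2, 21, 16, 17, 13, 6, 15, 5, 3, 8, 19, 10, 1, 20, 4, 22, 7, 14, 11, 23]),
  ([0, 6, 12, 18, 1, 7, 13, 19, 2, 8, 14, 20, 3, 9, 15, 21, 4, 10, 16, 22, 5, 11, 17, 23], [0, 4, 8, 12, 16, 20, 1, 5, 9, 13, 17, 21, 2, 6, 10, 14, 18, 22, 3, 7, 11, 15, 19, 23]),
  ([0, 4, 18, 1, 3, 10, 2, 17, 16, 9, 22, 19, 8, 13, 14, 15, 12, 21, 6, 20, 11, 7, 5, 23], [0, 3, 6, 4, 1, 22, 18, 21, 12, 9, 5, 20, 16, 13, 14, 15, 8, 7, 2, 11, 19, 17, 10, 23]),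
  ([0, 4, 3, 6, 2, 14, 1, 19, 12, 16, 17, 5, 13, 9, 7, 15, 8, 22, 18, 11, 10, 20, 21, 23], [0, 6, 4, 2, 1, 11, 3, 14, 16, 13, 20, 19, 8, 12, 5, 15, 9, 10, 18, 7, 21, 22, 17, 23]),
  ([0, 12, 8, 4, 16, 22, 3, 17, 18, 6, 5, 11, 2, 13, 10, 14, 9, 20, 1, 7, 21, 19, 15, 23], [0, 18, 12, 6, 3, 10, 9, 19, 2, 16, 14, 11, 1, 13, 15, 22, 4, 7, 8, 21, 17, 20, 5, 23]),
  ([0, 18, 9, 12, 6, 20, 8, 5, 1, 4, 11, 7, 16, 2, 21, 22, 13, 19, 3, 10, 15, 17, 14, 23], [0, 8, 13, 18, 9, 7, 4, 11, 6, 2, 19, 10, 3, 16, 22, 20, 12, 21, 1, 17, 5, 14, 15, 23]),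
  ([0, 1, 13, 18, 4, 19, 9, 11, 3, 12, 7, 10, 6, 16, 15, 20, 2, 17, 8, 21, 14, 5, 22, 23], [0, 1, 16, 8, 4, 21, 12, 10, 18, 6, 11, 7, 9, 2, 20, 14, 13, 17, 3, 5, 15, 19, 22, 23]),
  ([0, 3, 2, 1, 12, 17, 13, 7, 8, 18, 10, 21, 4, 6, 14, 19, 16, 5, 9, 15, 22, 11, 20, 23], [0, 3, 2, 1, 12, 17, 13, 7, 8, 18, 10, 21, 4, 6, 14, 19, 16, 5, 9, 15, 22, 11, 20, 23]),
  ([0, 8, 16, 3, 18, 5, 2, 10, 9, 1, 21, 15, 12, 4, 22, 17, 6, 11, 13, 14, 20, 7, 19, 23], [0, 9, 6, 3, 13, 5, 16, 21, 1, 8, 7, 17, 12, 18, 19, 11, 2, 15, 4, 22, 20, 10, 14, 23]),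
  ([0, 9, 6, 8, 1, 11, 16, 21, 13, 3, 15, 14, 18, 12, 20, 5, 4, 7, 2, 22, 19, 10, 17, 23], [0, 4, 18, 9, 16, 15, 2, 17, 3, 1, 21, 5, 13, 8, 11, 10, 6, 22, 12, 20, 14, 7, 19, 23]),
  ([0, 13, 4, 9, 3, 7, 6, 15, 2, 8, 14, 22, 1, 18, 19, 11, 12, 10, 16, 20, 17, 21, 5, 23], [0, 12, 8, 4, 2, 22, 6, 5, 9, 3, 17, 15, 16, 1, 10, 7, 18, 20, 13, 14, 19, 21, 11, 23]),
  ([0, 2, 12, 13, 8, 10, 4, 14, 16, 9, 22, 20, 3, 1, 17, 7, 18, 21, 6, 19, 5, 15, 11, 23], [0, 13, 1, 12, 6, 20, 18, 15, 4, 9, 5, 22, 2, 3, 7, 21, 8, 14, 16, 19, 11, 17, 10, 23]),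
  ([0, 16, 18, 2, 9, 21, 12, 22, 6, 13, 20, 19, 8, 3, 5, 10, 1, 15, 4, 17, 11, 14, 7, 23], [0, 16, 3, 13, 18, 14, 8, 22, 12, 4, 15, 20, 6, 9, 21, 17, 1, 19, 2, 11, 10, 5, 7, 23]),
  ([0, 6, 1, 16, 13, 15, 18, 20, 4, 2, 19, 17, 9, 8, 11, 21, 3, 14, 12, 5, 7, 22, 10, 23], [0, 2, 9, 16, 8, 19, 1, 20, 13, 12, 22, 14, 18, 4, 17, 5, 3, 11, 6, 10, 7, 15, 21, 23]),
  ([0, 18, 6, 12, 9, 15, 3, 11, 4, 1, 5, 19, 16, 13, 10, 22, 2, 7, 8, 21, 20, 17, 14, 23], [0, 9, 16, 6, 8, 10, 2, 17, 18, 4, 14, 7, 3, 13, 22, 5, 12, 21, 1, 11, 20, 19, 15, 23]),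
  ([0, 1, 4, 18, 13, 14, 8, 7, 12, 3, 11, 17, 6, 2, 21, 20, 16, 10, 9, 15, 19, 5, 22, 23], [0, 1, 13, 9, 2, 21, 12, 7, 6, 18, 17, 10, 8, 4, 5, 19, 16, 11, 3, 20, 15, 14, 22, 23]),
  ([0, 3, 12, 1, 2, 22, 9, 10, 18, 8, 7, 5, 4, 16, 15, 19, 6, 21, 13, 14, 17, 11, 20, 23], [0, 3, 4, 1, 12, 11, 16, 10, 9, 6, 7, 21, 2, 18, 19, 14, 13, 20, 8, 15, 22, 17, 5, 23]),
  ([0, 8, 18, 3, 16, 20, 13, 21, 1, 9, 10, 11, 12, 6, 14, 17, 4, 15, 2, 22, 5, 7, 19, 23], [0, 8, 18, 3, 16, 20, 13, 21, 1, 9, 10, 11, 12, 6, 14, 17, 4, 15, 2, 22, 5, 7, 19, 23]),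
  ([0, 9, 1, 8, 6, 19, 2, 15, 3, 13, 21, 7, 18, 4, 22, 5, 12, 14, 16, 20, 11, 10, 17, 23], [0, 2, 6, 8, 13, 15, 4, 11, 3, 1, 21, 20, 16, 9, 17, 7, 18, 22, 12, 5, 19, 10, 14, 23]),
  ([0, 13, 3, 9, 4, 17, 16, 14, 8, 2, 15, 10, 1, 12, 20, 11, 18, 22, 6, 19, 7, 21, 5, 23], [0, 12, 9, 2, 4, 22, 18, 20, 8, 3, 11, 15, 13, 1, 7, 10, 6, 5, 16, 19, 14, 21, 17, 23]),
  ([0, 2, 8, 13, 12, 5, 6, 22, 9, 16, 14, 21, 3, 18, 19, 7, 1, 20, 4, 17, 10, 15, 11, 23], [0, 16, 1, 12, 18, 5, 6, 15, 2, 8, 20, 22, 4, 3, 10, 21, 9, 19, 13, 14, 17, 11, 7, 23]),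
  ([0, 16, 9, 2, 18, 11, 4, 20, 13, 6, 22, 15, 8, 1, 17, 10, 3, 19, 12, 5, 21, 14, 7, 23], [0, 13, 3, 16, 6, 19, 9, 22, 12, 2, 15, 5, 18, 8, 21, 11, 1, 14, 4, 17, 7, 20, 10, 23]),
  ([0, 6, 13, 16, 1, 7, 12, 19, 2, 4, 20, 14, 9, 3, 5, 21, 8, 17, 18, 11, 15, 22, 10, 23], [0, 4, 8, 13, 9, 14, 1, 5, 16, 12, 22, 19, 6, 2, 11, 20, 3, 17, 18, 7, 10, 15, 21, 23]),
  ([0, 4, 2, 6, 3, 10, 18, 17, 16, 12, 19, 22, 13, 8, 11, 15, 9, 5, 1, 7, 14, 20, 21, 23], [0, 18, 2, 4, 1, 17, 3, 19, 13, 16, 5, 14, 9, 12, 20, 15, 8, 7, 6, 10, 21, 22, 11, 23]),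
  ([0, 12, 16, 4, 8, 21, 1, 5, 6, 18, 17, 20, 2, 9, 7, 14, 13, 11, 3, 10, 22, 19, 15, 23], [0, 6, 12, 18, 3, 7, 8, 14, 4, 13, 19, 17, 1, 16, 15, 22, 2, 10, 9, 21, 11, 5, 20, 23]),
  ([0, 8, 12, 4, 13, 22, 6, 21, 18, 3, 19, 11, 1, 16, 20, 7, 9, 10, 2, 14, 17, 5, 15, 23], [0, 12, 18, 9, 3, 21, 6, 15, 1, 16, 17, 11, 2, 4, 19, 22, 13, 20, 8, 10, 14, 7, 5, 23]),
  ([0, 9, 18, 12, 2, 20, 4, 15, 1, 8, 17, 7, 3, 6, 19, 10, 13, 21, 16, 22, 5, 11, 14, 23], [0, 8, 4, 12, 6, 20, 13, 11, 9, 1, 15, 21, 3, 16, 22, 7, 18, 10, 2, 14, 5, 17, 19, 23]),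
  ([0, 13, 1, 18, 16, 19, 12, 14, 3, 9, 5, 10, 8, 4, 17, 21, 2, 15, 6, 20, 11, 7, 22, 23], [0, 2, 16, 8, 13, 10, 18, 21, 12, 9, 11, 20, 6, 1, 7, 17, 4, 14, 3, 5, 19, 15, 22, 23]),
  ([0, 2, 3, 1, 6, 17, 18, 22, 8, 13, 11, 21, 9, 12, 5, 15, 16, 14, 4, 19, 7, 10, 20, 23], [0, 3, 1, 2, 18, 14, 4, 20, 8, 12, 21, 10, 13, 9, 17, 15, 16, 5, 6, 19, 22, 11, 7, 23]),
  ([0, 16, 8, 3, 4, 5, 1, 20, 9, 2, 7, 15, 13, 18, 11, 14, 6, 22, 12, 17, 10, 21, 19, 23], [0, 6, 9, 3, 4, 5, 16, 10, 2, 8, 20, 14, 18, 12, 15, 11, 1, 19, 13, 22, 7, 21, 17, 23]),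
  ([0, 6, 9, 8, 12, 11, 3, 19, 13, 16, 10, 14, 2, 1, 7, 22, 4, 20, 18, 5, 21, 15, 17, 23], [0, 13, 12, 6, 16, 19, 1, 14, 3, 2, 10, 5, 4, 8, 11, 21, 9, 22, 18, 7, 17, 20, 15, 23]),
  ([0, 4, 13, 9, 18, 7, 8, 17, 2, 6, 21, 22, 16, 3, 10, 20, 12, 19, 1, 11, 15, 14, 5, 23], [0, 18, 8, 13, 1, 22, 9, 5, 6, 3, 14, 19, 16, 2, 21, 20, 12, 7, 4, 17, 15, 10, 11, 23]),
  ([0, 12, 2, 13, 1, 10, 9, 5, 16, 4, 15, 20, 6, 8, 21, 19, 18, 17, 3, 7, 14, 22, 11, 23], [0, 4, 2, 18, 9, 7, 12, 19, 13, 6, 5, 22, 1, 3, 20, 10, 8, 17, 16, 15, 11, 14, 21, 23]),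
  ([0, 18, 16, 2, 3, 21, 13, 11, 6, 12, 14, 19, 4, 9, 15, 17, 1, 5, 8, 10, 22, 20, 7, 23], [0, 16, 3, 4, 12, 17, 8, 22, 18, 13, 19, 7, 9, 6, 10, 14, 2, 15, 1, 11, 21, 5, 20, 23]),
  ([0, 1, 6, 16, 8, 15, 2, 7, 4, 18, 22, 17, 12, 13, 14, 5, 3, 11, 9, 21, 20, 19, 10, 23], [0, 1, 6, 16, 8, 15, 2, 7, 4, 18, 22, 17, 12, 13, 14, 5, 3, 11, 9, 21, 20, 19, 10, 23]),
  ([0, 3, 4, 6, 9, 14, 16, 10, 12, 1, 20, 5, 18, 2, 22, 11, 8, 7, 13, 15, 19, 17, 21, 23], [0, 9, 13, 1, 2, 11, 3, 17, 16, 4, 7, 15, 8, 18, 5, 19, 6, 21, 12, 20, 10, 22, 14, 23]),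
  ([0, 2, 4, 18, 16, 7, 12, 14, 8, 6, 11, 21, 3, 1, 17, 10, 13, 20, 9, 15, 5, 19, 22, 23], [0, 13, 1, 12, 2, 20, 9, 5, 8, 18, 15, 10, 6, 16, 7, 19, 4, 14, 3, 21, 17, 11, 22, 23]),
  ([0, 16, 12, 1, 6, 10, 18, 22, 9, 4, 7, 15, 8, 3, 5, 21, 2, 19, 13, 14, 11, 17, 20, 23], [0, 3, 16, 13, 9, 14, 4, 10, 12, 8, 5, 20, 2, 18, 19, 11, 1, 21, 6, 17, 22, 15, 7, 23]),
  ([0, 6, 18, 3, 4, 21, 1, 20, 13, 12, 10, 14, 9, 8, 11, 15, 16, 17, 2, 22, 7, 5, 19, 23], [0, 6, 18, 3, 4, 21, 1, 20, 13, 12, 10, 14, 9, 8, 11, 15, 16, 17, 2, 22, 7, 5, 19, 23]),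
  ([0, 4, 1, 8, 12, 15, 3, 19, 2, 18, 21, 22, 13, 9, 7, 14, 6, 5, 16, 20, 10, 11, 17, 23], [0, 2, 8, 6, 1, 17, 16, 14, 3, 13, 20, 21, 4, 12, 15, 5, 18, 22, 9, 7, 19, 10, 11, 23]),
  ([0, 12, 3, 9, 18, 14, 8, 17, 16, 1, 15, 20, 2, 13, 10, 22, 4, 11, 6, 19, 21, 7, 5, 23], [0, 9, 12, 2, 16, 22, 18, 21, 6, 3, 14, 17, 1, 13, 5, 10, 8, 7, 4, 19, 11, 20, 15, 23]),
  ([0, 18, 8, 13, 1, 22, 9, 5, 6, 3, 14, 19, 16, 2, 21, 20, 12, 7, 4, 17, 15, 10, 11, 23], [0, 4, 13, 9, 18, 7, 8, 17, 2, 6, 21, 22, 16, 3, 10, 20, 12, 19, 1, 11, 15, 14, 5, 23]),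
  ([0, 1, 9, 2, 3, 20, 13, 11, 4, 8, 22, 17, 6, 16, 15, 19, 18, 10, 12, 5, 14, 21, 7, 23], [0, 1, 3, 4, 8, 19, 12, 22, 9, 2, 17, 7, 18, 6, 20, 14, 13, 11, 16, 15, 5, 21, 10, 23]),
  ([0, 3, 13, 16, 8, 19, 2, 7, 12, 9, 20, 5, 4, 6, 14, 17, 1, 21, 18, 11, 22, 15, 10, 23], [0, 16, 6, 1, 12, 11, 13, 7, 4, 9, 22, 19, 8, 2, 14, 21, 3, 15, 18, 5, 10, 17, 20, 23]),
  ([0, 8, 2, 6, 9, 17, 16, 10, 18, 13, 19, 11, 12, 4, 22, 5, 3, 15, 1, 7, 20, 14, 21, 23], [0, 18, 2, 16, 13, 15, 3, 19, 1, 4, 7, 11, 12, 9, 21, 17, 6, 5, 8, 10, 20, 22, 14, 23]),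
  ([0, 9, 16, 4, 13, 5, 6, 21, 1, 2, 17, 7, 18, 12, 20, 11, 8, 14, 3, 10, 19, 22, 15, 23], [0, 8, 9, 18, 3, 5, 6, 11, 16, 1, 19, 15, 13, 4, 17, 22, 2, 10, 12, 20, 14, 7, 21, 23]),
  ([0, 13, 6, 12, 2, 11, 4, 15, 3, 16, 5, 10, 1, 18, 19, 7, 9, 22, 8, 21, 17, 20, 14, 23], [0, 12, 4, 8, 6, 10, 2, 15, 18, 16, 11, 5, 3, 1, 22, 7, 9, 20, 13, 14, 21, 19, 17, 23]),
  ([0, 9, 18, 8, 1, 10, 4, 15, 2, 12, 21, 14, 6, 3, 5, 20, 16, 17, 13, 22, 19, 11, 7, 23], [0, 4, 8, 13, 6, 14, 12, 22, 3, 1, 5, 21, 9, 18, 11, 7, 16, 17, 2, 20, 15, 10, 19, 23]),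
  ([0, 13, 1, 9, 3, 21, 12, 14, 16, 18, 15, 22, 4, 8, 11, 19, 6, 5, 2, 20, 17, 7, 10, 23], [0, 2, 18, 4, 12, 17, 16, 21, 13, 3, 22, 14, 6, 1, 7, 10, 8, 20, 9, 15, 19, 5, 11, 23]),
  ([0, 2, 3, 13, 8, 15, 18, 22, 6, 1, 14, 20, 12, 9, 7, 17, 4, 11, 16, 19, 5, 10, 21, 23], [0, 9, 1, 2, 16, 20, 8, 14, 4, 13, 21, 17, 12, 3, 10, 5, 18, 15, 6, 19, 11, 22, 7, 23]),
  ([0, 16, 8, 2, 9, 14, 1, 20, 4, 3, 22, 19, 18, 13, 10, 5, 12, 7, 6, 17, 11, 21, 15, 23], [0, 6, 3, 9, 8, 15, 18, 17, 2, 4, 14, 20, 16, 13, 5, 22, 1, 19, 12, 11, 7, 21, 10, 23]),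
  ([0, 6, 9, 16, 13, 22, 3, 19, 12, 8, 20, 17, 1, 2, 21, 11, 18, 10, 4, 5, 7, 15, 14, 23], [0, 12, 13, 6, 18, 19, 1, 20, 9, 2, 17, 15, 8, 4, 22, 21, 3, 11, 16, 7, 10, 14, 5, 23]),
  ([0, 4, 13, 6, 2, 20, 8, 17, 18, 9, 19, 5, 3, 16, 15, 7, 1, 21, 12, 11, 10, 14, 22, 23], [0, 16, 4, 12, 1, 11, 3, 15, 6, 9, 20, 19, 18, 2, 21, 14, 13, 7, 8, 10, 5, 17, 22, 23]),
  ([0, 12, 2, 4, 16, 19, 9, 5, 1, 13, 17, 11, 8, 6, 14, 10, 3, 15, 18, 7, 21, 22, 20, 23], [0, 8, 2, 16, 3, 7, 13, 19, 12, 6, 15, 11, 1, 9, 14, 17, 4, 10, 18, 5, 22, 20, 21, 23]),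
  ([0, 18, 16, 12, 6, 17, 13, 11, 3, 2, 5, 7, 9, 4, 22, 21, 8, 14, 1, 10, 15, 20, 19, 23], [0, 18, 9, 8, 13, 10, 4, 11, 16, 12, 19, 7, 3, 6, 17, 20, 2, 5, 1, 22, 21, 15, 14, 23]),
  ([0, 1, 6, 18, 4, 5, 2, 7, 8, 16, 11, 10, 13, 12, 20, 15, 9, 22, 3, 21, 14, 19, 17, 23], [0, 1, 6, 18, 4, 5, 2, 7, 8, 16, 11, 10, 13, 12, 20, 15, 9, 22, 3, 21, 14, 19, 17, 23]),
  ([0, 3, 4, 1, 12, 11, 16, 10, 9, 6, 7, 21, 2, 18, 19, 14, 13, 20, 8, 15, 22, 17, 5, 23], [0, 3, 12, 1, 2, 22, 9, 10, 18, 8, 7, 5, 4, 16, 15, 19, 6, 21, 13, 14, 17, 11, 20, 23]),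
  ([0, 8, 12, 3, 18, 7, 6, 21, 13, 4, 10, 15, 16, 1, 17, 22, 2, 19, 9, 14, 20, 5, 11, 23], [0, 13, 16, 3, 9, 21, 6, 5, 1, 18, 10, 22, 2, 8, 19, 11, 12, 14, 4, 17, 20, 7, 15, 23]),
  ([0, 13, 8, 2, 3, 20, 18, 22, 9, 4, 14, 15, 12, 6, 19, 17, 1, 5, 16, 7, 11, 21, 10, 23], [0, 16, 3, 4, 9, 17, 13, 19, 2, 8, 22, 20, 12, 1, 10, 11, 18, 15, 6, 14, 5, 21, 7, 23]),
  ([0, 2, 9, 16, 8, 19, 1, 20, 13, 12, 22, 14, 18, 4, 17, 5, 3, 11, 6, 10, 7, 15, 21, 23], [0, 6, 1, 16, 13, 15, 18, 20, 4, 2, 19, 17, 9, 8, 11, 21, 3, 14, 12, 5, 7, 22, 10, 23]),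
  ([0, 16, 13, 6, 9, 17, 3, 19, 2, 18, 20, 22, 1, 12, 5, 11, 8, 7, 4, 21, 10, 14, 15, 23], [0, 12, 8, 6, 18, 14, 3, 17, 16, 4, 20, 15, 13, 2, 21, 22, 1, 5, 9, 7, 10, 19, 11, 23]),
  ([0, 6, 2, 4, 13, 5, 8, 17, 16, 1, 19, 20, 3, 18, 11, 7, 9, 10, 12, 15, 21, 22, 14, 23], [0, 9, 2, 12, 3, 5, 1, 15, 6, 16, 17, 14, 18, 4, 22, 19, 8, 7, 13, 10, 11, 20, 21, 23]),
  ([0, 4, 16, 12, 2, 11, 9, 5, 6, 3, 17, 19, 8, 1, 7, 10, 13, 21, 18, 14, 15, 20, 22, 23], [0, 13, 4, 9, 1, 7, 8, 14, 12, 6, 15, 5, 3, 16, 19, 20, 2, 10, 18, 11, 21, 17, 22, 23]),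
  ([0, 12, 6, 18, 16, 7, 13, 11, 4, 8, 5, 17, 9, 3, 10, 21, 2, 15, 1, 22, 14, 19, 20, 23], [0, 18, 16, 13, 8, 10, 2, 5, 9, 12, 14, 7, 1, 6, 20, 17, 4, 11, 3, 21, 22, 15, 19, 23]),
  ([0, 18, 4, 1, 6, 10, 2, 7, 12, 9, 11, 5, 13, 8, 21, 15, 16, 14, 3, 20, 22, 17, 19, 23], [0, 3, 6, 18, 2, 11, 4, 7, 13, 9, 5, 10, 8, 12, 17, 15, 16, 21, 1, 22, 19, 14, 20, 23]),
  ([0, 1, 12, 3, 4, 21, 16, 10, 18, 13, 7, 11, 2, 9, 15, 14, 6, 22, 8, 19, 20, 5, 17, 23], [0, 1, 12, 3, 4, 21, 16, 10, 18, 13, 7, 11, 2, 9, 15, 14, 6, 22, 8, 19, 20, 5, 17, 23]),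
  ([0, 3, 18, 8, 12, 15, 6, 21, 1, 2, 10, 7, 16, 13, 14, 22, 4, 20, 9, 17, 19, 11, 5, 23], [0, 8, 9, 1, 16, 22, 6, 11, 3, 18, 10, 21, 4, 13, 14, 5, 12, 19, 2, 20, 17, 7, 15, 23]),
  ([0, 8, 1, 9, 18, 14, 4, 15, 3, 16, 21, 10, 6, 2, 22, 20, 12, 19, 13, 5, 17, 7, 11, 23], [0, 2, 13, 8, 6, 19, 12, 21, 1, 3, 11, 22, 16, 18, 5, 7, 9, 20, 4, 17, 15, 10, 14, 23]),
  ([0, 9, 3, 13, 1, 22, 12, 14, 8, 6, 15, 21, 4, 16, 20, 19, 18, 17, 2, 11, 5, 10, 7, 23], [0, 4, 18, 2, 12, 20, 9, 22, 8, 1, 21, 19, 6, 3, 7, 10, 13, 17, 16, 15, 14, 11, 5, 23]),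
  ([0, 16, 2, 9, 6, 17, 8, 7, 13, 18, 15, 22, 4, 12, 11, 5, 3, 19, 1, 10, 21, 14, 20, 23], [0, 18, 2, 16, 12, 15, 4, 7, 6, 3, 19, 14, 13, 8, 21, 10, 1, 5, 9, 17, 22, 20, 11, 23]),
  ([0, 6, 16, 13, 4, 5, 9, 10, 2, 1, 14, 20, 12, 18, 7, 11, 8, 17, 3, 21, 15, 22, 19, 23], [0, 9, 8, 18, 4, 5, 1, 14, 16, 6, 7, 15, 12, 3, 10, 20, 2, 17, 13, 22, 11, 19, 21, 23]),
  ([0, 4, 6, 2, 12, 11, 13, 21, 16, 3, 22, 19, 18, 1, 10, 7, 9, 5, 8, 15, 14, 20, 17, 23], [0, 13, 3, 9, 1, 17, 2, 15, 18, 16, 14, 5, 4, 6, 20, 19, 8, 22, 12, 11, 21, 7, 10, 23]),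
  ([0, 12, 4, 16, 18, 7, 2, 15, 6, 8, 20, 17, 1, 3, 21, 10, 13, 11, 9, 14, 22, 19, 5, 23], [0, 12, 6, 13, 2, 22, 8, 5, 9, 18, 15, 17, 1, 16, 19, 7, 3, 11, 4, 21, 10, 14, 20, 23]),
  ([0, 18, 12, 6, 1, 10, 16, 14, 4, 9, 19, 5, 3, 8, 15, 21, 2, 7, 13, 22, 20, 17, 11, 23], [0, 4, 16, 12, 8, 11, 3, 17, 13, 9, 5, 22, 2, 18, 7, 14, 6, 21, 1, 10, 20, 15, 19, 23]),
  ([0, 1, 18, 4, 3, 21, 6, 22, 12, 13, 17, 11, 8, 9, 14, 15, 16, 10, 2, 20, 19, 5, 7, 23], [0, 1, 18, 4, 3, 21, 6, 22, 12, 13, 17, 11, 8, 9, 14, 15, 16, 10, 2, 20, 19, 5, 7, 23]),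
  ([0, 3, 1, 12, 8, 15, 4, 20, 18, 2, 5, 7, 9, 13, 22, 14, 6, 21, 16, 19, 17, 11, 10, 23], [0, 2, 9, 1, 6, 10, 16, 11, 4, 12, 22, 21, 3, 13, 15, 5, 18, 20, 8, 19, 7, 17, 14, 23]),
  ([0, 8, 3, 18, 9, 14, 12, 19, 1, 16, 11, 10, 13, 2, 20, 22, 4, 15, 6, 17, 5, 7, 21, 23], [0, 8, 13, 2, 16, 20, 18, 21, 1, 4, 11, 10, 6, 12, 5, 17, 9, 19, 3, 7, 14, 22, 15, 23]),
  ([0, 9, 8, 1, 13, 22, 18, 17, 3, 6, 7, 21, 2, 16, 19, 20, 12, 14, 4, 5, 11, 10, 15, 23], [0, 3, 12, 8, 18, 19, 9, 10, 2, 1, 21, 20, 16, 4, 17, 22, 13, 7, 6, 14, 15, 11, 5, 23]),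
  ([0, 13, 9, 3, 2, 20, 1, 5, 8, 4, 10, 15, 16, 6, 17, 19, 18, 22, 12, 11, 7, 21, 14, 23], [0, 6, 4, 3, 9, 7, 13, 20, 8, 2, 10, 19, 18, 1, 22, 11, 12, 14, 16, 15, 5, 21, 17, 23]),
  ([0, 2, 13, 8, 16, 19, 3, 11, 9, 12, 21, 14, 6, 4, 5, 17, 1, 20, 18, 7, 10, 15, 22, 23], [0, 16, 1, 6, 13, 14, 12, 19, 3, 8, 20, 7, 9, 2, 11, 21, 4, 15, 18, 5, 17, 10, 22, 23]),
  ([0, 1, 9, 13, 12, 5, 2, 10, 16, 8, 22, 7, 18, 4, 21, 19, 6, 11, 3, 20, 14, 15, 17, 23], [0, 1, 6, 18, 13, 5, 16, 11, 9, 2, 7, 17, 4, 3, 20, 21, 8, 22, 12, 15, 19, 14, 10, 23]),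
  ([0, 3, 13, 2, 18, 11, 16, 21, 6, 9, 20, 10, 1, 12, 15, 17, 4, 7, 8, 19, 22, 14, 5, 23], [0, 12, 3, 1, 16, 22, 8, 17, 18, 9, 11, 5, 13, 2, 21, 14, 6, 15, 4, 19, 10, 7, 20, 23]),
  ([0, 8, 2, 16, 1, 7, 6, 15, 4, 13, 19, 21, 3, 18, 14, 5, 12, 10, 9, 17, 20, 22, 11, 23], [0, 4, 2, 12, 8, 15, 6, 5, 1, 18, 17, 22, 16, 9, 14, 7, 3, 19, 13, 10, 20, 11, 21, 23]),
  ([0, 9, 16, 6, 3, 10, 4, 14, 12, 2, 17, 15, 8, 1, 22, 11, 18, 21, 13, 5, 19, 20, 7, 23], [0, 13, 9, 4, 6, 19, 3, 22, 12, 1, 5, 15, 8, 18, 7, 11, 2, 10, 16, 20, 21, 17, 14, 23]),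
  ([0, 13, 6, 4, 8, 21, 12, 22, 18, 16, 5, 14, 9, 3, 20, 7, 1, 15, 2, 11, 17, 19, 10, 23], [0, 16, 18, 13, 3, 10, 2, 15, 4, 12, 22, 19, 6, 1, 11, 17, 9, 20, 8, 21, 14, 5, 7, 23]),
  ([0, 2, 4, 12, 9, 15, 18, 20, 1, 6, 11, 22, 13, 8, 19, 10, 3, 14, 16, 7, 5, 17, 21, 23], [0, 8, 1, 16, 2, 20, 9, 19, 13, 4, 15, 10, 3, 12, 17, 5, 18, 21, 6, 14, 7, 22, 11, 23]),
  ([0, 16, 12, 18, 13, 14, 1, 19, 3, 4, 7, 20, 2, 9, 17, 21, 8, 22, 6, 10, 11, 5, 15, 23], [0, 6, 12, 8, 9, 21, 18, 10, 16, 13, 19, 20, 2, 4, 5, 22, 1, 14, 3, 7, 11, 15, 17, 23]),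
  ([0, 6, 18, 1, 2, 22, 3, 17, 8, 12, 10, 19, 16, 13, 5, 15, 9, 20, 4, 21, 7, 11, 14, 23], [0, 3, 4, 6, 18, 14, 1, 20, 8, 16, 10, 21, 9, 13, 22, 15, 12, 7, 2, 11, 17, 19, 5, 23]),
  ([0, 4, 1, 3, 16, 20, 8, 5, 9, 18, 21, 17, 6, 2, 11, 14, 13, 19, 12, 15, 10, 7, 22, 23], [0, 2, 13, 3, 1, 7, 12, 21, 6, 8, 20, 14, 18, 16, 15, 19, 4, 11, 9, 17, 5, 10, 22, 23]),
  ([0, 12, 3, 8, 6, 19, 9, 11, 13, 1, 15, 5, 4, 16, 7, 22, 2, 17, 18, 14, 21, 10, 20, 23], [0, 9, 16, 2, 12, 11, 4, 14, 3, 6, 21, 7, 1, 8, 19, 10, 13, 17, 18, 5, 22, 20, 15, 23]),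
  ([0, 18, 8, 9, 4, 17, 13, 7, 2, 3, 14, 11, 12, 6, 10, 20, 16, 5, 1, 22, 15, 21, 19, 23], [0, 18, 8, 9, 4, 17, 13, 7, 2, 3, 14, 11, 12, 6, 10, 20, 16, 5, 1, 22, 15, 21, 19, 23]),
  ([0, 16, 18, 12, 4, 17, 2, 15, 3, 13, 20, 7, 1, 6, 14, 10, 8, 22, 9, 21, 11, 5, 19, 23], [0, 12, 6, 8, 4, 21, 13, 11, 16, 18, 15, 20, 3, 9, 14, 7, 1, 5, 2, 22, 10, 19, 17, 23]),
  ([0, 8, 16, 2, 13, 14, 3, 11, 4, 1, 21, 19, 6, 9, 7, 17, 12, 10, 18, 5, 20, 22, 15, 23], [0, 9, 3, 6, 8, 19, 12, 14, 1, 13, 17, 7, 16, 4, 5, 22, 2, 15, 18, 11, 20, 10, 21, 23]),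
  ([0, 12, 8, 3, 1, 7, 4, 20, 13, 6, 5, 15, 9, 18, 19, 14, 2, 17, 16, 22, 21, 10, 11, 23], [0, 4, 16, 3, 6, 10, 9, 5, 2, 12, 21, 22, 1, 8, 15, 11, 18, 17, 13, 14, 7, 20, 19, 23]),
  ([0, 2, 12, 4, 6, 19, 13, 21, 1, 9, 22, 11, 18, 16, 15, 7, 3, 14, 8, 10, 5, 17, 20, 23], [0, 8, 1, 16, 3, 20, 4, 15, 18, 9, 19, 11, 2, 6, 17, 14, 13, 21, 12, 5, 22, 7, 10, 23]),
  ([0, 3, 2, 13, 9, 15, 1, 5, 6, 18, 10, 20, 16, 8, 11, 19, 4, 7, 12, 17, 22, 14, 21, 23], [0, 6, 2, 1, 16, 7, 8, 17, 13, 4, 10, 14, 18, 3, 21, 5, 12, 19, 9, 15, 11, 22, 20, 23]),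
  ([0, 4, 3, 1, 18, 11, 6, 22, 9, 16, 17, 21, 8, 12, 20, 15, 13, 19, 2, 14, 10, 7, 5, 23], [0, 3, 18, 2, 1, 22, 6, 21, 12, 8, 20, 5, 13, 16, 19, 15, 9, 10, 4, 17, 14, 11, 7, 23]),
  ([0, 13, 4, 6, 16, 20, 9, 10, 18, 8, 14, 5, 12, 2, 21, 11, 1, 15, 3, 7, 17, 19, 22, 23], [0, 16, 13, 18, 2, 11, 3, 19, 9, 6, 7, 15, 12, 1, 10, 17, 4, 20, 8, 21, 5, 14, 22, 23]),
  ([0, 1, 13, 9, 8, 21, 18, 17, 16, 12, 7, 22, 2, 3, 5, 20, 6, 11, 4, 19, 14, 15, 10, 23], [0, 1, 12, 13, 18, 14, 16, 10, 4, 3, 22, 17, 9, 2, 20, 21, 8, 7, 6, 19, 15, 5, 11, 23]),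
  ([0, 6, 1, 18, 12, 5, 16, 14, 8, 2, 19, 10, 3, 4, 22, 21, 9, 20, 13, 15, 7, 11, 17, 23], [0, 2, 9, 12, 13, 5, 1, 20, 8, 16, 11, 21, 4, 18, 7, 19, 6, 22, 3, 10, 17, 15, 14, 23]),
  ([0, 9, 6, 16, 2, 22, 8, 7, 12, 3, 15, 17, 4, 13, 10, 5, 18, 21, 1, 11, 19, 20, 14, 23], [0, 18, 4, 9, 12, 15, 2, 7, 6, 1, 14, 19, 8, 13, 22, 10, 3, 11, 16, 20, 21, 17, 5, 23]),
  ([0, 18, 9, 8, 3, 10, 12, 19, 2, 4, 11, 14, 13, 1, 17, 22, 16, 5, 6, 20, 15, 21, 7, 23], [0, 13, 8, 4, 9, 17, 18, 22, 3, 2, 5, 10, 6, 12, 11, 20, 16, 14, 1, 7, 19, 21, 15, 23]),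
  ([0, 2, 6, 1, 3, 7, 4, 11, 13, 8, 22, 14, 9, 16, 19, 15, 12, 21, 18, 5, 17, 10, 20, 23], [0, 3, 1, 4, 6, 19, 2, 5, 9, 12, 21, 7, 16, 8, 11, 15, 13, 20, 18, 14, 22, 17, 10, 23]),
  ([0, 3, 9, 6, 4, 19, 13, 20, 1, 12, 10, 7, 18, 8, 15, 11, 2, 5, 16, 22, 14, 17, 21, 23], [0, 8, 16, 1, 4, 17, 3, 11, 13, 2, 10, 15, 9, 6, 20, 14, 18, 21, 12, 5, 7, 22, 19, 23]),
  ([0, 4, 18, 9, 13, 15, 1, 21, 6, 2, 17, 19, 16, 12, 11, 20, 3, 22, 8, 10, 7, 14, 5, 23], [0, 6, 9, 16, 1, 22, 8, 20, 18, 3, 19, 14, 13, 4, 21, 5, 12, 10, 2, 11, 15, 7, 17, 23]),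
  ([0, 13, 16, 18, 1, 11, 6, 5, 9, 3, 14, 15, 8, 2, 20, 21, 4, 10, 12, 17, 19, 7, 22, 23], [0, 4, 13, 9, 16, 7, 6, 21, 12, 8, 17, 5, 18, 1, 10, 11, 2, 19, 3, 20, 14, 15, 22, 23]),
  ([0, 1, 8, 16, 6, 20, 9, 22, 18, 4, 7, 11, 12, 3, 21, 5, 13, 17, 2, 14, 15, 19, 10, 23], [0, 1, 18, 13, 9, 15, 4, 10, 2, 6, 22, 11, 12, 16, 19, 20, 3, 17, 8, 21, 5, 14, 7, 23]),
  ([0, 6, 12, 8, 9, 21, 18, 10, 16, 13, 19, 20, 2, 4, 5, 22, 1, 14, 3, 7, 11, 15, 17, 23], [0, 16, 12, 18, 13, 14, 1, 19, 3, 4, 7, 20, 2, 9, 17, 21, 8, 22, 6, 10, 11, 5, 15, 23]),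
  ([0, 9, 2, 12, 18, 5, 16, 17, 8, 1, 15, 21, 3, 13, 22, 10, 6, 7, 4, 19, 20, 11, 14, 23], [0, 9, 2, 12, 18, 5, 16, 17, 8, 1, 15, 21, 3, 13, 22, 10, 6, 7, 4, 19, 20, 11, 14, 23]),
  ([0, 18, 3, 2, 16, 22, 8, 14, 12, 6, 11, 5, 4, 1, 10, 17, 9, 19, 13, 15, 21, 20, 7, 23], [0, 13, 3, 2, 12, 11, 9, 22, 6, 16, 14, 10, 8, 18, 7, 19, 4, 15, 1, 17, 21, 20, 5, 23]),
  ([0, 16, 4, 3, 8, 10, 12, 7, 2, 9, 20, 22, 13, 6, 17, 14, 18, 15, 1, 11, 5, 21, 19, 23], [0, 18, 8, 3, 2, 20, 13, 7, 4, 9, 5, 19, 6, 12, 15, 17, 1, 14, 16, 22, 10, 21, 11, 23]),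
  ([0, 8, 13, 4, 12, 17, 2, 19, 3, 18, 21, 10, 1, 9, 14, 7, 16, 11, 6, 20, 22, 5, 15, 23], [0, 12, 6, 8, 3, 21, 18, 15, 1, 13, 11, 17, 4, 2, 14, 22, 16, 5, 9, 7, 19, 10, 20, 23]),
  ([0, 12, 1, 13, 2, 14, 3, 15, 4, 16, 5, 17, 6, 18, 7, 19, 8, 20, 9, 21, 10, 22, 11, 23], [0, 2, 4, 6, 8, 10, 12, 14, 16, 18, 20, 22, 1, 3, 5, 7, 9, 11, 13, 15, 17, 19, 21, 23]),
  ([0, 4, 16, 9, 13, 14, 3, 17, 8, 12, 21, 19, 18, 2, 20, 11, 1, 5, 6, 10, 7, 15, 22, 23], [0, 16, 13, 6, 1, 17, 18, 20, 8, 3, 19, 15, 9, 4, 5, 21, 2, 7, 12, 11, 14, 10, 22, 23]),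
  ([0, 13, 8, 18, 1, 7, 4, 14, 12, 2, 5, 15, 16, 3, 21, 20, 6, 22, 9, 17, 19, 11, 10, 23], [0, 4, 9, 13, 6, 10, 16, 5, 2, 18, 22, 21, 8, 1, 7, 11, 12, 19, 3, 20, 15, 14, 17, 23]),
  ([0, 1, 12, 16, 6, 19, 13, 7, 2, 3, 22, 11, 8, 4, 5, 21, 9, 10, 18, 14, 15, 20, 17, 23], [0, 1, 8, 9, 13, 14, 4, 7, 12, 16, 17, 11, 2, 6, 19, 20, 3, 22, 18, 5, 21, 15, 10, 23]),
  ([0, 6, 2, 8, 9, 15, 1, 19, 3, 4, 10, 20, 12, 13, 22, 5, 18, 17, 16, 7, 11, 21, 14, 23], [0, 6, 2, 8, 9, 15, 1, 19, 3, 4, 10, 20, 12, 13, 22, 5, 18, 17, 16, 7, 11, 21, 14, 23]),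
  ([0, 9, 3, 12, 18, 11, 6, 15, 4, 13, 17, 21, 2, 1, 10, 22, 16, 14, 8, 19, 20, 5, 7, 23], [0, 13, 12, 2, 8, 21, 6, 22, 18, 1, 14, 5, 3, 9, 17, 7, 16, 10, 4, 19, 20, 11, 15, 23]),
  ([0, 18, 4, 2, 16, 20, 9, 11, 13, 1, 14, 5, 3, 6, 17, 10, 8, 7, 12, 15, 21, 22, 19, 23], [0, 9, 3, 12, 2, 11, 13, 17, 16, 6, 15, 7, 18, 8, 10, 19, 4, 14, 1, 22, 5, 20, 21, 23]),
  ([0, 16, 13, 3, 8, 21, 18, 20, 1, 6, 7, 22, 4, 9, 14, 17, 12, 19, 2, 11, 5, 10, 15, 23], [0, 8, 18, 3, 12, 20, 9, 10, 4, 13, 21, 19, 16, 2, 14, 22, 1, 15, 6, 17, 7, 5, 11, 23]),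
  ([0, 8, 1, 4, 12, 5, 16, 21, 6, 9, 19, 10, 13, 18, 7, 14, 2, 15, 3, 20, 22, 17, 11, 23], [0, 2, 16, 18, 3, 5, 8, 14, 1, 9, 11, 22, 4, 12, 15, 17, 6, 21, 13, 10, 19, 7, 20, 23]),
  ([0, 12, 6, 13, 2, 22, 8, 5, 9, 18, 15, 17, 1, 16, 19, 7, 3, 11, 4, 21, 10, 14, 20, 23], [0, 12, 4, 16, 18, 7, 2, 15, 6, 8, 20, 17, 1, 3, 21, 10, 13, 11, 9, 14, 22, 19, 5, 23]),
  ([0, 2, 9, 1, 3, 10, 12, 22, 18, 16, 11, 14, 6, 8, 15, 19, 4, 20, 13, 5, 17, 7, 21, 23], [0, 3, 1, 4, 16, 19, 12, 21, 13, 2, 5, 10, 6, 18, 11, 14, 9, 20, 8, 15, 17, 22, 7, 23]),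
  ([0, 3, 18, 6, 4, 17, 2, 10, 16, 8, 20, 7, 9, 12, 11, 15, 13, 21, 1, 22, 14, 19, 5, 23], [0, 18, 6, 1, 4, 22, 3, 11, 9, 12, 7, 14, 13, 16, 20, 15, 8, 5, 2, 21, 10, 17, 19, 23]),
  ([0, 3, 2, 18, 8, 19, 13, 7, 12, 1, 5, 20, 6, 4, 22, 17, 9, 10, 16, 15, 14, 11, 21, 23], [0, 9, 2, 1, 13, 10, 12, 7, 4, 16, 17, 21, 8, 6, 20, 19, 18, 15, 3, 5, 11, 22, 14, 23]),
  ([0, 4, 3, 16, 12, 15, 1, 19, 2, 6, 22, 21, 9, 13, 10, 14, 18, 17, 8, 11, 7, 20, 5, 23], [0, 6, 8, 2, 1, 22, 9, 20, 18, 12, 14, 19, 4, 13, 15, 5, 3, 17, 16, 7, 21, 11, 10, 23]),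
  ([0, 13, 4, 8, 2, 11, 6, 15, 3, 9, 10, 5, 18, 1, 17, 7, 16, 14, 12, 20, 19, 21, 22, 23], [0, 13, 4, 8, 2, 11, 6, 15, 3, 9, 10, 5, 18, 1, 17, 7, 16, 14, 12, 20, 19, 21, 22, 23]),
  ([0, 1, 13, 12, 3, 20, 9, 11, 4, 18, 17, 22, 16, 6, 14, 19, 8, 7, 2, 21, 15, 5, 10, 23], [0, 1, 18, 4, 8, 21, 13, 17, 16, 6, 22, 7, 3, 2, 14, 20, 12, 10, 9, 15, 5, 19, 11, 23]),
  ([0, 6, 1, 2, 4, 21, 18, 20, 13, 16, 14, 10, 8, 9, 7, 15, 12, 19, 3, 5, 11, 22, 17, 23], [0, 2, 3, 18, 4, 19, 1, 14, 12, 13, 11, 20, 16, 8, 10, 15, 9, 22, 6, 17, 7, 5, 21, 23]),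
  ([0, 9, 6, 3, 13, 5, 16, 21, 1, 8, 7, 17, 12, 18, 19, 11, 2, 15, 4, 22, 20, 10, 14, 23], [0, 8, 16, 3, 18, 5, 2, 10, 9, 1, 21, 15, 12, 4, 22, 17, 6, 11, 13, 14, 20, 7, 19, 23]),
  ([0, 18, 9, 4, 1, 22, 8, 5, 6, 12, 19, 14, 2, 16, 15, 20, 3, 11, 13, 10, 21, 17, 7, 23], [0, 4, 12, 16, 3, 7, 8, 22, 6, 2, 19, 17, 9, 18, 11, 14, 13, 21, 1, 10, 15, 20, 5, 23]),
  ([0, 16, 18, 13, 6, 10, 12, 22, 9, 2, 15, 7, 3, 8, 11, 21, 4, 20, 1, 17, 5, 14, 19, 23], [0, 18, 9, 12, 16, 20, 4, 11, 13, 8, 5, 14, 6, 3, 21, 10, 1, 19, 2, 22, 17, 15, 7, 23]),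
  ([0, 8, 16, 1, 9, 17, 2, 10, 18, 3, 11, 19, 4, 12, 20, 5, 13, 21, 6, 14, 22, 7, 15, 23], [0, 3, 6, 9, 12, 15, 18, 21, 1, 4, 7, 10, 13, 16, 19, 22, 2, 5, 8, 11, 14, 17, 20, 23]),
  ([0, 12, 8, 6, 18, 14, 3, 17, 16, 4, 20, 15, 13, 2, 21, 22, 1, 5, 9, 7, 10, 19, 11, 23], [0, 16, 13, 6, 9, 17, 3, 19, 2, 18, 20, 22, 1, 12, 5, 11, 8, 7, 4, 21, 10, 14, 15, 23]),
  ([0, 2, 12, 9, 16, 7, 4, 14, 8, 13, 21, 11, 1, 3, 5, 10, 6, 22, 18, 19, 17, 15, 20, 23], [0, 12, 1, 13, 6, 14, 16, 5, 8, 3, 15, 11, 2, 9, 7, 21, 4, 20, 18, 19, 22, 10, 17, 23]),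
  ([0, 13, 4, 6, 12, 20, 8, 14, 1, 9, 10, 22, 16, 3, 21, 7, 18, 15, 2, 11, 19, 17, 5, 23], [0, 8, 18, 13, 2, 22, 3, 15, 6, 9, 10, 19, 4, 1, 7, 17, 12, 21, 16, 20, 5, 14, 11, 23]),
  ([0, 1, 13, 9, 2, 21, 12, 7, 6, 18, 17, 10, 8, 4, 5, 19, 16, 11, 3, 20, 15, 14, 22, 23], [0, 1, 4, 18, 13, 14, 8, 7, 12, 3, 11, 17, 6, 2, 21, 20, 16, 10, 9, 15, 19, 5, 22, 23]),
  ([0, 6, 1, 18, 3, 5, 2, 19, 9, 16, 14, 17, 12, 13, 22, 15, 8, 20, 4, 21, 11, 7, 10, 23], [0, 2, 6, 4, 18, 5, 1, 21, 16, 8, 22, 20, 12, 13, 10, 15, 9, 11, 3, 7, 17, 19, 14, 23]),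
  ([0, 9, 6, 16, 4, 22, 3, 15, 18, 8, 7, 14, 2, 1, 10, 11, 12, 21, 13, 5, 20, 19, 17, 23], [0, 13, 12, 6, 4, 19, 2, 10, 9, 1, 14, 15, 16, 18, 11, 7, 3, 22, 8, 21, 20, 17, 5, 23]),
  ([0, 18, 9, 8, 13, 10, 4, 11, 16, 12, 19, 7, 3, 6, 17, 20, 2, 5, 1, 22, 21, 15, 14, 23], [0, 18, 16, 12, 6, 17, 13, 11, 3, 2, 5, 7, 9, 4, 22, 21, 8, 14, 1, 10, 15, 20, 19, 23]),
  ([0, 16, 18, 12, 1, 17, 13, 20, 8, 2, 15, 19, 4, 9, 14, 21, 3, 22, 6, 10, 5, 11, 7, 23], [0, 4, 9, 16, 12, 20, 18, 22, 8, 13, 19, 21, 3, 6, 14, 10, 1, 5, 2, 11, 7, 15, 17, 23]),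
  ([0, 8, 16, 2, 6, 14, 1, 21, 12, 3, 11, 15, 13, 18, 7, 5, 4, 10, 9, 17, 22, 20, 19, 23], [0, 6, 3, 9, 16, 15, 4, 14, 1, 18, 17, 10, 8, 12, 5, 11, 2, 19, 13, 22, 21, 7, 20, 23]),
  ([0, 12, 8, 3, 9, 7, 6, 5, 2, 4, 20, 11, 1, 16, 19, 22, 13, 17, 18, 14, 10, 21, 15, 23], [0, 12, 8, 3, 9, 7, 6, 5, 2, 4, 20, 11, 1, 16, 19, 22, 13, 17, 18, 14, 10, 21, 15, 23]),
  ([0, 2, 12, 4, 18, 19, 9, 22, 3, 13, 21, 20, 6, 8, 15, 10, 1, 14, 16, 7, 17, 5, 11, 23], [0, 16, 1, 8, 3, 21, 12, 19, 13, 6, 15, 22, 2, 9, 17, 14, 18, 20, 4, 5, 11, 10, 7, 23]),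
  ([0, 3, 2, 13, 16, 15, 18, 10, 4, 1, 5, 21, 9, 12, 11, 17, 6, 7, 8, 19, 14, 22, 20, 23], [0, 9, 2, 1, 8, 10, 16, 17, 18, 12, 7, 14, 13, 3, 20, 5, 4, 15, 6, 19, 22, 11, 21, 23]),
  ([0, 4, 3, 1, 8, 11, 16, 17, 13, 6, 22, 5, 18, 2, 20, 14, 9, 19, 12, 15, 7, 10, 21, 23], [0, 3, 13, 2, 1, 11, 9, 20, 4, 16, 21, 5, 18, 8, 15, 19, 6, 7, 12, 17, 14, 22, 10, 23]),
  ([0, 8, 3, 16, 1, 22, 12, 19, 9, 18, 15, 21, 2, 13, 5, 14, 6, 11, 4, 17, 20, 7, 10, 23], [0, 4, 12, 2, 18, 14, 16, 21, 1, 8, 22, 17, 6, 13, 15, 10, 3, 19, 9, 7, 20, 11, 5, 23]),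
  ([0, 12, 4, 8, 6, 10, 2, 15, 18, 16, 11, 5, 3, 1, 22, 7, 9, 20, 13, 14, 21, 19, 17, 23], [0, 13, 6, 12, 2, 11, 4, 15, 3, 16, 5, 10, 1, 18, 19, 7, 9, 22, 8, 21, 17, 20, 14, 23]),
  ([0, 2, 13, 12, 9, 17, 3, 11, 16, 8, 20, 22, 4, 6, 10, 19, 18, 21, 1, 7, 5, 15, 14, 23], [0, 18, 1, 6, 12, 20, 13, 19, 9, 4, 14, 7, 3, 2, 22, 21, 8, 5, 16, 15, 10, 17, 11, 23]),
  ([0, 3, 1, 2, 18, 14, 4, 20, 8, 12, 21, 10, 13, 9, 17, 15, 16, 5, 6, 19, 22, 11, 7, 23], [0, 2, 3, 1, 6, 17, 18, 22, 8, 13, 11, 21, 9, 12, 5, 15, 16, 14, 4, 19, 7, 10, 20, 23]),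
  ([0, 4, 6, 3, 16, 7, 13, 21, 12, 2, 5, 17, 1, 18, 14, 11, 8, 22, 9, 15, 10, 20, 19, 23], [0, 12, 9, 3, 1, 10, 2, 5, 16, 18, 20, 15, 8, 6, 14, 19, 4, 11, 13, 22, 21, 7, 17, 23]),
  ([0, 13, 9, 4, 8, 19, 1, 5, 2, 3, 22, 14, 6, 16, 7, 20, 12, 10, 18, 11, 17, 21, 15, 23], [0, 6, 8, 9, 3, 7, 12, 14, 4, 2, 17, 19, 16, 1, 11, 22, 13, 20, 18, 5, 15, 21, 10, 23]),
  ([0, 1, 18, 13, 12, 15, 6, 22, 3, 4, 10, 7, 9, 8, 19, 21, 2, 17, 16, 20, 14, 5, 11, 23], [0, 1, 16, 8, 9, 21, 6, 11, 13, 12, 10, 22, 4, 3, 20, 5, 18, 17, 2, 14, 19, 15, 7, 23]),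
  ([0, 6, 16, 1, 2, 11, 9, 10, 4, 13, 17, 19, 18, 12, 15, 5, 3, 14, 8, 21, 7, 22, 20, 23], [0, 3, 4, 16, 8, 15, 1, 20, 18, 6, 7, 5, 13, 9, 17, 14, 2, 10, 12, 11, 22, 19, 21, 23]),
  ([0, 9, 8, 6, 3, 20, 18, 17, 13, 1, 14, 15, 16, 2, 11, 22, 4, 7, 12, 5, 19, 10, 21, 23], [0, 9, 13, 4, 16, 19, 3, 17, 2, 1, 21, 14, 18, 8, 10, 11, 12, 7, 6, 20, 5, 22, 15, 23]),
  ([0, 18, 12, 9, 4, 21, 16, 14, 1, 6, 7, 11, 8, 3, 20, 10, 13, 19, 2, 22, 15, 17, 5, 23], [0, 8, 18, 13, 4, 22, 9, 10, 12, 3, 15, 11, 2, 16, 7, 20, 6, 21, 1, 17, 14, 5, 19, 23]),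
  ([0, 16, 2, 18, 13, 5, 8, 7, 6, 9, 19, 20, 12, 4, 21, 17, 1, 15, 3, 10, 11, 14, 22, 23], [0, 16, 2, 18, 13, 5, 8, 7, 6, 9, 19, 20, 12, 4, 21, 17, 1, 15, 3, 10, 11, 14, 22, 23]),
  ([0, 12, 13, 2, 9, 21, 1, 20, 18, 6, 11, 5, 4, 8, 10, 19, 16, 17, 3, 7, 22, 14, 15, 23], [0, 6, 3, 18, 12, 11, 9, 19, 13, 4, 14, 10, 1, 2, 21, 22, 16, 17, 8, 15, 7, 5, 20, 23]),
  ([0, 2, 1, 3, 18, 5, 6, 21, 16, 9, 20, 22, 13, 12, 17, 15, 8, 14, 4, 19, 10, 7, 11, 23], [0, 2, 1, 3, 18, 5, 6, 21, 16, 9, 20, 22, 13, 12, 17, 15, 8, 14, 4, 19, 10, 7, 11, 23]),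
  ([0, 3, 6, 4, 16, 22, 9, 5, 8, 18, 21, 10, 1, 2, 14, 11, 12, 7, 13, 15, 17, 19, 20, 23], [0, 12, 13, 1, 3, 7, 2, 17, 8, 6, 11, 15, 16, 18, 14, 19, 4, 20, 9, 21, 22, 10, 5, 23]),
  ([0, 4, 9, 13, 8, 10, 18, 22, 12, 16, 5, 17, 6, 3, 7, 20, 2, 19, 1, 11, 14, 15, 21, 23], [0, 18, 16, 13, 1, 10, 12, 14, 4, 2, 5, 19, 8, 3, 20, 21, 9, 11, 6, 17, 15, 22, 7, 23]),
  ([0, 13, 18, 1, 12, 17, 16, 10, 2, 8, 22, 14, 9, 4, 19, 21, 3, 15, 6, 20, 7, 11, 5, 23], [0, 3, 8, 16, 13, 22, 18, 20, 9, 12, 7, 21, 4, 1, 11, 17, 6, 5, 2, 14, 19, 15, 10, 23]),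
  ([0, 1, 16, 6, 2, 14, 8, 17, 3, 12, 10, 7, 18, 13, 15, 5, 4, 11, 9, 21, 19, 20, 22, 23], [0, 1, 4, 8, 16, 15, 3, 11, 6, 18, 10, 17, 9, 13, 5, 14, 2, 7, 12, 20, 21, 19, 22, 23]),
  ([0, 6, 8, 9, 3, 7, 12, 14, 4, 2, 17, 19, 16, 1, 11, 22, 13, 20, 18, 5, 15, 21, 10, 23], [0, 13, 9, 4, 8, 19, 1, 5, 2, 3, 22, 14, 6, 16, 7, 20, 12, 10, 18, 11, 17, 21, 15, 23]),
  ([0, 9, 12, 18, 4, 19, 2, 7, 13, 3, 14, 15, 8, 6, 20, 10, 1, 21, 16, 22, 11, 5, 17, 23], [0, 16, 6, 9, 4, 21, 13, 7, 12, 1, 15, 20, 2, 8, 10, 11, 18, 22, 3, 5, 14, 17, 19, 23]),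
  ([0, 18, 2, 16, 13, 15, 3, 19, 1, 4, 7, 11, 12, 9, 21, 17, 6, 5, 8, 10, 20, 22, 14, 23], [0, 8, 2, 6, 9, 17, 16, 10, 18, 13, 19, 11, 12, 4, 22, 5, 3, 15, 1, 7, 20, 14, 21, 23]),
  ([0, 16, 3, 8, 1, 11, 4, 15, 6, 13, 19, 20, 2, 18, 5, 14, 9, 22, 12, 17, 21, 10, 7, 23], [0, 4, 12, 2, 6, 14, 8, 22, 3, 16, 21, 5, 18, 9, 15, 7, 1, 19, 13, 10, 11, 20, 17, 23]),
  ([0, 8, 4, 12, 6, 20, 13, 11, 9, 1, 15, 21, 3, 16, 22, 7, 18, 10, 2, 14, 5, 17, 19, 23], [0, 9, 18, 12, 2, 20, 4, 15, 1, 8, 17, 7, 3, 6, 19, 10, 13, 21, 16, 22, 5, 11, 14, 23]),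
  ([0, 1, 8, 4, 18, 5, 9, 22, 6, 16, 17, 10, 3, 12, 15, 20, 2, 7, 13, 14, 21, 19, 11, 23], [0, 1, 16, 12, 3, 5, 8, 17, 2, 6, 11, 22, 13, 18, 19, 14, 9, 10, 4, 21, 15, 20, 7, 23]),
  ([0, 6, 12, 13, 16, 22, 18, 10, 9, 8, 14, 17, 4, 2, 11, 21, 3, 19, 1, 7, 5, 15, 20, 23], [0, 18, 13, 16, 12, 20, 1, 19, 9, 8, 7, 14, 2, 3, 10, 21, 4, 11, 6, 17, 22, 15, 5, 23]),
  ([0, 9, 2, 1, 8, 10, 16, 17, 18, 12, 7, 14, 13, 3, 20, 5, 4, 15, 6, 19, 22, 11, 21, 23], [0, 3, 2, 13, 16, 15, 18, 10, 4, 1, 5, 21, 9, 12, 11, 17, 6, 7, 8, 19, 14, 22, 20, 23]),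
  ([0, 18, 3, 6, 12, 17, 8, 14, 16, 2, 19, 7, 1, 4, 21, 22, 13, 11, 9, 15, 10, 20, 5, 23], [0, 12, 9, 2, 13, 22, 3, 11, 6, 18, 20, 17, 4, 16, 7, 19, 8, 5, 1, 10, 21, 14, 15, 23]),
  ([0, 16, 4, 9, 2, 14, 12, 7, 8, 3, 15, 19, 6, 13, 5, 10, 1, 20, 18, 11, 17, 21, 22, 23], [0, 16, 4, 9, 2, 14, 12, 7, 8, 3, 15, 19, 6, 13, 5, 10, 1, 20, 18, 11, 17, 21, 22, 23]),
  ([0, 8, 13, 18, 3, 7, 2, 19, 12, 4, 11, 15, 9, 1, 22, 17, 6, 21, 16, 20, 14, 5, 10, 23], [0, 13, 6, 4, 9, 21, 16, 5, 1, 12, 22, 10, 8, 2, 20, 11, 18, 15, 3, 7, 19, 17, 14, 23]),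
  ([0, 12, 1, 16, 4, 19, 3, 15, 2, 13, 20, 11, 18, 6, 10, 14, 9, 5, 8, 21, 7, 22, 17, 23], [0, 2, 8, 6, 4, 17, 13, 20, 18, 16, 14, 11, 1, 9, 15, 7, 3, 22, 12, 5, 10, 19, 21, 23]),
  ([0, 2, 6, 8, 13, 15, 4, 11, 3, 1, 21, 20, 16, 9, 17, 7, 18, 22, 12, 5, 19, 10, 14, 23], [0, 9, 1, 8, 6, 19, 2, 15, 3, 13, 21, 7, 18, 4, 22, 5, 12, 14, 16, 20, 11, 10, 17, 23]),
  ([0, 3, 9, 12, 1, 11, 13, 20, 4, 6, 5, 21, 8, 18, 14, 19, 16, 10, 2, 22, 15, 17, 7, 23], [0, 4, 18, 1, 8, 10, 9, 22, 12, 2, 17, 5, 3, 6, 14, 20, 16, 21, 13, 15, 7, 11, 19, 23]),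
  ([0, 4, 18, 2, 6, 20, 1, 21, 13, 9, 22, 5, 12, 16, 7, 15, 8, 17, 3, 10, 11, 14, 19, 23], [0, 6, 3, 18, 1, 11, 4, 14, 16, 9, 19, 20, 12, 8, 21, 15, 13, 17, 2, 22, 5, 7, 10, 23]),
  ([0, 13, 16, 3, 9, 21, 6, 5, 1, 18, 10, 22, 2, 8, 19, 11, 12, 14, 4, 17, 20, 7, 15, 23], [0, 8, 12, 3, 18, 7, 6, 21, 13, 4, 10, 15, 16, 1, 17, 22, 2, 19, 9, 14, 20, 5, 11, 23]),
  ([0, 9, 12, 3, 6, 10, 18, 21, 16, 2, 7, 15, 13, 1, 11, 22, 4, 14, 8, 19, 5, 20, 17, 23], [0, 13, 9, 3, 16, 20, 4, 10, 18, 1, 5, 14, 2, 12, 17, 11, 8, 22, 6, 19, 21, 7, 15, 23]),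
  ([0, 18, 2, 4, 9, 17, 16, 5, 8, 3, 19, 11, 1, 6, 20, 10, 13, 7, 12, 15, 22, 21, 14, 23], [0, 12, 2, 9, 3, 7, 13, 17, 8, 4, 15, 11, 18, 16, 22, 19, 6, 5, 1, 10, 14, 21, 20, 23]),
  ([0, 16, 3, 13, 18, 14, 8, 22, 12, 4, 15, 20, 6, 9, 21, 17, 1, 19, 2, 11, 10, 5, 7, 23], [0, 16, 18, 2, 9, 21, 12, 22, 6, 13, 20, 19, 8, 3, 5, 10, 1, 15, 4, 17, 11, 14, 7, 23]),
  ([0, 8, 4, 1, 16, 7, 12, 10, 2, 13, 11, 21, 9, 18, 5, 14, 6, 15, 3, 20, 17, 22, 19, 23], [0, 3, 8, 18, 2, 14, 16, 5, 1, 12, 7, 10, 6, 9, 15, 17, 4, 20, 13, 22, 19, 11, 21, 23]),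
  ([0, 12, 13, 6, 8, 19, 2, 17, 3, 1, 20, 5, 18, 16, 22, 7, 9, 11, 4, 21, 14, 10, 15, 23], [0, 9, 6, 8, 18, 11, 3, 15, 4, 16, 21, 17, 1, 2, 20, 22, 13, 7, 12, 5, 10, 19, 14, 23]),
  ([0, 2, 1, 9, 12, 15, 3, 14, 4, 6, 21, 22, 16, 8, 10, 19, 18, 20, 13, 5, 7, 17, 11, 23], [0, 2, 1, 6, 8, 19, 9, 20, 13, 3, 14, 22, 4, 18, 7, 5, 12, 21, 16, 15, 17, 10, 11, 23]),
  ([0, 3, 6, 18, 2, 11, 4, 7, 13, 9, 5, 10, 8, 12, 17, 15, 16, 21, 1, 22, 19, 14, 20, 23], [0, 18, 4, 1, 6, 10, 2, 7, 12, 9, 11, 5, 13, 8, 21, 15, 16, 14, 3, 20, 22, 17, 19, 23]),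
  ([0, 4, 9, 16, 3, 20, 13, 19, 1, 18, 22, 17, 12, 2, 14, 11, 8, 5, 6, 10, 15, 7, 21, 23], [0, 8, 13, 4, 1, 17, 18, 21, 16, 2, 19, 15, 12, 6, 14, 20, 3, 11, 9, 7, 5, 22, 10, 23]),
  ([0, 13, 18, 8, 4, 21, 1, 15, 6, 16, 10, 14, 2, 3, 7, 20, 12, 22, 9, 17, 11, 19, 5, 23], [0, 6, 12, 13, 4, 22, 8, 14, 3, 18, 10, 20, 16, 1, 11, 7, 9, 19, 2, 21, 15, 5, 17, 23]),
  ([0, 1, 16, 12, 13, 5, 6, 11, 9, 8, 17, 7, 3, 4, 19, 21, 2, 10, 18, 14, 20, 15, 22, 23], [0, 1, 16, 12, 13, 5, 6, 11, 9, 8, 17, 7, 3, 4, 19, 21, 2, 10, 18, 14, 20, 15, 22, 23]),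
  ([0, 6, 8, 2, 1, 22, 9, 20, 18, 12, 14, 19, 4, 13, 15, 5, 3, 17, 16, 7, 21, 11, 10, 23], [0, 4, 3, 16, 12, 15, 1, 19, 2, 6, 22, 21, 9, 13, 10, 14, 18, 17, 8, 11, 7, 20, 5, 23]),
  ([0, 18, 1, 13, 16, 15, 6, 5, 2, 4, 14, 11, 8, 9, 17, 21, 3, 19, 12, 20, 10, 22, 7, 23], [0, 2, 8, 16, 9, 7, 6, 22, 12, 13, 20, 11, 18, 3, 10, 5, 4, 14, 1, 17, 19, 15, 21, 23]),
  ([0, 16, 6, 1, 8, 11, 9, 22, 3, 13, 7, 20, 12, 18, 14, 5, 4, 15, 2, 21, 17, 10, 19, 23], [0, 3, 18, 8, 16, 15, 2, 10, 4, 6, 21, 5, 12, 9, 14, 17, 1, 20, 13, 22, 11, 19, 7, 23]),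
  ([0, 8, 9, 6, 12, 20, 18, 10, 4, 1, 19, 21, 2, 16, 7, 22, 13, 11, 3, 5, 14, 17, 15, 23], [0, 9, 12, 18, 8, 19, 3, 14, 1, 2, 7, 17, 4, 16, 20, 22, 13, 21, 6, 10, 5, 11, 15, 23]),
  ([0, 12, 18, 9, 2, 21, 16, 17, 13, 6, 15, 5, 3, 8, 19, 10, 1, 20, 4, 22, 7, 14, 11, 23], [0, 16, 4, 12, 18, 11, 9, 20, 13, 3, 15, 22, 1, 8, 21, 10, 6, 7, 2, 14, 17, 5, 19, 23]),
  ([0, 2, 16, 18, 3, 5, 8, 14, 1, 9, 11, 22, 4, 12, 15, 17, 6, 21, 13, 10, 19, 7, 20, 23], [0, 8, 1, 4, 12, 5, 16, 21, 6, 9, 19, 10, 13, 18, 7, 14, 2, 15, 3, 20, 22, 17, 11, 23]),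
  ([0, 3, 8, 16, 4, 22, 12, 7, 6, 18, 20, 10, 13, 2, 11, 14, 9, 5, 1, 17, 15, 19, 21, 23], [0, 18, 13, 1, 4, 17, 8, 7, 2, 16, 11, 14, 6, 12, 15, 20, 3, 19, 9, 21, 10, 22, 5, 23]),
  ([0, 4, 12, 8, 13, 10, 2, 19, 9, 16, 21, 17, 1, 3, 20, 7, 18, 22, 6, 14, 11, 15, 5, 23], [0, 12, 6, 13, 1, 22, 18, 15, 3, 8, 5, 20, 2, 4, 19, 21, 9, 11, 16, 7, 14, 10, 17, 23]),
  ([0, 13, 2, 12, 1, 17, 3, 15, 18, 8, 5, 14, 6, 4, 21, 19, 16, 10, 9, 7, 20, 11, 22, 23], [0, 4, 2, 6, 13, 10, 12, 19, 9, 18, 17, 21, 3, 1, 11, 7, 16, 5, 8, 15, 20, 14, 22, 23]),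
  ([0, 1, 3, 2, 6, 14, 4, 11, 16, 12, 22, 7, 9, 13, 5, 15, 8, 17, 18, 19, 21, 20, 10, 23], [0, 1, 3, 2, 6, 14, 4, 11, 16, 12, 22, 7, 9, 13, 5, 15, 8, 17, 18, 19, 21, 20, 10, 23]),
  ([0, 6, 4, 3, 9, 7, 13, 20, 8, 2, 10, 19, 18, 1, 22, 11, 12, 14, 16, 15, 5, 21, 17, 23], [0, 13, 9, 3, 2, 20, 1, 5, 8, 4, 10, 15, 16, 6, 17, 19, 18, 22, 12, 11, 7, 21, 14, 23]),
  ([0, 9, 13, 4, 18, 19, 1, 21, 12, 3, 17, 15, 16, 6, 10, 20, 2, 7, 8, 11, 22, 5, 14, 23], [0, 6, 16, 9, 3, 21, 13, 17, 18, 1, 14, 19, 8, 2, 22, 11, 12, 10, 4, 5, 15, 7, 20, 23]),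
  ([0, 6, 9, 8, 2, 11, 16, 10, 4, 3, 19, 17, 12, 18, 7, 5, 13, 20, 1, 22, 15, 21, 14, 23], [0, 18, 4, 9, 8, 15, 1, 14, 3, 2, 7, 5, 12, 16, 22, 20, 6, 11, 13, 10, 17, 21, 19, 23]),
  ([0, 9, 18, 12, 3, 20, 8, 17, 13, 4, 15, 14, 2, 16, 19, 22, 1, 21, 6, 10, 11, 5, 7, 23], [0, 16, 12, 4, 9, 21, 18, 22, 6, 1, 19, 20, 3, 8, 11, 10, 13, 7, 2, 14, 5, 17, 15, 23]),
  ([0, 18, 16, 2, 4, 21, 12, 14, 1, 13, 11, 7, 3, 8, 15, 10, 6, 5, 9, 17, 20, 22, 19, 23], [0, 8, 3, 12, 4, 17, 16, 11, 13, 18, 15, 10, 6, 9, 7, 14, 2, 19, 1, 22, 20, 5, 21, 23]),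
  ([0, 16, 8, 3, 13, 5, 2, 7, 6, 1, 20, 19, 4, 12, 11, 17, 9, 22, 18, 14, 21, 10, 15, 23], [0, 9, 6, 3, 12, 5, 8, 7, 2, 16, 21, 14, 13, 4, 19, 22, 1, 15, 18, 11, 10, 20, 17, 23]),
  ([0, 8, 12, 4, 1, 22, 3, 19, 9, 6, 21, 15, 13, 2, 20, 14, 18, 10, 16, 7, 5, 17, 11, 23], [0, 4, 13, 6, 3, 20, 9, 19, 1, 8, 17, 22, 2, 12, 15, 11, 18, 21, 16, 7, 14, 10, 5, 23]),
  ([0, 12, 2, 13, 6, 10, 4, 15, 18, 9, 5, 11, 1, 3, 21, 7, 16, 17, 8, 19, 22, 14, 20, 23], [0, 12, 2, 13, 6, 10, 4, 15, 18, 9, 5, 11, 1, 3, 21, 7, 16, 17, 8, 19, 22, 14, 20, 23]),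
  ([0, 2, 3, 1, 9, 17, 13, 11, 16, 18, 22, 20, 6, 4, 5, 19, 8, 14, 12, 15, 10, 7, 21, 23], [0, 3, 1, 2, 13, 14, 12, 21, 16, 4, 20, 7, 18, 6, 17, 19, 8, 5, 9, 15, 11, 22, 10, 23]),
  ([0, 3, 4, 6, 18, 14, 1, 20, 8, 16, 10, 21, 9, 13, 22, 15, 12, 7, 2, 11, 17, 19, 5, 23], [0, 6, 18, 1, 2, 22, 3, 17, 8, 12, 10, 19, 16, 13, 5, 15, 9, 20, 4, 21, 7, 11, 14, 23]),
  ([0, 4, 13, 9, 16, 7, 6, 21, 12, 8, 17, 5, 18, 1, 10, 11, 2, 19, 3, 20, 14, 15, 22, 23], [0, 13, 16, 18, 1, 11, 6, 5, 9, 3, 14, 15, 8, 2, 20, 21, 4, 10, 12, 17, 19, 7, 22, 23]),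
  ([0, 13, 1, 18, 8, 19, 9, 5, 2, 12, 14, 22, 16, 6, 17, 20, 3, 15, 4, 21, 7, 11, 10, 23], [0, 2, 8, 16, 18, 7, 13, 20, 4, 6, 22, 21, 9, 1, 10, 17, 12, 14, 3, 5, 15, 19, 11, 23]),
  ([0, 1, 6, 16, 12, 15, 18, 22, 3, 2, 7, 10, 8, 9, 14, 21, 4, 11, 13, 5, 19, 20, 17, 23], [0, 1, 9, 8, 16, 19, 2, 10, 12, 13, 11, 17, 4, 18, 14, 5, 3, 22, 6, 20, 21, 15, 7, 23]),
  ([0, 1, 2, 3, 4, 5, 6, 7, 8, 9, 10, 11, 12, 13, 14, 15, 16, 17, 18, 19, 20, 21, 22, 23], [0, 1, 2, 3, 4, 5, 6, 7, 8, 9, 10, 11, 12, 13, 14, 15, 16, 17, 18, 19, 20, 21, 22, 23]),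
  ([0, 9, 4, 13, 1, 10, 18, 15, 2, 16, 14, 21, 3, 6, 19, 20, 12, 7, 8, 11, 5, 22, 17, 23], [0, 4, 8, 12, 2, 20, 13, 17, 18, 1, 5, 19, 16, 3, 10, 7, 9, 22, 6, 14, 15, 11, 21, 23]),
  ([0, 16, 1, 6, 9, 14, 8, 20, 4, 12, 19, 22, 13, 18, 11, 5, 3, 15, 2, 21, 10, 17, 7, 23], [0, 2, 18, 16, 8, 15, 3, 22, 6, 4, 20, 14, 9, 12, 5, 17, 1, 21, 13, 10, 7, 19, 11, 23]),
  ([0, 12, 9, 18, 16, 19, 2, 5, 1, 3, 11, 17, 6, 8, 21, 10, 13, 20, 4, 22, 14, 7, 15, 23], [0, 8, 6, 9, 18, 7, 12, 21, 13, 2, 15, 10, 1, 16, 20, 22, 4, 11, 3, 5, 17, 14, 19, 23]),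
  ([0, 3, 16, 8, 12, 11, 4, 10, 9, 13, 21, 7, 18, 2, 22, 14, 6, 5, 1, 17, 19, 15, 20, 23], [0, 18, 13, 1, 6, 17, 16, 11, 3, 8, 7, 5, 4, 9, 15, 21, 2, 19, 12, 20, 22, 10, 14, 23]),
  ([0, 13, 12, 2, 3, 21, 1, 14, 16, 6, 22, 15, 8, 4, 17, 19, 18, 10, 9, 7, 11, 20, 5, 23], [0, 6, 3, 4, 13, 22, 9, 19, 12, 18, 17, 20, 2, 1, 7, 11, 8, 14, 16, 15, 21, 5, 10, 23]),
  ([0, 6, 3, 4, 13, 22, 9, 19, 12, 18, 17, 20, 2, 1, 7, 11, 8, 14, 16, 15, 21, 5, 10, 23], [0, 13, 12, 2, 3, 21, 1, 14, 16, 6, 22, 15, 8, 4, 17, 19, 18, 10, 9, 7, 11, 20, 5, 23]),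
  ([0, 18, 13, 1, 6, 17, 16, 11, 3, 8, 7, 5, 4, 9, 15, 21, 2, 19, 12, 20, 22, 10, 14, 23], [0, 3, 16, 8, 12, 11, 4, 10, 9, 13, 21, 7, 18, 2, 22, 14, 6, 5, 1, 17, 19, 15, 20, 23]),
  ([0, 8, 6, 9, 18, 7, 12, 21, 13, 2, 15, 10, 1, 16, 20, 22, 4, 11, 3, 5, 17, 14, 19, 23], [0, 12, 9, 18, 16, 19, 2, 5, 1, 3, 11, 17, 6, 8, 21, 10, 13, 20, 4, 22, 14, 7, 15, 23]),
  ([0, 2, 18, 16, 8, 15, 3, 22, 6, 4, 20, 14, 9, 12, 5, 17, 1, 21, 13, 10, 7, 19, 11, 23], [0, 16, 1, 6, 9, 14, 8, 20, 4, 12, 19, 22, 13, 18, 11, 5, 3, 15, 2, 21, 10, 17, 7, 23]),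
  ([0, 4, 8, 12, 2, 20, 13, 17, 18, 1, 5, 19, 16, 3, 10, 7, 9, 22, 6, 14, 15, 11, 21, 23], [0, 9, 4, 13, 1, 10, 18, 15, 2, 16, 14, 21, 3, 6, 19, 20, 12, 7, 8, 11, 5, 22, 17, 23]),
  ([0, 4, 1, 18, 9, 14, 8, 5, 16, 3, 19, 22, 2, 6, 10, 20, 12, 21, 13, 15, 11, 7, 17, 23], [0, 2, 12, 9, 1, 7, 13, 21, 6, 4, 14, 20, 16, 18, 5, 19, 8, 22, 3, 10, 15, 17, 11, 23]),
  ([0, 1, 9, 8, 16, 19, 2, 10, 12, 13, 11, 17, 4, 18, 14, 5, 3, 22, 6, 20, 21, 15, 7, 23], [0, 1, 6, 16, 12, 15, 18, 22, 3, 2, 7, 10, 8, 9, 14, 21, 4, 11, 13, 5, 19, 20, 17, 23]),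
  ([0, 9, 16, 2, 12, 11, 4, 14, 3, 6, 21, 7, 1, 8, 19, 10, 13, 17, 18, 5, 22, 20, 15, 23], [0, 12, 3, 8, 6, 19, 9, 11, 13, 1, 15, 5, 4, 16, 7, 22, 2, 17, 18, 14, 21, 10, 20, 23]),
  ([0, 16, 12, 4, 3, 21, 1, 19, 13, 18, 22, 15, 9, 2, 11, 14, 6, 7, 8, 10, 17, 5, 20, 23], [0, 6, 13, 4, 3, 21, 16, 17, 18, 12, 19, 14, 2, 8, 15, 11, 1, 20, 9, 7, 22, 5, 10, 23]),
  ([0, 12, 3, 1, 13, 22, 9, 11, 6, 8, 17, 20, 16, 4, 21, 19, 18, 15, 2, 14, 7, 10, 5, 23], [0, 3, 18, 2, 13, 22, 8, 20, 9, 6, 21, 7, 1, 4, 19, 17, 12, 10, 16, 15, 11, 14, 5, 23]),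
  ([0, 3, 13, 9, 6, 17, 16, 21, 18, 2, 7, 5, 12, 1, 22, 11, 8, 20, 4, 19, 15, 14, 10, 23], [0, 13, 9, 1, 18, 11, 4, 10, 16, 3, 22, 15, 12, 2, 21, 20, 6, 5, 8, 19, 17, 7, 14, 23]),
  ([0, 13, 6, 16, 18, 7, 12, 22, 8, 4, 15, 10, 3, 9, 17, 21, 2, 5, 1, 11, 20, 19, 14, 23], [0, 18, 16, 12, 9, 17, 2, 5, 8, 13, 11, 19, 6, 1, 22, 10, 3, 14, 4, 21, 20, 15, 7, 23]),
  ([0, 6, 18, 12, 8, 15, 3, 17, 2, 1, 20, 14, 13, 16, 7, 22, 4, 10, 9, 21, 5, 11, 19, 23], [0, 9, 8, 6, 16, 20, 1, 14, 4, 18, 17, 21, 3, 12, 11, 5, 13, 7, 2, 22, 10, 19, 15, 23]),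
  ([0, 18, 8, 3, 2, 20, 13, 7, 4, 9, 5, 19, 6, 12, 15, 17, 1, 14, 16, 22, 10, 21, 11, 23], [0, 16, 4, 3, 8, 10, 12, 7, 2, 9, 20, 22, 13, 6, 17, 14, 18, 15, 1, 11, 5, 21, 19, 23]),
  ([0, 8, 2, 13, 4, 5, 6, 15, 1, 16, 10, 11, 18, 3, 20, 7, 9, 19, 12, 17, 14, 22, 21, 23], [0, 8, 2, 13, 4, 5, 6, 15, 1, 16, 10, 11, 18, 3, 20, 7, 9, 19, 12, 17, 14, 22, 21, 23]),
  ([0, 2, 4, 6, 1, 10, 18, 20, 9, 12, 14, 21, 8, 13, 5, 15, 16, 11, 3, 7, 19, 17, 22, 23], [0, 4, 1, 18, 2, 14, 3, 19, 12, 8, 5, 17, 9, 13, 10, 15, 16, 21, 6, 20, 7, 11, 22, 23]),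
  ([0, 9, 4, 13, 3, 10, 16, 14, 12, 18, 15, 17, 1, 8, 19, 11, 2, 7, 6, 20, 22, 5, 21, 23], [0, 12, 16, 4, 2, 21, 18, 17, 13, 1, 5, 15, 8, 3, 7, 10, 6, 11, 9, 14, 19, 22, 20, 23]),
  ([0, 16, 1, 6, 13, 14, 12, 19, 3, 8, 20, 7, 9, 2, 11, 21, 4, 15, 18, 5, 17, 10, 22, 23], [0, 2, 13, 8, 16, 19, 3, 11, 9, 12, 21, 14, 6, 4, 5, 17, 1, 20, 18, 7, 10, 15, 22, 23]),
  ([0, 12, 9, 18, 6, 19, 3, 11, 13, 2, 5, 15, 16, 4, 21, 22, 1, 20, 8, 10, 7, 14, 17, 23], [0, 16, 9, 6, 13, 10, 4, 20, 18, 2, 19, 7, 1, 8, 21, 11, 12, 22, 3, 5, 17, 14, 15, 23]),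
  ([0, 3, 16, 8, 18, 11, 13, 21, 6, 4, 10, 20, 12, 1, 22, 17, 9, 5, 2, 14, 15, 19, 7, 23], [0, 13, 18, 1, 9, 17, 8, 22, 3, 16, 10, 5, 12, 6, 19, 20, 2, 15, 4, 21, 11, 7, 14, 23]),
  ([0, 13, 12, 2, 8, 21, 6, 22, 18, 1, 14, 5, 3, 9, 17, 7, 16, 10, 4, 19, 20, 11, 15, 23], [0, 9, 3, 12, 18, 11, 6, 15, 4, 13, 17, 21, 2, 1, 10, 22, 16, 14, 8, 19, 20, 5, 7, 23]),
  ([0, 6, 3, 4, 2, 22, 18, 17, 8, 9, 19, 10, 13, 16, 7, 15, 12, 14, 1, 11, 5, 21, 20, 23], [0, 18, 4, 2, 3, 20, 1, 14, 8, 9, 11, 19, 16, 12, 17, 15, 13, 7, 6, 10, 22, 21, 5, 23]),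
  ([0, 18, 13, 1, 4, 17, 8, 7, 2, 16, 11, 14, 6, 12, 15, 20, 3, 19, 9, 21, 10, 22, 5, 23], [0, 3, 8, 16, 4, 22, 12, 7, 6, 18, 20, 10, 13, 2, 11, 14, 9, 5, 1, 17, 15, 19, 21, 23]),
  ([0, 8, 6, 9, 1, 7, 2, 15, 4, 12, 21, 19, 18, 3, 20, 5, 13, 11, 16, 22, 14, 17, 10, 23], [0, 4, 6, 13, 8, 15, 2, 5, 1, 3, 22, 17, 9, 16, 20, 7, 18, 21, 12, 11, 14, 10, 19, 23]),
  ([0, 2, 18, 16, 9, 15, 4, 20, 1, 3, 22, 11, 8, 13, 5, 10, 6, 21, 12, 17, 19, 7, 14, 23], [0, 8, 1, 9, 6, 14, 16, 21, 12, 4, 15, 11, 18, 13, 22, 5, 3, 19, 2, 20, 7, 17, 10, 23]),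
  ([0, 4, 8, 12, 16, 20, 1, 5, 9, 13, 17, 21, 2, 6, 10, 14, 18, 22, 3, 7, 11, 15, 19, 23], [0, 6, 12, 18, 1, 7, 13, 19, 2, 8, 14, 20, 3, 9, 15, 21, 4, 10, 16, 22, 5, 11, 17, 23]),
  ([0, 1, 2, 3, 12, 5, 9, 10, 16, 6, 7, 22, 4, 18, 14, 19, 8, 17, 13, 15, 21, 20, 11, 23], [0, 1, 2, 3, 12, 5, 9, 10, 16, 6, 7, 22, 4, 18, 14, 19, 8, 17, 13, 15, 21, 20, 11, 23]),
  ([0, 3, 9, 6, 18, 19, 12, 10, 2, 13, 20, 21, 4, 16, 15, 22, 1, 5, 8, 11, 17, 14, 7, 23], [0, 16, 8, 1, 12, 17, 3, 22, 18, 2, 7, 19, 6, 9, 21, 14, 13, 20, 4, 5, 10, 11, 15, 23]),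
  ([0, 13, 16, 18, 8, 11, 3, 14, 4, 6, 5, 22, 1, 12, 20, 17, 9, 10, 2, 21, 7, 19, 15, 23], [0, 12, 18, 6, 8, 10, 9, 20, 4, 16, 17, 5, 13, 1, 7, 22, 2, 15, 3, 21, 14, 19, 11, 23]),
  ([0, 6, 12, 8, 2, 21, 13, 19, 1, 18, 10, 17, 9, 3, 5, 7, 16, 14, 4, 22, 15, 11, 20, 23], [0, 8, 4, 13, 18, 14, 1, 15, 3, 12, 10, 21, 2, 6, 17, 20, 16, 11, 9, 7, 22, 5, 19, 23]),
  ([0, 18, 3, 2, 4, 22, 6, 11, 9, 8, 14, 7, 16, 13, 10, 15, 12, 19, 1, 17, 20, 21, 5, 23], [0, 18, 3, 2, 4, 22, 6, 11, 9, 8, 14, 7, 16, 13, 10, 15, 12, 19, 1, 17, 20, 21, 5, 23]),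
  ([0, 8, 13, 4, 1, 17, 18, 21, 16, 2, 19, 15, 12, 6, 14, 20, 3, 11, 9, 7, 5, 22, 10, 23], [0, 4, 9, 16, 3, 20, 13, 19, 1, 18, 22, 17, 12, 2, 14, 11, 8, 5, 6, 10, 15, 7, 21, 23]),
  ([0, 2, 6, 1, 9, 7, 8, 22, 12, 4, 11, 20, 3, 18, 19, 5, 13, 21, 16, 15, 10, 17, 14, 23], [0, 3, 1, 12, 9, 15, 2, 5, 6, 4, 20, 10, 8, 16, 22, 19, 18, 21, 13, 14, 11, 17, 7, 23]),
  ([0, 4, 18, 9, 16, 15, 2, 17, 3, 1, 21, 5, 13, 8, 11, 10, 6, 22, 12, 20, 14, 7, 19, 23], [0, 9, 6, 8, 1, 11, 16, 21, 13, 3, 15, 14, 18, 12, 20, 5, 4, 7, 2, 22, 19, 10, 17, 23]),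
  ([0, 1, 8, 16, 12, 20, 4, 7, 13, 9, 22, 10, 6, 2, 21, 14, 18, 17, 3, 5, 19, 15, 11, 23], [0, 1, 13, 18, 6, 19, 12, 7, 2, 9, 11, 22, 4, 8, 15, 21, 3, 17, 16, 20, 5, 14, 10, 23]),
  ([0, 9, 2, 12, 3, 5, 1, 15, 6, 16, 17, 14, 18, 4, 22, 19, 8, 7, 13, 10, 11, 20, 21, 23], [0, 6, 2, 4, 13, 5, 8, 17, 16, 1, 19, 20, 3, 18, 11, 7, 9, 10, 12, 15, 21, 22, 14, 23]),
  ([0, 16, 4, 3, 13, 10, 9, 20, 18, 12, 7, 19, 8, 1, 17, 11, 2, 15, 6, 14, 21, 5, 22, 23], [0, 13, 16, 3, 2, 21, 18, 10, 12, 6, 5, 15, 9, 4, 19, 17, 1, 14, 8, 11, 7, 20, 22, 23]),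
  ([0, 12, 1, 13, 6, 14, 16, 5, 8, 3, 15, 11, 2, 9, 7, 21, 4, 20, 18, 19, 22, 10, 17, 23], [0, 2, 12, 9, 16, 7, 4, 14, 8, 13, 21, 11, 1, 3, 5, 10, 6, 22, 18, 19, 17, 15, 20, 23]),
  ([0, 18, 3, 8, 13, 15, 2, 19, 1, 6, 11, 7, 9, 12, 20, 17, 4, 14, 16, 22, 21, 10, 5, 23], [0, 8, 6, 2, 16, 22, 9, 11, 3, 12, 21, 10, 13, 4, 17, 5, 18, 15, 1, 7, 14, 20, 19, 23]),
  ([0, 8, 13, 2, 6, 20, 4, 11, 9, 18, 21, 15, 16, 3, 5, 7, 1, 19, 12, 17, 22, 14, 10, 23], [0, 16, 3, 13, 6, 14, 4, 15, 1, 8, 22, 7, 18, 2, 21, 11, 12, 19, 9, 17, 5, 10, 20, 23]),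
  ([0, 2, 6, 4, 18, 5, 1, 21, 16, 8, 22, 20, 12, 13, 10, 15, 9, 11, 3, 7, 17, 19, 14, 23], [0, 6, 1, 18, 3, 5, 2, 19, 9, 16, 14, 17, 12, 13, 22, 15, 8, 20, 4, 21, 11, 7, 10, 23]),
  ([0, 4, 18, 1, 8, 10, 9, 22, 12, 2, 17, 5, 3, 6, 14, 20, 16, 21, 13, 15, 7, 11, 19, 23], [0, 3, 9, 12, 1, 11, 13, 20, 4, 6, 5, 21, 8, 18, 14, 19, 16, 10, 2, 22, 15, 17, 7, 23]),
  ([0, 1, 8, 9, 2, 14, 16, 17, 3, 4, 7, 10, 13, 18, 19, 5, 12, 22, 6, 20, 15, 21, 11, 23], [0, 1, 4, 8, 9, 15, 18, 10, 2, 3, 11, 22, 16, 12, 5, 20, 6, 7, 13, 14, 19, 21, 17, 23]),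
  ([0, 9, 2, 16, 4, 19, 12, 7, 13, 1, 15, 14, 6, 8, 11, 10, 3, 17, 18, 5, 20, 22, 21, 23], [0, 9, 2, 16, 4, 19, 12, 7, 13, 1, 15, 14, 6, 8, 11, 10, 3, 17, 18, 5, 20, 22, 21, 23]),
  ([0, 16, 4, 12, 1, 11, 3, 15, 6, 9, 20, 19, 18, 2, 21, 14, 13, 7, 8, 10, 5, 17, 22, 23], [0, 4, 13, 6, 2, 20, 8, 17, 18, 9, 19, 5, 3, 16, 15, 7, 1, 21, 12, 11, 10, 14, 22, 23]),
  ([0, 12, 1, 3, 9, 21, 13, 20, 18, 16, 5, 11, 8, 4, 22, 19, 6, 15, 2, 14, 10, 7, 17, 23], [0, 2, 18, 3, 13, 10, 16, 21, 12, 4, 20, 11, 1, 6, 19, 17, 9, 22, 8, 15, 7, 5, 14, 23]),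
  ([0, 3, 9, 13, 16, 22, 6, 5, 8, 12, 10, 21, 2, 1, 17, 11, 18, 20, 4, 19, 14, 15, 7, 23], [0, 13, 12, 1, 18, 7, 6, 22, 8, 2, 10, 15, 9, 3, 20, 21, 4, 14, 16, 19, 17, 11, 5, 23]),
  ([0, 13, 16, 6, 12, 17, 18, 10, 2, 3, 14, 22, 4, 9, 7, 21, 8, 5, 1, 11, 19, 20, 15, 23], [0, 18, 8, 9, 12, 17, 3, 14, 16, 13, 7, 19, 4, 1, 10, 22, 2, 5, 6, 20, 21, 15, 11, 23]),
  ([0, 6, 12, 18, 3, 7, 8, 14, 4, 13, 19, 17, 1, 16, 15, 22, 2, 10, 9, 21, 11, 5, 20, 23], [0, 12, 16, 4, 8, 21, 1, 5, 6, 18, 17, 20, 2, 9, 7, 14, 13, 11, 3, 10, 22, 19, 15, 23]),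
  ([0, 13, 18, 16, 6, 20, 1, 15, 4, 8, 22, 5, 3, 2, 11, 21, 9, 10, 12, 17, 7, 19, 14, 23], [0, 6, 13, 12, 8, 11, 4, 20, 9, 16, 17, 14, 18, 1, 22, 7, 3, 19, 2, 21, 5, 15, 10, 23]),
  ([0, 6, 8, 12, 18, 5, 9, 20, 1, 2, 17, 10, 13, 4, 21, 22, 16, 14, 3, 7, 15, 11, 19, 23], [0, 8, 9, 18, 13, 5, 1, 19, 2, 6, 11, 21, 3, 12, 17, 20, 16, 10, 4, 22, 7, 14, 15, 23]),
  ([0, 18, 2, 3, 8, 10, 16, 5, 9, 4, 7, 14, 6, 1, 22, 17, 12, 19, 13, 15, 20, 21, 11, 23], [0, 13, 2, 3, 9, 7, 12, 10, 4, 8, 5, 22, 16, 18, 11, 19, 6, 15, 1, 17, 20, 21, 14, 23]),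
  ([0, 8, 4, 13, 2, 14, 12, 10, 16, 1, 15, 19, 18, 9, 17, 7, 3, 11, 6, 20, 5, 22, 21, 23], [0, 9, 4, 16, 2, 20, 18, 15, 1, 13, 7, 17, 6, 3, 5, 10, 8, 14, 12, 11, 19, 22, 21, 23]),
  ([0, 2, 1, 6, 4, 19, 3, 14, 12, 9, 20, 11, 8, 16, 7, 15, 13, 21, 18, 5, 10, 17, 22, 23], [0, 2, 1, 6, 4, 19, 3, 14, 12, 9, 20, 11, 8, 16, 7, 15, 13, 21, 18, 5, 10, 17, 22, 23]),
  ([0, 4, 9, 18, 1, 11, 13, 19, 3, 16, 5, 21, 2, 12, 15, 20, 6, 22, 8, 10, 14, 7, 17, 23], [0, 4, 12, 8, 1, 10, 16, 21, 18, 2, 19, 5, 13, 6, 20, 14, 9, 22, 3, 7, 15, 11, 17, 23]),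
  ([0, 1, 16, 8, 9, 21, 6, 11, 13, 12, 10, 22, 4, 3, 20, 5, 18, 17, 2, 14, 19, 15, 7, 23], [0, 1, 18, 13, 12, 15, 6, 22, 3, 4, 10, 7, 9, 8, 19, 21, 2, 17, 16, 20, 14, 5, 11, 23]),
  ([0, 9, 12, 2, 16, 22, 18, 21, 6, 3, 14, 17, 1, 13, 5, 10, 8, 7, 4, 19, 11, 20, 15, 23], [0, 12, 3, 9, 18, 14, 8, 17, 16, 1, 15, 20, 2, 13, 10, 22, 4, 11, 6, 19, 21, 7, 5, 23]),
  ([0, 16, 3, 4, 12, 17, 8, 22, 18, 13, 19, 7, 9, 6, 10, 14, 2, 15, 1, 11, 21, 5, 20, 23], [0, 18, 16, 2, 3, 21, 13, 11, 6, 12, 14, 19, 4, 9, 15, 17, 1, 5, 8, 10, 22, 20, 7, 23]),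
  ([0, 12, 13, 1, 3, 7, 2, 17, 8, 6, 11, 15, 16, 18, 14, 19, 4, 20, 9, 21, 22, 10, 5, 23], [0, 3, 6, 4, 16, 22, 9, 5, 8, 18, 21, 10, 1, 2, 14, 11, 12, 7, 13, 15, 17, 19, 20, 23]),
  ([0, 3, 6, 9, 13, 15, 4, 7, 2, 18, 21, 20, 12, 8, 19, 11, 1, 5, 16, 22, 17, 14, 10, 23], [0, 16, 8, 1, 6, 17, 2, 7, 13, 3, 22, 15, 12, 4, 21, 5, 18, 20, 9, 14, 11, 10, 19, 23]),
  ([0, 6, 13, 12, 8, 11, 4, 20, 9, 16, 17, 14, 18, 1, 22, 7, 3, 19, 2, 21, 5, 15, 10, 23], [0, 13, 18, 16, 6, 20, 1, 15, 4, 8, 22, 5, 3, 2, 11, 21, 9, 10, 12, 17, 7, 19, 14, 23]),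
  ([0, 18, 6, 3, 2, 21, 1, 5, 16, 12, 7, 19, 8, 9, 17, 15, 13, 11, 4, 22, 10, 20, 14, 23], [0, 6, 4, 3, 18, 7, 2, 10, 12, 13, 20, 17, 9, 16, 22, 15, 8, 14, 1, 11, 21, 5, 19, 23]),
  ([0, 8, 18, 13, 4, 22, 9, 10, 12, 3, 15, 11, 2, 16, 7, 20, 6, 21, 1, 17, 14, 5, 19, 23], [0, 18, 12, 9, 4, 21, 16, 14, 1, 6, 7, 11, 8, 3, 20, 10, 13, 19, 2, 22, 15, 17, 5, 23]),
  ([0, 2, 8, 6, 1, 17, 16, 14, 3, 13, 20, 21, 4, 12, 15, 5, 18, 22, 9, 7, 19, 10, 11, 23], [0, 4, 1, 8, 12, 15, 3, 19, 2, 18, 21, 22, 13, 9, 7, 14, 6, 5, 16, 20, 10, 11, 17, 23]),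
  ([0, 4, 2, 18, 9, 7, 12, 19, 13, 6, 5, 22, 1, 3, 20, 10, 8, 17, 16, 15, 11, 14, 21, 23], [0, 12, 2, 13, 1, 10, 9, 5, 16, 4, 15, 20, 6, 8, 21, 19, 18, 17, 3, 7, 14, 22, 11, 23]),
  ([0, 1, 4, 8, 16, 15, 3, 11, 6, 18, 10, 17, 9, 13, 5, 14, 2, 7, 12, 20, 21, 19, 22, 23], [0, 1, 16, 6, 2, 14, 8, 17, 3, 12, 10, 7, 18, 13, 15, 5, 4, 11, 9, 21, 19, 20, 22, 23]),
  ([0, 9, 1, 2, 12, 20, 13, 21, 18, 8, 14, 7, 16, 6, 10, 19, 4, 15, 3, 5, 22, 11, 17, 23], [0, 2, 3, 18, 16, 19, 13, 11, 9, 1, 14, 21, 4, 6, 10, 17, 12, 22, 8, 15, 5, 7, 20, 23]),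
  ([0, 16, 9, 4, 3, 5, 6, 22, 8, 2, 19, 15, 12, 18, 14, 11, 1, 20, 13, 10, 17, 21, 7, 23], [0, 16, 9, 4, 3, 5, 6, 22, 8, 2, 19, 15, 12, 18, 14, 11, 1, 20, 13, 10, 17, 21, 7, 23]),
  ([0, 12, 16, 1, 13, 10, 18, 17, 2, 4, 11, 20, 3, 8, 19, 21, 9, 5, 6, 14, 7, 22, 15, 23], [0, 3, 8, 12, 9, 17, 18, 20, 13, 16, 5, 10, 1, 4, 19, 22, 2, 7, 6, 14, 11, 15, 21, 23]),
  ([0, 3, 12, 9, 6, 14, 8, 7, 4, 1, 21, 5, 13, 2, 11, 22, 16, 10, 18, 19, 15, 17, 20, 23], [0, 9, 13, 1, 8, 11, 4, 7, 6, 3, 17, 14, 2, 12, 5, 20, 16, 21, 18, 19, 22, 10, 15, 23]),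
  ([0, 13, 3, 16, 18, 19, 2, 15, 1, 9, 22, 10, 6, 4, 21, 17, 12, 14, 8, 11, 20, 7, 5, 23], [0, 8, 6, 2, 13, 22, 12, 21, 18, 9, 11, 19, 16, 1, 17, 7, 3, 15, 4, 5, 20, 14, 10, 23]),
  ([0, 8, 6, 2, 16, 22, 9, 11, 3, 12, 21, 10, 13, 4, 17, 5, 18, 15, 1, 7, 14, 20, 19, 23], [0, 18, 3, 8, 13, 15, 2, 19, 1, 6, 11, 7, 9, 12, 20, 17, 4, 14, 16, 22, 21, 10, 5, 23]),
  ([0, 2, 18, 4, 12, 17, 16, 21, 13, 3, 22, 14, 6, 1, 7, 10, 8, 20, 9, 15, 19, 5, 11, 23], [0, 13, 1, 9, 3, 21, 12, 14, 16, 18, 15, 22, 4, 8, 11, 19, 6, 5, 2, 20, 17, 7, 10, 23]),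
  ([0, 4, 8, 1, 3, 7, 12, 22, 6, 13, 17, 19, 18, 9, 15, 14, 2, 5, 16, 20, 11, 10, 21, 23], [0, 3, 16, 4, 1, 17, 8, 5, 2, 13, 21, 20, 6, 9, 15, 14, 18, 10, 12, 11, 19, 22, 7, 23]),
  ([0, 1, 2, 9, 13, 15, 3, 17, 18, 6, 7, 11, 8, 16, 20, 19, 4, 10, 12, 5, 21, 14, 22, 23], [0, 1, 2, 6, 16, 19, 9, 10, 12, 3, 17, 11, 18, 4, 21, 5, 13, 7, 8, 15, 14, 20, 22, 23]),
  ([0, 9, 4, 16, 6, 20, 13, 7, 8, 18, 15, 21, 2, 12, 5, 11, 1, 14, 3, 10, 22, 19, 17, 23], [0, 16, 12, 18, 2, 14, 4, 7, 8, 1, 19, 15, 13, 6, 17, 10, 3, 22, 9, 21, 5, 11, 20, 23]),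
  ([0, 16, 1, 12, 18, 5, 6, 15, 2, 8, 20, 22, 4, 3, 10, 21, 9, 19, 13, 14, 17, 11, 7, 23], [0, 2, 8, 13, 12, 5, 6, 22, 9, 16, 14, 21, 3, 18, 19, 7, 1, 20, 4, 17, 10, 15, 11, 23]),
  ([0, 12, 9, 3, 8, 10, 18, 20, 4, 2, 5, 17, 1, 13, 14, 22, 16, 11, 6, 19, 7, 21, 15, 23], [0, 12, 9, 3, 8, 10, 18, 20, 4, 2, 5, 17, 1, 13, 14, 22, 16, 11, 6, 19, 7, 21, 15, 23]),
  ([0, 3, 16, 13, 2, 14, 8, 5, 1, 4, 10, 7, 9, 6, 19, 17, 12, 21, 18, 11, 15, 22, 20, 23], [0, 8, 4, 1, 9, 7, 13, 11, 6, 12, 10, 19, 16, 3, 5, 20, 2, 15, 18, 14, 22, 17, 21, 23]),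
  ([0, 13, 12, 6, 4, 19, 2, 10, 9, 1, 14, 15, 16, 18, 11, 7, 3, 22, 8, 21, 20, 17, 5, 23], [0, 9, 6, 16, 4, 22, 3, 15, 18, 8, 7, 14, 2, 1, 10, 11, 12, 21, 13, 5, 20, 19, 17, 23]),
  ([0, 6, 3, 18, 1, 11, 4, 14, 16, 9, 19, 20, 12, 8, 21, 15, 13, 17, 2, 22, 5, 7, 10, 23], [0, 4, 18, 2, 6, 20, 1, 21, 13, 9, 22, 5, 12, 16, 7, 15, 8, 17, 3, 10, 11, 14, 19, 23]),
  ([0, 18, 13, 8, 9, 21, 1, 19, 12, 16, 11, 5, 3, 2, 22, 20, 6, 7, 4, 17, 10, 15, 14, 23], [0, 6, 13, 12, 18, 11, 16, 17, 3, 4, 20, 10, 8, 2, 22, 21, 9, 19, 1, 7, 15, 5, 14, 23]),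
  ([0, 16, 8, 1, 12, 17, 3, 22, 18, 2, 7, 19, 6, 9, 21, 14, 13, 20, 4, 5, 10, 11, 15, 23], [0, 3, 9, 6, 18, 19, 12, 10, 2, 13, 20, 21, 4, 16, 15, 22, 1, 5, 8, 11, 17, 14, 7, 23]),
  ([0, 12, 2, 9, 3, 7, 13, 17, 8, 4, 15, 11, 18, 16, 22, 19, 6, 5, 1, 10, 14, 21, 20, 23], [0, 18, 2, 4, 9, 17, 16, 5, 8, 3, 19, 11, 1, 6, 20, 10, 13, 7, 12, 15, 22, 21, 14, 23]),
  ([0, 3, 4, 16, 13, 15, 6, 7, 2, 1, 20, 21, 8, 12, 17, 11, 18, 10, 9, 14, 19, 22, 5, 23], [0, 9, 8, 1, 2, 22, 6, 7, 12, 18, 17, 15, 13, 4, 19, 5, 3, 14, 16, 20, 10, 11, 21, 23]),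
  ([0, 13, 1, 12, 6, 20, 18, 15, 4, 9, 5, 22, 2, 3, 7, 21, 8, 14, 16, 19, 11, 17, 10, 23], [0, 2, 12, 13, 8, 10, 4, 14, 16, 9, 22, 20, 3, 1, 17, 7, 18, 21, 6, 19, 5, 15, 11, 23]),
  ([0, 6, 9, 3, 18, 5, 8, 20, 1, 16, 10, 17, 4, 13, 15, 22, 2, 19, 12, 11, 21, 7, 14, 23], [0, 8, 16, 3, 12, 5, 1, 21, 6, 2, 10, 19, 18, 13, 22, 14, 9, 11, 4, 17, 7, 20, 15, 23]),
  ([0, 18, 16, 13, 8, 10, 2, 5, 9, 12, 14, 7, 1, 6, 20, 17, 4, 11, 3, 21, 22, 15, 19, 23], [0, 12, 6, 18, 16, 7, 13, 11, 4, 8, 5, 17, 9, 3, 10, 21, 2, 15, 1, 22, 14, 19, 20, 23]),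
  ([0, 8, 12, 6, 2, 14, 4, 10, 16, 3, 19, 15, 9, 18, 5, 7, 1, 21, 13, 22, 17, 20, 11, 23], [0, 16, 4, 9, 6, 14, 3, 15, 1, 12, 7, 22, 2, 18, 5, 11, 8, 20, 13, 10, 21, 17, 19, 23]),
  ([0, 2, 3, 18, 4, 19, 1, 14, 12, 13, 11, 20, 16, 8, 10, 15, 9, 22, 6, 17, 7, 5, 21, 23], [0, 6, 1, 2, 4, 21, 18, 20, 13, 16, 14, 10, 8, 9, 7, 15, 12, 19, 3, 5, 11, 22, 17, 23]),
  ([0, 4, 13, 8, 1, 11, 9, 19, 3, 6, 21, 5, 12, 2, 14, 20, 16, 17, 18, 7, 15, 10, 22, 23], [0, 4, 13, 8, 1, 11, 9, 19, 3, 6, 21, 5, 12, 2, 14, 20, 16, 17, 18, 7, 15, 10, 22, 23]),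
  ([0, 1, 6, 2, 9, 21, 16, 11, 13, 18, 22, 10, 3, 4, 19, 5, 12, 7, 8, 15, 20, 14, 17, 23], [0, 1, 3, 12, 13, 15, 2, 17, 18, 4, 11, 7, 16, 8, 21, 19, 6, 22, 9, 14, 20, 5, 10, 23]),
  ([0, 9, 18, 4, 16, 22, 12, 21, 6, 8, 17, 14, 13, 1, 11, 10, 3, 15, 2, 20, 5, 19, 7, 23], [0, 13, 18, 16, 3, 20, 8, 22, 9, 1, 15, 14, 6, 12, 11, 17, 4, 10, 2, 21, 19, 7, 5, 23]),
  ([0, 12, 16, 4, 2, 21, 18, 17, 13, 1, 5, 15, 8, 3, 7, 10, 6, 11, 9, 14, 19, 22, 20, 23], [0, 9, 4, 13, 3, 10, 16, 14, 12, 18, 15, 17, 1, 8, 19, 11, 2, 7, 6, 20, 22, 5, 21, 23]),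
  ([0, 3, 12, 1, 4, 22, 8, 7, 6, 9, 10, 20, 2, 13, 15, 14, 18, 21, 16, 19, 11, 17, 5, 23], [0, 3, 12, 1, 4, 22, 8, 7, 6, 9, 10, 20, 2, 13, 15, 14, 18, 21, 16, 19, 11, 17, 5, 23]),
  ([0, 13, 3, 9, 1, 17, 2, 15, 18, 16, 14, 5, 4, 6, 20, 19, 8, 22, 12, 11, 21, 7, 10, 23], [0, 4, 6, 2, 12, 11, 13, 21, 16, 3, 22, 19, 18, 1, 10, 7, 9, 5, 8, 15, 14, 20, 17, 23]),
  ([0, 6, 13, 16, 9, 7, 4, 20, 8, 12, 19, 10, 1, 18, 5, 11, 2, 17, 3, 21, 22, 15, 14, 23], [0, 12, 16, 18, 6, 14, 1, 5, 8, 4, 11, 15, 9, 2, 22, 21, 3, 17, 13, 10, 7, 19, 20, 23]),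
  ([0, 18, 6, 12, 16, 15, 1, 5, 2, 3, 11, 14, 9, 8, 10, 21, 4, 7, 13, 22, 17, 20, 19, 23], [0, 6, 8, 9, 16, 7, 2, 17, 13, 12, 14, 10, 3, 18, 11, 5, 4, 20, 1, 22, 21, 15, 19, 23]),
  ([0, 8, 18, 3, 12, 20, 9, 10, 4, 13, 21, 19, 16, 2, 14, 22, 1, 15, 6, 17, 7, 5, 11, 23], [0, 16, 13, 3, 8, 21, 18, 20, 1, 6, 7, 22, 4, 9, 14, 17, 12, 19, 2, 11, 5, 10, 15, 23]),
  ([0, 2, 8, 13, 3, 5, 16, 14, 1, 6, 22, 11, 12, 4, 19, 17, 9, 20, 18, 7, 15, 10, 21, 23], [0, 8, 1, 4, 13, 5, 9, 19, 2, 16, 21, 11, 12, 3, 7, 20, 6, 15, 18, 14, 17, 22, 10, 23]),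
  ([0, 4, 2, 6, 13, 10, 12, 19, 9, 18, 17, 21, 3, 1, 11, 7, 16, 5, 8, 15, 20, 14, 22, 23], [0, 13, 2, 12, 1, 17, 3, 15, 18, 8, 5, 14, 6, 4, 21, 19, 16, 10, 9, 7, 20, 11, 22, 23]),
  ([0, 1, 4, 18, 6, 14, 3, 11, 16, 8, 7, 22, 13, 9, 21, 15, 12, 10, 2, 20, 5, 19, 17, 23], [0, 1, 18, 6, 2, 20, 4, 10, 9, 13, 17, 7, 16, 12, 5, 15, 8, 22, 3, 21, 19, 14, 11, 23]),
  ([0, 9, 1, 8, 18, 19, 13, 21, 12, 2, 15, 17, 6, 16, 22, 20, 3, 14, 4, 5, 10, 11, 7, 23], [0, 2, 9, 16, 18, 19, 12, 22, 3, 1, 20, 21, 8, 6, 17, 10, 13, 11, 4, 5, 15, 7, 14, 23]),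
  ([0, 16, 9, 2, 8, 11, 6, 22, 3, 4, 20, 7, 18, 12, 17, 5, 13, 19, 1, 10, 14, 21, 15, 23], [0, 18, 3, 8, 9, 15, 6, 11, 4, 2, 19, 5, 13, 16, 20, 22, 1, 14, 12, 17, 10, 21, 7, 23]),
  ([0, 2, 12, 9, 1, 7, 13, 21, 6, 4, 14, 20, 16, 18, 5, 19, 8, 22, 3, 10, 15, 17, 11, 23], [0, 4, 1, 18, 9, 14, 8, 5, 16, 3, 19, 22, 2, 6, 10, 20, 12, 21, 13, 15, 11, 7, 17, 23]),
  ([0, 4, 3, 16, 9, 15, 6, 22, 18, 1, 19, 5, 12, 8, 10, 11, 2, 17, 13, 14, 20, 7, 21, 23], [0, 9, 16, 2, 1, 11, 6, 21, 13, 4, 14, 15, 12, 18, 19, 5, 3, 17, 8, 10, 20, 22, 7, 23]),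
  ([0, 1, 13, 12, 16, 20, 18, 17, 8, 9, 11, 10, 3, 2, 14, 21, 4, 7, 6, 19, 5, 15, 22, 23], [0, 1, 13, 12, 16, 20, 18, 17, 8, 9, 11, 10, 3, 2, 14, 21, 4, 7, 6, 19, 5, 15, 22, 23]),
  ([0, 9, 6, 3, 12, 5, 8, 7, 2, 16, 21, 14, 13, 4, 19, 22, 1, 15, 18, 11, 10, 20, 17, 23], [0, 16, 8, 3, 13, 5, 2, 7, 6, 1, 20, 19, 4, 12, 11, 17, 9, 22, 18, 14, 21, 10, 15, 23]),
  ([0, 16, 18, 13, 3, 10, 2, 15, 4, 12, 22, 19, 6, 1, 11, 17, 9, 20, 8, 21, 14, 5, 7, 23], [0, 13, 6, 4, 8, 21, 12, 22, 18, 16, 5, 14, 9, 3, 20, 7, 1, 15, 2, 11, 17, 19, 10, 23]),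
  ([0, 12, 8, 6, 13, 14, 4, 20, 1, 3, 17, 11, 18, 9, 21, 7, 16, 5, 2, 22, 19, 10, 15, 23], [0, 8, 18, 9, 6, 17, 3, 15, 2, 13, 21, 11, 1, 4, 5, 22, 16, 10, 12, 20, 7, 14, 19, 23]),
  ([0, 3, 2, 18, 6, 19, 1, 5, 9, 13, 7, 21, 8, 16, 22, 15, 12, 10, 4, 17, 11, 14, 20, 23], [0, 6, 2, 1, 18, 7, 4, 10, 12, 8, 17, 20, 16, 9, 21, 15, 13, 19, 3, 5, 22, 11, 14, 23]),
  ([0, 13, 4, 8, 18, 11, 9, 10, 16, 6, 15, 22, 2, 12, 17, 20, 3, 14, 1, 7, 21, 19, 5, 23], [0, 18, 12, 16, 2, 22, 9, 19, 3, 6, 7, 5, 13, 1, 17, 10, 8, 14, 4, 21, 15, 20, 11, 23]),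
  ([0, 6, 1, 2, 8, 21, 16, 14, 12, 18, 20, 17, 4, 3, 7, 5, 13, 19, 9, 15, 22, 11, 10, 23], [0, 2, 3, 13, 12, 15, 1, 14, 4, 18, 22, 21, 8, 16, 7, 19, 6, 11, 9, 17, 10, 5, 20, 23]),
  ([0, 18, 9, 4, 2, 22, 12, 19, 3, 8, 5, 7, 1, 13, 15, 10, 6, 11, 16, 20, 17, 21, 14, 23], [0, 12, 4, 8, 3, 10, 16, 11, 9, 2, 15, 17, 6, 13, 22, 14, 18, 20, 1, 7, 19, 21, 5, 23]),
  ([0, 8, 16, 1, 4, 17, 3, 11, 13, 2, 10, 15, 9, 6, 20, 14, 18, 21, 12, 5, 7, 22, 19, 23], [0, 3, 9, 6, 4, 19, 13, 20, 1, 12, 10, 7, 18, 8, 15, 11, 2, 5, 16, 22, 14, 17, 21, 23]),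
  ([0, 1, 9, 8, 4, 19, 13, 11, 3, 2, 10, 7, 16, 6, 14, 20, 12, 22, 18, 5, 15, 21, 17, 23], [0, 1, 9, 8, 4, 19, 13, 11, 3, 2, 10, 7, 16, 6, 14, 20, 12, 22, 18, 5, 15, 21, 17, 23]),
  ([0, 4, 1, 18, 2, 14, 3, 19, 12, 8, 5, 17, 9, 13, 10, 15, 16, 21, 6, 20, 7, 11, 22, 23], [0, 2, 4, 6, 1, 10, 18, 20, 9, 12, 14, 21, 8, 13, 5, 15, 16, 11, 3, 7, 19, 17, 22, 23]),
  ([0, 2, 4, 6, 8, 10, 12, 14, 16, 18, 20, 22, 1, 3, 5, 7, 9, 11, 13, 15, 17, 19, 21, 23], [0, 12, 1, 13, 2, 14, 3, 15, 4, 16, 5, 17, 6, 18, 7, 19, 8, 20, 9, 21, 10, 22, 11, 23]),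
  ([0, 8, 2, 13, 18, 5, 16, 10, 9, 6, 15, 21, 4, 12, 20, 17, 1, 19, 3, 7, 22, 14, 11, 23], [0, 16, 2, 18, 12, 5, 9, 19, 1, 8, 7, 22, 13, 3, 21, 10, 6, 15, 4, 17, 14, 11, 20, 23]),
  ([0, 18, 8, 3, 6, 20, 9, 5, 1, 13, 7, 11, 2, 16, 15, 22, 4, 14, 12, 17, 21, 10, 19, 23], [0, 8, 12, 3, 16, 7, 4, 10, 2, 6, 21, 11, 18, 9, 17, 14, 13, 19, 1, 22, 5, 20, 15, 23]),
  ([0, 6, 18, 12, 13, 15, 1, 20, 4, 3, 17, 19, 8, 9, 7, 21, 2, 10, 16, 22, 11, 5, 14, 23], [0, 6, 16, 9, 8, 21, 1, 14, 12, 13, 17, 20, 3, 4, 22, 5, 18, 10, 2, 11, 7, 15, 19, 23]),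
  ([0, 13, 6, 16, 3, 7, 4, 15, 2, 12, 22, 14, 18, 1, 17, 11, 8, 5, 9, 21, 19, 20, 10, 23], [0, 13, 8, 4, 6, 17, 2, 5, 16, 18, 22, 15, 9, 1, 11, 7, 3, 14, 12, 20, 21, 19, 10, 23]),
  ([0, 3, 13, 9, 12, 17, 2, 7, 8, 16, 21, 10, 6, 4, 22, 19, 18, 20, 1, 11, 14, 15, 5, 23], [0, 18, 6, 1, 13, 22, 12, 7, 8, 3, 11, 19, 4, 2, 20, 21, 9, 5, 16, 15, 17, 10, 14, 23]),
  ([0, 12, 3, 1, 16, 22, 8, 17, 18, 9, 11, 5, 13, 2, 21, 14, 6, 15, 4, 19, 10, 7, 20, 23], [0, 3, 13, 2, 18, 11, 16, 21, 6, 9, 20, 10, 1, 12, 15, 17, 4, 7, 8, 19, 22, 14, 5, 23]),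
  ([0, 16, 12, 4, 9, 21, 18, 22, 6, 1, 19, 20, 3, 8, 11, 10, 13, 7, 2, 14, 5, 17, 15, 23], [0, 9, 18, 12, 3, 20, 8, 17, 13, 4, 15, 14, 2, 16, 19, 22, 1, 21, 6, 10, 11, 5, 7, 23]),
  ([0, 9, 16, 2, 1, 11, 6, 21, 13, 4, 14, 15, 12, 18, 19, 5, 3, 17, 8, 10, 20, 22, 7, 23], [0, 4, 3, 16, 9, 15, 6, 22, 18, 1, 19, 5, 12, 8, 10, 11, 2, 17, 13, 14, 20, 7, 21, 23]),
  ([0, 16, 13, 3, 4, 21, 6, 7, 12, 18, 20, 15, 8, 2, 14, 11, 1, 19, 9, 17, 10, 5, 22, 23], [0, 16, 13, 3, 4, 21, 6, 7, 12, 18, 20, 15, 8, 2, 14, 11, 1, 19, 9, 17, 10, 5, 22, 23]),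
  ([0, 18, 4, 2, 3, 20, 1, 14, 8, 9, 11, 19, 16, 12, 17, 15, 13, 7, 6, 10, 22, 21, 5, 23], [0, 6, 3, 4, 2, 22, 18, 17, 8, 9, 19, 10, 13, 16, 7, 15, 12, 14, 1, 11, 5, 21, 20, 23]),
  ([0, 9, 3, 12, 2, 11, 13, 17, 16, 6, 15, 7, 18, 8, 10, 19, 4, 14, 1, 22, 5, 20, 21, 23], [0, 18, 4, 2, 16, 20, 9, 11, 13, 1, 14, 5, 3, 6, 17, 10, 8, 7, 12, 15, 21, 22, 19, 23]),
  ([0, 6, 2, 8, 12, 15, 4, 10, 18, 1, 19, 14, 9, 16, 22, 7, 3, 17, 13, 5, 21, 11, 20, 23], [0, 9, 2, 16, 6, 19, 1, 15, 3, 12, 7, 21, 4, 18, 11, 5, 13, 17, 8, 10, 22, 20, 14, 23]),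
  ([0, 1, 12, 16, 8, 19, 3, 22, 9, 13, 7, 17, 6, 18, 5, 14, 2, 10, 4, 21, 20, 15, 11, 23], [0, 1, 16, 6, 18, 14, 12, 10, 4, 8, 17, 22, 2, 9, 15, 21, 3, 11, 13, 5, 20, 19, 7, 23]),
  ([0, 13, 8, 18, 16, 7, 2, 5, 6, 4, 14, 10, 1, 9, 21, 17, 12, 22, 3, 20, 11, 19, 15, 23], [0, 12, 6, 18, 9, 7, 8, 5, 2, 13, 11, 20, 16, 1, 10, 22, 4, 15, 3, 21, 19, 14, 17, 23]),
  ([0, 4, 16, 9, 18, 14, 12, 21, 1, 3, 17, 22, 13, 6, 20, 10, 8, 5, 2, 11, 15, 7, 19, 23], [0, 8, 18, 9, 1, 17, 13, 21, 16, 3, 15, 19, 6, 12, 5, 20, 2, 10, 4, 22, 14, 7, 11, 23]),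
  ([0, 3, 18, 6, 9, 17, 8, 20, 13, 2, 10, 5, 4, 1, 11, 22, 16, 21, 12, 15, 19, 14, 7, 23], [0, 13, 9, 1, 12, 11, 3, 22, 6, 4, 10, 14, 18, 8, 21, 19, 16, 5, 2, 20, 7, 17, 15, 23]),
  ([0, 2, 9, 1, 6, 10, 16, 11, 4, 12, 22, 21, 3, 13, 15, 5, 18, 20, 8, 19, 7, 17, 14, 23], [0, 3, 1, 12, 8, 15, 4, 20, 18, 2, 5, 7, 9, 13, 22, 14, 6, 21, 16, 19, 17, 11, 10, 23]),
  ([0, 12, 6, 13, 1, 22, 18, 15, 3, 8, 5, 20, 2, 4, 19, 21, 9, 11, 16, 7, 14, 10, 17, 23], [0, 4, 12, 8, 13, 10, 2, 19, 9, 16, 21, 17, 1, 3, 20, 7, 18, 22, 6, 14, 11, 15, 5, 23]),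
  ([0, 8, 1, 4, 13, 5, 9, 19, 2, 16, 21, 11, 12, 3, 7, 20, 6, 15, 18, 14, 17, 22, 10, 23], [0, 2, 8, 13, 3, 5, 16, 14, 1, 6, 22, 11, 12, 4, 19, 17, 9, 20, 18, 7, 15, 10, 21, 23]),
  ([0, 3, 2, 1, 4, 17, 18, 10, 16, 13, 7, 20, 12, 9, 14, 15, 8, 5, 6, 19, 11, 22, 21, 23], [0, 3, 2, 1, 4, 17, 18, 10, 16, 13, 7, 20, 12, 9, 14, 15, 8, 5, 6, 19, 11, 22, 21, 23]),
  ([0, 1, 13, 18, 6, 19, 12, 7, 2, 9, 11, 22, 4, 8, 15, 21, 3, 17, 16, 20, 5, 14, 10, 23], [0, 1, 8, 16, 12, 20, 4, 7, 13, 9, 22, 10, 6, 2, 21, 14, 18, 17, 3, 5, 19, 15, 11, 23]),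
  ([0, 18, 9, 12, 16, 20, 4, 11, 13, 8, 5, 14, 6, 3, 21, 10, 1, 19, 2, 22, 17, 15, 7, 23], [0, 16, 18, 13, 6, 10, 12, 22, 9, 2, 15, 7, 3, 8, 11, 21, 4, 20, 1, 17, 5, 14, 19, 23]),
  ([0, 12, 8, 4, 2, 22, 6, 5, 9, 3, 17, 15, 16, 1, 10, 7, 18, 20, 13, 14, 19, 21, 11, 23], [0, 13, 4, 9, 3, 7, 6, 15, 2, 8, 14, 22, 1, 18, 19, 11, 12, 10, 16, 20, 17, 21, 5, 23]),
  ([0, 4, 3, 6, 13, 14, 16, 17, 8, 1, 19, 21, 2, 18, 7, 11, 12, 22, 9, 15, 20, 10, 5, 23], [0, 9, 12, 2, 1, 22, 3, 14, 8, 18, 21, 15, 16, 4, 5, 19, 6, 7, 13, 10, 20, 11, 17, 23]),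
  ([0, 6, 1, 16, 9, 15, 2, 19, 3, 18, 20, 10, 13, 12, 11, 5, 4, 14, 8, 21, 22, 7, 17, 23], [0, 2, 6, 8, 16, 15, 1, 21, 18, 4, 11, 14, 13, 12, 17, 5, 3, 22, 9, 7, 10, 19, 20, 23]),
  ([0, 16, 18, 2, 8, 21, 13, 20, 1, 12, 22, 7, 9, 4, 5, 17, 6, 15, 3, 10, 14, 11, 19, 23], [0, 8, 3, 18, 13, 14, 16, 11, 4, 12, 19, 21, 9, 6, 20, 17, 1, 15, 2, 22, 7, 5, 10, 23]),
  ([0, 2, 12, 13, 3, 10, 9, 22, 18, 4, 14, 11, 8, 6, 17, 19, 16, 21, 1, 7, 15, 5, 20, 23], [0, 18, 1, 4, 9, 21, 13, 19, 12, 6, 5, 11, 2, 3, 10, 20, 16, 14, 8, 15, 22, 17, 7, 23]),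
  ([0, 13, 4, 9, 1, 7, 8, 14, 12, 6, 15, 5, 3, 16, 19, 20, 2, 10, 18, 11, 21, 17, 22, 23], [0, 4, 16, 12, 2, 11, 9, 5, 6, 3, 17, 19, 8, 1, 7, 10, 13, 21, 18, 14, 15, 20, 22, 23]),
  ([0, 9, 6, 8, 18, 11, 3, 15, 4, 16, 21, 17, 1, 2, 20, 22, 13, 7, 12, 5, 10, 19, 14, 23], [0, 12, 13, 6, 8, 19, 2, 17, 3, 1, 20, 5, 18, 16, 22, 7, 9, 11, 4, 21, 14, 10, 15, 23]),
  ([0, 8, 16, 3, 12, 5, 1, 21, 6, 2, 10, 19, 18, 13, 22, 14, 9, 11, 4, 17, 7, 20, 15, 23], [0, 6, 9, 3, 18, 5, 8, 20, 1, 16, 10, 17, 4, 13, 15, 22, 2, 19, 12, 11, 21, 7, 14, 23]),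
  ([0, 8, 6, 12, 4, 5, 2, 15, 1, 9, 11, 10, 3, 18, 14, 7, 16, 21, 13, 22, 20, 17, 19, 23], [0, 8, 6, 12, 4, 5, 2, 15, 1, 9, 11, 10, 3, 18, 14, 7, 16, 21, 13, 22, 20, 17, 19, 23]),
  ([0, 13, 12, 1, 18, 7, 6, 22, 8, 2, 10, 15, 9, 3, 20, 21, 4, 14, 16, 19, 17, 11, 5, 23], [0, 3, 9, 13, 16, 22, 6, 5, 8, 12, 10, 21, 2, 1, 17, 11, 18, 20, 4, 19, 14, 15, 7, 23]),
  ([0, 16, 1, 8, 3, 21, 12, 19, 13, 6, 15, 22, 2, 9, 17, 14, 18, 20, 4, 5, 11, 10, 7, 23], [0, 2, 12, 4, 18, 19, 9, 22, 3, 13, 21, 20, 6, 8, 15, 10, 1, 14, 16, 7, 17, 5, 11, 23]),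
  ([0, 4, 8, 13, 9, 14, 1, 5, 16, 12, 22, 19, 6, 2, 11, 20, 3, 17, 18, 7, 10, 15, 21, 23], [0, 6, 13, 16, 1, 7, 12, 19, 2, 4, 20, 14, 9, 3, 5, 21, 8, 17, 18, 11, 15, 22, 10, 23]),
  ([0, 18, 13, 16, 2, 20, 8, 7, 4, 1, 19, 5, 12, 6, 10, 17, 9, 11, 3, 21, 15, 22, 14, 23], [0, 9, 4, 18, 8, 11, 13, 7, 6, 16, 14, 17, 12, 2, 22, 20, 3, 15, 1, 10, 5, 19, 21, 23]),
  ([0, 3, 16, 4, 6, 17, 13, 21, 18, 8, 5, 7, 1, 12, 15, 11, 2, 10, 9, 14, 22, 19, 20, 23], [0, 12, 16, 1, 3, 10, 4, 11, 9, 18, 17, 15, 13, 6, 19, 14, 2, 5, 8, 21, 22, 7, 20, 23]),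
  ([0, 9, 4, 18, 12, 11, 16, 14, 3, 13, 7, 21, 8, 1, 22, 10, 6, 15, 2, 20, 19, 5, 17, 23], [0, 13, 18, 8, 2, 21, 16, 10, 12, 1, 15, 5, 4, 9, 7, 17, 6, 22, 3, 20, 19, 11, 14, 23]),
  ([0, 2, 18, 3, 1, 10, 4, 20, 9, 16, 21, 14, 13, 8, 19, 15, 12, 22, 6, 17, 5, 7, 11, 23], [0, 4, 1, 3, 6, 20, 18, 21, 13, 8, 5, 22, 16, 12, 11, 15, 9, 19, 2, 14, 7, 10, 17, 23]),
  ([0, 6, 3, 9, 8, 15, 18, 17, 2, 4, 14, 20, 16, 13, 5, 22, 1, 19, 12, 11, 7, 21, 10, 23], [0, 16, 8, 2, 9, 14, 1, 20, 4, 3, 22, 19, 18, 13, 10, 5, 12, 7, 6, 17, 11, 21, 15, 23]),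
  ([0, 12, 9, 2, 13, 22, 3, 11, 6, 18, 20, 17, 4, 16, 7, 19, 8, 5, 1, 10, 21, 14, 15, 23], [0, 18, 3, 6, 12, 17, 8, 14, 16, 2, 19, 7, 1, 4, 21, 22, 13, 11, 9, 15, 10, 20, 5, 23]),
  ([0, 1, 2, 6, 16, 19, 9, 10, 12, 3, 17, 11, 18, 4, 21, 5, 13, 7, 8, 15, 14, 20, 22, 23], [0, 1, 2, 9, 13, 15, 3, 17, 18, 6, 7, 11, 8, 16, 20, 19, 4, 10, 12, 5, 21, 14, 22, 23]),
  ([0, 12, 18, 16, 4, 22, 9, 20, 8, 6, 15, 11, 1, 13, 14, 10, 3, 17, 2, 21, 7, 19, 5, 23], [0, 12, 18, 16, 4, 22, 9, 20, 8, 6, 15, 11, 1, 13, 14, 10, 3, 17, 2, 21, 7, 19, 5, 23]),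
  ([0, 13, 2, 3, 9, 7, 12, 10, 4, 8, 5, 22, 16, 18, 11, 19, 6, 15, 1, 17, 20, 21, 14, 23], [0, 18, 2, 3, 8, 10, 16, 5, 9, 4, 7, 14, 6, 1, 22, 17, 12, 19, 13, 15, 20, 21, 11, 23]),
  ([0, 18, 1, 6, 12, 20, 13, 19, 9, 4, 14, 7, 3, 2, 22, 21, 8, 5, 16, 15, 10, 17, 11, 23], [0, 2, 13, 12, 9, 17, 3, 11, 16, 8, 20, 22, 4, 6, 10, 19, 18, 21, 1, 7, 5, 15, 14, 23]),
  ([0, 2, 16, 8, 13, 10, 18, 21, 12, 9, 11, 20, 6, 1, 7, 17, 4, 14, 3, 5, 19, 15, 22, 23], [0, 13, 1, 18, 16, 19, 12, 14, 3, 9, 5, 10, 8, 4, 17, 21, 2, 15, 6, 20, 11, 7, 22, 23]),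
  ([0, 1, 3, 4, 18, 19, 2, 17, 13, 12, 22, 10, 8, 16, 20, 15, 9, 11, 6, 14, 21, 5, 7, 23], [0, 1, 6, 2, 3, 21, 18, 22, 12, 16, 11, 17, 9, 8, 19, 15, 13, 7, 4, 5, 14, 20, 10, 23]),
  ([0, 16, 6, 9, 2, 21, 1, 15, 18, 13, 7, 19, 4, 3, 10, 5, 12, 22, 8, 11, 17, 14, 20, 23], [0, 6, 4, 13, 12, 15, 2, 10, 18, 3, 14, 19, 16, 9, 21, 7, 1, 20, 8, 11, 22, 5, 17, 23]),
  ([0, 3, 8, 12, 1, 17, 16, 5, 2, 18, 20, 21, 9, 6, 19, 14, 13, 7, 4, 22, 15, 11, 10, 23], [0, 4, 8, 1, 18, 7, 13, 17, 2, 12, 22, 21, 3, 16, 15, 20, 6, 5, 9, 14, 10, 11, 19, 23]),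
  ([0, 6, 4, 13, 16, 15, 3, 14, 1, 2, 10, 17, 12, 8, 21, 11, 18, 20, 9, 7, 5, 22, 19, 23], [0, 8, 9, 6, 2, 20, 1, 19, 13, 18, 10, 15, 12, 3, 7, 5, 4, 11, 16, 22, 17, 14, 21, 23]),
  ([0, 8, 9, 18, 3, 5, 6, 11, 16, 1, 19, 15, 13, 4, 17, 22, 2, 10, 12, 20, 14, 7, 21, 23], [0, 9, 16, 4, 13, 5, 6, 21, 1, 2, 17, 7, 18, 12, 20, 11, 8, 14, 3, 10, 19, 22, 15, 23]),
  ([0, 4, 12, 2, 6, 14, 8, 22, 3, 16, 21, 5, 18, 9, 15, 7, 1, 19, 13, 10, 11, 20, 17, 23], [0, 16, 3, 8, 1, 11, 4, 15, 6, 13, 19, 20, 2, 18, 5, 14, 9, 22, 12, 17, 21, 10, 7, 23]),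
  ([0, 9, 13, 1, 8, 11, 4, 7, 6, 3, 17, 14, 2, 12, 5, 20, 16, 21, 18, 19, 22, 10, 15, 23], [0, 3, 12, 9, 6, 14, 8, 7, 4, 1, 21, 5, 13, 2, 11, 22, 16, 10, 18, 19, 15, 17, 20, 23]),
  ([0, 12, 18, 16, 4, 22, 9, 20, 8, 6, 15, 11, 1, 13, 14, 10, 3, 17, 2, 21, 7, 19, 5, 23], [0, 12, 18, 16, 4, 22, 9, 20, 8, 6, 15, 11, 1, 13, 14, 10, 3, 17, 2, 21, 7, 19, 5, 23]),
  ([0, 9, 13, 1, 8, 11, 4, 7, 6, 3, 17, 14, 2, 12, 5, 20, 16, 21, 18, 19, 22, 10, 15, 23], [0, 3, 12, 9, 6, 14, 8, 7, 4, 1, 21, 5, 13, 2, 11, 22, 16, 10, 18, 19, 15, 17, 20, 23]),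
  ([0, 4, 12, 2, 6, 14, 8, 22, 3, 16, 21, 5, 18, 9, 15, 7, 1, 19, 13, 10, 11, 20, 17, 23], [0, 16, 3, 8, 1, 11, 4, 15, 6, 13, 19, 20, 2, 18, 5, 14, 9, 22, 12, 17, 21, 10, 7, 23]),
  ([0, 8, 9, 18, 3, 5, 6, 11, 16, 1, 19, 15, 13, 4, 17, 22, 2, 10, 12, 20, 14, 7, 21, 23], [0, 9, 16, 4, 13, 5, 6, 21, 1, 2, 17, 7, 18, 12, 20, 11, 8, 14, 3, 10, 19, 22, 15, 23]),
  ([0, 6, 4, 13, 16, 15, 3, 14, 1, 2, 10, 17, 12, 8, 21, 11, 18, 20, 9, 7, 5, 22, 19, 23], [0, 8, 9, 6, 2, 20, 1, 19, 13, 18, 10, 15, 12, 3, 7, 5, 4, 11, 16, 22, 17, 14, 21, 23]),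
  ([0, 3, 8, 12, 1, 17, 16, 5, 2, 18, 20, 21, 9, 6, 19, 14, 13, 7, 4, 22, 15, 11, 10, 23], [0, 4, 8, 1, 18, 7, 13, 17, 2, 12, 22, 21, 3, 16, 15, 20, 6, 5, 9, 14, 10, 11, 19, 23]),
  ([0, 16, 6, 9, 2, 21, 1, 15, 18, 13, 7, 19, 4, 3, 10, 5, 12, 22, 8, 11, 17, 14, 20, 23], [0, 6, 4, 13, 12, 15, 2, 10, 18, 3, 14, 19, 16, 9, 21, 7, 1, 20, 8, 11, 22, 5, 17, 23]),
  ([0, 1, 3, 4, 18, 19, 2, 17, 13, 12, 22, 10, 8, 16, 20, 15, 9, 11, 6, 14, 21, 5, 7, 23], [0, 1, 6, 2, 3, 21, 18, 22, 12, 16, 11, 17, 9, 8, 19, 15, 13, 7, 4, 5, 14, 20, 10, 23]),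
  ([0, 2, 16, 8, 13, 10, 18, 21, 12, 9, 11, 20, 6, 1, 7, 17, 4, 14, 3, 5, 19, 15, 22, 23], [0, 13, 1, 18, 16, 19, 12, 14, 3, 9, 5, 10, 8, 4, 17, 21, 2, 15, 6, 20, 11, 7, 22, 23]),
  ([0, 18, 1, 6, 12, 20, 13, 19, 9, 4, 14, 7, 3, 2, 22, 21, 8, 5, 16, 15, 10, 17, 11, 23], [0, 2, 13, 12, 9, 17, 3, 11, 16, 8, 20, 22, 4, 6, 10, 19, 18, 21, 1, 7, 5, 15, 14, 23]),
  ([0, 13, 2, 3, 9, 7, 12, 10, 4, 8, 5, 22, 16, 18, 11, 19, 6, 15, 1, 17, 20, 21, 14, 23], [0, 18, 2, 3, 8, 10, 16, 5, 9, 4, 7, 14, 6, 1, 22, 17, 12, 19, 13, 15, 20, 21, 11, 23]),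
  ([0, 8, 6, 12, 4, 5, 2, 15, 1, 9, 11, 10, 3, 18, 14, 7, 16, 21, 13, 22, 20, 17, 19, 23], [0, 8, 6, 12, 4, 5, 2, 15, 1, 9, 11, 10, 3, 18, 14, 7, 16, 21, 13, 22, 20, 17, 19, 23]),
  ([0, 1, 2, 6, 16, 19, 9, 10, 12, 3, 17, 11, 18, 4, 21, 5, 13, 7, 8, 15, 14, 20, 22, 23], [0, 1, 2, 9, 13, 15, 3, 17, 18, 6, 7, 11, 8, 16, 20, 19, 4, 10, 12, 5, 21, 14, 22, 23]),
  ([0, 12, 9, 2, 13, 22, 3, 11, 6, 18, 20, 17, 4, 16, 7, 19, 8, 5, 1, 10, 21, 14, 15, 23], [0, 18, 3, 6, 12, 17, 8, 14, 16, 2, 19, 7, 1, 4, 21, 22, 13, 11, 9, 15, 10, 20, 5, 23]),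
  ([0, 6, 3, 9, 8, 15, 18, 17, 2, 4, 14, 20, 16, 13, 5, 22, 1, 19, 12, 11, 7, 21, 10, 23], [0, 16, 8, 2, 9, 14, 1, 20, 4, 3, 22, 19, 18, 13, 10, 5, 12, 7, 6, 17, 11, 21, 15, 23]),
  ([0, 2, 18, 3, 1, 10, 4, 20, 9, 16, 21, 14, 13, 8, 19, 15, 12, 22, 6, 17, 5, 7, 11, 23], [0, 4, 1, 3, 6, 20, 18, 21, 13, 8, 5, 22, 16, 12, 11, 15, 9, 19, 2, 14, 7, 10, 17, 23]),
  ([0, 9, 4, 18, 12, 11, 16, 14, 3, 13, 7, 21, 8, 1, 22, 10, 6, 15, 2, 20, 19, 5, 17, 23], [0, 13, 18, 8, 2, 21, 16, 10, 12, 1, 15, 5, 4, 9, 7, 17, 6, 22, 3, 20, 19, 11, 14, 23]),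
  ([0, 3, 16, 4, 6, 17, 13, 21, 18, 8, 5, 7, 1, 12, 15, 11, 2, 10, 9, 14, 22, 19, 20, 23], [0, 12, 16, 1, 3, 10, 4, 11, 9, 18, 17, 15, 13, 6, 19, 14, 2, 5, 8, 21, 22, 7, 20, 23]),
  ([0, 18, 13, 16, 2, 20, 8, 7, 4, 1, 19, 5, 12, 6, 10, 17, 9, 11, 3, 21, 15, 22, 14, 23], [0, 9, 4, 18, 8, 11, 13, 7, 6, 16, 14, 17, 12, 2, 22, 20, 3, 15, 1, 10, 5, 19, 21, 23]),
  ([0, 4, 8, 13, 9, 14, 1, 5, 16, 12, 22, 19, 6, 2, 11, 20, 3, 17, 18, 7, 10, 15, 21, 23], [0, 6, 13, 16, 1, 7, 12, 19, 2, 4, 20, 14, 9, 3, 5, 21, 8, 17, 18, 11, 15, 22, 10, 23]),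
  ([0, 16, 1, 8, 3, 21, 12, 19, 13, 6, 15, 22, 2, 9, 17, 14, 18, 20, 4, 5, 11, 10, 7, 23], [0, 2, 12, 4, 18, 19, 9, 22, 3, 13, 21, 20, 6, 8, 15, 10, 1, 14, 16, 7, 17, 5, 11, 23]),
  ([0, 13, 12, 1, 18, 7, 6, 22, 8, 2, 10, 15, 9, 3, 20, 21, 4, 14, 16, 19, 17, 11, 5, 23], [0, 3, 9, 13, 16, 22, 6, 5, 8, 12, 10, 21, 2, 1, 17, 11, 18, 20, 4, 19, 14, 15, 7, 23]),
  ([0, 3, 2, 1, 4, 17, 18, 10, 16, 13, 7, 20, 12, 9, 14, 15, 8, 5, 6, 19, 11, 22, 21, 23], [0, 3, 2, 1, 4, 17, 18, 10, 16, 13, 7, 20, 12, 9, 14, 15, 8, 5, 6, 19, 11, 22, 21, 23]),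
  ([0, 8, 16, 3, 12, 5, 1, 21, 6, 2, 10, 19, 18, 13, 22, 14, 9, 11, 4, 17, 7, 20, 15, 23], [0, 6, 9, 3, 18, 5, 8, 20, 1, 16, 10, 17, 4, 13, 15, 22, 2, 19, 12, 11, 21, 7, 14, 23]),
  ([0, 9, 6, 8, 18, 11, 3, 15, 4, 16, 21, 17, 1, 2, 20, 22, 13, 7, 12, 5, 10, 19, 14, 23], [0, 12, 13, 6, 8, 19, 2, 17, 3, 1, 20, 5, 18, 16, 22, 7, 9, 11, 4, 21, 14, 10, 15, 23]),
  ([0, 13, 4, 9, 1, 7, 8, 14, 12, 6, 15, 5, 3, 16, 19, 20, 2, 10, 18, 11, 21, 17, 22, 23], [0, 4, 16, 12, 2, 11, 9, 5, 6, 3, 17, 19, 8, 1, 7, 10, 13, 21, 18, 14, 15, 20, 22, 23]),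
  ([0, 2, 12, 13, 3, 10, 9, 22, 18, 4, 14, 11, 8, 6, 17, 19, 16, 21, 1, 7, 15, 5, 20, 23], [0, 18, 1, 4, 9, 21, 13, 19, 12, 6, 5, 11, 2, 3, 10, 20, 16, 14, 8, 15, 22, 17, 7, 23]),
  ([0, 16, 18, 2, 8, 21, 13, 20, 1, 12, 22, 7, 9, 4, 5, 17, 6, 15, 3, 10, 14, 11, 19, 23], [0, 8, 3, 18, 13, 14, 16, 11, 4, 12, 19, 21, 9, 6, 20, 17, 1, 15, 2, 22, 7, 5, 10, 23]),
  ([0, 6, 1, 16, 9, 15, 2, 19, 3, 18, 20, 10, 13, 12, 11, 5, 4, 14, 8, 21, 22, 7, 17, 23], [0, 2, 6, 8, 16, 15, 1, 21, 18, 4, 11, 14, 13, 12, 17, 5, 3, 22, 9, 7, 10, 19, 20, 23]),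
  ([0, 4, 3, 6, 13, 14, 16, 17, 8, 1, 19, 21, 2, 18, 7, 11, 12, 22, 9, 15, 20, 10, 5, 23], [0, 9, 12, 2, 1, 22, 3, 14, 8, 18, 21, 15, 16, 4, 5, 19, 6, 7, 13, 10, 20, 11, 17, 23]),
  ([0, 12, 8, 4, 2, 22, 6, 5, 9, 3, 17, 15, 16, 1, 10, 7, 18, 20, 13, 14, 19, 21, 11, 23], [0, 13, 4, 9, 3, 7, 6, 15, 2, 8, 14, 22, 1, 18, 19, 11, 12, 10, 16, 20, 17, 21, 5, 23]),
  ([0, 18, 9, 12, 16, 20, 4, 11, 13, 8, 5, 14, 6, 3, 21, 10, 1, 19, 2, 22, 17, 15, 7, 23], [0, 16, 18, 13, 6, 10, 12, 22, 9, 2, 15, 7, 3, 8, 11, 21, 4, 20, 1, 17, 5, 14, 19, 23]),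
  ([0, 1, 13, 18, 6, 19, 12, 7, 2, 9, 11, 22, 4, 8, 15, 21, 3, 17, 16, 20, 5, 14, 10, 23], [0, 1, 8, 16, 12, 20, 4, 7, 13, 9, 22, 10, 6, 2, 21, 14, 18, 17, 3, 5, 19, 15, 11, 23]),
  ([0, 16, 13, 3, 4, 21, 6, 7, 12, 18, 20, 15, 8, 2, 14, 11, 1, 19, 9, 17, 10, 5, 22, 23], [0, 16, 13, 3, 4, 21, 6, 7, 12, 18, 20, 15, 8, 2, 14, 11, 1, 19, 9, 17, 10, 5, 22, 23]),
  ([0, 8, 1, 4, 13, 5, 9, 19, 2, 16, 21, 11, 12, 3, 7, 20, 6, 15, 18, 14, 17, 22, 10, 23], [0, 2, 8, 13, 3, 5, 16, 14, 1, 6, 22, 11, 12, 4, 19, 17, 9, 20, 18, 7, 15, 10, 21, 23]),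
  ([0, 12, 6, 13, 1, 22, 18, 15, 3, 8, 5, 20, 2, 4, 19, 21, 9, 11, 16, 7, 14, 10, 17, 23], [0, 4, 12, 8, 13, 10, 2, 19, 9, 16, 21, 17, 1, 3, 20, 7, 18, 22, 6, 14, 11, 15, 5, 23]),
  ([0, 2, 9, 1, 6, 10, 16, 11, 4, 12, 22, 21, 3, 13, 15, 5, 18, 20, 8, 19, 7, 17, 14, 23], [0, 3, 1, 12, 8, 15, 4, 20, 18, 2, 5, 7, 9, 13, 22, 14, 6, 21, 16, 19, 17, 11, 10, 23]),
  ([0, 3, 18, 6, 9, 17, 8, 20, 13, 2, 10, 5, 4, 1, 11, 22, 16, 21, 12, 15, 19, 14, 7, 23], [0, 13, 9, 1, 12, 11, 3, 22, 6, 4, 10, 14, 18, 8, 21, 19, 16, 5, 2, 20, 7, 17, 15, 23]),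
  ([0, 4, 16, 9, 18, 14, 12, 21, 1, 3, 17, 22, 13, 6, 20, 10, 8, 5, 2, 11, 15, 7, 19, 23], [0, 8, 18, 9, 1, 17, 13, 21, 16, 3, 15, 19, 6, 12, 5, 20, 2, 10, 4, 22, 14, 7, 11, 23]),
  ([0, 13, 8, 18, 16, 7, 2, 5, 6, 4, 14, 10, 1, 9, 21, 17, 12, 22, 3, 20, 11, 19, 15, 23], [0, 12, 6, 18, 9, 7, 8, 5, 2, 13, 11, 20, 16, 1, 10, 22, 4, 15, 3, 21, 19, 14, 17, 23]),
  ([0, 1, 12, 16, 8, 19, 3, 22, 9, 13, 7, 17, 6, 18, 5, 14, 2, 10, 4, 21, 20, 15, 11, 23], [0, 1, 16, 6, 18, 14, 12, 10, 4, 8, 17, 22, 2, 9, 15, 21, 3, 11, 13, 5, 20, 19, 7, 23]),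
  ([0, 6, 2, 8, 12, 15, 4, 10, 18, 1, 19, 14, 9, 16, 22, 7, 3, 17, 13, 5, 21, 11, 20, 23], [0, 9, 2, 16, 6, 19, 1, 15, 3, 12, 7, 21, 4, 18, 11, 5, 13, 17, 8, 10, 22, 20, 14, 23]),
  ([0, 9, 3, 12, 2, 11, 13, 17, 16, 6, 15, 7, 18, 8, 10, 19, 4, 14, 1, 22, 5, 20, 21, 23], [0, 18, 4, 2, 16, 20, 9, 11, 13, 1, 14, 5, 3, 6, 17, 10, 8, 7, 12, 15, 21, 22, 19, 23]),
  ([0, 18, 4, 2, 3, 20, 1, 14, 8, 9, 11, 19, 16, 12, 17, 15, 13, 7, 6, 10, 22, 21, 5, 23], [0, 6, 3, 4, 2, 22, 18, 17, 8, 9, 19, 10, 13, 16, 7, 15, 12, 14, 1, 11, 5, 21, 20, 23]),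
  ([0, 1, 9, 8, 4, 19, 13, 11, 3, 2, 10, 7, 16, 6, 14, 20, 12, 22, 18, 5, 15, 21, 17, 23], [0, 1, 9, 8, 4, 19, 13, 11, 3, 2, 10, 7, 16, 6, 14, 20, 12, 22, 18, 5, 15, 21, 17, 23]),
  ([0, 9, 16, 2, 1, 11, 6, 21, 13, 4, 14, 15, 12, 18, 19, 5, 3, 17, 8, 10, 20, 22, 7, 23], [0, 4, 3, 16, 9, 15, 6, 22, 18, 1, 19, 5, 12, 8, 10, 11, 2, 17, 13, 14, 20, 7, 21, 23]),
  ([0, 16, 12, 4, 9, 21, 18, 22, 6, 1, 19, 20, 3, 8, 11, 10, 13, 7, 2, 14, 5, 17, 15, 23], [0, 9, 18, 12, 3, 20, 8, 17, 13, 4, 15, 14, 2, 16, 19, 22, 1, 21, 6, 10, 11, 5, 7, 23]),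
  ([0, 12, 3, 1, 16, 22, 8, 17, 18, 9, 11, 5, 13, 2, 21, 14, 6, 15, 4, 19, 10, 7, 20, 23], [0, 3, 13, 2, 18, 11, 16, 21, 6, 9, 20, 10, 1, 12, 15, 17, 4, 7, 8, 19, 22, 14, 5, 23]),
  ([0, 3, 13, 9, 12, 17, 2, 7, 8, 16, 21, 10, 6, 4, 22, 19, 18, 20, 1, 11, 14, 15, 5, 23], [0, 18, 6, 1, 13, 22, 12, 7, 8, 3, 11, 19, 4, 2, 20, 21, 9, 5, 16, 15, 17, 10, 14, 23]),
  ([0, 13, 6, 16, 3, 7, 4, 15, 2, 12, 22, 14, 18, 1, 17, 11, 8, 5, 9, 21, 19, 20, 10, 23], [0, 13, 8, 4, 6, 17, 2, 5, 16, 18, 22, 15, 9, 1, 11, 7, 3, 14, 12, 20, 21, 19, 10, 23]),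
  ([0, 6, 18, 12, 13, 15, 1, 20, 4, 3, 17, 19, 8, 9, 7, 21, 2, 10, 16, 22, 11, 5, 14, 23], [0, 6, 16, 9, 8, 21, 1, 14, 12, 13, 17, 20, 3, 4, 22, 5, 18, 10, 2, 11, 7, 15, 19, 23]),
  ([0, 18, 8, 3, 6, 20, 9, 5, 1, 13, 7, 11, 2, 16, 15, 22, 4, 14, 12, 17, 21, 10, 19, 23], [0, 8, 12, 3, 16, 7, 4, 10, 2, 6, 21, 11, 18, 9, 17, 14, 13, 19, 1, 22, 5, 20, 15, 23]),
  ([0, 8, 2, 13, 18, 5, 16, 10, 9, 6, 15, 21, 4, 12, 20, 17, 1, 19, 3, 7, 22, 14, 11, 23], [0, 16, 2, 18, 12, 5, 9, 19, 1, 8, 7, 22, 13, 3, 21, 10, 6, 15, 4, 17, 14, 11, 20, 23]),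
  ([0, 2, 4, 6, 8, 10, 12, 14, 16, 18, 20, 22, 1, 3, 5, 7, 9, 11, 13, 15, 17, 19, 21, 23], [0, 12, 1, 13, 2, 14, 3, 15, 4, 16, 5, 17, 6, 18, 7, 19, 8, 20, 9, 21, 10, 22, 11, 23]),
  ([0, 4, 1, 18, 2, 14, 3, 19, 12, 8, 5, 17, 9, 13, 10, 15, 16, 21, 6, 20, 7, 11, 22, 23], [0, 2, 4, 6, 1, 10, 18, 20, 9, 12, 14, 21, 8, 13, 5, 15, 16, 11, 3, 7, 19, 17, 22, 23])]

/-- words in the two generators -/
def slW : List (List Bool) := [
  [],
  [false, true, false, true, true],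
  [false, true, false, false, true, false],
  [false, true, false, false, true, false, false, true, false, true, true],
  [true, false, false, false, false, false, false, false, true, true, true],
  [true, false, false, false, false, false, false, true, true, true],
  [true, false, false, false, false, false, true, true, true],
  [true, false, false, false, false, true, true, true],
  [true, false, false, false, true, true, true],
  [true, false, false, true, true, true],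
  [true, false, true, true, true],
  [false],
  [false, true, false, false, true, true],
  [false, true, false, false, true, false, false],
  [false, true, false, false, true, false, false, true, false, false, true, true],
  [true, false, false, false, false, false, false, false, true, false, true, true],
  [true, false, false, false, false, false, false, true, false, true, true],
  [true, false, false, false, false, false, true, false, true, true],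
  [true, false, false, false, false, true, false, true, true],
  [true, false, false, false, true, false, true, true],
  [true, false, false, true, false, true, true],
  [true, false, true, false, true, true],
  [false, false],
  [false, true, false, false, false, true, true],
  [false, true, false, false, true, false, false, false],
  [false, true, false, false, true, false, false, true, false, false, false, true, true],
  [true, false, false, false, false, false, false, false, true, false, false, true, true],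
  [true, false, false, false, false, false, false, true, false, false, true, true],
  [true, false, false, false, false, false, true, false, false, true, true],
  [true, false, false, false, false, true, false, false, true, true],
  [true, false, false, false, true, false, false, true, true],
  [true, false, false, true, false, false, true, true],
  [true, false, true, false, false, true, true],
  [false, false, false],
  [false, true, false, false, false, false, true, true],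
  [false, true, false, false, true, false, false, false, false],
  [false, false, false, false, false, false, false, false, true, false, false, false, true],
  [false, false, true, false, false, true, false, false, false, false, true],
  [true, false, false, false, false, false, false, true, false, false, false, true, true],
  [true, false, false, false, false, false, true, false, false, false, true, true],
  [true, false, false, false, false, true, false, false, false, true, true],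
  [true, false, false, false, true, false, false, false, true, true],
  [true, false, false, true, false, false, false, true, true],
  [true, false, true, false, false, false, true, true],
  [false, false, false, false],
  [false, true, false, false, false, false, false, true, true],
  [false, true, false, false, true, false, false, false, false, false],
  [false, false, false, false, false, false, false, false, true, false, false, false, true, false],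
  [false, false, true, false, false, true, false, false, false, false, true, false],
  [false, false, false, false, false, false, false, true, false, false, false, false, false, true],
  [true, false, false, false, false, false, true, false, false, false, false, true, true],
  [true, false, false, false, false, true, false, false, false, false, true, true],
  [true, false, false, false, true, false, false, false, false, true, true],
  [true, false, false, true, false, false, false, false, true, true],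
  [true, false, true, false, false, false, false, true, true],
  [false, false, false, false, false],
  [false, true, false, false, false, false, false, false, true, true],
  [false, true, false, false, true, false, false, false, false, false, false],
  [false, false, false, false, false, false, false, false, true, false, false, false, true, false, false],
  [false, false, false, false, false, false, true, false, false, false, false, true],
  [false, false, false, true, false, false, true, false, false, false, false, true, false, true],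
  [true, false, false, false, false, false, true, false, false, false, false, false, true, true],
  [true, false, false, false, false, true, false, false, false, false, false, true, true],
  [true, false, false, false, true, false, false, false, false, false, true, true],
  [true, false, false, true, false, false, false, false, false, true, true],
  [true, false, true, false, false, false, false, false, true, true],
  [false, false, false, false, false, false],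
  [false, true, false, false, false, false, false, false, false, true, true],
  [false, true, false, false, true, false, false, false, false, false, false, false],
  [false, false, true, false, false, false, true, false, false, false, false, false, true, true, true],
  [false, false, false, false, false, false, true, false, false, false, false, true, false],
  [false, false, false, true, false, false, true, false, false, false, true, true, true],
  [false, true, false, false, false, false, true, false, false, true, false, false, false, true],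
  [false, false, false, false, false, true, false, false, false, false, false, false, false, true],
  [true, false, false, false, true, false, false, false, false, false, false, true, true],
  [true, false, false, true, false, false, false, false, false, false, true, true],
  [true, false, true, false, false, false, false, false, false, true, true],
  [false, false, false, false, false, false, false],
  [false, false, true, false, false, true, false, false, true, false, true],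
  [false, true, false, false, true, false, false, false, false, false, false, false, false],
  [false, false, true, false, false, false, true, false, false, false, false, false, true, false, true, true],
  [false, false, false, false, false, false, true, false, false, false, false, true, false, false],
  [false, false, false, true, false, false, true, false, false, false, true, false, true, true],
  [false, false, false, false, true, false, false, false, false, false, false, true],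
  [false, false, false, false, false, true, false, false, false, false, false, false, false, true, false],
  [false, false, false, false, true, false, false, true, false, false, true],
  [true, false, false, true, false, false, false, false, false, false, false, true, true],
  [true, false, true, false, false, false, false, false, false, false, true, true],
  [false, false, false, false, false, false, false, false],
  [false, false, true, false, false, true, false, true, true, true],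
  [false, true, false, false, false, true, false, false, true, false, true],
  [false, false, false, true, false, false, false, true, false, false, false, true],
  [false, false, false, false, false, false, true, false, false, false, false, true, false, false, false],
  [false, false, false, false, false, true, false, false, false, true, false, false, true, true, true],
  [false, false, false, false, true, false, false, false, false, false, false, true, false],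
  [true, false, false, false, false, false, true, false, false, true, false, false, true, false, true],
  [false, false, false, false, true, false, false, true, false, false, true, false],
  [true, false, false, false, true, false, false, true, false, false, true, false, true],
  [true, false, false, true, false, false, true, false, false, true, false, true],
  [false, false, false, false, false, false, false, false, false],
  [false, false, true, false, true],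
  [false, true, false, false, false, true, false, true, true, true],
  [false, true, false, false, true, false, false, false, true, false, true],
  [false, false, false, false, false, false, true, false, false, false, false, true, false, false, false, false],
  [false, false, true, false, false, true, false, false, false, false, false, true, false, false, true],
  [false, false, false, false, true, false, false, false, false, false, false, true, false, false],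
  [true, false, false, false, false, false, true, false, false, true, false, true, true, true],
  [false, false, false, false, true, false, false, true, false, false, true, false, false],
  [true, false, false, false, true, false, false, true, false, true, true, true],
  [true, false, false, true, false, false, true, false, true, true, true],
  [true, false, true, false, true],
  [false, true, true, true],
  [false, true, false, false, true],
  [false, true, false, false, true, false, false, true, true, true],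
  [false, true, false, false, true, false, false, true, false, false, true],
  [true, false, false, false, false, false, false, false, true, false, true],
  [true, false, false, false, false, false, false, true, false, true],
  [true, false, false, false, false, false, true, false, true],
  [true, false, false, false, false, true, false, true],
  [true, false, false, false, true, false, true],
  [true, false, false, true, false, true],
  [false, false, true, false, false, false, false, false, false, true, false, false, true],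
  [false, false, true, false, false, false, false, false, false, true, true],
  [false, false, false, false, true, false, false, true, false, false, false, false, false, true, false, false],
  [false, true, false, false, false, true, false, false, false, false, false, false],
  [false, false, false, false, false, true, false, false, true, false, false, false, false, true, false],
  [false, false, true, false, false, false, false, false, false, true, false, false, false, true],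
  [false, false, true, false, false, false, false, false, false, true, false, true],
  [false, false, true, false, false, false, false, false, false, false, true, false],
  [true, false, false, true, false, false, true, false, false, false, false, false, false],
  [false, false, false, false, false, true, false, false, true, false, false, false, true, true],
  [true, false, true, false, false, true, false, false, false, false, false, false],
  [true, false, false, false, false, false, false, true, false, false, true, false],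
  [false, false, true, false, true, true],
  [true, false, false, false, false, false, true, false, false, true, false],
  [false, true, false, false, false, true, false],
  [true, false, false, false, false, true, false, false, true, false],
  [false, true, false, false, true, false, false, false, true, false, true, true],
  [true, false, false, false, true, false, false, true, false],
  [false, true, false, false, true, false, false, true, false, false, false, true, false],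
  [true, false, false, true, false, false, true, false],
  [true, false, false, false, false, false, false, false, true, false, false, true, false],
  [true, false, true, false, false, true, false],
  [false, false, true, false, false, false, false, false, false, true, false, false, true, false],
  [false, false, true, false, false, false, false, false, false, false, true, true],
  [true, false, false, true, false, false, true, false, false, false, false, false, true],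
  [false, true, false, false, false, true, false, false, false, false, false, false, false],
  [true, false, true, false, false, true, false, false, false, false, false, true],
  [false, false, true, false, false, false, false, false, false, true, false, false, false, true, false],
  [false, false, true, false, false, false, false, false, true, true, true],
  [false, false, true, false, false, false, false, false, false, false, true, false, false],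
  [false, true, false, false, false, true, false, false, false, false, false, true],
  [false, false, false, false, false, true, false, false, true, false, false, false, false, true, true],
  [true, false, true, false, false, true, false, false, false, false, false, false, false],
  [true, false, false, false, false, false, false, true, false, false, true, false, false],
  [false, false, true, false, false, true, true],
  [true, false, false, false, false, false, true, false, false, true, false, false],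
  [false, true, false, false, false, true, false, false],
  [true, false, false, false, false, true, false, false, true, false, false],
  [false, false, false, true, false, false, false, true, false, false, true, true, true],
  [true, false, false, false, true, false, false, true, false, false],
  [false, true, false, false, false, false, true, false, false, false, true, false, false, true],
  [true, false, false, true, false, false, true, false, false],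
  [false, false, false, false, false, true, false, false, false, true, false, true],
  [true, false, true, false, false, true, false, false],
  [false, false, true, false, false, false, false, false, false, true, false, false, true, false, false],
  [false, false, false, true, false, false, true, false, false, true, false, true],
  [false, false, false, false, false, false, false, true, false, false, true],
  [false, true, false, false, false, true, false, false, false, false, false, false, false, false],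
  [true, false, true, false, false, true, false, false, false, false, false, true, false],
  [false, false, true, false, false, false, false, false, false, true, false, false, false, true, false, false],
  [false, false, true, false, false, false, false, false, true, false, true, true],
  [false, false, true, false, false, false, false, false, false, false, true, false, false, false],
  [false, true, false, false, false, true, false, false, false, false, false, true, false],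
  [false, false, false, false, false, true, false, false, true, false, false, false, false, false, true, true],
  [true, false, true, false, false, true, false, false, false, false, false, false, false, false],
  [false, true, false, false, false, false, false, false, true, false, false, true],
  [false, false, true, false, false, false, true, true],
  [true, false, false, false, false, false, true, false, false, true, false, false, false],
  [false, true, false, false, false, true, false, false, false],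
  [true, false, false, false, false, true, false, false, true, false, false, false],
  [true, false, false, true, false, false, false, false, false, true, false, false, true],
  [true, false, false, false, true, false, false, true, false, false, false],
  [true, false, true, false, false, false, false, false, true, false, false, true],
  [true, false, false, true, false, false, true, false, false, false],
  [false, false, false, false, false, true, false, false, true, true, true],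
  [true, false, true, false, false, true, false, false, false],
  [false, false, false, true, false, false, false, false, false, false, true, false, false, true],
  [false, false, false, true, false, false, true, false, true, true, true],
  [false, false, false, false, false, false, false, true, false, false, true, false],
  [false, true, false, false, false, false, true, false, false, true, false, true],
  [true, false, true, false, false, true, false, false, false, false, false, true, false, false],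
  [false, false, false, false, false, true, false, false, false, false, false, true],
  [false, false, true, false, false, false, false, false, true, false, false, true, true],
  [false, false, true, false, false, false, false, false, false, false, true, false, false, false, false],
  [false, false, true, false, false, false, true, false, false, false, true, true, true],
  [false, false, true, false, false, true, false, false, false, false, false, false, true, false, true],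
  [true, false, true, false, false, false, true, false, false, true, false, true],
  [false, true, false, false, false, false, false, false, true, false, false, true, false],
  [false, false, true, false, false, false, false, true, true],
  [false, false, false, false, true, false, false, true, false, false, false, false, false, true],
  [false, true, false, false, false, true, false, false, false, false],
  [true, false, false, false, false, true, false, false, true, false, false, false, false],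
  [true, false, false, true, false, false, false, false, false, true, false, false, true, false],
  [true, false, false, false, true, false, false, true, false, false, false, false],
  [true, false, true, false, false, false, false, false, true, false, false, true, false],
  [true, false, false, true, false, false, true, false, false, false, false],
  [false, false, false, false, false, true, false, false, true, false, true, true],
  [true, false, true, false, false, true, false, false, false, false],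
  [false, false, false, true, false, false, false, false, false, false, true, false, false, true, false],
  [false, false, false, true, false, true],
  [false, false, false, false, false, false, false, true, false, false, true, false, false],
  [false, true, false, false, false, false, true, false, true, true, true],
  [true, false, false, false, false, true, false, false, false, true, false, true, true, true],
  [false, true, false, false, true, false, false, false, false, true, false, true],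
  [true, false, false, false, true, false, false, false, true, false, true, true, true],
  [true, false, true, false, false, true, false, false, true, false, false, false, false, false, true],
  [true, false, false, true, false, false, false, true, false, true, true, true],
  [false, false, true, false, false, true, false, false, false, false, false, true, true, true],
  [true, false, true, false, false, false, true, false, true, true, true],
  [false, true, false, false, false, false, false, false, true, false, false, true, false, false],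
  [false, false, true, false, false, false, false, false, true, true],
  [false, false, false, false, true, false, false, true, false, false, false, false, false, true, false],
  [false, true, false, false, false, true, false, false, false, false, false],
  [false, false, false, false, false, true, false, false, true, false, false, false, false, true],
  [true, false, false, true, false, false, false, false, false, true, false, false, true, false, false],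
  [true, false, false, false, true, false, false, true, false, false, false, false, false],
  [false, false, true, false, false, false, false, false, false, false, true],
  [true, false, false, true, false, false, true, false, false, false, false, false],
  [false, false, false, false, false, true, false, false, true, false, false, true, true],
  [true, false, true, false, false, true, false, false, false, false, false],
  [true, false, false, false, false, false, false, true, false, false, true],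
  [false, false, true, true, true],
  [true, false, false, false, false, false, true, false, false, true],
  [false, true, false, false, false, true],
  [true, false, false, false, false, true, false, false, true],
  [false, true, false, false, true, false, false, false, true, true, true],
  [true, false, false, false, true, false, false, true],
  [false, true, false, false, true, false, false, true, false, false, false, true],
  [true, false, false, true, false, false, true],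
  [true, false, false, false, false, false, false, false, true, false, false, true],
  [true, false, true, false, false, true],
  [false, false, false, true, false, false, false, false, true, false, false, false, true],
  [false, false, false, true, false, false, false, false, true, true],
  [false, false, true, false, false, true, false, false, false, false, false, false, false, false],
  [true, false, false, false, true, false, false, false, true, false, false, false, false],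
  [false, true, false, false, false, false, true, false, false, false, false],
  [false, false, false, true, false, false, false, false, false, true, false],
  [false, false, true, false, false, false, true, false, false, true, false, false],
  [false, false, false, true, false, false, false, false, true, false, false, false, false, true],
  [false, false, false, true, false, false, false, false, true, false, true],
  [true, false, true, false, false, false, true, false, false, false, false],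
  [false, false, false, false, false, false, false, false, true, false, false, false, false, false, false, false],
  [false, true, false, false, false, false, true, false, false, false, true, false, false, false],
  [false, false, false, false, true, false, false, true, false, false, true, false, true],
  [false, false, true, false, false, true, false],
  [false, false, false, false, false, true, false, false, false, true, false, false],
  [true, false, false, false, true, false, false, true, false, false, true, false, true, true],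
  [false, true, false, false, false, true, false, false, true, false, true, true],
  [false, false, false, false, true, false, false, false, false, false, false, true, false, true],
  [true, false, false, true, false, false, true, false, false, true, false, true, true],
  [false, false, false, true, false, false, false, true, false, false, false, true, true],
  [true, false, true, false, false, false, true, false, false, false, false, false, false, false, false],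
  [false, false, false, false, false, false, false, false, true],
  [true, false, false, false, false, true, false, false, false, true, false],
  [false, false, false, true, false, true, true],
  [false, false, true, false, false, true, false, false, false, false, false],
  [true, false, false, false, true, false, false, false, true, false],
  [false, true, false, false, false, false, true, false],
  [true, false, false, false, false, false, false, true, false, false, false, true, false],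
  [true, false, false, true, false, false, false, true, false],
  [false, true, false, false, true, false, false, false, false, true, false, true, true],
  [true, false, false, false, false, false, true, false, false, false, true, false],
  [true, false, true, false, false, false, true, false],
  [false, false, false, false, false, false, false, false, true, false, false, false, false],
  [false, true, false, false, false, false, true, false, false, false, true],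
  [false, false, false, true, false, false, false, false, false, true, true],
  [false, false, true, false, false, false, true, false, false, true, false, true],
  [true, false, false, false, true, false, false, false, true, false, false, false, false, false],
  [false, true, false, false, false, false, true, false, false, false, false, false],
  [true, false, true, false, false, false, true, false, false, false, true],
  [false, false, true, false, false, false, true, false, false, true, false, false, false],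
  [true, false, false, false, false, true, false, false, false, true, false, false, false, true],
  [false, false, false, true, false, false, false, true, true, true],
  [true, false, true, false, false, false, true, false, false, false, false, false],
  [true, false, false, false, true, false, false, false, true, false, false, false, true],
  [false, false, false, false, true, false, false, false, false, true, false, false, false, true],
  [false, false, false, false, true, false, false, true, false, true, true, true],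
  [false, false, true, false, false, true, false, false],
  [false, false, false, false, false, true, false, false, false, true, false, false, false],
  [false, true, false, false, false, false, false, true, false, false, true, false, true],
  [false, true, false, false, false, true, false, false, true, false, false, true, true],
  [false, false, false, false, true, false, false, false, false, false, true, true, true],
  [true, false, false, true, false, false, true, false, false, true, false, false, true, true],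
  [false, false, false, true, false, false, false, true, false, false, false, false, true, true],
  [true, false, true, false, false, false, false, true, false, false, true, false, true],
  [false, false, false, false, false, false, false, false, true, false],
  [true, false, false, false, false, true, false, false, false, true, false, false],
  [false, false, false, true, false, false, true, true],
  [false, false, true, false, false, true, false, false, false, false, false, false],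
  [true, false, false, false, true, false, false, false, true, false, false],
  [false, true, false, false, false, false, true, false, false],
  [true, false, false, false, false, false, false, true, false, false, false, true, false, false],
  [false, false, true, false, false, false, true, false, false, true],
  [false, false, false, false, false, true, false, false, false, false, true, true, true],
  [true, false, false, false, false, false, true, false, false, false, true, false, false],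
  [true, false, true, false, false, false, true, false, false],
  [false, false, false, false, false, false, false, false, true, false, false, false, false, false],
  [false, true, false, false, false, false, true, false, false, false, true, false],
  [false, false, false, true, false, false, false, false, false, false, true, true],
  [false, false, true, false, false, false, true, false, true, true, true],
  [false, false, false, false, false, true, false, false, false, true],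
  [false, true, false, false, false, false, true, false, false, false, false, false, false],
  [false, true, false, false, false, true, false, false, false, true, false, true],
  [false, false, true, false, false, false, true, false, false, true, false, false, false, false],
  [true, false, false, true, false, false, true, false, false, false, true, false, true],
  [false, false, false, true, false, false, false, true, false, true, true],
  [true, false, true, false, false, false, true, false, false, false, false, false, false],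
  [true, false, true, false, false, true, false, false, false, true, false, true],
  [false, false, true, false, false, false, false, true, false, false, false, true],
  [false, false, false, false, true, false, true],
  [false, false, true, false, false, true, false, false, false],
  [false, false, false, false, false, true, false, false, false, true, false, false, false, false],
  [false, true, false, false, false, false, false, true, false, true, true, true],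
  [false, true, false, false, false, true, false, false, true, false, false, false, true, true],
  [true, false, false, true, false, false, false, false, true, false, true, true, true],
  [false, true, false, false, true, false, false, false, false, false, true, false, true],
  [false, false, false, true, false, false, false, true, false, false, false, false, false, true, true],
  [true, false, true, false, false, false, false, true, false, true, true, true],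
  [false, false, false, false, false, false, false, false, true, false, false],
  [true, false, false, false, false, true, false, false, false, true, false, false, false],
  [false, false, false, true, false, false, false, true, true],
  [false, false, true, false, false, true, false, false, false, false, false, false, false],
  [true, false, false, false, true, false, false, false, true, false, false, false],
  [false, true, false, false, false, false, true, false, false, false],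
  [false, false, false, true, false, false, false, false, false, true],
  [false, false, true, false, false, false, true, false, false, true, false],
  [false, false, false, false, false, true, false, false, false, false, true, false, true, true],
  [true, false, false, false, false, false, true, false, false, false, true, false, false, false],
  [true, false, true, false, false, false, true, false, false, false],
  [false, false, false, false, false, false, false, false, true, false, false, false, false, false, false],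
  [false, true, false, false, false, false, true, false, false, false, true, false, false],
  [false, false, false, true, false, false, false, false, false, false, false, true, true],
  [false, false, true, false, false, true],
  [false, false, false, false, false, true, false, false, false, true, false],
  [true, false, false, false, true, false, false, true, false, false, true, true, true],
  [false, true, false, false, false, true, false, false, true, true, true],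
  [false, false, true, false, false, false, true, false, false, true, false, false, false, false, false],
  [true, false, false, true, false, false, true, false, false, true, true, true],
  [false, false, false, true, false, false, false, true, false, false, true, true],
  [true, false, true, false, false, false, true, false, false, false, false, false, false, false],
  [true, false, true, false, false, true, false, false, true, true, true],
  [true, false, false, false, false, true, false, false, false, true],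
  [false, false, false, true, true, true],
  [false, false, true, false, false, true, false, false, false, false],
  [true, false, false, false, true, false, false, false, true],
  [false, true, false, false, false, false, true],
  [true, false, false, false, false, false, false, true, false, false, false, true],
  [true, false, false, true, false, false, false, true],
  [false, true, false, false, true, false, false, false, false, true, true, true],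
  [true, false, false, false, false, false, true, false, false, false, true],
  [true, false, true, false, false, false, true],
  [false, false, false, false, false, false, false, false, true, false, false, false],
  [true, false, false, false, true, false, false, false, false, true, false, false, false],
  [false, false, false, false, true, false, false, false, true, true],
  [false, false, false, false, false, false, false, false, true, false, false, true, false, false],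
  [false, false, false, false, true, false, false, false, true, false, false, false, true],
  [false, false, false, false, true, false, false, false, false, true, false],
  [false, true, false, false, false, false, false, true, false, false, false],
  [false, false, false, false, true, false, false, false, true, false, false, true],
  [true, false, false, false, false, true, false, false, false, false, true, false, false, false],
  [true, false, true, false, false, false, false, true, false, false, false],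
  [false, false, false, false, true, false, false, false, true, false, true],
  [false, false, false, false, false, false, false, true, false, false, false, false, false, false, false, false],
  [false, false, false, true, false, false, false, true, false, false, false, false, true, false],
  [false, false, false, false, true, false, false, false, false, false, false, true, true],
  [false, true, false, false, false, false, false, true, false, false, true, false, false],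
  [false, false, true, false, false, true, false, false, true, false, true, true],
  [false, false, false, false, true, false, false, false, false, true, false, false, false, false],
  [true, false, true, false, false, false, false, true, false, false, true, false, false],
  [true, false, true, false, false, false, false, false, false, false, true, true, true],
  [false, true, false, false, false, true, false, false, true, false, false, true, false],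
  [true, false, true, false, false, false, false, true, false, false, false, false, false, false],
  [false, false, false, false, true, false, false, true, false, false, true, true],
  [false, false, false, false, false, false, false, true],
  [false, true, false, false, false, true, false, false, false, false, true],
  [false, false, false, false, false, true, false, false, true, false, true, true, true],
  [true, false, false, false, false, true, false, false, true, false, false, false, false, true],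
  [true, false, true, false, false, true, false, false, false, false, true],
  [true, false, false, true, false, false, false, false, false, true, false, false, true, false, true],
  [false, true, false, false, false, false, false, false, true, false, false, true, false, true],
  [true, false, false, false, true, false, false, true, false, false, false, false, true],
  [false, false, true, false, false, false, false, true, true, true],
  [false, false, false, true, false, false, true, false, false, true, false, false],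
  [false, false, false, false, true, false, false, true, false, false, false, false, false, true, true],
  [false, false, false, false, false, false, false, true, false, false, false],
  [true, false, false, false, true, false, false, false, false, true, false],
  [false, false, false, false, true, false, true, true],
  [false, false, false, false, false, false, false, false, true, false, false, true],
  [true, false, false, false, false, false, true, false, false, false, false, true, false],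
  [true, false, false, true, false, false, false, false, true, false],
  [false, true, false, false, false, false, false, true, false],
  [false, false, true, false, false, true, false, false, false, true],
  [true, false, false, false, false, true, false, false, false, false, true, false],
  [true, false, true, false, false, false, false, true, false],
  [false, true, false, false, true, false, false, false, false, false, true, false, true, true],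
  [false, false, false, false, false, false, false, true, false, false, false, false, false, false],
  [true, false, false, false, true, false, false, false, false, true, false, false, false, false],
  [false, false, false, false, true, false, false, false, false, true, true],
  [false, true, false, false, false, false, false, true, false, false, true],
  [false, false, true, false, false, true, false, false, false, true, false, true],
  [false, false, false, false, true, false, false, false, false, true, false, false],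
  [true, false, true, false, false, false, false, true, false, false, true],
  [false, false, false, false, true, false, false, false, true, false, false, true, false],
  [true, false, false, false, false, true, false, false, false, false, true, false, false, false, false],
  [true, false, true, false, false, false, false, true, false, false, false, false],
  [false, false, false, false, true, false, false, true, true, true],
  [false, false, false, false, false, false, false, false, true, false, false, true, false, true],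
  [false, false, true, false, false, false, true, false, false, false, false, true],
  [false, false, false, false, true, false, false, false, false, false, false, false, true, true],
  [false, true, false, false, false, false, false, true, false, false, true, false, false, false],
  [false, false, true, false, false, true, false, false, true, false, false, true, true],
  [false, false, false, false, true, false, false, false, false, true, false, false, false, false, false],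
  [true, false, true, false, false, false, false, true, false, false, true, false, false, false],
  [true, false, true, false, false, false, false, false, false, false, true, false, true, true],
  [false, true, false, false, false, true, false, false, true, false, false, true, false, false],
  [false, false, false, true, false, false, true, false, false, true],
  [false, false, false, false, true, false, false, true, false, false, false, true, true],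
  [false, false, false, false, false, false, false, true, false],
  [false, true, false, false, false, true, false, false, false, false, true, false],
  [false, false, false, false, false, true, false, true],
  [true, false, false, false, false, true, false, false, true, false, false, false, false, true, false],
  [true, false, true, false, false, true, false, false, false, false, true, false],
  [true, false, false, true, false, false, false, false, false, true, false, true, true, true],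
  [false, true, false, false, false, false, false, false, true, false, true, true, true],
  [true, false, false, false, true, false, false, true, false, false, false, false, true, false],
  [false, false, true, false, false, false, false, true, false, true, true],
  [false, false, false, true, false, false, true, false, false, true, false, false, false],
  [false, true, false, false, true, false, false, false, false, false, false, true, false, true],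
  [false, false, false, false, false, false, false, true, false, false, false, false],
  [true, false, false, false, true, false, false, false, false, true, false, false],
  [false, false, false, false, true, false, false, true, true],
  [false, false, false, false, false, false, false, false, true, false, false, true, false],
  [true, false, false, false, false, false, true, false, false, false, false, true, false, false],
  [false, false, false, false, true, false, false, false, false, true],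
  [false, true, false, false, false, false, false, true, false, false],
  [false, false, true, false, false, true, false, false, false, true, false],
  [true, false, false, false, false, true, false, false, false, false, true, false, false],
  [true, false, true, false, false, false, false, true, false, false],
  [false, true, false, false, true, false, false, false, false, false, true, false, false, true, true],
  [false, false, false, false, false, false, false, true, false, false, false, false, false, false, false],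
  [false, false, false, true, false, false, false, true, false, false, false, false, true],
  [false, false, false, false, true, false, false, false, false, false, true, true],
  [false, true, false, false, false, false, false, true, false, false, true, false],
  [false, false, true, false, false, true, false, false, true, true, true],
  [false, false, false, false, true, false, false, false, false, true, false, false, false],
  [true, false, true, false, false, false, false, true, false, false, true, false],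
  [true, false, false, true, false, false, true, false, false, true, false, false, true],
  [false, true, false, false, false, true, false, false, true, false, false, true],
  [true, false, true, false, false, false, false, true, false, false, false, false, false],
  [false, false, false, false, true, false, false, true, false, true, true],
  [true, false, true, false, false, true, false, false, true, false, false, true],
  [false, false, true, false, false, false, true, false, false, false, false, true, false],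
  [false, false, false, false, false, true, false, false, true, false, false, true, false, true],
  [false, false, false, false, false, true, false, false, true, false, false, false, false, false, true],
  [false, false, true, false, false, true, false, false, true, false, false, false, true, true],
  [false, false, false, false, true, false, false, false, false, true, false, false, false, false, false, false],
  [true, false, true, false, false, false, false, true, false, false, true, false, false, false, false],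
  [true, false, true, false, false, false, false, false, false, false, true, false, false, true, true],
  [false, false, true, false, false, false, false, false, true, false, true],
  [false, false, false, true, false, false, true, false, false, true, false],
  [false, false, false, false, true, false, false, true, false, false, false, false, true, true],
  [false, false, false, false, false, false, false, true, false, false],
  [true, false, false, false, true, false, false, false, false, true],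
  [false, false, false, false, true, true, true],
  [false, true, false, false, true, false, false, true, false, false, false, false, false, true],
  [true, false, false, false, false, false, true, false, false, false, false, true],
  [true, false, false, true, false, false, false, false, true],
  [false, true, false, false, false, false, false, true],
  [true, false, false, false, false, false, false, false, true, false, false, false, false, true],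
  [true, false, false, false, false, true, false, false, false, false, true],
  [true, false, true, false, false, false, false, true],
  [false, true, false, false, true, false, false, false, false, false, true, true, true],
  [false, false, false, false, false, false, false, true, false, false, false, false, false],
  [true, false, false, true, false, false, false, false, false, false, true, false, false, true, true],
  [false, false, false, false, false, false, true, false, false, true, false, true, true, true],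
  [false, false, false, true, false, false, true, false, false, false, false, false],
  [false, false, true, false, false, false, true, false, false, false, false, false, false, false],
  [false, true, false, false, false, false, false, false, false, true, false, false, true, true],
  [true, false, true, false, false, false, false, false, false, true, false, false, true, true],
  [false, false, false, false, false, false, true, false, false, false, true, false, false, true, false],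
  [true, false, true, false, false, false, false, false, false, true, false, false, true, false, true],
  [false, false, false, false, false, false, true, false, false, false, true, false, true, true],
  [false, true, false, false, true, false, false, false, false, false, false, false, true, false, false],
  [false, false, false, false, false, false, true, false, false],
  [true, false, false, true, false, false, false, false, false, false, true, true, true],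
  [false, false, false, false, false, true, false, false, false, false, false, false, false, true, true],
  [false, false, false, true, false, false, true, false, false, false],
  [false, false, true, false, false, false, true, false, false, false, false, false],
  [false, true, false, false, false, false, false, false, false, true, true, true],
  [true, false, true, false, false, false, false, false, false, true, true, true],
  [false, false, false, false, true, false, false, true, false, false, false, true, false],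
  [false, false, false, false, true, false, false, false, false, false, false, false, true, false],
  [false, false, false, false, false, false, true, false, false, false, false, true, false, true],
  [false, true, false, false, true, false, false, false, false, false, false, false, true],
  [false, false, false, false, false, false, true],
  [false, false, true, false, false, true, false, false, false, false, false, false, true, false, true, true],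
  [false, false, false, false, false, true, false, false, false, false, false, true, true],
  [false, false, false, true, false, false, true, false],
  [false, false, true, false, false, false, true, false, false, false],
  [true, false, true, false, false, true, false, false, false, false, false, true, false, false, true],
  [false, false, false, true, false, false, false, false, false, false, true, false, false, true, true],
  [false, true, false, false, false, false, false, false, true, false, false, false, false, false],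
  [false, true, false, false, false, false, true, false, false, true, false, true, true],
  [true, false, true, false, false, false, true, false, false, true, false, true, true],
  [false, false, true, false, false, false, false, false, true, false, false, true, true, true],
  [false, false, false, false, false, false, false, true, false, false, true, false, true],
  [true, false, true, false, false, false, true, false, false, false, false, false, false, true],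
  [false, false, false, false, false, true, false, false, false, true, true],
  [false, false, false, true, false, false, false, true, false, true, true, true],
  [false, false, true, false, false, false, true, false],
  [true, false, false, true, false, false, true, false, false, false, true, false, true, true],
  [false, false, false, true, false, false, false, false, false, false, true, true, true],
  [false, true, false, false, false, false, false, false, true, false, false, false],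
  [true, false, true, false, false, false, false, false, true, false, false, false],
  [false, true, false, false, false, true, false, false, false, true, false, true, true],
  [true, false, true, false, false, true, false, false, false, true, false, true, true],
  [false, false, false, false, false, false, true, false, false, false, false, false, false, false],
  [false, true, false, false, true, false, false, false, false, false, false, true, false, true, true],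
  [false, false, false, false, false, true, false, true, true],
  [true, false, false, true, false, false, false, false, false, true, false],
  [false, false, true, false, false, false, false, true, false, true, true, true],
  [false, false, false, false, false, false, false, true, false, false, false, false, true],
  [false, false, true, false, false, false, true, false, false, false, false, false, false, true, false, false],
  [false, true, false, false, false, false, false, false, true, false],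
  [true, false, true, false, false, false, false, false, true, false],
  [true, false, false, false, true, false, false, false, false, false, true, false],
  [true, false, true, false, false, true, false, false, false, false, true, false, true],
  [false, false, false, false, false, false, true, false, false, false, false, false],
  [false, true, false, false, true, false, false, false, false, false, false, false, true, false, true],
  [false, false, false, false, false, false, true, false, true],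
  [false, false, false, true, false, false, true, false, false, false, false, false, false],
  [false, false, true, false, false, false, true, false, false, false, false, false, false, false, false],
  [false, false, false, true, false, false, true, false, false, false, false, true],
  [false, false, true, false, false, false, true, false, false, false, false, false, false, true],
  [false, true, false, false, false, false, false, false, false, true, false, true, true, true],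
  [true, false, true, false, false, false, false, false, false, true, false, true, true, true],
  [false, false, false, false, false, false, true, false, false, false, true, false, false, true, true],
  [false, false, false, false, true, false, false, false, false, false, false, false, true, false, false, true],
  [false, false, false, false, false, false, true, false, false, false],
  [true, false, false, true, false, false, false, false, false, false, true, false, true, true],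
  [false, false, false, false, false, false, true, false, false, true, false, false, true, false, true],
  [false, false, false, true, false, false, true, false, false, false, false],
  [false, false, true, false, false, false, true, false, false, false, false, false, false],
  [false, true, false, false, false, false, false, false, false, true, false, true, true],
  [true, false, true, false, false, false, false, false, false, true, false, true, true],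
  [false, false, false, false, false, false, true, false, false, false, true, false, false, true],
  [false, false, false, false, true, false, false, false, false, false, false, false, true, false, false],
  [false, false, false, false, false, false, true, false, false, false, true, true, true],
  [false, true, false, false, true, false, false, false, false, false, false, false, true, false],
  [false, false, false, false, false, false, true, false],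
  [true, false, false, true, false, false, false, false, false, false, false, true, false, true],
  [false, false, false, false, false, true, false, false, false, false, false, false, true, true],
  [false, false, false, true, false, false, true, false, false],
  [false, false, true, false, false, false, true, false, false, false, false],
  [false, false, true, false, false, true, false, false, true, false, false, true],
  [true, false, true, false, false, false, false, false, false, false, true, false, true],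
  [false, false, false, false, true, false, false, true, false, false, false, true],
  [false, false, false, false, true, false, false, false, false, false, false, false, true],
  [true, false, true, false, false, false, true, false, false, true, false, false, true, true],
  [false, false, true, false, false, false, false, false, true, false, false, true, false, true, true],
  [false, false, false, false, false, false, false, true, false, true, true, true],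
  [false, false, true, false, false, true, false, false, false, false, false, false, true, true, true],
  [false, false, false, false, false, true, false, false, false, false, true, true],
  [false, false, false, true, false, false, true],
  [false, false, true, false, false, false, true, false, false],
  [true, false, false, false, false, true, false, false, false, true, false, false, true, true, true],
  [false, false, false, true, false, false, false, false, false, false, true, false, true, true],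
  [false, true, false, false, false, false, false, false, true, false, false, false, false],
  [false, true, false, false, false, false, true, false, false, true, true, true],
  [true, false, true, false, false, false, true, false, false, true, true, true],
  [true, false, false, false, true, false, false, false, true, false, false, true, true, true],
  [false, false, false, false, false, false, true, false, false, false, false, false, false, false, false],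
  [false, true, false, false, true, false, false, false, false, false, false, true, false, false, true, true],
  [false, false, false, false, false, true, false, false, true, true],
  [true, false, false, true, false, false, false, false, false, true, false, false],
  [false, false, true, false, false, false, true],
  [true, false, false, true, false, false, true, false, false, false, true, true, true],
  [false, false, false, true, false, false, false, false, false, false, false, true, false, true],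
  [false, true, false, false, false, false, false, false, true, false, false],
  [true, false, true, false, false, false, false, false, true, false, false],
  [false, true, false, false, false, true, false, false, false, true, true, true],
  [true, false, true, false, false, true, false, false, false, true, true, true],
  [false, false, false, false, false, false, true, false, false, false, false, false, false],
  [false, true, false, false, true, false, false, false, false, false, false, true, true, true],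
  [false, false, false, false, false, true, true, true],
  [true, false, false, true, false, false, false, false, false, true],
  [true, false, false, false, false, true, false, false, false, false, false, true],
  [false, false, false, true, false, false, true, false, false, false, false, true, false],
  [false, false, true, false, false, false, true, false, false, false, false, false, false, true, false],
  [false, true, false, false, false, false, false, false, true],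
  [true, false, true, false, false, false, false, false, true],
  [true, false, false, false, true, false, false, false, false, false, true],
  [true, false, false, false, false, false, true, false, false, false, false, false, true],
  [false, false, false, false, false, false, true, false, false, false, false],
  [true, false, false, true, false, false, false, false, false, false, true, false, false],
  [false, false, false, false, false, false, true, false, false, true, true],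
  [false, false, false, false, false, false, true, false, false, true, false, false, false, false, false, true],
  [false, false, false, false, false, false, true, false, false, false, true, false],
  [false, false, false, false, false, false, true, false, false, true, false, false, false, false, true],
  [true, false, false, false, true, false, false, false, false, false, false, true, false, false],
  [true, false, true, false, false, false, false, false, false, true, false, false],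
  [false, true, false, false, false, false, false, false, false, true, false, false],
  [false, false, false, false, false, false, true, false, false, true, false, false, true],
  [false, false, false, true, false, false, true, false, false, false, false, false, true, true],
  [false, false, false, false, false, false, true, false, false, true, false, true],
  [false, true, false, false, true, false, false, false, false, false, false, true],
  [false, false, false, false, false, false, true, false, false, false, false, true, true],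
  [true, false, false, false, false, false, true, false, false, false, false, false, true, true, true],
  [true, false, false, false, true, false, false, false, false, false, true, true, true],
  [true, false, true, false, false, false, false, false, true, true, true],
  [false, true, false, false, false, false, false, false, true, true, true],
  [true, false, true, false, false, false, false, false, false, true, false, false, false, false],
  [false, true, false, false, false, false, false, false, false, true, false, false, false, false],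
  [true, false, false, false, false, true, false, false, false, false, false, true, true, true],
  [true, false, false, true, false, false, false, false, false, true, true, true],
  [false, false, false, false, false, true],
  [false, true, false, false, true, false, false, false, false, false, false, true, false, false],
  [true, false, false, false, true, false, false, true, false, false, false, true],
  [true, false, true, false, false, true, false, false, false, true],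
  [false, true, false, false, false, true, false, false, false, true],
  [true, false, true, false, false, false, false, false, true, false, false, true, true],
  [false, true, false, false, false, false, false, false, true, false, false, true, true],
  [true, false, false, false, false, true, false, false, true, false, false, false, true],
  [true, false, false, true, false, false, true, false, false, false, true],
  [false, false, true, false, false, false, true, true, true],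
  [true, false, false, true, false, false, false, false, false, true, false, false, true, true],
  [false, false, false, false, false, true, false, false],
  [false, false, true, false, false, true, false, false, false, false, false, false, true],
  [true, false, false, false, false, false, true, false, false, false, true, false, false, true],
  [true, false, false, false, true, false, false, false, true, false, false, true],
  [true, false, true, false, false, false, true, false, false, true],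
  [false, true, false, false, false, false, true, false, false, true],
  [false, false, false, false, false, false, false, false, true, false, false, false, false, false, true],
  [false, false, false, true, false, false, false, false, false, false, true, false],
  [true, false, false, false, false, true, false, false, false, true, false, false, true],
  [false, false, true, false, false, false, true, false, false, true, true],
  [false, false, false, true, false, false, true, true, true],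
  [false, false, false, false, false, true, false, false, false, false],
  [false, false, true, false, false, true, false, false, false, false, false, false, true, false, false],
  [false, false, false, false, false, false, false, true, false, true],
  [false, false, true, false, false, false, false, false, true, false, false, true, false],
  [true, false, true, false, false, false, true, false, false, true, false, false],
  [false, true, false, false, false, false, true, false, false, true, false, false],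
  [false, false, false, false, true, false, false, true, false, false, false, true, true, true],
  [false, false, false, true, false, false, false, false, false, false, true, false, false, false],
  [false, false, true, false, false, true, false, false, true, false, false, true, true, true],
  [false, false, true, false, false, false, true, false, false, false, false, true, true],
  [false, false, false, true, false, false, true, false, false, true, true],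
  [false, false, false, false, false, true, false, false, false, false, false, false],
  [true, false, false, true, false, false, false, false, false, false, true, false],
  [false, false, false, false, false, false, true, false, true, true],
  [false, false, true, false, false, false, false, false, true, false, false, true, false, false, false],
  [false, false, false, false, false, false, true, false, false, false, true],
  [false, true, false, false, false, false, true, false, false, true, false, false, false, false],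
  [true, false, false, false, true, false, false, false, false, false, false, true, false],
  [true, false, true, false, false, false, false, false, false, true, false],
  [false, true, false, false, false, false, false, false, false, true, false],
  [false, false, true, false, false, false, true, false, false, false, false, false, false, true, true],
  [false, false, false, true, false, false, true, false, false, false, false, true, true],
  [false, false, false, false, false, true, false, false, false, false, false, false, false, false],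
  [true, false, false, true, false, false, false, false, false, false, true, false, false, false],
  [false, false, false, false, false, false, true, false, false, false, true, true],
  [false, true, false, false, false, false, true, false, false, true, false, false, false, false, true],
  [false, false, false, false, false, false, true, false, false, false, true, false, false],
  [true, false, true, false, false, false, false, false, false, true, false, true],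
  [false, true, false, false, false, false, false, false, false, true, false, true],
  [true, false, true, false, false, false, false, false, false, true, false, false, false],
  [false, true, false, false, false, false, false, false, false, true, false, false, false],
  [false, false, false, false, false, false, true, false, false, true, false, false, true, false],
  [true, false, false, true, false, false, false, false, false, false, true, false, true],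
  [false, false, false, false, false, false, true, false, true, true, true],
  [false, true, false, false, true, false, false, false, false, false, false, true, false],
  [false, false, false, false, false, false, true, false, false, false, false, false, true, true],
  [false, false, true, false, false, true, false, false, true, false, false, false, false, false, true],
  [true, false, false, false, true, false, false, false, false, false, true, false, true, true],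
  [true, false, true, false, false, false, false, false, true, false, true, true],
  [false, true, false, false, false, false, false, false, true, false, true, true],
  [true, false, true, false, false, false, false, false, false, true, false, false, false, false, false],
  [false, false, false, false, false, false, false, true, false, false, false, false, true, true, true],
  [false, false, true, false, false, false, false, true, false, true],
  [true, false, false, true, false, false, false, false, false, true, false, true, true],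
  [false, false, false, false, false, true, false],
  [false, true, false, false, true, false, false, false, false, false, false, true, false, false, false],
  [true, false, false, false, true, false, false, true, false, false, false, true, false],
  [true, false, true, false, false, true, false, false, false, true, false],
  [false, true, false, false, false, true, false, false, false, true, false],
  [true, false, true, false, false, false, false, false, true, false, false, false, true, true],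
  [false, true, false, false, false, false, false, false, true, false, false, false, true, true],
  [false, false, false, true, false, false, false, false, false, false, true],
  [true, false, false, true, false, false, true, false, false, false, true, false],
  [false, false, true, false, false, false, true, false, true, true],
  [false, false, false, true, false, false, false, true, false, true],
  [false, false, false, false, false, true, false, false, false],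
  [false, false, true, false, false, true, false, false, false, false, false, false, true, false],
  [false, false, false, false, false, false, false, true, false, false, true, false, true, true, true],
  [false, false, true, false, false, false, false, false, true, false, false, true],
  [true, false, true, false, false, false, true, false, false, true, false],
  [false, true, false, false, false, false, true, false, false, true, false],
  [false, false, false, false, true, false, false, true, false, false, false, false, true, false, true],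
  [false, false, false, true, false, false, false, false, false, false, true, false, false],
  [true, false, false, false, false, true, false, false, false, true, false, false, true, false],
  [false, false, true, false, false, false, true, false, false, false, true, true],
  [false, false, false, true, false, false, true, false, true, true],
  [false, false, false, false, false, true, false, false, false, false, false],
  [true, false, false, true, false, false, false, false, false, false, true],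
  [false, false, false, false, false, false, true, true, true],
  [false, false, true, false, false, false, false, false, true, false, false, true, false, false],
  [true, false, true, false, false, false, true, false, false, true, false, false, false],
  [false, true, false, false, false, false, true, false, false, true, false, false, false],
  [true, false, false, false, true, false, false, false, false, false, false, true],
  [true, false, true, false, false, false, false, false, false, true],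
  [false, true, false, false, false, false, false, false, false, true],
  [false, false, true, false, false, false, true, false, false, false, false, false, true, true],
  [false, false, false, true, false, false, true, false, false, false, true, true],
  [false, false, false, false, false, true, false, false, false, false, false, false, false],
  [true, false, true, false, false, false, false, true, false, false, false, false, true, false],
  [false, true, false, false, false, false, false, true, false, false, false, true, false, false, true],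
  [false, false, false, false, true, false, false, false, true, false, true, true, true],
  [true, false, true, false, false, false, false, true, false, false, false, true, true],
  [false, false, true, false, false, false, false, true, false, false, false, false, false],
  [false, false, false, false, true, false, false, false, true, false, false, true, true, true],
  [false, true, false, false, false, false, false, true, false, false, false, true, true],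
  [false, false, false, false, true, false, false, false, false, true, false, true, true],
  [false, false, false, false, true, false, false, false, true, false, false, false, true, true, true],
  [false, true, false, false, false, false, false, true, false, false, false, true, false, true],
  [false, false, false, false, true, false, false, false],
  [true, false, false, false, true, false, false, false, false, true, true, true],
  [false, false, false, false, false, false, false, true, false, false, false, false, false, true, true],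
  [false, true, false, false, true, false, false, false, false, false, true],
  [true, false, true, false, false, false, false, true, true, true],
  [false, false, true, false, false, false, false, true, false, false],
  [false, false, true, false, false, true, false, false, false, false, true, false, true],
  [false, true, false, false, false, false, false, true, true, true],
  [true, false, false, true, false, false, false, false, true, true, true],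
  [true, false, false, false, false, false, true, false, false, false, false, true, true, true],
  [false, false, false, false, false, false, false, false, true, false, false, false, true, false, true],
  [false, false, false, false, true],
  [false, true, false, false, false, true, false, false, false, false, false, true, false, true],
  [false, false, false, false, false, false, false, true, false, false, true, true],
  [false, false, false, false, true, false, false, true, false, false, false, false],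
  [false, false, false, true, false, false, true, false, false, true, false, true, true],
  [false, false, true, false, false, false, false, false, true, false, true, true, true],
  [true, false, true, false, false, false, false, false, false, false, true, false, false],
  [false, false, false, false, false, true, false, false, false, false, false, false, true, false],
  [true, false, true, false, false, false, true, false, false, true, false, false, true, false],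
  [false, false, true, false, false, true, false, false, true, false, false, false],
  [true, false, false, true, false, false, false, false, false, false, false, true, false, false],
  [false, false, false, false, true, false, false, false, false, false, false, false, false],
  [false, false, false, true, false, false, false, true, false, false, false, false, true, true, true],
  [false, false, false, false, false, false, false, false, true, false, true],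
  [false, false, false, false, true, false, false, true, false],
  [false, false, false, false, false, true, false, false, false, true, false, false, false, true],
  [false, true, false, false, false, true, false, false, true, false, false, true, true, true],
  [false, true, false, false, true, false, false, false, false, false, true, false, false, true, false],
  [true, false, true, false, false, false, false, true, false, false, true, false, true, true],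
  [false, false, true, false, false, false, false, true, false, false, false, false, true, false],
  [false, false, true, false, false, true, false, false, true],
  [false, true, false, false, false, false, false, true, false, false, true, false, true, true],
  [false, false, false, false, true, false, false, false, false, false],
  [true, false, true, false, false, false, false, true, false, false, false, false, true],
  [false, true, false, false, false, true, false, false, true, false, false, false, true, false],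
  [false, true, false, false, true, false, false, false, false, false, true, false, false],
  [true, false, true, false, false, false, false, true, false, false, true, true],
  [false, false, true, false, false, false, false, true, false, false, false, false],
  [false, false, true, false, false, true, false, false, false, true, false, true, true],
  [false, true, false, false, false, false, false, true, false, false, true, true],
  [false, false, false, false, true, false, false, false, false, true, true, true],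
  [false, false, false, true, false, false, false, true, false, false, false, false, false, true, false],
  [true, false, true, false, false, true, false, false, true, false, false, false, true, false],
  [false, false, false, false, true, false, false],
  [true, false, false, false, true, false, false, false, false, false, true, false, true],
  [false, false, false, false, false, false, false, true, false, false, false, false, true, true],
  [false, false, false, false, true, false, false, true, false, false, false, false, false, false],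
  [true, false, true, false, false, false, false, false, true, false, true],
  [false, false, true, false, false, false, false, true, false],
  [false, false, false, false, false, false, true, false, false, false, false, false, true],
  [false, true, false, false, false, false, false, false, true, false, true],
  [true, false, false, true, false, false, false, false, false, true, false, true],
  [false, false, true, false, false, true, false, false, true, false, false, false, false, false],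
  [false, false, false, true, false, false, false, false, false, false, false, true, false, false, true, false],
  [false, false, false, false, false, true, false, true, true, true],
  [false, false, true, false, false, false, true, false, false, false, false, true, true, true],
  [false, false, false, false, false, false, false, true, false, true, true],
  [false, false, false, false, true, false, false, true, false, false, false],
  [false, false, false, true, false, false, true, false, false, true, true, true],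
  [false, false, true, false, false, false, false, false, true, false, false, true, false, true],
  [true, false, true, false, false, false, false, false, false, false, true, false],
  [false, false, false, false, false, true, false, false, false, false, false, false, true],
  [true, false, true, false, false, false, true, false, false, true, false, false, true],
  [false, false, true, false, false, true, false, false, true, false, false],
  [true, false, false, true, false, false, false, false, false, false, false, true, false],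
  [false, false, false, false, true, false, false, false, false, false, false, false],
  [true, false, true, false, false, false, false, true, false, false, false, false, true, false, false],
  [true, false, true, false, false, true, false, false, true, false, false, false, true, false, true],
  [false, false, false, false, true, false, false, true],
  [true, false, true, false, false, false, false, true, false, false, false, false, true, true],
  [false, false, true, false, false, false, false, true, false, false, false, false, false, false],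
  [false, true, false, false, true, false, false, false, false, false, true, false, false, true],
  [true, false, true, false, false, false, false, true, false, false, true, true, true],
  [false, false, true, false, false, false, false, true, false, false, false, false, true],
  [false, false, true, false, false, true, false, false, false, true, false, true, true, true],
  [false, true, false, false, false, false, false, true, false, false, true, true, true],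
  [false, false, false, false, true, false, false, false, false],
  [true, false, false, false, true, false, false, false, false, true, false, true, true],
  [false, true, false, false, false, true, false, false, true, false, false, false, true],
  [false, true, false, false, true, false, false, false, false, false, true, false],
  [true, false, true, false, false, false, false, true, false, true, true],
  [false, false, true, false, false, false, false, true, false, false, false],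
  [false, false, true, false, false, true, false, false, false, true, true, true],
  [false, true, false, false, false, false, false, true, false, true, true],
  [true, false, false, true, false, false, false, false, true, false, true, true],
  [false, false, false, true, false, false, false, true, false, false, false, false, false, true],
  [true, false, true, false, false, true, false, false, true, false, false, false, true],
  [false, false, false, false, true, false],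
  [false, true, false, false, false, true, false, false, false, false, true, true, true],
  [false, false, false, false, false, false, false, true, false, false, false, true, true],
  [false, false, false, false, true, false, false, true, false, false, false, false, false],
  [false, false, false, true, false, false, true, false, false, true, false, false, true, true],
  [false, false, true, false, false, false, false, true],
  [true, false, true, false, false, false, false, false, false, false, true, false, false, false],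
  [false, false, false, false, false, true, false, false, false, false, false, false, true, false, false],
  [false, false, false, true, false, false, false, true, false, false, true, false, false, true],
  [false, false, true, false, false, true, false, false, true, false, false, false, false],
  [false, false, false, true, false, false, false, false, false, false, false, true, false, false, true],
  [false, false, false, false, false, true, false, false, true, false, true],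
  [false, false, true, false, false, false, true, false, false, false, false, false, true, false, true],
  [false, false, false, false, false, false, false, true, true, true],
  [false, false, false, false, true, false, false, true, false, false],
  [false, false, false, true, false, false, true, false, false, false, true, false, true],
  [false, true, false, false, false, true, false, false, true, false, false, true, false, true, true],
  [true, false, true, false, false, false, false, false, false, false, true],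
  [true, false, false, false, false, true, false, false, false, false, false, false, false, true],
  [false, false, true, false, false, false, false, true, false, false, false, false, true, false, false],
  [false, false, true, false, false, true, false, false, true, false],
  [true, false, false, true, false, false, false, false, false, false, false, true],
  [false, false, false, false, true, false, false, false, false, false, false],
  [false, true, false, false, false, false, true, false, false, false, false, true, false, true],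
  [false, false, true, false, false, false, true, false, false, true, false, false, false, true, false],
  [true, false, true, false, false, false, true, false, false, false, false, true, true],
  [false, false, false, true, false, false, false, false, true, false, true, true, true],
  [false, false, false, false, false, true, false, false, false, false, true, false, false],
  [false, false, true, false, false, false, true, false, false, true, false, false, true, true],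
  [false, false, false, true, false, false, false, false, false, true, false, true, true],
  [false, true, false, false, false, false, true, false, false, false, false, true, true],
  [true, false, false, false, true, false, false, false, true, false, false, false, false, true, true],
  [true, false, true, false, false, false, true, false, false, false, false, false, true, false],
  [false, false, false, true, false, false, false, false],
  [true, false, false, false, false, true, false, false, false, true, true, true],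
  [true, false, true, false, false, true, false, false, true, false, false, false, false],
  [true, false, true, false, false, false, true, true, true],
  [true, false, false, false, false, false, true, false, false, false, true, true, true],
  [false, true, false, false, true, false, false, false, false, true],
  [true, false, false, true, false, false, false, true, true, true],
  [false, true, false, false, false, true, false, false, true, false, false, false, false],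
  [false, true, false, false, false, false, true, true, true],
  [true, false, false, false, true, false, false, false, true, true, true],
  [false, false, true, false, false, true, false, false, false, false, true, true],
  [false, false, false, true],
  [true, false, true, false, false, false, false, false, true, false, false, false, true, false],
  [true, false, true, false, false, true, false, false, true],
  [true, false, false, false, false, false, true, false, false, true, false, false, true],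
  [false, false, false, true, false, false, false, true, false, false],
  [true, false, false, true, false, false, true, false, false, true],
  [false, true, false, false, false, false, false, false, true, false, false, false, true, false],
  [false, true, false, false, false, true, false, false, true],
  [true, false, false, false, true, false, false, true, false, false, true],
  [false, false, false, false, false, true, false, false, false, true, false, true, true],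
  [false, false, true, false, false, true, true, true],
  [false, false, false, true, false, false, false, false, false, false, false],
  [true, false, false, false, false, true, false, false, false, true, false, false, false, true, true],
  [false, false, true, false, false, false, true, false, false, true, false, false, false, true],
  [true, false, true, false, false, false, true, false, false, false, true, true],
  [false, true, false, false, false, false, true, false, false, false, false, false, true],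
  [false, false, false, false, false, true, false, false, false, false, true, false],
  [false, false, true, false, false, false, true, false, false, true, false, true, true],
  [false, false, false, true, false, false, false, false, false, true, true, true],
  [false, true, false, false, false, false, true, false, false, false, true, true],
  [true, false, false, false, true, false, false, false, true, false, false, false, true, true],
  [true, false, true, false, false, false, true, false, false, false, false, false, true],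
  [false, false, false, true, false, false, false],
  [true, false, false, false, false, true, false, false, false, false, true, false, true],
  [true, false, true, false, false, true, false, false, true, false, false, false],
  [true, false, true, false, false, false, false, true, false, true],
  [false, false, false, true, false, false, false, true, false, false, false, false, false],
  [true, false, false, true, false, false, true, false, false, true, false, false, false],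
  [true, false, false, true, false, false, false, false, true, false, true],
  [false, true, false, false, false, true, false, false, true, false, false, false],
  [false, true, false, false, false, false, false, true, false, true],
  [true, false, false, false, true, false, false, false, false, true, false, true],
  [false, false, true, false, false, true, false, false, false, true, true],
  [false, false, false, false, true, false, true, true, true],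
  [true, false, true, false, false, false, false, false, true, false, false, false, true],
  [true, false, true, false, false, true, false, false, false, true, false, true, true, true],
  [true, false, true, false, false, false, true, false, false, false, false, false, false, true, true],
  [false, false, false, true, false, false, false, true, false],
  [false, false, false, false, false, true, false, false, false, false, true, false, false, false, false],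
  [false, true, false, false, false, false, false, false, true, false, false, false, true],
  [false, true, false, false, false, true, false, false, false, true, false, true, true, true],
  [false, false, false, false, false, false, true, false, false, false, false, false, false, false, true],
  [false, false, false, false, false, true, false, false, false, true, true, true],
  [false, false, true, false, false, false, true, false, true],
  [false, false, false, true, false, false, false, false, false, false],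
  [true, false, false, false, false, true, false, false, false, true, false, false, true, true],
  [true, false, true, false, false, true, false, false, true, false, false, false, false, false, false],
  [true, false, true, false, false, false, true, false, false, true, true],
  [true, false, false, false, false, false, true, false, false, false, true, false, false, true, true],
  [false, false, false, false, false, true, false, false, false, false, true],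
  [false, false, true, false, false, false, true, false, false, true, true, true],
  [false, false, false, true, false, false, false, false, false, false, true, false, true],
  [false, true, false, false, false, false, true, false, false, true, true],
  [true, false, false, false, true, false, false, false, true, false, false, true, true],
  [false, false, true, false, false, true, false, false, false, false, false, false, true, true],
  [false, false, false, true, false, false],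
  [false, false, true, false, false, false, false, true, false, false, false, false, true, false, true],
  [true, false, true, false, false, true, false, false, true, false, false],
  [true, false, false, false, false, false, true, false, false, true, false, false, true, false, false],
  [false, false, false, true, false, false, false, true, false, false, false, false],
  [true, false, false, true, false, false, true, false, false, true, false, false],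
  [false, false, false, false, true, false, false, false, false, false, true],
  [false, true, false, false, false, true, false, false, true, false, false],
  [true, false, false, false, true, false, false, true, false, false, true, false, false],
  [false, false, false, false, false, true, false, false, false, true, false, false, false, true, true],
  [false, false, true, false, false, true, false, false, true, true],
  [false, false, false, false, true, false, false, true, false, true],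
  [false, true, false, false, false, false, true, false, false, false, true, true, true],
  [true, false, false, false, true, false, false, false, true, false, false, false, true, true, true],
  [true, false, true, false, false, false, true, false, false, false, false, false, true, true],
  [false, false, false, true, false, false, false, true],
  [false, false, false, false, false, true, false, false, false, false, true, false, false, false],
  [false, false, true, false, false, false, true, false, false, true, false, false, false, true, true],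
  [true, false, true, false, false, false, true, false, false, false, true, true, true],
  [false, true, false, false, false, false, true, false, false, false, false, false, true, true],
  [false, false, false, false, false, true, false, false, false, false, true, false, true],
  [false, false, true, false, false, false, true, false, false, true, false, true, true, true],
  [false, false, false, true, false, false, false, false, false],
  [true, false, false, false, false, true, false, false, false, true, false, true, true],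
  [true, false, true, false, false, true, false, false, true, false, false, false, false, false],
  [true, false, true, false, false, false, true, false, true, true],
  [true, false, false, false, false, false, true, false, false, false, true, false, true, true],
  [false, true, false, false, true, false, false, false, false, true, false],
  [true, false, false, true, false, false, false, true, false, true, true],
  [false, true, false, false, false, true, false, false, true, false, false, false, false, false],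
  [false, true, false, false, false, false, true, false, true, true],
  [true, false, false, false, true, false, false, false, true, false, true, true],
  [false, false, true, false, false, true, false, false, false, false, false, true, true],
  [false, false, false, true, false],
  [true, false, true, false, false, false, false, false, true, false, false, false, true, false, false],
  [true, false, true, false, false, true, false, false, true, false],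
  [true, false, false, false, false, false, true, false, false, true, false, false, true, false],
  [false, false, false, true, false, false, false, true, false, false, false],
  [true, false, false, true, false, false, true, false, false, true, false],
  [false, true, false, false, false, false, false, false, true, false, false, false, true, false, false],
  [false, true, false, false, false, true, false, false, true, false],
  [true, false, false, false, true, false, false, true, false, false, true, false],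
  [false, false, false, false, false, true, false, false, false, true, false, false, true, true],
  [false, false, true, false, false, true, false, true, true],
  [false, false, false, true, false, false, false, false, false, false, false, false],
  [false, false, true, false, false, false, false, false, false, true, false, false, true, true, true],
  [true, false, true, false, false, true, false, false, false, false, false, false, true, true],
  [false, false, false, false, false, true, false, false, true, false, false, false],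
  [false, false, false, false, false, false, false, true, false, false, false, true, false, false],
  [false, false, true, false, false, false, false, false, false, false, true, false, true, true],
  [false, false, true, false, false, false, false, false, false, true, false, true, true, true],
  [false, false, false, true, false, false, false, true, false, false, true, false, false, false, false],
  [true, false, true, false, false, true, false, false, false, false, false, false, true, false, true],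
  [false, true, false, false, false, true, false, false, false, false, false, false, true, true],
  [false, false, true, false, false, false, false, false, false, false, true, false, false, true, false],
  [false, false, true, false, false, false, false, false, false],
  [true, false, false, false, false, false, false, true, false, false, true, true, true],
  [true, false, true, false, false, true, true, true],
  [false, false, true, false, false, true, false, false, false, false, false, true, false],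
  [true, false, false, true, false, false, true, true, true],
  [false, true, false, false, true, false, false, true, false, false, false, true, true, true],
  [true, false, false, false, true, false, false, true, true, true],
  [false, true, false, false, true, false, false, false, true],
  [true, false, false, false, false, true, false, false, true, true, true],
  [false, true, false, false, false, true, true, true],
  [true, false, false, false, false, false, true, false, false, true, true, true],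
  [false, false, true],
  [false, false, true, false, false, false, false, false, false, true, false, false, false, true, false, true],
  [true, false, true, false, false, true, false, false, false, false, false, true, true],
  [false, false, false, false, false, true, false, false, true, false, false],
  [false, false, false, false, false, false, false, true, false, false, false, true, false],
  [false, false, true, false, false, false, false, false, false, false, true, true, true],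
  [false, false, true, false, false, false, false, false, false, true, false, false, true, false, true],
  [false, false, false, true, false, false, false, true, false, false, true, false, false, false],
  [false, false, false, true, false, false, false, false, false, false, false, true, false, false, false],
  [false, true, false, false, false, true, false, false, false, false, false, true, true],
  [false, false, true, false, false, false, false, false, false, false, true, false, false, true],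
  [false, false, true, false, false, false, false, false],
  [true, false, false, false, false, false, false, true, false, false, false, true, false, true],
  [true, false, true, false, false, false, true, false, true],
  [false, false, true, false, false, true, false, false, false, false, false, true],
  [true, false, false, true, false, false, false, true, false, true],
  [false, false, false, false, false, false, false, false, true, false, false, false, false, true],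
  [true, false, false, false, true, false, false, false, true, false, true],
  [false, true, false, false, true, false, false, false, false, true, false, true, true, true],
  [true, false, false, false, false, true, false, false, false, true, false, true],
  [false, true, false, false, false, false, true, false, true],
  [true, false, false, false, false, false, true, false, false, false, true, false, true],
  [false, false, false, true, false, true, true, true],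
  [false, true, false, false, false, false, false, false, true, false, false, true, false, true, true],
  [true, false, true, false, false, true, false, false, false, false, true, true],
  [false, false, false, false, false, true, false, false, true, false],
  [false, false, false, false, false, false, false, true, false, false, false, true],
  [false, false, false, true, false, false, true, false, false, true, false, false, true],
  [true, false, false, false, true, false, false, true, false, false, false, false, true, true],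
  [false, false, false, true, false, false, false, true, false, false, true, false, false],
  [false, false, false, true, false, false, false, false, false, false, false, true, false, false],
  [false, true, false, false, false, true, false, false, false, false, true, true],
  [false, false, false, false, true, false, false, true, false, false, false, false, false, true, true, true],
  [false, false, true, false, false, false, false],
  [true, false, true, false, false, false, false, false, false, false, true, false, false, true, false],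
  [true, false, true, false, false, false, true, false, false, true, false, true, true, true],
  [false, false, false, false, false, true, false, false, true, false, false, false, false, false, false],
  [false, false, true, false, false, false, true, false, false, false, true],
  [false, false, false, false, true, false, false, true, false, false, false, false, true, false],
  [false, false, true, false, false, false, false, false, true, false, false],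
  [false, false, false, false, false, true, false, false, false, false, false, true, true, true],
  [false, false, true, false, false, true, false, false, true, false, false, false, true, false],
  [false, false, false, false, false, true, false, false, true, false, false, true, false, false],
  [false, false, false, false, false, false, false, true, false, false, true, false, true, true],
  [false, false, false, true, false, false, true, false, true],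
  [false, true, false, false, false, false, false, false, true, false, false, true, true, true],
  [true, false, true, false, false, true, false, false, false, true, true],
  [false, false, false, false, false, true, false, false, true],
  [true, false, false, true, false, false, true, false, false, false, true, true],
  [true, false, true, false, false, false, false, false, true, false, false, true, true, true],
  [true, false, false, false, true, false, false, true, false, false, false, true, true],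
  [false, false, false, true, false, false, false, true, false, false, true, false],
  [false, false, false, true, false, false, false, false, false, false, false, true, false],
  [false, true, false, false, false, true, false, false, false, true, true],
  [false, true, false, false, true, false, false, false, false, false, false, true, false, false, true],
  [false, false, true, false, false, false],
  [true, false, true, false, false, false, false, false, false, false, true, false, false, true],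
  [true, false, true, false, false, false, true, false, false, true, false, false, true, false, true],
  [false, false, false, false, false, true, false, false, true, false, false, false, false, false],
  [false, true, false, false, false, true, false, false, false, false, false, true, false, true, true],
  [false, false, false, false, true, false, false, true, false, false, false, false, true],
  [false, false, true, false, false, false, false, false, true, false],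
  [false, false, false, false, false, true, false, false, false, false, false, false, true, false, true],
  [false, false, true, false, false, true, false, false, true, false, false, false, true],
  [false, false, false, false, false, true, false, false, true, false, false, true, false],
  [false, false, false, false, false, false, false, true, false, false, true, true, true],
  [false, false, true, false, false, false, false, false, false, false, false],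
  [false, true, false, false, false, false, false, false, true, false, false, false, true, false, true],
  [true, false, true, false, false, true, false, false, true, true],
  [false, false, false, false, false, true, false, false, false, true, false, true, true, true],
  [true, false, false, true, false, false, true, false, false, true, true],
  [true, false, true, false, false, false, false, false, true, false, false, false, true, false, true],
  [true, false, false, false, true, false, false, true, false, false, true, true],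
  [false, false, false, true, false, false, false, true, false, false, true],
  [false, false, false, true, false, false, false, false, false, false, false, true],
  [false, true, false, false, false, true, false, false, true, true],
  [true, false, false, false, false, false, true, false, false, true, false, false, true, true],
  [false, false, true, false, false],
  [false, false, true, false, false, false, false, false, false, true, false, false, true, false, true, true],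
  [false, false, false, true, false, false, false, true, false, false, true, false, false, false, true],
  [false, false, false, false, false, true, false, false, true, false, false, false, false],
  [false, true, false, false, false, true, false, false, false, false, false, true, true, true],
  [false, false, true, false, false, false, false, false, false, false, true, false, false, true, true],
  [false, false, true, false, false, false, false, false, true],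
  [false, false, false, true, false, false, false, true, false, false, true, false, false, false, false, false],
  [true, false, true, false, false, true, false, false, false, false, false, true, true, true],
  [false, false, false, false, false, true, false, false, true, false, false, true],
  [false, false, false, false, false, false, false, true, false, false, false, true, false, true],
  [false, false, true, false, false, false, false, false, false, false],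
  [true, false, false, false, false, false, false, true, false, false, true, false, true, true],
  [true, false, true, false, false, true, false, true, true],
  [false, false, true, false, false, true, false, false, false, false, false, true, false, false],
  [true, false, false, true, false, false, true, false, true, true],
  [false, true, false, false, true, false, false, true, false, false, false, true, false, true, true],
  [true, false, false, false, true, false, false, true, false, true, true],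
  [false, true, false, false, true, false, false, false, true, false],
  [true, false, false, false, false, true, false, false, true, false, true, true],
  [false, true, false, false, false, true, false, true, true],
  [true, false, false, false, false, false, true, false, false, true, false, true, true],
  [false, false, true, false],
  [true, true],
  [true, false, true],
  [true, false, false, true],
  [true, false, false, false, true],
  [true, false, false, false, false, true],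
  [true, false, false, false, false, false, true],
  [true, false, false, false, false, false, false, true],
  [true, false, false, false, false, false, false, false, true],
  [false, true, false, false, true, false, false, true, false],
  [false, true, false, false, true, false, true, true],
  [false, true, false],
  [true, false, true, false, true, true, true],
  [true, false, false, true, false, true, true, true],
  [true, false, false, false, true, false, true, true, true],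
  [true, false, false, false, false, true, false, true, true, true],
  [true, false, false, false, false, false, true, false, true, true, true],
  [true, false, false, false, false, false, false, true, false, true, true, true],
  [true, false, false, false, false, false, false, false, true, false, true, true, true],
  [false, true, false, false, true, false, false, true, false, false, true, true, true],
  [false, true, false, false, true, false, false, true],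
  [false, true, false, false, true, true, true],
  [false, true],
  [true, false, true, false, false, true, false, true],
  [true, false, false, true, false, false, true, false, true],
  [true, false, false, false, true, false, false, true, false, true],
  [true, false, false, false, false, true, false, false, true, false, true],
  [true, false, false, false, false, false, true, false, false, true, false, true],
  [true, false, false, false, false, false, false, true, false, false, true, false, true],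
  [false, false, false, false, false, true, false, false, false, true, false, false, true, false],
  [false, true, false, false, true, false, false, true, false, false, false, true, false, true],
  [false, true, false, false, true, false, false, false, true, false, true, true, true],
  [false, true, false, false, false, true, false, true],
  [false, false, true, false, true, true, true],
  [false, false, false, false, false, false, false, false, true, true],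
  [true, false, true, false, false, false, false, false, false, false, false],
  [true, false, false, true, false, false, false, false, false, false, false, false],
  [true, false, false, false, true, false, false, false, false, false, false, false, false],
  [true, false, false, false, false, true, false, false, false, false, false, false, false, false],
  [false, false, false, false, true, false, false, false, false, false, false, true, false, true, true],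
  [false, false, false, false, false, true, false, false, false, true, false, false, true],
  [false, true, false, false, false, false, true, false, false, false, true, false, false, false, true],
  [false, false, false, true, false, false, false, true, false, false, false, true, true, true],
  [false, true, false, false, false, true, false, false, true, false, true, true, true],
  [false, false, true, false, false, true, false, true],
  [false, false, false, false, false, false, false, true, true],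
  [true, false, true, false, false, false, false, false, false, false],
  [true, false, false, true, false, false, false, false, false, false, false],
  [true, false, false, false, true, false, false, false, false, false, false, false],
  [true, false, false, false, false, true, false, false, false, false, false, false, false],
  [false, false, false, false, true, false, false, false, false, false, false, true, true, true],
  [false, false, false, true, false, false, true, false, false, false, true, false],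
  [false, false, false, false, true, false, false, false, false, true, false, false, false, false, true],
  [false, false, true, false, false, false, true, false, false, false, false, false, true, false],
  [false, true, false, false, false, true, false, false, true, false, false, true, false, true],
  [false, true, false, false, false, false, false, false, false, false],
  [false, false, false, false, false, false, true, true],
  [true, false, true, false, false, false, false, false, false],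
  [true, false, false, true, false, false, false, false, false, false],
  [true, false, false, false, true, false, false, false, false, false, false],
  [true, false, false, false, false, true, false, false, false, false, false, false],
  [true, false, false, false, false, false, true, false, false, false, false, false, false],
  [false, false, false, true, false, false, true, false, false, false, true],
  [false, false, false, false, false, false, true, false, false, false, false, true, false, true, true],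
  [false, false, true, false, false, false, true, false, false, false, false, false, true],
  [false, true, false, false, true, false, false, false, false, false, false, false, true, true],
  [false, true, false, false, false, false, false, false, false],
  [false, false, false, false, false, true, true],
  [true, false, true, false, false, false, false, false],
  [true, false, false, true, false, false, false, false, false],
  [true, false, false, false, true, false, false, false, false, false],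
  [true, false, false, false, false, true, false, false, false, false, false],
  [true, false, false, false, false, false, true, false, false, false, false, false],
  [true, false, false, false, false, false, false, true, false, false, false, false, false],
  [false, false, false, false, false, false, true, false, false, false, false, true, true, true],
  [false, true, false, false, true, false, false, true, false, false, false, false, false, false],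
  [false, true, false, false, true, false, false, false, false, false, false, true, true],
  [false, true, false, false, false, false, false, false],
  [false, false, false, false, true, true],
  [true, false, true, false, false, false, false],
  [true, false, false, true, false, false, false, false],
  [true, false, false, false, true, false, false, false, false],
  [true, false, false, false, false, true, false, false, false, false],
  [true, false, false, false, false, false, true, false, false, false, false],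
  [true, false, false, false, false, false, false, true, false, false, false, false],
  [true, false, false, false, false, false, false, false, true, false, false, false, false],
  [false, true, false, false, true, false, false, true, false, false, false, false, false],
  [false, true, false, false, true, false, false, false, false, false, true, true],
  [false, true, false, false, false, false, false],
  [false, false, false, true, true],
  [true, false, true, false, false, false],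
  [true, false, false, true, false, false, false],
  [true, false, false, false, true, false, false, false],
  [true, false, false, false, false, true, false, false, false],
  [true, false, false, false, false, false, true, false, false, false],
  [true, false, false, false, false, false, false, true, false, false, false],
  [true, false, false, false, false, false, false, false, true, false, false, false],
  [false, true, false, false, true, false, false, true, false, false, false, false],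
  [false, true, false, false, true, false, false, false, false, true, true],
  [false, true, false, false, false, false],
  [false, false, true, true],
  [true, false, true, false, false],
  [true, false, false, true, false, false],
  [true, false, false, false, true, false, false],
  [true, false, false, false, false, true, false, false],
  [true, false, false, false, false, false, true, false, false],
  [true, false, false, false, false, false, false, true, false, false],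
  [true, false, false, false, false, false, false, false, true, false, false],
  [false, true, false, false, true, false, false, true, false, false, false],
  [false, true, false, false, true, false, false, false, true, true],
  [false, true, false, false, false],
  [false, true, true],
  [true, false, true, false],
  [true, false, false, true, false],
  [true, false, false, false, true, false],
  [true, false, false, false, false, true, false],
  [true, false, false, false, false, false, true, false],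
  [true, false, false, false, false, false, false, true, false],
  [true, false, false, false, false, false, false, false, true, false],
  [false, true, false, false, true, false, false, true, false, false],
  [false, true, false, false, true, false, false, true, true],
  [false, true, false, false],
  [true],
  [false, true, false, true, true, true],
  [false, true, false, false, true, false, true],
  [true, false, false, false, false, false, false, false, false],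
  [true, false, false, false, false, false, false, false],
  [true, false, false, false, false, false, false],
  [true, false, false, false, false, false],
  [true, false, false, false, false],
  [true, false, false, false],
  [true, false, false],
  [true, false],
  [false, false, true, false, false, false, false, false, false, true, false, false, true, true],
  [false, false, true, false, false, false, false, false, false, true, true, true],
  [false, true, false, false, false, true, false, false, false, false, false, false, true, false, false],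
  [false, true, false, false, false, true, false, false, false, false, false, false, true],
  [true, false, true, false, false, true, false, false, false, false, false, false, true, false],
  [false, false, true, false, false, false, false, false, false, true, false, false, false, true, true],
  [false, false, true, false, false, false, false, false, false, true, false, true, true],
  [false, false, true, false, false, false, false, false, false, false, true, false, true],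
  [false, true, false, false, false, true, false, false, false, false, false, false, true, false],
  [false, false, false, false, false, true, false, false, true, false, false, false, true, true, true],
  [true, false, true, false, false, true, false, false, false, false, false, false, true],
  [false, true, false, false, false, false, true, false, false, false, false, true, false],
  [false, false, false, true, false, false, false, false, true, true, true],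
  [false, false, true, false, false, false, true, false, false, true, false, false, true, false],
  [true, false, false, false, true, false, false, false, true, false, false, false, false, true],
  [false, true, false, false, false, false, true, false, false, false, false, true],
  [false, false, false, true, false, false, false, false, false, true, false, true],
  [false, false, true, false, false, false, true, false, false, true, false, false, true],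
  [false, true, false, false, false, false, true, false, false, false, false, true, false, false],
  [false, false, false, true, false, false, false, false, true, false, true, true],
  [true, false, true, false, false, false, true, false, false, false, false, true],
  [true, false, false, false, true, false, false, false, true, false, false, false, false, true, false],
  [true, false, false, false, true, false, false, false, false, true, false, false, false, true],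
  [false, false, false, false, true, false, false, false, true, true, true],
  [false, true, false, false, false, false, false, true, false, false, false, true, false],
  [false, false, false, false, true, false, false, false, true, false, false, false, true, true],
  [false, false, false, false, true, false, false, false, false, true, false, true],
  [false, true, false, false, false, false, false, true, false, false, false, true],
  [false, false, false, false, true, false, false, false, true, false, false, true, true],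
  [false, true, false, false, false, false, false, true, false, false, false, true, false, false, false],
  [true, false, true, false, false, false, false, true, false, false, false, true],
  [false, false, false, false, true, false, false, false, true, false, true, true],
  [false, true, false, false, false, false, false, true, false, false, false, true, false, false],
  [false, false, false, false, false, false, true, false, false, true, false, false, false, false, false, false],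
  [false, false, false, false, false, false, true, false, false, true, false],
  [false, false, false, true, false, false, true, false, false, false, false, false, true],
  [false, false, false, false, false, false, true, false, false, true, false, false],
  [false, false, false, true, false, false, true, false, false, false, false, false, true, false],
  [false, false, false, false, false, false, true, false, false, true, false, false, false],
  [false, false, false, true, false, false, true, false, false, false, false, false, true, false, false],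
  [false, false, false, false, false, false, true, false, false, true, false, false, false, false],
  [false, false, false, false, false, false, true, false, false, false, true, false, true, true, true],
  [false, false, false, false, false, false, true, false, false, true, false, false, false, false, false],
  [false, false, false, false, false, false, true, false, false, true],
  [true, false, false, true, false, false, false, false, false, false, true, false, false, true],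
  [false, false, false, false, false, false, true, false, false, true, true, true],
  [true, false, true, false, false, false, false, false, false, true, false, false, true, false, false],
  [false, false, false, false, false, false, true, false, false, false, true, false, true],
  [true, false, true, false, false, false, false, false, false, true, false, false, true, false],
  [false, true, false, false, false, false, false, false, false, true, false, false, true, false],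
  [true, false, true, false, false, false, false, false, false, true, false, false, true],
  [false, true, false, false, false, false, false, false, false, true, false, false, true],
  [false, false, false, false, false, false, true, false, false, true, false, false, true, true],
  [false, false, false, true, false, false, true, false, false, false, false, false, true, true, true],
  [false, false, false, false, false, false, true, false, false, true, false, true, true],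
  [false, false, false, false, true, false, false, false, true, false, false, false, false],
  [false, true, false, false, false, false, false, true, false, false, false, true, false, false, true, true],
  [false, false, false, false, true, false, false, false, true, false],
  [false, false, false, false, true, false, false, false, true, false, false, false, false, false],
  [false, false, true, false, false, false, false, true, false, false, false, false, false, true],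
  [false, false, false, false, true, false, false, false, true, false, false],
  [false, true, false, false, false, false, false, true, false, false, false, true, true, true],
  [false, false, false, false, true, false, false, false, false, true, false, true, true, true],
  [false, false, false, false, true, false, false, false, true, false, false, false],
  [false, true, false, false, false, false, false, true, false, false, false, true, false, true, true],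
  [false, false, false, false, true, false, false, false, true],
  [false, false, false, true, false, false, false, false, true, false, false, false],
  [false, false, false, true, false, false, false, false, true, false, false, false, false, false, false],
  [true, false, true, false, false, false, true, false, false, false, false, true, true, true],
  [false, false, false, true, false, false, false, false, true, false],
  [false, false, false, true, false, false, false, false, true, false, false, false, false],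
  [false, false, true, false, false, false, true, false, false, true, false, false, true, true, true],
  [false, false, false, true, false, false, false, false, false, true, false, true, true, true],
  [false, false, false, true, false, false, false, false, true, false, false],
  [false, false, false, true, false, false, false, false, true, false, false, false, false, false],
  [true, false, true, false, false, false, true, false, false, false, false, false, true, false, true],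
  [false, false, false, true, false, false, false, false, true],
  [false, false, true, false, false, false, false, false, false, true, false, false],
  [false, false, true, false, false, false, false, false, false, true, false, false, false, false],
  [false, false, false, false, false, true, false, false, true, false, false, false, true],
  [false, false, false, false, false, false, false, true, false, false, false, true, false, false, true],
  [false, false, true, false, false, false, false, false, false, false, true, false, true, true, true],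
  [false, false, true, false, false, false, false, false, false, true, false],
  [false, false, true, false, false, false, false, false, false, true, false, false, false],
  [false, false, true, false, false, false, false, false, false, true, false, false, false, false, false],
  [false, false, false, false, false, true, false, false, true, false, false, false, true, false],
  [false, false, false, false, false, false, false, true, false, false, false, true, false, false, true, false],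
  [false, false, true, false, false, false, false, false, false, true],
  [true, true, true],
  [true, false, true, true],
  [true, false, false, true, true],
  [true, false, false, false, true, true],
  [true, false, false, false, false, true, true],
  [true, false, false, false, false, false, true, true],
  [true, false, false, false, false, false, false, true, true],
  [true, false, false, false, false, false, false, false, true, true],
  [false, true, false, false, true, false, false, true, false, true],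
  [false, true, false, false, true, false, true, true, true],
  [false, true, false, true]]

/-- elements of the base M11 moving the point at infinity to each point outside the dodecad -/
def trS : List (ℕ × List ℕ × List ℕ) := [
  (5, [0, 18, 12, 8, 9, 22, 2, 14, 3, 1, 7, 23, 4, 6, 15, 21, 16, 19, 13, 10, 17, 20, 11, 5], [0, 9, 6, 8, 12, 23, 13, 10, 3, 4, 19, 22, 2, 18, 7, 14, 16, 20, 1, 17, 21, 15, 5, 11]),
  (7, [0, 9, 3, 4, 1, 11, 8, 15, 12, 2, 14, 21, 13, 18, 5, 19, 16, 17, 6, 22, 20, 10, 23, 7], [0, 4, 9, 2, 3, 14, 18, 23, 6, 1, 21, 5, 8, 12, 10, 7, 16, 17, 13, 15, 20, 11, 19, 22]),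
  (10, [0, 8, 16, 6, 4, 20, 2, 23, 12, 13, 19, 21, 18, 9, 5, 22, 1, 15, 3, 7, 17, 14, 11, 10], [0, 16, 6, 18, 4, 14, 3, 19, 1, 13, 23, 22, 8, 9, 21, 17, 2, 20, 12, 10, 5, 11, 15, 7]),
  (11, [0, 6, 18, 8, 1, 10, 3, 21, 12, 2, 15, 5, 9, 4, 14, 20, 13, 22, 16, 17, 19, 23, 7, 11], [0, 4, 9, 6, 13, 11, 1, 22, 3, 12, 5, 23, 8, 16, 14, 10, 18, 19, 2, 20, 15, 7, 17, 21]),
  (14, [0, 16, 2, 6, 18, 19, 8, 10, 9, 13, 17, 21, 1, 3, 22, 15, 4, 5, 12, 7, 20, 23, 11, 14], [0, 12, 2, 13, 16, 17, 3, 19, 6, 8, 7, 22, 18, 9, 23, 15, 1, 10, 4, 5, 20, 11, 14, 21]),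
  (15, [0, 6, 12, 16, 8, 19, 18, 7, 13, 9, 22, 5, 1, 3, 17, 14, 4, 21, 2, 10, 20, 23, 11, 15], [0, 12, 18, 13, 16, 11, 1, 7, 4, 9, 19, 22, 2, 8, 15, 23, 3, 14, 6, 5, 20, 17, 10, 21]),
  (17, [0, 9, 18, 6, 2, 19, 8, 23, 16, 1, 14, 21, 13, 3, 22, 11, 12, 7, 4, 5, 20, 10, 15, 17], [0, 9, 4, 13, 18, 19, 3, 17, 6, 1, 21, 15, 16, 12, 10, 22, 8, 23, 2, 5, 20, 11, 14, 7]),
  (19, [0, 4, 18, 12, 2, 10, 3, 21, 16, 13, 22, 23, 6, 9, 11, 20, 1, 17, 8, 15, 14, 7, 5, 19], [0, 16, 4, 6, 1, 22, 12, 21, 18, 13, 5, 14, 3, 9, 20, 19, 8, 17, 2, 23, 15, 7, 10, 11]),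
  (20, [0, 6, 3, 8, 16, 22, 1, 17, 4, 13, 14, 10, 9, 2, 21, 11, 12, 19, 18, 15, 5, 7, 23, 20], [0, 6, 13, 2, 8, 20, 1, 21, 3, 12, 11, 15, 16, 9, 10, 19, 4, 7, 18, 17, 23, 14, 5, 22]),
  (21, [0, 9, 13, 1, 3, 5, 8, 14, 18, 2, 15, 17, 4, 6, 11, 22, 12, 23, 16, 10, 19, 20, 7, 21], [0, 3, 9, 4, 12, 5, 13, 22, 6, 1, 19, 14, 16, 2, 7, 10, 18, 11, 8, 20, 21, 23, 15, 17]),
  (22, [0, 18, 6, 8, 13, 14, 1, 20, 4, 9, 17, 21, 12, 3, 11, 19, 16, 10, 2, 23, 7, 5, 15, 22], [0, 6, 18, 13, 8, 21, 2, 20, 3, 9, 17, 14, 12, 4, 5, 22, 16, 10, 1, 15, 7, 11, 23, 19]),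
  (23, [0, 9, 4, 16, 2, 20, 18, 15, 1, 13, 7, 17, 6, 3, 5, 10, 8, 14, 12, 11, 19, 22, 21, 23], [0, 8, 4, 13, 2, 14, 12, 10, 16, 1, 15, 19, 18, 9, 17, 7, 3, 11, 6, 20, 5, 22, 21, 23])]

end Cfsg.Agent.helper28.L211
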