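import Mathlib
import Cfsg.Agent.Lib_helper28_L211Data
import Cfsg.Agent.Lib_helper28_M11cls
import Cfsg.Agent.Lib_helper2_M24k

set_option autoImplicit false
set_option synthInstance.maxHeartbeats 2000000
set_option synthInstance.maxSize 4096
set_option maxHeartbeats 2000000

/-! Kernel-checked certificates for the image of SL(2,11) in M11. -/

namespace Cfsg.Agent.helper28.L211

open Cfsg Cfsg.Agent.helper2.Golay Cfsg.Agent.helper28.M11cls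

/-- position of a matrix of determinant one in the table -/
def slIdx (a b c d : ZMod 11) : ℕ :=
  if a = 0 then 1210 + (b.val - 1) * 11 + d.val else ((a.val - 1) * 11 + b.val) * 11 + c.val

/-- table pair of a matrix -/
def TS (a b c d : ZMod 11) : List ℕ × List ℕ := slTab.getD (slIdx a b c d) (idTab, idTab)

/-- two-by-two matrices as tuples -/
abbrev M4 : Type := ZMod 11 × ZMod 11 × ZMod 11 × ZMod 11

/-- matrix product on tuples -/
def mul4 (x y : M4) : M4 :=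
  (x.1 * y.1 + x.2.1 * y.2.2.1, x.1 * y.2.1 + x.2.1 * y.2.2.2,
   x.2.2.1 * y.1 + x.2.2.2 * y.2.2.1, x.2.2.1 * y.2.1 + x.2.2.2 * y.2.2.2)

/-- the two generators -/
def gen4 : Bool → M4
  | false => (1, 1, 0, 1)
  | true => (0, 1, -1, 0)

/-- the product of a word in the generators -/
def evalW4 (w : List Bool) : M4 := w.foldl (fun acc b => mul4 acc (gen4 b)) (1, 0, 0, 1)

/-- table pair of a tuple -/
def T4 (x : M4) : List ℕ × List ℕ := TS x.1 x.2.1 x.2.2.1 x.2.2.2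

/-- a table pair is good: it defines an element of M24 stabilising the base dodecad, the base
point and the point at infinity -/
def goodS (d : List ℕ × List ℕ) : Bool :=
  tablesOK d.1 d.2 && codeOK d.2 && (pull (tb d.2) sqm == sqm) && (tb d.1 0 == 0) &&
    (tb d.1 23 == 23)

/-- a table pair is good for the base M11 -/
def goodM (d : List ℕ × List ℕ) : Bool :=
  tablesOK d.1 d.2 && codeOK d.2 && (pull (tb d.2) sqm == sqm) && (tb d.1 0 == 0)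

theorem zmod11_cases (x : ZMod 11) : x = 0 ∨ x = 1 ∨ x = 2 ∨ x = 3 ∨ x = 4 ∨ x = 5 ∨ x = 6 ∨ x = 7 ∨
    x = 8 ∨ x = 9 ∨ x = 10 := by revert x; decide

theorem TS_ok_0 : ∀ b c d : ZMod 11, (0 : ZMod 11) * d - b * c = 1 → goodS (TS (0 : ZMod 11) b c d) = true := by decide +kernel

theorem TS_ok_1 : ∀ b c d : ZMod 11, (1 : ZMod 11) * d - b * c = 1 → goodS (TS (1 : ZMod 11) b c d) = true := by decide +kernel

theorem TS_ok_2 : ∀ b c d : ZMod 11, (2 : ZMod 11) * d - b * c = 1 → goodS (TS (2 : ZMod 11) b c d) = true := by decide +kernel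

theorem TS_ok_3 : ∀ b c d : ZMod 11, (3 : ZMod 11) * d - b * c = 1 → goodS (TS (3 : ZMod 11) b c d) = true := by decide +kernel

theorem TS_ok_4 : ∀ b c d : ZMod 11, (4 : ZMod 11) * d - b * c = 1 → goodS (TS (4 : ZMod 11) b c d) = true := by decide +kernel

theorem TS_ok_5 : ∀ b c d : ZMod 11, (5 : ZMod 11) * d - b * c = 1 → goodS (TS (5 : ZMod 11) b c d) = true := by decide +kernel

theorem TS_ok_6 : ∀ b c d : ZMod 11, (6 : ZMod 11) * d - b * c = 1 → goodS (TS (6 : ZMod 11) b c d) = true := by decide +kernel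

theorem TS_ok_7 : ∀ b c d : ZMod 11, (7 : ZMod 11) * d - b * c = 1 → goodS (TS (7 : ZMod 11) b c d) = true := by decide +kernel

theorem TS_ok_8 : ∀ b c d : ZMod 11, (8 : ZMod 11) * d - b * c = 1 → goodS (TS (8 : ZMod 11) b c d) = true := by decide +kernel

theorem TS_ok_9 : ∀ b c d : ZMod 11, (9 : ZMod 11) * d - b * c = 1 → goodS (TS (9 : ZMod 11) b c d) = true := by decide +kernel

theorem TS_ok_10 : ∀ b c d : ZMod 11, (10 : ZMod 11) * d - b * c = 1 → goodS (TS (10 : ZMod 11) b c d) = true := by decide +kernel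

theorem TS_ok : ∀ a : ZMod 11, ∀ b c d : ZMod 11, a * d - b * c = 1 → goodS (TS a b c d) = true := by
  intro a
  rcases zmod11_cases a with rfl | rfl | rfl | rfl | rfl | rfl | rfl | rfl | rfl | rfl | rfl
  · exact TS_ok_0
  · exact TS_ok_1
  · exact TS_ok_2
  · exact TS_ok_3
  · exact TS_ok_4
  · exact TS_ok_5
  · exact TS_ok_6
  · exact TS_ok_7
  · exact TS_ok_8
  · exact TS_ok_9
  · exact TS_ok_10

theorem mulgenS_ok_0 : ∀ b c d : ZMod 11, (0 : ZMod 11) * d - b * c = 1 → ∀ e : Bool, (T4 (mul4 ((0 : ZMod 11), b, c, d) (gen4 e))).1 = comp (TS (0 : ZMod 11) b c d).1 (T4 (gen4 e)).1 := by decide +kernel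

theorem mulgenS_ok_1 : ∀ b c d : ZMod 11, (1 : ZMod 11) * d - b * c = 1 → ∀ e : Bool, (T4 (mul4 ((1 : ZMod 11), b, c, d) (gen4 e))).1 = comp (TS (1 : ZMod 11) b c d).1 (T4 (gen4 e)).1 := by decide +kernel

theorem mulgenS_ok_2 : ∀ b c d : ZMod 11, (2 : ZMod 11) * d - b * c = 1 → ∀ e : Bool, (T4 (mul4 ((2 : ZMod 11), b, c, d) (gen4 e))).1 = comp (TS (2 : ZMod 11) b c d).1 (T4 (gen4 e)).1 := by decide +kernel

theorem mulgenS_ok_3 : ∀ b c d : ZMod 11, (3 : ZMod 11) * d - b * c = 1 → ∀ e : Bool, (T4 (mul4 ((3 : ZMod 11), b, c, d) (gen4 e))).1 = comp (TS (3 : ZMod 11) b c d).1 (T4 (gen4 e)).1 := by decide +kernel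

theorem mulgenS_ok_4 : ∀ b c d : ZMod 11, (4 : ZMod 11) * d - b * c = 1 → ∀ e : Bool, (T4 (mul4 ((4 : ZMod 11), b, c, d) (gen4 e))).1 = comp (TS (4 : ZMod 11) b c d).1 (T4 (gen4 e)).1 := by decide +kernel

theorem mulgenS_ok_5 : ∀ b c d : ZMod 11, (5 : ZMod 11) * d - b * c = 1 → ∀ e : Bool, (T4 (mul4 ((5 : ZMod 11), b, c, d) (gen4 e))).1 = comp (TS (5 : ZMod 11) b c d).1 (T4 (gen4 e)).1 := by decide +kernel

theorem mulgenS_ok_6 : ∀ b c d : ZMod 11, (6 : ZMod 11) * d - b * c = 1 → ∀ e : Bool, (T4 (mul4 ((6 : ZMod 11), b, c, d) (gen4 e))).1 = comp (TS (6 : ZMod 11) b c d).1 (T4 (gen4 e)).1 := by decide +kernel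

theorem mulgenS_ok_7 : ∀ b c d : ZMod 11, (7 : ZMod 11) * d - b * c = 1 → ∀ e : Bool, (T4 (mul4 ((7 : ZMod 11), b, c, d) (gen4 e))).1 = comp (TS (7 : ZMod 11) b c d).1 (T4 (gen4 e)).1 := by decide +kernel

theorem mulgenS_ok_8 : ∀ b c d : ZMod 11, (8 : ZMod 11) * d - b * c = 1 → ∀ e : Bool, (T4 (mul4 ((8 : ZMod 11), b, c, d) (gen4 e))).1 = comp (TS (8 : ZMod 11) b c d).1 (T4 (gen4 e)).1 := by decide +kernel

theorem mulgenS_ok_9 : ∀ b c d : ZMod 11, (9 : ZMod 11) * d - b * c = 1 → ∀ e : Bool, (T4 (mul4 ((9 : ZMod 11), b, c, d) (gen4 e))).1 = comp (TS (9 : ZMod 11) b c d).1 (T4 (gen4 e)).1 := by decide +kernel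

theorem mulgenS_ok_10 : ∀ b c d : ZMod 11, (10 : ZMod 11) * d - b * c = 1 → ∀ e : Bool, (T4 (mul4 ((10 : ZMod 11), b, c, d) (gen4 e))).1 = comp (TS (10 : ZMod 11) b c d).1 (T4 (gen4 e)).1 := by decide +kernel

theorem mulgenS_ok : ∀ a : ZMod 11, ∀ b c d : ZMod 11, a * d - b * c = 1 → ∀ e : Bool, (T4 (mul4 (a, b, c, d) (gen4 e))).1 = comp (TS a b c d).1 (T4 (gen4 e)).1 := by
  intro a
  rcases zmod11_cases a with rfl | rfl | rfl | rfl | rfl | rfl | rfl | rfl | rfl | rfl | rfl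
  · exact mulgenS_ok_0
  · exact mulgenS_ok_1
  · exact mulgenS_ok_2
  · exact mulgenS_ok_3
  · exact mulgenS_ok_4
  · exact mulgenS_ok_5
  · exact mulgenS_ok_6
  · exact mulgenS_ok_7
  · exact mulgenS_ok_8
  · exact mulgenS_ok_9
  · exact mulgenS_ok_10

theorem wordS_ok_0 : ∀ b c d : ZMod 11, (0 : ZMod 11) * d - b * c = 1 → evalW4 (slW.getD (slIdx (0 : ZMod 11) b c d) []) = ((0 : ZMod 11), b, c, d) := by decide +kernel

theorem wordS_ok_1 : ∀ b c d : ZMod 11, (1 : ZMod 11) * d - b * c = 1 → evalW4 (slW.getD (slIdx (1 : ZMod 11) b c d) []) = ((1 : ZMod 11), b, c, d) := by decide +kernel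

theorem wordS_ok_2 : ∀ b c d : ZMod 11, (2 : ZMod 11) * d - b * c = 1 → evalW4 (slW.getD (slIdx (2 : ZMod 11) b c d) []) = ((2 : ZMod 11), b, c, d) := by decide +kernel

theorem wordS_ok_3 : ∀ b c d : ZMod 11, (3 : ZMod 11) * d - b * c = 1 → evalW4 (slW.getD (slIdx (3 : ZMod 11) b c d) []) = ((3 : ZMod 11), b, c, d) := by decide +kernel

theorem wordS_ok_4 : ∀ b c d : ZMod 11, (4 : ZMod 11) * d - b * c = 1 → evalW4 (slW.getD (slIdx (4 : ZMod 11) b c d) []) = ((4 : ZMod 11), b, c, d) := by decide +kernel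

theorem wordS_ok_5 : ∀ b c d : ZMod 11, (5 : ZMod 11) * d - b * c = 1 → evalW4 (slW.getD (slIdx (5 : ZMod 11) b c d) []) = ((5 : ZMod 11), b, c, d) := by decide +kernel

theorem wordS_ok_6 : ∀ b c d : ZMod 11, (6 : ZMod 11) * d - b * c = 1 → evalW4 (slW.getD (slIdx (6 : ZMod 11) b c d) []) = ((6 : ZMod 11), b, c, d) := by decide +kernel

theorem wordS_ok_7 : ∀ b c d : ZMod 11, (7 : ZMod 11) * d - b * c = 1 → evalW4 (slW.getD (slIdx (7 : ZMod 11) b c d) []) = ((7 : ZMod 11), b, c, d) := by decide +kernel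

theorem wordS_ok_8 : ∀ b c d : ZMod 11, (8 : ZMod 11) * d - b * c = 1 → evalW4 (slW.getD (slIdx (8 : ZMod 11) b c d) []) = ((8 : ZMod 11), b, c, d) := by decide +kernel

theorem wordS_ok_9 : ∀ b c d : ZMod 11, (9 : ZMod 11) * d - b * c = 1 → evalW4 (slW.getD (slIdx (9 : ZMod 11) b c d) []) = ((9 : ZMod 11), b, c, d) := by decide +kernel

theorem wordS_ok_10 : ∀ b c d : ZMod 11, (10 : ZMod 11) * d - b * c = 1 → evalW4 (slW.getD (slIdx (10 : ZMod 11) b c d) []) = ((10 : ZMod 11), b, c, d) := by decide +kernel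

theorem wordS_ok : ∀ a : ZMod 11, ∀ b c d : ZMod 11, a * d - b * c = 1 → evalW4 (slW.getD (slIdx a b c d) []) = (a, b, c, d) := by
  intro a
  rcases zmod11_cases a with rfl | rfl | rfl | rfl | rfl | rfl | rfl | rfl | rfl | rfl | rfl
  · exact wordS_ok_0
  · exact wordS_ok_1
  · exact wordS_ok_2
  · exact wordS_ok_3
  · exact wordS_ok_4
  · exact wordS_ok_5
  · exact wordS_ok_6
  · exact wordS_ok_7
  · exact wordS_ok_8
  · exact wordS_ok_9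
  · exact wordS_ok_10

theorem oneS_ok : ∀ k < 24, tb (TS 1 0 0 1).1 k = k := by decide +kernel

theorem negS_ok : ∀ k < 24, tb (TS (-1) 0 0 (-1)).1 k = k := by decide +kernel

theorem kerS_ok_0 : ∀ b c d : ZMod 11, (0 : ZMod 11) * d - b * c = 1 → (∀ k < 24, tb (TS (0 : ZMod 11) b c d).1 k = k) → ((0 : ZMod 11) = 1 ∧ b = 0 ∧ c = 0 ∧ d = 1) ∨ ((0 : ZMod 11) = -1 ∧ b = 0 ∧ c = 0 ∧ d = -1) := by decide +kernel

theorem kerS_ok_1 : ∀ b c d : ZMod 11, (1 : ZMod 11) * d - b * c = 1 → (∀ k < 24, tb (TS (1 : ZMod 11) b c d).1 k = k) → ((1 : ZMod 11) = 1 ∧ b = 0 ∧ c = 0 ∧ d = 1) ∨ ((1 : ZMod 11) = -1 ∧ b = 0 ∧ c = 0 ∧ d = -1) := by decide +kernel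

theorem kerS_ok_2 : ∀ b c d : ZMod 11, (2 : ZMod 11) * d - b * c = 1 → (∀ k < 24, tb (TS (2 : ZMod 11) b c d).1 k = k) → ((2 : ZMod 11) = 1 ∧ b = 0 ∧ c = 0 ∧ d = 1) ∨ ((2 : ZMod 11) = -1 ∧ b = 0 ∧ c = 0 ∧ d = -1) := by decide +kernel

theorem kerS_ok_3 : ∀ b c d : ZMod 11, (3 : ZMod 11) * d - b * c = 1 → (∀ k < 24, tb (TS (3 : ZMod 11) b c d).1 k = k) → ((3 : ZMod 11) = 1 ∧ b = 0 ∧ c = 0 ∧ d = 1) ∨ ((3 : ZMod 11) = -1 ∧ b = 0 ∧ c = 0 ∧ d = -1) := by decide +kernel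

theorem kerS_ok_4 : ∀ b c d : ZMod 11, (4 : ZMod 11) * d - b * c = 1 → (∀ k < 24, tb (TS (4 : ZMod 11) b c d).1 k = k) → ((4 : ZMod 11) = 1 ∧ b = 0 ∧ c = 0 ∧ d = 1) ∨ ((4 : ZMod 11) = -1 ∧ b = 0 ∧ c = 0 ∧ d = -1) := by decide +kernel

theorem kerS_ok_5 : ∀ b c d : ZMod 11, (5 : ZMod 11) * d - b * c = 1 → (∀ k < 24, tb (TS (5 : ZMod 11) b c d).1 k = k) → ((5 : ZMod 11) = 1 ∧ b = 0 ∧ c = 0 ∧ d = 1) ∨ ((5 : ZMod 11) = -1 ∧ b = 0 ∧ c = 0 ∧ d = -1) := by decide +kernel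

theorem kerS_ok_6 : ∀ b c d : ZMod 11, (6 : ZMod 11) * d - b * c = 1 → (∀ k < 24, tb (TS (6 : ZMod 11) b c d).1 k = k) → ((6 : ZMod 11) = 1 ∧ b = 0 ∧ c = 0 ∧ d = 1) ∨ ((6 : ZMod 11) = -1 ∧ b = 0 ∧ c = 0 ∧ d = -1) := by decide +kernel

theorem kerS_ok_7 : ∀ b c d : ZMod 11, (7 : ZMod 11) * d - b * c = 1 → (∀ k < 24, tb (TS (7 : ZMod 11) b c d).1 k = k) → ((7 : ZMod 11) = 1 ∧ b = 0 ∧ c = 0 ∧ d = 1) ∨ ((7 : ZMod 11) = -1 ∧ b = 0 ∧ c = 0 ∧ d = -1) := by decide +kernel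

theorem kerS_ok_8 : ∀ b c d : ZMod 11, (8 : ZMod 11) * d - b * c = 1 → (∀ k < 24, tb (TS (8 : ZMod 11) b c d).1 k = k) → ((8 : ZMod 11) = 1 ∧ b = 0 ∧ c = 0 ∧ d = 1) ∨ ((8 : ZMod 11) = -1 ∧ b = 0 ∧ c = 0 ∧ d = -1) := by decide +kernel

theorem kerS_ok_9 : ∀ b c d : ZMod 11, (9 : ZMod 11) * d - b * c = 1 → (∀ k < 24, tb (TS (9 : ZMod 11) b c d).1 k = k) → ((9 : ZMod 11) = 1 ∧ b = 0 ∧ c = 0 ∧ d = 1) ∨ ((9 : ZMod 11) = -1 ∧ b = 0 ∧ c = 0 ∧ d = -1) := by decide +kernel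

theorem kerS_ok_10 : ∀ b c d : ZMod 11, (10 : ZMod 11) * d - b * c = 1 → (∀ k < 24, tb (TS (10 : ZMod 11) b c d).1 k = k) → ((10 : ZMod 11) = 1 ∧ b = 0 ∧ c = 0 ∧ d = 1) ∨ ((10 : ZMod 11) = -1 ∧ b = 0 ∧ c = 0 ∧ d = -1) := by decide +kernel

theorem kerS_ok : ∀ a : ZMod 11, ∀ b c d : ZMod 11, a * d - b * c = 1 → (∀ k < 24, tb (TS a b c d).1 k = k) → (a = 1 ∧ b = 0 ∧ c = 0 ∧ d = 1) ∨ (a = -1 ∧ b = 0 ∧ c = 0 ∧ d = -1) := by
  intro a
  rcases zmod11_cases a with rfl | rfl | rfl | rfl | rfl | rfl | rfl | rfl | rfl | rfl | rfl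
  · exact kerS_ok_0
  · exact kerS_ok_1
  · exact kerS_ok_2
  · exact kerS_ok_3
  · exact kerS_ok_4
  · exact kerS_ok_5
  · exact kerS_ok_6
  · exact kerS_ok_7
  · exact kerS_ok_8
  · exact kerS_ok_9
  · exact kerS_ok_10

theorem trS_ok : trS.all (fun e => goodM e.2 && (tb e.2.1 23 == e.1)) = true := by decide +kernel

theorem trS_all : ∀ i < 24, sqm.testBit i = false → trS.any (fun e => e.1 == i) = true := by
  decide +kernel

end Cfsg.Agent.helper28.L211
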