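import Mathlib
import Cfsg.Agent.Lib_helper28_L211Cert
import Cfsg.Agent.Lib_helper28_GL23
import Cfsg.Agent.Lib_helper28_Sharp
import Cfsg.Agent.Lib_helper12_Card
import Cfsg.Agent.Lib_helper2_Elt
import Cfsg.Agent.Lib_helper2_M24d

set_option autoImplicit false

/-! The stabiliser in `M11` of a point of the complementary dodecad is `PSL(2,11)`. -/

namespace Cfsg.Agent.helper28.L211

open Cfsg MulAction Cfsg.Agent.helper2.Golay Cfsg.Agent.helper28.M11cls
open scoped Pointwise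

/-- the special linear group of degree two over the field of eleven elements -/
abbrev SL211 : Type := Matrix.SpecialLinearGroup (Fin 2) (ZMod 11)

/-! ### generalities -/

theorem perm_inv_self2 (g : Equiv.Perm GolayPt) (u : GolayPt) : g⁻¹ (g u) = u :=
  Equiv.Perm.inv_eq_iff_eq.mpr rfl

theorem card_inf_stab' {G β : Type*} [Group G] [MulAction G β] (H : Subgroup G) (b : β) :
    (orbit ↥H b).ncard * Nat.card ↥(H ⊓ stabilizer G b) = Nat.card ↥H := by
  have h1 := MulAction.index_stabilizer ↥H b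
  have h2 := Subgroup.index_mul_card (stabilizer ↥H b)
  rw [h1, Sharp.stabilizer_subgroup, Sharp.card_subgroupOf, inf_comm] at h2
  exact h2

theorem mul_of_gens' {G H : Type*} [Group G] [Group H] (f : G → H) (S : Set G) (h1 : f 1 = 1)
    (hS : ∀ g, ∀ s ∈ S, f (g * s) = f g * f s) (hgen : Submonoid.closure S = ⊤) :
    ∀ g h, f (g * h) = f g * f h := by
  intro g h
  have hmem : h ∈ Submonoid.closure S := by rw [hgen]; trivial
  induction hmem using Submonoid.closure_induction generalizing g with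
  | mem s hs => exact hS g s hs
  | one => rw [mul_one, h1, mul_one]
  | mul a b _ _ iha ihb => rw [← mul_assoc, ihb (g * a), iha g, ihb a, mul_assoc]

/-! ### the base group -/

/-- the base group -/
abbrev H0 : Subgroup ↥M24 :=
  stabilizer ↥M24 (pts sqm) ⊓ stabilizer ↥M24 (pt 0) ⊓ stabilizer ↥M24 (pt 23)

theorem mem_H0_iff (k : ↥M24) : k ∈ H0 ↔
    ((k : Equiv.Perm GolayPt) • pts sqm = pts sqm ∧ (k : Equiv.Perm GolayPt) (pt 0) = pt 0) ∧
      (k : Equiv.Perm GolayPt) (pt 23) = pt 23 := Iff.rfl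

theorem goodM_spec {d : List ℕ × List ℕ} (h : goodM d = true) : tablesOK d.1 d.2 = true ∧
    gperm d ∈ M24 ∧ gperm d • pts sqm = pts sqm ∧ gperm d (pt 0) = pt 0 := by
  unfold goodM at h
  simp only [Bool.and_eq_true, beq_iff_eq] at h
  obtain ⟨⟨⟨h1, h2⟩, h3⟩, h4⟩ := h
  refine ⟨h1, gperm_mem h1 h2, ?_, ?_⟩
  · rw [gperm_smul_pts h1, h3]
  · rw [gperm_pt h1 (by norm_num), h4]

theorem goodS_spec {d : List ℕ × List ℕ} (h : goodS d = true) : tablesOK d.1 d.2 = true ∧
    gperm d ∈ M24 ∧ gperm d • pts sqm = pts sqm ∧ gperm d (pt 0) = pt 0 ∧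
      gperm d (pt 23) = pt 23 := by
  unfold goodS at h
  simp only [Bool.and_eq_true, beq_iff_eq] at h
  obtain ⟨⟨⟨⟨h1, h2⟩, h3⟩, h4⟩, h5⟩ := h
  refine ⟨h1, gperm_mem h1 h2, ?_, ?_, ?_⟩
  · rw [gperm_smul_pts h1, h3]
  · rw [gperm_pt h1 (by norm_num), h4]
  · rw [gperm_pt h1 (by norm_num), h5]

/-- package a good table pair as an element of the base group -/
noncomputable def mk0 (d : List ℕ × List ℕ) (h : goodS d = true) : ↥H0 :=
  ⟨⟨gperm d, (goodS_spec h).2.1⟩, (mem_H0_iff _).2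
    ⟨⟨(goodS_spec h).2.2.1, (goodS_spec h).2.2.2.1⟩, (goodS_spec h).2.2.2.2⟩⟩

theorem mk0_val (d : List ℕ × List ℕ) (h : goodS d = true) :
    (((mk0 d h : ↥H0) : ↥M24) : Equiv.Perm GolayPt) = gperm d := rfl

theorem H0_ext {k k' : ↥H0}
    (h : (((k : ↥H0) : ↥M24) : Equiv.Perm GolayPt) = (((k' : ↥H0) : ↥M24) : Equiv.Perm GolayPt)) :
    k = k' := by
  apply Subtype.ext
  apply Subtype.ext
  exact h

theorem mk0_mul {d e f : List ℕ × List ℕ} (hd : goodS d = true) (he : goodS e = true)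
    (hf : goodS f = true) (h : f.1 = comp d.1 e.1) : mk0 f hf = mk0 d hd * mk0 e he := by
  apply H0_ext
  show gperm f = gperm d * gperm e
  rw [← gperm_compD (goodS_spec hd).1 (goodS_spec he).1]
  exact gperm_eq_of_fst (goodS_spec hf).1 (tablesOK_compD (goodS_spec hd).1 (goodS_spec he).1) h

theorem mk0_eq_one {d : List ℕ × List ℕ} (hd : goodS d = true) (h : ∀ k < 24, tb d.1 k = k) :
    mk0 d hd = 1 := by
  apply H0_ext
  show gperm d = 1
  apply Equiv.Perm.ext
  intro q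
  rw [gperm_apply (goodS_spec hd).1, h _ (idx_lt q), pt_idx]
  rfl

theorem tb_of_eq_one {d : List ℕ × List ℕ} (hd : goodS d = true) (h : mk0 d hd = 1) :
    ∀ k < 24, tb d.1 k = k := by
  intro k hk
  have h2 := congrArg (fun g : ↥H0 => idx ((((g : ↥H0) : ↥M24) : Equiv.Perm GolayPt) (pt k))) h
  simp only [mk0_val] at h2
  rw [gperm_pt (goodS_spec hd).1 hk, idx_pt _ (tablesOK_spec (goodS_spec hd).1 k hk).1] at h2
  rw [h2]
  show idx ((1 : Equiv.Perm GolayPt) (pt k)) = k
  rw [Equiv.Perm.one_apply, idx_pt _ hk]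

/-! ### matrices and tuples -/

/-- tuple of a matrix -/
def toM4 (A : Matrix (Fin 2) (Fin 2) (ZMod 11)) : M4 := (A 0 0, A 0 1, A 1 0, A 1 1)

/-- matrix of a tuple -/
def mat4 (x : M4) : Matrix (Fin 2) (Fin 2) (ZMod 11) := !![x.1, x.2.1; x.2.2.1, x.2.2.2]

theorem toM4_mat4 (x : M4) : toM4 (mat4 x) = x := rfl

theorem toM4_inj {A B : Matrix (Fin 2) (Fin 2) (ZMod 11)} (h : toM4 A = toM4 B) : A = B := by
  unfold toM4 at h
  simp only [Prod.mk.injEq] at h
  obtain ⟨h00, h01, h10, h11⟩ := h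
  ext i j
  fin_cases i <;> fin_cases j
  · exact h00
  · exact h01
  · exact h10
  · exact h11

theorem toM4_mul (A B : Matrix (Fin 2) (Fin 2) (ZMod 11)) :
    toM4 (A * B) = mul4 (toM4 A) (toM4 B) := by
  unfold toM4 mul4
  simp only [Matrix.mul_apply, Fin.sum_univ_two]

theorem toM4_one : toM4 (1 : Matrix (Fin 2) (Fin 2) (ZMod 11)) = (1, 0, 0, 1) := by
  unfold toM4
  simp

theorem det_one (A : SL211) :
    (A : Matrix (Fin 2) (Fin 2) (ZMod 11)) 0 0 * (A : Matrix (Fin 2) (Fin 2) (ZMod 11)) 1 1 -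
      (A : Matrix (Fin 2) (Fin 2) (ZMod 11)) 0 1 * (A : Matrix (Fin 2) (Fin 2) (ZMod 11)) 1 0 = 1 := by
  have h := A.2
  rw [Matrix.det_fin_two] at h
  exact h

/-- the table pair of a matrix of determinant one -/
def TAS (A : SL211) : List ℕ × List ℕ := T4 (toM4 (A : Matrix (Fin 2) (Fin 2) (ZMod 11)))

theorem TAS_ok (A : SL211) : goodS (TAS A) = true := TS_ok _ _ _ _ (det_one A)

theorem gen_det (e : Bool) : (mat4 (gen4 e)).det = 1 := by
  rw [Matrix.det_fin_two]
  cases e <;> decide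

/-- the generators -/
def Gs (e : Bool) : SL211 := ⟨mat4 (gen4 e), gen_det e⟩

theorem toM4_Gs (e : Bool) : toM4 ((Gs e : SL211) : Matrix (Fin 2) (Fin 2) (ZMod 11)) = gen4 e :=
  rfl

theorem foldl_toM4 (w : List Bool) (X : SL211) :
    toM4 ((w.foldl (fun acc b => acc * Gs b) X : SL211) : Matrix (Fin 2) (Fin 2) (ZMod 11)) =
      w.foldl (fun acc b => mul4 acc (gen4 b)) (toM4 (X : Matrix (Fin 2) (Fin 2) (ZMod 11))) := by
  induction w generalizing X with
  | nil => rfl
  | cons b w ih =>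
    rw [List.foldl_cons, List.foldl_cons, ih, Matrix.SpecialLinearGroup.coe_mul, toM4_mul, toM4_Gs]

theorem foldl_mem (w : List Bool) (X : SL211) (hX : X ∈ Submonoid.closure (Set.range Gs)) :
    w.foldl (fun acc b => acc * Gs b) X ∈ Submonoid.closure (Set.range Gs) := by
  induction w generalizing X with
  | nil => exact hX
  | cons b w ih =>
    rw [List.foldl_cons]
    exact ih _ (Submonoid.mul_mem _ hX (Submonoid.subset_closure ⟨b, rfl⟩))

theorem gen_top : Submonoid.closure (Set.range Gs) = ⊤ := by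
  rw [eq_top_iff]
  intro A _
  have h := wordS_ok _ _ _ _ (det_one A)
  have h2 := foldl_toM4 (slW.getD (slIdx ((A : Matrix (Fin 2) (Fin 2) (ZMod 11)) 0 0)
    ((A : Matrix (Fin 2) (Fin 2) (ZMod 11)) 0 1) ((A : Matrix (Fin 2) (Fin 2) (ZMod 11)) 1 0)
    ((A : Matrix (Fin 2) (Fin 2) (ZMod 11)) 1 1)) []) 1
  rw [Matrix.SpecialLinearGroup.coe_one, toM4_one] at h2
  have h3 : toM4 (((slW.getD (slIdx ((A : Matrix (Fin 2) (Fin 2) (ZMod 11)) 0 0)
    ((A : Matrix (Fin 2) (Fin 2) (ZMod 11)) 0 1) ((A : Matrix (Fin 2) (Fin 2) (ZMod 11)) 1 0)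
    ((A : Matrix (Fin 2) (Fin 2) (ZMod 11)) 1 1)) []).foldl (fun acc b => acc * Gs b) 1 : SL211) :
      Matrix (Fin 2) (Fin 2) (ZMod 11)) = toM4 (A : Matrix (Fin 2) (Fin 2) (ZMod 11)) := by
    rw [h2]
    exact h
  have h4 : (slW.getD (slIdx ((A : Matrix (Fin 2) (Fin 2) (ZMod 11)) 0 0)
    ((A : Matrix (Fin 2) (Fin 2) (ZMod 11)) 0 1) ((A : Matrix (Fin 2) (Fin 2) (ZMod 11)) 1 0)
    ((A : Matrix (Fin 2) (Fin 2) (ZMod 11)) 1 1)) []).foldl (fun acc b => acc * Gs b) 1 = A :=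
    Subtype.ext (toM4_inj h3)
  rw [← h4]
  exact foldl_mem _ _ (Submonoid.one_mem _)

theorem f_one : mk0 (TAS 1) (TAS_ok 1) = 1 := by
  apply mk0_eq_one
  have h : TAS 1 = TS 1 0 0 1 := by
    unfold TAS
    rw [Matrix.SpecialLinearGroup.coe_one, toM4_one]
    rfl
  rw [h]
  exact oneS_ok

theorem f_gen (g : SL211) (e : Bool) :
    mk0 (TAS (g * Gs e)) (TAS_ok _) = mk0 (TAS g) (TAS_ok g) * mk0 (TAS (Gs e)) (TAS_ok _) := by
  apply mk0_mul
  unfold TAS
  rw [Matrix.SpecialLinearGroup.coe_mul, toM4_mul, toM4_Gs]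
  exact mulgenS_ok _ _ _ _ (det_one g) e

/-- the homomorphism from the special linear group -/
noncomputable def f : SL211 →* ↥H0 :=
  MonoidHom.mk' (fun A => mk0 (TAS A) (TAS_ok A))
    (mul_of_gens' (fun A => mk0 (TAS A) (TAS_ok A)) (Set.range Gs) f_one
      (by rintro g _ ⟨b, rfl⟩; exact f_gen g b) gen_top)

theorem f_apply (A : SL211) : f A = mk0 (TAS A) (TAS_ok A) := rfl

/-! ### the kernel -/

theorem ker_cases {A : SL211} (h : f A = 1) :
    (A : Matrix (Fin 2) (Fin 2) (ZMod 11)) = 1 ∨ (A : Matrix (Fin 2) (Fin 2) (ZMod 11)) = -1 := by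
  rw [f_apply] at h
  rcases kerS_ok _ _ _ _ (det_one A) (tb_of_eq_one _ h) with ⟨h00, h01, h10, h11⟩ |
    ⟨h00, h01, h10, h11⟩
  · left
    apply toM4_inj
    rw [toM4_one]
    exact Prod.ext h00 (Prod.ext h01 (Prod.ext h10 h11))
  · right
    apply toM4_inj
    have hneg : toM4 (-1 : Matrix (Fin 2) (Fin 2) (ZMod 11)) = (-1, 0, 0, -1) := by
      unfold toM4
      simp
    rw [hneg]
    exact Prod.ext h00 (Prod.ext h01 (Prod.ext h10 h11))

theorem f_of_one {A : SL211} (h : (A : Matrix (Fin 2) (Fin 2) (ZMod 11)) = 1) : f A = 1 := by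
  have : A = 1 := Subtype.ext h
  rw [this, map_one]

theorem f_of_neg {A : SL211} (h : (A : Matrix (Fin 2) (Fin 2) (ZMod 11)) = -1) : f A = 1 := by
  rw [f_apply]
  apply mk0_eq_one
  have h2 : TAS A = TS (-1) 0 0 (-1) := by
    unfold TAS
    rw [h]
    have hneg : toM4 (-1 : Matrix (Fin 2) (Fin 2) (ZMod 11)) = (-1, 0, 0, -1) := by
      unfold toM4
      simp
    rw [hneg]
    rfl
  rw [h2]
  exact negS_ok

theorem sq_cases : ∀ r : ZMod 11, r ^ 2 = 1 → r = 1 ∨ r = -1 := by decide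

theorem ker_eq_center : f.ker = Subgroup.center SL211 := by
  ext A
  rw [MonoidHom.mem_ker, Matrix.SpecialLinearGroup.mem_center_iff]
  constructor
  · intro h
    rcases ker_cases h with h1 | h1
    · refine ⟨1, by simp, ?_⟩
      rw [h1]
      simp
    · refine ⟨-1, by simp, ?_⟩
      rw [h1, map_neg, map_one]
  · rintro ⟨r, hr, hA⟩
    rw [Fintype.card_fin] at hr
    rcases sq_cases r hr with rfl | rfl
    · apply f_of_one
      rw [← hA]
      simp
    · apply f_of_neg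
      rw [← hA, map_neg, map_one]

theorem card_ker_le : Nat.card ↥f.ker ≤ 2 := by
  classical
  have hinj : Function.Injective
      (fun A : ↥f.ker => decide (((A : SL211) : Matrix (Fin 2) (Fin 2) (ZMod 11)) = 1)) := by
    intro A B hAB
    apply Subtype.ext
    apply Subtype.ext
    have hA := ker_cases (MonoidHom.mem_ker.1 A.2)
    have hB := ker_cases (MonoidHom.mem_ker.1 B.2)
    by_cases h1 : ((A : SL211) : Matrix (Fin 2) (Fin 2) (ZMod 11)) = 1
    · have h2 : ((B : SL211) : Matrix (Fin 2) (Fin 2) (ZMod 11)) = 1 := by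
        have := hAB
        simp only [h1, decide_true] at this
        exact of_decide_eq_true this.symm
      rw [h1, h2]
    · have h2 : ¬ ((B : SL211) : Matrix (Fin 2) (Fin 2) (ZMod 11)) = 1 := by
        intro h2
        have := hAB
        simp only [h2, decide_true] at this
        exact h1 (of_decide_eq_true this)
      rcases hA with hA | hA
      · exact absurd hA h1
      · rcases hB with hB | hB
        · exact absurd hB h2
        · rw [hA, hB]
  have h := Nat.card_le_card_of_injective _ hinj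
  rw [Nat.card_eq_fintype_card (α := Bool), Fintype.card_bool] at h
  exact h

/-! ### the order of the base group -/

theorem sqd_mem : pts sqm ∈ dodecads := by
  rw [← sq_eq]; exact sq_mem

theorem pt0_mem : pt 0 ∈ pts sqm := by rw [mem_pts]; decide

/-- the base `M11` is transitive on the complement of the base dodecad -/
theorem base_trans (q : GolayPt) (hq : q ∉ pts sqm) : ∃ h ∈ M24, h • pts sqm = pts sqm ∧
    h (pt 0) = pt 0 ∧ h (pt 23) = q := by
  rw [mem_pts, Bool.not_eq_true] at hq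
  have h := trS_all (idx q) (idx_lt q) hq
  rw [List.any_eq_true] at h
  obtain ⟨e, he, hei⟩ := h
  rw [beq_iff_eq] at hei
  have h2 := List.all_eq_true.mp trS_ok e he
  simp only [Bool.and_eq_true, beq_iff_eq] at h2
  obtain ⟨h3, h4⟩ := h2
  have hs := goodM_spec h3
  refine ⟨gperm e.2, hs.2.1, hs.2.2.1, hs.2.2.2, ?_⟩
  rw [gperm_pt hs.1 (by norm_num), h4, hei, pt_idx]

theorem card_H0 : Nat.card ↥H0 = 660 := by
  have h := card_inf_stab' (stabilizer ↥M24 (pts sqm) ⊓ stabilizer ↥M24 (pt 0)) (pt 23)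
  have horb : orbit ↥(stabilizer ↥M24 (pts sqm) ⊓ stabilizer ↥M24 (pt 0)) (pt 23) =
      ↑((pts sqm)ᶜ : Finset GolayPt) := by
    ext q
    rw [Finset.mem_coe, Finset.mem_compl]
    constructor
    · rintro ⟨k, rfl⟩ hk
      have hk2 : ((k : ↥M24) : Equiv.Perm GolayPt) • pts sqm = pts sqm := k.2.1
      have hk3 : ((k : ↥M24) : Equiv.Perm GolayPt) (pt 23) ∈ pts sqm := hk
      have hk4 : (((k : ↥M24) : Equiv.Perm GolayPt))⁻¹ • pts sqm = pts sqm := by
        rw [inv_smul_eq_iff, hk2]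
      have hk5 := Finset.smul_mem_smul_finset (a := (((k : ↥M24) : Equiv.Perm GolayPt))⁻¹) hk3
      rw [hk4, Equiv.Perm.smul_def, perm_inv_self2, mem_pts] at hk5
      revert hk5
      decide
    · intro hq
      obtain ⟨h, hh, hd, h0, hq2⟩ := base_trans q hq
      exact ⟨⟨⟨h, hh⟩, ⟨hd, h0⟩⟩, hq2⟩
  rw [horb, Set.ncard_coe_finset, Finset.card_compl, Fintype.card_option, ZMod.card,
    card_of_mem_dodecads sqd_mem, card_stab_flag sqd_mem pt0_mem] at h
  show Nat.card ↥(stabilizer ↥M24 (pts sqm) ⊓ stabilizer ↥M24 (pt 0) ⊓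
    stabilizer ↥M24 (pt 23)) = 660
  omega

theorem f_surj : Function.Surjective f := by
  rw [← MonoidHom.range_eq_top]
  apply Subgroup.eq_top_of_card_eq
  have h1 := Subgroup.card_eq_card_quotient_mul_card_subgroup f.ker
  have hc : Nat.card SL211 = 1320 := by
    haveI : Fact (Nat.Prime 11) := ⟨by norm_num⟩
    have h := Cfsg.Agent.helper12.card_SL2 (F := ZMod 11)
    rw [ZMod.card] at h
    exact h.trans (by norm_num)
  rw [hc] at h1
  have h2 : Nat.card (SL211 ⧸ f.ker) = Nat.card ↥f.range :=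
    Nat.card_congr (QuotientGroup.quotientKerEquivRange f).toEquiv
  have h3 := card_ker_le
  have h4 : 0 < Nat.card ↥f.ker := Nat.card_pos
  have h5 : Nat.card ↥f.range ≤ Nat.card ↥H0 := Subgroup.card_le_card_group _
  rw [card_H0] at h5 ⊢
  rw [h2] at h1
  nlinarith

theorem base_iso : Nonempty (↥H0 ≃* Matrix.ProjectiveSpecialLinearGroup (Fin 2) (ZMod 11)) := by
  have e1 : SL211 ⧸ f.ker ≃* ↥H0 := QuotientGroup.quotientKerEquivOfSurjective f f_surj
  have e2 : SL211 ⧸ f.ker ≃* SL211 ⧸ Subgroup.center SL211 :=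
    QuotientGroup.quotientMulEquivOfEq ker_eq_center
  exact ⟨e1.symm.trans e2⟩

end Cfsg.Agent.helper28.L211
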