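import Mathlib
import Cfsg.Agent.Lib_helper28_L211

set_option autoImplicit false

/-! Transport to an arbitrary dodecad, point of it and point outside it. -/

namespace Cfsg.Agent.helper28.L211

open Cfsg MulAction Cfsg.Agent.helper2.Golay Cfsg.Agent.helper28.M11cls
open scoped Pointwise

theorem main {d : Finset GolayPt} (hd : d ∈ dodecads) {p q : GolayPt} (hp : p ∈ d) (hq : q ∉ d) :
    Nonempty (↥(stabilizer ↥M24 d ⊓ stabilizer ↥M24 p ⊓ stabilizer ↥M24 q) ≃*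
      Matrix.ProjectiveSpecialLinearGroup (Fin 2) (ZMod 11)) := by
  obtain ⟨x, hx, hx0⟩ := exists_emb_through (s := d)
    (by rw [card_of_mem_dodecads hd]; norm_num) hp 0
  obtain ⟨y, hy, hy0⟩ := exists_emb_through (s := pts sqm)
    (by rw [card_of_mem_dodecads sqd_mem]; norm_num) pt0_mem 0
  obtain ⟨g1, hg1, hg1d, hg1x⟩ := dodecad_five_transitive hd sqd_mem x y hx hy
  have hg1p : g1 p = pt 0 := by rw [← hx0, hg1x 0, hy0]
  have hq1 : g1 q ∉ pts sqm := by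
    intro h
    rw [← hg1d] at h
    have h2 : g1 • q ∈ g1 • d := h
    rw [Finset.smul_mem_smul_finset_iff] at h2
    exact hq h2
  obtain ⟨h, hh, hhd, hh0, hhq⟩ := base_trans (g1 q) hq1
  obtain ⟨g, hgdef⟩ : ∃ g : Equiv.Perm GolayPt, g = h⁻¹ * g1 := ⟨_, rfl⟩
  have hg : g ∈ M24 := by rw [hgdef]; exact Subgroup.mul_mem _ (Subgroup.inv_mem _ hh) hg1
  have hgd : g • d = pts sqm := by
    rw [hgdef, mul_smul, hg1d, inv_smul_eq_iff, hhd]
  have hgp : g p = pt 0 := by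
    rw [hgdef, Equiv.Perm.mul_apply, hg1p, Equiv.Perm.inv_eq_iff_eq, hh0]
  have hgq : g q = pt 23 := by
    rw [hgdef, Equiv.Perm.mul_apply, Equiv.Perm.inv_eq_iff_eq, hhq]
  have hmemK : ∀ k : ↥M24, k ∈ stabilizer ↥M24 d ⊓ stabilizer ↥M24 p ⊓ stabilizer ↥M24 q ↔
      ((k : Equiv.Perm GolayPt) • d = d ∧ (k : Equiv.Perm GolayPt) p = p) ∧
        (k : Equiv.Perm GolayPt) q = q := fun k => Iff.rfl
  have hK : ∀ k : ↥M24, k ∈ stabilizer ↥M24 d ⊓ stabilizer ↥M24 p ⊓ stabilizer ↥M24 q ↔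
      (⟨g, hg⟩ : ↥M24) * k * (⟨g, hg⟩ : ↥M24)⁻¹ ∈ H0 := by
    intro k
    rw [hmemK, mem_H0_iff]
    show _ ↔ ((g * (k : Equiv.Perm GolayPt) * g⁻¹) • pts sqm = pts sqm ∧
      (g * (k : Equiv.Perm GolayPt) * g⁻¹) (pt 0) = pt 0) ∧
      (g * (k : Equiv.Perm GolayPt) * g⁻¹) (pt 23) = pt 23
    rw [← hgd, mul_smul, mul_smul, inv_smul_smul, smul_left_cancel_iff, Equiv.Perm.mul_apply,
      Equiv.Perm.mul_apply, Equiv.Perm.mul_apply, Equiv.Perm.mul_apply, ← hgp, ← hgq,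
      perm_inv_self2, perm_inv_self2, g.injective.eq_iff, g.injective.eq_iff]
  obtain ⟨e0⟩ := base_iso
  exact ⟨(GL23.conjEquiv _ H0 (⟨g, hg⟩ : ↥M24) hK).trans e0⟩

end Cfsg.Agent.helper28.L211
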