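import Mathlib
import Cfsg.Prelude.Def_Solvable
import Cfsg.Prelude.Def_Transfer
import Cfsg.Agent.Lib_helper1_Core
set_option autoImplicit false

/-! Large extraspecial 2-subgroups: `Q x = O_2(C_G(x))`, orthogonality of singular involutions. -/

namespace Cfsg.Agent.helper28.LargeES

open Cfsg
open scoped commutatorElement

variable {G : Type*} [Group G]

/-- `O_2` of the centralizer of `x`, as a subgroup of `G` -/
def Qof (x : G) : Subgroup G :=
  (Cfsg.pCore 2 ↥(Subgroup.centralizer ({x} : Set G))).map (Subgroup.centralizer ({x} : Set G)).subtype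

lemma mem_cent_iff {x h : G} : h ∈ Subgroup.centralizer ({x} : Set G) ↔ h * x = x * h := by
  rw [Subgroup.mem_centralizer_iff]
  constructor
  · intro H; exact (H x rfl).symm
  · intro H y hy; rw [Set.mem_singleton_iff] at hy; rw [hy]; exact H.symm

lemma Qof_comm {x u : G} (hu : u ∈ Qof x) : u * x = x * u := by
  obtain ⟨u', -, rfl⟩ := hu
  exact mem_cent_iff.1 u'.2

lemma Qof_isPGroup (x : G) : IsPGroup 2 (Qof x) :=
  (Cfsg.Agent.helper1.pCore_isPGroup 2).map _

lemma Qof_normal {x h u : G} (hc : h * x = x * h) (hu : u ∈ Qof x) : h * u * h⁻¹ ∈ Qof x := by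
  obtain ⟨u', hu', rfl⟩ := hu
  have hn := Cfsg.Agent.helper1.pCore_normal (G := ↥(Subgroup.centralizer ({x} : Set G))) 2
  exact ⟨⟨h, mem_cent_iff.2 hc⟩ * u' * ⟨h, mem_cent_iff.2 hc⟩⁻¹, hn.conj_mem u' hu' _, rfl⟩

lemma le_Qof {x : G} {N : Subgroup G} (hN : ∀ n ∈ N, n * x = x * n) (h2 : IsPGroup 2 N)
    (hn : ∀ h : G, h * x = x * h → ∀ n ∈ N, h * n * h⁻¹ ∈ N) : N ≤ Qof x := by
  intro n hnN
  have hnorm : (N.subgroupOf (Subgroup.centralizer ({x} : Set G))).Normal := by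
    constructor
    intro a ha b
    rw [Subgroup.mem_subgroupOf] at ha ⊢
    have hb : (b : G) * x = x * b := mem_cent_iff.1 b.2
    simpa using hn b hb a ha
  have hp : IsPGroup 2 (N.subgroupOf (Subgroup.centralizer ({x} : Set G))) := h2.comap_subtype
  have := Cfsg.Agent.helper1.le_pCore hnorm hp
  exact ⟨⟨n, mem_cent_iff.2 (hN n hnN)⟩, this (Subgroup.mem_subgroupOf.2 hnN), rfl⟩

/-- conjugation equivariance of `Qof` -/
lemma Qof_conj (g x u : G) (hu : u ∈ Qof x) : g * u * g⁻¹ ∈ Qof (g * x * g⁻¹) := by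
  have hle : (Qof x).map (MulAut.conj g).toMonoidHom ≤ Qof (g * x * g⁻¹) := by
    apply le_Qof
    · rintro _ ⟨v, hv, rfl⟩
      have := Qof_comm hv
      simp only [MulEquiv.coe_toMonoidHom, MulAut.conj_apply]
      calc g * v * g⁻¹ * (g * x * g⁻¹) = g * (v * x) * g⁻¹ := by group
        _ = g * (x * v) * g⁻¹ := by rw [this]
        _ = _ := by group
    · exact (Qof_isPGroup x).map _
    · rintro h hh _ ⟨v, hv, rfl⟩
      refine ⟨(g⁻¹ * h * g) * v * (g⁻¹ * h * g)⁻¹, ?_, ?_⟩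
      · apply Qof_normal _ hv
        calc g⁻¹ * h * g * x = g⁻¹ * (h * (g * x * g⁻¹)) * g := by group
          _ = g⁻¹ * ((g * x * g⁻¹) * h) * g := by rw [hh]
          _ = _ := by group
      · simp only [MulEquiv.coe_toMonoidHom, MulAut.conj_apply]
        group
  exact hle ⟨u, hu, by simp⟩

/-- abstract properties of a large extraspecial subgroup `Q` with centre generated by `z` -/
structure ES (Q : Subgroup G) (z : G) : Prop where
  mem : z ∈ Q
  ne_one : z ≠ 1
  sq : z * z = 1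
  central : ∀ a ∈ Q, a * z = z * a
  comm : ∀ a ∈ Q, ∀ b ∈ Q, ⁅a, b⁆ = 1 ∨ ⁅a, b⁆ = z
  cent : ∀ a ∈ Q, (∀ b ∈ Q, a * b = b * a) → a = 1 ∨ a = z
  self : ∀ h : G, (∀ b ∈ Q, h * b = b * h) → h ∈ Q

/-- the involution `z` lies in `Qof z` -/
lemma self_mem_Qof {z : G} (hz : orderOf z = 2) : z ∈ Qof z := by
  have : Subgroup.zpowers z ≤ Qof z := by
    apply le_Qof
    · intro n hn
      obtain ⟨k, rfl⟩ := Subgroup.mem_zpowers_iff.1 hn
      exact (Commute.zpow_left (Commute.refl z) k).eq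
    · apply IsPGroup.of_card (n := 1)
      rw [Nat.card_zpowers, hz, pow_one]
    · intro h hh n hn
      obtain ⟨k, rfl⟩ := Subgroup.mem_zpowers_iff.1 hn
      have hc : Commute h (z ^ k) := Commute.zpow_right hh k
      rw [hc.eq, mul_inv_cancel_right]
      exact Subgroup.zpow_mem_zpowers z k
  exact this (Subgroup.mem_zpowers z)

/-- the extraspecial hypotheses give the abstract structure -/
lemma ES_of_hyp {z : G} (hz : orderOf z = 2) (hE : Cfsg.IsExtraspecial 2 ↥(Qof z))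
    (hC : Subgroup.centralizer ((Qof z : Subgroup G) : Set G) ≤ Qof z) : ES (Qof z) z := by
  obtain ⟨⟨-, -, hcomm⟩, hcard⟩ := hE
  have hzQ := self_mem_Qof hz
  have hz1 : z ≠ 1 := by
    intro h1
    rw [h1, orderOf_one] at hz
    omega
  have hcen : ∀ a ∈ Qof z, a * z = z * a := fun a ha => Qof_comm ha
  have hzc : (⟨z, hzQ⟩ : ↥(Qof z)) ∈ Subgroup.center ↥(Qof z) := by
    rw [Subgroup.mem_center_iff]
    intro b
    apply Subtype.ext
    exact hcen b b.2
  have htwo : ∀ c : ↥(Qof z), c ∈ Subgroup.center ↥(Qof z) → c = 1 ∨ c = ⟨z, hzQ⟩ := by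
    intro c hc
    by_cases hc1 : c = 1
    · exact Or.inl hc1
    · right
      have h2 := (Nat.card_eq_two_iff' (1 : ↥(Subgroup.center ↥(Qof z)))).1 hcard
      obtain ⟨y, -, hy⟩ := h2
      have e1 : (⟨c, hc⟩ : ↥(Subgroup.center ↥(Qof z))) = y := by
        apply hy
        intro e
        apply hc1
        exact congrArg Subtype.val e
      have e2 : (⟨⟨z, hzQ⟩, hzc⟩ : ↥(Subgroup.center ↥(Qof z))) = y := by
        apply hy
        intro e
        apply hz1
        have := congrArg (fun t : ↥(Subgroup.center ↥(Qof z)) => ((t : ↥(Qof z)) : G)) e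
        simpa using this
      have := e1.trans e2.symm
      exact congrArg Subtype.val this
  refine ⟨hzQ, hz1, ?_, hcen, ?_, ?_, ?_⟩
  · rw [← pow_two, ← hz]; exact pow_orderOf_eq_one z
  · intro a ha b hb
    have hm : ⁅(⟨a, ha⟩ : ↥(Qof z)), ⟨b, hb⟩⁆ ∈ commutator ↥(Qof z) :=
      Subgroup.commutator_mem_commutator (Subgroup.mem_top _) (Subgroup.mem_top _)
    rw [hcomm] at hm
    have e : ((⁅(⟨a, ha⟩ : ↥(Qof z)), ⟨b, hb⟩⁆ : ↥(Qof z)) : G) = ⁅a, b⁆ := rfl
    rcases htwo _ hm with h1 | h1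
    · left
      rw [← e, h1]; rfl
    · right
      rw [← e, h1]
  · intro a ha hab
    have hm : (⟨a, ha⟩ : ↥(Qof z)) ∈ Subgroup.center ↥(Qof z) := by
      rw [Subgroup.mem_center_iff]
      intro b
      apply Subtype.ext
      exact (hab b b.2).symm
    rcases htwo _ hm with h1 | h1
    · left; exact congrArg Subtype.val h1
    · right; exact congrArg Subtype.val h1
  · intro h hh
    apply hC
    rw [Subgroup.mem_centralizer_iff]
    intro b hb
    exact (hh b hb).symm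


section ESlemmas

variable {Q : Subgroup G} {z : G}

lemma ES.zinv (h : ES Q z) : z⁻¹ = z := inv_eq_of_mul_eq_one_left h.sq

lemma ES.cj_z (h : ES Q z) {a : G} (ha : a ∈ Q) : a * z * a⁻¹ = z := by
  rw [h.central a ha, mul_inv_cancel_right]

lemma conj_eq (h u : G) : h * u * h⁻¹ = ⁅h, u⁆ * u := by rw [commutatorElement_def]; group

lemma ES.cj_cases (h : ES Q z) {a b : G} (ha : a ∈ Q) (hb : b ∈ Q) :
    a * b * a⁻¹ = b ∨ a * b * a⁻¹ = z * b := by
  rw [conj_eq]
  rcases h.comm a ha b hb with e | e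
  · left; rw [e, one_mul]
  · right; rw [e]

lemma cj_eq_iff {a b : G} : a * b * a⁻¹ = b ↔ a * b = b * a := by
  constructor
  · intro e
    calc a * b = (a * b * a⁻¹) * a := by group
      _ = b * a := by rw [e]
  · intro e; rw [e, mul_inv_cancel_right]

lemma ES.sq_cases (h : ES Q z) {a : G} (ha : a ∈ Q) : a * a = 1 ∨ a * a = z := by
  apply h.cent (a * a) (Q.mul_mem ha ha)
  intro b hb
  rw [← cj_eq_iff]
  have e0 : a * a * b * (a * a)⁻¹ = a * (a * b * a⁻¹) * a⁻¹ := by group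
  rw [e0]
  rcases h.cj_cases ha hb with e | e
  · rw [e, e]
  · rw [e]
    have e1 : a * (z * b) * a⁻¹ = (a * z * a⁻¹) * (a * b * a⁻¹) := by group
    rw [e1, h.cj_z ha, e, ← mul_assoc, h.sq, one_mul]

/-- the subgroup `{1, z}` -/
def Zs (z : G) (hsq : z * z = 1) : Subgroup G where
  carrier := {ξ | ξ = 1 ∨ ξ = z}
  mul_mem' := by
    rintro a b (rfl | rfl) (rfl | rfl)
    · left; simp
    · right; simp
    · right; simp
    · left; exact hsq
  one_mem' := Or.inl rfl
  inv_mem' := by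
    rintro a (rfl | rfl)
    · left; simp
    · right; exact inv_eq_of_mul_eq_one_left hsq

lemma mem_Zs {z : G} {hsq : z * z = 1} {ξ : G} : ξ ∈ Zs z hsq ↔ ξ = 1 ∨ ξ = z := Iff.rfl

end ESlemmas

lemma ES.conj {Qf : G → Subgroup G}
    (heq : ∀ g y u, u ∈ Qf y → g * u * g⁻¹ ∈ Qf (g * y * g⁻¹)) {z : G}
    (h : ES (Qf z) z) (g : G) : ES (Qf (g * z * g⁻¹)) (g * z * g⁻¹) := by
  have back : ∀ u ∈ Qf (g * z * g⁻¹), g⁻¹ * u * g ∈ Qf z := by
    intro u hu
    have := heq g⁻¹ _ u hu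
    have e : g⁻¹ * (g * z * g⁻¹) * g⁻¹⁻¹ = z := by group
    rw [e, inv_inv] at this
    exact this
  have fwd : ∀ u ∈ Qf z, g * u * g⁻¹ ∈ Qf (g * z * g⁻¹) := fun u hu => heq g z u hu
  refine ⟨fwd z h.mem, ?_, ?_, ?_, ?_, ?_, ?_⟩
  · intro e
    apply h.ne_one
    calc z = g⁻¹ * (g * z * g⁻¹) * g := by group
      _ = 1 := by rw [e]; group
  · calc g * z * g⁻¹ * (g * z * g⁻¹) = g * (z * z) * g⁻¹ := by group
      _ = 1 := by rw [h.sq]; group
  · intro a ha
    have := h.central _ (back a ha)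
    calc a * (g * z * g⁻¹) = g * ((g⁻¹ * a * g) * z) * g⁻¹ := by group
      _ = g * (z * (g⁻¹ * a * g)) * g⁻¹ := by rw [this]
      _ = _ := by group
  · intro a ha b hb
    have e : ⁅a, b⁆ = g * ⁅g⁻¹ * a * g, g⁻¹ * b * g⁆ * g⁻¹ := by
      simp only [commutatorElement_def]; group
    rcases h.comm _ (back a ha) _ (back b hb) with e1 | e1
    · left; rw [e, e1]; group
    · right; rw [e, e1]
  · intro a ha hab
    have hh : ∀ b ∈ Qf z, (g⁻¹ * a * g) * b = b * (g⁻¹ * a * g) := by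
      intro b hb
      have := hab _ (fwd b hb)
      calc g⁻¹ * a * g * b = g⁻¹ * (a * (g * b * g⁻¹)) * g := by group
        _ = g⁻¹ * ((g * b * g⁻¹) * a) * g := by rw [this]
        _ = _ := by group
    rcases h.cent _ (back a ha) hh with e1 | e1
    · left
      calc a = g * (g⁻¹ * a * g) * g⁻¹ := by group
        _ = 1 := by rw [e1]; group
    · right
      calc a = g * (g⁻¹ * a * g) * g⁻¹ := by group
        _ = _ := by rw [e1]
  · intro k hk
    have hh : ∀ b ∈ Qf z, (g⁻¹ * k * g) * b = b * (g⁻¹ * k * g) := by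
      intro b hb
      have := hk _ (fwd b hb)
      calc g⁻¹ * k * g * b = g⁻¹ * (k * (g * b * g⁻¹)) * g := by group
        _ = g⁻¹ * ((g * b * g⁻¹) * k) * g := by rw [this]
        _ = _ := by group
    have hm := fwd _ (h.self _ hh)
    have e : g * (g⁻¹ * k * g) * g⁻¹ = k := by group
    rw [e] at hm
    exact hm


/-- **Orthogonality is symmetric.** -/
theorem main {Qf : G → Subgroup G}
    (heq : ∀ g y u, u ∈ Qf y → g * u * g⁻¹ ∈ Qf (g * y * g⁻¹))
    {z x : G} (hz : ES (Qf z) z) (hx : ES (Qf x) x) (hxz : x ∈ Qf z) : z ∈ Qf x := by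
  by_cases hne : x = z
  · rw [hne]; exact hz.mem
  by_contra hcon
  have nrm : ∀ {h y u : G}, h * y = y * h → u ∈ Qf y → h * u * h⁻¹ ∈ Qf y := by
    intro h y u hc hu
    have := heq h y u hu
    rwa [hc, mul_inv_cancel_right] at this
  have hzx : z * x = x * z := (hz.central x hxz).symm
  have hxx : x * x = 1 := hx.sq
  have hzz : z * z = 1 := hz.sq
  have hxi : x⁻¹ = x := hx.zinv
  have hzi : z⁻¹ = z := hz.zinv
  have hxP : x ∈ Qf x := hx.mem
  -- M1
  obtain ⟨q0, hq0, hq0x⟩ : ∃ q0 ∈ Qf z, q0 * x * q0⁻¹ = z * x := by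
    by_contra hno
    push Not at hno
    have hall : ∀ b ∈ Qf z, x * b = b * x := by
      intro b hb
      rcases hz.cj_cases hb hxz with e | e
      · exact (cj_eq_iff.1 e).symm
      · exact absurd e (hno b hb)
    rcases hz.cent x hxz hall with e | e
    · exact hx.ne_one e
    · exact hne e
  have hq0x' : q0⁻¹ * x * q0 = z * x := by
    have e1 : q0⁻¹ * (q0 * x * q0⁻¹) * q0 = x := by group
    rw [hq0x] at e1
    have e2 : q0⁻¹ * (z * x) * q0 = (q0⁻¹ * z * q0⁻¹⁻¹) * (q0⁻¹ * x * q0) := by group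
    rw [e2, hz.cj_z (Subgroup.inv_mem _ hq0)] at e1
    calc q0⁻¹ * x * q0 = z * (z * (q0⁻¹ * x * q0)) := by rw [← mul_assoc, hzz, one_mul]
      _ = z * x := by rw [e1]
  have Aidx : ∀ q ∈ Qf z, q * x = x * q ∨ (q * q0⁻¹) * x = x * (q * q0⁻¹) := by
    intro q hq
    rcases hz.cj_cases hq hxz with e | e
    · left; exact cj_eq_iff.1 e
    · right
      rw [← cj_eq_iff]
      have e1 : q * q0⁻¹ * x * (q * q0⁻¹)⁻¹ = q * (q0⁻¹ * x * q0) * q⁻¹ := by group
      rw [e1, hq0x']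
      have e2 : q * (z * x) * q⁻¹ = (q * z * q⁻¹) * (q * x * q⁻¹) := by group
      rw [e2, hz.cj_z hq, e, ← mul_assoc, hzz, one_mul]
  have comm_all : ∀ k : G, k * q0 = q0 * k → (∀ a ∈ Qf z, a * x = x * a → k * a = a * k) →
      ∀ q ∈ Qf z, k * q = q * k := by
    intro k hk0 hkA q hq
    rcases Aidx q hq with e | e
    · exact hkA q hq e
    · have h1 := hkA (q * q0⁻¹) (Subgroup.mul_mem _ hq (Subgroup.inv_mem _ hq0)) e
      calc k * q = (k * (q * q0⁻¹)) * q0 := by group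
        _ = (q * q0⁻¹ * k) * q0 := by rw [h1]
        _ = q * q0⁻¹ * (k * q0) := by group
        _ = q * q0⁻¹ * (q0 * k) := by rw [hk0]
        _ = q * k := by group
  have DC1 : ∀ b ∈ Qf z, (∀ a ∈ Qf z, a * x = x * a → b * a = a * b) → b * q0 = q0 * b →
      b = 1 ∨ b = z := by
    intro b hb hbA hb0
    exact hz.cent b hb (comm_all b hb0 hbA)
  have hxq0 : x * q0 * x⁻¹ = z * q0 := by
    have e1 : x * q0 * x⁻¹ = (q0 * x * q0⁻¹ * x⁻¹)⁻¹ * q0 := by group
    rw [e1, hq0x, mul_inv_cancel_right, hzi]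
  have DC : ∀ b ∈ Qf z, (∀ a ∈ Qf z, a * x = x * a → b * a = a * b) →
      b = 1 ∨ b = z ∨ b = x ∨ b = z * x := by
    intro b hb hbA
    rcases hz.cj_cases hb hq0 with e | e
    · rcases DC1 b hb hbA (cj_eq_iff.1 e) with r | r
      · exact Or.inl r
      · exact Or.inr (Or.inl r)
    · have hb' : b * x ∈ Qf z := Subgroup.mul_mem _ hb hxz
      have hb'A : ∀ a ∈ Qf z, a * x = x * a → (b * x) * a = a * (b * x) := by
        intro a ha hax
        rw [mul_assoc, ← hax, ← mul_assoc, hbA a ha hax, mul_assoc]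
      have hb'0 : (b * x) * q0 = q0 * (b * x) := by
        rw [← cj_eq_iff]
        have e1 : b * x * q0 * (b * x)⁻¹ = b * (x * q0 * x⁻¹) * b⁻¹ := by group
        rw [e1, hxq0]
        have e2 : b * (z * q0) * b⁻¹ = (b * z * b⁻¹) * (b * q0 * b⁻¹) := by group
        rw [e2, hz.cj_z hb, e, ← mul_assoc, hzz, one_mul]
      rcases DC1 (b * x) hb' hb'A hb'0 with r | r
      · right; right; left
        calc b = (b * x) * x⁻¹ := by group
          _ = x := by rw [r, one_mul, hxi]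
      · right; right; right
        calc b = (b * x) * x⁻¹ := by group
          _ = z * x := by rw [r, hxi]
  have M3 : ∀ b ∈ Qf z, b ∈ Qf x → b = 1 ∨ b = x := by
    intro b hb hbP
    have hbA : ∀ a ∈ Qf z, a * x = x * a → b * a = a * b := by
      intro a ha hax
      have hc : ⁅a, b⁆ ∈ Qf x := by
        rw [commutatorElement_def]
        exact Subgroup.mul_mem _ (nrm hax hbP) (Subgroup.inv_mem _ hbP)
      rcases hz.comm a ha b hb with e | e
      · exact (commutatorElement_eq_one_iff_mul_comm.1 e).symm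
      · rw [e] at hc; exact absurd hc hcon
    rcases DC b hb hbA with r | r | r | r
    · exact Or.inl r
    · rw [r] at hbP; exact absurd hbP hcon
    · exact Or.inr r
    · exfalso
      rw [r] at hbP
      apply hcon
      have := Subgroup.mul_mem _ hbP (Subgroup.inv_mem _ hxP)
      rwa [mul_inv_cancel_right] at this
  have M4 : ∀ a ∈ Qf z, a * x = x * a → ∀ u ∈ Qf x, u * z = z * u →
      (⁅a, u⁆ = 1 ∨ ⁅a, u⁆ = x) := by
    intro a ha hax u hu huz
    apply M3
    · have e : ⁅a, u⁆ = a * (u * a⁻¹ * u⁻¹) := by rw [commutatorElement_def]; group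
      rw [e]
      exact Subgroup.mul_mem _ ha (nrm huz (Subgroup.inv_mem _ ha))
    · rw [commutatorElement_def]
      exact Subgroup.mul_mem _ (nrm hax hu) (Subgroup.inv_mem _ hu)
  have M5 : ∀ u ∈ Qf x, (⁅u, z⁆ = 1 ∨ ⁅u, z⁆ = x) → ⁅u, z⁆ = 1 := by
    intro u hu h
    rcases h with e | e
    · exact e
    · exfalso
      apply hcon
      have huz : u * z * u⁻¹ = x * z := by
        have : u * z * u⁻¹ = ⁅u, z⁆ * z := conj_eq u z
        rw [this, e]
      have hux : u * x * u⁻¹ = x := by rw [hx.central u hu, mul_inv_cancel_right]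
      have h1 := heq u z x hxz
      rw [hux, huz] at h1
      have h2 := heq u z z hz.mem
      rw [huz] at h2
      have h3 : z ∈ Qf (x * z) := by
        have := Subgroup.mul_mem _ (Subgroup.inv_mem _ h1) h2
        rwa [inv_mul_cancel_left] at this
      have h4 := heq q0⁻¹ (x * z) z h3
      have e1 : q0⁻¹ * (x * z) * q0⁻¹⁻¹ = x := by
        rw [← hzx, ← hq0x]; group
      have e2 : q0⁻¹ * z * q0⁻¹⁻¹ = z := hz.cj_z (Subgroup.inv_mem _ hq0)
      rw [e1, e2] at h4
      exact h4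
  have M6 : ∀ u ∈ Qf x, ⁅u, z⁆ ∈ Qf x ∧ ⁅u, z⁆ * z = z * ⁅u, z⁆ := by
    intro u hu
    have hw : ⁅u, z⁆ ∈ Qf x := by
      have e : ⁅u, z⁆ = u * (z * u⁻¹ * z⁻¹) := by rw [commutatorElement_def]; group
      rw [e]
      exact Subgroup.mul_mem _ hu (nrm hzx (Subgroup.inv_mem _ hu))
    refine ⟨hw, ?_⟩
    rw [← commutatorElement_eq_one_iff_mul_comm]
    apply M5 _ hw
    have hconj : z * ⁅u, z⁆ * z⁻¹ = ⁅u, z⁆⁻¹ := by
      rw [commutatorElement_def]
      calc z * (u * z * u⁻¹ * z⁻¹) * z⁻¹ = z * u * z * u⁻¹ * (z⁻¹ * z⁻¹) := by group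
        _ = z * u * z * u⁻¹ := by rw [hzi, hzz, mul_one]
        _ = z * u * z⁻¹ * u⁻¹ := by rw [hzi]
        _ = (u * z * u⁻¹ * z⁻¹)⁻¹ := by group
    have e : ⁅⁅u, z⁆, z⁆ = ⁅u, z⁆ * ⁅u, z⁆ := by
      calc ⁅⁅u, z⁆, z⁆ = ⁅u, z⁆ * (z * ⁅u, z⁆ * z⁻¹)⁻¹ := by
            rw [commutatorElement_def ⁅u, z⁆ z]; group
        _ = ⁅u, z⁆ * ⁅u, z⁆ := by rw [hconj, inv_inv]
    rw [e]
    exact hx.sq_cases hw
  have M7 : ∀ a ∈ Qf z, a * x = x * a → ∀ u ∈ Qf x,
      ⁅a, u⁆ ∈ Qf x ∧ ⁅a, u⁆ * z = z * ⁅a, u⁆ := by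
    intro a ha hax u hu
    have hc : ⁅a, u⁆ ∈ Qf x := by
      rw [commutatorElement_def]
      exact Subgroup.mul_mem _ (nrm hax hu) (Subgroup.inv_mem _ hu)
    refine ⟨hc, ?_⟩
    rw [← commutatorElement_eq_one_iff_mul_comm]
    apply M5 _ hc
    obtain ⟨hw, hwz⟩ := M6 u hu
    have hw' : ⁅z, u⁆ ∈ Qf x := by rw [← commutatorElement_inv]; exact Subgroup.inv_mem _ hw
    have hw'z : ⁅z, u⁆ * z = z * ⁅z, u⁆ := by
      rw [← commutatorElement_inv u z]
      exact (Commute.inv_left (show Commute ⁅u, z⁆ z from hwz)).eq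
    have hξ := M4 a ha hax _ hw' hw'z
    have hξ' := hx.comm _ hw' _ hc
    have haz : z * a * z⁻¹ = a := by rw [← hz.central a ha, mul_inv_cancel_right]
    have key : ⁅z, ⁅a, u⁆⁆ = ⁅a, ⁅z, u⁆⁆ * ⁅⁅z, u⁆, ⁅a, u⁆⁆ := by
      have e1 : z * ⁅a, u⁆ * z⁻¹ = ⁅z * a * z⁻¹, z * u * z⁻¹⁆ := by
        simp only [commutatorElement_def]; group
      rw [haz, conj_eq z u] at e1
      have e2 : ⁅a, ⁅z, u⁆ * u⁆ = ⁅a, ⁅z, u⁆⁆ * ⁅⁅z, u⁆, ⁅a, u⁆⁆ * ⁅a, u⁆ := by
        generalize ⁅z, u⁆ = w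
        simp only [commutatorElement_def]; group
      rw [e2] at e1
      rw [commutatorElement_def z ⁅a, u⁆, e1, mul_inv_cancel_right]
    have hmem : ⁅z, ⁅a, u⁆⁆ ∈ Zs x hxx := by
      rw [key]; exact Subgroup.mul_mem _ (mem_Zs.2 hξ) (mem_Zs.2 hξ')
    have hmem' : ⁅⁅a, u⁆, z⁆ ∈ Zs x hxx := by
      rw [← commutatorElement_inv]; exact Subgroup.inv_mem _ hmem
    exact mem_Zs.1 hmem'
  have finish : (∀ v ∈ Qf x, ⁅v, z⁆ = 1 ∨ ⁅v, z⁆ = x) → False := by
    intro hall
    apply hcon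
    apply hx.self
    intro v hv
    have := M5 v hv (hall v hv)
    exact (commutatorElement_eq_one_iff_mul_comm.1 this).symm
  by_cases hab : ∃ a ∈ Qf z, a * x = x * a ∧ ∃ b ∈ Qf z, b * x = x * b ∧ ⁅a, b⁆ = z
  · obtain ⟨a, ha, hax, b, hb, hbx, habz⟩ := hab
    apply finish
    intro v hv
    have hbax : (b * a) * x = x * (b * a) := by rw [mul_assoc, hax, ← mul_assoc, hbx, mul_assoc]
    have hbax' : (b * a)⁻¹ * x = x * (b * a)⁻¹ :=
      (Commute.inv_left (show Commute (b * a) x from hbax)).eq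
    obtain ⟨u, hu_def⟩ : ∃ u, u = (b * a)⁻¹ * v * (b * a) := ⟨_, rfl⟩
    have hu : u ∈ Qf x := by
      have := nrm hbax' hv
      rw [inv_inv] at this
      rw [hu_def]; exact this
    obtain ⟨hca, hcaz⟩ := M7 a ha hax u hu
    obtain ⟨hcb, hcbz⟩ := M7 b hb hbx u hu
    have hξ1 := M4 a ha hax _ hcb hcbz
    have hξ2 := M4 b hb hbx _ hca hcaz
    have hξ3 := hx.comm _ hcb _ hca
    have key : a * b * u * (a * b)⁻¹ = ⁅a, ⁅b, u⁆⁆ * ⁅⁅b, u⁆, ⁅a, u⁆⁆ * ⁅b, ⁅a, u⁆⁆⁻¹ *
        (b * a * u * (b * a)⁻¹) := by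
      simp only [commutatorElement_def]; group
    have hv' : b * a * u * (b * a)⁻¹ = v := by rw [hu_def]; group
    have hab' : a * b = z * (b * a) := by
      have : a * b = ⁅a, b⁆ * (b * a) := by rw [commutatorElement_def]; group
      rw [this, habz]
    have hzv : z * v * z⁻¹ = ⁅a, ⁅b, u⁆⁆ * ⁅⁅b, u⁆, ⁅a, u⁆⁆ * ⁅b, ⁅a, u⁆⁆⁻¹ * v := by
      have e : z * v * z⁻¹ = (z * (b * a)) * u * (z * (b * a))⁻¹ := by rw [← hv']; group
      rw [e, ← hab', key, hv']
    have hmem : ⁅z, v⁆ ∈ Zs x hxx := by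
      rw [commutatorElement_def, hzv, mul_inv_cancel_right]
      exact Subgroup.mul_mem _ (Subgroup.mul_mem _ (mem_Zs.2 hξ1) (mem_Zs.2 hξ3))
        (Subgroup.inv_mem _ (mem_Zs.2 hξ2))
    have hmem' : ⁅v, z⁆ ∈ Zs x hxx := by
      rw [← commutatorElement_inv]; exact Subgroup.inv_mem _ hmem
    exact mem_Zs.1 hmem'
  · push Not at hab
    have hAab : ∀ a ∈ Qf z, a * x = x * a → ∀ b ∈ Qf z, b * x = x * b → a * b = b * a := by
      intro a ha hax b hb hbx
      rcases hz.comm a ha b hb with e | e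
      · exact commutatorElement_eq_one_iff_mul_comm.1 e
      · exact absurd e (hab a ha hax b hb hbx)
    have hAU : ∀ a ∈ Qf z, a * x = x * a → a = 1 ∨ a = z ∨ a = x ∨ a = z * x := by
      intro a ha hax
      exact DC a ha (fun a' ha' ha'x => hAab a ha hax a' ha' ha'x)
    have hN : ∀ u ∈ Qf x, u * z = z * u → u = 1 ∨ u = x := by
      intro u hu huz
      have hux : u * x = x * u := hx.central u hu
      have huA : ∀ a ∈ Qf z, a * x = x * a → u * a = a * u := by
        intro a ha hax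
        rcases hAU a ha hax with r | r | r | r
        · rw [r, mul_one, one_mul]
        · rw [r]; exact huz
        · rw [r]; exact hux
        · rw [r, ← mul_assoc, huz, mul_assoc, hux, mul_assoc]
      have hq1 : u * q0 * u⁻¹ ∈ Qf z := nrm huz hq0
      have hcQ : u * q0 * u⁻¹ * q0⁻¹ ∈ Qf z := Subgroup.mul_mem _ hq1 (Subgroup.inv_mem _ hq0)
      have hcx : (u * q0 * u⁻¹ * q0⁻¹) * x = x * (u * q0 * u⁻¹ * q0⁻¹) := by
        rw [← cj_eq_iff]
        have e1 : u * q0 * u⁻¹ * q0⁻¹ * x * (u * q0 * u⁻¹ * q0⁻¹)⁻¹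
            = u * (q0 * (u⁻¹ * (q0⁻¹ * x * q0) * u) * q0⁻¹) * u⁻¹ := by group
        rw [e1, hq0x']
        have e2 : u⁻¹ * (z * x) * u = z * x := by
          have hc : u * (z * x) = (z * x) * u := by
            rw [← mul_assoc, huz, mul_assoc, hux, mul_assoc]
          calc u⁻¹ * (z * x) * u = u⁻¹ * ((z * x) * u) := by group
            _ = u⁻¹ * (u * (z * x)) := by rw [hc]
            _ = z * x := by group
        rw [e2]
        have e3 : q0 * (z * x) * q0⁻¹ = (q0 * z * q0⁻¹) * (q0 * x * q0⁻¹) := by group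
        have e4 : z * (z * x) = x := by rw [← mul_assoc, hzz, one_mul]
        rw [e3, hz.cj_z hq0, hq0x, e4, hux, mul_inv_cancel_right]
      have hsq : (u * q0 * u⁻¹) * (u * q0 * u⁻¹) = q0 * q0 := by
        have e1 : (u * q0 * u⁻¹) * (u * q0 * u⁻¹) = u * (q0 * q0) * u⁻¹ := by group
        rw [e1]
        rcases hz.sq_cases hq0 with e | e
        · rw [e]; group
        · rw [e, huz, mul_inv_cancel_right]
      have hc1 : ∀ c : G, c = u * q0 * u⁻¹ * q0⁻¹ → c * (q0 * c * q0⁻¹) = 1 := by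
        intro c hc
        have e1 : u * q0 * u⁻¹ = c * q0 := by rw [hc]; group
        rw [e1] at hsq
        calc c * (q0 * c * q0⁻¹) = (c * q0 * (c * q0)) * (q0 * q0)⁻¹ := by group
          _ = 1 := by rw [hsq]; group
      have hcc := hc1 _ rfl
      rcases hAU _ hcQ hcx with r | r | r | r
      · have hu0 : u * q0 = q0 * u := by
          rw [← cj_eq_iff]
          calc u * q0 * u⁻¹ = (u * q0 * u⁻¹ * q0⁻¹) * q0 := by group
            _ = q0 := by rw [r, one_mul]
        have huQ : u ∈ Qf z := hz.self u (comm_all u hu0 huA)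
        exact M3 u huQ hu
      · have hu0 : (x * u) * q0 = q0 * (x * u) := by
          rw [← cj_eq_iff]
          have e1 : x * u * q0 * (x * u)⁻¹ = x * ((u * q0 * u⁻¹ * q0⁻¹) * q0) * x⁻¹ := by group
          rw [e1, r]
          have e2 : x * (z * q0) * x⁻¹ = (x * z * x⁻¹) * (x * q0 * x⁻¹) := by group
          rw [e2, hz.cj_z hxz, hxq0, ← mul_assoc, hzz, one_mul]
        have hxuA : ∀ a ∈ Qf z, a * x = x * a → (x * u) * a = a * (x * u) := by
          intro a ha hax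
          rw [mul_assoc, huA a ha hax, ← mul_assoc, ← hax, mul_assoc]
        have hxuQ : x * u ∈ Qf z := hz.self _ (comm_all _ hu0 hxuA)
        have huQ : u ∈ Qf z := by
          have := Subgroup.mul_mem _ (Subgroup.inv_mem _ hxz) hxuQ
          rwa [inv_mul_cancel_left] at this
        exact M3 u huQ hu
      · exfalso
        rw [r, hq0x, ← mul_assoc] at hcc
        have e4 : x * z * x = z := by rw [← hzx, mul_assoc, hxx, mul_one]
        rw [e4] at hcc
        exact hz.ne_one hcc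
      · exfalso
        rw [r] at hcc
        have e3 : q0 * (z * x) * q0⁻¹ = (q0 * z * q0⁻¹) * (q0 * x * q0⁻¹) := by group
        rw [e3, hz.cj_z hq0, hq0x, ← mul_assoc z z x, hzz, one_mul, mul_assoc, hxx, mul_one] at hcc
        exact hz.ne_one hcc
    apply finish
    intro v hv
    obtain ⟨hw, hwz⟩ := M6 v hv
    exact hN _ hw hwz


/-- a non-central element of `Q` is conjugate in `Q` to its product with `z` -/
lemma ES.exists_flip {Q : Subgroup G} {z : G} (hz : ES Q z) {x : G} (hxz : x ∈ Q) (hx1 : x ≠ 1)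
    (hne : x ≠ z) : ∃ q0 ∈ Q, q0 * x * q0⁻¹ = z * x := by
  by_contra hno
  push Not at hno
  have hall : ∀ b ∈ Q, x * b = b * x := by
    intro b hb
    rcases hz.cj_cases hb hxz with e | e
    · exact (cj_eq_iff.1 e).symm
    · exact absurd e (hno b hb)
  rcases hz.cent x hxz hall with e | e
  · exact hx1 e
  · exact hne e

/-- for orthogonal singular `u`, `v`: `Q u ∩ Q v ≤ Q (u v)` -/
lemma inter_le {Qf : G → Subgroup G}
    (heq : ∀ g y u, u ∈ Qf y → g * u * g⁻¹ ∈ Qf (g * y * g⁻¹)) {u v : G}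
    (hu : ES (Qf u) u) (hv : ES (Qf v) v) (huv : u ∈ Qf v) (hvu : v ∈ Qf u) (hne : u ≠ v)
    {y : G} (hyu : y ∈ Qf u) (hyv : y ∈ Qf v) : y ∈ Qf (u * v) := by
  obtain ⟨r, hr, hru⟩ := hv.exists_flip huv hu.ne_one hne
  have h1 := heq r u y hyu
  have h2 := heq r u v hvu
  rw [hru] at h1 h2
  rw [hv.cj_z hr] at h2
  rw [hv.central u huv]
  rcases hv.cj_cases hr hyv with e | e
  · rw [e] at h1; exact h1
  · rw [e] at h1
    have := Subgroup.mul_mem _ (Subgroup.inv_mem _ h2) h1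
    rwa [inv_mul_cancel_left] at this


section Perp

variable {Q : Subgroup G} {z : G}

lemma ES.comm_mul_right (h : ES Q z) {g x w : G} (hg : g ∈ Q) (hx : x ∈ Q) (hw : w ∈ Q) :
    ⁅g, x * w⁆ = ⁅g, x⁆ * ⁅g, w⁆ := by
  have e : ⁅g, x * w⁆ = ⁅g, x⁆ * (x * ⁅g, w⁆ * x⁻¹) := by
    simp only [commutatorElement_def]; group
  rw [e]
  rcases h.comm g hg w hw with e1 | e1
  · rw [e1]; group
  · rw [e1, h.cj_z hx]

lemma ES.comm_mul_left (h : ES Q z) {g1 g2 x : G} (hg1 : g1 ∈ Q) (hg2 : g2 ∈ Q) (hx : x ∈ Q) :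
    ⁅g1 * g2, x⁆ = ⁅g1, x⁆ * ⁅g2, x⁆ := by
  have e : ⁅g1 * g2, x⁆ = (g1 * ⁅g2, x⁆ * g1⁻¹) * ⁅g1, x⁆ := by
    simp only [commutatorElement_def]; group
  rw [e]
  rcases h.comm g2 hg2 x hx with e1 | e1
  · rw [e1]; group
  · rw [e1, h.cj_z hg1]
    rcases h.comm g1 hg1 x hx with e2 | e2
    · rw [e2, mul_one, one_mul]
    · rw [e2]

/-- double perp: an element outside a subgroup `W ∋ z` of `Q` fails to commute with some
element of `C_Q(W)` -/
lemma ES.perp (h : ES Q z) (s : Finset G) (hs : ∀ w ∈ s, w ∈ Q) :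
    ∀ x ∈ Q, x ∉ Subgroup.closure (insert z (s : Set G)) →
      ∃ g ∈ Q, (∀ w ∈ s, g * w = w * g) ∧ ⁅g, x⁆ = z := by
  classical
  induction s using Finset.induction_on with
  | empty =>
    intro x hx hxn
    have hx1 : x ≠ 1 := fun e => hxn (e ▸ Subgroup.one_mem _)
    have hxz : x ≠ z := fun e => hxn (e ▸ Subgroup.subset_closure (Set.mem_insert _ _))
    obtain ⟨q0, hq0, hq0x⟩ := h.exists_flip hx hx1 hxz
    refine ⟨q0, hq0, by simp, ?_⟩
    rw [commutatorElement_def, hq0x, mul_inv_cancel_right]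
  | insert w s hws ih =>
    intro x hx hxn
    have hsQ : ∀ w' ∈ s, w' ∈ Q := fun w' hw' => hs w' (Finset.mem_insert_of_mem hw')
    have hwQ : w ∈ Q := hs w (Finset.mem_insert_self w s)
    have ih' := ih hsQ
    have hmono : Subgroup.closure (insert z (s : Set G))
        ≤ Subgroup.closure (insert z ((insert w s : Finset G) : Set G)) := by
      apply Subgroup.closure_mono
      intro y hy
      rcases hy with rfl | hy
      · exact Set.mem_insert _ _
      · right
        rw [Finset.mem_coe] at hy ⊢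
        exact Finset.mem_insert_of_mem hy
    have hwcl : w ∈ Subgroup.closure (insert z ((insert w s : Finset G) : Set G)) := by
      apply Subgroup.subset_closure
      right
      rw [Finset.mem_coe]
      exact Finset.mem_insert_self w s
    have hx1 : x ∉ Subgroup.closure (insert z (s : Set G)) := fun hm => hxn (hmono hm)
    have hxw : x * w ∉ Subgroup.closure (insert z (s : Set G)) := by
      intro hm
      apply hxn
      have := Subgroup.mul_mem _ (hmono hm) (Subgroup.inv_mem _ hwcl)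
      rwa [mul_inv_cancel_right] at this
    obtain ⟨g1, hg1, hg1s, hg1x⟩ := ih' x hx hx1
    rcases h.comm g1 hg1 w hwQ with e1 | e1
    · refine ⟨g1, hg1, ?_, hg1x⟩
      intro w' hw'
      rcases Finset.mem_insert.1 hw' with e | hw'
      · rw [e]; exact commutatorElement_eq_one_iff_mul_comm.1 e1
      · exact hg1s w' hw'
    · obtain ⟨g2, hg2, hg2s, hg2xw⟩ := ih' (x * w) (Q.mul_mem hx hwQ) hxw
      rw [h.comm_mul_right hg2 hx hwQ] at hg2xw
      rcases h.comm g2 hg2 w hwQ with e2 | e2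
      · rw [e2, mul_one] at hg2xw
        refine ⟨g2, hg2, ?_, hg2xw⟩
        intro w' hw'
        rcases Finset.mem_insert.1 hw' with e | hw'
        · rw [e]; exact commutatorElement_eq_one_iff_mul_comm.1 e2
        · exact hg2s w' hw'
      · rw [e2] at hg2xw
        have hg2x : ⁅g2, x⁆ = 1 := by
          calc ⁅g2, x⁆ = (⁅g2, x⁆ * z) * z⁻¹ := by group
            _ = 1 := by rw [hg2xw, mul_inv_cancel]
        refine ⟨g1 * g2, Q.mul_mem hg1 hg2, ?_, ?_⟩
        · intro w' hw'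
          rcases Finset.mem_insert.1 hw' with e | hw'
          · rw [e, ← commutatorElement_eq_one_iff_mul_comm, h.comm_mul_left hg1 hg2 hwQ, e1, e2,
              h.sq]
          · rw [mul_assoc, hg2s w' hw', ← mul_assoc, hg1s w' hw', mul_assoc]
        · rw [h.comm_mul_left hg1 hg2 hx, hg1x, hg2x, mul_one]

end Perp

end Cfsg.Agent.helper28.LargeES
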