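import Mathlib
import Cfsg.Agent.Lib_helper28_Sharp
import Cfsg.Agent.Lib_helper2_M24d

set_option autoImplicit false

/-! Simplicity of the dodecad stabiliser (M12) and of the dodecad-point stabiliser (M11) in M24,
from sharp 5- and 4-fold transitivity. -/

namespace Cfsg.Agent.helper28.M12simple

open Cfsg MulAction Cfsg.Agent.helper2.Golay
open scoped Pointwise

/-- the action of the stabiliser of `d` on the points of `d` -/
instance actD (d : Finset GolayPt) : MulAction ↥(stabilizer M24 d) {p // p ∈ d} where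
  smul g p := ⟨((g : M24) : Equiv.Perm GolayPt) p.1, by
    have h := g.2
    rw [mem_stabilizer_iff] at h
    have h2 : ((g : M24) : Equiv.Perm GolayPt) p.1 ∈ (g : M24) • d :=
      Finset.smul_mem_smul_finset (a := (g : M24)) p.2
    rwa [h] at h2⟩
  one_smul p := Subtype.ext rfl
  mul_smul g h p := Subtype.ext rfl

lemma actD_val (d : Finset GolayPt) (g : ↥(stabilizer M24 d)) (p : {p // p ∈ d}) :
    (g • p).1 = ((g : M24) : Equiv.Perm GolayPt) p.1 := rfl

/-- package an element of `M24` stabilising `d` -/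
def mkStab (d : Finset GolayPt) (g : Equiv.Perm GolayPt) (hg : g ∈ M24) (hd : g • d = d) :
    ↥(stabilizer M24 d) := ⟨⟨g, hg⟩, hd⟩

lemma mkStab_val (d : Finset GolayPt) (g : Equiv.Perm GolayPt) (hg : g ∈ M24) (hd : g • d = d) :
    (((mkStab d g hg hd : ↥(stabilizer M24 d)) : M24) : Equiv.Perm GolayPt) = g := rfl

/-- the embedding of points of `d` -/
def toPt (d : Finset GolayPt) : {p // p ∈ d} ↪ GolayPt := Function.Embedding.subtype _

theorem sharpD {d : Finset GolayPt} (hd : d ∈ dodecads) (x : Fin 5 ↪ {p // p ∈ d}) :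
    stabilizer ↥(stabilizer M24 d) x = ⊥ := by
  rw [eq_bot_iff]
  intro g hg
  rw [mem_stabilizer_iff] at hg
  rw [Subgroup.mem_bot]
  have h1 : (((g : ↥(stabilizer M24 d)) : M24) : Equiv.Perm GolayPt) = 1 := by
    apply dodecad_sharp hd (x.trans (toPt d)) (fun i => (x i).2) (g : M24).2
    · exact g.2
    · intro i
      have := congrArg (fun e : Fin 5 ↪ {p // p ∈ d} => (e i).1) hg
      exact this
  apply Subtype.ext
  apply Subtype.ext
  exact h1

theorem transD {d : Finset GolayPt} (hd : d ∈ dodecads) :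
    IsMultiplyPretransitive ↥(stabilizer M24 d) {p // p ∈ d} 5 := by
  rw [isMultiplyPretransitive_iff]
  intro x y
  obtain ⟨g, hg, hgd, hgx⟩ := dodecad_five_transitive hd hd (x.trans (toPt d)) (y.trans (toPt d))
    (fun i => (x i).2) (fun i => (y i).2)
  refine ⟨mkStab d g hg hgd, ?_⟩
  apply Function.Embedding.ext
  intro i
  apply Subtype.ext
  exact hgx i

instance faithfulD {d : Finset GolayPt} [hd : Fact (d ∈ dodecads)] :
    FaithfulSMul ↥(stabilizer M24 d) {p // p ∈ d} where
  eq_of_smul_eq_smul := by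
    intro g h hgh
    have hc : Fintype.card (Fin 5) ≤ Fintype.card {p // p ∈ d} := by
      rw [Fintype.card_coe, card_of_mem_dodecads hd.out, Fintype.card_fin]
      norm_num
    obtain ⟨x⟩ := Function.Embedding.nonempty_of_card_le hc
    have hmem : h⁻¹ * g ∈ stabilizer ↥(stabilizer M24 d) x := by
      rw [mem_stabilizer_iff]
      ext i
      rw [Function.Embedding.smul_apply, mul_smul, hgh, inv_smul_smul]
    rw [sharpD hd.out, Subgroup.mem_bot] at hmem
    exact (inv_mul_eq_one.1 hmem).symm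

theorem simpleD {d : Finset GolayPt} (hd : d ∈ dodecads) :
    IsSimpleGroup ↥(stabilizer M24 d) := by
  have : Fact (d ∈ dodecads) := ⟨hd⟩
  have := transD hd
  exact (Sharp.simple12 (H := ↥(stabilizer M24 d)) (β := {p // p ∈ d})
    (by rw [Nat.card_eq_fintype_card, Fintype.card_coe, card_of_mem_dodecads hd])
    (sharpD hd)).1

/-! ### the point stabiliser -/

/-- the action of the stabiliser of `d` and `p` on the other points of `d` -/
instance actDp (d : Finset GolayPt) (p : GolayPt) :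
    MulAction ↥(stabilizer M24 d ⊓ stabilizer M24 p) {q // q ∈ d ∧ q ≠ p} where
  smul g q := ⟨((g : M24) : Equiv.Perm GolayPt) q.1, by
    have h := g.2
    rw [Subgroup.mem_inf, mem_stabilizer_iff, mem_stabilizer_iff] at h
    constructor
    · have h2 : ((g : M24) : Equiv.Perm GolayPt) q.1 ∈ (g : M24) • d :=
        Finset.smul_mem_smul_finset (a := (g : M24)) q.2.1
      rwa [h.1] at h2
    · intro hq
      have h3 : ((g : M24) : Equiv.Perm GolayPt) q.1 = ((g : M24) : Equiv.Perm GolayPt) p := by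
        rw [hq]; exact h.2.symm
      exact q.2.2 (((g : M24) : Equiv.Perm GolayPt).injective h3)⟩
  one_smul q := Subtype.ext rfl
  mul_smul g h q := Subtype.ext rfl

/-- prepend `p` to four other points of `d` -/
def ext5 {d : Finset GolayPt} {p : GolayPt} (x : Fin 4 ↪ {q // q ∈ d ∧ q ≠ p}) :
    Fin 5 ↪ GolayPt :=
  ⟨Fin.cons p (fun i => (x i).1), by
    rw [Fin.cons_injective_iff]
    constructor
    · rintro ⟨i, hi⟩
      exact (x i).2.2 hi
    · intro i j hij
      exact x.injective (Subtype.ext hij)⟩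

lemma ext5_zero {d : Finset GolayPt} {p : GolayPt} (x : Fin 4 ↪ {q // q ∈ d ∧ q ≠ p}) :
    ext5 x 0 = p := rfl

lemma ext5_succ {d : Finset GolayPt} {p : GolayPt} (x : Fin 4 ↪ {q // q ∈ d ∧ q ≠ p})
    (i : Fin 4) : ext5 x i.succ = (x i).1 := rfl

lemma ext5_mem {d : Finset GolayPt} {p : GolayPt} (hp : p ∈ d)
    (x : Fin 4 ↪ {q // q ∈ d ∧ q ≠ p}) : ∀ i, ext5 x i ∈ d := by
  refine Fin.cases ?_ ?_
  · exact hp
  · intro i
    exact (x i).2.1

theorem sharpDp {d : Finset GolayPt} (hd : d ∈ dodecads) {p : GolayPt} (hp : p ∈ d)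
    (x : Fin 4 ↪ {q // q ∈ d ∧ q ≠ p}) :
    stabilizer ↥(stabilizer M24 d ⊓ stabilizer M24 p) x = ⊥ := by
  rw [eq_bot_iff]
  intro g hg
  rw [mem_stabilizer_iff] at hg
  rw [Subgroup.mem_bot]
  have h := g.2
  rw [Subgroup.mem_inf, mem_stabilizer_iff, mem_stabilizer_iff] at h
  have h1 : (((g : ↥(stabilizer M24 d ⊓ stabilizer M24 p)) : M24) : Equiv.Perm GolayPt) = 1 := by
    apply dodecad_sharp hd (ext5 x) (ext5_mem hp x) (g : M24).2
    · exact h.1
    · refine Fin.cases ?_ ?_
      · exact h.2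
      · intro i
        have := congrArg (fun e : Fin 4 ↪ {q // q ∈ d ∧ q ≠ p} => (e i).1) hg
        exact this
  apply Subtype.ext
  apply Subtype.ext
  exact h1

theorem transDp {d : Finset GolayPt} (hd : d ∈ dodecads) {p : GolayPt} (hp : p ∈ d) :
    IsMultiplyPretransitive ↥(stabilizer M24 d ⊓ stabilizer M24 p) {q // q ∈ d ∧ q ≠ p} 4 := by
  rw [isMultiplyPretransitive_iff]
  intro x y
  obtain ⟨g, hg, hgd, hgx⟩ := dodecad_five_transitive hd hd (ext5 x) (ext5 y)
    (ext5_mem hp x) (ext5_mem hp y)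
  have hgp : g p = p := hgx 0
  refine ⟨⟨⟨g, hg⟩, ?_⟩, ?_⟩
  · rw [Subgroup.mem_inf, mem_stabilizer_iff, mem_stabilizer_iff]
    exact ⟨hgd, hgp⟩
  · apply Function.Embedding.ext
    intro i
    apply Subtype.ext
    exact hgx i.succ

lemma card_Dp {d : Finset GolayPt} (hd : d ∈ dodecads) {p : GolayPt} (hp : p ∈ d) :
    Fintype.card {q // q ∈ d ∧ q ≠ p} = 11 := by
  rw [Fintype.card_of_subtype (d.erase p) (fun x => by rw [Finset.mem_erase, and_comm]),
    Finset.card_erase_of_mem hp, card_of_mem_dodecads hd]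

theorem faithfulDp {d : Finset GolayPt} (hd : d ∈ dodecads) {p : GolayPt} (hp : p ∈ d) :
    FaithfulSMul ↥(stabilizer M24 d ⊓ stabilizer M24 p) {q // q ∈ d ∧ q ≠ p} where
  eq_of_smul_eq_smul := by
    intro g h hgh
    have hc : Fintype.card (Fin 4) ≤ Fintype.card {q // q ∈ d ∧ q ≠ p} := by
      rw [card_Dp hd hp, Fintype.card_fin]
      norm_num
    obtain ⟨x⟩ := Function.Embedding.nonempty_of_card_le hc
    have hmem : h⁻¹ * g ∈ stabilizer ↥(stabilizer M24 d ⊓ stabilizer M24 p) x := by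
      rw [mem_stabilizer_iff]
      ext i
      rw [Function.Embedding.smul_apply, mul_smul, hgh, inv_smul_smul]
    rw [sharpDp hd hp, Subgroup.mem_bot] at hmem
    exact (inv_mul_eq_one.1 hmem).symm

theorem simpleDp {d : Finset GolayPt} (hd : d ∈ dodecads) {p : GolayPt} (hp : p ∈ d) :
    IsSimpleGroup ↥(stabilizer M24 d ⊓ stabilizer M24 p) := by
  have := faithfulDp hd hp
  have := transDp hd hp
  exact (Sharp.simple11 (H := ↥(stabilizer M24 d ⊓ stabilizer M24 p))
    (β := {q // q ∈ d ∧ q ≠ p})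
    (by rw [Nat.card_eq_fintype_card, card_Dp hd hp])
    (sharpDp hd hp)).1

end Cfsg.Agent.helper28.M12simple
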