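import Mathlib
import Cfsg.Agent.Lib_helper2_M24m

set_option autoImplicit false
set_option linter.constructorNameAsVariable false

namespace Cfsg.Agent.helper2.Golay

open Cfsg Cfsg.Agent.helper27
open scoped Pointwise

/-! ### Small subsets as bit masks -/

theorem pts_inj_lt {a b : ℕ} (ha : a < 2 ^ 24) (hb : b < 2 ^ 24) (h : pts a = pts b) : a = b := by
  apply Nat.eq_of_testBit_eq
  intro i
  by_cases hi : i < 24
  · exact testBit_eq_of_pts_eq h i hi
  · have h24 : (2 : ℕ) ^ 24 ≤ 2 ^ i := Nat.pow_le_pow_right (by norm_num) (by omega)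
    rw [Nat.testBit_lt_two_pow (lt_of_lt_of_le ha h24),
      Nat.testBit_lt_two_pow (lt_of_lt_of_le hb h24)]

/-- The 2-subsets as masks. -/
def twoSets : List ℕ := (List.range 24).flatMap fun i => (List.range i).map fun j => 2 ^ i + 2 ^ j

/-- The 3-subsets as masks. -/
def threeSets : List ℕ := (List.range 24).flatMap fun i => (List.range i).flatMap fun j =>
  (List.range j).map fun k => 2 ^ i + 2 ^ j + 2 ^ k

theorem mem_twoSets {i j : ℕ} (hi : i < 24) (hj : j < i) : 2 ^ i + 2 ^ j ∈ twoSets := by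
  unfold twoSets
  rw [List.mem_flatMap]
  exact ⟨i, List.mem_range.mpr hi, List.mem_map.mpr ⟨j, List.mem_range.mpr hj, rfl⟩⟩

theorem mem_threeSets {i j k : ℕ} (hi : i < 24) (hj : j < i) (hk : k < j) :
    2 ^ i + 2 ^ j + 2 ^ k ∈ threeSets := by
  unfold threeSets
  rw [List.mem_flatMap]
  refine ⟨i, List.mem_range.mpr hi, ?_⟩
  rw [List.mem_flatMap]
  exact ⟨j, List.mem_range.mpr hj, List.mem_map.mpr ⟨k, List.mem_range.mpr hk, rfl⟩⟩

theorem pts_two : ∀ i < 24, ∀ j < i, pts (2 ^ i + 2 ^ j) = {pt i, pt j} := by decide +kernel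

theorem pts_three : ∀ i < 24, ∀ j < i, ∀ k < j,
    pts (2 ^ i + 2 ^ j + 2 ^ k) = {pt i, pt j, pt k} := by decide +kernel

theorem twoSets_lt : ∀ a ∈ twoSets, a < 2 ^ 24 := by decide +kernel

theorem threeSets_lt : ∀ a ∈ threeSets, a < 2 ^ 24 := by decide +kernel

theorem twoSets_wt : ∀ a ∈ twoSets, wt a = 2 := by decide +kernel

theorem threeSets_wt : ∀ a ∈ threeSets, wt a = 3 := by decide +kernel

theorem idx_inj {x y : GolayPt} (h : idx x = idx y) : x = y := by
  rw [← pt_idx x, ← pt_idx y, h]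

theorem exists_twoSet {t : Finset GolayPt} (ht : t.card = 2) : ∃ a ∈ twoSets, t = pts a := by
  obtain ⟨x, y, hxy, rfl⟩ := Finset.card_eq_two.mp ht
  have hne : idx x ≠ idx y := fun h => hxy (idx_inj h)
  rcases lt_or_gt_of_ne hne with h | h
  · refine ⟨_, mem_twoSets (idx_lt y) h, ?_⟩
    rw [pts_two _ (idx_lt y) _ h, pt_idx, pt_idx, Finset.pair_comm]
  · refine ⟨_, mem_twoSets (idx_lt x) h, ?_⟩
    rw [pts_two _ (idx_lt x) _ h, pt_idx, pt_idx]

theorem exists_threeSet_aux {i j k : ℕ} (hi : i < 24) (hj : j < i) (hk : k < j) :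
    ∃ a ∈ threeSets, ({pt i, pt j, pt k} : Finset GolayPt) = pts a :=
  ⟨_, mem_threeSets hi hj hk, (pts_three i hi j hj k hk).symm⟩

theorem exists_threeSet {t : Finset GolayPt} (ht : t.card = 3) : ∃ a ∈ threeSets, t = pts a := by
  obtain ⟨x, y, z, hxy, hxz, hyz, rfl⟩ := Finset.card_eq_three.mp ht
  have h1 : idx x ≠ idx y := fun h => hxy (idx_inj h)
  have h2 : idx x ≠ idx z := fun h => hxz (idx_inj h)
  have h3 : idx y ≠ idx z := fun h => hyz (idx_inj h)
  have hx := idx_lt x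
  have hy := idx_lt y
  have hz := idx_lt z
  rw [← pt_idx x, ← pt_idx y, ← pt_idx z]
  generalize idx x = i at *
  generalize idx y = j at *
  generalize idx z = k at *
  have fin : ∀ a ∈ threeSets, ∀ u v w : GolayPt, ({u, v, w} : Finset GolayPt) = pts a →
      (∀ p : GolayPt, (p = pt i ∨ p = pt j ∨ p = pt k) ↔ (p = u ∨ p = v ∨ p = w)) →
      ∃ a ∈ threeSets, ({pt i, pt j, pt k} : Finset GolayPt) = pts a := by
    intro a ha u v w hpa hiff
    refine ⟨a, ha, ?_⟩
    rw [← hpa]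
    ext p
    simp only [Finset.mem_insert, Finset.mem_singleton]
    exact hiff p
  rcases lt_or_gt_of_ne h1 with a1 | a1 <;> rcases lt_or_gt_of_ne h2 with a2 | a2 <;>
    rcases lt_or_gt_of_ne h3 with a3 | a3
  · exact fin _ (mem_threeSets hz a3 a1) _ _ _ (pts_three k hz j a3 i a1).symm (by tauto)
  · exact fin _ (mem_threeSets hy a3 a2) _ _ _ (pts_three j hy k a3 i a2).symm (by tauto)
  · omega
  · exact fin _ (mem_threeSets hy a1 a2) _ _ _ (pts_three j hy i a1 k a2).symm (by tauto)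
  · exact fin _ (mem_threeSets hz a2 a1) _ _ _ (pts_three k hz i a2 j a1).symm (by tauto)
  · omega
  · exact fin _ (mem_threeSets hx a2 a3) _ _ _ (pts_three i hx k a2 j a3).symm (by tauto)
  · exact fin _ (mem_threeSets hx a1 a3) _ _ _ (pts_three i hx j a1 k a3).symm (by tauto)

/-! ### Reachability and counting for lists of masks -/

theorem rank_reach_list (K : Subgroup (Equiv.Perm GolayPt)) (gens : List (List ℕ × List ℕ))
    (hgens : ∀ d ∈ gens, tablesOK d.1 d.2 = true ∧ gperm d ∈ K)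
    (trees : List (List (ℕ × ℕ × ℕ))) (hT : trees.all (treeOK gens) = true)
    (cls : ℕ → ℕ) (U : List ℕ)
    (hall : ∀ a ∈ U, cls a < trees.length →
      (trees.getD (cls a) []).any (fun e => e.1 == a) = true)
    {a a' : ℕ} (ha : a ∈ U) (ha' : a' ∈ U) (hc : cls a < trees.length)
    (hcc : cls a = cls a') : ∃ g ∈ K, g • pts a = pts a' := by
  have hmem : trees.getD (cls a) [] ∈ trees := by
    rw [List.getD_eq_getElem _ _ hc]
    exact List.getElem_mem _
  rw [List.all_eq_true] at hT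
  have hL := hT _ hmem
  have h1 := hall a ha hc
  have h2 := hall a' ha' (hcc ▸ hc)
  rw [← hcc] at h2
  exact reach_gen K gens hgens hL h1 h2

theorem ncard_maskList (L : List ℕ) (hlt : ∀ a ∈ L, a < 2 ^ 24) (S : Set (Finset GolayPt))
    (hS : ∀ s, s ∈ S ↔ ∃ a ∈ L, s = pts a) : S.ncard = L.toFinset.card := by
  have h : S = ↑(Finset.image pts L.toFinset) := by
    ext s
    rw [hS, Finset.mem_coe, Finset.mem_image]
    constructor
    · rintro ⟨a, ha, rfl⟩
      exact ⟨a, List.mem_toFinset.mpr ha, rfl⟩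
    · rintro ⟨a, ha, rfl⟩
      exact ⟨a, List.mem_toFinset.mp ha, rfl⟩
  rw [h, Set.ncard_coe_finset, Finset.card_image_of_injOn]
  intro a ha b hb hab
  rw [Finset.mem_coe, List.mem_toFinset] at ha hb
  exact pts_inj_lt (hlt a ha) (hlt b hb) hab

theorem pts_or (a b : ℕ) : pts (a ||| b) = pts a ∪ pts b := by
  ext p
  rw [Finset.mem_union, mem_pts, mem_pts, mem_pts, Nat.testBit_or, Bool.or_eq_true]

theorem pts_subset_iff {a b : ℕ} (ha : a < 2 ^ 24) : pts a ⊆ pts b ↔ a &&& b = a := by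
  constructor
  · intro h
    apply pts_inj_lt (lt_of_le_of_lt Nat.and_le_left ha) ha
    rw [pts_and]
    exact Finset.inter_eq_left.mpr h
  · intro h
    rw [← h, pts_and]
    exact Finset.inter_subset_right

/-! ### Moving small configurations to the base points -/

theorem emb_to_base {k : ℕ} (hk : k ≤ 5) (x : Fin k ↪ GolayPt) :
    ∃ h ∈ M24, ∀ i : Fin k, h (x i) = pt (bs i.val) := by
  obtain ⟨x5, -, hx5x⟩ := extend_emb' (s := Finset.univ) hk
    (by rw [Finset.card_univ]; decide) x (fun _ => Finset.mem_univ _)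
  obtain ⟨g, hg, hgx⟩ := exists_map_to_base x5 5 le_rfl
  refine ⟨g, hg, fun i => ?_⟩
  rw [← hx5x i]
  exact hgx _ (by show (Fin.castLE hk i).val < 5; exact (Fin.castLE hk i).2)

/-- The first `k` base points as a finset. -/
def baseSet (k : ℕ) : Finset GolayPt := (Finset.range k).image (fun j => pt (bs j))

theorem kset_to_base {k : ℕ} (hk : k ≤ 5) {s : Finset GolayPt} (hs : s.card = k) :
    ∃ h ∈ M24, h • s = baseSet k := by
  let e := s.equivFinOfCardEq hs
  let x : Fin k ↪ GolayPt := e.symm.toEmbedding.trans (Function.Embedding.subtype _)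
  have hx : ∀ i, x i = ((e.symm i : ↥s) : GolayPt) := fun _ => rfl
  obtain ⟨h, hh, hhx⟩ := emb_to_base hk x
  refine ⟨h, hh, ?_⟩
  ext p
  unfold baseSet
  rw [Finset.mem_image]
  constructor
  · intro hp
    obtain ⟨q, hq, rfl⟩ := Finset.mem_smul_finset.mp hp
    refine ⟨(e ⟨q, hq⟩).val, Finset.mem_range.mpr (e ⟨q, hq⟩).2, ?_⟩
    rw [← hhx, hx, Equiv.symm_apply_apply]
    rfl
  · rintro ⟨j, hj, rfl⟩
    rw [Finset.mem_range] at hj
    rw [← hhx ⟨j, hj⟩, perm_mem_smul_iff, hx]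
    exact (e.symm _).2

theorem baseSet_two : baseSet 2 = pts (2 ^ 23 + 2 ^ 0) := by decide +kernel

theorem baseSet_three : baseSet 3 = pts (2 ^ 23 + 2 ^ 1 + 2 ^ 0) := by decide +kernel

end Cfsg.Agent.helper2.Golay
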