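import Cfsg.Agent.Lib_helper28_Design24
set_option autoImplicit false

/-! The sextets of an S(5,8,24) closed under symmetric differences of blocks meeting in four
points: every tetrad lies in a unique sextet and there are 1771 sextets. -/

namespace Cfsg.Agent.helper28.Design

open Finset Cfsg.Agent.S5625

lemma block_inter_le {α : Type*} [DecidableEq α] {B : Set (Finset α)} {t k : ℕ}
    (hB : Cfsg.IsSteinerSystem t k B) {o o' : Finset α} (ho : o ∈ B) (ho' : o' ∈ B) (hne : o ≠ o') :
    (o ∩ o').card < t := by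
  by_contra hcon
  push Not at hcon
  obtain ⟨T, hT, hTc⟩ := Finset.exists_subset_card_eq hcon
  obtain ⟨b, -, hu⟩ := hB.2 T hTc
  have h1 := hu o ⟨ho, hT.trans Finset.inter_subset_left⟩
  have h2 := hu o' ⟨ho', hT.trans Finset.inter_subset_right⟩
  exact hne (h1.trans h2.symm)

/-- the set of sextets of a set system -/
def sextetsOf {α : Type*} [DecidableEq α] (B : Set (Finset α)) : Set (Finset (Finset α)) :=
  {S | S.card = 6 ∧ (∀ t ∈ S, t.card = 4) ∧ ∀ t ∈ S, ∀ u ∈ S, t ≠ u → t ∪ u ∈ B}

theorem sextet_unique {α : Type*} [Fintype α] [DecidableEq α] (hα : Fintype.card α = 24)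
    {B : Set (Finset α)} (hB : Cfsg.IsSteinerSystem 5 8 B)
    (hsd : ∀ o ∈ B, ∀ o' ∈ B, (o ∩ o').card = 4 → (o \ o') ∪ (o' \ o) ∈ B)
    (t : Finset α) (ht : t.card = 4) : ∃! S : Finset (Finset α), S ∈ sextetsOf B ∧ t ∈ S := by
  classical
  set Bf := toF B with hBfdef
  have hBf : ∀ b, b ∈ Bf ↔ b ∈ B := mem_toF B
  have hk : ∀ b ∈ Bf, b.card = 8 := toF_card hB
  have h5 := toF_cnt hB
  set F := Bf.filter (fun o => t ⊆ o) with hFdef
  have hF5 : F.card = 5 := by
    have := cnt_le5 hα Bf hk h5 t (by rw [ht]; norm_num)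
    rw [ht] at this
    exact this
  have hFmem : ∀ o, o ∈ F ↔ o ∈ B ∧ t ⊆ o := by
    intro o; rw [hFdef, Finset.mem_filter, hBf]
  -- two distinct blocks through t meet exactly in t
  have hmeet : ∀ o ∈ F, ∀ o' ∈ F, o ≠ o' → o ∩ o' = t := by
    intro o ho o' ho' hne
    rw [hFmem] at ho ho'
    have hlt := block_inter_le hB ho.1 ho'.1 hne
    symm
    apply Finset.eq_of_subset_of_card_le (Finset.subset_inter ho.2 ho'.2)
    rw [ht]; omega
  have hsdiff_card : ∀ o ∈ F, (o \ t).card = 4 := by
    intro o ho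
    rw [hFmem] at ho
    rw [Finset.card_sdiff_of_subset ho.2, hB.1 o ho.1, ht]
  have hunion : ∀ o ∈ F, t ∪ (o \ t) = o := by
    intro o ho
    rw [hFmem] at ho
    exact Finset.union_sdiff_of_subset ho.2
  have hinj : Set.InjOn (fun o : Finset α => o \ t) ↑F := by
    intro o ho o' ho' h
    rw [Finset.mem_coe] at ho ho'
    simp only at h
    rw [← hunion o ho, ← hunion o' ho', h]
  set I := F.image (fun o => o \ t) with hIdef
  have hI5 : I.card = 5 := by
    rw [hIdef, Finset.card_image_of_injOn hinj, hF5]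
  have htI : t ∉ I := by
    intro h
    rw [hIdef, Finset.mem_image] at h
    obtain ⟨o, ho, e⟩ := h
    have h1 := hsdiff_card o ho
    have h2 : Disjoint (o \ t) t := Finset.sdiff_disjoint
    rw [e, Finset.disjoint_self_iff_empty] at h2
    rw [h2] at ht
    simp at ht
  have hS0 : insert t I ∈ sextetsOf B := by
    refine ⟨?_, ?_, ?_⟩
    · rw [Finset.card_insert_of_notMem htI, hI5]
    · intro u hu
      rw [Finset.mem_insert] at hu
      rcases hu with rfl | hu
      · exact ht
      · rw [hIdef, Finset.mem_image] at hu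
        obtain ⟨o, ho, rfl⟩ := hu
        exact hsdiff_card o ho
    · intro u hu v hv huv
      rw [Finset.mem_insert] at hu hv
      have key1 : ∀ w ∈ I, t ∪ w ∈ B := by
        intro w hw
        rw [hIdef, Finset.mem_image] at hw
        obtain ⟨o, ho, rfl⟩ := hw
        rw [hunion o ho]
        exact ((hFmem o).1 ho).1
      rcases hu with rfl | hu <;> rcases hv with rfl | hv
      · exact absurd rfl huv
      · exact key1 v hv
      · rw [Finset.union_comm]; exact key1 u hu
      · rw [hIdef, Finset.mem_image] at hu hv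
        obtain ⟨o, ho, rfl⟩ := hu
        obtain ⟨o', ho', rfl⟩ := hv
        have hne : o ≠ o' := fun e => huv (by rw [e])
        have hi := hmeet o ho o' ho' hne
        have e1 : o \ t = o \ o' := by
          rw [← hi, Finset.sdiff_inter_self_left]
        have e2 : o' \ t = o' \ o := by
          rw [← hi, Finset.sdiff_inter_self_right]
        rw [e1, e2]
        exact hsd o ((hFmem o).1 ho).1 o' ((hFmem o').1 ho').1 (by rw [hi, ht])
  refine ⟨insert t I, ⟨hS0, Finset.mem_insert_self t I⟩, ?_⟩
  rintro S' ⟨⟨hS6, hS4, hSu⟩, htS⟩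
  apply Finset.eq_of_subset_of_card_le
  · intro u hu
    rw [Finset.mem_insert]
    by_cases hut : u = t
    · exact Or.inl hut
    · right
      have hB' := hSu t htS u hu (Ne.symm hut)
      have hc := Finset.card_union_add_card_inter t u
      rw [hB.1 _ hB', ht, hS4 u hu] at hc
      have hdis : Disjoint t u := by
        rw [Finset.disjoint_iff_inter_eq_empty, ← Finset.card_eq_zero]; omega
      rw [hIdef, Finset.mem_image]
      refine ⟨t ∪ u, (hFmem _).2 ⟨hB', Finset.subset_union_left⟩, ?_⟩
      rw [Finset.union_sdiff_cancel_left hdis]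
  · rw [hS6, Finset.card_insert_of_notMem htI, hI5]

theorem card_sextets {α : Type*} [Fintype α] [DecidableEq α] (hα : Fintype.card α = 24)
    {B : Set (Finset α)} (hB : Cfsg.IsSteinerSystem 5 8 B)
    (hsd : ∀ o ∈ B, ∀ o' ∈ B, (o ∩ o').card = 4 → (o \ o') ∪ (o' \ o) ∈ B) :
    (sextetsOf B).ncard = 1771 := by
  classical
  set P4 : Finset (Finset α) := Finset.powersetCard 4 Finset.univ with hP4
  have hP4card : P4.card = 10626 := by
    rw [hP4, Finset.card_powersetCard, Finset.card_univ, hα]
    rfl
  set SF : Finset (Finset (Finset α)) := P4.powerset.filter (fun S => S ∈ sextetsOf B) with hSF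
  have hSFmem : ∀ S, S ∈ SF ↔ S ∈ sextetsOf B := by
    intro S
    rw [hSF, Finset.mem_filter, Finset.mem_powerset]
    constructor
    · exact fun h => h.2
    · intro h
      refine ⟨?_, h⟩
      intro t ht
      rw [hP4, Finset.mem_powersetCard]
      exact ⟨Finset.subset_univ _, h.2.1 t ht⟩
  have hset : sextetsOf B = ↑SF := by
    ext S
    rw [Finset.mem_coe, hSFmem]
  rw [hset, Set.ncard_coe_finset]
  have hdc : ∑ S ∈ SF, (P4.filter (fun t => t ∈ S)).card
      = ∑ t ∈ P4, (SF.filter (fun S => t ∈ S)).card := by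
    simp_rw [Finset.card_filter]
    exact Finset.sum_comm
  have hL : ∀ S ∈ SF, (P4.filter (fun t => t ∈ S)).card = 6 := by
    intro S hS
    have hS' := (hSFmem S).1 hS
    have : P4.filter (fun t => t ∈ S) = S := by
      ext t
      rw [Finset.mem_filter, hP4, Finset.mem_powersetCard]
      constructor
      · exact fun h => h.2
      · intro h
        exact ⟨⟨Finset.subset_univ _, hS'.2.1 t h⟩, h⟩
    rw [this, hS'.1]
  have hR : ∀ t ∈ P4, (SF.filter (fun S => t ∈ S)).card = 1 := by
    intro t ht
    rw [hP4, Finset.mem_powersetCard] at ht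
    obtain ⟨S, ⟨hS, htS⟩, hu⟩ := sextet_unique hα hB hsd t ht.2
    rw [Finset.card_eq_one]
    refine ⟨S, ?_⟩
    ext S'
    rw [Finset.mem_filter, Finset.mem_singleton, hSFmem]
    constructor
    · intro h; exact hu S' h
    · rintro rfl; exact ⟨hS, htS⟩
  rw [Finset.sum_congr rfl hL, Finset.sum_congr rfl hR, Finset.sum_const, Finset.sum_const,
    smul_eq_mul, smul_eq_mul, hP4card] at hdc
  omega

end Cfsg.Agent.helper28.Design
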