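import Cfsg.Statements.S1550
import Cfsg.Agent.Lib_helper28_Sextets
import Cfsg.Agent.Lib_helper28_GolayInst

set_option autoImplicit false
open Cfsg

namespace Cfsg.Agent.S1550

/-- Every 4-element set of the 24 points is a tetrad of exactly one sextet, and the sextets number 1771. -/
theorem result : (∀ t : Finset Cfsg.GolayPt, t.card = 4 → ∃! S : Finset (Finset Cfsg.GolayPt), S ∈ Cfsg.sextets ∧ t ∈ S) ∧ Cfsg.sextets.ncard = 1771 := by
  have hG := Cfsg.Agent.helper28.Octad.isGolay_golayCode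
  have hS : Cfsg.IsSteinerSystem 5 8 Cfsg.octads :=
    Cfsg.Agent.helper28.GolayGen.steiner hG.card Cfsg.golayCode hG.dim hG.orth hG.min
  have hsd : ∀ o ∈ Cfsg.octads, ∀ o' ∈ Cfsg.octads, (o ∩ o').card = 4 →
      (o \ o') ∪ (o' \ o) ∈ Cfsg.octads := fun o ho o' ho' h4 =>
    Cfsg.Agent.helper28.Octad.symm_mem_Oct hG ho ho' h4
  have e : Cfsg.sextets = Cfsg.Agent.helper28.Design.sextetsOf Cfsg.octads := rfl
  rw [e]
  exact ⟨fun t ht => Cfsg.Agent.helper28.Design.sextet_unique hG.card hS hsd t ht,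
    Cfsg.Agent.helper28.Design.card_sextets hG.card hS hsd⟩

end Cfsg.Agent.S1550
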