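import Cfsg.Agent.Lib_helper28_Design24
set_option autoImplicit false

/-! Counting the trios of an S(5,8,24) closed under complements of disjoint unions. -/

namespace Cfsg.Agent.helper28.Design

open Finset Cfsg.Agent.S5625

theorem card_blocks24 {α : Type*} [Fintype α] [DecidableEq α] (hα : Fintype.card α = 24)
    {B : Set (Finset α)} (hB : Cfsg.IsSteinerSystem 5 8 B) : (toF B).card = 759 := by
  have h := cnt_le5 hα (toF B) (toF_card hB) (toF_cnt hB) ∅ (by simp)
  have hc : cnt (toF B) (∅ : Finset α) = (toF B).card := by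
    unfold cnt
    congr 1
    ext b
    simp
  rw [hc] at h
  exact h

theorem card_trios {α : Type*} [Fintype α] [DecidableEq α] (hα : Fintype.card α = 24)
    {B : Set (Finset α)} (hB : Cfsg.IsSteinerSystem 5 8 B)
    (hcu : ∀ o ∈ B, ∀ o' ∈ B, Disjoint o o' → (o ∪ o')ᶜ ∈ B) :
    {T : Finset (Finset α) | T.card = 3 ∧ (∀ o ∈ T, o ∈ B) ∧
      ∀ o ∈ T, ∀ o' ∈ T, o ≠ o' → Disjoint o o'}.ncard = 3795 := by
  classical
  set Bf := toF B with hBfdef
  have hBf : ∀ b, b ∈ Bf ↔ b ∈ B := mem_toF B
  have hk : ∀ b ∈ Bf, b.card = 8 := toF_card hB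
  have h5 := toF_cnt hB
  have hcardB : Bf.card = 759 := card_blocks24 hα hB
  have hne_of_disj : ∀ a b : Finset α, a ∈ Bf → Disjoint a b → a ≠ b := by
    intro a b ha hd e
    rw [← e, Finset.disjoint_self_iff_empty] at hd
    have := hk a ha
    rw [hd] at this
    simp at this
  set D := (Bf ×ˢ Bf).filter (fun p => Disjoint p.1 p.2) with hDdef
  have hD : D.card = 759 * 30 := by
    rw [hDdef, Finset.card_filter, Finset.sum_product]
    have : ∀ o ∈ Bf, (∑ e ∈ Bf, if Disjoint (o, e).1 (o, e).2 then 1 else 0) = 30 := by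
      intro o ho
      rw [← Finset.card_filter]
      have := (s5824 hα Bf hk h5 o ho ∅ (Finset.empty_subset o)).1 Finset.card_empty
      rw [← this]
      congr 1
      apply Finset.filter_congr
      intro e _
      exact Finset.disjoint_iff_inter_eq_empty
    rw [Finset.sum_congr rfl this, Finset.sum_const, hcardB, smul_eq_mul]
  set TF := Bf.powerset.filter
    (fun T => T.card = 3 ∧ ∀ o ∈ T, ∀ o' ∈ T, o ≠ o' → Disjoint o o') with hTFdef
  have hset : {T : Finset (Finset α) | T.card = 3 ∧ (∀ o ∈ T, o ∈ B) ∧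
      ∀ o ∈ T, ∀ o' ∈ T, o ≠ o' → Disjoint o o'} = ↑TF := by
    ext T
    simp only [Set.mem_ofPred_eq, hTFdef, Finset.coe_filter, Finset.mem_powerset]
    constructor
    · rintro ⟨h1, h2, h3⟩
      exact ⟨fun o ho => (hBf o).2 (h2 o ho), h1, h3⟩
    · rintro ⟨h2, h1, h3⟩
      exact ⟨h1, fun o ho => (hBf o).1 (h2 ho), h3⟩
  rw [hset, Set.ncard_coe_finset]
  let f : Finset α × Finset α → Finset (Finset α) := fun p => {p.1, p.2, (p.1 ∪ p.2)ᶜ}
  -- basic facts about a disjoint pair
  have hpair : ∀ o e : Finset α, o ∈ Bf → e ∈ Bf → Disjoint o e →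
      (o ∪ e)ᶜ ∈ Bf ∧ Disjoint o (o ∪ e)ᶜ ∧ Disjoint e (o ∪ e)ᶜ := by
    intro o e ho he hd
    refine ⟨(hBf _).2 (hcu o ((hBf o).1 ho) e ((hBf e).1 he) hd), ?_, ?_⟩
    · rw [Finset.disjoint_left]
      intro x hx hx'
      rw [Finset.mem_compl, Finset.mem_union, not_or] at hx'
      exact hx'.1 hx
    · rw [Finset.disjoint_left]
      intro x hx hx'
      rw [Finset.mem_compl, Finset.mem_union, not_or] at hx'
      exact hx'.2 hx
  have hmaps : ∀ p ∈ D, f p ∈ TF := by
    rintro ⟨o, e⟩ hp
    rw [hDdef, Finset.mem_filter, Finset.mem_product] at hp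
    obtain ⟨⟨ho, he⟩, hd⟩ := hp
    simp only at ho he hd
    obtain ⟨hx, hdo, hde⟩ := hpair o e ho he hd
    have n1 := hne_of_disj o e ho hd
    have n2 := hne_of_disj o _ ho hdo
    have n3 := hne_of_disj e _ he hde
    rw [hTFdef, Finset.mem_filter, Finset.mem_powerset]
    refine ⟨?_, ?_, ?_⟩
    · intro b hb
      simp only [f, Finset.mem_insert, Finset.mem_singleton] at hb
      rcases hb with rfl | rfl | rfl
      · exact ho
      · exact he
      · exact hx
    · simp only [f]
      rw [Finset.card_insert_of_notMem, Finset.card_insert_of_notMem, Finset.card_singleton]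
      · rw [Finset.mem_singleton]; exact n3
      · rw [Finset.mem_insert, Finset.mem_singleton, not_or]; exact ⟨n1, n2⟩
    · intro a ha b hb hab
      simp only [f, Finset.mem_insert, Finset.mem_singleton] at ha hb
      rcases ha with rfl | rfl | rfl <;> rcases hb with rfl | rfl | rfl
      · exact absurd rfl hab
      · exact hd
      · exact hdo
      · exact hd.symm
      · exact absurd rfl hab
      · exact hde
      · exact hdo.symm
      · exact hde.symm
      · exact absurd rfl hab
  have hfib : ∀ T ∈ TF, (D.filter (fun p => f p = T)) = T.offDiag := by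
    intro T hT
    rw [hTFdef, Finset.mem_filter, Finset.mem_powerset] at hT
    obtain ⟨hTB, hT3, hTd⟩ := hT
    ext ⟨o, e⟩
    rw [Finset.mem_filter, Finset.mem_offDiag, hDdef, Finset.mem_filter, Finset.mem_product]
    simp only
    constructor
    · rintro ⟨⟨⟨ho, he⟩, hd⟩, hf⟩
      refine ⟨?_, ?_, hne_of_disj o e ho hd⟩
      · rw [← hf]; simp [f]
      · rw [← hf]; simp [f]
    · rintro ⟨hoT, heT, hoe⟩
      have ho := hTB hoT
      have he := hTB heT
      have hd := hTd o hoT e heT hoe
      refine ⟨⟨⟨ho, he⟩, hd⟩, ?_⟩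
      obtain ⟨hx, hdo, hde⟩ := hpair o e ho he hd
      have n2 := hne_of_disj o _ ho hdo
      have n3 := hne_of_disj e _ he hde
      -- a third element of T
      have hex : ∃ x ∈ T, x ≠ o ∧ x ≠ e := by
        by_contra hcon
        push Not at hcon
        have hsub : T ⊆ {o, e} := by
          intro x hx
          rw [Finset.mem_insert, Finset.mem_singleton]
          by_cases hxo : x = o
          · exact Or.inl hxo
          · exact Or.inr (hcon x hx hxo)
        have := Finset.card_le_card hsub
        rw [hT3, Finset.card_pair hoe] at this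
        omega
      obtain ⟨x, hxT, hxo, hxe⟩ := hex
      have hxB := hTB hxT
      have hdx1 := hTd x hxT o hoT hxo
      have hdx2 := hTd x hxT e heT hxe
      have hxeq : x = (o ∪ e)ᶜ := by
        apply Finset.eq_of_subset_of_card_le
        · intro y hy
          rw [Finset.mem_compl, Finset.mem_union, not_or]
          exact ⟨fun h => Finset.disjoint_left.1 hdx1 hy h, fun h => Finset.disjoint_left.1 hdx2 hy h⟩
        · rw [hk x hxB, hk _ hx]
      apply Finset.eq_of_subset_of_card_le
      · intro b hb
        simp only [f, Finset.mem_insert, Finset.mem_singleton] at hb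
        rcases hb with rfl | rfl | rfl
        · exact hoT
        · exact heT
        · rw [← hxeq]; exact hxT
      · rw [hT3]
        change 3 ≤ ({o, e, (o ∪ e)ᶜ} : Finset (Finset α)).card
        rw [Finset.card_insert_of_notMem, Finset.card_insert_of_notMem, Finset.card_singleton]
        · rw [Finset.mem_singleton]; exact n3
        · rw [Finset.mem_insert, Finset.mem_singleton, not_or]; exact ⟨hoe, n2⟩
  have hsum := Finset.card_eq_sum_card_fiberwise (f := f) (s := D) (t := TF) hmaps
  have h6 : ∀ T ∈ TF, (D.filter (fun p => f p = T)).card = 6 := by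
    intro T hT
    rw [hfib T hT, Finset.offDiag_card]
    rw [hTFdef, Finset.mem_filter] at hT
    rw [hT.2.1]
  rw [Finset.sum_congr rfl h6, Finset.sum_const, smul_eq_mul, hD] at hsum
  omega

end Cfsg.Agent.helper28.Design
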