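import Cfsg.Statements.S1557
import Cfsg.Agent.Lib_helper28_Trios
import Cfsg.Agent.Lib_helper28_GolayInst

set_option autoImplicit false
open Cfsg

namespace Cfsg.Agent.S1557

/-- The complement of the union of two disjoint octads is an octad, and the code has exactly 3795 trios of pairwise disjoint octads. -/
theorem result : (∀ o o' : Finset Cfsg.GolayPt, o ∈ Cfsg.octads → o' ∈ Cfsg.octads → Disjoint o o' → (o ∪ o')ᶜ ∈ Cfsg.octads) ∧ Cfsg.trios.ncard = 3795 := by
  have hG := Cfsg.Agent.helper28.Octad.isGolay_golayCode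
  have hS : Cfsg.IsSteinerSystem 5 8 Cfsg.octads :=
    Cfsg.Agent.helper28.GolayGen.steiner hG.card Cfsg.golayCode hG.dim hG.orth hG.min
  have h1 : ∀ o o' : Finset Cfsg.GolayPt, o ∈ Cfsg.octads → o' ∈ Cfsg.octads → Disjoint o o' →
      (o ∪ o')ᶜ ∈ Cfsg.octads := fun o o' ho ho' hd =>
    Cfsg.Agent.helper28.Octad.compl_union_mem_Oct hG ho ho' hd
  refine ⟨h1, ?_⟩
  exact Cfsg.Agent.helper28.Design.card_trios hG.card hS (fun o ho o' ho' hd => h1 o o' ho ho' hd)

end Cfsg.Agent.S1557
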