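import Mathlib
import Cfsg.Agent.Lib_helper2_M24p
import Cfsg.Agent.S1550
import Cfsg.Agent.S1557
import Cfsg.Agent.Lib_helper28_Dual
import Cfsg.Agent.Lib_helper28_M24orbData

set_option autoImplicit false

/-! `M24` acting on sextets and trios: invariance, transitivity, class functions, and certified
orbits of the stabilisers of a base sextet / base trio on octads. -/

namespace Cfsg.Agent.helper28.M24orb

open Cfsg MulAction Cfsg.Agent.helper2.Golay
open scoped Pointwise

/-! ### invariance -/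

theorem smul_mem_sextets {g : Equiv.Perm GolayPt} (hg : g ∈ M24) {S : Finset (Finset GolayPt)}
    (hS : S ∈ sextets) : g • S ∈ sextets := by
  obtain ⟨h6, h4, hu⟩ := hS
  refine ⟨by rw [Finset.card_smul_finset]; exact h6, ?_, ?_⟩
  · intro t ht
    obtain ⟨t', ht', rfl⟩ := Finset.mem_smul_finset.mp ht
    rw [Finset.card_smul_finset]
    exact h4 t' ht'
  · intro t ht u hu' hne
    obtain ⟨t', ht', rfl⟩ := Finset.mem_smul_finset.mp ht
    obtain ⟨u', hu'', rfl⟩ := Finset.mem_smul_finset.mp hu'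
    rw [← Finset.smul_finset_union]
    exact smul_mem_octads' hg (hu t' ht' u' hu'' (fun h => hne (by rw [h])))

theorem smul_mem_trios {g : Equiv.Perm GolayPt} (hg : g ∈ M24) {T : Finset (Finset GolayPt)}
    (hT : T ∈ trios) : g • T ∈ trios := by
  obtain ⟨h3, ho, hd⟩ := hT
  refine ⟨by rw [Finset.card_smul_finset]; exact h3, ?_, ?_⟩
  · intro o hoT
    obtain ⟨o', ho', rfl⟩ := Finset.mem_smul_finset.mp hoT
    exact smul_mem_octads' hg (ho o' ho')
  · intro o hoT o2 ho2T hne
    obtain ⟨o', ho', rfl⟩ := Finset.mem_smul_finset.mp hoT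
    obtain ⟨o2', ho2', rfl⟩ := Finset.mem_smul_finset.mp ho2T
    have h := hd o' ho' o2' ho2' (fun h => hne (by rw [h]))
    rw [Finset.disjoint_iff_inter_eq_empty] at h ⊢
    rw [← Finset.smul_finset_inter, h, Finset.smul_finset_empty]

theorem inv_mem {g : Equiv.Perm GolayPt} (hg : g ∈ M24) : g⁻¹ ∈ M24 := Subgroup.inv_mem _ hg

/-! ### transitivity -/

theorem four_set_transitive {t t' : Finset GolayPt} (ht : t.card = 4) (ht' : t'.card = 4) :
    ∃ g ∈ M24, g • t = t' := by
  obtain ⟨h, hh, hht⟩ := kset_to_base (k := 4) (by norm_num) ht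
  obtain ⟨h', hh', hht'⟩ := kset_to_base (k := 4) (by norm_num) ht'
  refine ⟨h'⁻¹ * h, Subgroup.mul_mem _ (inv_mem hh') hh, ?_⟩
  rw [mul_smul, hht, ← hht', inv_smul_smul]

theorem sextets_transitive {S S' : Finset (Finset GolayPt)} (hS : S ∈ sextets)
    (hS' : S' ∈ sextets) : ∃ g ∈ M24, g • S = S' := by
  have hne : S.Nonempty := Finset.card_pos.mp (by rw [hS.1]; norm_num)
  have hne' : S'.Nonempty := Finset.card_pos.mp (by rw [hS'.1]; norm_num)
  obtain ⟨t, ht⟩ := hne
  obtain ⟨t', ht'⟩ := hne'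
  obtain ⟨g, hg, hgt⟩ := four_set_transitive (hS.2.1 t ht) (hS'.2.1 t' ht')
  refine ⟨g, hg, ?_⟩
  obtain ⟨U, -, huniq⟩ := (Cfsg.Agent.S1550.result).1 t' (hS'.2.1 t' ht')
  rw [huniq (g • S) ⟨smul_mem_sextets hg hS, by rw [← hgt]; exact Finset.smul_mem_smul_finset ht⟩,
    huniq S' ⟨hS', ht'⟩]

theorem third_eq {A B C : Finset GolayPt} (hA : A ∈ octads) (hB : B ∈ octads) (hC : C ∈ octads)
    (hAB : Disjoint A B) (hAC : Disjoint A C) (hBC : Disjoint B C) : C = (A ∪ B)ᶜ := by
  have h8 := octads_steiner.1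
  apply Finset.eq_of_subset_of_card_le
  · intro x hx
    rw [Finset.mem_compl, Finset.mem_union]
    rintro (h | h)
    · exact Finset.disjoint_left.mp hAC h hx
    · exact Finset.disjoint_left.mp hBC h hx
  · rw [Finset.card_compl, Finset.card_union_of_disjoint hAB, h8 A hA, h8 B hB, h8 C hC,
      card_golayPt]

theorem trios_transitive {T T' : Finset (Finset GolayPt)} (hT : T ∈ trios) (hT' : T' ∈ trios) :
    ∃ g ∈ M24, g • T = T' := by
  obtain ⟨A, B, C, hAB, hAC, hBC, rfl⟩ := Finset.card_eq_three.mp hT.1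
  obtain ⟨A', B', C', hAB', hAC', hBC', rfl⟩ := Finset.card_eq_three.mp hT'.1
  have oA := hT.2.1 A (by simp)
  have oB := hT.2.1 B (by simp)
  have oC := hT.2.1 C (by simp)
  have oA' := hT'.2.1 A' (by simp)
  have oB' := hT'.2.1 B' (by simp)
  have oC' := hT'.2.1 C' (by simp)
  have dAB := hT.2.2 A (by simp) B (by simp) hAB
  have dAC := hT.2.2 A (by simp) C (by simp) hAC
  have dBC := hT.2.2 B (by simp) C (by simp) hBC
  have dAB' := hT'.2.2 A' (by simp) B' (by simp) hAB'
  have dAC' := hT'.2.2 A' (by simp) C' (by simp) hAC'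
  have dBC' := hT'.2.2 B' (by simp) C' (by simp) hBC'
  obtain ⟨g₁, hg₁, hg₁A⟩ := octads_transitive oA oA'
  have hcard : (A' ∩ g₁ • B).card = (A' ∩ B').card := by
    rw [← hg₁A, ← Finset.smul_finset_inter, Finset.card_smul_finset,
      Finset.disjoint_iff_inter_eq_empty.mp dAB, hg₁A, Finset.disjoint_iff_inter_eq_empty.mp dAB']
  obtain ⟨g₂, hg₂, hg₂A, hg₂B⟩ :=
    octad_stab_transitive oA' (smul_mem_octads' hg₁ oB) oB' hcard
  refine ⟨g₂ * g₁, Subgroup.mul_mem _ hg₂ hg₁, ?_⟩
  have eA : (g₂ * g₁) • A = A' := by rw [mul_smul, hg₁A, hg₂A]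
  have eB : (g₂ * g₁) • B = B' := by rw [mul_smul, hg₂B]
  have eC : (g₂ * g₁) • C = C' := by
    rw [third_eq oA oB oC dAB dAC dBC, smul_compl, Finset.smul_finset_union, eA, eB,
      ← third_eq oA' oB' oC' dAB' dAC' dBC']
  rw [Finset.smul_finset_insert, Finset.smul_finset_insert, Finset.smul_finset_singleton, eA, eB,
    eC]

/-! ### mask lists -/

/-- the family of point sets of a list of masks -/
def ofMasks (l : List ℕ) : Finset (Finset GolayPt) := (l.map pts).toFinset

theorem mem_ofMasks {l : List ℕ} {s : Finset GolayPt} : s ∈ ofMasks l ↔ ∃ a ∈ l, pts a = s := by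
  unfold ofMasks
  rw [List.mem_toFinset, List.mem_map]

theorem smul_ofMasks {d : List ℕ × List ℕ} (h : tablesOK d.1 d.2 = true) (l : List ℕ) :
    gperm d • ofMasks l = ofMasks (l.map (pull (tb d.2))) := by
  ext s
  rw [Finset.mem_smul_finset, mem_ofMasks]
  constructor
  · rintro ⟨s', hs', rfl⟩
    obtain ⟨a, ha, rfl⟩ := mem_ofMasks.mp hs'
    exact ⟨_, List.mem_map.mpr ⟨a, ha, rfl⟩, (gperm_smul_pts h a).symm⟩
  · rintro ⟨b, hb, rfl⟩
    obtain ⟨a, ha, rfl⟩ := List.mem_map.mp hb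
    exact ⟨pts a, mem_ofMasks.mpr ⟨a, ha, rfl⟩, gperm_smul_pts h a⟩

theorem ofMasks_congr {l l' : List ℕ} (h : l.toFinset = l'.toFinset) : ofMasks l = ofMasks l' := by
  ext s
  rw [mem_ofMasks, mem_ofMasks]
  constructor
  · rintro ⟨a, ha, rfl⟩
    exact ⟨a, List.mem_toFinset.mp (h ▸ List.mem_toFinset.mpr ha), rfl⟩
  · rintro ⟨a, ha, rfl⟩
    exact ⟨a, List.mem_toFinset.mp (h.symm ▸ List.mem_toFinset.mpr ha), rfl⟩

theorem pts_zero : pts 0 = ∅ := by
  ext p
  rw [mem_pts]
  simp

theorem pts_nonempty_iff {x : ℕ} (hx : x < 2 ^ 24) : (pts x).Nonempty ↔ x ≠ 0 := by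
  rw [Finset.nonempty_iff_ne_empty, ne_eq, ne_eq, not_iff_not]
  constructor
  · intro h
    exact pts_inj_lt hx (by norm_num) (h.trans pts_zero.symm)
  · rintro rfl
    exact pts_zero

theorem map_pts_nodup {l : List ℕ} (hl : ∀ a ∈ l, a < 2 ^ 24) (hnd : l.Nodup) :
    (l.map pts).Nodup := by
  apply List.Nodup.map_on _ hnd
  intro a ha b hb hab
  exact pts_inj_lt (hl a ha) (hl b hb) hab

theorem card_ofMasks {l : List ℕ} (hl : ∀ a ∈ l, a < 2 ^ 24) (hnd : l.Nodup) :
    (ofMasks l).card = l.length := by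
  unfold ofMasks
  rw [List.toFinset_card_of_nodup (map_pts_nodup hl hnd), List.length_map]

/-- number of members of a family meeting a set -/
def cnt (T : Finset (Finset GolayPt)) (o : Finset GolayPt) : ℕ :=
  (T.filter (fun A => (A ∩ o).Nonempty)).card

theorem cnt_smul (g : Equiv.Perm GolayPt) (T : Finset (Finset GolayPt)) (o : Finset GolayPt) :
    cnt (g • T) (g • o) = cnt T o := by
  unfold cnt
  have h : (g • T).filter (fun A => (A ∩ g • o).Nonempty) =
      (T.filter (fun A => (A ∩ o).Nonempty)).image (fun A => g • A) := by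
    ext A
    rw [Finset.mem_filter, Finset.mem_image, Finset.mem_smul_finset]
    constructor
    · rintro ⟨⟨A', hA', rfl⟩, hne⟩
      refine ⟨A', ?_, rfl⟩
      rw [Finset.mem_filter]
      refine ⟨hA', ?_⟩
      rw [← Finset.smul_finset_inter] at hne
      exact Finset.smul_finset_nonempty.mp hne
    · rintro ⟨A', hA', rfl⟩
      rw [Finset.mem_filter] at hA'
      refine ⟨⟨A', hA'.1, rfl⟩, ?_⟩
      rw [← Finset.smul_finset_inter]
      exact Finset.smul_finset_nonempty.mpr hA'.2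
  rw [h, Finset.card_image_of_injective _ (MulAction.injective g)]

/-- mask version of `cnt` -/
def cntL (l : List ℕ) (b : ℕ) : ℕ := (l.filter (fun a => a &&& b != 0)).length

theorem cnt_ofMasks {l : List ℕ} (hl : ∀ a ∈ l, a < 2 ^ 24) (hnd : l.Nodup) (b : ℕ) :
    cnt (ofMasks l) (pts b) = cntL l b := by
  unfold cnt cntL ofMasks
  have h0 : (List.map pts l).toFinset.filter (fun A => (A ∩ pts b).Nonempty) =
      ((List.map pts l).filter (fun A => decide ((A ∩ pts b).Nonempty))).toFinset := by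
    ext A
    simp only [Finset.mem_filter, List.mem_toFinset, List.mem_filter, decide_eq_true_eq]
  rw [h0, List.toFinset_card_of_nodup ((map_pts_nodup hl hnd).filter _), List.filter_map,
    List.length_map]
  congr 1
  apply List.filter_congr
  intro a ha
  have hlt : a &&& b < 2 ^ 24 := lt_of_le_of_lt Nat.and_le_left (hl a ha)
  have h1 := pts_nonempty_iff hlt
  rw [pts_and] at h1
  rw [Bool.eq_iff_iff]
  simp only [Function.comp, decide_eq_true_eq, bne_iff_ne, ne_eq]
  exact h1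

theorem cntL_le (l : List ℕ) (b : ℕ) : cntL l b ≤ l.length := List.length_filter_le _ _

/-! ### certified stabilisers -/

/-- the stabiliser in `M24` of a family given by masks -/
def stabOf (l : List ℕ) : Subgroup (Equiv.Perm GolayPt) :=
  M24 ⊓ MulAction.stabilizer (Equiv.Perm GolayPt) (ofMasks l)

theorem mem_stabOf {l : List ℕ} {g : Equiv.Perm GolayPt} :
    g ∈ stabOf l ↔ g ∈ M24 ∧ g • ofMasks l = ofMasks l := Iff.rfl

/-- Boolean check that the generators stabilise the family -/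
def stabGensOK (l : List ℕ) (gens : List (List ℕ × List ℕ)) : Bool :=
  gens.all fun d => tablesOK d.1 d.2 && codeOK d.2 &&
    decide ((l.map (pull (tb d.2))).toFinset = l.toFinset)

theorem stabGens_mem {l : List ℕ} {gens : List (List ℕ × List ℕ)}
    (h : stabGensOK l gens = true) :
    ∀ d ∈ gens, tablesOK d.1 d.2 = true ∧ gperm d ∈ stabOf l := by
  intro d hd
  unfold stabGensOK at h
  rw [List.all_eq_true] at h
  have h1 := h d hd
  simp only [Bool.and_eq_true, decide_eq_true_eq] at h1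
  obtain ⟨⟨ht, hc⟩, hs⟩ := h1
  refine ⟨ht, mem_stabOf.mpr ⟨gperm_mem ht hc, ?_⟩⟩
  rw [smul_ofMasks ht, ofMasks_congr hs]

/-- class of a code word index with respect to a family: the number of members met, for octads -/
def clsO (l : List ℕ) (m : ℕ) : ℕ := if wt (cw m) = 8 then cntL l (cw m) else 100

theorem cert_oct {l : List ℕ} (hl : ∀ a ∈ l, a < 2 ^ 24) (hnd : l.Nodup)
    {gens : List (List ℕ × List ℕ)} (hg : stabGensOK l gens = true)
    {trees : List (List (ℕ × ℕ × ℕ))} (hlen : l.length < trees.length)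
    (hT : trees.all (treeOK gens) = true)
    (hall : ∀ m < 4096, clsO l m < trees.length →
      (trees.getD (clsO l m) []).any (fun e => e.1 == cw m) = true)
    {o o' : Finset GolayPt} (ho : o ∈ octads) (ho' : o' ∈ octads)
    (hc : cnt (ofMasks l) o = cnt (ofMasks l) o') :
    ∃ g ∈ M24, g • ofMasks l = ofMasks l ∧ g • o = o' := by
  obtain ⟨m, hm, hw, rfl⟩ := exists_of_mem_octads ho
  obtain ⟨m', hm', hw', rfl⟩ := exists_of_mem_octads ho'
  rw [cnt_ofMasks hl hnd, cnt_ofMasks hl hnd] at hc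
  have e1 : clsO l m = cntL l (cw m) := by unfold clsO; rw [if_pos hw]
  have e2 : clsO l m' = cntL l (cw m') := by unfold clsO; rw [if_pos hw']
  obtain ⟨g, hgK, hgo⟩ := rank_reach (stabOf l) gens (stabGens_mem hg) trees hT (clsO l) hall hm hm'
    (by rw [e1]; exact lt_of_le_of_lt (cntL_le l _) hlen) (by rw [e1, e2, hc])
  rw [mem_stabOf] at hgK
  exact ⟨g, hgK.1, hgK.2, hgo⟩

theorem count_oct {l : List ℕ} (hl : ∀ a ∈ l, a < 2 ^ 24) (hnd : l.Nodup) (k : ℕ) (hk : k ≠ 100) :
    {o | o ∈ octads ∧ cnt (ofMasks l) o = k}.ncard =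
      ((Finset.range 4096).filter (fun m => clsO l m = k)).card := by
  apply ncard_cls
  intro s
  constructor
  · rintro ⟨hs, hc⟩
    obtain ⟨m, hm, hw, rfl⟩ := exists_of_mem_octads hs
    refine ⟨m, hm, ?_, rfl⟩
    unfold clsO
    rw [if_pos hw, ← cnt_ofMasks hl hnd]
    exact hc
  · rintro ⟨m, hm, hc, rfl⟩
    unfold clsO at hc
    split_ifs at hc with hw
    · exact ⟨pts_mem_octads hm hw, by rw [cnt_ofMasks hl hnd]; exact hc⟩
    · exact absurd hc.symm hk

end Cfsg.Agent.helper28.M24orb
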