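import Mathlib
import Cfsg.Agent.Lib_helper28_M24orb

set_option autoImplicit false

/-! Certified orbits on octads of the stabilisers of the base sextet and the base trio. -/

namespace Cfsg.Agent.helper28.M24orb

open Cfsg MulAction Cfsg.Agent.helper2.Golay
open scoped Pointwise

theorem s0l_lt : ∀ a ∈ s0l, a < 2 ^ 24 := by decide
theorem s0l_nodup : s0l.Nodup := by decide
theorem t0l_lt : ∀ a ∈ t0l, a < 2 ^ 24 := by decide
theorem t0l_nodup : t0l.Nodup := by decide

/-- the base sextet -/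
def S0 : Finset (Finset GolayPt) := ofMasks s0l
/-- the base trio -/
def T0 : Finset (Finset GolayPt) := ofMasks t0l

theorem s0l_wt : ∀ a ∈ s0l, wt a = 4 := by decide +kernel

theorem s0l_union : ∀ a ∈ s0l, ∀ b ∈ s0l, a ≠ b →
    (a ||| b) = cw ((a ||| b) % 4096) ∧ wt (cw ((a ||| b) % 4096)) = 8 := by decide +kernel

theorem S0_mem : S0 ∈ sextets := by
  refine ⟨by rw [S0, card_ofMasks s0l_lt s0l_nodup]; rfl, ?_, ?_⟩
  · intro t ht
    obtain ⟨a, ha, rfl⟩ := mem_ofMasks.mp ht
    rw [card_pts, s0l_wt a ha]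
  · intro t ht u hu hne
    obtain ⟨a, ha, rfl⟩ := mem_ofMasks.mp ht
    obtain ⟨b, hb, rfl⟩ := mem_ofMasks.mp hu
    have hab : a ≠ b := fun h => hne (by rw [h])
    obtain ⟨h1, h2⟩ := s0l_union a ha b hb hab
    rw [← pts_or, h1]
    exact pts_mem_octads (Nat.mod_lt _ (by norm_num)) h2

theorem t0l_oct : ∀ a ∈ t0l, a = cw (a % 4096) ∧ wt (cw (a % 4096)) = 8 := by decide +kernel

theorem t0l_disj : ∀ a ∈ t0l, ∀ b ∈ t0l, a ≠ b → a &&& b = 0 := by decide +kernel

theorem T0_mem : T0 ∈ trios := by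
  refine ⟨by rw [T0, card_ofMasks t0l_lt t0l_nodup]; rfl, ?_, ?_⟩
  · intro t ht
    obtain ⟨a, ha, rfl⟩ := mem_ofMasks.mp ht
    obtain ⟨h1, h2⟩ := t0l_oct a ha
    rw [h1]
    exact pts_mem_octads (Nat.mod_lt _ (by norm_num)) h2
  · intro t ht u hu hne
    obtain ⟨a, ha, rfl⟩ := mem_ofMasks.mp ht
    obtain ⟨b, hb, rfl⟩ := mem_ofMasks.mp hu
    have hab : a ≠ b := fun h => hne (by rw [h])
    rw [Finset.disjoint_iff_inter_eq_empty, ← pts_and, t0l_disj a ha b hb hab, pts_zero]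

theorem gS_ok : stabGensOK s0l gS = true := by decide +kernel
theorem gT_ok : stabGensOK t0l gT = true := by decide +kernel

theorem trSO_ok : trSO.all (treeOK gS) = true := by decide +kernel
theorem trTO_ok : trTO.all (treeOK gT) = true := by decide +kernel

theorem trSO_all : ∀ m < 4096, clsO s0l m < trSO.length →
    (trSO.getD (clsO s0l m) []).any (fun e => e.1 == cw m) = true :=
  forall_lt_4096 (by decide +kernel)

theorem trTO_all : ∀ m < 4096, clsO t0l m < trTO.length →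
    (trTO.getD (clsO t0l m) []).any (fun e => e.1 == cw m) = true :=
  forall_lt_4096 (by decide +kernel)

/-- the stabiliser of the base sextet is transitive on the octads meeting a given number of its
tetrads -/
theorem cert_SO {o o' : Finset GolayPt} (ho : o ∈ octads) (ho' : o' ∈ octads)
    (hc : cnt S0 o = cnt S0 o') : ∃ g ∈ M24, g • S0 = S0 ∧ g • o = o' :=
  cert_oct s0l_lt s0l_nodup gS_ok (by decide) trSO_ok trSO_all ho ho' hc

theorem cert_TO {o o' : Finset GolayPt} (ho : o ∈ octads) (ho' : o' ∈ octads)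
    (hc : cnt T0 o = cnt T0 o') : ∃ g ∈ M24, g • T0 = T0 ∧ g • o = o' :=
  cert_oct t0l_lt t0l_nodup gT_ok (by decide) trTO_ok trTO_all ho ho' hc

theorem count_SO2 : {o | o ∈ octads ∧ cnt S0 o = 2}.ncard = 15 := by
  rw [S0, count_oct s0l_lt s0l_nodup 2 (by norm_num)]; decide +kernel
theorem count_SO4 : {o | o ∈ octads ∧ cnt S0 o = 4}.ncard = 360 := by
  rw [S0, count_oct s0l_lt s0l_nodup 4 (by norm_num)]; decide +kernel
theorem count_SO6 : {o | o ∈ octads ∧ cnt S0 o = 6}.ncard = 384 := by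
  rw [S0, count_oct s0l_lt s0l_nodup 6 (by norm_num)]; decide +kernel

theorem count_TO1 : {o | o ∈ octads ∧ cnt T0 o = 1}.ncard = 3 := by
  rw [T0, count_oct t0l_lt t0l_nodup 1 (by norm_num)]; decide +kernel
theorem count_TO2 : {o | o ∈ octads ∧ cnt T0 o = 2}.ncard = 84 := by
  rw [T0, count_oct t0l_lt t0l_nodup 2 (by norm_num)]; decide +kernel
theorem count_TO3 : {o | o ∈ octads ∧ cnt T0 o = 3}.ncard = 672 := by
  rw [T0, count_oct t0l_lt t0l_nodup 3 (by norm_num)]; decide +kernel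

end Cfsg.Agent.helper28.M24orb
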