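import Mathlib
import Cfsg.Agent.Lib_helper28_M24orbA

set_option autoImplicit false

/-! Orbit statements for stabilisers in `M24` of octads, sextets and trios, assembled from the
certificates by duality. -/

namespace Cfsg.Agent.helper28.M24orb

open Cfsg MulAction Cfsg.Agent.helper2.Golay
open scoped Pointwise

section generic
variable {G X Y ι : Type*} [Group G] [MulAction G X] [MulAction G Y]

theorem conj_trans (M : Subgroup G) (SX : Set X) (SY : Set Y) (c : X → Y → ι)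
    (hinv : ∀ g ∈ M, ∀ x y, c (g • x) (g • y) = c x y)
    (hX : ∀ x ∈ SX, ∀ x' ∈ SX, ∃ g ∈ M, g • x = x')
    (hSY : ∀ g ∈ M, ∀ y ∈ SY, g • y ∈ SY)
    {x₀ : X} (hx₀ : x₀ ∈ SX)
    (hcert : ∀ y ∈ SY, ∀ y' ∈ SY, c x₀ y = c x₀ y' → ∃ g ∈ M, g • x₀ = x₀ ∧ g • y = y')
    {x : X} (hx : x ∈ SX) {y y' : Y} (hy : y ∈ SY) (hy' : y' ∈ SY) (hc : c x y = c x y') :
    ∃ g ∈ M, g • x = x ∧ g • y = y' := by
  obtain ⟨h, hh, hhx⟩ := hX x hx x₀ hx₀
  have e1 : c x₀ (h • y) = c x₀ (h • y') := by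
    rw [← hhx, hinv h hh, hinv h hh, hc]
  obtain ⟨k, hk, hkx, hky⟩ := hcert (h • y) (hSY h hh y hy) (h • y') (hSY h hh y' hy') e1
  refine ⟨h⁻¹ * k * h, M.mul_mem (M.mul_mem (M.inv_mem hh) hk) hh, ?_, ?_⟩
  · rw [mul_smul, mul_smul, hhx, hkx, ← hhx, inv_smul_smul]
  · rw [mul_smul, mul_smul, hky, inv_smul_smul]

theorem conj_count (M : Subgroup G) (SX : Set X) (SY : Set Y) (c : X → Y → ι)
    (hinv : ∀ g ∈ M, ∀ x y, c (g • x) (g • y) = c x y)
    (hX : ∀ x ∈ SX, ∀ x' ∈ SX, ∃ g ∈ M, g • x = x')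
    (hSY : ∀ g ∈ M, ∀ y ∈ SY, g • y ∈ SY)
    {x₀ : X} (hx₀ : x₀ ∈ SX) {x : X} (hx : x ∈ SX) (i : ι) :
    {y | y ∈ SY ∧ c x y = i}.ncard = {y | y ∈ SY ∧ c x₀ y = i}.ncard := by
  obtain ⟨h, hh, hhx⟩ := hX x hx x₀ hx₀
  have e : {y | y ∈ SY ∧ c x₀ y = i} = (fun y => h • y) '' {y | y ∈ SY ∧ c x y = i} := by
    ext y
    constructor
    · rintro ⟨hy, hc⟩
      refine ⟨h⁻¹ • y, ⟨hSY _ (M.inv_mem hh) y hy, ?_⟩, smul_inv_smul h y⟩
      have h1 := hinv h hh x (h⁻¹ • y)
      rw [smul_inv_smul, hhx] at h1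
      rw [← h1]
      exact hc
    · rintro ⟨y', ⟨hy', hc⟩, rfl⟩
      refine ⟨hSY h hh y' hy', ?_⟩
      show c x₀ (h • y') = i
      rw [← hhx, hinv h hh]
      exact hc
  rw [e, Set.ncard_image_of_injective _ (MulAction.injective h)]

end generic

/-! ### families (sextets, trios) against octads -/

section fam
variable {SX : Set (Finset (Finset GolayPt))}

theorem cnt_inv : ∀ g ∈ M24, ∀ (x : Finset (Finset GolayPt)) (y : Finset GolayPt),
    cnt (g • x) (g • y) = cnt x y := fun g _ x y => cnt_smul g x y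

theorem oct_inv : ∀ g ∈ M24, ∀ y ∈ octads, g • y ∈ octads := fun _ hg _ hy => smul_mem_octads' hg hy

theorem oct_tr : ∀ y ∈ octads, ∀ y' ∈ octads, ∃ g ∈ M24, g • y = y' :=
  fun _ hy _ hy' => octads_transitive hy hy'

/-- the stabiliser of an octad is transitive on the members of the family with a given count -/
theorem fam_trans (hX : ∀ x ∈ SX, ∀ x' ∈ SX, ∃ g ∈ M24, g • x = x')
    {x₀ : Finset (Finset GolayPt)} (hx₀ : x₀ ∈ SX)
    (hcert : ∀ o ∈ octads, ∀ o' ∈ octads, cnt x₀ o = cnt x₀ o' →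
      ∃ g ∈ M24, g • x₀ = x₀ ∧ g • o = o')
    {o : Finset GolayPt} (ho : o ∈ octads) :
    ∀ x ∈ SX, ∀ x' ∈ SX, cnt x o = cnt x' o → ∃ g ∈ M24, g • o = o ∧ g • x = x' :=
  fun _ hx _ hx' hc => Dual.dual_trans M24 SX octads cnt cnt_inv hX oct_inv hx₀ hcert ho hx hx' hc

theorem fam_count (hX : ∀ x ∈ SX, ∀ x' ∈ SX, ∃ g ∈ M24, g • x = x')
    (hSX : ∀ g ∈ M24, ∀ x ∈ SX, g • x ∈ SX)
    {x₀ : Finset (Finset GolayPt)} (hx₀ : x₀ ∈ SX)
    {o : Finset GolayPt} (ho : o ∈ octads) (i : ℕ) :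
    SX.ncard * {o | o ∈ octads ∧ cnt x₀ o = i}.ncard =
      759 * {x | x ∈ SX ∧ cnt x o = i}.ncard := by
  rw [← ncard_octads]
  exact Dual.dual_count M24 SX octads cnt cnt_inv hX oct_tr hSX oct_inv hx₀ ho i

/-- orbits of an octad stabiliser on a family -/
theorem orbit_fam (hSX : ∀ g ∈ M24, ∀ x ∈ SX, g • x ∈ SX) {o : Finset GolayPt}
    (htr : ∀ x ∈ SX, ∀ x' ∈ SX, cnt x o = cnt x' o → ∃ g ∈ M24, g • o = o ∧ g • x = x')
    {x : Finset (Finset GolayPt)} (hx : x ∈ SX) :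
    MulAction.orbit ↥(MulAction.stabilizer ↥M24 o) x = {x' | x' ∈ SX ∧ cnt x' o = cnt x o} := by
  refine Dual.orbit_eq M24 o SX (fun x => cnt x o) ?_ htr hx
  intro g hg hgo z hz
  refine ⟨hSX g hg z hz, ?_⟩
  have h := cnt_smul g z o
  rw [hgo] at h
  exact h

/-- orbits of the stabiliser of a member of the family on octads -/
theorem orbit_oct {x : Finset (Finset GolayPt)}
    (htr : ∀ o ∈ octads, ∀ o' ∈ octads, cnt x o = cnt x o' → ∃ g ∈ M24, g • x = x ∧ g • o = o')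
    {o : Finset GolayPt} (ho : o ∈ octads) :
    MulAction.orbit ↥(MulAction.stabilizer ↥M24 x) o = {o' | o' ∈ octads ∧ cnt x o' = cnt x o} := by
  refine Dual.orbit_eq M24 x octads (fun o => cnt x o) ?_ htr ho
  intro g hg hgx z hz
  refine ⟨smul_mem_octads' hg hz, ?_⟩
  have h := cnt_smul g x z
  rw [hgx] at h
  exact h

end fam

theorem sext_inv : ∀ g ∈ M24, ∀ x ∈ sextets, g • x ∈ sextets := fun _ hg _ hx => smul_mem_sextets hg hx
theorem trio_inv : ∀ g ∈ M24, ∀ x ∈ trios, g • x ∈ trios := fun _ hg _ hx => smul_mem_trios hg hx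
theorem sext_tr : ∀ x ∈ sextets, ∀ x' ∈ sextets, ∃ g ∈ M24, g • x = x' :=
  fun _ hx _ hx' => sextets_transitive hx hx'
theorem trio_tr : ∀ x ∈ trios, ∀ x' ∈ trios, ∃ g ∈ M24, g • x = x' :=
  fun _ hx _ hx' => trios_transitive hx hx'

theorem ncard_sextets : sextets.ncard = 1771 := (Cfsg.Agent.S1550.result).2
theorem ncard_trios : trios.ncard = 3795 := (Cfsg.Agent.S1557.result).2

/-- octad stabiliser on trios and sextets -/
theorem oct_on_trios {o : Finset GolayPt} (ho : o ∈ octads) :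
    ∃ X₁ ∈ trios, ∃ X₂ ∈ trios, ∃ X₃ ∈ trios,
      (MulAction.orbit ↥(MulAction.stabilizer ↥M24 o) X₁).ncard = 15 ∧
      (MulAction.orbit ↥(MulAction.stabilizer ↥M24 o) X₂).ncard = 420 ∧
      (MulAction.orbit ↥(MulAction.stabilizer ↥M24 o) X₃).ncard = 3360 ∧
      trios = MulAction.orbit ↥(MulAction.stabilizer ↥M24 o) X₁ ∪
        MulAction.orbit ↥(MulAction.stabilizer ↥M24 o) X₂ ∪
        MulAction.orbit ↥(MulAction.stabilizer ↥M24 o) X₃ := by
  have htr := fam_trans trio_tr T0_mem (fun o ho o' ho' hc => cert_TO ho ho' hc) ho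
  have c1 : {T | T ∈ trios ∧ cnt T o = 1}.ncard = 15 := by
    have h := fam_count trio_tr trio_inv T0_mem ho 1
    rw [ncard_trios, count_TO1] at h
    omega
  have c2 : {T | T ∈ trios ∧ cnt T o = 2}.ncard = 420 := by
    have h := fam_count trio_tr trio_inv T0_mem ho 2
    rw [ncard_trios, count_TO2] at h
    omega
  have c3 : {T | T ∈ trios ∧ cnt T o = 3}.ncard = 3360 := by
    have h := fam_count trio_tr trio_inv T0_mem ho 3
    rw [ncard_trios, count_TO3] at h
    omega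
  exact Dual.three_orbits trios (Set.toFinite _) (fun T => cnt T o)
    (fun T => MulAction.orbit ↥(MulAction.stabilizer ↥M24 o) T)
    (fun z hz => orbit_fam trio_inv htr hz) (by decide) (by decide) (by decide) c1 c2 c3
    (by norm_num) (by norm_num) (by norm_num) (by rw [ncard_trios])

theorem oct_on_sextets {o : Finset GolayPt} (ho : o ∈ octads) :
    ∃ X₁ ∈ sextets, ∃ X₂ ∈ sextets, ∃ X₃ ∈ sextets,
      (MulAction.orbit ↥(MulAction.stabilizer ↥M24 o) X₁).ncard = 35 ∧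
      (MulAction.orbit ↥(MulAction.stabilizer ↥M24 o) X₂).ncard = 840 ∧
      (MulAction.orbit ↥(MulAction.stabilizer ↥M24 o) X₃).ncard = 896 ∧
      sextets = MulAction.orbit ↥(MulAction.stabilizer ↥M24 o) X₁ ∪
        MulAction.orbit ↥(MulAction.stabilizer ↥M24 o) X₂ ∪
        MulAction.orbit ↥(MulAction.stabilizer ↥M24 o) X₃ := by
  have htr := fam_trans sext_tr S0_mem (fun o ho o' ho' hc => cert_SO ho ho' hc) ho
  have c1 : {T | T ∈ sextets ∧ cnt T o = 2}.ncard = 35 := by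
    have h := fam_count sext_tr sext_inv S0_mem ho 2
    rw [ncard_sextets, count_SO2] at h
    omega
  have c2 : {T | T ∈ sextets ∧ cnt T o = 4}.ncard = 840 := by
    have h := fam_count sext_tr sext_inv S0_mem ho 4
    rw [ncard_sextets, count_SO4] at h
    omega
  have c3 : {T | T ∈ sextets ∧ cnt T o = 6}.ncard = 896 := by
    have h := fam_count sext_tr sext_inv S0_mem ho 6
    rw [ncard_sextets, count_SO6] at h
    omega
  exact Dual.three_orbits sextets (Set.toFinite _) (fun T => cnt T o)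
    (fun T => MulAction.orbit ↥(MulAction.stabilizer ↥M24 o) T)
    (fun z hz => orbit_fam sext_inv htr hz) (by decide) (by decide) (by decide) c1 c2 c3
    (by norm_num) (by norm_num) (by norm_num) (by rw [ncard_sextets])

/-- sextet stabiliser on octads -/
theorem sext_on_octads {S : Finset (Finset GolayPt)} (hS : S ∈ sextets) :
    ∃ X₁ ∈ octads, ∃ X₂ ∈ octads, ∃ X₃ ∈ octads,
      (MulAction.orbit ↥(MulAction.stabilizer ↥M24 S) X₁).ncard = 15 ∧
      (MulAction.orbit ↥(MulAction.stabilizer ↥M24 S) X₂).ncard = 360 ∧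
      (MulAction.orbit ↥(MulAction.stabilizer ↥M24 S) X₃).ncard = 384 ∧
      octads = MulAction.orbit ↥(MulAction.stabilizer ↥M24 S) X₁ ∪
        MulAction.orbit ↥(MulAction.stabilizer ↥M24 S) X₂ ∪
        MulAction.orbit ↥(MulAction.stabilizer ↥M24 S) X₃ := by
  have htr : ∀ o ∈ octads, ∀ o' ∈ octads, cnt S o = cnt S o' →
      ∃ g ∈ M24, g • S = S ∧ g • o = o' := fun o ho o' ho' hc =>
    conj_trans M24 sextets octads cnt cnt_inv sext_tr oct_inv S0_mem
      (fun o ho o' ho' hc => cert_SO ho ho' hc) hS ho ho' hc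
  have c1 : {o | o ∈ octads ∧ cnt S o = 2}.ncard = 15 := by
    rw [conj_count M24 sextets octads cnt cnt_inv sext_tr oct_inv S0_mem hS 2, count_SO2]
  have c2 : {o | o ∈ octads ∧ cnt S o = 4}.ncard = 360 := by
    rw [conj_count M24 sextets octads cnt cnt_inv sext_tr oct_inv S0_mem hS 4, count_SO4]
  have c3 : {o | o ∈ octads ∧ cnt S o = 6}.ncard = 384 := by
    rw [conj_count M24 sextets octads cnt cnt_inv sext_tr oct_inv S0_mem hS 6, count_SO6]
  exact Dual.three_orbits octads (Set.toFinite _) (fun o => cnt S o)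
    (fun o => MulAction.orbit ↥(MulAction.stabilizer ↥M24 S) o)
    (fun z hz => orbit_oct htr hz) (by decide) (by decide) (by decide) c1 c2 c3
    (by norm_num) (by norm_num) (by norm_num) (by rw [ncard_octads])

/-- trio stabiliser on octads -/
theorem trio_on_octads {T : Finset (Finset GolayPt)} (hT : T ∈ trios) :
    ∃ X₁ ∈ octads, ∃ X₂ ∈ octads, ∃ X₃ ∈ octads,
      (MulAction.orbit ↥(MulAction.stabilizer ↥M24 T) X₁).ncard = 3 ∧
      (MulAction.orbit ↥(MulAction.stabilizer ↥M24 T) X₂).ncard = 84 ∧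
      (MulAction.orbit ↥(MulAction.stabilizer ↥M24 T) X₃).ncard = 672 ∧
      octads = MulAction.orbit ↥(MulAction.stabilizer ↥M24 T) X₁ ∪
        MulAction.orbit ↥(MulAction.stabilizer ↥M24 T) X₂ ∪
        MulAction.orbit ↥(MulAction.stabilizer ↥M24 T) X₃ := by
  have htr : ∀ o ∈ octads, ∀ o' ∈ octads, cnt T o = cnt T o' →
      ∃ g ∈ M24, g • T = T ∧ g • o = o' := fun o ho o' ho' hc =>
    conj_trans M24 trios octads cnt cnt_inv trio_tr oct_inv T0_mem
      (fun o ho o' ho' hc => cert_TO ho ho' hc) hT ho ho' hc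
  have c1 : {o | o ∈ octads ∧ cnt T o = 1}.ncard = 3 := by
    rw [conj_count M24 trios octads cnt cnt_inv trio_tr oct_inv T0_mem hT 1, count_TO1]
  have c2 : {o | o ∈ octads ∧ cnt T o = 2}.ncard = 84 := by
    rw [conj_count M24 trios octads cnt cnt_inv trio_tr oct_inv T0_mem hT 2, count_TO2]
  have c3 : {o | o ∈ octads ∧ cnt T o = 3}.ncard = 672 := by
    rw [conj_count M24 trios octads cnt cnt_inv trio_tr oct_inv T0_mem hT 3, count_TO3]
  exact Dual.three_orbits octads (Set.toFinite _) (fun o => cnt T o)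
    (fun o => MulAction.orbit ↥(MulAction.stabilizer ↥M24 T) o)
    (fun z hz => orbit_oct htr hz) (by decide) (by decide) (by decide) c1 c2 c3
    (by norm_num) (by norm_num) (by norm_num) (by rw [ncard_octads])

end Cfsg.Agent.helper28.M24orb
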