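import Mathlib
import Cfsg.Agent.Lib_helper28_M24orbB

set_option autoImplicit false

/-! Orbit-tree certificates whose nodes are families of masks (sextets, trios). -/

namespace Cfsg.Agent.helper28.M24orb

open Cfsg MulAction Cfsg.Agent.helper2.Golay
open scoped Pointwise

/-- node accessor -/
def nd (L : List (List ℕ × ℕ × ℕ)) (i : ℕ) : List ℕ × ℕ × ℕ := L.getD i ([], 0, 0)

/-- Boolean test that two lists have the same members -/
def sameL (l l' : List ℕ) : Bool := l.all (fun b => l'.contains b) && l'.all (fun b => l.contains b)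

theorem sameL_spec {l l' : List ℕ} (h : sameL l l' = true) : l.toFinset = l'.toFinset := by
  unfold sameL at h
  simp only [Bool.and_eq_true, List.all_eq_true, List.contains_iff_mem] at h
  ext a
  rw [List.mem_toFinset, List.mem_toFinset]
  exact ⟨fun ha => h.1 a ha, fun ha => h.2 a ha⟩

/-- tree certificate on families of masks -/
def treeOKF (gens : List (List ℕ × List ℕ)) (L : List (List ℕ × ℕ × ℕ)) : Bool :=
  (List.range L.length).all (fun i => (i == 0) ||
    (decide ((nd L i).2.1 < i) && decide ((nd L i).2.2 < gens.length) &&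
      sameL ((nd L (nd L i).2.1).1.map
        (pull (tb (gens.getD (nd L i).2.2 ([], [])).2))) (nd L i).1))

theorem tree_specF (K : Subgroup (Equiv.Perm GolayPt)) (gens : List (List ℕ × List ℕ))
    (hgens : ∀ d ∈ gens, tablesOK d.1 d.2 = true ∧ gperm d ∈ K)
    (L : List (List ℕ × ℕ × ℕ)) (hL : treeOKF gens L = true) :
    ∀ i < L.length, ∃ g ∈ K, g • ofMasks (nd L 0).1 = ofMasks (nd L i).1 := by
  intro i
  induction i using Nat.strong_induction_on with
  | _ i ih =>
    intro hi
    by_cases h0 : i = 0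
    · subst h0
      exact ⟨1, K.one_mem, one_smul _ _⟩
    · unfold treeOKF at hL
      rw [List.all_eq_true] at hL
      have h1 := hL i (List.mem_range.mpr hi)
      simp only [Bool.or_eq_true, beq_iff_eq, Bool.and_eq_true, decide_eq_true_eq] at h1
      rcases h1 with h1 | ⟨⟨hpar, hgen⟩, hpull⟩
      · exact absurd h1 h0
      · obtain ⟨g', hg', hg'm⟩ := ih _ hpar (by omega)
        have hmem : gens.getD (nd L i).2.2 ([], []) ∈ gens := by
          rw [List.getD_eq_getElem _ _ hgen]
          exact List.getElem_mem _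
        obtain ⟨ht, hK⟩ := hgens _ hmem
        refine ⟨gperm _ * g', K.mul_mem hK hg', ?_⟩
        rw [mul_smul, hg'm, smul_ofMasks ht, ofMasks_congr (sameL_spec hpull)]

theorem reachF (K : Subgroup (Equiv.Perm GolayPt)) (gens : List (List ℕ × List ℕ))
    (hgens : ∀ d ∈ gens, tablesOK d.1 d.2 = true ∧ gperm d ∈ K)
    {L : List (List ℕ × ℕ × ℕ)} (hL : treeOKF gens L = true) {e e' : List ℕ × ℕ × ℕ}
    (he : e ∈ L) (he' : e' ∈ L) : ∃ g ∈ K, g • ofMasks e.1 = ofMasks e'.1 := by
  obtain ⟨i, hi, rfl⟩ := List.mem_iff_getElem.mp he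
  obtain ⟨i', hi', rfl⟩ := List.mem_iff_getElem.mp he'
  obtain ⟨g, hg, hgm⟩ := tree_specF K gens hgens L hL i hi
  obtain ⟨g', hg', hgm'⟩ := tree_specF K gens hgens L hL i' hi'
  have e1 : nd L i = L[i] := by unfold nd; rw [List.getD_eq_getElem _ _ hi]
  have e2 : nd L i' = L[i'] := by unfold nd; rw [List.getD_eq_getElem _ _ hi']
  rw [e1] at hgm
  rw [e2] at hgm'
  refine ⟨g' * g⁻¹, K.mul_mem hg' (K.inv_mem hg), ?_⟩
  rw [mul_smul, ← hgm, inv_smul_smul, hgm']

/-! ### sextets as mask lists -/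

/-- validity of a list of six tetrad masks -/
def isSextetL (l : List ℕ) : Bool :=
  (l.length == 6) && l.all (fun a => decide (a < 2 ^ 24) && (wt a == 4)) && decide l.Nodup &&
    l.all (fun a => l.all (fun b => (a == b) ||
      ((cw ((a ||| b) % 4096) == (a ||| b)) && (wt (cw ((a ||| b) % 4096)) == 8))))

theorem isSextetL_spec {l : List ℕ} (h : isSextetL l = true) :
    l.length = 6 ∧ (∀ a ∈ l, a < 2 ^ 24) ∧ l.Nodup ∧ ofMasks l ∈ sextets := by
  unfold isSextetL at h
  simp only [Bool.and_eq_true, beq_iff_eq, List.all_eq_true, decide_eq_true_eq,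
    Bool.or_eq_true] at h
  obtain ⟨⟨⟨h6, h4⟩, hnd⟩, hu⟩ := h
  have hlt : ∀ a ∈ l, a < 2 ^ 24 := fun a ha => (h4 a ha).1
  refine ⟨h6, hlt, hnd, ?_⟩
  refine ⟨by rw [card_ofMasks hlt hnd, h6], ?_, ?_⟩
  · intro t ht
    obtain ⟨a, ha, rfl⟩ := mem_ofMasks.mp ht
    rw [card_pts, (h4 a ha).2]
  · intro t ht u hu' hne
    obtain ⟨a, ha, rfl⟩ := mem_ofMasks.mp ht
    obtain ⟨b, hb, rfl⟩ := mem_ofMasks.mp hu'
    have hab : a ≠ b := fun h => hne (by rw [h])
    rcases hu a ha b hb with h1 | ⟨h1, h2⟩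
    · exact absurd h1 hab
    · rw [← pts_or, ← h1]
      exact pts_mem_octads (Nat.mod_lt _ (by norm_num)) h2

theorem sextet_disj {S : Finset (Finset GolayPt)} (hS : S ∈ sextets) {t u : Finset GolayPt}
    (ht : t ∈ S) (hu : u ∈ S) (hne : t ≠ u) : Disjoint t u := by
  have h8 := octads_steiner.1 _ (hS.2.2 t ht u hu hne)
  rw [← Finset.card_union_eq_card_add_card, h8, hS.2.1 t ht, hS.2.1 u hu]

theorem sextet_cover {S : Finset (Finset GolayPt)} (hS : S ∈ sextets) (x : GolayPt) :
    ∃ t ∈ S, x ∈ t := by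
  have hcard : (S.biUnion id).card = 24 := by
    rw [Finset.card_biUnion]
    · show ∑ u ∈ S, u.card = 24
      rw [Finset.sum_congr rfl (fun t ht => hS.2.1 t ht), Finset.sum_const, hS.1]
      rfl
    · intro t ht u hu hne
      exact sextet_disj hS ht hu hne
  have huniv : S.biUnion id = Finset.univ := by
    apply Finset.eq_univ_of_card
    rw [hcard, card_golayPt]
  have hx : x ∈ S.biUnion id := by rw [huniv]; exact Finset.mem_univ x
  obtain ⟨t, ht, hxt⟩ := Finset.mem_biUnion.mp hx
  exact ⟨t, ht, hxt⟩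

theorem sextet_eq {S S' : Finset (Finset GolayPt)} (hS : S ∈ sextets) (hS' : S' ∈ sextets)
    {t : Finset GolayPt} (ht : t ∈ S) (ht' : t ∈ S') : S = S' := by
  obtain ⟨U, -, huniq⟩ := (Cfsg.Agent.S1550.result).1 t (hS.2.1 t ht)
  rw [huniq S ⟨hS, ht⟩, huniq S' ⟨hS', ht'⟩]

theorem pts_single : ∀ i < 24, pts (2 ^ i) = {pt i} := by decide +kernel

/-- every 4-set through the point of index 23 is given by a 3-set mask below `2^23` -/
theorem exists_tet23 {t : Finset GolayPt} (ht : t.card = 4) (h23 : pt 23 ∈ t) :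
    ∃ b ∈ threeSets, b < 2 ^ 23 ∧ t = pts (b + 2 ^ 23) := by
  have hc : (t.erase (pt 23)).card = 3 := by rw [Finset.card_erase_of_mem h23, ht]
  obtain ⟨b, hb, hbe⟩ := exists_threeSet hc
  have hlt := threeSets_lt b hb
  have hbit : b.testBit 23 = false := by
    by_contra hcon
    rw [Bool.not_eq_false] at hcon
    have : pt 23 ∈ pts b := by rw [mem_pts_pt (by norm_num)]; exact hcon
    rw [← hbe] at this
    exact (Finset.notMem_erase _ _) this
  have hb23 : b < 2 ^ 23 := by
    by_contra hcon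
    push Not at hcon
    have h1 : b.testBit 23 = true := by
      rw [Nat.testBit_eq_decide_div_mod_eq]
      have : b / 2 ^ 23 = 1 := by omega
      rw [this]
      rfl
    rw [h1] at hbit
    exact absurd hbit (by decide)
  refine ⟨b, hb, hb23, ?_⟩
  have hor : b + 2 ^ 23 = b ||| 2 ^ 23 := by
    have h := Nat.two_pow_add_eq_or_of_lt hb23 1
    rw [mul_one] at h
    rw [Nat.add_comm, h, Nat.lor_comm]
  rw [hor, pts_or, ← hbe, pts_single 23 (by norm_num)]
  ext x
  rw [Finset.mem_union, Finset.mem_erase, Finset.mem_singleton]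
  constructor
  · intro hx
    by_cases hx23 : x = pt 23
    · exact Or.inr hx23
    · exact Or.inl ⟨hx23, hx⟩
  · rintro (⟨_, hx⟩ | rfl)
    · exact hx
    · exact h23

/-- locate an abstract sextet in a list of certified trees -/
theorem sextet_node {trees : List (List (List ℕ × ℕ × ℕ))}
    (hvalid : ∀ L ∈ trees, ∀ e ∈ L, isSextetL e.1 = true)
    (hall : ∀ b ∈ threeSets, b < 2 ^ 23 →
      ∃ L ∈ trees, ∃ e ∈ L, b + 2 ^ 23 ∈ e.1)
    {S : Finset (Finset GolayPt)} (hS : S ∈ sextets) :
    ∃ L ∈ trees, ∃ e ∈ L, S = ofMasks e.1 := by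
  obtain ⟨t, ht, h23⟩ := sextet_cover hS (pt 23)
  obtain ⟨b, hb, hb23, rfl⟩ := exists_tet23 (hS.2.1 t ht) h23
  obtain ⟨L, hL, e, he, hmem⟩ := hall b hb hb23
  refine ⟨L, hL, e, he, ?_⟩
  exact sextet_eq hS (isSextetL_spec (hvalid L hL e he)).2.2.2 ht
    (mem_ofMasks.mpr ⟨_, hmem, rfl⟩)

/-- the canonical tetrad masks through the point of index 23 -/
def tet23 : List ℕ := (threeSets.filter (fun b => decide (b < 2 ^ 23))).map (fun b => b + 2 ^ 23)

/-- location check: the `j`-th canonical tetrad is the head of node `i` of tree `k` -/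
def locOK (trees : List (List (List ℕ × ℕ × ℕ))) (locs : List (ℕ × ℕ)) : Bool :=
  (tet23.length == locs.length) &&
    (List.zip tet23 locs).all (fun p => (nd (trees.getD p.2.1 []) p.2.2).1.head? == some p.1)

theorem locOK_spec {trees : List (List (List ℕ × ℕ × ℕ))} {locs : List (ℕ × ℕ)}
    (h : locOK trees locs = true) : ∀ b ∈ threeSets, b < 2 ^ 23 →
      ∃ L ∈ trees, ∃ e ∈ L, b + 2 ^ 23 ∈ e.1 := by
  intro b hb hlt
  unfold locOK at h
  rw [Bool.and_eq_true, beq_iff_eq, List.all_eq_true] at h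
  obtain ⟨hlen, hall⟩ := h
  have hmem : b + 2 ^ 23 ∈ tet23 := by
    unfold tet23
    exact List.mem_map.mpr ⟨b, List.mem_filter.mpr ⟨hb, by simpa using hlt⟩, rfl⟩
  obtain ⟨j, hj, hje⟩ := List.mem_iff_getElem.mp hmem
  have hj' : j < locs.length := hlen ▸ hj
  have hz : (tet23[j], locs[j]) ∈ List.zip tet23 locs := by
    rw [List.mem_iff_getElem]
    exact ⟨j, by rw [List.length_zip]; omega, by rw [List.getElem_zip]⟩
  have h1 := hall _ hz
  rw [beq_iff_eq, hje] at h1
  set k := locs[j].1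
  set i := locs[j].2
  have hhead : b + 2 ^ 23 ∈ (nd (trees.getD k []) i).1 := List.mem_of_mem_head? (by rw [h1]; rfl)
  have hk : k < trees.length := by
    by_contra hcon
    push Not at hcon
    have e1 : trees.getD k [] = [] := List.getD_eq_default _ _ hcon
    rw [e1] at hhead
    simp [nd] at hhead
  have hi : i < (trees.getD k []).length := by
    by_contra hcon
    push Not at hcon
    have e1 : nd (trees.getD k []) i = ([], 0, 0) := List.getD_eq_default _ _ hcon
    rw [e1] at hhead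
    simp at hhead
  refine ⟨trees.getD k [], ?_, nd (trees.getD k []) i, ?_, hhead⟩
  · rw [List.getD_eq_getElem _ _ hk]
    exact List.getElem_mem _
  · unfold nd
    rw [List.getD_eq_getElem _ _ hi]
    exact List.getElem_mem _

/-! ### the pair invariant between two families -/

/-- number of pairs of members of two families that meet -/
def cFF (S T : Finset (Finset GolayPt)) : ℕ := ∑ t ∈ S, cnt T t

theorem cFF_smul (g : Equiv.Perm GolayPt) (S T : Finset (Finset GolayPt)) :
    cFF (g • S) (g • T) = cFF S T := by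
  unfold cFF
  have h : g • S = S.image (fun t => g • t) := rfl
  rw [h, Finset.sum_image (fun a _ b _ hab => MulAction.injective g hab)]
  apply Finset.sum_congr rfl
  intro t _
  exact cnt_smul g T t

/-- mask version -/
def cFFL (l l' : List ℕ) : ℕ := (l.map (fun a => cntL l' a)).sum

theorem cFF_ofMasks {l l' : List ℕ} (hl : ∀ a ∈ l, a < 2 ^ 24) (hnd : l.Nodup)
    (hl' : ∀ a ∈ l', a < 2 ^ 24) (hnd' : l'.Nodup) :
    cFF (ofMasks l) (ofMasks l') = cFFL l l' := by
  unfold cFF cFFL ofMasks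
  rw [List.sum_toFinset _ (map_pts_nodup hl hnd), List.map_map]
  congr 1
  apply List.map_congr_left
  intro a _
  exact cnt_ofMasks hl' hnd' a

end Cfsg.Agent.helper28.M24orb
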