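import Mathlib
import Cfsg.Agent.Lib_helper28_M24orbC
import Cfsg.Agent.Lib_helper28_M24orbDataTS

set_option autoImplicit false
set_option maxRecDepth 1000000

/-! Certified orbits of the trio stabiliser on sextets; consequences for sextet and trio
stabilisers. -/

namespace Cfsg.Agent.helper28.M24orb

open Cfsg MulAction Cfsg.Agent.helper2.Golay
open scoped Pointwise

section generic

variable (K : Subgroup (Equiv.Perm GolayPt)) (gens : List (List ℕ × List ℕ))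
  (trees : List (List (List ℕ × ℕ × ℕ))) (SZ : Set (Finset (Finset GolayPt)))
  (c : Finset (Finset GolayPt) → ℕ)

theorem certF (hgens : ∀ d ∈ gens, tablesOK d.1 d.2 = true ∧ gperm d ∈ K)
    (hT : trees.all (treeOKF gens) = true)
    (hnode : ∀ S ∈ SZ, ∃ k < trees.length, ∃ e ∈ trees.getD k [], S = ofMasks e.1)
    (hpure : ∀ k < trees.length, ∀ e ∈ trees.getD k [], c (ofMasks e.1) = k)
    {S S' : Finset (Finset GolayPt)} (hS : S ∈ SZ) (hS' : S' ∈ SZ) (hc : c S = c S') :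
    ∃ g ∈ K, g • S = S' := by
  obtain ⟨k, hk, e, he, rfl⟩ := hnode S hS
  obtain ⟨k', hk', e', he', rfl⟩ := hnode S' hS'
  rw [hpure k hk e he, hpure k' hk' e' he'] at hc
  subst hc
  have hmem : trees.getD k [] ∈ trees := by
    rw [List.getD_eq_getElem _ _ hk]
    exact List.getElem_mem _
  rw [List.all_eq_true] at hT
  exact reachF K gens hgens (hT _ hmem) he he'

theorem countF_le
    (hnode : ∀ S ∈ SZ, ∃ k < trees.length, ∃ e ∈ trees.getD k [], S = ofMasks e.1)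
    (hpure : ∀ k < trees.length, ∀ e ∈ trees.getD k [], c (ofMasks e.1) = k) (k : ℕ) :
    {S | S ∈ SZ ∧ c S = k}.ncard ≤ (trees.getD k []).length := by
  classical
  have hsub : {S | S ∈ SZ ∧ c S = k} ⊆
      ↑((trees.getD k []).toFinset.image (fun e => ofMasks e.1)) := by
    rintro S ⟨hS, hc⟩
    obtain ⟨k', hk', e, he, rfl⟩ := hnode S hS
    rw [hpure k' hk' e he] at hc
    subst hc
    rw [Finset.mem_coe, Finset.mem_image]
    exact ⟨e, List.mem_toFinset.mpr he, rfl⟩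
  calc {S | S ∈ SZ ∧ c S = k}.ncard
      ≤ (↑((trees.getD k []).toFinset.image (fun e => ofMasks e.1)) :
          Set (Finset (Finset GolayPt))).ncard := Set.ncard_le_ncard hsub (Finset.finite_toSet _)
    _ = ((trees.getD k []).toFinset.image (fun e => ofMasks e.1)).card := Set.ncard_coe_finset _
    _ ≤ (trees.getD k []).toFinset.card := Finset.card_image_le
    _ ≤ (trees.getD k []).length := List.toFinset_card_le _

end generic

theorem four_counts {Z : Type*} (SZ : Set Z) (hfin : SZ.Finite) (c : Z → ℕ) {i₁ i₂ i₃ i₄ : ℕ}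
    (hcov : ∀ z ∈ SZ, c z = i₁ ∨ c z = i₂ ∨ c z = i₃ ∨ c z = i₄) {n₁ n₂ n₃ n₄ : ℕ}
    (h₁ : {z | z ∈ SZ ∧ c z = i₁}.ncard ≤ n₁) (h₂ : {z | z ∈ SZ ∧ c z = i₂}.ncard ≤ n₂)
    (h₃ : {z | z ∈ SZ ∧ c z = i₃}.ncard ≤ n₃) (h₄ : {z | z ∈ SZ ∧ c z = i₄}.ncard ≤ n₄)
    (htot : SZ.ncard = n₁ + n₂ + n₃ + n₄) :
    {z | z ∈ SZ ∧ c z = i₁}.ncard = n₁ ∧ {z | z ∈ SZ ∧ c z = i₂}.ncard = n₂ ∧
      {z | z ∈ SZ ∧ c z = i₃}.ncard = n₃ ∧ {z | z ∈ SZ ∧ c z = i₄}.ncard = n₄ := by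
  have hs1 : {z | z ∈ SZ ∧ c z = i₁} ⊆ SZ := fun z hz => hz.1
  have hs2 : {z | z ∈ SZ ∧ c z = i₂} ⊆ SZ := fun z hz => hz.1
  have hs3 : {z | z ∈ SZ ∧ c z = i₃} ⊆ SZ := fun z hz => hz.1
  have hs4 : {z | z ∈ SZ ∧ c z = i₄} ⊆ SZ := fun z hz => hz.1
  have hsub : SZ ⊆ {z | z ∈ SZ ∧ c z = i₁} ∪ {z | z ∈ SZ ∧ c z = i₂} ∪
      {z | z ∈ SZ ∧ c z = i₃} ∪ {z | z ∈ SZ ∧ c z = i₄} := by
    intro z hz
    rcases hcov z hz with h | h | h | h
    · exact Or.inl (Or.inl (Or.inl ⟨hz, h⟩))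
    · exact Or.inl (Or.inl (Or.inr ⟨hz, h⟩))
    · exact Or.inl (Or.inr ⟨hz, h⟩)
    · exact Or.inr ⟨hz, h⟩
  have hle := Set.ncard_le_ncard hsub
    ((((hfin.subset hs1).union (hfin.subset hs2)).union (hfin.subset hs3)).union
      (hfin.subset hs4))
  have u1 := Set.ncard_union_le ({z | z ∈ SZ ∧ c z = i₁} ∪ {z | z ∈ SZ ∧ c z = i₂} ∪
      {z | z ∈ SZ ∧ c z = i₃}) {z | z ∈ SZ ∧ c z = i₄}
  have u2 := Set.ncard_union_le ({z | z ∈ SZ ∧ c z = i₁} ∪ {z | z ∈ SZ ∧ c z = i₂})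
      {z | z ∈ SZ ∧ c z = i₃}
  have u3 := Set.ncard_union_le {z | z ∈ SZ ∧ c z = i₁} {z | z ∈ SZ ∧ c z = i₂}
  omega

/-! ### trio stabiliser on sextets -/

theorem trTS_ok : trTS.all (treeOKF gT) = true := by decide +kernel

theorem trTS_valid : trTS.all (fun L => L.all (fun e => isSextetL e.1)) = true := by
  decide +kernel

theorem trTS_pure : (List.range trTS.length).all
    (fun k => (trTS.getD k []).all (fun e => cFFL e.1 t0l == k)) = true := by decide +kernel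

theorem trTS_loc : locOK trTS locTS = true := by decide +kernel

theorem trTS_node : ∀ S ∈ sextets, ∃ k < trTS.length, ∃ e ∈ trTS.getD k [], S = ofMasks e.1 := by
  intro S hS
  have hvalid : ∀ L ∈ trTS, ∀ e ∈ L, isSextetL e.1 = true := by
    have h := trTS_valid
    rw [List.all_eq_true] at h
    intro L hL e he
    have h2 := h L hL
    rw [List.all_eq_true] at h2
    exact h2 e he
  obtain ⟨L, hL, e, he, hSe⟩ := sextet_node hvalid (locOK_spec trTS_loc) hS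
  obtain ⟨k, hk, rfl⟩ := List.mem_iff_getElem.mp hL
  exact ⟨k, hk, e, by rw [List.getD_eq_getElem _ _ hk]; exact he, hSe⟩

theorem trTS_valid' : ∀ k < trTS.length, ∀ e ∈ trTS.getD k [], isSextetL e.1 = true := by
  intro k hk e he
  have h := trTS_valid
  rw [List.all_eq_true] at h
  have h2 := h (trTS.getD k []) (by rw [List.getD_eq_getElem _ _ hk]; exact List.getElem_mem _)
  rw [List.all_eq_true] at h2
  exact h2 e he

theorem trTS_pure' : ∀ k < trTS.length, ∀ e ∈ trTS.getD k [], cFF (ofMasks e.1) T0 = k := by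
  intro k hk e he
  obtain ⟨-, hlt, hnd, -⟩ := isSextetL_spec (trTS_valid' k hk e he)
  rw [T0, cFF_ofMasks hlt hnd t0l_lt t0l_nodup]
  have h := trTS_pure
  rw [List.all_eq_true] at h
  have h2 := h k (List.mem_range.mpr hk)
  rw [List.all_eq_true] at h2
  exact beq_iff_eq.mp (h2 e he)

/-- the trio stabiliser is transitive on the sextets with a given pair count -/
theorem cert_TS {S S' : Finset (Finset GolayPt)} (hS : S ∈ sextets) (hS' : S' ∈ sextets)
    (hc : cFF S T0 = cFF S' T0) : ∃ g ∈ M24, g • T0 = T0 ∧ g • S = S' := by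
  obtain ⟨g, hg, hgS⟩ := certF (stabOf t0l) gT trTS sextets (fun S => cFF S T0)
    (stabGens_mem gT_ok) trTS_ok trTS_node trTS_pure' hS hS' hc
  rw [mem_stabOf] at hg
  exact ⟨g, hg.1, hg.2, hgS⟩

theorem trTS_cov : ∀ S ∈ sextets, cFF S T0 = 6 ∨ cFF S T0 = 10 ∨ cFF S T0 = 12 ∨ cFF S T0 = 16 := by
  intro S hS
  obtain ⟨k, hk, e, he, rfl⟩ := trTS_node S hS
  rw [trTS_pure' k hk e he]
  have hne : trTS.getD k [] ≠ [] := List.ne_nil_of_mem he
  have key : ∀ k < trTS.length, trTS.getD k [] ≠ [] → k = 6 ∨ k = 10 ∨ k = 12 ∨ k = 16 := by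
    decide +kernel
  exact key k hk hne

theorem count_TS : {S | S ∈ sextets ∧ cFF S T0 = 6}.ncard = 7 ∧
    {S | S ∈ sextets ∧ cFF S T0 = 10}.ncard = 84 ∧
    {S | S ∈ sextets ∧ cFF S T0 = 12}.ncard = 336 ∧
    {S | S ∈ sextets ∧ cFF S T0 = 16}.ncard = 1344 := by
  have h := fun k => countF_le trTS sextets (fun S => cFF S T0) trTS_node trTS_pure' k
  exact four_counts sextets (Set.toFinite _) (fun S => cFF S T0) trTS_cov
    (h 6) (h 10) (h 12) (h 16) (by rw [ncard_sextets])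

end Cfsg.Agent.helper28.M24orb
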