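import Mathlib
import Cfsg.Agent.Lib_helper28_M24orbD

set_option autoImplicit false

/-! Sextet stabiliser on trios, trio stabiliser on sextets. -/

namespace Cfsg.Agent.helper28.M24orb

open Cfsg MulAction Cfsg.Agent.helper2.Golay
open scoped Pointwise

theorem cFF_inv : ∀ g ∈ M24, ∀ (T S : Finset (Finset GolayPt)),
    cFF (g • S) (g • T) = cFF S T := fun g _ T S => cFF_smul g S T

/-- sextet stabiliser on trios -/
theorem sext_on_trios {S : Finset (Finset GolayPt)} (hS : S ∈ sextets) :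
    ∃ Y₁ ∈ trios, ∃ Y₂ ∈ trios, ∃ Y₃ ∈ trios, ∃ Y₄ ∈ trios,
      (MulAction.orbit ↥(MulAction.stabilizer ↥M24 S) Y₁).ncard = 15 ∧
      (MulAction.orbit ↥(MulAction.stabilizer ↥M24 S) Y₂).ncard = 180 ∧
      (MulAction.orbit ↥(MulAction.stabilizer ↥M24 S) Y₃).ncard = 720 ∧
      (MulAction.orbit ↥(MulAction.stabilizer ↥M24 S) Y₄).ncard = 2880 ∧
      trios = MulAction.orbit ↥(MulAction.stabilizer ↥M24 S) Y₁ ∪
        MulAction.orbit ↥(MulAction.stabilizer ↥M24 S) Y₂ ∪
        MulAction.orbit ↥(MulAction.stabilizer ↥M24 S) Y₃ ∪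
        MulAction.orbit ↥(MulAction.stabilizer ↥M24 S) Y₄ := by
  have htr : ∀ T ∈ trios, ∀ T' ∈ trios, cFF S T = cFF S T' →
      ∃ g ∈ M24, g • S = S ∧ g • T = T' := fun T hT T' hT' hc =>
    Dual.dual_trans M24 trios sextets (fun T S => cFF S T) cFF_inv trio_tr sext_inv T0_mem
      (fun S hS S' hS' hc => cert_TS hS hS' hc) hS hT hT' hc
  have hcount := fun i => Dual.dual_count M24 trios sextets (fun T S => cFF S T) cFF_inv trio_tr
    sext_tr trio_inv sext_inv T0_mem hS i
  obtain ⟨k1, k2, k3, k4⟩ := count_TS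
  have c1 : {T | T ∈ trios ∧ cFF S T = 6}.ncard = 15 := by
    have h := hcount 6
    rw [ncard_trios, ncard_sextets, k1] at h
    omega
  have c2 : {T | T ∈ trios ∧ cFF S T = 10}.ncard = 180 := by
    have h := hcount 10
    rw [ncard_trios, ncard_sextets, k2] at h
    omega
  have c3 : {T | T ∈ trios ∧ cFF S T = 12}.ncard = 720 := by
    have h := hcount 12
    rw [ncard_trios, ncard_sextets, k3] at h
    omega
  have c4 : {T | T ∈ trios ∧ cFF S T = 16}.ncard = 2880 := by
    have h := hcount 16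
    rw [ncard_trios, ncard_sextets, k4] at h
    omega
  have horb : ∀ z ∈ trios, MulAction.orbit ↥(MulAction.stabilizer ↥M24 S) z =
      {z' | z' ∈ trios ∧ cFF S z' = cFF S z} := by
    intro z hz
    refine Dual.orbit_eq M24 S trios (fun T => cFF S T) ?_ htr hz
    intro g hg hgS T hT
    refine ⟨smul_mem_trios hg hT, ?_⟩
    have h := cFF_smul g S T
    rw [hgS] at h
    exact h
  exact Dual.four_orbits trios (Set.toFinite _) (fun T => cFF S T)
    (fun T => MulAction.orbit ↥(MulAction.stabilizer ↥M24 S) T) horb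
    (by decide) (by decide) (by decide) (by decide) (by decide) (by decide) c1 c2 c3 c4
    (by norm_num) (by norm_num) (by norm_num) (by norm_num) (by rw [ncard_trios])

/-- trio stabiliser on sextets -/
theorem trio_on_sextets {T : Finset (Finset GolayPt)} (hT : T ∈ trios) :
    ∃ Y₁ ∈ sextets, ∃ Y₂ ∈ sextets, ∃ Y₃ ∈ sextets, ∃ Y₄ ∈ sextets,
      (MulAction.orbit ↥(MulAction.stabilizer ↥M24 T) Y₁).ncard = 7 ∧
      (MulAction.orbit ↥(MulAction.stabilizer ↥M24 T) Y₂).ncard = 84 ∧
      (MulAction.orbit ↥(MulAction.stabilizer ↥M24 T) Y₃).ncard = 336 ∧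
      (MulAction.orbit ↥(MulAction.stabilizer ↥M24 T) Y₄).ncard = 1344 ∧
      sextets = MulAction.orbit ↥(MulAction.stabilizer ↥M24 T) Y₁ ∪
        MulAction.orbit ↥(MulAction.stabilizer ↥M24 T) Y₂ ∪
        MulAction.orbit ↥(MulAction.stabilizer ↥M24 T) Y₃ ∪
        MulAction.orbit ↥(MulAction.stabilizer ↥M24 T) Y₄ := by
  have htr : ∀ S ∈ sextets, ∀ S' ∈ sextets, cFF S T = cFF S' T →
      ∃ g ∈ M24, g • T = T ∧ g • S = S' := fun S hS S' hS' hc =>
    conj_trans M24 trios sextets (fun T S => cFF S T) cFF_inv trio_tr sext_inv T0_mem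
      (fun S hS S' hS' hc => cert_TS hS hS' hc) hT hS hS' hc
  have hcount := fun i => conj_count M24 trios sextets (fun T S => cFF S T) cFF_inv trio_tr
    sext_inv T0_mem hT i
  obtain ⟨k1, k2, k3, k4⟩ := count_TS
  have c1 : {S | S ∈ sextets ∧ cFF S T = 6}.ncard = 7 := by rw [hcount 6, k1]
  have c2 : {S | S ∈ sextets ∧ cFF S T = 10}.ncard = 84 := by rw [hcount 10, k2]
  have c3 : {S | S ∈ sextets ∧ cFF S T = 12}.ncard = 336 := by rw [hcount 12, k3]
  have c4 : {S | S ∈ sextets ∧ cFF S T = 16}.ncard = 1344 := by rw [hcount 16, k4]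
  have horb : ∀ z ∈ sextets, MulAction.orbit ↥(MulAction.stabilizer ↥M24 T) z =
      {z' | z' ∈ sextets ∧ cFF z' T = cFF z T} := by
    intro z hz
    refine Dual.orbit_eq M24 T sextets (fun S => cFF S T) ?_ htr hz
    intro g hg hgT S hS
    refine ⟨smul_mem_sextets hg hS, ?_⟩
    have h := cFF_smul g S T
    rw [hgT] at h
    exact h
  exact Dual.four_orbits sextets (Set.toFinite _) (fun S => cFF S T)
    (fun S => MulAction.orbit ↥(MulAction.stabilizer ↥M24 T) S) horb
    (by decide) (by decide) (by decide) (by decide) (by decide) (by decide) c1 c2 c3 c4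
    (by norm_num) (by norm_num) (by norm_num) (by norm_num) (by rw [ncard_sextets])

end Cfsg.Agent.helper28.M24orb
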