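import Mathlib
import Cfsg.Agent.Lib_helper28_M24orbB

set_option autoImplicit false

/-! Invariants for 3-sets and dodecads against sextets (pure lemmas). -/

namespace Cfsg.Agent.helper28.M24orb

open Cfsg MulAction Cfsg.Agent.helper2.Golay
open scoped Pointwise

theorem three_inv : ∀ g ∈ M24, ∀ y ∈ {Y : Finset GolayPt | Y.card = 3},
    g • y ∈ {Y : Finset GolayPt | Y.card = 3} := by
  intro g _ y hy
  show (g • y).card = 3
  rw [Finset.card_smul_finset]
  exact hy

theorem three_tr : ∀ y ∈ {Y : Finset GolayPt | Y.card = 3},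
    ∀ y' ∈ {Y : Finset GolayPt | Y.card = 3}, ∃ g ∈ M24, g • y = y' := by
  intro y hy y' hy'
  obtain ⟨h, hh, hht⟩ := kset_to_base (k := 3) (by norm_num) hy
  obtain ⟨h', hh', hht'⟩ := kset_to_base (k := 3) (by norm_num) hy'
  refine ⟨h'⁻¹ * h, Subgroup.mul_mem _ (inv_mem hh') hh, ?_⟩
  rw [mul_smul, hht, ← hht', inv_smul_smul]

theorem ncard_three : {Y : Finset GolayPt | Y.card = 3}.ncard = 2024 := by
  have h : {Y : Finset GolayPt | Y.card = 3} = ↑(Finset.powersetCard 3 (Finset.univ : Finset GolayPt)) := by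
    ext Y
    simp [Finset.mem_powersetCard]
  rw [h, Set.ncard_coe_finset, Finset.card_powersetCard, Finset.card_univ, card_golayPt]
  rfl

/-- number of members of a family meeting a set in exactly two points -/
def c2 (S : Finset (Finset GolayPt)) (d : Finset GolayPt) : ℕ :=
  (S.filter (fun t => (t ∩ d).card = 2)).card

theorem c2_smul (g : Equiv.Perm GolayPt) (S : Finset (Finset GolayPt)) (d : Finset GolayPt) :
    c2 (g • S) (g • d) = c2 S d := by
  unfold c2
  have h : (g • S).filter (fun A => (A ∩ g • d).card = 2) =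
      (S.filter (fun A => (A ∩ d).card = 2)).image (fun A => g • A) := by
    ext A
    rw [Finset.mem_filter, Finset.mem_image, Finset.mem_smul_finset]
    constructor
    · rintro ⟨⟨A', hA', rfl⟩, hne⟩
      refine ⟨A', ?_, rfl⟩
      rw [Finset.mem_filter]
      refine ⟨hA', ?_⟩
      rw [← Finset.smul_finset_inter, Finset.card_smul_finset] at hne
      exact hne
    · rintro ⟨A', hA', rfl⟩
      rw [Finset.mem_filter] at hA'
      refine ⟨⟨A', hA'.1, rfl⟩, ?_⟩
      rw [← Finset.smul_finset_inter, Finset.card_smul_finset]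
      exact hA'.2
  rw [h, Finset.card_image_of_injective _ (MulAction.injective g)]

/-- mask version of `c2` -/
def c2L (l : List ℕ) (b : ℕ) : ℕ := (l.filter (fun a => wt (a &&& b) == 2)).length

theorem c2_ofMasks {l : List ℕ} (hl : ∀ a ∈ l, a < 2 ^ 24) (hnd : l.Nodup) (b : ℕ) :
    c2 (ofMasks l) (pts b) = c2L l b := by
  unfold c2 c2L ofMasks
  have h0 : (List.map pts l).toFinset.filter (fun A => (A ∩ pts b).card = 2) =
      ((List.map pts l).filter (fun A => decide ((A ∩ pts b).card = 2))).toFinset := by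
    ext A
    simp only [Finset.mem_filter, List.mem_toFinset, List.mem_filter, decide_eq_true_eq]
  rw [h0, List.toFinset_card_of_nodup ((map_pts_nodup hl hnd).filter _), List.filter_map,
    List.length_map]
  have hf : ∀ a ∈ l, ((fun A => decide ((A ∩ pts b).card = 2)) ∘ pts) a = (wt (a &&& b) == 2) := by
    intro a _
    rw [Bool.eq_iff_iff]
    simp only [Function.comp, decide_eq_true_eq, beq_iff_eq]
    rw [← pts_and, card_pts]
  rw [List.filter_congr hf]

theorem c2L_le (l : List ℕ) (b : ℕ) : c2L l b ≤ l.length := List.length_filter_le _ _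

theorem c2_compl {S : Finset (Finset GolayPt)} (hS : S ∈ sextets) (d : Finset GolayPt) :
    c2 S dᶜ = c2 S d := by
  unfold c2
  congr 1
  apply Finset.filter_congr
  intro t ht
  have h4 := hS.2.1 t ht
  have h := Finset.card_inter_add_card_sdiff t d
  have e : t ∩ dᶜ = t \ d := by
    ext x
    simp [Finset.mem_sdiff]
  rw [e]
  omega

/-- class of a code word index: dodecads by the number of tetrads met in two points -/
def clsD (l : List ℕ) (m : ℕ) : ℕ := if wt (cw m) = 12 then c2L l (cw m) else 100

theorem c2_inv : ∀ g ∈ M24, ∀ (x : Finset (Finset GolayPt)) (y : Finset GolayPt),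
    c2 (g • x) (g • y) = c2 x y := fun g _ x y => c2_smul g x y

theorem dod_inv : ∀ g ∈ M24, ∀ y ∈ dodecads, g • y ∈ dodecads :=
  fun _ hg _ hy => smul_mem_dodecads' hg hy

theorem dod_tr : ∀ y ∈ dodecads, ∀ y' ∈ dodecads, ∃ g ∈ M24, g • y = y' :=
  fun _ hy _ hy' => dodecads_transitive hy hy'


end Cfsg.Agent.helper28.M24orb
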