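import Mathlib
import Cfsg.Agent.Lib_helper28_M24orbF1
import Cfsg.Agent.Lib_helper28_M24orbDataS

set_option autoImplicit false

/-! Kernel-checked certificates: sextet stabiliser on 3-sets and on dodecads. -/

namespace Cfsg.Agent.helper28.M24orb

open Cfsg MulAction Cfsg.Agent.helper2.Golay
open scoped Pointwise

theorem trS3_ok : trS3.all (treeOK gS) = true := by decide +kernel

set_option maxRecDepth 1000000 in
theorem trS3_all : ∀ a ∈ threeSets, cntL s0l a < trS3.length →
    (trS3.getD (cntL s0l a) []).any (fun e => e.1 == a) = true := by decide +kernel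

theorem n3_1 : (threeSets.filter (fun a => cntL s0l a = 1)).toFinset.card = 24 := by decide +kernel
theorem n3_2 : (threeSets.filter (fun a => cntL s0l a = 2)).toFinset.card = 720 := by decide +kernel
theorem n3_3 : (threeSets.filter (fun a => cntL s0l a = 3)).toFinset.card = 1280 := by decide +kernel

theorem trSD_ok : trSD.all (treeOK gS) = true := by decide +kernel

theorem trSD_all : ∀ m < 4096, clsD s0l m < trSD.length →
    (trSD.getD (clsD s0l m) []).any (fun e => e.1 == cw m) = true :=
  forall_lt_4096 (by decide +kernel)

theorem nD6 : ((Finset.range 4096).filter (fun m => clsD s0l m = 6)).card = 576 := by decide +kernel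
theorem nD4 : ((Finset.range 4096).filter (fun m => clsD s0l m = 4)).card = 720 := by decide +kernel
theorem nD0 : ((Finset.range 4096).filter (fun m => clsD s0l m = 0)).card = 1280 := by decide +kernel

end Cfsg.Agent.helper28.M24orb
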