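import Mathlib
import Cfsg.Agent.Lib_helper28_M24orbF2

set_option autoImplicit false

/-! Stabilisers of a 3-set and of a complementary pair of dodecads acting on sextets. -/

namespace Cfsg.Agent.helper28.M24orb

open Cfsg MulAction Cfsg.Agent.helper2.Golay
open scoped Pointwise

theorem cert_S3 {Y Y' : Finset GolayPt} (hY : Y.card = 3) (hY' : Y'.card = 3)
    (hc : cnt S0 Y = cnt S0 Y') : ∃ g ∈ M24, g • S0 = S0 ∧ g • Y = Y' := by
  obtain ⟨a, ha, rfl⟩ := exists_threeSet hY
  obtain ⟨a', ha', rfl⟩ := exists_threeSet hY'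
  rw [S0, cnt_ofMasks s0l_lt s0l_nodup, cnt_ofMasks s0l_lt s0l_nodup] at hc
  obtain ⟨g, hgK, hg⟩ := rank_reach_list (stabOf s0l) gS (stabGens_mem gS_ok) trS3 trS3_ok
    (cntL s0l) threeSets trS3_all ha ha'
    (lt_of_le_of_lt (cntL_le s0l a) (by decide)) hc
  rw [mem_stabOf] at hgK
  exact ⟨g, hgK.1, hgK.2, hg⟩

theorem count_S3 (i : ℕ) : {Y : Finset GolayPt | Y.card = 3 ∧ cnt S0 Y = i}.ncard =
    (threeSets.filter (fun a => cntL s0l a = i)).toFinset.card := by
  apply ncard_maskList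
  · intro a ha
    exact threeSets_lt a (List.mem_filter.mp ha).1
  · intro s
    constructor
    · rintro ⟨hs, hc⟩
      obtain ⟨a, ha, rfl⟩ := exists_threeSet hs
      refine ⟨a, List.mem_filter.mpr ⟨ha, ?_⟩, rfl⟩
      rw [S0, cnt_ofMasks s0l_lt s0l_nodup] at hc
      simpa using hc
    · rintro ⟨a, ha, rfl⟩
      rw [List.mem_filter] at ha
      refine ⟨by rw [card_pts, threeSets_wt a ha.1], ?_⟩
      rw [S0, cnt_ofMasks s0l_lt s0l_nodup]
      simpa using ha.2

theorem count_S3_1 : {Y : Finset GolayPt | Y.card = 3 ∧ cnt S0 Y = 1}.ncard = 24 := by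
  rw [count_S3, n3_1]
theorem count_S3_2 : {Y : Finset GolayPt | Y.card = 3 ∧ cnt S0 Y = 2}.ncard = 720 := by
  rw [count_S3, n3_2]
theorem count_S3_3 : {Y : Finset GolayPt | Y.card = 3 ∧ cnt S0 Y = 3}.ncard = 1280 := by
  rw [count_S3, n3_3]

theorem three_on_sextets {Y : Finset GolayPt} (hY : Y.card = 3) :
    {S | S ∈ sextets ∧ cnt S Y = 1}.ncard = 21 ∧ {S | S ∈ sextets ∧ cnt S Y = 2}.ncard = 630 ∧
    {S | S ∈ sextets ∧ cnt S Y = 3}.ncard = 1120 ∧
    ∀ S S' : Finset (Finset GolayPt), S ∈ sextets → S' ∈ sextets → cnt S Y = cnt S' Y →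
      ∃ g ∈ M24, g • Y = Y ∧ g • S = S' := by
  have hcount := fun i => Dual.dual_count M24 sextets {Y : Finset GolayPt | Y.card = 3} cnt cnt_inv
    sext_tr three_tr sext_inv three_inv S0_mem hY i
  refine ⟨?_, ?_, ?_, ?_⟩
  · have h := hcount 1
    rw [ncard_sextets, ncard_three] at h
    have h2 : {y | y ∈ {Y : Finset GolayPt | Y.card = 3} ∧ cnt S0 y = 1}.ncard = 24 := count_S3_1
    rw [h2] at h
    omega
  · have h := hcount 2
    rw [ncard_sextets, ncard_three] at h
    have h2 : {y | y ∈ {Y : Finset GolayPt | Y.card = 3} ∧ cnt S0 y = 2}.ncard = 720 := count_S3_2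
    rw [h2] at h
    omega
  · have h := hcount 3
    rw [ncard_sextets, ncard_three] at h
    have h2 : {y | y ∈ {Y : Finset GolayPt | Y.card = 3} ∧ cnt S0 y = 3}.ncard = 1280 := count_S3_3
    rw [h2] at h
    omega
  · intro S S' hS hS' hc
    exact Dual.dual_trans M24 sextets {Y : Finset GolayPt | Y.card = 3} cnt cnt_inv sext_tr
      three_inv S0_mem (fun y hy y' hy' hc => cert_S3 hy hy' hc) hY hS hS' hc

theorem cert_SD {d d' : Finset GolayPt} (hd : d ∈ dodecads) (hd' : d' ∈ dodecads)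
    (hc : c2 S0 d = c2 S0 d') : ∃ g ∈ M24, g • S0 = S0 ∧ g • d = d' := by
  obtain ⟨m, hm, hw, rfl⟩ := exists_of_mem_dodecads hd
  obtain ⟨m', hm', hw', rfl⟩ := exists_of_mem_dodecads hd'
  rw [S0, c2_ofMasks s0l_lt s0l_nodup, c2_ofMasks s0l_lt s0l_nodup] at hc
  have e1 : clsD s0l m = c2L s0l (cw m) := by unfold clsD; rw [if_pos hw]
  have e2 : clsD s0l m' = c2L s0l (cw m') := by unfold clsD; rw [if_pos hw']
  obtain ⟨g, hgK, hgo⟩ := rank_reach (stabOf s0l) gS (stabGens_mem gS_ok) trSD trSD_ok (clsD s0l)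
    trSD_all hm hm' (by rw [e1]; exact lt_of_le_of_lt (c2L_le s0l _) (by decide))
    (by rw [e1, e2, hc])
  rw [mem_stabOf] at hgK
  exact ⟨g, hgK.1, hgK.2, hgo⟩

theorem count_SD (k : ℕ) (hk : k ≠ 100) :
    {d | d ∈ dodecads ∧ c2 S0 d = k}.ncard =
      ((Finset.range 4096).filter (fun m => clsD s0l m = k)).card := by
  apply ncard_cls
  intro s
  constructor
  · rintro ⟨hs, hc⟩
    obtain ⟨m, hm, hw, rfl⟩ := exists_of_mem_dodecads hs
    refine ⟨m, hm, ?_, rfl⟩
    unfold clsD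
    rw [if_pos hw, ← c2_ofMasks s0l_lt s0l_nodup]
    exact hc
  · rintro ⟨m, hm, hc, rfl⟩
    unfold clsD at hc
    split_ifs at hc with hw
    · exact ⟨pts_mem_dodecads hm hw, by rw [S0, c2_ofMasks s0l_lt s0l_nodup]; exact hc⟩
    · exact absurd hc.symm hk

theorem count_SD6 : {d | d ∈ dodecads ∧ c2 S0 d = 6}.ncard = 576 := by
  rw [count_SD 6 (by norm_num), nD6]
theorem count_SD4 : {d | d ∈ dodecads ∧ c2 S0 d = 4}.ncard = 720 := by
  rw [count_SD 4 (by norm_num), nD4]
theorem count_SD0 : {d | d ∈ dodecads ∧ c2 S0 d = 0}.ncard = 1280 := by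
  rw [count_SD 0 (by norm_num), nD0]

theorem dodpair_on_sextets {d : Finset GolayPt} (hd : d ∈ dodecads) :
    ∃ X₁ ∈ sextets, ∃ X₂ ∈ sextets, ∃ X₃ ∈ sextets,
      (MulAction.orbit ↥(MulAction.stabilizer ↥M24
        ({d, Finset.univ \ d} : Finset (Finset GolayPt))) X₁).ncard = 396 ∧
      (MulAction.orbit ↥(MulAction.stabilizer ↥M24
        ({d, Finset.univ \ d} : Finset (Finset GolayPt))) X₂).ncard = 495 ∧
      (MulAction.orbit ↥(MulAction.stabilizer ↥M24
        ({d, Finset.univ \ d} : Finset (Finset GolayPt))) X₃).ncard = 880 ∧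
      sextets = MulAction.orbit ↥(MulAction.stabilizer ↥M24
          ({d, Finset.univ \ d} : Finset (Finset GolayPt))) X₁ ∪
        MulAction.orbit ↥(MulAction.stabilizer ↥M24
          ({d, Finset.univ \ d} : Finset (Finset GolayPt))) X₂ ∪
        MulAction.orbit ↥(MulAction.stabilizer ↥M24
          ({d, Finset.univ \ d} : Finset (Finset GolayPt))) X₃ := by
  have hcount := fun i => Dual.dual_count M24 sextets dodecads c2 c2_inv sext_tr dod_tr sext_inv
    dod_inv S0_mem hd i
  have c1 : {S | S ∈ sextets ∧ c2 S d = 6}.ncard = 396 := by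
    have h := hcount 6
    rw [ncard_sextets, ncard_dodecads, count_SD6] at h
    omega
  have c2' : {S | S ∈ sextets ∧ c2 S d = 4}.ncard = 495 := by
    have h := hcount 4
    rw [ncard_sextets, ncard_dodecads, count_SD4] at h
    omega
  have c3 : {S | S ∈ sextets ∧ c2 S d = 0}.ncard = 880 := by
    have h := hcount 0
    rw [ncard_sextets, ncard_dodecads, count_SD0] at h
    omega
  have hP : (Finset.univ \ d) = dᶜ := (Finset.compl_eq_univ_sdiff d).symm
  have htr : ∀ S ∈ sextets, ∀ S' ∈ sextets, c2 S d = c2 S' d →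
      ∃ g ∈ M24, g • ({d, Finset.univ \ d} : Finset (Finset GolayPt)) = {d, Finset.univ \ d} ∧
        g • S = S' := by
    intro S hS S' hS' hc
    obtain ⟨g, hg, hgd, hgS⟩ := Dual.dual_trans M24 sextets dodecads c2 c2_inv sext_tr dod_inv
      S0_mem (fun y hy y' hy' hc => cert_SD hy hy' hc) hd hS hS' hc
    refine ⟨g, hg, ?_, hgS⟩
    rw [hP, Finset.smul_finset_insert, Finset.smul_finset_singleton, smul_compl, hgd]
  have horb : ∀ z ∈ sextets, MulAction.orbit ↥(MulAction.stabilizer ↥M24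
      ({d, Finset.univ \ d} : Finset (Finset GolayPt))) z =
      {z' | z' ∈ sextets ∧ c2 z' d = c2 z d} := by
    intro z hz
    refine Dual.orbit_eq M24 ({d, Finset.univ \ d} : Finset (Finset GolayPt)) sextets
      (fun S => c2 S d) ?_ htr hz
    intro g hg hgP S hS
    have hgS := smul_mem_sextets hg hS
    refine ⟨hgS, ?_⟩
    have hmem : g • d ∈ ({d, Finset.univ \ d} : Finset (Finset GolayPt)) := by
      rw [← hgP]
      exact Finset.smul_mem_smul_finset (Finset.mem_insert_self _ _)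
    rw [Finset.mem_insert, Finset.mem_singleton] at hmem
    rcases hmem with h | h
    · have h2 := c2_smul g S d
      rw [h] at h2
      exact h2
    · have h2 := c2_smul g S d
      rw [h, hP, c2_compl hgS] at h2
      exact h2
  exact Dual.three_orbits sextets (Set.toFinite _) (fun S => c2 S d)
    (fun S => MulAction.orbit ↥(MulAction.stabilizer ↥M24
      ({d, Finset.univ \ d} : Finset (Finset GolayPt))) S) horb
    (by decide) (by decide) (by decide) c1 c2' c3
    (by norm_num) (by norm_num) (by norm_num) (by rw [ncard_sextets])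


end Cfsg.Agent.helper28.M24orb
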