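import Mathlib
import Cfsg.Prelude.Def_CaseTheorems
import Cfsg.Agent.Lib_helper19_Pairing
import Cfsg.Agent.Lib_helper9_Extraspecial

set_option autoImplicit false
open scoped commutatorElement

namespace Cfsg.Agent.helper9.SecRank

/-- groups of exponent two are commutative -/
theorem mul_comm_of_sq_eq_one {G : Type*} [Group G] (h : ∀ a : G, a ^ 2 = 1) (a b : G) :
    a * b = b * a := by
  have ha := h a
  have hb := h b
  have hab := h (a * b)
  have h1 : a⁻¹ = a := by
    rw [inv_eq_iff_mul_eq_one, ← pow_two]; exact ha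
  have h2 : b⁻¹ = b := by
    rw [inv_eq_iff_mul_eq_one, ← pow_two]; exact hb
  have h3 : (a * b)⁻¹ = a * b := by
    rw [inv_eq_iff_mul_eq_one, ← pow_two]; exact hab
  rw [mul_inv_rev, h1, h2] at h3
  exact h3.symm

/-- a commutator is a product of three squares -/
theorem commutator_eq_sq_mul (G : Type*) [Group G] (a b : G) :
    ⁅a, b⁆ = (a * b) ^ 2 * (b⁻¹ * a⁻¹ * b) ^ 2 * (b⁻¹) ^ 2 := by
  rw [commutatorElement_def, pow_two, pow_two, pow_two]
  group

/-- Sections given by a pair of homomorphisms: if `ψ : X → S` and `g : X → A` is onto a group of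
exponent two with `ker ψ ≤ ker g`, then `A` is a section of `S`. -/
theorem card_le_of_section {S : Type*} [Group S] [Finite S] {k : ℕ}
    (hr : Cfsg.SectionalPRankLE 2 k S)
    {X A : Type*} [Group X] [Group A] (hA : ∀ a : A, a ^ 2 = 1) (ψ : X →* S) (g : X →* A)
    (hker : ψ.ker ≤ g.ker) (hg : Function.Surjective g) : Nat.card A ≤ 2 ^ k := by
  let H : Subgroup S := ψ.range
  let N : Subgroup H := g.ker.map ψ.rangeRestrict
  have : N.Normal := Subgroup.Normal.map inferInstance _ ψ.rangeRestrict_surjective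
  have hsq : ∀ a : H ⧸ N, a ^ 2 = 1 := by
    intro a
    induction a using QuotientGroup.induction_on with
    | H h =>
      obtain ⟨x, rfl⟩ := ψ.rangeRestrict_surjective h
      rw [← QuotientGroup.mk_pow, QuotientGroup.eq_one_iff]
      refine ⟨x ^ 2, ?_, map_pow _ _ _⟩
      rw [SetLike.mem_coe, MonoidHom.mem_ker, map_pow, hA]
  have hcomm : ∀ a b : H ⧸ N, a * b = b * a := mul_comm_of_sq_eq_one hsq
  have h1 := hr H N ⊤ ⟨⟨fun a b => Subtype.ext (hcomm a b)⟩⟩ (fun a _ => hsq a)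
  rw [Subgroup.card_top] at h1
  refine le_trans ?_ h1
  apply Nat.card_le_card_of_injective
    (fun a => (QuotientGroup.mk (ψ.rangeRestrict (Function.surjInv hg a)) : H ⧸ N))
  intro a b hab
  simp only at hab
  rw [QuotientGroup.eq] at hab
  obtain ⟨n, hn, hn'⟩ := hab
  have hn1 : g n = 1 := hn
  set u := (Function.surjInv hg a)⁻¹ * Function.surjInv hg b with hu
  have h2 : ψ.rangeRestrict n = ψ.rangeRestrict u := by
    rw [hn', hu, map_mul, map_inv]
  have h3 : ψ n = ψ u := congrArg Subtype.val h2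
  have h4 : n⁻¹ * u ∈ ψ.ker := by
    rw [MonoidHom.mem_ker, map_mul, map_inv, h3, inv_mul_cancel]
  have h5 := hker h4
  rw [MonoidHom.mem_ker, map_mul, map_inv, hn1, inv_one, one_mul, hu, map_mul, map_inv,
    Function.surjInv_eq hg, Function.surjInv_eq hg] at h5
  exact (inv_mul_eq_one.mp h5)

/-- a nonabelian finite 2-group has a normal subgroup of index at least four containing all
squares -/
theorem exists_sq_subgroup {P : Type*} [Group P] [Finite P] (hP : IsPGroup 2 P)
    (hna : ¬ IsMulCommutative P) :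
    ∃ D : Subgroup P, D.Normal ∧ (∀ x : P, x ^ 2 ∈ D) ∧ 4 ≤ D.index := by
  haveI : Fact (Nat.Prime 2) := ⟨Nat.prime_two⟩
  obtain ⟨m, hm⟩ := IsPGroup.iff_card.1 hP
  have hm0 : m ≠ 0 := by
    rintro rfl
    rw [pow_zero] at hm
    have := (Nat.card_eq_one_iff_unique.1 hm).1
    exact hna ⟨⟨fun a b => Subsingleton.elim _ _⟩⟩
  obtain ⟨m', rfl⟩ := Nat.exists_eq_succ_of_ne_zero hm0
  have hdvd : 2 ^ m' ∣ Nat.card P := by rw [hm]; exact pow_dvd_pow 2 (Nat.le_succ m')
  obtain ⟨M1, hM1, -⟩ := Sylow.exists_subgroup_card_pow_prime_le 2 (n := 0) (m := m') hdvd ⊥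
    (by simp) (Nat.zero_le _)
  have hidx : ∀ M : Subgroup P, Nat.card M = 2 ^ m' → M.index = 2 := by
    intro M hM
    have := M.card_mul_index
    rw [hM, hm, pow_succ] at this
    exact Nat.eq_of_mul_eq_mul_left (pow_pos two_pos m') this
  have hi1 : M1.index = 2 := hidx M1 hM1
  have hM1top : M1 ≠ ⊤ := by intro h; rw [h, Subgroup.index_top] at hi1; omega
  obtain ⟨x, hx⟩ : ∃ x, x ∉ M1 := by
    by_contra h; push_neg at h; exact hM1top (eq_top_iff.2 fun y _ => h y)
  obtain ⟨n, hn⟩ := IsPGroup.iff_card.1 (hP.to_subgroup (Subgroup.zpowers x))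
  have hnm : n ≤ m' := by
    have h1 : 2 ^ n ∣ 2 ^ (m' + 1) := by
      rw [← hn, ← hm]; exact Subgroup.card_subgroup_dvd_card _
    have h2 : n ≤ m' + 1 := (Nat.pow_dvd_pow_iff_le_right (by norm_num)).1 h1
    rcases Nat.lt_or_ge n (m' + 1) with h | h
    · omega
    · exfalso
      have hnm : n = m' + 1 := le_antisymm h2 h
      have htop : Subgroup.zpowers x = ⊤ :=
        Subgroup.eq_top_of_card_eq _ (by rw [hn, hm, hnm])
      apply hna
      refine ⟨⟨fun a b => ?_⟩⟩
      have ha : a ∈ Subgroup.zpowers x := htop ▸ Subgroup.mem_top a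
      have hb : b ∈ Subgroup.zpowers x := htop ▸ Subgroup.mem_top b
      obtain ⟨i, rfl⟩ := ha
      obtain ⟨j, rfl⟩ := hb
      show x ^ i * x ^ j = x ^ j * x ^ i
      rw [← zpow_add, ← zpow_add, add_comm]
  obtain ⟨M2, hM2, hxM2⟩ := Sylow.exists_subgroup_card_pow_prime_le 2 (n := n) (m := m') hdvd
    (Subgroup.zpowers x) hn hnm
  have hi2 : M2.index = 2 := hidx M2 hM2
  have hne : M1 ≠ M2 := by
    intro h
    exact hx (h ▸ hxM2 (Subgroup.mem_zpowers x))
  haveI : M1.Normal := Subgroup.normal_of_index_eq_two hi1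
  haveI : M2.Normal := Subgroup.normal_of_index_eq_two hi2
  refine ⟨M1 ⊓ M2, inferInstance, fun y => Subgroup.mem_inf.2
    ⟨Subgroup.sq_mem_of_index_two hi1 y, Subgroup.sq_mem_of_index_two hi2 y⟩, ?_⟩
  have hDle : M1 ⊓ M2 ≤ M1 := inf_le_left
  obtain ⟨t, ht⟩ := Subgroup.card_dvd_of_le hDle
  have hcD : 0 < Nat.card ↥(M1 ⊓ M2) := Nat.card_pos
  have ht0 : t ≠ 0 := by
    rintro rfl
    rw [mul_zero] at ht
    have : 0 < Nat.card M1 := Nat.card_pos
    omega
  have ht1 : t ≠ 1 := by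
    rintro rfl
    rw [mul_one] at ht
    have h1 : M1 ⊓ M2 = M1 := Subgroup.eq_of_le_of_card_ge hDle (le_of_eq ht)
    have h2 : M1 ≤ M2 := h1 ▸ inf_le_right
    exact hne (Subgroup.eq_of_le_of_card_ge h2 (by rw [hM1, hM2]))
  have h3 := (M1 ⊓ M2).card_mul_index
  have h4 := M1.card_mul_index
  rw [hi1, ht] at h4
  rw [← h4, mul_assoc] at h3
  have h5 := Nat.eq_of_mul_eq_mul_left hcD h3
  rw [h5]
  have : 2 ≤ t := by omega
  omega

/-- the centre (of order two) of a nonabelian 2-group lies in every subgroup containing all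
squares -/
theorem center_le_of_sq_mem {P : Type*} [Group P] [Finite P] (hP : IsPGroup 2 P)
    (hna : ¬ IsMulCommutative P) (hZ : Nat.card (Subgroup.center P) = 2) (D : Subgroup P)
    (hD : ∀ x : P, x ^ 2 ∈ D) : Subgroup.center P ≤ D := by
  haveI : Fact (Nat.Prime 2) := ⟨Nat.prime_two⟩
  have hcD : commutator P ≤ D := by
    rw [commutator_def, Subgroup.commutator_le]
    intro a _ b _
    rw [commutator_eq_sq_mul]
    exact D.mul_mem (D.mul_mem (hD _) (hD _)) (hD _)
  have hcne : commutator P ≠ ⊥ := by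
    intro h
    apply hna
    refine ⟨⟨fun a b => ?_⟩⟩
    have h1 : ⁅a, b⁆ ∈ commutator P :=
      Subgroup.commutator_mem_commutator (Subgroup.mem_top a) (Subgroup.mem_top b)
    rw [h, Subgroup.mem_bot] at h1
    exact commutatorElement_eq_one_iff_mul_comm.mp h1
  have h1 := Cfsg.Agent.helper19.inf_center_ne_bot_of_normal hP (commutator P) hcne
  obtain ⟨w, hw1⟩ := (Subgroup.ne_bot_iff_exists_ne_one).1 h1
  have hw' := Subgroup.mem_inf.1 w.2
  have hw1' : (w : P) ≠ 1 := fun h => hw1 (Subtype.ext h)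
  intro x hx
  by_cases hx1 : x = 1
  · rw [hx1]; exact D.one_mem
  · have := Cfsg.Agent.helper9.eq_of_mem_center_of_card_two hZ hx hw'.2 hx1 hw1'
    rw [this]
    exact hcD hw'.1

end Cfsg.Agent.helper9.SecRank
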