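import Mathlib
import Cfsg.Statements.S4400
import Cfsg.Agent.Lib_helper9_SecRank

set_option autoImplicit false
open Cfsg

namespace Cfsg.Agent.S4400

open Cfsg.Agent.helper9 Cfsg.Agent.helper9.SecRank
open scoped Pointwise

theorem zmod2_sq (t : Multiplicative (ZMod 2)) : t ^ 2 = 1 := by
  revert t; decide

theorem zmod2_two : (2 : ZMod 2) = 0 := by decide

/-- central involution generating Z(P) -/
theorem exists_central_gen {S : Type*} [Group S] [Finite S] (P : Subgroup S) [P.Normal]
    (hZP : Nat.card ↥(Subgroup.center ↥P) = 2) :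
    ∃ z : P, z ∈ Subgroup.center P ∧ z ≠ 1 ∧ (∀ s : S, s * (z : S) = z * s) ∧
      ∀ x ∈ Subgroup.center P, x = 1 ∨ x = z := by
  haveI : Nontrivial (Subgroup.center P) := by
    apply (Finite.one_lt_card_iff_nontrivial).1
    omega
  obtain ⟨z, hz⟩ := exists_ne (1 : Subgroup.center P)
  refine ⟨z.1, z.2, fun h => hz (Subtype.ext h), ?_, ?_⟩
  · intro s
    have := aut_fix_center hZP (MulAut.conjNormal s) z.1 z.2
    have h2 := congrArg Subtype.val this
    rw [MulAut.conjNormal_apply] at h2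
    calc s * (z.1 : S) = s * z.1 * s⁻¹ * s := by group
      _ = z.1 * s := by rw [h2]
  · intro x hx
    by_cases hx1 : x = 1
    · left; exact hx1
    · right
      exact eq_of_mem_center_of_card_two hZP hx z.2 hx1 (fun h => hz (Subtype.ext h))

/-- Let S be a finite 2-group of sectional 2-rank at most 4, and let P and Q be normal non-abelian subgroups of S whose centres have order 2 and are different. Then P and Q commute elementwise and intersect trivially, and PQ contains its own centralizer in S. -/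
theorem result {S : Type*} [Group S] [Finite S] (h2 : IsPGroup 2 S) (hr : Cfsg.SectionalPRankLE 2 4 S)
    (P Q : Subgroup S) [P.Normal] [Q.Normal] (hP : ¬ IsMulCommutative ↥P) (hQ : ¬ IsMulCommutative ↥Q)
    (hZP : Nat.card ↥(Subgroup.center ↥P) = 2) (hZQ : Nat.card ↥(Subgroup.center ↥Q) = 2)
    (hne : (Subgroup.center ↥P).map P.subtype ≠ (Subgroup.center ↥Q).map Q.subtype) :
    ⁅P, Q⁆ = ⊥ ∧ P ⊓ Q = ⊥ ∧ Subgroup.centralizer ((P ⊔ Q : Subgroup S) : Set S) ≤ P ⊔ Q := by
  haveI : Fact (Nat.Prime 2) := ⟨Nat.prime_two⟩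
  obtain ⟨zP, hzPc, hzP1, hzPS, hzPall⟩ := exists_central_gen P hZP
  obtain ⟨zQ, hzQc, hzQ1, hzQS, hzQall⟩ := exists_central_gen Q hZQ
  have hmapP : ∀ x : S, x ∈ (Subgroup.center ↥P).map P.subtype ↔ x = 1 ∨ x = zP := by
    intro x
    rw [Subgroup.mem_map]
    constructor
    · rintro ⟨y, hy, rfl⟩
      rcases hzPall y hy with h | h
      · left; rw [h]; rfl
      · right; rw [h]; rfl
    · rintro (rfl | rfl)
      · exact ⟨1, Subgroup.one_mem _, rfl⟩
      · exact ⟨zP, hzPc, rfl⟩
  have hmapQ : ∀ x : S, x ∈ (Subgroup.center ↥Q).map Q.subtype ↔ x = 1 ∨ x = zQ := by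
    intro x
    rw [Subgroup.mem_map]
    constructor
    · rintro ⟨y, hy, rfl⟩
      rcases hzQall y hy with h | h
      · left; rw [h]; rfl
      · right; rw [h]; rfl
    · rintro (rfl | rfl)
      · exact ⟨1, Subgroup.one_mem _, rfl⟩
      · exact ⟨zQ, hzQc, rfl⟩
  have hinf : P ⊓ Q = ⊥ := by
    by_contra hne'
    have h1 := Cfsg.Agent.helper19.inf_center_ne_bot_of_normal h2 (P ⊓ Q) hne'
    obtain ⟨w, hw1⟩ := (Subgroup.ne_bot_iff_exists_ne_one).1 h1
    have hw := Subgroup.mem_inf.1 w.2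
    have hwPQ := Subgroup.mem_inf.1 hw.1
    have hwc := Subgroup.mem_center_iff.1 hw.2
    have hw1' : (w : S) ≠ 1 := fun h => hw1 (Subtype.ext h)
    have hwP : (⟨w, hwPQ.1⟩ : P) ∈ Subgroup.center P := by
      rw [Subgroup.mem_center_iff]; intro g; exact Subtype.ext (hwc g)
    have hwQ : (⟨w, hwPQ.2⟩ : Q) ∈ Subgroup.center Q := by
      rw [Subgroup.mem_center_iff]; intro g; exact Subtype.ext (hwc g)
    have e1 : (w : S) = zP := by
      rcases hzPall _ hwP with h | h
      · exact absurd (congrArg Subtype.val h) hw1'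
      · exact congrArg Subtype.val h
    have e2 : (w : S) = zQ := by
      rcases hzQall _ hwQ with h | h
      · exact absurd (congrArg Subtype.val h) hw1'
      · exact congrArg Subtype.val h
    apply hne
    ext x
    rw [hmapP, hmapQ, ← e1, ← e2]
  have hcomm : ⁅P, Q⁆ = ⊥ := by
    rw [eq_bot_iff, ← hinf]; exact Subgroup.commutator_le_inf P Q
  refine ⟨hcomm, hinf, ?_⟩
  have hPQ : ∀ p ∈ P, ∀ q ∈ Q, p * q = q * p := by
    intro p hp q hq
    have h1 := Subgroup.commutator_eq_bot_iff_le_centralizer.1 hcomm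
    exact (Subgroup.mem_centralizer_iff.1 (h1 hp) q hq).symm
  by_contra hC
  obtain ⟨c0, hc0C, hc0R⟩ := SetLike.not_le_iff_exists.1 hC
  classical
  set R := P ⊔ Q with hR
  have hex : ∃ j, c0 ^ (2 ^ j) ∈ R := by
    obtain ⟨k, hk⟩ := h2 c0
    exact ⟨k, hk ▸ R.one_mem⟩
  have hj : c0 ^ 2 ^ (Nat.find hex) ∈ R := Nat.find_spec hex
  have hj0 : Nat.find hex ≠ 0 := by
    intro h; rw [h, pow_zero, pow_one] at hj; exact hc0R hj
  obtain ⟨j', hj'⟩ := Nat.exists_eq_succ_of_ne_zero hj0
  set c := c0 ^ 2 ^ j' with hc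
  have hcR : c ∉ R := Nat.find_min hex (by omega : j' < Nat.find hex)
  have hc2 : c ^ 2 ∈ R := by
    rw [hc, ← pow_mul, ← pow_succ, ← Nat.succ_eq_add_one, ← hj']; exact hj
  have hcC : c ∈ Subgroup.centralizer (R : Set S) := Subgroup.pow_mem _ hc0C _
  have hc2C : c ^ 2 ∈ Subgroup.centralizer (R : Set S) := Subgroup.pow_mem _ hcC _
  obtain ⟨DP, hDPn, hDPsq, hDPi⟩ := exists_sq_subgroup (h2.to_subgroup P) hP
  obtain ⟨DQ, hDQn, hDQsq, hDQi⟩ := exists_sq_subgroup (h2.to_subgroup Q) hQ
  have hZDP := center_le_of_sq_mem (h2.to_subgroup P) hP hZP DP hDPsq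
  have hZDQ := center_le_of_sq_mem (h2.to_subgroup Q) hQ hZQ DQ hDQsq
  -- decompose c²
  have hc2' : c ^ 2 ∈ (P : Set S) * (Q : Set S) := by
    have hmn : ((P ⊔ Q : Subgroup S) : Set S) = (P : Set S) * (Q : Set S) := Subgroup.mul_normal P Q
    rw [← hmn]; exact hc2
  obtain ⟨a, ha, b, hb, hab⟩ := Set.mem_mul.1 hc2'
  have haZ : (⟨a, ha⟩ : P) ∈ Subgroup.center P := by
    rw [Subgroup.mem_center_iff]
    intro g
    apply Subtype.ext
    show (g : S) * a = a * g
    have h1 := Subgroup.mem_centralizer_iff.1 hc2C (g : S) (Subgroup.mem_sup_left g.2)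
    rw [← hab] at h1
    have h3 := hPQ g g.2 b hb
    have h4 : (g : S) * a * b = a * g * b := by
      calc (g : S) * a * b = g * (a * b) := mul_assoc _ _ _
        _ = a * b * g := h1
        _ = a * (b * g) := mul_assoc _ _ _
        _ = a * (g * b) := by rw [h3]
        _ = a * g * b := (mul_assoc _ _ _).symm
    exact mul_right_cancel h4
  have hbZ : (⟨b, hb⟩ : Q) ∈ Subgroup.center Q := by
    rw [Subgroup.mem_center_iff]
    intro g
    apply Subtype.ext
    show (g : S) * b = b * g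
    have h1 := Subgroup.mem_centralizer_iff.1 hc2C (g : S) (Subgroup.mem_sup_right g.2)
    rw [← hab] at h1
    have h3 := hPQ a ha g g.2
    have h4 : a * ((g : S) * b) = a * (b * g) := by
      calc a * ((g : S) * b) = a * g * b := (mul_assoc _ _ _).symm
        _ = g * a * b := by rw [h3]
        _ = g * (a * b) := mul_assoc _ _ _
        _ = a * b * g := h1
        _ = a * (b * g) := mul_assoc _ _ _
    exact mul_left_cancel h4
  let ψ1 : P × Q →* S := MonoidHom.noncommCoprod P.subtype Q.subtype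
    (fun p q => hPQ p p.2 q q.2)
  have hψ1 : ∀ pq : P × Q, ψ1 pq = (pq.1 : S) * pq.2 := fun pq => rfl
  have hψ1R : ∀ pq : P × Q, ψ1 pq ∈ R := fun pq =>
    R.mul_mem (Subgroup.mem_sup_left pq.1.2) (Subgroup.mem_sup_right pq.2.2)
  let ψ : (P × Q) × Multiplicative ℤ →* S := MonoidHom.noncommCoprod ψ1 (zpowersHom S c)
    (fun pq k => by
      rw [zpowersHom_apply]
      apply Commute.zpow_right
      exact Subgroup.mem_centralizer_iff.1 hcC _ (hψ1R pq))
  have hψ : ∀ x : (P × Q) × Multiplicative ℤ,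
      ψ x = (x.1.1 : S) * x.1.2 * c ^ (Multiplicative.toAdd x.2) := fun x => rfl
  let g : (P × Q) × Multiplicative ℤ →* ((P ⧸ DP) × (Q ⧸ DQ)) × Multiplicative (ZMod 2) :=
    MonoidHom.prodMap (MonoidHom.prodMap (QuotientGroup.mk' DP) (QuotientGroup.mk' DQ))
      (AddMonoidHom.toMultiplicative (Int.castAddHom (ZMod 2)))
  have hg : Function.Surjective g := by
    show Function.Surjective (Prod.map (Prod.map (QuotientGroup.mk' DP) (QuotientGroup.mk' DQ))
      (AddMonoidHom.toMultiplicative (Int.castAddHom (ZMod 2))))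
    refine Function.Surjective.prodMap (Function.Surjective.prodMap
      (QuotientGroup.mk'_surjective DP) (QuotientGroup.mk'_surjective DQ)) ?_
    intro t
    obtain ⟨n, hn⟩ := ZMod.intCast_surjective (Multiplicative.toAdd t)
    exact ⟨Multiplicative.ofAdd n, by
      show Multiplicative.ofAdd ((n : ℤ) : ZMod 2) = t
      rw [hn]; rfl⟩
  have hA : ∀ y : ((P ⧸ DP) × (Q ⧸ DQ)) × Multiplicative (ZMod 2), y ^ 2 = 1 := by
    rintro ⟨⟨u, v⟩, t⟩
    refine Prod.ext (Prod.ext ?_ ?_) ?_
    · show u ^ 2 = 1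
      induction u using QuotientGroup.induction_on with
      | H x => rw [← QuotientGroup.mk_pow, QuotientGroup.eq_one_iff]; exact hDPsq x
    · show v ^ 2 = 1
      induction v using QuotientGroup.induction_on with
      | H x => rw [← QuotientGroup.mk_pow, QuotientGroup.eq_one_iff]; exact hDQsq x
    · show t ^ 2 = 1
      exact zmod2_sq t
  have hker : ψ.ker ≤ g.ker := by
    rintro ⟨⟨p, q⟩, k⟩ hx
    rw [MonoidHom.mem_ker] at hx ⊢
    rw [hψ] at hx
    simp only at hx
    rcases Int.even_or_odd' (Multiplicative.toAdd k) with ⟨i, hi | hi⟩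
    · -- even
      rw [hi, zpow_mul, zpow_ofNat, ← hab] at hx
      have hcab : Commute a b := hPQ a ha b hb
      rw [hcab.mul_zpow] at hx
      have hai : a ^ i ∈ P := P.zpow_mem ha i
      have hbi : b ^ i ∈ Q := Q.zpow_mem hb i
      have h5 : ((p : S) * a ^ i) * ((q : S) * b ^ i) = 1 := by
        rw [← hx, mul_assoc (p : S) (a ^ i), ← mul_assoc (a ^ i), hPQ _ hai _ q.2]
        simp only [mul_assoc]
      have h6 : (p : S) * a ^ i ∈ P ⊓ Q := by
        refine Subgroup.mem_inf.2 ⟨P.mul_mem p.2 hai, ?_⟩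
        rw [eq_inv_of_mul_eq_one_left h5]
        exact Q.inv_mem (Q.mul_mem q.2 hbi)
      rw [hinf, Subgroup.mem_bot] at h6
      rw [h6, one_mul] at h5
      have hp : p ∈ DP := by
        have : p = ((⟨a, ha⟩ : P) ^ i)⁻¹ := by
          apply eq_inv_of_mul_eq_one_left
          apply Subtype.ext
          rw [Subgroup.coe_mul, Subgroup.coe_zpow]
          exact h6
        rw [this]
        exact DP.inv_mem (DP.zpow_mem (hZDP haZ) i)
      have hq : q ∈ DQ := by
        have : q = ((⟨b, hb⟩ : Q) ^ i)⁻¹ := by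
          apply eq_inv_of_mul_eq_one_left
          apply Subtype.ext
          rw [Subgroup.coe_mul, Subgroup.coe_zpow]
          exact h5
        rw [this]
        exact DQ.inv_mem (DQ.zpow_mem (hZDQ hbZ) i)
      refine Prod.ext (Prod.ext ?_ ?_) ?_
      · exact (QuotientGroup.eq_one_iff p).2 hp
      · exact (QuotientGroup.eq_one_iff q).2 hq
      · show Multiplicative.ofAdd (((Multiplicative.toAdd k : ℤ)) : ZMod 2) = 1
        rw [hi]
        push_cast
        rw [zmod2_two, zero_mul]; rfl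
    · -- odd
      exfalso
      apply hcR
      have h5 : c = (c ^ 2) ^ (-i) * c ^ (Multiplicative.toAdd k) := by
        rw [hi, ← zpow_natCast c 2, ← zpow_mul, ← zpow_add]
        have : ((2 : ℕ) : ℤ) * -i + (2 * i + 1) = 1 := by push_cast; ring
        rw [this, zpow_one]
      have h6 : c ^ (Multiplicative.toAdd k) = ((p : S) * q)⁻¹ := by
        exact eq_inv_of_mul_eq_one_right hx
      rw [h5, h6]
      exact R.mul_mem (R.zpow_mem hc2 _) (R.inv_mem (hψ1R (p, q)))
  have hcard := card_le_of_section hr hA ψ g hker hg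
  rw [Nat.card_prod, Nat.card_prod, Nat.card_congr Multiplicative.toAdd, Nat.card_zmod,
    ← Subgroup.index_eq_card, ← Subgroup.index_eq_card] at hcard
  have : 4 * 4 ≤ DP.index * DQ.index := Nat.mul_le_mul hDPi hDQi
  omega

end Cfsg.Agent.S4400
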