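import Mathlib
import Cfsg.Prelude.Def_CaseTheorems
import Cfsg.Agent.Lib_helper9_SecRank
import Cfsg.Agent.S4400

set_option autoImplicit false
open scoped commutatorElement Pointwise

namespace Cfsg.Agent.helper9.SecRank

/-- sections of a group embedded in `S` are sections of `S` -/
theorem sectional_of_injective {S : Type*} [Group S] [Finite S] {k : ℕ}
    (hr : Cfsg.SectionalPRankLE 2 k S) {Y : Type*} [Group Y] (ι : Y →* S)
    (hι : Function.Injective ι) : Cfsg.SectionalPRankLE 2 k Y := by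
  intro H N _ A _ hA2
  let X : Subgroup H := A.comap (QuotientGroup.mk' N)
  let ψ : X →* S := ι.comp (H.subtype.comp X.subtype)
  let g : X →* A := (QuotientGroup.mk' N).subgroupComap A
  have hg : Function.Surjective g :=
    MonoidHom.subgroupComap_surjective_of_surjective _ _ (QuotientGroup.mk'_surjective N)
  have hA : ∀ a : A, a ^ 2 = 1 := fun a => Subtype.ext (hA2 a a.2)
  have hker : ψ.ker ≤ g.ker := by
    intro u hu
    rw [MonoidHom.mem_ker] at hu
    have h1 : ψ u = ψ 1 := by rw [hu, map_one]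
    have h2 : u = 1 := by
      have := hι h1
      exact Subtype.ext (Subtype.ext this)
    rw [h2]; exact g.ker.one_mem
  exact card_le_of_section hr hA ψ g hker hg

/-- if `Y × Y` embeds in a group of sectional rank at most four then `Y` has sectional rank at
most two -/
theorem sectional_half {S : Type*} [Group S] [Finite S]
    (hr : Cfsg.SectionalPRankLE 2 4 S) {Y : Type*} [Group Y] (ι : Y × Y →* S)
    (hι : Function.Injective ι) : Cfsg.SectionalPRankLE 2 2 Y := by
  intro H N _ A _ hA2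
  let X : Subgroup H := A.comap (QuotientGroup.mk' N)
  let j : X →* Y := H.subtype.comp X.subtype
  have hj : Function.Injective j := fun u v h => Subtype.ext (Subtype.ext h)
  let ψ : X × X →* S := ι.comp (MonoidHom.prodMap j j)
  let π : X →* A := (QuotientGroup.mk' N).subgroupComap A
  have hπ : Function.Surjective π :=
    MonoidHom.subgroupComap_surjective_of_surjective _ _ (QuotientGroup.mk'_surjective N)
  let g : X × X →* A × A := MonoidHom.prodMap π π
  have hg : Function.Surjective g := by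
    show Function.Surjective (Prod.map π π)
    exact Function.Surjective.prodMap hπ hπ
  have hA : ∀ a : A × A, a ^ 2 = 1 := by
    rintro ⟨a, b⟩
    exact Prod.ext (Subtype.ext (hA2 a a.2)) (Subtype.ext (hA2 b b.2))
  have hker : ψ.ker ≤ g.ker := by
    intro u hu
    rw [MonoidHom.mem_ker] at hu
    have h1 : ψ u = ψ 1 := by rw [hu, map_one]
    have h2 : MonoidHom.prodMap j j u = MonoidHom.prodMap j j 1 := hι h1
    have h3 : u = 1 := by
      have h4 : j u.1 = j 1 := congrArg Prod.fst h2
      have h5 : j u.2 = j 1 := congrArg Prod.snd h2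
      exact Prod.ext (hj h4) (hj h5)
    rw [h3]; exact g.ker.one_mem
  have hcard := card_le_of_section hr hA ψ g hker hg
  rw [Nat.card_prod] at hcard
  by_contra hlt
  have : 5 ≤ Nat.card A := by norm_num at hlt; omega
  nlinarith

/-- `P` is nonabelian with centre `{1, z}` (elementwise formulation) -/
structure Good {S : Type*} [Group S] (P : Subgroup S) (z : S) : Prop where
  mem : z ∈ P
  ne_one : z ≠ 1
  comm : ∀ p ∈ P, p * z = z * p
  only : ∀ c ∈ P, (∀ p ∈ P, c * p = p * c) → c = 1 ∨ c = z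
  nonab : ∃ a ∈ P, ∃ b ∈ P, a * b ≠ b * a

theorem good_of_hyps {S : Type*} [Group S] [Finite S] (P : Subgroup S)
    (hP : ¬ IsMulCommutative ↥P) (hZP : Nat.card ↥(Subgroup.center ↥P) = 2) :
    ∃ z : S, Good P z ∧ ∀ x : S, x ∈ (Subgroup.center ↥P).map P.subtype ↔ x = 1 ∨ x = z := by
  have : Nontrivial (Subgroup.center P) := by
    apply (Finite.one_lt_card_iff_nontrivial).1
    omega
  obtain ⟨z, hz⟩ := exists_ne (1 : Subgroup.center P)
  have hz1 : (z.1 : P) ≠ 1 := fun h => hz (Subtype.ext h)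
  have hall : ∀ x ∈ Subgroup.center P, x = 1 ∨ x = z.1 := by
    intro x hx
    by_cases hx1 : x = 1
    · left; exact hx1
    · right
      exact Cfsg.Agent.helper9.eq_of_mem_center_of_card_two hZP hx z.2 hx1 hz1
  refine ⟨(z.1 : S), ⟨z.1.2, fun h => hz1 (Subtype.ext h), ?_, ?_, ?_⟩, ?_⟩
  · intro p hp
    have := Subgroup.mem_center_iff.1 z.2 ⟨p, hp⟩
    exact congrArg Subtype.val this
  · intro c hc hcc
    have hcz : (⟨c, hc⟩ : P) ∈ Subgroup.center P := by
      rw [Subgroup.mem_center_iff]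
      intro g
      exact Subtype.ext (hcc g.1 g.2).symm
    rcases hall _ hcz with h | h
    · left; exact congrArg Subtype.val h
    · right; exact congrArg Subtype.val h
  · by_contra hcon
    push Not at hcon
    exact hP ⟨⟨fun a b => Subtype.ext (hcon a.1 a.2 b.1 b.2)⟩⟩
  · intro x
    rw [Subgroup.mem_map]
    constructor
    · rintro ⟨y, hy, rfl⟩
      rcases hall y hy with h | h
      · left; rw [h]; rfl
      · right; rw [h]; rfl
    · rintro (rfl | rfl)
      · exact ⟨1, Subgroup.one_mem _, rfl⟩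
      · exact ⟨z.1, z.2, rfl⟩

theorem Good.hyps {S : Type*} [Group S] {P : Subgroup S} {z : S} (h : Good P z) :
    ¬ IsMulCommutative ↥P ∧ Nat.card ↥(Subgroup.center ↥P) = 2 ∧
      ∀ x : S, x ∈ (Subgroup.center ↥P).map P.subtype ↔ x = 1 ∨ x = z := by
  have hzc : (⟨z, h.mem⟩ : P) ∈ Subgroup.center P := by
    rw [Subgroup.mem_center_iff]
    intro g
    exact Subtype.ext (h.comm g.1 g.2)
  have hall : ∀ x ∈ Subgroup.center P, x = 1 ∨ x = ⟨z, h.mem⟩ := by
    intro x hx
    have := h.only x.1 x.2 (fun p hp =>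
      (congrArg Subtype.val (Subgroup.mem_center_iff.1 hx ⟨p, hp⟩)).symm)
    rcases this with h1 | h1
    · left; exact Subtype.ext h1
    · right; exact Subtype.ext h1
  refine ⟨?_, ?_, ?_⟩
  · intro hc
    obtain ⟨a, ha, b, hb, hab⟩ := h.nonab
    apply hab
    have := hc.is_comm.comm (⟨a, ha⟩ : P) ⟨b, hb⟩
    exact congrArg Subtype.val this
  · rw [Nat.card_eq_two_iff]
    refine ⟨1, ⟨⟨z, h.mem⟩, hzc⟩, ?_, ?_⟩
    · intro h1
      have := congrArg (fun u : Subgroup.center P => ((u : P) : S)) h1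
      exact h.ne_one this.symm
    · ext c
      simp only [Set.mem_insert_iff, Set.mem_singleton_iff, Set.mem_univ, iff_true]
      rcases hall c.1 c.2 with h1 | h1
      · left; exact Subtype.ext h1
      · right; exact Subtype.ext h1
  · intro x
    rw [Subgroup.mem_map]
    constructor
    · rintro ⟨y, hy, rfl⟩
      rcases hall y hy with h1 | h1
      · left; rw [h1]; rfl
      · right; rw [h1]; rfl
    · rintro (h1 | h1)
      · rw [h1]; exact ⟨1, Subgroup.one_mem _, rfl⟩
      · rw [h1]; exact ⟨⟨z, h.mem⟩, hzc, rfl⟩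

/-- conjugates of good pairs are good -/
theorem Good.conj {S : Type*} [Group S] {P : Subgroup S} {z : S} (h : Good P z) (t : S) :
    Good (P.map (MulAut.conj t).toMonoidHom) (t * z * t⁻¹) := by
  have hmem : ∀ x : S, x ∈ P.map (MulAut.conj t).toMonoidHom ↔ t⁻¹ * x * t ∈ P := by
    intro x
    rw [Subgroup.mem_map]
    constructor
    · rintro ⟨p, hp, rfl⟩
      have : t⁻¹ * ((MulAut.conj t).toMonoidHom p) * t = p := by
        show t⁻¹ * (t * p * t⁻¹) * t = p
        group
      rw [this]; exact hp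
    · intro hx
      refine ⟨t⁻¹ * x * t, hx, ?_⟩
      show t * (t⁻¹ * x * t) * t⁻¹ = x
      group
  refine ⟨?_, ?_, ?_, ?_, ?_⟩
  · rw [hmem]
    have : t⁻¹ * (t * z * t⁻¹) * t = z := by group
    rw [this]; exact h.mem
  · intro h1
    apply h.ne_one
    have : z = t⁻¹ * (t * z * t⁻¹) * t := by group
    rw [this, h1]; group
  · intro p hp
    rw [hmem] at hp
    have := h.comm _ hp
    calc p * (t * z * t⁻¹) = t * ((t⁻¹ * p * t) * z) * t⁻¹ := by group
      _ = t * (z * (t⁻¹ * p * t)) * t⁻¹ := by rw [this]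
      _ = t * z * t⁻¹ * p := by group
  · intro c hc hcc
    rw [hmem] at hc
    have h1 := h.only _ hc (fun p hp => by
      have hp' : t * p * t⁻¹ ∈ P.map (MulAut.conj t).toMonoidHom := by
        rw [hmem]
        have : t⁻¹ * (t * p * t⁻¹) * t = p := by group
        rw [this]; exact hp
      have := hcc _ hp'
      calc t⁻¹ * c * t * p = t⁻¹ * (c * (t * p * t⁻¹)) * t := by group
        _ = t⁻¹ * ((t * p * t⁻¹) * c) * t := by rw [this]
        _ = p * (t⁻¹ * c * t) := by group)
    rcases h1 with h1 | h1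
    · left
      have : c = t * (t⁻¹ * c * t) * t⁻¹ := by group
      rw [this, h1]; group
    · right
      have : c = t * (t⁻¹ * c * t) * t⁻¹ := by group
      rw [this, h1]
  · obtain ⟨a, ha, b, hb, hab⟩ := h.nonab
    refine ⟨t * a * t⁻¹, ?_, t * b * t⁻¹, ?_, ?_⟩
    · rw [hmem]
      have : t⁻¹ * (t * a * t⁻¹) * t = a := by group
      rw [this]; exact ha
    · rw [hmem]
      have : t⁻¹ * (t * b * t⁻¹) * t = b := by group
      rw [this]; exact hb
    · intro h1
      apply hab
      have h2 : t * (a * b) * t⁻¹ = t * (b * a) * t⁻¹ := by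
        calc t * (a * b) * t⁻¹ = t * a * t⁻¹ * (t * b * t⁻¹) := by group
          _ = t * b * t⁻¹ * (t * a * t⁻¹) := h1
          _ = t * (b * a) * t⁻¹ := by group
      exact mul_left_cancel (mul_right_cancel h2)

/-- relative form of S4400: two good subgroups normal in a subgroup `S₀` -/
theorem rel4400 {S : Type*} [Group S] [Finite S] (h2 : IsPGroup 2 S)
    (hr : Cfsg.SectionalPRankLE 2 4 S) (S₀ P Q : Subgroup S) (hPS : P ≤ S₀) (hQS : Q ≤ S₀)
    (hPn : ∀ s ∈ S₀, ∀ x ∈ P, s * x * s⁻¹ ∈ P) (hQn : ∀ s ∈ S₀, ∀ x ∈ Q, s * x * s⁻¹ ∈ Q)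
    {z z' : S} (hP : Good P z) (hQ : Good Q z') (hne : z ≠ z') :
    (∀ p ∈ P, ∀ q ∈ Q, p * q = q * p) ∧ P ⊓ Q = ⊥ ∧
      ∀ c ∈ S₀, (∀ p ∈ P, c * p = p * c) → (∀ q ∈ Q, c * q = q * c) →
        c = 1 ∨ c = z ∨ c = z' ∨ c = z * z' := by
  haveI : (P.subgroupOf S₀).Normal := ⟨fun n hn g => by
    rw [Subgroup.mem_subgroupOf] at hn ⊢
    exact hPn g.1 g.2 n.1 hn⟩
  haveI : (Q.subgroupOf S₀).Normal := ⟨fun n hn g => by
    rw [Subgroup.mem_subgroupOf] at hn ⊢
    exact hQn g.1 g.2 n.1 hn⟩
  have hP' : Good (P.subgroupOf S₀) (⟨z, hPS hP.mem⟩ : S₀) := by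
    refine ⟨?_, ?_, ?_, ?_, ?_⟩
    · rw [Subgroup.mem_subgroupOf]; exact hP.mem
    · intro h; exact hP.ne_one (congrArg Subtype.val h)
    · intro p hp
      rw [Subgroup.mem_subgroupOf] at hp
      exact Subtype.ext (hP.comm p.1 hp)
    · intro c hc hcc
      rw [Subgroup.mem_subgroupOf] at hc
      have := hP.only c.1 hc (fun p hp => by
        have := hcc ⟨p, hPS hp⟩ (by rw [Subgroup.mem_subgroupOf]; exact hp)
        exact congrArg Subtype.val this)
      rcases this with h | h
      · left; exact Subtype.ext h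
      · right; exact Subtype.ext h
    · obtain ⟨a, ha, b, hb, hab⟩ := hP.nonab
      refine ⟨⟨a, hPS ha⟩, by rw [Subgroup.mem_subgroupOf]; exact ha, ⟨b, hPS hb⟩,
        by rw [Subgroup.mem_subgroupOf]; exact hb, ?_⟩
      intro h; exact hab (congrArg Subtype.val h)
  have hQ' : Good (Q.subgroupOf S₀) (⟨z', hQS hQ.mem⟩ : S₀) := by
    refine ⟨?_, ?_, ?_, ?_, ?_⟩
    · rw [Subgroup.mem_subgroupOf]; exact hQ.mem
    · intro h; exact hQ.ne_one (congrArg Subtype.val h)
    · intro p hp
      rw [Subgroup.mem_subgroupOf] at hp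
      exact Subtype.ext (hQ.comm p.1 hp)
    · intro c hc hcc
      rw [Subgroup.mem_subgroupOf] at hc
      have := hQ.only c.1 hc (fun p hp => by
        have := hcc ⟨p, hQS hp⟩ (by rw [Subgroup.mem_subgroupOf]; exact hp)
        exact congrArg Subtype.val this)
      rcases this with h | h
      · left; exact Subtype.ext h
      · right; exact Subtype.ext h
    · obtain ⟨a, ha, b, hb, hab⟩ := hQ.nonab
      refine ⟨⟨a, hQS ha⟩, by rw [Subgroup.mem_subgroupOf]; exact ha, ⟨b, hQS hb⟩,
        by rw [Subgroup.mem_subgroupOf]; exact hb, ?_⟩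
      intro h; exact hab (congrArg Subtype.val h)
  obtain ⟨hPa, hPb, hPc⟩ := hP'.hyps
  obtain ⟨hQa, hQb, hQc⟩ := hQ'.hyps
  have hne' : (Subgroup.center ↥(P.subgroupOf S₀)).map (P.subgroupOf S₀).subtype ≠
      (Subgroup.center ↥(Q.subgroupOf S₀)).map (Q.subgroupOf S₀).subtype := by
    intro h
    have h1 : (⟨z, hPS hP.mem⟩ : S₀) ∈
        (Subgroup.center ↥(P.subgroupOf S₀)).map (P.subgroupOf S₀).subtype :=
      (hPc _).2 (Or.inr rfl)
    rw [h, hQc] at h1
    rcases h1 with h1 | h1
    · exact hP.ne_one (congrArg Subtype.val h1)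
    · exact hne (congrArg Subtype.val h1)
  obtain ⟨h1, h2', h3⟩ := Cfsg.Agent.S4400.result (h2.to_subgroup S₀)
    (sectional_of_injective hr S₀.subtype Subtype.val_injective)
    (P.subgroupOf S₀) (Q.subgroupOf S₀) hPa hQa hPb hQb hne'
  have hcomm : ∀ p ∈ P, ∀ q ∈ Q, p * q = q * p := by
    intro p hp q hq
    have h4 := Subgroup.commutator_eq_bot_iff_le_centralizer.1 h1
    have hp' : (⟨p, hPS hp⟩ : S₀) ∈ P.subgroupOf S₀ := by
      rw [Subgroup.mem_subgroupOf]; exact hp
    have hq' : (⟨q, hQS hq⟩ : S₀) ∈ Q.subgroupOf S₀ := by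
      rw [Subgroup.mem_subgroupOf]; exact hq
    have := Subgroup.mem_centralizer_iff.1 (h4 hp') _ hq'
    exact (congrArg Subtype.val this).symm
  refine ⟨hcomm, ?_, ?_⟩
  · rw [eq_bot_iff]
    intro x hx
    obtain ⟨hxP, hxQ⟩ := Subgroup.mem_inf.1 hx
    have : (⟨x, hPS hxP⟩ : S₀) ∈ P.subgroupOf S₀ ⊓ Q.subgroupOf S₀ := by
      refine Subgroup.mem_inf.2 ⟨?_, ?_⟩ <;> rw [Subgroup.mem_subgroupOf]
      · exact hxP
      · exact hxQ
    rw [h2', Subgroup.mem_bot] at this
    rw [Subgroup.mem_bot]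
    exact congrArg Subtype.val this
  · intro c hc hcP hcQ
    have hle : P.subgroupOf S₀ ⊔ Q.subgroupOf S₀ ≤
        Subgroup.centralizer {(⟨c, hc⟩ : S₀)} := by
      refine sup_le ?_ ?_
      · intro p hp
        rw [Subgroup.mem_subgroupOf] at hp
        rw [Subgroup.mem_centralizer_iff]
        intro y hy
        rw [Set.mem_singleton_iff] at hy
        rw [hy]
        exact Subtype.ext (hcP p.1 hp)
      · intro p hp
        rw [Subgroup.mem_subgroupOf] at hp
        rw [Subgroup.mem_centralizer_iff]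
        intro y hy
        rw [Set.mem_singleton_iff] at hy
        rw [hy]
        exact Subtype.ext (hcQ p.1 hp)
    have hcc : (⟨c, hc⟩ : S₀) ∈ Subgroup.centralizer
        ((P.subgroupOf S₀ ⊔ Q.subgroupOf S₀ : Subgroup S₀) : Set S₀) := by
      rw [Subgroup.mem_centralizer_iff]
      intro y hy
      have := Subgroup.mem_centralizer_iff.1 (hle hy) _ (Set.mem_singleton _)
      exact this.symm
    have h4 := h3 hcc
    have hmn : ((P.subgroupOf S₀ ⊔ Q.subgroupOf S₀ : Subgroup S₀) : Set S₀) =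
        (P.subgroupOf S₀ : Set S₀) * (Q.subgroupOf S₀ : Set S₀) :=
      Subgroup.mul_normal _ _
    have h5 : (⟨c, hc⟩ : S₀) ∈ (P.subgroupOf S₀ : Set S₀) * (Q.subgroupOf S₀ : Set S₀) := by
      rw [← hmn]; exact h4
    obtain ⟨a, ha, b, hb, hab⟩ := Set.mem_mul.1 h5
    have ha' : (a : S) ∈ P := Subgroup.mem_subgroupOf.1 ha
    have hb' : (b : S) ∈ Q := Subgroup.mem_subgroupOf.1 hb
    have hab' : (a : S) * b = c := congrArg Subtype.val hab
    have haZ : (a : S) = 1 ∨ (a : S) = z := by
      apply hP.only _ ha'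
      intro p hp
      have h6 := hcP p hp
      rw [← hab'] at h6
      have h7 := hcomm p hp b hb'
      have h8 : (a : S) * p * b = p * a * b := by
        calc (a : S) * p * b = a * (p * b) := mul_assoc _ _ _
          _ = a * (b * p) := by rw [h7]
          _ = a * b * p := (mul_assoc _ _ _).symm
          _ = p * (a * b) := h6
          _ = p * a * b := (mul_assoc _ _ _).symm
      exact mul_right_cancel h8
    have hbZ : (b : S) = 1 ∨ (b : S) = z' := by
      apply hQ.only _ hb'
      intro q hq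
      have h6 := hcQ q hq
      rw [← hab'] at h6
      have h7 := hcomm a ha' q hq
      have h8 : (a : S) * ((b : S) * q) = a * (q * b) := by
        calc (a : S) * ((b : S) * q) = a * b * q := (mul_assoc _ _ _).symm
          _ = q * (a * b) := h6
          _ = q * a * b := (mul_assoc _ _ _).symm
          _ = a * q * b := by rw [h7]
          _ = a * (q * b) := mul_assoc _ _ _
      exact mul_left_cancel h8
    rw [← hab']
    rcases haZ with h6 | h6 <;> rcases hbZ with h7 | h7 <;> rw [h6, h7]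
    · left; exact one_mul 1
    · right; right; left; exact one_mul _
    · right; left; exact mul_one _
    · right; right; right; rfl

end Cfsg.Agent.helper9.SecRank
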