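import Mathlib
import Cfsg.Prelude.Def_CaseTheorems
import Cfsg.Agent.Lib_helper9_SecRank
import Cfsg.Agent.Lib_helper9_SecRank2
import Cfsg.Agent.Lib_helper19_Pairing
import Cfsg.Agent.Lib_helper9_Extraspecial

set_option autoImplicit false
open scoped commutatorElement

namespace Cfsg.Agent.helper9.SecRank

universe u

/-- sections of a quotient are sections -/
theorem sectional_of_surjective {S : Type*} [Group S] [Finite S] {k : ℕ}
    (hr : Cfsg.SectionalPRankLE 2 k S) {Y : Type*} [Group Y] (π : S →* Y)
    (hπ : Function.Surjective π) : Cfsg.SectionalPRankLE 2 k Y := by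
  intro H N _ A _ hA2
  let X₀ : Subgroup H := A.comap (QuotientGroup.mk' N)
  let j : X₀ →* Y := H.subtype.comp X₀.subtype
  have hj : Function.Injective j := fun u v h => Subtype.ext (Subtype.ext h)
  let W : Subgroup S := j.range.comap π
  let gA : X₀ →* A := (QuotientGroup.mk' N).subgroupComap A
  have hgA : Function.Surjective gA :=
    MonoidHom.subgroupComap_surjective_of_surjective _ _ (QuotientGroup.mk'_surjective N)
  let e : j.range ≃* X₀ := (MonoidHom.ofInjective hj).symm
  let π' : W →* j.range := (π.comp W.subtype).codRestrict j.range (fun w => w.2)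
  have hπ' : Function.Surjective π' := by
    rintro ⟨y, hy⟩
    obtain ⟨s, rfl⟩ := hπ y
    exact ⟨⟨s, hy⟩, rfl⟩
  let g : W →* A := gA.comp (e.toMonoidHom.comp π')
  have hg : Function.Surjective g := by
    show Function.Surjective (gA ∘ (e ∘ π'))
    exact hgA.comp (e.surjective.comp hπ')
  have hA : ∀ a : A, a ^ 2 = 1 := fun a => Subtype.ext (hA2 a a.2)
  have hker : (W.subtype).ker ≤ g.ker := by
    intro u hu
    rw [MonoidHom.mem_ker] at hu
    have h2 : u = 1 := Subtype.ext hu
    rw [h2]; exact g.ker.one_mem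
  exact card_le_of_section hr hA W.subtype g hker hg

/-- all commutators lie in a subgroup containing all squares -/
theorem commutator_le_of_sq_mem {P : Type*} [Group P] (D : Subgroup P)
    (hD : ∀ x : P, x ^ 2 ∈ D) : commutator P ≤ D := by
  rw [commutator_def, Subgroup.commutator_le]
  intro a _ b _
  rw [commutator_eq_sq_mul]
  exact D.mul_mem (D.mul_mem (hD _) (hD _)) (hD _)

/-- the quotient by a subgroup containing all squares has order at most `2 ^ k` -/
theorem index_le_of_sq_mem {X : Type*} [Group X] [Finite X] {k : ℕ}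
    (hr : Cfsg.SectionalPRankLE 2 k X) (D : Subgroup X) [D.Normal] (hD : ∀ x : X, x ^ 2 ∈ D) :
    D.index ≤ 2 ^ k := by
  have hA : ∀ a : X ⧸ D, a ^ 2 = 1 := by
    intro a
    induction a using QuotientGroup.induction_on with
    | H x => rw [← QuotientGroup.mk_pow, QuotientGroup.eq_one_iff]; exact hD x
  have := card_le_of_section hr hA (MonoidHom.id X) (QuotientGroup.mk' D)
    (by intro u hu; rw [MonoidHom.mem_ker] at hu; rw [show u = 1 from hu]; exact Subgroup.one_mem _)
    (QuotientGroup.mk'_surjective D)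
  rwa [← Subgroup.index_eq_card] at this

theorem isCyclic_of_card_le_two {Q : Type*} [Group Q] [Finite Q] (h : Nat.card Q ≤ 2) :
    IsCyclic Q := by
  haveI : Fact (Nat.Prime 2) := ⟨Nat.prime_two⟩
  have hpos : 0 < Nat.card Q := Nat.card_pos
  rcases Nat.lt_or_ge (Nat.card Q) 2 with h1 | h1
  · have : Nat.card Q = 1 := by omega
    have hs : Subsingleton Q := (Nat.card_eq_one_iff_unique.1 this).1
    exact isCyclic_of_subsingleton
  · exact isCyclic_of_prime_card (le_antisymm h h1)

/-- the divisors of 8 that are at least 4 -/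
theorem eq_four_or_eight {d : ℕ} (h : d ∣ 8) (h4 : 4 ≤ d) : d = 4 ∨ d = 8 := by
  have : d ≤ 8 := Nat.le_of_dvd (by norm_num) h
  interval_cases d <;> first | omega | (exfalso; revert h; decide)

/-- a nonabelian finite 2-group has commutator subgroup of index at least four -/
theorem four_le_index_commutator {X : Type*} [Group X] [Finite X] (h2 : IsPGroup 2 X)
    (hna : ¬ IsMulCommutative X) : 4 ≤ (commutator X).index := by
  obtain ⟨D, hDn, hDsq, hDi⟩ := exists_sq_subgroup h2 hna
  have hXD : commutator X ≤ D := commutator_le_of_sq_mem D hDsq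
  have h1 := Subgroup.index_dvd_of_le hXD
  have h2' : (commutator X).index ≠ 0 := Subgroup.index_ne_zero_of_finite
  have := Nat.le_of_dvd (Nat.pos_of_ne_zero h2') h1
  omega

/-- a nonabelian group of order eight has commutator subgroup of index four -/
theorem index_commutator_of_card_eight {X : Type*} [Group X] [Finite X] (h8 : Nat.card X = 8)
    (hna : ¬ IsMulCommutative X) : (commutator X).index = 4 := by
  haveI : Fact (Nat.Prime 2) := ⟨Nat.prime_two⟩
  have h2 : IsPGroup 2 X := IsPGroup.of_card (n := 3) (by rw [h8]; norm_num)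
  have h4 := four_le_index_commutator h2 hna
  have hdvd : (commutator X).index ∣ 8 := by rw [← h8]; exact Subgroup.index_dvd_card _
  rcases eq_four_or_eight hdvd h4 with h | h
  · exact h
  · exfalso
    have h1 := (commutator X).card_mul_index
    rw [h, h8] at h1
    have h3 : Nat.card (commutator X) = 1 := by omega
    have h5 : commutator X = ⊥ := Subgroup.card_eq_one.mp h3
    apply hna
    refine ⟨⟨fun a b => ?_⟩⟩
    have h6 : ⁅a, b⁆ ∈ commutator X :=
      Subgroup.commutator_mem_commutator (Subgroup.mem_top a) (Subgroup.mem_top b)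
    rw [h5, Subgroup.mem_bot] at h6
    exact commutatorElement_eq_one_iff_mul_comm.mp h6

/-- Step from a maximal subgroup: if `M` has index two in the 2-group `X` of sectional rank at
most two, `M' ≠ 1` and `|M : M'| = 4`, then `|X : X'| = 4`. -/
theorem commutator_index_four_of_max : ∀ (n : ℕ) (X : Type u) [Group X] [Finite X],
    Nat.card X = n → IsPGroup 2 X → Cfsg.SectionalPRankLE 2 2 X → ∀ M : Subgroup X,
    M.index = 2 → ⁅M, M⁆ ≠ ⊥ → (⁅M, M⁆).index = 8 → (commutator X).index = 4 := by
  intro n
  induction n using Nat.strong_induction_on with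
  | _ n ih =>
  intro X _ _ hn h2 hr M hM2 hKne hK8
  haveI : Fact (Nat.Prime 2) := ⟨Nat.prime_two⟩
  haveI hMn : M.Normal := Subgroup.normal_of_index_eq_two hM2
  have hKM : ⁅M, M⁆ ≤ M := Subgroup.commutator_le_self M
  have hKX : ⁅M, M⁆ ≤ commutator X := by
    rw [commutator_def]; exact Subgroup.commutator_mono le_top le_top
  have hna : ¬ IsMulCommutative X := by
    intro hc
    apply hKne
    exact (Subgroup.commutator_eq_bot_iff_le_centralizer).2 (fun m _ =>
      Subgroup.mem_centralizer_iff.2 (fun h _ => hc.is_comm.comm h m))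
  by_cases hK2 : Nat.card ↥(⁅M, M⁆) = 2
  · -- class two case
    have h4 := four_le_index_commutator h2 hna
    have hdvd : (commutator X).index ∣ 8 := by
      rw [← hK8]; exact Subgroup.index_dvd_of_le hKX
    rcases eq_four_or_eight hdvd h4 with h | h
    · exact h
    exfalso
    have hXK : ⁅M, M⁆ = commutator X := by
      apply Subgroup.eq_of_le_of_card_ge hKX
      have e1 := (commutator X).card_mul_index
      have e2 := (⁅M, M⁆).card_mul_index
      rw [h] at e1
      rw [hK8] at e2
      omega
    -- K central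
    have hKc : ∀ k ∈ ⁅M, M⁆, ∀ x : X, x * k = k * x := by
      intro k hk x
      by_cases hk1 : k = 1
      · rw [hk1, mul_one, one_mul]
      · have hc : x * k * x⁻¹ ∈ ⁅M, M⁆ := Subgroup.Normal.conj_mem inferInstance k hk x
        have hc1 : x * k * x⁻¹ ≠ 1 := by
          intro h'
          apply hk1
          have : k = x⁻¹ * (x * k * x⁻¹) * x := by group
          rw [this, h']; group
        have := Cfsg.Agent.helper9.eq_of_ne_one_of_card_two hK2
          (a := (⟨x * k * x⁻¹, hc⟩ : ↥(⁅M, M⁆))) (b := ⟨k, hk⟩)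
          (fun h' => hc1 (congrArg Subtype.val h')) (fun h' => hk1 (congrArg Subtype.val h'))
        have h' : x * k * x⁻¹ = k := congrArg Subtype.val this
        calc x * k = x * k * x⁻¹ * x := by group
          _ = k * x := by rw [h']
    have hKsq : ∀ k ∈ ⁅M, M⁆, k * k = 1 := by
      intro k hk
      have h' : (⟨k, hk⟩ : ↥(⁅M, M⁆)) ^ Nat.card ↥(⁅M, M⁆) = 1 := pow_card_eq_one'
      rw [hK2, pow_two] at h'
      exact congrArg Subtype.val h'
    have hcomK : ∀ x y : X, ⁅x, y⁆ ∈ ⁅M, M⁆ := by
      intro x y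
      rw [hXK]
      exact Subgroup.commutator_mem_commutator (Subgroup.mem_top x) (Subgroup.mem_top y)
    have hsqc : ∀ x y : X, x ^ 2 * y = y * x ^ 2 := by
      intro x y
      have hc := hcomK x y
      have e : x * y = ⁅x, y⁆ * y * x := by rw [commutatorElement_def]; group
      have c1 := hKc _ hc
      calc x ^ 2 * y = x * (x * y) := by rw [pow_two, mul_assoc]
        _ = x * (⁅x, y⁆ * y * x) := by rw [← e]
        _ = (x * ⁅x, y⁆) * y * x := by simp only [mul_assoc]
        _ = ⁅x, y⁆ * (x * y) * x := by rw [c1 x]; simp only [mul_assoc]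
        _ = ⁅x, y⁆ * (⁅x, y⁆ * y * x) * x := by rw [← e]
        _ = (⁅x, y⁆ * ⁅x, y⁆) * y * x * x := by simp only [mul_assoc]
        _ = y * x ^ 2 := by rw [hKsq _ hc, one_mul, pow_two, mul_assoc]
    set V : Subgroup X := Subgroup.closure (Set.range (fun x : X => x ^ 2)) with hV
    have hVc : V ≤ Subgroup.center X := by
      rw [hV, Subgroup.closure_le]
      rintro _ ⟨x, rfl⟩
      rw [SetLike.mem_coe, Subgroup.mem_center_iff]
      intro y
      exact (hsqc x y).symm
    haveI hVn : V.Normal := ⟨fun v hv g => by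
      have := Subgroup.mem_center_iff.1 (hVc hv) g
      have e : g * v * g⁻¹ = v := by rw [this]; group
      rw [e]; exact hv⟩
    have hVsq : ∀ x : X, x ^ 2 ∈ V := fun x => Subgroup.subset_closure ⟨x, rfl⟩
    have hVi : V.index ≤ 2 ^ 2 := index_le_of_sq_mem hr V hVsq
    have hVM : V ≤ M := by
      rw [hV, Subgroup.closure_le]
      rintro _ ⟨x, rfl⟩
      exact Subgroup.sq_mem_of_index_two hM2 x
    have hrel : V.relIndex M ≤ 2 := by
      have := Subgroup.relIndex_mul_index hVM
      rw [hM2] at this
      omega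
    -- M commutative
    haveI : IsCyclic (↥M ⧸ V.subgroupOf M) := by
      apply isCyclic_of_card_le_two
      rw [← Subgroup.index_eq_card]
      exact hrel
    have hker : (QuotientGroup.mk' (V.subgroupOf M)).ker ≤ Subgroup.center ↥M := by
      rw [QuotientGroup.ker_mk']
      intro m hm
      rw [Subgroup.mem_subgroupOf] at hm
      rw [Subgroup.mem_center_iff]
      intro g
      exact Subtype.ext (Subgroup.mem_center_iff.1 (hVc hm) g)
    apply hKne
    refine (Subgroup.commutator_eq_bot_iff_le_centralizer).2 (fun m hm =>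
      Subgroup.mem_centralizer_iff.2 (fun h hh => ?_))
    have := commutative_of_cyclic_center_quotient (QuotientGroup.mk' (V.subgroupOf M)) hker
      (⟨h, hh⟩ : M) ⟨m, hm⟩
    exact congrArg Subtype.val this
  · -- pass to a quotient by a central subgroup of order two inside K
    have hcen := Cfsg.Agent.helper19.inf_center_ne_bot_of_normal h2 (⁅M, M⁆) hKne
    have hcard2 : 2 ∣ Nat.card ↥(⁅M, M⁆ ⊓ Subgroup.center X) := by
      obtain ⟨j, hj⟩ := IsPGroup.iff_card.1 (h2.to_subgroup (⁅M, M⁆ ⊓ Subgroup.center X))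
      rw [hj]
      have : j ≠ 0 := by
        rintro rfl
        rw [pow_zero] at hj
        exact hcen (Subgroup.card_eq_one.mp hj)
      exact dvd_pow_self 2 this
    obtain ⟨u, hu⟩ := exists_prime_orderOf_dvd_card' (G := ↥(⁅M, M⁆ ⊓ Subgroup.center X)) 2 hcard2
    have hu2 : orderOf (u : X) = 2 := by rw [Subgroup.orderOf_coe]; exact hu
    obtain ⟨huK, huc⟩ := Subgroup.mem_inf.1 u.2
    set Z₀ : Subgroup X := Subgroup.zpowers (u : X) with hZ₀
    have hZc : Z₀ ≤ Subgroup.center X := by
      rw [hZ₀, Subgroup.zpowers_le]; exact huc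
    haveI hZn : Z₀.Normal := ⟨fun v hv g => by
      have := Subgroup.mem_center_iff.1 (hZc hv) g
      have e : g * v * g⁻¹ = v := by rw [this]; group
      rw [e]; exact hv⟩
    have hZK : Z₀ ≤ ⁅M, M⁆ := by rw [hZ₀, Subgroup.zpowers_le]; exact huK
    have hZcard : Nat.card Z₀ = 2 := by rw [hZ₀, Nat.card_zpowers, hu2]
    have hπs : Function.Surjective (QuotientGroup.mk' Z₀) := QuotientGroup.mk'_surjective Z₀
    have hkerπ : (QuotientGroup.mk' Z₀).ker = Z₀ := QuotientGroup.ker_mk' Z₀
    have hcardY : Nat.card (X ⧸ Z₀) < n := by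
      have e1 := Z₀.card_mul_index
      rw [hZcard, hn, Subgroup.index_eq_card] at e1
      have : 0 < Nat.card (X ⧸ Z₀) := Nat.card_pos
      omega
    have hM2' : (M.map (QuotientGroup.mk' Z₀)).index = 2 := by
      rw [Subgroup.index_map_eq M hπs (by rw [hkerπ]; exact hZK.trans hKM)]; exact hM2
    have hKmap : ⁅M.map (QuotientGroup.mk' Z₀), M.map (QuotientGroup.mk' Z₀)⁆ =
        (⁅M, M⁆).map (QuotientGroup.mk' Z₀) := (Subgroup.map_commutator M M _).symm
    have hKne' : ⁅M.map (QuotientGroup.mk' Z₀), M.map (QuotientGroup.mk' Z₀)⁆ ≠ ⊥ := by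
      rw [hKmap]
      intro h
      rw [Subgroup.map_eq_bot_iff, hkerπ] at h
      apply hK2
      have := Subgroup.eq_of_le_of_card_ge h (Subgroup.card_le_of_le hZK)
      rw [this, hZcard]
    have hK8' : (⁅M.map (QuotientGroup.mk' Z₀), M.map (QuotientGroup.mk' Z₀)⁆).index = 8 := by
      rw [hKmap, Subgroup.index_map_eq _ hπs (by rw [hkerπ]; exact hZK)]; exact hK8
    have hres := ih _ hcardY (X ⧸ Z₀) rfl (h2.to_quotient Z₀)
      (sectional_of_surjective hr (QuotientGroup.mk' Z₀) hπs) _ hM2' hKne' hK8'
    have hcomm : commutator (X ⧸ Z₀) = (commutator X).map (QuotientGroup.mk' Z₀) := by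
      rw [commutator_def, commutator_def, Subgroup.map_commutator,
        Subgroup.map_top_of_surjective _ hπs]
    rw [hcomm, Subgroup.index_map_eq _ hπs (by rw [hkerπ]; exact hZK.trans hKX)] at hres
    exact hres

/-- A 2-group of sectional rank at most two containing a nonabelian subgroup of order eight
has commutator subgroup of index four. -/
theorem commutator_index_four : ∀ (n : ℕ) (X : Type u) [Group X] [Finite X],
    Nat.card X = n → IsPGroup 2 X → Cfsg.SectionalPRankLE 2 2 X →
    (∃ H : Subgroup X, Nat.card ↥H = 8 ∧ ¬ IsMulCommutative ↥H) → (commutator X).index = 4 := by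
  intro n
  induction n using Nat.strong_induction_on with
  | _ n ih =>
  intro X _ _ hn h2 hr hH
  obtain ⟨H, hH8, hHna⟩ := hH
  haveI : Fact (Nat.Prime 2) := ⟨Nat.prime_two⟩
  by_cases hHtop : H = ⊤
  · apply index_commutator_of_card_eight
    · rw [← hH8, hHtop, Subgroup.card_top]
    · intro hc
      apply hHna
      exact ⟨⟨fun a b => Subtype.ext (hc.is_comm.comm a.1 b.1)⟩⟩
  · obtain ⟨m, hm⟩ := IsPGroup.iff_card.1 h2
    have h3m : 3 < m := by
      by_contra hle
      push Not at hle
      apply hHtop
      apply Subgroup.eq_top_of_card_eq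
      have h1 : Nat.card ↥H ∣ Nat.card X := Subgroup.card_subgroup_dvd_card H
      rw [hH8, hm] at h1
      have h2' : (2 : ℕ) ^ 3 ∣ 2 ^ m := by norm_num; exact h1
      have := (Nat.pow_dvd_pow_iff_le_right (by norm_num : 1 < 2)).1 h2'
      have hm3 : m = 3 := by omega
      rw [hH8, hm, hm3]; norm_num
    obtain ⟨m', rfl⟩ : ∃ m', m = m' + 1 := ⟨m - 1, by omega⟩
    have hdvd : 2 ^ m' ∣ Nat.card X := by rw [hm]; exact pow_dvd_pow 2 (Nat.le_succ m')
    obtain ⟨M, hMcard, hHM⟩ := Sylow.exists_subgroup_card_pow_prime_le 2 (n := 3) (m := m') hdvd H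
      (by rw [hH8]; norm_num) (by omega)
    have hM2 : M.index = 2 := by
      have := M.card_mul_index
      rw [hMcard, hm, pow_succ] at this
      exact Nat.eq_of_mul_eq_mul_left (pow_pos two_pos m') this
    have hlt : Nat.card ↥M < n := by
      rw [← hn, hm, hMcard]
      exact Nat.pow_lt_pow_right (by norm_num) (Nat.lt_succ_self m')
    have hex : ∃ H' : Subgroup ↥M, Nat.card ↥H' = 8 ∧ ¬ IsMulCommutative ↥H' := by
      refine ⟨H.subgroupOf M, ?_, ?_⟩
      · rw [Nat.card_congr (Subgroup.subgroupOfEquivOfLe hHM).toEquiv]; exact hH8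
      · intro hc
        apply hHna
        refine ⟨⟨fun a b => ?_⟩⟩
        have e := Subgroup.subgroupOfEquivOfLe hHM
        have h1 := hc.is_comm.comm (e.symm a) (e.symm b)
        have h2' := congrArg e h1
        simpa using h2'
    have hres := ih _ hlt ↥M rfl (h2.to_subgroup M)
      (sectional_of_injective hr M.subtype Subtype.val_injective) hex
    have hK8 : (⁅M, M⁆).index = 8 := by
      rw [← Subgroup.map_subtype_commutator, Subgroup.index_map_subtype, hres, hM2]
    have hKne : ⁅M, M⁆ ≠ ⊥ := by
      intro h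
      rw [h, Subgroup.index_bot, hm] at hK8
      have h4 : m' + 1 = 3 := by
        have : (2 : ℕ) ^ (m' + 1) = 2 ^ 3 := by rw [hK8]; norm_num
        exact Nat.pow_right_injective (le_refl 2) this
      omega
    exact commutator_index_four_of_max n X hn h2 hr M hM2 hKne hK8

end Cfsg.Agent.helper9.SecRank
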