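import Mathlib
import Cfsg.Prelude.Def_CaseTheorems
import Cfsg.Prelude.Def_OddOrderLocal
import Cfsg.Agent.Lib_helper9_SecRank3
import Cfsg.Agent.Lib_helper1_PGroup
import Cfsg.Agent.Lib_helper19_Pairing
import Cfsg.Agent.Lib_helper5_Sylow

set_option autoImplicit false
set_option linter.style.haveILetI false
set_option linter.deprecated false
set_option linter.unusedVariables false
set_option linter.unusedSectionVars false

/-!
# 2-groups of sectional rank at most 2 are metacyclic: general lemmas
-/

open scoped commutatorElement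

namespace Cfsg.Agent.helper7.Meta2

universe u

variable {S : Type u} [Group S]

/-- If `y ∈ N` and `⟨y, y'⟩ = S` then `S / N` is cyclic. -/
theorem quot_cyclic_of_gen (N : Subgroup S) [N.Normal] (y y' : S)
    (hgen : Subgroup.closure ({y, y'} : Set S) = ⊤) (hy : y ∈ N) : IsCyclic (S ⧸ N) := by
  rw [isCyclic_iff_exists_zpowers_eq_top]
  refine ⟨(QuotientGroup.mk y' : S ⧸ N), ?_⟩
  rw [eq_top_iff]
  intro x _
  induction x using QuotientGroup.induction_on with
  | H g =>
    have hg : g ∈ Subgroup.closure ({y, y'} : Set S) := by rw [hgen]; trivial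
    have hle : Subgroup.closure ({y, y'} : Set S) ≤
        (Subgroup.zpowers (QuotientGroup.mk y' : S ⧸ N)).comap (QuotientGroup.mk' N) := by
      rw [Subgroup.closure_le]
      intro t ht
      rcases ht with rfl | ht
      · rw [SetLike.mem_coe, Subgroup.mem_comap]
        have : (QuotientGroup.mk' N t) = 1 := (QuotientGroup.eq_one_iff t).mpr hy
        rw [this]; exact Subgroup.one_mem _
      · rw [Set.mem_singleton_iff] at ht
        subst ht
        rw [SetLike.mem_coe, Subgroup.mem_comap]
        exact Subgroup.mem_zpowers _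
    exact hle hg

/-- A subgroup containing the commutator subgroup is normal. -/
theorem normal_of_commutator_le (N : Subgroup S) (h : commutator S ≤ N) : N.Normal := by
  refine ⟨fun n hn g => ?_⟩
  have h1 : ⁅g, n⁆ ∈ commutator S := by
    rw [commutator_def]
    exact Subgroup.commutator_mem_commutator (Subgroup.mem_top g) (Subgroup.mem_top n)
  have h2 : g * n * g⁻¹ = ⁅g, n⁆ * n := by
    rw [commutatorElement_def]; group
  rw [h2]
  exact N.mul_mem (h h1) hn

/-- Criterion: two generators, the derived subgroup inside the cyclic group of the first. -/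
theorem metacyclic_of_comm_le (y y' : S) (hgen : Subgroup.closure ({y, y'} : Set S) = ⊤)
    (hc : commutator S ≤ Subgroup.zpowers y) : Cfsg.IsMetacyclic S := by
  have hN : (Subgroup.zpowers y).Normal := normal_of_commutator_le _ hc
  refine ⟨Subgroup.zpowers y, hN, ?_, ?_⟩
  · exact inferInstance
  · exact quot_cyclic_of_gen (Subgroup.zpowers y) y y' hgen (Subgroup.mem_zpowers y)

/-- Multiplying a generator by a Frattini element keeps generation. -/
theorem gen_mul_frattini [Finite S] (g h w : S)
    (hgen : Subgroup.closure ({g, h} : Set S) = ⊤) (hw : w ∈ frattini S) :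
    Subgroup.closure ({g * w, h} : Set S) = ⊤ := by
  apply frattini_nongenerating
  rw [eq_top_iff, ← hgen, Subgroup.closure_le]
  intro t ht
  rcases ht with rfl | ht
  · have h1 : t * w ∈ Subgroup.closure ({t * w, h} : Set S) :=
      Subgroup.subset_closure (Set.mem_insert _ _)
    have h3 : (t * w) * w⁻¹ ∈ Subgroup.closure ({t * w, h} : Set S) ⊔ frattini S :=
      Subgroup.mul_mem _ (Subgroup.mem_sup_left h1)
        (Subgroup.mem_sup_right ((frattini S).inv_mem hw))
    simpa using h3
  · rw [Set.mem_singleton_iff] at ht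
    subst ht
    exact Subgroup.mem_sup_left (Subgroup.subset_closure (Set.mem_insert_of_mem _ rfl))

theorem mem_zpowers_of_sq {G : Type*} [Group G] (g x : G) (hg : g ^ 2 = 1)
    (hx : x ∈ Subgroup.zpowers g) : x = 1 ∨ x = g := by
  obtain ⟨k, rfl⟩ := Subgroup.mem_zpowers_iff.mp hx
  rcases Int.emod_two_eq_zero_or_one k with h | h
  · left
    have hk : k = 2 * (k / 2) := by omega
    rw [hk, zpow_mul, zpow_ofNat, hg, one_zpow]
  · right
    have hk : k = 2 * (k / 2) + 1 := by omega
    rw [hk, zpow_add, zpow_mul, zpow_ofNat, hg, one_zpow, one_mul, zpow_one]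

theorem two_mul_card_le_of_lt [Finite S] {H K : Subgroup S} (h : H < K) :
    2 * Nat.card H ≤ Nat.card K := by
  have h1 := Subgroup.card_dvd_of_le h.le
  have h2 := Cfsg.Agent.helper5.card_lt_of_lt h
  obtain ⟨m, hm⟩ := h1
  have hpos : 0 < Nat.card H := Nat.card_pos
  rcases Nat.lt_or_ge m 2 with hm2 | hm2
  · interval_cases m
    · rw [hm] at h2; omega
    · rw [hm] at h2; omega
  · rw [hm]
    nlinarith

/-- A finite 2-group of sectional rank at most 2 is generated by two elements. -/
theorem two_gen [Finite S] (h2 : IsPGroup 2 S) (hr : Cfsg.SectionalPRankLE 2 2 S) :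
    ∃ a b : S, Subgroup.closure ({a, b} : Set S) = ⊤ := by
  haveI : Fact (Nat.Prime 2) := ⟨Nat.prime_two⟩
  have hidx : (frattini S).index ≤ 2 ^ 2 :=
    Cfsg.Agent.helper9.SecRank.index_le_of_sq_mem hr (frattini S)
      (fun x => Cfsg.Agent.helper1.pow_mem_frattini_of_isPGroup h2 x)
  have hcard := (frattini S).card_mul_index
  by_cases h1 : ∃ a : S, a ∉ frattini S
  · obtain ⟨a, ha⟩ := h1
    by_cases h2' : ∃ b : S, b ∉ Subgroup.closure ({a} : Set S) ⊔ frattini S
    · obtain ⟨b, hb⟩ := h2'
      refine ⟨a, b, ?_⟩
      apply frattini_nongenerating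
      apply Subgroup.eq_top_of_le_card
      have hlt1 : frattini S < Subgroup.closure ({a} : Set S) ⊔ frattini S := by
        refine lt_of_le_of_ne le_sup_right ?_
        intro heq
        apply ha
        rw [heq]
        exact Subgroup.mem_sup_left (Subgroup.subset_closure rfl)
      have hlt2 : Subgroup.closure ({a} : Set S) ⊔ frattini S <
          Subgroup.closure ({a, b} : Set S) ⊔ frattini S := by
        refine lt_of_le_of_ne ?_ ?_
        · apply sup_le_sup_right
          apply Subgroup.closure_mono
          intro t ht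
          rw [Set.mem_singleton_iff] at ht
          subst ht
          exact Set.mem_insert _ _
        · intro heq
          apply hb
          rw [heq]
          exact Subgroup.mem_sup_left
            (Subgroup.subset_closure (Set.mem_insert_of_mem _ rfl))
      have c1 := two_mul_card_le_of_lt hlt1
      have c2 := two_mul_card_le_of_lt hlt2
      have hpos : 0 < Nat.card (frattini S) := Nat.card_pos
      nlinarith
    · push Not at h2'
      refine ⟨a, a, ?_⟩
      apply frattini_nongenerating
      rw [eq_top_iff]
      intro x _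
      have hx := h2' x
      have hle : Subgroup.closure ({a} : Set S) ≤ Subgroup.closure ({a, a} : Set S) := by
        apply Subgroup.closure_mono
        intro t ht
        rw [Set.mem_singleton_iff] at ht
        subst ht
        exact Set.mem_insert _ _
      exact (sup_le_sup_right hle _) hx
  · push Not at h1
    refine ⟨1, 1, ?_⟩
    apply frattini_nongenerating
    rw [eq_top_iff]
    intro x _
    exact Subgroup.mem_sup_right (h1 x)

/-- A nontrivial normal subgroup of a finite 2-group contains a central involution. -/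
theorem central_invol_in_normal [Finite S] (h2 : IsPGroup 2 S) (N : Subgroup S) [N.Normal]
    (hN : N ≠ ⊥) : ∃ e ∈ N, e ∈ Subgroup.center S ∧ orderOf e = 2 := by
  haveI : Fact (Nat.Prime 2) := ⟨Nat.prime_two⟩
  have hK := Cfsg.Agent.helper19.inf_center_ne_bot_of_normal h2 N hN
  have hKnt : Nontrivial ↥(N ⊓ Subgroup.center S) := (Subgroup.nontrivial_iff_ne_bot _).2 hK
  obtain ⟨k, hk0, hk⟩ := (h2.to_subgroup (N ⊓ Subgroup.center S)).nontrivial_iff_card.mp hKnt
  have hdvd : 2 ∣ Nat.card ↥(N ⊓ Subgroup.center S) := by
    rw [hk]; exact dvd_pow_self _ (ne_of_gt hk0)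
  obtain ⟨e', he'⟩ := exists_prime_orderOf_dvd_card' (G := ↥(N ⊓ Subgroup.center S)) 2 hdvd
  refine ⟨(e' : S), e'.2.1, e'.2.2, ?_⟩
  rw [Subgroup.orderOf_coe]
  exact he'

/-- closure of a conjugation-stable set is normal. -/
theorem closure_normal_of_conj (T : Set S) (hT : ∀ t ∈ T, ∀ g : S, g * t * g⁻¹ ∈ T) :
    (Subgroup.closure T).Normal := by
  refine ⟨fun n hn g => ?_⟩
  induction hn using Subgroup.closure_induction with
  | mem x hx => exact Subgroup.subset_closure (hT x hx g)
  | one => simp
  | mul x y _ _ hx hy =>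
    have : g * (x * y) * g⁻¹ = (g * x * g⁻¹) * (g * y * g⁻¹) := by group
    rw [this]
    exact Subgroup.mul_mem _ hx hy
  | inv x _ hx =>
    have : g * x⁻¹ * g⁻¹ = (g * x * g⁻¹)⁻¹ := by group
    rw [this]
    exact Subgroup.inv_mem _ hx

/-- The subgroup generated by the squares of the elements of the derived subgroup. -/
def sqSub (S : Type u) [Group S] : Subgroup S :=
  Subgroup.closure {x | ∃ s ∈ commutator S, x = s ^ 2}

instance sqSub_normal : (sqSub S).Normal := by
  apply closure_normal_of_conj
  rintro t ⟨s, hs, rfl⟩ g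
  refine ⟨g * s * g⁻¹, ?_, ?_⟩
  · exact (inferInstance : (commutator S).Normal).conj_mem s hs g
  · rw [pow_two, pow_two]; group

end Cfsg.Agent.helper7.Meta2
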