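import Mathlib
import Cfsg.Agent.S3761
import Cfsg.Agent.S0129
import Cfsg.Agent.S0016
import Cfsg.Agent.Lib_helper17_MaxClass2
import Cfsg.Agent.Lib_helper7_Meta2a

/-! A finite `2`-group which is neither cyclic nor of maximal class has a normal four-subgroup
(helper28, for S4157). -/

set_option autoImplicit false
set_option linter.style.haveILetI false
set_option linter.unusedVariables false
open scoped commutatorElement

namespace Cfsg.Agent.helper28.NF4

/-- the four-group generated by two commuting involutions -/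
def kf4 {G : Type*} [Group G] (z t : G) (hz : z * z = 1) (ht : t * t = 1) (hc : t * z = z * t) :
    Subgroup G where
  carrier := {1, z, t, z * t}
  one_mem' := by simp
  mul_mem' := by
    have e1 : z * (z * t) = t := by rw [← mul_assoc, hz, one_mul]
    have e2 : z * t * z = t := by rw [mul_assoc, hc, ← mul_assoc, hz, one_mul]
    have e3 : t * (z * t) = z := by rw [← mul_assoc, hc, mul_assoc, ht, mul_one]
    have e4 : z * t * t = z := by rw [mul_assoc, ht, mul_one]
    have e5 : z * t * (z * t) = 1 := by rw [mul_assoc, e3, hz]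
    rintro a b (rfl | rfl | rfl | rfl) (rfl | rfl | rfl | rfl) <;>
      simp [hz, ht, hc, e1, e2, e3, e4, e5]
  inv_mem' := by
    have i1 : z⁻¹ = z := inv_eq_of_mul_eq_one_left hz
    have i2 : t⁻¹ = t := inv_eq_of_mul_eq_one_left ht
    rintro a (rfl | rfl | rfl | rfl) <;> simp [i1, i2, hc]

theorem mem_kf4 {G : Type*} [Group G] (z t : G) (hz : z * z = 1) (ht : t * t = 1)
    (hc : t * z = z * t) (a : G) :
    a ∈ kf4 z t hz ht hc ↔ a = 1 ∨ a = z ∨ a = t ∨ a = z * t := Iff.rfl

theorem kf4_isKleinFour {G : Type*} [Group G] (z t : G) (hz2 : z * z = 1) (ht2 : t * t = 1)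
    (hc : t * z = z * t) (hz1 : z ≠ 1) (ht1 : t ≠ 1) (hzt : z ≠ t) :
    IsKleinFour (kf4 z t hz2 ht2 hc) := by
  refine ⟨?_, ?_⟩
  · have : Nat.card (kf4 z t hz2 ht2 hc) = ({1, z, t, z * t} : Set G).ncard := by
      rw [← Nat.card_coe_set_eq]; rfl
    rw [this]
    rw [Set.ncard_insert_of_notMem, Set.ncard_insert_of_notMem, Set.ncard_insert_of_notMem,
      Set.ncard_singleton]
    · simp only [Set.mem_singleton_iff]
      intro e
      apply hz1
      have : z * t * t = t * t := by rw [← e]
      rw [mul_assoc, ht2, mul_one] at this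
      exact this
    · simp only [Set.mem_insert_iff, Set.mem_singleton_iff]
      rintro (e | e)
      · exact hzt e
      · apply ht1
        have h2 : z * 1 = z * t := by rw [mul_one]; exact e
        exact (mul_left_cancel h2).symm
    · simp only [Set.mem_insert_iff, Set.mem_singleton_iff]
      rintro (e | e | e)
      · exact hz1 e.symm
      · exact ht1 e.symm
      · apply hzt
        have h2 : z * t = z * z := by rw [hz2]; exact e.symm
        exact (mul_left_cancel h2).symm
  · have hdvd : Monoid.exponent (kf4 z t hz2 ht2 hc) ∣ 2 := by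
      apply Monoid.exponent_dvd_of_forall_pow_eq_one
      rintro ⟨a, ha⟩
      apply Subtype.ext
      have ha' : a = 1 ∨ a = z ∨ a = t ∨ a = z * t := ha
      have e5 : z * t * (z * t) = 1 := by
        rw [mul_assoc, ← mul_assoc t, hc, mul_assoc, ht2, mul_one, hz2]
      change a ^ 2 = 1
      rcases ha' with rfl | rfl | rfl | rfl
      · simp
      · rw [pow_two, hz2]
      · rw [pow_two, ht2]
      · rw [pow_two, e5]
    rcases (Nat.dvd_prime Nat.prime_two).mp hdvd with h | h
    · exfalso
      rw [Monoid.exp_eq_one_iff] at h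
      apply hz1
      have hzm : z ∈ kf4 z t hz2 ht2 hc := by
        change z ∈ ({1, z, t, z * t} : Set G)
        simp
      have := h.elim (⟨z, hzm⟩ : kf4 z t hz2 ht2 hc) 1
      exact congrArg Subtype.val this
    · exact h

theorem mem_zpowers_invol {G : Type*} [Group G] {e x : G} (he : e * e = 1)
    (hx : x ∈ Subgroup.zpowers e) : x = 1 ∨ x = e := by
  obtain ⟨k, rfl⟩ := Subgroup.mem_zpowers_iff.mp hx
  have h2 : e ^ (2 : ℤ) = 1 := by rw [zpow_two, he]
  rcases Int.emod_two_eq_zero_or_one k with h | h
  · left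
    have hk : k = 2 * (k / 2) := by omega
    rw [hk, zpow_mul, h2, one_zpow]
  · right
    have hk : k = 2 * (k / 2) + 1 := by omega
    rw [hk, zpow_add, zpow_mul, h2, one_zpow, one_mul, zpow_one]

theorem normal_of_central {G : Type*} [Group G] (E : Subgroup G) (h : E ≤ Subgroup.center G) :
    E.Normal := by
  constructor
  intro x hx r
  have := Subgroup.mem_center_iff.mp (h hx) r
  have h2 : r * x * r⁻¹ = x := by rw [this]; group
  rw [h2]; exact hx

theorem inv_eq_pow_pred {G : Type*} [Group G] {x : G} {M : ℕ} (hM : 0 < M) (hx : x ^ M = 1) :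
    x⁻¹ = x ^ (M - 1) := by
  apply inv_eq_of_mul_eq_one_right
  rw [← pow_succ', Nat.sub_add_cancel hM, hx]

theorem pow_pred_mod_four (t : ℕ) (ht : 2 ≤ t) : (2 ^ t - 1) % 4 = 3 := by
  obtain ⟨s, rfl⟩ : ∃ s, t = s + 2 := ⟨t - 2, by omega⟩
  have h1 : 2 ^ (s + 2) = 4 * 2 ^ s := by ring
  have h2 : 1 ≤ 2 ^ s := Nat.one_le_two_pow
  omega

/-- In a finite `2`-group, a noncyclic abelian normal subgroup contains a normal four-subgroup. -/
theorem exists_of_abelian {G : Type*} [Group G] [Finite G] (hG : IsPGroup 2 G)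
    (A : Subgroup G) [hAn : A.Normal] (hA : IsMulCommutative A) (hAnc : ¬ IsCyclic A) :
    ∃ R : Subgroup G, R.Normal ∧ IsKleinFour R := by
  classical
  haveI : Fact (Nat.Prime 2) := ⟨Nat.prime_two⟩
  have hAne : A ≠ ⊥ := by
    intro h
    apply hAnc
    haveI : Subsingleton A := by rw [h]; infer_instance
    infer_instance
  obtain ⟨e, heA, hec, heo⟩ := Cfsg.Agent.helper7.Meta2.central_invol_in_normal hG A hAne
  have he2 : e * e = 1 := by rw [← pow_two, ← heo, pow_orderOf_eq_one]
  have he1 : e ≠ 1 := by intro h; rw [h, orderOf_one] at heo; omega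
  have hecomm : ∀ g : G, g * e = e * g := fun g => Subgroup.mem_center_iff.mp hec g
  -- a second involution in `A`
  have hex : ∃ w ∈ A, w * w = 1 ∧ w ≠ 1 ∧ w ≠ e := by
    by_contra hcon
    push Not at hcon
    apply hAnc
    have hA2 : IsPGroup 2 A := hG.to_subgroup A
    have key : ∀ H : Subgroup A, Nat.card H = 2 → H = Subgroup.zpowers (⟨e, heA⟩ : A) := by
      intro H hH
      have hne : H ≠ ⊥ := by intro h; rw [h, Subgroup.card_bot] at hH; omega
      obtain ⟨⟨t, htH⟩, ht1'⟩ := (Subgroup.ne_bot_iff_exists_ne_one (H := H)).mp hne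
      have ht1 : t ≠ 1 := fun h => ht1' (Subtype.ext h)
      have hto : orderOf t = 2 := by
        have hd : orderOf t ∣ 2 := by rw [← hH]; exact Subgroup.orderOf_dvd_natCard H htH
        rcases (Nat.dvd_prime Nat.prime_two).mp hd with h | h
        · exact absurd (orderOf_eq_one_iff.mp h) ht1
        · exact h
      have htt : (t : G) * (t : G) = 1 := by
        have h1 : t ^ 2 = 1 := by rw [← hto]; exact pow_orderOf_eq_one t
        have h2 := congrArg Subtype.val h1
        rw [Subgroup.coe_pow, Subgroup.coe_one, pow_two] at h2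
        exact h2
      have hte : (t : G) = e := hcon t.1 t.2 htt (fun h => ht1 (Subtype.ext h))
      have hte' : t = ⟨e, heA⟩ := Subtype.ext hte
      symm
      apply Subgroup.eq_of_le_of_card_ge
      · rw [Subgroup.zpowers_le, ← hte']; exact htH
      · rw [hH, Nat.card_zpowers, ← hte', hto]
    have huniq : ∀ H K : Subgroup A, Nat.card H = 2 → Nat.card K = 2 → H = K := by
      intro H K hH hK; rw [key H hH, key K hK]
    rcases Cfsg.Agent.S0016.result 2 hA2 huniq with h | ⟨-, n, ⟨φ⟩⟩
    · exact h
    · rcases n with _ | n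
      · haveI := QuaternionGroup.quaternionGroup_one_isCyclic
        rw [pow_zero] at φ
        exact isCyclic_of_surjective φ.symm φ.symm.surjective
      · exfalso
        have hcomm : ∀ x y : QuaternionGroup (2 ^ (n + 1)), x * y = y * x := by
          intro x y
          have h1 := hA.is_comm.comm (φ.symm x) (φ.symm y)
          have h2 := congrArg φ h1
          simpa using h2
        have h1 := hcomm (QuaternionGroup.a 1) (QuaternionGroup.xa 0)
        simp at h1
        have h2 : ((2 : ℕ) : ZMod (2 * 2 ^ (n + 1))) = 0 := by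
          push_cast
          linear_combination (-1 : ZMod (2 * 2 ^ (n + 1))) * h1
        have h3 := (ZMod.natCast_eq_zero_iff 2 (2 * 2 ^ (n + 1))).mp h2
        have h4 : 2 * 2 ^ (n + 1) ≤ 2 := Nat.le_of_dvd (by norm_num) h3
        have h5 : 2 ^ (n + 1) ≥ 2 := by
          calc 2 ^ (n + 1) ≥ 2 ^ 1 := Nat.pow_le_pow_right (by norm_num) (by omega)
            _ = 2 := by norm_num
        omega
  obtain ⟨w, hwA, hw2, hw1, hwe⟩ := hex
  -- the subgroup of elements of `A` of order dividing `2`
  let W : Subgroup G :=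
    { carrier := {a | a ∈ A ∧ a * a = 1}
      one_mem' := ⟨A.one_mem, mul_one 1⟩
      mul_mem' := by
        rintro a b ⟨ha, ha2⟩ ⟨hb, hb2⟩
        refine ⟨A.mul_mem ha hb, ?_⟩
        have hc : a * b = b * a := congrArg Subtype.val (hA.is_comm.comm ⟨a, ha⟩ ⟨b, hb⟩)
        calc a * b * (a * b) = a * (b * a) * b := by group
          _ = a * (a * b) * b := by rw [hc]
          _ = (a * a) * (b * b) := by group
          _ = 1 := by rw [ha2, hb2, one_mul]
      inv_mem' := by
        rintro a ⟨ha, ha2⟩
        exact ⟨A.inv_mem ha, by rw [← mul_inv_rev, ha2, inv_one]⟩ }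
  have hWmem : ∀ a : G, a ∈ W ↔ a ∈ A ∧ a * a = 1 := fun a => Iff.rfl
  haveI hWn : W.Normal := by
    constructor
    intro a ha g
    obtain ⟨ha1, ha2⟩ := (hWmem a).mp ha
    refine (hWmem _).mpr ⟨hAn.conj_mem a ha1 g, ?_⟩
    calc g * a * g⁻¹ * (g * a * g⁻¹) = g * (a * a) * g⁻¹ := by group
      _ = 1 := by rw [ha2]; group
  have hE1c : Subgroup.zpowers e ≤ Subgroup.center G := by
    rw [Subgroup.zpowers_le]; exact hec
  haveI hE1n : (Subgroup.zpowers e).Normal := normal_of_central _ hE1c
  have hπs : Function.Surjective (QuotientGroup.mk' (Subgroup.zpowers e)) :=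
    QuotientGroup.mk'_surjective _
  have hQ : IsPGroup 2 (G ⧸ Subgroup.zpowers e) := hG.to_quotient _
  haveI hWbn : (W.map (QuotientGroup.mk' (Subgroup.zpowers e))).Normal := hWn.map _ hπs
  have hwW : w ∈ W := (hWmem w).mpr ⟨hwA, hw2⟩
  have hWb : W.map (QuotientGroup.mk' (Subgroup.zpowers e)) ≠ ⊥ := by
    intro h
    have h1 : QuotientGroup.mk' (Subgroup.zpowers e) w ∈
        W.map (QuotientGroup.mk' (Subgroup.zpowers e)) := Subgroup.mem_map_of_mem _ hwW
    rw [h, Subgroup.mem_bot] at h1
    have h2 : w ∈ Subgroup.zpowers e := (QuotientGroup.eq_one_iff w).mp h1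
    rcases mem_zpowers_invol he2 h2 with h3 | h3
    · exact hw1 h3
    · exact hwe h3
  obtain ⟨fb, hfbW, hfbc, hfbo⟩ :=
    Cfsg.Agent.helper7.Meta2.central_invol_in_normal hQ
      (W.map (QuotientGroup.mk' (Subgroup.zpowers e))) hWb
  obtain ⟨f, hfW, rfl⟩ := Subgroup.mem_map.mp hfbW
  have hf2 : f * f = 1 := ((hWmem f).mp hfW).2
  have hfE : f ∉ Subgroup.zpowers e := by
    intro h
    have h1 : QuotientGroup.mk' (Subgroup.zpowers e) f = 1 := (QuotientGroup.eq_one_iff f).mpr h
    rw [h1, orderOf_one] at hfbo; omega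
  have hf1 : f ≠ 1 := fun h => hfE (h ▸ (Subgroup.zpowers e).one_mem)
  have hfe : f ≠ e := fun h => hfE (h ▸ Subgroup.mem_zpowers e)
  have hc : f * e = e * f := hecomm f
  have hconj : ∀ g : G, g * f * g⁻¹ = f ∨ g * f * g⁻¹ = e * f := by
    intro g
    have h1 := Subgroup.mem_center_iff.mp hfbc (QuotientGroup.mk' (Subgroup.zpowers e) g)
    have h2 : QuotientGroup.mk' (Subgroup.zpowers e) (f⁻¹ * (g * f * g⁻¹)) = 1 := by
      simp only [map_mul, map_inv]
      rw [h1]; group
    have h3 : f⁻¹ * (g * f * g⁻¹) ∈ Subgroup.zpowers e := (QuotientGroup.eq_one_iff _).mp h2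
    rcases mem_zpowers_invol he2 h3 with h | h
    · left
      have h4 : f * (f⁻¹ * (g * f * g⁻¹)) = f * 1 := by rw [h]
      rw [mul_inv_cancel_left, mul_one] at h4
      exact h4
    · right
      have h4 : f * (f⁻¹ * (g * f * g⁻¹)) = f * e := by rw [h]
      rw [mul_inv_cancel_left] at h4
      rw [h4, hc]
  have hge : ∀ g : G, g * e * g⁻¹ = e := by
    intro g
    rw [hecomm g, mul_assoc, mul_inv_cancel, mul_one]
  refine ⟨kf4 e f he2 hf2 hc, ?_, kf4_isKleinFour e f he2 hf2 hc he1 hf1 (Ne.symm hfe)⟩
  constructor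
  intro x hx g
  rw [mem_kf4] at hx ⊢
  rcases hx with rfl | rfl | rfl | rfl
  · left; group
  · right; left; exact hge g
  · rcases hconj g with h | h
    · right; right; left; exact h
    · right; right; right; exact h
  · have h5 : g * (e * f) * g⁻¹ = (g * e * g⁻¹) * (g * f * g⁻¹) := by group
    rw [h5, hge g]
    rcases hconj g with h | h
    · right; right; right; rw [h]
    · right; right; left; rw [h, ← mul_assoc, he2, one_mul]

/-- A `2`-group of order `2^(N+1)` with an element `a` of order `2^N` and `b a b⁻¹ = a^j`,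
`j ≡ 3 mod 4`, has derived subgroup of index `4`. -/
theorem index_commutator_eq_four {G : Type*} [Group G] [Finite G] (N : ℕ) (hN : 2 ≤ N)
    (hG : Nat.card G = 2 ^ (N + 1)) (a b : G) (ha : orderOf a = 2 ^ N) (j : ℕ) (hj : j % 4 = 3)
    (hrel : b * a * b⁻¹ = a ^ j) : (commutator G).index = 4 := by
  haveI : Fact (Nat.Prime 2) := ⟨Nat.prime_two⟩
  have hP : IsPGroup 2 G := IsPGroup.of_card hG
  have hc : a ^ (j - 1) ∈ commutator G := by
    have h1 : ⁅b, a⁆ ∈ commutator G := by
      rw [commutator_def]
      exact Subgroup.commutator_mem_commutator (Subgroup.mem_top b) (Subgroup.mem_top a)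
    have h2 : ⁅b, a⁆ = a ^ (j - 1) := by
      rw [commutatorElement_def, hrel]
      have hj1 : j = (j - 1) + 1 := by omega
      conv_lhs => rw [hj1, pow_succ]
      rw [mul_assoc, mul_inv_cancel, mul_one]
    rw [← h2]; exact h1
  have hord : orderOf (a ^ (j - 1)) = 2 ^ (N - 1) := by
    rw [orderOf_pow' _ (by omega : j - 1 ≠ 0), ha]
    obtain ⟨q, hq⟩ : ∃ q, j - 1 = 2 * (2 * q + 1) := ⟨j / 4, by omega⟩
    obtain ⟨t, rfl⟩ : ∃ t, N = t + 1 := ⟨N - 1, by omega⟩
    have hcop : Nat.Coprime (2 ^ t) (2 * q + 1) := by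
      apply Nat.Coprime.pow_left
      rw [Nat.Prime.coprime_iff_not_dvd Nat.prime_two]
      omega
    have hg : Nat.gcd (2 ^ (t + 1)) (j - 1) = 2 := by
      rw [hq, pow_succ, mul_comm (2 ^ t) 2, Nat.gcd_mul_left, hcop.gcd_eq_one, mul_one]
    rw [hg, Nat.add_sub_cancel, pow_succ, Nat.mul_div_cancel _ (by norm_num : 0 < 2)]
  have hdvd : 2 ^ (N - 1) ∣ Nat.card (commutator G) := by
    rw [← hord]; exact Subgroup.orderOf_dvd_natCard _ hc
  have hmul := (commutator G).card_mul_index
  rw [hG] at hmul
  have hidx_dvd : (commutator G).index ∣ 2 ^ (N + 1) := Dvd.intro_left _ hmul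
  have hcard_dvd : Nat.card (commutator G) ∣ 2 ^ (N + 1) := Dvd.intro _ hmul
  obtain ⟨s, hs, hsidx⟩ := (Nat.dvd_prime_pow Nat.prime_two).mp hidx_dvd
  obtain ⟨u, hu, hucard⟩ := (Nat.dvd_prime_pow Nat.prime_two).mp hcard_dvd
  rw [hsidx, hucard, ← pow_add] at hmul
  have hus : u + s = N + 1 := Nat.pow_right_injective (le_refl 2) hmul
  have huN : N - 1 ≤ u := by
    rw [hucard] at hdvd
    exact (Nat.pow_dvd_pow_iff_le_right (by norm_num)).mp hdvd
  have hs2 : s ≤ 2 := by omega
  have hne : commutator G ≠ ⊥ := by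
    intro h
    rw [h, Subgroup.mem_bot] at hc
    have h1 : orderOf (a ^ (j - 1)) = 1 := by rw [hc, orderOf_one]
    rw [hord] at h1
    have h2 : 2 ^ (N - 1) ≥ 2 := by
      calc 2 ^ (N - 1) ≥ 2 ^ 1 := Nat.pow_le_pow_right (by norm_num) (by omega)
        _ = 2 := by norm_num
    omega
  have hncyc := Cfsg.Agent.helper17.MC2.not_isCyclic_abelianization hP hne
  have hcardq : Nat.card (G ⧸ commutator G) = 2 ^ s := by
    rw [← Subgroup.index_eq_card, hsidx]
  rw [hsidx]
  interval_cases s
  · exfalso
    apply hncyc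
    haveI : Subsingleton (G ⧸ commutator G) :=
      (Nat.card_eq_one_iff_unique.mp (by simpa using hcardq)).1
    infer_instance
  · exfalso
    apply hncyc
    exact isCyclic_of_prime_card (p := 2) (by simpa using hcardq)
  · norm_num

/-- **Main result**: a finite `2`-group that is neither cyclic nor of maximal class has a normal
four-subgroup. -/
theorem exists_normal_kleinFour {G : Type*} [Group G] [Finite G] (m : ℕ)
    (hG : Nat.card G = 2 ^ m) (hnc : ¬ IsCyclic G) (hcl : Group.nilpotencyClass G ≠ m - 1) :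
    ∃ R : Subgroup G, R.Normal ∧ IsKleinFour R := by
  classical
  haveI : Fact (Nat.Prime 2) := ⟨Nat.prime_two⟩
  have hP : IsPGroup 2 G := IsPGroup.of_card hG
  have htopc : ∀ (T : Subgroup G), T = ⊤ → IsCyclic T → IsCyclic G := by
    intro T hT h2
    subst hT
    obtain ⟨⟨g, hg⟩, hgen⟩ := h2.exists_generator
    refine ⟨⟨g, fun x => ?_⟩⟩
    have h3 := hgen ⟨x, Subgroup.mem_top x⟩
    obtain ⟨k, hk⟩ := Subgroup.mem_zpowers_iff.mp h3
    exact ⟨k, by have h4 := congrArg Subtype.val hk; simpa using h4⟩
  by_cases hab : IsMulCommutative G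
  · have h1 : IsMulCommutative (⊤ : Subgroup G) :=
      ⟨⟨fun a b => Subtype.ext (hab.is_comm.comm a.1 b.1)⟩⟩
    exact exists_of_abelian hP ⊤ h1 (fun h => hnc (htopc ⊤ rfl h))
  · have hbot : IsMulCommutative (⊥ : Subgroup G) := ⟨⟨fun a b => by
      have ha := Subgroup.mem_bot.mp a.2
      have hb := Subgroup.mem_bot.mp b.2
      exact Subtype.ext (by rw [Subgroup.coe_mul, Subgroup.coe_mul, ha, hb])⟩⟩
    obtain ⟨U, -, hUmax⟩ := Finite.exists_le_maximal (α := Subgroup G)
      (p := fun A => A.Normal ∧ IsMulCommutative A) (a := ⊥) ⟨inferInstance, hbot⟩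
    obtain ⟨⟨hUn, hUab⟩, hUmax'⟩ := hUmax
    haveI := hUn
    by_cases hUc : IsCyclic U
    · have hCU := Cfsg.Agent.S0129.centralizer_eq hP U hUab
        (fun B' hB'n hB'ab hle => le_antisymm (hUmax' ⟨hB'n, hB'ab⟩ hle) hle)
      obtain ⟨k, hk⟩ := IsPGroup.iff_card.mp (hP.to_subgroup U)
      rcases Cfsg.Agent.S3761.result hP hab U hUc k hk hCU with
        ⟨-, hcard, hstr⟩ | ⟨-, hEA, hcardΩ, hchar⟩
      · exfalso
        have hm : m = k + 1 := Nat.pow_right_injective (le_refl 2) (hG.symm.trans hcard)
        have hk2 : 2 ≤ k := by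
          by_contra hlt
          have hk01 : k = 0 ∨ k = 1 := by omega
          rcases hk01 with h0 | h1
          · apply hnc
            rw [h0] at hcard
            exact isCyclic_of_prime_card (p := 2) (by simpa using hcard)
          · apply hab
            rw [h1] at hcard
            exact IsPGroup.isMulCommutative_of_card_eq_prime_sq (p := 2) (G := G)
              (by simpa using hcard)
        apply hcl
        have hidx : (commutator G).index = 4 := by
          rcases hstr with ⟨n', ⟨φ⟩⟩ | ⟨n', ⟨φ⟩⟩ | hqd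
          · -- dihedral
            have h1 : Nat.card G = Nat.card (DihedralGroup n') := Nat.card_congr φ.toEquiv
            rw [hcard, DihedralGroup.nat_card, pow_succ] at h1
            have hn' : n' = 2 ^ k := by omega
            have hao : orderOf (φ.symm (DihedralGroup.r 1)) = 2 ^ k := by
              rw [MulEquiv.orderOf_eq, DihedralGroup.orderOf_r_one, hn']
            refine index_commutator_eq_four k hk2 hcard (φ.symm (DihedralGroup.r 1))
              (φ.symm (DihedralGroup.sr 0)) hao (2 ^ k - 1) (pow_pred_mod_four k hk2) ?_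
            rw [← inv_eq_pow_pred (Nat.pos_of_ne_zero (by positivity))
              (by rw [← hao]; exact pow_orderOf_eq_one _)]
            rw [← map_inv, ← map_mul, ← map_mul, ← map_inv]
            congr 1
            simp
          · -- quaternion
            have hn0 : n' ≠ 0 := by
              intro h
              subst h
              have h1 := orderOf_pos (φ.symm (QuaternionGroup.a 1))
              rw [MulEquiv.orderOf_eq, QuaternionGroup.orderOf_a_one] at h1
              omega
            haveI : NeZero n' := ⟨hn0⟩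
            have h1 : Nat.card G = Nat.card (QuaternionGroup n') := Nat.card_congr φ.toEquiv
            rw [hcard, Nat.card_eq_fintype_card, QuaternionGroup.card, pow_succ] at h1
            have hao : orderOf (φ.symm (QuaternionGroup.a 1)) = 2 ^ k := by
              rw [MulEquiv.orderOf_eq, QuaternionGroup.orderOf_a_one]
              omega
            refine index_commutator_eq_four k hk2 hcard (φ.symm (QuaternionGroup.a 1))
              (φ.symm (QuaternionGroup.xa 0)) hao (2 ^ k - 1) (pow_pred_mod_four k hk2) ?_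
            rw [← inv_eq_pow_pred (Nat.pos_of_ne_zero (by positivity))
              (by rw [← hao]; exact pow_orderOf_eq_one _)]
            rw [← map_inv, ← map_mul, ← map_mul, ← map_inv]
            congr 1
            rw [mul_inv_eq_iff_eq_mul, eq_inv_mul_iff_mul_eq]
            simp
          · -- quasi-dihedral
            obtain ⟨n₁, hn₁, hc₁, x, y, hx, hy, hxy⟩ := hqd
            have hk1 : k = n₁ := by
              have := Nat.pow_right_injective (le_refl 2) (hcard.symm.trans hc₁)
              omega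
            subst hk1
            exact index_commutator_eq_four k hk2 hcard x y hx (2 ^ (k - 1) - 1)
              (pow_pred_mod_four (k - 1) (by omega)) hxy
        have hcls := Cfsg.Agent.helper17.MC2.class_eq (k + 1) G (by omega) hcard hidx
        rw [hcls, hm]
      · haveI := hchar
        refine ⟨Cfsg.omegaOne 2 (Subgroup.centralizer (Cfsg.powerClosure 2 1 U : Set G)),
          inferInstance, ?_⟩
        apply Cfsg.Agent.helper17.MC2.isKleinFour_of_card_four
        · rw [hcardΩ]; norm_num
        · intro hWcyc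
          obtain ⟨g, hg⟩ := hWcyc.exists_generator
          have hord : orderOf g = 2 ^ 2 := by
            rw [← hcardΩ]; exact orderOf_eq_card_of_forall_mem_zpowers hg
          have hgp : g ^ 2 = 1 := by
            have h1 := hEA.2 g.1 g.2
            exact Subtype.ext (by rw [Subgroup.coe_pow, h1, Subgroup.coe_one])
          have h1 := orderOf_dvd_of_pow_eq_one hgp
          rw [hord] at h1
          have h2 := Nat.le_of_dvd (by norm_num) h1
          omega
    · exact exists_of_abelian hP U hUab hUc

end Cfsg.Agent.helper28.NF4
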