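import Mathlib

set_option autoImplicit false

namespace Cfsg.Agent.helper28.OT

/-- number of solutions of `x ^ n = 1` -/
noncomputable def F (A : Type) [Group A] (n : ℕ) : ℕ := Nat.card {x : A // x ^ n = 1}

/-- computable version -/
def Fc (A : Type) [Group A] [Fintype A] [DecidableEq A] (n : ℕ) : ℕ :=
  (Finset.univ.filter (fun x : A => x ^ n = 1)).card

theorem F_eq_Fc (A : Type) [Group A] [Fintype A] [DecidableEq A] (n : ℕ) : F A n = Fc A n := by
  unfold F Fc
  rw [Nat.card_eq_fintype_card, Fintype.card_subtype]

theorem F_prod (A B : Type) [Group A] [Group B] (n : ℕ) : F (A × B) n = F A n * F B n := by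
  unfold F
  rw [← Nat.card_prod]
  apply Nat.card_congr
  refine (Equiv.subtypeEquivRight (fun x => ?_)).trans
    (Equiv.subtypeProdEquivProd (p := fun a : A => a ^ n = 1) (q := fun b : B => b ^ n = 1))
  rw [Prod.ext_iff]
  rfl

theorem F_pi (ι A : Type) [Finite ι] [Group A] (n : ℕ) :
    F (ι → A) n = F A n ^ Nat.card ι := by
  unfold F
  rw [← Nat.card_fun]
  apply Nat.card_congr
  refine (Equiv.subtypeEquivRight (fun x => ?_)).trans
    (Equiv.subtypePiEquivPi (β := fun _ : ι => A) (p := fun _ b => b ^ n = 1))
  rw [funext_iff]
  rfl

theorem F_gcd (A : Type) [Group A] (E : ℕ) (hE : ∀ x : A, x ^ E = 1) (n : ℕ) :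
    F A n = F A (Nat.gcd n E) := by
  unfold F
  apply Nat.card_congr
  refine Equiv.subtypeEquivRight (fun x => ?_)
  rw [← orderOf_dvd_iff_pow_eq_one, ← orderOf_dvd_iff_pow_eq_one]
  constructor
  · intro h
    exact Nat.dvd_gcd h (orderOf_dvd_iff_pow_eq_one.2 (hE x))
  · intro h
    exact h.trans (Nat.gcd_dvd_left n E)

theorem pow_prod {A B : Type} [Group A] [Group B] (E : ℕ) (hA : ∀ x : A, x ^ E = 1)
    (hB : ∀ x : B, x ^ E = 1) : ∀ x : A × B, x ^ E = 1 := by
  intro x
  ext
  · simp [hA]
  · simp [hB]

theorem pow_pi {ι A : Type} [Group A] (E : ℕ) (hA : ∀ x : A, x ^ E = 1) :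
    ∀ x : ι → A, x ^ E = 1 := by
  intro x
  funext i
  simp [hA]

theorem count_eq_of_F_eq (G H : Type) [Group G] [Group H] [Finite G] [Finite H]
    (h : ∀ n, F G n = F H n) (n : ℕ) :
    Nat.card {g : G // orderOf g = n} = Nat.card {g : H // orderOf g = n} := by
  classical
  haveI := Fintype.ofFinite G
  haveI := Fintype.ofFinite H
  induction n using Nat.strong_induction_on with
  | _ n ih =>
    rcases Nat.eq_zero_or_pos n with rfl | hn
    · haveI hG : IsEmpty {g : G // orderOf g = 0} := ⟨fun x => (orderOf_pos x.1).ne' x.2⟩
      haveI hH : IsEmpty {g : H // orderOf g = 0} := ⟨fun x => (orderOf_pos x.1).ne' x.2⟩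
      rw [Nat.card_of_isEmpty, Nat.card_of_isEmpty]
    · have e1 := sum_card_orderOf_eq_card_pow_eq_one (G := G) hn.ne'
      have e2 := sum_card_orderOf_eq_card_pow_eq_one (G := H) hn.ne'
      have hF := h n
      rw [F_eq_Fc, F_eq_Fc] at hF
      unfold Fc at hF
      have hmem : n ∈ n.divisors := Nat.mem_divisors_self n hn.ne'
      rw [← Finset.add_sum_erase _ _ hmem] at e1 e2
      have hrest : ∑ m ∈ n.divisors.erase n,
            (Finset.univ.filter fun x : G => orderOf x = m).card
          = ∑ m ∈ n.divisors.erase n,
            (Finset.univ.filter fun x : H => orderOf x = m).card := by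
        apply Finset.sum_congr rfl
        intro m hm
        have hm1 := Finset.ne_of_mem_erase hm
        have hm2 := Finset.mem_of_mem_erase hm
        have hlt : m < n := lt_of_le_of_ne (Nat.divisor_le hm2) hm1
        have := ih m hlt
        rw [Nat.card_eq_fintype_card, Nat.card_eq_fintype_card, Fintype.card_subtype,
          Fintype.card_subtype] at this
        exact this
      rw [Nat.card_eq_fintype_card, Nat.card_eq_fintype_card, Fintype.card_subtype,
        Fintype.card_subtype]
      omega

instance semidirect_solvable {N Q : Type} [Group N] [Group Q] (φ : Q →* MulAut N)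
    [Group.IsSolvable N] [Group.IsSolvable Q] : Group.IsSolvable (N ⋊[φ] Q) :=
  Group.isSolvable_of_ker_le_range (SemidirectProduct.inl) (SemidirectProduct.rightHom)
    (by rw [SemidirectProduct.range_inl_eq_ker_rightHom])

theorem derivedSeries_pi_le (ι A : Type) [Group A] (n : ℕ) :
    derivedSeries (ι → A) n ≤ Subgroup.pi Set.univ (fun _ => derivedSeries A n) := by
  induction n with
  | zero =>
    intro x _
    simp [Subgroup.mem_pi]
  | succ n ih =>
    rw [derivedSeries_succ, derivedSeries_succ]
    exact (Subgroup.commutator_mono ih ih).trans (Subgroup.commutator_pi_pi_le _ _)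

instance pi_solvable (ι A : Type) [Group A] [hA : Group.IsSolvable A] :
    Group.IsSolvable (ι → A) := by
  obtain ⟨n, hn⟩ := hA
  refine ⟨⟨n, ?_⟩⟩
  rw [eq_bot_iff]
  intro x hx
  have := derivedSeries_pi_le ι A n hx
  rw [Subgroup.mem_pi] at this
  rw [Subgroup.mem_bot]
  funext i
  have hi := this i (Set.mem_univ i)
  rw [hn, Subgroup.mem_bot] at hi
  exact hi

/-- build an action hom from a function with (decidable) hypotheses -/
def mkAct {N Q : Type} [Group N] [Group Q] (act : Q → N → N)
    (h1 : ∀ n, act 1 n = n) (hm : ∀ q q' n, act (q * q') n = act q (act q' n))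
    (hN : ∀ q n n', act q (n * n') = act q n * act q n') : Q →* MulAut N where
  toFun q :=
    { toFun := act q
      invFun := act q⁻¹
      left_inv := fun n => by rw [← hm, inv_mul_cancel, h1]
      right_inv := fun n => by rw [← hm, mul_inv_cancel, h1]
      map_mul' := hN q }
  map_one' := by
    ext n
    exact h1 n
  map_mul' q q' := by
    ext n
    exact hm q q' n

instance semidirect_fintype {N Q : Type} [Group N] [Group Q] (φ : Q →* MulAut N)
    [Fintype N] [Fintype Q] : Fintype (N ⋊[φ] Q) :=
  Fintype.ofEquiv (N × Q) SemidirectProduct.equivProd.symm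

/-- non-solvability from counting: for each prime `p` dividing the order there is `m` coprime
to `p` such that more than half of the elements satisfy `x ^ m = 1`. -/
theorem not_solvable_of_counts (X : Type) [Group X] [Finite X] [Nontrivial X]
    (h : ∀ p : ℕ, p.Prime → p ∣ Nat.card X → ∃ m, m.Coprime p ∧ Nat.card X < 2 * F X m) :
    ¬ Group.IsSolvable X := by
  intro hs
  have hlt := Group.IsSolvable.commutator_lt_top_of_nontrivial X
  haveI : Nontrivial (Abelianization X) := by
    by_contra hnt
    rw [not_nontrivial_iff_subsingleton] at hnt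
    exact hlt.ne (QuotientGroup.subgroup_eq_top_of_subsingleton (commutator X) hnt)
  haveI : Finite (Abelianization X) := by
    unfold Abelianization
    infer_instance
  have hπ : Function.Surjective (Abelianization.of : X →* Abelianization X) :=
    fun y => QuotientGroup.induction_on y (fun x => ⟨x, rfl⟩)
  have ha1 : Nat.card (Abelianization X) ≠ 1 := by
    have := (Finite.one_lt_card_iff_nontrivial (α := Abelianization X)).mpr inferInstance
    omega
  have hp : (Nat.card (Abelianization X)).minFac.Prime := Nat.minFac_prime ha1
  have hpa : (Nat.card (Abelianization X)).minFac ∣ Nat.card (Abelianization X) :=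
    Nat.minFac_dvd _
  have hpX : (Nat.card (Abelianization X)).minFac ∣ Nat.card X :=
    hpa.trans (Subgroup.card_quotient_dvd_card (commutator X))
  obtain ⟨m, hm, hcount⟩ := h _ hp hpX
  haveI : Fact (Nat.card (Abelianization X)).minFac.Prime := ⟨hp⟩
  obtain ⟨a0, ha0⟩ := exists_prime_orderOf_dvd_card' (G := Abelianization X) _ hpa
  have hψ : (powMonoidHom (Nat.card (Abelianization X)).minFac :
      Abelianization X →* Abelianization X).range ≠ ⊤ := by
    intro htop
    have hsurj : Function.Surjective (powMonoidHom (Nat.card (Abelianization X)).minFac :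
      Abelianization X →* Abelianization X) := MonoidHom.range_eq_top.mp htop
    have hinj := (Finite.injective_iff_surjective).mpr hsurj
    have h1 : (powMonoidHom (Nat.card (Abelianization X)).minFac :
        Abelianization X →* Abelianization X) a0
        = (powMonoidHom (Nat.card (Abelianization X)).minFac :
        Abelianization X →* Abelianization X) 1 := by
      rw [powMonoidHom_apply, powMonoidHom_apply, one_pow, ← ha0, pow_orderOf_eq_one]
    have h2 := hinj h1
    rw [h2, orderOf_one] at ha0
    exact hp.one_lt.ne ha0
  have hK : ((powMonoidHom (Nat.card (Abelianization X)).minFac :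
      Abelianization X →* Abelianization X).range.comap
        (Abelianization.of : X →* Abelianization X)) ≠ ⊤ := by
    intro htop
    apply hψ
    rw [eq_top_iff]
    intro y _
    obtain ⟨x, rfl⟩ := hπ y
    have : x ∈ ((powMonoidHom (Nat.card (Abelianization X)).minFac :
      Abelianization X →* Abelianization X).range.comap
        (Abelianization.of : X →* Abelianization X)) := htop ▸ Subgroup.mem_top x
    exact this
  have hsub : ∀ x : X, x ^ m = 1 → x ∈ ((powMonoidHom (Nat.card (Abelianization X)).minFac :
      Abelianization X →* Abelianization X).range.comap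
        (Abelianization.of : X →* Abelianization X)) := by
    intro x hx
    rw [Subgroup.mem_comap]
    have h1 : (Abelianization.of x) ^ m = 1 := by rw [← map_pow, hx, map_one]
    have hcop : (Nat.card (Abelianization X)).minFac.Coprime (orderOf (Abelianization.of x)) :=
      (Nat.Coprime.coprime_dvd_left (orderOf_dvd_of_pow_eq_one h1) hm).symm
    obtain ⟨s, hs⟩ := exists_pow_eq_self_of_coprime hcop
    refine ⟨(Abelianization.of x) ^ s, ?_⟩
    rw [powMonoidHom_apply, ← pow_mul, mul_comm, pow_mul]
    exact hs
  have hle : F X m ≤ Nat.card ((powMonoidHom (Nat.card (Abelianization X)).minFac :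
      Abelianization X →* Abelianization X).range.comap
        (Abelianization.of : X →* Abelianization X)) := by
    unfold F
    apply Nat.card_le_card_of_injective (fun x => ⟨x.1, hsub x.1 x.2⟩)
    intro x y hxy
    simpa [Subtype.ext_iff] using hxy
  have hidx : 2 ≤ ((powMonoidHom (Nat.card (Abelianization X)).minFac :
      Abelianization X →* Abelianization X).range.comap
        (Abelianization.of : X →* Abelianization X)).index := by
    have h1 : ((powMonoidHom (Nat.card (Abelianization X)).minFac :
      Abelianization X →* Abelianization X).range.comap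
        (Abelianization.of : X →* Abelianization X)).index ≠ 1 :=
      fun h => hK (Subgroup.index_eq_one.mp h)
    have h0 : ((powMonoidHom (Nat.card (Abelianization X)).minFac :
      Abelianization X →* Abelianization X).range.comap
        (Abelianization.of : X →* Abelianization X)).index ≠ 0 := Subgroup.index_ne_zero_of_finite
    omega
  have hmul := Subgroup.card_mul_index ((powMonoidHom (Nat.card (Abelianization X)).minFac :
      Abelianization X →* Abelianization X).range.comap
        (Abelianization.of : X →* Abelianization X))
  have h2 : 2 * Nat.card ((powMonoidHom (Nat.card (Abelianization X)).minFac :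
      Abelianization X →* Abelianization X).range.comap
        (Abelianization.of : X →* Abelianization X)) ≤ Nat.card X := by
    rw [← hmul, mul_comm]
    exact Nat.mul_le_mul_left _ hidx
  omega

end Cfsg.Agent.helper28.OT
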