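import Cfsg.Agent.Lib_helper28_OT1

set_option autoImplicit false
namespace Cfsg.Agent.helper28.OT

/-- third point on the Fano line through two distinct points (points `i ↔ i+1 ∈ F_2^3 \ 0`) -/
def fop (a b : Fin 7) : Fin 7 := ⟨(((a.val + 1) ^^^ (b.val + 1)) + 6) % 7, Nat.mod_lt _ (by norm_num)⟩

/-- `GL(3,2)` as the group of collineations of the Fano plane -/
def XS : Subgroup (Equiv.Perm (Fin 7)) where
  carrier := {σ | ∀ a b : Fin 7, a ≠ b → σ (fop a b) = fop (σ a) (σ b)}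
  one_mem' := by
    intro a b _
    rfl
  mul_mem' := by
    intro σ τ hσ hτ a b hab
    show σ (τ (fop a b)) = fop (σ (τ a)) (σ (τ b))
    rw [hτ a b hab, hσ (τ a) (τ b) (fun h => hab (τ.injective h))]
  inv_mem' := by
    intro σ hσ a b hab
    have h := hσ (σ⁻¹ a) (σ⁻¹ b) (fun h => hab ((σ⁻¹).injective h))
    have e1 : σ (σ⁻¹ a) = a := by simp
    have e2 : σ (σ⁻¹ b) = b := by simp
    rw [e1, e2] at h
    apply σ.injective
    rw [h]
    simp

abbrev X := ↥XS

/-- valid triples: images of the three base points `0, 1, 3` -/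
def validT (t : Fin 7 × Fin 7 × Fin 7) : Prop :=
  t.1 ≠ t.2.1 ∧ t.2.2 ≠ t.1 ∧ t.2.2 ≠ t.2.1 ∧ t.2.2 ≠ fop t.1 t.2.1

instance : DecidablePred validT := fun t => by unfold validT; infer_instance

abbrev TT := {t : Fin 7 × Fin 7 × Fin 7 // validT t}

/-- the collineation determined by a triple -/
def gT (t : Fin 7 × Fin 7 × Fin 7) (a : Fin 7) : Fin 7 :=
  match a with
  | 0 => t.1
  | 1 => t.2.1
  | 2 => fop t.1 t.2.1
  | 3 => t.2.2
  | 4 => fop t.1 t.2.2
  | 5 => fop t.2.1 t.2.2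
  | 6 => fop (fop t.1 t.2.1) t.2.2

theorem gT_bij : ∀ t : TT, Function.Bijective (gT t.1) := by decide +kernel

theorem gT_col : ∀ t : TT, ∀ a b : Fin 7, a ≠ b → gT t.1 (fop a b) = fop (gT t.1 a) (gT t.1 b) := by
  decide +kernel

noncomputable def toX (t : TT) : X :=
  ⟨Equiv.ofBijective (gT t.1) (gT_bij t), fun a b hab => gT_col t a b hab⟩

theorem toX_apply (t : TT) (a : Fin 7) : (toX t).1 a = gT t.1 a := rfl

theorem fop_facts : fop 0 1 = 2 ∧ fop 0 3 = 4 ∧ fop 1 3 = 5 ∧ fop 2 3 = 6 := by decide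

def ofX (σ : X) : TT :=
  ⟨(σ.1 0, σ.1 1, σ.1 3), by
    have hσ := σ.2
    refine ⟨fun h => absurd (σ.1.injective h) (by decide),
      fun h => absurd (σ.1.injective h) (by decide),
      fun h => absurd (σ.1.injective h) (by decide), ?_⟩
    show σ.1 3 ≠ fop (σ.1 0) (σ.1 1)
    rw [← hσ 0 1 (by decide), fop_facts.1]
    exact fun h => absurd (σ.1.injective h) (by decide)⟩

noncomputable def equivX : TT ≃ X where
  toFun := toX
  invFun := ofX
  left_inv t := by
    apply Subtype.ext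
    rfl
  right_inv σ := by
    apply Subtype.ext
    apply Equiv.ext
    intro a
    rw [toX_apply]
    have hσ := σ.2
    have h01 := hσ 0 1 (by decide)
    have h03 := hσ 0 3 (by decide)
    have h13 := hσ 1 3 (by decide)
    have h23 := hσ 2 3 (by decide)
    rw [fop_facts.1] at h01
    rw [fop_facts.2.1] at h03
    rw [fop_facts.2.2.1] at h13
    rw [fop_facts.2.2.2] at h23
    fin_cases a
    · rfl
    · rfl
    · exact h01.symm
    · rfl
    · exact h03.symm
    · exact h13.symm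
    · show fop (fop (σ.1 0) (σ.1 1)) (σ.1 3) = σ.1 6
      rw [← h01, ← h23]

noncomputable instance : Fintype X := Fintype.ofEquiv TT equivX

set_option maxRecDepth 100000 in
theorem fvX : (Fc X 1 = 1 ∧ Fc X 2 = 22 ∧ Fc X 3 = 57 ∧ Fc X 4 = 64 ∧ Fc X 6 = 78 ∧ Fc X 7 = 49
    ∧ Fc X 12 = 120 ∧ Fc X 14 = 70 ∧ Fc X 21 = 105 ∧ Fc X 28 = 112 ∧ Fc X 42 = 126 ∧ Fc X 84 = 168)
    ∧ (∀ x : X, x ^ 84 = 1) := by decide +kernel

end Cfsg.Agent.helper28.OT
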