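import Cfsg.Agent.Lib_helper28_OT1

set_option autoImplicit false
namespace Cfsg.Agent.helper28.OT

abbrev G1 := Multiplicative (ZMod 2)

set_option maxRecDepth 100000 in
theorem fv1 : (Fc G1 1 = 1 ∧ Fc G1 2 = 2 ∧ Fc G1 3 = 1 ∧ Fc G1 4 = 2 ∧ Fc G1 6 = 2 ∧ Fc G1 7 = 1 ∧ Fc G1 12 = 2 ∧ Fc G1 14 = 2 ∧ Fc G1 21 = 1 ∧ Fc G1 28 = 2 ∧ Fc G1 42 = 2 ∧ Fc G1 84 = 2)
    ∧ (∀ x : G1, x ^ 84 = 1) := by decide +kernel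

theorem Fv1_1 : F G1 1 = 1 := by rw [F_eq_Fc]; exact fv1.1.1
theorem Fv1_2 : F G1 2 = 2 := by rw [F_eq_Fc]; exact fv1.1.2.1
theorem Fv1_3 : F G1 3 = 1 := by rw [F_eq_Fc]; exact fv1.1.2.2.1
theorem Fv1_4 : F G1 4 = 2 := by rw [F_eq_Fc]; exact fv1.1.2.2.2.1
theorem Fv1_6 : F G1 6 = 2 := by rw [F_eq_Fc]; exact fv1.1.2.2.2.2.1
theorem Fv1_7 : F G1 7 = 1 := by rw [F_eq_Fc]; exact fv1.1.2.2.2.2.2.1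
theorem Fv1_12 : F G1 12 = 2 := by rw [F_eq_Fc]; exact fv1.1.2.2.2.2.2.2.1
theorem Fv1_14 : F G1 14 = 2 := by rw [F_eq_Fc]; exact fv1.1.2.2.2.2.2.2.2.1
theorem Fv1_21 : F G1 21 = 1 := by rw [F_eq_Fc]; exact fv1.1.2.2.2.2.2.2.2.2.1
theorem Fv1_28 : F G1 28 = 2 := by rw [F_eq_Fc]; exact fv1.1.2.2.2.2.2.2.2.2.2.1
theorem Fv1_42 : F G1 42 = 2 := by rw [F_eq_Fc]; exact fv1.1.2.2.2.2.2.2.2.2.2.2.1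
theorem Fv1_84 : F G1 84 = 2 := by rw [F_eq_Fc]; exact fv1.1.2.2.2.2.2.2.2.2.2.2.2
theorem ex1 : ∀ x : G1, x ^ 84 = 1 := fv1.2

end Cfsg.Agent.helper28.OT
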