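import Cfsg.Agent.Lib_helper28_OT1

set_option autoImplicit false
namespace Cfsg.Agent.helper28.OT

abbrev V10 := Multiplicative (ZMod 7)
def sig10 : V10 → V10 := fun v =>
  Multiplicative.ofAdd (6 * v.toAdd : ZMod 7)
def act10 : Multiplicative (ZMod 4) → V10 → V10 := fun q v => sig10^[q.toAdd.val] v
theorem act10_one : ∀ n, act10 1 n = n := by decide +kernel
theorem act10_mul : ∀ q q' n, act10 (q * q') n = act10 q (act10 q' n) := by decide +kernel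
theorem act10_hom : ∀ q n n', act10 q (n * n') = act10 q n * act10 q n' := by decide +kernel
abbrev G10 := V10 ⋊[mkAct act10 act10_one act10_mul act10_hom] Multiplicative (ZMod 4)

set_option maxRecDepth 100000 in
theorem fv10 : (Fc G10 1 = 1 ∧ Fc G10 2 = 2 ∧ Fc G10 3 = 1 ∧ Fc G10 4 = 16 ∧ Fc G10 6 = 2 ∧ Fc G10 7 = 7 ∧ Fc G10 12 = 16 ∧ Fc G10 14 = 14 ∧ Fc G10 21 = 7 ∧ Fc G10 28 = 28 ∧ Fc G10 42 = 14 ∧ Fc G10 84 = 28)
    ∧ (∀ x : G10, x ^ 84 = 1) := by decide +kernel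

theorem Fv10_1 : F G10 1 = 1 := by rw [F_eq_Fc]; exact fv10.1.1
theorem Fv10_2 : F G10 2 = 2 := by rw [F_eq_Fc]; exact fv10.1.2.1
theorem Fv10_3 : F G10 3 = 1 := by rw [F_eq_Fc]; exact fv10.1.2.2.1
theorem Fv10_4 : F G10 4 = 16 := by rw [F_eq_Fc]; exact fv10.1.2.2.2.1
theorem Fv10_6 : F G10 6 = 2 := by rw [F_eq_Fc]; exact fv10.1.2.2.2.2.1
theorem Fv10_7 : F G10 7 = 7 := by rw [F_eq_Fc]; exact fv10.1.2.2.2.2.2.1
theorem Fv10_12 : F G10 12 = 16 := by rw [F_eq_Fc]; exact fv10.1.2.2.2.2.2.2.1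
theorem Fv10_14 : F G10 14 = 14 := by rw [F_eq_Fc]; exact fv10.1.2.2.2.2.2.2.2.1
theorem Fv10_21 : F G10 21 = 7 := by rw [F_eq_Fc]; exact fv10.1.2.2.2.2.2.2.2.2.1
theorem Fv10_28 : F G10 28 = 28 := by rw [F_eq_Fc]; exact fv10.1.2.2.2.2.2.2.2.2.2.1
theorem Fv10_42 : F G10 42 = 14 := by rw [F_eq_Fc]; exact fv10.1.2.2.2.2.2.2.2.2.2.2.1
theorem Fv10_84 : F G10 84 = 28 := by rw [F_eq_Fc]; exact fv10.1.2.2.2.2.2.2.2.2.2.2.2
theorem ex10 : ∀ x : G10, x ^ 84 = 1 := fv10.2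

end Cfsg.Agent.helper28.OT
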