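import Cfsg.Agent.Lib_helper28_OT1

set_option autoImplicit false
namespace Cfsg.Agent.helper28.OT

abbrev V11 := Multiplicative (ZMod 7)
def sig11 : V11 → V11 := fun v =>
  Multiplicative.ofAdd (2 * v.toAdd : ZMod 7)
def act11 : Multiplicative (ZMod 6) → V11 → V11 := fun q v => sig11^[q.toAdd.val] v
theorem act11_one : ∀ n, act11 1 n = n := by decide +kernel
theorem act11_mul : ∀ q q' n, act11 (q * q') n = act11 q (act11 q' n) := by decide +kernel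
theorem act11_hom : ∀ q n n', act11 q (n * n') = act11 q n * act11 q n' := by decide +kernel
abbrev G11 := V11 ⋊[mkAct act11 act11_one act11_mul act11_hom] Multiplicative (ZMod 6)

set_option maxRecDepth 100000 in
theorem fv11 : (Fc G11 1 = 1 ∧ Fc G11 2 = 2 ∧ Fc G11 3 = 15 ∧ Fc G11 4 = 2 ∧ Fc G11 6 = 30 ∧ Fc G11 7 = 7 ∧ Fc G11 12 = 30 ∧ Fc G11 14 = 14 ∧ Fc G11 21 = 21 ∧ Fc G11 28 = 14 ∧ Fc G11 42 = 42 ∧ Fc G11 84 = 42)
    ∧ (∀ x : G11, x ^ 84 = 1) := by decide +kernel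

theorem Fv11_1 : F G11 1 = 1 := by rw [F_eq_Fc]; exact fv11.1.1
theorem Fv11_2 : F G11 2 = 2 := by rw [F_eq_Fc]; exact fv11.1.2.1
theorem Fv11_3 : F G11 3 = 15 := by rw [F_eq_Fc]; exact fv11.1.2.2.1
theorem Fv11_4 : F G11 4 = 2 := by rw [F_eq_Fc]; exact fv11.1.2.2.2.1
theorem Fv11_6 : F G11 6 = 30 := by rw [F_eq_Fc]; exact fv11.1.2.2.2.2.1
theorem Fv11_7 : F G11 7 = 7 := by rw [F_eq_Fc]; exact fv11.1.2.2.2.2.2.1
theorem Fv11_12 : F G11 12 = 30 := by rw [F_eq_Fc]; exact fv11.1.2.2.2.2.2.2.1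
theorem Fv11_14 : F G11 14 = 14 := by rw [F_eq_Fc]; exact fv11.1.2.2.2.2.2.2.2.1
theorem Fv11_21 : F G11 21 = 21 := by rw [F_eq_Fc]; exact fv11.1.2.2.2.2.2.2.2.2.1
theorem Fv11_28 : F G11 28 = 14 := by rw [F_eq_Fc]; exact fv11.1.2.2.2.2.2.2.2.2.2.1
theorem Fv11_42 : F G11 42 = 42 := by rw [F_eq_Fc]; exact fv11.1.2.2.2.2.2.2.2.2.2.2.1
theorem Fv11_84 : F G11 84 = 42 := by rw [F_eq_Fc]; exact fv11.1.2.2.2.2.2.2.2.2.2.2.2
theorem ex11 : ∀ x : G11, x ^ 84 = 1 := fv11.2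

end Cfsg.Agent.helper28.OT
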