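import Cfsg.Agent.Lib_helper28_OT1

set_option autoImplicit false
namespace Cfsg.Agent.helper28.OT

abbrev V12 := Multiplicative (ZMod 7)
def sig12 : V12 → V12 := fun v =>
  Multiplicative.ofAdd (3 * v.toAdd : ZMod 7)
def act12 : Multiplicative (ZMod 6) → V12 → V12 := fun q v => sig12^[q.toAdd.val] v
theorem act12_one : ∀ n, act12 1 n = n := by decide +kernel
theorem act12_mul : ∀ q q' n, act12 (q * q') n = act12 q (act12 q' n) := by decide +kernel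
theorem act12_hom : ∀ q n n', act12 q (n * n') = act12 q n * act12 q n' := by decide +kernel
abbrev G12 := V12 ⋊[mkAct act12 act12_one act12_mul act12_hom] Multiplicative (ZMod 6)

set_option maxRecDepth 100000 in
theorem fv12 : (Fc G12 1 = 1 ∧ Fc G12 2 = 8 ∧ Fc G12 3 = 15 ∧ Fc G12 4 = 8 ∧ Fc G12 6 = 36 ∧ Fc G12 7 = 7 ∧ Fc G12 12 = 36 ∧ Fc G12 14 = 14 ∧ Fc G12 21 = 21 ∧ Fc G12 28 = 14 ∧ Fc G12 42 = 42 ∧ Fc G12 84 = 42)
    ∧ (∀ x : G12, x ^ 84 = 1) := by decide +kernel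

theorem Fv12_1 : F G12 1 = 1 := by rw [F_eq_Fc]; exact fv12.1.1
theorem Fv12_2 : F G12 2 = 8 := by rw [F_eq_Fc]; exact fv12.1.2.1
theorem Fv12_3 : F G12 3 = 15 := by rw [F_eq_Fc]; exact fv12.1.2.2.1
theorem Fv12_4 : F G12 4 = 8 := by rw [F_eq_Fc]; exact fv12.1.2.2.2.1
theorem Fv12_6 : F G12 6 = 36 := by rw [F_eq_Fc]; exact fv12.1.2.2.2.2.1
theorem Fv12_7 : F G12 7 = 7 := by rw [F_eq_Fc]; exact fv12.1.2.2.2.2.2.1
theorem Fv12_12 : F G12 12 = 36 := by rw [F_eq_Fc]; exact fv12.1.2.2.2.2.2.2.1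
theorem Fv12_14 : F G12 14 = 14 := by rw [F_eq_Fc]; exact fv12.1.2.2.2.2.2.2.2.1
theorem Fv12_21 : F G12 21 = 21 := by rw [F_eq_Fc]; exact fv12.1.2.2.2.2.2.2.2.2.1
theorem Fv12_28 : F G12 28 = 14 := by rw [F_eq_Fc]; exact fv12.1.2.2.2.2.2.2.2.2.2.1
theorem Fv12_42 : F G12 42 = 42 := by rw [F_eq_Fc]; exact fv12.1.2.2.2.2.2.2.2.2.2.2.1
theorem Fv12_84 : F G12 84 = 42 := by rw [F_eq_Fc]; exact fv12.1.2.2.2.2.2.2.2.2.2.2.2
theorem ex12 : ∀ x : G12, x ^ 84 = 1 := fv12.2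

end Cfsg.Agent.helper28.OT
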