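import Cfsg.Agent.Lib_helper28_OT1

set_option autoImplicit false
namespace Cfsg.Agent.helper28.OT

abbrev V13 := Multiplicative (ZMod 4 × ZMod 4)
def sig13 : V13 → V13 := fun v =>
  Multiplicative.ofAdd ((3 * v.toAdd.2, v.toAdd.1 + 3 * v.toAdd.2) : ZMod 4 × ZMod 4)
def act13 : Multiplicative (ZMod 3) → V13 → V13 := fun q v => sig13^[q.toAdd.val] v
theorem act13_one : ∀ n, act13 1 n = n := by decide +kernel
theorem act13_mul : ∀ q q' n, act13 (q * q') n = act13 q (act13 q' n) := by decide +kernel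
theorem act13_hom : ∀ q n n', act13 q (n * n') = act13 q n * act13 q n' := by decide +kernel
abbrev G13 := V13 ⋊[mkAct act13 act13_one act13_mul act13_hom] Multiplicative (ZMod 3)

set_option maxRecDepth 100000 in
theorem fv13 : (Fc G13 1 = 1 ∧ Fc G13 2 = 4 ∧ Fc G13 3 = 33 ∧ Fc G13 4 = 16 ∧ Fc G13 6 = 36 ∧ Fc G13 7 = 1 ∧ Fc G13 12 = 48 ∧ Fc G13 14 = 4 ∧ Fc G13 21 = 33 ∧ Fc G13 28 = 16 ∧ Fc G13 42 = 36 ∧ Fc G13 84 = 48)
    ∧ (∀ x : G13, x ^ 84 = 1) := by decide +kernel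

theorem Fv13_1 : F G13 1 = 1 := by rw [F_eq_Fc]; exact fv13.1.1
theorem Fv13_2 : F G13 2 = 4 := by rw [F_eq_Fc]; exact fv13.1.2.1
theorem Fv13_3 : F G13 3 = 33 := by rw [F_eq_Fc]; exact fv13.1.2.2.1
theorem Fv13_4 : F G13 4 = 16 := by rw [F_eq_Fc]; exact fv13.1.2.2.2.1
theorem Fv13_6 : F G13 6 = 36 := by rw [F_eq_Fc]; exact fv13.1.2.2.2.2.1
theorem Fv13_7 : F G13 7 = 1 := by rw [F_eq_Fc]; exact fv13.1.2.2.2.2.2.1
theorem Fv13_12 : F G13 12 = 48 := by rw [F_eq_Fc]; exact fv13.1.2.2.2.2.2.2.1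
theorem Fv13_14 : F G13 14 = 4 := by rw [F_eq_Fc]; exact fv13.1.2.2.2.2.2.2.2.1
theorem Fv13_21 : F G13 21 = 33 := by rw [F_eq_Fc]; exact fv13.1.2.2.2.2.2.2.2.2.1
theorem Fv13_28 : F G13 28 = 16 := by rw [F_eq_Fc]; exact fv13.1.2.2.2.2.2.2.2.2.2.1
theorem Fv13_42 : F G13 42 = 36 := by rw [F_eq_Fc]; exact fv13.1.2.2.2.2.2.2.2.2.2.2.1
theorem Fv13_84 : F G13 84 = 48 := by rw [F_eq_Fc]; exact fv13.1.2.2.2.2.2.2.2.2.2.2.2
theorem ex13 : ∀ x : G13, x ^ 84 = 1 := fv13.2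

end Cfsg.Agent.helper28.OT
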