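import Cfsg.Agent.Lib_helper28_OT1

set_option autoImplicit false
namespace Cfsg.Agent.helper28.OT

abbrev V14 := Multiplicative (ZMod 4 × ZMod 7)
def sig14 : V14 → V14 := fun v =>
  Multiplicative.ofAdd ((3 * v.toAdd.1, 6 * v.toAdd.2) : ZMod 4 × ZMod 7)
def act14 : Multiplicative (ZMod 2) → V14 → V14 := fun q v => sig14^[q.toAdd.val] v
theorem act14_one : ∀ n, act14 1 n = n := by decide +kernel
theorem act14_mul : ∀ q q' n, act14 (q * q') n = act14 q (act14 q' n) := by decide +kernel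
theorem act14_hom : ∀ q n n', act14 q (n * n') = act14 q n * act14 q n' := by decide +kernel
abbrev G14 := V14 ⋊[mkAct act14 act14_one act14_mul act14_hom] Multiplicative (ZMod 2)

set_option maxRecDepth 100000 in
theorem fv14 : (Fc G14 1 = 1 ∧ Fc G14 2 = 30 ∧ Fc G14 3 = 1 ∧ Fc G14 4 = 32 ∧ Fc G14 6 = 30 ∧ Fc G14 7 = 7 ∧ Fc G14 12 = 32 ∧ Fc G14 14 = 42 ∧ Fc G14 21 = 7 ∧ Fc G14 28 = 56 ∧ Fc G14 42 = 42 ∧ Fc G14 84 = 56)
    ∧ (∀ x : G14, x ^ 84 = 1) := by decide +kernel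

theorem Fv14_1 : F G14 1 = 1 := by rw [F_eq_Fc]; exact fv14.1.1
theorem Fv14_2 : F G14 2 = 30 := by rw [F_eq_Fc]; exact fv14.1.2.1
theorem Fv14_3 : F G14 3 = 1 := by rw [F_eq_Fc]; exact fv14.1.2.2.1
theorem Fv14_4 : F G14 4 = 32 := by rw [F_eq_Fc]; exact fv14.1.2.2.2.1
theorem Fv14_6 : F G14 6 = 30 := by rw [F_eq_Fc]; exact fv14.1.2.2.2.2.1
theorem Fv14_7 : F G14 7 = 7 := by rw [F_eq_Fc]; exact fv14.1.2.2.2.2.2.1
theorem Fv14_12 : F G14 12 = 32 := by rw [F_eq_Fc]; exact fv14.1.2.2.2.2.2.2.1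
theorem Fv14_14 : F G14 14 = 42 := by rw [F_eq_Fc]; exact fv14.1.2.2.2.2.2.2.2.1
theorem Fv14_21 : F G14 21 = 7 := by rw [F_eq_Fc]; exact fv14.1.2.2.2.2.2.2.2.2.1
theorem Fv14_28 : F G14 28 = 56 := by rw [F_eq_Fc]; exact fv14.1.2.2.2.2.2.2.2.2.2.1
theorem Fv14_42 : F G14 42 = 42 := by rw [F_eq_Fc]; exact fv14.1.2.2.2.2.2.2.2.2.2.2.1
theorem Fv14_84 : F G14 84 = 56 := by rw [F_eq_Fc]; exact fv14.1.2.2.2.2.2.2.2.2.2.2.2
theorem ex14 : ∀ x : G14, x ^ 84 = 1 := fv14.2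

end Cfsg.Agent.helper28.OT
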