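import Cfsg.Agent.Lib_helper28_OT1

set_option autoImplicit false
namespace Cfsg.Agent.helper28.OT

abbrev V15 := Multiplicative (ZMod 2 × ZMod 3 × ZMod 7)
def sig15 : V15 → V15 := fun v =>
  Multiplicative.ofAdd ((v.toAdd.1, 2 * v.toAdd.2.1, 6 * v.toAdd.2.2) : ZMod 2 × ZMod 3 × ZMod 7)
def act15 : Multiplicative (ZMod 2) → V15 → V15 := fun q v => sig15^[q.toAdd.val] v
theorem act15_one : ∀ n, act15 1 n = n := by decide +kernel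
theorem act15_mul : ∀ q q' n, act15 (q * q') n = act15 q (act15 q' n) := by decide +kernel
theorem act15_hom : ∀ q n n', act15 q (n * n') = act15 q n * act15 q n' := by decide +kernel
abbrev G15 := V15 ⋊[mkAct act15 act15_one act15_mul act15_hom] Multiplicative (ZMod 2)

set_option maxRecDepth 100000 in
theorem fv15 : (Fc G15 1 = 1 ∧ Fc G15 2 = 44 ∧ Fc G15 3 = 3 ∧ Fc G15 4 = 44 ∧ Fc G15 6 = 48 ∧ Fc G15 7 = 7 ∧ Fc G15 12 = 48 ∧ Fc G15 14 = 56 ∧ Fc G15 21 = 21 ∧ Fc G15 28 = 56 ∧ Fc G15 42 = 84 ∧ Fc G15 84 = 84)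
    ∧ (∀ x : G15, x ^ 84 = 1) := by decide +kernel

theorem Fv15_1 : F G15 1 = 1 := by rw [F_eq_Fc]; exact fv15.1.1
theorem Fv15_2 : F G15 2 = 44 := by rw [F_eq_Fc]; exact fv15.1.2.1
theorem Fv15_3 : F G15 3 = 3 := by rw [F_eq_Fc]; exact fv15.1.2.2.1
theorem Fv15_4 : F G15 4 = 44 := by rw [F_eq_Fc]; exact fv15.1.2.2.2.1
theorem Fv15_6 : F G15 6 = 48 := by rw [F_eq_Fc]; exact fv15.1.2.2.2.2.1
theorem Fv15_7 : F G15 7 = 7 := by rw [F_eq_Fc]; exact fv15.1.2.2.2.2.2.1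
theorem Fv15_12 : F G15 12 = 48 := by rw [F_eq_Fc]; exact fv15.1.2.2.2.2.2.2.1
theorem Fv15_14 : F G15 14 = 56 := by rw [F_eq_Fc]; exact fv15.1.2.2.2.2.2.2.2.1
theorem Fv15_21 : F G15 21 = 21 := by rw [F_eq_Fc]; exact fv15.1.2.2.2.2.2.2.2.2.1
theorem Fv15_28 : F G15 28 = 56 := by rw [F_eq_Fc]; exact fv15.1.2.2.2.2.2.2.2.2.2.1
theorem Fv15_42 : F G15 42 = 84 := by rw [F_eq_Fc]; exact fv15.1.2.2.2.2.2.2.2.2.2.2.1
theorem Fv15_84 : F G15 84 = 84 := by rw [F_eq_Fc]; exact fv15.1.2.2.2.2.2.2.2.2.2.2.2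
theorem ex15 : ∀ x : G15, x ^ 84 = 1 := fv15.2

end Cfsg.Agent.helper28.OT
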