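import Cfsg.Agent.Lib_helper28_OT1

set_option autoImplicit false
set_option synthInstance.maxHeartbeats 8000000
set_option synthInstance.maxSize 4096
set_option maxHeartbeats 16000000
namespace Cfsg.Agent.helper28.OT

abbrev V16 := Multiplicative (ZMod 2 × ZMod 2 × ZMod 2)
/-- multiplication by `x` on `F_8 = F_2[x]/(x^3+x+1)` in the basis `1, x, x^2` -/
def sig16 : V16 → V16 := fun v =>
  Multiplicative.ofAdd ((v.toAdd.2.2, v.toAdd.1 + v.toAdd.2.2, v.toAdd.2.1) : ZMod 2 × ZMod 2 × ZMod 2)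
def act16 : Multiplicative (ZMod 7) → V16 → V16 := fun q v => sig16^[q.toAdd.val] v
theorem act16_one : ∀ n, act16 1 n = n := by decide +kernel
theorem act16_mul : ∀ q q' n, act16 (q * q') n = act16 q (act16 q' n) := by decide +kernel
theorem act16_hom : ∀ q n n', act16 q (n * n') = act16 q n * act16 q n' := by decide +kernel
abbrev N16 := V16 ⋊[mkAct act16 act16_one act16_mul act16_hom] Multiplicative (ZMod 7)

/-- the Frobenius map on `F_8` -/
def frob16 : V16 → V16 := fun v =>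
  Multiplicative.ofAdd ((v.toAdd.1, v.toAdd.2.2, v.toAdd.2.1 + v.toAdd.2.2) : ZMod 2 × ZMod 2 × ZMod 2)
def tau16 : N16 → N16 := fun x => ⟨frob16 x.left, Multiplicative.ofAdd (2 * x.right.toAdd)⟩
def bct16 : Multiplicative (ZMod 3) → N16 → N16 := fun q x => tau16^[q.toAdd.val] x
theorem bct16_one : ∀ n, bct16 1 n = n := by decide +kernel
theorem bct16_mul : ∀ q q' n, bct16 (q * q') n = bct16 q (bct16 q' n) := by decide +kernel
theorem bct16_hom : ∀ q n n', bct16 q (n * n') = bct16 q n * bct16 q n' := by decide +kernel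
abbrev G16 := N16 ⋊[mkAct bct16 bct16_one bct16_mul bct16_hom] Multiplicative (ZMod 3)

set_option synthInstance.maxHeartbeats 2000000 in
set_option synthInstance.maxSize 1024 in
set_option maxHeartbeats 4000000 in
set_option maxRecDepth 100000 in
theorem fv16 : (Fc G16 1 = 1 ∧ Fc G16 2 = 8 ∧ Fc G16 3 = 57 ∧ Fc G16 4 = 8 ∧ Fc G16 6 = 120 ∧ Fc G16 7 = 49 ∧ Fc G16 12 = 120 ∧ Fc G16 14 = 56 ∧ Fc G16 21 = 105 ∧ Fc G16 28 = 56 ∧ Fc G16 42 = 168 ∧ Fc G16 84 = 168)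
    ∧ (∀ x : G16, x ^ 84 = 1) := by decide +kernel

theorem Fv16_1 : F G16 1 = 1 := by rw [F_eq_Fc]; exact fv16.1.1
theorem Fv16_2 : F G16 2 = 8 := by rw [F_eq_Fc]; exact fv16.1.2.1
theorem Fv16_3 : F G16 3 = 57 := by rw [F_eq_Fc]; exact fv16.1.2.2.1
theorem Fv16_4 : F G16 4 = 8 := by rw [F_eq_Fc]; exact fv16.1.2.2.2.1
theorem Fv16_6 : F G16 6 = 120 := by rw [F_eq_Fc]; exact fv16.1.2.2.2.2.1
theorem Fv16_7 : F G16 7 = 49 := by rw [F_eq_Fc]; exact fv16.1.2.2.2.2.2.1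
theorem Fv16_12 : F G16 12 = 120 := by rw [F_eq_Fc]; exact fv16.1.2.2.2.2.2.2.1
theorem Fv16_14 : F G16 14 = 56 := by rw [F_eq_Fc]; exact fv16.1.2.2.2.2.2.2.2.1
theorem Fv16_21 : F G16 21 = 105 := by rw [F_eq_Fc]; exact fv16.1.2.2.2.2.2.2.2.2.1
theorem Fv16_28 : F G16 28 = 56 := by rw [F_eq_Fc]; exact fv16.1.2.2.2.2.2.2.2.2.2.1
theorem Fv16_42 : F G16 42 = 168 := by rw [F_eq_Fc]; exact fv16.1.2.2.2.2.2.2.2.2.2.2.1
theorem Fv16_84 : F G16 84 = 168 := by rw [F_eq_Fc]; exact fv16.1.2.2.2.2.2.2.2.2.2.2.2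
theorem ex16 : ∀ x : G16, x ^ 84 = 1 := fv16.2

end Cfsg.Agent.helper28.OT
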