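import Cfsg.Agent.Lib_helper28_OT1

set_option autoImplicit false
namespace Cfsg.Agent.helper28.OT

abbrev V17 := Multiplicative (ZMod 4 × ZMod 7)
def sig17 : V17 → V17 := fun v =>
  Multiplicative.ofAdd ((3 * v.toAdd.1, 3 * v.toAdd.2) : ZMod 4 × ZMod 7)
def act17 : Multiplicative (ZMod 6) → V17 → V17 := fun q v => sig17^[q.toAdd.val] v
theorem act17_one : ∀ n, act17 1 n = n := by decide +kernel
theorem act17_mul : ∀ q q' n, act17 (q * q') n = act17 q (act17 q' n) := by decide +kernel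
theorem act17_hom : ∀ q n n', act17 q (n * n') = act17 q n * act17 q n' := by decide +kernel
abbrev G17 := V17 ⋊[mkAct act17 act17_one act17_mul act17_hom] Multiplicative (ZMod 6)

set_option maxRecDepth 100000 in
theorem fv17 : (Fc G17 1 = 1 ∧ Fc G17 2 = 30 ∧ Fc G17 3 = 15 ∧ Fc G17 4 = 32 ∧ Fc G17 6 = 114 ∧ Fc G17 7 = 7 ∧ Fc G17 12 = 144 ∧ Fc G17 14 = 42 ∧ Fc G17 21 = 21 ∧ Fc G17 28 = 56 ∧ Fc G17 42 = 126 ∧ Fc G17 84 = 168)
    ∧ (∀ x : G17, x ^ 84 = 1) := by decide +kernel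

theorem Fv17_1 : F G17 1 = 1 := by rw [F_eq_Fc]; exact fv17.1.1
theorem Fv17_2 : F G17 2 = 30 := by rw [F_eq_Fc]; exact fv17.1.2.1
theorem Fv17_3 : F G17 3 = 15 := by rw [F_eq_Fc]; exact fv17.1.2.2.1
theorem Fv17_4 : F G17 4 = 32 := by rw [F_eq_Fc]; exact fv17.1.2.2.2.1
theorem Fv17_6 : F G17 6 = 114 := by rw [F_eq_Fc]; exact fv17.1.2.2.2.2.1
theorem Fv17_7 : F G17 7 = 7 := by rw [F_eq_Fc]; exact fv17.1.2.2.2.2.2.1
theorem Fv17_12 : F G17 12 = 144 := by rw [F_eq_Fc]; exact fv17.1.2.2.2.2.2.2.1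
theorem Fv17_14 : F G17 14 = 42 := by rw [F_eq_Fc]; exact fv17.1.2.2.2.2.2.2.2.1
theorem Fv17_21 : F G17 21 = 21 := by rw [F_eq_Fc]; exact fv17.1.2.2.2.2.2.2.2.2.1
theorem Fv17_28 : F G17 28 = 56 := by rw [F_eq_Fc]; exact fv17.1.2.2.2.2.2.2.2.2.2.1
theorem Fv17_42 : F G17 42 = 126 := by rw [F_eq_Fc]; exact fv17.1.2.2.2.2.2.2.2.2.2.2.1
theorem Fv17_84 : F G17 84 = 168 := by rw [F_eq_Fc]; exact fv17.1.2.2.2.2.2.2.2.2.2.2.2
theorem ex17 : ∀ x : G17, x ^ 84 = 1 := fv17.2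

end Cfsg.Agent.helper28.OT
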