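import Cfsg.Agent.Lib_helper28_OT1

set_option autoImplicit false
namespace Cfsg.Agent.helper28.OT

abbrev V18 := Multiplicative (ZMod 2 × ZMod 7 × ZMod 7)
def sig18 : V18 → V18 := fun v =>
  Multiplicative.ofAdd ((v.toAdd.1, 6 * v.toAdd.2.1, 6 * v.toAdd.2.2) : ZMod 2 × ZMod 7 × ZMod 7)
def act18 : Multiplicative (ZMod 2) → V18 → V18 := fun q v => sig18^[q.toAdd.val] v
theorem act18_one : ∀ n, act18 1 n = n := by decide +kernel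
theorem act18_mul : ∀ q q' n, act18 (q * q') n = act18 q (act18 q' n) := by decide +kernel
theorem act18_hom : ∀ q n n', act18 q (n * n') = act18 q n * act18 q n' := by decide +kernel
abbrev G18 := V18 ⋊[mkAct act18 act18_one act18_mul act18_hom] Multiplicative (ZMod 2)

set_option maxRecDepth 100000 in
theorem fv18 : (Fc G18 1 = 1 ∧ Fc G18 2 = 100 ∧ Fc G18 3 = 1 ∧ Fc G18 4 = 100 ∧ Fc G18 6 = 100 ∧ Fc G18 7 = 49 ∧ Fc G18 12 = 100 ∧ Fc G18 14 = 196 ∧ Fc G18 21 = 49 ∧ Fc G18 28 = 196 ∧ Fc G18 42 = 196 ∧ Fc G18 84 = 196)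
    ∧ (∀ x : G18, x ^ 84 = 1) := by decide +kernel

theorem Fv18_1 : F G18 1 = 1 := by rw [F_eq_Fc]; exact fv18.1.1
theorem Fv18_2 : F G18 2 = 100 := by rw [F_eq_Fc]; exact fv18.1.2.1
theorem Fv18_3 : F G18 3 = 1 := by rw [F_eq_Fc]; exact fv18.1.2.2.1
theorem Fv18_4 : F G18 4 = 100 := by rw [F_eq_Fc]; exact fv18.1.2.2.2.1
theorem Fv18_6 : F G18 6 = 100 := by rw [F_eq_Fc]; exact fv18.1.2.2.2.2.1
theorem Fv18_7 : F G18 7 = 49 := by rw [F_eq_Fc]; exact fv18.1.2.2.2.2.2.1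
theorem Fv18_12 : F G18 12 = 100 := by rw [F_eq_Fc]; exact fv18.1.2.2.2.2.2.2.1
theorem Fv18_14 : F G18 14 = 196 := by rw [F_eq_Fc]; exact fv18.1.2.2.2.2.2.2.2.1
theorem Fv18_21 : F G18 21 = 49 := by rw [F_eq_Fc]; exact fv18.1.2.2.2.2.2.2.2.2.1
theorem Fv18_28 : F G18 28 = 196 := by rw [F_eq_Fc]; exact fv18.1.2.2.2.2.2.2.2.2.2.1
theorem Fv18_42 : F G18 42 = 196 := by rw [F_eq_Fc]; exact fv18.1.2.2.2.2.2.2.2.2.2.2.1
theorem Fv18_84 : F G18 84 = 196 := by rw [F_eq_Fc]; exact fv18.1.2.2.2.2.2.2.2.2.2.2.2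
theorem ex18 : ∀ x : G18, x ^ 84 = 1 := fv18.2

end Cfsg.Agent.helper28.OT
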