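import Cfsg.Agent.Lib_helper28_OT1

set_option autoImplicit false
namespace Cfsg.Agent.helper28.OT

abbrev V19 := Multiplicative (ZMod 3 × ZMod 7)
def sig19 : V19 → V19 := fun v =>
  Multiplicative.ofAdd ((2 * v.toAdd.1, 3 * v.toAdd.2) : ZMod 3 × ZMod 7)
def act19 : Multiplicative (ZMod 12) → V19 → V19 := fun q v => sig19^[q.toAdd.val] v
theorem act19_one : ∀ n, act19 1 n = n := by decide +kernel
theorem act19_mul : ∀ q q' n, act19 (q * q') n = act19 q (act19 q' n) := by decide +kernel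
theorem act19_hom : ∀ q n n', act19 q (n * n') = act19 q n * act19 q n' := by decide +kernel
abbrev G19 := V19 ⋊[mkAct act19 act19_one act19_mul act19_hom] Multiplicative (ZMod 12)

set_option maxRecDepth 100000 in
theorem fv19 : (Fc G19 1 = 1 ∧ Fc G19 2 = 2 ∧ Fc G19 3 = 45 ∧ Fc G19 4 = 44 ∧ Fc G19 6 = 90 ∧ Fc G19 7 = 7 ∧ Fc G19 12 = 216 ∧ Fc G19 14 = 14 ∧ Fc G19 21 = 63 ∧ Fc G19 28 = 56 ∧ Fc G19 42 = 126 ∧ Fc G19 84 = 252)
    ∧ (∀ x : G19, x ^ 84 = 1) := by decide +kernel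

theorem Fv19_1 : F G19 1 = 1 := by rw [F_eq_Fc]; exact fv19.1.1
theorem Fv19_2 : F G19 2 = 2 := by rw [F_eq_Fc]; exact fv19.1.2.1
theorem Fv19_3 : F G19 3 = 45 := by rw [F_eq_Fc]; exact fv19.1.2.2.1
theorem Fv19_4 : F G19 4 = 44 := by rw [F_eq_Fc]; exact fv19.1.2.2.2.1
theorem Fv19_6 : F G19 6 = 90 := by rw [F_eq_Fc]; exact fv19.1.2.2.2.2.1
theorem Fv19_7 : F G19 7 = 7 := by rw [F_eq_Fc]; exact fv19.1.2.2.2.2.2.1
theorem Fv19_12 : F G19 12 = 216 := by rw [F_eq_Fc]; exact fv19.1.2.2.2.2.2.2.1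
theorem Fv19_14 : F G19 14 = 14 := by rw [F_eq_Fc]; exact fv19.1.2.2.2.2.2.2.2.1
theorem Fv19_21 : F G19 21 = 63 := by rw [F_eq_Fc]; exact fv19.1.2.2.2.2.2.2.2.2.1
theorem Fv19_28 : F G19 28 = 56 := by rw [F_eq_Fc]; exact fv19.1.2.2.2.2.2.2.2.2.2.1
theorem Fv19_42 : F G19 42 = 126 := by rw [F_eq_Fc]; exact fv19.1.2.2.2.2.2.2.2.2.2.2.1
theorem Fv19_84 : F G19 84 = 252 := by rw [F_eq_Fc]; exact fv19.1.2.2.2.2.2.2.2.2.2.2.2
theorem ex19 : ∀ x : G19, x ^ 84 = 1 := fv19.2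

end Cfsg.Agent.helper28.OT
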