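import Cfsg.Agent.Lib_helper28_OT1

set_option autoImplicit false
namespace Cfsg.Agent.helper28.OT

abbrev G2 := Multiplicative (ZMod 3)

set_option maxRecDepth 100000 in
theorem fv2 : (Fc G2 1 = 1 ∧ Fc G2 2 = 1 ∧ Fc G2 3 = 3 ∧ Fc G2 4 = 1 ∧ Fc G2 6 = 3 ∧ Fc G2 7 = 1 ∧ Fc G2 12 = 3 ∧ Fc G2 14 = 1 ∧ Fc G2 21 = 3 ∧ Fc G2 28 = 1 ∧ Fc G2 42 = 3 ∧ Fc G2 84 = 3)
    ∧ (∀ x : G2, x ^ 84 = 1) := by decide +kernel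

theorem Fv2_1 : F G2 1 = 1 := by rw [F_eq_Fc]; exact fv2.1.1
theorem Fv2_2 : F G2 2 = 1 := by rw [F_eq_Fc]; exact fv2.1.2.1
theorem Fv2_3 : F G2 3 = 3 := by rw [F_eq_Fc]; exact fv2.1.2.2.1
theorem Fv2_4 : F G2 4 = 1 := by rw [F_eq_Fc]; exact fv2.1.2.2.2.1
theorem Fv2_6 : F G2 6 = 3 := by rw [F_eq_Fc]; exact fv2.1.2.2.2.2.1
theorem Fv2_7 : F G2 7 = 1 := by rw [F_eq_Fc]; exact fv2.1.2.2.2.2.2.1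
theorem Fv2_12 : F G2 12 = 3 := by rw [F_eq_Fc]; exact fv2.1.2.2.2.2.2.2.1
theorem Fv2_14 : F G2 14 = 1 := by rw [F_eq_Fc]; exact fv2.1.2.2.2.2.2.2.2.1
theorem Fv2_21 : F G2 21 = 3 := by rw [F_eq_Fc]; exact fv2.1.2.2.2.2.2.2.2.2.1
theorem Fv2_28 : F G2 28 = 1 := by rw [F_eq_Fc]; exact fv2.1.2.2.2.2.2.2.2.2.2.1
theorem Fv2_42 : F G2 42 = 3 := by rw [F_eq_Fc]; exact fv2.1.2.2.2.2.2.2.2.2.2.2.1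
theorem Fv2_84 : F G2 84 = 3 := by rw [F_eq_Fc]; exact fv2.1.2.2.2.2.2.2.2.2.2.2.2
theorem ex2 : ∀ x : G2, x ^ 84 = 1 := fv2.2

end Cfsg.Agent.helper28.OT
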