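import Cfsg.Agent.Lib_helper28_OT1

set_option autoImplicit false
namespace Cfsg.Agent.helper28.OT

abbrev V20 := Multiplicative (ZMod 7 × ZMod 7)
def sig20 : V20 → V20 := fun v =>
  Multiplicative.ofAdd ((3 * v.toAdd.2, v.toAdd.1 + 2 * v.toAdd.2) : ZMod 7 × ZMod 7)
def act20 : Multiplicative (ZMod 6) → V20 → V20 := fun q v => sig20^[q.toAdd.val] v
theorem act20_one : ∀ n, act20 1 n = n := by decide +kernel
theorem act20_mul : ∀ q q' n, act20 (q * q') n = act20 q (act20 q' n) := by decide +kernel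
theorem act20_hom : ∀ q n n', act20 q (n * n') = act20 q n * act20 q n' := by decide +kernel
abbrev G20 := V20 ⋊[mkAct act20 act20_one act20_mul act20_hom] Multiplicative (ZMod 6)

set_option maxRecDepth 100000 in
theorem fv20 : (Fc G20 1 = 1 ∧ Fc G20 2 = 50 ∧ Fc G20 3 = 15 ∧ Fc G20 4 = 50 ∧ Fc G20 6 = 162 ∧ Fc G20 7 = 49 ∧ Fc G20 12 = 162 ∧ Fc G20 14 = 98 ∧ Fc G20 21 = 147 ∧ Fc G20 28 = 98 ∧ Fc G20 42 = 294 ∧ Fc G20 84 = 294)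
    ∧ (∀ x : G20, x ^ 84 = 1) := by decide +kernel

theorem Fv20_1 : F G20 1 = 1 := by rw [F_eq_Fc]; exact fv20.1.1
theorem Fv20_2 : F G20 2 = 50 := by rw [F_eq_Fc]; exact fv20.1.2.1
theorem Fv20_3 : F G20 3 = 15 := by rw [F_eq_Fc]; exact fv20.1.2.2.1
theorem Fv20_4 : F G20 4 = 50 := by rw [F_eq_Fc]; exact fv20.1.2.2.2.1
theorem Fv20_6 : F G20 6 = 162 := by rw [F_eq_Fc]; exact fv20.1.2.2.2.2.1
theorem Fv20_7 : F G20 7 = 49 := by rw [F_eq_Fc]; exact fv20.1.2.2.2.2.2.1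
theorem Fv20_12 : F G20 12 = 162 := by rw [F_eq_Fc]; exact fv20.1.2.2.2.2.2.2.1
theorem Fv20_14 : F G20 14 = 98 := by rw [F_eq_Fc]; exact fv20.1.2.2.2.2.2.2.2.1
theorem Fv20_21 : F G20 21 = 147 := by rw [F_eq_Fc]; exact fv20.1.2.2.2.2.2.2.2.2.1
theorem Fv20_28 : F G20 28 = 98 := by rw [F_eq_Fc]; exact fv20.1.2.2.2.2.2.2.2.2.2.1
theorem Fv20_42 : F G20 42 = 294 := by rw [F_eq_Fc]; exact fv20.1.2.2.2.2.2.2.2.2.2.2.1
theorem Fv20_84 : F G20 84 = 294 := by rw [F_eq_Fc]; exact fv20.1.2.2.2.2.2.2.2.2.2.2.2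
theorem ex20 : ∀ x : G20, x ^ 84 = 1 := fv20.2

end Cfsg.Agent.helper28.OT
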