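import Cfsg.Agent.Lib_helper28_OT1

set_option autoImplicit false
namespace Cfsg.Agent.helper28.OT

abbrev V21 := Multiplicative (ZMod 4 × ZMod 4 × ZMod 7)
def sig21 : V21 → V21 := fun v =>
  Multiplicative.ofAdd ((3 * v.toAdd.2.1, v.toAdd.1 + 3 * v.toAdd.2.1, 2 * v.toAdd.2.2) : ZMod 4 × ZMod 4 × ZMod 7)
def act21 : Multiplicative (ZMod 3) → V21 → V21 := fun q v => sig21^[q.toAdd.val] v
theorem act21_one : ∀ n, act21 1 n = n := by decide +kernel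
theorem act21_mul : ∀ q q' n, act21 (q * q') n = act21 q (act21 q' n) := by decide +kernel
theorem act21_hom : ∀ q n n', act21 q (n * n') = act21 q n * act21 q n' := by decide +kernel
abbrev G21 := V21 ⋊[mkAct act21 act21_one act21_mul act21_hom] Multiplicative (ZMod 3)

set_option maxRecDepth 100000 in
theorem fv21 : (Fc G21 1 = 1 ∧ Fc G21 2 = 4 ∧ Fc G21 3 = 225 ∧ Fc G21 4 = 16 ∧ Fc G21 6 = 228 ∧ Fc G21 7 = 7 ∧ Fc G21 12 = 240 ∧ Fc G21 14 = 28 ∧ Fc G21 21 = 231 ∧ Fc G21 28 = 112 ∧ Fc G21 42 = 252 ∧ Fc G21 84 = 336)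
    ∧ (∀ x : G21, x ^ 84 = 1) := by decide +kernel

theorem Fv21_1 : F G21 1 = 1 := by rw [F_eq_Fc]; exact fv21.1.1
theorem Fv21_2 : F G21 2 = 4 := by rw [F_eq_Fc]; exact fv21.1.2.1
theorem Fv21_3 : F G21 3 = 225 := by rw [F_eq_Fc]; exact fv21.1.2.2.1
theorem Fv21_4 : F G21 4 = 16 := by rw [F_eq_Fc]; exact fv21.1.2.2.2.1
theorem Fv21_6 : F G21 6 = 228 := by rw [F_eq_Fc]; exact fv21.1.2.2.2.2.1
theorem Fv21_7 : F G21 7 = 7 := by rw [F_eq_Fc]; exact fv21.1.2.2.2.2.2.1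
theorem Fv21_12 : F G21 12 = 240 := by rw [F_eq_Fc]; exact fv21.1.2.2.2.2.2.2.1
theorem Fv21_14 : F G21 14 = 28 := by rw [F_eq_Fc]; exact fv21.1.2.2.2.2.2.2.2.1
theorem Fv21_21 : F G21 21 = 231 := by rw [F_eq_Fc]; exact fv21.1.2.2.2.2.2.2.2.2.1
theorem Fv21_28 : F G21 28 = 112 := by rw [F_eq_Fc]; exact fv21.1.2.2.2.2.2.2.2.2.2.1
theorem Fv21_42 : F G21 42 = 252 := by rw [F_eq_Fc]; exact fv21.1.2.2.2.2.2.2.2.2.2.2.1
theorem Fv21_84 : F G21 84 = 336 := by rw [F_eq_Fc]; exact fv21.1.2.2.2.2.2.2.2.2.2.2.2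
theorem ex21 : ∀ x : G21, x ^ 84 = 1 := fv21.2

end Cfsg.Agent.helper28.OT
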