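import Cfsg.Agent.Lib_helper28_OT1

set_option autoImplicit false
namespace Cfsg.Agent.helper28.OT

abbrev V22 := Multiplicative (ZMod 7 × ZMod 7)
def sig22 : V22 → V22 := fun v =>
  Multiplicative.ofAdd ((3 * v.toAdd.2, v.toAdd.1 + 2 * v.toAdd.2) : ZMod 7 × ZMod 7)
def act22 : Multiplicative (ZMod 12) → V22 → V22 := fun q v => sig22^[q.toAdd.val] v
theorem act22_one : ∀ n, act22 1 n = n := by decide +kernel
theorem act22_mul : ∀ q q' n, act22 (q * q') n = act22 q (act22 q' n) := by decide +kernel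
theorem act22_hom : ∀ q n n', act22 q (n * n') = act22 q n * act22 q n' := by decide +kernel
abbrev G22 := V22 ⋊[mkAct act22 act22_one act22_mul act22_hom] Multiplicative (ZMod 12)

set_option maxRecDepth 100000 in
theorem fv22 : (Fc G22 1 = 1 ∧ Fc G22 2 = 2 ∧ Fc G22 3 = 15 ∧ Fc G22 4 = 100 ∧ Fc G22 6 = 30 ∧ Fc G22 7 = 49 ∧ Fc G22 12 = 324 ∧ Fc G22 14 = 98 ∧ Fc G22 21 = 147 ∧ Fc G22 28 = 196 ∧ Fc G22 42 = 294 ∧ Fc G22 84 = 588)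
    ∧ (∀ x : G22, x ^ 84 = 1) := by decide +kernel

theorem Fv22_1 : F G22 1 = 1 := by rw [F_eq_Fc]; exact fv22.1.1
theorem Fv22_2 : F G22 2 = 2 := by rw [F_eq_Fc]; exact fv22.1.2.1
theorem Fv22_3 : F G22 3 = 15 := by rw [F_eq_Fc]; exact fv22.1.2.2.1
theorem Fv22_4 : F G22 4 = 100 := by rw [F_eq_Fc]; exact fv22.1.2.2.2.1
theorem Fv22_6 : F G22 6 = 30 := by rw [F_eq_Fc]; exact fv22.1.2.2.2.2.1
theorem Fv22_7 : F G22 7 = 49 := by rw [F_eq_Fc]; exact fv22.1.2.2.2.2.2.1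
theorem Fv22_12 : F G22 12 = 324 := by rw [F_eq_Fc]; exact fv22.1.2.2.2.2.2.2.1
theorem Fv22_14 : F G22 14 = 98 := by rw [F_eq_Fc]; exact fv22.1.2.2.2.2.2.2.2.1
theorem Fv22_21 : F G22 21 = 147 := by rw [F_eq_Fc]; exact fv22.1.2.2.2.2.2.2.2.2.1
theorem Fv22_28 : F G22 28 = 196 := by rw [F_eq_Fc]; exact fv22.1.2.2.2.2.2.2.2.2.2.1
theorem Fv22_42 : F G22 42 = 294 := by rw [F_eq_Fc]; exact fv22.1.2.2.2.2.2.2.2.2.2.2.1
theorem Fv22_84 : F G22 84 = 588 := by rw [F_eq_Fc]; exact fv22.1.2.2.2.2.2.2.2.2.2.2.2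
theorem ex22 : ∀ x : G22, x ^ 84 = 1 := fv22.2

end Cfsg.Agent.helper28.OT
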