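import Cfsg.Agent.Lib_helper28_OT1

set_option autoImplicit false
namespace Cfsg.Agent.helper28.OT

abbrev V23 := Multiplicative (ZMod 4 × ZMod 4 × ZMod 7)
def sig23 : V23 → V23 := fun v =>
  Multiplicative.ofAdd ((3 * v.toAdd.2.1, v.toAdd.1 + v.toAdd.2.1, 2 * v.toAdd.2.2) : ZMod 4 × ZMod 4 × ZMod 7)
def act23 : Multiplicative (ZMod 6) → V23 → V23 := fun q v => sig23^[q.toAdd.val] v
theorem act23_one : ∀ n, act23 1 n = n := by decide +kernel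
theorem act23_mul : ∀ q q' n, act23 (q * q') n = act23 q (act23 q' n) := by decide +kernel
theorem act23_hom : ∀ q n n', act23 q (n * n') = act23 q n * act23 q n' := by decide +kernel
abbrev G23 := V23 ⋊[mkAct act23 act23_one act23_mul act23_hom] Multiplicative (ZMod 6)

set_option maxRecDepth 100000 in
theorem fv23 : (Fc G23 1 = 1 ∧ Fc G23 2 = 20 ∧ Fc G23 3 = 225 ∧ Fc G23 4 = 32 ∧ Fc G23 6 = 468 ∧ Fc G23 7 = 7 ∧ Fc G23 12 = 480 ∧ Fc G23 14 = 140 ∧ Fc G23 21 = 231 ∧ Fc G23 28 = 224 ∧ Fc G23 42 = 588 ∧ Fc G23 84 = 672)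
    ∧ (∀ x : G23, x ^ 84 = 1) := by decide +kernel

theorem Fv23_1 : F G23 1 = 1 := by rw [F_eq_Fc]; exact fv23.1.1
theorem Fv23_2 : F G23 2 = 20 := by rw [F_eq_Fc]; exact fv23.1.2.1
theorem Fv23_3 : F G23 3 = 225 := by rw [F_eq_Fc]; exact fv23.1.2.2.1
theorem Fv23_4 : F G23 4 = 32 := by rw [F_eq_Fc]; exact fv23.1.2.2.2.1
theorem Fv23_6 : F G23 6 = 468 := by rw [F_eq_Fc]; exact fv23.1.2.2.2.2.1
theorem Fv23_7 : F G23 7 = 7 := by rw [F_eq_Fc]; exact fv23.1.2.2.2.2.2.1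
theorem Fv23_12 : F G23 12 = 480 := by rw [F_eq_Fc]; exact fv23.1.2.2.2.2.2.2.1
theorem Fv23_14 : F G23 14 = 140 := by rw [F_eq_Fc]; exact fv23.1.2.2.2.2.2.2.2.1
theorem Fv23_21 : F G23 21 = 231 := by rw [F_eq_Fc]; exact fv23.1.2.2.2.2.2.2.2.2.1
theorem Fv23_28 : F G23 28 = 224 := by rw [F_eq_Fc]; exact fv23.1.2.2.2.2.2.2.2.2.2.1
theorem Fv23_42 : F G23 42 = 588 := by rw [F_eq_Fc]; exact fv23.1.2.2.2.2.2.2.2.2.2.2.1
theorem Fv23_84 : F G23 84 = 672 := by rw [F_eq_Fc]; exact fv23.1.2.2.2.2.2.2.2.2.2.2.2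
theorem ex23 : ∀ x : G23, x ^ 84 = 1 := fv23.2

end Cfsg.Agent.helper28.OT
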