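import Cfsg.Agent.Lib_helper28_OT1

set_option autoImplicit false
namespace Cfsg.Agent.helper28.OT

abbrev V24 := Multiplicative (ZMod 4 × ZMod 4 × ZMod 7)
def sig24 : V24 → V24 := fun v =>
  Multiplicative.ofAdd ((v.toAdd.2.1, v.toAdd.1 + v.toAdd.2.1, 3 * v.toAdd.2.2) : ZMod 4 × ZMod 4 × ZMod 7)
def act24 : Multiplicative (ZMod 6) → V24 → V24 := fun q v => sig24^[q.toAdd.val] v
theorem act24_one : ∀ n, act24 1 n = n := by decide +kernel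
theorem act24_mul : ∀ q q' n, act24 (q * q') n = act24 q (act24 q' n) := by decide +kernel
theorem act24_hom : ∀ q n n', act24 q (n * n') = act24 q n * act24 q n' := by decide +kernel
abbrev G24 := V24 ⋊[mkAct act24 act24_one act24_mul act24_hom] Multiplicative (ZMod 6)

set_option maxRecDepth 100000 in
theorem fv24 : (Fc G24 1 = 1 ∧ Fc G24 2 = 32 ∧ Fc G24 3 = 225 ∧ Fc G24 4 = 128 ∧ Fc G24 6 = 480 ∧ Fc G24 7 = 7 ∧ Fc G24 12 = 576 ∧ Fc G24 14 = 56 ∧ Fc G24 21 = 231 ∧ Fc G24 28 = 224 ∧ Fc G24 42 = 504 ∧ Fc G24 84 = 672)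
    ∧ (∀ x : G24, x ^ 84 = 1) := by decide +kernel

theorem Fv24_1 : F G24 1 = 1 := by rw [F_eq_Fc]; exact fv24.1.1
theorem Fv24_2 : F G24 2 = 32 := by rw [F_eq_Fc]; exact fv24.1.2.1
theorem Fv24_3 : F G24 3 = 225 := by rw [F_eq_Fc]; exact fv24.1.2.2.1
theorem Fv24_4 : F G24 4 = 128 := by rw [F_eq_Fc]; exact fv24.1.2.2.2.1
theorem Fv24_6 : F G24 6 = 480 := by rw [F_eq_Fc]; exact fv24.1.2.2.2.2.1
theorem Fv24_7 : F G24 7 = 7 := by rw [F_eq_Fc]; exact fv24.1.2.2.2.2.2.1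
theorem Fv24_12 : F G24 12 = 576 := by rw [F_eq_Fc]; exact fv24.1.2.2.2.2.2.2.1
theorem Fv24_14 : F G24 14 = 56 := by rw [F_eq_Fc]; exact fv24.1.2.2.2.2.2.2.2.1
theorem Fv24_21 : F G24 21 = 231 := by rw [F_eq_Fc]; exact fv24.1.2.2.2.2.2.2.2.2.1
theorem Fv24_28 : F G24 28 = 224 := by rw [F_eq_Fc]; exact fv24.1.2.2.2.2.2.2.2.2.2.1
theorem Fv24_42 : F G24 42 = 504 := by rw [F_eq_Fc]; exact fv24.1.2.2.2.2.2.2.2.2.2.2.1
theorem Fv24_84 : F G24 84 = 672 := by rw [F_eq_Fc]; exact fv24.1.2.2.2.2.2.2.2.2.2.2.2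
theorem ex24 : ∀ x : G24, x ^ 84 = 1 := fv24.2

end Cfsg.Agent.helper28.OT
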