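import Cfsg.Agent.Lib_helper28_OT1

set_option autoImplicit false
set_option synthInstance.maxHeartbeats 8000000
set_option synthInstance.maxSize 4096
set_option maxHeartbeats 16000000
namespace Cfsg.Agent.helper28.OT

abbrev V25 := Multiplicative (ZMod 2 × ZMod 2 × ZMod 2 × ZMod 2 × ZMod 7)
def act25 : Multiplicative (ZMod 6) → V25 → V25 := fun q v =>
  match q.toAdd.val with
  | 0 => v
  | 1 => Multiplicative.ofAdd ((v.toAdd.2.1 + v.toAdd.2.2.2.1, v.toAdd.2.1 + v.toAdd.2.2.1 + v.toAdd.2.2.2.1, v.toAdd.1 + v.toAdd.2.1 + v.toAdd.2.2.2.1, v.toAdd.1 + v.toAdd.2.2.2.1, 6 * v.toAdd.2.2.2.2) : ZMod 2 × ZMod 2 × ZMod 2 × ZMod 2 × ZMod 7)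
  | 2 => Multiplicative.ofAdd ((v.toAdd.1 + v.toAdd.2.1 + v.toAdd.2.2.1, v.toAdd.2.2.1 + v.toAdd.2.2.2.1, v.toAdd.1 + v.toAdd.2.2.1 + v.toAdd.2.2.2.1, v.toAdd.1 + v.toAdd.2.1, v.toAdd.2.2.2.2) : ZMod 2 × ZMod 2 × ZMod 2 × ZMod 2 × ZMod 7)
  | 3 => Multiplicative.ofAdd ((v.toAdd.1 + v.toAdd.2.1 + v.toAdd.2.2.1 + v.toAdd.2.2.2.1, v.toAdd.2.1, v.toAdd.2.2.2.1, v.toAdd.2.2.1, 6 * v.toAdd.2.2.2.2) : ZMod 2 × ZMod 2 × ZMod 2 × ZMod 2 × ZMod 7)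
  | 4 => Multiplicative.ofAdd ((v.toAdd.2.1 + v.toAdd.2.2.1, v.toAdd.2.1 + v.toAdd.2.2.1 + v.toAdd.2.2.2.1, v.toAdd.1 + v.toAdd.2.2.2.1, v.toAdd.1 + v.toAdd.2.1 + v.toAdd.2.2.2.1, v.toAdd.2.2.2.2) : ZMod 2 × ZMod 2 × ZMod 2 × ZMod 2 × ZMod 7)
  | 5 => Multiplicative.ofAdd ((v.toAdd.1 + v.toAdd.2.2.1, v.toAdd.2.2.1 + v.toAdd.2.2.2.1, v.toAdd.1 + v.toAdd.2.1, v.toAdd.1 + v.toAdd.2.2.1 + v.toAdd.2.2.2.1, 6 * v.toAdd.2.2.2.2) : ZMod 2 × ZMod 2 × ZMod 2 × ZMod 2 × ZMod 7)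
  | _ => v
theorem act25_one : ∀ n, act25 1 n = n := by decide +kernel
theorem act25_mul : ∀ q q' n, act25 (q * q') n = act25 q (act25 q' n) := by decide +kernel
theorem act25_hom : ∀ q n n', act25 q (n * n') = act25 q n * act25 q n' := by decide +kernel
abbrev G25 := V25 ⋊[mkAct act25 act25_one act25_mul act25_hom] Multiplicative (ZMod 6)

set_option maxRecDepth 100000 in
theorem fv25 : (Fc G25 1 = 1 ∧ Fc G25 2 = 44 ∧ Fc G25 3 = 33 ∧ Fc G25 4 = 128 ∧ Fc G25 6 = 300 ∧ Fc G25 7 = 7 ∧ Fc G25 12 = 384 ∧ Fc G25 14 = 140 ∧ Fc G25 21 = 231 ∧ Fc G25 28 = 224 ∧ Fc G25 42 = 588 ∧ Fc G25 84 = 672)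
    ∧ (∀ x : G25, x ^ 84 = 1) := by decide +kernel

theorem Fv25_1 : F G25 1 = 1 := by rw [F_eq_Fc]; exact fv25.1.1
theorem Fv25_2 : F G25 2 = 44 := by rw [F_eq_Fc]; exact fv25.1.2.1
theorem Fv25_3 : F G25 3 = 33 := by rw [F_eq_Fc]; exact fv25.1.2.2.1
theorem Fv25_4 : F G25 4 = 128 := by rw [F_eq_Fc]; exact fv25.1.2.2.2.1
theorem Fv25_6 : F G25 6 = 300 := by rw [F_eq_Fc]; exact fv25.1.2.2.2.2.1
theorem Fv25_7 : F G25 7 = 7 := by rw [F_eq_Fc]; exact fv25.1.2.2.2.2.2.1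
theorem Fv25_12 : F G25 12 = 384 := by rw [F_eq_Fc]; exact fv25.1.2.2.2.2.2.2.1
theorem Fv25_14 : F G25 14 = 140 := by rw [F_eq_Fc]; exact fv25.1.2.2.2.2.2.2.2.1
theorem Fv25_21 : F G25 21 = 231 := by rw [F_eq_Fc]; exact fv25.1.2.2.2.2.2.2.2.2.1
theorem Fv25_28 : F G25 28 = 224 := by rw [F_eq_Fc]; exact fv25.1.2.2.2.2.2.2.2.2.2.1
theorem Fv25_42 : F G25 42 = 588 := by rw [F_eq_Fc]; exact fv25.1.2.2.2.2.2.2.2.2.2.2.1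
theorem Fv25_84 : F G25 84 = 672 := by rw [F_eq_Fc]; exact fv25.1.2.2.2.2.2.2.2.2.2.2.2
theorem ex25 : ∀ x : G25, x ^ 84 = 1 := fv25.2

end Cfsg.Agent.helper28.OT
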