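import Cfsg.Agent.Lib_helper28_OT1

set_option autoImplicit false
namespace Cfsg.Agent.helper28.OT

abbrev G3 := Multiplicative (ZMod 4)

set_option maxRecDepth 100000 in
theorem fv3 : (Fc G3 1 = 1 ∧ Fc G3 2 = 2 ∧ Fc G3 3 = 1 ∧ Fc G3 4 = 4 ∧ Fc G3 6 = 2 ∧ Fc G3 7 = 1 ∧ Fc G3 12 = 4 ∧ Fc G3 14 = 2 ∧ Fc G3 21 = 1 ∧ Fc G3 28 = 4 ∧ Fc G3 42 = 2 ∧ Fc G3 84 = 4)
    ∧ (∀ x : G3, x ^ 84 = 1) := by decide +kernel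

theorem Fv3_1 : F G3 1 = 1 := by rw [F_eq_Fc]; exact fv3.1.1
theorem Fv3_2 : F G3 2 = 2 := by rw [F_eq_Fc]; exact fv3.1.2.1
theorem Fv3_3 : F G3 3 = 1 := by rw [F_eq_Fc]; exact fv3.1.2.2.1
theorem Fv3_4 : F G3 4 = 4 := by rw [F_eq_Fc]; exact fv3.1.2.2.2.1
theorem Fv3_6 : F G3 6 = 2 := by rw [F_eq_Fc]; exact fv3.1.2.2.2.2.1
theorem Fv3_7 : F G3 7 = 1 := by rw [F_eq_Fc]; exact fv3.1.2.2.2.2.2.1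
theorem Fv3_12 : F G3 12 = 4 := by rw [F_eq_Fc]; exact fv3.1.2.2.2.2.2.2.1
theorem Fv3_14 : F G3 14 = 2 := by rw [F_eq_Fc]; exact fv3.1.2.2.2.2.2.2.2.1
theorem Fv3_21 : F G3 21 = 1 := by rw [F_eq_Fc]; exact fv3.1.2.2.2.2.2.2.2.2.1
theorem Fv3_28 : F G3 28 = 4 := by rw [F_eq_Fc]; exact fv3.1.2.2.2.2.2.2.2.2.2.1
theorem Fv3_42 : F G3 42 = 2 := by rw [F_eq_Fc]; exact fv3.1.2.2.2.2.2.2.2.2.2.2.1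
theorem Fv3_84 : F G3 84 = 4 := by rw [F_eq_Fc]; exact fv3.1.2.2.2.2.2.2.2.2.2.2.2
theorem ex3 : ∀ x : G3, x ^ 84 = 1 := fv3.2

end Cfsg.Agent.helper28.OT
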