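import Cfsg.Agent.Lib_helper28_OT1

set_option autoImplicit false
namespace Cfsg.Agent.helper28.OT

abbrev V4 := Multiplicative (ZMod 3)
def sig4 : V4 → V4 := fun v =>
  Multiplicative.ofAdd (2 * v.toAdd : ZMod 3)
def act4 : Multiplicative (ZMod 2) → V4 → V4 := fun q v => sig4^[q.toAdd.val] v
theorem act4_one : ∀ n, act4 1 n = n := by decide +kernel
theorem act4_mul : ∀ q q' n, act4 (q * q') n = act4 q (act4 q' n) := by decide +kernel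
theorem act4_hom : ∀ q n n', act4 q (n * n') = act4 q n * act4 q n' := by decide +kernel
abbrev G4 := V4 ⋊[mkAct act4 act4_one act4_mul act4_hom] Multiplicative (ZMod 2)

set_option maxRecDepth 100000 in
theorem fv4 : (Fc G4 1 = 1 ∧ Fc G4 2 = 4 ∧ Fc G4 3 = 3 ∧ Fc G4 4 = 4 ∧ Fc G4 6 = 6 ∧ Fc G4 7 = 1 ∧ Fc G4 12 = 6 ∧ Fc G4 14 = 4 ∧ Fc G4 21 = 3 ∧ Fc G4 28 = 4 ∧ Fc G4 42 = 6 ∧ Fc G4 84 = 6)
    ∧ (∀ x : G4, x ^ 84 = 1) := by decide +kernel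

theorem Fv4_1 : F G4 1 = 1 := by rw [F_eq_Fc]; exact fv4.1.1
theorem Fv4_2 : F G4 2 = 4 := by rw [F_eq_Fc]; exact fv4.1.2.1
theorem Fv4_3 : F G4 3 = 3 := by rw [F_eq_Fc]; exact fv4.1.2.2.1
theorem Fv4_4 : F G4 4 = 4 := by rw [F_eq_Fc]; exact fv4.1.2.2.2.1
theorem Fv4_6 : F G4 6 = 6 := by rw [F_eq_Fc]; exact fv4.1.2.2.2.2.1
theorem Fv4_7 : F G4 7 = 1 := by rw [F_eq_Fc]; exact fv4.1.2.2.2.2.2.1
theorem Fv4_12 : F G4 12 = 6 := by rw [F_eq_Fc]; exact fv4.1.2.2.2.2.2.2.1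
theorem Fv4_14 : F G4 14 = 4 := by rw [F_eq_Fc]; exact fv4.1.2.2.2.2.2.2.2.1
theorem Fv4_21 : F G4 21 = 3 := by rw [F_eq_Fc]; exact fv4.1.2.2.2.2.2.2.2.2.1
theorem Fv4_28 : F G4 28 = 4 := by rw [F_eq_Fc]; exact fv4.1.2.2.2.2.2.2.2.2.2.1
theorem Fv4_42 : F G4 42 = 6 := by rw [F_eq_Fc]; exact fv4.1.2.2.2.2.2.2.2.2.2.2.1
theorem Fv4_84 : F G4 84 = 6 := by rw [F_eq_Fc]; exact fv4.1.2.2.2.2.2.2.2.2.2.2.2
theorem ex4 : ∀ x : G4, x ^ 84 = 1 := fv4.2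

end Cfsg.Agent.helper28.OT
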