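import Cfsg.Agent.Lib_helper28_OT1

set_option autoImplicit false
namespace Cfsg.Agent.helper28.OT

abbrev G5 := Multiplicative (ZMod 7)

set_option maxRecDepth 100000 in
theorem fv5 : (Fc G5 1 = 1 ∧ Fc G5 2 = 1 ∧ Fc G5 3 = 1 ∧ Fc G5 4 = 1 ∧ Fc G5 6 = 1 ∧ Fc G5 7 = 7 ∧ Fc G5 12 = 1 ∧ Fc G5 14 = 7 ∧ Fc G5 21 = 7 ∧ Fc G5 28 = 7 ∧ Fc G5 42 = 7 ∧ Fc G5 84 = 7)
    ∧ (∀ x : G5, x ^ 84 = 1) := by decide +kernel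

theorem Fv5_1 : F G5 1 = 1 := by rw [F_eq_Fc]; exact fv5.1.1
theorem Fv5_2 : F G5 2 = 1 := by rw [F_eq_Fc]; exact fv5.1.2.1
theorem Fv5_3 : F G5 3 = 1 := by rw [F_eq_Fc]; exact fv5.1.2.2.1
theorem Fv5_4 : F G5 4 = 1 := by rw [F_eq_Fc]; exact fv5.1.2.2.2.1
theorem Fv5_6 : F G5 6 = 1 := by rw [F_eq_Fc]; exact fv5.1.2.2.2.2.1
theorem Fv5_7 : F G5 7 = 7 := by rw [F_eq_Fc]; exact fv5.1.2.2.2.2.2.1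
theorem Fv5_12 : F G5 12 = 1 := by rw [F_eq_Fc]; exact fv5.1.2.2.2.2.2.2.1
theorem Fv5_14 : F G5 14 = 7 := by rw [F_eq_Fc]; exact fv5.1.2.2.2.2.2.2.2.1
theorem Fv5_21 : F G5 21 = 7 := by rw [F_eq_Fc]; exact fv5.1.2.2.2.2.2.2.2.2.1
theorem Fv5_28 : F G5 28 = 7 := by rw [F_eq_Fc]; exact fv5.1.2.2.2.2.2.2.2.2.2.1
theorem Fv5_42 : F G5 42 = 7 := by rw [F_eq_Fc]; exact fv5.1.2.2.2.2.2.2.2.2.2.2.1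
theorem Fv5_84 : F G5 84 = 7 := by rw [F_eq_Fc]; exact fv5.1.2.2.2.2.2.2.2.2.2.2.2
theorem ex5 : ∀ x : G5, x ^ 84 = 1 := fv5.2

end Cfsg.Agent.helper28.OT
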