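import Cfsg.Agent.Lib_helper28_OT1

set_option autoImplicit false
namespace Cfsg.Agent.helper28.OT

abbrev V6 := Multiplicative (ZMod 4)
def sig6 : V6 → V6 := fun v =>
  Multiplicative.ofAdd (3 * v.toAdd : ZMod 4)
def act6 : Multiplicative (ZMod 2) → V6 → V6 := fun q v => sig6^[q.toAdd.val] v
theorem act6_one : ∀ n, act6 1 n = n := by decide +kernel
theorem act6_mul : ∀ q q' n, act6 (q * q') n = act6 q (act6 q' n) := by decide +kernel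
theorem act6_hom : ∀ q n n', act6 q (n * n') = act6 q n * act6 q n' := by decide +kernel
abbrev G6 := V6 ⋊[mkAct act6 act6_one act6_mul act6_hom] Multiplicative (ZMod 2)

set_option maxRecDepth 100000 in
theorem fv6 : (Fc G6 1 = 1 ∧ Fc G6 2 = 6 ∧ Fc G6 3 = 1 ∧ Fc G6 4 = 8 ∧ Fc G6 6 = 6 ∧ Fc G6 7 = 1 ∧ Fc G6 12 = 8 ∧ Fc G6 14 = 6 ∧ Fc G6 21 = 1 ∧ Fc G6 28 = 8 ∧ Fc G6 42 = 6 ∧ Fc G6 84 = 8)
    ∧ (∀ x : G6, x ^ 84 = 1) := by decide +kernel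

theorem Fv6_1 : F G6 1 = 1 := by rw [F_eq_Fc]; exact fv6.1.1
theorem Fv6_2 : F G6 2 = 6 := by rw [F_eq_Fc]; exact fv6.1.2.1
theorem Fv6_3 : F G6 3 = 1 := by rw [F_eq_Fc]; exact fv6.1.2.2.1
theorem Fv6_4 : F G6 4 = 8 := by rw [F_eq_Fc]; exact fv6.1.2.2.2.1
theorem Fv6_6 : F G6 6 = 6 := by rw [F_eq_Fc]; exact fv6.1.2.2.2.2.1
theorem Fv6_7 : F G6 7 = 1 := by rw [F_eq_Fc]; exact fv6.1.2.2.2.2.2.1
theorem Fv6_12 : F G6 12 = 8 := by rw [F_eq_Fc]; exact fv6.1.2.2.2.2.2.2.1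
theorem Fv6_14 : F G6 14 = 6 := by rw [F_eq_Fc]; exact fv6.1.2.2.2.2.2.2.2.1
theorem Fv6_21 : F G6 21 = 1 := by rw [F_eq_Fc]; exact fv6.1.2.2.2.2.2.2.2.2.1
theorem Fv6_28 : F G6 28 = 8 := by rw [F_eq_Fc]; exact fv6.1.2.2.2.2.2.2.2.2.2.1
theorem Fv6_42 : F G6 42 = 6 := by rw [F_eq_Fc]; exact fv6.1.2.2.2.2.2.2.2.2.2.2.1
theorem Fv6_84 : F G6 84 = 8 := by rw [F_eq_Fc]; exact fv6.1.2.2.2.2.2.2.2.2.2.2.2
theorem ex6 : ∀ x : G6, x ^ 84 = 1 := fv6.2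

end Cfsg.Agent.helper28.OT
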