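import Cfsg.Agent.Lib_helper28_OT1

set_option autoImplicit false
namespace Cfsg.Agent.helper28.OT

abbrev V7 := Multiplicative (ZMod 3)
def sig7 : V7 → V7 := fun v =>
  Multiplicative.ofAdd (2 * v.toAdd : ZMod 3)
def act7 : Multiplicative (ZMod 4) → V7 → V7 := fun q v => sig7^[q.toAdd.val] v
theorem act7_one : ∀ n, act7 1 n = n := by decide +kernel
theorem act7_mul : ∀ q q' n, act7 (q * q') n = act7 q (act7 q' n) := by decide +kernel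
theorem act7_hom : ∀ q n n', act7 q (n * n') = act7 q n * act7 q n' := by decide +kernel
abbrev G7 := V7 ⋊[mkAct act7 act7_one act7_mul act7_hom] Multiplicative (ZMod 4)

set_option maxRecDepth 100000 in
theorem fv7 : (Fc G7 1 = 1 ∧ Fc G7 2 = 2 ∧ Fc G7 3 = 3 ∧ Fc G7 4 = 8 ∧ Fc G7 6 = 6 ∧ Fc G7 7 = 1 ∧ Fc G7 12 = 12 ∧ Fc G7 14 = 2 ∧ Fc G7 21 = 3 ∧ Fc G7 28 = 8 ∧ Fc G7 42 = 6 ∧ Fc G7 84 = 12)
    ∧ (∀ x : G7, x ^ 84 = 1) := by decide +kernel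

theorem Fv7_1 : F G7 1 = 1 := by rw [F_eq_Fc]; exact fv7.1.1
theorem Fv7_2 : F G7 2 = 2 := by rw [F_eq_Fc]; exact fv7.1.2.1
theorem Fv7_3 : F G7 3 = 3 := by rw [F_eq_Fc]; exact fv7.1.2.2.1
theorem Fv7_4 : F G7 4 = 8 := by rw [F_eq_Fc]; exact fv7.1.2.2.2.1
theorem Fv7_6 : F G7 6 = 6 := by rw [F_eq_Fc]; exact fv7.1.2.2.2.2.1
theorem Fv7_7 : F G7 7 = 1 := by rw [F_eq_Fc]; exact fv7.1.2.2.2.2.2.1
theorem Fv7_12 : F G7 12 = 12 := by rw [F_eq_Fc]; exact fv7.1.2.2.2.2.2.2.1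
theorem Fv7_14 : F G7 14 = 2 := by rw [F_eq_Fc]; exact fv7.1.2.2.2.2.2.2.2.1
theorem Fv7_21 : F G7 21 = 3 := by rw [F_eq_Fc]; exact fv7.1.2.2.2.2.2.2.2.2.1
theorem Fv7_28 : F G7 28 = 8 := by rw [F_eq_Fc]; exact fv7.1.2.2.2.2.2.2.2.2.2.1
theorem Fv7_42 : F G7 42 = 6 := by rw [F_eq_Fc]; exact fv7.1.2.2.2.2.2.2.2.2.2.2.1
theorem Fv7_84 : F G7 84 = 12 := by rw [F_eq_Fc]; exact fv7.1.2.2.2.2.2.2.2.2.2.2.2
theorem ex7 : ∀ x : G7, x ^ 84 = 1 := fv7.2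

end Cfsg.Agent.helper28.OT
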