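import Cfsg.Agent.Lib_helper28_OT1

set_option autoImplicit false
namespace Cfsg.Agent.helper28.OT

abbrev V8 := Multiplicative (ZMod 7)
def sig8 : V8 → V8 := fun v =>
  Multiplicative.ofAdd (6 * v.toAdd : ZMod 7)
def act8 : Multiplicative (ZMod 2) → V8 → V8 := fun q v => sig8^[q.toAdd.val] v
theorem act8_one : ∀ n, act8 1 n = n := by decide +kernel
theorem act8_mul : ∀ q q' n, act8 (q * q') n = act8 q (act8 q' n) := by decide +kernel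
theorem act8_hom : ∀ q n n', act8 q (n * n') = act8 q n * act8 q n' := by decide +kernel
abbrev G8 := V8 ⋊[mkAct act8 act8_one act8_mul act8_hom] Multiplicative (ZMod 2)

set_option maxRecDepth 100000 in
theorem fv8 : (Fc G8 1 = 1 ∧ Fc G8 2 = 8 ∧ Fc G8 3 = 1 ∧ Fc G8 4 = 8 ∧ Fc G8 6 = 8 ∧ Fc G8 7 = 7 ∧ Fc G8 12 = 8 ∧ Fc G8 14 = 14 ∧ Fc G8 21 = 7 ∧ Fc G8 28 = 14 ∧ Fc G8 42 = 14 ∧ Fc G8 84 = 14)
    ∧ (∀ x : G8, x ^ 84 = 1) := by decide +kernel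

theorem Fv8_1 : F G8 1 = 1 := by rw [F_eq_Fc]; exact fv8.1.1
theorem Fv8_2 : F G8 2 = 8 := by rw [F_eq_Fc]; exact fv8.1.2.1
theorem Fv8_3 : F G8 3 = 1 := by rw [F_eq_Fc]; exact fv8.1.2.2.1
theorem Fv8_4 : F G8 4 = 8 := by rw [F_eq_Fc]; exact fv8.1.2.2.2.1
theorem Fv8_6 : F G8 6 = 8 := by rw [F_eq_Fc]; exact fv8.1.2.2.2.2.1
theorem Fv8_7 : F G8 7 = 7 := by rw [F_eq_Fc]; exact fv8.1.2.2.2.2.2.1
theorem Fv8_12 : F G8 12 = 8 := by rw [F_eq_Fc]; exact fv8.1.2.2.2.2.2.2.1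
theorem Fv8_14 : F G8 14 = 14 := by rw [F_eq_Fc]; exact fv8.1.2.2.2.2.2.2.2.1
theorem Fv8_21 : F G8 21 = 7 := by rw [F_eq_Fc]; exact fv8.1.2.2.2.2.2.2.2.2.1
theorem Fv8_28 : F G8 28 = 14 := by rw [F_eq_Fc]; exact fv8.1.2.2.2.2.2.2.2.2.2.1
theorem Fv8_42 : F G8 42 = 14 := by rw [F_eq_Fc]; exact fv8.1.2.2.2.2.2.2.2.2.2.2.1
theorem Fv8_84 : F G8 84 = 14 := by rw [F_eq_Fc]; exact fv8.1.2.2.2.2.2.2.2.2.2.2.2
theorem ex8 : ∀ x : G8, x ^ 84 = 1 := fv8.2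

end Cfsg.Agent.helper28.OT
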