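import Cfsg.Agent.Lib_helper28_OT1

set_option autoImplicit false
namespace Cfsg.Agent.helper28.OT

abbrev V9 := Multiplicative (ZMod 2 × ZMod 2 × ZMod 3)
def sig9 : V9 → V9 := fun v =>
  Multiplicative.ofAdd ((v.toAdd.2.1, v.toAdd.1, 2 * v.toAdd.2.2) : ZMod 2 × ZMod 2 × ZMod 3)
def act9 : Multiplicative (ZMod 2) → V9 → V9 := fun q v => sig9^[q.toAdd.val] v
theorem act9_one : ∀ n, act9 1 n = n := by decide +kernel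
theorem act9_mul : ∀ q q' n, act9 (q * q') n = act9 q (act9 q' n) := by decide +kernel
theorem act9_hom : ∀ q n n', act9 q (n * n') = act9 q n * act9 q n' := by decide +kernel
abbrev G9 := V9 ⋊[mkAct act9 act9_one act9_mul act9_hom] Multiplicative (ZMod 2)

set_option maxRecDepth 100000 in
theorem fv9 : (Fc G9 1 = 1 ∧ Fc G9 2 = 10 ∧ Fc G9 3 = 3 ∧ Fc G9 4 = 16 ∧ Fc G9 6 = 18 ∧ Fc G9 7 = 1 ∧ Fc G9 12 = 24 ∧ Fc G9 14 = 10 ∧ Fc G9 21 = 3 ∧ Fc G9 28 = 16 ∧ Fc G9 42 = 18 ∧ Fc G9 84 = 24)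
    ∧ (∀ x : G9, x ^ 84 = 1) := by decide +kernel

theorem Fv9_1 : F G9 1 = 1 := by rw [F_eq_Fc]; exact fv9.1.1
theorem Fv9_2 : F G9 2 = 10 := by rw [F_eq_Fc]; exact fv9.1.2.1
theorem Fv9_3 : F G9 3 = 3 := by rw [F_eq_Fc]; exact fv9.1.2.2.1
theorem Fv9_4 : F G9 4 = 16 := by rw [F_eq_Fc]; exact fv9.1.2.2.2.1
theorem Fv9_6 : F G9 6 = 18 := by rw [F_eq_Fc]; exact fv9.1.2.2.2.2.1
theorem Fv9_7 : F G9 7 = 1 := by rw [F_eq_Fc]; exact fv9.1.2.2.2.2.2.1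
theorem Fv9_12 : F G9 12 = 24 := by rw [F_eq_Fc]; exact fv9.1.2.2.2.2.2.2.1
theorem Fv9_14 : F G9 14 = 10 := by rw [F_eq_Fc]; exact fv9.1.2.2.2.2.2.2.2.1
theorem Fv9_21 : F G9 21 = 3 := by rw [F_eq_Fc]; exact fv9.1.2.2.2.2.2.2.2.2.1
theorem Fv9_28 : F G9 28 = 16 := by rw [F_eq_Fc]; exact fv9.1.2.2.2.2.2.2.2.2.2.1
theorem Fv9_42 : F G9 42 = 18 := by rw [F_eq_Fc]; exact fv9.1.2.2.2.2.2.2.2.2.2.2.1
theorem Fv9_84 : F G9 84 = 24 := by rw [F_eq_Fc]; exact fv9.1.2.2.2.2.2.2.2.2.2.2.2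
theorem ex9 : ∀ x : G9, x ^ 84 = 1 := fv9.2

end Cfsg.Agent.helper28.OT
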