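import Cfsg.Agent.Lib_helper28_GolayGen
set_option autoImplicit false

/-! Octads of an abstract self-dual `[24,12,≥8]` binary code: intersections, disjoint octads,
and the distances in the disjointness graph. -/

namespace Cfsg.Agent.helper28.Octad

open Finset Cfsg.Agent.helper28.Golay Cfsg.Agent.helper28.GolayGen

variable {ι : Type*} [Fintype ι] [DecidableEq ι]

/-- the hypotheses characterising the extended binary Golay code -/
structure IsGolay (C : Submodule (ZMod 2) (ι → ZMod 2)) : Prop where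
  card : Fintype.card ι = 24
  dim : Module.finrank (ZMod 2) C = 12
  orth : ∀ v ∈ C, ∀ w ∈ C, ∑ i, v i * w i = 0
  min : ∀ w ∈ C, w ≠ 0 → 8 ≤ hammingNorm w

/-- octads -/
def Oct (C : Submodule (ZMod 2) (ι → ZMod 2)) : Set (Finset ι) :=
  Cfsg.wordsOfWeight (C : Set (ι → ZMod 2)) 8

lemma mem_supports (C : Submodule (ZMod 2) (ι → ZMod 2)) (o : Finset ι) :
    o ∈ Cfsg.supports (C : Set (ι → ZMod 2)) ↔ ind o ∈ C := by
  constructor
  · rintro ⟨c, hc, rfl⟩
    change ind (supp c) ∈ C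
    rw [ind_supp]; exact hc
  · intro h
    exact ⟨ind o, h, supp_ind o⟩

lemma mem_Oct (C : Submodule (ZMod 2) (ι → ZMod 2)) (o : Finset ι) :
    o ∈ Oct C ↔ ind o ∈ C ∧ o.card = 8 := by
  unfold Oct Cfsg.wordsOfWeight
  rw [Set.mem_ofPred_eq, mem_supports]

lemma wt_ind (S : Finset ι) : hammingNorm (ind S) = S.card := by
  rw [wt_eq, supp_ind]

lemma ind_sub (S T : Finset ι) : ind S - ind T = ind ((S \ T) ∪ (T \ S)) := by
  apply supp_injective
  rw [supp_sub, supp_ind, supp_ind, supp_ind]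

lemma ind_compl (S : Finset ι) : (fun _ => 1 : ι → ZMod 2) - ind S = ind Sᶜ := by
  apply supp_injective
  rw [supp_sub, supp_ind, supp_ind]
  have hs1 : supp (fun _ => 1 : ι → ZMod 2) = Finset.univ := by
    ext i; simp [mem_supp]
  rw [hs1]
  ext i
  simp

lemma card_symm (S T : Finset ι) :
    ((S \ T) ∪ (T \ S)).card + 2 * (S ∩ T).card = S.card + T.card := by
  have := wt_sub (ind S) (ind T)
  rw [ind_sub, wt_ind, wt_ind, wt_ind, supp_ind, supp_ind] at this
  exact this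

lemma symm_mem (C : Submodule (ZMod 2) (ι → ZMod 2)) {S T : Finset ι} (hS : ind S ∈ C)
    (hT : ind T ∈ C) : ind ((S \ T) ∪ (T \ S)) ∈ C := by
  rw [← ind_sub]; exact C.sub_mem hS hT

variable {C : Submodule (ZMod 2) (ι → ZMod 2)}

lemma compl_mem (h : IsGolay C) {S : Finset ι} (hS : ind S ∈ C) : ind Sᶜ ∈ C := by
  rw [← ind_compl]
  exact C.sub_mem (ones_mem h.card C h.dim h.orth) hS

lemma card_cases (h : IsGolay C) {S : Finset ι} (hS : ind S ∈ C) :
    S.card = 0 ∨ S.card = 8 ∨ S.card = 12 ∨ S.card = 16 ∨ S.card = 24 := by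
  have := weight_cases h.card C h.dim h.orth h.min (ind S) hS
  rw [wt_ind] at this
  exact this

lemma inter_cases (h : IsGolay C) {o o' : Finset ι} (ho : o ∈ Oct C) (ho' : o' ∈ Oct C)
    (hne : o ≠ o') : (o ∩ o').card = 0 ∨ (o ∩ o').card = 2 ∨ (o ∩ o').card = 4 := by
  rw [mem_Oct] at ho ho'
  have h1 := card_symm o o'
  have h2 := card_cases h (symm_mem C ho.1 ho'.1)
  rw [ho.2, ho'.2] at h1
  rcases h2 with h2 | h2 | h2 | h2 | h2
  · exfalso
    apply hne
    have h8 : (o ∩ o').card = 8 := by omega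
    have e1 : o ∩ o' = o := Finset.eq_of_subset_of_card_le Finset.inter_subset_left (by rw [h8, ho.2])
    have e2 : o ∩ o' = o' := Finset.eq_of_subset_of_card_le Finset.inter_subset_right (by rw [h8, ho'.2])
    rw [← e1]; nth_rewrite 2 [← e2]; rfl
  · right; right; omega
  · right; left; omega
  · left; omega
  · omega

lemma symm_mem_Oct (_h : IsGolay C) {o o' : Finset ι} (ho : o ∈ Oct C) (ho' : o' ∈ Oct C)
    (h4 : (o ∩ o').card = 4) : (o \ o') ∪ (o' \ o) ∈ Oct C := by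
  rw [mem_Oct] at ho ho' ⊢
  refine ⟨symm_mem C ho.1 ho'.1, ?_⟩
  have h1 := card_symm o o'
  rw [ho.2, ho'.2] at h1
  omega

lemma compl_union_mem_Oct (h : IsGolay C) {o o' : Finset ι} (ho : o ∈ Oct C) (ho' : o' ∈ Oct C)
    (hd : Disjoint o o') : (o ∪ o')ᶜ ∈ Oct C := by
  rw [mem_Oct] at ho ho' ⊢
  have e : (o \ o') ∪ (o' \ o) = o ∪ o' := by
    rw [Finset.sdiff_eq_self_of_disjoint hd, Finset.sdiff_eq_self_of_disjoint hd.symm]
  have h1 := symm_mem C ho.1 ho'.1
  rw [e] at h1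
  refine ⟨compl_mem h h1, ?_⟩
  rw [Finset.card_compl, h.card, Finset.card_union_of_disjoint hd, ho.2, ho'.2]

lemma exists_octad (h : IsGolay C) (S : Finset ι) (hS : S.card ≤ 5) : ∃ o ∈ Oct C, S ⊆ o := by
  obtain ⟨S', hSS', hS'⟩ := Finset.exists_superset_card_eq hS (by rw [h.card]; norm_num)
  obtain ⟨c, hc, h8, hSc⟩ := steiner_exists h.card C h.dim h.orth h.min S' hS'
  refine ⟨supp c, ?_, hSS'.trans hSc⟩
  rw [mem_Oct, ind_supp, ← wt_eq]
  exact ⟨hc, h8⟩

/-- two distinct octads through a common tetrad meet exactly in it -/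
lemma inter_eq_of_tetrad (h : IsGolay C) {o o' T : Finset ι} (ho : o ∈ Oct C) (ho' : o' ∈ Oct C)
    (hne : o ≠ o') (hT : T.card = 4) (hTo : T ⊆ o) (hTo' : T ⊆ o') : o ∩ o' = T := by
  have hsub : T ⊆ o ∩ o' := Finset.subset_inter hTo hTo'
  have hle := Finset.card_le_card hsub
  symm
  apply Finset.eq_of_subset_of_card_le hsub
  rcases inter_cases h ho ho' hne with h' | h' | h' <;> omega

lemma exists_notMem (h : IsGolay C) (S : Finset ι) (hS : S.card < 24) : ∃ p, p ∉ S := by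
  by_contra hcon
  push Not at hcon
  have : S = Finset.univ := Finset.eq_univ_iff_forall.2 hcon
  rw [this, Finset.card_univ, h.card] at hS
  exact lt_irrefl _ hS

/-- octads meeting in four points have a common disjoint octad -/
lemma common_disjoint (h : IsGolay C) {o o' : Finset ι} (ho : o ∈ Oct C) (ho' : o' ∈ Oct C)
    (h4 : (o ∩ o').card = 4) : ∃ e ∈ Oct C, Disjoint e o ∧ Disjoint e o' := by
  have ho8 := ((mem_Oct C o).1 ho).2
  have ho8' := ((mem_Oct C o').1 ho').2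
  set T := o ∩ o' with hT
  have hTo : T ⊆ o := Finset.inter_subset_left
  have hTo' : T ⊆ o' := Finset.inter_subset_right
  have hU : (o ∪ o').card = 12 := by
    have := Finset.card_union_add_card_inter o o'
    rw [← hT, h4, ho8, ho8'] at this
    omega
  obtain ⟨p, hp⟩ := exists_notMem h (o ∪ o') (by rw [hU]; norm_num)
  rw [Finset.mem_union, not_or] at hp
  have hpT : p ∉ T := fun hh => hp.1 (hTo hh)
  obtain ⟨e1, he1, hsub1⟩ := exists_octad h (insert p T)
    (by rw [Finset.card_insert_of_notMem hpT, h4])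
  have he18 := ((mem_Oct C e1).1 he1).2
  have hp1 : p ∈ e1 := hsub1 (Finset.mem_insert_self p T)
  have hT1 : T ⊆ e1 := (Finset.subset_insert p T).trans hsub1
  have hne1 : e1 ≠ o := fun hh => hp.1 (hh ▸ hp1)
  have hne1' : e1 ≠ o' := fun hh => hp.2 (hh ▸ hp1)
  have i1 : e1 ∩ o = T := inter_eq_of_tetrad h he1 ho hne1 h4 hT1 hTo
  have i1' : e1 ∩ o' = T := inter_eq_of_tetrad h he1 ho' hne1' h4 hT1 hTo'
  have hU2 : (o ∪ o' ∪ e1).card = 16 := by
    have := Finset.card_union_add_card_inter (o ∪ o') e1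
    have e : (o ∪ o') ∩ e1 = T := by
      rw [Finset.union_inter_distrib_right, Finset.inter_comm o e1, Finset.inter_comm o' e1, i1, i1',
        Finset.union_self]
    rw [e, h4, hU, he18] at this
    omega
  obtain ⟨q, hq⟩ := exists_notMem h (o ∪ o' ∪ e1) (by rw [hU2]; norm_num)
  rw [Finset.mem_union, Finset.mem_union, not_or, not_or] at hq
  have hqT : q ∉ T := fun hh => hq.1.1 (hTo hh)
  obtain ⟨e2, he2, hsub2⟩ := exists_octad h (insert q T)
    (by rw [Finset.card_insert_of_notMem hqT, h4])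
  have hq2 : q ∈ e2 := hsub2 (Finset.mem_insert_self q T)
  have hT2 : T ⊆ e2 := (Finset.subset_insert q T).trans hsub2
  have hne2 : e2 ≠ o := fun hh => hq.1.1 (hh ▸ hq2)
  have hne2' : e2 ≠ o' := fun hh => hq.1.2 (hh ▸ hq2)
  have hne12 : e2 ≠ e1 := fun hh => hq.2 (hh ▸ hq2)
  have i2 : e2 ∩ o = T := inter_eq_of_tetrad h he2 ho hne2 h4 hT2 hTo
  have i2' : e2 ∩ o' = T := inter_eq_of_tetrad h he2 ho' hne2' h4 hT2 hTo'
  have i12 : e2 ∩ e1 = T := inter_eq_of_tetrad h he2 he1 hne12 h4 hT2 hT1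
  refine ⟨(e2 \ e1) ∪ (e1 \ e2), symm_mem_Oct h he2 he1 (by rw [i12, h4]), ?_, ?_⟩
  · rw [Finset.disjoint_left]
    intro x hx hxo
    rw [Finset.mem_union, Finset.mem_sdiff, Finset.mem_sdiff] at hx
    rcases hx with ⟨hx2, hx1⟩ | ⟨hx1, hx2⟩
    · have : x ∈ e2 ∩ o := Finset.mem_inter.2 ⟨hx2, hxo⟩
      rw [i2] at this
      exact hx1 (hT1 this)
    · have : x ∈ e1 ∩ o := Finset.mem_inter.2 ⟨hx1, hxo⟩
      rw [i1] at this
      exact hx2 (hT2 this)
  · rw [Finset.disjoint_left]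
    intro x hx hxo
    rw [Finset.mem_union, Finset.mem_sdiff, Finset.mem_sdiff] at hx
    rcases hx with ⟨hx2, hx1⟩ | ⟨hx1, hx2⟩
    · have : x ∈ e2 ∩ o' := Finset.mem_inter.2 ⟨hx2, hxo⟩
      rw [i2'] at this
      exact hx1 (hT1 this)
    · have : x ∈ e1 ∩ o' := Finset.mem_inter.2 ⟨hx1, hxo⟩
      rw [i1'] at this
      exact hx2 (hT2 this)

/-- octads meeting in two points have no common disjoint octad -/
lemma no_common_disjoint (h : IsGolay C) {o o' e : Finset ι} (ho : o ∈ Oct C) (ho' : o' ∈ Oct C)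
    (h2 : (o ∩ o').card = 2) (he : e ∈ Oct C) (hd : Disjoint e o) (hd' : Disjoint e o') : False := by
  rw [mem_Oct] at ho ho' he
  have hD := symm_mem C ho.1 ho'.1
  have hDc := card_symm o o'
  rw [ho.2, ho'.2, h2] at hDc
  set D := (o \ o') ∪ (o' \ o) with hDdef
  have hdis : Disjoint e D := by
    rw [hDdef, Finset.disjoint_union_right]
    exact ⟨hd.mono_right Finset.sdiff_subset, hd'.mono_right Finset.sdiff_subset⟩
  have hE := symm_mem C he.1 hD
  have hEc := card_symm e D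
  rw [Finset.disjoint_iff_inter_eq_empty.1 hdis, Finset.card_empty, he.2] at hEc
  rcases card_cases h hE with h' | h' | h' | h' | h' <;> omega

lemma exists_disjoint (h : IsGolay C) {o : Finset ι} (ho : o ∈ Oct C) :
    ∃ e ∈ Oct C, Disjoint e o := by
  have ho8 := ((mem_Oct C o).1 ho).2
  obtain ⟨T, hTo, hT4⟩ := Finset.exists_subset_card_eq (s := o) (n := 4) (by rw [ho8]; norm_num)
  obtain ⟨p, hp⟩ := exists_notMem h o (by rw [ho8]; norm_num)
  have hpT : p ∉ T := fun hh => hp (hTo hh)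
  obtain ⟨e1, he1, hsub1⟩ := exists_octad h (insert p T)
    (by rw [Finset.card_insert_of_notMem hpT, hT4])
  have hp1 : p ∈ e1 := hsub1 (Finset.mem_insert_self p T)
  have hT1 : T ⊆ e1 := (Finset.subset_insert p T).trans hsub1
  have hne1 : o ≠ e1 := fun hh => hp (hh ▸ hp1)
  have i1 : o ∩ e1 = T := inter_eq_of_tetrad h ho he1 hne1 hT4 hTo hT1
  obtain ⟨e, he, hd, -⟩ := common_disjoint h ho he1 (by rw [i1, hT4])
  exact ⟨e, he, hd⟩

/-- octads meeting in two points are joined by a path of length three in the disjointness graph -/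
lemma path3 (h : IsGolay C) {o o' : Finset ι} (ho : o ∈ Oct C) (ho' : o' ∈ Oct C)
    (h2 : (o ∩ o').card = 2) :
    ∃ e ∈ Oct C, ∃ e' ∈ Oct C, Disjoint o e ∧ Disjoint e e' ∧ Disjoint e' o' := by
  have ho8 := ((mem_Oct C o).1 ho).2
  have ho8' := ((mem_Oct C o').1 ho').2
  obtain ⟨e0, he0, hd0⟩ := exists_disjoint h ho
  have he1 := compl_union_mem_Oct h ho he0 hd0.symm
  set e1 := (o ∪ e0)ᶜ with he1def
  have hd1 : Disjoint e1 o := by
    rw [Finset.disjoint_left]
    intro x hx hxo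
    rw [he1def, Finset.mem_compl, Finset.mem_union, not_or] at hx
    exact hx.1 hxo
  -- o' is the disjoint union of its intersections with o, e0, e1
  have hsplit : (o' ∩ o).card + (o' ∩ e0).card + (o' ∩ e1).card = 8 := by
    rw [← ho8']
    have e : o' = (o' ∩ o) ∪ (o' ∩ e0) ∪ (o' ∩ e1) := by
      ext x
      simp only [Finset.mem_union, Finset.mem_inter, he1def, Finset.mem_compl]
      tauto
    have d1 : Disjoint (o' ∩ o) (o' ∩ e0) :=
      (hd0.symm.mono Finset.inter_subset_right Finset.inter_subset_right)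
    have d2 : Disjoint ((o' ∩ o) ∪ (o' ∩ e0)) (o' ∩ e1) := by
      rw [Finset.disjoint_left]
      intro x hx hx1
      rw [Finset.mem_inter, he1def, Finset.mem_compl, Finset.mem_union, not_or] at hx1
      rw [Finset.mem_union, Finset.mem_inter, Finset.mem_inter] at hx
      rcases hx with hx | hx
      · exact hx1.2.1 hx.2
      · exact hx1.2.2 hx.2
    nth_rewrite 4 [e]
    rw [Finset.card_union_of_disjoint d2, Finset.card_union_of_disjoint d1]
  rw [Finset.inter_comm o' o, h2] at hsplit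
  have hne0 : o' ≠ e0 := by
    intro hh
    rw [hh, Finset.disjoint_iff_inter_eq_empty.1 hd0.symm, Finset.card_empty] at h2
    omega
  have hne1 : o' ≠ e1 := by
    intro hh
    rw [hh, Finset.disjoint_iff_inter_eq_empty.1 hd1.symm, Finset.card_empty] at h2
    omega
  have c0 := inter_cases h ho' he0 hne0
  have c1 := inter_cases h ho' he1 hne1
  have n0 : (o' ∩ e0).card ≠ 0 := by
    intro hh
    rw [Finset.card_eq_zero, ← Finset.disjoint_iff_inter_eq_empty] at hh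
    exact no_common_disjoint h ho ho' h2 he0 hd0 hh.symm
  have n1 : (o' ∩ e1).card ≠ 0 := by
    intro hh
    rw [Finset.card_eq_zero, ← Finset.disjoint_iff_inter_eq_empty] at hh
    exact no_common_disjoint h ho ho' h2 he1 hd1 hh.symm
  have hcase : (e0 ∩ o').card = 4 ∨ (e1 ∩ o').card = 4 := by
    rw [Finset.inter_comm e0, Finset.inter_comm e1]
    omega
  rcases hcase with h4 | h4
  · obtain ⟨e', he', hde, hdo⟩ := common_disjoint h he0 ho' h4
    exact ⟨e0, he0, e', he', hd0.symm, hde.symm, hdo⟩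
  · obtain ⟨e', he', hde, hdo⟩ := common_disjoint h he1 ho' h4
    exact ⟨e1, he1, e', he', hd1.symm, hde.symm, hdo⟩


/-! ### the disjointness graph -/

lemma adj_iff (B : Set (Finset ι)) (b c : B) :
    (Cfsg.blockGraph B).Adj b c ↔ b ≠ c ∧ Disjoint (b : Finset ι) (c : Finset ι) := by
  unfold Cfsg.blockGraph
  rw [SimpleGraph.fromRel_adj]
  constructor
  · rintro ⟨h, h' | h'⟩
    exacts [⟨h, h'⟩, ⟨h, h'.symm⟩]
  · rintro ⟨h, h'⟩; exact ⟨h, Or.inl h'⟩

lemma adj_oct (b c : Oct C) :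
    (Cfsg.blockGraph (Oct C)).Adj b c ↔ Disjoint (b : Finset ι) (c : Finset ι) := by
  rw [adj_iff]
  constructor
  · exact fun h => h.2
  · intro h
    refine ⟨?_, h⟩
    intro e
    rw [e, Finset.disjoint_self_iff_empty] at h
    have := ((mem_Oct C _).1 c.2).2
    rw [h] at this
    simp at this

lemma graph_dist {V : Type*} (G : SimpleGraph V) (hconn : G.Connected) (u v : V) (hne : u ≠ v) :
    (G.dist u v = 2 ↔ ¬ G.Adj u v ∧ ∃ w, G.Adj u w ∧ G.Adj w v) ∧
    (¬ G.Adj u v → (¬ ∃ w, G.Adj u w ∧ G.Adj w v) →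
      (∃ w w', G.Adj u w ∧ G.Adj w w' ∧ G.Adj w' v) → G.dist u v = 3) := by
  have hr : G.Reachable u v := hconn.preconnected u v
  have h2 : G.dist u v = 2 ↔ ¬ G.Adj u v ∧ ∃ w, G.Adj u w ∧ G.Adj w v := by
    have e : G.dist u v = 2 ↔ G.edist u v = 2 := by
      rw [← hr.coe_dist_eq_edist]
      exact_mod_cast Iff.rfl
    rw [e, SimpleGraph.edist_eq_two_iff]
    constructor
    · rintro ⟨-, hna, w, hw⟩
      rw [SimpleGraph.mem_commonNeighbors] at hw
      exact ⟨hna, w, hw.1, hw.2.symm⟩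
    · rintro ⟨hna, w, hw1, hw2⟩
      exact ⟨hne, hna, w, (SimpleGraph.mem_commonNeighbors G).2 ⟨hw1, hw2.symm⟩⟩
  refine ⟨h2, ?_⟩
  intro hna hnc ⟨w, w', a1, a2, a3⟩
  have hle : G.dist u v ≤ 3 :=
    SimpleGraph.dist_le (SimpleGraph.Walk.cons a1 (SimpleGraph.Walk.cons a2 (SimpleGraph.Walk.cons a3 SimpleGraph.Walk.nil)))
  have hpos := hconn.pos_dist_of_ne hne
  have h1 : G.dist u v ≠ 1 := fun hh => hna (SimpleGraph.dist_eq_one_iff_adj.1 hh)
  have h2' : G.dist u v ≠ 2 := fun hh => hnc (h2.1 hh).2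
  omega

theorem octad_graph (h : IsGolay C) (o o' : Finset ι) (ho : o ∈ Oct C) (ho' : o' ∈ Oct C)
    (hne : o ≠ o') :
    (Cfsg.blockGraph (Oct C)).Connected ∧
    ((Cfsg.blockGraph (Oct C)).dist ⟨o, ho⟩ ⟨o', ho'⟩ = 1 ↔ (o ∩ o').card = 0) ∧
    ((Cfsg.blockGraph (Oct C)).dist ⟨o, ho⟩ ⟨o', ho'⟩ = 2 ↔ (o ∩ o').card = 4) ∧
    ((Cfsg.blockGraph (Oct C)).dist ⟨o, ho⟩ ⟨o', ho'⟩ = 3 ↔ (o ∩ o').card = 2) := by
  set G := Cfsg.blockGraph (Oct C) with hG
  have key : ∀ u v : Oct C, u ≠ v →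
      (((u : Finset ι) ∩ (v : Finset ι)).card = 0 ∧ G.Adj u v) ∨
      (((u : Finset ι) ∩ (v : Finset ι)).card = 4 ∧ ¬ G.Adj u v ∧ ∃ w, G.Adj u w ∧ G.Adj w v) ∨
      (((u : Finset ι) ∩ (v : Finset ι)).card = 2 ∧ ¬ G.Adj u v ∧ (¬ ∃ w, G.Adj u w ∧ G.Adj w v) ∧
        ∃ w w', G.Adj u w ∧ G.Adj w w' ∧ G.Adj w' v) := by
    intro u v huv
    have hne' : (u : Finset ι) ≠ (v : Finset ι) := fun e => huv (Subtype.ext e)
    have hnadj : ((u : Finset ι) ∩ (v : Finset ι)).card ≠ 0 → ¬ G.Adj u v := by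
      intro h0 hadj
      rw [hG, adj_oct, Finset.disjoint_iff_inter_eq_empty] at hadj
      rw [hadj] at h0
      exact h0 Finset.card_empty
    rcases inter_cases h u.2 v.2 hne' with h0 | h2 | h4
    · left
      refine ⟨h0, ?_⟩
      rw [hG, adj_oct, Finset.disjoint_iff_inter_eq_empty, ← Finset.card_eq_zero]
      exact h0
    · right; right
      refine ⟨h2, hnadj (by omega), ?_, ?_⟩
      · rintro ⟨w, hw1, hw2⟩
        rw [hG, adj_oct] at hw1 hw2
        exact no_common_disjoint h u.2 v.2 h2 w.2 hw1.symm hw2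
      · obtain ⟨e, he, e', he', d1, d2, d3⟩ := path3 h u.2 v.2 h2
        refine ⟨⟨e, he⟩, ⟨e', he'⟩, ?_, ?_, ?_⟩
        · rw [hG, adj_oct]; exact d1
        · rw [hG, adj_oct]; exact d2
        · rw [hG, adj_oct]; exact d3
    · right; left
      refine ⟨h4, hnadj (by omega), ?_⟩
      obtain ⟨e, he, d1, d2⟩ := common_disjoint h u.2 v.2 h4
      refine ⟨⟨e, he⟩, ?_, ?_⟩
      · rw [hG, adj_oct]; exact d1.symm
      · rw [hG, adj_oct]; exact d2
  have hconn : G.Connected := by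
    have : Nonempty (Oct C) := ⟨⟨o, ho⟩⟩
    refine ⟨?_⟩
    intro u v
    by_cases huv : u = v
    · rw [huv]
    · rcases key u v huv with ⟨-, ha⟩ | ⟨-, -, w, h1, h2⟩ | ⟨-, -, -, w, w', h1, h2, h3⟩
      · exact ha.reachable
      · exact h1.reachable.trans h2.reachable
      · exact h1.reachable.trans (h2.reachable.trans h3.reachable)
  refine ⟨hconn, ?_⟩
  have huv : (⟨o, ho⟩ : Oct C) ≠ ⟨o', ho'⟩ := fun e => hne (Subtype.mk.inj e)
  obtain ⟨g2, g3⟩ := graph_dist G hconn ⟨o, ho⟩ ⟨o', ho'⟩ huv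
  have g1 : G.dist ⟨o, ho⟩ ⟨o', ho'⟩ = 1 ↔ G.Adj ⟨o, ho⟩ ⟨o', ho'⟩ := SimpleGraph.dist_eq_one_iff_adj
  have hk := key ⟨o, ho⟩ ⟨o', ho'⟩ huv
  simp only [] at hk
  rcases hk with ⟨hc, ha⟩ | ⟨hc, hna, hw⟩ | ⟨hc, hna, hnc, hw⟩
  · have := g1.2 ha
    omega
  · have := g2.2 ⟨hna, hw⟩
    omega
  · have := g3 hna hnc hw
    omega

end Cfsg.Agent.helper28.Octad
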