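import Cfsg.Agent.Lib_helper28_Plane4Iso
set_option autoImplicit false

/-! Hyperovals of a plane of order 4 through a given independent set; the 55 hyperovals meeting a
given hyperoval evenly. -/

namespace Cfsg.Agent.helper28.Plane

open Finset Cfsg.Agent.S5625 Cfsg.Agent.helper28.Design

variable {α : Type*} [Fintype α] [DecidableEq α] {Lf : Finset (Finset α)}

/-- relative version of `card_succ_level` -/
lemma card_succ_level_rel (S0 : Finset α) (I J : Finset (Finset α)) (k e : ℕ)
    (hJ : ∀ S ∈ J, S.card = k + 1 ∧ S0 ⊆ S) (hsub : ∀ S ∈ J, ∀ x ∈ S \ S0, S.erase x ∈ I)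
    (hI : ∀ T ∈ I, S0 ⊆ T)
    (hext : ∀ T ∈ I, (Finset.univ.filter (fun d => d ∉ T ∧ insert d T ∈ J)).card = e) :
    J.card * (k + 1 - S0.card) = I.card * e := by
  have h1 : (J.sigma (fun S => S \ S0)).card = J.card * (k + 1 - S0.card) := by
    rw [Finset.card_sigma]
    have hc : ∀ S ∈ J, (S \ S0).card = k + 1 - S0.card := by
      intro S hS
      rw [Finset.card_sdiff_of_subset (hJ S hS).2, (hJ S hS).1]
    rw [Finset.sum_congr rfl hc, Finset.sum_const, smul_eq_mul]
  have h2 : (I.sigma (fun T => Finset.univ.filter (fun d => d ∉ T ∧ insert d T ∈ J))).card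
      = I.card * e := by
    rw [Finset.card_sigma, Finset.sum_congr rfl hext, Finset.sum_const, smul_eq_mul]
  rw [← h1, ← h2]
  apply Finset.card_bij' (fun a _ => (⟨a.1.erase a.2, a.2⟩ : Σ _ : Finset α, α))
    (fun b _ => (⟨insert b.2 b.1, b.2⟩ : Σ _ : Finset α, α))
  · rintro ⟨S, x⟩ ha
    rw [Finset.mem_sigma] at ha ⊢
    simp only at ha ⊢
    refine ⟨hsub S ha.1 x ha.2, ?_⟩
    rw [Finset.mem_filter]
    have hx := (Finset.mem_sdiff.1 ha.2).1
    refine ⟨Finset.mem_univ _, Finset.notMem_erase x S, ?_⟩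
    rw [Finset.insert_erase hx]
    exact ha.1
  · rintro ⟨T, d⟩ hb
    rw [Finset.mem_sigma] at hb ⊢
    simp only [Finset.mem_filter, Finset.mem_univ, true_and] at hb ⊢
    refine ⟨hb.2.2, ?_⟩
    rw [Finset.mem_sdiff]
    exact ⟨Finset.mem_insert_self d T, fun hd => hb.2.1 (hI T hb.1 hd)⟩
  · rintro ⟨S, x⟩ ha
    rw [Finset.mem_sigma] at ha
    simp only at ha ⊢
    rw [Finset.insert_erase (Finset.mem_sdiff.1 ha.2).1]
  · rintro ⟨T, d⟩ hb
    rw [Finset.mem_sigma] at hb
    simp only [Finset.mem_filter, Finset.mem_univ, true_and] at hb ⊢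
    rw [Finset.erase_insert hb.2.1]

/-- the independent `k`-sets containing `S0` -/
def levr (Lf : Finset (Finset α)) (S0 : Finset α) (k : ℕ) : Finset (Finset α) :=
  (lev Lf k).filter (fun T => S0 ⊆ T)

lemma mem_levr {S0 T : Finset α} {k : ℕ} :
    T ∈ levr Lf S0 k ↔ T.card = k ∧ Ind Lf T ∧ S0 ⊆ T := by
  unfold levr; rw [Finset.mem_filter, mem_lev, and_assoc]

lemma levr_step (S0 : Finset α) (k e : ℕ) (he : ∀ T ∈ lev Lf k, (ext Lf T).card = e) :
    (levr Lf S0 (k + 1)).card * (k + 1 - S0.card) = (levr Lf S0 k).card * e := by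
  apply card_succ_level_rel S0
  · intro S hS; rw [mem_levr] at hS; exact ⟨hS.1, hS.2.2⟩
  · intro S hS x hx
    rw [mem_levr] at hS ⊢
    rw [Finset.mem_sdiff] at hx
    refine ⟨?_, hS.2.1.mono (Finset.erase_subset x S), ?_⟩
    · rw [Finset.card_erase_of_mem hx.1, hS.1]; rfl
    · intro y hy
      rw [Finset.mem_erase]
      exact ⟨fun e => hx.2 (e ▸ hy), hS.2.2 hy⟩
  · intro T hT; exact (mem_levr.1 hT).2.2
  · intro T hT
    rw [mem_levr] at hT
    rw [← he T ((mem_lev _ T).2 ⟨hT.1, hT.2.1⟩)]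
    congr 1
    unfold ext
    apply Finset.filter_congr
    intro d _
    rw [mem_levr]
    constructor
    · rintro ⟨h1, -, h2, -⟩; exact ⟨h1, h2⟩
    · rintro ⟨h1, h2⟩
      exact ⟨h1, by rw [Finset.card_insert_of_notMem h1, hT.1], h2,
        hT.2.2.trans (Finset.subset_insert d T)⟩

lemma levr_self {S0 : Finset α} (hS : Ind Lf S0) : levr Lf S0 S0.card = {S0} := by
  ext T
  rw [mem_levr, Finset.mem_singleton]
  constructor
  · rintro ⟨h1, -, h3⟩
    exact (Finset.eq_of_subset_of_card_le h3 (le_of_eq h1)).symm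
  · rintro rfl; exact ⟨rfl, hS, Finset.Subset.refl _⟩

lemma ext_card_one (h : IsPlane4 Lf) {T : Finset α} (hT : T.card = 1) : (ext Lf T).card = 20 := by
  have : ext Lf T = Tᶜ := by
    ext p
    unfold ext
    rw [Finset.mem_filter, Finset.mem_compl]
    constructor
    · rintro ⟨-, h1, -⟩; exact h1
    · intro h1
      refine ⟨Finset.mem_univ _, h1, ?_⟩
      intro l _
      calc (l ∩ insert p T).card ≤ (insert p T).card := Finset.card_le_card Finset.inter_subset_right
        _ = 2 := by rw [Finset.card_insert_of_notMem h1, hT]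
  rw [this, Finset.card_compl, h.card, hT]

/-- the number of hyperovals through an independent set of size 1, 2, 3 -/
theorem ovals_through (h : IsPlane4 Lf) {S0 : Finset α} (hS : Ind Lf S0) :
    (S0.card = 1 → (levr Lf S0 6).card = 48) ∧ (S0.card = 2 → (levr Lf S0 6).card = 12) ∧
      (S0.card = 3 → (levr Lf S0 6).card = 3) := by
  have s1 := levr_step (Lf := Lf) S0 1 20 (fun T hT => ext_card_one h ((mem_lev _ T).1 hT).1)
  have s2 := levr_step (Lf := Lf) S0 2 16 (fun T hT =>
    (ext_card h ((mem_lev _ T).1 hT).2).1 ((mem_lev _ T).1 hT).1)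
  have s3 := levr_step (Lf := Lf) S0 3 9 (fun T hT =>
    (ext_card h ((mem_lev _ T).1 hT).2).2.1 ((mem_lev _ T).1 hT).1)
  have s4 := levr_step (Lf := Lf) S0 4 2 (fun T hT =>
    (ext_card h ((mem_lev _ T).1 hT).2).2.2.1 ((mem_lev _ T).1 hT).1)
  have s5 := levr_step (Lf := Lf) S0 5 1 (fun T hT =>
    (ext_card h ((mem_lev _ T).1 hT).2).2.2.2 ((mem_lev _ T).1 hT).1)
  have hself := levr_self hS
  simp only [Nat.reduceAdd] at s1 s2 s3 s4 s5
  refine ⟨?_, ?_, ?_⟩
  · intro hc
    rw [hc] at s1 s2 s3 s4 s5 hself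
    have h1 : (levr Lf S0 1).card = 1 := by rw [hself, Finset.card_singleton]
    simp only [Nat.reduceSub] at s1 s2 s3 s4 s5
    omega
  · intro hc
    rw [hc] at s2 s3 s4 s5 hself
    have h1 : (levr Lf S0 2).card = 1 := by rw [hself, Finset.card_singleton]
    simp only [Nat.reduceSub] at s2 s3 s4 s5
    omega
  · intro hc
    rw [hc] at s3 s4 s5 hself
    have h1 : (levr Lf S0 3).card = 1 := by rw [hself, Finset.card_singleton]
    simp only [Nat.reduceSub] at s3 s4 s5
    omega


variable {H : Finset α}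

/-- a hyperoval meeting `H` in at least four points is `H` -/
lemma oval_eq_of_inter (h : IsPlane4 Lf) (hH : IsHyperoval Lf H) {K : Finset α}
    (hK : K ∈ lev Lf 6) (h4 : 4 ≤ (K ∩ H).card) : K = H := by
  rw [mem_lev] at hK
  obtain ⟨S, hSsub, hS4⟩ := Finset.exists_subset_card_eq h4
  have hSK : S ⊆ K := hSsub.trans Finset.inter_subset_left
  have hSH : S ⊆ H := hSsub.trans Finset.inter_subset_right
  obtain ⟨H0, -, hu⟩ := hyperoval_unique h S hS4 (hK.2.mono hSK)
  rw [hu K ⟨hK, hSK⟩, hu H ⟨⟨hH.card, hH.ind⟩, hSH⟩]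

/-- exactly 55 hyperovals meet a given hyperoval in 0 or 2 points -/
theorem even_ovals (h : IsPlane4 Lf) (hH : IsHyperoval Lf H) :
    ((lev Lf 6).filter (fun K => (K ∩ H).card = 0 ∨ (K ∩ H).card = 2 ∨ (K ∩ H).card = 6)).card
      = 56 := by
  have hcnt : ∀ P : Finset α, cnt (lev Lf 6) P = (levr Lf P 6).card := fun P => rfl
  have hN : ∀ j : ℕ, ∀ P ∈ powersetCard j H, Ind Lf P ∧ P.card = j := by
    intro j P hP
    rw [Finset.mem_powersetCard] at hP
    exact ⟨hH.ind.mono hP.1, hP.2⟩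
  have m0 := moment (lev Lf 6) H 0
  have m1 := moment (lev Lf 6) H 1
  have m2 := moment (lev Lf 6) H 2
  have m3 := moment (lev Lf 6) H 3
  have c0 : ∑ P ∈ powersetCard 0 H, cnt (lev Lf 6) P = 168 := by
    rw [Finset.powersetCard_zero, Finset.sum_singleton, hcnt]
    have : levr Lf ∅ 6 = lev Lf 6 := by
      unfold levr
      rw [Finset.filter_eq_self]
      intro T _
      exact Finset.empty_subset T
    rw [this, (lev_cards h).2]
  have c1 : ∑ P ∈ powersetCard 1 H, cnt (lev Lf 6) P = 6 * 48 := by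
    rw [Finset.sum_congr rfl (fun P hP => by
      rw [hcnt, (ovals_through h (hN 1 P hP).1).1 (hN 1 P hP).2]), Finset.sum_const,
      Finset.card_powersetCard, hH.card, smul_eq_mul]
    rfl
  have c2 : ∑ P ∈ powersetCard 2 H, cnt (lev Lf 6) P = 15 * 12 := by
    rw [Finset.sum_congr rfl (fun P hP => by
      rw [hcnt, (ovals_through h (hN 2 P hP).1).2.1 (hN 2 P hP).2]), Finset.sum_const,
      Finset.card_powersetCard, hH.card, smul_eq_mul]
    rfl
  have c3 : ∑ P ∈ powersetCard 3 H, cnt (lev Lf 6) P = 20 * 3 := by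
    rw [Finset.sum_congr rfl (fun P hP => by
      rw [hcnt, (ovals_through h (hN 3 P hP).1).2.2 (hN 3 P hP).2]), Finset.sum_const,
      Finset.card_powersetCard, hH.card, smul_eq_mul]
    rfl
  rw [c0] at m0
  rw [c1] at m1
  rw [c2] at m2
  rw [c3] at m3
  have n4 : ((lev Lf 6).filter (fun K => (K ∩ H).card = 4)).card = 0 := by
    rw [Finset.card_eq_zero, Finset.filter_eq_empty_iff]
    intro K hK hc
    have := oval_eq_of_inter h hH hK (by omega)
    rw [this, Finset.inter_self, hH.card] at hc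
    omega
  have n5 : ((lev Lf 6).filter (fun K => (K ∩ H).card = 5)).card = 0 := by
    rw [Finset.card_eq_zero, Finset.filter_eq_empty_iff]
    intro K hK hc
    have := oval_eq_of_inter h hH hK (by omega)
    rw [this, Finset.inter_self, hH.card] at hc
    omega
  have n6 : ((lev Lf 6).filter (fun K => (K ∩ H).card = 6)).card = 1 := by
    rw [Finset.card_eq_one]
    refine ⟨H, ?_⟩
    ext K
    rw [Finset.mem_filter, Finset.mem_singleton]
    constructor
    · rintro ⟨hK, hc⟩
      exact oval_eq_of_inter h hH hK (by omega)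
    · rintro rfl
      exact ⟨(mem_lev _ _).2 ⟨hH.card, hH.ind⟩, by rw [Finset.inter_self, hH.card]⟩
  have hsplit : (lev Lf 6).filter (fun K => (K ∩ H).card = 0 ∨ (K ∩ H).card = 2 ∨ (K ∩ H).card = 6)
      = ((lev Lf 6).filter (fun K => (K ∩ H).card = 0) ∪
          (lev Lf 6).filter (fun K => (K ∩ H).card = 2)) ∪
          (lev Lf 6).filter (fun K => (K ∩ H).card = 6) := by
    ext K
    simp only [Finset.mem_filter, Finset.mem_union]
    tauto
  have hgoal : ((lev Lf 6).filter
      (fun K => (K ∩ H).card = 0 ∨ (K ∩ H).card = 2 ∨ (K ∩ H).card = 6)).card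
      = ((lev Lf 6).filter (fun K => (K ∩ H).card = 0)).card
        + ((lev Lf 6).filter (fun K => (K ∩ H).card = 2)).card + 1 := by
    rw [hsplit, Finset.card_union_of_disjoint, Finset.card_union_of_disjoint, n6]
    · rw [Finset.disjoint_filter]
      intro K _ h0 h2
      omega
    · rw [Finset.disjoint_left]
      intro K hK hK6
      rw [Finset.mem_union, Finset.mem_filter, Finset.mem_filter] at hK
      rw [Finset.mem_filter] at hK6
      rcases hK with hK | hK <;> omega
  rw [hgoal]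
  rw [hH.card] at m0 m1 m2 m3
  simp only [Finset.sum_range_succ, Finset.sum_range_zero, Nat.reduceAdd] at m0 m1 m2 m3
  rw [n4, n5, n6] at m0 m1 m2 m3
  generalize ((lev Lf 6).filter (fun K => (K ∩ H).card = 0)).card = a0 at m0 m1 m2 m3 ⊢
  generalize ((lev Lf 6).filter (fun K => (K ∩ H).card = 1)).card = a1 at m0 m1 m2 m3 ⊢
  generalize ((lev Lf 6).filter (fun K => (K ∩ H).card = 2)).card = a2 at m0 m1 m2 m3 ⊢
  generalize ((lev Lf 6).filter (fun K => (K ∩ H).card = 3)).card = a3 at m0 m1 m2 m3 ⊢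
  norm_num [Nat.choose] at m0 m1 m2 m3
  omega

end Cfsg.Agent.helper28.Plane
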