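import Cfsg.Agent.Lib_helper28_Design24
set_option autoImplicit false

/-! Projective planes of order 4 as Steiner systems S(2,5,21): independent sets and hyperovals. -/

namespace Cfsg.Agent.helper28.Plane

open Finset Cfsg.Agent.S5625 Cfsg.Agent.helper28.Design

variable {α : Type*} [Fintype α] [DecidableEq α]

/-- `Lf` is the line set of a projective plane of order 4 -/
structure IsPlane4 (Lf : Finset (Finset α)) : Prop where
  card : Fintype.card α = 21
  k : ∀ l ∈ Lf, l.card = 5
  two : ∀ S : Finset α, S.card = 2 → cnt Lf S = 1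

variable {Lf : Finset (Finset α)}

lemma IsPlane4.one (h : IsPlane4 Lf) : ∀ S : Finset α, S.card = 1 → cnt Lf S = 5 := by
  intro S hS
  have := step Lf 5 h.k S
  have hcompl : Sᶜ.card = 21 - S.card := by rw [Finset.card_compl, h.card]
  have hins : ∀ x, x ∈ Sᶜ → (insert x S).card = S.card + 1 := by
    intro x hx
    rw [Finset.card_insert_of_notMem (Finset.mem_compl.1 hx)]
  rw [Finset.sum_congr rfl (fun x hx => h.two _ (by rw [hins x hx, hS])), Finset.sum_const,
    hcompl, hS, smul_eq_mul] at this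
  omega

lemma IsPlane4.zero (h : IsPlane4 Lf) : cnt Lf (∅ : Finset α) = 21 := by
  have := step Lf 5 h.k (∅ : Finset α)
  have hcompl : (∅ : Finset α)ᶜ.card = 21 := by rw [Finset.card_compl, h.card]; simp
  have hins : ∀ x, x ∈ (∅ : Finset α)ᶜ → (insert x (∅ : Finset α)).card = 1 := by
    intro x _
    simp
  rw [Finset.sum_congr rfl (fun x hx => h.one _ (hins x hx)), Finset.sum_const,
    hcompl, Finset.card_empty, smul_eq_mul] at this
  omega

lemma IsPlane4.card_lines (h : IsPlane4 Lf) : Lf.card = 21 := by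
  have h0 := h.zero
  have hc : cnt Lf (∅ : Finset α) = Lf.card := by
    unfold cnt
    congr 1
    ext b
    simp
  rw [hc] at h0
  exact h0

/-- two distinct lines meet in exactly one point -/
lemma IsPlane4.meet (h : IsPlane4 Lf) {l m : Finset α} (hl : l ∈ Lf) (hm : m ∈ Lf) (hne : m ≠ l) :
    (m ∩ l).card = 1 := by
  have hl5 := h.k l hl
  have hm5 := h.k m hm
  have m0 := moment Lf l 0
  have m1 := moment Lf l 1
  have m2 := moment Lf l 2
  rw [Finset.sum_congr rfl (fun P hP => h.one P (Finset.mem_powersetCard.1 hP).2),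
    Finset.sum_const, Finset.card_powersetCard, smul_eq_mul] at m1
  rw [Finset.sum_congr rfl (fun P hP => h.two P (Finset.mem_powersetCard.1 hP).2),
    Finset.sum_const, Finset.card_powersetCard, smul_eq_mul] at m2
  rw [Finset.powersetCard_zero, Finset.sum_singleton, h.zero] at m0
  rw [hl5] at m0 m1 m2
  simp only [Finset.sum_range_succ, Finset.sum_range_zero, Nat.choose] at m0 m1 m2
  have h5 : 1 ≤ (Lf.filter (fun b => (b ∩ l).card = 5)).card := by
    rw [Nat.one_le_iff_ne_zero, Ne, Finset.card_eq_zero]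
    intro hh
    have : l ∈ Lf.filter (fun b => (b ∩ l).card = 5) := by
      rw [Finset.mem_filter, Finset.inter_self]
      exact ⟨hl, hl5⟩
    rw [hh] at this
    exact absurd this (Finset.notMem_empty l)
  have hzero : ∀ k, (Lf.filter (fun b => (b ∩ l).card = k)).card = 0 → (m ∩ l).card ≠ k := by
    intro k hk hmk
    rw [Finset.card_eq_zero] at hk
    have : m ∈ Lf.filter (fun b => (b ∩ l).card = k) := Finset.mem_filter.2 ⟨hm, hmk⟩
    rw [hk] at this
    exact absurd this (Finset.notMem_empty m)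
  have hle : (m ∩ l).card ≤ 5 := by
    rw [← hl5]; exact Finset.card_le_card Finset.inter_subset_right
  have hn5 : (m ∩ l).card ≠ 5 := by
    intro hh
    apply hne
    have e1 : m ∩ l = l := Finset.eq_of_subset_of_card_le Finset.inter_subset_right (by rw [hh, hl5])
    have e2 : m ∩ l = m := Finset.eq_of_subset_of_card_le Finset.inter_subset_left (by rw [hh, hm5])
    rw [← e2]; nth_rewrite 2 [← e1]; rfl
  have z0 := hzero 0 (by omega)
  have z2 := hzero 2 (by omega)
  have z3 := hzero 3 (by omega)
  have z4 := hzero 4 (by omega)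
  omega

/-- independent sets: no three points on a line -/
def Ind (Lf : Finset (Finset α)) (S : Finset α) : Prop := ∀ l ∈ Lf, (l ∩ S).card ≤ 2

lemma Ind.mono {S T : Finset α} (hT : Ind Lf T) (hST : S ⊆ T) : Ind Lf S :=
  fun l hl => (Finset.card_le_card (Finset.inter_subset_inter_left hST)).trans (hT l hl)

/-- secants of `S` -/
def sec (Lf : Finset (Finset α)) (S : Finset α) : Finset (Finset α) :=
  Lf.filter (fun l => (l ∩ S).card = 2)

/-- number of secants of `S` through `p` -/
def sp (Lf : Finset (Finset α)) (S : Finset α) (p : α) : ℕ :=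
  ((sec Lf S).filter (fun l => p ∈ l)).card

lemma card_sec (h : IsPlane4 Lf) {S : Finset α} (hS : Ind Lf S) :
    (sec Lf S).card = S.card.choose 2 := by
  have m2 := moment Lf S 2
  rw [Finset.sum_congr rfl (fun P hP => h.two P (Finset.mem_powersetCard.1 hP).2),
    Finset.sum_const, Finset.card_powersetCard, smul_eq_mul, mul_one] at m2
  rw [← m2]
  by_cases h2 : 2 ∈ range (S.card + 1)
  · rw [Finset.sum_eq_single_of_mem 2 h2]
    · simp [sec]
    · intro j _ hj
      by_cases hj2 : j < 2
      · rw [Nat.choose_eq_zero_of_lt hj2, mul_zero]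
      · have : (Lf.filter (fun b => (b ∩ S).card = j)).card = 0 := by
          rw [Finset.card_eq_zero, Finset.filter_eq_empty_iff]
          intro l hl hlj
          have := hS l hl
          omega
        rw [this, zero_mul]
  · rw [Finset.mem_range] at h2
    have hsec : sec Lf S = ∅ := by
      unfold sec
      rw [Finset.filter_eq_empty_iff]
      intro l _ hl2
      have := Finset.card_le_card (Finset.inter_subset_right : l ∩ S ⊆ S)
      omega
    rw [hsec, Finset.card_empty]
    symm
    apply Finset.sum_eq_zero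
    intro j hj
    rw [Finset.mem_range] at hj
    rw [Nat.choose_eq_zero_of_lt (by omega), mul_zero]

/-- double counting incidences between a family of lines and a point set -/
lemma sum_inter_card (F : Finset (Finset α)) (S : Finset α) :
    ∑ l ∈ F, (l ∩ S).card = ∑ y ∈ S, (F.filter (fun l => y ∈ l)).card := by
  have e1 : ∀ l ∈ F, (l ∩ S).card = ∑ y ∈ S, if y ∈ l then 1 else 0 := by
    intro l _
    rw [← Finset.card_filter, Finset.filter_mem_eq_inter, Finset.inter_comm]
  rw [Finset.sum_congr rfl e1, Finset.sum_comm]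
  apply Finset.sum_congr rfl
  intro y _
  rw [Finset.card_filter]

lemma cnt_pair_filter (h : IsPlane4 Lf) {p y : α} (hne : p ≠ y) :
    ((Lf.filter (fun l => p ∈ l)).filter (fun l => y ∈ l)).card = 1 := by
  have := h.two {p, y} (Finset.card_pair hne)
  unfold cnt at this
  rw [← this, Finset.filter_filter]
  congr 1
  apply Finset.filter_congr
  intro l _
  rw [Finset.insert_subset_iff, Finset.singleton_subset_iff]

lemma cnt_point_filter (h : IsPlane4 Lf) (p : α) : (Lf.filter (fun l => p ∈ l)).card = 5 := by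
  have := h.one {p} (Finset.card_singleton p)
  unfold cnt at this
  rw [← this]
  congr 1
  apply Finset.filter_congr
  intro l _
  rw [Finset.singleton_subset_iff]

lemma sp_eq (S : Finset α) (p : α) :
    sp Lf S p = ((Lf.filter (fun l => p ∈ l)).filter (fun l => (l ∩ S).card = 2)).card := by
  unfold sp sec
  rw [Finset.filter_filter, Finset.filter_filter]
  congr 1
  apply Finset.filter_congr
  intro c _
  exact and_comm

lemma sp_of_mem (h : IsPlane4 Lf) {S : Finset α} (hS : Ind Lf S) {a : α} (ha : a ∈ S) :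
    sp Lf S a + 1 = S.card := by
  have hd := sum_inter_card (Lf.filter (fun l => a ∈ l)) S
  -- right-hand side
  have hR : ∑ y ∈ S, ((Lf.filter (fun l => a ∈ l)).filter (fun l => y ∈ l)).card
      = 5 + (S.card - 1) := by
    rw [← Finset.add_sum_erase S _ ha]
    congr 1
    · rw [Finset.filter_filter]
      have : (Lf.filter (fun l => a ∈ l ∧ a ∈ l)) = Lf.filter (fun l => a ∈ l) := by
        apply Finset.filter_congr; intro l _; exact and_self_iff
      rw [this, cnt_point_filter h a]
    · have : ∀ y ∈ S.erase a, ((Lf.filter (fun l => a ∈ l)).filter (fun l => y ∈ l)).card = 1 :=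
        fun y hy => cnt_pair_filter h (Finset.ne_of_mem_erase hy).symm
      rw [Finset.sum_congr rfl this, Finset.sum_const, Finset.card_erase_of_mem ha, smul_eq_mul,
        mul_one]
  -- left-hand side
  have hLpt : ∀ l ∈ Lf.filter (fun l => a ∈ l),
      (l ∩ S).card = 1 + (if (l ∩ S).card = 2 then 1 else 0) := by
    intro l hl
    rw [Finset.mem_filter] at hl
    have h1 := hS l hl.1
    have h2 : 1 ≤ (l ∩ S).card := Finset.card_pos.2 ⟨a, Finset.mem_inter.2 ⟨hl.2, ha⟩⟩
    split_ifs with hc <;> omega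
  rw [Finset.sum_congr rfl hLpt, Finset.sum_add_distrib, Finset.sum_const, smul_eq_mul, mul_one,
    cnt_point_filter h a, ← Finset.card_filter, ← sp_eq, hR] at hd
  have hSpos : 1 ≤ S.card := Finset.card_pos.2 ⟨a, ha⟩
  omega

lemma sp_le (h : IsPlane4 Lf) {S : Finset α} {p : α} (hp : p ∉ S) :
    2 * sp Lf S p ≤ S.card := by
  have hd := sum_inter_card (Lf.filter (fun l => p ∈ l)) S
  have hR : ∑ y ∈ S, ((Lf.filter (fun l => p ∈ l)).filter (fun l => y ∈ l)).card = S.card := by
    have : ∀ y ∈ S, ((Lf.filter (fun l => p ∈ l)).filter (fun l => y ∈ l)).card = 1 :=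
      fun y hy => cnt_pair_filter h (fun e => hp (e ▸ hy))
    rw [Finset.sum_congr rfl this, Finset.sum_const, smul_eq_mul, mul_one]
  rw [hR] at hd
  rw [← hd, sp_eq, Finset.card_filter, Finset.mul_sum]
  apply Finset.sum_le_sum
  intro l _
  split_ifs with hc <;> omega

/-- a point outside an independent set extends it iff it lies on no secant -/
lemma ind_insert_iff {S : Finset α} (hS : Ind Lf S) {p : α} (hp : p ∉ S) :
    Ind Lf (insert p S) ↔ sp Lf S p = 0 := by
  rw [sp_eq, Finset.card_eq_zero, Finset.filter_eq_empty_iff]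
  constructor
  · intro hI l hl hc
    rw [Finset.mem_filter] at hl
    have := hI l hl.1
    have e : l ∩ insert p S = insert p (l ∩ S) := by
      ext x
      simp only [Finset.mem_inter, Finset.mem_insert]
      constructor
      · rintro ⟨h1, rfl | h2⟩
        · exact Or.inl rfl
        · exact Or.inr ⟨h1, h2⟩
      · rintro (rfl | ⟨h1, h2⟩)
        · exact ⟨hl.2, Or.inl rfl⟩
        · exact ⟨h1, Or.inr h2⟩
    rw [e, Finset.card_insert_of_notMem (fun hh => hp (Finset.mem_inter.1 hh).2)] at this
    omega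
  · intro hz l hl
    by_cases hpl : p ∈ l
    · have hne : (l ∩ S).card ≠ 2 := hz (Finset.mem_filter.2 ⟨hl, hpl⟩)
      have h1 := hS l hl
      have e : l ∩ insert p S = insert p (l ∩ S) := by
        ext x
        simp only [Finset.mem_inter, Finset.mem_insert]
        constructor
        · rintro ⟨h1, rfl | h2⟩
          · exact Or.inl rfl
          · exact Or.inr ⟨h1, h2⟩
        · rintro (rfl | ⟨h1, h2⟩)
          · exact ⟨hpl, Or.inl rfl⟩
          · exact ⟨h1, Or.inr h2⟩
      rw [e, Finset.card_insert_of_notMem (fun hh => hp (Finset.mem_inter.1 hh).2)]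
      omega
    · have e : l ∩ insert p S = l ∩ S := by
        ext x
        simp only [Finset.mem_inter, Finset.mem_insert]
        constructor
        · rintro ⟨h1, rfl | h2⟩
          · exact absurd h1 hpl
          · exact ⟨h1, h2⟩
        · rintro ⟨h1, h2⟩
          exact ⟨h1, Or.inr h2⟩
      rw [e]
      exact hS l hl

/-- incidences between all points and the secants -/
lemma sum_sp (h : IsPlane4 Lf) (S : Finset α) :
    ∑ p, sp Lf S p = 5 * (sec Lf S).card := by
  have hd := sum_inter_card (sec Lf S) (Finset.univ : Finset α)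
  have e1 : ∀ l ∈ sec Lf S, (l ∩ Finset.univ).card = 5 := by
    intro l hl
    rw [Finset.inter_univ]
    exact h.k l (Finset.mem_filter.1 hl).1
  rw [Finset.sum_congr rfl e1, Finset.sum_const, smul_eq_mul] at hd
  unfold sp
  rw [← hd, mul_comm]

/-- pairs of secants through all points -/
lemma sum_sp_choose (h : IsPlane4 Lf) (S : Finset α) :
    ∑ p, (sp Lf S p).choose 2 = ((sec Lf S).card).choose 2 := by
  have e1 : ∀ p : α, (sp Lf S p).choose 2
      = ∑ P ∈ powersetCard 2 (sec Lf S), if (∀ l ∈ P, p ∈ l) then 1 else 0 := by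
    intro p
    unfold sp
    rw [← Finset.card_powersetCard, ← Finset.card_filter]
    congr 1
    ext P
    simp only [Finset.mem_powersetCard, Finset.mem_filter]
    constructor
    · rintro ⟨h1, h2⟩
      exact ⟨⟨fun l hl => (Finset.mem_filter.1 (h1 hl)).1, h2⟩,
        fun l hl => (Finset.mem_filter.1 (h1 hl)).2⟩
    · rintro ⟨⟨h1, h2⟩, h3⟩
      exact ⟨fun l hl => Finset.mem_filter.2 ⟨h1 hl, h3 l hl⟩, h2⟩
  rw [Finset.sum_congr rfl (fun p _ => e1 p), Finset.sum_comm]
  have e2 : ∀ P ∈ powersetCard 2 (sec Lf S),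
      (∑ p : α, if (∀ l ∈ P, p ∈ l) then 1 else 0) = 1 := by
    intro P hP
    rw [Finset.mem_powersetCard] at hP
    obtain ⟨l, m, hlm, rfl⟩ := Finset.card_eq_two.1 hP.2
    have hl : l ∈ Lf := (Finset.mem_filter.1 (hP.1 (by simp))).1
    have hm : m ∈ Lf := (Finset.mem_filter.1 (hP.1 (by simp))).1
    rw [← Finset.card_filter, ← h.meet hm hl hlm]
    congr 1
    ext p
    simp only [Finset.mem_filter, Finset.mem_univ, true_and, Finset.mem_insert,
      Finset.mem_singleton, Finset.mem_inter, forall_eq_or_imp, forall_eq]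
  rw [Finset.sum_congr rfl e2, Finset.sum_const, Finset.card_powersetCard, smul_eq_mul, mul_one]


instance instDecidableInd (Lf : Finset (Finset α)) (S : Finset α) : Decidable (Ind Lf S) := by
  unfold Ind; infer_instance

/-- the points extending an independent set -/
def ext (Lf : Finset (Finset α)) (S : Finset α) : Finset α :=
  Finset.univ.filter (fun p => p ∉ S ∧ Ind Lf (insert p S))

theorem ext_card (h : IsPlane4 Lf) {S : Finset α} (hS : Ind Lf S) :
    (S.card = 2 → (ext Lf S).card = 16) ∧ (S.card = 3 → (ext Lf S).card = 9) ∧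
    (S.card = 4 → (ext Lf S).card = 2) ∧ (S.card = 5 → (ext Lf S).card = 1) := by
  have hext : ext Lf S = Sᶜ.filter (fun p => sp Lf S p = 0) := by
    ext p
    simp only [ext, Finset.mem_filter, Finset.mem_univ, true_and, Finset.mem_compl]
    constructor
    · rintro ⟨h1, h2⟩; exact ⟨h1, (ind_insert_iff hS h1).1 h2⟩
    · rintro ⟨h1, h2⟩; exact ⟨h1, (ind_insert_iff hS h1).2 h2⟩
  have E1 := card_sec h hS
  have E3 := sum_sp h S
  have E4 := sum_sp_choose h S
  rw [E1] at E3 E4
  rw [← Finset.sum_add_sum_compl S] at E3 E4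
  have hin : ∀ a ∈ S, sp Lf S a = S.card - 1 := by
    intro a ha
    have := sp_of_mem h hS ha
    omega
  rw [Finset.sum_congr rfl hin, Finset.sum_const, smul_eq_mul] at E3
  rw [Finset.sum_congr rfl (fun a ha => by rw [hin a ha]), Finset.sum_const, smul_eq_mul] at E4
  have hcompl : Sᶜ.card = 21 - S.card := by rw [Finset.card_compl, h.card]
  have hsplit := Finset.card_filter_add_card_filter_not (s := Sᶜ) (fun p => sp Lf S p = 0)
  rw [hcompl] at hsplit
  have key : S.card ≤ 5 → ∑ p ∈ Sᶜ, sp Lf S p
      = ∑ p ∈ Sᶜ, (sp Lf S p).choose 2 + (Sᶜ.filter (fun p => ¬ sp Lf S p = 0)).card := by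
    intro h5
    rw [Finset.card_filter, ← Finset.sum_add_distrib]
    apply Finset.sum_congr rfl
    intro p hp
    have := sp_le h (Finset.mem_compl.1 hp)
    have h2 : sp Lf S p ≤ 2 := by omega
    interval_cases (sp Lf S p) <;> simp
  rw [hext]
  generalize (∑ p ∈ Sᶜ, sp Lf S p) = A at E3 key
  generalize (∑ p ∈ Sᶜ, (sp Lf S p).choose 2) = B at E4 key
  refine ⟨?_, ?_, ?_, ?_⟩ <;> intro hk <;> have key' := key (by omega) <;>
    rw [hk] at E3 E4 hsplit <;> norm_num [Nat.choose] at E3 E4 hsplit <;> omega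

/-- counting one level of independent sets from the previous one -/
lemma card_succ_level (I J : Finset (Finset α)) (k e : ℕ)
    (hJ : ∀ S ∈ J, S.card = k + 1) (hsub : ∀ S ∈ J, ∀ x ∈ S, S.erase x ∈ I)
    (hext : ∀ T ∈ I, (Finset.univ.filter (fun d => d ∉ T ∧ insert d T ∈ J)).card = e) :
    J.card * (k + 1) = I.card * e := by
  have h1 : (J.sigma (fun S => S)).card = J.card * (k + 1) := by
    rw [Finset.card_sigma, Finset.sum_congr rfl hJ, Finset.sum_const, smul_eq_mul]
  have h2 : (I.sigma (fun T => Finset.univ.filter (fun d => d ∉ T ∧ insert d T ∈ J))).card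
      = I.card * e := by
    rw [Finset.card_sigma, Finset.sum_congr rfl hext, Finset.sum_const, smul_eq_mul]
  rw [← h1, ← h2]
  apply Finset.card_bij' (fun a _ => (⟨a.1.erase a.2, a.2⟩ : Σ _ : Finset α, α))
    (fun b _ => (⟨insert b.2 b.1, b.2⟩ : Σ _ : Finset α, α))
  · rintro ⟨S, x⟩ ha
    rw [Finset.mem_sigma] at ha ⊢
    simp only at ha ⊢
    refine ⟨hsub S ha.1 x ha.2, ?_⟩
    rw [Finset.mem_filter]
    refine ⟨Finset.mem_univ _, Finset.notMem_erase x S, ?_⟩
    rw [Finset.insert_erase ha.2]
    exact ha.1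
  · rintro ⟨T, d⟩ hb
    rw [Finset.mem_sigma] at hb ⊢
    simp only [Finset.mem_filter, Finset.mem_univ, true_and] at hb ⊢
    exact ⟨hb.2.2, Finset.mem_insert_self d T⟩
  · rintro ⟨S, x⟩ ha
    rw [Finset.mem_sigma] at ha
    simp only at ha ⊢
    rw [Finset.insert_erase ha.2]
  · rintro ⟨T, d⟩ hb
    rw [Finset.mem_sigma] at hb
    simp only [Finset.mem_filter, Finset.mem_univ, true_and] at hb ⊢
    rw [Finset.erase_insert hb.2.1]

/-- the independent `k`-sets -/
def lev (Lf : Finset (Finset α)) (k : ℕ) : Finset (Finset α) :=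
  (powersetCard k Finset.univ).filter (fun S => Ind Lf S)

lemma mem_lev (k : ℕ) (S : Finset α) : S ∈ lev Lf k ↔ S.card = k ∧ Ind Lf S := by
  unfold lev
  rw [Finset.mem_filter, Finset.mem_powersetCard]
  constructor
  · rintro ⟨⟨-, h1⟩, h2⟩; exact ⟨h1, h2⟩
  · rintro ⟨h1, h2⟩; exact ⟨⟨Finset.subset_univ _, h1⟩, h2⟩

lemma lev_step (k e : ℕ) (he : ∀ T ∈ lev Lf k, (ext Lf T).card = e) :
    (lev Lf (k + 1)).card * (k + 1) = (lev Lf k).card * e := by
  apply card_succ_level
  · intro S hS
    exact ((mem_lev _ S).1 hS).1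
  · intro S hS x hx
    rw [mem_lev] at hS ⊢
    refine ⟨?_, hS.2.mono (Finset.erase_subset x S)⟩
    rw [Finset.card_erase_of_mem hx, hS.1]; rfl
  · intro T hT
    rw [← he T hT]
    congr 1
    unfold ext
    apply Finset.filter_congr
    intro d _
    rw [mem_lev]
    have hTk := ((mem_lev _ T).1 hT).1
    constructor
    · rintro ⟨h1, -, h2⟩; exact ⟨h1, h2⟩
    · rintro ⟨h1, h2⟩
      exact ⟨h1, by rw [Finset.card_insert_of_notMem h1, hTk], h2⟩

theorem lev_cards (h : IsPlane4 Lf) :
    (lev Lf 4).card = 2520 ∧ (lev Lf 6).card = 168 := by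
  have h2 : (lev Lf 2).card = 210 := by
    have : lev Lf 2 = powersetCard 2 (Finset.univ : Finset α) := by
      unfold lev
      rw [Finset.filter_eq_self]
      intro S hS l _
      rw [Finset.mem_powersetCard] at hS
      rw [← hS.2]
      exact Finset.card_le_card Finset.inter_subset_right
    rw [this, Finset.card_powersetCard, Finset.card_univ, h.card]
    rfl
  have s2 := lev_step (Lf := Lf) 2 16 (fun T hT =>
    (ext_card h ((mem_lev _ T).1 hT).2).1 ((mem_lev _ T).1 hT).1)
  have s3 := lev_step (Lf := Lf) 3 9 (fun T hT =>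
    (ext_card h ((mem_lev _ T).1 hT).2).2.1 ((mem_lev _ T).1 hT).1)
  have s4 := lev_step (Lf := Lf) 4 2 (fun T hT =>
    (ext_card h ((mem_lev _ T).1 hT).2).2.2.1 ((mem_lev _ T).1 hT).1)
  have s5 := lev_step (Lf := Lf) 5 1 (fun T hT =>
    (ext_card h ((mem_lev _ T).1 hT).2).2.2.2 ((mem_lev _ T).1 hT).1)
  simp only [Nat.reduceAdd] at s2 s3 s4 s5
  rw [h2] at s2
  constructor <;> omega

theorem hyperoval_unique (h : IsPlane4 Lf) (S : Finset α) (hS4 : S.card = 4) (hS : Ind Lf S) :
    ∃! H : Finset α, (H.card = 6 ∧ Ind Lf H) ∧ S ⊆ H := by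
  have hE := (ext_card h hS).2.2.1 hS4
  have hmemE : ∀ p, p ∈ ext Lf S ↔ p ∉ S ∧ Ind Lf (insert p S) := by
    intro p
    unfold ext
    rw [Finset.mem_filter]
    simp
  -- any hyperoval containing S is S ∪ ext
  have huniq : ∀ H : Finset α, H.card = 6 → Ind Lf H → S ⊆ H → H = S ∪ ext Lf S := by
    intro H h6 hI hSH
    have hsub : H \ S ⊆ ext Lf S := by
      intro p hp
      rw [Finset.mem_sdiff] at hp
      rw [hmemE]
      refine ⟨hp.2, hI.mono ?_⟩
      intro x hx
      rw [Finset.mem_insert] at hx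
      rcases hx with rfl | hx
      · exact hp.1
      · exact hSH hx
    have hc : (H \ S).card = 2 := by
      rw [Finset.card_sdiff_of_subset hSH, h6, hS4]
    have heq : H \ S = ext Lf S := Finset.eq_of_subset_of_card_le hsub (by rw [hE, hc])
    rw [← heq, Finset.union_sdiff_of_subset hSH]
  -- existence
  obtain ⟨z, hz⟩ : ∃ z, z ∈ ext Lf S := by
    apply Finset.card_pos.1
    rw [hE]; norm_num
  rw [hmemE] at hz
  have hS1 : (insert z S).card = 5 := by rw [Finset.card_insert_of_notMem hz.1, hS4]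
  have hE1 := (ext_card h hz.2).2.2.2 hS1
  obtain ⟨w, hw⟩ : ∃ w, w ∈ ext Lf (insert z S) := by
    apply Finset.card_pos.1
    rw [hE1]; norm_num
  unfold ext at hw
  rw [Finset.mem_filter] at hw
  have hH6 : (insert w (insert z S)).card = 6 := by
    rw [Finset.card_insert_of_notMem hw.2.1, hS1]
  have hSH : S ⊆ insert w (insert z S) :=
    (Finset.subset_insert z S).trans (Finset.subset_insert w _)
  refine ⟨insert w (insert z S), ⟨⟨hH6, hw.2.2⟩, hSH⟩, ?_⟩
  rintro H' ⟨⟨h6, hI⟩, hSH'⟩
  rw [huniq H' h6 hI hSH', huniq _ hH6 hw.2.2 hSH]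

end Cfsg.Agent.helper28.Plane
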