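import Cfsg.Agent.Lib_helper28_Plane4
set_option autoImplicit false

/-! Planes of order 4 are determined by a hyperoval: any bijection between hyperovals of two
planes extends uniquely to an isomorphism. -/

namespace Cfsg.Agent.helper28.Plane

open Finset Cfsg.Agent.S5625 Cfsg.Agent.helper28.Design

variable {α : Type*} [Fintype α] [DecidableEq α] {Lf : Finset (Finset α)}

lemma line_unique (h : IsPlane4 Lf) {l m : Finset α} (hl : l ∈ Lf) (hm : m ∈ Lf) {x y : α}
    (hxy : x ≠ y) (hxl : x ∈ l) (hyl : y ∈ l) (hxm : x ∈ m) (hym : y ∈ m) : l = m := by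
  have h2 := h.two {x, y} (Finset.card_pair hxy)
  unfold cnt at h2
  rw [Finset.card_eq_one] at h2
  obtain ⟨b, hb⟩ := h2
  have h1 : l ∈ Lf.filter (fun c => ({x, y} : Finset α) ⊆ c) := by
    rw [Finset.mem_filter, Finset.insert_subset_iff, Finset.singleton_subset_iff]
    exact ⟨hl, hxl, hyl⟩
  have h1' : m ∈ Lf.filter (fun c => ({x, y} : Finset α) ⊆ c) := by
    rw [Finset.mem_filter, Finset.insert_subset_iff, Finset.singleton_subset_iff]
    exact ⟨hm, hxm, hym⟩
  rw [hb, Finset.mem_singleton] at h1 h1'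
  rw [h1, h1']

lemma exists_line (h : IsPlane4 Lf) {x y : α} (hxy : x ≠ y) : ∃ l ∈ Lf, x ∈ l ∧ y ∈ l := by
  have h2 := h.two {x, y} (Finset.card_pair hxy)
  unfold cnt at h2
  rw [Finset.card_eq_one] at h2
  obtain ⟨b, hb⟩ := h2
  have : b ∈ Lf.filter (fun c => ({x, y} : Finset α) ⊆ c) := by rw [hb]; exact Finset.mem_singleton_self b
  rw [Finset.mem_filter, Finset.insert_subset_iff, Finset.singleton_subset_iff] at this
  exact ⟨b, this.1, this.2.1, this.2.2⟩

/-- a hyperoval: six points, no three collinear -/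
structure IsHyperoval (Lf : Finset (Finset α)) (H : Finset α) : Prop where
  card : H.card = 6
  ind : Ind Lf H

variable {H : Finset α}

/-- every line meets a hyperoval in 0 or 2 points -/
lemma IsHyperoval.line (hH : IsHyperoval Lf H) (h : IsPlane4 Lf) {l : Finset α} (hl : l ∈ Lf) :
    (l ∩ H).card = 0 ∨ (l ∩ H).card = 2 := by
  by_cases he : (l ∩ H).card = 0
  · exact Or.inl he
  · right
    obtain ⟨a, ha⟩ := Finset.card_pos.1 (Nat.pos_of_ne_zero he)
    rw [Finset.mem_inter] at ha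
    have h1 := sp_of_mem h hH.ind ha.2
    rw [hH.card, sp_eq] at h1
    have h5 := cnt_point_filter h a
    have : ((Lf.filter (fun l => a ∈ l)).filter (fun l => (l ∩ H).card = 2)).card
        = (Lf.filter (fun l => a ∈ l)).card := by omega
    rw [Finset.card_filter_eq_iff] at this
    exact this l (Finset.mem_filter.2 ⟨hl, ha.1⟩)

/-- a point off the hyperoval lies on exactly three secants -/
lemma IsHyperoval.sp_off (hH : IsHyperoval Lf H) (h : IsPlane4 Lf) {p : α} (hp : p ∉ H) :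
    sp Lf H p = 3 := by
  have hd := sum_inter_card (Lf.filter (fun l => p ∈ l)) H
  have hR : ∑ y ∈ H, ((Lf.filter (fun l => p ∈ l)).filter (fun l => y ∈ l)).card = 6 := by
    have : ∀ y ∈ H, ((Lf.filter (fun l => p ∈ l)).filter (fun l => y ∈ l)).card = 1 :=
      fun y hy => cnt_pair_filter h (fun e => hp (e ▸ hy))
    rw [Finset.sum_congr rfl this, Finset.sum_const, smul_eq_mul, mul_one, hH.card]
  rw [hR] at hd
  have hL : ∀ l ∈ Lf.filter (fun l => p ∈ l),
      (l ∩ H).card = 2 * (if (l ∩ H).card = 2 then 1 else 0) := by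
    intro l hl
    rcases hH.line h (Finset.mem_filter.1 hl).1 with h0 | h2
    · rw [h0]; simp
    · rw [h2]; simp
  rw [Finset.sum_congr rfl hL, ← Finset.mul_sum, ← Finset.card_filter, ← sp_eq] at hd
  omega

/-- the secant through two points of the hyperoval meets it exactly in them -/
lemma IsHyperoval.inter_eq (hH : IsHyperoval Lf H) (h : IsPlane4 Lf) {l : Finset α} (hl : l ∈ Lf)
    {a b : α} (hab : a ≠ b) (ha : a ∈ H) (hb : b ∈ H) (hal : a ∈ l) (hbl : b ∈ l) :
    l ∩ H = {a, b} := by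
  symm
  apply Finset.eq_of_subset_of_card_le
  · intro x hx
    rw [Finset.mem_insert, Finset.mem_singleton] at hx
    rcases hx with rfl | rfl
    · exact Finset.mem_inter.2 ⟨hal, ha⟩
    · exact Finset.mem_inter.2 ⟨hbl, hb⟩
  · rw [Finset.card_pair hab]
    exact hH.ind l hl


/-- the secants through a point -/
def secp (Lf : Finset (Finset α)) (H : Finset α) (p : α) : Finset (Finset α) :=
  (Lf.filter (fun l => p ∈ l)).filter (fun l => (l ∩ H).card = 2)

/-- the external lines through a point -/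
def extp (Lf : Finset (Finset α)) (H : Finset α) (p : α) : Finset (Finset α) :=
  (Lf.filter (fun l => p ∈ l)).filter (fun l => (l ∩ H).card = 0)

lemma mem_secp {p : α} {l : Finset α} : l ∈ secp Lf H p ↔ l ∈ Lf ∧ p ∈ l ∧ (l ∩ H).card = 2 := by
  unfold secp; rw [Finset.mem_filter, Finset.mem_filter, and_assoc]

lemma mem_extp {p : α} {l : Finset α} : l ∈ extp Lf H p ↔ l ∈ Lf ∧ p ∈ l ∧ (l ∩ H).card = 0 := by
  unfold extp; rw [Finset.mem_filter, Finset.mem_filter, and_assoc]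

lemma card_secp (hH : IsHyperoval Lf H) (h : IsPlane4 Lf) {p : α} (hp : p ∉ H) :
    (secp Lf H p).card = 3 := by
  have := hH.sp_off h hp
  rw [sp_eq] at this
  exact this

lemma card_extp (hH : IsHyperoval Lf H) (h : IsPlane4 Lf) {p : α} (hp : p ∉ H) :
    (extp Lf H p).card = 2 := by
  have h3 := card_secp hH h hp
  have h5 := cnt_point_filter h p
  have hsplit := Finset.card_filter_add_card_filter_not (s := Lf.filter (fun l => p ∈ l))
    (fun l => (l ∩ H).card = 2)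
  have e : (Lf.filter (fun l => p ∈ l)).filter (fun l => ¬ (l ∩ H).card = 2) = extp Lf H p := by
    unfold extp
    apply Finset.filter_congr
    intro l hl
    rcases hH.line h (Finset.mem_filter.1 hl).1 with h0 | h2
    · rw [h0]; simp
    · rw [h2]; simp
  rw [e] at hsplit
  unfold secp at h3
  omega

/-- the traces on the hyperoval of the secants through a point -/
def tr (Lf : Finset (Finset α)) (H : Finset α) (p : α) : Finset (Finset α) :=
  (secp Lf H p).image (fun l => l ∩ H)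

lemma mem_tr {p : α} {d : Finset α} :
    d ∈ tr Lf H p ↔ ∃ l ∈ Lf, p ∈ l ∧ (l ∩ H).card = 2 ∧ l ∩ H = d := by
  unfold tr
  rw [Finset.mem_image]
  constructor
  · rintro ⟨l, hl, rfl⟩
    rw [mem_secp] at hl
    exact ⟨l, hl.1, hl.2.1, hl.2.2, rfl⟩
  · rintro ⟨l, h1, h2, h3, h4⟩
    exact ⟨l, mem_secp.2 ⟨h1, h2, h3⟩, h4⟩

/-- a secant through a point off the hyperoval is determined by its trace -/
lemma secant_eq_of_trace (h : IsPlane4 Lf) {p : α} (hp : p ∉ H) {l m : Finset α}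
    (hl : l ∈ Lf) (hm : m ∈ Lf) (hpl : p ∈ l) (hpm : p ∈ m) {x : α} (hx : x ∈ l ∩ H)
    (hx' : x ∈ m ∩ H) : l = m := by
  rw [Finset.mem_inter] at hx hx'
  exact line_unique h hl hm (by rintro rfl; exact hp hx.2 : p ≠ x) hpl hx.1 hpm hx'.1

lemma tr_disjoint (h : IsPlane4 Lf) {p : α} (hp : p ∉ H) {d d' : Finset α}
    (hd : d ∈ tr Lf H p) (hd' : d' ∈ tr Lf H p) (hne : d ≠ d') : Disjoint d d' := by
  rw [mem_tr] at hd hd'
  obtain ⟨l, hl, hpl, -, rfl⟩ := hd
  obtain ⟨m, hm, hpm, -, rfl⟩ := hd'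
  rw [Finset.disjoint_left]
  intro x hx hx'
  apply hne
  rw [secant_eq_of_trace h hp hl hm hpl hpm hx hx']

lemma card_tr (hH : IsHyperoval Lf H) (h : IsPlane4 Lf) {p : α} (hp : p ∉ H) :
    (tr Lf H p).card = 3 := by
  unfold tr
  rw [Finset.card_image_of_injOn, card_secp hH h hp]
  intro l hl m hm hlm
  rw [Finset.mem_coe, mem_secp] at hl hm
  simp only at hlm
  obtain ⟨x, hx⟩ : (l ∩ H).Nonempty := by
    rw [← Finset.card_pos, hl.2.2]; norm_num
  exact secant_eq_of_trace h hp hl.1 hm.1 hl.2.1 hm.2.1 hx (hlm ▸ hx)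

lemma tr_sub {p : α} {d : Finset α} (hd : d ∈ tr Lf H p) : d ⊆ H ∧ d.card = 2 := by
  rw [mem_tr] at hd
  obtain ⟨l, -, -, h2, rfl⟩ := hd
  exact ⟨Finset.inter_subset_right, h2⟩

/-- the traces through a point off the hyperoval cover the hyperoval -/
lemma tr_cover (hH : IsHyperoval Lf H) (h : IsPlane4 Lf) {p : α} (hp : p ∉ H) {x : α} (hx : x ∈ H) :
    ∃ d ∈ tr Lf H p, x ∈ d := by
  obtain ⟨l, hl, hpl, hxl⟩ := exists_line h (by rintro rfl; exact hp hx : p ≠ x)
  have hxi : x ∈ l ∩ H := Finset.mem_inter.2 ⟨hxl, hx⟩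
  have h2 : (l ∩ H).card = 2 := by
    rcases hH.line h hl with h0 | h2
    · rw [Finset.card_eq_zero] at h0
      rw [h0] at hxi
      exact absurd hxi (Finset.notMem_empty x)
    · exact h2
  exact ⟨l ∩ H, mem_tr.2 ⟨l, hl, hpl, h2, rfl⟩, hxi⟩

/-- two points off the hyperoval with a common trace lie on a common secant -/
lemma tr_injective (hH : IsHyperoval Lf H) (h : IsPlane4 Lf) {p q : α} (hp : p ∉ H) (hq : q ∉ H)
    (hpq : tr Lf H p = tr Lf H q) : p = q := by
  by_contra hne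
  -- all three secants through p pass through q
  have hall : ∀ l ∈ secp Lf H p, q ∈ l := by
    intro l hl
    rw [mem_secp] at hl
    have hd : l ∩ H ∈ tr Lf H q := by
      rw [← hpq]; exact mem_tr.2 ⟨l, hl.1, hl.2.1, hl.2.2, rfl⟩
    rw [mem_tr] at hd
    obtain ⟨m, hm, hqm, hm2, hmd⟩ := hd
    obtain ⟨a, b, hab, hlab⟩ := Finset.card_eq_two.1 hl.2.2
    have ha : a ∈ l ∩ H := by rw [hlab]; simp
    have hb : b ∈ l ∩ H := by rw [hlab]; simp
    have ha' : a ∈ m ∩ H := by rw [hmd]; exact ha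
    have hb' : b ∈ m ∩ H := by rw [hmd]; exact hb
    rw [Finset.mem_inter] at ha hb ha' hb'
    have : l = m := line_unique h hl.1 hm hab ha.1 hb.1 ha'.1 hb'.1
    rw [this]; exact hqm
  have h3 := card_secp hH h hp
  obtain ⟨l, hl, m, hm, hlm⟩ := Finset.one_lt_card.1 (by rw [h3]; norm_num : 1 < (secp Lf H p).card)
  have hql := hall l hl
  have hqm := hall m hm
  rw [mem_secp] at hl hm
  exact hlm (line_unique h hl.1 hm.1 hne hl.2.1 hql hm.2.1 hqm)

/-- two disjoint duads of the hyperoval are traces of a common point off the hyperoval -/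
lemma exists_point_of_duads (hH : IsHyperoval Lf H) (h : IsPlane4 Lf) {d1 d2 : Finset α}
    (h1 : d1 ⊆ H) (h2 : d2 ⊆ H) (c1 : d1.card = 2) (c2 : d2.card = 2) (hdis : Disjoint d1 d2) :
    ∃ p, p ∉ H ∧ d1 ∈ tr Lf H p ∧ d2 ∈ tr Lf H p := by
  obtain ⟨a, b, hab, rfl⟩ := Finset.card_eq_two.1 c1
  obtain ⟨c, d, hcd, rfl⟩ := Finset.card_eq_two.1 c2
  have haH : a ∈ H := h1 (by simp)
  have hbH : b ∈ H := h1 (by simp)
  have hcH : c ∈ H := h2 (by simp)
  have hdH : d ∈ H := h2 (by simp)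
  obtain ⟨l, hl, hal, hbl⟩ := exists_line h hab
  obtain ⟨m, hm, hcm, hdm⟩ := exists_line h hcd
  have hlH := hH.inter_eq h hl hab haH hbH hal hbl
  have hmH := hH.inter_eq h hm hcd hcH hdH hcm hdm
  have hlm : m ≠ l := by
    intro e
    rw [e] at hmH
    have : c ∈ ({a, b} : Finset α) := by rw [← hlH, hmH]; simp
    exact Finset.disjoint_right.1 hdis (by simp : c ∈ ({c, d} : Finset α)) this
  have hmeet := h.meet hl hm hlm
  obtain ⟨p, hp⟩ := Finset.card_eq_one.1 hmeet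
  have hpm : p ∈ m ∩ l := by rw [hp]; exact Finset.mem_singleton_self p
  rw [Finset.mem_inter] at hpm
  have hpH : p ∉ H := by
    intro hpH
    have e1 : p ∈ ({a, b} : Finset α) := by rw [← hlH]; exact Finset.mem_inter.2 ⟨hpm.2, hpH⟩
    have e2 : p ∈ ({c, d} : Finset α) := by rw [← hmH]; exact Finset.mem_inter.2 ⟨hpm.1, hpH⟩
    exact Finset.disjoint_left.1 hdis e1 e2
  refine ⟨p, hpH, ?_, ?_⟩
  · exact mem_tr.2 ⟨l, hl, hpm.2, by rw [hlH, Finset.card_pair hab], hlH⟩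
  · exact mem_tr.2 ⟨m, hm, hpm.1, by rw [hmH, Finset.card_pair hcd], hmH⟩


/-- a map injective on a set is injective on the finsets inside it -/
lemma image_eq_of_injOn {γ δ : Type*} [DecidableEq γ] [DecidableEq δ] {F : γ → δ} {S : Set γ}
    (hF : Set.InjOn F S) {A B : Finset γ} (hA : ∀ x ∈ A, x ∈ S) (hB : ∀ x ∈ B, x ∈ S)
    (he : A.image F = B.image F) : A = B := by
  have key : ∀ {A B : Finset γ}, (∀ x ∈ A, x ∈ S) → (∀ x ∈ B, x ∈ S) → A.image F = B.image F →
      A ⊆ B := by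
    intro A B hA hB he x hx
    have : F x ∈ B.image F := by rw [← he]; exact Finset.mem_image_of_mem F hx
    obtain ⟨y, hy, hyx⟩ := Finset.mem_image.1 this
    have := hF (hB y hy) (hA x hx) hyx
    rw [← this]; exact hy
  exact Finset.Subset.antisymm (key hA hB he) (key hB hA he.symm)

/-- the third duad of a syntheme is determined by the other two -/
lemma third_duad (c6 : H.card = 6) {e1 e2 e : Finset α} (h1 : e1 ⊆ H) (h2 : e2 ⊆ H)
    (he : e ⊆ H) (c1 : e1.card = 2) (c2 : e2.card = 2) (c : e.card = 2) (d12 : Disjoint e1 e2)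
    (d1 : Disjoint e e1) (d2 : Disjoint e e2) : e = H \ (e1 ∪ e2) := by
  apply Finset.eq_of_subset_of_card_le
  · intro x hx
    rw [Finset.mem_sdiff, Finset.mem_union]
    exact ⟨he hx, fun hh => hh.elim (Finset.disjoint_left.1 d1 hx) (Finset.disjoint_left.1 d2 hx)⟩
  · rw [Finset.card_sdiff_of_subset (Finset.union_subset h1 h2), Finset.card_union_of_disjoint d12,
      c6, c1, c2, c]

/-- every syntheme of the hyperoval is the set of traces of a point -/
lemma exists_point_of_syntheme (hH : IsHyperoval Lf H) (h : IsPlane4 Lf) {T : Finset (Finset α)}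
    (hT3 : T.card = 3) (hTs : ∀ d ∈ T, d ⊆ H ∧ d.card = 2)
    (hTd : ∀ d ∈ T, ∀ d' ∈ T, d ≠ d' → Disjoint d d') : ∃ p, p ∉ H ∧ tr Lf H p = T := by
  obtain ⟨e1, e2, e3, h12, h13, h23, rfl⟩ := Finset.card_eq_three.1 hT3
  have m1 : e1 ∈ ({e1, e2, e3} : Finset (Finset α)) := by simp
  have m2 : e2 ∈ ({e1, e2, e3} : Finset (Finset α)) := by simp
  have m3 : e3 ∈ ({e1, e2, e3} : Finset (Finset α)) := by simp
  obtain ⟨p, hp, t1, t2⟩ := exists_point_of_duads hH h (hTs e1 m1).1 (hTs e2 m2).1 (hTs e1 m1).2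
    (hTs e2 m2).2 (hTd e1 m1 e2 m2 h12)
  refine ⟨p, hp, ?_⟩
  have c3 := card_tr hH h hp
  have hex : ∃ e ∈ tr Lf H p, e ≠ e1 ∧ e ≠ e2 := by
    have hc : (((tr Lf H p).erase e1).erase e2).card = 1 := by
      rw [Finset.card_erase_of_mem (Finset.mem_erase.2 ⟨h12.symm, t2⟩),
        Finset.card_erase_of_mem t1, c3]
    obtain ⟨e, he⟩ := Finset.card_eq_one.1 hc
    have hm : e ∈ ((tr Lf H p).erase e1).erase e2 := by rw [he]; exact Finset.mem_singleton_self e
    rw [Finset.mem_erase, Finset.mem_erase] at hm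
    exact ⟨e, hm.2.2, hm.2.1, hm.1⟩
  obtain ⟨e, het, he1, he2⟩ := hex
  have e_eq : e = H \ (e1 ∪ e2) :=
    third_duad hH.card (hTs e1 m1).1 (hTs e2 m2).1 (tr_sub het).1 (hTs e1 m1).2 (hTs e2 m2).2
      (tr_sub het).2 (hTd e1 m1 e2 m2 h12) (tr_disjoint h hp het t1 he1) (tr_disjoint h hp het t2 he2)
  have e3_eq : e3 = H \ (e1 ∪ e2) :=
    third_duad hH.card (hTs e1 m1).1 (hTs e2 m2).1 (hTs e3 m3).1 (hTs e1 m1).2 (hTs e2 m2).2
      (hTs e3 m3).2 (hTd e1 m1 e2 m2 h12) (hTd e3 m3 e1 m1 h13.symm) (hTd e3 m3 e2 m2 h23.symm)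
  symm
  apply Finset.eq_of_subset_of_card_le
  · intro x hx
    simp only [Finset.mem_insert, Finset.mem_singleton] at hx
    rcases hx with rfl | rfl | rfl
    · exact t1
    · exact t2
    · rw [e3_eq, ← e_eq]; exact het
  · rw [c3, hT3]

section Iso

variable {β : Type*} [Fintype β] [DecidableEq β] {Lf' : Finset (Finset β)} {H' : Finset β}
  {f0 : α → β}

/-- the image of the syntheme of a point is the syntheme of a point -/
lemma exists_corr (hH : IsHyperoval Lf H) (h : IsPlane4 Lf) (hH' : IsHyperoval Lf' H')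
    (h' : IsPlane4 Lf') (hf : Set.BijOn f0 ↑H ↑H') {p : α} (hp : p ∉ H) :
    ∃ p', p' ∉ H' ∧ tr Lf' H' p' = (tr Lf H p).image (fun d => d.image f0) := by
  apply exists_point_of_syntheme hH' h'
  · rw [Finset.card_image_of_injOn, card_tr hH h hp]
    intro d hd d' hd' he
    exact image_eq_of_injOn hf.injOn (fun x hx => (tr_sub hd).1 hx) (fun x hx => (tr_sub hd').1 hx) he
  · intro d' hd'
    obtain ⟨d, hd, rfl⟩ := Finset.mem_image.1 hd'
    constructor
    · intro y hy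
      obtain ⟨x, hx, rfl⟩ := Finset.mem_image.1 hy
      exact hf.mapsTo ((tr_sub hd).1 hx)
    · rw [Finset.card_image_of_injOn (hf.injOn.mono (fun x hx => (tr_sub hd).1 hx)), (tr_sub hd).2]
  · intro d1' hd1' d2' hd2' hne
    obtain ⟨d1, hd1, rfl⟩ := Finset.mem_image.1 hd1'
    obtain ⟨d2, hd2, rfl⟩ := Finset.mem_image.1 hd2'
    have hne' : d1 ≠ d2 := fun e => hne (by rw [e])
    have hdis := tr_disjoint h hp hd1 hd2 hne'
    rw [Finset.disjoint_left]
    intro y hy1 hy2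
    obtain ⟨x1, hx1, rfl⟩ := Finset.mem_image.1 hy1
    obtain ⟨x2, hx2, hx12⟩ := Finset.mem_image.1 hy2
    have := hf.injOn ((tr_sub hd2).1 hx2) ((tr_sub hd1).1 hx1) hx12
    rw [this] at hx2
    exact Finset.disjoint_left.1 hdis hx1 hx2

/-- `g` extends `f0` from the hyperoval via synthemes -/
structure IsExt (Lf : Finset (Finset α)) (H : Finset α) (Lf' : Finset (Finset β)) (H' : Finset β)
    (f0 g : α → β) : Prop where
  on : ∀ p ∈ H, g p = f0 p
  off : ∀ p, p ∉ H → g p ∉ H'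
  tr_eq : ∀ p, p ∉ H → tr Lf' H' (g p) = (tr Lf H p).image (fun d => d.image f0)

lemma exists_isExt (hH : IsHyperoval Lf H) (h : IsPlane4 Lf) (hH' : IsHyperoval Lf' H')
    (h' : IsPlane4 Lf') (hf : Set.BijOn f0 ↑H ↑H') : ∃ g : α → β, IsExt Lf H Lf' H' f0 g := by
  classical
  have hex : ∀ p, ∃ q, (p ∈ H → q = f0 p) ∧
      (p ∉ H → q ∉ H' ∧ tr Lf' H' q = (tr Lf H p).image (fun d => d.image f0)) := by
    intro p
    by_cases hp : p ∈ H
    · exact ⟨f0 p, fun _ => rfl, fun hn => absurd hp hn⟩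
    · obtain ⟨q, hq⟩ := exists_corr hH h hH' h' hf hp
      exact ⟨q, fun hn => absurd hn hp, fun _ => hq⟩
  choose g hg using hex
  exact ⟨g, fun p hp => (hg p).1 hp, fun p hp => ((hg p).2 hp).1, fun p hp => ((hg p).2 hp).2⟩

variable {g : α → β}

lemma IsExt.injective (hg : IsExt Lf H Lf' H' f0 g) (hH : IsHyperoval Lf H) (h : IsPlane4 Lf)
    (hf : Set.BijOn f0 ↑H ↑H') : Function.Injective g := by
  intro p q hpq
  by_cases hp : p ∈ H
  · by_cases hq : q ∈ H
    · rw [hg.on p hp, hg.on q hq] at hpq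
      exact hf.injOn hp hq hpq
    · exfalso
      have := hg.off q hq
      rw [← hpq, hg.on p hp] at this
      exact this (hf.mapsTo hp)
  · by_cases hq : q ∈ H
    · exfalso
      have := hg.off p hp
      rw [hpq, hg.on q hq] at this
      exact this (hf.mapsTo hq)
    · apply tr_injective hH h hp hq
      have e1 := hg.tr_eq p hp
      have e2 := hg.tr_eq q hq
      rw [hpq, e2] at e1
      have hinj : Set.InjOn (fun d : Finset α => d.image f0) {d | d ⊆ H} := by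
        intro d hd d' hd' he
        exact image_eq_of_injOn hf.injOn (fun x hx => hd hx) (fun x hx => hd' hx) he
      exact (image_eq_of_injOn hinj (fun d hd => (tr_sub hd).1) (fun d hd => (tr_sub hd).1) e1).symm


/-- secants are mapped onto lines -/
lemma IsExt.secant (hg : IsExt Lf H Lf' H' f0 g) (hH : IsHyperoval Lf H) (h : IsPlane4 Lf)
    (h' : IsPlane4 Lf') (hf : Set.BijOn f0 ↑H ↑H') {l : Finset α} (hl : l ∈ Lf)
    (h2 : (l ∩ H).card = 2) : l.image g ∈ Lf' := by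
  have hinj := hg.injective hH h hf
  obtain ⟨a, b, hab, hlab⟩ := Finset.card_eq_two.1 h2
  have ha : a ∈ l ∩ H := by rw [hlab]; simp
  have hb : b ∈ l ∩ H := by rw [hlab]; simp
  rw [Finset.mem_inter] at ha hb
  have hfab : f0 a ≠ f0 b := fun e => hab (hf.injOn ha.2 hb.2 e)
  obtain ⟨m, hm, ham, hbm⟩ := exists_line h' hfab
  have hsub : l.image g ⊆ m := by
    intro y hy
    obtain ⟨x, hx, rfl⟩ := Finset.mem_image.1 hy
    by_cases hxH : x ∈ H
    · have hxab : x ∈ ({a, b} : Finset α) := by rw [← hlab]; exact Finset.mem_inter.2 ⟨hx, hxH⟩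
      rw [Finset.mem_insert, Finset.mem_singleton] at hxab
      rw [hg.on x hxH]
      rcases hxab with rfl | rfl
      · exact ham
      · exact hbm
    · have hd : l ∩ H ∈ tr Lf H x := mem_tr.2 ⟨l, hl, hx, h2, rfl⟩
      have hd' : (l ∩ H).image f0 ∈ tr Lf' H' (g x) := by
        rw [hg.tr_eq x hxH]; exact Finset.mem_image_of_mem _ hd
      obtain ⟨m', hm', hgm', -, hm'd⟩ := mem_tr.1 hd'
      have ha' : f0 a ∈ m' ∩ H' := by rw [hm'd, hlab]; simp
      have hb' : f0 b ∈ m' ∩ H' := by rw [hm'd, hlab]; simp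
      rw [Finset.mem_inter] at ha' hb'
      rw [line_unique h' hm hm' hfab ham hbm ha'.1 hb'.1]
      exact hgm'
  have : l.image g = m := Finset.eq_of_subset_of_card_le hsub
    (by rw [Finset.card_image_of_injective _ hinj, h.k l hl, h'.k m hm])
  rw [this]; exact hm

/-- images of two points of an external line are joined by an external line -/
lemma IsExt.ext_join (hg : IsExt Lf H Lf' H' f0 g) (h : IsPlane4 Lf)
    (hH' : IsHyperoval Lf' H') (h' : IsPlane4 Lf') (hf : Set.BijOn f0 ↑H ↑H') {l : Finset α}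
    (hl : l ∈ Lf) (h0 : (l ∩ H).card = 0) {x y : α} (hx : x ∈ l) (hy : y ∈ l) (hxy : x ≠ y)
    {m : Finset β} (hm : m ∈ Lf') (hxm : g x ∈ m) (hym : g y ∈ m) : (m ∩ H').card = 0 := by
  rcases hH'.line h' hm with h0' | h2'
  · exact h0'
  · exfalso
    have hoff : ∀ z ∈ l, z ∉ H := by
      intro z hz hzH
      have : z ∈ l ∩ H := Finset.mem_inter.2 ⟨hz, hzH⟩
      rw [Finset.card_eq_zero.1 h0] at this
      exact absurd this (Finset.notMem_empty _)
    have hxH := hoff x hx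
    have hyH := hoff y hy
    have t1 : m ∩ H' ∈ tr Lf' H' (g x) := mem_tr.2 ⟨m, hm, hxm, h2', rfl⟩
    have t2 : m ∩ H' ∈ tr Lf' H' (g y) := mem_tr.2 ⟨m, hm, hym, h2', rfl⟩
    rw [hg.tr_eq x hxH] at t1
    rw [hg.tr_eq y hyH] at t2
    obtain ⟨d1, hd1, e1⟩ := Finset.mem_image.1 t1
    obtain ⟨d2, hd2, e2⟩ := Finset.mem_image.1 t2
    have hdd : d1 = d2 := image_eq_of_injOn hf.injOn (fun z hz => (tr_sub hd1).1 hz)
      (fun z hz => (tr_sub hd2).1 hz) (e1.trans e2.symm)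
    subst hdd
    obtain ⟨n1, hn1, hxn1, c1, hn1d⟩ := mem_tr.1 hd1
    obtain ⟨n2, hn2, hyn2, -, hn2d⟩ := mem_tr.1 hd2
    obtain ⟨a, b, hab, hd⟩ := Finset.card_eq_two.1 (tr_sub hd1).2
    have ha1 : a ∈ n1 ∩ H := by rw [hn1d, hd]; simp
    have hb1 : b ∈ n1 ∩ H := by rw [hn1d, hd]; simp
    have ha2 : a ∈ n2 ∩ H := by rw [hn2d, hd]; simp
    have hb2 : b ∈ n2 ∩ H := by rw [hn2d, hd]; simp
    rw [Finset.mem_inter] at ha1 hb1 ha2 hb2
    have hn : n1 = n2 := line_unique h hn1 hn2 hab ha1.1 hb1.1 ha2.1 hb2.1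
    have hnl : n1 = l := line_unique h hn1 hl hxy hxn1 (hn ▸ hyn2) hx hy
    rw [hnl] at c1
    omega

end Iso

/-- being joined by an external line -/
def ExtJ (Lf : Finset (Finset α)) (H : Finset α) (x y : α) : Prop :=
  ∃ E ∈ Lf, x ∈ E ∧ y ∈ E ∧ (E ∩ H).card = 0

lemma ExtJ.symm {x y : α} (hxy : ExtJ Lf H x y) : ExtJ Lf H y x := by
  obtain ⟨E, hE, hx, hy, h0⟩ := hxy
  exact ⟨E, hE, hy, hx, h0⟩

lemma ExtJ.notMem {x y : α} (hxy : ExtJ Lf H x y) : x ∉ H := by
  obtain ⟨E, -, hx, -, h0⟩ := hxy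
  intro hxH
  have : x ∈ E ∩ H := Finset.mem_inter.2 ⟨hx, hxH⟩
  rw [Finset.card_eq_zero.1 h0] at this
  exact absurd this (Finset.notMem_empty _)

/-- a point off a line is externally joined to at most two points of the line -/
lemma extJ_three (hH : IsHyperoval Lf H) (h : IsPlane4 Lf) {E : Finset α} (hE : E ∈ Lf)
    {q0 q1 q2 q : α} (h0 : q0 ∈ E) (h1 : q1 ∈ E) (h2 : q2 ∈ E) (h01 : q0 ≠ q1) (h02 : q0 ≠ q2)
    (h12 : q1 ≠ q2) (hq : q ∉ E) (j0 : ExtJ Lf H q q0) (j1 : ExtJ Lf H q q1)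
    (j2 : ExtJ Lf H q q2) : False := by
  have hqH := j0.notMem
  obtain ⟨A0, hA0, hqA0, hq0A0, c0⟩ := j0
  obtain ⟨A1, hA1, hqA1, hq1A1, c1⟩ := j1
  obtain ⟨A2, hA2, hqA2, hq2A2, c2⟩ := j2
  have key : ∀ {A B : Finset α} {x y : α}, A ∈ Lf → B ∈ Lf → x ∈ E → y ∈ E → x ≠ y → q ∈ A →
      x ∈ A → y ∈ B → A ≠ B := by
    intro A B x y hA _ hx hy hxy hqA hxA hyB e
    subst e
    have := line_unique h hA hE hxy hxA hyB hx hy
    exact hq (this ▸ hqA)
  have n01 : A0 ≠ A1 := key hA0 hA1 h0 h1 h01 hqA0 hq0A0 hq1A1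
  have n02 : A0 ≠ A2 := key hA0 hA2 h0 h2 h02 hqA0 hq0A0 hq2A2
  have n12 : A1 ≠ A2 := key hA1 hA2 h1 h2 h12 hqA1 hq1A1 hq2A2
  have hsub : ({A0, A1, A2} : Finset (Finset α)) ⊆ extp Lf H q := by
    intro A hA
    simp only [Finset.mem_insert, Finset.mem_singleton] at hA
    rcases hA with rfl | rfl | rfl
    · exact mem_extp.2 ⟨hA0, hqA0, c0⟩
    · exact mem_extp.2 ⟨hA1, hqA1, c1⟩
    · exact mem_extp.2 ⟨hA2, hqA2, c2⟩
  have hc := Finset.card_le_card hsub
  rw [card_extp hH h hqH, Finset.card_eq_three.2 ⟨A0, A1, A2, n01, n02, n12, rfl⟩] at hc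
  omega

/-- four points pairwise joined by external lines are collinear -/
lemma extJ_four (hH : IsHyperoval Lf H) (h : IsPlane4 Lf) {q0 q1 q2 q3 : α}
    (h01 : q0 ≠ q1) (h02 : q0 ≠ q2) (h03 : q0 ≠ q3) (h12 : q1 ≠ q2) (h13 : q1 ≠ q3)
    (h23 : q2 ≠ q3) (j01 : ExtJ Lf H q0 q1) (j02 : ExtJ Lf H q0 q2) (j03 : ExtJ Lf H q0 q3)
    (j12 : ExtJ Lf H q1 q2) (j13 : ExtJ Lf H q1 q3) (j23 : ExtJ Lf H q2 q3) :
    ∃ E ∈ Lf, (E ∩ H).card = 0 ∧ q0 ∈ E ∧ q1 ∈ E ∧ q2 ∈ E ∧ q3 ∈ E := by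
  have hq0H := j01.notMem
  obtain ⟨E1, hE1, a1, b1, c1⟩ := j01
  obtain ⟨E2, hE2, a2, b2, c2⟩ := j02
  obtain ⟨E3, hE3, a3, b3, c3⟩ := j03
  by_cases e12 : E1 = E2
  · subst e12
    by_cases hq3 : q3 ∈ E1
    · exact ⟨E1, hE1, c1, a1, b1, b2, hq3⟩
    · exact (extJ_three hH h hE1 a1 b1 b2 h01 h02 h12 hq3 ⟨E3, hE3, b3, a3, c3⟩ j13.symm
        j23.symm).elim
  by_cases e13 : E1 = E3
  · subst e13
    by_cases hq2 : q2 ∈ E1
    · exact ⟨E1, hE1, c1, a1, b1, hq2, b3⟩
    · exact (extJ_three hH h hE1 a1 b1 b3 h01 h03 h13 hq2 ⟨E2, hE2, b2, a2, c2⟩ j12.symm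
        j23).elim
  by_cases e23 : E2 = E3
  · subst e23
    by_cases hq1 : q1 ∈ E2
    · exact ⟨E2, hE2, c2, a2, hq1, b2, b3⟩
    · exact (extJ_three hH h hE2 a2 b2 b3 h02 h03 h23 hq1 ⟨E1, hE1, b1, a1, c1⟩ j12
        j13).elim
  exfalso
  have hsub : ({E1, E2, E3} : Finset (Finset α)) ⊆ extp Lf H q0 := by
    intro A hA
    simp only [Finset.mem_insert, Finset.mem_singleton] at hA
    rcases hA with rfl | rfl | rfl
    · exact mem_extp.2 ⟨hE1, a1, c1⟩
    · exact mem_extp.2 ⟨hE2, a2, c2⟩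
    · exact mem_extp.2 ⟨hE3, a3, c3⟩
  have hc := Finset.card_le_card hsub
  rw [card_extp hH h hq0H, Finset.card_eq_three.2 ⟨E1, E2, E3, e12, e13, e23, rfl⟩] at hc
  omega

/-- a set of at least four points pairwise joined by external lines lies on an external line -/
lemma extJ_clique (hH : IsHyperoval Lf H) (h : IsPlane4 Lf) {S : Finset α} (hS : 4 ≤ S.card)
    (hj : ∀ x ∈ S, ∀ y ∈ S, x ≠ y → ExtJ Lf H x y) : ∃ E ∈ Lf, (E ∩ H).card = 0 ∧ S ⊆ E := by
  obtain ⟨q0, hq0, q1, hq1, h01⟩ := Finset.one_lt_card.1 (by omega : 1 < S.card)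
  obtain ⟨E, hE, a, b, c⟩ := hj q0 hq0 q1 hq1 h01
  refine ⟨E, hE, c, ?_⟩
  intro q hq
  by_cases e0 : q = q0
  · rw [e0]; exact a
  by_cases e1 : q = q1
  · rw [e1]; exact b
  have hc : 0 < (((S.erase q0).erase q1).erase q).card := by
    have c1 : (S.erase q0).card = S.card - 1 := Finset.card_erase_of_mem hq0
    have c2 : ((S.erase q0).erase q1).card = (S.erase q0).card - 1 :=
      Finset.card_erase_of_mem (Finset.mem_erase.2 ⟨h01.symm, hq1⟩)
    have c3 : (((S.erase q0).erase q1).erase q).card = ((S.erase q0).erase q1).card - 1 :=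
      Finset.card_erase_of_mem (Finset.mem_erase.2 ⟨e1, Finset.mem_erase.2 ⟨e0, hq⟩⟩)
    omega
  obtain ⟨q', hq'⟩ := Finset.card_pos.1 hc
  rw [Finset.mem_erase, Finset.mem_erase, Finset.mem_erase] at hq'
  obtain ⟨n2, n1, n0, hq'S⟩ := hq'
  obtain ⟨E', hE', -, a', b', c', -⟩ := extJ_four hH h h01 (Ne.symm e0) (Ne.symm n0) (Ne.symm e1)
    (Ne.symm n1) (Ne.symm n2) (hj q0 hq0 q1 hq1 h01) (hj q0 hq0 q hq (Ne.symm e0))
    (hj q0 hq0 q' hq'S (Ne.symm n0)) (hj q1 hq1 q hq (Ne.symm e1)) (hj q1 hq1 q' hq'S (Ne.symm n1))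
    (hj q hq q' hq'S (Ne.symm n2))
  rw [line_unique h hE hE' h01 a b a' b']
  exact c'

section Iso2

variable {β : Type*} [Fintype β] [DecidableEq β] {Lf' : Finset (Finset β)} {H' : Finset β}
  {f0 g : α → β}

/-- all lines are mapped onto lines -/
lemma IsExt.line (hg : IsExt Lf H Lf' H' f0 g) (hH : IsHyperoval Lf H) (h : IsPlane4 Lf)
    (hH' : IsHyperoval Lf' H') (h' : IsPlane4 Lf') (hf : Set.BijOn f0 ↑H ↑H') {l : Finset α}
    (hl : l ∈ Lf) : l.image g ∈ Lf' := by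
  have hinj := hg.injective hH h hf
  rcases hH.line h hl with h0 | h2
  · have hc : (l.image g).card = 5 := by rw [Finset.card_image_of_injective _ hinj, h.k l hl]
    obtain ⟨E, hE, -, hsub⟩ := extJ_clique hH' h' (S := l.image g) (by omega) (by
      intro x' hx' y' hy' hne
      obtain ⟨x, hx, rfl⟩ := Finset.mem_image.1 hx'
      obtain ⟨y, hy, rfl⟩ := Finset.mem_image.1 hy'
      obtain ⟨m, hm, hxm, hym⟩ := exists_line h' hne
      exact ⟨m, hm, hxm, hym, hg.ext_join h hH' h' hf hl h0 hx hy (fun e => hne (by rw [e])) hm hxm hym⟩)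
    have : l.image g = E := Finset.eq_of_subset_of_card_le hsub (by rw [hc, h'.k E hE])
    rw [this]; exact hE
  · exact hg.secant hH h h' hf hl h2

/-- **Extension theorem**: a bijection between hyperovals of two planes of order 4 extends to an
isomorphism of the planes. -/
theorem exists_iso (hH : IsHyperoval Lf H) (h : IsPlane4 Lf) (hH' : IsHyperoval Lf' H')
    (h' : IsPlane4 Lf') (hf : Set.BijOn f0 ↑H ↑H') :
    ∃ e : α ≃ β, (∀ p ∈ H, e p = f0 p) ∧ Lf.image (fun l => l.image e) = Lf' := by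
  obtain ⟨g, hg⟩ := exists_isExt hH h hH' h' hf
  have hinj := hg.injective hH h hf
  have hbij : Function.Bijective g := by
    rw [Fintype.bijective_iff_injective_and_card]
    exact ⟨hinj, by rw [h.card, h'.card]⟩
  refine ⟨Equiv.ofBijective g hbij, fun p hp => by rw [Equiv.ofBijective_apply]; exact hg.on p hp, ?_⟩
  apply Finset.eq_of_subset_of_card_le
  · intro m hm
    obtain ⟨l, hl, rfl⟩ := Finset.mem_image.1 hm
    exact hg.line hH h hH' h' hf hl
  · rw [Finset.card_image_of_injective _ (Finset.image_injective (Equiv.ofBijective g hbij).injective),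
      h.card_lines, h'.card_lines]

end Iso2


/-- an automorphism of a plane of order 4 is determined by its action on a hyperoval -/
lemma aut_unique (hH : IsHyperoval Lf H) (h : IsPlane4 Lf) {g1 g2 : Equiv.Perm α}
    (h1 : ∀ l ∈ Lf, l.image g1 ∈ Lf) (h2 : ∀ l ∈ Lf, l.image g2 ∈ Lf)
    (h12 : ∀ x ∈ H, g1 x = g2 x) : g1 = g2 := by
  ext p
  by_cases hp : p ∈ H
  · exact h12 p hp
  · have c3 := card_secp hH h hp
    obtain ⟨n1, hn1, n2, hn2, hne⟩ :=
      Finset.one_lt_card.1 (by rw [c3]; norm_num : 1 < (secp Lf H p).card)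
    rw [mem_secp] at hn1 hn2
    have himg : ∀ n ∈ Lf, (n ∩ H).card = 2 → n.image g1 = n.image g2 := by
      intro n hn hc
      obtain ⟨a, b, hab, hnab⟩ := Finset.card_eq_two.1 hc
      have ha : a ∈ n ∩ H := by rw [hnab]; simp
      have hb : b ∈ n ∩ H := by rw [hnab]; simp
      rw [Finset.mem_inter] at ha hb
      apply line_unique h (h1 n hn) (h2 n hn) (x := g1 a) (y := g1 b)
        (fun e => hab (g1.injective e))
      · exact Finset.mem_image_of_mem _ ha.1
      · exact Finset.mem_image_of_mem _ hb.1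
      · rw [h12 a ha.2]; exact Finset.mem_image_of_mem _ ha.1
      · rw [h12 b hb.2]; exact Finset.mem_image_of_mem _ hb.1
    have i1 := himg n1 hn1.1 hn1.2.2
    have i2 := himg n2 hn2.1 hn2.2.2
    have hM : n2.image g1 ≠ n1.image g1 :=
      fun e => hne (Finset.image_injective g1.injective e).symm
    have hmeet := h.meet (h1 n1 hn1.1) (h1 n2 hn2.1) hM
    have m1 : g1 p ∈ n2.image g1 ∩ n1.image g1 :=
      Finset.mem_inter.2 ⟨Finset.mem_image_of_mem _ hn2.2.1, Finset.mem_image_of_mem _ hn1.2.1⟩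
    have m2 : g2 p ∈ n2.image g1 ∩ n1.image g1 := by
      rw [i1, i2]
      exact Finset.mem_inter.2 ⟨Finset.mem_image_of_mem _ hn2.2.1, Finset.mem_image_of_mem _ hn1.2.1⟩
    exact Finset.card_le_one.1 (le_of_eq hmeet) _ m1 _ m2

end Cfsg.Agent.helper28.Plane
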