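import Cfsg.Agent.Lib_helper28_Octad
set_option autoImplicit false

/-! Puncturing a self-dual `[24,12,≥8]` code on `Option κ` at the point `none`:
the punctured code is perfect. -/

namespace Cfsg.Agent.helper28.Puncture

open Finset Cfsg.Agent.helper28.Golay Cfsg.Agent.helper28.GolayGen Cfsg.Agent.helper28.Octad

variable {κ : Type*} [Fintype κ] [DecidableEq κ]

/-- delete the coordinate `none` -/
def punc (w : Option κ → ZMod 2) : κ → ZMod 2 := fun x => w (some x)

/-- extend by zero at `none` -/
def ext0 (u : κ → ZMod 2) : Option κ → ZMod 2 := fun o => o.elim 0 u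

omit [Fintype κ] [DecidableEq κ] in
lemma punc_ext0 (u : κ → ZMod 2) : punc (ext0 u) = u := rfl

omit [Fintype κ] [DecidableEq κ] in
lemma punc_sub (a b : Option κ → ZMod 2) : punc (a - b) = punc a - punc b := rfl

omit [DecidableEq κ] in
lemma wt_punc (w : Option κ → ZMod 2) :
    hammingNorm w = (if w none ≠ 0 then 1 else 0) + hammingNorm (punc w) := by
  unfold hammingNorm
  rw [Finset.card_filter, Finset.card_filter, Fintype.sum_option]
  rfl

omit [DecidableEq κ] in
lemma wt_punc_le (w : Option κ → ZMod 2) : hammingNorm (punc w) ≤ hammingNorm w := by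
  rw [wt_punc w]; omega

omit [DecidableEq κ] in
lemma wt_le_punc (w : Option κ → ZMod 2) : hammingNorm w ≤ hammingNorm (punc w) + 1 := by
  rw [wt_punc w]; split_ifs <;> omega

/-- the punctured code -/
def pcode (C : Submodule (ZMod 2) (Option κ → ZMod 2)) : Set (κ → ZMod 2) :=
  {u | ∃ w ∈ C, ∀ x : κ, u x = w (some x)}

omit [Fintype κ] [DecidableEq κ] in
lemma mem_pcode (C : Submodule (ZMod 2) (Option κ → ZMod 2)) (u : κ → ZMod 2) :
    u ∈ pcode C ↔ ∃ w ∈ C, u = punc w := by
  constructor
  · rintro ⟨w, hw, h⟩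
    exact ⟨w, hw, funext h⟩
  · rintro ⟨w, hw, rfl⟩
    exact ⟨w, hw, fun _ => rfl⟩

omit [DecidableEq κ] in
lemma dist_eq_wt_sub (x y : κ → ZMod 2) : hammingDist x y = hammingNorm (x - y) := by
  simp_rw [hammingNorm, hammingDist, Pi.sub_apply, ne_eq, sub_eq_zero]

variable {C : Submodule (ZMod 2) (Option κ → ZMod 2)}

omit [DecidableEq κ] in
lemma punc_injOn (h : IsGolay C) {a b : Option κ → ZMod 2} (ha : a ∈ C) (hb : b ∈ C)
    (hle : hammingNorm (punc a - punc b) ≤ 6) : a = b := by
  by_contra hne
  have hsub : a - b ∈ C := C.sub_mem ha hb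
  have h8 := h.min (a - b) hsub (sub_ne_zero.2 hne)
  have := wt_le_punc (a - b)
  rw [punc_sub] at this
  omega

theorem perfect (h : IsGolay C) (u : κ → ZMod 2) :
    ∃! c : κ → ZMod 2, c ∈ pcode C ∧ hammingDist u c ≤ 3 := by
  classical
  have hexists : ∃ v : Option κ → ZMod 2, v - ext0 u ∈ C ∧ hammingNorm (punc v) ≤ 3 := by
    rcases covering h.card C h.dim h.min (ext0 u) with ⟨v, hv, hv3, -⟩ | ⟨h6, h4⟩
    · exact ⟨v, hv, (wt_punc_le v).trans hv3⟩
    · set U := Finset.univ.filter
        (fun v : Option κ → ZMod 2 => v - ext0 u ∈ C ∧ hammingNorm v ≤ 4) with hU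
      have hUmem : ∀ v, v ∈ U ↔ v - ext0 u ∈ C ∧ hammingNorm v ≤ 4 := by
        intro v; rw [hU, Finset.mem_filter]; simp
      have hdisj : (↑U : Set (Option κ → ZMod 2)).PairwiseDisjoint supp := by
        intro v hv v' hv' hne
        rw [Finset.mem_coe, hUmem] at hv hv'
        have hd : v - v' ∈ C := by
          have := C.sub_mem hv.1 hv'.1
          rwa [sub_sub_sub_cancel_right] at this
        exact (pair_lemma C h.min v v' hv.2 hv'.2 hd hne).2.2
      have hcard : (U.biUnion supp).card = 24 := by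
        rw [Finset.card_biUnion hdisj]
        have : ∀ v ∈ U, (supp v).card = 4 := by
          intro v hv
          rw [hUmem] at hv
          rw [← wt_eq]
          exact h4 v hv.1 hv.2
        rw [Finset.sum_congr rfl this, Finset.sum_const, h6, smul_eq_mul]
      have huniv : U.biUnion supp = Finset.univ := by
        apply Finset.eq_univ_of_card
        rw [hcard, h.card]
      have hnone : (none : Option κ) ∈ U.biUnion supp := by
        rw [huniv]; exact Finset.mem_univ _
      rw [Finset.mem_biUnion] at hnone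
      obtain ⟨v0, hv0, hn⟩ := hnone
      rw [hUmem] at hv0
      refine ⟨v0, hv0.1, ?_⟩
      have h4' := h4 v0 hv0.1 hv0.2
      have hw := wt_punc v0
      rw [mem_supp] at hn
      rw [if_pos (by rw [hn]; exact one_ne_zero)] at hw
      omega
  obtain ⟨v, hv, hv3⟩ := hexists
  have hmem : ext0 u - v ∈ C := by
    rw [← neg_sub]; exact C.neg_mem hv
  refine ⟨punc (ext0 u - v), ⟨(mem_pcode C _).2 ⟨_, hmem, rfl⟩, ?_⟩, ?_⟩
  · rw [dist_eq_wt_sub]
    have : u - punc (ext0 u - v) = punc v := by
      rw [punc_sub, punc_ext0]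
      abel
    rw [this]
    exact hv3
  · rintro c ⟨hc, hc3⟩
    rw [mem_pcode] at hc
    obtain ⟨a, ha, rfl⟩ := hc
    have hfirst : hammingDist u (punc (ext0 u - v)) ≤ 3 := by
      rw [dist_eq_wt_sub]
      have : u - punc (ext0 u - v) = punc v := by
        rw [punc_sub, punc_ext0]
        abel
      rw [this]
      exact hv3
    have htri := hammingDist_triangle (punc a) u (punc (ext0 u - v))
    rw [hammingDist_comm (punc a) u, dist_eq_wt_sub (punc a)] at htri
    have := punc_injOn h ha hmem (by omega)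
    rw [this]

end Cfsg.Agent.helper28.Puncture
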