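import Cfsg.Agent.Lib_helper28_S12e
set_option autoImplicit false

/-! Steiner systems S(4,5,11): the extension to an S(5,6,12), and uniqueness. -/

namespace Cfsg.Agent.helper28.S11

open Finset Cfsg.Agent.S5625 Cfsg.Agent.helper28.Design Cfsg.Agent.helper28.S12

section Ext

variable {γ : Type*} [Fintype γ] [DecidableEq γ]

/-- `Bf` is the block set of a Steiner system S(4,5,11) -/
structure IsS11 (Bf : Finset (Finset γ)) : Prop where
  card : Fintype.card γ = 11
  k : ∀ b ∈ Bf, b.card = 5
  four : ∀ S : Finset γ, S.card = 4 → cnt Bf S = 1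

/-- the numbers of blocks of an S(4,5,11) through an i-set -/
def lam11 : ℕ → ℕ
  | 0 => 66 | 1 => 30 | 2 => 12 | 3 => 4 | 4 => 1 | _ => 0

variable {Bf : Finset (Finset γ)}

lemma IsS11.cnt_eq (h : IsS11 Bf) (S : Finset γ) (hS : S.card ≤ 4) : cnt Bf S = lam11 S.card := by
  have hα := h.card
  have hk := h.k
  have h4 := h.four
  have hcompl : ∀ S : Finset γ, Sᶜ.card = 11 - S.card := by
    intro S; rw [Finset.card_compl, hα]
  have hins : ∀ (S : Finset γ) x, x ∈ Sᶜ → (insert x S).card = S.card + 1 := by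
    intro S x hx
    rw [Finset.card_insert_of_notMem (Finset.mem_compl.1 hx)]
  have h3 : ∀ S : Finset γ, S.card = 3 → cnt Bf S = 4 := by
    intro S hS
    have := step Bf 5 hk S
    rw [Finset.sum_congr rfl (fun x hx => h4 _ (by rw [hins S x hx, hS])), Finset.sum_const,
      hcompl, hS, smul_eq_mul] at this
    omega
  have h2 : ∀ S : Finset γ, S.card = 2 → cnt Bf S = 12 := by
    intro S hS
    have := step Bf 5 hk S
    rw [Finset.sum_congr rfl (fun x hx => h3 _ (by rw [hins S x hx, hS])), Finset.sum_const,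
      hcompl, hS, smul_eq_mul] at this
    omega
  have h1 : ∀ S : Finset γ, S.card = 1 → cnt Bf S = 30 := by
    intro S hS
    have := step Bf 5 hk S
    rw [Finset.sum_congr rfl (fun x hx => h2 _ (by rw [hins S x hx, hS])), Finset.sum_const,
      hcompl, hS, smul_eq_mul] at this
    omega
  have h0 : cnt Bf (∅ : Finset γ) = 66 := by
    have := step Bf 5 hk (∅ : Finset γ)
    rw [Finset.sum_congr rfl (fun x hx => h1 _ (by rw [hins ∅ x hx, Finset.card_empty])),
      Finset.sum_const, hcompl, Finset.card_empty, smul_eq_mul] at this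
    omega
  have hcases : S.card = 0 ∨ S.card = 1 ∨ S.card = 2 ∨ S.card = 3 ∨ S.card = 4 := by omega
  rcases hcases with h | h | h | h | h
  · rw [h, Finset.card_eq_zero.1 h]; exact h0
  · rw [h]; exact h1 S h
  · rw [h]; exact h2 S h
  · rw [h]; exact h3 S h
  · rw [h]; exact h4 S h

lemma IsS11.cnt_self (h : IsS11 Bf) (T : Finset γ) (hT : T.card = 5) :
    cnt Bf T = if T ∈ Bf then 1 else 0 := by
  unfold cnt
  split_ifs with hmem
  · rw [Finset.card_eq_one]
    refine ⟨T, ?_⟩
    ext c
    simp only [Finset.mem_filter, Finset.mem_singleton]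
    constructor
    · rintro ⟨hc, hTc⟩
      exact (Finset.eq_of_subset_of_card_le hTc (by rw [hT, h.k c hc])).symm
    · rintro rfl
      exact ⟨hmem, Finset.Subset.refl _⟩
  · rw [Finset.card_eq_zero, Finset.filter_eq_empty_iff]
    intro c hc hTc
    have : T = c := Finset.eq_of_subset_of_card_le hTc (by rw [hT, h.k c hc])
    exact hmem (this ▸ hc)

/-- a 5-set that is not a block is disjoint from exactly one block; a block from none -/
lemma IsS11.disjoint_count (h : IsS11 Bf) (T : Finset γ) (hT : T.card = 5) :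
    (Bf.filter (fun b => (b ∩ T).card = 0)).card + (if T ∈ Bf then 1 else 0) = 1 := by
  have hm : ∀ j, j ≤ 4 → ∑ k ∈ range (T.card + 1),
      (Bf.filter (fun b => (b ∩ T).card = k)).card * k.choose j = (T.card).choose j * lam11 j := by
    intro j hj
    rw [moment]
    have hc : ∀ Q ∈ powersetCard j T, cnt Bf Q = lam11 j := by
      intro Q hQ
      rw [Finset.mem_powersetCard] at hQ
      rw [h.cnt_eq Q (by omega), hQ.2]
    rw [Finset.sum_congr rfl hc, Finset.sum_const, Finset.card_powersetCard, smul_eq_mul]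
  have m5 : ∑ k ∈ range (T.card + 1),
      (Bf.filter (fun b => (b ∩ T).card = k)).card * k.choose 5 = if T ∈ Bf then 1 else 0 := by
    rw [moment]
    have hp : powersetCard 5 T = {T} := by
      rw [← hT]; exact Finset.powersetCard_self T
    rw [hp, Finset.sum_singleton]
    exact h.cnt_self T hT
  have m0 := hm 0 (by norm_num)
  have m1 := hm 1 (by norm_num)
  have m2 := hm 2 (by norm_num)
  have m3 := hm 3 (by norm_num)
  have m4 := hm 4 (by norm_num)
  rw [hT] at m0 m1 m2 m3 m4 m5
  simp only [Finset.sum_range_succ, Finset.sum_range_zero, Nat.choose, lam11] at m0 m1 m2 m3 m4 m5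
  split_ifs at m5 ⊢ <;> omega

/-- the extension of an S(4,5,11): blocks with a new point added, and complements of blocks -/
def ext (Bf : Finset (Finset γ)) : Finset (Finset (Option γ)) :=
  Bf.image Finset.insertNone ∪ Bf.image (fun b => (bᶜ).map Function.Embedding.some)

lemma mem_ext {o : Finset (Option γ)} : o ∈ ext Bf ↔
    (∃ b ∈ Bf, Finset.insertNone b = o) ∨ (∃ b ∈ Bf, (bᶜ).map Function.Embedding.some = o) := by
  unfold ext
  rw [Finset.mem_union, Finset.mem_image, Finset.mem_image]

lemma mem_ext_of_none {o : Finset (Option γ)} (ho : o ∈ ext Bf) (hn : none ∈ o) :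
    ∃ b ∈ Bf, o = Finset.insertNone b := by
  rcases mem_ext.1 ho with ⟨b, hb, rfl⟩ | ⟨b, hb, rfl⟩
  · exact ⟨b, hb, rfl⟩
  · exact absurd hn (S22.none_notMem_map_some _)

lemma insertNone_mem_ext {c : Finset γ} : Finset.insertNone c ∈ ext Bf ↔ c ∈ Bf := by
  constructor
  · intro h
    obtain ⟨b, hb, hbc⟩ := mem_ext_of_none h (by simp)
    have := congrArg Finset.eraseNone hbc
    rw [Finset.eraseNone_insertNone, Finset.eraseNone_insertNone] at this
    rw [this]; exact hb
  · intro h
    exact mem_ext.2 (Or.inl ⟨c, h, rfl⟩)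

lemma map_some_sub_insertNone {T b : Finset γ} :
    T.map Function.Embedding.some ⊆ Finset.insertNone b ↔ T ⊆ b := by
  constructor
  · intro h x hx
    have : some x ∈ Finset.insertNone b := h (by simp [hx])
    exact Finset.some_mem_insertNone.1 this
  · intro h o ho
    rw [Finset.mem_map] at ho
    obtain ⟨x, hx, rfl⟩ := ho
    exact Finset.some_mem_insertNone.2 (h hx)

lemma sub_compl_iff {T b : Finset γ} : T ⊆ bᶜ ↔ (b ∩ T).card = 0 := by
  rw [Finset.card_eq_zero, ← Finset.disjoint_iff_inter_eq_empty]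
  constructor
  · intro h
    rw [Finset.disjoint_left]
    intro x hxb hxT
    exact (Finset.mem_compl.1 (h hxT)) hxb
  · intro h x hxT
    rw [Finset.mem_compl]
    intro hxb
    exact Finset.disjoint_left.1 h hxb hxT

theorem IsS11.isS12_ext (h : IsS11 Bf) : IsS12 (ext Bf) := by
  refine ⟨by rw [Fintype.card_option, h.card], ?_, ?_⟩
  · intro o ho
    rcases mem_ext.1 ho with ⟨b, hb, rfl⟩ | ⟨b, hb, rfl⟩
    · rw [Finset.card_insertNone, h.k b hb]
    · rw [Finset.card_map, Finset.card_compl, h.card, h.k b hb]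
  · intro S hS
    unfold cnt
    rw [Finset.card_eq_one]
    by_cases hn : none ∈ S
    · obtain ⟨T, rfl⟩ : ∃ T : Finset γ, S = Finset.insertNone T :=
        ⟨Finset.eraseNone S, (S22.insertNone_eraseNone_of_mem hn).symm⟩
      have hT4 : T.card = 4 := by
        rw [Finset.card_insertNone] at hS; omega
      have h1 := h.four _ hT4
      unfold cnt at h1
      rw [Finset.card_eq_one] at h1
      obtain ⟨b₀, hb₀⟩ := h1
      have hb₀m : b₀ ∈ Bf ∧ T ⊆ b₀ := by
        have : b₀ ∈ Bf.filter (fun c => T ⊆ c) := by rw [hb₀]; exact Finset.mem_singleton_self _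
        exact Finset.mem_filter.1 this
      refine ⟨Finset.insertNone b₀, ?_⟩
      ext o
      rw [Finset.mem_filter, Finset.mem_singleton]
      constructor
      · rintro ⟨ho, hSo⟩
        obtain ⟨b, hb, rfl⟩ := mem_ext_of_none ho (hSo hn)
        have hTb : T ⊆ b := by
          intro x hx
          exact Finset.some_mem_insertNone.1 (hSo (Finset.some_mem_insertNone.2 hx))
        have : b ∈ Bf.filter (fun c => T ⊆ c) := Finset.mem_filter.2 ⟨hb, hTb⟩
        rw [hb₀, Finset.mem_singleton] at this
        rw [this]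
      · rintro rfl
        exact ⟨insertNone_mem_ext.2 hb₀m.1, Finset.insertNone.monotone hb₀m.2⟩
    · obtain ⟨T, rfl⟩ : ∃ T : Finset γ, S = T.map Function.Embedding.some :=
        ⟨Finset.eraseNone S, (S22.map_some_eraseNone_of_notMem hn).symm⟩
      have hT5 : T.card = 5 := by
        rw [Finset.card_map] at hS; exact hS
      have hdc := h.disjoint_count T hT5
      by_cases hTB : T ∈ Bf
      · rw [if_pos hTB] at hdc
        have h0 : (Bf.filter (fun b => (b ∩ T).card = 0)).card = 0 := by omega
        refine ⟨Finset.insertNone T, ?_⟩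
        ext o
        rw [Finset.mem_filter, Finset.mem_singleton]
        constructor
        · rintro ⟨ho, hSo⟩
          rcases mem_ext.1 ho with ⟨b, hb, rfl⟩ | ⟨b, hb, rfl⟩
          · have hTb : T ⊆ b := map_some_sub_insertNone.1 hSo
            have : T = b := Finset.eq_of_subset_of_card_le hTb (by rw [hT5, h.k b hb])
            rw [this]
          · exfalso
            have hTb : T ⊆ bᶜ := Finset.map_subset_map.1 hSo
            have : b ∈ Bf.filter (fun b => (b ∩ T).card = 0) :=
              Finset.mem_filter.2 ⟨hb, sub_compl_iff.1 hTb⟩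
            rw [Finset.card_eq_zero] at h0
            rw [h0] at this
            exact absurd this (Finset.notMem_empty _)
        · rintro rfl
          exact ⟨insertNone_mem_ext.2 hTB, map_some_sub_insertNone.2 (Finset.Subset.refl _)⟩
      · rw [if_neg hTB] at hdc
        have h1 : (Bf.filter (fun b => (b ∩ T).card = 0)).card = 1 := by omega
        rw [Finset.card_eq_one] at h1
        obtain ⟨b₁, hb₁⟩ := h1
        have hb₁m : b₁ ∈ Bf ∧ (b₁ ∩ T).card = 0 := by
          have : b₁ ∈ Bf.filter (fun b => (b ∩ T).card = 0) := by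
            rw [hb₁]; exact Finset.mem_singleton_self _
          exact Finset.mem_filter.1 this
        refine ⟨(b₁ᶜ).map Function.Embedding.some, ?_⟩
        ext o
        rw [Finset.mem_filter, Finset.mem_singleton]
        constructor
        · rintro ⟨ho, hSo⟩
          rcases mem_ext.1 ho with ⟨b, hb, rfl⟩ | ⟨b, hb, rfl⟩
          · exfalso
            have hTb : T ⊆ b := map_some_sub_insertNone.1 hSo
            have : T = b := Finset.eq_of_subset_of_card_le hTb (by rw [hT5, h.k b hb])
            exact hTB (this ▸ hb)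
          · have hTb : T ⊆ bᶜ := Finset.map_subset_map.1 hSo
            have : b ∈ Bf.filter (fun b => (b ∩ T).card = 0) :=
              Finset.mem_filter.2 ⟨hb, sub_compl_iff.1 hTb⟩
            rw [hb₁, Finset.mem_singleton] at this
            rw [this]
        · rintro rfl
          exact ⟨mem_ext.2 (Or.inr ⟨b₁, hb₁m.1, rfl⟩),
            Finset.map_subset_map.2 (sub_compl_iff.2 hb₁m.2)⟩

end Ext

section Unique

lemma optionCongr_removeNone' {α β : Type*} (Ψ : Option α ≃ Option β) (hΨ : Ψ none = none) :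
    Equiv.optionCongr (Equiv.removeNone Ψ) = Ψ := by
  apply Equiv.ext
  intro x
  cases x with
  | none => simp [hΨ]
  | some x =>
    simp only [Equiv.optionCongr_apply, Option.map_some]
    apply Equiv.removeNone_some
    cases h : Ψ (some x) with
    | none =>
      exfalso
      have := Ψ.injective (h.trans hΨ.symm)
      cases this
    | some y => exact ⟨y, rfl⟩

theorem unique11 {γ γ' : Type*} [Fintype γ] [DecidableEq γ] [Fintype γ'] [DecidableEq γ']
    (hγ : Fintype.card γ = 11) (hγ' : Fintype.card γ' = 11) {B : Set (Finset γ)}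
    {B' : Set (Finset γ')} (hB : Cfsg.IsSteinerSystem 4 5 B) (hB' : Cfsg.IsSteinerSystem 4 5 B') :
    Cfsg.SetSystemIso B B' := by
  have h11 : IsS11 (toF B) := ⟨hγ, toF_card hB, toF_cnt hB⟩
  have h11' : IsS11 (toF B') := ⟨hγ', toF_card hB', toF_cnt hB'⟩
  have hE := h11.isS12_ext
  have hE' := h11'.isS12_ext
  have c1 : Fintype.card (Option γ) = Fintype.card (Fin 3 ⊕ Fin 9) := by
    rw [Fintype.card_option, hγ]; simp
  have c2 : Fintype.card (Option γ') = Fintype.card (Fin 3 ⊕ Fin 9) := by
    rw [Fintype.card_option, hγ']; simp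
  let σ₀ : Option γ ≃ Fin 3 ⊕ Fin 9 := Fintype.equivOfCardEq c1
  let σ₀' : Option γ' ≃ Fin 3 ⊕ Fin 9 := Fintype.equivOfCardEq c2
  let σ : Option γ ≃ Fin 3 ⊕ Fin 9 := σ₀.trans (Equiv.swap (σ₀ none) (Sum.inl 0))
  let σ' : Option γ' ≃ Fin 3 ⊕ Fin 9 := σ₀'.trans (Equiv.swap (σ₀' none) (Sum.inl 0))
  have hσ : σ none = Sum.inl 0 := by
    show Equiv.swap (σ₀ none) (Sum.inl 0) (σ₀ none) = Sum.inl 0
    exact Equiv.swap_apply_left _ _
  have hσ' : σ' none = Sum.inl 0 := by
    show Equiv.swap (σ₀' none) (Sum.inl 0) (σ₀' none) = Sum.inl 0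
    exact Equiv.swap_apply_left _ _
  have hD := isS12_transport σ hE.card hE.k hE.five
  have hD' := isS12_transport σ' hE'.card hE'.k hE'.five
  obtain ⟨Φ, hΦ0, hΦ⟩ := exists_iso12_strong hD hD'
  have hΨ := image_conj σ σ' Φ hΦ
  set Ψ : Option γ ≃ Option γ' := σ.trans (Φ.trans σ'.symm) with hΨdef
  have hΨn : Ψ none = none := by
    show σ'.symm (Φ (σ none)) = none
    rw [hσ, hΦ0, ← hσ', Equiv.symm_apply_apply]
  have hoc := optionCongr_removeNone' Ψ hΨn
  refine ⟨Equiv.removeNone Ψ, ?_⟩
  ext c
  constructor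
  · rintro ⟨b, hb, rfl⟩
    show b.image (Equiv.removeNone Ψ) ∈ B'
    have h1 : Finset.insertNone b ∈ ext (toF B) := insertNone_mem_ext.2 ((mem_toF B b).2 hb)
    have h2 : (Finset.insertNone b).image Ψ ∈ ext (toF B') := by
      rw [← hΨ]; exact Finset.mem_image_of_mem _ h1
    rw [← hoc, S22.image_optionCongr_insertNone, insertNone_mem_ext] at h2
    exact (mem_toF B' _).1 h2
  · intro hc
    have h1 : Finset.insertNone c ∈ ext (toF B') := insertNone_mem_ext.2 ((mem_toF B' c).2 hc)
    rw [← hΨ] at h1
    obtain ⟨o, ho, hoc'⟩ := Finset.mem_image.1 h1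
    have hoc'' : o.image Ψ = Finset.insertNone c := hoc'
    have hno : none ∈ o := by
      have : (none : Option γ') ∈ o.image Ψ := by rw [hoc'']; simp
      obtain ⟨x, hx, hxn⟩ := Finset.mem_image.1 this
      have : x = none := Ψ.injective (hxn.trans hΨn.symm)
      rw [← this]; exact hx
    obtain ⟨b, hb, rfl⟩ := mem_ext_of_none ho hno
    rw [← hoc, S22.image_optionCongr_insertNone] at hoc''
    have h3 := congrArg Finset.eraseNone hoc''
    rw [Finset.eraseNone_insertNone, Finset.eraseNone_insertNone] at h3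
    exact ⟨b, (mem_toF B b).1 hb, h3⟩

end Unique

end Cfsg.Agent.helper28.S11
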