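import Cfsg.Agent.Lib_helper28_S12f
import Cfsg.Agent.Lib_helper28_AG23b
import Cfsg.Agent.Lib_helper28_Aut23
import Cfsg.Agent.Lib_helper28_Sharp
set_option autoImplicit false

/-! The automorphism group of a Steiner system S(5,6,12) is sharply 5-transitive, hence simple of
order 95040. -/

namespace Cfsg.Agent.helper28.S12

open Finset Cfsg.Agent.S5625 Cfsg.Agent.helper28.Design Cfsg.Agent.helper28.AG23
open Cfsg.Agent.helper28.S24 (cls mem_cls fin3_compl_card fin3_compl_inj image_sumCongr_disjSum)

section Collineations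

/-- injective maps of the grid preserving lines -/
structure IsCol (g : P → P) : Prop where
  inj : Function.Injective g
  lines : ∀ T ∈ lineList, T.image g ∈ lineList

lemma IsCol.third {h h' : P → P} (hc : IsCol h) (hc' : IsCol h') {x y z : P}
    (hT : ({x, y, z} : Finset P) ∈ lineList) (hxy : x ≠ y) (hxz : x ≠ z) (hyz : y ≠ z)
    (ex : h x = h' x) (ey : h y = h' y) : h z = h' z := by
  have h1 := hc.lines _ hT
  have h2 := hc'.lines _ hT
  have heq : ({x, y, z} : Finset P).image h = ({x, y, z} : Finset P).image h' := by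
    by_contra hne
    have hle := line_inter _ h1 _ h2 hne
    have hsub : ({h x, h y} : Finset P) ⊆
        ({x, y, z} : Finset P).image h ∩ ({x, y, z} : Finset P).image h' := by
      intro w hw
      rw [Finset.mem_insert, Finset.mem_singleton] at hw
      rw [Finset.mem_inter]
      rcases hw with rfl | rfl
      · exact ⟨Finset.mem_image_of_mem _ (by simp),
          by rw [ex]; exact Finset.mem_image_of_mem _ (by simp)⟩
      · exact ⟨Finset.mem_image_of_mem _ (by simp),
          by rw [ey]; exact Finset.mem_image_of_mem _ (by simp)⟩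
    have hc2 : ({h x, h y} : Finset P).card = 2 := Finset.card_pair (fun hh => hxy (hc.inj hh))
    have := Finset.card_le_card hsub
    omega
  have hz : h z ∈ ({x, y, z} : Finset P).image h' := by
    rw [← heq]; exact Finset.mem_image_of_mem _ (by simp)
  rw [Finset.mem_image] at hz
  obtain ⟨w, hw, hwz⟩ := hz
  rw [Finset.mem_insert, Finset.mem_insert, Finset.mem_singleton] at hw
  rcases hw with rfl | rfl | rfl
  · exfalso; exact hxz (hc.inj (ex.trans hwz))
  · exfalso; exact hyz (hc.inj (ey.trans hwz))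
  · exact hwz.symm

lemma IsCol.ext3 {h h' : P → P} (hc : IsCol h) (hc' : IsCol h') (e0 : h (0, 0) = h' (0, 0))
    (e1 : h (1, 0) = h' (1, 0)) (e2 : h (0, 1) = h' (0, 1)) : ∀ q, h q = h' q := by
  have e20 : h (2, 0) = h' (2, 0) := hc.third hc' (x := (0, 0)) (y := (1, 0)) (z := (2, 0))
    (by decide) (by decide) (by decide) (by decide) e0 e1
  have e02 : h (0, 2) = h' (0, 2) := hc.third hc' (x := (0, 0)) (y := (0, 1)) (z := (0, 2))
    (by decide) (by decide) (by decide) (by decide) e0 e2
  have e11 : h (1, 1) = h' (1, 1) := hc.third hc' (x := (2, 0)) (y := (0, 2)) (z := (1, 1))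
    (by decide) (by decide) (by decide) (by decide) e20 e02
  have e21 : h (2, 1) = h' (2, 1) := hc.third hc' (x := (0, 1)) (y := (1, 1)) (z := (2, 1))
    (by decide) (by decide) (by decide) (by decide) e2 e11
  have e12 : h (1, 2) = h' (1, 2) := hc.third hc' (x := (1, 0)) (y := (1, 1)) (z := (1, 2))
    (by decide) (by decide) (by decide) (by decide) e1 e11
  have e22 : h (2, 2) = h' (2, 2) := hc.third hc' (x := (2, 0)) (y := (2, 1)) (z := (2, 2))
    (by decide) (by decide) (by decide) (by decide) e20 e21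
  intro ⟨a, b⟩
  fin_cases a <;> fin_cases b
  · exact e0
  · exact e2
  · exact e02
  · exact e1
  · exact e11
  · exact e12
  · exact e20
  · exact e21
  · exact e22

lemma IsCol.lines_surj {g : P → P} (hc : IsCol g) :
    ∀ l ∈ lineList, ∃ l' ∈ lineList, l'.image g = l := by
  have hsub : lineList.toFinset.image (fun T => T.image g) ⊆ lineList.toFinset := by
    intro T hT
    obtain ⟨T', hT', rfl⟩ := Finset.mem_image.1 hT
    rw [List.mem_toFinset] at hT' ⊢
    exact hc.lines T' hT'
  have heq := Finset.eq_of_subset_of_card_le hsub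
    (by rw [Finset.card_image_of_injective _ (Finset.image_injective hc.inj)])
  intro l hl
  have hm : l ∈ lineList.toFinset.image (fun T => T.image g) := by
    rw [heq, List.mem_toFinset]; exact hl
  obtain ⟨l', hl', rfl⟩ := Finset.mem_image.1 hm
  exact ⟨l', List.mem_toFinset.1 hl', rfl⟩

lemma IsCol.arc_image {g : P → P} (hc : IsCol g) {Q : Finset P} (hQ : Q ∈ arcList) :
    Q.image g ∈ arcList := by
  rw [arc_iff] at hQ ⊢
  refine ⟨by rw [Finset.card_image_of_injective _ hc.inj]; exact hQ.1, ?_⟩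
  intro l hl
  obtain ⟨l', hl', rfl⟩ := hc.lines_surj l hl
  rw [← Finset.image_inter _ _ hc.inj, Finset.card_image_of_injective _ hc.inj]
  exact hQ.2 l' hl'

lemma cref_invariant {g : P → P} (hc : IsCol g) (h0 : cref ((A 0).image g) = cref (A 0))
    (h1 : cref ((A 1).image g) = cref (A 1)) : ∀ Q ∈ arcList, cref (Q.image g) = cref Q := by
  have hv : Valid (fun Q => cref (Q.image g)) := by
    refine ⟨?_, ?_⟩
    · intro Q Q' hQ hQ' hd
      exact valid_cref.dis _ _ (hc.arc_image hQ) (hc.arc_image hQ')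
        (by rw [Finset.disjoint_image hc.inj]; exact hd)
    · intro Q Q' hQ hQ' h3
      exact valid_cref.adj _ _ (hc.arc_image hQ) (hc.arc_image hQ')
        (by rw [← Finset.image_inter _ _ hc.inj, Finset.card_image_of_injective _ hc.inj]; exact h3)
  exact seeds_determine hv valid_cref h0 h1

end Collineations

section Std

variable {D : Finset (Finset (Fin 3 ⊕ P))}

lemma col_eq_cref (h : IsS12 D) (hL : cls D Finset.univ = L₀) :
    ∃ ρ : Equiv.Perm (Fin 3), ∀ Q ∈ arcList, ρ (cref Q) = col D Q := by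
  have hv := valid_col h hL
  obtain ⟨s0, s1, s01⟩ := seeds_adj
  obtain ⟨ρ, h0, h1⟩ := fin3_perm _ _ _ _ (valid_cref.adj _ _ s0 s1 s01) (hv.adj _ _ s0 s1 s01)
  have hvρ : Valid (fun Q => ρ (cref Q)) :=
    ⟨fun Q Q' hQ hQ' hd => congrArg ρ (valid_cref.dis Q Q' hQ hQ' hd),
     fun Q Q' hQ hQ' h3 heq => valid_cref.adj Q Q' hQ hQ' h3 (ρ.injective heq)⟩
  exact ⟨ρ, seeds_determine hvρ hv h0 h1⟩

lemma image_id_std (X : Finset (Finset (Fin 3 ⊕ P))) :
    X.image (fun b => b.image (Equiv.sumCongr (Equiv.refl (Fin 3)) (Equiv.refl P))) = X := by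
  rw [Equiv.sumCongr_refl]
  simp

/-- a collineation preserving the reference colouring gives an automorphism -/
lemma aut_of_col (h : IsS12 D) (hL : cls D Finset.univ = L₀) (g : Equiv.Perm P)
    (hc : IsCol g) (hcref : ∀ Q ∈ arcList, cref (Q.image g) = cref Q) :
    D.image (fun b => b.image (Equiv.sumCongr (Equiv.refl (Fin 3)) g)) = D := by
  obtain ⟨ρ, hρ⟩ := col_eq_cref h hL
  have h₂ : IsS12 (D.image (fun b => b.image (Equiv.sumCongr (Equiv.refl (Fin 3)) g))) :=
    isS12_transport _ h.card h.k h.five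
  have hL₂ : cls (D.image (fun b => b.image (Equiv.sumCongr (Equiv.refl (Fin 3)) g)))
      Finset.univ = L₀ := by
    rw [cls_image_std, hL]; exact L₀_image g hc.lines
  have hc' := core h₂ h (Equiv.refl _) (by rw [hL₂, hL]) (fun k R hR => by
    rw [cls_image_std] at hR
    obtain ⟨Q, hQ, rfl⟩ := Finset.mem_image.1 hR
    have hQa := mem_arc_of_cls h hL (fin3_compl_card k) hQ
    have e := col_eq h hQ
    have hQga := hc.arc_image hQa
    have h2 := col_spec h hL hQga
    rw [← hρ _ hQga, hcref Q hQa, hρ Q hQa, e] at h2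
    exact h2)
  rw [image_id_std] at hc'
  exact hc'

lemma exists_aut_to_base (h : IsS12 D) (hL : cls D Finset.univ = L₀) {p p' : P} (hpp : p ≠ p') :
    ∃ g : Equiv.Perm P,
      D.image (fun b => b.image (Equiv.sumCongr (Equiv.refl (Fin 3)) g)) = D ∧
      g p = (0, 0) ∧ g p' = (1, 0) := by
  obtain ⟨k, hk, hk0, hk1⟩ := par72_to_base p p' hpp
  have hbij : Function.Bijective (affK k) :=
    Finite.injective_iff_bijective.1 (fun a b hab => par72_inj k hk a b hab)
  have hcol : IsCol (affK k) := ⟨hbij.1, par72_lines k hk⟩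
  have hinv := cref_invariant hcol (par72_seed k hk).1 (par72_seed k hk).2
  exact ⟨Equiv.ofBijective (affK k) hbij, aut_of_col h hL _ hcol hinv, hk0, hk1⟩

/-- an automorphism fixing the three points at infinity and two affine points is trivial -/
lemma rigid (h : IsS12 D) (hL : cls D Finset.univ = L₀) (ψ : Equiv.Perm (Fin 3 ⊕ P))
    (hψ : ∀ b ∈ D, b.image ψ ∈ D) (hfix : ∀ i, ψ (Sum.inl i) = Sum.inl i)
    (h0 : ψ (Sum.inr (0, 0)) = Sum.inr (0, 0)) (h1 : ψ (Sum.inr (1, 0)) = Sum.inr (1, 0)) :
    ψ = 1 := by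
  have hex : ∀ p : P, ∃ q : P, ψ (Sum.inr p) = Sum.inr q := by
    intro p
    cases hq : ψ (Sum.inr p) with
    | inl i =>
      exfalso
      have := ψ.injective (hq.trans (hfix i).symm)
      cases this
    | inr q => exact ⟨q, rfl⟩
  choose g hg using hex
  have hginj : Function.Injective g := by
    intro p q hpq
    have : ψ (Sum.inr p) = ψ (Sum.inr q) := by rw [hg, hg, hpq]
    exact Sum.inr_injective (ψ.injective this)
  have hgbij : Function.Bijective g := Finite.injective_iff_bijective.1 hginj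
  have hψeq : ψ = Equiv.sumCongr (Equiv.refl (Fin 3)) (Equiv.ofBijective g hgbij) := by
    apply Equiv.ext
    intro x
    cases x with
    | inl i => rw [hfix]; rfl
    | inr p => rw [hg]; rfl
  have himg : ∀ (J : Finset (Fin 3)) (S : Finset P),
      (J.disjSum S).image ψ = J.disjSum (S.image g) := by
    intro J S
    rw [hψeq, image_sumCongr_disjSum, Equiv.coe_refl, Finset.image_id]
    rfl
  have hcls : ∀ (J : Finset (Fin 3)) (S : Finset P), S ∈ cls D J → S.image g ∈ cls D J := by
    intro J S hS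
    rw [mem_cls] at hS ⊢
    rw [← himg]
    exact hψ _ hS
  have hcol : IsCol g := by
    refine ⟨hginj, fun T hT => ?_⟩
    have h1 : T ∈ cls D Finset.univ := by rw [hL, mem_L₀, line_iff]; exact hT
    have h2 := hcls _ _ h1
    rw [hL, mem_L₀, line_iff] at h2
    exact h2
  have g00 : g (0, 0) = (0, 0) := Sum.inr_injective ((hg _).symm.trans h0)
  have g10 : g (1, 0) = (1, 0) := Sum.inr_injective ((hg _).symm.trans h1)
  have hT0 : T0.image g = T0 := by
    apply T0_unique _ (hcol.lines _ T0_mem)
    · rw [← g00]; exact Finset.mem_image_of_mem _ (by decide)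
    · rw [← g10]; exact Finset.mem_image_of_mem _ (by decide)
  have hv : g (0, 1) ∉ T0 := by
    intro hh
    rw [← hT0, Finset.mem_image] at hh
    obtain ⟨t, ht, hte⟩ := hh
    rw [hginj hte] at ht
    exact not_mem_T0 ht
  obtain ⟨k, hk, hkv⟩ := st6_cover _ (off_T0 _ hv)
  have hcol' : IsCol (affK k) := ⟨fun a b hab => st6_inj k hk a b hab, st6_lines k hk⟩
  have hext := hcol.ext3 hcol' (by rw [g00, (st6_fix k hk).1]) (by rw [g10, (st6_fix k hk).2])
    (by rw [hkv])
  by_cases hkid : k = (1, 0, 0, 1, 0, 0)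
  · apply Equiv.ext
    intro x
    cases x with
    | inl i => rw [hfix]; rfl
    | inr p => rw [hg, hext, hkid, st6_id]; rfl
  · exfalso
    obtain ⟨i, hi, hia, hne⟩ := st6_break k hk hkid
    obtain ⟨ρ, hρ⟩ := col_eq_cref h hL
    have hAi : A i ∈ arcList := A_mem54 i hi
    have hspec := col_spec h hL hAi
    have himg' := hcls _ _ hspec
    have e := col_eq h himg'
    rw [Finset.image_congr (fun q _ => hext q)] at e
    rw [← hρ _ hia, ← hρ _ hAi] at e
    exact hne (ρ.injective e)

end Std

section Frames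

variable {α : Type*} [Fintype α] [DecidableEq α]

/-- the five base points of a standard frame -/
def base5 : Fin 5 ↪ Fin 3 ⊕ P :=
  ⟨![Sum.inl 0, Sum.inl 1, Sum.inl 2, Sum.inr (0, 0), Sum.inr (1, 0)], by decide⟩

/-- the five base points before coordinates -/
def base5' : Fin 5 ↪ Fin 3 ⊕ Fin 9 :=
  ⟨![Sum.inl 0, Sum.inl 1, Sum.inl 2, Sum.inr 0, Sum.inr 1], by decide⟩

lemma pointed_frame (hα : Fintype.card α = 12) {B : Set (Finset α)}
    (hB : Cfsg.IsSteinerSystem 5 6 B) (x : Fin 5 ↪ α) :
    ∃ s : α ≃ Fin 3 ⊕ P, IsS12 ((toF B).image (fun b => b.image s)) ∧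
      cls ((toF B).image (fun b => b.image s)) Finset.univ = L₀ ∧ ∀ i, s (x i) = base5 i := by
  have c1 : Fintype.card α = Fintype.card (Fin 3 ⊕ Fin 9) := by rw [hα]; simp
  let σ₀ : α ≃ Fin 3 ⊕ Fin 9 := Fintype.equivOfCardEq c1
  obtain ⟨τ, hτ⟩ := Equiv.Perm.exists_smul_eq_embedding (x.trans σ₀.toEmbedding) base5'
  have hσ : ∀ i, (σ₀.trans τ) (x i) = base5' i := by
    intro i
    have := DFunLike.congr_fun hτ i
    exact this
  have hD := isS12_transport (σ₀.trans τ) hα (toF_card hB) (toF_cnt hB)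
  obtain ⟨e, he, he0, he1⟩ := (isPlane3 hD).exists_grid_pointed (p := (0 : Fin 9)) (p' := 1)
    (by decide)
  refine ⟨(σ₀.trans τ).trans (Equiv.sumCongr (Equiv.refl (Fin 3)) e), ?_, ?_, ?_⟩
  · exact isS12_transport _ hα (toF_card hB) (toF_cnt hB)
  · have him : (toF B).image (fun b => b.image
        ((σ₀.trans τ).trans (Equiv.sumCongr (Equiv.refl (Fin 3)) e))) =
        ((toF B).image (fun b => b.image (σ₀.trans τ))).image
          (fun b => b.image (Equiv.sumCongr (Equiv.refl (Fin 3)) e)) := by
      rw [Finset.image_image]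
      apply Finset.image_congr
      intro b _
      show b.image _ = (b.image _).image _
      rw [Finset.image_image]
      rfl
    rw [him, cls_image_std]
    exact he
  · intro i
    show (Equiv.sumCongr (Equiv.refl (Fin 3)) e) ((σ₀.trans τ) (x i)) = base5 i
    rw [hσ i]
    fin_cases i
    · rfl
    · rfl
    · rfl
    · show Sum.inr (e 0) = Sum.inr ((0 : Fin 3), (0 : Fin 3))
      rw [he0]
    · show Sum.inr (e 1) = Sum.inr ((1 : Fin 3), (0 : Fin 3))
      rw [he1]

theorem five_trans (hα : Fintype.card α = 12) {B : Set (Finset α)}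
    (hB : Cfsg.IsSteinerSystem 5 6 B) :
    MulAction.IsMultiplyPretransitive (Cfsg.setSystemAut B) α 5 := by
  rw [MulAction.isMultiplyPretransitive_iff]
  intro x y
  obtain ⟨s, hs, hL, hx⟩ := pointed_frame hα hB x
  obtain ⟨s', hs', hL', hy⟩ := pointed_frame hα hB y
  obtain ⟨g, hg⟩ := std_iso_strong hs hs' hL hL'
  have hpp : g (0, 0) ≠ g (1, 0) := fun hh => by
    have := g.injective hh
    revert this
    decide
  obtain ⟨g', hg', h0, h1⟩ := exists_aut_to_base hs' hL' hpp
  have hΦ : (((toF B).image (fun b => b.image s)).image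
      (fun b => b.image (Equiv.sumCongr (Equiv.refl (Fin 3)) (g.trans g')))) =
      (toF B).image (fun b => b.image s') := by
    have hsplit : ∀ b : Finset (Fin 3 ⊕ P),
        b.image (Equiv.sumCongr (Equiv.refl (Fin 3)) (g.trans g')) =
        (b.image (Equiv.sumCongr (Equiv.refl (Fin 3)) g)).image
          (Equiv.sumCongr (Equiv.refl (Fin 3)) g') := by
      intro b
      rw [Finset.image_image]
      apply Finset.image_congr
      intro z _
      cases z <;> rfl
    have hstep : ∀ Y : Finset (Finset (Fin 3 ⊕ P)),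
        Y.image (fun b => b.image (Equiv.sumCongr (Equiv.refl (Fin 3)) (g.trans g'))) =
        (Y.image (fun b => b.image (Equiv.sumCongr (Equiv.refl (Fin 3)) g))).image
          (fun b => b.image (Equiv.sumCongr (Equiv.refl (Fin 3)) g')) := by
      intro Y
      rw [Finset.image_image]
      apply Finset.image_congr
      intro b _
      exact hsplit b
    rw [hstep, hg]
    exact hg'
  have hconj := image_conj s s' _ hΦ
  have hφ : (s.trans ((Equiv.sumCongr (Equiv.refl (Fin 3)) (g.trans g')).trans s'.symm)) ∈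
      Cfsg.setSystemAut B := by
    apply Aut23.mem_aut_of_forall
    intro b hb
    have hm : b.image (s.trans ((Equiv.sumCongr (Equiv.refl (Fin 3)) (g.trans g')).trans s'.symm))
        ∈ (toF B).image (fun b => b.image
          (s.trans ((Equiv.sumCongr (Equiv.refl (Fin 3)) (g.trans g')).trans s'.symm))) :=
      Finset.mem_image_of_mem _ ((mem_toF B b).2 hb)
    rw [hconj] at hm
    exact (mem_toF B _).1 hm
  refine ⟨⟨_, hφ⟩, ?_⟩
  ext i
  show s'.symm ((Equiv.sumCongr (Equiv.refl (Fin 3)) (g.trans g')) (s (x i))) = y i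
  rw [hx i, Equiv.symm_apply_eq, hy i]
  fin_cases i
  · rfl
  · rfl
  · rfl
  · show Sum.inr (g' (g (0, 0))) = Sum.inr ((0 : Fin 3), (0 : Fin 3))
    rw [h0]
  · show Sum.inr (g' (g (1, 0))) = Sum.inr ((1 : Fin 3), (0 : Fin 3))
    rw [h1]

theorem five_sharp (hα : Fintype.card α = 12) {B : Set (Finset α)}
    (hB : Cfsg.IsSteinerSystem 5 6 B) (x : Fin 5 ↪ α) :
    MulAction.stabilizer (Cfsg.setSystemAut B) x = ⊥ := by
  rw [Subgroup.eq_bot_iff_forall]
  intro φ hφ
  rw [MulAction.mem_stabilizer_iff] at hφ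
  have hφx : ∀ i, (φ : Equiv.Perm α) (x i) = x i := by
    intro i
    have := DFunLike.congr_fun hφ i
    exact this
  obtain ⟨s, hs, hL, hx⟩ := pointed_frame hα hB x
  have hψ : ∀ b ∈ (toF B).image (fun b => b.image s),
      b.image (s.symm.trans ((φ : Equiv.Perm α).trans s)) ∈ (toF B).image (fun b => b.image s) := by
    intro b hb
    obtain ⟨c, hc, rfl⟩ := Finset.mem_image.1 hb
    have hcc : (c.image s).image (s.symm.trans ((φ : Equiv.Perm α).trans s)) =
        (c.image (φ : Equiv.Perm α)).image s := by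
      rw [Finset.image_image, Finset.image_image]
      apply Finset.image_congr
      intro z _
      simp
    rw [hcc]
    exact Finset.mem_image_of_mem _
      ((mem_toF B _).2 (Aut23.aut_forall φ.2 c ((mem_toF B c).1 hc)))
  have hfixb : ∀ i, (s.symm.trans ((φ : Equiv.Perm α).trans s)) (base5 i) = base5 i := by
    intro i
    show s ((φ : Equiv.Perm α) (s.symm (base5 i))) = base5 i
    rw [← hx i, Equiv.symm_apply_apply, hφx]
  have hψ1 := rigid hs hL _ hψ
    (fun j => by
      fin_cases j
      · exact hfixb 0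
      · exact hfixb 1
      · exact hfixb 2) (hfixb 3) (hfixb 4)
  apply Subtype.ext
  apply Equiv.ext
  intro a
  have h1 := congrArg (fun f : Equiv.Perm (Fin 3 ⊕ P) => f (s a)) hψ1
  have h2 : s ((φ : Equiv.Perm α) (s.symm (s a))) = s a := h1
  rw [Equiv.symm_apply_apply] at h2
  exact s.injective h2

theorem aut12 (hα : Fintype.card α = 12) {B : Set (Finset α)}
    (hB : Cfsg.IsSteinerSystem 5 6 B) :
    Cfsg.IsM12 (Cfsg.setSystemAut B) ∧
      MulAction.IsMultiplyPretransitive (Cfsg.setSystemAut B) α 5 ∧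
      ∀ x : Fin 5 ↪ α, MulAction.stabilizer (Cfsg.setSystemAut B) x = ⊥ := by
  have hT := five_trans hα hB
  have hS := five_sharp hα hB
  refine ⟨?_, hT, hS⟩
  exact Sharp.simple12 (H := Cfsg.setSystemAut B) (β := α)
    (by rw [Nat.card_eq_fintype_card, hα]) hS

end Frames

end Cfsg.Agent.helper28.S12
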