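import Cfsg.Agent.Lib_helper28_S11
import Cfsg.Agent.Lib_helper28_S12g
set_option autoImplicit false

/-! The automorphism group of a Steiner system S(4,5,11) is sharply 4-transitive, hence simple of
order 7920. -/

namespace Cfsg.Agent.helper28.S11

open Finset Cfsg.Agent.S5625 Cfsg.Agent.helper28.Design Cfsg.Agent.helper28.S12

variable {α : Type*} [Fintype α] [DecidableEq α]

/-- extend four points by the new point -/
def ext5 (x : Fin 4 ↪ α) : Fin 5 ↪ Option α where
  toFun := fun i => if h : (i : ℕ) < 4 then some (x ⟨i, h⟩) else none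
  inj' := by
    intro i j hij
    dsimp only at hij
    by_cases hi : (i : ℕ) < 4 <;> by_cases hj : (j : ℕ) < 4
    · rw [dif_pos hi, dif_pos hj] at hij
      have := x.injective (Option.some_injective _ hij)
      exact Fin.ext (Fin.mk.inj_iff.1 this)
    · rw [dif_pos hi, dif_neg hj] at hij; cases hij
    · rw [dif_neg hi, dif_pos hj] at hij; cases hij
    · exact Fin.ext (by omega)

lemma ext5_last (x : Fin 4 ↪ α) : ext5 x (Fin.last 4) = none := by
  show (if h : ((Fin.last 4 : Fin 5) : ℕ) < 4 then some (x ⟨_, h⟩) else none) = none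
  rw [dif_neg]
  simp

lemma ext5_castSucc (x : Fin 4 ↪ α) (j : Fin 4) : ext5 x (Fin.castSucc j) = some (x j) := by
  show (if h : ((Fin.castSucc j : Fin 5) : ℕ) < 4 then some (x ⟨_, h⟩) else none) = some (x j)
  rw [dif_pos (by simp)]
  rfl

theorem four_trans (hα : Fintype.card α = 11) {B : Set (Finset α)}
    (hB : Cfsg.IsSteinerSystem 4 5 B) :
    MulAction.IsMultiplyPretransitive (Cfsg.setSystemAut B) α 4 := by
  rw [MulAction.isMultiplyPretransitive_iff]
  intro x y
  have h11 : IsS11 (toF B) := ⟨hα, toF_card hB, toF_cnt hB⟩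
  have hE := h11.isS12_ext.steiner
  have hcard : Fintype.card (Option α) = 12 := by rw [Fintype.card_option, hα]
  obtain ⟨Φ, hΦ⟩ := (five_trans hcard hE).exists_smul_eq (ext5 x) (ext5 y)
  have hΦn : (Φ : Equiv.Perm (Option α)) none = none := by
    have h1 := DFunLike.congr_fun hΦ (Fin.last 4)
    have h2 : (Φ : Equiv.Perm (Option α)) (ext5 x (Fin.last 4)) = ext5 y (Fin.last 4) := h1
    rwa [ext5_last, ext5_last] at h2
  have hoc := optionCongr_removeNone' (Φ : Equiv.Perm (Option α)) hΦn
  have hφ : Equiv.removeNone (Φ : Equiv.Perm (Option α)) ∈ Cfsg.setSystemAut B := by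
    apply Aut23.mem_aut_of_forall
    intro b hb
    have h1 : Finset.insertNone b ∈ {o : Finset (Option α) | o ∈ ext (toF B)} :=
      insertNone_mem_ext.2 ((mem_toF B b).2 hb)
    have h2 := Aut23.aut_forall Φ.2 _ h1
    rw [← hoc, S22.image_optionCongr_insertNone] at h2
    exact (mem_toF B _).1 (insertNone_mem_ext.1 h2)
  refine ⟨⟨_, hφ⟩, ?_⟩
  ext i
  show Equiv.removeNone (Φ : Equiv.Perm (Option α)) (x i) = y i
  have h1 := DFunLike.congr_fun hΦ (Fin.castSucc i)
  have h2 : (Φ : Equiv.Perm (Option α)) (ext5 x (Fin.castSucc i)) = ext5 y (Fin.castSucc i) := h1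
  rw [ext5_castSucc, ext5_castSucc] at h2
  have h3 := Equiv.removeNone_some (Φ : Equiv.Perm (Option α)) ⟨y i, h2⟩
  rw [h2] at h3
  exact Option.some_injective _ h3

theorem four_sharp (hα : Fintype.card α = 11) {B : Set (Finset α)}
    (hB : Cfsg.IsSteinerSystem 4 5 B) (x : Fin 4 ↪ α) :
    MulAction.stabilizer (Cfsg.setSystemAut B) x = ⊥ := by
  rw [Subgroup.eq_bot_iff_forall]
  intro φ hφ
  rw [MulAction.mem_stabilizer_iff] at hφ
  have hφx : ∀ i, (φ : Equiv.Perm α) (x i) = x i := by
    intro i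
    have := DFunLike.congr_fun hφ i
    exact this
  have h11 : IsS11 (toF B) := ⟨hα, toF_card hB, toF_cnt hB⟩
  have hE := h11.isS12_ext.steiner
  have hcard : Fintype.card (Option α) = 12 := by rw [Fintype.card_option, hα]
  have hΦ : Equiv.optionCongr (φ : Equiv.Perm α) ∈
      Cfsg.setSystemAut {o : Finset (Option α) | o ∈ ext (toF B)} := by
    apply Aut23.mem_aut_of_forall
    intro o ho
    rcases mem_ext.1 ho with ⟨b, hb, rfl⟩ | ⟨b, hb, rfl⟩
    · rw [S22.image_optionCongr_insertNone]
      exact insertNone_mem_ext.2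
        ((mem_toF B _).2 (Aut23.aut_forall φ.2 b ((mem_toF B b).1 hb)))
    · rw [S22.image_optionCongr_map_some, image_compl_equiv]
      exact mem_ext.2 (Or.inr ⟨b.image (φ : Equiv.Perm α),
        (mem_toF B _).2 (Aut23.aut_forall φ.2 b ((mem_toF B b).1 hb)), rfl⟩)
  have hstab : (⟨_, hΦ⟩ : Cfsg.setSystemAut {o : Finset (Option α) | o ∈ ext (toF B)}) ∈
      MulAction.stabilizer (Cfsg.setSystemAut {o : Finset (Option α) | o ∈ ext (toF B)})
        (ext5 x) := by
    rw [MulAction.mem_stabilizer_iff]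
    refine Function.Embedding.ext (fun i => ?_)
    show Equiv.optionCongr (φ : Equiv.Perm α) (ext5 x i) = ext5 x i
    induction i using Fin.lastCases with
    | last => rw [ext5_last]; rfl
    | cast j => rw [ext5_castSucc, Equiv.optionCongr_apply, Option.map_some, hφx]
  rw [five_sharp hcard hE, Subgroup.mem_bot] at hstab
  apply Subtype.ext
  apply Equiv.ext
  intro a
  have h1 := congrArg (fun f : Cfsg.setSystemAut {o : Finset (Option α) | o ∈ ext (toF B)} =>
    (f : Equiv.Perm (Option α)) (some a)) hstab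
  have h2 : Equiv.optionCongr (φ : Equiv.Perm α) (some a) = some a := h1
  rw [Equiv.optionCongr_apply, Option.map_some] at h2
  exact Option.some_injective _ h2

theorem aut11 (hα : Fintype.card α = 11) {B : Set (Finset α)}
    (hB : Cfsg.IsSteinerSystem 4 5 B) :
    Cfsg.IsM11 (Cfsg.setSystemAut B) ∧
      MulAction.IsMultiplyPretransitive (Cfsg.setSystemAut B) α 4 ∧
      ∀ x : Fin 4 ↪ α, MulAction.stabilizer (Cfsg.setSystemAut B) x = ⊥ := by
  have hT := four_trans hα hB
  have hS := four_sharp hα hB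
  refine ⟨?_, hT, hS⟩
  exact Sharp.simple11 (H := Cfsg.setSystemAut B) (β := α)
    (by rw [Nat.card_eq_fintype_card, hα]) hS

end Cfsg.Agent.helper28.S11
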