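import Mathlib
import Cfsg.Prelude.Def_Sporadic_a

set_option autoImplicit false
set_option linter.unusedSectionVars false

namespace Cfsg.Agent.helper2.St

open Finset Cfsg

variable {α : Type*} [Fintype α] [DecidableEq α]

/-- Finset of blocks. -/
noncomputable def blocks (B : Set (Finset α)) : Finset (Finset α) := by
  classical exact Finset.univ.filter (· ∈ B)

theorem mem_blocks {B : Set (Finset α)} {b : Finset α} : b ∈ blocks B ↔ b ∈ B := by
  classical
  unfold blocks
  simp

theorem ncard_eq (B : Set (Finset α)) : B.ncard = (blocks B).card := by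
  rw [← Set.ncard_coe_finset]
  congr 1
  ext b
  simp [mem_blocks]

theorem card_supersets {I c : Finset α} (hIc : I ⊆ c) {t : ℕ} (hit : I.card ≤ t) :
    (((Finset.univ : Finset α).powersetCard t).filter (fun T => I ⊆ T ∧ T ⊆ c)).card
      = (c.card - I.card).choose (t - I.card) := by
  rw [← Finset.card_sdiff_of_subset hIc, ← Finset.card_powersetCard]
  apply Finset.card_nbij' (fun T => T \ I) (fun U => U ∪ I)
  · intro T hT
    rw [Finset.mem_coe, Finset.mem_filter, Finset.mem_powersetCard] at hT
    obtain ⟨⟨_, hTc⟩, hIT, hTc'⟩ := hT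
    rw [Finset.mem_coe, Finset.mem_powersetCard]
    exact ⟨Finset.sdiff_subset_sdiff hTc' le_rfl, by rw [Finset.card_sdiff_of_subset hIT, hTc]⟩
  · intro U hU
    rw [Finset.mem_coe, Finset.mem_powersetCard] at hU
    obtain ⟨hUc, hUcard⟩ := hU
    have hdisj : Disjoint U I := Finset.disjoint_of_subset_left hUc Finset.sdiff_disjoint
    rw [Finset.mem_coe, Finset.mem_filter, Finset.mem_powersetCard]
    refine ⟨⟨Finset.subset_univ _, ?_⟩, Finset.subset_union_right,
      Finset.union_subset (hUc.trans Finset.sdiff_subset) hIc⟩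
    rw [Finset.card_union_of_disjoint hdisj, hUcard]
    omega
  · intro T hT
    rw [Finset.mem_coe, Finset.mem_filter] at hT
    exact Finset.sdiff_union_of_subset hT.2.1
  · intro U hU
    rw [Finset.mem_coe, Finset.mem_powersetCard] at hU
    have hdisj : Disjoint U I := Finset.disjoint_of_subset_left hU.1 Finset.sdiff_disjoint
    exact Finset.union_sdiff_cancel_right hdisj

theorem card_blocks_superset {t k : ℕ} {B : Set (Finset α)} (hB : IsSteinerSystem t k B)
    {T : Finset α} (hT : T.card = t) : ((blocks B).filter (fun d => T ⊆ d)).card = 1 := by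
  obtain ⟨b, ⟨hb, hTb⟩, huniq⟩ := hB.2 T hT
  rw [Finset.card_eq_one]
  refine ⟨b, ?_⟩
  ext d
  simp only [mem_filter, mem_blocks, mem_singleton]
  constructor
  · rintro ⟨hd, hTd⟩
    exact huniq d ⟨hd, hTd⟩
  · rintro rfl
    exact ⟨hb, hTb⟩

theorem card_of_mem {t k : ℕ} {B : Set (Finset α)} (hB : IsSteinerSystem t k B) {b : Finset α}
    (hb : b ∈ B) : b.card = k := hB.1 b hb

/-- The master double-counting identity. -/
theorem master {t k : ℕ} {B : Set (Finset α)} (hB : IsSteinerSystem t k B) (D : Finset α) {i : ℕ}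
    (hi : i ≤ t) :
    (∑ d ∈ blocks B, ((d ∩ D).card.choose i)) * (k - i).choose (t - i)
      = D.card.choose i * (Fintype.card α - i).choose (t - i) := by
  have way1 : ∑ I ∈ D.powersetCard i, ∑ T ∈ (univ : Finset α).powersetCard t, ∑ d ∈ blocks B,
      (if I ⊆ T ∧ T ⊆ d then 1 else 0) = D.card.choose i * (Fintype.card α - i).choose (t - i) := by
    have h1 : ∀ I ∈ D.powersetCard i, ∑ T ∈ (univ : Finset α).powersetCard t, ∑ d ∈ blocks B,
        (if I ⊆ T ∧ T ⊆ d then 1 else 0) = (Fintype.card α - i).choose (t - i) := by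
      intro I hI
      rw [mem_powersetCard] at hI
      have h2 : ∀ T ∈ (univ : Finset α).powersetCard t,
          ∑ d ∈ blocks B, (if I ⊆ T ∧ T ⊆ d then 1 else 0)
          = if I ⊆ T ∧ T ⊆ univ then 1 else 0 := by
        intro T hT
        rw [mem_powersetCard] at hT
        by_cases hIT : I ⊆ T
        · simp only [hIT, true_and, subset_univ, if_true]
          rw [Finset.sum_boole, card_blocks_superset hB hT.2]
          rfl
        · simp [hIT]
      rw [Finset.sum_congr rfl h2, Finset.sum_boole]
      have := card_supersets (I := I) (c := univ) (subset_univ _) (t := t)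
        (by rw [hI.2]; exact hi)
      rw [hI.2, card_univ] at this
      simpa using this
    rw [Finset.sum_congr rfl h1, sum_const, card_powersetCard, smul_eq_mul]
  have way2 : ∑ I ∈ D.powersetCard i, ∑ T ∈ (univ : Finset α).powersetCard t, ∑ d ∈ blocks B,
      (if I ⊆ T ∧ T ⊆ d then 1 else 0)
      = (∑ d ∈ blocks B, ((d ∩ D).card.choose i)) * (k - i).choose (t - i) := by
    rw [Finset.sum_mul]
    have hswap : ∑ I ∈ D.powersetCard i, ∑ T ∈ (univ : Finset α).powersetCard t,
        ∑ d ∈ blocks B, (if I ⊆ T ∧ T ⊆ d then 1 else 0)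
        = ∑ d ∈ blocks B, ∑ I ∈ D.powersetCard i, ∑ T ∈ (univ : Finset α).powersetCard t,
          (if I ⊆ T ∧ T ⊆ d then 1 else 0) := by
      calc _ = ∑ I ∈ D.powersetCard i, ∑ d ∈ blocks B, ∑ T ∈ (univ : Finset α).powersetCard t,
            (if I ⊆ T ∧ T ⊆ d then 1 else 0) :=
            Finset.sum_congr rfl (fun I _ => Finset.sum_comm)
        _ = _ := Finset.sum_comm
    rw [hswap]
    apply Finset.sum_congr rfl
    intro d hd
    have hdk : d.card = k := hB.1 d (mem_blocks.mp hd)
    have h3 : ∀ I ∈ D.powersetCard i, ∑ T ∈ (univ : Finset α).powersetCard t,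
        (if I ⊆ T ∧ T ⊆ d then 1 else 0)
        = if I ⊆ d then (k - i).choose (t - i) else 0 := by
      intro I hI
      rw [mem_powersetCard] at hI
      rw [Finset.sum_boole]
      by_cases hId : I ⊆ d
      · rw [if_pos hId]
        have := card_supersets (I := I) (c := d) hId (t := t) (by rw [hI.2]; exact hi)
        rw [hI.2, hdk] at this
        simpa using this
      · rw [if_neg hId]
        have : ((univ : Finset α).powersetCard t).filter (fun T => I ⊆ T ∧ T ⊆ d) = ∅ := by
          rw [Finset.filter_eq_empty_iff]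
          intro T _ hcon
          exact hId (hcon.1.trans hcon.2)
        rw [this]
        simp
    rw [Finset.sum_congr rfl h3, ← Finset.sum_filter, sum_const, smul_eq_mul]
    congr 1
    rw [← Finset.card_powersetCard]
    congr 1
    ext I
    simp only [mem_filter, mem_powersetCard, subset_inter_iff]
    tauto
  rw [← way2, way1]

/-- Two distinct blocks share fewer than `t` points. -/
theorem inter_card_lt {t k : ℕ} {B : Set (Finset α)} (hB : IsSteinerSystem t k B)
    {b c : Finset α} (hb : b ∈ B) (hc : c ∈ B) (hbc : b ≠ c) : (b ∩ c).card < t := by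
  by_contra hcon
  rw [not_lt] at hcon
  obtain ⟨s, hs, hscard⟩ := Finset.exists_subset_card_eq hcon
  obtain ⟨d, _, huniq⟩ := hB.2 s hscard
  have h1 := huniq b ⟨hb, hs.trans inter_subset_left⟩
  have h2 := huniq c ⟨hc, hs.trans inter_subset_right⟩
  exact hbc (h1.trans h2.symm)

/-- Integer version of the moments. -/
theorem moment_int {t k : ℕ} {B : Set (Finset α)} (hB : IsSteinerSystem t k B) (D : Finset α)
    {i : ℕ} (hi : i ≤ t) :
    (∑ d ∈ blocks B, (((d ∩ D).card.choose i : ℕ) : ℤ)) * ((k - i).choose (t - i) : ℤ)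
      = (D.card.choose i : ℤ) * ((Fintype.card α - i).choose (t - i) : ℤ) := by
  have := master hB D hi
  exact_mod_cast this

theorem moment_val {t k : ℕ} {B : Set (Finset α)} (hB : IsSteinerSystem t k B) (D : Finset α)
    {i : ℕ} (hi : i ≤ t) (c : ℤ)
    (hc : c * ((k - i).choose (t - i) : ℤ)
      = (D.card.choose i : ℤ) * ((Fintype.card α - i).choose (t - i) : ℤ))
    (hne : (k - i).choose (t - i) ≠ 0) :
    ∑ d ∈ blocks B, (((d ∩ D).card.choose i : ℕ) : ℤ) = c := by
  have h := moment_int hB D hi
  rw [← hc] at h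
  exact mul_right_cancel₀ (by exact_mod_cast hne) h

theorem inter_card_le (d D : Finset α) : (d ∩ D).card ≤ D.card :=
  Finset.card_le_card Finset.inter_subset_right

end Cfsg.Agent.helper2.St
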