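import Mathlib
import Cfsg.Statements.S0357
import Cfsg.Agent.Lib_helper2_Steiner

set_option autoImplicit false
open Cfsg

namespace Cfsg.Agent.S0357

open Cfsg.Agent.helper2

theorem result {α : Type*} [Fintype α] [DecidableEq α] (hα : Fintype.card α = 12) {B : Set (Finset α)} (hB : Cfsg.IsSteinerSystem 5 6 B) {b : Finset α} (hb : b ∈ B) : bᶜ ∈ B := by
  have hbk : b.card = 6 := hB.1 b hb
  have M0 := St.moment_val hB b (i := 0) (by norm_num) 132 (by rw [hbk, hα]; decide) (by decide)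
  have M1 := St.moment_val hB b (i := 1) (by norm_num) 396 (by rw [hbk, hα]; decide) (by decide)
  have M2 := St.moment_val hB b (i := 2) (by norm_num) 450 (by rw [hbk, hα]; decide) (by decide)
  have M3 := St.moment_val hB b (i := 3) (by norm_num) 240 (by rw [hbk, hα]; decide) (by decide)
  have M4 := St.moment_val hB b (i := 4) (by norm_num) 60 (by rw [hbk, hα]; decide) (by decide)
  have M5 := St.moment_val hB b (i := 5) (by norm_num) 6 (by rw [hbk, hα]; decide) (by decide)
  have hp : ∀ j : ℕ, j ≤ 6 →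
      ((((j:ℤ) - 1) * ((j:ℤ) - 2) * ((j:ℤ) - 3) * ((j:ℤ) - 4) * ((j:ℤ) - 6))
      = -144 * (j.choose 0 : ℤ) + 144 * (j.choose 1 : ℤ) - 144 * (j.choose 2 : ℤ)
        + 144 * (j.choose 3 : ℤ) - 144 * (j.choose 4 : ℤ) + 120 * (j.choose 5 : ℤ)) := by decide
  have hsum : ∑ d ∈ St.blocks B, ((((d ∩ b).card : ℤ) - 1) * (((d ∩ b).card : ℤ) - 2)
      * (((d ∩ b).card : ℤ) - 3) * (((d ∩ b).card : ℤ) - 4) * (((d ∩ b).card : ℤ) - 6)) = -144 := by
    have h1 : ∀ d ∈ St.blocks B, ((((d ∩ b).card : ℤ) - 1) * (((d ∩ b).card : ℤ) - 2)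
        * (((d ∩ b).card : ℤ) - 3) * (((d ∩ b).card : ℤ) - 4) * (((d ∩ b).card : ℤ) - 6))
        = -144 * ((d ∩ b).card.choose 0 : ℤ) + 144 * ((d ∩ b).card.choose 1 : ℤ)
          - 144 * ((d ∩ b).card.choose 2 : ℤ) + 144 * ((d ∩ b).card.choose 3 : ℤ)
          - 144 * ((d ∩ b).card.choose 4 : ℤ) + 120 * ((d ∩ b).card.choose 5 : ℤ) := by
      intro d _
      exact hp _ (by rw [← hbk]; exact St.inter_card_le d b)
    rw [Finset.sum_congr rfl h1]
    simp only [Finset.sum_add_distrib, Finset.sum_sub_distrib, ← Finset.mul_sum]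
    rw [M0, M1, M2, M3, M4, M5]
    norm_num
  by_contra hne
  have hzero : ∀ d ∈ St.blocks B, ((((d ∩ b).card : ℤ) - 1) * (((d ∩ b).card : ℤ) - 2)
      * (((d ∩ b).card : ℤ) - 3) * (((d ∩ b).card : ℤ) - 4) * (((d ∩ b).card : ℤ) - 6)) = 0 := by
    intro d hd
    by_cases hdb : d = b
    · rw [hdb, Finset.inter_self, hbk]
      norm_num
    · have hlt := St.inter_card_lt hB (St.mem_blocks.mp hd) hb hdb
      have hj0 : (d ∩ b).card ≠ 0 := by
        intro h0
        apply hne
        have hdis : d ∩ b = ∅ := Finset.card_eq_zero.mp h0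
        have hsub : d ⊆ bᶜ := by
          intro x hx
          rw [Finset.mem_compl]
          intro hxb
          have : x ∈ d ∩ b := Finset.mem_inter.mpr ⟨hx, hxb⟩
          rw [hdis] at this
          exact absurd this (Finset.notMem_empty x)
        have hdk : d.card = 6 := hB.1 d (St.mem_blocks.mp hd)
        have hck : bᶜ.card = 6 := by rw [Finset.card_compl, hα, hbk]
        have : d = bᶜ := Finset.eq_of_subset_of_card_le hsub (by rw [hdk, hck])
        rw [← this]
        exact St.mem_blocks.mp hd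
      have : ∀ j : ℕ, j < 5 → j ≠ 0 →
          ((((j:ℤ) - 1) * ((j:ℤ) - 2) * ((j:ℤ) - 3) * ((j:ℤ) - 4) * ((j:ℤ) - 6))) = 0 := by
        decide
      exact this _ hlt hj0
  rw [Finset.sum_eq_zero hzero] at hsum
  norm_num at hsum

end Cfsg.Agent.S0357
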