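import Cfsg.Agent.Lib_helper28_S24
import Cfsg.Agent.Lib_helper28_AG23
import Cfsg.Agent.S0357
set_option autoImplicit false

/-! Steiner systems S(5,6,12): the triply derived affine plane of order 3 and the three classes
of 4-arcs. -/

namespace Cfsg.Agent.helper28.S12

open Finset Cfsg.Agent.S5625 Cfsg.Agent.helper28.Design Cfsg.Agent.helper28.AG23
open Cfsg.Agent.helper28.S24 (cls mem_cls card_inter_disjSum fin3_card2 fin3_inter fin3_sub
  fin3_two_sets fin3_compl fin3_compl_card fin3_compl_inj fin3_ge2 image_sumCongr_disjSum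
  image_compl_singleton)

section Basic

variable {γ : Type*} [Fintype γ] [DecidableEq γ]

/-- `Bf` is the block set of a Steiner system S(5,6,12) -/
structure IsS12 (Bf : Finset (Finset γ)) : Prop where
  card : Fintype.card γ = 12
  k : ∀ b ∈ Bf, b.card = 6
  five : ∀ S : Finset γ, S.card = 5 → cnt Bf S = 1

variable {Bf : Finset (Finset γ)}

lemma IsS12.cnt_eq (h : IsS12 Bf) (S : Finset γ) (hS : S.card ≤ 5) : cnt Bf S = lam12 S.card := by
  have hα := h.card
  have hk := h.k
  have h5 := h.five
  have hcompl : ∀ S : Finset γ, Sᶜ.card = 12 - S.card := by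
    intro S; rw [Finset.card_compl, hα]
  have hins : ∀ (S : Finset γ) x, x ∈ Sᶜ → (insert x S).card = S.card + 1 := by
    intro S x hx
    rw [Finset.card_insert_of_notMem (Finset.mem_compl.1 hx)]
  have h4 : ∀ S : Finset γ, S.card = 4 → cnt Bf S = 4 := by
    intro S hS
    have := step Bf 6 hk S
    rw [Finset.sum_congr rfl (fun x hx => h5 _ (by rw [hins S x hx, hS])), Finset.sum_const,
      hcompl, hS, smul_eq_mul] at this
    omega
  have h3 : ∀ S : Finset γ, S.card = 3 → cnt Bf S = 12 := by
    intro S hS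
    have := step Bf 6 hk S
    rw [Finset.sum_congr rfl (fun x hx => h4 _ (by rw [hins S x hx, hS])), Finset.sum_const,
      hcompl, hS, smul_eq_mul] at this
    omega
  have h2 : ∀ S : Finset γ, S.card = 2 → cnt Bf S = 30 := by
    intro S hS
    have := step Bf 6 hk S
    rw [Finset.sum_congr rfl (fun x hx => h3 _ (by rw [hins S x hx, hS])), Finset.sum_const,
      hcompl, hS, smul_eq_mul] at this
    omega
  have h1 : ∀ S : Finset γ, S.card = 1 → cnt Bf S = 66 := by
    intro S hS
    have := step Bf 6 hk S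
    rw [Finset.sum_congr rfl (fun x hx => h2 _ (by rw [hins S x hx, hS])), Finset.sum_const,
      hcompl, hS, smul_eq_mul] at this
    omega
  have h0 : cnt Bf (∅ : Finset γ) = 132 := by
    have := step Bf 6 hk (∅ : Finset γ)
    rw [Finset.sum_congr rfl (fun x hx => h1 _ (by rw [hins ∅ x hx, Finset.card_empty])),
      Finset.sum_const, hcompl, Finset.card_empty, smul_eq_mul] at this
    omega
  have hcases : S.card = 0 ∨ S.card = 1 ∨ S.card = 2 ∨ S.card = 3 ∨ S.card = 4 ∨ S.card = 5 := by
    omega
  rcases hcases with h | h | h | h | h | h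
  · rw [h, Finset.card_eq_zero.1 h]; exact h0
  · rw [h]; exact h1 S h
  · rw [h]; exact h2 S h
  · rw [h]; exact h3 S h
  · rw [h]; exact h4 S h
  · rw [h]; exact h5 S h

lemma IsS12.inter_ne (h : IsS12 Bf) {b c : Finset γ} (hb : b ∈ Bf) (hc : c ∈ Bf) (hne : b ≠ c) :
    (b ∩ c).card = 0 ∨ (b ∩ c).card = 2 ∨ (b ∩ c).card = 3 ∨ (b ∩ c).card = 4 := by
  have key := s5612 h.card Bf h.k h.five b hb (b ∩ c) Finset.inter_subset_left
  have hmem : c ∈ Bf.filter (fun c' => b ∩ c' = b ∩ c) := Finset.mem_filter.2 ⟨hc, rfl⟩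
  have hpos : (Bf.filter (fun c' => b ∩ c' = b ∩ c)).card ≠ 0 := Finset.card_ne_zero_of_mem hmem
  have hle : (b ∩ c).card ≤ 6 :=
    (Finset.card_le_card Finset.inter_subset_left).trans (h.k b hb).le
  obtain ⟨k1, -, -, -, k5⟩ := key
  by_contra hcon
  push Not at hcon
  have hcases : (b ∩ c).card = 1 ∨ (b ∩ c).card = 5 ∨ (b ∩ c).card = 6 := by omega
  rcases hcases with h1 | h1 | h1
  · exact hpos (k1 h1)
  · exact hpos (k5 h1)
  · apply hne
    have hbc : b ∩ c = b :=
      Finset.eq_of_subset_of_card_le Finset.inter_subset_left (by rw [h1, h.k b hb])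
    have hsub : b ⊆ c := by rw [← hbc]; exact Finset.inter_subset_right
    exact Finset.eq_of_subset_of_card_le hsub (by rw [h.k b hb, h.k c hc])

lemma IsS12.steiner (h : IsS12 Bf) : Cfsg.IsSteinerSystem 5 6 {b : Finset γ | b ∈ Bf} := by
  refine ⟨fun b hb => h.k b hb, ?_⟩
  intro s hs
  have h1 := h.five s hs
  unfold cnt at h1
  rw [Finset.card_eq_one] at h1
  obtain ⟨b, hb⟩ := h1
  have hbm : b ∈ Bf.filter (fun c => s ⊆ c) := by rw [hb]; exact Finset.mem_singleton_self b
  rw [Finset.mem_filter] at hbm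
  refine ⟨b, ⟨hbm.1, hbm.2⟩, ?_⟩
  rintro c ⟨hc, hsc⟩
  have : c ∈ Bf.filter (fun c => s ⊆ c) := Finset.mem_filter.2 ⟨hc, hsc⟩
  rw [hb, Finset.mem_singleton] at this
  exact this

lemma IsS12.compl_mem (h : IsS12 Bf) {b : Finset γ} (hb : b ∈ Bf) : bᶜ ∈ Bf :=
  Cfsg.Agent.S0357.result h.card h.steiner (b := b) hb

lemma IsS12.card_blocks (h : IsS12 Bf) : Bf.card = 132 := by
  have h0 := h.cnt_eq ∅ (by simp)
  have hc : cnt Bf (∅ : Finset γ) = Bf.card := by
    unfold cnt
    congr 1
    ext b
    simp
  rw [hc, Finset.card_empty] at h0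
  exact h0

lemma image_compl_equiv {α β : Type*} [Fintype α] [Fintype β] [DecidableEq α] [DecidableEq β]
    (f : α ≃ β) (s : Finset α) : (sᶜ).image f = (s.image f)ᶜ := by
  ext y
  simp only [Finset.mem_image, Finset.mem_compl]
  constructor
  · rintro ⟨x, hx, rfl⟩ ⟨x', hx', he⟩
    exact hx (f.injective he ▸ hx')
  · intro hy
    exact ⟨f.symm y, fun hh => hy ⟨_, hh, f.apply_symm_apply y⟩, f.apply_symm_apply y⟩

end Basic

section Core

variable {α : Type*} [Fintype α] [DecidableEq α]

variable {D D' : Finset (Finset (Fin 3 ⊕ α))}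

lemma card_alpha (h : IsS12 D) : Fintype.card α = 9 := by
  have := h.card
  rw [Fintype.card_sum, Fintype.card_fin] at this
  omega

lemma cls_card_elem (h : IsS12 D) {J : Finset (Fin 3)} {S : Finset α} (hS : S ∈ cls D J) :
    J.card + S.card = 6 := by
  have := h.k _ (mem_cls.1 hS)
  rwa [Finset.card_disjSum] at this

theorem isPlane3 (h : IsS12 D) : IsPlane3 (cls D Finset.univ) := by
  refine ⟨card_alpha h, ?_, ?_⟩
  · intro l hl
    have := cls_card_elem h hl
    rw [Finset.card_univ, Fintype.card_fin] at this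
    omega
  · intro S hS
    have h5 := h.five ((Finset.univ : Finset (Fin 3)).disjSum S)
      (by rw [Finset.card_disjSum, hS, Finset.card_univ, Fintype.card_fin])
    unfold cnt at h5 ⊢
    rw [Finset.card_eq_one] at h5 ⊢
    obtain ⟨b, hb⟩ := h5
    have hbm : b ∈ D.filter (fun c => (Finset.univ : Finset (Fin 3)).disjSum S ⊆ c) := by
      rw [hb]; exact Finset.mem_singleton_self b
    rw [Finset.mem_filter, Finset.disjSum_subset] at hbm
    have hbL : b.toLeft = Finset.univ := Finset.univ_subset_iff.1 hbm.2.1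
    refine ⟨b.toRight, ?_⟩
    ext l
    rw [Finset.mem_filter, Finset.mem_singleton, mem_cls]
    constructor
    · rintro ⟨hl, hSl⟩
      have : (Finset.univ : Finset (Fin 3)).disjSum l ∈
          D.filter (fun c => (Finset.univ : Finset (Fin 3)).disjSum S ⊆ c) :=
        Finset.mem_filter.2 ⟨hl, Finset.disjSum_mono (Finset.Subset.refl _) hSl⟩
      rw [hb, Finset.mem_singleton] at this
      rw [← this, Finset.toRight_disjSum]
    · rintro rfl
      have : (Finset.univ : Finset (Fin 3)).disjSum b.toRight = b := by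
        rw [← hbL]; exact Finset.toLeft_disjSum_toRight
      rw [this]
      exact ⟨hbm.1, hbm.2.2⟩

lemma isArc (h : IsS12 D) {J : Finset (Fin 3)} (hJ : J.card = 2) {K : Finset α}
    (hK : K ∈ cls D J) : K.card = 4 ∧ ∀ l ∈ cls D Finset.univ, (K ∩ l).card ≤ 2 := by
  refine ⟨?_, ?_⟩
  · have := cls_card_elem h hK; omega
  · intro l hl
    have hne : (Finset.univ : Finset (Fin 3)).disjSum l ≠ J.disjSum K := by
      intro heq
      have := congrArg Finset.toLeft heq
      rw [Finset.toLeft_disjSum, Finset.toLeft_disjSum] at this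
      exact fin3_card2 J hJ this.symm
    have hc := h.inter_ne (mem_cls.1 hl) (mem_cls.1 hK) hne
    rw [card_inter_disjSum, Finset.univ_inter, hJ] at hc
    rw [Finset.inter_comm]
    omega

lemma cls_meet_same (h : IsS12 D) {J : Finset (Fin 3)} (hJ : J.card = 2) {H K : Finset α}
    (hH : H ∈ cls D J) (hK : K ∈ cls D J) : (K ∩ H).card ≠ 3 := by
  by_cases hKH : K = H
  · subst hKH
    rw [Finset.inter_self]
    have := cls_card_elem h hK; omega
  · have hne : J.disjSum K ≠ J.disjSum H := by
      intro heq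
      have := congrArg Finset.toRight heq
      rw [Finset.toRight_disjSum, Finset.toRight_disjSum] at this
      exact hKH this
    have hc := h.inter_ne (mem_cls.1 hK) (mem_cls.1 hH) hne
    rw [card_inter_disjSum, Finset.inter_self, hJ] at hc
    omega

lemma cls_meet_diff (h : IsS12 D) {J J' : Finset (Fin 3)} (hJ : J.card = 2) (hJ' : J'.card = 2)
    (hne : J ≠ J') {H K : Finset α} (hH : H ∈ cls D J) (hK : K ∈ cls D J') :
    1 ≤ (K ∩ H).card ∧ (K ∩ H).card ≤ 3 := by
  have hne' : J'.disjSum K ≠ J.disjSum H := by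
    intro heq
    have := congrArg Finset.toLeft heq
    rw [Finset.toLeft_disjSum, Finset.toLeft_disjSum] at this
    exact hne this.symm
  have hc := h.inter_ne (mem_cls.1 hK) (mem_cls.1 hH) hne'
  rw [card_inter_disjSum, Finset.inter_comm, fin3_inter J J' hJ hJ' hne] at hc
  omega

lemma cls_disjoint (h : IsS12 D) {J J' : Finset (Fin 3)} (hJ : J.card = 2) (hJ' : J'.card = 2)
    (hne : J ≠ J') : Disjoint (cls D J) (cls D J') := by
  rw [Finset.disjoint_left]
  intro H hH hH'
  have h1 := cls_meet_diff h hJ hJ' hne hH hH'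
  rw [Finset.inter_self] at h1
  have := cls_card_elem h hH
  omega

lemma card_cls (h : IsS12 D) {J : Finset (Fin 3)} (hJ : J.card = 2) : (cls D J).card = 18 := by
  have h1 : (D.filter (fun b => J ⊆ b.toLeft)).card = 30 := by
    have hc := h.cnt_eq (J.disjSum (∅ : Finset α)) (by rw [Finset.card_disjSum, hJ]; simp)
    rw [Finset.card_disjSum, hJ, Finset.card_empty] at hc
    have : (D.filter (fun b => J ⊆ b.toLeft)) =
        D.filter (fun b => J.disjSum (∅ : Finset α) ⊆ b) := by
      apply Finset.filter_congr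
      intro b _
      rw [Finset.disjSum_subset]
      simp
    rw [this]; exact hc
  have h2 : (D.filter (fun b => b.toLeft = Finset.univ)).card = 12 := by
    have hc := h.cnt_eq ((Finset.univ : Finset (Fin 3)).disjSum (∅ : Finset α))
      (by rw [Finset.card_disjSum]; simp)
    rw [Finset.card_disjSum, Finset.card_univ, Fintype.card_fin, Finset.card_empty] at hc
    have : (D.filter (fun b => b.toLeft = Finset.univ)) =
        D.filter (fun b => (Finset.univ : Finset (Fin 3)).disjSum (∅ : Finset α) ⊆ b) := by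
      apply Finset.filter_congr
      intro b _
      rw [Finset.disjSum_subset, Finset.univ_subset_iff]
      simp
    rw [this]; exact hc
  have h3 : (D.filter (fun b => J ⊆ b.toLeft)) =
      (D.filter (fun b => b.toLeft = J)) ∪ (D.filter (fun b => b.toLeft = Finset.univ)) := by
    ext b
    simp only [Finset.mem_filter, Finset.mem_union]
    constructor
    · rintro ⟨hb, hJb⟩
      rcases fin3_sub J b.toLeft hJ hJb with h0 | h0
      · exact Or.inl ⟨hb, h0⟩
      · exact Or.inr ⟨hb, h0⟩
    · rintro (⟨hb, h0⟩ | ⟨hb, h0⟩)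
      · exact ⟨hb, h0 ▸ Finset.Subset.refl _⟩
      · exact ⟨hb, h0 ▸ Finset.subset_univ _⟩
  have h4 : Disjoint (D.filter (fun b => b.toLeft = J))
      (D.filter (fun b => b.toLeft = Finset.univ)) := by
    rw [Finset.disjoint_left]
    intro b hb hb'
    rw [Finset.mem_filter] at hb hb'
    exact fin3_card2 J hJ (hb.2.symm.trans hb'.2)
  have h5 : (D.filter (fun b => b.toLeft = J)).card = 18 := by
    have := Finset.card_union_of_disjoint h4
    rw [← h3, h1, h2] at this
    omega
  rw [← h5]
  apply Finset.card_bij' (fun S _ => J.disjSum S) (fun b _ => b.toRight)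
  · intro S hS
    rw [Finset.mem_filter]
    exact ⟨mem_cls.1 hS, Finset.toLeft_disjSum⟩
  · intro b hb
    rw [Finset.mem_filter] at hb
    rw [mem_cls, ← hb.2, Finset.toLeft_disjSum_toRight]
    exact hb.1
  · intro S hS
    exact Finset.toRight_disjSum
  · intro b hb
    rw [Finset.mem_filter] at hb
    rw [← hb.2]; exact Finset.toLeft_disjSum_toRight

lemma toLeft_compl (o : Finset (Fin 3 ⊕ α)) : (oᶜ).toLeft = (o.toLeft)ᶜ := by
  ext x
  simp [Finset.mem_toLeft]

/-- two S(5,6,12) with the same lines and matching classes of 4-arcs are equal up to relabelling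
the three points at infinity -/
theorem core (h : IsS12 D) (h' : IsS12 D') (π : Equiv.Perm (Fin 3))
    (hl : cls D Finset.univ ⊆ cls D' Finset.univ)
    (hq : ∀ k, cls D {k}ᶜ ⊆ cls D' {π k}ᶜ) :
    D.image (fun b => b.image (Equiv.sumCongr π (Equiv.refl α))) = D' := by
  have stepA : ∀ o ∈ D, 2 ≤ o.toLeft.card →
      o.image (Equiv.sumCongr π (Equiv.refl α)) ∈ D' := by
    intro o ho h2
    have hdec : o = o.toLeft.disjSum o.toRight := Finset.toLeft_disjSum_toRight.symm
    rcases fin3_ge2 _ h2 with hu | ⟨k, hk⟩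
    · rw [hdec, image_sumCongr_disjSum, hu, Finset.image_univ_equiv, Equiv.coe_refl,
        Finset.image_id]
      have h3 : o.toRight ∈ cls D Finset.univ := by
        rw [mem_cls, ← hu, Finset.toLeft_disjSum_toRight]; exact ho
      exact mem_cls.1 (hl h3)
    · rw [hdec, image_sumCongr_disjSum, hk, image_compl_singleton, Equiv.coe_refl,
        Finset.image_id]
      have h3 : o.toRight ∈ cls D {k}ᶜ := by
        rw [mem_cls, ← hk, Finset.toLeft_disjSum_toRight]; exact ho
      exact mem_cls.1 (hq k h3)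
  apply Finset.eq_of_subset_of_card_le
  · intro b' hb'
    obtain ⟨o, ho, rfl⟩ := Finset.mem_image.1 hb'
    show o.image (Equiv.sumCongr π (Equiv.refl α)) ∈ D'
    by_cases h2 : 2 ≤ o.toLeft.card
    · exact stepA o ho h2
    · have hoc := h.compl_mem ho
      have h3 : 2 ≤ (oᶜ).toLeft.card := by
        rw [toLeft_compl, Finset.card_compl, Fintype.card_fin]
        omega
      have h4 := h'.compl_mem (stepA _ hoc h3)
      rw [image_compl_equiv, compl_compl] at h4
      exact h4
  · rw [Finset.card_image_of_injective _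
      (Finset.image_injective (Equiv.sumCongr π (Equiv.refl α)).injective),
      h.card_blocks, h'.card_blocks]

end Core

end Cfsg.Agent.helper28.S12
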