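import Cfsg.Agent.Lib_helper28_S12a
set_option autoImplicit false

/-! The 54 four-arcs of the affine plane of order 3: a colouring in three colours in which
disjoint arcs have equal colours and arcs sharing three points have different colours is
determined by its values on two arcs. -/

namespace Cfsg.Agent.helper28.S12

open Finset Cfsg.Agent.helper28.AG23

/-- the 12 lines of the 3×3 grid -/
def lineList : List (Finset P) :=
  [{(0, 0), (0, 1), (0, 2)},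
   {(0, 0), (1, 0), (2, 0)},
   {(0, 0), (1, 1), (2, 2)},
   {(0, 0), (1, 2), (2, 1)},
   {(0, 1), (1, 0), (2, 2)},
   {(0, 1), (1, 1), (2, 1)},
   {(0, 1), (1, 2), (2, 0)},
   {(0, 2), (1, 0), (2, 1)},
   {(0, 2), (1, 1), (2, 0)},
   {(0, 2), (1, 2), (2, 2)},
   {(1, 0), (1, 1), (1, 2)},
   {(2, 0), (2, 1), (2, 2)}]

lemma line_iff : ∀ T : Finset P, isLine T ↔ T ∈ lineList := by decide +kernel

/-- the 54 four-arcs of the 3×3 grid -/
def arcList : List (Finset P) :=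
  [{(0, 0), (0, 1), (1, 0), (1, 1)},
   {(0, 0), (0, 1), (1, 0), (1, 2)},
   {(0, 0), (0, 1), (1, 0), (2, 1)},
   {(0, 0), (0, 1), (1, 1), (1, 2)},
   {(0, 0), (0, 1), (1, 1), (2, 0)},
   {(0, 0), (0, 1), (1, 2), (2, 2)},
   {(0, 0), (0, 1), (2, 0), (2, 1)},
   {(0, 0), (0, 1), (2, 0), (2, 2)},
   {(0, 0), (0, 1), (2, 1), (2, 2)},
   {(0, 0), (0, 2), (1, 0), (1, 1)},
   {(0, 0), (0, 2), (1, 0), (1, 2)},
   {(0, 0), (0, 2), (1, 0), (2, 2)},
   {(0, 0), (0, 2), (1, 1), (1, 2)},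
   {(0, 0), (0, 2), (1, 1), (2, 1)},
   {(0, 0), (0, 2), (1, 2), (2, 0)},
   {(0, 0), (0, 2), (2, 0), (2, 1)},
   {(0, 0), (0, 2), (2, 0), (2, 2)},
   {(0, 0), (0, 2), (2, 1), (2, 2)},
   {(0, 0), (1, 0), (1, 1), (2, 1)},
   {(0, 0), (1, 0), (1, 2), (2, 2)},
   {(0, 0), (1, 0), (2, 1), (2, 2)},
   {(0, 0), (1, 1), (1, 2), (2, 0)},
   {(0, 0), (1, 1), (2, 0), (2, 1)},
   {(0, 0), (1, 2), (2, 0), (2, 2)},
   {(0, 1), (0, 2), (1, 0), (1, 1)},
   {(0, 1), (0, 2), (1, 0), (1, 2)},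
   {(0, 1), (0, 2), (1, 0), (2, 0)},
   {(0, 1), (0, 2), (1, 1), (1, 2)},
   {(0, 1), (0, 2), (1, 1), (2, 2)},
   {(0, 1), (0, 2), (1, 2), (2, 1)},
   {(0, 1), (0, 2), (2, 0), (2, 1)},
   {(0, 1), (0, 2), (2, 0), (2, 2)},
   {(0, 1), (0, 2), (2, 1), (2, 2)},
   {(0, 1), (1, 0), (1, 1), (2, 0)},
   {(0, 1), (1, 0), (1, 2), (2, 1)},
   {(0, 1), (1, 0), (2, 0), (2, 1)},
   {(0, 1), (1, 1), (1, 2), (2, 2)},
   {(0, 1), (1, 1), (2, 0), (2, 2)},
   {(0, 1), (1, 2), (2, 1), (2, 2)},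
   {(0, 2), (1, 0), (1, 1), (2, 2)},
   {(0, 2), (1, 0), (1, 2), (2, 0)},
   {(0, 2), (1, 0), (2, 0), (2, 2)},
   {(0, 2), (1, 1), (1, 2), (2, 1)},
   {(0, 2), (1, 1), (2, 1), (2, 2)},
   {(0, 2), (1, 2), (2, 0), (2, 1)},
   {(1, 0), (1, 1), (2, 0), (2, 1)},
   {(1, 0), (1, 1), (2, 0), (2, 2)},
   {(1, 0), (1, 1), (2, 1), (2, 2)},
   {(1, 0), (1, 2), (2, 0), (2, 1)},
   {(1, 0), (1, 2), (2, 0), (2, 2)},
   {(1, 0), (1, 2), (2, 1), (2, 2)},
   {(1, 1), (1, 2), (2, 0), (2, 1)},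
   {(1, 1), (1, 2), (2, 0), (2, 2)},
   {(1, 1), (1, 2), (2, 1), (2, 2)}]

lemma arc_iff : ∀ Q : Finset P,
    Q ∈ arcList ↔ (Q.card = 4 ∧ ∀ l ∈ lineList, (Q ∩ l).card ≤ 2) := by decide +kernel

lemma card_arcList : arcList.toFinset.card = 54 := by decide +kernel

/-- the `n`-th arc -/
def A (n : ℕ) : Finset P := arcList.getD n ∅

lemma arc_index (Q : Finset P) (hQ : Q ∈ arcList) : ∃ i, i < 54 ∧ Q = A i := by
  obtain ⟨i, hi, rfl⟩ := List.getElem_of_mem hQ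
  refine ⟨i, hi, ?_⟩
  unfold A
  rw [List.getD_eq_getElem _ _ hi]

/-- colourings of the arcs compatible with an S(5,6,12) -/
structure Valid (c : Finset P → Fin 3) : Prop where
  dis : ∀ Q Q', Q ∈ arcList → Q' ∈ arcList → Disjoint Q Q' → c Q = c Q'
  adj : ∀ Q Q', Q ∈ arcList → Q' ∈ arcList → (Q ∩ Q').card = 3 → c Q ≠ c Q'

lemma fin3_third : ∀ a b x y : Fin 3, a ≠ b → x ≠ a → x ≠ b → y ≠ a → y ≠ b → x = y := by decide

lemma ruleA {c c' : Finset P → Fin 3} (hc : Valid c) (hc' : Valid c') (i k : ℕ)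
    (hchk : A i ∈ arcList ∧ A k ∈ arcList ∧ Disjoint (A i) (A k))
    (e1 : c (A i) = c' (A i)) : c (A k) = c' (A k) := by
  obtain ⟨h1, h2, h3⟩ := hchk
  rw [← hc.dis _ _ h1 h2 h3, ← hc'.dis _ _ h1 h2 h3, e1]

lemma ruleB {c c' : Finset P → Fin 3} (hc : Valid c) (hc' : Valid c') (i j k : ℕ)
    (hchk : A i ∈ arcList ∧ A j ∈ arcList ∧ A k ∈ arcList ∧ (A i ∩ A j).card = 3 ∧
      (A k ∩ A i).card = 3 ∧ (A k ∩ A j).card = 3)
    (e1 : c (A i) = c' (A i)) (e2 : c (A j) = c' (A j)) : c (A k) = c' (A k) := by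
  obtain ⟨h1, h2, h3, h12, h31, h32⟩ := hchk
  apply fin3_third (c (A i)) (c (A j)) _ _ (hc.adj _ _ h1 h2 h12) (hc.adj _ _ h3 h1 h31)
    (hc.adj _ _ h3 h2 h32)
  · rw [e1]; exact hc'.adj _ _ h3 h1 h31
  · rw [e2]; exact hc'.adj _ _ h3 h2 h32

theorem seeds_determine {c c' : Finset P → Fin 3} (hc : Valid c) (hc' : Valid c')
    (h0 : c (A 0) = c' (A 0)) (h1 : c (A 1) = c' (A 1)) :
    ∀ Q ∈ arcList, c Q = c' Q := by
  have h2 : c (A 2) = c' (A 2) := ruleB hc hc' 0 1 2 (by decide) h0 h1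
  have h3 : c (A 3) = c' (A 3) := ruleB hc hc' 0 1 3 (by decide) h0 h1
  have h4 : c (A 4) = c' (A 4) := ruleB hc hc' 0 3 4 (by decide) h0 h3
  have h5 : c (A 5) = c' (A 5) := ruleB hc hc' 1 3 5 (by decide) h1 h3
  have h18 : c (A 18) = c' (A 18) := ruleB hc hc' 0 2 18 (by decide) h0 h2
  have h19 : c (A 19) = c' (A 19) := ruleB hc hc' 1 5 19 (by decide) h1 h5
  have h20 : c (A 20) = c' (A 20) := ruleB hc hc' 2 18 20 (by decide) h2 h18
  have h21 : c (A 21) = c' (A 21) := ruleB hc hc' 3 4 21 (by decide) h3 h4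
  have h22 : c (A 22) = c' (A 22) := ruleB hc hc' 4 21 22 (by decide) h4 h21
  have h23 : c (A 23) = c' (A 23) := ruleB hc hc' 5 19 23 (by decide) h5 h19
  have h24 : c (A 24) = c' (A 24) := ruleA hc hc' 23 24 (by decide) h23
  have h25 : c (A 25) = c' (A 25) := ruleA hc hc' 22 25 (by decide) h22
  have h26 : c (A 26) = c' (A 26) := ruleB hc hc' 24 25 26 (by decide) h24 h25
  have h27 : c (A 27) = c' (A 27) := ruleA hc hc' 20 27 (by decide) h20
  have h28 : c (A 28) = c' (A 28) := ruleB hc hc' 24 27 28 (by decide) h24 h27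
  have h29 : c (A 29) = c' (A 29) := ruleB hc hc' 25 27 29 (by decide) h25 h27
  have h30 : c (A 30) = c' (A 30) := ruleA hc hc' 19 30 (by decide) h19
  have h31 : c (A 31) = c' (A 31) := ruleA hc hc' 18 31 (by decide) h18
  have h32 : c (A 32) = c' (A 32) := ruleA hc hc' 21 32 (by decide) h21
  have h33 : c (A 33) = c' (A 33) := ruleB hc hc' 0 4 33 (by decide) h0 h4
  have h34 : c (A 34) = c' (A 34) := ruleB hc hc' 1 2 34 (by decide) h1 h2
  have h35 : c (A 35) = c' (A 35) := ruleB hc hc' 2 34 35 (by decide) h2 h34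
  have h36 : c (A 36) = c' (A 36) := ruleB hc hc' 3 5 36 (by decide) h3 h5
  have h37 : c (A 37) = c' (A 37) := ruleB hc hc' 4 33 37 (by decide) h4 h33
  have h38 : c (A 38) = c' (A 38) := ruleB hc hc' 5 36 38 (by decide) h5 h36
  have h39 : c (A 39) = c' (A 39) := ruleB hc hc' 24 28 39 (by decide) h24 h28
  have h40 : c (A 40) = c' (A 40) := ruleB hc hc' 25 26 40 (by decide) h25 h26
  have h41 : c (A 41) = c' (A 41) := ruleA hc hc' 3 41 (by decide) h3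
  have h42 : c (A 42) = c' (A 42) := ruleB hc hc' 27 29 42 (by decide) h27 h29
  have h43 : c (A 43) = c' (A 43) := ruleA hc hc' 1 43 (by decide) h1
  have h44 : c (A 44) = c' (A 44) := ruleA hc hc' 0 44 (by decide) h0
  have h45 : c (A 45) = c' (A 45) := ruleA hc hc' 5 45 (by decide) h5
  have h46 : c (A 46) = c' (A 46) := ruleA hc hc' 29 46 (by decide) h29
  have h47 : c (A 47) = c' (A 47) := ruleB hc hc' 18 20 47 (by decide) h18 h20
  have h48 : c (A 48) = c' (A 48) := ruleA hc hc' 28 48 (by decide) h28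
  have h49 : c (A 49) = c' (A 49) := ruleB hc hc' 19 23 49 (by decide) h19 h23
  have h50 : c (A 50) = c' (A 50) := ruleA hc hc' 4 50 (by decide) h4
  have h51 : c (A 51) = c' (A 51) := ruleB hc hc' 21 22 51 (by decide) h21 h22
  have h52 : c (A 52) = c' (A 52) := ruleA hc hc' 2 52 (by decide) h2
  have h53 : c (A 53) = c' (A 53) := ruleA hc hc' 26 53 (by decide) h26
  have h6 : c (A 6) = c' (A 6) := ruleA hc hc' 39 6 (by decide) h39
  have h7 : c (A 7) = c' (A 7) := ruleA hc hc' 42 7 (by decide) h42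
  have h8 : c (A 8) = c' (A 8) := ruleA hc hc' 40 8 (by decide) h40
  have h9 : c (A 9) = c' (A 9) := ruleA hc hc' 38 9 (by decide) h38
  have h10 : c (A 10) = c' (A 10) := ruleA hc hc' 37 10 (by decide) h37
  have h11 : c (A 11) = c' (A 11) := ruleA hc hc' 51 11 (by decide) h51
  have h12 : c (A 12) = c' (A 12) := ruleA hc hc' 35 12 (by decide) h35
  have h13 : c (A 13) = c' (A 13) := ruleA hc hc' 49 13 (by decide) h49
  have h14 : c (A 14) = c' (A 14) := ruleA hc hc' 47 14 (by decide) h47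
  have h15 : c (A 15) = c' (A 15) := ruleA hc hc' 36 15 (by decide) h36
  have h16 : c (A 16) = c' (A 16) := ruleA hc hc' 34 16 (by decide) h34
  have h17 : c (A 17) = c' (A 17) := ruleA hc hc' 33 17 (by decide) h33
  have hall : ∀ i, i < 54 → c (A i) = c' (A i) := by
    intro i hi
    interval_cases i <;> assumption
  intro Q hQ
  obtain ⟨i, hi, rfl⟩ := arc_index Q hQ
  exact hall i hi

lemma seeds_adj : A 0 ∈ arcList ∧ A 1 ∈ arcList ∧ (A 0 ∩ A 1).card = 3 := by decide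

end Cfsg.Agent.helper28.S12
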