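import Cfsg.Agent.Lib_helper28_S12c
set_option autoImplicit false

/-! Uniqueness of the Steiner system S(5,6,12). -/

namespace Cfsg.Agent.helper28.S12

open Finset Cfsg.Agent.S5625 Cfsg.Agent.helper28.Design Cfsg.Agent.helper28.AG23
open Cfsg.Agent.helper28.S24 (cls mem_cls fin3_compl_card fin3_compl_inj image_sumCongr_disjSum)

section Std

variable {D D' : Finset (Finset (Fin 3 ⊕ P))}

lemma mem_arc_of_cls (h : IsS12 D) (hL : cls D Finset.univ = L₀) {J : Finset (Fin 3)}
    (hJ : J.card = 2) {K : Finset P} (hK : K ∈ cls D J) : K ∈ arcList := by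
  obtain ⟨h4, hl⟩ := isArc h hJ hK
  rw [arc_iff]
  refine ⟨h4, fun l hl' => hl l ?_⟩
  rw [hL, mem_L₀, line_iff]; exact hl'

lemma cover_arcs (h : IsS12 D) (hL : cls D Finset.univ = L₀) {Q : Finset P} (hQ : Q ∈ arcList) :
    ∃ k : Fin 3, Q ∈ cls D {k}ᶜ := by
  have hsub : (Finset.univ : Finset (Fin 3)).biUnion (fun k => cls D {k}ᶜ) ⊆ arcList.toFinset := by
    intro K hK
    rw [Finset.mem_biUnion] at hK
    obtain ⟨k, -, hk⟩ := hK
    rw [List.mem_toFinset]
    exact mem_arc_of_cls h hL (fin3_compl_card k) hk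
  have hcard : ((Finset.univ : Finset (Fin 3)).biUnion (fun k => cls D {k}ᶜ)).card = 54 := by
    rw [Finset.card_biUnion]
    · rw [Finset.sum_congr rfl (fun k _ => card_cls h (fin3_compl_card k)), Finset.sum_const,
        Finset.card_univ, Fintype.card_fin]
      rfl
    · intro k _ k' _ hne
      exact cls_disjoint h (fin3_compl_card k) (fin3_compl_card k')
        (fun hh => hne (fin3_compl_inj k k' hh))
  have heq := Finset.eq_of_subset_of_card_le hsub (by rw [hcard, card_arcList])
  have hm : Q ∈ (Finset.univ : Finset (Fin 3)).biUnion (fun k => cls D {k}ᶜ) := by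
    rw [heq, List.mem_toFinset]; exact hQ
  rw [Finset.mem_biUnion] at hm
  obtain ⟨k, -, hk⟩ := hm
  exact ⟨k, hk⟩

/-- the colour of an arc: the point at infinity missing from its block -/
noncomputable def col (D : Finset (Finset (Fin 3 ⊕ P))) (Q : Finset P) : Fin 3 := by
  classical exact if h : ∃ k : Fin 3, Q ∈ cls D {k}ᶜ then h.choose else 0

lemma col_spec' {Q : Finset P} (hex : ∃ k : Fin 3, Q ∈ cls D {k}ᶜ) : Q ∈ cls D {col D Q}ᶜ := by
  unfold col
  rw [dif_pos hex]
  exact hex.choose_spec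

lemma col_spec (h : IsS12 D) (hL : cls D Finset.univ = L₀) {Q : Finset P} (hQ : Q ∈ arcList) :
    Q ∈ cls D {col D Q}ᶜ := col_spec' (cover_arcs h hL hQ)

lemma col_eq (h : IsS12 D) {Q : Finset P} {k : Fin 3} (hQ : Q ∈ cls D {k}ᶜ) : col D Q = k := by
  have hs : Q ∈ cls D {col D Q}ᶜ := col_spec' ⟨k, hQ⟩
  by_contra hne
  exact Finset.disjoint_left.1 (cls_disjoint h (fin3_compl_card _) (fin3_compl_card k)
    (fun hh => hne (fin3_compl_inj _ _ hh))) hs hQ

lemma valid_col (h : IsS12 D) (hL : cls D Finset.univ = L₀) : Valid (col D) := by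
  refine ⟨?_, ?_⟩
  · intro Q Q' hQ hQ' hd
    by_contra hne
    have h1 := col_spec h hL hQ
    have h2 := col_spec h hL hQ'
    have h3 := cls_meet_diff h (fin3_compl_card _) (fin3_compl_card _)
      (fun hh => hne (fin3_compl_inj _ _ hh)) h1 h2
    rw [Finset.disjoint_iff_inter_eq_empty] at hd
    rw [Finset.inter_comm, hd] at h3
    simp at h3
  · intro Q Q' hQ hQ' h3 heq
    have h1 := col_spec h hL hQ
    have h2 := col_spec h hL hQ'
    rw [← heq] at h2
    exact cls_meet_same h (fin3_compl_card _) h2 h1 h3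

lemma fin3_perm : ∀ a b a' b' : Fin 3, a ≠ b → a' ≠ b' →
    ∃ π : Equiv.Perm (Fin 3), π a = a' ∧ π b = b' := by decide +kernel

theorem std_iso (h : IsS12 D) (h' : IsS12 D') (hL : cls D Finset.univ = L₀)
    (hL' : cls D' Finset.univ = L₀) :
    ∃ π : Equiv.Perm (Fin 3),
      D.image (fun b => b.image (Equiv.sumCongr π (Equiv.refl P))) = D' := by
  have hv := valid_col h hL
  have hv' := valid_col h' hL'
  obtain ⟨s0, s1, s01⟩ := seeds_adj
  obtain ⟨π, hπ0, hπ1⟩ := fin3_perm _ _ _ _ (hv.adj _ _ s0 s1 s01) (hv'.adj _ _ s0 s1 s01)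
  have hvπ : Valid (fun Q => π (col D Q)) :=
    ⟨fun Q Q' hQ hQ' hd => congrArg π (hv.dis Q Q' hQ hQ' hd),
     fun Q Q' hQ hQ' h3 heq => hv.adj Q Q' hQ hQ' h3 (π.injective heq)⟩
  have key := seeds_determine hvπ hv' hπ0 hπ1
  refine ⟨π, core h h' π (by rw [hL, hL']) ?_⟩
  intro k Q hQ
  have hQa := mem_arc_of_cls h hL (fin3_compl_card k) hQ
  have e := col_eq h hQ
  have h2 := col_spec h' hL' hQa
  have key' : π (col D Q) = col D' Q := key Q hQa
  rw [← key', e] at h2
  exact h2

end Std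

section Transport

lemma cls_image_std {α β : Type*} [Fintype α] [DecidableEq α] [Fintype β] [DecidableEq β]
    (D : Finset (Finset (Fin 3 ⊕ α))) (e : α ≃ β) (J : Finset (Fin 3)) :
    cls (D.image (fun b => b.image (Equiv.sumCongr (Equiv.refl (Fin 3)) e))) J =
      (cls D J).image (fun S => S.image e) := by
  ext S
  rw [mem_cls, Finset.mem_image, Finset.mem_image]
  constructor
  · rintro ⟨o, ho, hoe⟩
    have hoe' : o.image (Equiv.sumCongr (Equiv.refl (Fin 3)) e) = J.disjSum S := hoe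
    have hdec : o = o.toLeft.disjSum o.toRight := Finset.toLeft_disjSum_toRight.symm
    rw [hdec, image_sumCongr_disjSum, Equiv.coe_refl, Finset.image_id] at hoe'
    have hL := congrArg Finset.toLeft hoe'
    have hR := congrArg Finset.toRight hoe'
    rw [Finset.toLeft_disjSum, Finset.toLeft_disjSum] at hL
    rw [Finset.toRight_disjSum, Finset.toRight_disjSum] at hR
    refine ⟨o.toRight, ?_, hR⟩
    rw [mem_cls, ← hL, Finset.toLeft_disjSum_toRight]; exact ho
  · rintro ⟨T, hT, rfl⟩
    refine ⟨J.disjSum T, mem_cls.1 hT, ?_⟩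
    show (J.disjSum T).image (Equiv.sumCongr (Equiv.refl (Fin 3)) e) = _
    rw [image_sumCongr_disjSum, Equiv.coe_refl, Finset.image_id]

theorem isS12_transport {γ δ : Type*} [Fintype γ] [DecidableEq γ] [Fintype δ] [DecidableEq δ]
    (σ : γ ≃ δ) {Bf : Finset (Finset γ)} (hγ : Fintype.card γ = 12)
    (hk : ∀ b ∈ Bf, b.card = 6) (h5 : ∀ S : Finset γ, S.card = 5 → cnt Bf S = 1) :
    IsS12 (Bf.image (fun b => b.image σ)) := by
  refine ⟨by rw [← Fintype.card_congr σ, hγ], ?_, ?_⟩
  · intro b' hb'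
    obtain ⟨b, hb, rfl⟩ := Finset.mem_image.1 hb'
    rw [Finset.card_image_of_injective _ σ.injective]; exact hk b hb
  · intro S hS
    rw [S22.cnt_image_equiv]
    exact h5 _ (by rw [Finset.card_image_of_injective _ σ.symm.injective, hS])

theorem exists_iso12 {α β : Type*} [Fintype α] [DecidableEq α] [Fintype β] [DecidableEq β]
    {D : Finset (Finset (Fin 3 ⊕ α))} {D' : Finset (Finset (Fin 3 ⊕ β))}
    (h : IsS12 D) (h' : IsS12 D') :
    ∃ f : Fin 3 ⊕ α ≃ Fin 3 ⊕ β, D.image (fun b => b.image f) = D' := by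
  obtain ⟨e, he⟩ := (isPlane3 h).exists_grid
  obtain ⟨e', he'⟩ := (isPlane3 h').exists_grid
  set s : Fin 3 ⊕ α ≃ Fin 3 ⊕ P := Equiv.sumCongr (Equiv.refl (Fin 3)) e with hs
  set s' : Fin 3 ⊕ β ≃ Fin 3 ⊕ P := Equiv.sumCongr (Equiv.refl (Fin 3)) e' with hs'
  have h₁ : IsS12 (D.image (fun b => b.image s)) := isS12_transport s h.card h.k h.five
  have h₁' : IsS12 (D'.image (fun b => b.image s')) := isS12_transport s' h'.card h'.k h'.five
  have hL : cls (D.image (fun b => b.image s)) Finset.univ = L₀ := by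
    rw [hs, cls_image_std]; exact he
  have hL' : cls (D'.image (fun b => b.image s')) Finset.univ = L₀ := by
    rw [hs', cls_image_std]; exact he'
  obtain ⟨π, hπ⟩ := std_iso h₁ h₁' hL hL'
  set g : Fin 3 ⊕ P ≃ Fin 3 ⊕ P := Equiv.sumCongr π (Equiv.refl P) with hg
  refine ⟨s.trans (g.trans s'.symm), ?_⟩
  have hcomp : ∀ b : Finset (Fin 3 ⊕ α),
      b.image (s.trans (g.trans s'.symm)) = ((b.image s).image g).image s'.symm := by
    intro b
    rw [Finset.image_image, Finset.image_image]
    rfl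
  have hback : ∀ c : Finset (Fin 3 ⊕ β), (c.image s').image s'.symm = c := by
    intro c
    rw [Finset.image_image]
    simp
  calc D.image (fun b => b.image (s.trans (g.trans s'.symm)))
      = ((D.image (fun b => b.image s)).image (fun b => b.image g)).image
          (fun b => b.image s'.symm) := by
        rw [Finset.image_image, Finset.image_image]
        apply Finset.image_congr
        intro b _
        exact hcomp b
    _ = (D'.image (fun b => b.image s')).image (fun b => b.image s'.symm) := by rw [hπ]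
    _ = D' := by
        rw [Finset.image_image]
        conv_rhs => rw [← Finset.image_id (s := D')]
        apply Finset.image_congr
        intro c _
        exact hback c

theorem unique12 {γ γ' : Type*} [Fintype γ] [DecidableEq γ] [Fintype γ'] [DecidableEq γ']
    (hγ : Fintype.card γ = 12) (hγ' : Fintype.card γ' = 12) {B : Set (Finset γ)}
    {B' : Set (Finset γ')} (hB : Cfsg.IsSteinerSystem 5 6 B) (hB' : Cfsg.IsSteinerSystem 5 6 B') :
    Cfsg.SetSystemIso B B' := by
  have c1 : Fintype.card γ = Fintype.card (Fin 3 ⊕ Fin 9) := by rw [hγ]; simp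
  have c2 : Fintype.card γ' = Fintype.card (Fin 3 ⊕ Fin 9) := by rw [hγ']; simp
  let σ : γ ≃ Fin 3 ⊕ Fin 9 := Fintype.equivOfCardEq c1
  let σ' : γ' ≃ Fin 3 ⊕ Fin 9 := Fintype.equivOfCardEq c2
  have h := isS12_transport σ hγ (toF_card hB) (toF_cnt hB)
  have h' := isS12_transport σ' hγ' (toF_card hB') (toF_cnt hB')
  obtain ⟨e, he⟩ := exists_iso12 h h'
  exact S24.iso_of_transport σ σ' e he

end Transport

end Cfsg.Agent.helper28.S12
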