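import Cfsg.Agent.Lib_helper28_S12d
set_option autoImplicit false

/-! Uniqueness of the Steiner system S(5,6,12), strong form: any two are isomorphic by a map
matching three prescribed points. -/

namespace Cfsg.Agent.helper28.S12

open Finset Cfsg.Agent.S5625 Cfsg.Agent.helper28.Design Cfsg.Agent.helper28.AG23
open Cfsg.Agent.helper28.S24 (cls mem_cls fin3_compl_card fin3_compl_inj image_sumCongr_disjSum)

/-- affine maps of the 3×3 grid -/
def aff (a b c d e f : Fin 3) (p : P) : P := (a * p.1 + b * p.2 + e, c * p.1 + d * p.2 + f)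

/-- six collineations permuting the first three arcs in all ways -/
def G : Fin 6 → P → P :=
  ![aff 1 0 0 1 0 0, aff 0 1 1 0 0 0, aff 1 0 2 2 0 1, aff 2 2 1 0 1 0, aff 0 1 2 2 0 1,
   aff 2 2 0 1 1 0]

set_option maxRecDepth 100000 in
lemma G_inj : ∀ k : Fin 6, ∀ p q : P, G k p = G k q → p = q := by
  decide +kernel

set_option maxRecDepth 100000 in
lemma G_lines : ∀ k : Fin 6, ∀ T ∈ lineList, T.image (G k) ∈ lineList := by
  decide +kernel

set_option maxRecDepth 100000 in
lemma aff_perm : ∀ τ : Equiv.Perm (Fin 3), ∃ k : Fin 6, ∀ i : Fin 3,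
    (A (τ i)).image (G k) = A i := by
  decide +kernel

lemma tri_adj : ∀ i j : Fin 3, i ≠ j →
    A i ∈ arcList ∧ A j ∈ arcList ∧ (A i ∩ A j).card = 3 := by decide

lemma A_mem : ∀ i : Fin 3, A i ∈ arcList := by decide

lemma fin3_tau (u u' : Fin 3 → Fin 3) (hu : Function.Injective u) (hu' : Function.Injective u') :
    ∃ τ : Equiv.Perm (Fin 3), ∀ i, u (τ i) = u' i := by
  have hub := Finite.injective_iff_bijective.1 hu
  have hub' := Finite.injective_iff_bijective.1 hu'
  refine ⟨(Equiv.ofBijective u' hub').trans (Equiv.ofBijective u hub).symm, fun i => ?_⟩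
  show u ((Equiv.ofBijective u hub).symm (u' i)) = u' i
  exact Equiv.ofBijective_apply_symm_apply u hub (u' i)

lemma L₀_image (g : Equiv.Perm P) (hg : ∀ T ∈ lineList, T.image g ∈ lineList) :
    L₀.image (fun T => T.image g) = L₀ := by
  apply Finset.eq_of_subset_of_card_le
  · intro T' hT'
    obtain ⟨T, hT, rfl⟩ := Finset.mem_image.1 hT'
    rw [mem_L₀, line_iff] at hT ⊢
    exact hg T hT
  · rw [Finset.card_image_of_injective _ (Finset.image_injective g.injective)]

lemma valid_inj {E : Finset (Finset (Fin 3 ⊕ P))} (hv : Valid (col E)) :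
    Function.Injective (fun i : Fin 3 => col E (A i)) := by
  intro i j hij
  by_contra hne
  obtain ⟨h1, h2, h3⟩ := tri_adj i j hne
  exact hv.adj _ _ h1 h2 h3 hij

variable {D D' : Finset (Finset (Fin 3 ⊕ P))}

theorem std_iso_strong (h : IsS12 D) (h' : IsS12 D') (hL : cls D Finset.univ = L₀)
    (hL' : cls D' Finset.univ = L₀) :
    ∃ g : Equiv.Perm P,
      D.image (fun b => b.image (Equiv.sumCongr (Equiv.refl (Fin 3)) g)) = D' := by
  have hv := valid_col h hL
  have hv' := valid_col h' hL'
  obtain ⟨τ, hτ⟩ := fin3_tau _ _ (valid_inj hv) (valid_inj hv')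
  obtain ⟨k₀, hA⟩ := aff_perm τ
  have hlines := G_lines k₀
  have hbij : Function.Bijective (G k₀) :=
    Finite.injective_iff_bijective.1 (fun p q hpq => G_inj k₀ p q hpq)
  obtain ⟨g, hgdef⟩ : ∃ g : Equiv.Perm P, ∀ T : Finset P, T.image g = T.image (G k₀) :=
    ⟨Equiv.ofBijective (G k₀) hbij, fun T => rfl⟩
  have hlines' : ∀ T ∈ lineList, T.image g ∈ lineList := by
    intro T hT; rw [hgdef]; exact hlines T hT
  have h₂ : IsS12 (D.image (fun b => b.image (Equiv.sumCongr (Equiv.refl (Fin 3)) g))) :=
    isS12_transport _ h.card h.k h.five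
  have hL₂ : cls (D.image (fun b => b.image (Equiv.sumCongr (Equiv.refl (Fin 3)) g)))
      Finset.univ = L₀ := by
    rw [cls_image_std, hL]; exact L₀_image g hlines'
  have hv₂ := valid_col h₂ hL₂
  have hcol : ∀ i : Fin 3,
      col (D.image (fun b => b.image (Equiv.sumCongr (Equiv.refl (Fin 3)) g))) (A i)
        = col D' (A i) := by
    intro i
    have h1 : A (τ i) ∈ cls D {col D (A (τ i))}ᶜ := col_spec h hL (A_mem (τ i))
    have h2 : (A (τ i)).image g ∈
        cls (D.image (fun b => b.image (Equiv.sumCongr (Equiv.refl (Fin 3)) g)))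
          {col D (A (τ i))}ᶜ := by
      rw [cls_image_std]; exact Finset.mem_image_of_mem _ h1
    rw [hgdef, hA i] at h2
    rw [col_eq h₂ h2]
    exact hτ i
  have key := seeds_determine hv₂ hv' (hcol 0) (hcol 1)
  have hid : ∀ X : Finset (Finset (Fin 3 ⊕ P)),
      X.image (fun b => b.image (Equiv.sumCongr (Equiv.refl (Fin 3)) (Equiv.refl P))) = X := by
    intro X
    rw [Equiv.sumCongr_refl]
    simp
  refine ⟨g, ?_⟩
  have hc := core h₂ h' (Equiv.refl _) (by rw [hL₂, hL']) (fun k Q hQ => by
    have hQa := mem_arc_of_cls h₂ hL₂ (fin3_compl_card k) hQ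
    have e := col_eq h₂ hQ
    have h2 := col_spec h' hL' hQa
    rw [← key Q hQa, e] at h2
    exact h2)
  rw [hid] at hc
  exact hc

/-- conjugating an isomorphism by relabellings -/
lemma image_conj {γ γ' δ δ' : Type*} [DecidableEq γ] [DecidableEq γ'] [DecidableEq δ]
    [DecidableEq δ'] (σ : γ ≃ δ) (σ' : γ' ≃ δ') (Φ : δ ≃ δ') {X : Finset (Finset γ)}
    {X' : Finset (Finset γ')}
    (hΦ : (X.image (fun b => b.image σ)).image (fun b => b.image Φ) =
      X'.image (fun b => b.image σ')) :
    X.image (fun b => b.image (σ.trans (Φ.trans σ'.symm))) = X' := by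
  have hcomp : ∀ b : Finset γ,
      b.image (σ.trans (Φ.trans σ'.symm)) = ((b.image σ).image Φ).image σ'.symm := by
    intro b
    rw [Finset.image_image, Finset.image_image]
    rfl
  have hback : ∀ c : Finset γ', (c.image σ').image σ'.symm = c := by
    intro c
    rw [Finset.image_image]
    simp
  calc X.image (fun b => b.image (σ.trans (Φ.trans σ'.symm)))
      = ((X.image (fun b => b.image σ)).image (fun b => b.image Φ)).image
          (fun b => b.image σ'.symm) := by
        rw [Finset.image_image, Finset.image_image]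
        apply Finset.image_congr
        intro b _
        exact hcomp b
    _ = (X'.image (fun b => b.image σ')).image (fun b => b.image σ'.symm) := by rw [hΦ]
    _ = X' := by
        rw [Finset.image_image]
        conv_rhs => rw [← Finset.image_id (s := X')]
        apply Finset.image_congr
        intro c _
        exact hback c

theorem exists_iso12_strong {α β : Type*} [Fintype α] [DecidableEq α] [Fintype β]
    [DecidableEq β] {D : Finset (Finset (Fin 3 ⊕ α))} {D' : Finset (Finset (Fin 3 ⊕ β))}
    (h : IsS12 D) (h' : IsS12 D') :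
    ∃ Φ : Fin 3 ⊕ α ≃ Fin 3 ⊕ β, (∀ i, Φ (Sum.inl i) = Sum.inl i) ∧
      D.image (fun b => b.image Φ) = D' := by
  obtain ⟨e, he⟩ := (isPlane3 h).exists_grid
  obtain ⟨e', he'⟩ := (isPlane3 h').exists_grid
  have h₁ : IsS12 (D.image (fun b => b.image (Equiv.sumCongr (Equiv.refl (Fin 3)) e))) :=
    isS12_transport _ h.card h.k h.five
  have h₁' : IsS12 (D'.image (fun b => b.image (Equiv.sumCongr (Equiv.refl (Fin 3)) e'))) :=
    isS12_transport _ h'.card h'.k h'.five
  have hL : cls (D.image (fun b => b.image (Equiv.sumCongr (Equiv.refl (Fin 3)) e)))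
      Finset.univ = L₀ := by
    rw [cls_image_std]; exact he
  have hL' : cls (D'.image (fun b => b.image (Equiv.sumCongr (Equiv.refl (Fin 3)) e')))
      Finset.univ = L₀ := by
    rw [cls_image_std]; exact he'
  obtain ⟨g, hg⟩ := std_iso_strong h₁ h₁' hL hL'
  refine ⟨(Equiv.sumCongr (Equiv.refl (Fin 3)) e).trans
    ((Equiv.sumCongr (Equiv.refl (Fin 3)) g).trans
      (Equiv.sumCongr (Equiv.refl (Fin 3)) e').symm), ?_, image_conj _ _ _ hg⟩
  intro i
  simp

end Cfsg.Agent.helper28.S12
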