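import Cfsg.Agent.Lib_helper28_S12e
set_option autoImplicit false

/-! The reference colouring of the 54 arcs, its group of 72 collineations (sharply 2-transitive
on the 9 points), and rigidity of collineations. -/

namespace Cfsg.Agent.helper28.S12

open Finset Cfsg.Agent.helper28.AG23

/-- reference colours of the 54 arcs -/
def crefL : List (Fin 3) := [0, 1, 2, 2, 1, 0, 0, 2, 1, 2, 0, 1, 1, 0, 2, 1, 0, 2, 1, 2, 0, 0, 2, 1, 1, 2, 0, 0, 2, 1, 2, 1, 0, 2, 0, 1, 1, 0, 2, 0, 1, 2, 2, 1, 0, 0, 1, 2, 2, 0, 1, 1, 2, 0]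

/-- the reference colour of the `i`-th arc -/
def crefI (i : ℕ) : Fin 3 := crefL.getD i 0

/-- the reference colouring -/
def cref (Q : Finset P) : Fin 3 := crefI (arcList.idxOf Q)

set_option maxRecDepth 100000 in
lemma idx_A : ∀ i, i < 54 → arcList.idxOf (A i) = i := by decide +kernel

set_option maxRecDepth 100000 in
lemma validI : ∀ i, i < 54 → ∀ j, j < 54 → (Disjoint (A i) (A j) → crefI i = crefI j) ∧
    ((A i ∩ A j).card = 3 → crefI i ≠ crefI j) := by decide +kernel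

lemma cref_A (i : ℕ) (hi : i < 54) : cref (A i) = crefI i := by
  unfold cref
  rw [idx_A i hi]

lemma valid_cref : Valid cref := by
  refine ⟨?_, ?_⟩
  · intro Q Q' hQ hQ' hd
    obtain ⟨i, hi, rfl⟩ := arc_index Q hQ
    obtain ⟨j, hj, rfl⟩ := arc_index Q' hQ'
    rw [cref_A i hi, cref_A j hj]
    exact (validI i hi j hj).1 hd
  · intro Q Q' hQ hQ' h3
    obtain ⟨i, hi, rfl⟩ := arc_index Q hQ
    obtain ⟨j, hj, rfl⟩ := arc_index Q' hQ'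
    rw [cref_A i hi, cref_A j hj]
    exact (validI i hi j hj).2 h3

/-- parameters of an affine map -/
abbrev Par := Fin 3 × Fin 3 × Fin 3 × Fin 3 × Fin 3 × Fin 3

/-- the affine map with given parameters -/
def affK (k : Par) : P → P := aff k.1 k.2.1 k.2.2.1 k.2.2.2.1 k.2.2.2.2.1 k.2.2.2.2.2

/-- the 72 collineations preserving the reference colouring -/
def par72 : List Par :=
  [(0, 1, 2, 0, 0, 0),
   (0, 1, 2, 0, 0, 1),
   (0, 1, 2, 0, 0, 2),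
   (0, 1, 2, 0, 1, 0),
   (0, 1, 2, 0, 1, 1),
   (0, 1, 2, 0, 1, 2),
   (0, 1, 2, 0, 2, 0),
   (0, 1, 2, 0, 2, 1),
   (0, 1, 2, 0, 2, 2),
   (0, 2, 1, 0, 0, 0),
   (0, 2, 1, 0, 0, 1),
   (0, 2, 1, 0, 0, 2),
   (0, 2, 1, 0, 1, 0),
   (0, 2, 1, 0, 1, 1),
   (0, 2, 1, 0, 1, 2),
   (0, 2, 1, 0, 2, 0),
   (0, 2, 1, 0, 2, 1),
   (0, 2, 1, 0, 2, 2),
   (1, 0, 0, 1, 0, 0),
   (1, 0, 0, 1, 0, 1),
   (1, 0, 0, 1, 0, 2),
   (1, 0, 0, 1, 1, 0),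
   (1, 0, 0, 1, 1, 1),
   (1, 0, 0, 1, 1, 2),
   (1, 0, 0, 1, 2, 0),
   (1, 0, 0, 1, 2, 1),
   (1, 0, 0, 1, 2, 2),
   (1, 1, 1, 2, 0, 0),
   (1, 1, 1, 2, 0, 1),
   (1, 1, 1, 2, 0, 2),
   (1, 1, 1, 2, 1, 0),
   (1, 1, 1, 2, 1, 1),
   (1, 1, 1, 2, 1, 2),
   (1, 1, 1, 2, 2, 0),
   (1, 1, 1, 2, 2, 1),
   (1, 1, 1, 2, 2, 2),
   (1, 2, 2, 2, 0, 0),
   (1, 2, 2, 2, 0, 1),
   (1, 2, 2, 2, 0, 2),
   (1, 2, 2, 2, 1, 0),
   (1, 2, 2, 2, 1, 1),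
   (1, 2, 2, 2, 1, 2),
   (1, 2, 2, 2, 2, 0),
   (1, 2, 2, 2, 2, 1),
   (1, 2, 2, 2, 2, 2),
   (2, 0, 0, 2, 0, 0),
   (2, 0, 0, 2, 0, 1),
   (2, 0, 0, 2, 0, 2),
   (2, 0, 0, 2, 1, 0),
   (2, 0, 0, 2, 1, 1),
   (2, 0, 0, 2, 1, 2),
   (2, 0, 0, 2, 2, 0),
   (2, 0, 0, 2, 2, 1),
   (2, 0, 0, 2, 2, 2),
   (2, 1, 1, 1, 0, 0),
   (2, 1, 1, 1, 0, 1),
   (2, 1, 1, 1, 0, 2),
   (2, 1, 1, 1, 1, 0),
   (2, 1, 1, 1, 1, 1),
   (2, 1, 1, 1, 1, 2),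
   (2, 1, 1, 1, 2, 0),
   (2, 1, 1, 1, 2, 1),
   (2, 1, 1, 1, 2, 2),
   (2, 2, 2, 1, 0, 0),
   (2, 2, 2, 1, 0, 1),
   (2, 2, 2, 1, 0, 2),
   (2, 2, 2, 1, 1, 0),
   (2, 2, 2, 1, 1, 1),
   (2, 2, 2, 1, 1, 2),
   (2, 2, 2, 1, 2, 0),
   (2, 2, 2, 1, 2, 1),
   (2, 2, 2, 1, 2, 2)]

/-- the 6 collineations fixing (0,0) and (1,0) -/
def st6 : List Par :=
  [(1, 0, 0, 1, 0, 0), (1, 1, 0, 1, 0, 0), (1, 2, 0, 1, 0, 0), (1, 0, 0, 2, 0, 0), (1, 1, 0, 2, 0, 0), (1, 2, 0, 2, 0, 0)]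

set_option maxRecDepth 100000 in
lemma par72_inj : ∀ k ∈ par72, ∀ p q : P, affK k p = affK k q → p = q := by decide +kernel

set_option maxRecDepth 100000 in
lemma par72_lines : ∀ k ∈ par72, ∀ T ∈ lineList, T.image (affK k) ∈ lineList := by decide +kernel

set_option maxRecDepth 100000 in
lemma par72_seed : ∀ k ∈ par72, cref ((A 0).image (affK k)) = cref (A 0) ∧
    cref ((A 1).image (affK k)) = cref (A 1) := by decide +kernel

set_option maxRecDepth 100000 in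
lemma par72_to_base : ∀ p p' : P, p ≠ p' →
    ∃ k ∈ par72, affK k p = (0, 0) ∧ affK k p' = (1, 0) := by decide +kernel

set_option maxRecDepth 100000 in
lemma st6_inj : ∀ k ∈ st6, ∀ p q : P, affK k p = affK k q → p = q := by decide +kernel

set_option maxRecDepth 100000 in
lemma st6_lines : ∀ k ∈ st6, ∀ T ∈ lineList, T.image (affK k) ∈ lineList := by decide +kernel

set_option maxRecDepth 100000 in
lemma st6_cover : ∀ v : P, v.2 ≠ 0 → ∃ k ∈ st6, affK k (0, 1) = v := by decide +kernel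

set_option maxRecDepth 100000 in
lemma st6_fix : ∀ k ∈ st6, affK k (0, 0) = (0, 0) ∧ affK k (1, 0) = (1, 0) := by decide +kernel

set_option maxRecDepth 100000 in
lemma st6_break : ∀ k ∈ st6, k ≠ (1, 0, 0, 1, 0, 0) →
    ∃ i, i < 54 ∧ (A i).image (affK k) ∈ arcList ∧ cref ((A i).image (affK k)) ≠ cref (A i) := by
  decide +kernel

lemma st6_id : ∀ q : P, affK (1, 0, 0, 1, 0, 0) q = q := by decide

set_option maxRecDepth 100000 in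
lemma line_inter : ∀ l ∈ lineList, ∀ m ∈ lineList, l ≠ m → (l ∩ m).card ≤ 1 := by decide +kernel

/-- the line `y = 0` -/
def T0 : Finset P := {(0, 0), (1, 0), (2, 0)}

lemma T0_unique : ∀ l ∈ lineList, ((0, 0) : P) ∈ l → ((1, 0) : P) ∈ l → l = T0 := by decide +kernel

lemma off_T0 : ∀ v : P, v ∉ T0 → v.2 ≠ 0 := by decide

lemma T0_mem : T0 ∈ lineList := by decide

set_option maxRecDepth 100000 in
lemma A_mem54 : ∀ i, i < 54 → A i ∈ arcList := by decide +kernel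

lemma not_mem_T0 : ((0, 1) : P) ∉ T0 := by decide

end Cfsg.Agent.helper28.S12
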