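import Cfsg.Agent.Lib_helper28_Oval55
set_option autoImplicit false

/-! Steiner systems S(3,6,22): parameters, block intersections, derived plane, uniqueness. -/

namespace Cfsg.Agent.helper28.S22

open Finset Cfsg.Agent.S5625 Cfsg.Agent.helper28.Design Cfsg.Agent.helper28.Plane

section Basic

variable {γ : Type*} [Fintype γ] [DecidableEq γ]

/-- `Bf` is the block set of a Steiner system S(3,6,22) -/
structure IsS22 (Bf : Finset (Finset γ)) : Prop where
  card : Fintype.card γ = 22
  k : ∀ b ∈ Bf, b.card = 6
  three : ∀ S : Finset γ, S.card = 3 → cnt Bf S = 1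

variable {Bf : Finset (Finset γ)}

lemma IsS22.two (h : IsS22 Bf) : ∀ S : Finset γ, S.card = 2 → cnt Bf S = 5 := by
  intro S hS
  have := step Bf 6 h.k S
  have hcompl : Sᶜ.card = 22 - S.card := by rw [Finset.card_compl, h.card]
  have hins : ∀ x, x ∈ Sᶜ → (insert x S).card = S.card + 1 := by
    intro x hx
    rw [Finset.card_insert_of_notMem (Finset.mem_compl.1 hx)]
  rw [Finset.sum_congr rfl (fun x hx => h.three _ (by rw [hins x hx, hS])), Finset.sum_const,
    hcompl, hS, smul_eq_mul] at this
  omega

lemma IsS22.one (h : IsS22 Bf) : ∀ S : Finset γ, S.card = 1 → cnt Bf S = 21 := by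
  intro S hS
  have := step Bf 6 h.k S
  have hcompl : Sᶜ.card = 22 - S.card := by rw [Finset.card_compl, h.card]
  have hins : ∀ x, x ∈ Sᶜ → (insert x S).card = S.card + 1 := by
    intro x hx
    rw [Finset.card_insert_of_notMem (Finset.mem_compl.1 hx)]
  rw [Finset.sum_congr rfl (fun x hx => h.two _ (by rw [hins x hx, hS])), Finset.sum_const,
    hcompl, hS, smul_eq_mul] at this
  omega

lemma IsS22.zero (h : IsS22 Bf) : cnt Bf (∅ : Finset γ) = 77 := by
  have := step Bf 6 h.k (∅ : Finset γ)
  have hcompl : (∅ : Finset γ)ᶜ.card = 22 := by rw [Finset.card_compl, h.card]; simp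
  have hins : ∀ x, x ∈ (∅ : Finset γ)ᶜ → (insert x (∅ : Finset γ)).card = 1 := by
    intro x _
    simp
  rw [Finset.sum_congr rfl (fun x hx => h.one _ (hins x hx)), Finset.sum_const,
    hcompl, Finset.card_empty, smul_eq_mul] at this
  omega

lemma IsS22.card_blocks (h : IsS22 Bf) : Bf.card = 77 := by
  have h0 := h.zero
  have hc : cnt Bf (∅ : Finset γ) = Bf.card := by
    unfold cnt
    congr 1
    ext b
    simp
  rw [hc] at h0
  exact h0

/-- two blocks sharing three points are equal -/
lemma IsS22.block_unique (h : IsS22 Bf) {b c : Finset γ} (hb : b ∈ Bf) (hc : c ∈ Bf)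
    {S : Finset γ} (hS : S.card = 3) (hSb : S ⊆ b) (hSc : S ⊆ c) : b = c := by
  have h3 := h.three S hS
  unfold cnt at h3
  rw [Finset.card_eq_one] at h3
  obtain ⟨d, hd⟩ := h3
  have h1 : b ∈ Bf.filter (fun c => S ⊆ c) := Finset.mem_filter.2 ⟨hb, hSb⟩
  have h1' : c ∈ Bf.filter (fun c => S ⊆ c) := Finset.mem_filter.2 ⟨hc, hSc⟩
  rw [hd, Finset.mem_singleton] at h1 h1'
  rw [h1, h1']

lemma IsS22.inter_le (h : IsS22 Bf) {b c : Finset γ} (hb : b ∈ Bf) (hc : c ∈ Bf) (hne : c ≠ b) :
    (c ∩ b).card ≤ 2 := by
  by_contra hlt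
  push Not at hlt
  obtain ⟨S, hSsub, hS3⟩ := Finset.exists_subset_card_eq (show 3 ≤ (c ∩ b).card by omega)
  exact hne (h.block_unique hc hb hS3 (hSsub.trans Finset.inter_subset_left)
    (hSsub.trans Finset.inter_subset_right))

/-- two distinct blocks meet in 0 or 2 points -/
lemma IsS22.meet (h : IsS22 Bf) {l m : Finset γ} (hl : l ∈ Bf) (hm : m ∈ Bf) (hne : m ≠ l) :
    (m ∩ l).card = 0 ∨ (m ∩ l).card = 2 := by
  have hl6 := h.k l hl
  have m0 := moment Bf l 0
  have m1 := moment Bf l 1
  have m2 := moment Bf l 2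
  have m3 := moment Bf l 3
  rw [Finset.sum_congr rfl (fun P hP => h.one P (Finset.mem_powersetCard.1 hP).2),
    Finset.sum_const, Finset.card_powersetCard, smul_eq_mul] at m1
  rw [Finset.sum_congr rfl (fun P hP => h.two P (Finset.mem_powersetCard.1 hP).2),
    Finset.sum_const, Finset.card_powersetCard, smul_eq_mul] at m2
  rw [Finset.sum_congr rfl (fun P hP => h.three P (Finset.mem_powersetCard.1 hP).2),
    Finset.sum_const, Finset.card_powersetCard, smul_eq_mul] at m3
  rw [Finset.powersetCard_zero, Finset.sum_singleton, h.zero] at m0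
  rw [hl6] at m0 m1 m2 m3
  simp only [Finset.sum_range_succ, Finset.sum_range_zero, Nat.reduceAdd] at m0 m1 m2 m3
  have h6 : 1 ≤ (Bf.filter (fun b => (b ∩ l).card = 6)).card := by
    rw [Nat.one_le_iff_ne_zero, Ne, Finset.card_eq_zero]
    intro hh
    have : l ∈ Bf.filter (fun b => (b ∩ l).card = 6) := by
      rw [Finset.mem_filter, Finset.inter_self]
      exact ⟨hl, hl6⟩
    rw [hh] at this
    exact absurd this (Finset.notMem_empty l)
  have hle := h.inter_le hl hm hne
  have ha1 : (Bf.filter (fun b => (b ∩ l).card = 1)).card = 0 := by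
    generalize (Bf.filter (fun b => (b ∩ l).card = 0)).card = a0 at m0 m1 m2 m3
    generalize (Bf.filter (fun b => (b ∩ l).card = 1)).card = a1 at m0 m1 m2 m3
    generalize (Bf.filter (fun b => (b ∩ l).card = 2)).card = a2 at m0 m1 m2 m3
    generalize (Bf.filter (fun b => (b ∩ l).card = 3)).card = a3 at m0 m1 m2 m3
    generalize (Bf.filter (fun b => (b ∩ l).card = 4)).card = a4 at m0 m1 m2 m3
    generalize (Bf.filter (fun b => (b ∩ l).card = 5)).card = a5 at m0 m1 m2 m3
    generalize (Bf.filter (fun b => (b ∩ l).card = 6)).card = a6 at m0 m1 m2 m3 h6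
    norm_num [Nat.choose] at m0 m1 m2 m3
    omega
  have hne1 : (m ∩ l).card ≠ 1 := by
    intro hmk
    rw [Finset.card_eq_zero] at ha1
    have : m ∈ Bf.filter (fun b => (b ∩ l).card = 1) := Finset.mem_filter.2 ⟨hm, hmk⟩
    rw [ha1] at this
    exact absurd this (Finset.notMem_empty m)
  omega

end Basic

section Core

variable {α : Type*} [Fintype α] [DecidableEq α]

/-- lines of the derived plane at `none` -/
def linesOf (Bf : Finset (Finset (Option α))) : Finset (Finset α) :=
  Finset.univ.filter (fun l => Finset.insertNone l ∈ Bf)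

/-- blocks missing `none`, as subsets of `α` -/
def ovalsOf (Bf : Finset (Finset (Option α))) : Finset (Finset α) :=
  Finset.univ.filter (fun K => K.map Function.Embedding.some ∈ Bf)

variable {Bf : Finset (Finset (Option α))}

lemma mem_linesOf {l : Finset α} : l ∈ linesOf Bf ↔ Finset.insertNone l ∈ Bf := by
  simp [linesOf]

lemma mem_ovalsOf {K : Finset α} : K ∈ ovalsOf Bf ↔ K.map Function.Embedding.some ∈ Bf := by
  simp [ovalsOf]

lemma insertNone_eraseNone_of_mem {b : Finset (Option α)} (hb : none ∈ b) :
    Finset.insertNone (Finset.eraseNone b) = b := by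
  rw [Finset.insertNone_eraseNone, Finset.insert_eq_of_mem hb]

lemma map_some_eraseNone_of_notMem {b : Finset (Option α)} (hb : none ∉ b) :
    (Finset.eraseNone b).map Function.Embedding.some = b := by
  rw [Finset.map_some_eraseNone, Finset.erase_eq_of_notMem hb]

lemma none_notMem_map_some (K : Finset α) :
    (none : Option α) ∉ K.map Function.Embedding.some := by
  simp

lemma card_of_option (h : IsS22 Bf) : Fintype.card α = 21 := by
  have := h.card
  rw [Fintype.card_option] at this
  omega

theorem isPlane4_linesOf (h : IsS22 Bf) : IsPlane4 (linesOf Bf) := by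
  refine ⟨card_of_option h, ?_, ?_⟩
  · intro l hl
    have := h.k _ (mem_linesOf.1 hl)
    rw [Finset.card_insertNone] at this
    omega
  · intro S hS
    have h3 := h.three (Finset.insertNone S) (by rw [Finset.card_insertNone, hS])
    unfold cnt at h3 ⊢
    rw [Finset.card_eq_one] at h3 ⊢
    obtain ⟨b, hb⟩ := h3
    have hbm : b ∈ Bf.filter (fun c => Finset.insertNone S ⊆ c) := by
      rw [hb]; exact Finset.mem_singleton_self b
    rw [Finset.mem_filter] at hbm
    have hnone : none ∈ b := hbm.2 (by simp)
    refine ⟨Finset.eraseNone b, ?_⟩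
    ext l
    rw [Finset.mem_filter, Finset.mem_singleton, mem_linesOf]
    constructor
    · rintro ⟨hl, hSl⟩
      have : Finset.insertNone l ∈ Bf.filter (fun c => Finset.insertNone S ⊆ c) :=
        Finset.mem_filter.2 ⟨hl, Finset.insertNone.le_iff_le.2 hSl⟩
      rw [hb, Finset.mem_singleton] at this
      rw [← this, Finset.eraseNone_insertNone]
    · rintro rfl
      rw [insertNone_eraseNone_of_mem hnone]
      refine ⟨hbm.1, ?_⟩
      intro x hx
      rw [Finset.mem_eraseNone]
      exact hbm.2 (Finset.some_mem_insertNone.2 hx)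

lemma isHyperoval_of_mem (h : IsS22 Bf) {K : Finset α} (hK : K ∈ ovalsOf Bf) :
    IsHyperoval (linesOf Bf) K := by
  rw [mem_ovalsOf] at hK
  refine ⟨?_, ?_⟩
  · have := h.k _ hK
    rwa [Finset.card_map] at this
  · intro l hl
    rw [mem_linesOf] at hl
    have hne : Finset.insertNone l ≠ K.map Function.Embedding.some := by
      intro heq
      have : (none : Option α) ∈ K.map Function.Embedding.some := by rw [← heq]; simp
      exact none_notMem_map_some K this
    have hle := h.inter_le hK hl hne
    have hsub : (l ∩ K).map Function.Embedding.some ⊆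
        Finset.insertNone l ∩ K.map Function.Embedding.some := by
      intro o ho
      rw [Finset.mem_map] at ho
      obtain ⟨x, hx, rfl⟩ := ho
      rw [Finset.mem_inter] at hx ⊢
      exact ⟨Finset.some_mem_insertNone.2 hx.1, Finset.mem_map_of_mem _ hx.2⟩
    have := Finset.card_le_card hsub
    rw [Finset.card_map] at this
    omega

lemma ovals_meet (h : IsS22 Bf) {K H : Finset α} (hK : K ∈ ovalsOf Bf) (hH : H ∈ ovalsOf Bf) :
    (K ∩ H).card = 0 ∨ (K ∩ H).card = 2 ∨ (K ∩ H).card = 6 := by
  by_cases hKH : K = H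
  · subst hKH
    rw [Finset.inter_self]
    right; right
    exact (isHyperoval_of_mem h hK).card
  · rw [mem_ovalsOf] at hK hH
    have hne : K.map Function.Embedding.some ≠ H.map Function.Embedding.some := by
      intro heq
      exact hKH (Finset.map_injective _ heq)
    have := h.meet hH hK hne
    rw [← Finset.map_inter, Finset.card_map] at this
    tauto

lemma card_ovalsOf (h : IsS22 Bf) : (ovalsOf Bf).card = 56 := by
  have h1 : (Bf.filter (fun b => none ∈ b)).card = 21 := by
    have := h.one {none} (Finset.card_singleton _)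
    unfold cnt at this
    simpa [Finset.singleton_subset_iff] using this
  have h2 := Finset.card_filter_add_card_filter_not (s := Bf)
    (fun b => (none : Option α) ∈ b)
  rw [h1, h.card_blocks] at h2
  have h3 : (ovalsOf Bf).card = (Bf.filter (fun b => ¬ none ∈ b)).card := by
    apply Finset.card_bij' (fun K _ => K.map Function.Embedding.some)
      (fun b _ => Finset.eraseNone b)
    · intro K hK
      rw [Finset.mem_filter]
      exact ⟨mem_ovalsOf.1 hK, none_notMem_map_some K⟩
    · intro K hK
      rw [Finset.eraseNone_map_some]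
    · intro b hb
      rw [Finset.mem_filter] at hb
      exact map_some_eraseNone_of_notMem hb.2
    · intro b hb
      rw [Finset.mem_filter] at hb
      rw [mem_ovalsOf, map_some_eraseNone_of_notMem hb.2]
      exact hb.1
  omega

variable {β : Type*} [Fintype β] [DecidableEq β] {Bf' : Finset (Finset (Option β))}

lemma image_optionCongr_insertNone (e : α ≃ β) (l : Finset α) :
    (Finset.insertNone l).image (Equiv.optionCongr e) = Finset.insertNone (l.image e) := by
  ext o
  cases o with
  | none => simp
  | some y => simp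

lemma image_optionCongr_map_some (e : α ≃ β) (K : Finset α) :
    (K.map Function.Embedding.some).image (Equiv.optionCongr e) =
      (K.image e).map Function.Embedding.some := by
  ext o
  cases o with
  | none => simp
  | some y => simp

lemma exists_bijOn {H : Finset α} {H' : Finset β} (hc : H.card = H'.card) (b0 : β) :
    ∃ f0 : α → β, Set.BijOn f0 ↑H ↑H' := by
  have hcard : Fintype.card ↥H = Fintype.card ↥H' := by
    rw [Fintype.card_coe, Fintype.card_coe, hc]
  let e1 : ↥H ≃ ↥H' := Fintype.equivOfCardEq hcard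
  refine ⟨fun x => if hx : x ∈ H then (e1 ⟨x, hx⟩ : β) else b0, ?_, ?_, ?_⟩
  · intro x hx
    rw [Finset.mem_coe] at hx
    simp only [dif_pos hx]
    exact (e1 ⟨x, hx⟩).2
  · intro x hx y hy hxy
    rw [Finset.mem_coe] at hx hy
    simp only [dif_pos hx, dif_pos hy] at hxy
    have := e1.injective (Subtype.ext hxy)
    exact congrArg Subtype.val this
  · intro y hy
    rw [Finset.mem_coe] at hy
    refine ⟨(e1.symm ⟨y, hy⟩ : α), (e1.symm ⟨y, hy⟩).2, ?_⟩
    simp only [dif_pos (e1.symm ⟨y, hy⟩).2]
    simp

theorem core (h : IsS22 Bf) (h' : IsS22 Bf') :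
    ∃ e : Option α ≃ Option β, Bf.image (fun b => b.image e) = Bf' := by
  have hP := isPlane4_linesOf h
  have hP' := isPlane4_linesOf h'
  obtain ⟨H, hHm⟩ := Finset.card_pos.1 (by rw [card_ovalsOf h]; norm_num : 0 < (ovalsOf Bf).card)
  obtain ⟨H', hHm'⟩ :=
    Finset.card_pos.1 (by rw [card_ovalsOf h']; norm_num : 0 < (ovalsOf Bf').card)
  have hH := isHyperoval_of_mem h hHm
  have hH' := isHyperoval_of_mem h' hHm'
  have hne : Nonempty β := Fintype.card_pos_iff.1 (by rw [card_of_option h']; norm_num)
  obtain ⟨b0⟩ := hne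
  obtain ⟨f0, hf⟩ := exists_bijOn (hH.card.trans hH'.card.symm) b0
  obtain ⟨e, heH, he⟩ := exists_iso hH hP hH' hP' hf
  have hHe : H.image e = H' := by
    rw [Finset.image_congr (fun p hp => heH p hp)]
    apply Finset.coe_injective
    rw [Finset.coe_image]
    exact hf.image_eq
  have hov : (ovalsOf Bf).image (fun K => K.image e) = ovalsOf Bf' := by
    have hE'card := even_ovals hP' hH'
    have hinj : Function.Injective (fun K : Finset α => K.image e) :=
      Finset.image_injective e.injective
    have h1 : (ovalsOf Bf).image (fun K => K.image e) ⊆ (lev (linesOf Bf') 6).filter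
        (fun K => (K ∩ H').card = 0 ∨ (K ∩ H').card = 2 ∨ (K ∩ H').card = 6) := by
      intro K' hK'
      obtain ⟨K, hK, rfl⟩ := Finset.mem_image.1 hK'
      rw [Finset.mem_filter, mem_lev]
      have hKo := isHyperoval_of_mem h hK
      refine ⟨⟨?_, ?_⟩, ?_⟩
      · rw [Finset.card_image_of_injective _ e.injective]; exact hKo.card
      · intro l' hl'
        rw [← he] at hl'
        obtain ⟨l, hl, rfl⟩ := Finset.mem_image.1 hl'
        rw [← Finset.image_inter _ _ e.injective, Finset.card_image_of_injective _ e.injective]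
        exact hKo.ind l hl
      · rw [← hHe, ← Finset.image_inter _ _ e.injective,
          Finset.card_image_of_injective _ e.injective]
        exact ovals_meet h hK hHm
    have h2 : ovalsOf Bf' ⊆ (lev (linesOf Bf') 6).filter
        (fun K => (K ∩ H').card = 0 ∨ (K ∩ H').card = 2 ∨ (K ∩ H').card = 6) := by
      intro K hK
      rw [Finset.mem_filter, mem_lev]
      have hKo := isHyperoval_of_mem h' hK
      exact ⟨⟨hKo.card, hKo.ind⟩, ovals_meet h' hK hHm'⟩
    have e1 := Finset.eq_of_subset_of_card_le h1
      (by rw [hE'card, Finset.card_image_of_injective _ hinj, card_ovalsOf h])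
    have e2 := Finset.eq_of_subset_of_card_le h2 (by rw [hE'card, card_ovalsOf h'])
    rw [e1, e2]
  refine ⟨Equiv.optionCongr e, ?_⟩
  apply Finset.eq_of_subset_of_card_le
  · intro b' hb'
    obtain ⟨b, hb, rfl⟩ := Finset.mem_image.1 hb'
    by_cases hn : none ∈ b
    · have hl : Finset.eraseNone b ∈ linesOf Bf := by
        rw [mem_linesOf, insertNone_eraseNone_of_mem hn]; exact hb
      have : (Finset.eraseNone b).image e ∈ linesOf Bf' := by
        rw [← he]; exact Finset.mem_image_of_mem _ hl
      rw [mem_linesOf, ← image_optionCongr_insertNone, insertNone_eraseNone_of_mem hn] at this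
      exact this
    · have hl : Finset.eraseNone b ∈ ovalsOf Bf := by
        rw [mem_ovalsOf, map_some_eraseNone_of_notMem hn]; exact hb
      have : (Finset.eraseNone b).image e ∈ ovalsOf Bf' := by
        rw [← hov]; exact Finset.mem_image_of_mem _ hl
      rw [mem_ovalsOf, ← image_optionCongr_map_some, map_some_eraseNone_of_notMem hn] at this
      exact this
  · rw [Finset.card_image_of_injective _ (Finset.image_injective (Equiv.optionCongr e).injective),
      h.card_blocks, h'.card_blocks]

end Core

section Transport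

variable {γ δ : Type*} [Fintype γ] [DecidableEq γ] [Fintype δ] [DecidableEq δ]

lemma cnt_image_equiv (σ : γ ≃ δ) (Bf : Finset (Finset γ)) (S : Finset δ) :
    cnt (Bf.image (fun b => b.image σ)) S = cnt Bf (S.image σ.symm) := by
  unfold cnt
  rw [Finset.filter_image, Finset.card_image_of_injective _ (Finset.image_injective σ.injective)]
  congr 1
  ext b
  simp only [Finset.mem_filter]
  refine and_congr_right (fun _ => ?_)
  constructor
  · intro hS x hx
    obtain ⟨y, hy, rfl⟩ := Finset.mem_image.1 hx
    obtain ⟨z, hz, rfl⟩ := Finset.mem_image.1 (hS hy)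
    rw [Equiv.symm_apply_apply]
    exact hz
  · intro hS y hy
    have : σ.symm y ∈ b := hS (Finset.mem_image_of_mem _ hy)
    have h2 := Finset.mem_image_of_mem σ this
    rwa [Equiv.apply_symm_apply] at h2

theorem isS22_transport (σ : γ ≃ δ) {Bf : Finset (Finset γ)} (hγ : Fintype.card γ = 22)
    (hk : ∀ b ∈ Bf, b.card = 6) (h3 : ∀ S : Finset γ, S.card = 3 → cnt Bf S = 1) :
    IsS22 (Bf.image (fun b => b.image σ)) := by
  refine ⟨by rw [← Fintype.card_congr σ, hγ], ?_, ?_⟩
  · intro b' hb'
    obtain ⟨b, hb, rfl⟩ := Finset.mem_image.1 hb'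
    rw [Finset.card_image_of_injective _ σ.injective]; exact hk b hb
  · intro S hS
    rw [cnt_image_equiv]
    exact h3 _ (by rw [Finset.card_image_of_injective _ σ.symm.injective, hS])

theorem unique22 {γ γ' : Type*} [Fintype γ] [DecidableEq γ] [Fintype γ'] [DecidableEq γ']
    (hγ : Fintype.card γ = 22) (hγ' : Fintype.card γ' = 22) {B : Set (Finset γ)}
    {B' : Set (Finset γ')} (hB : Cfsg.IsSteinerSystem 3 6 B) (hB' : Cfsg.IsSteinerSystem 3 6 B') :
    Cfsg.SetSystemIso B B' := by
  have c1 : Fintype.card γ = Fintype.card (Option (Fin 21)) := by rw [hγ]; simp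
  have c2 : Fintype.card γ' = Fintype.card (Option (Fin 21)) := by rw [hγ']; simp
  let σ : γ ≃ Option (Fin 21) := Fintype.equivOfCardEq c1
  let σ' : γ' ≃ Option (Fin 21) := Fintype.equivOfCardEq c2
  have h := isS22_transport σ hγ (toF_card hB) (toF_cnt hB)
  have h' := isS22_transport σ' hγ' (toF_card hB') (toF_cnt hB')
  obtain ⟨e, he⟩ := core h h'
  have key : ∀ b : Finset γ, b.image (σ.trans (e.trans σ'.symm)) =
      ((b.image σ).image e).image σ'.symm := by
    intro b
    rw [Finset.image_image, Finset.image_image]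
    rfl
  have key2 : ∀ c : Finset γ', (c.image σ').image σ'.symm = c := by
    intro c
    rw [Finset.image_image]
    simp
  refine ⟨σ.trans (e.trans σ'.symm), ?_⟩
  ext c
  constructor
  · rintro ⟨b, hb, rfl⟩
    have h1 : (b.image σ).image e ∈ (toF B').image (fun b => b.image σ') := by
      rw [← he]
      exact Finset.mem_image_of_mem _ (Finset.mem_image_of_mem _ ((mem_toF B b).2 hb))
    obtain ⟨c, hc, hce⟩ := Finset.mem_image.1 h1
    show b.image (σ.trans (e.trans σ'.symm)) ∈ B'
    rw [key, ← hce, key2]
    exact (mem_toF B' c).1 hc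
  · intro hc
    have h1 : c.image σ' ∈ ((toF B).image (fun b => b.image σ)).image (fun b => b.image e) := by
      rw [he]; exact Finset.mem_image_of_mem _ ((mem_toF B' c).2 hc)
    obtain ⟨b1, hb1, hb1e⟩ := Finset.mem_image.1 h1
    obtain ⟨b, hb, rfl⟩ := Finset.mem_image.1 hb1
    refine ⟨b, (mem_toF B b).1 hb, ?_⟩
    show b.image (σ.trans (e.trans σ'.symm)) = c
    rw [key, hb1e, key2]

end Transport

end Cfsg.Agent.helper28.S22
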