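import Mathlib

set_option autoImplicit false

namespace Cfsg.Agent.helper28.S8

/-- pair label of a point of `Fin 8` -/
def lab (i : Fin 8) : Fin 4 := ⟨i.val / 2, by omega⟩

/-- forward preservation of the pair partition and of the half partition given by `c` -/
def Pres (c : Fin 8 → Fin 4) (σ : Fin 8 → Fin 8) : Prop :=
  (∀ i j, c i = c j → c (σ i) = c (σ j)) ∧
  (∀ i j, (c i).val / 2 = (c j).val / 2 → (c (σ i)).val / 2 = (c (σ j)).val / 2)

instance instDecPres (c : Fin 8 → Fin 4) (σ : Fin 8 → Fin 8) : Decidable (Pres c σ) := by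
  unfold Pres; infer_instance

def NoTrip (l : List (Fin 4)) : Prop := ∀ v : Fin 4, l.count v ≤ 2

instance instDecNoTrip (l : List (Fin 4)) : Decidable (NoTrip l) := by
  unfold NoTrip; infer_instance

def candFuns : List (Fin 8 → Fin 8) :=
  [![1,0,3,2,5,4,7,6], ![1,0,3,2,6,7,4,5], ![1,0,3,2,7,6,5,4],
   ![4,5,6,7,0,1,2,3], ![4,5,7,6,0,1,3,2], ![5,4,7,6,1,0,3,2], ![5,4,6,7,1,0,2,3],
   ![6,7,4,5,2,3,0,1], ![6,7,5,4,3,2,0,1], ![7,6,5,4,3,2,1,0], ![7,6,4,5,2,3,1,0]]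

theorem cand_specB : candFuns.all
    (fun h => decide ((∀ x, h (h x) = x) ∧ Pres lab h ∧ h 0 ≠ 0)) = true := by
  decide +kernel

theorem cand_spec : ∀ h ∈ candFuns, (∀ x, h (h x) = x) ∧ Pres lab h ∧ h 0 ≠ 0 := by
  intro h hh
  have := List.all_eq_true.mp cand_specB h hh
  exact of_decide_eq_true this

set_option maxRecDepth 100000 in
theorem key : ∀ c1 : Fin 4, (c1 = 1 ∨ c1 = 2) → ∀ c2 c3 : Fin 4, c2 ≠ c3 →
    ∀ c4 c5 : Fin 4, c4 ≠ c5 → ∀ c6 c7 : Fin 4, c6 ≠ c7 → NoTrip [0,c1,c2,c3,c4,c5,c6,c7] →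
    ∃ h ∈ candFuns, Pres ![0,c1,c2,c3,c4,c5,c6,c7] h := by
  decide +kernel

end Cfsg.Agent.helper28.S8
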