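import Cfsg.Agent.Lib_helper28_S22
set_option autoImplicit false

/-! Strongly regular graphs with parameters (100,22,0,6): the neighbourhood of a vertex carries an
S(3,6,22) whose blocks are indexed by the non-neighbours. -/

namespace Cfsg.Agent.helper28.SRG100

open Finset Cfsg.Agent.S5625

section Basic

variable {V : Type*} [Fintype V] [DecidableEq V] (G : SimpleGraph V) [DecidableRel G.Adj]

/-- the hypotheses of an SRG(100,22,0,6) in finset form -/
structure IsHSG : Prop where
  card : Fintype.card V = 100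
  deg : ∀ v, (G.neighborFinset v).card = 22
  adj : ∀ v w, G.Adj v w → (G.neighborFinset v ∩ G.neighborFinset w).card = 0
  nadj : ∀ v w, v ≠ w → ¬ G.Adj v w → (G.neighborFinset v ∩ G.neighborFinset w).card = 6

lemma cn_card (v w : V) :
    Fintype.card (G.commonNeighbors v w) = (G.neighborFinset v ∩ G.neighborFinset w).card := by
  rw [← Set.toFinset_card]
  congr 1
  ext x
  simp [SimpleGraph.mem_commonNeighbors]

lemma isHSG_of_srg (h : G.IsSRGWith 100 22 0 6) : IsHSG G := by
  refine ⟨h.card, fun v => h.regular v, ?_, ?_⟩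
  · intro v w hvw
    rw [← cn_card]; exact h.of_adj v w hvw
  · intro v w hne hvw
    rw [← cn_card]; exact h.of_not_adj hne hvw

variable (v₀ : V)

/-- neighbours of the base vertex -/
def nbr : Finset V := G.neighborFinset v₀

/-- the remaining vertices -/
def far : Finset V := Finset.univ.filter (fun m => m ≠ v₀ ∧ ¬ G.Adj v₀ m)

/-- the block of a vertex: its neighbours among the neighbours of the base vertex -/
def blk (m : V) : Finset V := G.neighborFinset m ∩ G.neighborFinset v₀

variable {G v₀}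

lemma mem_nbr {a : V} : a ∈ nbr G v₀ ↔ G.Adj v₀ a := by
  unfold nbr; rw [SimpleGraph.mem_neighborFinset]

lemma mem_far {m : V} : m ∈ far G v₀ ↔ m ≠ v₀ ∧ ¬ G.Adj v₀ m := by
  unfold far; simp

lemma mem_blk {m a : V} : a ∈ blk G v₀ m ↔ G.Adj m a ∧ G.Adj v₀ a := by
  unfold blk; rw [Finset.mem_inter, SimpleGraph.mem_neighborFinset, SimpleGraph.mem_neighborFinset]

lemma blk_sub (m : V) : blk G v₀ m ⊆ nbr G v₀ := by
  intro a ha; exact mem_nbr.2 (mem_blk.1 ha).2

lemma cover (v : V) : v = v₀ ∨ v ∈ nbr G v₀ ∨ v ∈ far G v₀ := by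
  by_cases h1 : v = v₀
  · exact Or.inl h1
  · by_cases h2 : G.Adj v₀ v
    · exact Or.inr (Or.inl (mem_nbr.2 h2))
    · exact Or.inr (Or.inr (mem_far.2 ⟨h1, h2⟩))

lemma v0_notMem_nbr : v₀ ∉ nbr G v₀ := fun h => G.loopless.irrefl v₀ (mem_nbr.1 h)

lemma v0_notMem_far : v₀ ∉ far G v₀ := fun h => (mem_far.1 h).1 rfl

lemma nbr_notMem_far {v : V} (h : v ∈ nbr G v₀) : v ∉ far G v₀ :=
  fun h' => (mem_far.1 h').2 (mem_nbr.1 h)

variable (h : IsHSG G)
include h

lemma indep {a b : V} (ha : a ∈ nbr G v₀) (hb : b ∈ nbr G v₀) : ¬ G.Adj a b := by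
  intro hab
  have h0 := h.adj a b hab
  rw [Finset.card_eq_zero] at h0
  have : v₀ ∈ G.neighborFinset a ∩ G.neighborFinset b := by
    rw [Finset.mem_inter, SimpleGraph.mem_neighborFinset, SimpleGraph.mem_neighborFinset]
    exact ⟨(mem_nbr.1 ha).symm, (mem_nbr.1 hb).symm⟩
  rw [h0] at this
  exact Finset.notMem_empty _ this

lemma card_nbr : (nbr G v₀).card = 22 := h.deg v₀

lemma card_blk {m : V} (hm : m ∈ far G v₀) : (blk G v₀ m).card = 6 :=
  h.nadj m v₀ (mem_far.1 hm).1 (fun hh => (mem_far.1 hm).2 hh.symm)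

lemma card_far : (far G v₀).card = 77 := by
  have hun : (Finset.univ : Finset V) = insert v₀ (nbr G v₀ ∪ far G v₀) := by
    ext v
    simp only [Finset.mem_univ, Finset.mem_insert, Finset.mem_union, true_iff]
    exact cover v
  have hc := congrArg Finset.card hun
  rw [Finset.card_univ, h.card, Finset.card_insert_of_notMem, Finset.card_union_of_disjoint,
    card_nbr h] at hc
  · omega
  · rw [Finset.disjoint_left]; intro v hv; exact nbr_notMem_far hv
  · rw [Finset.mem_union]; rintro (hh | hh)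
    · exact v0_notMem_nbr hh
    · exact v0_notMem_far hh

/-- each neighbour of the base vertex lies in 21 blocks -/
lemma cnt_one {a : V} (ha : a ∈ nbr G v₀) :
    ((far G v₀).filter (fun m => a ∈ blk G v₀ m)).card = 21 := by
  have he : (far G v₀).filter (fun m => a ∈ blk G v₀ m) = (G.neighborFinset a).erase v₀ := by
    ext m
    rw [Finset.mem_filter, mem_far, mem_blk, Finset.mem_erase, SimpleGraph.mem_neighborFinset]
    constructor
    · rintro ⟨⟨h1, -⟩, h3, -⟩
      exact ⟨h1, h3.symm⟩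
    · rintro ⟨h1, h2⟩
      refine ⟨⟨h1, ?_⟩, h2.symm, mem_nbr.1 ha⟩
      intro h3
      exact indep h ha (mem_nbr.2 h3) h2
  rw [he, Finset.card_erase_of_mem, h.deg]
  rw [SimpleGraph.mem_neighborFinset]
  exact (mem_nbr.1 ha).symm

/-- two neighbours of the base vertex lie together in 5 blocks -/
lemma cnt_two {a b : V} (ha : a ∈ nbr G v₀) (hb : b ∈ nbr G v₀) (hab : a ≠ b) :
    ((far G v₀).filter (fun m => a ∈ blk G v₀ m ∧ b ∈ blk G v₀ m)).card = 5 := by
  have he : (far G v₀).filter (fun m => a ∈ blk G v₀ m ∧ b ∈ blk G v₀ m) =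
      (G.neighborFinset a ∩ G.neighborFinset b).erase v₀ := by
    ext m
    rw [Finset.mem_filter, mem_far, mem_blk, mem_blk, Finset.mem_erase, Finset.mem_inter,
      SimpleGraph.mem_neighborFinset, SimpleGraph.mem_neighborFinset]
    constructor
    · rintro ⟨⟨h1, -⟩, ⟨h3, -⟩, ⟨h4, -⟩⟩
      exact ⟨h1, h3.symm, h4.symm⟩
    · rintro ⟨h1, h2, h3⟩
      refine ⟨⟨h1, ?_⟩, ⟨h2.symm, mem_nbr.1 ha⟩, ⟨h3.symm, mem_nbr.1 hb⟩⟩
      intro h4
      exact indep h ha (mem_nbr.2 h4) h2
  rw [he, Finset.card_erase_of_mem, h.nadj a b hab (indep h ha hb)]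
  rw [Finset.mem_inter, SimpleGraph.mem_neighborFinset, SimpleGraph.mem_neighborFinset]
  exact ⟨(mem_nbr.1 ha).symm, (mem_nbr.1 hb).symm⟩

/-- a far vertex has 16 far neighbours -/
lemma cnt_adj {m : V} (hm : m ∈ far G v₀) :
    ((far G v₀).filter (fun m' => G.Adj m m')).card = 16 := by
  have hsplit : G.neighborFinset m = blk G v₀ m ∪ (far G v₀).filter (fun m' => G.Adj m m') := by
    ext x
    rw [Finset.mem_union, mem_blk, Finset.mem_filter, SimpleGraph.mem_neighborFinset]
    constructor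
    · intro hx
      rcases cover (G := G) (v₀ := v₀) x with rfl | hx' | hx'
      · exact absurd hx.symm (mem_far.1 hm).2
      · exact Or.inl ⟨hx, mem_nbr.1 hx'⟩
      · exact Or.inr ⟨hx', hx⟩
    · rintro (⟨hx, -⟩ | ⟨-, hx⟩) <;> exact hx
  have hc := congrArg Finset.card hsplit
  rw [h.deg, Finset.card_union_of_disjoint, card_blk h hm] at hc
  · omega
  · rw [Finset.disjoint_left]
    intro x hx hx'
    exact nbr_notMem_far (blk_sub m hx) (Finset.mem_filter.1 hx').1

end Basic

section Moments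

variable {V : Type*} [Fintype V] [DecidableEq V] {G : SimpleGraph V} [DecidableRel G.Adj] {v₀ : V}

/-- tagged block: the block together with its index vertex -/
def tb (G : SimpleGraph V) [DecidableRel G.Adj] (v₀ : V) (m : V) : Finset V :=
  insert m (blk G v₀ m)

/-- the family of tagged blocks -/
def TB (G : SimpleGraph V) [DecidableRel G.Adj] (v₀ : V) : Finset (Finset V) :=
  (far G v₀).image (tb G v₀)

lemma tb_injOn : Set.InjOn (tb G v₀) ↑(far G v₀) := by
  intro m hm m' hm' heq
  have : m ∈ tb G v₀ m' := by rw [← heq]; exact Finset.mem_insert_self _ _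
  rw [tb, Finset.mem_insert] at this
  rcases this with h1 | h1
  · exact h1
  · exact absurd (Finset.mem_coe.1 hm) (nbr_notMem_far (blk_sub m' h1))

lemma sub_tb_iff {P : Finset V} (hP : P ⊆ nbr G v₀) {m : V} (hm : m ∈ far G v₀) :
    P ⊆ tb G v₀ m ↔ P ⊆ blk G v₀ m := by
  constructor
  · intro hsub x hx
    have := hsub hx
    rw [tb, Finset.mem_insert] at this
    rcases this with rfl | h1
    · exact absurd hm (nbr_notMem_far (hP hx))
    · exact h1
  · intro hsub; exact hsub.trans (Finset.subset_insert _ _)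

lemma tb_inter {Y : Finset V} (hY : Y ⊆ nbr G v₀) {m : V} (hm : m ∈ far G v₀) :
    tb G v₀ m ∩ Y = blk G v₀ m ∩ Y := by
  ext x
  rw [Finset.mem_inter, Finset.mem_inter, tb, Finset.mem_insert]
  constructor
  · rintro ⟨rfl | h1, h2⟩
    · exact absurd hm (nbr_notMem_far (hY h2))
    · exact ⟨h1, h2⟩
  · rintro ⟨h1, h2⟩; exact ⟨Or.inr h1, h2⟩

lemma cnt_TB {P : Finset V} (hP : P ⊆ nbr G v₀) :
    cnt (TB G v₀) P = ((far G v₀).filter (fun m => P ⊆ blk G v₀ m)).card := by
  unfold cnt TB
  rw [Finset.filter_image, Finset.card_image_of_injOn]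
  · congr 1
    apply Finset.filter_congr
    intro m hm
    exact sub_tb_iff hP hm
  · exact tb_injOn.mono (by intro x hx; exact Finset.mem_coe.2 (Finset.mem_filter.1 hx).1)

lemma filter_TB {Y : Finset V} (hY : Y ⊆ nbr G v₀) (k : ℕ) :
    ((TB G v₀).filter (fun b => (b ∩ Y).card = k)).card =
      ((far G v₀).filter (fun m => (blk G v₀ m ∩ Y).card = k)).card := by
  unfold TB
  rw [Finset.filter_image, Finset.card_image_of_injOn]
  · congr 1
    apply Finset.filter_congr
    intro m hm
    rw [tb_inter hY hm]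
  · exact tb_injOn.mono (by intro x hx; exact Finset.mem_coe.2 (Finset.mem_filter.1 hx).1)

variable (h : IsHSG G)
include h

/-- the distribution of intersection sizes with a fixed block -/
lemma distribution {m₀ : V} (hm₀ : m₀ ∈ far G v₀) :
    ((far G v₀).filter (fun m => (blk G v₀ m ∩ blk G v₀ m₀).card = 0)).card = 16 ∧
    ((far G v₀).filter (fun m => (blk G v₀ m ∩ blk G v₀ m₀).card = 1)).card = 0 ∧
    ((far G v₀).filter (fun m => (blk G v₀ m ∩ blk G v₀ m₀).card = 3)).card = 0 ∧
    ((far G v₀).filter (fun m => (blk G v₀ m ∩ blk G v₀ m₀).card = 4)).card = 0 ∧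
    ((far G v₀).filter (fun m => (blk G v₀ m ∩ blk G v₀ m₀).card = 5)).card = 0 ∧
    ((far G v₀).filter (fun m => (blk G v₀ m ∩ blk G v₀ m₀).card = 6)).card = 1 := by
  have hY : blk G v₀ m₀ ⊆ nbr G v₀ := blk_sub m₀
  have hY6 : (blk G v₀ m₀).card = 6 := card_blk h hm₀
  have M0 := moment (TB G v₀) (blk G v₀ m₀) 0
  have M1 := moment (TB G v₀) (blk G v₀ m₀) 1
  have M2 := moment (TB G v₀) (blk G v₀ m₀) 2
  have R0 : ∑ P ∈ powersetCard 0 (blk G v₀ m₀), cnt (TB G v₀) P = 77 := by
    rw [Finset.powersetCard_zero, Finset.sum_singleton, cnt_TB (Finset.empty_subset _)]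
    rw [Finset.filter_true_of_mem (fun m _ => Finset.empty_subset _)]
    exact card_far h
  have R1 : ∑ P ∈ powersetCard 1 (blk G v₀ m₀), cnt (TB G v₀) P = 126 := by
    rw [Finset.sum_congr rfl (g := fun _ => 21)]
    · rw [Finset.sum_const, Finset.card_powersetCard, hY6]; rfl
    · intro P hP
      rw [Finset.mem_powersetCard] at hP
      obtain ⟨a, rfl⟩ := Finset.card_eq_one.1 hP.2
      have ha : a ∈ nbr G v₀ := hY (hP.1 (Finset.mem_singleton_self a))
      rw [cnt_TB (Finset.singleton_subset_iff.2 ha)]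
      rw [← cnt_one h ha]
      congr 1
      apply Finset.filter_congr
      intro m _
      exact Finset.singleton_subset_iff
  have R2 : ∑ P ∈ powersetCard 2 (blk G v₀ m₀), cnt (TB G v₀) P = 75 := by
    rw [Finset.sum_congr rfl (g := fun _ => 5)]
    · rw [Finset.sum_const, Finset.card_powersetCard, hY6]; rfl
    · intro P hP
      rw [Finset.mem_powersetCard] at hP
      obtain ⟨a, b, hab, rfl⟩ := Finset.card_eq_two.1 hP.2
      have ha : a ∈ nbr G v₀ := hY (hP.1 (by simp))
      have hb : b ∈ nbr G v₀ := hY (hP.1 (by simp))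
      have hsub : ({a, b} : Finset V) ⊆ nbr G v₀ := by
        intro x hx
        rw [Finset.mem_insert, Finset.mem_singleton] at hx
        rcases hx with rfl | rfl
        · exact ha
        · exact hb
      rw [cnt_TB hsub, ← cnt_two h ha hb hab]
      congr 1
      apply Finset.filter_congr
      intro m _
      rw [Finset.insert_subset_iff, Finset.singleton_subset_iff]
  rw [R0] at M0
  rw [R1] at M1
  rw [R2] at M2
  rw [hY6] at M0 M1 M2
  simp only [filter_TB hY] at M0 M1 M2
  have lb6 : 1 ≤ ((far G v₀).filter (fun m => (blk G v₀ m ∩ blk G v₀ m₀).card = 6)).card := by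
    rw [Nat.one_le_iff_ne_zero]
    apply Finset.card_ne_zero_of_mem (a := m₀)
    rw [Finset.mem_filter, Finset.inter_self]
    exact ⟨hm₀, hY6⟩
  have lb0 : 16 ≤ ((far G v₀).filter (fun m => (blk G v₀ m ∩ blk G v₀ m₀).card = 0)).card := by
    rw [← cnt_adj h hm₀]
    apply Finset.card_le_card
    intro m hm
    rw [Finset.mem_filter] at hm ⊢
    refine ⟨hm.1, ?_⟩
    have h0 := h.adj m₀ m hm.2
    rw [Finset.card_eq_zero] at h0 ⊢
    rw [← Finset.subset_empty, ← h0]
    intro x hx
    rw [Finset.mem_inter, mem_blk, mem_blk] at hx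
    rw [Finset.mem_inter, SimpleGraph.mem_neighborFinset, SimpleGraph.mem_neighborFinset]
    exact ⟨hx.2.1, hx.1.1⟩
  simp only [Finset.sum_range_succ, Finset.sum_range_zero] at M0 M1 M2
  generalize ((far G v₀).filter (fun m => (blk G v₀ m ∩ blk G v₀ m₀).card = 0)).card = n0 at *
  generalize ((far G v₀).filter (fun m => (blk G v₀ m ∩ blk G v₀ m₀).card = 1)).card = n1 at *
  generalize ((far G v₀).filter (fun m => (blk G v₀ m ∩ blk G v₀ m₀).card = 2)).card = n2 at *
  generalize ((far G v₀).filter (fun m => (blk G v₀ m ∩ blk G v₀ m₀).card = 3)).card = n3 at *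
  generalize ((far G v₀).filter (fun m => (blk G v₀ m ∩ blk G v₀ m₀).card = 4)).card = n4 at *
  generalize ((far G v₀).filter (fun m => (blk G v₀ m ∩ blk G v₀ m₀).card = 5)).card = n5 at *
  generalize ((far G v₀).filter (fun m => (blk G v₀ m ∩ blk G v₀ m₀).card = 6)).card = n6 at *
  norm_num [Nat.choose] at M0 M1 M2
  omega

lemma inter_adj {m m' : V} (hmm : G.Adj m m') : blk G v₀ m ∩ blk G v₀ m' = ∅ := by
  have h0 := h.adj m m' hmm
  rw [Finset.card_eq_zero] at h0
  rw [← Finset.subset_empty, ← h0]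
  intro x hx
  rw [Finset.mem_inter, mem_blk, mem_blk] at hx
  rw [Finset.mem_inter, SimpleGraph.mem_neighborFinset, SimpleGraph.mem_neighborFinset]
  exact ⟨hx.1.1, hx.2.1⟩

lemma inter_nadj {m m' : V} (hm : m ∈ far G v₀) (hm' : m' ∈ far G v₀) (hne : m ≠ m')
    (hmm : ¬ G.Adj m m') : (blk G v₀ m' ∩ blk G v₀ m).card = 2 := by
  obtain ⟨d0, d1, d3, d4, d5, d6⟩ := distribution h hm
  have hle : (blk G v₀ m' ∩ blk G v₀ m).card ≤ 6 := by
    rw [← card_blk h hm]; exact Finset.card_le_card Finset.inter_subset_right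
  have hnot : ∀ k, ((far G v₀).filter (fun x => (blk G v₀ x ∩ blk G v₀ m).card = k)).card = 0 →
      (blk G v₀ m' ∩ blk G v₀ m).card ≠ k := by
    intro k hk hc
    rw [Finset.card_eq_zero] at hk
    have : m' ∈ (far G v₀).filter (fun x => (blk G v₀ x ∩ blk G v₀ m).card = k) :=
      Finset.mem_filter.2 ⟨hm', hc⟩
    rw [hk] at this
    exact Finset.notMem_empty _ this
  have h1 := hnot 1 d1
  have h3 := hnot 3 d3
  have h4 := hnot 4 d4
  have h5 := hnot 5 d5
  have h6 : (blk G v₀ m' ∩ blk G v₀ m).card ≠ 6 := by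
    intro hc
    obtain ⟨x, hx⟩ := Finset.card_eq_one.1 d6
    have e1 : m' ∈ (far G v₀).filter (fun x => (blk G v₀ x ∩ blk G v₀ m).card = 6) :=
      Finset.mem_filter.2 ⟨hm', hc⟩
    have e2 : m ∈ (far G v₀).filter (fun x => (blk G v₀ x ∩ blk G v₀ m).card = 6) := by
      rw [Finset.mem_filter, Finset.inter_self]
      exact ⟨hm, card_blk h hm⟩
    rw [hx, Finset.mem_singleton] at e1 e2
    exact hne (e2.trans e1.symm)
  have h0 : (blk G v₀ m' ∩ blk G v₀ m).card ≠ 0 := by
    intro hc
    have hsub : (far G v₀).filter (fun x => G.Adj m x) ⊆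
        (far G v₀).filter (fun x => (blk G v₀ x ∩ blk G v₀ m).card = 0) := by
      intro x hx
      rw [Finset.mem_filter] at hx ⊢
      refine ⟨hx.1, ?_⟩
      rw [Finset.inter_comm, inter_adj h hx.2, Finset.card_empty]
    have heq := Finset.eq_of_subset_of_card_le hsub (by rw [d0, cnt_adj h hm])
    have : m' ∈ (far G v₀).filter (fun x => G.Adj m x) := by
      rw [heq]; exact Finset.mem_filter.2 ⟨hm', hc⟩
    exact hmm (Finset.mem_filter.1 this).2
  omega

lemma blk_inj {m m' : V} (hm : m ∈ far G v₀) (hm' : m' ∈ far G v₀)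
    (heq : blk G v₀ m = blk G v₀ m') : m = m' := by
  by_contra hne
  by_cases hmm : G.Adj m m'
  · have := inter_adj (v₀ := v₀) h hmm
    rw [heq, Finset.inter_self] at this
    have h6 := card_blk h hm'
    rw [this] at h6
    simp at h6
  · have := inter_nadj h hm hm' hne hmm
    rw [heq, Finset.inter_self, card_blk h hm'] at this
    omega

lemma adj_iff_disjoint {m m' : V} (hm : m ∈ far G v₀) (hm' : m' ∈ far G v₀) (hne : m ≠ m') :
    G.Adj m m' ↔ Disjoint (blk G v₀ m) (blk G v₀ m') := by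
  constructor
  · intro hmm
    rw [Finset.disjoint_iff_inter_eq_empty]
    exact inter_adj h hmm
  · intro hd
    by_contra hmm
    have := inter_nadj h hm hm' hne hmm
    rw [Finset.disjoint_iff_inter_eq_empty, Finset.inter_comm] at hd
    rw [hd] at this
    simp at this

omit [Fintype V] [DecidableEq V] [DecidableRel G.Adj] h in
lemma sum_eq_card_imp {ι : Type*} (s : Finset ι) (f : ι → ℕ) (h1 : ∀ i ∈ s, f i ≤ 1)
    (hs : ∑ i ∈ s, f i = s.card) : ∀ i ∈ s, f i = 1 := by
  by_contra hcon
  push Not at hcon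
  obtain ⟨i, hi, hne⟩ := hcon
  have hlt : ∑ j ∈ s, f j < ∑ j ∈ s, 1 :=
    Finset.sum_lt_sum (fun j hj => h1 j hj) ⟨i, hi, by have := h1 i hi; omega⟩
  rw [Finset.sum_const, smul_eq_mul, mul_one] at hlt
  omega

/-- every triple of neighbours of the base vertex lies in exactly one block -/
lemma triple {T : Finset V} (hT : T ⊆ nbr G v₀) (hT3 : T.card = 3) :
    ((far G v₀).filter (fun m => T ⊆ blk G v₀ m)).card = 1 := by
  have hle : ∀ T ∈ powersetCard 3 (nbr G v₀),
      ((far G v₀).filter (fun m => T ⊆ blk G v₀ m)).card ≤ 1 := by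
    intro T hT
    rw [Finset.mem_powersetCard] at hT
    rw [Finset.card_le_one]
    intro m hm m' hm'
    rw [Finset.mem_filter] at hm hm'
    by_contra hne
    have hsub : T ⊆ blk G v₀ m' ∩ blk G v₀ m := Finset.subset_inter hm'.2 hm.2
    have h3 := Finset.card_le_card hsub
    rw [hT.2] at h3
    by_cases hmm : G.Adj m m'
    · rw [Finset.inter_comm, inter_adj h hmm] at h3
      simp at h3
    · rw [inter_nadj h hm.1 hm'.1 hne hmm] at h3
      omega
  have hsum : ∑ T ∈ powersetCard 3 (nbr G v₀),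
      ((far G v₀).filter (fun m => T ⊆ blk G v₀ m)).card = (powersetCard 3 (nbr G v₀)).card := by
    simp_rw [Finset.card_filter]
    rw [Finset.sum_comm]
    rw [Finset.sum_congr rfl (g := fun _ => 20)]
    · rw [Finset.sum_const, card_far h, Finset.card_powersetCard, card_nbr h]
      rfl
    · intro m hm
      rw [← Finset.card_filter]
      have : (powersetCard 3 (nbr G v₀)).filter (fun T => T ⊆ blk G v₀ m) =
          powersetCard 3 (blk G v₀ m) := by
        ext T
        rw [Finset.mem_filter, Finset.mem_powersetCard, Finset.mem_powersetCard]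
        constructor
        · rintro ⟨⟨-, h2⟩, h3⟩; exact ⟨h3, h2⟩
        · rintro ⟨h1, h2⟩; exact ⟨⟨h1.trans (blk_sub m), h2⟩, h1⟩
      rw [this, Finset.card_powersetCard, card_blk h hm]
      rfl
  exact sum_eq_card_imp _ _ hle hsum T (Finset.mem_powersetCard.2 ⟨hT, hT3⟩)

end Moments

end Cfsg.Agent.helper28.SRG100
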