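import Mathlib
set_option autoImplicit false

namespace Cfsg.Agent.helper28.Singer

variable {F K : Type*} [Field F] [Field K] [Algebra F K]

/-- the Singer group -/
abbrev singer (F K : Type*) [Field F] [Field K] [Algebra F K] : Subgroup (Module.End F K)ˣ :=
  (Units.map ((Algebra.lmul F K : K →ₐ[F] Module.End F K) : K →* Module.End F K)).range

/-- elements `b` whose multiplication map lies in the conjugate of the multiplication algebra -/
def conjSub (g : (Module.End F K)ˣ) : Subalgebra F K where
  carrier := {b | ∃ c : K, Algebra.lmul F K b =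
    (g : Module.End F K) * Algebra.lmul F K c * ((g⁻¹ : (Module.End F K)ˣ) : Module.End F K)}
  mul_mem' := by
    rintro b b' ⟨c, hc⟩ ⟨c', hc'⟩
    refine ⟨c * c', ?_⟩
    rw [map_mul, map_mul, hc, hc']
    simp only [mul_assoc, Units.inv_mul_cancel_left]
  add_mem' := by
    rintro b b' ⟨c, hc⟩ ⟨c', hc'⟩
    refine ⟨c + c', ?_⟩
    rw [map_add, map_add, hc, hc', mul_add, add_mul]
  algebraMap_mem' := by
    intro f
    refine ⟨algebraMap F K f, ?_⟩
    rw [AlgHom.commutes, ← Algebra.commutes, mul_assoc, Units.mul_inv, mul_one]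

lemma mem_conjSub (g : (Module.End F K)ˣ) (b : K) : b ∈ conjSub g ↔ ∃ c : K, Algebra.lmul F K b =
    (g : Module.End F K) * Algebra.lmul F K c * ((g⁻¹ : (Module.End F K)ˣ) : Module.End F K) :=
  Iff.rfl

theorem singer_inter {F K : Type*} [Field F] [Fintype F] [Field K] [Fintype K] [Algebra F K]
    (n : ℕ) (hn : 2 ≤ n) (hdim : Module.finrank F K = n)
    (g : (Module.End F K)ˣ) (hg : (singer F K).map (MulAut.conj g).toMonoidHom ≠ singer F K) :
    ∃ r : ℕ, 1 ≤ r ∧ r ∣ n ∧ r < n ∧
      Nat.card ↥((singer F K).map (MulAut.conj g).toMonoidHom ⊓ singer F K) ∣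
        Fintype.card F ^ r - 1 := by
  classical
  have hfinE : Finite (Module.End F K) :=
    Finite.of_injective (fun f => (f : K → K)) DFunLike.coe_injective
  set φ : Kˣ →* (Module.End F K)ˣ :=
    Units.map ((Algebra.lmul F K : K →ₐ[F] Module.End F K) : K →* Module.End F K) with hφ
  have hφinj : Function.Injective φ := Units.map_injective (Algebra.lmul_injective)
  let L : IntermediateField F K := subalgebraEquivIntermediateField (conjSub g)
  have hL : ∀ b, b ∈ L ↔ b ∈ conjSub g := fun b => Iff.rfl
  set r := Module.finrank F L with hr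
  have hr1 : 1 ≤ r := Module.finrank_pos
  have hmul : r * Module.finrank L K = n := by rw [← hdim]; exact Module.finrank_mul_finrank F L K
  have hrn : r ∣ n := Dvd.intro _ hmul
  have hrlt : r < n := by
    by_contra hnot
    have hle : r ≤ n := Nat.le_of_dvd (by omega) hrn
    have hreq : r = n := by omega
    have htop : ∀ b : K, b ∈ conjSub g := by
      have h1 : Subalgebra.toSubmodule (conjSub g) = ⊤ := by
        apply Submodule.eq_top_of_finrank_eq
        rw [hdim, ← hreq]
        rfl
      intro b
      have : b ∈ Subalgebra.toSubmodule (conjSub g) := by rw [h1]; trivial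
      exact this
    apply hg
    symm
    apply Subgroup.eq_of_le_of_card_ge
    · intro m hm
      obtain ⟨b, rfl⟩ := hm
      obtain ⟨c, hc⟩ := htop (b : K)
      have hc0 : c ≠ 0 := by
        rintro rfl
        have := LinearMap.congr_fun hc 1
        simp at this
      refine ⟨φ (Units.mk0 c hc0), ⟨_, rfl⟩, ?_⟩
      ext : 1
      simp [hφ, hc]
    · rw [Subgroup.card_map_of_injective (MulAut.conj g).injective]
  refine ⟨r, hr1, hrn, hrlt, ?_⟩
  set H := (singer F K).map (MulAut.conj g).toMonoidHom ⊓ singer F K with hH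
  have hHle : H ≤ φ.range := inf_le_right
  set H' := H.comap φ with hH'
  have hcard : Nat.card H = Nat.card H' := by
    have : H'.map φ = H := Subgroup.map_comap_eq_self hHle
    rw [← this, Subgroup.card_map_of_injective hφinj]
  have hH'L : ∀ x ∈ H', ((x : Kˣ) : K) ∈ L := by
    intro x hx
    have h1 : φ x ∈ (singer F K).map (MulAut.conj g).toMonoidHom := hx.1
    obtain ⟨m, ⟨c, rfl⟩, hm⟩ := h1
    refine ⟨(c : K), ?_⟩
    have := congrArg Units.val hm
    simpa [hφ] using this.symm
  have : Fintype L := Fintype.ofFinite _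
  have hcardL : Fintype.card L = Fintype.card F ^ r := Module.card_eq_pow_finrank
  have hpow : ∀ x ∈ H', x ^ (Fintype.card F ^ r - 1) = 1 := by
    intro x hx
    have hxL := hH'L x hx
    have h1 := FiniteField.pow_card_sub_one_eq_one (⟨(x : K), hxL⟩ : L)
      (by intro h; exact x.ne_zero (congrArg Subtype.val h))
    rw [hcardL] at h1
    ext
    have := congrArg (Subtype.val) h1
    simpa using this
  rw [hcard, ← IsCyclic.exponent_eq_card]
  apply Monoid.exponent_dvd_of_forall_pow_eq_one
  rintro ⟨x, hx⟩
  ext
  have := hpow x hx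
  simpa using congrArg (fun u : Kˣ => (u : K)) this

end Cfsg.Agent.helper28.Singer
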