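import Cfsg.Agent.Lib_helper28_Singer
set_option autoImplicit false

namespace Cfsg.Agent.helper28.Singer

open LinearMap.GeneralLinearGroup

variable {F K : Type*} [Field F] [Field K] [Algebra F K]

/-- the unit of `End F K` given by a field automorphism -/
def autU (σ : K ≃ₐ[F] K) : (Module.End F K)ˣ := ofLinearEquiv σ.toLinearEquiv

/-- multiplication by a unit, as a unit of `End F K` -/
abbrev mulU (a : Kˣ) : (Module.End F K)ˣ :=
  Units.map ((Algebra.lmul F K : K →ₐ[F] Module.End F K) : K →* Module.End F K) a

lemma autU_apply (σ : K ≃ₐ[F] K) (x : K) : ((autU σ : (Module.End F K)ˣ) : Module.End F K) x = σ x := rfl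

lemma autU_inv_apply (σ : K ≃ₐ[F] K) (x : K) :
    (((autU σ)⁻¹ : (Module.End F K)ˣ) : Module.End F K) x = σ.symm x := rfl

lemma mulU_apply (a : Kˣ) (x : K) : ((mulU a : (Module.End F K)ˣ) : Module.End F K) x = a * x := rfl

lemma mulU_inv_apply (a : Kˣ) (x : K) :
    (((mulU a)⁻¹ : (Module.End F K)ˣ) : Module.End F K) x = (a⁻¹ : Kˣ) * x := by
  rw [← map_inv]
  rfl

lemma autU_conj (σ : K ≃ₐ[F] K) (b : Kˣ) :
    autU σ * mulU b * (autU σ)⁻¹ = (mulU (Units.map (σ : K →* K) b) : (Module.End F K)ˣ) := by
  ext x
  simp only [Units.val_mul, Module.End.mul_apply, autU_apply, autU_inv_apply, mulU_apply]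
  simp


lemma autU_mem_normalizer (σ : K ≃ₐ[F] K) :
    autU σ ∈ Subgroup.normalizer ((singer F K : Subgroup (Module.End F K)ˣ) : Set (Module.End F K)ˣ) := by
  have key : ∀ (τ : K ≃ₐ[F] K) (h : (Module.End F K)ˣ), h ∈ singer F K →
      autU τ * h * (autU τ)⁻¹ ∈ singer F K := by
    rintro τ h ⟨b, rfl⟩
    exact ⟨Units.map (τ : K →* K) b, (autU_conj τ b).symm⟩
  rw [Subgroup.mem_normalizer_iff]
  intro h
  constructor
  · exact key σ h
  · intro hh
    have := key σ.symm _ hh
    have e : autU σ.symm = (autU σ : (Module.End F K)ˣ)⁻¹ := by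
      ext x
      rw [autU_apply, autU_inv_apply]
    rw [e, inv_inv] at this
    simpa [mul_assoc] using this

theorem singer_normalizer {F K : Type*} [Field F] [Fintype F] [Field K] [Fintype K] [Algebra F K]
    (n : ℕ) (hdim : Module.finrank F K = n) :
    Nat.card (Subgroup.normalizer ((singer F K : Subgroup (Module.End F K)ˣ) : Set (Module.End F K)ˣ))
      = n * (Fintype.card K - 1) := by
  classical
  set N := Subgroup.normalizer ((singer F K : Subgroup (Module.End F K)ˣ) : Set (Module.End F K)ˣ)
    with hN
  have hMN : singer F K ≤ N := Subgroup.le_normalizer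
  let f : Kˣ × (K ≃ₐ[F] K) → N := fun p =>
    ⟨mulU p.1 * autU p.2, N.mul_mem (hMN ⟨p.1, rfl⟩) (autU_mem_normalizer p.2)⟩
  have hinj : Function.Injective f := by
    rintro ⟨a, σ⟩ ⟨a', σ'⟩ h
    have h1 : (mulU a * autU σ : (Module.End F K)ˣ) = mulU a' * autU σ' := congrArg Subtype.val h
    have h2 : ∀ x : K, (a : K) * σ x = (a' : K) * σ' x := by
      intro x
      have := LinearMap.congr_fun (congrArg Units.val h1) x
      simpa [autU_apply, mulU_apply] using this
    have ha : a = a' := by
      ext
      have := h2 1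
      simpa using this
    subst ha
    have hσ : σ = σ' := by
      ext x
      exact mul_left_cancel₀ a.ne_zero (h2 x)
    rw [hσ]
  have hsurj : Function.Surjective f := by
    rintro ⟨g, hg⟩
    set a : K := (g : Module.End F K) 1 with ha
    have ha0 : a ≠ 0 := by
      intro h0
      have h1 : (g : Module.End F K) 1 = (g : Module.End F K) 0 := by rw [← ha, h0, map_zero]
      have hinj' : Function.Injective (g : Module.End F K) := (toLinearEquiv g).injective
      exact one_ne_zero (hinj' h1)
    let a' : Kˣ := Units.mk0 a ha0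
    set h : (Module.End F K)ˣ := (mulU a')⁻¹ * g with hh
    have hhN : h ∈ N := N.mul_mem (N.inv_mem (hMN ⟨a', rfl⟩)) hg
    have hh1 : (h : Module.End F K) 1 = 1 := by
      rw [hh, Units.val_mul, Module.End.mul_apply, mulU_inv_apply, ← ha]
      simp [a', ha0]
    have hinv : ∀ y, ((h⁻¹ : (Module.End F K)ˣ) : Module.End F K) ((h : Module.End F K) y) = y := by
      intro y
      rw [← Module.End.mul_apply, Units.inv_mul, Module.End.one_apply]
    have hmul : ∀ b y : K, (h : Module.End F K) (b * y) =
        (h : Module.End F K) b * (h : Module.End F K) y := by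
      intro b y
      by_cases hb : b = 0
      · simp [hb]
      · have h1 : h * mulU (Units.mk0 b hb) * h⁻¹ ∈ singer F K :=
          (Subgroup.mem_normalizer_iff.1 hhN _).1 ⟨_, rfl⟩
        obtain ⟨c, hc⟩ := h1
        have e1 : ∀ x, (c : K) * x = (h : Module.End F K) (b *
            ((h⁻¹ : (Module.End F K)ˣ) : Module.End F K) x) := by
          intro x
          have := LinearMap.congr_fun (congrArg Units.val hc) x
          simpa [mulU_apply] using this
        have hcb : (c : K) = (h : Module.End F K) b := by
          have := e1 ((h : Module.End F K) 1)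
          rw [hinv, hh1, mul_one, mul_one] at this
          exact this
        have := e1 ((h : Module.End F K) y)
        rw [hinv, hcb] at this
        exact this.symm
    let σ : K ≃ₐ[F] K := AlgEquiv.ofLinearEquiv (toLinearEquiv h) hh1 hmul
    refine ⟨(a', σ), Subtype.ext ?_⟩
    ext x
    change (a : K) * (h : Module.End F K) x = (g : Module.End F K) x
    rw [hh, Units.val_mul, Module.End.mul_apply, mulU_inv_apply]
    simp [a', ha0]
  rw [← Nat.card_congr (Equiv.ofBijective f ⟨hinj, hsurj⟩), Nat.card_prod, Nat.card_units,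
    IsGalois.card_aut_eq_finrank, hdim, Nat.card_eq_fintype_card, mul_comm]

end Cfsg.Agent.helper28.Singer
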