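import Mathlib

set_option autoImplicit false

/-! Recognising a split extension from explicit homomorphisms. -/

namespace Cfsg.Agent.helper28.SplitExt

variable {G K V : Type*} [Group G] [Group K] [CommGroup V]

/-- every element is a product, by counting -/
theorem factor [Finite G] [Finite K] [Finite V] (fK : K →* G) (fN : V →* G)
    (disj : ∀ k v, fN v = fK k → v = 1 ∧ k = 1)
    (hcard : Nat.card G ≤ Nat.card V * Nat.card K) (g : G) : ∃ v k, g = fN v * fK k := by
  have hinj : Function.Injective (fun p : V × K => fN p.1 * fK p.2) := by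
    rintro ⟨v, A⟩ ⟨w, B⟩ h
    have h1 : fN (w⁻¹ * v) = fK (B * A⁻¹) := by
      rw [map_mul, map_mul, map_inv, map_inv]
      have h2 : fN v * fK A = fN w * fK B := h
      rw [eq_mul_inv_iff_mul_eq, mul_assoc, h2, ← mul_assoc, inv_mul_cancel, one_mul]
    obtain ⟨h3, h4⟩ := disj _ _ h1
    rw [inv_mul_eq_one] at h3
    rw [mul_inv_eq_one] at h4
    rw [h3, h4]
  have hc : Nat.card G ≤ Nat.card (V × K) := by rw [Nat.card_prod]; exact hcard
  obtain ⟨⟨v, A⟩, h⟩ := (hinj.bijective_of_nat_card_le hc).2 g
  exact ⟨v, A, h.symm⟩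

theorem fN_injective (fK : K →* G) (fN : V →* G)
    (disj : ∀ k v, fN v = fK k → v = 1 ∧ k = 1) : Function.Injective fN := by
  rw [injective_iff_map_eq_one]
  intro v hv
  have h : fN v = fK 1 := by rw [map_one, hv]
  exact (disj _ _ h).1

theorem fK_injective (fK : K →* G) (fN : V →* G)
    (disj : ∀ k v, fN v = fK k → v = 1 ∧ k = 1) : Function.Injective fK := by
  rw [injective_iff_map_eq_one]
  intro A hA
  have h : fN 1 = fK A := by rw [map_one, hA]
  exact (disj _ _ h).2

theorem card_range (fK : K →* G) (fN : V →* G)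
    (disj : ∀ k v, fN v = fK k → v = 1 ∧ k = 1) : Nat.card ↥fN.range = Nat.card V :=
  (Nat.card_congr (MonoidHom.ofInjective (fN_injective fK fN disj)).toEquiv).symm

theorem normal_range [Finite G] [Finite K] [Finite V] (fK : K →* G) (fN : V →* G)
    (act : K → V → V) (conj : ∀ k v, fK k * fN v = fN (act k v) * fK k)
    (disj : ∀ k v, fN v = fK k → v = 1 ∧ k = 1)
    (hcard : Nat.card G ≤ Nat.card V * Nat.card K) : fN.range.Normal := by
  constructor
  rintro n ⟨w, rfl⟩ g
  obtain ⟨v, A, rfl⟩ := factor fK fN disj hcard g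
  refine ⟨act A w, ?_⟩
  have h1 := conj A w
  have hc : fN v * fN (act A w) = fN (act A w) * fN v := by
    rw [← map_mul, ← map_mul, mul_comm]
  calc fN (act A w) = fN v * fN (act A w) * (fN v)⁻¹ := by rw [hc, mul_inv_cancel_right]
    _ = fN v * (fN (act A w) * fK A) * (fK A)⁻¹ * (fN v)⁻¹ := by
        rw [mul_assoc (fN v) (fN (act A w) * fK A), mul_inv_cancel_right]
    _ = fN v * fK A * fN w * (fN v * fK A)⁻¹ := by
        rw [← h1, mul_inv_rev]
        group

theorem quot_iso [Finite G] [Finite K] [Finite V] (fK : K →* G) (fN : V →* G)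
    (disj : ∀ k v, fN v = fK k → v = 1 ∧ k = 1)
    (hcard : Nat.card G ≤ Nat.card V * Nat.card K) [hn : fN.range.Normal] :
    Nonempty (G ⧸ fN.range ≃* K) := by
  have hinj : Function.Injective ((QuotientGroup.mk' fN.range).comp fK) := by
    rw [injective_iff_map_eq_one]
    intro A hA
    rw [MonoidHom.comp_apply, QuotientGroup.mk'_apply, QuotientGroup.eq_one_iff] at hA
    obtain ⟨v, hv⟩ := hA
    exact (disj _ _ hv).2
  have hcard2 : Nat.card (G ⧸ fN.range) ≤ Nat.card K := by
    have h := Subgroup.card_eq_card_quotient_mul_card_subgroup fN.range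
    rw [card_range fK fN disj] at h
    have hV : 0 < Nat.card V := Nat.card_pos
    rw [h] at hcard
    rw [mul_comm (Nat.card V)] at hcard
    exact Nat.le_of_mul_le_mul_right hcard hV
  have : Finite (G ⧸ fN.range) := inferInstance
  have hb : Function.Bijective ((QuotientGroup.mk' fN.range).comp fK) :=
    hinj.bijective_of_nat_card_le hcard2
  exact ⟨(MulEquiv.ofBijective _ hb).symm⟩

end Cfsg.Agent.helper28.SplitExt
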