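import Mathlib

set_option autoImplicit false
set_option synthInstance.maxSize 4096
set_option synthInstance.maxHeartbeats 2000000
set_option maxHeartbeats 2000000

/-! The group of upper unitriangular 5×5 matrices over the field of two elements, and its quotient by the centre. -/

namespace Cfsg.Agent.helper28.UT5

/-- unitriangular matrices by their entries above the diagonal -/
@[ext] structure U10 where
  a12 : Bool
  a23 : Bool
  a34 : Bool
  a45 : Bool
  a13 : Bool
  a24 : Bool
  a35 : Bool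
  a14 : Bool
  a25 : Bool
  a15 : Bool
deriving DecidableEq, Fintype

namespace U10

instance : Mul U10 := ⟨fun a b =>
  { a12 := xor a.a12 b.a12
    a23 := xor a.a23 b.a23
    a34 := xor a.a34 b.a34
    a45 := xor a.a45 b.a45
    a13 := xor (xor a.a13 b.a13) (a.a12 && b.a23)
    a24 := xor (xor a.a24 b.a24) (a.a23 && b.a34)
    a35 := xor (xor a.a35 b.a35) (a.a34 && b.a45)
    a14 := xor (xor (xor a.a14 b.a14) (a.a12 && b.a24)) (a.a13 && b.a34)
    a25 := xor (xor (xor a.a25 b.a25) (a.a23 && b.a35)) (a.a24 && b.a45)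
    a15 := xor (xor (xor (xor a.a15 b.a15) (a.a12 && b.a25)) (a.a13 && b.a35)) (a.a14 && b.a45) }⟩

instance : One U10 := ⟨⟨false, false, false, false, false, false, false, false, false, false⟩⟩

instance : Inv U10 := ⟨fun a => a * a * a * a * a * a * a⟩

theorem assoc12 : ∀ x12 y12 z12 : Bool, xor (xor x12 y12) z12 = xor x12 (xor y12 z12) := by decide +kernel

theorem assoc23 : ∀ x23 y23 z23 : Bool, xor (xor x23 y23) z23 = xor x23 (xor y23 z23) := by decide +kernel

theorem assoc34 : ∀ x34 y34 z34 : Bool, xor (xor x34 y34) z34 = xor x34 (xor y34 z34) := by decide +kernel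

theorem assoc45 : ∀ x45 y45 z45 : Bool, xor (xor x45 y45) z45 = xor x45 (xor y45 z45) := by decide +kernel

theorem assoc13 : ∀ x12 x13 y12 y13 y23 z13 z23 : Bool, xor (xor (xor (xor x13 y13) (x12 && y23)) z13) ((xor x12 y12) && z23) = xor (xor x13 (xor (xor y13 z13) (y12 && z23))) (x12 && (xor y23 z23)) := by decide +kernel

theorem assoc24 : ∀ x23 x24 y23 y24 y34 z24 z34 : Bool, xor (xor (xor (xor x24 y24) (x23 && y34)) z24) ((xor x23 y23) && z34) = xor (xor x24 (xor (xor y24 z24) (y23 && z34))) (x23 && (xor y34 z34)) := by decide +kernel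

theorem assoc35 : ∀ x34 x35 y34 y35 y45 z35 z45 : Bool, xor (xor (xor (xor x35 y35) (x34 && y45)) z35) ((xor x34 y34) && z45) = xor (xor x35 (xor (xor y35 z35) (y34 && z45))) (x34 && (xor y45 z45)) := by decide +kernel

theorem assoc14 : ∀ x12 x13 x14 y12 y13 y14 y23 y24 y34 z14 z24 z34 : Bool, xor (xor (xor (xor (xor (xor x14 y14) (x12 && y24)) (x13 && y34)) z14) ((xor x12 y12) && z24)) ((xor (xor x13 y13) (x12 && y23)) && z34) = xor (xor (xor x14 (xor (xor (xor y14 z14) (y12 && z24)) (y13 && z34))) (x12 && (xor (xor y24 z24) (y23 && z34)))) (x13 && (xor y34 z34)) := by decide +kernel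

theorem assoc25 : ∀ x23 x24 x25 y23 y24 y25 y34 y35 y45 z25 z35 z45 : Bool, xor (xor (xor (xor (xor (xor x25 y25) (x23 && y35)) (x24 && y45)) z25) ((xor x23 y23) && z35)) ((xor (xor x24 y24) (x23 && y34)) && z45) = xor (xor (xor x25 (xor (xor (xor y25 z25) (y23 && z35)) (y24 && z45))) (x23 && (xor (xor y35 z35) (y34 && z45)))) (x24 && (xor y45 z45)) := by decide +kernel

theorem assoc15 : ∀ x12 x13 x14 x15 y12 y13 y14 y15 y23 y24 y25 y34 y35 y45 z15 z25 z35 z45 : Bool, xor (xor (xor (xor (xor (xor (xor (xor x15 y15) (x12 && y25)) (x13 && y35)) (x14 && y45)) z15) ((xor x12 y12) && z25)) ((xor (xor x13 y13) (x12 && y23)) && z35)) ((xor (xor (xor x14 y14) (x12 && y24)) (x13 && y34)) && z45) = xor (xor (xor (xor x15 (xor (xor (xor (xor y15 z15) (y12 && z25)) (y13 && z35)) (y14 && z45))) (x12 && (xor (xor (xor y25 z25) (y23 && z35)) (y24 && z45)))) (x13 && (xor (xor y35 z35) (y34 && z45)))) (x14 && (xor y45 z45)) := by decide +kernel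

theorem mul_assoc' (a b c : U10) : a * b * c = a * (b * c) := by
  apply U10.ext
  · exact assoc12 a.a12 b.a12 c.a12
  · exact assoc23 a.a23 b.a23 c.a23
  · exact assoc34 a.a34 b.a34 c.a34
  · exact assoc45 a.a45 b.a45 c.a45
  · exact assoc13 a.a12 a.a13 b.a12 b.a13 b.a23 c.a13 c.a23
  · exact assoc24 a.a23 a.a24 b.a23 b.a24 b.a34 c.a24 c.a34
  · exact assoc35 a.a34 a.a35 b.a34 b.a35 b.a45 c.a35 c.a45
  · exact assoc14 a.a12 a.a13 a.a14 b.a12 b.a13 b.a14 b.a23 b.a24 b.a34 c.a14 c.a24 c.a34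
  · exact assoc25 a.a23 a.a24 a.a25 b.a23 b.a24 b.a25 b.a34 b.a35 b.a45 c.a25 c.a35 c.a45
  · exact assoc15 a.a12 a.a13 a.a14 a.a15 b.a12 b.a13 b.a14 b.a15 b.a23 b.a24 b.a25 b.a34 b.a35 b.a45 c.a15 c.a25 c.a35 c.a45

theorem one_mul' : ∀ a : U10, 1 * a = a := by decide +kernel

theorem inv_mul_cancel' : ∀ a : U10, a⁻¹ * a = 1 := by decide +kernel

instance : Group U10 := Group.ofLeftAxioms mul_assoc' one_mul' inv_mul_cancel'

end U10

/-- unitriangular matrices by their entries above the diagonal -/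
@[ext] structure U9 where
  a12 : Bool
  a23 : Bool
  a34 : Bool
  a45 : Bool
  a13 : Bool
  a24 : Bool
  a35 : Bool
  a14 : Bool
  a25 : Bool
deriving DecidableEq, Fintype

namespace U9

instance : Mul U9 := ⟨fun a b =>
  { a12 := xor a.a12 b.a12
    a23 := xor a.a23 b.a23
    a34 := xor a.a34 b.a34
    a45 := xor a.a45 b.a45
    a13 := xor (xor a.a13 b.a13) (a.a12 && b.a23)
    a24 := xor (xor a.a24 b.a24) (a.a23 && b.a34)
    a35 := xor (xor a.a35 b.a35) (a.a34 && b.a45)
    a14 := xor (xor (xor a.a14 b.a14) (a.a12 && b.a24)) (a.a13 && b.a34)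
    a25 := xor (xor (xor a.a25 b.a25) (a.a23 && b.a35)) (a.a24 && b.a45) }⟩

instance : One U9 := ⟨⟨false, false, false, false, false, false, false, false, false⟩⟩

instance : Inv U9 := ⟨fun a => a * a * a * a * a * a * a⟩

theorem assoc12 : ∀ x12 y12 z12 : Bool, xor (xor x12 y12) z12 = xor x12 (xor y12 z12) := by decide +kernel

theorem assoc23 : ∀ x23 y23 z23 : Bool, xor (xor x23 y23) z23 = xor x23 (xor y23 z23) := by decide +kernel

theorem assoc34 : ∀ x34 y34 z34 : Bool, xor (xor x34 y34) z34 = xor x34 (xor y34 z34) := by decide +kernel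

theorem assoc45 : ∀ x45 y45 z45 : Bool, xor (xor x45 y45) z45 = xor x45 (xor y45 z45) := by decide +kernel

theorem assoc13 : ∀ x12 x13 y12 y13 y23 z13 z23 : Bool, xor (xor (xor (xor x13 y13) (x12 && y23)) z13) ((xor x12 y12) && z23) = xor (xor x13 (xor (xor y13 z13) (y12 && z23))) (x12 && (xor y23 z23)) := by decide +kernel

theorem assoc24 : ∀ x23 x24 y23 y24 y34 z24 z34 : Bool, xor (xor (xor (xor x24 y24) (x23 && y34)) z24) ((xor x23 y23) && z34) = xor (xor x24 (xor (xor y24 z24) (y23 && z34))) (x23 && (xor y34 z34)) := by decide +kernel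

theorem assoc35 : ∀ x34 x35 y34 y35 y45 z35 z45 : Bool, xor (xor (xor (xor x35 y35) (x34 && y45)) z35) ((xor x34 y34) && z45) = xor (xor x35 (xor (xor y35 z35) (y34 && z45))) (x34 && (xor y45 z45)) := by decide +kernel

theorem assoc14 : ∀ x12 x13 x14 y12 y13 y14 y23 y24 y34 z14 z24 z34 : Bool, xor (xor (xor (xor (xor (xor x14 y14) (x12 && y24)) (x13 && y34)) z14) ((xor x12 y12) && z24)) ((xor (xor x13 y13) (x12 && y23)) && z34) = xor (xor (xor x14 (xor (xor (xor y14 z14) (y12 && z24)) (y13 && z34))) (x12 && (xor (xor y24 z24) (y23 && z34)))) (x13 && (xor y34 z34)) := by decide +kernel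

theorem assoc25 : ∀ x23 x24 x25 y23 y24 y25 y34 y35 y45 z25 z35 z45 : Bool, xor (xor (xor (xor (xor (xor x25 y25) (x23 && y35)) (x24 && y45)) z25) ((xor x23 y23) && z35)) ((xor (xor x24 y24) (x23 && y34)) && z45) = xor (xor (xor x25 (xor (xor (xor y25 z25) (y23 && z35)) (y24 && z45))) (x23 && (xor (xor y35 z35) (y34 && z45)))) (x24 && (xor y45 z45)) := by decide +kernel

theorem mul_assoc' (a b c : U9) : a * b * c = a * (b * c) := by
  apply U9.ext
  · exact assoc12 a.a12 b.a12 c.a12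
  · exact assoc23 a.a23 b.a23 c.a23
  · exact assoc34 a.a34 b.a34 c.a34
  · exact assoc45 a.a45 b.a45 c.a45
  · exact assoc13 a.a12 a.a13 b.a12 b.a13 b.a23 c.a13 c.a23
  · exact assoc24 a.a23 a.a24 b.a23 b.a24 b.a34 c.a24 c.a34
  · exact assoc35 a.a34 a.a35 b.a34 b.a35 b.a45 c.a35 c.a45
  · exact assoc14 a.a12 a.a13 a.a14 b.a12 b.a13 b.a14 b.a23 b.a24 b.a34 c.a14 c.a24 c.a34
  · exact assoc25 a.a23 a.a24 a.a25 b.a23 b.a24 b.a25 b.a34 b.a35 b.a45 c.a25 c.a35 c.a45

theorem one_mul' : ∀ a : U9, 1 * a = a := by decide +kernel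

theorem inv_mul_cancel' : ∀ a : U9, a⁻¹ * a = 1 := by decide +kernel

instance : Group U9 := Group.ofLeftAxioms mul_assoc' one_mul' inv_mul_cancel'

end U9
/-! ### the quotient map -/

/-- forget the corner entry -/
def proj (a : U10) : U9 := ⟨a.a12, a.a23, a.a34, a.a45, a.a13, a.a24, a.a35, a.a14, a.a25⟩

/-- the quotient map -/
def π : U10 →* U9 := MonoidHom.mk' proj (fun _ _ => rfl)

theorem π_surjective : Function.Surjective π := by
  intro u
  exact ⟨⟨u.a12, u.a23, u.a34, u.a45, u.a13, u.a24, u.a35, u.a14, u.a25, false⟩, rfl⟩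

theorem ker_iff : ∀ a : U10, proj a = 1 ↔ ∀ g : U10, g * a = a * g := by decide +kernel

theorem ker_eq_center : π.ker = Subgroup.center U10 := by
  ext a
  rw [MonoidHom.mem_ker, Subgroup.mem_center_iff]
  exact ker_iff a

theorem card_U10 : Nat.card U10 = 1024 := by
  rw [Nat.card_eq_fintype_card]
  decide +kernel

theorem card_U9 : Nat.card U9 = 512 := by
  rw [Nat.card_eq_fintype_card]
  decide +kernel

/-- the quotient of the unitriangular group by its centre -/
noncomputable def quotEquiv : U10 ⧸ Subgroup.center U10 ≃* U9 :=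
  (QuotientGroup.quotientMulEquivOfEq ker_eq_center.symm).trans
    (QuotientGroup.quotientKerEquivOfSurjective π π_surjective)

end Cfsg.Agent.helper28.UT5
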