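import Mathlib
import Cfsg.Agent.Lib_helper28_Syl2Data
import Cfsg.Agent.Lib_helper28_UT5
import Cfsg.Agent.Lib_helper2_M24k

set_option autoImplicit false
set_option synthInstance.maxHeartbeats 2000000
set_option synthInstance.maxSize 4096
set_option maxHeartbeats 2000000

/-! Kernel-checked certificates for the image of `UT(5,2)` in M24. -/

namespace Cfsg.Agent.helper28.Syl2

open Cfsg Cfsg.Agent.helper2.Golay Cfsg.Agent.helper28.UT5

/-- code of a unitriangular matrix -/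
def idx10 (a : U10) : ℕ :=
  a.a12.toNat + 2 * a.a23.toNat + 4 * a.a34.toNat + 8 * a.a45.toNat + 16 * a.a13.toNat +
    32 * a.a24.toNat + 64 * a.a35.toNat + 128 * a.a14.toNat + 256 * a.a25.toNat + 512 * a.a15.toNat

/-- table pair of a unitriangular matrix -/
def T10 (a : U10) : List ℕ × List ℕ := sylTab.getD (idx10 a) (idTab, idTab)

/-- the four generators -/
def gen10 : ℕ → U10
  | 0 => ⟨true, false, false, false, false, false, false, false, false, false⟩
  | 1 => ⟨false, true, false, false, false, false, false, false, false, false⟩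
  | 2 => ⟨false, false, true, false, false, false, false, false, false, false⟩
  | _ => ⟨false, false, false, true, false, false, false, false, false, false⟩

/-- the product of a word in the generators -/
def evalW (w : List ℕ) : U10 := w.foldl (fun acc s => acc * gen10 s) 1

theorem genOK : ∀ s : ℕ, s < 4 → tablesOK (T10 (gen10 s)).1 (T10 (gen10 s)).2 = true ∧ codeOK (T10 (gen10 s)).2 = true := by
  decide +kernel

theorem tabOK_fff : ∀ a45 a13 a24 a35 a14 a25 a15 : Bool, tablesOK (T10 (⟨false, false, false, a45, a13, a24, a35, a14, a25, a15⟩ : U10)).1 (T10 (⟨false, false, false, a45, a13, a24, a35, a14, a25, a15⟩ : U10)).2 = true := by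
  decide +kernel

theorem tabOK_fft : ∀ a45 a13 a24 a35 a14 a25 a15 : Bool, tablesOK (T10 (⟨false, false, true, a45, a13, a24, a35, a14, a25, a15⟩ : U10)).1 (T10 (⟨false, false, true, a45, a13, a24, a35, a14, a25, a15⟩ : U10)).2 = true := by
  decide +kernel

theorem tabOK_ftf : ∀ a45 a13 a24 a35 a14 a25 a15 : Bool, tablesOK (T10 (⟨false, true, false, a45, a13, a24, a35, a14, a25, a15⟩ : U10)).1 (T10 (⟨false, true, false, a45, a13, a24, a35, a14, a25, a15⟩ : U10)).2 = true := by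
  decide +kernel

theorem tabOK_ftt : ∀ a45 a13 a24 a35 a14 a25 a15 : Bool, tablesOK (T10 (⟨false, true, true, a45, a13, a24, a35, a14, a25, a15⟩ : U10)).1 (T10 (⟨false, true, true, a45, a13, a24, a35, a14, a25, a15⟩ : U10)).2 = true := by
  decide +kernel

theorem tabOK_tff : ∀ a45 a13 a24 a35 a14 a25 a15 : Bool, tablesOK (T10 (⟨true, false, false, a45, a13, a24, a35, a14, a25, a15⟩ : U10)).1 (T10 (⟨true, false, false, a45, a13, a24, a35, a14, a25, a15⟩ : U10)).2 = true := by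
  decide +kernel

theorem tabOK_tft : ∀ a45 a13 a24 a35 a14 a25 a15 : Bool, tablesOK (T10 (⟨true, false, true, a45, a13, a24, a35, a14, a25, a15⟩ : U10)).1 (T10 (⟨true, false, true, a45, a13, a24, a35, a14, a25, a15⟩ : U10)).2 = true := by
  decide +kernel

theorem tabOK_ttf : ∀ a45 a13 a24 a35 a14 a25 a15 : Bool, tablesOK (T10 (⟨true, true, false, a45, a13, a24, a35, a14, a25, a15⟩ : U10)).1 (T10 (⟨true, true, false, a45, a13, a24, a35, a14, a25, a15⟩ : U10)).2 = true := by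
  decide +kernel

theorem tabOK_ttt : ∀ a45 a13 a24 a35 a14 a25 a15 : Bool, tablesOK (T10 (⟨true, true, true, a45, a13, a24, a35, a14, a25, a15⟩ : U10)).1 (T10 (⟨true, true, true, a45, a13, a24, a35, a14, a25, a15⟩ : U10)).2 = true := by
  decide +kernel

theorem tabOK : ∀ a : U10, tablesOK (T10 a).1 (T10 a).2 = true := by
  rintro ⟨x, y, z, a45, a13, a24, a35, a14, a25, a15⟩
  cases x <;> cases y <;> cases z
  · exact tabOK_fff a45 a13 a24 a35 a14 a25 a15
  · exact tabOK_fft a45 a13 a24 a35 a14 a25 a15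
  · exact tabOK_ftf a45 a13 a24 a35 a14 a25 a15
  · exact tabOK_ftt a45 a13 a24 a35 a14 a25 a15
  · exact tabOK_tff a45 a13 a24 a35 a14 a25 a15
  · exact tabOK_tft a45 a13 a24 a35 a14 a25 a15
  · exact tabOK_ttf a45 a13 a24 a35 a14 a25 a15
  · exact tabOK_ttt a45 a13 a24 a35 a14 a25 a15

theorem mulgen_fff : ∀ a45 a13 a24 a35 a14 a25 a15 : Bool, ∀ s : ℕ, s < 4 → (T10 ((⟨false, false, false, a45, a13, a24, a35, a14, a25, a15⟩ : U10) * gen10 s)).1 = comp (T10 (⟨false, false, false, a45, a13, a24, a35, a14, a25, a15⟩ : U10)).1 (T10 (gen10 s)).1 := by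
  decide +kernel

theorem mulgen_fft : ∀ a45 a13 a24 a35 a14 a25 a15 : Bool, ∀ s : ℕ, s < 4 → (T10 ((⟨false, false, true, a45, a13, a24, a35, a14, a25, a15⟩ : U10) * gen10 s)).1 = comp (T10 (⟨false, false, true, a45, a13, a24, a35, a14, a25, a15⟩ : U10)).1 (T10 (gen10 s)).1 := by
  decide +kernel

theorem mulgen_ftf : ∀ a45 a13 a24 a35 a14 a25 a15 : Bool, ∀ s : ℕ, s < 4 → (T10 ((⟨false, true, false, a45, a13, a24, a35, a14, a25, a15⟩ : U10) * gen10 s)).1 = comp (T10 (⟨false, true, false, a45, a13, a24, a35, a14, a25, a15⟩ : U10)).1 (T10 (gen10 s)).1 := by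
  decide +kernel

theorem mulgen_ftt : ∀ a45 a13 a24 a35 a14 a25 a15 : Bool, ∀ s : ℕ, s < 4 → (T10 ((⟨false, true, true, a45, a13, a24, a35, a14, a25, a15⟩ : U10) * gen10 s)).1 = comp (T10 (⟨false, true, true, a45, a13, a24, a35, a14, a25, a15⟩ : U10)).1 (T10 (gen10 s)).1 := by
  decide +kernel

theorem mulgen_tff : ∀ a45 a13 a24 a35 a14 a25 a15 : Bool, ∀ s : ℕ, s < 4 → (T10 ((⟨true, false, false, a45, a13, a24, a35, a14, a25, a15⟩ : U10) * gen10 s)).1 = comp (T10 (⟨true, false, false, a45, a13, a24, a35, a14, a25, a15⟩ : U10)).1 (T10 (gen10 s)).1 := by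
  decide +kernel

theorem mulgen_tft : ∀ a45 a13 a24 a35 a14 a25 a15 : Bool, ∀ s : ℕ, s < 4 → (T10 ((⟨true, false, true, a45, a13, a24, a35, a14, a25, a15⟩ : U10) * gen10 s)).1 = comp (T10 (⟨true, false, true, a45, a13, a24, a35, a14, a25, a15⟩ : U10)).1 (T10 (gen10 s)).1 := by
  decide +kernel

theorem mulgen_ttf : ∀ a45 a13 a24 a35 a14 a25 a15 : Bool, ∀ s : ℕ, s < 4 → (T10 ((⟨true, true, false, a45, a13, a24, a35, a14, a25, a15⟩ : U10) * gen10 s)).1 = comp (T10 (⟨true, true, false, a45, a13, a24, a35, a14, a25, a15⟩ : U10)).1 (T10 (gen10 s)).1 := by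
  decide +kernel

theorem mulgen_ttt : ∀ a45 a13 a24 a35 a14 a25 a15 : Bool, ∀ s : ℕ, s < 4 → (T10 ((⟨true, true, true, a45, a13, a24, a35, a14, a25, a15⟩ : U10) * gen10 s)).1 = comp (T10 (⟨true, true, true, a45, a13, a24, a35, a14, a25, a15⟩ : U10)).1 (T10 (gen10 s)).1 := by
  decide +kernel

theorem mulgen : ∀ a : U10, ∀ s : ℕ, s < 4 → (T10 (a * gen10 s)).1 = comp (T10 a).1 (T10 (gen10 s)).1 := by
  rintro ⟨x, y, z, a45, a13, a24, a35, a14, a25, a15⟩
  cases x <;> cases y <;> cases z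
  · exact mulgen_fff a45 a13 a24 a35 a14 a25 a15
  · exact mulgen_fft a45 a13 a24 a35 a14 a25 a15
  · exact mulgen_ftf a45 a13 a24 a35 a14 a25 a15
  · exact mulgen_ftt a45 a13 a24 a35 a14 a25 a15
  · exact mulgen_tff a45 a13 a24 a35 a14 a25 a15
  · exact mulgen_tft a45 a13 a24 a35 a14 a25 a15
  · exact mulgen_ttf a45 a13 a24 a35 a14 a25 a15
  · exact mulgen_ttt a45 a13 a24 a35 a14 a25 a15

theorem wordOK_fff : ∀ a45 a13 a24 a35 a14 a25 a15 : Bool, evalW (sylW.getD (idx10 (⟨false, false, false, a45, a13, a24, a35, a14, a25, a15⟩ : U10)) []) = (⟨false, false, false, a45, a13, a24, a35, a14, a25, a15⟩ : U10) := by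
  decide +kernel

theorem wordOK_fft : ∀ a45 a13 a24 a35 a14 a25 a15 : Bool, evalW (sylW.getD (idx10 (⟨false, false, true, a45, a13, a24, a35, a14, a25, a15⟩ : U10)) []) = (⟨false, false, true, a45, a13, a24, a35, a14, a25, a15⟩ : U10) := by
  decide +kernel

theorem wordOK_ftf : ∀ a45 a13 a24 a35 a14 a25 a15 : Bool, evalW (sylW.getD (idx10 (⟨false, true, false, a45, a13, a24, a35, a14, a25, a15⟩ : U10)) []) = (⟨false, true, false, a45, a13, a24, a35, a14, a25, a15⟩ : U10) := by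
  decide +kernel

theorem wordOK_ftt : ∀ a45 a13 a24 a35 a14 a25 a15 : Bool, evalW (sylW.getD (idx10 (⟨false, true, true, a45, a13, a24, a35, a14, a25, a15⟩ : U10)) []) = (⟨false, true, true, a45, a13, a24, a35, a14, a25, a15⟩ : U10) := by
  decide +kernel

theorem wordOK_tff : ∀ a45 a13 a24 a35 a14 a25 a15 : Bool, evalW (sylW.getD (idx10 (⟨true, false, false, a45, a13, a24, a35, a14, a25, a15⟩ : U10)) []) = (⟨true, false, false, a45, a13, a24, a35, a14, a25, a15⟩ : U10) := by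
  decide +kernel

theorem wordOK_tft : ∀ a45 a13 a24 a35 a14 a25 a15 : Bool, evalW (sylW.getD (idx10 (⟨true, false, true, a45, a13, a24, a35, a14, a25, a15⟩ : U10)) []) = (⟨true, false, true, a45, a13, a24, a35, a14, a25, a15⟩ : U10) := by
  decide +kernel

theorem wordOK_ttf : ∀ a45 a13 a24 a35 a14 a25 a15 : Bool, evalW (sylW.getD (idx10 (⟨true, true, false, a45, a13, a24, a35, a14, a25, a15⟩ : U10)) []) = (⟨true, true, false, a45, a13, a24, a35, a14, a25, a15⟩ : U10) := by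
  decide +kernel

theorem wordOK_ttt : ∀ a45 a13 a24 a35 a14 a25 a15 : Bool, evalW (sylW.getD (idx10 (⟨true, true, true, a45, a13, a24, a35, a14, a25, a15⟩ : U10)) []) = (⟨true, true, true, a45, a13, a24, a35, a14, a25, a15⟩ : U10) := by
  decide +kernel

theorem wordOK : ∀ a : U10, evalW (sylW.getD (idx10 a) []) = a := by
  rintro ⟨x, y, z, a45, a13, a24, a35, a14, a25, a15⟩
  cases x <;> cases y <;> cases z
  · exact wordOK_fff a45 a13 a24 a35 a14 a25 a15
  · exact wordOK_fft a45 a13 a24 a35 a14 a25 a15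
  · exact wordOK_ftf a45 a13 a24 a35 a14 a25 a15
  · exact wordOK_ftt a45 a13 a24 a35 a14 a25 a15
  · exact wordOK_tff a45 a13 a24 a35 a14 a25 a15
  · exact wordOK_tft a45 a13 a24 a35 a14 a25 a15
  · exact wordOK_ttf a45 a13 a24 a35 a14 a25 a15
  · exact wordOK_ttt a45 a13 a24 a35 a14 a25 a15

theorem kerOK_fff : ∀ a45 a13 a24 a35 a14 a25 a15 : Bool, (∀ k : ℕ, k < 24 → tb (T10 (⟨false, false, false, a45, a13, a24, a35, a14, a25, a15⟩ : U10)).1 k = k) → (⟨false, false, false, a45, a13, a24, a35, a14, a25, a15⟩ : U10) = 1 := by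
  decide +kernel

theorem kerOK_fft : ∀ a45 a13 a24 a35 a14 a25 a15 : Bool, (∀ k : ℕ, k < 24 → tb (T10 (⟨false, false, true, a45, a13, a24, a35, a14, a25, a15⟩ : U10)).1 k = k) → (⟨false, false, true, a45, a13, a24, a35, a14, a25, a15⟩ : U10) = 1 := by
  decide +kernel

theorem kerOK_ftf : ∀ a45 a13 a24 a35 a14 a25 a15 : Bool, (∀ k : ℕ, k < 24 → tb (T10 (⟨false, true, false, a45, a13, a24, a35, a14, a25, a15⟩ : U10)).1 k = k) → (⟨false, true, false, a45, a13, a24, a35, a14, a25, a15⟩ : U10) = 1 := by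
  decide +kernel

theorem kerOK_ftt : ∀ a45 a13 a24 a35 a14 a25 a15 : Bool, (∀ k : ℕ, k < 24 → tb (T10 (⟨false, true, true, a45, a13, a24, a35, a14, a25, a15⟩ : U10)).1 k = k) → (⟨false, true, true, a45, a13, a24, a35, a14, a25, a15⟩ : U10) = 1 := by
  decide +kernel

theorem kerOK_tff : ∀ a45 a13 a24 a35 a14 a25 a15 : Bool, (∀ k : ℕ, k < 24 → tb (T10 (⟨true, false, false, a45, a13, a24, a35, a14, a25, a15⟩ : U10)).1 k = k) → (⟨true, false, false, a45, a13, a24, a35, a14, a25, a15⟩ : U10) = 1 := by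
  decide +kernel

theorem kerOK_tft : ∀ a45 a13 a24 a35 a14 a25 a15 : Bool, (∀ k : ℕ, k < 24 → tb (T10 (⟨true, false, true, a45, a13, a24, a35, a14, a25, a15⟩ : U10)).1 k = k) → (⟨true, false, true, a45, a13, a24, a35, a14, a25, a15⟩ : U10) = 1 := by
  decide +kernel

theorem kerOK_ttf : ∀ a45 a13 a24 a35 a14 a25 a15 : Bool, (∀ k : ℕ, k < 24 → tb (T10 (⟨true, true, false, a45, a13, a24, a35, a14, a25, a15⟩ : U10)).1 k = k) → (⟨true, true, false, a45, a13, a24, a35, a14, a25, a15⟩ : U10) = 1 := by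
  decide +kernel

theorem kerOK_ttt : ∀ a45 a13 a24 a35 a14 a25 a15 : Bool, (∀ k : ℕ, k < 24 → tb (T10 (⟨true, true, true, a45, a13, a24, a35, a14, a25, a15⟩ : U10)).1 k = k) → (⟨true, true, true, a45, a13, a24, a35, a14, a25, a15⟩ : U10) = 1 := by
  decide +kernel

theorem kerOK : ∀ a : U10, (∀ k : ℕ, k < 24 → tb (T10 a).1 k = k) → a = 1 := by
  rintro ⟨x, y, z, a45, a13, a24, a35, a14, a25, a15⟩
  cases x <;> cases y <;> cases z
  · exact kerOK_fff a45 a13 a24 a35 a14 a25 a15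
  · exact kerOK_fft a45 a13 a24 a35 a14 a25 a15
  · exact kerOK_ftf a45 a13 a24 a35 a14 a25 a15
  · exact kerOK_ftt a45 a13 a24 a35 a14 a25 a15
  · exact kerOK_tff a45 a13 a24 a35 a14 a25 a15
  · exact kerOK_tft a45 a13 a24 a35 a14 a25 a15
  · exact kerOK_ttf a45 a13 a24 a35 a14 a25 a15
  · exact kerOK_ttt a45 a13 a24 a35 a14 a25 a15

end Cfsg.Agent.helper28.Syl2
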