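import Mathlib

set_option autoImplicit false
set_option maxHeartbeats 2000000

/-! Kernel-checked certificates on codes for the quotient of `UT(5,2)` by its centre. -/

namespace Cfsg.Agent.helper28.UT5

/-- commuting test on codes -/
def commN (m n : ℕ) : Bool :=
  ((((m &&& 7) &&& ((n >>> 1) &&& 7)) ^^^ ((n &&& 7) &&& ((m >>> 1) &&& 7))) == 0) &&
  (((((m &&& 3) &&& ((n >>> 5) &&& 3)) ^^^ (((m >>> 4) &&& 3) &&& ((n >>> 2) &&& 3))) ^^^
    (((n &&& 3) &&& ((m >>> 5) &&& 3)) ^^^ (((n >>> 4) &&& 3) &&& ((m >>> 2) &&& 3)))) == 0)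

/-- code of a tuple of entries -/
def encB (x0 x1 x2 x3 x4 x5 x6 x7 x8 : Bool) : ℕ :=
  x0.toNat + 2 * x1.toNat + 4 * x2.toNat + 8 * x3.toNat + 16 * x4.toNat + 32 * x5.toNat +
    64 * x6.toNat + 128 * x7.toNat + 256 * x8.toNat

/-- commuting test on entries -/
def commB (x0 x1 x2 x3 x4 x5 x6 x7 x8 y0 y1 y2 y3 y4 y5 y6 y7 y8 : Bool) : Bool :=
  (xor (xor x4 y4) (x0 && y1) == xor (xor y4 x4) (y0 && x1)) &&
  (xor (xor x5 y5) (x1 && y2) == xor (xor y5 x5) (y1 && x2)) &&
  (xor (xor x6 y6) (x2 && y3) == xor (xor y6 x6) (y2 && x3)) &&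
  (xor (xor (xor x7 y7) (x0 && y5)) (x4 && y2) == xor (xor (xor y7 x7) (y0 && x5)) (y4 && x2)) &&
  (xor (xor (xor x8 y8) (x1 && y6)) (x5 && y3) == xor (xor (xor y8 x8) (y1 && x6)) (y5 && x3))

/-- the central candidates on codes -/
def inYN (m : ℕ) : Bool := ((m &&& 111) == 0) || ((m &&& 63) == 0)

/-- the abelian subgroup on codes -/
def inA0N (m : ℕ) : Bool := (m &&& 38) == 0

/-- centraliser on codes -/
def centN (b : ℕ) : List ℕ := (List.range 512).filter (fun n => commN b n)

/-- the elements with large common centraliser -/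
def DN (b : ℕ) : List ℕ :=
  (fun C : List ℕ => C.filter (fun x => decide (64 ≤ (C.filter (fun y => commN x y)).length))) (centN b)

theorem link_fff : ∀ x3 x4 x5 x6 x7 x8 y0 y1 y2 y3 y4 y5 y6 y7 y8 : Bool, commB false false false x3 x4 x5 x6 x7 x8 y0 y1 y2 y3 y4 y5 y6 y7 y8 = commN (encB false false false x3 x4 x5 x6 x7 x8) (encB y0 y1 y2 y3 y4 y5 y6 y7 y8) := by
  decide +kernel

theorem link_fft : ∀ x3 x4 x5 x6 x7 x8 y0 y1 y2 y3 y4 y5 y6 y7 y8 : Bool, commB false false true x3 x4 x5 x6 x7 x8 y0 y1 y2 y3 y4 y5 y6 y7 y8 = commN (encB false false true x3 x4 x5 x6 x7 x8) (encB y0 y1 y2 y3 y4 y5 y6 y7 y8) := by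
  decide +kernel

theorem link_ftf : ∀ x3 x4 x5 x6 x7 x8 y0 y1 y2 y3 y4 y5 y6 y7 y8 : Bool, commB false true false x3 x4 x5 x6 x7 x8 y0 y1 y2 y3 y4 y5 y6 y7 y8 = commN (encB false true false x3 x4 x5 x6 x7 x8) (encB y0 y1 y2 y3 y4 y5 y6 y7 y8) := by
  decide +kernel

theorem link_ftt : ∀ x3 x4 x5 x6 x7 x8 y0 y1 y2 y3 y4 y5 y6 y7 y8 : Bool, commB false true true x3 x4 x5 x6 x7 x8 y0 y1 y2 y3 y4 y5 y6 y7 y8 = commN (encB false true true x3 x4 x5 x6 x7 x8) (encB y0 y1 y2 y3 y4 y5 y6 y7 y8) := by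
  decide +kernel

theorem link_tff : ∀ x3 x4 x5 x6 x7 x8 y0 y1 y2 y3 y4 y5 y6 y7 y8 : Bool, commB true false false x3 x4 x5 x6 x7 x8 y0 y1 y2 y3 y4 y5 y6 y7 y8 = commN (encB true false false x3 x4 x5 x6 x7 x8) (encB y0 y1 y2 y3 y4 y5 y6 y7 y8) := by
  decide +kernel

theorem link_tft : ∀ x3 x4 x5 x6 x7 x8 y0 y1 y2 y3 y4 y5 y6 y7 y8 : Bool, commB true false true x3 x4 x5 x6 x7 x8 y0 y1 y2 y3 y4 y5 y6 y7 y8 = commN (encB true false true x3 x4 x5 x6 x7 x8) (encB y0 y1 y2 y3 y4 y5 y6 y7 y8) := by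
  decide +kernel

theorem link_ttf : ∀ x3 x4 x5 x6 x7 x8 y0 y1 y2 y3 y4 y5 y6 y7 y8 : Bool, commB true true false x3 x4 x5 x6 x7 x8 y0 y1 y2 y3 y4 y5 y6 y7 y8 = commN (encB true true false x3 x4 x5 x6 x7 x8) (encB y0 y1 y2 y3 y4 y5 y6 y7 y8) := by
  decide +kernel

theorem link_ttt : ∀ x3 x4 x5 x6 x7 x8 y0 y1 y2 y3 y4 y5 y6 y7 y8 : Bool, commB true true true x3 x4 x5 x6 x7 x8 y0 y1 y2 y3 y4 y5 y6 y7 y8 = commN (encB true true true x3 x4 x5 x6 x7 x8) (encB y0 y1 y2 y3 y4 y5 y6 y7 y8) := by
  decide +kernel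

theorem link : ∀ x0 x1 x2 x3 x4 x5 x6 x7 x8 y0 y1 y2 y3 y4 y5 y6 y7 y8 : Bool, commB x0 x1 x2 x3 x4 x5 x6 x7 x8 y0 y1 y2 y3 y4 y5 y6 y7 y8 = commN (encB x0 x1 x2 x3 x4 x5 x6 x7 x8) (encB y0 y1 y2 y3 y4 y5 y6 y7 y8) := by
  intro x0 x1 x2
  cases x0 <;> cases x1 <;> cases x2
  · exact link_fff
  · exact link_fft
  · exact link_ftf
  · exact link_ftt
  · exact link_tff
  · exact link_tft
  · exact link_ttf
  · exact link_ttt

theorem certN1 : (List.range 512).all (fun m => !(decide (256 ≤ (centN m).length)) || inYN m) = true := by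
  decide +kernel

theorem certN4_0 : ((List.range 32).map (fun i => i + 0)).all (fun b => inA0N b || decide ((DN b).length < 64)) = true := by
  decide +kernel

theorem certN4_1 : ((List.range 32).map (fun i => i + 32)).all (fun b => inA0N b || decide ((DN b).length < 64)) = true := by
  decide +kernel

theorem certN4_2 : ((List.range 32).map (fun i => i + 64)).all (fun b => inA0N b || decide ((DN b).length < 64)) = true := by
  decide +kernel

theorem certN4_3 : ((List.range 32).map (fun i => i + 96)).all (fun b => inA0N b || decide ((DN b).length < 64)) = true := by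
  decide +kernel

theorem certN4_4 : ((List.range 32).map (fun i => i + 128)).all (fun b => inA0N b || decide ((DN b).length < 64)) = true := by
  decide +kernel

theorem certN4_5 : ((List.range 32).map (fun i => i + 160)).all (fun b => inA0N b || decide ((DN b).length < 64)) = true := by
  decide +kernel

theorem certN4_6 : ((List.range 32).map (fun i => i + 192)).all (fun b => inA0N b || decide ((DN b).length < 64)) = true := by
  decide +kernel

theorem certN4_7 : ((List.range 32).map (fun i => i + 224)).all (fun b => inA0N b || decide ((DN b).length < 64)) = true := by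
  decide +kernel

theorem certN4_8 : ((List.range 32).map (fun i => i + 256)).all (fun b => inA0N b || decide ((DN b).length < 64)) = true := by
  decide +kernel

theorem certN4_9 : ((List.range 32).map (fun i => i + 288)).all (fun b => inA0N b || decide ((DN b).length < 64)) = true := by
  decide +kernel

theorem certN4_10 : ((List.range 32).map (fun i => i + 320)).all (fun b => inA0N b || decide ((DN b).length < 64)) = true := by
  decide +kernel

theorem certN4_11 : ((List.range 32).map (fun i => i + 352)).all (fun b => inA0N b || decide ((DN b).length < 64)) = true := by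
  decide +kernel

theorem certN4_12 : ((List.range 32).map (fun i => i + 384)).all (fun b => inA0N b || decide ((DN b).length < 64)) = true := by
  decide +kernel

theorem certN4_13 : ((List.range 32).map (fun i => i + 416)).all (fun b => inA0N b || decide ((DN b).length < 64)) = true := by
  decide +kernel

theorem certN4_14 : ((List.range 32).map (fun i => i + 448)).all (fun b => inA0N b || decide ((DN b).length < 64)) = true := by
  decide +kernel

theorem certN4_15 : ((List.range 32).map (fun i => i + 480)).all (fun b => inA0N b || decide ((DN b).length < 64)) = true := by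
  decide +kernel

end Cfsg.Agent.helper28.UT5
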