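import Mathlib
import Cfsg.Prelude.Def_Transfer
import Cfsg.Agent.Lib_helper28_UT5
import Cfsg.Agent.Lib_helper28_UT5Cert

set_option autoImplicit false
set_option synthInstance.maxSize 4096
set_option synthInstance.maxHeartbeats 2000000
set_option maxHeartbeats 2000000

/-! The quotient of the unitriangular group `UT(5,2)` by its centre: centres of maximal subgroups
and the unique abelian subgroup of order 64. -/

namespace Cfsg.Agent.helper28.UT5

theorem certN4 (b : ℕ) (hb : b < 512) (h : inA0N b = false) : (DN b).length < 64 := by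
  have key : ∀ k : ℕ, ∀ b : ℕ, ((List.range 32).map (fun i => i + k)).all (fun b => inA0N b || decide ((DN b).length < 64)) = true → inA0N b = false → k ≤ b → b < k + 32 → (DN b).length < 64 := by
    intro k b hk h h1 h2
    rw [List.all_eq_true] at hk
    have := hk b (List.mem_map.2 ⟨b - k, List.mem_range.2 (by omega), by omega⟩)
    rw [h, Bool.false_or, decide_eq_true_iff] at this
    exact this
  have hcases : (0 ≤ b ∧ b < 0 + 32) ∨ (32 ≤ b ∧ b < 32 + 32) ∨ (64 ≤ b ∧ b < 64 + 32) ∨ (96 ≤ b ∧ b < 96 + 32) ∨ (128 ≤ b ∧ b < 128 + 32) ∨ (160 ≤ b ∧ b < 160 + 32) ∨ (192 ≤ b ∧ b < 192 + 32) ∨ (224 ≤ b ∧ b < 224 + 32) ∨ (256 ≤ b ∧ b < 256 + 32) ∨ (288 ≤ b ∧ b < 288 + 32) ∨ (320 ≤ b ∧ b < 320 + 32) ∨ (352 ≤ b ∧ b < 352 + 32) ∨ (384 ≤ b ∧ b < 384 + 32) ∨ (416 ≤ b ∧ b < 416 + 32) ∨ (448 ≤ b ∧ b < 448 + 32) ∨ (480 ≤ b ∧ b < 480 + 32) := by omega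
  rcases hcases with ⟨h1, h2⟩ | ⟨h1, h2⟩ | ⟨h1, h2⟩ | ⟨h1, h2⟩ | ⟨h1, h2⟩ | ⟨h1, h2⟩ | ⟨h1, h2⟩ | ⟨h1, h2⟩ | ⟨h1, h2⟩ | ⟨h1, h2⟩ | ⟨h1, h2⟩ | ⟨h1, h2⟩ | ⟨h1, h2⟩ | ⟨h1, h2⟩ | ⟨h1, h2⟩ | ⟨h1, h2⟩
  · exact key 0 b certN4_0 h h1 h2
  · exact key 32 b certN4_1 h h1 h2
  · exact key 64 b certN4_2 h h1 h2
  · exact key 96 b certN4_3 h h1 h2
  · exact key 128 b certN4_4 h h1 h2
  · exact key 160 b certN4_5 h h1 h2
  · exact key 192 b certN4_6 h h1 h2
  · exact key 224 b certN4_7 h h1 h2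
  · exact key 256 b certN4_8 h h1 h2
  · exact key 288 b certN4_9 h h1 h2
  · exact key 320 b certN4_10 h h1 h2
  · exact key 352 b certN4_11 h h1 h2
  · exact key 384 b certN4_12 h h1 h2
  · exact key 416 b certN4_13 h h1 h2
  · exact key 448 b certN4_14 h h1 h2
  · exact key 480 b certN4_15 h h1 h2


/-! ### codes -/

/-- code of an element -/
def enc (a : U9) : ℕ := encB a.a12 a.a23 a.a34 a.a45 a.a13 a.a24 a.a35 a.a14 a.a25

/-- element of a code -/
def dec (m : ℕ) : U9 :=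
  ⟨m.testBit 0, m.testBit 1, m.testBit 2, m.testBit 3, m.testBit 4, m.testBit 5, m.testBit 6,
    m.testBit 7, m.testBit 8⟩

theorem dec_enc : ∀ a : U9, dec (enc a) = a := by decide +kernel

theorem enc_lt : ∀ a : U9, enc a < 512 := by decide +kernel

theorem enc_injective : Function.Injective enc := fun a b h => by
  rw [← dec_enc a, ← dec_enc b, h]

theorem comm_enc (a b : U9) (h : a * b = b * a) : commN (enc a) (enc b) = true := by
  rw [enc, enc, ← link]
  have h13 : xor (xor a.a13 b.a13) (a.a12 && b.a23) = xor (xor b.a13 a.a13) (b.a12 && a.a23) :=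
    congrArg U9.a13 h
  have h24 : xor (xor a.a24 b.a24) (a.a23 && b.a34) = xor (xor b.a24 a.a24) (b.a23 && a.a34) :=
    congrArg U9.a24 h
  have h35 : xor (xor a.a35 b.a35) (a.a34 && b.a45) = xor (xor b.a35 a.a35) (b.a34 && a.a45) :=
    congrArg U9.a35 h
  have h14 : xor (xor (xor a.a14 b.a14) (a.a12 && b.a24)) (a.a13 && b.a34) =
      xor (xor (xor b.a14 a.a14) (b.a12 && a.a24)) (b.a13 && a.a34) := congrArg U9.a14 h
  have h25 : xor (xor (xor a.a25 b.a25) (a.a23 && b.a35)) (a.a24 && b.a45) =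
      xor (xor (xor b.a25 a.a25) (b.a23 && a.a35)) (b.a24 && a.a45) := congrArg U9.a25 h
  unfold commB
  simp only [Bool.and_eq_true, beq_iff_eq]
  exact ⟨⟨⟨⟨h13, h24⟩, h35⟩, h14⟩, h25⟩

/-- first candidate for the centre of a maximal subgroup -/
def inY1 (a : U9) : Bool := !a.a12 && !a.a23 && !a.a34 && !a.a45 && !a.a24 && !a.a35

/-- second candidate for the centre of a maximal subgroup -/
def inY2 (a : U9) : Bool := !a.a12 && !a.a23 && !a.a34 && !a.a45 && !a.a24 && !a.a13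

/-- membership test for the abelian subgroup of order 64 -/
def inA0 (a : U9) : Bool := !a.a23 && !a.a34 && !a.a24

theorem inYN_enc : ∀ a : U9, inYN (enc a) = (inY1 a || inY2 a) := by decide +kernel

theorem inA0N_enc : ∀ a : U9, inA0N (enc a) = inA0 a := by decide +kernel

theorem card_le_length (H : Subgroup U9) (L : List ℕ) (h : ∀ y ∈ H, enc y ∈ L) :
    Nat.card H ≤ L.length := by
  classical
  have h1 : Nat.card H = (H : Set U9).ncard := Nat.card_coe_set_eq (H : Set U9)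
  have h2 : (enc '' (H : Set U9)).ncard = (H : Set U9).ncard :=
    Set.ncard_image_of_injective _ enc_injective
  have h3 : enc '' (H : Set U9) ⊆ ↑L.toFinset := by
    rintro _ ⟨y, hy, rfl⟩
    rw [Finset.mem_coe, List.mem_toFinset]
    exact h y hy
  have h4 : (enc '' (H : Set U9)).ncard ≤ (↑L.toFinset : Set ℕ).ncard :=
    Set.ncard_le_ncard h3 (Finset.finite_toSet _)
  rw [Set.ncard_coe_finset] at h4
  have h5 := List.toFinset_card_le L
  omega

/-! ### maximal subgroups -/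

theorem coatom_card (M : Subgroup U9) (hM : IsCoatom M) : Nat.card M = 256 := by
  haveI : Fact (Nat.Prime 2) := ⟨Nat.prime_two⟩
  have hU : IsPGroup 2 U9 := IsPGroup.of_card (n := 9) (by rw [card_U9]; norm_num)
  obtain ⟨n, hn⟩ := (hU.to_subgroup M).exists_card_eq
  have hle : n ≤ 9 := by
    have hd : Nat.card M ∣ Nat.card U9 := Subgroup.card_subgroup_dvd_card M
    rw [hn, card_U9, show (512 : ℕ) = 2 ^ 9 by norm_num] at hd
    exact (Nat.pow_dvd_pow_iff_le_right (by norm_num)).1 hd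
  have hne : n ≠ 9 := by
    rintro rfl
    apply hM.1
    exact (Subgroup.card_eq_iff_eq_top M).1 (by rw [hn, card_U9]; norm_num)
  have hlt : n + 1 ≤ 9 := by omega
  obtain ⟨K, hK, hMK⟩ := Sylow.exists_subgroup_card_pow_succ (p := 2) (n := n) (G := U9)
    (by rw [card_U9, show (512 : ℕ) = 2 ^ 9 by norm_num]; exact pow_dvd_pow 2 hlt) hn
  have hKM : M < K := by
    refine lt_of_le_of_ne hMK ?_
    rintro rfl
    rw [hn] at hK
    have := Nat.pow_right_injective (le_refl 2) hK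
    omega
  have hKtop : K = ⊤ := hM.2 K hKM
  rw [hKtop, Subgroup.card_top, card_U9] at hK
  have h8 : n = 8 := by
    have h9 : (2 : ℕ) ^ 9 = 2 ^ (n + 1) := by rw [← hK]; norm_num
    have := Nat.pow_right_injective (le_refl 2) h9
    omega
  rw [hn, h8]
  norm_num

theorem cert2 (s1 s2 : U9) (h1 : inY2 s1 = true) (h2 : inY1 s2 = true) (h3 : inY1 s1 = false)
    (h4 : inY2 s2 = false) : ¬ (inY1 (s1 * s2) = true ∨ inY2 (s1 * s2) = true) := by
  have key : ∀ p7 p8 q7 q8 : Bool,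
      ¬ (inY1 ((⟨false, false, false, false, false, false, true, p7, p8⟩ : U9) *
          ⟨false, false, false, false, true, false, false, q7, q8⟩) = true ∨
        inY2 ((⟨false, false, false, false, false, false, true, p7, p8⟩ : U9) *
          ⟨false, false, false, false, true, false, false, q7, q8⟩) = true) := by decide +kernel
  rcases s1 with ⟨p0, p1, p2, p3, p4, p5, p6, p7, p8⟩
  rcases s2 with ⟨q0, q1, q2, q3, q4, q5, q6, q7, q8⟩
  simp only [inY1, inY2, Bool.and_eq_true, Bool.not_eq_true', Bool.and_eq_false_imp] at h1 h2 h3 h4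
  obtain ⟨⟨⟨⟨⟨rfl, rfl⟩, rfl⟩, rfl⟩, rfl⟩, rfl⟩ := h1
  obtain ⟨⟨⟨⟨⟨rfl, rfl⟩, rfl⟩, rfl⟩, rfl⟩, rfl⟩ := h2
  have hp6 : p6 = true := by
    cases p6
    · simp at h3
    · rfl
  have hq4 : q4 = true := by
    cases q4
    · simp at h4
    · rfl
  subst hp6 hq4
  exact key p7 p8 q7 q8

theorem card_le_eight (S : Subgroup U9) (f : U9 → Bool × Bool × Bool)
    (hf : ∀ s ∈ S, ∀ t ∈ S, f s = f t → s = t) : Nat.card S ≤ 8 := by
  have hinj : Function.Injective (fun s : S => f s.1) :=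
    fun s t h => Subtype.ext (hf s.1 s.2 t.1 t.2 h)
  have h := Nat.card_le_card_of_injective _ hinj
  have h8 : Nat.card (Bool × Bool × Bool) = 8 := by
    rw [Nat.card_eq_fintype_card]
    rfl
  omega

theorem center_coatom_le (M : Subgroup U9) (hM : IsCoatom M) :
    Nat.card (Subgroup.center M) ≤ 8 := by
  have hc := coatom_card M hM
  have hS : Nat.card ((Subgroup.center M).map M.subtype) = Nat.card (Subgroup.center M) :=
    Subgroup.card_map_of_injective M.subtype_injective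
  rw [← hS]
  have hY : ∀ s ∈ (Subgroup.center M).map M.subtype, inY1 s = true ∨ inY2 s = true := by
    rintro s ⟨z, hz, rfl⟩
    have hcomm : ∀ y ∈ M, (z : U9) * y = y * (z : U9) := by
      intro y hy
      have := Subgroup.mem_center_iff.mp hz ⟨y, hy⟩
      exact (congrArg Subtype.val this).symm
    have hlen : 256 ≤ (centN (enc (z : U9))).length := by
      rw [← hc]
      apply card_le_length
      intro y hy
      unfold centN
      rw [List.mem_filter, List.mem_range]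
      exact ⟨enc_lt y, comm_enc _ _ (hcomm y hy)⟩
    have h1 := certN1
    rw [List.all_eq_true] at h1
    have h2 := h1 (enc (z : U9)) (List.mem_range.2 (enc_lt _))
    rw [Bool.or_eq_true, Bool.not_eq_true', decide_eq_false_iff_not] at h2
    rcases h2 with h2 | h2
    · exact absurd hlen h2
    · rw [inYN_enc, Bool.or_eq_true] at h2
      exact h2
  have hcase : (∀ s ∈ (Subgroup.center M).map M.subtype, inY1 s = true) ∨
      (∀ s ∈ (Subgroup.center M).map M.subtype, inY2 s = true) := by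
    by_contra hcon
    rw [not_or] at hcon
    obtain ⟨h1, h2⟩ := hcon
    push Not at h1 h2
    obtain ⟨s1, hs1, hn1⟩ := h1
    obtain ⟨s2, hs2, hn2⟩ := h2
    have h12 := hY (s1 * s2) (Subgroup.mul_mem _ hs1 hs2)
    have hs1' : inY2 s1 = true := (hY s1 hs1).resolve_left hn1
    have hs2' : inY1 s2 = true := (hY s2 hs2).resolve_right hn2
    exact cert2 s1 s2 hs1' hs2' (by simpa using hn1) (by simpa using hn2) h12
  rcases hcase with h | h
  · apply card_le_eight _ (fun s => (s.a13, s.a14, s.a25))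
    intro s hs t ht hst
    have h1 := h s hs
    have h2 := h t ht
    simp only [inY1, Bool.and_eq_true, Bool.not_eq_true'] at h1 h2
    simp only [Prod.mk.injEq] at hst
    obtain ⟨⟨⟨⟨⟨a1, a2⟩, a3⟩, a4⟩, a5⟩, a6⟩ := h1
    obtain ⟨⟨⟨⟨⟨b1, b2⟩, b3⟩, b4⟩, b5⟩, b6⟩ := h2
    apply U9.ext
    · rw [a1, b1]
    · rw [a2, b2]
    · rw [a3, b3]
    · rw [a4, b4]
    · exact hst.1
    · rw [a5, b5]
    · rw [a6, b6]
    · exact hst.2.1
    · exact hst.2.2
  · apply card_le_eight _ (fun s => (s.a35, s.a14, s.a25))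
    intro s hs t ht hst
    have h1 := h s hs
    have h2 := h t ht
    simp only [inY2, Bool.and_eq_true, Bool.not_eq_true'] at h1 h2
    simp only [Prod.mk.injEq] at hst
    obtain ⟨⟨⟨⟨⟨a1, a2⟩, a3⟩, a4⟩, a5⟩, a6⟩ := h1
    obtain ⟨⟨⟨⟨⟨b1, b2⟩, b3⟩, b4⟩, b5⟩, b6⟩ := h2
    apply U9.ext
    · rw [a1, b1]
    · rw [a2, b2]
    · rw [a3, b3]
    · rw [a4, b4]
    · rw [a6, b6]
    · rw [a5, b5]
    · exact hst.1
    · exact hst.2.1
    · exact hst.2.2

/-! ### the abelian subgroup of order 64 -/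

theorem A0_mul : ∀ a b : U9, inA0 a = true → inA0 b = true → inA0 (a * b) = true := by
  rintro ⟨p0, p1, p2, p3, p4, p5, p6, p7, p8⟩ ⟨q0, q1, q2, q3, q4, q5, q6, q7, q8⟩ ha hb
  simp only [inA0, Bool.and_eq_true, Bool.not_eq_true'] at ha hb
  obtain ⟨⟨rfl, rfl⟩, rfl⟩ := ha
  obtain ⟨⟨rfl, rfl⟩, rfl⟩ := hb
  rfl

theorem A0_inv : ∀ a : U9, inA0 a = true → inA0 a⁻¹ = true := by
  decide +kernel

theorem A0_comm_aux : ∀ p0 p3 p4 p6 p7 p8 q0 q3 q4 q6 q7 q8 : Bool,
    (⟨p0, false, false, p3, p4, false, p6, p7, p8⟩ : U9) *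
        ⟨q0, false, false, q3, q4, false, q6, q7, q8⟩ =
      (⟨q0, false, false, q3, q4, false, q6, q7, q8⟩ : U9) *
        ⟨p0, false, false, p3, p4, false, p6, p7, p8⟩ := by
  decide +kernel

theorem A0_comm : ∀ a b : U9, inA0 a = true → inA0 b = true → a * b = b * a := by
  rintro ⟨p0, p1, p2, p3, p4, p5, p6, p7, p8⟩ ⟨q0, q1, q2, q3, q4, q5, q6, q7, q8⟩ ha hb
  simp only [inA0, Bool.and_eq_true, Bool.not_eq_true'] at ha hb
  obtain ⟨⟨rfl, rfl⟩, rfl⟩ := ha
  obtain ⟨⟨rfl, rfl⟩, rfl⟩ := hb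
  exact A0_comm_aux p0 p3 p4 p6 p7 p8 q0 q3 q4 q6 q7 q8

theorem A0_sq : ∀ a : U9, inA0 a = true → a * a = 1 := by
  decide +kernel

/-- the abelian subgroup of order 64 -/
def A0 : Subgroup U9 where
  carrier := {a | inA0 a = true}
  mul_mem' := fun {a b} ha hb => A0_mul a b ha hb
  one_mem' := rfl
  inv_mem' := fun {a} ha => A0_inv a ha

theorem mem_A0 (a : U9) : a ∈ A0 ↔ inA0 a = true := Iff.rfl

theorem card_A0 : Nat.card A0 = 64 := by
  show Nat.card {a : U9 // inA0 a = true} = 64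
  rw [Nat.card_eq_fintype_card, Fintype.card_subtype]
  decide +kernel

theorem abelian_le_A0 (B : Subgroup U9) (hB : IsMulCommutative B) (hc : Nat.card B = 64) :
    B ≤ A0 := by
  intro b hb
  rw [mem_A0]
  by_contra hnot
  have hnot' : inA0N (enc b) = false := by
    rw [inA0N_enc]
    simpa using hnot
  have hcomm : ∀ x ∈ B, ∀ y ∈ B, x * y = y * x := fun x hx y hy =>
    congrArg Subtype.val (hB.is_comm.comm ⟨x, hx⟩ ⟨y, hy⟩)
  have hcent : ∀ y ∈ B, enc y ∈ centN (enc b) := by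
    intro y hy
    unfold centN
    rw [List.mem_filter, List.mem_range]
    exact ⟨enc_lt y, comm_enc _ _ (hcomm b hb y hy)⟩
  have h64 : 64 ≤ (DN (enc b)).length := by
    rw [← hc]
    apply card_le_length
    intro x hx
    show enc x ∈ (centN (enc b)).filter
      (fun x => decide (64 ≤ ((centN (enc b)).filter (fun y => commN x y)).length))
    rw [List.mem_filter, decide_eq_true_iff]
    refine ⟨hcent x hx, ?_⟩
    rw [← hc]
    apply card_le_length
    intro y hy
    rw [List.mem_filter]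
    exact ⟨hcent y hy, comm_enc _ _ (hcomm x hx y hy)⟩
  have := certN4 (enc b) (enc_lt b) hnot'
  omega

/-! ### the three claims -/

/-- the three claims about a group: centres of maximal subgroups have order at most 8, there is
an elementary abelian subgroup of order 64, and there is only one abelian subgroup of order 64 -/
def Claims (S : Type*) [Group S] : Prop :=
  (∀ M : Subgroup S, IsCoatom M → Nat.card (Subgroup.center M) ≤ 8) ∧
  (∃ A : Subgroup S, Cfsg.IsElementaryAbelian 2 A ∧ Nat.card A = 64) ∧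
  ∀ A B : Subgroup S, IsMulCommutative A → Nat.card A = 64 → IsMulCommutative B →
    Nat.card B = 64 → A = B

theorem claims_U9 : Claims U9 := by
  refine ⟨center_coatom_le, ⟨A0, ⟨⟨⟨fun a b => Subtype.ext (A0_comm a.1 b.1 a.2 b.2)⟩⟩, ?_⟩,
    card_A0⟩, ?_⟩
  · intro a ha
    rw [pow_two]
    exact A0_sq a ha
  · intro A B hA hAc hB hBc
    have h1 : A = A0 := Subgroup.eq_of_le_of_card_ge (abelian_le_A0 A hA hAc)
      (by rw [card_A0, hAc])
    have h2 : B = A0 := Subgroup.eq_of_le_of_card_ge (abelian_le_A0 B hB hBc)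
      (by rw [card_A0, hBc])
    rw [h1, h2]

theorem map_comm {S T : Type*} [Group S] [Group T] (f : S →* T) (A : Subgroup S)
    (hA : IsMulCommutative A) : IsMulCommutative (A.map f) := by
  refine ⟨⟨?_⟩⟩
  rintro ⟨x, ⟨a, ha, rfl⟩⟩ ⟨y, ⟨b, hb, rfl⟩⟩
  apply Subtype.ext
  show f a * f b = f b * f a
  have := congrArg Subtype.val (hA.is_comm.comm ⟨a, ha⟩ ⟨b, hb⟩)
  rw [← map_mul, ← map_mul]
  exact congrArg f this

theorem Claims.of_equiv {S T : Type*} [Group S] [Group T] (e : S ≃* T) (h : Claims T) :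
    Claims S := by
  obtain ⟨h1, ⟨A', ⟨hA'c, hA'e⟩, hA'card⟩, h3⟩ := h
  refine ⟨?_, ?_, ?_⟩
  · intro M hM
    have hM' : IsCoatom (M.map e.toMonoidHom) := by
      have := (e.mapSubgroup.isCoatom_iff M).2 hM
      exact this
    have h := h1 _ hM'
    have e2 : ↥M ≃* ↥(M.map e.toMonoidHom) := e.subgroupMap M
    rw [← Nat.card_congr (Subgroup.centerCongr e2).toEquiv] at h
    exact h
  · refine ⟨A'.map e.symm.toMonoidHom, ⟨map_comm _ _ hA'c, ?_⟩, ?_⟩
    · rintro _ ⟨a, ha, rfl⟩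
      show (e.symm a) ^ 2 = 1
      rw [← map_pow, hA'e a ha, map_one]
    · rw [Subgroup.card_map_of_injective e.symm.injective, hA'card]
  · intro A B hA hAc hB hBc
    have := h3 (A.map e.toMonoidHom) (B.map e.toMonoidHom) (map_comm _ _ hA)
      (by rw [Subgroup.card_map_of_injective e.injective, hAc]) (map_comm _ _ hB)
      (by rw [Subgroup.card_map_of_injective e.injective, hBc])
    exact Subgroup.map_injective e.injective this

end Cfsg.Agent.helper28.UT5
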