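import Mathlib
import Cfsg.Agent.Lib_helper28_Syl2Cert
import Cfsg.Agent.Lib_helper28_UT5b
import Cfsg.Agent.Lib_helper2_Elt
import Cfsg.Agent.Lib_helper2_M24b

set_option autoImplicit false

/-! A Sylow 2-subgroup of `M24` is isomorphic to the unitriangular group `UT(5,2)`; its quotient
by the centre. -/

namespace Cfsg.Agent.helper28.Syl2

open Cfsg Cfsg.Agent.helper2.Golay Cfsg.Agent.helper28.UT5

theorem mul_of_gens2 {G H : Type*} [Group G] [Group H] (f : G → H) (S : Set G) (h1 : f 1 = 1)
    (hS : ∀ g, ∀ s ∈ S, f (g * s) = f g * f s) (hgen : Submonoid.closure S = ⊤) :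
    ∀ g h, f (g * h) = f g * f h := by
  intro g h
  have hmem : h ∈ Submonoid.closure S := by rw [hgen]; trivial
  induction hmem using Submonoid.closure_induction generalizing g with
  | mem s hs => exact hS g s hs
  | one => rw [mul_one, h1, mul_one]
  | mul a b _ _ iha ihb => rw [← mul_assoc, ihb (g * a), iha g, ihb a, mul_assoc]

/-- the permutation of a unitriangular matrix -/
noncomputable def f0 (a : U10) : Equiv.Perm GolayPt := gperm (T10 a)

theorem oneOK : ∀ k : ℕ, k < 24 → tb (T10 1).1 k = k := by decide +kernel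

theorem f0_one : f0 1 = 1 := by
  apply Equiv.Perm.ext
  intro q
  show gperm (T10 1) q = q
  rw [gperm_apply (tabOK 1), oneOK _ (idx_lt q), pt_idx]

theorem gen10_cases (s : ℕ) : ∃ t, t < 4 ∧ gen10 s = gen10 t := by
  match s with
  | 0 => exact ⟨0, by norm_num, rfl⟩
  | 1 => exact ⟨1, by norm_num, rfl⟩
  | 2 => exact ⟨2, by norm_num, rfl⟩
  | (n + 3) => exact ⟨3, by norm_num, rfl⟩

theorem f0_gen (a : U10) (s : ℕ) : f0 (a * gen10 s) = f0 a * f0 (gen10 s) := by
  obtain ⟨t, ht, hst⟩ := gen10_cases s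
  rw [hst]
  show gperm (T10 (a * gen10 t)) = gperm (T10 a) * gperm (T10 (gen10 t))
  rw [← gperm_compD (tabOK a) (tabOK (gen10 t))]
  exact gperm_eq_of_fst (tabOK _) (tablesOK_compD (tabOK a) (tabOK (gen10 t))) (mulgen a t ht)

theorem foldl_mem (w : List ℕ) (X : U10) (hX : X ∈ Submonoid.closure (Set.range gen10)) :
    w.foldl (fun acc s => acc * gen10 s) X ∈ Submonoid.closure (Set.range gen10) := by
  induction w generalizing X with
  | nil => exact hX
  | cons b w ih =>
    rw [List.foldl_cons]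
    exact ih _ (Submonoid.mul_mem _ hX (Submonoid.subset_closure ⟨b, rfl⟩))

theorem gen_top : Submonoid.closure (Set.range gen10) = ⊤ := by
  rw [eq_top_iff]
  intro a _
  rw [← wordOK a]
  exact foldl_mem _ _ (Submonoid.one_mem _)

/-- the homomorphism to the permutations -/
noncomputable def φ0 : U10 →* Equiv.Perm GolayPt :=
  MonoidHom.mk' f0 (mul_of_gens2 f0 (Set.range gen10) f0_one
    (by rintro g _ ⟨s, rfl⟩; exact f0_gen g s) gen_top)

theorem φ0_apply (a : U10) : φ0 a = gperm (T10 a) := rfl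

theorem φ0_mem (a : U10) : φ0 a ∈ M24 := by
  have hmem : a ∈ Submonoid.closure (Set.range gen10) := by rw [gen_top]; trivial
  induction hmem using Submonoid.closure_induction with
  | mem x hx =>
    obtain ⟨s, rfl⟩ := hx
    obtain ⟨t, ht, hst⟩ := gen10_cases s
    rw [hst, φ0_apply]
    exact gperm_mem (genOK t ht).1 (genOK t ht).2
  | one => rw [map_one]; exact Subgroup.one_mem _
  | mul x y _ _ hx hy => rw [map_mul]; exact Subgroup.mul_mem _ hx hy

/-- the homomorphism to `M24` -/
noncomputable def φ : U10 →* ↥M24 := φ0.codRestrict M24 φ0_mem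

theorem φ_injective : Function.Injective φ := by
  rw [injective_iff_map_eq_one]
  intro a ha
  have h1 : gperm (T10 a) = 1 := congrArg Subtype.val ha
  apply kerOK a
  intro k hk
  have h2 : idx (gperm (T10 a) (pt k)) = idx ((1 : Equiv.Perm GolayPt) (pt k)) := by rw [h1]
  rw [gperm_pt (tabOK a) hk, idx_pt _ (tablesOK_spec (tabOK a) k hk).1] at h2
  rw [h2]
  show idx ((1 : Equiv.Perm GolayPt) (pt k)) = k
  rw [Equiv.Perm.one_apply, idx_pt _ hk]

theorem card_range : Nat.card ↥φ.range = 1024 := by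
  rw [← Nat.card_congr (MonoidHom.ofInjective φ_injective).toEquiv, card_U10]

theorem sylow_iso (P : Sylow 2 ↥M24) : Nonempty (↥(P : Subgroup ↥M24) ≃* U10) := by
  haveI : Fact (Nat.Prime 2) := ⟨Nat.prime_two⟩
  have hidx : φ.range.index = 239085 := by
    have h := Subgroup.card_mul_index φ.range
    rw [card_range, card_M24] at h
    omega
  have hp : IsPGroup 2 ↥φ.range := IsPGroup.of_card (n := 10) (by rw [card_range]; norm_num)
  have e1 : ↥(P : Subgroup ↥M24) ≃* ↥((hp.toSylow (by rw [hidx]; norm_num) : Sylow 2 ↥M24) :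
      Subgroup ↥M24) := Sylow.equiv P _
  have e2 : U10 ≃* ↥φ.range := MonoidHom.ofInjective φ_injective
  have e3 : ↥((hp.toSylow (by rw [hidx]; norm_num) : Sylow 2 ↥M24) : Subgroup ↥M24) ≃*
      ↥φ.range := MulEquiv.subgroupCongr (IsPGroup.toSylow_coe hp _)
  exact ⟨(e1.trans e3).trans e2.symm⟩

theorem map_center_equiv {G H : Type*} [Group G] [Group H] (e : G ≃* H) :
    (Subgroup.center G).map (e : G →* H) = Subgroup.center H := by
  ext y
  constructor
  · rintro ⟨x, hx, rfl⟩
    rw [Subgroup.mem_center_iff]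
    intro h
    have := Subgroup.mem_center_iff.1 hx (e.symm h)
    have h2 := congrArg e this
    rw [map_mul, map_mul, MulEquiv.apply_symm_apply] at h2
    exact h2
  · intro hy
    refine ⟨e.symm y, ?_, e.apply_symm_apply y⟩
    show e.symm y ∈ Subgroup.center G
    rw [Subgroup.mem_center_iff]
    intro g
    have := Subgroup.mem_center_iff.1 hy (e g)
    apply e.injective
    rw [map_mul, map_mul, MulEquiv.apply_symm_apply]
    exact this

theorem main (P : Sylow 2 ↥M24) :
    Claims (↥(P : Subgroup ↥M24) ⧸ Subgroup.center ↥(P : Subgroup ↥M24)) := by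
  obtain ⟨e⟩ := sylow_iso P
  have e1 : ↥(P : Subgroup ↥M24) ⧸ Subgroup.center ↥(P : Subgroup ↥M24) ≃*
      U10 ⧸ Subgroup.center U10 := QuotientGroup.congr _ _ e (map_center_equiv e)
  exact Claims.of_equiv (e1.trans quotEquiv) claims_U9

end Cfsg.Agent.helper28.Syl2
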