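import Cfsg.Prelude.Def_GeometricClasses
set_option autoImplicit false
open Cfsg

namespace Cfsg.Agent.helper28

open Matrix

variable {ι : Type} [Fintype ι] [DecidableEq ι] {F : Type*} [Field F]

lemma exists_transv (A : Submodule F (ι → F)) (x u : ι → F)
    (hu : u ∉ A ⊔ Submodule.span F {x}) :
    ∃ g : Matrix.GeneralLinearGroup ι F, g ∈ Cfsg.Geo.specialLinear ι F ∧
      g ∈ Cfsg.Geo.subspaceStabilizer A ∧ (g : Matrix ι ι F) *ᵥ u = u + x := by
  obtain ⟨f, hfu, hf⟩ := Submodule.exists_dual_map_eq_bot_of_notMem hu inferInstance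
  have hker : ∀ v ∈ A ⊔ Submodule.span F {x}, f v = 0 := by
    intro v hv
    have : f v ∈ (A ⊔ Submodule.span F {x}).map f := Submodule.mem_map_of_mem hv
    rw [hf] at this
    simpa using this
  set φ : Module.Dual F (ι → F) := (f u)⁻¹ • f with hφ
  have hφu : φ u = 1 := by simp [hφ, hfu]
  have hφx : φ x = 0 := by
    have : f x = 0 := hker x (Submodule.mem_sup_right (Submodule.mem_span_singleton_self x))
    simp [hφ, this]
  have hφA : ∀ v ∈ A, φ v = 0 := by
    intro v hv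
    have : f v = 0 := hker v (Submodule.mem_sup_left hv)
    simp [hφ, this]
  have hdet : (LinearMap.toMatrix' ((LinearEquiv.transvection hφx : (ι → F) ≃ₗ[F] (ι → F)) : (ι → F) →ₗ[F] (ι → F))).det = 1 := by
    rw [LinearMap.det_toMatrix']
    have := LinearEquiv.transvection.det_eq_one hφx
    rw [← Units.val_inj, LinearEquiv.coe_det] at this
    exact this
  have hmul : ∀ v, (LinearMap.toMatrix' ((LinearEquiv.transvection hφx : (ι → F) ≃ₗ[F] (ι → F)) : (ι → F) →ₗ[F] (ι → F))) *ᵥ v = v + φ v • x := by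
    intro v
    rw [LinearMap.toMatrix'_mulVec]
    rfl
  refine ⟨Matrix.GeneralLinearGroup.mkOfDetNeZero _ (by rw [hdet]; exact one_ne_zero), ?_, ?_, ?_⟩
  · change Matrix.GeneralLinearGroup.det _ = 1
    ext
    simpa using hdet
  · intro v
    change v ∈ A ↔ _ *ᵥ v ∈ A
    simp only [Matrix.GeneralLinearGroup.mkOfDetNeZero]
    change v ∈ A ↔ (LinearMap.toMatrix' _) *ᵥ v ∈ A
    rw [hmul]
    constructor
    · intro hv
      rw [hφA v hv, zero_smul, add_zero]
      exact hv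
    · intro hv
      have h0 : φ (v + φ v • x) = 0 := hφA _ hv
      rw [map_add, map_smul, hφx, smul_zero, add_zero] at h0
      rw [h0, zero_smul, add_zero] at hv
      exact hv
  · change (LinearMap.toMatrix' _) *ᵥ u = _
    rw [hmul, hφu, one_smul]

end Cfsg.Agent.helper28

namespace Cfsg.Agent.helper28

open Matrix

variable {ι : Type} [Fintype ι] [DecidableEq ι] {F : Type*} [Field F]

/-- Stab(A) ⊓ SL < SL for a proper non-zero subspace A. -/
lemma stab_inf_sl_lt (A : Submodule F (ι → F)) (h0 : A ≠ ⊥) (h1 : A ≠ ⊤) :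
    Cfsg.Geo.subspaceStabilizer A ⊓ Cfsg.Geo.specialLinear ι F < Cfsg.Geo.specialLinear ι F := by
  obtain ⟨w, hwA, hw0⟩ := (Submodule.ne_bot_iff A).1 h0
  obtain ⟨x, hx⟩ : ∃ x, x ∉ A := by
    by_contra h
    push Not at h
    exact h1 (eq_top_iff.2 fun v _ => h v)
  have hw : w ∉ (⊥ : Submodule F (ι → F)) ⊔ Submodule.span F {x} := by
    rw [bot_sup_eq, Submodule.mem_span_singleton]
    rintro ⟨c, hc⟩
    have hc0 : c ≠ 0 := by
      rintro rfl
      exact hw0 (by rw [← hc, zero_smul])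
    apply hx
    have : x = c⁻¹ • w := by rw [← hc, smul_smul, inv_mul_cancel₀ hc0, one_smul]
    rw [this]
    exact A.smul_mem _ hwA
  obtain ⟨g, hgS, -, hgw⟩ := exists_transv ⊥ x w hw
  refine lt_of_le_of_ne inf_le_right ?_
  intro heq
  have hg : g ∈ Cfsg.Geo.subspaceStabilizer A := by
    have : g ∈ Cfsg.Geo.subspaceStabilizer A ⊓ Cfsg.Geo.specialLinear ι F := by rw [heq]; exact hgS
    exact this.1
  have h2 : (g : Matrix ι ι F) *ᵥ w ∈ A := (hg w).1 hwA
  rw [hgw] at h2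
  exact hx ((A.add_mem_iff_right hwA).1 h2)

/-- If `u ∈ B`, `x ∉ B` and `u ∉ A ⊔ span{x}`, then Stab(A) ⊓ Stab(B) ⊓ SL < Stab(A) ⊓ SL. -/
lemma stab_stab_inf_sl_lt (A B : Submodule F (ι → F)) (x u : ι → F) (huB : u ∈ B) (hxB : x ∉ B)
    (hu : u ∉ A ⊔ Submodule.span F {x}) :
    Cfsg.Geo.subspaceStabilizer A ⊓ Cfsg.Geo.subspaceStabilizer B ⊓ Cfsg.Geo.specialLinear ι F <
      Cfsg.Geo.subspaceStabilizer A ⊓ Cfsg.Geo.specialLinear ι F := by
  obtain ⟨g, hgS, hgA, hgu⟩ := exists_transv A x u hu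
  refine lt_of_le_of_ne (inf_le_inf_right _ inf_le_left) ?_
  intro heq
  have hg : g ∈ Cfsg.Geo.subspaceStabilizer B := by
    have : g ∈ Cfsg.Geo.subspaceStabilizer A ⊓ Cfsg.Geo.subspaceStabilizer B ⊓
        Cfsg.Geo.specialLinear ι F := by rw [heq]; exact ⟨hgA, hgS⟩
    exact this.1.2
  have h2 : (g : Matrix ι ι F) *ᵥ u ∈ B := (hg u).1 huB
  rw [hgu] at h2
  exact hxB ((B.add_mem_iff_right huB).1 h2)

end Cfsg.Agent.helper28
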