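import Mathlib
import Cfsg.Agent.Lib_helper2_M24p

set_option autoImplicit false
set_option linter.constructorNameAsVariable false

namespace Cfsg.Agent.helper2.Golay

open Cfsg Cfsg.Agent.helper27
open scoped Pointwise

/-! ### Families of point sets given by lists of masks -/

/-- The family of point sets with the listed masks. -/
def famFin (L : List ℕ) : Finset (Finset GolayPt) := (L.map pts).toFinset

theorem mem_famFin {L : List ℕ} {s : Finset GolayPt} : s ∈ famFin L ↔ ∃ a ∈ L, pts a = s := by
  unfold famFin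
  rw [List.mem_toFinset, List.mem_map]

theorem smul_famFin (g : Equiv.Perm GolayPt) (L L' : List ℕ) (hlen : L.length = L'.length)
    (h : ∀ i < L.length, g • pts (L.getD i 0) = pts (L'.getD i 0)) :
    g • famFin L = famFin L' := by
  ext s
  rw [Finset.mem_smul_finset, mem_famFin]
  constructor
  · rintro ⟨u, hu, rfl⟩
    obtain ⟨a, ha, rfl⟩ := mem_famFin.mp hu
    obtain ⟨i, hi, rfl⟩ := List.mem_iff_getElem.mp ha
    refine ⟨L'.getD i 0, ?_, ?_⟩
    · rw [List.getD_eq_getElem _ _ (hlen ▸ hi)]
      exact List.getElem_mem _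
    · rw [← h i hi, List.getD_eq_getElem _ _ hi]
  · rintro ⟨a, ha, rfl⟩
    obtain ⟨i, hi, rfl⟩ := List.mem_iff_getElem.mp ha
    have hi' : i < L.length := hlen ▸ hi
    refine ⟨pts (L.getD i 0), mem_famFin.mpr ⟨_, ?_, rfl⟩, ?_⟩
    · rw [List.getD_eq_getElem _ _ hi']
      exact List.getElem_mem _
    · rw [h i hi', List.getD_eq_getElem _ _ hi]

theorem gperm_smul_famFin {d : List ℕ × List ℕ} (ht : tablesOK d.1 d.2 = true) (L : List ℕ) :
    gperm d • famFin L = famFin (L.map (pull (tb d.2))) := by
  apply smul_famFin _ _ _ (by rw [List.length_map])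
  intro i hi
  rw [gperm_smul_pts ht, List.getD_eq_getElem _ _ hi,
    List.getD_eq_getElem _ _ (by rw [List.length_map]; exact hi), List.getElem_map]

/-- The two lists have the same entries. -/
def sameSet (L L' : List ℕ) : Bool := L.all (fun a => L'.contains a) && L'.all (fun a => L.contains a)

theorem famFin_eq_of_sameSet {L L' : List ℕ} (h : sameSet L L' = true) : famFin L = famFin L' := by
  unfold sameSet at h
  simp only [Bool.and_eq_true, List.all_eq_true, List.contains_iff_mem] at h
  ext s
  rw [mem_famFin, mem_famFin]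
  constructor
  · rintro ⟨a, ha, rfl⟩
    exact ⟨a, h.1 a ha, rfl⟩
  · rintro ⟨a, ha, rfl⟩
    exact ⟨a, h.2 a ha, rfl⟩

/-- Certificate for an orbit of families under explicit generators: entry `i` is
`(index into the table, parent position, generator index)`. -/
def famTreeOK (tbl : List (List ℕ)) (gens : List (List ℕ × List ℕ)) (T : List (ℕ × ℕ × ℕ)) :
    Bool :=
  (List.range T.length).all (fun i => (i == 0) ||
    (decide ((T.getD i (0, 0, 0)).2.1 < i) && decide ((T.getD i (0, 0, 0)).2.2 < gens.length) &&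
      sameSet ((tbl.getD (T.getD (T.getD i (0, 0, 0)).2.1 (0, 0, 0)).1 []).map
        (pull (tb (gens.getD (T.getD i (0, 0, 0)).2.2 ([], [])).2)))
        (tbl.getD (T.getD i (0, 0, 0)).1 [])))

theorem famTree_spec (K : Subgroup (Equiv.Perm GolayPt)) (tbl : List (List ℕ))
    (gens : List (List ℕ × List ℕ))
    (hgens : ∀ d ∈ gens, tablesOK d.1 d.2 = true ∧ gperm d ∈ K)
    (T : List (ℕ × ℕ × ℕ)) (hT : famTreeOK tbl gens T = true) :
    ∀ i < T.length, ∃ g ∈ K, g • famFin (tbl.getD (T.getD 0 (0, 0, 0)).1 [])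
      = famFin (tbl.getD (T.getD i (0, 0, 0)).1 []) := by
  intro i
  induction i using Nat.strong_induction_on with
  | _ i ih =>
    intro hi
    by_cases h0 : i = 0
    · subst h0
      exact ⟨1, K.one_mem, one_smul _ _⟩
    · unfold famTreeOK at hT
      rw [List.all_eq_true] at hT
      have h1 := hT i (List.mem_range.mpr hi)
      simp only [Bool.or_eq_true, beq_iff_eq, Bool.and_eq_true, decide_eq_true_eq] at h1
      rcases h1 with h1 | ⟨⟨hpar, hgen⟩, hsame⟩
      · exact absurd h1 h0
      · obtain ⟨g', hg', hg'm⟩ := ih _ hpar (by omega)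
        have hmem : gens.getD (T.getD i (0, 0, 0)).2.2 ([], []) ∈ gens := by
          rw [List.getD_eq_getElem _ _ hgen]
          exact List.getElem_mem _
        obtain ⟨ht, hK⟩ := hgens _ hmem
        refine ⟨gperm _ * g', K.mul_mem hK hg', ?_⟩
        rw [mul_smul, hg'm, gperm_smul_famFin ht, famFin_eq_of_sameSet hsame]

/-- Reachability inside one certified family tree. -/
theorem fam_reach (K : Subgroup (Equiv.Perm GolayPt)) (tbl : List (List ℕ))
    (gens : List (List ℕ × List ℕ))
    (hgens : ∀ d ∈ gens, tablesOK d.1 d.2 = true ∧ gperm d ∈ K)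
    {T : List (ℕ × ℕ × ℕ)} (hT : famTreeOK tbl gens T = true) {a a' : ℕ}
    (h : T.any (fun e => e.1 == a) = true) (h' : T.any (fun e => e.1 == a') = true) :
    ∃ g ∈ K, g • famFin (tbl.getD a []) = famFin (tbl.getD a' []) := by
  obtain ⟨i, hi, hie⟩ := exists_index_of_any h
  obtain ⟨i', hi', hie'⟩ := exists_index_of_any h'
  obtain ⟨g, hg, hgm⟩ := famTree_spec K tbl gens hgens T hT i hi
  obtain ⟨g', hg', hgm'⟩ := famTree_spec K tbl gens hgens T hT i' hi'
  rw [hie] at hgm
  rw [hie'] at hgm'
  refine ⟨g' * g⁻¹, Subgroup.mul_mem _ hg' (Subgroup.inv_mem _ hg), ?_⟩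
  rw [mul_smul, ← hgm, inv_smul_smul, hgm']

/-- Transitivity on classes of table indices from a list of certified trees. -/
theorem fam_rank_reach (K : Subgroup (Equiv.Perm GolayPt)) (tbl : List (List ℕ))
    (gens : List (List ℕ × List ℕ))
    (hgens : ∀ d ∈ gens, tablesOK d.1 d.2 = true ∧ gperm d ∈ K)
    (trees : List (List (ℕ × ℕ × ℕ))) (hT : trees.all (famTreeOK tbl gens) = true)
    (cls : ℕ → ℕ)
    (hall : ∀ a < tbl.length, cls a < trees.length →
      (trees.getD (cls a) []).any (fun e => e.1 == a) = true)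
    {a a' : ℕ} (ha : a < tbl.length) (ha' : a' < tbl.length) (hc : cls a < trees.length)
    (hcc : cls a = cls a') :
    ∃ g ∈ K, g • famFin (tbl.getD a []) = famFin (tbl.getD a' []) := by
  have hmem : trees.getD (cls a) [] ∈ trees := by
    rw [List.getD_eq_getElem _ _ hc]
    exact List.getElem_mem _
  rw [List.all_eq_true] at hT
  have hL := hT _ hmem
  have h1 := hall a ha hc
  have h2 := hall a' ha' (hcc ▸ hc)
  rw [← hcc] at h2
  exact fam_reach K tbl gens hgens hL h1 h2

end Cfsg.Agent.helper2.Golay
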