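import Mathlib
import Cfsg.Agent.Lib_helper28_TrioData
import Cfsg.Agent.Lib_helper28_M24orbData
import Cfsg.Agent.Lib_helper2_Fam
import Cfsg.Agent.Lib_helper2_M24k

set_option autoImplicit false

/-! Kernel-checked certificates for the trio stabiliser. -/

namespace Cfsg.Agent.helper28.Trio

open Cfsg Cfsg.Agent.helper2.Golay Cfsg.Agent.helper28.M24orb

/-- table pair of the matrix with the given entries -/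
def T3 (a00 a01 a02 a10 a11 a12 a20 a21 a22 : ZMod 2) : List ℕ × List ℕ :=
  glTab3.getD (256 * a00.val + 128 * a01.val + 64 * a02.val + 32 * a10.val + 16 * a11.val +
    8 * a12.val + 4 * a20.val + 2 * a21.val + a22.val) (idTab, idTab)

/-- table pair of a permutation of three letters -/
def sT (σ : Equiv.Perm (Fin 3)) : List ℕ × List ℕ :=
  s3Tab.getD (3 * (σ 0).val + (σ 1).val) (idTab, idTab)

/-- the two-by-two matrix of a permutation of three letters -/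
def bM (σ : Equiv.Perm (Fin 3)) : ZMod 2 × ZMod 2 × ZMod 2 × ZMod 2 :=
  (((bTab.getD (3 * (σ 0).val + (σ 1).val) (1, 0, 0, 1)).1 : ZMod 2),
   ((bTab.getD (3 * (σ 0).val + (σ 1).val) (1, 0, 0, 1)).2.1 : ZMod 2),
   ((bTab.getD (3 * (σ 0).val + (σ 1).val) (1, 0, 0, 1)).2.2.1 : ZMod 2),
   ((bTab.getD (3 * (σ 0).val + (σ 1).val) (1, 0, 0, 1)).2.2.2 : ZMod 2))

/-- table pair of an element of the normal subgroup -/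
def nT6 (x0 x1 x2 y0 y1 y2 : ZMod 2) : List ℕ × List ℕ :=
  nTab6.getD (32 * x0.val + 16 * x1.val + 8 * x2.val + 4 * y0.val + 2 * y1.val + y2.val)
    (idTab, idTab)

/-- a table pair is good: it defines an element of M24 stabilising the base trio -/
def good3 (d : List ℕ × List ℕ) : Bool :=
  tablesOK d.1 d.2 && codeOK d.2 && sameSet (t0l.map (pull (tb d.2))) t0l

theorem zmod2_cases (x : ZMod 2) : x = 0 ∨ x = 1 := by revert x; decide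

/-- determinant of a three-by-three matrix -/
def det3 (a00 a01 a02 a10 a11 a12 a20 a21 a22 : ZMod 2) : ZMod 2 :=
  a00 * a11 * a22 - a00 * a12 * a21 - a01 * a10 * a22 + a01 * a12 * a20 + a02 * a10 * a21 -
    a02 * a11 * a20

theorem T3_ok_0_0_0 : ∀ a10 a11 a12 a20 a21 a22 : ZMod 2, det3 (0 : ZMod 2) (0 : ZMod 2) (0 : ZMod 2) a10 a11 a12 a20 a21 a22 ≠ 0 → good3 (T3 (0 : ZMod 2) (0 : ZMod 2) (0 : ZMod 2) a10 a11 a12 a20 a21 a22) = true := by decide +kernel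

theorem T3_ok_0_0_1 : ∀ a10 a11 a12 a20 a21 a22 : ZMod 2, det3 (0 : ZMod 2) (0 : ZMod 2) (1 : ZMod 2) a10 a11 a12 a20 a21 a22 ≠ 0 → good3 (T3 (0 : ZMod 2) (0 : ZMod 2) (1 : ZMod 2) a10 a11 a12 a20 a21 a22) = true := by decide +kernel

theorem T3_ok_0_1_0 : ∀ a10 a11 a12 a20 a21 a22 : ZMod 2, det3 (0 : ZMod 2) (1 : ZMod 2) (0 : ZMod 2) a10 a11 a12 a20 a21 a22 ≠ 0 → good3 (T3 (0 : ZMod 2) (1 : ZMod 2) (0 : ZMod 2) a10 a11 a12 a20 a21 a22) = true := by decide +kernel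

theorem T3_ok_0_1_1 : ∀ a10 a11 a12 a20 a21 a22 : ZMod 2, det3 (0 : ZMod 2) (1 : ZMod 2) (1 : ZMod 2) a10 a11 a12 a20 a21 a22 ≠ 0 → good3 (T3 (0 : ZMod 2) (1 : ZMod 2) (1 : ZMod 2) a10 a11 a12 a20 a21 a22) = true := by decide +kernel

theorem T3_ok_1_0_0 : ∀ a10 a11 a12 a20 a21 a22 : ZMod 2, det3 (1 : ZMod 2) (0 : ZMod 2) (0 : ZMod 2) a10 a11 a12 a20 a21 a22 ≠ 0 → good3 (T3 (1 : ZMod 2) (0 : ZMod 2) (0 : ZMod 2) a10 a11 a12 a20 a21 a22) = true := by decide +kernel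

theorem T3_ok_1_0_1 : ∀ a10 a11 a12 a20 a21 a22 : ZMod 2, det3 (1 : ZMod 2) (0 : ZMod 2) (1 : ZMod 2) a10 a11 a12 a20 a21 a22 ≠ 0 → good3 (T3 (1 : ZMod 2) (0 : ZMod 2) (1 : ZMod 2) a10 a11 a12 a20 a21 a22) = true := by decide +kernel

theorem T3_ok_1_1_0 : ∀ a10 a11 a12 a20 a21 a22 : ZMod 2, det3 (1 : ZMod 2) (1 : ZMod 2) (0 : ZMod 2) a10 a11 a12 a20 a21 a22 ≠ 0 → good3 (T3 (1 : ZMod 2) (1 : ZMod 2) (0 : ZMod 2) a10 a11 a12 a20 a21 a22) = true := by decide +kernel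

theorem T3_ok_1_1_1 : ∀ a10 a11 a12 a20 a21 a22 : ZMod 2, det3 (1 : ZMod 2) (1 : ZMod 2) (1 : ZMod 2) a10 a11 a12 a20 a21 a22 ≠ 0 → good3 (T3 (1 : ZMod 2) (1 : ZMod 2) (1 : ZMod 2) a10 a11 a12 a20 a21 a22) = true := by decide +kernel

theorem T3_ok : ∀ a00 a01 a02 : ZMod 2, ∀ a10 a11 a12 a20 a21 a22 : ZMod 2, det3 a00 a01 a02 a10 a11 a12 a20 a21 a22 ≠ 0 → good3 (T3 a00 a01 a02 a10 a11 a12 a20 a21 a22) = true := by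
  intro a00 a01 a02
  rcases zmod2_cases a00 with rfl | rfl
  · rcases zmod2_cases a01 with rfl | rfl
    · rcases zmod2_cases a02 with rfl | rfl
      · exact T3_ok_0_0_0
      · exact T3_ok_0_0_1
    · rcases zmod2_cases a02 with rfl | rfl
      · exact T3_ok_0_1_0
      · exact T3_ok_0_1_1
  · rcases zmod2_cases a01 with rfl | rfl
    · rcases zmod2_cases a02 with rfl | rfl
      · exact T3_ok_1_0_0
      · exact T3_ok_1_0_1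
    · rcases zmod2_cases a02 with rfl | rfl
      · exact T3_ok_1_1_0
      · exact T3_ok_1_1_1

theorem sT_ok : ∀ σ : Equiv.Perm (Fin 3), good3 (sT σ) = true := by decide +kernel

theorem nT6_ok : ∀ x0 x1 x2 y0 y1 y2 : ZMod 2, good3 (nT6 x0 x1 x2 y0 y1 y2) = true := by
  decide +kernel

theorem perm_ok : ∀ σ : Equiv.Perm (Fin 3), ∀ i : Fin 3,
    pull (tb (sT σ).2) (t0l.getD i.val 0) = t0l.getD (σ i).val 0 := by decide +kernel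

theorem smul_ok : ∀ σ τ : Equiv.Perm (Fin 3), (sT (σ * τ)).1 = comp (sT σ).1 (sT τ).1 := by
  decide +kernel

theorem nmul6_ok_0_0 : ∀ x2 y0 y1 y2 x0' x1' x2' y0' y1' y2' : ZMod 2, (nT6 ((0 : ZMod 2) + x0') ((0 : ZMod 2) + x1') (x2 + x2') (y0 + y0') (y1 + y1') (y2 + y2')).1 = comp (nT6 (0 : ZMod 2) (0 : ZMod 2) x2 y0 y1 y2).1 (nT6 x0' x1' x2' y0' y1' y2').1 := by decide +kernel

theorem nmul6_ok_0_1 : ∀ x2 y0 y1 y2 x0' x1' x2' y0' y1' y2' : ZMod 2, (nT6 ((0 : ZMod 2) + x0') ((1 : ZMod 2) + x1') (x2 + x2') (y0 + y0') (y1 + y1') (y2 + y2')).1 = comp (nT6 (0 : ZMod 2) (1 : ZMod 2) x2 y0 y1 y2).1 (nT6 x0' x1' x2' y0' y1' y2').1 := by decide +kernel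

theorem nmul6_ok_1_0 : ∀ x2 y0 y1 y2 x0' x1' x2' y0' y1' y2' : ZMod 2, (nT6 ((1 : ZMod 2) + x0') ((0 : ZMod 2) + x1') (x2 + x2') (y0 + y0') (y1 + y1') (y2 + y2')).1 = comp (nT6 (1 : ZMod 2) (0 : ZMod 2) x2 y0 y1 y2).1 (nT6 x0' x1' x2' y0' y1' y2').1 := by decide +kernel

theorem nmul6_ok_1_1 : ∀ x2 y0 y1 y2 x0' x1' x2' y0' y1' y2' : ZMod 2, (nT6 ((1 : ZMod 2) + x0') ((1 : ZMod 2) + x1') (x2 + x2') (y0 + y0') (y1 + y1') (y2 + y2')).1 = comp (nT6 (1 : ZMod 2) (1 : ZMod 2) x2 y0 y1 y2).1 (nT6 x0' x1' x2' y0' y1' y2').1 := by decide +kernel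

theorem nmul6_ok : ∀ x0 x1 : ZMod 2, ∀ x2 y0 y1 y2 x0' x1' x2' y0' y1' y2' : ZMod 2, (nT6 (x0 + x0') (x1 + x1') (x2 + x2') (y0 + y0') (y1 + y1') (y2 + y2')).1 = comp (nT6 x0 x1 x2 y0 y1 y2).1 (nT6 x0' x1' x2' y0' y1' y2').1 := by
  intro x0 x1
  rcases zmod2_cases x0 with rfl | rfl
  · rcases zmod2_cases x1 with rfl | rfl
    · exact nmul6_ok_0_0
    · exact nmul6_ok_0_1
  · rcases zmod2_cases x1 with rfl | rfl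
    · exact nmul6_ok_1_0
    · exact nmul6_ok_1_1

theorem comm_ok_0 : ∀ a01 a02 a10 a11 a12 a20 a21 a22 : ZMod 2, det3 (0 : ZMod 2) a01 a02 a10 a11 a12 a20 a21 a22 ≠ 0 → ∀ σ : Equiv.Perm (Fin 3), comp (T3 (0 : ZMod 2) a01 a02 a10 a11 a12 a20 a21 a22).1 (sT σ).1 = comp (sT σ).1 (T3 (0 : ZMod 2) a01 a02 a10 a11 a12 a20 a21 a22).1 := by decide +kernel

theorem comm_ok_1 : ∀ a01 a02 a10 a11 a12 a20 a21 a22 : ZMod 2, det3 (1 : ZMod 2) a01 a02 a10 a11 a12 a20 a21 a22 ≠ 0 → ∀ σ : Equiv.Perm (Fin 3), comp (T3 (1 : ZMod 2) a01 a02 a10 a11 a12 a20 a21 a22).1 (sT σ).1 = comp (sT σ).1 (T3 (1 : ZMod 2) a01 a02 a10 a11 a12 a20 a21 a22).1 := by decide +kernel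

theorem comm_ok : ∀ a00 : ZMod 2, ∀ a01 a02 a10 a11 a12 a20 a21 a22 : ZMod 2, det3 a00 a01 a02 a10 a11 a12 a20 a21 a22 ≠ 0 → ∀ σ : Equiv.Perm (Fin 3), comp (T3 a00 a01 a02 a10 a11 a12 a20 a21 a22).1 (sT σ).1 = comp (sT σ).1 (T3 a00 a01 a02 a10 a11 a12 a20 a21 a22).1 := by
  intro a00
  rcases zmod2_cases a00 with rfl | rfl
  · exact comm_ok_0
  · exact comm_ok_1

theorem conjS_ok : ∀ σ : Equiv.Perm (Fin 3), ∀ x0 x1 x2 y0 y1 y2 : ZMod 2,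
    comp (sT σ).1 (nT6 x0 x1 x2 y0 y1 y2).1 =
      comp (nT6 ((bM σ).1 * x0 + (bM σ).2.1 * y0) ((bM σ).1 * x1 + (bM σ).2.1 * y1)
        ((bM σ).1 * x2 + (bM σ).2.1 * y2) ((bM σ).2.2.1 * x0 + (bM σ).2.2.2 * y0)
        ((bM σ).2.2.1 * x1 + (bM σ).2.2.2 * y1) ((bM σ).2.2.1 * x2 + (bM σ).2.2.2 * y2)).1
        (sT σ).1 := by decide +kernel

theorem conjL_ok_0_0_0 : ∀ a10 a11 a12 a20 a21 a22 : ZMod 2, det3 (0 : ZMod 2) (0 : ZMod 2) (0 : ZMod 2) a10 a11 a12 a20 a21 a22 ≠ 0 → ∀ x0 x1 x2 y0 y1 y2 : ZMod 2, comp (T3 (0 : ZMod 2) (0 : ZMod 2) (0 : ZMod 2) a10 a11 a12 a20 a21 a22).1 (nT6 x0 x1 x2 y0 y1 y2).1 = comp (nT6 ((0 : ZMod 2) * x0 + (0 : ZMod 2) * x1 + (0 : ZMod 2) * x2) (a10 * x0 + a11 * x1 + a12 * x2) (a20 * x0 + a21 * x1 + a22 * x2) ((0 : ZMod 2) * y0 + (0 : ZMod 2) * y1 + (0 : ZMod 2) * y2) (a10 * y0 + a11 *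 y1 + a12 * y2) (a20 * y0 + a21 * y1 + a22 * y2)).1 (T3 (0 : ZMod 2) (0 : ZMod 2) (0 : ZMod 2) a10 a11 a12 a20 a21 a22).1 := by decide +kernel

theorem conjL_ok_0_0_1 : ∀ a10 a11 a12 a20 a21 a22 : ZMod 2, det3 (0 : ZMod 2) (0 : ZMod 2) (1 : ZMod 2) a10 a11 a12 a20 a21 a22 ≠ 0 → ∀ x0 x1 x2 y0 y1 y2 : ZMod 2, comp (T3 (0 : ZMod 2) (0 : ZMod 2) (1 : ZMod 2) a10 a11 a12 a20 a21 a22).1 (nT6 x0 x1 x2 y0 y1 y2).1 = comp (nT6 ((0 : ZMod 2) * x0 + (0 : ZMod 2) * x1 + (1 : ZMod 2) * x2) (a10 * x0 + a11 * x1 + a12 * x2) (a20 * x0 + a21 * x1 + a22 * x2) ((0 : ZMod 2) * y0 + (0 : ZMod 2) * y1 + (1 : ZMod 2) * y2) (a10 * y0 + a11 * y1 + a12 * y2) (a20 * y0 + a21 * y1 + a22 * y2)).1 (T3 (0 : ZMod 2) (0 : ZMod 2) (1 : ZMod 2) a10 a11 a12 a20 a21 a22).1 := by decide +kernel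

theorem conjL_ok_0_1_0 : ∀ a10 a11 a12 a20 a21 a22 : ZMod 2, det3 (0 : ZMod 2) (1 : ZMod 2) (0 : ZMod 2) a10 a11 a12 a20 a21 a22 ≠ 0 → ∀ x0 x1 x2 y0 y1 y2 : ZMod 2, comp (T3 (0 : ZMod 2) (1 : ZMod 2) (0 : ZMod 2) a10 a11 a12 a20 a21 a22).1 (nT6 x0 x1 x2 y0 y1 y2).1 = comp (nT6 ((0 : ZMod 2) * x0 + (1 : ZMod 2) * x1 + (0 : ZMod 2) * x2) (a10 * x0 + a11 * x1 + a12 * x2) (a20 * x0 + a21 * x1 + a22 * x2) ((0 : ZMod 2) * y0 + (1 : ZMod 2) * y1 + (0 : ZMod 2) * y2) (a10 * y0 + a11 * y1 + a12 * y2) (a20 * y0 + a21 * y1 + a22 * y2)).1 (T3 (0 : ZMod 2) (1 : ZMod 2) (0 : ZMod 2) a10 a11 a12 a20 a21 a22).1 := by decide +kernel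

theorem conjL_ok_0_1_1 : ∀ a10 a11 a12 a20 a21 a22 : ZMod 2, det3 (0 : ZMod 2) (1 : ZMod 2) (1 : ZMod 2) a10 a11 a12 a20 a21 a22 ≠ 0 → ∀ x0 x1 x2 y0 y1 y2 : ZMod 2, comp (T3 (0 : ZMod 2) (1 : ZMod 2) (1 : ZMod 2) a10 a11 a12 a20 a21 a22).1 (nT6 x0 x1 x2 y0 y1 y2).1 = comp (nT6 ((0 : ZMod 2) * x0 + (1 : ZMod 2) * x1 + (1 : ZMod 2) * x2) (a10 * x0 + a11 * x1 + a12 * x2) (a20 * x0 + a21 * x1 + a22 * x2) ((0 : ZMod 2) * y0 + (1 : ZMod 2) * y1 + (1 : ZMod 2) * y2) (a10 * y0 + a11 * y1 + a12 * y2) (a20 * y0 + a21 * y1 + a22 * y2)).1 (T3 (0 : ZMod 2) (1 : ZMod 2) (1 : ZMod 2) a10 a11 a12 a20 a21 a22).1 := by decide +kernel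

theorem conjL_ok_1_0_0 : ∀ a10 a11 a12 a20 a21 a22 : ZMod 2, det3 (1 : ZMod 2) (0 : ZMod 2) (0 : ZMod 2) a10 a11 a12 a20 a21 a22 ≠ 0 → ∀ x0 x1 x2 y0 y1 y2 : ZMod 2, comp (T3 (1 : ZMod 2) (0 : ZMod 2) (0 : ZMod 2) a10 a11 a12 a20 a21 a22).1 (nT6 x0 x1 x2 y0 y1 y2).1 = comp (nT6 ((1 : ZMod 2) * x0 + (0 : ZMod 2) * x1 + (0 : ZMod 2) * x2) (a10 * x0 + a11 * x1 + a12 * x2) (a20 * x0 + a21 * x1 + a22 * x2) ((1 : ZMod 2) * y0 + (0 : ZMod 2) * y1 + (0 : ZMod 2) * y2) (a10 * y0 + a11 * y1 + a12 * y2) (a20 * y0 + a21 * y1 + a22 * y2)).1 (T3 (1 : ZMod 2) (0 : ZMod 2) (0 : ZMod 2) a10 a11 a12 a20 a21 a22).1 := by decide +kernel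

theorem conjL_ok_1_0_1 : ∀ a10 a11 a12 a20 a21 a22 : ZMod 2, det3 (1 : ZMod 2) (0 : ZMod 2) (1 : ZMod 2) a10 a11 a12 a20 a21 a22 ≠ 0 → ∀ x0 x1 x2 y0 y1 y2 : ZMod 2, comp (T3 (1 : ZMod 2) (0 : ZMod 2) (1 : ZMod 2) a10 a11 a12 a20 a21 a22).1 (nT6 x0 x1 x2 y0 y1 y2).1 = comp (nT6 ((1 : ZMod 2) * x0 + (0 : ZMod 2) * x1 + (1 : ZMod 2) * x2) (a10 * x0 + a11 * x1 + a12 * x2) (a20 * x0 + a21 * x1 + a22 * x2) ((1 : ZMod 2) * y0 + (0 : ZMod 2) * y1 + (1 : ZMod 2) * y2) (a10 * y0 + a11 * y1 + a12 * y2) (a20 * y0 + a21 * y1 + a22 * y2)).1 (T3 (1 : ZMod 2) (0 : ZMod 2) (1 : ZMod 2) a10 a11 a12 a20 a21 a22).1 := by decide +kernel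

theorem conjL_ok_1_1_0 : ∀ a10 a11 a12 a20 a21 a22 : ZMod 2, det3 (1 : ZMod 2) (1 : ZMod 2) (0 : ZMod 2) a10 a11 a12 a20 a21 a22 ≠ 0 → ∀ x0 x1 x2 y0 y1 y2 : ZMod 2, comp (T3 (1 : ZMod 2) (1 : ZMod 2) (0 : ZMod 2) a10 a11 a12 a20 a21 a22).1 (nT6 x0 x1 x2 y0 y1 y2).1 = comp (nT6 ((1 : ZMod 2) * x0 + (1 : ZMod 2) * x1 + (0 : ZMod 2) * x2) (a10 * x0 + a11 * x1 + a12 * x2) (a20 * x0 + a21 * x1 + a22 * x2) ((1 : ZMod 2) * y0 + (1 : ZMod 2) * y1 + (0 : ZMod 2) * y2) (a10 * y0 + a11 * y1 + a12 * y2) (a20 * y0 + a21 * y1 + a22 * y2)).1 (T3 (1 : ZMod 2) (1 : ZMod 2) (0 : ZMod 2) a10 a11 a12 a20 a21 a22).1 := by decide +kernel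

theorem conjL_ok_1_1_1 : ∀ a10 a11 a12 a20 a21 a22 : ZMod 2, det3 (1 : ZMod 2) (1 : ZMod 2) (1 : ZMod 2) a10 a11 a12 a20 a21 a22 ≠ 0 → ∀ x0 x1 x2 y0 y1 y2 : ZMod 2, comp (T3 (1 : ZMod 2) (1 : ZMod 2) (1 : ZMod 2) a10 a11 a12 a20 a21 a22).1 (nT6 x0 x1 x2 y0 y1 y2).1 = comp (nT6 ((1 : ZMod 2) * x0 + (1 : ZMod 2) * x1 + (1 : ZMod 2) * x2) (a10 * x0 + a11 * x1 + a12 * x2) (a20 * x0 + a21 * x1 + a22 * x2) ((1 : ZMod 2) * y0 + (1 : ZMod 2) * y1 + (1 : ZMod 2) * y2) (a10 * y0 + a11 * y1 + a12 * y2) (a20 * y0 + a21 * y1 + a22 * y2)).1 (T3 (1 : ZMod 2) (1 : ZMod 2) (1 : ZMod 2) a10 a11 a12 a20 a21 a22).1 := by decide +kernel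

theorem conjL_ok : ∀ a00 a01 a02 : ZMod 2, ∀ a10 a11 a12 a20 a21 a22 : ZMod 2, det3 a00 a01 a02 a10 a11 a12 a20 a21 a22 ≠ 0 → ∀ x0 x1 x2 y0 y1 y2 : ZMod 2, comp (T3 a00 a01 a02 a10 a11 a12 a20 a21 a22).1 (nT6 x0 x1 x2 y0 y1 y2).1 = comp (nT6 (a00 * x0 + a01 * x1 + a02 * x2) (a10 * x0 + a11 * x1 + a12 * x2) (a20 * x0 + a21 * x1 + a22 * x2) (a00 * y0 + a01 * y1 + a02 * y2) (a10 * y0 + a11 * y1 + a12 * y2) (a20 * y0 + a21 * y1 + a22 * y2)).1 (T3 a00 a01 a02 a10 a11 a12 a20 a21 a22).1 := by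
  intro a00 a01 a02
  rcases zmod2_cases a00 with rfl | rfl
  · rcases zmod2_cases a01 with rfl | rfl
    · rcases zmod2_cases a02 with rfl | rfl
      · exact conjL_ok_0_0_0
      · exact conjL_ok_0_0_1
    · rcases zmod2_cases a02 with rfl | rfl
      · exact conjL_ok_0_1_0
      · exact conjL_ok_0_1_1
  · rcases zmod2_cases a01 with rfl | rfl
    · rcases zmod2_cases a02 with rfl | rfl
      · exact conjL_ok_1_0_0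
      · exact conjL_ok_1_0_1
    · rcases zmod2_cases a02 with rfl | rfl
      · exact conjL_ok_1_1_0
      · exact conjL_ok_1_1_1

end Cfsg.Agent.helper28.Trio
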