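import Mathlib
import Cfsg.Agent.Lib_helper28_TrioCert

set_option autoImplicit false
set_option synthInstance.maxHeartbeats 2000000
set_option synthInstance.maxSize 4096
set_option maxHeartbeats 2000000

/-! Further kernel-checked certificates for the trio stabiliser: multiplicativity on generators,
generation, and disjointness. -/

namespace Cfsg.Agent.helper28.Trio

open Cfsg Cfsg.Agent.helper2.Golay Cfsg.Agent.helper28.M24orb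

/-- three-by-three matrices over the field of two elements as tuples -/
abbrev M9 : Type := ZMod 2 × ZMod 2 × ZMod 2 × ZMod 2 × ZMod 2 × ZMod 2 × ZMod 2 × ZMod 2 × ZMod 2

/-- matrix product on tuples -/
def mul9 (a b : M9) : M9 :=
  (a.1 * b.1 + a.2.1 * b.2.2.2.1 + a.2.2.1 * b.2.2.2.2.2.2.1,
   a.1 * b.2.1 + a.2.1 * b.2.2.2.2.1 + a.2.2.1 * b.2.2.2.2.2.2.2.1,
   a.1 * b.2.2.1 + a.2.1 * b.2.2.2.2.2.1 + a.2.2.1 * b.2.2.2.2.2.2.2.2,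
   a.2.2.2.1 * b.1 + a.2.2.2.2.1 * b.2.2.2.1 + a.2.2.2.2.2.1 * b.2.2.2.2.2.2.1,
   a.2.2.2.1 * b.2.1 + a.2.2.2.2.1 * b.2.2.2.2.1 + a.2.2.2.2.2.1 * b.2.2.2.2.2.2.2.1,
   a.2.2.2.1 * b.2.2.1 + a.2.2.2.2.1 * b.2.2.2.2.2.1 + a.2.2.2.2.2.1 * b.2.2.2.2.2.2.2.2,
   a.2.2.2.2.2.2.1 * b.1 + a.2.2.2.2.2.2.2.1 * b.2.2.2.1 + a.2.2.2.2.2.2.2.2 * b.2.2.2.2.2.2.1,
   a.2.2.2.2.2.2.1 * b.2.1 + a.2.2.2.2.2.2.2.1 * b.2.2.2.2.1 +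
     a.2.2.2.2.2.2.2.2 * b.2.2.2.2.2.2.2.1,
   a.2.2.2.2.2.2.1 * b.2.2.1 + a.2.2.2.2.2.2.2.1 * b.2.2.2.2.2.1 +
     a.2.2.2.2.2.2.2.2 * b.2.2.2.2.2.2.2.2)

/-- the identity matrix -/
def one9 : M9 := (1, 0, 0, 0, 1, 0, 0, 0, 1)

/-- the two generators -/
def gen9 : Bool → M9
  | false => (1, 1, 0, 0, 1, 0, 0, 0, 1)
  | true => (0, 0, 1, 1, 0, 0, 0, 1, 0)

/-- the product of a word in the generators -/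
def evalW (w : List Bool) : M9 := w.foldl (fun acc b => mul9 acc (gen9 b)) one9

/-- table pair of a tuple -/
def T9 (a : M9) : List ℕ × List ℕ :=
  T3 a.1 a.2.1 a.2.2.1 a.2.2.2.1 a.2.2.2.2.1 a.2.2.2.2.2.1 a.2.2.2.2.2.2.1 a.2.2.2.2.2.2.2.1
    a.2.2.2.2.2.2.2.2

/-- the word of a tuple -/
def wordOf (a : M9) : List Bool :=
  wTab.getD (256 * a.1.val + 128 * a.2.1.val + 64 * a.2.2.1.val + 32 * a.2.2.2.1.val +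
    16 * a.2.2.2.2.1.val + 8 * a.2.2.2.2.2.1.val + 4 * a.2.2.2.2.2.2.1.val +
    2 * a.2.2.2.2.2.2.2.1.val + a.2.2.2.2.2.2.2.2.val) []

theorem word_ok_0 : ∀ a01 a02 a10 a11 a12 a20 a21 a22 : ZMod 2, det3 (0 : ZMod 2) a01 a02 a10 a11 a12 a20 a21 a22 ≠ 0 → evalW (wordOf ((0 : ZMod 2), a01, a02, a10, a11, a12, a20, a21, a22)) = ((0 : ZMod 2), a01, a02, a10, a11, a12, a20, a21, a22) := by decide +kernel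

theorem word_ok_1 : ∀ a01 a02 a10 a11 a12 a20 a21 a22 : ZMod 2, det3 (1 : ZMod 2) a01 a02 a10 a11 a12 a20 a21 a22 ≠ 0 → evalW (wordOf ((1 : ZMod 2), a01, a02, a10, a11, a12, a20, a21, a22)) = ((1 : ZMod 2), a01, a02, a10, a11, a12, a20, a21, a22) := by decide +kernel

theorem word_ok : ∀ a00 : ZMod 2, ∀ a01 a02 a10 a11 a12 a20 a21 a22 : ZMod 2, det3 a00 a01 a02 a10 a11 a12 a20 a21 a22 ≠ 0 → evalW (wordOf (a00, a01, a02, a10, a11, a12, a20, a21, a22)) = (a00, a01, a02, a10, a11, a12, a20, a21, a22) := by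
  intro a00
  rcases zmod2_cases a00 with rfl | rfl
  · exact word_ok_0
  · exact word_ok_1

theorem mulgen_ok_0 : ∀ a01 a02 a10 a11 a12 a20 a21 a22 : ZMod 2, det3 (0 : ZMod 2) a01 a02 a10 a11 a12 a20 a21 a22 ≠ 0 → ∀ b : Bool, (T9 (mul9 ((0 : ZMod 2), a01, a02, a10, a11, a12, a20, a21, a22) (gen9 b))).1 = comp (T3 (0 : ZMod 2) a01 a02 a10 a11 a12 a20 a21 a22).1 (T9 (gen9 b)).1 := by decide +kernel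

theorem mulgen_ok_1 : ∀ a01 a02 a10 a11 a12 a20 a21 a22 : ZMod 2, det3 (1 : ZMod 2) a01 a02 a10 a11 a12 a20 a21 a22 ≠ 0 → ∀ b : Bool, (T9 (mul9 ((1 : ZMod 2), a01, a02, a10, a11, a12, a20, a21, a22) (gen9 b))).1 = comp (T3 (1 : ZMod 2) a01 a02 a10 a11 a12 a20 a21 a22).1 (T9 (gen9 b)).1 := by decide +kernel

theorem mulgen_ok : ∀ a00 : ZMod 2, ∀ a01 a02 a10 a11 a12 a20 a21 a22 : ZMod 2, det3 a00 a01 a02 a10 a11 a12 a20 a21 a22 ≠ 0 → ∀ b : Bool, (T9 (mul9 (a00, a01, a02, a10, a11, a12, a20, a21, a22) (gen9 b))).1 = comp (T3 a00 a01 a02 a10 a11 a12 a20 a21 a22).1 (T9 (gen9 b)).1 := by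
  intro a00
  rcases zmod2_cases a00 with rfl | rfl
  · exact mulgen_ok_0
  · exact mulgen_ok_1

theorem one_ok : ∀ k < 24, tb (T9 one9).1 k = k := by decide +kernel

theorem nfix_ok : ∀ x0 x1 x2 y0 y1 y2 : ZMod 2, ∀ i : Fin 3,
    pull (tb (nT6 x0 x1 x2 y0 y1 y2).2) (t0l.getD i.val 0) = t0l.getD i.val 0 := by decide +kernel

theorem Lfix_ok_0 : ∀ a01 a02 a10 a11 a12 a20 a21 a22 : ZMod 2, det3 (0 : ZMod 2) a01 a02 a10 a11 a12 a20 a21 a22 ≠ 0 → ∀ i : Fin 3, pull (tb (T3 (0 : ZMod 2) a01 a02 a10 a11 a12 a20 a21 a22).2) (t0l.getD i.val 0) = t0l.getD i.val 0 := by decide +kernel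

theorem Lfix_ok_1 : ∀ a01 a02 a10 a11 a12 a20 a21 a22 : ZMod 2, det3 (1 : ZMod 2) a01 a02 a10 a11 a12 a20 a21 a22 ≠ 0 → ∀ i : Fin 3, pull (tb (T3 (1 : ZMod 2) a01 a02 a10 a11 a12 a20 a21 a22).2) (t0l.getD i.val 0) = t0l.getD i.val 0 := by decide +kernel

theorem Lfix_ok : ∀ a00 : ZMod 2, ∀ a01 a02 a10 a11 a12 a20 a21 a22 : ZMod 2, det3 a00 a01 a02 a10 a11 a12 a20 a21 a22 ≠ 0 → ∀ i : Fin 3, pull (tb (T3 a00 a01 a02 a10 a11 a12 a20 a21 a22).2) (t0l.getD i.val 0) = t0l.getD i.val 0 := by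
  intro a00
  rcases zmod2_cases a00 with rfl | rfl
  · exact Lfix_ok_0
  · exact Lfix_ok_1

theorem disjL_ok_0_0_0 : ∀ a10 a11 a12 a20 a21 a22 : ZMod 2, det3 (0 : ZMod 2) (0 : ZMod 2) (0 : ZMod 2) a10 a11 a12 a20 a21 a22 ≠ 0 → ∀ x0 x1 x2 y0 y1 y2 : ZMod 2, (∀ k < 24, tb (nT6 x0 x1 x2 y0 y1 y2).1 k = tb (T3 (0 : ZMod 2) (0 : ZMod 2) (0 : ZMod 2) a10 a11 a12 a20 a21 a22).1 k) → (x0 = 0 ∧ x1 = 0 ∧ x2 = 0 ∧ y0 = 0 ∧ y1 = 0 ∧ y2 = 0) ∧ ((0 : ZMod 2) = 1 ∧ (0 : ZMod 2) = 0 ∧ (0 : ZMod 2) = 0 ∧ a10 = 0 ∧ a11 = 1 ∧ a12 = 0 ∧ a20 = 0 ∧ a21 = 0 ∧ a22 = 1) := by decide +kernel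

theorem disjL_ok_0_0_1 : ∀ a10 a11 a12 a20 a21 a22 : ZMod 2, det3 (0 : ZMod 2) (0 : ZMod 2) (1 : ZMod 2) a10 a11 a12 a20 a21 a22 ≠ 0 → ∀ x0 x1 x2 y0 y1 y2 : ZMod 2, (∀ k < 24, tb (nT6 x0 x1 x2 y0 y1 y2).1 k = tb (T3 (0 : ZMod 2) (0 : ZMod 2) (1 : ZMod 2) a10 a11 a12 a20 a21 a22).1 k) → (x0 = 0 ∧ x1 = 0 ∧ x2 = 0 ∧ y0 = 0 ∧ y1 = 0 ∧ y2 = 0) ∧ ((0 : ZMod 2) = 1 ∧ (0 : ZMod 2) = 0 ∧ (1 : ZMod 2) = 0 ∧ a10 = 0 ∧ a11 = 1 ∧ a12 = 0 ∧ a20 = 0 ∧ a21 = 0 ∧ a22 = 1) := by decide +kernel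

theorem disjL_ok_0_1_0 : ∀ a10 a11 a12 a20 a21 a22 : ZMod 2, det3 (0 : ZMod 2) (1 : ZMod 2) (0 : ZMod 2) a10 a11 a12 a20 a21 a22 ≠ 0 → ∀ x0 x1 x2 y0 y1 y2 : ZMod 2, (∀ k < 24, tb (nT6 x0 x1 x2 y0 y1 y2).1 k = tb (T3 (0 : ZMod 2) (1 : ZMod 2) (0 : ZMod 2) a10 a11 a12 a20 a21 a22).1 k) → (x0 = 0 ∧ x1 = 0 ∧ x2 = 0 ∧ y0 = 0 ∧ y1 = 0 ∧ y2 = 0) ∧ ((0 : ZMod 2) = 1 ∧ (1 : ZMod 2) = 0 ∧ (0 : ZMod 2) = 0 ∧ a10 = 0 ∧ a11 = 1 ∧ a12 = 0 ∧ a20 = 0 ∧ a21 = 0 ∧ a22 = 1) := by decide +kernel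

theorem disjL_ok_0_1_1 : ∀ a10 a11 a12 a20 a21 a22 : ZMod 2, det3 (0 : ZMod 2) (1 : ZMod 2) (1 : ZMod 2) a10 a11 a12 a20 a21 a22 ≠ 0 → ∀ x0 x1 x2 y0 y1 y2 : ZMod 2, (∀ k < 24, tb (nT6 x0 x1 x2 y0 y1 y2).1 k = tb (T3 (0 : ZMod 2) (1 : ZMod 2) (1 : ZMod 2) a10 a11 a12 a20 a21 a22).1 k) → (x0 = 0 ∧ x1 = 0 ∧ x2 = 0 ∧ y0 = 0 ∧ y1 = 0 ∧ y2 = 0) ∧ ((0 : ZMod 2) = 1 ∧ (1 : ZMod 2) = 0 ∧ (1 : ZMod 2) = 0 ∧ a10 = 0 ∧ a11 = 1 ∧ a12 = 0 ∧ a20 = 0 ∧ a21 = 0 ∧ a22 = 1) := by decide +kernel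

theorem disjL_ok_1_0_0 : ∀ a10 a11 a12 a20 a21 a22 : ZMod 2, det3 (1 : ZMod 2) (0 : ZMod 2) (0 : ZMod 2) a10 a11 a12 a20 a21 a22 ≠ 0 → ∀ x0 x1 x2 y0 y1 y2 : ZMod 2, (∀ k < 24, tb (nT6 x0 x1 x2 y0 y1 y2).1 k = tb (T3 (1 : ZMod 2) (0 : ZMod 2) (0 : ZMod 2) a10 a11 a12 a20 a21 a22).1 k) → (x0 = 0 ∧ x1 = 0 ∧ x2 = 0 ∧ y0 = 0 ∧ y1 = 0 ∧ y2 = 0) ∧ ((1 : ZMod 2) = 1 ∧ (0 : ZMod 2) = 0 ∧ (0 : ZMod 2) = 0 ∧ a10 = 0 ∧ a11 = 1 ∧ a12 = 0 ∧ a20 = 0 ∧ a21 = 0 ∧ a22 = 1) := by decide +kernel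

theorem disjL_ok_1_0_1 : ∀ a10 a11 a12 a20 a21 a22 : ZMod 2, det3 (1 : ZMod 2) (0 : ZMod 2) (1 : ZMod 2) a10 a11 a12 a20 a21 a22 ≠ 0 → ∀ x0 x1 x2 y0 y1 y2 : ZMod 2, (∀ k < 24, tb (nT6 x0 x1 x2 y0 y1 y2).1 k = tb (T3 (1 : ZMod 2) (0 : ZMod 2) (1 : ZMod 2) a10 a11 a12 a20 a21 a22).1 k) → (x0 = 0 ∧ x1 = 0 ∧ x2 = 0 ∧ y0 = 0 ∧ y1 = 0 ∧ y2 = 0) ∧ ((1 : ZMod 2) = 1 ∧ (0 : ZMod 2) = 0 ∧ (1 : ZMod 2) = 0 ∧ a10 = 0 ∧ a11 = 1 ∧ a12 = 0 ∧ a20 = 0 ∧ a21 = 0 ∧ a22 = 1) := by decide +kernel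

theorem disjL_ok_1_1_0 : ∀ a10 a11 a12 a20 a21 a22 : ZMod 2, det3 (1 : ZMod 2) (1 : ZMod 2) (0 : ZMod 2) a10 a11 a12 a20 a21 a22 ≠ 0 → ∀ x0 x1 x2 y0 y1 y2 : ZMod 2, (∀ k < 24, tb (nT6 x0 x1 x2 y0 y1 y2).1 k = tb (T3 (1 : ZMod 2) (1 : ZMod 2) (0 : ZMod 2) a10 a11 a12 a20 a21 a22).1 k) → (x0 = 0 ∧ x1 = 0 ∧ x2 = 0 ∧ y0 = 0 ∧ y1 = 0 ∧ y2 = 0) ∧ ((1 : ZMod 2) = 1 ∧ (1 : ZMod 2) = 0 ∧ (0 : ZMod 2) = 0 ∧ a10 = 0 ∧ a11 = 1 ∧ a12 = 0 ∧ a20 = 0 ∧ a21 = 0 ∧ a22 = 1) := by decide +kernel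

theorem disjL_ok_1_1_1 : ∀ a10 a11 a12 a20 a21 a22 : ZMod 2, det3 (1 : ZMod 2) (1 : ZMod 2) (1 : ZMod 2) a10 a11 a12 a20 a21 a22 ≠ 0 → ∀ x0 x1 x2 y0 y1 y2 : ZMod 2, (∀ k < 24, tb (nT6 x0 x1 x2 y0 y1 y2).1 k = tb (T3 (1 : ZMod 2) (1 : ZMod 2) (1 : ZMod 2) a10 a11 a12 a20 a21 a22).1 k) → (x0 = 0 ∧ x1 = 0 ∧ x2 = 0 ∧ y0 = 0 ∧ y1 = 0 ∧ y2 = 0) ∧ ((1 : ZMod 2) = 1 ∧ (1 : ZMod 2) = 0 ∧ (1 : ZMod 2) = 0 ∧ a10 = 0 ∧ a11 = 1 ∧ a12 = 0 ∧ a20 = 0 ∧ a21 = 0 ∧ a22 = 1) := by decide +kernel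

theorem disjL_ok : ∀ a00 a01 a02 : ZMod 2, ∀ a10 a11 a12 a20 a21 a22 : ZMod 2, det3 a00 a01 a02 a10 a11 a12 a20 a21 a22 ≠ 0 → ∀ x0 x1 x2 y0 y1 y2 : ZMod 2, (∀ k < 24, tb (nT6 x0 x1 x2 y0 y1 y2).1 k = tb (T3 a00 a01 a02 a10 a11 a12 a20 a21 a22).1 k) → (x0 = 0 ∧ x1 = 0 ∧ x2 = 0 ∧ y0 = 0 ∧ y1 = 0 ∧ y2 = 0) ∧ (a00 = 1 ∧ a01 = 0 ∧ a02 = 0 ∧ a10 = 0 ∧ a11 = 1 ∧ a12 = 0 ∧ a20 = 0 ∧ a21 = 0 ∧ a22 = 1) := by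
  intro a00 a01 a02
  rcases zmod2_cases a00 with rfl | rfl
  · rcases zmod2_cases a01 with rfl | rfl
    · rcases zmod2_cases a02 with rfl | rfl
      · exact disjL_ok_0_0_0
      · exact disjL_ok_0_0_1
    · rcases zmod2_cases a02 with rfl | rfl
      · exact disjL_ok_0_1_0
      · exact disjL_ok_0_1_1
  · rcases zmod2_cases a01 with rfl | rfl
    · rcases zmod2_cases a02 with rfl | rfl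
      · exact disjL_ok_1_0_0
      · exact disjL_ok_1_0_1
    · rcases zmod2_cases a02 with rfl | rfl
      · exact disjL_ok_1_1_0
      · exact disjL_ok_1_1_1

end Cfsg.Agent.helper28.Trio
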