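import Mathlib
import Cfsg.Agent.Lib_helper28_TrioCert2
import Cfsg.Agent.Lib_helper28_SplitExt
import Cfsg.Agent.Lib_helper28_GL23
import Cfsg.Agent.Lib_helper28_M24orbB
import Cfsg.Agent.Lib_helper2_Elt

set_option autoImplicit false

/-! The stabiliser of a trio in `M24` is `2^6 : (GL(3,2) × S3)`. -/

namespace Cfsg.Agent.helper28.Trio

open Cfsg MulAction Cfsg.Agent.helper2.Golay Cfsg.Agent.helper28.M24orb
open scoped Pointwise

/-! ### order -/

theorem orbit_trio {T : Finset (Finset GolayPt)} (hT : T ∈ trios) : orbit ↥M24 T = trios := by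
  ext T'
  constructor
  · rintro ⟨k, rfl⟩
    exact smul_mem_trios k.2 hT
  · intro hT'
    obtain ⟨g, hg, hgT⟩ := trios_transitive hT hT'
    exact ⟨⟨g, hg⟩, hgT⟩

theorem card_stab_trio {T : Finset (Finset GolayPt)} (hT : T ∈ trios) :
    Nat.card ↥(stabilizer ↥M24 T) = 64512 := by
  have h1 := MulAction.index_stabilizer ↥M24 T
  rw [orbit_trio hT, ncard_trios] at h1
  have h2 := Subgroup.index_mul_card (stabilizer ↥M24 T)
  rw [h1, card_M24] at h2
  omega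

/-! ### the base group -/

/-- the base trio stabiliser -/
abbrev G0 : Subgroup ↥M24 := stabilizer ↥M24 T0

theorem mem_G0_iff (k : ↥M24) : k ∈ G0 ↔ (k : Equiv.Perm GolayPt) • T0 = T0 := Iff.rfl

theorem good3_spec {d : List ℕ × List ℕ} (h : good3 d = true) : tablesOK d.1 d.2 = true ∧
    gperm d ∈ M24 ∧ gperm d • T0 = T0 := by
  unfold good3 at h
  simp only [Bool.and_eq_true] at h
  obtain ⟨⟨h1, h2⟩, h3⟩ := h
  refine ⟨h1, gperm_mem h1 h2, ?_⟩
  rw [T0, smul_ofMasks h1]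
  exact famFin_eq_of_sameSet h3

/-- package a good table pair as an element of the base group -/
noncomputable def mk0 (d : List ℕ × List ℕ) (h : good3 d = true) : ↥G0 :=
  ⟨⟨gperm d, (good3_spec h).2.1⟩, (mem_G0_iff _).2 (good3_spec h).2.2⟩

theorem mk0_val (d : List ℕ × List ℕ) (h : good3 d = true) :
    (((mk0 d h : ↥G0) : ↥M24) : Equiv.Perm GolayPt) = gperm d := rfl

theorem G0_ext {k k' : ↥G0}
    (h : (((k : ↥G0) : ↥M24) : Equiv.Perm GolayPt) = (((k' : ↥G0) : ↥M24) : Equiv.Perm GolayPt)) :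
    k = k' := by
  apply Subtype.ext
  apply Subtype.ext
  exact h

theorem mk0_mul {d e f : List ℕ × List ℕ} (hd : good3 d = true) (he : good3 e = true)
    (hf : good3 f = true) (h : f.1 = comp d.1 e.1) : mk0 f hf = mk0 d hd * mk0 e he := by
  apply G0_ext
  show gperm f = gperm d * gperm e
  rw [← gperm_compD (good3_spec hd).1 (good3_spec he).1]
  exact gperm_eq_of_fst (good3_spec hf).1 (tablesOK_compD (good3_spec hd).1 (good3_spec he).1) h

theorem mk0_swap {d e d' e' : List ℕ × List ℕ} (hd : good3 d = true) (he : good3 e = true)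
    (hd' : good3 d' = true) (he' : good3 e' = true) (h : comp d.1 e.1 = comp d'.1 e'.1) :
    mk0 d hd * mk0 e he = mk0 d' hd' * mk0 e' he' := by
  apply G0_ext
  show gperm d * gperm e = gperm d' * gperm e'
  rw [← gperm_compD (good3_spec hd).1 (good3_spec he).1,
    ← gperm_compD (good3_spec hd').1 (good3_spec he').1]
  exact gperm_eq_of_fst (tablesOK_compD (good3_spec hd).1 (good3_spec he).1)
    (tablesOK_compD (good3_spec hd').1 (good3_spec he').1) h

theorem mk0_tb {d e f : List ℕ × List ℕ} (hd : good3 d = true) (he : good3 e = true)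
    (hf : good3 f = true) (h : mk0 d hd = mk0 e he * mk0 f hf) :
    ∀ k < 24, tb d.1 k = tb (comp e.1 f.1) k := by
  intro k hk
  have h2 := congrArg (fun g : ↥G0 => idx ((((g : ↥G0) : ↥M24) : Equiv.Perm GolayPt) (pt k))) h
  have h3 : (((mk0 e he * mk0 f hf : ↥G0) : ↥M24) : Equiv.Perm GolayPt) =
      gperm (compD e f) := by
    rw [gperm_compD (good3_spec he).1 (good3_spec hf).1]
    rfl
  simp only [mk0_val, h3] at h2
  have hc := tablesOK_compD (good3_spec he).1 (good3_spec hf).1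
  rw [gperm_pt (good3_spec hd).1 hk, gperm_pt hc hk,
    idx_pt _ (tablesOK_spec (good3_spec hd).1 k hk).1, idx_pt _ (tablesOK_spec hc k hk).1] at h2
  exact h2

/-! ### the complement -/

theorem det3_ne (A : GL (Fin 3) (ZMod 2)) :
    det3 ((A : Matrix (Fin 3) (Fin 3) (ZMod 2)) 0 0) ((A : Matrix (Fin 3) (Fin 3) (ZMod 2)) 0 1)
      ((A : Matrix (Fin 3) (Fin 3) (ZMod 2)) 0 2) ((A : Matrix (Fin 3) (Fin 3) (ZMod 2)) 1 0)
      ((A : Matrix (Fin 3) (Fin 3) (ZMod 2)) 1 1) ((A : Matrix (Fin 3) (Fin 3) (ZMod 2)) 1 2)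
      ((A : Matrix (Fin 3) (Fin 3) (ZMod 2)) 2 0) ((A : Matrix (Fin 3) (Fin 3) (ZMod 2)) 2 1)
      ((A : Matrix (Fin 3) (Fin 3) (ZMod 2)) 2 2) ≠ 0 := by
  have h : (Matrix.GeneralLinearGroup.det A : ZMod 2) ≠ 0 := Units.ne_zero _
  rw [Matrix.GeneralLinearGroup.val_det_apply, Matrix.det_fin_three] at h
  exact h

/-- the table pair of an invertible matrix -/
def TA (A : GL (Fin 3) (ZMod 2)) : List ℕ × List ℕ :=
  T3 ((A : Matrix (Fin 3) (Fin 3) (ZMod 2)) 0 0) ((A : Matrix (Fin 3) (Fin 3) (ZMod 2)) 0 1)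
      ((A : Matrix (Fin 3) (Fin 3) (ZMod 2)) 0 2) ((A : Matrix (Fin 3) (Fin 3) (ZMod 2)) 1 0)
      ((A : Matrix (Fin 3) (Fin 3) (ZMod 2)) 1 1) ((A : Matrix (Fin 3) (Fin 3) (ZMod 2)) 1 2)
      ((A : Matrix (Fin 3) (Fin 3) (ZMod 2)) 2 0) ((A : Matrix (Fin 3) (Fin 3) (ZMod 2)) 2 1)
      ((A : Matrix (Fin 3) (Fin 3) (ZMod 2)) 2 2)

theorem TA_ok (A : GL (Fin 3) (ZMod 2)) : good3 (TA A) = true :=
  T3_ok _ _ _ _ _ _ _ _ _ (det3_ne A)

/-- tuple of a matrix -/
def toM9 (A : Matrix (Fin 3) (Fin 3) (ZMod 2)) : M9 :=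
  (A 0 0, A 0 1, A 0 2, A 1 0, A 1 1, A 1 2, A 2 0, A 2 1, A 2 2)

/-- matrix of a tuple -/
def mat9 (a : M9) : Matrix (Fin 3) (Fin 3) (ZMod 2) :=
  !![a.1, a.2.1, a.2.2.1; a.2.2.2.1, a.2.2.2.2.1, a.2.2.2.2.2.1;
     a.2.2.2.2.2.2.1, a.2.2.2.2.2.2.2.1, a.2.2.2.2.2.2.2.2]

theorem toM9_mat9 (a : M9) : toM9 (mat9 a) = a := rfl

theorem toM9_inj {A B : Matrix (Fin 3) (Fin 3) (ZMod 2)} (h : toM9 A = toM9 B) : A = B := by
  unfold toM9 at h
  simp only [Prod.mk.injEq] at h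
  obtain ⟨h00, h01, h02, h10, h11, h12, h20, h21, h22⟩ := h
  ext i j
  fin_cases i <;> fin_cases j
  · exact h00
  · exact h01
  · exact h02
  · exact h10
  · exact h11
  · exact h12
  · exact h20
  · exact h21
  · exact h22

theorem toM9_mul (A B : Matrix (Fin 3) (Fin 3) (ZMod 2)) :
    toM9 (A * B) = mul9 (toM9 A) (toM9 B) := by
  unfold toM9 mul9
  simp only [Matrix.mul_apply, Fin.sum_univ_three]

theorem toM9_one : toM9 (1 : Matrix (Fin 3) (Fin 3) (ZMod 2)) = one9 := by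
  unfold toM9 one9
  simp

theorem TA_eq (A : GL (Fin 3) (ZMod 2)) :
    TA A = T9 (toM9 (A : Matrix (Fin 3) (Fin 3) (ZMod 2))) := rfl

theorem gen_det (b : Bool) : (mat9 (gen9 b)).det ≠ 0 := by
  rw [Matrix.det_fin_three]
  cases b <;> decide

/-- the generators as invertible matrices -/
noncomputable def Gb (b : Bool) : GL (Fin 3) (ZMod 2) :=
  Matrix.GeneralLinearGroup.mkOfDetNeZero (mat9 (gen9 b)) (gen_det b)

theorem Gb_val (b : Bool) : ((Gb b : GL (Fin 3) (ZMod 2)) : Matrix (Fin 3) (Fin 3) (ZMod 2)) =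
    mat9 (gen9 b) := rfl

theorem toM9_Gb (b : Bool) :
    toM9 ((Gb b : GL (Fin 3) (ZMod 2)) : Matrix (Fin 3) (Fin 3) (ZMod 2)) = gen9 b := by
  rw [Gb_val, toM9_mat9]

theorem foldl_toM9 (w : List Bool) (X : GL (Fin 3) (ZMod 2)) :
    toM9 ((w.foldl (fun acc b => acc * Gb b) X : GL (Fin 3) (ZMod 2)) :
      Matrix (Fin 3) (Fin 3) (ZMod 2)) =
      w.foldl (fun acc b => mul9 acc (gen9 b)) (toM9 (X : Matrix (Fin 3) (Fin 3) (ZMod 2))) := by
  induction w generalizing X with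
  | nil => rfl
  | cons b w ih =>
    rw [List.foldl_cons, List.foldl_cons, ih, Matrix.GeneralLinearGroup.coe_mul, toM9_mul, toM9_Gb]

theorem foldl_mem (w : List Bool) (X : GL (Fin 3) (ZMod 2))
    (hX : X ∈ Submonoid.closure (Set.range Gb)) :
    w.foldl (fun acc b => acc * Gb b) X ∈ Submonoid.closure (Set.range Gb) := by
  induction w generalizing X with
  | nil => exact hX
  | cons b w ih =>
    rw [List.foldl_cons]
    exact ih _ (Submonoid.mul_mem _ hX (Submonoid.subset_closure ⟨b, rfl⟩))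

theorem gen_top : Submonoid.closure (Set.range Gb) = ⊤ := by
  rw [eq_top_iff]
  intro A _
  have h := word_ok _ _ _ _ _ _ _ _ _ (det3_ne A)
  have h2 := foldl_toM9 (wordOf (toM9 (A : Matrix (Fin 3) (Fin 3) (ZMod 2)))) 1
  rw [Matrix.GeneralLinearGroup.coe_one, toM9_one] at h2
  have h3 : toM9 (((wordOf (toM9 (A : Matrix (Fin 3) (Fin 3) (ZMod 2)))).foldl
      (fun acc b => acc * Gb b) 1 : GL (Fin 3) (ZMod 2)) : Matrix (Fin 3) (Fin 3) (ZMod 2)) =
      toM9 (A : Matrix (Fin 3) (Fin 3) (ZMod 2)) := by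
    rw [h2]
    exact h
  have h4 : (wordOf (toM9 (A : Matrix (Fin 3) (Fin 3) (ZMod 2)))).foldl
      (fun acc b => acc * Gb b) 1 = A := Units.ext (toM9_inj h3)
  rw [← h4]
  exact foldl_mem _ _ (Submonoid.one_mem _)

/-- multiplicativity from multiplicativity against generators -/
theorem mul_of_gens {G H : Type*} [Group G] [Group H] (f : G → H) (S : Set G) (h1 : f 1 = 1)
    (hS : ∀ g, ∀ s ∈ S, f (g * s) = f g * f s) (hgen : Submonoid.closure S = ⊤) :
    ∀ g h, f (g * h) = f g * f h := by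
  intro g h
  have hmem : h ∈ Submonoid.closure S := by rw [hgen]; trivial
  induction hmem using Submonoid.closure_induction generalizing g with
  | mem s hs => exact hS g s hs
  | one => rw [mul_one, h1, mul_one]
  | mul a b _ _ iha ihb => rw [← mul_assoc, ihb (g * a), iha g, ihb a, mul_assoc]

theorem f1_one : mk0 (TA 1) (TA_ok 1) = 1 := by
  apply G0_ext
  show gperm (TA 1) = 1
  apply Equiv.Perm.ext
  intro q
  rw [gperm_apply (good3_spec (TA_ok 1)).1, TA_eq, Matrix.GeneralLinearGroup.coe_one, toM9_one,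
    one_ok _ (idx_lt q), pt_idx]
  rfl

theorem f1_gen (g : GL (Fin 3) (ZMod 2)) (b : Bool) :
    mk0 (TA (g * Gb b)) (TA_ok _) = mk0 (TA g) (TA_ok g) * mk0 (TA (Gb b)) (TA_ok _) := by
  apply mk0_mul
  rw [TA_eq, TA_eq (Gb b), Matrix.GeneralLinearGroup.coe_mul, toM9_mul, toM9_Gb]
  exact mulgen_ok _ _ _ _ _ _ _ _ _ (det3_ne g) b

/-- the copy of `GL(3,2)` -/
noncomputable def f1 : GL (Fin 3) (ZMod 2) →* ↥G0 :=
  MonoidHom.mk' (fun A => mk0 (TA A) (TA_ok A))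
    (mul_of_gens (fun A => mk0 (TA A) (TA_ok A)) (Set.range Gb) f1_one
      (by rintro g _ ⟨b, rfl⟩; exact f1_gen g b) gen_top)

theorem f1_apply (A : GL (Fin 3) (ZMod 2)) : f1 A = mk0 (TA A) (TA_ok A) := rfl

/-- the copy of the symmetric group of degree 3 -/
noncomputable def f2 : Equiv.Perm (Fin 3) →* ↥G0 :=
  MonoidHom.mk' (fun σ => mk0 (sT σ) (sT_ok σ)) (by
    intro σ τ
    apply mk0_mul
    exact smul_ok σ τ)

theorem f2_apply (σ : Equiv.Perm (Fin 3)) : f2 σ = mk0 (sT σ) (sT_ok σ) := rfl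

theorem f12_comm (A : GL (Fin 3) (ZMod 2)) (σ : Equiv.Perm (Fin 3)) :
    Commute (f1 A) (f2 σ) := by
  show f1 A * f2 σ = f2 σ * f1 A
  rw [f1_apply, f2_apply]
  apply mk0_swap
  exact comm_ok _ _ _ _ _ _ _ _ _ (det3_ne A) σ

/-- the complement -/
noncomputable def fK : GL (Fin 3) (ZMod 2) × Equiv.Perm (Fin 3) →* ↥G0 :=
  f1.noncommCoprod f2 f12_comm

theorem fK_apply (k : GL (Fin 3) (ZMod 2) × Equiv.Perm (Fin 3)) : fK k = f1 k.1 * f2 k.2 :=
  MonoidHom.noncommCoprod_apply _ _ _ _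

/-! ### the normal subgroup -/

/-- six coordinates over the field of two elements -/
abbrev V6 : Type := ZMod 2 × ZMod 2 × ZMod 2 × ZMod 2 × ZMod 2 × ZMod 2

/-- table pair of a vector -/
def nV (v : V6) : List ℕ × List ℕ := nT6 v.1 v.2.1 v.2.2.1 v.2.2.2.1 v.2.2.2.2.1 v.2.2.2.2.2

theorem nV_ok (v : V6) : good3 (nV v) = true := nT6_ok _ _ _ _ _ _

/-- the normal subgroup as a homomorphism -/
noncomputable def fN : Multiplicative V6 →* ↥G0 :=
  MonoidHom.mk' (fun v => mk0 (nV (Multiplicative.toAdd v)) (nV_ok _)) (by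
    intro v w
    apply mk0_mul
    exact nmul6_ok _ _ _ _ _ _ _ _ _ _ _ _)

theorem fN_apply (v : Multiplicative V6) : fN v = mk0 (nV (Multiplicative.toAdd v)) (nV_ok _) := rfl

/-- action of a matrix -/
def actL (A : GL (Fin 3) (ZMod 2)) (v : V6) : V6 :=
  ((A : Matrix (Fin 3) (Fin 3) (ZMod 2)) 0 0 * v.1 + (A : Matrix (Fin 3) (Fin 3) (ZMod 2)) 0 1 * v.2.1 +
      (A : Matrix (Fin 3) (Fin 3) (ZMod 2)) 0 2 * v.2.2.1,
   (A : Matrix (Fin 3) (Fin 3) (ZMod 2)) 1 0 * v.1 + (A : Matrix (Fin 3) (Fin 3) (ZMod 2)) 1 1 * v.2.1 +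
      (A : Matrix (Fin 3) (Fin 3) (ZMod 2)) 1 2 * v.2.2.1,
   (A : Matrix (Fin 3) (Fin 3) (ZMod 2)) 2 0 * v.1 + (A : Matrix (Fin 3) (Fin 3) (ZMod 2)) 2 1 * v.2.1 +
      (A : Matrix (Fin 3) (Fin 3) (ZMod 2)) 2 2 * v.2.2.1,
   (A : Matrix (Fin 3) (Fin 3) (ZMod 2)) 0 0 * v.2.2.2.1 +
      (A : Matrix (Fin 3) (Fin 3) (ZMod 2)) 0 1 * v.2.2.2.2.1 +
      (A : Matrix (Fin 3) (Fin 3) (ZMod 2)) 0 2 * v.2.2.2.2.2,
   (A : Matrix (Fin 3) (Fin 3) (ZMod 2)) 1 0 * v.2.2.2.1 +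
      (A : Matrix (Fin 3) (Fin 3) (ZMod 2)) 1 1 * v.2.2.2.2.1 +
      (A : Matrix (Fin 3) (Fin 3) (ZMod 2)) 1 2 * v.2.2.2.2.2,
   (A : Matrix (Fin 3) (Fin 3) (ZMod 2)) 2 0 * v.2.2.2.1 +
      (A : Matrix (Fin 3) (Fin 3) (ZMod 2)) 2 1 * v.2.2.2.2.1 +
      (A : Matrix (Fin 3) (Fin 3) (ZMod 2)) 2 2 * v.2.2.2.2.2)

/-- action of a permutation of three letters -/
def actS (σ : Equiv.Perm (Fin 3)) (v : V6) : V6 :=
  ((bM σ).1 * v.1 + (bM σ).2.1 * v.2.2.2.1, (bM σ).1 * v.2.1 + (bM σ).2.1 * v.2.2.2.2.1,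
   (bM σ).1 * v.2.2.1 + (bM σ).2.1 * v.2.2.2.2.2,
   (bM σ).2.2.1 * v.1 + (bM σ).2.2.2 * v.2.2.2.1, (bM σ).2.2.1 * v.2.1 + (bM σ).2.2.2 * v.2.2.2.2.1,
   (bM σ).2.2.1 * v.2.2.1 + (bM σ).2.2.2 * v.2.2.2.2.2)

theorem conjL (A : GL (Fin 3) (ZMod 2)) (v : Multiplicative V6) :
    f1 A * fN v = fN (Multiplicative.ofAdd (actL A (Multiplicative.toAdd v))) * f1 A := by
  rw [f1_apply, fN_apply, fN_apply]
  apply mk0_swap
  exact conjL_ok _ _ _ _ _ _ _ _ _ (det3_ne A) _ _ _ _ _ _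

theorem conjS (σ : Equiv.Perm (Fin 3)) (v : Multiplicative V6) :
    f2 σ * fN v = fN (Multiplicative.ofAdd (actS σ (Multiplicative.toAdd v))) * f2 σ := by
  rw [f2_apply, fN_apply, fN_apply]
  apply mk0_swap
  exact conjS_ok σ _ _ _ _ _ _

/-- the action of the complement -/
def act (k : GL (Fin 3) (ZMod 2) × Equiv.Perm (Fin 3)) (v : Multiplicative V6) :
    Multiplicative V6 :=
  Multiplicative.ofAdd (actL k.1 (actS k.2 (Multiplicative.toAdd v)))

theorem conj_rel (k : GL (Fin 3) (ZMod 2) × Equiv.Perm (Fin 3)) (v : Multiplicative V6) :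
    fK k * fN v = fN (act k v) * fK k := by
  rw [fK_apply, mul_assoc, conjS, ← mul_assoc, conjL, mul_assoc]
  rfl

theorem t0l_get_inj : ∀ i j : Fin 3, t0l.getD i.val 0 = t0l.getD j.val 0 → i = j := by decide

theorem t0l_get_lt : ∀ i : Fin 3, t0l.getD i.val 0 < 2 ^ 24 := by decide

theorem t0l_get_mem : ∀ i : Fin 3, t0l.getD i.val 0 ∈ t0l := by decide

/-- the complement permutes the three octads as prescribed -/
theorem f2_oct (σ : Equiv.Perm (Fin 3)) (i : Fin 3) :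
    (((f2 σ : ↥G0) : ↥M24) : Equiv.Perm GolayPt) • pts (t0l.getD i.val 0) =
      pts (t0l.getD (σ i).val 0) := by
  rw [f2_apply, mk0_val, gperm_smul_pts (good3_spec (sT_ok σ)).1, perm_ok σ i]

theorem f1_oct (A : GL (Fin 3) (ZMod 2)) (i : Fin 3) :
    (((f1 A : ↥G0) : ↥M24) : Equiv.Perm GolayPt) • pts (t0l.getD i.val 0) =
      pts (t0l.getD i.val 0) := by
  rw [f1_apply, mk0_val, gperm_smul_pts (good3_spec (TA_ok A)).1]
  unfold TA
  rw [Lfix_ok _ _ _ _ _ _ _ _ _ (det3_ne A)]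

theorem fN_oct (v : Multiplicative V6) (i : Fin 3) :
    (((fN v : ↥G0) : ↥M24) : Equiv.Perm GolayPt) • pts (t0l.getD i.val 0) =
      pts (t0l.getD i.val 0) := by
  rw [fN_apply, mk0_val, gperm_smul_pts (good3_spec (nV_ok _)).1]
  unfold nV
  rw [nfix_ok]

theorem mk0_tb2 {d e : List ℕ × List ℕ} (hd : good3 d = true) (he : good3 e = true)
    (h : mk0 d hd = mk0 e he) : ∀ k < 24, tb d.1 k = tb e.1 k := by
  intro k hk
  have h2 := congrArg (fun g : ↥G0 => idx ((((g : ↥G0) : ↥M24) : Equiv.Perm GolayPt) (pt k))) h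
  simp only [mk0_val] at h2
  rw [gperm_pt (good3_spec hd).1 hk, gperm_pt (good3_spec he).1 hk,
    idx_pt _ (tablesOK_spec (good3_spec hd).1 k hk).1,
    idx_pt _ (tablesOK_spec (good3_spec he).1 k hk).1] at h2
  exact h2

theorem disj (k : GL (Fin 3) (ZMod 2) × Equiv.Perm (Fin 3)) (v : Multiplicative V6)
    (h : fN v = fK k) : v = 1 ∧ k = 1 := by
  rw [fK_apply] at h
  have hσ : k.2 = 1 := by
    apply Equiv.ext
    intro i
    have h1 := fN_oct v i
    rw [h] at h1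
    have h2 : (((f1 k.1 * f2 k.2 : ↥G0) : ↥M24) : Equiv.Perm GolayPt) =
        (((f1 k.1 : ↥G0) : ↥M24) : Equiv.Perm GolayPt) *
          (((f2 k.2 : ↥G0) : ↥M24) : Equiv.Perm GolayPt) := rfl
    rw [h2, mul_smul, f2_oct, f1_oct] at h1
    exact (t0l_get_inj _ _ (pts_inj_lt (t0l_get_lt _) (t0l_get_lt _) h1))
  rw [hσ, map_one, mul_one, f1_apply, fN_apply] at h
  obtain ⟨⟨h0, h1, h2, h3, h4, h5⟩, ⟨a00, a01, a02, a10, a11, a12, a20, a21, a22⟩⟩ :=
    disjL_ok _ _ _ _ _ _ _ _ _ (det3_ne k.1) _ _ _ _ _ _ (mk0_tb2 _ _ h)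
  constructor
  · apply Multiplicative.toAdd.injective
    exact Prod.ext h0 (Prod.ext h1 (Prod.ext h2 (Prod.ext h3 (Prod.ext h4 h5))))
  · apply Prod.ext
    · apply Units.ext
      ext i j
      fin_cases i <;> fin_cases j
      · simpa using a00
      · simpa using a01
      · simpa using a02
      · simpa using a10
      · simpa using a11
      · simpa using a12
      · simpa using a20
      · simpa using a21
      · simpa using a22
    · exact hσ

theorem card_V6 : Nat.card (Multiplicative V6) = 64 := by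
  rw [Nat.card_eq_fintype_card, Fintype.card_multiplicative]
  simp only [Fintype.card_prod, ZMod.card]

theorem card_GL32 : Nat.card (GL (Fin 3) (ZMod 2)) = 168 := by
  rw [Matrix.card_GL_field, ZMod.card, Fin.prod_univ_three]
  rfl

theorem card_K : Nat.card (GL (Fin 3) (ZMod 2) × Equiv.Perm (Fin 3)) = 1008 := by
  rw [Nat.card_prod, card_GL32, Nat.card_eq_fintype_card, Fintype.card_perm, Fintype.card_fin]
  rfl

theorem card_G0 : Nat.card ↥G0 = 64512 := card_stab_trio T0_mem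

theorem hcard : Nat.card ↥G0 ≤
    Nat.card (Multiplicative V6) * Nat.card (GL (Fin 3) (ZMod 2) × Equiv.Perm (Fin 3)) := by
  rw [card_G0, card_V6, card_K]

/-- the normal subgroup of order 64 -/
noncomputable def N0 : Subgroup ↥G0 := fN.range

instance N0_normal : N0.Normal :=
  SplitExt.normal_range fK fN act conj_rel disj hcard

theorem card_N0 : Nat.card ↥N0 = 64 := by
  unfold N0
  rw [SplitExt.card_range fK fN disj, card_V6]

theorem N0_sq : ∀ x ∈ N0, x * x = 1 := by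
  rintro x ⟨v, rfl⟩
  rw [← map_mul]
  have h : v * v = 1 := by
    apply Multiplicative.toAdd.injective
    show Multiplicative.toAdd v + Multiplicative.toAdd v = 0
    generalize Multiplicative.toAdd v = a
    revert a
    decide
  rw [h, map_one]

theorem base_quot : Nonempty (↥G0 ⧸ N0 ≃* GL (Fin 3) (ZMod 2) × Equiv.Perm (Fin 3)) := by
  haveI : fN.range.Normal := N0_normal
  exact SplitExt.quot_iso fK fN disj hcard

end Cfsg.Agent.helper28.Trio
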