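import Mathlib
import Cfsg.Agent.Lib_helper28_Trio

set_option autoImplicit false

/-! Transport of the structure of the base trio stabiliser to an arbitrary one. -/

namespace Cfsg.Agent.helper28.Trio

open Cfsg MulAction Cfsg.Agent.helper2.Golay Cfsg.Agent.helper28.M24orb
open scoped Pointwise

theorem main {T : Finset (Finset GolayPt)} (hT : T ∈ trios) :
    (∀ e : Equiv.Perm ↥T, ∃ g ∈ stabilizer ↥M24 T, ∀ o : ↥T,
      (g : Equiv.Perm GolayPt) • (o : Finset GolayPt) = ((e o : ↥T) : Finset GolayPt)) ∧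
    ∃ (N : Subgroup ↥(stabilizer ↥M24 T)) (_ : N.Normal), Nat.card N = 64 ∧
      (∀ x ∈ N, x * x = 1) ∧
      Nonempty (↥(stabilizer ↥M24 T) ⧸ N ≃* GL (Fin 3) (ZMod 2) × Equiv.Perm (Fin 3)) := by
  obtain ⟨g0, hg0, hgT⟩ := trios_transitive hT T0_mem
  constructor
  · intro e
    have hoT : ∀ i : Fin 3, g0⁻¹ • pts (t0l.getD i.val 0) ∈ T := by
      intro i
      have h1 : pts (t0l.getD i.val 0) ∈ T0 := mem_ofMasks.mpr ⟨_, t0l_get_mem i, rfl⟩
      rw [← hgT] at h1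
      have h2 := Finset.smul_mem_smul_finset (a := g0⁻¹) h1
      rwa [inv_smul_smul] at h2
    have hoinj : Function.Injective
        (fun i : Fin 3 => (⟨g0⁻¹ • pts (t0l.getD i.val 0), hoT i⟩ : ↥T)) := by
      intro i j hij
      have h1 : g0⁻¹ • pts (t0l.getD i.val 0) = g0⁻¹ • pts (t0l.getD j.val 0) :=
        congrArg Subtype.val hij
      have h2 : pts (t0l.getD i.val 0) = pts (t0l.getD j.val 0) := MulAction.injective g0⁻¹ h1
      exact t0l_get_inj i j (pts_inj_lt (t0l_get_lt i) (t0l_get_lt j) h2)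
    have hbij : Function.Bijective
        (fun i : Fin 3 => (⟨g0⁻¹ • pts (t0l.getD i.val 0), hoT i⟩ : ↥T)) := by
      rw [Fintype.bijective_iff_injective_and_card]
      refine ⟨hoinj, ?_⟩
      rw [Fintype.card_fin, Fintype.card_coe, hT.1]
    obtain ⟨ι, hι⟩ : ∃ ι : Fin 3 ≃ ↥T, ∀ i, ((ι i : ↥T) : Finset GolayPt) =
        g0⁻¹ • pts (t0l.getD i.val 0) := ⟨Equiv.ofBijective _ hbij, fun i => rfl⟩
    obtain ⟨π, hπ⟩ : ∃ π : Equiv.Perm (Fin 3), ∀ i, e (ι i) = ι (π i) :=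
      ⟨(ι.trans e).trans ι.symm, fun i => by simp⟩
    obtain ⟨k, hkdef⟩ : ∃ k : Equiv.Perm GolayPt,
        k = (((f2 π : ↥G0) : ↥M24) : Equiv.Perm GolayPt) := ⟨_, rfl⟩
    have hk : k ∈ M24 := by rw [hkdef]; exact ((f2 π : ↥G0) : ↥M24).2
    have hkT : k • T0 = T0 := by rw [hkdef]; exact (mem_G0_iff _).1 (f2 π).2
    refine ⟨⟨g0⁻¹ * k * g0,
      Subgroup.mul_mem _ (Subgroup.mul_mem _ (Subgroup.inv_mem _ hg0) hk) hg0⟩, ?_, ?_⟩
    · show (g0⁻¹ * k * g0) • T = T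
      rw [mul_smul, mul_smul, hgT, hkT, ← hgT, inv_smul_smul]
    · intro oo
      obtain ⟨i, rfl⟩ := ι.surjective oo
      rw [hπ, hι, hι]
      show (g0⁻¹ * k * g0) • (g0⁻¹ • pts (t0l.getD i.val 0)) = _
      rw [mul_smul, mul_smul, smul_inv_smul, hkdef, f2_oct π i]
  · have hK : ∀ k : ↥M24, k ∈ stabilizer ↥M24 T ↔
        (⟨g0, hg0⟩ : ↥M24) * k * (⟨g0, hg0⟩ : ↥M24)⁻¹ ∈ G0 := by
      intro k
      rw [mem_G0_iff]
      show (k : Equiv.Perm GolayPt) • T = T ↔ (g0 * (k : Equiv.Perm GolayPt) * g0⁻¹) • T0 = T0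
      rw [← hgT, mul_smul, mul_smul, inv_smul_smul, smul_left_cancel_iff]
    obtain ⟨e, -⟩ : ∃ e : ↥(stabilizer ↥M24 T) ≃* ↥G0,
        e = GL23.conjEquiv _ G0 (⟨g0, hg0⟩ : ↥M24) hK := ⟨_, rfl⟩
    have hn : (Subgroup.map (e.symm : ↥G0 →* ↥(stabilizer ↥M24 T)) N0).Normal :=
      N0_normal.map _ e.symm.surjective
    refine ⟨Subgroup.map (e.symm : ↥G0 →* ↥(stabilizer ↥M24 T)) N0, hn, ?_, ?_, ?_⟩
    · rw [Subgroup.card_map_of_injective e.symm.injective, card_N0]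
    · rintro x ⟨n, hn0, rfl⟩
      rw [← map_mul, N0_sq n hn0, map_one]
    · obtain ⟨e0⟩ := base_quot
      have hmap : Subgroup.map (e : ↥(stabilizer ↥M24 T) →* ↥G0)
          (Subgroup.map (e.symm : ↥G0 →* ↥(stabilizer ↥M24 T)) N0) = N0 := by
        rw [Subgroup.map_map]
        have hid : (e : ↥(stabilizer ↥M24 T) →* ↥G0).comp
            (e.symm : ↥G0 →* ↥(stabilizer ↥M24 T)) = MonoidHom.id _ := by
          ext x
          simp
        rw [hid, Subgroup.map_id]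
      exact ⟨(QuotientGroup.congr _ N0 e hmap).trans e0⟩

end Cfsg.Agent.helper28.Trio
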