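import Cfsg.Agent.Lib_helper28_Puncture
import Cfsg.Agent.Lib_helper28_Design24
set_option autoImplicit false

/-! Weight enumerator of a self-dual `[24,12,≥8]` code, pointed versions, and the weight
distribution of the punctured code. -/

namespace Cfsg.Agent.helper28.Puncture

open Finset Cfsg.Agent.S5625 Cfsg.Agent.helper28.Golay Cfsg.Agent.helper28.GolayGen
  Cfsg.Agent.helper28.Octad Cfsg.Agent.helper28.Design

section general

variable {ι : Type*} [Fintype ι] [DecidableEq ι] {C : Submodule (ZMod 2) (ι → ZMod 2)}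

/-- complement of a word -/
def cmpl (w : ι → ZMod 2) : ι → ZMod 2 := (fun _ => 1) - w

omit [Fintype ι] [DecidableEq ι] in
lemma cmpl_cmpl (w : ι → ZMod 2) : cmpl (cmpl w) = w := by
  unfold cmpl
  exact sub_sub_cancel _ _

omit [Fintype ι] [DecidableEq ι] in
lemma cmpl_apply (w : ι → ZMod 2) (i : ι) : cmpl w i = 1 - w i := rfl

lemma cmpl_mem (h : IsGolay C) (w : ι → ZMod 2) : cmpl w ∈ C ↔ w ∈ C := by
  have h1 := ones_mem h.card C h.dim h.orth
  constructor
  · intro hw
    have := C.sub_mem h1 hw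
    rw [← cmpl_cmpl w]
    exact this
  · intro hw
    exact C.sub_mem h1 hw

lemma wt_cmpl (hι : Fintype.card ι = 24) (w : ι → ZMod 2) :
    hammingNorm (cmpl w) = 24 - hammingNorm w := by
  have hwt := wt_sub (fun _ => 1 : ι → ZMod 2) w
  have hs1 : supp (fun _ => 1 : ι → ZMod 2) = Finset.univ := by
    ext i; simp [mem_supp]
  rw [wt_eq (fun _ => 1 : ι → ZMod 2), hs1, Finset.univ_inter, Finset.card_univ, hι, ← wt_eq] at hwt
  unfold cmpl
  omega

lemma wt_le24 (hι : Fintype.card ι = 24) (w : ι → ZMod 2) : hammingNorm w ≤ 24 := by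
  rw [← hι]; exact hammingNorm_le_card_fintype

lemma card_filter_cmpl (R : (ι → ZMod 2) → Prop) [DecidablePred R] :
    (Finset.univ.filter R).card = (Finset.univ.filter (fun w => R (cmpl w))).card := by
  apply Finset.card_bij (fun w _ => cmpl w)
  · intro w hw
    simp only [Finset.mem_filter, Finset.mem_univ, true_and] at hw ⊢
    rwa [cmpl_cmpl]
  · intro w _ w' _ h
    rw [← cmpl_cmpl w, h, cmpl_cmpl]
  · intro w hw
    simp only [Finset.mem_filter, Finset.mem_univ, true_and] at hw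
    exact ⟨cmpl w, by simpa using hw, cmpl_cmpl w⟩

lemma card_filter_supp (R : Finset ι → Prop) [DecidablePred R] :
    (Finset.univ.filter (fun w : ι → ZMod 2 => R (supp w))).card = (Finset.univ.filter R).card := by
  apply Finset.card_bij (fun w _ => supp w)
  · intro w hw
    simpa using hw
  · intro w _ w' _ h
    exact supp_injective h
  · intro s hs
    simp only [Finset.mem_filter, Finset.mem_univ, true_and] at hs
    exact ⟨ind s, by simpa [supp_ind] using hs, supp_ind s⟩

variable [DecidablePred (· ∈ C)]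

lemma card_code (h : IsGolay C) :
    (Finset.univ.filter (fun w : ι → ZMod 2 => w ∈ C)).card = 4096 := by
  have h2 := Module.natCard_eq_pow_finrank (K := ZMod 2) (V := C)
  rw [h.dim, Nat.card_zmod, Nat.card_eq_fintype_card, Fintype.card_subtype] at h2
  rw [h2]; norm_num

/-- number of codewords of weight 8 whose support satisfies `Q` -/
lemma card_wt8_pred (Q : Finset ι → Prop) [DecidablePred Q] :
    (Finset.univ.filter (fun w : ι → ZMod 2 => w ∈ C ∧ hammingNorm w = 8 ∧ Q (supp w))).card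
      = ((toF (Oct C)).filter Q).card := by
  classical
  have e1 : (Finset.univ.filter (fun w : ι → ZMod 2 => w ∈ C ∧ hammingNorm w = 8 ∧ Q (supp w)))
      = Finset.univ.filter (fun w : ι → ZMod 2 => (fun s => s ∈ Oct C ∧ Q s) (supp w)) := by
    apply Finset.filter_congr
    intro w _
    simp only
    rw [mem_Oct, ind_supp, ← wt_eq, and_assoc]
  rw [e1, card_filter_supp (fun s => s ∈ Oct C ∧ Q s)]
  congr 1
  ext s
  simp only [Finset.mem_filter, Finset.mem_univ, true_and, mem_toF]

lemma card_wt8 (h : IsGolay C) :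
    (Finset.univ.filter (fun w : ι → ZMod 2 => w ∈ C ∧ hammingNorm w = 8)).card = 759 :=
  card_octads h.card C h.dim h.orth h.min

lemma card_wt0 :
    (Finset.univ.filter (fun w : ι → ZMod 2 => w ∈ C ∧ hammingNorm w = 0)).card = 1 := by
  rw [Finset.card_eq_one]
  refine ⟨0, ?_⟩
  ext w
  simp only [Finset.mem_filter, Finset.mem_univ, true_and, Finset.mem_singleton, hammingNorm_eq_zero]
  constructor
  · exact fun h => h.2
  · rintro rfl; exact ⟨C.zero_mem, rfl⟩

/-- complement symmetry of the weight classes -/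
lemma card_wt_cmpl (h : IsGolay C) (k : ℕ) (hk : k ≤ 24) :
    (Finset.univ.filter (fun w : ι → ZMod 2 => w ∈ C ∧ hammingNorm w = 24 - k)).card =
    (Finset.univ.filter (fun w : ι → ZMod 2 => w ∈ C ∧ hammingNorm w = k)).card := by
  rw [card_filter_cmpl]
  congr 1
  apply Finset.filter_congr
  intro w _
  rw [cmpl_mem h, wt_cmpl h.card]
  have := wt_le24 h.card w
  constructor
  · rintro ⟨h1, h2⟩; exact ⟨h1, by omega⟩
  · rintro ⟨h1, h2⟩; exact ⟨h1, by omega⟩

lemma card_wt12 (h : IsGolay C) :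
    (Finset.univ.filter (fun w : ι → ZMod 2 => w ∈ C ∧ hammingNorm w = 12)).card = 2576 := by
  have hmaps : ∀ w ∈ Finset.univ.filter (fun w : ι → ZMod 2 => w ∈ C),
      hammingNorm w ∈ ({0, 8, 12, 16, 24} : Finset ℕ) := by
    intro w hw
    rw [Finset.mem_filter] at hw
    have := weight_cases h.card C h.dim h.orth h.min w hw.2
    simp only [Finset.mem_insert, Finset.mem_singleton]
    exact this
  have hsum := Finset.card_eq_sum_card_fiberwise (f := fun w : ι → ZMod 2 => hammingNorm w)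
    (s := Finset.univ.filter (fun w : ι → ZMod 2 => w ∈ C)) (t := ({0, 8, 12, 16, 24} : Finset ℕ)) hmaps
  simp only [Finset.filter_filter] at hsum
  rw [card_code h, Finset.sum_insert (by decide), Finset.sum_insert (by decide),
    Finset.sum_insert (by decide), Finset.sum_insert (by decide), Finset.sum_singleton] at hsum
  have h16 := card_wt_cmpl h 8 (by norm_num)
  have h24 := card_wt_cmpl h 0 (by norm_num)
  rw [card_wt8 h] at h16
  rw [card_wt0] at h24
  norm_num at h16 h24
  rw [card_wt0, card_wt8 h, h16, h24] at hsum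
  omega

/-! ### pointed versions -/

lemma z2_ne_one (x : ZMod 2) : ¬ x = 1 ↔ x = 0 := by
  rcases z2_cases x with h | h <;> rw [h] <;> decide

lemma card_split (p : ι) (k : ℕ) :
    (Finset.univ.filter (fun w : ι → ZMod 2 => w ∈ C ∧ hammingNorm w = k ∧ w p = 1)).card +
    (Finset.univ.filter (fun w : ι → ZMod 2 => w ∈ C ∧ hammingNorm w = k ∧ w p = 0)).card =
    (Finset.univ.filter (fun w : ι → ZMod 2 => w ∈ C ∧ hammingNorm w = k)).card := by
  rw [← Finset.card_filter_add_card_filter_not (s := Finset.univ.filter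
    (fun w : ι → ZMod 2 => w ∈ C ∧ hammingNorm w = k)) (fun w => w p = 1)]
  rw [Finset.filter_filter, Finset.filter_filter]
  congr 2
  · apply Finset.filter_congr
    intro w _
    rw [and_assoc]
  · apply Finset.filter_congr
    intro w _
    rw [and_assoc, z2_ne_one]

lemma card_cmpl_pt (h : IsGolay C) (p : ι) (k : ℕ) (hk : k ≤ 24) :
    (Finset.univ.filter (fun w : ι → ZMod 2 => w ∈ C ∧ hammingNorm w = 24 - k ∧ w p = 1)).card =
    (Finset.univ.filter (fun w : ι → ZMod 2 => w ∈ C ∧ hammingNorm w = k ∧ w p = 0)).card := by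
  rw [card_filter_cmpl]
  congr 1
  apply Finset.filter_congr
  intro w _
  rw [cmpl_mem h, wt_cmpl h.card, cmpl_apply]
  have := wt_le24 h.card w
  have hp : 1 - w p = 1 ↔ w p = 0 := by
    rcases z2_cases (w p) with h' | h' <;> rw [h'] <;> decide
  rw [hp]
  constructor
  · rintro ⟨h1, h2, h3⟩; exact ⟨h1, by omega, h3⟩
  · rintro ⟨h1, h2, h3⟩; exact ⟨h1, by omega, h3⟩

lemma card_cmpl_pt' (h : IsGolay C) (p : ι) (k : ℕ) (hk : k ≤ 24) :
    (Finset.univ.filter (fun w : ι → ZMod 2 => w ∈ C ∧ hammingNorm w = 24 - k ∧ w p = 0)).card =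
    (Finset.univ.filter (fun w : ι → ZMod 2 => w ∈ C ∧ hammingNorm w = k ∧ w p = 1)).card := by
  rw [card_filter_cmpl]
  congr 1
  apply Finset.filter_congr
  intro w _
  rw [cmpl_mem h, wt_cmpl h.card, cmpl_apply]
  have := wt_le24 h.card w
  have hp : 1 - w p = 0 ↔ w p = 1 := by
    rcases z2_cases (w p) with h' | h' <;> rw [h'] <;> decide
  rw [hp]
  constructor
  · rintro ⟨h1, h2, h3⟩; exact ⟨h1, by omega, h3⟩
  · rintro ⟨h1, h2, h3⟩; exact ⟨h1, by omega, h3⟩

lemma card_wt8_pt (h : IsGolay C) (p : ι) :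
    (Finset.univ.filter (fun w : ι → ZMod 2 => w ∈ C ∧ hammingNorm w = 8 ∧ w p = 1)).card = 253 := by
  have hS : Cfsg.IsSteinerSystem 5 8 (Oct C) := steiner h.card C h.dim h.orth h.min
  have e : (Finset.univ.filter (fun w : ι → ZMod 2 => w ∈ C ∧ hammingNorm w = 8 ∧ w p = 1))
      = (Finset.univ.filter (fun w : ι → ZMod 2 => w ∈ C ∧ hammingNorm w = 8 ∧
          (fun s : Finset ι => {p} ⊆ s) (supp w))) := by
    apply Finset.filter_congr
    intro w _
    simp only [Finset.singleton_subset_iff, mem_supp]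
  rw [e, card_wt8_pred]
  have := cnt_le5 h.card (toF (Oct C)) (toF_card hS) (toF_cnt hS) {p} (by simp)
  rw [Finset.card_singleton] at this
  exact this

/-- the pointed weight distribution -/
theorem pointed_counts (h : IsGolay C) (p : ι) :
    (Finset.univ.filter (fun w : ι → ZMod 2 => w ∈ C ∧ hammingNorm w = 8 ∧ w p = 1)).card = 253 ∧
    (Finset.univ.filter (fun w : ι → ZMod 2 => w ∈ C ∧ hammingNorm w = 8 ∧ w p = 0)).card = 506 ∧
    (Finset.univ.filter (fun w : ι → ZMod 2 => w ∈ C ∧ hammingNorm w = 12 ∧ w p = 1)).card = 1288 ∧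
    (Finset.univ.filter (fun w : ι → ZMod 2 => w ∈ C ∧ hammingNorm w = 12 ∧ w p = 0)).card = 1288 ∧
    (Finset.univ.filter (fun w : ι → ZMod 2 => w ∈ C ∧ hammingNorm w = 16 ∧ w p = 1)).card = 506 ∧
    (Finset.univ.filter (fun w : ι → ZMod 2 => w ∈ C ∧ hammingNorm w = 16 ∧ w p = 0)).card = 253 := by
  have a1 := card_wt8_pt h p
  have a2 := card_split (C := C) p 8
  rw [card_wt8 h, a1] at a2
  have a3 := card_split (C := C) p 12
  rw [card_wt12 h] at a3
  have a4 := card_cmpl_pt h p 12 (by norm_num)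
  norm_num at a4
  have a5 := card_cmpl_pt h p 8 (by norm_num)
  have a6 := card_cmpl_pt' h p 8 (by norm_num)
  norm_num at a5 a6
  refine ⟨a1, by omega, by omega, by omega, by omega, by omega⟩

end general

/-! ### the punctured code -/

section punctured

variable {κ : Type*} [Fintype κ] [DecidableEq κ] {C : Submodule (ZMod 2) (Option κ → ZMod 2)}
  [DecidablePred (· ∈ C)]

lemma ncard_pcode (h : IsGolay C) : (pcode C).ncard = 4096 := by
  have e : pcode C = punc '' ↑(Finset.univ.filter (fun w : Option κ → ZMod 2 => w ∈ C)) := by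
    ext u
    rw [mem_pcode, Set.mem_image]
    constructor
    · rintro ⟨w, hw, rfl⟩
      exact ⟨w, by simpa using hw, rfl⟩
    · rintro ⟨w, hw, rfl⟩
      exact ⟨w, by simpa using hw, rfl⟩
  rw [e, Set.InjOn.ncard_image, Set.ncard_coe_finset, card_code h]
  intro a ha b hb hab
  simp only [Finset.coe_filter, Finset.mem_univ, true_and, Set.mem_ofPred_eq] at ha hb
  exact punc_injOn h ha hb (by rw [hab, sub_self]; simp)

lemma ncard_pcode_wt (h : IsGolay C) (k : ℕ) :
    {u : κ → ZMod 2 | u ∈ pcode C ∧ hammingNorm u = k}.ncard =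
    (Finset.univ.filter (fun w : Option κ → ZMod 2 => w ∈ C ∧ hammingNorm w = k + 1 ∧ w none = 1)).card +
    (Finset.univ.filter (fun w : Option κ → ZMod 2 => w ∈ C ∧ hammingNorm w = k ∧ w none = 0)).card := by
  have e : {u : κ → ZMod 2 | u ∈ pcode C ∧ hammingNorm u = k} =
      punc '' ↑(Finset.univ.filter (fun w : Option κ → ZMod 2 => w ∈ C ∧ hammingNorm (punc w) = k)) := by
    ext u
    rw [Set.mem_image, Set.mem_ofPred_eq, mem_pcode]
    constructor
    · rintro ⟨⟨w, hw, rfl⟩, hk⟩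
      exact ⟨w, by simpa using ⟨hw, hk⟩, rfl⟩
    · rintro ⟨w, hw, rfl⟩
      simp only [Finset.coe_filter, Finset.mem_univ, true_and, Set.mem_ofPred_eq] at hw
      exact ⟨⟨w, hw.1, rfl⟩, hw.2⟩
  rw [e, Set.InjOn.ncard_image, Set.ncard_coe_finset]
  · rw [← Finset.card_filter_add_card_filter_not (s := Finset.univ.filter
      (fun w : Option κ → ZMod 2 => w ∈ C ∧ hammingNorm (punc w) = k)) (fun w => w none = 1)]
    rw [Finset.filter_filter, Finset.filter_filter]
    congr 2
    · apply Finset.filter_congr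
      intro w _
      have hw := wt_punc w
      constructor
      · rintro ⟨⟨h1, h2⟩, h3⟩
        rw [if_pos (by rw [h3]; exact one_ne_zero)] at hw
        exact ⟨h1, by omega, h3⟩
      · rintro ⟨h1, h2, h3⟩
        rw [if_pos (by rw [h3]; exact one_ne_zero)] at hw
        exact ⟨⟨h1, by omega⟩, h3⟩
    · apply Finset.filter_congr
      intro w _
      have hw := wt_punc w
      rw [z2_ne_one]
      constructor
      · rintro ⟨⟨h1, h2⟩, h3⟩
        rw [if_neg (by rw [h3]; simp)] at hw
        exact ⟨h1, by omega, h3⟩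
      · rintro ⟨h1, h2, h3⟩
        rw [if_neg (by rw [h3]; simp)] at hw
        exact ⟨⟨h1, by omega⟩, h3⟩
  · intro a ha b hb hab
    simp only [Finset.coe_filter, Finset.mem_univ, true_and, Set.mem_ofPred_eq] at ha hb
    exact punc_injOn h ha.1 hb.1 (by rw [hab, sub_self]; simp)

lemma card_wt_bad (h : IsGolay C) (k : ℕ) (hk : k ≠ 0 ∧ k ≠ 8 ∧ k ≠ 12 ∧ k ≠ 16 ∧ k ≠ 24)
    (x : ZMod 2) :
    (Finset.univ.filter (fun w : Option κ → ZMod 2 => w ∈ C ∧ hammingNorm w = k ∧ w none = x)).card = 0 := by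
  rw [Finset.card_eq_zero, Finset.filter_eq_empty_iff]
  rintro w - ⟨h1, h2, -⟩
  have := weight_cases h.card C h.dim h.orth h.min w h1
  omega

theorem punctured_dist (h : IsGolay C) :
    (pcode C).ncard = 4096 ∧
    {u : κ → ZMod 2 | u ∈ pcode C ∧ hammingNorm u = 7}.ncard = 253 ∧
    {u : κ → ZMod 2 | u ∈ pcode C ∧ hammingNorm u = 8}.ncard = 506 ∧
    {u : κ → ZMod 2 | u ∈ pcode C ∧ hammingNorm u = 11}.ncard = 1288 ∧
    {u : κ → ZMod 2 | u ∈ pcode C ∧ hammingNorm u = 12}.ncard = 1288 ∧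
    {u : κ → ZMod 2 | u ∈ pcode C ∧ hammingNorm u = 15}.ncard = 506 ∧
    {u : κ → ZMod 2 | u ∈ pcode C ∧ hammingNorm u = 16}.ncard = 253 ∧
    ∀ u ∈ pcode C, u ≠ 0 → 7 ≤ hammingNorm u := by
  obtain ⟨a1, a2, a3, a4, a5, a6⟩ := pointed_counts h (none : Option κ)
  refine ⟨ncard_pcode h, ?_, ?_, ?_, ?_, ?_, ?_, ?_⟩
  · rw [ncard_pcode_wt h 7, a1, card_wt_bad h 7 (by norm_num)]
  · rw [ncard_pcode_wt h 8, a2, card_wt_bad h 9 (by norm_num)]
  · rw [ncard_pcode_wt h 11, a3, card_wt_bad h 11 (by norm_num)]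
  · rw [ncard_pcode_wt h 12, a4, card_wt_bad h 13 (by norm_num)]
  · rw [ncard_pcode_wt h 15, a5, card_wt_bad h 15 (by norm_num)]
  · rw [ncard_pcode_wt h 16, a6, card_wt_bad h 17 (by norm_num)]
  · intro u hu hne
    rw [mem_pcode] at hu
    obtain ⟨w, hw, rfl⟩ := hu
    have hw0 : w ≠ 0 := by
      rintro rfl
      exact hne rfl
    have h8 := h.min w hw hw0
    have := wt_le_punc w
    omega

end punctured

end Cfsg.Agent.helper28.Puncture
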