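import Mathlib
import Cfsg.Prelude.Def_GeometricClasses
import Cfsg.Agent.S0752

set_option autoImplicit false
set_option linter.unusedSectionVars false
set_option linter.unusedVariables false
namespace Cfsg.Agent.helper29.PS
open Matrix

variable {F : Type*} [Field F] {n : ℕ}

local notation "VV" => (Fin n → F)

/-- the bundled bilinear form -/
noncomputable def toBilin (f : VV → VV → F) (hf : Cfsg.Geo.IsBilinearForm f) :
    LinearMap.BilinForm F VV :=
  LinearMap.mk₂ F f hf.add_left (fun c x v => hf.smul_left c x v) hf.add_right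
    (fun c v x => hf.smul_right c v x)

theorem toBilin_apply (f : VV → VV → F) (hf : Cfsg.Geo.IsBilinearForm f) (u v : VV) :
    toBilin f hf u v = f u v := rfl

/-- the standard Gram matrix of a hyperbolic basis -/
def Gm (ι : Type*) [DecidableEq ι] (F : Type*) [Field F] : Matrix (ι ⊕ ι) (ι ⊕ ι) F :=
  Matrix.fromBlocks 0 1 (-1) 0

/-- a similitude relation holds if it holds on a basis -/
theorem simil_of_basis {κ : Type*} [Fintype κ] [DecidableEq κ] (f : VV → VV → F)
    (hf : Cfsg.Geo.IsBilinearForm f) (b : Module.Basis κ F VV) (g : VV →ₗ[F] VV) (μ : F)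
    (h : ∀ i j, f (g (b i)) (g (b j)) = μ * f (b i) (b j)) (u v : VV) :
    f (g u) (g v) = μ * f u v := by
  have e : (toBilin f hf).compl₁₂ g g = μ • toBilin f hf := by
    apply LinearMap.ext_basis b b
    intro i j
    rw [LinearMap.compl₁₂_apply, LinearMap.smul_apply, LinearMap.smul_apply, toBilin_apply,
      toBilin_apply, smul_eq_mul]
    exact h i j
  have h1 := LinearMap.congr_fun (LinearMap.congr_fun e u) v
  rw [LinearMap.compl₁₂_apply, LinearMap.smul_apply, LinearMap.smul_apply, toBilin_apply,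
    toBilin_apply, smul_eq_mul] at h1
  exact h1

/-- a hyperbolic basis for a symplectic form -/
theorem exists_symp_basis (f : VV → VV → F) (hf : Cfsg.Geo.IsSymplecticForm f) :
    ∃ (m : ℕ) (b : Module.Basis (Fin m ⊕ Fin m) F VV),
      ∀ i j, f (b i) (b j) = Gm (Fin m) F i j := by
  classical
  have hA : (toBilin f hf.bilinear).IsAlt := fun v => hf.alternating v
  obtain ⟨m, k, b, hef, hee, hff, hrad⟩ := Cfsg.Agent.S0752.result (toBilin f hf.bilinear) hA
  have hk : k = 0 := by
    by_contra hk0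
    have hpos : 0 < k := Nat.pos_of_ne_zero hk0
    have hne : b (Sum.inr ⟨0, hpos⟩) ≠ 0 := b.ne_zero _
    obtain ⟨x, hx⟩ := (hf.nondegenerate _ hne).2
    exact hx (hrad ⟨0, hpos⟩ x)
  subst hk
  refine ⟨m, b.reindex (Equiv.sumEmpty (Fin m ⊕ Fin m) (Fin 0)), ?_⟩
  intro i j
  have hb : ∀ i, b.reindex (Equiv.sumEmpty (Fin m ⊕ Fin m) (Fin 0)) i = b (Sum.inl i) := by
    intro i
    rw [Module.Basis.reindex_apply]
    rfl
  rw [hb, hb]
  unfold Gm
  rcases i with i | i <;> rcases j with j | j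
  · rw [Matrix.fromBlocks_apply₁₁, Matrix.zero_apply]
    exact hee i j
  · rw [Matrix.fromBlocks_apply₁₂, Matrix.one_apply]
    exact hef i j
  · rw [Matrix.fromBlocks_apply₂₁, Matrix.neg_apply, Matrix.one_apply]
    have := hf.skew (b (Sum.inl (Sum.inr i))) (b (Sum.inl (Sum.inl j)))
    rw [this]
    have h2 := hef j i
    rw [toBilin_apply] at h2
    rw [h2]
    by_cases hij : i = j
    · subst hij
      simp
    · rw [if_neg hij, if_neg (Ne.symm hij)]
  · rw [Matrix.fromBlocks_apply₂₂, Matrix.zero_apply]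
    exact hff i j

/-- a matrix preserving the Gram matrix up to a scalar gives a similitude -/
theorem simil_toLin {ι : Type*} [Fintype ι] [DecidableEq ι] (f : VV → VV → F)
    (hf : Cfsg.Geo.IsBilinearForm f) (b : Module.Basis (ι ⊕ ι) F VV)
    (hb : ∀ i j, f (b i) (b j) = Gm ι F i j) (X : Matrix (ι ⊕ ι) (ι ⊕ ι) F) (μ : F)
    (hX : Xᵀ * Gm ι F * X = μ • Gm ι F) (u v : VV) :
    f (Matrix.toLin b b X u) (Matrix.toLin b b X v) = μ * f u v := by
  apply simil_of_basis f hf b
  intro i j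
  rw [Matrix.toLin_self, Matrix.toLin_self, hb]
  have h1 : f (∑ k, X k i • b k) (∑ l, X l j • b l) =
      ∑ k, ∑ l, X k i * (Gm ι F k l * X l j) := by
    show toBilin f hf _ _ = _
    simp only [map_sum, LinearMap.sum_apply, map_smul, LinearMap.smul_apply, smul_eq_mul,
      toBilin_apply, hb, Finset.mul_sum]
    rw [Finset.sum_comm]
    apply Finset.sum_congr rfl
    intro k _
    apply Finset.sum_congr rfl
    intro l _
    ring
  rw [h1]
  have h2 := congrFun (congrFun hX i) j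
  rw [Matrix.smul_apply, smul_eq_mul] at h2
  rw [← h2, Matrix.mul_apply]
  simp only [Matrix.mul_apply, Matrix.transpose_apply, Finset.sum_mul]
  rw [Finset.sum_comm]
  apply Finset.sum_congr rfl
  intro k _
  apply Finset.sum_congr rfl
  intro l _
  ring

/-- assembling the conjugating map from adapted bases -/
theorem assemble {ι : Type*} [Fintype ι] [DecidableEq ι] (f : VV → VV → F)
    (hf : Cfsg.Geo.IsBilinearForm f) (b B : Module.Basis (ι ⊕ ι) F VV)
    (hb : ∀ i j, f (b i) (b j) = Gm ι F i j) (xL : VV →ₗ[F] VV)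
    (X C : Matrix (ι ⊕ ι) (ι ⊕ ι) F) (hx : xL = Matrix.toLin B B X) (μ : F)
    (hX : Xᵀ * Gm ι F * X = μ • Gm ι F) (hC : C * X = X * C)
    (hdet : C.det * LinearMap.det (b.equiv B (Equiv.refl _) : VV →ₗ[F] VV) = 1) :
    ∃ PL yL : VV →ₗ[F] VV, LinearMap.det PL = 1 ∧ PL ∘ₗ yL = xL ∘ₗ PL ∧
      ∀ u v, f (yL u) (yL v) = μ * f u v := by
  refine ⟨Matrix.toLin B B C ∘ₗ (b.equiv B (Equiv.refl _) : VV →ₗ[F] VV), Matrix.toLin b b X,
    ?_, ?_, simil_toLin f hf b hb X μ hX⟩
  · rw [LinearMap.det_comp, LinearMap.det_toLin]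
    exact hdet
  · have h1 : (b.equiv B (Equiv.refl _) : VV →ₗ[F] VV) ∘ₗ Matrix.toLin b b X =
        xL ∘ₗ (b.equiv B (Equiv.refl _) : VV →ₗ[F] VV) := by
      apply b.ext
      intro j
      rw [LinearMap.comp_apply, LinearMap.comp_apply, Matrix.toLin_self, hx]
      simp only [LinearEquiv.coe_coe, map_sum, map_smul, Module.Basis.equiv_apply,
        Equiv.refl_apply, Matrix.toLin_self]
    have h2 : Matrix.toLin B B C ∘ₗ xL = xL ∘ₗ Matrix.toLin B B C := by
      rw [hx, ← Matrix.toLin_mul, ← Matrix.toLin_mul, hC]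
    rw [LinearMap.comp_assoc, h1, ← LinearMap.comp_assoc, h2, LinearMap.comp_assoc]

/-- from the linear-algebra statement to the statement about the special linear group -/
theorem glue (f : VV → VV → F) (x : Matrix.SpecialLinearGroup (Fin n) F)
    (PL yL : VV →ₗ[F] VV) (hdet : LinearMap.det PL = 1)
    (hint : PL ∘ₗ yL = Matrix.toLin' (x : Matrix (Fin n) (Fin n) F) ∘ₗ PL) (μ : F) (hμ : μ ≠ 0)
    (hy : ∀ u v, f (yL u) (yL v) = μ * f u v) :
    ∃ P : Matrix.SpecialLinearGroup (Fin n) F, P⁻¹ * x * P ∈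
      (Cfsg.Geo.similarityGroup f).comap (Matrix.SpecialLinearGroup.toGL :
        Matrix.SpecialLinearGroup (Fin n) F →* GL (Fin n) F) := by
  obtain ⟨P, hP⟩ : ∃ P : Matrix.SpecialLinearGroup (Fin n) F,
      (P : Matrix (Fin n) (Fin n) F) = LinearMap.toMatrix' PL :=
    ⟨⟨LinearMap.toMatrix' PL, by rw [LinearMap.det_toMatrix']; exact hdet⟩, rfl⟩
  refine ⟨P, ?_⟩
  have hmat : ((P⁻¹ * x * P : Matrix.SpecialLinearGroup (Fin n) F) : Matrix (Fin n) (Fin n) F) =
      LinearMap.toMatrix' yL := by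
    have h1 : (P : Matrix (Fin n) (Fin n) F) * LinearMap.toMatrix' yL =
        (x : Matrix (Fin n) (Fin n) F) * (P : Matrix (Fin n) (Fin n) F) := by
      rw [hP, ← LinearMap.toMatrix'_comp, hint, LinearMap.toMatrix'_comp,
        LinearMap.toMatrix'_toLin']
    have h2 : ((P⁻¹ : Matrix.SpecialLinearGroup (Fin n) F) : Matrix (Fin n) (Fin n) F) *
        (P : Matrix (Fin n) (Fin n) F) = 1 := by
      rw [← Matrix.SpecialLinearGroup.coe_mul, inv_mul_cancel, Matrix.SpecialLinearGroup.coe_one]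
    rw [Matrix.SpecialLinearGroup.coe_mul, Matrix.SpecialLinearGroup.coe_mul, Matrix.mul_assoc,
      ← h1, ← Matrix.mul_assoc, h2, Matrix.one_mul]
  rw [Subgroup.mem_comap]
  refine ⟨Units.mk0 μ hμ, fun u v => ?_⟩
  have hc : ((Matrix.SpecialLinearGroup.toGL (P⁻¹ * x * P) : GL (Fin n) F) :
      Matrix (Fin n) (Fin n) F) = LinearMap.toMatrix' yL := hmat
  rw [hc, LinearMap.toMatrix'_mulVec, LinearMap.toMatrix'_mulVec]
  exact hy u v

end Cfsg.Agent.helper29.PS
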