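import Mathlib
import Cfsg.Agent.Lib_helper29_PS1
import Cfsg.Agent.Lib_helper11_SqZero

set_option autoImplicit false
set_option linter.unusedSectionVars false
set_option linter.unusedVariables false
namespace Cfsg.Agent.helper29.PS
open Matrix

variable {F : Type*} [Field F] {n : ℕ}

local notation "VV" => (Fin n → F)

/-- the model unipotent matrix -/
def EE (m s : ℕ) (F : Type*) [Field F] : Matrix (Fin m ⊕ Fin m) (Fin m ⊕ Fin m) F :=
  Matrix.fromBlocks 0 0 (Matrix.diagonal fun i : Fin m => if i.val < s then (1 : F) else 0) 0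

theorem EE_mul_EE (m s : ℕ) : EE m s F * EE m s F = 0 := by
  unfold EE
  rw [Matrix.fromBlocks_multiply]
  simp

theorem EE_simil (m s : ℕ) (γ : F) :
    (γ • (1 : Matrix (Fin m ⊕ Fin m) (Fin m ⊕ Fin m) F) + EE m s F)ᵀ * Gm (Fin m) F *
      (γ • (1 : Matrix (Fin m ⊕ Fin m) (Fin m ⊕ Fin m) F) + EE m s F) = (γ * γ) • Gm (Fin m) F := by
  have h1 : γ • (1 : Matrix (Fin m ⊕ Fin m) (Fin m ⊕ Fin m) F) + EE m s F =
      Matrix.fromBlocks (γ • 1) 0 (Matrix.diagonal fun i : Fin m => if i.val < s then (1 : F) else 0)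
        (γ • 1) := by
    unfold EE
    rw [← Matrix.fromBlocks_one, Matrix.fromBlocks_smul, Matrix.fromBlocks_add]
    simp
  rw [h1]
  unfold Gm
  rw [Matrix.fromBlocks_transpose, Matrix.fromBlocks_multiply, Matrix.fromBlocks_multiply,
    Matrix.fromBlocks_smul]
  congr 1
  · simp
    rw [← smul_add, Matrix.diagonal_add]
    simp
  · simp [smul_smul]
  · simp [smul_smul]
  · simp

theorem EE_rank (m s : ℕ) (hs : s ≤ m) : (EE m s F).rank = s := by
  classical
  have h1 : EE m s F = Matrix.fromBlocks (0 : Matrix (Fin m) (Fin m) F)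
      (1 : Matrix (Fin m) (Fin m) F) (1 : Matrix (Fin m) (Fin m) F)
      (0 : Matrix (Fin m) (Fin m) F) *
      Matrix.diagonal (Sum.elim (fun i : Fin m => if i.val < s then (1 : F) else 0)
        (fun _ => 0)) := by
    rw [← Matrix.fromBlocks_diagonal]
    unfold EE
    rw [Matrix.fromBlocks_multiply]
    simp
  have h2 : IsUnit (Matrix.fromBlocks (0 : Matrix (Fin m) (Fin m) F)
      (1 : Matrix (Fin m) (Fin m) F) (1 : Matrix (Fin m) (Fin m) F)
      (0 : Matrix (Fin m) (Fin m) F)).det := by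
    apply Matrix.isUnit_det_of_left_inverse (B := Matrix.fromBlocks (0 : Matrix (Fin m) (Fin m) F)
      (1 : Matrix (Fin m) (Fin m) F) (1 : Matrix (Fin m) (Fin m) F)
      (0 : Matrix (Fin m) (Fin m) F))
    rw [Matrix.fromBlocks_multiply]
    simp [Matrix.fromBlocks_one]
  rw [h1, Matrix.rank_mul_eq_right_of_isUnit_det _ _ h2, Matrix.rank_diagonal]
  refine Eq.trans ?_ (Fintype.card_fin_lt_of_le hs)
  apply Fintype.card_congr
  exact
    { toFun := fun ⟨i, hi⟩ => match i, hi with
        | Sum.inl i, hi => ⟨i, by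
            by_contra hlt
            apply hi
            simp only [Sum.elim_inl]
            rw [if_neg (by simpa using hlt)]⟩
        | Sum.inr i, hi => absurd rfl hi
      invFun := fun ⟨i, hi⟩ => ⟨Sum.inl i, by
        simp only [Sum.elim_inl]
        rw [if_pos hi]
        exact one_ne_zero⟩
      left_inv := by
        rintro ⟨i | i, hi⟩
        · rfl
        · exact absurd rfl hi
      right_inv := by
        rintro ⟨i, hi⟩
        rfl }

/-- the unipotent case (characteristic two) -/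
theorem case_char_two [Fintype F] [CharP F 2] (f : VV → VV → F)
    (hf : Cfsg.Geo.IsSymplecticForm f) (x : Matrix.SpecialLinearGroup (Fin n) F) (z : F)
    (hx2 : (x : Matrix (Fin n) (Fin n) F) * (x : Matrix (Fin n) (Fin n) F) = z • 1) (hz : z ≠ 0)
    (hns : ∀ c : F, (x : Matrix (Fin n) (Fin n) F) ≠ c • 1) :
    ∃ P : Matrix.SpecialLinearGroup (Fin n) F, P⁻¹ * x * P ∈
      (Cfsg.Geo.similarityGroup f).comap (Matrix.SpecialLinearGroup.toGL :
        Matrix.SpecialLinearGroup (Fin n) F →* GL (Fin n) F) := by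
  classical
  have h2 : (2 : F) = 0 := CharTwo.two_eq_zero
  have hsq : ∀ t : F, IsSquare t := FiniteField.isSquare_of_char_two (ringChar.eq F 2)
  obtain ⟨γ, hγ⟩ := hsq z
  have hγ0 : γ ≠ 0 := by
    rintro rfl
    apply hz
    rw [hγ, mul_zero]
  obtain ⟨A, hA⟩ : ∃ A : Matrix (Fin n) (Fin n) F, A = (x : Matrix (Fin n) (Fin n) F) := ⟨_, rfl⟩
  rw [← hA] at hx2 hns
  have hNN : (A - γ • 1) * (A - γ • 1) = 0 := by
    have e : (A - γ • 1) * (A - γ • 1) = A * A - (γ • A + γ • A) + (γ * γ) • 1 := by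
      rw [Matrix.sub_mul, Matrix.mul_sub, Matrix.mul_sub, Matrix.smul_mul, Matrix.mul_smul,
        Matrix.smul_mul, Matrix.one_mul, Matrix.mul_one, Matrix.one_mul, smul_smul]
      abel
    rw [e, hx2, ← add_smul, ← two_mul, h2, zero_mul, zero_smul, sub_zero, ← hγ, ← add_smul,
      ← two_mul, h2, zero_mul, zero_smul]
  obtain ⟨Nx, hNxd⟩ : ∃ Nx : VV →ₗ[F] VV, Nx = Matrix.toLin' (A - γ • 1) := ⟨_, rfl⟩
  have hNx : ∀ v, Nx (Nx v) = 0 := by
    intro v
    rw [hNxd, Matrix.toLin'_apply, Matrix.toLin'_apply, Matrix.mulVec_mulVec, hNN,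
      Matrix.zero_mulVec]
  have hNx0 : Nx ≠ 0 := by
    intro h0
    have h1 : A - γ • 1 = 0 := by
      apply Matrix.toLin'.injective
      rw [← hNxd, h0, map_zero]
    exact hns γ (sub_eq_zero.mp h1)
  obtain ⟨m, b, hb⟩ := exists_symp_basis f hf
  have hn : n = m + m := by
    have := Module.finrank_eq_card_basis b
    rw [Module.finrank_fin_fun, Fintype.card_sum, Fintype.card_fin] at this
    exact this
  obtain ⟨s, hs⟩ : ∃ s, s = Module.finrank F (LinearMap.range Nx) := ⟨_, rfl⟩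
  have hs1 : 1 ≤ s := by
    rw [Nat.one_le_iff_ne_zero]
    intro h0
    rw [hs] at h0
    have := Submodule.finrank_eq_zero.mp h0
    exact hNx0 (LinearMap.range_eq_bot.mp this)
  have hsm : s ≤ m := by
    have h1 := LinearMap.finrank_range_add_finrank_ker Nx
    have h3 : LinearMap.range Nx ≤ LinearMap.ker Nx := by
      rintro _ ⟨v, rfl⟩
      exact LinearMap.mem_ker.mpr (hNx v)
    have h4 := Submodule.finrank_mono h3
    rw [Module.finrank_fin_fun] at h1
    omega
  obtain ⟨M, hMd⟩ : ∃ M : VV →ₗ[F] VV, M = Matrix.toLin b b (EE m s F) := ⟨_, rfl⟩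
  have hM : ∀ v, M (M v) = 0 := by
    intro v
    have : M ∘ₗ M = 0 := by rw [hMd, ← Matrix.toLin_mul, EE_mul_EE, map_zero]
    exact LinearMap.congr_fun this v
  have hMr : Module.finrank F (LinearMap.range M) = s := by
    rw [hMd, ← Matrix.rank_eq_finrank_range_toLin, EE_rank m s hsm]
  have hM0 : M ≠ 0 := by
    intro h0
    rw [h0, LinearMap.range_zero, finrank_bot] at hMr
    omega
  obtain ⟨P, hPdet, hP⟩ := Cfsg.Agent.helper11.exists_intertwiner_det_one hsq M Nx hM hNx
    (hMr.trans hs) hM0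
  apply glue f x P (Matrix.toLin b b (γ • 1 + EE m s F)) hPdet ?_ (γ * γ)
    (mul_ne_zero hγ0 hγ0) (simil_toLin f hf.bilinear b hb _ _ (EE_simil m s γ))
  apply LinearMap.ext
  intro v
  rw [LinearMap.comp_apply, LinearMap.comp_apply, map_add, map_smul, Matrix.toLin_one, ← hMd,
    LinearMap.add_apply, LinearMap.smul_apply, LinearMap.id_apply, map_add, map_smul, hP, hNxd,
    ← hA, Matrix.toLin'_apply, Matrix.toLin'_apply, Matrix.sub_mulVec, Matrix.smul_mulVec,
    Matrix.one_mulVec]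
  abel

end Cfsg.Agent.helper29.PS
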