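import Mathlib
import Cfsg.Agent.Lib_helper29_PS2

set_option autoImplicit false
set_option linter.unusedSectionVars false
set_option linter.unusedVariables false
namespace Cfsg.Agent.helper29.PS
open Matrix

variable {F : Type*} [Field F] {n : ℕ}

local notation "VV" => (Fin n → F)

theorem Gm_map {ι κ : Type*} [DecidableEq ι] [DecidableEq κ] (e : ι ≃ κ) (i j : ι ⊕ ι) :
    Gm κ F (Sum.map e e i) (Sum.map e e j) = Gm ι F i j := by
  unfold Gm
  rcases i with i | i <;> rcases j with j | j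
  · simp
  · simp [Matrix.one_apply]
  · simp [Matrix.one_apply]
  · simp

/-- a hyperbolic basis indexed by a given type -/
theorem exists_symp_basis' (f : VV → VV → F) (hf : Cfsg.Geo.IsSymplecticForm f)
    (ι : Type*) [Fintype ι] [DecidableEq ι] (hcard : Fintype.card ι + Fintype.card ι = n) :
    ∃ b : Module.Basis (ι ⊕ ι) F VV, ∀ i j, f (b i) (b j) = Gm ι F i j := by
  obtain ⟨m, b, hb⟩ := exists_symp_basis f hf
  have hn : n = m + m := by
    have := Module.finrank_eq_card_basis b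
    rw [Module.finrank_fin_fun, Fintype.card_sum, Fintype.card_fin] at this
    exact this
  have hc : Fintype.card ι = Fintype.card (Fin m) := by
    rw [Fintype.card_fin]
    omega
  obtain ⟨e⟩ : Nonempty (ι ≃ Fin m) := Fintype.card_eq.mp hc
  refine ⟨b.reindex (Equiv.sumCongr e e).symm, ?_⟩
  intro i j
  rw [Module.Basis.reindex_apply, Module.Basis.reindex_apply, Equiv.symm_symm, hb]
  exact Gm_map e i j

/-- the diagonalisable case, from an adapted basis -/
theorem case_diag_of_basis (f : VV → VV → F) (hf : Cfsg.Geo.IsSymplecticForm f)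
    (x : Matrix.SpecialLinearGroup (Fin n) F) {ι : Type*} [Fintype ι] [DecidableEq ι]
    [Nonempty ι] (B : Module.Basis (ι ⊕ ι) F VV) (ℓ : ι → F) (μ : F) (hμ : μ ≠ 0)
    (hℓ : ∀ k, ℓ k * ℓ k = μ)
    (hB1 : ∀ k, Matrix.toLin' (x : Matrix (Fin n) (Fin n) F) (B (Sum.inl k)) = ℓ k • B (Sum.inl k))
    (hB2 : ∀ k, Matrix.toLin' (x : Matrix (Fin n) (Fin n) F) (B (Sum.inr k)) = ℓ k • B (Sum.inr k)) :
    ∃ P : Matrix.SpecialLinearGroup (Fin n) F, P⁻¹ * x * P ∈
      (Cfsg.Geo.similarityGroup f).comap (Matrix.SpecialLinearGroup.toGL :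
        Matrix.SpecialLinearGroup (Fin n) F →* GL (Fin n) F) := by
  classical
  have hcard : Fintype.card ι + Fintype.card ι = n := by
    have := Module.finrank_eq_card_basis B
    rw [Module.finrank_fin_fun, Fintype.card_sum] at this
    exact this.symm
  obtain ⟨b, hb⟩ := exists_symp_basis' f hf ι hcard
  obtain ⟨X, hXd⟩ : ∃ X : Matrix (ι ⊕ ι) (ι ⊕ ι) F,
      X = Matrix.fromBlocks (Matrix.diagonal ℓ) 0 0 (Matrix.diagonal ℓ) := ⟨_, rfl⟩
  have hx : Matrix.toLin' (x : Matrix (Fin n) (Fin n) F) = Matrix.toLin B B X := by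
    apply B.ext
    intro j
    rw [Matrix.toLin_self, Fintype.sum_sum_type, hXd]
    rcases j with j | j
    · rw [hB1]
      simp [Matrix.diagonal_apply]
    · rw [hB2]
      simp [Matrix.diagonal_apply]
  have hX : Xᵀ * Gm ι F * X = μ • Gm ι F := by
    rw [hXd]
    unfold Gm
    rw [Matrix.fromBlocks_transpose, Matrix.fromBlocks_multiply, Matrix.fromBlocks_multiply,
      Matrix.fromBlocks_smul]
    have hd : Matrix.diagonal ℓ * Matrix.diagonal ℓ = μ • (1 : Matrix ι ι F) := by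
      rw [Matrix.diagonal_mul_diagonal]
      ext i j
      simp [Matrix.diagonal_apply, Matrix.one_apply, hℓ]
    congr 1
    · simp
    · simp [hd]
    · simp only [Matrix.mul_zero, Matrix.mul_neg, Matrix.mul_one, zero_add, Matrix.neg_mul,
        Matrix.transpose_zero, Matrix.zero_mul, Matrix.diagonal_transpose, smul_neg]
      rw [hd, add_zero]
    · simp
  have hunit := LinearEquiv.isUnit_det' (b.equiv B (Equiv.refl _))
  obtain ⟨d, hd⟩ : ∃ d : F, d * LinearMap.det (b.equiv B (Equiv.refl _) : VV →ₗ[F] VV) = 1 :=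
    ⟨(LinearMap.det (b.equiv B (Equiv.refl _) : VV →ₗ[F] VV))⁻¹,
      inv_mul_cancel₀ hunit.ne_zero⟩
  obtain ⟨i₀⟩ : Nonempty ι := inferInstance
  obtain ⟨C, hCd⟩ : ∃ C : Matrix (ι ⊕ ι) (ι ⊕ ι) F,
      C = Matrix.fromBlocks (Matrix.diagonal (Function.update (fun _ => (1 : F)) i₀ d)) 0 0 1 :=
    ⟨_, rfl⟩
  have hC : C * X = X * C := by
    rw [hCd, hXd, Matrix.fromBlocks_multiply, Matrix.fromBlocks_multiply]
    congr 1
    · simp only [Matrix.mul_zero, Matrix.zero_mul, add_zero, Matrix.diagonal_mul_diagonal]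
      congr 1
      funext i
      ring
    · simp
    · simp
    · simp
  have hCdet : C.det = d := by
    rw [hCd, Matrix.det_fromBlocks_zero₂₁, Matrix.det_one, mul_one, Matrix.det_diagonal,
      Finset.prod_update_of_mem (Finset.mem_univ i₀)]
    simp
  obtain ⟨PL, yL, hPL, hint, hy⟩ := assemble f hf.bilinear b B hb _ X C hx μ hX hC
    (by rw [hCdet]; exact hd)
  exact glue f x PL yL hPL hint μ hμ hy

/-- the split semisimple case -/
theorem case_split (hchar : (2 : F) ≠ 0) (f : VV → VV → F) (hf : Cfsg.Geo.IsSymplecticForm f)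
    (x : Matrix.SpecialLinearGroup (Fin n) F) (γ : F) (hγ0 : γ ≠ 0)
    (hx2 : (x : Matrix (Fin n) (Fin n) F) * (x : Matrix (Fin n) (Fin n) F) = (γ * γ) • 1)
    (hn1 : 1 ≤ n) (hneven : Even n) (hnot : ∀ c : F, c ^ n ≠ -1) :
    ∃ P : Matrix.SpecialLinearGroup (Fin n) F, P⁻¹ * x * P ∈
      (Cfsg.Geo.similarityGroup f).comap (Matrix.SpecialLinearGroup.toGL :
        Matrix.SpecialLinearGroup (Fin n) F →* GL (Fin n) F) := by
  classical
  obtain ⟨xL, hxL⟩ : ∃ xL : VV →ₗ[F] VV, xL = Matrix.toLin' (x : Matrix (Fin n) (Fin n) F) :=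
    ⟨_, rfl⟩
  have hxx : ∀ v, xL (xL v) = (γ * γ) • v := by
    intro v
    rw [hxL, Matrix.toLin'_apply, Matrix.toLin'_apply, Matrix.mulVec_mulVec, hx2,
      Matrix.smul_mulVec, Matrix.one_mulVec]
  have h2γ : (2 * γ) ≠ 0 := mul_ne_zero hchar hγ0
  obtain ⟨Vp, hVp⟩ : ∃ Vp : Submodule F VV, Vp = LinearMap.ker (xL - γ • LinearMap.id) :=
    ⟨_, rfl⟩
  obtain ⟨Vm, hVm⟩ : ∃ Vm : Submodule F VV, Vm = LinearMap.ker (xL + γ • LinearMap.id) :=
    ⟨_, rfl⟩
  have hmemp : ∀ v, v ∈ Vp ↔ xL v = γ • v := by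
    intro v
    rw [hVp, LinearMap.mem_ker, LinearMap.sub_apply, LinearMap.smul_apply, LinearMap.id_apply,
      sub_eq_zero]
  have hmemm : ∀ v, v ∈ Vm ↔ xL v = -(γ • v) := by
    intro v
    rw [hVm, LinearMap.mem_ker, LinearMap.add_apply, LinearMap.smul_apply, LinearMap.id_apply,
      add_eq_zero_iff_eq_neg]
  have hcompl : IsCompl Vp Vm := by
    constructor
    · rw [disjoint_iff]
      rw [eq_bot_iff]
      intro v hv
      rw [Submodule.mem_inf, hmemp, hmemm] at hv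
      rw [Submodule.mem_bot]
      have h1 : (2 * γ) • v = 0 := by
        rw [mul_smul, two_smul]
        have e := hv.1.symm.trans hv.2
        nth_rewrite 1 [e]
        exact neg_add_cancel _
      rcases smul_eq_zero.mp h1 with h | h
      · exact absurd h h2γ
      · exact h
    · rw [codisjoint_iff, eq_top_iff]
      intro v _
      rw [Submodule.mem_sup]
      refine ⟨(2 * γ)⁻¹ • (xL v + γ • v), ?_, (2 * γ)⁻¹ • (γ • v - xL v), ?_, ?_⟩
      · apply Vp.smul_mem
        rw [hmemp, map_add, map_smul, hxx, smul_add, mul_smul]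
        abel
      · apply Vm.smul_mem
        rw [hmemm, map_sub, map_smul, hxx, smul_sub, mul_smul]
        abel
      · rw [← smul_add]
        have : xL v + γ • v + (γ • v - xL v) = (2 * γ) • v := by
          rw [mul_smul, two_smul]
          abel
        rw [this, smul_smul, inv_mul_cancel₀ h2γ, one_smul]
  obtain ⟨a, ⟨bp⟩⟩ : ∃ a, Nonempty (Module.Basis (Fin a) F Vp) := ⟨_, ⟨Module.finBasis F Vp⟩⟩
  obtain ⟨bb, ⟨bm⟩⟩ : ∃ bb, Nonempty (Module.Basis (Fin bb) F Vm) := ⟨_, ⟨Module.finBasis F Vm⟩⟩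
  obtain ⟨B₀, hB₀⟩ : ∃ B₀ : Module.Basis (Fin a ⊕ Fin bb) F VV,
      B₀ = (bp.prod bm).map (Submodule.prodEquivOfIsCompl Vp Vm hcompl) := ⟨_, rfl⟩
  have hB₀l : ∀ i, xL (B₀ (Sum.inl i)) = γ • B₀ (Sum.inl i) := by
    intro i
    rw [← hmemp, hB₀]
    simp
  have hB₀r : ∀ i, xL (B₀ (Sum.inr i)) = (-γ) • B₀ (Sum.inr i) := by
    intro i
    rw [neg_smul, ← hmemm, hB₀]
    simp
  have hab : a + bb = n := by
    have := Module.finrank_eq_card_basis B₀
    rw [Module.finrank_fin_fun, Fintype.card_sum, Fintype.card_fin, Fintype.card_fin] at this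
    exact this.symm
  have hdet : γ ^ a * (-γ) ^ bb = 1 := by
    have h1 : LinearMap.det xL = 1 := by
      rw [hxL, LinearMap.det_toLin']
      exact x.2
    have h2 : LinearMap.toMatrix B₀ B₀ xL =
        Matrix.diagonal (Sum.elim (fun _ : Fin a => γ) (fun _ : Fin bb => -γ)) := by
      ext i j
      rw [LinearMap.toMatrix_apply, Matrix.diagonal_apply]
      rcases j with j | j
      · rw [hB₀l, map_smul, Module.Basis.repr_self, Finsupp.smul_apply, Finsupp.single_apply]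
        by_cases hij : i = Sum.inl j
        · rw [if_pos hij.symm, if_pos hij, hij]
          simp
        · rw [if_neg (Ne.symm hij), if_neg hij]
          simp
      · rw [hB₀r, map_smul, Module.Basis.repr_self, Finsupp.smul_apply, Finsupp.single_apply]
        by_cases hij : i = Sum.inr j
        · rw [if_pos hij.symm, if_pos hij, hij]
          simp
        · rw [if_neg (Ne.symm hij), if_neg hij]
          simp
    rw [← LinearMap.det_toMatrix B₀, h2, Matrix.det_diagonal, Fintype.prod_sum_type] at h1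
    simpa using h1
  have hbeven : Even bb := by
    by_contra hodd
    rw [Nat.not_even_iff_odd] at hodd
    rw [hodd.neg_pow, mul_neg, ← pow_add, hab] at hdet
    apply hnot γ
    rw [← hdet, neg_neg]
  have haeven : Even a := by
    rw [← hab] at hneven
    exact (Nat.even_add.mp hneven).mpr hbeven
  obtain ⟨a', ha'⟩ := haeven
  obtain ⟨b', hb'⟩ := hbeven
  obtain ⟨σ, hσ⟩ : ∃ σ : ((Fin a' ⊕ Fin b') ⊕ (Fin a' ⊕ Fin b')) ≃ Fin a ⊕ Fin bb,
      σ = (Equiv.sumSumSumComm _ _ _ _).trans (Equiv.sumCongr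
        (finSumFinEquiv.trans (finCongr ha'.symm)) (finSumFinEquiv.trans (finCongr hb'.symm))) :=
    ⟨_, rfl⟩
  have hσ1 : ∀ k, ∃ j, σ (Sum.inl (Sum.inl k)) = Sum.inl j := fun k => ⟨_, by rw [hσ]; rfl⟩
  have hσ2 : ∀ k, ∃ j, σ (Sum.inl (Sum.inr k)) = Sum.inr j := fun k => ⟨_, by rw [hσ]; rfl⟩
  have hσ3 : ∀ k, ∃ j, σ (Sum.inr (Sum.inl k)) = Sum.inl j := fun k => ⟨_, by rw [hσ]; rfl⟩
  have hσ4 : ∀ k, ∃ j, σ (Sum.inr (Sum.inr k)) = Sum.inr j := fun k => ⟨_, by rw [hσ]; rfl⟩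
  haveI : Nonempty (Fin a' ⊕ Fin b') := by
    by_cases h : 0 < a'
    · exact ⟨Sum.inl ⟨0, h⟩⟩
    · exact ⟨Sum.inr ⟨0, by omega⟩⟩
  apply case_diag_of_basis f hf x (B₀.reindex σ.symm)
    (Sum.elim (fun _ => γ) (fun _ => -γ)) (γ * γ) (mul_ne_zero hγ0 hγ0)
  · rintro (k | k) <;> simp
  · rintro (k | k)
    · obtain ⟨j, hj⟩ := hσ1 k
      rw [Module.Basis.reindex_apply, Equiv.symm_symm, hj, ← hxL, hB₀l]
      rfl
    · obtain ⟨j, hj⟩ := hσ2 k
      rw [Module.Basis.reindex_apply, Equiv.symm_symm, hj, ← hxL, hB₀r]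
      rfl
  · rintro (k | k)
    · obtain ⟨j, hj⟩ := hσ3 k
      rw [Module.Basis.reindex_apply, Equiv.symm_symm, hj, ← hxL, hB₀l]
      rfl
    · obtain ⟨j, hj⟩ := hσ4 k
      rw [Module.Basis.reindex_apply, Equiv.symm_symm, hj, ← hxL, hB₀r]
      rfl

end Cfsg.Agent.helper29.PS
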