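import Mathlib
import Cfsg.Agent.Lib_helper29_PS3

set_option autoImplicit false
set_option linter.unusedSectionVars false
set_option linter.unusedVariables false
namespace Cfsg.Agent.helper29.PS
open Matrix

variable {F : Type*} [Field F] {n : ℕ}

local notation "VV" => (Fin n → F)

open Polynomial in
/-- a basis adapted to a map whose square is a nonsquare scalar -/
theorem exists_adapted_nonsplit (xL : VV →ₗ[F] VV) (z : F) (hz : ∀ t : F, t * t ≠ z)
    (hxx : ∀ v, xL (xL v) = z • v) :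
    ∃ (m : ℕ) (B : Module.Basis (Fin m ⊕ Fin m) F VV),
      (∀ k, xL (B (Sum.inl k)) = B (Sum.inr k)) ∧
      (∀ k, xL (B (Sum.inr k)) = z • B (Sum.inl k)) := by
  classical
  obtain ⟨p, hp⟩ : ∃ p : F[X], p = X ^ 2 - C z := ⟨_, rfl⟩
  have hp2 : p.natDegree = 2 := by rw [hp]; exact natDegree_X_pow_sub_C
  have hmonic : p.Monic := by rw [hp]; exact monic_X_pow_sub_C z (by norm_num)
  have hirr : Irreducible p := by
    rw [Polynomial.Monic.irreducible_iff_roots_eq_zero_of_degree_le_three hmonic (by rw [hp2])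
      (by rw [hp2]; norm_num)]
    rw [Multiset.eq_zero_iff_forall_notMem]
    intro t ht
    rw [mem_roots hmonic.ne_zero, IsRoot, hp, eval_sub, eval_pow, eval_X, eval_C,
      sub_eq_zero] at ht
    exact hz t (by rw [← ht]; ring)
  haveI : Fact (Irreducible p) := ⟨hirr⟩
  have hev : Polynomial.aeval xL p = 0 := by
    rw [hp, map_sub, map_pow, aeval_X, aeval_C]
    apply LinearMap.ext
    intro v
    rw [LinearMap.sub_apply, pow_two, Module.End.mul_apply, hxx, Module.algebraMap_end_apply,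
      sub_self, LinearMap.zero_apply]
  obtain ⟨φ, hφ⟩ : ∃ φ : AdjoinRoot p →+* Module.End F VV,
      ∀ g : F[X], φ (AdjoinRoot.mk p g) = Polynomial.aeval xL g := by
    refine ⟨Ideal.Quotient.lift (Ideal.span {p}) (Polynomial.aeval xL).toRingHom ?_, ?_⟩
    · intro a ha
      obtain ⟨y, rfl⟩ := Ideal.mem_span_singleton.mp ha
      show Polynomial.aeval xL (p * y) = 0
      rw [map_mul, hev, zero_mul]
    · intro g
      rfl
  have hφroot : φ (AdjoinRoot.root p) = xL := by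
    show φ (AdjoinRoot.mk p X) = xL
    rw [hφ, aeval_X]
  have hφof : ∀ a : F, φ (AdjoinRoot.of p a) = algebraMap F (Module.End F VV) a := by
    intro a
    show φ (AdjoinRoot.mk p (C a)) = _
    rw [hφ, aeval_C]
  letI : Module (AdjoinRoot p) VV := Module.compHom VV φ
  have hsm : ∀ (k : AdjoinRoot p) (v : VV), k • v = φ k v := fun k v => rfl
  haveI : IsScalarTower F (AdjoinRoot p) VV := ⟨fun a k v => by
    rw [hsm, hsm, Algebra.smul_def, map_mul, AdjoinRoot.algebraMap_eq, hφof,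
      Module.End.mul_apply, Module.algebraMap_end_apply]⟩
  haveI : Module.Finite (AdjoinRoot p) VV := Module.Finite.of_restrictScalars_finite F _ _
  obtain ⟨m, ⟨bK⟩⟩ : ∃ m, Nonempty (Module.Basis (Fin m) (AdjoinRoot p) VV) :=
    ⟨_, ⟨Module.finBasis (AdjoinRoot p) VV⟩⟩
  obtain ⟨pb, hpb⟩ : ∃ pb : PowerBasis F (AdjoinRoot p), pb = AdjoinRoot.powerBasis hmonic.ne_zero :=
    ⟨_, rfl⟩
  have hdim : pb.dim = 2 := by rw [hpb, AdjoinRoot.powerBasis_dim, hp2]
  have hgen : pb.gen = AdjoinRoot.root p := by rw [hpb, AdjoinRoot.powerBasis_gen]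
  obtain ⟨e, he⟩ : ∃ e : Fin m ⊕ Fin m ≃ Fin pb.dim × Fin m,
      e = ((Equiv.boolProdEquivSum (Fin m)).symm.trans
        (Equiv.prodCongr (finTwoEquiv.symm.trans (finCongr hdim.symm)) (Equiv.refl _))) :=
    ⟨_, rfl⟩
  have he1 : ∀ k, ((e (Sum.inl k)).1 : ℕ) = 0 ∧ (e (Sum.inl k)).2 = k := by
    intro k
    rw [he]
    exact ⟨rfl, rfl⟩
  have he2 : ∀ k, ((e (Sum.inr k)).1 : ℕ) = 1 ∧ (e (Sum.inr k)).2 = k := by
    intro k
    rw [he]
    exact ⟨rfl, rfl⟩
  have hBl : ∀ k, (pb.basis.smulTower bK).reindex e.symm (Sum.inl k) = bK k := by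
    intro k
    rw [Module.Basis.reindex_apply, Equiv.symm_symm, Module.Basis.smulTower_apply,
      PowerBasis.basis_eq_pow, (he1 k).1, (he1 k).2, pow_zero, one_smul]
  have hBr : ∀ k, (pb.basis.smulTower bK).reindex e.symm (Sum.inr k) = xL (bK k) := by
    intro k
    rw [Module.Basis.reindex_apply, Equiv.symm_symm, Module.Basis.smulTower_apply,
      PowerBasis.basis_eq_pow, (he2 k).1, (he2 k).2, pow_one, hgen, hsm, hφroot]
  refine ⟨m, (pb.basis.smulTower bK).reindex e.symm, ?_, ?_⟩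
  · intro k
    rw [hBl, hBr]
  · intro k
    rw [hBl, hBr, hxx]

/-- assembling the conjugating map, with a twisted model -/
theorem assemble' {ι : Type*} [Fintype ι] [DecidableEq ι] (f : VV → VV → F)
    (hf : Cfsg.Geo.IsBilinearForm f) (b B : Module.Basis (ι ⊕ ι) F VV)
    (hb : ∀ i j, f (b i) (b j) = Gm ι F i j) (xL : VV →ₗ[F] VV)
    (X X' C : Matrix (ι ⊕ ι) (ι ⊕ ι) F) (hx : xL = Matrix.toLin B B X) (μ : F)
    (hX : X'ᵀ * Gm ι F * X' = μ • Gm ι F) (hC : C * X' = X * C)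
    (hdet : C.det * LinearMap.det (b.equiv B (Equiv.refl _) : VV →ₗ[F] VV) = 1) :
    ∃ PL yL : VV →ₗ[F] VV, LinearMap.det PL = 1 ∧ PL ∘ₗ yL = xL ∘ₗ PL ∧
      ∀ u v, f (yL u) (yL v) = μ * f u v := by
  refine ⟨Matrix.toLin B B C ∘ₗ (b.equiv B (Equiv.refl _) : VV →ₗ[F] VV), Matrix.toLin b b X',
    ?_, ?_, simil_toLin f hf b hb X' μ hX⟩
  · rw [LinearMap.det_comp, LinearMap.det_toLin]
    exact hdet
  · have h1 : (b.equiv B (Equiv.refl _) : VV →ₗ[F] VV) ∘ₗ Matrix.toLin b b X' =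
        Matrix.toLin B B X' ∘ₗ (b.equiv B (Equiv.refl _) : VV →ₗ[F] VV) := by
      apply b.ext
      intro j
      rw [LinearMap.comp_apply, LinearMap.comp_apply, Matrix.toLin_self]
      simp only [LinearEquiv.coe_coe, map_sum, map_smul, Module.Basis.equiv_apply,
        Equiv.refl_apply, Matrix.toLin_self]
    rw [LinearMap.comp_assoc, h1, ← LinearMap.comp_assoc, ← Matrix.toLin_mul, hC,
      Matrix.toLin_mul B B B, ← hx, LinearMap.comp_assoc]

/-- the nonsplit semisimple case, from an adapted basis -/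
theorem case_nonsplit_of_basis (f : VV → VV → F) (hf : Cfsg.Geo.IsSymplecticForm f)
    (x : Matrix.SpecialLinearGroup (Fin n) F) {ι : Type*} [Fintype ι] [DecidableEq ι]
    [Nonempty ι] (B : Module.Basis (ι ⊕ ι) F VV) (z : F) (hz : z ≠ 0)
    (hB1 : ∀ k, Matrix.toLin' (x : Matrix (Fin n) (Fin n) F) (B (Sum.inl k)) = B (Sum.inr k))
    (hB2 : ∀ k, Matrix.toLin' (x : Matrix (Fin n) (Fin n) F) (B (Sum.inr k)) =
      z • B (Sum.inl k)) :
    ∃ P : Matrix.SpecialLinearGroup (Fin n) F, P⁻¹ * x * P ∈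
      (Cfsg.Geo.similarityGroup f).comap (Matrix.SpecialLinearGroup.toGL :
        Matrix.SpecialLinearGroup (Fin n) F →* GL (Fin n) F) := by
  classical
  have hcard : Fintype.card ι + Fintype.card ι = n := by
    have := Module.finrank_eq_card_basis B
    rw [Module.finrank_fin_fun, Fintype.card_sum] at this
    exact this.symm
  obtain ⟨b, hb⟩ := exists_symp_basis' f hf ι hcard
  obtain ⟨X, hXd⟩ : ∃ X : Matrix (ι ⊕ ι) (ι ⊕ ι) F,
      X = Matrix.fromBlocks 0 (z • (1 : Matrix ι ι F)) 1 0 := ⟨_, rfl⟩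
  have hx : Matrix.toLin' (x : Matrix (Fin n) (Fin n) F) = Matrix.toLin B B X := by
    apply B.ext
    intro j
    rw [Matrix.toLin_self, Fintype.sum_sum_type, hXd]
    rcases j with j | j
    · rw [hB1]
      simp [Matrix.one_apply]
    · rw [hB2]
      simp [Matrix.one_apply]
  have hunit := LinearEquiv.isUnit_det' (b.equiv B (Equiv.refl _))
  obtain ⟨t, ht⟩ : ∃ t : F, t * LinearMap.det (b.equiv B (Equiv.refl _) : VV →ₗ[F] VV) = 1 :=
    ⟨(LinearMap.det (b.equiv B (Equiv.refl _) : VV →ₗ[F] VV))⁻¹,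
      inv_mul_cancel₀ hunit.ne_zero⟩
  have ht0 : t ≠ 0 := by
    rintro rfl
    rw [zero_mul] at ht
    exact zero_ne_one ht
  obtain ⟨i₀⟩ : Nonempty ι := inferInstance
  obtain ⟨T, hTd⟩ : ∃ T : Matrix ι ι F,
      T = Matrix.diagonal (Function.update (fun _ => (1 : F)) i₀ t) := ⟨_, rfl⟩
  obtain ⟨T', hT'd⟩ : ∃ T' : Matrix ι ι F,
      T' = Matrix.diagonal (Function.update (fun _ => (1 : F)) i₀ t⁻¹) := ⟨_, rfl⟩
  have hTT' : T * T' = 1 := by
    rw [hTd, hT'd, Matrix.diagonal_mul_diagonal, ← Matrix.diagonal_one]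
    congr 1
    funext i
    by_cases hi : i = i₀
    · rw [hi, Function.update_self, Function.update_self, mul_inv_cancel₀ ht0]
    · rw [Function.update_of_ne hi, Function.update_of_ne hi, mul_one]
  have hT'T : T' * T = 1 := by
    rw [hTd, hT'd, Matrix.diagonal_mul_diagonal, ← Matrix.diagonal_one]
    congr 1
    funext i
    by_cases hi : i = i₀
    · rw [hi, Function.update_self, Function.update_self, inv_mul_cancel₀ ht0]
    · rw [Function.update_of_ne hi, Function.update_of_ne hi, mul_one]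
  have hTt : Tᵀ = T := by rw [hTd, Matrix.diagonal_transpose]
  have hT't : T'ᵀ = T' := by rw [hT'd, Matrix.diagonal_transpose]
  obtain ⟨C, hCd⟩ : ∃ C : Matrix (ι ⊕ ι) (ι ⊕ ι) F, C = Matrix.fromBlocks T 0 0 1 := ⟨_, rfl⟩
  obtain ⟨X', hX'd⟩ : ∃ X' : Matrix (ι ⊕ ι) (ι ⊕ ι) F,
      X' = Matrix.fromBlocks 0 (z • T') T 0 := ⟨_, rfl⟩
  have hC : C * X' = X * C := by
    rw [hCd, hX'd, hXd, Matrix.fromBlocks_multiply, Matrix.fromBlocks_multiply]
    congr 1
    · simp
    · simp [hTT']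
    · simp
    · simp
  have hX' : X'ᵀ * Gm ι F * X' = (-z) • Gm ι F := by
    rw [hX'd]
    unfold Gm
    rw [Matrix.fromBlocks_transpose, Matrix.fromBlocks_multiply, Matrix.fromBlocks_multiply,
      Matrix.fromBlocks_smul, Matrix.transpose_smul, hTt, hT't]
    congr 1
    · simp
    · simp [hTT']
    · simp [hT'T]
    · simp
  have hCdet : C.det = t := by
    rw [hCd, Matrix.det_fromBlocks_zero₂₁, Matrix.det_one, mul_one, hTd, Matrix.det_diagonal,
      Finset.prod_update_of_mem (Finset.mem_univ i₀)]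
    simp
  obtain ⟨PL, yL, hPL, hint, hy⟩ := assemble' f hf.bilinear b B hb _ X X' C hx (-z) hX' hC
    (by rw [hCdet]; exact ht)
  exact glue f x PL yL hPL hint (-z) (neg_ne_zero.mpr hz) hy

/-- the nonsplit semisimple case -/
theorem case_nonsplit (f : VV → VV → F) (hf : Cfsg.Geo.IsSymplecticForm f)
    (x : Matrix.SpecialLinearGroup (Fin n) F) (z : F) (hz : ∀ t : F, t * t ≠ z)
    (hx2 : (x : Matrix (Fin n) (Fin n) F) * (x : Matrix (Fin n) (Fin n) F) = z • 1)
    (hn1 : 1 ≤ n) :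
    ∃ P : Matrix.SpecialLinearGroup (Fin n) F, P⁻¹ * x * P ∈
      (Cfsg.Geo.similarityGroup f).comap (Matrix.SpecialLinearGroup.toGL :
        Matrix.SpecialLinearGroup (Fin n) F →* GL (Fin n) F) := by
  have hxx : ∀ v, Matrix.toLin' (x : Matrix (Fin n) (Fin n) F)
      (Matrix.toLin' (x : Matrix (Fin n) (Fin n) F) v) = z • v := by
    intro v
    rw [Matrix.toLin'_apply, Matrix.toLin'_apply, Matrix.mulVec_mulVec, hx2,
      Matrix.smul_mulVec, Matrix.one_mulVec]
  obtain ⟨m, B, h1, h2⟩ := exists_adapted_nonsplit _ z hz hxx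
  have hm : m + m = n := by
    have := Module.finrank_eq_card_basis B
    rw [Module.finrank_fin_fun, Fintype.card_sum, Fintype.card_fin] at this
    exact this.symm
  haveI : Nonempty (Fin m) := ⟨⟨0, by omega⟩⟩
  have hz0 : z ≠ 0 := by
    intro h0
    exact hz 0 (by rw [h0, mul_zero])
  exact case_nonsplit_of_basis f hf x B z hz0 h1 h2

end Cfsg.Agent.helper29.PS
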