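import Mathlib
import Cfsg.Agent.Lib_helper29_PS4

set_option autoImplicit false
set_option linter.unusedSectionVars false
set_option linter.unusedVariables false
namespace Cfsg.Agent.helper29.PS
open Matrix

variable {F : Type*} [Field F] {n : ℕ}

local notation "VV" => (Fin n → F)

theorem two_adic_decomp (k : ℕ) (hk : k ≠ 0) : ∃ m, Odd m ∧ k = 2 ^ padicValNat 2 k * m := by
  have h1 := Nat.ordProj_mul_ordCompl_eq_self k 2
  have h2 := Nat.not_dvd_ordCompl Nat.prime_two hk
  rw [Nat.factorization_def k Nat.prime_two] at h1 h2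
  refine ⟨k / 2 ^ padicValNat 2 k, ?_, h1.symm⟩
  rw [← Nat.not_even_iff_odd, even_iff_two_dvd]
  exact h2

/-- when the `2`-part of `q - 1` exceeds that of `n`, `-1` is an `n`-th power -/
theorem exists_pow_eq_neg_one [Fintype F] {q : ℕ} (hq : Fintype.card F = q) (hn : n ≠ 0)
    (h : padicValNat 2 n < padicValNat 2 (q - 1)) : (2 : F) ≠ 0 ∧ ∃ c : F, c ^ n = -1 := by
  have hq1 : q - 1 ≠ 0 := by
    intro h0
    rw [h0] at h
    simp at h
  have hchar : ringChar F ≠ 2 := by
    intro h2
    haveI : CharP F 2 := by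
      rw [← h2]
      exact ringChar.charP F
    obtain ⟨k, -, hk⟩ := FiniteField.card F 2
    rw [hq] at hk
    have hodd : ¬ 2 ∣ q - 1 := by
      rw [hk]
      have : 0 < (k : ℕ) := k.pos
      obtain ⟨j, hj⟩ : ∃ j, (k : ℕ) = j + 1 := ⟨k - 1, by omega⟩
      rw [hj, pow_succ]
      have : 0 < 2 ^ j := pow_pos (by norm_num) j
      omega
    rw [padicValNat.eq_zero_of_not_dvd hodd] at h
    omega
  have h20 : (2 : F) ≠ 0 := by
    intro h2
    apply hchar
    haveI : CharP F 2 := CharTwo.of_one_ne_zero_of_two_eq_zero one_ne_zero h2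
    exact ringChar.eq F 2
  refine ⟨h20, ?_⟩
  obtain ⟨ε, hε⟩ := FiniteField.exists_nonsquare hchar
  have hε0 : ε ≠ 0 := by
    rintro rfl
    exact hε ⟨0, by ring⟩
  have hεp : ε ^ (q / 2) = -1 := by
    rcases FiniteField.pow_dichotomy hchar hε0 with h1 | h1
    · exact absurd ((FiniteField.isSquare_iff hchar hε0).mpr h1) hε
    · rw [hq] at h1
      exact h1
  obtain ⟨m', hm'odd, hm'⟩ := two_adic_decomp (q - 1) hq1
  obtain ⟨n', hn'odd, hn'⟩ := two_adic_decomp n hn
  obtain ⟨a, ha⟩ : ∃ a, a = padicValNat 2 (q - 1) := ⟨_, rfl⟩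
  obtain ⟨e, he⟩ : ∃ e, e = padicValNat 2 n := ⟨_, rfl⟩
  rw [← ha] at hm' h
  rw [← he] at hn' h
  obtain ⟨j, hj⟩ : ∃ j, a = e + 1 + j := ⟨a - e - 1, by omega⟩
  have hq2 : q / 2 = 2 ^ (e + j) * m' := by
    have h3 : q = 2 * (2 ^ (e + j) * m') + 1 := by
      have h4 : q - 1 = 2 * (2 ^ (e + j) * m') := by
        rw [hm', hj]
        ring
      omega
    omega
  refine ⟨ε ^ (m' * 2 ^ j), ?_⟩
  rw [← pow_mul]
  have h5 : m' * 2 ^ j * n = q / 2 * n' := by
    rw [hq2]
    nth_rewrite 1 [hn']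
    ring
  rw [h5, pow_mul, hεp, hn'odd.neg_one_pow]

/-- when the `2`-part of `q - 1` is at most that of `n`, `-1` is not an `n`-th power -/
theorem pow_ne_neg_one [Fintype F] {q : ℕ} (hq : Fintype.card F = q) (h20 : (2 : F) ≠ 0)
    (hn : n ≠ 0) (h : padicValNat 2 (q - 1) ≤ padicValNat 2 n) (c : F) : c ^ n ≠ -1 := by
  intro hc
  have hc0 : c ≠ 0 := by
    rintro rfl
    rw [zero_pow hn] at hc
    exact neg_ne_zero.mpr one_ne_zero hc.symm
  have hq1 : q - 1 ≠ 0 := by
    have : 1 < q := by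
      rw [← hq]
      exact Fintype.one_lt_card
    omega
  obtain ⟨m', hm'odd, hm'⟩ := two_adic_decomp (q - 1) hq1
  have hdvd : 2 ^ padicValNat 2 (q - 1) ∣ n :=
    (pow_dvd_pow 2 h).trans pow_padicValNat_dvd
  obtain ⟨t, ht⟩ := hdvd
  have h1 : c ^ (n * m') = -1 := by
    rw [pow_mul, hc, hm'odd.neg_one_pow]
  have h2 : c ^ (n * m') = 1 := by
    have : n * m' = (q - 1) * t := by
      rw [ht]
      nth_rewrite 2 [hm']
      ring
    rw [this, pow_mul, ← hq, FiniteField.pow_card_sub_one_eq_one c hc0, one_pow]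
  rw [h2] at h1
  apply h20
  have : (1 : F) + 1 = 0 := by
    nth_rewrite 1 [h1]
    exact neg_add_cancel 1
  rw [← one_add_one_eq_two]
  exact this

/-- expanding along the columns of an invertible matrix -/
theorem perp_of_cols (f : VV → VV → F) (hf : Cfsg.Geo.IsBilinearForm f)
    (Q Q' : Matrix (Fin n) (Fin n) F) (hQ : Q' * Q = 1) (w : VV)
    (h : ∀ j, f w (Q' *ᵥ Pi.single j 1) = 0) (v : VV) : f w v = 0 := by
  have e : v = ∑ j, (Q *ᵥ v) j • (Q' *ᵥ Pi.single j 1) := by
    have h1 : v = Q' *ᵥ (Q *ᵥ v) := by rw [Matrix.mulVec_mulVec, hQ, Matrix.one_mulVec]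
    nth_rewrite 1 [h1]
    nth_rewrite 1 [pi_eq_sum_univ' (Q *ᵥ v)]
    rw [Matrix.mulVec_sum]
    apply Finset.sum_congr rfl
    intro j _
    rw [Matrix.mulVec_smul]
  rw [e]
  show toBilin f hf w _ = 0
  rw [map_sum]
  apply Finset.sum_eq_zero
  intro j _
  rw [map_smul, toBilin_apply, h, smul_zero]

/-- an element with a one-dimensional eigenspace is not conjugate to a similitude -/
theorem bad_element (h20 : (2 : F) ≠ 0) (hn : 3 ≤ n) (he : Even n) (f : VV → VV → F)
    (hf : Cfsg.Geo.IsSymplecticForm f) (c : F) (hc : c ^ n = -1) :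
    ∃ x : Matrix.SpecialLinearGroup (Fin n) F,
      (∃ z : F, ((x ^ 2 : Matrix.SpecialLinearGroup (Fin n) F) : Matrix (Fin n) (Fin n) F) =
        z • (1 : Matrix (Fin n) (Fin n) F)) ∧
      (∀ z : F, (x : Matrix (Fin n) (Fin n) F) ≠ z • (1 : Matrix (Fin n) (Fin n) F)) ∧
      ¬ ∃ P : Matrix.SpecialLinearGroup (Fin n) F, P⁻¹ * x * P ∈
        (Cfsg.Geo.similarityGroup f).comap (Matrix.SpecialLinearGroup.toGL :
          Matrix.SpecialLinearGroup (Fin n) F →* GL (Fin n) F) := by
  classical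
  have hc0 : c ≠ 0 := by
    rintro rfl
    rw [zero_pow (by omega)] at hc
    exact neg_ne_zero.mpr one_ne_zero hc.symm
  have hcc : c * c ≠ 0 := mul_ne_zero hc0 hc0
  obtain ⟨i0, hi0⟩ : ∃ i0 : Fin n, i0 = ⟨0, by omega⟩ := ⟨_, rfl⟩
  obtain ⟨i1, hi1⟩ : ∃ i1 : Fin n, i1 = ⟨1, by omega⟩ := ⟨_, rfl⟩
  obtain ⟨i2, hi2⟩ : ∃ i2 : Fin n, i2 = ⟨2, by omega⟩ := ⟨_, rfl⟩
  have h10 : i1 ≠ i0 := by rw [hi1, hi0]; intro h; simpa using congrArg Fin.val h
  have h20' : i2 ≠ i0 := by rw [hi2, hi0]; intro h; simpa using congrArg Fin.val h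
  have h21 : i2 ≠ i1 := by rw [hi2, hi1]; intro h; simpa using congrArg Fin.val h
  obtain ⟨d, hd⟩ : ∃ d : Fin n → F, d = fun i => if i = i0 then c else -c := ⟨_, rfl⟩
  have hd0 : d i0 = c := by rw [hd]; exact if_pos rfl
  have hdne : ∀ i, i ≠ i0 → d i = -c := by
    intro i hi
    rw [hd]
    exact if_neg hi
  have hdet : (Matrix.diagonal d).det = 1 := by
    rw [Matrix.det_diagonal, Fintype.prod_eq_mul_prod_compl i0, hd0]
    have h1 : ∏ i ∈ ({i0} : Finset (Fin n))ᶜ, d i = (-c) ^ (n - 1) := by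
      rw [Finset.prod_congr rfl (fun i hi => hdne i (by
        rw [Finset.mem_compl, Finset.mem_singleton] at hi
        exact hi)), Finset.prod_const, Finset.card_compl, Finset.card_singleton,
        Fintype.card_fin]
    rw [h1]
    have hodd : Odd (n - 1) := by
      obtain ⟨k, hk⟩ := he
      exact ⟨k - 1, by omega⟩
    rw [hodd.neg_pow, mul_neg, ← pow_succ', show n - 1 + 1 = n by omega, hc, neg_neg]
  obtain ⟨x, hx⟩ : ∃ x : Matrix.SpecialLinearGroup (Fin n) F,
      (x : Matrix (Fin n) (Fin n) F) = Matrix.diagonal d := ⟨⟨Matrix.diagonal d, hdet⟩, rfl⟩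
  refine ⟨x, ⟨c * c, ?_⟩, ?_, ?_⟩
  · rw [pow_two, Matrix.SpecialLinearGroup.coe_mul, hx, Matrix.diagonal_mul_diagonal]
    ext i j
    rw [Matrix.smul_apply, Matrix.one_apply, Matrix.diagonal_apply]
    by_cases hij : i = j
    · rw [if_pos hij, if_pos hij, smul_eq_mul, mul_one]
      by_cases hi : i = i0
      · rw [hi, hd0]
      · rw [hdne i hi]
        ring
    · rw [if_neg hij, if_neg hij, smul_zero]
  · intro z hz
    have hz' : Matrix.diagonal d = z • (1 : Matrix (Fin n) (Fin n) F) := by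
      rw [← hx]
      exact hz
    have e0 := congrFun (congrFun hz' i0) i0
    have e1 := congrFun (congrFun hz' i1) i1
    rw [Matrix.diagonal_apply_eq, Matrix.smul_apply, Matrix.one_apply_eq, smul_eq_mul, mul_one]
      at e0 e1
    rw [hd0] at e0
    rw [hdne i1 h10] at e1
    have : (2 : F) * c = 0 := by
      rw [two_mul]
      nth_rewrite 1 [e0]
      rw [← e1]
      exact neg_add_cancel c
    rcases mul_eq_zero.mp this with h | h
    · exact h20 h
    · exact hc0 h
  · rintro ⟨P, hP⟩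
    rw [Subgroup.mem_comap] at hP
    obtain ⟨μ, hμ⟩ := hP
    obtain ⟨Q, hQ⟩ : ∃ Q : Matrix (Fin n) (Fin n) F, Q = (P : Matrix (Fin n) (Fin n) F) :=
      ⟨_, rfl⟩
    obtain ⟨Q', hQ'⟩ : ∃ Q' : Matrix (Fin n) (Fin n) F,
        Q' = ((P⁻¹ : Matrix.SpecialLinearGroup (Fin n) F) : Matrix (Fin n) (Fin n) F) := ⟨_, rfl⟩
    have hQ'Q : Q' * Q = 1 := by
      rw [hQ, hQ', ← Matrix.SpecialLinearGroup.coe_mul, inv_mul_cancel,
        Matrix.SpecialLinearGroup.coe_one]
    have hQQ' : Q * Q' = 1 := by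
      rw [hQ, hQ', ← Matrix.SpecialLinearGroup.coe_mul, mul_inv_cancel,
        Matrix.SpecialLinearGroup.coe_one]
    have hY : ∀ u v : VV, f ((Q' * Matrix.diagonal d * Q) *ᵥ u)
        ((Q' * Matrix.diagonal d * Q) *ᵥ v) = (μ : F) * f u v := by
      intro u v
      have := hμ u v
      rw [hQ, hQ', ← hx]
      exact this
    obtain ⟨u, hu⟩ : ∃ u : Fin n → VV, u = fun j => Q' *ᵥ Pi.single j 1 := ⟨_, rfl⟩
    have hYu : ∀ j, (Q' * Matrix.diagonal d * Q) *ᵥ u j = d j • u j := by
      intro j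
      rw [hu]
      show (Q' * Matrix.diagonal d * Q) *ᵥ (Q' *ᵥ Pi.single j 1) = d j • (Q' *ᵥ Pi.single j 1)
      rw [Matrix.mulVec_mulVec, Matrix.mul_assoc, Matrix.mul_assoc, hQQ', Matrix.mul_one,
        ← Matrix.mulVec_mulVec, Matrix.diagonal_mulVec_single, mul_one, ← Matrix.mulVec_smul]
      congr 1
      funext i
      simp [Pi.single_apply]
    have hQu : ∀ j, Q *ᵥ u j = Pi.single j 1 := by
      intro j
      rw [hu]
      show Q *ᵥ (Q' *ᵥ Pi.single j 1) = _
      rw [Matrix.mulVec_mulVec, hQQ', Matrix.one_mulVec]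
    have hune : ∀ j, u j ≠ 0 := by
      intro j h0
      have := hQu j
      rw [h0, Matrix.mulVec_zero] at this
      have h1 := congrFun this j
      rw [Pi.zero_apply, Pi.single_eq_same] at h1
      exact zero_ne_one h1
    have key : ∀ i j, d i * d j * f (u i) (u j) = (μ : F) * f (u i) (u j) := by
      intro i j
      have := hY (u i) (u j)
      rw [hYu, hYu, hf.bilinear.smul_left, hf.bilinear.smul_right] at this
      rw [← this]
      ring
    have hperp : ∀ w : VV, (∀ j, f w (u j) = 0) → w = 0 := by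
      intro w hw
      by_contra hw0
      obtain ⟨y, hy⟩ := (hf.nondegenerate w hw0).2
      apply hy
      apply perp_of_cols f hf.bilinear Q Q' hQ'Q w
      intro j
      have := hw j
      rw [hu] at this
      exact this
    by_cases hμc : (μ : F) = c * c
    · apply hune i0
      apply hperp
      intro j
      by_cases hj : j = i0
      · rw [hj]
        exact hf.alternating _
      · have := key i0 j
        rw [hd0, hdne j hj, hμc] at this
        have h3 : (2 * (c * c)) * f (u i0) (u j) = 0 := by linear_combination -this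
        rcases mul_eq_zero.mp h3 with h | h
        · exact absurd h (mul_ne_zero h20 hcc)
        · exact h
    · have hzero : ∀ i j, i ≠ i0 → j ≠ i0 → f (u i) (u j) = 0 := by
        intro i j hi hj
        have := key i j
        rw [hdne i hi, hdne j hj] at this
        have h3 : (c * c - (μ : F)) * f (u i) (u j) = 0 := by linear_combination this
        rcases mul_eq_zero.mp h3 with h | h
        · exact absurd (sub_eq_zero.mp h).symm hμc
        · exact h
      by_cases h1 : f (u i1) (u i0) = 0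
      · apply hune i1
        apply hperp
        intro j
        by_cases hj : j = i0
        · rw [hj]
          exact h1
        · exact hzero i1 j h10 hj
      · apply h1
        have hw : f (u i2) (u i0) • u i1 - f (u i1) (u i0) • u i2 = 0 := by
          apply hperp
          intro j
          have e1 : f (f (u i2) (u i0) • u i1 - f (u i1) (u i0) • u i2) (u j) =
              f (u i2) (u i0) * f (u i1) (u j) - f (u i1) (u i0) * f (u i2) (u j) := by
            show toBilin f hf.bilinear _ _ = _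
            rw [map_sub, LinearMap.sub_apply, map_smul, map_smul, LinearMap.smul_apply,
              LinearMap.smul_apply, toBilin_apply, toBilin_apply, smul_eq_mul, smul_eq_mul]
          rw [e1]
          by_cases hj : j = i0
          · rw [hj]
            ring
          · rw [hzero i1 j h10 hj, hzero i2 j h20' hj]
            ring
        have hw2 := congrArg (fun v => (Q *ᵥ v) i2) hw
        simp only [Matrix.mulVec_sub, Matrix.mulVec_smul, hQu, Pi.sub_apply, Pi.smul_apply,
          Matrix.mulVec_zero, Pi.zero_apply, smul_eq_mul] at hw2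
        rw [Pi.single_eq_same, Pi.single_eq_of_ne h21, mul_zero, zero_sub, mul_one,
          neg_eq_zero] at hw2
        exact hw2

end Cfsg.Agent.helper29.PS
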