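import Mathlib
import Cfsg.Agent.Lib_helper29_PS4

set_option autoImplicit false
set_option linter.unusedSectionVars false
set_option linter.unusedVariables false
namespace Cfsg.Agent.helper29.SF
open Matrix

variable {F : Type*} [Field F] {n : ℕ}

local notation "VV" => (Fin n → F)

/-- membership in the subfield group from an explicit decomposition -/
theorem mem_sf_of (F₀ : Subfield F) (y : Matrix.SpecialLinearGroup (Fin n) F) (c : F) (hc : c ≠ 0)
    (A₀ : Matrix (Fin n) (Fin n) F₀)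
    (h : (y : Matrix (Fin n) (Fin n) F) = c • A₀.map (F₀.subtype : F₀ →+* F)) :
    Matrix.SpecialLinearGroup.toGL y ∈ Cfsg.Geo.subfieldSubgroup F₀ (1 : GL (Fin n) F) := by
  classical
  unfold Cfsg.Geo.subfieldSubgroup
  rw [Subgroup.mem_map]
  refine ⟨Matrix.SpecialLinearGroup.toGL y, ?_, by simp⟩
  have hdet : (A₀.map (F₀.subtype : F₀ →+* F)).det ≠ 0 := by
    intro h0
    have h1 := y.2
    rw [h, Matrix.det_smul, h0, mul_zero] at h1
    exact zero_ne_one h1
  have hdet0 : A₀.det ≠ 0 := by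
    intro h0
    apply hdet
    have := RingHom.map_det (F₀.subtype : F₀ →+* F) A₀
    rw [RingHom.mapMatrix_apply] at this
    rw [← this, h0, map_zero]
  obtain ⟨a₀, ha₀⟩ : ∃ a₀ : GL (Fin n) F₀, (a₀ : Matrix (Fin n) (Fin n) F₀) = A₀ :=
    ⟨Matrix.GeneralLinearGroup.mkOfDetNeZero A₀ hdet0, rfl⟩
  have ha : Matrix.GeneralLinearGroup.map (F₀.subtype : F₀ →+* F) a₀ ∈
      (Matrix.GeneralLinearGroup.map (F₀.subtype : F₀ →+* F)).range := ⟨a₀, rfl⟩
  obtain ⟨s, hs⟩ : ∃ s : GL (Fin n) F, s = Units.map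
      (Matrix.scalar (Fin n) : F →+* Matrix (Fin n) (Fin n) F).toMonoidHom (Units.mk0 c hc) :=
    ⟨_, rfl⟩
  have hs' : s ∈ Cfsg.Geo.scalars (Fin n) F := ⟨_, hs.symm⟩
  have e : Matrix.SpecialLinearGroup.toGL y =
      s * Matrix.GeneralLinearGroup.map (F₀.subtype : F₀ →+* F) a₀ := by
    apply Units.ext
    show (y : Matrix (Fin n) (Fin n) F) = _
    rw [h, hs]
    simp [ha₀, Matrix.smul_eq_diagonal_mul]
  rw [e]
  exact Subgroup.mul_mem _ (Subgroup.mem_sup_right hs') (Subgroup.mem_sup_left ha)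

theorem scalars_normal : (Cfsg.Geo.scalars (Fin n) F).Normal := by
  constructor
  intro s hs g
  rw [Cfsg.Geo.mem_scalars_iff] at hs ⊢
  obtain ⟨c, hc⟩ := hs
  refine ⟨c, ?_⟩
  have h1 : g * s = s * g := by
    apply Units.ext
    show (g : Matrix (Fin n) (Fin n) F) * (s : Matrix (Fin n) (Fin n) F) = s.1 * g.1
    rw [hc]
    simp
  rw [h1, mul_inv_cancel_right]
  exact hc

/-- an element of the subfield group is a scalar multiple of a matrix over the subfield -/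
theorem mem_sf_elim (F₀ : Subfield F) (y : Matrix.SpecialLinearGroup (Fin n) F)
    (h : Matrix.SpecialLinearGroup.toGL y ∈ Cfsg.Geo.subfieldSubgroup F₀ (1 : GL (Fin n) F)) :
    ∃ (c : F) (A₀ : Matrix (Fin n) (Fin n) F₀), c ≠ 0 ∧
      (y : Matrix (Fin n) (Fin n) F) = c • A₀.map (F₀.subtype : F₀ →+* F) := by
  classical
  unfold Cfsg.Geo.subfieldSubgroup at h
  rw [Subgroup.mem_map] at h
  obtain ⟨g, hg, hgy⟩ := h
  have hgy' : g = Matrix.SpecialLinearGroup.toGL y := by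
    rw [← hgy]
    simp
  haveI := scalars_normal (F := F) (n := n)
  rw [← SetLike.mem_coe, Subgroup.mul_normal] at hg
  obtain ⟨a, ha, s, hs, has⟩ := Set.mem_mul.mp hg
  obtain ⟨a₀, rfl⟩ := ha
  rw [SetLike.mem_coe, Cfsg.Geo.mem_scalars_iff] at hs
  obtain ⟨c, hc⟩ := hs
  refine ⟨c, (a₀ : Matrix (Fin n) (Fin n) F₀), c.ne_zero, ?_⟩
  have h2 : (y : Matrix (Fin n) (Fin n) F) = (g : Matrix (Fin n) (Fin n) F) := by
    rw [hgy']
    rfl
  rw [h2, ← has]
  show (Matrix.GeneralLinearGroup.map (F₀.subtype : F₀ →+* F) a₀ : Matrix (Fin n) (Fin n) F) *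
    (s : Matrix (Fin n) (Fin n) F) = _
  rw [hc]
  simp

/-- the generic conjugation lemma: a basis in which the matrix of `x` is a scalar multiple of a
matrix over the subfield, together with a map commuting with `x` that corrects the
determinant -/
theorem sf_conj (F₀ : Subfield F) (x : Matrix.SpecialLinearGroup (Fin n) F) {κ : Type*}
    [Fintype κ] [DecidableEq κ] (β : Module.Basis κ F VV) (e : κ ≃ Fin n) (c : F) (hc : c ≠ 0)
    (hent : ∀ a b, ∃ t : F₀,
      β.repr (Matrix.toLin' (x : Matrix (Fin n) (Fin n) F) (β b)) a = c * (t : F))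
    (S : VV →ₗ[F] VV)
    (hS : ∀ v, S (Matrix.toLin' (x : Matrix (Fin n) (Fin n) F) v) =
      Matrix.toLin' (x : Matrix (Fin n) (Fin n) F) (S v))
    (hdet : LinearMap.det S * LinearMap.det
      (((Pi.basisFun F (Fin n)).equiv β e.symm : VV ≃ₗ[F] VV) : VV →ₗ[F] VV) = 1) :
    ∃ P : Matrix.SpecialLinearGroup (Fin n) F, P⁻¹ * x * P ∈
      (Cfsg.Geo.subfieldSubgroup F₀ (1 : GL (Fin n) F)).comap
        (Matrix.SpecialLinearGroup.toGL : Matrix.SpecialLinearGroup (Fin n) F →* GL (Fin n) F) := by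
  classical
  obtain ⟨PL₀, hPL₀⟩ : ∃ PL₀ : VV →ₗ[F] VV,
      PL₀ = (((Pi.basisFun F (Fin n)).equiv β e.symm : VV ≃ₗ[F] VV) : VV →ₗ[F] VV) := ⟨_, rfl⟩
  rw [← hPL₀] at hdet
  have hPL₀e : ∀ j, PL₀ (Pi.single j 1) = β (e.symm j) := by
    intro j
    rw [hPL₀]
    have := Module.Basis.equiv_apply (Pi.basisFun F (Fin n)) j β e.symm
    rw [Pi.basisFun_apply] at this
    exact this
  obtain ⟨PL, hPL⟩ : ∃ PL : VV →ₗ[F] VV, PL = S ∘ₗ PL₀ := ⟨_, rfl⟩
  have hPLdet : LinearMap.det PL = 1 := by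
    rw [hPL, LinearMap.det_comp]
    exact hdet
  choose T hT using hent
  obtain ⟨A₀, hA₀⟩ : ∃ A₀ : Matrix (Fin n) (Fin n) F₀,
      A₀ = fun i j => T (e.symm i) (e.symm j) := ⟨_, rfl⟩
  obtain ⟨P, hP⟩ : ∃ P : Matrix.SpecialLinearGroup (Fin n) F,
      (P : Matrix (Fin n) (Fin n) F) = LinearMap.toMatrix' PL :=
    ⟨⟨LinearMap.toMatrix' PL, by rw [LinearMap.det_toMatrix']; exact hPLdet⟩, rfl⟩
  refine ⟨P, ?_⟩
  have hPL₀sum : ∀ r : κ → F, PL₀ (fun i => r (e.symm i)) = ∑ a, r a • β a := by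
    intro r
    have h1 : (fun i => r (e.symm i)) = ∑ i, r (e.symm i) • (Pi.single i 1 : VV) := by
      funext k
      rw [Finset.sum_apply]
      simp [Pi.single_apply]
    rw [h1, map_sum]
    simp only [map_smul, hPL₀e]
    exact Equiv.sum_comp e.symm (fun a => r a • β a)
  have h1 : (P : Matrix (Fin n) (Fin n) F) * (c • A₀.map (F₀.subtype : F₀ →+* F)) =
      (x : Matrix (Fin n) (Fin n) F) * (P : Matrix (Fin n) (Fin n) F) := by
    apply Matrix.toLin'.injective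
    apply (Pi.basisFun F (Fin n)).ext
    intro j
    rw [Pi.basisFun_apply, Matrix.toLin'_mul, Matrix.toLin'_mul, LinearMap.comp_apply,
      LinearMap.comp_apply, hP, Matrix.toLin'_toMatrix']
    have h2 : Matrix.toLin' (c • A₀.map (F₀.subtype : F₀ →+* F)) (Pi.single j 1) =
        fun i => β.repr (Matrix.toLin' (x : Matrix (Fin n) (Fin n) F) (β (e.symm j)))
          (e.symm i) := by
      funext i
      rw [Matrix.toLin'_apply, Matrix.mulVec_single_one, hT, hA₀]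
      rfl
    rw [h2, hPL, LinearMap.comp_apply, LinearMap.comp_apply, hPL₀sum, hPL₀e, β.sum_repr, hS]
  have h2 : ((P⁻¹ : Matrix.SpecialLinearGroup (Fin n) F) : Matrix (Fin n) (Fin n) F) *
      (P : Matrix (Fin n) (Fin n) F) = 1 := by
    rw [← Matrix.SpecialLinearGroup.coe_mul, inv_mul_cancel, Matrix.SpecialLinearGroup.coe_one]
  rw [Subgroup.mem_comap]
  apply mem_sf_of F₀ _ c hc A₀
  rw [Matrix.SpecialLinearGroup.coe_mul, Matrix.SpecialLinearGroup.coe_mul, Matrix.mul_assoc,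
    ← h1, ← Matrix.mul_assoc, h2, Matrix.one_mul]

/-- an eigenbasis for an element whose square is a nonzero square scalar, odd characteristic -/
theorem exists_eigenbasis (hchar : (2 : F) ≠ 0) (xL : VV →ₗ[F] VV) (γ : F) (hγ0 : γ ≠ 0)
    (hxx : ∀ v, xL (xL v) = (γ * γ) • v) :
    ∃ (a bb : ℕ) (B₀ : Module.Basis (Fin a ⊕ Fin bb) F VV),
      (∀ i, xL (B₀ (Sum.inl i)) = γ • B₀ (Sum.inl i)) ∧
      (∀ i, xL (B₀ (Sum.inr i)) = (-γ) • B₀ (Sum.inr i)) := by
  classical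
  have h2γ : (2 * γ) ≠ 0 := mul_ne_zero hchar hγ0
  obtain ⟨Vp, hVp⟩ : ∃ Vp : Submodule F VV, Vp = LinearMap.ker (xL - γ • LinearMap.id) :=
    ⟨_, rfl⟩
  obtain ⟨Vm, hVm⟩ : ∃ Vm : Submodule F VV, Vm = LinearMap.ker (xL + γ • LinearMap.id) :=
    ⟨_, rfl⟩
  have hmemp : ∀ v, v ∈ Vp ↔ xL v = γ • v := by
    intro v
    rw [hVp, LinearMap.mem_ker, LinearMap.sub_apply, LinearMap.smul_apply, LinearMap.id_apply,
      sub_eq_zero]
  have hmemm : ∀ v, v ∈ Vm ↔ xL v = -(γ • v) := by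
    intro v
    rw [hVm, LinearMap.mem_ker, LinearMap.add_apply, LinearMap.smul_apply, LinearMap.id_apply,
      add_eq_zero_iff_eq_neg]
  have hcompl : IsCompl Vp Vm := by
    constructor
    · rw [disjoint_iff]
      rw [eq_bot_iff]
      intro v hv
      rw [Submodule.mem_inf, hmemp, hmemm] at hv
      rw [Submodule.mem_bot]
      have h1 : (2 * γ) • v = 0 := by
        rw [mul_smul, two_smul]
        have e := hv.1.symm.trans hv.2
        nth_rewrite 1 [e]
        exact neg_add_cancel _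
      rcases smul_eq_zero.mp h1 with h | h
      · exact absurd h h2γ
      · exact h
    · rw [codisjoint_iff, eq_top_iff]
      intro v _
      rw [Submodule.mem_sup]
      refine ⟨(2 * γ)⁻¹ • (xL v + γ • v), ?_, (2 * γ)⁻¹ • (γ • v - xL v), ?_, ?_⟩
      · apply Vp.smul_mem
        rw [hmemp, map_add, map_smul, hxx, smul_add, mul_smul]
        abel
      · apply Vm.smul_mem
        rw [hmemm, map_sub, map_smul, hxx, smul_sub, mul_smul]
        abel
      · rw [← smul_add]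
        have : xL v + γ • v + (γ • v - xL v) = (2 * γ) • v := by
          rw [mul_smul, two_smul]
          abel
        rw [this, smul_smul, inv_mul_cancel₀ h2γ, one_smul]
  obtain ⟨a, ⟨bp⟩⟩ : ∃ a, Nonempty (Module.Basis (Fin a) F Vp) := ⟨_, ⟨Module.finBasis F Vp⟩⟩
  obtain ⟨bb, ⟨bm⟩⟩ : ∃ bb, Nonempty (Module.Basis (Fin bb) F Vm) := ⟨_, ⟨Module.finBasis F Vm⟩⟩
  obtain ⟨B₀, hB₀⟩ : ∃ B₀ : Module.Basis (Fin a ⊕ Fin bb) F VV,
      B₀ = (bp.prod bm).map (Submodule.prodEquivOfIsCompl Vp Vm hcompl) := ⟨_, rfl⟩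
  refine ⟨a, bb, B₀, ?_, ?_⟩
  · intro i
    rw [← hmemp, hB₀]
    simp
  · intro i
    rw [neg_smul, ← hmemm, hB₀]
    simp

/-- the generic conjugation lemma with a diagonal determinant correction -/
theorem sf_conj_diag (F₀ : Subfield F) (x : Matrix.SpecialLinearGroup (Fin n) F) {κ : Type*}
    [Fintype κ] [DecidableEq κ] (β : Module.Basis κ F VV) (e : κ ≃ Fin n) (c : F) (hc : c ≠ 0)
    (hent : ∀ a b, ∃ t : F₀,
      β.repr (Matrix.toLin' (x : Matrix (Fin n) (Fin n) F) (β b)) a = c * (t : F))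
    (dd : κ → F)
    (hdd : ∀ a b, β.repr (Matrix.toLin' (x : Matrix (Fin n) (Fin n) F) (β b)) a ≠ 0 →
      dd a = dd b)
    (hdet : (∏ b, dd b) * LinearMap.det
      (((Pi.basisFun F (Fin n)).equiv β e.symm : VV ≃ₗ[F] VV) : VV →ₗ[F] VV) = 1) :
    ∃ P : Matrix.SpecialLinearGroup (Fin n) F, P⁻¹ * x * P ∈
      (Cfsg.Geo.subfieldSubgroup F₀ (1 : GL (Fin n) F)).comap
        (Matrix.SpecialLinearGroup.toGL : Matrix.SpecialLinearGroup (Fin n) F →* GL (Fin n) F) := by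
  classical
  obtain ⟨xL, hxL⟩ : ∃ xL : VV →ₗ[F] VV, xL = Matrix.toLin' (x : Matrix (Fin n) (Fin n) F) :=
    ⟨_, rfl⟩
  obtain ⟨S, hSd⟩ : ∃ S : VV →ₗ[F] VV, S = Matrix.toLin β β (Matrix.diagonal dd) := ⟨_, rfl⟩
  have hSβ : ∀ a, S (β a) = dd a • β a := by
    intro a
    rw [hSd, Matrix.toLin_self]
    rw [Finset.sum_eq_single a]
    · rw [Matrix.diagonal_apply_eq]
    · intro j _ hj
      rw [Matrix.diagonal_apply_ne _ hj, zero_smul]
    · intro h
      exact absurd (Finset.mem_univ a) h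
  have hcomm : S ∘ₗ xL = xL ∘ₗ S := by
    apply β.ext
    intro b
    rw [LinearMap.comp_apply, LinearMap.comp_apply, hSβ, map_smul]
    nth_rewrite 1 [← β.sum_repr (xL (β b))]
    nth_rewrite 2 [← β.sum_repr (xL (β b))]
    rw [map_sum, Finset.smul_sum]
    apply Finset.sum_congr rfl
    intro a _
    rw [map_smul, hSβ]
    by_cases h0 : β.repr (xL (β b)) a = 0
    · rw [h0, zero_smul, zero_smul, smul_zero]
    · rw [hxL] at h0
      rw [hdd a b h0, smul_comm]
  apply sf_conj F₀ x β e c hc hent S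
  · intro v
    rw [← hxL]
    exact LinearMap.congr_fun hcomm v
  · rw [hSd, LinearMap.det_toLin, Matrix.det_diagonal]
    exact hdet

end Cfsg.Agent.helper29.SF
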