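import Mathlib
import Cfsg.Agent.Lib_helper29_SF1
import Cfsg.Agent.Lib_helper29_PS5

set_option autoImplicit false
set_option linter.unusedSectionVars false
set_option linter.unusedVariables false
namespace Cfsg.Agent.helper29.SF
open Matrix

variable {F : Type*} [Field F] {n : ℕ}

local notation "VV" => (Fin n → F)

/-- the model nonsplit matrix -/
def XX (m : ℕ) (z : F) : Matrix (Fin m ⊕ Fin m) (Fin m ⊕ Fin m) F :=
  Matrix.fromBlocks 0 (z • (1 : Matrix (Fin m) (Fin m) F)) 1 0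

theorem XX_mul_XX (m : ℕ) (z : F) : XX m z * XX m z = z • (1 : Matrix _ _ F) := by
  unfold XX
  rw [Matrix.fromBlocks_multiply, ← Matrix.fromBlocks_one, Matrix.fromBlocks_smul]
  simp

theorem det_swap (hchar : (2 : F) ≠ 0) (m : ℕ) :
    (Matrix.fromBlocks (0 : Matrix (Fin m) (Fin m) F) (1 : Matrix (Fin m) (Fin m) F)
      (1 : Matrix (Fin m) (Fin m) F) (0 : Matrix (Fin m) (Fin m) F)).det = (-1) ^ m := by
  obtain ⟨T, hT⟩ : ∃ T : Matrix (Fin m ⊕ Fin m) (Fin m ⊕ Fin m) F,
      T = Matrix.fromBlocks (1 : Matrix (Fin m) (Fin m) F) (1 : Matrix (Fin m) (Fin m) F)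
        (1 : Matrix (Fin m) (Fin m) F) (-1 : Matrix (Fin m) (Fin m) F) := ⟨_, rfl⟩
  obtain ⟨D, hD⟩ : ∃ D : Matrix (Fin m ⊕ Fin m) (Fin m ⊕ Fin m) F,
      D = Matrix.fromBlocks (1 : Matrix (Fin m) (Fin m) F) (0 : Matrix (Fin m) (Fin m) F)
        (0 : Matrix (Fin m) (Fin m) F) (-1 : Matrix (Fin m) (Fin m) F) := ⟨_, rfl⟩
  have h1 : Matrix.fromBlocks (0 : Matrix (Fin m) (Fin m) F) (1 : Matrix (Fin m) (Fin m) F)
      (1 : Matrix (Fin m) (Fin m) F) (0 : Matrix (Fin m) (Fin m) F) * T = T * D := by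
    rw [hT, hD, Matrix.fromBlocks_multiply, Matrix.fromBlocks_multiply]
    simp
  have hTT : T * T = Matrix.fromBlocks ((2 : F) • (1 : Matrix (Fin m) (Fin m) F))
      (0 : Matrix (Fin m) (Fin m) F) (0 : Matrix (Fin m) (Fin m) F)
      ((2 : F) • (1 : Matrix (Fin m) (Fin m) F)) := by
    rw [hT, Matrix.fromBlocks_multiply]
    simp [two_smul]
  have hTdet : T.det ≠ 0 := by
    intro h0
    have := congrArg Matrix.det hTT
    rw [Matrix.det_mul, h0, mul_zero, Matrix.det_fromBlocks_zero₂₁, Matrix.det_smul,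
      Matrix.det_one, mul_one, Fintype.card_fin] at this
    exact mul_ne_zero (pow_ne_zero m hchar) (pow_ne_zero m hchar) this.symm
  have hDdet : D.det = (-1) ^ m := by
    rw [hD, Matrix.det_fromBlocks_zero₂₁, Matrix.det_one, one_mul, Matrix.det_neg,
      Matrix.det_one, mul_one, Fintype.card_fin]
  have h2 := congrArg Matrix.det h1
  rw [Matrix.det_mul, Matrix.det_mul, hDdet, mul_comm] at h2
  exact mul_left_cancel₀ hTdet h2

theorem det_XX (hchar : (2 : F) ≠ 0) (m : ℕ) (z : F) : (XX m z).det = (-z) ^ m := by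
  have h1 : XX m z = Matrix.fromBlocks (z • (1 : Matrix (Fin m) (Fin m) F))
      (0 : Matrix (Fin m) (Fin m) F) (0 : Matrix (Fin m) (Fin m) F)
      (1 : Matrix (Fin m) (Fin m) F) *
      Matrix.fromBlocks (0 : Matrix (Fin m) (Fin m) F) (1 : Matrix (Fin m) (Fin m) F)
      (1 : Matrix (Fin m) (Fin m) F) (0 : Matrix (Fin m) (Fin m) F) := by
    unfold XX
    rw [Matrix.fromBlocks_multiply]
    simp
  rw [h1, Matrix.det_mul, det_swap hchar, Matrix.det_fromBlocks_zero₂₁, Matrix.det_smul,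
    Matrix.det_one, mul_one, mul_one, Fintype.card_fin, ← mul_pow]
  congr 1
  ring

/-- the determinant of a nonsplit element -/
theorem det_of_nonsplit (hchar : (2 : F) ≠ 0) (x : Matrix.SpecialLinearGroup (Fin n) F) (z : F)
    (hz : ∀ t : F, t * t ≠ z)
    (hx2 : (x : Matrix (Fin n) (Fin n) F) * (x : Matrix (Fin n) (Fin n) F) = z • 1) :
    ∃ m, n = m + m ∧ (-z) ^ m = 1 := by
  classical
  obtain ⟨xL, hxL⟩ : ∃ xL : VV →ₗ[F] VV, xL = Matrix.toLin' (x : Matrix (Fin n) (Fin n) F) :=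
    ⟨_, rfl⟩
  have hxx : ∀ v, xL (xL v) = z • v := by
    intro v
    rw [hxL, Matrix.toLin'_apply, Matrix.toLin'_apply, Matrix.mulVec_mulVec, hx2,
      Matrix.smul_mulVec, Matrix.one_mulVec]
  obtain ⟨m, B, h1, h2⟩ := Cfsg.Agent.helper29.PS.exists_adapted_nonsplit xL z hz hxx
  have hm : n = m + m := by
    have := Module.finrank_eq_card_basis B
    rw [Module.finrank_fin_fun, Fintype.card_sum, Fintype.card_fin] at this
    exact this
  refine ⟨m, hm, ?_⟩
  have hdet : LinearMap.det xL = 1 := by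
    rw [hxL, LinearMap.det_toLin']
    exact x.2
  have hmat : LinearMap.toMatrix B B xL = XX m z := by
    ext i j
    rw [LinearMap.toMatrix_apply]
    unfold XX
    rcases j with j | j
    · rw [h1, Module.Basis.repr_self, Finsupp.single_apply]
      rcases i with i | i
      · rw [if_neg (by simp), Matrix.fromBlocks_apply₁₁, Matrix.zero_apply]
      · rw [Matrix.fromBlocks_apply₂₁, Matrix.one_apply]
        by_cases hij : i = j
        · rw [if_pos hij, if_pos (by rw [hij])]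
        · rw [if_neg hij, if_neg (by
            intro h
            exact hij (Sum.inr.inj h).symm)]
    · rw [h2, map_smul, Module.Basis.repr_self, Finsupp.smul_apply, Finsupp.single_apply]
      rcases i with i | i
      · rw [Matrix.fromBlocks_apply₁₂, Matrix.smul_apply, Matrix.one_apply]
        by_cases hij : i = j
        · rw [if_pos hij, if_pos (by rw [hij])]
        · rw [if_neg hij, if_neg (by
            intro h
            exact hij (Sum.inl.inj h).symm)]
      · rw [if_neg (by simp), Matrix.fromBlocks_apply₂₂, Matrix.zero_apply, smul_zero]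
  rw [← LinearMap.det_toMatrix B, hmat, det_XX hchar] at hdet
  exact hdet

theorem ringChar_ne_two (hchar : (2 : F) ≠ 0) : ringChar F ≠ 2 := by
  intro h2
  apply hchar
  haveI : CharP F 2 := by
    rw [← h2]
    exact ringChar.charP F
  exact CharTwo.two_eq_zero

/-- elements of the subfield of index two are squares -/
theorem isSquare_of_mem_subfield [Fintype F] (hchar : (2 : F) ≠ 0) (F₀ : Subfield F) {q q₀ : ℕ}
    (hq : Fintype.card F = q) (hF₀ : Nat.card ↥F₀ = q₀) (hqk : q = q₀ ^ 2) (t : F₀) :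
    IsSquare (t : F) := by
  classical
  by_cases ht : t = 0
  · rw [ht]
    exact ⟨0, by simp⟩
  have hrc := ringChar_ne_two hchar
  have ht' : (t : F) ≠ 0 := by
    intro h
    apply ht
    exact Subtype.ext h
  rw [FiniteField.isSquare_iff hrc ht', hq]
  haveI : Fintype ↥F₀ := Fintype.ofFinite _
  have h1 : t ^ (q₀ - 1) = 1 := by
    have := FiniteField.pow_card_sub_one_eq_one t ht
    rw [← Nat.card_eq_fintype_card, hF₀] at this
    exact this
  have h1' : (t : F) ^ (q₀ - 1) = 1 := by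
    have := congrArg (fun s : F₀ => (s : F)) h1
    simpa using this
  have hqodd : q % 2 = 1 := by
    rw [← hq]
    exact FiniteField.odd_card_of_char_ne_two hrc
  have hq₀odd : q₀ % 2 = 1 := by
    rcases Nat.mod_two_eq_zero_or_one q₀ with h | h
    · exfalso
      have : 2 ∣ q := by
        rw [hqk]
        exact Dvd.dvd.pow (Nat.dvd_of_mod_eq_zero h) (by norm_num)
      omega
    · exact h
  have e : q / 2 = (q₀ - 1) * ((q₀ + 1) / 2) := by
    obtain ⟨j, hj⟩ : ∃ j, q₀ = 2 * j + 1 := ⟨q₀ / 2, by omega⟩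
    rw [hqk, hj]
    have h3 : (2 * j + 1) ^ 2 = 2 * (2 * j * (j + 1)) + 1 := by ring
    have h4 : 2 * j + 1 - 1 = 2 * j := by omega
    have h5 : (2 * j + 1 + 1) / 2 = j + 1 := by omega
    rw [h3, h4, h5]
    generalize 2 * j * (j + 1) = a
    omega
  rw [e, pow_mul, h1', one_pow]

/-- no nonsplit element of determinant one when the `2`-part of `n` is small -/
theorem nonsplit_arith [Fintype F] (hchar : (2 : F) ≠ 0) {q : ℕ} (hq : Fintype.card F = q)
    (hm1 : IsSquare (-1 : F)) (z : F) (hz : ∀ t : F, t * t ≠ z) (m : ℕ) (hm : (-z) ^ m = 1)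
    (hm0 : m ≠ 0) (hle : padicValNat 2 (m + m) ≤ padicValNat 2 (q - 1)) : False := by
  classical
  have hrc := ringChar_ne_two hchar
  obtain ⟨u, hu⟩ := hm1
  obtain ⟨w, hw⟩ : ∃ w : F, w = -z := ⟨_, rfl⟩
  rw [← hw] at hm
  have hwns : ¬ IsSquare w := by
    rintro ⟨s, hs⟩
    apply hz (u * s)
    have : z = -w := by rw [hw, neg_neg]
    rw [this, hs]
    linear_combination (-(s * s)) * hu
  have hw0 : w ≠ 0 := by
    rintro rfl
    exact hwns ⟨0, by simp⟩
  have hwp : w ^ (q / 2) = -1 := by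
    rcases FiniteField.pow_dichotomy hrc hw0 with h1 | h1
    · exact absurd ((FiniteField.isSquare_iff hrc hw0).mpr h1) hwns
    · rw [hq] at h1
      exact h1
  have hqodd : q % 2 = 1 := by
    rw [← hq]
    exact FiniteField.odd_card_of_char_ne_two hrc
  have hq1 : q - 1 ≠ 0 := by
    have : 1 < q := by
      rw [← hq]
      exact Fintype.one_lt_card
    omega
  obtain ⟨m', hm'odd, hm'⟩ := Cfsg.Agent.helper29.PS.two_adic_decomp (q - 1) hq1
  obtain ⟨m'', hm''odd, hm''⟩ := Cfsg.Agent.helper29.PS.two_adic_decomp m hm0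
  have hv : padicValNat 2 (m + m) = padicValNat 2 m + 1 := by
    rw [← two_mul, padicValNat.mul (by norm_num) hm0, padicValNat_self]
    omega
  obtain ⟨a, ha⟩ : ∃ a, a = padicValNat 2 (q - 1) := ⟨_, rfl⟩
  obtain ⟨j, hj⟩ : ∃ j, j = padicValNat 2 m := ⟨_, rfl⟩
  rw [← ha] at hm' hle
  rw [← hj] at hm'' hv
  rw [hv] at hle
  obtain ⟨a', ha'⟩ : ∃ a', a = a' + 1 := ⟨a - 1, by omega⟩
  have hq2 : q / 2 = 2 ^ a' * m' := by
    have : q - 1 = 2 * (2 ^ a' * m') := by
      rw [hm', ha', pow_succ]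
      ring
    omega
  rw [hq2] at hwp
  obtain ⟨i, hi⟩ : ∃ i, a' = j + i := ⟨a' - j, by omega⟩
  have E1 : w ^ (2 ^ a' * m'') = 1 := by
    have : 2 ^ a' * m'' = m * 2 ^ i := by
      rw [hi, pow_add, hm'']
      ring
    rw [this, pow_mul, hm, one_pow]
  have E2 : (w ^ (2 ^ a' * m')) ^ m'' = -1 := by
    rw [hwp, hm''odd.neg_one_pow]
  have E3 : (w ^ (2 ^ a' * m')) ^ m'' = 1 := by
    rw [← pow_mul]
    have : 2 ^ a' * m' * m'' = 2 ^ a' * m'' * m' := by ring
    rw [this, pow_mul, E1, one_pow]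
  rw [E3] at E2
  apply hchar
  linear_combination E2

/-- existence of the parameter of a nonsplit element of determinant one -/
theorem exists_nonsplit_param [Fintype F] (hchar : (2 : F) ≠ 0) {q : ℕ}
    (hq : Fintype.card F = q) (hm1 : IsSquare (-1 : F)) (m : ℕ)
    (hlt : padicValNat 2 (q - 1) < padicValNat 2 (m + m)) :
    ∃ z : F, (∀ t : F, t * t ≠ z) ∧ (-z) ^ m = 1 := by
  classical
  have hrc := ringChar_ne_two hchar
  obtain ⟨u, hu⟩ := hm1
  have hm0 : m ≠ 0 := by
    rintro rfl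
    simp at hlt
  have hqodd : q % 2 = 1 := by
    rw [← hq]
    exact FiniteField.odd_card_of_char_ne_two hrc
  have hq1 : q - 1 ≠ 0 := by
    have : 1 < q := by
      rw [← hq]
      exact Fintype.one_lt_card
    omega
  obtain ⟨ε, hε⟩ := FiniteField.exists_nonsquare hrc
  have hε0 : ε ≠ 0 := by
    rintro rfl
    exact hε ⟨0, by ring⟩
  have hεp : ε ^ (q / 2) = -1 := by
    rcases FiniteField.pow_dichotomy hrc hε0 with h1 | h1
    · exact absurd ((FiniteField.isSquare_iff hrc hε0).mpr h1) hε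
    · rw [hq] at h1
      exact h1
  obtain ⟨m', hm'odd, hm'⟩ := Cfsg.Agent.helper29.PS.two_adic_decomp (q - 1) hq1
  obtain ⟨w, hw⟩ : ∃ w : F, w = ε ^ m' := ⟨_, rfl⟩
  have hw0 : w ≠ 0 := by
    rw [hw]
    exact pow_ne_zero _ hε0
  have hwp : w ^ (q / 2) = -1 := by
    rw [hw, ← pow_mul, mul_comm, pow_mul, hεp, hm'odd.neg_one_pow]
  have hwns : ¬ IsSquare w := by
    intro hsq
    have := (FiniteField.isSquare_iff hrc hw0).mp hsq
    rw [hq, hwp] at this
    apply hchar
    linear_combination -this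
  have hv : padicValNat 2 (m + m) = padicValNat 2 m + 1 := by
    rw [← two_mul, padicValNat.mul (by norm_num) hm0, padicValNat_self]
    omega
  have hdvd : 2 ^ padicValNat 2 (q - 1) ∣ m :=
    (pow_dvd_pow 2 (by omega)).trans pow_padicValNat_dvd
  have hw2 : w ^ (2 ^ padicValNat 2 (q - 1)) = 1 := by
    rw [hw, ← pow_mul, mul_comm, ← hm', ← hq]
    exact FiniteField.pow_card_sub_one_eq_one ε hε0
  refine ⟨-w, ?_, ?_⟩
  · intro t ht
    apply hwns
    refine ⟨u * t, ?_⟩
    linear_combination (t * t) * hu + ht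
  · rw [neg_neg]
    obtain ⟨c, hc⟩ := hdvd
    rw [hc, pow_mul, hw2, one_pow]

/-- a nonsplit element is not conjugate into the subfield group of index two -/
theorem sf_bad_element (hchar : (2 : F) ≠ 0) (F₀ : Subfield F)
    (hsq : ∀ t : F₀, IsSquare (t : F)) (z : F) (hz : ∀ t : F, t * t ≠ z) (m : ℕ)
    (hn : n = m + m) (hn1 : 1 ≤ n) (hdet : (-z) ^ m = 1) :
    ∃ x : Matrix.SpecialLinearGroup (Fin n) F,
      (∃ z' : F, ((x ^ 2 : Matrix.SpecialLinearGroup (Fin n) F) : Matrix (Fin n) (Fin n) F) =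
        z' • (1 : Matrix (Fin n) (Fin n) F)) ∧
      (∀ c : F, (x : Matrix (Fin n) (Fin n) F) ≠ c • (1 : Matrix (Fin n) (Fin n) F)) ∧
      ¬ ∃ P : Matrix.SpecialLinearGroup (Fin n) F, P⁻¹ * x * P ∈
        (Cfsg.Geo.subfieldSubgroup F₀ (1 : GL (Fin n) F)).comap
          (Matrix.SpecialLinearGroup.toGL :
            Matrix.SpecialLinearGroup (Fin n) F →* GL (Fin n) F) := by
  classical
  obtain ⟨e, -⟩ : ∃ e : Fin m ⊕ Fin m ≃ Fin n, True :=
    ⟨finSumFinEquiv.trans (finCongr hn.symm), trivial⟩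
  obtain ⟨Xn, hXn⟩ : ∃ Xn : Matrix (Fin n) (Fin n) F, Xn = (XX m z).submatrix e.symm e.symm :=
    ⟨_, rfl⟩
  have hXdet : Xn.det = 1 := by
    rw [hXn, Matrix.det_submatrix_equiv_self, det_XX hchar, hdet]
  have hXX : Xn * Xn = z • (1 : Matrix (Fin n) (Fin n) F) := by
    rw [hXn, Matrix.submatrix_mul_equiv, XX_mul_XX]
    ext i j
    simp [Matrix.one_apply]
  obtain ⟨x, hx⟩ : ∃ x : Matrix.SpecialLinearGroup (Fin n) F,
      (x : Matrix (Fin n) (Fin n) F) = Xn := ⟨⟨Xn, hXdet⟩, rfl⟩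
  obtain ⟨i0, -⟩ : ∃ i0 : Fin n, True := ⟨⟨0, by omega⟩, trivial⟩
  refine ⟨x, ⟨z, ?_⟩, ?_, ?_⟩
  · rw [pow_two, Matrix.SpecialLinearGroup.coe_mul, hx, hXX]
  · intro c hc
    rw [hx] at hc
    rw [hc, Matrix.smul_mul, Matrix.mul_smul, Matrix.one_mul, smul_smul] at hXX
    have := congrFun (congrFun hXX i0) i0
    rw [Matrix.smul_apply, Matrix.smul_apply, Matrix.one_apply_eq, smul_eq_mul, smul_eq_mul,
      mul_one, mul_one] at this
    exact hz c this
  · rintro ⟨P, hP⟩
    rw [Subgroup.mem_comap] at hP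
    obtain ⟨c, A₀, hc, hA⟩ := mem_sf_elim F₀ _ hP
    have h2 : ((P⁻¹ : Matrix.SpecialLinearGroup (Fin n) F) : Matrix (Fin n) (Fin n) F) *
        (P : Matrix (Fin n) (Fin n) F) = 1 := by
      rw [← Matrix.SpecialLinearGroup.coe_mul, inv_mul_cancel,
        Matrix.SpecialLinearGroup.coe_one]
    have h3 : (P : Matrix (Fin n) (Fin n) F) *
        ((P⁻¹ : Matrix.SpecialLinearGroup (Fin n) F) : Matrix (Fin n) (Fin n) F) = 1 := by
      rw [← Matrix.SpecialLinearGroup.coe_mul, mul_inv_cancel,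
        Matrix.SpecialLinearGroup.coe_one]
    have hsqr : ((P⁻¹ * x * P : Matrix.SpecialLinearGroup (Fin n) F) :
        Matrix (Fin n) (Fin n) F) * ((P⁻¹ * x * P : Matrix.SpecialLinearGroup (Fin n) F) :
        Matrix (Fin n) (Fin n) F) = z • 1 := by
      rw [Matrix.SpecialLinearGroup.coe_mul, Matrix.SpecialLinearGroup.coe_mul, hx]
      calc ((P⁻¹ : Matrix.SpecialLinearGroup (Fin n) F) : Matrix (Fin n) (Fin n) F) * Xn *
            (P : Matrix (Fin n) (Fin n) F) *
            (((P⁻¹ : Matrix.SpecialLinearGroup (Fin n) F) : Matrix (Fin n) (Fin n) F) * Xn *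
            (P : Matrix (Fin n) (Fin n) F))
          = ((P⁻¹ : Matrix.SpecialLinearGroup (Fin n) F) : Matrix (Fin n) (Fin n) F) * (Xn *
            ((P : Matrix (Fin n) (Fin n) F) *
            ((P⁻¹ : Matrix.SpecialLinearGroup (Fin n) F) : Matrix (Fin n) (Fin n) F)) * Xn) *
            (P : Matrix (Fin n) (Fin n) F) := by
            simp only [Matrix.mul_assoc]
        _ = z • 1 := by
            rw [h3, Matrix.mul_one, hXX, Matrix.mul_smul, Matrix.smul_mul, Matrix.mul_one, h2]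
    rw [hA, Matrix.smul_mul, Matrix.mul_smul, smul_smul] at hsqr
    have h4 : A₀.map (F₀.subtype : F₀ →+* F) * A₀.map (F₀.subtype : F₀ →+* F) =
        (A₀ * A₀).map (F₀.subtype : F₀ →+* F) := by
      rw [Matrix.map_mul]
    rw [h4] at hsqr
    have := congrFun (congrFun hsqr i0) i0
    rw [Matrix.smul_apply, Matrix.smul_apply, Matrix.one_apply_eq, smul_eq_mul, smul_eq_mul,
      mul_one, Matrix.map_apply] at this
    obtain ⟨s, hs⟩ := hsq ((A₀ * A₀) i0 i0)
    apply hz (c * s)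
    rw [← this]
    have hs' : (F₀.subtype : F₀ →+* F) ((A₀ * A₀) i0 i0) = s * s := hs
    rw [hs']
    ring

end Cfsg.Agent.helper29.SF
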