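import Mathlib
import Cfsg.Agent.Lib_helper29_SF3

set_option autoImplicit false
set_option linter.unusedSectionVars false
set_option linter.unusedVariables false
namespace Cfsg.Agent.helper29.EF
open Matrix

variable {F : Type*} [Field F] {n : ℕ}

local notation "VV" => (Fin n → F)
local notation "MM" => Matrix (Fin n) (Fin n) F

/-- a generator of a quadratic field subalgebra -/
theorem exists_gen (K : Subalgebra F MM) (hK : Cfsg.Geo.IsFieldSubalgebra 2 K) :
    ∃ (κ : MM) (a₀ b₀ : F), κ ∈ K ∧ (∀ c : F, κ ≠ c • 1) ∧ κ * κ = a₀ • κ - b₀ • 1 ∧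
      (∀ k ∈ K, ∃ s t : F, k = s • 1 + t • κ) := by
  classical
  have hfr := hK.finrank_eq
  obtain ⟨κ', hκ'⟩ : ∃ κ' : K, ∀ c : F, c • (1 : K) ≠ κ' := by
    by_contra hcon
    push Not at hcon
    have := finrank_le_one (1 : K) hcon
    omega
  have h1ne : (1 : K) ≠ 0 := by
    intro h0
    apply hκ' 0
    rw [zero_smul]
    have : κ' = κ' * 1 := (mul_one κ').symm
    rw [this, h0, mul_zero]
  have hli : LinearIndependent F ![(1 : K), κ'] := by
    rw [LinearIndependent.pair_iff]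
    intro s t hst
    have ht : t = 0 := by
      by_contra ht
      apply hκ' (-(s / t))
      have h2 : t • κ' = -(s • (1 : K)) := by
        rw [eq_neg_iff_add_eq_zero, add_comm]
        exact hst
      have h3 : κ' = t⁻¹ • (t • κ') := by
        rw [smul_smul, inv_mul_cancel₀ ht, one_smul]
      rw [h3, h2, smul_neg, smul_smul, neg_smul]
      congr 2
      field_simp
    refine ⟨?_, ht⟩
    rw [ht, zero_smul, add_zero] at hst
    rcases smul_eq_zero.mp hst with h | h
    · exact h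
    · exact absurd h h1ne
  obtain ⟨b, hb⟩ : ∃ b : Module.Basis (Fin 2) F K, ⇑b = ![(1 : K), κ'] :=
    ⟨basisOfLinearIndependentOfCardEqFinrank hli (by rw [hfr]; rfl),
      coe_basisOfLinearIndependentOfCardEqFinrank _ _⟩
  have hspan : ∀ k : K, ∃ s t : F, (k : MM) = s • 1 + t • (κ' : MM) := by
    intro k
    refine ⟨b.repr k 0, b.repr k 1, ?_⟩
    have h1 := b.sum_repr k
    rw [Fin.sum_univ_two, hb] at h1
    have h2 := congrArg (fun y : K => (y : MM)) h1
    simp only [Matrix.cons_val_zero, Matrix.cons_val_one] at h2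
    rw [← h2]
    rfl
  obtain ⟨s, t, hst⟩ := hspan (κ' * κ')
  refine ⟨(κ' : MM), t, -s, κ'.2, ?_, ?_, ?_⟩
  · intro c hc
    apply hκ' c
    apply Subtype.ext
    rw [hc]
    rfl
  · have : ((κ' * κ' : K) : MM) = (κ' : MM) * (κ' : MM) := rfl
    rw [← this, hst, neg_smul, sub_neg_eq_add, add_comm]
  · intro k hk
    exact hspan ⟨k, hk⟩

/-- nonzero elements of the field subalgebra act injectively -/
theorem inj_of_mem (K : Subalgebra F MM) (hK : Cfsg.Geo.IsFieldSubalgebra 2 K) (k : MM)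
    (hk : k ∈ K) (hk0 : k ≠ 0) (w : VV) (hw : k *ᵥ w = 0) : w = 0 := by
  obtain ⟨y, hy, hky⟩ := hK.inv k hk hk0
  have hyk : y * k = 1 := by rw [hK.comm y hy k hk, hky]
  have : w = (y * k) *ᵥ w := by rw [hyk, Matrix.one_mulVec]
  rw [this, ← Matrix.mulVec_mulVec, hw, Matrix.mulVec_zero]

theorem smul_one_mem (K : Subalgebra F MM) (c : F) : c • (1 : MM) ∈ K :=
  K.smul_mem K.one_mem c

/-- an element normalising `K` commutes with the generator or conjugates it to its conjugate -/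
theorem conj_gen (K : Subalgebra F MM) (hK : Cfsg.Geo.IsFieldSubalgebra 2 K) (κ : MM)
    (a₀ b₀ : F) (hκ : κ ∈ K) (hsq : κ * κ = a₀ • κ - b₀ • 1) (g : GL (Fin n) F)
    (hg : g ∈ Cfsg.Geo.subalgebraNormalizer K) :
    (g : MM) * κ = κ * (g : MM) ∨ (g : MM) * κ = (a₀ • 1 - κ) * (g : MM) := by
  obtain ⟨G, hG⟩ : ∃ G : MM, G = (g : MM) := ⟨_, rfl⟩
  obtain ⟨G', hG'⟩ : ∃ G' : MM, G' = ((g⁻¹ : GL (Fin n) F) : MM) := ⟨_, rfl⟩
  have h1 : G * G' = 1 := by rw [hG, hG']; exact Units.mul_inv g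
  have h2 : G' * G = 1 := by rw [hG, hG']; exact Units.inv_mul g
  have hmem : G * κ * G' ∈ K := by
    rw [hG, hG']
    exact (hg κ).mp hκ
  rw [← hG]
  obtain ⟨κ', hκ'⟩ : ∃ κ' : MM, κ' = G * κ * G' := ⟨_, rfl⟩
  rw [← hκ'] at hmem
  have hκ'G : κ' * G = G * κ := by
    rw [hκ', Matrix.mul_assoc, h2, Matrix.mul_one]
  have hsq' : κ' * κ' = a₀ • κ' - b₀ • 1 := by
    have e1 : κ' * κ' = G * (κ * κ) * G' := by
      rw [hκ']
      calc G * κ * G' * (G * κ * G') = G * κ * (G' * G) * κ * G' := by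
            simp only [Matrix.mul_assoc]
        _ = G * (κ * κ) * G' := by
            rw [h2, Matrix.mul_one]
            simp only [Matrix.mul_assoc]
    rw [e1, hsq, Matrix.mul_sub, Matrix.sub_mul, Matrix.mul_smul, Matrix.smul_mul,
      Matrix.mul_smul, Matrix.smul_mul, Matrix.mul_one, h1, ← hκ']
  have hcomm : κ' * κ = κ * κ' := hK.comm κ' hmem κ hκ
  have hprod : (κ' - κ) * (κ' - (a₀ • 1 - κ)) = 0 := by
    have e : (κ' - κ) * (κ' - (a₀ • 1 - κ)) =
        κ' * κ' - a₀ • κ' + κ' * κ - κ * κ' + a₀ • κ - κ * κ := by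
      simp only [Matrix.sub_mul, Matrix.mul_sub, Matrix.mul_smul, Matrix.mul_one, smul_sub]
      abel
    rw [e, hsq', hsq, hcomm]
    abel
  by_cases hne : κ' - κ = 0
  · left
    rw [← hκ'G, sub_eq_zero.mp hne]
  · right
    have hm : κ' - κ ∈ K := K.sub_mem hmem hκ
    obtain ⟨y, hy, hky⟩ := hK.inv _ hm hne
    have hyk : y * (κ' - κ) = 1 := by rw [hK.comm y hy _ hm, hky]
    have h0 : κ' - (a₀ • 1 - κ) = 0 := by
      have : κ' - (a₀ • 1 - κ) = (y * (κ' - κ)) * (κ' - (a₀ • 1 - κ)) := by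
        rw [hyk, Matrix.one_mul]
      rw [this, Matrix.mul_assoc, hprod, Matrix.mul_zero]
    rw [← hκ'G, sub_eq_zero.mp h0]

/-- elements commuting with the generator, or conjugating it to its conjugate, normalise `K` -/
theorem mem_normalizer_of (K : Subalgebra F MM) (κ : MM) (a₀ : F) (hκ : κ ∈ K)
    (hspan : ∀ k ∈ K, ∃ s t : F, k = s • 1 + t • κ) (g : GL (Fin n) F)
    (h : (g : MM) * κ = κ * (g : MM) ∨ (g : MM) * κ = (a₀ • 1 - κ) * (g : MM)) :
    g ∈ Cfsg.Geo.subalgebraNormalizer K := by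
  obtain ⟨G, hG⟩ : ∃ G : MM, G = (g : MM) := ⟨_, rfl⟩
  obtain ⟨G', hG'⟩ : ∃ G' : MM, G' = ((g⁻¹ : GL (Fin n) F) : MM) := ⟨_, rfl⟩
  have h1 : G * G' = 1 := by rw [hG, hG']; exact Units.mul_inv g
  have h2 : G' * G = 1 := by rw [hG, hG']; exact Units.inv_mul g
  rw [← hG] at h
  have hbar : a₀ • (1 : MM) - κ ∈ K := K.sub_mem (smul_one_mem K a₀) hκ
  -- both conjugations preserve `K`
  have key : (∀ k ∈ K, G * k * G' ∈ K) ∧ (∀ k ∈ K, G' * k * G ∈ K) := by
    rcases h with h | h
    · have hc : ∀ k ∈ K, G * k = k * G := by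
        intro k hk
        obtain ⟨s, t, rfl⟩ := hspan k hk
        rw [Matrix.mul_add, Matrix.add_mul, Matrix.mul_smul, Matrix.smul_mul, Matrix.mul_smul,
          Matrix.smul_mul, Matrix.mul_one, Matrix.one_mul, h]
      constructor
      · intro k hk
        rw [hc k hk, Matrix.mul_assoc, h1, Matrix.mul_one]
        exact hk
      · intro k hk
        rw [Matrix.mul_assoc, ← hc k hk, ← Matrix.mul_assoc, h2, Matrix.one_mul]
        exact hk
    · have h' : G * (a₀ • 1 - κ) = κ * G := by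
        rw [Matrix.mul_sub, h, Matrix.sub_mul, Matrix.mul_smul, Matrix.smul_mul, Matrix.mul_one,
          Matrix.one_mul]
        abel
      have e1 : G * κ * G' = a₀ • 1 - κ := by
        rw [h, Matrix.mul_assoc, h1, Matrix.mul_one]
      have e2 : G' * κ * G = a₀ • 1 - κ := by
        rw [Matrix.mul_assoc, ← h', ← Matrix.mul_assoc, h2, Matrix.one_mul]
      constructor
      · intro k hk
        obtain ⟨s, t, rfl⟩ := hspan k hk
        have : G * (s • 1 + t • κ) * G' = s • 1 + t • (G * κ * G') := by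
          rw [Matrix.mul_add, Matrix.add_mul, Matrix.mul_smul, Matrix.smul_mul, Matrix.mul_smul,
            Matrix.smul_mul, Matrix.mul_one, h1]
        rw [this, e1]
        exact K.add_mem (smul_one_mem K s) (K.smul_mem hbar t)
      · intro k hk
        obtain ⟨s, t, rfl⟩ := hspan k hk
        have : G' * (s • 1 + t • κ) * G = s • 1 + t • (G' * κ * G) := by
          rw [Matrix.mul_add, Matrix.add_mul, Matrix.mul_smul, Matrix.smul_mul, Matrix.mul_smul,
            Matrix.smul_mul, Matrix.mul_one, h2]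
        rw [this, e2]
        exact K.add_mem (smul_one_mem K s) (K.smul_mem hbar t)
  intro k
  show k ∈ K ↔ (g : MM) * k * ((g⁻¹ : GL (Fin n) F) : MM) ∈ K
  rw [← hG, ← hG']
  constructor
  · intro hk
    exact key.1 k hk
  · intro hk
    have := key.2 _ hk
    have e : G' * (G * k * G') * G = k := by
      calc G' * (G * k * G') * G = (G' * G) * k * (G' * G) := by
            simp only [Matrix.mul_assoc]
        _ = k := by rw [h2, Matrix.one_mul, Matrix.mul_one]
    rw [e] at this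
    exact this

end Cfsg.Agent.helper29.EF
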