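import Mathlib
import Cfsg.Agent.Lib_helper29_EF1

set_option autoImplicit false
set_option linter.unusedSectionVars false
set_option linter.unusedVariables false
namespace Cfsg.Agent.helper29.EF
open Matrix

variable {F : Type*} [Field F] {n : ℕ}

local notation "VV" => (Fin n → F)
local notation "MM" => Matrix (Fin n) (Fin n) F

/-- an element normalising `K` is not a scalar plus a rank one map, in dimension at least 3 -/
theorem ef_no_rank_one (K : Subalgebra F MM) (hK : Cfsg.Geo.IsFieldSubalgebra 2 K)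
    (g : GL (Fin n) F) (hg : g ∈ Cfsg.Geo.subalgebraNormalizer K) (lam : F) (φ : VV →ₗ[F] F)
    (w : VV) (hw : w ≠ 0) (hφ : φ ≠ 0) (h : ∀ v, (g : MM) *ᵥ v = lam • v + φ v • w)
    (hn : 3 ≤ n) : False := by
  classical
  obtain ⟨κ, a₀, b₀, hκ, hns, hsq, hspan⟩ := exists_gen K hK
  have hcase1 : (g : MM) * κ = κ * (g : MM) → False := by
    intro hc
    obtain ⟨v₁, hv₁⟩ : ∃ v₁, φ v₁ ≠ 0 := by
      by_contra hcon
      push Not at hcon
      apply hφ
      ext v
      exact hcon _
    have e := congrArg (fun M : MM => M *ᵥ v₁) hc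
    simp only [← Matrix.mulVec_mulVec] at e
    rw [h, h, Matrix.mulVec_add, Matrix.mulVec_smul, Matrix.mulVec_smul] at e
    have e2 : φ (κ *ᵥ v₁) • w = φ v₁ • (κ *ᵥ w) := add_left_cancel e
    have e3 : (κ - (φ (κ *ᵥ v₁) / φ v₁) • 1) *ᵥ w = 0 := by
      rw [Matrix.sub_mulVec, Matrix.smul_mulVec, Matrix.one_mulVec, sub_eq_zero]
      have : κ *ᵥ w = (φ v₁)⁻¹ • (φ v₁ • (κ *ᵥ w)) := by
        rw [smul_smul, inv_mul_cancel₀ hv₁, one_smul]
      rw [this, ← e2, smul_smul]
      congr 1
      field_simp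
    apply hw
    apply inj_of_mem K hK _ (K.sub_mem hκ (smul_one_mem K _)) ?_ w e3
    intro h0
    exact hns _ (sub_eq_zero.mp h0)
  rcases conj_gen K hK κ a₀ b₀ hκ hsq g hg with hc | hc
  · exact hcase1 hc
  · by_cases hbar : κ = a₀ • 1 - κ
    · rw [← hbar] at hc
      exact hcase1 hc
    · obtain ⟨u, hu0, hu1, hu2⟩ : ∃ u : VV, u ≠ 0 ∧ φ u = 0 ∧ φ (κ *ᵥ u) = 0 := by
        obtain ⟨ψ, hψ⟩ : ∃ ψ : VV →ₗ[F] (Fin 2 → F),
            ψ = LinearMap.pi ![φ, φ ∘ₗ Matrix.toLin' κ] := ⟨_, rfl⟩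
        have hlt : Module.finrank F (Fin 2 → F) < Module.finrank F VV := by
          rw [Module.finrank_fin_fun, Module.finrank_fin_fun]
          omega
        have hker := LinearMap.ker_ne_bot_of_finrank_lt (f := ψ) hlt
        obtain ⟨u, hu, hu0⟩ := (Submodule.ne_bot_iff _).mp hker
        rw [LinearMap.mem_ker] at hu
        refine ⟨u, hu0, ?_, ?_⟩
        · have := congrFun hu 0
          rw [hψ] at this
          simpa using this
        · have := congrFun hu 1
          rw [hψ] at this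
          simpa using this
      have e := congrArg (fun M : MM => M *ᵥ u) hc
      simp only [← Matrix.mulVec_mulVec] at e
      rw [h, h, hu1, hu2, zero_smul, add_zero, add_zero] at e
      by_cases hl : lam = 0
      · have hgu : (g : MM) *ᵥ u = 0 := by
          rw [h, hl, hu1, zero_smul, zero_smul, add_zero]
        apply hu0
        have : u = (((g⁻¹ : GL (Fin n) F) : MM) * (g : MM)) *ᵥ u := by
          rw [Units.inv_mul, Matrix.one_mulVec]
        rw [this, ← Matrix.mulVec_mulVec, hgu, Matrix.mulVec_zero]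
      · have e3 : (κ - (a₀ • 1 - κ)) *ᵥ u = 0 := by
          rw [Matrix.mulVec_smul] at e
          have e' := smul_right_injective VV hl e
          rw [Matrix.sub_mulVec, sub_eq_zero]
          exact e'
        apply hu0
        apply inj_of_mem K hK _ (K.sub_mem hκ (K.sub_mem (smul_one_mem K a₀) hκ)) ?_ u e3
        intro h0
        exact hbar (sub_eq_zero.mp h0)

/-- a scalar plus a rank one map is not conjugate into the normaliser of `K` -/
theorem ef_not_conj (K : Subalgebra F MM) (hK : Cfsg.Geo.IsFieldSubalgebra 2 K)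
    (x : Matrix.SpecialLinearGroup (Fin n) F) (lam : F) (φ : VV →ₗ[F] F) (w : VV) (hw : w ≠ 0)
    (hφ : φ ≠ 0) (h : ∀ v, (x : MM) *ᵥ v = lam • v + φ v • w) (hn : 3 ≤ n) :
    ¬ ∃ P : Matrix.SpecialLinearGroup (Fin n) F, P⁻¹ * x * P ∈
      (Cfsg.Geo.subalgebraNormalizer K).comap
        (Matrix.SpecialLinearGroup.toGL : Matrix.SpecialLinearGroup (Fin n) F →* GL (Fin n) F) := by
  rintro ⟨P, hP⟩
  rw [Subgroup.mem_comap] at hP
  have h2 : ((P⁻¹ : Matrix.SpecialLinearGroup (Fin n) F) : MM) * (P : MM) = 1 := by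
    rw [← Matrix.SpecialLinearGroup.coe_mul, inv_mul_cancel, Matrix.SpecialLinearGroup.coe_one]
  have h3 : (P : MM) * ((P⁻¹ : Matrix.SpecialLinearGroup (Fin n) F) : MM) = 1 := by
    rw [← Matrix.SpecialLinearGroup.coe_mul, mul_inv_cancel, Matrix.SpecialLinearGroup.coe_one]
  apply ef_no_rank_one K hK _ hP lam (φ ∘ₗ Matrix.toLin' (P : MM))
    (((P⁻¹ : Matrix.SpecialLinearGroup (Fin n) F) : MM) *ᵥ w) ?_ ?_ ?_ hn
  · intro h0
    apply hw
    have : w = ((P : MM) * ((P⁻¹ : Matrix.SpecialLinearGroup (Fin n) F) : MM)) *ᵥ w := by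
      rw [h3, Matrix.one_mulVec]
    rw [this, ← Matrix.mulVec_mulVec, h0, Matrix.mulVec_zero]
  · intro h0
    apply hφ
    apply LinearMap.ext
    intro v
    have := LinearMap.congr_fun h0 (((P⁻¹ : Matrix.SpecialLinearGroup (Fin n) F) : MM) *ᵥ v)
    rw [LinearMap.comp_apply, Matrix.toLin'_apply, Matrix.mulVec_mulVec, h3,
      Matrix.one_mulVec] at this
    rw [this]
    rfl
  · intro v
    have hc : ((Matrix.SpecialLinearGroup.toGL (P⁻¹ * x * P) : GL (Fin n) F) : MM) =
        ((P⁻¹ : Matrix.SpecialLinearGroup (Fin n) F) : MM) * (x : MM) * (P : MM) := by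
      show ((P⁻¹ * x * P : Matrix.SpecialLinearGroup (Fin n) F) : MM) = _
      rw [Matrix.SpecialLinearGroup.coe_mul, Matrix.SpecialLinearGroup.coe_mul]
    rw [hc, ← Matrix.mulVec_mulVec, ← Matrix.mulVec_mulVec, h, Matrix.mulVec_add,
      Matrix.mulVec_smul, Matrix.mulVec_smul, Matrix.mulVec_mulVec, h2, Matrix.one_mulVec,
      LinearMap.comp_apply, Matrix.toLin'_apply]

/-- the bad element in odd characteristic -/
theorem ef_bad_odd (K : Subalgebra F MM) (hK : Cfsg.Geo.IsFieldSubalgebra 2 K)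
    (h20 : (2 : F) ≠ 0) (hn : 3 ≤ n) (he : Even n) (c : F) (hc : c ^ n = -1) :
    ∃ x : Matrix.SpecialLinearGroup (Fin n) F,
      (∃ z : F, ((x ^ 2 : Matrix.SpecialLinearGroup (Fin n) F) : MM) = z • (1 : MM)) ∧
      (∀ z : F, (x : MM) ≠ z • (1 : MM)) ∧
      ¬ ∃ P : Matrix.SpecialLinearGroup (Fin n) F, P⁻¹ * x * P ∈
        (Cfsg.Geo.subalgebraNormalizer K).comap
          (Matrix.SpecialLinearGroup.toGL :
            Matrix.SpecialLinearGroup (Fin n) F →* GL (Fin n) F) := by
  classical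
  have hc0 : c ≠ 0 := by
    rintro rfl
    rw [zero_pow (by omega)] at hc
    exact neg_ne_zero.mpr one_ne_zero hc.symm
  obtain ⟨i0, hi0⟩ : ∃ i0 : Fin n, i0 = ⟨0, by omega⟩ := ⟨_, rfl⟩
  obtain ⟨i1, hi1⟩ : ∃ i1 : Fin n, i1 = ⟨1, by omega⟩ := ⟨_, rfl⟩
  have h10 : i1 ≠ i0 := by rw [hi1, hi0]; intro h; simpa using congrArg Fin.val h
  obtain ⟨d, hd⟩ : ∃ d : Fin n → F, d = fun i => if i = i0 then c else -c := ⟨_, rfl⟩
  have hd0 : d i0 = c := by rw [hd]; exact if_pos rfl
  have hdne : ∀ i, i ≠ i0 → d i = -c := by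
    intro i hi
    rw [hd]
    exact if_neg hi
  have hdet : (Matrix.diagonal d).det = 1 := by
    rw [Matrix.det_diagonal, Fintype.prod_eq_mul_prod_compl i0, hd0]
    have h1 : ∏ i ∈ ({i0} : Finset (Fin n))ᶜ, d i = (-c) ^ (n - 1) := by
      rw [Finset.prod_congr rfl (fun i hi => hdne i (by
        rw [Finset.mem_compl, Finset.mem_singleton] at hi
        exact hi)), Finset.prod_const, Finset.card_compl, Finset.card_singleton,
        Fintype.card_fin]
    rw [h1]
    have hodd : Odd (n - 1) := by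
      obtain ⟨k, hk⟩ := he
      exact ⟨k - 1, by omega⟩
    rw [hodd.neg_pow, mul_neg, ← pow_succ', show n - 1 + 1 = n by omega, hc, neg_neg]
  obtain ⟨x, hx⟩ : ∃ x : Matrix.SpecialLinearGroup (Fin n) F,
      (x : MM) = Matrix.diagonal d := ⟨⟨Matrix.diagonal d, hdet⟩, rfl⟩
  refine ⟨x, ⟨c * c, ?_⟩, ?_, ?_⟩
  · rw [pow_two, Matrix.SpecialLinearGroup.coe_mul, hx, Matrix.diagonal_mul_diagonal]
    ext i j
    rw [Matrix.smul_apply, Matrix.one_apply, Matrix.diagonal_apply]
    by_cases hij : i = j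
    · rw [if_pos hij, if_pos hij, smul_eq_mul, mul_one]
      by_cases hi : i = i0
      · rw [hi, hd0]
      · rw [hdne i hi]
        ring
    · rw [if_neg hij, if_neg hij, smul_zero]
  · intro z hz
    have hz' : Matrix.diagonal d = z • (1 : MM) := by
      rw [← hx]
      exact hz
    have e0 := congrFun (congrFun hz' i0) i0
    have e1 := congrFun (congrFun hz' i1) i1
    rw [Matrix.diagonal_apply_eq, Matrix.smul_apply, Matrix.one_apply_eq, smul_eq_mul, mul_one]
      at e0 e1
    rw [hd0] at e0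
    rw [hdne i1 h10] at e1
    have : (2 : F) * c = 0 := by
      rw [two_mul]
      nth_rewrite 1 [e0]
      rw [← e1]
      exact neg_add_cancel c
    rcases mul_eq_zero.mp this with h | h
    · exact h20 h
    · exact hc0 h
  · apply ef_not_conj K hK x (-c) (LinearMap.proj i0) (Pi.single i0 (2 * c)) ?_ ?_ ?_ hn
    · intro h0
      have := congrFun h0 i0
      rw [Pi.single_eq_same, Pi.zero_apply] at this
      exact mul_ne_zero h20 hc0 this
    · intro h0
      have := LinearMap.congr_fun h0 (Pi.single i0 1)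
      rw [LinearMap.proj_apply, Pi.single_eq_same, LinearMap.zero_apply] at this
      exact one_ne_zero this
    · intro v
      rw [hx]
      funext i
      rw [Matrix.mulVec_diagonal, Pi.add_apply, Pi.smul_apply, Pi.smul_apply,
        LinearMap.proj_apply, smul_eq_mul, smul_eq_mul]
      by_cases hi : i = i0
      · rw [hi, hd0, Pi.single_eq_same]
        ring
      · rw [hdne i hi, Pi.single_eq_of_ne hi, mul_zero, add_zero]

/-- the bad element in characteristic two -/
theorem ef_bad_even (K : Subalgebra F MM) (hK : Cfsg.Geo.IsFieldSubalgebra 2 K)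
    (h20 : (2 : F) = 0) (hn : 3 ≤ n) :
    ∃ x : Matrix.SpecialLinearGroup (Fin n) F,
      (∃ z : F, ((x ^ 2 : Matrix.SpecialLinearGroup (Fin n) F) : MM) = z • (1 : MM)) ∧
      (∀ z : F, (x : MM) ≠ z • (1 : MM)) ∧
      ¬ ∃ P : Matrix.SpecialLinearGroup (Fin n) F, P⁻¹ * x * P ∈
        (Cfsg.Geo.subalgebraNormalizer K).comap
          (Matrix.SpecialLinearGroup.toGL :
            Matrix.SpecialLinearGroup (Fin n) F →* GL (Fin n) F) := by
  classical
  obtain ⟨i0, hi0⟩ : ∃ i0 : Fin n, i0 = ⟨0, by omega⟩ := ⟨_, rfl⟩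
  obtain ⟨i1, hi1⟩ : ∃ i1 : Fin n, i1 = ⟨1, by omega⟩ := ⟨_, rfl⟩
  have h01 : i0 ≠ i1 := by rw [hi1, hi0]; intro h; simpa using congrArg Fin.val h
  obtain ⟨x, hx⟩ : ∃ x : Matrix.SpecialLinearGroup (Fin n) F,
      (x : MM) = Matrix.transvection i0 i1 (1 : F) :=
    ⟨⟨Matrix.transvection i0 i1 (1 : F), Matrix.det_transvection_of_ne i0 i1 h01 1⟩, rfl⟩
  refine ⟨x, ⟨1, ?_⟩, ?_, ?_⟩
  · rw [pow_two, Matrix.SpecialLinearGroup.coe_mul, hx,
      Matrix.transvection_mul_transvection_same i0 i1 h01, one_add_one_eq_two, h20,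
      Matrix.transvection_zero, one_smul]
  · intro z hz
    rw [hx] at hz
    have := congrFun (congrFun hz i0) i1
    rw [Matrix.transvection, Matrix.add_apply, Matrix.one_apply_ne h01, zero_add,
      Matrix.single_apply_same, Matrix.smul_apply, Matrix.one_apply_ne h01, smul_zero] at this
    exact one_ne_zero this
  · apply ef_not_conj K hK x 1 (LinearMap.proj i1) (Pi.single i0 1) ?_ ?_ ?_ hn
    · intro h0
      have := congrFun h0 i0
      rw [Pi.single_eq_same, Pi.zero_apply] at this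
      exact one_ne_zero this
    · intro h0
      have := LinearMap.congr_fun h0 (Pi.single i1 1)
      rw [LinearMap.proj_apply, Pi.single_eq_same, LinearMap.zero_apply] at this
      exact one_ne_zero this
    · intro v
      rw [hx, Matrix.transvection, Matrix.add_mulVec, Matrix.one_mulVec, one_smul]
      congr 1
      funext i
      rw [Matrix.mulVec, Pi.smul_apply, LinearMap.proj_apply, smul_eq_mul]
      by_cases hi : i = i0
      · rw [hi, Pi.single_eq_same, mul_one]
        simp [dotProduct, Matrix.single_apply, Finset.sum_ite_eq]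
      · rw [Pi.single_eq_of_ne hi, mul_zero]
        simp [dotProduct, Matrix.single_apply, Ne.symm hi]

end Cfsg.Agent.helper29.EF
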