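import Mathlib
import Cfsg.Agent.Lib_helper29_EF1

set_option autoImplicit false
set_option linter.unusedSectionVars false
set_option linter.unusedVariables false
namespace Cfsg.Agent.helper29.EF
open Matrix

variable {F : Type*} [Field F] {n : ℕ}

local notation "VV" => (Fin n → F)
local notation "MM" => Matrix (Fin n) (Fin n) F

/-- pairs indexed by a sum -/
def pairEquiv (m : ℕ) : Fin m ⊕ Fin m ≃ Fin 2 × Fin m where
  toFun := Sum.elim (fun k => (0, k)) (fun k => (1, k))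
  invFun := fun p => if p.1 = 0 then Sum.inl p.2 else Sum.inr p.2
  left_inv := by
    rintro (k | k) <;> simp
  right_inv := by
    rintro ⟨j, k⟩
    fin_cases j <;> simp

theorem exists_adapted_nonsplit' (xL : VV →ₗ[F] VV) (z : F) (hz : ∀ t : F, t * t ≠ z)
    (hxx : ∀ v, xL (xL v) = z • v) :
    ∃ (m : ℕ) (B : Module.Basis (Fin 2 × Fin m) F VV),
      (∀ k, xL (B (0, k)) = B (1, k)) ∧ (∀ k, xL (B (1, k)) = z • B (0, k)) := by
  obtain ⟨m, B, h1, h2⟩ := Cfsg.Agent.helper29.PS.exists_adapted_nonsplit xL z hz hxx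
  refine ⟨m, B.reindex (pairEquiv m), ?_, ?_⟩
  · intro k
    rw [Module.Basis.reindex_apply, Module.Basis.reindex_apply]
    have e0 : (pairEquiv m).symm (0, k) = Sum.inl k := by simp [pairEquiv]
    have e1 : (pairEquiv m).symm (1, k) = Sum.inr k := by simp [pairEquiv]
    rw [e0, e1, h1]
  · intro k
    rw [Module.Basis.reindex_apply, Module.Basis.reindex_apply]
    have e0 : (pairEquiv m).symm (0, k) = Sum.inl k := by simp [pairEquiv]
    have e1 : (pairEquiv m).symm (1, k) = Sum.inr k := by simp [pairEquiv]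
    rw [e0, e1, h2]

theorem toMatrix_adapted (xL : VV →ₗ[F] VV) (z : F) (m : ℕ)
    (B : Module.Basis (Fin 2 × Fin m) F VV) (h1 : ∀ k, xL (B (0, k)) = B (1, k))
    (h2 : ∀ k, xL (B (1, k)) = z • B (0, k)) :
    LinearMap.toMatrix B B xL = Matrix.blockDiagonal (fun _ : Fin m => !![0, z; 1, 0]) := by
  classical
  ext ⟨i, k⟩ ⟨j, k'⟩
  rw [LinearMap.toMatrix_apply, Matrix.blockDiagonal_apply']
  fin_cases j
  · show B.repr (xL (B (0, k'))) (i, k) = _
    rw [h1, Module.Basis.repr_self, Finsupp.single_apply]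
    fin_cases i
    · simp
    · by_cases hk : k = k'
      · simp [hk]
      · simp [hk, Ne.symm hk]
  · show B.repr (xL (B (1, k'))) (i, k) = _
    rw [h2, map_smul, Module.Basis.repr_self, Finsupp.smul_apply, Finsupp.single_apply]
    fin_cases i
    · by_cases hk : k = k'
      · simp [hk]
      · simp [hk, Ne.symm hk]
    · simp

/-- from the linear-algebra statement to the statement about the special linear group -/
theorem ef_glue (K : Subalgebra F MM) (κ : MM) (a₀ : F) (hκ : κ ∈ K)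
    (hspan : ∀ k ∈ K, ∃ s t : F, k = s • 1 + t • κ)
    (x : Matrix.SpecialLinearGroup (Fin n) F) (PL : VV →ₗ[F] VV) (Y : MM)
    (hdet : LinearMap.det PL = 1)
    (hint : PL ∘ₗ Matrix.toLin' Y = Matrix.toLin' (x : MM) ∘ₗ PL)
    (hY : Y * κ = κ * Y ∨ Y * κ = (a₀ • 1 - κ) * Y) :
    ∃ P : Matrix.SpecialLinearGroup (Fin n) F, P⁻¹ * x * P ∈
      (Cfsg.Geo.subalgebraNormalizer K).comap
        (Matrix.SpecialLinearGroup.toGL : Matrix.SpecialLinearGroup (Fin n) F →* GL (Fin n) F) := by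
  obtain ⟨P, hP⟩ : ∃ P : Matrix.SpecialLinearGroup (Fin n) F,
      (P : MM) = LinearMap.toMatrix' PL :=
    ⟨⟨LinearMap.toMatrix' PL, by rw [LinearMap.det_toMatrix']; exact hdet⟩, rfl⟩
  refine ⟨P, ?_⟩
  have hmat : ((P⁻¹ * x * P : Matrix.SpecialLinearGroup (Fin n) F) : MM) = Y := by
    have h1 : (P : MM) * Y = (x : MM) * (P : MM) := by
      have := congrArg LinearMap.toMatrix' hint
      rw [LinearMap.toMatrix'_comp, LinearMap.toMatrix'_comp, LinearMap.toMatrix'_toLin',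
        LinearMap.toMatrix'_toLin', ← hP] at this
      exact this
    have h2 : ((P⁻¹ : Matrix.SpecialLinearGroup (Fin n) F) : MM) * (P : MM) = 1 := by
      rw [← Matrix.SpecialLinearGroup.coe_mul, inv_mul_cancel, Matrix.SpecialLinearGroup.coe_one]
    rw [Matrix.SpecialLinearGroup.coe_mul, Matrix.SpecialLinearGroup.coe_mul, Matrix.mul_assoc,
      ← h1, ← Matrix.mul_assoc, h2, Matrix.one_mul]
  rw [Subgroup.mem_comap]
  apply mem_normalizer_of K κ a₀ hκ hspan
  have hc : ((Matrix.SpecialLinearGroup.toGL (P⁻¹ * x * P) : GL (Fin n) F) : MM) = Y := hmat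
  rw [hc]
  exact hY

/-- in odd characteristic there is a generator whose square is a nonsquare scalar -/
theorem exists_gen_odd (h20 : (2 : F) ≠ 0) (K : Subalgebra F MM)
    (hK : Cfsg.Geo.IsFieldSubalgebra 2 K) :
    ∃ (κ : MM) (ε : F), κ ∈ K ∧ κ * κ = ε • 1 ∧ (∀ t : F, t * t ≠ ε) ∧
      (∀ k ∈ K, ∃ s t : F, k = s • 1 + t • κ) := by
  obtain ⟨κ₀, a₀, b₀, hκ₀, hns, hsq, hspan⟩ := exists_gen K hK
  obtain ⟨κ, hκd⟩ : ∃ κ : MM, κ = κ₀ - (a₀ / 2) • 1 := ⟨_, rfl⟩
  have hκ : κ ∈ K := by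
    rw [hκd]
    exact K.sub_mem hκ₀ (smul_one_mem K _)
  have hκ₀e : κ₀ = κ + (a₀ / 2) • 1 := by rw [hκd]; abel
  have hκsq : κ * κ = (a₀ * a₀ / 4 - b₀) • 1 := by
    have e : κ * κ = κ₀ * κ₀ - a₀ • κ₀ + (a₀ * a₀ / 4) • 1 := by
      rw [hκd]
      simp only [Matrix.sub_mul, Matrix.mul_sub, Matrix.mul_smul, Matrix.smul_mul,
        Matrix.mul_one, Matrix.one_mul, smul_sub, smul_smul]
      have h4 : a₀ / 2 * (a₀ / 2) = a₀ * a₀ / 4 := by
        rw [div_mul_div_comm]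
        norm_num
      have h5 : a₀ • κ₀ = (a₀ / 2) • κ₀ + (a₀ / 2) • κ₀ := by
        rw [← add_smul]
        congr 1
        field_simp
        ring
      rw [h4, h5]
      abel
    rw [e, hsq, sub_smul]
    abel
  refine ⟨κ, a₀ * a₀ / 4 - b₀, hκ, hκsq, ?_, ?_⟩
  · intro t ht
    have hprod : (κ - t • 1) * (κ + t • 1) = 0 := by
      have e : (κ - t • 1) * (κ + t • 1) = κ * κ - (t * t) • 1 := by
        simp only [Matrix.sub_mul, Matrix.mul_add, Matrix.mul_smul, Matrix.smul_mul,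
          Matrix.mul_one, Matrix.one_mul, smul_smul, smul_add, smul_sub]
        abel
      rw [e, hκsq, ht, sub_self]
    by_cases h0 : κ - t • 1 = 0
    · apply hns (t + a₀ / 2)
      rw [hκ₀e, sub_eq_zero.mp h0, add_smul]
    · have hm : κ - t • 1 ∈ K := K.sub_mem hκ (smul_one_mem K t)
      obtain ⟨y, hy, hky⟩ := hK.inv _ hm h0
      have hyk : y * (κ - t • 1) = 1 := by rw [hK.comm y hy _ hm, hky]
      have h1 : κ + t • 1 = 0 := by
        have : κ + t • 1 = (y * (κ - t • 1)) * (κ + t • 1) := by rw [hyk, Matrix.one_mul]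
        rw [this, Matrix.mul_assoc, hprod, Matrix.mul_zero]
      apply hns (-t + a₀ / 2)
      rw [hκ₀e, eq_neg_of_add_eq_zero_left h1, add_smul, neg_smul]
  · intro k hk
    obtain ⟨s, t, rfl⟩ := hspan k hk
    refine ⟨s + t * (a₀ / 2), t, ?_⟩
    rw [hκ₀e, smul_add, smul_smul, add_smul]
    abel

/-- the ratio of two nonsquares is a square -/
theorem exists_sqrt_ratio [Fintype F] (h20 : (2 : F) ≠ 0) (z ε : F) (hz : ∀ t : F, t * t ≠ z)
    (hε : ∀ t : F, t * t ≠ ε) : ∃ s : F, s ≠ 0 ∧ z = ε * (s * s) := by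
  have hrc := Cfsg.Agent.helper29.SF.ringChar_ne_two h20
  have hz0 : z ≠ 0 := by
    rintro rfl
    exact hz 0 (by ring)
  have hε0 : ε ≠ 0 := by
    rintro rfl
    exact hε 0 (by ring)
  have hzp : z ^ (Fintype.card F / 2) = -1 := by
    rcases FiniteField.pow_dichotomy hrc hz0 with h1 | h1
    · obtain ⟨t, ht⟩ := (FiniteField.isSquare_iff hrc hz0).mpr h1
      exact absurd ht.symm (hz t)
    · exact h1
  have hεp : ε ^ (Fintype.card F / 2) = -1 := by
    rcases FiniteField.pow_dichotomy hrc hε0 with h1 | h1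
    · obtain ⟨t, ht⟩ := (FiniteField.isSquare_iff hrc hε0).mpr h1
      exact absurd ht.symm (hε t)
    · exact h1
  have hne : z / ε ≠ 0 := div_ne_zero hz0 hε0
  have hsq : IsSquare (z / ε) := by
    rw [FiniteField.isSquare_iff hrc hne, div_pow, hzp, hεp]
    exact div_self (neg_ne_zero.mpr one_ne_zero)
  obtain ⟨s, hs⟩ := hsq
  refine ⟨s, ?_, ?_⟩
  · rintro rfl
    rw [mul_zero] at hs
    exact hne hs
  · rw [← hs]
    field_simp

/-- surjectivity of the norm form -/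
theorem norm_surj [Fintype F] (h20 : (2 : F) ≠ 0) (z δ : F) (hz0 : z ≠ 0) :
    ∃ a b : F, a * a - b * z * b = δ := by
  have hrc := Cfsg.Agent.helper29.SF.ringChar_ne_two h20
  have hodd : Fintype.card F % 2 = 1 := FiniteField.odd_card_of_char_ne_two hrc
  have hf : (Polynomial.X ^ 2 - Polynomial.C δ : Polynomial F).degree = 2 :=
    Polynomial.degree_X_pow_sub_C (by norm_num) δ
  have hg : (Polynomial.C (-z) * Polynomial.X ^ 2 : Polynomial F).degree = 2 := by
    rw [Polynomial.degree_C_mul_X_pow 2 (neg_ne_zero.mpr hz0)]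
    rfl
  obtain ⟨a, b, hab⟩ := FiniteField.exists_root_sum_quadratic hf hg hodd
  refine ⟨a, b, ?_⟩
  simp only [Polynomial.eval_sub, Polynomial.eval_pow, Polynomial.eval_X, Polynomial.eval_C,
    Polynomial.eval_mul] at hab
  linear_combination hab

/-- an element of the centraliser of a nonsplit element with prescribed determinant -/
theorem exists_centralizer_det [Fintype F] (h20 : (2 : F) ≠ 0) (xL : VV →ₗ[F] VV) (z : F)
    (hz0 : z ≠ 0) (m : ℕ) (hm : 1 ≤ m) (B : Module.Basis (Fin 2 × Fin m) F VV)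
    (h1 : ∀ k, xL (B (0, k)) = B (1, k)) (h2 : ∀ k, xL (B (1, k)) = z • B (0, k)) (δ : F) :
    ∃ C : VV →ₗ[F] VV, C ∘ₗ xL = xL ∘ₗ C ∧ LinearMap.det C = δ := by
  classical
  obtain ⟨a, b, hab⟩ := norm_surj h20 z δ hz0
  obtain ⟨k₀, -⟩ : ∃ k₀ : Fin m, True := ⟨⟨0, by omega⟩, trivial⟩
  obtain ⟨Mc, hMc⟩ : ∃ Mc : Fin m → Matrix (Fin 2) (Fin 2) F,
      Mc = fun k => if k = k₀ then !![a, b * z; b, a] else 1 := ⟨_, rfl⟩
  have hxL : xL = Matrix.toLin B B (Matrix.blockDiagonal (fun _ : Fin m => !![0, z; 1, 0])) := by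
    rw [← toMatrix_adapted xL z m B h1 h2, Matrix.toLin_toMatrix]
  refine ⟨Matrix.toLin B B (Matrix.blockDiagonal Mc), ?_, ?_⟩
  · rw [hxL, ← Matrix.toLin_mul, ← Matrix.toLin_mul, ← Matrix.blockDiagonal_mul,
      ← Matrix.blockDiagonal_mul]
    congr 2
    funext k
    rw [hMc]
    by_cases hk : k = k₀
    · simp only [if_pos hk]
      ext i j
      fin_cases i <;> fin_cases j <;> simp [Matrix.mul_apply, Fin.sum_univ_two] <;> ring
    · simp only [if_neg hk, Matrix.one_mul, Matrix.mul_one]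
  · rw [LinearMap.det_toLin, Matrix.det_blockDiagonal, Finset.prod_eq_single k₀]
    · rw [hMc]
      simp only [if_true]
      rw [Matrix.det_fin_two_of]
      linear_combination hab
    · intro k _ hk
      rw [hMc]
      simp only [if_neg hk, Matrix.det_one]
    · intro h
      exact absurd (Finset.mem_univ k₀) h

/-- the nonsplit case -/
theorem ef_case_nonsplit [Fintype F] (h20 : (2 : F) ≠ 0) (K : Subalgebra F MM)
    (hK : Cfsg.Geo.IsFieldSubalgebra 2 K) (x : Matrix.SpecialLinearGroup (Fin n) F) (z : F)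
    (hz : ∀ t : F, t * t ≠ z) (hx2 : (x : MM) * (x : MM) = z • 1) (hn1 : 1 ≤ n) :
    ∃ P : Matrix.SpecialLinearGroup (Fin n) F, P⁻¹ * x * P ∈
      (Cfsg.Geo.subalgebraNormalizer K).comap
        (Matrix.SpecialLinearGroup.toGL : Matrix.SpecialLinearGroup (Fin n) F →* GL (Fin n) F) := by
  classical
  obtain ⟨κ, ε, hκ, hκsq, hε, hspan⟩ := exists_gen_odd h20 K hK
  obtain ⟨s, hs0, hzs⟩ := exists_sqrt_ratio h20 z ε hz hε
  have hz0 : z ≠ 0 := by
    rintro rfl
    exact hz 0 (by ring)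
  obtain ⟨Y, hYd⟩ : ∃ Y : MM, Y = s • κ := ⟨_, rfl⟩
  have hYY : Y * Y = z • 1 := by
    rw [hYd, Matrix.smul_mul, Matrix.mul_smul, hκsq, smul_smul, smul_smul, hzs]
    congr 1
    ring
  have hYκ : Y * κ = κ * Y := by rw [hYd, Matrix.smul_mul, Matrix.mul_smul]
  obtain ⟨xL, hxL⟩ : ∃ xL : VV →ₗ[F] VV, xL = Matrix.toLin' (x : MM) := ⟨_, rfl⟩
  have hxx : ∀ v, xL (xL v) = z • v := by
    intro v
    rw [hxL, Matrix.toLin'_apply, Matrix.toLin'_apply, Matrix.mulVec_mulVec, hx2,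
      Matrix.smul_mulVec, Matrix.one_mulVec]
  have hyy : ∀ v, Matrix.toLin' Y (Matrix.toLin' Y v) = z • v := by
    intro v
    rw [Matrix.toLin'_apply, Matrix.toLin'_apply, Matrix.mulVec_mulVec, hYY,
      Matrix.smul_mulVec, Matrix.one_mulVec]
  obtain ⟨m, Bx, hx1, hx2'⟩ := exists_adapted_nonsplit' xL z hz hxx
  obtain ⟨m', By, hy1, hy2⟩ := exists_adapted_nonsplit' (Matrix.toLin' Y) z hz hyy
  have hm : m' = m := by
    have e1 := Module.finrank_eq_card_basis Bx
    have e2 := Module.finrank_eq_card_basis By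
    rw [Module.finrank_fin_fun, Fintype.card_prod, Fintype.card_fin, Fintype.card_fin] at e1 e2
    omega
  subst hm
  have hm1 : 1 ≤ m' := by
    have e1 := Module.finrank_eq_card_basis Bx
    rw [Module.finrank_fin_fun, Fintype.card_prod, Fintype.card_fin, Fintype.card_fin] at e1
    omega
  obtain ⟨PL₀, hPL₀⟩ : ∃ PL₀ : VV →ₗ[F] VV,
      PL₀ = ((By.equiv Bx (Equiv.refl _) : VV ≃ₗ[F] VV) : VV →ₗ[F] VV) := ⟨_, rfl⟩
  have hPL₀B : ∀ i, PL₀ (By i) = Bx i := by
    intro i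
    rw [hPL₀]
    simp
  have hint₀ : PL₀ ∘ₗ Matrix.toLin' Y = xL ∘ₗ PL₀ := by
    apply By.ext
    rintro ⟨j, k⟩
    rw [LinearMap.comp_apply, LinearMap.comp_apply, hPL₀B]
    fin_cases j
    · show PL₀ (Matrix.toLin' Y (By (0, k))) = xL (Bx (0, k))
      rw [hy1, hx1, hPL₀B]
    · show PL₀ (Matrix.toLin' Y (By (1, k))) = xL (Bx (1, k))
      rw [hy2, hx2', map_smul, hPL₀B]
  have hunit := LinearEquiv.isUnit_det' (By.equiv Bx (Equiv.refl _))
  rw [← hPL₀] at hunit
  obtain ⟨C, hC, hCdet⟩ := exists_centralizer_det h20 xL z hz0 m' hm1 Bx hx1 hx2'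
    (LinearMap.det PL₀)⁻¹
  apply ef_glue K κ 0 hκ hspan x (C ∘ₗ PL₀) Y ?_ ?_ (Or.inl hYκ)
  · rw [LinearMap.det_comp, hCdet]
    exact inv_mul_cancel₀ hunit.ne_zero
  · rw [LinearMap.comp_assoc, hint₀, ← LinearMap.comp_assoc, hC, LinearMap.comp_assoc, hxL]

end Cfsg.Agent.helper29.EF
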