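import Mathlib
import Cfsg.Agent.Lib_helper29_EF3
import Cfsg.Agent.Lib_helper29_SF1

set_option autoImplicit false
set_option linter.unusedSectionVars false
set_option linter.unusedVariables false
namespace Cfsg.Agent.helper29.EF
open Matrix

variable {F : Type*} [Field F] {n : ℕ}

local notation "VV" => (Fin n → F)
local notation "MM" => Matrix (Fin n) (Fin n) F

/-- two diagonalisable elements with the same eigenvalue multiplicities -/
theorem ef_split_conj (K : Subalgebra F MM) (κ : MM) (a₀ : F) (hκ : κ ∈ K)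
    (hspan : ∀ k ∈ K, ∃ s t : F, k = s • 1 + t • κ)
    (x : Matrix.SpecialLinearGroup (Fin n) F) (γ : F) {a b : ℕ}
    (Bx : Module.Basis (Fin a ⊕ Fin b) F VV)
    (hxl : ∀ i, Matrix.toLin' (x : MM) (Bx (Sum.inl i)) = γ • Bx (Sum.inl i))
    (hxr : ∀ i, Matrix.toLin' (x : MM) (Bx (Sum.inr i)) = (-γ) • Bx (Sum.inr i))
    (Y : MM) (BY : Module.Basis (Fin a ⊕ Fin b) F VV)
    (hyl : ∀ i, Matrix.toLin' Y (BY (Sum.inl i)) = γ • BY (Sum.inl i))
    (hyr : ∀ i, Matrix.toLin' Y (BY (Sum.inr i)) = (-γ) • BY (Sum.inr i))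
    (hY : Y * κ = κ * Y ∨ Y * κ = (a₀ • 1 - κ) * Y) (hn1 : 1 ≤ n) :
    ∃ P : Matrix.SpecialLinearGroup (Fin n) F, P⁻¹ * x * P ∈
      (Cfsg.Geo.subalgebraNormalizer K).comap
        (Matrix.SpecialLinearGroup.toGL : Matrix.SpecialLinearGroup (Fin n) F →* GL (Fin n) F) := by
  classical
  obtain ⟨xL, hxL⟩ : ∃ xL : VV →ₗ[F] VV, xL = Matrix.toLin' (x : MM) := ⟨_, rfl⟩
  rw [← hxL] at hxl hxr
  have hab : a + b = n := by
    have := Module.finrank_eq_card_basis Bx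
    rw [Module.finrank_fin_fun, Fintype.card_sum, Fintype.card_fin, Fintype.card_fin] at this
    exact this.symm
  obtain ⟨ℓ, hℓ⟩ : ∃ ℓ : Fin a ⊕ Fin b → F, ℓ = Sum.elim (fun _ => γ) (fun _ => -γ) := ⟨_, rfl⟩
  have hxB : ∀ j, xL (Bx j) = ℓ j • Bx j := by
    rintro (i | i)
    · rw [hxl, hℓ]; rfl
    · rw [hxr, hℓ]; rfl
  have hyB : ∀ j, Matrix.toLin' Y (BY j) = ℓ j • BY j := by
    rintro (i | i)
    · rw [hyl, hℓ]; rfl
    · rw [hyr, hℓ]; rfl
  obtain ⟨PL₀, hPL₀⟩ : ∃ PL₀ : VV →ₗ[F] VV,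
      PL₀ = ((BY.equiv Bx (Equiv.refl _) : VV ≃ₗ[F] VV) : VV →ₗ[F] VV) := ⟨_, rfl⟩
  have hPL₀B : ∀ i, PL₀ (BY i) = Bx i := by
    intro i
    rw [hPL₀]
    simp
  have hint₀ : PL₀ ∘ₗ Matrix.toLin' Y = xL ∘ₗ PL₀ := by
    apply BY.ext
    intro j
    rw [LinearMap.comp_apply, LinearMap.comp_apply, hPL₀B, hyB, hxB, map_smul, hPL₀B]
  have hunit := LinearEquiv.isUnit_det' (BY.equiv Bx (Equiv.refl _))
  rw [← hPL₀] at hunit
  obtain ⟨k₀⟩ : Nonempty (Fin a ⊕ Fin b) := by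
    by_cases h : 0 < a
    · exact ⟨Sum.inl ⟨0, h⟩⟩
    · exact ⟨Sum.inr ⟨0, by omega⟩⟩
  obtain ⟨dd, hdd⟩ : ∃ dd : Fin a ⊕ Fin b → F,
      dd = Function.update (fun _ => (1 : F)) k₀ (LinearMap.det PL₀)⁻¹ := ⟨_, rfl⟩
  obtain ⟨C, hCd⟩ : ∃ C : VV →ₗ[F] VV, C = Matrix.toLin Bx Bx (Matrix.diagonal dd) := ⟨_, rfl⟩
  have hxLm : xL = Matrix.toLin Bx Bx (Matrix.diagonal ℓ) := by
    apply Bx.ext
    intro j
    rw [hxB, Matrix.toLin_self, Finset.sum_eq_single j]
    · rw [Matrix.diagonal_apply_eq]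
    · intro i _ hi
      rw [Matrix.diagonal_apply_ne _ hi, zero_smul]
    · intro h
      exact absurd (Finset.mem_univ j) h
  have hC : C ∘ₗ xL = xL ∘ₗ C := by
    rw [hCd, hxLm, ← Matrix.toLin_mul, ← Matrix.toLin_mul, Matrix.diagonal_mul_diagonal,
      Matrix.diagonal_mul_diagonal]
    congr 2
    funext i
    ring
  have hCdet : LinearMap.det C = (LinearMap.det PL₀)⁻¹ := by
    rw [hCd, LinearMap.det_toLin, Matrix.det_diagonal, hdd,
      Finset.prod_update_of_mem (Finset.mem_univ k₀)]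
    simp
  apply ef_glue K κ a₀ hκ hspan x (C ∘ₗ PL₀) Y ?_ ?_ hY
  · rw [LinearMap.det_comp, hCdet]
    exact inv_mul_cancel₀ hunit.ne_zero
  · rw [LinearMap.comp_assoc, hint₀, ← LinearMap.comp_assoc, hC, LinearMap.comp_assoc, hxL]

/-- an adapted basis for a nonsplit element, indexed by a prescribed type -/
theorem exists_adapted_index (xL : VV →ₗ[F] VV) (z : F) (hz : ∀ t : F, t * t ≠ z)
    (hxx : ∀ v, xL (xL v) = z • v) (ι : Type) [Fintype ι] [DecidableEq ι]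
    (hcard : 2 * Fintype.card ι = n) :
    ∃ B : Module.Basis (Fin 2 × ι) F VV,
      (∀ k, xL (B (0, k)) = B (1, k)) ∧ (∀ k, xL (B (1, k)) = z • B (0, k)) := by
  obtain ⟨m, B, h1, h2⟩ := exists_adapted_nonsplit' xL z hz hxx
  have hm : Fintype.card ι = Fintype.card (Fin m) := by
    have e1 := Module.finrank_eq_card_basis B
    rw [Module.finrank_fin_fun, Fintype.card_prod, Fintype.card_fin] at e1
    rw [Fintype.card_fin] at e1 ⊢
    omega
  obtain ⟨f⟩ : Nonempty (ι ≃ Fin m) := Fintype.card_eq.mp hm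
  refine ⟨B.reindex (Equiv.prodCongr (Equiv.refl _) f.symm), ?_, ?_⟩
  · intro k
    rw [Module.Basis.reindex_apply, Module.Basis.reindex_apply]
    exact h1 (f k)
  · intro k
    rw [Module.Basis.reindex_apply, Module.Basis.reindex_apply]
    exact h2 (f k)

/-- the split case from a sign pattern on an adapted basis of the generator -/
theorem ef_split_of_sign (K : Subalgebra F MM) (κ : MM) (ε : F) (hκ : κ ∈ K)
    (hspan : ∀ k ∈ K, ∃ s t : F, k = s • 1 + t • κ)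
    (x : Matrix.SpecialLinearGroup (Fin n) F) (γ : F) {a b : ℕ}
    (Bx : Module.Basis (Fin a ⊕ Fin b) F VV)
    (hxl : ∀ i, Matrix.toLin' (x : MM) (Bx (Sum.inl i)) = γ • Bx (Sum.inl i))
    (hxr : ∀ i, Matrix.toLin' (x : MM) (Bx (Sum.inr i)) = (-γ) • Bx (Sum.inr i))
    {ι : Type} [Fintype ι] [DecidableEq ι] (Bκ : Module.Basis (Fin 2 × ι) F VV)
    (h1 : ∀ k, Matrix.toLin' κ (Bκ (0, k)) = Bκ (1, k))
    (h2 : ∀ k, Matrix.toLin' κ (Bκ (1, k)) = ε • Bκ (0, k))
    (sg : Fin 2 × ι → F)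
    (hsg : (∀ t, sg (1, t) = sg (0, t)) ∨ (∀ t, sg (1, t) = -sg (0, t)))
    (e : Fin 2 × ι ≃ Fin a ⊕ Fin b) (hel : ∀ i, sg (e.symm (Sum.inl i)) = γ)
    (her : ∀ i, sg (e.symm (Sum.inr i)) = -γ) (hn1 : 1 ≤ n) :
    ∃ P : Matrix.SpecialLinearGroup (Fin n) F, P⁻¹ * x * P ∈
      (Cfsg.Geo.subalgebraNormalizer K).comap
        (Matrix.SpecialLinearGroup.toGL : Matrix.SpecialLinearGroup (Fin n) F →* GL (Fin n) F) := by
  classical
  obtain ⟨YL, hYL⟩ : ∃ YL : VV →ₗ[F] VV, YL = Matrix.toLin Bκ Bκ (Matrix.diagonal sg) :=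
    ⟨_, rfl⟩
  have hYB : ∀ p, YL (Bκ p) = sg p • Bκ p := by
    intro p
    rw [hYL, Matrix.toLin_self, Finset.sum_eq_single p]
    · rw [Matrix.diagonal_apply_eq]
    · intro i _ hi
      rw [Matrix.diagonal_apply_ne _ hi, zero_smul]
    · intro h
      exact absurd (Finset.mem_univ p) h
  obtain ⟨Y, hY⟩ : ∃ Y : MM, Y = LinearMap.toMatrix' YL := ⟨_, rfl⟩
  have hYlin : Matrix.toLin' Y = YL := by rw [hY, Matrix.toLin'_toMatrix']
  have hcomm : Y * κ = κ * Y ∨ Y * κ = ((0 : F) • 1 - κ) * Y := by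
    rcases hsg with hs | hs
    · left
      apply Matrix.toLin'.injective
      rw [Matrix.toLin'_mul, Matrix.toLin'_mul, hYlin]
      apply Bκ.ext
      rintro ⟨j, t⟩
      rw [LinearMap.comp_apply, LinearMap.comp_apply, hYB, map_smul]
      fin_cases j
      · show YL (Matrix.toLin' κ (Bκ (0, t))) = sg (0, t) • Matrix.toLin' κ (Bκ (0, t))
        rw [h1, hYB, hs]
      · show YL (Matrix.toLin' κ (Bκ (1, t))) = sg (1, t) • Matrix.toLin' κ (Bκ (1, t))
        rw [h2, map_smul, hYB, hs, smul_comm]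
    · right
      apply Matrix.toLin'.injective
      rw [Matrix.toLin'_mul, Matrix.toLin'_mul, hYlin, zero_smul, zero_sub, map_neg]
      apply Bκ.ext
      rintro ⟨j, t⟩
      rw [LinearMap.comp_apply, LinearMap.comp_apply, hYB, map_smul, LinearMap.neg_apply]
      fin_cases j
      · show YL (Matrix.toLin' κ (Bκ (0, t))) = sg (0, t) • -(Matrix.toLin' κ (Bκ (0, t)))
        rw [h1, hYB, hs, neg_smul, smul_neg]
      · show YL (Matrix.toLin' κ (Bκ (1, t))) = sg (1, t) • -(Matrix.toLin' κ (Bκ (1, t)))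
        rw [h2, map_smul, hYB, hs, neg_smul, smul_neg, neg_neg, smul_comm]
  apply ef_split_conj K κ 0 hκ hspan x γ Bx hxl hxr Y (Bκ.reindex e) ?_ ?_ hcomm hn1
  · intro i
    rw [hYlin, Module.Basis.reindex_apply, hYB, hel]
  · intro i
    rw [hYlin, Module.Basis.reindex_apply, hYB, her]

/-- the determinant of a diagonalisable element -/
theorem split_det (x : Matrix.SpecialLinearGroup (Fin n) F) (γ : F) {a b : ℕ}
    (B₀ : Module.Basis (Fin a ⊕ Fin b) F VV)
    (hl : ∀ i, Matrix.toLin' (x : MM) (B₀ (Sum.inl i)) = γ • B₀ (Sum.inl i))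
    (hr : ∀ i, Matrix.toLin' (x : MM) (B₀ (Sum.inr i)) = (-γ) • B₀ (Sum.inr i)) :
    γ ^ a * (-γ) ^ b = 1 := by
  classical
  have h1 : LinearMap.det (Matrix.toLin' (x : MM)) = 1 := by
    rw [LinearMap.det_toLin']
    exact x.2
  have h2 : LinearMap.toMatrix B₀ B₀ (Matrix.toLin' (x : MM)) =
      Matrix.diagonal (Sum.elim (fun _ : Fin a => γ) (fun _ : Fin b => -γ)) := by
    ext i j
    rw [LinearMap.toMatrix_apply, Matrix.diagonal_apply]
    rcases j with j | j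
    · rw [hl, map_smul, Module.Basis.repr_self, Finsupp.smul_apply, Finsupp.single_apply]
      by_cases hij : i = Sum.inl j
      · rw [if_pos hij.symm, if_pos hij, hij]
        simp
      · rw [if_neg (Ne.symm hij), if_neg hij]
        simp
    · rw [hr, map_smul, Module.Basis.repr_self, Finsupp.smul_apply, Finsupp.single_apply]
      by_cases hij : i = Sum.inr j
      · rw [if_pos hij.symm, if_pos hij, hij]
        simp
      · rw [if_neg (Ne.symm hij), if_neg hij]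
        simp
  rw [← LinearMap.det_toMatrix B₀, h2, Matrix.det_diagonal, Fintype.prod_sum_type] at h1
  simpa using h1

/-- an element with a single eigenvalue on a basis is scalar -/
theorem scalar_of_basis (x : Matrix.SpecialLinearGroup (Fin n) F) (c : F) {κ' : Type*}
    [Fintype κ'] (B₀ : Module.Basis κ' F VV)
    (h : ∀ i, Matrix.toLin' (x : MM) (B₀ i) = c • B₀ i) : (x : MM) = c • 1 := by
  classical
  apply Matrix.toLin'.injective
  apply B₀.ext
  intro i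
  rw [h, Matrix.toLin'_apply, Matrix.smul_mulVec, Matrix.one_mulVec]

/-- the split case with even multiplicities -/
theorem ef_case_split_even (h20 : (2 : F) ≠ 0) (K : Subalgebra F MM)
    (hK : Cfsg.Geo.IsFieldSubalgebra 2 K) (x : Matrix.SpecialLinearGroup (Fin n) F) (γ : F)
    {a b a' b' : ℕ} (Bx : Module.Basis (Fin a ⊕ Fin b) F VV)
    (hxl : ∀ i, Matrix.toLin' (x : MM) (Bx (Sum.inl i)) = γ • Bx (Sum.inl i))
    (hxr : ∀ i, Matrix.toLin' (x : MM) (Bx (Sum.inr i)) = (-γ) • Bx (Sum.inr i))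
    (ha : 2 * a' = a) (hb : 2 * b' = b) (hn1 : 1 ≤ n) :
    ∃ P : Matrix.SpecialLinearGroup (Fin n) F, P⁻¹ * x * P ∈
      (Cfsg.Geo.subalgebraNormalizer K).comap
        (Matrix.SpecialLinearGroup.toGL : Matrix.SpecialLinearGroup (Fin n) F →* GL (Fin n) F) := by
  classical
  obtain ⟨κ, ε, hκ, hκsq, hε, hspan⟩ := exists_gen_odd h20 K hK
  have hab : a + b = n := by
    have := Module.finrank_eq_card_basis Bx
    rw [Module.finrank_fin_fun, Fintype.card_sum, Fintype.card_fin, Fintype.card_fin] at this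
    exact this.symm
  have hκκ : ∀ v, Matrix.toLin' κ (Matrix.toLin' κ v) = ε • v := by
    intro v
    rw [Matrix.toLin'_apply, Matrix.toLin'_apply, Matrix.mulVec_mulVec, hκsq,
      Matrix.smul_mulVec, Matrix.one_mulVec]
  obtain ⟨Bκ, h1, h2⟩ := exists_adapted_index (Matrix.toLin' κ) ε hε hκκ (Fin a' ⊕ Fin b')
    (by rw [Fintype.card_sum, Fintype.card_fin, Fintype.card_fin]; omega)
  obtain ⟨e, he⟩ : ∃ e : Fin 2 × (Fin a' ⊕ Fin b') ≃ Fin a ⊕ Fin b,
      e = (Equiv.prodSumDistrib _ _ _).trans (Equiv.sumCongr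
        (finProdFinEquiv.trans (finCongr ha)) (finProdFinEquiv.trans (finCongr hb))) :=
    ⟨_, rfl⟩
  apply ef_split_of_sign K κ ε hκ hspan x γ Bx hxl hxr Bκ h1 h2
    (fun p => Sum.elim (fun _ => γ) (fun _ => -γ) p.2) (Or.inl (fun t => rfl)) e ?_ ?_ hn1
  · intro i
    rw [he]
    rfl
  · intro i
    rw [he]
    rfl

/-- the split case with equal multiplicities -/
theorem ef_case_split_half (h20 : (2 : F) ≠ 0) (K : Subalgebra F MM)
    (hK : Cfsg.Geo.IsFieldSubalgebra 2 K) (x : Matrix.SpecialLinearGroup (Fin n) F) (γ : F)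
    {m : ℕ} (Bx : Module.Basis (Fin m ⊕ Fin m) F VV)
    (hxl : ∀ i, Matrix.toLin' (x : MM) (Bx (Sum.inl i)) = γ • Bx (Sum.inl i))
    (hxr : ∀ i, Matrix.toLin' (x : MM) (Bx (Sum.inr i)) = (-γ) • Bx (Sum.inr i))
    (hn1 : 1 ≤ n) :
    ∃ P : Matrix.SpecialLinearGroup (Fin n) F, P⁻¹ * x * P ∈
      (Cfsg.Geo.subalgebraNormalizer K).comap
        (Matrix.SpecialLinearGroup.toGL : Matrix.SpecialLinearGroup (Fin n) F →* GL (Fin n) F) := by
  classical
  obtain ⟨κ, ε, hκ, hκsq, hε, hspan⟩ := exists_gen_odd h20 K hK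
  have hab : m + m = n := by
    have := Module.finrank_eq_card_basis Bx
    rw [Module.finrank_fin_fun, Fintype.card_sum, Fintype.card_fin] at this
    exact this.symm
  have hκκ : ∀ v, Matrix.toLin' κ (Matrix.toLin' κ v) = ε • v := by
    intro v
    rw [Matrix.toLin'_apply, Matrix.toLin'_apply, Matrix.mulVec_mulVec, hκsq,
      Matrix.smul_mulVec, Matrix.one_mulVec]
  obtain ⟨Bκ, h1, h2⟩ := exists_adapted_index (Matrix.toLin' κ) ε hε hκκ (Fin m)
    (by rw [Fintype.card_fin]; omega)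
  apply ef_split_of_sign K κ ε hκ hspan x γ Bx hxl hxr Bκ h1 h2
    (fun p => if p.1 = 0 then γ else -γ) (Or.inr (fun t => by simp)) (pairEquiv m).symm ?_ ?_ hn1
  · intro i
    rw [Equiv.symm_symm]
    simp [pairEquiv]
  · intro i
    rw [Equiv.symm_symm]
    simp [pairEquiv]

end Cfsg.Agent.helper29.EF
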