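import Mathlib
import Cfsg.Agent.Lib_helper29_EF3
import Cfsg.Agent.Lib_helper11_SqZero

set_option autoImplicit false
set_option linter.unusedSectionVars false
set_option linter.unusedVariables false
namespace Cfsg.Agent.helper29.EF
open Matrix

variable {F : Type*} [Field F]

local notation "V2" => (Fin 2 → F)
local notation "M2" => Matrix (Fin 2) (Fin 2) F

theorem rank_one_of_sq_zero (N : V2 →ₗ[F] V2) (hN : ∀ v, N (N v) = 0) (hN0 : N ≠ 0) :
    Module.finrank F (LinearMap.range N) = 1 := by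
  have h1 := LinearMap.finrank_range_add_finrank_ker N
  have h3 : LinearMap.range N ≤ LinearMap.ker N := by
    rintro _ ⟨v, rfl⟩
    exact LinearMap.mem_ker.mpr (hN v)
  have h4 := Submodule.finrank_mono h3
  rw [Module.finrank_fin_fun] at h1
  have h5 : Module.finrank F (LinearMap.range N) ≠ 0 := by
    intro h0
    have := Submodule.finrank_eq_zero.mp h0
    exact hN0 (LinearMap.range_eq_bot.mp this)
  omega

/-- the unipotent case in dimension two, characteristic two -/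
theorem ef_case_char_two_dim_two [Fintype F] [CharP F 2] (K : Subalgebra F M2)
    (hK : Cfsg.Geo.IsFieldSubalgebra 2 K) (x : Matrix.SpecialLinearGroup (Fin 2) F) (z : F)
    (hx2 : (x : M2) * (x : M2) = z • 1) (hz : z ≠ 0) (hns : ∀ c : F, (x : M2) ≠ c • 1) :
    ∃ P : Matrix.SpecialLinearGroup (Fin 2) F, P⁻¹ * x * P ∈
      (Cfsg.Geo.subalgebraNormalizer K).comap
        (Matrix.SpecialLinearGroup.toGL : Matrix.SpecialLinearGroup (Fin 2) F →* GL (Fin 2) F) := by
  classical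
  have h2 : (2 : F) = 0 := CharTwo.two_eq_zero
  have hneg : ∀ t : F, -t = t := fun t => CharTwo.neg_eq t
  have hsqAll : ∀ t : F, IsSquare t := FiniteField.isSquare_of_char_two (ringChar.eq F 2)
  obtain ⟨κ, a₀, b₀, hκ, hκns, hκsq, hspan⟩ := exists_gen K hK
  -- the trace is nonzero
  have ha₀ : a₀ ≠ 0 := by
    rintro rfl
    obtain ⟨t, ht⟩ := hsqAll b₀
    have hprod : (κ - t • 1) * (κ - t • 1) = 0 := by
      have e : (κ - t • 1) * (κ - t • 1) = κ * κ - (t • κ + t • κ) + (t * t) • 1 := by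
        simp only [Matrix.sub_mul, Matrix.mul_sub, Matrix.mul_smul, Matrix.smul_mul,
          Matrix.mul_one, Matrix.one_mul, smul_smul, smul_sub]
        abel
      rw [e, hκsq, zero_smul, zero_sub, ← add_smul, ← two_mul, h2, zero_mul, zero_smul,
        sub_zero, ← ht, ← sub_eq_neg_add, sub_self]
    have h0 : κ - t • 1 ≠ 0 := fun h => hκns t (sub_eq_zero.mp h)
    have hm : κ - t • 1 ∈ K := K.sub_mem hκ (smul_one_mem K t)
    obtain ⟨y, hy, hky⟩ := hK.inv _ hm h0
    apply h0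
    have : κ - t • 1 = (κ - t • 1) * ((κ - t • 1) * y) := by rw [hky, Matrix.mul_one]
    rw [this, ← Matrix.mul_assoc, hprod, Matrix.zero_mul]
  -- the basis `v, κ v`
  obtain ⟨v, hv⟩ : ∃ v : V2, v = Pi.single 0 1 := ⟨_, rfl⟩
  have hv0 : v ≠ 0 := by
    intro h0
    have := congrFun h0 0
    rw [hv, Pi.single_eq_same, Pi.zero_apply] at this
    exact one_ne_zero this
  have hli : LinearIndependent F ![v, κ *ᵥ v] := by
    rw [LinearIndependent.pair_iff]
    intro s t hst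
    have ht : t = 0 := by
      by_contra ht
      apply hv0
      apply inj_of_mem K hK (κ + (s / t) • 1) (K.add_mem hκ (smul_one_mem K _)) ?_ v
      · rw [Matrix.add_mulVec, Matrix.smul_mulVec, Matrix.one_mulVec]
        have : κ *ᵥ v + (s / t) • v = t⁻¹ • (s • v + t • κ *ᵥ v) := by
          rw [smul_add, smul_smul, smul_smul, inv_mul_cancel₀ ht, one_smul, add_comm]
          congr 2
          field_simp
        rw [this, hst, smul_zero]
      · intro h0
        apply hκns (-(s / t))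
        rw [neg_smul]
        exact eq_neg_of_add_eq_zero_left h0
    refine ⟨?_, ht⟩
    rw [ht, zero_smul, add_zero] at hst
    rcases smul_eq_zero.mp hst with h | h
    · exact h
    · exact absurd h hv0
  obtain ⟨bb, hbb⟩ : ∃ bb : Module.Basis (Fin 2) F V2, ⇑bb = ![v, κ *ᵥ v] :=
    ⟨basisOfLinearIndependentOfCardEqFinrank hli (by rw [Module.finrank_fin_fun]; rfl),
      coe_basisOfLinearIndependentOfCardEqFinrank _ _⟩
  have hb0 : bb 0 = v := by rw [hbb]; rfl
  have hb1 : bb 1 = κ *ᵥ v := by rw [hbb]; rfl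
  obtain ⟨N', hN'd⟩ : ∃ N' : V2 →ₗ[F] V2, N' = Matrix.toLin bb bb !![0, a₀; 0, 0] := ⟨_, rfl⟩
  have hN'0 : N' (bb 0) = 0 := by
    rw [hN'd, Matrix.toLin_self, Fin.sum_univ_two]
    simp
  have hN'1 : N' (bb 1) = a₀ • bb 0 := by
    rw [hN'd, Matrix.toLin_self, Fin.sum_univ_two]
    simp
  have hN'sq : ∀ w, N' (N' w) = 0 := by
    intro w
    have : N' ∘ₗ N' = 0 := by
      apply bb.ext
      intro j
      fin_cases j
      · show N' (N' (bb 0)) = 0
        rw [hN'0, map_zero]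
      · show N' (N' (bb 1)) = 0
        rw [hN'1, map_smul, hN'0, smul_zero]
    exact LinearMap.congr_fun this w
  have hN'ne : N' ≠ 0 := by
    intro h0
    have := hN'1
    rw [h0, LinearMap.zero_apply] at this
    rcases smul_eq_zero.mp this.symm with h | h
    · exact ha₀ h
    · rw [hb0] at h
      exact hv0 h
  -- the element `x`
  obtain ⟨γ, hγ⟩ := hsqAll z
  have hγ0 : γ ≠ 0 := by
    rintro rfl
    apply hz
    rw [hγ, mul_zero]
  obtain ⟨A, hA⟩ : ∃ A : M2, A = (x : M2) := ⟨_, rfl⟩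
  rw [← hA] at hx2 hns
  have hNN : (A - γ • 1) * (A - γ • 1) = 0 := by
    have e : (A - γ • 1) * (A - γ • 1) = A * A - (γ • A + γ • A) + (γ * γ) • 1 := by
      rw [Matrix.sub_mul, Matrix.mul_sub, Matrix.mul_sub, Matrix.smul_mul, Matrix.mul_smul,
        Matrix.smul_mul, Matrix.one_mul, Matrix.mul_one, Matrix.one_mul, smul_smul]
      abel
    rw [e, hx2, ← add_smul, ← two_mul, h2, zero_mul, zero_smul, sub_zero, ← hγ, ← add_smul,
      ← two_mul, h2, zero_mul, zero_smul]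
  obtain ⟨Nx, hNxd⟩ : ∃ Nx : V2 →ₗ[F] V2, Nx = Matrix.toLin' (γ⁻¹ • (A - γ • 1)) := ⟨_, rfl⟩
  have hNx : ∀ w, Nx (Nx w) = 0 := by
    intro w
    rw [hNxd, Matrix.toLin'_apply, Matrix.toLin'_apply, Matrix.mulVec_mulVec, Matrix.smul_mul,
      Matrix.mul_smul, hNN, smul_zero, smul_zero, Matrix.zero_mulVec]
  have hNx0 : Nx ≠ 0 := by
    intro h0
    have h1 : γ⁻¹ • (A - γ • 1) = 0 := by
      apply Matrix.toLin'.injective
      rw [← hNxd, h0, map_zero]
    rcases smul_eq_zero.mp h1 with h | h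
    · exact inv_ne_zero hγ0 h
    · exact hns γ (sub_eq_zero.mp h)
  have hxN : ∀ w, Matrix.toLin' A w = γ • w + γ • Nx w := by
    intro w
    rw [hNxd, Matrix.toLin'_apply, Matrix.toLin'_apply, Matrix.smul_mulVec, smul_smul,
      mul_inv_cancel₀ hγ0, one_smul, Matrix.sub_mulVec, Matrix.smul_mulVec, Matrix.one_mulVec]
    abel
  obtain ⟨PL, hPLdet, hPL⟩ := Cfsg.Agent.helper11.exists_intertwiner_det_one hsqAll N' Nx hN'sq
    hNx ((rank_one_of_sq_zero N' hN'sq hN'ne).trans (rank_one_of_sq_zero Nx hNx hNx0).symm) hN'ne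
  obtain ⟨σ, hσ⟩ : ∃ σ : V2 →ₗ[F] V2, σ = LinearMap.id + N' := ⟨_, rfl⟩
  obtain ⟨Y, hY⟩ : ∃ Y : M2, Y = γ • LinearMap.toMatrix' σ := ⟨_, rfl⟩
  have hYlin : Matrix.toLin' Y = γ • σ := by
    rw [hY, map_smul, Matrix.toLin'_toMatrix']
  have hκκ : ∀ w, κ *ᵥ (κ *ᵥ w) = a₀ • κ *ᵥ w - b₀ • w := by
    intro w
    rw [Matrix.mulVec_mulVec, hκsq, Matrix.sub_mulVec, Matrix.smul_mulVec, Matrix.smul_mulVec,
      Matrix.one_mulVec]
  have hnegM : a₀ • (1 : M2) - κ = a₀ • (1 : M2) + κ := by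
    rw [sub_eq_add_neg]
    congr 1
    ext i j
    exact hneg _
  have hκκ' : ∀ w, κ *ᵥ (κ *ᵥ w) = a₀ • κ *ᵥ w + b₀ • w := by
    intro w
    rw [hκκ, sub_eq_add_neg]
    congr 1
    funext i
    exact hneg _
  have h2v : ∀ w : V2, w + w = 0 := by
    intro w
    rw [← two_smul F w, h2, zero_smul]
  have hκb0 : κ *ᵥ bb 0 = bb 1 := by rw [hb0, hb1]
  have hκb1 : κ *ᵥ bb 1 = a₀ • bb 1 + b₀ • bb 0 := by
    rw [← hκb0, hκκ']
  apply ef_glue K κ a₀ hκ hspan x PL Y hPLdet
  · apply LinearMap.ext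
    intro w
    rw [LinearMap.comp_apply, LinearMap.comp_apply, hYlin, LinearMap.smul_apply, hσ,
      LinearMap.add_apply, LinearMap.id_apply, map_smul, map_add, hPL, ← hA, hxN, smul_add]
  · right
    apply Matrix.toLin'.injective
    rw [Matrix.toLin'_mul, Matrix.toLin'_mul, hYlin, hnegM]
    apply bb.ext
    intro j
    rw [LinearMap.comp_apply, LinearMap.comp_apply, LinearMap.smul_apply, LinearMap.smul_apply,
      map_smul]
    congr 1
    rw [hσ, LinearMap.add_apply, LinearMap.add_apply, LinearMap.id_apply, LinearMap.id_apply,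
      Matrix.toLin'_apply, Matrix.toLin'_apply]
    fin_cases j
    · show κ *ᵥ bb 0 + N' (κ *ᵥ bb 0) = (a₀ • 1 + κ) *ᵥ (bb 0 + N' (bb 0))
      rw [hκb0, hN'1, hN'0, add_zero, Matrix.add_mulVec, Matrix.smul_mulVec, Matrix.one_mulVec,
        hκb0, add_comm]
    · show κ *ᵥ bb 1 + N' (κ *ᵥ bb 1) = (a₀ • 1 + κ) *ᵥ (bb 1 + N' (bb 1))
      rw [hκb1, map_add, map_smul, map_smul, hN'1, hN'0, smul_zero, add_zero,
        Matrix.add_mulVec, Matrix.smul_mulVec, Matrix.one_mulVec, Matrix.mulVec_add,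
        Matrix.mulVec_smul, hκb1, hκb0]
      have e : a₀ • (bb 1 + a₀ • bb 0) + (a₀ • bb 1 + b₀ • bb 0 + a₀ • bb 1) =
          a₀ • bb 1 + b₀ • bb 0 + a₀ • a₀ • bb 0 + (a₀ • bb 1 + a₀ • bb 1) := by
        rw [smul_add]
        abel
      rw [e, h2v, add_zero]

end Cfsg.Agent.helper29.EF
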