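import Mathlib
import Cfsg.Agent.Lib_helper25_SSimple

set_option autoImplicit false
set_option linter.unusedSectionVars false
set_option linter.unusedVariables false
universe u v
namespace Cfsg.Agent.helper29.EL
open Polynomial Cfsg.Agent.helper25.SSimple

variable {F : Type v} [Field F] {V : Type u} [AddCommGroup V] [Module F V]

/-- powers of the model map -/
theorem mulX_pow {ι : Type*} (P : ι → MIrr F) (k : ℕ) (c : Ms P) (i : ι) :
    ((mulX P) ^ k) c i = (AdjoinRoot.root (P i).poly) ^ k * c i := by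
  induction k generalizing c with
  | zero =>
    rw [pow_zero, pow_zero, one_mul]
    rfl
  | succ k ih =>
    rw [pow_succ, Module.End.mul_apply, ih, mulX_apply, pow_succ, mul_assoc]

theorem model_pow_eq {ι : Type*} (P : ι → MIrr F) (f : Module.End F V) (φ : V ≃ₗ[F] Ms P)
    (hφ : ∀ x, φ (f x) = mulX P (φ x)) (k : ℕ) (x : V) :
    φ ((f ^ k) x) = ((mulX P) ^ k) (φ x) := by
  induction k generalizing x with
  | zero => rfl
  | succ k ih =>
    rw [pow_succ, Module.End.mul_apply, ih, hφ, pow_succ, Module.End.mul_apply]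

/-- if `f ^ r` is the scalar `c` then every block polynomial divides `X ^ r - c` -/
theorem dvd_of_pow_eq {ι : Type*} (P : ι → MIrr F) (f : Module.End F V) (φ : V ≃ₗ[F] Ms P)
    (hφ : ∀ x, φ (f x) = mulX P (φ x)) (r : ℕ) (c : F) (hf : f ^ r = c • (1 : Module.End F V))
    (j : ι) : (P j).poly ∣ X ^ r - C c := by
  classical
  obtain ⟨v, hv⟩ : ∃ v : V, φ v = Pi.single j 1 := ⟨φ.symm (Pi.single j 1), φ.apply_symm_apply _⟩
  have h1 := model_pow_eq P f φ hφ r v
  rw [hf, LinearMap.smul_apply, Module.End.one_apply, map_smul, hv] at h1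
  have h2 := congrFun h1 j
  rw [mulX_pow, Pi.smul_apply, Pi.single_eq_same, mul_one, Algebra.smul_def, mul_one] at h2
  rw [← AdjoinRoot.mk_eq_zero, map_sub, map_pow, AdjoinRoot.mk_X, AdjoinRoot.mk_C, ← h2,
    AdjoinRoot.algebraMap_eq, sub_self]

/-- if every block polynomial divides `X ^ r - c` then `f ^ r` is the scalar `c` -/
theorem pow_of_dvd {ι : Type*} (P : ι → MIrr F) (f : Module.End F V) (φ : V ≃ₗ[F] Ms P)
    (hφ : ∀ x, φ (f x) = mulX P (φ x)) (r : ℕ) (c : F)
    (h : ∀ j, (P j).poly ∣ X ^ r - C c) : f ^ r = c • (1 : Module.End F V) := by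
  apply LinearMap.ext
  intro x
  apply φ.injective
  rw [model_pow_eq P f φ hφ, LinearMap.smul_apply, Module.End.one_apply, map_smul]
  funext j
  rw [mulX_pow, Pi.smul_apply, Algebra.smul_def]
  congr 1
  have h1 := AdjoinRoot.mk_eq_zero.mpr (h j)
  rw [map_sub, map_pow, AdjoinRoot.mk_X, AdjoinRoot.mk_C, sub_eq_zero] at h1
  rw [h1, AdjoinRoot.algebraMap_eq]

/-- the dimension is the sum of the block degrees -/
theorem sum_deg_eq {ι : Type*} [Fintype ι] (P : ι → MIrr F) (φ : V ≃ₗ[F] Ms P) :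
    ∑ j, (P j).poly.natDegree = Module.finrank F V := by
  rw [φ.finrank_eq, finrank_Ms]

/-- extension by zero of a family on a subset of the blocks -/
noncomputable def extZ {ι : Type*} [DecidableEq ι] (P : ι → MIrr F) (J : Finset ι) :
    Ms (fun j : J => P j.1) →ₗ[F] Ms P where
  toFun c := fun i => if h : i ∈ J then c ⟨i, h⟩ else 0
  map_add' c c' := by
    funext i
    by_cases h : i ∈ J
    · simp [h]
    · simp [h]
  map_smul' a c := by
    funext i
    by_cases h : i ∈ J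
    · simp [h]
    · simp [h]

theorem extZ_injective {ι : Type*} [DecidableEq ι] (P : ι → MIrr F) (J : Finset ι) :
    Function.Injective (extZ P J) := by
  intro c c' h
  funext j
  have h1 := congrFun h j.1
  simp only [extZ, LinearMap.coe_mk, AddHom.coe_mk, dif_pos j.2] at h1
  exact h1

theorem mulX_extZ {ι : Type*} [DecidableEq ι] (P : ι → MIrr F) (J : Finset ι)
    (c : Ms (fun j : J => P j.1)) :
    mulX P (extZ P J c) = extZ P J (mulX (fun j : J => P j.1) c) := by
  funext i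
  rw [mulX_apply]
  by_cases h : i ∈ J
  · simp only [extZ, LinearMap.coe_mk, AddHom.coe_mk, dif_pos h]
    rfl
  · simp only [extZ, LinearMap.coe_mk, AddHom.coe_mk, dif_neg h, mul_zero]

/-- an invariant subspace from a set of blocks -/
theorem exists_invt_of_model {ι : Type} [Fintype ι] (P : ι → MIrr F) (f : Module.End F V)
    (φ : V ≃ₗ[F] Ms P) (hφ : ∀ x, φ (f x) = mulX P (φ x)) (J : Finset ι) :
    ∃ W : Submodule F V, (∀ v ∈ W, f v ∈ W) ∧
      Module.finrank F W = ∑ j ∈ J, (P j).poly.natDegree := by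
  classical
  obtain ⟨W₀, hW₀⟩ : ∃ W₀ : Submodule F (Ms P), W₀ = LinearMap.range (extZ P J) := ⟨_, rfl⟩
  refine ⟨W₀.map (φ.symm : Ms P →ₗ[F] V), ?_, ?_⟩
  · rintro v ⟨c, hc, rfl⟩
    rw [hW₀] at hc
    obtain ⟨c₀, rfl⟩ := hc
    refine ⟨mulX P (extZ P J c₀), ?_, ?_⟩
    · rw [hW₀, mulX_extZ]
      exact LinearMap.mem_range_self _ _
    · show φ.symm (mulX P (extZ P J c₀)) = f (φ.symm (extZ P J c₀))
      apply φ.injective
      rw [LinearEquiv.apply_symm_apply, hφ, LinearEquiv.apply_symm_apply]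
  · rw [LinearEquiv.finrank_map_eq, hW₀, LinearMap.finrank_range_of_inj (extZ_injective P J),
      finrank_Ms]
    exact Finset.sum_coe_sort J (fun j => (P j).poly.natDegree)

/-- the characteristic polynomial of a semisimple map splits along an invariant subspace -/
theorem exists_model_of_invt [FiniteDimensional F V] (f : Module.End F V)
    (hf : f.IsSemisimple) (W : Submodule F V) (hW : ∀ v ∈ W, f v ∈ W) :
    ∃ (ι₁ ι₂ : Type) (_ : Fintype ι₁) (_ : Fintype ι₂) (P₁ : ι₁ → MIrr F) (P₂ : ι₂ → MIrr F),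
      Module.finrank F W = ∑ j, (P₁ j).poly.natDegree ∧
      LinearMap.charpoly f = (∏ j, (P₁ j).poly) * (∏ j, (P₂ j).poly) := by
  have hWm : W ∈ Module.End.invtSubmodule f := by
    rw [Module.End.mem_invtSubmodule]
    intro v hv
    exact hW v hv
  obtain ⟨W', hW'm, hcompl⟩ := (Module.End.isSemisimple_iff.mp hf) W hWm
  have hW' : ∀ v ∈ W', f v ∈ W' := by
    rw [Module.End.mem_invtSubmodule] at hW'm
    intro v hv
    exact hW'm hv
  have hs1 : Module.End.IsSemisimple (f.restrict hW) := Module.End.IsSemisimple.restrict hWm hf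
  have hs2 : Module.End.IsSemisimple (f.restrict hW') := Module.End.IsSemisimple.restrict hW'm hf
  obtain ⟨ι₁, hι₁, P₁, φ₁, hφ₁, hc₁⟩ := exists_ss_model_charpoly _ W (f.restrict hW) hs1 rfl
  obtain ⟨ι₂, hι₂, P₂, φ₂, hφ₂, hc₂⟩ := exists_ss_model_charpoly _ W' (f.restrict hW') hs2 rfl
  refine ⟨ι₁, ι₂, hι₁, hι₂, P₁, P₂, (sum_deg_eq P₁ φ₁).symm, ?_⟩
  obtain ⟨Ψ, hΨ⟩ : ∃ Ψ : (W × W') ≃ₗ[F] V, Ψ = Submodule.prodEquivOfIsCompl W W' hcompl :=
    ⟨_, rfl⟩
  have h1 : Ψ.conj ((f.restrict hW).prodMap (f.restrict hW')) = f := by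
    apply LinearMap.ext
    intro x
    obtain ⟨⟨a, b⟩, rfl⟩ := Ψ.surjective x
    rw [LinearEquiv.conj_apply]
    show Ψ (((f.restrict hW).prodMap (f.restrict hW')) (Ψ.symm (Ψ (a, b)))) = _
    rw [LinearEquiv.symm_apply_apply, hΨ]
    show ((f.restrict hW a : W) : V) + ((f.restrict hW' b : W') : V) = f ((a : V) + (b : V))
    rw [map_add]
    rfl
  conv_lhs => rw [← h1]
  rw [LinearEquiv.charpoly_conj, LinearMap.charpoly_prodMap, hc₁, hc₂]

end Cfsg.Agent.helper29.EL
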