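import Mathlib
import Cfsg.Agent.Lib_helper29_EL1

set_option autoImplicit false
set_option linter.unusedSectionVars false
set_option linter.unusedVariables false
universe u v
namespace Cfsg.Agent.helper29.EL
open Polynomial Cfsg.Agent.helper25.SSimple

variable {F : Type v} [Field F] {V : Type u} [AddCommGroup V] [Module F V]

/-- a monic irreducible polynomial dividing a monic irreducible polynomial equals it -/
theorem eq_of_irr_dvd (Q : MIrr F) (R : F[X]) (hRm : R.Monic) (hRi : Irreducible R)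
    (h : Q.poly ∣ R) : Q.poly = R :=
  eq_of_monic_of_associated Q.monic hRm (Q.irr.associated_of_dvd hRi h)

theorem eq_of_irr_dvd_pow (Q : MIrr F) (R : F[X]) (hRm : R.Monic) (hRi : Irreducible R) (k : ℕ)
    (h : Q.poly ∣ R ^ k) : Q.poly = R :=
  eq_of_irr_dvd Q R hRm hRi (Q.irr.prime.dvd_of_dvd_pow h)

theorem X_sub_one_eq : (X - 1 : F[X]) = X - C 1 := by rw [map_one]

/-- degree of the irreducible factors of `X ^ r - 1` over a finite field -/
theorem natDegree_of_dvd_X_pow_sub_one [Fintype F] {p : ℕ} [Fact p.Prime] [CharP F p] {q : ℕ}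
    (hq : Fintype.card F = q) (r : ℕ) [Fact r.Prime] (hrp : r ≠ p) (Q : MIrr F)
    (hQ : Q.poly ∣ X ^ r - 1) :
    Q.poly = X - 1 ∨ Q.poly.natDegree = orderOf (q : ZMod r) := by
  have hp : p.Prime := Fact.out
  have hr : r.Prime := Fact.out
  rw [← cyclotomic_prime_mul_X_sub_one F r] at hQ
  rcases Q.irr.prime.dvd_or_dvd hQ with h | h
  · right
    obtain ⟨f, -, hf⟩ := FiniteField.card F p
    have hcop : p.Coprime r := (Nat.coprime_primes hp hr).mpr (Ne.symm hrp)
    have h1 := natDegree_of_dvd_cyclotomic_of_irreducible (K := F) (p := p) (f := (f : ℕ))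
      (n := r) hf hcop h Q.irr
    rw [h1, ← orderOf_units, ZMod.coe_unitOfCoprime, ← hf, hq]
  · left
    rw [X_sub_one_eq] at h ⊢
    exact eq_of_irr_dvd Q _ (monic_X_sub_C 1) (irreducible_X_sub_C 1) h

/-- an invariant subspace of prescribed dimension when all block degrees are `1` or `i` -/
theorem exists_invt_of_degrees {ι : Type} [Fintype ι] (P : ι → MIrr F) (f : Module.End F V)
    (φ : V ≃ₗ[F] Ms P) (hφ : ∀ x, φ (f x) = mulX P (φ x)) (i : ℕ) (hi : 1 ≤ i)
    (hdeg : ∀ j, (P j).poly.natDegree = 1 ∨ (P j).poly.natDegree = i) (n m : ℕ)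
    (hn : Module.finrank F V = n) (hmn : m ≤ n) (hmod : m % i ≤ n % i) :
    ∃ W : Submodule F V, (∀ v ∈ W, f v ∈ W) ∧ Module.finrank F W = m := by
  classical
  obtain ⟨D₁, hD₁⟩ : ∃ D₁ : Finset ι, D₁ = Finset.univ.filter
      (fun j => (P j).poly.natDegree = 1) := ⟨_, rfl⟩
  obtain ⟨D₂, hD₂⟩ : ∃ D₂ : Finset ι, D₂ = Finset.univ.filter
      (fun j => ¬ (P j).poly.natDegree = 1) := ⟨_, rfl⟩
  have hd1 : ∀ j ∈ D₁, (P j).poly.natDegree = 1 := by
    intro j hj
    rw [hD₁] at hj
    exact (Finset.mem_filter.mp hj).2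
  have hd2 : ∀ j ∈ D₂, (P j).poly.natDegree = i := by
    intro j hj
    rw [hD₂] at hj
    rcases hdeg j with h | h
    · exact absurd h (Finset.mem_filter.mp hj).2
    · exact h
  have hsum : D₁.card + D₂.card * i = n := by
    rw [← hn, ← sum_deg_eq P φ, ← Finset.sum_filter_add_sum_filter_not Finset.univ
      (fun j => (P j).poly.natDegree = 1), ← hD₁, ← hD₂, Finset.sum_congr rfl hd1,
      Finset.sum_congr rfl hd2, Finset.sum_const, Finset.sum_const, smul_eq_mul, smul_eq_mul,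
      mul_one]
  obtain ⟨e', he'⟩ : ∃ e', e' = D₁.card := ⟨_, rfl⟩
  obtain ⟨s', hs'⟩ : ∃ s', s' = D₂.card := ⟨_, rfl⟩
  rw [← he', ← hs'] at hsum
  have hipos : 0 < i := hi
  obtain ⟨a, b, ha, hb, hab⟩ : ∃ a b, a ≤ e' ∧ b ≤ s' ∧ a + b * i = m := by
    by_cases hcase : m / i ≤ s'
    · refine ⟨m % i, m / i, ?_, hcase, ?_⟩
      · have h1 : n % i = e' % i := by
          rw [← hsum, Nat.add_mul_mod_self_right]
        have h2 : e' % i ≤ e' := Nat.mod_le _ _
        omega
      · have := Nat.mod_add_div m i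
        rw [mul_comm] at this
        exact this
    · refine ⟨m - s' * i, s', ?_, le_refl _, ?_⟩
      · omega
      · have h1 : s' * i ≤ m / i * i := Nat.mul_le_mul_right i (by omega)
        have h2 : m / i * i ≤ m := Nat.div_mul_le_self m i
        omega
  obtain ⟨J₁, hJ₁s, hJ₁c⟩ := Finset.exists_subset_card_eq (s := D₁) (n := a) (by omega)
  obtain ⟨J₂, hJ₂s, hJ₂c⟩ := Finset.exists_subset_card_eq (s := D₂) (n := b) (by omega)
  have hdisj : Disjoint J₁ J₂ := by
    rw [Finset.disjoint_left]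
    intro j h1 h2
    have h3 := hJ₁s h1
    have h4 := hJ₂s h2
    rw [hD₁] at h3
    rw [hD₂] at h4
    exact (Finset.mem_filter.mp h4).2 (Finset.mem_filter.mp h3).2
  obtain ⟨W, hW, hWd⟩ := exists_invt_of_model P f φ hφ (J₁ ∪ J₂)
  refine ⟨W, hW, ?_⟩
  rw [hWd, Finset.sum_union hdisj, Finset.sum_congr rfl (fun j hj => hd1 j (hJ₁s hj)),
    Finset.sum_congr rfl (fun j hj => hd2 j (hJ₂s hj)), Finset.sum_const, Finset.sum_const,
    smul_eq_mul, smul_eq_mul, mul_one, hJ₁c, hJ₂c]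
  exact hab

/-- dimensions of the invariant subspaces when the characteristic polynomial is a power of an
irreducible polynomial -/
theorem finrank_of_invt_one [FiniteDimensional F V] (f : Module.End F V) (hf : f.IsSemisimple)
    (R : F[X]) (hRm : R.Monic) (hRi : Irreducible R) (k : ℕ)
    (hc : LinearMap.charpoly f = R ^ k) (W : Submodule F V) (hW : ∀ v ∈ W, f v ∈ W) :
    R.natDegree ∣ Module.finrank F W := by
  obtain ⟨ι₁, ι₂, hι₁, hι₂, P₁, P₂, hfr, hch⟩ := exists_model_of_invt f hf W hW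
  have h1 : ∀ j, (P₁ j).poly = R := by
    intro j
    apply eq_of_irr_dvd_pow (P₁ j) R hRm hRi k
    rw [← hc, hch]
    exact Dvd.dvd.mul_right (Finset.dvd_prod_of_mem _ (Finset.mem_univ j)) _
  rw [hfr, Finset.sum_congr rfl (fun j _ => by rw [h1 j]), Finset.sum_const, smul_eq_mul]
  exact Dvd.intro_left _ rfl

/-- dimensions of the invariant subspaces when the characteristic polynomial is
`(X - 1) ^ e * Q ^ s` -/
theorem finrank_of_invt_two [FiniteDimensional F V] (f : Module.End F V) (hf : f.IsSemisimple)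
    (Q : MIrr F) (hQ1 : Q.poly ≠ X - 1) (e s : ℕ)
    (hc : LinearMap.charpoly f = (X - 1) ^ e * Q.poly ^ s) (W : Submodule F V)
    (hW : ∀ v ∈ W, f v ∈ W) :
    ∃ a b, a ≤ e ∧ Module.finrank F W = a + b * Q.poly.natDegree := by
  classical
  obtain ⟨ι₁, ι₂, hι₁, hι₂, P₁, P₂, hfr, hch⟩ := exists_model_of_invt f hf W hW
  have hX1i : Irreducible (X - 1 : F[X]) := by
    rw [X_sub_one_eq]
    exact irreducible_X_sub_C 1
  have hX1m : (X - 1 : F[X]).Monic := by
    rw [X_sub_one_eq]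
    exact monic_X_sub_C 1
  have h1 : ∀ j, (P₁ j).poly = X - 1 ∨ (P₁ j).poly = Q.poly := by
    intro j
    have hd : (P₁ j).poly ∣ (X - 1) ^ e * Q.poly ^ s := by
      rw [← hc, hch]
      exact Dvd.dvd.mul_right (Finset.dvd_prod_of_mem _ (Finset.mem_univ j)) _
    rcases (P₁ j).irr.prime.dvd_or_dvd hd with h | h
    · left
      exact eq_of_irr_dvd_pow (P₁ j) _ hX1m hX1i e h
    · right
      exact eq_of_irr_dvd_pow (P₁ j) _ Q.monic Q.irr s h
  obtain ⟨A, hA⟩ : ∃ A : Finset ι₁, A = Finset.univ.filter (fun j => (P₁ j).poly = X - 1) :=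
    ⟨_, rfl⟩
  obtain ⟨B, hB⟩ : ∃ B : Finset ι₁, B = Finset.univ.filter (fun j => ¬ (P₁ j).poly = X - 1) :=
    ⟨_, rfl⟩
  have hA1 : ∀ j ∈ A, (P₁ j).poly = X - 1 := by
    intro j hj
    rw [hA] at hj
    exact (Finset.mem_filter.mp hj).2
  have hB1 : ∀ j ∈ B, (P₁ j).poly = Q.poly := by
    intro j hj
    rw [hB] at hj
    rcases h1 j with h | h
    · exact absurd h (Finset.mem_filter.mp hj).2
    · exact h
  have hdeg1 : (X - 1 : F[X]).natDegree = 1 := by
    rw [X_sub_one_eq]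
    exact natDegree_X_sub_C 1
  refine ⟨A.card, B.card, ?_, ?_⟩
  · have hprod : (X - 1 : F[X]) ^ A.card ∣ ∏ j, (P₁ j).poly := by
      rw [← Finset.prod_filter_mul_prod_filter_not Finset.univ (fun j => (P₁ j).poly = X - 1),
        ← hA, ← hB, Finset.prod_congr rfl hA1, Finset.prod_const]
      exact Dvd.intro _ rfl
    have h2 : (X - 1 : F[X]) ^ A.card ∣ (X - 1) ^ e * Q.poly ^ s := by
      rw [← hc, hch]
      exact Dvd.dvd.mul_right hprod _
    have hcop : IsCoprime (X - 1 : F[X]) Q.poly := by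
      rw [hX1i.coprime_iff_not_dvd]
      intro hdvd
      apply hQ1
      exact (eq_of_monic_of_associated hX1m Q.monic (hX1i.associated_of_dvd Q.irr hdvd)).symm
    have h3 : (X - 1 : F[X]) ^ A.card ∣ (X - 1) ^ e :=
      IsCoprime.dvd_of_dvd_mul_right (hcop.pow) h2
    exact (pow_dvd_pow_iff hX1i.ne_zero hX1i.not_isUnit).mp h3
  · have hsA : ∑ j ∈ A, (P₁ j).poly.natDegree = A.card := by
      have h2 : ∀ j ∈ A, (P₁ j).poly.natDegree = 1 := by
        intro j hj
        rw [hA1 j hj, hdeg1]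
      rw [Finset.sum_congr rfl h2, Finset.sum_const, smul_eq_mul, mul_one]
    have hsB : ∑ j ∈ B, (P₁ j).poly.natDegree = B.card * Q.poly.natDegree := by
      have h2 : ∀ j ∈ B, (P₁ j).poly.natDegree = Q.poly.natDegree := by
        intro j hj
        rw [hB1 j hj]
      rw [Finset.sum_congr rfl h2, Finset.sum_const, smul_eq_mul]
    rw [hfr, ← Finset.sum_filter_add_sum_filter_not Finset.univ
      (fun j => (P₁ j).poly = X - 1), ← hA, ← hB, hsA, hsB]

end Cfsg.Agent.helper29.EL
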