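import Mathlib
import Cfsg.Agent.Lib_helper29_EL2

set_option autoImplicit false
set_option linter.unusedSectionVars false
set_option linter.unusedVariables false
universe u v
namespace Cfsg.Agent.helper29.EL
open Polynomial Cfsg.Agent.helper25.SSimple

variable {F : Type v} [Field F] {V : Type u} [AddCommGroup V] [Module F V]

/-- the characteristic polynomial splits along an invariant subspace -/
theorem charpoly_split_of_invt [FiniteDimensional F V] (f : Module.End F V)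
    (hf : f.IsSemisimple) (W : Submodule F V) (hW : ∀ v ∈ W, f v ∈ W) :
    ∃ (ι₂ : Type) (_ : Fintype ι₂) (P₂ : ι₂ → MIrr F),
      LinearMap.charpoly f = LinearMap.charpoly (f.restrict hW) * (∏ j, (P₂ j).poly) := by
  have hWm : W ∈ Module.End.invtSubmodule f := by
    rw [Module.End.mem_invtSubmodule]
    intro v hv
    exact hW v hv
  obtain ⟨W', hW'm, hcompl⟩ := (Module.End.isSemisimple_iff.mp hf) W hWm
  have hW' : ∀ v ∈ W', f v ∈ W' := by
    rw [Module.End.mem_invtSubmodule] at hW'm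
    intro v hv
    exact hW'm hv
  have hs2 : Module.End.IsSemisimple (f.restrict hW') := Module.End.IsSemisimple.restrict hW'm hf
  obtain ⟨ι₂, hι₂, P₂, φ₂, hφ₂, hc₂⟩ := exists_ss_model_charpoly _ W' (f.restrict hW') hs2 rfl
  refine ⟨ι₂, hι₂, P₂, ?_⟩
  obtain ⟨Ψ, hΨ⟩ : ∃ Ψ : (W × W') ≃ₗ[F] V, Ψ = Submodule.prodEquivOfIsCompl W W' hcompl :=
    ⟨_, rfl⟩
  have h1 : Ψ.conj ((f.restrict hW).prodMap (f.restrict hW')) = f := by
    apply LinearMap.ext
    intro x
    obtain ⟨⟨a, b⟩, rfl⟩ := Ψ.surjective x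
    rw [LinearEquiv.conj_apply]
    show Ψ (((f.restrict hW).prodMap (f.restrict hW')) (Ψ.symm (Ψ (a, b)))) = _
    rw [LinearEquiv.symm_apply_apply, hΨ]
    show ((f.restrict hW a : W) : V) + ((f.restrict hW' b : W') : V) = f ((a : V) + (b : V))
    rw [map_add]
    rfl
  conv_lhs => rw [← h1]
  rw [LinearEquiv.charpoly_conj, LinearMap.charpoly_prodMap, hc₂]

theorem natDegree_prod_MIrr {ι : Type} [Fintype ι] (P : ι → MIrr F) :
    (∏ j, (P j).poly).natDegree = ∑ j, (P j).poly.natDegree :=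
  natDegree_prod_of_monic _ _ (fun j _ => (P j).monic)

theorem monic_prod_MIrr {ι : Type} [Fintype ι] (P : ι → MIrr F) : (∏ j, (P j).poly).Monic :=
  monic_prod_of_monic _ _ (fun j _ => (P j).monic)

/-- the characteristic polynomial of a semisimple map splits along an invariant flag -/
theorem exists_model_of_flag [FiniteDimensional F V] (f : Module.End F V)
    (hf : f.IsSemisimple) (U W : Submodule F V) (hUW : U ≤ W) (hU : ∀ v ∈ U, f v ∈ U)
    (hW : ∀ v ∈ W, f v ∈ W) :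
    ∃ (ι₁ ι₂ ι₃ : Type) (_ : Fintype ι₁) (_ : Fintype ι₂) (_ : Fintype ι₃) (P₁ : ι₁ → MIrr F)
      (P₂ : ι₂ → MIrr F) (P₃ : ι₃ → MIrr F),
      Module.finrank F U = ∑ j, (P₁ j).poly.natDegree ∧
      Module.finrank F W = ∑ j, (P₁ j).poly.natDegree + ∑ j, (P₂ j).poly.natDegree ∧
      Module.finrank F V = Module.finrank F W + ∑ j, (P₃ j).poly.natDegree ∧
      LinearMap.charpoly f = (∏ j, (P₁ j).poly) * (∏ j, (P₂ j).poly) * (∏ j, (P₃ j).poly) := by
  obtain ⟨ι₃, hι₃, P₃, h3⟩ := charpoly_split_of_invt f hf W hW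
  have hWm : W ∈ Module.End.invtSubmodule f := by
    rw [Module.End.mem_invtSubmodule]
    intro v hv
    exact hW v hv
  have hs : Module.End.IsSemisimple (f.restrict hW) := Module.End.IsSemisimple.restrict hWm hf
  have hU' : ∀ v ∈ Submodule.comap W.subtype U, (f.restrict hW) v ∈ Submodule.comap W.subtype U := by
    intro v hv
    exact hU v.1 hv
  obtain ⟨ι₁, ι₂, hι₁, hι₂, P₁, P₂, hfr, hch⟩ :=
    exists_model_of_invt (f.restrict hW) hs (Submodule.comap W.subtype U) hU'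
  have hWd : Module.finrank F W = ∑ j, (P₁ j).poly.natDegree + ∑ j, (P₂ j).poly.natDegree := by
    rw [← LinearMap.charpoly_natDegree (f.restrict hW), hch,
      Monic.natDegree_mul (monic_prod_MIrr P₁) (monic_prod_MIrr P₂), natDegree_prod_MIrr,
      natDegree_prod_MIrr]
  refine ⟨ι₁, ι₂, ι₃, hι₁, hι₂, hι₃, P₁, P₂, P₃, ?_, hWd, ?_, ?_⟩
  · rw [← hfr]
    exact (Submodule.comapSubtypeEquivOfLe hUW).finrank_eq.symm
  · rw [← LinearMap.charpoly_natDegree f, h3,
      Monic.natDegree_mul (LinearMap.charpoly_monic _) (monic_prod_MIrr P₃),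
      LinearMap.charpoly_natDegree, natDegree_prod_MIrr]
  · rw [h3, hch]

theorem X_sub_one_irr : Irreducible (X - 1 : F[X]) := by
  rw [X_sub_one_eq]
  exact irreducible_X_sub_C 1

theorem X_sub_one_monic : (X - 1 : F[X]).Monic := by
  rw [X_sub_one_eq]
  exact monic_X_sub_C 1

/-- a family of blocks equal to `X - 1` or `Q`: total degree and the power of `X - 1` -/
theorem sum_deg_two {ι : Type} [Fintype ι] (P : ι → MIrr F) (Q : MIrr F)
    (h1 : ∀ j, (P j).poly = X - 1 ∨ (P j).poly = Q.poly) :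
    ∃ a b, (X - 1 : F[X]) ^ a ∣ ∏ j, (P j).poly ∧
      ∑ j, (P j).poly.natDegree = a + b * Q.poly.natDegree := by
  classical
  obtain ⟨A, hA⟩ : ∃ A : Finset ι, A = Finset.univ.filter (fun j => (P j).poly = X - 1) :=
    ⟨_, rfl⟩
  obtain ⟨B, hB⟩ : ∃ B : Finset ι, B = Finset.univ.filter (fun j => ¬ (P j).poly = X - 1) :=
    ⟨_, rfl⟩
  have hA1 : ∀ j ∈ A, (P j).poly = X - 1 := by
    intro j hj
    rw [hA] at hj
    exact (Finset.mem_filter.mp hj).2
  have hB1 : ∀ j ∈ B, (P j).poly = Q.poly := by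
    intro j hj
    rw [hB] at hj
    rcases h1 j with h | h
    · exact absurd h (Finset.mem_filter.mp hj).2
    · exact h
  have hdeg1 : (X - 1 : F[X]).natDegree = 1 := by
    rw [X_sub_one_eq]
    exact natDegree_X_sub_C 1
  refine ⟨A.card, B.card, ?_, ?_⟩
  · rw [← Finset.prod_filter_mul_prod_filter_not Finset.univ (fun j => (P j).poly = X - 1),
      ← hA, ← hB, Finset.prod_congr rfl hA1, Finset.prod_const]
    exact Dvd.intro _ rfl
  · have hsA : ∑ j ∈ A, (P j).poly.natDegree = A.card := by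
      have h2 : ∀ j ∈ A, (P j).poly.natDegree = 1 := by
        intro j hj
        rw [hA1 j hj, hdeg1]
      rw [Finset.sum_congr rfl h2, Finset.sum_const, smul_eq_mul, mul_one]
    have hsB : ∑ j ∈ B, (P j).poly.natDegree = B.card * Q.poly.natDegree := by
      have h2 : ∀ j ∈ B, (P j).poly.natDegree = Q.poly.natDegree := by
        intro j hj
        rw [hB1 j hj]
      rw [Finset.sum_congr rfl h2, Finset.sum_const, smul_eq_mul]
    rw [← Finset.sum_filter_add_sum_filter_not Finset.univ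
      (fun j => (P j).poly = X - 1), ← hA, ← hB, hsA, hsB]

theorem le_of_pow_dvd' (Q : MIrr F) (hQ1 : Q.poly ≠ X - 1) (k e s : ℕ)
    (h : (X - 1 : F[X]) ^ k ∣ (X - 1) ^ e * Q.poly ^ s) : k ≤ e := by
  have hcop : IsCoprime (X - 1 : F[X]) Q.poly := by
    rw [X_sub_one_irr.coprime_iff_not_dvd]
    intro hdvd
    apply hQ1
    exact (eq_of_monic_of_associated X_sub_one_monic Q.monic
      (X_sub_one_irr.associated_of_dvd Q.irr hdvd)).symm
  have h3 : (X - 1 : F[X]) ^ k ∣ (X - 1) ^ e := IsCoprime.dvd_of_dvd_mul_right (hcop.pow) h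
  exact (pow_dvd_pow_iff X_sub_one_irr.ne_zero X_sub_one_irr.not_isUnit).mp h3

/-- dimensions in an invariant flag when the characteristic polynomial is
`(X - 1) ^ e * Q ^ s` -/
theorem finrank_of_flag_two [FiniteDimensional F V] (f : Module.End F V) (hf : f.IsSemisimple)
    (Q : MIrr F) (hQ1 : Q.poly ≠ X - 1) (e s : ℕ)
    (hc : LinearMap.charpoly f = (X - 1) ^ e * Q.poly ^ s) (U W : Submodule F V) (hUW : U ≤ W)
    (hU : ∀ v ∈ U, f v ∈ U) (hW : ∀ v ∈ W, f v ∈ W) :
    ∃ a₁ b₁ a₃ b₃, a₁ + a₃ ≤ e ∧ Module.finrank F U = a₁ + b₁ * Q.poly.natDegree ∧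
      Module.finrank F V = Module.finrank F W + (a₃ + b₃ * Q.poly.natDegree) := by
  obtain ⟨ι₁, ι₂, ι₃, hι₁, hι₂, hι₃, P₁, P₂, P₃, hUd, hWd, hVd, hch⟩ :=
    exists_model_of_flag f hf U W hUW hU hW
  have hcase : ∀ R : MIrr F, R.poly ∣ LinearMap.charpoly f →
      R.poly = X - 1 ∨ R.poly = Q.poly := by
    intro R hd
    rw [hc] at hd
    rcases R.irr.prime.dvd_or_dvd hd with h | h
    · left
      exact eq_of_irr_dvd_pow R _ X_sub_one_monic X_sub_one_irr e h
    · right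
      exact eq_of_irr_dvd_pow R _ Q.monic Q.irr s h
  have h1 : ∀ j, (P₁ j).poly = X - 1 ∨ (P₁ j).poly = Q.poly := by
    intro j
    apply hcase
    rw [hch]
    exact Dvd.dvd.mul_right (Dvd.dvd.mul_right (Finset.dvd_prod_of_mem _ (Finset.mem_univ j)) _) _
  have h3 : ∀ j, (P₃ j).poly = X - 1 ∨ (P₃ j).poly = Q.poly := by
    intro j
    apply hcase
    rw [hch]
    exact Dvd.dvd.mul_left (Finset.dvd_prod_of_mem _ (Finset.mem_univ j)) _
  obtain ⟨a₁, b₁, hd1, hs1⟩ := sum_deg_two P₁ Q h1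
  obtain ⟨a₃, b₃, hd3, hs3⟩ := sum_deg_two P₃ Q h3
  refine ⟨a₁, b₁, a₃, b₃, ?_, by rw [hUd, hs1], by rw [hVd, hs3]⟩
  apply le_of_pow_dvd' Q hQ1 (a₁ + a₃) e s
  rw [← hc, hch, pow_add]
  exact (mul_dvd_mul hd1 hd3).trans ⟨∏ j, (P₂ j).poly, by ring⟩

end Cfsg.Agent.helper29.EL
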