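import Mathlib
import Cfsg.Agent.Lib_helper29_EL2

set_option autoImplicit false
set_option linter.unusedSectionVars false
set_option linter.unusedVariables false
universe u v
namespace Cfsg.Agent.helper29.EL
open Polynomial Cfsg.Agent.helper25.SSimple

variable {F : Type v} [Field F] {V : Type u} [AddCommGroup V] [Module F V]

/-- a root of a nonzero scalar of order prime to the characteristic is semisimple -/
theorem isSemisimple_of_pow_eq (f : Module.End F V) (r : ℕ) (hr : (r : F) ≠ 0) (c : F)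
    (hc : c ≠ 0) (hf : f ^ r = c • (1 : Module.End F V)) : f.IsSemisimple := by
  apply Module.End.isSemisimple_of_squarefree_aeval_eq_zero (p := X ^ r - C c)
  · exact (separable_X_pow_sub_C c hr hc).squarefree
  · rw [map_sub, map_pow, aeval_X, aeval_C, hf, Algebra.algebraMap_eq_smul_one, sub_self]

/-- a semisimple map whose characteristic polynomial has an irreducible factor of degree at
least two is not a scalar -/
theorem not_scalar_of_irr_dvd [FiniteDimensional F V] (f : Module.End F V)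
    (R : F[X]) (hRm : R.Monic) (hRi : Irreducible R) (hR2 : 2 ≤ R.natDegree)
    (hdvd : R ∣ LinearMap.charpoly f) (z : F) : f ≠ z • (1 : Module.End F V) := by
  intro hz
  have hss : f.IsSemisimple := by
    apply Module.End.isSemisimple_of_squarefree_aeval_eq_zero (p := X - C z)
    · exact (irreducible_X_sub_C z).squarefree
    · rw [map_sub, aeval_X, aeval_C, hz, Algebra.algebraMap_eq_smul_one, sub_self]
  obtain ⟨ι, hι, P, φ, hφ, hc⟩ := exists_ss_model_charpoly _ V f hss rfl
  have h1 : ∀ j, (P j).poly = X - C z := by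
    intro j
    have h2 := dvd_of_pow_eq P f φ hφ 1 z (by rw [pow_one, hz]) j
    rw [pow_one] at h2
    exact eq_of_irr_dvd (P j) _ (monic_X_sub_C z) (irreducible_X_sub_C z) h2
  rw [hc, Finset.prod_congr rfl (fun j _ => h1 j), Finset.prod_const] at hdvd
  have h3 : R ∣ X - C z := hRi.prime.dvd_of_dvd_pow hdvd
  have h4 := natDegree_le_of_dvd h3 (X_sub_C_ne_zero z)
  rw [natDegree_X_sub_C] at h4
  omega

/-- invariant subspaces in the split case -/
theorem exists_invt_of_pow_eq_pow [FiniteDimensional F V] [Fintype F] {p : ℕ} [Fact p.Prime]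
    [CharP F p] {q : ℕ} (hq : Fintype.card F = q) (r : ℕ) [Fact r.Prime] (hrp : r ≠ p)
    (f : Module.End F V) (l : F) (hl : l ≠ 0) (hf : f ^ r = (l ^ r) • (1 : Module.End F V))
    (hi : 1 ≤ orderOf (q : ZMod r)) (n m : ℕ) (hn : Module.finrank F V = n) (hmn : m ≤ n)
    (hmod : m % orderOf (q : ZMod r) ≤ n % orderOf (q : ZMod r)) :
    ∃ W : Submodule F V, (∀ v ∈ W, f v ∈ W) ∧ Module.finrank F W = m := by
  have hp : p.Prime := Fact.out
  have hr : r.Prime := Fact.out
  have hrF : (r : F) ≠ 0 := by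
    rw [Ne, CharP.cast_eq_zero_iff F p]
    intro h
    exact hrp ((Nat.prime_dvd_prime_iff_eq hp hr).mp h).symm
  obtain ⟨y, hy⟩ : ∃ y : Module.End F V, y = l⁻¹ • f := ⟨_, rfl⟩
  have hyr : y ^ r = (1 : F) • (1 : Module.End F V) := by
    rw [hy, _root_.smul_pow, hf, smul_smul, inv_pow, inv_mul_cancel₀ (pow_ne_zero r hl)]
  have hfy : f = l • y := by
    rw [hy, smul_smul, mul_inv_cancel₀ hl, one_smul]
  have hss : y.IsSemisimple := isSemisimple_of_pow_eq y r hrF 1 one_ne_zero hyr
  obtain ⟨ι, hι, P, φ, hφ, hc⟩ := exists_ss_model_charpoly _ V y hss rfl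
  have hdeg : ∀ j, (P j).poly.natDegree = 1 ∨ (P j).poly.natDegree = orderOf (q : ZMod r) := by
    intro j
    have h2 := dvd_of_pow_eq P y φ hφ r 1 hyr j
    rw [map_one] at h2
    rcases natDegree_of_dvd_X_pow_sub_one hq r hrp (P j) h2 with h3 | h3
    · left
      rw [h3, X_sub_one_eq, natDegree_X_sub_C]
    · right
      exact h3
  obtain ⟨W, hW, hWd⟩ := exists_invt_of_degrees P y φ hφ _ hi hdeg n m hn hmn hmod
  refine ⟨W, ?_, hWd⟩
  intro v hv
  rw [hfy, LinearMap.smul_apply]
  exact W.smul_mem l (hW v hv)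

/-- the irreducible case -/
theorem beta_analysis [FiniteDimensional F V] (r : ℕ) (hr : r.Prime) (hrF : (r : F) ≠ 0)
    (f : Module.End F V) (c : F) (hc0 : c ≠ 0) (hc : ∀ b : F, b ^ r ≠ c)
    (hf : f ^ r = c • (1 : Module.End F V)) (n : ℕ) (hn : Module.finrank F V = n) :
    ∃ k : ℕ, n = r * k ∧ LinearMap.charpoly f = (X ^ r - C c) ^ k ∧
      ∀ m, r ∣ m → m ≤ n → ∃ W : Submodule F V, (∀ v ∈ W, f v ∈ W) ∧ Module.finrank F W = m := by
  classical
  have hss : f.IsSemisimple := isSemisimple_of_pow_eq f r hrF c hc0 hf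
  obtain ⟨ι, hι, P, φ, hφ, hcp⟩ := exists_ss_model_charpoly _ V f hss rfl
  have hRi : Irreducible (X ^ r - C c : F[X]) := X_pow_sub_C_irreducible_of_prime hr hc
  have hRm : (X ^ r - C c : F[X]).Monic := monic_X_pow_sub_C c hr.ne_zero
  have h1 : ∀ j, (P j).poly = X ^ r - C c := by
    intro j
    exact eq_of_irr_dvd (P j) _ hRm hRi (dvd_of_pow_eq P f φ hφ r c hf j)
  have hd : ∀ j, (P j).poly.natDegree = r := by
    intro j
    rw [h1 j, natDegree_X_pow_sub_C]
  have hsum := sum_deg_eq P φ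
  rw [hn, Finset.sum_congr rfl (fun j _ => hd j), Finset.sum_const, smul_eq_mul,
    Finset.card_univ] at hsum
  refine ⟨Fintype.card ι, ?_, ?_, ?_⟩
  · rw [← hsum, mul_comm]
  · rw [hcp, Finset.prod_congr rfl (fun j _ => h1 j), Finset.prod_const, Finset.card_univ]
  · rintro m ⟨t, rfl⟩ hmn
    have ht : t ≤ (Finset.univ : Finset ι).card := by
      rw [Finset.card_univ]
      rw [← hsum, mul_comm] at hmn
      exact Nat.le_of_mul_le_mul_right hmn hr.pos
    obtain ⟨J, -, hJ⟩ := Finset.exists_subset_card_eq ht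
    obtain ⟨W, hW, hWd⟩ := exists_invt_of_model P f φ hφ J
    refine ⟨W, hW, ?_⟩
    rw [hWd, Finset.sum_congr rfl (fun j _ => hd j), Finset.sum_const, smul_eq_mul, hJ, mul_comm]

/-- the determinant of a matrix with characteristic polynomial `(X ^ r - c) ^ k` -/
theorem det_of_charpoly_pow {n : ℕ} (M : Matrix (Fin n) (Fin n) F) (r k : ℕ) (hr : r ≠ 0) (c : F)
    (hn : n = r * k) (hM : M.charpoly = (X ^ r - C c) ^ k) :
    M.det = ((-1 : F) ^ (r + 1) * c) ^ k := by
  rw [Matrix.det_eq_sign_charpoly_coeff, hM, Fintype.card_fin, coeff_zero_eq_eval_zero, eval_pow,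
    eval_sub, eval_pow, eval_X, eval_C, zero_pow hr, zero_sub, hn, pow_mul, ← mul_pow]
  congr 1
  rw [pow_succ]
  ring

/-- the degree of an irreducible factor of the `r`-th cyclotomic polynomial -/
theorem natDegree_of_dvd_cyclotomic' [Fintype F] {p : ℕ} [Fact p.Prime] [CharP F p] {q : ℕ}
    (hq : Fintype.card F = q) (r : ℕ) [Fact r.Prime] (hrp : r ≠ p) (Q : F[X]) (hQi : Irreducible Q)
    (hQ : Q ∣ cyclotomic r F) : Q.natDegree = orderOf (q : ZMod r) := by
  have hp : p.Prime := Fact.out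
  have hr : r.Prime := Fact.out
  obtain ⟨f, -, hf⟩ := FiniteField.card F p
  have hcop : p.Coprime r := (Nat.coprime_primes hp hr).mpr (Ne.symm hrp)
  have h1 := natDegree_of_dvd_cyclotomic_of_irreducible (K := F) (p := p) (f := (f : ℕ))
    (n := r) hf hcop hQ hQi
  rw [h1, ← orderOf_units, ZMod.coe_unitOfCoprime, ← hf, hq]

end Cfsg.Agent.helper29.EL
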