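import Mathlib
import Cfsg.Agent.Lib_helper29_EL5

set_option autoImplicit false
set_option linter.unusedSectionVars false
set_option linter.unusedVariables false
universe v
namespace Cfsg.Agent.helper29.EL
open Polynomial Cfsg.Agent.helper25.SSimple

/-- the order of `q` modulo `r` is one exactly when `r` divides `q - 1` -/
theorem orderOf_eq_one_iff_dvd (q r : ℕ) (hq : 1 ≤ q) :
    orderOf (q : ZMod r) = 1 ↔ r ∣ q - 1 := by
  rw [orderOf_eq_one_iff, ← ZMod.natCast_eq_zero_iff]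
  obtain ⟨t, rfl⟩ : ∃ t, q = t + 1 := ⟨q - 1, by omega⟩
  rw [Nat.add_sub_cancel, Nat.cast_add, Nat.cast_one]
  constructor
  · intro h
    exact add_right_cancel (a := (t : ZMod r)) (b := 1) (c := 0) (by rw [h, zero_add])
  · intro h
    rw [h, zero_add]

variable {F : Type v} [Field F] {n : ℕ}

theorem Glin_pow_eq (g : Matrix.GeneralLinearGroup (Fin n) F) (r : ℕ) (c : F)
    (h : (Glin g) ^ r = c • (1 : Module.End F (Fin n → F))) :
    g.val ^ r = c • (1 : Matrix (Fin n) (Fin n) F) := by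
  have h1 : Matrix.toLinAlgEquiv' (g.val ^ r) =
      Matrix.toLinAlgEquiv' (c • (1 : Matrix (Fin n) (Fin n) F)) := by
    rw [map_pow, map_smul, map_one]
    exact h
  exact (Matrix.toLinAlgEquiv' (R := F) (n := Fin n)).injective h1

theorem Glin_scalar (g : Matrix.GeneralLinearGroup (Fin n) F) (z : F)
    (h : g.val = z • (1 : Matrix (Fin n) (Fin n) F)) :
    Glin g = z • (1 : Module.End F (Fin n → F)) := by
  show Matrix.toLinAlgEquiv' g.val = _
  rw [h, map_smul, map_one]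

variable [Fintype F] {p : ℕ} [Fact p.Prime] [CharP F p]

/-- a derangement of prime order `r` when the order of `q` modulo `r` is at least two -/
theorem exists_derangement_two {q : ℕ} (hq : Fintype.card F = q) (n : ℕ) (r : ℕ) [Fact r.Prime]
    (hrp : r ≠ p) (hi2 : 2 ≤ orderOf (q : ZMod r)) (hin : orderOf (q : ZMod r) ≤ n) :
    ∃ x : Matrix.SpecialLinearGroup (Fin n) F,
      ((x ^ r : Matrix.SpecialLinearGroup (Fin n) F) : Matrix (Fin n) (Fin n) F) =
        (1 : F) • (1 : Matrix (Fin n) (Fin n) F) ∧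
      (∀ c : F, (x : Matrix (Fin n) (Fin n) F) ≠ c • (1 : Matrix (Fin n) (Fin n) F)) ∧
      ∀ W : Submodule F (Fin n → F),
        (∀ v ∈ W, Matrix.toLin' (x : Matrix (Fin n) (Fin n) F) v ∈ W) →
        Module.finrank F W % orderOf (q : ZMod r) ≤ n % orderOf (q : ZMod r) := by
  classical
  have hp : p.Prime := Fact.out
  have hr : r.Prime := Fact.out
  have hq1 : 1 ≤ q := by
    rw [← hq]
    exact Fintype.card_pos
  have hnd : ¬ r ∣ q - 1 := by
    intro h
    rw [(orderOf_eq_one_iff_dvd q r hq1).mpr h] at hi2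
    omega
  obtain ⟨i, hi⟩ : ∃ i, i = orderOf (q : ZMod r) := ⟨_, rfl⟩
  rw [← hi] at hi2 hin ⊢
  have hcyc : ¬ IsUnit (cyclotomic r F) := by
    apply not_isUnit_of_natDegree_pos
    rw [natDegree_cyclotomic, Nat.totient_prime hr]
    have := hr.two_le
    omega
  obtain ⟨Q₀, hQm, hQi, hQd⟩ := Polynomial.exists_monic_irreducible_factor _ hcyc
  obtain ⟨Q, hQ⟩ : ∃ Q : MIrr F, Q.poly = Q₀ := ⟨⟨Q₀, hQm, hQi⟩, rfl⟩
  have hQdeg : Q.poly.natDegree = i := by
    rw [hQ, hi]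
    exact natDegree_of_dvd_cyclotomic' hq r hrp Q₀ hQi hQd
  have hX1r : (X - 1 : F[X]) ∣ X ^ r - 1 := by
    rw [← cyclotomic_prime_mul_X_sub_one F r]
    exact Dvd.intro_left _ rfl
  have hQr : Q.poly ∣ X ^ r - 1 := by
    rw [hQ, ← cyclotomic_prime_mul_X_sub_one F r]
    exact Dvd.dvd.mul_right hQd _
  have hQ1 : Q.poly ≠ X - 1 := by
    intro h
    rw [h, X_sub_one_eq, natDegree_X_sub_C] at hQdeg
    omega
  have hQ0 : Q.poly.eval 0 ≠ 0 := by
    intro h
    obtain ⟨s, hs⟩ := hQr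
    have h1 := congrArg (eval 0) hs
    rw [eval_sub, eval_pow, eval_X, eval_one, zero_pow hr.ne_zero, eval_mul, h, zero_mul,
      zero_sub, neg_eq_zero] at h1
    exact one_ne_zero h1
  obtain ⟨f₀, hf₀⟩ : ∃ f₀ : F[X], f₀ = (X - 1) ^ (n % i) * Q.poly ^ (n / i) := ⟨_, rfl⟩
  have hX1m : (X - 1 : F[X]).Monic := by
    rw [X_sub_one_eq]
    exact monic_X_sub_C 1
  have hf₀m : f₀.Monic := by
    rw [hf₀]
    exact (hX1m.pow _).mul (Q.monic.pow _)
  have hf₀d : f₀.natDegree = n := by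
    rw [hf₀, Monic.natDegree_mul (hX1m.pow _) (Q.monic.pow _), Monic.natDegree_pow hX1m,
      Monic.natDegree_pow Q.monic, hQdeg, X_sub_one_eq, natDegree_X_sub_C, mul_one]
    exact Nat.mod_add_div' n i
  have hf₀0 : f₀.coeff 0 ≠ 0 := by
    rw [coeff_zero_eq_eval_zero, hf₀, eval_mul, eval_pow, eval_pow, eval_sub, eval_X, eval_one]
    exact mul_ne_zero (pow_ne_zero _ (by norm_num)) (pow_ne_zero _ hQ0)
  obtain ⟨g, hgo, hgc⟩ := exists_GL_of_charpoly p f₀ hf₀m hf₀d hf₀0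
  have hss : (Glin g).IsSemisimple := isSemisimple_of_coprime p g hgo
  have hcl : LinearMap.charpoly (Glin g) = (X - 1) ^ (n % i) * Q.poly ^ (n / i) := by
    rw [charpoly_Glin, hgc, hf₀]
  obtain ⟨ι, hι, P, φ, hφ, hc⟩ := exists_ss_model_charpoly _ _ (Glin g) hss rfl
  have hPd : ∀ j, (P j).poly ∣ X ^ r - C (1 : F) := by
    intro j
    have h1 : (P j).poly ∣ (X - 1) ^ (n % i) * Q.poly ^ (n / i) := by
      rw [← hcl, hc]
      exact Finset.dvd_prod_of_mem _ (Finset.mem_univ j)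
    rw [map_one]
    rcases (P j).irr.prime.dvd_or_dvd h1 with h2 | h2
    · exact ((P j).irr.prime.dvd_of_dvd_pow h2).trans hX1r
    · exact ((P j).irr.prime.dvd_of_dvd_pow h2).trans hQr
  have hpow : (Glin g) ^ r = (1 : F) • (1 : Module.End F (Fin n → F)) :=
    pow_of_dvd P (Glin g) φ hφ r 1 hPd
  have hgr : g.val ^ r = (1 : F) • (1 : Matrix (Fin n) (Fin n) F) := Glin_pow_eq g r 1 hpow
  have hdet : g.val.det = 1 := by
    have h1 : g.val.det ^ r = 1 := by
      rw [← Matrix.det_pow, hgr, one_smul, Matrix.det_one]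
    have hd0 : g.val.det ≠ 0 := ((Matrix.isUnit_iff_isUnit_det _).mp g.isUnit).ne_zero
    have h2 : g.val.det ^ (Fintype.card F - 1) = 1 := FiniteField.pow_card_sub_one_eq_one _ hd0
    have h3 := pow_gcd_eq_one.mpr ⟨h1, h2⟩
    have hcop : Nat.gcd r (Fintype.card F - 1) = 1 := by
      rw [hq]
      exact (Nat.Prime.coprime_iff_not_dvd hr).mpr hnd
    rw [hcop, pow_one] at h3
    exact h3
  have hni : n / i ≠ 0 := by
    have : 0 < n / i := Nat.div_pos hin (by omega)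
    omega
  refine ⟨⟨g.val, hdet⟩, ?_, ?_, ?_⟩
  · exact (Matrix.SpecialLinearGroup.coe_pow _ r).trans hgr
  · intro z hz
    have hz' : g.val = z • (1 : Matrix (Fin n) (Fin n) F) := hz
    refine not_scalar_of_irr_dvd (Glin g) Q.poly Q.monic Q.irr (by rw [hQdeg]; exact hi2) ?_ z
      (Glin_scalar g z hz')
    rw [hcl]
    exact Dvd.dvd.mul_left (dvd_pow_self _ hni) _
  · intro W hW
    have hW' : ∀ v ∈ W, (Glin g) v ∈ W := hW
    obtain ⟨a, b, ha, hab⟩ := finrank_of_invt_two (Glin g) hss Q hQ1 (n % i) (n / i) hcl W hW'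
    rw [hab, hQdeg, Nat.add_mul_mod_self_right]
    have hlt : n % i < i := Nat.mod_lt _ (by omega)
    rw [Nat.mod_eq_of_lt (by omega)]
    exact ha

/-- a derangement of prime order `r` in the irreducible case -/
theorem exists_derangement_one (n : ℕ) (hn0 : 0 < n) (r : ℕ) [Fact r.Prime] (hrp : r ≠ p)
    (c : F) (hc0 : c ≠ 0) (hc : ∀ b : F, b ^ r ≠ c) (hrn : r ∣ n)
    (hdet : ((-1 : F) ^ (r + 1) * c) ^ (n / r) = 1) :
    ∃ x : Matrix.SpecialLinearGroup (Fin n) F,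
      ((x ^ r : Matrix.SpecialLinearGroup (Fin n) F) : Matrix (Fin n) (Fin n) F) =
        c • (1 : Matrix (Fin n) (Fin n) F) ∧
      (∀ z : F, (x : Matrix (Fin n) (Fin n) F) ≠ z • (1 : Matrix (Fin n) (Fin n) F)) ∧
      ∀ W : Submodule F (Fin n → F),
        (∀ v ∈ W, Matrix.toLin' (x : Matrix (Fin n) (Fin n) F) v ∈ W) →
        r ∣ Module.finrank F W := by
  classical
  have hp : p.Prime := Fact.out
  have hr : r.Prime := Fact.out
  have hRi : Irreducible (X ^ r - C c : F[X]) := X_pow_sub_C_irreducible_of_prime hr hc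
  have hRm : (X ^ r - C c : F[X]).Monic := monic_X_pow_sub_C c hr.ne_zero
  have hRd : (X ^ r - C c : F[X]).natDegree = r := natDegree_X_pow_sub_C
  have hnr : n = r * (n / r) := (Nat.mul_div_cancel' hrn).symm
  have hk0 : n / r ≠ 0 := by
    have : 0 < n / r := Nat.div_pos (Nat.le_of_dvd hn0 hrn) hr.pos
    omega
  obtain ⟨f₀, hf₀⟩ : ∃ f₀ : F[X], f₀ = (X ^ r - C c) ^ (n / r) := ⟨_, rfl⟩
  have hf₀m : f₀.Monic := by
    rw [hf₀]
    exact hRm.pow _
  have hf₀d : f₀.natDegree = n := by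
    rw [hf₀, Monic.natDegree_pow hRm, hRd]
    exact Nat.div_mul_cancel hrn
  have hf₀0 : f₀.coeff 0 ≠ 0 := by
    rw [coeff_zero_eq_eval_zero, hf₀, eval_pow, eval_sub, eval_pow, eval_X, eval_C,
      zero_pow hr.ne_zero, zero_sub]
    exact pow_ne_zero _ (neg_ne_zero.mpr hc0)
  obtain ⟨g, hgo, hgc⟩ := exists_GL_of_charpoly p f₀ hf₀m hf₀d hf₀0
  have hss : (Glin g).IsSemisimple := isSemisimple_of_coprime p g hgo
  have hcl : LinearMap.charpoly (Glin g) = (X ^ r - C c) ^ (n / r) := by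
    rw [charpoly_Glin, hgc, hf₀]
  obtain ⟨ι, hι, P, φ, hφ, hcp⟩ := exists_ss_model_charpoly _ _ (Glin g) hss rfl
  have hPd : ∀ j, (P j).poly ∣ X ^ r - C c := by
    intro j
    have h1 : (P j).poly ∣ (X ^ r - C c) ^ (n / r) := by
      rw [← hcl, hcp]
      exact Finset.dvd_prod_of_mem _ (Finset.mem_univ j)
    exact (P j).irr.prime.dvd_of_dvd_pow h1
  have hpow : (Glin g) ^ r = c • (1 : Module.End F (Fin n → F)) :=
    pow_of_dvd P (Glin g) φ hφ r c hPd
  have hgr : g.val ^ r = c • (1 : Matrix (Fin n) (Fin n) F) := Glin_pow_eq g r c hpow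
  have hdet' : g.val.det = 1 := by
    rw [det_of_charpoly_pow g.val r (n / r) hr.ne_zero c hnr (by rw [hgc, hf₀])]
    exact hdet
  refine ⟨⟨g.val, hdet'⟩, ?_, ?_, ?_⟩
  · exact (Matrix.SpecialLinearGroup.coe_pow _ r).trans hgr
  · intro z hz
    have hz' : g.val = z • (1 : Matrix (Fin n) (Fin n) F) := hz
    refine not_scalar_of_irr_dvd (Glin g) _ hRm hRi (by rw [hRd]; exact hr.two_le) ?_ z
      (Glin_scalar g z hz')
    rw [hcl]
    exact dvd_pow_self _ hk0
  · intro W hW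
    have hW' : ∀ v ∈ W, (Glin g) v ∈ W := hW
    have h1 := finrank_of_invt_one (Glin g) hss _ hRm hRi (n / r) hcl W hW'
    rw [hRd] at h1
    exact h1

end Cfsg.Agent.helper29.EL
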