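import Mathlib
import Cfsg.Agent.Lib_helper29_EL2

set_option autoImplicit false
set_option linter.unusedSectionVars false
set_option linter.unusedVariables false
universe u v
namespace Cfsg.Agent.helper29.EL
open Polynomial Cfsg.Agent.helper25.SSimple

variable {F : Type v} [Field F] {V : Type u} [AddCommGroup V] [Module F V]

/-- choosing blocks of sizes `1` and `i` with prescribed total size -/
theorem sel {ι : Type*} [DecidableEq ι] (deg : ι → ℕ) (S : Finset ι) (i : ℕ) (hi : 1 ≤ i)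
    (hdeg : ∀ j ∈ S, deg j = 1 ∨ deg j = i) (n m : ℕ) (hn : ∑ j ∈ S, deg j = n) (hmn : m ≤ n)
    (hmod : m % i ≤ n % i) : ∃ J, J ⊆ S ∧ ∑ j ∈ J, deg j = m := by
  obtain ⟨D₁, hD₁⟩ : ∃ D₁ : Finset ι, D₁ = S.filter (fun j => deg j = 1) := ⟨_, rfl⟩
  obtain ⟨D₂, hD₂⟩ : ∃ D₂ : Finset ι, D₂ = S.filter (fun j => ¬ deg j = 1) := ⟨_, rfl⟩
  have hD₁S : D₁ ⊆ S := by
    rw [hD₁]
    exact Finset.filter_subset _ _
  have hD₂S : D₂ ⊆ S := by
    rw [hD₂]
    exact Finset.filter_subset _ _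
  have hd1 : ∀ j ∈ D₁, deg j = 1 := by
    intro j hj
    rw [hD₁] at hj
    exact (Finset.mem_filter.mp hj).2
  have hd2 : ∀ j ∈ D₂, deg j = i := by
    intro j hj
    rw [hD₂] at hj
    rcases hdeg j (Finset.mem_filter.mp hj).1 with h | h
    · exact absurd h (Finset.mem_filter.mp hj).2
    · exact h
  have hsum : D₁.card + D₂.card * i = n := by
    rw [← hn, ← Finset.sum_filter_add_sum_filter_not S (fun j => deg j = 1), ← hD₁, ← hD₂,
      Finset.sum_congr rfl hd1, Finset.sum_congr rfl hd2, Finset.sum_const, Finset.sum_const,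
      smul_eq_mul, smul_eq_mul, mul_one]
  obtain ⟨e', he'⟩ : ∃ e', e' = D₁.card := ⟨_, rfl⟩
  obtain ⟨s', hs'⟩ : ∃ s', s' = D₂.card := ⟨_, rfl⟩
  rw [← he', ← hs'] at hsum
  have hipos : 0 < i := hi
  obtain ⟨a, b, ha, hb, hab⟩ : ∃ a b, a ≤ e' ∧ b ≤ s' ∧ a + b * i = m := by
    by_cases hcase : m / i ≤ s'
    · refine ⟨m % i, m / i, ?_, hcase, ?_⟩
      · have h1 : n % i = e' % i := by
          rw [← hsum, Nat.add_mul_mod_self_right]
        have h2 : e' % i ≤ e' := Nat.mod_le _ _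
        omega
      · have := Nat.mod_add_div m i
        rw [mul_comm] at this
        exact this
    · refine ⟨m - s' * i, s', ?_, le_refl _, ?_⟩
      · omega
      · have h1 : s' * i ≤ m / i * i := Nat.mul_le_mul_right i (by omega)
        have h2 : m / i * i ≤ m := Nat.div_mul_le_self m i
        omega
  obtain ⟨J₁, hJ₁s, hJ₁c⟩ := Finset.exists_subset_card_eq (s := D₁) (n := a) (by omega)
  obtain ⟨J₂, hJ₂s, hJ₂c⟩ := Finset.exists_subset_card_eq (s := D₂) (n := b) (by omega)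
  have hdisj : Disjoint J₁ J₂ := by
    rw [Finset.disjoint_left]
    intro j h1 h2
    have h3 := hJ₁s h1
    have h4 := hJ₂s h2
    rw [hD₁] at h3
    rw [hD₂] at h4
    exact (Finset.mem_filter.mp h4).2 (Finset.mem_filter.mp h3).2
  refine ⟨J₁ ∪ J₂, Finset.union_subset (hJ₁s.trans hD₁S) (hJ₂s.trans hD₂S), ?_⟩
  rw [Finset.sum_union hdisj, Finset.sum_congr rfl (fun j hj => hd1 j (hJ₁s hj)),
    Finset.sum_congr rfl (fun j hj => hd2 j (hJ₂s hj)), Finset.sum_const, Finset.sum_const,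
    smul_eq_mul, smul_eq_mul, mul_one, hJ₁c, hJ₂c]
  exact hab

/-- choosing two disjoint groups of blocks of total size `m` each -/
theorem sel_two {ι : Type*} [DecidableEq ι] [Fintype ι] (deg : ι → ℕ) (i : ℕ) (hi : 1 ≤ i)
    (hdeg : ∀ j, deg j = 1 ∨ deg j = i) (n m : ℕ) (hn : ∑ j, deg j = n) (hmn : 2 * m ≤ n)
    (hmod : 2 * (m % i) ≤ n % i) :
    ∃ J J' : Finset ι, J ⊆ J' ∧ ∑ j ∈ J, deg j = m ∧ ∑ j ∈ J', deg j = n - m := by
  have hipos : 0 < i := hi
  obtain ⟨G₁, -, hG₁⟩ := sel deg Finset.univ i hi (fun j _ => hdeg j) n m hn (by omega) (by omega)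
  have hrest : ∑ j ∈ Finset.univ \ G₁, deg j = n - m := by
    have := Finset.sum_sdiff (Finset.subset_univ G₁) (f := deg)
    omega
  have hmod2 : m % i ≤ (n - m) % i := by
    have h1 : n % i < i := Nat.mod_lt _ hipos
    have h2 : (n - m) % i = n % i - m % i := by
      have h3 := Nat.mod_add_div n i
      have h4 := Nat.mod_add_div m i
      have h5 : n - m = (n % i - m % i) + i * (n / i - m / i) := by
        have h6 : m / i ≤ n / i := Nat.div_le_div_right (by omega)
        have h7 : i * (n / i - m / i) = i * (n / i) - i * (m / i) := Nat.mul_sub _ _ _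
        have h8 : i * (m / i) ≤ i * (n / i) := Nat.mul_le_mul_left i h6
        omega
      rw [h5, Nat.add_mul_mod_self_left, Nat.mod_eq_of_lt (by omega)]
    omega
  obtain ⟨G₃, hG₃s, hG₃⟩ := sel deg (Finset.univ \ G₁) i hi (fun j _ => hdeg j) (n - m) m hrest
    (by omega) hmod2
  refine ⟨G₁, Finset.univ \ G₃, ?_, hG₁, ?_⟩
  · intro j hj
    rw [Finset.mem_sdiff]
    refine ⟨Finset.mem_univ j, fun h => ?_⟩
    exact (Finset.mem_sdiff.mp (hG₃s h)).2 hj
  · have := Finset.sum_sdiff (Finset.subset_univ G₃) (f := deg)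
    omega

/-- the subspace of the model supported on a set of blocks -/
theorem mem_range_extZ {ι : Type*} [DecidableEq ι] (P : ι → MIrr F) (J : Finset ι) (c : Ms P) :
    c ∈ LinearMap.range (extZ P J) ↔ ∀ i, i ∉ J → c i = 0 := by
  constructor
  · rintro ⟨c₀, rfl⟩ i hi
    simp only [extZ, LinearMap.coe_mk, AddHom.coe_mk, dif_neg hi]
  · intro h
    refine ⟨fun j => c j.1, ?_⟩
    funext i
    by_cases hi : i ∈ J
    · simp only [extZ, LinearMap.coe_mk, AddHom.coe_mk, dif_pos hi]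
    · simp only [extZ, LinearMap.coe_mk, AddHom.coe_mk, dif_neg hi]
      exact (h i hi).symm

/-- an invariant flag from a nested pair of sets of blocks -/
theorem exists_flag_of_model {ι : Type} [Fintype ι] (P : ι → MIrr F) (f : Module.End F V)
    (φ : V ≃ₗ[F] Ms P) (hφ : ∀ x, φ (f x) = mulX P (φ x)) (J J' : Finset ι) (hJ : J ⊆ J') :
    ∃ U W : Submodule F V, U ≤ W ∧ (∀ v ∈ U, f v ∈ U) ∧ (∀ v ∈ W, f v ∈ W) ∧
      Module.finrank F U = ∑ j ∈ J, (P j).poly.natDegree ∧
      Module.finrank F W = ∑ j ∈ J', (P j).poly.natDegree := by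
  classical
  have key : ∀ K : Finset ι, (∀ v ∈ (LinearMap.range (extZ P K)).map (φ.symm : Ms P →ₗ[F] V),
      f v ∈ (LinearMap.range (extZ P K)).map (φ.symm : Ms P →ₗ[F] V)) ∧
      Module.finrank F ((LinearMap.range (extZ P K)).map (φ.symm : Ms P →ₗ[F] V)) =
        ∑ j ∈ K, (P j).poly.natDegree := by
    intro K
    constructor
    · rintro v ⟨c, hc, rfl⟩
      obtain ⟨c₀, rfl⟩ := hc
      refine ⟨mulX P (extZ P K c₀), ?_, ?_⟩
      · rw [mulX_extZ]
        exact LinearMap.mem_range_self _ _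
      · show φ.symm (mulX P (extZ P K c₀)) = f (φ.symm (extZ P K c₀))
        apply φ.injective
        rw [LinearEquiv.apply_symm_apply, hφ, LinearEquiv.apply_symm_apply]
    · rw [LinearEquiv.finrank_map_eq, LinearMap.finrank_range_of_inj (extZ_injective P K),
        finrank_Ms]
      exact Finset.sum_coe_sort K (fun j => (P j).poly.natDegree)
  refine ⟨_, _, ?_, (key J).1, (key J').1, (key J).2, (key J').2⟩
  apply Submodule.map_mono
  intro c hc
  rw [mem_range_extZ] at hc ⊢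
  intro i hi
  exact hc i (fun h => hi (hJ h))

/-- an invariant flag of prescribed dimensions when all block degrees are `1` or `i` -/
theorem exists_flag_of_degrees {ι : Type} [Fintype ι] (P : ι → MIrr F) (f : Module.End F V)
    (φ : V ≃ₗ[F] Ms P) (hφ : ∀ x, φ (f x) = mulX P (φ x)) (i : ℕ) (hi : 1 ≤ i)
    (hdeg : ∀ j, (P j).poly.natDegree = 1 ∨ (P j).poly.natDegree = i) (n m : ℕ)
    (hn : Module.finrank F V = n) (hmn : 2 * m ≤ n) (hmod : 2 * (m % i) ≤ n % i) :
    ∃ U W : Submodule F V, U ≤ W ∧ (∀ v ∈ U, f v ∈ U) ∧ (∀ v ∈ W, f v ∈ W) ∧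
      Module.finrank F U = m ∧ Module.finrank F W = n - m := by
  classical
  have hsum : ∑ j, (P j).poly.natDegree = n := by
    rw [sum_deg_eq P φ, hn]
  obtain ⟨J, J', hJ, hJm, hJ'm⟩ := sel_two (fun j => (P j).poly.natDegree) i hi hdeg n m hsum hmn hmod
  obtain ⟨U, W, hUW, hU, hW, hUd, hWd⟩ := exists_flag_of_model P f φ hφ J J' hJ
  exact ⟨U, W, hUW, hU, hW, hUd.trans hJm, hWd.trans hJ'm⟩

end Cfsg.Agent.helper29.EL
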