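import Mathlib
import Cfsg.Agent.Lib_helper29_EL6
import Cfsg.Agent.Lib_helper29_EL8
import Cfsg.Agent.Lib_helper29_EL10

set_option autoImplicit false
set_option linter.unusedSectionVars false
set_option linter.unusedVariables false
universe u v
namespace Cfsg.Agent.helper29.EL
open Polynomial Cfsg.Agent.helper25.SSimple

section General

variable {F : Type v} [Field F] {V : Type u} [AddCommGroup V] [Module F V]

/-- invariant flags in the split case -/
theorem exists_flag_of_pow_eq_pow [FiniteDimensional F V] [Fintype F] {p : ℕ} [Fact p.Prime]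
    [CharP F p] {q : ℕ} (hq : Fintype.card F = q) (r : ℕ) [Fact r.Prime] (hrp : r ≠ p)
    (f : Module.End F V) (l : F) (hl : l ≠ 0) (hf : f ^ r = (l ^ r) • (1 : Module.End F V))
    (hi : 1 ≤ orderOf (q : ZMod r)) (n m : ℕ) (hn : Module.finrank F V = n) (hmn : 2 * m ≤ n)
    (hmod : 2 * (m % orderOf (q : ZMod r)) ≤ n % orderOf (q : ZMod r)) :
    ∃ U W : Submodule F V, U ≤ W ∧ (∀ v ∈ U, f v ∈ U) ∧ (∀ v ∈ W, f v ∈ W) ∧
      Module.finrank F U = m ∧ Module.finrank F W = n - m := by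
  have hp : p.Prime := Fact.out
  have hr : r.Prime := Fact.out
  have hrF : (r : F) ≠ 0 := by
    rw [Ne, CharP.cast_eq_zero_iff F p]
    intro h
    exact hrp ((Nat.prime_dvd_prime_iff_eq hp hr).mp h).symm
  obtain ⟨y, hy⟩ : ∃ y : Module.End F V, y = l⁻¹ • f := ⟨_, rfl⟩
  have hyr : y ^ r = (1 : F) • (1 : Module.End F V) := by
    rw [hy, _root_.smul_pow, hf, smul_smul, inv_pow, inv_mul_cancel₀ (pow_ne_zero r hl)]
  have hfy : f = l • y := by
    rw [hy, smul_smul, mul_inv_cancel₀ hl, one_smul]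
  have hss : y.IsSemisimple := isSemisimple_of_pow_eq y r hrF 1 one_ne_zero hyr
  obtain ⟨ι, hι, P, φ, hφ, hc⟩ := exists_ss_model_charpoly _ V y hss rfl
  have hdeg : ∀ j, (P j).poly.natDegree = 1 ∨ (P j).poly.natDegree = orderOf (q : ZMod r) := by
    intro j
    have h2 := dvd_of_pow_eq P y φ hφ r 1 hyr j
    rw [map_one] at h2
    rcases natDegree_of_dvd_X_pow_sub_one hq r hrp (P j) h2 with h3 | h3
    · left
      rw [h3, X_sub_one_eq, natDegree_X_sub_C]
    · right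
      exact h3
  obtain ⟨U, W, hUW, hU, hW, hUd, hWd⟩ :=
    exists_flag_of_degrees P y φ hφ _ hi hdeg n m hn hmn hmod
  refine ⟨U, W, hUW, ?_, ?_, hUd, hWd⟩
  · intro v hv
    rw [hfy, LinearMap.smul_apply]
    exact U.smul_mem l (hU v hv)
  · intro v hv
    rw [hfy, LinearMap.smul_apply]
    exact W.smul_mem l (hW v hv)

/-- invariant flags in the irreducible case -/
theorem beta_flag [FiniteDimensional F V] (r : ℕ) (hr : r.Prime) (hrF : (r : F) ≠ 0)
    (f : Module.End F V) (c : F) (hc0 : c ≠ 0) (hc : ∀ b : F, b ^ r ≠ c)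
    (hf : f ^ r = c • (1 : Module.End F V)) (n : ℕ) (hn : Module.finrank F V = n) :
    ∀ m, r ∣ m → 2 * m ≤ n → ∃ U W : Submodule F V, U ≤ W ∧ (∀ v ∈ U, f v ∈ U) ∧
      (∀ v ∈ W, f v ∈ W) ∧ Module.finrank F U = m ∧ Module.finrank F W = n - m := by
  classical
  have hss : f.IsSemisimple := isSemisimple_of_pow_eq f r hrF c hc0 hf
  obtain ⟨ι, hι, P, φ, hφ, hcp⟩ := exists_ss_model_charpoly _ V f hss rfl
  have hRi : Irreducible (X ^ r - C c : F[X]) := X_pow_sub_C_irreducible_of_prime hr hc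
  have hRm : (X ^ r - C c : F[X]).Monic := monic_X_pow_sub_C c hr.ne_zero
  have h1 : ∀ j, (P j).poly = X ^ r - C c := by
    intro j
    exact eq_of_irr_dvd (P j) _ hRm hRi (dvd_of_pow_eq P f φ hφ r c hf j)
  have hd : ∀ j, (P j).poly.natDegree = r := by
    intro j
    rw [h1 j, natDegree_X_pow_sub_C]
  have hsum := sum_deg_eq P φ
  rw [hn, Finset.sum_congr rfl (fun j _ => hd j), Finset.sum_const, smul_eq_mul,
    Finset.card_univ] at hsum
  rintro m ⟨t, rfl⟩ hmn
  have hrpos := hr.pos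
  have ht : 2 * t ≤ Fintype.card ι := by
    have h2 : r * (2 * t) ≤ r * Fintype.card ι := by
      rw [mul_comm r (Fintype.card ι), hsum]
      calc r * (2 * t) = 2 * (r * t) := by ring
        _ ≤ n := hmn
    exact Nat.le_of_mul_le_mul_left h2 hrpos
  obtain ⟨J', -, hJ'⟩ := Finset.exists_subset_card_eq (s := (Finset.univ : Finset ι))
    (n := Fintype.card ι - t) (by rw [Finset.card_univ]; omega)
  obtain ⟨J, hJs, hJ⟩ := Finset.exists_subset_card_eq (s := J') (n := t) (by omega)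
  obtain ⟨U, W, hUW, hU, hW, hUd, hWd⟩ := exists_flag_of_model P f φ hφ J J' hJs
  refine ⟨U, W, hUW, hU, hW, ?_, ?_⟩
  · rw [hUd, Finset.sum_congr rfl (fun j _ => hd j), Finset.sum_const, smul_eq_mul, hJ, mul_comm]
  · rw [hWd, Finset.sum_congr rfl (fun j _ => hd j), Finset.sum_const, smul_eq_mul, hJ', ← hsum,
      Nat.sub_mul, mul_comm t r]

end General

variable {F : Type v} [Field F] [Fintype F] {p : ℕ} [Fact p.Prime] [CharP F p]

/-- a derangement of prime order `r` when the order of `q` modulo `r` is at least two, with its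
characteristic polynomial -/
theorem exists_derangement_two' {q : ℕ} (hq : Fintype.card F = q) (n : ℕ) (r : ℕ) [Fact r.Prime]
    (hrp : r ≠ p) (hi2 : 2 ≤ orderOf (q : ZMod r)) (hin : orderOf (q : ZMod r) ≤ n) :
    ∃ x : Matrix.SpecialLinearGroup (Fin n) F,
      ((x ^ r : Matrix.SpecialLinearGroup (Fin n) F) : Matrix (Fin n) (Fin n) F) =
        (1 : F) • (1 : Matrix (Fin n) (Fin n) F) ∧
      (∀ c : F, (x : Matrix (Fin n) (Fin n) F) ≠ c • (1 : Matrix (Fin n) (Fin n) F)) ∧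
      Module.End.IsSemisimple (Matrix.toLin' (x : Matrix (Fin n) (Fin n) F)) ∧
      ∃ Q : MIrr F, Q.poly ≠ X - 1 ∧ Q.poly.natDegree = orderOf (q : ZMod r) ∧
        LinearMap.charpoly (Matrix.toLin' (x : Matrix (Fin n) (Fin n) F)) =
          (X - 1) ^ (n % orderOf (q : ZMod r)) * Q.poly ^ (n / orderOf (q : ZMod r)) := by
  classical
  have hp : p.Prime := Fact.out
  have hr : r.Prime := Fact.out
  have hq1 : 1 ≤ q := by
    rw [← hq]
    exact Fintype.card_pos
  have hnd : ¬ r ∣ q - 1 := by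
    intro h
    rw [(orderOf_eq_one_iff_dvd q r hq1).mpr h] at hi2
    omega
  obtain ⟨i, hi⟩ : ∃ i, i = orderOf (q : ZMod r) := ⟨_, rfl⟩
  rw [← hi] at hi2 hin ⊢
  have hcyc : ¬ IsUnit (cyclotomic r F) := by
    apply not_isUnit_of_natDegree_pos
    rw [natDegree_cyclotomic, Nat.totient_prime hr]
    have := hr.two_le
    omega
  obtain ⟨Q₀, hQm, hQi, hQd⟩ := Polynomial.exists_monic_irreducible_factor _ hcyc
  obtain ⟨Q, hQ⟩ : ∃ Q : MIrr F, Q.poly = Q₀ := ⟨⟨Q₀, hQm, hQi⟩, rfl⟩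
  have hQdeg : Q.poly.natDegree = i := by
    rw [hQ, hi]
    exact natDegree_of_dvd_cyclotomic' hq r hrp Q₀ hQi hQd
  have hX1r : (X - 1 : F[X]) ∣ X ^ r - 1 := by
    rw [← cyclotomic_prime_mul_X_sub_one F r]
    exact Dvd.intro_left _ rfl
  have hQr : Q.poly ∣ X ^ r - 1 := by
    rw [hQ, ← cyclotomic_prime_mul_X_sub_one F r]
    exact Dvd.dvd.mul_right hQd _
  have hQ1 : Q.poly ≠ X - 1 := by
    intro h
    rw [h, X_sub_one_eq, natDegree_X_sub_C] at hQdeg
    omega
  have hQ0 : Q.poly.eval 0 ≠ 0 := by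
    intro h
    obtain ⟨s, hs⟩ := hQr
    have h1 := congrArg (eval 0) hs
    rw [eval_sub, eval_pow, eval_X, eval_one, zero_pow hr.ne_zero, eval_mul, h, zero_mul,
      zero_sub, neg_eq_zero] at h1
    exact one_ne_zero h1
  obtain ⟨f₀, hf₀⟩ : ∃ f₀ : F[X], f₀ = (X - 1) ^ (n % i) * Q.poly ^ (n / i) := ⟨_, rfl⟩
  have hX1m : (X - 1 : F[X]).Monic := X_sub_one_monic
  have hf₀m : f₀.Monic := by
    rw [hf₀]
    exact (hX1m.pow _).mul (Q.monic.pow _)
  have hf₀d : f₀.natDegree = n := by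
    rw [hf₀, Monic.natDegree_mul (hX1m.pow _) (Q.monic.pow _), Monic.natDegree_pow hX1m,
      Monic.natDegree_pow Q.monic, hQdeg, X_sub_one_eq, natDegree_X_sub_C, mul_one]
    exact Nat.mod_add_div' n i
  have hf₀0 : f₀.coeff 0 ≠ 0 := by
    rw [coeff_zero_eq_eval_zero, hf₀, eval_mul, eval_pow, eval_pow, eval_sub, eval_X, eval_one]
    exact mul_ne_zero (pow_ne_zero _ (by norm_num)) (pow_ne_zero _ hQ0)
  obtain ⟨g, hgo, hgc⟩ := exists_GL_of_charpoly p f₀ hf₀m hf₀d hf₀0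
  have hss : (Glin g).IsSemisimple := isSemisimple_of_coprime p g hgo
  have hcl : LinearMap.charpoly (Glin g) = (X - 1) ^ (n % i) * Q.poly ^ (n / i) := by
    rw [charpoly_Glin, hgc, hf₀]
  obtain ⟨ι, hι, P, φ, hφ, hc⟩ := exists_ss_model_charpoly _ _ (Glin g) hss rfl
  have hPd : ∀ j, (P j).poly ∣ X ^ r - C (1 : F) := by
    intro j
    have h1 : (P j).poly ∣ (X - 1) ^ (n % i) * Q.poly ^ (n / i) := by
      rw [← hcl, hc]
      exact Finset.dvd_prod_of_mem _ (Finset.mem_univ j)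
    rw [map_one]
    rcases (P j).irr.prime.dvd_or_dvd h1 with h2 | h2
    · exact ((P j).irr.prime.dvd_of_dvd_pow h2).trans hX1r
    · exact ((P j).irr.prime.dvd_of_dvd_pow h2).trans hQr
  have hpow : (Glin g) ^ r = (1 : F) • (1 : Module.End F (Fin n → F)) :=
    pow_of_dvd P (Glin g) φ hφ r 1 hPd
  have hgr : g.val ^ r = (1 : F) • (1 : Matrix (Fin n) (Fin n) F) := Glin_pow_eq g r 1 hpow
  have hdet : g.val.det = 1 := by
    have h1 : g.val.det ^ r = 1 := by
      rw [← Matrix.det_pow, hgr, one_smul, Matrix.det_one]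
    have hd0 : g.val.det ≠ 0 := ((Matrix.isUnit_iff_isUnit_det _).mp g.isUnit).ne_zero
    have h2 : g.val.det ^ (Fintype.card F - 1) = 1 := FiniteField.pow_card_sub_one_eq_one _ hd0
    have h3 := pow_gcd_eq_one.mpr ⟨h1, h2⟩
    have hcop : Nat.gcd r (Fintype.card F - 1) = 1 := by
      rw [hq]
      exact (Nat.Prime.coprime_iff_not_dvd hr).mpr hnd
    rw [hcop, pow_one] at h3
    exact h3
  have hni : n / i ≠ 0 := by
    have : 0 < n / i := Nat.div_pos hin (by omega)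
    omega
  refine ⟨⟨g.val, hdet⟩, ?_, ?_, hss, Q, hQ1, hQdeg, hcl⟩
  · exact (Matrix.SpecialLinearGroup.coe_pow _ r).trans hgr
  · intro z hz
    have hz' : g.val = z • (1 : Matrix (Fin n) (Fin n) F) := hz
    refine not_scalar_of_irr_dvd (Glin g) Q.poly Q.monic Q.irr (by rw [hQdeg]; exact hi2) ?_ z
      (Glin_scalar g z hz')
    rw [hcl]
    exact Dvd.dvd.mul_left (dvd_pow_self _ hni) _

end Cfsg.Agent.helper29.EL
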