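import Mathlib

set_option autoImplicit false
set_option linter.unusedSectionVars false
set_option linter.unusedVariables false
namespace Cfsg.Agent.helper29.EL

variable {F : Type*} [Field F] [Fintype F]

/-- a generator of the multiplicative group, with natural exponents -/
theorem exists_gen : ∃ g : Fˣ, orderOf g = Fintype.card F - 1 ∧ ∀ u : Fˣ, ∃ t : ℕ, g ^ t = u := by
  obtain ⟨g, hg⟩ := IsCyclic.exists_monoid_generator (α := Fˣ)
  refine ⟨g, ?_, fun u => (Submonoid.mem_powers_iff _ _).mp (hg u)⟩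
  rw [orderOf_eq_card_of_forall_mem_powers hg, Nat.card_units, Nat.card_eq_fintype_card]

/-- if `r` does not divide `q - 1` then every element is an `r`-th power -/
theorem exists_pow_eq_of_not_dvd (r : ℕ) (hr : r.Prime) (h : ¬ r ∣ Fintype.card F - 1) (c : F) :
    ∃ b : F, b ^ r = c := by
  by_cases hc : c = 0
  · exact ⟨0, by rw [hc, zero_pow hr.ne_zero]⟩
  · have hcop : (Nat.card Fˣ).Coprime r := by
      rw [Nat.card_units, Nat.card_eq_fintype_card]
      exact ((Nat.Prime.coprime_iff_not_dvd hr).mpr h).symm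
    obtain ⟨u, hu⟩ : ∃ u : Fˣ, (u : F) = c := ⟨Units.mk0 c hc, rfl⟩
    refine ⟨(((powCoprime hcop).symm u : Fˣ) : F), ?_⟩
    have h1 : (powCoprime hcop) ((powCoprime hcop).symm u) = u := (powCoprime hcop).apply_symm_apply u
    have h2 : ((powCoprime hcop).symm u) ^ r = u := h1
    have h3 : (((powCoprime hcop).symm u : Fˣ) : F) ^ r =
        ((((powCoprime hcop).symm u) ^ r : Fˣ) : F) := (Units.val_pow_eq_pow_val _ _).symm
    rw [h3, h2, hu]

/-- a nonzero non-`r`-th power of order dividing `k` forces `r ^ e ∣ k` -/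
theorem pow_dvd_of_not_pow (r : ℕ) (hr : r.Prime) (e : ℕ) (he : r ^ e ∣ Fintype.card F - 1)
    (d : F) (hd0 : d ≠ 0) (hd : ∀ b : F, b ^ r ≠ d) (k : ℕ) (hk : d ^ k = 1) : r ^ e ∣ k := by
  obtain ⟨g, hg, hgen⟩ := exists_gen (F := F)
  obtain ⟨t, ht⟩ := hgen (Units.mk0 d hd0)
  have hrt : ¬ r ∣ t := by
    rintro ⟨s, rfl⟩
    apply hd (((g ^ s : Fˣ) : F))
    rw [← Units.val_pow_eq_pow_val, ← pow_mul, mul_comm, ht]
    rfl
  have h1 : g ^ (t * k) = 1 := by
    rw [pow_mul, ht]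
    apply Units.ext
    rw [Units.val_pow_eq_pow_val]
    exact hk
  have h2 : Fintype.card F - 1 ∣ t * k := by
    rw [← hg]
    exact orderOf_dvd_of_pow_eq_one h1
  have h3 : r ^ e ∣ t * k := he.trans h2
  have hcop : (r ^ e).Coprime t := Nat.Coprime.pow_left e ((Nat.Prime.coprime_iff_not_dvd hr).mpr hrt)
  exact hcop.dvd_of_dvd_mul_left h3

/-- a nonzero non-`r`-th power whose order is a power of `r` -/
theorem exists_not_pow (r : ℕ) (hr : r.Prime) (h : r ∣ Fintype.card F - 1) :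
    ∃ c : F, c ≠ 0 ∧ (∀ b : F, b ^ r ≠ c) ∧ c ^ (r ^ padicValNat r (Fintype.card F - 1)) = 1 := by
  haveI : Fact r.Prime := ⟨hr⟩
  obtain ⟨g, hg, hgen⟩ := exists_gen (F := F)
  have hq1 : Fintype.card F - 1 ≠ 0 := by
    have := Fintype.one_lt_card (α := F)
    omega
  obtain ⟨e, hedef⟩ : ∃ e, e = padicValNat r (Fintype.card F - 1) := ⟨_, rfl⟩
  have hnd : ¬ r ^ (e + 1) ∣ Fintype.card F - 1 := by
    rw [hedef]
    exact pow_succ_padicValNat_not_dvd hq1
  have hdv : r ^ e ∣ Fintype.card F - 1 := by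
    rw [hedef]
    exact pow_padicValNat_dvd
  rw [← hedef]
  obtain ⟨u, hu⟩ := hdv
  have hru : ¬ r ∣ u := by
    rintro ⟨s, rfl⟩
    exact hnd ⟨s, by rw [hu, pow_succ, mul_assoc]⟩
  refine ⟨((g ^ u : Fˣ) : F), Units.ne_zero _, ?_, ?_⟩
  · intro b hb
    have hb0 : b ≠ 0 := by
      rintro rfl
      rw [zero_pow hr.ne_zero] at hb
      exact Units.ne_zero _ hb.symm
    obtain ⟨s, hs⟩ := hgen (Units.mk0 b hb0)
    have h1 : g ^ (s * r) = g ^ u := by
      rw [pow_mul, hs]
      apply Units.ext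
      rw [Units.val_pow_eq_pow_val]
      exact hb
    rw [pow_eq_pow_iff_modEq, hg] at h1
    exact hru ((h1.dvd_iff h).mp (Dvd.intro_left s rfl))
  · rw [← Units.val_pow_eq_pow_val, ← pow_mul, mul_comm, ← hu, ← hg, pow_orderOf_eq_one]
    rfl

theorem neg_one_pow_succ_of_odd (r : ℕ) (hr : r.Prime) (h2 : r ≠ 2) : ((-1 : F)) ^ (r + 1) = 1 := by
  have hodd : Odd r := hr.odd_of_ne_two h2
  exact Even.neg_one_pow hodd.add_one

/-- the determinant condition in the irreducible case, forward direction -/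
theorem beta_forward (r : ℕ) (hr : r.Prime) (h : r ∣ Fintype.card F - 1) (c : F) (hc0 : c ≠ 0)
    (hc : ∀ b : F, b ^ r ≠ c) (k : ℕ) (hk : ((-1 : F) ^ (r + 1) * c) ^ k = 1) :
    r ^ (padicValNat r (Fintype.card F - 1) + 1) ∣ r * k ∨ (r = 2 ∧ Fintype.card F % 4 = 3) := by
  haveI : Fact r.Prime := ⟨hr⟩
  have he : r ^ padicValNat r (Fintype.card F - 1) ∣ Fintype.card F - 1 := pow_padicValNat_dvd
  by_cases h2 : r = 2
  · by_cases h4 : Fintype.card F % 4 = 3
    · right
      exact ⟨h2, h4⟩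
    · left
      obtain ⟨s, hs⟩ := (FiniteField.isSquare_neg_one_iff (F := F)).mpr h4
      have hd : ∀ b : F, b ^ r ≠ (-1 : F) ^ (r + 1) * c := by
        intro b hb
        apply hc (s * b)
        rw [mul_pow, hb, h2]
        rw [pow_two, ← hs]
        norm_num
      have hd0 : (-1 : F) ^ (r + 1) * c ≠ 0 := mul_ne_zero (pow_ne_zero _ (by norm_num)) hc0
      have h3 := pow_dvd_of_not_pow r hr _ he _ hd0 hd k hk
      rw [pow_succ, mul_comm]
      exact Nat.mul_dvd_mul_left r h3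
  · left
    rw [neg_one_pow_succ_of_odd r hr h2, one_mul] at hk
    have h3 := pow_dvd_of_not_pow r hr _ he c hc0 hc k hk
    rw [pow_succ, mul_comm]
    exact Nat.mul_dvd_mul_left r h3

/-- the determinant condition in the irreducible case, backward direction -/
theorem beta_backward (r : ℕ) (hr : r.Prime) (h : r ∣ Fintype.card F - 1) (n : ℕ)
    (hn : r ^ (padicValNat r (Fintype.card F - 1) + 1) ∣ n ∨
      (r = 2 ∧ Even n ∧ Fintype.card F % 4 = 3)) :
    ∃ c : F, c ≠ 0 ∧ (∀ b : F, b ^ r ≠ c) ∧ r ∣ n ∧ ((-1 : F) ^ (r + 1) * c) ^ (n / r) = 1 := by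
  have hrn : r ∣ n := by
    rcases hn with hn | ⟨h2, hev, -⟩
    · exact (Dvd.intro_left _ (pow_succ r _).symm).trans hn
    · rw [h2]
      exact even_iff_two_dvd.mp hev
  by_cases hspecial : r = 2 ∧ Fintype.card F % 4 = 3
  · obtain ⟨h2, h4⟩ := hspecial
    refine ⟨-1, by norm_num, ?_, hrn, ?_⟩
    · intro b hb
      rw [h2] at hb
      have h5 : IsSquare (-1 : F) := ⟨b, by rw [← hb, pow_two]⟩
      exact (FiniteField.isSquare_neg_one_iff (F := F)).mp h5 h4
    · rw [h2]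
      norm_num
  · have hn' : r ^ (padicValNat r (Fintype.card F - 1) + 1) ∣ n := by
      rcases hn with hn | ⟨h2, -, h4⟩
      · exact hn
      · exact absurd ⟨h2, h4⟩ hspecial
    obtain ⟨c₀, hc0, hcp, hco⟩ := exists_not_pow (F := F) r hr h
    have hpow : c₀ ^ (n / r) = 1 := by
      obtain ⟨t, ht⟩ := hn'
      have h6 : n / r = r ^ padicValNat r (Fintype.card F - 1) * t := by
        rw [ht, pow_succ, mul_comm (r ^ _) r, mul_assoc, Nat.mul_div_cancel_left _ hr.pos]
      rw [h6, pow_mul, hco, one_pow]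
    by_cases h2 : r = 2
    · have h4 : Fintype.card F % 4 ≠ 3 := fun h4 => hspecial ⟨h2, h4⟩
      obtain ⟨s, hs⟩ := (FiniteField.isSquare_neg_one_iff (F := F)).mpr h4
      refine ⟨-c₀, neg_ne_zero.mpr hc0, ?_, hrn, ?_⟩
      · intro b hb
        apply hcp (s * b)
        rw [mul_pow, hb, h2, pow_two, ← hs]
        norm_num
      · have h7 : (-1 : F) ^ (r + 1) * -c₀ = c₀ := by
          rw [h2]
          norm_num
        rw [h7, hpow]
    · refine ⟨c₀, hc0, hcp, hrn, ?_⟩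
      rw [neg_one_pow_succ_of_odd r hr h2, one_mul, hpow]

end Cfsg.Agent.helper29.EL
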