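import Mathlib

set_option autoImplicit false
set_option linter.unusedSectionVars false
set_option linter.unusedVariables false
namespace Cfsg.Agent.helper29.EL

theorem sigma_sub_ext {α β : Type*} {P : α → β → Prop} (a₁ a₂ : α) (x₁ x₂ : β)
    (h₁ : P a₁ x₁) (h₂ : P a₂ x₂) (ha : a₁ = a₂) (hx : x₁ = x₂) :
    (⟨a₁, ⟨x₁, h₁⟩⟩ : Σ a : α, {x : β // P a x}) = ⟨a₂, ⟨x₂, h₂⟩⟩ := by
  subst ha
  subst hx
  rfl

section Count

variable {F : Type*} [Field F] [Fintype F] {V : Type*} [AddCommGroup V] [Module F V] [Finite V]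

/-- the number of `m`-dimensional subspaces times the number of bases of an `m`-space is the
number of linearly independent `m`-tuples -/
theorem card_subspaces_mul (m : ℕ) (hm : m ≤ Module.finrank F V) :
    Nat.card {W : Submodule F V // Module.finrank F W = m} *
        ∏ j : Fin m, (Fintype.card F ^ m - Fintype.card F ^ (j : ℕ)) =
      ∏ j : Fin m, (Fintype.card F ^ Module.finrank F V - Fintype.card F ^ (j : ℕ)) := by
  classical
  haveI : Module.Finite F V := Module.Finite.of_finite
  haveI : Finite (Submodule F V) := Finite.of_injective (fun p => (p : Set V)) SetLike.coe_injective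
  haveI : Fintype {W : Submodule F V // Module.finrank F W = m} := Fintype.ofFinite _
  have hS : Nat.card {s : Fin m → V // LinearIndependent F s} =
      ∏ j : Fin m, (Fintype.card F ^ Module.finrank F V - Fintype.card F ^ (j : ℕ)) :=
    card_linearIndependent hm
  have hspan : ∀ s : {s : Fin m → V // LinearIndependent F s},
      Module.finrank F (Submodule.span F (Set.range s.1)) = m := by
    intro s
    rw [finrank_span_eq_card s.2, Fintype.card_fin]
  obtain ⟨e0, -⟩ : ∃ e0 : {s : Fin m → V // LinearIndependent F s} ≃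
      Σ W : {W : Submodule F V // Module.finrank F W = m},
        {s : {s : Fin m → V // LinearIndependent F s} //
          Submodule.span F (Set.range s.1) = W.1}, True := by
    refine ⟨⟨fun s => ⟨⟨Submodule.span F (Set.range s.1), hspan s⟩, ⟨s, rfl⟩⟩,
      fun x => x.2.1, fun s => rfl, ?_⟩, trivial⟩
    rintro ⟨⟨W, hW⟩, ⟨s, hs⟩⟩
    exact sigma_sub_ext (P := fun (W : {W : Submodule F V // Module.finrank F W = m})
      (s : {s : Fin m → V // LinearIndependent F s}) =>
        Submodule.span F (Set.range s.1) = W.1) _ _ _ _ _ _ (Subtype.ext hs) rfl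
  have hfib : ∀ W : {W : Submodule F V // Module.finrank F W = m},
      Nat.card {s : {s : Fin m → V // LinearIndependent F s} //
          Submodule.span F (Set.range s.1) = W.1} =
        ∏ j : Fin m, (Fintype.card F ^ m - Fintype.card F ^ (j : ℕ)) := by
    rintro ⟨W, hW⟩
    have h1 := card_linearIndependent (K := F) (V := W) (k := m) (by rw [hW])
    rw [hW] at h1
    rw [← h1]
    apply Nat.card_congr
    refine ⟨fun x => ⟨fun k => ⟨x.1.1 k, ?_⟩, ?_⟩, fun y => ⟨⟨fun k => (y.1 k : V), ?_⟩, ?_⟩,
      ?_, ?_⟩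
    · have h2 : x.1.1 k ∈ Submodule.span F (Set.range x.1.1) :=
        Submodule.subset_span (Set.mem_range_self k)
      rw [x.2] at h2
      exact h2
    · apply LinearIndependent.of_comp W.subtype
      exact x.1.2
    · exact y.2.map' W.subtype (Submodule.ker_subtype W)
    · show Submodule.span F (Set.range fun k => (y.1 k : V)) = W
      apply Submodule.eq_of_le_of_finrank_eq
      · rw [Submodule.span_le]
        rintro _ ⟨k, rfl⟩
        exact (y.1 k).2
      · have h3 : LinearIndependent F (fun k => (y.1 k : V)) :=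
          y.2.map' W.subtype (Submodule.ker_subtype W)
        rw [finrank_span_eq_card h3, Fintype.card_fin, hW]
    · intro x
      rfl
    · intro y
      rfl
  rw [← hS, Nat.card_congr e0, Nat.card_sigma, Finset.sum_congr rfl (fun W _ => hfib W),
    Finset.sum_const, smul_eq_mul, Finset.card_univ, Nat.card_eq_fintype_card]

end Count

section Arith

theorem pow_sub_pow_eq (q n j : ℕ) (hj : j ≤ n) : q ^ n - q ^ j = q ^ j * (q ^ (n - j) - 1) := by
  obtain ⟨d, rfl⟩ : ∃ d, n = j + d := ⟨n - j, by omega⟩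
  rw [Nat.add_sub_cancel_left, pow_add, Nat.mul_sub, mul_one]

variable {F : Type*} [Field F] [Fintype F]

/-- a prime not dividing `q` that divides the number of `m`-subspaces divides some
`q ^ (n - j) - 1` with `j < m` -/
theorem exists_dvd_of_dvd_card_subspaces (n m : ℕ) (hm : m ≤ n) (r : ℕ) (hr : r.Prime)
    (hrq : ¬ r ∣ Fintype.card F)
    (h : r ∣ Nat.card {W : Submodule F (Fin n → F) // Module.finrank F W = m}) :
    ∃ j, j < m ∧ r ∣ Fintype.card F ^ (n - j) - 1 := by
  have h1 := card_subspaces_mul (F := F) (V := Fin n → F) m (by rw [Module.finrank_fin_fun]; exact hm)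
  rw [Module.finrank_fin_fun] at h1
  have h2 : r ∣ ∏ j : Fin m, (Fintype.card F ^ n - Fintype.card F ^ (j : ℕ)) := by
    rw [← h1]
    exact Dvd.dvd.mul_right h _
  obtain ⟨j, -, hj⟩ := (Prime.dvd_finsetProd_iff hr.prime _).mp h2
  refine ⟨j, j.2, ?_⟩
  rw [pow_sub_pow_eq _ n j (by have := j.2; omega)] at hj
  rcases hr.dvd_mul.mp hj with h3 | h3
  · exact absurd (hr.dvd_of_dvd_pow h3) hrq
  · exact h3

/-- the characteristic does not divide the number of `m`-subspaces -/
theorem not_char_dvd_card_subspaces (n m : ℕ) (hm : m ≤ n) (p : ℕ) (hp : p.Prime)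
    (hpq : p ∣ Fintype.card F) :
    ¬ p ∣ Nat.card {W : Submodule F (Fin n → F) // Module.finrank F W = m} := by
  intro h
  have hq0 : 0 < Fintype.card F := Fintype.card_pos
  have h1 := card_subspaces_mul (F := F) (V := Fin n → F) m (by rw [Module.finrank_fin_fun]; exact hm)
  rw [Module.finrank_fin_fun] at h1
  have e1 : ∀ k, m ≤ k → ∏ j : Fin m, (Fintype.card F ^ k - Fintype.card F ^ (j : ℕ)) =
      (∏ j : Fin m, Fintype.card F ^ (j : ℕ)) * ∏ j : Fin m, (Fintype.card F ^ (k - j) - 1) := by
    intro k hk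
    rw [← Finset.prod_mul_distrib]
    apply Finset.prod_congr rfl
    intro j _
    exact pow_sub_pow_eq _ k j (by have := j.2; omega)
  rw [e1 m le_rfl, e1 n hm, ← mul_assoc, mul_comm _ (∏ j : Fin m, Fintype.card F ^ (j : ℕ)),
    mul_assoc] at h1
  have hpos : 0 < ∏ j : Fin m, Fintype.card F ^ (j : ℕ) :=
    Finset.prod_pos (fun j _ => pow_pos hq0 _)
  have h2 := Nat.eq_of_mul_eq_mul_left hpos h1
  have h3 : p ∣ ∏ j : Fin m, (Fintype.card F ^ (n - j) - 1) := by
    rw [← h2]
    exact Dvd.dvd.mul_right h _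
  obtain ⟨j, -, hj⟩ := (Prime.dvd_finsetProd_iff hp.prime _).mp h3
  have hnj : 1 ≤ n - (j : ℕ) := by have := j.2; omega
  have h4 : p ∣ Fintype.card F ^ (n - (j : ℕ)) := Dvd.dvd.trans hpq (dvd_pow_self _ (by omega))
  have h5 : 1 ≤ Fintype.card F ^ (n - (j : ℕ)) := Nat.one_le_pow _ _ hq0
  have h6 : p ∣ 1 := by
    have : Fintype.card F ^ (n - (j : ℕ)) = (Fintype.card F ^ (n - (j : ℕ)) - 1) + 1 := by omega
    rw [this] at h4
    exact (Nat.dvd_add_right hj).mp h4
  exact hp.one_lt.ne' (Nat.dvd_one.mp h6)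

end Arith

end Cfsg.Agent.helper29.EL
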