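import Mathlib
import Cfsg.Agent.Lib_helper29_EL3
import Cfsg.Agent.Lib_helper29_EL4
import Cfsg.Agent.Lib_helper29_EL6

set_option autoImplicit false
set_option linter.unusedSectionVars false
set_option linter.unusedVariables false
namespace Cfsg.Agent.helper29.EL
open Polynomial Cfsg.Agent.helper25.SSimple

theorem toLin'_pow_eq {F : Type*} [Field F] {n : ℕ} (M : Matrix (Fin n) (Fin n) F) (r : ℕ) (c : F)
    (h : M ^ r = c • (1 : Matrix (Fin n) (Fin n) F)) :
    (Matrix.toLin' M) ^ r = c • (1 : Module.End F (Fin n → F)) := by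
  show (Matrix.toLinAlgEquiv' M) ^ r = _
  rw [← map_pow, h, map_smul, map_one]

theorem scalar_ne_zero_of_SL {F : Type*} [Field F] {n : ℕ} (hn : 0 < n)
    (y : Matrix.SpecialLinearGroup (Fin n) F) (c : F)
    (h : (y : Matrix (Fin n) (Fin n) F) = c • (1 : Matrix (Fin n) (Fin n) F)) : c ≠ 0 := by
  rintro rfl
  have h1 : (y : Matrix (Fin n) (Fin n) F).det = 1 := y.2
  haveI : Nonempty (Fin n) := ⟨⟨0, hn⟩⟩
  rw [h, zero_smul, Matrix.det_zero] at h1
  exact zero_ne_one h1

/-- the elusivity criterion for the action of `SL_n(q)` on `m`-subspaces -/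
theorem elusive_iff {F : Type*} [Field F] [Fintype F] {p : ℕ} [Fact p.Prime] [CharP F p] {q : ℕ}
    (hq : Fintype.card F = q) (n m : ℕ) (hn : 2 ≤ n) (hm : 1 ≤ m) (hmn : 2 * m ≤ n)
    (r : ℕ) [Fact r.Prime]
    (hrΩ : r ∣ Nat.card {W : Submodule F (Fin n → F) // Module.finrank F ↥W = m}) :
    (∀ x : Matrix.SpecialLinearGroup (Fin n) F,
      (∃ c : F, ((x ^ r : Matrix.SpecialLinearGroup (Fin n) F) : Matrix (Fin n) (Fin n) F) =
        c • (1 : Matrix (Fin n) (Fin n) F)) →
      (∀ c : F, (x : Matrix (Fin n) (Fin n) F) ≠ c • (1 : Matrix (Fin n) (Fin n) F)) →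
      ∃ W : Submodule F (Fin n → F), Module.finrank F ↥W = m ∧
        W.map (Matrix.toLin' (x : Matrix (Fin n) (Fin n) F)) ≤ W) ↔
    (r ≠ p ∧
      ((orderOf (q : ZMod r) = 1 ∧ (r ∣ m ∨ (padicValNat r n ≤ padicValNat r (q - 1) ∧
          (r = 2 → Even n → q % 4 = 1)))) ∨
       (2 ≤ orderOf (q : ZMod r) ∧ orderOf (q : ZMod r) ≤ m ∧
          m % orderOf (q : ZMod r) ≤ n % orderOf (q : ZMod r)))) := by
  classical
  subst hq
  have hp : p.Prime := Fact.out
  have hr : r.Prime := Fact.out
  have hpq : p ∣ Fintype.card F := (CharP.cast_eq_zero_iff F p _).mp (Nat.cast_card_eq_zero F)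
  by_cases hrp : r = p
  · exfalso
    rw [hrp] at hrΩ
    exact not_char_dvd_card_subspaces n m (by omega) p hp hpq hrΩ
  have hrq : ¬ r ∣ Fintype.card F := by
    intro h
    obtain ⟨f, -, hf⟩ := FiniteField.card F p
    rw [hf] at h
    exact hrp ((Nat.prime_dvd_prime_iff_eq hr hp).mp (hr.dvd_of_dvd_pow h))
  have hq1 : 1 ≤ Fintype.card F := Fintype.card_pos
  obtain ⟨j, hjm, hj⟩ := exists_dvd_of_dvd_card_subspaces n m (by omega) r hr hrq hrΩ
  have hidvd : orderOf ((Fintype.card F : ℕ) : ZMod r) ∣ n - j := by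
    apply orderOf_dvd_of_pow_eq_one
    have h1 : ((Fintype.card F ^ (n - j) - 1 : ℕ) : ZMod r) = 0 :=
      (ZMod.natCast_eq_zero_iff _ _).mpr hj
    have h2 : 1 ≤ Fintype.card F ^ (n - j) := Nat.one_le_pow _ _ hq1
    rw [Nat.cast_sub h2, Nat.cast_pow, Nat.cast_one, sub_eq_zero] at h1
    exact h1
  have hnj : 0 < n - j := by omega
  have hipos : 1 ≤ orderOf ((Fintype.card F : ℕ) : ZMod r) := Nat.pos_of_dvd_of_pos hidvd hnj
  have hile : orderOf ((Fintype.card F : ℕ) : ZMod r) ≤ n :=
    (Nat.le_of_dvd hnj hidvd).trans (Nat.sub_le _ _)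
  have hrF : (r : F) ≠ 0 := by
    rw [Ne, CharP.cast_eq_zero_iff F p]
    intro h
    exact hrp ((Nat.prime_dvd_prime_iff_eq hp hr).mp h).symm
  have hfr : Module.finrank F (Fin n → F) = n := Module.finrank_fin_fun F
  have hc0 : ∀ (x : Matrix.SpecialLinearGroup (Fin n) F) (c : F),
      ((x ^ r : Matrix.SpecialLinearGroup (Fin n) F) : Matrix (Fin n) (Fin n) F) =
        c • (1 : Matrix (Fin n) (Fin n) F) → c ≠ 0 :=
    fun x c hx => scalar_ne_zero_of_SL (by omega) (x ^ r) c hx
  have hpowf : ∀ (x : Matrix.SpecialLinearGroup (Fin n) F) (c : F),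
      ((x ^ r : Matrix.SpecialLinearGroup (Fin n) F) : Matrix (Fin n) (Fin n) F) =
        c • (1 : Matrix (Fin n) (Fin n) F) →
      (Matrix.toLin' (x : Matrix (Fin n) (Fin n) F)) ^ r = c • (1 : Module.End F (Fin n → F)) := by
    intro x c hx
    apply toLin'_pow_eq
    rw [← Matrix.SpecialLinearGroup.coe_pow]
    exact hx
  have halpha : ∀ (x : Matrix.SpecialLinearGroup (Fin n) F) (l : F),
      ((x ^ r : Matrix.SpecialLinearGroup (Fin n) F) : Matrix (Fin n) (Fin n) F) =
        (l ^ r) • (1 : Matrix (Fin n) (Fin n) F) →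
      m % orderOf ((Fintype.card F : ℕ) : ZMod r) ≤ n % orderOf ((Fintype.card F : ℕ) : ZMod r) →
      ∃ W : Submodule F (Fin n → F), Module.finrank F ↥W = m ∧
        W.map (Matrix.toLin' (x : Matrix (Fin n) (Fin n) F)) ≤ W := by
    intro x l hx hmod
    have hl : l ≠ 0 := by
      have := hc0 x _ hx
      intro h
      rw [h, zero_pow hr.ne_zero] at this
      exact this rfl
    obtain ⟨W, hW, hWd⟩ := exists_invt_of_pow_eq_pow rfl r hrp
      (Matrix.toLin' (x : Matrix (Fin n) (Fin n) F)) l hl (hpowf x _ hx) hipos n m hfr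
      (by omega) hmod
    refine ⟨W, hWd, ?_⟩
    rintro _ ⟨v, hv, rfl⟩
    exact hW v hv
  by_cases hi1 : orderOf ((Fintype.card F : ℕ) : ZMod r) = 1
  · have hdvd : r ∣ Fintype.card F - 1 := (orderOf_eq_one_iff_dvd _ r hq1).mp hi1
    have hn0 : n ≠ 0 := by omega
    constructor
    · intro hL
      refine ⟨hrp, Or.inl ⟨hi1, ?_⟩⟩
      by_cases hrm : r ∣ m
      · left
        exact hrm
      right
      by_contra hcon
      have hback : r ^ (padicValNat r (Fintype.card F - 1) + 1) ∣ n ∨
          (r = 2 ∧ Even n ∧ Fintype.card F % 4 = 3) := by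
        rw [not_and_or] at hcon
        rcases hcon with h | h
        · left
          rw [padicValNat_dvd_iff_le hn0]
          omega
        · right
          push_neg at h
          obtain ⟨h2, hev, h4⟩ := h
          refine ⟨h2, hev, ?_⟩
          obtain ⟨t, ht⟩ := hdvd
          rw [h2] at ht
          omega
      obtain ⟨c, hcne, hc, hrn, hdet⟩ := beta_backward (F := F) r hr hdvd n hback
      obtain ⟨x, hx1, hx2, hx3⟩ := exists_derangement_one (p := p) n (by omega) r hrp c hcne hc hrn hdet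
      obtain ⟨W, hWd, hWi⟩ := hL x ⟨c, hx1⟩ hx2
      have := hx3 W (fun v hv => hWi (Submodule.mem_map_of_mem hv))
      rw [hWd] at this
      exact hrm this
    · rintro ⟨-, hA | hB⟩
      swap
      · omega
      obtain ⟨-, hcond⟩ := hA
      rintro x ⟨c, hx⟩ hns
      have hcne : c ≠ 0 := hc0 x c hx
      by_cases hcpow : ∃ l : F, l ^ r = c
      · obtain ⟨l, rfl⟩ := hcpow
        apply halpha x l hx
        rw [hi1, Nat.mod_one, Nat.mod_one]
      · push_neg at hcpow
        obtain ⟨k, hnk, hcp, hex⟩ := beta_analysis r hr hrF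
          (Matrix.toLin' (x : Matrix (Fin n) (Fin n) F)) c hcne hcpow (hpowf x c hx) n hfr
        have hexm : r ∣ m → ∃ W : Submodule F (Fin n → F), Module.finrank F ↥W = m ∧
            W.map (Matrix.toLin' (x : Matrix (Fin n) (Fin n) F)) ≤ W := by
          intro hrm
          obtain ⟨W, hW, hWd⟩ := hex m hrm (by omega)
          refine ⟨W, hWd, ?_⟩
          rintro _ ⟨v, hv, rfl⟩
          exact hW v hv
        rcases hcond with hrm | ⟨hv, h2⟩
        · exact hexm hrm
        · exfalso
          rw [Matrix.charpoly_toLin'] at hcp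
          have hdet : (x : Matrix (Fin n) (Fin n) F).det = ((-1 : F) ^ (r + 1) * c) ^ k :=
            det_of_charpoly_pow _ r k hr.ne_zero c hnk hcp
          have hx1 : (x : Matrix (Fin n) (Fin n) F).det = 1 := x.2
          rw [hx1] at hdet
          rcases beta_forward (F := F) r hr hdvd c hcne hcpow k hdet.symm with h | ⟨h, h4⟩
          · rw [← hnk, padicValNat_dvd_iff_le hn0] at h
            omega
          · have hev : Even n := by
              rw [hnk, h]
              exact even_two_mul k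
            have := h2 h hev
            omega
  · have hi2 : 2 ≤ orderOf ((Fintype.card F : ℕ) : ZMod r) := by omega
    have hnd : ¬ r ∣ Fintype.card F - 1 := fun h => hi1 ((orderOf_eq_one_iff_dvd _ r hq1).mpr h)
    constructor
    · intro hL
      refine ⟨hrp, Or.inr ⟨hi2, ?_⟩⟩
      by_contra hcon
      have hmod : n % orderOf ((Fintype.card F : ℕ) : ZMod r) <
          m % orderOf ((Fintype.card F : ℕ) : ZMod r) := by
        by_cases him : orderOf ((Fintype.card F : ℕ) : ZMod r) ≤ m
        · by_contra hlt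
          exact hcon ⟨him, by omega⟩
        · obtain ⟨t, ht⟩ := hidvd
          have hnjt : n = j + orderOf ((Fintype.card F : ℕ) : ZMod r) * t := by omega
          rw [hnjt, Nat.add_mul_mod_self_left, Nat.mod_eq_of_lt (by omega), Nat.mod_eq_of_lt (by omega)]
          exact hjm
      obtain ⟨x, hx1, hx2, hx3⟩ := exists_derangement_two (p := p) (F := F) rfl n r hrp hi2 hile
      obtain ⟨W, hWd, hWi⟩ := hL x ⟨1, hx1⟩ hx2
      have := hx3 W (fun v hv => hWi (Submodule.mem_map_of_mem hv))
      rw [hWd] at this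
      omega
    · rintro ⟨-, hA | hB⟩
      · exact absurd hA.1 hi1
      obtain ⟨-, -, hmod⟩ := hB
      rintro x ⟨c, hx⟩ hns
      obtain ⟨l, rfl⟩ := exists_pow_eq_of_not_dvd r hr hnd c
      exact halpha x l hx hmod

end Cfsg.Agent.helper29.EL
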