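import Mathlib
import Cfsg.Agent.Lib_helper29_EL3

set_option autoImplicit false
set_option linter.unusedSectionVars false
set_option linter.unusedVariables false
namespace Cfsg.Agent.helper29.EL

/-- the product of `q ^ j - 1` for `1 ≤ j ≤ k` -/
def Qf (q k : ℕ) : ℕ := ∏ j ∈ Finset.range k, (q ^ (j + 1) - 1)

theorem Qf_zero (q : ℕ) : Qf q 0 = 1 := Finset.prod_range_zero _

theorem Qf_succ (q k : ℕ) : Qf q (k + 1) = Qf q k * (q ^ (k + 1) - 1) :=
  Finset.prod_range_succ _ _

theorem Qf_pos (q k : ℕ) (hq : 2 ≤ q) : 0 < Qf q k := by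
  apply Finset.prod_pos
  intro j _
  have : 1 < q ^ (j + 1) := Nat.one_lt_pow (by omega) (by omega)
  omega

theorem prod_mul_Qf (q : ℕ) (k : ℕ) : ∀ d : ℕ,
    (∏ j ∈ Finset.range k, (q ^ (k + d) - q ^ j)) * Qf q d =
      (∏ j ∈ Finset.range k, q ^ j) * Qf q (k + d) := by
  induction k with
  | zero =>
    intro d
    rw [Finset.prod_range_zero, Finset.prod_range_zero, Nat.zero_add]
  | succ k ih =>
    intro d
    have h1 : k + 1 + d = k + (d + 1) := by omega
    rw [Finset.prod_range_succ, Finset.prod_range_succ, h1,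
      pow_sub_pow_eq q (k + (d + 1)) k (by omega), Nat.add_sub_cancel_left]
    have h2 := ih (d + 1)
    rw [Qf_succ] at h2
    calc (∏ j ∈ Finset.range k, (q ^ (k + (d + 1)) - q ^ j)) * (q ^ k * (q ^ (d + 1) - 1)) * Qf q d
        = ((∏ j ∈ Finset.range k, (q ^ (k + (d + 1)) - q ^ j)) *
            (Qf q d * (q ^ (d + 1) - 1))) * q ^ k := by ring
      _ = ((∏ j ∈ Finset.range k, q ^ j) * Qf q (k + (d + 1))) * q ^ k := by rw [h2]
      _ = (∏ j ∈ Finset.range k, q ^ j) * q ^ k * Qf q (k + (d + 1)) := by ring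

section Count

variable {F : Type*} [Field F] [Fintype F] {V : Type*} [AddCommGroup V] [Module F V] [Finite V]

/-- the Gaussian binomial identity `N_k(V) * [k]! * [d]! = [k + d]!` -/
theorem card_subspaces_Qf (k d : ℕ) (hV : Module.finrank F V = k + d) :
    Nat.card {W : Submodule F V // Module.finrank F W = k} * Qf (Fintype.card F) k *
      Qf (Fintype.card F) d = Qf (Fintype.card F) (k + d) := by
  have hq : 0 < Fintype.card F := Fintype.card_pos
  have h0 := card_subspaces_mul (F := F) (V := V) k (by omega)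
  rw [hV, Fin.prod_univ_eq_prod_range (fun j => Fintype.card F ^ k - Fintype.card F ^ j) k,
    Fin.prod_univ_eq_prod_range (fun j => Fintype.card F ^ (k + d) - Fintype.card F ^ j) k] at h0
  have h1 := prod_mul_Qf (Fintype.card F) k 0
  rw [Qf_zero, mul_one, Nat.add_zero] at h1
  have h2 := prod_mul_Qf (Fintype.card F) k d
  have hG : 0 < ∏ j ∈ Finset.range k, Fintype.card F ^ j :=
    Finset.prod_pos (fun j _ => pow_pos hq _)
  apply Nat.eq_of_mul_eq_mul_left hG
  calc (∏ j ∈ Finset.range k, Fintype.card F ^ j) *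
        (Nat.card {W : Submodule F V // Module.finrank F W = k} * Qf (Fintype.card F) k *
          Qf (Fintype.card F) d)
      = Nat.card {W : Submodule F V // Module.finrank F W = k} *
          ((∏ j ∈ Finset.range k, Fintype.card F ^ j) * Qf (Fintype.card F) k) *
          Qf (Fintype.card F) d := by ring
    _ = (∏ j ∈ Finset.range k, Fintype.card F ^ j) * Qf (Fintype.card F) (k + d) := by
        rw [← h1, h0, h2]

/-- the number of flags `U ≤ W` of dimensions `m` and `n - m` -/
theorem card_flags_Qf (n m : ℕ) (hmn : 2 * m ≤ n) (hV : Module.finrank F V = n) :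
    Nat.card {P : Submodule F V × Submodule F V //
        P.1 ≤ P.2 ∧ Module.finrank F P.1 = m ∧ Module.finrank F P.2 = n - m} *
      (Qf (Fintype.card F) m * Qf (Fintype.card F) m * Qf (Fintype.card F) (n - 2 * m)) =
      Qf (Fintype.card F) n := by
  classical
  haveI : Module.Finite F V := Module.Finite.of_finite
  haveI : Finite (Submodule F V) := Finite.of_injective (fun p => (p : Set V)) SetLike.coe_injective
  haveI : Fintype {W : Submodule F V // Module.finrank F W = n - m} := Fintype.ofFinite _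
  obtain ⟨π, hπ⟩ : ∃ π : {P : Submodule F V × Submodule F V //
        P.1 ≤ P.2 ∧ Module.finrank F P.1 = m ∧ Module.finrank F P.2 = n - m} →
      {W : Submodule F V // Module.finrank F W = n - m}, ∀ x, (π x).1 = x.1.2 :=
    ⟨fun x => ⟨x.1.2, x.2.2.2⟩, fun x => rfl⟩
  have hfib : ∀ W : {W : Submodule F V // Module.finrank F W = n - m},
      Nat.card {x // π x = W} * (Qf (Fintype.card F) m * Qf (Fintype.card F) (n - 2 * m)) =
        Qf (Fintype.card F) (n - m) := by
    rintro ⟨W, hW⟩
    have h1 := card_subspaces_Qf (F := F) (V := W) m (n - 2 * m) (by rw [hW]; omega)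
    have h2 : m + (n - 2 * m) = n - m := by omega
    rw [h2, mul_assoc] at h1
    rw [← h1]
    congr 1
    apply Nat.card_congr
    refine ⟨fun x => ⟨Submodule.comap W.subtype x.1.1.1, ?_⟩,
      fun U' => ⟨⟨(Submodule.map W.subtype U'.1, W), ?_, ?_, hW⟩, ?_⟩, ?_, ?_⟩
    · have hx : x.1.1.2 = W := by
        have := congrArg Subtype.val x.2
        rw [hπ] at this
        exact this
      have hle : x.1.1.1 ≤ W := le_of_le_of_eq x.1.2.1 hx
      rw [(Submodule.comapSubtypeEquivOfLe hle).finrank_eq]
      exact x.1.2.2.1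
    · exact Submodule.map_subtype_le W U'.1
    · rw [← (Submodule.equivSubtypeMap W U'.1).finrank_eq]
      exact U'.2
    · apply Subtype.ext
      rw [hπ]
    · intro x
      have hx : x.1.1.2 = W := by
        have := congrArg Subtype.val x.2
        rw [hπ] at this
        exact this
      have hle : x.1.1.1 ≤ W := le_of_le_of_eq x.1.2.1 hx
      apply Subtype.ext
      apply Subtype.ext
      apply Prod.ext
      · show Submodule.map W.subtype (Submodule.comap W.subtype x.1.1.1) = x.1.1.1
        rw [Submodule.map_comap_subtype]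
        exact inf_eq_right.mpr hle
      · exact hx.symm
    · intro U'
      apply Subtype.ext
      show Submodule.comap W.subtype (Submodule.map W.subtype U'.1) = U'.1
      exact Submodule.comap_map_eq_of_injective W.injective_subtype U'.1
  have hsum : Nat.card {P : Submodule F V × Submodule F V //
        P.1 ≤ P.2 ∧ Module.finrank F P.1 = m ∧ Module.finrank F P.2 = n - m} =
      ∑ W : {W : Submodule F V // Module.finrank F W = n - m}, Nat.card {x // π x = W} := by
    rw [← Nat.card_sigma]
    exact Nat.card_congr (Equiv.sigmaFiberEquiv π).symm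
  have h3 := card_subspaces_Qf (F := F) (V := V) (n - m) m (by rw [hV]; omega)
  have h4 : n - m + m = n := by omega
  rw [h4] at h3
  rw [← h3, hsum, Finset.sum_mul]
  have h5 : ∀ W : {W : Submodule F V // Module.finrank F W = n - m},
      Nat.card {x // π x = W} * (Qf (Fintype.card F) m * Qf (Fintype.card F) m *
        Qf (Fintype.card F) (n - 2 * m)) = Qf (Fintype.card F) (n - m) * Qf (Fintype.card F) m := by
    intro W
    rw [← hfib W]
    ring
  rw [Finset.sum_congr rfl (fun W _ => h5 W), Finset.sum_const, smul_eq_mul, Finset.card_univ,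
    Nat.card_eq_fintype_card, mul_assoc]

/-- a prime dividing the number of flags divides `q ^ k - 1` for some `n - 2 m < k ≤ n` -/
theorem exists_dvd_of_dvd_card_flags (n m : ℕ) (hmn : 2 * m ≤ n) (hV : Module.finrank F V = n)
    (r : ℕ) (hr : r.Prime)
    (h : r ∣ Nat.card {P : Submodule F V × Submodule F V //
        P.1 ≤ P.2 ∧ Module.finrank F P.1 = m ∧ Module.finrank F P.2 = n - m}) :
    ∃ k, n - 2 * m < k ∧ k ≤ n ∧ r ∣ Fintype.card F ^ k - 1 := by
  have hq2 : 2 ≤ Fintype.card F := Fintype.one_lt_card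
  have h1 := card_flags_Qf (F := F) (V := V) n m hmn hV
  have h2 : Qf (Fintype.card F) n = Qf (Fintype.card F) (n - 2 * m) *
      ∏ j ∈ Finset.Ico (n - 2 * m) n, (Fintype.card F ^ (j + 1) - 1) :=
    (Finset.prod_range_mul_prod_Ico _ (by omega)).symm
  have h4 : Nat.card {P : Submodule F V × Submodule F V //
        P.1 ≤ P.2 ∧ Module.finrank F P.1 = m ∧ Module.finrank F P.2 = n - m} *
      (Qf (Fintype.card F) m * Qf (Fintype.card F) m) =
      ∏ j ∈ Finset.Ico (n - 2 * m) n, (Fintype.card F ^ (j + 1) - 1) := by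
    apply Nat.eq_of_mul_eq_mul_left (Qf_pos (Fintype.card F) (n - 2 * m) hq2)
    rw [← h2, ← h1]
    ring
  have h5 : r ∣ ∏ j ∈ Finset.Ico (n - 2 * m) n, (Fintype.card F ^ (j + 1) - 1) := by
    rw [← h4]
    exact Dvd.dvd.mul_right h _
  obtain ⟨j, hj, hjr⟩ := (Prime.dvd_finsetProd_iff hr.prime _).mp h5
  rw [Finset.mem_Ico] at hj
  exact ⟨j + 1, by omega, by omega, hjr⟩

/-- the characteristic does not divide the number of flags -/
theorem not_char_dvd_card_flags (n m : ℕ) (hmn : 2 * m ≤ n) (hV : Module.finrank F V = n)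
    (p : ℕ) (hp : p.Prime) (hpq : p ∣ Fintype.card F) :
    ¬ p ∣ Nat.card {P : Submodule F V × Submodule F V //
        P.1 ≤ P.2 ∧ Module.finrank F P.1 = m ∧ Module.finrank F P.2 = n - m} := by
  intro h
  have hq2 : 2 ≤ Fintype.card F := Fintype.one_lt_card
  have h1 := card_flags_Qf (F := F) (V := V) n m hmn hV
  have h2 : p ∣ Qf (Fintype.card F) n := by
    rw [← h1]
    exact Dvd.dvd.mul_right h _
  obtain ⟨j, -, hj⟩ := (Prime.dvd_finsetProd_iff hp.prime _).mp h2
  have h3 : p ∣ Fintype.card F ^ (j + 1) := Dvd.dvd.mul_left hpq _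
  have h4 : 1 ≤ Fintype.card F ^ (j + 1) := Nat.one_le_pow _ _ (by omega)
  have h5 : Fintype.card F ^ (j + 1) = (Fintype.card F ^ (j + 1) - 1) + 1 := by omega
  rw [h5] at h3
  have h6 : p ∣ 1 := (Nat.dvd_add_right hj).mp h3
  exact hp.one_lt.ne' (Nat.dvd_one.mp h6)

end Count

end Cfsg.Agent.helper29.EL
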