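import Mathlib
import Cfsg.Agent.Lib_helper29_EL4
import Cfsg.Agent.Lib_helper29_EL7
import Cfsg.Agent.Lib_helper29_EL9
import Cfsg.Agent.Lib_helper29_EL11

set_option autoImplicit false
set_option linter.unusedSectionVars false
set_option linter.unusedVariables false
namespace Cfsg.Agent.helper29.EL
open Polynomial Cfsg.Agent.helper25.SSimple

/-- the elusivity criterion for the action of `SL_n(q)` on flags of type `(m, n - m)` -/
theorem elusive_flag_iff {F : Type*} [Field F] [Fintype F] {p : ℕ} [Fact p.Prime] [CharP F p]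
    {q : ℕ} (hq : Fintype.card F = q) (n m : ℕ) (hn : 2 ≤ n) (hm : 1 ≤ m) (hmn : 2 * m < n)
    (r : ℕ) [Fact r.Prime]
    (hrΩ : r ∣ Nat.card {P : Submodule F (Fin n → F) × Submodule F (Fin n → F) //
        P.1 ≤ P.2 ∧ Module.finrank F ↥P.1 = m ∧ Module.finrank F ↥P.2 = n - m}) :
    (∀ x : Matrix.SpecialLinearGroup (Fin n) F,
      (∃ c : F, ((x ^ r : Matrix.SpecialLinearGroup (Fin n) F) : Matrix (Fin n) (Fin n) F) =
        c • (1 : Matrix (Fin n) (Fin n) F)) →
      (∀ c : F, (x : Matrix (Fin n) (Fin n) F) ≠ c • (1 : Matrix (Fin n) (Fin n) F)) →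
      ∃ U W : Submodule F (Fin n → F), U ≤ W ∧ Module.finrank F ↥U = m ∧
        Module.finrank F ↥W = n - m ∧
        U.map (Matrix.toLin' (x : Matrix (Fin n) (Fin n) F)) ≤ U ∧
        W.map (Matrix.toLin' (x : Matrix (Fin n) (Fin n) F)) ≤ W) ↔
    (r ≠ p ∧
      ((orderOf (q : ZMod r) = 1 ∧ (r ∣ m ∨ (padicValNat r n ≤ padicValNat r (q - 1) ∧
          (r = 2 → Even n → q % 4 = 1)))) ∨
       (2 ≤ orderOf (q : ZMod r) ∧ orderOf (q : ZMod r) ≤ m ∧
          2 * (m % orderOf (q : ZMod r)) ≤ n % orderOf (q : ZMod r)))) := by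
  classical
  subst hq
  have hp : p.Prime := Fact.out
  have hr : r.Prime := Fact.out
  have hpq : p ∣ Fintype.card F := (CharP.cast_eq_zero_iff F p _).mp (Nat.cast_card_eq_zero F)
  have hfr : Module.finrank F (Fin n → F) = n := Module.finrank_fin_fun F
  by_cases hrp : r = p
  · exfalso
    rw [hrp] at hrΩ
    exact not_char_dvd_card_flags (F := F) (V := Fin n → F) n m (by omega) hfr p hp hpq hrΩ
  have hq1 : 1 ≤ Fintype.card F := Fintype.card_pos
  obtain ⟨k, hk1, hk2, hk⟩ := exists_dvd_of_dvd_card_flags (F := F) (V := Fin n → F) n m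
    (by omega) hfr r hr hrΩ
  have hidvd : orderOf ((Fintype.card F : ℕ) : ZMod r) ∣ k := by
    apply orderOf_dvd_of_pow_eq_one
    have h1 : ((Fintype.card F ^ k - 1 : ℕ) : ZMod r) = 0 :=
      (ZMod.natCast_eq_zero_iff _ _).mpr hk
    have h2 : 1 ≤ Fintype.card F ^ k := Nat.one_le_pow _ _ hq1
    rw [Nat.cast_sub h2, Nat.cast_pow, Nat.cast_one, sub_eq_zero] at h1
    exact h1
  have hk0 : 0 < k := by omega
  have hipos : 1 ≤ orderOf ((Fintype.card F : ℕ) : ZMod r) := Nat.pos_of_dvd_of_pos hidvd hk0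
  have hile : orderOf ((Fintype.card F : ℕ) : ZMod r) ≤ n := (Nat.le_of_dvd hk0 hidvd).trans hk2
  have hrF : (r : F) ≠ 0 := by
    rw [Ne, CharP.cast_eq_zero_iff F p]
    intro h
    exact hrp ((Nat.prime_dvd_prime_iff_eq hp hr).mp h).symm
  have hc0 : ∀ (x : Matrix.SpecialLinearGroup (Fin n) F) (c : F),
      ((x ^ r : Matrix.SpecialLinearGroup (Fin n) F) : Matrix (Fin n) (Fin n) F) =
        c • (1 : Matrix (Fin n) (Fin n) F) → c ≠ 0 :=
    fun x c hx => scalar_ne_zero_of_SL (by omega) (x ^ r) c hx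
  have hpowf : ∀ (x : Matrix.SpecialLinearGroup (Fin n) F) (c : F),
      ((x ^ r : Matrix.SpecialLinearGroup (Fin n) F) : Matrix (Fin n) (Fin n) F) =
        c • (1 : Matrix (Fin n) (Fin n) F) →
      (Matrix.toLin' (x : Matrix (Fin n) (Fin n) F)) ^ r = c • (1 : Module.End F (Fin n → F)) := by
    intro x c hx
    apply toLin'_pow_eq
    rw [← Matrix.SpecialLinearGroup.coe_pow]
    exact hx
  have hconv : ∀ (x : Matrix.SpecialLinearGroup (Fin n) F),
      (∃ U W : Submodule F (Fin n → F), U ≤ W ∧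
        (∀ v ∈ U, Matrix.toLin' (x : Matrix (Fin n) (Fin n) F) v ∈ U) ∧
        (∀ v ∈ W, Matrix.toLin' (x : Matrix (Fin n) (Fin n) F) v ∈ W) ∧
        Module.finrank F U = m ∧ Module.finrank F W = n - m) →
      ∃ U W : Submodule F (Fin n → F), U ≤ W ∧ Module.finrank F ↥U = m ∧
        Module.finrank F ↥W = n - m ∧
        U.map (Matrix.toLin' (x : Matrix (Fin n) (Fin n) F)) ≤ U ∧
        W.map (Matrix.toLin' (x : Matrix (Fin n) (Fin n) F)) ≤ W := by
    rintro x ⟨U, W, hUW, hU, hW, hUd, hWd⟩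
    refine ⟨U, W, hUW, hUd, hWd, ?_, ?_⟩
    · rintro _ ⟨v, hv, rfl⟩
      exact hU v hv
    · rintro _ ⟨v, hv, rfl⟩
      exact hW v hv
  have halpha : ∀ (x : Matrix.SpecialLinearGroup (Fin n) F) (l : F),
      ((x ^ r : Matrix.SpecialLinearGroup (Fin n) F) : Matrix (Fin n) (Fin n) F) =
        (l ^ r) • (1 : Matrix (Fin n) (Fin n) F) →
      2 * (m % orderOf ((Fintype.card F : ℕ) : ZMod r)) ≤
        n % orderOf ((Fintype.card F : ℕ) : ZMod r) →
      ∃ U W : Submodule F (Fin n → F), U ≤ W ∧ Module.finrank F ↥U = m ∧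
        Module.finrank F ↥W = n - m ∧
        U.map (Matrix.toLin' (x : Matrix (Fin n) (Fin n) F)) ≤ U ∧
        W.map (Matrix.toLin' (x : Matrix (Fin n) (Fin n) F)) ≤ W := by
    intro x l hx hmod
    have hl : l ≠ 0 := by
      have := hc0 x _ hx
      intro h
      rw [h, zero_pow hr.ne_zero] at this
      exact this rfl
    apply hconv
    exact exists_flag_of_pow_eq_pow rfl r hrp
      (Matrix.toLin' (x : Matrix (Fin n) (Fin n) F)) l hl (hpowf x _ hx) hipos n m hfr
      (by omega) hmod
  by_cases hi1 : orderOf ((Fintype.card F : ℕ) : ZMod r) = 1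
  · have hdvd : r ∣ Fintype.card F - 1 := (orderOf_eq_one_iff_dvd _ r hq1).mp hi1
    have hn0 : n ≠ 0 := by omega
    constructor
    · intro hL
      refine ⟨hrp, Or.inl ⟨hi1, ?_⟩⟩
      by_cases hrm : r ∣ m
      · left
        exact hrm
      right
      by_contra hcon
      have hback : r ^ (padicValNat r (Fintype.card F - 1) + 1) ∣ n ∨
          (r = 2 ∧ Even n ∧ Fintype.card F % 4 = 3) := by
        rw [not_and_or] at hcon
        rcases hcon with h | h
        · left
          rw [padicValNat_dvd_iff_le hn0]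
          omega
        · right
          push_neg at h
          obtain ⟨h2, hev, h4⟩ := h
          refine ⟨h2, hev, ?_⟩
          obtain ⟨t, ht⟩ := hdvd
          rw [h2] at ht
          omega
      obtain ⟨c, hcne, hc, hrn, hdet⟩ := beta_backward (F := F) r hr hdvd n hback
      obtain ⟨x, hx1, hx2, hx3⟩ := exists_derangement_one (p := p) n (by omega) r hrp c hcne hc hrn hdet
      obtain ⟨U, W, hUW, hUd, hWd, hUi, hWi⟩ := hL x ⟨c, hx1⟩ hx2
      have := hx3 U (fun v hv => hUi (Submodule.mem_map_of_mem hv))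
      rw [hUd] at this
      exact hrm this
    · rintro ⟨-, hA | hB⟩
      swap
      · omega
      obtain ⟨-, hcond⟩ := hA
      rintro x ⟨c, hx⟩ hns
      have hcne : c ≠ 0 := hc0 x c hx
      by_cases hcpow : ∃ l : F, l ^ r = c
      · obtain ⟨l, rfl⟩ := hcpow
        apply halpha x l hx
        rw [hi1, Nat.mod_one, Nat.mod_one]
      · push_neg at hcpow
        rcases hcond with hrm | ⟨hv, h2⟩
        · apply hconv
          exact beta_flag r hr hrF (Matrix.toLin' (x : Matrix (Fin n) (Fin n) F)) c hcne hcpow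
            (hpowf x c hx) n hfr m hrm (by omega)
        · exfalso
          obtain ⟨k', hnk, hcp, -⟩ := beta_analysis r hr hrF
            (Matrix.toLin' (x : Matrix (Fin n) (Fin n) F)) c hcne hcpow (hpowf x c hx) n hfr
          rw [Matrix.charpoly_toLin'] at hcp
          have hdet : (x : Matrix (Fin n) (Fin n) F).det = ((-1 : F) ^ (r + 1) * c) ^ k' :=
            det_of_charpoly_pow _ r k' hr.ne_zero c hnk hcp
          have hx1 : (x : Matrix (Fin n) (Fin n) F).det = 1 := x.2
          rw [hx1] at hdet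
          rcases beta_forward (F := F) r hr hdvd c hcne hcpow k' hdet.symm with h | ⟨h, h4⟩
          · rw [← hnk, padicValNat_dvd_iff_le hn0] at h
            omega
          · have hev : Even n := by
              rw [hnk, h]
              exact even_two_mul k'
            have := h2 h hev
            omega
  · have hi2 : 2 ≤ orderOf ((Fintype.card F : ℕ) : ZMod r) := by omega
    have hnd : ¬ r ∣ Fintype.card F - 1 := fun h => hi1 ((orderOf_eq_one_iff_dvd _ r hq1).mpr h)
    constructor
    · intro hL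
      refine ⟨hrp, Or.inr ⟨hi2, ?_⟩⟩
      obtain ⟨i, hi⟩ : ∃ i, i = orderOf ((Fintype.card F : ℕ) : ZMod r) := ⟨_, rfl⟩
      rw [← hi] at hi2 hidvd hile ⊢
      have hilt : n % i < i := Nat.mod_lt _ (by omega)
      -- the flag condition from the derangement
      have hflag : 2 * (m % i) ≤ n % i := by
        obtain ⟨x, hx1, hx2, hss, Q, hQ1, hQd, hcp⟩ :=
          exists_derangement_two' (p := p) (F := F) rfl n r hrp (by rw [← hi]; exact hi2)
            (by rw [← hi]; exact hile)
        rw [← hi] at hQd hcp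
        obtain ⟨U, W, hUW, hUd, hWd, hUi, hWi⟩ := hL x ⟨1, hx1⟩ hx2
        obtain ⟨a₁, b₁, a₃, b₃, ha, h1, h3⟩ := finrank_of_flag_two
          (Matrix.toLin' (x : Matrix (Fin n) (Fin n) F)) hss Q hQ1 (n % i) (n / i) hcp U W hUW
          (fun v hv => hUi (Submodule.mem_map_of_mem hv))
          (fun v hv => hWi (Submodule.mem_map_of_mem hv))
        rw [hUd, hQd] at h1
        rw [hfr, hWd, hQd] at h3
        have h3' : m = a₃ + b₃ * i := by omega
        have e1 : m % i = a₁ := by
          rw [h1, Nat.add_mul_mod_self_right, Nat.mod_eq_of_lt (by omega)]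
        have e3 : m % i = a₃ := by
          rw [h3', Nat.add_mul_mod_self_right, Nat.mod_eq_of_lt (by omega)]
        omega
      refine ⟨?_, hflag⟩
      by_contra him
      have hmi : m % i = m := Nat.mod_eq_of_lt (by omega)
      rw [hmi] at hflag
      obtain ⟨t, rfl⟩ := hidvd
      have h5 := Nat.div_add_mod n i
      have h6 : i * (n / i) < i * t := by omega
      have h7 : n / i < t := Nat.lt_of_mul_lt_mul_left h6
      have h8 : t ≤ n / i := (Nat.le_div_iff_mul_le (by omega)).mpr (by rw [mul_comm]; exact hk2)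
      omega
    · rintro ⟨-, hA | hB⟩
      · exact absurd hA.1 hi1
      obtain ⟨-, -, hmod⟩ := hB
      rintro x ⟨c, hx⟩ hns
      obtain ⟨l, rfl⟩ := exists_pow_eq_of_not_dvd r hr hnd c
      exact halpha x l hx hmod

end Cfsg.Agent.helper29.EL
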