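import Mathlib
import Cfsg.Agent.Lib_helper25_Jordan

set_option autoImplicit false
set_option linter.unusedSectionVars false
set_option linter.unusedVariables false
universe u
namespace Cfsg.Agent.helper29.JD
open Cfsg.Agent.helper25.Jordan

variable {F : Type*} [Field F]

/-- the multiset of block sizes over a sum type -/
theorem univ_map_sum_elim {ι ι' : Type} [Fintype ι] [Fintype ι'] (e : ι → ℕ) (e' : ι' → ℕ) :
    (Finset.univ : Finset (ι ⊕ ι')).val.map (Sum.elim e e') =
      (Finset.univ : Finset ι).val.map e + (Finset.univ : Finset ι').val.map e' := by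
  have h : (Finset.univ : Finset (ι ⊕ ι')).val =
      (Finset.univ : Finset ι).val.map Sum.inl + (Finset.univ : Finset ι').val.map Sum.inr := by
    rw [← Finset.univ_disjSum_univ]
    rfl
  rw [h, Multiset.map_add, Multiset.map_map, Multiset.map_map]
  rfl

/-- a Jordan model of an invariant direct sum from models of the summands -/
theorem model_sum {V : Type u} [AddCommGroup V] [Module F V] (f : Module.End F V)
    (P Q : Submodule F V) (hPQ : IsCompl P Q) (hP : ∀ v ∈ P, f v ∈ P) (hQ : ∀ v ∈ Q, f v ∈ Q)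
    {ι ι' : Type} (e : ι → ℕ) (e' : ι' → ℕ)
    (φ : P ≃ₗ[F] Md F e) (hφ : ∀ x : P, φ (f.restrict hP x) = shk e 1 (φ x))
    (φ' : Q ≃ₗ[F] Md F e') (hφ' : ∀ x : Q, φ' (f.restrict hQ x) = shk e' 1 (φ' x)) :
    ∃ Φ : V ≃ₗ[F] Md F (Sum.elim e e'), ∀ x, Φ (f x) = shk (Sum.elim e e') 1 (Φ x) := by
  let S : Md F (Sum.elim e e') ≃ₗ[F] (Md F e × Md F e') :=
    LinearEquiv.sumPiEquivProdPi F ι ι' (fun st => Fin (Sum.elim e e' st) → F)
  let Ψ : (P × Q) ≃ₗ[F] V := Submodule.prodEquivOfIsCompl P Q hPQ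
  refine ⟨(Ψ.symm.trans (φ.prodCongr φ')).trans S.symm, ?_⟩
  intro x
  obtain ⟨⟨a, b⟩, rfl⟩ := Ψ.surjective x
  have h1 : f (Ψ (a, b)) = Ψ (f.restrict hP a, f.restrict hQ b) := by
    show f ((a : V) + (b : V)) = ((f.restrict hP a : P) : V) + ((f.restrict hQ b : Q) : V)
    rw [map_add]
    rfl
  rw [h1]
  show S.symm ((φ.prodCongr φ') (Ψ.symm (Ψ _))) =
    shk _ 1 (S.symm ((φ.prodCongr φ') (Ψ.symm (Ψ _))))
  rw [LinearEquiv.symm_apply_apply, LinearEquiv.symm_apply_apply]
  show S.symm (φ (f.restrict hP a), φ' (f.restrict hQ b)) = shk _ 1 (S.symm (φ a, φ' b))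
  rw [hφ, hφ']
  funext st j
  rcases st with i | i'
  · rfl
  · rfl

/-- the rank of the `(p-1)`-st power counts the blocks of size `p` -/
theorem sum_sub_eq_count (μ : Multiset ℕ) (p : ℕ) (hp : 1 ≤ p) (h : ∀ b ∈ μ, b ≤ p) :
    (μ.map (fun b => b - (p - 1))).sum = μ.count p := by
  induction μ using Multiset.induction_on with
  | empty => simp
  | cons a s ih =>
    have ha : a ≤ p := h a (Multiset.mem_cons_self a s)
    have ih' := ih (fun b hb => h b (Multiset.mem_cons_of_mem hb))
    rw [Multiset.map_cons, Multiset.sum_cons, ih']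
    by_cases hap : a = p
    · rw [hap, Multiset.count_cons_self]
      omega
    · rw [Multiset.count_cons_of_ne (Ne.symm hap)]
      omega

/-- in characteristic `p`, `(M - 1)^(p-1)` is the sum of the first `p` powers of `M` -/
theorem sub_one_pow_pred {A : Type*} [Ring A] [Algebra F A] (p : ℕ) [Fact p.Prime] [CharP F p]
    (M : A) : (M - 1) ^ (p - 1) = ∑ i ∈ Finset.range p, M ^ i := by
  have hp : p.Prime := Fact.out
  have h : ((Polynomial.X : Polynomial F) - 1) ^ (p - 1) =
      ∑ i ∈ Finset.range p, (Polynomial.X : Polynomial F) ^ i := by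
    have hne : ((Polynomial.X : Polynomial F) - 1) ≠ 0 := by
      have := Polynomial.X_sub_C_ne_zero (1 : F)
      rwa [map_one] at this
    apply mul_left_cancel₀ hne
    rw [mul_geom_sum, ← pow_succ', Nat.sub_add_cancel hp.one_lt.le, sub_pow_char, one_pow]
  have h2 := congrArg (Polynomial.aeval M) h
  simpa using h2

/-- a vector of one summand that is minus a vector of the other summands vanishes -/
theorem indep_zero {V : Type*} [AddCommGroup V] [Module F V] {κ : Type*}
    (D : κ → Submodule F V) (hD : iSupIndep D) (j₀ : κ) (v w : V) (hv : v ∈ D j₀)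
    (hw : w ∈ ⨆ (k) (_ : k ≠ j₀), D k) (h : v + w = 0) : v = 0 := by
  have h1 : v = -w := eq_neg_of_add_eq_zero_left h
  have h2 : v ∈ ⨆ (k) (_ : k ≠ j₀), D k := by
    rw [h1]
    exact neg_mem hw
  exact (Submodule.disjoint_def.mp (hD j₀)) v hv h2

/-- a permutation of prime order moving a point moves it under all proper powers -/
theorem perm_pow_ne {κ : Type*} (σ : Equiv.Perm κ) (p : ℕ) (hp : p.Prime) (hσ : σ ^ p = 1)
    (j₀ : κ) (h : σ j₀ ≠ j₀) (i : ℕ) (hi0 : 0 < i) (hip : i < p) : (σ ^ i) j₀ ≠ j₀ := by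
  intro hfix
  apply h
  have hcop : Nat.Coprime i p :=
    ((Nat.Prime.coprime_iff_not_dvd hp).mpr (Nat.not_dvd_of_pos_of_lt hi0 hip)).symm
  obtain ⟨m, -, hm⟩ := Nat.exists_mul_mod_eq_one_of_coprime hcop hp.one_lt
  have hfixm : ((σ ^ i) ^ m) j₀ = j₀ := Equiv.Perm.pow_apply_eq_self_of_apply_eq_self hfix m
  have hpow : σ ^ (i * m) = σ := by
    have e : i * m = p * (i * m / p) + 1 := by
      have := Nat.div_add_mod (i * m) p
      omega
    rw [e, pow_add, pow_mul, hσ, one_pow, one_mul, pow_one]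
  rw [← pow_mul, hpow] at hfixm
  exact hfixm

end Cfsg.Agent.helper29.JD
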