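import Mathlib
import Cfsg.Agent.Lib_helper25_Jordan
import Cfsg.Agent.Lib_helper29_JD1

set_option autoImplicit false
set_option linter.unusedSectionVars false
set_option linter.unusedVariables false
universe u
namespace Cfsg.Agent.helper29.EL
open Cfsg.Agent.helper25.Jordan Cfsg.Agent.helper29.JD

variable {F : Type*} [Field F]

/-- a nilpotent map with a Jordan model is nilpotent -/
theorem nilpotent_of_model {V : Type u} [AddCommGroup V] [Module F V]
    (N : Module.End F V) {ι : Type} [Fintype ι] (e : ι → ℕ) (φ : V ≃ₗ[F] Md F e)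
    (hφ : ∀ x, φ (N x) = shk e 1 (φ x)) : N ^ (∑ i, e i) = 0 := by
  have h1 := finrank_range_pow e N φ hφ (∑ i, e i)
  have h2 : ∑ i, (e i - ∑ i, e i) = 0 := by
    apply Finset.sum_eq_zero
    intro i _
    have := Finset.single_le_sum (f := e) (fun j _ => Nat.zero_le _) (Finset.mem_univ i)
    omega
  rw [h2] at h1
  haveI : FiniteDimensional F V := Module.Finite.equiv φ.symm
  rw [Submodule.finrank_eq_zero, LinearMap.range_eq_bot] at h1
  exact h1

/-- the Jordan type of a nilpotent map contains the type of an invariant direct summand -/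
theorem sub_of_compl {V : Type u} [AddCommGroup V] [Module F V] [FiniteDimensional F V]
    (N : Module.End F V) {ι : Type} [Fintype ι] (e : ι → ℕ) (φ : V ≃ₗ[F] Md F e)
    (he : ∀ i, 1 ≤ e i) (hφ : ∀ x, φ (N x) = shk e 1 (φ x))
    (P Q : Submodule F V) (hPQ : IsCompl P Q) (hP : ∀ v ∈ P, N v ∈ P) (hQ : ∀ v ∈ Q, N v ∈ Q) :
    ∃ ν : Multiset ℕ, ν ≤ Finset.univ.val.map e ∧ ν.sum = Module.finrank F P := by
  have hNp := nilpotent_of_model N e φ hφ
  have hnilP : IsNilpotent (N.restrict hP) := by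
    refine ⟨∑ i, e i, ?_⟩
    apply LinearMap.ext
    intro z
    apply Subtype.ext
    rw [coe_pow_restrict, hNp]
    rfl
  have hnilQ : IsNilpotent (N.restrict hQ) := by
    refine ⟨∑ i, e i, ?_⟩
    apply LinearMap.ext
    intro z
    apply Subtype.ext
    rw [coe_pow_restrict, hNp]
    rfl
  obtain ⟨ι₁, hι₁, e₁, φ₁, he₁, hφ₁⟩ :=
    exists_model (Module.finrank F P) P (N.restrict hP) hnilP rfl
  obtain ⟨ι₂, hι₂, e₂, φ₂, he₂, hφ₂⟩ :=
    exists_model (Module.finrank F Q) Q (N.restrict hQ) hnilQ rfl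
  obtain ⟨Φ, hΦ⟩ := model_sum N P Q hPQ hP hQ e₁ e₂ φ₁ hφ₁ φ₂ hφ₂
  have hE : ∀ st, 1 ≤ Sum.elim e₁ e₂ st := by
    rintro (i | i)
    · exact he₁ i
    · exact he₂ i
  have huniq := model_unique e (Sum.elim e₁ e₂) N φ hφ Φ hΦ he hE
  rw [univ_map_sum_elim] at huniq
  refine ⟨Finset.univ.val.map e₁, ?_, ?_⟩
  · rw [huniq]
    exact Multiset.le_add_right _ _
  · have h1 : Module.finrank F P = Module.finrank F (Md F e₁) := φ₁.finrank_eq
    rw [finrank_Md] at h1
    rw [h1]
    rfl

/-- a sub-multiset of the image of a finset is the image of a subset -/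
theorem exists_finset_of_le_map {ι : Type*} [DecidableEq ι] (e : ι → ℕ) (s : Finset ι) :
    ∀ ν : Multiset ℕ, ν ≤ s.val.map e → ∃ J, J ⊆ s ∧ J.val.map e = ν := by
  induction s using Finset.induction_on with
  | empty =>
    intro ν h
    refine ⟨∅, le_refl _, ?_⟩
    have : ν = 0 := by
      apply Multiset.le_zero.mp
      simpa using h
    rw [this]
    rfl
  | insert a s ha ih =>
    intro ν h
    rw [Finset.insert_val_of_notMem ha, Multiset.map_cons] at h
    have h1 : ν.erase (e a) ≤ s.val.map e := Multiset.erase_le_iff_le_cons.mpr h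
    obtain ⟨J, hJs, hJ⟩ := ih _ h1
    by_cases hmem : e a ∈ ν
    · have haJ : a ∉ J := fun h2 => ha (hJs h2)
      refine ⟨insert a J, Finset.insert_subset_insert a hJs, ?_⟩
      rw [Finset.insert_val_of_notMem haJ, Multiset.map_cons, hJ, Multiset.cons_erase hmem]
    · refine ⟨J, hJs.trans (Finset.subset_insert a s), ?_⟩
      rw [hJ, Multiset.erase_of_notMem hmem]

section Blocks

variable {ι : Type*} (e : ι → ℕ)

/-- the elements of the model supported on a set of blocks -/
def blk (J : Set ι) : Submodule F (Md F e) where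
  carrier := {c | ∀ i, i ∉ J → c i = 0}
  add_mem' := by
    intro a b ha hb i hi
    show a i + b i = 0
    rw [ha i hi, hb i hi, add_zero]
  zero_mem' := fun i _ => rfl
  smul_mem' := by
    intro k a ha i hi
    show k • a i = 0
    rw [ha i hi, smul_zero]

theorem mem_blk (J : Set ι) (c : Md F e) : c ∈ blk (F := F) e J ↔ ∀ i, i ∉ J → c i = 0 := Iff.rfl

theorem blk_isCompl (J : Set ι) : IsCompl (blk (F := F) e J) (blk (F := F) e Jᶜ) := by
  classical
  constructor
  · rw [Submodule.disjoint_def]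
    intro c h1 h2
    funext i
    by_cases hi : i ∈ J
    · exact h2 i (fun h => h hi)
    · exact h1 i hi
  · rw [Submodule.codisjoint_iff_exists_add_eq]
    intro z
    refine ⟨fun i => if i ∈ J then z i else 0, fun i => if i ∈ J then 0 else z i, ?_, ?_, ?_⟩
    · intro i hi
      show (if i ∈ J then z i else 0) = 0
      rw [if_neg hi]
    · intro i hi
      have hi' : i ∈ J := by
        by_contra h
        exact hi h
      show (if i ∈ J then 0 else z i) = 0
      rw [if_pos hi']
    · funext i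
      show (if i ∈ J then z i else 0) + (if i ∈ J then 0 else z i) = z i
      by_cases hi : i ∈ J
      · rw [if_pos hi, if_pos hi, add_zero]
      · rw [if_neg hi, if_neg hi, zero_add]

theorem shk_mem_blk (J : Set ι) (c : Md F e) (hc : c ∈ blk (F := F) e J) :
    shk e 1 c ∈ blk (F := F) e J := by
  intro i hi
  funext j
  rw [shk_apply, hc i hi]
  split_ifs <;> rfl

theorem finrank_blk [Fintype ι] [DecidableEq ι] (J : Finset ι) :
    Module.finrank F (blk (F := F) e (J : Set ι)) = ∑ i ∈ J, e i := by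
  obtain ⟨res, hres⟩ : ∃ res : blk (F := F) e (J : Set ι) →ₗ[F] Md F (fun j : J => e j.1),
      ∀ c j, res c j = c.1 j.1 :=
    ⟨{ toFun := fun c j => c.1 j.1, map_add' := fun _ _ => rfl, map_smul' := fun _ _ => rfl },
      fun _ _ => rfl⟩
  have hinj : Function.Injective res := by
    intro c c' h
    apply Subtype.ext
    funext i
    by_cases hi : i ∈ J
    · have := congrFun h ⟨i, hi⟩
      rw [hres, hres] at this
      exact this
    · rw [c.2 i (by simpa using hi), c'.2 i (by simpa using hi)]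
  have hsurj : Function.Surjective res := by
    intro d
    refine ⟨⟨(fun i => if h : i ∈ J then d ⟨i, h⟩ else (0 : Fin (e i) → F) : Md F e), ?_⟩, ?_⟩
    · intro i hi
      have hi' : i ∉ J := by simpa using hi
      show (if h : i ∈ J then d ⟨i, h⟩ else (0 : Fin (e i) → F)) = 0
      rw [dif_neg hi']
    · funext j
      rw [hres]
      show (if h : j.1 ∈ J then d ⟨j.1, h⟩ else (0 : Fin (e j.1) → F)) = d j
      rw [dif_pos j.2]
  rw [(LinearEquiv.ofBijective res ⟨hinj, hsurj⟩).finrank_eq, finrank_Md]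
  exact Finset.sum_coe_sort J e

end Blocks

/-- an invariant complementary pair from a sub-multiset of the Jordan type -/
theorem compl_of_sub {V : Type u} [AddCommGroup V] [Module F V]
    (N : Module.End F V) {ι : Type} [Fintype ι] (e : ι → ℕ) (φ : V ≃ₗ[F] Md F e)
    (hφ : ∀ x, φ (N x) = shk e 1 (φ x)) (ν : Multiset ℕ) (hν : ν ≤ Finset.univ.val.map e) :
    ∃ P Q : Submodule F V, IsCompl P Q ∧ (∀ v ∈ P, N v ∈ P) ∧ (∀ v ∈ Q, N v ∈ Q) ∧
      Module.finrank F P = ν.sum := by
  classical
  obtain ⟨J, -, hJ⟩ := exists_finset_of_le_map e Finset.univ ν hν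
  have hinv : ∀ K : Set ι, ∀ v ∈ (blk (F := F) e K).map (φ.symm : Md F e →ₗ[F] V),
      N v ∈ (blk (F := F) e K).map (φ.symm : Md F e →ₗ[F] V) := by
    rintro K _ ⟨c, hc, rfl⟩
    refine ⟨shk e 1 c, shk_mem_blk e K c hc, ?_⟩
    show φ.symm (shk e 1 c) = N (φ.symm c)
    apply φ.injective
    rw [LinearEquiv.apply_symm_apply, hφ, LinearEquiv.apply_symm_apply]
  refine ⟨(blk (F := F) e (J : Set ι)).map (φ.symm : Md F e →ₗ[F] V),
    (blk (F := F) e (J : Set ι)ᶜ).map (φ.symm : Md F e →ₗ[F] V), ?_, hinv _, hinv _, ?_⟩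
  · have hc := blk_isCompl (F := F) e (J : Set ι)
    constructor
    · rw [Submodule.disjoint_def]
      rintro _ ⟨c, hc1, rfl⟩ ⟨c', hc2, h⟩
      have h3 : c' = c := φ.symm.injective h
      rw [h3] at hc2
      have := (Submodule.disjoint_def.mp hc.disjoint) c hc1 hc2
      rw [this, map_zero]
    · rw [Submodule.codisjoint_iff_exists_add_eq]
      intro z
      obtain ⟨y, w, hy, hw, hyw⟩ := (Submodule.codisjoint_iff_exists_add_eq.mp hc.codisjoint) (φ z)
      refine ⟨φ.symm y, φ.symm w, ⟨y, hy, rfl⟩, ⟨w, hw, rfl⟩, ?_⟩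
      rw [← map_add, hyw, LinearEquiv.symm_apply_apply]
  · rw [LinearEquiv.finrank_map_eq, finrank_blk, ← hJ]
    rfl

end Cfsg.Agent.helper29.EL
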