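import Mathlib

set_option autoImplicit false
set_option linter.unusedSectionVars false
set_option linter.unusedVariables false
namespace Cfsg.Agent.helper29.EL

variable {F : Type*} [Field F] [Fintype F] {V : Type*} [AddCommGroup V] [Module F V] [Finite V]

/-- the number of complements of a subspace -/
theorem card_compl (U : Submodule F V) :
    Nat.card {W : Submodule F V // IsCompl U W} =
      Fintype.card F ^ ((Module.finrank F V - Module.finrank F U) * Module.finrank F U) := by
  haveI : Module.Finite F V := Module.Finite.of_finite
  obtain ⟨W₀, h⟩ := Submodule.exists_isCompl U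
  have hfr : Module.finrank F W₀ = Module.finrank F V - Module.finrank F U := by
    have := Submodule.finrank_add_eq_of_isCompl h
    omega
  rw [Nat.card_congr (Submodule.isComplEquivProj U)]
  have e2 : {f : V →ₗ[F] U // ∀ x : U, f x = x} ≃ (W₀ →ₗ[F] U) :=
    { toFun := fun f => f.1 ∘ₗ W₀.subtype
      invFun := fun g => ⟨LinearMap.ofIsCompl h LinearMap.id g, fun x =>
        LinearMap.ofIsCompl_apply_left h x⟩
      left_inv := by
        intro f
        apply Subtype.ext
        show LinearMap.ofIsCompl h LinearMap.id (f.1 ∘ₗ W₀.subtype) = f.1
        apply LinearMap.ofIsCompl_eq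
        · intro u
          exact (f.2 u).symm
        · intro w
          rfl
      right_inv := by
        intro g
        apply LinearMap.ext
        intro w
        show LinearMap.ofIsCompl h LinearMap.id g (w : V) = g w
        exact LinearMap.ofIsCompl_apply_right h w }
  rw [Nat.card_congr e2, Module.natCard_eq_pow_finrank (K := F), Module.finrank_linearMap, hfr,
    Nat.card_eq_fintype_card]

/-- the number of pairs of complementary subspaces -/
theorem card_compl_pairs (n m : ℕ) (hV : Module.finrank F V = n) :
    Nat.card {P : Submodule F V × Submodule F V // IsCompl P.1 P.2 ∧ Module.finrank F P.1 = m} =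
      Nat.card {U : Submodule F V // Module.finrank F U = m} * Fintype.card F ^ ((n - m) * m) := by
  classical
  haveI : Module.Finite F V := Module.Finite.of_finite
  haveI : Finite (Submodule F V) := Finite.of_injective (fun p => (p : Set V)) SetLike.coe_injective
  haveI : Fintype {U : Submodule F V // Module.finrank F U = m} := Fintype.ofFinite _
  obtain ⟨π, hπ⟩ : ∃ π : {P : Submodule F V × Submodule F V //
        IsCompl P.1 P.2 ∧ Module.finrank F P.1 = m} →
      {U : Submodule F V // Module.finrank F U = m}, ∀ x, (π x).1 = x.1.1 :=
    ⟨fun x => ⟨x.1.1, x.2.2⟩, fun x => rfl⟩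
  have hfib : ∀ U : {U : Submodule F V // Module.finrank F U = m},
      Nat.card {x // π x = U} = Fintype.card F ^ ((n - m) * m) := by
    rintro ⟨U, hU⟩
    have h1 := card_compl (F := F) U
    rw [hV, hU] at h1
    rw [← h1]
    apply Nat.card_congr
    refine ⟨fun x => ⟨x.1.1.2, ?_⟩, fun W => ⟨⟨(U, W.1), W.2, hU⟩, ?_⟩, ?_, ?_⟩
    · have hx : x.1.1.1 = U := by
        have := congrArg Subtype.val x.2
        rw [hπ] at this
        exact this
      have h2 := x.1.2.1
      rw [hx] at h2
      exact h2
    · apply Subtype.ext
      rw [hπ]
    · intro x
      have hx : x.1.1.1 = U := by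
        have := congrArg Subtype.val x.2
        rw [hπ] at this
        exact this
      apply Subtype.ext
      apply Subtype.ext
      apply Prod.ext
      · exact hx.symm
      · rfl
    · intro W
      rfl
  have hsum : Nat.card {P : Submodule F V × Submodule F V //
        IsCompl P.1 P.2 ∧ Module.finrank F P.1 = m} =
      ∑ U : {U : Submodule F V // Module.finrank F U = m}, Nat.card {x // π x = U} := by
    rw [← Nat.card_sigma]
    exact Nat.card_congr (Equiv.sigmaFiberEquiv π).symm
  rw [hsum, Finset.sum_congr rfl (fun U _ => hfib U), Finset.sum_const, smul_eq_mul,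
    Finset.card_univ, Nat.card_eq_fintype_card]

/-- a prime different from the characteristic dividing the number of complementary pairs
divides the number of subspaces -/
theorem dvd_card_subspaces_of_dvd_card_pairs (n m : ℕ) (hV : Module.finrank F V = n) (r : ℕ)
    (hr : r.Prime) (hrq : ¬ r ∣ Fintype.card F)
    (h : r ∣ Nat.card {P : Submodule F V × Submodule F V //
      IsCompl P.1 P.2 ∧ Module.finrank F P.1 = m}) :
    r ∣ Nat.card {U : Submodule F V // Module.finrank F U = m} := by
  rw [card_compl_pairs n m hV] at h
  rcases hr.dvd_mul.mp h with h1 | h1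
  · exact h1
  · exact absurd (hr.dvd_of_dvd_pow h1) hrq

end Cfsg.Agent.helper29.EL
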