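import Mathlib

set_option autoImplicit false
set_option linter.unusedSectionVars false
set_option linter.unusedVariables false
namespace Cfsg.Agent.helper29.EL

/-- a partition into ones contains a partition of every smaller number -/
theorem pc_all_ones (μ : Multiset ℕ) (h : ∀ a ∈ μ, 0 < a ∧ a ≤ 1) (n m : ℕ) (hn : μ.sum = n)
    (hmn : m ≤ n) : ∃ ν : Multiset ℕ, ν ≤ μ ∧ ν.sum = m := by
  have h1 : μ = Multiset.replicate (Multiset.card μ) 1 := by
    apply Multiset.eq_replicate_of_mem
    intro a ha
    have := h a ha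
    omega
  have h2 : Multiset.card μ = n := by
    rw [h1, Multiset.sum_replicate, smul_eq_mul, mul_one] at hn
    exact hn
  refine ⟨Multiset.replicate m 1, ?_, ?_⟩
  · rw [h1, h2]
    exact Multiset.replicate_mono 1 hmn
  · rw [Multiset.sum_replicate, smul_eq_mul, mul_one]

/-- the partition condition for `p = 2` -/
theorem pc_two_iff (n m : ℕ) (hmn : m ≤ n) :
    (∀ μ : Multiset ℕ, (∀ a ∈ μ, 0 < a ∧ a ≤ 2) → μ.sum = n →
      ∃ ν : Multiset ℕ, ν ≤ μ ∧ ν.sum = m) ↔ (Odd n ∨ Even m) := by
  constructor
  · intro h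
    by_contra hcon
    rw [not_or, Nat.not_odd_iff_even, Nat.not_even_iff_odd] at hcon
    obtain ⟨hne, hmo⟩ := hcon
    obtain ⟨t, ht⟩ := hne
    obtain ⟨ν, hν, hνs⟩ := h (Multiset.replicate t 2)
      (by
        intro a ha
        rw [Multiset.eq_of_mem_replicate ha]
        omega)
      (by rw [Multiset.sum_replicate, smul_eq_mul]; omega)
    have h1 : ν = Multiset.replicate (Multiset.card ν) 2 := by
      apply Multiset.eq_replicate_of_mem
      intro a ha
      exact Multiset.eq_of_mem_replicate (Multiset.mem_of_le hν ha)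
    rw [h1, Multiset.sum_replicate, smul_eq_mul] at hνs
    obtain ⟨s, hs⟩ := hmo
    omega
  · intro hcond μ hμ hsum
    obtain ⟨a, ha⟩ : ∃ a, a = Multiset.count 1 μ := ⟨_, rfl⟩
    obtain ⟨b, hb⟩ : ∃ b, b = Multiset.card (Multiset.filter (fun x => ¬ 1 = x) μ) := ⟨_, rfl⟩
    have h1 : Multiset.filter (fun x => 1 = x) μ = Multiset.replicate a 1 := by
      rw [ha]
      exact Multiset.filter_eq μ 1
    have h2 : Multiset.filter (fun x => ¬ 1 = x) μ = Multiset.replicate b 2 := by
      rw [hb]
      apply Multiset.eq_replicate_of_mem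
      intro x hx
      rw [Multiset.mem_filter] at hx
      have := hμ x hx.1
      omega
    have hμeq : μ = Multiset.replicate a 1 + Multiset.replicate b 2 := by
      rw [← h1, ← h2, Multiset.filter_add_not]
    have hn : n = a + 2 * b := by
      rw [← hsum, hμeq, Multiset.sum_add, Multiset.sum_replicate, Multiset.sum_replicate,
        smul_eq_mul, smul_eq_mul]
      omega
    have hpar : n % 2 = 1 ∨ m % 2 = 0 := by
      rcases hcond with h | h
      · left
        exact Nat.odd_iff.mp h
      · right
        exact Nat.even_iff.mp h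
    obtain ⟨a', b', ha', hb', hab⟩ : ∃ a' b', a' ≤ a ∧ b' ≤ b ∧ a' + 2 * b' = m := by
      by_cases hcase : m / 2 ≤ b
      · exact ⟨m % 2, m / 2, by omega, hcase, by omega⟩
      · exact ⟨m - 2 * b, b, by omega, le_refl _, by omega⟩
    refine ⟨Multiset.replicate a' 1 + Multiset.replicate b' 2, ?_, ?_⟩
    · rw [hμeq]
      exact add_le_add (Multiset.replicate_mono 1 ha')
        (Multiset.replicate_mono 2 hb')
    · rw [Multiset.sum_add, Multiset.sum_replicate, Multiset.sum_replicate, smul_eq_mul,
        smul_eq_mul]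
      omega

end Cfsg.Agent.helper29.EL
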