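import Mathlib
import Cfsg.Agent.Lib_helper29_EL7
import Cfsg.Agent.Lib_helper29_EL13
import Cfsg.Agent.Lib_helper29_EL14
import Cfsg.Agent.Lib_helper29_EL15

set_option autoImplicit false
set_option linter.unusedSectionVars false
set_option linter.unusedVariables false
universe u
namespace Cfsg.Agent.helper29.EL
open Cfsg.Agent.helper25.Jordan

variable {F : Type u} [Field F] {n : ℕ}

theorem Nlin_eq (g : Matrix.GeneralLinearGroup (Fin n) F) :
    Nlin g = Matrix.toLin' g.val - 1 := by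
  unfold Nlin
  apply LinearMap.ext
  intro v
  rw [LinearMap.sub_apply, Matrix.toLinAlgEquiv'_apply, Matrix.toLin'_apply, Matrix.sub_mulVec,
    Matrix.one_mulVec]
  rfl

/-- in characteristic `p`, if every partition of `n` with parts at most `p` contains a partition
of `m`, every element of order `p` fixes a decomposition -/
theorem exists_compl_of_pc [Fintype F] (p : ℕ) [Fact p.Prime] [CharP F p] (hn : 0 < n) (m : ℕ)
    (hpc : ∀ μ : Multiset ℕ, (∀ a ∈ μ, 0 < a ∧ a ≤ p) → μ.sum = n →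
      ∃ ν : Multiset ℕ, ν ≤ μ ∧ ν.sum = m)
    (x : Matrix.SpecialLinearGroup (Fin n) F) (c : F)
    (hx : ((x ^ p : Matrix.SpecialLinearGroup (Fin n) F) : Matrix (Fin n) (Fin n) F) =
      c • (1 : Matrix (Fin n) (Fin n) F)) :
    ∃ U W : Submodule F (Fin n → F), IsCompl U W ∧ Module.finrank F U = m ∧
      U.map (Matrix.toLin' (x : Matrix (Fin n) (Fin n) F)) ≤ U ∧
      W.map (Matrix.toLin' (x : Matrix (Fin n) (Fin n) F)) ≤ W := by
  have hp : p.Prime := Fact.out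
  have hpq : p ∣ Fintype.card F := (CharP.cast_eq_zero_iff F p _).mp (Nat.cast_card_eq_zero F)
  have hq2 : 2 ≤ Fintype.card F := Fintype.one_lt_card
  have hnd : ¬ p ∣ Fintype.card F - 1 := by
    intro h
    have h1 : p ∣ (Fintype.card F - 1) + 1 := by
      rw [Nat.sub_add_cancel (by omega)]
      exact hpq
    exact hp.one_lt.ne' (Nat.dvd_one.mp ((Nat.dvd_add_right h).mp h1))
  obtain ⟨l, hl⟩ := exists_pow_eq_of_not_dvd p hp hnd c
  have hc0 : c ≠ 0 := scalar_ne_zero_of_SL hn (x ^ p) c hx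
  have hl0 : l ≠ 0 := by
    rintro rfl
    rw [zero_pow hp.ne_zero] at hl
    exact hc0 hl.symm
  have hxp : (x : Matrix (Fin n) (Fin n) F) ^ p = c • (1 : Matrix (Fin n) (Fin n) F) := by
    rw [← Matrix.SpecialLinearGroup.coe_pow]
    exact hx
  obtain ⟨y, hy⟩ : ∃ y : Matrix (Fin n) (Fin n) F, y = l⁻¹ • (x : Matrix (Fin n) (Fin n) F) :=
    ⟨_, rfl⟩
  have hyp : y ^ p = 1 := by
    rw [hy, smul_pow, hxp, smul_smul, ← hl, inv_pow, inv_mul_cancel₀ (pow_ne_zero p hl0), one_smul]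
  have hxy : (x : Matrix (Fin n) (Fin n) F) = l • y := by
    rw [hy, smul_smul, mul_inv_cancel₀ hl0, one_smul]
  obtain ⟨g, hg⟩ : ∃ g : Matrix.GeneralLinearGroup (Fin n) F, g.val = y :=
    ⟨(IsUnit.of_pow_eq_one hyp hp.ne_zero).unit, rfl⟩
  have hgp : (g.val - 1) ^ p = 0 := by
    have := sub_one_pow_char_pow (F := F) p g.val 1
    rw [pow_one] at this
    rw [this, hg, hyp, sub_self]
  obtain ⟨μ, hT⟩ := exists_hasType g ⟨p, hgp⟩
  have hle : ∀ a ∈ μ.parts, a ≤ p := (pow_eq_zero_iff_of_hasType hT p).mp hgp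
  obtain ⟨ν, hν, hνs⟩ := hpc μ.parts (fun a ha => ⟨μ.parts_pos ha, hle a ha⟩) μ.parts_sum
  obtain ⟨ι, hι, e, φ, he, hφ, hmap⟩ := hT
  rw [← hmap] at hν
  obtain ⟨P, Q, hPQ, hP, hQ, hPd⟩ := compl_of_sub (Nlin g) e φ hφ ν hν
  have hinv : ∀ S : Submodule F (Fin n → F), (∀ v ∈ S, Nlin g v ∈ S) →
      S.map (Matrix.toLin' (x : Matrix (Fin n) (Fin n) F)) ≤ S := by
    rintro S hS _ ⟨v, hv, rfl⟩
    have h1 : Matrix.toLin' (x : Matrix (Fin n) (Fin n) F) v = l • (v + Nlin g v) := by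
      rw [hxy, map_smul, LinearMap.smul_apply, ← hg, Nlin_eq, LinearMap.sub_apply,
        Module.End.one_apply, add_sub_cancel]
    rw [h1]
    exact S.smul_mem l (S.add_mem hv (hS v hv))
  exact ⟨P, Q, hPQ, hPd.trans hνs, hinv P hP, hinv Q hQ⟩

/-- conversely, if every element of order `p` fixes a decomposition then every partition of `n`
with parts at most `p` contains a partition of `m` -/
theorem pc_of_forall [Fintype F] (p : ℕ) [Fact p.Prime] [CharP F p] (hn : 0 < n) (m : ℕ)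
    (hmn : m ≤ n)
    (hL : ∀ x : Matrix.SpecialLinearGroup (Fin n) F,
      (∃ c : F, ((x ^ p : Matrix.SpecialLinearGroup (Fin n) F) : Matrix (Fin n) (Fin n) F) =
        c • (1 : Matrix (Fin n) (Fin n) F)) →
      (∀ c : F, (x : Matrix (Fin n) (Fin n) F) ≠ c • (1 : Matrix (Fin n) (Fin n) F)) →
      ∃ U W : Submodule F (Fin n → F), IsCompl U W ∧ Module.finrank F ↥U = m ∧
        U.map (Matrix.toLin' (x : Matrix (Fin n) (Fin n) F)) ≤ U ∧
        W.map (Matrix.toLin' (x : Matrix (Fin n) (Fin n) F)) ≤ W) :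
    ∀ μ : Multiset ℕ, (∀ a ∈ μ, 0 < a ∧ a ≤ p) → μ.sum = n →
      ∃ ν : Multiset ℕ, ν ≤ μ ∧ ν.sum = m := by
  intro μ hμ hsum
  have hp : p.Prime := Fact.out
  by_cases hones : ∀ a ∈ μ, a ≤ 1
  · exact pc_all_ones μ (fun a ha => ⟨(hμ a ha).1, hones a ha⟩) n m hsum hmn
  obtain ⟨g, hT⟩ := exists_of_partition (F := F)
    (⟨μ, fun {i} hi => (hμ i hi).1, hsum⟩ : Nat.Partition n)
  have hT' : HasType g μ := hT
  have hgp : (g.val - 1) ^ p = 0 :=
    (pow_eq_zero_iff_of_hasType hT' p).mpr (fun a ha => (hμ a ha).2)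
  have hgpow : g.val ^ p = 1 := by
    have := sub_one_pow_char_pow (F := F) p g.val 1
    rw [pow_one, hgp] at this
    exact (sub_eq_zero.mp this.symm)
  have hdet : g.val.det = 1 := by
    have h1 : g.val.det ^ p = 1 := by
      rw [← Matrix.det_pow, hgpow, Matrix.det_one]
    have h2 : (g.val.det - 1) ^ p = 0 := by
      rw [sub_pow_char, h1, one_pow, sub_self]
    exact sub_eq_zero.mp ((pow_eq_zero_iff hp.ne_zero).mp h2)
  have hns : ∀ z : F, g.val ≠ z • (1 : Matrix (Fin n) (Fin n) F) := by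
    intro z hz
    have h1 : (z ^ p) • (1 : Matrix (Fin n) (Fin n) F) = 1 := by
      have h0 := hgpow
      rw [hz, smul_pow, one_pow] at h0
      exact h0
    have h2 : z ^ p = 1 := by
      have := congrFun (congrFun h1 ⟨0, hn⟩) ⟨0, hn⟩
      simpa using this
    have h3 : (z - 1) ^ p = 0 := by
      rw [sub_pow_char, h2, one_pow, sub_self]
    have h4 : z = 1 := sub_eq_zero.mp ((pow_eq_zero_iff hp.ne_zero).mp h3)
    have h5 : (g.val - 1) ^ 1 = 0 := by
      rw [pow_one, hz, h4, one_smul, sub_self]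
    exact hones ((pow_eq_zero_iff_of_hasType hT' 1).mp h5)
  obtain ⟨U, W, hUW, hUd, hUi, hWi⟩ := hL ⟨g.val, hdet⟩
    ⟨1, (Matrix.SpecialLinearGroup.coe_pow _ p).trans (by
      show g.val ^ p = (1 : F) • (1 : Matrix (Fin n) (Fin n) F)
      rw [hgpow, one_smul])⟩ hns
  obtain ⟨ι, hι, e, φ, he, hφ, hmap⟩ := hT'
  have hinv : ∀ S : Submodule F (Fin n → F), S.map (Matrix.toLin' g.val) ≤ S →
      ∀ v ∈ S, Nlin g v ∈ S := by
    intro S hS v hv
    rw [Nlin_eq, LinearMap.sub_apply, Module.End.one_apply]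
    exact S.sub_mem (hS (Submodule.mem_map_of_mem hv)) hv
  obtain ⟨ν, hν, hνs⟩ := sub_of_compl (Nlin g) e φ he hφ U W hUW (hinv U hUi) (hinv W hWi)
  exact ⟨ν, hmap ▸ hν, hνs.trans hUd⟩

end Cfsg.Agent.helper29.EL
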