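import Mathlib
import Cfsg.Agent.Lib_helper29_EL7
import Cfsg.Agent.Lib_helper29_EL16

set_option autoImplicit false
set_option linter.unusedSectionVars false
set_option linter.unusedVariables false
namespace Cfsg.Agent.helper29.EL

/-- the elusivity criterion for the action of `SL_n(q)` on decompositions `U ⊕ W` with
`dim U = m` -/
theorem elusive_compl_iff {F : Type*} [Field F] [Fintype F] {p : ℕ} [Fact p.Prime] [CharP F p]
    {q : ℕ} (hq : Fintype.card F = q) (n m : ℕ) (hn : 3 ≤ n) (hm : 1 ≤ m) (hmn : 2 * m < n)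
    (r : ℕ) [Fact r.Prime]
    (hrΩ : r ∣ Nat.card {P : Submodule F (Fin n → F) × Submodule F (Fin n → F) //
      IsCompl P.1 P.2 ∧ Module.finrank F ↥P.1 = m}) :
    (∀ x : Matrix.SpecialLinearGroup (Fin n) F,
      (∃ c : F, ((x ^ r : Matrix.SpecialLinearGroup (Fin n) F) : Matrix (Fin n) (Fin n) F) =
        c • (1 : Matrix (Fin n) (Fin n) F)) →
      (∀ c : F, (x : Matrix (Fin n) (Fin n) F) ≠ c • (1 : Matrix (Fin n) (Fin n) F)) →
      ∃ U W : Submodule F (Fin n → F), IsCompl U W ∧ Module.finrank F ↥U = m ∧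
        U.map (Matrix.toLin' (x : Matrix (Fin n) (Fin n) F)) ≤ U ∧
        W.map (Matrix.toLin' (x : Matrix (Fin n) (Fin n) F)) ≤ W) ↔
    ((r = p ∧ 2 < p ∧ (∀ μ : Multiset ℕ, (∀ a ∈ μ, 0 < a ∧ a ≤ p) → μ.sum = n →
        ∃ ν : Multiset ℕ, ν ≤ μ ∧ ν.sum = m)) ∨
     (r = p ∧ p = 2 ∧ (Odd n ∨ Even m)) ∨
     (r ≠ p ∧
      ((orderOf (q : ZMod r) = 1 ∧ (r ∣ m ∨ (padicValNat r n ≤ padicValNat r (q - 1) ∧
          (r = 2 → Even n → q % 4 = 1)))) ∨
       (2 ≤ orderOf (q : ZMod r) ∧ orderOf (q : ZMod r) ≤ m ∧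
          m % orderOf (q : ZMod r) ≤ n % orderOf (q : ZMod r))))) := by
  classical
  have hp : p.Prime := Fact.out
  have hr : r.Prime := Fact.out
  by_cases hrp : r = p
  · subst hrp
    constructor
    · intro hL
      have hpc := pc_of_forall (F := F) r (by omega) m (by omega) hL
      by_cases h2 : r = 2
      · right
        left
        refine ⟨rfl, h2, (pc_two_iff n m (by omega)).mp ?_⟩
        intro μ hμ hs
        apply hpc μ _ hs
        intro a ha
        rw [h2]
        exact hμ a ha
      · left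
        exact ⟨rfl, by have := hr.two_le; omega, hpc⟩
    · rintro (⟨-, -, hpc⟩ | ⟨-, h2, hcond⟩ | ⟨hne, -⟩)
      · rintro x ⟨c, hx⟩ -
        exact exists_compl_of_pc r (by omega) m hpc x c hx
      · have hpc : ∀ μ : Multiset ℕ, (∀ a ∈ μ, 0 < a ∧ a ≤ r) → μ.sum = n →
            ∃ ν : Multiset ℕ, ν ≤ μ ∧ ν.sum = m := by
          intro μ hμ hs
          apply (pc_two_iff n m (by omega)).mpr hcond μ _ hs
          intro a ha
          have := hμ a ha
          rw [h2] at this
          exact this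
        rintro x ⟨c, hx⟩ -
        exact exists_compl_of_pc r (by omega) m hpc x c hx
      · exact absurd rfl hne
  · subst hq
    have hrq : ¬ r ∣ Fintype.card F := by
      intro h
      obtain ⟨f, -, hf⟩ := FiniteField.card F p
      rw [hf] at h
      exact hrp ((Nat.prime_dvd_prime_iff_eq hr hp).mp (hr.dvd_of_dvd_pow h))
    have hfr : Module.finrank F (Fin n → F) = n := Module.finrank_fin_fun F
    have hrΩ' := dvd_card_subspaces_of_dvd_card_pairs (F := F) (V := Fin n → F) n m hfr r hr hrq hrΩ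
    have key := elusive_iff (p := p) (F := F) rfl n m (by omega) hm (by omega) r hrΩ'
    have hrF : (r : F) ≠ 0 := by
      rw [Ne, CharP.cast_eq_zero_iff F p]
      intro h
      exact hrp ((Nat.prime_dvd_prime_iff_eq hp hr).mp h).symm
    constructor
    · intro hL
      right
      right
      apply key.mp
      intro x hx hns
      obtain ⟨U, W, hUW, hUd, hUi, hWi⟩ := hL x hx hns
      exact ⟨U, hUd, hUi⟩
    · rintro (⟨h, -⟩ | ⟨h, -⟩ | h)
      · exact absurd h hrp
      · exact absurd h hrp
      · intro x hx hns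
        obtain ⟨U, hUd, hUi⟩ := key.mpr h x hx hns
        obtain ⟨c, hxc⟩ := hx
        have hc0 := scalar_ne_zero_of_SL (by omega) (x ^ r) c hxc
        have hf : (Matrix.toLin' (x : Matrix (Fin n) (Fin n) F)) ^ r =
            c • (1 : Module.End F (Fin n → F)) := by
          apply toLin'_pow_eq
          rw [← Matrix.SpecialLinearGroup.coe_pow]
          exact hxc
        have hss := isSemisimple_of_pow_eq (Matrix.toLin' (x : Matrix (Fin n) (Fin n) F)) r hrF c
          hc0 hf
        have hUm : U ∈ Module.End.invtSubmodule (Matrix.toLin' (x : Matrix (Fin n) (Fin n) F)) := by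
          rw [Module.End.mem_invtSubmodule]
          exact Submodule.map_le_iff_le_comap.mp hUi
        obtain ⟨W, hWm, hUW⟩ := (Module.End.isSemisimple_iff.mp hss) U hUm
        refine ⟨U, W, hUW, hUd, hUi, ?_⟩
        rw [Module.End.mem_invtSubmodule] at hWm
        exact Submodule.map_le_iff_le_comap.mpr hWm

end Cfsg.Agent.helper29.EL
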