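import Mathlib
import Cfsg.Prelude
import Cfsg.Agent.Lib_helper25_Jordan
import Cfsg.Agent.Lib_helper29_JD1

set_option autoImplicit false
set_option linter.unusedSectionVars false
set_option linter.unusedVariables false
universe u
namespace Cfsg.Agent.helper29.JD
open Cfsg.Agent.helper25.Jordan

variable {F : Type u} [Field F] {n : ℕ}

local notation "VV" => (Fin n → F)

/-- a unipotent element of order `p` permuting the summands of a decomposition with fewer than
`a` blocks of size `p` fixes every summand, so its Jordan type contains a partition of `a` -/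
theorem exists_sub_partition (p : ℕ) [Fact p.Prime] [CharP F p] (a t : ℕ)
    (g : Matrix.GeneralLinearGroup (Fin n) F) (μ : Multiset ℕ) (hT : HasType g μ)
    (hle : ∀ b ∈ μ, b ≤ p) (hcount : μ.count p < a)
    (D : Fin t → Submodule F VV) (hD : Cfsg.Geo.IsMDecomposition a D)
    (σ : Equiv.Perm (Fin t))
    (hσ : ∀ j, (D j).map (Matrix.toLin' (g : Matrix (Fin n) (Fin n) F)) = D (σ j)) :
    ∃ ν : Multiset ℕ, ν ≤ μ ∧ ν.sum = a := by
  classical
  have hp : p.Prime := Fact.out
  have hgp : (g.val - 1) ^ p = 0 := (pow_eq_zero_iff_of_hasType hT p).mpr hle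
  obtain ⟨ι, hι, e, φ, he, hφ, hmap⟩ := hT
  obtain ⟨N, hN⟩ : ∃ N : Module.End F VV, N = Nlin g := ⟨_, rfl⟩
  obtain ⟨fL, hfL⟩ : ∃ fL : Module.End F VV, fL = Matrix.toLin' g.val := ⟨_, rfl⟩
  rw [← hN] at hφ
  have hNf : N = fL - 1 := by
    rw [hN, hfL]
    unfold Nlin
    apply LinearMap.ext
    intro v
    rw [LinearMap.sub_apply, Matrix.toLinAlgEquiv'_apply, Matrix.toLin'_apply, Matrix.sub_mulVec,
      Matrix.one_mulVec]
    rfl
  have hNp : N ^ p = 0 := by
    rw [hN, Nlin_pow, hgp, map_zero]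
  have hfp : fL ^ p = 1 := by
    have h1 := sub_one_pow_char_pow (F := F) p fL 1
    rw [pow_one, ← hNf, hNp] at h1
    exact (sub_eq_zero.mp h1.symm)
  have hpow : ∀ (i : ℕ) (j : Fin t), (D j).map (fL ^ i) = D ((σ ^ i) j) := by
    intro i
    induction i with
    | zero =>
      intro j
      rw [pow_zero, pow_zero]
      exact Submodule.map_id _
    | succ i ih =>
      intro j
      rw [pow_succ', pow_succ', Module.End.mul_eq_comp, Submodule.map_comp, ih, hfL, hσ,
        Equiv.Perm.mul_apply]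
  have hDne : ∀ j, D j ≠ ⊥ := by
    intro j hbot
    have h1 := hD.finrank_eq j
    rw [hbot, finrank_bot] at h1
    have := hD.pos
    omega
  have hDinj : Function.Injective D := hD.indep.injective hDne
  have hσp : σ ^ p = 1 := by
    ext j
    congr 1
    apply hDinj
    rw [← hpow p j, hfp]
    exact Submodule.map_id _
  have hmem : ∀ (i : ℕ) (j : Fin t) (v : VV), v ∈ D j → (fL ^ i) v ∈ D ((σ ^ i) j) := by
    intro i j v hv
    rw [← hpow i j]
    exact Submodule.mem_map_of_mem hv
  have hrank : Module.finrank F (LinearMap.range (N ^ (p - 1))) = μ.count p := by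
    rw [finrank_range_pow e N φ hφ (p - 1), ← sum_sub_eq_count μ p hp.one_lt.le hle, ← hmap,
      Multiset.map_map]
    rfl
  have hfix : ∀ j, σ j = j := by
    intro j₀
    by_contra hne
    have hL : N ^ (p - 1) = ∑ i ∈ Finset.range p, fL ^ i := by
      rw [hNf]
      exact sub_one_pow_pred (F := F) p fL
    have hinj : ∀ v ∈ D j₀, (N ^ (p - 1)) v = 0 → v = 0 := by
      intro v hv h0
      rw [hL, LinearMap.sum_apply] at h0
      obtain ⟨p', hp'⟩ : ∃ p', p = p' + 1 := ⟨p - 1, by have := hp.one_lt; omega⟩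
      rw [hp', Finset.sum_range_succ', pow_zero, add_comm] at h0
      apply indep_zero D hD.indep j₀ v _ hv _ h0
      apply Submodule.sum_mem
      intro i hi
      have hi' : i + 1 < p := by
        have := Finset.mem_range.mp hi
        omega
      have hne' := perm_pow_ne σ p hp hσp j₀ hne (i + 1) (by omega) hi'
      exact Submodule.mem_iSup_of_mem _ (Submodule.mem_iSup_of_mem hne' (hmem (i + 1) j₀ v hv))
    have hker : LinearMap.ker ((N ^ (p - 1)) ∘ₗ (D j₀).subtype) = ⊥ := by
      rw [LinearMap.ker_eq_bot']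
      intro v hv
      apply Subtype.ext
      exact hinj v.1 v.2 hv
    have h1 : Module.finrank F (LinearMap.range ((N ^ (p - 1)) ∘ₗ (D j₀).subtype)) = a := by
      rw [LinearMap.finrank_range_of_inj (LinearMap.ker_eq_bot.mp hker), hD.finrank_eq]
    have h2 : Module.finrank F (LinearMap.range ((N ^ (p - 1)) ∘ₗ (D j₀).subtype)) ≤
        Module.finrank F (LinearMap.range (N ^ (p - 1))) :=
      Submodule.finrank_mono (LinearMap.range_comp_le_range _ _)
    rw [h1, hrank] at h2
    omega
  have hDinv : ∀ k, ∀ v ∈ D k, N v ∈ D k := by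
    intro k v hv
    rw [hNf, LinearMap.sub_apply]
    apply Submodule.sub_mem _ _ hv
    have := hmem 1 k v hv
    rw [pow_one, pow_one, hfix] at this
    exact this
  obtain ⟨j0, -⟩ : ∃ j0 : Fin t, True := ⟨⟨0, by have := hD.two_le; omega⟩, trivial⟩
  obtain ⟨P, hPd⟩ : ∃ P : Submodule F VV, P = D j0 := ⟨_, rfl⟩
  obtain ⟨Q, hQd⟩ : ∃ Q : Submodule F VV, Q = ⨆ (k) (_ : k ≠ j0), D k := ⟨_, rfl⟩
  have hPQ : IsCompl P Q := by
    constructor
    · rw [hPd, hQd]
      exact hD.indep j0
    · rw [codisjoint_iff, eq_top_iff, ← hD.iSup_eq_top]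
      apply iSup_le
      intro k
      by_cases hk : k = j0
      · rw [hk, hPd]
        exact le_sup_left
      · rw [hQd]
        exact le_sup_of_le_right (le_iSup₂ (f := fun k (_ : k ≠ j0) => D k) k hk)
  have hP : ∀ v ∈ P, N v ∈ P := by
    rw [hPd]
    exact hDinv j0
  have hQ : ∀ v ∈ Q, N v ∈ Q := by
    intro v hv
    have h1 : Q.map N ≤ Q := by
      rw [hQd, Submodule.map_iSup]
      apply iSup_mono
      intro k
      rw [Submodule.map_iSup]
      apply iSup_mono
      intro hk
      exact Submodule.map_le_iff_le_comap.mpr (fun v hv => hDinv k v hv)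
    exact h1 (Submodule.mem_map_of_mem hv)
  have hnilP : IsNilpotent (N.restrict hP) := by
    refine ⟨p, ?_⟩
    apply LinearMap.ext
    intro z
    apply Subtype.ext
    rw [coe_pow_restrict, hNp]
    rfl
  have hnilQ : IsNilpotent (N.restrict hQ) := by
    refine ⟨p, ?_⟩
    apply LinearMap.ext
    intro z
    apply Subtype.ext
    rw [coe_pow_restrict, hNp]
    rfl
  have hfrP : Module.finrank F P = a := by
    rw [hPd]
    exact hD.finrank_eq j0
  obtain ⟨ι₁, hι₁, e₁, φ₁, he₁, hφ₁⟩ := exists_model a P (N.restrict hP) hnilP hfrP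
  obtain ⟨ι₂, hι₂, e₂, φ₂, he₂, hφ₂⟩ :=
    exists_model (Module.finrank F Q) Q (N.restrict hQ) hnilQ rfl
  obtain ⟨Φ, hΦ⟩ := model_sum N P Q hPQ hP hQ e₁ e₂ φ₁ hφ₁ φ₂ hφ₂
  have hE : ∀ st, 1 ≤ Sum.elim e₁ e₂ st := by
    rintro (i | i)
    · exact he₁ i
    · exact he₂ i
  have huniq := model_unique e (Sum.elim e₁ e₂) N φ hφ Φ hΦ he hE
  rw [hmap, univ_map_sum_elim] at huniq
  refine ⟨Finset.univ.val.map e₁, ?_, ?_⟩
  · rw [huniq]
    exact Multiset.le_add_right _ _
  · have h1 : Module.finrank F P = Module.finrank F (Md F e₁) := φ₁.finrank_eq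
    rw [hfrP, finrank_Md] at h1
    rw [h1]
    rfl

end Cfsg.Agent.helper29.JD
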