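import Mathlib
import Cfsg.Agent.Lib_helper13_InvCls

set_option autoImplicit false
set_option linter.unusedSectionVars false
set_option linter.unusedVariables false
namespace Cfsg.Agent.helper29.OM
open Matrix QuadraticMap Module Cfsg.Agent.helper13

section two
variable {F : Type*} [Field F] [Fintype F] {ι : Type} [Fintype ι] [DecidableEq ι]
variable (Q : QuadraticForm F (ι → F))

/-- generation by reflections in characteristic two, under the non-exceptionality hypothesis -/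
theorem cd2' (h2 : (2 : F) = 0) (hQ : (polarBilin Q).Nondegenerate)
    (hexc : ¬ Exc Q (⊤ : Submodule F (ι → F))) (g : ↥(Cfsg.isometryGroup F ⇑Q)) :
    g ∈ RU Q ⊤ := by
  apply cd2_aux Q h2 hQ _ ⊤ rfl (nondegOn_top Q hQ) hexc
  intro z hz
  have : z = 0 := by
    apply hQ.2 z
    intro u
    rw [polarBilin_apply_apply]
    exact hz u Submodule.mem_top
  rw [this, iact_zero]

theorem hom_reflG_eq_two' (h2 : (2 : F) = 0) (hQ : (polarBilin Q).Nondegenerate)
    (hexc : ¬ Exc Q (⊤ : Submodule F (ι → F))) {A : Type*} [CommGroup A]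
    (φ : ↥(Cfsg.isometryGroup F ⇑Q) →* A) (v w : ι → F) (hv : Q v ≠ 0) (hw : Q w ≠ 0) :
    φ (reflG Q v hv) = φ (reflG Q w hw) := by
  have hch : ringChar F = 2 := CharP.ringChar_of_prime_eq_zero Nat.prime_two h2
  obtain ⟨t, ht⟩ := FiniteField.isSquare_of_char_two hch (Q v / Q w)
  have ht0 : t ≠ 0 := by
    rintro rfl
    rw [mul_zero] at ht
    exact (div_ne_zero hv hw) ht
  have hQw' : Q (t • w) = Q v := by
    rw [QuadraticMap.map_smul, smul_eq_mul, ← ht]
    field_simp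
  have hw' : Q (t • w) ≠ 0 := by rw [hQw']; exact hv
  obtain ⟨ρ, -, hρ⟩ := lemA Q h2 hQ ⊤ (nondegOn_top Q hQ) hexc (t • w) v
    Submodule.mem_top Submodule.mem_top hw' hQw'
  have h1 := reflG_conj Q ρ v hv
  have h3 : reflG Q (iact ρ v) (by rw [Q_iact]; exact hv) = reflG Q (t • w) hw' :=
    reflG_congr Q _ _ hρ _ _
  rw [← reflG_smul Q w hw t ht0 hw', ← h3, ← h1, map_mul, map_mul, map_inv, mul_comm,
    ← mul_assoc, inv_mul_cancel, one_mul]

theorem hom_ext_reflG_two' (h2 : (2 : F) = 0) (hQ : (polarBilin Q).Nondegenerate)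
    (hexc : ¬ Exc Q (⊤ : Submodule F (ι → F)))
    {A : Type*} [Monoid A] (φ ψ : ↥(Cfsg.isometryGroup F ⇑Q) →* A)
    (h : ∀ (w : ι → F) (hw : Q w ≠ 0), φ (reflG Q w hw) = ψ (reflG Q w hw)) : φ = ψ := by
  apply MonoidHom.eq_of_eqOn_dense
    (s := {r | ∃ w ∈ (⊤ : Submodule F (ι → F)), ∃ hw : Q w ≠ 0, r = reflG Q w hw})
  · rw [eq_top_iff]
    intro g _
    exact cd2' Q h2 hQ hexc g
  · rintro r ⟨w, -, hw, rfl⟩
    exact h w hw

theorem hom_formula_two' (h2 : (2 : F) = 0) (hQ : (polarBilin Q).Nondegenerate)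
    (hexc : ¬ Exc Q (⊤ : Submodule F (ι → F)))
    (δ : ↥(Cfsg.isometryGroup F ⇑Q) →* ℤˣ)
    (hδ : ∀ (w : ι → F) (hw : Q w ≠ 0), δ (reflG Q w hw) = -1)
    {A : Type*} [CommGroup A] (π : ↥(Cfsg.isometryGroup F ⇑Q) →* A)
    (v1 : ι → F) (h1 : Q v1 ≠ 0) :
    π = (involHom (π (reflG Q v1 h1)) (by rw [← map_mul, reflG_mul_self, map_one])).comp δ := by
  apply hom_ext_reflG_two' Q h2 hQ hexc
  intro w hw
  rw [MonoidHom.comp_apply, hδ w hw, involHom_neg_one]
  exact hom_reflG_eq_two' Q h2 hQ hexc π w v1 hw h1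

theorem mem_commutator_iff_two' (h2 : (2 : F) = 0) (hQ : (polarBilin Q).Nondegenerate)
    (hexc : ¬ Exc Q (⊤ : Submodule F (ι → F))) (hn : 1 ≤ Fintype.card ι)
    (δ : ↥(Cfsg.isometryGroup F ⇑Q) →* ℤˣ)
    (hδ : ∀ (w : ι → F) (hw : Q w ≠ 0), δ (reflG Q w hw) = -1)
    (g : ↥(Cfsg.isometryGroup F ⇑Q)) :
    g ∈ commutator ↥(Cfsg.isometryGroup F ⇑Q) ↔ δ g = 1 := by
  constructor
  · intro hg
    exact MonoidHom.mem_ker.mp (Abelianization.commutator_subset_ker δ hg)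
  · intro h1
    obtain ⟨v1, hv1⟩ := exists_nonsing_top Q hQ hn
    have hf := hom_formula_two' Q h2 hQ hexc δ hδ
      (Abelianization.of : ↥(Cfsg.isometryGroup F ⇑Q) →* _) v1 hv1
    rw [← Abelianization.ker_of, MonoidHom.mem_ker, hf, MonoidHom.comp_apply, h1, involHom_one]

theorem mem_commutator_iff_even_rank' (h2 : (2 : F) = 0) (hQ : (polarBilin Q).Nondegenerate)
    (hexc : ¬ Exc Q (⊤ : Submodule F (ι → F))) (hn : 1 ≤ Fintype.card ι)
    (g : ↥(Cfsg.isometryGroup F ⇑Q)) :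
    g ∈ commutator ↥(Cfsg.isometryGroup F ⇑Q) ↔
      Even (((g : Matrix.GeneralLinearGroup ι F) : Matrix ι ι F) - 1).rank := by
  rw [mem_commutator_iff_two' Q h2 hQ hexc hn (dickson Q h2 hQ) (dickson_reflG Q h2 hQ) g,
    dickson_eq_rank, neg_one_pow_eq_one_iff_even int_units_neg_one_ne_one]

/-- in characteristic two, an involution fixing a nonsingular vector has its `O`-class equal to
its `Ω`-class. -/
theorem conj_in_omega_of_fix' (h2 : (2 : F) = 0) (hQ : (polarBilin Q).Nondegenerate)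
    (hexc : ¬ Exc Q (⊤ : Submodule F (ι → F))) (hn : 1 ≤ Fintype.card ι)
    (t s : ↥(Cfsg.isometryGroup F ⇑Q)) (a : ι → F) (ha : Q a ≠ 0) (hta : iact t a = a)
    (hconj : IsConj t s) :
    ∃ g ∈ commutator ↥(Cfsg.isometryGroup F ⇑Q), g * t * g⁻¹ = s := by
  obtain ⟨c, hc⟩ := isConj_iff.mp hconj
  by_cases hcO : c ∈ commutator ↥(Cfsg.isometryGroup F ⇑Q)
  · exact ⟨c, hcO, hc⟩
  · refine ⟨c * reflG Q a ha, ?_, ?_⟩
    · rw [mem_commutator_iff_two' Q h2 hQ hexc hn (dickson Q h2 hQ) (dickson_reflG Q h2 hQ)]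
        at hcO ⊢
      rw [map_mul, dickson_reflG]
      rcases Int.units_eq_one_or (dickson Q h2 hQ c) with h | h
      · exact absurd h hcO
      · rw [h]; rfl
    · have h4 := reflG_comm_of_fix Q t a ha hta
      rw [← hc]
      calc c * reflG Q a ha * t * (c * reflG Q a ha)⁻¹
          = c * (reflG Q a ha * t) * (reflG Q a ha)⁻¹ * c⁻¹ := by group
        _ = c * (t * reflG Q a ha) * (reflG Q a ha)⁻¹ * c⁻¹ := by rw [h4]
        _ = c * t * c⁻¹ := by group

/-- in characteristic two, an involution is `Ω`-conjugate to each of its `O`-conjugates unless its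
fixed space is a maximal totally singular subspace -/
theorem conj_in_omega_of_not_mts (h2 : (2 : F) = 0) (hQ : (polarBilin Q).Nondegenerate)
    (hexc : ¬ Exc Q (⊤ : Submodule F (ι → F))) {m : ℕ} (hm : Fintype.card ι = 2 * m)
    (hm1 : 1 ≤ m) (t s : ↥(Cfsg.isometryGroup F ⇑Q)) (ht : t * t = 1)
    (hnm : ¬ MTS Q m (fixS Q t)) (hconj : IsConj t s) :
    ∃ g ∈ commutator ↥(Cfsg.isometryGroup F ⇑Q), g * t * g⁻¹ = s := by
  rcases fix_nonsing_or_mts Q h2 hQ hm t ht with ⟨a, hta, ha⟩ | ⟨h, -⟩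
  · exact conj_in_omega_of_fix' Q h2 hQ hexc (by omega) t s a ha hta hconj
  · exact absurd h hnm

end two

end Cfsg.Agent.helper29.OM
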