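import Mathlib
import Cfsg.Prelude.Def_Classical
import Cfsg.Agent.S0750

set_option autoImplicit false
set_option linter.unusedSectionVars false
set_option linter.unusedVariables false
namespace Cfsg.Agent.helper29.OConj
open Matrix

variable {F : Type*} [Field F] {ι : Type} [Fintype ι] [DecidableEq ι]

/-- involutions of an orthogonal group that are conjugate under the isometry group of the polar
form are conjugate in the orthogonal group -/
theorem conj_of_polar_conj (Qf : (ι → F) → F) (Q : QuadraticForm F (ι → F))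
    (hQf : ∀ v, Q v = Qf v) (hQ : (QuadraticMap.polarBilin Q).Nondegenerate)
    (t s : ↥(Cfsg.isometryGroup F Qf)) (ht : t * t = 1)
    (g : GL ι F)
    (hg : g ∈ Cfsg.preserving (Units.coeHom (Matrix ι ι F))
      (fun u v => Qf (u + v) - Qf u - Qf v))
    (hconj : g * (t : GL ι F) * g⁻¹ = (s : GL ι F)) : IsConj t s := by
  obtain ⟨T, hTdef⟩ : ∃ T : Matrix ι ι F, T = ((t : GL ι F) : Matrix ι ι F) := ⟨_, rfl⟩
  obtain ⟨S, hSdef⟩ : ∃ S : Matrix ι ι F, S = ((s : GL ι F) : Matrix ι ι F) := ⟨_, rfl⟩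
  obtain ⟨G, hGdef⟩ : ∃ G : Matrix ι ι F, G = (g : Matrix ι ι F) := ⟨_, rfl⟩
  obtain ⟨Gi, hGidef⟩ : ∃ Gi : Matrix ι ι F, Gi = ((g⁻¹ : GL ι F) : Matrix ι ι F) := ⟨_, rfl⟩
  have hGiG : ∀ v, Gi *ᵥ (G *ᵥ v) = v := by
    intro v
    rw [Matrix.mulVec_mulVec, hGidef, hGdef, ← Units.val_mul, inv_mul_cancel, Units.val_one,
      Matrix.one_mulVec]
  have hGGi : ∀ v, G *ᵥ (Gi *ᵥ v) = v := by
    intro v
    rw [Matrix.mulVec_mulVec, hGidef, hGdef, ← Units.val_mul, mul_inv_cancel, Units.val_one,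
      Matrix.one_mulVec]
  have hT : ∀ v, Q (T *ᵥ v) = Q v := by
    intro v
    rw [hQf, hQf, hTdef]
    exact t.2 v v
  have hS : ∀ v, Q (S *ᵥ v) = Q v := by
    intro v
    rw [hQf, hQf, hSdef]
    exact s.2 v v
  have hG : ∀ u v, QuadraticMap.polar Q (G *ᵥ u) (G *ᵥ v) = QuadraticMap.polar Q u v := by
    intro u v
    unfold QuadraticMap.polar
    rw [hQf, hQf, hQf, hQf, hQf, hQf, hGdef]
    exact hg u v
  have hTT : ∀ v, T *ᵥ (T *ᵥ v) = v := by
    intro v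
    have h1 : (t : GL ι F) * (t : GL ι F) = 1 := by
      have := congrArg Subtype.val ht
      exact this
    rw [Matrix.mulVec_mulVec, hTdef, ← Units.val_mul, h1, Units.val_one, Matrix.one_mulVec]
  have hGT : ∀ v, G *ᵥ (T *ᵥ v) = S *ᵥ (G *ᵥ v) := by
    intro v
    have h1 : g * (t : GL ι F) = (s : GL ι F) * g := by
      rw [← hconj]
      group
    rw [Matrix.mulVec_mulVec, Matrix.mulVec_mulVec, hGdef, hTdef, hSdef, ← Units.val_mul,
      ← Units.val_mul, h1]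
  have hSS : ∀ v, S *ᵥ (S *ᵥ v) = v := by
    intro v
    have h1 := hGT (T *ᵥ (Gi *ᵥ v))
    rw [hTT, hGGi] at h1
    have h2 := hGT (Gi *ᵥ v)
    rw [hGGi] at h2
    rw [← h2, ← h1]
  -- polar form invariance
  have hpT : ∀ u v, QuadraticMap.polar Q (T *ᵥ u) (T *ᵥ v) = QuadraticMap.polar Q u v := by
    intro u v
    unfold QuadraticMap.polar
    rw [← Matrix.mulVec_add, hT, hT, hT]
  have hpS : ∀ u v, QuadraticMap.polar Q (S *ᵥ u) (S *ᵥ v) = QuadraticMap.polar Q u v := by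
    intro u v
    unfold QuadraticMap.polar
    rw [← Matrix.mulVec_add, hS, hS, hS]
  -- Q on the range of N
  have hQN : ∀ v, Q (T *ᵥ v - v) = - QuadraticMap.polar Q v (T *ᵥ v - v) := by
    intro v
    have h1 := hT v
    have h2 : T *ᵥ v = v + (T *ᵥ v - v) := by abel
    have h3 : QuadraticMap.polar Q v (T *ᵥ v - v) =
        Q (v + (T *ᵥ v - v)) - Q v - Q (T *ᵥ v - v) := rfl
    rw [← h2] at h3
    linear_combination h3 + h1
  have hQN' : ∀ v, Q (S *ᵥ v - v) = - QuadraticMap.polar Q v (S *ᵥ v - v) := by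
    intro v
    have h1 := hS v
    have h2 : S *ᵥ v = v + (S *ᵥ v - v) := by abel
    have h3 : QuadraticMap.polar Q v (S *ᵥ v - v) =
        Q (v + (S *ᵥ v - v)) - Q v - Q (S *ᵥ v - v) := rfl
    rw [← h2] at h3
    linear_combination h3 + h1
  have hGN : ∀ v, G *ᵥ (T *ᵥ v - v) = S *ᵥ (G *ᵥ v) - G *ᵥ v := by
    intro v
    rw [Matrix.mulVec_sub, hGT]
  -- apply Witt to the range of `T - 1`
  obtain ⟨U, hUdef⟩ : ∃ U : Submodule F (ι → F), U = LinearMap.range (Matrix.toLin' (T - 1)) :=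
    ⟨_, rfl⟩
  have hUmem : ∀ v, T *ᵥ v - v ∈ U := by
    intro v
    rw [hUdef, LinearMap.mem_range]
    exact ⟨v, by rw [Matrix.toLin'_apply, Matrix.sub_mulVec, Matrix.one_mulVec]⟩
  have hUmem' : ∀ x, x ∈ U → ∃ v, x = T *ᵥ v - v := by
    intro x hx
    rw [hUdef, LinearMap.mem_range] at hx
    obtain ⟨v, rfl⟩ := hx
    exact ⟨v, by rw [Matrix.toLin'_apply, Matrix.sub_mulVec, Matrix.one_mulVec]⟩
  obtain ⟨γ, hγQ, hγU⟩ := Cfsg.Agent.S0750.witt Q hQ _ U (Matrix.toLin' G) rfl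
    (by
      intro x hx
      obtain ⟨v, rfl⟩ := hUmem' x hx
      rw [Matrix.toLin'_apply, hGN, hQN', hQN, ← hGN, hG])
    (by
      intro x hx h0
      rw [Matrix.toLin'_apply] at h0
      have := hGiG x
      rw [h0, Matrix.mulVec_zero] at this
      exact this.symm)
  have hγp : ∀ x y, QuadraticMap.polar Q (γ x) (γ y) = QuadraticMap.polar Q x y := by
    intro x y
    exact Cfsg.Agent.S0750.iso_B Q γ ⊤ (fun x _ => hγQ x) x trivial y trivial
  have hγinj := Cfsg.Agent.S0750.inj_of_iso Q hQ γ hγQ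
  -- the key identity
  have key : ∀ x, γ (T *ᵥ x) = S *ᵥ (γ x) := by
    intro x
    have h1 : γ (T *ᵥ x) = γ x + (S *ᵥ (G *ᵥ x) - G *ᵥ x) := by
      have h2 : T *ᵥ x = x + (T *ᵥ x - x) := by abel
      rw [h2, map_add, hγU _ (hUmem x), Matrix.toLin'_apply, hGN]
    obtain ⟨d, hd⟩ : ∃ d : ι → F, d = G *ᵥ x - γ x := ⟨_, rfl⟩
    have hd0 : S *ᵥ d - d = 0 := by
      apply hQ.1
      intro y
      show QuadraticMap.polar Q (S *ᵥ d - d) y = 0
      obtain ⟨w, hw⟩ : ∃ w : ι → F, w = T *ᵥ (Gi *ᵥ y) - Gi *ᵥ y := ⟨_, rfl⟩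
      have hwU : w ∈ U := by rw [hw]; exact hUmem _
      have hGw : G *ᵥ w = S *ᵥ y - y := by rw [hw, hGN, hGGi]
      have h3 : QuadraticMap.polar Q (S *ᵥ d) y = QuadraticMap.polar Q d (S *ᵥ y) := by
        rw [← hpS (S *ᵥ d) y, hSS]
      rw [QuadraticMap.polar_sub_left, h3, ← QuadraticMap.polar_sub_right, ← hGw, hd,
        QuadraticMap.polar_sub_left, hG]
      have h4 : G *ᵥ w = γ w := by rw [hγU w hwU, Matrix.toLin'_apply]
      rw [h4, hγp, sub_self]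
    rw [h1]
    have h5 : S *ᵥ (G *ᵥ x) - G *ᵥ x = S *ᵥ (γ x) - γ x := by
      have h6 : G *ᵥ x = d + γ x := by rw [hd]; abel
      rw [h6, Matrix.mulVec_add]
      have h7 : S *ᵥ d = d := sub_eq_zero.mp hd0
      rw [h7]
      abel
    rw [h5]
    abel
  -- build the isometry
  obtain ⟨γe, hγe⟩ : ∃ γe : (ι → F) ≃ₗ[F] (ι → F), ∀ x, γe x = γ x :=
    ⟨LinearEquiv.ofInjectiveEndo γ hγinj, fun x => by rw [LinearEquiv.coe_ofInjectiveEndo]⟩
  have hH1 : LinearMap.toMatrix' γ * LinearMap.toMatrix' γe.symm.toLinearMap = 1 := by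
    rw [← LinearMap.toMatrix'_comp]
    have : γ ∘ₗ γe.symm.toLinearMap = LinearMap.id := by
      apply LinearMap.ext
      intro x
      rw [LinearMap.comp_apply, LinearEquiv.coe_coe, ← hγe, LinearEquiv.apply_symm_apply,
        LinearMap.id_apply]
    rw [this, LinearMap.toMatrix'_id]
  have hH2 : LinearMap.toMatrix' γe.symm.toLinearMap * LinearMap.toMatrix' γ = 1 := by
    rw [← LinearMap.toMatrix'_comp]
    have : γe.symm.toLinearMap ∘ₗ γ = LinearMap.id := by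
      apply LinearMap.ext
      intro x
      rw [LinearMap.comp_apply, LinearEquiv.coe_coe, ← hγe, LinearEquiv.symm_apply_apply,
        LinearMap.id_apply]
    rw [this, LinearMap.toMatrix'_id]
  obtain ⟨hGL, hhGL⟩ : ∃ h : GL ι F, (h : Matrix ι ι F) = LinearMap.toMatrix' γ :=
    ⟨⟨LinearMap.toMatrix' γ, LinearMap.toMatrix' γe.symm.toLinearMap, hH1, hH2⟩, rfl⟩
  have hO : hGL ∈ Cfsg.isometryGroup F Qf := by
    intro u v
    show Qf ((hGL : Matrix ι ι F) *ᵥ u) = Qf u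
    rw [hhGL, LinearMap.toMatrix'_mulVec, ← hQf, ← hQf, hγQ]
  rw [isConj_iff]
  refine ⟨⟨hGL, hO⟩, ?_⟩
  rw [mul_inv_eq_iff_eq_mul]
  apply Subtype.ext
  apply Units.ext
  show (hGL : Matrix ι ι F) * ((t : GL ι F) : Matrix ι ι F) =
    ((s : GL ι F) : Matrix ι ι F) * (hGL : Matrix ι ι F)
  rw [hhGL, ← hTdef, ← hSdef, Matrix.ext_iff_mulVec]
  intro x
  rw [← Matrix.mulVec_mulVec, ← Matrix.mulVec_mulVec, LinearMap.toMatrix'_mulVec,
    LinearMap.toMatrix'_mulVec, key]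

end Cfsg.Agent.helper29.OConj
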