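import Mathlib
import Cfsg.Agent.Lib_helper29_SpInv5
import Cfsg.Agent.Lib_helper29_OConj
import Cfsg.Agent.Lib_helper13_QStd

set_option autoImplicit false
set_option linter.unusedSectionVars false
set_option linter.unusedVariables false
namespace Cfsg.Agent.helper29.OInv
open Matrix Cfsg.Agent.helper4 Cfsg.Agent.S0245 Cfsg.Agent.S2594 Cfsg.Agent.S0440 Cfsg.Agent.helper29
open Cfsg.Agent.helper29.SpInv

variable {F : Type*} [Field F] {m : ℕ}

local notation "Sp" => Matrix.symplecticGroup (Fin m) F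
local notation "ff" => Cfsg.sympForm m F
local notation "VV" => (Fin m ⊕ Fin m → F)
local notation "MM" => Matrix (Fin m ⊕ Fin m) (Fin m ⊕ Fin m) F
set_option quotPrecheck false in
local notation "OO" => ↥(Cfsg.isometryGroup F (Cfsg.quadFormPlus m F))
local notation "QQ" => Cfsg.quadFormPlus m F

theorem polar_eq_ff [CharP F 2] (u v : VV) : QQ (u + v) - QQ u - QQ v = ff u v := by
  have h2 : (2 : F) = 0 := CharTwo.two_eq_zero
  rw [sympForm_eq_sum]
  unfold Cfsg.quadFormPlus
  rw [← Finset.sum_sub_distrib, ← Finset.sum_sub_distrib]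
  apply Finset.sum_congr rfl
  intro i _
  simp only [Pi.add_apply]
  linear_combination (u (Sum.inl i) * v (Sum.inr i)) * h2

theorem QQ_add [CharP F 2] (u v : VV) : QQ (u + v) = QQ u + QQ v + ff u v := by
  rw [← polar_eq_ff]
  ring

theorem QQ_smul (c : F) (u : VV) : QQ (c • u) = c ^ 2 * QQ u := by
  unfold Cfsg.quadFormPlus
  rw [Finset.mul_sum]
  apply Finset.sum_congr rfl
  intro i _
  simp only [Pi.smul_apply, smul_eq_mul]
  ring

theorem QQ_zero : QQ (0 : VV) = 0 := by
  unfold Cfsg.quadFormPlus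
  simp

theorem QQ_sum_iso [CharP F 2] {ι : Type*} (w : ι → VV) (hiso : ∀ i j, ff (w i) (w j) = 0)
    (c : ι → F) (s : Finset ι) :
    QQ (∑ i ∈ s, c i • w i) = ∑ i ∈ s, c i ^ 2 * QQ (w i) := by
  classical
  induction s using Finset.induction_on with
  | empty => rw [Finset.sum_empty, Finset.sum_empty, QQ_zero]
  | insert a s ha ih =>
    rw [Finset.sum_insert ha, Finset.sum_insert ha, QQ_add, ih, QQ_smul, ff_sum_right]
    have : ∑ i ∈ s, ff (c a • w a) (c i • w i) = 0 := by
      apply Finset.sum_eq_zero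
      intro i _
      rw [sympForm_smul_left, sympForm_smul_right, hiso, mul_zero, mul_zero]
    rw [this, add_zero]

/-- an isometry of the hyperbolic form as a symplectic matrix -/
def toSp [CharP F 2] : OO →* Sp where
  toFun t := ⟨((t : GL (Fin m ⊕ Fin m) F) : MM), mem_sp_of_preserves _ (fun u v => by
    rw [← polar_eq_ff, ← polar_eq_ff, ← Matrix.mulVec_add]
    have h1 := t.2 (u + v) (u + v)
    have h2 := t.2 u u
    have h3 := t.2 v v
    simp only at h1 h2 h3
    exact congrArg₂ (· - ·) (congrArg₂ (· - ·) h1 h2) h3)⟩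
  map_one' := by
    apply Subtype.ext
    rfl
  map_mul' a b := by
    apply Subtype.ext
    rfl

theorem toSp_coe [CharP F 2] (t : OO) :
    ((toSp t : Sp) : MM) = ((t : GL (Fin m ⊕ Fin m) F) : MM) := rfl

theorem toSp_injective [CharP F 2] : Function.Injective (toSp (F := F) (m := m)) := by
  intro a b hab
  apply Subtype.ext
  apply Units.ext
  have := congrArg Subtype.val hab
  exact this

/-- a symplectic matrix as an element of the general linear group -/
def spToGL (a : Sp) : GL (Fin m ⊕ Fin m) F :=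
  ⟨(a : MM), ((a⁻¹ : Sp) : MM), by
    rw [← Submonoid.coe_mul, mul_inv_cancel, Submonoid.coe_one], by
    rw [← Submonoid.coe_mul, inv_mul_cancel, Submonoid.coe_one]⟩

theorem spToGL_coe (a : Sp) : ((spToGL a : GL (Fin m ⊕ Fin m) F) : MM) = (a : MM) := rfl

theorem spToGL_mul (a b : Sp) : spToGL (a * b) = spToGL a * spToGL b := by
  apply Units.ext
  rfl

theorem spToGL_inv (a : Sp) : spToGL a⁻¹ = (spToGL a)⁻¹ := by
  apply Units.ext
  rfl

theorem spToGL_toSp [CharP F 2] (t : OO) : spToGL (toSp t) = (t : GL (Fin m ⊕ Fin m) F) := by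
  apply Units.ext
  rfl

/-- a symplectic matrix preserving the quadratic form as an isometry -/
def ofSp (a : Sp) (ha : ∀ x, QQ ((a : MM) *ᵥ x) = QQ x) : OO :=
  ⟨spToGL a, fun u v => ha u⟩

theorem toSp_ofSp [CharP F 2] (a : Sp) (ha : ∀ x, QQ ((a : MM) *ᵥ x) = QQ x) :
    toSp (ofSp a ha) = a := by
  apply Subtype.ext
  rfl

/-- conjugacy of involutions in the orthogonal group is detected in the symplectic group -/
theorem isConj_iff_toSp [CharP F 2] (t s : OO) (ht : t * t = 1) :
    IsConj t s ↔ IsConj (toSp t) (toSp s) := by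
  constructor
  · intro h
    exact MonoidHom.map_isConj toSp h
  · intro h
    rw [isConj_iff] at h
    obtain ⟨a, ha⟩ := h
    apply Cfsg.Agent.helper29.OConj.conj_of_polar_conj (Cfsg.quadFormPlus m F)
      (Cfsg.Agent.helper13.QPlus F m) (Cfsg.Agent.helper13.QPlus_apply F m)
      (Cfsg.Agent.helper13.QPlus_nondeg (F := F) m) t s ht (spToGL a)
    · intro u v
      show QQ (_ + _) - QQ _ - QQ _ = QQ (u + v) - QQ u - QQ v
      rw [polar_eq_ff, polar_eq_ff]
      exact Cfsg.Agent.S0766.sympForm_mulVec a u v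
    · rw [← spToGL_toSp t, ← spToGL_toSp s, ← spToGL_inv, ← spToGL_mul, ← spToGL_mul, ha]

end Cfsg.Agent.helper29.OInv
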