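import Mathlib
import Cfsg.Agent.Lib_helper29_OInv1

set_option autoImplicit false
set_option linter.unusedSectionVars false
set_option linter.unusedVariables false
namespace Cfsg.Agent.helper29.OInv
open Matrix Cfsg.Agent.helper4 Cfsg.Agent.S0245 Cfsg.Agent.S2594 Cfsg.Agent.S0440 Cfsg.Agent.helper29
open Cfsg.Agent.helper29.SpInv

variable {F : Type*} [Field F] {m : ℕ}

local notation "Sp" => Matrix.symplecticGroup (Fin m) F
local notation "ff" => Cfsg.sympForm m F
local notation "VV" => (Fin m ⊕ Fin m → F)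
local notation "MM" => Matrix (Fin m ⊕ Fin m) (Fin m ⊕ Fin m) F
set_option quotPrecheck false in
local notation "OO" => ↥(Cfsg.isometryGroup F (Cfsg.quadFormPlus m F))
local notation "QQ" => Cfsg.quadFormPlus m F

theorem model_rank [CharP F 2] {ι : Type*} [Fintype ι] [DecidableEq ι] (σ : Equiv.Perm ι)
    (hσ : ∀ i, σ (σ i) = i) (w : ι → VV) (hiso : ∀ i j, ff (w i) (w j) = 0)
    (hLI : LinearIndependent F w) (y : ι → VV)
    (hy : ∀ k i, ff (y k) (w (σ i)) = if i = k then 1 else 0) :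
    (∀ k, NNs (modelInv σ hσ w hiso) *ᵥ y k = w k) ∧
    (NNs (modelInv σ hσ w hiso)).rank = Fintype.card ι := by
  have hN : ∀ k, NNs (modelInv σ hσ w hiso) *ᵥ y k = w k := by
    intro k
    rw [modelInv_N, Finset.sum_eq_single k]
    · rw [hy, if_pos rfl, one_smul]
    · intro i _ hi
      rw [hy, if_neg hi, zero_smul]
    · intro h
      exact absurd (Finset.mem_univ _) h
  exact ⟨hN, rank_of_form σ _ w hLI (fun k => ⟨y k, (hN k).symm⟩) (modelInv_N σ hσ w hiso)⟩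

theorem modelInv_Q_I [CharP F 2] {ι : Type*} [Fintype ι] (w : ι → VV)
    (hiso : ∀ i j, ff (w i) (w j) = 0) (hQw : ∀ i, QQ (w i) = 1)
    (hσ : ∀ i, (Equiv.refl ι) ((Equiv.refl ι) i) = i) (x : VV) :
    QQ (((modelInv (Equiv.refl ι) hσ w hiso : Sp) : MM) *ᵥ x) = QQ x := by
  have h2 : (2 : F) = 0 := CharTwo.two_eq_zero
  rw [modelInv_mulVec, QQ_add]
  have h1 : SSp (Equiv.refl ι) w x = ∑ i ∈ Finset.univ, ff x (w i) • w i := rfl
  rw [h1, QQ_sum_iso w hiso, ff_sum_right]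
  simp only [sympForm_smul_right, hQw, mul_one]
  have h3 : ∀ i, ff x (w i) * ff x (w i) = ff x (w i) ^ 2 := fun i => (pow_two _).symm
  rw [Finset.sum_congr rfl (fun i _ => h3 i)]
  linear_combination (∑ i, ff x (w i) ^ 2) * h2

theorem modelInv_Q_II [CharP F 2] {k : ℕ} (w : Fin k ⊕ Fin k → VV)
    (hiso : ∀ i j, ff (w i) (w j) = 0) (hQw : ∀ i, QQ (w i) = 0)
    (hσ : ∀ i, (Equiv.sumComm (Fin k) (Fin k)) ((Equiv.sumComm (Fin k) (Fin k)) i) = i)
    (x : VV) :
    QQ (((modelInv (Equiv.sumComm (Fin k) (Fin k)) hσ w hiso : Sp) : MM) *ᵥ x) = QQ x := by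
  have h2 : (2 : F) = 0 := CharTwo.two_eq_zero
  rw [modelInv_mulVec, QQ_add]
  have h1 : SSp (Equiv.sumComm (Fin k) (Fin k)) w x =
      ∑ i ∈ Finset.univ, ff x (w (Sum.swap i)) • w i := rfl
  rw [h1, QQ_sum_iso w hiso, ff_sum_right]
  simp only [sympForm_smul_right, hQw, mul_zero, Finset.sum_const_zero, add_zero]
  rw [Fintype.sum_sum_type]
  simp only [Sum.swap_inl, Sum.swap_inr]
  have h3 : ∑ j : Fin k, ff x (w (Sum.inl j)) * ff x (w (Sum.inr j)) =
      ∑ j : Fin k, ff x (w (Sum.inr j)) * ff x (w (Sum.inl j)) :=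
    Finset.sum_congr rfl (fun j _ => mul_comm _ _)
  rw [h3]
  linear_combination (∑ j : Fin k, ff x (w (Sum.inr j)) * ff x (w (Sum.inl j))) * h2

theorem mul_self_of_toSp [CharP F 2] (t : OO) (h : toSp t * toSp t = 1) : t * t = 1 := by
  apply toSp_injective
  rw [map_mul, h, map_one]

/-- existence of an orthogonal involution of non-alternating type from a frame -/
theorem exists_I_of_frame [CharP F 2] {s : ℕ} (hs : 1 ≤ s) (w y : Fin s → VV)
    (hiso : ∀ i j, ff (w i) (w j) = 0) (hLI : LinearIndependent F w)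
    (hy : ∀ k i, ff (y k) (w i) = if i = k then 1 else 0) (hQw : ∀ i, QQ (w i) = 1) :
    ∃ t : OO, t * t = 1 ∧ ¬ IsAltInv (toSp t) ∧ (NNs (toSp t)).rank = s := by
  have hσ : ∀ i, (Equiv.refl (Fin s)) ((Equiv.refl (Fin s)) i) = i := fun i => rfl
  obtain ⟨hN, hrank⟩ := model_rank (Equiv.refl (Fin s)) hσ w hiso hLI y hy
  refine ⟨ofSp (modelInv (Equiv.refl (Fin s)) hσ w hiso) (modelInv_Q_I w hiso hQw hσ), ?_, ?_, ?_⟩
  · apply mul_self_of_toSp
    rw [toSp_ofSp]
    exact modelInv_sq _ hσ w hiso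
  · rw [toSp_ofSp]
    intro halt
    have := halt (y ⟨0, hs⟩)
    unfold bet at this
    rw [hN, sympForm_swap, hy, if_pos rfl] at this
    exact one_ne_zero (neg_eq_zero.mp this)
  · rw [toSp_ofSp, hrank, Fintype.card_fin]

/-- existence of an orthogonal involution of alternating type from a frame -/
theorem exists_II_of_frame [CharP F 2] {k : ℕ} (w y : Fin k ⊕ Fin k → VV)
    (hiso : ∀ i j, ff (w i) (w j) = 0) (hLI : LinearIndependent F w)
    (hy : ∀ l i, ff (y l) (w (Sum.swap i)) = if i = l then 1 else 0)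
    (hQw : ∀ i, QQ (w i) = 0) :
    ∃ t : OO, t * t = 1 ∧ IsAltInv (toSp t) ∧ (NNs (toSp t)).rank = k + k := by
  have hσ : ∀ i, (Equiv.sumComm (Fin k) (Fin k)) ((Equiv.sumComm (Fin k) (Fin k)) i) = i := by
    intro i
    cases i <;> rfl
  obtain ⟨hN, hrank⟩ := model_rank (Equiv.sumComm (Fin k) (Fin k)) hσ w hiso hLI y hy
  refine ⟨ofSp (modelInv (Equiv.sumComm (Fin k) (Fin k)) hσ w hiso)
    (modelInv_Q_II w hiso hQw hσ), ?_, ?_, ?_⟩
  · apply mul_self_of_toSp
    rw [toSp_ofSp]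
    exact modelInv_sq _ hσ w hiso
  · rw [toSp_ofSp]
    exact alt_of_swap _ w (modelInv_N _ hσ w hiso)
  · rw [toSp_ofSp, hrank, Fintype.card_sum, Fintype.card_fin]

end Cfsg.Agent.helper29.OInv
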