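import Mathlib
import Cfsg.Agent.Lib_helper29_OInv2

set_option autoImplicit false
set_option linter.unusedSectionVars false
set_option linter.unusedVariables false
namespace Cfsg.Agent.helper29.OInv
open Matrix Cfsg.Agent.helper4 Cfsg.Agent.S0245 Cfsg.Agent.S2594 Cfsg.Agent.S0440 Cfsg.Agent.helper29
open Cfsg.Agent.helper29.SpInv Cfsg.Agent.S0765

variable {F : Type*} [Field F] {m : ℕ}

local notation "Sp" => Matrix.symplecticGroup (Fin m) F
local notation "ff" => Cfsg.sympForm m F
local notation "VV" => (Fin m ⊕ Fin m → F)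
local notation "MM" => Matrix (Fin m ⊕ Fin m) (Fin m ⊕ Fin m) F
set_option quotPrecheck false in
local notation "OO" => ↥(Cfsg.isometryGroup F (Cfsg.quadFormPlus m F))
local notation "QQ" => Cfsg.quadFormPlus m F

/-- the vector `e_a + f_a` -/
def hv (a : Fin m) : VV := bv (Sum.inl a) + bv (Sum.inr a)

theorem hv_inl (a b : Fin m) : (hv a : VV) (Sum.inl b) = if b = a then 1 else 0 := by
  simp [hv, bv, Pi.single_apply]

theorem hv_inr (a b : Fin m) : (hv a : VV) (Sum.inr b) = if b = a then 1 else 0 := by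
  simp [hv, bv, Pi.single_apply]

theorem ff_hv (a b : Fin m) : ff (hv a) (hv b) = 0 := by
  unfold hv
  rw [sympForm_add_left, form_bv_inl, form_bv_inr]
  have h1 := hv_inl (F := F) b a
  have h2 := hv_inr (F := F) b a
  unfold hv at h1 h2
  rw [h1, h2]
  ring

theorem QQ_hv (a : Fin m) : QQ (hv a) = 1 := by
  unfold Cfsg.quadFormPlus
  rw [Finset.sum_eq_single a]
  · rw [hv_inl, hv_inr, if_pos rfl, mul_one]
  · intro b _ hb
    rw [hv_inl, if_neg hb, zero_mul]
  · intro h
    exact absurd (Finset.mem_univ _) h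

theorem QQ_bv_inl (a : Fin m) : QQ (bv (Sum.inl a)) = 0 := by
  unfold Cfsg.quadFormPlus
  apply Finset.sum_eq_zero
  intro i _
  simp [bv]

theorem exists_I_O [CharP F 2] (s : ℕ) (hs1 : 1 ≤ s) (hsm : s ≤ m) :
    ∃ t : OO, t * t = 1 ∧ ¬ IsAltInv (toSp t) ∧ (NNs (toSp t)).rank = s := by
  have he : Function.Injective (Fin.castLE hsm) := Fin.castLE_injective hsm
  apply exists_I_of_frame hs1 (fun i => hv (Fin.castLE hsm i))
    (fun k => bv (Sum.inr (Fin.castLE hsm k)))
  · intro i j
    exact ff_hv _ _
  · rw [Fintype.linearIndependent_iff]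
    intro c hc k
    have := congrFun hc (Sum.inl (Fin.castLE hsm k))
    simp only [Finset.sum_apply, Pi.smul_apply, hv_inl, smul_eq_mul, Pi.zero_apply] at this
    rw [Finset.sum_eq_single k] at this
    · rw [if_pos rfl, mul_one] at this
      exact this
    · intro i _ hi
      rw [if_neg (fun h => hi (he h).symm), mul_zero]
    · intro h
      exact absurd (Finset.mem_univ _) h
  · intro k i
    rw [form_bv_inr, hv_inl]
    by_cases h : i = k
    · rw [if_pos h, if_pos (by rw [h])]
    · rw [if_neg h, if_neg (fun h' => h (he h').symm)]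
  · intro i
    exact QQ_hv _

theorem exists_II_O [CharP F 2] (k : ℕ) (hkm : k + k ≤ m) :
    ∃ t : OO, t * t = 1 ∧ IsAltInv (toSp t) ∧ (NNs (toSp t)).rank = k + k := by
  obtain ⟨e, he0⟩ : ∃ e : Fin k ⊕ Fin k → Fin m, e = fun i => Fin.castLE hkm (finSumFinEquiv i) :=
    ⟨_, rfl⟩
  have he : Function.Injective e := by
    rw [he0]
    intro i j hij
    exact finSumFinEquiv.injective (Fin.castLE_injective hkm hij)
  apply exists_II_of_frame (fun i => bv (Sum.inl (e i))) (fun l => bv (Sum.inr (e (Sum.swap l))))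
  · intro i j
    exact std_iso _ _
  · exact std_LI e he
  · intro l i
    rw [form_bv_inr]
    unfold bv
    by_cases h : i = l
    · rw [if_pos h, h, Pi.single_eq_same]
    · rw [if_neg h, Pi.single_eq_of_ne]
      intro h'
      apply h
      have := he (Sum.inl.inj h')
      exact (Sum.swap_leftInverse.injective this).symm
  · intro i
    exact QQ_bv_inl _

end Cfsg.Agent.helper29.OInv
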