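import Mathlib
import Cfsg.Agent.Lib_helper29_OInv3

set_option autoImplicit false
set_option linter.unusedSectionVars false
set_option linter.unusedVariables false
namespace Cfsg.Agent.helper29.OInv
open Matrix Cfsg.Agent.helper4 Cfsg.Agent.S0245 Cfsg.Agent.S2594 Cfsg.Agent.S0440 Cfsg.Agent.helper29
open Cfsg.Agent.helper29.SpInv Cfsg.Agent.S0765

variable {F : Type*} [Field F] {m : ℕ}

local notation "Sp" => Matrix.symplecticGroup (Fin m) F
local notation "ff" => Cfsg.sympForm m F
local notation "VV" => (Fin m ⊕ Fin m → F)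
local notation "MM" => Matrix (Fin m ⊕ Fin m) (Fin m ⊕ Fin m) F
set_option quotPrecheck false in
local notation "OO" => ↥(Cfsg.isometryGroup F (Cfsg.quadFormPlus m F))
local notation "QQ" => Cfsg.quadFormPlus m F

/-- the number of classes of involutions in `O^+_{2m}(F)`, `F` finite of characteristic two -/
theorem class_count_O [Fintype F] [CharP F 2] :
    Nat.card {C : ConjClasses OO // ∃ g : OO, ConjClasses.mk g = C ∧ orderOf g = 2} =
      m + m / 2 := by
  classical
  have hI : ∀ i : Fin m, ∃ t : OO, t * t = 1 ∧ ¬ IsAltInv (toSp t) ∧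
      (NNs (toSp t)).rank = i.val + 1 :=
    fun i => exists_I_O (i.val + 1) (by omega) (by omega)
  have hII : ∀ j : Fin (m / 2), ∃ t : OO, t * t = 1 ∧ IsAltInv (toSp t) ∧
      (NNs (toSp t)).rank = (j.val + 1) + (j.val + 1) :=
    fun j => exists_II_O (j.val + 1) (by have := j.2; omega)
  choose rI hrI using hI
  choose rII hrII using hII
  obtain ⟨rep, hrep⟩ : ∃ rep : Fin m ⊕ Fin (m / 2) → OO, rep = Sum.elim rI rII := ⟨_, rfl⟩
  have hrep_sq : ∀ p, rep p * rep p = 1 := by
    intro p
    rw [hrep]
    cases p with
    | inl i => exact (hrI i).1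
    | inr j => exact (hrII j).1
  have hrep_ne : ∀ p, rep p ≠ 1 := by
    intro p hp
    have h1 : toSp (rep p) ≠ 1 := by
      apply ne_one_of_rank
      rw [hrep]
      cases p with
      | inl i => rw [Sum.elim_inl, (hrI i).2.2]; omega
      | inr j => rw [Sum.elim_inr, (hrII j).2.2]; omega
    apply h1
    rw [hp, map_one]
  have hord : ∀ p, orderOf (rep p) = 2 := by
    intro p
    exact orderOf_eq_prime (by rw [pow_two]; exact hrep_sq p) (hrep_ne p)
  have hbij : Function.Bijective (fun p : Fin m ⊕ Fin (m / 2) =>
      (⟨ConjClasses.mk (rep p), rep p, rfl, hord p⟩ :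
        {C : ConjClasses OO // ∃ g : OO, ConjClasses.mk g = C ∧ orderOf g = 2})) := by
    constructor
    · intro p p' hpp
      have h1 : ConjClasses.mk (rep p) = ConjClasses.mk (rep p') := congrArg Subtype.val hpp
      rw [ConjClasses.mk_eq_mk_iff_isConj] at h1
      have h1' := MonoidHom.map_isConj toSp h1
      rw [isConj_iff] at h1'
      obtain ⟨g, hg⟩ := h1'
      have hrk := rank_conj g (toSp (rep p))
      have halt := alt_conj g (toSp (rep p))
      rw [hg] at hrk halt
      rw [hrep] at hrk halt
      cases p with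
      | inl i =>
        cases p' with
        | inl i' =>
          rw [Sum.elim_inl, Sum.elim_inl, (hrI i).2.2, (hrI i').2.2] at hrk
          congr 1
          apply Fin.ext
          omega
        | inr j' =>
          exfalso
          rw [Sum.elim_inl, Sum.elim_inr] at halt
          exact (hrI i).2.1 (halt.mp (hrII j').2.1)
      | inr j =>
        cases p' with
        | inl i' =>
          exfalso
          rw [Sum.elim_inl, Sum.elim_inr] at halt
          exact (hrI i').2.1 (halt.mpr (hrII j).2.1)
        | inr j' =>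
          rw [Sum.elim_inr, Sum.elim_inr, (hrII j).2.2, (hrII j').2.2] at hrk
          congr 1
          apply Fin.ext
          omega
    · rintro ⟨C, g, hgC, hgo⟩
      have hg2 : g * g = 1 := by
        have := pow_orderOf_eq_one g
        rw [hgo, pow_two] at this
        exact this
      have hg1 : g ≠ 1 := by
        rintro rfl
        rw [orderOf_one] at hgo
        omega
      have ha2 : toSp g * toSp g = 1 := by rw [← map_mul, hg2, map_one]
      have ha1 : toSp g ≠ 1 := by
        intro h
        apply hg1
        apply toSp_injective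
        rw [h, map_one]
      have hr1 := rank_pos (toSp g) ha1
      have hr2 := rank_le (toSp g) ha2
      by_cases halt : IsAltInv (toSp g)
      · obtain ⟨t, ht⟩ := rank_II (toSp g) ha2 halt
        have htm : t - 1 < m / 2 := by omega
        refine ⟨Sum.inr ⟨t - 1, htm⟩, ?_⟩
        apply Subtype.ext
        show ConjClasses.mk (rep (Sum.inr ⟨t - 1, htm⟩)) = C
        rw [← hgC, ConjClasses.mk_eq_mk_iff_isConj, hrep, Sum.elim_inr,
          isConj_iff_toSp _ _ (hrII _).1]
        have ha2' : toSp (rII ⟨t - 1, htm⟩) * toSp (rII ⟨t - 1, htm⟩) = 1 := by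
          rw [← map_mul, (hrII _).1, map_one]
        apply conj_II _ _ ha2' ha2 (hrII _).2.1 halt
        rw [(hrII _).2.2, ht]
        show (t - 1 + 1) + (t - 1 + 1) = t + t
        omega
      · have hsm : (NNs (toSp g)).rank - 1 < m := by omega
        refine ⟨Sum.inl ⟨(NNs (toSp g)).rank - 1, hsm⟩, ?_⟩
        apply Subtype.ext
        show ConjClasses.mk (rep (Sum.inl ⟨(NNs (toSp g)).rank - 1, hsm⟩)) = C
        rw [← hgC, ConjClasses.mk_eq_mk_iff_isConj, hrep, Sum.elim_inl,
          isConj_iff_toSp _ _ (hrI _).1]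
        have ha2' : toSp (rI ⟨(NNs (toSp g)).rank - 1, hsm⟩) *
            toSp (rI ⟨(NNs (toSp g)).rank - 1, hsm⟩) = 1 := by
          rw [← map_mul, (hrI _).1, map_one]
        apply conj_I _ _ ha2' ha2 (hrI _).2.1 halt
        rw [(hrI _).2.2]
        show (NNs (toSp g)).rank - 1 + 1 = (NNs (toSp g)).rank
        omega
  rw [← Nat.card_eq_of_bijective _ hbij, Nat.card_eq_fintype_card, Fintype.card_sum,
    Fintype.card_fin, Fintype.card_fin]

end Cfsg.Agent.helper29.OInv
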