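import Mathlib
import Cfsg.Agent.Lib_helper29_OInv4

set_option autoImplicit false
set_option linter.unusedSectionVars false
set_option linter.unusedVariables false
namespace Cfsg.Agent.helper29.OM
open Matrix Cfsg.Agent.helper4 Cfsg.Agent.S0245 Cfsg.Agent.S2594 Cfsg.Agent.S0440 Cfsg.Agent.helper29
open Cfsg.Agent.helper29.SpInv Cfsg.Agent.helper29.OInv

variable {F : Type*} [Field F] {m : ℕ}

local notation "Sp" => Matrix.symplecticGroup (Fin m) F
local notation "ff" => Cfsg.sympForm m F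
local notation "VV" => (Fin m ⊕ Fin m → F)
local notation "MM" => Matrix (Fin m ⊕ Fin m) (Fin m ⊕ Fin m) F

/-- quadratic forms on the standard symplectic space whose polar form is the standard form -/
structure IsQF (Qf : VV → F) : Prop where
  add : ∀ u v, Qf (u + v) = Qf u + Qf v + ff u v
  smul : ∀ (c : F) (u : VV), Qf (c • u) = c ^ 2 * Qf u

variable {Qf : (Fin m ⊕ Fin m → F) → F}

theorem IsQF.zero (hQ : IsQF Qf) : Qf 0 = 0 := by
  have := hQ.smul 0 0
  rw [zero_smul] at this
  rw [this]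
  ring

theorem IsQF.polar (hQ : IsQF Qf) (u v : VV) : Qf (u + v) - Qf u - Qf v = ff u v := by
  rw [hQ.add]
  ring

theorem IsQF.sum_iso (hQ : IsQF Qf) {ι : Type*} (w : ι → VV)
    (hiso : ∀ i j, ff (w i) (w j) = 0) (c : ι → F) (s : Finset ι) :
    Qf (∑ i ∈ s, c i • w i) = ∑ i ∈ s, c i ^ 2 * Qf (w i) := by
  classical
  induction s using Finset.induction_on with
  | empty => rw [Finset.sum_empty, Finset.sum_empty, hQ.zero]
  | insert a s ha ih =>
    rw [Finset.sum_insert ha, Finset.sum_insert ha, hQ.add, ih, hQ.smul, ff_sum_right]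
    have : ∑ i ∈ s, ff (c a • w a) (c i • w i) = 0 := by
      apply Finset.sum_eq_zero
      intro i _
      rw [sympForm_smul_left, sympForm_smul_right, hiso, mul_zero, mul_zero]
    rw [this, add_zero]

/-- the hyperbolic form is of this kind -/
theorem isQF_plus [CharP F 2] : IsQF (Cfsg.quadFormPlus m F) :=
  ⟨QQ_add, QQ_smul⟩

/-- an isometry as a symplectic matrix -/
def toSpQ (hQ : IsQF Qf) : ↥(Cfsg.isometryGroup F Qf) →* Sp where
  toFun t := ⟨((t : GL (Fin m ⊕ Fin m) F) : MM), mem_sp_of_preserves _ (fun u v => by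
    rw [← hQ.polar, ← hQ.polar, ← Matrix.mulVec_add]
    have h1 := t.2 (u + v) (u + v)
    have h2 := t.2 u u
    have h3 := t.2 v v
    simp only at h1 h2 h3
    exact congrArg₂ (· - ·) (congrArg₂ (· - ·) h1 h2) h3)⟩
  map_one' := by
    apply Subtype.ext
    rfl
  map_mul' a b := by
    apply Subtype.ext
    rfl

theorem toSpQ_coe (hQ : IsQF Qf) (t : ↥(Cfsg.isometryGroup F Qf)) :
    ((toSpQ hQ t : Sp) : MM) = ((t : GL (Fin m ⊕ Fin m) F) : MM) := rfl

theorem toSpQ_injective (hQ : IsQF Qf) : Function.Injective (toSpQ hQ) := by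
  intro a b hab
  apply Subtype.ext
  apply Units.ext
  have := congrArg Subtype.val hab
  exact this

theorem toSpQ_preserves (hQ : IsQF Qf) (t : ↥(Cfsg.isometryGroup F Qf)) (x : VV) :
    Qf (((toSpQ hQ t : Sp) : MM) *ᵥ x) = Qf x := t.2 x x

theorem spToGL_toSpQ (hQ : IsQF Qf) (t : ↥(Cfsg.isometryGroup F Qf)) :
    spToGL (toSpQ hQ t) = (t : GL (Fin m ⊕ Fin m) F) := by
  apply Units.ext
  rfl

/-- a symplectic matrix preserving the quadratic form as an isometry -/
def ofSpQ (Qf : VV → F) (a : Sp) (ha : ∀ x, Qf ((a : MM) *ᵥ x) = Qf x) :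
    ↥(Cfsg.isometryGroup F Qf) :=
  ⟨spToGL a, fun u v => ha u⟩

theorem toSpQ_ofSpQ (hQ : IsQF Qf) (a : Sp) (ha : ∀ x, Qf ((a : MM) *ᵥ x) = Qf x) :
    toSpQ hQ (ofSpQ Qf a ha) = a := by
  apply Subtype.ext
  rfl

/-- the bundled quadratic form -/
noncomputable def bundQ [CharP F 2] (hQ : IsQF Qf) : QuadraticForm F VV where
  toFun := Qf
  toFun_smul a x := by
    rw [hQ.smul, smul_eq_mul, pow_two]
  exists_companion' := ⟨QuadraticMap.polarBilin (Cfsg.Agent.helper13.QPlus F m), fun x y => by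
    rw [hQ.add, QuadraticMap.polarBilin_apply_apply, Cfsg.Agent.helper13.QPlus_coe]
    unfold QuadraticMap.polar
    rw [polar_eq_ff]⟩

theorem bundQ_apply [CharP F 2] (hQ : IsQF Qf) (v : VV) : bundQ hQ v = Qf v := rfl

theorem bundQ_nondeg [CharP F 2] (hQ : IsQF Qf) :
    (QuadraticMap.polarBilin (bundQ hQ)).Nondegenerate := by
  have : QuadraticMap.polarBilin (bundQ hQ) =
      QuadraticMap.polarBilin (Cfsg.Agent.helper13.QPlus F m) := by
    apply LinearMap.ext
    intro x
    apply LinearMap.ext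
    intro y
    rw [QuadraticMap.polarBilin_apply_apply, QuadraticMap.polarBilin_apply_apply,
      Cfsg.Agent.helper13.QPlus_coe]
    unfold QuadraticMap.polar
    rw [polar_eq_ff]
    exact hQ.polar x y
  rw [this]
  exact Cfsg.Agent.helper13.QPlus_nondeg (F := F) m

/-- conjugacy of involutions in the orthogonal group is detected in the symplectic group -/
theorem isConj_iff_toSpQ [CharP F 2] (hQ : IsQF Qf) (t s : ↥(Cfsg.isometryGroup F Qf))
    (ht : t * t = 1) : IsConj t s ↔ IsConj (toSpQ hQ t) (toSpQ hQ s) := by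
  constructor
  · intro h
    exact MonoidHom.map_isConj (toSpQ hQ) h
  · intro h
    rw [isConj_iff] at h
    obtain ⟨a, ha⟩ := h
    apply Cfsg.Agent.helper29.OConj.conj_of_polar_conj Qf
      (bundQ hQ) (bundQ_apply hQ) (bundQ_nondeg hQ) t s ht (spToGL a)
    · intro u v
      show Qf (_ + _) - Qf _ - Qf _ = Qf (u + v) - Qf u - Qf v
      rw [hQ.polar, hQ.polar]
      exact Cfsg.Agent.S0766.sympForm_mulVec a u v
    · rw [← spToGL_toSpQ hQ t, ← spToGL_toSpQ hQ s, ← spToGL_inv, ← spToGL_mul, ← spToGL_mul, ha]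

theorem mul_self_of_toSpQ (hQ : IsQF Qf) (t : ↥(Cfsg.isometryGroup F Qf))
    (h : toSpQ hQ t * toSpQ hQ t = 1) : t * t = 1 := by
  apply toSpQ_injective hQ
  rw [map_mul, h, map_one]

end Cfsg.Agent.helper29.OM
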