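import Mathlib
import Cfsg.Agent.Lib_helper29_OM1

set_option autoImplicit false
set_option linter.unusedSectionVars false
set_option linter.unusedVariables false
namespace Cfsg.Agent.helper29.OM
open Matrix Cfsg.Agent.helper4 Cfsg.Agent.S0245 Cfsg.Agent.S2594 Cfsg.Agent.S0440 Cfsg.Agent.helper29
open Cfsg.Agent.helper29.SpInv Cfsg.Agent.helper29.OInv

variable {F : Type*} [Field F] {m : ℕ}

local notation "Sp" => Matrix.symplecticGroup (Fin m) F
local notation "ff" => Cfsg.sympForm m F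
local notation "VV" => (Fin m ⊕ Fin m → F)
local notation "MM" => Matrix (Fin m ⊕ Fin m) (Fin m ⊕ Fin m) F

variable {Qf : (Fin m ⊕ Fin m → F) → F}

theorem modelInv_Qf_I [CharP F 2] (hQ : IsQF Qf) {ι : Type*} [Fintype ι] (w : ι → VV)
    (hiso : ∀ i j, ff (w i) (w j) = 0) (hQw : ∀ i, Qf (w i) = 1)
    (hσ : ∀ i, (Equiv.refl ι) ((Equiv.refl ι) i) = i) (x : VV) :
    Qf (((modelInv (Equiv.refl ι) hσ w hiso : Sp) : MM) *ᵥ x) = Qf x := by
  have h2 : (2 : F) = 0 := CharTwo.two_eq_zero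
  rw [modelInv_mulVec, hQ.add]
  have h1 : SSp (Equiv.refl ι) w x = ∑ i ∈ Finset.univ, ff x (w i) • w i := rfl
  rw [h1, hQ.sum_iso w hiso, ff_sum_right]
  simp only [sympForm_smul_right, hQw, mul_one]
  have h3 : ∀ i, ff x (w i) * ff x (w i) = ff x (w i) ^ 2 := fun i => (pow_two _).symm
  rw [Finset.sum_congr rfl (fun i _ => h3 i)]
  linear_combination (∑ i, ff x (w i) ^ 2) * h2

theorem modelInv_Qf_II [CharP F 2] (hQ : IsQF Qf) {k : ℕ} (w : Fin k ⊕ Fin k → VV)
    (hiso : ∀ i j, ff (w i) (w j) = 0) (hQw : ∀ i, Qf (w i) = 0)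
    (hσ : ∀ i, (Equiv.sumComm (Fin k) (Fin k)) ((Equiv.sumComm (Fin k) (Fin k)) i) = i)
    (x : VV) :
    Qf (((modelInv (Equiv.sumComm (Fin k) (Fin k)) hσ w hiso : Sp) : MM) *ᵥ x) = Qf x := by
  have h2 : (2 : F) = 0 := CharTwo.two_eq_zero
  rw [modelInv_mulVec, hQ.add]
  have h1 : SSp (Equiv.sumComm (Fin k) (Fin k)) w x =
      ∑ i ∈ Finset.univ, ff x (w (Sum.swap i)) • w i := rfl
  rw [h1, hQ.sum_iso w hiso, ff_sum_right]
  simp only [sympForm_smul_right, hQw, mul_zero, Finset.sum_const_zero, add_zero]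
  rw [Fintype.sum_sum_type]
  simp only [Sum.swap_inl, Sum.swap_inr]
  have h3 : ∑ j : Fin k, ff x (w (Sum.inl j)) * ff x (w (Sum.inr j)) =
      ∑ j : Fin k, ff x (w (Sum.inr j)) * ff x (w (Sum.inl j)) :=
    Finset.sum_congr rfl (fun j _ => mul_comm _ _)
  rw [h3]
  linear_combination (∑ j : Fin k, ff x (w (Sum.inr j)) * ff x (w (Sum.inl j))) * h2

/-- existence of an orthogonal involution of non-alternating type from a frame -/
theorem exists_I_of_frameQ [CharP F 2] (hQ : IsQF Qf) {s : ℕ} (hs : 1 ≤ s) (w y : Fin s → VV)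
    (hiso : ∀ i j, ff (w i) (w j) = 0) (hLI : LinearIndependent F w)
    (hy : ∀ k i, ff (y k) (w i) = if i = k then 1 else 0) (hQw : ∀ i, Qf (w i) = 1) :
    ∃ t : ↥(Cfsg.isometryGroup F Qf), t * t = 1 ∧ ¬ IsAltInv (toSpQ hQ t) ∧
      (NNs (toSpQ hQ t)).rank = s := by
  have hσ : ∀ i, (Equiv.refl (Fin s)) ((Equiv.refl (Fin s)) i) = i := fun i => rfl
  obtain ⟨hN, hrank⟩ := model_rank (Equiv.refl (Fin s)) hσ w hiso hLI y hy
  refine ⟨ofSpQ Qf (modelInv (Equiv.refl (Fin s)) hσ w hiso) (modelInv_Qf_I hQ w hiso hQw hσ),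
    ?_, ?_, ?_⟩
  · apply mul_self_of_toSpQ hQ
    rw [toSpQ_ofSpQ]
    exact modelInv_sq _ hσ w hiso
  · rw [toSpQ_ofSpQ]
    intro halt
    have := halt (y ⟨0, hs⟩)
    unfold bet at this
    rw [hN, sympForm_swap, hy, if_pos rfl] at this
    exact one_ne_zero (neg_eq_zero.mp this)
  · rw [toSpQ_ofSpQ, hrank, Fintype.card_fin]

/-- existence of an orthogonal involution of alternating type from a frame -/
theorem exists_II_of_frameQ [CharP F 2] (hQ : IsQF Qf) {k : ℕ} (w y : Fin k ⊕ Fin k → VV)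
    (hiso : ∀ i j, ff (w i) (w j) = 0) (hLI : LinearIndependent F w)
    (hy : ∀ l i, ff (y l) (w (Sum.swap i)) = if i = l then 1 else 0)
    (hQw : ∀ i, Qf (w i) = 0) :
    ∃ t : ↥(Cfsg.isometryGroup F Qf), t * t = 1 ∧ IsAltInv (toSpQ hQ t) ∧
      (NNs (toSpQ hQ t)).rank = k + k := by
  have hσ : ∀ i, (Equiv.sumComm (Fin k) (Fin k)) ((Equiv.sumComm (Fin k) (Fin k)) i) = i := by
    intro i
    cases i <;> rfl
  obtain ⟨hN, hrank⟩ := model_rank (Equiv.sumComm (Fin k) (Fin k)) hσ w hiso hLI y hy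
  refine ⟨ofSpQ Qf (modelInv (Equiv.sumComm (Fin k) (Fin k)) hσ w hiso)
    (modelInv_Qf_II hQ w hiso hQw hσ), ?_, ?_, ?_⟩
  · apply mul_self_of_toSpQ hQ
    rw [toSpQ_ofSpQ]
    exact modelInv_sq _ hσ w hiso
  · rw [toSpQ_ofSpQ]
    exact alt_of_swap _ w (modelInv_N _ hσ w hiso)
  · rw [toSpQ_ofSpQ, hrank, Fintype.card_sum, Fintype.card_fin]

/-- the generic count of classes of involutions of an orthogonal group in characteristic two:
`m` classes of non-alternating type and `n2` of alternating type -/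
theorem class_count_gen [Fintype F] [CharP F 2] (hQ : IsQF Qf) (n2 : ℕ)
    (hI : ∀ i : Fin m, ∃ t : ↥(Cfsg.isometryGroup F Qf), t * t = 1 ∧ ¬ IsAltInv (toSpQ hQ t) ∧
      (NNs (toSpQ hQ t)).rank = i.val + 1)
    (hII : ∀ j : Fin n2, ∃ t : ↥(Cfsg.isometryGroup F Qf), t * t = 1 ∧ IsAltInv (toSpQ hQ t) ∧
      (NNs (toSpQ hQ t)).rank = (j.val + 1) + (j.val + 1))
    (hbound : ∀ g : ↥(Cfsg.isometryGroup F Qf), g * g = 1 → IsAltInv (toSpQ hQ g) →
      (NNs (toSpQ hQ g)).rank ≤ n2 + n2) :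
    Nat.card {C : ConjClasses ↥(Cfsg.isometryGroup F Qf) //
      ∃ g : ↥(Cfsg.isometryGroup F Qf), ConjClasses.mk g = C ∧ orderOf g = 2} = m + n2 := by
  classical
  choose rI hrI using hI
  choose rII hrII using hII
  obtain ⟨rep, hrep⟩ : ∃ rep : Fin m ⊕ Fin n2 → ↥(Cfsg.isometryGroup F Qf),
    rep = Sum.elim rI rII := ⟨_, rfl⟩
  have hrep_sq : ∀ p, rep p * rep p = 1 := by
    intro p
    rw [hrep]
    cases p with
    | inl i => exact (hrI i).1
    | inr j => exact (hrII j).1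
  have hrep_ne : ∀ p, rep p ≠ 1 := by
    intro p hp
    have h1 : toSpQ hQ (rep p) ≠ 1 := by
      apply ne_one_of_rank
      rw [hrep]
      cases p with
      | inl i => rw [Sum.elim_inl, (hrI i).2.2]; omega
      | inr j => rw [Sum.elim_inr, (hrII j).2.2]; omega
    apply h1
    rw [hp, map_one]
  have hord : ∀ p, orderOf (rep p) = 2 := by
    intro p
    exact orderOf_eq_prime (by rw [pow_two]; exact hrep_sq p) (hrep_ne p)
  have hbij : Function.Bijective (fun p : Fin m ⊕ Fin n2 =>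
      (⟨ConjClasses.mk (rep p), rep p, rfl, hord p⟩ :
        {C : ConjClasses ↥(Cfsg.isometryGroup F Qf) //
          ∃ g : ↥(Cfsg.isometryGroup F Qf), ConjClasses.mk g = C ∧ orderOf g = 2})) := by
    constructor
    · intro p p' hpp
      have h1 : ConjClasses.mk (rep p) = ConjClasses.mk (rep p') := congrArg Subtype.val hpp
      rw [ConjClasses.mk_eq_mk_iff_isConj] at h1
      have h1' := MonoidHom.map_isConj (toSpQ hQ) h1
      rw [isConj_iff] at h1'
      obtain ⟨g, hg⟩ := h1'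
      have hrk := rank_conj g (toSpQ hQ (rep p))
      have halt := alt_conj g (toSpQ hQ (rep p))
      rw [hg] at hrk halt
      rw [hrep] at hrk halt
      cases p with
      | inl i =>
        cases p' with
        | inl i' =>
          rw [Sum.elim_inl, Sum.elim_inl, (hrI i).2.2, (hrI i').2.2] at hrk
          congr 1
          apply Fin.ext
          omega
        | inr j' =>
          exfalso
          rw [Sum.elim_inl, Sum.elim_inr] at halt
          exact (hrI i).2.1 (halt.mp (hrII j').2.1)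
      | inr j =>
        cases p' with
        | inl i' =>
          exfalso
          rw [Sum.elim_inl, Sum.elim_inr] at halt
          exact (hrI i').2.1 (halt.mpr (hrII j).2.1)
        | inr j' =>
          rw [Sum.elim_inr, Sum.elim_inr, (hrII j).2.2, (hrII j').2.2] at hrk
          congr 1
          apply Fin.ext
          omega
    · rintro ⟨C, g, hgC, hgo⟩
      have hg2 : g * g = 1 := by
        have := pow_orderOf_eq_one g
        rw [hgo, pow_two] at this
        exact this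
      have hg1 : g ≠ 1 := by
        rintro rfl
        rw [orderOf_one] at hgo
        omega
      have ha2 : toSpQ hQ g * toSpQ hQ g = 1 := by rw [← map_mul, hg2, map_one]
      have ha1 : toSpQ hQ g ≠ 1 := by
        intro h
        apply hg1
        apply toSpQ_injective hQ
        rw [h, map_one]
      have hr1 := rank_pos (toSpQ hQ g) ha1
      have hr2 := rank_le (toSpQ hQ g) ha2
      by_cases halt : IsAltInv (toSpQ hQ g)
      · obtain ⟨t, ht⟩ := rank_II (toSpQ hQ g) ha2 halt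
        have hb := hbound g hg2 halt
        have htm : t - 1 < n2 := by omega
        refine ⟨Sum.inr ⟨t - 1, htm⟩, ?_⟩
        apply Subtype.ext
        show ConjClasses.mk (rep (Sum.inr ⟨t - 1, htm⟩)) = C
        rw [← hgC, ConjClasses.mk_eq_mk_iff_isConj, hrep, Sum.elim_inr,
          isConj_iff_toSpQ hQ _ _ (hrII _).1]
        have ha2' : toSpQ hQ (rII ⟨t - 1, htm⟩) * toSpQ hQ (rII ⟨t - 1, htm⟩) = 1 := by
          rw [← map_mul, (hrII _).1, map_one]
        apply conj_II _ _ ha2' ha2 (hrII _).2.1 halt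
        rw [(hrII _).2.2, ht]
        show (t - 1 + 1) + (t - 1 + 1) = t + t
        omega
      · have hsm : (NNs (toSpQ hQ g)).rank - 1 < m := by omega
        refine ⟨Sum.inl ⟨(NNs (toSpQ hQ g)).rank - 1, hsm⟩, ?_⟩
        apply Subtype.ext
        show ConjClasses.mk (rep (Sum.inl ⟨(NNs (toSpQ hQ g)).rank - 1, hsm⟩)) = C
        rw [← hgC, ConjClasses.mk_eq_mk_iff_isConj, hrep, Sum.elim_inl,
          isConj_iff_toSpQ hQ _ _ (hrI _).1]
        have ha2' : toSpQ hQ (rI ⟨(NNs (toSpQ hQ g)).rank - 1, hsm⟩) *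
            toSpQ hQ (rI ⟨(NNs (toSpQ hQ g)).rank - 1, hsm⟩) = 1 := by
          rw [← map_mul, (hrI _).1, map_one]
        apply conj_I _ _ ha2' ha2 (hrI _).2.1 halt
        rw [(hrI _).2.2]
        show (NNs (toSpQ hQ g)).rank - 1 + 1 = (NNs (toSpQ hQ g)).rank
        omega
  rw [← Nat.card_eq_of_bijective _ hbij, Nat.card_eq_fintype_card, Fintype.card_sum,
    Fintype.card_fin, Fintype.card_fin]

end Cfsg.Agent.helper29.OM
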