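import Mathlib
import Cfsg.Agent.Lib_helper29_OM2

set_option autoImplicit false
set_option linter.unusedSectionVars false
set_option linter.unusedVariables false
namespace Cfsg.Agent.helper29.OM
open Matrix Cfsg.Agent.helper4 Cfsg.Agent.S0245 Cfsg.Agent.S2594 Cfsg.Agent.S0440 Cfsg.Agent.helper29
open Cfsg.Agent.helper29.SpInv Cfsg.Agent.helper29.OInv Cfsg.Agent.S0765

variable {F : Type*} [Field F]

section gen
variable {m : ℕ}
local notation "Sp" => Matrix.symplecticGroup (Fin m) F
local notation "ff" => Cfsg.sympForm m F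
local notation "VV" => (Fin m ⊕ Fin m → F)
local notation "MM" => Matrix (Fin m ⊕ Fin m) (Fin m ⊕ Fin m) F

variable {Qf : (Fin m ⊕ Fin m → F) → F}

/-- the range of `t - 1` is totally singular for an involution of alternating type -/
theorem alt_range_ts [CharP F 2] (hQ : IsQF Qf) (g : ↥(Cfsg.isometryGroup F Qf))
    (halt : IsAltInv (toSpQ hQ g)) (w : VV)
    (hw : w ∈ LinearMap.range (NNs (toSpQ hQ g)).mulVecLin) : Qf w = 0 := by
  have h2 : (2 : F) = 0 := CharTwo.two_eq_zero
  obtain ⟨x, rfl⟩ := hw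
  rw [Matrix.mulVecLin_apply]
  have h1 : NNs (toSpQ hQ g) *ᵥ x = ((toSpQ hQ g : Sp) : MM) *ᵥ x + x := by
    rw [NNs_mulVec]
    funext i
    simp only [Pi.sub_apply, Pi.add_apply]
    linear_combination (-(x i)) * h2
  have h3 := halt x
  unfold bet at h3
  rw [h1, sympForm_add_left, sympForm_self, add_zero] at h3
  rw [h1, hQ.add, toSpQ_preserves hQ g x, h3]
  linear_combination (Qf x) * h2

end gen

section minus
variable (k : ℕ)
local notation "ff" => Cfsg.sympForm (k + 1) F
local notation "VV" => (Fin (k + 1) ⊕ Fin (k + 1) → F)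

/-- the elliptic form in standard symplectic coordinates -/
def Qm (c : F) (u : Fin (k + 1) ⊕ Fin (k + 1) → F) : F :=
  Cfsg.quadFormPlus (k + 1) F u + u (Sum.inl (Fin.last k)) ^ 2 +
    c * u (Sum.inr (Fin.last k)) ^ 2

theorem isQF_Qm [CharP F 2] (c : F) : IsQF (Qm (F := F) k c) := by
  constructor
  · intro u v
    unfold Qm
    rw [QQ_add]
    simp only [Pi.add_apply]
    rw [CharTwo.add_sq, CharTwo.add_sq]
    ring
  · intro d u
    unfold Qm
    rw [QQ_smul]
    simp only [Pi.smul_apply, smul_eq_mul]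
    ring

/-- `0` at the last index and `1` elsewhere -/
def eps (a : Fin (k + 1)) : F := if a = Fin.last k then 0 else 1

/-- the vectors `e_a + f_a` for `a` not last, and `e_a` for `a` last -/
def hw (a : Fin (k + 1)) : Fin (k + 1) ⊕ Fin (k + 1) → F :=
  bv (Sum.inl a) + (eps k a : F) • bv (Sum.inr a)

theorem hw_inl (a b : Fin (k + 1)) : (hw k a : VV) (Sum.inl b) = if b = a then 1 else 0 := by
  simp [hw, bv, Pi.single_apply]

theorem hw_inr (a b : Fin (k + 1)) :
    (hw k a : VV) (Sum.inr b) = if b = a then eps k a else 0 := by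
  simp [hw, bv, Pi.single_apply]

theorem ff_hw (a b : Fin (k + 1)) : ff (hw k a) (hw k b) = 0 := by
  have h1 := hw_inl (F := F) k b a
  have h2 := hw_inr (F := F) k b a
  unfold hw at h1 h2 ⊢
  rw [sympForm_add_left, sympForm_smul_left, form_bv_inl, form_bv_inr, h1, h2]
  by_cases h : a = b
  · rw [if_pos h, if_pos h, h]
    ring
  · rw [if_neg h, if_neg h]
    ring

theorem Qm_hw (c : F) (a : Fin (k + 1)) : Qm k c (hw k a) = 1 := by
  unfold Qm Cfsg.quadFormPlus
  rw [Finset.sum_eq_single a]
  · rw [hw_inl, hw_inr, hw_inl, hw_inr, if_pos rfl, if_pos rfl]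
    unfold eps
    by_cases h : a = Fin.last k
    · rw [if_pos h, if_pos h.symm, if_pos h.symm]
      ring
    · rw [if_neg h, if_neg (fun h' => h h'.symm)]
      ring
  · intro b _ hb
    rw [hw_inl, if_neg hb, zero_mul]
  · intro h
    exact absurd (Finset.mem_univ _) h

theorem Qm_bv_inl (c : F) (a : Fin (k + 1)) (ha : a ≠ Fin.last k) :
    Qm k c (bv (Sum.inl a)) = 0 := by
  unfold Qm
  rw [QQ_bv_inl]
  unfold bv
  rw [Pi.single_eq_of_ne, Pi.single_eq_of_ne]
  · ring
  · exact Sum.inr_ne_inl
  · intro h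
    exact ha (Sum.inl.inj h).symm

theorem exists_I_Qm [CharP F 2] (c : F) (s : ℕ) (hs1 : 1 ≤ s) (hsm : s ≤ k + 1) :
    ∃ t : ↥(Cfsg.isometryGroup F (Qm (F := F) k c)), t * t = 1 ∧
      ¬ IsAltInv (toSpQ (isQF_Qm k c) t) ∧ (NNs (toSpQ (isQF_Qm k c) t)).rank = s := by
  have he : Function.Injective (Fin.castLE hsm) := Fin.castLE_injective hsm
  apply exists_I_of_frameQ (isQF_Qm k c) hs1 (fun i => hw k (Fin.castLE hsm i))
    (fun l => bv (Sum.inr (Fin.castLE hsm l)))
  · intro i j
    exact ff_hw k _ _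
  · rw [Fintype.linearIndependent_iff]
    intro d hd l
    have := congrFun hd (Sum.inl (Fin.castLE hsm l))
    simp only [Finset.sum_apply, Pi.smul_apply, hw_inl, smul_eq_mul, Pi.zero_apply] at this
    rw [Finset.sum_eq_single l] at this
    · rw [if_pos rfl, mul_one] at this
      exact this
    · intro i _ hi
      rw [if_neg (fun h => hi (he h).symm), mul_zero]
    · intro h
      exact absurd (Finset.mem_univ _) h
  · intro l i
    rw [form_bv_inr, hw_inl]
    by_cases h : i = l
    · rw [if_pos h, if_pos (by rw [h])]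
    · rw [if_neg h, if_neg (fun h' => h (he h').symm)]
  · intro i
    exact Qm_hw k c _

theorem exists_II_Qm [CharP F 2] (c : F) (k' : ℕ) (hkm : k' + k' ≤ k) :
    ∃ t : ↥(Cfsg.isometryGroup F (Qm (F := F) k c)), t * t = 1 ∧
      IsAltInv (toSpQ (isQF_Qm k c) t) ∧ (NNs (toSpQ (isQF_Qm k c) t)).rank = k' + k' := by
  have hkm' : k' + k' ≤ k + 1 := by omega
  obtain ⟨e, he0⟩ : ∃ e : Fin k' ⊕ Fin k' → Fin (k + 1),
    e = fun i => Fin.castLE hkm' (finSumFinEquiv i) := ⟨_, rfl⟩
  have he : Function.Injective e := by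
    rw [he0]
    intro i j hij
    exact finSumFinEquiv.injective (Fin.castLE_injective hkm' hij)
  have hlast : ∀ i, e i ≠ Fin.last k := by
    intro i h
    have h1 := congrArg Fin.val h
    rw [he0] at h1
    simp only [Fin.val_castLE, Fin.val_last] at h1
    have := (finSumFinEquiv i).2
    omega
  apply exists_II_of_frameQ (isQF_Qm k c) (fun i => bv (Sum.inl (e i)))
    (fun l => bv (Sum.inr (e (Sum.swap l))))
  · intro i j
    exact std_iso _ _
  · exact std_LI e he
  · intro l i
    rw [form_bv_inr]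
    unfold bv
    by_cases h : i = l
    · rw [if_pos h, h, Pi.single_eq_same]
    · rw [if_neg h, Pi.single_eq_of_ne]
      intro h'
      apply h
      have := he (Sum.inl.inj h')
      exact (Sum.swap_leftInverse.injective this).symm
  · intro i
    exact Qm_bv_inl k c _ (hlast i)

/-- the number of classes of involutions for the elliptic form, given that it has no totally
singular subspace of half the dimension -/
theorem class_count_Qm [Fintype F] [CharP F 2] (c : F)
    (hTS : ∀ W : Submodule F VV, (∀ w ∈ W, Qm k c w = 0) → Module.finrank F W ≠ k + 1) :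
    Nat.card {C : ConjClasses ↥(Cfsg.isometryGroup F (Qm (F := F) k c)) //
      ∃ g : ↥(Cfsg.isometryGroup F (Qm (F := F) k c)), ConjClasses.mk g = C ∧ orderOf g = 2} =
      (k + 1) + k / 2 := by
  apply class_count_gen (isQF_Qm k c) (k / 2)
  · intro i
    exact exists_I_Qm k c (i.val + 1) (by omega) (by have := i.2; omega)
  · intro j
    exact exists_II_Qm k c (j.val + 1) (by have := j.2; omega)
  · intro g hg2 halt
    have h1 := hTS _ (alt_range_ts (isQF_Qm k c) g halt)
    have h2 : (NNs (toSpQ (isQF_Qm k c) g)).rank ≠ k + 1 := h1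
    have ha2 : toSpQ (isQF_Qm k c) g * toSpQ (isQF_Qm k c) g = 1 := by
      rw [← map_mul, hg2, map_one]
    obtain ⟨t, ht⟩ := rank_II (toSpQ (isQF_Qm k c) g) ha2 halt
    have h3 := rank_le (toSpQ (isQF_Qm k c) g) ha2
    omega

end minus

end Cfsg.Agent.helper29.OM
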