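import Mathlib
import Cfsg.Agent.Lib_helper29_OM3
import Cfsg.Agent.Lib_helper13_InvCls

set_option autoImplicit false
set_option linter.unusedSectionVars false
set_option linter.unusedVariables false
namespace Cfsg.Agent.helper29.OM
open Matrix Cfsg.Agent.helper4 Cfsg.Agent.S0245 Cfsg.Agent.S2594 Cfsg.Agent.S0440 Cfsg.Agent.helper29
open Cfsg.Agent.helper29.SpInv Cfsg.Agent.helper29.OInv Cfsg.Agent.S0765

variable {F : Type*} [Field F]

section transport
variable {ι κ : Type} [Fintype ι] [DecidableEq ι] [Fintype κ] [DecidableEq κ]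

/-- conjugation by an invertible matrix between two index types -/
def conjGL (P : Matrix ι κ F) (P' : Matrix κ ι F) (h1 : P * P' = 1) (h2 : P' * P = 1) :
    GL ι F →* GL κ F where
  toFun g := ⟨P' * (g : Matrix ι ι F) * P, P' * ((g⁻¹ : GL ι F) : Matrix ι ι F) * P, by
    have hP : ∀ X : Matrix ι κ F, P * (P' * X) = X := fun X => by
      rw [← Matrix.mul_assoc, h1, Matrix.one_mul]
    simp only [Matrix.mul_assoc]
    rw [hP, ← Matrix.mul_assoc (g : Matrix ι ι F), ← Units.val_mul, mul_inv_cancel,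
      Units.val_one, Matrix.one_mul, h2], by
    have hP : ∀ X : Matrix ι κ F, P * (P' * X) = X := fun X => by
      rw [← Matrix.mul_assoc, h1, Matrix.one_mul]
    simp only [Matrix.mul_assoc]
    rw [hP, ← Matrix.mul_assoc ((g⁻¹ : GL ι F) : Matrix ι ι F), ← Units.val_mul, inv_mul_cancel,
      Units.val_one, Matrix.one_mul, h2]⟩
  map_one' := by
    apply Units.ext
    show P' * ((1 : GL ι F) : Matrix ι ι F) * P = 1
    rw [Units.val_one, Matrix.mul_one, h2]
  map_mul' a b := by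
    apply Units.ext
    show P' * ((a * b : GL ι F) : Matrix ι ι F) * P =
      (P' * (a : Matrix ι ι F) * P) * (P' * (b : Matrix ι ι F) * P)
    have hP : ∀ X : Matrix ι κ F, P * (P' * X) = X := fun X => by
      rw [← Matrix.mul_assoc, h1, Matrix.one_mul]
    simp only [Matrix.mul_assoc, Units.val_mul]
    rw [hP]

theorem conjGL_coe (P : Matrix ι κ F) (P' : Matrix κ ι F) (h1 : P * P' = 1) (h2 : P' * P = 1)
    (g : GL ι F) :
    ((conjGL P P' h1 h2 g : GL κ F) : Matrix κ κ F) = P' * (g : Matrix ι ι F) * P := rfl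

theorem conjGL_mem (P : Matrix ι κ F) (P' : Matrix κ ι F) (h1 : P * P' = 1) (h2 : P' * P = 1)
    (Q : (ι → F) → F) (Q' : (κ → F) → F) (hQ : ∀ u, Q' u = Q (P *ᵥ u))
    (g : GL ι F) (hg : g ∈ Cfsg.isometryGroup F Q) :
    conjGL P P' h1 h2 g ∈ Cfsg.isometryGroup F Q' := by
  intro u _
  show Q' ((P' * (g : Matrix ι ι F) * P) *ᵥ u) = Q' u
  rw [hQ, hQ, ← Matrix.mulVec_mulVec, ← Matrix.mulVec_mulVec, Matrix.mulVec_mulVec _ P P', h1,
    Matrix.one_mulVec]
  exact hg (P *ᵥ u) (P *ᵥ u)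

/-- equivalent forms have isomorphic isometry groups -/
def isoO (P : Matrix ι κ F) (P' : Matrix κ ι F) (h1 : P * P' = 1) (h2 : P' * P = 1)
    (Q : (ι → F) → F) (Q' : (κ → F) → F) (hQ : ∀ u, Q' u = Q (P *ᵥ u)) :
    ↥(Cfsg.isometryGroup F Q) ≃* ↥(Cfsg.isometryGroup F Q') where
  toFun g := ⟨conjGL P P' h1 h2 g.1, conjGL_mem P P' h1 h2 Q Q' hQ g.1 g.2⟩
  invFun g := ⟨conjGL P' P h2 h1 g.1, conjGL_mem P' P h2 h1 Q' Q (by
    intro v
    rw [hQ, Matrix.mulVec_mulVec, h1, Matrix.one_mulVec]) g.1 g.2⟩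
  left_inv g := by
    apply Subtype.ext
    apply Units.ext
    show P * (P' * ((g.1 : GL ι F) : Matrix ι ι F) * P) * P' = ((g.1 : GL ι F) : Matrix ι ι F)
    simp only [Matrix.mul_assoc]
    rw [h1, Matrix.mul_one, ← Matrix.mul_assoc, h1, Matrix.one_mul]
  right_inv g := by
    apply Subtype.ext
    apply Units.ext
    show P' * (P * ((g.1 : GL κ F) : Matrix κ κ F) * P') * P = ((g.1 : GL κ F) : Matrix κ κ F)
    simp only [Matrix.mul_assoc]
    rw [h2, Matrix.mul_one, ← Matrix.mul_assoc, h2, Matrix.one_mul]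
  map_mul' a b := by
    apply Subtype.ext
    exact map_mul _ _ _

end transport

/-- isomorphic groups have the same number of classes of involutions -/
theorem card_invol_classes_congr {G H : Type*} [Group G] [Group H] (e : G ≃* H) :
    Nat.card {C : ConjClasses G // ∃ g : G, ConjClasses.mk g = C ∧ orderOf g = 2} =
      Nat.card {C : ConjClasses H // ∃ g : H, ConjClasses.mk g = C ∧ orderOf g = 2} := by
  have hmap : ∀ (f : G ≃* H) (g : G),
      ConjClasses.map f.toMonoidHom (ConjClasses.mk g) = ConjClasses.mk (f g) := fun f g => rfl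
  apply Nat.card_eq_of_bijective (fun C => ⟨ConjClasses.map e.toMonoidHom C.1, by
    obtain ⟨g, hg, ho⟩ := C.2
    refine ⟨e g, ?_, ?_⟩
    · rw [← hg]
      rfl
    · rw [← ho]
      exact MulEquiv.orderOf_eq e g⟩)
  constructor
  · rintro ⟨C, g, rfl, ho⟩ ⟨C', g', rfl, ho'⟩ h
    have h1 : ConjClasses.mk (e g) = ConjClasses.mk (e g') := congrArg Subtype.val h
    apply Subtype.ext
    show ConjClasses.mk g = ConjClasses.mk g'
    rw [ConjClasses.mk_eq_mk_iff_isConj] at h1 ⊢
    have := MonoidHom.map_isConj e.symm.toMonoidHom h1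
    simpa using this
  · rintro ⟨C, h, rfl, ho⟩
    refine ⟨⟨ConjClasses.mk (e.symm h), e.symm h, rfl, ?_⟩, ?_⟩
    · rw [← ho]
      exact MulEquiv.orderOf_eq e.symm h
    · apply Subtype.ext
      show ConjClasses.mk (e (e.symm h)) = ConjClasses.mk h
      rw [MulEquiv.apply_symm_apply]

end Cfsg.Agent.helper29.OM
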