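import Mathlib
import Cfsg.Agent.Lib_helper29_OM4

set_option autoImplicit false
set_option linter.unusedSectionVars false
set_option linter.unusedVariables false
namespace Cfsg.Agent.helper29.OM
open Matrix Cfsg.Agent.helper4 Cfsg.Agent.S0245 Cfsg.Agent.S2594 Cfsg.Agent.S0440 Cfsg.Agent.helper29
open Cfsg.Agent.helper29.SpInv Cfsg.Agent.helper29.OInv Cfsg.Agent.S0765

variable {F : Type*} [Field F] (k : ℕ)

/-- the change of coordinates from the standard symplectic space to the elliptic space -/
def Mfun (a : F) (u : Fin (k + 1) ⊕ Fin (k + 1) → F) : (Fin k ⊕ Fin k) ⊕ Fin 2 → F :=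
  Sum.elim (Sum.elim (fun i => u (Sum.inl i.castSucc)) (fun i => u (Sum.inr i.castSucc)))
    (fun j => if j = 0 then u (Sum.inl (Fin.last k)) else a⁻¹ * u (Sum.inr (Fin.last k)))

/-- the inverse change of coordinates -/
def Mfun' (a : F) (v : (Fin k ⊕ Fin k) ⊕ Fin 2 → F) : Fin (k + 1) ⊕ Fin (k + 1) → F :=
  Sum.elim (Fin.snoc (fun i => v (Sum.inl (Sum.inl i))) (v (Sum.inr 0)))
    (Fin.snoc (fun i => v (Sum.inl (Sum.inr i))) (a * v (Sum.inr 1)))

theorem Mfun_Mfun' (a : F) (ha : a ≠ 0) (v : (Fin k ⊕ Fin k) ⊕ Fin 2 → F) :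
    Mfun k a (Mfun' k a v) = v := by
  funext r
  rcases r with (i | i) | j
  · simp [Mfun, Mfun']
  · simp [Mfun, Mfun']
  · fin_cases j
    · simp [Mfun, Mfun']
    · simp [Mfun, Mfun', ha]

theorem Mfun'_Mfun (a : F) (ha : a ≠ 0) (u : Fin (k + 1) ⊕ Fin (k + 1) → F) :
    Mfun' k a (Mfun k a u) = u := by
  funext r
  rcases r with i | i
  · induction i using Fin.lastCases with
    | last => simp [Mfun, Mfun']
    | cast i => simp [Mfun, Mfun']
  · induction i using Fin.lastCases with
    | last => simp [Mfun, Mfun', ha]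
    | cast i => simp [Mfun, Mfun']

/-- the change of coordinates as a linear map -/
def Mlin (a : F) : (Fin (k + 1) ⊕ Fin (k + 1) → F) →ₗ[F] ((Fin k ⊕ Fin k) ⊕ Fin 2 → F) where
  toFun := Mfun k a
  map_add' u v := by
    funext r
    rcases r with (i | i) | j
    · simp [Mfun]
    · simp [Mfun]
    · fin_cases j
      · simp [Mfun]
      · simp [Mfun, mul_add]
  map_smul' d u := by
    funext r
    rcases r with (i | i) | j
    · simp [Mfun]
    · simp [Mfun]
    · fin_cases j
      · simp [Mfun]
      · simp [Mfun, mul_left_comm]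

/-- the inverse change of coordinates as a linear map -/
def Mlin' (a : F) : ((Fin k ⊕ Fin k) ⊕ Fin 2 → F) →ₗ[F] (Fin (k + 1) ⊕ Fin (k + 1) → F) where
  toFun := Mfun' k a
  map_add' u v := by
    funext r
    rcases r with i | i
    · induction i using Fin.lastCases with
      | last => simp [Mfun']
      | cast i => simp [Mfun']
    · induction i using Fin.lastCases with
      | last => simp [Mfun', mul_add]
      | cast i => simp [Mfun']
  map_smul' d u := by
    funext r
    rcases r with i | i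
    · induction i using Fin.lastCases with
      | last => simp [Mfun']
      | cast i => simp [Mfun']
    · induction i using Fin.lastCases with
      | last => simp [Mfun', mul_left_comm]
      | cast i => simp [Mfun']

theorem Mlin_apply (a : F) (u : Fin (k + 1) ⊕ Fin (k + 1) → F) : Mlin k a u = Mfun k a u := rfl

theorem Mlin'_apply (a : F) (v : (Fin k ⊕ Fin k) ⊕ Fin 2 → F) : Mlin' k a v = Mfun' k a v := rfl

theorem Mlin_comp (a : F) (ha : a ≠ 0) : Mlin k a ∘ₗ Mlin' k a = LinearMap.id := by
  apply LinearMap.ext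
  intro v
  exact Mfun_Mfun' k a ha v

theorem Mlin'_comp (a : F) (ha : a ≠ 0) : Mlin' k a ∘ₗ Mlin k a = LinearMap.id := by
  apply LinearMap.ext
  intro v
  exact Mfun'_Mfun k a ha v

theorem Mlin_injective (a : F) (ha : a ≠ 0) : Function.Injective (Mlin k a) :=
  Function.LeftInverse.injective (g := Mlin' k a) (Mfun'_Mfun k a ha)

/-- the elliptic form in the new coordinates -/
theorem minus_Mfun (a b : F) (ha : a ≠ 0) (u : Fin (k + 1) ⊕ Fin (k + 1) → F) :
    Cfsg.quadFormMinus k F a b (Mfun k a u) = Qm k (b * a⁻¹ ^ 2) u := by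
  unfold Cfsg.quadFormMinus Qm Cfsg.quadFormPlus
  rw [Fin.sum_univ_castSucc]
  have h1 : a * a⁻¹ = 1 := mul_inv_cancel₀ ha
  simp only [Mfun, Sum.elim_inl, Sum.elim_inr, if_true, Fin.isValue, one_ne_zero, if_false]
  linear_combination (u (Sum.inl (Fin.last k)) * u (Sum.inr (Fin.last k))) * h1

end Cfsg.Agent.helper29.OM
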