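import Mathlib
import Cfsg.Agent.Lib_helper29_OM5

set_option autoImplicit false
set_option linter.unusedSectionVars false
set_option linter.unusedVariables false
namespace Cfsg.Agent.helper29.OM
open Matrix Cfsg.Agent.helper4 Cfsg.Agent.S0245 Cfsg.Agent.S2594 Cfsg.Agent.S0440 Cfsg.Agent.helper29
open Cfsg.Agent.helper29.SpInv Cfsg.Agent.helper29.OInv Cfsg.Agent.S0765

variable {F : Type*} [Field F] (k : ℕ)

theorem aniso_a_ne_zero [Fintype F] [CharP F 2] (a b : F)
    (hab : ∀ z₁ z₂ : F, z₁ ^ 2 + a * z₁ * z₂ + b * z₂ ^ 2 = 0 → z₁ = 0 ∧ z₂ = 0) : a ≠ 0 := by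
  intro ha
  have h2 : (2 : F) = 0 := CharTwo.two_eq_zero
  have hF : ringChar F = 2 := ringChar.eq F 2
  obtain ⟨r, hr⟩ := FiniteField.isSquare_of_char_two hF b
  have := hab r 1 (by
    rw [ha, hr]
    linear_combination (r * r) * h2)
  exact one_ne_zero this.2

/-- the number of classes of involutions in `O^-_{2k+2}(F)`, `F` finite of characteristic two -/
theorem class_count_minus [Fintype F] [CharP F 2] (a b : F)
    (hab : ∀ z₁ z₂ : F, z₁ ^ 2 + a * z₁ * z₂ + b * z₂ ^ 2 = 0 → z₁ = 0 ∧ z₂ = 0) :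
    Nat.card {C : ConjClasses ↥(Cfsg.isometryGroup F (Cfsg.quadFormMinus k F a b)) //
      ∃ g : ↥(Cfsg.isometryGroup F (Cfsg.quadFormMinus k F a b)),
        ConjClasses.mk g = C ∧ orderOf g = 2} = (k + 1) + k / 2 := by
  classical
  have ha := aniso_a_ne_zero a b hab
  have h2 : (2 : F) = 0 := CharTwo.two_eq_zero
  obtain ⟨P, hP⟩ : ∃ P, P = LinearMap.toMatrix' (Mlin k a) := ⟨_, rfl⟩
  obtain ⟨P', hP'⟩ : ∃ P', P' = LinearMap.toMatrix' (Mlin' k a) := ⟨_, rfl⟩
  have h1 : P * P' = 1 := by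
    rw [hP, hP', ← LinearMap.toMatrix'_comp, Mlin_comp k a ha, LinearMap.toMatrix'_id]
  have h1' : P' * P = 1 := by
    rw [hP, hP', ← LinearMap.toMatrix'_comp, Mlin'_comp k a ha, LinearMap.toMatrix'_id]
  have hQ : ∀ u, Qm k (b * a⁻¹ ^ 2) u = Cfsg.quadFormMinus k F a b (P *ᵥ u) := by
    intro u
    rw [hP, LinearMap.toMatrix'_mulVec, Mlin_apply, minus_Mfun k a b ha]
  rw [card_invol_classes_congr (isoO P P' h1 h1' _ _ hQ)]
  apply class_count_Qm
  intro W hW hrk
  have hnd : (QuadraticMap.polarBilin (Cfsg.Agent.helper13.QMinus F k a b)).Nondegenerate := by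
    apply Cfsg.Agent.helper13.QMinus_nondeg
    intro h
    apply ha
    have h3 : a ^ 2 = 0 := by linear_combination (2 * b) * h2 - h
    exact pow_eq_zero_iff (n := 2) (by norm_num) |>.mp h3
  apply Cfsg.Agent.helper13.not_mts_minus k a b hab hnd (W.map (Mlin k a))
  constructor
  · intro x hx
    obtain ⟨w, hw, rfl⟩ := hx
    rw [Cfsg.Agent.helper13.QMinus_apply, Mlin_apply, minus_Mfun k a b ha]
    exact hW w hw
  · exact ((Submodule.equivMapOfInjective (Mlin k a)
      (Mlin_injective k a ha) W).finrank_eq.symm).trans hrk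

end Cfsg.Agent.helper29.OM
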