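import Mathlib
import Cfsg.Agent.Lib_helper29_OM7
import Cfsg.Agent.Lib_helper29_OM8

set_option autoImplicit false
set_option linter.unusedSectionVars false
set_option linter.unusedVariables false
namespace Cfsg.Agent.helper29.OM
open Matrix Cfsg.Agent.helper4 Cfsg.Agent.S0245 Cfsg.Agent.S2594 Cfsg.Agent.S0440 Cfsg.Agent.helper29
open Cfsg.Agent.helper29.SpInv Cfsg.Agent.helper29.OInv

theorem map_commutator_eq {G H : Type*} [Group G] [Group H] (e : G ≃* H) :
    (commutator G).map (e : G →* H) = commutator H := by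
  rw [commutator_def, commutator_def, Subgroup.map_commutator,
    Subgroup.map_top_of_surjective _ e.surjective]

/-- isomorphic groups have isomorphic commutator subgroups -/
noncomputable def commutatorCongr {G H : Type*} [Group G] [Group H] (e : G ≃* H) :
    ↥(commutator G) ≃* ↥(commutator H) :=
  (e.subgroupMap (commutator G)).trans (MulEquiv.subgroupCongr (map_commutator_eq e))

variable {F : Type*} [Field F] {m : ℕ}

local notation "Sp" => Matrix.symplecticGroup (Fin m) F
local notation "ff" => Cfsg.sympForm m F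
local notation "VV" => (Fin m ⊕ Fin m → F)
local notation "MM" => Matrix (Fin m ⊕ Fin m) (Fin m ⊕ Fin m) F

variable {Qf : (Fin m ⊕ Fin m → F) → F}

theorem not_exc_of_no_mts [Fintype F] [CharP F 2] (hQ : IsQF Qf)
    (hTS : ∀ W : Submodule F VV, (∀ w ∈ W, Qf w = 0) → Module.finrank F W ≠ m) :
    ¬ Cfsg.Agent.helper13.Exc (bundQ hQ) (⊤ : Submodule F VV) := by
  rintro ⟨hF, h4, a, -, b, -, ha0, hb0, hab, hQa, hQb, hpol⟩
  have hm2 : m = 2 := by
    rw [finrank_top, Module.finrank_fintype_fun_eq_card, Fintype.card_sum, Fintype.card_fin] at h4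
    omega
  have hQa' : Qf a = 0 := hQa
  have hQb' : Qf b = 0 := hQb
  have hpol' : ff a b = 0 := by
    rw [← hQ.polar]
    exact hpol
  have hLI : LinearIndependent F ![a, b] := by
    rw [LinearIndependent.pair_iff]
    intro s t hst
    rcases Cfsg.Agent.helper13.F2_cases hF s with rfl | rfl <;>
      rcases Cfsg.Agent.helper13.F2_cases hF t with rfl | rfl
    · exact ⟨rfl, rfl⟩
    · exfalso
      rw [zero_smul, one_smul, zero_add] at hst
      exact hb0 hst
    · exfalso
      rw [zero_smul, one_smul, add_zero] at hst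
      exact ha0 hst
    · exfalso
      rw [one_smul, one_smul] at hst
      apply hab
      have h3 : a = -b := eq_neg_of_add_eq_zero_left hst
      rw [h3]
      funext i
      exact CharTwo.neg_eq (b i)
  apply hTS (Submodule.span F (Set.range ![a, b]))
  · intro w hw
    rw [Submodule.mem_span_range_iff_exists_fun] at hw
    obtain ⟨c, rfl⟩ := hw
    rw [Fin.sum_univ_two]
    simp only [Matrix.cons_val_zero, Matrix.cons_val_one]
    rw [hQ.add, hQ.smul, hQ.smul, hQa', hQb', sympForm_smul_left, sympForm_smul_right, hpol']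
    ring
  · rw [finrank_span_eq_card hLI, Fintype.card_fin, hm2]

/-- the generic count of classes of involutions in `Ω` when no class splits -/
theorem omega_class_count_gen [Fintype F] [CharP F 2] (hQ : IsQF Qf) (hm : 1 ≤ m) (n2 : ℕ)
    (hI : ∀ i : Fin m, ∃ t : ↥(Cfsg.isometryGroup F Qf), t * t = 1 ∧ ¬ IsAltInv (toSpQ hQ t) ∧
      (NNs (toSpQ hQ t)).rank = i.val + 1)
    (hII : ∀ j : Fin n2, ∃ t : ↥(Cfsg.isometryGroup F Qf), t * t = 1 ∧ IsAltInv (toSpQ hQ t) ∧
      (NNs (toSpQ hQ t)).rank = (j.val + 1) + (j.val + 1))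
    (hbound : ∀ g : ↥(Cfsg.isometryGroup F Qf), g * g = 1 → IsAltInv (toSpQ hQ g) →
      (NNs (toSpQ hQ g)).rank ≤ n2 + n2)
    (hTS : ∀ W : Submodule F VV, (∀ w ∈ W, Qf w = 0) → Module.finrank F W ≠ m) :
    Nat.card {C : ConjClasses ↥(commutator ↥(Cfsg.isometryGroup F Qf)) //
      ∃ g : ↥(commutator ↥(Cfsg.isometryGroup F Qf)), ConjClasses.mk g = C ∧ orderOf g = 2} =
      m / 2 + n2 := by
  have h2 : (2 : F) = 0 := CharTwo.two_eq_zero
  have hexc := not_exc_of_no_mts hQ hTS
  have hcard : Fintype.card (Fin m ⊕ Fin m) = 2 * m := by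
    rw [Fintype.card_sum, Fintype.card_fin]
    ring
  have hns : ∀ t s : ↥(Cfsg.isometryGroup F Qf), t ∈ commutator ↥(Cfsg.isometryGroup F Qf) →
      s ∈ commutator ↥(Cfsg.isometryGroup F Qf) → t * t = 1 → IsConj t s →
      ∃ g ∈ commutator ↥(Cfsg.isometryGroup F Qf), g * t * g⁻¹ = s := by
    intro t s _ _ ht hconj
    exact conj_in_omega_of_not_mts (bundQ hQ) h2 (bundQ_nondeg hQ) hexc hcard hm t s ht
      (fun hmts => hTS _ hmts.ts hmts.rk) hconj
  rw [card_invol_classes_subgroup _ hns, ← class_count_gen_even hQ n2 hI hII hbound]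
  apply Nat.card_congr
  apply Equiv.subtypeEquivRight
  intro C
  apply exists_congr
  intro g
  apply and_congr_right
  intro _
  apply and_congr_right
  intro _
  exact mem_commutator_iff_even_rank' (bundQ hQ) h2 (bundQ_nondeg hQ) hexc (by omega) g

end Cfsg.Agent.helper29.OM
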