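import Mathlib
import Cfsg.Agent.Lib_helper29_OM9

set_option autoImplicit false
set_option linter.unusedSectionVars false
set_option linter.unusedVariables false
namespace Cfsg.Agent.helper29.OM
open Matrix Cfsg.Agent.helper4 Cfsg.Agent.S0245 Cfsg.Agent.S2594 Cfsg.Agent.S0440 Cfsg.Agent.helper29
open Cfsg.Agent.helper29.SpInv Cfsg.Agent.helper29.OInv Cfsg.Agent.S0765

variable {F : Type*} [Field F] (k : ℕ)

/-- the elliptic form has no totally singular subspace of half the dimension -/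
theorem Qm_no_mts [Fintype F] [CharP F 2] (a b : F)
    (hab : ∀ z₁ z₂ : F, z₁ ^ 2 + a * z₁ * z₂ + b * z₂ ^ 2 = 0 → z₁ = 0 ∧ z₂ = 0)
    (W : Submodule F (Fin (k + 1) ⊕ Fin (k + 1) → F))
    (hW : ∀ w ∈ W, Qm k (b * a⁻¹ ^ 2) w = 0) : Module.finrank F W ≠ k + 1 := by
  intro hrk
  have ha := aniso_a_ne_zero a b hab
  have h2 : (2 : F) = 0 := CharTwo.two_eq_zero
  have hnd : (QuadraticMap.polarBilin (Cfsg.Agent.helper13.QMinus F k a b)).Nondegenerate := by
    apply Cfsg.Agent.helper13.QMinus_nondeg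
    intro h
    apply ha
    have h3 : a ^ 2 = 0 := by linear_combination (2 * b) * h2 - h
    exact pow_eq_zero_iff (n := 2) (by norm_num) |>.mp h3
  apply Cfsg.Agent.helper13.not_mts_minus k a b hab hnd (W.map (Mlin k a))
  constructor
  · intro x hx
    obtain ⟨w, hw, rfl⟩ := hx
    rw [Cfsg.Agent.helper13.QMinus_apply, Mlin_apply, minus_Mfun k a b ha]
    exact hW w hw
  · exact ((Submodule.equivMapOfInjective (Mlin k a)
      (Mlin_injective k a ha) W).finrank_eq.symm).trans hrk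

/-- the isomorphism between the orthogonal groups of the elliptic form in the two coordinates -/
noncomputable def isoMinus (a b : F) (ha : a ≠ 0) :
    ↥(Cfsg.isometryGroup F (Cfsg.quadFormMinus k F a b)) ≃*
      ↥(Cfsg.isometryGroup F (Qm (F := F) k (b * a⁻¹ ^ 2))) :=
  isoO (LinearMap.toMatrix' (Mlin k a)) (LinearMap.toMatrix' (Mlin' k a))
    (by rw [← LinearMap.toMatrix'_comp, Mlin_comp k a ha, LinearMap.toMatrix'_id])
    (by rw [← LinearMap.toMatrix'_comp, Mlin'_comp k a ha, LinearMap.toMatrix'_id])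
    _ _ (fun u => by rw [LinearMap.toMatrix'_mulVec, Mlin_apply, minus_Mfun k a b ha])

/-- the number of classes of involutions in `Ω^-_{2k+2}(F)`, `F` finite of characteristic two -/
theorem omega_class_count_minus [Fintype F] [CharP F 2] (a b : F)
    (hab : ∀ z₁ z₂ : F, z₁ ^ 2 + a * z₁ * z₂ + b * z₂ ^ 2 = 0 → z₁ = 0 ∧ z₂ = 0) :
    Nat.card {C : ConjClasses ↥(Cfsg.Omega F (Cfsg.quadFormMinus k F a b)) //
      ∃ g : ↥(Cfsg.Omega F (Cfsg.quadFormMinus k F a b)),
        ConjClasses.mk g = C ∧ orderOf g = 2} = (k + 1) / 2 + k / 2 := by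
  classical
  have ha := aniso_a_ne_zero a b hab
  rw [card_invol_classes_congr (commutatorCongr (isoMinus k a b ha))]
  have hTS := Qm_no_mts k a b hab
  apply omega_class_count_gen (isQF_Qm k (b * a⁻¹ ^ 2)) (by omega) (k / 2)
  · intro i
    exact exists_I_Qm k _ (i.val + 1) (by omega) (by have := i.2; omega)
  · intro j
    exact exists_II_Qm k _ (j.val + 1) (by have := j.2; omega)
  · intro g hg2 halt
    have h1 := hTS _ (alt_range_ts (isQF_Qm k _) g halt)
    have h2 : (NNs (toSpQ (isQF_Qm k (b * a⁻¹ ^ 2)) g)).rank ≠ k + 1 := h1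
    have ha2 : toSpQ (isQF_Qm k (b * a⁻¹ ^ 2)) g * toSpQ (isQF_Qm k (b * a⁻¹ ^ 2)) g = 1 := by
      rw [← map_mul, hg2, map_one]
    obtain ⟨t, ht⟩ := rank_II (toSpQ (isQF_Qm k (b * a⁻¹ ^ 2)) g) ha2 halt
    have h3 := rank_le (toSpQ (isQF_Qm k (b * a⁻¹ ^ 2)) g) ha2
    omega
  · exact hTS

end Cfsg.Agent.helper29.OM
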