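import Mathlib
import Cfsg.Agent.Lib_helper29_OM10

set_option autoImplicit false
set_option linter.unusedSectionVars false
set_option linter.unusedVariables false
namespace Cfsg.Agent.helper29.OM
open Matrix Cfsg.Agent.helper4 Cfsg.Agent.S0245 Cfsg.Agent.S2594 Cfsg.Agent.S0440 Cfsg.Agent.helper29
open Cfsg.Agent.helper29.SpInv Cfsg.Agent.helper29.OInv

/-- classes of a subgroup satisfying a predicate, when no such class of the big group splits -/
theorem card_classes_subgroup_pred {G : Type*} [Group G] (N : Subgroup G) (p : G → Prop)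
    (hns : ∀ t s : G, t ∈ N → s ∈ N → p t → IsConj t s → ∃ g ∈ N, g * t * g⁻¹ = s) :
    Nat.card {C : ConjClasses N // ∃ g : N, ConjClasses.mk g = C ∧ p (g : G)} =
      Nat.card {C : ConjClasses G // ∃ g : G, ConjClasses.mk g = C ∧ p g ∧ g ∈ N} := by
  apply Nat.card_eq_of_bijective (fun C => ⟨ConjClasses.map N.subtype C.1, by
    obtain ⟨g, hg, ho⟩ := C.2
    refine ⟨(g : G), ?_, ho, g.2⟩
    rw [← hg]
    rfl⟩)
  constructor
  · rintro ⟨C, g, rfl, ho⟩ ⟨C', g', rfl, ho'⟩ h
    have h1 : ConjClasses.mk (g : G) = ConjClasses.mk (g' : G) := congrArg Subtype.val h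
    apply Subtype.ext
    show ConjClasses.mk g = ConjClasses.mk g'
    rw [ConjClasses.mk_eq_mk_iff_isConj] at h1 ⊢
    obtain ⟨c, hc, hcg⟩ := hns g g' g.2 g'.2 ho h1
    rw [isConj_iff]
    exact ⟨⟨c, hc⟩, Subtype.ext hcg⟩
  · rintro ⟨C, g, rfl, ho, hgN⟩
    exact ⟨⟨ConjClasses.mk ⟨g, hgN⟩, ⟨g, hgN⟩, rfl, ho⟩, rfl⟩

variable {F : Type*} [Field F] {m : ℕ}

local notation "Sp" => Matrix.symplecticGroup (Fin m) F
local notation "ff" => Cfsg.sympForm m F
local notation "VV" => (Fin m ⊕ Fin m → F)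
local notation "MM" => Matrix (Fin m ⊕ Fin m) (Fin m ⊕ Fin m) F

variable {Qf : (Fin m ⊕ Fin m → F) → F}

/-- the generic count of classes of involutions with `t - 1` of even rank and, for those of
alternating type, of rank at most `2 n2` -/
theorem class_count_gen_even' [Fintype F] [CharP F 2] (hQ : IsQF Qf) (n2 : ℕ)
    (hI : ∀ i : Fin m, ∃ t : ↥(Cfsg.isometryGroup F Qf), t * t = 1 ∧ ¬ IsAltInv (toSpQ hQ t) ∧
      (NNs (toSpQ hQ t)).rank = i.val + 1)
    (hII : ∀ j : Fin n2, ∃ t : ↥(Cfsg.isometryGroup F Qf), t * t = 1 ∧ IsAltInv (toSpQ hQ t) ∧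
      (NNs (toSpQ hQ t)).rank = (j.val + 1) + (j.val + 1)) :
    Nat.card {C : ConjClasses ↥(Cfsg.isometryGroup F Qf) //
      ∃ g : ↥(Cfsg.isometryGroup F Qf), ConjClasses.mk g = C ∧ orderOf g = 2 ∧
        Even (NNs (toSpQ hQ g)).rank ∧
        (IsAltInv (toSpQ hQ g) → (NNs (toSpQ hQ g)).rank ≤ n2 + n2)} = m / 2 + n2 := by
  classical
  have hI' : ∀ j : Fin (m / 2), ∃ t : ↥(Cfsg.isometryGroup F Qf), t * t = 1 ∧
      ¬ IsAltInv (toSpQ hQ t) ∧ (NNs (toSpQ hQ t)).rank = (j.val + 1) + (j.val + 1) := by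
    intro j
    obtain ⟨t, h1, h2, h3⟩ := hI ⟨j.val + j.val + 1, by have := j.2; omega⟩
    exact ⟨t, h1, h2, by rw [h3]; show j.val + j.val + 1 + 1 = _; omega⟩
  choose rI hrI using hI'
  choose rII hrII using hII
  obtain ⟨rep, hrep⟩ : ∃ rep : Fin (m / 2) ⊕ Fin n2 → ↥(Cfsg.isometryGroup F Qf),
    rep = Sum.elim rI rII := ⟨_, rfl⟩
  have hrep_sq : ∀ p, rep p * rep p = 1 := by
    intro p
    rw [hrep]
    cases p with
    | inl i => exact (hrI i).1
    | inr j => exact (hrII j).1
  have hrep_rk : ∀ p, Even (NNs (toSpQ hQ (rep p))).rank ∧ 1 ≤ (NNs (toSpQ hQ (rep p))).rank ∧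
      (IsAltInv (toSpQ hQ (rep p)) → (NNs (toSpQ hQ (rep p))).rank ≤ n2 + n2) := by
    intro p
    rw [hrep]
    cases p with
    | inl i =>
      rw [Sum.elim_inl, (hrI i).2.2]
      exact ⟨⟨_, rfl⟩, by omega, fun h => absurd h (hrI i).2.1⟩
    | inr j =>
      rw [Sum.elim_inr, (hrII j).2.2]
      exact ⟨⟨_, rfl⟩, by omega, fun _ => by have := j.2; omega⟩
  have hrep_ne : ∀ p, rep p ≠ 1 := by
    intro p hp
    have h1 : toSpQ hQ (rep p) ≠ 1 := by
      apply ne_one_of_rank
      have := (hrep_rk p).2.1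
      omega
    apply h1
    rw [hp, map_one]
  have hord : ∀ p, orderOf (rep p) = 2 := by
    intro p
    exact orderOf_eq_prime (by rw [pow_two]; exact hrep_sq p) (hrep_ne p)
  have hbij : Function.Bijective (fun p : Fin (m / 2) ⊕ Fin n2 =>
      (⟨ConjClasses.mk (rep p), rep p, rfl, hord p, (hrep_rk p).1, (hrep_rk p).2.2⟩ :
        {C : ConjClasses ↥(Cfsg.isometryGroup F Qf) //
          ∃ g : ↥(Cfsg.isometryGroup F Qf), ConjClasses.mk g = C ∧ orderOf g = 2 ∧
            Even (NNs (toSpQ hQ g)).rank ∧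
            (IsAltInv (toSpQ hQ g) → (NNs (toSpQ hQ g)).rank ≤ n2 + n2)})) := by
    constructor
    · intro p p' hpp
      have h1 : ConjClasses.mk (rep p) = ConjClasses.mk (rep p') := congrArg Subtype.val hpp
      rw [ConjClasses.mk_eq_mk_iff_isConj] at h1
      have h1' := MonoidHom.map_isConj (toSpQ hQ) h1
      rw [isConj_iff] at h1'
      obtain ⟨g, hg⟩ := h1'
      have hrk := rank_conj g (toSpQ hQ (rep p))
      have halt := alt_conj g (toSpQ hQ (rep p))
      rw [hg] at hrk halt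
      rw [hrep] at hrk halt
      cases p with
      | inl i =>
        cases p' with
        | inl i' =>
          rw [Sum.elim_inl, Sum.elim_inl, (hrI i).2.2, (hrI i').2.2] at hrk
          congr 1
          apply Fin.ext
          omega
        | inr j' =>
          exfalso
          rw [Sum.elim_inl, Sum.elim_inr] at halt
          exact (hrI i).2.1 (halt.mp (hrII j').2.1)
      | inr j =>
        cases p' with
        | inl i' =>
          exfalso
          rw [Sum.elim_inl, Sum.elim_inr] at halt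
          exact (hrI i').2.1 (halt.mpr (hrII j).2.1)
        | inr j' =>
          rw [Sum.elim_inr, Sum.elim_inr, (hrII j).2.2, (hrII j').2.2] at hrk
          congr 1
          apply Fin.ext
          omega
    · rintro ⟨C, g, hgC, hgo, hgev, hgb⟩
      have hg2 : g * g = 1 := by
        have := pow_orderOf_eq_one g
        rw [hgo, pow_two] at this
        exact this
      have hg1 : g ≠ 1 := by
        rintro rfl
        rw [orderOf_one] at hgo
        omega
      have ha2 : toSpQ hQ g * toSpQ hQ g = 1 := by rw [← map_mul, hg2, map_one]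
      have ha1 : toSpQ hQ g ≠ 1 := by
        intro h
        apply hg1
        apply toSpQ_injective hQ
        rw [h, map_one]
      have hr1 := rank_pos (toSpQ hQ g) ha1
      have hr2 := rank_le (toSpQ hQ g) ha2
      by_cases halt : IsAltInv (toSpQ hQ g)
      · obtain ⟨t, ht⟩ := rank_II (toSpQ hQ g) ha2 halt
        have hb := hgb halt
        have htm : t - 1 < n2 := by omega
        refine ⟨Sum.inr ⟨t - 1, htm⟩, ?_⟩
        apply Subtype.ext
        show ConjClasses.mk (rep (Sum.inr ⟨t - 1, htm⟩)) = C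
        rw [← hgC, ConjClasses.mk_eq_mk_iff_isConj, hrep, Sum.elim_inr,
          isConj_iff_toSpQ hQ _ _ (hrII _).1]
        have ha2' : toSpQ hQ (rII ⟨t - 1, htm⟩) * toSpQ hQ (rII ⟨t - 1, htm⟩) = 1 := by
          rw [← map_mul, (hrII _).1, map_one]
        apply conj_II _ _ ha2' ha2 (hrII _).2.1 halt
        rw [(hrII _).2.2, ht]
        show (t - 1 + 1) + (t - 1 + 1) = t + t
        omega
      · obtain ⟨t, ht⟩ := hgev
        have hsm : t - 1 < m / 2 := by omega
        refine ⟨Sum.inl ⟨t - 1, hsm⟩, ?_⟩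
        apply Subtype.ext
        show ConjClasses.mk (rep (Sum.inl ⟨t - 1, hsm⟩)) = C
        rw [← hgC, ConjClasses.mk_eq_mk_iff_isConj, hrep, Sum.elim_inl,
          isConj_iff_toSpQ hQ _ _ (hrI _).1]
        have ha2' : toSpQ hQ (rI ⟨t - 1, hsm⟩) * toSpQ hQ (rI ⟨t - 1, hsm⟩) = 1 := by
          rw [← map_mul, (hrI _).1, map_one]
        apply conj_I _ _ ha2' ha2 (hrI _).2.1 halt
        rw [(hrI _).2.2, ht]
        show (t - 1 + 1) + (t - 1 + 1) = t + t
        omega
  rw [← Nat.card_eq_of_bijective _ hbij, Nat.card_eq_fintype_card, Fintype.card_sum,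
    Fintype.card_fin, Fintype.card_fin]

end Cfsg.Agent.helper29.OM
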