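import Mathlib
import Cfsg.Agent.Lib_helper29_OM11

set_option autoImplicit false
set_option linter.unusedSectionVars false
set_option linter.unusedVariables false
namespace Cfsg.Agent.helper29.OM
open Matrix Cfsg.Agent.helper4 Cfsg.Agent.S0245 Cfsg.Agent.S2594 Cfsg.Agent.S0440 Cfsg.Agent.helper29
open Cfsg.Agent.helper29.SpInv Cfsg.Agent.helper29.OInv Cfsg.Agent.helper13

variable {F : Type*} [Field F] {m : ℕ}

local notation "Sp" => Matrix.symplecticGroup (Fin m) F
local notation "ff" => Cfsg.sympForm m F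
local notation "VV" => (Fin m ⊕ Fin m → F)
local notation "MM" => Matrix (Fin m ⊕ Fin m) (Fin m ⊕ Fin m) F

variable {Qf : (Fin m ⊕ Fin m → F) → F}

/-- special involutions: alternating type of full rank -/
def Spc (hQ : IsQF Qf) (g : ↥(Cfsg.isometryGroup F Qf)) : Prop :=
  IsAltInv (toSpQ hQ g) ∧ (NNs (toSpQ hQ g)).rank = m

theorem spc_conj (hQ : IsQF Qf) (c g : ↥(Cfsg.isometryGroup F Qf)) :
    Spc hQ (c * g * c⁻¹) ↔ Spc hQ g := by
  unfold Spc
  rw [map_mul, map_mul, map_inv, alt_conj, rank_conj]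

theorem Qf_N [CharP F 2] (hQ : IsQF Qf) (g : ↥(Cfsg.isometryGroup F Qf)) (x : VV) :
    Qf (NNs (toSpQ hQ g) *ᵥ x) = bet (toSpQ hQ g) x x := by
  have h2 : (2 : F) = 0 := CharTwo.two_eq_zero
  have h1 : NNs (toSpQ hQ g) *ᵥ x = ((toSpQ hQ g : Sp) : MM) *ᵥ x + x := by
    rw [NNs_mulVec]
    funext i
    simp only [Pi.sub_apply, Pi.add_apply]
    linear_combination (-(x i)) * h2
  unfold bet
  rw [h1, sympForm_add_left, sympForm_self, add_zero, hQ.add, toSpQ_preserves hQ g x]
  linear_combination (Qf x) * h2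

theorem mts_of_spc [CharP F 2] (hQ : IsQF Qf) (t : ↥(Cfsg.isometryGroup F Qf))
    (hs : Spc hQ t) : MTS (bundQ hQ) m (movS (bundQ hQ) t) :=
  ⟨fun w hw => alt_range_ts hQ t hs.1 w hw, hs.2⟩

theorem spc_of_mts [CharP F 2] (hQ : IsQF Qf) (t : ↥(Cfsg.isometryGroup F Qf)) (ht : t * t = 1)
    (h : MTS (bundQ hQ) m (fixS (bundQ hQ) t)) : Spc hQ t := by
  have h2 : (2 : F) = 0 := CharTwo.two_eq_zero
  have hle := movS_le_fixS (bundQ hQ) h2 t ht
  have hadd := finrank_movS_add (bundQ hQ) t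
  rw [h.rk, Fintype.card_sum, Fintype.card_fin] at hadd
  constructor
  · intro u
    rw [← Qf_N hQ t u]
    apply h.ts
    apply hle
    exact ⟨u, rfl⟩
  · have : Module.finrank F ↥(movS (bundQ hQ) t) = m := by omega
    exact this

/-- an isometry commuting with an involution whose moved space is maximal totally singular
lies in `Ω` -/
theorem centralizer_le_omega_gen [Fintype F] {ι : Type} [Fintype ι] [DecidableEq ι]
    (Q : QuadraticForm F (ι → F)) (h2 : (2 : F) = 0)
    (hnd : (QuadraticMap.polarBilin Q).Nondegenerate)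
    (hne : Fintype.card F ≠ 2 ∨ Fintype.card ι ≠ 4) (hn : 1 ≤ Fintype.card ι) {n : ℕ}
    (hV : Module.finrank F (ι → F) = 2 * n) (t g : ↥(Cfsg.isometryGroup F ⇑Q))
    (hU : MTS Q n (movS Q t)) (hg : g * t = t * g) :
    g ∈ commutator ↥(Cfsg.isometryGroup F ⇑Q) := by
  have hmem := mem_commutator_iff_two Q h2 hnd hne hn
    (clsChar Q hnd hV _ hU) (clsChar_reflG Q hnd hV _ hU) g
  apply hmem.mpr
  rw [clsChar_apply]
  have hle : gmap g (movS Q t) ≤ movS Q t := by
    intro x hx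
    obtain ⟨u, hu, rfl⟩ := (mem_gmap g _ x).mp hx
    obtain ⟨v, rfl⟩ := (mem_movS Q t u).mp hu
    rw [mem_movS]
    refine ⟨iact g v, ?_⟩
    rw [iact_sub, ← iact_mul, ← iact_mul, hg]
  have heq : gmap g (movS Q t) = movS Q t :=
    Submodule.eq_of_le_of_finrank_eq hle (finrank_gmap g _)
  rw [heq, inf_idem, hU.rk, Nat.sub_self, pow_zero]

/-- the centraliser of a special involution lies in `Ω` -/
theorem centralizer_le_omega [Fintype F] [CharP F 2] (hQ : IsQF Qf)
    (hne : Fintype.card F ≠ 2 ∨ m ≠ 2) (hm : 1 ≤ m)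
    (t g : ↥(Cfsg.isometryGroup F Qf)) (hs : Spc hQ t) (hg : g * t = t * g) :
    g ∈ commutator ↥(Cfsg.isometryGroup F Qf) := by
  have h2 : (2 : F) = 0 := CharTwo.two_eq_zero
  have hcard : Fintype.card (Fin m ⊕ Fin m) = 2 * m := by
    rw [Fintype.card_sum, Fintype.card_fin]
    ring
  have hne' : Fintype.card F ≠ 2 ∨ Fintype.card (Fin m ⊕ Fin m) ≠ 4 := by
    rcases hne with h | h
    · exact Or.inl h
    · right
      rw [hcard]
      omega
  have hV : Module.finrank F VV = 2 * m := by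
    rw [Module.finrank_fintype_fun_eq_card, hcard]
  exact centralizer_le_omega_gen (bundQ hQ) h2 (bundQ_nondeg hQ) hne' (by omega) hV t g
    (mts_of_spc hQ t hs) hg

end Cfsg.Agent.helper29.OM
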