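import Mathlib
import Cfsg.Agent.Lib_helper29_OM12

set_option autoImplicit false
set_option linter.unusedSectionVars false
set_option linter.unusedVariables false
namespace Cfsg.Agent.helper29.OM
open Matrix Cfsg.Agent.helper4 Cfsg.Agent.S0245 Cfsg.Agent.S2594 Cfsg.Agent.S0440 Cfsg.Agent.helper29
open Cfsg.Agent.helper29.SpInv Cfsg.Agent.helper29.OInv Cfsg.Agent.helper13

theorem orderOf_conj' {G : Type*} [Group G] (c g : G) : orderOf (c * g * c⁻¹) = orderOf g := by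
  have := MulEquiv.orderOf_eq (MulAut.conj c) g
  rw [MulAut.conj_apply] at this
  exact this

/-- a class of the big group that splits into exactly two classes of a subgroup of index two -/
theorem card_two_classes {G : Type*} [Group G] (N : Subgroup G) (δ : G →* ℤˣ)
    (hN : ∀ g, g ∈ N ↔ δ g = 1) (P : G → Prop) (hP : ∀ c g, P (c * g * c⁻¹) ↔ P g)
    (t₀ : G) (ht₀N : t₀ ∈ N) (ht₀ : P t₀) (r : G) (hr : δ r = -1)
    (hcent : ∀ g, g * t₀ = t₀ * g → δ g = 1) (htrans : ∀ s, P s → ∃ g, g * t₀ * g⁻¹ = s) :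
    Nat.card {C : ConjClasses N // ∃ g : N, ConjClasses.mk g = C ∧ P (g : G)} = 2 := by
  have ht₁N : r * t₀ * r⁻¹ ∈ N := by
    rw [hN, map_mul, map_mul, map_inv, mul_comm (δ r), mul_assoc, mul_inv_cancel, mul_one]
    exact (hN _).mp ht₀N
  rw [Nat.card_eq_two_iff]
  refine ⟨⟨ConjClasses.mk ⟨t₀, ht₀N⟩, ⟨t₀, ht₀N⟩, rfl, ht₀⟩,
    ⟨ConjClasses.mk ⟨r * t₀ * r⁻¹, ht₁N⟩, ⟨_, ht₁N⟩, rfl, (hP r t₀).mpr ht₀⟩, ?_, ?_⟩
  · intro h
    have h1 : ConjClasses.mk (⟨t₀, ht₀N⟩ : N) = ConjClasses.mk (⟨r * t₀ * r⁻¹, ht₁N⟩ : N) :=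
      congrArg Subtype.val h
    rw [ConjClasses.mk_eq_mk_iff_isConj, isConj_iff] at h1
    obtain ⟨⟨c, hc⟩, hcc⟩ := h1
    have h2 : c * t₀ * c⁻¹ = r * t₀ * r⁻¹ := congrArg Subtype.val hcc
    have h3 : (r⁻¹ * c) * t₀ = t₀ * (r⁻¹ * c) := by
      calc (r⁻¹ * c) * t₀ = r⁻¹ * (c * t₀ * c⁻¹) * c := by group
        _ = r⁻¹ * (r * t₀ * r⁻¹) * c := by rw [h2]
        _ = t₀ * (r⁻¹ * c) := by group
    have h4 := hcent _ h3
    rw [map_mul, map_inv, hr, (hN c).mp hc] at h4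
    revert h4
    decide
  · rw [Set.eq_univ_iff_forall]
    rintro ⟨C, ⟨s, hsN⟩, rfl, hs⟩
    obtain ⟨g, hg⟩ := htrans s hs
    rw [Set.mem_insert_iff, Set.mem_singleton_iff]
    rcases Int.units_eq_one_or (δ g) with h | h
    · left
      apply Subtype.ext
      show ConjClasses.mk (⟨s, hsN⟩ : N) = ConjClasses.mk (⟨t₀, ht₀N⟩ : N)
      rw [ConjClasses.mk_eq_mk_iff_isConj, isConj_comm, isConj_iff]
      exact ⟨⟨g, (hN g).mpr h⟩, Subtype.ext hg⟩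
    · right
      apply Subtype.ext
      show ConjClasses.mk (⟨s, hsN⟩ : N) = ConjClasses.mk (⟨r * t₀ * r⁻¹, ht₁N⟩ : N)
      rw [ConjClasses.mk_eq_mk_iff_isConj, isConj_comm, isConj_iff]
      have hgr : g * r⁻¹ ∈ N := by
        rw [hN, map_mul, map_inv, h, hr]
        decide
      refine ⟨⟨g * r⁻¹, hgr⟩, Subtype.ext ?_⟩
      show g * r⁻¹ * (r * t₀ * r⁻¹) * (g * r⁻¹)⁻¹ = s
      rw [← hg]
      group

end Cfsg.Agent.helper29.OM
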