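import Mathlib
import Cfsg.Agent.Lib_helper29_OM13

set_option autoImplicit false
set_option linter.unusedSectionVars false
set_option linter.unusedVariables false
namespace Cfsg.Agent.helper29.OM
open Matrix Cfsg.Agent.helper4 Cfsg.Agent.S0245 Cfsg.Agent.S2594 Cfsg.Agent.S0440 Cfsg.Agent.helper29
open Cfsg.Agent.helper29.SpInv Cfsg.Agent.helper29.OInv Cfsg.Agent.helper13

theorem card_split_pred {α : Type*} [Finite α] (p r : α → Prop) :
    Nat.card {a // p a} = Nat.card {a // p a ∧ r a} + Nat.card {a // p a ∧ ¬ r a} := by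
  classical
  have e : {a // p a} ≃ {a // p a ∧ r a} ⊕ {a // p a ∧ ¬ r a} :=
    { toFun := fun a => if h : r a.1 then Sum.inl ⟨a.1, a.2, h⟩ else Sum.inr ⟨a.1, a.2, h⟩
      invFun := fun s => Sum.elim (fun a => ⟨a.1, a.2.1⟩) (fun a => ⟨a.1, a.2.1⟩) s
      left_inv := by
        intro a
        by_cases h : r a.1 <;> simp [h]
      right_inv := by
        rintro (a | a)
        · simp [a.2.2]
        · simp [a.2.2] }
  rw [Nat.card_congr e, Nat.card_sum]

variable {F : Type*} [Field F] {m : ℕ}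

local notation "Sp" => Matrix.symplecticGroup (Fin m) F
local notation "ff" => Cfsg.sympForm m F
local notation "VV" => (Fin m ⊕ Fin m → F)
local notation "MM" => Matrix (Fin m ⊕ Fin m) (Fin m ⊕ Fin m) F

variable {Qf : (Fin m ⊕ Fin m → F) → F}

/-- the generic count of classes of involutions in `Ω` when exactly the class of involutions of
alternating type and full rank splits -/
theorem omega_class_count_split [Fintype F] [CharP F 2] (hQ : IsQF Qf)
    (hne : Fintype.card F ≠ 2 ∨ m ≠ 2) (hm : 1 ≤ m)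
    (hI : ∀ i : Fin m, ∃ t : ↥(Cfsg.isometryGroup F Qf), t * t = 1 ∧ ¬ IsAltInv (toSpQ hQ t) ∧
      (NNs (toSpQ hQ t)).rank = i.val + 1)
    (hII : ∀ j : Fin ((m - 1) / 2), ∃ t : ↥(Cfsg.isometryGroup F Qf), t * t = 1 ∧
      IsAltInv (toSpQ hQ t) ∧ (NNs (toSpQ hQ t)).rank = (j.val + 1) + (j.val + 1))
    (hsp : Even m → ∃ t₀ : ↥(Cfsg.isometryGroup F Qf), t₀ * t₀ = 1 ∧ Spc hQ t₀) :
    Nat.card {C : ConjClasses ↥(commutator ↥(Cfsg.isometryGroup F Qf)) //
      ∃ g : ↥(commutator ↥(Cfsg.isometryGroup F Qf)), ConjClasses.mk g = C ∧ orderOf g = 2} =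
      2 * (m / 2) + if Even m then 1 else 0 := by
  classical
  have h2 : (2 : F) = 0 := CharTwo.two_eq_zero
  have hcard : Fintype.card (Fin m ⊕ Fin m) = 2 * m := by
    rw [Fintype.card_sum, Fintype.card_fin]
    ring
  have hne' : Fintype.card F ≠ 2 ∨ Fintype.card (Fin m ⊕ Fin m) ≠ 4 := by
    rcases hne with h | h
    · exact Or.inl h
    · right
      rw [hcard]
      omega
  have hexc := not_exc_top (bundQ hQ) hne'
  have hn : 1 ≤ Fintype.card (Fin m ⊕ Fin m) := by omega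
  have hOm : ∀ g : ↥(Cfsg.isometryGroup F Qf), g ∈ commutator ↥(Cfsg.isometryGroup F Qf) ↔
      Even (NNs (toSpQ hQ g)).rank := fun g =>
    mem_commutator_iff_even_rank (bundQ hQ) h2 (bundQ_nondeg hQ) hne' hn g
  obtain ⟨δ, hδr, hδ⟩ : ∃ δ : ↥(Cfsg.isometryGroup F Qf) →* ℤˣ,
      (∃ r, δ r = -1) ∧ ∀ g, g ∈ commutator ↥(Cfsg.isometryGroup F Qf) ↔ δ g = 1 := by
    obtain ⟨v1, hv1⟩ := exists_nonsing_top (bundQ hQ) (bundQ_nondeg hQ) hn
    exact ⟨dickson (bundQ hQ) h2 (bundQ_nondeg hQ),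
      ⟨reflG (bundQ hQ) v1 hv1, dickson_reflG (bundQ hQ) h2 (bundQ_nondeg hQ) v1 hv1⟩,
      fun g => mem_commutator_iff_two (bundQ hQ) h2 (bundQ_nondeg hQ) hne' hn _
        (dickson_reflG (bundQ hQ) h2 (bundQ_nondeg hQ)) g⟩
  have hsq : ∀ g : ↥(Cfsg.isometryGroup F Qf), orderOf g = 2 → g * g = 1 := by
    intro g hgo
    have := pow_orderOf_eq_one g
    rw [hgo, pow_two] at this
    exact this
  have hsq' : ∀ g : ↥(Cfsg.isometryGroup F Qf), orderOf g = 2 →
      toSpQ hQ g * toSpQ hQ g = 1 := by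
    intro g hgo
    rw [← map_mul, hsq g hgo, map_one]
  rw [card_split_pred (fun C : ConjClasses ↥(commutator ↥(Cfsg.isometryGroup F Qf)) =>
      ∃ g : ↥(commutator ↥(Cfsg.isometryGroup F Qf)), ConjClasses.mk g = C ∧ orderOf g = 2)
    (fun C => ∃ g : ↥(commutator ↥(Cfsg.isometryGroup F Qf)), ConjClasses.mk g = C ∧
      (orderOf (g : ↥(Cfsg.isometryGroup F Qf)) = 2 ∧
        Spc hQ (g : ↥(Cfsg.isometryGroup F Qf))))]
  -- the non-special classes
  have part1 : Nat.card {C : ConjClasses ↥(commutator ↥(Cfsg.isometryGroup F Qf)) //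
      (∃ g : ↥(commutator ↥(Cfsg.isometryGroup F Qf)), ConjClasses.mk g = C ∧ orderOf g = 2) ∧
      ¬ ∃ g : ↥(commutator ↥(Cfsg.isometryGroup F Qf)), ConjClasses.mk g = C ∧
        (orderOf (g : ↥(Cfsg.isometryGroup F Qf)) = 2 ∧
          Spc hQ (g : ↥(Cfsg.isometryGroup F Qf)))} = m / 2 + (m - 1) / 2 := by
    have e1 : Nat.card {C : ConjClasses ↥(commutator ↥(Cfsg.isometryGroup F Qf)) //
        (∃ g : ↥(commutator ↥(Cfsg.isometryGroup F Qf)), ConjClasses.mk g = C ∧ orderOf g = 2) ∧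
        ¬ ∃ g : ↥(commutator ↥(Cfsg.isometryGroup F Qf)), ConjClasses.mk g = C ∧
          (orderOf (g : ↥(Cfsg.isometryGroup F Qf)) = 2 ∧
            Spc hQ (g : ↥(Cfsg.isometryGroup F Qf)))} =
        Nat.card {C : ConjClasses ↥(commutator ↥(Cfsg.isometryGroup F Qf)) //
          ∃ g : ↥(commutator ↥(Cfsg.isometryGroup F Qf)), ConjClasses.mk g = C ∧
            (orderOf (g : ↥(Cfsg.isometryGroup F Qf)) = 2 ∧
              ¬ Spc hQ (g : ↥(Cfsg.isometryGroup F Qf)))} := by
      apply Nat.card_congr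
      apply Equiv.subtypeEquivRight
      intro C
      constructor
      · rintro ⟨⟨g, hg, ho⟩, hnr⟩
        exact ⟨g, hg, (Subgroup.orderOf_coe g).trans ho,
          fun hs => hnr ⟨g, hg, (Subgroup.orderOf_coe g).trans ho, hs⟩⟩
      · rintro ⟨g, hg, ho, hns⟩
        refine ⟨⟨g, hg, (Subgroup.orderOf_coe g).symm.trans ho⟩, ?_⟩
        rintro ⟨g', hg', ho', hs'⟩
        apply hns
        rw [← hg, ConjClasses.mk_eq_mk_iff_isConj, isConj_iff] at hg'
        obtain ⟨c, hc⟩ := hg'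
        have hc' : (c : ↥(Cfsg.isometryGroup F Qf)) * g' * (c : ↥(Cfsg.isometryGroup F Qf))⁻¹ = g :=
          congrArg Subtype.val hc
        rw [← hc', spc_conj]
        exact hs'
    have e2 := card_classes_subgroup_pred (commutator ↥(Cfsg.isometryGroup F Qf))
      (fun g => orderOf g = 2 ∧ ¬ Spc hQ g) (by
        intro t s _ _ ⟨hto, hts⟩ hconj
        exact conj_in_omega_of_not_mts (bundQ hQ) h2 (bundQ_nondeg hQ) hexc hcard hm t s
          (hsq t hto) (fun hmts => hts (spc_of_mts hQ t (hsq t hto) hmts)) hconj)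
    have e3 : Nat.card {C : ConjClasses ↥(Cfsg.isometryGroup F Qf) //
        ∃ g : ↥(Cfsg.isometryGroup F Qf), ConjClasses.mk g = C ∧
          (orderOf g = 2 ∧ ¬ Spc hQ g) ∧ g ∈ commutator ↥(Cfsg.isometryGroup F Qf)} =
        Nat.card {C : ConjClasses ↥(Cfsg.isometryGroup F Qf) //
          ∃ g : ↥(Cfsg.isometryGroup F Qf), ConjClasses.mk g = C ∧ orderOf g = 2 ∧
            Even (NNs (toSpQ hQ g)).rank ∧
            (IsAltInv (toSpQ hQ g) → (NNs (toSpQ hQ g)).rank ≤ (m - 1) / 2 + (m - 1) / 2)} := by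
      apply Nat.card_congr
      apply Equiv.subtypeEquivRight
      intro C
      apply exists_congr
      intro g
      apply and_congr_right
      intro _
      constructor
      · rintro ⟨⟨ho, hns⟩, hΩ⟩
        refine ⟨ho, (hOm g).mp hΩ, fun halt => ?_⟩
        obtain ⟨t, ht⟩ := rank_II (toSpQ hQ g) (hsq' g ho) halt
        have h3 := rank_le (toSpQ hQ g) (hsq' g ho)
        have h4 : (NNs (toSpQ hQ g)).rank ≠ m := fun h => hns ⟨halt, h⟩
        omega
      · rintro ⟨ho, hev, hb⟩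
        refine ⟨⟨ho, fun hs => ?_⟩, (hOm g).mpr hev⟩
        have := hb hs.1
        rw [hs.2] at this
        omega
    rw [e1, e2, e3]
    exact class_count_gen_even' hQ ((m - 1) / 2) hI hII
  -- the special classes
  have part2 : Nat.card {C : ConjClasses ↥(commutator ↥(Cfsg.isometryGroup F Qf)) //
      (∃ g : ↥(commutator ↥(Cfsg.isometryGroup F Qf)), ConjClasses.mk g = C ∧ orderOf g = 2) ∧
      ∃ g : ↥(commutator ↥(Cfsg.isometryGroup F Qf)), ConjClasses.mk g = C ∧
        (orderOf (g : ↥(Cfsg.isometryGroup F Qf)) = 2 ∧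
          Spc hQ (g : ↥(Cfsg.isometryGroup F Qf)))} = if Even m then 2 else 0 := by
    have e1 : Nat.card {C : ConjClasses ↥(commutator ↥(Cfsg.isometryGroup F Qf)) //
        (∃ g : ↥(commutator ↥(Cfsg.isometryGroup F Qf)), ConjClasses.mk g = C ∧ orderOf g = 2) ∧
        ∃ g : ↥(commutator ↥(Cfsg.isometryGroup F Qf)), ConjClasses.mk g = C ∧
          (orderOf (g : ↥(Cfsg.isometryGroup F Qf)) = 2 ∧
            Spc hQ (g : ↥(Cfsg.isometryGroup F Qf)))} =
        Nat.card {C : ConjClasses ↥(commutator ↥(Cfsg.isometryGroup F Qf)) //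
          ∃ g : ↥(commutator ↥(Cfsg.isometryGroup F Qf)), ConjClasses.mk g = C ∧
            (orderOf (g : ↥(Cfsg.isometryGroup F Qf)) = 2 ∧
              Spc hQ (g : ↥(Cfsg.isometryGroup F Qf)))} := by
      apply Nat.card_congr
      apply Equiv.subtypeEquivRight
      intro C
      constructor
      · exact fun h => h.2
      · rintro ⟨g, hg, ho, hs⟩
        exact ⟨⟨g, hg, (Subgroup.orderOf_coe g).symm.trans ho⟩, g, hg, ho, hs⟩
    rw [e1]
    by_cases hem : Even m
    · rw [if_pos hem]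
      obtain ⟨t₀, ht₀sq, hs⟩ := hsp hem
      obtain ⟨r, hr⟩ := hδr
      have ht₀ne : t₀ ≠ 1 := by
        intro h
        have h1 : toSpQ hQ t₀ ≠ 1 := by
          apply ne_one_of_rank
          rw [hs.2]
          omega
        apply h1
        rw [h, map_one]
      have ht₀o : orderOf t₀ = 2 :=
        orderOf_eq_prime (by rw [pow_two]; exact ht₀sq) ht₀ne
      apply card_two_classes (commutator ↥(Cfsg.isometryGroup F Qf)) δ hδ
        (fun g => orderOf g = 2 ∧ Spc hQ g) _ t₀ _ ⟨ht₀o, hs⟩ r hr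
      · intro g hg
        exact (hδ g).mp (centralizer_le_omega hQ hne hm t₀ g hs hg)
      · rintro s ⟨hos, hss⟩
        have h1 : toSpQ hQ t₀ * toSpQ hQ t₀ = 1 := by rw [← map_mul, ht₀sq, map_one]
        have := (isConj_iff_toSpQ hQ t₀ s ht₀sq).mpr
          (conj_II _ _ h1 (hsq' s hos) hs.1 hss.1 (by rw [hs.2, hss.2]))
        exact isConj_iff.mp this
      · intro c g
        show (orderOf (c * g * c⁻¹) = 2 ∧ Spc hQ (c * g * c⁻¹)) ↔ (orderOf g = 2 ∧ Spc hQ g)
        rw [orderOf_conj', spc_conj]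
      · rw [hOm, hs.2]
        exact hem
    · rw [if_neg hem]
      have : IsEmpty {C : ConjClasses ↥(commutator ↥(Cfsg.isometryGroup F Qf)) //
          ∃ g : ↥(commutator ↥(Cfsg.isometryGroup F Qf)), ConjClasses.mk g = C ∧
            (orderOf (g : ↥(Cfsg.isometryGroup F Qf)) = 2 ∧
              Spc hQ (g : ↥(Cfsg.isometryGroup F Qf)))} := by
        constructor
        rintro ⟨C, g, _, ho, hs⟩
        apply hem
        have := rank_II (toSpQ hQ (g : ↥(Cfsg.isometryGroup F Qf))) (hsq' _ ho) hs.1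
        rw [hs.2] at this
        exact this
      exact Nat.card_of_isEmpty
  rw [part1, part2]
  by_cases hem : Even m
  · rw [if_pos hem, if_pos hem]
    obtain ⟨a, ha⟩ := hem
    omega
  · rw [if_neg hem, if_neg hem]
    rw [Nat.not_even_iff_odd] at hem
    obtain ⟨a, ha⟩ := hem
    omega

end Cfsg.Agent.helper29.OM
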