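import Mathlib
import Cfsg.Agent.Lib_helper29_OM14

set_option autoImplicit false
set_option linter.unusedSectionVars false
set_option linter.unusedVariables false
namespace Cfsg.Agent.helper29.OM
open Matrix Cfsg.Agent.helper4 Cfsg.Agent.S0245 Cfsg.Agent.S2594 Cfsg.Agent.S0440 Cfsg.Agent.helper29
open Cfsg.Agent.helper29.SpInv Cfsg.Agent.helper29.OInv Cfsg.Agent.helper13

variable {F : Type*} [Field F] {m : ℕ}

theorem toSpQ_plus [CharP F 2] (t : ↥(Cfsg.isometryGroup F (Cfsg.quadFormPlus m F))) :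
    toSpQ isQF_plus t = toSp t := rfl

/-- the number of classes of involutions in `Ω^+_{2m}(F)`, `F` finite of characteristic two -/
theorem omega_class_count_plus [Fintype F] [CharP F 2] (hm : 1 ≤ m)
    (hne : Fintype.card F ≠ 2 ∨ m ≠ 2) :
    Nat.card {C : ConjClasses ↥(Cfsg.Omega F (Cfsg.quadFormPlus m F)) //
      ∃ g : ↥(Cfsg.Omega F (Cfsg.quadFormPlus m F)), ConjClasses.mk g = C ∧ orderOf g = 2} =
      2 * (m / 2) + (if Even m then 1 else 0) := by
  apply omega_class_count_split isQF_plus hne hm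
  · intro i
    obtain ⟨t, h1, h2, h3⟩ := exists_I_O (F := F) (m := m) (i.val + 1) (by omega)
      (by have := i.2; omega)
    exact ⟨t, h1, h2, h3⟩
  · intro j
    obtain ⟨t, h1, h2, h3⟩ := exists_II_O (F := F) (m := m) (j.val + 1) (by have := j.2; omega)
    exact ⟨t, h1, h2, h3⟩
  · intro hem
    obtain ⟨a, ha⟩ := hem
    obtain ⟨t, h1, h2, h3⟩ := exists_II_O (F := F) (m := m) a (by omega)
    exact ⟨t, h1, h2, h3.trans ha.symm⟩

end Cfsg.Agent.helper29.OM
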