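import Mathlib
import Cfsg.Agent.Lib_helper29_SpC8
import Cfsg.Agent.Lib_helper29_OM15

set_option autoImplicit false
set_option linter.unusedSectionVars false
set_option linter.unusedVariables false
namespace Cfsg.Agent.helper29.OC
open Matrix Cfsg.Agent.helper4 Cfsg.Agent.S0245 Cfsg.Agent.S2594 Cfsg.Agent.S0440 Cfsg.Agent.helper29
open Cfsg.Agent.helper29.SpInv Cfsg.Agent.helper29.OInv

section gen
variable {F : Type*} [Field F] {ι : Type} [Fintype ι] [DecidableEq ι]

/-- a linear isometry of a nondegenerate quadratic form as an element of the isometry group -/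
theorem exists_isom_of_lin (Qf : (ι → F) → F) (Q : QuadraticForm F (ι → F))
    (hQf : ∀ v, Q v = Qf v) (hQ : (QuadraticMap.polarBilin Q).Nondegenerate)
    (γ : (ι → F) →ₗ[F] (ι → F)) (hγQ : ∀ x, Q (γ x) = Q x) :
    ∃ h : ↥(Cfsg.isometryGroup F Qf), ∀ x, ((h : GL ι F) : Matrix ι ι F) *ᵥ x = γ x := by
  have hγinj := Cfsg.Agent.S0750.inj_of_iso Q hQ γ hγQ
  obtain ⟨γe, hγe⟩ : ∃ γe : (ι → F) ≃ₗ[F] (ι → F), ∀ x, γe x = γ x :=
    ⟨LinearEquiv.ofInjectiveEndo γ hγinj, fun x => by rw [LinearEquiv.coe_ofInjectiveEndo]⟩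
  have hH1 : LinearMap.toMatrix' γ * LinearMap.toMatrix' γe.symm.toLinearMap = 1 := by
    rw [← LinearMap.toMatrix'_comp]
    have : γ ∘ₗ γe.symm.toLinearMap = LinearMap.id := by
      apply LinearMap.ext
      intro x
      rw [LinearMap.comp_apply, LinearEquiv.coe_coe, ← hγe, LinearEquiv.apply_symm_apply,
        LinearMap.id_apply]
    rw [this, LinearMap.toMatrix'_id]
  have hH2 : LinearMap.toMatrix' γe.symm.toLinearMap * LinearMap.toMatrix' γ = 1 := by
    rw [← LinearMap.toMatrix'_comp]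
    have : γe.symm.toLinearMap ∘ₗ γ = LinearMap.id := by
      apply LinearMap.ext
      intro x
      rw [LinearMap.comp_apply, LinearEquiv.coe_coe, ← hγe, LinearEquiv.symm_apply_apply,
        LinearMap.id_apply]
    rw [this, LinearMap.toMatrix'_id]
  obtain ⟨hGL, hhGL⟩ : ∃ h : GL ι F, (h : Matrix ι ι F) = LinearMap.toMatrix' γ :=
    ⟨⟨LinearMap.toMatrix' γ, LinearMap.toMatrix' γe.symm.toLinearMap, hH1, hH2⟩, rfl⟩
  have hO : hGL ∈ Cfsg.isometryGroup F Qf := by
    intro u v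
    show Qf ((hGL : Matrix ι ι F) *ᵥ u) = Qf u
    rw [hhGL, LinearMap.toMatrix'_mulVec, ← hQf, ← hQf, hγQ]
  refine ⟨⟨hGL, hO⟩, fun x => ?_⟩
  show (hGL : Matrix ι ι F) *ᵥ x = γ x
  rw [hhGL, LinearMap.toMatrix'_mulVec]

/-- Witt's theorem in terms of the isometry group -/
theorem witt_O (Qf : (ι → F) → F) (Q : QuadraticForm F (ι → F))
    (hQf : ∀ v, Q v = Qf v) (hQ : (QuadraticMap.polarBilin Q).Nondegenerate)
    (U : Submodule F (ι → F)) (g₀ : (ι → F) →ₗ[F] (ι → F))
    (hiso : ∀ x ∈ U, Q (g₀ x) = Q x) (hinj : ∀ x ∈ U, g₀ x = 0 → x = 0) :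
    ∃ h : ↥(Cfsg.isometryGroup F Qf), ∀ x ∈ U, ((h : GL ι F) : Matrix ι ι F) *ᵥ x = g₀ x := by
  obtain ⟨γ, hγQ, hγU⟩ := Cfsg.Agent.S0750.witt Q hQ _ U g₀ rfl hiso hinj
  obtain ⟨h, hh⟩ := exists_isom_of_lin Qf Q hQf hQ γ hγQ
  exact ⟨h, fun x hx => by rw [hh, hγU x hx]⟩

end gen

variable {F : Type*} [Field F] {m : ℕ}

local notation "Sp" => Matrix.symplecticGroup (Fin m) F
local notation "ff" => Cfsg.sympForm m F
local notation "VV" => (Fin m ⊕ Fin m → F)
local notation "MM" => Matrix (Fin m ⊕ Fin m) (Fin m ⊕ Fin m) F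
set_option quotPrecheck false in
local notation "OO" => ↥(Cfsg.isometryGroup F (Cfsg.quadFormPlus m F))
local notation "QQ" => Cfsg.quadFormPlus m F

/-- the orthogonal group is transitive on frames with prescribed values of the quadratic form -/
theorem qframe_trans [CharP F 2] {ι : Type*} [Fintype ι] (w b : ι → VV) (hw : IsFrameSp w)
    (hb : IsFrameSp b) (hQ : ∀ i, QQ (w i) = QQ (b i)) :
    ∃ h : OO, ∀ i, ((toSp h : Sp) : MM) *ᵥ w i = b i := by
  classical
  obtain ⟨g₁, hg₁⟩ := frame_trans_sp w b hw.1 hw.2 hb.1 hb.2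
  obtain ⟨h, hh⟩ := witt_O (Cfsg.quadFormPlus m F) (Cfsg.Agent.helper13.QPlus F m)
    (Cfsg.Agent.helper13.QPlus_apply F m) (Cfsg.Agent.helper13.QPlus_nondeg (F := F) m)
    (Submodule.span F (Set.range w)) (Matrix.toLin' (g₁ : MM))
    (by
      intro x hx
      rw [Submodule.mem_span_range_iff_exists_fun] at hx
      obtain ⟨c, rfl⟩ := hx
      rw [Cfsg.Agent.helper13.QPlus_apply, Cfsg.Agent.helper13.QPlus_apply, Matrix.toLin'_apply,
        Matrix.mulVec_sum]
      simp only [Matrix.mulVec_smul, hg₁]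
      rw [QQ_sum_iso b hb.2, QQ_sum_iso w hw.2]
      apply Finset.sum_congr rfl
      intro i _
      rw [hQ])
    (by
      intro x _ h0
      rw [Matrix.toLin'_apply] at h0
      have := inv_mulVec_mulVec g₁ x
      rw [h0, Matrix.mulVec_zero] at this
      exact this.symm)
  refine ⟨h, fun i => ?_⟩
  have := hh (w i) (Submodule.subset_span ⟨i, rfl⟩)
  rw [Matrix.toLin'_apply, hg₁] at this
  exact this

/-- the value of the quadratic form on the range of `t - 1` -/
theorem QQ_N [CharP F 2] (t : OO) (x : VV) :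
    QQ (NNs (toSp t) *ᵥ x) = bet (toSp t) x x :=
  Cfsg.Agent.helper29.OM.Qf_N Cfsg.Agent.helper29.OM.isQF_plus t x

/-- the vectors of a frame giving an orthogonal involution of non-alternating type are
nonsingular of norm one -/
theorem fib_Q_one [CharP F 2] {ι : Type*} [Fintype ι] [DecidableEq ι] (t : OO) (b : ι → VV)
    (hb : b ∈ FibSp (Equiv.refl ι) (toSp t)) (i : ι) : QQ (b i) = 1 := by
  obtain ⟨hLI, hbr, hbf⟩ := hb
  obtain ⟨y, hy⟩ := hbr i
  have h1 := hbf y
  rw [← hy] at h1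
  have h2 : b i = ∑ j, (if j = i then (1 : F) else 0) • b j := by
    rw [Finset.sum_eq_single i]
    · rw [if_pos rfl, one_smul]
    · intro j _ hj
      rw [if_neg hj, zero_smul]
    · intro h
      exact absurd (Finset.mem_univ _) h
  have h3 := li_coeff_eq b hLI _ _ (h2.symm.trans h1)
  have h4 : ff y (b i) = 1 := by
    have := congrFun h3 i
    simp only [if_true] at this
    exact this.symm
  rw [hy, QQ_N]
  unfold bet
  rw [← hy, sympForm_swap, h4]
  exact CharTwo.neg_eq 1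

end Cfsg.Agent.helper29.OC
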