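import Mathlib
import Cfsg.Agent.Lib_helper29_OC1

set_option autoImplicit false
set_option linter.unusedSectionVars false
set_option linter.unusedVariables false
namespace Cfsg.Agent.helper29.OC
open Matrix Cfsg.Agent.helper4 Cfsg.Agent.S0245 Cfsg.Agent.S2594 Cfsg.Agent.S0440 Cfsg.Agent.helper29
open Cfsg.Agent.helper29.SpInv Cfsg.Agent.helper29.OInv

variable {F : Type*} [Field F] {m : ℕ}

local notation "Sp" => Matrix.symplecticGroup (Fin m) F
local notation "ff" => Cfsg.sympForm m F
local notation "VV" => (Fin m ⊕ Fin m → F)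
local notation "MM" => Matrix (Fin m ⊕ Fin m) (Fin m ⊕ Fin m) F
set_option quotPrecheck false in
local notation "OO" => ↥(Cfsg.isometryGroup F (Cfsg.quadFormPlus m F))
local notation "QQ" => Cfsg.quadFormPlus m F

theorem exists_rt [Fintype F] [CharP F 2] (c : F) : ∃ r : F, r * r = c := by
  have hF : ringChar F = 2 := ringChar.eq F 2
  obtain ⟨r, hr⟩ := FiniteField.isSquare_of_char_two hF c
  exact ⟨r, hr.symm⟩

theorem rt_unique [CharP F 2] (r r' : F) (h : r * r = r' * r') : r = r' := by
  have h2 : (2 : F) = 0 := CharTwo.two_eq_zero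
  have h1 : (r - r') * (r - r') = 0 := by linear_combination h + (r' * r' - r * r') * h2
  have := mul_self_eq_zero.mp h1
  exact sub_eq_zero.mp this

/-- the square root in a finite field of characteristic two -/
noncomputable def rt [Fintype F] [CharP F 2] (c : F) : F := Classical.choose (exists_rt c)

theorem rt_mul_self [Fintype F] [CharP F 2] (c : F) : rt c * rt c = c :=
  Classical.choose_spec (exists_rt c)

theorem rt_sq [Fintype F] [CharP F 2] (t : F) : rt (t * t) = t :=
  rt_unique _ _ (rt_mul_self (t * t))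

/-- the vectors of norm one in a subspace containing a vector of norm one in its radical -/
theorem card_Q_one [Fintype F] [CharP F 2] {q : ℕ} (hF : Fintype.card F = q)
    (W : Submodule F VV) (b₀ : VV) (hb₀W : b₀ ∈ W) (hQ : QQ b₀ = 1)
    (horth : ∀ x ∈ W, ff x b₀ = 0) :
    Nat.card {x : VV // x ∈ W ∧ QQ x = 1} * q = Nat.card W := by
  classical
  have h2 : (2 : F) = 0 := CharTwo.two_eq_zero
  have key : ∀ x ∈ W, ∀ t : F, QQ (x + t • b₀) = QQ x + t * t := by
    intro x hx t
    rw [QQ_add, QQ_smul, hQ, sympForm_smul_right, horth x hx]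
    ring
  have e : ↥W ≃ {x : VV // x ∈ W ∧ QQ x = 1} × F :=
    { toFun := fun x => (⟨(x : VV) + rt (1 + QQ (x : VV)) • b₀,
          W.add_mem x.2 (W.smul_mem _ hb₀W), by
          rw [key _ x.2, rt_mul_self]
          linear_combination (QQ (x : VV)) * h2⟩, rt (1 + QQ (x : VV)))
      invFun := fun p => ⟨(p.1 : VV) + p.2 • b₀, W.add_mem p.1.2.1 (W.smul_mem _ hb₀W)⟩
      left_inv := by
        intro x
        apply Subtype.ext
        show (x : VV) + rt (1 + QQ (x : VV)) • b₀ + rt (1 + QQ (x : VV)) • b₀ = x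
        rw [add_assoc, vec_add_self, add_zero]
      right_inv := by
        rintro ⟨⟨s, hsW, hs1⟩, t⟩
        have h1 : rt (1 + QQ (s + t • b₀)) = t := by
          rw [key s hsW, hs1]
          have : (1 : F) + (1 + t * t) = t * t := by linear_combination h2
          rw [this, rt_sq]
        apply Prod.ext
        · apply Subtype.ext
          show s + t • b₀ + rt (1 + QQ (s + t • b₀)) • b₀ = s
          rw [h1, add_assoc, vec_add_self, add_zero]
        · exact h1 }
  rw [Nat.card_congr e, Nat.card_prod, Nat.card_eq_fintype_card (α := F), hF]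

theorem card_fiber_Q [Fintype F] [CharP F 2] {q : ℕ} (hF : Fintype.card F = q) {k : ℕ}
    (b : Fin (k + 1) → VV) (hb : IsFrameSp b) (hQb : ∀ i, QQ (b i) = 1) :
    Nat.card {x : VV // (x ∈ perpSp (Set.range b) ∧ x ∉ Submodule.span F (Set.range b)) ∧
      QQ x = 1} = q ^ (2 * m - (k + 1) - 1) - q ^ k := by
  classical
  have hq : 2 ≤ q := by
    rw [← hF]
    exact Fintype.one_lt_card
  have hkm := frame_le b hb
  have h1 := card_split' (fun v : VV => v ∈ perpSp (Set.range b) ∧ QQ v = 1)
    (fun v => v ∈ Submodule.span F (Set.range b))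
  have hA := card_Q_one hF (perpSp (Set.range b)) (b 0)
    (by
      rintro _ ⟨j, rfl⟩
      exact hb.2 0 j) (hQb 0)
    (fun x hx => hx (b 0) ⟨0, rfl⟩)
  have hA2 : Nat.card ↥(perpSp (Set.range b)) = q ^ (2 * m - (k + 1)) := by
    rw [Nat.card_eq_fintype_card, Module.card_eq_pow_finrank (K := F), hF, finrank_perpSp b hb.1]
  have hB := card_Q_one hF (Submodule.span F (Set.range b)) (b 0)
    (Submodule.subset_span ⟨0, rfl⟩) (hQb 0)
    (fun x hx => frame_span_iso_sp b hb.2 x (b 0) hx (Submodule.subset_span ⟨0, rfl⟩))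
  have hB2 : Nat.card ↥(Submodule.span F (Set.range b)) = q ^ (k + 1) := by
    rw [Nat.card_eq_fintype_card, Module.card_eq_pow_finrank (K := F), hF,
      finrank_span_eq_card hb.1, Fintype.card_fin]
  have hA3 : Nat.card {x : VV // x ∈ perpSp (Set.range b) ∧ QQ x = 1} =
      q ^ (2 * m - (k + 1) - 1) := by
    apply Nat.eq_of_mul_eq_mul_right (by omega : 0 < q)
    rw [hA, hA2, ← pow_succ]
    congr 1
    omega
  have hB3 : Nat.card {x : VV // x ∈ Submodule.span F (Set.range b) ∧ QQ x = 1} = q ^ k := by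
    apply Nat.eq_of_mul_eq_mul_right (by omega : 0 < q)
    rw [hB, hB2, ← pow_succ]
  have e1 : {v : VV // (v ∈ perpSp (Set.range b) ∧ QQ v = 1) ∧
      v ∈ Submodule.span F (Set.range b)} ≃
      {x : VV // x ∈ Submodule.span F (Set.range b) ∧ QQ x = 1} :=
    Equiv.subtypeEquivRight (fun v => by
      constructor
      · exact fun h => ⟨h.2, h.1.2⟩
      · intro h
        refine ⟨⟨?_, h.2⟩, h.1⟩
        rintro _ ⟨i, rfl⟩
        exact frame_span_iso_sp b hb.2 v (b i) h.1 (Submodule.subset_span ⟨i, rfl⟩))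
  have e2 : {v : VV // (v ∈ perpSp (Set.range b) ∧ QQ v = 1) ∧
      ¬ v ∈ Submodule.span F (Set.range b)} ≃
      {x : VV // (x ∈ perpSp (Set.range b) ∧ x ∉ Submodule.span F (Set.range b)) ∧ QQ x = 1} :=
    Equiv.subtypeEquivRight (fun v => by
      constructor
      · exact fun h => ⟨⟨h.1.1, h.2⟩, h.1.2⟩
      · exact fun h => ⟨⟨h.1.1, h.2⟩, h.1.2⟩)
  rw [hA3, Nat.card_congr e1, hB3, Nat.card_congr e2] at h1
  omega

end Cfsg.Agent.helper29.OC
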