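import Mathlib
import Cfsg.Agent.Lib_helper29_OC2

set_option autoImplicit false
set_option linter.unusedSectionVars false
set_option linter.unusedVariables false
namespace Cfsg.Agent.helper29.OC
open Matrix Cfsg.Agent.helper4 Cfsg.Agent.S0245 Cfsg.Agent.S2594 Cfsg.Agent.S0440 Cfsg.Agent.helper29
open Cfsg.Agent.helper29.SpInv Cfsg.Agent.helper29.OInv

variable {F : Type*} [Field F] {m : ℕ}

local notation "Sp" => Matrix.symplecticGroup (Fin m) F
local notation "ff" => Cfsg.sympForm m F
local notation "VV" => (Fin m ⊕ Fin m → F)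
local notation "MM" => Matrix (Fin m ⊕ Fin m) (Fin m ⊕ Fin m) F
set_option quotPrecheck false in
local notation "OO" => ↥(Cfsg.isometryGroup F (Cfsg.quadFormPlus m F))
local notation "QQ" => Cfsg.quadFormPlus m F

/-- frames of vectors of norm one -/
def IsQFrame {ι : Type*} (w : ι → VV) : Prop := IsFrameSp w ∧ ∀ i, QQ (w i) = 1

/-- the type of frames of vectors of norm one indexed by `ι` -/
def QFr (m : ℕ) (F : Type*) [Field F] (ι : Type*) : Type _ :=
  {b : ι → (Fin m ⊕ Fin m → F) // IsQFrame b}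

noncomputable instance [Fintype F] (ι : Type*) [Finite ι] : Finite (QFr m F ι) := by
  unfold QFr
  infer_instance

/-- frames of length `k+1` fibre over frames of length `k` -/
noncomputable def qfrEquiv (k : ℕ) :
    QFr m F (Fin (k + 1)) ≃ Σ b : QFr m F (Fin k),
      {x : VV // (x ∈ perpSp (Set.range b.1) ∧ x ∉ Submodule.span F (Set.range b.1)) ∧
        QQ x = 1} where
  toFun c := ⟨⟨Fin.tail c.1, (frame_tail_sp c.1 c.2.1).1, fun i => c.2.2 i.succ⟩,
    ⟨c.1 0, (frame_tail_sp c.1 c.2.1).2, c.2.2 0⟩⟩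
  invFun s := ⟨Fin.cons s.2.1 s.1.1, (frame_cons_iff_sp _ _).mpr ⟨s.1.2.1, s.2.2.1⟩, fun i => by
    refine Fin.cases ?_ (fun j => ?_) i
    · simp only [Fin.cons_zero]
      exact s.2.2.2
    · simp only [Fin.cons_succ]
      exact s.1.2.2 j⟩
  left_inv c := by
    apply Subtype.ext
    exact Fin.cons_self_tail c.1
  right_inv s := by
    obtain ⟨⟨b, hb⟩, ⟨x, hx⟩⟩ := s
    exact sigma_subtype_ext' (P := fun (b : QFr m F (Fin k)) (x : VV) =>
      (x ∈ perpSp (Set.range b.1) ∧ x ∉ Submodule.span F (Set.range b.1)) ∧ QQ x = 1)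
      _ _ _ _ _ _ (Subtype.ext (by
        show Fin.tail (Fin.cons x b : Fin (k + 1) → VV) = b
        exact Fin.tail_cons (α := fun _ => VV) x b)) (by
        show (Fin.cons x b : Fin (k + 1) → VV) 0 = x
        exact Fin.cons_zero (α := fun _ => VV) x b)

theorem card_qfr_succ [Fintype F] [CharP F 2] {q : ℕ} (hF : Fintype.card F = q) (k : ℕ) :
    Nat.card (QFr m F (Fin (k + 1 + 1))) =
      Nat.card (QFr m F (Fin (k + 1))) * (q ^ (2 * m - (k + 1) - 1) - q ^ k) := by
  classical
  have : Fintype (QFr m F (Fin (k + 1))) := Fintype.ofFinite _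
  rw [Nat.card_congr (qfrEquiv (k + 1)), Nat.card_sigma]
  rw [Finset.sum_congr rfl (fun b _ => card_fiber_Q hF b.1 b.2.1 b.2.2), Finset.sum_const,
    smul_eq_mul, Finset.card_univ, Nat.card_eq_fintype_card]

end Cfsg.Agent.helper29.OC
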