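import Mathlib
import Cfsg.Agent.Lib_helper29_OC3

set_option autoImplicit false
set_option linter.unusedSectionVars false
set_option linter.unusedVariables false
namespace Cfsg.Agent.helper29.OC
open Matrix Cfsg.Agent.helper4 Cfsg.Agent.S0245 Cfsg.Agent.S2594 Cfsg.Agent.S0440 Cfsg.Agent.helper29
open Cfsg.Agent.helper29.SpInv Cfsg.Agent.helper29.OInv

variable {F : Type*} [Field F] {m : ℕ}

local notation "Sp" => Matrix.symplecticGroup (Fin m) F
local notation "ff" => Cfsg.sympForm m F
local notation "VV" => (Fin m ⊕ Fin m → F)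
local notation "MM" => Matrix (Fin m ⊕ Fin m) (Fin m ⊕ Fin m) F
set_option quotPrecheck false in
local notation "OO" => ↥(Cfsg.isometryGroup F (Cfsg.quadFormPlus m F))
local notation "QQ" => Cfsg.quadFormPlus m F

/-- the nonsingular vectors fibre over the vectors of norm one -/
theorem card_Q_ne_zero [Fintype F] [CharP F 2] {q : ℕ} (hF : Fintype.card F = q) :
    Nat.card {x : VV // QQ x ≠ 0} = Nat.card {x : VV // QQ x = 1} * (q - 1) := by
  classical
  have e : {x : VV // QQ x ≠ 0} ≃ {x : VV // QQ x = 1} × {c : F // c ≠ 0} :=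
    { toFun := fun x => (⟨(rt (QQ x.1))⁻¹ • x.1, by
          have h0 : rt (QQ x.1) ≠ 0 := by
            intro h
            have := rt_mul_self (QQ x.1)
            rw [h, mul_zero] at this
            exact x.2 this.symm
          rw [QQ_smul]
          have h1 := rt_mul_self (QQ x.1)
          rw [inv_pow, pow_two, h1]
          exact inv_mul_cancel₀ x.2⟩, ⟨QQ x.1, x.2⟩)
      invFun := fun p => ⟨rt p.2.1 • p.1.1, by
          rw [QQ_smul, p.1.2, mul_one, pow_two, rt_mul_self]
          exact p.2.2⟩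
      left_inv := by
        intro x
        apply Subtype.ext
        have h0 : rt (QQ x.1) ≠ 0 := by
          intro h
          have := rt_mul_self (QQ x.1)
          rw [h, mul_zero] at this
          exact x.2 this.symm
        show rt (QQ x.1) • (rt (QQ x.1))⁻¹ • x.1 = x.1
        rw [smul_smul, mul_inv_cancel₀ h0, one_smul]
      right_inv := by
        rintro ⟨⟨y, hy⟩, ⟨c, hc⟩⟩
        have h1 : QQ (rt c • y) = c := by
          rw [QQ_smul, hy, mul_one, pow_two, rt_mul_self]
        have h0 : rt c ≠ 0 := by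
          intro h
          have := rt_mul_self c
          rw [h, mul_zero] at this
          exact hc this.symm
        apply Prod.ext
        · apply Subtype.ext
          show (rt (QQ (rt c • y)))⁻¹ • rt c • y = y
          rw [h1, smul_smul, inv_mul_cancel₀ h0, one_smul]
        · apply Subtype.ext
          exact h1 }
  rw [Nat.card_congr e, Nat.card_prod]
  congr 1
  rw [Nat.card_eq_fintype_card, Fintype.card_subtype_compl, Fintype.card_subtype_eq, hF]

theorem card_Q_eq_zero [Fintype F] {q : ℕ} (hF : Fintype.card F = q) :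
    Nat.card {x : VV // QQ x = 0} = q ^ m + Cfsg.Agent.S2617.cseq q m := by
  classical
  rw [← hF, ← Cfsg.Agent.S2617.zeros_plus m]
  unfold Cfsg.Agent.helper13.zeros
  rw [Nat.card_eq_fintype_card, Fintype.card_subtype]

/-- the number of vectors of norm one -/
theorem card_Q_eq_one [Fintype F] [CharP F 2] {q : ℕ} (hF : Fintype.card F = q) (hm : 1 ≤ m) :
    Nat.card {x : VV // QQ x = 1} = q ^ (2 * m - 1) - q ^ (m - 1) := by
  classical
  have hq : 2 ≤ q := by
    rw [← hF]
    exact Fintype.one_lt_card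
  have h1 := card_split' (fun _ : VV => True) (fun x => QQ x = 0)
  have e0 : {a : VV // True} ≃ VV := Equiv.subtypeUnivEquiv (fun _ => trivial)
  have e1 : {a : VV // True ∧ QQ a = 0} ≃ {x : VV // QQ x = 0} :=
    Equiv.subtypeEquivRight (fun _ => by simp)
  have e2 : {a : VV // True ∧ ¬ QQ a = 0} ≃ {x : VV // QQ x ≠ 0} :=
    Equiv.subtypeEquivRight (fun _ => by simp)
  have hV : Nat.card VV = q ^ (2 * m) := by
    rw [Nat.card_eq_fintype_card, Fintype.card_fun, hF, Fintype.card_sum, Fintype.card_fin]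
    congr 1
    ring
  rw [Nat.card_congr e0, Nat.card_congr e1, Nat.card_congr e2, hV, card_Q_eq_zero hF,
    card_Q_ne_zero hF] at h1
  have h3 := Cfsg.Agent.S2617.cseq_id q (by omega) m
  obtain ⟨N, hN⟩ : ∃ N, N = Nat.card {x : VV // QQ x = 1} := ⟨_, rfl⟩
  rw [← hN] at h1 ⊢
  obtain ⟨C, hC⟩ : ∃ C, C = Cfsg.Agent.S2617.cseq q m := ⟨_, rfl⟩
  rw [← hC] at h1 h3
  obtain ⟨r, rfl⟩ : ∃ r, q = r + 1 := ⟨q - 1, by omega⟩
  rw [Nat.add_sub_cancel] at h1
  have e3 : (r + 1) ^ (2 * m) = (r + 1) * (r + 1) ^ (2 * m - 1) := by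
    rw [← pow_succ']
    congr 1
    omega
  have e4 : (r + 1) ^ m = (r + 1) * (r + 1) ^ (m - 1) := by
    rw [← pow_succ']
    congr 1
    omega
  have key : (r + 1) * N + (r + 1) ^ m = (r + 1) ^ (2 * m) := by
    have hr : (r : ℤ) ≠ 0 := by
      have : 1 ≤ r := by omega
      exact_mod_cast (by omega : r ≠ 0)
    have h1z : ((r : ℤ) + 1) ^ (2 * m) = ((r : ℤ) + 1) ^ m + C + N * r := by exact_mod_cast h1
    have h3z : ((r : ℤ) + 1) * C + ((r : ℤ) + 1) ^ m = ((r : ℤ) + 1) ^ (2 * m) := by
      exact_mod_cast h3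
    have : (((r : ℤ) + 1) * N + ((r : ℤ) + 1) ^ m) = ((r : ℤ) + 1) ^ (2 * m) := by
      apply mul_left_cancel₀ hr
      linear_combination (-(r : ℤ) - 1) * h1z - h3z
    exact_mod_cast this
  rw [e3, e4] at key
  have key2 : N + (r + 1) ^ (m - 1) = (r + 1) ^ (2 * m - 1) := by
    apply Nat.eq_of_mul_eq_mul_left (by omega : 0 < r + 1)
    rw [← key]
    ring
  omega

/-- the number of frames of length one -/
theorem card_qfr_one [Fintype F] [CharP F 2] {q : ℕ} (hF : Fintype.card F = q) (hm : 1 ≤ m) :
    Nat.card (QFr m F (Fin 1)) = q ^ (2 * m - 1) - q ^ (m - 1) := by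
  rw [← card_Q_eq_one hF hm]
  apply Nat.card_congr
  exact
    { toFun := fun b => ⟨b.1 0, b.2.2 0⟩
      invFun := fun x => ⟨fun _ => x.1, ⟨by
          rw [linearIndependent_unique_iff]
          intro h
          have := x.2
          rw [h, QQ_zero] at this
          exact zero_ne_one this, fun _ _ => sympForm_self _⟩, fun _ => x.2⟩
      left_inv := by
        intro b
        apply Subtype.ext
        funext i
        show b.1 0 = b.1 i
        rw [Subsingleton.elim i 0]
      right_inv := fun x => rfl }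

end Cfsg.Agent.helper29.OC
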