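import Mathlib
import Cfsg.Agent.Lib_helper29_OC5

set_option autoImplicit false
set_option linter.unusedSectionVars false
set_option linter.unusedVariables false
namespace Cfsg.Agent.helper29.OC
open Matrix Cfsg.Agent.helper4 Cfsg.Agent.S0245 Cfsg.Agent.S2594 Cfsg.Agent.S0440 Cfsg.Agent.helper29
open Cfsg.Agent.helper29.SpInv Cfsg.Agent.helper29.OInv

/-- the part of a subgroup inside the kernel of a sign character taking the value `-1` on it -/
theorem card_ker_inf {G : Type*} [Group G] (δ : G →* ℤˣ) (C : Subgroup G) (c : G) (hc : c ∈ C)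
    (hδc : δ c = -1) : Nat.card {g : G // g ∈ C ∧ δ g = 1} * 2 = Nat.card C := by
  have h1 := Cfsg.Agent.helper13.index_ker_of_neg_one (δ.comp C.subtype) ⟨c, hc⟩ hδc
  have h2 := Subgroup.card_mul_index (δ.comp C.subtype).ker
  rw [h1] at h2
  rw [← h2]
  congr 1
  apply Nat.card_congr
  exact
    { toFun := fun g => ⟨⟨g.1, g.2.1⟩, g.2.2⟩
      invFun := fun g => ⟨g.1.1, g.1.2, g.2⟩
      left_inv := fun g => rfl
      right_inv := fun g => rfl }

variable {F : Type*} [Field F] {m : ℕ}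

local notation "Sp" => Matrix.symplecticGroup (Fin m) F
local notation "ff" => Cfsg.sympForm m F
local notation "VV" => (Fin m ⊕ Fin m → F)
local notation "MM" => Matrix (Fin m ⊕ Fin m) (Fin m ⊕ Fin m) F
set_option quotPrecheck false in
local notation "OO" => ↥(Cfsg.isometryGroup F (Cfsg.quadFormPlus m F))
local notation "QQ" => Cfsg.quadFormPlus m F

/-- centraliser order of an involution of non-alternating type in the orthogonal group -/
theorem card_centralizer_O [Fintype F] [CharP F 2] {q : ℕ} (hF : Fintype.card F = q) (t : OO)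
    (ht : t * t = 1) (hna : ¬ IsAltInv (toSp t)) :
    ∃ k, (NNs (toSp t)).rank = k + 1 ∧
      Nat.card (Subgroup.centralizer ({t} : Set OO)) * Nat.card (QFr m F (Fin (k + 1))) =
        Nat.card OO * PPn q k := by
  classical
  have ht' : toSp t * toSp t = 1 := by rw [← map_mul, ht, map_one]
  obtain ⟨s, w, hLI, hwr, hwf⟩ := normal_I _ (toSp t) ht' hna rfl
  have hrank := rank_of_form id (toSp t) w hLI hwr hwf
  rw [Fintype.card_fin] at hrank
  have hs : s ≠ 0 := by
    rintro rfl
    apply hna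
    intro u
    unfold bet
    rw [hwf u, Finset.univ_eq_empty, Finset.sum_empty, Cfsg.Agent.S0766.sympForm_zero_left]
  obtain ⟨k, rfl⟩ := Nat.exists_eq_succ_of_ne_zero hs
  have hσ : ∀ i, (Equiv.refl (Fin (k + 1))) ((Equiv.refl (Fin (k + 1))) i) = i := fun i => rfl
  have hw : w ∈ FibSp (Equiv.refl (Fin (k + 1))) (toSp t) := ⟨hLI, hwr, hwf⟩
  have h1 := card_centralizer_fib_O t ht w hw
  have hQF : IsQFrame w := ⟨⟨hLI, iso_of_range (toSp t) ht' w hwr⟩, fib_Q_one t w hw⟩
  have h2 := card_O_frames w hQF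
  have h3 := card_fib (Equiv.refl (Fin (k + 1))) hσ (toSp t) ht' w hw
  rw [card_GQ_refl hF k] at h3
  refine ⟨k, hrank, ?_⟩
  rw [h1, h2, h3]
  ring

/-- the centraliser in `Ω` of an involution of non-alternating type has index two in the
centraliser in the orthogonal group -/
theorem card_centralizer_omega [Fintype F] [CharP F 2] (hne : Fintype.card F ≠ 2 ∨ m ≠ 2)
    (hm : 1 ≤ m) (t : OO) (ht : t * t = 1) (hna : ¬ IsAltInv (toSp t)) :
    Nat.card {g : ↥(Cfsg.Omega F (Cfsg.quadFormPlus m F)) // (g : OO) * t = t * (g : OO)} * 2 =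
      Nat.card (Subgroup.centralizer ({t} : Set OO)) := by
  have h2 : (2 : F) = 0 := CharTwo.two_eq_zero
  have hQ := Cfsg.Agent.helper29.OM.isQF_plus (F := F) (m := m)
  have hcard : Fintype.card (Fin m ⊕ Fin m) = 2 * m := by
    rw [Fintype.card_sum, Fintype.card_fin]
    ring
  have hne' : Fintype.card F ≠ 2 ∨ Fintype.card (Fin m ⊕ Fin m) ≠ 4 := by
    rcases hne with h | h
    · exact Or.inl h
    · right
      rw [hcard]
      omega
  have hn : 1 ≤ Fintype.card (Fin m ⊕ Fin m) := by omega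
  obtain ⟨δ, hδ, c, hct, hδc⟩ : ∃ δ : OO →* ℤˣ,
      (∀ g, g ∈ commutator OO ↔ δ g = 1) ∧ ∃ c : OO, c * t = t * c ∧ δ c = -1 := by
    refine ⟨Cfsg.Agent.helper13.dickson (Cfsg.Agent.helper29.OM.bundQ hQ) h2
      (Cfsg.Agent.helper29.OM.bundQ_nondeg hQ),
      fun g => Cfsg.Agent.helper13.mem_commutator_iff_two (Cfsg.Agent.helper29.OM.bundQ hQ) h2
        (Cfsg.Agent.helper29.OM.bundQ_nondeg hQ) hne' hn _
        (Cfsg.Agent.helper13.dickson_reflG (Cfsg.Agent.helper29.OM.bundQ hQ) h2
          (Cfsg.Agent.helper29.OM.bundQ_nondeg hQ)) g, ?_⟩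
    rcases Cfsg.Agent.helper13.fix_nonsing_or_mts (Cfsg.Agent.helper29.OM.bundQ hQ) h2
      (Cfsg.Agent.helper29.OM.bundQ_nondeg hQ) hcard t ht with ⟨a, hta, ha⟩ | ⟨hmts, -⟩
    · refine ⟨Cfsg.Agent.helper13.reflG (Cfsg.Agent.helper29.OM.bundQ hQ) a ha, ?_, ?_⟩
      · exact (Cfsg.Agent.helper13.reflG_comm_of_fix (Cfsg.Agent.helper29.OM.bundQ hQ)
          t a ha hta).symm
      · exact Cfsg.Agent.helper13.dickson_reflG (Cfsg.Agent.helper29.OM.bundQ hQ) h2
          (Cfsg.Agent.helper29.OM.bundQ_nondeg hQ) a ha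
    · exfalso
      exact hna (Cfsg.Agent.helper29.OM.spc_of_mts hQ t ht hmts).1
  have h3 := card_ker_inf δ (Subgroup.centralizer ({t} : Set OO)) c
    (by rw [Subgroup.mem_centralizer_singleton_iff]; exact hct) hδc
  rw [← h3]
  congr 1
  apply Nat.card_congr
  exact
    { toFun := fun g => ⟨(g.1 : OO), by
          rw [Subgroup.mem_centralizer_singleton_iff]
          exact g.2, (hδ _).mp g.1.2⟩
      invFun := fun g => ⟨⟨g.1, (hδ _).mpr g.2.2⟩, by
          have := g.2.1
          rw [Subgroup.mem_centralizer_singleton_iff] at this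
          exact this⟩
      left_inv := fun g => rfl
      right_inv := fun g => rfl }

end Cfsg.Agent.helper29.OC
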