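import Mathlib
import Cfsg.Agent.Lib_helper29_OC6
import Cfsg.Agent.S0287

set_option autoImplicit false
set_option linter.unusedSectionVars false
set_option linter.unusedVariables false
namespace Cfsg.Agent.helper29.OC
open Matrix Cfsg.Agent.helper4 Cfsg.Agent.S0245 Cfsg.Agent.S2594 Cfsg.Agent.S0440 Cfsg.Agent.helper29
open Cfsg.Agent.helper29.SpInv Cfsg.Agent.helper29.OInv

/-- the number of frames of `j + 1` vectors of norm one -/
def qfrN (q m : ℕ) : ℕ → ℕ
  | 0 => q ^ (2 * m - 1) - q ^ (m - 1)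
  | j + 1 => qfrN q m j * (q ^ (2 * m - (j + 1) - 1) - q ^ j)

/-- half the order of the orthogonal group of plus type -/
def ordOm (q m : ℕ) : ℕ :=
  q ^ (m * (m - 1)) * (q ^ m - 1) * ∏ i ∈ Finset.range (m - 1), (q ^ (2 * (i + 1)) - 1)

theorem ordOm_pos (q m : ℕ) (hq : 2 ≤ q) (hm : 1 ≤ m) : 0 < ordOm q m := by
  unfold ordOm
  apply Nat.mul_pos
  · apply Nat.mul_pos
    · exact Nat.pow_pos (by omega)
    · have : 1 < q ^ m := Nat.one_lt_pow (by omega) (by omega)
      omega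
  · apply Finset.prod_pos
    intro i _
    have : 1 < q ^ (2 * (i + 1)) := Nat.one_lt_pow (by omega) (by omega)
    omega

theorem key_arith_O (q m : ℕ) (hq : 1 ≤ q) : ∀ j, j + 1 ≤ m →
    q ^ (2 * m * j - (3 * (j + 1) ^ 2 - 3 * (j + 1)) / 2) * spN q (m - (j + 1)) * qfrN q m j =
      ordOm q m := by
  intro j
  induction j with
  | zero =>
    intro hm
    obtain ⟨n, rfl⟩ : ∃ n, m = n + 1 := ⟨m - 1, by omega⟩
    unfold qfrN ordOm spN
    have h1 : q ^ (2 * (n + 1) - 1) - q ^ (n + 1 - 1) = q ^ n * (q ^ (n + 1) - 1) := by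
      rw [Nat.mul_sub, mul_one, ← pow_add]
      congr 2
      omega
    rw [h1]
    simp only [Nat.add_sub_cancel]
    have h2 : q ^ ((n + 1) * n) = q ^ (n ^ 2) * q ^ n := by
      rw [← pow_add]
      congr 1
      ring
    rw [h2]
    simp only [mul_zero, Nat.zero_sub, pow_zero]
    ring_nf
  | succ j ih =>
    intro hm
    have ih' := ih (by omega)
    have h1 : m - (j + 1) = (m - (j + 1 + 1)) + 1 := by omega
    rw [h1, spN_succ] at ih'
    rw [← ih']
    have hq2 : qfrN q m (j + 1) = qfrN q m j * (q ^ j * (q ^ (2 * (m - (j + 1 + 1) + 1)) - 1)) := by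
      show qfrN q m j * (q ^ (2 * m - (j + 1) - 1) - q ^ j) = _
      congr 1
      rw [Nat.mul_sub, mul_one, ← pow_add]
      congr 2
      omega
    rw [hq2]
    have hE : 2 * m * (j + 1) - (3 * (j + 1 + 1) ^ 2 - 3 * (j + 1 + 1)) / 2 + j =
        2 * m * j - (3 * (j + 1) ^ 2 - 3 * (j + 1)) / 2 + (2 * (m - (j + 1 + 1)) + 1) := by
      obtain ⟨c, hc⟩ : ∃ c, j * j + j = 2 * c := by
        have := Nat.even_mul_succ_self j
        obtain ⟨c, hc⟩ := this
        exact ⟨c, by rw [← two_mul] at hc; rw [← hc]; ring⟩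
      have h3 : (j + 2) * j ≤ m * j := Nat.mul_le_mul_right j (by omega)
      have e0 : (j + 2) * j = j * j + 2 * j := by ring
      have e1 : (j + 1 + 1) ^ 2 = j * j + 4 * j + 4 := by ring
      have e2 : (j + 1) ^ 2 = j * j + 2 * j + 1 := by ring
      have e3 : 2 * m * (j + 1) = 2 * (m * j) + 2 * m := by ring
      have e4 : 2 * m * j = 2 * (m * j) := by ring
      rw [e1, e2, e3, e4]
      rw [e0] at h3
      generalize j * j = j2 at *
      generalize m * j = mj at *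
      omega
    have hpow : q ^ (2 * m * (j + 1) - (3 * (j + 1 + 1) ^ 2 - 3 * (j + 1 + 1)) / 2) * q ^ j =
        q ^ (2 * m * j - (3 * (j + 1) ^ 2 - 3 * (j + 1)) / 2) *
          q ^ (2 * (m - (j + 1 + 1)) + 1) := by
      rw [← pow_add, ← pow_add, hE]
    calc q ^ (2 * m * (j + 1) - (3 * (j + 1 + 1) ^ 2 - 3 * (j + 1 + 1)) / 2) *
          spN q (m - (j + 1 + 1)) *
          (qfrN q m j * (q ^ j * (q ^ (2 * (m - (j + 1 + 1) + 1)) - 1)))
        = (q ^ (2 * m * (j + 1) - (3 * (j + 1 + 1) ^ 2 - 3 * (j + 1 + 1)) / 2) * q ^ j) *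
          (spN q (m - (j + 1 + 1)) * qfrN q m j * (q ^ (2 * (m - (j + 1 + 1) + 1)) - 1)) := by
          ring
      _ = (q ^ (2 * m * j - (3 * (j + 1) ^ 2 - 3 * (j + 1)) / 2) *
          q ^ (2 * (m - (j + 1 + 1)) + 1)) *
          (spN q (m - (j + 1 + 1)) * qfrN q m j * (q ^ (2 * (m - (j + 1 + 1) + 1)) - 1)) := by
          rw [hpow]
      _ = _ := by ring

end Cfsg.Agent.helper29.OC
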