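import Mathlib
import Cfsg.Agent.Lib_helper29_OC7

set_option autoImplicit false
set_option linter.unusedSectionVars false
set_option linter.unusedVariables false
namespace Cfsg.Agent.helper29.OC
open Matrix Cfsg.Agent.helper4 Cfsg.Agent.S0245 Cfsg.Agent.S2594 Cfsg.Agent.S0440 Cfsg.Agent.helper29
open Cfsg.Agent.helper29.SpInv Cfsg.Agent.helper29.OInv

variable {F : Type*} [Field F] {m : ℕ}

local notation "Sp" => Matrix.symplecticGroup (Fin m) F
local notation "ff" => Cfsg.sympForm m F
local notation "VV" => (Fin m ⊕ Fin m → F)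
local notation "MM" => Matrix (Fin m ⊕ Fin m) (Fin m ⊕ Fin m) F
set_option quotPrecheck false in
local notation "OO" => ↥(Cfsg.isometryGroup F (Cfsg.quadFormPlus m F))
local notation "QQ" => Cfsg.quadFormPlus m F

theorem card_qfr [Fintype F] [CharP F 2] {q : ℕ} (hF : Fintype.card F = q) (hm : 1 ≤ m) :
    ∀ j, Nat.card (QFr m F (Fin (j + 1))) = qfrN q m j
  | 0 => card_qfr_one hF hm
  | j + 1 => by
    rw [card_qfr_succ hF j, card_qfr hF hm j]
    rfl

/-- the order of the centraliser in `Ω` of an involution of non-alternating type -/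
theorem omega_centralizer_nonalt [Fintype F] [CharP F 2] {q : ℕ} (hF : Fintype.card F = q)
    (hne : Fintype.card F ≠ 2 ∨ m ≠ 2) (t : OO) (ht : t * t = 1) (hna : ¬ IsAltInv (toSp t)) :
    ∃ k, (NNs (toSp t)).rank = k + 1 ∧ k + 1 ≤ m ∧
      Nat.card {g : ↥(Cfsg.Omega F (Cfsg.quadFormPlus m F)) // (g : OO) * t = t * (g : OO)} =
        q ^ (2 * m * k - (3 * (k + 1) ^ 2 - 3 * (k + 1)) / 2) * spN q (m - (k + 1)) *
          PPn q k := by
  have hq : 2 ≤ q := by
    rw [← hF]
    exact Fintype.one_lt_card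
  have ht' : toSp t * toSp t = 1 := by rw [← map_mul, ht, map_one]
  obtain ⟨k, hk, h1⟩ := card_centralizer_O hF t ht hna
  have hkm : k + 1 ≤ m := by
    rw [← hk]
    exact rank_le (toSp t) ht'
  have hm : 1 ≤ m := by omega
  have h2 := card_centralizer_omega hne hm t ht hna
  have h3 := Cfsg.Agent.S0287.result hF m hm
  have h4 := key_arith_O q m (by omega) k hkm
  have h5 := ordOm_pos q m hq hm
  refine ⟨k, hk, hkm, ?_⟩
  rw [card_qfr hF hm k] at h1
  have hO : Nat.card OO = 2 * ordOm q m := by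
    rw [h3]
    unfold ordOm
    ring
  rw [← h2, hO, ← h4] at h1
  have hpos : 0 < qfrN q m k := by
    rcases Nat.eq_zero_or_pos (qfrN q m k) with h | h
    · rw [h, mul_zero] at h4
      omega
    · exact h
  apply Nat.eq_of_mul_eq_mul_right (Nat.mul_pos (by norm_num : 0 < 2) hpos)
  calc Nat.card {g : ↥(Cfsg.Omega F (Cfsg.quadFormPlus m F)) // (g : OO) * t = t * (g : OO)} *
        (2 * qfrN q m k)
      = Nat.card {g : ↥(Cfsg.Omega F (Cfsg.quadFormPlus m F)) //
          (g : OO) * t = t * (g : OO)} * 2 * qfrN q m k := by ring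
    _ = _ := by
      rw [h1]
      ring

end Cfsg.Agent.helper29.OC
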