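import Mathlib
import Cfsg.Agent.Lib_helper29_OC8

set_option autoImplicit false
set_option linter.unusedSectionVars false
set_option linter.unusedVariables false
namespace Cfsg.Agent.helper29.OC
open Matrix Cfsg.Agent.helper4 Cfsg.Agent.S0245 Cfsg.Agent.S2594 Cfsg.Agent.S0440 Cfsg.Agent.helper29
open Cfsg.Agent.helper29.SpInv Cfsg.Agent.helper29.OInv

variable {F : Type*} [Field F] {m : ℕ}

local notation "Sp" => Matrix.symplecticGroup (Fin m) F
local notation "ff" => Cfsg.sympForm m F
local notation "VV" => (Fin m ⊕ Fin m → F)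
local notation "MM" => Matrix (Fin m ⊕ Fin m) (Fin m ⊕ Fin m) F
set_option quotPrecheck false in
local notation "OO" => ↥(Cfsg.isometryGroup F (Cfsg.quadFormPlus m F))
local notation "QQ" => Cfsg.quadFormPlus m F

/-- the number of singular vectors -/
theorem card_Q_zero' [Fintype F] {q : ℕ} (hF : Fintype.card F = q) (hm : 1 ≤ m) :
    Nat.card {x : VV // QQ x = 0} + q ^ (m - 1) = q ^ (2 * m - 1) + q ^ m := by
  have hq : 1 ≤ q := by
    rw [← hF]
    exact Fintype.card_pos
  rw [card_Q_eq_zero hF]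
  have h3 := Cfsg.Agent.S2617.cseq_id q hq m
  obtain ⟨C, hC⟩ : ∃ C, C = Cfsg.Agent.S2617.cseq q m := ⟨_, rfl⟩
  rw [← hC] at h3 ⊢
  have e3 : q ^ (2 * m) = q * q ^ (2 * m - 1) := by
    rw [← pow_succ']
    congr 1
    omega
  have e4 : q ^ m = q * q ^ (m - 1) := by
    rw [← pow_succ']
    congr 1
    omega
  rw [e3] at h3
  have h5 : q * (C + q ^ (m - 1)) = q * q ^ (2 * m - 1) := by
    rw [← h3, e4]
    ring
  have h6 := Nat.eq_of_mul_eq_mul_left (by omega : 0 < q) h5
  omega

/-- removing the vectors not orthogonal to a singular vector `w` of the radical -/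
theorem card_sing_step [Fintype F] [CharP F 2] {q : ℕ} (hF : Fintype.card F = q)
    (W : Submodule F VV) (w : VV) (hwW : w ∈ W) (hQw : QQ w = 0) :
    Nat.card {x : VV // x ∈ W ∧ ff x w ≠ 0 ∧ QQ x = 0} * q =
      Nat.card {x : VV // x ∈ W ∧ ff x w ≠ 0} := by
  classical
  have h2 : (2 : F) = 0 := CharTwo.two_eq_zero
  have key : ∀ x : VV, ∀ t : F, QQ (x + t • w) = QQ x + t * ff x w := by
    intro x t
    rw [QQ_add, QQ_smul, hQw, sympForm_smul_right]
    ring
  have key2 : ∀ x : VV, ∀ t : F, ff (x + t • w) w = ff x w := by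
    intro x t
    rw [sympForm_add_left, sympForm_smul_left, sympForm_self, mul_zero, add_zero]
  have e : {x : VV // x ∈ W ∧ ff x w ≠ 0} ≃ {x : VV // x ∈ W ∧ ff x w ≠ 0 ∧ QQ x = 0} × F :=
    { toFun := fun x => (⟨x.1 + (QQ x.1 / ff x.1 w) • w,
          W.add_mem x.2.1 (W.smul_mem _ hwW), by rw [key2]; exact x.2.2, by
          rw [key, div_mul_cancel₀ _ x.2.2]
          linear_combination (QQ x.1) * h2⟩, QQ x.1 / ff x.1 w)
      invFun := fun p => ⟨p.1.1 + p.2 • w, W.add_mem p.1.2.1 (W.smul_mem _ hwW), by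
          rw [key2]
          exact p.1.2.2.1⟩
      left_inv := by
        intro x
        apply Subtype.ext
        show x.1 + (QQ x.1 / ff x.1 w) • w + (QQ x.1 / ff x.1 w) • w = x.1
        rw [add_assoc, vec_add_self, add_zero]
      right_inv := by
        rintro ⟨⟨s, hsW, hs1, hs0⟩, t⟩
        have h1 : QQ (s + t • w) / ff (s + t • w) w = t := by
          rw [key, key2, hs0, zero_add, mul_div_assoc, div_self hs1, mul_one]
        apply Prod.ext
        · apply Subtype.ext
          show s + t • w + (QQ (s + t • w) / ff (s + t • w) w) • w = s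
          rw [h1, add_assoc, vec_add_self, add_zero]
        · exact h1 }
  rw [Nat.card_congr e, Nat.card_prod, Nat.card_eq_fintype_card (α := F), hF]

end Cfsg.Agent.helper29.OC
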