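import Mathlib
import Cfsg.Agent.Lib_helper29_OC9

set_option autoImplicit false
set_option linter.unusedSectionVars false
set_option linter.unusedVariables false
namespace Cfsg.Agent.helper29.OC
open Matrix Cfsg.Agent.helper4 Cfsg.Agent.S0245 Cfsg.Agent.S2594 Cfsg.Agent.S0440 Cfsg.Agent.helper29
open Cfsg.Agent.helper29.SpInv Cfsg.Agent.helper29.OInv

variable {F : Type*} [Field F] {m : ℕ}

local notation "Sp" => Matrix.symplecticGroup (Fin m) F
local notation "ff" => Cfsg.sympForm m F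
local notation "VV" => (Fin m ⊕ Fin m → F)
local notation "MM" => Matrix (Fin m ⊕ Fin m) (Fin m ⊕ Fin m) F
set_option quotPrecheck false in
local notation "OO" => ↥(Cfsg.isometryGroup F (Cfsg.quadFormPlus m F))
local notation "QQ" => Cfsg.quadFormPlus m F

theorem mem_perp_cons {k : ℕ} (b : Fin (k + 1) → VV) (x : VV) :
    x ∈ perpSp (Set.range b) ↔ x ∈ perpSp (Set.range (Fin.tail b)) ∧ ff x (b 0) = 0 := by
  constructor
  · intro h
    refine ⟨?_, h (b 0) ⟨0, rfl⟩⟩
    rintro _ ⟨j, rfl⟩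
    exact h (b j.succ) ⟨j.succ, rfl⟩
  · rintro ⟨h1, h2⟩ _ ⟨i, rfl⟩
    refine Fin.cases ?_ (fun j => ?_) i
    · exact h2
    · exact h1 (Fin.tail b j) ⟨j, rfl⟩

/-- singular vectors in the perp of a totally singular frame -/
theorem card_sing_perp [Fintype F] [CharP F 2] {q : ℕ} (hF : Fintype.card F = q) (hm : 1 ≤ m) :
    ∀ (k : ℕ) (b : Fin k → VV), IsFrameSp b → (∀ i, QQ (b i) = 0) →
      Nat.card {x : VV // x ∈ perpSp (Set.range b) ∧ QQ x = 0} + q ^ (m - 1) =
        q ^ (2 * m - k - 1) + q ^ m := by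
  classical
  have hq : 2 ≤ q := by
    rw [← hF]
    exact Fintype.one_lt_card
  intro k
  induction k with
  | zero =>
    intro b _ _
    have e : {x : VV // x ∈ perpSp (Set.range b) ∧ QQ x = 0} ≃ {x : VV // QQ x = 0} :=
      Equiv.subtypeEquivRight (fun x => ⟨fun h => h.2, fun h => ⟨fun s hs => by
        obtain ⟨i, _⟩ := hs
        exact i.elim0, h⟩⟩)
    rw [Nat.card_congr e]
    exact card_Q_zero' hF hm
  | succ k ih =>
    intro b hb hQ
    have hkm := frame_le b hb
    obtain ⟨hb', hw, -⟩ := frame_tail_sp b hb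
    have ih' := ih (Fin.tail b) hb' (fun i => hQ i.succ)
    have h1 := card_split' (fun x : VV => x ∈ perpSp (Set.range (Fin.tail b)) ∧ QQ x = 0)
      (fun x => ff x (b 0) = 0)
    have e1 : {x : VV // (x ∈ perpSp (Set.range (Fin.tail b)) ∧ QQ x = 0) ∧ ff x (b 0) = 0} ≃
        {x : VV // x ∈ perpSp (Set.range b) ∧ QQ x = 0} :=
      Equiv.subtypeEquivRight (fun x => by
        rw [mem_perp_cons]
        constructor
        · exact fun h => ⟨⟨h.1.1, h.2⟩, h.1.2⟩
        · exact fun h => ⟨⟨h.1.1, h.2⟩, h.1.2⟩)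
    have e2 : {x : VV // (x ∈ perpSp (Set.range (Fin.tail b)) ∧ QQ x = 0) ∧
        ¬ ff x (b 0) = 0} ≃
        {x : VV // x ∈ perpSp (Set.range (Fin.tail b)) ∧ ff x (b 0) ≠ 0 ∧ QQ x = 0} :=
      Equiv.subtypeEquivRight (fun x => by
        constructor
        · exact fun h => ⟨h.1.1, h.2, h.1.2⟩
        · exact fun h => ⟨⟨h.1, h.2.2⟩, h.2.1⟩)
    rw [Nat.card_congr e1, Nat.card_congr e2] at h1
    have h3 := card_sing_step hF (perpSp (Set.range (Fin.tail b))) (b 0) hw (hQ 0)
    have h4 := card_split' (fun x : VV => x ∈ perpSp (Set.range (Fin.tail b)))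
      (fun x => ff x (b 0) = 0)
    have e3 : {x : VV // x ∈ perpSp (Set.range (Fin.tail b)) ∧ ff x (b 0) = 0} ≃
        ↥(perpSp (Set.range b)) :=
      Equiv.subtypeEquivRight (fun x => by rw [mem_perp_cons])
    have hA : Nat.card {x : VV // x ∈ perpSp (Set.range (Fin.tail b))} = q ^ (2 * m - k) := by
      show Nat.card ↥(perpSp (Set.range (Fin.tail b))) = _
      rw [Nat.card_eq_fintype_card, Module.card_eq_pow_finrank (K := F), hF,
        finrank_perpSp _ hb'.1]
    have hB : Nat.card ↥(perpSp (Set.range b)) = q ^ (2 * m - (k + 1)) := by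
      rw [Nat.card_eq_fintype_card, Module.card_eq_pow_finrank (K := F), hF,
        finrank_perpSp _ hb.1]
    rw [Nat.card_congr e3, hA, hB] at h4
    have h5 : Nat.card {x : VV // x ∈ perpSp (Set.range (Fin.tail b)) ∧ ¬ ff x (b 0) = 0} =
        Nat.card {x : VV // x ∈ perpSp (Set.range (Fin.tail b)) ∧ ff x (b 0) ≠ 0} := rfl
    rw [h5, ← h3] at h4
    obtain ⟨D, hD⟩ : ∃ D, D = Nat.card {x : VV // x ∈ perpSp (Set.range (Fin.tail b)) ∧
      ff x (b 0) ≠ 0 ∧ QQ x = 0} := ⟨_, rfl⟩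
    rw [← hD] at h1 h4
    have e5 : q ^ (2 * m - k) = q * q ^ (2 * m - k - 1) := by
      rw [← pow_succ']
      congr 1
      omega
    have e6 : q ^ (2 * m - (k + 1)) = q * q ^ (2 * m - (k + 1) - 1) := by
      rw [← pow_succ']
      congr 1
      omega
    have e7 : 2 * m - (k + 1) = 2 * m - k - 1 := by omega
    rw [e5, e6, e7] at h4
    have h6 : q * q ^ (2 * m - k - 1) = q * (q ^ (2 * m - k - 1 - 1) + D) := by
      rw [h4]
      ring
    have h7 := Nat.eq_of_mul_eq_mul_left (by omega : 0 < q) h6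
    rw [h1] at ih'
    rw [e7]
    omega

end Cfsg.Agent.helper29.OC
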