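import Mathlib
import Cfsg.Agent.Lib_helper29_OC10

set_option autoImplicit false
set_option linter.unusedSectionVars false
set_option linter.unusedVariables false
namespace Cfsg.Agent.helper29.OC
open Matrix Cfsg.Agent.helper4 Cfsg.Agent.S0245 Cfsg.Agent.S2594 Cfsg.Agent.S0440 Cfsg.Agent.helper29
open Cfsg.Agent.helper29.SpInv Cfsg.Agent.helper29.OInv

variable {F : Type*} [Field F] {m : ℕ}

local notation "Sp" => Matrix.symplecticGroup (Fin m) F
local notation "ff" => Cfsg.sympForm m F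
local notation "VV" => (Fin m ⊕ Fin m → F)
local notation "MM" => Matrix (Fin m ⊕ Fin m) (Fin m ⊕ Fin m) F
set_option quotPrecheck false in
local notation "OO" => ↥(Cfsg.isometryGroup F (Cfsg.quadFormPlus m F))
local notation "QQ" => Cfsg.quadFormPlus m F

/-- the number of ways to extend a totally singular frame of length `k` -/
def tsStep (q m k : ℕ) : ℕ := q ^ (2 * m - k - 1) + q ^ m - q ^ (m - 1) - q ^ k

theorem card_fiber_ts [Fintype F] [CharP F 2] {q : ℕ} (hF : Fintype.card F = q) (hm : 1 ≤ m)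
    {k : ℕ} (b : Fin k → VV) (hb : IsFrameSp b) (hQb : ∀ i, QQ (b i) = 0) :
    Nat.card {x : VV // (x ∈ perpSp (Set.range b) ∧ x ∉ Submodule.span F (Set.range b)) ∧
      QQ x = 0} = tsStep q m k := by
  classical
  have h0 := card_sing_perp hF hm k b hb hQb
  have h1 := card_split' (fun v : VV => v ∈ perpSp (Set.range b) ∧ QQ v = 0)
    (fun v => v ∈ Submodule.span F (Set.range b))
  have e1 : {v : VV // (v ∈ perpSp (Set.range b) ∧ QQ v = 0) ∧
      v ∈ Submodule.span F (Set.range b)} ≃ ↥(Submodule.span F (Set.range b)) :=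
    Equiv.subtypeEquivRight (fun v => by
      constructor
      · exact fun h => h.2
      · intro h
        refine ⟨⟨?_, ?_⟩, h⟩
        · rintro _ ⟨i, rfl⟩
          exact frame_span_iso_sp b hb.2 v (b i) h (Submodule.subset_span ⟨i, rfl⟩)
        · rw [Submodule.mem_span_range_iff_exists_fun] at h
          obtain ⟨c, rfl⟩ := h
          rw [QQ_sum_iso b hb.2]
          apply Finset.sum_eq_zero
          intro i _
          rw [hQb, mul_zero])
  have e2 : {v : VV // (v ∈ perpSp (Set.range b) ∧ QQ v = 0) ∧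
      ¬ v ∈ Submodule.span F (Set.range b)} ≃
      {x : VV // (x ∈ perpSp (Set.range b) ∧ x ∉ Submodule.span F (Set.range b)) ∧ QQ x = 0} :=
    Equiv.subtypeEquivRight (fun v => by
      constructor
      · exact fun h => ⟨⟨h.1.1, h.2⟩, h.1.2⟩
      · exact fun h => ⟨⟨h.1.1, h.2⟩, h.1.2⟩)
  have hB2 : Nat.card ↥(Submodule.span F (Set.range b)) = q ^ k := by
    rw [Nat.card_eq_fintype_card, Module.card_eq_pow_finrank (K := F), hF,
      finrank_span_eq_card hb.1, Fintype.card_fin]
  rw [Nat.card_congr e1, hB2, Nat.card_congr e2] at h1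
  unfold tsStep
  omega

/-- totally singular frames -/
def IsTSFrame {ι : Type*} (w : ι → VV) : Prop := IsFrameSp w ∧ ∀ i, QQ (w i) = 0

/-- the type of totally singular frames indexed by `ι` -/
def TSFr (m : ℕ) (F : Type*) [Field F] (ι : Type*) : Type _ :=
  {b : ι → (Fin m ⊕ Fin m → F) // IsTSFrame b}

noncomputable instance [Fintype F] (ι : Type*) [Finite ι] : Finite (TSFr m F ι) := by
  unfold TSFr
  infer_instance

/-- frames of length `k+1` fibre over frames of length `k` -/
noncomputable def tsfrEquiv (k : ℕ) :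
    TSFr m F (Fin (k + 1)) ≃ Σ b : TSFr m F (Fin k),
      {x : VV // (x ∈ perpSp (Set.range b.1) ∧ x ∉ Submodule.span F (Set.range b.1)) ∧
        QQ x = 0} where
  toFun c := ⟨⟨Fin.tail c.1, (frame_tail_sp c.1 c.2.1).1, fun i => c.2.2 i.succ⟩,
    ⟨c.1 0, (frame_tail_sp c.1 c.2.1).2, c.2.2 0⟩⟩
  invFun s := ⟨Fin.cons s.2.1 s.1.1, (frame_cons_iff_sp _ _).mpr ⟨s.1.2.1, s.2.2.1⟩, fun i => by
    refine Fin.cases ?_ (fun j => ?_) i
    · simp only [Fin.cons_zero]
      exact s.2.2.2
    · simp only [Fin.cons_succ]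
      exact s.1.2.2 j⟩
  left_inv c := by
    apply Subtype.ext
    exact Fin.cons_self_tail c.1
  right_inv s := by
    obtain ⟨⟨b, hb⟩, ⟨x, hx⟩⟩ := s
    exact sigma_subtype_ext' (P := fun (b : TSFr m F (Fin k)) (x : VV) =>
      (x ∈ perpSp (Set.range b.1) ∧ x ∉ Submodule.span F (Set.range b.1)) ∧ QQ x = 0)
      _ _ _ _ _ _ (Subtype.ext (by
        show Fin.tail (Fin.cons x b : Fin (k + 1) → VV) = b
        exact Fin.tail_cons (α := fun _ => VV) x b)) (by
        show (Fin.cons x b : Fin (k + 1) → VV) 0 = x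
        exact Fin.cons_zero (α := fun _ => VV) x b)

theorem card_tsfr_succ [Fintype F] [CharP F 2] {q : ℕ} (hF : Fintype.card F = q) (hm : 1 ≤ m)
    (k : ℕ) :
    Nat.card (TSFr m F (Fin (k + 1))) = Nat.card (TSFr m F (Fin k)) * tsStep q m k := by
  classical
  have : Fintype (TSFr m F (Fin k)) := Fintype.ofFinite _
  rw [Nat.card_congr (tsfrEquiv k), Nat.card_sigma]
  rw [Finset.sum_congr rfl (fun b _ => card_fiber_ts hF hm b.1 b.2.1 b.2.2), Finset.sum_const,
    smul_eq_mul, Finset.card_univ, Nat.card_eq_fintype_card]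

theorem card_tsfr_zero : Nat.card (TSFr m F (Fin 0)) = 1 := by
  have : Unique (TSFr m F (Fin 0)) :=
    { default := ⟨fun i => i.elim0, ⟨linearIndependent_empty_type, fun i => i.elim0⟩,
        fun i => i.elim0⟩
      uniq := fun b => Subtype.ext (funext fun i => i.elim0) }
  exact Nat.card_unique

/-- the number of totally singular frames of length `k` -/
def tsN (q m : ℕ) : ℕ → ℕ
  | 0 => 1
  | k + 1 => tsN q m k * tsStep q m k

theorem card_tsfr [Fintype F] [CharP F 2] {q : ℕ} (hF : Fintype.card F = q) (hm : 1 ≤ m) :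
    ∀ k : ℕ, Nat.card (TSFr m F (Fin k)) = tsN q m k
  | 0 => card_tsfr_zero
  | k + 1 => by
    rw [card_tsfr_succ hF hm, card_tsfr hF hm k]
    rfl

/-- reindexing frames -/
def tsfrCongr {ι κ : Type*} (e : ι ≃ κ) : TSFr m F ι ≃ TSFr m F κ where
  toFun b := ⟨b.1 ∘ e.symm, ⟨(linearIndependent_equiv e.symm).mpr b.2.1.1,
    fun i j => b.2.1.2 _ _⟩, fun i => b.2.2 _⟩
  invFun b := ⟨b.1 ∘ e, ⟨(linearIndependent_equiv e).mpr b.2.1.1, fun i j => b.2.1.2 _ _⟩,
    fun i => b.2.2 _⟩
  left_inv b := by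
    apply Subtype.ext
    funext i
    simp
  right_inv b := by
    apply Subtype.ext
    funext i
    simp

theorem card_tsfr' [Fintype F] [CharP F 2] {q : ℕ} (hF : Fintype.card F = q) (hm : 1 ≤ m)
    (ι : Type*) [Fintype ι] : Nat.card (TSFr m F ι) = tsN q m (Fintype.card ι) := by
  rw [Nat.card_congr (tsfrCongr (Fintype.equivFin ι)), card_tsfr hF hm]

end Cfsg.Agent.helper29.OC
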