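import Mathlib
import Cfsg.Agent.Lib_helper29_OC11

set_option autoImplicit false
set_option linter.unusedSectionVars false
set_option linter.unusedVariables false
namespace Cfsg.Agent.helper29.OC
open Matrix Cfsg.Agent.helper4 Cfsg.Agent.S0245 Cfsg.Agent.S2594 Cfsg.Agent.S0440 Cfsg.Agent.helper29
open Cfsg.Agent.helper29.SpInv Cfsg.Agent.helper29.OInv

variable {F : Type*} [Field F] {m : ℕ}

local notation "Sp" => Matrix.symplecticGroup (Fin m) F
local notation "ff" => Cfsg.sympForm m F
local notation "VV" => (Fin m ⊕ Fin m → F)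
local notation "MM" => Matrix (Fin m ⊕ Fin m) (Fin m ⊕ Fin m) F
set_option quotPrecheck false in
local notation "OO" => ↥(Cfsg.isometryGroup F (Cfsg.quadFormPlus m F))
local notation "QQ" => Cfsg.quadFormPlus m F

/-- the order of the pointwise stabiliser of a totally singular frame -/
theorem card_O_frames_ts [CharP F 2] {ι : Type*} [Fintype ι] (w : ι → VV) (hw : IsTSFrame w) :
    Nat.card OO = Nat.card (PStabO w) * Nat.card (TSFr m F ι) := by
  have := card_eq_stab_mul_orbit (G := OO) (X := ι → VV)
    (fun g b => fun i => ((toSp g : Sp) : MM) *ᵥ b i)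
    (fun b => funext fun i => by
      show ((toSp (1 : OO) : Sp) : MM) *ᵥ b i = b i
      rw [map_one]
      exact one_mulVec' _)
    (fun g h b => funext fun i => by
      show ((toSp (g * h) : Sp) : MM) *ᵥ b i = _
      rw [map_mul]
      exact mul_mulVec _ _ _) w (PStabO w)
    (fun g => by
      rw [mem_PStabO]
      constructor
      · exact fun h => funext h
      · exact fun h i => congrFun h i)
    {b | IsTSFrame b}
    (fun b => by
      constructor
      · intro hb
        obtain ⟨g, hg⟩ := qframe_trans w b hw.1 hb.1 (fun i => by rw [hw.2, hb.2])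
        exact ⟨g, funext hg⟩
      · rintro ⟨g, rfl⟩
        exact ⟨isFrameSp_smul (toSp g) w hw.1, fun i => by
          show QQ (((toSp g : Sp) : MM) *ᵥ w i) = 0
          rw [toSp_preserves, hw.2]⟩)
  rw [this]
  rfl

/-- the centraliser in the orthogonal group acts transitively on the fibre (general form) -/
theorem card_centralizer_fib_O' [CharP F 2] {ι : Type*} [Fintype ι] [DecidableEq ι]
    (σ : Equiv.Perm ι) (c : F) (t : OO) (ht : t * t = 1)
    (hQc : ∀ b ∈ FibSp σ (toSp t), ∀ i, QQ (b i) = c) (w : ι → VV)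
    (hw : w ∈ FibSp σ (toSp t)) :
    Nat.card (Subgroup.centralizer ({t} : Set OO)) =
      Nat.card (PStabO w) * Nat.card (FibSp σ (toSp t)) := by
  have hQw := hQc w hw
  obtain ⟨hLI, hwr, hwf⟩ := hw
  have ht' : toSp t * toSp t = 1 := by rw [← map_mul, ht, map_one]
  have hcomm : ∀ g : OO, toSp g * toSp t * (toSp g)⁻¹ = toSp t → g * t = t * g := by
    intro g hg
    apply toSp_injective
    rw [map_mul, map_mul]
    calc toSp g * toSp t = (toSp g * toSp t * (toSp g)⁻¹) * toSp g := by group
      _ = toSp t * toSp g := by rw [hg]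
  have hle : PStabO w ≤ Subgroup.centralizer ({t} : Set OO) := by
    intro g hg
    rw [Subgroup.mem_centralizer_singleton_iff]
    exact hcomm g (conj_of_form σ (toSp t) (toSp t) (toSp g) w w hg hwf hwf)
  have := card_eq_stab_mul_orbit (G := ↥(Subgroup.centralizer ({t} : Set OO))) (X := ι → VV)
    (fun g b => fun i => ((toSp (g : OO) : Sp) : MM) *ᵥ b i)
    (fun b => funext fun i => by
      show ((toSp (1 : OO) : Sp) : MM) *ᵥ b i = b i
      rw [map_one]
      exact one_mulVec' _)
    (fun g h b => funext fun i => by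
      show ((toSp ((g : OO) * (h : OO)) : Sp) : MM) *ᵥ b i = _
      rw [map_mul]
      exact mul_mulVec _ _ _) w
    ((PStabO w).subgroupOf (Subgroup.centralizer ({t} : Set OO)))
    (fun g => by
      rw [Subgroup.mem_subgroupOf, mem_PStabO]
      constructor
      · exact fun h => funext h
      · exact fun h i => congrFun h i)
    (FibSp σ (toSp t))
    (fun b => by
      constructor
      · intro hb
        have hQb := hQc b hb
        obtain ⟨hbLI, hbr, hbf⟩ := hb
        have hiso := iso_of_range (toSp t) ht' w hwr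
        have hiso' := iso_of_range (toSp t) ht' b hbr
        obtain ⟨g, hg⟩ := qframe_trans w b ⟨hLI, hiso⟩ ⟨hbLI, hiso'⟩
          (fun i => by rw [hQw, hQb])
        have hc := conj_of_form σ (toSp t) (toSp t) (toSp g) w b hg hwf hbf
        refine ⟨⟨g, ?_⟩, funext hg⟩
        rw [Subgroup.mem_centralizer_singleton_iff]
        exact hcomm g hc
      · rintro ⟨⟨g, hg⟩, rfl⟩
        rw [Subgroup.mem_centralizer_singleton_iff] at hg
        have hg' : toSp g * toSp t = toSp t * toSp g := by rw [← map_mul, hg, map_mul]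
        refine ⟨li_smul_sp (toSp g) w hLI, fun i => ?_, fun x => ?_⟩
        · obtain ⟨y, hy⟩ := hwr i
          exact ⟨((toSp g : Sp) : MM) *ᵥ y, by
            show ((toSp g : Sp) : MM) *ᵥ w i = _
            rw [hy, N_comm (toSp g) (toSp t) hg']⟩
        · show NNs (toSp t) *ᵥ x =
            ∑ i, ff x (((toSp g : Sp) : MM) *ᵥ w (σ i)) • (((toSp g : Sp) : MM) *ᵥ w i)
          have h1 : x = ((toSp g : Sp) : MM) *ᵥ ((((toSp g)⁻¹ : Sp) : MM) *ᵥ x) :=
            (mulVec_inv_mulVec (toSp g) x).symm
          conv_lhs => rw [h1]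
          rw [← N_comm (toSp g) (toSp t) hg', hwf, Matrix.mulVec_sum]
          apply Finset.sum_congr rfl
          intro i _
          rw [Matrix.mulVec_smul, ff_inv])
  rw [this, Nat.card_congr (Subgroup.subgroupOfEquivOfLe hle).toEquiv]

/-- centraliser order of an involution of alternating type in the orthogonal group -/
theorem card_centralizer_O_alt [Fintype F] [CharP F 2] {q : ℕ} (hF : Fintype.card F = q) (t : OO)
    (ht : t * t = 1) (halt : IsAltInv (toSp t)) :
    ∃ k, (NNs (toSp t)).rank = k + k ∧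
      Nat.card (Subgroup.centralizer ({t} : Set OO)) * Nat.card (TSFr m F (Fin k ⊕ Fin k)) =
        Nat.card OO * spN q k := by
  classical
  have ht' : toSp t * toSp t = 1 := by rw [← map_mul, ht, map_one]
  obtain ⟨k, w, hLI, hwr, hwf⟩ := normal_II' (toSp t) ht' halt
  have hrank := rank_of_form Sum.swap (toSp t) w hLI hwr hwf
  rw [Fintype.card_sum, Fintype.card_fin] at hrank
  have hσ : ∀ i, (Equiv.sumComm (Fin k) (Fin k)) ((Equiv.sumComm (Fin k) (Fin k)) i) = i := by
    intro i
    cases i <;> rfl
  have hw : w ∈ FibSp (Equiv.sumComm (Fin k) (Fin k)) (toSp t) := ⟨hLI, hwr, hwf⟩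
  have hQc : ∀ b ∈ FibSp (Equiv.sumComm (Fin k) (Fin k)) (toSp t), ∀ i, QQ (b i) = 0 := by
    intro b hb i
    obtain ⟨y, hy⟩ := hb.2.1 i
    rw [hy, QQ_N]
    exact halt y
  have h1 := card_centralizer_fib_O' (Equiv.sumComm (Fin k) (Fin k)) 0 t ht hQc w hw
  have hQF : IsTSFrame w := ⟨⟨hLI, iso_of_range (toSp t) ht' w hwr⟩, hQc w hw⟩
  have h2 := card_O_frames_ts w hQF
  have h3 := card_fib (Equiv.sumComm (Fin k) (Fin k)) hσ (toSp t) ht' w hw
  rw [card_GQ_swap hF k] at h3
  refine ⟨k, hrank, ?_⟩
  rw [h1, h2, h3]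
  ring

end Cfsg.Agent.helper29.OC
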