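import Mathlib
import Cfsg.Agent.Lib_helper29_OC12

set_option autoImplicit false
set_option linter.unusedSectionVars false
set_option linter.unusedVariables false
namespace Cfsg.Agent.helper29.OC
open Matrix Cfsg.Agent.helper4 Cfsg.Agent.S0245 Cfsg.Agent.S2594 Cfsg.Agent.S0440 Cfsg.Agent.helper29
open Cfsg.Agent.helper29.SpInv Cfsg.Agent.helper29.OInv

variable {F : Type*} [Field F] {m : ℕ}

local notation "Sp" => Matrix.symplecticGroup (Fin m) F
local notation "ff" => Cfsg.sympForm m F
local notation "VV" => (Fin m ⊕ Fin m → F)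
local notation "MM" => Matrix (Fin m ⊕ Fin m) (Fin m ⊕ Fin m) F
set_option quotPrecheck false in
local notation "OO" => ↥(Cfsg.isometryGroup F (Cfsg.quadFormPlus m F))
local notation "QQ" => Cfsg.quadFormPlus m F

/-- the centraliser in `Ω` of an involution which is not of special type has index two in the
centraliser in the orthogonal group -/
theorem card_centralizer_omega_nsp [Fintype F] [CharP F 2] (hne : Fintype.card F ≠ 2 ∨ m ≠ 2)
    (hm : 1 ≤ m) (t : OO) (ht : t * t = 1)
    (hna : ¬ Cfsg.Agent.helper29.OM.Spc Cfsg.Agent.helper29.OM.isQF_plus t) :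
    Nat.card {g : ↥(Cfsg.Omega F (Cfsg.quadFormPlus m F)) // (g : OO) * t = t * (g : OO)} * 2 =
      Nat.card (Subgroup.centralizer ({t} : Set OO)) := by
  have h2 : (2 : F) = 0 := CharTwo.two_eq_zero
  have hQ := Cfsg.Agent.helper29.OM.isQF_plus (F := F) (m := m)
  have hcard : Fintype.card (Fin m ⊕ Fin m) = 2 * m := by
    rw [Fintype.card_sum, Fintype.card_fin]
    ring
  have hne' : Fintype.card F ≠ 2 ∨ Fintype.card (Fin m ⊕ Fin m) ≠ 4 := by
    rcases hne with h | h
    · exact Or.inl h
    · right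
      rw [hcard]
      omega
  have hn : 1 ≤ Fintype.card (Fin m ⊕ Fin m) := by omega
  obtain ⟨δ, hδ, c, hct, hδc⟩ : ∃ δ : OO →* ℤˣ,
      (∀ g, g ∈ commutator OO ↔ δ g = 1) ∧ ∃ c : OO, c * t = t * c ∧ δ c = -1 := by
    refine ⟨Cfsg.Agent.helper13.dickson (Cfsg.Agent.helper29.OM.bundQ hQ) h2
      (Cfsg.Agent.helper29.OM.bundQ_nondeg hQ),
      fun g => Cfsg.Agent.helper13.mem_commutator_iff_two (Cfsg.Agent.helper29.OM.bundQ hQ) h2
        (Cfsg.Agent.helper29.OM.bundQ_nondeg hQ) hne' hn _
        (Cfsg.Agent.helper13.dickson_reflG (Cfsg.Agent.helper29.OM.bundQ hQ) h2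
          (Cfsg.Agent.helper29.OM.bundQ_nondeg hQ)) g, ?_⟩
    rcases Cfsg.Agent.helper13.fix_nonsing_or_mts (Cfsg.Agent.helper29.OM.bundQ hQ) h2
      (Cfsg.Agent.helper29.OM.bundQ_nondeg hQ) hcard t ht with ⟨a, hta, ha⟩ | ⟨hmts, -⟩
    · refine ⟨Cfsg.Agent.helper13.reflG (Cfsg.Agent.helper29.OM.bundQ hQ) a ha, ?_, ?_⟩
      · exact (Cfsg.Agent.helper13.reflG_comm_of_fix (Cfsg.Agent.helper29.OM.bundQ hQ)
          t a ha hta).symm
      · exact Cfsg.Agent.helper13.dickson_reflG (Cfsg.Agent.helper29.OM.bundQ hQ) h2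
          (Cfsg.Agent.helper29.OM.bundQ_nondeg hQ) a ha
    · exfalso
      exact hna (Cfsg.Agent.helper29.OM.spc_of_mts hQ t ht hmts)
  have h3 := card_ker_inf δ (Subgroup.centralizer ({t} : Set OO)) c
    (by rw [Subgroup.mem_centralizer_singleton_iff]; exact hct) hδc
  rw [← h3]
  congr 1
  apply Nat.card_congr
  exact
    { toFun := fun g => ⟨(g.1 : OO), by
          rw [Subgroup.mem_centralizer_singleton_iff]
          exact g.2, (hδ _).mp g.1.2⟩
      invFun := fun g => ⟨⟨g.1, (hδ _).mpr g.2.2⟩, by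
          have := g.2.1
          rw [Subgroup.mem_centralizer_singleton_iff] at this
          exact this⟩
      left_inv := fun g => rfl
      right_inv := fun g => rfl }

/-- the centraliser of an involution of special type lies in `Ω` -/
theorem card_centralizer_omega_sp [Fintype F] [CharP F 2] (hne : Fintype.card F ≠ 2 ∨ m ≠ 2)
    (hm : 1 ≤ m) (t : OO)
    (hs : Cfsg.Agent.helper29.OM.Spc Cfsg.Agent.helper29.OM.isQF_plus t) :
    Nat.card {g : ↥(Cfsg.Omega F (Cfsg.quadFormPlus m F)) // (g : OO) * t = t * (g : OO)} =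
      Nat.card (Subgroup.centralizer ({t} : Set OO)) := by
  apply Nat.card_congr
  exact
    { toFun := fun g => ⟨(g.1 : OO), by
          rw [Subgroup.mem_centralizer_singleton_iff]
          exact g.2⟩
      invFun := fun g => ⟨⟨g.1, by
          have := g.2
          rw [Subgroup.mem_centralizer_singleton_iff] at this
          exact Cfsg.Agent.helper29.OM.centralizer_le_omega Cfsg.Agent.helper29.OM.isQF_plus
            hne hm t g.1 hs this⟩, by
          have := g.2
          rw [Subgroup.mem_centralizer_singleton_iff] at this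
          exact this⟩
      left_inv := fun g => rfl
      right_inv := fun g => rfl }

end Cfsg.Agent.helper29.OC
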