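import Mathlib
import Cfsg.Agent.Lib_helper29_OC13

set_option autoImplicit false
set_option linter.unusedSectionVars false
set_option linter.unusedVariables false
namespace Cfsg.Agent.helper29.OC
open Matrix Cfsg.Agent.helper4 Cfsg.Agent.S0245 Cfsg.Agent.S2594 Cfsg.Agent.S0440 Cfsg.Agent.helper29
open Cfsg.Agent.helper29.SpInv Cfsg.Agent.helper29.OInv

/-- the order of the orthogonal group of plus type in characteristic two, recursively -/
def twoOrd (q : ℕ) : ℕ → ℕ
  | 0 => 1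
  | n + 1 => q ^ (2 * n) * (q ^ (n + 1) - 1) * (q ^ n + 1) * twoOrd q n

theorem twoOrd_succ (q n : ℕ) (hq : 1 ≤ q) : twoOrd q (n + 1) = 2 * ordOm q (n + 1) := by
  induction n with
  | zero =>
    unfold twoOrd ordOm
    simp [twoOrd]
    ring
  | succ n ih =>
    have h1 : twoOrd q (n + 1 + 1) =
        q ^ (2 * (n + 1)) * (q ^ (n + 1 + 1) - 1) * (q ^ (n + 1) + 1) * twoOrd q (n + 1) := rfl
    rw [h1, ih]
    unfold ordOm
    simp only [Nat.add_sub_cancel]
    rw [Finset.prod_range_succ]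
    have h2 : q ^ (2 * (n + 1)) - 1 = (q ^ (n + 1) + 1) * (q ^ (n + 1) - 1) := by
      have : 1 ≤ q ^ (n + 1) := Nat.one_le_pow _ _ hq
      zify [this, Nat.one_le_pow (2 * (n + 1)) q hq]
      ring
    have h3 : q ^ ((n + 1 + 1) * (n + 1)) = q ^ (2 * (n + 1)) * q ^ ((n + 1) * n) := by
      rw [← pow_add]
      congr 1
      ring
    rw [h2, h3]
    ring

theorem tsStep_eq (q m k : ℕ) (hq : 1 ≤ q) (hk : k < m) :
    tsStep q m k = q ^ k * (q ^ (m - k) - 1) * (q ^ (m - k - 1) + 1) := by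
  obtain ⟨a, rfl⟩ : ∃ a, m = k + a + 1 := ⟨m - k - 1, by omega⟩
  unfold tsStep
  have e1 : 2 * (k + a + 1) - k - 1 = k + 2 * a + 1 := by omega
  have e2 : k + a + 1 - 1 = k + a := by omega
  have e3 : k + a + 1 - k = a + 1 := by omega
  have e4 : k + a + 1 - k - 1 = a := by omega
  rw [e1, e2, e3, Nat.add_sub_cancel]
  have h1 : 1 ≤ q ^ (a + 1) := Nat.one_le_pow _ _ hq
  have key : q ^ (k + 2 * a + 1) + q ^ (k + a + 1) =
      q ^ k * (q ^ (a + 1) - 1) * (q ^ a + 1) + q ^ k + q ^ (k + a) := by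
    zify [h1]
    ring
  rw [key]
  omega

theorem key_arith_ts (q m : ℕ) (hq : 1 ≤ q) : ∀ s, s ≤ m →
    q ^ (2 * m * s - (3 * s ^ 2 + s) / 2) * twoOrd q (m - s) * tsN q m s = twoOrd q m := by
  intro s
  induction s with
  | zero =>
    intro _
    simp [tsN]
  | succ s ih =>
    intro hs
    have ih' := ih (by omega)
    rw [← ih']
    have h1 : m - s = (m - (s + 1)) + 1 := by omega
    have h2 : twoOrd q (m - s) = q ^ (2 * (m - (s + 1))) * (q ^ (m - s) - 1) *
        (q ^ (m - (s + 1)) + 1) * twoOrd q (m - (s + 1)) := by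
      conv_lhs => rw [h1]
      show q ^ (2 * (m - (s + 1))) * (q ^ (m - (s + 1) + 1) - 1) * (q ^ (m - (s + 1)) + 1) *
        twoOrd q (m - (s + 1)) = _
      rw [← h1]
    have h3 : tsN q m (s + 1) = tsN q m s * tsStep q m s := rfl
    rw [h2, h3, tsStep_eq q m s hq (by omega)]
    have e5 : m - s - 1 = m - (s + 1) := by omega
    rw [e5]
    have hE : 2 * m * (s + 1) - (3 * (s + 1) ^ 2 + (s + 1)) / 2 + s =
        2 * m * s - (3 * s ^ 2 + s) / 2 + 2 * (m - (s + 1)) := by
      obtain ⟨c, hc⟩ : ∃ c, s * s + s = 2 * c := by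
        have := Nat.even_mul_succ_self s
        obtain ⟨c, hc⟩ := this
        exact ⟨c, by rw [← two_mul] at hc; rw [← hc]; ring⟩
      have h3 : (s + 1) * s ≤ m * s := Nat.mul_le_mul_right s (by omega)
      have e0 : (s + 1) * s = s * s + s := by ring
      have e1 : (s + 1) ^ 2 = s * s + 2 * s + 1 := by ring
      have e2 : s ^ 2 = s * s := by ring
      have e3 : 2 * m * (s + 1) = 2 * (m * s) + 2 * m := by ring
      have e4 : 2 * m * s = 2 * (m * s) := by ring
      rw [e1, e2, e3, e4]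
      rw [e0] at h3
      generalize s * s = j2 at *
      generalize m * s = mj at *
      omega
    have hpow : q ^ (2 * m * (s + 1) - (3 * (s + 1) ^ 2 + (s + 1)) / 2) * q ^ s =
        q ^ (2 * m * s - (3 * s ^ 2 + s) / 2) * q ^ (2 * (m - (s + 1))) := by
      rw [← pow_add, ← pow_add, hE]
    calc q ^ (2 * m * (s + 1) - (3 * (s + 1) ^ 2 + (s + 1)) / 2) * twoOrd q (m - (s + 1)) *
          (tsN q m s * (q ^ s * (q ^ (m - s) - 1) * (q ^ (m - (s + 1)) + 1)))
        = (q ^ (2 * m * (s + 1) - (3 * (s + 1) ^ 2 + (s + 1)) / 2) * q ^ s) *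
          (twoOrd q (m - (s + 1)) * tsN q m s * (q ^ (m - s) - 1) *
            (q ^ (m - (s + 1)) + 1)) := by ring
      _ = (q ^ (2 * m * s - (3 * s ^ 2 + s) / 2) * q ^ (2 * (m - (s + 1)))) *
          (twoOrd q (m - (s + 1)) * tsN q m s * (q ^ (m - s) - 1) *
            (q ^ (m - (s + 1)) + 1)) := by rw [hpow]
      _ = _ := by ring

end Cfsg.Agent.helper29.OC
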