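import Mathlib
import Cfsg.Agent.Lib_helper29_OC14

set_option autoImplicit false
set_option linter.unusedSectionVars false
set_option linter.unusedVariables false
namespace Cfsg.Agent.helper29.OC
open Matrix Cfsg.Agent.helper4 Cfsg.Agent.S0245 Cfsg.Agent.S2594 Cfsg.Agent.S0440 Cfsg.Agent.helper29
open Cfsg.Agent.helper29.SpInv Cfsg.Agent.helper29.OInv

variable {F : Type*} [Field F] {m : ℕ}

local notation "Sp" => Matrix.symplecticGroup (Fin m) F
local notation "ff" => Cfsg.sympForm m F
local notation "VV" => (Fin m ⊕ Fin m → F)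
local notation "MM" => Matrix (Fin m ⊕ Fin m) (Fin m ⊕ Fin m) F
set_option quotPrecheck false in
local notation "OO" => ↥(Cfsg.isometryGroup F (Cfsg.quadFormPlus m F))
local notation "QQ" => Cfsg.quadFormPlus m F

theorem twoOrd_pos (q : ℕ) (hq : 2 ≤ q) : ∀ n, 0 < twoOrd q n
  | 0 => Nat.one_pos
  | n + 1 => by
    show 0 < q ^ (2 * n) * (q ^ (n + 1) - 1) * (q ^ n + 1) * twoOrd q n
    have h1 : 1 < q ^ (n + 1) := Nat.one_lt_pow (by omega) (by omega)
    have h2 : 0 < q ^ (2 * n) := Nat.pow_pos (by omega)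
    have h3 := twoOrd_pos q hq n
    apply Nat.mul_pos _ h3
    apply Nat.mul_pos _ (by omega)
    apply Nat.mul_pos h2 (by omega)

/-- the order of the centraliser in `Ω` of an involution of alternating type -/
theorem omega_centralizer_alt [Fintype F] [CharP F 2] {q : ℕ} (hF : Fintype.card F = q)
    (hne : Fintype.card F ≠ 2 ∨ m ≠ 2) (t : OO) (ht : t * t = 1) (ht1 : t ≠ 1)
    (halt : IsAltInv (toSp t)) :
    ∃ k, (NNs (toSp t)).rank = k + k ∧ k + k ≤ m ∧
      Nat.card {g : ↥(Cfsg.Omega F (Cfsg.quadFormPlus m F)) // (g : OO) * t = t * (g : OO)} =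
        q ^ (2 * m * (k + k) - (3 * (k + k) ^ 2 + (k + k)) / 2) * spN q k *
          (if k + k = m then 1 else ordOm q (m - (k + k))) := by
  have hq : 2 ≤ q := by
    rw [← hF]
    exact Fintype.one_lt_card
  have ht' : toSp t * toSp t = 1 := by rw [← map_mul, ht, map_one]
  obtain ⟨k, hk, h1⟩ := card_centralizer_O_alt hF t ht halt
  have hkm : k + k ≤ m := by
    rw [← hk]
    exact rank_le (toSp t) ht'
  have hm : 1 ≤ m := by
    have h0 : toSp t ≠ 1 := by
      intro h
      apply ht1
      apply toSp_injective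
      rw [h, map_one]
    have := rank_pos (toSp t) h0
    omega
  have h3 := Cfsg.Agent.S0287.result hF m hm
  have hO : Nat.card OO = twoOrd q m := by
    obtain ⟨n, rfl⟩ : ∃ n, m = n + 1 := ⟨m - 1, by omega⟩
    rw [twoOrd_succ q n (by omega), h3]
    unfold ordOm
    ring
  have h4 := key_arith_ts q m (by omega) (k + k) hkm
  have hcard : Fintype.card (Fin k ⊕ Fin k) = k + k := by
    rw [Fintype.card_sum, Fintype.card_fin]
  rw [card_tsfr' hF hm, hcard, hO, ← h4] at h1
  have hpos : 0 < tsN q m (k + k) := by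
    rcases Nat.eq_zero_or_pos (tsN q m (k + k)) with h | h
    · rw [h, mul_zero] at h4
      have := twoOrd_pos q hq m
      omega
    · exact h
  have hCO : Nat.card (Subgroup.centralizer ({t} : Set OO)) =
      q ^ (2 * m * (k + k) - (3 * (k + k) ^ 2 + (k + k)) / 2) * twoOrd q (m - (k + k)) *
        spN q k := by
    apply Nat.eq_of_mul_eq_mul_right hpos
    rw [h1]
    ring
  refine ⟨k, hk, hkm, ?_⟩
  by_cases hkk : k + k = m
  · rw [if_pos hkk]
    have hs : Cfsg.Agent.helper29.OM.Spc Cfsg.Agent.helper29.OM.isQF_plus t := by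
      refine ⟨halt, ?_⟩
      exact hk.trans hkk
    rw [card_centralizer_omega_sp hne hm t hs, hCO, hkk, Nat.sub_self]
    show _ * 1 * _ = _
    ring
  · rw [if_neg hkk]
    have hs : ¬ Cfsg.Agent.helper29.OM.Spc Cfsg.Agent.helper29.OM.isQF_plus t := by
      rintro ⟨-, h⟩
      apply hkk
      rw [← hk]
      exact h
    have h5 := card_centralizer_omega_nsp hne hm t ht hs
    rw [hCO] at h5
    obtain ⟨n, hn⟩ : ∃ n, m - (k + k) = n + 1 := ⟨m - (k + k) - 1, by omega⟩
    rw [hn, twoOrd_succ q n (by omega)] at h5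
    rw [hn]
    apply Nat.eq_of_mul_eq_mul_right (by norm_num : 0 < 2)
    rw [h5]
    ring

end Cfsg.Agent.helper29.OC
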