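import Mathlib
import Cfsg.Agent.Lib_helper29_OC15

set_option autoImplicit false
set_option linter.unusedSectionVars false
set_option linter.unusedVariables false
namespace Cfsg.Agent.helper29.NS
open Matrix Cfsg.Agent.helper4 Cfsg.Agent.S0245 Cfsg.Agent.S2594 Cfsg.Agent.S0440 Cfsg.Agent.helper29
open Cfsg.Agent.helper29.SpInv Cfsg.Agent.helper29.OInv

variable {F : Type*} [Field F] {m : ℕ}

local notation "Sp" => Matrix.symplecticGroup (Fin m) F
local notation "ff" => Cfsg.sympForm m F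
local notation "VV" => (Fin m ⊕ Fin m → F)
local notation "MM" => Matrix (Fin m ⊕ Fin m) (Fin m ⊕ Fin m) F
set_option quotPrecheck false in
local notation "OO" => ↥(Cfsg.isometryGroup F (Cfsg.quadFormPlus m F))
local notation "QQ" => Cfsg.quadFormPlus m F

/-- in odd half-dimension every involution of the orthogonal group of plus type fixes a nonsingular
vector -/
theorem invol_fix_nonsing [Fintype F] [CharP F 2] (hodd : Odd m) (t : OO) (ht : t * t = 1) :
    ∃ a : VV, ((t : Matrix.GeneralLinearGroup (Fin m ⊕ Fin m) F) : MM) *ᵥ a = a ∧ QQ a ≠ 0 := by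
  have h2 : (2 : F) = 0 := CharTwo.two_eq_zero
  have hQ := Cfsg.Agent.helper29.OM.isQF_plus (F := F) (m := m)
  have hcard : Fintype.card (Fin m ⊕ Fin m) = 2 * m := by
    rw [Fintype.card_sum, Fintype.card_fin]
    ring
  rcases Cfsg.Agent.helper13.fix_nonsing_or_mts (Cfsg.Agent.helper29.OM.bundQ hQ) h2
    (Cfsg.Agent.helper29.OM.bundQ_nondeg hQ) hcard t ht with ⟨a, hta, ha⟩ | ⟨hmts, -⟩
  · exact ⟨a, hta, ha⟩
  · exfalso
    have hs := Cfsg.Agent.helper29.OM.spc_of_mts hQ t ht hmts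
    have ht' : toSp t * toSp t = 1 := by rw [← map_mul, ht, map_one]
    obtain ⟨k, w, hLI, hwr, hwf⟩ := normal_II' (toSp t) ht' hs.1
    have hrank := rank_of_form Sum.swap (toSp t) w hLI hwr hwf
    rw [Fintype.card_sum, Fintype.card_fin] at hrank
    have h3 : (NNs (toSp t)).rank = m := hs.2
    rw [h3] at hrank
    obtain ⟨c, hc⟩ := hodd
    omega

/-- in even half-dimension there is an involution in `Ω` all of whose fixed vectors are singular -/
theorem exists_special_invol [Fintype F] [CharP F 2] (heven : Even m) (hm : 1 ≤ m)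
    (hne : Fintype.card F ≠ 2 ∨ m ≠ 2) :
    ∃ t : OO, t * t = 1 ∧ t ≠ 1 ∧ t ∈ commutator OO ∧
      ∀ a : VV, ((t : Matrix.GeneralLinearGroup (Fin m ⊕ Fin m) F) : MM) *ᵥ a = a → QQ a = 0 := by
  have h2 : (2 : F) = 0 := CharTwo.two_eq_zero
  have hQ := Cfsg.Agent.helper29.OM.isQF_plus (F := F) (m := m)
  have hcard : Fintype.card (Fin m ⊕ Fin m) = 2 * m := by
    rw [Fintype.card_sum, Fintype.card_fin]
    ring
  have hne' : Fintype.card F ≠ 2 ∨ Fintype.card (Fin m ⊕ Fin m) ≠ 4 := by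
    rcases hne with h | h
    · exact Or.inl h
    · right
      rw [hcard]
      omega
  have hn : 1 ≤ Fintype.card (Fin m ⊕ Fin m) := by omega
  obtain ⟨k, hk⟩ := heven
  obtain ⟨t, ht, halt, hrank⟩ := exists_II_O (F := F) (m := m) k (by omega)
  have hrm : (NNs (toSp t)).rank = m := by rw [hrank, hk]
  refine ⟨t, ht, ?_, ?_, ?_⟩
  · intro h1
    have : toSp t ≠ 1 := ne_one_of_rank (toSp t) (by rw [hrm]; omega)
    apply this
    rw [h1, map_one]
  · apply (Cfsg.Agent.helper13.mem_commutator_iff_even_rank (Cfsg.Agent.helper29.OM.bundQ hQ) h2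
      (Cfsg.Agent.helper29.OM.bundQ_nondeg hQ) hne' hn t).mpr
    have : (((t : Matrix.GeneralLinearGroup (Fin m ⊕ Fin m) F) : MM) - 1).rank = k + k := hrank
    exact ⟨k, this⟩
  · intro a ha
    have hs : Cfsg.Agent.helper29.OM.Spc hQ t := ⟨halt, hrm⟩
    have hmts := Cfsg.Agent.helper29.OM.mts_of_spc hQ t hs
    have hle := Cfsg.Agent.helper13.movS_le_fixS (Cfsg.Agent.helper29.OM.bundQ hQ) h2 t ht
    have hadd := Cfsg.Agent.helper13.finrank_movS_add (Cfsg.Agent.helper29.OM.bundQ hQ) t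
    rw [hmts.rk, hcard] at hadd
    have heq : Cfsg.Agent.helper13.movS (Cfsg.Agent.helper29.OM.bundQ hQ) t =
        Cfsg.Agent.helper13.fixS (Cfsg.Agent.helper29.OM.bundQ hQ) t := by
      apply Submodule.eq_of_le_of_finrank_eq hle
      rw [hmts.rk]
      omega
    have hmem : a ∈ Cfsg.Agent.helper13.fixS (Cfsg.Agent.helper29.OM.bundQ hQ) t :=
      (Cfsg.Agent.helper13.mem_fixS (Cfsg.Agent.helper29.OM.bundQ hQ) t a).mpr ha
    rw [← heq] at hmem
    exact hmts.ts a hmem

end Cfsg.Agent.helper29.NS
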