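import Mathlib
import Cfsg.Agent.Lib_helper29_NS1

set_option autoImplicit false
set_option linter.unusedSectionVars false
set_option linter.unusedVariables false
namespace Cfsg.Agent.helper29.NS
open Matrix Cfsg.Agent.helper4 Cfsg.Agent.S0245 Cfsg.Agent.S2594 Cfsg.Agent.S0440 Cfsg.Agent.helper29
open Cfsg.Agent.helper29.SpInv Cfsg.Agent.helper29.OInv

variable {F : Type*} [Field F] {m : ℕ}

local notation "VV" => (Fin m ⊕ Fin m → F)
local notation "MM" => Matrix (Fin m ⊕ Fin m) (Fin m ⊕ Fin m) F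
local notation "QQ" => Cfsg.quadFormPlus m F

theorem QQ_smul' (c : F) (v : VV) : QQ (c • v) = c ^ 2 * QQ v := by
  unfold Cfsg.quadFormPlus
  rw [Finset.mul_sum]
  apply Finset.sum_congr rfl
  intro i _
  simp only [Pi.smul_apply, smul_eq_mul]
  ring

/-- a line is spanned by any of its nonzero vectors -/
theorem line_eq_span {V : Type*} [AddCommGroup V] [Module F V] (W : Submodule F V)
    (hW : Module.finrank F ↥W = 1) (v0 : V) (hv0 : v0 ∈ W) (hne : v0 ≠ 0) :
    W = Submodule.span F {v0} := by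
  have : Module.Finite F ↥W := Module.finite_of_finrank_pos (by omega)
  symm
  apply Submodule.eq_of_le_of_finrank_eq
  · rw [Submodule.span_singleton_le_iff_mem]
    exact hv0
  · rw [finrank_span_singleton hne, hW]

theorem line_mem {V : Type*} [AddCommGroup V] [Module F V] (W : Submodule F V)
    (hW : Module.finrank F ↥W = 1) (v0 : V) (hv0 : v0 ∈ W) (hne : v0 ≠ 0) (v : V) (hv : v ∈ W) :
    ∃ c : F, c • v0 = v := by
  rw [line_eq_span W hW v0 hv0 hne] at hv
  exact Submodule.mem_span_singleton.mp hv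

theorem QQ_ne_zero_of_ne (v : VV) (h : QQ v ≠ 0) : v ≠ 0 := by
  rintro rfl
  apply h
  unfold Cfsg.quadFormPlus
  simp

/-- the nonzero vectors of a nonsingular point -/
theorem card_point_vectors [Fintype F] {q : ℕ} (hF : Fintype.card F = q)
    (W : Submodule F VV) (hW : Module.finrank F ↥W = 1) (hns : ∃ v ∈ W, QQ v ≠ 0) :
    Nat.card {v : VV // v ∈ W ∧ v ≠ 0} = q - 1 := by
  classical
  obtain ⟨v0, hv0, hQ0⟩ := hns
  have hne := QQ_ne_zero_of_ne v0 hQ0
  have e : Fˣ ≃ {v : VV // v ∈ W ∧ v ≠ 0} :=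
    Equiv.ofBijective (fun c => ⟨(c : F) • v0, W.smul_mem _ hv0, smul_ne_zero c.ne_zero hne⟩) (by
      constructor
      · intro c c' h
        have h1 : (c : F) • v0 = (c' : F) • v0 := congrArg Subtype.val h
        have h2 : ((c : F) - (c' : F)) • v0 = 0 := by rw [sub_smul, h1, sub_self]
        rcases smul_eq_zero.mp h2 with h3 | h3
        · exact Units.ext (sub_eq_zero.mp h3)
        · exact absurd h3 hne
      · rintro ⟨v, hv, hv0'⟩
        obtain ⟨c, hc⟩ := line_mem W hW v0 hv0 hne v hv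
        have hc0 : c ≠ 0 := by
          rintro rfl
          apply hv0'
          rw [← hc, zero_smul]
        exact ⟨Units.mk0 c hc0, Subtype.ext hc⟩)
  rw [← Nat.card_congr e, Nat.card_eq_fintype_card, Fintype.card_units, hF]

/-- vectors versus points -/
def vecPtEquiv :
    {v : VV // QQ v ≠ 0} ≃
      Σ W : {W : Submodule F VV // Module.finrank F ↥W = 1 ∧ ∃ v ∈ W, QQ v ≠ 0},
        {v : VV // v ∈ W.1 ∧ v ≠ 0} where
  toFun v := ⟨⟨Submodule.span F {v.1}, finrank_span_singleton (QQ_ne_zero_of_ne v.1 v.2), v.1,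
    Submodule.mem_span_singleton_self _, v.2⟩, ⟨v.1, Submodule.mem_span_singleton_self _,
    QQ_ne_zero_of_ne v.1 v.2⟩⟩
  invFun p := ⟨p.2.1, by
    obtain ⟨v0, hv0, hQ0⟩ := p.1.2.2
    obtain ⟨c, hc⟩ := line_mem p.1.1 p.1.2.1 v0 hv0 (QQ_ne_zero_of_ne v0 hQ0) p.2.1 p.2.2.1
    rw [← hc, QQ_smul']
    apply mul_ne_zero _ hQ0
    apply pow_ne_zero
    rintro rfl
    apply p.2.2.2
    rw [← hc, zero_smul]⟩
  left_inv v := rfl
  right_inv p := by
    obtain ⟨⟨W, hW, hns⟩, ⟨v, hv, hv0⟩⟩ := p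
    have h1 : Submodule.span F {v} = W := (line_eq_span W hW v hv hv0).symm
    subst h1
    rfl

theorem card_nonsing_vec [Fintype F] {q : ℕ} (hF : Fintype.card F = q) (hm : 1 ≤ m) :
    Nat.card {v : VV // QQ v ≠ 0} + (q ^ (2 * m - 1) + q ^ m) = q ^ (2 * m) + q ^ (m - 1) := by
  classical
  have h1 := Cfsg.Agent.helper29.OC.card_Q_zero' (F := F) hF hm
  have h2 : Nat.card {v : VV // QQ v = 0} + Nat.card {v : VV // ¬ QQ v = 0} = Nat.card VV := by
    rw [← Nat.card_sum]
    exact Nat.card_congr (Equiv.sumCompl _)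
  have h3 : Nat.card VV = q ^ (2 * m) := by
    rw [Nat.card_eq_fintype_card, Fintype.card_fun, Fintype.card_sum, Fintype.card_fin, hF]
    congr 1
    ring
  have h4 : Nat.card {v : VV // QQ v ≠ 0} = Nat.card {v : VV // ¬ QQ v = 0} := rfl
  omega

/-- the number of nonsingular points -/
theorem card_npt [Fintype F] {q : ℕ} (hF : Fintype.card F = q) (hm : 1 ≤ m) :
    Nat.card {W : Submodule F VV // Module.finrank F ↥W = 1 ∧ ∃ v ∈ W, QQ v ≠ 0} =
      q ^ (m - 1) * (q ^ m - 1) := by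
  classical
  have hq : 2 ≤ q := by
    rw [← hF]
    exact Fintype.one_lt_card
  have : Fintype {W : Submodule F VV // Module.finrank F ↥W = 1 ∧ ∃ v ∈ W, QQ v ≠ 0} :=
    Fintype.ofFinite _
  have h1 := card_nonsing_vec (F := F) hF hm
  rw [Nat.card_congr vecPtEquiv, Nat.card_sigma,
    Finset.sum_congr rfl (fun W _ => card_point_vectors hF W.1 W.2.1 W.2.2), Finset.sum_const,
    smul_eq_mul, Finset.card_univ, ← Nat.card_eq_fintype_card] at h1
  obtain ⟨n, rfl⟩ : ∃ n, m = n + 1 := ⟨m - 1, by omega⟩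
  simp only [Nat.add_sub_cancel] at h1 ⊢
  have e1 : 2 * (n + 1) - 1 = n + (n + 1) := by omega
  have e2 : 2 * (n + 1) = n + (n + 2) := by omega
  rw [e1, e2, pow_add, pow_add q n (n + 2)] at h1
  have h5 : 1 ≤ q ^ (n + 1) := Nat.one_le_pow _ _ (by omega)
  have h6 : q ^ n * (q ^ (n + 1) - 1) * (q - 1) + (q ^ n * q ^ (n + 1) + q ^ (n + 1)) =
      q ^ n * q ^ (n + 2) + q ^ n := by
    zify [h5, (by omega : 1 ≤ q)]
    ring
  have h7 : Nat.card {W : Submodule F (Fin (n + 1) ⊕ Fin (n + 1) → F) //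
      Module.finrank F ↥W = 1 ∧ ∃ v ∈ W, Cfsg.quadFormPlus (n + 1) F v ≠ 0} * (q - 1) =
      q ^ n * (q ^ (n + 1) - 1) * (q - 1) := by omega
  exact Nat.eq_of_mul_eq_mul_right (by omega) h7

end Cfsg.Agent.helper29.NS
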