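import Mathlib
import Cfsg.Agent.Lib_helper29_NS2

set_option autoImplicit false
set_option linter.unusedSectionVars false
set_option linter.unusedVariables false
namespace Cfsg.Agent.helper29.NS
open Matrix Cfsg.Agent.helper4 Cfsg.Agent.S0245 Cfsg.Agent.S2594 Cfsg.Agent.S0440 Cfsg.Agent.helper29
open Cfsg.Agent.helper29.SpInv Cfsg.Agent.helper29.OInv

variable {F : Type*} [Field F] {m : ℕ}

local notation "VV" => (Fin m ⊕ Fin m → F)
local notation "MM" => Matrix (Fin m ⊕ Fin m) (Fin m ⊕ Fin m) F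
set_option quotPrecheck false in
local notation "OO" => ↥(Cfsg.isometryGroup F (Cfsg.quadFormPlus m F))
local notation "QQ" => Cfsg.quadFormPlus m F

variable {K : Type*} [Field K] [Algebra F K] (b : Module.Basis (Fin m) F K)

/-- the block matrix of multiplication by `x` on `K` and its inverse transpose on the dual -/
noncomputable def blk (x : Kˣ) : MM :=
  Matrix.fromBlocks (Algebra.leftMulMatrix b (x : K)) 0 0 (Algebra.leftMulMatrix b ((x⁻¹ : Kˣ) : K))ᵀ

theorem blk_one : blk b (1 : Kˣ) = 1 := by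
  unfold blk
  rw [inv_one, Units.val_one, map_one, Matrix.transpose_one, Matrix.fromBlocks_one]

theorem blk_mul (x y : Kˣ) : blk b (x * y) = blk b x * blk b y := by
  unfold blk
  rw [Matrix.fromBlocks_multiply]
  simp only [Matrix.mul_zero, Matrix.zero_mul, add_zero, zero_add]
  rw [← Matrix.transpose_mul, ← map_mul, ← map_mul, Units.val_mul, _root_.mul_inv_rev, Units.val_mul]

/-- the block matrices as a monoid homomorphism -/
noncomputable def blkHom : Kˣ →* MM where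
  toFun := blk b
  map_one' := blk_one b
  map_mul' := blk_mul b

theorem QQ_eq_dot (v : VV) : QQ v = (v ∘ Sum.inl) ⬝ᵥ (v ∘ Sum.inr) := rfl

theorem blk_mulVec (x : Kˣ) (v : VV) :
    blk b x *ᵥ v = Sum.elim (Algebra.leftMulMatrix b (x : K) *ᵥ (v ∘ Sum.inl))
      ((Algebra.leftMulMatrix b ((x⁻¹ : Kˣ) : K))ᵀ *ᵥ (v ∘ Sum.inr)) := by
  unfold blk
  rw [Matrix.fromBlocks_mulVec]
  simp only [Matrix.zero_mulVec, add_zero, zero_add]

theorem QQ_blk (x : Kˣ) (v : VV) : QQ (blk b x *ᵥ v) = QQ v := by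
  rw [QQ_eq_dot, QQ_eq_dot, blk_mulVec]
  have h1 : (Sum.elim (Algebra.leftMulMatrix b (x : K) *ᵥ (v ∘ Sum.inl))
      ((Algebra.leftMulMatrix b ((x⁻¹ : Kˣ) : K))ᵀ *ᵥ (v ∘ Sum.inr))) ∘ Sum.inl =
      Algebra.leftMulMatrix b (x : K) *ᵥ (v ∘ Sum.inl) := rfl
  have h2 : (Sum.elim (Algebra.leftMulMatrix b (x : K) *ᵥ (v ∘ Sum.inl))
      ((Algebra.leftMulMatrix b ((x⁻¹ : Kˣ) : K))ᵀ *ᵥ (v ∘ Sum.inr))) ∘ Sum.inr =
      (Algebra.leftMulMatrix b ((x⁻¹ : Kˣ) : K))ᵀ *ᵥ (v ∘ Sum.inr) := rfl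
  rw [h1, h2, Matrix.mulVec_transpose, dotProduct_comm, Matrix.dotProduct_mulVec,
    Matrix.vecMul_vecMul, ← map_mul, ← Units.val_mul, inv_mul_cancel, Units.val_one, map_one,
    Matrix.vecMul_one, dotProduct_comm]

/-- the homomorphism into the orthogonal group -/
noncomputable def blkO : Kˣ →* OO :=
  MonoidHom.codRestrict (blkHom b).toHomUnits (Cfsg.isometryGroup F (Cfsg.quadFormPlus m F))
    (fun x u _ => QQ_blk b x u)

theorem blkO_coe (x : Kˣ) :
    (((blkO b x : OO) : Matrix.GeneralLinearGroup (Fin m ⊕ Fin m) F) : MM) = blk b x := rfl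

/-- an eigenvector of the multiplication matrix -/
theorem eig1 (x : K) (μ : F) (u : Fin m → F) (hu : u ≠ 0)
    (h : Algebra.leftMulMatrix b x *ᵥ u = μ • u) : x = algebraMap F K μ := by
  obtain ⟨k, hk⟩ : ∃ k : K, ⇑(b.repr k) = u :=
    ⟨b.equivFun.symm u, by rw [← Module.Basis.equivFun_apply, LinearEquiv.apply_symm_apply]⟩
  have hk0 : k ≠ 0 := by
    rintro rfl
    apply hu
    rw [← hk, map_zero]
    rfl
  rw [← hk, Algebra.leftMulMatrix_mulVec_repr] at h
  have h1 : b.repr (x * k) = b.repr (μ • k) := by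
    rw [map_smul]
    exact DFunLike.coe_injective h
  have h2 : x * k = μ • k := b.repr.injective h1
  rw [Algebra.smul_def] at h2
  exact mul_right_cancel₀ hk0 h2

/-- an eigenvector of the transpose gives one of the matrix -/
theorem eig2 (A : Matrix (Fin m) (Fin m) F) (μ : F) (w : Fin m → F) (hw : w ≠ 0)
    (h : Aᵀ *ᵥ w = μ • w) : ∃ u : Fin m → F, u ≠ 0 ∧ A *ᵥ u = μ • u := by
  have h1 : (A - μ • (1 : Matrix (Fin m) (Fin m) F)).det = 0 := by
    rw [← Matrix.det_transpose]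
    apply Matrix.exists_mulVec_eq_zero_iff.mp
    refine ⟨w, hw, ?_⟩
    rw [Matrix.transpose_sub, Matrix.transpose_smul, Matrix.transpose_one, Matrix.sub_mulVec, h,
      Matrix.smul_mulVec, Matrix.one_mulVec, sub_self]
  obtain ⟨u, hu, h2⟩ := Matrix.exists_mulVec_eq_zero_iff.mpr h1
  refine ⟨u, hu, ?_⟩
  rw [Matrix.sub_mulVec, Matrix.smul_mulVec, Matrix.one_mulVec, sub_eq_zero] at h2
  exact h2

/-- a fixed line of the block matrix of a nontrivial element is singular -/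
theorem blk_no_fix [CharP F 2] (x : Kˣ) (hx : x ≠ 1) (μ : F) (v : VV)
    (h : blk b x *ᵥ v = μ • v) : QQ v = 0 := by
  by_contra hQ
  rw [QQ_eq_dot] at hQ
  have hu : v ∘ Sum.inl ≠ 0 := by
    intro h0
    apply hQ
    rw [h0, zero_dotProduct]
  have hw : v ∘ Sum.inr ≠ 0 := by
    intro h0
    apply hQ
    rw [h0, dotProduct_zero]
  rw [blk_mulVec] at h
  have h1 : Algebra.leftMulMatrix b (x : K) *ᵥ (v ∘ Sum.inl) = μ • (v ∘ Sum.inl) := by
    funext i
    exact congrFun h (Sum.inl i)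
  have h2 : (Algebra.leftMulMatrix b ((x⁻¹ : Kˣ) : K))ᵀ *ᵥ (v ∘ Sum.inr) = μ • (v ∘ Sum.inr) := by
    funext i
    exact congrFun h (Sum.inr i)
  have e1 := eig1 b (x : K) μ _ hu h1
  obtain ⟨u', hu', h3⟩ := eig2 _ μ _ hw h2
  have e2 := eig1 b ((x⁻¹ : Kˣ) : K) μ _ hu' h3
  have h4 : algebraMap F K (μ * μ) = algebraMap F K 1 := by
    rw [map_mul, map_one]
    nth_rewrite 1 [← e1]
    rw [← e2, ← Units.val_mul, mul_inv_cancel, Units.val_one]
  have h5 : μ * μ = 1 := (algebraMap F K).injective h4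
  have h6 : μ = 1 := by
    have h2' : (2 : F) = 0 := CharTwo.two_eq_zero
    have : (μ - 1) * (μ - 1) = 0 := by linear_combination h5 - μ * h2' + h2'
    have := mul_self_eq_zero.mp this
    exact sub_eq_zero.mp this
  apply hx
  apply Units.ext
  rw [e1, h6, map_one, Units.val_one]

end Cfsg.Agent.helper29.NS
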