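import Mathlib
import Cfsg.Agent.Lib_helper29_NS3

set_option autoImplicit false
set_option linter.unusedSectionVars false
set_option linter.unusedVariables false
namespace Cfsg.Agent.helper29.NS
open Matrix Cfsg.Agent.helper4 Cfsg.Agent.S0245 Cfsg.Agent.S2594 Cfsg.Agent.S0440 Cfsg.Agent.helper29
open Cfsg.Agent.helper29.SpInv Cfsg.Agent.helper29.OInv

variable {F : Type*} [Field F] {m : ℕ}

local notation "VV" => (Fin m ⊕ Fin m → F)
local notation "MM" => Matrix (Fin m ⊕ Fin m) (Fin m ⊕ Fin m) F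
set_option quotPrecheck false in
local notation "OO" => ↥(Cfsg.isometryGroup F (Cfsg.quadFormPlus m F))
local notation "QQ" => Cfsg.quadFormPlus m F

/-- elements of odd order lie in `Ω` -/
theorem mem_omega_of_odd_order [Fintype F] [CharP F 2] (hm : 1 ≤ m)
    (hne : Fintype.card F ≠ 2 ∨ m ≠ 2) (g : OO) (r : ℕ) (hr : Odd r) (hg : g ^ r = 1) :
    g ∈ commutator OO := by
  have h2 : (2 : F) = 0 := CharTwo.two_eq_zero
  have hQ := Cfsg.Agent.helper29.OM.isQF_plus (F := F) (m := m)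
  have hcard : Fintype.card (Fin m ⊕ Fin m) = 2 * m := by
    rw [Fintype.card_sum, Fintype.card_fin]
    ring
  have hne' : Fintype.card F ≠ 2 ∨ Fintype.card (Fin m ⊕ Fin m) ≠ 4 := by
    rcases hne with h | h
    · exact Or.inl h
    · right
      rw [hcard]
      omega
  have hn : 1 ≤ Fintype.card (Fin m ⊕ Fin m) := by omega
  obtain ⟨δ, hδ⟩ : ∃ δ : OO →* ℤˣ, ∀ g, g ∈ commutator OO ↔ δ g = 1 :=
    ⟨Cfsg.Agent.helper13.dickson (Cfsg.Agent.helper29.OM.bundQ hQ) h2
      (Cfsg.Agent.helper29.OM.bundQ_nondeg hQ),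
      fun g => Cfsg.Agent.helper13.mem_commutator_iff_two (Cfsg.Agent.helper29.OM.bundQ hQ) h2
        (Cfsg.Agent.helper29.OM.bundQ_nondeg hQ) hne' hn _
        (Cfsg.Agent.helper13.dickson_reflG (Cfsg.Agent.helper29.OM.bundQ hQ) h2
          (Cfsg.Agent.helper29.OM.bundQ_nondeg hQ)) g⟩
  rw [hδ]
  have h1 : δ g ^ r = 1 := by rw [← map_pow, hg, map_one]
  rcases Int.units_eq_one_or (δ g) with h | h
  · exact h
  · rw [h, hr.neg_one_pow] at h1
    exact absurd h1 (by decide)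

/-- an element of odd prime order in `Ω` fixing no nonsingular point -/
theorem exists_odd_order_no_fix [Fintype F] [CharP F 2] {q : ℕ} (hF : Fintype.card F = q)
    (hm : 1 ≤ m) (hne : Fintype.card F ≠ 2 ∨ m ≠ 2) (r : ℕ) [Fact r.Prime] (hr2 : r ≠ 2)
    (hr : r ∣ q ^ m - 1) :
    ∃ g : OO, g ∈ commutator OO ∧ g ^ r = 1 ∧
      ∀ W : Submodule F VV, Module.finrank F ↥W = 1 → (∃ v ∈ W, QQ v ≠ 0) →
        ¬ W.map (Matrix.toLin' ((g : Matrix.GeneralLinearGroup (Fin m ⊕ Fin m) F) : MM)) ≤ W := by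
  haveI : NeZero m := ⟨by omega⟩
  haveI : Fact (Nat.Prime 2) := ⟨Nat.prime_two⟩
  have hfr : Module.finrank F (FiniteField.Extension F 2 m) = m :=
    FiniteField.finrank_extension F 2 m
  obtain ⟨b⟩ : Nonempty (Module.Basis (Fin m) F (FiniteField.Extension F 2 m)) :=
    ⟨Module.finBasisOfFinrankEq F (FiniteField.Extension F 2 m) hfr⟩
  have hcK : Nat.card (FiniteField.Extension F 2 m)ˣ = q ^ m - 1 := by
    rw [Nat.card_units, FiniteField.natCard_extension, Nat.card_eq_fintype_card, hF]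
  rw [← hcK] at hr
  obtain ⟨lam, hlam⟩ := exists_prime_orderOf_dvd_card' r hr
  have hrodd : Odd r := (Fact.out : r.Prime).odd_of_ne_two hr2
  have hpow : blkO b lam ^ r = 1 := by
    rw [← map_pow, ← hlam, pow_orderOf_eq_one, map_one]
  have hlam1 : lam ≠ 1 := by
    rintro rfl
    rw [orderOf_one] at hlam
    exact (Fact.out : r.Prime).one_lt.ne hlam
  refine ⟨blkO b lam, mem_omega_of_odd_order hm hne _ r hrodd hpow, hpow, ?_⟩
  rintro W hW ⟨v, hvW, hQv⟩ hle
  have h1 : Matrix.toLin' (blk b lam) v ∈ W := hle (Submodule.mem_map_of_mem hvW)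
  obtain ⟨μ, hμ⟩ := line_mem W hW v hvW (QQ_ne_zero_of_ne v hQv) _ h1
  rw [Matrix.toLin'_apply] at hμ
  exact hQv (blk_no_fix b lam hlam1 μ v hμ.symm)

end Cfsg.Agent.helper29.NS
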