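import Mathlib
import Cfsg.Agent.Lib_helper29_NS4

set_option autoImplicit false
set_option linter.unusedSectionVars false
set_option linter.unusedVariables false
namespace Cfsg.Agent.helper29.NS

section traceform
variable {F : Type*} [Field F] {K : Type*} [Field K] [Algebra F K]
  (σ : K ≃ₐ[F] K) (θ : K)

/-- the trace of the twisted norm -/
noncomputable def trQ (x : K) : F := Algebra.trace F K (θ * x * σ x)

theorem trQ_smul (c : F) (x : K) : trQ σ θ (c • x) = (c * c) • trQ σ θ x := by
  unfold trQ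
  have h : θ * (c • x) * σ (c • x) = (c * c) • (θ * x * σ x) := by
    rw [map_smul]
    simp only [Algebra.smul_def, map_mul]
    ring
  rw [h, map_smul]

theorem trQ_add (hθ : θ + σ θ = 1) (hσ : ∀ x, σ (σ x) = x) (x y : K) :
    trQ σ θ (x + y) = trQ σ θ x + trQ σ θ y + Algebra.trace F K (x * σ y) := by
  unfold trQ
  have h1 : Algebra.trace F K (θ * y * σ x) = Algebra.trace F K (σ θ * x * σ y) := by
    have e : σ (θ * y * σ x) = σ θ * x * σ y := by
      rw [map_mul, map_mul, hσ]
      ring
    rw [← Algebra.trace_eq_of_algEquiv σ (θ * y * σ x), e]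
  have h2 : θ * (x + y) * σ (x + y) =
      θ * x * σ x + θ * y * σ y + (θ * x * σ y + θ * y * σ x) := by
    rw [map_add]
    ring
  rw [h2, map_add, map_add, map_add, h1]
  congr 1
  have e : θ * x * σ y + σ θ * x * σ y = (θ + σ θ) * (x * σ y) := by ring
  rw [← map_add, e, hθ, one_mul]

theorem trQ_polar (hθ : θ + σ θ = 1) (hσ : ∀ x, σ (σ x) = x) (x y : K) :
    QuadraticMap.polar (trQ σ θ) x y = Algebra.trace F K (x * σ y) := by
  unfold QuadraticMap.polar
  rw [trQ_add σ θ hθ hσ]
  ring

/-- the quadratic form -/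
noncomputable def trQF (hθ : θ + σ θ = 1) (hσ : ∀ x, σ (σ x) = x) : QuadraticForm F K :=
  QuadraticMap.ofPolar (trQ σ θ) (trQ_smul σ θ)
    (fun x x' y => by
      rw [trQ_polar σ θ hθ hσ, trQ_polar σ θ hθ hσ, trQ_polar σ θ hθ hσ, add_mul, map_add])
    (fun a x y => by
      rw [trQ_polar σ θ hθ hσ, trQ_polar σ θ hθ hσ, smul_mul_assoc, map_smul])

theorem trQF_apply (hθ : θ + σ θ = 1) (hσ : ∀ x, σ (σ x) = x) (x : K) :
    trQF σ θ hθ hσ x = trQ σ θ x := rfl

theorem trQF_nondeg [FiniteDimensional F K] [Algebra.IsSeparable F K] (hθ : θ + σ θ = 1)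
    (hσ : ∀ x, σ (σ x) = x) : (QuadraticMap.polarBilin (trQF σ θ hθ hσ)).Nondegenerate := by
  have hnd := traceForm_nondegenerate F K
  constructor
  · intro x hx
    apply hnd.1 x
    intro z
    have := hx (σ z)
    rw [QuadraticMap.polarBilin_apply_apply] at this
    have h2 : QuadraticMap.polar (⇑(trQF σ θ hθ hσ)) x (σ z) =
        QuadraticMap.polar (trQ σ θ) x (σ z) := rfl
    rw [h2, trQ_polar σ θ hθ hσ, hσ] at this
    exact this
  · intro y hy
    have h0 : σ y = 0 := by
      apply hnd.2 (σ y)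
      intro x
      have := hy x
      rw [QuadraticMap.polarBilin_apply_apply] at this
      have h2 : QuadraticMap.polar (⇑(trQF σ θ hθ hσ)) x y =
          QuadraticMap.polar (trQ σ θ) x y := rfl
      rw [h2, trQ_polar σ θ hθ hσ] at this
      exact this
    exact (map_eq_zero_iff σ σ.injective).mp h0

theorem trQ_mul (lam : K) (hlam : lam * σ lam = 1) (x : K) : trQ σ θ (lam * x) = trQ σ θ x := by
  unfold trQ
  congr 1
  rw [map_mul]
  calc θ * (lam * x) * (σ lam * σ x) = (lam * σ lam) * (θ * x * σ x) := by ring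
    _ = θ * x * σ x := by rw [hlam, one_mul]

/-- an element `θ` of trace one over the fixed field -/
theorem exists_theta [CharP F 2] (y : K) (hy : σ y ≠ y) (hσ : ∀ x, σ (σ x) = x) :
    ∃ θ : K, θ + σ θ = 1 := by
  have h2 : (2 : K) = 0 := by
    have : CharP K 2 := (Algebra.charP_iff F K 2).mp inferInstance
    exact CharTwo.two_eq_zero
  have hne : y + σ y ≠ 0 := by
    intro h
    apply hy
    have : σ y = -y := by linear_combination h
    rw [this]
    linear_combination (-y) * h2
  refine ⟨y / (y + σ y), ?_⟩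
  rw [map_div₀, map_add, hσ, add_comm (σ y) y, ← add_div, div_self hne]

end traceform

end Cfsg.Agent.helper29.NS
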