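import Mathlib
import Cfsg.Agent.Lib_helper29_NS5

set_option autoImplicit false
set_option linter.unusedSectionVars false
set_option linter.unusedVariables false
namespace Cfsg.Agent.helper29.NS

/-- a quadratic extension `K` of the field with `q ^ d` elements, its involution and a generator of
the group of elements of norm one -/
theorem exists_torus_data {F : Type*} [Field F] [Fintype F] [CharP F 2] {q : ℕ}
    (hF : Fintype.card F = q) (d : ℕ) (hd : 1 ≤ d) :
    ∃ (K : Type) (_ : Field K) (_ : Algebra F K) (_ : Finite K) (σ : K ≃ₐ[F] K) (ω : Kˣ),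
      Module.finrank F K = 2 * d ∧ (∀ x, σ (σ x) = x) ∧ (∃ y, σ y ≠ y) ∧
      orderOf ω = q ^ d + 1 ∧ (ω : K) * σ (ω : K) = 1 := by
  have hq : 2 ≤ q := by
    rw [← hF]
    exact Fintype.one_lt_card
  haveI : NeZero (2 * d) := ⟨by omega⟩
  haveI : Fact (Nat.Prime 2) := ⟨Nat.prime_two⟩
  have hcK : Nat.card (FiniteField.Extension F 2 (2 * d)) = q ^ (2 * d) := by
    rw [FiniteField.natCard_extension, Nat.card_eq_fintype_card, hF]
  have hcU : Nat.card (FiniteField.Extension F 2 (2 * d))ˣ = q ^ (2 * d) - 1 := by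
    rw [Nat.card_units, hcK]
  have hfac : q ^ (2 * d) - 1 = (q ^ d - 1) * (q ^ d + 1) := by
    have h1 : 1 ≤ q ^ d := Nat.one_le_pow _ _ (by omega)
    have h2 : 1 ≤ q ^ (2 * d) := Nat.one_le_pow _ _ (by omega)
    zify [h1, h2]
    ring
  have hA : 2 ≤ q ^ d := by
    calc 2 ≤ q := hq
      _ = q ^ 1 := (pow_one q).symm
      _ ≤ q ^ d := Nat.pow_le_pow_right (by omega) hd
  have hσ : ∀ x : FiniteField.Extension F 2 (2 * d),
      (FiniteField.Extension.frob F 2 (2 * d) ^ d) x = x ^ (q ^ d) := by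
    intro x
    rw [FiniteField.Extension.frob_iterate_apply, Nat.card_eq_fintype_card, hF]
  obtain ⟨g, hg⟩ := IsCyclic.exists_ofOrder_eq_natCard (α := (FiniteField.Extension F 2 (2 * d))ˣ)
  rw [hcU] at hg
  have hgpow : g ^ ((q ^ d - 1) * (q ^ d + 1)) = 1 := by
    rw [← hfac, ← hg]
    exact pow_orderOf_eq_one g
  refine ⟨FiniteField.Extension F 2 (2 * d), inferInstance, inferInstance, inferInstance,
    FiniteField.Extension.frob F 2 (2 * d) ^ d, g ^ (q ^ d - 1),
    FiniteField.finrank_extension F 2 (2 * d), ?_, ?_, ?_, ?_⟩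
  · intro x
    rw [hσ, hσ, ← pow_mul, ← pow_add, ← two_mul, ← hcK]
    haveI := Fintype.ofFinite (FiniteField.Extension F 2 (2 * d))
    rw [← Fintype.card_eq_nat_card]
    exact FiniteField.pow_card x
  · refine ⟨(g : FiniteField.Extension F 2 (2 * d)), ?_⟩
    intro h
    rw [hσ] at h
    have h1 : g ^ (q ^ d) = g := by
      apply Units.ext
      rw [Units.val_pow_eq_pow_val]
      exact h
    have h2 : g ^ (q ^ d - 1) = 1 := by
      have : g ^ (q ^ d - 1) * g = 1 * g := by
        rw [← pow_succ, one_mul, Nat.sub_add_cancel (by omega)]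
        exact h1
      exact mul_right_cancel this
    have h3 := orderOf_dvd_of_pow_eq_one h2
    rw [hg, hfac] at h3
    have h4 := Nat.le_of_dvd (by omega) h3
    have h5 : (q ^ d - 1) * 2 ≤ (q ^ d - 1) * (q ^ d + 1) := Nat.mul_le_mul_left _ (by omega)
    omega
  · rw [orderOf_pow, hg, hfac]
    have h1 : Nat.gcd ((q ^ d - 1) * (q ^ d + 1)) (q ^ d - 1) = q ^ d - 1 :=
      Nat.gcd_eq_right (dvd_mul_right _ _)
    rw [h1]
    exact Nat.mul_div_cancel_left _ (by omega)
  · rw [hσ, ← pow_succ', ← Units.val_pow_eq_pow_val, ← pow_mul, hgpow, Units.val_one]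

end Cfsg.Agent.helper29.NS
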