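import Mathlib
import Cfsg.Agent.Lib_helper29_NS6

set_option autoImplicit false
set_option linter.unusedSectionVars false
set_option linter.unusedVariables false
namespace Cfsg.Agent.helper29.NS

theorem torus_arith (q d N : ℕ) (hq2 : q = 2 ∨ 4 ≤ q) (hd : 1 ≤ d)
    (h1 : N + (q ^ (2 * d - 1) + q ^ d) = q ^ (2 * d) + q ^ (d - 1)) (h2 : (q ^ d + 1) ∣ N) :
    False := by
  obtain ⟨n, rfl⟩ : ∃ n, d = n + 1 := ⟨d - 1, by omega⟩
  simp only [Nat.add_sub_cancel] at h1
  have e1 : 2 * (n + 1) - 1 = (n + 1) + n := by omega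
  have e2 : 2 * (n + 1) = (n + 1) + (n + 1) := by omega
  rw [e1, e2, pow_add, pow_add q (n + 1) (n + 1)] at h1
  have e3 : q ^ (n + 1) = q * q ^ n := pow_succ' q n
  have hB : 1 ≤ q ^ n := Nat.one_le_pow _ _ (by omega)
  generalize q ^ (n + 1) = A at *
  generalize q ^ n = B at *
  have h3 : N + (A + 1) * (B + 2) = (A + 1) * A + (2 * B + 2) := by
    have e4 : (A + 1) * (B + 2) = A * B + 2 * A + B + 2 := by ring
    have e5 : (A + 1) * A = A * A + A := by ring
    rw [e4, e5]
    generalize A * B = P at *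
    generalize A * A = S at *
    omega
  have h4 : (A + 1) ∣ 2 * B + 2 := by
    have h5 : (A + 1) ∣ N + (A + 1) * (B + 2) := Dvd.dvd.add h2 (dvd_mul_right _ _)
    rw [h3] at h5
    exact (Nat.dvd_add_right (dvd_mul_right _ _)).mp h5
  rcases hq2 with rfl | hq4
  · have h6 : (2 * B + 1) ∣ 2 * B + 2 := by
      rw [e3] at h4
      exact h4
    have h7 : (2 * B + 1) ∣ 1 := by
      have := Nat.dvd_sub h6 (dvd_refl (2 * B + 1))
      have e : 2 * B + 2 - (2 * B + 1) = 1 := by omega
      rw [e] at this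
      exact this
    have := Nat.le_of_dvd (by omega) h7
    omega
  · have h6 := Nat.le_of_dvd (by omega) h4
    have h7 : 4 * B ≤ q * B := Nat.mul_le_mul_right B hq4
    omega

/-- the elements of norm one -/
def normOne {F : Type*} [Field F] {K : Type*} [Field K] [Algebra F K] (σ : K ≃ₐ[F] K) :
    Subgroup Kˣ where
  carrier := {z | (z : K) * σ (z : K) = 1}
  mul_mem' := by
    intro a b ha hb
    show ((a * b : Kˣ) : K) * σ ((a * b : Kˣ) : K) = 1
    rw [Units.val_mul, map_mul]
    calc (a : K) * (b : K) * (σ (a : K) * σ (b : K)) =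
        ((a : K) * σ (a : K)) * ((b : K) * σ (b : K)) := by ring
      _ = 1 := by rw [ha, hb, one_mul]
  one_mem' := by
    show ((1 : Kˣ) : K) * σ ((1 : Kˣ) : K) = 1
    rw [Units.val_one, map_one, one_mul]
  inv_mem' := by
    intro a ha
    show ((a⁻¹ : Kˣ) : K) * σ ((a⁻¹ : Kˣ) : K) = 1
    rw [Units.val_inv_eq_inv_val, map_inv₀, ← mul_inv, ha, inv_one]

theorem mem_normOne {F : Type*} [Field F] {K : Type*} [Field K] [Algebra F K] (σ : K ≃ₐ[F] K)
    (z : Kˣ) : z ∈ normOne σ ↔ (z : K) * σ (z : K) = 1 := Iff.rfl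

theorem trQ_zero {F : Type*} [Field F] {K : Type*} [Field K] [Algebra F K] (σ : K ≃ₐ[F] K)
    (θ : K) : trQ σ θ 0 = 0 := by
  unfold trQ
  rw [mul_zero, zero_mul, map_zero]

/-- a cyclic group of norm one elements acts freely on the nonsingular vectors -/
theorem card_dvd_nonsing {F : Type*} [Field F] {K : Type*} [Field K] [Algebra F K] [Finite K]
    (σ : K ≃ₐ[F] K) (θ : K) (ω : Kˣ) (hωn : (ω : K) * σ (ω : K) = 1) :
    orderOf ω ∣ Nat.card {v : K // trQ σ θ v ≠ 0} := by
  have hle : Subgroup.zpowers ω ≤ normOne σ := by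
    rw [Subgroup.zpowers_le]
    exact hωn
  letI : MulAction ↥(Subgroup.zpowers ω) {v : K // trQ σ θ v ≠ 0} :=
    { smul := fun z x => ⟨((z : Kˣ) : K) * x.1, by
        rw [trQ_mul σ θ _ (hle z.2)]
        exact x.2⟩
      one_smul := fun x => Subtype.ext (by
        show (((1 : ↥(Subgroup.zpowers ω)) : Kˣ) : K) * x.1 = x.1
        rw [Subgroup.coe_one, Units.val_one, one_mul])
      mul_smul := fun a b x => Subtype.ext (by
        show (((a * b : ↥(Subgroup.zpowers ω)) : Kˣ) : K) * x.1 =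
          ((a : Kˣ) : K) * (((b : Kˣ) : K) * x.1)
        rw [Subgroup.coe_mul, Units.val_mul, mul_assoc]) }
  have hfree : ∀ x : {v : K // trQ σ θ v ≠ 0},
      MulAction.stabilizer ↥(Subgroup.zpowers ω) x = ⊥ := by
    intro x
    rw [Subgroup.eq_bot_iff_forall]
    intro z hz
    rw [MulAction.mem_stabilizer_iff] at hz
    have h1 : ((z : Kˣ) : K) * x.1 = x.1 := congrArg Subtype.val hz
    have hx0 : x.1 ≠ 0 := by
      intro h0
      apply x.2
      rw [h0, trQ_zero]
    have h2 : ((z : Kˣ) : K) = 1 := by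
      have : (((z : Kˣ) : K) - 1) * x.1 = 0 := by rw [sub_mul, h1, one_mul, sub_self]
      rcases mul_eq_zero.mp this with h | h
      · exact sub_eq_zero.mp h
      · exact absurd h hx0
    apply Subtype.ext
    apply Units.ext
    rw [h2]
    rfl
  have e := MulAction.selfEquivOrbitsQuotientProd hfree
  rw [Nat.card_congr e, Nat.card_prod, Nat.card_zpowers]
  exact dvd_mul_left _ _

end Cfsg.Agent.helper29.NS
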