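import Mathlib
import Cfsg.Agent.Lib_helper29_NS7

set_option autoImplicit false
set_option linter.unusedSectionVars false
set_option linter.unusedVariables false
namespace Cfsg.Agent.helper29.NS

theorem even_card_two_or_four {F : Type*} [Field F] [Fintype F] [CharP F 2] {q : ℕ}
    (hF : Fintype.card F = q) : q = 2 ∨ 4 ≤ q := by
  obtain ⟨n, -, hn⟩ := FiniteField.card F 2
  rw [hF] at hn
  rcases Nat.lt_or_ge (n : ℕ) 2 with h | h
  · left
    have : (n : ℕ) = 1 := by
      have := n.pos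
      omega
    rw [hn, this, pow_one]
  · right
    rw [hn]
    calc 4 = 2 ^ 2 := by norm_num
      _ ≤ 2 ^ (n : ℕ) := Nat.pow_le_pow_right (by norm_num) h

/-- the trace form of the norm is of minus type -/
theorem trQF_minus {F : Type*} [Field F] [Fintype F] [CharP F 2] {q : ℕ}
    (hF : Fintype.card F = q) (d : ℕ) (hd : 1 ≤ d) {K : Type} [Field K] [Algebra F K] [Finite K]
    (σ : K ≃ₐ[F] K) (θ : K) (hθ : θ + σ θ = 1) (hσ : ∀ x, σ (σ x) = x)
    (hfr : Module.finrank F K = 2 * d) (ω : Kˣ) (hω : orderOf ω = q ^ d + 1)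
    (hωn : (ω : K) * σ (ω : K) = 1) :
    ∃ ζ : F, (∀ t : F, t ^ 2 + t + ζ ≠ 0) ∧
      ∃ g : K ≃ₗ[F] ((Fin (d - 1) ⊕ Fin (d - 1)) ⊕ Fin 2 → F),
        ∀ v, trQ σ θ v = Cfsg.quadFormMinus (d - 1) F 1 ζ (g v) := by
  haveI : FiniteDimensional F K := Module.Finite.of_finite
  rcases Cfsg.Agent.helper13.classify_even hd hfr (trQF σ θ hθ hσ) (trQF_nondeg σ θ hθ hσ) with
    ⟨g, hg⟩ | ⟨ζ, hζ, g, hg⟩
  · exfalso
    have e : {v : K // trQ σ θ v ≠ 0} ≃
        {u : Fin d ⊕ Fin d → F // Cfsg.quadFormPlus d F u ≠ 0} :=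
      Equiv.subtypeEquiv g.toEquiv (fun v => by
        have := hg v
        rw [trQF_apply] at this
        rw [this]
        rfl)
    have h1 := card_nonsing_vec (F := F) hF hd
    rw [← Nat.card_congr e] at h1
    have h2 := card_dvd_nonsing σ θ ω hωn
    rw [hω] at h2
    exact torus_arith q d _ (even_card_two_or_four hF) hd h1 h2
  · exact ⟨ζ, hζ, g, fun v => by rw [← hg v, trQF_apply]⟩

end Cfsg.Agent.helper29.NS
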