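import Mathlib
import Cfsg.Agent.Lib_helper29_NS8

set_option autoImplicit false
set_option linter.unusedSectionVars false
set_option linter.unusedVariables false
namespace Cfsg.Agent.helper29.NS

/-- the Artin-Schreier map -/
def wp (F : Type*) [Field F] [CharP F 2] : F →+ F where
  toFun t := t ^ 2 + t
  map_zero' := by simp
  map_add' x y := by
    rw [CharTwo.add_sq]
    ring

theorem wp_apply {F : Type*} [Field F] [CharP F 2] (t : F) : wp F t = t ^ 2 + t := rfl

theorem wp_index {F : Type*} [Field F] [Fintype F] [CharP F 2] : (wp F).range.index = 2 := by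
  have h2 : (2 : F) = 0 := CharTwo.two_eq_zero
  have hker : Nat.card ↥(wp F).ker = 2 := by
    rw [Nat.card_eq_two_iff]
    refine ⟨⟨0, by simp⟩, ⟨1, by
      rw [AddMonoidHom.mem_ker, wp_apply]
      linear_combination h2⟩, ?_, ?_⟩
    · intro h
      exact zero_ne_one (congrArg Subtype.val h)
    · ext x
      simp only [Set.mem_insert_iff, Set.mem_singleton_iff, Set.mem_univ, iff_true]
      have hx := x.2
      rw [AddMonoidHom.mem_ker, wp_apply] at hx
      have h3 : (x : F) * ((x : F) - 1) = 0 := by linear_combination hx - (x : F) * h2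
      rcases mul_eq_zero.mp h3 with h | h
      · left
        exact Subtype.ext h
      · right
        exact Subtype.ext (sub_eq_zero.mp h)
  have h1 := AddSubgroup.card_mul_index (wp F).ker
  have h3 := AddSubgroup.card_mul_index (wp F).range
  rw [AddSubgroup.index_ker, hker] at h1
  have hpos : 0 < Nat.card ↥(wp F).range := Nat.card_pos
  have : Nat.card ↥(wp F).range * (wp F).range.index = Nat.card ↥(wp F).range * 2 := by
    rw [h3, ← h1]
    ring
  exact Nat.eq_of_mul_eq_mul_left hpos this

theorem exists_wp {F : Type*} [Field F] [Fintype F] [CharP F 2] (ζ c : F)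
    (hζ : ∀ t : F, t ^ 2 + t + ζ ≠ 0) (hc : ∀ t : F, t ^ 2 + t + c ≠ 0) :
    ∃ s : F, s ^ 2 + s = ζ + c := by
  have h2 : (2 : F) = 0 := CharTwo.two_eq_zero
  have hnot : ∀ z : F, (∀ t : F, t ^ 2 + t + z ≠ 0) → z ∉ (wp F).range := by
    intro z hz hmem
    obtain ⟨t, ht⟩ := hmem
    apply hz t
    rw [wp_apply] at ht
    rw [ht]
    linear_combination z * h2
  have h := (AddSubgroup.add_mem_iff_of_index_two (wp_index (F := F)) (a := ζ) (b := c)).mpr
    ⟨fun h => absurd h (hnot ζ hζ), fun h => absurd h (hnot c hc)⟩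
  obtain ⟨s, hs⟩ := h
  exact ⟨s, hs⟩

variable {F : Type*} [Field F] (k : ℕ)

/-- change of coordinates on the anisotropic plane -/
def Efun (s a : F) (u : (Fin k ⊕ Fin k) ⊕ Fin 2 → F) : (Fin k ⊕ Fin k) ⊕ Fin 2 → F :=
  Sum.elim (fun i => u (Sum.inl i))
    (fun j => if j = 0 then u (Sum.inr 0) + s * a * u (Sum.inr 1) else a * u (Sum.inr 1))

def Einv (s a : F) (v : (Fin k ⊕ Fin k) ⊕ Fin 2 → F) : (Fin k ⊕ Fin k) ⊕ Fin 2 → F :=
  Sum.elim (fun i => v (Sum.inl i))
    (fun j => if j = 0 then v (Sum.inr 0) + s * v (Sum.inr 1) else a⁻¹ * v (Sum.inr 1))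

/-- the change of coordinates as a linear equivalence -/
def Elin [CharP F 2] (s a : F) (ha : a ≠ 0) :
    ((Fin k ⊕ Fin k) ⊕ Fin 2 → F) ≃ₗ[F] ((Fin k ⊕ Fin k) ⊕ Fin 2 → F) where
  toFun := Efun k s a
  invFun := Einv k s a
  map_add' u v := by
    funext r
    rcases r with i | j
    · simp [Efun]
    · fin_cases j
      · simp [Efun]
        ring
      · simp [Efun]
        ring
  map_smul' c u := by
    funext r
    rcases r with i | j
    · simp [Efun]
    · fin_cases j
      · simp [Efun]
        ring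
      · simp [Efun]
        ring
  left_inv u := by
    have h2 : (2 : F) = 0 := CharTwo.two_eq_zero
    funext r
    rcases r with i | j
    · simp [Efun, Einv]
    · fin_cases j
      · simp [Efun, Einv]
        linear_combination (s * a * u (Sum.inr 1)) * h2
      · simp [Efun, Einv, ha]
  right_inv v := by
    have h2 : (2 : F) = 0 := CharTwo.two_eq_zero
    funext r
    rcases r with i | j
    · simp [Efun, Einv]
    · fin_cases j
      · have h1 : a * a⁻¹ = 1 := mul_inv_cancel₀ ha
        simp [Efun, Einv]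
        linear_combination (s * v (Sum.inr 1)) * h2 + (s * v (Sum.inr 1)) * h1
      · simp [Efun, Einv, ha]

theorem Elin_apply [CharP F 2] (s a : F) (ha : a ≠ 0) (u : (Fin k ⊕ Fin k) ⊕ Fin 2 → F) :
    Elin k s a ha u = Efun k s a u := rfl

theorem minus_Efun [CharP F 2] (s a b ζ : F) (hb : (s ^ 2 + s + ζ) * a ^ 2 = b)
    (u : (Fin k ⊕ Fin k) ⊕ Fin 2 → F) :
    Cfsg.quadFormMinus k F 1 ζ (Efun k s a u) = Cfsg.quadFormMinus k F a b u := by
  have h2 : (2 : F) = 0 := CharTwo.two_eq_zero
  unfold Cfsg.quadFormMinus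
  simp only [Efun, Sum.elim_inl, Sum.elim_inr, if_true, Fin.isValue, one_ne_zero, if_false]
  rw [← hb]
  linear_combination (u (Sum.inr 0) * s * a * u (Sum.inr 1)) * h2

end Cfsg.Agent.helper29.NS
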