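import Mathlib
import Cfsg.Agent.Lib_helper29_NS9

set_option autoImplicit false
set_option linter.unusedSectionVars false
set_option linter.unusedVariables false
namespace Cfsg.Agent.helper29.NS
open Matrix

section torus
variable {F : Type*} [Field F] {K : Type*} [Field K] [Algebra F K]
  {ι : Type} [Fintype ι] [DecidableEq ι] (h : K ≃ₗ[F] (ι → F))

/-- multiplication by `z` in coordinates -/
noncomputable def mulMat (z : K) : Matrix ι ι F :=
  LinearMap.toMatrix' ((h : K →ₗ[F] (ι → F)) ∘ₗ LinearMap.mulLeft F z ∘ₗ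
    (h.symm : (ι → F) →ₗ[F] K))

theorem mulMat_mulVec (z : K) (u : ι → F) : mulMat h z *ᵥ u = h (z * h.symm u) := by
  unfold mulMat
  rw [LinearMap.toMatrix'_mulVec]
  rfl

theorem mulMat_one : mulMat h (1 : K) = 1 := by
  apply Matrix.toLin'.injective
  apply LinearMap.ext
  intro u
  rw [Matrix.toLin'_apply, mulMat_mulVec, one_mul, LinearEquiv.apply_symm_apply,
    Matrix.toLin'_one, LinearMap.id_apply]

theorem mulMat_mul (z w : K) : mulMat h (z * w) = mulMat h z * mulMat h w := by
  apply Matrix.toLin'.injective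
  apply LinearMap.ext
  intro u
  rw [Matrix.toLin'_apply, Matrix.toLin'_mul, LinearMap.comp_apply, Matrix.toLin'_apply,
    Matrix.toLin'_apply, mulMat_mulVec, mulMat_mulVec, mulMat_mulVec, LinearEquiv.symm_apply_apply,
    mul_assoc]

/-- multiplication matrices as a homomorphism into the general linear group -/
noncomputable def mulGL : Kˣ →* GL ι F :=
  MonoidHom.toHomUnits
    { toFun := fun z => mulMat h (z : K)
      map_one' := by rw [Units.val_one, mulMat_one]
      map_mul' := fun z w => by rw [Units.val_mul, mulMat_mul] }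

theorem mulGL_coe (z : Kˣ) : ((mulGL h z : GL ι F) : Matrix ι ι F) = mulMat h (z : K) := rfl

/-- an element of norm one and of order `r` in coordinates -/
theorem exists_torus_elt [CharP F 2] (σ : K ≃ₐ[F] K) (θ : K) (Q : (ι → F) → F)
    (hQ : ∀ v, trQ σ θ v = Q (h v)) (lam : Kˣ) (hlam : lam ∈ normOne σ) (r : ℕ)
    (hr : lam ^ r = 1) (hlam1 : lam ≠ 1) :
    ∃ g : ↥(Cfsg.isometryGroup F Q), g ^ r = 1 ∧
      ∀ (u : ι → F) (μ : F), u ≠ 0 →
        ((g : GL ι F) : Matrix ι ι F) *ᵥ u ≠ μ • u := by
  have hmem : mulGL h lam ∈ Cfsg.isometryGroup F Q := by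
    intro u _
    show Q (((mulGL h lam : GL ι F) : Matrix ι ι F) *ᵥ u) = Q u
    rw [mulGL_coe, mulMat_mulVec, ← hQ, trQ_mul σ θ _ hlam, hQ, LinearEquiv.apply_symm_apply]
  refine ⟨⟨mulGL h lam, hmem⟩, ?_, ?_⟩
  · apply Subtype.ext
    rw [Subgroup.coe_pow, Subgroup.coe_one]
    show (mulGL h lam) ^ r = 1
    rw [← map_pow, hr, map_one]
  · intro u μ hu heq
    have heq' : mulMat h (lam : K) *ᵥ u = μ • u := heq
    rw [mulMat_mulVec] at heq'
    have h1 : (lam : K) * h.symm u = μ • h.symm u := by
      have := congrArg h.symm heq'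
      rw [LinearEquiv.symm_apply_apply, map_smul] at this
      exact this
    have hw : h.symm u ≠ 0 := by
      intro h0
      apply hu
      have := congrArg h h0
      rw [LinearEquiv.apply_symm_apply, map_zero] at this
      exact this
    rw [Algebra.smul_def] at h1
    have h3 : (lam : K) = algebraMap F K μ := mul_right_cancel₀ hw h1
    have h4 : (lam : K) * σ (lam : K) = 1 := hlam
    rw [h3, AlgEquiv.commutes] at h4
    have hK2 : (2 : K) = 0 := by
      have : CharP K 2 := (Algebra.charP_iff F K 2).mp inferInstance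
      exact CharTwo.two_eq_zero
    have h5 : (algebraMap F K μ - 1) * (algebraMap F K μ - 1) = 0 := by
      linear_combination h4 - (algebraMap F K μ) * hK2 + hK2
    have h6 : algebraMap F K μ = 1 := sub_eq_zero.mp (mul_self_eq_zero.mp h5)
    apply hlam1
    apply Units.ext
    rw [h3, h6, Units.val_one]

end torus

end Cfsg.Agent.helper29.NS
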