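import Mathlib
import Cfsg.Agent.Lib_helper29_NS10

set_option autoImplicit false
set_option linter.unusedSectionVars false
set_option linter.unusedVariables false
namespace Cfsg.Agent.helper29.NS
open Matrix Cfsg.Agent.helper29.OM

variable {F : Type*} [Field F] (k : ℕ)

theorem mem_commutator_congr {G H : Type*} [Group G] [Group H] (e : G ≃* H) (g : G) :
    g ∈ commutator G ↔ e g ∈ commutator H := by
  constructor
  · intro hg
    rw [← map_commutator_eq e]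
    exact ⟨g, hg, rfl⟩
  · intro hg
    rw [← map_commutator_eq e.symm]
    exact ⟨e g, hg, e.symm_apply_apply g⟩

/-- elements of odd order of the orthogonal group of minus type lie in `Ω` -/
theorem mem_omega_minus_of_odd_order [Fintype F] [CharP F 2] (a b : F)
    (hab : ∀ z₁ z₂ : F, z₁ ^ 2 + a * z₁ * z₂ + b * z₂ ^ 2 = 0 → z₁ = 0 ∧ z₂ = 0)
    (hne : Fintype.card F ≠ 2 ∨ k + 1 ≠ 2)
    (g : ↥(Cfsg.isometryGroup F (Cfsg.quadFormMinus k F a b))) (r : ℕ) (hr : Odd r)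
    (hg : g ^ r = 1) :
    g ∈ commutator ↥(Cfsg.isometryGroup F (Cfsg.quadFormMinus k F a b)) := by
  have h2 : (2 : F) = 0 := CharTwo.two_eq_zero
  have ha := aniso_a_ne_zero a b hab
  rw [mem_commutator_congr (isoMinus k a b ha)]
  have hg' : (isoMinus k a b ha g) ^ r = 1 := by rw [← map_pow, hg, map_one]
  generalize isoMinus k a b ha g = g' at hg'
  have hQ := isQF_Qm (F := F) k (b * a⁻¹ ^ 2)
  have hcard : Fintype.card (Fin (k + 1) ⊕ Fin (k + 1)) = 2 * (k + 1) := by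
    rw [Fintype.card_sum, Fintype.card_fin]
    ring
  have hne' : Fintype.card F ≠ 2 ∨ Fintype.card (Fin (k + 1) ⊕ Fin (k + 1)) ≠ 4 := by
    rcases hne with h | h
    · exact Or.inl h
    · right
      rw [hcard]
      omega
  have hn : 1 ≤ Fintype.card (Fin (k + 1) ⊕ Fin (k + 1)) := by omega
  obtain ⟨δ, hδ⟩ : ∃ δ : ↥(Cfsg.isometryGroup F (Qm (F := F) k (b * a⁻¹ ^ 2))) →* ℤˣ,
      ∀ g, g ∈ commutator ↥(Cfsg.isometryGroup F (Qm (F := F) k (b * a⁻¹ ^ 2))) ↔ δ g = 1 :=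
    ⟨Cfsg.Agent.helper13.dickson (bundQ hQ) h2 (bundQ_nondeg hQ),
      fun g => Cfsg.Agent.helper13.mem_commutator_iff_two (bundQ hQ) h2 (bundQ_nondeg hQ) hne' hn _
        (Cfsg.Agent.helper13.dickson_reflG (bundQ hQ) h2 (bundQ_nondeg hQ)) g⟩
  rw [hδ]
  have h1 : δ g' ^ r = 1 := by rw [← map_pow, hg', map_one]
  rcases Int.units_eq_one_or (δ g') with h | h
  · exact h
  · rw [h, hr.neg_one_pow] at h1
    exact absurd h1 (by decide)

/-- every involution of the orthogonal group of minus type fixes a nonsingular vector -/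
theorem invol_fix_nonsing_minus [Fintype F] [CharP F 2] (a b : F)
    (hab : ∀ z₁ z₂ : F, z₁ ^ 2 + a * z₁ * z₂ + b * z₂ ^ 2 = 0 → z₁ = 0 ∧ z₂ = 0)
    (t : ↥(Cfsg.isometryGroup F (Cfsg.quadFormMinus k F a b))) (ht : t * t = 1) :
    ∃ v : (Fin k ⊕ Fin k) ⊕ Fin 2 → F,
      ((t : GL ((Fin k ⊕ Fin k) ⊕ Fin 2) F) :
        Matrix ((Fin k ⊕ Fin k) ⊕ Fin 2) ((Fin k ⊕ Fin k) ⊕ Fin 2) F) *ᵥ v = v ∧
        Cfsg.quadFormMinus k F a b v ≠ 0 := by
  have h2 : (2 : F) = 0 := CharTwo.two_eq_zero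
  have ha := aniso_a_ne_zero a b hab
  have hQ := isQF_Qm (F := F) k (b * a⁻¹ ^ 2)
  have hcard : Fintype.card (Fin (k + 1) ⊕ Fin (k + 1)) = 2 * (k + 1) := by
    rw [Fintype.card_sum, Fintype.card_fin]
    ring
  have ht' : isoMinus k a b ha t * isoMinus k a b ha t = 1 := by rw [← map_mul, ht, map_one]
  have hP1 : LinearMap.toMatrix' (Mlin k a) * LinearMap.toMatrix' (Mlin' k a) = 1 := by
    rw [← LinearMap.toMatrix'_comp, Mlin_comp k a ha, LinearMap.toMatrix'_id]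
  rcases Cfsg.Agent.helper13.fix_nonsing_or_mts (bundQ hQ) h2 (bundQ_nondeg hQ) hcard
    (isoMinus k a b ha t) ht' with ⟨a', hta, hQa⟩ | ⟨hmts, -⟩
  · refine ⟨Mfun k a a', ?_, ?_⟩
    · have h3 : (LinearMap.toMatrix' (Mlin' k a) *
          ((t : GL ((Fin k ⊕ Fin k) ⊕ Fin 2) F) :
            Matrix ((Fin k ⊕ Fin k) ⊕ Fin 2) ((Fin k ⊕ Fin k) ⊕ Fin 2) F) *
          LinearMap.toMatrix' (Mlin k a)) *ᵥ a' = a' := hta
      have h4 := congrArg (fun w => LinearMap.toMatrix' (Mlin k a) *ᵥ w) h3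
      simp only [Matrix.mulVec_mulVec, ← Matrix.mul_assoc] at h4
      rw [hP1, Matrix.one_mul, ← Matrix.mulVec_mulVec, LinearMap.toMatrix'_mulVec, Mlin_apply]
        at h4
      exact h4
    · rw [minus_Mfun k a b ha]
      exact hQa
  · exfalso
    exact Qm_no_mts k a b hab _ hmts.ts hmts.rk

end Cfsg.Agent.helper29.NS
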