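import Mathlib
import Cfsg.Agent.Lib_helper29_NS11

set_option autoImplicit false
set_option linter.unusedSectionVars false
set_option linter.unusedVariables false
namespace Cfsg.Agent.helper29.NS
open Matrix Cfsg.Agent.helper29.OM

section generic
variable {F : Type*} [Field F] {ι : Type} [Fintype ι] (Q : (ι → F) → F)

theorem gen_ne_zero (hQs : ∀ (c : F) (v : ι → F), Q (c • v) = c ^ 2 * Q v) (v : ι → F)
    (h : Q v ≠ 0) : v ≠ 0 := by
  rintro rfl
  apply h
  have := hQs 0 0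
  rw [zero_smul] at this
  rw [this]
  ring

/-- the nonzero vectors of a nonsingular point -/
theorem card_point_vectors_gen [Fintype F] {q : ℕ} (hF : Fintype.card F = q)
    (hQs : ∀ (c : F) (v : ι → F), Q (c • v) = c ^ 2 * Q v)
    (W : Submodule F (ι → F)) (hW : Module.finrank F ↥W = 1) (hns : ∃ v ∈ W, Q v ≠ 0) :
    Nat.card {v : ι → F // v ∈ W ∧ v ≠ 0} = q - 1 := by
  classical
  obtain ⟨v0, hv0, hQ0⟩ := hns
  have hne := gen_ne_zero Q hQs v0 hQ0
  have e : Fˣ ≃ {v : ι → F // v ∈ W ∧ v ≠ 0} :=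
    Equiv.ofBijective (fun c => ⟨(c : F) • v0, W.smul_mem _ hv0, smul_ne_zero c.ne_zero hne⟩) (by
      constructor
      · intro c c' h
        have h1 : (c : F) • v0 = (c' : F) • v0 := congrArg Subtype.val h
        have h2 : ((c : F) - (c' : F)) • v0 = 0 := by rw [sub_smul, h1, sub_self]
        rcases smul_eq_zero.mp h2 with h3 | h3
        · exact Units.ext (sub_eq_zero.mp h3)
        · exact absurd h3 hne
      · rintro ⟨v, hv, hv0'⟩
        obtain ⟨c, hc⟩ := line_mem W hW v0 hv0 hne v hv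
        have hc0 : c ≠ 0 := by
          rintro rfl
          apply hv0'
          rw [← hc, zero_smul]
        exact ⟨Units.mk0 c hc0, Subtype.ext hc⟩)
  rw [← Nat.card_congr e, Nat.card_eq_fintype_card, Fintype.card_units, hF]

/-- vectors versus points -/
def vecPtEquivGen (hQs : ∀ (c : F) (v : ι → F), Q (c • v) = c ^ 2 * Q v) :
    {v : ι → F // Q v ≠ 0} ≃
      Σ W : {W : Submodule F (ι → F) // Module.finrank F ↥W = 1 ∧ ∃ v ∈ W, Q v ≠ 0},
        {v : ι → F // v ∈ W.1 ∧ v ≠ 0} where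
  toFun v := ⟨⟨Submodule.span F {v.1}, finrank_span_singleton (gen_ne_zero Q hQs v.1 v.2), v.1,
    Submodule.mem_span_singleton_self _, v.2⟩, ⟨v.1, Submodule.mem_span_singleton_self _,
    gen_ne_zero Q hQs v.1 v.2⟩⟩
  invFun p := ⟨p.2.1, by
    obtain ⟨v0, hv0, hQ0⟩ := p.1.2.2
    obtain ⟨c, hc⟩ := line_mem p.1.1 p.1.2.1 v0 hv0 (gen_ne_zero Q hQs v0 hQ0) p.2.1 p.2.2.1
    rw [← hc, hQs]
    apply mul_ne_zero _ hQ0
    apply pow_ne_zero
    rintro rfl
    apply p.2.2.2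
    rw [← hc, zero_smul]⟩
  left_inv v := rfl
  right_inv p := by
    obtain ⟨⟨W, hW, hns⟩, ⟨v, hv, hv0⟩⟩ := p
    have h1 : Submodule.span F {v} = W := (line_eq_span W hW v hv hv0).symm
    subst h1
    rfl

theorem card_npt_gen [Fintype F] {q : ℕ} (hF : Fintype.card F = q)
    (hQs : ∀ (c : F) (v : ι → F), Q (c • v) = c ^ 2 * Q v) :
    Nat.card {W : Submodule F (ι → F) // Module.finrank F ↥W = 1 ∧ ∃ v ∈ W, Q v ≠ 0} * (q - 1) =
      Nat.card {v : ι → F // Q v ≠ 0} := by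
  classical
  have : Fintype {W : Submodule F (ι → F) // Module.finrank F ↥W = 1 ∧ ∃ v ∈ W, Q v ≠ 0} :=
    Fintype.ofFinite _
  rw [Nat.card_congr (vecPtEquivGen Q hQs), Nat.card_sigma,
    Finset.sum_congr rfl (fun W _ => card_point_vectors_gen Q hF hQs W.1 W.2.1 W.2.2),
    Finset.sum_const, smul_eq_mul, Finset.card_univ, ← Nat.card_eq_fintype_card]

end generic

variable {F : Type*} [Field F] (k : ℕ)

theorem minus_smul (a b c : F) (v : (Fin k ⊕ Fin k) ⊕ Fin 2 → F) :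
    Cfsg.quadFormMinus k F a b (c • v) = c ^ 2 * Cfsg.quadFormMinus k F a b v := by
  unfold Cfsg.quadFormMinus
  simp only [Pi.smul_apply, smul_eq_mul]
  rw [mul_add, Finset.mul_sum]
  congr 1
  · apply Finset.sum_congr rfl
    intro i _
    ring
  · ring

/-- the number of singular vectors of the form of minus type -/
theorem card_minus_zero [Fintype F] [CharP F 2] {q : ℕ} (hF : Fintype.card F = q) (a b : F)
    (hab : ∀ z₁ z₂ : F, z₁ ^ 2 + a * z₁ * z₂ + b * z₂ ^ 2 = 0 → z₁ = 0 ∧ z₂ = 0) :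
    Nat.card {v : (Fin k ⊕ Fin k) ⊕ Fin 2 → F // Cfsg.quadFormMinus k F a b v = 0} =
      q ^ k + q ^ 2 * Cfsg.Agent.S2617.cseq q k := by
  classical
  have ha := aniso_a_ne_zero a b hab
  have hc : ∀ t : F, t ^ 2 + t + b * a⁻¹ ^ 2 ≠ 0 := by
    intro t ht
    have := hab t a⁻¹ (by
      have h1 : a * a⁻¹ = 1 := mul_inv_cancel₀ ha
      linear_combination ht + t * h1)
    exact inv_ne_zero ha this.2
  have hb : ((0 : F) ^ 2 + 0 + b * a⁻¹ ^ 2) * a ^ 2 = b := by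
    field_simp
    ring
  have h1 := Cfsg.Agent.S2617.zeros_minus (F := F) k (b * a⁻¹ ^ 2) hc
  rw [hF] at h1
  rw [← h1, ← Cfsg.Agent.helper13.zeros_congr (Elin k 0 a ha).toEquiv
    (Cfsg.quadFormMinus k F a b) (Cfsg.quadFormMinus k F 1 (b * a⁻¹ ^ 2))
    (fun w => minus_Efun k 0 a b _ hb w)]
  unfold Cfsg.Agent.helper13.zeros
  rw [Nat.card_eq_fintype_card, Fintype.card_subtype]

/-- the number of nonsingular points of the form of minus type -/
theorem card_npt_minus [Fintype F] [CharP F 2] {q : ℕ} (hF : Fintype.card F = q) (a b : F)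
    (hab : ∀ z₁ z₂ : F, z₁ ^ 2 + a * z₁ * z₂ + b * z₂ ^ 2 = 0 → z₁ = 0 ∧ z₂ = 0) :
    Nat.card {W : Submodule F ((Fin k ⊕ Fin k) ⊕ Fin 2 → F) //
      Module.finrank F ↥W = 1 ∧ ∃ v ∈ W, Cfsg.quadFormMinus k F a b v ≠ 0} =
      q ^ k * (q ^ (k + 1) + 1) := by
  classical
  have hq : 2 ≤ q := by
    rw [← hF]
    exact Fintype.one_lt_card
  have h1 := card_npt_gen (Cfsg.quadFormMinus k F a b) hF (fun c v => minus_smul k a b c v)
  have h2 : Nat.card {v : (Fin k ⊕ Fin k) ⊕ Fin 2 → F // Cfsg.quadFormMinus k F a b v = 0} +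
      Nat.card {v : (Fin k ⊕ Fin k) ⊕ Fin 2 → F // ¬ Cfsg.quadFormMinus k F a b v = 0} =
      Nat.card ((Fin k ⊕ Fin k) ⊕ Fin 2 → F) := by
    rw [← Nat.card_sum]
    exact Nat.card_congr (Equiv.sumCompl _)
  have h3 : Nat.card ((Fin k ⊕ Fin k) ⊕ Fin 2 → F) = q ^ (2 * k + 2) := by
    rw [Nat.card_eq_fintype_card, Fintype.card_fun, Fintype.card_sum, Fintype.card_sum,
      Fintype.card_fin, Fintype.card_fin, hF]
    congr 1
    ring
  have h4 : Nat.card {v : (Fin k ⊕ Fin k) ⊕ Fin 2 → F // Cfsg.quadFormMinus k F a b v ≠ 0} =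
      Nat.card {v : (Fin k ⊕ Fin k) ⊕ Fin 2 → F // ¬ Cfsg.quadFormMinus k F a b v = 0} := rfl
  rw [card_minus_zero k hF a b hab, h3] at h2
  have h5 := Cfsg.Agent.S2617.cseq_id q (by omega) k
  obtain ⟨C, hC⟩ : ∃ C, C = Cfsg.Agent.S2617.cseq q k := ⟨_, rfl⟩
  rw [← hC] at h2 h5
  rw [h4] at h1
  have e1 : q ^ (2 * k + 2) = q ^ 2 * q ^ (2 * k) := by
    rw [← pow_add]
    congr 1
    ring
  have e2 : q ^ (k + 1) = q * q ^ k := pow_succ' q k
  rw [e1, ← h5] at h2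
  rw [e2]
  have hq1 : 1 ≤ q := by omega
  apply Nat.eq_of_mul_eq_mul_right (by omega : 0 < q - 1)
  rw [h1]
  have h6 : q ^ k * (q * q ^ k + 1) * (q - 1) + (q ^ k + q ^ 2 * C) = q ^ 2 * (q * C + q ^ k) := by
    have h7 : q ^ (2 * k) = q ^ k * q ^ k := by
      rw [← pow_add]
      congr 1
      ring
    rw [h7] at h5
    zify [hq1]
    zify at h5
    linear_combination ((q : ℤ) - (q : ℤ) ^ 2) * h5
  omega

end Cfsg.Agent.helper29.NS
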