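import Mathlib
import Cfsg.Agent.Lib_helper29_NS12

set_option autoImplicit false
set_option linter.unusedSectionVars false
set_option linter.unusedVariables false
namespace Cfsg.Agent.helper29.NS
open Matrix Cfsg.Agent.helper29.OM

variable {F : Type*} [Field F] (k : ℕ)

/-- an element of odd prime order in `Ω^-` without eigenvectors -/
theorem exists_odd_order_no_fix_minus [Fintype F] [CharP F 2] {q : ℕ} (hF : Fintype.card F = q)
    (a b : F) (hab : ∀ z₁ z₂ : F, z₁ ^ 2 + a * z₁ * z₂ + b * z₂ ^ 2 = 0 → z₁ = 0 ∧ z₂ = 0)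
    (hne : Fintype.card F ≠ 2 ∨ k + 1 ≠ 2) (r : ℕ) [Fact r.Prime] (hr2 : r ≠ 2)
    (hr : r ∣ q ^ (k + 1) + 1) :
    ∃ g : ↥(Cfsg.isometryGroup F (Cfsg.quadFormMinus k F a b)),
      g ∈ commutator ↥(Cfsg.isometryGroup F (Cfsg.quadFormMinus k F a b)) ∧ g ^ r = 1 ∧
      ∀ (u : (Fin k ⊕ Fin k) ⊕ Fin 2 → F) (μ : F), u ≠ 0 →
        ((g : GL ((Fin k ⊕ Fin k) ⊕ Fin 2) F) :
          Matrix ((Fin k ⊕ Fin k) ⊕ Fin 2) ((Fin k ⊕ Fin k) ⊕ Fin 2) F) *ᵥ u ≠ μ • u := by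
  have h2 : (2 : F) = 0 := CharTwo.two_eq_zero
  have ha := aniso_a_ne_zero a b hab
  obtain ⟨K, _, _, _, σ, ω, hfr, hσ, ⟨y, hy⟩, hω, hωn⟩ := exists_torus_data hF (k + 1) (by omega)
  obtain ⟨θ, hθ⟩ := exists_theta σ y hy hσ
  obtain ⟨ζ, hζ, g, hg⟩ := trQF_minus hF (k + 1) (by omega) σ θ hθ hσ hfr ω hω hωn
  obtain ⟨g', hg'⟩ : ∃ g' : K ≃ₗ[F] ((Fin k ⊕ Fin k) ⊕ Fin 2 → F),
      ∀ v, trQ σ θ v = Cfsg.quadFormMinus k F 1 ζ (g' v) := ⟨g, hg⟩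
  have hc : ∀ t : F, t ^ 2 + t + b * a⁻¹ ^ 2 ≠ 0 := by
    intro t ht
    have := hab t a⁻¹ (by
      have h1 : a * a⁻¹ = 1 := mul_inv_cancel₀ ha
      linear_combination ht + t * h1)
    exact inv_ne_zero ha this.2
  obtain ⟨s, hs⟩ := exists_wp ζ (b * a⁻¹ ^ 2) hζ hc
  have hb : (s ^ 2 + s + ζ) * a ^ 2 = b := by
    have h1 : a * a⁻¹ = 1 := mul_inv_cancel₀ ha
    rw [hs]
    linear_combination (ζ * a ^ 2) * h2 + (b * (a * a⁻¹ + 1)) * h1
  have hQ : ∀ v, trQ σ θ v =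
      Cfsg.quadFormMinus k F a b ((g'.trans (Elin k s a ha).symm) v) := by
    intro v
    rw [hg' v, ← minus_Efun k s a b ζ hb, ← Elin_apply k s a ha, LinearEquiv.trans_apply,
      LinearEquiv.apply_symm_apply]
  have hrpos : 0 < r := (Fact.out : r.Prime).pos
  have hn0 : (q ^ (k + 1) + 1) / r ≠ 0 := by
    intro h0
    have := Nat.div_mul_cancel hr
    rw [h0, zero_mul] at this
    omega
  have hord : orderOf (ω ^ ((q ^ (k + 1) + 1) / r)) = r := by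
    rw [orderOf_pow_of_dvd hn0 (by rw [hω]; exact Nat.div_dvd_of_dvd hr), hω]
    exact Nat.div_div_self hr (by omega)
  have hlam1 : ω ^ ((q ^ (k + 1) + 1) / r) ≠ 1 := by
    intro h1
    have h11 : orderOf (1 : Kˣ) = 1 := orderOf_one
    rw [h1, h11] at hord
    exact (Fact.out : r.Prime).one_lt.ne hord
  have hlamr : (ω ^ ((q ^ (k + 1) + 1) / r)) ^ r = 1 := by
    have h := pow_orderOf_eq_one (ω ^ ((q ^ (k + 1) + 1) / r))
    rw [hord] at h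
    exact h
  have hlamN : ω ^ ((q ^ (k + 1) + 1) / r) ∈ normOne σ :=
    Subgroup.pow_mem _ ((mem_normOne σ ω).mpr hωn) _
  obtain ⟨g0, hg0r, hg0⟩ := exists_torus_elt (g'.trans (Elin k s a ha).symm) σ θ
    (Cfsg.quadFormMinus k F a b) hQ _ hlamN r hlamr hlam1
  have hrodd : Odd r := (Fact.out : r.Prime).odd_of_ne_two hr2
  exact ⟨g0, mem_omega_minus_of_odd_order k a b hab hne g0 r hrodd hg0r, hg0r, hg0⟩

end Cfsg.Agent.helper29.NS
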