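import Mathlib
import Cfsg.Agent.Lib_helper29_NS13

set_option autoImplicit false
set_option linter.unusedSectionVars false
set_option linter.unusedVariables false
namespace Cfsg.Agent.helper29.NS
open Matrix Cfsg.Agent.helper4 Cfsg.Agent.S0245 Cfsg.Agent.S2594 Cfsg.Agent.S0440 Cfsg.Agent.helper29
open Cfsg.Agent.helper29.SpInv Cfsg.Agent.helper29.OInv Cfsg.Agent.helper29.OM Cfsg.Agent.S0765
open Cfsg.Agent.S0766

section gen
variable {F : Type*} [Field F] {m : ℕ}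

local notation "Sp" => Matrix.symplecticGroup (Fin m) F
local notation "ff" => Cfsg.sympForm m F
local notation "VV" => (Fin m ⊕ Fin m → F)
local notation "MM" => Matrix (Fin m ⊕ Fin m) (Fin m ⊕ Fin m) F

/-- two forms with the standard polar form, invariant under a symplectic map without fixed
vectors, agree -/
theorem qf_unique [CharP F 2] {Q1 Q2 : VV → F} (h1 : IsQF Q1) (h2 : IsQF Q2) (a : Sp)
    (ha1 : ∀ v, Q1 ((a : MM) *ᵥ v) = Q1 v) (ha2 : ∀ v, Q2 ((a : MM) *ᵥ v) = Q2 v)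
    (hfix : ∀ v : VV, (a : MM) *ᵥ v = v → v = 0) (v : VV) : Q1 v = Q2 v := by
  have h2' : (2 : F) = 0 := CharTwo.two_eq_zero
  have hinj : Function.Injective (Matrix.toLin' ((a : MM) - 1)) := by
    rw [← LinearMap.ker_eq_bot, LinearMap.ker_eq_bot']
    intro u hu
    apply hfix
    rw [Matrix.toLin'_apply, Matrix.sub_mulVec, Matrix.one_mulVec, sub_eq_zero] at hu
    exact hu
  have hsurj := LinearMap.injective_iff_surjective.mp hinj
  obtain ⟨u, rfl⟩ := hsurj v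
  rw [Matrix.toLin'_apply, Matrix.sub_mulVec, Matrix.one_mulVec]
  have e : (a : MM) *ᵥ u - u = (a : MM) *ᵥ u + u := by
    funext i
    simp only [Pi.sub_apply, Pi.add_apply]
    linear_combination (-(u i)) * h2'
  rw [e, h1.add, h2.add, ha1, ha2]
  linear_combination (Q1 u - Q2 u) * h2'

/-- composing with a symplectic matrix -/
theorem isQF_comp {Q : VV → F} (hQ : IsQF Q) (g : Sp) : IsQF (fun u => Q ((g : MM) *ᵥ u)) := by
  constructor
  · intro u v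
    show Q ((g : MM) *ᵥ (u + v)) = _
    rw [Matrix.mulVec_add, hQ.add, sympForm_mulVec]
  · intro c u
    show Q ((g : MM) *ᵥ (c • u)) = _
    rw [Matrix.mulVec_smul, hQ.smul]

theorem sp_inv_mulVec (g : Sp) (v : VV) : ((g⁻¹ : Sp) : MM) *ᵥ ((g : MM) *ᵥ v) = v := by
  rw [← coe_mul_mulVec]
  simp

theorem sp_mulVec_inv (g : Sp) (v : VV) : (g : MM) *ᵥ (((g⁻¹ : Sp) : MM) *ᵥ v) = v := by
  rw [← coe_mul_mulVec]
  simp

/-- the form preserved by a conjugate -/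
theorem qf_transport [CharP F 2] {Q0 Q : VV → F} (h0 : IsQF Q0) (hQ : IsQF Q) (a g : Sp)
    (ha0 : ∀ v, Q0 ((a : MM) *ᵥ v) = Q0 v)
    (hfix : ∀ v : VV, (a : MM) *ᵥ v = v → v = 0)
    (hg : ∀ v, Q (((g⁻¹ * a * g : Sp) : MM) *ᵥ v) = Q v) (v : VV) :
    Q v = Q0 ((g : MM) *ᵥ v) := by
  have hQ' := isQF_comp hQ g⁻¹
  have key := qf_unique hQ' h0 a (fun u => by
    show Q (((g⁻¹ : Sp) : MM) *ᵥ ((a : MM) *ᵥ u)) = Q (((g⁻¹ : Sp) : MM) *ᵥ u)
    have := hg (((g⁻¹ : Sp) : MM) *ᵥ u)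
    rw [coe_mul_mulVec, coe_mul_mulVec, sp_mulVec_inv] at this
    exact this) ha0 hfix ((g : MM) *ᵥ v)
  rw [← key]
  show Q v = Q (((g⁻¹ : Sp) : MM) *ᵥ ((g : MM) *ᵥ v))
  rw [sp_inv_mulVec]

/-- an equivalence of forms with the standard polar form is symplectic -/
theorem sp_of_equiv {Q Q0 : VV → F} (hQ : IsQF Q) (h0 : IsQF Q0) (g : VV ≃ₗ[F] VV)
    (hg : ∀ v, Q v = Q0 (g v)) : ∃ A : Sp, ∀ v, Q v = Q0 ((A : MM) *ᵥ v) := by
  have hgf : ∀ u v, ff (g u) (g v) = ff u v := by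
    intro u v
    rw [← h0.polar, ← map_add, ← hQ.polar, hg, hg, hg]
  obtain ⟨A, hA⟩ := exists_sp_of_isometry g hgf
  exact ⟨A, fun v => by rw [hA]; exact hg v⟩

theorem sp_toLin_injective (g : Sp) : Function.Injective (Matrix.toLin' (g : MM)) := by
  intro u v huv
  rw [Matrix.toLin'_apply, Matrix.toLin'_apply] at huv
  rw [← sp_inv_mulVec g u, huv, sp_inv_mulVec]

end gen

section cls
variable {F : Type*} [Field F] (k : ℕ)

local notation "Sp" => Matrix.symplecticGroup (Fin (k + 1)) F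
local notation "ff" => Cfsg.sympForm (k + 1) F
local notation "VV" => (Fin (k + 1) ⊕ Fin (k + 1) → F)
local notation "MM" => Matrix (Fin (k + 1) ⊕ Fin (k + 1)) (Fin (k + 1) ⊕ Fin (k + 1)) F

/-- plus type, in symplectic coordinates -/
def IsPlusQ (Q : VV → F) : Prop :=
  ∃ h : Sp, ∀ v, Q v = Cfsg.quadFormPlus (k + 1) F ((h : MM) *ᵥ v)

/-- minus type, in symplectic coordinates -/
def IsMinusQ (Q : VV → F) : Prop :=
  ∃ c : F, (∀ t : F, t ^ 2 + t + c ≠ 0) ∧ ∃ h : Sp, ∀ v, Q v = Qm k c ((h : MM) *ᵥ v)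

theorem irr_aniso (c : F) (hc : ∀ t : F, t ^ 2 + t + c ≠ 0) :
    ∀ z₁ z₂ : F, z₁ ^ 2 + 1 * z₁ * z₂ + c * z₂ ^ 2 = 0 → z₁ = 0 ∧ z₂ = 0 := by
  intro z₁ z₂ h
  by_cases hz : z₂ = 0
  · subst hz
    have h' : z₁ ^ 2 = 0 := by
      have : z₁ ^ 2 + 1 * z₁ * 0 + c * 0 ^ 2 = z₁ ^ 2 := by ring
      rw [this] at h
      exact h
    exact ⟨pow_eq_zero_iff (by norm_num) |>.mp h', rfl⟩
  · exfalso
    apply hc (z₁ / z₂)
    field_simp
    linear_combination h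

theorem qf_classify [Fintype F] [CharP F 2] {Q : VV → F} (hQ : IsQF Q) :
    IsPlusQ k Q ∨ IsMinusQ k Q := by
  have hV : Module.finrank F VV = 2 * (k + 1) := by
    rw [Module.finrank_fintype_fun_eq_card, Fintype.card_sum, Fintype.card_fin]
    ring
  rcases Cfsg.Agent.helper13.classify_even (m := k + 1) (by omega) hV (bundQ hQ)
    (bundQ_nondeg hQ) with ⟨g, hg⟩ | ⟨ζ, hζ, g, hg⟩
  · left
    exact sp_of_equiv hQ isQF_plus g hg
  · right
    obtain ⟨g', hg'⟩ : ∃ g' : VV ≃ₗ[F] ((Fin k ⊕ Fin k) ⊕ Fin 2 → F),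
        ∀ v, Q v = Cfsg.quadFormMinus k F 1 ζ (g' v) := ⟨g, hg⟩
    have h1 : (1 : F) ≠ 0 := one_ne_zero
    have hc : ζ * (1 : F)⁻¹ ^ 2 = ζ := by simp
    refine ⟨ζ, hζ, ?_⟩
    let E : ((Fin k ⊕ Fin k) ⊕ Fin 2 → F) ≃ₗ[F] VV :=
      LinearEquiv.ofLinearMap (Mlin' k (1 : F)) (Mlin k (1 : F)) (Mlin'_comp k 1 h1)
        (Mlin_comp k 1 h1)
    refine sp_of_equiv hQ (isQF_Qm k ζ) (g'.trans E) ?_
    intro v
    rw [hg' v]
    show _ = Qm k ζ (Mfun' k 1 (g' v))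
    have := minus_Mfun k 1 ζ h1 (Mfun' k 1 (g' v))
    rw [Mfun_Mfun' k 1 h1, hc] at this
    exact this

theorem plusType_of_isPlusQ {Q : VV → F} (h : IsPlusQ k Q) : Cfsg.Geo.IsPlusTypeOn Q ⊤ := by
  obtain ⟨h, hh⟩ := h
  refine ⟨(LinearMap.range (Cfsg.Agent.helper13.inlMap F (k + 1))).map
    (Matrix.toLin' ((h⁻¹ : Sp) : MM)), le_top, ?_, ?_⟩
  · rintro w ⟨u, hu, rfl⟩
    rw [hh, Matrix.toLin'_apply, sp_mulVec_inv]
    have := (Cfsg.Agent.helper13.stdU_mts F (k + 1)).ts u hu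
    rw [Cfsg.Agent.helper13.QPlus_apply] at this
    exact this
  · rw [← (Submodule.equivMapOfInjective _ (sp_toLin_injective (h⁻¹ : Sp)) _).finrank_eq,
      (Cfsg.Agent.helper13.stdU_mts F (k + 1)).rk, finrank_top,
      Module.finrank_fintype_fun_eq_card, Fintype.card_sum, Fintype.card_fin]
    ring

theorem not_plusType_of_isMinusQ [Fintype F] [CharP F 2] {Q : VV → F} (h : IsMinusQ k Q) :
    ¬ Cfsg.Geo.IsPlusTypeOn Q ⊤ := by
  obtain ⟨c, hc, h, hh⟩ := h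
  rintro ⟨U, -, hU, hrk⟩
  rw [finrank_top, Module.finrank_fintype_fun_eq_card, Fintype.card_sum, Fintype.card_fin] at hrk
  have hc' : c * (1 : F)⁻¹ ^ 2 = c := by simp
  apply Qm_no_mts k 1 c (irr_aniso c hc) (U.map (Matrix.toLin' (h : MM)))
  · rintro w ⟨u, hu, rfl⟩
    rw [hc', Matrix.toLin'_apply, ← hh]
    exact hU u hu
  · rw [← (Submodule.equivMapOfInjective _ (sp_toLin_injective h) _).finrank_eq]
    omega

end cls

end Cfsg.Agent.helper29.NS
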