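import Mathlib
import Cfsg.Agent.Lib_helper29_NS14
import Cfsg.Agent.S5645
import Cfsg.Agent.S0287
import Cfsg.Agent.S0288

set_option autoImplicit false
set_option linter.unusedSectionVars false
set_option linter.unusedVariables false
namespace Cfsg.Agent.helper29.NS
open Matrix Cfsg.Agent.helper4 Cfsg.Agent.S0245 Cfsg.Agent.S2594 Cfsg.Agent.S0440 Cfsg.Agent.helper29
open Cfsg.Agent.helper29.SpInv Cfsg.Agent.helper29.OInv Cfsg.Agent.helper29.OM Cfsg.Agent.S0765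
open Cfsg.Agent.S0766

section gen
variable {F : Type*} [Field F] {m : ℕ}

local notation "Sp" => Matrix.symplecticGroup (Fin m) F
local notation "ff" => Cfsg.sympForm m F
local notation "VV" => (Fin m ⊕ Fin m → F)
local notation "MM" => Matrix (Fin m ⊕ Fin m) (Fin m ⊕ Fin m) F

/-- a symplectic similitude of the quadratic form is an isometry -/
theorem simil_sp_pres {Q : VV → F} (hQ : IsQF Q) (hm : 1 ≤ m) (a : Sp)
    (h : spToGL a ∈ Cfsg.Geo.quadSimilarityGroup Q) (v : VV) : Q ((a : MM) *ᵥ v) = Q v := by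
  obtain ⟨c, hc⟩ := h
  have hc' : ∀ v, Q ((a : MM) *ᵥ v) = (c : F) * Q v := hc
  have key : ∀ u v : VV, ff u v = (c : F) * ff u v := by
    intro u v
    have e1 : ff ((a : MM) *ᵥ u) ((a : MM) *ᵥ v) = (c : F) * ff u v := by
      rw [← hQ.polar, ← Matrix.mulVec_add, hc', hc', hc', ← hQ.polar]
      ring
    rw [← e1, sympForm_mulVec]
  have h1 := key (bv (Sum.inr ⟨0, by omega⟩)) (bv (Sum.inl ⟨0, by omega⟩))
  rw [form_bv_inr] at h1
  unfold bv at h1
  rw [Pi.single_eq_same, mul_one] at h1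
  rw [hc', ← h1, one_mul]

theorem mem_comap_simil {Q : VV → F} (hQ : IsQF Q) (hm : 1 ≤ m) (a : Sp) :
    a ∈ (Cfsg.Geo.quadSimilarityGroup Q).comap Cfsg.Agent.S5645.toGL ↔
      ∀ v, Q ((a : MM) *ᵥ v) = Q v := by
  constructor
  · intro h v
    have h' : spToGL a ∈ Cfsg.Geo.quadSimilarityGroup Q := by
      have e : spToGL a = Cfsg.Agent.S5645.toGL a := by
        apply Units.ext
        rfl
      rw [e]
      exact h
    exact simil_sp_pres hQ hm a h' v
  · intro h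
    refine ⟨1, fun v => ?_⟩
    rw [Units.val_one, one_mul]
    exact h v

theorem comap_simil_eq_range {Q : VV → F} (hQ : IsQF Q) (hm : 1 ≤ m) :
    (Cfsg.Geo.quadSimilarityGroup Q).comap Cfsg.Agent.S5645.toGL = (toSpQ hQ).range := by
  ext a
  rw [mem_comap_simil hQ hm]
  constructor
  · intro h
    exact ⟨ofSpQ Q a h, toSpQ_ofSpQ hQ a h⟩
  · rintro ⟨t, rfl⟩ v
    exact toSpQ_preserves hQ t v

/-- the index of the orthogonal group in the symplectic group -/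
theorem card_mul_relIndex_simil {Q : VV → F} (hQ : IsQF Q) (hm : 1 ≤ m) :
    Nat.card ↥(Cfsg.isometryGroup F Q) *
      (Cfsg.Geo.quadSimilarityGroup Q).relIndex (Cfsg.spGL m F) = Nat.card Sp := by
  have h1 : (Cfsg.Geo.quadSimilarityGroup Q).relIndex (Cfsg.spGL m F) =
      ((Cfsg.Geo.quadSimilarityGroup Q).comap Cfsg.Agent.S5645.toGL).index := by
    rw [← Cfsg.Agent.S5645.range_toGL, MonoidHom.range_eq_map, ← Subgroup.relIndex_comap,
      Subgroup.relIndex_top_right]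
  have h2 : Nat.card ↥(Cfsg.isometryGroup F Q) =
      Nat.card ↥((Cfsg.Geo.quadSimilarityGroup Q).comap Cfsg.Agent.S5645.toGL) := by
    rw [comap_simil_eq_range hQ hm]
    exact Nat.card_congr (MonoidHom.ofInjective (toSpQ_injective hQ)).toEquiv
  rw [h1, h2]
  exact Subgroup.card_mul_index _

theorem sp_mul_inv_coe (h : Sp) : (h : MM) * ((h⁻¹ : Sp) : MM) = 1 := by
  rw [← Submonoid.coe_mul, mul_inv_cancel, Submonoid.coe_one]

theorem sp_inv_mul_coe (h : Sp) : ((h⁻¹ : Sp) : MM) * (h : MM) = 1 := by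
  rw [← Submonoid.coe_mul, inv_mul_cancel, Submonoid.coe_one]

end gen

section arith

theorem prod_qpos (q : ℕ) (hq : 2 ≤ q) (n : ℕ) :
    0 < ∏ i ∈ Finset.range n, (q ^ (2 * (i + 1)) - 1) := by
  apply Finset.prod_pos
  intro i _
  exact Nat.sub_pos_of_lt (Nat.one_lt_pow (by omega) (by omega))

theorem index_arith_plus (q k I : ℕ) (hq : 2 ≤ q)
    (h : (2 * q ^ ((k + 1) * (k + 1 - 1)) * (q ^ (k + 1) - 1) *
        ∏ i ∈ Finset.range (k + 1 - 1), (q ^ (2 * (i + 1)) - 1)) * I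
        = q ^ ((k + 1) ^ 2) * ∏ i ∈ Finset.range (k + 1), (q ^ (2 * (i + 1)) - 1)) :
    2 * I = q ^ (k + 1) * (q ^ (k + 1) + 1) := by
  simp only [Nat.add_sub_cancel] at h
  rw [Finset.prod_range_succ] at h
  have hN := prod_qpos q hq k
  generalize (∏ i ∈ Finset.range k, (q ^ (2 * (i + 1)) - 1)) = N at h hN
  have hA : 0 < q ^ ((k + 1) * k) := pow_pos (by omega) _
  have e1 : q ^ ((k + 1) ^ 2) = q ^ ((k + 1) * k) * q ^ (k + 1) := by
    rw [← pow_add]
    congr 1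
    ring
  have e2 : q ^ (2 * (k + 1)) = (q ^ (k + 1)) ^ 2 := by
    rw [pow_mul']
  rw [e1, e2] at h
  have hX : 2 ≤ q ^ (k + 1) := by
    calc 2 ≤ q := hq
      _ = q ^ 1 := (pow_one q).symm
      _ ≤ q ^ (k + 1) := Nat.pow_le_pow_right (by omega) (by omega)
  generalize q ^ ((k + 1) * k) = A at h hA
  generalize q ^ (k + 1) = X at h hX
  obtain ⟨Y, rfl⟩ : ∃ Y, X = Y + 2 := ⟨X - 2, by omega⟩
  have e3 : (Y + 2) ^ 2 - 1 = (Y + 1) * (Y + 3) := by
    apply Nat.sub_eq_of_eq_add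
    ring
  have e4 : Y + 2 - 1 = Y + 1 := by omega
  rw [e3, e4] at h
  have hpos : 0 < A * (Y + 1) * N := by positivity
  apply Nat.eq_of_mul_eq_mul_left hpos
  calc A * (Y + 1) * N * (2 * I) = 2 * A * (Y + 1) * N * I := by ring
    _ = A * (Y + 2) * (N * ((Y + 1) * (Y + 3))) := h
    _ = A * (Y + 1) * N * ((Y + 2) * (Y + 2 + 1)) := by ring

theorem index_arith_minus (q k I : ℕ) (hq : 2 ≤ q)
    (h : (2 * q ^ ((k + 1) * (k + 1 - 1)) * (q ^ (k + 1) + 1) *
        ∏ i ∈ Finset.range (k + 1 - 1), (q ^ (2 * (i + 1)) - 1)) * I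
        = q ^ ((k + 1) ^ 2) * ∏ i ∈ Finset.range (k + 1), (q ^ (2 * (i + 1)) - 1)) :
    2 * I = q ^ (k + 1) * (q ^ (k + 1) - 1) := by
  simp only [Nat.add_sub_cancel] at h
  rw [Finset.prod_range_succ] at h
  have hN := prod_qpos q hq k
  generalize (∏ i ∈ Finset.range k, (q ^ (2 * (i + 1)) - 1)) = N at h hN
  have hA : 0 < q ^ ((k + 1) * k) := pow_pos (by omega) _
  have e1 : q ^ ((k + 1) ^ 2) = q ^ ((k + 1) * k) * q ^ (k + 1) := by
    rw [← pow_add]
    congr 1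
    ring
  have e2 : q ^ (2 * (k + 1)) = (q ^ (k + 1)) ^ 2 := by
    rw [pow_mul']
  rw [e1, e2] at h
  have hX : 2 ≤ q ^ (k + 1) := by
    calc 2 ≤ q := hq
      _ = q ^ 1 := (pow_one q).symm
      _ ≤ q ^ (k + 1) := Nat.pow_le_pow_right (by omega) (by omega)
  generalize q ^ ((k + 1) * k) = A at h hA
  generalize q ^ (k + 1) = X at h hX
  obtain ⟨Y, rfl⟩ : ∃ Y, X = Y + 2 := ⟨X - 2, by omega⟩
  have e3 : (Y + 2) ^ 2 - 1 = (Y + 1) * (Y + 3) := by
    apply Nat.sub_eq_of_eq_add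
    ring
  have e4 : Y + 2 - 1 = Y + 1 := by omega
  rw [e3] at h
  rw [e4]
  have hpos : 0 < A * (Y + 3) * N := by positivity
  apply Nat.eq_of_mul_eq_mul_left hpos
  calc A * (Y + 3) * N * (2 * I) = 2 * A * (Y + 2 + 1) * N * I := by ring
    _ = A * (Y + 2) * (N * ((Y + 1) * (Y + 3))) := h
    _ = A * (Y + 3) * N * ((Y + 2) * (Y + 1)) := by ring

/-- an odd prime dividing half of `q^n (q^n ± 1)` divides the second factor -/
theorem odd_prime_dvd_factor (q n I Z r : ℕ) (hr : r.Prime) (hr2 : r ≠ 2) (hq : ∃ e : ℕ, q = 2 ^ e)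
    (h : 2 * I = q ^ n * Z) (hrI : r ∣ I) : r ∣ Z := by
  have h1 : r ∣ q ^ n * Z := by
    rw [← h]
    exact Dvd.dvd.mul_left hrI 2
  rcases (Nat.Prime.dvd_mul hr).mp h1 with h2 | h2
  · exfalso
    have h3 := hr.dvd_of_dvd_pow h2
    obtain ⟨e, rfl⟩ := hq
    have h4 := hr.dvd_of_dvd_pow h3
    exact hr2 ((Nat.prime_dvd_prime_iff_eq hr Nat.prime_two).mp h4)
  · exact h2

end arith

end Cfsg.Agent.helper29.NS
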