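import Mathlib
import Cfsg.Agent.Lib_helper29_NS15

set_option autoImplicit false
set_option linter.unusedSectionVars false
set_option linter.unusedVariables false
namespace Cfsg.Agent.helper29.NS
open Matrix Cfsg.Agent.helper4 Cfsg.Agent.S0245 Cfsg.Agent.S2594 Cfsg.Agent.S0440 Cfsg.Agent.helper29
open Cfsg.Agent.helper29.SpInv Cfsg.Agent.helper29.OInv Cfsg.Agent.helper29.OM Cfsg.Agent.S0765
open Cfsg.Agent.S0766

section blkfix
variable {F : Type*} [Field F] {m : ℕ}

local notation "VV" => (Fin m ⊕ Fin m → F)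
local notation "MM" => Matrix (Fin m ⊕ Fin m) (Fin m ⊕ Fin m) F

variable {K : Type*} [Field K] [Algebra F K] (b : Module.Basis (Fin m) F K)

/-- the block matrix of a nontrivial element has no nonzero fixed vector -/
theorem blk_fix_zero (x : Kˣ) (hx : x ≠ 1) (v : VV) (h : blk b x *ᵥ v = v) : v = 0 := by
  rw [blk_mulVec] at h
  have h1 : Algebra.leftMulMatrix b (x : K) *ᵥ (v ∘ Sum.inl) = (1 : F) • (v ∘ Sum.inl) := by
    rw [one_smul]
    funext i
    exact congrFun h (Sum.inl i)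
  have h2 : (Algebra.leftMulMatrix b ((x⁻¹ : Kˣ) : K))ᵀ *ᵥ (v ∘ Sum.inr) =
      (1 : F) • (v ∘ Sum.inr) := by
    rw [one_smul]
    funext i
    exact congrFun h (Sum.inr i)
  have hu : v ∘ Sum.inl = 0 := by
    by_contra hu
    have e1 := eig1 b (x : K) 1 _ hu h1
    apply hx
    apply Units.ext
    rw [e1, map_one, Units.val_one]
  have hw : v ∘ Sum.inr = 0 := by
    by_contra hw
    obtain ⟨u', hu', h3⟩ := eig2 _ 1 _ hw h2
    have e2 := eig1 b ((x⁻¹ : Kˣ) : K) 1 _ hu' h3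
    apply hx
    have : x⁻¹ = 1 := by
      apply Units.ext
      rw [e2, map_one, Units.val_one]
    exact inv_eq_one.mp this
  funext i
  cases i with
  | inl j => exact congrFun hu j
  | inr j => exact congrFun hw j

end blkfix

section bad
variable {F : Type*} [Field F]

/-- an element of prime order `r ∣ q^m - 1` of the symplectic group preserving the hyperbolic
form and without fixed vectors -/
theorem exists_bad_plus [Fintype F] [CharP F 2] {q : ℕ} (hF : Fintype.card F = q) {m : ℕ}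
    (hm : 1 ≤ m) (r : ℕ) [Fact r.Prime] (hr : r ∣ q ^ m - 1) :
    ∃ a : Matrix.symplecticGroup (Fin m) F, a ^ r = 1 ∧
      (∀ v : Fin m ⊕ Fin m → F,
        (a : Matrix (Fin m ⊕ Fin m) (Fin m ⊕ Fin m) F) *ᵥ v = v → v = 0) ∧
      ∀ v : Fin m ⊕ Fin m → F, Cfsg.quadFormPlus m F
        ((a : Matrix (Fin m ⊕ Fin m) (Fin m ⊕ Fin m) F) *ᵥ v) = Cfsg.quadFormPlus m F v := by
  haveI : NeZero m := ⟨by omega⟩
  haveI : Fact (Nat.Prime 2) := ⟨Nat.prime_two⟩
  have hfr : Module.finrank F (FiniteField.Extension F 2 m) = m :=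
    FiniteField.finrank_extension F 2 m
  obtain ⟨b⟩ : Nonempty (Module.Basis (Fin m) F (FiniteField.Extension F 2 m)) :=
    ⟨Module.finBasisOfFinrankEq F (FiniteField.Extension F 2 m) hfr⟩
  have hcK : Nat.card (FiniteField.Extension F 2 m)ˣ = q ^ m - 1 := by
    rw [Nat.card_units, FiniteField.natCard_extension, Nat.card_eq_fintype_card, hF]
  rw [← hcK] at hr
  obtain ⟨lam, hlam⟩ := exists_prime_orderOf_dvd_card' r hr
  have hpow : blkO b lam ^ r = 1 := by
    rw [← map_pow, ← hlam, pow_orderOf_eq_one, map_one]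
  have hlam1 : lam ≠ 1 := by
    rintro rfl
    rw [orderOf_one] at hlam
    exact (Fact.out : r.Prime).one_lt.ne hlam
  refine ⟨toSpQ isQF_plus (blkO b lam), ?_, ?_, ?_⟩
  · rw [← map_pow, hpow, map_one]
  · intro v hv
    exact blk_fix_zero b lam hlam1 v hv
  · intro v
    exact toSpQ_preserves isQF_plus (blkO b lam) v

/-- an element of odd prime order `r ∣ q^(k+1) + 1` of the symplectic group preserving the
elliptic form and without fixed vectors -/
theorem exists_bad_minus [Fintype F] [CharP F 2] {q : ℕ} (hF : Fintype.card F = q) (k : ℕ)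
    (c : F) (hc : ∀ t : F, t ^ 2 + t + c ≠ 0)
    (hne : Fintype.card F ≠ 2 ∨ k + 1 ≠ 2) (r : ℕ) [Fact r.Prime] (hr2 : r ≠ 2)
    (hr : r ∣ q ^ (k + 1) + 1) :
    ∃ a : Matrix.symplecticGroup (Fin (k + 1)) F, a ^ r = 1 ∧
      (∀ v : Fin (k + 1) ⊕ Fin (k + 1) → F,
        (a : Matrix (Fin (k + 1) ⊕ Fin (k + 1)) (Fin (k + 1) ⊕ Fin (k + 1)) F) *ᵥ v = v →
          v = 0) ∧
      ∀ v : Fin (k + 1) ⊕ Fin (k + 1) → F, Qm k c
        ((a : Matrix (Fin (k + 1) ⊕ Fin (k + 1)) (Fin (k + 1) ⊕ Fin (k + 1)) F) *ᵥ v) =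
          Qm k c v := by
  have h1 : (1 : F) ≠ 0 := one_ne_zero
  have hc' : c * (1 : F)⁻¹ ^ 2 = c := by simp
  have main : ∃ a : Matrix.symplecticGroup (Fin (k + 1)) F, a ^ r = 1 ∧
      (∀ v : Fin (k + 1) ⊕ Fin (k + 1) → F,
        (a : Matrix (Fin (k + 1) ⊕ Fin (k + 1)) (Fin (k + 1) ⊕ Fin (k + 1)) F) *ᵥ v = v →
          v = 0) ∧
      ∀ v : Fin (k + 1) ⊕ Fin (k + 1) → F, Qm k (c * (1 : F)⁻¹ ^ 2)
        ((a : Matrix (Fin (k + 1) ⊕ Fin (k + 1)) (Fin (k + 1) ⊕ Fin (k + 1)) F) *ᵥ v) =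
          Qm k (c * (1 : F)⁻¹ ^ 2) v := by
    obtain ⟨g, -, hgr, hgne⟩ :=
      exists_odd_order_no_fix_minus k hF 1 c (irr_aniso c hc) hne r hr2 hr
    refine ⟨toSpQ (isQF_Qm k _) (isoMinus k 1 c h1 g), ?_, ?_, ?_⟩
    · rw [← map_pow, ← map_pow, hgr, map_one, map_one]
    · intro v hv
      have e : ((toSpQ (isQF_Qm k _) (isoMinus k 1 c h1 g) :
          Matrix.symplecticGroup (Fin (k + 1)) F) :
          Matrix (Fin (k + 1) ⊕ Fin (k + 1)) (Fin (k + 1) ⊕ Fin (k + 1)) F) =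
          LinearMap.toMatrix' (Mlin' k (1 : F)) *
            ((g : GL ((Fin k ⊕ Fin k) ⊕ Fin 2) F) :
              Matrix ((Fin k ⊕ Fin k) ⊕ Fin 2) ((Fin k ⊕ Fin k) ⊕ Fin 2) F) *
            LinearMap.toMatrix' (Mlin k (1 : F)) := rfl
      rw [e, ← Matrix.mulVec_mulVec, ← Matrix.mulVec_mulVec, LinearMap.toMatrix'_mulVec,
        LinearMap.toMatrix'_mulVec] at hv
      have hv2 := congrArg (Mlin k (1 : F)) hv
      have hcomp : ∀ w, Mlin k (1 : F) (Mlin' k (1 : F) w) = w := fun w =>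
        LinearMap.congr_fun (Mlin_comp k (1 : F) h1) w
      rw [hcomp] at hv2
      by_contra hv0
      have hPv : Mlin k (1 : F) v ≠ 0 := by
        intro h0
        apply hv0
        have := LinearMap.congr_fun (Mlin'_comp k (1 : F) h1) v
        rw [LinearMap.comp_apply, h0, map_zero] at this
        exact this.symm
      apply hgne (Mlin k (1 : F) v) 1 hPv
      rw [one_smul]
      exact hv2
    · intro v
      exact toSpQ_preserves (isQF_Qm k _) (isoMinus k 1 c h1 g) v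
  rw [hc'] at main
  exact main

end bad

end Cfsg.Agent.helper29.NS
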