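import Mathlib
import Cfsg.Agent.Lib_helper29_NS16

set_option autoImplicit false
set_option linter.unusedSectionVars false
set_option linter.unusedVariables false
namespace Cfsg.Agent.helper29.NS
open Matrix Cfsg.Agent.helper4 Cfsg.Agent.S0245 Cfsg.Agent.S2594 Cfsg.Agent.S0440 Cfsg.Agent.helper29
open Cfsg.Agent.helper29.SpInv Cfsg.Agent.helper29.OInv Cfsg.Agent.helper29.OM Cfsg.Agent.S0765
open Cfsg.Agent.S0766

section gen
variable {F : Type*} [Field F] {m : ℕ}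

local notation "Sp" => Matrix.symplecticGroup (Fin m) F
local notation "ff" => Cfsg.sympForm m F
local notation "VV" => (Fin m ⊕ Fin m → F)
local notation "MM" => Matrix (Fin m ⊕ Fin m) (Fin m ⊕ Fin m) F

/-- a scalar symplectic matrix in characteristic two is the identity -/
theorem sp_scalar_one [CharP F 2] (hm : 1 ≤ m) (a : Sp) (z : F)
    (h : (a : MM) = z • (1 : MM)) : a = 1 := by
  have h2 : (2 : F) = 0 := CharTwo.two_eq_zero
  have h1 := sympForm_mulVec a (bv (Sum.inr ⟨0, by omega⟩)) (bv (Sum.inl ⟨0, by omega⟩))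
  rw [h, Matrix.smul_mulVec, Matrix.smul_mulVec, Matrix.one_mulVec, Matrix.one_mulVec,
    sympForm_smul_left, sympForm_smul_right, form_bv_inr] at h1
  unfold bv at h1
  rw [Pi.single_eq_same, mul_one] at h1
  have h3 : (z - 1) * (z - 1) = 0 := by linear_combination h1 - z * h2 + h2
  have h4 : z = 1 := sub_eq_zero.mp (mul_self_eq_zero.mp h3)
  apply Subtype.ext
  rw [h, h4, one_smul, Submonoid.coe_one]

/-- conjugating into the isometry group of an equivalent form -/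
theorem conj_pres {Q Q0 : VV → F} (h : Sp) (hh : ∀ v, Q v = Q0 ((h : MM) *ᵥ v)) (T : Sp)
    (hT : ∀ v, Q0 ((T : MM) *ᵥ v) = Q0 v) (a c : Sp) (hc : c * a * c⁻¹ = T) (v : VV) :
    Q ((((c⁻¹ * h)⁻¹ * a * (c⁻¹ * h) : Sp) : MM) *ᵥ v) = Q v := by
  have e : (c⁻¹ * h)⁻¹ * a * (c⁻¹ * h) = h⁻¹ * T * h := by
    rw [← hc]
    group
  rw [e, coe_mul_mulVec, coe_mul_mulVec, hh, sp_mulVec_inv, hT, ← hh]

/-- a conjugate of an involution of alternating type and full rank preserves only forms of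
plus type -/
theorem plusType_of_special [CharP F 2] {Q : VV → F} (hQ : IsQF Q) (a g : Sp)
    (halt : IsAltInv a) (hrk : (NNs a).rank = m)
    (hg : ∀ v, Q (((g⁻¹ * a * g : Sp) : MM) *ᵥ v) = Q v) : Cfsg.Geo.IsPlusTypeOn Q ⊤ := by
  have e : g⁻¹ * a * g = g⁻¹ * a * g⁻¹⁻¹ := by rw [inv_inv]
  have halt' : IsAltInv (g⁻¹ * a * g) := by
    rw [e]
    exact (alt_conj g⁻¹ a).mpr halt
  have hrk' : (NNs (g⁻¹ * a * g)).rank = m := by
    rw [e, rank_conj]
    exact hrk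
  have hto : toSpQ hQ (ofSpQ Q (g⁻¹ * a * g) hg) = g⁻¹ * a * g := toSpQ_ofSpQ hQ _ hg
  refine ⟨LinearMap.range (NNs (g⁻¹ * a * g)).mulVecLin, le_top, ?_, ?_⟩
  · intro w hw
    apply alt_range_ts hQ (ofSpQ Q (g⁻¹ * a * g) hg)
    · rw [hto]
      exact halt'
    · rw [hto]
      exact hw
  · have : Module.finrank F ↥(LinearMap.range (NNs (g⁻¹ * a * g)).mulVecLin) = m := hrk'
    rw [this, finrank_top, Module.finrank_fintype_fun_eq_card, Fintype.card_sum, Fintype.card_fin]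
    ring

/-- an involution of alternating type and full rank, for even `m` -/
theorem exists_special_sp [CharP F 2] (hm : Even m) :
    ∃ a : Sp, a * a = 1 ∧ IsAltInv a ∧ (NNs a).rank = m := by
  obtain ⟨k, hk⟩ := hm
  obtain ⟨t, ht2, halt, hrk⟩ := exists_II_O (F := F) (m := m) k (by omega)
  refine ⟨toSp t, ?_, halt, ?_⟩
  · rw [← map_mul, ht2, map_one]
  · rw [hrk, hk]

/-- involutions are conjugate into the isometry group of a form of plus type -/
theorem conj_into_plus_aux [Fintype F] [CharP F 2] {Q : VV → F} (h : Sp)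
    (hh : ∀ v, Q v = Cfsg.quadFormPlus m F ((h : MM) *ᵥ v)) (a : Sp) (ha2 : a * a = 1)
    (ha1 : a ≠ 1) : ∃ g : Sp, ∀ v, Q (((g⁻¹ * a * g : Sp) : MM) *ᵥ v) = Q v := by
  have hpres : ∀ t : ↥(Cfsg.isometryGroup F (Cfsg.quadFormPlus m F)),
      ∀ v, Cfsg.quadFormPlus m F (((toSp t : Sp) : MM) *ᵥ v) = Cfsg.quadFormPlus m F v :=
    fun t v => t.2 v v
  have hsq : ∀ t : ↥(Cfsg.isometryGroup F (Cfsg.quadFormPlus m F)), t * t = 1 →
      toSp t * toSp t = 1 := fun t ht => by rw [← map_mul, ht, map_one]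
  by_cases halt : IsAltInv a
  · obtain ⟨k', hk'⟩ := rank_II a ha2 halt
    have hle := rank_le a ha2
    obtain ⟨t, ht2, halt', hrk⟩ := exists_II_O (F := F) (m := m) k' (by omega)
    have hconj := conj_II a (toSp t) ha2 (hsq t ht2) halt halt' (by rw [hrk, hk'])
    obtain ⟨c, hc⟩ := isConj_iff.mp hconj
    exact ⟨c⁻¹ * h, conj_pres h hh (toSp t) (hpres t) a c hc⟩
  · have hle := rank_le a ha2
    have hpos := rank_pos a ha1
    obtain ⟨t, ht2, halt', hrk⟩ := exists_I_O (F := F) (m := m) (NNs a).rank hpos hle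
    have hconj := conj_I a (toSp t) ha2 (hsq t ht2) halt halt' hrk.symm
    obtain ⟨c, hc⟩ := isConj_iff.mp hconj
    exact ⟨c⁻¹ * h, conj_pres h hh (toSp t) (hpres t) a c hc⟩

end gen

section cls
variable {F : Type*} [Field F] (k : ℕ)

local notation "Sp" => Matrix.symplecticGroup (Fin (k + 1)) F
local notation "ff" => Cfsg.sympForm (k + 1) F
local notation "VV" => (Fin (k + 1) ⊕ Fin (k + 1) → F)
local notation "MM" => Matrix (Fin (k + 1) ⊕ Fin (k + 1)) (Fin (k + 1) ⊕ Fin (k + 1)) F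

theorem conj_into_plus [Fintype F] [CharP F 2] {Q : VV → F} (hp : IsPlusQ k Q) (a : Sp)
    (ha2 : a * a = 1) (ha1 : a ≠ 1) :
    ∃ g : Sp, ∀ v, Q (((g⁻¹ * a * g : Sp) : MM) *ᵥ v) = Q v := by
  obtain ⟨h, hh⟩ := hp
  exact conj_into_plus_aux h hh a ha2 ha1

/-- involutions are conjugate into the isometry group of a form of minus type in odd rank -/
theorem conj_into_minus [Fintype F] [CharP F 2] {Q : VV → F} (hp : IsMinusQ k Q)
    (hodd : Odd (k + 1)) (a : Sp) (ha2 : a * a = 1) (ha1 : a ≠ 1) :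
    ∃ g : Sp, ∀ v, Q (((g⁻¹ * a * g : Sp) : MM) *ᵥ v) = Q v := by
  obtain ⟨c, hc, h, hh⟩ := hp
  have hpres : ∀ t : ↥(Cfsg.isometryGroup F (Qm (F := F) k c)),
      ∀ v, Qm k c (((toSpQ (isQF_Qm k c) t : Sp) : MM) *ᵥ v) = Qm k c v :=
    fun t v => toSpQ_preserves (isQF_Qm k c) t v
  have hsq : ∀ t : ↥(Cfsg.isometryGroup F (Qm (F := F) k c)), t * t = 1 →
      toSpQ (isQF_Qm k c) t * toSpQ (isQF_Qm k c) t = 1 := fun t ht => by
    rw [← map_mul, ht, map_one]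
  by_cases halt : IsAltInv a
  · obtain ⟨k', hk'⟩ := rank_II a ha2 halt
    have hle := rank_le a ha2
    have hk'k : k' + k' ≤ k := by
      obtain ⟨j, hj⟩ := hodd
      omega
    obtain ⟨t, ht2, halt', hrk⟩ := exists_II_Qm (F := F) k c k' hk'k
    have hconj := conj_II a (toSpQ (isQF_Qm k c) t) ha2 (hsq t ht2) halt halt' (by rw [hrk, hk'])
    obtain ⟨c', hc'⟩ := isConj_iff.mp hconj
    exact ⟨c'⁻¹ * h, conj_pres h hh (toSpQ (isQF_Qm k c) t) (hpres t) a c' hc'⟩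
  · have hle := rank_le a ha2
    have hpos := rank_pos a ha1
    obtain ⟨t, ht2, halt', hrk⟩ := exists_I_Qm (F := F) k c (NNs a).rank hpos hle
    have hconj := conj_I a (toSpQ (isQF_Qm k c) t) ha2 (hsq t ht2) halt halt' hrk.symm
    obtain ⟨c', hc'⟩ := isConj_iff.mp hconj
    exact ⟨c'⁻¹ * h, conj_pres h hh (toSpQ (isQF_Qm k c) t) (hpres t) a c' hc'⟩

/-- the index of the stabiliser of a form of plus type -/
theorem dvd_of_isPlusQ [Fintype F] [CharP F 2] {q : ℕ} (hF : Fintype.card F = q) {Q : VV → F}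
    (hQ : IsQF Q) (hp : IsPlusQ k Q) (r : ℕ) (hr : r.Prime) (hr2 : r ≠ 2)
    (hrI : r ∣ (Cfsg.Geo.quadSimilarityGroup Q).relIndex (Cfsg.spGL (k + 1) F)) :
    r ∣ q ^ (k + 1) + 1 := by
  obtain ⟨h, hh⟩ := hp
  have hcard : Nat.card ↥(Cfsg.isometryGroup F Q) =
      Nat.card ↥(Cfsg.isometryGroup F (Cfsg.quadFormPlus (k + 1) F)) :=
    (Nat.card_congr (isoO (h : MM) ((h⁻¹ : Sp) : MM) (sp_mul_inv_coe h) (sp_inv_mul_coe h)
      (Cfsg.quadFormPlus (k + 1) F) Q hh).toEquiv).symm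
  have key := card_mul_relIndex_simil hQ (by omega : 1 ≤ k + 1)
  rw [hcard, Cfsg.Agent.S0287.result hF (k + 1) (by omega),
    Cfsg.Agent.S0245.result hF (k + 1)] at key
  have hq2 : 2 ≤ q := by
    rw [← hF]
    exact Fintype.one_lt_card
  have h2I := index_arith_plus q k _ hq2 key
  obtain ⟨n, -, hn⟩ := FiniteField.card F 2
  exact odd_prime_dvd_factor q (k + 1) _ _ r hr hr2 ⟨n, by rw [← hF, hn]⟩ h2I hrI

/-- the index of the stabiliser of a form of minus type -/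
theorem dvd_of_isMinusQ [Fintype F] [CharP F 2] {q : ℕ} (hF : Fintype.card F = q) {Q : VV → F}
    (hQ : IsQF Q) (hp : IsMinusQ k Q) (r : ℕ) (hr : r.Prime) (hr2 : r ≠ 2)
    (hrI : r ∣ (Cfsg.Geo.quadSimilarityGroup Q).relIndex (Cfsg.spGL (k + 1) F)) :
    r ∣ q ^ (k + 1) - 1 := by
  obtain ⟨c, hc, h, hh⟩ := hp
  have h1 : (1 : F) ≠ 0 := one_ne_zero
  have hc' : c * (1 : F)⁻¹ ^ 2 = c := by simp
  have hcard1 : Nat.card ↥(Cfsg.isometryGroup F Q) =
      Nat.card ↥(Cfsg.isometryGroup F (Qm (F := F) k c)) :=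
    (Nat.card_congr (isoO (h : MM) ((h⁻¹ : Sp) : MM) (sp_mul_inv_coe h) (sp_inv_mul_coe h)
      (Qm (F := F) k c) Q hh).toEquiv).symm
  have hcard2 : Nat.card ↥(Cfsg.isometryGroup F (Cfsg.quadFormMinus k F 1 c)) =
      Nat.card ↥(Cfsg.isometryGroup F (OM.Qm (F := F) k (c * (1 : F)⁻¹ ^ 2))) :=
    Nat.card_congr (isoMinus k 1 c h1).toEquiv
  rw [hc'] at hcard2
  have hcard3 := Cfsg.Agent.S0288.result hF (k + 1) (by omega) 1 c (irr_aniso c hc)
  have key := card_mul_relIndex_simil hQ (by omega : 1 ≤ k + 1)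
  rw [hcard1, ← hcard2, Cfsg.Agent.S0245.result hF (k + 1)] at key
  have hq2 : 2 ≤ q := by
    rw [← hF]
    exact Fintype.one_lt_card
  have hcard4 : Nat.card ↥(Cfsg.isometryGroup F (Cfsg.quadFormMinus k F 1 c)) =
      2 * q ^ ((k + 1) * (k + 1 - 1)) * (q ^ (k + 1) + 1) *
        ∏ i ∈ Finset.range (k + 1 - 1), (q ^ (2 * (i + 1)) - 1) := hcard3
  rw [hcard4] at key
  have h2I := index_arith_minus q k _ hq2 key
  obtain ⟨n, -, hn⟩ := FiniteField.card F 2
  exact odd_prime_dvd_factor q (k + 1) _ _ r hr hr2 ⟨n, by rw [← hF, hn]⟩ h2I hrI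

end cls

end Cfsg.Agent.helper29.NS
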