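import Mathlib
import Cfsg.Agent.Lib_helper29_EL2

set_option autoImplicit false
set_option linter.unusedSectionVars false
set_option linter.unusedVariables false
universe u v
namespace Cfsg.Agent.helper29.PG
open Polynomial Cfsg.Agent.helper25.SSimple Cfsg.Agent.helper29.EL

variable {F : Type v} [Field F] {V : Type u} [AddCommGroup V] [Module F V]

/-- polynomial evaluation of the model map -/
theorem aeval_mulX {ι : Type*} (P : ι → MIrr F) (g : F[X]) (c : Ms P) (i : ι) :
    (aeval (mulX P) g) c i = AdjoinRoot.mk (P i).poly g * c i := by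
  induction g using Polynomial.induction_on' with
  | add a b ha hb =>
    rw [map_add, LinearMap.add_apply, Pi.add_apply, ha, hb, map_add, add_mul]
  | monomial k a =>
    rw [← C_mul_X_pow_eq_monomial, map_mul, map_pow, aeval_C, aeval_X, map_mul, map_pow,
      AdjoinRoot.mk_C, AdjoinRoot.mk_X, Module.End.mul_apply, Module.algebraMap_end_apply,
      Pi.smul_apply, mulX_pow, Algebra.smul_def, AdjoinRoot.algebraMap_eq, mul_assoc]

/-- a map commuting with the model map commutes with its polynomials -/
theorem comm_aeval {ι : Type*} (P : ι → MIrr F) (N : Module.End F (Ms P))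
    (hcomm : ∀ c, N (mulX P c) = mulX P (N c)) (g : F[X]) (c : Ms P) :
    N ((aeval (mulX P) g) c) = (aeval (mulX P) g) (N c) := by
  have hpow : ∀ k : ℕ, ∀ c, N (((mulX P) ^ k) c) = ((mulX P) ^ k) (N c) := by
    intro k
    induction k with
    | zero => intro c; rfl
    | succ k ih =>
      intro c
      rw [pow_succ, Module.End.mul_apply, Module.End.mul_apply, ih, hcomm]
  induction g using Polynomial.induction_on' with
  | add a b ha hb =>
    rw [map_add, LinearMap.add_apply, LinearMap.add_apply, map_add, ha, hb]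
  | monomial k a =>
    rw [← C_mul_X_pow_eq_monomial, map_mul, map_pow, aeval_C, aeval_X, Module.End.mul_apply,
      Module.End.mul_apply, Module.algebraMap_end_apply, Module.algebraMap_end_apply, map_smul,
      hpow]

/-- with pairwise distinct blocks, a nilpotent map commuting with the model map vanishes -/
theorem model_comm_nilp {ι : Type*} [Fintype ι] [DecidableEq ι] (P : ι → MIrr F)
    (hinj : ∀ i j, (P i).poly = (P j).poly → i = j) (N : Module.End F (Ms P))
    (hcomm : ∀ c, N (mulX P c) = mulX P (N c)) (m : ℕ) (hnil : N ^ m = 0) : N = 0 := by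
  have hsingle : ∀ i (g : F[X]) (t : AdjoinRoot (P i).poly),
      (aeval (mulX P) g) (Pi.single i t) = Pi.single i (AdjoinRoot.mk (P i).poly g * t) := by
    intro i g t
    funext l
    rw [aeval_mulX]
    by_cases hl : l = i
    · subst hl
      rw [Pi.single_eq_same, Pi.single_eq_same]
    · rw [Pi.single_eq_of_ne hl, Pi.single_eq_of_ne hl, mul_zero]
  have hA : ∀ i j, j ≠ i → N (Pi.single i 1) j = 0 := by
    intro i j hji
    have h1 : (aeval (mulX P) (P i).poly) (Pi.single i (1 : AdjoinRoot (P i).poly)) = 0 := by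
      rw [hsingle, AdjoinRoot.mk_self, zero_mul, Pi.single_zero]
    have h2 := comm_aeval P N hcomm (P i).poly (Pi.single i 1)
    rw [h1, map_zero] at h2
    have h3 := congrFun h2 j
    rw [aeval_mulX] at h3
    have h3' : AdjoinRoot.mk (P j).poly (P i).poly * N (Pi.single i 1) j = 0 := h3.symm
    have h4 : AdjoinRoot.mk (P j).poly (P i).poly ≠ 0 := by
      intro h
      rw [AdjoinRoot.mk_eq_zero] at h
      exact hji (hinj j i (eq_of_irr_dvd (P j) (P i).poly (P i).monic (P i).irr h))
    rcases mul_eq_zero.mp h3' with h | h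
    · exact absurd h h4
    · exact h
  obtain ⟨ν, hν⟩ : ∃ ν : ∀ i, AdjoinRoot (P i).poly,
      ∀ i, N (Pi.single i 1) = Pi.single i (ν i) := by
    refine ⟨fun i => N (Pi.single i 1) i, ?_⟩
    intro i
    funext j
    by_cases hj : j = i
    · subst hj
      rw [Pi.single_eq_same]
    · rw [Pi.single_eq_of_ne hj, hA i j hj]
  have hC : ∀ i (s : AdjoinRoot (P i).poly), N (Pi.single i s) = Pi.single i (s * ν i) := by
    intro i s
    obtain ⟨g, rfl⟩ := AdjoinRoot.mk_surjective s
    have h1 := hsingle i g 1
    rw [mul_one] at h1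
    rw [← h1, comm_aeval P N hcomm, hν i, hsingle]
  have hD : ∀ (k : ℕ) i (s : AdjoinRoot (P i).poly),
      (N ^ k) (Pi.single i s) = Pi.single i (s * ν i ^ k) := by
    intro k
    induction k with
    | zero =>
      intro i s
      rw [pow_zero, pow_zero, mul_one]
      rfl
    | succ k ih =>
      intro i s
      rw [pow_succ, Module.End.mul_apply, hC, ih, pow_succ', mul_assoc]
  have hν0 : ∀ i, ν i = 0 := by
    intro i
    have h1 := hD m i 1
    rw [hnil, LinearMap.zero_apply, one_mul] at h1
    have h2 := congrFun h1 i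
    rw [Pi.single_eq_same] at h2
    exact eq_zero_of_pow_eq_zero h2.symm
  apply LinearMap.pi_ext
  intro i s
  rw [hC, hν0, mul_zero, LinearMap.zero_apply, Pi.single_zero]

/-- a nonzero nilpotent map commuting with a semisimple map forces a repeated block -/
theorem exists_repeated {ι : Type*} [Fintype ι] (P : ι → MIrr F) (f N : Module.End F V)
    (φ : V ≃ₗ[F] Ms P) (hφ : ∀ x, φ (f x) = mulX P (φ x)) (hcomm : ∀ x, N (f x) = f (N x))
    (m : ℕ) (hnil : N ^ m = 0) (hN : N ≠ 0) : ∃ i j, i ≠ j ∧ (P i).poly = (P j).poly := by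
  classical
  by_contra hcon
  push_neg at hcon
  apply hN
  have hinj : ∀ i j, (P i).poly = (P j).poly → i = j := by
    intro i j h
    by_contra hij
    exact hcon i j hij h
  obtain ⟨N', hN'⟩ : ∃ N' : Module.End F (Ms P), N' = φ.conj N := ⟨_, rfl⟩
  have hN'a : ∀ c, N' c = φ (N (φ.symm c)) := by
    intro c
    rw [hN', LinearEquiv.conj_apply]
    rfl
  have hpow : ∀ (k : ℕ) c, (N' ^ k) c = φ ((N ^ k) (φ.symm c)) := by
    intro k
    induction k with
    | zero =>
      intro c
      rw [pow_zero, pow_zero, Module.End.one_apply, Module.End.one_apply,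
        LinearEquiv.apply_symm_apply]
    | succ k ih =>
      intro c
      rw [pow_succ, Module.End.mul_apply, hN'a, ih, LinearEquiv.symm_apply_apply, pow_succ,
        Module.End.mul_apply]
  have hnil' : N' ^ m = 0 := by
    apply LinearMap.ext
    intro c
    rw [hpow, hnil, LinearMap.zero_apply, map_zero, LinearMap.zero_apply]
  have hsymm : ∀ c, φ.symm (mulX P c) = f (φ.symm c) := by
    intro c
    apply φ.injective
    rw [LinearEquiv.apply_symm_apply, hφ, LinearEquiv.apply_symm_apply]
  have hcomm' : ∀ c, N' (mulX P c) = mulX P (N' c) := by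
    intro c
    rw [hN'a, hN'a, hsymm, hcomm, hφ]
  have h0 := model_comm_nilp P hinj N' hcomm' m hnil'
  apply LinearMap.ext
  intro x
  apply φ.injective
  have h1 := hN'a (φ x)
  rw [LinearEquiv.symm_apply_apply] at h1
  rw [← h1, h0, LinearMap.zero_apply, LinearMap.zero_apply, map_zero]

/-- two distinct indices bound the sum -/
theorem sum_two_le {ι : Type*} [Fintype ι] (d : ι → ℕ) (i j : ι) (hij : i ≠ j) :
    d i + d j ≤ ∑ x, d x := by
  classical
  calc d i + d j = ∑ x ∈ ({i, j} : Finset ι), d x := (Finset.sum_pair hij).symm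
    _ ≤ ∑ x, d x := Finset.sum_le_univ_sum_of_nonneg (fun _ => Nat.zero_le _)

/-- three distinct indices bound the sum -/
theorem sum_three_le {ι : Type*} [Fintype ι] (d : ι → ℕ) (i j l : ι) (hij : i ≠ j) (hil : i ≠ l)
    (hjl : j ≠ l) : d i + d j + d l ≤ ∑ x, d x := by
  classical
  have hi : i ∉ ({j, l} : Finset ι) := by
    rw [Finset.mem_insert, Finset.mem_singleton]
    rintro (h | h)
    · exact hij h
    · exact hil h
  calc d i + d j + d l = ∑ x ∈ (insert i ({j, l} : Finset ι)), d x := by
        rw [Finset.sum_insert hi, Finset.sum_pair hjl, add_assoc]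
    _ ≤ ∑ x, d x := Finset.sum_le_univ_sum_of_nonneg (fun _ => Nat.zero_le _)

end Cfsg.Agent.helper29.PG
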