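import Mathlib

set_option autoImplicit false
set_option linter.unusedSectionVars false
set_option linter.unusedVariables false
namespace Cfsg.Agent.helper29.PO

/-- the geometric sum `1 + q + ... + q ^ (m - 1)` -/
def gs (q m : ℕ) : ℕ := ∑ i ∈ Finset.range m, q ^ i

theorem gs_succ (q m : ℕ) : gs q (m + 1) = gs q m + q ^ m := Finset.sum_range_succ _ _

theorem gs_mul (q m : ℕ) (hq : 1 ≤ q) : (q - 1) * gs q m = q ^ m - 1 := by
  induction m with
  | zero => simp [gs]
  | succ m ih =>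
    rw [gs_succ, mul_add, ih]
    obtain ⟨t, rfl⟩ : ∃ t, q = t + 1 := ⟨q - 1, by omega⟩
    have h1 : 1 ≤ (t + 1) ^ m := Nat.one_le_pow _ _ (by omega)
    rw [Nat.add_sub_cancel, pow_succ]
    have h2 : (t + 1) ^ m * (t + 1) = t * (t + 1) ^ m + (t + 1) ^ m := by ring
    omega

theorem gs_mod_two (q m : ℕ) (hq : Odd q) : gs q m % 2 = m % 2 := by
  induction m with
  | zero => simp [gs]
  | succ m ih =>
    rw [gs_succ]
    have h1 : q ^ m % 2 = 1 := Nat.odd_iff.mp (hq.pow)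
    omega

theorem gs_pos (q m : ℕ) (hm : 1 ≤ m) : 0 < gs q m := by
  obtain ⟨k, rfl⟩ : ∃ k, m = k + 1 := ⟨m - 1, by omega⟩
  unfold gs
  rw [Finset.sum_range_succ']
  simp

/-- the arithmetic heart of the criterion for an element of order `q ^ m + 1` in
`PSL (2 m, q)` -/
theorem nt_iff (q m : ℕ) (hq : Odd q) (hq3 : 3 ≤ q) (hm : 2 ≤ m) :
    (∃ e : ℕ, (q - 1) ∣ e ∧ ∀ j : ℕ, (gs q m * (q ^ m + 1) ∣ e * j ↔ (q ^ m + 1) ∣ j)) ↔
      padicValNat 2 (q - 1) < padicValNat 2 (2 * m) := by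
  obtain ⟨A, hAdef⟩ : ∃ A, A = gs q m := ⟨_, rfl⟩
  obtain ⟨N, hNdef⟩ : ∃ N, N = q ^ m + 1 := ⟨_, rfl⟩
  obtain ⟨Q1, hQ1def⟩ : ∃ Q1, Q1 = q - 1 := ⟨_, rfl⟩
  obtain ⟨s, hsdef⟩ : ∃ s, s = padicValNat 2 Q1 := ⟨_, rfl⟩
  rw [← hAdef, ← hNdef, ← hQ1def, ← hsdef]
  have hqm : 1 ≤ q ^ m := Nat.one_le_pow _ _ (by omega)
  have hA : Q1 * A = q ^ m - 1 := by
    rw [hQ1def, hAdef]
    exact gs_mul q m (by omega)
  have hApos : 0 < A := by
    rw [hAdef]
    exact gs_pos q m (by omega)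
  have hNpos : 0 < N := by omega
  have hNA : N = Q1 * A + 2 := by omega
  have hQ1pos : 0 < Q1 := by omega
  have hq2 : q % 2 = 1 := Nat.odd_iff.mp hq
  have h2Q1 : 2 ∣ Q1 := by omega
  have h2N : 2 ∣ N := by
    rw [hNA]
    exact Dvd.dvd.add (Dvd.dvd.mul_right h2Q1 _) (dvd_refl 2)
  have hs1 : 1 ≤ s := by
    rw [hsdef]
    exact one_le_padicValNat_of_dvd (by omega) h2Q1
  have hsdvd : 2 ^ s ∣ Q1 := by
    rw [hsdef]
    exact pow_padicValNat_dvd
  have hsnot : ¬ 2 ^ (s + 1) ∣ Q1 := by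
    rw [hsdef]
    exact pow_succ_padicValNat_not_dvd (by omega)
  have hv2m : padicValNat 2 (2 * m) = padicValNat 2 m + 1 := by
    rw [padicValNat.mul (by norm_num) (by omega), padicValNat_self, add_comm]
  have hq1 : 1 ≤ padicValNat 2 (q + 1) :=
    one_le_padicValNat_of_dvd (by omega) (by omega)
  have hLTE : Even m → padicValNat 2 A + 1 = padicValNat 2 (q + 1) + padicValNat 2 m := by
    intro hme
    have h1 := padicValNat.pow_two_sub_pow (x := q) (y := 1) (by omega) (by rw [← hQ1def]; exact h2Q1)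
      (by omega) (n := m) (by omega) hme
    rw [one_pow, ← hA, padicValNat.mul (by omega) (by omega), ← hQ1def, ← hsdef] at h1
    omega
  have hAodd : ¬ Even m → ¬ 2 ∣ A := by
    intro hmo h2A
    have h1 := gs_mod_two q m hq
    rw [← hAdef] at h1
    have h2 : m % 2 = 1 := Nat.odd_iff.mp (Nat.not_even_iff_odd.mp hmo)
    omega
  have hgcdQN : Nat.gcd Q1 N ∣ 2 := by
    have h1 : Nat.gcd Q1 N ∣ Q1 * A + 2 := (Nat.gcd_dvd_right Q1 N).trans (dvd_of_eq hNA)
    have h2 : Nat.gcd Q1 N ∣ Q1 * A := Dvd.dvd.mul_right (Nat.gcd_dvd_left _ _) _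
    exact (Nat.dvd_add_right h2).mp h1
  constructor
  · rintro ⟨e, hQe, H⟩
    have hAe : A ∣ e := by
      have h1 := (H N).mpr dvd_rfl
      exact Nat.dvd_of_mul_dvd_mul_right hNpos h1
    obtain ⟨e', rfl⟩ := hAe
    have H' : ∀ j, N ∣ e' * j ↔ N ∣ j := by
      intro j
      rw [← H j, mul_assoc]
      exact (Nat.mul_dvd_mul_iff_left hApos).symm
    have hcop : Nat.gcd e' N = 1 := by
      obtain ⟨j, hj⟩ := Nat.gcd_dvd_right e' N
      obtain ⟨k, hk⟩ := Nat.gcd_dvd_left e' N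
      have h1 : N ∣ e' * j := by
        refine ⟨k, ?_⟩
        calc e' * j = (Nat.gcd e' N * k) * j := by rw [← hk]
          _ = (Nat.gcd e' N * j) * k := by ring
          _ = N * k := by rw [← hj]
      have h2 := (H' j).mp h1
      have hjpos : 0 < j := by
        rcases Nat.eq_zero_or_pos j with h0 | h0
        · rw [h0, mul_zero] at hj
          omega
        · exact h0
      have h3 : N ≤ j := Nat.le_of_dvd hjpos h2
      have hgpos : 0 < Nat.gcd e' N := Nat.gcd_pos_of_pos_right _ hNpos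
      by_contra hne
      have h4 : 2 ≤ Nat.gcd e' N := by omega
      have h5 : 2 * j ≤ Nat.gcd e' N * j := Nat.mul_le_mul_right j h4
      omega
    have he'odd : ¬ 2 ∣ e' := by
      intro h
      have h1 : 2 ∣ Nat.gcd e' N := Nat.dvd_gcd h h2N
      rw [hcop] at h1
      omega
    have h2s : 2 ^ s ∣ A := by
      have h2 : 2 ^ s ∣ A * e' := hsdvd.trans hQe
      have hc : Nat.Coprime (2 ^ s) e' :=
        Nat.Coprime.pow_left s ((Nat.Prime.coprime_iff_not_dvd Nat.prime_two).mpr he'odd)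
      exact hc.dvd_of_dvd_mul_right h2
    have hsA : s ≤ padicValNat 2 A := (padicValNat_dvd_iff_le (by omega)).mp h2s
    by_cases hme : Even m
    · have h1 := hLTE hme
      rw [hv2m]
      by_cases h4 : padicValNat 2 (q + 1) = 1
      · omega
      · have h5 : 2 ≤ padicValNat 2 (q + 1) := by omega
        have h6 : 2 ^ 2 ∣ q + 1 := (padicValNat_dvd_iff_le (by omega)).mpr h5
        have h7 : ¬ 2 ^ 2 ∣ Q1 := by
          intro h8
          obtain ⟨a, ha⟩ := h6
          obtain ⟨b, hb⟩ := h8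
          omega
        have h8 : s < 2 := by
          by_contra h9
          exact h7 ((pow_dvd_pow 2 (by omega : 2 ≤ s)).trans hsdvd)
        have h9 : 1 ≤ padicValNat 2 m :=
          one_le_padicValNat_of_dvd (by omega) (even_iff_two_dvd.mp hme)
        omega
    · exfalso
      have h1 : 2 ∣ A := (dvd_pow_self 2 (by omega : s ≠ 0)).trans h2s
      exact hAodd hme h1
  · intro hlt
    rw [hv2m] at hlt
    have hme : Even m := by
      have h1 : 1 ≤ padicValNat 2 m := by omega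
      by_contra hmo
      have h2 : ¬ 2 ∣ m := fun h => hmo (even_iff_two_dvd.mpr h)
      rw [padicValNat.eq_zero_of_not_dvd h2] at h1
      omega
    have h1 := hLTE hme
    have hsA : s ≤ padicValNat 2 A := by omega
    have h2s : 2 ^ s ∣ A := (padicValNat_dvd_iff_le (by omega)).mpr hsA
    obtain ⟨d, hd⟩ : A ∣ Nat.lcm Q1 A := Nat.dvd_lcm_right _ _
    have hdQ : d * Nat.gcd Q1 A = Q1 := by
      have h3 := Nat.gcd_mul_lcm Q1 A
      rw [hd] at h3
      have h4 : A * (d * Nat.gcd Q1 A) = A * Q1 := by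
        calc A * (d * Nat.gcd Q1 A) = Nat.gcd Q1 A * (A * d) := by ring
          _ = Q1 * A := h3
          _ = A * Q1 := by ring
      exact Nat.eq_of_mul_eq_mul_left hApos h4
    have hdodd : ¬ 2 ∣ d := by
      rintro ⟨d', rfl⟩
      apply hsnot
      have h3 : 2 ^ s ∣ Nat.gcd Q1 A := Nat.dvd_gcd hsdvd h2s
      obtain ⟨u, hu⟩ := h3
      refine ⟨d' * u, ?_⟩
      rw [← hdQ, hu, pow_succ]
      ring
    have hdN : Nat.Coprime N d := by
      have h3 : Nat.gcd N d ∣ Nat.gcd Q1 N := by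
        apply Nat.dvd_gcd
        · exact (Nat.gcd_dvd_right N d).trans (Dvd.intro _ hdQ)
        · exact Nat.gcd_dvd_left N d
      have h4 : Nat.gcd N d ∣ 2 := h3.trans hgcdQN
      have h5 : Nat.gcd N d = 1 ∨ Nat.gcd N d = 2 := by
        have := (Nat.dvd_prime Nat.prime_two).mp h4
        exact this
      rcases h5 with h5 | h5
      · exact h5
      · exfalso
        apply hdodd
        rw [← h5]
        exact Nat.gcd_dvd_right N d
    refine ⟨Nat.lcm Q1 A, Nat.dvd_lcm_left _ _, ?_⟩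
    intro j
    rw [hd, mul_assoc, Nat.mul_dvd_mul_iff_left hApos, mul_comm d j]
    exact hdN.dvd_mul_right

end Cfsg.Agent.helper29.PO
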