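import Mathlib
import Cfsg.Agent.Lib_helper29_EL4
import Cfsg.Agent.Lib_helper29_PO1

set_option autoImplicit false
set_option linter.unusedSectionVars false
set_option linter.unusedVariables false
namespace Cfsg.Agent.helper29.PO
open Cfsg.Agent.helper29.EL

theorem gs_two_mul (q m : ℕ) (hq : 2 ≤ q) : gs q (2 * m) = gs q m * (q ^ m + 1) := by
  have h1 := gs_mul q (2 * m) (by omega)
  have h2 := gs_mul q m (by omega)
  have hqm : 1 ≤ q ^ m := Nat.one_le_pow _ _ (by omega)
  have h3 : q ^ (2 * m) - 1 = (q ^ m - 1) * (q ^ m + 1) := by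
    rw [two_mul, pow_add]
    obtain ⟨t, ht⟩ : ∃ t, q ^ m = t + 1 := ⟨q ^ m - 1, by omega⟩
    rw [ht, Nat.add_sub_cancel]
    have : (t + 1) * (t + 1) = t * (t + 1 + 1) + 1 := by ring
    omega
  have h4 : (q - 1) * gs q (2 * m) = (q - 1) * (gs q m * (q ^ m + 1)) := by
    rw [h1, h3, ← h2, mul_assoc]
  exact Nat.eq_of_mul_eq_mul_left (by omega) h4

variable {F : Type*} [Field F] [Fintype F] {K : Type*} [Field K] [Fintype K] [Algebra F K]

theorem card_sub_one_eq (d : ℕ) (hd : Module.finrank F K = d) :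
    Fintype.card K - 1 = (Fintype.card F - 1) * gs (Fintype.card F) d := by
  rw [Module.card_eq_pow_finrank (K := F) (V := K), hd, gs_mul _ _ Fintype.card_pos]

/-- the norm to the ground field is the power map -/
theorem algebraMap_norm (d : ℕ) (hd : Module.finrank F K = d) (u : K) :
    algebraMap F K (Algebra.norm F u) = u ^ gs (Fintype.card F) d := by
  rw [FiniteField.algebraMap_norm_eq_pow, Nat.card_eq_fintype_card, Nat.card_eq_fintype_card,
    card_sub_one_eq d hd]
  have hq : 2 ≤ Fintype.card F := Fintype.one_lt_card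
  rw [Nat.mul_div_cancel_left _ (by omega)]

/-- the nonzero elements of the ground field are the solutions of `u ^ (q - 1) = 1` -/
theorem mem_range_iff_pow (d : ℕ) (hd : Module.finrank F K = d) (u : K) (hu : u ≠ 0) :
    (∃ c : F, algebraMap F K c = u) ↔ u ^ (Fintype.card F - 1) = 1 := by
  have hq : 2 ≤ Fintype.card F := Fintype.one_lt_card
  constructor
  · rintro ⟨c, rfl⟩
    have hc : c ≠ 0 := by
      rintro rfl
      rw [map_zero] at hu
      exact hu rfl
    rw [← map_pow, FiniteField.pow_card_sub_one_eq_one c hc, map_one]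
  · intro h
    obtain ⟨ω, hω, hgen⟩ := exists_gen (F := K)
    obtain ⟨t, ht⟩ := hgen (Units.mk0 u hu)
    have h1 : ω ^ (t * (Fintype.card F - 1)) = 1 := by
      rw [pow_mul, ht]
      apply Units.ext
      rw [Units.val_pow_eq_pow_val]
      exact h
    have h2 : Fintype.card K - 1 ∣ t * (Fintype.card F - 1) := by
      rw [← hω]
      exact orderOf_dvd_of_pow_eq_one h1
    rw [card_sub_one_eq d hd, mul_comm t] at h2
    have h3 : gs (Fintype.card F) d ∣ t := Nat.dvd_of_mul_dvd_mul_left (by omega) h2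
    obtain ⟨t', rfl⟩ := h3
    refine ⟨(Algebra.norm F ((ω : Kˣ) : K)) ^ t', ?_⟩
    rw [map_pow, algebraMap_norm d hd, ← pow_mul]
    have h4 := congrArg (fun v : Kˣ => (v : K)) ht
    simp only [Units.val_pow_eq_pow_val, Units.val_mk0] at h4
    exact h4

/-- existence of a norm one element of projective order `q ^ m + 1`, in terms of exponents -/
theorem exists_elt_iff (m : ℕ) (hm : 1 ≤ m) (hd : Module.finrank F K = 2 * m) :
    (∃ ρ : K, ρ ≠ 0 ∧ Algebra.norm F ρ = 1 ∧
      ∀ j : ℕ, (∃ c : F, algebraMap F K c = ρ ^ j) ↔ (Fintype.card F ^ m + 1) ∣ j) ↔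
    (∃ e : ℕ, (Fintype.card F - 1) ∣ e ∧ ∀ j : ℕ,
      (gs (Fintype.card F) m * (Fintype.card F ^ m + 1) ∣ e * j ↔
        (Fintype.card F ^ m + 1) ∣ j)) := by
  have hq : 2 ≤ Fintype.card F := Fintype.one_lt_card
  obtain ⟨ω, hω, hgen⟩ := exists_gen (F := K)
  have hcard := card_sub_one_eq (F := F) (K := K) (2 * m) hd
  rw [gs_two_mul _ _ hq] at hcard
  have hMpos : 0 < gs (Fintype.card F) m * (Fintype.card F ^ m + 1) :=
    Nat.mul_pos (gs_pos _ _ hm) (by omega)
  have hnorm : ∀ u : K, algebraMap F K (Algebra.norm F u) =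
      u ^ (gs (Fintype.card F) m * (Fintype.card F ^ m + 1)) := by
    intro u
    rw [algebraMap_norm (2 * m) hd, gs_two_mul _ _ hq]
  -- the key translation for powers of the generator
  have hkey : ∀ e j : ℕ, (∃ c : F, algebraMap F K c = (((ω : Kˣ) : K) ^ e) ^ j) ↔
      gs (Fintype.card F) m * (Fintype.card F ^ m + 1) ∣ e * j := by
    intro e j
    have hne : (((ω : Kˣ) : K) ^ e) ^ j ≠ 0 := pow_ne_zero _ (pow_ne_zero _ (Units.ne_zero ω))
    rw [mem_range_iff_pow (2 * m) hd _ hne, ← pow_mul, ← pow_mul, ← Units.val_pow_eq_pow_val,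
      Units.val_eq_one, ← orderOf_dvd_iff_pow_eq_one, hω, hcard, mul_comm (Fintype.card F - 1),
      ← mul_assoc e j]
    exact Nat.mul_dvd_mul_iff_right (by omega)
  have hnorm_iff : ∀ e : ℕ, Algebra.norm F (((ω : Kˣ) : K) ^ e) = 1 ↔ (Fintype.card F - 1) ∣ e := by
    intro e
    have h1 : Algebra.norm F (((ω : Kˣ) : K) ^ e) = 1 ↔
        algebraMap F K (Algebra.norm F (((ω : Kˣ) : K) ^ e)) = 1 := by
      constructor
      · intro h
        rw [h, map_one]
      · intro h
        apply (algebraMap F K).injective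
        rw [h, map_one]
    rw [h1, hnorm, ← pow_mul, ← Units.val_pow_eq_pow_val, Units.val_eq_one,
      ← orderOf_dvd_iff_pow_eq_one, hω, hcard]
    exact Nat.mul_dvd_mul_iff_right hMpos
  constructor
  · rintro ⟨ρ, hρ0, hρn, hρ⟩
    obtain ⟨e, he⟩ := hgen (Units.mk0 ρ hρ0)
    have hρe : ρ = ((ω : Kˣ) : K) ^ e := by
      have h4 := congrArg (fun v : Kˣ => (v : K)) he
      simp only [Units.val_pow_eq_pow_val, Units.val_mk0] at h4
      exact h4.symm
    refine ⟨e, ?_, ?_⟩
    · rw [← hnorm_iff, ← hρe]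
      exact hρn
    · intro j
      rw [← hkey, ← hρe]
      exact hρ j
  · rintro ⟨e, he, H⟩
    refine ⟨((ω : Kˣ) : K) ^ e, pow_ne_zero _ (Units.ne_zero ω), (hnorm_iff e).mpr he, ?_⟩
    intro j
    rw [hkey]
    exact H j

end Cfsg.Agent.helper29.PO
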