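import Mathlib
import Cfsg.Agent.Lib_helper29_PO2

set_option autoImplicit false
set_option linter.unusedSectionVars false
set_option linter.unusedVariables false
namespace Cfsg.Agent.helper29.PO

theorem orderOf_eq_of_pow_iff {G : Type*} [Group G] (g : G) (N : ℕ)
    (h : ∀ j : ℕ, g ^ j = 1 ↔ N ∣ j) : orderOf g = N := by
  apply Nat.dvd_antisymm
  · exact orderOf_dvd_of_pow_eq_one ((h N).mpr dvd_rfl)
  · exact (h _).mp (pow_orderOf_eq_one g)

variable {F : Type*} [Field F]

/-- a power of an element of `PSL` is trivial exactly when the matrix power is a scalar -/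
theorem psl_pow_eq_one_iff {n : ℕ} (X : Matrix.SpecialLinearGroup (Fin n) F) (j : ℕ) :
    ((QuotientGroup.mk X : Matrix.ProjectiveSpecialLinearGroup (Fin n) F)) ^ j = 1 ↔
      ∃ c : F, (X : Matrix (Fin n) (Fin n) F) ^ j = c • (1 : Matrix (Fin n) (Fin n) F) := by
  rw [← QuotientGroup.mk_pow, QuotientGroup.eq_one_iff, Matrix.SpecialLinearGroup.mem_center_iff]
  constructor
  · rintro ⟨c, -, hc⟩
    refine ⟨c, ?_⟩
    rw [← Matrix.SpecialLinearGroup.coe_pow, ← hc, Matrix.scalar_apply,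
      Matrix.smul_one_eq_diagonal]
  · rintro ⟨c, hc⟩
    refine ⟨c, ?_, ?_⟩
    · have h1 : ((X ^ j : Matrix.SpecialLinearGroup (Fin n) F) : Matrix (Fin n) (Fin n) F).det = 1 :=
        (X ^ j).2
      rw [Matrix.SpecialLinearGroup.coe_pow, hc, Matrix.det_smul, Matrix.det_one, mul_one] at h1
      exact h1
    · rw [Matrix.SpecialLinearGroup.coe_pow, hc, Matrix.scalar_apply,
        Matrix.smul_one_eq_diagonal]

variable [Fintype F]

/-- construction of the element of `PSL` from the exponent data -/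
theorem exists_psl_elt (n m : ℕ) (hn : n = 2 * m) (hm : 1 ≤ m)
    (he : ∃ e : ℕ, (Fintype.card F - 1) ∣ e ∧ ∀ j : ℕ,
      (gs (Fintype.card F) m * (Fintype.card F ^ m + 1) ∣ e * j ↔
        (Fintype.card F ^ m + 1) ∣ j)) :
    ∃ g : Matrix.ProjectiveSpecialLinearGroup (Fin n) F, orderOf g = Fintype.card F ^ m + 1 := by
  classical
  obtain ⟨p, hchar⟩ := CharP.exists F
  haveI := hchar
  haveI : Fact p.Prime := ⟨CharP.char_is_prime F p⟩
  haveI : NeZero n := ⟨by omega⟩
  obtain ⟨K, hK1, hK2, hK3, hK4, hd⟩ : ∃ (K : Type) (_ : Field K) (_ : Fintype K)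
      (_ : Algebra F K) (_ : Module.Finite F K), Module.finrank F K = n :=
    ⟨FiniteField.Extension F p n, inferInstance, Fintype.ofFinite _, inferInstance, inferInstance,
      FiniteField.finrank_extension F p n⟩
  obtain ⟨ρ, hρ0, hρn, hρ⟩ := (exists_elt_iff (F := F) (K := K) m hm (hd.trans hn)).mpr he
  obtain ⟨b, -⟩ : ∃ b : Module.Basis (Fin n) F K, True := ⟨Module.finBasisOfFinrankEq F K hd, trivial⟩
  have hdet : (Algebra.leftMulMatrix b ρ).det = 1 := by
    rw [← Algebra.norm_eq_matrix_det b ρ]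
    exact hρn
  obtain ⟨X, hX⟩ : ∃ X : Matrix.SpecialLinearGroup (Fin n) F,
      (X : Matrix (Fin n) (Fin n) F) = Algebra.leftMulMatrix b ρ := ⟨⟨_, hdet⟩, rfl⟩
  refine ⟨QuotientGroup.mk X, ?_⟩
  apply orderOf_eq_of_pow_iff
  intro j
  rw [psl_pow_eq_one_iff, ← hρ j, hX]
  constructor
  · rintro ⟨c, hc⟩
    refine ⟨c, ?_⟩
    apply Algebra.leftMulMatrix_injective b
    rw [AlgHom.commutes, map_pow, Algebra.algebraMap_eq_smul_one]
    exact hc.symm
  · rintro ⟨c, hc⟩
    refine ⟨c, ?_⟩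
    rw [← map_pow, ← hc, AlgHom.commutes, Algebra.algebraMap_eq_smul_one]

end Cfsg.Agent.helper29.PO
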