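import Mathlib
import Cfsg.Agent.Lib_helper29_PO3

set_option autoImplicit false
set_option linter.unusedSectionVars false
set_option linter.unusedVariables false
namespace Cfsg.Agent.helper29.PG
open Cfsg.Agent.helper29.PO

variable {F : Type*} [Field F]

theorem transvection_pow {d : Type*} [Fintype d] [DecidableEq d] (i j : d) (hij : i ≠ j) (t : ℕ) :
    (Matrix.transvection i j (1 : F)) ^ t = Matrix.transvection i j (t : F) := by
  induction t with
  | zero => rw [pow_zero, Nat.cast_zero, Matrix.transvection_zero]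
  | succ t ih =>
    rw [pow_succ, ih, Matrix.transvection_mul_transvection_same _ _ hij, Nat.cast_succ]

theorem smul_transvection_pow_eq_iff {d : Type*} [Fintype d] [DecidableEq d] (i j : d)
    (hij : i ≠ j) (b : F) (hb : b ≠ 0) (t : ℕ) (c : F) :
    (b • Matrix.transvection i j (1 : F)) ^ t = c • (1 : Matrix d d F) ↔
      b ^ t = c ∧ (t : F) = 0 := by
  rw [smul_pow, transvection_pow i j hij]
  constructor
  · intro h
    have h1 := congrFun (congrFun h i) j
    have h2 := congrFun (congrFun h i) i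
    simp only [Matrix.transvection, Matrix.smul_apply, Matrix.add_apply, Matrix.one_apply_ne hij,
      Matrix.one_apply_eq, Matrix.single_apply_same, smul_eq_mul, zero_add, mul_zero] at h1
    simp only [Matrix.transvection, Matrix.smul_apply, Matrix.add_apply,
      Matrix.one_apply_eq, smul_eq_mul, mul_one] at h2
    rw [Matrix.single_apply_of_ne i j (t : F) i i (fun h => hij h.2.symm)] at h2
    rw [add_zero, mul_one] at h2
    refine ⟨h2, ?_⟩
    rcases mul_eq_zero.mp h1 with h | h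
    · exact absurd h (pow_ne_zero _ hb)
    · exact h
  · rintro ⟨h1, h2⟩
    rw [h2, Matrix.transvection_zero, h1]

theorem block_pow_eq_iff {m d : Type*} [Fintype m] [Fintype d] [DecidableEq m] [DecidableEq d]
    (A : Matrix m m F) (B : Matrix d d F) (t : ℕ) (c : F) :
    (Matrix.fromBlocks A 0 0 B) ^ t = c • (1 : Matrix (m ⊕ d) (m ⊕ d) F) ↔
      A ^ t = c • (1 : Matrix m m F) ∧ B ^ t = c • (1 : Matrix d d F) := by
  rw [Matrix.fromBlocks_diagonal_pow, ← Matrix.fromBlocks_one, Matrix.fromBlocks_smul,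
    Matrix.fromBlocks_inj]
  constructor
  · rintro ⟨h1, _, _, h2⟩
    exact ⟨h1, h2⟩
  · rintro ⟨h1, h2⟩
    exact ⟨h1, (smul_zero c).symm, (smul_zero c).symm, h2⟩

theorem reindex_pow_eq_iff {m : Type*} [Fintype m] [DecidableEq m] {n : ℕ} (e : m ≃ Fin n)
    (M : Matrix m m F) (t : ℕ) (c : F) :
    (Matrix.reindexAlgEquiv F F e M) ^ t = c • (1 : Matrix (Fin n) (Fin n) F) ↔
      M ^ t = c • (1 : Matrix m m F) := by
  rw [← map_pow]
  constructor
  · intro h
    apply (Matrix.reindexAlgEquiv F F e).injective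
    rw [h, map_smul, map_one]
  · intro h
    rw [h, map_smul, map_one]

/-- a block element of the projective special linear group -/
theorem exists_psl_of_blocks (m d : ℕ) (A : Matrix (Fin m) (Fin m) F) (b : F) (hb : b ≠ 0)
    (hdet : A.det * b ^ (d + 2) = 1) :
    ∃ g : Matrix.ProjectiveSpecialLinearGroup (Fin (m + (d + 2))) F,
      ∀ t : ℕ, g ^ t = 1 ↔
        ((∃ c : F, A ^ t = c • (1 : Matrix (Fin m) (Fin m) F) ∧ b ^ t = c) ∧ (t : F) = 0) := by
  classical
  obtain ⟨T, hT⟩ : ∃ T : Matrix (Fin (d + 2)) (Fin (d + 2)) F,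
      T = Matrix.transvection 0 1 1 := ⟨_, rfl⟩
  have h01 : (0 : Fin (d + 2)) ≠ 1 := Fin.zero_ne_one
  obtain ⟨M, hM⟩ : ∃ M : Matrix (Fin (m + (d + 2))) (Fin (m + (d + 2))) F,
      M = Matrix.reindexAlgEquiv F F finSumFinEquiv (Matrix.fromBlocks A 0 0 (b • T)) := ⟨_, rfl⟩
  have hMdet : M.det = 1 := by
    rw [hM, Matrix.det_reindexAlgEquiv, Matrix.det_fromBlocks_zero₂₁, Matrix.det_smul, hT,
      Matrix.det_transvection_of_ne _ _ h01, mul_one, Fintype.card_fin]
    exact hdet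
  have hkey : ∀ (t : ℕ) (c : F), M ^ t = c • (1 : Matrix (Fin (m + (d + 2))) (Fin (m + (d + 2))) F) ↔
      (A ^ t = c • (1 : Matrix (Fin m) (Fin m) F) ∧ b ^ t = c ∧ (t : F) = 0) := by
    intro t c
    rw [hM, reindex_pow_eq_iff, block_pow_eq_iff, hT, smul_transvection_pow_eq_iff 0 1 h01 b hb]
  refine ⟨QuotientGroup.mk ⟨M, hMdet⟩, ?_⟩
  intro t
  refine Iff.trans (psl_pow_eq_one_iff
    (⟨M, hMdet⟩ : Matrix.SpecialLinearGroup (Fin (m + (d + 2))) F) t) ?_
  show (∃ c : F, M ^ t = c • (1 : Matrix (Fin (m + (d + 2))) (Fin (m + (d + 2))) F)) ↔ _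
  constructor
  · rintro ⟨c, hc⟩
    rw [hkey] at hc
    exact ⟨⟨c, hc.1, hc.2.1⟩, hc.2.2⟩
  · rintro ⟨⟨c, h1, h2⟩, h3⟩
    exact ⟨c, (hkey t c).mpr ⟨h1, h2, h3⟩⟩

end Cfsg.Agent.helper29.PG
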