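import Mathlib
import Cfsg.Agent.Lib_helper29_PG2
import Cfsg.Agent.Lib_helper29_EL6

set_option autoImplicit false
set_option linter.unusedSectionVars false
set_option linter.unusedVariables false
namespace Cfsg.Agent.helper29.PG
open Cfsg.Agent.helper29.PO Cfsg.Agent.helper29.EL

variable {F : Type*} [Field F]

theorem exists_of_SL (p : ℕ) [Fact p.Prime] [CharP F p] (r : ℕ) (hr : r.Prime) (hrp : r ≠ p)
    (m d : ℕ) (S : Matrix (Fin m) (Fin m) F) (hdet : S.det = 1) (hSr : S ^ r = 1) (hS1 : S ≠ 1) :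
    ∃ g : Matrix.ProjectiveSpecialLinearGroup (Fin (m + (d + 2))) F, orderOf g = r * p := by
  obtain ⟨g, hg⟩ := exists_psl_of_blocks m d S 1 one_ne_zero (by rw [hdet, one_pow, mul_one])
  refine ⟨g, orderOf_eq_of_pow_iff g (r * p) ?_⟩
  intro t
  rw [hg]
  haveI : Fact r.Prime := ⟨hr⟩
  have hord : orderOf S = r := orderOf_eq_prime hSr hS1
  have hcop : Nat.Coprime r p := (Nat.coprime_primes hr (Fact.out)).mpr hrp
  constructor
  · rintro ⟨⟨c, h1, h2⟩, h3⟩
    rw [one_pow] at h2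
    rw [← h2, one_smul] at h1
    have hr' : r ∣ t := by
      rw [← hord]
      exact orderOf_dvd_of_pow_eq_one h1
    have hp' : p ∣ t := (CharP.cast_eq_zero_iff F p t).mp h3
    exact hcop.mul_dvd_of_dvd_of_dvd hr' hp'
  · intro h
    have hr' : r ∣ t := dvd_trans (dvd_mul_right r p) h
    have hp' : p ∣ t := dvd_trans (dvd_mul_left p r) h
    refine ⟨⟨1, ?_, one_pow t⟩, (CharP.cast_eq_zero_iff F p t).mpr hp'⟩
    rw [one_smul]
    obtain ⟨s, rfl⟩ := hr'
    rw [pow_mul, hSr, one_pow]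

theorem exists_of_scalar (p : ℕ) [Fact p.Prime] [CharP F p] (r : ℕ) (hr : r.Prime) (hrp : r ≠ p)
    (b : F) (hb : b ≠ 0) (hb3 : ∀ t : ℕ, b ^ (3 * t) = 1 ↔ r ∣ t) :
    ∃ g : Matrix.ProjectiveSpecialLinearGroup (Fin (1 + (0 + 2))) F, orderOf g = r * p := by
  obtain ⟨g, hg⟩ := exists_psl_of_blocks 1 0 ((b⁻¹ ^ 2) • (1 : Matrix (Fin 1) (Fin 1) F)) b hb (by
    rw [Matrix.det_smul, Matrix.det_one, Fintype.card_fin, pow_one, mul_one, zero_add, ← mul_pow,
      inv_mul_cancel₀ hb, one_pow])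
  refine ⟨g, orderOf_eq_of_pow_iff g (r * p) ?_⟩
  intro t
  rw [hg]
  have hcop : Nat.Coprime r p := (Nat.coprime_primes hr (Fact.out)).mpr hrp
  have hkey : (b⁻¹ ^ 2) ^ t * b ^ (2 * t) = 1 := by
    rw [← pow_mul, ← mul_pow, inv_mul_cancel₀ hb, one_pow]
  have hb2 : b ^ (2 * t) ≠ 0 := pow_ne_zero _ hb
  have h3t : 3 * t = t + 2 * t := by ring
  have hiff : (∃ c : F, ((b⁻¹ ^ 2) • (1 : Matrix (Fin 1) (Fin 1) F)) ^ t =
      c • (1 : Matrix (Fin 1) (Fin 1) F) ∧ b ^ t = c) ↔ r ∣ t := by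
    rw [← hb3]
    constructor
    · rintro ⟨c, h1, h2⟩
      rw [smul_pow, one_pow] at h1
      have h3 := congrFun (congrFun h1 0) 0
      rw [Matrix.smul_apply, Matrix.smul_apply, Matrix.one_apply_eq, smul_eq_mul, smul_eq_mul,
        mul_one, mul_one] at h3
      rw [h3t, pow_add, h2, ← h3, hkey]
    · intro h
      refine ⟨b ^ t, ?_, rfl⟩
      rw [smul_pow, one_pow]
      congr 1
      apply mul_right_cancel₀ hb2
      rw [hkey, ← pow_add, ← h3t, h]
  rw [hiff]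
  constructor
  · rintro ⟨h1, h3⟩
    exact hcop.mul_dvd_of_dvd_of_dvd h1 ((CharP.cast_eq_zero_iff F p t).mp h3)
  · intro h
    exact ⟨dvd_trans (dvd_mul_right r p) h,
      (CharP.cast_eq_zero_iff F p t).mpr (dvd_trans (dvd_mul_left p r) h)⟩

theorem exists_unit_order [Fintype F] (e : ℕ) (he : e ∣ Fintype.card F - 1) (he0 : 0 < e) :
    ∃ u : Fˣ, orderOf u = e := by
  obtain ⟨g₀, hg₀, _⟩ := exists_gen (F := F)
  have hq1 : 0 < Fintype.card F - 1 := by
    have := Fintype.one_lt_card (α := F)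
    omega
  have hle : e ≤ Fintype.card F - 1 := Nat.le_of_dvd hq1 he
  have hn0 : (Fintype.card F - 1) / e ≠ 0 := (Nat.div_pos hle he0).ne'
  refine ⟨g₀ ^ ((Fintype.card F - 1) / e), ?_⟩
  rw [orderOf_pow_of_dvd hn0 (by rw [hg₀]; exact Nat.div_dvd_of_dvd he), hg₀,
    Nat.div_div_self he hq1.ne']

theorem diag_two (r : ℕ) (a : F) (ha0 : a ≠ 0) (har : a ^ r = 1) (ha1 : a ≠ 1) :
    (Matrix.diagonal ![a, a⁻¹]).det = 1 ∧ (Matrix.diagonal ![a, a⁻¹]) ^ r = 1 ∧
      Matrix.diagonal ![a, a⁻¹] ≠ 1 := by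
  refine ⟨?_, ?_, ?_⟩
  · rw [Matrix.det_diagonal, Fin.prod_univ_two]
    simp [ha0]
  · rw [Matrix.diagonal_pow]
    have h1 : (![a, a⁻¹] ^ r : Fin 2 → F) = 1 := by
      funext i
      fin_cases i <;> simp [har, inv_pow]
    rw [h1]
    exact Matrix.diagonal_one
  · intro h
    have h1 := congrFun (congrFun h 0) 0
    rw [Matrix.diagonal_apply_eq, Matrix.one_apply_eq] at h1
    exact ha1 h1

theorem exists_elt [Fintype F] (p : ℕ) [Fact p.Prime] [CharP F p] (n : ℕ) (r : ℕ) (hr : r.Prime)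
    (hr2 : r ≠ 2) (hrp : r ≠ p) (k : ℕ) (hk : k = orderOf ((Fintype.card F : ℕ) : ZMod r))
    (hk1 : 1 ≤ k) (hkn : k + 2 ≤ n)
    (hexc : ¬ (n = 3 ∧ r = 3 ∧ 3 ∣ Fintype.card F - 1 ∧ ¬ 9 ∣ Fintype.card F - 1)) :
    ∃ g : Matrix.ProjectiveSpecialLinearGroup (Fin n) F, orderOf g = r * p := by
  haveI : Fact r.Prime := ⟨hr⟩
  by_cases h2 : 2 ≤ k
  · obtain ⟨d, rfl⟩ : ∃ d, n = k + (d + 2) := ⟨n - k - 2, by omega⟩
    obtain ⟨S, hS1, hS2, _⟩ := exists_derangement_two (p := p) (F := F) rfl k r hrp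
      (by rw [← hk]; exact h2) (by rw [← hk])
    refine exists_of_SL p r hr hrp k d S.val S.2 ?_ ?_
    · rw [← Matrix.SpecialLinearGroup.coe_pow, hS1, one_smul]
    · intro h
      exact hS2 1 (by rw [h, one_smul])
  · have hk1' : k = 1 := by omega
    have hrq : r ∣ Fintype.card F - 1 :=
      (orderOf_eq_one_iff_dvd (Fintype.card F) r Fintype.card_pos).mp (by rw [← hk]; exact hk1')
    by_cases hn4 : 4 ≤ n
    · obtain ⟨d, rfl⟩ : ∃ d, n = 2 + (d + 2) := ⟨n - 4, by omega⟩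
      obtain ⟨u, hu⟩ := exists_unit_order (F := F) r hrq hr.pos
      have har : (u : F) ^ r = 1 := by
        rw [← Units.val_pow_eq_pow_val, ← hu, pow_orderOf_eq_one, Units.val_one]
      have ha1 : (u : F) ≠ 1 := by
        intro h
        rw [Units.val_eq_one] at h
        rw [h, orderOf_one] at hu
        exact hr.one_lt.ne hu
      obtain ⟨h1, h2, h3⟩ := diag_two r (u : F) u.ne_zero har ha1
      exact exists_of_SL p r hr hrp 2 d _ h1 h2 h3
    · have hn3 : n = 3 := by omega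
      subst hn3
      have hex : ∃ b : F, b ≠ 0 ∧ ∀ t : ℕ, b ^ (3 * t) = 1 ↔ r ∣ t := by
        by_cases hr3 : r = 3
        · have h9 : 9 ∣ Fintype.card F - 1 := by
            by_contra h9
            exact hexc ⟨rfl, hr3, hr3 ▸ hrq, h9⟩
          obtain ⟨u, hu⟩ := exists_unit_order (F := F) 9 h9 (by norm_num)
          refine ⟨(u : F), u.ne_zero, ?_⟩
          intro t
          rw [← Units.val_pow_eq_pow_val, Units.val_eq_one, ← orderOf_dvd_iff_pow_eq_one, hu, hr3]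
          constructor
          · intro h
            omega
          · intro h
            omega
        · obtain ⟨u, hu⟩ := exists_unit_order (F := F) r hrq hr.pos
          refine ⟨(u : F), u.ne_zero, ?_⟩
          intro t
          rw [← Units.val_pow_eq_pow_val, Units.val_eq_one, ← orderOf_dvd_iff_pow_eq_one, hu]
          have hcop : Nat.Coprime r 3 := (Nat.coprime_primes hr Nat.prime_three).mpr hr3
          exact hcop.dvd_mul_left
      obtain ⟨b, hb0, hb3⟩ := hex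
      exact exists_of_scalar p r hr hrp b hb0 hb3

end Cfsg.Agent.helper29.PG
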