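import Mathlib
import Cfsg.Agent.Lib_helper18_Zsigmondy
import Cfsg.Agent.Lib_helper29_EL7
import Cfsg.Agent.Lib_helper29_PO3

set_option autoImplicit false
set_option linter.unusedSectionVars false
set_option linter.unusedVariables false
namespace Cfsg.Agent.helper29.PO
open Polynomial Cfsg.Agent.helper25.SSimple Cfsg.Agent.helper29.EL

variable {F : Type*} [Field F] [Fintype F]

theorem root_pow_eq_iff (Q : MIrr F) (j : ℕ) (c : F) :
    (AdjoinRoot.root Q.poly) ^ j = algebraMap F (AdjoinRoot Q.poly) c ↔ Q.poly ∣ X ^ j - C c := by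
  rw [← AdjoinRoot.mk_eq_zero, map_sub, map_pow, AdjoinRoot.mk_X, AdjoinRoot.mk_C, sub_eq_zero,
    AdjoinRoot.algebraMap_eq]

/-- in a block of small degree, an element whose `r`-th power lies in `F` lies in `F` -/
theorem block_scalar (Q : MIrr F) (r : ℕ) (hr : r.Prime)
    (hrd : ¬ r ∣ Fintype.card F ^ Q.poly.natDegree - 1) (t : AdjoinRoot Q.poly) (z : F)
    (hz : z ≠ 0) (ht : t ^ r = algebraMap F (AdjoinRoot Q.poly) z) :
    ∃ c : F, algebraMap F (AdjoinRoot Q.poly) c = t := by
  haveI : Finite (AdjoinRoot Q.poly) := Module.finite_of_finite F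
  haveI : Fintype (AdjoinRoot Q.poly) := Fintype.ofFinite _
  have hd := finrank_adjoinRoot Q
  have hz' : algebraMap F (AdjoinRoot Q.poly) z ≠ 0 := by
    intro h
    apply hz
    apply (algebraMap F (AdjoinRoot Q.poly)).injective
    rw [h, map_zero]
  have ht0 : t ≠ 0 := by
    rintro rfl
    rw [zero_pow hr.ne_zero] at ht
    exact hz' ht.symm
  apply (mem_range_iff_pow _ hd t ht0).mpr
  have h1 : t ^ (r * (Fintype.card F - 1)) = 1 := by
    rw [pow_mul, ht, ← map_pow, FiniteField.pow_card_sub_one_eq_one z hz, map_one]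
  have h2 : t ^ (Fintype.card F ^ Q.poly.natDegree - 1) = 1 := by
    have := FiniteField.pow_card_sub_one_eq_one t ht0
    rwa [Module.card_eq_pow_finrank (K := F), hd] at this
  have h3 := pow_gcd_eq_one.mpr ⟨h1, h2⟩
  have hcop : Nat.Coprime r (Fintype.card F ^ Q.poly.natDegree - 1) :=
    (Nat.Prime.coprime_iff_not_dvd hr).mpr hrd
  rw [Nat.Coprime.gcd_mul_left_cancel _ hcop] at h3
  obtain ⟨u, hu⟩ := Nat.gcd_dvd_left (Fintype.card F - 1) (Fintype.card F ^ Q.poly.natDegree - 1)
  rw [hu, pow_mul, h3, one_pow]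

theorem pow_eq_of_toLin' {n : ℕ} (M : Matrix (Fin n) (Fin n) F) (j : ℕ) (c : F)
    (h : (Matrix.toLin' M) ^ j = c • (1 : Module.End F (Fin n → F))) :
    M ^ j = c • (1 : Matrix (Fin n) (Fin n) F) := by
  have h1 : Matrix.toLinAlgEquiv' (M ^ j) =
      Matrix.toLinAlgEquiv' (c • (1 : Matrix (Fin n) (Fin n) F)) := by
    rw [map_pow, map_smul, map_one]
    exact h
  exact (Matrix.toLinAlgEquiv' (R := F) (n := Fin n)).injective h1

/-- from an element of order `q ^ m + 1` in `PSL (2 m, q)` to the exponent data -/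
theorem exists_e_of_psl_elt (hodd : Odd (Fintype.card F)) (n m : ℕ) (hn : n = 2 * m) (hm : 2 ≤ m)
    (g : Matrix.ProjectiveSpecialLinearGroup (Fin n) F)
    (hg : orderOf g = Fintype.card F ^ m + 1) :
    ∃ e : ℕ, (Fintype.card F - 1) ∣ e ∧ ∀ j : ℕ,
      (gs (Fintype.card F) m * (Fintype.card F ^ m + 1) ∣ e * j ↔
        (Fintype.card F ^ m + 1) ∣ j) := by
  classical
  obtain ⟨q, hq⟩ : ∃ q, q = Fintype.card F := ⟨_, rfl⟩
  rw [← hq] at hodd hg ⊢
  have hq2 : 2 ≤ q := by
    rw [hq]
    exact Fintype.one_lt_card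
  have hq3 : 3 ≤ q := by
    have := Nat.odd_iff.mp hodd
    omega
  obtain ⟨N, hN⟩ : ∃ N, N = q ^ m + 1 := ⟨_, rfl⟩
  rw [← hN] at hg ⊢
  have hqm : 1 ≤ q ^ m := Nat.one_le_pow _ _ (by omega)
  have hNpos : 0 < N := by omega
  obtain ⟨Y, rfl⟩ := QuotientGroup.mk_surjective g
  have hpow : ∀ j : ℕ, (∃ c : F, (Y : Matrix (Fin n) (Fin n) F) ^ j =
      c • (1 : Matrix (Fin n) (Fin n) F)) ↔ N ∣ j := by
    intro j
    rw [← psl_pow_eq_one_iff, ← hg, orderOf_dvd_iff_pow_eq_one]
  obtain ⟨z, hz⟩ := (hpow N).mpr dvd_rfl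
  obtain ⟨p, hchar⟩ := CharP.exists F
  haveI := hchar
  haveI : Fact p.Prime := ⟨CharP.char_is_prime F p⟩
  have hNF : (N : F) ≠ 0 := by
    rw [hN, Nat.cast_add, Nat.cast_pow, hq, Nat.cast_card_eq_zero, zero_pow (by omega), zero_add,
      Nat.cast_one]
    exact one_ne_zero
  have hz0 : z ≠ 0 := by
    apply scalar_ne_zero_of_SL (by omega) (Y ^ N) z
    rw [Matrix.SpecialLinearGroup.coe_pow]
    exact hz
  obtain ⟨f, hf⟩ : ∃ f : Module.End F (Fin n → F), f = Matrix.toLin' (Y : Matrix (Fin n) (Fin n) F) :=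
    ⟨_, rfl⟩
  have hfN : f ^ N = z • (1 : Module.End F (Fin n → F)) := by
    rw [hf]
    exact toLin'_pow_eq _ N z hz
  have hss : f.IsSemisimple := isSemisimple_of_pow_eq f N hNF z hz0 hfN
  obtain ⟨ι, hι, P, φ, hφ, hcp⟩ := exists_ss_model_charpoly _ _ f hss rfl
  have hsum : ∑ j, (P j).poly.natDegree = n := by
    rw [sum_deg_eq P φ, Module.finrank_fin_fun]
  have hscal : ∀ (j : ℕ) (c : F), (Y : Matrix (Fin n) (Fin n) F) ^ j =
      c • (1 : Matrix (Fin n) (Fin n) F) ↔ ∀ i, (P i).poly ∣ X ^ j - C c := by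
    intro j c
    constructor
    · intro h i
      apply dvd_of_pow_eq P f φ hφ j c _ i
      rw [hf]
      exact toLin'_pow_eq _ j c h
    · intro h
      apply pow_eq_of_toLin'
      rw [← hf]
      exact pow_of_dvd P f φ hφ j c h
  have hdegpos : ∀ i, 0 < (P i).poly.natDegree := fun i => (P i).irr.natDegree_pos
  have hdegle : ∀ i, (P i).poly.natDegree ≤ n := by
    intro i
    rw [← hsum]
    exact Finset.single_le_sum (f := fun j => (P j).poly.natDegree) (fun j _ => Nat.zero_le _)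
      (Finset.mem_univ i)
  -- the primitive prime divisor
  obtain ⟨r, hr, hrdvd, hrnot⟩ := Cfsg.Agent.helper18.Zsig.zsigmondy q n (by omega) (by omega)
    (by omega) (by omega)
  have hfact : q ^ n - 1 = (q ^ m - 1) * N := by
    rw [hn, hN, two_mul, pow_add]
    obtain ⟨t, ht⟩ : ∃ t, q ^ m = t + 1 := ⟨q ^ m - 1, by omega⟩
    rw [ht, Nat.add_sub_cancel]
    have : (t + 1) * (t + 1) = t * (t + 1 + 1) + 1 := by ring
    omega
  have hrN : r ∣ N := by
    rw [hfact] at hrdvd
    rcases hr.dvd_mul.mp hrdvd with h | h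
    · exact absurd h (hrnot m (by omega) (by omega))
    · exact h
  have hrq1 : ¬ r ∣ q - 1 := by
    have := hrnot 1 (by omega) (by omega)
    rwa [pow_one] at this
  have hNr : N / r * r = N := Nat.div_mul_cancel hrN
  -- there is a block of full degree
  have hfull : ∃ i₀, (P i₀).poly.natDegree = n := by
    by_contra hcon
    push_neg at hcon
    have hlt : ∀ i, (P i).poly.natDegree < n := fun i => lt_of_le_of_ne (hdegle i) (hcon i)
    have hblock : ∀ i, ∃ c : F, (P i).poly ∣ X ^ (N / r) - C c := by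
      intro i
      have h1 : (AdjoinRoot.root (P i).poly) ^ N = algebraMap F (AdjoinRoot (P i).poly) z :=
        (root_pow_eq_iff (P i) N z).mpr ((hscal N z).mp hz i)
      have h2 : ((AdjoinRoot.root (P i).poly) ^ (N / r)) ^ r =
          algebraMap F (AdjoinRoot (P i).poly) z := by
        rw [← pow_mul, hNr, h1]
      have h3 : ¬ r ∣ Fintype.card F ^ (P i).poly.natDegree - 1 := by
        rw [← hq]
        exact hrnot _ (hdegpos i) (hlt i)
      obtain ⟨c, hc⟩ := block_scalar (P i) r hr h3 _ z hz0 h2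
      exact ⟨c, (root_pow_eq_iff (P i) (N / r) c).mp hc.symm⟩
    have hne : Nonempty ι := by
      by_contra hemp
      rw [not_nonempty_iff] at hemp
      rw [Finset.univ_eq_empty, Finset.sum_empty] at hsum
      omega
    obtain ⟨i₀⟩ := hne
    obtain ⟨c₀, hc₀⟩ := hblock i₀
    have hall : ∀ i, (P i).poly ∣ X ^ (N / r) - C c₀ := by
      intro i
      obtain ⟨c, hc⟩ := hblock i
      have hpw : ∀ (i' : ι) (c' : F), (P i').poly ∣ X ^ (N / r) - C c' → c' ^ r = z := by
        intro i' c' hc'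
        have h1 := (root_pow_eq_iff (P i') (N / r) c').mpr hc'
        have h2 := (root_pow_eq_iff (P i') N z).mpr ((hscal N z).mp hz i')
        have h3 : algebraMap F (AdjoinRoot (P i').poly) (c' ^ r) =
            algebraMap F (AdjoinRoot (P i').poly) z := by
          rw [map_pow, ← h1, ← pow_mul, hNr, h2]
        exact (algebraMap F (AdjoinRoot (P i').poly)).injective h3
      have h1 := hpw i c hc
      have h2 := hpw i₀ c₀ hc₀
      have hc0 : c ≠ 0 := by
        rintro rfl
        rw [zero_pow hr.ne_zero] at h1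
        exact hz0 h1.symm
      have hc₀0 : c₀ ≠ 0 := by
        rintro rfl
        rw [zero_pow hr.ne_zero] at h2
        exact hz0 h2.symm
      have h3 : (c / c₀) ^ r = 1 := by
        rw [div_pow, h1, h2, div_self hz0]
      have h4 : (c / c₀) ^ (Fintype.card F - 1) = 1 :=
        FiniteField.pow_card_sub_one_eq_one _ (div_ne_zero hc0 hc₀0)
      have h5 := pow_gcd_eq_one.mpr ⟨h3, h4⟩
      have hcop : Nat.gcd r (Fintype.card F - 1) = 1 := by
        rw [← hq]
        exact (Nat.Prime.coprime_iff_not_dvd hr).mpr hrq1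
      rw [hcop, pow_one] at h5
      have h6 : c = c₀ := by
        have := div_eq_one_iff_eq hc₀0 |>.mp h5
        exact this
      rw [← h6]
      exact hc
    have h7 := (hpow (N / r)).mp ⟨c₀, (hscal (N / r) c₀).mpr hall⟩
    have h8 : 0 < N / r := Nat.div_pos (Nat.le_of_dvd hNpos hrN) hr.pos
    have h9 : N ≤ N / r := Nat.le_of_dvd h8 h7
    have h10 : N / r * 2 ≤ N / r * r := Nat.mul_le_mul_left _ hr.two_le
    omega
  obtain ⟨i₀, hi₀⟩ := hfull
  have huniq : ∀ i, i = i₀ := by
    intro i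
    by_contra hne
    have h1 : (P i).poly.natDegree + (P i₀).poly.natDegree ≤ ∑ j, (P j).poly.natDegree := by
      rw [← Finset.add_sum_erase Finset.univ (fun j => (P j).poly.natDegree) (Finset.mem_univ i₀)]
      have h2 : (P i).poly.natDegree ≤ ∑ j ∈ Finset.univ.erase i₀, (P j).poly.natDegree :=
        Finset.single_le_sum (f := fun j => (P j).poly.natDegree) (fun j _ => Nat.zero_le _)
          (Finset.mem_erase.mpr ⟨hne, Finset.mem_univ i⟩)
      omega
    have := hdegpos i
    omega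
  -- the field and the element
  haveI : Finite (AdjoinRoot (P i₀).poly) := Module.finite_of_finite F
  haveI : Fintype (AdjoinRoot (P i₀).poly) := Fintype.ofFinite _
  have hd : Module.finrank F (AdjoinRoot (P i₀).poly) = 2 * m := by
    rw [finrank_adjoinRoot, hi₀, hn]
  have hproj : ∀ j : ℕ, (∃ c : F, algebraMap F (AdjoinRoot (P i₀).poly) c =
      (AdjoinRoot.root (P i₀).poly) ^ j) ↔ N ∣ j := by
    intro j
    rw [← hpow j]
    constructor
    · rintro ⟨c, hc⟩
      refine ⟨c, (hscal j c).mpr ?_⟩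
      intro i
      rw [huniq i]
      exact (root_pow_eq_iff (P i₀) j c).mp hc.symm
    · rintro ⟨c, hc⟩
      exact ⟨c, ((root_pow_eq_iff (P i₀) j c).mpr ((hscal j c).mp hc i₀)).symm⟩
  have hroot0 : AdjoinRoot.root (P i₀).poly ≠ 0 := by
    intro h0
    have h1 := (root_pow_eq_iff (P i₀) N z).mpr ((hscal N z).mp hz i₀)
    rw [h0, zero_pow (by omega)] at h1
    apply hz0
    apply (algebraMap F (AdjoinRoot (P i₀).poly)).injective
    rw [← h1, map_zero]
  have hnorm : Algebra.norm F (AdjoinRoot.root (P i₀).poly) = 1 := by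
    have h1 := Algebra.PowerBasis.norm_gen_eq_coeff_zero_minpoly
      (AdjoinRoot.powerBasis (P i₀).monic.ne_zero)
    rw [AdjoinRoot.minpoly_powerBasis_gen_of_monic (P i₀).monic] at h1
    have h2 : (Y : Matrix (Fin n) (Fin n) F).charpoly = (P i₀).poly := by
      rw [← Matrix.charpoly_toLin', ← hf, hcp]
      exact Fintype.prod_eq_single i₀ (fun i hi => absurd (huniq i) hi)
    have h3 : (Y : Matrix (Fin n) (Fin n) F).det = 1 := Y.2
    rw [Matrix.det_eq_sign_charpoly_coeff, h2, Fintype.card_fin] at h3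
    rw [← h3]
    show Algebra.norm F (AdjoinRoot.powerBasis (P i₀).monic.ne_zero).gen = _
    rw [h1]
    show (-1 : F) ^ (P i₀).poly.natDegree * _ = _
    rw [hi₀]
  have hfinal := (exists_elt_iff (F := F) (K := AdjoinRoot (P i₀).poly) m (by omega) hd).mp
    ⟨AdjoinRoot.root (P i₀).poly, hroot0, hnorm, by rw [← hq, ← hN]; exact hproj⟩
  rw [← hq, ← hN] at hfinal
  exact hfinal

end Cfsg.Agent.helper29.PO
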