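import Mathlib
import Cfsg.Agent.Lib_helper29_PG1
import Cfsg.Agent.Lib_helper29_PO4

set_option autoImplicit false
set_option linter.unusedSectionVars false
set_option linter.unusedVariables false
set_option maxHeartbeats 1000000
namespace Cfsg.Agent.helper29.PG
open Polynomial Cfsg.Agent.helper25.SSimple Cfsg.Agent.helper29.EL Cfsg.Agent.helper29.PO

variable {F : Type*} [Field F] [Fintype F]

theorem core_false {V : Type*} [AddCommGroup V] [Module F V] [FiniteDimensional F V]
    (p : ℕ) [Fact p.Prime] [CharP F p] (n : ℕ) (hn : 2 ≤ n) (hfin : Module.finrank F V = n)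
    (r : ℕ) (hr : r.Prime) (hr2 : r ≠ 2) (hrp : r ≠ p)
    (k : ℕ) (hk : k = orderOf ((Fintype.card F : ℕ) : ZMod r))
    (hcond : n - 2 < k ∨ (n = 3 ∧ r = 3 ∧ 3 ∣ Fintype.card F - 1 ∧ ¬ 9 ∣ Fintype.card F - 1))
    (W N : Module.End F V) (z : F) (hz0 : z ≠ 0) (hW : W ^ r = z • (1 : Module.End F V))
    (hWns : ∀ c : F, W ≠ c • (1 : Module.End F V)) (hdet : LinearMap.det W = 1)
    (m : ℕ) (hNm : N ^ m = 0) (hN0 : N ≠ 0) (hcomm : ∀ v, N (W v) = W (N v)) : False := by
  classical
  haveI : Fact r.Prime := ⟨hr⟩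
  have hp : p.Prime := Fact.out
  have hr3 : 3 ≤ r := by
    have := hr.two_le
    omega
  have hrF : (r : F) ≠ 0 := by
    intro h
    have h1 := (CharP.cast_eq_zero_iff F p r).mp h
    exact hrp ((Nat.prime_dvd_prime_iff_eq hp hr).mp h1).symm
  have hq1 : 1 ≤ Fintype.card F := Fintype.card_pos
  have hk1iff := orderOf_eq_one_iff_dvd (Fintype.card F) r hq1
  rw [← hk] at hk1iff
  by_cases hzpow : ∃ μ : F, μ ^ r = z
  swap
  · push_neg at hzpow
    have hrq : r ∣ Fintype.card F - 1 := by
      by_contra h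
      obtain ⟨b, hb⟩ := exists_pow_eq_of_not_dvd r hr h z
      exact hzpow b hb
    have hk1 : k = 1 := hk1iff.mpr hrq
    have hn3 : n ≤ 3 := by
      rcases hcond with h | h
      · omega
      · omega
    have hss : W.IsSemisimple := isSemisimple_of_pow_eq W r hrF z hz0 hW
    obtain ⟨ι, hι, P, φ, hφ, hcp⟩ := exists_ss_model_charpoly _ V W hss rfl
    have hsum : ∑ j, (P j).poly.natDegree = n := by rw [sum_deg_eq P φ, hfin]
    have hirr : Irreducible (X ^ r - C z : F[X]) := X_pow_sub_C_irreducible_of_prime hr hzpow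
    have hdeg : ∀ i, (P i).poly.natDegree = r := by
      intro i
      have h1 := dvd_of_pow_eq P W φ hφ r z hW i
      rw [eq_of_irr_dvd (P i) _ (monic_X_pow_sub_C z hr.ne_zero) hirr h1, natDegree_X_pow_sub_C]
    obtain ⟨i, j, hij, _⟩ := exists_repeated P W N φ hφ hcomm m hNm hN0
    have h2 : (P i).poly.natDegree + (P j).poly.natDegree ≤ ∑ x, (P x).poly.natDegree :=
      sum_two_le (fun x => (P x).poly.natDegree) i j hij
    rw [hsum, hdeg i, hdeg j] at h2
    omega
  obtain ⟨μ, hμ⟩ := hzpow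
  have hμ0 : μ ≠ 0 := by
    intro h
    rw [h, zero_pow hr.ne_zero] at hμ
    exact hz0 hμ.symm
  obtain ⟨W₀, hW₀⟩ : ∃ W₀ : Module.End F V, W₀ = μ⁻¹ • W := ⟨_, rfl⟩
  have hW₀r : W₀ ^ r = (1 : F) • (1 : Module.End F V) := by
    rw [hW₀, _root_.smul_pow, hW, smul_smul, inv_pow, hμ, inv_mul_cancel₀ hz0]
  have hss : W₀.IsSemisimple := isSemisimple_of_pow_eq W₀ r hrF 1 one_ne_zero hW₀r
  have hWW₀ : W = μ • W₀ := by rw [hW₀, smul_smul, mul_inv_cancel₀ hμ0, one_smul]
  have hcomm₀ : ∀ v, N (W₀ v) = W₀ (N v) := by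
    intro v
    rw [hW₀, LinearMap.smul_apply, LinearMap.smul_apply, map_smul, hcomm]
  obtain ⟨ι, hι, P, φ, hφ, hcp⟩ := exists_ss_model_charpoly _ V W₀ hss rfl
  have hsum : ∑ j, (P j).poly.natDegree = n := by rw [sum_deg_eq P φ, hfin]
  have hdvd : ∀ i, (P i).poly ∣ X ^ r - 1 := by
    intro i
    have h1 := dvd_of_pow_eq P W₀ φ hφ r 1 hW₀r i
    rwa [map_one] at h1
  have hdeg : ∀ i, (P i).poly = X - 1 ∨ (P i).poly.natDegree = k := by
    intro i
    rw [hk]
    exact natDegree_of_dvd_X_pow_sub_one (p := p) rfl r hrp (P i) (hdvd i)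
  obtain ⟨i, j, hij, hPij⟩ := exists_repeated P W₀ N φ hφ hcomm₀ m hNm hN0
  have hscal : ∀ a : F, (∀ l, (P l).poly = X - C a) → False := by
    intro a hall
    have h1 := pow_of_dvd P W₀ φ hφ 1 a (fun l => by rw [hall l, pow_one])
    rw [pow_one] at h1
    apply hWns (μ * a)
    rw [hWW₀, h1, smul_smul]
  by_cases hrq : r ∣ Fintype.card F - 1
  swap
  · have hk1 : k ≠ 1 := fun h => hrq (hk1iff.mp h)
    have hnk : n - 2 < k := by
      rcases hcond with h | h
      · exact h
      · exfalso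
        apply hrq
        rw [h.2.1]
        exact h.2.2.1
    have hk2 : 2 ≤ k := by omega
    obtain ⟨i₁, hi₁⟩ : ∃ i₁, (P i₁).poly ≠ X - 1 := by
      by_contra hcon
      push_neg at hcon
      exact hscal 1 (fun l => by rw [hcon l, map_one])
    have hd₁ : (P i₁).poly.natDegree = k := (hdeg i₁).resolve_left hi₁
    rcases hdeg i with h | h
    · have hj : (P j).poly = X - 1 := by rw [← hPij, h]
      have hi1 : i ≠ i₁ := by
        intro h'
        rw [h'] at h
        exact hi₁ h
      have hj1 : j ≠ i₁ := by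
        intro h'
        rw [h'] at hj
        exact hi₁ hj
      have h3 : (P i).poly.natDegree + (P j).poly.natDegree + (P i₁).poly.natDegree ≤
          ∑ x, (P x).poly.natDegree :=
        sum_three_le (fun x => (P x).poly.natDegree) i j i₁ hij hi1 hj1
      rw [hsum, h, hj, hd₁, X_sub_one_eq, natDegree_X_sub_C] at h3
      omega
    · have h2 : (P i).poly.natDegree + (P j).poly.natDegree ≤ ∑ x, (P x).poly.natDegree :=
        sum_two_le (fun x => (P x).poly.natDegree) i j hij
      rw [hsum, ← hPij, h] at h2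
      omega
  · have hk1 : k = 1 := hk1iff.mpr hrq
    have hdeg1 : ∀ l, (P l).poly.natDegree = 1 := by
      intro l
      rcases hdeg l with h | h
      · rw [h, X_sub_one_eq, natDegree_X_sub_C]
      · rw [h, hk1]
    obtain ⟨a, ha⟩ : ∃ a : ι → F, ∀ l, (P l).poly = X - C (a l) := by
      refine ⟨fun l => - (P l).poly.coeff 0, fun l => ?_⟩
      rw [map_neg, sub_neg_eq_add]
      exact (P l).monic.eq_X_add_C (hdeg1 l)
    obtain ⟨l, hl⟩ : ∃ l, a l ≠ a i := by
      by_contra hcon
      push_neg at hcon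
      exact hscal (a i) (fun l => by rw [ha l, hcon l])
    have hli : l ≠ i := fun h => hl (by rw [h])
    have haij : a i = a j := by
      have h1 := hPij
      rw [ha i, ha j] at h1
      have h2 := congrArg (fun g => g.coeff 0) h1
      simpa using h2
    have hlj : l ≠ j := fun h => hl (by rw [h, haij])
    have h3 : (P i).poly.natDegree + (P j).poly.natDegree + (P l).poly.natDegree ≤
        ∑ x, (P x).poly.natDegree :=
      sum_three_le (fun x => (P x).poly.natDegree) i j l hij hli.symm hlj.symm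
    rw [hsum, hdeg1, hdeg1, hdeg1] at h3
    have hexc : n = 3 ∧ r = 3 ∧ ¬ 9 ∣ Fintype.card F - 1 := by
      rcases hcond with h | h
      · omega
      · exact ⟨h.1, h.2.1, h.2.2.2⟩
    obtain ⟨hn3, hr3', h9⟩ := hexc
    have hcard : Fintype.card ι = n := by
      rw [← hsum, Finset.sum_congr rfl (fun x _ => hdeg1 x), Finset.sum_const, Finset.card_univ,
        smul_eq_mul, mul_one]
    have huniv : (Finset.univ : Finset ι) = {i, j, l} := by
      symm
      apply Finset.eq_univ_of_card
      rw [hcard, hn3]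
      exact Finset.card_eq_three.mpr ⟨i, j, l, hij, hli.symm, hlj.symm, rfl⟩
    have hinot : i ∉ ({j, l} : Finset ι) := by
      rw [Finset.mem_insert, Finset.mem_singleton]
      rintro (h | h)
      · exact hij h
      · exact hli h.symm
    have hcp' : LinearMap.charpoly W₀ = (X - C (a i)) * ((X - C (a j)) * (X - C (a l))) := by
      rw [hcp, huniv, Finset.prod_insert hinot, Finset.prod_pair hlj.symm, ha i, ha j, ha l]
    have hdet₀ : LinearMap.det W₀ = a i * (a j * a l) := by
      rw [LinearMap.det_eq_sign_charpoly_coeff, hcp', hfin, hn3, mul_coeff_zero, mul_coeff_zero,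
        coeff_sub, coeff_sub, coeff_sub, coeff_X_zero, coeff_C_zero, coeff_C_zero, coeff_C_zero]
      ring
    have hdet₁ : LinearMap.det W₀ = μ⁻¹ ^ 3 := by
      rw [hW₀, LinearMap.det_smul, hfin, hn3, hdet, mul_one]
    have hcube : ∀ x, a x ^ 3 = 1 := by
      intro x
      have h1 := hdvd x
      rw [ha x, dvd_iff_isRoot, IsRoot.def, eval_sub, eval_pow, eval_X, eval_one, hr3',
        sub_eq_zero] at h1
      exact h1
    have h9' : μ⁻¹ ^ 9 = 1 := by
      have h1 : μ⁻¹ ^ 9 = (μ⁻¹ ^ 3) ^ 3 := by rw [← pow_mul]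
      rw [h1, ← hdet₁, hdet₀, mul_pow, mul_pow, hcube, hcube, hcube, mul_one, mul_one]
    have hu3 : μ⁻¹ ^ 3 = 1 := by
      obtain ⟨u, hu⟩ : ∃ u : Fˣ, (u : F) = μ⁻¹ := ⟨Units.mk0 μ⁻¹ (inv_ne_zero hμ0), rfl⟩
      rw [← hu] at h9' ⊢
      rw [← Units.val_pow_eq_pow_val, Units.val_eq_one] at h9' ⊢
      have h1 : orderOf u ∣ 9 := orderOf_dvd_of_pow_eq_one h9'
      have h2 : orderOf u ∣ Fintype.card F - 1 := by
        apply orderOf_dvd_of_pow_eq_one
        rw [← Units.val_eq_one, Units.val_pow_eq_pow_val]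
        exact FiniteField.pow_card_sub_one_eq_one _ u.ne_zero
      have h3 : orderOf u ∣ 3 := by
        have h4 : orderOf u ∣ 3 ^ 2 := h1
        obtain ⟨e, he, he'⟩ := (Nat.dvd_prime_pow Nat.prime_three).mp h4
        interval_cases e
        · rw [he']
          norm_num
        · rw [he']
          norm_num
        · exfalso
          rw [he'] at h2
          exact h9 h2
      exact orderOf_dvd_iff_pow_eq_one.mp h3
    have hai0 : a i ≠ 0 := by
      intro h
      have h1 := hcube i
      rw [h, zero_pow (by norm_num)] at h1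
      exact zero_ne_one h1
    apply hl
    have h5 : a i * (a i * a l) = a i * (a i * a i) := by
      rw [← haij] at hdet₀
      rw [← hdet₀, hdet₁, hu3, ← hcube i]
      ring
    exact mul_left_cancel₀ hai0 (mul_left_cancel₀ hai0 h5)

end Cfsg.Agent.helper29.PG
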