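import Mathlib
import Cfsg.Agent.Lib_helper29_PG4

set_option autoImplicit false
set_option linter.unusedSectionVars false
set_option linter.unusedVariables false
set_option maxHeartbeats 1000000
namespace Cfsg.Agent.helper29.PG
open Polynomial Cfsg.Agent.helper25.SSimple Cfsg.Agent.helper29.EL Cfsg.Agent.helper29.PO

variable {F : Type*} [Field F] [Fintype F]

theorem no_elt (p : ℕ) [Fact p.Prime] [CharP F p] (n : ℕ) (hn : 2 ≤ n) (r : ℕ) (hr : r.Prime)
    (hr2 : r ≠ 2) (hrp : r ≠ p) (k : ℕ) (hk : k = orderOf ((Fintype.card F : ℕ) : ZMod r))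
    (hcond : n - 2 < k ∨ (n = 3 ∧ r = 3 ∧ 3 ∣ Fintype.card F - 1 ∧ ¬ 9 ∣ Fintype.card F - 1))
    (g : Matrix.ProjectiveSpecialLinearGroup (Fin n) F) (hg : orderOf g = r * p) : False := by
  classical
  have hp : p.Prime := Fact.out
  obtain ⟨Y, rfl⟩ := QuotientGroup.mk_surjective g
  have hpow : ∀ j : ℕ, (∃ c : F, (Y : Matrix (Fin n) (Fin n) F) ^ j =
      c • (1 : Matrix (Fin n) (Fin n) F)) ↔ r * p ∣ j := by
    intro j
    rw [← psl_pow_eq_one_iff, ← hg, orderOf_dvd_iff_pow_eq_one]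
  obtain ⟨z, hz⟩ := (hpow (r * p)).mpr dvd_rfl
  have hz0 : z ≠ 0 := by
    apply scalar_ne_zero_of_SL (by omega) (Y ^ (r * p)) z
    rw [Matrix.SpecialLinearGroup.coe_pow]
    exact hz
  obtain ⟨M, hM⟩ : ∃ M : Matrix (Fin n) (Fin n) F, M = (Y : Matrix (Fin n) (Fin n) F) :=
    ⟨_, rfl⟩
  rw [← hM] at hz hpow
  have hMdet : M.det = 1 := by
    rw [hM]
    exact Y.2
  have hpq : ¬ p ∣ Fintype.card F - 1 := by
    intro h
    have h1 : p ∣ Fintype.card F := by
      rw [← CharP.cast_eq_zero_iff F p]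
      exact Nat.cast_card_eq_zero F
    have h2 : 1 < Fintype.card F := Fintype.one_lt_card
    have h3 : p ∣ 1 := by
      have := Nat.dvd_sub h1 h
      rwa [show Fintype.card F - (Fintype.card F - 1) = 1 by omega] at this
    exact hp.one_lt.ne' (Nat.dvd_one.mp h3)
  obtain ⟨l, hl⟩ := exists_pow_eq_of_not_dvd p hp hpq z
  haveI : Nonempty (Fin n) := ⟨⟨0, by omega⟩⟩
  obtain ⟨Nm, hNm⟩ : ∃ Nm : Matrix (Fin n) (Fin n) F,
      Nm = M ^ r - l • (1 : Matrix (Fin n) (Fin n) F) := ⟨_, rfl⟩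
  have hNp : Nm ^ p = 0 := by
    have hc : Commute (M ^ r) (l • (1 : Matrix (Fin n) (Fin n) F)) :=
      (Commute.one_right _).smul_right l
    rw [hNm, sub_pow_char_of_commute p hc, ← pow_mul, hz, _root_.smul_pow, one_pow, hl, sub_self]
  have hNm0 : Nm ≠ 0 := by
    intro h
    rw [hNm, sub_eq_zero] at h
    have h1 := (hpow r).mp ⟨l, h⟩
    have h2 := Nat.le_of_dvd hr.pos h1
    have h3 := Nat.mul_le_mul_left r hp.two_le
    have h4 := hr.pos
    omega
  have hWm : (M ^ p) ^ r = z • (1 : Matrix (Fin n) (Fin n) F) := by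
    rw [← pow_mul, mul_comm p r]
    exact hz
  have hWmns : ∀ c : F, M ^ p ≠ c • (1 : Matrix (Fin n) (Fin n) F) := by
    intro c h
    have h1 := (hpow p).mp ⟨c, h⟩
    have h2 := Nat.le_of_dvd hp.pos h1
    have h3 := Nat.mul_le_mul_right p hr.two_le
    have h4 := hp.pos
    omega
  have hcm : Commute Nm (M ^ p) := by
    rw [hNm]
    exact (Commute.pow_pow_self M r p).sub_left ((Commute.one_left _).smul_left l)
  obtain ⟨W, hWdef⟩ : ∃ W : Module.End F (Fin n → F), W = Matrix.toLin' (M ^ p) := ⟨_, rfl⟩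
  obtain ⟨N, hNdef⟩ : ∃ N : Module.End F (Fin n → F), N = Matrix.toLin' Nm := ⟨_, rfl⟩
  have hW : W ^ r = z • (1 : Module.End F (Fin n → F)) := by
    rw [hWdef]
    exact toLin'_pow_eq (M ^ p) r z hWm
  have hWns : ∀ c : F, W ≠ c • (1 : Module.End F (Fin n → F)) := by
    intro c h
    apply hWmns c
    have h1 := pow_eq_of_toLin' (M ^ p) 1 c (by rw [pow_one, ← hWdef]; exact h)
    rwa [pow_one] at h1
  have hdet : LinearMap.det W = 1 := by
    rw [hWdef, LinearMap.det_toLin', Matrix.det_pow, hMdet, one_pow]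
  have hNp' : N ^ p = 0 := by
    have h1 := toLin'_pow_eq Nm p 0 (by rw [hNp, zero_smul])
    rw [zero_smul] at h1
    rw [hNdef]
    exact h1
  have hN0 : N ≠ 0 := by
    intro h
    apply hNm0
    rw [hNdef] at h
    exact (LinearEquiv.map_eq_zero_iff Matrix.toLin').mp h
  have hcomm : ∀ v, N (W v) = W (N v) := by
    intro v
    rw [hNdef, hWdef, ← Matrix.toLin'_mul_apply, ← Matrix.toLin'_mul_apply, hcm.eq]
  exact core_false p n hn (Module.finrank_fin_fun F) r hr hr2 hrp k hk hcond W N z hz0 hW hWns hdet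
    p hNp' hN0 hcomm

end Cfsg.Agent.helper29.PG
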