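import Mathlib
import Cfsg.Agent.Lib_helper29_PG5

set_option autoImplicit false
set_option linter.unusedSectionVars false
set_option linter.unusedVariables false
set_option maxHeartbeats 1000000
namespace Cfsg.Agent.helper29.PG
open Polynomial Cfsg.Agent.helper25.SSimple Cfsg.Agent.helper29.EL Cfsg.Agent.helper29.PO

/-- the order of `q` modulo `r` divides `d` iff `r` divides `q ^ d - 1` -/
theorem orderOf_dvd_iff_dvd (q r d : ℕ) (hq : 1 ≤ q) :
    orderOf (q : ZMod r) ∣ d ↔ r ∣ q ^ d - 1 := by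
  rw [orderOf_dvd_iff_pow_eq_one, ← ZMod.natCast_eq_zero_iff, Nat.cast_sub (Nat.one_le_pow _ _ hq),
    Nat.cast_pow, Nat.cast_one, sub_eq_zero]

variable {F : Type*} [Field F] [Fintype F]

theorem ord_dvd_deg (Q : MIrr F) (r s : ℕ) (hr : r.Prime) (h1 : Q.poly ∣ X ^ (r * s) - 1)
    (h2 : ¬ Q.poly ∣ X ^ s - 1) :
    orderOf ((Fintype.card F : ℕ) : ZMod r) ∣ Q.poly.natDegree := by
  classical
  haveI : Fact r.Prime := ⟨hr⟩
  haveI : Finite (AdjoinRoot Q.poly) := Module.finite_of_finite F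
  haveI : Fintype (AdjoinRoot Q.poly) := Fintype.ofFinite _
  rw [orderOf_dvd_iff_dvd _ _ _ Fintype.card_pos]
  obtain ⟨β, hβ⟩ : ∃ β : AdjoinRoot Q.poly, β = (AdjoinRoot.root Q.poly) ^ s := ⟨_, rfl⟩
  have hβr : β ^ r = 1 := by
    rw [hβ, ← pow_mul, mul_comm s r]
    have h3 := (root_pow_eq_iff Q (r * s) 1).mpr (by rwa [map_one])
    rw [h3, map_one]
  have hβ1 : β ≠ 1 := by
    intro h
    apply h2
    have h3 := (root_pow_eq_iff Q s 1).mp (by rw [← hβ, h, map_one])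
    rwa [map_one] at h3
  have hord : orderOf β = r := orderOf_eq_prime hβr hβ1
  have hβ0 : β ≠ 0 := by
    intro h
    rw [h, zero_pow hr.ne_zero] at hβr
    exact zero_ne_one hβr
  have h3 := FiniteField.pow_card_sub_one_eq_one β hβ0
  rw [Module.card_eq_pow_finrank (K := F), finrank_adjoinRoot] at h3
  rw [← hord]
  exact orderOf_dvd_of_pow_eq_one h3

theorem no_elt_two (p : ℕ) [Fact p.Prime] [CharP F p] (n : ℕ) (hn : 2 ≤ n) (r s : ℕ)
    (hr : r.Prime) (hs : s.Prime) (hrp : r ≠ p) (hsp : s ≠ p) (hrs : r ≠ s) (k l : ℕ)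
    (hk : k = orderOf ((Fintype.card F : ℕ) : ZMod r))
    (hl : l = orderOf ((Fintype.card F : ℕ) : ZMod s))
    (h2k : 2 ≤ k) (hkl : k ≤ l) (hnkl : n < k + l) (hndvd : ¬ k ∣ l)
    (g : Matrix.ProjectiveSpecialLinearGroup (Fin n) F) (hg : orderOf g = r * s) : False := by
  classical
  have hp : p.Prime := Fact.out
  have hq1 : 1 ≤ Fintype.card F := Fintype.card_pos
  obtain ⟨Y, rfl⟩ := QuotientGroup.mk_surjective g
  have hpow : ∀ j : ℕ, (∃ c : F, (Y : Matrix (Fin n) (Fin n) F) ^ j =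
      c • (1 : Matrix (Fin n) (Fin n) F)) ↔ r * s ∣ j := by
    intro j
    rw [← psl_pow_eq_one_iff, ← hg, orderOf_dvd_iff_pow_eq_one]
  obtain ⟨z, hz⟩ := (hpow (r * s)).mpr dvd_rfl
  have hz0 : z ≠ 0 := by
    apply scalar_ne_zero_of_SL (by omega) (Y ^ (r * s)) z
    rw [Matrix.SpecialLinearGroup.coe_pow]
    exact hz
  have hrq : ¬ r ∣ Fintype.card F - 1 := by
    intro h
    have h1 := (orderOf_eq_one_iff_dvd (Fintype.card F) r hq1).mpr h
    rw [← hk] at h1
    omega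
  have hsq : ¬ s ∣ Fintype.card F - 1 := by
    intro h
    have h1 := (orderOf_eq_one_iff_dvd (Fintype.card F) s hq1).mpr h
    rw [← hl] at h1
    omega
  obtain ⟨μ₁, hμ₁⟩ := exists_pow_eq_of_not_dvd r hr hrq z
  obtain ⟨μ, hμ⟩ := exists_pow_eq_of_not_dvd s hs hsq μ₁
  have hμz : μ ^ (r * s) = z := by rw [mul_comm, pow_mul, hμ, hμ₁]
  have hμ0 : μ ≠ 0 := by
    intro h
    rw [h, zero_pow (Nat.mul_ne_zero hr.ne_zero hs.ne_zero)] at hμz
    exact hz0 hμz.symm
  have hrF : (r : F) ≠ 0 := by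
    intro h
    have h1 := (CharP.cast_eq_zero_iff F p r).mp h
    exact hrp ((Nat.prime_dvd_prime_iff_eq hp hr).mp h1).symm
  have hsF : (s : F) ≠ 0 := by
    intro h
    have h1 := (CharP.cast_eq_zero_iff F p s).mp h
    exact hsp ((Nat.prime_dvd_prime_iff_eq hp hs).mp h1).symm
  have hrsF : ((r * s : ℕ) : F) ≠ 0 := by
    rw [Nat.cast_mul]
    exact mul_ne_zero hrF hsF
  obtain ⟨f, hf⟩ : ∃ f : Module.End F (Fin n → F),
      f = Matrix.toLin' (Y : Matrix (Fin n) (Fin n) F) := ⟨_, rfl⟩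
  have hfz : f ^ (r * s) = z • (1 : Module.End F (Fin n → F)) := by
    rw [hf]
    exact toLin'_pow_eq _ (r * s) z hz
  obtain ⟨f₀, hf₀⟩ : ∃ f₀ : Module.End F (Fin n → F), f₀ = μ⁻¹ • f := ⟨_, rfl⟩
  have hff₀ : f = μ • f₀ := by rw [hf₀, smul_smul, mul_inv_cancel₀ hμ0, one_smul]
  have hf₀r : f₀ ^ (r * s) = (1 : F) • (1 : Module.End F (Fin n → F)) := by
    rw [hf₀, _root_.smul_pow, hfz, smul_smul, inv_pow, hμz, inv_mul_cancel₀ hz0]
  have hss : f₀.IsSemisimple := isSemisimple_of_pow_eq f₀ (r * s) hrsF 1 one_ne_zero hf₀r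
  obtain ⟨ι, hι, P, φ, hφ, hcp⟩ := exists_ss_model_charpoly _ _ f₀ hss rfl
  have hsum : ∑ j, (P j).poly.natDegree = n := by
    rw [sum_deg_eq P φ, Module.finrank_fin_fun]
  have hdvd : ∀ i, (P i).poly ∣ X ^ (r * s) - 1 := by
    intro i
    have h1 := dvd_of_pow_eq P f₀ φ hφ (r * s) 1 hf₀r i
    rwa [map_one] at h1
  have hnot : ∀ t : ℕ, ¬ r * s ∣ t → f₀ ^ t ≠ (1 : F) • (1 : Module.End F (Fin n → F)) := by
    intro t ht h
    have h1 : f ^ t = (μ ^ t) • (1 : Module.End F (Fin n → F)) := by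
      rw [hff₀, _root_.smul_pow, h, smul_smul, mul_one]
    rw [hf] at h1
    have h2 := pow_eq_of_toLin' _ t (μ ^ t) h1
    exact ht ((hpow t).mp ⟨_, h2⟩)
  have hns : ¬ r * s ∣ s := by
    intro h3
    have h4 := Nat.le_of_dvd hs.pos h3
    have h5 := Nat.mul_le_mul_right s hr.two_le
    have h6 := hs.pos
    omega
  have hnr : ¬ r * s ∣ r := by
    intro h3
    have h4 := Nat.le_of_dvd hr.pos h3
    have h5 := Nat.mul_le_mul_left r hs.two_le
    have h6 := hr.pos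
    omega
  obtain ⟨i, hi⟩ : ∃ i, ¬ (P i).poly ∣ X ^ s - 1 := by
    by_contra hcon
    push_neg at hcon
    exact hnot s hns (pow_of_dvd P f₀ φ hφ s 1 (fun j => by rw [map_one]; exact hcon j))
  obtain ⟨j, hj⟩ : ∃ j, ¬ (P j).poly ∣ X ^ r - 1 := by
    by_contra hcon
    push_neg at hcon
    exact hnot r hnr (pow_of_dvd P f₀ φ hφ r 1 (fun j => by rw [map_one]; exact hcon j))
  have hki : k ∣ (P i).poly.natDegree := by
    rw [hk]
    exact ord_dvd_deg (P i) r s hr (hdvd i) hi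
  have hlj : l ∣ (P j).poly.natDegree := by
    rw [hl]
    exact ord_dvd_deg (P j) s r hs (by rw [mul_comm]; exact hdvd j) hj
  have hdegpos : ∀ x, 0 < (P x).poly.natDegree := fun x => (P x).irr.natDegree_pos
  by_cases hij : i = j
  · subst hij
    have hlcm : Nat.lcm k l ∣ (P i).poly.natDegree := Nat.lcm_dvd hki hlj
    have hle : (P i).poly.natDegree ≤ n := by
      rw [← hsum]
      exact Finset.single_le_sum (f := fun x => (P x).poly.natDegree) (fun _ _ => Nat.zero_le _)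
        (Finset.mem_univ i)
    have h1 : Nat.lcm k l ≤ n := le_trans (Nat.le_of_dvd (hdegpos i) hlcm) hle
    obtain ⟨t, ht⟩ := Nat.dvd_lcm_right k l
    have hlpos : 0 < l := by omega
    have ht1 : t = 1 := by
      have hlt : l * t < l * 2 := by
        rw [← ht]
        omega
      have h3 := Nat.lt_of_mul_lt_mul_left hlt
      have ht0 : t ≠ 0 := by
        intro h0
        rw [h0, mul_zero] at ht
        exact (Nat.lcm_pos (by omega) hlpos).ne' ht
      omega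
    apply hndvd
    have h4 := Nat.dvd_lcm_left k l
    rw [ht, ht1, mul_one] at h4
    exact h4
  · have h2 : (P i).poly.natDegree + (P j).poly.natDegree ≤ ∑ x, (P x).poly.natDegree :=
      sum_two_le (fun x => (P x).poly.natDegree) i j hij
    rw [hsum] at h2
    have h3 := Nat.le_of_dvd (hdegpos i) hki
    have h4 := Nat.le_of_dvd (hdegpos j) hlj
    omega

end Cfsg.Agent.helper29.PG
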