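import Mathlib
import Cfsg.Agent.Lib_helper12_Card
import Cfsg.Agent.Lib_helper29_PG3
import Cfsg.Agent.Lib_helper29_PG6

set_option autoImplicit false
set_option linter.unusedSectionVars false
set_option linter.unusedVariables false
set_option maxHeartbeats 1000000
namespace Cfsg.Agent.helper29.PG
open Cfsg.Agent.helper29.EL Cfsg.Agent.helper29.PO

variable {F : Type*} [Field F]

theorem good_block {a b : ℕ} (S₁ : Matrix (Fin a) (Fin a) F) (S₂ : Matrix (Fin b) (Fin b) F)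
    (D₁ D₂ : ℕ → Prop) (h₁d : S₁.det = 1)
    (h₁ : ∀ (t : ℕ) (c : F), S₁ ^ t = c • (1 : Matrix (Fin a) (Fin a) F) ↔ (c = 1 ∧ D₁ t))
    (h₂d : S₂.det = 1)
    (h₂ : ∀ (t : ℕ) (c : F), S₂ ^ t = c • (1 : Matrix (Fin b) (Fin b) F) ↔ (c = 1 ∧ D₂ t)) :
    ∃ M : Matrix (Fin (a + b)) (Fin (a + b)) F, M.det = 1 ∧
      ∀ (t : ℕ) (c : F), M ^ t = c • (1 : Matrix (Fin (a + b)) (Fin (a + b)) F) ↔
        (c = 1 ∧ D₁ t ∧ D₂ t) := by
  classical
  refine ⟨Matrix.reindexAlgEquiv F F finSumFinEquiv (Matrix.fromBlocks S₁ 0 0 S₂), ?_, ?_⟩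
  · rw [Matrix.det_reindexAlgEquiv, Matrix.det_fromBlocks_zero₂₁, h₁d, h₂d, one_mul]
  · intro t c
    rw [reindex_pow_eq_iff, block_pow_eq_iff, h₁, h₂]
    tauto

theorem good_pad {a : ℕ} (d : ℕ) (S : Matrix (Fin a) (Fin a) F) (D : ℕ → Prop) (hd : S.det = 1)
    (h : ∀ (t : ℕ) (c : F), S ^ t = c • (1 : Matrix (Fin a) (Fin a) F) ↔ (c = 1 ∧ D t)) :
    ∃ M : Matrix (Fin (a + d)) (Fin (a + d)) F, M.det = 1 ∧
      ∀ (t : ℕ) (c : F), M ^ t = c • (1 : Matrix (Fin (a + d)) (Fin (a + d)) F) ↔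
        (c = 1 ∧ D t) := by
  classical
  refine ⟨Matrix.reindexAlgEquiv F F finSumFinEquiv
    (Matrix.fromBlocks S 0 0 (1 : Matrix (Fin d) (Fin d) F)), ?_, ?_⟩
  · rw [Matrix.det_reindexAlgEquiv, Matrix.det_fromBlocks_zero₂₁, hd, Matrix.det_one, one_mul]
  · intro t c
    rw [reindex_pow_eq_iff, block_pow_eq_iff, h, one_pow]
    constructor
    · rintro ⟨h1, _⟩
      exact h1
    · rintro ⟨rfl, h2⟩
      exact ⟨⟨rfl, h2⟩, (one_smul _ _).symm⟩

theorem exists_psl_of_good {n : ℕ} (M : Matrix (Fin n) (Fin n) F) (N : ℕ) (hd : M.det = 1)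
    (h : ∀ (t : ℕ) (c : F), M ^ t = c • (1 : Matrix (Fin n) (Fin n) F) ↔ (c = 1 ∧ N ∣ t)) :
    ∃ g : Matrix.ProjectiveSpecialLinearGroup (Fin n) F, orderOf g = N := by
  refine ⟨QuotientGroup.mk ⟨M, hd⟩, orderOf_eq_of_pow_iff _ N ?_⟩
  intro t
  refine Iff.trans (psl_pow_eq_one_iff (⟨M, hd⟩ : Matrix.SpecialLinearGroup (Fin n) F) t) ?_
  show (∃ c : F, M ^ t = c • (1 : Matrix (Fin n) (Fin n) F)) ↔ _
  constructor
  · rintro ⟨c, hc⟩
    exact ((h t c).mp hc).2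
  · intro ht
    exact ⟨1, (h t 1).mpr ⟨rfl, ht⟩⟩

variable [Fintype F]

theorem exists_field_block (p : ℕ) [Fact p.Prime] [CharP F p] (l : ℕ) (hl : 1 ≤ l) (N : ℕ)
    (hN0 : 0 < N) (hN : N ∣ Fintype.card F ^ l - 1) (hcop : Nat.Coprime N (Fintype.card F - 1)) :
    ∃ S : Matrix (Fin l) (Fin l) F, S.det = 1 ∧
      ∀ (t : ℕ) (c : F), S ^ t = c • (1 : Matrix (Fin l) (Fin l) F) ↔ (c = 1 ∧ N ∣ t) := by
  classical
  haveI : NeZero l := ⟨by omega⟩
  obtain ⟨K, hK1, hK2, hK3, hK4, hd⟩ : ∃ (K : Type) (_ : Field K) (_ : Fintype K)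
      (_ : Algebra F K) (_ : Module.Finite F K), Module.finrank F K = l :=
    ⟨FiniteField.Extension F p l, inferInstance, Fintype.ofFinite _, inferInstance, inferInstance,
      FiniteField.finrank_extension F p l⟩
  have hcardK : Fintype.card K = Fintype.card F ^ l := by
    rw [Module.card_eq_pow_finrank (K := F) (V := K), hd]
  obtain ⟨u, hu⟩ := exists_unit_order (F := K) N (by rw [hcardK]; exact hN) hN0
  obtain ⟨ρ, hρ⟩ : ∃ ρ : K, ρ = (u : K) := ⟨_, rfl⟩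
  have hρpow : ∀ t : ℕ, ρ ^ t = 1 ↔ N ∣ t := by
    intro t
    rw [hρ, ← Units.val_pow_eq_pow_val, Units.val_eq_one, ← orderOf_dvd_iff_pow_eq_one, hu]
  have hρ0 : ρ ≠ 0 := by
    rw [hρ]
    exact u.ne_zero
  obtain ⟨b, -⟩ : ∃ b : Module.Basis (Fin l) F K, True :=
    ⟨Module.finBasisOfFinrankEq F K hd, trivial⟩
  have hnorm : Algebra.norm F ρ = 1 := by
    obtain ⟨ν, hν⟩ : ∃ ν : F, ν = Algebra.norm F ρ := ⟨_, rfl⟩
    rw [← hν]
    have h1 : ν ^ N = 1 := by rw [hν, ← map_pow, (hρpow N).mpr dvd_rfl, map_one]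
    have hν0 : ν ≠ 0 := by
      intro h
      rw [h, zero_pow hN0.ne'] at h1
      exact zero_ne_one h1
    have h2 : ν ^ (Fintype.card F - 1) = 1 := FiniteField.pow_card_sub_one_eq_one ν hν0
    have h3 := pow_gcd_eq_one.mpr ⟨h1, h2⟩
    rwa [hcop.gcd_eq_one, pow_one] at h3
  refine ⟨Algebra.leftMulMatrix b ρ, ?_, ?_⟩
  · rw [← Algebra.norm_eq_matrix_det b ρ]
    exact hnorm
  · intro t c
    have hiff : (Algebra.leftMulMatrix b ρ) ^ t = c • (1 : Matrix (Fin l) (Fin l) F) ↔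
        ρ ^ t = algebraMap F K c := by
      constructor
      · intro hc
        apply Algebra.leftMulMatrix_injective b
        rw [AlgHom.commutes, map_pow, Algebra.algebraMap_eq_smul_one]
        exact hc
      · intro hc
        rw [← map_pow, hc, AlgHom.commutes, Algebra.algebraMap_eq_smul_one]
    rw [hiff]
    constructor
    · intro h
      have hc0 : c ≠ 0 := by
        intro h0
        rw [h0, map_zero] at h
        exact pow_ne_zero t hρ0 h
      have h1 : ρ ^ (t * (Fintype.card F - 1)) = 1 := by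
        rw [pow_mul, h, ← map_pow, FiniteField.pow_card_sub_one_eq_one c hc0, map_one]
      have h2 : N ∣ t := (hcop.dvd_mul_right).mp ((hρpow _).mp h1)
      refine ⟨?_, h2⟩
      rw [(hρpow t).mpr h2] at h
      exact (algebraMap F K).injective (by rw [← h, map_one])
    · rintro ⟨rfl, h2⟩
      rw [(hρpow t).mpr h2, map_one]

theorem exists_elt_two (p : ℕ) [Fact p.Prime] [CharP F p] (n : ℕ) (r s : ℕ) (hr : r.Prime)
    (hs : s.Prime) (hrs : r ≠ s) (k l : ℕ)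
    (hk : k = orderOf ((Fintype.card F : ℕ) : ZMod r))
    (hl : l = orderOf ((Fintype.card F : ℕ) : ZMod s)) (h2k : 2 ≤ k) (hkl : k ≤ l)
    (hln : l ≤ n) (hcase : k + l ≤ n ∨ k ∣ l) :
    ∃ g : Matrix.ProjectiveSpecialLinearGroup (Fin n) F, orderOf g = r * s := by
  have hq1 : 1 ≤ Fintype.card F := Fintype.card_pos
  have hrq : Nat.Coprime r (Fintype.card F - 1) := by
    rw [Nat.Prime.coprime_iff_not_dvd hr]
    intro h
    have h1 := (orderOf_eq_one_iff_dvd (Fintype.card F) r hq1).mpr h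
    rw [← hk] at h1
    omega
  have hsq : Nat.Coprime s (Fintype.card F - 1) := by
    rw [Nat.Prime.coprime_iff_not_dvd hs]
    intro h
    have h1 := (orderOf_eq_one_iff_dvd (Fintype.card F) s hq1).mpr h
    rw [← hl] at h1
    omega
  have hrk : r ∣ Fintype.card F ^ k - 1 :=
    (orderOf_dvd_iff_dvd _ _ _ hq1).mp (by rw [← hk])
  have hsl : s ∣ Fintype.card F ^ l - 1 :=
    (orderOf_dvd_iff_dvd _ _ _ hq1).mp (by rw [← hl])
  have hcoprs : Nat.Coprime r s := (Nat.coprime_primes hr hs).mpr hrs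
  rcases hcase with h | h
  · obtain ⟨d, rfl⟩ : ∃ d, n = (k + l) + d := ⟨n - (k + l), by omega⟩
    obtain ⟨S₁, h1d, h1⟩ := exists_field_block (F := F) p k (by omega) r hr.pos hrk hrq
    obtain ⟨S₂, h2d, h2⟩ := exists_field_block (F := F) p l (by omega) s hs.pos hsl hsq
    obtain ⟨M₁, hM1d, hM1⟩ := good_block S₁ S₂ (fun t => r ∣ t) (fun t => s ∣ t) h1d h1 h2d h2
    obtain ⟨M, hMd, hM⟩ := good_pad d M₁ (fun t => r ∣ t ∧ s ∣ t) hM1d hM1
    apply exists_psl_of_good M (r * s) hMd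
    intro t c
    rw [hM]
    constructor
    · rintro ⟨h1, h2, h3⟩
      exact ⟨h1, hcoprs.mul_dvd_of_dvd_of_dvd h2 h3⟩
    · rintro ⟨h1, h2⟩
      exact ⟨h1, dvd_trans (dvd_mul_right r s) h2, dvd_trans (dvd_mul_left s r) h2⟩
  · obtain ⟨d, rfl⟩ : ∃ d, n = l + d := ⟨n - l, by omega⟩
    have hrl : r ∣ Fintype.card F ^ l - 1 :=
      (orderOf_dvd_iff_dvd _ _ _ hq1).mp (by rw [← hk]; exact h)
    have hrsl : r * s ∣ Fintype.card F ^ l - 1 := hcoprs.mul_dvd_of_dvd_of_dvd hrl hsl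
    obtain ⟨S, hSd, hS⟩ := exists_field_block (F := F) p l (by omega) (r * s)
      (Nat.mul_pos hr.pos hs.pos) hrsl (Nat.Coprime.mul_left hrq hsq)
    obtain ⟨M, hMd, hM⟩ := good_pad d S (fun t => r * s ∣ t) hSd hS
    exact exists_psl_of_good M (r * s) hMd hM

theorem ord_le_of_dvd_card (p : ℕ) [Fact p.Prime] [CharP F p] (n : ℕ) (hn : 1 ≤ n) (s : ℕ)
    (hs : s.Prime) (hsp : s ≠ p)
    (hsG : s ∣ Nat.card (Matrix.ProjectiveSpecialLinearGroup (Fin n) F)) :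
    orderOf ((Fintype.card F : ℕ) : ZMod s) ≤ n := by
  classical
  have hp : p.Prime := Fact.out
  have hq1 : 1 ≤ Fintype.card F := Fintype.card_pos
  have h1 : Nat.card (Matrix.ProjectiveSpecialLinearGroup (Fin n) F) ∣
      Nat.card (Matrix.SpecialLinearGroup (Fin n) F) :=
    Subgroup.card_quotient_dvd_card _
  have h2 := Cfsg.Agent.helper12.card_GL_eq_card_SL_mul (F := F) n hn
  have h3 : s ∣ Nat.card (Matrix.GeneralLinearGroup (Fin n) F) := by
    rw [h2]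
    exact Dvd.dvd.mul_right (dvd_trans hsG h1) _
  rw [Matrix.card_GL_field] at h3
  obtain ⟨i, -, hi⟩ := Prime.exists_mem_finset_dvd hs.prime h3
  have hin : (i : ℕ) < n := i.2
  have hfac : Fintype.card F ^ n - Fintype.card F ^ (i : ℕ) =
      Fintype.card F ^ (i : ℕ) * (Fintype.card F ^ (n - (i : ℕ)) - 1) := by
    rw [Nat.mul_sub, mul_one, ← pow_add, Nat.add_sub_cancel' hin.le]
  rw [hfac] at hi
  rcases (Nat.Prime.dvd_mul hs).mp hi with h | h
  · exfalso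
    have h4 := hs.dvd_of_dvd_pow h
    obtain ⟨a, -, ha⟩ := FiniteField.card F p
    rw [ha] at h4
    exact hsp ((Nat.prime_dvd_prime_iff_eq hs hp).mp (hs.dvd_of_dvd_pow h4))
  · have h5 := (orderOf_dvd_iff_dvd (Fintype.card F) s (n - (i : ℕ)) hq1).mpr h
    have h6 := Nat.le_of_dvd (by omega) h5
    omega

end Cfsg.Agent.helper29.PG
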