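import Mathlib
import Cfsg.Agent.S5013
import Cfsg.Prelude.Def_Transfer

set_option autoImplicit false
set_option linter.unusedSectionVars false
set_option linter.unusedVariables false

namespace Cfsg.Agent.helper29.Quad

open Cfsg

variable {X : Type*} [Group X] {V : Type*} [AddCommGroup V] [DistribMulAction X V]

/-- the action as a homomorphism into the endomorphism ring -/
noncomputable def rho : X →* AddMonoid.End V := DistribMulAction.toAddMonoidEnd X V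

theorem rho_apply (x : X) (v : V) : (rho x : AddMonoid.End V) v = x • v := rfl

/-- `x - 1` in the endomorphism ring -/
noncomputable def dd (x : X) : AddMonoid.End V := rho x - 1

theorem dd_apply (x : X) (v : V) : (dd x : AddMonoid.End V) v = x • v - v := rfl

theorem rho_eq (x : X) : (rho x : AddMonoid.End V) = 1 + dd x := by
  unfold dd; abel

theorem dd_mul (x y : X) : (dd (x * y) : AddMonoid.End V) = dd x * dd y + dd x + dd y := by
  unfold dd
  rw [map_mul]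
  noncomm_ring

theorem dd_one : (dd (1 : X) : AddMonoid.End V) = 0 := by
  unfold dd
  rw [map_one, sub_self]

theorem dd_conj (g a : X) : (dd (g * a * g⁻¹) : AddMonoid.End V) = rho g * dd a * rho g⁻¹ := by
  unfold dd
  have h1 : (rho g : AddMonoid.End V) * rho g⁻¹ = 1 := by rw [← map_mul, mul_inv_cancel, map_one]
  rw [map_mul, map_mul, mul_sub, sub_mul, mul_one, h1]

theorem rho_injective (hf : ∀ x : X, (∀ v : V, x • v = v) → x = 1) :
    Function.Injective (rho : X →* AddMonoid.End V) := by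
  rw [injective_iff_map_eq_one]
  intro x hx
  apply hf
  intro v
  rw [← rho_apply, hx]
  rfl

theorem one_add_pow_of_sq_zero {E : Type*} [Ring E] (x : E) (hx : x * x = 0) (n : ℕ) :
    (1 + x) ^ n = 1 + (n : E) * x := by
  induction n with
  | zero => rw [pow_zero, Nat.cast_zero, zero_mul, add_zero]
  | succ n ih =>
    rw [pow_succ, ih, add_mul, mul_add, mul_add, mul_one, one_mul, mul_one, mul_assoc, hx, mul_zero,
      add_zero, Nat.cast_succ, add_mul, one_mul]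
    abel

theorem comm_of {E : Type*} [Ring E] (d Q : E) (h1 : d * Q = 0) (h2 : Q * d = 0) :
    (1 + d) * (1 + Q) = (1 + Q) * (1 + d) := by
  have l : (1 + d) * (1 + Q) = 1 + d + Q + d * Q := by noncomm_ring
  have r : (1 + Q) * (1 + d) = 1 + Q + d + Q * d := by noncomm_ring
  rw [l, r, h1, h2]
  abel

/-- moving a central element inside a product -/
theorem Pmid {E : Type*} [Ring E] (P : E) (hP : ∀ y, P * y = y * P) (y z : E) : P * (y * z) = y * (P * z) := by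
  rw [← mul_assoc, hP y, mul_assoc]

theorem conjP {E : Type*} [Ring E] (P x s : E) (hP : ∀ y, P * y = y * P) (hx : P * x = 0) :
    P * ((1 + -x) * s * (1 + x)) = P * s := by
  have h1 : ((1 + -x) * s * (1 + x) : E) = s + s * x - x * s - x * s * x := by noncomm_ring
  have h2 : P * (s * x) = 0 := by rw [Pmid P hP, hx, mul_zero]
  have h3 : P * (x * s) = 0 := by rw [← mul_assoc, hx, zero_mul]
  have h4 : P * (x * s * x) = 0 := by rw [mul_assoc, ← mul_assoc, hx, zero_mul]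
  rw [h1, mul_sub, mul_sub, mul_add, h2, h3, h4, add_zero, sub_zero, sub_zero]

theorem dd_conj' (g a : X) : (dd (g⁻¹ * a * g) : AddMonoid.End V) = rho g⁻¹ * dd a * rho g := by
  have := dd_conj (V := V) g⁻¹ a
  rwa [inv_inv] at this

theorem dd_inv_of (x : X) (h : (dd x⁻¹ : AddMonoid.End V) * dd x = 0) :
    (dd x⁻¹ : AddMonoid.End V) = - dd x := by
  have := dd_mul (V := V) x⁻¹ x
  rw [inv_mul_cancel, dd_one, h, zero_add] at this
  exact eq_neg_of_add_eq_zero_left this.symm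

theorem rho_inv_mul (g : X) : (rho g⁻¹ : AddMonoid.End V) * rho g = 1 := by
  rw [← map_mul, inv_mul_cancel, map_one]

theorem rho_mul_inv (g : X) : (rho g : AddMonoid.End V) * rho g⁻¹ = 1 := by
  rw [← map_mul, mul_inv_cancel, map_one]

theorem mem_conjBy' {G : Type*} [Group G] {A : Subgroup G} {b x : G} :
    x ∈ Cfsg.conjBy A b ↔ ∃ a ∈ A, b * a * b⁻¹ = x := by
  unfold Cfsg.conjBy
  rw [Subgroup.mem_map]
  rfl

theorem main {A B : Subgroup X} (h : Cfsg.IsRankOneGroup X A B)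
    (hf : ∀ x : X, (∀ v : V, x • v = v) → x = 1)
    (hq : ∀ a ∈ A, ∀ a' ∈ A, ∀ v : V, a' • (a • v - v) = a • v - v) :
    (∀ a ∈ A, a ≠ 1 → ¬ IsOfFinOrder a) ∨ ∃ p : ℕ, p.Prime ∧ Cfsg.IsElementaryAbelian p A := by
  obtain ⟨hgen, hpair⟩ := h
  have hinj := rho_injective (V := V) hf
  have hQA : ∀ a ∈ A, ∀ a' ∈ A, (dd a' : AddMonoid.End V) * dd a = 0 := by
    intro a ha a' ha'
    ext v
    show a' • (a • v - v) - (a • v - v) = 0
    rw [hq a ha a' ha', sub_self]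
  have hcomm : ∀ a ∈ A, ∀ a' ∈ A, a * a' = a' * a := by
    intro a ha a' ha'
    apply hinj
    rw [rho_eq, rho_eq, dd_mul, dd_mul, hQA a' ha' a ha, hQA a ha a' ha']
    abel
  by_cases hfin : ∃ a ∈ A, a ≠ 1 ∧ IsOfFinOrder a
  swap
  · left
    intro a ha ha1 hfo
    exact hfin ⟨a, ha, ha1, hfo⟩
  right
  obtain ⟨a₁, ha₁, ha₁1, hfo⟩ := hfin
  have hn0 : orderOf a₁ ≠ 0 := hfo.orderOf_pos.ne'
  have hn1 : orderOf a₁ ≠ 1 := by rwa [Ne, orderOf_eq_one_iff]
  obtain ⟨p, hp, hpd⟩ := Nat.exists_prime_and_dvd hn1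
  obtain ⟨a₀, ha₀def⟩ : ∃ a₀, a₀ = a₁ ^ (orderOf a₁ / p) := ⟨_, rfl⟩
  have ha₀ord : orderOf a₀ = p := by
    rw [ha₀def]
    exact orderOf_pow_orderOf_div hn0 hpd
  have ha₀ : a₀ ∈ A := ha₀def ▸ A.pow_mem ha₁ _
  have ha₀1 : a₀ ≠ 1 := by
    intro h1
    rw [h1, orderOf_one] at ha₀ord
    exact hp.one_lt.ne ha₀ord
  have ha₀p : a₀ ^ p = 1 := by
    rw [← ha₀ord]
    exact pow_orderOf_eq_one a₀
  refine ⟨p, hp, ⟨⟨fun a a' => Subtype.ext (hcomm a a.2 a' a'.2)⟩⟩, ?_⟩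
  obtain ⟨P, hPdef⟩ : ∃ P : AddMonoid.End V, P = (p : AddMonoid.End V) := ⟨_, rfl⟩
  have hP : ∀ y : AddMonoid.End V, P * y = y * P := fun y => by rw [hPdef]; exact Nat.cast_comm p y
  have hpa₀ : P * (dd a₀ : AddMonoid.End V) = 0 := by
    have := one_add_pow_of_sq_zero (dd a₀ : AddMonoid.End V) (hQA a₀ ha₀ a₀ ha₀) p
    rw [← rho_eq, ← map_pow, ha₀p, map_one, ← hPdef] at this
    exact left_eq_add.mp this
  obtain ⟨b₀, hb₀, hb₀1, hconj⟩ := hpair.cond_left a₀ ha₀ ha₀1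
  have hBA : ∀ b ∈ B, ∃ a ∈ A, b₀⁻¹ * a * b₀ = a₀⁻¹ * b * a₀ := by
    intro b hb
    have hmem : a₀⁻¹ * b * a₀ ∈ Cfsg.conjBy B a₀⁻¹ := mem_conjBy'.mpr ⟨b, hb, by rw [inv_inv]⟩
    rw [← hconj] at hmem
    obtain ⟨a, ha, hab⟩ := mem_conjBy'.mp hmem
    rw [inv_inv] at hab
    exact ⟨a, ha, hab⟩
  have hAB : ∀ a ∈ A, ∃ b ∈ B, b₀⁻¹ * a * b₀ = a₀⁻¹ * b * a₀ := by
    intro a ha
    have hmem : b₀⁻¹ * a * b₀ ∈ Cfsg.conjBy A b₀⁻¹ := mem_conjBy'.mpr ⟨a, ha, by rw [inv_inv]⟩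
    rw [hconj] at hmem
    obtain ⟨b, hb, hab⟩ := mem_conjBy'.mp hmem
    rw [inv_inv] at hab
    exact ⟨b, hb, hab.symm⟩
  have hconjB : ∀ b ∈ B, ∃ a ∈ A, b = (a₀ * b₀⁻¹) * a * (a₀ * b₀⁻¹)⁻¹ := by
    intro b hb
    obtain ⟨a, ha, hab⟩ := hBA b hb
    refine ⟨a, ha, ?_⟩
    calc b = a₀ * (a₀⁻¹ * b * a₀) * a₀⁻¹ := by group
      _ = a₀ * (b₀⁻¹ * a * b₀) * a₀⁻¹ := by rw [hab]
      _ = _ := by group
  have hQB : ∀ b ∈ B, ∀ b' ∈ B, (dd b' : AddMonoid.End V) * dd b = 0 := by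
    intro b hb b' hb'
    obtain ⟨a, ha, rfl⟩ := hconjB b hb
    obtain ⟨a', ha', rfl⟩ := hconjB b' hb'
    rw [dd_conj, dd_conj]
    calc (rho (a₀ * b₀⁻¹) * dd a' * rho (a₀ * b₀⁻¹)⁻¹ * (rho (a₀ * b₀⁻¹) * dd a * rho (a₀ * b₀⁻¹)⁻¹) :
          AddMonoid.End V)
        = rho (a₀ * b₀⁻¹) * (dd a' * (rho (a₀ * b₀⁻¹)⁻¹ * rho (a₀ * b₀⁻¹)) * dd a) * rho (a₀ * b₀⁻¹)⁻¹ := by
          noncomm_ring
      _ = 0 := by rw [rho_inv_mul, mul_one, hQA a ha a' ha', mul_zero, zero_mul]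
  have hb₀i : b₀⁻¹ ∈ B := B.inv_mem hb₀
  have hdb₀i : (dd b₀⁻¹ : AddMonoid.End V) = - dd b₀ := dd_inv_of b₀ (hQB b₀ hb₀ b₀⁻¹ hb₀i)
  have hda₀i : (dd a₀⁻¹ : AddMonoid.End V) = - dd a₀ := dd_inv_of a₀ (hQA a₀ ha₀ a₀⁻¹ (A.inv_mem ha₀))
  intro a ha
  obtain ⟨b, hb, hab⟩ := hAB a ha
  have R : (rho b₀⁻¹ * dd a * rho b₀ : AddMonoid.End V) = rho a₀⁻¹ * dd b * rho a₀ := by
    rw [← dd_conj', ← dd_conj', hab]
  -- multiply by p
  have E1 : P * (rho b₀⁻¹ * dd a * rho b₀ : AddMonoid.End V) = P * dd b := by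
    rw [R, rho_eq a₀⁻¹, rho_eq a₀, hda₀i]
    exact conjP P _ _ hP hpa₀
  have E2 : ∀ b' ∈ B, P * ((dd b' : AddMonoid.End V) * dd a) = 0 := by
    intro b' hb'
    have h2 : (dd b' : AddMonoid.End V) * rho b₀⁻¹ = dd b' := by
      rw [rho_eq, mul_add, mul_one, hQB b₀⁻¹ hb₀i b' hb', add_zero]
    have h1 : P * ((dd b' : AddMonoid.End V) * (rho b₀⁻¹ * dd a * rho b₀)) = 0 := by
      rw [Pmid P hP, E1, ← Pmid P hP, hQB b hb b' hb', mul_zero]
    have h5 : ((dd b' : AddMonoid.End V) * (rho b₀⁻¹ * dd a * rho b₀)) = dd b' * dd a * rho b₀ := by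
      rw [← mul_assoc, ← mul_assoc, h2]
    rw [h5] at h1
    have h3 : P * ((dd b' : AddMonoid.End V) * dd a) = P * (dd b' * dd a * rho b₀) * rho b₀⁻¹ := by
      rw [mul_assoc P, mul_assoc (dd b' * dd a), rho_mul_inv, mul_one]
    rw [h3, h1, zero_mul]
  have E3 : ∀ b' ∈ B, P * ((dd a : AddMonoid.End V) * dd b') = 0 := by
    intro b' hb'
    have h2 : (rho b₀ : AddMonoid.End V) * dd b' = dd b' := by
      rw [rho_eq, add_mul, one_mul, hQB b' hb' b₀ hb₀, add_zero]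
    have h1 : P * ((rho b₀⁻¹ * dd a * rho b₀ : AddMonoid.End V) * dd b') = 0 := by
      rw [← mul_assoc, E1, mul_assoc, hQB b' hb' b hb, mul_zero]
    have h5 : ((rho b₀⁻¹ * dd a * rho b₀ : AddMonoid.End V) * dd b') = rho b₀⁻¹ * (dd a * dd b') := by
      rw [mul_assoc, h2, mul_assoc]
    rw [h5, Pmid P hP] at h1
    have h3 : P * ((dd a : AddMonoid.End V) * dd b') = rho b₀ * (rho b₀⁻¹ * (P * (dd a * dd b'))) := by
      rw [← mul_assoc (rho b₀) (rho b₀⁻¹), rho_mul_inv, one_mul]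
    rw [h3, h1, mul_zero]
  have E4 : P * (dd a : AddMonoid.End V) = P * dd b := by
    rw [← E1, rho_eq b₀⁻¹, rho_eq b₀, hdb₀i]
    have h1 : ((1 + -dd b₀) * dd a * (1 + dd b₀) : AddMonoid.End V) =
        dd a + dd a * dd b₀ - dd b₀ * dd a - dd b₀ * dd a * dd b₀ := by noncomm_ring
    have h4 : P * ((dd b₀ : AddMonoid.End V) * dd a * dd b₀) = 0 := by
      rw [← mul_assoc, E2 b₀ hb₀, zero_mul]
    rw [h1, mul_sub, mul_sub, mul_add, E3 b₀ hb₀, E2 b₀ hb₀, h4, add_zero, sub_zero, sub_zero]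
  -- the element a ^ p is central
  have hrho : (rho (a ^ p) : AddMonoid.End V) = 1 + P * dd a := by
    rw [map_pow, rho_eq, one_add_pow_of_sq_zero _ (hQA a ha a ha), hPdef]
  have hcA : ∀ x ∈ A, x * a ^ p = a ^ p * x := by
    intro x hx
    apply hinj
    have e1 : (dd x : AddMonoid.End V) * (P * dd a) = 0 := by rw [← Pmid P hP, hQA a ha x hx, mul_zero]
    have e2 : (P * dd a : AddMonoid.End V) * dd x = 0 := by rw [mul_assoc, hQA x hx a ha, mul_zero]
    rw [map_mul, map_mul, hrho, rho_eq x]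
    exact comm_of _ _ e1 e2
  have hcB : ∀ x ∈ B, x * a ^ p = a ^ p * x := by
    intro x hx
    apply hinj
    have e1 : (dd x : AddMonoid.End V) * (P * dd b) = 0 := by rw [← Pmid P hP, hQB b hb x hx, mul_zero]
    have e2 : (P * dd b : AddMonoid.End V) * dd x = 0 := by rw [mul_assoc, hQB x hx b hb, mul_zero]
    rw [map_mul, map_mul, hrho, E4, rho_eq x]
    exact comm_of _ _ e1 e2
  have hcen : a ^ p ∈ Subgroup.center X := by
    have hle : A ⊔ B ≤ Subgroup.centralizer {a ^ p} := by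
      rw [sup_le_iff]
      constructor
      · intro x hx
        rw [Subgroup.mem_centralizer_iff]
        intro y hy
        rw [Set.mem_singleton_iff.mp hy]
        exact (hcA x hx).symm
      · intro x hx
        rw [Subgroup.mem_centralizer_iff]
        intro y hy
        rw [Set.mem_singleton_iff.mp hy]
        exact (hcB x hx).symm
    rw [hgen] at hle
    rw [Subgroup.mem_center_iff]
    intro x
    have := hle (Subgroup.mem_top x)
    rw [Subgroup.mem_centralizer_iff] at this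
    exact (this (a ^ p) rfl).symm
  have hbot := (Cfsg.Agent.S5013.result hpair).2.2.1
  have hmem : a ^ p ∈ A ⊓ Subgroup.normalizer (B : Set X) :=
    ⟨A.pow_mem ha p, Subgroup.center_le_normalizer _ hcen⟩
  rw [hbot] at hmem
  exact Subgroup.mem_bot.mp hmem

end Cfsg.Agent.helper29.Quad
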