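import Mathlib
import Cfsg.Agent.Lib_helper29_Quad
import Cfsg.Agent.Lib_helper25_RankOne

set_option autoImplicit false
set_option linter.unusedSectionVars false
set_option linter.unusedVariables false

namespace Cfsg.Agent.helper29.Quad

open Cfsg
open Cfsg.Agent.helper25

variable {X : Type*} [Group X] {V : Type*} [AddCommGroup V] [DistribMulAction X V]

/-- quadratic action of a subgroup -/
def QuadOn (V : Type*) [AddCommGroup V] [DistribMulAction X V] (A : Subgroup X) : Prop :=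
  ∀ a ∈ A, ∀ a' ∈ A, (dd a' : AddMonoid.End V) * dd a = 0

/-- the commutator `[V, A]` -/
def Ucl (V : Type*) [AddCommGroup V] [DistribMulAction X V] (A : Subgroup X) : AddSubgroup V :=
  AddSubgroup.closure {x | ∃ a ∈ A, ∃ n : V, x = (dd a : AddMonoid.End V) n}

theorem gen_mem {A : Subgroup X} {a : X} (ha : a ∈ A) (n : V) : (dd a : AddMonoid.End V) n ∈ Ucl V A :=
  AddSubgroup.subset_closure ⟨a, ha, n, rfl⟩

theorem U_killed {A : Subgroup X} (hQ : QuadOn V A) {w : V} (hw : w ∈ Ucl V A) :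
    ∀ a ∈ A, (dd a : AddMonoid.End V) w = 0 := by
  intro a ha
  induction hw using AddSubgroup.closure_induction with
  | mem x hx =>
    obtain ⟨a', ha', n, rfl⟩ := hx
    have := hQ a' ha' a ha
    have h2 := congrArg (fun (f : AddMonoid.End V) => f n) this
    exact h2
  | zero => exact map_zero _
  | add x y _ _ hx hy => rw [map_add, hx, hy, add_zero]
  | neg x _ hx => rw [map_neg, hx, neg_zero]

theorem rel_AB {A B : Subgroup X} {a b : X} (hconj : Cfsg.conjBy A b⁻¹ = Cfsg.conjBy B a⁻¹) :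
    ∀ a₁ ∈ A, ∃ b₁ ∈ B, b⁻¹ * a₁ * b = a⁻¹ * b₁ * a := by
  intro a₁ ha₁
  have hmem : b⁻¹ * a₁ * b ∈ Cfsg.conjBy A b⁻¹ := mem_conjBy'.mpr ⟨a₁, ha₁, by rw [inv_inv]⟩
  rw [hconj] at hmem
  obtain ⟨b₁, hb₁, hab⟩ := mem_conjBy'.mp hmem
  rw [inv_inv] at hab
  exact ⟨b₁, hb₁, hab.symm⟩

theorem rho_dd_apply (g a₁ : X) (n : V) :
    (rho g⁻¹ : AddMonoid.End V) ((dd a₁ : AddMonoid.End V) n) =
      (dd (g⁻¹ * a₁ * g) : AddMonoid.End V) ((rho g⁻¹ : AddMonoid.End V) n) := by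
  rw [dd_conj']
  show _ = (rho g⁻¹ : AddMonoid.End V) ((dd a₁ : AddMonoid.End V) ((rho g : AddMonoid.End V)
    ((rho g⁻¹ : AddMonoid.End V) n)))
  have : (rho g : AddMonoid.End V) ((rho g⁻¹ : AddMonoid.End V) n) = n := by
    have h := congrArg (fun (f : AddMonoid.End V) => f n) (rho_mul_inv (V := V) g)
    exact h
  rw [this]

/-- transfer of commutator spaces along `A^b = B^a` -/
theorem transfer {A B : Subgroup X} {a b : X}
    (hrel : ∀ a₁ ∈ A, ∃ b₁ ∈ B, b⁻¹ * a₁ * b = a⁻¹ * b₁ * a) {w : V} (hw : w ∈ Ucl V A) :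
    ∃ u ∈ Ucl V B, (rho b⁻¹ : AddMonoid.End V) w = (rho a⁻¹ : AddMonoid.End V) u := by
  induction hw using AddSubgroup.closure_induction with
  | mem x hx =>
    obtain ⟨a₁, ha₁, n, rfl⟩ := hx
    obtain ⟨b₁, hb₁, hab⟩ := hrel a₁ ha₁
    refine ⟨(dd b₁ : AddMonoid.End V) ((rho a : AddMonoid.End V) ((rho b⁻¹ : AddMonoid.End V) n)),
      gen_mem hb₁ _, ?_⟩
    rw [rho_dd_apply, hab, dd_conj']
    rfl
  | zero => exact ⟨0, (Ucl V B).zero_mem, by rw [map_zero, map_zero]⟩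
  | add x y _ _ hx hy =>
    obtain ⟨u₁, hu₁, e₁⟩ := hx
    obtain ⟨u₂, hu₂, e₂⟩ := hy
    exact ⟨u₁ + u₂, (Ucl V B).add_mem hu₁ hu₂, by rw [map_add, map_add, e₁, e₂]⟩
  | neg x _ hx =>
    obtain ⟨u₁, hu₁, e₁⟩ := hx
    exact ⟨-u₁, (Ucl V B).neg_mem hu₁, by rw [map_neg, map_neg, e₁]⟩

theorem rho_inv_apply_of {A : Subgroup X} (hQ : QuadOn V A) {a : X} (ha : a ∈ A) (v : V) :
    (rho a⁻¹ : AddMonoid.End V) v = v - (dd a : AddMonoid.End V) v := by
  have h1 : (dd a⁻¹ : AddMonoid.End V) = - dd a := dd_inv_of a (hQ a ha a⁻¹ (A.inv_mem ha))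
  rw [rho_eq, h1]
  show v + -((dd a : AddMonoid.End V) v) = _
  abel

/-- the key identity: `α β w = w - z` with `z ∈ [V,A] ∩ [V,B]` -/
theorem F2 {A B : Subgroup X} (hQA : QuadOn V A) (hQB : QuadOn V B) {a b : X} (ha : a ∈ A) (hb : b ∈ B)
    (hrel : ∀ a₁ ∈ A, ∃ b₁ ∈ B, b⁻¹ * a₁ * b = a⁻¹ * b₁ * a) {w : V} (hw : w ∈ Ucl V A) :
    ∃ z, z ∈ Ucl V A ∧ z ∈ Ucl V B ∧
      (dd a : AddMonoid.End V) ((dd b : AddMonoid.End V) w) = w - z := by
  obtain ⟨u, hu, e⟩ := transfer hrel hw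
  rw [rho_inv_apply_of hQB hb, rho_inv_apply_of hQA ha] at e
  -- e : w - β w = u - α u
  have hz : w + (dd a : AddMonoid.End V) u = u + (dd b : AddMonoid.End V) w := by
    have := e
    rw [sub_eq_sub_iff_add_eq_add] at this
    exact this
  refine ⟨w + (dd a : AddMonoid.End V) u, (Ucl V A).add_mem hw (gen_mem ha u), ?_, ?_⟩
  · rw [hz]
    exact (Ucl V B).add_mem hu (gen_mem hb w)
  · have hu' : u = (w + (dd a : AddMonoid.End V) u) - (dd b : AddMonoid.End V) w := by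
      rw [hz]; abel
    have hkill : (dd a : AddMonoid.End V) (w + (dd a : AddMonoid.End V) u) = 0 :=
      U_killed hQA ((Ucl V A).add_mem hw (gen_mem ha u)) a ha
    have h3 : (dd a : AddMonoid.End V) u = - (dd a : AddMonoid.End V) ((dd b : AddMonoid.End V) w) := by
      conv_lhs => rw [hu']
      rw [map_sub, hkill, zero_sub]
    rw [h3]
    abel

theorem quadB {A B : Subgroup X} (hpair : Cfsg.IsRankOnePair A B) (hQA : QuadOn V A) : QuadOn V B := by
  obtain ⟨a₀, ha₀, ha₀1⟩ := rankOne_exists_left hpair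
  obtain ⟨b₀, hb₀, hb₀1, hconj⟩ := hpair.cond_left a₀ ha₀ ha₀1
  have hBA : ∀ b ∈ B, ∃ a ∈ A, a₀⁻¹ * b * a₀ = b₀⁻¹ * a * b₀ := rel_AB hconj.symm
  have hconjB : ∀ b ∈ B, ∃ a ∈ A, b = (a₀ * b₀⁻¹) * a * (a₀ * b₀⁻¹)⁻¹ := by
    intro b hb
    obtain ⟨a, ha, hab⟩ := hBA b hb
    refine ⟨a, ha, ?_⟩
    calc b = a₀ * (a₀⁻¹ * b * a₀) * a₀⁻¹ := by group
      _ = a₀ * (b₀⁻¹ * a * b₀) * a₀⁻¹ := by rw [hab]
      _ = _ := by group
  intro b hb b' hb'
  obtain ⟨a, ha, rfl⟩ := hconjB b hb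
  obtain ⟨a', ha', rfl⟩ := hconjB b' hb'
  rw [dd_conj, dd_conj]
  calc (rho (a₀ * b₀⁻¹) * dd a' * rho (a₀ * b₀⁻¹)⁻¹ * (rho (a₀ * b₀⁻¹) * dd a * rho (a₀ * b₀⁻¹)⁻¹) :
        AddMonoid.End V)
      = rho (a₀ * b₀⁻¹) * (dd a' * (rho (a₀ * b₀⁻¹)⁻¹ * rho (a₀ * b₀⁻¹)) * dd a) * rho (a₀ * b₀⁻¹)⁻¹ := by
        noncomm_ring
    _ = 0 := by rw [rho_inv_mul, mul_one, hQA a ha a' ha', mul_zero, zero_mul]

theorem dd_mul_apply (g h : X) (v : V) : (dd (g * h) : AddMonoid.End V) v =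
    (dd g : AddMonoid.End V) ((dd h : AddMonoid.End V) v) + (dd g : AddMonoid.End V) v +
      (dd h : AddMonoid.End V) v := by
  rw [dd_mul]
  rfl

theorem dd_inv_apply_of (g : X) (v : V)
    (h : (dd g⁻¹ : AddMonoid.End V) ((dd g : AddMonoid.End V) v) = 0) :
    (dd g⁻¹ : AddMonoid.End V) v = - (dd g : AddMonoid.End V) v := by
  have := dd_mul_apply (V := V) g⁻¹ g v
  rw [inv_mul_cancel, dd_one, h, zero_add] at this
  exact eq_neg_of_add_eq_zero_left this.symm

theorem special {A B : Subgroup X} (h : Cfsg.IsRankOneGroup X A B)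
    (hq : ∀ a ∈ A, ∀ a' ∈ A, ∀ n : V, a' • (a • n - n) = a • n - n)
    (hX : ∃ x y : X, ∃ n : V, y • (x • n - n) ≠ x • n - n) : Cfsg.IsSpecialRankOnePair A B := by
  obtain ⟨hgen, hpair⟩ := h
  have hQA : QuadOn V A := by
    intro a ha a' ha'
    ext v
    show a' • (a • v - v) - (a • v - v) = 0
    rw [hq a ha a' ha', sub_self]
  have hQB := quadB hpair hQA
  refine ⟨hpair, ?_⟩
  intro a ha ha1 b hb hb1 hconj
  -- elements of the intersection are fixed by the whole group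
  have hIfix : ∀ z, z ∈ Ucl V A → z ∈ Ucl V B → ∀ g : X, (dd g : AddMonoid.End V) z = 0 := by
    intro z hzA hzB
    let S : Subgroup X :=
      { carrier := {g | (dd g : AddMonoid.End V) z = 0}
        mul_mem' := by
          intro g h hg hh
          show (dd (g * h) : AddMonoid.End V) z = 0
          rw [dd_mul_apply]
          rw [show (dd h : AddMonoid.End V) z = 0 from hh, show (dd g : AddMonoid.End V) z = 0 from hg,
            map_zero, add_zero, add_zero]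
        one_mem' := by
          show (dd (1 : X) : AddMonoid.End V) z = 0
          rw [dd_one]
          rfl
        inv_mem' := by
          intro g hg
          show (dd g⁻¹ : AddMonoid.End V) z = 0
          rw [dd_inv_apply_of g z (by rw [show (dd g : AddMonoid.End V) z = 0 from hg, map_zero]),
            show (dd g : AddMonoid.End V) z = 0 from hg, neg_zero] }
    have hle : A ⊔ B ≤ S :=
      sup_le (fun x hx => U_killed hQA hzA x hx) (fun x hx => U_killed hQB hzB x hx)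
    rw [hgen] at hle
    intro g
    exact hle (Subgroup.mem_top g)
  -- the final contradiction
  have hcontra : (∀ w ∈ Ucl V A, w ∈ Ucl V B) → (∀ w ∈ Ucl V B, w ∈ Ucl V A) → False := by
    intro h1 h2
    obtain ⟨x, y, n, hne⟩ := hX
    apply hne
    let S : Subgroup X :=
      { carrier := {g | ∀ (n : V) (g' : X), (dd g' : AddMonoid.End V) ((dd g : AddMonoid.End V) n) = 0}
        mul_mem' := by
          intro g h hg hh n g'
          show (dd g' : AddMonoid.End V) ((dd (g * h) : AddMonoid.End V) n) = 0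
          rw [dd_mul_apply, map_add, map_add, hg, hg, hh, add_zero, add_zero]
        one_mem' := by
          intro n g'
          show (dd g' : AddMonoid.End V) ((dd (1 : X) : AddMonoid.End V) n) = 0
          rw [dd_one]
          exact map_zero _
        inv_mem' := by
          intro g hg n g'
          show (dd g' : AddMonoid.End V) ((dd g⁻¹ : AddMonoid.End V) n) = 0
          rw [dd_inv_apply_of g n (hg n g⁻¹), map_neg, hg, neg_zero] }
    have hle : A ⊔ B ≤ S := by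
      refine sup_le (fun g hg n g' => ?_) (fun g hg n g' => ?_)
      · exact hIfix _ (gen_mem hg n) (h1 _ (gen_mem hg n)) g'
      · exact hIfix _ (h2 _ (gen_mem hg n)) (gen_mem hg n) g'
    rw [hgen] at hle
    have := hle (Subgroup.mem_top x) n y
    exact sub_eq_zero.mp this
  have relAB := rel_AB hconj
  have relBA : ∀ b₁ ∈ B, ∃ a₁ ∈ A, a⁻¹ * b₁ * a = b⁻¹ * a₁ * b := rel_AB hconj.symm
  obtain ⟨as, has, has1, hconjs⟩ := hpair.cond_right b⁻¹ (B.inv_mem hb) (inv_ne_one.mpr hb1)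
  have relAB' : ∀ a₁ ∈ A, ∃ b₁ ∈ B, (b⁻¹)⁻¹ * a₁ * b⁻¹ = as⁻¹ * b₁ * as := rel_AB hconjs.symm
  by_cases hc : as * a = 1
  swap
  · exfalso
    have hcA : as * a ∈ A := A.mul_mem has ha
    obtain ⟨e, he, he1, hconje⟩ := hpair.cond_left (as * a) hcA hc
    have relAB'' := rel_AB hconje
    have relBA'' : ∀ b₁ ∈ B, ∃ a₁ ∈ A, (as * a)⁻¹ * b₁ * (as * a) = e⁻¹ * a₁ * e := rel_AB hconje.symm
    have hγ : ∀ v : V, (dd (as * a) : AddMonoid.End V) v =
        (dd as : AddMonoid.End V) v + (dd a : AddMonoid.End V) v := by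
      intro v
      rw [dd_mul_apply]
      have := congrArg (fun (f : AddMonoid.End V) => f v) (hQA a ha as has)
      rw [show (dd as : AddMonoid.End V) ((dd a : AddMonoid.End V) v) = 0 from this, zero_add]
    have hγβ : ∀ w ∈ Ucl V A, (dd (as * a) : AddMonoid.End V) ((dd b : AddMonoid.End V) w) ∈ Ucl V A ∧
        (dd (as * a) : AddMonoid.End V) ((dd b : AddMonoid.End V) w) ∈ Ucl V B := by
      intro w hw
      obtain ⟨z₁, hz₁A, hz₁B, e₁⟩ := F2 hQA hQB ha hb relAB hw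
      obtain ⟨z₂, hz₂A, hz₂B, e₂⟩ := F2 hQA hQB has (B.inv_mem hb) relAB' hw
      have hbi : (dd b⁻¹ : AddMonoid.End V) w = - (dd b : AddMonoid.End V) w := by
        have := dd_inv_of (V := V) b (hQB b hb b⁻¹ (B.inv_mem hb))
        rw [this]
        rfl
      rw [hbi, map_neg] at e₂
      have e₂' : (dd as : AddMonoid.End V) ((dd b : AddMonoid.End V) w) = z₂ - w := by
        rw [neg_eq_iff_eq_neg] at e₂
        rw [e₂]
        abel
      have : (dd (as * a) : AddMonoid.End V) ((dd b : AddMonoid.End V) w) = z₂ - z₁ := by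
        rw [hγ, e₂', e₁]
        abel
      rw [this]
      exact ⟨(Ucl V A).sub_mem hz₂A hz₁A, (Ucl V B).sub_mem hz₂B hz₁B⟩
    have hγU' : ∀ w' ∈ Ucl V B, (dd (as * a) : AddMonoid.End V) w' ∈ Ucl V A ∧
        (dd (as * a) : AddMonoid.End V) w' ∈ Ucl V B := by
      intro w' hw'
      obtain ⟨z', hz'B, hz'A, e'⟩ := F2 hQB hQA hb ha relBA hw'
      have hw'eq : w' = (dd b : AddMonoid.End V) ((dd a : AddMonoid.End V) w') + z' := by
        rw [e']; abel
      have hkz : (dd (as * a) : AddMonoid.End V) z' = 0 := U_killed hQA hz'A _ hcA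
      have h3 := hγβ ((dd a : AddMonoid.End V) w') (gen_mem ha w')
      have h4 : (dd (as * a) : AddMonoid.End V) w' =
          (dd (as * a) : AddMonoid.End V) ((dd b : AddMonoid.End V) ((dd a : AddMonoid.End V) w')) := by
        conv_lhs => rw [hw'eq]
        rw [map_add, hkz, add_zero]
      rw [h4]
      exact h3
    have hUI : ∀ w ∈ Ucl V A, w ∈ Ucl V B := by
      intro w hw
      obtain ⟨z, hzA, hzB, e3⟩ := F2 hQA hQB hcA he relAB'' hw
      have h1 := (hγU' ((dd e : AddMonoid.End V) w) (gen_mem he w)).2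
      have : w = (dd (as * a) : AddMonoid.End V) ((dd e : AddMonoid.End V) w) + z := by
        rw [e3]; abel
      rw [this]
      exact (Ucl V B).add_mem h1 hzB
    have hU'I : ∀ w' ∈ Ucl V B, w' ∈ Ucl V A := by
      intro w' hw'
      obtain ⟨z', hz'B, hz'A, e4⟩ := F2 hQB hQA he hcA relBA'' hw'
      have h1 := hγU' w' hw'
      have h0 : (dd e : AddMonoid.End V) ((dd (as * a) : AddMonoid.End V) w') = 0 := hIfix _ h1.1 h1.2 e
      rw [h0] at e4
      have : w' = z' := (sub_eq_zero.mp e4.symm)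
      rw [this]
      exact hz'A
    exact hcontra hUI hU'I
  have has_eq : as = a⁻¹ := eq_inv_of_mul_eq_one_left hc
  rw [has_eq, inv_inv, inv_inv] at hconjs
  -- hconjs : conjBy B a = conjBy A b
  obtain ⟨b', hb', hb'eq⟩ := relAB a ha
  have ht : a * b⁻¹ * a * b * a⁻¹ * b = b' * b := by
    calc a * b⁻¹ * a * b * a⁻¹ * b = a * (b⁻¹ * a * b) * a⁻¹ * b := by group
      _ = a * (a⁻¹ * b' * a) * a⁻¹ * b := by rw [hb'eq]
      _ = b' * b := by group
  have htB : a * b⁻¹ * a * b * a⁻¹ * b ∈ B := ht ▸ B.mul_mem hb' hb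
  have htN : a * b⁻¹ * a * b * a⁻¹ * b ∈ Subgroup.normalizer (A : Set X) := by
    rw [← conjBy_eq_self_iff]
    calc Cfsg.conjBy A (a * b⁻¹ * a * b * a⁻¹ * b)
        = Cfsg.conjBy (Cfsg.conjBy A b) (a * b⁻¹ * a * b * a⁻¹) := by rw [conjBy_conjBy]
      _ = Cfsg.conjBy (Cfsg.conjBy B a) (a * b⁻¹ * a * b * a⁻¹) := by rw [hconjs]
      _ = Cfsg.conjBy B (a * b⁻¹ * a * b) := by
          rw [conjBy_conjBy]; congr 1; group
      _ = Cfsg.conjBy (Cfsg.conjBy B b) (a * b⁻¹ * a) := by rw [conjBy_conjBy]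
      _ = Cfsg.conjBy B (a * b⁻¹ * a) := by rw [conjBy_of_mem B hb]
      _ = Cfsg.conjBy (Cfsg.conjBy B a) (a * b⁻¹) := by rw [conjBy_conjBy]
      _ = Cfsg.conjBy (Cfsg.conjBy A b) (a * b⁻¹) := by rw [hconjs]
      _ = Cfsg.conjBy A a := by rw [conjBy_conjBy]; congr 1; group
      _ = A := conjBy_of_mem A ha
  have hbot := rankOne_inf_normalizer_left (RankOnePair_symm hpair)
  have hmem : a * b⁻¹ * a * b * a⁻¹ * b ∈ B ⊓ Subgroup.normalizer (A : Set X) := ⟨htB, htN⟩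
  rw [hbot] at hmem
  have ht1 := Subgroup.mem_bot.mp hmem
  calc b⁻¹ * a * b = a⁻¹ * (a * b⁻¹ * a * b * a⁻¹ * b) * (b⁻¹ * a) := by group
    _ = a⁻¹ * b⁻¹ * a := by rw [ht1]; group

end Cfsg.Agent.helper29.Quad
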