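import Mathlib
import Cfsg.Agent.Lib_helper29_PS5
import Cfsg.Agent.S0245

set_option autoImplicit false
set_option linter.unusedSectionVars false
set_option linter.unusedVariables false
namespace Cfsg.Agent.helper29.SD
open Matrix

variable {F : Type*} [Field F] {n : ℕ}

local notation "VV" => (Fin n → F)
local notation "MM" => Matrix (Fin n) (Fin n) F

/-- an element that is a similitude of no symplectic form has no conjugate in a similarity group -/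
theorem transfer (f : VV → VV → F) (hf : Cfsg.Geo.IsSymplecticForm f)
    (x : Matrix.SpecialLinearGroup (Fin n) F)
    (h : ∀ f' : VV → VV → F, Cfsg.Geo.IsSymplecticForm f' → ∀ μ : F, μ ≠ 0 →
      ¬ ∀ u v, f' ((x : MM) *ᵥ u) ((x : MM) *ᵥ v) = μ * f' u v) :
    ∀ P : Matrix.SpecialLinearGroup (Fin n) F, P⁻¹ * x * P ∉
      (Cfsg.Geo.similarityGroup f).comap
        (Matrix.SpecialLinearGroup.toGL : Matrix.SpecialLinearGroup (Fin n) F →* GL (Fin n) F) := by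
  intro P hP
  rw [Subgroup.mem_comap] at hP
  obtain ⟨c, hc⟩ := hP
  obtain ⟨Q, hQ⟩ : ∃ Q : MM, Q = (P : MM) := ⟨_, rfl⟩
  obtain ⟨Q', hQ'⟩ : ∃ Q' : MM, Q' = ((P⁻¹ : Matrix.SpecialLinearGroup (Fin n) F) : MM) :=
    ⟨_, rfl⟩
  have hQ'Q : Q' * Q = 1 := by
    rw [hQ, hQ', ← Matrix.SpecialLinearGroup.coe_mul, inv_mul_cancel,
      Matrix.SpecialLinearGroup.coe_one]
  have hQQ' : Q * Q' = 1 := by
    rw [hQ, hQ', ← Matrix.SpecialLinearGroup.coe_mul, mul_inv_cancel,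
      Matrix.SpecialLinearGroup.coe_one]
  have hc' : ∀ u v, f ((Q' * (x : MM) * Q) *ᵥ u) ((Q' * (x : MM) * Q) *ᵥ v) = (c : F) * f u v := by
    intro u v
    have := hc u v
    rw [hQ, hQ']
    exact this
  obtain ⟨f', hf'⟩ : ∃ f' : VV → VV → F, f' = fun u v => f (Q' *ᵥ u) (Q' *ᵥ v) := ⟨_, rfl⟩
  have hinj : ∀ v : VV, v ≠ 0 → Q' *ᵥ v ≠ 0 := by
    intro v hv h0
    apply hv
    have : v = (Q * Q') *ᵥ v := by rw [hQQ', Matrix.one_mulVec]
    rw [this, ← Matrix.mulVec_mulVec, h0, Matrix.mulVec_zero]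
  have hsymp : Cfsg.Geo.IsSymplecticForm f' := by
    rw [hf']
    refine ⟨⟨?_, ?_, ?_, ?_⟩, ?_, ?_, ?_⟩
    · intro a b v
      show f (Q' *ᵥ (a + b)) _ = _
      rw [Matrix.mulVec_add, hf.bilinear.add_left]
    · intro t a v
      show f (Q' *ᵥ (t • a)) _ = _
      rw [Matrix.mulVec_smul, hf.bilinear.smul_left]
    · intro v a b
      show f _ (Q' *ᵥ (a + b)) = _
      rw [Matrix.mulVec_add, hf.bilinear.add_right]
    · intro t v a
      show f _ (Q' *ᵥ (t • a)) = _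
      rw [Matrix.mulVec_smul, hf.bilinear.smul_right]
    · intro v w
      exact hf.skew _ _
    · intro v
      exact hf.alternating _
    · intro v hv
      obtain ⟨⟨y, hy⟩, ⟨y', hy'⟩⟩ := hf.nondegenerate _ (hinj v hv)
      refine ⟨⟨Q *ᵥ y, ?_⟩, ⟨Q *ᵥ y', ?_⟩⟩
      · show f (Q' *ᵥ (Q *ᵥ y)) _ ≠ 0
        rw [Matrix.mulVec_mulVec, hQ'Q, Matrix.one_mulVec]
        exact hy
      · show f _ (Q' *ᵥ (Q *ᵥ y')) ≠ 0
        rw [Matrix.mulVec_mulVec, hQ'Q, Matrix.one_mulVec]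
        exact hy'
  apply h f' hsymp (c : F) c.ne_zero
  intro u v
  rw [hf']
  show f (Q' *ᵥ ((x : MM) *ᵥ u)) (Q' *ᵥ ((x : MM) *ᵥ v)) = (c : F) * f (Q' *ᵥ u) (Q' *ᵥ v)
  rw [← hc']
  congr 1
  · rw [Matrix.mulVec_mulVec, Matrix.mulVec_mulVec, Matrix.mul_assoc, Matrix.mul_assoc, hQQ',
      Matrix.mul_one]
  · rw [Matrix.mulVec_mulVec, Matrix.mulVec_mulVec, Matrix.mul_assoc, Matrix.mul_assoc, hQQ',
      Matrix.mul_one]

end Cfsg.Agent.helper29.SD
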