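import Mathlib
import Cfsg.Agent.Lib_helper29_SD1
import Cfsg.Agent.Lib_helper12_Card

set_option autoImplicit false
set_option linter.unusedSectionVars false
set_option linter.unusedVariables false
namespace Cfsg.Agent.helper29.SD
open Matrix

variable {F : Type*} [Field F] {n : ℕ}

local notation "VV" => (Fin n → F)
local notation "MM" => Matrix (Fin n) (Fin n) F

theorem prod_range_two_mul (g : ℕ → ℕ) (m : ℕ) :
    ∏ j ∈ Finset.range (2 * m), g j = ∏ k ∈ Finset.range m, (g (2 * k) * g (2 * k + 1)) := by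
  induction m with
  | zero => simp
  | succ m ih =>
    rw [show 2 * (m + 1) = 2 * m + 1 + 1 by ring, Finset.prod_range_succ, Finset.prod_range_succ,
      ih, Finset.prod_range_succ]
    ring

theorem prod_gl_eq (q n : ℕ) :
    ∏ i : Fin n, (q ^ n - q ^ (i : ℕ)) =
      (∏ i ∈ Finset.range n, q ^ i) * ∏ j ∈ Finset.range n, (q ^ (j + 1) - 1) := by
  rw [Fin.prod_univ_eq_prod_range (fun i => q ^ n - q ^ i) n]
  rw [← Finset.prod_range_reflect (fun j => q ^ (j + 1) - 1) n, ← Finset.prod_mul_distrib]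
  apply Finset.prod_congr rfl
  intro i hi
  rw [Finset.mem_range] at hi
  have e : n - 1 - i + 1 = n - i := by omega
  rw [e, Nat.mul_sub, mul_one, ← pow_add]
  congr 2
  omega

/-- the arithmetic behind the index of the symplectic-type subgroup -/
theorem index_arith (q m r I s : ℕ) (hq : 2 ≤ q) (hr : r.Prime)
    (h1 : I * (q ^ (m ^ 2) * ∏ i ∈ Finset.range m, (q ^ (2 * (i + 1)) - 1)) = s)
    (h2 : s * (q - 1) = ∏ i : Fin (2 * m), (q ^ (2 * m) - q ^ (i : ℕ)))
    (hrI : r ∣ I) (hrq : ¬ r ∣ q) : ∃ j, Odd j ∧ j < 2 * m ∧ r ∣ q ^ j - 1 := by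
  rw [prod_gl_eq, prod_range_two_mul (fun j => q ^ (j + 1) - 1), Finset.prod_mul_distrib] at h2
  obtain ⟨A, hA⟩ : ∃ A, A = ∏ i ∈ Finset.range m, (q ^ (2 * (i + 1)) - 1) := ⟨_, rfl⟩
  have hA' : ∏ k ∈ Finset.range m, (q ^ (2 * k + 1 + 1) - 1) = A := by
    rw [hA]
    apply Finset.prod_congr rfl
    intro k _
    congr 2
  rw [hA'] at h2
  rw [← hA] at h1
  have hApos : 0 < A := by
    rw [hA]
    apply Finset.prod_pos
    intro i _
    have : 2 ≤ q ^ (2 * (i + 1)) := by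
      calc 2 ≤ q := hq
        _ = q ^ 1 := (pow_one q).symm
        _ ≤ q ^ (2 * (i + 1)) := Nat.pow_le_pow_right (by omega) (by omega)
    omega
  obtain ⟨Q, hQ⟩ : ∃ Q, Q = ∏ i ∈ Finset.range (2 * m), q ^ i := ⟨_, rfl⟩
  obtain ⟨B, hB⟩ : ∃ B, B = ∏ k ∈ Finset.range m, (q ^ (2 * k + 1) - 1) := ⟨_, rfl⟩
  rw [← hQ, ← hB] at h2
  have key : A * (I * q ^ (m ^ 2) * (q - 1)) = A * (Q * B) := by
    rw [← h1] at h2
    rw [← mul_assoc A Q B, mul_comm A Q, mul_assoc Q A B, mul_comm A B, ← h2]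
    ring
  have key2 := Nat.eq_of_mul_eq_mul_left hApos key
  have hdvd : r ∣ Q * B := by
    rw [← key2]
    exact Dvd.dvd.mul_right (Dvd.dvd.mul_right hrI _) _
  rcases (Nat.Prime.dvd_mul hr).mp hdvd with h | h
  · exfalso
    rw [hQ] at h
    obtain ⟨i, _, hi⟩ := (Prime.dvd_finsetProd_iff hr.prime _).mp h
    exact hrq (hr.dvd_of_dvd_pow hi)
  · rw [hB] at h
    obtain ⟨k, hk, hk2⟩ := (Prime.dvd_finsetProd_iff hr.prime _).mp h
    rw [Finset.mem_range] at hk
    exact ⟨2 * k + 1, ⟨k, rfl⟩, by omega, hk2⟩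

theorem Gm_eq_neg_J (m : ℕ) : Cfsg.Agent.helper29.PS.Gm (Fin m) F = -Matrix.J (Fin m) F := by
  unfold Cfsg.Agent.helper29.PS.Gm Matrix.J
  rw [Matrix.fromBlocks_neg]
  simp

/-- primes dividing the index of the symplectic-type subgroup -/
theorem odd_exp_of_dvd_index [Fintype F] {q : ℕ} (hq : Fintype.card F = q) (hn : 1 ≤ n)
    (f : VV → VV → F) (hf : Cfsg.Geo.IsSymplecticForm f) (r : ℕ) (hr : r.Prime)
    (hrq : ¬ r ∣ q)
    (hΩ : r ∣ ((Cfsg.Geo.similarityGroup f).comap (Matrix.SpecialLinearGroup.toGL :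
      Matrix.SpecialLinearGroup (Fin n) F →* GL (Fin n) F)).index) :
    ∃ j, Odd j ∧ j < n ∧ r ∣ q ^ j - 1 := by
  classical
  obtain ⟨m, b, hb⟩ := Cfsg.Agent.helper29.PS.exists_symp_basis f hf
  have hnm : n = m + m := by
    have := Module.finrank_eq_card_basis b
    rw [Module.finrank_fin_fun, Fintype.card_sum, Fintype.card_fin] at this
    exact this
  have hφdet : ∀ M : ↥(Matrix.symplecticGroup (Fin m) F), (LinearMap.toMatrix' (Matrix.toLin b b
      (M : Matrix (Fin m ⊕ Fin m) (Fin m ⊕ Fin m) F))).det = 1 := by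
    intro M
    rw [LinearMap.det_toMatrix', LinearMap.det_toLin]
    exact SymplecticGroup.det_eq_one M.2
  obtain ⟨φ, hφ⟩ : ∃ φ : ↥(Matrix.symplecticGroup (Fin m) F) →
      Matrix.SpecialLinearGroup (Fin n) F,
      ∀ M, ((φ M : Matrix.SpecialLinearGroup (Fin n) F) : MM) =
        LinearMap.toMatrix' (Matrix.toLin b b (M : Matrix (Fin m ⊕ Fin m) (Fin m ⊕ Fin m) F)) :=
    ⟨fun M => ⟨_, hφdet M⟩, fun M => rfl⟩
  obtain ⟨Φ, hΦ⟩ : ∃ Φ : ↥(Matrix.symplecticGroup (Fin m) F) →*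
      Matrix.SpecialLinearGroup (Fin n) F,
      ∀ M, ((Φ M : Matrix.SpecialLinearGroup (Fin n) F) : MM) =
        LinearMap.toMatrix' (Matrix.toLin b b (M : Matrix (Fin m ⊕ Fin m) (Fin m ⊕ Fin m) F)) := by
    refine ⟨MonoidHom.mk' φ ?_, fun M => hφ M⟩
    intro M N
    apply Subtype.ext
    show ((φ (M * N) : Matrix.SpecialLinearGroup (Fin n) F) : MM) =
      ((φ M * φ N : Matrix.SpecialLinearGroup (Fin n) F) : MM)
    rw [Matrix.SpecialLinearGroup.coe_mul, hφ, hφ, hφ, ← LinearMap.toMatrix'_comp,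
      ← Matrix.toLin_mul]
    rfl
  have hΦinj : Function.Injective Φ := by
    intro M N hMN
    apply Subtype.ext
    have h1 := congrArg (fun y : Matrix.SpecialLinearGroup (Fin n) F => (y : MM)) hMN
    simp only [hΦ] at h1
    exact (Matrix.toLin b b).injective (LinearMap.toMatrix'.injective h1)
  have hle : Φ.range ≤ (Cfsg.Geo.similarityGroup f).comap (Matrix.SpecialLinearGroup.toGL :
      Matrix.SpecialLinearGroup (Fin n) F →* GL (Fin n) F) := by
    rintro _ ⟨M, rfl⟩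
    rw [Subgroup.mem_comap]
    refine ⟨1, fun u v => ?_⟩
    have hc : ((Matrix.SpecialLinearGroup.toGL (Φ M) : GL (Fin n) F) : MM) =
        LinearMap.toMatrix' (Matrix.toLin b b
          (M : Matrix (Fin m ⊕ Fin m) (Fin m ⊕ Fin m) F)) := hΦ M
    rw [hc, LinearMap.toMatrix'_mulVec, LinearMap.toMatrix'_mulVec, Units.val_one]
    apply Cfsg.Agent.helper29.PS.simil_toLin f hf.bilinear b hb
    rw [one_smul, Gm_eq_neg_J, Matrix.mul_neg, Matrix.neg_mul, SymplecticGroup.mem_iff'.mp M.2]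
  have hdvd := Subgroup.index_dvd_of_le hle
  have hrI : r ∣ Φ.range.index := hΩ.trans hdvd
  have h1 := Subgroup.index_mul_card Φ.range
  have h2 : Nat.card Φ.range = Nat.card ↥(Matrix.symplecticGroup (Fin m) F) :=
    (Nat.card_congr (MonoidHom.ofInjective hΦinj).toEquiv).symm
  rw [h2, Cfsg.Agent.S0245.result hq m] at h1
  have h3 := Cfsg.Agent.helper12.card_GL_eq_card_SL_mul (F := F) n hn
  have h5 := Matrix.card_GL_field (𝔽 := F) n
  rw [hq] at h3 h5
  have hq2 : 2 ≤ q := by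
    rw [← hq]
    exact Fintype.one_lt_card
  have hn2 : n = 2 * m := by omega
  subst hn2
  obtain ⟨j, hj1, hj2, hj3⟩ := index_arith q m r Φ.range.index
    (Nat.card (Matrix.SpecialLinearGroup (Fin (2 * m)) F)) hq2 hr h1 (by rw [← h3, h5]) hrI hrq
  exact ⟨j, hj1, hj2, hj3⟩

end Cfsg.Agent.helper29.SD
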