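import Mathlib
import Cfsg.Agent.Lib_helper29_SD1

set_option autoImplicit false
set_option linter.unusedSectionVars false
set_option linter.unusedVariables false
namespace Cfsg.Agent.helper29.SD
open Matrix

variable {F : Type*} [Field F] {n : ℕ}

local notation "VV" => (Fin n → F)
local notation "MM" => Matrix (Fin n) (Fin n) F

/-- a unipotent element with a Jordan block of size three is a similitude of no symplectic form -/
theorem no_simil_of_nilp (hchar : (2 : F) ≠ 0) (X : MM) (N : VV →ₗ[F] VV)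
    (hX : ∀ v, X *ᵥ v = v + N v) (hN3 : ∀ v, N (N (N v)) = 0) (e0 : VV) (he0 : e0 ≠ 0)
    (φ2 : VV →ₗ[F] F) (hN2 : ∀ v, N (N v) = φ2 v • e0) (e2 : VV) (he2 : φ2 e2 = 1)
    (f' : VV → VV → F) (hf' : Cfsg.Geo.IsSymplecticForm f') (μ : F)
    (hsim : ∀ u v, f' (X *ᵥ u) (X *ᵥ v) = μ * f' u v) : False := by
  have hb := hf'.bilinear
  have hNe0 : N e0 = 0 := by
    have h1 := congrArg N (hN2 e2)
    rw [hN3, he2, one_smul] at h1
    exact h1.symm
  have hXe0 : X *ᵥ e0 = e0 := by rw [hX, hNe0, add_zero]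
  obtain ⟨w, hw⟩ := (hf'.nondegenerate e0 he0).2
  -- the multiplier is one
  have hψ : ∀ v, f' e0 (N v) = (μ - 1) * f' e0 v := by
    intro v
    have := hsim e0 v
    rw [hXe0, hX, hb.add_right] at this
    linear_combination this
  have hμ : μ = 1 := by
    have h3 : f' e0 (N (N (N w))) = (μ - 1) * ((μ - 1) * ((μ - 1) * f' e0 w)) := by
      rw [hψ, hψ, hψ]
    rw [hN3] at h3
    have h0 : f' e0 0 = 0 := by
      have := hb.smul_right 0 e0 0
      rw [zero_smul, zero_mul] at this
      exact this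
    rw [h0] at h3
    have h4 : (μ - 1) * ((μ - 1) * (μ - 1)) * f' e0 w = 0 := by linear_combination -h3
    rcases mul_eq_zero.mp h4 with h | h
    · rcases mul_eq_zero.mp h with h | h
      · exact sub_eq_zero.mp h
      · rcases mul_eq_zero.mp h with h | h <;> exact sub_eq_zero.mp h
    · exact absurd h hw
  rw [hμ] at hsim
  have hzl : ∀ v, f' 0 v = 0 := by
    intro v
    have := hb.smul_left 0 0 v
    rw [zero_smul, zero_mul] at this
    exact this
  have hzr : ∀ v, f' v 0 = 0 := by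
    intro v
    have := hb.smul_right 0 v 0
    rw [zero_smul, zero_mul] at this
    exact this
  have hI : ∀ u v, f' u (N v) + f' (N u) v + f' (N u) (N v) = 0 := by
    intro u v
    have := hsim u v
    rw [hX, hX, hb.add_left, hb.add_right, hb.add_right] at this
    linear_combination this
  have hA : ∀ u v, f' (N (N u)) (N v) = 0 := by
    intro u v
    have := hI (N (N u)) v
    rw [hN3, hzl, hzl] at this
    linear_combination this
  have hB : ∀ u v, f' (N u) (N (N v)) = 0 := by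
    intro u v
    have := hI u (N (N v))
    rw [hN3, hzr, hzr] at this
    linear_combination this
  have hC : ∀ u v, f' (N u) (N v) + f' (N (N u)) v = 0 := by
    intro u v
    have := hI (N u) v
    rw [hA] at this
    linear_combination this
  have hD : ∀ u v, f' u (N (N v)) + f' (N u) (N v) = 0 := by
    intro u v
    have := hI u (N v)
    rw [hB] at this
    linear_combination this
  have hsym : ∀ u v, f' (N (N u)) v = f' u (N (N v)) := by
    intro u v
    linear_combination hC u v - hD u v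
  have hzero : ∀ u, φ2 u * f' e0 u = 0 := by
    intro u
    have h1 := hsym u u
    rw [hf'.skew u (N (N u))] at h1
    have h2 : (2 : F) * f' (N (N u)) u = 0 := by linear_combination h1
    rcases mul_eq_zero.mp h2 with h | h
    · exact absurd h hchar
    · rw [hN2, hb.smul_left] at h
      exact h
  by_cases h1 : φ2 w = 0
  · by_cases h2 : f' e0 e2 = 0
    · have := hzero (w + e2)
      rw [map_add, h1, he2, zero_add, one_mul, hb.add_right, h2, add_zero] at this
      exact hw this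
    · have := hzero e2
      rw [he2, one_mul] at this
      exact h2 this
  · rcases mul_eq_zero.mp (hzero w) with h | h
    · exact h1 h
    · exact hw h

/-- the unipotent case: an element of order `p` with a Jordan block of size three -/
theorem case_unip {p : ℕ} [Fact p.Prime] [CharP F p] (hp2 : p ≠ 2) (hn : 3 ≤ n) :
    ∃ x : Matrix.SpecialLinearGroup (Fin n) F,
      ((x ^ p : Matrix.SpecialLinearGroup (Fin n) F) : MM) = 1 ∧
      (∀ z : F, (x : MM) ≠ z • (1 : MM)) ∧
      ∀ f' : VV → VV → F, Cfsg.Geo.IsSymplecticForm f' → ∀ μ : F, μ ≠ 0 →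
        ¬ ∀ u v, f' ((x : MM) *ᵥ u) ((x : MM) *ᵥ v) = μ * f' u v := by
  have hp : p.Prime := Fact.out
  have hp3 : 3 ≤ p := by
    have := hp.two_le
    omega
  have hchar : (2 : F) ≠ 0 := by
    intro h
    have h2 : ((2 : ℕ) : F) = 0 := by exact_mod_cast h
    have := (CharP.cast_eq_zero_iff F p 2).mp h2
    have := Nat.le_of_dvd (by norm_num) this
    have := hp.two_le
    omega
  obtain ⟨i0, hi0⟩ : ∃ i : Fin n, i = ⟨0, by omega⟩ := ⟨_, rfl⟩
  obtain ⟨i1, hi1⟩ : ∃ i : Fin n, i = ⟨1, by omega⟩ := ⟨_, rfl⟩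
  obtain ⟨i2, hi2⟩ : ∃ i : Fin n, i = ⟨2, by omega⟩ := ⟨_, rfl⟩
  have h01 : i0 ≠ i1 := by rw [hi0, hi1]; intro h; simpa using congrArg Fin.val h
  have h02 : i0 ≠ i2 := by rw [hi0, hi2]; intro h; simpa using congrArg Fin.val h
  have h12 : i1 ≠ i2 := by rw [hi1, hi2]; intro h; simpa using congrArg Fin.val h
  have hne : Nonempty (Fin n) := ⟨i0⟩
  obtain ⟨e0, he0d⟩ : ∃ e : VV, e = Pi.single i0 1 := ⟨_, rfl⟩
  obtain ⟨e1, he1d⟩ : ∃ e : VV, e = Pi.single i1 1 := ⟨_, rfl⟩
  obtain ⟨e2, he2d⟩ : ∃ e : VV, e = Pi.single i2 1 := ⟨_, rfl⟩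
  obtain ⟨X, hXd⟩ : ∃ X : MM, X = Matrix.transvection i0 i1 1 * Matrix.transvection i1 i2 1 :=
    ⟨_, rfl⟩
  have hdet : X.det = 1 := by
    rw [hXd, Matrix.det_mul, Matrix.det_transvection_of_ne i0 i1 h01,
      Matrix.det_transvection_of_ne i1 i2 h12, one_mul]
  obtain ⟨N, hNd⟩ : ∃ N : VV →ₗ[F] VV, N =
      ((LinearMap.proj i1 : VV →ₗ[F] F) + LinearMap.proj i2).smulRight e0 +
        (LinearMap.proj i2 : VV →ₗ[F] F).smulRight e1 := ⟨_, rfl⟩
  have hNv : ∀ v, N v = (v i1 + v i2) • e0 + v i2 • e1 := by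
    intro v
    rw [hNd]
    simp [LinearMap.smulRight_apply]
  have hX : ∀ v, X *ᵥ v = v + N v := by
    intro v
    rw [hNv, hXd, ← Matrix.mulVec_mulVec, Matrix.transvection, Matrix.transvection,
      Matrix.add_mulVec, Matrix.one_mulVec, Matrix.single_mulVec_eq, one_mul,
      Matrix.add_mulVec, Matrix.one_mulVec, Matrix.single_mulVec_eq, one_mul, ← he0d, ← he1d]
    have : (v + v i2 • e1) i1 = v i1 + v i2 := by
      rw [he1d]
      simp
    rw [this]
    abel
  have he0i1 : e0 i1 = 0 := by rw [he0d]; simp [h01.symm]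
  have he0i2 : e0 i2 = 0 := by rw [he0d]; simp [h02.symm]
  have he1i1 : e1 i1 = 1 := by rw [he1d]; simp
  have he1i2 : e1 i2 = 0 := by rw [he1d]; simp [h12.symm]
  have hN2 : ∀ v, N (N v) = (LinearMap.proj i2 : VV →ₗ[F] F) v • e0 := by
    intro v
    rw [hNv (N v), hNv v]
    simp only [Pi.add_apply, Pi.smul_apply, smul_eq_mul, he0i1, he0i2, he1i1, he1i2, mul_zero,
      mul_one, zero_add, add_zero, zero_smul, LinearMap.proj_apply]
  have hN3 : ∀ v, N (N (N v)) = 0 := by
    intro v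
    rw [hN2, hNv]
    simp only [LinearMap.proj_apply, Pi.add_apply, Pi.smul_apply, smul_eq_mul, he0i1, he0i2,
      he1i2, mul_zero, add_zero, zero_smul]
  have he0 : e0 ≠ 0 := by
    intro h
    have := congrFun h i0
    rw [he0d] at this
    simp at this
  have he2 : (LinearMap.proj i2 : VV →ₗ[F] F) e2 = 1 := by
    rw [he2d]; simp
  -- the matrix of N
  obtain ⟨Nm, hNm⟩ : ∃ Nm : MM, Nm = X - 1 := ⟨_, rfl⟩
  have hNmv : ∀ v, Nm *ᵥ v = N v := by
    intro v
    rw [hNm, Matrix.sub_mulVec, hX, Matrix.one_mulVec, add_sub_cancel_left]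
  have hNm3 : Nm ^ 3 = 0 := by
    apply Matrix.mulVec_injective
    funext v
    rw [pow_succ, pow_two, ← Matrix.mulVec_mulVec, ← Matrix.mulVec_mulVec, hNmv, hNmv, hNmv,
      hN3, Matrix.zero_mulVec]
  have hXp : X ^ p = 1 := by
    have h1 : X = 1 + Nm := by rw [hNm, add_sub_cancel]
    rw [h1, add_pow_char_of_commute (R := MM) p (Commute.one_left Nm), one_pow]
    have : Nm ^ p = Nm ^ 3 * Nm ^ (p - 3) := by
      rw [← pow_add]
      congr 1
      omega
    rw [this, hNm3, zero_mul, add_zero]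
  obtain ⟨x, hx⟩ : ∃ x : Matrix.SpecialLinearGroup (Fin n) F, (x : MM) = X := ⟨⟨X, hdet⟩, rfl⟩
  refine ⟨x, ?_, ?_, ?_⟩
  · rw [Matrix.SpecialLinearGroup.coe_pow, hx]
    exact hXp
  · intro z hz
    rw [hx] at hz
    have h1 := hX e2
    rw [hz, Matrix.smul_mulVec, Matrix.one_mulVec, hNv] at h1
    have h2 := congrFun h1 i0
    rw [he2d, he0d, he1d] at h2
    simp [h02, h01, h12] at h2
  · intro f' hf' μ hμ hsim
    rw [hx] at hsim
    exact no_simil_of_nilp hchar X N hX hN3 e0 he0 _ hN2 e2 he2 f' hf' μ hsim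

end Cfsg.Agent.helper29.SD
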