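import Mathlib
import Cfsg.Agent.Lib_helper29_SD3

set_option autoImplicit false
set_option linter.unusedSectionVars false
set_option linter.unusedVariables false
namespace Cfsg.Agent.helper29.SD
open Matrix

variable {F : Type*} [Field F] {n : ℕ}

local notation "VV" => (Fin n → F)
local notation "MM" => Matrix (Fin n) (Fin n) F

/-- a nondegenerate alternating form lives on a space of even dimension -/
theorem even_finrank_of_alt_nondeg {V : Type*} [AddCommGroup V] [Module F V]
    [FiniteDimensional F V] (B : LinearMap.BilinForm F V) (hA : B.IsAlt)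
    (hnd : ∀ v : V, v ≠ 0 → ∃ w, B v w ≠ 0) : Even (Module.finrank F V) := by
  classical
  obtain ⟨m, k, b, hef, hee, hff, hrad⟩ := Cfsg.Agent.S0752.result B hA
  have hk : k = 0 := by
    by_contra hk0
    have hpos : 0 < k := Nat.pos_of_ne_zero hk0
    obtain ⟨w, hw⟩ := hnd _ (b.ne_zero (Sum.inr ⟨0, hpos⟩))
    exact hw (hrad ⟨0, hpos⟩ w)
  have := Module.finrank_eq_card_basis b
  rw [this, Fintype.card_sum, Fintype.card_sum, Fintype.card_fin, Fintype.card_fin, hk]
  exact ⟨m, by omega⟩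

/-- an isometry acting without fixed points on an odd-dimensional summand and trivially on a
complement does not exist -/
theorem no_pres_of_odd_block {W : Type*} [AddCommGroup W] [Module F W] [FiniteDimensional F W]
    (B : LinearMap.BilinForm F W) (hA : B.IsAlt) (hnd : ∀ v : W, v ≠ 0 → ∃ w, B v w ≠ 0)
    (T : W →ₗ[F] W) (hT : ∀ u v, B (T u) (T v) = B u v)
    (W1 : Submodule F W) (hodd : Odd (Module.finrank F W1))
    (h1 : ∀ u ∈ W1, ∃ u' ∈ W1, T u' - u' = u)
    (h2 : ∀ w, ∃ a ∈ W1, ∃ b, T b = b ∧ w = a + b) : False := by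
  have hev : Even (Module.finrank F W1) := by
    apply even_finrank_of_alt_nondeg (B.restrict W1)
    · intro v
      exact hA _
    · intro v hv
      have hv' : (v : W) ≠ 0 := fun h => hv (Subtype.ext h)
      obtain ⟨w, hw⟩ := hnd _ hv'
      obtain ⟨a, ha, b, hb, hab⟩ := h2 w
      obtain ⟨u', hu', hu⟩ := h1 v v.2
      have hperp : B v b = 0 := by
        rw [← hu, map_sub, LinearMap.sub_apply]
        have : B (T u') b = B (T u') (T b) := by rw [hb]
        rw [this, hT, sub_self]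
      refine ⟨⟨a, ha⟩, ?_⟩
      rw [LinearMap.BilinForm.restrict_apply]
      rw [hab, map_add, hperp, add_zero] at hw
      exact hw
  exact (Nat.not_even_iff_odd.mpr hodd) hev

/-- similitude relations pass to powers -/
theorem simil_pow (f' : VV → VV → F) (X : MM) (μ : F)
    (hsim : ∀ u v, f' (X *ᵥ u) (X *ᵥ v) = μ * f' u v) (j : ℕ) :
    ∀ u v, f' ((X ^ j) *ᵥ u) ((X ^ j) *ᵥ v) = μ ^ j * f' u v := by
  induction j with
  | zero =>
    intro u v
    rw [pow_zero, pow_zero, Matrix.one_mulVec, Matrix.one_mulVec, one_mul]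
  | succ j ih =>
    intro u v
    rw [pow_succ', ← Matrix.mulVec_mulVec, ← Matrix.mulVec_mulVec, hsim, ih, pow_succ', mul_assoc]

/-- the multiplier of a similitude of finite order -/
theorem mult_pow_eq_one (hn : 1 ≤ n) (f' : VV → VV → F) (hf' : Cfsg.Geo.IsSymplecticForm f')
    (X : MM) (μ : F) (hsim : ∀ u v, f' (X *ᵥ u) (X *ᵥ v) = μ * f' u v) (r : ℕ)
    (hXr : X ^ r = 1) : μ ^ r = 1 := by
  obtain ⟨u0, hu0⟩ : ∃ u0 : VV, u0 = Pi.single (⟨0, by omega⟩ : Fin n) (1 : F) := ⟨_, rfl⟩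
  have hu : u0 ≠ 0 := by
    intro h
    have := congrFun h ⟨0, by omega⟩
    rw [hu0] at this
    simp at this
  obtain ⟨w, hw⟩ := (hf'.nondegenerate _ hu).2
  have := simil_pow f' X μ hsim r u0 w
  rw [hXr, Matrix.one_mulVec, Matrix.one_mulVec] at this
  have h2 : (μ ^ r - 1) * f' u0 w = 0 := by
    linear_combination -this
  rcases mul_eq_zero.mp h2 with h | h
  · exact sub_eq_zero.mp h
  · exact absurd h hw

/-- the case of a prime not dividing `q - 1`: a block from an extension field -/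
theorem case_block {K : Type*} [Field K] [Algebra F K] [FiniteDimensional F K] (k : ℕ)
    (hk : 1 ≤ k) (hdim : Module.finrank F K + k = n) (hodd : Odd (Module.finrank F K))
    (lam : K) (r : ℕ) (hlam : lam ^ r = 1) (hlam1 : lam ≠ 1)
    (hroot : ∀ μ : F, μ ^ r = 1 → μ = 1) :
    ∃ x : Matrix.SpecialLinearGroup (Fin n) F,
      ((x ^ r : Matrix.SpecialLinearGroup (Fin n) F) : MM) = 1 ∧
      (∀ z : F, (x : MM) ≠ z • (1 : MM)) ∧
      ∀ f' : VV → VV → F, Cfsg.Geo.IsSymplecticForm f' → ∀ μ : F, μ ≠ 0 →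
        ¬ ∀ u v, f' ((x : MM) *ᵥ u) ((x : MM) *ᵥ v) = μ * f' u v := by
  have hfr : Module.finrank F (K × (Fin k → F)) = Module.finrank F (Fin n → F) := by
    rw [Module.finrank_prod, Module.finrank_fin_fun, Module.finrank_fin_fun, hdim]
  obtain ⟨h⟩ : Nonempty ((K × (Fin k → F)) ≃ₗ[F] (Fin n → F)) :=
    ⟨LinearEquiv.ofFinrankEq _ _ hfr⟩
  obtain ⟨T, hTd⟩ : ∃ T : (K × (Fin k → F)) →ₗ[F] (K × (Fin k → F)),
      T = (LinearMap.mulLeft F lam).prodMap LinearMap.id := ⟨_, rfl⟩
  have hTv : ∀ a b, T (a, b) = (lam * a, b) := by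
    intro a b
    rw [hTd]
    rfl
  obtain ⟨X, hXd⟩ : ∃ X : MM, X = LinearMap.toMatrix'
      ((h : (K × (Fin k → F)) →ₗ[F] VV) ∘ₗ T ∘ₗ (h.symm : VV →ₗ[F] (K × (Fin k → F)))) :=
    ⟨_, rfl⟩
  have hXv : ∀ u, X *ᵥ u = h (T (h.symm u)) := by
    intro u
    rw [hXd, LinearMap.toMatrix'_mulVec]
    rfl
  have hpow : ∀ j u, (X ^ j) *ᵥ u = h ((lam ^ j * (h.symm u).1, (h.symm u).2)) := by
    intro j
    induction j with
    | zero =>
      intro u
      rw [pow_zero, pow_zero, Matrix.one_mulVec, one_mul, Prod.mk.eta, LinearEquiv.apply_symm_apply]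
    | succ j ih =>
      intro u
      rw [pow_succ', ← Matrix.mulVec_mulVec, ih, hXv, LinearEquiv.symm_apply_apply, hTv,
        ← mul_assoc, ← pow_succ']
  have hXr : X ^ r = 1 := by
    apply Matrix.mulVec_injective
    funext u
    rw [hpow, hlam, one_mul, Prod.mk.eta, LinearEquiv.apply_symm_apply, Matrix.one_mulVec]
  have hdet : X.det = 1 := by
    apply hroot
    rw [← Matrix.det_pow, hXr, Matrix.det_one]
  have hn1 : 1 ≤ n := by omega
  obtain ⟨x, hx⟩ : ∃ x : Matrix.SpecialLinearGroup (Fin n) F, (x : MM) = X := ⟨⟨X, hdet⟩, rfl⟩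
  refine ⟨x, ?_, ?_, ?_⟩
  · rw [Matrix.SpecialLinearGroup.coe_pow, hx]
    exact hXr
  · intro z hz
    rw [hx] at hz
    have hTz : ∀ w, T w = z • w := by
      intro w
      have := hXv (h w)
      rw [hz, Matrix.smul_mulVec, Matrix.one_mulVec, LinearEquiv.symm_apply_apply, ← map_smul] at this
      exact (h.injective this).symm
    have hz1 : z = 1 := by
      have := hTz ((0 : K), (Pi.single (⟨0, by omega⟩ : Fin k) (1 : F) : Fin k → F))
      rw [hTv, Prod.smul_mk, Prod.mk.injEq] at this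
      have h2 := congrFun this.2 ⟨0, by omega⟩
      simp at h2
      exact h2.symm
    have := hTz ((1 : K), (0 : Fin k → F))
    rw [hTv, Prod.smul_mk, Prod.mk.injEq, hz1, one_smul, mul_one] at this
    exact hlam1 this.1
  · intro f' hf' μ hμ hsim
    rw [hx] at hsim
    have hμ1 : μ = 1 := hroot μ (mult_pow_eq_one hn1 f' hf' X μ hsim r hXr)
    rw [hμ1] at hsim
    obtain ⟨B, hBd⟩ : ∃ B : LinearMap.BilinForm F (K × (Fin k → F)),
        B = (PS.toBilin f' hf'.bilinear).compl₁₂ (h : (K × (Fin k → F)) →ₗ[F] VV)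
          (h : (K × (Fin k → F)) →ₗ[F] VV) := ⟨_, rfl⟩
    have hBv : ∀ w w', B w w' = f' (h w) (h w') := by
      intro w w'
      rw [hBd, LinearMap.compl₁₂_apply]
      rfl
    have hA : B.IsAlt := by
      intro w
      rw [hBv]
      exact hf'.alternating _
    have hnd : ∀ v, v ≠ 0 → ∃ w, B v w ≠ 0 := by
      intro v hv
      have hv' : h v ≠ 0 := by
        intro h0
        apply hv
        apply h.injective
        rw [h0, map_zero]
      obtain ⟨y, hy⟩ := (hf'.nondegenerate _ hv').2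
      refine ⟨h.symm y, ?_⟩
      rw [hBv, LinearEquiv.apply_symm_apply]
      exact hy
    have hT : ∀ u v, B (T u) (T v) = B u v := by
      intro u v
      rw [hBv, hBv]
      have h1 := hXv (h u)
      have h2 := hXv (h v)
      rw [LinearEquiv.symm_apply_apply] at h1 h2
      rw [← h1, ← h2, hsim, one_mul]
    obtain ⟨W1, hW1⟩ : ∃ W1 : Submodule F (K × (Fin k → F)),
        W1 = LinearMap.range (LinearMap.inl F K (Fin k → F)) := ⟨_, rfl⟩
    have hW1fr : Module.finrank F W1 = Module.finrank F K := by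
      rw [hW1]
      exact LinearMap.finrank_range_of_inj LinearMap.inl_injective
    have hmem : ∀ a : K, ((a, 0) : K × (Fin k → F)) ∈ W1 := by
      intro a
      rw [hW1]
      exact ⟨a, rfl⟩
    have hl1 : lam - 1 ≠ 0 := sub_ne_zero.mpr hlam1
    apply no_pres_of_odd_block B hA hnd T hT W1 (hW1fr ▸ hodd)
    · intro u hu
      rw [hW1] at hu
      obtain ⟨a, rfl⟩ := hu
      refine ⟨((lam - 1)⁻¹ * a, 0), hmem _, ?_⟩
      rw [hTv]
      show ((lam * ((lam - 1)⁻¹ * a), (0 : Fin k → F)) : K × (Fin k → F)) - ((lam - 1)⁻¹ * a, 0)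
        = (a, 0)
      rw [Prod.mk_sub_mk, sub_zero]
      congr 1
      field_simp
    · intro w
      refine ⟨(w.1, 0), hmem _, (0, w.2), ?_, ?_⟩
      · rw [hTv, mul_zero]
      · rw [Prod.mk_add_mk, add_zero, zero_add]

end Cfsg.Agent.helper29.SD
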