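import Mathlib
import Cfsg.Agent.Lib_helper29_SD4

set_option autoImplicit false
set_option linter.unusedSectionVars false
set_option linter.unusedVariables false
namespace Cfsg.Agent.helper29.SD
open Matrix

variable {F : Type*} [Field F] {n : ℕ}

local notation "VV" => (Fin n → F)
local notation "MM" => Matrix (Fin n) (Fin n) F

/-- a diagonal similitude pairs up its diagonal entries along a permutation -/
theorem diag_simil_perm (d : Fin n → F) (f' : VV → VV → F)
    (hf' : Cfsg.Geo.IsSymplecticForm f') (μ : F)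
    (hsim : ∀ u v, f' (Matrix.diagonal d *ᵥ u) (Matrix.diagonal d *ᵥ v) = μ * f' u v) :
    ∃ σ : Equiv.Perm (Fin n), ∀ j, d (σ j) * d j = μ := by
  classical
  have hb := hf'.bilinear
  obtain ⟨G, hG⟩ : ∃ G : MM, G = Matrix.of (fun j k => f' (Pi.single j 1) (Pi.single k 1)) :=
    ⟨_, rfl⟩
  have hGv : ∀ j k, G j k = f' (Pi.single j 1) (Pi.single k 1) := by
    intro j k
    rw [hG]
    rfl
  have hexp : ∀ (w v : VV), f' w v = ∑ k, v k * f' w (Pi.single k 1) := by
    intro w v
    nth_rewrite 1 [pi_eq_sum_univ' v]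
    show PS.toBilin f' hb w _ = _
    rw [map_sum]
    apply Finset.sum_congr rfl
    intro k _
    rw [map_smul, PS.toBilin_apply, smul_eq_mul]
  have hdet : G.det ≠ 0 := by
    intro h0
    obtain ⟨v, hv, hGv0⟩ := Matrix.exists_mulVec_eq_zero_iff.mpr h0
    have h1 : ∀ j, f' (Pi.single j 1) v = 0 := by
      intro j
      rw [hexp]
      have := congrFun hGv0 j
      rw [Matrix.mulVec, dotProduct, Pi.zero_apply] at this
      rw [← this]
      apply Finset.sum_congr rfl
      intro k _
      rw [hGv, mul_comm]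
    obtain ⟨y, hy⟩ := (hf'.nondegenerate v hv).2
    apply hy
    apply PS.perp_of_cols f' hb 1 1 (one_mul 1) v
    intro j
    rw [Matrix.one_mulVec, hf'.skew, h1, neg_zero]
  rw [Matrix.det_apply] at hdet
  obtain ⟨σ, _, hσ⟩ := Finset.exists_ne_zero_of_sum_ne_zero hdet
  have hprod : ∏ i, G (σ i) i ≠ 0 := by
    intro h0
    apply hσ
    rw [h0, smul_zero]
  rw [Finset.prod_ne_zero_iff] at hprod
  refine ⟨σ, fun j => ?_⟩
  have h1 := hprod j (Finset.mem_univ j)
  rw [hGv] at h1
  have h2 := hsim (Pi.single (σ j) 1) (Pi.single j 1)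
  rw [Matrix.diagonal_mulVec_single, Matrix.diagonal_mulVec_single, mul_one, mul_one] at h2
  have e1 : (Pi.single (σ j) (d (σ j)) : VV) = d (σ j) • Pi.single (σ j) 1 := by
    rw [← Pi.single_smul, smul_eq_mul, mul_one]
  have e2 : (Pi.single j (d j) : VV) = d j • Pi.single j 1 := by
    rw [← Pi.single_smul, smul_eq_mul, mul_one]
  rw [e1, e2, hb.smul_left, hb.smul_right] at h2
  have h3 : (d (σ j) * d j - μ) * f' (Pi.single (σ j) 1) (Pi.single j 1) = 0 := by
    linear_combination h2
  rcases mul_eq_zero.mp h3 with h | h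
  · exact sub_eq_zero.mp h
  · exact absurd h h1

/-- the permutation matches up the multiplicities -/
theorem count_le [DecidableEq F] (d : Fin n → F) (μ : F) (σ : Equiv.Perm (Fin n)) (hd : ∀ j, d j ≠ 0)
    (hσ : ∀ j, d (σ j) * d j = μ) (a : F) :
    (Finset.univ.filter (fun j => d j = a)).card ≤
      (Finset.univ.filter (fun j => d j = μ / a)).card := by
  apply Finset.card_le_card_of_injOn σ
  · intro j hj
    rw [Finset.mem_coe, Finset.mem_filter] at hj ⊢
    refine ⟨Finset.mem_univ _, ?_⟩
    rw [← hj.2, eq_div_iff (hd j)]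
    exact hσ j
  · exact σ.injective.injOn

theorem count_eq [DecidableEq F] (d : Fin n → F) (μ : F) (hμ : μ ≠ 0) (σ : Equiv.Perm (Fin n))
    (hd : ∀ j, d j ≠ 0) (hσ : ∀ j, d (σ j) * d j = μ) (a : F) (ha : a ≠ 0) :
    (Finset.univ.filter (fun j => d j = a)).card =
      (Finset.univ.filter (fun j => d j = μ / a)).card := by
  apply le_antisymm (count_le d μ σ hd hσ a)
  have h := count_le d μ σ hd hσ (μ / a)
  have e : μ / (μ / a) = a := by
    field_simp
  rw [e] at h
  exact h

/-- the case of a prime dividing `q - 1`: a diagonal element -/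
theorem case_diag (hn : 4 ≤ n) (he : Even n) (lam : F) (r : ℕ) (hr : r.Prime) (hr2 : r ≠ 2)
    (hlam : orderOf lam = r) (hgap : ¬ (n = 6 ∧ r = 3)) :
    ∃ x : Matrix.SpecialLinearGroup (Fin n) F,
      ((x ^ r : Matrix.SpecialLinearGroup (Fin n) F) : MM) = 1 ∧
      (∀ z : F, (x : MM) ≠ z • (1 : MM)) ∧
      ∀ f' : VV → VV → F, Cfsg.Geo.IsSymplecticForm f' → ∀ μ : F, μ ≠ 0 →
        ¬ ∀ u v, f' ((x : MM) *ᵥ u) ((x : MM) *ᵥ v) = μ * f' u v := by
  classical
  have hlr : lam ^ r = 1 := by
    rw [← hlam]
    exact pow_orderOf_eq_one lam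
  have hpow : ∀ k : ℕ, lam ^ k = 1 → r ∣ k := by
    intro k hk
    rw [← hlam]
    exact orderOf_dvd_of_pow_eq_one hk
  have hr1 : 1 < r := hr.one_lt
  have hlam0 : lam ≠ 0 := by
    intro h
    rw [h, zero_pow (by omega)] at hlr
    exact zero_ne_one hlr
  have hlam1 : lam ≠ 1 := by
    intro h
    have := hpow 1 (by rw [pow_one, h])
    have := Nat.le_of_dvd (by norm_num) this
    omega
  have hr_dvd2 : ¬ r ∣ 2 := by
    intro h
    exact hr2 ((Nat.prime_dvd_prime_iff_eq hr Nat.prime_two).mp h)
  have hlam2 : lam * lam ≠ 1 := by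
    intro h
    exact hr_dvd2 (hpow 2 (by rw [pow_two, h]))
  obtain ⟨ν, hν⟩ : ∃ ν : F, ν = lam⁻¹ * lam⁻¹ := ⟨_, rfl⟩
  have hν0 : ν ≠ 0 := by
    rw [hν]
    exact mul_ne_zero (inv_ne_zero hlam0) (inv_ne_zero hlam0)
  have hνl : lam * lam * ν = 1 := by
    rw [hν]
    field_simp
  have hν1 : ν ≠ 1 := by
    intro h
    rw [h, mul_one] at hνl
    exact hlam2 hνl
  have hνr : ν ^ r = 1 := by
    rw [hν, mul_pow, inv_pow, hlr, inv_one, mul_one]
  obtain ⟨i0, hi0⟩ : ∃ i : Fin n, i = ⟨0, by omega⟩ := ⟨_, rfl⟩
  obtain ⟨i1, hi1⟩ : ∃ i : Fin n, i = ⟨1, by omega⟩ := ⟨_, rfl⟩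
  obtain ⟨i2, hi2⟩ : ∃ i : Fin n, i = ⟨2, by omega⟩ := ⟨_, rfl⟩
  obtain ⟨i3, hi3⟩ : ∃ i : Fin n, i = ⟨3, by omega⟩ := ⟨_, rfl⟩
  have h01 : i0 ≠ i1 := by rw [hi0, hi1]; intro h; simpa using congrArg Fin.val h
  have h02 : i0 ≠ i2 := by rw [hi0, hi2]; intro h; simpa using congrArg Fin.val h
  have h12 : i1 ≠ i2 := by rw [hi1, hi2]; intro h; simpa using congrArg Fin.val h
  have h30 : i3 ≠ i0 := by rw [hi0, hi3]; intro h; simpa using congrArg Fin.val h
  have h31 : i3 ≠ i1 := by rw [hi1, hi3]; intro h; simpa using congrArg Fin.val h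
  have h32 : i3 ≠ i2 := by rw [hi2, hi3]; intro h; simpa using congrArg Fin.val h
  obtain ⟨d, hd⟩ : ∃ d : Fin n → F,
      d = fun j => if j = i0 ∨ j = i1 then lam else if j = i2 then ν else 1 := ⟨_, rfl⟩
  have hd0 : d i0 = lam := by rw [hd]; simp
  have hd1 : d i1 = lam := by rw [hd]; simp
  have hd2 : d i2 = ν := by rw [hd]; simp [h02.symm, h12.symm]
  have hdo : ∀ j, j ≠ i0 → j ≠ i1 → j ≠ i2 → d j = 1 := by
    intro j a b c
    rw [hd]
    simp [a, b, c]
  have hcases : ∀ j, (j = i0 ∧ d j = lam) ∨ (j = i1 ∧ d j = lam) ∨ (j = i2 ∧ d j = ν) ∨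
      (j ≠ i0 ∧ j ≠ i1 ∧ j ≠ i2 ∧ d j = 1) := by
    intro j
    by_cases a : j = i0
    · left
      exact ⟨a, by rw [a]; exact hd0⟩
    by_cases b : j = i1
    · right; left
      exact ⟨b, by rw [b]; exact hd1⟩
    by_cases c : j = i2
    · right; right; left
      exact ⟨c, by rw [c]; exact hd2⟩
    · right; right; right
      exact ⟨a, b, c, hdo j a b c⟩
  have hdne : ∀ j, d j ≠ 0 := by
    intro j
    rcases hcases j with ⟨_, e⟩ | ⟨_, e⟩ | ⟨_, e⟩ | ⟨_, _, _, e⟩ <;> rw [e]
    · exact hlam0
    · exact hlam0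
    · exact hν0
    · exact one_ne_zero
  have hdr : ∀ j, d j ^ r = 1 := by
    intro j
    rcases hcases j with ⟨_, e⟩ | ⟨_, e⟩ | ⟨_, e⟩ | ⟨_, _, _, e⟩ <;> rw [e]
    · exact hlr
    · exact hlr
    · exact hνr
    · exact one_pow r
  have hS3 : (({i0, i1, i2} : Finset (Fin n))).card = 3 :=
    Finset.card_eq_three.mpr ⟨i0, i1, i2, h01, h02, h12, rfl⟩
  have hprod : ∏ j, d j = 1 := by
    have hS : ∏ j ∈ ({i0, i1, i2} : Finset (Fin n)), d j = ∏ j, d j := by
      apply Finset.prod_subset (Finset.subset_univ _)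
      intro j _ hj
      simp only [Finset.mem_insert, Finset.mem_singleton, not_or] at hj
      exact hdo j hj.1 hj.2.1 hj.2.2
    rw [← hS, Finset.prod_insert (by simp [h01, h02]), Finset.prod_insert (by simp [h12]),
      Finset.prod_singleton, hd0, hd1, hd2, ← mul_assoc]
    exact hνl
  obtain ⟨X, hXd⟩ : ∃ X : MM, X = Matrix.diagonal d := ⟨_, rfl⟩
  have hdet : X.det = 1 := by
    rw [hXd, Matrix.det_diagonal]
    exact hprod
  have hXr : X ^ r = 1 := by
    rw [hXd, Matrix.diagonal_pow]
    have : d ^ r = 1 := by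
      funext j
      rw [Pi.pow_apply, hdr, Pi.one_apply]
    rw [this]
    exact Matrix.diagonal_one
  obtain ⟨x, hx⟩ : ∃ x : Matrix.SpecialLinearGroup (Fin n) F, (x : MM) = X := ⟨⟨X, hdet⟩, rfl⟩
  refine ⟨x, ?_, ?_, ?_⟩
  · rw [Matrix.SpecialLinearGroup.coe_pow, hx]
    exact hXr
  · intro z hz
    rw [hx, hXd] at hz
    have h1 := congrFun (congrFun hz i0) i0
    have h2 := congrFun (congrFun hz i3) i3
    rw [Matrix.diagonal_apply_eq, Matrix.smul_apply, Matrix.one_apply_eq, smul_eq_mul, mul_one]
      at h1 h2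
    rw [hd0] at h1
    rw [hdo i3 h30 h31 h32] at h2
    exact hlam1 (h1.trans h2.symm)
  · intro f' hf' μ hμ hsim
    rw [hx, hXd] at hsim
    obtain ⟨σ, hσ⟩ := diag_simil_perm d f' hf' μ hsim
    obtain ⟨c, hcdef⟩ : ∃ c : F → ℕ,
        c = fun a => (Finset.univ.filter (fun j => d j = a)).card := ⟨_, rfl⟩
    have hca : ∀ a, c a = (Finset.univ.filter (fun j => d j = a)).card := by
      intro a
      rw [hcdef]
    have hc : ∀ a, a ≠ 0 → c a = c (μ / a) := by
      intro a ha
      rw [hca, hca]
      exact count_eq d μ hμ σ hdne hσ a ha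
    have hc1 : c 1 = n - 3 := by
      have e : Finset.univ.filter (fun j => d j = 1) = ({i0, i1, i2} : Finset (Fin n))ᶜ := by
        ext j
        simp only [Finset.mem_filter, Finset.mem_univ, true_and, Finset.mem_compl,
          Finset.mem_insert, Finset.mem_singleton, not_or]
        constructor
        · intro h
          rcases hcases j with ⟨_, e⟩ | ⟨_, e⟩ | ⟨_, e⟩ | ⟨a, b, c, _⟩
          · exact absurd (e.symm.trans h) hlam1
          · exact absurd (e.symm.trans h) hlam1
          · exact absurd (e.symm.trans h) hν1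
          · exact ⟨a, b, c⟩
        · intro h
          exact hdo j h.1 h.2.1 h.2.2
      rw [hca, e, Finset.card_compl, Fintype.card_fin, hS3]
    have hcz : ∀ a, a ≠ lam → a ≠ ν → a ≠ 1 → c a = 0 := by
      intro a h1 h2 h3
      rw [hca, Finset.card_eq_zero, Finset.filter_eq_empty_iff]
      intro j _ hj
      rcases hcases j with ⟨_, e⟩ | ⟨_, e⟩ | ⟨_, e⟩ | ⟨_, _, _, e⟩
      · exact h1 (hj.symm.trans e)
      · exact h1 (hj.symm.trans e)
      · exact h2 (hj.symm.trans e)
      · exact h3 (hj.symm.trans e)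
    have hll : lam * lam ≠ lam := by
      intro h
      apply hlam1
      have : lam * lam = lam * 1 := by rw [h, mul_one]
      exact mul_left_cancel₀ hlam0 this
    by_cases h3 : ν = lam
    · -- the prime is three
      have hl3 : lam ^ 3 = 1 := by
        rw [h3] at hνl
        rw [← hνl]
        ring
      have hr3 : r = 3 := (Nat.prime_dvd_prime_iff_eq hr Nat.prime_three).mp (hpow 3 hl3)
      have hcl : c lam = 3 := by
        have e : Finset.univ.filter (fun j => d j = lam) = ({i0, i1, i2} : Finset (Fin n)) := by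
          ext j
          simp only [Finset.mem_filter, Finset.mem_univ, true_and, Finset.mem_insert,
            Finset.mem_singleton]
          constructor
          · intro h
            rcases hcases j with ⟨a, _⟩ | ⟨a, _⟩ | ⟨a, _⟩ | ⟨_, _, _, e⟩
            · exact Or.inl a
            · exact Or.inr (Or.inl a)
            · exact Or.inr (Or.inr a)
            · exact absurd (h.symm.trans e) hlam1
          · rintro (rfl | rfl | rfl)
            · exact hd0
            · exact hd1
            · rw [hd2, h3]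
        rw [hca, e, hS3]
      have h4 := hc lam hlam0
      rw [hcl] at h4
      by_cases e1 : μ / lam = lam
      · have hμe : μ = lam * lam := (div_eq_iff hlam0).mp e1
        have h5 := hc 1 one_ne_zero
        rw [div_one, hμe, hc1, hcz (lam * lam) hll (h3 ▸ hll) hlam2] at h5
        omega
      · by_cases e2 : μ / lam = 1
        · rw [e2, hc1] at h4
          exact hgap ⟨by omega, hr3⟩
        · rw [hcz (μ / lam) e1 (h3 ▸ e1) e2] at h4
          omega
    · have hcl : c lam = 2 := by
        have e : Finset.univ.filter (fun j => d j = lam) = ({i0, i1} : Finset (Fin n)) := by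
          ext j
          simp only [Finset.mem_filter, Finset.mem_univ, true_and, Finset.mem_insert,
            Finset.mem_singleton]
          constructor
          · intro h
            rcases hcases j with ⟨a, _⟩ | ⟨a, _⟩ | ⟨_, e⟩ | ⟨_, _, _, e⟩
            · exact Or.inl a
            · exact Or.inr a
            · exact absurd (e.symm.trans h) h3
            · exact absurd (h.symm.trans e) hlam1
          · rintro (rfl | rfl)
            · exact hd0
            · exact hd1
        rw [hca, e, Finset.card_pair h01]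
      have hcν : c ν = 1 := by
        have e : Finset.univ.filter (fun j => d j = ν) = ({i2} : Finset (Fin n)) := by
          ext j
          simp only [Finset.mem_filter, Finset.mem_univ, true_and, Finset.mem_singleton]
          constructor
          · intro h
            rcases hcases j with ⟨_, e⟩ | ⟨_, e⟩ | ⟨a, _⟩ | ⟨_, _, _, e⟩
            · exact absurd (h.symm.trans e) h3
            · exact absurd (h.symm.trans e) h3
            · exact a
            · exact absurd (h.symm.trans e) hν1
          · rintro rfl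
            exact hd2
        rw [hca, e, Finset.card_singleton]
      have h4 := hc lam hlam0
      rw [hcl] at h4
      by_cases e1 : μ / lam = lam
      · have hμe : μ = lam * lam := (div_eq_iff hlam0).mp e1
        have h5 := hc ν hν0
        rw [hcν] at h5
        have hτ : μ / ν * ν = lam * lam := by rw [div_mul_cancel₀ _ hν0, hμe]
        by_cases t1 : μ / ν = lam
        · rw [t1, hcl] at h5
          omega
        · by_cases t2 : μ / ν = ν
          · rw [t2] at hτ
            have h6 : lam ^ 6 = 1 := by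
              linear_combination (-(lam * lam) ^ 2) * hτ + (lam * lam * ν + 1) * hνl
            have h7 : r ∣ 2 * 3 := hpow 6 h6
            rcases (Nat.Prime.dvd_mul hr).mp h7 with h8 | h8
            · exact hr_dvd2 h8
            · have hr3 : r = 3 := (Nat.prime_dvd_prime_iff_eq hr Nat.prime_three).mp h8
              rw [hr3] at hlr
              apply h3
              have h9 : lam * lam * ν = lam * lam * lam := by
                rw [hνl, ← hlr]
                ring
              exact mul_left_cancel₀ (mul_ne_zero hlam0 hlam0) h9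
          · by_cases t3 : μ / ν = 1
            · rw [t3, one_mul] at hτ
              rw [hτ] at hνl
              have h6 : lam ^ 4 = 1 := by
                rw [← hνl]
                ring
              have h7 : r ∣ 2 * 2 := hpow 4 h6
              rcases (Nat.Prime.dvd_mul hr).mp h7 with h8 | h8 <;> exact hr_dvd2 h8
            · rw [hcz (μ / ν) t1 t2 t3] at h5
              omega
      · by_cases e2 : μ / lam = ν
        · rw [e2, hcν] at h4
          omega
        · by_cases e3 : μ / lam = 1
          · rw [e3, hc1] at h4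
            obtain ⟨t, ht⟩ := he
            omega
          · rw [hcz (μ / lam) e1 e2 e3] at h4
            omega

end Cfsg.Agent.helper29.SD
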