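import Mathlib
import Cfsg.Agent.Lib_helper29_SF1
import Cfsg.Agent.Lib_helper11_SqZero

set_option autoImplicit false
set_option linter.unusedSectionVars false
set_option linter.unusedVariables false
namespace Cfsg.Agent.helper29.SF
open Matrix

variable {F : Type*} [Field F] {n : ℕ}

local notation "VV" => (Fin n → F)

/-- conjugation into the subfield group from an eigenbasis with eigenvalues in `c • F₀` -/
theorem sf_of_eigenbasis (F₀ : Subfield F) (x : Matrix.SpecialLinearGroup (Fin n) F) {κ : Type*}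
    [Fintype κ] [DecidableEq κ] [Nonempty κ] (β : Module.Basis κ F VV) (e : κ ≃ Fin n) (c : F)
    (hc : c ≠ 0) (ℓ : κ → F₀)
    (h : ∀ b, Matrix.toLin' (x : Matrix (Fin n) (Fin n) F) (β b) = (c * (ℓ b : F)) • β b) :
    ∃ P : Matrix.SpecialLinearGroup (Fin n) F, P⁻¹ * x * P ∈
      (Cfsg.Geo.subfieldSubgroup F₀ (1 : GL (Fin n) F)).comap
        (Matrix.SpecialLinearGroup.toGL : Matrix.SpecialLinearGroup (Fin n) F →* GL (Fin n) F) := by
  classical
  have hrepr : ∀ a b, β.repr (Matrix.toLin' (x : Matrix (Fin n) (Fin n) F) (β b)) a =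
      if a = b then c * (ℓ b : F) else 0 := by
    intro a b
    rw [h, map_smul, Module.Basis.repr_self, Finsupp.smul_apply, Finsupp.single_apply]
    by_cases hab : a = b
    · rw [if_pos hab, if_pos hab.symm, smul_eq_mul, mul_one]
    · rw [if_neg hab, if_neg (Ne.symm hab), smul_zero]
  have hunit := LinearEquiv.isUnit_det' ((Pi.basisFun F (Fin n)).equiv β e.symm)
  obtain ⟨δ, hδ⟩ : ∃ δ : F, δ = LinearMap.det
      (((Pi.basisFun F (Fin n)).equiv β e.symm : VV ≃ₗ[F] VV) : VV →ₗ[F] VV) := ⟨_, rfl⟩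
  have hδ0 : δ ≠ 0 := by
    rw [hδ]
    exact hunit.ne_zero
  obtain ⟨k₀⟩ : Nonempty κ := inferInstance
  apply sf_conj_diag F₀ x β e c hc ?_ (Function.update (fun _ => (1 : F)) k₀ δ⁻¹)
  · intro a b hne
    rw [hrepr] at hne
    by_cases hab : a = b
    · rw [hab]
    · rw [if_neg hab] at hne
      exact absurd rfl hne
  · rw [Finset.prod_update_of_mem (Finset.mem_univ k₀), ← hδ]
    simp only [Finset.prod_const_one, mul_one]
    exact inv_mul_cancel₀ hδ0
  · intro a b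
    rw [hrepr]
    by_cases hab : a = b
    · exact ⟨ℓ b, by rw [if_pos hab]⟩
    · exact ⟨0, by rw [if_neg hab]; simp⟩

/-- the split semisimple case -/
theorem sf_case_split (hchar : (2 : F) ≠ 0) (F₀ : Subfield F)
    (x : Matrix.SpecialLinearGroup (Fin n) F) (γ : F) (hγ0 : γ ≠ 0)
    (hx2 : (x : Matrix (Fin n) (Fin n) F) * (x : Matrix (Fin n) (Fin n) F) = (γ * γ) • 1)
    (hn1 : 1 ≤ n) :
    ∃ P : Matrix.SpecialLinearGroup (Fin n) F, P⁻¹ * x * P ∈
      (Cfsg.Geo.subfieldSubgroup F₀ (1 : GL (Fin n) F)).comap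
        (Matrix.SpecialLinearGroup.toGL : Matrix.SpecialLinearGroup (Fin n) F →* GL (Fin n) F) := by
  classical
  obtain ⟨xL, hxL⟩ : ∃ xL : VV →ₗ[F] VV, xL = Matrix.toLin' (x : Matrix (Fin n) (Fin n) F) :=
    ⟨_, rfl⟩
  have hxx : ∀ v, xL (xL v) = (γ * γ) • v := by
    intro v
    rw [hxL, Matrix.toLin'_apply, Matrix.toLin'_apply, Matrix.mulVec_mulVec, hx2,
      Matrix.smul_mulVec, Matrix.one_mulVec]
  obtain ⟨a, bb, B₀, hl, hr⟩ := exists_eigenbasis hchar xL γ hγ0 hxx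
  have hab : a + bb = n := by
    have := Module.finrank_eq_card_basis B₀
    rw [Module.finrank_fin_fun, Fintype.card_sum, Fintype.card_fin, Fintype.card_fin] at this
    exact this.symm
  haveI : Nonempty (Fin a ⊕ Fin bb) := by
    by_cases h : 0 < a
    · exact ⟨Sum.inl ⟨0, h⟩⟩
    · exact ⟨Sum.inr ⟨0, by omega⟩⟩
  apply sf_of_eigenbasis F₀ x B₀ (finSumFinEquiv.trans (finCongr hab)) γ hγ0
    (Sum.elim (fun _ => (1 : F₀)) (fun _ => (-1 : F₀)))
  rintro (i | i)
  · rw [← hxL, hl]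
    simp
  · rw [← hxL, hr]
    simp

/-- the unipotent case (characteristic two) -/
theorem sf_case_char_two [Fintype F] [CharP F 2] (F₀ : Subfield F)
    (x : Matrix.SpecialLinearGroup (Fin n) F) (z : F)
    (hx2 : (x : Matrix (Fin n) (Fin n) F) * (x : Matrix (Fin n) (Fin n) F) = z • 1) (hz : z ≠ 0)
    (hns : ∀ c : F, (x : Matrix (Fin n) (Fin n) F) ≠ c • 1) :
    ∃ P : Matrix.SpecialLinearGroup (Fin n) F, P⁻¹ * x * P ∈
      (Cfsg.Geo.subfieldSubgroup F₀ (1 : GL (Fin n) F)).comap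
        (Matrix.SpecialLinearGroup.toGL : Matrix.SpecialLinearGroup (Fin n) F →* GL (Fin n) F) := by
  classical
  have h2 : (2 : F) = 0 := CharTwo.two_eq_zero
  have hsq : ∀ t : F, IsSquare t := FiniteField.isSquare_of_char_two (ringChar.eq F 2)
  obtain ⟨γ, hγ⟩ := hsq z
  have hγ0 : γ ≠ 0 := by
    rintro rfl
    apply hz
    rw [hγ, mul_zero]
  obtain ⟨A, hA⟩ : ∃ A : Matrix (Fin n) (Fin n) F, A = (x : Matrix (Fin n) (Fin n) F) := ⟨_, rfl⟩
  rw [← hA] at hx2 hns
  have hNN : (A - γ • 1) * (A - γ • 1) = 0 := by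
    have e : (A - γ • 1) * (A - γ • 1) = A * A - (γ • A + γ • A) + (γ * γ) • 1 := by
      rw [Matrix.sub_mul, Matrix.mul_sub, Matrix.mul_sub, Matrix.smul_mul, Matrix.mul_smul,
        Matrix.smul_mul, Matrix.one_mul, Matrix.mul_one, Matrix.one_mul, smul_smul]
      abel
    rw [e, hx2, ← add_smul, ← two_mul, h2, zero_mul, zero_smul, sub_zero, ← hγ, ← add_smul,
      ← two_mul, h2, zero_mul, zero_smul]
  obtain ⟨Nx, hNxd⟩ : ∃ Nx : VV →ₗ[F] VV, Nx = Matrix.toLin' (γ⁻¹ • (A - γ • 1)) := ⟨_, rfl⟩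
  have hNx : ∀ v, Nx (Nx v) = 0 := by
    intro v
    rw [hNxd, Matrix.toLin'_apply, Matrix.toLin'_apply, Matrix.mulVec_mulVec, Matrix.smul_mul,
      Matrix.mul_smul, hNN, smul_zero, smul_zero, Matrix.zero_mulVec]
  have hNx0 : Nx ≠ 0 := by
    intro h0
    have h1 : γ⁻¹ • (A - γ • 1) = 0 := by
      apply Matrix.toLin'.injective
      rw [← hNxd, h0, map_zero]
    rcases smul_eq_zero.mp h1 with h | h
    · exact inv_ne_zero hγ0 h
    · exact hns γ (sub_eq_zero.mp h)
  have hxN : ∀ v, Matrix.toLin' A v = γ • v + γ • Nx v := by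
    intro v
    rw [hNxd, Matrix.toLin'_apply, Matrix.toLin'_apply, Matrix.smul_mulVec, smul_smul,
      mul_inv_cancel₀ hγ0, one_smul, Matrix.sub_mulVec, Matrix.smul_mulVec, Matrix.one_mulVec]
    abel
  obtain ⟨r, hr⟩ : ∃ r, r = Module.finrank F (LinearMap.range Nx) := ⟨_, rfl⟩
  have hr1 : 1 ≤ r := by
    rw [Nat.one_le_iff_ne_zero]
    intro h0
    rw [hr] at h0
    have := Submodule.finrank_eq_zero.mp h0
    exact hNx0 (LinearMap.range_eq_bot.mp this)
  have hrn : r + r ≤ n := by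
    have h1 := LinearMap.finrank_range_add_finrank_ker Nx
    have h3 : LinearMap.range Nx ≤ LinearMap.ker Nx := by
      rintro _ ⟨v, rfl⟩
      exact LinearMap.mem_ker.mpr (hNx v)
    have h4 := Submodule.finrank_mono h3
    rw [Module.finrank_fin_fun] at h1
    omega
  obtain ⟨k, hk⟩ : ∃ k, r + r + k = n := ⟨n - (r + r), by omega⟩
  obtain ⟨β, hβ1, hβ2⟩ := Cfsg.Agent.helper11.exists_sqzero_basis Nx hNx r k hr.symm
    (by rw [Module.finrank_fin_fun]; exact hk)
  have hcard : Fintype.card (Fin r ⊕ (Fin r ⊕ Fin k)) = n := by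
    rw [Fintype.card_sum, Fintype.card_sum, Fintype.card_fin, Fintype.card_fin]
    omega
  obtain ⟨e⟩ : Nonempty ((Fin r ⊕ (Fin r ⊕ Fin k)) ≃ Fin n) :=
    Fintype.card_eq.mp (by rw [hcard, Fintype.card_fin])
  obtain ⟨tt, htt⟩ : ∃ tt : (Fin r ⊕ (Fin r ⊕ Fin k)) → (Fin r ⊕ (Fin r ⊕ Fin k)) → F₀,
      tt = fun a b => Sum.elim
        (fun i => (if a = Sum.inl i then (1 : F₀) else 0) +
          (if a = Sum.inr (Sum.inl i) then (1 : F₀) else 0))
        (fun j => if a = Sum.inr j then (1 : F₀) else 0) b := ⟨_, rfl⟩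
  have hrepr : ∀ a b, β.repr (Matrix.toLin' (x : Matrix (Fin n) (Fin n) F) (β b)) a =
      γ * (tt a b : F) := by
    intro a b
    rw [← hA, hxN, htt]
    rcases b with i | j
    · rw [hβ1, map_add, map_smul, map_smul, Module.Basis.repr_self, Module.Basis.repr_self]
      simp only [Finsupp.coe_add, Finsupp.coe_smul, Pi.add_apply, Pi.smul_apply,
        Finsupp.single_apply, smul_eq_mul, Sum.elim_inl]
      by_cases h1 : a = Sum.inl i
      · subst h1
        simp
      · by_cases h2 : a = Sum.inr (Sum.inl i)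
        · subst h2
          simp
        · rw [if_neg (Ne.symm h1), if_neg (Ne.symm h2), if_neg h1, if_neg h2]
          simp
    · rw [hβ2, smul_zero, add_zero, map_smul, Module.Basis.repr_self]
      simp only [Finsupp.coe_smul, Pi.smul_apply, Finsupp.single_apply, smul_eq_mul,
        Sum.elim_inr]
      by_cases h1 : a = Sum.inr j
      · subst h1
        simp
      · rw [if_neg (Ne.symm h1), if_neg h1]
        simp
  have hunit := LinearEquiv.isUnit_det' ((Pi.basisFun F (Fin n)).equiv β e.symm)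
  obtain ⟨δ, hδ⟩ : ∃ δ : F, δ = LinearMap.det
      (((Pi.basisFun F (Fin n)).equiv β e.symm : VV ≃ₗ[F] VV) : VV →ₗ[F] VV) := ⟨_, rfl⟩
  have hδ0 : δ ≠ 0 := by
    rw [hδ]
    exact hunit.ne_zero
  obtain ⟨d, hd⟩ := hsq δ⁻¹
  obtain ⟨i₀, hi₀⟩ : ∃ i₀ : Fin r, i₀ = ⟨0, hr1⟩ := ⟨_, rfl⟩
  obtain ⟨dd, hdd⟩ : ∃ dd : (Fin r ⊕ (Fin r ⊕ Fin k)) → F,
      dd = Sum.elim (fun i => if i = i₀ then d else 1)
        (Sum.elim (fun i => if i = i₀ then d else 1) (fun _ => 1)) := ⟨_, rfl⟩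
  apply sf_conj_diag F₀ x β e γ hγ0 (fun a b => ⟨tt a b, hrepr a b⟩) dd
  · intro a b hne
    rw [hrepr, htt] at hne
    rcases b with i | j
    · simp only [Sum.elim_inl] at hne
      by_cases h1 : a = Sum.inl i
      · rw [h1]
      · by_cases h2 : a = Sum.inr (Sum.inl i)
        · rw [h2, hdd]
          rfl
        · rw [if_neg h1, if_neg h2] at hne
          simp at hne
    · simp only [Sum.elim_inr] at hne
      by_cases h1 : a = Sum.inr j
      · rw [h1]
      · rw [if_neg h1] at hne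
        simp at hne
  · rw [← hδ, hdd, Fintype.prod_sum_type, Fintype.prod_sum_type]
    simp only [Sum.elim_inl, Sum.elim_inr, Finset.prod_ite_eq', Finset.mem_univ, if_true,
      Finset.prod_const_one, mul_one]
    rw [← hd]
    exact inv_mul_cancel₀ hδ0

end Cfsg.Agent.helper29.SF
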