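import Mathlib
import Cfsg.Agent.Lib_helper29_SF1
import Cfsg.Agent.Lib_helper12_Card

set_option autoImplicit false
set_option linter.unusedSectionVars false
set_option linter.unusedVariables false
namespace Cfsg.Agent.helper29.SF
open Matrix

variable {F : Type*} [Field F] {n : ℕ}

local notation "VV" => (Fin n → F)

theorem geom_sub_one (b k : ℕ) (hb : 1 ≤ b) :
    b ^ k - 1 = (b - 1) * ∑ t ∈ Finset.range k, b ^ t := by
  obtain ⟨c, rfl⟩ : ∃ c, b = c + 1 := ⟨b - 1, by omega⟩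
  have := geom_sum_mul_add c k
  rw [Nat.add_sub_cancel, ← this, Nat.add_sub_cancel, mul_comm]

theorem odd_geom_sum (b k : ℕ) (hb : Odd b) (hk : Odd k) :
    Odd (∑ t ∈ Finset.range k, b ^ t) := by
  rw [Nat.odd_iff, Finset.sum_nat_mod]
  have : ∀ t ∈ Finset.range k, b ^ t % 2 = 1 := by
    intro t _
    exact Nat.odd_iff.mp (hb.pow)
  rw [Finset.sum_congr rfl this, Finset.sum_const, Finset.card_range, smul_eq_mul, mul_one]
  exact Nat.odd_iff.mp hk

theorem term_eq (a k m i : ℕ) (ha : 1 ≤ a) (hi : i ≤ m) :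
    (a ^ k) ^ m - (a ^ k) ^ i =
      (a ^ m - a ^ i) * (a ^ (i * (k - 1)) * ∑ t ∈ Finset.range k, (a ^ (m - i)) ^ t) := by
  obtain ⟨j, rfl⟩ : ∃ j, m = i + j := ⟨m - i, by omega⟩
  rw [Nat.add_sub_cancel_left]
  have h1 : (a ^ k) ^ (i + j) - (a ^ k) ^ i = (a ^ k) ^ i * ((a ^ j) ^ k - 1) := by
    rw [pow_add, Nat.mul_sub, mul_one, ← pow_mul, ← pow_mul, ← pow_mul, mul_comm j k]
  have h2 : a ^ (i + j) - a ^ i = a ^ i * (a ^ j - 1) := by
    rw [pow_add, Nat.mul_sub, mul_one]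
  rw [h1, h2, geom_sub_one (a ^ j) k (Nat.one_le_pow _ _ ha)]
  rcases Nat.eq_zero_or_pos k with hk | hk
  · rw [hk]
    simp
  · have h3 : (a ^ k) ^ i = a ^ i * a ^ (i * (k - 1)) := by
      rw [← pow_mul, ← pow_add]
      congr 1
      obtain ⟨k', rfl⟩ : ∃ k', k = k' + 1 := ⟨k - 1, by omega⟩
      rw [Nat.add_sub_cancel]
      ring
    rw [h3]
    ring

/-- for an extension of odd degree of fields of odd order, the subfield group has odd index -/
theorem index_odd_of_odd_degree [Fintype F] (F₀ : Subfield F) {q q₀ k : ℕ}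
    (hq : Fintype.card F = q) (hF₀ : Nat.card ↥F₀ = q₀) (hqk : q = q₀ ^ k) (hk : Odd k)
    (hq₀odd : Odd q₀) (hn : 1 ≤ n) :
    Odd ((Cfsg.Geo.subfieldSubgroup F₀ (1 : GL (Fin n) F)).comap
      (Matrix.SpecialLinearGroup.toGL :
        Matrix.SpecialLinearGroup (Fin n) F →* GL (Fin n) F)).index := by
  classical
  haveI : Fintype ↥F₀ := Fintype.ofFinite _
  have hcard₀ : Fintype.card ↥F₀ = q₀ := by
    rw [← Nat.card_eq_fintype_card]
    exact hF₀
  obtain ⟨φ, hφ⟩ : ∃ φ : Matrix.SpecialLinearGroup (Fin n) ↥F₀ →*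
      Matrix.SpecialLinearGroup (Fin n) F,
      φ = Matrix.SpecialLinearGroup.map (F₀.subtype : F₀ →+* F) := ⟨_, rfl⟩
  have hφc : ∀ a : Matrix.SpecialLinearGroup (Fin n) ↥F₀,
      ((φ a : Matrix.SpecialLinearGroup (Fin n) F) : Matrix (Fin n) (Fin n) F) =
        (a : Matrix (Fin n) (Fin n) ↥F₀).map (F₀.subtype : F₀ →+* F) := by
    intro a
    rw [hφ]
    rfl
  have hφinj : Function.Injective φ := by
    intro a b hab
    apply Subtype.ext
    have h1 := congrArg (fun y : Matrix.SpecialLinearGroup (Fin n) F =>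
      (y : Matrix (Fin n) (Fin n) F)) hab
    simp only [hφc] at h1
    ext i j
    have h2 := congrFun (congrFun h1 i) j
    rw [Matrix.map_apply, Matrix.map_apply] at h2
    exact congrArg Subtype.val (Subtype.ext h2)
  have hle : φ.range ≤ (Cfsg.Geo.subfieldSubgroup F₀ (1 : GL (Fin n) F)).comap
      (Matrix.SpecialLinearGroup.toGL :
        Matrix.SpecialLinearGroup (Fin n) F →* GL (Fin n) F) := by
    rintro _ ⟨a, rfl⟩
    rw [Subgroup.mem_comap]
    apply mem_sf_of F₀ _ 1 one_ne_zero (a : Matrix (Fin n) (Fin n) F₀)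
    rw [one_smul, hφc]
  have hdvd := Subgroup.index_dvd_of_le hle
  suffices hodd : Odd φ.range.index from Odd.of_dvd_nat hodd hdvd
  have h1 := Subgroup.index_mul_card φ.range
  have h2 : Nat.card φ.range = Nat.card (Matrix.SpecialLinearGroup (Fin n) ↥F₀) :=
    (Nat.card_congr (MonoidHom.ofInjective hφinj).toEquiv).symm
  have h3 := Cfsg.Agent.helper12.card_GL_eq_card_SL_mul (F := F) n hn
  have h4 := Cfsg.Agent.helper12.card_GL_eq_card_SL_mul (F := ↥F₀) n hn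
  have h5 := Matrix.card_GL_field (𝔽 := F) n
  have h6 := Matrix.card_GL_field (𝔽 := ↥F₀) n
  rw [hq] at h3 h5
  rw [hcard₀] at h4 h6
  have hq₀1 : 1 ≤ q₀ := hq₀odd.pos
  have hterm : ∀ i : Fin n, q ^ n - q ^ (i : ℕ) = (q₀ ^ n - q₀ ^ (i : ℕ)) *
      (q₀ ^ ((i : ℕ) * (k - 1)) * ∑ t ∈ Finset.range k, (q₀ ^ (n - (i : ℕ))) ^ t) := by
    intro i
    rw [hqk]
    exact term_eq q₀ k n i hq₀1 i.2.le
  have hG : Nat.card (GL (Fin n) F) = Nat.card (GL (Fin n) ↥F₀) *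
      ∏ i : Fin n, (q₀ ^ ((i : ℕ) * (k - 1)) *
        ∑ t ∈ Finset.range k, (q₀ ^ (n - (i : ℕ))) ^ t) := by
    rw [h5, h6, ← Finset.prod_mul_distrib]
    exact Finset.prod_congr rfl (fun i _ => hterm i)
  have hOodd : Odd (∏ i : Fin n, (q₀ ^ ((i : ℕ) * (k - 1)) *
        ∑ t ∈ Finset.range k, (q₀ ^ (n - (i : ℕ))) ^ t)) := by
    apply Finset.prod_induction _ Odd (fun a b ha hb => ha.mul hb) odd_one
    intro i _
    exact (hq₀odd.pow).mul (odd_geom_sum _ k hq₀odd.pow hk)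
  have hR : q - 1 = (q₀ - 1) * ∑ t ∈ Finset.range k, q₀ ^ t := by
    rw [hqk]
    exact geom_sub_one q₀ k hq₀1
  have hG₀pos : 0 < Nat.card (GL (Fin n) ↥F₀) := Nat.card_pos
  obtain ⟨O, hO⟩ : ∃ O, O = ∏ i : Fin n, (q₀ ^ ((i : ℕ) * (k - 1)) *
        ∑ t ∈ Finset.range k, (q₀ ^ (n - (i : ℕ))) ^ t) := ⟨_, rfl⟩
  rw [← hO] at hG hOodd
  obtain ⟨R, hRd⟩ : ∃ R, R = ∑ t ∈ Finset.range k, q₀ ^ t := ⟨_, rfl⟩
  rw [← hRd] at hR
  rw [h2] at h1
  have key : Nat.card (GL (Fin n) ↥F₀) * (φ.range.index * R) = Nat.card (GL (Fin n) ↥F₀) * O := by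
    rw [← hG, h3, ← h1, hR, h4]
    ring
  have key2 := Nat.eq_of_mul_eq_mul_left hG₀pos key
  rw [← key2] at hOodd
  exact (Nat.odd_mul.mp hOodd).1

end Cfsg.Agent.helper29.SF
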