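import Mathlib
import Cfsg.Prelude.Def_GeometricClasses

set_option autoImplicit false
set_option linter.unusedSectionVars false
set_option linter.unusedVariables false
namespace Cfsg.Agent.helper29.SG
open Matrix

variable {F : Type*} [Field F] {n : ℕ}

local notation "VV" => (Fin n → F)
local notation "MM" => Matrix (Fin n) (Fin n) F

theorem isField_of (r : ℕ) (hr : r ≠ 0) (K : Subalgebra F MM)
    (hK : Cfsg.Geo.IsFieldSubalgebra r K) : IsField ↥K := by
  refine ⟨⟨0, 1, ?_⟩, ?_, ?_⟩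
  · intro h01
    have h1 : ∀ x : ↥K, x = 0 := by
      intro x
      have : x = x * 1 := (mul_one x).symm
      rw [this, ← h01, mul_zero]
    have : Subsingleton ↥K := ⟨fun a b => by rw [h1 a, h1 b]⟩
    have := hK.finrank_eq
    rw [Module.finrank_zero_of_subsingleton] at this
    exact hr this.symm
  · intro x y
    apply Subtype.ext
    exact hK.comm x.1 x.2 y.1 y.2
  · intro a ha
    have ha' : (a : MM) ≠ 0 := by
      intro h
      apply ha
      exact Subtype.ext h
    obtain ⟨y, hy, hay⟩ := hK.inv a.1 a.2 ha'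
    exact ⟨⟨y, hy⟩, Subtype.ext hay⟩

theorem isDomain_of (r : ℕ) (hr : r ≠ 0) (K : Subalgebra F MM)
    (hK : Cfsg.Geo.IsFieldSubalgebra r K) : IsDomain ↥K := by
  letI : Field ↥K := (isField_of r hr K hK).toField
  exact inferInstanceAs (IsDomain ↥K)

theorem inj_of_mem (r : ℕ) (K : Subalgebra F MM) (hK : Cfsg.Geo.IsFieldSubalgebra r K) (k : MM)
    (hk : k ∈ K) (hk0 : k ≠ 0) (w : VV) (hw : k *ᵥ w = 0) : w = 0 := by
  obtain ⟨y, hy, hky⟩ := hK.inv k hk hk0
  have hyk : y * k = 1 := by rw [hK.comm y hy k hk, hky]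
  have : w = (y * k) *ᵥ w := by rw [hyk, Matrix.one_mulVec]
  rw [this, ← Matrix.mulVec_mulVec, hw, Matrix.mulVec_zero]

/-- evaluation at a vector -/
def evL (K : Subalgebra F MM) (v : VV) : ↥K →ₗ[F] VV where
  toFun k := (k : MM) *ᵥ v
  map_add' a b := by
    show ((a + b : ↥K) : MM) *ᵥ v = _
    rw [Subalgebra.coe_add, Matrix.add_mulVec]
  map_smul' c a := by
    show ((c • a : ↥K) : MM) *ᵥ v = _
    rw [Subalgebra.coe_smul, Matrix.smul_mulVec]
    rfl

theorem evL_apply (K : Subalgebra F MM) (v : VV) (k : ↥K) : evL K v k = (k : MM) *ᵥ v := rfl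

theorem evL_bijective (K : Subalgebra F MM) (hK : Cfsg.Geo.IsFieldSubalgebra n K) (v : VV)
    (hv : v ≠ 0) : Function.Bijective (evL K v) := by
  have hinj : Function.Injective (evL K v) := by
    rw [← LinearMap.ker_eq_bot, LinearMap.ker_eq_bot']
    intro k hk
    by_contra hk0
    have hk0' : (k : MM) ≠ 0 := by
      intro h
      apply hk0
      exact Subtype.ext h
    exact hv (inj_of_mem n K hK k.1 k.2 hk0' v hk)
  refine ⟨hinj, ?_⟩
  have hfr : Module.finrank F ↥K = Module.finrank F VV := by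
    rw [hK.finrank_eq, Module.finrank_fin_fun]
  exact (LinearMap.injective_iff_surjective_of_finrank_eq_finrank hfr).mp hinj

theorem exists_mul_eq (K : Subalgebra F MM) (hK : Cfsg.Geo.IsFieldSubalgebra n K) (v : VV)
    (hv : v ≠ 0) (w : VV) : ∃ k : ↥K, (k : MM) *ᵥ v = w :=
  (evL_bijective K hK v hv).2 w

/-- the centraliser of a maximal subfield is the subfield -/
theorem mem_of_commute (hn : 1 ≤ n) (K : Subalgebra F MM) (hK : Cfsg.Geo.IsFieldSubalgebra n K)
    (M : MM) (hM : ∀ k ∈ K, M * k = k * M) : M ∈ K := by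
  obtain ⟨v₀, hv₀⟩ : ∃ v₀ : VV, v₀ ≠ 0 := by
    refine ⟨Pi.single ⟨0, by omega⟩ 1, ?_⟩
    intro h
    have := congrFun h ⟨0, by omega⟩
    simp at this
  obtain ⟨k₀, hk₀⟩ := exists_mul_eq K hK v₀ hv₀ (M *ᵥ v₀)
  have : M = (k₀ : MM) := by
    apply Matrix.mulVec_injective
    funext w
    obtain ⟨k, hk⟩ := exists_mul_eq K hK v₀ hv₀ w
    calc M *ᵥ w = (M * (k : MM)) *ᵥ v₀ := by rw [← hk, Matrix.mulVec_mulVec]
      _ = ((k : MM) * M) *ᵥ v₀ := by rw [hM k.1 k.2]
      _ = (k : MM) *ᵥ ((k₀ : MM) *ᵥ v₀) := by rw [← Matrix.mulVec_mulVec, hk₀]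
      _ = ((k₀ : MM) * (k : MM)) *ᵥ v₀ := by
          rw [Matrix.mulVec_mulVec, hK.comm k.1 k.2 k₀.1 k₀.2]
      _ = (k₀ : MM) *ᵥ w := by rw [← Matrix.mulVec_mulVec, hk]
  rw [this]
  exact k₀.2

/-- a non-scalar element normalising a subfield of prime degree `n` has eigenspaces of dimension
at most one -/
theorem scalar_of_eigen (hn : n.Prime) (K : Subalgebra F MM)
    (hK : Cfsg.Geo.IsFieldSubalgebra n K) (h : GL (Fin n) F)
    (hh : h ∈ Cfsg.Geo.subalgebraNormalizer K) (μ : F) (v w : VV)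
    (hv : (h : MM) *ᵥ v = μ • v) (hw : (h : MM) *ᵥ w = μ • w) (hv0 : v ≠ 0)
    (hind : ∀ c : F, w ≠ c • v) : (h : MM) = μ • (1 : MM) := by
  classical
  obtain ⟨G, hG⟩ : ∃ G : MM, G = (h : MM) := ⟨_, rfl⟩
  obtain ⟨G', hG'⟩ : ∃ G' : MM, G' = ((h⁻¹ : GL (Fin n) F) : MM) := ⟨_, rfl⟩
  have h1 : G * G' = 1 := by rw [hG, hG']; exact Units.mul_inv h
  have h2 : G' * G = 1 := by rw [hG, hG']; exact Units.inv_mul h
  rw [← hG] at hv hw ⊢
  obtain ⟨k, hk⟩ := exists_mul_eq K hK v hv0 w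
  have hμ : μ ≠ 0 := by
    rintro rfl
    rw [zero_smul] at hv
    apply hv0
    have : v = (G' * G) *ᵥ v := by rw [h2, Matrix.one_mulVec]
    rw [this, ← Matrix.mulVec_mulVec, hv, Matrix.mulVec_zero]
  have hmem : G * (k : MM) * G' ∈ K := by
    rw [hG, hG']
    exact (hh k.1).mp k.2
  have hk'G : G * (k : MM) * G' * G = G * (k : MM) := by
    rw [Matrix.mul_assoc, h2, Matrix.mul_one]
  have hcomm : G * (k : MM) = (k : MM) * G := by
    have e1 : (G * (k : MM) * G') *ᵥ v = (k : MM) *ᵥ v := by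
      have a1 : G *ᵥ w = μ • ((G * (k : MM) * G') *ᵥ v) := by
        calc G *ᵥ w = (G * (k : MM)) *ᵥ v := by rw [← hk, Matrix.mulVec_mulVec]
          _ = (G * (k : MM) * G' * G) *ᵥ v := by rw [hk'G]
          _ = (G * (k : MM) * G') *ᵥ (G *ᵥ v) := by rw [Matrix.mulVec_mulVec]
          _ = μ • ((G * (k : MM) * G') *ᵥ v) := by rw [hv, Matrix.mulVec_smul]
      rw [hw, ← hk] at a1
      exact (smul_right_injective VV hμ a1).symm
    have e2 : (G * (k : MM) * G' - (k : MM)) *ᵥ v = 0 := by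
      rw [Matrix.sub_mulVec, e1, sub_self]
    have e3 : G * (k : MM) * G' - (k : MM) = 0 := by
      by_contra hne
      exact hv0 (inj_of_mem n K hK _ (K.sub_mem hmem k.2) hne v e2)
    have e4 : G * (k : MM) * G' = (k : MM) := sub_eq_zero.mp e3
    rw [← hk'G, e4]
  -- the subalgebra of elements commuting with `G`
  haveI : IsDomain ↥K := isDomain_of n hn.ne_zero K hK
  obtain ⟨L, hL⟩ : ∃ L : Subalgebra F ↥K, ∀ a : ↥K, a ∈ L ↔ G * (a : MM) = (a : MM) * G := by
    refine ⟨{ carrier := {a | G * (a : MM) = (a : MM) * G}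
              mul_mem' := ?_
              add_mem' := ?_
              algebraMap_mem' := ?_ }, fun a => Iff.rfl⟩
    · intro a b ha hb
      show G * ((a * b : ↥K) : MM) = ((a * b : ↥K) : MM) * G
      have ha' : G * (a : MM) = (a : MM) * G := ha
      have hb' : G * (b : MM) = (b : MM) * G := hb
      rw [Subalgebra.coe_mul, ← Matrix.mul_assoc, ha', Matrix.mul_assoc, hb', Matrix.mul_assoc]
    · intro a b ha hb
      show G * ((a + b : ↥K) : MM) = ((a + b : ↥K) : MM) * G
      have ha' : G * (a : MM) = (a : MM) * G := ha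
      have hb' : G * (b : MM) = (b : MM) * G := hb
      rw [Subalgebra.coe_add, Matrix.mul_add, Matrix.add_mul, ha', hb']
    · intro c
      show G * ((algebraMap F ↥K c : ↥K) : MM) = ((algebraMap F ↥K c : ↥K) : MM) * G
      rw [Subalgebra.coe_algebraMap, Algebra.algebraMap_eq_smul_one, Matrix.mul_smul,
        Matrix.smul_mul, Matrix.mul_one, Matrix.one_mul]
  have hsimple := Subalgebra.isSimpleOrder_of_finrank_prime F ↥K (by rw [hK.finrank_eq]; exact hn)
  have hkL : k ∈ L := (hL k).mpr hcomm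
  rcases hsimple.eq_bot_or_eq_top L with hbot | htop
  · exfalso
    rw [hbot, Algebra.mem_bot] at hkL
    obtain ⟨c, hc⟩ := hkL
    apply hind c
    rw [← hk, ← hc, Subalgebra.coe_algebraMap, Algebra.algebraMap_eq_smul_one,
      Matrix.smul_mulVec, Matrix.one_mulVec]
  · have hall : ∀ a ∈ K, G * a = a * G := by
      intro a ha
      have : (⟨a, ha⟩ : ↥K) ∈ L := by
        rw [htop]
        exact Algebra.mem_top
      exact (hL ⟨a, ha⟩).mp this
    have hGK : G ∈ K := mem_of_commute hn.one_le K hK G hall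
    have hsub : G - μ • (1 : MM) ∈ K := K.sub_mem hGK (K.smul_mem K.one_mem μ)
    have hker : (G - μ • (1 : MM)) *ᵥ v = 0 := by
      rw [Matrix.sub_mulVec, hv, Matrix.smul_mulVec, Matrix.one_mulVec, sub_self]
    by_contra hne
    have hne' : G - μ • (1 : MM) ≠ 0 := fun h0 => hne (sub_eq_zero.mp h0)
    exact hv0 (inj_of_mem n K hK _ hsub hne' v hker)

end Cfsg.Agent.helper29.SG
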