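import Mathlib
import Cfsg.Agent.Lib_helper29_SG1

set_option autoImplicit false
set_option linter.unusedSectionVars false
set_option linter.unusedVariables false
namespace Cfsg.Agent.helper29.SG
open Matrix

variable {F : Type*} [Field F] {n : ℕ}

local notation "VV" => (Fin n → F)
local notation "MM" => Matrix (Fin n) (Fin n) F

/-- the Frobenius automorphism of a subfield of prime degree is induced by an element of its
normaliser -/
theorem exists_frob [Fintype F] (hn : n.Prime) (K : Subalgebra F MM)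
    (hK : Cfsg.Geo.IsFieldSubalgebra n K) :
    ∃ g : GL (Fin n) F, g ∈ Cfsg.Geo.subalgebraNormalizer K ∧ g ^ n = 1 ∧ g ≠ 1 := by
  classical
  letI : Field ↥K := (isField_of n hn.ne_zero K hK).toField
  haveI : Module.Finite F ↥K := Module.finite_of_finrank_pos (by rw [hK.finrank_eq]; exact hn.pos)
  haveI : Finite ↥K := Module.finite_of_finite F
  obtain ⟨φ, hφd⟩ : ∃ φ : ↥K →ₐ[F] ↥K, φ = FiniteField.frobeniusAlgHom F ↥K := ⟨_, rfl⟩
  have hord : orderOf φ = n := by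
    rw [hφd, FiniteField.orderOf_frobeniusAlgHom, hK.finrank_eq]
  have hφn : φ ^ n = 1 := by
    have := pow_orderOf_eq_one φ
    rwa [hord] at this
  have hφ1 : φ ≠ 1 := by
    intro h
    rw [h, orderOf_one] at hord
    exact hn.one_lt.ne hord
  obtain ⟨v₀, hv₀⟩ : ∃ v₀ : VV, v₀ ≠ 0 := by
    refine ⟨Pi.single ⟨0, hn.pos⟩ 1, ?_⟩
    intro h
    have := congrFun h ⟨0, hn.pos⟩
    simp at this
  obtain ⟨ev, hev⟩ : ∃ ev : ↥K ≃ₗ[F] VV, ∀ k : ↥K, ev k = (k : MM) *ᵥ v₀ :=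
    ⟨LinearEquiv.ofBijective (evL K v₀) (evL_bijective K hK v₀ hv₀), fun k => rfl⟩
  obtain ⟨gL, hgLd⟩ : ∃ gL : Module.End F VV,
      gL = (ev : ↥K →ₗ[F] VV) ∘ₗ φ.toLinearMap ∘ₗ (ev.symm : VV →ₗ[F] ↥K) := ⟨_, rfl⟩
  have hgL : ∀ k : ↥K, gL (ev k) = ev (φ k) := by
    intro k
    rw [hgLd]
    show ev (φ (ev.symm (ev k))) = ev (φ k)
    rw [LinearEquiv.symm_apply_apply]
  have hgLk : ∀ (k : ↥K) (w : VV), gL ((k : MM) *ᵥ w) = ((φ k : ↥K) : MM) *ᵥ gL w := by
    intro k w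
    obtain ⟨k', rfl⟩ := ev.surjective w
    have e1 : (k : MM) *ᵥ ev k' = ev (k * k') := by
      rw [hev, hev, Matrix.mulVec_mulVec]
      rfl
    rw [e1, hgL, hgL, map_mul, hev, hev, Matrix.mulVec_mulVec]
    rfl
  have hgpow : ∀ (j : ℕ) (k : ↥K), (gL ^ j) (ev k) = ev ((φ ^ j) k) := by
    intro j
    induction j with
    | zero =>
      intro k
      rw [pow_zero, pow_zero]
      rfl
    | succ j ih =>
      intro k
      rw [pow_succ', pow_succ', Module.End.mul_apply, ih, hgL]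
      rfl
  have hgLn : gL ^ n = 1 := by
    apply LinearMap.ext
    intro w
    obtain ⟨k, rfl⟩ := ev.surjective w
    rw [hgpow, hφn]
    rfl
  obtain ⟨G, hGd⟩ : ∃ G : MM, G = LinearMap.toMatrixAlgEquiv' gL := ⟨_, rfl⟩
  have hGv : ∀ w, G *ᵥ w = gL w := by
    intro w
    rw [hGd]
    exact LinearMap.toMatrix'_mulVec gL w
  have hGn : G ^ n = 1 := by
    rw [hGd, ← map_pow, hgLn, map_one]
  have hn1 : n = (n - 1) + 1 := by have := hn.pos; omega
  have hGG' : G * G ^ (n - 1) = 1 := by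
    rw [← pow_succ', ← hn1, hGn]
  have hG'G : G ^ (n - 1) * G = 1 := by
    rw [← pow_succ, ← hn1, hGn]
  obtain ⟨g, hg, hg'⟩ : ∃ g : GL (Fin n) F, (g : MM) = G ∧
      ((g⁻¹ : GL (Fin n) F) : MM) = G ^ (n - 1) := ⟨⟨G, G ^ (n - 1), hGG', hG'G⟩, rfl, rfl⟩
  have hkey : ∀ k : ↥K, G * (k : MM) = ((φ k : ↥K) : MM) * G := by
    intro k
    apply Matrix.mulVec_injective
    funext w
    rw [← Matrix.mulVec_mulVec, ← Matrix.mulVec_mulVec, hGv, hGv, hgLk]
  have hconj : ∀ k : ↥K, G * (k : MM) * G ^ (n - 1) = ((φ k : ↥K) : MM) := by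
    intro k
    rw [hkey, Matrix.mul_assoc, hGG', Matrix.mul_one]
  have hφsurj : ∀ k' : ↥K, ∃ k₁ : ↥K, φ k₁ = k' := by
    intro k'
    refine ⟨(φ ^ (n - 1)) k', ?_⟩
    have e1 : φ ^ (n - 1 + 1) = 1 := by
      rw [← hn1]
      exact hφn
    have : φ ((φ ^ (n - 1)) k') = (φ ^ (n - 1 + 1)) k' := by
      rw [pow_succ']
      rfl
    rw [this, e1]
    rfl
  refine ⟨g, ?_, ?_, ?_⟩
  · intro M
    show M ∈ K ↔ (g : MM) * M * ((g⁻¹ : GL (Fin n) F) : MM) ∈ K
    rw [hg, hg']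
    constructor
    · intro hM
      have := hconj ⟨M, hM⟩
      rw [this]
      exact (φ ⟨M, hM⟩).2
    · intro hM
      obtain ⟨k₁, hk₁⟩ := hφsurj ⟨_, hM⟩
      have h1 : G * M * G ^ (n - 1) = G * (k₁ : MM) * G ^ (n - 1) := by
        rw [hconj k₁, hk₁]
      have h2 : M = (k₁ : MM) := by
        calc M = (G ^ (n - 1) * G) * M * (G ^ (n - 1) * G) := by
              rw [hG'G, Matrix.one_mul, Matrix.mul_one]
          _ = G ^ (n - 1) * (G * M * G ^ (n - 1)) * G := by simp only [Matrix.mul_assoc]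
          _ = G ^ (n - 1) * (G * (k₁ : MM) * G ^ (n - 1)) * G := by rw [h1]
          _ = (G ^ (n - 1) * G) * (k₁ : MM) * (G ^ (n - 1) * G) := by
              simp only [Matrix.mul_assoc]
          _ = (k₁ : MM) := by rw [hG'G, Matrix.one_mul, Matrix.mul_one]
      rw [h2]
      exact k₁.2
  · apply Units.ext
    rw [Units.val_pow_eq_pow_val, hg, hGn]
    rfl
  · intro h1
    apply hφ1
    apply AlgHom.ext
    intro k
    have hG1 : G = 1 := by
      rw [← hg, h1]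
      rfl
    have h2 := hgL k
    rw [← hGv, hG1, Matrix.one_mulVec] at h2
    exact (ev.injective h2).symm

end Cfsg.Agent.helper29.SG
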