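import Mathlib
import Cfsg.Agent.Lib_helper29_SG2
import Cfsg.Agent.Lib_helper25_SSimple

set_option autoImplicit false
set_option linter.unusedSectionVars false
set_option linter.unusedVariables false
namespace Cfsg.Agent.helper29.SG
open Matrix Polynomial Cfsg.Agent.helper25.SSimple

variable {F : Type*} [Field F] {n : ℕ}

local notation "VV" => (Fin n → F)
local notation "MM" => Matrix (Fin n) (Fin n) F

/-- the irreducible monic factors of `X ^ n - 1` when `q` is a primitive root modulo the
prime `n` -/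
theorem factor_cases [Fintype F] {p : ℕ} [Fact p.Prime] [CharP F p] {q : ℕ}
    (hq : Fintype.card F = q) (hn : n.Prime) (hnp : n ≠ p)
    (hord : orderOf (q : ZMod n) = n - 1) (Q : F[X]) (hQm : Q.Monic) (hQi : Irreducible Q)
    (hQd : Q ∣ X ^ n - 1) : Q = X - 1 ∨ Q = cyclotomic n F := by
  haveI : Fact n.Prime := ⟨hn⟩
  have hp : p.Prime := Fact.out
  rw [← cyclotomic_prime_mul_X_sub_one F n] at hQd
  rcases (hQi.prime.dvd_mul).mp hQd with h | h
  · right
    obtain ⟨f, hf⟩ := FiniteField.card F p
    have hcop : p.Coprime n := (Nat.coprime_primes hp hn).mpr (Ne.symm hnp)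
    have hK : Fintype.card F = p ^ (f : ℕ) := hf.2
    have hdeg := natDegree_of_dvd_cyclotomic_of_irreducible hK hcop h hQi
    have hdeg2 : Q.natDegree = n - 1 := by
      rw [hdeg, ← hord, ← orderOf_units, ZMod.coe_unitOfCoprime, ← hK, hq]
    symm
    apply eq_of_monic_of_dvd_of_natDegree_le hQm (cyclotomic.monic n F) h
    rw [natDegree_cyclotomic, Nat.totient_prime hn, hdeg2]
  · left
    exact eq_of_monic_of_associated hQm (monic_X_sub_C 1)
      (hQi.associated_of_dvd (irreducible_X_sub_C 1) h)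

/-- the characteristic polynomial of an element of order `n` when `q` is a primitive root
modulo the prime `n` -/
theorem charpoly_of_pow [Fintype F] {p : ℕ} [Fact p.Prime] [CharP F p] {q : ℕ}
    (hq : Fintype.card F = q) (hn : n.Prime) (hnp : n ≠ p) (hn3 : 3 < n)
    (hord : orderOf (q : ZMod n) = n - 1) (g : GL (Fin n) F) (hg : g ^ n = 1) (hg1 : g ≠ 1) :
    (orderOf g).Coprime p ∧ g.val.charpoly = X ^ n - 1 := by
  classical
  haveI : Fact n.Prime := ⟨hn⟩
  have hp : p.Prime := Fact.out
  have hog : orderOf g = n := orderOf_eq_prime hg hg1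
  have hcop : (orderOf g).Coprime p := by
    rw [hog]
    exact (Nat.coprime_primes hn hp).mpr hnp
  refine ⟨hcop, ?_⟩
  have hss := isSemisimple_of_coprime p g hcop
  obtain ⟨ι, hι, P, φ, hφ, hc⟩ :=
    exists_ss_model_charpoly n VV (Glin g) hss (Module.finrank_fin_fun F)
  rw [charpoly_Glin] at hc
  have hGn : (Glin g) ^ n = 1 := by
    show (Matrix.toLinAlgEquiv' g.val) ^ n = 1
    rw [← map_pow, ← Units.val_pow_eq_pow_val, hg, Units.val_one, map_one]
  have hpow : ∀ (j : ℕ) (x : VV) (i : ι),
      φ (((Glin g) ^ j) x) i = AdjoinRoot.root (P i).poly ^ j * φ x i := by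
    intro j
    induction j with
    | zero =>
      intro x i
      rw [pow_zero, pow_zero, one_mul]
      rfl
    | succ j ih =>
      intro x i
      rw [pow_succ', Module.End.mul_apply, hφ, mulX_apply, ih, pow_succ', mul_assoc]
  have hdvd : ∀ i, (P i).poly ∣ X ^ n - 1 := by
    intro i
    have h1 := hpow n (φ.symm (Pi.single i 1)) i
    rw [hGn, Module.End.one_apply, LinearEquiv.apply_symm_apply, Pi.single_eq_same, mul_one] at h1
    rw [← AdjoinRoot.mk_eq_zero, map_sub, map_pow, AdjoinRoot.mk_X, map_one, ← h1, sub_self]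
  have hcases : ∀ i, (P i).poly = X - 1 ∨ (P i).poly = cyclotomic n F := fun i =>
    factor_cases hq hn hnp hord _ (P i).monic (P i).irr (hdvd i)
  have hroot1 : ∀ i, (P i).poly = X - 1 → AdjoinRoot.root (P i).poly = 1 := by
    intro i h
    have h1 : AdjoinRoot.mk (P i).poly (X - 1) = AdjoinRoot.mk (P i).poly (P i).poly :=
      congrArg _ h.symm
    rw [AdjoinRoot.mk_self, map_sub, AdjoinRoot.mk_X, map_one] at h1
    exact sub_eq_zero.mp h1
  obtain ⟨a, ha⟩ : ∃ a, a = (Finset.univ.filter (fun i => (P i).poly = cyclotomic n F)).card :=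
    ⟨_, rfl⟩
  obtain ⟨b, hb⟩ : ∃ b, b = (Finset.univ.filter (fun i => ¬ (P i).poly = cyclotomic n F)).card :=
    ⟨_, rfl⟩
  have hprod : g.val.charpoly = cyclotomic n F ^ a * (X - 1) ^ b := by
    rw [hc, ← Finset.prod_filter_mul_prod_filter_not Finset.univ
      (fun i => (P i).poly = cyclotomic n F)]
    congr 1
    · rw [Finset.prod_congr rfl (fun i hi => (Finset.mem_filter.mp hi).2), Finset.prod_const, ha]
    · have : ∀ i ∈ Finset.univ.filter (fun i => ¬ (P i).poly = cyclotomic n F),
          (P i).poly = X - 1 := by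
        intro i hi
        rcases hcases i with h | h
        · exact h
        · exact absurd h (Finset.mem_filter.mp hi).2
      rw [Finset.prod_congr rfl this, Finset.prod_const, hb]
  have hdeg : a * (n - 1) + b = n := by
    have h1 := Matrix.charpoly_natDegree_eq_dim g.val
    have hX1 : (X - 1 : F[X]) = X - C 1 := by rw [map_one]
    rw [Fintype.card_fin, hprod, hX1, Polynomial.natDegree_mul
      (pow_ne_zero _ (cyclotomic_ne_zero n F)) (pow_ne_zero _ (X_sub_C_ne_zero 1)),
      natDegree_pow, natDegree_pow, natDegree_cyclotomic, Nat.totient_prime hn,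
      natDegree_X_sub_C, mul_one] at h1
    exact h1
  have ha0 : a ≠ 0 := by
    intro h0
    apply hg1
    have hall : ∀ i, (P i).poly = X - 1 := by
      intro i
      rcases hcases i with h | h
      · exact h
      · exfalso
        have : i ∈ Finset.univ.filter (fun i => (P i).poly = cyclotomic n F) :=
          Finset.mem_filter.mpr ⟨Finset.mem_univ i, h⟩
        rw [h0] at ha
        rw [Finset.card_eq_zero.mp ha.symm] at this
        exact absurd this (Finset.notMem_empty i)
    have hid : ∀ x, Glin g x = x := by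
      intro x
      apply φ.injective
      funext i
      have := hpow 1 x i
      rw [pow_one, pow_one, hroot1 i (hall i), one_mul] at this
      exact this
    apply Units.ext
    apply Matrix.mulVec_injective
    funext x
    have := hid x
    rw [Glin_eq_toLin', Matrix.toLin'_apply] at this
    rw [this, Units.val_one, Matrix.one_mulVec]
  have ha1 : a = 1 := by
    by_contra hne
    have h2 : 2 ≤ a := by omega
    have h3 : 2 * (n - 1) ≤ a * (n - 1) := Nat.mul_le_mul_right _ h2
    omega
  have hb1 : b = 1 := by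
    rw [ha1, one_mul] at hdeg
    have := hn.pos
    omega
  rw [hprod, ha1, hb1, pow_one, pow_one, cyclotomic_prime_mul_X_sub_one]

/-- every element of order `n` is conjugate into the normaliser of the Singer cycle when `q` is a
primitive root modulo `n` -/
theorem singer_conj [Fintype F] {p : ℕ} [Fact p.Prime] [CharP F p] {q : ℕ}
    (hq : Fintype.card F = q) (hn : n.Prime) (hnp : n ≠ p) (hn3 : 3 < n)
    (hord : orderOf (q : ZMod n) = n - 1) (K : Subalgebra F MM)
    (hK : Cfsg.Geo.IsFieldSubalgebra n K) (x : Matrix.SpecialLinearGroup (Fin n) F) (z : F)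
    (hx : ((x ^ n : Matrix.SpecialLinearGroup (Fin n) F) : MM) = z • (1 : MM))
    (hns : ∀ c : F, (x : MM) ≠ c • (1 : MM)) :
    ∃ P : Matrix.SpecialLinearGroup (Fin n) F, P⁻¹ * x * P ∈
      (Cfsg.Geo.subalgebraNormalizer K).comap
        (Matrix.SpecialLinearGroup.toGL : Matrix.SpecialLinearGroup (Fin n) F →* GL (Fin n) F) := by
  classical
  have hp : p.Prime := Fact.out
  have hq1 : 1 < q := by
    rw [← hq]
    exact Fintype.one_lt_card
  have hndvd : ¬ n ∣ q - 1 := by
    intro hdvd
    have h1 : (q : ZMod n) = 1 := by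
      have : q = (q - 1) + 1 := by omega
      rw [this, Nat.cast_add, (ZMod.natCast_eq_zero_iff _ _).mpr hdvd, zero_add, Nat.cast_one]
    rw [h1, orderOf_one] at hord
    omega
  have hroot : ∀ μ : F, μ ^ n = 1 → μ = 1 := by
    intro μ hμ
    have hμ0 : μ ≠ 0 := by
      rintro rfl
      rw [zero_pow hn.ne_zero] at hμ
      exact zero_ne_one hμ
    have h2 : μ ^ (q - 1) = 1 := by
      rw [← hq]
      exact FiniteField.pow_card_sub_one_eq_one μ hμ0
    have hcop : Nat.Coprime n (q - 1) := (Nat.Prime.coprime_iff_not_dvd hn).mpr hndvd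
    exact (pow_eq_one_iff_of_coprime hcop).mp ⟨hμ, h2⟩
  have hz : z = 1 := by
    apply hroot
    have h1 : ((x ^ n : Matrix.SpecialLinearGroup (Fin n) F) : MM).det = 1 := (x ^ n).2
    rw [hx, Matrix.det_smul, Matrix.det_one, mul_one, Fintype.card_fin] at h1
    exact h1
  rw [hz, one_smul] at hx
  obtain ⟨xg, hxg⟩ : ∃ xg : GL (Fin n) F, xg = Matrix.SpecialLinearGroup.toGL x := ⟨_, rfl⟩
  have hxgv : (xg : MM) = (x : MM) := by
    rw [hxg]
    rfl
  have hxgn : xg ^ n = 1 := by
    apply Units.ext
    rw [Units.val_pow_eq_pow_val, hxgv, ← Matrix.SpecialLinearGroup.coe_pow, hx]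
    rfl
  have hxg1 : xg ≠ 1 := by
    intro h1
    apply hns 1
    rw [one_smul, ← hxgv, h1]
    rfl
  obtain ⟨g₀, hg₀N, hg₀n, hg₀1⟩ := exists_frob hn K hK
  have hdet₀ : (g₀ : MM).det = 1 := by
    apply hroot
    rw [← Matrix.det_pow, ← Units.val_pow_eq_pow_val, hg₀n, Units.val_one, Matrix.det_one]
  obtain ⟨gS, hgS⟩ : ∃ gS : Matrix.SpecialLinearGroup (Fin n) F, (gS : MM) = (g₀ : MM) :=
    ⟨⟨g₀.val, hdet₀⟩, rfl⟩
  have hgSg : Matrix.SpecialLinearGroup.toGL gS = g₀ := by
    apply Units.ext
    exact hgS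
  obtain ⟨hcx, hchx⟩ := charpoly_of_pow hq hn hnp hn3 hord xg hxgn hxg1
  obtain ⟨hcg, hchg⟩ := charpoly_of_pow hq hn hnp hn3 hord g₀ hg₀n hg₀1
  have hox : (orderOf x).Coprime p := by
    rw [← orderOf_toGL, ← hxg]
    exact hcx
  have hog : (orderOf gS).Coprime p := by
    rw [← orderOf_toGL, hgSg]
    exact hcg
  have hconj := isConj_SL_of_charpoly_eq p x gS hox hog (by
    show (x : MM).charpoly = (gS : MM).charpoly
    rw [← hxgv, hchx, hgS, hchg])
  rw [isConj_iff] at hconj
  obtain ⟨c, hc⟩ := hconj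
  refine ⟨c⁻¹, ?_⟩
  rw [Subgroup.mem_comap, inv_inv, hc, hgSg]
  exact hg₀N

end Cfsg.Agent.helper29.SG
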