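import Mathlib
import Cfsg.Agent.Lib_helper29_SG1

set_option autoImplicit false
set_option linter.unusedSectionVars false
set_option linter.unusedVariables false
namespace Cfsg.Agent.helper29.SG
open Matrix

variable {F : Type*} [Field F] {n : ℕ}

local notation "VV" => (Fin n → F)
local notation "MM" => Matrix (Fin n) (Fin n) F

/-- a non-scalar element with a two-dimensional eigenspace has no conjugate normalising a
subfield of prime degree `n` -/
theorem bad_of_eigen (hn : n.Prime) (K : Subalgebra F MM) (hK : Cfsg.Geo.IsFieldSubalgebra n K)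
    (x : Matrix.SpecialLinearGroup (Fin n) F) (hns : ∀ c : F, (x : MM) ≠ c • (1 : MM)) (μ : F)
    (v w : VV) (hv : (x : MM) *ᵥ v = μ • v) (hw : (x : MM) *ᵥ w = μ • w) (hv0 : v ≠ 0)
    (hind : ∀ c : F, w ≠ c • v) :
    ¬ ∃ P : Matrix.SpecialLinearGroup (Fin n) F, P⁻¹ * x * P ∈
      (Cfsg.Geo.subalgebraNormalizer K).comap
        (Matrix.SpecialLinearGroup.toGL : Matrix.SpecialLinearGroup (Fin n) F →* GL (Fin n) F) := by
  rintro ⟨P, hP⟩
  rw [Subgroup.mem_comap] at hP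
  obtain ⟨Q, hQ⟩ : ∃ Q : MM, Q = (P : MM) := ⟨_, rfl⟩
  obtain ⟨Q', hQ'⟩ : ∃ Q' : MM, Q' = ((P⁻¹ : Matrix.SpecialLinearGroup (Fin n) F) : MM) :=
    ⟨_, rfl⟩
  have hQ'Q : Q' * Q = 1 := by
    rw [hQ, hQ', ← Matrix.SpecialLinearGroup.coe_mul, inv_mul_cancel,
      Matrix.SpecialLinearGroup.coe_one]
  have hQQ' : Q * Q' = 1 := by
    rw [hQ, hQ', ← Matrix.SpecialLinearGroup.coe_mul, mul_inv_cancel,
      Matrix.SpecialLinearGroup.coe_one]
  have hval : ((Matrix.SpecialLinearGroup.toGL (P⁻¹ * x * P) : GL (Fin n) F) : MM) =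
      Q' * (x : MM) * Q := by
    rw [hQ, hQ']
    rfl
  have hinj : ∀ u : VV, Q' *ᵥ u = 0 → u = 0 := by
    intro u h0
    have : u = (Q * Q') *ᵥ u := by rw [hQQ', Matrix.one_mulVec]
    rw [this, ← Matrix.mulVec_mulVec, h0, Matrix.mulVec_zero]
  have hev : ∀ u : VV, (x : MM) *ᵥ u = μ • u →
      (Q' * (x : MM) * Q) *ᵥ (Q' *ᵥ u) = μ • (Q' *ᵥ u) := by
    intro u hu
    rw [Matrix.mulVec_mulVec, Matrix.mul_assoc, Matrix.mul_assoc, hQQ', Matrix.mul_one,
      ← Matrix.mulVec_mulVec, hu, Matrix.mulVec_smul]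
  have hsc := scalar_of_eigen hn K hK _ hP μ (Q' *ᵥ v) (Q' *ᵥ w)
    (by rw [hval]; exact hev v hv) (by rw [hval]; exact hev w hw)
    (fun h0 => hv0 (hinj v h0))
    (by
      intro c hc
      apply hind c
      have : Q' *ᵥ (w - c • v) = 0 := by
        rw [Matrix.mulVec_sub, Matrix.mulVec_smul, hc, sub_self]
      exact sub_eq_zero.mp (hinj _ this))
  rw [hval] at hsc
  apply hns μ
  calc (x : MM) = (Q * Q') * (x : MM) * (Q * Q') := by rw [hQQ', Matrix.one_mul, Matrix.mul_one]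
    _ = Q * (Q' * (x : MM) * Q) * Q' := by simp only [Matrix.mul_assoc]
    _ = μ • (1 : MM) := by
        rw [hsc, Matrix.mul_smul, Matrix.smul_mul, Matrix.mul_one, hQQ']

/-- a block element with a two-dimensional fixed space -/
theorem bad_block {K' : Type*} [Field K'] [Algebra F K'] [FiniteDimensional F K'] (k : ℕ)
    (hk : 2 ≤ k) (hdim : Module.finrank F K' + k = n) (lam : K') (r : ℕ) (hlam : lam ^ r = 1)
    (hlam1 : lam ≠ 1) (hroot : ∀ μ : F, μ ^ r = 1 → μ = 1) :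
    ∃ x : Matrix.SpecialLinearGroup (Fin n) F,
      ((x ^ r : Matrix.SpecialLinearGroup (Fin n) F) : MM) = 1 ∧
      (∀ z : F, (x : MM) ≠ z • (1 : MM)) ∧
      ∃ (μ : F) (v w : VV), (x : MM) *ᵥ v = μ • v ∧ (x : MM) *ᵥ w = μ • w ∧ v ≠ 0 ∧
        ∀ c : F, w ≠ c • v := by
  have hfr : Module.finrank F (K' × (Fin k → F)) = Module.finrank F (Fin n → F) := by
    rw [Module.finrank_prod, Module.finrank_fin_fun, Module.finrank_fin_fun, hdim]
  obtain ⟨h⟩ : Nonempty ((K' × (Fin k → F)) ≃ₗ[F] (Fin n → F)) :=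
    ⟨LinearEquiv.ofFinrankEq _ _ hfr⟩
  obtain ⟨T, hTd⟩ : ∃ T : (K' × (Fin k → F)) →ₗ[F] (K' × (Fin k → F)),
      T = (LinearMap.mulLeft F lam).prodMap LinearMap.id := ⟨_, rfl⟩
  have hTv : ∀ a b, T (a, b) = (lam * a, b) := by
    intro a b
    rw [hTd]
    rfl
  obtain ⟨X, hXd⟩ : ∃ X : MM, X = LinearMap.toMatrix'
      ((h : (K' × (Fin k → F)) →ₗ[F] VV) ∘ₗ T ∘ₗ (h.symm : VV →ₗ[F] (K' × (Fin k → F)))) :=
    ⟨_, rfl⟩
  have hXv : ∀ u, X *ᵥ u = h (T (h.symm u)) := by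
    intro u
    rw [hXd, LinearMap.toMatrix'_mulVec]
    rfl
  have hpow : ∀ j u, (X ^ j) *ᵥ u = h ((lam ^ j * (h.symm u).1, (h.symm u).2)) := by
    intro j
    induction j with
    | zero =>
      intro u
      rw [pow_zero, pow_zero, Matrix.one_mulVec, one_mul, Prod.mk.eta, LinearEquiv.apply_symm_apply]
    | succ j ih =>
      intro u
      rw [pow_succ', ← Matrix.mulVec_mulVec, ih, hXv, LinearEquiv.symm_apply_apply, hTv,
        ← mul_assoc, ← pow_succ']
  have hXr : X ^ r = 1 := by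
    apply Matrix.mulVec_injective
    funext u
    rw [hpow, hlam, one_mul, Prod.mk.eta, LinearEquiv.apply_symm_apply, Matrix.one_mulVec]
  have hdet : X.det = 1 := by
    apply hroot
    rw [← Matrix.det_pow, hXr, Matrix.det_one]
  obtain ⟨x, hx⟩ : ∃ x : Matrix.SpecialLinearGroup (Fin n) F, (x : MM) = X := ⟨⟨X, hdet⟩, rfl⟩
  obtain ⟨b₁, hb₁⟩ : ∃ b₁ : Fin k → F, b₁ = Pi.single (⟨0, by omega⟩ : Fin k) (1 : F) := ⟨_, rfl⟩
  obtain ⟨b₂, hb₂⟩ : ∃ b₂ : Fin k → F, b₂ = Pi.single (⟨1, by omega⟩ : Fin k) (1 : F) := ⟨_, rfl⟩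
  have hfix : ∀ b : Fin k → F, X *ᵥ h ((0 : K'), b) = h ((0 : K'), b) := by
    intro b
    rw [hXv, LinearEquiv.symm_apply_apply, hTv, mul_zero]
  refine ⟨x, ?_, ?_, 1, h ((0 : K'), b₁), h ((0 : K'), b₂), ?_, ?_, ?_, ?_⟩
  · rw [Matrix.SpecialLinearGroup.coe_pow, hx]
    exact hXr
  · intro z hz
    rw [hx] at hz
    have hTz : ∀ w, T w = z • w := by
      intro w
      have := hXv (h w)
      rw [hz, Matrix.smul_mulVec, Matrix.one_mulVec, LinearEquiv.symm_apply_apply, ← map_smul] at this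
      exact (h.injective this).symm
    have hz1 : z = 1 := by
      have := hTz ((0 : K'), b₁)
      rw [hTv, Prod.smul_mk, Prod.mk.injEq] at this
      have h2 := congrFun this.2 ⟨0, by omega⟩
      rw [hb₁] at h2
      simp at h2
      exact h2.symm
    have := hTz ((1 : K'), (0 : Fin k → F))
    rw [hTv, Prod.smul_mk, Prod.mk.injEq, hz1, one_smul, mul_one] at this
    exact hlam1 this.1
  · rw [hx, hfix, one_smul]
  · rw [hx, hfix, one_smul]
  · intro h0
    have h1 : ((0 : K'), b₁) = 0 := by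
      apply h.injective
      rw [h0, map_zero]
    have h2 := congrFun (Prod.mk.inj h1).2 ⟨0, by omega⟩
    rw [hb₁] at h2
    simp at h2
  · intro c hc
    have h1 : ((0 : K'), b₂) = c • ((0 : K'), b₁) := by
      apply h.injective
      rw [hc, map_smul]
    rw [Prod.smul_mk, Prod.mk.injEq] at h1
    have h2 := congrFun h1.2 ⟨1, by omega⟩
    rw [hb₁, hb₂] at h2
    simp at h2

end Cfsg.Agent.helper29.SG
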