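import Mathlib
import Cfsg.Agent.Lib_helper29_SG4

set_option autoImplicit false
set_option linter.unusedSectionVars false
set_option linter.unusedVariables false
namespace Cfsg.Agent.helper29.SG
open Matrix

variable {F : Type*} [Field F] {n : ℕ}

local notation "VV" => (Fin n → F)
local notation "MM" => Matrix (Fin n) (Fin n) F

/-- a diagonal element with a two-dimensional eigenspace -/
theorem bad_diag (hn : 4 ≤ n) (lam : F) (r : ℕ) (hlam : lam ^ r = 1) (hlam0 : lam ≠ 0)
    (hlam1 : lam ≠ 1) :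
    ∃ x : Matrix.SpecialLinearGroup (Fin n) F,
      ((x ^ r : Matrix.SpecialLinearGroup (Fin n) F) : MM) = 1 ∧
      (∀ z : F, (x : MM) ≠ z • (1 : MM)) ∧
      ∃ (μ : F) (v w : VV), (x : MM) *ᵥ v = μ • v ∧ (x : MM) *ᵥ w = μ • w ∧ v ≠ 0 ∧
        ∀ c : F, w ≠ c • v := by
  classical
  obtain ⟨ν, hν⟩ : ∃ ν : F, ν = lam⁻¹ * lam⁻¹ := ⟨_, rfl⟩
  have hνl : lam * lam * ν = 1 := by
    rw [hν]
    field_simp
  have hνr : ν ^ r = 1 := by
    rw [hν, mul_pow, inv_pow, hlam, inv_one, mul_one]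
  obtain ⟨i0, hi0⟩ : ∃ i : Fin n, i = ⟨0, by omega⟩ := ⟨_, rfl⟩
  obtain ⟨i1, hi1⟩ : ∃ i : Fin n, i = ⟨1, by omega⟩ := ⟨_, rfl⟩
  obtain ⟨i2, hi2⟩ : ∃ i : Fin n, i = ⟨2, by omega⟩ := ⟨_, rfl⟩
  obtain ⟨i3, hi3⟩ : ∃ i : Fin n, i = ⟨3, by omega⟩ := ⟨_, rfl⟩
  have h01 : i0 ≠ i1 := by rw [hi0, hi1]; intro h; simpa using congrArg Fin.val h
  have h02 : i0 ≠ i2 := by rw [hi0, hi2]; intro h; simpa using congrArg Fin.val h
  have h12 : i1 ≠ i2 := by rw [hi1, hi2]; intro h; simpa using congrArg Fin.val h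
  have h30 : i3 ≠ i0 := by rw [hi0, hi3]; intro h; simpa using congrArg Fin.val h
  have h31 : i3 ≠ i1 := by rw [hi1, hi3]; intro h; simpa using congrArg Fin.val h
  have h32 : i3 ≠ i2 := by rw [hi2, hi3]; intro h; simpa using congrArg Fin.val h
  obtain ⟨d, hd⟩ : ∃ d : Fin n → F,
      d = fun j => if j = i0 ∨ j = i1 then lam else if j = i2 then ν else 1 := ⟨_, rfl⟩
  have hd0 : d i0 = lam := by rw [hd]; simp
  have hd1 : d i1 = lam := by rw [hd]; simp
  have hd2 : d i2 = ν := by rw [hd]; simp [h02.symm, h12.symm]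
  have hdo : ∀ j, j ≠ i0 → j ≠ i1 → j ≠ i2 → d j = 1 := by
    intro j a b c
    rw [hd]
    simp [a, b, c]
  have hdr : ∀ j, d j ^ r = 1 := by
    intro j
    by_cases a : j = i0
    · rw [a, hd0, hlam]
    by_cases b : j = i1
    · rw [b, hd1, hlam]
    by_cases c : j = i2
    · rw [c, hd2, hνr]
    · rw [hdo j a b c, one_pow]
  have hprod : ∏ j, d j = 1 := by
    have hS : ∏ j ∈ ({i0, i1, i2} : Finset (Fin n)), d j = ∏ j, d j := by
      apply Finset.prod_subset (Finset.subset_univ _)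
      intro j _ hj
      simp only [Finset.mem_insert, Finset.mem_singleton, not_or] at hj
      exact hdo j hj.1 hj.2.1 hj.2.2
    rw [← hS, Finset.prod_insert (by simp [h01, h02]), Finset.prod_insert (by simp [h12]),
      Finset.prod_singleton, hd0, hd1, hd2, ← mul_assoc]
    exact hνl
  obtain ⟨X, hXd⟩ : ∃ X : MM, X = Matrix.diagonal d := ⟨_, rfl⟩
  have hdet : X.det = 1 := by
    rw [hXd, Matrix.det_diagonal]
    exact hprod
  have hXr : X ^ r = 1 := by
    rw [hXd, Matrix.diagonal_pow]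
    have : d ^ r = 1 := by
      funext j
      rw [Pi.pow_apply, hdr, Pi.one_apply]
    rw [this]
    exact Matrix.diagonal_one
  obtain ⟨x, hx⟩ : ∃ x : Matrix.SpecialLinearGroup (Fin n) F, (x : MM) = X := ⟨⟨X, hdet⟩, rfl⟩
  have hsingle : ∀ j, X *ᵥ (Pi.single j 1 : VV) = d j • (Pi.single j 1 : VV) := by
    intro j
    rw [hXd, Matrix.diagonal_mulVec_single, mul_one, ← Pi.single_smul, smul_eq_mul, mul_one]
  refine ⟨x, ?_, ?_, lam, Pi.single i0 1, Pi.single i1 1, ?_, ?_, ?_, ?_⟩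
  · rw [Matrix.SpecialLinearGroup.coe_pow, hx]
    exact hXr
  · intro z hz
    rw [hx, hXd] at hz
    have h1 := congrFun (congrFun hz i0) i0
    have h2 := congrFun (congrFun hz i3) i3
    rw [Matrix.diagonal_apply_eq, Matrix.smul_apply, Matrix.one_apply_eq, smul_eq_mul, mul_one]
      at h1 h2
    rw [hd0] at h1
    rw [hdo i3 h30 h31 h32] at h2
    exact hlam1 (h1.trans h2.symm)
  · rw [hx, hsingle, hd0]
  · rw [hx, hsingle, hd1]
  · intro h0
    have := congrFun h0 i0
    simp at this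
  · intro c hc
    have := congrFun hc i1
    simp [h01.symm] at this

/-- a bad element exists when `q` is not a primitive root modulo the prime `n` -/
theorem exists_bad [Fintype F] {p : ℕ} [Fact p.Prime] [CharP F p] {q : ℕ}
    (hq : Fintype.card F = q) (hn : n.Prime) (hnp : n ≠ p) (hn3 : 3 < n)
    (hord : orderOf (q : ZMod n) ≠ n - 1) :
    ∃ x : Matrix.SpecialLinearGroup (Fin n) F,
      ((x ^ n : Matrix.SpecialLinearGroup (Fin n) F) : MM) = 1 ∧
      (∀ z : F, (x : MM) ≠ z • (1 : MM)) ∧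
      ∃ (μ : F) (v w : VV), (x : MM) *ᵥ v = μ • v ∧ (x : MM) *ᵥ w = μ • w ∧ v ≠ 0 ∧
        ∀ c : F, w ≠ c • v := by
  classical
  haveI : Fact n.Prime := ⟨hn⟩
  have hp : p.Prime := Fact.out
  obtain ⟨f, hf⟩ := FiniteField.card F p
  have hqp : q = p ^ (f : ℕ) := by rw [← hq, hf.2]
  have hq1 : 1 ≤ q := by
    rw [← hq]
    exact Fintype.card_pos
  have hq0 : (q : ZMod n) ≠ 0 := by
    intro h0
    have h1 := (ZMod.natCast_eq_zero_iff q n).mp h0
    rw [hqp] at h1
    exact hnp ((Nat.prime_dvd_prime_iff_eq hn hp).mp (hn.dvd_of_dvd_pow h1))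
  have hfer : (q : ZMod n) ^ (n - 1) = 1 := ZMod.pow_card_sub_one_eq_one hq0
  obtain ⟨e, he⟩ : ∃ e, e = orderOf (q : ZMod n) := ⟨_, rfl⟩
  rw [← he] at hord
  have he_dvd : e ∣ n - 1 := by
    rw [he]
    exact orderOf_dvd_of_pow_eq_one hfer
  have he_pos : 0 < e := Nat.pos_of_dvd_of_pos he_dvd (by omega)
  have he_le : 2 * e ≤ n - 1 := by
    obtain ⟨c, hc⟩ := he_dvd
    have hc2 : 2 ≤ c := by
      by_contra hlt
      have : c = 0 ∨ c = 1 := by omega
      rcases this with rfl | rfl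
      · omega
      · rw [mul_one] at hc
        exact hord hc.symm
    rw [hc, mul_comm]
    exact Nat.mul_le_mul_left _ hc2
  have hpe : (q : ZMod n) ^ e = 1 := by
    rw [he]
    exact pow_orderOf_eq_one _
  have hdvd : n ∣ q ^ e - 1 := by
    apply (ZMod.natCast_eq_zero_iff _ _).mp
    rw [Nat.cast_sub (Nat.one_le_pow _ _ hq1), Nat.cast_pow, hpe, Nat.cast_one, sub_self]
  by_cases he1 : e = 1
  · rw [he1, pow_one] at hdvd
    have hcu : Nat.card Fˣ = q - 1 := by
      rw [Nat.card_units, Nat.card_eq_fintype_card, hq]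
    rw [← hcu] at hdvd
    obtain ⟨lam, hlam⟩ := exists_prime_orderOf_dvd_card' n hdvd
    have hlamn : (lam : F) ^ n = 1 := by
      rw [← Units.val_pow_eq_pow_val, ← hlam, pow_orderOf_eq_one, Units.val_one]
    have hlam1 : (lam : F) ≠ 1 := by
      intro h
      have h2 : lam = 1 := Units.ext h
      rw [h2, orderOf_one] at hlam
      exact hn.one_lt.ne hlam
    exact bad_diag (by omega) (lam : F) n hlamn lam.ne_zero hlam1
  · have he2 : 2 ≤ e := by omega
    haveI : NeZero e := ⟨by omega⟩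
    have hfr : Module.finrank F (FiniteField.Extension F p e) = e :=
      FiniteField.finrank_extension F p e
    have hcK : Nat.card (FiniteField.Extension F p e)ˣ = q ^ e - 1 := by
      rw [Nat.card_units, FiniteField.natCard_extension, Nat.card_eq_fintype_card, hq]
    rw [← hcK] at hdvd
    obtain ⟨lam, hlam⟩ := exists_prime_orderOf_dvd_card' n hdvd
    have hlam1 : (lam : FiniteField.Extension F p e) ≠ 1 := by
      intro h
      have h2 : lam = 1 := Units.ext h
      rw [h2, orderOf_one] at hlam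
      exact hn.one_lt.ne hlam
    have hlamn : (lam : FiniteField.Extension F p e) ^ n = 1 := by
      rw [← Units.val_pow_eq_pow_val, ← hlam, pow_orderOf_eq_one, Units.val_one]
    have hndvd : ¬ n ∣ q - 1 := by
      intro hd
      have h1 : (q : ZMod n) = 1 := by
        have : q = (q - 1) + 1 := by omega
        rw [this, Nat.cast_add, (ZMod.natCast_eq_zero_iff _ _).mpr hd, zero_add, Nat.cast_one]
      rw [h1, orderOf_one] at he
      exact he1 he
    have hroot : ∀ μ : F, μ ^ n = 1 → μ = 1 := by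
      intro μ hμ
      have hμ0 : μ ≠ 0 := by
        rintro rfl
        rw [zero_pow hn.ne_zero] at hμ
        exact zero_ne_one hμ
      have h2 : μ ^ (q - 1) = 1 := by
        rw [← hq]
        exact FiniteField.pow_card_sub_one_eq_one μ hμ0
      have hcop : Nat.Coprime n (q - 1) := (Nat.Prime.coprime_iff_not_dvd hn).mpr hndvd
      exact (pow_eq_one_iff_of_coprime hcop).mp ⟨hμ, h2⟩
    exact bad_block (K' := FiniteField.Extension F p e) (n - e) (by omega)
      (by rw [hfr]; omega) (lam : _) n hlamn hlam1 hroot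

end Cfsg.Agent.helper29.SG
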