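import Mathlib
import Cfsg.Agent.Lib_helper29_SG6
import Cfsg.Agent.Lib_helper29_SG4
import Cfsg.Agent.Lib_helper25_SSimple

set_option autoImplicit false
set_option linter.unusedSectionVars false
set_option linter.unusedVariables false
namespace Cfsg.Agent.helper29.SG
open Matrix Polynomial Cfsg.Agent.helper25.SSimple

variable {F : Type*} [Field F]

local notation "M3" => Matrix (Fin 3) (Fin 3) F

/-- a non-scalar three by three matrix of determinant one whose cube is one has characteristic
polynomial `X ^ 3 - 1` -/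
theorem charpoly_of_cube (x : M3) (hx3 : x ^ 3 = 1) (hdet : x.det = 1)
    (hns : ∀ c : F, x ≠ c • (1 : M3)) : x.charpoly = X ^ 3 - 1 := by
  have hdeg : x.charpoly.natDegree = 3 := by
    rw [Matrix.charpoly_natDegree_eq_dim, Fintype.card_fin]
  have hlt : x.charpoly.natDegree < 4 := by rw [hdeg]; norm_num
  have hc3 : x.charpoly.coeff 3 = 1 := by
    have := (Matrix.charpoly_monic x).coeff_natDegree
    rwa [hdeg] at this
  have hc0 : x.charpoly.coeff 0 = -1 := by
    have := Matrix.det_eq_sign_charpoly_coeff x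
    rw [hdet, Fintype.card_fin] at this
    have h3 : (-1 : F) ^ 3 = -1 := by ring
    rw [h3, neg_one_mul] at this
    rw [this, neg_neg]
  obtain ⟨a, ha⟩ : ∃ a : F, a = x.charpoly.coeff 2 := ⟨_, rfl⟩
  obtain ⟨b, hb⟩ : ∃ b : F, b = x.charpoly.coeff 1 := ⟨_, rfl⟩
  have hCH := Matrix.aeval_self_charpoly x
  rw [aeval_eq_sum_range' hlt, Finset.sum_range_succ, Finset.sum_range_succ,
    Finset.sum_range_succ, Finset.sum_range_one, hc0, hc3, ← ha, ← hb, hx3, pow_zero, pow_one,
    one_smul] at hCH
  have h1 : b • x + a • x ^ 2 = 0 := by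
    have : (-1 : F) • (1 : M3) + b • x + a • x ^ 2 + 1 = b • x + a • x ^ 2 := by
      rw [neg_one_smul]
      abel
    rw [← this]
    exact hCH
  have h2 : b • (1 : M3) + a • x = 0 := by
    have h3 : x ^ 2 * (b • x + a • x ^ 2) = b • (1 : M3) + a • x := by
      rw [Matrix.mul_add, Matrix.mul_smul, Matrix.mul_smul, ← pow_succ, ← pow_add]
      have e4 : x ^ (2 + 2) = x := by
        have : x ^ (2 + 2) = x ^ 3 * x := by rw [← pow_succ]
        rw [this, hx3, Matrix.one_mul]
      rw [hx3, e4]
    rw [← h3, h1, Matrix.mul_zero]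
  have ha0 : a = 0 := by
    by_contra hne
    apply hns (-b / a)
    have h4 : a • x = (-b) • (1 : M3) := by
      rw [neg_smul]
      exact eq_neg_of_add_eq_zero_right h2
    calc x = a⁻¹ • (a • x) := by rw [smul_smul, inv_mul_cancel₀ hne, one_smul]
      _ = (-b / a) • (1 : M3) := by rw [h4, smul_smul]; congr 1; field_simp
  have hb0 : b = 0 := by
    rw [ha0, zero_smul, add_zero] at h2
    have := congrFun (congrFun h2 0) 0
    rw [Matrix.smul_apply, Matrix.one_apply_eq, smul_eq_mul, mul_one, Matrix.zero_apply] at this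
    exact this
  rw [as_sum_range' x.charpoly 4 hlt, Finset.sum_range_succ, Finset.sum_range_succ,
    Finset.sum_range_succ, Finset.sum_range_one, hc0, hc3, ← ha, ← hb, ha0, hb0]
  simp only [monomial_zero_right, add_zero]
  rw [monomial_zero_left, ← X_pow_eq_monomial, map_neg, map_one]
  ring

end Cfsg.Agent.helper29.SG
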