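import Mathlib
import Cfsg.Agent.Lib_helper29_SG7
import Cfsg.Agent.Lib_helper29_SG5
import Cfsg.Agent.Lib_helper25_SSimple
import Cfsg.Agent.Lib_helper12_Card

set_option autoImplicit false
set_option linter.unusedSectionVars false
set_option linter.unusedVariables false
namespace Cfsg.Agent.helper29.SG
open Matrix Polynomial Cfsg.Agent.helper25.SSimple

variable {F : Type*} [Field F]

local notation "M3" => Matrix (Fin 3) (Fin 3) F
local notation "V3" => (Fin 3 → F)
local notation "SL3" => Matrix.SpecialLinearGroup (Fin 3) F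

/-- when nine does not divide `q - 1`, a scalar cube of a determinant one matrix is one -/
theorem cube_scalar_eq_one [Fintype F] {q : ℕ} (hq : Fintype.card F = q) (h9 : ¬ 9 ∣ q - 1)
    (x : M3) (hdet : x.det = 1) (z : F) (hx : x ^ 3 = z • (1 : M3)) : z = 1 := by
  haveI : Fact (Nat.Prime 3) := ⟨Nat.prime_three⟩
  have hz3 : z ^ 3 = 1 := by
    have h1 : (x ^ 3).det = 1 := by rw [Matrix.det_pow, hdet, one_pow]
    rw [hx, Matrix.det_smul, Matrix.det_one, mul_one, Fintype.card_fin] at h1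
    exact h1
  by_contra hz1
  have hz0 : z ≠ 0 := by
    rintro rfl
    rw [zero_pow (by norm_num)] at hz3
    exact zero_ne_one hz3
  have hnc : ∀ c : F, c ^ 3 ≠ z := by
    intro c hc
    have hc0 : c ≠ 0 := by
      rintro rfl
      rw [zero_pow (by norm_num)] at hc
      exact hz0 hc.symm
    have hc9 : c ^ 3 ^ (1 + 1) = 1 := by
      have : c ^ 3 ^ (1 + 1) = (c ^ 3) ^ 3 := by rw [← pow_mul]; norm_num
      rw [this, hc, hz3]
    have hc3 : ¬ c ^ 3 ^ 1 = 1 := by
      rw [pow_one, hc]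
      exact hz1
    have hord : orderOf c = 3 ^ (1 + 1) := orderOf_eq_prime_pow hc3 hc9
    apply h9
    have h99 : (9 : ℕ) = 3 ^ (1 + 1) := by norm_num
    rw [h99, ← hord]
    apply orderOf_dvd_of_pow_eq_one
    rw [← hq]
    exact FiniteField.pow_card_sub_one_eq_one c hc0
  obtain ⟨P, hP⟩ : ∃ P : F[X], P = X ^ 3 - C z := ⟨_, rfl⟩
  have hPm : P.Monic := by
    rw [hP]
    exact monic_X_pow_sub_C z (by norm_num)
  have hPd : P.natDegree = 3 := by
    rw [hP]
    exact natDegree_X_pow_sub_C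
  have hPirr : Irreducible P := by
    rw [Polynomial.Monic.irreducible_iff_roots_eq_zero_of_degree_le_three hPm (by rw [hPd]; norm_num)
      (by rw [hPd])]
    apply Multiset.eq_zero_of_forall_notMem
    intro a ha
    have hroot := (Polynomial.mem_roots hPm.ne_zero).mp ha
    rw [hP, Polynomial.IsRoot.def, eval_sub, eval_pow, eval_X, eval_C, sub_eq_zero] at hroot
    exact hnc a hroot
  have haev : aeval x P = 0 := by
    rw [hP, map_sub, map_pow, aeval_X, aeval_C, hx, Algebra.algebraMap_eq_smul_one, sub_self]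
  have hmin : P = minpoly F x := minpoly.eq_of_irreducible_of_monic hPirr haev hPm
  have hdvd : P ∣ x.charpoly := by
    rw [hmin]
    exact Matrix.minpoly_dvd_charpoly x
  have hchar : x.charpoly = P := by
    apply Polynomial.eq_of_monic_of_dvd_of_natDegree_le hPm (Matrix.charpoly_monic x) hdvd
    rw [hPd, Matrix.charpoly_natDegree_eq_dim, Fintype.card_fin]
  have hd := Matrix.det_eq_sign_charpoly_coeff x
  rw [hdet, hchar, hP, Fintype.card_fin, coeff_sub, coeff_X_pow, coeff_C_zero] at hd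
  simp only [show ¬ (0 = 3) by norm_num, if_false, zero_sub] at hd
  apply hz1
  have h3 : (-1 : F) ^ 3 = -1 := by ring
  rw [h3] at hd
  rw [hd]
  ring

/-- elements of order three are conjugate into the Singer normaliser when the characteristic is
not three -/
theorem singer3_conj [Fintype F] {p : ℕ} [Fact p.Prime] [CharP F p] (hp3 : p ≠ 3)
    (K : Subalgebra F M3) (hK : Cfsg.Geo.IsFieldSubalgebra 3 K) (x : SL3)
    (hx : ((x ^ 3 : SL3) : M3) = 1) (hns : ∀ c : F, (x : M3) ≠ c • (1 : M3)) :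
    ∃ P : SL3, P⁻¹ * x * P ∈
      (Cfsg.Geo.subalgebraNormalizer K).comap
        (Matrix.SpecialLinearGroup.toGL : SL3 →* GL (Fin 3) F) := by
  classical
  haveI : Fact (Nat.Prime 3) := ⟨Nat.prime_three⟩
  have hp : p.Prime := Fact.out
  obtain ⟨g₀, hg₀N, hg₀n, hg₀1, hg₀c⟩ := exists_frob_charpoly Nat.prime_three K hK
  have hdet₀ : (g₀ : M3).det = 1 := by
    have hd := Matrix.det_eq_sign_charpoly_coeff (g₀ : M3)
    rw [hg₀c, Fintype.card_fin, coeff_sub, coeff_X_pow, coeff_one_zero] at hd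
    simp only [show ¬ (0 = 3) by norm_num, if_false, zero_sub] at hd
    rw [hd]
    ring
  obtain ⟨gS, hgS⟩ : ∃ gS : SL3, (gS : M3) = (g₀ : M3) := ⟨⟨g₀.val, hdet₀⟩, rfl⟩
  have hgSg : Matrix.SpecialLinearGroup.toGL gS = g₀ := by
    apply Units.ext
    exact hgS
  have hx3 : x ^ 3 = 1 := by
    apply Subtype.ext
    rw [hx]
    rfl
  have hx1 : x ≠ 1 := by
    intro h
    apply hns 1
    rw [h, one_smul]
    rfl
  have hgS3 : gS ^ 3 = 1 := by
    apply Subtype.ext
    rw [Matrix.SpecialLinearGroup.coe_pow, hgS, ← Units.val_pow_eq_pow_val, hg₀n]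
    rfl
  have hgS1 : gS ≠ 1 := by
    intro h
    apply hg₀1 1
    rw [← hgS, h, one_smul]
    rfl
  have hox : orderOf x = 3 := orderOf_eq_prime hx3 hx1
  have hog : orderOf gS = 3 := orderOf_eq_prime hgS3 hgS1
  have hcop : Nat.Coprime 3 p := (Nat.coprime_primes Nat.prime_three hp).mpr (Ne.symm hp3)
  have hchx : (x : M3).charpoly = X ^ 3 - 1 :=
    charpoly_of_cube (x : M3) (by rw [← Matrix.SpecialLinearGroup.coe_pow, hx]) x.2 hns
  have hconj := isConj_SL_of_charpoly_eq p x gS (by rw [hox]; exact hcop)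
    (by rw [hog]; exact hcop) (by
      show (x : M3).charpoly = (gS : M3).charpoly
      rw [hchx, hgS, hg₀c])
  rw [isConj_iff] at hconj
  obtain ⟨c, hc⟩ := hconj
  refine ⟨c⁻¹, ?_⟩
  rw [Subgroup.mem_comap, inv_inv, hc, hgSg]
  exact hg₀N

/-- the Singer normaliser contains an element of order three of determinant one -/
theorem singer3_order_three [Fintype F] (K : Subalgebra F M3)
    (hK : Cfsg.Geo.IsFieldSubalgebra 3 K) :
    ∃ gS : SL3, gS ∈ (Cfsg.Geo.subalgebraNormalizer K).comap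
        (Matrix.SpecialLinearGroup.toGL : SL3 →* GL (Fin 3) F) ∧ orderOf gS = 3 := by
  classical
  haveI : Fact (Nat.Prime 3) := ⟨Nat.prime_three⟩
  obtain ⟨g₀, hg₀N, hg₀n, hg₀1, hg₀c⟩ := exists_frob_charpoly Nat.prime_three K hK
  have hdet₀ : (g₀ : M3).det = 1 := by
    have hd := Matrix.det_eq_sign_charpoly_coeff (g₀ : M3)
    rw [hg₀c, Fintype.card_fin, coeff_sub, coeff_X_pow, coeff_one_zero] at hd
    simp only [show ¬ (0 = 3) by norm_num, if_false, zero_sub] at hd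
    rw [hd]
    ring
  obtain ⟨gS, hgS⟩ : ∃ gS : SL3, (gS : M3) = (g₀ : M3) := ⟨⟨g₀.val, hdet₀⟩, rfl⟩
  have hgSg : Matrix.SpecialLinearGroup.toGL gS = g₀ := by
    apply Units.ext
    exact hgS
  have hgS3 : gS ^ 3 = 1 := by
    apply Subtype.ext
    rw [Matrix.SpecialLinearGroup.coe_pow, hgS, ← Units.val_pow_eq_pow_val, hg₀n]
    rfl
  have hgS1 : gS ≠ 1 := by
    intro h
    apply hg₀1 1
    rw [← hgS, h, one_smul]
    rfl
  refine ⟨gS, ?_, orderOf_eq_prime hgS3 hgS1⟩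
  rw [Subgroup.mem_comap, hgSg]
  exact hg₀N

/-- if three divides the index of a subgroup of `SL₃(q)` containing an element of order three
then nine divides the order of `GL₃(q)` -/
theorem nine_dvd_prod [Fintype F] {q : ℕ} (hq : Fintype.card F = q) (H : Subgroup SL3)
    (h3 : 3 ∣ H.index) (g : SL3) (hg : g ∈ H) (hord : orderOf g = 3) :
    9 ∣ (q ^ 3 - 1) * (q ^ 3 - q) * (q ^ 3 - q ^ 2) := by
  classical
  have h1 : 3 ∣ Nat.card H := by
    have := orderOf_dvd_natCard (⟨g, hg⟩ : H)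
    rwa [Subgroup.orderOf_mk, hord] at this
  have h2 : 9 ∣ Nat.card SL3 := by
    rw [← H.card_mul_index]
    exact Nat.mul_dvd_mul h1 h3
  have h4 := Cfsg.Agent.helper12.card_GL_eq_card_SL_mul (F := F) 3 (by norm_num)
  rw [Matrix.card_GL_field, Fin.prod_univ_three, hq] at h4
  simp only [Fin.val_zero, Fin.val_one, Fin.val_two, pow_zero, pow_one] at h4
  rw [h4]
  exact Dvd.dvd.mul_right h2 _

/-- the arithmetic contradiction for `q` congruent to two or five modulo nine -/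
theorem not_nine_dvd (q : ℕ) (hq2 : 2 ≤ q) (h : q % 9 = 2 ∨ q % 9 = 5) :
    ¬ 9 ∣ (q ^ 3 - 1) * (q ^ 3 - q) * (q ^ 3 - q ^ 2) := by
  intro hdvd
  have h0 : 1 ≤ q ^ 3 := Nat.one_le_pow _ _ (by omega)
  have h1 : q ≤ q ^ 3 := by
    calc q = q ^ 1 := (pow_one q).symm
      _ ≤ q ^ 3 := Nat.pow_le_pow_right (by omega) (by norm_num)
  have h2 : q ^ 2 ≤ q ^ 3 := Nat.pow_le_pow_right (by omega) (by norm_num)
  have hz : (((q ^ 3 - 1) * (q ^ 3 - q) * (q ^ 3 - q ^ 2) : ℕ) : ZMod 9) = 0 :=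
    (ZMod.natCast_eq_zero_iff _ _).mpr hdvd
  rw [Nat.cast_mul, Nat.cast_mul, Nat.cast_sub h0, Nat.cast_sub h1, Nat.cast_sub h2,
    Nat.cast_pow, Nat.cast_pow, Nat.cast_one] at hz
  have hq9 : (q : ZMod 9) = ((q % 9 : ℕ) : ZMod 9) := (ZMod.natCast_mod q 9).symm
  rcases h with h | h
  · rw [hq9, h] at hz
    revert hz
    decide
  · rw [hq9, h] at hz
    revert hz
    decide

/-- in characteristic three a transvection is a bad element -/
theorem bad_char3 [CharP F 3] :
    ∃ x : SL3, ((x ^ 3 : SL3) : M3) = 1 ∧ (∀ z : F, (x : M3) ≠ z • (1 : M3)) ∧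
      ∃ (μ : F) (v w : V3), (x : M3) *ᵥ v = μ • v ∧ (x : M3) *ᵥ w = μ • w ∧ v ≠ 0 ∧
        ∀ c : F, w ≠ c • v := by
  classical
  haveI : Fact (Nat.Prime 3) := ⟨Nat.prime_three⟩
  obtain ⟨N, hN⟩ : ∃ N : M3, N = Matrix.single 0 1 1 := ⟨_, rfl⟩
  have hNN : N * N = 0 := by
    rw [hN, Matrix.single_mul_single_of_ne]
    decide
  obtain ⟨X, hX⟩ : ∃ X : M3, X = 1 + N := ⟨_, rfl⟩
  have hdet : X.det = 1 := by
    rw [hX, hN]
    exact Matrix.det_transvection_of_ne 0 1 (by decide) 1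
  have hX3 : X ^ 3 = 1 := by
    rw [hX, add_pow_char_of_commute 3 (Commute.one_left N), one_pow]
    have : N ^ 3 = 0 := by
      rw [pow_succ, pow_two, hNN, Matrix.zero_mul]
    rw [this, add_zero]
  obtain ⟨x, hx⟩ : ∃ x : SL3, (x : M3) = X := ⟨⟨X, hdet⟩, rfl⟩
  have hfix : ∀ j : Fin 3, j ≠ 1 → X *ᵥ (Pi.single j 1 : V3) = (1 : F) • (Pi.single j 1 : V3) := by
    intro j hj
    have hu : Function.update (0 : V3) 0 (0 : F) = 0 := by
      funext i
      by_cases hi : i = 0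
      · rw [hi, Function.update_self]
        rfl
      · rw [Function.update_of_ne hi]
    rw [hX, Matrix.add_mulVec, Matrix.one_mulVec, hN, Matrix.single_mulVec,
      Pi.single_eq_of_ne hj.symm, mul_zero, hu, add_zero, one_smul]
  refine ⟨x, ?_, ?_, 1, Pi.single 0 1, Pi.single 2 1, ?_, ?_, ?_, ?_⟩
  · rw [Matrix.SpecialLinearGroup.coe_pow, hx]
    exact hX3
  · intro z hz
    rw [hx, hX, hN] at hz
    have h1 := congrFun (congrFun hz 0) 1
    simp at h1
  · rw [hx]
    exact hfix 0 (by decide)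
  · rw [hx]
    exact hfix 2 (by decide)
  · intro h0
    have := congrFun h0 0
    simp at this
  · intro c hc
    have := congrFun hc 2
    simp at this

/-- when nine divides `q - 1` a diagonal element is bad -/
theorem bad_nine [Fintype F] {q : ℕ} (hq : Fintype.card F = q) (h9 : 9 ∣ q - 1) :
    ∃ x : SL3, (∃ z : F, ((x ^ 3 : SL3) : M3) = z • (1 : M3)) ∧
      (∀ z : F, (x : M3) ≠ z • (1 : M3)) ∧
      ∃ (μ : F) (v w : V3), (x : M3) *ᵥ v = μ • v ∧ (x : M3) *ᵥ w = μ • w ∧ v ≠ 0 ∧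
        ∀ c : F, w ≠ c • v := by
  classical
  -- an element of order nine
  obtain ⟨g, hg⟩ := IsCyclic.exists_generator (α := Fˣ)
  have hcard : Nat.card Fˣ = q - 1 := by
    rw [Nat.card_eq_fintype_card, Fintype.card_units, hq]
  have hog : orderOf g = q - 1 := by
    rw [orderOf_eq_card_of_forall_mem_zpowers hg, hcard]
  obtain ⟨t, ht⟩ := h9
  have hq1 : 0 < q - 1 := by
    have : 1 < q := by
      rw [← hq]
      exact Fintype.one_lt_card
    omega
  have ht0 : 0 < t := by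
    rcases Nat.eq_zero_or_pos t with h | h
    · rw [h, mul_zero] at ht
      omega
    · exact h
  obtain ⟨c, hc⟩ : ∃ c : Fˣ, c = g ^ t := ⟨_, rfl⟩
  have hoc : orderOf c = 9 := by
    rw [hc, orderOf_pow' g ht0.ne', hog, ht, Nat.gcd_mul_left_left, Nat.mul_div_cancel _ ht0]
  have hc3 : c ^ 3 ≠ 1 := by
    intro h
    have := orderOf_dvd_of_pow_eq_one h
    rw [hoc] at this
    omega
  obtain ⟨lam, hlam⟩ : ∃ lam : F, lam = (c : F) := ⟨_, rfl⟩
  have hlam0 : lam ≠ 0 := by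
    rw [hlam]
    exact c.ne_zero
  have hlam3 : lam ^ 3 ≠ 1 := by
    intro h
    apply hc3
    apply Units.ext
    rw [Units.val_pow_eq_pow_val, ← hlam, h]
    rfl
  obtain ⟨ν, hν⟩ : ∃ ν : F, ν = lam⁻¹ * lam⁻¹ := ⟨_, rfl⟩
  have hνl : lam * lam * ν = 1 := by
    rw [hν]
    field_simp
  have hlam9 : lam ^ 9 = 1 := by
    rw [hlam, ← Units.val_pow_eq_pow_val, ← hoc, pow_orderOf_eq_one]
    rfl
  have hν3 : ν ^ 3 = lam ^ 3 := by
    have h1 : ν ^ 3 * lam ^ 6 = 1 := by
      calc ν ^ 3 * lam ^ 6 = (lam * lam * ν) ^ 3 := by ring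
        _ = 1 := by rw [hνl, one_pow]
    have h2 : lam ^ 3 * lam ^ 6 = 1 := by
      rw [← pow_add]
      exact hlam9
    have h6 : lam ^ 6 ≠ 0 := pow_ne_zero _ hlam0
    exact mul_right_cancel₀ h6 (h1.trans h2.symm)
  obtain ⟨d, hd⟩ : ∃ d : Fin 3 → F, d = ![lam, lam, ν] := ⟨_, rfl⟩
  obtain ⟨X, hXd⟩ : ∃ X : M3, X = Matrix.diagonal d := ⟨_, rfl⟩
  have hdet : X.det = 1 := by
    rw [hXd, Matrix.det_diagonal, Fin.prod_univ_three, hd]
    exact hνl
  have hX3 : X ^ 3 = (lam ^ 3) • (1 : M3) := by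
    rw [hXd, Matrix.diagonal_pow, ← Matrix.diagonal_one, ← Matrix.diagonal_smul]
    congr 1
    funext j
    rw [hd]
    fin_cases j
    · simp
    · simp
    · simp [hν3]
  obtain ⟨x, hx⟩ : ∃ x : SL3, (x : M3) = X := ⟨⟨X, hdet⟩, rfl⟩
  have hsingle : ∀ j, X *ᵥ (Pi.single j 1 : V3) = d j • (Pi.single j 1 : V3) := by
    intro j
    rw [hXd, Matrix.diagonal_mulVec_single, mul_one, ← Pi.single_smul, smul_eq_mul, mul_one]
  have hd0 : d 0 = lam := by rw [hd]; rfl
  have hd1 : d 1 = lam := by rw [hd]; rfl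
  have hd2 : d 2 = ν := by rw [hd]; rfl
  refine ⟨x, ⟨lam ^ 3, ?_⟩, ?_, lam, Pi.single 0 1, Pi.single 1 1, ?_, ?_, ?_, ?_⟩
  · rw [Matrix.SpecialLinearGroup.coe_pow, hx]
    exact hX3
  · intro z hz
    rw [hx, hXd] at hz
    have h1 := congrFun (congrFun hz 0) 0
    have h2 := congrFun (congrFun hz 2) 2
    rw [Matrix.diagonal_apply_eq, Matrix.smul_apply, Matrix.one_apply_eq, smul_eq_mul, mul_one]
      at h1 h2
    rw [hd0] at h1
    rw [hd2] at h2
    apply hlam3
    have : ν = lam := h2.trans h1.symm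
    rw [this] at hνl
    rw [← hνl]
    ring
  · rw [hx, hsingle, hd0]
  · rw [hx, hsingle, hd1]
  · intro h0
    have := congrFun h0 0
    simp at this
  · intro c hc
    have := congrFun hc 1
    simp at this

end Cfsg.Agent.helper29.SG
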