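import Mathlib
import Cfsg.Prelude.Def_RootSubgroups
import Cfsg.Agent.Lib_helper29_SL2gen
import Cfsg.Agent.Lib_helper2_SLn
import Cfsg.Agent.Lib_helper1_SLVec

set_option autoImplicit false
set_option linter.unusedSectionVars false
set_option linter.unusedVariables false

namespace Cfsg.Agent.helper29.SLRoot

open Matrix Cfsg
open scoped commutatorElement

variable {k : Type*} [Field k] {n : ℕ}

local notation "GG" => Matrix.SpecialLinearGroup (Fin n) k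
local notation "VV" => (Fin n → k)

/-- action on column vectors -/
def act (g : GG) (x : VV) : VV := (g : Matrix (Fin n) (Fin n) k) *ᵥ x

/-- action on row vectors -/
def ract (φ : VV) (g : GG) : VV := φ ᵥ* (g : Matrix (Fin n) (Fin n) k)

theorem act_mul (g h : GG) (x : VV) : act (g * h) x = act g (act h x) := by
  unfold act
  rw [Matrix.SpecialLinearGroup.coe_mul, Matrix.mulVec_mulVec]

theorem act_one (x : VV) : act (1 : GG) x = x := by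
  unfold act
  rw [Matrix.SpecialLinearGroup.coe_one, Matrix.one_mulVec]

theorem act_inv_act (g : GG) (x : VV) : act g⁻¹ (act g x) = x := by
  rw [← act_mul, inv_mul_cancel, act_one]

theorem act_act_inv (g : GG) (x : VV) : act g (act g⁻¹ x) = x := by
  rw [← act_mul, mul_inv_cancel, act_one]

theorem act_add (g : GG) (x y : VV) : act g (x + y) = act g x + act g y := by
  unfold act
  exact Matrix.mulVec_add _ _ _

theorem act_smul (g : GG) (c : k) (x : VV) : act g (c • x) = c • act g x := by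
  unfold act
  exact Matrix.mulVec_smul _ _ _

theorem act_zero (g : GG) : act g (0 : VV) = 0 := by
  unfold act
  exact Matrix.mulVec_zero _

theorem act_ne_zero (g : GG) (x : VV) (hx : x ≠ 0) : act g x ≠ 0 := by
  intro h
  apply hx
  have := act_inv_act g x
  rw [h, act_zero] at this
  exact this.symm

theorem ext_act {g h : GG} (H : ∀ x, act g x = act h x) : g = h := by
  apply Subtype.ext
  rw [Matrix.ext_iff_mulVec]
  exact H

theorem ract_dot (φ : VV) (g : GG) (x : VV) : ract φ g ⬝ᵥ x = φ ⬝ᵥ act g x := by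
  unfold ract act
  rw [Matrix.dotProduct_mulVec]

theorem ract_mul (φ : VV) (g h : GG) : ract φ (g * h) = ract (ract φ g) h := by
  unfold ract
  rw [Matrix.SpecialLinearGroup.coe_mul, Matrix.vecMul_vecMul]

theorem ract_one (φ : VV) : ract φ (1 : GG) = φ := by
  unfold ract
  rw [Matrix.SpecialLinearGroup.coe_one, Matrix.vecMul_one]

theorem ract_ne_zero (φ : VV) (g : GG) (hφ : φ ≠ 0) : ract φ g ≠ 0 := by
  intro h
  apply hφ
  have h1 : ract (ract φ g) g⁻¹ = φ := by rw [← ract_mul, mul_inv_cancel, ract_one]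
  rw [h] at h1
  rw [← h1]
  unfold ract
  exact Matrix.zero_vecMul _

theorem ract_add (φ ψ : VV) (g : GG) : ract (φ + ψ) g = ract φ g + ract ψ g := by
  unfold ract
  exact Matrix.add_vecMul _ _ _

theorem ract_smul (c : k) (φ : VV) (g : GG) : ract (c • φ) g = c • ract φ g := by
  unfold ract
  exact Matrix.smul_vecMul _ _ _

theorem det_tv (v φ : VV) (c : k) (h : φ ⬝ᵥ v = 0) :
    (1 + c • Matrix.vecMulVec v φ : Matrix (Fin n) (Fin n) k).det = 1 := by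
  rw [← Matrix.smul_vecMulVec, Matrix.vecMulVec_eq Unit, Matrix.det_one_add_replicateCol_mul_replicateRow,
    dotProduct_smul, h, smul_zero, add_zero]

/-- the matrix of the transvection `x ↦ x + c φ(x) v` (trivial unless `φ(v) = 0`) -/
noncomputable def tvM (v φ : VV) (c : k) : Matrix (Fin n) (Fin n) k := by
  classical
  exact if φ ⬝ᵥ v = 0 then 1 + c • Matrix.vecMulVec v φ else 1

theorem det_tvM (v φ : VV) (c : k) : (tvM v φ c).det = 1 := by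
  unfold tvM
  split_ifs with h
  · exact det_tv v φ c h
  · exact Matrix.det_one

/-- the transvection `x ↦ x + c φ(x) v` (trivial unless `φ(v) = 0`) -/
noncomputable def tv (v φ : VV) (c : k) : GG := ⟨tvM v φ c, det_tvM v φ c⟩

theorem act_tv (v φ : VV) (h : φ ⬝ᵥ v = 0) (c : k) (x : VV) :
    act (tv v φ c) x = x + (c * (φ ⬝ᵥ x)) • v := by
  show tvM v φ c *ᵥ x = _
  unfold tvM
  rw [if_pos h, Matrix.add_mulVec, Matrix.one_mulVec, Matrix.smul_mulVec, Matrix.vecMulVec_mulVec,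
    op_smul_eq_smul, smul_smul]

theorem tv_mul (v φ : VV) (h : φ ⬝ᵥ v = 0) (c d : k) : tv v φ c * tv v φ d = tv v φ (c + d) := by
  apply ext_act
  intro x
  rw [act_mul, act_tv v φ h, act_tv v φ h, act_tv v φ h, dotProduct_add, dotProduct_smul, h]
  module

theorem tv_zero (v φ : VV) : tv v φ (0 : k) = 1 := by
  by_cases h : φ ⬝ᵥ v = 0
  · apply ext_act
    intro x
    rw [act_tv v φ h, act_one, zero_mul, zero_smul, add_zero]
  · apply Subtype.ext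
    show tvM v φ 0 = 1
    unfold tvM
    rw [if_neg h]

theorem tv_inv (v φ : VV) (h : φ ⬝ᵥ v = 0) (c : k) : (tv v φ c)⁻¹ = tv v φ (-c) := by
  rw [inv_eq_iff_mul_eq_one, tv_mul v φ h, add_neg_cancel, tv_zero]

theorem tv_smul_left (v φ : VV) (h : φ ⬝ᵥ v = 0) (a c : k) : tv (a • v) φ c = tv v φ (a * c) := by
  have h' : φ ⬝ᵥ (a • v) = 0 := by rw [dotProduct_smul, h, smul_zero]
  apply ext_act
  intro x
  rw [act_tv _ φ h', act_tv v φ h, smul_smul]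
  congr 1
  ring

theorem tv_smul_right (v φ : VV) (h : φ ⬝ᵥ v = 0) (a c : k) : tv v (a • φ) c = tv v φ (a * c) := by
  have h' : (a • φ) ⬝ᵥ v = 0 := by rw [smul_dotProduct, h, smul_zero]
  apply ext_act
  intro x
  rw [act_tv v _ h', act_tv v φ h, smul_dotProduct, smul_eq_mul]
  congr 1
  ring

theorem flag_conj (g : GG) (v φ : VV) (h : φ ⬝ᵥ v = 0) : ract φ g⁻¹ ⬝ᵥ act g v = 0 := by
  rw [ract_dot, act_inv_act, h]

theorem conj_tv (g : GG) (v φ : VV) (h : φ ⬝ᵥ v = 0) (c : k) :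
    g * tv v φ c * g⁻¹ = tv (act g v) (ract φ g⁻¹) c := by
  apply ext_act
  intro x
  rw [act_mul, act_mul, act_tv v φ h, act_tv _ _ (flag_conj g v φ h), act_add, act_act_inv, act_smul,
    ract_dot]

theorem exists_dot_ne (φ : VV) (hφ : φ ≠ 0) : ∃ x : VV, φ ⬝ᵥ x ≠ 0 := by
  by_contra hcon
  push Not at hcon
  apply hφ
  funext i
  have := hcon (Pi.single i 1)
  rw [dotProduct_single, mul_one] at this
  exact this

theorem tv_eq_one_iff (v φ : VV) (h : φ ⬝ᵥ v = 0) (hv : v ≠ 0) (hφ : φ ≠ 0) (c : k) :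
    tv v φ c = 1 ↔ c = 0 := by
  constructor
  · intro h1
    obtain ⟨x, hx⟩ := exists_dot_ne φ hφ
    have h2 := act_tv v φ h c x
    rw [h1, act_one] at h2
    have h3 : (c * (φ ⬝ᵥ x)) • v = 0 := by
      have := h2.symm
      rwa [add_eq_left] at this
    rcases smul_eq_zero.mp h3 with h4 | h4
    · rcases mul_eq_zero.mp h4 with h5 | h5
      · exact h5
      · exact absurd h5 hx
    · exact absurd h4 hv
  · intro h1
    rw [h1, tv_zero]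

/-- the root subgroup of a flag -/
def Xs (v φ : VV) : Subgroup GG := Subgroup.closure {g | ∃ c : k, g = tv v φ c}

theorem tv_mem (v φ : VV) (c : k) : tv v φ c ∈ Xs v φ := Subgroup.subset_closure ⟨c, rfl⟩

theorem mem_Xs (v φ : VV) (h : φ ⬝ᵥ v = 0) {g : GG} : g ∈ Xs v φ ↔ ∃ c : k, g = tv v φ c := by
  constructor
  · intro hg
    induction hg using Subgroup.closure_induction with
    | mem x hx => exact hx
    | one => exact ⟨0, (tv_zero v φ).symm⟩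
    | mul x y _ _ hx hy =>
      obtain ⟨a, rfl⟩ := hx
      obtain ⟨b, rfl⟩ := hy
      exact ⟨a + b, tv_mul v φ h a b⟩
    | inv x _ hx =>
      obtain ⟨a, rfl⟩ := hx
      exact ⟨-a, tv_inv v φ h a⟩
  · rintro ⟨a, rfl⟩
    exact tv_mem v φ a

theorem Xs_smul_left (v φ : VV) (h : φ ⬝ᵥ v = 0) (a : k) (ha : a ≠ 0) : Xs (a • v) φ = Xs v φ := by
  have h' : φ ⬝ᵥ (a • v) = 0 := by rw [dotProduct_smul, h, smul_zero]
  ext g
  rw [mem_Xs _ φ h', mem_Xs v φ h]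
  constructor
  · rintro ⟨c, rfl⟩
    exact ⟨a * c, tv_smul_left v φ h a c⟩
  · rintro ⟨c, rfl⟩
    refine ⟨a⁻¹ * c, ?_⟩
    rw [tv_smul_left v φ h, ← mul_assoc, mul_inv_cancel₀ ha, one_mul]

theorem Xs_smul_right (v φ : VV) (h : φ ⬝ᵥ v = 0) (a : k) (ha : a ≠ 0) : Xs v (a • φ) = Xs v φ := by
  have h' : (a • φ) ⬝ᵥ v = 0 := by rw [smul_dotProduct, h, smul_zero]
  ext g
  rw [mem_Xs v _ h', mem_Xs v φ h]
  constructor
  · rintro ⟨c, rfl⟩
    exact ⟨a * c, tv_smul_right v φ h a c⟩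
  · rintro ⟨c, rfl⟩
    refine ⟨a⁻¹ * c, ?_⟩
    rw [tv_smul_right v φ h, ← mul_assoc, mul_inv_cancel₀ ha, one_mul]

theorem conj_Xs (g : GG) (v φ : VV) (h : φ ⬝ᵥ v = 0) :
    Cfsg.conjBy (Xs v φ) g = Xs (act g v) (ract φ g⁻¹) := by
  ext x
  rw [mem_Xs _ _ (flag_conj g v φ h)]
  constructor
  · rintro ⟨y, hy, rfl⟩
    obtain ⟨c, rfl⟩ := (mem_Xs v φ h).mp hy
    exact ⟨c, conj_tv g v φ h c⟩
  · rintro ⟨c, rfl⟩
    exact ⟨tv v φ c, tv_mem v φ c, conj_tv g v φ h c⟩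

theorem Xs_comm (v φ : VV) (h : φ ⬝ᵥ v = 0) : ∀ a ∈ Xs v φ, ∀ b ∈ Xs v φ, a * b = b * a := by
  intro a ha b hb
  obtain ⟨c, rfl⟩ := (mem_Xs v φ h).mp ha
  obtain ⟨d, rfl⟩ := (mem_Xs v φ h).mp hb
  rw [tv_mul v φ h, tv_mul v φ h, add_comm]

theorem Xs_ne_bot (v φ : VV) (h : φ ⬝ᵥ v = 0) (hv : v ≠ 0) (hφ : φ ≠ 0) : Xs v φ ≠ ⊥ := by
  intro hb
  have h1 : tv v φ (1 : k) ∈ (⊥ : Subgroup GG) := hb ▸ tv_mem v φ 1
  rw [Subgroup.mem_bot, tv_eq_one_iff v φ h hv hφ] at h1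
  exact one_ne_zero h1


theorem ract_tv (v φ : VV) (h : φ ⬝ᵥ v = 0) (c : k) (ψ : VV) :
    ract ψ (tv v φ c) = ψ + (c * (ψ ⬝ᵥ v)) • φ := by
  show ψ ᵥ* tvM v φ c = _
  unfold tvM
  rw [if_pos h, Matrix.vecMul_add, Matrix.vecMul_one, Matrix.vecMul_smul, Matrix.vecMul_vecMulVec,
    smul_smul]

/-- basis vectors -/
def ee (i : Fin n) : VV := Pi.single i 1

theorem ee_dot (i : Fin n) (x : VV) : ee i ⬝ᵥ x = x i := by
  unfold ee
  rw [single_dotProduct, one_mul]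

theorem dot_ee (i : Fin n) (x : VV) : x ⬝ᵥ ee i = x i := by
  unfold ee
  rw [dotProduct_single, mul_one]

theorem ee_apply (i j : Fin n) : (ee i : VV) j = if j = i then 1 else 0 := by
  unfold ee
  rw [Pi.single_apply]

theorem ee_ne_zero (i : Fin n) : (ee i : VV) ≠ 0 := by
  intro h
  have := congrFun h i
  rw [ee_apply, if_pos rfl] at this
  exact one_ne_zero this

theorem ee_dot_ee (i j : Fin n) (hij : i ≠ j) : (ee j : VV) ⬝ᵥ ee i = 0 := by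
  rw [ee_dot, ee_apply, if_neg hij.symm]

theorem transvection_eq_tv (i j : Fin n) (hij : i ≠ j) (c : k) (t : GG) :
    (t : Matrix (Fin n) (Fin n) k) = Matrix.transvection i j c ↔ t = tv (ee i) (ee j) c := by
  have h : (tv (ee i) (ee j) c : Matrix (Fin n) (Fin n) k) = Matrix.transvection i j c := by
    show tvM (ee i) (ee j) c = _
    unfold tvM
    rw [if_pos (ee_dot_ee i j hij)]
    unfold Matrix.transvection ee
    congr 1
    ext a b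
    rw [Matrix.smul_apply, Matrix.vecMulVec_apply, Matrix.single_apply, Pi.single_apply, Pi.single_apply]
    by_cases ha : a = i <;> by_cases hb : b = j
    · simp [ha, hb]
    · have : ¬ j = b := fun h => hb h.symm
      simp [ha, hb, this]
    · have : ¬ i = a := fun h => ha h.symm
      simp [ha, hb, this]
    · have : ¬ i = a := fun h => ha h.symm
      simp [ha, hb, this]
  constructor
  · intro ht
    apply Subtype.ext
    rw [ht, h]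
  · intro ht
    rw [ht, h]

/-- the root subgroup of elementary transvections -/
def X0 (i j : Fin n) : Subgroup GG :=
  Subgroup.closure {t : GG | ∃ c : k, (t : Matrix (Fin n) (Fin n) k) = Matrix.transvection i j c}

theorem X0_eq (i j : Fin n) (hij : i ≠ j) : (X0 i j : Subgroup GG) = Xs (ee i) (ee j) := by
  unfold X0 Xs
  congr 1
  ext t
  constructor
  · rintro ⟨c, hc⟩
    exact ⟨c, (transvection_eq_tv i j hij c t).mp hc⟩
  · rintro ⟨c, hc⟩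
    exact ⟨c, (transvection_eq_tv i j hij c t).mpr hc⟩

/-- flag transitivity -/
theorem exists_flag_move (hn : 3 ≤ n) (i j : Fin n) (hij : i ≠ j) (v φ : VV) (hv : v ≠ 0) (hφ : φ ≠ 0)
    (h : φ ⬝ᵥ v = 0) : ∃ g : GG, act g (ee i) = v ∧ ract (ee j) g⁻¹ = φ := by
  obtain ⟨u₀, hu₀⟩ := exists_dot_ne φ hφ
  obtain ⟨u, hu⟩ : ∃ u : VV, φ ⬝ᵥ u = 1 := by
    refine ⟨(φ ⬝ᵥ u₀)⁻¹ • u₀, ?_⟩
    rw [dotProduct_smul, smul_eq_mul, inv_mul_cancel₀ hu₀]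
  have hu0 : u ≠ 0 := by
    rintro rfl
    rw [dotProduct_zero] at hu
    exact zero_ne_one hu
  have hb : LinearIndependent k ![(ee i : VV), ee j] := by
    rw [LinearIndependent.pair_iff]
    intro s t hst
    have h1 := congrFun hst i
    have h2 := congrFun hst j
    simp [ee_apply, hij, hij.symm] at h1 h2
    exact ⟨h1, h2⟩
  have hb' : LinearIndependent k ![v, u] := by
    rw [LinearIndependent.pair_iff]
    intro s t hst
    have h1 := congrArg (fun x => φ ⬝ᵥ x) hst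
    simp only [dotProduct_add, dotProduct_smul, h, hu, smul_eq_mul, mul_zero, mul_one, zero_add,
      dotProduct_zero] at h1
    rw [h1, zero_smul, add_zero] at hst
    rcases smul_eq_zero.mp hst with h2 | h2
    · exact ⟨h2, h1⟩
    · exact absurd h2 hv
  obtain ⟨g₁, hg₁⟩ := Cfsg.Agent.helper1.sl_map_family (ι := Fin 2) ![(ee i : VV), ee j] ![v, u] hb hb'
    (by rw [Fintype.card_fin]; omega)
  have hg10 : act g₁ (ee i) = v := hg₁ 0
  have hg11 : act g₁ (ee j) = u := hg₁ 1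
  obtain ⟨φ', hφ'⟩ : ∃ φ' : VV, φ' = ract φ g₁ := ⟨_, rfl⟩
  have hφ'0 : φ' ⬝ᵥ ee i = 0 := by rw [hφ', ract_dot, hg10, h]
  have hφ'1 : φ' ⬝ᵥ ee j = 1 := by rw [hφ', ract_dot, hg11, hu]
  have hfl : (ee j - φ') ⬝ᵥ ee j = 0 := by
    rw [sub_dotProduct, hφ'1, ee_dot, ee_apply, if_pos rfl, sub_self]
  obtain ⟨hh, hhd⟩ : ∃ hh : GG, hh = tv (ee j) (ee j - φ') 1 := ⟨_, rfl⟩
  have hh0 : act hh (ee i) = ee i := by
    rw [hhd, act_tv _ _ hfl, sub_dotProduct, hφ'0, ee_dot, ee_apply, if_neg hij.symm, sub_self, mul_zero,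
      zero_smul, add_zero]
  have hh1 : ract φ' hh = ee j := by
    rw [hhd, ract_tv _ _ hfl, hφ'1, mul_one, one_smul]
    abel
  have hh2 : ract (ee j) hh⁻¹ = φ' := by
    rw [← hh1, ← ract_mul, mul_inv_cancel, ract_one]
  refine ⟨g₁ * hh, ?_, ?_⟩
  · rw [act_mul, hh0, hg10]
  · rw [_root_.mul_inv_rev, ract_mul, hh2, hφ', ← ract_mul, mul_inv_cancel, ract_one]

/-- The family of root subgroups, in the form used by the statement. -/
def SSet (i j : Fin n) : Set (Subgroup GG) :=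
  {A : Subgroup GG | ∃ g : GG, A = Cfsg.conjBy (Subgroup.closure {t : GG |
    ∃ c : k, (t : Matrix (Fin n) (Fin n) k) = Matrix.transvection i j c}) g}

theorem mem_SSet (hn : 3 ≤ n) (i j : Fin n) (hij : i ≠ j) {A : Subgroup GG} :
    A ∈ SSet i j ↔ ∃ v φ : VV, v ≠ 0 ∧ φ ≠ 0 ∧ φ ⬝ᵥ v = 0 ∧ A = Xs v φ := by
  have hX : Subgroup.closure {t : GG |
    ∃ c : k, (t : Matrix (Fin n) (Fin n) k) = Matrix.transvection i j c} = Xs (ee i) (ee j) := X0_eq i j hij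
  constructor
  · rintro ⟨g, rfl⟩
    rw [hX, conj_Xs g _ _ (ee_dot_ee i j hij)]
    exact ⟨_, _, act_ne_zero g _ (ee_ne_zero i), ract_ne_zero _ _ (ee_ne_zero j),
      flag_conj g _ _ (ee_dot_ee i j hij), rfl⟩
  · rintro ⟨v, φ, hv, hφ, h, rfl⟩
    obtain ⟨g, hg1, hg2⟩ := exists_flag_move hn i j hij v φ hv hφ h
    refine ⟨g, ?_⟩
    rw [hX, conj_Xs g _ _ (ee_dot_ee i j hij), hg1, hg2]

theorem Xs_mem_SSet (hn : 3 ≤ n) (i j : Fin n) (hij : i ≠ j) (v φ : VV) (hv : v ≠ 0) (hφ : φ ≠ 0)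
    (h : φ ⬝ᵥ v = 0) : Xs v φ ∈ SSet i j :=
  (mem_SSet hn i j hij).mpr ⟨v, φ, hv, hφ, h, rfl⟩


/-! ### pairs -/

theorem act_tv_tv (v φ w ψ : VV) (h1 : φ ⬝ᵥ v = 0) (h2 : ψ ⬝ᵥ w = 0) (c d : k) (x : VV) :
    act (tv v φ c * tv w ψ d) x = x + (d * (ψ ⬝ᵥ x)) • w +
      (c * (φ ⬝ᵥ x + d * (ψ ⬝ᵥ x) * (φ ⬝ᵥ w))) • v := by
  rw [act_mul, act_tv w ψ h2, act_tv v φ h1, dotProduct_add, dotProduct_smul, smul_eq_mul]

theorem tv_comm (v φ w ψ : VV) (h1 : φ ⬝ᵥ v = 0) (h2 : ψ ⬝ᵥ w = 0) (ha : φ ⬝ᵥ w = 0) (hb : ψ ⬝ᵥ v = 0)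
    (c d : k) : tv v φ c * tv w ψ d = tv w ψ d * tv v φ c := by
  apply ext_act
  intro x
  rw [act_tv_tv v φ w ψ h1 h2, act_tv_tv w ψ v φ h2 h1, ha, hb, mul_zero, mul_zero, add_zero, add_zero]
  abel

theorem form_zero_of_comm (v φ w ψ : VV) (h1 : φ ⬝ᵥ v = 0) (h2 : ψ ⬝ᵥ w = 0) (hv : v ≠ 0) (hw : w ≠ 0)
    (hφ : φ ≠ 0) (hψ : ψ ≠ 0) (c d : k) (hc : c ≠ 0) (hd : d ≠ 0)
    (h : tv v φ c * tv w ψ d = tv w ψ d * tv v φ c) : φ ⬝ᵥ w = 0 ∧ ψ ⬝ᵥ v = 0 := by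
  have key : ∀ x : VV, (c * d * ((φ ⬝ᵥ w) * (ψ ⬝ᵥ x))) • v = (c * d * ((ψ ⬝ᵥ v) * (φ ⬝ᵥ x))) • w := by
    intro x
    have h3 := congrArg (fun g => act g x) h
    simp only [act_tv_tv v φ w ψ h1 h2, act_tv_tv w ψ v φ h2 h1] at h3
    have e1 : (c * d * ((φ ⬝ᵥ w) * (ψ ⬝ᵥ x))) • v - (c * d * ((ψ ⬝ᵥ v) * (φ ⬝ᵥ x))) • w =
        (x + (d * (ψ ⬝ᵥ x)) • w + (c * (φ ⬝ᵥ x + d * (ψ ⬝ᵥ x) * (φ ⬝ᵥ w))) • v) -
        (x + (c * (φ ⬝ᵥ x)) • v + (d * (ψ ⬝ᵥ x + c * (φ ⬝ᵥ x) * (ψ ⬝ᵥ v))) • w) := by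
      module
    rw [h3, sub_self] at e1
    exact sub_eq_zero.mp e1
  have hab : (φ ⬝ᵥ w) * (ψ ⬝ᵥ v) = 0 := by
    have := key w
    rw [h2, mul_zero, mul_zero, zero_smul] at this
    rcases smul_eq_zero.mp this.symm with h4 | h4
    · rcases mul_eq_zero.mp h4 with h5 | h5
      · rcases mul_eq_zero.mp h5 with h6 | h6
        · exact absurd h6 hc
        · exact absurd h6 hd
      · rw [mul_comm]
        exact h5
    · exact absurd h4 hw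
  have ha : φ ⬝ᵥ w = 0 := by
    by_contra ha
    have hb : ψ ⬝ᵥ v = 0 := by
      rcases mul_eq_zero.mp hab with h4 | h4
      · exact absurd h4 ha
      · exact h4
    obtain ⟨x, hx⟩ := exists_dot_ne ψ hψ
    have := key x
    rw [hb, zero_mul, mul_zero, zero_smul] at this
    rcases smul_eq_zero.mp this with h4 | h4
    · exact mul_ne_zero (mul_ne_zero hc hd) (mul_ne_zero ha hx) h4
    · exact hv h4
  refine ⟨ha, ?_⟩
  by_contra hb
  obtain ⟨x, hx⟩ := exists_dot_ne φ hφ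
  have := key x
  rw [ha, zero_mul, mul_zero, zero_smul] at this
  rcases smul_eq_zero.mp this.symm with h4 | h4
  · exact mul_ne_zero (mul_ne_zero hc hd) (mul_ne_zero hb hx) h4
  · exact hw h4

theorem comm_eq_bot (v φ w ψ : VV) (h1 : φ ⬝ᵥ v = 0) (h2 : ψ ⬝ᵥ w = 0) (ha : φ ⬝ᵥ w = 0)
    (hb : ψ ⬝ᵥ v = 0) : ⁅Xs v φ, Xs w ψ⁆ = ⊥ := by
  rw [Subgroup.commutator_eq_bot_iff_le_centralizer]
  intro a hA
  obtain ⟨c, rfl⟩ := (mem_Xs v φ h1).mp hA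
  rw [Subgroup.mem_centralizer_iff]
  intro b hB
  obtain ⟨d, rfl⟩ := (mem_Xs w ψ h2).mp hB
  exact (tv_comm v φ w ψ h1 h2 ha hb c d).symm

theorem Xs_ne (v φ w ψ : VV) (h1 : φ ⬝ᵥ v = 0) (h2 : ψ ⬝ᵥ w = 0) (hv : v ≠ 0) (hw : w ≠ 0)
    (hφ : φ ≠ 0) (hψ : ψ ≠ 0) (h : φ ⬝ᵥ w ≠ 0 ∨ ψ ⬝ᵥ v ≠ 0) : Xs v φ ≠ Xs w ψ := by
  intro heq
  have h3 : tv v φ (1 : k) ∈ Xs w ψ := heq ▸ tv_mem v φ 1
  have h4 := Xs_comm w ψ h2 _ h3 _ (tv_mem w ψ 1)
  obtain ⟨ha, hb⟩ := form_zero_of_comm v φ w ψ h1 h2 hv hw hφ hψ 1 1 one_ne_zero one_ne_zero h4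
  rcases h with h | h
  · exact h ha
  · exact h hb

theorem rankOne_aux (v φ w ψ : VV) (h1 : φ ⬝ᵥ v = 0) (h2 : ψ ⬝ᵥ w = 0)
    (ha : φ ⬝ᵥ w ≠ 0) (hb : ψ ⬝ᵥ v ≠ 0) (c : k) (hc : c ≠ 0) :
    ∃ d : k, d ≠ 0 ∧ ∃ l m : k, l ≠ 0 ∧ m ≠ 0 ∧
      act (tv w ψ d)⁻¹ v = l • act (tv v φ c)⁻¹ w ∧
      ract φ (tv w ψ d) = m • ract ψ (tv v φ c) := by
  obtain ⟨al, hal⟩ : ∃ al, al = φ ⬝ᵥ w := ⟨_, rfl⟩
  obtain ⟨be, hbe⟩ : ∃ be, be = ψ ⬝ᵥ v := ⟨_, rfl⟩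
  have hal0 : al ≠ 0 := hal ▸ ha
  have hbe0 : be ≠ 0 := hbe ▸ hb
  refine ⟨(c * al * be)⁻¹, inv_ne_zero (mul_ne_zero (mul_ne_zero hc hal0) hbe0), -(c * al)⁻¹, (c * be)⁻¹,
    neg_ne_zero.mpr (inv_ne_zero (mul_ne_zero hc hal0)), inv_ne_zero (mul_ne_zero hc hbe0), ?_, ?_⟩
  · rw [tv_inv w ψ h2, tv_inv v φ h1, act_tv w ψ h2, act_tv v φ h1, ← hal, ← hbe, smul_add, smul_smul]
    have e1 : -(c * al)⁻¹ * (-c * al) = 1 := by field_simp
    have e2 : -(c * al * be)⁻¹ * be = -(c * al)⁻¹ := by field_simp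
    rw [e1, e2, one_smul, add_comm]
  · rw [ract_tv w ψ h2, ract_tv v φ h1, ← hal, ← hbe, smul_add, smul_smul]
    have e1 : (c * be)⁻¹ * (c * be) = 1 := by field_simp
    have e2 : (c * al * be)⁻¹ * al = (c * be)⁻¹ := by field_simp
    rw [e1, e2, one_smul, add_comm]

theorem rankOneCond (v φ w ψ : VV) (h1 : φ ⬝ᵥ v = 0) (h2 : ψ ⬝ᵥ w = 0) (hv : v ≠ 0) (hw : w ≠ 0)
    (hφ : φ ≠ 0) (hψ : ψ ≠ 0) (ha : φ ⬝ᵥ w ≠ 0) (hb : ψ ⬝ᵥ v ≠ 0) :
    Cfsg.RankOneCondition (Xs v φ) (Xs w ψ) := by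
  intro a hA ha1
  obtain ⟨c, rfl⟩ := (mem_Xs v φ h1).mp hA
  have hc : c ≠ 0 := fun hc => ha1 ((tv_eq_one_iff v φ h1 hv hφ c).mpr hc)
  obtain ⟨d, hd, l, m, hl, hm, e1, e2⟩ := rankOne_aux v φ w ψ h1 h2 ha hb c hc
  refine ⟨tv w ψ d, tv_mem w ψ d, ?_, ?_⟩
  · rw [Ne, tv_eq_one_iff w ψ h2 hw hψ]
    exact hd
  · rw [conj_Xs _ v φ h1, conj_Xs _ w ψ h2, inv_inv, inv_inv, e1, e2]
    have hfl : ract ψ (tv v φ c) ⬝ᵥ act (tv v φ c)⁻¹ w = 0 := by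
      have := flag_conj (tv v φ c)⁻¹ w ψ h2
      rwa [inv_inv] at this
    rw [Xs_smul_left _ _ (by rw [smul_dotProduct, hfl, smul_zero]) l hl, Xs_smul_right _ _ hfl m hm]

theorem rankOnePair (v φ w ψ : VV) (h1 : φ ⬝ᵥ v = 0) (h2 : ψ ⬝ᵥ w = 0) (hv : v ≠ 0) (hw : w ≠ 0)
    (hφ : φ ≠ 0) (hψ : ψ ≠ 0) (ha : φ ⬝ᵥ w ≠ 0) (hb : ψ ⬝ᵥ v ≠ 0) :
    Cfsg.IsRankOnePair (Xs v φ) (Xs w ψ) := by
  refine ⟨Xs_ne v φ w ψ h1 h2 hv hw hφ hψ (Or.inl ha), ?_, ?_,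
    rankOneCond v φ w ψ h1 h2 hv hw hφ hψ ha hb, rankOneCond w ψ v φ h2 h1 hw hv hψ hφ hb ha⟩
  · let _ : CommGroup (Xs v φ) :=
      { (inferInstance : Group (Xs v φ)) with
        mul_comm := fun a b => Subtype.ext (Xs_comm v φ h1 a a.2 b b.2) }
    exact CommGroup.isNilpotent
  · let _ : CommGroup (Xs w ψ) :=
      { (inferInstance : Group (Xs w ψ)) with
        mul_comm := fun a b => Subtype.ext (Xs_comm w ψ h2 a a.2 b b.2) }
    exact CommGroup.isNilpotent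


theorem Xs_eq_imp (v φ v' φ' : VV) (h1 : φ ⬝ᵥ v = 0) (h2 : φ' ⬝ᵥ v' = 0) (hφ : φ ≠ 0)
    (h : Xs v φ = Xs v' φ') : ∃ l : k, v = l • v' := by
  have h3 : tv v φ (1 : k) ∈ Xs v' φ' := h ▸ tv_mem v φ 1
  obtain ⟨e, he⟩ := (mem_Xs v' φ' h2).mp h3
  obtain ⟨x, hx⟩ := exists_dot_ne φ hφ
  have h4 := congrArg (fun g => act g x) he
  simp only [act_tv v φ h1, act_tv v' φ' h2] at h4
  have h5 : (1 * (φ ⬝ᵥ x)) • v = (e * (φ' ⬝ᵥ x)) • v' := add_left_cancel h4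
  refine ⟨(φ ⬝ᵥ x)⁻¹ * (e * (φ' ⬝ᵥ x)), ?_⟩
  rw [← smul_smul, ← h5, one_mul, smul_smul, inv_mul_cancel₀ hx, one_smul]

theorem not_rankOneCond (v φ w ψ : VV) (h1 : φ ⬝ᵥ v = 0) (h2 : ψ ⬝ᵥ w = 0) (hv : v ≠ 0) (hw : w ≠ 0)
    (hφ : φ ≠ 0) (hψ : ψ ≠ 0) (ha : φ ⬝ᵥ w ≠ 0) (hb : ψ ⬝ᵥ v = 0) :
    ¬ Cfsg.RankOneCondition (Xs v φ) (Xs w ψ) := by
  intro hcond
  have ha1 : tv v φ (1 : k) ≠ 1 := by
    rw [Ne, tv_eq_one_iff v φ h1 hv hφ]
    exact one_ne_zero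
  obtain ⟨b, hB, _, hbe⟩ := hcond (tv v φ 1) (tv_mem v φ 1) ha1
  obtain ⟨d, rfl⟩ := (mem_Xs w ψ h2).mp hB
  rw [conj_Xs _ v φ h1, conj_Xs _ w ψ h2] at hbe
  have hfl1 := flag_conj (tv w ψ d)⁻¹ v φ h1
  have hfl2 := flag_conj (tv v φ 1)⁻¹ w ψ h2
  obtain ⟨l, hl⟩ := Xs_eq_imp _ _ _ _ hfl1 hfl2 (ract_ne_zero _ _ hφ) hbe
  rw [tv_inv w ψ h2, tv_inv v φ h1, act_tv w ψ h2, act_tv v φ h1, hb, mul_zero, zero_smul, add_zero] at hl
  have h3 := congrArg (fun x => φ ⬝ᵥ x) hl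
  simp only [dotProduct_smul, dotProduct_add, h1, smul_eq_mul, mul_zero, add_zero] at h3
  -- `0 = l * φ(w)`, so `l = 0`, so `v = 0`
  rcases mul_eq_zero.mp h3.symm with h4 | h4
  · rw [h4, zero_smul] at hl
    exact hv hl
  · exact ha h4

theorem form_ne_zero_of_rankOnePair (v φ w ψ : VV) (h1 : φ ⬝ᵥ v = 0) (h2 : ψ ⬝ᵥ w = 0) (hv : v ≠ 0)
    (hw : w ≠ 0) (hφ : φ ≠ 0) (hψ : ψ ≠ 0) (h : Cfsg.IsRankOnePair (Xs v φ) (Xs w ψ)) :
    φ ⬝ᵥ w ≠ 0 ∧ ψ ⬝ᵥ v ≠ 0 := by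
  by_cases ha : φ ⬝ᵥ w = 0
  · by_cases hb : ψ ⬝ᵥ v = 0
    · exfalso
      have ha1 : tv v φ (1 : k) ≠ 1 := by
        rw [Ne, tv_eq_one_iff v φ h1 hv hφ]
        exact one_ne_zero
      obtain ⟨b, hB, _, hbe⟩ := h.cond_left (tv v φ 1) (tv_mem v φ 1) ha1
      obtain ⟨d, rfl⟩ := (mem_Xs w ψ h2).mp hB
      rw [conj_Xs _ v φ h1, conj_Xs _ w ψ h2, inv_inv, inv_inv, tv_inv w ψ h2, tv_inv v φ h1,
        act_tv w ψ h2, act_tv v φ h1, ract_tv w ψ h2, ract_tv v φ h1, ha, hb, mul_zero, mul_zero,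
        mul_zero, mul_zero, zero_smul, zero_smul, zero_smul, zero_smul, add_zero, add_zero, add_zero,
        add_zero] at hbe
      exact h.ne hbe
    · exfalso
      exact not_rankOneCond w ψ v φ h2 h1 hw hv hψ hφ hb ha h.cond_right
  · by_cases hb : ψ ⬝ᵥ v = 0
    · exfalso
      exact not_rankOneCond v φ w ψ h1 h2 hv hw hφ hψ ha hb h.cond_left
    · exact ⟨ha, hb⟩

/-- the commutator of two transvections in the commutator case -/
theorem comm_elt (v φ w ψ : VV) (h1 : φ ⬝ᵥ v = 0) (h2 : ψ ⬝ᵥ w = 0) (hb : ψ ⬝ᵥ v = 0) (c d : k) :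
    ⁅tv v φ c, tv w ψ d⁆ = tv v ψ (c * d * (φ ⬝ᵥ w)) := by
  have key : tv v φ c * tv w ψ d = tv v ψ (c * d * (φ ⬝ᵥ w)) * (tv w ψ d * tv v φ c) := by
    apply ext_act
    intro x
    rw [act_mul (tv v ψ _), act_tv v ψ hb, act_tv_tv v φ w ψ h1 h2, act_tv_tv w ψ v φ h2 h1]
    simp only [dotProduct_add, dotProduct_smul, hb, h2, smul_eq_mul, mul_zero, add_zero]
    module
  rw [commutatorElement_def, key]
  group

theorem commutator_eq (v φ w ψ : VV) (h1 : φ ⬝ᵥ v = 0) (h2 : ψ ⬝ᵥ w = 0) (ha : φ ⬝ᵥ w ≠ 0)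
    (hb : ψ ⬝ᵥ v = 0) : ⁅Xs v φ, Xs w ψ⁆ = Xs v ψ := by
  apply le_antisymm
  · rw [Subgroup.commutator_le]
    intro a hA b hB
    obtain ⟨c, rfl⟩ := (mem_Xs v φ h1).mp hA
    obtain ⟨d, rfl⟩ := (mem_Xs w ψ h2).mp hB
    rw [comm_elt v φ w ψ h1 h2 hb]
    exact tv_mem v ψ _
  · unfold Xs
    rw [Subgroup.closure_le]
    rintro g ⟨e, rfl⟩
    have : tv v ψ e = ⁅tv v φ (e / (φ ⬝ᵥ w)), tv w ψ 1⁆ := by
      rw [comm_elt v φ w ψ h1 h2 hb]
      congr 1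
      field_simp
    rw [this]
    exact Subgroup.commutator_mem_commutator (tv_mem v φ _) (tv_mem w ψ 1)

theorem commCase (hn : 3 ≤ n) (i j : Fin n) (hij : i ≠ j) (v φ w ψ : VV) (h1 : φ ⬝ᵥ v = 0)
    (h2 : ψ ⬝ᵥ w = 0) (hv : v ≠ 0) (hw : w ≠ 0) (hφ : φ ≠ 0) (hψ : ψ ≠ 0) (ha : φ ⬝ᵥ w ≠ 0)
    (hb : ψ ⬝ᵥ v = 0) : Cfsg.RootCommutatorCase (SSet (k := k) i j) (Xs v φ) (Xs w ψ) := by
  have hcomm := commutator_eq v φ w ψ h1 h2 ha hb
  refine ⟨?_, ?_, ?_, ?_⟩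
  · rw [hcomm]
    exact Xs_mem_SSet hn i j hij v ψ hv hψ hb
  · rw [hcomm]
    intro z hz x hx
    have hle : Xs v φ ⊔ Xs w ψ ≤ Subgroup.centralizer (Xs v ψ : Set GG) := by
      rw [sup_le_iff]
      constructor
      · intro a hA
        obtain ⟨c, rfl⟩ := (mem_Xs v φ h1).mp hA
        rw [Subgroup.mem_centralizer_iff]
        intro y hy
        obtain ⟨e, rfl⟩ := (mem_Xs v ψ hb).mp hy
        exact tv_comm v ψ v φ hb h1 hb h1 e c
      · intro b hB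
        obtain ⟨d, rfl⟩ := (mem_Xs w ψ h2).mp hB
        rw [Subgroup.mem_centralizer_iff]
        intro y hy
        obtain ⟨e, rfl⟩ := (mem_Xs v ψ hb).mp hy
        exact tv_comm v ψ w ψ hb h2 h2 hb e d
    exact (Subgroup.mem_centralizer_iff.mp (hle hx)) z hz
  · intro a hA ha1
    obtain ⟨c, rfl⟩ := (mem_Xs v φ h1).mp hA
    have hc : c ≠ 0 := fun hc => ha1 ((tv_eq_one_iff v φ h1 hv hφ c).mpr hc)
    rw [hcomm]
    apply le_antisymm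
    · rw [Subgroup.closure_le]
      rintro _ ⟨b, hB, rfl⟩
      obtain ⟨d, rfl⟩ := (mem_Xs w ψ h2).mp hB
      have := comm_elt v φ w ψ h1 h2 hb c d
      rw [commutatorElement_def] at this
      beta_reduce
      rw [this]
      exact tv_mem v ψ _
    · unfold Xs
      rw [Subgroup.closure_le]
      rintro g ⟨e, rfl⟩
      apply Subgroup.subset_closure
      refine ⟨tv w ψ (e / (c * (φ ⬝ᵥ w))), tv_mem w ψ _, ?_⟩
      have := comm_elt v φ w ψ h1 h2 hb c (e / (c * (φ ⬝ᵥ w)))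
      rw [commutatorElement_def] at this
      beta_reduce
      rw [this]
      congr 1
      field_simp
  · intro b hB hb1
    obtain ⟨d, rfl⟩ := (mem_Xs w ψ h2).mp hB
    have hd : d ≠ 0 := fun hd => hb1 ((tv_eq_one_iff w ψ h2 hw hψ d).mpr hd)
    rw [hcomm]
    apply le_antisymm
    · rw [Subgroup.closure_le]
      rintro _ ⟨a, hA, rfl⟩
      obtain ⟨c, rfl⟩ := (mem_Xs v φ h1).mp hA
      have := comm_elt v φ w ψ h1 h2 hb c d
      rw [commutatorElement_def] at this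
      beta_reduce
      rw [this]
      exact tv_mem v ψ _
    · unfold Xs
      rw [Subgroup.closure_le]
      rintro g ⟨e, rfl⟩
      apply Subgroup.subset_closure
      refine ⟨tv v φ (e / (d * (φ ⬝ᵥ w))), tv_mem v φ _, ?_⟩
      have := comm_elt v φ w ψ h1 h2 hb (e / (d * (φ ⬝ᵥ w))) d
      rw [commutatorElement_def] at this
      beta_reduce
      rw [this]
      congr 1
      field_simp

/-- symmetry of the commutator case -/
theorem rcc_symm {G : Type*} [Group G] (S : Set (Subgroup G)) (A B : Subgroup G)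
    (h : Cfsg.RootCommutatorCase S B A) : Cfsg.RootCommutatorCase S A B := by
  obtain ⟨h1, h2, h3, h4⟩ := h
  have hc : ⁅A, B⁆ = ⁅B, A⁆ := Subgroup.commutator_comm A B
  have hset : ∀ (a : G) (C : Subgroup G), Subgroup.closure ((fun b : G => a * b * a⁻¹ * b⁻¹) '' (C : Set G)) =
      Subgroup.closure ((fun b : G => b * a * b⁻¹ * a⁻¹) '' (C : Set G)) := by
    intro a C
    rw [← Subgroup.closure_inv ((fun b : G => b * a * b⁻¹ * a⁻¹) '' (C : Set G))]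
    congr 1
    ext x
    rw [Set.mem_inv]
    constructor
    · rintro ⟨b, hb, rfl⟩
      refine ⟨b, hb, ?_⟩
      beta_reduce
      group
    · rintro ⟨b, hb, hx⟩
      refine ⟨b, hb, ?_⟩
      beta_reduce at hx ⊢
      rw [← inv_inv x, ← hx]
      group
  refine ⟨hc ▸ h1, ?_, ?_, ?_⟩
  · rw [hc, sup_comm]
    exact h2
  · intro a ha ha1
    rw [hc, hset a B]
    exact h4 a ha ha1
  · intro b hb hb1
    rw [hc, ← hset b A]
    exact h3 b hb hb1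

end Cfsg.Agent.helper29.SLRoot
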