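import Mathlib
import Cfsg.Agent.Lib_helper29_SLRoot

set_option autoImplicit false
set_option linter.unusedSectionVars false
set_option linter.unusedVariables false

namespace Cfsg.Agent.helper29.SLRoot

open Matrix Cfsg
open Cfsg.Agent.helper29.SL2gen
open scoped commutatorElement

variable {k : Type*} [Field k] {n : ℕ}

local notation "GG" => Matrix.SpecialLinearGroup (Fin n) k
local notation "VV" => (Fin n → k)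

/-- The matrix of the action of a `2 × 2` matrix on the plane `⟨e₁, e₂⟩` with dual functionals `a, b`,
extended by the identity on the common kernel. -/
def PhiS (e₁ e₂ a b : VV) (M : Matrix (Fin 2) (Fin 2) k) : Matrix (Fin n) (Fin n) k :=
  1 + Matrix.vecMulVec e₁ ((M 0 0 - 1) • a + M 0 1 • b)
    + Matrix.vecMulVec e₂ (M 1 0 • a + (M 1 1 - 1) • b)

theorem PhiS_mulVec (e₁ e₂ a b : VV) (M : Matrix (Fin 2) (Fin 2) k) (x : VV) :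
    PhiS e₁ e₂ a b M *ᵥ x = x + ((M 0 0 - 1) * (a ⬝ᵥ x) + M 0 1 * (b ⬝ᵥ x)) • e₁ +
      (M 1 0 * (a ⬝ᵥ x) + (M 1 1 - 1) * (b ⬝ᵥ x)) • e₂ := by
  unfold PhiS
  rw [Matrix.add_mulVec, Matrix.add_mulVec, Matrix.one_mulVec, Matrix.vecMulVec_mulVec,
    Matrix.vecMulVec_mulVec, op_smul_eq_smul, op_smul_eq_smul]
  simp only [add_dotProduct, smul_dotProduct, smul_eq_mul]

theorem PhiS_mul (e₁ e₂ a b : VV) (h11 : a ⬝ᵥ e₁ = 1) (h12 : a ⬝ᵥ e₂ = 0) (h21 : b ⬝ᵥ e₁ = 0)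
    (h22 : b ⬝ᵥ e₂ = 1) (M N : Matrix (Fin 2) (Fin 2) k) :
    PhiS e₁ e₂ a b (M * N) = PhiS e₁ e₂ a b M * PhiS e₁ e₂ a b N := by
  rw [Matrix.ext_iff_mulVec]
  intro x
  rw [← Matrix.mulVec_mulVec, PhiS_mulVec e₁ e₂ a b N x, PhiS_mulVec, PhiS_mulVec]
  simp only [dotProduct_add, dotProduct_smul, smul_eq_mul, h11, h12, h21, h22, Matrix.mul_apply,
    Fin.sum_univ_two]
  module

theorem PhiS_one (e₁ e₂ a b : VV) : PhiS e₁ e₂ a b 1 = 1 := by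
  rw [Matrix.ext_iff_mulVec]
  intro x
  rw [PhiS_mulVec, Matrix.one_mulVec]
  simp

/-- matrix level hom -/
def fM (e₁ e₂ a b : VV) (h11 : a ⬝ᵥ e₁ = 1) (h12 : a ⬝ᵥ e₂ = 0) (h21 : b ⬝ᵥ e₁ = 0)
    (h22 : b ⬝ᵥ e₂ = 1) : Matrix.SpecialLinearGroup (Fin 2) k →* Matrix (Fin n) (Fin n) k where
  toFun M := PhiS e₁ e₂ a b (M : Matrix (Fin 2) (Fin 2) k)
  map_one' := by rw [Matrix.SpecialLinearGroup.coe_one, PhiS_one]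
  map_mul' M N := by rw [Matrix.SpecialLinearGroup.coe_mul, PhiS_mul e₁ e₂ a b h11 h12 h21 h22]

theorem fM_UU (e₁ e₂ a b : VV) (h11 : a ⬝ᵥ e₁ = 1) (h12 : a ⬝ᵥ e₂ = 0) (h21 : b ⬝ᵥ e₁ = 0)
    (h22 : b ⬝ᵥ e₂ = 1) (t : k) : fM e₁ e₂ a b h11 h12 h21 h22 (UU t) = tvM e₁ b t := by
  rw [Matrix.ext_iff_mulVec]
  intro x
  show PhiS e₁ e₂ a b !![1, t; 0, 1] *ᵥ x = tvM e₁ b t *ᵥ x
  have := act_tv e₁ b h21 t x
  unfold act at this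
  rw [PhiS_mulVec]
  erw [this]
  simp

theorem fM_LL (e₁ e₂ a b : VV) (h11 : a ⬝ᵥ e₁ = 1) (h12 : a ⬝ᵥ e₂ = 0) (h21 : b ⬝ᵥ e₁ = 0)
    (h22 : b ⬝ᵥ e₂ = 1) (t : k) : fM e₁ e₂ a b h11 h12 h21 h22 (LL t) = tvM e₂ a t := by
  rw [Matrix.ext_iff_mulVec]
  intro x
  show PhiS e₁ e₂ a b !![1, 0; t, 1] *ᵥ x = tvM e₂ a t *ᵥ x
  have := act_tv e₂ a h12 t x
  unfold act at this
  rw [PhiS_mulVec]
  erw [this]
  simp

theorem det_fM (e₁ e₂ a b : VV) (h11 : a ⬝ᵥ e₁ = 1) (h12 : a ⬝ᵥ e₂ = 0) (h21 : b ⬝ᵥ e₁ = 0)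
    (h22 : b ⬝ᵥ e₂ = 1) (M : Matrix.SpecialLinearGroup (Fin 2) k) :
    (fM e₁ e₂ a b h11 h12 h21 h22 M).det = 1 := by
  obtain ⟨ψ, hψ⟩ : ∃ ψ : Matrix.SpecialLinearGroup (Fin 2) k →* kˣ,
      ψ = (Matrix.GeneralLinearGroup.det).comp (fM e₁ e₂ a b h11 h12 h21 h22).toHomUnits := ⟨_, rfl⟩
  have hval : ∀ M, ((ψ M : kˣ) : k) = (fM e₁ e₂ a b h11 h12 h21 h22 M).det := by
    intro M
    rw [hψ]
    rfl
  have hker : ψ.ker = ⊤ := by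
    rw [eq_top_iff, ← sl2_gen, upper_eq, lower_eq, sup_le_iff, Subgroup.closure_le, Subgroup.closure_le]
    constructor
    · rintro _ ⟨t, rfl⟩
      rw [SetLike.mem_coe, MonoidHom.mem_ker]
      apply Units.ext
      rw [hval, fM_UU, det_tvM, Units.val_one]
    · rintro _ ⟨t, rfl⟩
      rw [SetLike.mem_coe, MonoidHom.mem_ker]
      apply Units.ext
      rw [hval, fM_LL, det_tvM, Units.val_one]
  have hM : M ∈ ψ.ker := hker ▸ Subgroup.mem_top M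
  rw [MonoidHom.mem_ker] at hM
  rw [← hval, hM, Units.val_one]

/-- The embedding of `SL₂(k)` attached to a plane with dual functionals. -/
def phi (e₁ e₂ a b : VV) (h11 : a ⬝ᵥ e₁ = 1) (h12 : a ⬝ᵥ e₂ = 0) (h21 : b ⬝ᵥ e₁ = 0)
    (h22 : b ⬝ᵥ e₂ = 1) : Matrix.SpecialLinearGroup (Fin 2) k →* GG where
  toFun M := ⟨fM e₁ e₂ a b h11 h12 h21 h22 M, det_fM e₁ e₂ a b h11 h12 h21 h22 M⟩
  map_one' := Subtype.ext (map_one (fM e₁ e₂ a b h11 h12 h21 h22))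
  map_mul' M N := Subtype.ext (map_mul (fM e₁ e₂ a b h11 h12 h21 h22) M N)

theorem act_phi (e₁ e₂ a b : VV) (h11 : a ⬝ᵥ e₁ = 1) (h12 : a ⬝ᵥ e₂ = 0) (h21 : b ⬝ᵥ e₁ = 0)
    (h22 : b ⬝ᵥ e₂ = 1) (M : Matrix.SpecialLinearGroup (Fin 2) k) (x : VV) :
    act (phi e₁ e₂ a b h11 h12 h21 h22 M) x =
      x + (((M : Matrix (Fin 2) (Fin 2) k) 0 0 - 1) * (a ⬝ᵥ x) +
        (M : Matrix (Fin 2) (Fin 2) k) 0 1 * (b ⬝ᵥ x)) • e₁ +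
      ((M : Matrix (Fin 2) (Fin 2) k) 1 0 * (a ⬝ᵥ x) +
        ((M : Matrix (Fin 2) (Fin 2) k) 1 1 - 1) * (b ⬝ᵥ x)) • e₂ :=
  PhiS_mulVec e₁ e₂ a b _ x

theorem phi_UU (e₁ e₂ a b : VV) (h11 : a ⬝ᵥ e₁ = 1) (h12 : a ⬝ᵥ e₂ = 0) (h21 : b ⬝ᵥ e₁ = 0)
    (h22 : b ⬝ᵥ e₂ = 1) (t : k) : phi e₁ e₂ a b h11 h12 h21 h22 (UU t) = tv e₁ b t :=
  Subtype.ext (fM_UU e₁ e₂ a b h11 h12 h21 h22 t)

theorem phi_LL (e₁ e₂ a b : VV) (h11 : a ⬝ᵥ e₁ = 1) (h12 : a ⬝ᵥ e₂ = 0) (h21 : b ⬝ᵥ e₁ = 0)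
    (h22 : b ⬝ᵥ e₂ = 1) (t : k) : phi e₁ e₂ a b h11 h12 h21 h22 (LL t) = tv e₂ a t :=
  Subtype.ext (fM_LL e₁ e₂ a b h11 h12 h21 h22 t)

theorem phi_injective (e₁ e₂ a b : VV) (h11 : a ⬝ᵥ e₁ = 1) (h12 : a ⬝ᵥ e₂ = 0) (h21 : b ⬝ᵥ e₁ = 0)
    (h22 : b ⬝ᵥ e₂ = 1) : Function.Injective (phi e₁ e₂ a b h11 h12 h21 h22) := by
  rw [injective_iff_map_eq_one]
  intro M hM
  have h1 := act_phi e₁ e₂ a b h11 h12 h21 h22 M e₁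
  have h2 := act_phi e₁ e₂ a b h11 h12 h21 h22 M e₂
  rw [hM, act_one] at h1 h2
  simp only [h11, h12, h21, h22, mul_zero, add_zero, mul_one, zero_add] at h1 h2
  have e1 := congrArg (fun x => a ⬝ᵥ x) h1
  have e2 := congrArg (fun x => b ⬝ᵥ x) h1
  have e3 := congrArg (fun x => a ⬝ᵥ x) h2
  have e4 := congrArg (fun x => b ⬝ᵥ x) h2
  simp only [dotProduct_add, dotProduct_smul, smul_eq_mul, h11, h12, h21, h22, mul_zero, add_zero,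
    mul_one, zero_add] at e1 e2 e3 e4
  apply Subtype.ext
  ext i j
  fin_cases i <;> fin_cases j
  · show (M : Matrix (Fin 2) (Fin 2) k) 0 0 = 1
    linear_combination -e1
  · show (M : Matrix (Fin 2) (Fin 2) k) 0 1 = 0
    linear_combination -e3
  · show (M : Matrix (Fin 2) (Fin 2) k) 1 0 = 0
    linear_combination -e2
  · show (M : Matrix (Fin 2) (Fin 2) k) 1 1 = 1
    linear_combination -e4

theorem map_upper (e₁ e₂ a b : VV) (h11 : a ⬝ᵥ e₁ = 1) (h12 : a ⬝ᵥ e₂ = 0) (h21 : b ⬝ᵥ e₁ = 0)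
    (h22 : b ⬝ᵥ e₂ = 1) :
    (Cfsg.upperUnipotentSL2 k).map (phi e₁ e₂ a b h11 h12 h21 h22) = Xs e₁ b := by
  rw [upper_eq, MonoidHom.map_closure]
  unfold Xs
  congr 1
  ext g
  constructor
  · rintro ⟨_, ⟨t, rfl⟩, rfl⟩
    exact ⟨t, phi_UU e₁ e₂ a b h11 h12 h21 h22 t⟩
  · rintro ⟨c, rfl⟩
    exact ⟨UU c, ⟨c, rfl⟩, phi_UU e₁ e₂ a b h11 h12 h21 h22 c⟩

theorem map_lower (e₁ e₂ a b : VV) (h11 : a ⬝ᵥ e₁ = 1) (h12 : a ⬝ᵥ e₂ = 0) (h21 : b ⬝ᵥ e₁ = 0)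
    (h22 : b ⬝ᵥ e₂ = 1) :
    (Cfsg.lowerUnipotentSL2 k).map (phi e₁ e₂ a b h11 h12 h21 h22) = Xs e₂ a := by
  rw [lower_eq, MonoidHom.map_closure]
  unfold Xs
  congr 1
  ext g
  constructor
  · rintro ⟨_, ⟨t, rfl⟩, rfl⟩
    exact ⟨t, phi_LL e₁ e₂ a b h11 h12 h21 h22 t⟩
  · rintro ⟨c, rfl⟩
    exact ⟨LL c, ⟨c, rfl⟩, phi_LL e₁ e₂ a b h11 h12 h21 h22 c⟩

theorem isPSL2Pair (v φ w ψ : VV) (h1 : φ ⬝ᵥ v = 0) (h2 : ψ ⬝ᵥ w = 0) (ha : φ ⬝ᵥ w ≠ 0)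
    (hb : ψ ⬝ᵥ v ≠ 0) : Cfsg.IsPSL2PairOver k (Xs v φ) (Xs w ψ) := by
  obtain ⟨a, hadef⟩ : ∃ a : VV, a = (ψ ⬝ᵥ v)⁻¹ • ψ := ⟨_, rfl⟩
  obtain ⟨b, hbdef⟩ : ∃ b : VV, b = (φ ⬝ᵥ w)⁻¹ • φ := ⟨_, rfl⟩
  have h11 : a ⬝ᵥ v = 1 := by rw [hadef, smul_dotProduct, smul_eq_mul, inv_mul_cancel₀ hb]
  have h12 : a ⬝ᵥ w = 0 := by rw [hadef, smul_dotProduct, h2, smul_zero]
  have h21 : b ⬝ᵥ v = 0 := by rw [hbdef, smul_dotProduct, h1, smul_zero]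
  have h22 : b ⬝ᵥ w = 1 := by rw [hbdef, smul_dotProduct, smul_eq_mul, inv_mul_cancel₀ ha]
  have hA : Xs v b = Xs v φ := by
    rw [hbdef]
    exact Xs_smul_right v φ h1 _ (inv_ne_zero ha)
  have hB : Xs w a = Xs w ψ := by
    rw [hadef]
    exact Xs_smul_right w ψ h2 _ (inv_ne_zero hb)
  refine ⟨phi v w a b h11 h12 h21 h22, ?_, ?_, ?_, ?_⟩
  · rw [MonoidHom.range_eq_map, ← sl2_gen, Subgroup.map_sup, map_upper, map_lower, hA, hB]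
  · rw [(MonoidHom.ker_eq_bot_iff _).mpr (phi_injective v w a b h11 h12 h21 h22)]
    exact bot_le
  · rw [map_upper, hA]
  · rw [map_lower, hB]

/-! ### the root subgroup set axioms -/

theorem exists_flag (hn : 3 ≤ n) {A : Subgroup GG} (i j : Fin n) (hij : i ≠ j) (hA : A ∈ SSet i j) :
    ∃ v φ : VV, v ≠ 0 ∧ φ ≠ 0 ∧ φ ⬝ᵥ v = 0 ∧ A = Xs v φ := (mem_SSet hn i j hij).mp hA

theorem generates (hn : 3 ≤ n) (i j : Fin n) (hij : i ≠ j) :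
    (⨆ A ∈ SSet (k := k) i j, A) = ⊤ := by
  haveI : Nontrivial (Fin n) := Fin.nontrivial_iff_two_le.mpr (by omega)
  rw [eq_top_iff]
  intro g _
  refine Cfsg.Agent.helper2.transvection_induction (fun A => A ∈ (⨆ A ∈ SSet (k := k) i j, A)) ?_
    (fun A B hA hB => mul_mem hA hB) g
  intro a b hab c
  have h1 : Matrix.SpecialLinearGroup.transvection hab c = tv (ee a) (ee b) c :=
    (transvection_eq_tv a b hab c _).mp rfl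
  beta_reduce
  rw [h1]
  have hmem : Xs (ee a) (ee b) ∈ SSet (k := k) i j :=
    Xs_mem_SSet hn i j hij _ _ (ee_ne_zero a) (ee_ne_zero b) (ee_dot_ee a b hab)
  exact (le_iSup₂ (f := fun (A : Subgroup GG) (_ : A ∈ SSet (k := k) i j) => A) _ hmem) (tv_mem _ _ c)

theorem pair_cases (hn : 3 ≤ n) (i j : Fin n) (hij : i ≠ j) (v φ w ψ : VV) (h1 : φ ⬝ᵥ v = 0)
    (h2 : ψ ⬝ᵥ w = 0) (hv : v ≠ 0) (hw : w ≠ 0) (hφ : φ ≠ 0) (hψ : ψ ≠ 0) :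
    ⁅Xs v φ, Xs w ψ⁆ = ⊥ ∨ Cfsg.IsRankOnePair (Xs v φ) (Xs w ψ) ∨
      Cfsg.RootCommutatorCase (SSet (k := k) i j) (Xs v φ) (Xs w ψ) := by
  by_cases ha : φ ⬝ᵥ w = 0
  · by_cases hb : ψ ⬝ᵥ v = 0
    · exact Or.inl (comm_eq_bot v φ w ψ h1 h2 ha hb)
    · refine Or.inr (Or.inr (rcc_symm _ _ _ ?_))
      exact commCase hn i j hij w ψ v φ h2 h1 hw hv hψ hφ hb ha
  · by_cases hb : ψ ⬝ᵥ v = 0
    · exact Or.inr (Or.inr (commCase hn i j hij v φ w ψ h1 h2 hv hw hφ hψ ha hb))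
    · exact Or.inr (Or.inl (rankOnePair v φ w ψ h1 h2 hv hw hφ hψ ha hb))

theorem isRootSubgroupSet (hn : 3 ≤ n) (i j : Fin n) (hij : i ≠ j) :
    Cfsg.IsRootSubgroupSet (SSet (k := k) i j) := by
  refine ⟨?_, ?_, generates hn i j hij, ?_, ?_⟩
  · intro A hA
    obtain ⟨v, φ, hv, hφ, h, rfl⟩ := exists_flag hn i j hij hA
    exact ⟨⟨fun a b => Subtype.ext (Xs_comm v φ h a a.2 b b.2)⟩⟩
  · intro A hA
    obtain ⟨v, φ, hv, hφ, h, rfl⟩ := exists_flag hn i j hij hA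
    exact Xs_ne_bot v φ h hv hφ
  · intro A hA g
    obtain ⟨v, φ, hv, hφ, h, rfl⟩ := exists_flag hn i j hij hA
    rw [conj_Xs g v φ h]
    exact Xs_mem_SSet hn i j hij _ _ (act_ne_zero g v hv) (ract_ne_zero φ _ hφ) (flag_conj g v φ h)
  · intro A hA B hB
    obtain ⟨v, φ, hv, hφ, h1, rfl⟩ := exists_flag hn i j hij hA
    obtain ⟨w, ψ, hw, hψ, h2, rfl⟩ := exists_flag hn i j hij hB
    exact pair_cases hn i j hij v φ w ψ h1 h2 hv hw hφ hψ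

theorem isConjClass (i j : Fin n) : Cfsg.IsConjClassOfSubgroups (SSet (k := k) i j) := by
  refine ⟨⟨_, 1, rfl⟩, ?_⟩
  rintro A ⟨g, rfl⟩ B ⟨h, rfl⟩
  refine ⟨h * g⁻¹, ?_⟩
  ext x
  simp only [Subgroup.mem_map, MulEquiv.coe_toMonoidHom, MulAut.conj_apply]
  constructor
  · rintro ⟨y, hy, rfl⟩
    refine ⟨g * y * g⁻¹, ⟨y, hy, rfl⟩, ?_⟩
    group
  · rintro ⟨_, ⟨y, hy, rfl⟩, rfl⟩
    refine ⟨y, hy, ?_⟩
    group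

theorem isKRoot (hn : 3 ≤ n) (i j : Fin n) (hij : i ≠ j) :
    Cfsg.IsKRootSubgroupSet k (SSet (k := k) i j) := by
  refine ⟨isRootSubgroupSet hn i j hij, ?_⟩
  intro A hA B hB hAB
  obtain ⟨v, φ, hv, hφ, h1, rfl⟩ := exists_flag hn i j hij hA
  obtain ⟨w, ψ, hw, hψ, h2, rfl⟩ := exists_flag hn i j hij hB
  obtain ⟨ha, hb⟩ := form_ne_zero_of_rankOnePair v φ w ψ h1 h2 hv hw hφ hψ hAB
  exact isPSL2Pair v φ w ψ h1 h2 ha hb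

/-! ### nondegeneracy -/

theorem ee_dot_self (i : Fin n) : (ee i : VV) ⬝ᵥ ee i = 1 := by
  rw [ee_dot, ee_apply, if_pos rfl]

theorem isNondegenerate (hn : 3 ≤ n) (i j : Fin n) (hij : i ≠ j) :
    Cfsg.IsNondegenerateRootSet (SSet (k := k) i j) := by
  obtain ⟨i0, hi0⟩ : ∃ i0 : Fin n, i0 = ⟨0, by omega⟩ := ⟨_, rfl⟩
  obtain ⟨i1, hi1⟩ : ∃ i1 : Fin n, i1 = ⟨1, by omega⟩ := ⟨_, rfl⟩
  obtain ⟨i2, hi2⟩ : ∃ i2 : Fin n, i2 = ⟨2, by omega⟩ := ⟨_, rfl⟩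
  have h01 : i0 ≠ i1 := by rw [hi0, hi1]; simp [Fin.ext_iff]
  have h02 : i0 ≠ i2 := by rw [hi0, hi2]; simp [Fin.ext_iff]
  have h12 : i1 ≠ i2 := by rw [hi1, hi2]; simp [Fin.ext_iff]
  have m01 : Xs (ee i0) (ee i1) ∈ SSet (k := k) i j :=
    Xs_mem_SSet hn i j hij _ _ (ee_ne_zero _) (ee_ne_zero _) (ee_dot_ee _ _ h01)
  have m21 : Xs (ee i2) (ee i1) ∈ SSet (k := k) i j :=
    Xs_mem_SSet hn i j hij _ _ (ee_ne_zero _) (ee_ne_zero _) (ee_dot_ee _ _ h12.symm)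
  have m10 : Xs (ee i1) (ee i0) ∈ SSet (k := k) i j :=
    Xs_mem_SSet hn i j hij _ _ (ee_ne_zero _) (ee_ne_zero _) (ee_dot_ee _ _ h01.symm)
  have m12 : Xs (ee i1) (ee i2) ∈ SSet (k := k) i j :=
    Xs_mem_SSet hn i j hij _ _ (ee_ne_zero _) (ee_ne_zero _) (ee_dot_ee _ _ h12)
  refine ⟨⟨_, m01, _, m21, ?_, ?_⟩, ⟨_, m01, _, m10, ?_⟩, ⟨_, m01, _, m12, ?_⟩⟩
  · intro heq
    obtain ⟨l, hl⟩ := Xs_eq_imp (ee i0) (ee i1) (ee i2) (ee i1) (ee_dot_ee _ _ h01)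
      (ee_dot_ee _ _ h12.symm) (ee_ne_zero _) heq
    have := congrFun hl i0
    rw [Pi.smul_apply, ee_apply, ee_apply, if_pos rfl, if_neg h02, smul_zero] at this
    exact one_ne_zero this
  · exact comm_eq_bot _ _ _ _ (ee_dot_ee _ _ h01) (ee_dot_ee _ _ h12.symm) (ee_dot_ee _ _ h12.symm)
      (ee_dot_ee _ _ h01)
  · refine rankOnePair _ _ _ _ (ee_dot_ee _ _ h01) (ee_dot_ee _ _ h01.symm) (ee_ne_zero _) (ee_ne_zero _)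
      (ee_ne_zero _) (ee_ne_zero _) ?_ ?_
    · rw [ee_dot_self]; exact one_ne_zero
    · rw [ee_dot_self]; exact one_ne_zero
  · refine commCase hn i j hij _ _ _ _ (ee_dot_ee _ _ h01) (ee_dot_ee _ _ h12) (ee_ne_zero _) (ee_ne_zero _)
      (ee_ne_zero _) (ee_ne_zero _) ?_ (ee_dot_ee _ _ h02)
    rw [ee_dot_self]; exact one_ne_zero

/-! ### connectedness -/

theorem exists_vec_ne (v : VV) (hv : v ≠ 0) : ∃ θ : VV, θ ⬝ᵥ v ≠ 0 := by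
  obtain ⟨x, hx⟩ := exists_dot_ne v hv
  exact ⟨x, by rwa [dotProduct_comm]⟩

theorem exists_common_vec (φ ψ : VV) (hφ : φ ≠ 0) (hψ : ψ ≠ 0) :
    ∃ u : VV, φ ⬝ᵥ u ≠ 0 ∧ ψ ⬝ᵥ u ≠ 0 := by
  obtain ⟨x, hx⟩ := exists_dot_ne φ hφ
  obtain ⟨y, hy⟩ := exists_dot_ne ψ hψ
  by_cases h1 : ψ ⬝ᵥ x = 0
  · by_cases h2 : φ ⬝ᵥ y = 0
    · refine ⟨x + y, ?_, ?_⟩
      · rw [dotProduct_add, h2, add_zero]; exact hx
      · rw [dotProduct_add, h1, zero_add]; exact hy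
    · exact ⟨y, h2, hy⟩
  · exact ⟨x, hx, h1⟩

theorem exists_common_form (u v w φ ψ : VV) (hv : v ≠ 0) (hw : w ≠ 0) (h1 : φ ⬝ᵥ v = 0) (h2 : ψ ⬝ᵥ w = 0)
    (hu1 : φ ⬝ᵥ u ≠ 0) (hu2 : ψ ⬝ᵥ u ≠ 0) :
    ∃ χ : VV, χ ⬝ᵥ u = 0 ∧ χ ⬝ᵥ v ≠ 0 ∧ χ ⬝ᵥ w ≠ 0 := by
  obtain ⟨θ, hθ⟩ := exists_vec_ne v hv
  obtain ⟨θ', hθ'⟩ := exists_vec_ne w hw
  obtain ⟨χ₁, hχ₁⟩ : ∃ χ₁ : VV, χ₁ = (φ ⬝ᵥ u) • θ - (θ ⬝ᵥ u) • φ := ⟨_, rfl⟩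
  obtain ⟨χ₂, hχ₂⟩ : ∃ χ₂ : VV, χ₂ = (ψ ⬝ᵥ u) • θ' - (θ' ⬝ᵥ u) • ψ := ⟨_, rfl⟩
  have a1 : χ₁ ⬝ᵥ u = 0 := by
    rw [hχ₁, sub_dotProduct, smul_dotProduct, smul_dotProduct, smul_eq_mul, smul_eq_mul]
    ring
  have a2 : χ₂ ⬝ᵥ u = 0 := by
    rw [hχ₂, sub_dotProduct, smul_dotProduct, smul_dotProduct, smul_eq_mul, smul_eq_mul]
    ring
  have b1 : χ₁ ⬝ᵥ v ≠ 0 := by
    rw [hχ₁, sub_dotProduct, smul_dotProduct, smul_dotProduct, h1, smul_zero, sub_zero, smul_eq_mul]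
    exact mul_ne_zero hu1 hθ
  have b2 : χ₂ ⬝ᵥ w ≠ 0 := by
    rw [hχ₂, sub_dotProduct, smul_dotProduct, smul_dotProduct, h2, smul_zero, sub_zero, smul_eq_mul]
    exact mul_ne_zero hu2 hθ'
  by_cases c1 : χ₁ ⬝ᵥ w = 0
  · by_cases c2 : χ₂ ⬝ᵥ v = 0
    · refine ⟨χ₁ + χ₂, ?_, ?_, ?_⟩
      · rw [add_dotProduct, a1, a2, add_zero]
      · rw [add_dotProduct, c2, add_zero]; exact b1
      · rw [add_dotProduct, c1, zero_add]; exact b2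
    · exact ⟨χ₂, a2, c2, b2⟩
  · exact ⟨χ₁, a1, b1, c1⟩

theorem isConnected (hn : 3 ≤ n) (i j : Fin n) (hij : i ≠ j) :
    Cfsg.IsConnectedFamily (Cfsg.FAdj (SSet (k := k) i j)) (SSet (k := k) i j) := by
  intro A hA B hB
  obtain ⟨v, φ, hv, hφ, h1, rfl⟩ := exists_flag hn i j hij hA
  obtain ⟨w, ψ, hw, hψ, h2, rfl⟩ := exists_flag hn i j hij hB
  obtain ⟨u, hu1, hu2⟩ := exists_common_vec φ ψ hφ hψ
  obtain ⟨χ, hχu, hχv, hχw⟩ := exists_common_form u v w φ ψ hv hw h1 h2 hu1 hu2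
  have hu : u ≠ 0 := by
    rintro rfl
    exact hu1 (dotProduct_zero φ)
  have hχ : χ ≠ 0 := by
    rintro rfl
    exact hχv (zero_dotProduct v)
  have hC : Xs u χ ∈ SSet (k := k) i j := Xs_mem_SSet hn i j hij u χ hu hχ hχu
  have e1 : Cfsg.FAdj (SSet (k := k) i j) (Xs v φ) (Xs u χ) :=
    ⟨hA, hC, rankOnePair v φ u χ h1 hχu hv hu hφ hχ hu1 hχv⟩
  have e2 : Cfsg.FAdj (SSet (k := k) i j) (Xs u χ) (Xs w ψ) :=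
    ⟨hC, hB, rankOnePair u χ w ψ hχu h2 hu hw hχ hψ hχw hu2⟩
  exact Relation.ReflTransGen.tail (Relation.ReflTransGen.single e1) e2

theorem main (hn : 3 ≤ n) (i j : Fin n) (hij : i ≠ j) :
    Cfsg.IsRootSubgroupClass (SSet (k := k) i j) ∧ Cfsg.IsNondegenerateRootSet (SSet (k := k) i j) ∧
    Cfsg.IsKRootSubgroupSet k (SSet (k := k) i j) ∧
    Cfsg.IsConnectedFamily (Cfsg.FAdj (SSet (k := k) i j)) (SSet (k := k) i j) :=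
  ⟨⟨isRootSubgroupSet hn i j hij, isConjClass i j⟩, isNondegenerate hn i j hij, isKRoot hn i j hij,
    isConnected hn i j hij⟩

end Cfsg.Agent.helper29.SLRoot
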