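import Mathlib
import Cfsg.Agent.Lib_helper29_SLRoot2

set_option autoImplicit false
set_option linter.unusedSectionVars false
set_option linter.unusedVariables false

namespace Cfsg.Agent.helper29.SLInv

open Matrix Cfsg
open Cfsg.Agent.helper29.SL2gen
open Cfsg.Agent.helper29.SLRoot
open scoped commutatorElement

/-! ### `SL₂` in characteristic 2 -/

theorem two_eq_zero (F : Type*) [Field F] [CharP F 2] : (2 : F) = 0 := by
  have := CharP.cast_eq_zero F 2
  exact_mod_cast this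

theorem f2_cases {F : Type*} [Field F] [Fintype F] (hq : Fintype.card F = 2) (x : F) : x = 0 ∨ x = 1 := by
  have h := FiniteField.pow_card x
  rw [hq] at h
  have h2 : x * (x - 1) = 0 := by linear_combination h
  rcases mul_eq_zero.mp h2 with h3 | h3
  · exact Or.inl h3
  · exact Or.inr (by linear_combination h3)

theorem sq_eq_one_char2 (F : Type*) [Field F] [CharP F 2] (p : F) (h : p * p = 1) : p = 1 := by
  have h2 := two_eq_zero F
  have : (p - 1) * (p - 1) = 0 := by linear_combination h + (1 - p) * h2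
  have h3 : p - 1 = 0 := by
    rcases mul_self_eq_zero.mp this with h
    exact h
  linear_combination h3

theorem cayley2 {F : Type*} [Field F] [CharP F 2] (M : Matrix (Fin 2) (Fin 2) F) (hdet : M.det = 1) :
    M * M = M.trace • M + 1 := by
  have h2 := two_eq_zero F
  rw [Matrix.det_fin_two] at hdet
  ext i j
  fin_cases i <;> fin_cases j
  · simp [Matrix.mul_apply, Fin.sum_univ_two, Matrix.trace_fin_two]
    linear_combination -hdet - h2
  · simp [Matrix.mul_apply, Fin.sum_univ_two, Matrix.trace_fin_two]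
    ring
  · simp [Matrix.mul_apply, Fin.sum_univ_two, Matrix.trace_fin_two]
    ring
  · simp [Matrix.mul_apply, Fin.sum_univ_two, Matrix.trace_fin_two]
    linear_combination -hdet - h2

theorem pow_form {F : Type*} [Field F] [CharP F 2] (M : Matrix (Fin 2) (Fin 2) F) (hdet : M.det = 1)
    (j : ℕ) : ∃ p q : F, M ^ j = p • (1 : Matrix (Fin 2) (Fin 2) F) + q • M := by
  induction j with
  | zero => exact ⟨1, 0, by rw [pow_zero, one_smul, zero_smul, add_zero]⟩
  | succ j ih =>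
    obtain ⟨p, q, h⟩ := ih
    refine ⟨q, p + q * M.trace, ?_⟩
    rw [pow_succ, h, add_mul, smul_mul_assoc, one_mul, smul_mul_assoc, cayley2 M hdet]
    module

theorem sq_form {F : Type*} [Field F] [CharP F 2] (M : Matrix (Fin 2) (Fin 2) F) (hdet : M.det = 1)
    (p q : F) : (p • (1 : Matrix (Fin 2) (Fin 2) F) + q • M) * (p • (1 : Matrix (Fin 2) (Fin 2) F) + q • M) =
      (p * p + q * q) • (1 : Matrix (Fin 2) (Fin 2) F) + (q * q * M.trace) • M := by
  have h2 : (2 : F) • M = 0 := by rw [two_eq_zero F, zero_smul]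
  simp only [add_mul, mul_add, smul_mul_assoc, mul_smul_comm, one_mul, mul_one]
  rw [cayley2 M hdet]
  have h3 : (p * q) • ((2 : F) • M) = 0 := by rw [h2, smul_zero]
  rw [← add_zero ((p * p + q * q) • (1 : Matrix (Fin 2) (Fin 2) F) + (q * q * M.trace) • M), ← h3]
  module

theorem odd_order {F : Type*} [Field F] [Fintype F] [CharP F 2]
    (M : Matrix.SpecialLinearGroup (Fin 2) F)
    (ht : (M : Matrix (Fin 2) (Fin 2) F).trace ≠ 0) : Odd (orderOf M) := by
  classical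
  have hpos : 0 < orderOf M := orderOf_pos M
  by_contra hodd
  rw [Nat.not_odd_iff_even] at hodd
  obtain ⟨j, hj⟩ := hodd
  have hj0 : 0 < j := by omega
  have hjlt : j < orderOf M := by omega
  obtain ⟨p, q, hpq⟩ := pow_form (M : Matrix (Fin 2) (Fin 2) F) M.det_coe j
  have hsq : ((M : Matrix (Fin 2) (Fin 2) F) ^ j) * ((M : Matrix (Fin 2) (Fin 2) F) ^ j) = 1 := by
    rw [← pow_add, ← hj, ← Matrix.SpecialLinearGroup.coe_pow, pow_orderOf_eq_one,
      Matrix.SpecialLinearGroup.coe_one]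
  rw [hpq, sq_form _ M.det_coe] at hsq
  have e00 := congrFun (congrFun hsq 0) 0
  have e01 := congrFun (congrFun hsq 0) 1
  have e10 := congrFun (congrFun hsq 1) 0
  have e11 := congrFun (congrFun hsq 1) 1
  simp only [Matrix.add_apply, Matrix.smul_apply, Matrix.one_apply_eq, Matrix.one_apply_ne, smul_eq_mul,
    mul_one, mul_zero, zero_add, ne_eq, zero_ne_one, one_ne_zero, not_false_eq_true, Fin.isValue] at e00 e01 e10 e11
  by_cases hq : q = 0
  · subst hq
    have hp : p * p = 1 := by linear_combination e00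
    have hp1 := sq_eq_one_char2 F p hp
    have : M ^ j = 1 := by
      apply Subtype.ext
      rw [Matrix.SpecialLinearGroup.coe_pow, hpq, hp1, one_smul, zero_smul, add_zero,
        Matrix.SpecialLinearGroup.coe_one]
    exact (pow_ne_one_of_lt_orderOf hj0.ne' hjlt) this
  · have hc : q * q * (M : Matrix (Fin 2) (Fin 2) F).trace ≠ 0 := mul_ne_zero (mul_ne_zero hq hq) ht
    have h01 : (M : Matrix (Fin 2) (Fin 2) F) 0 1 = 0 := by
      rcases mul_eq_zero.mp e01 with h | h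
      · exact absurd h hc
      · exact h
    have h10 : (M : Matrix (Fin 2) (Fin 2) F) 1 0 = 0 := by
      rcases mul_eq_zero.mp e10 with h | h
      · exact absurd h hc
      · exact h
    have hd : (M : Matrix (Fin 2) (Fin 2) F) 0 0 = (M : Matrix (Fin 2) (Fin 2) F) 1 1 := by
      have : q * q * (M : Matrix (Fin 2) (Fin 2) F).trace *
          ((M : Matrix (Fin 2) (Fin 2) F) 0 0 - (M : Matrix (Fin 2) (Fin 2) F) 1 1) = 0 := by
        linear_combination e00 - e11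
      rcases mul_eq_zero.mp this with h | h
      · exact absurd h hc
      · linear_combination h
    have hdet := M.det_coe
    rw [Matrix.det_fin_two, h01, h10, ← hd] at hdet
    have h1 : (M : Matrix (Fin 2) (Fin 2) F) 0 0 = 1 := sq_eq_one_char2 F _ (by linear_combination hdet)
    apply ht
    rw [Matrix.trace_fin_two, ← hd, h1]
    linear_combination two_eq_zero F

theorem cube_eq_one {F : Type*} [Field F] [CharP F 2] (M : Matrix.SpecialLinearGroup (Fin 2) F)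
    (ht : (M : Matrix (Fin 2) (Fin 2) F).trace = 1) : M ^ 3 = 1 := by
  apply Subtype.ext
  have h := cayley2 (M : Matrix (Fin 2) (Fin 2) F) M.det_coe
  rw [ht, one_smul] at h
  have h2 : (2 : F) • (M : Matrix (Fin 2) (Fin 2) F) = 0 := by rw [two_eq_zero F, zero_smul]
  rw [Matrix.SpecialLinearGroup.coe_pow, Matrix.SpecialLinearGroup.coe_one, pow_succ, pow_two, h, add_mul,
    one_mul, h]
  have h3 : (M : Matrix (Fin 2) (Fin 2) F) + 1 + (M : Matrix (Fin 2) (Fin 2) F) =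
      1 + (2 : F) • (M : Matrix (Fin 2) (Fin 2) F) := by module
  rw [h3, h2, add_zero]

/-! ### transvections of `SL_n` -/

section
variable {k : Type*} [Field k] {n : ℕ}

local notation "GG" => Matrix.SpecialLinearGroup (Fin n) k
local notation "VV" => (Fin n → k)

/-- the set of transvections in the form of the statement -/
def DSet (i j : Fin n) : Set GG :=
  {t : GG | ∃ c : k, c ≠ 0 ∧ ∃ g : GG,
    ((g⁻¹ * t * g : GG) : Matrix (Fin n) (Fin n) k) = Matrix.transvection i j c}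

theorem exists_conj (hn : 3 ≤ n) (i j : Fin n) (hij : i ≠ j) (v φ : VV) (hv : v ≠ 0) (hφ : φ ≠ 0)
    (h : φ ⬝ᵥ v = 0) : ∃ g : GG, tv v φ (1 : k) = g * tv (ee i) (ee j) 1 * g⁻¹ := by
  obtain ⟨g, hg1, hg2⟩ := exists_flag_move hn i j hij v φ hv hφ h
  refine ⟨g, ?_⟩
  rw [conj_tv g _ _ (ee_dot_ee i j hij), hg1, hg2]

theorem mem_DSet (hn : 3 ≤ n) (i j : Fin n) (hij : i ≠ j) {t : GG} :
    t ∈ DSet i j ↔ ∃ v φ : VV, v ≠ 0 ∧ φ ≠ 0 ∧ φ ⬝ᵥ v = 0 ∧ t = tv v φ 1 := by
  constructor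
  · rintro ⟨c, hc, g, hg⟩
    have h1 : g⁻¹ * t * g = tv (ee i) (ee j) c := (transvection_eq_tv i j hij c _).mp hg
    have h2 : t = g * (g⁻¹ * t * g) * g⁻¹ := by group
    have hfl := flag_conj g _ _ (ee_dot_ee i j hij)
    refine ⟨c • act g (ee i), ract (ee j) g⁻¹, smul_ne_zero hc (act_ne_zero g _ (ee_ne_zero i)),
      ract_ne_zero _ _ (ee_ne_zero j), ?_, ?_⟩
    · rw [dotProduct_smul, hfl, smul_zero]
    · rw [h2, h1, conj_tv g _ _ (ee_dot_ee i j hij), tv_smul_left _ _ hfl, mul_one]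
  · rintro ⟨v, φ, hv, hφ, h, rfl⟩
    obtain ⟨g, hg⟩ := exists_conj hn i j hij v φ hv hφ h
    refine ⟨1, one_ne_zero, g, ?_⟩
    rw [transvection_eq_tv i j hij, hg]
    group

theorem tv_mem_DSet (hn : 3 ≤ n) (i j : Fin n) (hij : i ≠ j) (v φ : VV) (hv : v ≠ 0) (hφ : φ ≠ 0)
    (h : φ ⬝ᵥ v = 0) (c : k) (hc : c ≠ 0) : tv v φ c ∈ DSet i j := by
  rw [mem_DSet hn i j hij]
  refine ⟨c • v, φ, smul_ne_zero hc hv, hφ, ?_, ?_⟩
  · rw [dotProduct_smul, h, smul_zero]
  · rw [tv_smul_left _ _ h, mul_one]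

theorem tv_one_ne_one (v φ : VV) (hv : v ≠ 0) (hφ : φ ≠ 0) (h : φ ⬝ᵥ v = 0) (c : k) (hc : c ≠ 0) :
    tv v φ c ≠ 1 := by
  rw [Ne, tv_eq_one_iff v φ h hv hφ]
  exact hc

theorem tv_sq [CharP k 2] (v φ : VV) (h : φ ⬝ᵥ v = 0) (c : k) : tv v φ c * tv v φ c = 1 := by
  rw [tv_mul v φ h, ← two_mul, two_eq_zero k, zero_mul, tv_zero]

theorem orderOf_tv [CharP k 2] (v φ : VV) (hv : v ≠ 0) (hφ : φ ≠ 0) (h : φ ⬝ᵥ v = 0) (c : k) (hc : c ≠ 0) :
    orderOf (tv v φ c) = 2 :=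
  orderOf_eq_prime (by rw [pow_two, tv_sq v φ h]) (tv_one_ne_one v φ hv hφ h c hc)

theorem generatesD (hn : 3 ≤ n) (i j : Fin n) (hij : i ≠ j) :
    Subgroup.closure (DSet (k := k) i j) = ⊤ := by
  have : Nontrivial (Fin n) := Fin.nontrivial_iff_two_le.mpr (by omega)
  rw [eq_top_iff]
  intro g _
  refine Cfsg.Agent.helper2.transvection_induction (fun A => A ∈ Subgroup.closure (DSet (k := k) i j)) ?_
    (fun A B hA hB => mul_mem hA hB) g
  intro a b hab c
  have h1 : Matrix.SpecialLinearGroup.transvection hab c = tv (ee a) (ee b) c :=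
    (transvection_eq_tv a b hab c _).mp rfl
  show Matrix.SpecialLinearGroup.transvection hab c ∈ Subgroup.closure (DSet (k := k) i j)
  rw [h1]
  by_cases hc : c = 0
  · rw [hc, tv_zero]
    exact one_mem _
  · exact Subgroup.subset_closure
      (tv_mem_DSet hn i j hij _ _ (ee_ne_zero a) (ee_ne_zero b) (ee_dot_ee a b hab) c hc)

/-- the product of two transvections in the rank one case comes from `SL₂` -/
theorem prod_eq_phi (v φ w ψ : VV) (h1 : φ ⬝ᵥ v = 0) (h2 : ψ ⬝ᵥ w = 0) (ha : φ ⬝ᵥ w ≠ 0)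
    (hb : ψ ⬝ᵥ v ≠ 0) : ∃ f : Matrix.SpecialLinearGroup (Fin 2) k →* GG, Function.Injective f ∧
      tv v φ 1 * tv w ψ 1 = f (UU (φ ⬝ᵥ w) * LL (ψ ⬝ᵥ v)) := by
  obtain ⟨a, hadef⟩ : ∃ a : VV, a = (ψ ⬝ᵥ v)⁻¹ • ψ := ⟨_, rfl⟩
  obtain ⟨b, hbdef⟩ : ∃ b : VV, b = (φ ⬝ᵥ w)⁻¹ • φ := ⟨_, rfl⟩
  have h11 : a ⬝ᵥ v = 1 := by rw [hadef, smul_dotProduct, smul_eq_mul, inv_mul_cancel₀ hb]
  have h12 : a ⬝ᵥ w = 0 := by rw [hadef, smul_dotProduct, h2, smul_zero]
  have h21 : b ⬝ᵥ v = 0 := by rw [hbdef, smul_dotProduct, h1, smul_zero]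
  have h22 : b ⬝ᵥ w = 1 := by rw [hbdef, smul_dotProduct, smul_eq_mul, inv_mul_cancel₀ ha]
  refine ⟨phi v w a b h11 h12 h21 h22, phi_injective v w a b h11 h12 h21 h22, ?_⟩
  rw [map_mul, phi_UU, phi_LL, hadef, hbdef, tv_smul_right _ _ h1, tv_smul_right _ _ h2,
    inv_mul_cancel₀ ha, inv_mul_cancel₀ hb]

theorem trace_UL [CharP k 2] (α β : k) :
    ((UU α * LL β : Matrix.SpecialLinearGroup (Fin 2) k) : Matrix (Fin 2) (Fin 2) k).trace = α * β := by
  rw [Matrix.SpecialLinearGroup.coe_mul, Matrix.trace_fin_two]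
  simp only [UU, LL, Matrix.mul_apply, Fin.sum_univ_two]
  simp
  linear_combination two_eq_zero k

/-- the square of a product of two involutions is their commutator -/
theorem sq_eq_comm {G : Type*} [Group G] (a b : G) (ha : a * a = 1) (hb : b * b = 1) :
    (a * b) ^ 2 = ⁅a, b⁆ := by
  have ha' : a⁻¹ = a := inv_eq_of_mul_eq_one_right ha
  have hb' : b⁻¹ = b := inv_eq_of_mul_eq_one_right hb
  rw [commutatorElement_def, ha', hb', pow_two]
  group

theorem order_four {G : Type*} [Group G] (x : G) (h1 : x ^ 2 ≠ 1) (h2 : x ^ 2 * x ^ 2 = 1) :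
    orderOf x = 4 := by
  have := orderOf_eq_prime_pow (x := x) (p := 2) (n := 1) (by rwa [pow_one])
    (by rw [show 2 ^ (1 + 1) = 2 + 2 from rfl, pow_add]; exact h2)
  rw [this]
  rfl


/-- the analysis of a pair of transvections -/
theorem pair_cases [Fintype k] [CharP k 2] (hn : 3 ≤ n) (i j : Fin n) (hij : i ≠ j) (v φ w ψ : VV)
    (h1 : φ ⬝ᵥ v = 0) (h2 : ψ ⬝ᵥ w = 0) (hv : v ≠ 0) (hw : w ≠ 0) (hφ : φ ≠ 0) (hψ : ψ ≠ 0) :
    (tv v φ (1 : k) * tv w ψ 1 = tv w ψ 1 * tv v φ 1) ∨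
    (Odd (orderOf (tv v φ (1 : k) * tv w ψ 1)) ∧
      (Fintype.card k = 2 → (tv v φ (1 : k) * tv w ψ 1) ^ 3 = 1)) ∨
    (orderOf (tv v φ (1 : k) * tv w ψ 1) = 4 ∧ (tv v φ (1 : k) * tv w ψ 1) ^ 2 ∈ DSet i j) := by
  have hA := tv_sq v φ h1 (1 : k)
  have hB := tv_sq w ψ h2 (1 : k)
  by_cases ha : φ ⬝ᵥ w = 0
  · by_cases hb : ψ ⬝ᵥ v = 0
    · exact Or.inl (tv_comm v φ w ψ h1 h2 ha hb 1 1)
    · right; right
      have hsq : (tv v φ (1 : k) * tv w ψ 1) ^ 2 = tv w φ (-(ψ ⬝ᵥ v)) := by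
        rw [sq_eq_comm _ _ hA hB, ← commutatorElement_inv, comm_elt w ψ v φ h2 h1 ha, tv_inv _ _ ha,
          one_mul, one_mul]
      have hmem : tv w φ (-(ψ ⬝ᵥ v)) ∈ DSet i j :=
        tv_mem_DSet hn i j hij w φ hw hφ ha _ (neg_ne_zero.mpr hb)
      refine ⟨order_four _ ?_ ?_, hsq ▸ hmem⟩
      · rw [hsq]
        exact tv_one_ne_one w φ hw hφ ha _ (neg_ne_zero.mpr hb)
      · rw [hsq]
        exact tv_sq w φ ha _
  · by_cases hb : ψ ⬝ᵥ v = 0
    · right; right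
      have hsq : (tv v φ (1 : k) * tv w ψ 1) ^ 2 = tv v ψ (φ ⬝ᵥ w) := by
        rw [sq_eq_comm _ _ hA hB, comm_elt v φ w ψ h1 h2 hb, one_mul, one_mul]
      have hmem : tv v ψ (φ ⬝ᵥ w) ∈ DSet i j := tv_mem_DSet hn i j hij v ψ hv hψ hb _ ha
      refine ⟨order_four _ ?_ ?_, hsq ▸ hmem⟩
      · rw [hsq]
        exact tv_one_ne_one v ψ hv hψ hb _ ha
      · rw [hsq]
        exact tv_sq v ψ hb _
    · right; left
      obtain ⟨f, hf, hprod⟩ := prod_eq_phi v φ w ψ h1 h2 ha hb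
      have htr := trace_UL (φ ⬝ᵥ w) (ψ ⬝ᵥ v)
      rw [hprod]
      constructor
      · rw [orderOf_injective f hf]
        apply odd_order
        rw [htr]
        exact mul_ne_zero ha hb
      · intro hcard
        rw [← map_pow, cube_eq_one, map_one]
        rw [htr]
        rcases f2_cases hcard (φ ⬝ᵥ w) with h | h
        · exact absurd h ha
        · rcases f2_cases hcard (ψ ⬝ᵥ v) with h' | h'
          · exact absurd h' hb
          · rw [h, h', mul_one]

theorem isRootInvolutionSet [Fintype k] [CharP k 2] (hn : 3 ≤ n) (i j : Fin n) (hij : i ≠ j) :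
    Cfsg.IsRootInvolutionSet (DSet (k := k) i j) := by
  refine ⟨?_, generatesD hn i j hij, ?_, ?_⟩
  · intro d hd
    obtain ⟨v, φ, hv, hφ, h, rfl⟩ := (mem_DSet hn i j hij).mp hd
    exact orderOf_tv v φ hv hφ h 1 one_ne_zero
  · intro d hd g
    obtain ⟨v, φ, hv, hφ, h, rfl⟩ := (mem_DSet hn i j hij).mp hd
    rw [conj_tv g v φ h]
    exact tv_mem_DSet hn i j hij _ _ (act_ne_zero g v hv) (ract_ne_zero φ _ hφ) (flag_conj g v φ h) 1
      one_ne_zero
  · intro a ha b hb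
    obtain ⟨v, φ, hv, hφ, h1, rfl⟩ := (mem_DSet hn i j hij).mp ha
    obtain ⟨w, ψ, hw, hψ, h2, rfl⟩ := (mem_DSet hn i j hij).mp hb
    rcases pair_cases hn i j hij v φ w ψ h1 h2 hv hw hφ hψ with h | h | h
    · exact Or.inl h
    · exact Or.inr (Or.inl h.1)
    · exact Or.inr (Or.inr h)

theorem isRootInvolutionClass [Fintype k] [CharP k 2] (hn : 3 ≤ n) (i j : Fin n) (hij : i ≠ j) :
    Cfsg.IsRootInvolutionClass (DSet (k := k) i j) := by
  refine ⟨isRootInvolutionSet hn i j hij, ?_, ?_⟩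
  · exact ⟨_, tv_mem_DSet hn i j hij _ _ (ee_ne_zero i) (ee_ne_zero j) (ee_dot_ee i j hij) 1 one_ne_zero⟩
  · intro a ha b hb
    obtain ⟨v, φ, hv, hφ, h1, rfl⟩ := (mem_DSet hn i j hij).mp ha
    obtain ⟨w, ψ, hw, hψ, h2, rfl⟩ := (mem_DSet hn i j hij).mp hb
    obtain ⟨g₁, hg₁⟩ := exists_conj hn i j hij v φ hv hφ h1
    obtain ⟨g₂, hg₂⟩ := exists_conj hn i j hij w ψ hw hψ h2
    refine ⟨g₂ * g₁⁻¹, ?_⟩
    rw [hg₁, hg₂]
    group

theorem isThreeFour [Fintype k] [CharP k 2] (hn : 3 ≤ n) (i j : Fin n) (hij : i ≠ j)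
    (hcard : Fintype.card k = 2) : Cfsg.IsThreeFourPlusTranspositionSet (DSet (k := k) i j) := by
  refine ⟨isRootInvolutionSet hn i j hij, ?_⟩
  intro a ha b hb hodd
  obtain ⟨v, φ, hv, hφ, h1, rfl⟩ := (mem_DSet hn i j hij).mp ha
  obtain ⟨w, ψ, hw, hψ, h2, rfl⟩ := (mem_DSet hn i j hij).mp hb
  rcases pair_cases hn i j hij v φ w ψ h1 h2 hv hw hφ hψ with h | h | h
  · -- commuting involutions: the product has order dividing 2
    have hsq : (tv v φ (1 : k) * tv w ψ 1) ^ 2 = 1 := by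
      rw [pow_two, mul_assoc, ← mul_assoc (tv w ψ 1), ← h, mul_assoc, tv_sq w ψ h2, mul_one, tv_sq v φ h1]
    have hdvd := orderOf_dvd_of_pow_eq_one hsq
    rcases (Nat.dvd_prime Nat.prime_two).mp hdvd with h' | h'
    · exact Or.inl h'
    · rw [h'] at hodd
      exact absurd hodd (by decide)
  · have hdvd := orderOf_dvd_of_pow_eq_one (h.2 hcard)
    rcases (Nat.dvd_prime Nat.prime_three).mp hdvd with h' | h'
    · exact Or.inl h'
    · exact Or.inr h'
  · rw [h.1] at hodd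
    exact absurd hodd (by decide)

theorem mainInv [Fintype k] [CharP k 2] (hn : 3 ≤ n) (i j : Fin n) (hij : i ≠ j) :
    Cfsg.IsRootInvolutionClass (DSet (k := k) i j) ∧
      (Fintype.card k = 2 → Cfsg.IsThreeFourPlusTranspositionSet (DSet (k := k) i j)) :=
  ⟨isRootInvolutionClass hn i j hij, isThreeFour hn i j hij⟩

end

end Cfsg.Agent.helper29.SLInv
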