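import Mathlib
import Cfsg.Agent.Lib_helper29_SF2
import Cfsg.Agent.Lib_helper29_SF3
import Cfsg.Agent.Lib_helper29_SF4
import Cfsg.Agent.Lib_helper25_Jordan

set_option autoImplicit false
set_option linter.unusedSectionVars false
set_option linter.unusedVariables false
namespace Cfsg.Agent.helper29.SU
open Matrix

variable {F : Type*} [Field F] {n : ℕ}

local notation "VV" => (Fin n → F)

/-- conjugating into the subfield group, with a diagonal commuting map and a rescaling of the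
basis by elements of the subfield -/
theorem sf_conj_diag_scaled (F₀ : Subfield F) (x : Matrix.SpecialLinearGroup (Fin n) F)
    {κ : Type*} [Fintype κ] [DecidableEq κ] (β : Module.Basis κ F VV) (e : κ ≃ Fin n) (c : F)
    (hc : c ≠ 0)
    (hent : ∀ a b, ∃ t : F₀,
      β.repr (Matrix.toLin' (x : Matrix (Fin n) (Fin n) F) (β b)) a = c * (t : F))
    (dd : κ → F)
    (hdd : ∀ a b, β.repr (Matrix.toLin' (x : Matrix (Fin n) (Fin n) F) (β b)) a ≠ 0 →
      dd a = dd b)
    (w : κ → F₀) (hw : ∀ a, w a ≠ 0)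
    (hdet : (∏ b, dd b) * ((∏ b, (w b : F)) * LinearMap.det
      (((Pi.basisFun F (Fin n)).equiv β e.symm : VV ≃ₗ[F] VV) : VV →ₗ[F] VV)) = 1) :
    ∃ P : Matrix.SpecialLinearGroup (Fin n) F, P⁻¹ * x * P ∈
      (Cfsg.Geo.subfieldSubgroup F₀ (1 : GL (Fin n) F)).comap
        (Matrix.SpecialLinearGroup.toGL : Matrix.SpecialLinearGroup (Fin n) F →* GL (Fin n) F) := by
  classical
  have hwF : ∀ a, (w a : F) ≠ 0 := by
    intro a h
    apply hw a
    exact Subtype.ext h
  obtain ⟨wu, hwu⟩ : ∃ wu : κ → Fˣ, ∀ a, ((wu a : Fˣ) : F) = (w a : F) :=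
    ⟨fun a => Units.mk0 (w a : F) (hwF a), fun a => rfl⟩
  obtain ⟨β', hβ'⟩ : ∃ β' : Module.Basis κ F VV, β' = β.unitsSMul wu := ⟨_, rfl⟩
  have hβ'a : ∀ a, β' a = (w a : F) • β a := by
    intro a
    rw [hβ', Module.Basis.unitsSMul_apply, Units.smul_def, hwu]
  have hrepr' : ∀ v a, β'.repr v a = (w a : F)⁻¹ * β.repr v a := by
    intro v a
    rw [hβ', Module.Basis.repr_unitsSMul, Units.smul_def, smul_eq_mul, Units.val_inv_eq_inv_val,
      hwu]
  have hent0 : ∀ a b, β'.repr (Matrix.toLin' (x : Matrix (Fin n) (Fin n) F) (β' b)) a =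
      (w a : F)⁻¹ * ((w b : F) *
        β.repr (Matrix.toLin' (x : Matrix (Fin n) (Fin n) F) (β b)) a) := by
    intro a b
    rw [hrepr', hβ'a, map_smul, map_smul, Finsupp.smul_apply, smul_eq_mul]
  apply SF.sf_conj_diag F₀ x β' e c hc
  · intro a b
    obtain ⟨t, ht⟩ := hent a b
    refine ⟨(w a)⁻¹ * (w b * t), ?_⟩
    rw [hent0, ht]
    push_cast
    ring
  · intro a b h
    apply hdd a b
    intro h0
    apply h
    rw [hent0, h0, mul_zero, mul_zero]
  · obtain ⟨Sc, hSc⟩ : ∃ Sc : VV →ₗ[F] VV,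
        Sc = Matrix.toLin β β (Matrix.diagonal (fun a => (w a : F))) := ⟨_, rfl⟩
    have hScβ : ∀ a, Sc (β a) = (w a : F) • β a := by
      intro a
      rw [hSc, Matrix.toLin_self]
      rw [Finset.sum_eq_single a]
      · rw [Matrix.diagonal_apply_eq]
      · intro j _ hj
        rw [Matrix.diagonal_apply_ne _ hj, zero_smul]
      · intro h
        exact absurd (Finset.mem_univ a) h
    have hcomp : (((Pi.basisFun F (Fin n)).equiv β' e.symm : VV ≃ₗ[F] VV) : VV →ₗ[F] VV) =
        Sc ∘ₗ (((Pi.basisFun F (Fin n)).equiv β e.symm : VV ≃ₗ[F] VV) : VV →ₗ[F] VV) := by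
      apply (Pi.basisFun F (Fin n)).ext
      intro j
      rw [LinearMap.comp_apply, LinearEquiv.coe_coe, LinearEquiv.coe_coe,
        Module.Basis.equiv_apply, Module.Basis.equiv_apply, hScβ, hβ'a]
    rw [hcomp, LinearMap.det_comp, hSc, LinearMap.det_toLin, Matrix.det_diagonal]
    exact hdet

end Cfsg.Agent.helper29.SU
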