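import Mathlib
import Cfsg.Agent.Lib_helper29_SU1

set_option autoImplicit false
set_option linter.unusedSectionVars false
set_option linter.unusedVariables false
namespace Cfsg.Agent.helper29.SU
open Matrix Cfsg.Agent.helper25.Jordan

variable {F : Type*} [Field F] {n : ℕ}

local notation "VV" => (Fin n → F)

/-- a Jordan basis for a nilpotent map of exponent at most three -/
theorem exists_jordan3 (Nx : Module.End F VV) (hN3 : Nx ^ 3 = 0) :
    ∃ (ι : Type) (_ : Fintype ι) (e : ι → ℕ) (β : Module.Basis (Σ i, Fin (e i)) F VV),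
      (∀ i, 1 ≤ e i) ∧ (∀ i, e i ≤ 3) ∧
      (∀ b a, β.repr (Nx (β b)) a = 0 ∨ β.repr (Nx (β b)) a = 1) ∧
      (∀ b a, a.1 ≠ b.1 → β.repr (Nx (β b)) a = 0) := by
  classical
  obtain ⟨ι, hι, e, φ, he1, hφ⟩ := exists_model n VV Nx ⟨3, hN3⟩ (Module.finrank_fin_fun F)
  refine ⟨ι, hι, e, ?_⟩
  have he3 : ∀ i, e i ≤ 3 := by
    intro i
    by_contra hlt
    have h4 : 3 < e i := by omega
    obtain ⟨cc, hcc⟩ : ∃ cc : Md F e, cc = Pi.single i (Pi.single ⟨0, he1 i⟩ 1) := ⟨_, rfl⟩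
    have h1 := model_pow e Nx φ hφ 3 (φ.symm cc)
    rw [hN3, LinearMap.zero_apply, map_zero, LinearEquiv.apply_symm_apply] at h1
    have h2 := congrFun (congrFun h1 i) ⟨3, h4⟩
    rw [shk_apply, dif_pos (by simp)] at h2
    rw [hcc] at h2
    simp at h2
  obtain ⟨β, hβ⟩ : ∃ β : Module.Basis (Σ i, Fin (e i)) F VV,
      β = (Pi.basis (fun i => Pi.basisFun F (Fin (e i)))).map φ.symm := ⟨_, rfl⟩
  have hβφ : ∀ b, φ (β b) = Pi.single b.1 (Pi.single b.2 1) := by
    intro b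
    rw [hβ, Module.Basis.map_apply, LinearEquiv.apply_symm_apply, Pi.basis_apply,
      Pi.basisFun_apply]
  have hrepr : ∀ v a, β.repr v a = φ v a.1 a.2 := by
    intro v a
    rw [hβ, Module.Basis.map_repr, LinearEquiv.trans_apply, LinearEquiv.symm_symm,
      Pi.basis_repr, Pi.basisFun_repr]
  have hδ : ∀ (b : Σ i, Fin (e i)) (i : ι) (j : Fin (e i)),
      (Pi.single b.1 (Pi.single b.2 1) : Md F e) i j = 0 ∨
      (Pi.single b.1 (Pi.single b.2 1) : Md F e) i j = 1 := by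
    rintro ⟨i', j'⟩ i j
    by_cases h : i = i'
    · subst h
      rw [Pi.single_eq_same, Pi.single_apply]
      by_cases h2 : j = j'
      · right
        rw [if_pos h2]
      · left
        rw [if_neg h2]
    · left
      rw [Pi.single_eq_of_ne h]
      rfl
  have hδ0 : ∀ (b : Σ i, Fin (e i)) (i : ι) (j : Fin (e i)), i ≠ b.1 →
      (Pi.single b.1 (Pi.single b.2 1) : Md F e) i j = 0 := by
    intro b i j h
    rw [Pi.single_eq_of_ne h]
    rfl
  have hNrepr : ∀ b a, β.repr (Nx (β b)) a =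
      if h : 1 ≤ (a.2 : ℕ) then (Pi.single b.1 (Pi.single b.2 1) : Md F e) a.1
        ⟨(a.2 : ℕ) - 1, by have := a.2.2; omega⟩ else 0 := by
    intro b a
    rw [hrepr, hφ, hβφ, shk_apply]
  refine ⟨β, he1, he3, ?_, ?_⟩
  · intro b a
    rw [hNrepr]
    by_cases h : 1 ≤ (a.2 : ℕ)
    · rw [dif_pos h]
      exact hδ b _ _
    · rw [dif_neg h]
      left
      rfl
  · intro b a hab
    rw [hNrepr]
    by_cases h : 1 ≤ (a.2 : ℕ)
    · rw [dif_pos h]
      exact hδ0 b _ _ hab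
    · rw [dif_neg h]

end Cfsg.Agent.helper29.SU
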