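import Mathlib
import Cfsg.Agent.Lib_helper29_SU2

set_option autoImplicit false
set_option linter.unusedSectionVars false
set_option linter.unusedVariables false
namespace Cfsg.Agent.helper29.SU
open Matrix

variable {F : Type*} [Field F] {n : ℕ}

local notation "VV" => (Fin n → F)
local notation "MM" => Matrix (Fin n) (Fin n) F

/-- elements whose cube is scalar are conjugate into the subfield group, in characteristic three,
when `n` is odd or the nonzero elements are squares times elements of the subfield -/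
theorem su_conj [Fintype F] [CharP F 3] (F₀ : Subfield F) (hn : 1 ≤ n)
    (hcase : Odd n ∨ ∀ t : F, t ≠ 0 → ∃ (s : F) (a : F₀), a ≠ 0 ∧ t = s * s * (a : F))
    (x : Matrix.SpecialLinearGroup (Fin n) F) (z : F)
    (hx3 : ((x ^ 3 : Matrix.SpecialLinearGroup (Fin n) F) : MM) = z • (1 : MM))
    (hns : ∀ c : F, (x : MM) ≠ c • (1 : MM)) :
    ∃ P : Matrix.SpecialLinearGroup (Fin n) F, P⁻¹ * x * P ∈
      (Cfsg.Geo.subfieldSubgroup F₀ (1 : GL (Fin n) F)).comap
        (Matrix.SpecialLinearGroup.toGL : Matrix.SpecialLinearGroup (Fin n) F →* GL (Fin n) F) := by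
  classical
  haveI : Nonempty (Fin n) := ⟨⟨0, by omega⟩⟩
  haveI : Fact (Nat.Prime 3) := ⟨Nat.prime_three⟩
  obtain ⟨A, hA⟩ : ∃ A : MM, A = (x : MM) := ⟨_, rfl⟩
  have hA3 : A ^ 3 = z • (1 : MM) := by
    rw [hA, ← Matrix.SpecialLinearGroup.coe_pow]
    exact hx3
  have hz : z ≠ 0 := by
    intro h0
    have h1 : (A ^ 3).det = 1 := by rw [Matrix.det_pow, hA, x.2, one_pow]
    rw [hA3, h0, zero_smul, Matrix.det_zero] at h1
    exact zero_ne_one h1
  obtain ⟨c, hc⟩ := surjective_frobenius F 3 z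
  rw [frobenius_def] at hc
  have hc0 : c ≠ 0 := by
    rintro rfl
    rw [zero_pow (by norm_num)] at hc
    exact hz hc.symm
  obtain ⟨M, hM⟩ : ∃ M : MM, M = c⁻¹ • A - 1 := ⟨_, rfl⟩
  have hM3 : M ^ 3 = 0 := by
    rw [hM, sub_pow_char_of_commute (R := MM) 3 (Commute.one_right _), one_pow, smul_pow, hA3,
      smul_smul, inv_pow, hc, inv_mul_cancel₀ hz, one_smul, sub_self]
  obtain ⟨Nx, hNx⟩ : ∃ Nx : Module.End F VV, Nx = Matrix.toLinAlgEquiv' M := ⟨_, rfl⟩
  have hNxv : ∀ v, Nx v = M *ᵥ v := by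
    intro v
    rw [hNx, Matrix.toLinAlgEquiv'_apply]
  have hN3 : Nx ^ 3 = 0 := by
    rw [hNx, ← map_pow, hM3, map_zero]
  have hxN : ∀ v, Matrix.toLin' (x : MM) v = c • v + c • Nx v := by
    intro v
    rw [hNxv, hM, ← hA, Matrix.toLin'_apply, Matrix.sub_mulVec, Matrix.smul_mulVec,
      Matrix.one_mulVec, smul_sub, smul_smul, mul_inv_cancel₀ hc0, one_smul]
    abel
  obtain ⟨ι, hι, e, β, he1, he3, h01, hblk⟩ := exists_jordan3 Nx hN3
  have hentry : ∀ a b, β.repr (Matrix.toLin' (x : MM) (β b)) a =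
      c * ((if b = a then 1 else 0) + β.repr (Nx (β b)) a) := by
    intro a b
    rw [hxN, map_add, map_smul, map_smul, Module.Basis.repr_self, Finsupp.add_apply,
      Finsupp.smul_apply, Finsupp.smul_apply, Finsupp.single_apply, smul_eq_mul, smul_eq_mul]
    ring
  have hent : ∀ a b, ∃ t : F₀, β.repr (Matrix.toLin' (x : MM) (β b)) a = c * (t : F) := by
    intro a b
    rcases h01 b a with h | h
    · refine ⟨(if b = a then 1 else 0) + 0, ?_⟩
      rw [hentry, h]
      by_cases hab : b = a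
      · rw [if_pos hab, if_pos hab]
        push_cast
        rfl
      · rw [if_neg hab, if_neg hab]
        push_cast
        rfl
    · refine ⟨(if b = a then 1 else 0) + 1, ?_⟩
      rw [hentry, h]
      by_cases hab : b = a
      · rw [if_pos hab, if_pos hab]
        push_cast
        rfl
      · rw [if_neg hab, if_neg hab]
        push_cast
        rfl
  have hblock : ∀ a b, β.repr (Matrix.toLin' (x : MM) (β b)) a ≠ 0 → a.1 = b.1 := by
    intro a b h
    by_contra hab
    apply h
    have hne : b ≠ a := by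
      rintro rfl
      exact hab rfl
    rw [hentry, if_neg hne, hblk b a hab, add_zero, mul_zero]
  have hcard : Fintype.card (Σ i, Fin (e i)) = n := by
    rw [← Module.finrank_eq_card_basis β, Module.finrank_fin_fun]
  obtain ⟨e'⟩ : Nonempty ((Σ i, Fin (e i)) ≃ Fin n) :=
    Fintype.card_eq.mp (by rw [hcard, Fintype.card_fin])
  obtain ⟨D, hD⟩ : ∃ D : F, D = LinearMap.det
      (((Pi.basisFun F (Fin n)).equiv β e'.symm : VV ≃ₗ[F] VV) : VV →ₗ[F] VV) := ⟨_, rfl⟩
  have hD0 : D ≠ 0 := by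
    rw [hD]
    exact (LinearEquiv.isUnit_det' _).ne_zero
  have key : ∀ (i₀ : ι) (s : F) (w : (Σ i, Fin (e i)) → F₀) (hw : ∀ a, w a ≠ 0),
      s ^ (e i₀) * ((∏ b, (w b : F)) * D) = 1 →
      ∃ P : Matrix.SpecialLinearGroup (Fin n) F, P⁻¹ * x * P ∈
        (Cfsg.Geo.subfieldSubgroup F₀ (1 : GL (Fin n) F)).comap
          (Matrix.SpecialLinearGroup.toGL :
            Matrix.SpecialLinearGroup (Fin n) F →* GL (Fin n) F) := by
    intro i₀ s w hw hkey
    apply sf_conj_diag_scaled F₀ x β e' c hc0 hent (fun a => if a.1 = i₀ then s else 1) ?_ w hw ?_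
    · intro a b h
      show (if a.1 = i₀ then s else 1) = (if b.1 = i₀ then s else 1)
      rw [hblock a b h]
    · have hprod : ∏ b : (Σ i, Fin (e i)), (if b.1 = i₀ then s else 1) = s ^ (e i₀) := by
        rw [Fintype.prod_sigma]
        have h1 : ∀ a : ι, ∏ j : Fin (e a), (if (⟨a, j⟩ : Σ i, Fin (e i)).1 = i₀ then s else (1 : F))
            = if a = i₀ then s ^ (e i₀) else 1 := by
          intro a
          by_cases h : a = i₀
          · subst h
            simp
          · simp [h]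
        rw [Finset.prod_congr rfl (fun a _ => h1 a),
          Fintype.prod_eq_single i₀ (fun a ha => if_neg ha), if_pos rfl]
      rw [hprod, ← hD]
      exact hkey
  by_cases h1 : ∃ i, e i = 1
  · obtain ⟨i₀, hi₀⟩ := h1
    apply key i₀ D⁻¹ (fun _ => 1) (fun _ => one_ne_zero)
    rw [hi₀, pow_one]
    simp [hD0]
  by_cases h3 : ∃ i, e i = 3
  · obtain ⟨i₀, hi₀⟩ := h3
    obtain ⟨s, hs⟩ := surjective_frobenius F 3 D⁻¹
    rw [frobenius_def] at hs
    apply key i₀ s (fun _ => 1) (fun _ => one_ne_zero)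
    rw [hi₀, hs]
    simp [hD0]
  · push_neg at h1 h3
    have he2 : ∀ i, e i = 2 := by
      intro i
      have := he1 i
      have := he3 i
      have := h1 i
      have := h3 i
      omega
    have hn2 : n = 2 * Fintype.card ι := by
      rw [← hcard, Fintype.card_sigma]
      simp [he2, mul_comm]
    have hdec : ∀ t : F, t ≠ 0 → ∃ (s : F) (a : F₀), a ≠ 0 ∧ t = s * s * (a : F) := by
      rcases hcase with h | h
      · exfalso
        rcases h with ⟨t, ht⟩
        omega
      · exact h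
    obtain ⟨s, a, ha, hsa⟩ := hdec D⁻¹ (inv_ne_zero hD0)
    have hιpos : 0 < Fintype.card ι := by omega
    obtain ⟨i₀⟩ := Fintype.card_pos_iff.mp hιpos
    obtain ⟨b₀, hb₀⟩ : ∃ b₀ : (Σ i, Fin (e i)), b₀ = ⟨i₀, ⟨0, he1 i₀⟩⟩ := ⟨_, rfl⟩
    apply key i₀ s (fun b => if b = b₀ then a else 1)
    · intro b
      by_cases h : b = b₀
      · rw [if_pos h]
        exact ha
      · rw [if_neg h]
        exact one_ne_zero
    · have hprod : ∏ b : (Σ i, Fin (e i)), (((if b = b₀ then a else 1 : F₀)) : F) = (a : F) := by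
        rw [Fintype.prod_eq_single b₀, if_pos rfl]
        intro b hb
        rw [if_neg hb]
        rfl
      rw [hprod, he2]
      have : s ^ 2 * ((a : F) * D) = (s * s * (a : F)) * D := by ring
      rw [this, ← hsa, inv_mul_cancel₀ hD0]

end Cfsg.Agent.helper29.SU
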