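import Mathlib
import Cfsg.Agent.Lib_helper29_SU3

set_option autoImplicit false
set_option linter.unusedSectionVars false
set_option linter.unusedVariables false
namespace Cfsg.Agent.helper29.SU
open Matrix

variable {F : Type*} [Field F] {n : ℕ}

/-- over a subfield of odd degree, every nonzero element is a square times an element of the
subfield -/
theorem dec_of_odd_degree [Fintype F] (hchar : (2 : F) ≠ 0) (F₀ : Subfield F) {q q₀ k : ℕ}
    (hq : Fintype.card F = q) (hF₀ : Nat.card ↥F₀ = q₀) (hqk : q = q₀ ^ k) (hk : Odd k) :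
    ∀ t : F, t ≠ 0 → ∃ (s : F) (a : F₀), a ≠ 0 ∧ t = s * s * (a : F) := by
  classical
  have hrc := SF.ringChar_ne_two hchar
  haveI : Fintype ↥F₀ := Fintype.ofFinite _
  have hcard₀ : Fintype.card ↥F₀ = q₀ := by
    rw [← Nat.card_eq_fintype_card]
    exact hF₀
  have hchar₀ : (2 : F₀) ≠ 0 := by
    intro h
    apply hchar
    have h2 : ((2 : F₀) : F) = ((0 : F₀) : F) := by rw [h]
    push_cast at h2
    exact h2
  have hrc₀ := SF.ringChar_ne_two hchar₀
  have hqodd : q % 2 = 1 := by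
    rw [← hq]
    exact FiniteField.odd_card_of_char_ne_two hrc
  have hq₀odd : q₀ % 2 = 1 := by
    rw [← hcard₀]
    exact FiniteField.odd_card_of_char_ne_two hrc₀
  have hq₀1 : 1 ≤ q₀ := by omega
  obtain ⟨S, hS⟩ : ∃ S, S = ∑ t ∈ Finset.range k, q₀ ^ t := ⟨_, rfl⟩
  have hSodd : Odd S := by
    rw [hS]
    exact SF.odd_geom_sum q₀ k (Nat.odd_iff.mpr hq₀odd) hk
  have hgeom : q - 1 = (q₀ - 1) * S := by
    rw [hqk, hS]
    exact SF.geom_sub_one q₀ k hq₀1
  have hhalf : q / 2 = (q₀ / 2) * S := by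
    have h1 : q₀ - 1 = 2 * (q₀ / 2) := by omega
    rw [h1] at hgeom
    have h2 : q = 2 * (q₀ / 2 * S) + 1 := by
      have : 1 ≤ q := by omega
      rw [mul_assoc] at hgeom
      omega
    omega
  obtain ⟨a₀, ha₀⟩ := FiniteField.exists_nonsquare hrc₀
  have ha₀0 : a₀ ≠ 0 := by
    rintro rfl
    exact ha₀ ⟨0, by simp⟩
  have ha₀F : (a₀ : F) ≠ 0 := by
    intro h
    apply ha₀0
    exact Subtype.ext h
  have hpow₀ : a₀ ^ (q₀ / 2) = -1 := by
    rcases FiniteField.pow_dichotomy hrc₀ ha₀0 with h | h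
    · exfalso
      apply ha₀
      rw [FiniteField.isSquare_iff hrc₀ ha₀0]
      exact h
    · rw [hcard₀] at h
      exact h
  have hpowF : (a₀ : F) ^ (q / 2) = -1 := by
    have h1 : (a₀ : F) ^ (q₀ / 2) = -1 := by
      have h2 : ((a₀ ^ (q₀ / 2) : F₀) : F) = ((-1 : F₀) : F) := by rw [hpow₀]
      push_cast at h2
      exact h2
    rw [hhalf, pow_mul, h1]
    exact hSodd.neg_one_pow
  intro t ht
  by_cases hsq : IsSquare t
  · obtain ⟨s, hs⟩ := hsq
    refine ⟨s, 1, one_ne_zero, ?_⟩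
    rw [hs]
    simp
  · have htp : t ^ (q / 2) = -1 := by
      rcases FiniteField.pow_dichotomy hrc ht with h | h
      · exfalso
        apply hsq
        rw [FiniteField.isSquare_iff hrc ht]
        exact h
      · rw [hq] at h
        exact h
    have hsq2 : IsSquare (t / (a₀ : F)) := by
      rw [FiniteField.isSquare_iff hrc (div_ne_zero ht ha₀F), hq, div_pow, htp, hpowF]
      simp
    obtain ⟨s, hs⟩ := hsq2
    refine ⟨s, a₀, ha₀0, ?_⟩
    rw [← hs]
    field_simp

end Cfsg.Agent.helper29.SU
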