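import Mathlib
import Cfsg.Agent.Lib_helper29_SU1

set_option autoImplicit false
set_option linter.unusedSectionVars false
set_option linter.unusedVariables false
namespace Cfsg.Agent.helper29.SU
open Matrix

variable {F : Type*} [Field F] {n : ℕ}

/-- a matrix with independent rows has an invertible square submatrix of columns -/
theorem exists_cols (m : ℕ) {κ : Type*} [Fintype κ] [DecidableEq κ] (Q₂ : Matrix (Fin m) κ F)
    (R₂ : Matrix κ (Fin m) F) (h : Q₂ * R₂ = 1) :
    ∃ v : Fin m → κ, (Q₂ * Matrix.of (fun a i => if a = v i then (1 : F) else 0)).det ≠ 0 := by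
  classical
  by_contra hall
  push_neg at hall
  obtain ⟨f, hf⟩ : ∃ f : MultilinearMap F (fun _ : Fin m => κ → F) F,
      f = (Matrix.detRowAlternating (n := Fin m) (R := F)).toMultilinearMap.compLinearMap
        (fun _ => Matrix.mulVecLin Q₂) := ⟨_, rfl⟩
  have hfv : ∀ w : Fin m → κ → F, f w = Matrix.det (Matrix.of (fun i => Q₂ *ᵥ w i)) := by
    intro w
    rw [hf]
    rfl
  have hf0 : f = 0 := by
    apply Module.Basis.ext_multilinear (fun _ => Pi.basisFun F κ)
    intro v
    rw [MultilinearMap.zero_apply, hfv]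
    have e : Matrix.of (fun i => Q₂ *ᵥ (Pi.basisFun F κ) (v i)) =
        (Q₂ * Matrix.of (fun a i => if a = v i then (1 : F) else 0))ᵀ := by
      ext i j
      rw [Matrix.of_apply, Pi.basisFun_apply, Matrix.mulVec_single_one, Matrix.transpose_apply,
        Matrix.mul_apply]
      simp
    rw [e, Matrix.det_transpose]
    exact hall v
  have h1 := hfv (fun i a => R₂ a i)
  rw [hf0, MultilinearMap.zero_apply] at h1
  have e : Matrix.of (fun i => Q₂ *ᵥ (fun a => R₂ a i)) = (Q₂ * R₂)ᵀ := by
    ext i j
    rw [Matrix.of_apply, Matrix.transpose_apply, Matrix.mul_apply]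
    rfl
  rw [e, h, Matrix.transpose_one, Matrix.det_one] at h1
  exact zero_ne_one h1

/-- the scalar of a unipotent-type element of the subfield group lies in the subfield -/
theorem scalar_in_subfield {κ : Type*} [Fintype κ] [DecidableEq κ] (F₀ : Subfield F)
    (hchar : (2 : F) ≠ 0) (s : F) (hs : s ≠ 0) (A₁ : Matrix κ κ F₀)
    (hsq0 : (s • A₁.map (F₀.subtype : F₀ →+* F) - 1) * (s • A₁.map (F₀.subtype : F₀ →+* F) - 1) = 0)
    (hne : s • A₁.map (F₀.subtype : F₀ →+* F) ≠ 1) : ∃ s₀ : F₀, (s₀ : F) = s := by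
  classical
  obtain ⟨A, hA⟩ : ∃ A : Matrix κ κ F, A = A₁.map (F₀.subtype : F₀ →+* F) := ⟨_, rfl⟩
  rw [← hA] at hsq0 hne
  have hAv : ∀ i j, A i j = (A₁ i j : F) := by
    intro i j
    rw [hA]
    rfl
  have hAAv : ∀ i j, (A * A) i j = ((A₁ * A₁) i j : F) := by
    intro i j
    rw [hA, ← Matrix.map_mul]
    rfl
  have e : (s • A - 1) * (s • A - 1) = (s * s) • (A * A) - (2 * s) • A + 1 := by
    rw [Matrix.sub_mul, Matrix.mul_sub, Matrix.mul_sub, Matrix.smul_mul, Matrix.mul_smul,
      Matrix.smul_mul, Matrix.one_mul, Matrix.mul_one, Matrix.one_mul, smul_smul, two_mul,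
      add_smul]
    abel
  rw [e] at hsq0
  have hent : ∀ i j, s * s * (A * A) i j - 2 * s * A i j + (1 : Matrix κ κ F) i j = 0 := by
    intro i j
    have := congrFun (congrFun hsq0 i) j
    rw [Matrix.add_apply, Matrix.sub_apply, Matrix.smul_apply, Matrix.smul_apply, smul_eq_mul,
      smul_eq_mul, Matrix.zero_apply] at this
    exact this
  by_cases hoff : ∃ i j, i ≠ j ∧ A₁ i j ≠ 0
  · obtain ⟨i, j, hij, ha⟩ := hoff
    have haF : (A₁ i j : F) ≠ 0 := by
      intro h0
      apply ha
      exact Subtype.ext h0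
    have h1 := hent i j
    rw [Matrix.one_apply_ne hij, add_zero, hAv, hAAv] at h1
    have h2 : s * (s * ((A₁ * A₁) i j : F) - 2 * (A₁ i j : F)) = 0 := by
      linear_combination h1
    have h3 : s * ((A₁ * A₁) i j : F) = 2 * (A₁ i j : F) := by
      rcases mul_eq_zero.mp h2 with h | h
      · exact absurd h hs
      · exact sub_eq_zero.mp h
    have hb : ((A₁ * A₁) i j : F) ≠ 0 := by
      intro h0
      rw [h0, mul_zero] at h3
      exact (mul_ne_zero hchar haF) h3.symm
    refine ⟨2 * A₁ i j / (A₁ * A₁) i j, ?_⟩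
    push_cast
    rw [div_eq_iff hb]
    exact h3.symm
  · push_neg at hoff
    exfalso
    apply hne
    ext i j
    rw [Matrix.smul_apply, smul_eq_mul]
    by_cases hij : i = j
    · subst hij
      rw [Matrix.one_apply_eq]
      have h1 := hent i i
      have hAA : (A * A) i i = A i i * A i i := by
        rw [Matrix.mul_apply, Finset.sum_eq_single i]
        · intro l _ hl
          rw [hAv i l, hoff i l (Ne.symm hl)]
          simp
        · intro h
          exact absurd (Finset.mem_univ i) h
      rw [Matrix.one_apply_eq, hAA] at h1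
      have h2 : (s * A i i - 1) * (s * A i i - 1) = 0 := by linear_combination h1
      exact sub_eq_zero.mp (mul_self_eq_zero.mp h2)
    · rw [Matrix.one_apply_ne hij, hAv, hoff i j hij]
      simp

end Cfsg.Agent.helper29.SU
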