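import Mathlib
import Cfsg.Agent.Lib_helper29_SU5

set_option autoImplicit false
set_option linter.unusedSectionVars false
set_option linter.unusedVariables false
namespace Cfsg.Agent.helper29.SU
open Matrix

variable {F : Type*} [Field F] {n : ℕ}

/-- a unipotent element with nonsquare discriminant has no unimodular conjugate in the subfield
group of a subfield consisting of squares -/
theorem no_conj_blocks (F₀ : Subfield F) (hsq : ∀ t : F₀, IsSquare (t : F)) (hchar : (2 : F) ≠ 0)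
    (τ : F) (hτ : ¬ IsSquare τ) (m : ℕ) (hm : 1 ≤ m) (D : Matrix (Fin m) (Fin m) F)
    (hD : D.det = τ)
    (Q Q' : Matrix (Fin m ⊕ Fin m) (Fin m ⊕ Fin m) F) (hQ'Q : Q' * Q = 1) (hQQ' : Q * Q' = 1)
    (hdetQ' : Q'.det = 1) (s : F) (hs : s ≠ 0)
    (A₁ : Matrix (Fin m ⊕ Fin m) (Fin m ⊕ Fin m) F₀)
    (h : Q' * Matrix.fromBlocks 1 D 0 1 * Q = s • A₁.map (F₀.subtype : F₀ →+* F)) : False := by
  classical
  haveI : Nonempty (Fin m) := ⟨⟨0, by omega⟩⟩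
  have hτ0 : τ ≠ 0 := by
    rintro rfl
    exact hτ ⟨0, by simp⟩
  obtain ⟨N₀, hN₀⟩ : ∃ N₀ : Matrix (Fin m ⊕ Fin m) (Fin m ⊕ Fin m) F,
      N₀ = Matrix.fromBlocks 0 D 0 0 := ⟨_, rfl⟩
  have hX : Matrix.fromBlocks (1 : Matrix (Fin m) (Fin m) F) D 0 1 = 1 + N₀ := by
    rw [hN₀, ← Matrix.fromBlocks_one, Matrix.fromBlocks_add]
    simp
  have hNN : N₀ * N₀ = 0 := by
    rw [hN₀, Matrix.fromBlocks_multiply]
    simp
  obtain ⟨A, hA⟩ : ∃ A : Matrix (Fin m ⊕ Fin m) (Fin m ⊕ Fin m) F,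
      A = A₁.map (F₀.subtype : F₀ →+* F) := ⟨_, rfl⟩
  rw [← hA] at h
  have hY : s • A - 1 = Q' * N₀ * Q := by
    rw [← h, hX, Matrix.mul_add, Matrix.add_mul, Matrix.mul_one, hQ'Q, add_sub_cancel_left]
  have hsq0 : (s • A - 1) * (s • A - 1) = 0 := by
    rw [hY]
    calc Q' * N₀ * Q * (Q' * N₀ * Q) = Q' * (N₀ * (Q * Q') * N₀) * Q := by
          simp only [Matrix.mul_assoc]
      _ = 0 := by rw [hQQ', Matrix.mul_one, hNN, Matrix.mul_zero, Matrix.zero_mul]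
  have hne : s • A ≠ 1 := by
    intro h1
    rw [h1, sub_self] at hY
    have hN0 : N₀ = 0 := by
      calc N₀ = (Q * Q') * N₀ * (Q * Q') := by rw [hQQ', Matrix.one_mul, Matrix.mul_one]
        _ = Q * (Q' * N₀ * Q) * Q' := by simp only [Matrix.mul_assoc]
        _ = 0 := by rw [← hY, Matrix.mul_zero, Matrix.zero_mul]
    have hD0 : D = 0 := by
      have := congrArg Matrix.toBlocks₁₂ hN0
      rw [hN₀, Matrix.toBlocks_fromBlocks₁₂] at this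
      rw [this]
      rfl
    rw [hD0, Matrix.det_zero] at hD
    exact hτ0 hD.symm
  rw [hA] at hsq0 hne
  obtain ⟨s₀, hs₀⟩ := scalar_in_subfield F₀ hchar s hs A₁ hsq0 hne
  rw [← hA] at hsq0 hne
  obtain ⟨M₀, hM₀⟩ : ∃ M₀ : Matrix (Fin m ⊕ Fin m) (Fin m ⊕ Fin m) F₀, M₀ = s₀ • A₁ - 1 :=
    ⟨_, rfl⟩
  have hM₀map : M₀.map (F₀.subtype : F₀ →+* F) = Q' * N₀ * Q := by
    rw [← hY, hM₀, hA]
    ext i j
    rw [Matrix.map_apply, Matrix.sub_apply, Matrix.sub_apply, Matrix.smul_apply,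
      Matrix.smul_apply, Matrix.map_apply, map_sub, smul_eq_mul, smul_eq_mul, map_mul]
    congr 1
    · congr 1
    · by_cases hij : i = j
      · subst hij
        rw [Matrix.one_apply_eq, Matrix.one_apply_eq, map_one]
      · rw [Matrix.one_apply_ne hij, Matrix.one_apply_ne hij, map_zero]
  -- selecting columns
  obtain ⟨Q₂, hQ₂⟩ : ∃ Q₂ : Matrix (Fin m) (Fin m ⊕ Fin m) F, Q₂ = Q.toRows₂ := ⟨_, rfl⟩
  obtain ⟨R₂, hR₂⟩ : ∃ R₂ : Matrix (Fin m ⊕ Fin m) (Fin m) F, R₂ = Q'.toCols₂ := ⟨_, rfl⟩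
  have h22 : Q₂ * R₂ = 1 := by
    ext i j
    have := congrFun (congrFun hQQ' (Sum.inr i)) (Sum.inr j)
    rw [Matrix.mul_apply] at this
    rw [Matrix.mul_apply, hQ₂, hR₂]
    simp only [Matrix.toRows₂_apply, Matrix.toCols₂_apply]
    rw [this, Matrix.one_apply, Matrix.one_apply]
    simp
  obtain ⟨v, hv⟩ := exists_cols m Q₂ R₂ h22
  obtain ⟨W₀, hW₀⟩ : ∃ W₀ : Matrix (Fin m ⊕ Fin m) (Fin m) F₀,
      W₀ = Matrix.of (fun a i => if a = v i then (1 : F₀) else 0) := ⟨_, rfl⟩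
  obtain ⟨Wm, hWm⟩ : ∃ Wm : Matrix (Fin m ⊕ Fin m) (Fin m) F,
      Wm = Matrix.of (fun a i => if a = v i then (1 : F) else 0) := ⟨_, rfl⟩
  have hW₀map : W₀.map (F₀.subtype : F₀ →+* F) = Wm := by
    rw [hW₀, hWm]
    ext a i
    rw [Matrix.map_apply, Matrix.of_apply, Matrix.of_apply]
    by_cases hai : a = v i
    · rw [if_pos hai, if_pos hai, map_one]
    · rw [if_neg hai, if_neg hai, map_zero]
  rw [← hWm] at hv
  obtain ⟨Z₀, hZ₀⟩ : ∃ Z₀ : Matrix (Fin m ⊕ Fin m) (Fin m ⊕ Fin m) F₀,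
      Z₀ = Matrix.fromCols (M₀ * W₀) W₀ := ⟨_, rfl⟩
  obtain ⟨Yw, hYw⟩ : ∃ Yw : Matrix (Fin m ⊕ Fin m) (Fin m) F, Yw = Q * Wm := ⟨_, rfl⟩
  have hWQ : Wm = Q' * Yw := by
    rw [hYw, ← Matrix.mul_assoc, hQ'Q, Matrix.one_mul]
  have hY₂ : Yw.toRows₂ = Q₂ * Wm := by
    rw [hYw, hQ₂]
    ext i j
    rw [Matrix.toRows₂_apply, Matrix.mul_apply, Matrix.mul_apply]
    rfl
  have hZmap : Z₀.map (F₀.subtype : F₀ →+* F) =
      Q' * Matrix.fromBlocks (D * Yw.toRows₂) Yw.toRows₁ 0 Yw.toRows₂ := by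
    rw [hZ₀, Matrix.fromCols_map, Matrix.map_mul, hM₀map, hW₀map]
    have e1 : Q' * N₀ * Q * Wm = Q' * (N₀ * Yw) := by
      rw [hYw]
      simp only [Matrix.mul_assoc]
    have e2 : N₀ * Yw = Matrix.fromRows (D * Yw.toRows₂) 0 := by
      nth_rewrite 1 [← Matrix.fromRows_toRows Yw]
      rw [hN₀, Matrix.fromBlocks_mul_fromRows]
      simp
    rw [e1, hWQ, ← Matrix.mul_fromCols, e2]
    nth_rewrite 2 [← Matrix.fromRows_toRows Yw]
    rw [Matrix.fromCols_fromRows_eq_fromBlocks]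
  have hdet : ((Z₀.det : F₀) : F) = τ * (Yw.toRows₂.det * Yw.toRows₂.det) := by
    have h1 : ((Z₀.det : F₀) : F) = (Z₀.map (F₀.subtype : F₀ →+* F)).det := by
      have := RingHom.map_det (F₀.subtype : F₀ →+* F) Z₀
      rw [RingHom.mapMatrix_apply] at this
      exact this
    rw [h1, hZmap, Matrix.det_mul, hdetQ', one_mul, Matrix.det_fromBlocks_zero₂₁, Matrix.det_mul,
      hD]
    ring
  rw [hY₂] at hdet
  obtain ⟨g, hg⟩ := hsq Z₀.det
  apply hτ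
  refine ⟨g / (Q₂ * Wm).det, ?_⟩
  field_simp
  rw [pow_two g, ← hg, hdet]
  ring

end Cfsg.Agent.helper29.SU
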