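import Mathlib
import Cfsg.Agent.Lib_helper29_SU6

set_option autoImplicit false
set_option linter.unusedSectionVars false
set_option linter.unusedVariables false
namespace Cfsg.Agent.helper29.SU
open Matrix

variable {F : Type*} [Field F] {n : ℕ}

local notation "MM" => Matrix (Fin n) (Fin n) F

/-- a unipotent element of order three with no conjugate in the subfield group -/
theorem su_bad_element [CharP F 3] (F₀ : Subfield F) (hsq : ∀ t : F₀, IsSquare (t : F))
    (τ : F) (hτ : ¬ IsSquare τ) (m : ℕ) (hn : n = m + m) (hm : 1 ≤ m) :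
    ∃ x : Matrix.SpecialLinearGroup (Fin n) F,
      (∃ z' : F, ((x ^ 3 : Matrix.SpecialLinearGroup (Fin n) F) : MM) = z' • (1 : MM)) ∧
      (∀ c : F, (x : MM) ≠ c • (1 : MM)) ∧
      ¬ ∃ P : Matrix.SpecialLinearGroup (Fin n) F, P⁻¹ * x * P ∈
        (Cfsg.Geo.subfieldSubgroup F₀ (1 : GL (Fin n) F)).comap
          (Matrix.SpecialLinearGroup.toGL :
            Matrix.SpecialLinearGroup (Fin n) F →* GL (Fin n) F) := by
  classical
  have h3F : (3 : F) = 0 := by exact_mod_cast CharP.cast_eq_zero F 3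
  have hchar : (2 : F) ≠ 0 := by
    intro h
    have h1 : (1 : F) = 0 := by linear_combination h3F - h
    exact one_ne_zero h1
  have hτ0 : τ ≠ 0 := by
    rintro rfl
    exact hτ ⟨0, by simp⟩
  obtain ⟨i0, -⟩ : ∃ i0 : Fin m, True := ⟨⟨0, hm⟩, trivial⟩
  obtain ⟨D, hDd⟩ : ∃ D : Matrix (Fin m) (Fin m) F,
      D = Matrix.diagonal (fun i => if i = i0 then τ else 1) := ⟨_, rfl⟩
  have hD : D.det = τ := by
    rw [hDd, Matrix.det_diagonal, Fintype.prod_eq_single i0 (fun i hi => if_neg hi), if_pos rfl]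
  have hD3 : D + D + D = 0 := by
    ext i j
    simp only [Matrix.add_apply, Matrix.zero_apply]
    linear_combination (D i j) * h3F
  obtain ⟨X₀, hX₀⟩ : ∃ X₀ : Matrix (Fin m ⊕ Fin m) (Fin m ⊕ Fin m) F,
      X₀ = Matrix.fromBlocks 1 D 0 1 := ⟨_, rfl⟩
  have hX₀det : X₀.det = 1 := by
    rw [hX₀, Matrix.det_fromBlocks_zero₂₁, Matrix.det_one, one_mul]
  have hX₀3 : X₀ * X₀ * X₀ = 1 := by
    rw [hX₀, Matrix.fromBlocks_multiply, Matrix.fromBlocks_multiply]
    simp only [Matrix.one_mul, Matrix.mul_one, Matrix.zero_mul, Matrix.mul_zero, add_zero,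
      zero_add]
    rw [add_comm D (D + D), hD3, Matrix.fromBlocks_one]
  obtain ⟨e, -⟩ : ∃ e : Fin m ⊕ Fin m ≃ Fin n, True :=
    ⟨finSumFinEquiv.trans (finCongr hn.symm), trivial⟩
  obtain ⟨Xn, hXn⟩ : ∃ Xn : MM, Xn = X₀.submatrix e.symm e.symm := ⟨_, rfl⟩
  have hXdet : Xn.det = 1 := by
    rw [hXn, Matrix.det_submatrix_equiv_self, hX₀det]
  have hXn3 : Xn * Xn * Xn = 1 := by
    rw [hXn, Matrix.submatrix_mul_equiv, Matrix.submatrix_mul_equiv, hX₀3,
      Matrix.submatrix_one_equiv]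
  have hXback : Xn.submatrix e e = X₀ := by
    rw [hXn, Matrix.submatrix_submatrix]
    simp
  obtain ⟨x, hx⟩ : ∃ x : Matrix.SpecialLinearGroup (Fin n) F, (x : MM) = Xn :=
    ⟨⟨Xn, hXdet⟩, rfl⟩
  refine ⟨x, ⟨1, ?_⟩, ?_, ?_⟩
  · rw [Matrix.SpecialLinearGroup.coe_pow, hx, pow_three', hXn3, one_smul]
  · intro c hc
    rw [hx] at hc
    have h1 := congrFun (congrFun hc (e (Sum.inl i0))) (e (Sum.inr i0))
    have hne : e (Sum.inl i0) ≠ e (Sum.inr i0) := by
      intro h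
      have := e.injective h
      simp at this
    rw [Matrix.smul_apply, Matrix.one_apply_ne hne, smul_zero, hXn, Matrix.submatrix_apply,
      Equiv.symm_apply_apply, Equiv.symm_apply_apply, hX₀, Matrix.fromBlocks_apply₁₂, hDd,
      Matrix.diagonal_apply_eq, if_pos rfl] at h1
    exact hτ0 h1
  · rintro ⟨P, hP⟩
    rw [Subgroup.mem_comap] at hP
    obtain ⟨s, A₀, hs, hA⟩ := SF.mem_sf_elim F₀ _ hP
    obtain ⟨Pm, hPm⟩ : ∃ Pm : MM, Pm = (P : MM) := ⟨_, rfl⟩
    obtain ⟨Pm', hPm'⟩ : ∃ Pm' : MM, Pm' = ((P⁻¹ : Matrix.SpecialLinearGroup (Fin n) F) : MM) :=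
      ⟨_, rfl⟩
    have h2 : Pm' * Pm = 1 := by
      rw [hPm, hPm', ← Matrix.SpecialLinearGroup.coe_mul, inv_mul_cancel,
        Matrix.SpecialLinearGroup.coe_one]
    have h3 : Pm * Pm' = 1 := by
      rw [hPm, hPm', ← Matrix.SpecialLinearGroup.coe_mul, mul_inv_cancel,
        Matrix.SpecialLinearGroup.coe_one]
    have hA' : Pm' * Xn * Pm = s • A₀.map (F₀.subtype : F₀ →+* F) := by
      rw [← hA, Matrix.SpecialLinearGroup.coe_mul, Matrix.SpecialLinearGroup.coe_mul, hx, hPm,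
        hPm']
    have hdetP' : Pm'.det = 1 := by
      rw [hPm']
      exact (P⁻¹).2
    apply no_conj_blocks F₀ hsq hchar τ hτ m hm D hD (Pm.submatrix e e) (Pm'.submatrix e e)
      ?_ ?_ ?_ s hs (A₀.submatrix e e) ?_
    · rw [Matrix.submatrix_mul_equiv, h2, Matrix.submatrix_one_equiv]
    · rw [Matrix.submatrix_mul_equiv, h3, Matrix.submatrix_one_equiv]
    · rw [Matrix.det_submatrix_equiv_self, hdetP']
    · rw [← hX₀, ← hXback, Matrix.submatrix_mul_equiv, Matrix.submatrix_mul_equiv, hA']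
      rfl

end Cfsg.Agent.helper29.SU
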