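import Mathlib
import Cfsg.Agent.Lib_helper29_SpLagrA

set_option autoImplicit false
set_option linter.unusedSectionVars false
set_option linter.unusedVariables false

namespace Cfsg.Agent.helper29

open Matrix Cfsg.Agent.helper4 Cfsg.Agent.S0245 Cfsg.Agent.S2594 Cfsg.Agent.S0440 Cfsg.Agent.S5645

section pair

variable {F : Type*} [Field F] {m : ℕ}

local notation "Sp" => Matrix.symplecticGroup (Fin m) F
local notation "ff" => Cfsg.sympForm m F
local notation "VV" => (Fin m ⊕ Fin m → F)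
local notation "MM" => Matrix (Fin m ⊕ Fin m) (Fin m ⊕ Fin m) F

/-- a pair of complementary totally isotropic subspaces -/
structure LagPair (A B : Submodule F (Fin m ⊕ Fin m → F)) : Prop where
  hA : ∀ u ∈ A, ∀ v ∈ A, Cfsg.sympForm m F u v = 0
  hB : ∀ u ∈ B, ∀ v ∈ B, Cfsg.sympForm m F u v = 0
  dec : ∀ v : Fin m ⊕ Fin m → F, ∃ a ∈ A, ∃ b ∈ B, v = a + b
  dimA : Module.finrank F A = m
  dimB : Module.finrank F B = m

variable {A B : Submodule F (Fin m ⊕ Fin m → F)}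

theorem LagPair.symm (h : LagPair A B) : LagPair B A :=
  ⟨h.hB, h.hA, fun v => by
    obtain ⟨a, ha, b, hb, rfl⟩ := h.dec v
    exact ⟨b, hb, a, ha, add_comm a b⟩, h.dimB, h.dimA⟩

theorem LagPair.nd (h : LagPair A B) (x : VV) (hx : x ∈ A) (hxB : ∀ y ∈ B, ff x y = 0) :
    x = 0 := by
  by_contra hne
  obtain ⟨w, hw⟩ := exists_partner' x hne
  obtain ⟨a, ha, b, hb, rfl⟩ := h.dec w
  rw [sympForm_add_right, h.hA x hx a ha, hxB b hb, add_zero] at hw
  exact zero_ne_one hw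

theorem LagPair.inter (h : LagPair A B) (v : VV) (hvA : v ∈ A) (hvB : v ∈ B) : v = 0 :=
  h.nd v hvA (fun y hy => h.hB v hvB y hy)

theorem LagPair.two (h : LagPair A B) (u v : VV) (hu : u ∈ A) (hv : v ∈ A) (hu0 : u ≠ 0)
    (hv0 : v ≠ 0) : ∃ y ∈ B, ff u y ≠ 0 ∧ ff v y ≠ 0 := by
  have h1 : ∃ y ∈ B, ff u y ≠ 0 := by
    by_contra hcon
    push Not at hcon
    exact hu0 (h.nd u hu hcon)
  have h2 : ∃ y ∈ B, ff v y ≠ 0 := by
    by_contra hcon
    push Not at hcon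
    exact hv0 (h.nd v hv hcon)
  obtain ⟨y₁, hy₁, h1⟩ := h1
  obtain ⟨y₂, hy₂, h2⟩ := h2
  by_cases ha : ff v y₁ = 0
  · by_cases hb : ff u y₂ = 0
    · refine ⟨y₁ + y₂, B.add_mem hy₁ hy₂, ?_, ?_⟩
      · rw [sympForm_add_right, hb, add_zero]; exact h1
      · rw [sympForm_add_right, ha, zero_add]; exact h2
    · exact ⟨y₂, hy₂, hb, h2⟩
  · exact ⟨y₁, hy₁, h1, ha⟩

theorem LagPair.sep1 (h : LagPair A B) (w a : VV) (hw : w ∈ A) (ha : a ∈ A)
    (hne : ∀ c : F, a ≠ c • w) : ∃ y ∈ B, ff w y = 0 ∧ ff a y ≠ 0 := by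
  by_contra hcon
  push Not at hcon
  by_cases hw0 : ∀ y ∈ B, ff w y = 0
  · have : a = 0 := h.nd a ha (fun y hy => hcon y hy (hw0 y hy))
    apply hne 0
    rw [this, zero_smul]
  · push Not at hw0
    obtain ⟨y₀, hy₀, hwy⟩ := hw0
    apply hne (ff a y₀ / ff w y₀)
    have : a - (ff a y₀ / ff w y₀) • w = 0 := by
      apply h.nd _ (A.sub_mem ha (A.smul_mem _ hw))
      intro y hy
      have h1 := hcon (y - (ff w y / ff w y₀) • y₀) (B.sub_mem hy (B.smul_mem _ hy₀)) (by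
        rw [sympForm_sub_right, sympForm_smul_right, div_mul_cancel₀ _ hwy, sub_self])
      rw [sympForm_sub_right, sympForm_smul_right] at h1
      rw [sympForm_sub_left, sympForm_smul_left]
      linear_combination h1
    exact sub_eq_zero.mp this

theorem LagPair.ker3 (h : LagPair A B) (hm : 4 ≤ m) (p q r : VV) :
    ∃ x ∈ A, x ≠ 0 ∧ ff x p = 0 ∧ ff x q = 0 ∧ ff x r = 0 := by
  set L : A →ₗ[F] (Fin 3 → F) := LinearMap.pi
    ![((BF m F).flip p).comp A.subtype, ((BF m F).flip q).comp A.subtype,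
      ((BF m F).flip r).comp A.subtype] with hL
  have hlt : Module.finrank F (Fin 3 → F) < Module.finrank F A := by
    rw [h.dimA, Module.finrank_fin_fun]; omega
  have hker := LinearMap.ker_ne_bot_of_finrank_lt (f := L) hlt
  obtain ⟨x, hx, hx0⟩ := (Submodule.ne_bot_iff _).mp hker
  have hx' := LinearMap.mem_ker.mp hx
  refine ⟨x.1, x.2, fun h0 => hx0 (Subtype.ext h0), ?_, ?_, ?_⟩
  · have := congrFun hx' 0
    simpa [hL, BF_apply] using this
  · have := congrFun hx' 1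
    simpa [hL, BF_apply] using this
  · have := congrFun hx' 2
    simpa [hL, BF_apply] using this

theorem map_eq_of_le_finrank (W W' : Submodule F VV)
    (hdim : Module.finrank F W = Module.finrank F W') (g : Sp)
    (h : ∀ d ∈ W, (g : MM) *ᵥ d ∈ W') : W.map (Matrix.toLin' (g : MM)) = W' := by
  apply Submodule.eq_of_le_of_finrank_eq
  · rintro _ ⟨d, hd, rfl⟩
    rw [Matrix.toLin'_apply]
    exact h d hd
  · rw [← (Submodule.equivMapOfInjective _ (toLin_inj g) W).finrank_eq, hdim]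

theorem LagPair.step4 (h : LagPair A B) (hm : 4 ≤ m) (h2 : (2 : F) ≠ 0) (M : Subgroup Sp)
    (hEM : ∀ x ∈ A, ∀ y ∈ B, ff x y = 0 → EEsp x y ∈ M)
    (a b : VV) (hab : ff a b = 0) (hE : EEsp a b ∈ M)
    (aA aB bA bB : VV) (haA : aA ∈ A) (haB : aB ∈ B) (hbA : bA ∈ A) (hbB : bB ∈ B)
    (ha : a = aA + aB) (hb : b = bA + bB) (haA0 : aA ≠ 0) (hbA0 : bA ≠ 0) :
    ∃ x ∈ A, x ≠ 0 ∧ XX M x := by
  obtain ⟨y, hy, hya, hyb⟩ := h.two aA bA haA hbA haA0 hbA0
  obtain ⟨x, hx, hx0, hxa, hxb, hxy⟩ := h.ker3 hm aB bB y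
  refine ⟨x, hx, hx0, ?_⟩
  have hxa' : ff x a = 0 := by rw [ha, sympForm_add_right, h.hA x hx aA haA, hxa, add_zero]
  have hxb' : ff x b = 0 := by rw [hb, sympForm_add_right, h.hA x hx bA hbA, hxb, add_zero]
  have hya' : ff y a = - ff aA y := by
    rw [ha, sympForm_add_right, h.hB y hy aB haB, add_zero, sympForm_swap]
  have hyb' : ff y b = - ff bA y := by
    rw [hb, sympForm_add_right, h.hB y hy bB hbB, add_zero, sympForm_swap]
  set c₀ : F := 2 * (-2 * (ff y a * ff y b)) with hc₀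
  have hc₀0 : c₀ ≠ 0 := by
    rw [hc₀, hya', hyb']
    refine mul_ne_zero h2 (mul_ne_zero (neg_ne_zero.mpr h2) (mul_ne_zero ?_ ?_))
    · exact neg_ne_zero.mpr hya
    · exact neg_ne_zero.mpr hyb
  have key : ∀ l : F, TT x (l ^ 2 * c₀) ∈ M := by
    intro l
    have hylB : l • y ∈ B := B.smul_mem l hy
    have hxyl : ff x (l • y) = 0 := by rw [sympForm_smul_right, hxy, mul_zero]
    have h1 : EEsp x (l • y) ∈ M := hEM x hx (l • y) hylB hxyl
    have hgx : ((EEsp a b : Sp) : MM) *ᵥ x = x := by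
      rw [EEsp_mulVec a b hab, hxb', hxa', zero_smul, zero_smul, add_zero, add_zero]
    have h3 : EEsp x (((EEsp a b : Sp) : MM) *ᵥ (l • y)) ∈ M := by
      have := M.mul_mem (M.mul_mem hE h1) (M.inv_mem hE)
      rwa [conj_EEsp, hgx] at this
    rw [EEsp_mulVec a b hab] at h3
    have hxz : ff x (l • y + ff (l • y) b • a + ff (l • y) a • b) = 0 := by
      simp only [sympForm_add_right, sympForm_smul_right, hxy, hxa', hxb']; ring
    have h4 := comm_EEsp x (l • y) _ hxyl hxz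
    have h5 : TT x (2 * ff (l • y + ff (l • y) b • a + ff (l • y) a • b) (l • y)) ∈ M := by
      have : TT x (2 * ff (l • y + ff (l • y) b • a + ff (l • y) a • b) (l • y)) =
          (EEsp x (l • y + ff (l • y) b • a + ff (l • y) a • b) * EEsp x (l • y))⁻¹ *
            (EEsp x (l • y) * EEsp x (l • y + ff (l • y) b • a + ff (l • y) a • b)) := by
        rw [h4]; group
      rw [this]
      exact M.mul_mem (M.inv_mem (M.mul_mem h3 h1)) (M.mul_mem h1 h3)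
    have h6 : 2 * ff (l • y + ff (l • y) b • a + ff (l • y) a • b) (l • y) = l ^ 2 * c₀ := by
      rw [hc₀]
      simp only [sympForm_add_left, sympForm_smul_left, sympForm_smul_right, sympForm_self]
      have e1 : ff a y = - ff y a := sympForm_swap a y
      have e2 : ff b y = - ff y b := sympForm_swap b y
      rw [e1, e2]
      ring
    rwa [h6] at h5
  intro c
  have hsplit : c = ((c / c₀ + 1) / 2) ^ 2 * c₀ + (-(((c / c₀ - 1) / 2) ^ 2 * c₀)) := by
    field_simp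
    ring
  rw [hsplit, ← Cfsg.Agent.S0269.TT_mul, ← Cfsg.Agent.S0269.TT_inv]
  exact M.mul_mem (key _) (M.inv_mem (key _))

theorem LagPair.spread (h : LagPair A B) (M : Subgroup Sp)
    (hEM : ∀ x ∈ A, ∀ y ∈ B, ff x y = 0 → EEsp x y ∈ M)
    (x : VV) (hx : x ∈ A) (hx0 : x ≠ 0) (hX : XX M x) (u : VV) (hu : u ∈ A) : XX M u := by
  by_cases hc : ∃ c : F, u = c • x
  · obtain ⟨c, rfl⟩ := hc
    intro d
    rw [Cfsg.Agent.S0269.TT_smul]
    exact hX _
  · push Not at hc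
    have hne : ∀ c : F, x ≠ c • (u - x) := by
      intro c hcx
      by_cases hc0 : c = 0
      · rw [hc0, zero_smul] at hcx; exact hx0 hcx
      · apply hc (1 + c⁻¹)
        have e : c⁻¹ • x = u - x := by
          have := congrArg (fun t => c⁻¹ • t) hcx
          simp only [smul_smul, inv_mul_cancel₀ hc0, one_smul] at this
          exact this
        rw [add_smul, one_smul, e]; abel
    obtain ⟨y', hy', hwy, hxy⟩ := h.sep1 (u - x) x (A.sub_mem hu hx) hx hne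
    have hy₁B : (ff x y')⁻¹ • y' ∈ B := B.smul_mem _ hy'
    have e1 : ff x ((ff x y')⁻¹ • y') = 1 := by rw [sympForm_smul_right, inv_mul_cancel₀ hxy]
    have e2 : ff (u - x) ((ff x y')⁻¹ • y') = 0 := by rw [sympForm_smul_right, hwy, mul_zero]
    have hmem : EEsp (u - x) ((ff x y')⁻¹ • y') ∈ M := hEM _ (A.sub_mem hu hx) _ hy₁B e2
    have := XX_inv M _ hmem x hX
    rw [EEsp_mulVec _ _ e2, e1, one_smul, h.hA x hx _ (A.sub_mem hu hx), zero_smul, add_zero,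
      add_sub_cancel] at this
    exact this

theorem LagPair.all (h : LagPair A B) (M : Subgroup Sp)
    (hA : ∀ x ∈ A, XX M x) (hB : ∀ y ∈ B, XX M y) (v : VV) : XX M v := by
  obtain ⟨a, ha, b, hb, rfl⟩ := h.dec v
  by_cases hab : ff a b = 0
  · by_cases ha0 : a = 0
    · rw [ha0, zero_add]; exact hB b hb
    · have : ∃ w ∈ B, ff a w ≠ 0 := by
        by_contra hcon; push Not at hcon; exact ha0 (h.nd a ha hcon)
      obtain ⟨w, hw, haw⟩ := this
      have h1 : XX M (a + w) := XX_add M a w (hA a ha) (hB w hw) haw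
      have h2 : XX M (b - w) := hB _ (B.sub_mem hb hw)
      have h3 : ff (a + w) (b - w) ≠ 0 := by
        rw [sympForm_add_left, sympForm_sub_right, sympForm_sub_right, hab, h.hB w hw b hb,
          h.hB w hw w hw]
        simpa using haw
      have := XX_add M _ _ h1 h2 h3
      have e : a + w + (b - w) = a + b := by abel
      rwa [e] at this
  · exact XX_add M a b (hA a ha) (hB b hb) hab

theorem union_sub (W : Submodule F VV) (g : Sp)
    (h : ∀ w ∈ W, (g : MM) *ᵥ w ∈ A ∨ (g : MM) *ᵥ w ∈ B) :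
    (∀ w ∈ W, (g : MM) *ᵥ w ∈ A) ∨ (∀ w ∈ W, (g : MM) *ᵥ w ∈ B) := by
  by_contra hcon
  push Not at hcon
  obtain ⟨⟨w₁, hw₁, h1⟩, ⟨w₂, hw₂, h2⟩⟩ := hcon
  have h1B : (g : MM) *ᵥ w₁ ∈ B := (h w₁ hw₁).resolve_left h1
  have h2A : (g : MM) *ᵥ w₂ ∈ A := (h w₂ hw₂).resolve_right h2
  rcases h (w₁ + w₂) (W.add_mem hw₁ hw₂) with h3 | h3
  · apply h1
    have : (g : MM) *ᵥ w₁ = (g : MM) *ᵥ (w₁ + w₂) - (g : MM) *ᵥ w₂ := by
      rw [Matrix.mulVec_add]; abel
    rw [this]; exact A.sub_mem h3 h2A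
  · apply h2
    have : (g : MM) *ᵥ w₂ = (g : MM) *ᵥ (w₁ + w₂) - (g : MM) *ᵥ w₁ := by
      rw [Matrix.mulVec_add]; abel
    rw [this]; exact B.sub_mem h3 h1B

theorem LagPair.not_both (h : LagPair A B) (hm : 4 ≤ m) (g : Sp)
    (h0 : ∀ a ∈ A, (g : MM) *ᵥ a ∈ A) (h1 : ∀ b ∈ B, (g : MM) *ᵥ b ∈ A) : False := by
  have hmap := map_eq_of_le_finrank A A rfl g h0
  obtain ⟨b, hb, hb0, -, -, -⟩ := h.symm.ker3 hm 0 0 0
  have hgb := h1 b hb
  rw [← hmap] at hgb
  obtain ⟨a, ha, hab⟩ := hgb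
  have : a = b := toLin_inj g (by rw [hab, Matrix.toLin'_apply])
  rw [this] at ha
  exact hb0 (h.inter b ha hb)

theorem LagPair.step3 (h : LagPair A B) (hm : 4 ≤ m) (g : Sp)
    (hg : ∀ a₀ ∈ A, ∀ b₀ ∈ B, ff a₀ b₀ = 0 →
      ((g : MM) *ᵥ a₀ ∈ B ∨ (g : MM) *ᵥ b₀ ∈ B) ∧ ((g : MM) *ᵥ a₀ ∈ A ∨ (g : MM) *ᵥ b₀ ∈ A)) :
    ((∀ a ∈ A, (g : MM) *ᵥ a ∈ A) ∧ (∀ b ∈ B, (g : MM) *ᵥ b ∈ B)) ∨
    ((∀ a ∈ A, (g : MM) *ᵥ a ∈ B) ∧ (∀ b ∈ B, (g : MM) *ᵥ b ∈ A)) := by
  have hAun : ∀ a ∈ A, (g : MM) *ᵥ a ∈ A ∨ (g : MM) *ᵥ a ∈ B := by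
    intro a ha
    obtain ⟨b₀, hb₀, hb₀0, hba, -, -⟩ := h.symm.ker3 hm a 0 0
    have hab : ff a b₀ = 0 := by rw [sympForm_swap, hba, neg_zero]
    obtain ⟨h1, h2⟩ := hg a ha b₀ hb₀ hab
    rcases h1 with h1 | h1
    · exact Or.inr h1
    · rcases h2 with h2 | h2
      · exact Or.inl h2
      · exfalso
        exact Cfsg.Agent.S0768.mulVec_ne_zero g b₀ hb₀0 (h.inter _ h2 h1)
  have hBun : ∀ b ∈ B, (g : MM) *ᵥ b ∈ A ∨ (g : MM) *ᵥ b ∈ B := by
    intro b hb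
    obtain ⟨a₀, ha₀, ha₀0, hab, -, -⟩ := h.ker3 hm b 0 0
    obtain ⟨h1, h2⟩ := hg a₀ ha₀ b hb hab
    rcases h1 with h1 | h1
    · rcases h2 with h2 | h2
      · exfalso
        exact Cfsg.Agent.S0768.mulVec_ne_zero g a₀ ha₀0 (h.inter _ h2 h1)
      · exact Or.inl h2
    · exact Or.inr h1
  rcases union_sub A g hAun with hA1 | hA1
  · rcases union_sub B g hBun with hB1 | hB1
    · exact (h.not_both hm g hA1 hB1).elim
    · exact Or.inl ⟨hA1, hB1⟩
  · rcases union_sub B g hBun with hB1 | hB1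
    · exact Or.inr ⟨hA1, hB1⟩
    · exact (h.symm.not_both hm g hB1 hA1).elim

end pair

end Cfsg.Agent.helper29
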