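import Mathlib
import Cfsg.Agent.Lib_helper29_SpLagrB

set_option autoImplicit false
set_option linter.unusedSectionVars false
set_option linter.unusedVariables false

namespace Cfsg.Agent.helper29

open Matrix Cfsg.Agent.helper4 Cfsg.Agent.S0245 Cfsg.Agent.S2594 Cfsg.Agent.S0440 Cfsg.Agent.S5645

section swapsec

variable {F : Type*} [Field F] {m : ℕ}

local notation "Sp" => Matrix.symplecticGroup (Fin m) F
local notation "ff" => Cfsg.sympForm m F
local notation "VV" => (Fin m ⊕ Fin m → F)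
local notation "MM" => Matrix (Fin m ⊕ Fin m) (Fin m ⊕ Fin m) F

variable {A B : Submodule F (Fin m ⊕ Fin m → F)}

theorem LagPair.exists_swap (hp : LagPair A B) :
    ∃ s : Sp, (∀ a ∈ A, (s : MM) *ᵥ a ∈ B) ∧ (∀ b ∈ B, (s : MM) *ᵥ b ∈ A) := by
  classical
  set bA : Module.Basis (Fin m) F A := Module.finBasisOfFinrankEq F A hp.dimA with hbA
  set x : Fin m → VV := fun i => (bA i : VV) with hx
  have hxA : ∀ i, x i ∈ A := fun i => (bA i).2
  have hspan : ∀ a ∈ A, ∃ c : Fin m → F, a = ∑ i, c i • x i := by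
    intro a ha
    refine ⟨fun i => bA.repr ⟨a, ha⟩ i, ?_⟩
    have := bA.sum_repr ⟨a, ha⟩
    have h2 := congrArg Subtype.val this
    rw [Submodule.coe_sum] at h2
    simp only [Submodule.coe_smul] at h2
    exact h2.symm
  set Ψ : B →ₗ[F] (Fin m → F) :=
    LinearMap.pi (fun i => ((BF m F) (x i)).comp B.subtype) with hΨ
  have hΨapp : ∀ (y : B) (i : Fin m), Ψ y i = ff (x i) y.1 := fun y i => rfl
  have hinj : Function.Injective Ψ := by
    rw [injective_iff_map_eq_zero]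
    intro y hy
    apply Subtype.ext
    apply hp.symm.nd y.1 y.2
    intro a ha
    obtain ⟨c, rfl⟩ := hspan a ha
    rw [sympForm_sum_right]
    apply Finset.sum_eq_zero
    intro i _
    rw [sympForm_smul_right, sympForm_swap, ← hΨapp, hy]
    simp
  have hsurj : Function.Surjective Ψ :=
    (LinearMap.injective_iff_surjective_of_finrank_eq_finrank
      (by rw [hp.dimB, Module.finrank_fin_fun])).mp hinj
  choose y' hy' using fun j : Fin m => hsurj (Pi.single j 1)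
  set y : Fin m → VV := fun j => (y' j : VV) with hy
  have hyB : ∀ j, y j ∈ B := fun j => (y' j).2
  have hxy : ∀ i j, ff (x i) (y j) = if i = j then 1 else 0 := by
    intro i j
    have := congrFun (hy' j) i
    rw [hΨapp, Pi.single_apply] at this
    exact this
  have hxx : ∀ i j, ff (x i) (x j) = 0 := fun i j => hp.hA _ (hxA i) _ (hxA j)
  have hyy : ∀ i j, ff (y i) (y j) = 0 := fun i j => hp.hB _ (hyB i) _ (hyB j)
  have hyx : ∀ i j, ff (y i) (- x j) = if i = j then 1 else 0 := by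
    intro i j
    rw [sympForm_neg_right, sympForm_swap, neg_neg, hxy j i]
    by_cases hij : i = j
    · rw [if_pos hij, if_pos hij.symm]
    · rw [if_neg hij, if_neg (fun hh => hij hh.symm)]
  have hxx' : ∀ i j, ff (- x i) (- x j) = 0 := by
    intro i j
    rw [sympForm_neg_left, sympForm_neg_right, hxx, neg_zero, neg_zero]
  obtain ⟨P, hP⟩ := Cfsg.Agent.S0776.exists_sp_of_hyp (id : Fin m → Fin m)
    Function.injective_id x y hxy hxx hyy m le_rfl
  obtain ⟨P', hP'⟩ := Cfsg.Agent.S0776.exists_sp_of_hyp (id : Fin m → Fin m)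
    Function.injective_id y (fun i => - x i) hyx hyy hxx' m le_rfl
  have hsx : ∀ i, ((P' * P⁻¹ : Sp) : MM) *ᵥ x i = y i := by
    intro i
    have e1 := (hP i i.2).1
    have e2 := (hP' i i.2).1
    rw [← e1, ← e2]
    show ((P' : MM) * ((P⁻¹ : Sp) : MM)) *ᵥ _ = _
    rw [← Matrix.mulVec_mulVec, Cfsg.Agent.S0776.inv_mulVec_mulVec]
  have hsy : ∀ i, ((P' * P⁻¹ : Sp) : MM) *ᵥ y i = - x i := by
    intro i
    have e1 := (hP i i.2).2
    have e2 := (hP' i i.2).2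
    rw [← e1]
    show ((P' : MM) * ((P⁻¹ : Sp) : MM)) *ᵥ _ = _
    rw [← Matrix.mulVec_mulVec, Cfsg.Agent.S0776.inv_mulVec_mulVec, e2]
  have h1 : ∀ a ∈ A, ((P' * P⁻¹ : Sp) : MM) *ᵥ a ∈ B := by
    intro a ha
    obtain ⟨c, rfl⟩ := hspan a ha
    rw [← Matrix.mulVecLin_apply, map_sum]
    apply Submodule.sum_mem
    intro i _
    rw [map_smul, Matrix.mulVecLin_apply, hsx]
    exact B.smul_mem _ (hyB i)
  have hmap : A.map (Matrix.toLin' ((P' * P⁻¹ : Sp) : MM)) = B :=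
    map_eq_of_le_finrank A B (hp.dimA.trans hp.dimB.symm) (P' * P⁻¹) h1
  refine ⟨P' * P⁻¹, h1, ?_⟩
  intro b hb
  rw [← hmap] at hb
  obtain ⟨a, ha, rfl⟩ := hb
  obtain ⟨c, rfl⟩ := hspan a ha
  rw [Matrix.toLin'_apply, ← Matrix.mulVecLin_apply, ← Matrix.mulVecLin_apply, map_sum, map_sum]
  apply Submodule.sum_mem
  intro i _
  rw [map_smul, map_smul, Matrix.mulVecLin_apply, Matrix.mulVecLin_apply, hsx, hsy]
  exact A.smul_mem _ (A.neg_mem (hxA i))

end swapsec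

section main

variable {F : Type*} [Field F] {m : ℕ}

local notation "Sp" => Matrix.symplecticGroup (Fin m) F
local notation "ff" => Cfsg.sympForm m F
local notation "VV" => (Fin m ⊕ Fin m → F)
local notation "MM" => Matrix (Fin m ⊕ Fin m) (Fin m ⊕ Fin m) F

variable {D : Fin 2 → Submodule F (Fin m ⊕ Fin m → F)}

theorem lagPair_of (hD : Cfsg.Geo.IsMDecomposition m D)
    (hts : ∀ i, Cfsg.Geo.IsTotallySingularFor (Cfsg.sympForm m F) (D i)) :
    LagPair (D 0) (D 1) where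
  hA := hts 0
  hB := hts 1
  dec := by
    intro v
    have hv : v ∈ ⨆ i ∈ (Finset.univ : Finset (Fin 2)), D i := by
      simp only [Finset.mem_univ, iSup_pos]
      rw [hD.iSup_eq_top]
      trivial
    rw [Submodule.mem_iSup_finset_iff_exists_sum] at hv
    obtain ⟨μ, hμ⟩ := hv
    refine ⟨(μ 0 : VV), (μ 0).2, (μ 1 : VV), (μ 1).2, ?_⟩
    rw [← hμ, Fin.sum_univ_two]
  dimA := hD.finrank_eq 0
  dimB := hD.finrank_eq 1

theorem mem_HD_id (hp : LagPair (D 0) (D 1)) (g : Sp)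
    (h0 : ∀ a ∈ D 0, (g : MM) *ᵥ a ∈ D 0) (h1 : ∀ b ∈ D 1, (g : MM) *ᵥ b ∈ D 1) : g ∈ HD D := by
  rw [mem_HD]
  refine ⟨1, Fin.forall_fin_two.mpr ⟨?_, ?_⟩⟩
  · rw [Equiv.Perm.one_apply]; exact map_eq_of_le_finrank _ _ rfl g h0
  · rw [Equiv.Perm.one_apply]; exact map_eq_of_le_finrank _ _ rfl g h1

theorem mem_HD_swap (hp : LagPair (D 0) (D 1)) (g : Sp)
    (h0 : ∀ a ∈ D 0, (g : MM) *ᵥ a ∈ D 1) (h1 : ∀ b ∈ D 1, (g : MM) *ᵥ b ∈ D 0) : g ∈ HD D := by
  rw [mem_HD]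
  refine ⟨Equiv.swap 0 1, Fin.forall_fin_two.mpr ⟨?_, ?_⟩⟩
  · rw [Equiv.swap_apply_left]
    exact map_eq_of_le_finrank _ _ (hp.dimA.trans hp.dimB.symm) g h0
  · rw [Equiv.swap_apply_right]
    exact map_eq_of_le_finrank _ _ (hp.dimB.trans hp.dimA.symm) g h1

theorem EE_mem_HD (hp : LagPair (D 0) (D 1)) (x y : VV) (hx : x ∈ D 0) (hy : y ∈ D 1)
    (hxy : ff x y = 0) : EEsp x y ∈ HD D := by
  apply mem_HD_id hp
  · intro v hv
    rw [EEsp_mulVec x y hxy, hp.hA v hv x hx, zero_smul, add_zero]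
    exact (D 0).add_mem hv ((D 0).smul_mem _ hx)
  · intro v hv
    rw [EEsp_mulVec x y hxy, hp.hB v hv y hy, zero_smul, add_zero]
    exact (D 1).add_mem hv ((D 1).smul_mem _ hy)

theorem EE_mem_HD' (hp : LagPair (D 0) (D 1)) (y x : VV) (hy : y ∈ D 1) (hx : x ∈ D 0)
    (hyx : ff y x = 0) : EEsp y x ∈ HD D := by
  apply mem_HD_id hp
  · intro v hv
    rw [EEsp_mulVec y x hyx, hp.hA v hv x hx, zero_smul, add_zero]
    exact (D 0).add_mem hv ((D 0).smul_mem _ hx)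
  · intro v hv
    rw [EEsp_mulVec y x hyx, hp.hB v hv y hy, zero_smul, add_zero]
    exact (D 1).add_mem hv ((D 1).smul_mem _ hy)

theorem thmL (hm : 4 ≤ m) (h2 : (2 : F) ≠ 0) (hD : Cfsg.Geo.IsMDecomposition m D)
    (hts : ∀ i, Cfsg.Geo.IsTotallySingularFor (Cfsg.sympForm m F) (D i))
    (M : Subgroup Sp) (hM : HD D ≤ M) : M = HD D ∨ M = ⊤ := by
  have hp := lagPair_of hD hts
  by_cases hle : M ≤ HD D
  · left; exact le_antisymm hle hM
  right
  obtain ⟨g, hgM, hgH⟩ := SetLike.not_le_iff_exists.mp hle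
  have hEM : ∀ x ∈ D 0, ∀ y ∈ D 1, ff x y = 0 → EEsp x y ∈ M :=
    fun x hx y hy hxy => hM (EE_mem_HD hp x y hx hy hxy)
  have hEM' : ∀ y ∈ D 1, ∀ x ∈ D 0, ff y x = 0 → EEsp y x ∈ M :=
    fun y hy x hx hyx => hM (EE_mem_HD' hp y x hy hx hyx)
  obtain ⟨s, hs0, hs1⟩ := hp.exists_swap
  have hsM : s ∈ M := hM (mem_HD_swap hp s hs0 hs1)
  have hfin : ((∃ x ∈ D 0, x ≠ 0 ∧ XX M x) ∨ (∃ y ∈ D 1, y ≠ 0 ∧ XX M y)) → M = ⊤ := by
    intro hone
    have hone0 : ∃ x ∈ D 0, x ≠ 0 ∧ XX M x := by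
      rcases hone with h | ⟨y, hy, hy0, hXy⟩
      · exact h
      · exact ⟨(s : MM) *ᵥ y, hs1 y hy, Cfsg.Agent.S0768.mulVec_ne_zero s y hy0,
          XX_inv M s hsM y hXy⟩
    obtain ⟨x, hx, hx0, hXx⟩ := hone0
    have hall0 : ∀ u ∈ D 0, XX M u := fun u hu => hp.spread M hEM x hx hx0 hXx u hu
    have hall1 : ∀ u ∈ D 1, XX M u := by
      intro u hu
      exact hp.symm.spread M hEM' ((s : MM) *ᵥ x) (hs0 x hx)
        (Cfsg.Agent.S0768.mulVec_ne_zero s x hx0) (XX_inv M s hsM x hXx) u hu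
    apply Cfsg.Agent.S0269.eq_top_of_TT
    intro w _ c
    exact hp.all M hall0 hall1 w c
  apply hfin
  by_contra hcon
  push Not at hcon
  apply hgH
  have h3 := hp.step3 hm g ?_
  · rcases h3 with ⟨h0, h1⟩ | ⟨h0, h1⟩
    · exact mem_HD_id hp g h0 h1
    · exact mem_HD_swap hp g h0 h1
  · intro a₀ ha₀ b₀ hb₀ hab
    have hE : EEsp ((g : MM) *ᵥ a₀) ((g : MM) *ᵥ b₀) ∈ M := by
      rw [← conj_EEsp]
      exact M.mul_mem (M.mul_mem hgM (hEM a₀ ha₀ b₀ hb₀ hab)) (M.inv_mem hgM)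
    have hab' : ff ((g : MM) *ᵥ a₀) ((g : MM) *ᵥ b₀) = 0 := by
      rw [Cfsg.Agent.S0766.sympForm_mulVec, hab]
    obtain ⟨aA, haA, aB, haB, ha⟩ := hp.dec ((g : MM) *ᵥ a₀)
    obtain ⟨bA, hbA, bB, hbB, hb⟩ := hp.dec ((g : MM) *ᵥ b₀)
    constructor
    · by_contra hc
      push Not at hc
      have haA0 : aA ≠ 0 := fun h0 => hc.1 (by rw [ha, h0, zero_add]; exact haB)
      have hbA0 : bA ≠ 0 := fun h0 => hc.2 (by rw [hb, h0, zero_add]; exact hbB)
      obtain ⟨x, hx, hx0, hX⟩ := hp.step4 hm h2 M hEM _ _ hab' hE aA aB bA bB haA haB hbA hbB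
        ha hb haA0 hbA0
      exact hcon.1 x hx hx0 hX
    · by_contra hc
      push Not at hc
      have haB0 : aB ≠ 0 := fun h0 => hc.1 (by rw [ha, h0, add_zero]; exact haA)
      have hbB0 : bB ≠ 0 := fun h0 => hc.2 (by rw [hb, h0, add_zero]; exact hbA)
      obtain ⟨y, hy, hy0, hY⟩ := hp.symm.step4 hm h2 M hEM' _ _ hab' hE aB aA bB bA haB haA hbB
        hbA (by rw [ha, add_comm]) (by rw [hb, add_comm]) haB0 hbB0
      exact hcon.2 y hy hy0 hY

theorem HD_ne_top_lag (hm : 4 ≤ m) (h2 : (2 : F) ≠ 0) (hD : Cfsg.Geo.IsMDecomposition m D)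
    (hts : ∀ i, Cfsg.Geo.IsTotallySingularFor (Cfsg.sympForm m F) (D i)) : HD D ≠ ⊤ := by
  have hp := lagPair_of hD hts
  obtain ⟨x, hx, hx0, -, -, -⟩ := hp.ker3 hm 0 0 0
  have hex : ∃ y ∈ D 1, ff x y ≠ 0 := by
    by_contra hcon; push Not at hcon; exact hx0 (hp.nd x hx hcon)
  obtain ⟨y', hy', hxy'⟩ := hex
  have hyB : (ff x y')⁻¹ • y' ∈ D 1 := (D 1).smul_mem _ hy'
  have hxy : ff x ((ff x y')⁻¹ • y') = 1 := by rw [sympForm_smul_right, inv_mul_cancel₀ hxy']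
  generalize (ff x y')⁻¹ • y' = y at hyB hxy
  intro htop
  have hmem : (TT (x + y) 1 : Sp) ∈ HD D := by rw [htop]; trivial
  rw [mem_HD] at hmem
  obtain ⟨σ, hσ⟩ := hmem
  have himg : ((TT (x + y) 1 : Sp) : MM) *ᵥ x ∈ D (σ 0) := by
    rw [← hσ 0]
    exact ⟨x, hx, by rw [Matrix.toLin'_apply]⟩
  rw [TT_mulVec, one_mul, sympForm_add_right, sympForm_self, zero_add, hxy, one_smul] at himg
  have h01 : ∀ i : Fin 2, i = 0 ∨ i = 1 := by decide
  rcases h01 (σ 0) with h | h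
  · rw [h] at himg
    have hy0 : y ∈ D 0 := by
      have : y = (x + (x + y)) - x - x := by abel
      rw [this]
      exact (D 0).sub_mem ((D 0).sub_mem himg hx) hx
    have : y = 0 := hp.inter y hy0 hyB
    rw [this, sympForm_zero_right'] at hxy
    exact zero_ne_one hxy
  · rw [h] at himg
    have h2x : (2 : F) • x ∈ D 1 := by
      have : (2 : F) • x = (x + (x + y)) - y := by rw [two_smul]; abel
      rw [this]
      exact (D 1).sub_mem himg hyB
    have hx1 : x ∈ D 1 := by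
      have : x = (2 : F)⁻¹ • ((2 : F) • x) := by rw [smul_smul, inv_mul_cancel₀ h2, one_smul]
      rw [this]
      exact (D 1).smul_mem _ h2x
    exact hx0 (hp.inter x hx hx1)

end main

end Cfsg.Agent.helper29
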