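import Mathlib
import Cfsg.Agent.Lib_helper29_SpRoot
import Cfsg.Agent.Lib_helper29_SL2gen

set_option autoImplicit false

namespace Cfsg.Agent.helper29.SpRoot
open Matrix Cfsg Cfsg.Agent.helper4 Cfsg.Agent.helper29.SL2gen
open scoped commutatorElement

variable {F : Type*} [Field F] {m : ℕ}

/-- The matrix of the action of a `2 × 2` matrix on the hyperbolic plane `⟨p, p''⟩`, extended by the
identity on the orthogonal complement. -/
def PhiM (p p'' : Fin m ⊕ Fin m → F) (M : Matrix (Fin 2) (Fin 2) F) :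
    Matrix (Fin m ⊕ Fin m) (Fin m ⊕ Fin m) F :=
  1 + Matrix.vecMulVec p ((M 0 0 - 1) • (Matrix.J (Fin m) F *ᵥ p'') + M 0 1 • (-(Matrix.J (Fin m) F *ᵥ p)))
    + Matrix.vecMulVec p'' (M 1 0 • (Matrix.J (Fin m) F *ᵥ p'') + (M 1 1 - 1) • (-(Matrix.J (Fin m) F *ᵥ p)))

theorem PhiM_mulVec (p p'' : Fin m ⊕ Fin m → F) (M : Matrix (Fin 2) (Fin 2) F) (v : Fin m ⊕ Fin m → F) :
    PhiM p p'' M *ᵥ v = v + ((M 0 0 - 1) * Cfsg.sympForm m F v p'' + M 0 1 * Cfsg.sympForm m F p v) • p +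
      (M 1 0 * Cfsg.sympForm m F v p'' + (M 1 1 - 1) * Cfsg.sympForm m F p v) • p'' := by
  have h1 : Cfsg.sympForm m F p v = -(v ⬝ᵥ (Matrix.J (Fin m) F *ᵥ p)) := sympForm_swap p v
  unfold PhiM
  rw [Matrix.add_mulVec, Matrix.add_mulVec, Matrix.one_mulVec, Matrix.vecMulVec_mulVec,
    Matrix.vecMulVec_mulVec, op_smul_eq_smul, op_smul_eq_smul, h1]
  unfold Cfsg.sympForm
  simp only [add_dotProduct, smul_dotProduct, neg_dotProduct, smul_eq_mul,
    dotProduct_comm (Matrix.J (Fin m) F *ᵥ p'') v, dotProduct_comm (Matrix.J (Fin m) F *ᵥ p) v]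


theorem mat_ext_mulVec {A B : Matrix (Fin m ⊕ Fin m) (Fin m ⊕ Fin m) F} (H : ∀ v, A *ᵥ v = B *ᵥ v) : A = B := by
  apply Matrix.toLin'.injective
  apply LinearMap.ext
  intro v
  rw [Matrix.toLin'_apply, Matrix.toLin'_apply]
  exact H v

theorem PhiM_mul (p p'' : Fin m ⊕ Fin m → F) (h : Cfsg.sympForm m F p p'' = 1)
    (M N : Matrix (Fin 2) (Fin 2) F) : PhiM p p'' (M * N) = PhiM p p'' M * PhiM p p'' N := by
  have h' : Cfsg.sympForm m F p'' p = -1 := by rw [sympForm_swap, h]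
  apply mat_ext_mulVec
  intro v
  rw [← Matrix.mulVec_mulVec, PhiM_mulVec p p'' N v, PhiM_mulVec, PhiM_mulVec]
  simp only [sympForm_add_left, sympForm_add_right, sympForm_smul_left, sympForm_smul_right,
    sympForm_self, h, h', Matrix.mul_apply, Fin.sum_univ_two]
  module

theorem PhiM_one (p p'' : Fin m ⊕ Fin m → F) : PhiM p p'' 1 = 1 := by
  apply mat_ext_mulVec
  intro v
  rw [PhiM_mulVec, Matrix.one_mulVec]
  simp

theorem PhiM_form (p p'' : Fin m ⊕ Fin m → F) (h : Cfsg.sympForm m F p p'' = 1)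
    (M : Matrix (Fin 2) (Fin 2) F) (hdet : M.det = 1) (u v : Fin m ⊕ Fin m → F) :
    Cfsg.sympForm m F (PhiM p p'' M *ᵥ u) (PhiM p p'' M *ᵥ v) = Cfsg.sympForm m F u v := by
  have h' : Cfsg.sympForm m F p'' p = -1 := by rw [sympForm_swap, h]
  rw [Matrix.det_fin_two] at hdet
  rw [PhiM_mulVec, PhiM_mulVec]
  simp only [sympForm_add_left, sympForm_add_right, sympForm_smul_left, sympForm_smul_right,
    sympForm_self, h, h']
  rw [sympForm_swap p'' v, sympForm_swap u p]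
  linear_combination (Cfsg.sympForm m F u p'' * Cfsg.sympForm m F p v -
    Cfsg.sympForm m F p u * Cfsg.sympForm m F v p'') * hdet


theorem mem_symp_of_form (A : Matrix (Fin m ⊕ Fin m) (Fin m ⊕ Fin m) F)
    (H : ∀ u v, Cfsg.sympForm m F (A *ᵥ u) (A *ᵥ v) = Cfsg.sympForm m F u v) :
    A ∈ Matrix.symplecticGroup (Fin m) F := by
  rw [SymplecticGroup.mem_iff']
  ext i j
  have h1 := H (Pi.single i 1) (Pi.single j 1)
  unfold Cfsg.sympForm at h1
  rw [Matrix.mulVec_mulVec, ← Matrix.vecMul_transpose, Matrix.dotProduct_mulVec, Matrix.vecMul_vecMul,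
    ← Matrix.mul_assoc, ← Matrix.dotProduct_mulVec] at h1
  simpa [Matrix.mulVec_single, single_dotProduct] using h1

/-- The embedding of `SL₂(F)` attached to a hyperbolic pair. -/
def phi (p p'' : Fin m ⊕ Fin m → F) (h : Cfsg.sympForm m F p p'' = 1) :
    Matrix.SpecialLinearGroup (Fin 2) F →* ↥(Matrix.symplecticGroup (Fin m) F) where
  toFun M := ⟨PhiM p p'' (M : Matrix (Fin 2) (Fin 2) F),
    mem_symp_of_form _ (PhiM_form p p'' h _ M.2)⟩
  map_one' := Subtype.ext (PhiM_one p p'')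
  map_mul' M N := Subtype.ext (PhiM_mul p p'' h _ _)

theorem act_phi (p p'' : Fin m ⊕ Fin m → F) (h : Cfsg.sympForm m F p p'' = 1)
    (M : Matrix.SpecialLinearGroup (Fin 2) F) (v : Fin m ⊕ Fin m → F) :
    act (phi p p'' h M) v = v + (((M : Matrix (Fin 2) (Fin 2) F) 0 0 - 1) * Cfsg.sympForm m F v p'' +
        (M : Matrix (Fin 2) (Fin 2) F) 0 1 * Cfsg.sympForm m F p v) • p +
      ((M : Matrix (Fin 2) (Fin 2) F) 1 0 * Cfsg.sympForm m F v p'' +
        ((M : Matrix (Fin 2) (Fin 2) F) 1 1 - 1) * Cfsg.sympForm m F p v) • p'' :=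
  PhiM_mulVec p p'' _ v

theorem phi_UU (p p'' : Fin m ⊕ Fin m → F) (h : Cfsg.sympForm m F p p'' = 1) (t : F) :
    phi p p'' h (UU t) = tau p (-t) := by
  apply ext_act
  intro v
  rw [act_phi, act_tau]
  show v + (((1 : F) - 1) * _ + t * _) • p + ((0 : F) * _ + ((1 : F) - 1) * _) • p'' = _
  rw [sympForm_swap p v]
  simp

theorem phi_LL (p p'' : Fin m ⊕ Fin m → F) (h : Cfsg.sympForm m F p p'' = 1) (t : F) :
    phi p p'' h (LL t) = tau p'' t := by
  apply ext_act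
  intro v
  rw [act_phi, act_tau]
  show v + (((1 : F) - 1) * _ + (0 : F) * _) • p + (t * _ + ((1 : F) - 1) * _) • p'' = _
  simp

theorem phi_injective (p p'' : Fin m ⊕ Fin m → F) (h : Cfsg.sympForm m F p p'' = 1) :
    Function.Injective (phi p p'' h) := by
  rw [injective_iff_map_eq_one]
  intro M hM
  have h' : Cfsg.sympForm m F p'' p = -1 := by rw [sympForm_swap, h]
  have h1 := act_phi p p'' h M p
  have h2 := act_phi p p'' h M p''
  rw [hM, act_one] at h1 h2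
  simp only [sympForm_self, h, h', mul_zero, add_zero, mul_one, zero_add] at h1 h2
  -- apply the two coordinate functionals
  have e1 := congrArg (fun x => Cfsg.sympForm m F x p'') h1
  have e2 := congrArg (fun x => Cfsg.sympForm m F p x) h1
  have e3 := congrArg (fun x => Cfsg.sympForm m F x p'') h2
  have e4 := congrArg (fun x => Cfsg.sympForm m F p x) h2
  simp only [sympForm_add_left, sympForm_add_right, sympForm_smul_left, sympForm_smul_right,
    sympForm_self, h, h'] at e1 e2 e3 e4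
  apply Subtype.ext
  ext i j
  fin_cases i <;> fin_cases j
  · show (M : Matrix (Fin 2) (Fin 2) F) 0 0 = 1
    linear_combination -e1
  · show (M : Matrix (Fin 2) (Fin 2) F) 0 1 = 0
    linear_combination -e3
  · show (M : Matrix (Fin 2) (Fin 2) F) 1 0 = 0
    linear_combination -e2
  · show (M : Matrix (Fin 2) (Fin 2) F) 1 1 = 1
    linear_combination -e4


theorem map_upper (p p'' : Fin m ⊕ Fin m → F) (h : Cfsg.sympForm m F p p'' = 1) :
    (Cfsg.upperUnipotentSL2 F).map (phi p p'' h) = Tp p := by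
  rw [upper_eq, MonoidHom.map_closure]
  have : (phi p p'' h) '' (Set.range (UU (k := F))) = (Tp p : Set _) := by
    ext g
    constructor
    · rintro ⟨_, ⟨t, rfl⟩, rfl⟩
      rw [phi_UU]
      exact tau_mem _ _
    · rintro ⟨c, rfl⟩
      exact ⟨UU (-c), ⟨-c, rfl⟩, by rw [phi_UU, neg_neg]⟩
  rw [this, Subgroup.closure_eq]

theorem map_lower (p p'' : Fin m ⊕ Fin m → F) (h : Cfsg.sympForm m F p p'' = 1) :
    (Cfsg.lowerUnipotentSL2 F).map (phi p p'' h) = Tp p'' := by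
  rw [lower_eq, MonoidHom.map_closure]
  have : (phi p p'' h) '' (Set.range (LL (k := F))) = (Tp p'' : Set _) := by
    ext g
    constructor
    · rintro ⟨_, ⟨t, rfl⟩, rfl⟩
      rw [phi_LL]
      exact tau_mem _ _
    · rintro ⟨c, rfl⟩
      exact ⟨LL c, ⟨c, rfl⟩, phi_LL p p'' h c⟩
  rw [this, Subgroup.closure_eq]

theorem isPSL2Pair (p p' : Fin m ⊕ Fin m → F) (hmu : Cfsg.sympForm m F p p' ≠ 0) :
    Cfsg.IsPSL2PairOver F (Tp p) (Tp p') := by
  obtain ⟨p'', hp''⟩ : ∃ p'', p'' = (Cfsg.sympForm m F p p')⁻¹ • p' := ⟨_, rfl⟩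
  have h : Cfsg.sympForm m F p p'' = 1 := by
    rw [hp'', sympForm_smul_right, inv_mul_cancel₀ hmu]
  have hT : Tp p'' = Tp p' := by
    rw [hp'']
    exact Tp_smul _ _ (inv_ne_zero hmu)
  refine ⟨phi p p'' h, ?_, ?_, ?_, ?_⟩
  · rw [MonoidHom.range_eq_map, ← sl2_gen, Subgroup.map_sup, map_upper, map_lower, hT]
  · rw [(MonoidHom.ker_eq_bot_iff _).mpr (phi_injective p p'' h)]
    exact bot_le
  · exact map_upper p p'' h
  · rw [map_lower, hT]

theorem isKRoot : Cfsg.IsKRootSubgroupSet F (SSet F m) := by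
  refine ⟨isRootSubgroupSet, ?_⟩
  intro A hA B hB hAB
  obtain ⟨p, hp, rfl⟩ := mem_SSet.mp hA
  obtain ⟨p', hp', rfl⟩ := mem_SSet.mp hB
  exact isPSL2Pair p p' (form_ne_zero_of_rankOnePair p p' hp hAB)

theorem main (hm : 0 < m) : Cfsg.IsRootSubgroupClass (SSet F m) ∧ Cfsg.IsDegenerateRootSet (SSet F m) ∧
    Cfsg.IsKRootSubgroupSet F (SSet F m) ∧ Cfsg.IsConnectedFamily (Cfsg.FAdj (SSet F m)) (SSet F m) :=
  ⟨⟨isRootSubgroupSet, isConjClass hm⟩, isDegenerate, isKRoot, isConnected⟩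

end Cfsg.Agent.helper29.SpRoot
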