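import Mathlib
import Cfsg.Prelude.Def_GeometricClasses

set_option autoImplicit false
open Matrix Cfsg
open scoped Kronecker

namespace Cfsg.Agent.helper29.Tens2

variable {F : Type*} [Field F] [Fintype F]

theorem f2_cases (hq : Fintype.card F = 2) (x : F) : x = 0 ∨ x = 1 := by
  have h := FiniteField.pow_card x
  rw [hq] at h
  have h2 : x * (x - 1) = 0 := by linear_combination h
  rcases mul_eq_zero.mp h2 with h3 | h3
  · exact Or.inl h3
  · exact Or.inr (by linear_combination h3)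

theorem f2_two (hq : Fintype.card F = 2) : (2 : F) = 0 := by
  rcases f2_cases hq (2 : F) with h | h
  · exact h
  · exfalso
    have : (1 : F) = 0 := by linear_combination h
    exact one_ne_zero this

theorem f2_add_self (hq : Fintype.card F = 2) (x : F) : x + x = 0 := by
  have := f2_two hq
  linear_combination x * this

theorem f2_units (hq : Fintype.card F = 2) (u : Fˣ) : u = 1 := by
  rcases f2_cases hq (u : F) with h | h
  · exact absurd h u.ne_zero
  · exact Units.ext h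

theorem SL_eq_top (hq : Fintype.card F = 2) (ι : Type) [Fintype ι] [DecidableEq ι] :
    Cfsg.Geo.specialLinear ι F = ⊤ := by
  rw [eq_top_iff]
  intro g _
  show g ∈ (Matrix.GeneralLinearGroup.det : GL ι F →* Fˣ).ker
  rw [MonoidHom.mem_ker]
  exact f2_units hq _

/-- The matrix of multiplication by a primitive cube root of unity of `𝔽₄` over `𝔽₂`. -/
def om (F : Type*) [Field F] : Matrix (Fin 2) (Fin 2) F := !![0, 1; 1, 1]

theorem om_cube (hq : Fintype.card F = 2) : om F * om F * om F = 1 := by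
  have h2 := f2_two hq
  have h2' : (1 : F) + 1 = 0 := f2_add_self hq 1
  unfold om
  simp [Matrix.mul_fin_two, Matrix.one_fin_two, h2, h2']

theorem gl2_norm (hq : Fintype.card F = 2) (a : Matrix (Fin 2) (Fin 2) F) (ha : a.det ≠ 0) :
    a * om F = om F * a ∨ a * om F = om F * om F * a := by
  have h2 := f2_two hq
  have h2' : (1 : F) + 1 = 0 := f2_add_self hq 1
  rw [Matrix.det_fin_two] at ha
  have hA : a = !![a 0 0, a 0 1; a 1 0, a 1 1] := Matrix.eta_fin_two a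
  unfold om
  rcases f2_cases hq (a 0 0) with h00 | h00 <;> rcases f2_cases hq (a 0 1) with h01 | h01 <;>
    rcases f2_cases hq (a 1 0) with h10 | h10 <;> rcases f2_cases hq (a 1 1) with h11 | h11 <;>
    rw [h00, h01, h10, h11] at ha <;> (try (exfalso; simp at ha; done)) <;>
    rw [hA, h00, h01, h10, h11] <;>
    first
    | (left; simp [Matrix.mul_fin_two, h2, h2']; done)
    | (right; simp [Matrix.mul_fin_two, h2, h2']; done)


theorem norm_mul {G : Type*} [Group G] (z : G) (hz : z * z * z = 1) (g h : G)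
    (hg : g * z = z * g ∨ g * z = z * z * g) (hh : h * z = z * h ∨ h * z = z * z * h) :
    (g * h) * z = z * (g * h) ∨ (g * h) * z = z * z * (g * h) := by
  rcases hg with hg | hg <;> rcases hh with hh | hh
  · left
    rw [mul_assoc, hh, ← mul_assoc, hg, mul_assoc]
  · right
    calc g * h * z = g * (h * z) := mul_assoc _ _ _
      _ = g * (z * z * h) := by rw [hh]
      _ = (g * z) * z * h := by simp only [mul_assoc]
      _ = (z * g) * z * h := by rw [hg]
      _ = z * (g * z) * h := by simp only [mul_assoc]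
      _ = z * (z * g) * h := by rw [hg]
      _ = z * z * (g * h) := by simp only [mul_assoc]
  · right
    calc g * h * z = g * (h * z) := mul_assoc _ _ _
      _ = g * (z * h) := by rw [hh]
      _ = (g * z) * h := by simp only [mul_assoc]
      _ = (z * z * g) * h := by rw [hg]
      _ = z * z * (g * h) := by simp only [mul_assoc]
  · left
    calc g * h * z = g * (h * z) := mul_assoc _ _ _
      _ = g * (z * z * h) := by rw [hh]
      _ = (g * z) * z * h := by simp only [mul_assoc]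
      _ = (z * z * g) * z * h := by rw [hg]
      _ = z * z * (g * z) * h := by simp only [mul_assoc]
      _ = z * z * (z * z * g) * h := by rw [hg]
      _ = (z * z * z) * (z * (g * h)) := by simp only [mul_assoc]
      _ = z * (g * h) := by rw [hz, one_mul]

theorem norm_inv {G : Type*} [Group G] (z : G) (hz : z * z * z = 1) (g : G)
    (hg : g * z = z * g ∨ g * z = z * z * g) :
    g⁻¹ * z = z * g⁻¹ ∨ g⁻¹ * z = z * z * g⁻¹ := by
  rcases hg with hg | hg
  · left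
    rw [inv_mul_eq_iff_eq_mul, ← mul_assoc, hg, mul_assoc, mul_inv_cancel, mul_one]
  · right
    rw [inv_mul_eq_iff_eq_mul]
    symm
    calc g * (z * z * g⁻¹) = (g * z) * z * g⁻¹ := by simp only [mul_assoc]
      _ = (z * z * g) * z * g⁻¹ := by rw [hg]
      _ = z * z * (g * z) * g⁻¹ := by simp only [mul_assoc]
      _ = z * z * (z * z * g) * g⁻¹ := by rw [hg]
      _ = (z * z * z) * (z * (g * g⁻¹)) := by simp only [mul_assoc]
      _ = z := by rw [hz, one_mul, mul_inv_cancel, mul_one]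

/-- `ω ⊗ 1`. -/
def Zm (F : Type*) [Field F] (n₂ : ℕ) : Matrix (Fin 2 × Fin n₂) (Fin 2 × Fin n₂) F :=
  om F ⊗ₖ (1 : Matrix (Fin n₂) (Fin n₂) F)

theorem Zm_cube (hq : Fintype.card F = 2) (n₂ : ℕ) : Zm F n₂ * Zm F n₂ * Zm F n₂ = 1 := by
  unfold Zm
  rw [← Matrix.mul_kronecker_mul, ← Matrix.mul_kronecker_mul, om_cube hq, one_mul, one_mul,
    Matrix.one_kronecker_one]

def Zg (hq : Fintype.card F = 2) (n₂ : ℕ) : GL (Fin 2 × Fin n₂) F :=
  ⟨Zm F n₂, Zm F n₂ * Zm F n₂, by rw [← mul_assoc]; exact Zm_cube hq n₂, Zm_cube hq n₂⟩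

theorem Zg_cube (hq : Fintype.card F = 2) (n₂ : ℕ) : Zg hq n₂ * Zg hq n₂ * Zg hq n₂ = 1 :=
  Units.ext (Zm_cube hq n₂)

/-- The normaliser of `⟨ω ⊗ 1⟩`, i.e. `ΓL_{n₂}(4)`. -/
def KK (hq : Fintype.card F = 2) (n₂ : ℕ) : Subgroup (GL (Fin 2 × Fin n₂) F) where
  carrier := {g | g * Zg hq n₂ = Zg hq n₂ * g ∨ g * Zg hq n₂ = Zg hq n₂ * Zg hq n₂ * g}
  one_mem' := Or.inl (by rw [one_mul, mul_one])
  mul_mem' {g h} hg hh := norm_mul _ (Zg_cube hq n₂) g h hg hh
  inv_mem' {g} hg := norm_inv _ (Zg_cube hq n₂) g hg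

theorem kron_le_KK (hq : Fintype.card F = 2) (n₂ : ℕ) :
    Cfsg.Geo.kroneckerSubgroup 2 n₂ F ≤ KK hq n₂ := by
  intro g hg
  obtain ⟨a, b, hg⟩ := hg
  have hdet : (a : Matrix (Fin 2) (Fin 2) F).det ≠ 0 :=
    isUnit_iff_ne_zero.mp ((Matrix.isUnit_iff_isUnit_det _).mp a.isUnit)
  rcases gl2_norm hq _ hdet with h | h
  · left
    apply Units.ext
    rw [Units.val_mul, Units.val_mul, hg]
    show _ * Zm F n₂ = Zm F n₂ * _
    unfold Zm
    rw [← Matrix.mul_kronecker_mul, ← Matrix.mul_kronecker_mul, h, mul_one, one_mul]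
  · right
    apply Units.ext
    rw [Units.val_mul, Units.val_mul, Units.val_mul, hg]
    show _ * Zm F n₂ = Zm F n₂ * Zm F n₂ * _
    unfold Zm
    rw [← Matrix.mul_kronecker_mul, ← Matrix.mul_kronecker_mul, ← Matrix.mul_kronecker_mul, h,
      mul_one, one_mul, one_mul]


/-- `ω ⊗ E_{i0 i1}`. -/
def Xm (F : Type*) [Field F] {n₂ : ℕ} (i0 i1 : Fin n₂) : Matrix (Fin 2 × Fin n₂) (Fin 2 × Fin n₂) F :=
  om F ⊗ₖ (Matrix.single i0 i1 (1 : F))

theorem Xm_sq {n₂ : ℕ} (i0 i1 : Fin n₂) (h : i0 ≠ i1) : Xm F i0 i1 * Xm F i0 i1 = 0 := by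
  unfold Xm
  rw [← Matrix.mul_kronecker_mul, Matrix.single_mul_single_of_ne (h := Ne.symm h)]
  exact Matrix.kroneckerMap_zero_right _ (fun _ => mul_zero _) _

theorem mat_add_self (hq : Fintype.card F = 2) {ι : Type*} (X : Matrix ι ι F) : X + X = 0 := by
  ext i j
  exact f2_add_self hq _

theorem one_add_sq (hq : Fintype.card F = 2) {ι : Type*} [Fintype ι] [DecidableEq ι]
    (X : Matrix ι ι F) (hX : X * X = 0) : (1 + X) * (1 + X) = 1 := by
  rw [add_mul, one_mul, mul_add, mul_one, hX, add_zero, add_assoc, mat_add_self hq, add_zero]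

theorem Xm_comm {n₂ : ℕ} (i0 i1 : Fin n₂) : Xm F i0 i1 * Zm F n₂ = Zm F n₂ * Xm F i0 i1 := by
  unfold Xm Zm
  rw [← Matrix.mul_kronecker_mul, ← Matrix.mul_kronecker_mul, mul_one, one_mul]

def Yg (hq : Fintype.card F = 2) {n₂ : ℕ} (i0 i1 : Fin n₂) (h : i0 ≠ i1) : GL (Fin 2 × Fin n₂) F :=
  ⟨1 + Xm F i0 i1, 1 + Xm F i0 i1, one_add_sq hq _ (Xm_sq i0 i1 h), one_add_sq hq _ (Xm_sq i0 i1 h)⟩

theorem Yg_mem (hq : Fintype.card F = 2) {n₂ : ℕ} (i0 i1 : Fin n₂) (h : i0 ≠ i1) :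
    Yg hq i0 i1 h ∈ KK hq n₂ := by
  left
  apply Units.ext
  rw [Units.val_mul, Units.val_mul]
  show (1 + Xm F i0 i1) * Zm F n₂ = Zm F n₂ * (1 + Xm F i0 i1)
  rw [add_mul, mul_add, one_mul, mul_one, Xm_comm]

theorem Yg_not_kron (hq : Fintype.card F = 2) {n₂ : ℕ} (i0 i1 : Fin n₂) (h : i0 ≠ i1) :
    Yg hq i0 i1 h ∉ Cfsg.Geo.kroneckerSubgroup 2 n₂ F := by
  rintro ⟨a, b, hab⟩
  have hY : ∀ i k j l, (if (i, k) = (j, l) then (1 : F) else 0) +
      om F i j * (Matrix.single i0 i1 (1 : F)) k l =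
      (a : Matrix (Fin 2) (Fin 2) F) i j * (b : Matrix (Fin n₂) (Fin n₂) F) k l := by
    intro i k j l
    have := congr_fun (congr_fun hab (i, k)) (j, l)
    rw [Matrix.kroneckerMap_apply] at this
    rw [← this]
    show _ = (1 + Xm F i0 i1) (i, k) (j, l)
    rw [Matrix.add_apply, Matrix.one_apply]
    rfl
  have h1 := hY 0 i0 0 i0
  have h2 := hY 0 i0 0 i1
  have h3 := hY 0 i0 1 i1
  simp [om, Matrix.single_apply, h] at h1 h2 h3
  rcases h2 with h2 | h2
  · rw [h2] at h1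
    simp at h1
  · rw [h2] at h3
    simp at h3

/-- The transvection `1 + E_{(0,i0),(0,i1)}`. -/
def tm (F : Type*) [Field F] {n₂ : ℕ} (i0 i1 : Fin n₂) : Matrix (Fin 2 × Fin n₂) (Fin 2 × Fin n₂) F :=
  Matrix.single ((0 : Fin 2), i0) ((0 : Fin 2), i1) (1 : F)

theorem tm_sq {n₂ : ℕ} (i0 i1 : Fin n₂) (h : i0 ≠ i1) : tm F i0 i1 * tm F i0 i1 = 0 := by
  unfold tm
  rw [Matrix.single_mul_single_of_ne]
  intro h'
  exact h (Prod.ext_iff.mp h').2.symm

def tg (hq : Fintype.card F = 2) {n₂ : ℕ} (i0 i1 : Fin n₂) (h : i0 ≠ i1) : GL (Fin 2 × Fin n₂) F :=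
  ⟨1 + tm F i0 i1, 1 + tm F i0 i1, one_add_sq hq _ (tm_sq i0 i1 h), one_add_sq hq _ (tm_sq i0 i1 h)⟩

theorem tg_not_mem (hq : Fintype.card F = 2) {n₂ : ℕ} (i0 i1 : Fin n₂) (h : i0 ≠ i1) :
    tg hq i0 i1 h ∉ KK hq n₂ := by
  have h2' : (1 : F) + 1 = 0 := f2_add_self hq 1
  have key1 : ((1 + tm F i0 i1) * Zm F n₂) ((0 : Fin 2), i0) ((1 : Fin 2), i1) = 1 := by
    rw [add_mul, one_mul, Matrix.add_apply]
    unfold tm
    rw [Matrix.single_mul_apply_same]
    simp [Zm, om, Matrix.kroneckerMap_apply, h]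
  have key2 : ∀ A : Matrix (Fin 2) (Fin 2) F,
      ((A ⊗ₖ (1 : Matrix (Fin n₂) (Fin n₂) F)) * (1 + tm F i0 i1)) ((0 : Fin 2), i0) ((1 : Fin 2), i1) = 0 := by
    intro A
    rw [mul_add, mul_one, Matrix.add_apply]
    unfold tm
    rw [Matrix.mul_single_apply_of_ne]
    · simp [Matrix.kroneckerMap_apply, h]
    · intro h'
      have h'' : (1 : Fin 2) = 0 := (Prod.ext_iff.mp h').1
      exact absurd h'' (by decide)
  rintro (hh | hh)
  · have h1 := congrArg (fun g : GL (Fin 2 × Fin n₂) F =>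
      (g : Matrix (Fin 2 × Fin n₂) (Fin 2 × Fin n₂) F) ((0 : Fin 2), i0) ((1 : Fin 2), i1)) hh
    simp only [Units.val_mul] at h1
    change ((1 + tm F i0 i1) * Zm F n₂) _ _ = (Zm F n₂ * (1 + tm F i0 i1)) _ _ at h1
    rw [key1] at h1
    unfold Zm at h1
    rw [key2] at h1
    exact one_ne_zero h1
  · have h1 := congrArg (fun g : GL (Fin 2 × Fin n₂) F =>
      (g : Matrix (Fin 2 × Fin n₂) (Fin 2 × Fin n₂) F) ((0 : Fin 2), i0) ((1 : Fin 2), i1)) hh
    simp only [Units.val_mul] at h1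
    change ((1 + tm F i0 i1) * Zm F n₂) _ _ = (Zm F n₂ * Zm F n₂ * (1 + tm F i0 i1)) _ _ at h1
    rw [key1] at h1
    unfold Zm at h1
    rw [← Matrix.mul_kronecker_mul, one_mul, key2] at h1
    exact one_ne_zero h1


theorem tensor2_not_max (n : ℕ) (hn : 13 ≤ n) (hq : Fintype.card F = 2) (n₂ : ℕ)
    (e : Fin n ≃ Fin 2 × Fin n₂) (P : GL (Fin n) F) :
    ∃ K : Subgroup (GL (Fin n) F),
      Cfsg.Geo.tensorProductSubgroup 2 n₂ e P ⊓ Cfsg.Geo.specialLinear (Fin n) F < K ∧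
        K < Cfsg.Geo.specialLinear (Fin n) F := by
  rw [SL_eq_top hq, inf_top_eq]
  have hcard : n = 2 * n₂ := by
    have := Fintype.card_congr e
    simpa using this
  have h2 : 2 ≤ n₂ := by omega
  obtain ⟨i0, hi0⟩ : ∃ i : Fin n₂, i = ⟨0, by omega⟩ := ⟨_, rfl⟩
  obtain ⟨i1, hi1⟩ : ∃ i : Fin n₂, i = ⟨1, by omega⟩ := ⟨_, rfl⟩
  have h01 : i0 ≠ i1 := by
    intro h
    have := congrArg Fin.val h
    rw [hi0, hi1] at this
    simp at this
  obtain ⟨Ψ, hΨd⟩ : ∃ Ψ : GL (Fin 2 × Fin n₂) F →* GL (Fin n) F,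
      Ψ = (MulAut.conj P).toMonoidHom.comp (Cfsg.Geo.glReindex e.symm).toMonoidHom := ⟨_, rfl⟩
  have hΨ : Function.Injective Ψ := by
    rw [hΨd]
    exact (MulAut.conj P).injective.comp (Cfsg.Geo.glReindex e.symm).injective
  have hT : Cfsg.Geo.tensorProductSubgroup 2 n₂ e P = (Cfsg.Geo.kroneckerSubgroup 2 n₂ F).map Ψ := by
    unfold Cfsg.Geo.tensorProductSubgroup
    rw [Subgroup.map_map, hΨd]
  refine ⟨(KK hq n₂).map Ψ, ?_, ?_⟩
  · rw [hT]
    refine lt_of_le_of_ne (Subgroup.map_mono (kron_le_KK hq n₂)) ?_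
    intro heq
    have hmem : Ψ (Yg hq i0 i1 h01) ∈ (Cfsg.Geo.kroneckerSubgroup 2 n₂ F).map Ψ := by
      rw [heq]
      exact Subgroup.mem_map_of_mem _ (Yg_mem hq i0 i1 h01)
    obtain ⟨x, hx, hxe⟩ := hmem
    rw [hΨ hxe] at hx
    exact Yg_not_kron hq i0 i1 h01 hx
  · refine lt_of_le_of_ne le_top ?_
    intro heq
    have hmem : Ψ (tg hq i0 i1 h01) ∈ (KK hq n₂).map Ψ := by
      rw [heq]
      trivial
    obtain ⟨x, hx, hxe⟩ := hmem
    rw [hΨ hxe] at hx
    exact tg_not_mem hq i0 i1 h01 hx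

end Cfsg.Agent.helper29.Tens2
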