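import Mathlib
import Cfsg.Agent.Lib_helper29_USU3
import Cfsg.Prelude.Def_SporadicB

set_option autoImplicit false
set_option linter.unusedSectionVars false
set_option linter.unusedVariables false

namespace Cfsg.Agent.helper29

open Matrix Cfsg Cfsg.Agent.helper11.HermCount Cfsg.Agent.helper11.Unitary

section u3t

variable {F : Type*} [Field F] [Fintype F] {q n : ℕ}

local notation "hf" => Cfsg.hermForm n F q
local notation "VV" => (Fin n → F)
local notation "MM" => Matrix (Fin n) (Fin n) F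

theorem rank_TTu (hF : Fintype.card F = q ^ 2) (x : VV) (c : F) (hx0 : x ≠ 0) (hxx : hf x x = 0)
    (hc : c ≠ 0) : (((TTu q x c : GL (Fin n) F) : MM) - 1).rank = 1 := by
  classical
  unfold Matrix.rank
  obtain ⟨y, -, hyy, hxy⟩ := exists_partner_u hF ⊤ (ndeg_top hF) x trivial hx0 hxx
  have hyx := herm_yx_of_xy hF x y hxy
  have hform : ∀ u : VV, (((TTu q x c : GL (Fin n) F) : MM) - 1).mulVecLin u = (c * hf u x) • x := by
    intro u
    rw [Matrix.mulVecLin_apply, Matrix.sub_mulVec, Matrix.one_mulVec, TTu_mulVec x c hxx]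
    abel
  have hxr : x ∈ LinearMap.range (((TTu q x c : GL (Fin n) F) : MM) - 1).mulVecLin := by
    refine ⟨c⁻¹ • y, ?_⟩
    rw [hform, herm_smul_left, hyx, mul_one, mul_inv_cancel₀ hc, one_smul]
  rw [finrank_eq_one_iff']
  refine ⟨⟨x, hxr⟩, ?_, ?_⟩
  · intro e
    exact hx0 (congrArg Subtype.val e)
  · rintro ⟨w, u, rfl⟩
    refine ⟨c * hf u x, ?_⟩
    apply Subtype.ext
    exact (hform u).symm

/-- a determinant one matrix with `g - 1` of rank one has `(g - 1)^2 = 0` -/
theorem sq_zero_of_rank_one (A : MM) (hdet : A.det = 1) (hrank : (A - 1).rank = 1) :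
    (A - 1) * (A - 1) = 0 := by
  classical
  unfold Matrix.rank at hrank
  obtain ⟨⟨x, hxr⟩, hx0, hall⟩ := finrank_eq_one_iff'.mp hrank
  have hx0' : x ≠ 0 := by
    intro e
    apply hx0
    exact Subtype.ext e
  have hc : ∀ u : VV, ∃ c : F, (A - 1) *ᵥ u = c • x := by
    intro u
    obtain ⟨c, hc⟩ := hall ⟨(A - 1).mulVecLin u, LinearMap.mem_range_self _ u⟩
    exact ⟨c, (congrArg Subtype.val hc).symm⟩
  choose c hc using hc
  obtain ⟨i₀, hi₀⟩ : ∃ i₀, x i₀ ≠ 0 := by
    by_contra h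
    push Not at h
    exact hx0' (funext h)
  obtain ⟨φ, hφ⟩ : ∃ φ : VV, φ = fun j => (A - 1) i₀ j / x i₀ := ⟨_, rfl⟩
  have hφc : ∀ j, φ j = c (Pi.single j 1) := by
    intro j
    have h1 := congrFun (hc (Pi.single j 1)) i₀
    rw [Matrix.mulVec_single_one] at h1
    simp only [Matrix.col_apply, Pi.smul_apply, smul_eq_mul] at h1
    rw [hφ]
    simp only
    rw [h1, mul_div_assoc, div_self hi₀, mul_one]
  have hA : A - 1 = Matrix.vecMulVec x φ := by
    ext i j
    have h1 := congrFun (hc (Pi.single j 1)) i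
    rw [Matrix.mulVec_single_one] at h1
    simp only [Matrix.col_apply, Pi.smul_apply, smul_eq_mul] at h1
    rw [Matrix.vecMulVec_apply, hφc j, h1, mul_comm]
  have hA' : A = 1 + Matrix.vecMulVec x φ := by rw [← hA]; abel
  rw [hA', det_one_add_vecMulVec] at hdet
  have hφx : φ ⬝ᵥ x = 0 := by linear_combination hdet
  rw [hA, Matrix.vecMulVec_mul_vecMulVec, hφx, zero_smul]
  ext i j
  simp [Matrix.vecMulVec_apply]

theorem two_eq_zero_of_card (hF : Fintype.card F = 2 ^ 2) : (1 : F) + 1 = 0 := by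
  obtain ⟨p, j, hp, hc, hj⟩ := exists_char_pow hF
  have := Fact.mk hp
  have hdvd : p ∣ 2 := by
    have h1 : p ∣ p ^ j := by
      apply dvd_pow_self
      intro h0
      rw [h0, pow_zero] at hj
      omega
    rw [← hj] at h1
    exact h1
  have hp2 : p = 2 := (Nat.prime_dvd_prime_iff_eq hp Nat.prime_two).mp hdvd
  subst hp2
  have := CharP.cast_eq_zero F 2
  have h2 : ((2 : ℕ) : F) = 1 + 1 := by norm_num
  rw [← h2]; exact this

theorem SU2_three_transp (hF : Fintype.card F = 2 ^ 2) (hn : 4 ≤ n) :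
    Cfsg.IsThreeTranspositionClass {g : ↥(Cfsg.SU n F 2) |
      (((g : Matrix.SpecialLinearGroup (Fin n) F) : Matrix (Fin n) (Fin n) F) - 1).rank = 1} := by
  classical
  have h2 : (1 : F) + 1 = 0 := two_eq_zero_of_card hF
  have hneg : ∀ a : F, -a = a := by
    intro a
    have : a + a = 0 := by linear_combination a * h2
    linear_combination -this
  have hD : ∀ g : ↥(Cfsg.SU n F 2),
      g ∈ {g : ↥(Cfsg.SU n F 2) |
        (((g : Matrix.SpecialLinearGroup (Fin n) F) : Matrix (Fin n) (Fin n) F) - 1).rank = 1} ↔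
      ∃ x : Fin n → F, x ≠ 0 ∧ Cfsg.hermForm n F 2 x x = 0 ∧ suToGL n F 2 g = TTu 2 x 1 := by
    intro g
    constructor
    · intro hg
      have hg' : ((suToGL n F 2 g : GL (Fin n) F) : Matrix (Fin n) (Fin n) F) - 1 =
          ((g : Matrix.SpecialLinearGroup (Fin n) F) : Matrix (Fin n) (Fin n) F) - 1 := rfl
      have hrank : (((suToGL n F 2 g : GL (Fin n) F) : Matrix (Fin n) (Fin n) F) - 1).rank = 1 := hg
      have hS := suToGL_mem g
      have hdet := (mem_SL _).mp (Subgroup.mem_inf.mp hS).2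
      have hsq := sq_zero_of_rank_one _ hdet hrank
      obtain ⟨x, lam, hx0, hxx, hl0, hl, hform⟩ :=
        transv_form hF _ (Subgroup.mem_inf.mp hS).1 hrank hsq
      refine ⟨x, hx0, hxx, ?_⟩
      rw [hform]
      congr 1
      rw [hneg] at hl
      have : lam * (lam - 1) = 0 := by rw [pow_two] at hl; linear_combination hl
      rcases mul_eq_zero.mp this with h | h
      · exact absurd h hl0
      · linear_combination h
    · rintro ⟨x, hx0, hxx, hg⟩
      have := rank_TTu hF x 1 hx0 hxx one_ne_zero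
      rw [← hg] at this
      exact this
  have hsqT : ∀ x : Fin n → F, Cfsg.hermForm n F 2 x x = 0 →
      (TTu 2 x 1 : GL (Fin n) F) * TTu 2 x 1 = 1 := by
    intro x hxx
    rw [TTu_mul x 1 1 hxx, h2, TTu_zero]
  refine ⟨⟨?_, ?_⟩, ?_, ?_⟩
  · intro d hd
    obtain ⟨x, hx0, hxx, hdx⟩ := (hD d).mp hd
    apply orderOf_eq_prime
    · apply suToGL_inj
      rw [pow_two, map_mul, hdx, hsqT x hxx, map_one]
    · intro h1
      have hd' : (((d : Matrix.SpecialLinearGroup (Fin n) F) : Matrix (Fin n) (Fin n) F)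
          - 1).rank = 1 := hd
      rw [h1] at hd'
      simp at hd'
  · intro d hd e he
    obtain ⟨x, hx0, hxx, hdx⟩ := (hD d).mp hd
    obtain ⟨y, hy0, hyy, hey⟩ := (hD e).mp he
    have hDD := hsqT x hxx
    have hEE := hsqT y hyy
    have hDinv : (TTu 2 x 1 : GL (Fin n) F)⁻¹ = TTu 2 x 1 := inv_eq_of_mul_eq_one_right hDD
    have hEinv : (TTu 2 y 1 : GL (Fin n) F)⁻¹ = TTu 2 y 1 := inv_eq_of_mul_eq_one_right hEE
    by_cases hxy : Cfsg.hermForm n F 2 x y = 0
    · left
      have hyx := herm_eq_zero_symm hF _ _ hxy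
      have hcomm : (TTu 2 x 1 : GL (Fin n) F) * TTu 2 y 1 = TTu 2 y 1 * TTu 2 x 1 := by
        apply gl_ext'
        intro v
        rw [gl_mul_mulVec, gl_mul_mulVec, TTu_mulVec y 1 hyy, TTu_mulVec x 1 hxx,
          TTu_mulVec x 1 hxx, TTu_mulVec y 1 hyy]
        simp only [herm_add_left, herm_smul_left, hxy, hyx]
        module
      apply suToGL_inj
      rw [pow_two, map_mul, map_mul, hdx, hey, map_one]
      calc (TTu 2 x 1 : GL (Fin n) F) * TTu 2 y 1 * (TTu 2 x 1 * TTu 2 y 1)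
          = TTu 2 x 1 * (TTu 2 y 1 * TTu 2 x 1) * TTu 2 y 1 := by simp only [mul_assoc]
        _ = TTu 2 x 1 * (TTu 2 x 1 * TTu 2 y 1) * TTu 2 y 1 := by rw [hcomm]
        _ = (TTu 2 x 1 * TTu 2 x 1) * (TTu 2 y 1 * TTu 2 y 1) := by simp only [mul_assoc]
        _ = 1 := by rw [hDD, hEE, one_mul]
    · right
      obtain ⟨β, hβ⟩ : ∃ β : F, β = Cfsg.hermForm n F 2 x y := ⟨_, rfl⟩
      have hβ0 : β ≠ 0 := by rw [hβ]; exact hxy
      have hβ3 : β ^ 3 = 1 := by
        have := FiniteField.pow_card_sub_one_eq_one β hβ0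
        rw [hF] at this
        exact this
      have hyx : Cfsg.hermForm n F 2 y x = β ^ 2 := by rw [hβ, herm_conj hF]
      have hDGU : (TTu 2 x 1 : GL (Fin n) F) ∈ Cfsg.GU n F 2 :=
        TTu_mem_GU hF x 1 hxx (by rw [one_pow, hneg])
      have hEGU : (TTu 2 y 1 : GL (Fin n) F) ∈ Cfsg.GU n F 2 :=
        TTu_mem_GU hF y 1 hyy (by rw [one_pow, hneg])
      have hc1 := conj_TTu _ hDGU y 1 hyy
      have hc2 := conj_TTu _ hEGU x 1 hxx
      rw [TTu_mulVec x 1 hxx, hyx, one_mul] at hc1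
      rw [TTu_mulVec y 1 hyy, ← hβ, one_mul] at hc2
      have hvec : x + β • y = β • (y + β ^ 2 • x) := by
        rw [smul_add, smul_smul]
        have : β * β ^ 2 = 1 := by rw [← hβ3]; ring
        rw [this, one_smul, add_comm]
      have hiso : Cfsg.hermForm n F 2 (y + β ^ 2 • x) (y + β ^ 2 • x) = 0 := by
        have := gu_herm _ hDGU y y
        rw [TTu_mulVec x 1 hxx, hyx, one_mul, hyy] at this
        exact this
      have hconj : (TTu 2 x 1 : GL (Fin n) F) * TTu 2 y 1 * (TTu 2 x 1)⁻¹ =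
          TTu 2 y 1 * TTu 2 x 1 * (TTu 2 y 1)⁻¹ := by
        rw [hc1, hc2, hvec, TTu_smul β _ 1 hiso]
        congr 1
        rw [mul_one, ← hβ3]; ring
      rw [hDinv, hEinv] at hconj
      apply suToGL_inj
      rw [map_pow, map_mul, hdx, hey, map_one]
      calc ((TTu 2 x 1 : GL (Fin n) F) * TTu 2 y 1) ^ 3
          = (TTu 2 x 1 * TTu 2 y 1 * TTu 2 x 1) * (TTu 2 y 1 * TTu 2 x 1 * TTu 2 y 1) := by
            rw [pow_succ, pow_two]; simp only [mul_assoc]
        _ = (TTu 2 y 1 * TTu 2 x 1 * TTu 2 y 1) * (TTu 2 y 1 * TTu 2 x 1 * TTu 2 y 1) := by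
            rw [hconj]
        _ = TTu 2 y 1 * TTu 2 x 1 * (TTu 2 y 1 * TTu 2 y 1) * TTu 2 x 1 * TTu 2 y 1 := by
            simp only [mul_assoc]
        _ = TTu 2 y 1 * (TTu 2 x 1 * TTu 2 x 1) * TTu 2 y 1 := by
            rw [hEE]; simp only [mul_assoc, mul_one]
        _ = 1 := by rw [hDD, mul_one, hEE]
  · have hfr : 2 ≤ Module.finrank F (⊤ : Submodule F (Fin n → F)) := by
      rw [finrank_top, Module.finrank_fin_fun]; omega
    obtain ⟨x₀, -, hx₀0, hx₀⟩ := exists_isotropic hF (⊤ : Submodule F (Fin n → F)) hfr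
    have hone : (1 : F) ^ 2 = -1 := by rw [one_pow, hneg]
    obtain ⟨d₀, hd₀⟩ := suToGL_surj (TTu 2 x₀ 1) (TTu_mem_SUG hF x₀ 1 hx₀ hone)
    refine ⟨d₀, (hD d₀).mpr ⟨x₀, hx₀0, hx₀, hd₀⟩, ?_⟩
    ext g
    show _ ↔ IsConj d₀ g
    rw [isConj_iff]
    constructor
    · intro hg
      obtain ⟨x, hx0, hxx, hgx⟩ := (hD g).mp hg
      obtain ⟨t, ht, hconj⟩ := TTu_conj hF (by omega) x₀ x 1 1 hx₀0 hx0 hx₀ hxx one_ne_zero
        one_ne_zero hone hone
      obtain ⟨t', ht'⟩ := suToGL_surj t (TUin_le_SUG hF _ ht)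
      refine ⟨t', ?_⟩
      apply suToGL_inj
      rw [map_mul, map_mul, map_inv, ht', hd₀, hconj, hgx]
    · rintro ⟨c, hc⟩
      apply (hD g).mpr
      have hcGU := (Subgroup.mem_inf.mp (suToGL_mem c)).1
      refine ⟨((suToGL n F 2 c : GL (Fin n) F) : Matrix (Fin n) (Fin n) F) *ᵥ x₀, ?_, ?_, ?_⟩
      · intro h0
        apply hx₀0
        have := gl_inv_mulVec (suToGL n F 2 c) x₀
        rw [h0, Matrix.mulVec_zero] at this
        exact this.symm
      · rw [gu_herm _ hcGU, hx₀]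
      · rw [← hc, map_mul, map_mul, map_inv, hd₀, conj_TTu _ hcGU x₀ 1 hx₀]
  · rw [eq_top_iff, ← SU_closure_transv hF (by omega : 3 ≤ n) (by omega), Subgroup.closure_le]
    rintro A ⟨v, c, hv0, hA⟩
    have hAone : ((A : Matrix.SpecialLinearGroup (Fin n) F) : Matrix (Fin n) (Fin n) F) = 1 →
        A ∈ Subgroup.closure {g : ↥(Cfsg.SU n F 2) |
          (((g : Matrix.SpecialLinearGroup (Fin n) F) : Matrix (Fin n) (Fin n) F) - 1).rank = 1} := by
      intro h1
      have : A = 1 := by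
        apply Subtype.ext
        apply Subtype.ext
        exact h1
      rw [this]
      exact Subgroup.one_mem _
    by_cases hv : v = 0
    · apply hAone
      rw [hA, hv]
      unfold Cfsg.unitaryTransvection
      simp
    by_cases hc0 : c = 0
    · apply hAone
      rw [hA, hc0]
      unfold Cfsg.unitaryTransvection
      simp
    apply Subgroup.subset_closure
    have := rank_TTu hF v c hv hv0 hc0
    rw [TTu_val v c hv0, ← hA] at this
    exact this

end u3t

end Cfsg.Agent.helper29
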