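import Mathlib
import Cfsg.Agent.Lib_helper29_URoot

set_option autoImplicit false
set_option linter.unusedSectionVars false
set_option linter.unusedVariables false

namespace Cfsg.Agent.helper29.URoot

open Matrix Cfsg Cfsg.Agent.helper11.HermCount Cfsg.Agent.helper11.Unitary Cfsg.Agent.helper29
open Cfsg.Agent.helper29.SL2gen
open scoped commutatorElement

universe u
variable {F : Type u} [Field F] [Fintype F] {q n : ℕ}

local notation "hf" => Cfsg.hermForm n F q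
local notation "VV" => (Fin n → F)
local notation "MM" => Matrix (Fin n) (Fin n) F

/-- the fixed field of `x ↦ x ^ q` -/
def K0 (hF : Fintype.card F = q ^ 2) : Subfield F where
  carrier := {x | x ^ q = x}
  mul_mem' := by
    intro a b ha hb
    show (a * b) ^ q = a * b
    rw [mul_pow, ha, hb]
  one_mem' := one_pow q
  add_mem' := by
    intro a b ha hb
    show (a + b) ^ q = a + b
    rw [add_pow_q hF, ha, hb]
  zero_mem' := zero_pow (q_ne_zero hF)
  neg_mem' := by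
    intro a ha
    show (-a) ^ q = -a
    rw [negq hF, ha]
  inv_mem' := by
    intro a ha
    show (a⁻¹) ^ q = a⁻¹
    rw [inv_pow, ha]

theorem mem_K0 (hF : Fintype.card F = q ^ 2) {x : F} : x ∈ K0 hF ↔ x ^ q = x := Iff.rfl

theorem card_K0 (hF : Fintype.card F = q ^ 2) : Nat.card ↥(K0 hF) = q := by
  obtain ⟨ε, hε0, hε⟩ := exists_eps hF
  have hεq0 : ε ^ q ≠ 0 := pow_ne_zero q hε0
  refine Eq.trans (Nat.card_congr ?_) (Cfsg.Agent.helper11.HermLines.card_trace_fiber hF 0 (zero_pow (q_ne_zero hF)))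
  exact
    { toFun := fun x => ⟨ε * x.1, by
        have hx : x.1 ^ q = x.1 := x.2
        rw [mul_pow, hε, hx]
        ring⟩
      invFun := fun κ => ⟨κ.1 / ε, by
        show (κ.1 / ε) ^ q = κ.1 / ε
        have hκ : κ.1 ^ q = -κ.1 := by linear_combination κ.2
        rw [div_pow, hκ, hε, neg_div_neg_eq]⟩
      left_inv := fun x => by
        apply Subtype.ext
        show ε * x.1 / ε = x.1
        field_simp
      right_inv := fun κ => by
        apply Subtype.ext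
        show ε * (κ.1 / ε) = κ.1
        field_simp }

/-- a field with `q` elements in `Type` -/
abbrev LL0 (hF : Fintype.card F = q ^ 2) : Type := Shrink.{0} ↥(K0 hF)

/-- the embedding of the small field into `F` -/
noncomputable def psi (hF : Fintype.card F = q ^ 2) : LL0 hF →+* F :=
  (K0 hF).subtype.comp (@Shrink.ringEquiv.{0, u} ↥(K0 hF) _ _ _).toRingHom

theorem psi_fixed (hF : Fintype.card F = q ^ 2) (t : LL0 hF) : (psi hF t) ^ q = psi hF t :=
  ((@Shrink.ringEquiv.{0, u} ↥(K0 hF) _ _ _) t).2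

theorem psi_surj (hF : Fintype.card F = q ^ 2) (x : F) (hx : x ^ q = x) : ∃ t : LL0 hF, psi hF t = x := by
  refine ⟨(@Shrink.ringEquiv.{0, u} ↥(K0 hF) _ _ _).symm ⟨x, hx⟩, ?_⟩
  show ((@Shrink.ringEquiv.{0, u} ↥(K0 hF) _ _ _) ((@Shrink.ringEquiv.{0, u} ↥(K0 hF) _ _ _).symm ⟨x, hx⟩)).1 = x
  rw [RingEquiv.apply_symm_apply]

theorem psi_inj (hF : Fintype.card F = q ^ 2) : Function.Injective (psi hF) :=
  (psi hF).injective

theorem card_LL0 (hF : Fintype.card F = q ^ 2) : Nat.card (LL0 hF) = q := by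
  exact (Nat.card_congr (equivShrink _).symm).trans (card_K0 hF)


/-! ### the plane embedding -/

/-- The matrix of the action of a `2 × 2` matrix on the hyperbolic plane `⟨p, p''⟩`, extended by the
identity on the orthogonal complement. -/
def PhiU (q : ℕ) (p p'' : Fin n → F) (M : Matrix (Fin 2) (Fin 2) F) : Matrix (Fin n) (Fin n) F :=
  1 + Matrix.vecMulVec p ((M 0 0 - 1) • (fun j => p'' j ^ q) + M 0 1 • (fun j => p j ^ q))
    + Matrix.vecMulVec p'' (M 1 0 • (fun j => p'' j ^ q) + (M 1 1 - 1) • (fun j => p j ^ q))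

theorem pow_dot (x v : VV) : (fun j => x j ^ q) ⬝ᵥ v = hf v x := by
  unfold Cfsg.hermForm dotProduct
  apply Finset.sum_congr rfl
  intro j _
  ring

theorem PhiU_mulVec (p p'' : VV) (M : Matrix (Fin 2) (Fin 2) F) (v : VV) :
    PhiU q p p'' M *ᵥ v = v + ((M 0 0 - 1) * hf v p'' + M 0 1 * hf v p) • p +
      (M 1 0 * hf v p'' + (M 1 1 - 1) * hf v p) • p'' := by
  unfold PhiU
  rw [Matrix.add_mulVec, Matrix.add_mulVec, Matrix.one_mulVec, Matrix.vecMulVec_mulVec,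
    Matrix.vecMulVec_mulVec, op_smul_eq_smul, op_smul_eq_smul]
  simp only [add_dotProduct, smul_dotProduct, smul_eq_mul, pow_dot]

theorem PhiU_mul (hF : Fintype.card F = q ^ 2) (p p'' : VV) (hp : hf p p = 0) (hp'' : hf p'' p'' = 0)
    (h : hf p p'' = 1) (M N : Matrix (Fin 2) (Fin 2) F) :
    PhiU q p p'' (M * N) = PhiU q p p'' M * PhiU q p p'' N := by
  have h' : hf p'' p = 1 := herm_yx_of_xy hF p p'' h
  rw [Matrix.ext_iff_mulVec]
  intro v
  rw [← Matrix.mulVec_mulVec, PhiU_mulVec p p'' N v, PhiU_mulVec, PhiU_mulVec]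
  simp only [herm_add_left, herm_smul_left, hp, hp'', h, h', Matrix.mul_apply, Fin.sum_univ_two]
  module

theorem PhiU_one (p p'' : VV) : PhiU q p p'' 1 = 1 := by
  rw [Matrix.ext_iff_mulVec]
  intro v
  rw [PhiU_mulVec, Matrix.one_mulVec]
  simp

/-- the twist by `diag(1, ε)` -/
def tw (ε : F) (M : Matrix (Fin 2) (Fin 2) F) : Matrix (Fin 2) (Fin 2) F :=
  !![M 0 0, M 0 1 / ε; ε * M 1 0, M 1 1]

theorem tw_mul (ε : F) (hε : ε ≠ 0) (M N : Matrix (Fin 2) (Fin 2) F) :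
    tw ε (M * N) = tw ε M * tw ε N := by
  unfold tw
  rw [Matrix.mul_fin_two]
  ext i j
  fin_cases i <;> fin_cases j <;>
    simp [Matrix.mul_apply, Fin.sum_univ_two] <;> field_simp

theorem tw_one (ε : F) : tw ε 1 = 1 := by
  unfold tw
  ext i j
  fin_cases i <;> fin_cases j <;> simp


/-- the matrix-level map `SL₂(L) → M_n(F)` -/
noncomputable def phiMat (hF : Fintype.card F = q ^ 2) (ε : F) (hε : ε ≠ 0) (p p'' : VV) (hp : hf p p = 0)
    (hp'' : hf p'' p'' = 0) (h : hf p p'' = 1) :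
    Matrix.SpecialLinearGroup (Fin 2) (LL0 hF) →* Matrix (Fin n) (Fin n) F where
  toFun M := PhiU q p p'' (tw ε ((M : Matrix (Fin 2) (Fin 2) (LL0 hF)).map (psi hF)))
  map_one' := by
    rw [Matrix.SpecialLinearGroup.coe_one, Matrix.map_one _ (map_zero _) (map_one _), tw_one, PhiU_one]
  map_mul' M N := by
    rw [Matrix.SpecialLinearGroup.coe_mul, Matrix.map_mul, tw_mul ε hε, PhiU_mul hF p p'' hp hp'' h]

/-- the embedding of `G0` into `GL` -/
noncomputable def JJ (n : ℕ) (F : Type u) [Field F] [Fintype F] (q : ℕ) : ↥(G0 n F q) →* GL (Fin n) F :=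
  (suToGL n F q).comp (G0 n F q).subtype

theorem JJ_inj : Function.Injective (JJ n F q) :=
  suToGL_inj.comp (Subgroup.subtype_injective _)

theorem JJ_mulVec (g : ↥(G0 n F q)) (v : VV) : ((JJ n F q g : GL (Fin n) F) : MM) *ᵥ v = act g v := rfl

theorem phiMat_mulVec (hF : Fintype.card F = q ^ 2) (ε : F) (hε : ε ≠ 0) (p p'' : VV) (hp : hf p p = 0)
    (hp'' : hf p'' p'' = 0) (h : hf p p'' = 1) (M : Matrix.SpecialLinearGroup (Fin 2) (LL0 hF)) (v : VV) :
    phiMat hF ε hε p p'' hp hp'' h M *ᵥ v =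
      v + ((psi hF ((M : Matrix (Fin 2) (Fin 2) (LL0 hF)) 0 0) - 1) * hf v p'' +
        psi hF ((M : Matrix (Fin 2) (Fin 2) (LL0 hF)) 0 1) / ε * hf v p) • p +
      (ε * psi hF ((M : Matrix (Fin 2) (Fin 2) (LL0 hF)) 1 0) * hf v p'' +
        (psi hF ((M : Matrix (Fin 2) (Fin 2) (LL0 hF)) 1 1) - 1) * hf v p) • p'' := by
  show PhiU q p p'' (tw ε ((M : Matrix (Fin 2) (Fin 2) (LL0 hF)).map (psi hF))) *ᵥ v = _
  rw [PhiU_mulVec]
  rfl

theorem phiMat_UU (hF : Fintype.card F = q ^ 2) (ε : F) (hε : ε ≠ 0) (p p'' : VV) (hp : hf p p = 0)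
    (hp'' : hf p'' p'' = 0) (h : hf p p'' = 1) (t : LL0 hF) (v : VV) :
    phiMat hF ε hε p p'' hp hp'' h (UU t) *ᵥ v = v + (psi hF t / ε * hf v p) • p := by
  rw [phiMat_mulVec]
  show v + ((psi hF (1 : LL0 hF) - 1) * _ + psi hF t / ε * _) • p +
    (ε * psi hF (0 : LL0 hF) * _ + (psi hF (1 : LL0 hF) - 1) * _) • p'' = _
  rw [map_one, map_zero]
  simp

theorem phiMat_LL (hF : Fintype.card F = q ^ 2) (ε : F) (hε : ε ≠ 0) (p p'' : VV) (hp : hf p p = 0)
    (hp'' : hf p'' p'' = 0) (h : hf p p'' = 1) (t : LL0 hF) (v : VV) :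
    phiMat hF ε hε p p'' hp hp'' h (LL t) *ᵥ v = v + (ε * psi hF t * hf v p'') • p'' := by
  rw [phiMat_mulVec]
  show v + ((psi hF (1 : LL0 hF) - 1) * _ + psi hF (0 : LL0 hF) / ε * _) • p +
    (ε * psi hF t * _ + (psi hF (1 : LL0 hF) - 1) * _) • p'' = _
  rw [map_one, map_zero]
  simp

theorem tz_div (hF : Fintype.card F = q ^ 2) {x ε : F} (hx : x ^ q = x) (hε : ε ^ q = -ε) :
    (x / ε) ^ q = -(x / ε) := by
  rw [div_pow, hx, hε, div_neg]

theorem tz_mul' {x ε : F} (hx : x ^ q = x) (hε : ε ^ q = -ε) : (ε * x) ^ q = -(ε * x) := by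
  rw [mul_pow, hx, hε]
  ring

/-- the range of the `GL`-level map lies in the image of `G0` -/
theorem phi1_range (hF : Fintype.card F = q ^ 2) (ε : F) (hε : ε ≠ 0) (hεq : ε ^ q = -ε) (p p'' : VV)
    (hp0 : p ≠ 0) (hp''0 : p'' ≠ 0) (hp : hf p p = 0) (hp'' : hf p'' p'' = 0) (h : hf p p'' = 1) :
    (phiMat hF ε hε p p'' hp hp'' h).toHomUnits.range ≤ (JJ n F q).range := by
  rw [MonoidHom.range_eq_map, ← sl2_gen, upper_eq, lower_eq, Subgroup.map_sup,
    MonoidHom.map_closure, MonoidHom.map_closure, sup_le_iff, Subgroup.closure_le, Subgroup.closure_le]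
  constructor
  · rintro _ ⟨_, ⟨t, rfl⟩, rfl⟩
    refine ⟨tau hF p (psi hF t / ε), ?_⟩
    apply gl_ext'
    intro v
    rw [JJ_mulVec, act_tau hF p hp0 hp _ (tz_div hF (psi_fixed hF t) hεq), MonoidHom.coe_toHomUnits,
      phiMat_UU]
  · rintro _ ⟨_, ⟨t, rfl⟩, rfl⟩
    refine ⟨tau hF p'' (ε * psi hF t), ?_⟩
    apply gl_ext'
    intro v
    rw [JJ_mulVec, act_tau hF p'' hp''0 hp'' _ (tz_mul' (psi_fixed hF t) hεq), MonoidHom.coe_toHomUnits,
      phiMat_LL]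

/-- The embedding of `SL₂(L)` into `G0` attached to a hyperbolic pair of isotropic vectors. -/
noncomputable def phi (hF : Fintype.card F = q ^ 2) (ε : F) (hε : ε ≠ 0) (hεq : ε ^ q = -ε) (p p'' : VV)
    (hp0 : p ≠ 0) (hp''0 : p'' ≠ 0) (hp : hf p p = 0) (hp'' : hf p'' p'' = 0) (h : hf p p'' = 1) :
    Matrix.SpecialLinearGroup (Fin 2) (LL0 hF) →* ↥(G0 n F q) :=
  (MonoidHom.ofInjective (JJ_inj (n := n) (F := F) (q := q))).symm.toMonoidHom.comp
    ((phiMat hF ε hε p p'' hp hp'' h).toHomUnits.codRestrict (JJ n F q).range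
      (fun M => phi1_range hF ε hε hεq p p'' hp0 hp''0 hp hp'' h ⟨M, rfl⟩))

theorem act_phi (hF : Fintype.card F = q ^ 2) (ε : F) (hε : ε ≠ 0) (hεq : ε ^ q = -ε) (p p'' : VV)
    (hp0 : p ≠ 0) (hp''0 : p'' ≠ 0) (hp : hf p p = 0) (hp'' : hf p'' p'' = 0) (h : hf p p'' = 1)
    (M : Matrix.SpecialLinearGroup (Fin 2) (LL0 hF)) (v : VV) :
    act (phi hF ε hε hεq p p'' hp0 hp''0 hp hp'' h M) v = phiMat hF ε hε p p'' hp hp'' h M *ᵥ v := by
  have h1 : JJ n F q (phi hF ε hε hεq p p'' hp0 hp''0 hp hp'' h M) =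
      (phiMat hF ε hε p p'' hp hp'' h).toHomUnits M := by
    unfold phi
    have := MonoidHom.apply_ofInjective_symm (JJ_inj (n := n) (F := F) (q := q))
      ((phiMat hF ε hε p p'' hp hp'' h).toHomUnits.codRestrict (JJ n F q).range
        (fun M => phi1_range hF ε hε hεq p p'' hp0 hp''0 hp hp'' h ⟨M, rfl⟩) M)
    exact this
  rw [← JJ_mulVec, h1, MonoidHom.coe_toHomUnits]


theorem phi_UU (hF : Fintype.card F = q ^ 2) (ε : F) (hε : ε ≠ 0) (hεq : ε ^ q = -ε) (p p'' : VV)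
    (hp0 : p ≠ 0) (hp''0 : p'' ≠ 0) (hp : hf p p = 0) (hp'' : hf p'' p'' = 0) (h : hf p p'' = 1) (t : LL0 hF) :
    phi hF ε hε hεq p p'' hp0 hp''0 hp hp'' h (UU t) = tau hF p (psi hF t / ε) := by
  apply ext_act
  intro v
  rw [act_phi, phiMat_UU, act_tau hF p hp0 hp _ (tz_div hF (psi_fixed hF t) hεq)]

theorem phi_LL (hF : Fintype.card F = q ^ 2) (ε : F) (hε : ε ≠ 0) (hεq : ε ^ q = -ε) (p p'' : VV)
    (hp0 : p ≠ 0) (hp''0 : p'' ≠ 0) (hp : hf p p = 0) (hp'' : hf p'' p'' = 0) (h : hf p p'' = 1) (t : LL0 hF) :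
    phi hF ε hε hεq p p'' hp0 hp''0 hp hp'' h (LL t) = tau hF p'' (ε * psi hF t) := by
  apply ext_act
  intro v
  rw [act_phi, phiMat_LL, act_tau hF p'' hp''0 hp'' _ (tz_mul' (psi_fixed hF t) hεq)]

theorem phi_injective (hF : Fintype.card F = q ^ 2) (ε : F) (hε : ε ≠ 0) (hεq : ε ^ q = -ε) (p p'' : VV)
    (hp0 : p ≠ 0) (hp''0 : p'' ≠ 0) (hp : hf p p = 0) (hp'' : hf p'' p'' = 0) (h : hf p p'' = 1) :
    Function.Injective (phi hF ε hε hεq p p'' hp0 hp''0 hp hp'' h) := by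
  rw [injective_iff_map_eq_one]
  intro M hM
  have h' : hf p'' p = 1 := herm_yx_of_xy hF p p'' h
  have h1 := act_phi hF ε hε hεq p p'' hp0 hp''0 hp hp'' h M p
  have h2 := act_phi hF ε hε hεq p p'' hp0 hp''0 hp hp'' h M p''
  rw [hM, act_one, phiMat_mulVec] at h1 h2
  simp only [hp, hp'', h, h', mul_zero, add_zero, mul_one, zero_add] at h1 h2
  have e1 := congrArg (fun x => hf x p'') h1
  have e2 := congrArg (fun x => hf x p) h1
  have e3 := congrArg (fun x => hf x p'') h2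
  have e4 := congrArg (fun x => hf x p) h2
  simp only [herm_add_left, herm_smul_left, hp, hp'', h, h'] at e1 e2 e3 e4
  have f00 : psi hF ((M : Matrix (Fin 2) (Fin 2) (LL0 hF)) 0 0) = 1 := by linear_combination -e1
  have f10 : psi hF ((M : Matrix (Fin 2) (Fin 2) (LL0 hF)) 1 0) = 0 := by
    have : ε * psi hF ((M : Matrix (Fin 2) (Fin 2) (LL0 hF)) 1 0) = 0 := by linear_combination -e2
    rcases mul_eq_zero.mp this with h3 | h3
    · exact absurd h3 hε
    · exact h3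
  have f01 : psi hF ((M : Matrix (Fin 2) (Fin 2) (LL0 hF)) 0 1) = 0 := by
    have : psi hF ((M : Matrix (Fin 2) (Fin 2) (LL0 hF)) 0 1) / ε = 0 := by linear_combination -e3
    rcases div_eq_zero_iff.mp this with h3 | h3
    · exact h3
    · exact absurd h3 hε
  have f11 : psi hF ((M : Matrix (Fin 2) (Fin 2) (LL0 hF)) 1 1) = 1 := by linear_combination -e4
  apply Subtype.ext
  refine Matrix.ext fun i j => ?_
  apply psi_inj hF
  fin_cases i <;> fin_cases j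
  · show psi hF ((M : Matrix (Fin 2) (Fin 2) (LL0 hF)) 0 0) = psi hF 1
    rw [f00, map_one]
  · show psi hF ((M : Matrix (Fin 2) (Fin 2) (LL0 hF)) 0 1) = psi hF 0
    rw [f01, map_zero]
  · show psi hF ((M : Matrix (Fin 2) (Fin 2) (LL0 hF)) 1 0) = psi hF 0
    rw [f10, map_zero]
  · show psi hF ((M : Matrix (Fin 2) (Fin 2) (LL0 hF)) 1 1) = psi hF 1
    rw [f11, map_one]

theorem map_upper (hF : Fintype.card F = q ^ 2) (ε : F) (hε : ε ≠ 0) (hεq : ε ^ q = -ε) (p p'' : VV)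
    (hp0 : p ≠ 0) (hp''0 : p'' ≠ 0) (hp : hf p p = 0) (hp'' : hf p'' p'' = 0) (h : hf p p'' = 1) :
    (Cfsg.upperUnipotentSL2 (LL0 hF)).map (phi hF ε hε hεq p p'' hp0 hp''0 hp hp'' h) = Tp hF p := by
  rw [upper_eq, MonoidHom.map_closure, Tp]
  congr 1
  ext g
  constructor
  · rintro ⟨_, ⟨t, rfl⟩, rfl⟩
    exact ⟨psi hF t / ε, tz_div hF (psi_fixed hF t) hεq, phi_UU hF ε hε hεq p p'' hp0 hp''0 hp hp'' h t⟩
  · rintro ⟨a, ha, rfl⟩
    have hfix : (a * ε) ^ q = a * ε := by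
      rw [mul_pow, ha, hεq]
      ring
    obtain ⟨t, ht⟩ := psi_surj hF (a * ε) hfix
    refine ⟨UU t, ⟨t, rfl⟩, ?_⟩
    rw [phi_UU hF ε hε hεq p p'' hp0 hp''0 hp hp'' h t, ht]
    congr 1
    field_simp

theorem map_lower (hF : Fintype.card F = q ^ 2) (ε : F) (hε : ε ≠ 0) (hεq : ε ^ q = -ε) (p p'' : VV)
    (hp0 : p ≠ 0) (hp''0 : p'' ≠ 0) (hp : hf p p = 0) (hp'' : hf p'' p'' = 0) (h : hf p p'' = 1) :
    (Cfsg.lowerUnipotentSL2 (LL0 hF)).map (phi hF ε hε hεq p p'' hp0 hp''0 hp hp'' h) = Tp hF p'' := by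
  rw [lower_eq, MonoidHom.map_closure, Tp]
  congr 1
  ext g
  constructor
  · rintro ⟨_, ⟨t, rfl⟩, rfl⟩
    exact ⟨ε * psi hF t, tz_mul' (psi_fixed hF t) hεq, phi_LL hF ε hε hεq p p'' hp0 hp''0 hp hp'' h t⟩
  · rintro ⟨a, ha, rfl⟩
    have hfix : (a / ε) ^ q = a / ε := by
      rw [div_pow, ha, hεq, neg_div_neg_eq]
    obtain ⟨t, ht⟩ := psi_surj hF (a / ε) hfix
    refine ⟨LL t, ⟨t, rfl⟩, ?_⟩
    rw [phi_LL hF ε hε hεq p p'' hp0 hp''0 hp hp'' h t, ht]
    congr 1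
    field_simp

theorem isPSL2Pair (hF : Fintype.card F = q ^ 2) (p p' : VV) (hp : hf p p = 0) (hp' : hf p' p' = 0)
    (hmu : hf p p' ≠ 0) : Cfsg.IsPSL2PairOver (LL0 hF) (Tp hF p) (Tp hF p') := by
  have hp0 := ne_zero_of_form_left hmu
  have hp'0 := ne_zero_of_form_right hF hmu
  obtain ⟨ε, hε, hεq⟩ := exists_eps hF
  obtain ⟨l, hl⟩ : ∃ l : F, l = ((hf p p')⁻¹) ^ q := ⟨_, rfl⟩
  have hl0 : l ≠ 0 := by
    rw [hl]
    exact pow_ne_zero q (inv_ne_zero hmu)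
  obtain ⟨p'', hp''⟩ : ∃ p'' : VV, p'' = l • p' := ⟨_, rfl⟩
  have h : hf p p'' = 1 := by
    rw [hp'', herm_smul_right, hl, pow_q_q hF, inv_mul_cancel₀ hmu]
  have hp''0 : p'' ≠ 0 := by
    rw [hp'']
    exact smul_ne_zero hl0 hp'0
  have hp''i : hf p'' p'' = 0 := by
    rw [hp'']
    exact herm_smul_smul' l p' hp'
  have hT : Tp hF p'' = Tp hF p' := by
    rw [hp'']
    exact Tp_smul hF p' hp'0 hp' l hl0
  refine ⟨phi hF ε hε hεq p p'' hp0 hp''0 hp hp''i h, ?_, ?_, ?_, ?_⟩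
  · rw [MonoidHom.range_eq_map, ← sl2_gen, Subgroup.map_sup,
      map_upper hF ε hε hεq p p'' hp0 hp''0 hp hp''i h, map_lower hF ε hε hεq p p'' hp0 hp''0 hp hp''i h, hT]
  · rw [(MonoidHom.ker_eq_bot_iff _).mpr (phi_injective hF ε hε hεq p p'' hp0 hp''0 hp hp''i h)]
    exact bot_le
  · exact map_upper hF ε hε hεq p p'' hp0 hp''0 hp hp''i h
  · rw [map_lower hF ε hε hεq p p'' hp0 hp''0 hp hp''i h, hT]

theorem isKRoot (hF : Fintype.card F = q ^ 2) : Cfsg.IsKRootSubgroupSet (LL0 hF) (Fam n F q) := by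
  refine ⟨isRootSubgroupSet hF, ?_⟩
  intro A hA B hB hAB
  obtain ⟨p, hp0, hp, rfl⟩ := (mem_Fam hF).mp hA
  obtain ⟨p', hp'0, hp', rfl⟩ := (mem_Fam hF).mp hB
  exact isPSL2Pair hF p p' hp hp' (form_ne_zero_of_rankOnePair hF p p' hp0 hp hp'0 hp' hAB)

theorem main (hF : Fintype.card F = q ^ 2) (hn : 2 ≤ n) :
    Cfsg.IsRootSubgroupClass (Fam n F q) ∧ Cfsg.IsDegenerateRootSet (Fam n F q) ∧
    (∃ (L : Type) (_ : Field L) (_ : Fintype L), Fintype.card L = q ∧ Cfsg.IsKRootSubgroupSet L (Fam n F q)) ∧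
    Cfsg.IsConnectedFamily (Cfsg.FAdj (Fam n F q)) (Fam n F q) := by
  refine ⟨⟨isRootSubgroupSet hF, isConjClass hF hn⟩, isDegenerate hF, ?_, isConnected hF⟩
  letI inst : Fintype (LL0 hF) := Fintype.ofFinite _
  refine ⟨LL0 hF, inferInstance, inst, ?_, isKRoot hF⟩
  rw [← Nat.card_eq_fintype_card]
  exact card_LL0 hF

end Cfsg.Agent.helper29.URoot
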