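import Cfsg.Statements.S0755
-- import your own Cfsg.Agent.* helpers here
import Mathlib

set_option autoImplicit false
open Cfsg

namespace Cfsg.Agent.S0755

section norm
variable {F : Type*} [Field F] [Finite F]

/-- surjectivity of the norm `c ↦ σ c * c` onto the nonzero fixed points of an involution `σ ≠ id`
of a finite field -/
theorem norm_surj (σ : F →+* F) (hσ : σ ≠ RingHom.id F) (hσ2 : ∀ a : F, σ (σ a) = a) (d : F)
    (hd : σ d = d) (hd0 : d ≠ 0) : ∃ c : F, σ c * c = d := by
  classical
  let s : Fˣ →* Fˣ := Units.map σ.toMonoidHom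
  have hs_val : ∀ u : Fˣ, ((s u : Fˣ) : F) = σ (u : F) := fun u => rfl
  have hs2 : ∀ u : Fˣ, s (s u) = u := fun u => Units.ext (by rw [hs_val, hs_val, hσ2])
  let N : Fˣ →* Fˣ :=
    { toFun := fun c => s c * c
      map_one' := by simp
      map_mul' := by intro a b; rw [map_mul]; exact mul_mul_mul_comm _ _ _ _ }
  let H : Fˣ →* Fˣ :=
    { toFun := fun c => c * (s c)⁻¹
      map_one' := by simp
      map_mul' := by intro a b; rw [map_mul, mul_inv]; exact mul_mul_mul_comm _ _ _ _ }
  have hN : ∀ c, N c = s c * c := fun c => rfl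
  have hH : ∀ c, H c = c * (s c)⁻¹ := fun c => rfl
  let K₀ : Subgroup Fˣ := MonoidHom.eqLocus s (MonoidHom.id Fˣ)
  have hK₀ : ∀ u : Fˣ, u ∈ K₀ ↔ s u = u := fun u => Iff.rfl
  -- (a)
  have ha : H.ker = K₀ := by
    ext c
    rw [MonoidHom.mem_ker, hH, hK₀, mul_inv_eq_one]
    exact eq_comm
  -- (b)
  have hb : N.range ≤ K₀ := by
    rintro _ ⟨c, rfl⟩
    rw [hK₀, hN, map_mul, hs2, mul_comm]
  -- (c)
  have hc : N.ker = H.range := by
    ext c
    rw [MonoidHom.mem_ker, hN]
    constructor
    · intro hc1
      have hc1' : σ (c : F) * (c : F) = 1 := by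
        have := congrArg Units.val hc1
        simpa [hs_val] using this
      -- find θ
      have hθ : ∃ θ : F, θ + (c : F) * σ θ ≠ 0 := by
        by_contra hall
        push Not at hall
        have h1 := hall 1
        rw [map_one, mul_one] at h1
        have hcm : (c : F) = -1 := by linear_combination h1
        apply hσ
        ext θ
        have := hall θ
        rw [hcm] at this
        rw [RingHom.id_apply]
        linear_combination -this
      obtain ⟨θ, hθ⟩ := hθ
      set y : F := θ + (c : F) * σ θ with hy
      have hcy : (c : F) * σ y = y := by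
        rw [hy, map_add, map_mul, hσ2, mul_add, ← mul_assoc, mul_comm (c : F) (σ (c : F)), hc1',
          one_mul, add_comm]
      refine ⟨Units.mk0 y hθ, ?_⟩
      rw [hH]
      apply Units.ext
      rw [Units.val_mul, Units.val_inv_eq_inv_val, hs_val, Units.val_mk0]
      have hσy0 : σ y ≠ 0 := by
        intro h0
        rw [h0, mul_zero] at hcy
        exact hθ hcy.symm
      rw [mul_inv_eq_iff_eq_mul₀ hσy0]
      exact hcy.symm
    · rintro ⟨y, rfl⟩
      rw [hH, map_mul, map_inv, hs2]
      apply Units.ext
      simp only [Units.val_mul, Units.val_inv_eq_inv_val, Units.val_one]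
      have h1 : ((s y : Fˣ) : F) ≠ 0 := (s y).ne_zero
      have h2 : (y : F) ≠ 0 := y.ne_zero
      field_simp
  -- (d)
  have hcardN : Nat.card N.ker * Nat.card N.range = Nat.card Fˣ := by
    rw [← Subgroup.index_ker]; exact Subgroup.card_mul_index _
  have hcardH : Nat.card H.ker * Nat.card H.range = Nat.card Fˣ := by
    rw [← Subgroup.index_ker]; exact Subgroup.card_mul_index _
  rw [hc] at hcardN
  rw [ha, mul_comm] at hcardH
  have hpos : 0 < Nat.card H.range := Nat.card_pos
  have hcard : Nat.card N.range = Nat.card K₀ :=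
    Nat.eq_of_mul_eq_mul_left hpos (hcardN.trans hcardH.symm)
  have hrange : N.range = K₀ := Subgroup.eq_of_le_of_card_ge hb hcard.ge
  have hu : Units.mk0 d hd0 ∈ K₀ := by
    rw [hK₀]
    apply Units.ext
    rw [hs_val, Units.val_mk0, hd]
  rw [← hrange] at hu
  obtain ⟨c, hc'⟩ := hu
  refine ⟨(c : F), ?_⟩
  have := congrArg Units.val hc'
  rw [hN, Units.val_mul, hs_val, Units.val_mk0] at this
  exact this

end norm

section main
variable {F V : Type*} [Field F] [Finite F] [AddCommGroup V] [Module F V] [FiniteDimensional F V]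
variable {σ : F →+* F} (B : V →ₛₗ[σ] V →ₗ[F] F)

/-- orthonormal families -/
def ON (m : ℕ) (e : Fin m → V) : Prop := ∀ i j, B (e i) (e j) = if i = j then 1 else 0

variable {B}

theorem ON.pair_sum {m : ℕ} {e : Fin m → V} (h : ON B m e) (g : Fin m → F) (j : Fin m) :
    B (e j) (∑ i, g i • e i) = g j := by
  classical
  rw [map_sum]
  simp only [map_smul, smul_eq_mul, h j, mul_ite, mul_one, mul_zero]
  rw [Finset.sum_ite_eq Finset.univ j g, if_pos (Finset.mem_univ _)]

theorem ON.indep {m : ℕ} {e : Fin m → V} (h : ON B m e) : LinearIndependent F e := by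
  rw [Fintype.linearIndependent_iff]
  intro g hg j
  have := h.pair_sum g j
  rw [hg, map_zero] at this
  exact this.symm

theorem ON.card_le {m : ℕ} {e : Fin m → V} (h : ON B m e) : m ≤ Module.finrank F V := by
  have := h.indep.fintype_card_le_finrank
  simpa using this

end main


/-- Classification of Hermitian forms over finite fields: if σ is a non-identity involutive automorphism of the finite field F and B is a non-degenerate conjugate-symmetric σ-sesquilinear form on the finite-dimensional space V, then V has a B-orthonormal basis. -/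
theorem result {F V : Type*} [Field F] [Finite F] [AddCommGroup V] [Module F V] [FiniteDimensional F V] (σ : F →+* F) (hσ : σ ≠ RingHom.id F) (hσ2 : ∀ a : F, σ (σ a) = a) (B : V →ₛₗ[σ] V →ₗ[F] F) (hS : B.IsSymm) (hB : B.Nondegenerate) : ∃ b : Module.Basis (Fin (Module.finrank F V)) F V, ∀ i j, B (b i) (b j) = if i = j then 1 else 0 := by
  classical
  have hsymm : ∀ x y : V, σ (B x y) = B y x := hS.eq
  have hsmul₁ : ∀ (c : F) (x y : V), B (c • x) y = σ c * B x y := by
    intro c x y
    rw [map_smulₛₗ, LinearMap.smul_apply, smul_eq_mul]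
  have hsmul₂ : ∀ (c : F) (x y : V), B x (c • y) = c * B x y := by
    intro c x y
    rw [map_smul, smul_eq_mul]
  -- maximal orthonormal family
  let P : ℕ → Prop := fun m => ∃ e : Fin m → V, ON B m e
  have hP0 : P 0 := ⟨Fin.elim0, fun i => i.elim0⟩
  set m := Nat.findGreatest P (Module.finrank F V) with hm
  have hPm : P m := Nat.findGreatest_spec (Nat.zero_le _) hP0
  have hmax : ∀ m', P m' → m' ≤ m := by
    rintro m' ⟨e', h'⟩
    exact Nat.le_findGreatest h'.card_le ⟨e', h'⟩
  obtain ⟨e, he⟩ := hPm
  let proj : V → V := fun x => x - ∑ i, B (e i) x • e i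
  have hproj : ∀ x j, B (e j) (proj x) = 0 := by
    intro x j
    change B (e j) (x - ∑ i, B (e i) x • e i) = 0
    rw [map_sub, he.pair_sum (fun i => B (e i) x) j, sub_self]
  -- the orthogonal complement is trivial
  have hU : ∀ x : V, (∀ i, B (e i) x = 0) → x = 0 := by
    intro x hx
    by_contra hx0
    have hx' : ∀ i, B x (e i) = 0 := fun i => by rw [← hsymm, hx, map_zero]
    -- a partner in the complement
    have hw : ∃ w : V, B x w ≠ 0 := by
      by_contra h
      push Not at h
      exact hx0 (hB.1 x h)
    obtain ⟨w, hw⟩ := hw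
    set w' := proj w with hw'
    have hw'e : ∀ i, B (e i) w' = 0 := hproj w
    have hxw' : B x w' = B x w := by
      change B x (w - ∑ i, B (e i) w • e i) = B x w
      rw [map_sub, map_sum]
      simp only [map_smul, hx', smul_zero, Finset.sum_const_zero, sub_zero]
    have ht : B x w' ≠ 0 := by rw [hxw']; exact hw
    -- a non-isotropic vector in the complement
    have hu : ∃ u : V, (∀ i, B (e i) u = 0) ∧ B u u ≠ 0 := by
      by_contra hall
      push Not at hall
      have key : ∀ c : F, c * B x w' + σ (c * B x w') = 0 := by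
        intro c
        have hmem : ∀ i, B (e i) (x + c • w') = 0 := by
          intro i
          rw [map_add, hsmul₂, hx, hw'e, mul_zero, add_zero]
        have h0 := hall (x + c • w') hmem
        have hxx := hall x hx
        have hww := hall w' hw'e
        simp only [map_add, LinearMap.add_apply, hsmul₁, hsmul₂, hxx, hww] at h0
        rw [← hsymm x w'] at h0
        rw [map_mul]
        linear_combination h0
      have key2 : ∀ z : F, z + σ z = 0 := by
        intro z
        have := key (z / B x w')
        rw [div_mul_cancel₀ z ht] at this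
        exact this
      have h11 : (1 : F) + 1 = 0 := by
        have := key2 1
        rwa [map_one] at this
      apply hσ
      ext z
      rw [RingHom.id_apply]
      have hz := key2 z
      have hzz : z + z = 0 := by
        have : z + z = (1 + 1) * z := by ring
        rw [this, h11, zero_mul]
      linear_combination hz - hzz
    obtain ⟨u, hue, hd⟩ := hu
    have hσd : σ (B u u) = B u u := hsymm u u
    have hσdinv : σ (B u u)⁻¹ = (B u u)⁻¹ := by rw [map_inv₀, hσd]
    obtain ⟨c, hc⟩ := norm_surj σ hσ hσ2 (B u u)⁻¹ hσdinv (inv_ne_zero hd)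
    set v := c • u with hv
    have hve : ∀ i, B (e i) v = 0 := fun i => by rw [hv, hsmul₂, hue, mul_zero]
    have hev : ∀ i, B v (e i) = 0 := fun i => by rw [← hsymm, hve, map_zero]
    have hvv : B v v = 1 := by
      rw [hv, hsmul₁, hsmul₂, ← mul_assoc, hc, inv_mul_cancel₀ hd]
    have hnew : ON B (m + 1) (Fin.cons v e : Fin (m + 1) → V) := by
      intro i j
      refine Fin.cases ?_ (fun i' => ?_) i <;> refine Fin.cases ?_ (fun j' => ?_) j
      · simp [hvv]
      · simp only [Fin.cons_zero, Fin.cons_succ, hev]
        rw [if_neg (Fin.succ_ne_zero j').symm]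
      · simp only [Fin.cons_zero, Fin.cons_succ, hve]
        rw [if_neg (Fin.succ_ne_zero i')]
      · simp only [Fin.cons_succ, he i' j', Fin.succ_inj]
    have := hmax (m + 1) ⟨_, hnew⟩
    omega
  have hsp : ⊤ ≤ Submodule.span F (Set.range e) := by
    intro x _
    have h0 : proj x = 0 := hU _ (hproj x)
    have hx : x = ∑ i, B (e i) x • e i := by
      have : x - ∑ i, B (e i) x • e i = 0 := h0
      exact sub_eq_zero.mp this
    rw [hx]
    apply Submodule.sum_mem
    intro i _
    exact Submodule.smul_mem _ _ (Submodule.subset_span ⟨i, rfl⟩)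
  let b₀ : Module.Basis (Fin m) F V := Module.Basis.mk he.indep hsp
  have hfr : Module.finrank F V = m := by
    rw [Module.finrank_eq_card_basis b₀, Fintype.card_fin]
  refine ⟨b₀.reindex (finCongr hfr.symm), ?_⟩
  intro i j
  rw [Module.Basis.reindex_apply, Module.Basis.reindex_apply, Module.Basis.mk_apply,
    Module.Basis.mk_apply, he]
  by_cases hij : i = j
  · subst hij; simp
  · rw [if_neg hij, if_neg]
    intro h
    exact hij ((finCongr hfr.symm).symm.injective h)

end Cfsg.Agent.S0755
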