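import Cfsg.Statements.S0751
-- import your own Cfsg.Agent.* helpers here
import Mathlib
import Cfsg.Agent.S0755

set_option autoImplicit false
open Cfsg

namespace Cfsg.Agent.S0751

section
variable {F V : Type*} [Field F] [AddCommGroup V] [Module F V] [FiniteDimensional F V]
variable {σ : F →+* F} (B : V →ₛₗ[σ] V →ₗ[F] F)

theorem smul₁ (c : F) (x y : V) : B (c • x) y = σ c * B x y := by
  rw [map_smulₛₗ, LinearMap.smul_apply, smul_eq_mul]

theorem smul₂ (c : F) (x y : V) : B x (c • y) = c * B x y := by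
  rw [map_smul, smul_eq_mul]

theorem add₁ (x x' y : V) : B (x + x') y = B x y + B x' y := by
  rw [map_add, LinearMap.add_apply]

theorem add₂ (x y y' : V) : B x (y + y') = B x y + B x y' := by
  rw [map_add]

/-- surjectivity of the trace -/
theorem trace_surj (hσ : σ ≠ RingHom.id F) (d : F) (hd : σ d = d) (hσ2 : ∀ a : F, σ (σ a) = a) :
    ∃ s : F, s + σ s = d := by
  have hθ : ∃ θ : F, θ + σ θ ≠ 0 := by
    by_contra hall
    push Not at hall
    have h1 := hall 1
    rw [map_one] at h1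
    apply hσ
    ext θ
    have hθ := hall θ
    rw [RingHom.id_apply]
    have h2 : σ θ = -θ := by linear_combination hθ
    have h3 : (-1 : F) = 1 := by linear_combination -h1
    rw [h2]
    calc -θ = (-1) * θ := by ring
      _ = 1 * θ := by rw [h3]
      _ = θ := one_mul θ
  obtain ⟨θ, hθ⟩ := hθ
  refine ⟨d * θ / (θ + σ θ), ?_⟩
  have hσθ : σ (θ + σ θ) = θ + σ θ := by rw [map_add, hσ2, add_comm]
  rw [map_div₀, map_mul, hd, hσθ]
  field_simp

theorem sesq_rep [Finite F] (hσ : σ ≠ RingHom.id F) (hσ2 : ∀ a : F, σ (σ a) = a) (hS : B.IsSymm)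
    (hB : B.Nondegenerate) (μ : V →ₗ[F] F) : ∃ w₀ : V, ∀ y, B w₀ y = μ y := by
  classical
  obtain ⟨b, hb⟩ := Cfsg.Agent.S0755.result σ hσ hσ2 B hS hB
  refine ⟨∑ i, σ (μ (b i)) • b i, ?_⟩
  have : B (∑ i, σ (μ (b i)) • b i) = μ := by
    apply b.ext
    intro j
    rw [map_sum, LinearMap.sum_apply]
    simp only [smul₁, hσ2, hb, mul_ite, mul_one, mul_zero]
    simp
  intro y
  rw [this]

theorem exists_rep [Finite F] (hσ : σ ≠ RingHom.id F) (hσ2 : ∀ a : F, σ (σ a) = a) (hS : B.IsSymm)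
    (hB : B.Nondegenerate) (X : Submodule F V) (g : V →ₗ[F] V)
    (hinj : ∀ x ∈ X, g x = 0 → x = 0) (v : V) : ∃ w₀ : V, ∀ x ∈ X, B w₀ (g x) = B v x := by
  have hker : LinearMap.ker (g.domRestrict X) = ⊥ := by
    rw [LinearMap.ker_eq_bot']
    rintro ⟨x, hx⟩ h
    exact Subtype.ext (hinj x hx h)
  obtain ⟨h₀, hh₀⟩ := LinearMap.exists_leftInverse_of_injective (g.domRestrict X) hker
  let μ : V →ₗ[F] F := (B v).comp (X.subtype.comp h₀)
  obtain ⟨w₀, hw₀⟩ := sesq_rep B hσ hσ2 hS hB μ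
  refine ⟨w₀, ?_⟩
  intro x hx
  rw [hw₀]
  have : h₀ (g x) = ⟨x, hx⟩ := LinearMap.congr_fun hh₀ ⟨x, hx⟩
  simp [μ, this]

theorem inj_of_iso (hB : B.Nondegenerate) (γ : V →ₗ[F] V)
    (hγ : ∀ x y, B (γ x) (γ y) = B x y) : Function.Injective γ := by
  rw [← LinearMap.ker_eq_bot, LinearMap.ker_eq_bot']
  intro v hv
  apply hB.1
  intro u
  rw [← hγ v u, hv]; simp

theorem hard_case [Finite F] (hσ : σ ≠ RingHom.id F) (hσ2 : ∀ a : F, σ (σ a) = a) (hS : B.IsSymm)
    (hB : B.Nondegenerate) (p : V) (hp : p ≠ 0)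
    (hpp : B p p = 0) (U : Submodule F V)
    (hUp : ∀ x ∈ U, B p x = 0) (α : V →ₗ[F] V)
    (hinj : ∀ x ∈ U, α x = 0 → x = 0)
    (hα : ∀ x ∈ U, ∃ c : F, α x = x + c • p) :
    ∃ γ : V →ₗ[F] V, (∀ x y, B (γ x) (γ y) = B x y) ∧ ∀ x ∈ U, γ x = α x := by
  have hsymm : ∀ x y : V, σ (B x y) = B y x := hS.eq
  obtain ⟨z, hz⟩ : ∃ z, B p z ≠ 0 := by
    by_contra h; push Not at h; exact hp (hB.1 p h)
  have hzp : B z p ≠ 0 := by rw [← hsymm]; exact (map_ne_zero σ).mpr hz
  let f₀ : V →ₗ[F] F := (B z p)⁻¹ • B z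
  have hf₀p : f₀ p = 1 := by simp [f₀, hzp]
  let lam : V →ₗ[F] F := f₀.comp (α - LinearMap.id)
  have hlam : ∀ x ∈ U, α x = x + lam x • p := by
    intro x hx
    obtain ⟨c, hc⟩ := hα x hx
    have : lam x = c := by
      simp only [lam, LinearMap.comp_apply, LinearMap.sub_apply, LinearMap.id_apply, hc,
        add_sub_cancel_left, map_smul, hf₀p, smul_eq_mul, mul_one]
    rw [this]; exact hc
  obtain ⟨μ, hμU, hμp⟩ : ∃ μ : V →ₗ[F] F, (∀ x ∈ U, α x = x + μ x • p) ∧ μ p ≠ -1 := by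
    by_cases hpU : p ∈ U
    · refine ⟨lam, hlam, ?_⟩
      intro h
      have := hlam p hpU
      rw [h, neg_one_smul, add_neg_cancel] at this
      exact hp (hinj p hpU this)
    · obtain ⟨f, hfp, hfU⟩ := Submodule.exists_dual_map_eq_bot_of_notMem hpU inferInstance
      have hfU' : ∀ x ∈ U, f x = 0 := by
        intro x hx
        have : f x ∈ U.map f := ⟨x, hx, rfl⟩
        rw [hfU] at this
        exact (Submodule.mem_bot F).mp this
      refine ⟨lam - (lam p * (f p)⁻¹) • f, ?_, ?_⟩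
      · intro x hx
        simp only [LinearMap.sub_apply, LinearMap.smul_apply, hfU' x hx, smul_zero, sub_zero]
        exact hlam x hx
      · simp only [LinearMap.sub_apply, LinearMap.smul_apply, smul_eq_mul]
        rw [mul_assoc, inv_mul_cancel₀ hfp, mul_one, sub_self]
        exact (neg_ne_zero.mpr one_ne_zero).symm
  let β : V →ₗ[F] V := LinearMap.id + μ.smulRight p
  have hβ : ∀ y, β y = y + μ y • p := fun y => rfl
  let M : Submodule F V := LinearMap.ker (B p)
  have hM : ∀ y, y ∈ M ↔ B p y = 0 := fun y => LinearMap.mem_ker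
  have hM' : ∀ y ∈ M, B y p = 0 := by
    intro y hy; rw [← hsymm, (hM y).mp hy, map_zero]
  have hpM : p ∈ M := (hM p).mpr hpp
  have hβiso : ∀ y ∈ M, ∀ y' ∈ M, B (β y) (β y') = B y y' := by
    intro y hy y' hy'
    simp only [hβ, add₁, add₂, smul₁, smul₂, (hM y').mp hy', hM' y hy, hpp]; ring
  have hβinj : ∀ y ∈ M, β y = 0 → y = 0 := by
    intro y hy h0
    rw [hβ] at h0
    have h1 : μ y * (1 + μ p) = 0 := by
      have := congrArg μ h0
      rw [map_add, map_smul, smul_eq_mul, map_zero] at this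
      linear_combination this
    have h2 : μ y = 0 := by
      rcases mul_eq_zero.mp h1 with h | h
      · exact h
      · exfalso; apply hμp; linear_combination h
    rw [h2, zero_smul, add_zero] at h0
    exact h0
  obtain ⟨z₀, hz₀⟩ := exists_rep B hσ hσ2 hS hB M β hβinj z
  have hc0 : B z₀ p ≠ 0 := by
    have := hz₀ p hpM
    rw [hβ, add₂, smul₂] at this
    intro h0
    rw [h0] at this
    apply hzp
    rw [← this]; ring
  have hd : σ (B z z - B z₀ z₀) = B z z - B z₀ z₀ := by rw [map_sub, hsymm, hsymm]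
  obtain ⟨s, hs⟩ := trace_surj hσ _ hd hσ2
  set t := s / B z₀ p with ht
  set z' := z₀ + t • p with hz'def
  have htc : t * B z₀ p = s := by rw [ht]; field_simp
  have hz'z' : B z' z' = B z z := by
    have e1 : σ t * B p z₀ = σ s := by rw [← htc, map_mul, hsymm]
    simp only [hz'def, add₁, add₂, smul₁, smul₂, hpp]
    linear_combination htc + e1 + hs
  have hz' : ∀ y ∈ M, B z' (β y) = B z y := by
    intro y hy
    rw [hz'def, add₁, smul₁, hz₀ y hy, hβ, add₂, smul₂, (hM y).mp hy, hpp]; ring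
  have hz'' : ∀ y ∈ M, B (β y) z' = B y z := by
    intro y hy; rw [← hsymm, hz' y hy, hsymm]
  let ν : V →ₗ[F] F := (B p z)⁻¹ • B p
  have hν : ∀ x, ν x = (B p z)⁻¹ * B p x := fun x => rfl
  let γ : V →ₗ[F] V := β + ν.smulRight (z' - β z)
  have hγ : ∀ x, γ x = β x + ν x • (z' - β z) := fun x => rfl
  have hyM : ∀ x, x - ν x • z ∈ M := by
    intro x
    rw [hM, map_sub, map_smul, hν, smul_eq_mul]; field_simp; ring
  have hγx : ∀ x, γ x = β (x - ν x • z) + ν x • z' := by
    intro x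
    rw [hγ, map_sub, map_smul, smul_sub]; abel
  refine ⟨γ, ?_, ?_⟩
  · intro x x'
    have hx : x = (x - ν x • z) + ν x • z := by abel
    have hx' : x' = (x' - ν x' • z) + ν x' • z := by abel
    rw [hγx x, hγx x']
    conv_rhs => rw [hx, hx']
    simp only [add₁, add₂, smul₁, smul₂, hβiso _ (hyM x) _ (hyM x'), hz' _ (hyM x'),
      hz'' _ (hyM x), hz'z']
  · intro x hx
    have hνx : ν x = 0 := by rw [hν, hUp x hx, mul_zero]
    rw [hγ, hνx, zero_smul, add_zero, hβ, ← hμU x hx]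

theorem key [Finite F] (hσ : σ ≠ RingHom.id F) (hσ2 : ∀ a : F, σ (σ a) = a) (hS : B.IsSymm)
    (hB : B.Nondegenerate) (H U : Submodule F V) (u : V)
    (hHU : H ≤ U) (hu : u ∈ U)
    (hU : ∀ x ∈ U, ∃ h ∈ H, ∃ a : F, x = h + a • u)
    (α : V →ₗ[F] V) (hiso : ∀ x ∈ U, ∀ y ∈ U, B (α x) (α y) = B x y)
    (hinj : ∀ x ∈ U, α x = 0 → x = 0)
    (hH : ∀ h ∈ H, α h = h) :
    ∃ γ : V →ₗ[F] V, (∀ x y, B (γ x) (γ y) = B x y) ∧ ∀ x ∈ U, γ x = α x := by
  have hsymm : ∀ x y : V, σ (B x y) = B y x := hS.eq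
  set p := α u - u with hp
  have hαu : α u = u + p := by rw [hp]; abel
  have hαx : ∀ h ∈ H, ∀ a : F, α (h + a • u) = (h + a • u) + a • p := by
    intro h hh a
    rw [map_add, map_smul, hH h hh, hαu, smul_add]; abel
  have hHp' : ∀ h ∈ H, B h p = 0 := by
    intro h hh
    have := hiso h (hHU hh) u hu
    rw [hH h hh, hαu, add₂] at this
    linear_combination this
  have hHp : ∀ h ∈ H, B p h = 0 := by
    intro h hh; rw [← hsymm, hHp' h hh, map_zero]
  have hppe : B p p = -(B u p + B p u) := by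
    have := hiso u hu u hu
    rw [hαu] at this
    simp only [add₁, add₂] at this
    linear_combination this
  by_cases hp0 : p = 0
  · refine ⟨LinearMap.id, fun x y => rfl, ?_⟩
    intro x hx
    obtain ⟨h, hh, a, rfl⟩ := hU x hx
    rw [hαx h hh a, hp0, smul_zero, add_zero]; rfl
  by_cases hpu : B p u = 0
  · have hup : B u p = 0 := by rw [← hsymm, hpu, map_zero]
    have hpp : B p p = 0 := by rw [hppe, hup, hpu]; simp
    apply hard_case B hσ hσ2 hS hB p hp0 hpp U ?_ α hinj ?_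
    · intro x hx
      obtain ⟨h, hh, a, rfl⟩ := hU x hx
      rw [add₂, smul₂, hHp h hh, hpu]; simp
    · intro x hx
      obtain ⟨h, hh, a, rfl⟩ := hU x hx
      exact ⟨a, hαx h hh a⟩
  · have hup : B u p ≠ 0 := by rw [← hsymm]; exact (map_ne_zero σ).mpr hpu
    let r : V →ₗ[F] V := LinearMap.id + ((B p u)⁻¹ • B p).smulRight p
    have hr : ∀ x, r x = x + ((B p u)⁻¹ * B p x) • p := fun x => rfl
    refine ⟨r, ?_, ?_⟩
    · intro x y
      simp only [hr, add₁, add₂, smul₁, smul₂, map_mul, map_inv₀, hsymm]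
      rw [hppe]; field_simp; ring
    · intro x hx
      obtain ⟨h, hh, a, rfl⟩ := hU x hx
      rw [hαx h hh a, hr, add₂, smul₂, hHp h hh, zero_add]
      have : (B p u)⁻¹ * (a * B p u) = a := by field_simp
      rw [this]

theorem witt [Finite F] (hσ : σ ≠ RingHom.id F) (hσ2 : ∀ a : F, σ (σ a) = a) (hS : B.IsSymm)
    (hB : B.Nondegenerate) :
    ∀ (n : ℕ) (U : Submodule F V) (g : V →ₗ[F] V), Module.finrank F U = n →
    (∀ x ∈ U, ∀ y ∈ U, B (g x) (g y) = B x y) → (∀ x ∈ U, g x = 0 → x = 0) →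
    ∃ γ : V →ₗ[F] V, (∀ x y, B (γ x) (γ y) = B x y) ∧ ∀ x ∈ U, γ x = g x := by
  have hsymm : ∀ x y : V, σ (B x y) = B y x := hS.eq
  intro n
  induction n using Nat.strong_induction_on with
  | _ n ih =>
    intro U g hn hiso hinj
    by_cases hU0 : U = ⊥
    · subst hU0
      exact ⟨LinearMap.id, fun x y => rfl, fun x hx => by rw [(Submodule.mem_bot F).mp hx]; simp⟩
    obtain ⟨u, hu, hu0⟩ := Submodule.exists_mem_ne_zero_of_ne_bot hU0
    obtain ⟨y, hy'⟩ : ∃ y, B u y ≠ 0 := by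
      by_contra h; push Not at h; exact hu0 (hB.1 u h)
    have hy : B y u ≠ 0 := by rw [← hsymm]; exact (map_ne_zero σ).mpr hy'
    let H : Submodule F V := U ⊓ LinearMap.ker (B y)
    have hHmem : ∀ x, x ∈ H ↔ x ∈ U ∧ B y x = 0 := by
      intro x; simp [H]
    have hHU : H ≤ U := inf_le_left
    have huH : u ∉ H := fun h => hy ((hHmem u).mp h).2
    have hlt : H < U := lt_of_le_of_ne hHU (fun h => huH (h ▸ hu))
    have hfr := Submodule.finrank_lt_finrank_of_lt hlt
    obtain ⟨β₀, hβ₀, hβ₀H⟩ := ih _ (hn ▸ hfr) H g rfl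
      (fun x hx y hy => hiso x (hHU hx) y (hHU hy))
      (fun x hx => hinj x (hHU hx))
    let βe := LinearEquiv.ofInjectiveEndo β₀ (inj_of_iso B hB β₀ hβ₀)
    have hβe : ∀ x, βe x = β₀ x := fun x => by rw [LinearEquiv.coe_ofInjectiveEndo]
    have hβes : ∀ w w', B (βe.symm w) (βe.symm w') = B w w' := by
      intro w w'
      have := hβ₀ (βe.symm w) (βe.symm w')
      rw [← hβe, ← hβe, LinearEquiv.apply_symm_apply, LinearEquiv.apply_symm_apply] at this
      exact this.symm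
    let α : V →ₗ[F] V := βe.symm.toLinearMap.comp g
    have hα : ∀ x, α x = βe.symm (g x) := fun x => rfl
    obtain ⟨γ, hγ, hγU⟩ := key B hσ hσ2 hS hB H U u hHU hu (by
        intro x hx
        refine ⟨x - (B y x / B y u) • u, ?_, B y x / B y u, by abel⟩
        rw [hHmem]
        refine ⟨U.sub_mem hx (U.smul_mem _ hu), ?_⟩
        rw [map_sub, map_smul, smul_eq_mul]
        field_simp; ring) α (by
        intro x hx x' hx'; rw [hα, hα, hβes, hiso x hx x' hx']) (by
        intro x hx h0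
        rw [hα] at h0
        exact hinj x hx ((LinearEquiv.map_eq_zero_iff βe.symm).mp h0)) (by
        intro h hh
        rw [hα, ← hβ₀H h hh, ← hβe, LinearEquiv.symm_apply_apply])
    refine ⟨β₀.comp γ, ?_, ?_⟩
    · intro x x'; rw [LinearMap.comp_apply, LinearMap.comp_apply, hβ₀, hγ]
    · intro x hx
      rw [LinearMap.comp_apply, hγU x hx, hα, ← hβe, LinearEquiv.apply_symm_apply]

end


/-- Witt's Lemma for Hermitian forms. Let σ be a non-identity involutive automorphism of a finite field F and B a non-degenerate σ-sesquilinear form on a finite-dimensional F-space V which is conjugate-symmetric (σ (B x y) = B y x). Then every linear equivalence between subspaces X, Y of V preserving B extends to a B-preserving linear automorphism of V. -/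
theorem result {F V : Type*} [Field F] [Finite F] [AddCommGroup V] [Module F V] [FiniteDimensional F V] (σ : F →+* F) (hσ : σ ≠ RingHom.id F) (hσ2 : ∀ a : F, σ (σ a) = a) (B : V →ₛₗ[σ] V →ₗ[F] F) (hS : B.IsSymm) (hB : B.Nondegenerate) (X Y : Submodule F V) (φ : X ≃ₗ[F] Y) (hφ : ∀ x x' : X, B (φ x : V) (φ x' : V) = B (x : V) (x' : V)) : ∃ g : V ≃ₗ[F] V, (∀ u v : V, B (g u) (g v) = B u v) ∧ ∀ x : X, g (x : V) = (φ x : V) := by
  obtain ⟨g₀, hg₀⟩ := LinearMap.exists_extend (Y.subtype.comp φ.toLinearMap)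
  have hg₀' : ∀ x : X, g₀ (x : V) = (φ x : V) := fun x => LinearMap.congr_fun hg₀ x
  obtain ⟨g', hg', hg'X⟩ := witt B hσ hσ2 hS hB _ X g₀ rfl (by
      intro x hx x' hx'
      have := hφ ⟨x, hx⟩ ⟨x', hx'⟩
      rw [← hg₀' ⟨x, hx⟩, ← hg₀' ⟨x', hx'⟩] at this
      exact this) (by
      intro x hx h0
      have h1 := hg₀' ⟨x, hx⟩
      rw [Subtype.coe_mk, h0] at h1
      have h2 : φ ⟨x, hx⟩ = 0 := Subtype.ext h1.symm
      have h3 := (LinearEquiv.map_eq_zero_iff φ).mp h2
      exact congrArg Subtype.val h3)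
  refine ⟨LinearEquiv.ofInjectiveEndo g' (inj_of_iso B hB g' hg'), ?_, ?_⟩
  · intro u v
    rw [LinearEquiv.coe_ofInjectiveEndo]
    exact hg' u v
  · intro x
    rw [LinearEquiv.coe_ofInjectiveEndo, hg'X x x.2, hg₀' x]

end Cfsg.Agent.S0751
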