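import Mathlib
import Cfsg.Agent.Lib_helper29_UPara
import Cfsg.Agent.Lib_helper11_Unitary2
import Cfsg.Agent.S0751

set_option autoImplicit false
set_option linter.unusedSectionVars false
set_option linter.unusedVariables false
namespace Cfsg.Agent.helper29.UTI
open Matrix Cfsg Cfsg.Agent.helper11.HermCount Cfsg.Agent.helper11.Unitary Cfsg.Agent.helper29

variable {F : Type*} [Field F] [Fintype F] {q n : ℕ}

local notation "hf" => Cfsg.hermForm n F q
local notation "VV" => (Fin n → F)
local notation "MM" => Matrix (Fin n) (Fin n) F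

/-- the hermitian form as a sesquilinear map (semilinear in the first argument) -/
noncomputable def sesq (hF : Fintype.card F = q ^ 2) (n : ℕ) :
    (Fin n → F) →ₛₗ[frobQ hF] (Fin n → F) →ₗ[F] F :=
  LinearMap.mk₂'ₛₗ (frobQ hF) (RingHom.id F) (fun x y => Cfsg.hermForm n F q y x)
    (fun m₁ m₂ v => herm_add_right hF v m₁ m₂)
    (fun c m v => by
      rw [herm_smul_right, frobQ_apply, smul_eq_mul])
    (fun m v₁ v₂ => herm_add_left v₁ v₂ m)
    (fun c m v => by
      rw [herm_smul_left, RingHom.id_apply, smul_eq_mul])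

theorem sesq_apply (hF : Fintype.card F = q ^ 2) (x y : VV) : sesq hF n x y = hf y x := rfl

theorem herm_single_left (x : VV) (j : Fin n) : hf (Pi.single j 1) x = (x j) ^ q := by
  classical
  unfold Cfsg.hermForm
  rw [Finset.sum_eq_single j]
  · simp
  · intro b _ hb
    rw [Pi.single_eq_of_ne hb, zero_mul]
  · intro h; exact absurd (Finset.mem_univ j) h

theorem sesq_symm (hF : Fintype.card F = q ^ 2) : (sesq hF n).IsSymm := by
  constructor
  intro x y
  rw [sesq_apply, sesq_apply, frobQ_apply]
  exact herm_conj hF y x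

theorem sesq_nondeg (hF : Fintype.card F = q ^ 2) : (sesq hF n).Nondegenerate := by
  constructor
  · intro x hx
    funext j
    have := hx (Pi.single j 1)
    rw [sesq_apply, herm_single_left] at this
    exact pow_eq_zero_iff (q_ne_zero hF) |>.mp this
  · intro y hy
    funext j
    have := hy (Pi.single j 1)
    rw [sesq_apply, herm_single_right (q_ne_zero hF)] at this
    exact this

/-- Witt's lemma for the unitary group in matrix form -/
theorem witt_gu (hF : Fintype.card F = q ^ 2) (X Y : Submodule F VV) (φ : X ≃ₗ[F] Y)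
    (hφ : ∀ x x' : X, hf (φ x : VV) (φ x' : VV) = hf (x : VV) (x' : VV)) :
    ∃ g : GL (Fin n) F, g ∈ Cfsg.GU n F q ∧ ∀ x : X, (g : MM) *ᵥ (x : VV) = (φ x : VV) := by
  have hσ : frobQ hF ≠ RingHom.id F := by
    intro h
    obtain ⟨x, hx⟩ := exists_not_fixed hF
    apply hx
    have := congrArg (fun σ : F →+* F => σ x) h
    simpa [frobQ_apply] using this
  have hσ2 : ∀ a : F, frobQ hF (frobQ hF a) = a := by
    intro a
    rw [frobQ_apply, frobQ_apply, pow_q_q hF]
  obtain ⟨g, hg1, hg2⟩ := Cfsg.Agent.S0751.result (frobQ hF) hσ hσ2 (sesq hF n) (sesq_symm hF)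
    (sesq_nondeg hF) X Y φ (fun x x' => by rw [sesq_apply, sesq_apply]; exact hφ x' x)
  have hA : ∀ u v, hf ((LinearMap.toMatrix' g.toLinearMap) *ᵥ u)
      ((LinearMap.toMatrix' g.toLinearMap) *ᵥ v) = hf u v := by
    intro u v
    rw [LinearMap.toMatrix'_mulVec, LinearMap.toMatrix'_mulVec]
    have := hg1 v u
    rw [sesq_apply, sesq_apply] at this
    exact this
  refine ⟨((mkGU hF _ hA : Cfsg.GU n F q) : GL (Fin n) F), (mkGU hF _ hA).2, ?_⟩
  intro x
  rw [coe_mkGU, LinearMap.toMatrix'_mulVec]
  exact hg2 x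

/-- a frame: a linearly independent family spanning a totally isotropic subspace -/
def IsFrame (q : ℕ) {ι : Type*} (b : ι → (Fin n → F)) : Prop :=
  LinearIndependent F b ∧ ∀ i j, Cfsg.hermForm n F q (b i) (b j) = 0

theorem perpS_span (hF : Fintype.card F = q ^ 2) (S : Set VV) :
    perpS q ((Submodule.span F S : Submodule F VV) : Set VV) = perpS q S := by
  apply le_antisymm
  · intro v hv s hs
    exact hv s (Submodule.subset_span hs)
  · intro v hv s hs
    induction hs using Submodule.span_induction with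
    | mem x hx => exact hv x hx
    | zero => exact herm_zero_right hF v
    | add x y _ _ hx hy => rw [herm_add_right hF, hx, hy, add_zero]
    | smul a x _ hx => rw [herm_smul_right, hx, mul_zero]

/-- the span of a frame is totally isotropic -/
theorem frame_span_iso (hF : Fintype.card F = q ^ 2) {ι : Type*} (b : ι → VV)
    (hb : ∀ i j, hf (b i) (b j) = 0) (x y : VV)
    (hx : x ∈ Submodule.span F (Set.range b)) (hy : y ∈ Submodule.span F (Set.range b)) :
    hf x y = 0 := by
  have h1 : Submodule.span F (Set.range b) ≤ perpS q (Set.range b) := by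
    rw [Submodule.span_le]
    rintro _ ⟨i, rfl⟩ _ ⟨j, rfl⟩
    exact hb i j
  have h2 : Submodule.span F (Set.range b) ≤
      perpS q ((Submodule.span F (Set.range b) : Submodule F VV) : Set VV) := by
    rw [perpS_span hF]
    exact h1
  exact h2 hx y hy

/-- the unitary group is transitive on frames of a given shape -/
theorem frame_trans (hF : Fintype.card F = q ^ 2) {ι : Type*} (b b' : ι → VV)
    (hb : IsFrame q b) (hb' : IsFrame q b') :
    ∃ g : GL (Fin n) F, g ∈ Cfsg.GU n F q ∧ ∀ i, (g : MM) *ᵥ b i = b' i := by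
  let φ : Submodule.span F (Set.range b) ≃ₗ[F] Submodule.span F (Set.range b') :=
    (Module.Basis.span hb.1).equiv (Module.Basis.span hb'.1) (Equiv.refl ι)
  have hφ : ∀ x x' : Submodule.span F (Set.range b),
      hf (φ x : VV) (φ x' : VV) = hf (x : VV) (x' : VV) := by
    intro x x'
    rw [frame_span_iso hF b hb.2 _ _ x.2 x'.2, frame_span_iso hF b' hb'.2 _ _ (φ x).2 (φ x').2]
  obtain ⟨g, hg, hgφ⟩ := witt_gu hF _ _ φ hφ
  refine ⟨g, hg, fun i => ?_⟩
  have h1 := hgφ ⟨b i, Submodule.subset_span ⟨i, rfl⟩⟩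
  rw [h1]
  have h2 : (⟨b i, Submodule.subset_span ⟨i, rfl⟩⟩ : Submodule.span F (Set.range b)) =
      Module.Basis.span hb.1 i := by
    apply Subtype.ext
    rw [Module.Basis.span_apply]
  rw [h2, Module.Basis.equiv_apply, Equiv.refl_apply, Module.Basis.span_apply]

end Cfsg.Agent.helper29.UTI
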