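import Mathlib
import Cfsg.Agent.Lib_helper29_UTI1
import Cfsg.Agent.Lib_helper29_URoot2

set_option autoImplicit false
set_option linter.unusedSectionVars false
set_option linter.unusedVariables false
namespace Cfsg.Agent.helper29.UTI
open Matrix Cfsg Cfsg.Agent.helper11.HermCount Cfsg.Agent.helper11.Unitary Cfsg.Agent.helper29
open Cfsg.Agent.helper29.URoot

theorem card_split {α : Type*} [Finite α] (p r : α → Prop) :
    Nat.card {a // p a} = Nat.card {a // p a ∧ r a} + Nat.card {a // p a ∧ ¬ r a} := by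
  classical
  have e : {a // p a} ≃ {a // p a ∧ r a} ⊕ {a // p a ∧ ¬ r a} :=
    { toFun := fun a => if h : r a.1 then Sum.inl ⟨a.1, a.2, h⟩ else Sum.inr ⟨a.1, a.2, h⟩
      invFun := fun s => Sum.elim (fun a => ⟨a.1, a.2.1⟩) (fun a => ⟨a.1, a.2.1⟩) s
      left_inv := by
        intro a
        by_cases h : r a.1 <;> simp [h]
      right_inv := by
        rintro (a | a)
        · simp [a.2.2]
        · simp [a.2.2] }
  rw [Nat.card_congr e, Nat.card_sum]

variable {F : Type*} [Field F] [Fintype F] {q n : ℕ}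

local notation "hf" => Cfsg.hermForm n F q
local notation "VV" => (Fin n → F)
local notation "MM" => Matrix (Fin n) (Fin n) F

/-- number of isotropic vectors perpendicular to `S` -/
noncomputable def Niso (q : ℕ) (S : Set (Fin n → F)) : ℕ :=
  Nat.card {v : Fin n → F // v ∈ perpS q S ∧ Cfsg.hermForm n F q v v = 0}

theorem norm_shift (hF : Fintype.card F = q ^ 2) (v b : VV) (l : F) (hbb : hf b b = 0) :
    hf (v + l • b) (v + l • b) = hf v v + l ^ q * hf v b + l * hf b v := by
  rw [herm_add_left, herm_add_right hF, herm_add_right hF, herm_smul_left, herm_smul_left,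
    herm_smul_right, herm_smul_right, hbb]
  ring

theorem herm_ne_zero_symm (hF : Fintype.card F = q ^ 2) (x y : VV) (hxy : hf x y ≠ 0) :
    hf y x ≠ 0 := fun h => hxy (herm_eq_zero_symm hF y x h)

theorem card_perpS (hF : Fintype.card F = q ^ 2) (S : Set VV) (j : ℕ)
    (hj : Module.finrank F (Submodule.span F S) = j) :
    Nat.card (perpS q S : Submodule F VV) = (q ^ 2) ^ (n - j) := by
  have h1 := finrank_perp_gen hF (Submodule.span F S)
  rw [perpS_span hF, hj] at h1
  classical
  rw [Nat.card_eq_fintype_card, Module.card_eq_pow_finrank (K := F), hF]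
  congr 1
  omega

/-- the trace-shift bijection: among vectors of `perpS S` not orthogonal to the isotropic
vector `b ∈ perpS S`, exactly one in `q` is isotropic -/
theorem card_T (hF : Fintype.card F = q ^ 2) (S : Set VV) (b : VV) (hbS : b ∈ perpS q S)
    (hbb : hf b b = 0) :
    Nat.card {v : VV // v ∈ perpS q S ∧ hf v b ≠ 0} =
      q * Nat.card {v : VV // (v ∈ perpS q S ∧ hf v b ≠ 0) ∧ hf v v = 0} := by
  classical
  have hμ : ∀ t : ↥(K0 hF), ∃ μ : F, μ + μ ^ q = (t : F) := fun t =>
    exists_trace hF (t : F) ((mem_K0 hF).mp t.2)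
  choose μ hμ using hμ
  have hshiftS : ∀ (v : VV) (l : F), v ∈ perpS q S → v + l • b ∈ perpS q S := fun v l hv =>
    Submodule.add_mem _ hv (Submodule.smul_mem _ l hbS)
  have hshiftb : ∀ (v : VV) (l : F), hf (v + l • b) b = hf v b := by
    intro v l
    rw [herm_add_left, herm_smul_left, hbb, mul_zero, add_zero]
  have hshiftb' : ∀ (v : VV) (l : F), hf b (v + l • b) = hf b v := by
    intro v l
    rw [herm_add_right hF, herm_smul_right, hbb, mul_zero, add_zero]
  have hN : ∀ v : VV, hf v v ∈ K0 hF := fun v => (mem_K0 hF).mpr (herm_pow_q hF n v)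
  have hnorm : ∀ (v : VV) (m : F), hf b v ≠ 0 →
      hf (v + (m / hf b v) • b) (v + (m / hf b v) • b) = hf v v + (m + m ^ q) := by
    intro v m hc
    rw [norm_shift hF v b _ hbb, div_pow, ← herm_conj hF b v, div_mul_cancel₀ _ (pow_ne_zero q hc),
      div_mul_cancel₀ _ hc]
    ring
  let e : {v : VV // v ∈ perpS q S ∧ hf v b ≠ 0} ≃
      {v : VV // (v ∈ perpS q S ∧ hf v b ≠ 0) ∧ hf v v = 0} × ↥(K0 hF) :=
    { toFun := fun v =>
        (⟨v.1 + ((-μ ⟨hf v.1 v.1, hN v.1⟩) / hf b v.1) • b,
          ⟨hshiftS _ _ v.2.1, by rw [hshiftb]; exact v.2.2⟩, by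
            rw [hnorm _ _ (herm_ne_zero_symm hF _ _ v.2.2), negq hF, ← neg_add, hμ]
            simp⟩, ⟨hf v.1 v.1, hN v.1⟩)
      invFun := fun w =>
        ⟨w.1.1 + (μ w.2 / hf b w.1.1) • b, hshiftS _ _ w.1.2.1.1, by
          rw [hshiftb]; exact w.1.2.1.2⟩
      left_inv := by
        rintro ⟨v, hv1, hv2⟩
        apply Subtype.ext
        simp only
        rw [hshiftb', add_assoc, ← add_smul, neg_div, neg_add_cancel, zero_smul, add_zero]
      right_inv := by
        rintro ⟨⟨w, ⟨hw1, hw2⟩, hw3⟩, t⟩
        have hc : hf b w ≠ 0 := herm_ne_zero_symm hF _ _ hw2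
        have hnw : hf (w + (μ t / hf b w) • b) (w + (μ t / hf b w) • b) = (t : F) := by
          rw [hnorm _ _ hc, hw3, zero_add, hμ]
        have ht : (⟨hf (w + (μ t / hf b w) • b) (w + (μ t / hf b w) • b), hN _⟩ : ↥(K0 hF)) = t :=
          Subtype.ext hnw
        apply Prod.ext
        · apply Subtype.ext
          simp only
          rw [ht, hshiftb', add_assoc, ← add_smul, neg_div, add_neg_cancel, zero_smul, add_zero]
        · exact ht }
  rw [Nat.card_congr e, Nat.card_prod, card_K0 hF, mul_comm]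

theorem mem_perpS_insert (S : Set VV) (b v : VV) :
    v ∈ perpS q (insert b S) ↔ v ∈ perpS q S ∧ hf v b = 0 := by
  constructor
  · intro h
    exact ⟨fun s hs => h s (Set.mem_insert_of_mem _ hs), h b (Set.mem_insert _ _)⟩
  · rintro ⟨h1, h2⟩ s hs
    rcases hs with rfl | hs
    · exact h2
    · exact h1 s hs

/-- recursion for `Niso` when an isotropic vector is added -/
theorem Niso_insert (hF : Fintype.card F = q ^ 2) (S : Set VV) (b : VV) (hbS : b ∈ perpS q S)
    (hbb : hf b b = 0) (j : ℕ) (hj : Module.finrank F (Submodule.span F S) = j)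
    (hj' : Module.finrank F (Submodule.span F (insert b S)) = j + 1) :
    q * Niso q S + (q ^ 2) ^ (n - (j + 1)) = q * Niso q (insert b S) + (q ^ 2) ^ (n - j) := by
  have h1 : Niso q S = Niso q (insert b S) +
      Nat.card {v : VV // (v ∈ perpS q S ∧ hf v b ≠ 0) ∧ hf v v = 0} := by
    unfold Niso
    rw [card_split (fun v : VV => v ∈ perpS q S ∧ hf v v = 0) (fun v => hf v b = 0)]
    congr 1
    · apply Nat.card_congr
      apply Equiv.subtypeEquivRight
      intro v
      rw [mem_perpS_insert]
      tauto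
    · apply Nat.card_congr
      apply Equiv.subtypeEquivRight
      intro v
      tauto
  have h2 : Nat.card (perpS q S : Submodule F VV) = Nat.card (perpS q (insert b S) : Submodule F VV) +
      Nat.card {v : VV // v ∈ perpS q S ∧ hf v b ≠ 0} := by
    have := card_split (fun v : VV => v ∈ perpS q S) (fun v => hf v b = 0)
    rw [show Nat.card (perpS q S : Submodule F VV) = Nat.card {v : VV // v ∈ perpS q S} from rfl,
      this]
    congr 1
    apply Nat.card_congr
    apply Equiv.subtypeEquivRight
    intro v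
    rw [mem_perpS_insert]
  rw [card_perpS hF S j hj, card_perpS hF (insert b S) (j + 1) hj', card_T hF S b hbS hbb] at h2
  rw [h1, h2]
  ring

end Cfsg.Agent.helper29.UTI
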