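import Mathlib
import Cfsg.Agent.Lib_helper29_UTI2

set_option autoImplicit false
set_option linter.unusedSectionVars false
set_option linter.unusedVariables false
namespace Cfsg.Agent.helper29.UTI
open Matrix Cfsg Cfsg.Agent.helper11.HermCount Cfsg.Agent.helper11.Unitary Cfsg.Agent.helper29
open Cfsg.Agent.helper29.URoot

theorem sigma_subtype_ext {α β : Type*} {P : α → β → Prop} (a₁ a₂ : α) (x₁ x₂ : β)
    (h1 : P a₁ x₁) (h2 : P a₂ x₂) (ha : a₁ = a₂) (hx : x₁ = x₂) :
    (⟨a₁, ⟨x₁, h1⟩⟩ : Σ a, {x // P a x}) = ⟨a₂, ⟨x₂, h2⟩⟩ := by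
  subst ha; subst hx; rfl

variable {F : Type*} [Field F] [Fintype F] {q n : ℕ}

local notation "hf" => Cfsg.hermForm n F q
local notation "VV" => (Fin n → F)
local notation "MM" => Matrix (Fin n) (Fin n) F

theorem frame_card_le {k : ℕ} (b : Fin k → VV) (hb : IsFrame q b) : k ≤ n := by
  have := hb.1.fintype_card_le_finrank
  rwa [Fintype.card_fin, Module.finrank_fin_fun] at this

theorem frame_finrank {k : ℕ} (b : Fin k → VV) (hb : IsFrame q b) :
    Module.finrank F (Submodule.span F (Set.range b)) = k := by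
  rw [finrank_span_eq_card hb.1, Fintype.card_fin]

theorem frame_cons_iff (hF : Fintype.card F = q ^ 2) {k : ℕ} (x : VV) (b : Fin k → VV) :
    IsFrame q (Fin.cons x b : Fin (k + 1) → VV) ↔
      IsFrame q b ∧ (x ∈ perpS q (Set.range b) ∧ hf x x = 0) ∧
        x ∉ Submodule.span F (Set.range b) := by
  constructor
  · rintro ⟨h1, h2⟩
    rw [linearIndependent_finCons] at h1
    refine ⟨⟨h1.1, fun i j => ?_⟩, ⟨?_, ?_⟩, h1.2⟩
    · have := h2 i.succ j.succ
      simpa using this
    · rintro _ ⟨i, rfl⟩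
      have := h2 0 i.succ
      simpa using this
    · have := h2 0 0
      simpa using this
  · rintro ⟨⟨h1, h2⟩, ⟨h3, h4⟩, h5⟩
    refine ⟨linearIndependent_finCons.mpr ⟨h1, h5⟩, ?_⟩
    intro i j
    refine Fin.cases ?_ (fun i' => ?_) i <;> refine Fin.cases ?_ (fun j' => ?_) j
    · simpa using h4
    · simpa using h3 (b j') ⟨j', rfl⟩
    · simpa using herm_eq_zero_symm hF _ _ (h3 (b i') ⟨i', rfl⟩)
    · simpa using h2 i' j'

theorem frame_tail (hF : Fintype.card F = q ^ 2) {k : ℕ} (b : Fin (k + 1) → VV) (hb : IsFrame q b) :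
    IsFrame q (Fin.tail b) ∧ (b 0 ∈ perpS q (Set.range (Fin.tail b)) ∧ hf (b 0) (b 0) = 0) ∧
        b 0 ∉ Submodule.span F (Set.range (Fin.tail b)) := by
  rw [← frame_cons_iff hF, Fin.cons_self_tail]
  exact hb

/-- closed form (times `q`) for the number of isotropic vectors perpendicular to a frame -/
theorem Niso_frame (hF : Fintype.card F = q ^ 2) : ∀ (k : ℕ) (b : Fin k → VV), IsFrame q b →
    (q : ℤ) * (Niso q (Set.range b) : ℤ) =
      (q : ℤ) ^ (2 * (n - k)) + (-1) ^ n * ((q : ℤ) ^ (n + 1) - (q : ℤ) ^ n) := by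
  intro k
  induction k with
  | zero =>
    intro b hb
    have h0 : Set.range b = ∅ := Set.range_eq_empty b
    rw [h0]
    unfold Niso
    rw [perpS_empty]
    have e : {v : VV // v ∈ (⊤ : Submodule F VV) ∧ hf v v = 0} ≃ {v : VV // hf v v = 0} :=
      Equiv.subtypeEquivRight (fun v => by simp)
    rw [Nat.card_congr e, card_herm_isotropic_int hF n]
    simp
  | succ k ih =>
    intro b hb
    obtain ⟨hb', ⟨hx1, hx2⟩, hx3⟩ := frame_tail hF b hb
    have hle := frame_card_le b hb
    have hrange : Set.range b = insert (b 0) (Set.range (Fin.tail b)) := by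
      rw [← Fin.range_cons, Fin.cons_self_tail]
    have h1 := Niso_insert hF (Set.range (Fin.tail b)) (b 0) hx1 hx2 k (frame_finrank _ hb')
      (by rw [← hrange]; exact frame_finrank b hb)
    rw [← hrange] at h1
    have h2 := ih (Fin.tail b) hb'
    have h3 : ((q * Niso q (Set.range (Fin.tail b)) + (q ^ 2) ^ (n - (k + 1)) : ℕ) : ℤ) =
        ((q * Niso q (Set.range b) + (q ^ 2) ^ (n - k) : ℕ) : ℤ) := by rw [h1]
    push_cast at h3
    rw [h2] at h3
    have e1 : ((q : ℤ) ^ 2) ^ (n - k) = (q : ℤ) ^ (2 * (n - k)) := by rw [pow_mul]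
    have e2 : ((q : ℤ) ^ 2) ^ (n - (k + 1)) = (q : ℤ) ^ (2 * (n - (k + 1))) := by rw [pow_mul]
    rw [e1, e2] at h3
    linarith

/-- the fibre of `cons` over a frame -/
theorem card_fiber (hF : Fintype.card F = q ^ 2) {k : ℕ} (b : Fin k → VV) (hb : IsFrame q b) :
    Niso q (Set.range b) = (q ^ 2) ^ k +
      Nat.card {x : VV // (x ∈ perpS q (Set.range b) ∧ hf x x = 0) ∧
        x ∉ Submodule.span F (Set.range b)} := by
  classical
  unfold Niso
  rw [card_split (fun v : VV => v ∈ perpS q (Set.range b) ∧ hf v v = 0)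
    (fun v => v ∈ Submodule.span F (Set.range b))]
  congr 1
  have e : {v : VV // (v ∈ perpS q (Set.range b) ∧ hf v v = 0) ∧
      v ∈ Submodule.span F (Set.range b)} ≃ ↥(Submodule.span F (Set.range b)) :=
    Equiv.subtypeEquivRight (fun v => by
      constructor
      · exact fun h => h.2
      · intro h
        refine ⟨⟨?_, frame_span_iso hF b hb.2 v v h h⟩, h⟩
        rintro _ ⟨i, rfl⟩
        exact frame_span_iso hF b hb.2 v (b i) h (Submodule.subset_span ⟨i, rfl⟩))
  rw [Nat.card_congr e, Nat.card_eq_fintype_card, Module.card_eq_pow_finrank (K := F), hF,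
    frame_finrank b hb]

/-- the type of frames of length `k` -/
def Frames (q n : ℕ) (F : Type*) [Field F] (k : ℕ) : Type _ :=
  {b : Fin k → (Fin n → F) // IsFrame q b}

noncomputable instance (k : ℕ) : Finite (Frames q n F k) := by
  unfold Frames
  infer_instance

/-- frames of length `k+1` fibre over frames of length `k` -/
noncomputable def framesEquiv (hF : Fintype.card F = q ^ 2) (k : ℕ) :
    Frames q n F (k + 1) ≃ Σ b : Frames q n F k,
      {x : VV // (x ∈ perpS q (Set.range b.1) ∧ hf x x = 0) ∧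
        x ∉ Submodule.span F (Set.range b.1)} where
  toFun c := ⟨⟨Fin.tail c.1, (frame_tail hF c.1 c.2).1⟩, ⟨c.1 0, (frame_tail hF c.1 c.2).2⟩⟩
  invFun s := ⟨Fin.cons s.2.1 s.1.1, (frame_cons_iff hF _ _).mpr ⟨s.1.2, s.2.2⟩⟩
  left_inv c := by
    apply Subtype.ext
    exact Fin.cons_self_tail c.1
  right_inv s := by
    obtain ⟨⟨b, hb⟩, ⟨x, hx⟩⟩ := s
    exact sigma_subtype_ext (P := fun (b : Frames q n F k) (x : VV) =>
      (x ∈ perpS q (Set.range b.1) ∧ hf x x = 0) ∧ x ∉ Submodule.span F (Set.range b.1))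
      _ _ _ _ _ _ (Subtype.ext (by
        show Fin.tail (Fin.cons x b : Fin (k + 1) → VV) = b
        exact Fin.tail_cons (α := fun _ => VV) x b)) (by
        show (Fin.cons x b : Fin (k + 1) → VV) 0 = x
        exact Fin.cons_zero (α := fun _ => VV) x b)

theorem card_frames_succ (hF : Fintype.card F = q ^ 2) (k : ℕ) (f : ℕ)
    (hf' : ∀ (b : Fin k → VV), IsFrame q b →
      Nat.card {x : VV // (x ∈ perpS q (Set.range b) ∧ hf x x = 0) ∧
        x ∉ Submodule.span F (Set.range b)} = f) :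
    Nat.card (Frames q n F (k + 1)) = Nat.card (Frames q n F k) * f := by
  classical
  have : Fintype (Frames q n F k) := Fintype.ofFinite _
  rw [Nat.card_congr (framesEquiv hF k), Nat.card_sigma]
  rw [Finset.sum_congr rfl (fun b _ => hf' b.1 b.2), Finset.sum_const, smul_eq_mul,
    Finset.card_univ, Nat.card_eq_fintype_card]

end Cfsg.Agent.helper29.UTI
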