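import Mathlib
import Cfsg.Agent.Lib_helper29_UTI3

set_option autoImplicit false
set_option linter.unusedSectionVars false
set_option linter.unusedVariables false
namespace Cfsg.Agent.helper29.UTI
open Matrix Cfsg Cfsg.Agent.helper11.HermCount Cfsg.Agent.helper11.Unitary Cfsg.Agent.helper29
open Cfsg.Agent.helper29.URoot

/-- the factor `q^(i+1) - (-1)^(i+1)` -/
def Efac (q i : ℕ) : ℕ := if Even i then q ^ (i + 1) + 1 else q ^ (i + 1) - 1

/-- the order formula of `GU_m(q)` -/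
def guN (q m : ℕ) : ℕ := q ^ (m * (m - 1) / 2) * ∏ i ∈ Finset.range m, Efac q i

theorem Efac_cast (q : ℕ) (hq : 1 ≤ q) (i : ℕ) :
    ((Efac q i : ℕ) : ℤ) = (q : ℤ) ^ (i + 1) + (-1) ^ i := by
  unfold Efac
  have h1 : 1 ≤ q ^ (i + 1) := Nat.one_le_pow _ _ hq
  split_ifs with h
  · rw [h.neg_one_pow]; push_cast; ring
  · rw [(Nat.not_even_iff_odd.mp h).neg_one_pow]; push_cast [Nat.cast_sub h1]; ring

theorem Efac_pos (q : ℕ) (hq : 2 ≤ q) (i : ℕ) : 0 < Efac q i := by
  unfold Efac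
  have h1 : 2 ≤ q ^ (i + 1) := by
    calc 2 ≤ q := hq
      _ = q ^ 1 := (pow_one q).symm
      _ ≤ q ^ (i + 1) := Nat.pow_le_pow_right (by omega) (by omega)
  split_ifs <;> omega

theorem guN_rec (q m : ℕ) :
    guN q (m + 2) = q ^ (2 * m + 1) * Efac q (m + 1) * Efac q m * guN q m := by
  unfold guN
  rw [Finset.prod_range_succ, Finset.prod_range_succ]
  have h1 := Nat.triangle_succ (m + 1)
  have h2 := Nat.triangle_succ m
  have h3 : (m + 2) * (m + 2 - 1) / 2 = m * (m - 1) / 2 + (2 * m + 1) := by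
    have : m + 2 = m + 1 + 1 := rfl
    rw [this, h1, h2]; ring
  rw [h3, pow_add]
  ring

theorem fiber_closed (q : ℕ) (hq : 2 ≤ q) (n k f : ℕ) (h2 : 2 * k + 2 ≤ n)
    (hfib : (q : ℤ) * ((f : ℤ) + ((q : ℤ) ^ 2) ^ k) =
      (q : ℤ) ^ (2 * (n - k)) + (-1) ^ n * ((q : ℤ) ^ (n + 1) - (q : ℤ) ^ n)) :
    f = q ^ (2 * k) * Efac q (n - 2 * k - 1) * Efac q (n - 2 * k - 2) := by
  obtain ⟨m, rfl⟩ : ∃ m, n = m + 2 * k + 2 := ⟨n - 2 * k - 2, by omega⟩
  have e1 : m + 2 * k + 2 - 2 * k - 1 = m + 1 := by omega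
  have e2 : m + 2 * k + 2 - 2 * k - 2 = m := by omega
  have e3 : m + 2 * k + 2 - k = m + k + 2 := by omega
  rw [e1, e2]
  rw [e3] at hfib
  have hq0 : (q : ℤ) ≠ 0 := by exact_mod_cast (by omega : q ≠ 0)
  apply Nat.cast_injective (R := ℤ)
  apply mul_left_cancel₀ hq0
  push_cast [Efac_cast q (by omega)]
  have hs : ((-1 : ℤ)) ^ (m + 2 * k + 2) = (-1) ^ m := by
    rw [pow_add, pow_add, pow_mul]; simp
  rw [hs] at hfib
  have hfib' : (q : ℤ) * (f : ℤ) = (q : ℤ) ^ (2 * (m + k + 2)) +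
      (-1) ^ m * ((q : ℤ) ^ (m + 2 * k + 2 + 1) - (q : ℤ) ^ (m + 2 * k + 2)) -
        (q : ℤ) * ((q : ℤ) ^ 2) ^ k := by linarith
  rw [hfib']
  rcases Nat.even_or_odd m with hm | hm
  · rw [hm.neg_one_pow, pow_succ (-1 : ℤ) m, hm.neg_one_pow]; ring
  · rw [hm.neg_one_pow, pow_succ (-1 : ℤ) m, hm.neg_one_pow]; ring

variable {F : Type*} [Field F] [Fintype F] {q n : ℕ}

local notation "hf" => Cfsg.hermForm n F q
local notation "VV" => (Fin n → F)
local notation "MM" => Matrix (Fin n) (Fin n) F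

theorem card_frames_zero : Nat.card (Frames q n F 0) = 1 := by
  rw [Nat.card_eq_one_iff_unique]
  constructor
  · constructor
    rintro ⟨a, _⟩ ⟨b, _⟩
    apply Subtype.ext
    funext i
    exact i.elim0
  · exact ⟨⟨fun i => i.elim0, linearIndependent_empty_type, fun i => i.elim0⟩⟩

/-- counting frames against the order formula -/
theorem card_frames (hF : Fintype.card F = q ^ 2) : ∀ k : ℕ, 2 * k ≤ n →
    Nat.card (Frames q n F k) * q ^ (k * (2 * n - 3 * k)) * guN q (n - 2 * k) = guN q n := by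
  intro k
  induction k with
  | zero =>
    intro _
    rw [card_frames_zero]
    simp
  | succ k ih =>
    intro hk
    have h2q := two_le_q hF
    have ih' := ih (by omega)
    have hfib : ∀ (b : Fin k → VV), IsFrame q b →
        Nat.card {x : VV // (x ∈ perpS q (Set.range b) ∧ hf x x = 0) ∧
          x ∉ Submodule.span F (Set.range b)} =
          q ^ (2 * k) * Efac q (n - 2 * k - 1) * Efac q (n - 2 * k - 2) := by
      intro b hb
      apply fiber_closed q h2q n k _ (by omega)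
      have h1 := Niso_frame hF k b hb
      have h2 := card_fiber hF b hb
      rw [h2] at h1
      push_cast at h1
      rw [← h1]
      ring
    rw [card_frames_succ hF k _ hfib, ← ih']
    obtain ⟨m, rfl⟩ : ∃ m, n = m + 2 * k + 2 := ⟨n - 2 * k - 2, by omega⟩
    have e1 : m + 2 * k + 2 - 2 * k - 1 = m + 1 := by omega
    have e2 : m + 2 * k + 2 - 2 * k - 2 = m := by omega
    have e3 : m + 2 * k + 2 - 2 * (k + 1) = m := by omega
    have e4 : m + 2 * k + 2 - 2 * k = m + 2 := by omega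
    have e5 : 2 * (m + 2 * k + 2) - 3 * (k + 1) = 2 * m + k + 1 := by omega
    have e6 : 2 * (m + 2 * k + 2) - 3 * k = 2 * m + k + 4 := by omega
    rw [e1, e2, e3, e4, e5, e6, guN_rec]
    ring

end Cfsg.Agent.helper29.UTI
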