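import Mathlib
import Cfsg.Agent.Lib_helper29_UTI4

set_option autoImplicit false
set_option linter.unusedSectionVars false
set_option linter.unusedVariables false
namespace Cfsg.Agent.helper29.UTI
open Matrix Cfsg Cfsg.Agent.helper11.HermCount Cfsg.Agent.helper11.Unitary Cfsg.Agent.helper29
open Cfsg.Agent.helper29.URoot

variable {F : Type*} [Field F] [Fintype F] {q n : ℕ}

local notation "hf" => Cfsg.hermForm n F q
local notation "VV" => (Fin n → F)
local notation "MM" => Matrix (Fin n) (Fin n) F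

/-- the stabiliser of `W` in the general unitary group -/
def SWg (q : ℕ) (W : Submodule F (Fin n → F)) : Subgroup (GL (Fin n) F) :=
  Cfsg.GU n F q ⊓ Cfsg.Geo.subspaceStabilizer W

theorem li_smul {k : ℕ} (g : GL (Fin n) F) (b : Fin k → VV) (hb : LinearIndependent F b) :
    LinearIndependent F (fun i => (g : MM) *ᵥ b i) := by
  have := hb.map' (Matrix.toLin' (g : MM)) (LinearMap.ker_eq_bot.mpr (gl_toLin_inj g))
  have e : (fun i => (g : MM) *ᵥ b i) = ⇑(Matrix.toLin' (g : MM)) ∘ b := by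
    funext i
    rw [Function.comp_apply, Matrix.toLin'_apply]
  rw [e]
  exact this

theorem isFrame_smul {k : ℕ} (g : GL (Fin n) F) (hg : g ∈ Cfsg.GU n F q) (b : Fin k → VV)
    (hb : IsFrame q b) : IsFrame q (fun i => (g : MM) *ᵥ b i) :=
  ⟨li_smul g b hb.1, fun i j => (hg (b i) (b j)).trans (hb.2 i j)⟩

theorem orbit_GU (hF : Fintype.card F = q ^ 2) {k : ℕ} (b₀ : Fin k → VV) (hb₀ : IsFrame q b₀) :
    MulAction.orbit ↥(Cfsg.GU n F q) b₀ = {b | IsFrame q b} := by
  ext b
  constructor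
  · rintro ⟨⟨g, hg⟩, rfl⟩
    exact isFrame_smul g hg b₀ hb₀
  · intro hb
    obtain ⟨g, hg, h⟩ := frame_trans hF b₀ b hb₀ hb
    exact ⟨⟨g, hg⟩, funext h⟩

theorem card_GU_frames (hF : Fintype.card F = q ^ 2) {k : ℕ} (b₀ : Fin k → VV)
    (hb₀ : IsFrame q b₀) :
    Nat.card ↥(Cfsg.GU n F q) =
      Nat.card (MulAction.stabilizer ↥(Cfsg.GU n F q) b₀) * Nat.card (Frames q n F k) := by
  have h1 := Subgroup.card_mul_index (MulAction.stabilizer ↥(Cfsg.GU n F q) b₀)
  have h2 := MulAction.index_stabilizer ↥(Cfsg.GU n F q) b₀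
  rw [← h1, h2, orbit_GU hF b₀ hb₀, ← Nat.card_coe_set_eq]
  rfl

theorem map_span_le {k : ℕ} (g : GL (Fin n) F) (b₀ : Fin k → VV) (W : Submodule F VV)
    (h : ∀ i, (g : MM) *ᵥ b₀ i ∈ W) (v : VV) (hv : v ∈ Submodule.span F (Set.range b₀)) :
    (g : MM) *ᵥ v ∈ W := by
  induction hv using Submodule.span_induction with
  | mem x hx => obtain ⟨i, rfl⟩ := hx; exact h i
  | zero => rw [Matrix.mulVec_zero]; exact W.zero_mem
  | add x y _ _ hx hy => rw [Matrix.mulVec_add]; exact W.add_mem hx hy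
  | smul a x _ hx => rw [Matrix.mulVec_smul]; exact W.smul_mem a hx

theorem orbit_SW (hF : Fintype.card F = q ^ 2) {k : ℕ} (W : Submodule F VV)
    (hW : ∀ u ∈ W, ∀ v ∈ W, hf u v = 0) (b₀ : Fin k → VV) (hb₀ : LinearIndependent F b₀)
    (hspan : Submodule.span F (Set.range b₀) = W) :
    MulAction.orbit ↥(SWg q W) b₀ = {b | LinearIndependent F b ∧ ∀ i, b i ∈ W} := by
  have hb₀W : ∀ i, b₀ i ∈ W := fun i => hspan ▸ Submodule.subset_span ⟨i, rfl⟩
  ext b
  constructor
  · rintro ⟨⟨g, hg⟩, rfl⟩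
    exact ⟨li_smul g b₀ hb₀, fun i => stabW_fwd W g hg.2 _ (hb₀W i)⟩
  · rintro ⟨hb1, hb2⟩
    have hfr₀ : IsFrame q b₀ := ⟨hb₀, fun i j => hW _ (hb₀W i) _ (hb₀W j)⟩
    have hfr : IsFrame q b := ⟨hb1, fun i j => hW _ (hb2 i) _ (hb2 j)⟩
    obtain ⟨g, hg, h⟩ := frame_trans hF b₀ b hfr₀ hfr
    have hgW : g ∈ Cfsg.Geo.subspaceStabilizer W := by
      apply stabW_of_fwd
      intro v hv
      rw [← hspan] at hv
      exact map_span_le g b₀ W (fun i => by rw [h i]; exact hb2 i) v hv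
    exact ⟨⟨g, ⟨hg, hgW⟩⟩, funext h⟩

theorem card_bases (hF : Fintype.card F = q ^ 2) {k : ℕ} (W : Submodule F VV)
    (hWk : Module.finrank F W = k) :
    Nat.card ↥{b : Fin k → VV | LinearIndependent F b ∧ ∀ i, b i ∈ W} =
      ∏ i : Fin k, ((q ^ 2) ^ k - (q ^ 2) ^ (i : ℕ)) := by
  have h := card_linearIndependent (K := F) (V := W) (k := k) (le_of_eq hWk.symm)
  rw [hWk, hF] at h
  rw [← h]
  apply Nat.card_congr
  exact
    { toFun := fun b => ⟨fun i => ⟨b.1 i, b.2.2 i⟩, by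
        apply LinearIndependent.of_comp W.subtype
        exact b.2.1⟩
      invFun := fun s => ⟨fun i => (s.1 i : VV), by
        refine ⟨?_, fun i => (s.1 i).2⟩
        exact s.2.map' W.subtype (Submodule.ker_subtype W)⟩
      left_inv := fun b => rfl
      right_inv := fun s => rfl }

theorem stab_SW_card {k : ℕ} (W : Submodule F VV) (b₀ : Fin k → VV)
    (hspan : Submodule.span F (Set.range b₀) = W) :
    Nat.card (MulAction.stabilizer ↥(SWg q W) b₀) =
      Nat.card (MulAction.stabilizer ↥(Cfsg.GU n F q) b₀) := by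
  apply Nat.card_congr
  exact
    { toFun := fun g => ⟨⟨g.1.1, g.1.2.1⟩, by
        have := g.2
        rw [MulAction.mem_stabilizer_iff] at this ⊢
        exact this⟩
      invFun := fun g => ⟨⟨g.1.1, ⟨g.1.2, by
        have h := g.2
        rw [MulAction.mem_stabilizer_iff] at h
        apply stabW_of_fwd
        intro v hv
        rw [← hspan] at hv
        refine map_span_le g.1.1 b₀ W (fun i => ?_) v hv
        have hi : (g.1.1 : MM) *ᵥ b₀ i = b₀ i := congrFun h i
        rw [hi, ← hspan]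
        exact Submodule.subset_span ⟨i, rfl⟩⟩⟩, by
        have := g.2
        rw [MulAction.mem_stabilizer_iff] at this ⊢
        exact this⟩
      left_inv := fun g => rfl
      right_inv := fun g => rfl }

/-- the order of the stabiliser of `W` in `GU` in terms of the frame stabiliser -/
theorem card_SW (hF : Fintype.card F = q ^ 2) {k : ℕ} (W : Submodule F VV)
    (hWk : Module.finrank F W = k)
    (hW : ∀ u ∈ W, ∀ v ∈ W, hf u v = 0) (b₀ : Fin k → VV) (hb₀ : LinearIndependent F b₀)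
    (hspan : Submodule.span F (Set.range b₀) = W) :
    Nat.card ↥(SWg q W) = Nat.card (MulAction.stabilizer ↥(Cfsg.GU n F q) b₀) *
      ∏ i : Fin k, ((q ^ 2) ^ k - (q ^ 2) ^ (i : ℕ)) := by
  have h1 := Subgroup.card_mul_index (MulAction.stabilizer ↥(SWg q W) b₀)
  have h2 := MulAction.index_stabilizer ↥(SWg q W) b₀
  rw [← h1, h2, orbit_SW hF W hW b₀ hb₀ hspan, ← Nat.card_coe_set_eq, card_bases hF W hWk,
    stab_SW_card W b₀ hspan]

end Cfsg.Agent.helper29.UTI
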