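import Mathlib
import Cfsg.Agent.Lib_helper29_UTI5
import Cfsg.Agent.Lib_helper29_USiegel

set_option autoImplicit false
set_option linter.unusedSectionVars false
set_option linter.unusedVariables false
namespace Cfsg.Agent.helper29.UTI
open Matrix Cfsg Cfsg.Agent.helper11.HermCount Cfsg.Agent.helper11.Unitary Cfsg.Agent.helper29
open Cfsg.Agent.helper29.URoot

variable {F : Type*} [Field F] [Fintype F] {q n : ℕ}

local notation "hf" => Cfsg.hermForm n F q
local notation "VV" => (Fin n → F)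
local notation "MM" => Matrix (Fin n) (Fin n) F

/-- Hilbert 90 for the norm-one group: every element of norm one is a `(q-1)`-th power -/
theorem hilbert90 (hF : Fintype.card F = q ^ 2) (l : Fˣ) (hl : l ^ (q + 1) = 1) :
    ∃ u : Fˣ, u ^ (q - 1) = l := by
  have h2 := two_le_q hF
  have hcard := card_units_F hF
  set N : Fˣ →* Fˣ := powMonoidHom (q - 1) with hN
  set K : Subgroup Fˣ := (powMonoidHom (q + 1) : Fˣ →* Fˣ).ker with hK
  have hle : N.range ≤ K := by
    rintro _ ⟨u, rfl⟩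
    rw [hK, MonoidHom.mem_ker, powMonoidHom_apply, hN, powMonoidHom_apply, ← pow_mul, ← hcard]
    exact pow_card_eq_one'
  have hKcard : Nat.card K = q + 1 := by
    rw [hK, IsCyclic.card_powMonoidHom_ker, hcard]
    exact Nat.gcd_eq_right (dvd_mul_left _ _)
  have hkercard : Nat.card N.ker = q - 1 := by
    rw [hN, IsCyclic.card_powMonoidHom_ker, hcard]
    exact Nat.gcd_eq_right (dvd_mul_right _ _)
  have hrangecard : Nat.card N.range = q + 1 := by
    have h1 := Subgroup.card_mul_index N.ker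
    rw [Subgroup.index_ker, hkercard, hcard] at h1
    exact Nat.eq_of_mul_eq_mul_left (by omega) h1
  have heq : N.range = K := Subgroup.eq_of_le_of_card_ge hle (by rw [hKcard, hrangecard])
  have : l ∈ N.range := by
    rw [heq, hK, MonoidHom.mem_ker, powMonoidHom_apply]
    exact hl
  obtain ⟨u, hu⟩ := this
  exact ⟨u, hu⟩

/-- the torus element of a hyperbolic pair `(x, y)`: `x ↦ d x`, `y ↦ d^{-q} y` -/
noncomputable def torM (q : ℕ) (x y : Fin n → F) (d : F) : Matrix (Fin n) (Fin n) F :=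
  1 + Matrix.vecMulVec ((d - 1) • x) (fun j => (y j) ^ q) +
    Matrix.vecMulVec (((d ^ q)⁻¹ - 1) • y) (fun j => (x j) ^ q)

theorem torM_mulVec (x y : VV) (d : F) (v : VV) :
    torM q x y d *ᵥ v = v + hf v y • ((d - 1) • x) + hf v x • (((d ^ q)⁻¹ - 1) • y) := by
  unfold torM
  rw [Matrix.add_mulVec, Matrix.add_mulVec, Matrix.one_mulVec, vmv_mulVec, vmv_mulVec]

theorem torM_preserves (hF : Fintype.card F = q ^ 2) (x y : VV) (d : F) (hd : d ≠ 0)
    (hx : hf x x = 0) (hy : hf y y = 0) (hxy : hf x y = 1) (hyx : hf y x = 1) (u v : VV) :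
    hf (torM q x y d *ᵥ u) (torM q x y d *ᵥ v) = hf u v := by
  rw [torM_mulVec, torM_mulVec]
  have e1 : (d - 1) ^ q = d ^ q - 1 := by rw [sub_pow_q hF, one_pow]
  have e2 : ((d ^ q)⁻¹ - 1) ^ q = d⁻¹ - 1 := by rw [sub_pow_q hF, one_pow, inv_pow, pow_q_q hF]
  have e3 : hf v y ^ q = hf y v := herm_conj hF v y
  have e4 : hf v x ^ q = hf x v := herm_conj hF v x
  have hdq : d ^ q ≠ 0 := pow_ne_zero q hd
  simp only [herm_add_left, herm_add_right hF, herm_smul_left, herm_smul_right, hx, hy, hxy, hyx,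
    e1, e2, e3, e4]
  field_simp
  ring

theorem exists_det_SW (hF : Fintype.card F = q ^ 2) (W : Submodule F VV)
    (hW : ∀ u ∈ W, ∀ v ∈ W, hf u v = 0) (x : VV) (hxW : x ∈ W) (hx0 : x ≠ 0) (l : Fˣ)
    (hl : l ^ (q + 1) = 1) :
    ∃ g : GL (Fin n) F, g ∈ SWg q W ∧ Matrix.GeneralLinearGroup.det g = l := by
  have hx : hf x x = 0 := hW x hxW x hxW
  obtain ⟨y, -, hy, hxy⟩ := exists_partner_u hF ⊤ (ndeg_top hF) x trivial hx0 hx
  have hyx := herm_yx_of_xy hF x y hxy
  obtain ⟨u, hu⟩ := hilbert90 hF l hl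
  have h2 := two_le_q hF
  obtain ⟨d, hd⟩ : ∃ d : F, d = ((u⁻¹ : Fˣ) : F) := ⟨_, rfl⟩
  have hd0 : d ≠ 0 := by rw [hd]; exact Units.ne_zero _
  have hdl : d * (d ^ q)⁻¹ = (l : F) := by
    have hq : q = (q - 1) + 1 := by omega
    rw [← hu, hd, Units.val_pow_eq_pow_val, Units.val_inv_eq_inv_val, inv_pow, inv_inv]
    have hu0 : (u : F) ≠ 0 := Units.ne_zero u
    rw [inv_mul_eq_iff_eq_mul₀ hu0]
    conv_lhs => rw [hq, pow_succ]
    ring
  have hpres := torM_preserves hF x y d hd0 hx hy hxy hyx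
  obtain ⟨g, hg⟩ : ∃ g : Cfsg.GU n F q, g = mkGU hF (torM q x y d) hpres := ⟨_, rfl⟩
  have hgM : ((g : GL (Fin n) F) : MM) = torM q x y d := by rw [hg, coe_mkGU]
  refine ⟨(g : GL (Fin n) F), ⟨g.2, ?_⟩, ?_⟩
  · apply stabW_of_fwd
    intro w hw
    rw [hgM, torM_mulVec, hW w hw x hxW, zero_smul, add_zero]
    exact W.add_mem hw (W.smul_mem _ (W.smul_mem _ hxW))
  · apply Units.ext
    have hdet := det_rank_two hF (g : GL (Fin n) F) x y ((d - 1) • x) (((d ^ q)⁻¹ - 1) • y)
      (fun v => by rw [hgM, torM_mulVec])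
    have : ((Matrix.GeneralLinearGroup.det (g : GL (Fin n) F) : Fˣ) : F) =
        ((g : GL (Fin n) F) : MM).det := rfl
    rw [this, hdet, herm_smul_left, herm_smul_left, herm_smul_left, herm_smul_left, hx, hy, hxy,
      hyx, ← hdl]
    ring

/-- the determinant on the stabiliser of `W` -/
noncomputable def detSW (q : ℕ) (W : Submodule F (Fin n → F)) : ↥(SWg q W) →* Fˣ :=
  (Matrix.GeneralLinearGroup.det).comp (SWg q W).subtype

theorem detSW_val (W : Submodule F VV) (g : ↥(SWg q W)) :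
    ((detSW q W g : Fˣ) : F) = ((g : GL (Fin n) F) : MM).det := rfl

theorem range_detSW (hF : Fintype.card F = q ^ 2) (W : Submodule F VV)
    (hW : ∀ u ∈ W, ∀ v ∈ W, hf u v = 0) (x : VV) (hxW : x ∈ W) (hx0 : x ≠ 0) :
    (detSW q W).range = (powMonoidHom (q + 1) : Fˣ →* Fˣ).ker := by
  ext l
  rw [MonoidHom.mem_range, MonoidHom.mem_ker, powMonoidHom_apply]
  constructor
  · rintro ⟨g, rfl⟩
    apply Units.ext
    rw [Units.val_pow_eq_pow_val, Units.val_one, detSW_val, pow_succ']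
    exact det_mul_det_pow hF g.1 g.2.1
  · intro hl
    obtain ⟨g, hg, hdet⟩ := exists_det_SW hF W hW x hxW hx0 l hl
    exact ⟨⟨g, hg⟩, hdet⟩

theorem card_ker_detSW (W : Submodule F VV) :
    Nat.card (detSW q W).ker = Nat.card ↥((Cfsg.stabilizing (Cfsg.slToMat n F)
      (W : Set (Fin n → F))).subgroupOf (Cfsg.SU n F q)) := by
  symm
  let f : ↥((Cfsg.stabilizing (Cfsg.slToMat n F) (W : Set (Fin n → F))).subgroupOf
      (Cfsg.SU n F q)) → (detSW q W).ker := fun s =>
    ⟨⟨suToGL n F q s.1, ⟨(suToGL_mem s.1).1, s.2⟩⟩, by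
      rw [MonoidHom.mem_ker]
      apply Units.ext
      rw [detSW_val, Units.val_one]
      exact ((s.1 : ↥(Cfsg.SU n F q)) : Matrix.SpecialLinearGroup (Fin n) F).2⟩
  apply Nat.card_eq_of_bijective f
  constructor
  · intro s t hst
    apply Subtype.ext
    apply suToGL_inj
    exact congrArg (fun k : (detSW q W).ker => ((k : ↥(SWg q W)) : GL (Fin n) F)) hst
  · rintro ⟨⟨g, hgGU, hgW⟩, hk⟩
    rw [MonoidHom.mem_ker] at hk
    have hdet : (g : MM).det = 1 := by
      have := congrArg Units.val hk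
      rwa [detSW_val, Units.val_one] at this
    obtain ⟨s, hs⟩ := suToGL_surj g (Subgroup.mem_inf.mpr ⟨hgGU, (mem_SL g).mpr hdet⟩)
    refine ⟨⟨s, ?_⟩, ?_⟩
    · rw [Subgroup.mem_subgroupOf]
      intro v
      have := hgW v
      rw [← hs] at this
      exact this
    · apply Subtype.ext
      apply Subtype.ext
      exact hs

/-- `(q+1) |Stab_SU(W)| = |Stab_GU(W)|` for a nonzero totally isotropic `W` -/
theorem card_SW_eq (hF : Fintype.card F = q ^ 2) (W : Submodule F VV)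
    (hW : ∀ u ∈ W, ∀ v ∈ W, hf u v = 0) (x : VV) (hxW : x ∈ W) (hx0 : x ≠ 0) :
    Nat.card ↥(SWg q W) = (q + 1) * Nat.card ↥((Cfsg.stabilizing (Cfsg.slToMat n F)
      (W : Set (Fin n → F))).subgroupOf (Cfsg.SU n F q)) := by
  have h1 := Subgroup.card_mul_index (detSW q W).ker
  rw [Subgroup.index_ker, range_detSW hF W hW x hxW hx0, card_norm_ker hF, card_ker_detSW] at h1
  rw [← h1, mul_comm]

end Cfsg.Agent.helper29.UTI
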