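import Mathlib
import Cfsg.Agent.Lib_helper29_UTI6

set_option autoImplicit false
set_option linter.unusedSectionVars false
set_option linter.unusedVariables false
namespace Cfsg.Agent.helper29.UInv
open Matrix Cfsg Cfsg.Agent.helper11.HermCount Cfsg.Agent.helper11.Unitary Cfsg.Agent.helper29
open Cfsg.Agent.helper29.UTI

variable {F : Type*} [Field F] [Fintype F] {q n : ℕ}

local notation "hf" => Cfsg.hermForm n F q
local notation "VV" => (Fin n → F)
local notation "MM" => Matrix (Fin n) (Fin n) F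

/-- `a - 1` for an invertible matrix -/
def NN (A : GL (Fin n) F) : Matrix (Fin n) (Fin n) F := (A : MM) - 1

theorem NN_mulVec (A : GL (Fin n) F) (x : VV) : NN A *ᵥ x = (A : MM) *ᵥ x - x := by
  unfold NN
  rw [Matrix.sub_mulVec, Matrix.one_mulVec]

theorem A_mulVec (A : GL (Fin n) F) (x : VV) : (A : MM) *ᵥ x = x + NN A *ᵥ x := by
  rw [NN_mulVec]; abel

theorem invol_mulVec (A : GL (Fin n) F) (hA2 : A * A = 1) (x : VV) :
    (A : MM) *ᵥ ((A : MM) *ᵥ x) = x := by
  rw [← gl_mul_mulVec, hA2, gl_one_mulVec]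

/-- `N = a - 1` is self-adjoint for a unitary involution -/
theorem NN_selfadj (hF : Fintype.card F = q ^ 2) (A : GL (Fin n) F) (hA : A ∈ Cfsg.GU n F q)
    (hA2 : A * A = 1) (x y : VV) :
    hf (NN A *ᵥ x) y = hf x (NN A *ᵥ y) := by
  have h1 : hf ((A : MM) *ᵥ x) y = hf x ((A : MM) *ᵥ y) := by
    have := gu_herm A hA x ((A : MM) *ᵥ y)
    rw [invol_mulVec A hA2] at this
    exact this
  rw [NN_mulVec, NN_mulVec, herm_sub_left, herm_sub_right hF, h1]

theorem NN_sq [CharP F 2] (A : GL (Fin n) F) (hA2 : A * A = 1) (x : VV) :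
    NN A *ᵥ (NN A *ᵥ x) = 0 := by
  have h2 : (2 : F) = 0 := CharTwo.two_eq_zero
  rw [NN_mulVec, NN_mulVec, Matrix.mulVec_sub, invol_mulVec A hA2]
  funext i
  simp only [Pi.sub_apply, Pi.zero_apply]
  linear_combination (x i - ((A : MM) *ᵥ x) i) * h2

theorem vec_add_self [CharP F 2] (w : VV) : w + w = 0 := by
  funext i
  exact CharTwo.add_self_eq_zero (w i)

theorem range_iso (hF : Fintype.card F = q ^ 2) [CharP F 2] (A : GL (Fin n) F)
    (hA : A ∈ Cfsg.GU n F q) (hA2 : A * A = 1) (x y : VV) :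
    hf (NN A *ᵥ x) (NN A *ᵥ y) = 0 := by
  rw [NN_selfadj hF A hA hA2, NN_sq A hA2, herm_zero_right hF]

theorem exists_beta_ne (hF : Fintype.card F = q ^ 2) [CharP F 2] (A : GL (Fin n) F)
    (hA : A ∈ Cfsg.GU n F q) (hA2 : A * A = 1) (hN : NN A ≠ 0) :
    ∃ u : VV, hf (NN A *ᵥ u) u ≠ 0 := by
  by_contra hcon
  push Not at hcon
  apply hN
  obtain ⟨l, hl⟩ := exists_not_fixed hF
  have hsym : ∀ x y : VV, hf (NN A *ᵥ x) y + hf (NN A *ᵥ x) y ^ q = 0 := by
    intro x y
    have h1 := hcon (x + y)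
    rw [Matrix.mulVec_add, herm_add_left, herm_add_right hF, herm_add_right hF, hcon x, hcon y,
      zero_add, add_zero] at h1
    have h2 : hf (NN A *ᵥ y) x = hf (NN A *ᵥ x) y ^ q := by
      rw [NN_selfadj hF A hA hA2, herm_conj hF]
    rw [h2] at h1
    exact h1
  have hzero : ∀ x y : VV, hf (NN A *ᵥ x) y = 0 := by
    intro x y
    have h1 := hsym x y
    have h2 := hsym (l • x) y
    rw [Matrix.mulVec_smul, herm_smul_left, mul_pow] at h2
    have h3 : hf (NN A *ᵥ x) y ^ q = - hf (NN A *ᵥ x) y := by linear_combination h1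
    rw [h3] at h2
    have h4 : (l - l ^ q) * hf (NN A *ᵥ x) y = 0 := by linear_combination h2
    rcases mul_eq_zero.mp h4 with h | h
    · exact absurd (sub_eq_zero.mp h).symm hl
    · exact h
  rw [Matrix.ext_iff_mulVec]
  intro x
  rw [Matrix.zero_mulVec]
  funext j
  have := hzero x (Pi.single j 1)
  rw [herm_single_right (q_ne_zero hF)] at this
  exact this

theorem exists_unit_beta (hF : Fintype.card F = q ^ 2) [CharP F 2] (A : GL (Fin n) F)
    (hA : A ∈ Cfsg.GU n F q) (hA2 : A * A = 1) (hN : NN A ≠ 0) :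
    ∃ u : VV, hf (NN A *ᵥ u) u = 1 := by
  obtain ⟨u₀, hu₀⟩ := exists_beta_ne hF A hA hA2 hN
  have hc : hf (NN A *ᵥ u₀) u₀ ^ q = hf (NN A *ᵥ u₀) u₀ := by
    rw [herm_conj hF, ← NN_selfadj hF A hA hA2]
  have hc' : (hf (NN A *ᵥ u₀) u₀)⁻¹ ^ q = (hf (NN A *ᵥ u₀) u₀)⁻¹ := by rw [inv_pow, hc]
  obtain ⟨l, hl⟩ := exists_norm hF _ hc' (inv_ne_zero hu₀)
  refine ⟨l • u₀, ?_⟩
  rw [Matrix.mulVec_smul, herm_smul_left, herm_smul_right]
  calc l * (l ^ q * hf (NN A *ᵥ u₀) u₀) = (l * l ^ q) * hf (NN A *ᵥ u₀) u₀ := by ring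
    _ = 1 := by rw [hl, inv_mul_cancel₀ hu₀]

/-- normal form of a unitary involution in characteristic two: a product of transvections
with pairwise orthogonal centres -/
theorem normal_form (hF : Fintype.card F = q ^ 2) [CharP F 2] : ∀ (r : ℕ) (A : GL (Fin n) F),
    A ∈ Cfsg.GU n F q → A * A = 1 → (NN A).rank = r →
    ∃ (s : ℕ) (w : Fin s → VV), LinearIndependent F w ∧ (∀ i, ∃ y, w i = NN A *ᵥ y) ∧
      ∀ x, NN A *ᵥ x = ∑ i, hf x (w i) • w i := by
  intro r
  induction r using Nat.strong_induction_on with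
  | _ r ih =>
    intro A hA hA2 hr
    by_cases hN : NN A = 0
    · refine ⟨0, fun i => i.elim0, linearIndependent_empty_type, fun i => i.elim0, fun x => ?_⟩
      rw [hN, Matrix.zero_mulVec]
      simp
    · obtain ⟨u, hu⟩ := exists_unit_beta hF A hA hA2 hN
      obtain ⟨w₁, hw₁def⟩ : ∃ w₁ : VV, w₁ = NN A *ᵥ u := ⟨_, rfl⟩
      rw [← hw₁def] at hu
      have hw₁ : hf w₁ w₁ = 0 := by rw [hw₁def]; exact range_iso hF A hA hA2 u u
      have huw₁ : hf u w₁ = 1 := herm_yx_of_xy hF _ _ hu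
      have hAw₁ : (A : MM) *ᵥ w₁ = w₁ := by
        rw [A_mulVec, hw₁def, NN_sq A hA2, add_zero]
      obtain ⟨T, hTdef⟩ : ∃ T : GL (Fin n) F, T = TTu q w₁ 1 := ⟨_, rfl⟩
      have hT : T ∈ Cfsg.GU n F q := by
        rw [hTdef]
        exact TTu_mem_GU hF w₁ 1 hw₁ (by rw [one_pow]; exact (CharTwo.neg_eq (1 : F)).symm)
      have hcomm : A * T = T * A := by
        have := conj_TTu A hA w₁ 1 hw₁
        rw [hAw₁, ← hTdef] at this
        calc A * T = (A * T * A⁻¹) * A := by group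
          _ = T * A := by rw [this]
      have hTT : T * T = 1 := by
        rw [hTdef, TTu_mul _ _ _ hw₁, CharTwo.add_self_eq_zero, TTu_zero]
      have hA₁ : A * T ∈ Cfsg.GU n F q := mul_mem hA hT
      have hA₁2 : A * T * (A * T) = 1 := by
        calc A * T * (A * T) = A * (T * A) * T := by group
          _ = A * (A * T) * T := by rw [hcomm]
          _ = (A * A) * (T * T) := by group
          _ = 1 := by rw [hA2, hTT, one_mul]
      have hN₁ : ∀ x, NN (A * T) *ᵥ x = NN A *ᵥ x + hf x w₁ • w₁ := by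
        intro x
        rw [NN_mulVec, gl_mul_mulVec, hTdef, TTu_mulVec _ _ hw₁, one_mul, Matrix.mulVec_add,
          Matrix.mulVec_smul, hAw₁, NN_mulVec]
        abel
      have hN₁u : NN (A * T) *ᵥ u = 0 := by
        rw [hN₁, huw₁, one_smul, ← hw₁def]
        exact vec_add_self w₁
      have hrange_le : ∀ x, ∃ y, NN (A * T) *ᵥ x = NN A *ᵥ y := fun x =>
        ⟨x + hf x w₁ • u, by rw [hN₁, Matrix.mulVec_add, Matrix.mulVec_smul, ← hw₁def]⟩
      have hw₁_not : ∀ x, NN (A * T) *ᵥ x ≠ w₁ := by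
        intro x hx
        have := NN_selfadj hF (A * T) hA₁ hA₁2 x u
        rw [hx, hN₁u, hu, herm_zero_right hF] at this
        exact one_ne_zero this
      have hrank : (NN (A * T)).rank < r := by
        rw [← hr]
        unfold Matrix.rank
        apply Submodule.finrank_lt_finrank_of_lt
        rw [SetLike.lt_iff_le_and_exists]
        constructor
        · rintro _ ⟨x, rfl⟩
          obtain ⟨y, hy⟩ := hrange_le x
          exact ⟨y, by rw [Matrix.mulVecLin_apply, Matrix.mulVecLin_apply, hy]⟩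
        · refine ⟨w₁, ⟨u, by rw [Matrix.mulVecLin_apply, hw₁def]⟩, ?_⟩
          rintro ⟨x, hx⟩
          rw [Matrix.mulVecLin_apply] at hx
          exact hw₁_not x hx
      obtain ⟨s, w, hwLI, hwr, hwf⟩ := ih _ hrank (A * T) hA₁ hA₁2 rfl
      refine ⟨s + 1, Fin.cons w₁ w, ?_, ?_, ?_⟩
      · rw [linearIndependent_finCons]
        refine ⟨hwLI, ?_⟩
        intro hmem
        have hle : Submodule.span F (Set.range w) ≤ LinearMap.range (NN (A * T)).mulVecLin := by
          rw [Submodule.span_le]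
          rintro _ ⟨i, rfl⟩
          obtain ⟨y, hy⟩ := hwr i
          exact ⟨y, by rw [Matrix.mulVecLin_apply, hy]⟩
        obtain ⟨x, hx⟩ := hle hmem
        rw [Matrix.mulVecLin_apply] at hx
        exact hw₁_not x hx
      · intro i
        refine Fin.cases ?_ (fun j => ?_) i
        · exact ⟨u, by rw [Fin.cons_zero, hw₁def]⟩
        · obtain ⟨y, hy⟩ := hwr j
          obtain ⟨y', hy'⟩ := hrange_le y
          exact ⟨y', by rw [Fin.cons_succ, hy, hy']⟩
      · intro x
        rw [Fin.sum_univ_succ]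
        simp only [Fin.cons_zero, Fin.cons_succ]
        rw [← hwf x, hN₁ x, add_comm (NN A *ᵥ x), ← add_assoc, vec_add_self, zero_add]

end Cfsg.Agent.helper29.UInv
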