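import Mathlib
import Cfsg.Agent.Lib_helper29_UInv1

set_option autoImplicit false
set_option linter.unusedSectionVars false
set_option linter.unusedVariables false
namespace Cfsg.Agent.helper29.UInv
open Matrix Cfsg Cfsg.Agent.helper11.HermCount Cfsg.Agent.helper11.Unitary Cfsg.Agent.helper29
open Cfsg.Agent.helper29.UTI

variable {F : Type*} [Field F] [Fintype F] {q n : ℕ}

local notation "hf" => Cfsg.hermForm n F q
local notation "VV" => (Fin n → F)
local notation "MM" => Matrix (Fin n) (Fin n) F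

/-- the rank of `a - 1` is the length of a normal-form frame -/
theorem rank_of_normal (hF : Fintype.card F = q ^ 2) (M : MM) {s : ℕ} (w : Fin s → VV)
    (hw : LinearIndependent F w) (hform : ∀ x, M *ᵥ x = ∑ i, hf x (w i) • w i) :
    M.rank = s := by
  have hker : LinearMap.ker M.mulVecLin = perpS q (Set.range w) := by
    ext x
    rw [LinearMap.mem_ker, Matrix.mulVecLin_apply, hform]
    constructor
    · intro h
      rintro _ ⟨i, rfl⟩
      exact (Fintype.linearIndependent_iff.mp hw) (fun i => hf x (w i)) h i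
    · intro h
      apply Finset.sum_eq_zero
      intro i _
      rw [h (w i) ⟨i, rfl⟩, zero_smul]
  have h1 := LinearMap.finrank_range_add_finrank_ker M.mulVecLin
  have h2 := finrank_perp_gen hF (Submodule.span F (Set.range w))
  rw [perpS_span hF, finrank_span_eq_card hw, Fintype.card_fin] at h2
  rw [hker, Module.finrank_fin_fun] at h1
  unfold Matrix.rank
  omega

/-- conjugating a normal form -/
theorem NN_conj (g A : GL (Fin n) F) (hg : g ∈ Cfsg.GU n F q) {s : ℕ} (w : Fin s → VV)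
    (hform : ∀ x, NN A *ᵥ x = ∑ i, hf x (w i) • w i) (x : VV) :
    NN (g * A * g⁻¹) *ᵥ x = ∑ i, hf x ((g : MM) *ᵥ w i) • ((g : MM) *ᵥ w i) := by
  rw [NN_mulVec, gl_mul_mulVec, gl_mul_mulVec, A_mulVec A, Matrix.mulVec_add, gl_mulVec_inv,
    add_sub_cancel_left, hform, Matrix.mulVec_sum]
  apply Finset.sum_congr rfl
  intro i _
  rw [Matrix.mulVec_smul, gu_herm_inv g hg]

theorem eq_of_NN_eq (A B : GL (Fin n) F) (h : ∀ x, NN A *ᵥ x = NN B *ᵥ x) : A = B := by
  apply gl_ext'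
  intro x
  rw [A_mulVec A, A_mulVec B, h]

/-- unitary involutions in characteristic two with the same rank are conjugate in `GU`,
by an element mapping one normal-form frame to the other -/
theorem conj_GU (hF : Fintype.card F = q ^ 2) [CharP F 2] (A B : GL (Fin n) F)
    (hA : A ∈ Cfsg.GU n F q) (hB : B ∈ Cfsg.GU n F q) (hA2 : A * A = 1) (hB2 : B * B = 1)
    (hrank : (NN A).rank = (NN B).rank) :
    ∃ g : GL (Fin n) F, g ∈ Cfsg.GU n F q ∧ g * A * g⁻¹ = B := by
  obtain ⟨s, w, hwLI, hwr, hwf⟩ := normal_form hF _ A hA hA2 rfl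
  obtain ⟨s', w', hwLI', hwr', hwf'⟩ := normal_form hF _ B hB hB2 rfl
  have hs : s = s' := by
    rw [← rank_of_normal hF (NN A) w hwLI hwf, ← rank_of_normal hF (NN B) w' hwLI' hwf', hrank]
  subst hs
  have hfr : IsFrame q w := ⟨hwLI, fun i j => by
    obtain ⟨y, hy⟩ := hwr i
    obtain ⟨y', hy'⟩ := hwr j
    rw [hy, hy']
    exact range_iso hF A hA hA2 y y'⟩
  have hfr' : IsFrame q w' := ⟨hwLI', fun i j => by
    obtain ⟨y, hy⟩ := hwr' i
    obtain ⟨y', hy'⟩ := hwr' j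
    rw [hy, hy']
    exact range_iso hF B hB hB2 y y'⟩
  obtain ⟨g, hg, hgw⟩ := frame_trans hF w w' hfr hfr'
  refine ⟨g, hg, ?_⟩
  apply eq_of_NN_eq
  intro x
  rw [NN_conj g A hg w hwf, hwf']
  apply Finset.sum_congr rfl
  intro i _
  rw [hgw i]

/-- a dual isotropic vector for the first member of a frame -/
theorem exists_dual_iso (hF : Fintype.card F = q ^ 2) {s : ℕ} (w : Fin (s + 1) → VV)
    (hw : IsFrame q w) :
    ∃ y : VV, hf y y = 0 ∧ hf (w 0) y = 1 ∧ ∀ j : Fin s, hf (w j.succ) y = 0 := by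
  obtain ⟨hfr', ⟨hx1, hx2⟩, hx3⟩ := frame_tail hF w hw
  have hex : ∃ v ∈ perpS q ((Submodule.span F (Set.range (Fin.tail w)) : Submodule F VV) : Set VV),
      hf (w 0) v ≠ 0 := by
    by_contra hcon
    push Not at hcon
    exact hx3 (perp_perp_gen hF _ (w 0) hcon)
  obtain ⟨v, hv, hv0⟩ := hex
  rw [perpS_span hF] at hv
  obtain ⟨y₀, hy₀⟩ : ∃ y₀ : VV, y₀ = (((hf (w 0) v)⁻¹) ^ q) • v := ⟨_, rfl⟩
  have h1 : hf (w 0) y₀ = 1 := by
    rw [hy₀, herm_smul_right, pow_q_q hF, inv_mul_cancel₀ hv0]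
  have h1' : hf y₀ (w 0) = 1 := herm_yx_of_xy hF _ _ h1
  have h2 : ∀ j : Fin s, hf (w j.succ) y₀ = 0 := by
    intro j
    rw [hy₀, herm_smul_right, herm_eq_zero_symm hF _ _ (hv (w j.succ) ⟨j, rfl⟩), mul_zero]
  obtain ⟨μ, hμ⟩ := exists_trace hF (-(hf y₀ y₀)) (by rw [neg_pow_q' hF, herm_pow_q hF])
  refine ⟨y₀ + μ • w 0, ?_, ?_, ?_⟩
  · rw [herm_add_left, herm_add_right hF, herm_add_right hF, herm_smul_left, herm_smul_left,
      herm_smul_right, herm_smul_right, hx2, h1, h1']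
    linear_combination hμ
  · rw [herm_add_right hF, herm_smul_right, hx2, h1]; ring
  · intro j
    rw [herm_add_right hF, herm_smul_right, h2 j, hw.2 j.succ 0]; ring

/-- elements of the centraliser of a unitary involution with prescribed square determinant -/
theorem exists_centralizing (hF : Fintype.card F = q ^ 2) [CharP F 2] (B : GL (Fin n) F)
    (hB : B ∈ Cfsg.GU n F q) (hB2 : B * B = 1) (hB1 : B ≠ 1) (l : F) (hl : l * l ^ q = 1) :
    ∃ c : GL (Fin n) F, c ∈ Cfsg.GU n F q ∧ c * B * c⁻¹ = B ∧ (c : MM).det = l * l := by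
  obtain ⟨s, w, hwLI, hwr, hwf⟩ := normal_form hF _ B hB hB2 rfl
  have hs : s ≠ 0 := by
    rintro rfl
    apply hB1
    apply eq_of_NN_eq
    intro x
    rw [hwf]
    simp [NN_mulVec]
  obtain ⟨s, rfl⟩ : ∃ s', s = s' + 1 := ⟨s - 1, by omega⟩
  have hfr : IsFrame q w := ⟨hwLI, fun i j => by
    obtain ⟨y, hy⟩ := hwr i
    obtain ⟨y', hy'⟩ := hwr j
    rw [hy, hy']
    exact range_iso hF B hB hB2 y y'⟩
  obtain ⟨y, hyy, hxy, hjy⟩ := exists_dual_iso hF w hfr
  have hyx := herm_yx_of_xy hF _ _ hxy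
  have hl0 : l ≠ 0 := by
    rintro rfl
    rw [zero_mul] at hl
    exact zero_ne_one hl
  have hlq : (l ^ q)⁻¹ = l := by
    rw [inv_eq_of_mul_eq_one_left hl]
  have hpres := torM_preserves hF (w 0) y l hl0 (hfr.2 0 0) hyy hxy hyx
  obtain ⟨c, hc⟩ : ∃ c : Cfsg.GU n F q, c = mkGU hF (torM q (w 0) y l) hpres := ⟨_, rfl⟩
  have hcM : ((c : GL (Fin n) F) : MM) = torM q (w 0) y l := by rw [hc, coe_mkGU]
  have hc0 : ((c : GL (Fin n) F) : MM) *ᵥ w 0 = l • w 0 := by
    rw [hcM, torM_mulVec, hfr.2 0 0, hxy, zero_smul, add_zero, one_smul, sub_smul, one_smul]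
    abel
  have hcj : ∀ j : Fin s, ((c : GL (Fin n) F) : MM) *ᵥ w j.succ = w j.succ := by
    intro j
    rw [hcM, torM_mulVec, hfr.2 j.succ 0, hjy j, zero_smul, zero_smul, add_zero, add_zero]
  refine ⟨(c : GL (Fin n) F), c.2, ?_, ?_⟩
  · apply eq_of_NN_eq
    intro x
    rw [NN_conj (c : GL (Fin n) F) B c.2 w hwf, hwf, Fin.sum_univ_succ, Fin.sum_univ_succ, hc0]
    congr 1
    · rw [herm_smul_right, smul_smul]
      congr 1
      calc l ^ q * hf x (w 0) * l = (l * l ^ q) * hf x (w 0) := by ring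
        _ = hf x (w 0) := by rw [hl, one_mul]
    · apply Finset.sum_congr rfl
      intro j _
      rw [hcj j]
  · have hdet := det_rank_two hF (c : GL (Fin n) F) (w 0) y ((l - 1) • w 0) (((l ^ q)⁻¹ - 1) • y)
      (fun v => by rw [hcM, torM_mulVec])
    rw [hdet, herm_smul_left, herm_smul_left, herm_smul_left, herm_smul_left, hfr.2 0 0, hyy, hxy,
      hyx, hlq]
    ring

end Cfsg.Agent.helper29.UInv
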