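import Mathlib
import Cfsg.Agent.Lib_helper29_ULagB

set_option autoImplicit false
set_option linter.unusedSectionVars false
set_option linter.unusedVariables false

namespace Cfsg.Agent.helper29

open Matrix Cfsg Cfsg.Agent.helper11.HermCount Cfsg.Agent.helper11.Unitary

section ulagC

variable {F : Type*} [Field F] [Fintype F] {q n : ℕ}

local notation "hf" => Cfsg.hermForm n F q
local notation "VV" => (Fin n → F)
local notation "MM" => Matrix (Fin n) (Fin n) F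

/-- the Weyl element of a hyperbolic pair -/
noncomputable def weyl (q : ℕ) (x y : Fin n → F) (ε : F) : GL (Fin n) F :=
  TTu q x (-ε⁻¹) * TTu q y ε * TTu q x (-ε⁻¹)

theorem weyl_mulVec (x y : VV) (ε : F) (hε0 : ε ≠ 0) (hx : hf x x = 0) (hy : hf y y = 0)
    (hxy : hf x y = 1) (hyx : hf y x = 1) (v : VV) :
    ((weyl q x y ε : GL (Fin n) F) : MM) *ᵥ v =
      v + (-ε⁻¹ * hf v x - hf v y) • x + (ε * hf v y - hf v x) • y := by
  unfold weyl
  rw [gl_mul_mulVec, gl_mul_mulVec, TTu_mulVec x _ hx, TTu_mulVec y _ hy, TTu_mulVec x _ hx]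
  simp only [herm_add_left, herm_smul_left, hx, hy, hxy, hyx]
  match_scalars
  · ring
  · field_simp
    ring
  · field_simp
    ring

theorem weyl_mem_SUG (hF : Fintype.card F = q ^ 2) (x y : VV) (ε : F) (hε : ε ^ q = -ε)
    (hx : hf x x = 0) (hy : hf y y = 0) : (weyl q x y ε : GL (Fin n) F) ∈ SUG n F q := by
  have hr : (-ε⁻¹) ^ q = -(-ε⁻¹) := by rw [neg_pow_q' hF, inv_pow, hε, inv_neg]
  unfold weyl
  exact Subgroup.mul_mem _ (Subgroup.mul_mem _ (TTu_mem_SUG hF x _ hx hr)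
    (TTu_mem_SUG hF y ε hy hε)) (TTu_mem_SUG hF x _ hx hr)

variable {A B : Submodule F (Fin n → F)} {k : ℕ}

theorem ULagPair.exists_swap (hF : Fintype.card F = q ^ 2) (hp : ULagPair q A B k) :
    ∃ s ∈ SUG n F q, (∀ a ∈ A, (s : MM) *ᵥ a ∈ B) ∧ (∀ b ∈ B, (s : MM) *ᵥ b ∈ A) := by
  classical
  set bA : Module.Basis (Fin k) F A := Module.finBasisOfFinrankEq F A hp.dimA with hbA
  set x : Fin k → VV := fun i => (bA i : VV) with hx
  have hxA : ∀ i, x i ∈ A := fun i => (bA i).2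
  have hspan : ∀ a ∈ A, ∃ c : Fin k → F, a = ∑ i, c i • x i := by
    intro a ha
    refine ⟨fun i => bA.repr ⟨a, ha⟩ i, ?_⟩
    have := bA.sum_repr ⟨a, ha⟩
    have h2 := congrArg Subtype.val this
    rw [Submodule.coe_sum] at h2
    simp only [Submodule.coe_smul] at h2
    exact h2.symm
  set Ψ : B →ₗ[F] (Fin k → F) :=
    LinearMap.pi (fun i => (hermL q (x i)).comp B.subtype) with hΨ
  have hΨapp : ∀ (y : B) (i : Fin k), Ψ y i = hf y.1 (x i) := fun y i => rfl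
  have hinj : Function.Injective Ψ := by
    rw [injective_iff_map_eq_zero]
    intro y hy
    apply Subtype.ext
    apply hp.symm.nd hF y.1 y.2
    intro a ha
    apply herm_eq_zero_symm hF
    obtain ⟨c, rfl⟩ := hspan a ha
    rw [herm_sum_left]
    apply Finset.sum_eq_zero
    intro i _
    rw [herm_smul_left]
    have h1 : hf y.1 (x i) = 0 := by rw [← hΨapp, hy]; rfl
    rw [herm_eq_zero_symm hF _ _ h1, mul_zero]
  have hsurj : Function.Surjective Ψ :=
    (LinearMap.injective_iff_surjective_of_finrank_eq_finrank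
      (by rw [hp.dimB, Module.finrank_fin_fun])).mp hinj
  choose y' hy' using fun j : Fin k => hsurj (Pi.single j 1)
  set y : Fin k → VV := fun j => (y' j : VV) with hy
  have hyB : ∀ j, y j ∈ B := fun j => (y' j).2
  have hyx : ∀ i j, hf (y j) (x i) = if i = j then 1 else 0 := by
    intro i j
    have := congrFun (hy' j) i
    rw [hΨapp, Pi.single_apply] at this
    exact this
  have hxy : ∀ i j, hf (x i) (y j) = if i = j then 1 else 0 := by
    intro i j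
    rw [← herm_conj hF, hyx i j]
    split_ifs
    · exact one_pow q
    · exact zero_pow (q_ne_zero hF)
  have hxx : ∀ i j, hf (x i) (x j) = 0 := fun i j => hp.hA _ (hxA i) _ (hxA j)
  have hyy : ∀ i j, hf (y i) (y j) = 0 := fun i j => hp.hB _ (hyB i) _ (hyB j)
  obtain ⟨ε, hε0, hε⟩ := exists_eps hF
  -- the product of the Weyl elements
  have key : ∀ m : ℕ, m ≤ k → ∃ s ∈ SUG n F q,
      (∀ j : Fin k, j.val < m → (s : MM) *ᵥ x j = ε • y j ∧ (s : MM) *ᵥ y j = (-ε⁻¹) • x j) ∧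
      (∀ j : Fin k, m ≤ j.val → (s : MM) *ᵥ x j = x j ∧ (s : MM) *ᵥ y j = y j) := by
    intro m
    induction m with
    | zero =>
      intro _
      exact ⟨1, Subgroup.one_mem _, fun j hj => absurd hj (Nat.not_lt_zero _),
        fun j _ => ⟨gl_one_mulVec _, gl_one_mulVec _⟩⟩
    | succ m ih =>
      intro hm
      obtain ⟨s, hs, h1, h2⟩ := ih (by omega)
      set i : Fin k := ⟨m, by omega⟩ with hi
      have hxyi : hf (x i) (y i) = 1 := by rw [hxy, if_pos rfl]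
      have hyxi : hf (y i) (x i) = 1 := by rw [hyx, if_pos rfl]
      have hw := weyl_mulVec (q := q) (x i) (y i) ε hε0 (hxx i i) (hyy i i) hxyi hyxi
      have hfixx : ∀ j : Fin k, j ≠ i →
          ((weyl q (x i) (y i) ε : GL (Fin n) F) : MM) *ᵥ x j = x j := by
        intro j hj
        rw [hw, hxx, hxy, if_neg hj]
        simp
      have hfixy : ∀ j : Fin k, j ≠ i →
          ((weyl q (x i) (y i) ε : GL (Fin n) F) : MM) *ᵥ y j = y j := by
        intro j hj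
        rw [hw, hyy, hyx, if_neg (Ne.symm hj)]
        simp
      have hwx : ((weyl q (x i) (y i) ε : GL (Fin n) F) : MM) *ᵥ x i = ε • y i := by
        rw [hw, hxx, hxyi]
        module
      have hwy : ((weyl q (x i) (y i) ε : GL (Fin n) F) : MM) *ᵥ y i = (-ε⁻¹) • x i := by
        rw [hw, hyy, hyxi]
        module
      refine ⟨weyl q (x i) (y i) ε * s,
        Subgroup.mul_mem _ (weyl_mem_SUG hF _ _ ε hε (hxx i i) (hyy i i)) hs, ?_, ?_⟩
      · intro j hj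
        by_cases hji : j = i
        · have hge : m ≤ j.val := by rw [hji]
          obtain ⟨e1, e2⟩ := h2 j hge
          rw [gl_mul_mulVec, gl_mul_mulVec, e1, e2, hji]
          exact ⟨hwx, hwy⟩
        · have hlt : j.val < m := by
            have : j.val ≠ m := fun h => hji (Fin.ext h)
            omega
          obtain ⟨e1, e2⟩ := h1 j hlt
          rw [gl_mul_mulVec, gl_mul_mulVec, e1, e2, Matrix.mulVec_smul, Matrix.mulVec_smul,
            hfixy j hji, hfixx j hji]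
          exact ⟨rfl, rfl⟩
      · intro j hj
        have hji : j ≠ i := by
          intro h
          rw [h] at hj
          simp [hi] at hj
        obtain ⟨e1, e2⟩ := h2 j (by omega)
        rw [gl_mul_mulVec, gl_mul_mulVec, e1, e2]
        exact ⟨hfixx j hji, hfixy j hji⟩
  obtain ⟨s, hs, h1, -⟩ := key k le_rfl
  have hsx : ∀ i, (s : MM) *ᵥ x i = ε • y i := fun i => (h1 i i.2).1
  have hsy : ∀ i, (s : MM) *ᵥ y i = (-ε⁻¹) • x i := fun i => (h1 i i.2).2
  have hA1 : ∀ a ∈ A, (s : MM) *ᵥ a ∈ B := by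
    intro a ha
    obtain ⟨c, rfl⟩ := hspan a ha
    rw [← Matrix.mulVecLin_apply, map_sum]
    apply Submodule.sum_mem
    intro i _
    rw [map_smul, Matrix.mulVecLin_apply, hsx]
    exact B.smul_mem _ (B.smul_mem _ (hyB i))
  have hmap : A.map (Matrix.toLin' (s : MM)) = B :=
    map_eq_of_le_finrank_gl A B (hp.dimA.trans hp.dimB.symm) s hA1
  refine ⟨s, hs, hA1, ?_⟩
  intro b hb
  rw [← hmap] at hb
  obtain ⟨a, ha, rfl⟩ := hb
  obtain ⟨c, rfl⟩ := hspan a ha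
  rw [Matrix.toLin'_apply, ← Matrix.mulVecLin_apply, ← Matrix.mulVecLin_apply, map_sum, map_sum]
  apply Submodule.sum_mem
  intro i _
  rw [map_smul, map_smul, Matrix.mulVecLin_apply, Matrix.mulVecLin_apply, hsx,
    Matrix.mulVec_smul, hsy]
  exact A.smul_mem _ (A.smul_mem _ (A.smul_mem _ (hxA i)))

end ulagC

section umain

variable {F : Type*} [Field F] [Fintype F] {q n : ℕ}

local notation "hf" => Cfsg.hermForm n F q
local notation "VV" => (Fin n → F)
local notation "MM" => Matrix (Fin n) (Fin n) F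

variable {D : Fin 2 → Submodule F (Fin n → F)} {k : ℕ}

theorem ulagPair_of (hD : Cfsg.Geo.IsMDecomposition k D)
    (hts : ∀ i, Cfsg.Geo.IsTotallySingularFor (Cfsg.hermForm n F q) (D i)) :
    ULagPair q (D 0) (D 1) k where
  hA := hts 0
  hB := hts 1
  dec := by
    intro v
    have hv : v ∈ ⨆ i ∈ (Finset.univ : Finset (Fin 2)), D i := by
      simp only [Finset.mem_univ, iSup_pos]
      rw [hD.iSup_eq_top]
      trivial
    rw [Submodule.mem_iSup_finset_iff_exists_sum] at hv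
    obtain ⟨μ, hμ⟩ := hv
    refine ⟨(μ 0 : VV), (μ 0).2, (μ 1 : VV), (μ 1).2, ?_⟩
    rw [← hμ, Fin.sum_univ_two]
  dimA := hD.finrank_eq 0
  dimB := hD.finrank_eq 1

theorem mem_stabD (g : GL (Fin n) F) : g ∈ Cfsg.Geo.decompositionStabilizer D ↔
    ∃ σ : Equiv.Perm (Fin 2), ∀ i, (D i).map (Matrix.toLin' (g : MM)) = D (σ i) := Iff.rfl

theorem mem_stabD_id (hp : ULagPair q (D 0) (D 1) k) (g : GL (Fin n) F)
    (h0 : ∀ a ∈ D 0, (g : MM) *ᵥ a ∈ D 0) (h1 : ∀ b ∈ D 1, (g : MM) *ᵥ b ∈ D 1) :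
    g ∈ Cfsg.Geo.decompositionStabilizer D := by
  rw [mem_stabD]
  refine ⟨1, Fin.forall_fin_two.mpr ⟨?_, ?_⟩⟩
  · rw [Equiv.Perm.one_apply]; exact map_eq_of_le_finrank_gl _ _ rfl g h0
  · rw [Equiv.Perm.one_apply]; exact map_eq_of_le_finrank_gl _ _ rfl g h1

theorem mem_stabD_swap (hp : ULagPair q (D 0) (D 1) k) (g : GL (Fin n) F)
    (h0 : ∀ a ∈ D 0, (g : MM) *ᵥ a ∈ D 1) (h1 : ∀ b ∈ D 1, (g : MM) *ᵥ b ∈ D 0) :
    g ∈ Cfsg.Geo.decompositionStabilizer D := by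
  rw [mem_stabD]
  refine ⟨Equiv.swap 0 1, Fin.forall_fin_two.mpr ⟨?_, ?_⟩⟩
  · rw [Equiv.swap_apply_left]
    exact map_eq_of_le_finrank_gl _ _ (hp.dimA.trans hp.dimB.symm) g h0
  · rw [Equiv.swap_apply_right]
    exact map_eq_of_le_finrank_gl _ _ (hp.dimB.trans hp.dimA.symm) g h1

theorem EE3_mem_stabD (hF : Fintype.card F = q ^ 2) (hp : ULagPair q (D 0) (D 1) k) (x y : VV)
    (hx : x ∈ D 0) (hy : y ∈ D 1) (hxy : hf x y = 0) (s l : F) :
    EE3 q x y s l ∈ Cfsg.Geo.decompositionStabilizer D := by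
  have hxx := hp.hA x hx x hx
  have hyy := hp.hB y hy y hy
  apply mem_stabD_id hp
  · intro v hv
    rw [EE3_mulVec hF x y s l hxx hyy hxy, hp.hA v hv x hx, mul_zero, zero_smul, add_zero]
    exact (D 0).add_mem hv ((D 0).smul_mem _ hx)
  · intro v hv
    rw [EE3_mulVec hF x y s l hxx hyy hxy, hp.hB v hv y hy, mul_zero, zero_smul, add_zero]
    exact (D 1).add_mem hv ((D 1).smul_mem _ hy)

theorem EE3_mem_stabD' (hF : Fintype.card F = q ^ 2) (hp : ULagPair q (D 0) (D 1) k) (y x : VV)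
    (hy : y ∈ D 1) (hx : x ∈ D 0) (hyx : hf y x = 0) (s l : F) :
    EE3 q y x s l ∈ Cfsg.Geo.decompositionStabilizer D := by
  have hxx := hp.hA x hx x hx
  have hyy := hp.hB y hy y hy
  apply mem_stabD_id hp
  · intro v hv
    rw [EE3_mulVec hF y x s l hyy hxx hyx, hp.hA v hv x hx, mul_zero, zero_smul, add_zero]
    exact (D 0).add_mem hv ((D 0).smul_mem _ hx)
  · intro v hv
    rw [EE3_mulVec hF y x s l hyy hxx hyx, hp.hB v hv y hy, mul_zero, zero_smul, add_zero]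
    exact (D 1).add_mem hv ((D 1).smul_mem _ hy)

theorem thmUL (hF : Fintype.card F = q ^ 2) (hk : 4 ≤ k) (hn : 4 ≤ n)
    (hD : Cfsg.Geo.IsMDecomposition k D)
    (hts : ∀ i, Cfsg.Geo.IsTotallySingularFor (Cfsg.hermForm n F q) (D i))
    (M : Subgroup (GL (Fin n) F))
    (hHM : Cfsg.Geo.decompositionStabilizer D ⊓ SUG n F q ≤ M) (hMle : M ≤ SUG n F q) :
    M = Cfsg.Geo.decompositionStabilizer D ⊓ SUG n F q ∨ M = SUG n F q := by
  have hp := ulagPair_of (q := q) hD hts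
  by_cases hle : M ≤ Cfsg.Geo.decompositionStabilizer D ⊓ SUG n F q
  · left; exact le_antisymm hle hHM
  right
  obtain ⟨g, hgM, hgH⟩ := SetLike.not_le_iff_exists.mp hle
  have hgS : g ∈ SUG n F q := hMle hgM
  have hgGU : g ∈ Cfsg.GU n F q := (Subgroup.mem_inf.mp hgS).1
  have hgD : g ∉ Cfsg.Geo.decompositionStabilizer D :=
    fun h => hgH (Subgroup.mem_inf.mpr ⟨h, hgS⟩)
  have hEM : ∀ x ∈ D 0, ∀ y ∈ D 1, hf x y = 0 → ∀ s l : F, s ^ q = -s → EE3 q x y s l ∈ M :=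
    fun x hx y hy hxy s l hs => hHM (Subgroup.mem_inf.mpr ⟨EE3_mem_stabD hF hp x y hx hy hxy s l,
      EE3_mem_SUG hF x y s l (hp.hA x hx x hx) (hp.hB y hy y hy) hxy hs⟩)
  have hEM' : ∀ y ∈ D 1, ∀ x ∈ D 0, hf y x = 0 → ∀ s l : F, s ^ q = -s → EE3 q y x s l ∈ M :=
    fun y hy x hx hyx s l hs => hHM (Subgroup.mem_inf.mpr ⟨EE3_mem_stabD' hF hp y x hy hx hyx s l,
      EE3_mem_SUG hF y x s l (hp.hB y hy y hy) (hp.hA x hx x hx) hyx hs⟩)
  obtain ⟨s, hsS, hs0, hs1⟩ := hp.exists_swap hF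
  have hsM : s ∈ M := hHM (Subgroup.mem_inf.mpr ⟨mem_stabD_swap hp s hs0 hs1, hsS⟩)
  have hsGU : s ∈ Cfsg.GU n F q := (Subgroup.mem_inf.mp hsS).1
  have hfin : ((∃ x ∈ D 0, x ≠ 0 ∧ XXu q M x) ∨ (∃ y ∈ D 1, y ≠ 0 ∧ XXu q M y)) →
      M = SUG n F q := by
    intro hone
    have hone0 : ∃ x ∈ D 0, x ≠ 0 ∧ XXu q M x := by
      rcases hone with h | ⟨y, hy, hy0, hXy⟩
      · exact h
      · exact ⟨(s : MM) *ᵥ y, hs1 y hy, gl_mulVec_ne_zero s y hy0,
          XXu_conj M s hsM hsGU y (hp.hB y hy y hy) hXy⟩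
    obtain ⟨x, hx, hx0, hXx⟩ := hone0
    have hall0 : ∀ u ∈ D 0, XXu q M u := fun u hu => hp.spread hF M hMle hEM x hx hx0 hXx u hu
    have hall1 : ∀ u ∈ D 1, XXu q M u := by
      intro u hu
      exact hp.symm.spread hF M hMle hEM' ((s : MM) *ᵥ x) (hs0 x hx)
        (gl_mulVec_ne_zero s x hx0) (XXu_conj M s hsM hsGU x (hp.hA x hx x hx) hXx) u hu
    apply le_antisymm hMle
    apply SUG_le_of_TTu hF hn
    intro z c hz hc
    exact hp.all hF M hMle hall0 hall1 z hz c hc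
  apply hfin
  by_contra hcon
  push Not at hcon
  apply hgD
  have h3 := hp.step3 hF hk g ?_
  · rcases h3 with ⟨h0, h1⟩ | ⟨h0, h1⟩
    · exact mem_stabD_id hp g h0 h1
    · exact mem_stabD_swap hp g h0 h1
  · intro a₀ ha₀ b₀ hb₀ hab
    have ha₀a₀ := hp.hA a₀ ha₀ a₀ ha₀
    have hb₀b₀ := hp.hB b₀ hb₀ b₀ hb₀
    have hE : ∀ s l : F, s ^ q = -s → EE3 q ((g : MM) *ᵥ a₀) ((g : MM) *ᵥ b₀) s l ∈ M := by
      intro s l hs
      rw [← conj_EE3 hF g hgGU a₀ b₀ s l ha₀a₀ hb₀b₀ hab]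
      exact M.mul_mem (M.mul_mem hgM (hEM a₀ ha₀ b₀ hb₀ hab s l hs)) (M.inv_mem hgM)
    have haa : hf ((g : MM) *ᵥ a₀) ((g : MM) *ᵥ a₀) = 0 := by rw [gu_herm g hgGU, ha₀a₀]
    have hbb : hf ((g : MM) *ᵥ b₀) ((g : MM) *ᵥ b₀) = 0 := by rw [gu_herm g hgGU, hb₀b₀]
    have hab' : hf ((g : MM) *ᵥ a₀) ((g : MM) *ᵥ b₀) = 0 := by rw [gu_herm g hgGU, hab]
    obtain ⟨aA, haA, aB, haB, ha⟩ := hp.dec ((g : MM) *ᵥ a₀)
    obtain ⟨bA, hbA, bB, hbB, hb⟩ := hp.dec ((g : MM) *ᵥ b₀)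
    constructor
    · by_contra hc
      push Not at hc
      have haA0 : aA ≠ 0 := fun h0 => hc.1 (by rw [ha, h0, zero_add]; exact haB)
      have hbA0 : bA ≠ 0 := fun h0 => hc.2 (by rw [hb, h0, zero_add]; exact hbB)
      obtain ⟨x, hx, hx0, hX⟩ := hp.step4 hF hk M hMle hEM _ _ haa hbb hab' hE aA aB bA bB
        haA haB hbA hbB ha hb haA0 hbA0
      exact hcon.1 x hx hx0 hX
    · by_contra hc
      push Not at hc
      have haB0 : aB ≠ 0 := fun h0 => hc.1 (by rw [ha, h0, add_zero]; exact haA)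
      have hbB0 : bB ≠ 0 := fun h0 => hc.2 (by rw [hb, h0, add_zero]; exact hbA)
      obtain ⟨y, hy, hy0, hY⟩ := hp.symm.step4 hF hk M hMle hEM' _ _ haa hbb hab' hE aB aA bB bA
        haB haA hbB hbA (by rw [ha, add_comm]) (by rw [hb, add_comm]) haB0 hbB0
      exact hcon.2 y hy hy0 hY

theorem stabD_lt (hF : Fintype.card F = q ^ 2) (hk : 4 ≤ k)
    (hD : Cfsg.Geo.IsMDecomposition k D)
    (hts : ∀ i, Cfsg.Geo.IsTotallySingularFor (Cfsg.hermForm n F q) (D i)) :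
    Cfsg.Geo.decompositionStabilizer D ⊓ SUG n F q < SUG n F q := by
  have hp := ulagPair_of (q := q) hD hts
  apply lt_of_le_of_ne inf_le_right
  intro heq
  obtain ⟨x, hx, hx0, -, -, -⟩ := hp.ker3 hk 0 0 0
  have hex : ∃ y ∈ D 1, hf x y ≠ 0 := by
    by_contra hcon; push Not at hcon; exact hx0 (hp.nd hF x hx hcon)
  obtain ⟨y₀, hy₀, hxy₀⟩ := hex
  obtain ⟨y, hydef⟩ : ∃ y : VV, y = (((hf x y₀)⁻¹) ^ q) • y₀ := ⟨_, rfl⟩
  have hyB : y ∈ D 1 := by rw [hydef]; exact (D 1).smul_mem _ hy₀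
  have hxy : hf x y = 1 := by rw [hydef, herm_smul_right, pow_q_q hF, inv_mul_cancel₀ hxy₀]
  have hyx : hf y x = 1 := herm_yx_of_xy hF _ _ hxy
  have hxx := hp.hA x hx x hx
  have hyy := hp.hB y hyB y hyB
  obtain ⟨ε, hε0, hε⟩ := exists_eps hF
  have hzz : hf (x + ε • y) (x + ε • y) = 0 := by
    simp only [herm_add_left, herm_add_right hF, herm_smul_left, herm_smul_right,
      hxx, hyy, hxy, hyx, hε]
    ring
  have htS : TTu q (x + ε • y) ε ∈ SUG n F q := TTu_mem_SUG hF _ _ hzz hε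
  have htD : TTu q (x + ε • y) ε ∈ Cfsg.Geo.decompositionStabilizer D := by
    have : TTu q (x + ε • y) ε ∈ Cfsg.Geo.decompositionStabilizer D ⊓ SUG n F q := by
      rw [heq]; exact htS
    exact (Subgroup.mem_inf.mp this).1
  rw [mem_stabD] at htD
  obtain ⟨σ, hσ⟩ := htD
  obtain ⟨x', hx', hx'0, hx'y, -, -⟩ := hp.ker3 hk y 0 0
  have htx' : ((TTu q (x + ε • y) ε : GL (Fin n) F) : MM) *ᵥ x' = x' := by
    rw [TTu_mulVec _ _ hzz, herm_add_right hF, herm_smul_right, hp.hA x' hx' x hx, hx'y]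
    simp
  have hmem0 : x' ∈ D (σ 0) := by
    rw [← hσ 0]
    exact ⟨x', hx', by rw [Matrix.toLin'_apply, htx']⟩
  have h01 : ∀ i : Fin 2, i = 0 ∨ i = 1 := by decide
  have hσ0 : σ 0 = 0 := by
    rcases h01 (σ 0) with h | h
    · exact h
    · exfalso
      rw [h] at hmem0
      exact hx'0 (hp.inter hF x' hx' hmem0)
  have htx : ((TTu q (x + ε • y) ε : GL (Fin n) F) : MM) *ᵥ x ∈ D 0 := by
    have : ((TTu q (x + ε • y) ε : GL (Fin n) F) : MM) *ᵥ x ∈ D (σ 0) := by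
      rw [← hσ 0]
      exact ⟨x, hx, by rw [Matrix.toLin'_apply]⟩
    rwa [hσ0] at this
  rw [TTu_mulVec _ _ hzz, herm_add_right hF, herm_smul_right, hxx, hxy, hε] at htx
  -- `x + (ε * (0 + -ε * 1)) • (x + ε • y) ∈ D 0`
  have hy0 : (ε * (0 + -ε * 1) * ε) • y ∈ D 0 := by
    have e : (ε * (0 + -ε * 1) * ε) • y =
        (x + (ε * (0 + -ε * 1)) • (x + ε • y)) - x - (ε * (0 + -ε * 1)) • x := by module
    rw [e]
    exact (D 0).sub_mem ((D 0).sub_mem htx hx) ((D 0).smul_mem _ hx)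
  have hc0 : ε * (0 + -ε * 1) * ε ≠ 0 := by
    have : ε * (0 + -ε * 1) * ε = -(ε ^ 3) := by ring
    rw [this]
    exact neg_ne_zero.mpr (pow_ne_zero 3 hε0)
  have hyA : y ∈ D 0 := by
    have := (D 0).smul_mem (ε * (0 + -ε * 1) * ε)⁻¹ hy0
    rwa [smul_smul, inv_mul_cancel₀ hc0, one_smul] at this
  have : y = 0 := hp.inter hF y hyA hyB
  rw [this, herm_zero_right hF] at hxy
  exact zero_ne_one hxy

end umain

end Cfsg.Agent.helper29
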