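import Mathlib
import Cfsg.Agent.Lib_helper29_UNdeg

set_option autoImplicit false
set_option linter.unusedSectionVars false
set_option linter.unusedVariables false

namespace Cfsg.Agent.helper29

open Matrix Cfsg Cfsg.Agent.helper11.HermCount Cfsg.Agent.helper11.Unitary

section uq2

variable {F : Type*} [Field F] [Fintype F] {n : ℕ}

local notation "hf" => Cfsg.hermForm n F 2
local notation "VV" => (Fin n → F)
local notation "MM" => Matrix (Fin n) (Fin n) F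

theorem two_eq_zero_of_card4 (hF4 : Fintype.card F = 4) : (2 : F) = 0 := by
  have h4 : ((Fintype.card F : ℕ) : F) = 0 := FiniteField.cast_card_eq_zero F
  rw [hF4] at h4
  have h4' : (2 : F) * 2 = 0 := by
    have : ((4 : ℕ) : F) = 2 * 2 := by norm_num
    rw [← this]; exact h4
  exact mul_self_eq_zero.mp h4'

theorem cube_eq_one_of_card4 (hF4 : Fintype.card F = 4) (a : F) (ha : a ≠ 0) : a ^ 3 = 1 := by
  have := FiniteField.pow_card_sub_one_eq_one a ha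
  rwa [hF4] at this

theorem norm01 (x : F) (hx : x ^ 2 = x) (hx0 : x ≠ 0) : x = 1 := by
  have : x * (x - 1) = 0 := by linear_combination hx
  rcases mul_eq_zero.mp this with h | h
  · exact absurd h hx0
  · exact sub_eq_zero.mp h

theorem block_basis (hF4 : Fintype.card F = 4) (hF : Fintype.card F = 2 ^ 2) (U : Submodule F VV)
    (hN : NDeg 2 U) (h2 : Module.finrank F U = 2) :
    ∃ a ∈ U, ∃ b ∈ U, hf a a = 1 ∧ hf b b = 1 ∧ hf a b = 0 ∧ hf b a = 0 ∧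
      ∀ v ∈ U, hf v v ≠ 0 → (∃ l : F, v = l • a) ∨ (∃ l : F, v = l • b) := by
  have hU : U ≠ ⊥ := by
    intro h0; rw [h0, finrank_bot] at h2; omega
  obtain ⟨a, haU, haa⟩ := exists_nonisotropic hF U hN hU
  have haa1 : hf a a = 1 := norm01 _ (herm_conj hF a a) haa
  obtain ⟨b, hbU, hb0, hba⟩ := exists_perp1 (q := 2) U (by omega) a
  have hab : hf a b = 0 := herm_eq_zero_symm hF _ _ hba
  -- span
  have hli : LinearIndependent F ![a, b] := by
    rw [LinearIndependent.pair_iff]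
    intro s t hst
    have h1 := congrArg (fun x => hf x a) hst
    simp only [herm_add_left, herm_smul_left, haa1, hba, herm_zero_left] at h1
    have hs : s = 0 := by linear_combination h1
    rw [hs, zero_smul, zero_add] at hst
    rcases smul_eq_zero.mp hst with h | h
    · exact ⟨hs, h⟩
    · exact absurd h hb0
  have hspan : Submodule.span F (Set.range ![a, b]) = U := by
    apply Submodule.eq_of_le_of_finrank_eq
    · rw [Submodule.span_le]
      rintro _ ⟨i, rfl⟩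
      fin_cases i
      · exact haU
      · exact hbU
    · rw [finrank_span_eq_card hli, Fintype.card_fin, h2]
  have hdec : ∀ v ∈ U, ∃ α β : F, v = α • a + β • b := by
    intro v hv
    rw [← hspan] at hv
    obtain ⟨c, hc⟩ := (Submodule.mem_span_range_iff_exists_fun F).mp hv
    refine ⟨c 0, c 1, ?_⟩
    rw [← hc, Fin.sum_univ_two]
    rfl
  have hbb : hf b b ≠ 0 := by
    intro hbb0
    apply hb0
    apply hN b hbU
    intro v hv
    obtain ⟨α, β, rfl⟩ := hdec v hv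
    rw [herm_add_right hF, herm_smul_right, herm_smul_right, hba, hbb0, mul_zero, mul_zero,
      add_zero]
  have hbb1 : hf b b = 1 := norm01 _ (herm_conj hF b b) hbb
  refine ⟨a, haU, b, hbU, haa1, hbb1, hab, hba, ?_⟩
  intro v hv hvv
  obtain ⟨α, β, rfl⟩ := hdec v hv
  have hN' : hf (α • a + β • b) (α • a + β • b) = α ^ 3 + β ^ 3 := by
    simp only [herm_add_left, herm_add_right hF, herm_smul_left, herm_smul_right, haa1, hbb1, hab,
      hba]
    ring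
  rw [hN'] at hvv
  by_cases hα : α = 0
  · right; exact ⟨β, by rw [hα, zero_smul, zero_add]⟩
  · by_cases hβ : β = 0
    · left; exact ⟨α, by rw [hβ, zero_smul, add_zero]⟩
    · exfalso
      apply hvv
      rw [cube_eq_one_of_card4 hF4 α hα, cube_eq_one_of_card4 hF4 β hβ]
      have := two_eq_zero_of_card4 hF4
      linear_combination this

theorem thmQ2 (hF4 : Fintype.card F = 4) (hn : 13 ≤ n) {t : ℕ}
    (D : Fin t → Submodule F (Fin n → F))
    (hD : Cfsg.Geo.IsNondegenerateMDecomposition (Cfsg.hermForm n F 2) 2 D) :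
    ∃ K : Subgroup (GL (Fin n) F), Cfsg.Geo.decompositionStabilizer D ⊓ SUG n F 2 < K ∧
      K < SUG n F 2 := by
  have hF : Fintype.card F = 2 ^ 2 := by rw [hF4]; norm_num
  have h2 := two_eq_zero_of_card4 hF4
  have hchar : ∀ x : F, x + x = 0 := fun x => by linear_combination x * h2
  have hchar' : ∀ v : VV, v + v = 0 := fun v => by
    funext i; exact hchar (v i)
  have hneg1 : (1 : F) ^ 2 = -1 := by linear_combination h2
  have hND : ∀ i, NDeg 2 (D i) := by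
    intro i u hu hall
    by_contra hu0
    obtain ⟨-, x, hx, hux⟩ := hD.nondegenerate i u hu hu0
    exact hux (hall x hx)
  have horth : ∀ i j, i ≠ j → ∀ u ∈ D i, ∀ v ∈ D j, hf u v = 0 := hD.orthogonal
  have ht2 := hD.decomp.two_le
  obtain ⟨i₀, hi₀⟩ : ∃ i₀ : Fin t, i₀ = ⟨0, by omega⟩ := ⟨_, rfl⟩
  obtain ⟨i₁, hi₁⟩ : ∃ i₁ : Fin t, i₁ = ⟨1, by omega⟩ := ⟨_, rfl⟩
  have h01 : i₀ ≠ i₁ := by
    rw [hi₀, hi₁]; intro h; simp [Fin.ext_iff] at h
  obtain ⟨a₀, ha₀, b₀, hb₀, ha₀a₀, hb₀b₀, ha₀b₀, hb₀a₀, hcl₀⟩ :=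
    block_basis hF4 hF (D i₀) (hND i₀) (hD.decomp.finrank_eq i₀)
  obtain ⟨a₁, ha₁, b₁, hb₁, ha₁a₁, hb₁b₁, ha₁b₁, hb₁a₁, hcl₁⟩ :=
    block_basis hF4 hF (D i₁) (hND i₁) (hD.decomp.finrank_eq i₁)
  -- the set of anisotropic block vectors
  let AA : Set VV := {v | hf v v ≠ 0 ∧ ∃ i, v ∈ D i}
  refine ⟨Cfsg.stabilizing (Cfsg.glToMat (Fin n) F) AA ⊓ SUG n F 2, ?_, ?_⟩
  · -- H < K
    have hle : Cfsg.Geo.decompositionStabilizer D ⊓ SUG n F 2 ≤
        Cfsg.stabilizing (Cfsg.glToMat (Fin n) F) AA ⊓ SUG n F 2 := by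
      rintro g ⟨hgD, hgS⟩
      refine ⟨Cfsg.Agent.S0774.mem_of_forward (Cfsg.glToMat (Fin n) F) AA g ?_, hgS⟩
      rintro v ⟨hv, i, hvi⟩
      obtain ⟨σ, hσ⟩ := hgD
      refine ⟨?_, σ i, ?_⟩
      · show hf ((g : MM) *ᵥ v) ((g : MM) *ᵥ v) ≠ 0
        rw [gu_herm g hgS.1]; exact hv
      · rw [← hσ i]
        exact ⟨v, hvi, by rw [Matrix.toLin'_apply]; rfl⟩
    apply lt_of_le_of_ne hle
    intro heq
    -- g₁ = T(a₀ + a₁, 1)
    have hz : hf (a₀ + a₁) (a₀ + a₁) = 0 := by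
      simp only [herm_add_left, herm_add_right hF, ha₀a₀, ha₁a₁, horth i₀ i₁ h01 a₀ ha₀ a₁ ha₁,
        horth i₁ i₀ h01.symm a₁ ha₁ a₀ ha₀]
      linear_combination h2
    have hg₁S : (TTu 2 (a₀ + a₁) (1 : F) : GL (Fin n) F) ∈ SUG n F 2 :=
      TTu_mem_SUG hF _ _ hz hneg1
    have hg₁a₀ : ((TTu 2 (a₀ + a₁) (1 : F) : GL (Fin n) F) : MM) *ᵥ a₀ = a₁ := by
      rw [TTu_mulVec _ _ hz, herm_add_right hF, ha₀a₀, horth i₀ i₁ h01 a₀ ha₀ a₁ ha₁, add_zero,
        mul_one, one_smul, ← add_assoc, hchar', zero_add]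
    have hg₁a₁ : ((TTu 2 (a₀ + a₁) (1 : F) : GL (Fin n) F) : MM) *ᵥ a₁ = a₀ := by
      rw [TTu_mulVec _ _ hz, herm_add_right hF, ha₁a₁, horth i₁ i₀ h01.symm a₁ ha₁ a₀ ha₀,
        zero_add, mul_one, one_smul, add_comm a₀ a₁, ← add_assoc, hchar', zero_add]
    have hg₁K : (TTu 2 (a₀ + a₁) (1 : F) : GL (Fin n) F) ∈
        Cfsg.stabilizing (Cfsg.glToMat (Fin n) F) AA ⊓ SUG n F 2 := by
      refine ⟨Cfsg.Agent.S0774.mem_of_forward (Cfsg.glToMat (Fin n) F) AA _ ?_, hg₁S⟩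
      rintro v ⟨hv, i, hvi⟩
      show ((TTu 2 (a₀ + a₁) (1 : F) : GL (Fin n) F) : MM) *ᵥ v ∈ AA
      have hnorm : hf (((TTu 2 (a₀ + a₁) (1 : F) : GL (Fin n) F) : MM) *ᵥ v)
          (((TTu 2 (a₀ + a₁) (1 : F) : GL (Fin n) F) : MM) *ᵥ v) ≠ 0 := by
        rw [gu_herm _ hg₁S.1]; exact hv
      refine ⟨hnorm, ?_⟩
      by_cases hi0 : i = i₀
      · rw [hi0] at hvi
        rcases hcl₀ v hvi hv with ⟨l, rfl⟩ | ⟨l, rfl⟩
        · refine ⟨i₁, ?_⟩
          rw [Matrix.mulVec_smul, hg₁a₀]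
          exact (D i₁).smul_mem _ ha₁
        · refine ⟨i₀, ?_⟩
          rw [TTu_mulVec _ _ hz, herm_add_right hF, herm_smul_left, herm_smul_left, hb₀a₀,
            horth i₀ i₁ h01 b₀ hb₀ a₁ ha₁, mul_zero, add_zero, mul_zero, zero_smul, add_zero]
          exact (D i₀).smul_mem _ hb₀
      · by_cases hi1 : i = i₁
        · rw [hi1] at hvi
          rcases hcl₁ v hvi hv with ⟨l, rfl⟩ | ⟨l, rfl⟩
          · refine ⟨i₀, ?_⟩
            rw [Matrix.mulVec_smul, hg₁a₁]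
            exact (D i₀).smul_mem _ ha₀
          · refine ⟨i₁, ?_⟩
            rw [TTu_mulVec _ _ hz, herm_add_right hF, herm_smul_left, herm_smul_left, hb₁a₁,
              horth i₁ i₀ h01.symm b₁ hb₁ a₀ ha₀, mul_zero, add_zero, mul_zero, zero_smul,
              add_zero]
            exact (D i₁).smul_mem _ hb₁
        · refine ⟨i, ?_⟩
          rw [TTu_mulVec _ _ hz, herm_add_right hF, horth i i₀ hi0 v hvi a₀ ha₀,
            horth i i₁ hi1 v hvi a₁ ha₁, add_zero, mul_zero, zero_smul, add_zero]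
          exact hvi
    rw [← heq] at hg₁K
    obtain ⟨σ, hσ⟩ := hg₁K.1
    -- D (σ i₀) contains a₁ and b₀
    have hm1 : a₁ ∈ D (σ i₀) := by
      rw [← hσ i₀]
      exact ⟨a₀, ha₀, by rw [Matrix.toLin'_apply]; exact hg₁a₀⟩
    have hm2 : b₀ ∈ D (σ i₀) := by
      rw [← hσ i₀]
      refine ⟨b₀, hb₀, ?_⟩
      rw [Matrix.toLin'_apply, TTu_mulVec _ _ hz, herm_add_right hF, hb₀a₀,
        horth i₀ i₁ h01 b₀ hb₀ a₁ ha₁, add_zero, mul_zero, zero_smul, add_zero]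
    have hs1 : σ i₀ = i₁ := by
      by_contra hne
      have := horth (σ i₀) i₁ hne a₁ hm1 a₁ ha₁
      rw [ha₁a₁] at this
      exact one_ne_zero this
    have hs0 : σ i₀ = i₀ := by
      by_contra hne
      have := horth (σ i₀) i₀ hne b₀ hm2 b₀ hb₀
      rw [hb₀b₀] at this
      exact one_ne_zero this
    exact h01 (hs0.symm.trans hs1)
  · -- K < SU
    apply lt_of_le_of_ne inf_le_right
    intro heq
    have hc : ∀ x ∈ D i₀, ∀ y ∈ D i₁, hf x y = 0 := horth i₀ i₁ h01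
    have hc' : ∀ y ∈ D i₁, ∀ x ∈ D i₀, hf y x = 0 := horth i₁ i₀ h01.symm
    have hz : hf (a₀ + b₀ + a₁ + b₁) (a₀ + b₀ + a₁ + b₁) = 0 := by
      simp only [herm_add_left, herm_add_right hF, ha₀a₀, ha₁a₁, hb₀b₀, hb₁b₁, ha₀b₀, hb₀a₀, ha₁b₁,
        hb₁a₁, hc a₀ ha₀ a₁ ha₁, hc a₀ ha₀ b₁ hb₁, hc b₀ hb₀ a₁ ha₁, hc b₀ hb₀ b₁ hb₁,
        hc' a₁ ha₁ a₀ ha₀, hc' a₁ ha₁ b₀ hb₀, hc' b₁ hb₁ a₀ ha₀, hc' b₁ hb₁ b₀ hb₀]
      linear_combination 2 * h2
    have hg₂S : (TTu 2 (a₀ + b₀ + a₁ + b₁) (1 : F) : GL (Fin n) F) ∈ SUG n F 2 :=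
      TTu_mem_SUG hF _ _ hz hneg1
    rw [← heq] at hg₂S
    have ha₀AA : a₀ ∈ AA := ⟨by rw [ha₀a₀]; exact one_ne_zero, i₀, ha₀⟩
    have h1 := (hg₂S.1 a₀).mp ha₀AA
    obtain ⟨-, j, hj⟩ := h1
    change ((TTu 2 (a₀ + b₀ + a₁ + b₁) (1 : F) : GL (Fin n) F) : MM) *ᵥ a₀ ∈ D j at hj
    have e1 : hf a₀ (a₀ + b₀ + a₁ + b₁) = 1 := by
      simp only [herm_add_right hF, ha₀a₀, ha₀b₀, hc a₀ ha₀ a₁ ha₁, hc a₀ ha₀ b₁ hb₁]
      ring
    rw [TTu_mulVec _ _ hz, e1, mul_one, one_smul] at hj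
    have e2 : a₀ + (a₀ + b₀ + a₁ + b₁) = b₀ + a₁ + b₁ := by
      have := hchar' a₀
      calc a₀ + (a₀ + b₀ + a₁ + b₁) = (a₀ + a₀) + b₀ + a₁ + b₁ := by abel
        _ = b₀ + a₁ + b₁ := by rw [this, zero_add]
    rw [e2] at hj
    by_cases hj0 : j = i₀
    · rw [hj0] at hj
      have := horth i₀ i₁ h01 _ hj a₁ ha₁
      simp only [herm_add_left, hc b₀ hb₀ a₁ ha₁, ha₁a₁, hb₁a₁] at this
      exact one_ne_zero (by linear_combination this)
    · have := horth j i₀ hj0 _ hj b₀ hb₀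
      simp only [herm_add_left, hb₀b₀, hc' a₁ ha₁ b₀ hb₀, hc' b₁ hb₁ b₀ hb₀] at this
      exact one_ne_zero (by linear_combination this)

end uq2

end Cfsg.Agent.helper29
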