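import Mathlib
import Cfsg.Agent.Lib_helper29_UNdeg
import Cfsg.Agent.S0774

set_option autoImplicit false
set_option linter.unusedSectionVars false
set_option linter.unusedVariables false

namespace Cfsg.Agent.helper29

open Matrix Cfsg Cfsg.Agent.helper11.HermCount Cfsg.Agent.helper11.Unitary

section ustab

variable {F : Type*} [Field F] [Fintype F] {q n : ℕ}

local notation "hf" => Cfsg.hermForm n F q
local notation "VV" => (Fin n → F)
local notation "MM" => Matrix (Fin n) (Fin n) F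

/-- the matrix with columns `b j` -/
def colM {m : ℕ} (b : Fin m → (Fin n → F)) : Matrix (Fin n) (Fin m) F :=
  Matrix.of (fun i j => b j i)

/-- the matrix with rows the conjugates of `b i` -/
def rowM (q : ℕ) {m : ℕ} (b : Fin m → (Fin n → F)) : Matrix (Fin m) (Fin n) F :=
  Matrix.of (fun i j => (b i j) ^ q)

theorem colM_mulVec {m : ℕ} (b : Fin m → VV) (u : Fin m → F) :
    colM b *ᵥ u = ∑ j, u j • b j := by
  funext i
  simp only [Matrix.mulVec, dotProduct, colM, Matrix.of_apply, Finset.sum_apply, Pi.smul_apply,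
    smul_eq_mul]
  exact Finset.sum_congr rfl (fun j _ => mul_comm _ _)

theorem rowM_mulVec {m : ℕ} (b : Fin m → VV) (v : VV) (i : Fin m) :
    (rowM q b *ᵥ v) i = hf v (b i) := by
  simp only [Matrix.mulVec, dotProduct, rowM, Matrix.of_apply, hermForm]
  exact Finset.sum_congr rfl (fun j _ => mul_comm _ _)

theorem colM_mem {m : ℕ} (b : Fin m → VV) (X : Submodule F VV) (hbX : ∀ i, b i ∈ X)
    (u : Fin m → F) : colM b *ᵥ u ∈ X := by
  rw [colM_mulVec]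
  exact X.sum_mem (fun i _ => X.smul_mem _ (hbX i))

theorem row_col {m : ℕ} (b : Fin m → VV)
    (hb : ∀ i j, hf (b i) (b j) = if i = j then 1 else 0) (u : Fin m → F) :
    rowM q b *ᵥ (colM b *ᵥ u) = u := by
  funext i
  rw [rowM_mulVec, colM_mulVec, herm_sum_left]
  simp only [herm_smul_left, hb]
  simp

theorem row_col_perp {m m' : ℕ} (b : Fin m → VV) (b' : Fin m' → VV)
    (hbb' : ∀ i j, hf (b' j) (b i) = 0) (u : Fin m' → F) :
    rowM q b *ᵥ (colM b' *ᵥ u) = 0 := by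
  funext i
  rw [rowM_mulVec, colM_mulVec, herm_sum_left]
  simp only [herm_smul_left, hbb', mul_zero, Finset.sum_const_zero, Pi.zero_apply]

theorem row_perp {m : ℕ} (b : Fin m → VV) (x : VV) (hx : ∀ i, hf x (b i) = 0) :
    rowM q b *ᵥ x = 0 := by
  funext i
  rw [rowM_mulVec, hx, Pi.zero_apply]

theorem herm_col {m : ℕ} (hF : Fintype.card F = q ^ 2) (b : Fin m → VV)
    (hb : ∀ i j, hf (b i) (b j) = if i = j then 1 else 0) (u v : Fin m → F) :
    hf (colM b *ᵥ u) (colM b *ᵥ v) = Cfsg.hermForm m F q u v := by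
  rw [colM_mulVec, colM_mulVec, (hermHermF hF).sum_left]
  unfold Cfsg.hermForm
  apply Finset.sum_congr rfl
  intro i _
  have := (hermHermF (n := n) hF).sum_right hF Finset.univ v b (b i)
  unfold Cfsg.hermForm at this
  rw [this]
  have hb' : ∀ j, ∑ l, b i l * b j l ^ q = if i = j then 1 else 0 := fun j => hb i j
  simp only [hb']
  simp

/-- expansion of a vector of `X` in an orthonormal basis of `X` -/
theorem col_row {m : ℕ} (hF : Fintype.card F = q ^ 2) (X : Submodule F VV) (hN : NDeg q X)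
    (hfr : Module.finrank F X = m) (b : Fin m → VV) (hbX : ∀ i, b i ∈ X)
    (hb : ∀ i j, hf (b i) (b j) = if i = j then 1 else 0) (x : VV) (hx : x ∈ X) :
    colM b *ᵥ (rowM q b *ᵥ x) = x := by
  have hli : LinearIndependent F b := by
    rw [linearIndependent_iff']
    intro s c hc i hi
    have := congrArg (fun x => hf x (b i)) hc
    simp only [herm_sum_left, herm_smul_left, hb, herm_zero_left] at this
    simpa [Finset.sum_ite_eq', hi] using this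
  have hspan : Submodule.span F (Set.range b) = X := by
    apply Submodule.eq_of_le_of_finrank_eq
    · rw [Submodule.span_le]
      rintro _ ⟨i, rfl⟩
      exact hbX i
    · rw [finrank_span_eq_card hli, Fintype.card_fin, hfr]
  have hd : x - colM b *ᵥ (rowM q b *ᵥ x) ∈ X := X.sub_mem hx (colM_mem b X hbX _)
  have key : ∀ s ∈ Submodule.span F (Set.range b),
      hf (x - colM b *ᵥ (rowM q b *ᵥ x)) s = 0 := by
    intro s hs'
    induction hs' using Submodule.span_induction with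
    | mem y hy =>
      obtain ⟨j, rfl⟩ := hy
      have e1 : hf (colM b *ᵥ (rowM q b *ᵥ x)) (b j) =
          (rowM q b *ᵥ (colM b *ᵥ (rowM q b *ᵥ x))) j := (rowM_mulVec b _ j).symm
      rw [herm_sub_left, e1, row_col b hb, rowM_mulVec, sub_self]
    | zero => exact herm_zero_right hF _
    | add y z _ _ hy hz => rw [herm_add_right hF, hy, hz, add_zero]
    | smul c y _ hy => rw [herm_smul_right, hy, mul_zero]
  have h0 := hN _ hd (fun s hs => key s (by rw [hspan]; exact hs))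
  exact (sub_eq_zero.mp h0).symm

theorem stabGU_equiv (hF : Fintype.card F = q ^ 2) (k : ℕ) (hk : k ≤ n) (W : Submodule F VV)
    (hWk : Module.finrank F W = k) (hN : NDeg q W) :
    Nonempty (↥((Cfsg.stabilizing (Cfsg.glToMat (Fin n) F) (W : Set VV)).subgroupOf
      (Cfsg.GU n F q)) ≃* ↥(Cfsg.GU k F q) × ↥(Cfsg.GU (n - k) F q)) := by
  classical
  have hNU := ndeg_perp hF W hN
  have hfrU : Module.finrank F (perpS q (W : Set VV) : Submodule F VV) = n - k := by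
    have := finrank_perp hF W hN; omega
  obtain ⟨b₁, hb₁W, hb₁⟩ := (hermHermF hF).exists_orthonormal hF k W hWk hN
  obtain ⟨b₂, hb₂U, hb₂⟩ := (hermHermF hF).exists_orthonormal hF (n - k) _ hfrU hNU
  have hb21 : ∀ i j, hf (b₂ j) (b₁ i) = 0 := fun i j => hb₂U j (b₁ i) (hb₁W i)
  have hb12 : ∀ i j, hf (b₁ j) (b₂ i) = 0 := fun i j => herm_eq_zero_symm hF _ _ (hb21 j i)
  obtain ⟨c₁, hc₁⟩ : ∃ c₁ : Matrix (Fin n) (Fin k) F, c₁ = colM b₁ := ⟨_, rfl⟩
  obtain ⟨r₁, hr₁⟩ : ∃ r₁ : Matrix (Fin k) (Fin n) F, r₁ = rowM q b₁ := ⟨_, rfl⟩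
  obtain ⟨c₂, hc₂⟩ : ∃ c₂ : Matrix (Fin n) (Fin (n - k)) F, c₂ = colM b₂ := ⟨_, rfl⟩
  obtain ⟨r₂, hr₂⟩ : ∃ r₂ : Matrix (Fin (n - k)) (Fin n) F, r₂ = rowM q b₂ := ⟨_, rfl⟩
  have f1 : ∀ u, c₁ *ᵥ u ∈ W := fun u => by rw [hc₁]; exact colM_mem b₁ W hb₁W u
  have f2 : ∀ u, c₂ *ᵥ u ∈ perpS q (W : Set VV) := fun u => by
    rw [hc₂]; exact colM_mem b₂ _ hb₂U u
  have f3 : ∀ u, r₁ *ᵥ (c₁ *ᵥ u) = u := fun u => by rw [hr₁, hc₁]; exact row_col b₁ hb₁ u
  have f4 : ∀ u, r₂ *ᵥ (c₂ *ᵥ u) = u := fun u => by rw [hr₂, hc₂]; exact row_col b₂ hb₂ u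
  have f7 : ∀ x ∈ W, c₁ *ᵥ (r₁ *ᵥ x) = x := fun x hx => by
    rw [hr₁, hc₁]; exact col_row hF W hN hWk b₁ hb₁W hb₁ x hx
  have f8 : ∀ x ∈ perpS q (W : Set VV), c₂ *ᵥ (r₂ *ᵥ x) = x := fun x hx => by
    rw [hr₂, hc₂]; exact col_row hF _ hNU hfrU b₂ hb₂U hb₂ x hx
  have f9 : ∀ x ∈ W, r₂ *ᵥ x = 0 := fun x hx => by
    rw [hr₂]
    exact row_perp b₂ x (fun i => herm_eq_zero_symm hF _ _ (hb₂U i x hx))
  have f10 : ∀ x ∈ perpS q (W : Set VV), r₁ *ᵥ x = 0 := fun x hx => by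
    rw [hr₁]
    exact row_perp b₁ x (fun i => hx (b₁ i) (hb₁W i))
  have f5 : ∀ u, r₁ *ᵥ (c₂ *ᵥ u) = 0 := fun u => f10 _ (f2 u)
  have f6 : ∀ u, r₂ *ᵥ (c₁ *ᵥ u) = 0 := fun u => f9 _ (f1 u)
  have f11 : ∀ v : VV, v = c₁ *ᵥ (r₁ *ᵥ v) + c₂ *ᵥ (r₂ *ᵥ v) := by
    intro v
    obtain ⟨w, hw, hvw⟩ := exists_proj hF W hN v
    have e : v = w + (v - w) := by abel
    have h1 : r₁ *ᵥ v = r₁ *ᵥ w := by
      conv_lhs => rw [e, Matrix.mulVec_add, f10 _ hvw, add_zero]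
    have h2 : r₂ *ᵥ v = r₂ *ᵥ (v - w) := by
      conv_lhs => rw [e, Matrix.mulVec_add, f9 _ hw, zero_add]
    rw [h1, h2, f7 w hw, f8 _ hvw]
    abel
  have f12 : ∀ u v, hf (c₁ *ᵥ u) (c₁ *ᵥ v) = Cfsg.hermForm k F q u v := fun u v => by
    rw [hc₁]; exact herm_col hF b₁ hb₁ u v
  have f13 : ∀ u v, hf (c₂ *ᵥ u) (c₂ *ᵥ v) = Cfsg.hermForm (n - k) F q u v := fun u v => by
    rw [hc₂]; exact herm_col hF b₂ hb₂ u v
  have f14 : ∀ u v, hf (c₂ *ᵥ u) (c₁ *ᵥ v) = 0 := fun u v => f2 u _ (f1 v)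
  have f15 : ∀ u v, hf (c₁ *ᵥ u) (c₂ *ᵥ v) = 0 := fun u v =>
    herm_eq_zero_symm hF _ _ (f14 v u)
  have f16 : ∀ x ∈ W, ∀ y ∈ W, Cfsg.hermForm k F q (r₁ *ᵥ x) (r₁ *ᵥ y) = hf x y := by
    intro x hx y hy
    rw [← f12, f7 x hx, f7 y hy]
  have f17 : ∀ x ∈ perpS q (W : Set VV), ∀ y ∈ perpS q (W : Set VV),
      Cfsg.hermForm (n - k) F q (r₂ *ᵥ x) (r₂ *ᵥ y) = hf x y := by
    intro x hx y hy
    rw [← f13, f8 x hx, f8 y hy]
  -- facts about stabiliser elements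
  have hst : ∀ x : ↥((Cfsg.stabilizing (Cfsg.glToMat (Fin n) F) (W : Set VV)).subgroupOf
      (Cfsg.GU n F q)),
      ((x.1 : GL (Fin n) F) ∈ Cfsg.GU n F q) ∧
      (∀ w ∈ W, (((x.1 : GL (Fin n) F)) : MM) *ᵥ w ∈ W) ∧
      (∀ u ∈ perpS q (W : Set VV), (((x.1 : GL (Fin n) F)) : MM) *ᵥ u ∈ perpS q (W : Set VV)) := by
    intro x
    have hxs : (x.1 : GL (Fin n) F) ∈ Cfsg.stabilizing (Cfsg.glToMat (Fin n) F) (W : Set VV) :=
      Subgroup.mem_subgroupOf.mp x.2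
    have hGU : (x.1 : GL (Fin n) F) ∈ Cfsg.GU n F q := x.1.2
    refine ⟨hGU, fun w hw => (hxs w).mp hw, ?_⟩
    intro u hu w hw
    have h1 : (((x.1 : GL (Fin n) F)⁻¹ : GL (Fin n) F) : MM) *ᵥ w ∈ W := by
      apply (hxs _).mpr
      show ((x.1 : GL (Fin n) F) : MM) *ᵥ _ ∈ W
      rw [gl_mulVec_inv]; exact hw
    have h2 := gu_herm _ hGU u ((((x.1 : GL (Fin n) F)⁻¹ : GL (Fin n) F) : MM) *ᵥ w)
    rw [gl_mulVec_inv] at h2
    rw [h2]
    exact hu _ h1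
  have pres₁ : ∀ x : ↥((Cfsg.stabilizing (Cfsg.glToMat (Fin n) F) (W : Set VV)).subgroupOf
      (Cfsg.GU n F q)), ∀ u v, Cfsg.hermForm k F q
      ((r₁ * ((x.1 : GL (Fin n) F) : MM) * c₁) *ᵥ u) ((r₁ * ((x.1 : GL (Fin n) F) : MM) * c₁) *ᵥ v)
      = Cfsg.hermForm k F q u v := by
    intro x u v
    obtain ⟨hGU, hxW, -⟩ := hst x
    rw [← Matrix.mulVec_mulVec, ← Matrix.mulVec_mulVec, ← Matrix.mulVec_mulVec,
      ← Matrix.mulVec_mulVec, f16 _ (hxW _ (f1 u)) _ (hxW _ (f1 v)), gu_herm _ hGU, f12]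
  have pres₂ : ∀ x : ↥((Cfsg.stabilizing (Cfsg.glToMat (Fin n) F) (W : Set VV)).subgroupOf
      (Cfsg.GU n F q)), ∀ u v, Cfsg.hermForm (n - k) F q
      ((r₂ * ((x.1 : GL (Fin n) F) : MM) * c₂) *ᵥ u) ((r₂ * ((x.1 : GL (Fin n) F) : MM) * c₂) *ᵥ v)
      = Cfsg.hermForm (n - k) F q u v := by
    intro x u v
    obtain ⟨hGU, -, hxU⟩ := hst x
    rw [← Matrix.mulVec_mulVec, ← Matrix.mulVec_mulVec, ← Matrix.mulVec_mulVec,
      ← Matrix.mulVec_mulVec, f17 _ (hxU _ (f2 u)) _ (hxU _ (f2 v)), gu_herm _ hGU, f13]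
  -- the inverse construction
  have hMv : ∀ (p : ↥(Cfsg.GU k F q) × ↥(Cfsg.GU (n - k) F q)) (v : VV),
      (c₁ * ((p.1 : GL (Fin k) F) : Matrix (Fin k) (Fin k) F) * r₁ +
        c₂ * ((p.2 : GL (Fin (n - k)) F) : Matrix (Fin (n - k)) (Fin (n - k)) F) * r₂) *ᵥ v =
      c₁ *ᵥ (((p.1 : GL (Fin k) F) : Matrix (Fin k) (Fin k) F) *ᵥ (r₁ *ᵥ v)) +
        c₂ *ᵥ (((p.2 : GL (Fin (n - k)) F) : Matrix (Fin (n - k)) (Fin (n - k)) F) *ᵥ (r₂ *ᵥ v)) := by
    intro p v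
    rw [Matrix.add_mulVec, ← Matrix.mulVec_mulVec, ← Matrix.mulVec_mulVec, ← Matrix.mulVec_mulVec,
      ← Matrix.mulVec_mulVec]
  have presM : ∀ (p : ↥(Cfsg.GU k F q) × ↥(Cfsg.GU (n - k) F q)) (u v : VV),
      hf ((c₁ * ((p.1 : GL (Fin k) F) : Matrix (Fin k) (Fin k) F) * r₁ +
        c₂ * ((p.2 : GL (Fin (n - k)) F) : Matrix (Fin (n - k)) (Fin (n - k)) F) * r₂) *ᵥ u)
        ((c₁ * ((p.1 : GL (Fin k) F) : Matrix (Fin k) (Fin k) F) * r₁ +
        c₂ * ((p.2 : GL (Fin (n - k)) F) : Matrix (Fin (n - k)) (Fin (n - k)) F) * r₂) *ᵥ v)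
        = hf u v := by
    intro p u v
    rw [hMv, hMv, herm_add_left, herm_add_right hF, herm_add_right hF, f12, f13, f14, f15,
      gu_herm (p.1 : GL (Fin k) F) p.1.2, gu_herm (p.2 : GL (Fin (n - k)) F) p.2.2]
    conv_rhs => rw [f11 u, f11 v]
    rw [herm_add_left, herm_add_right hF, herm_add_right hF, f12, f13, f14, f15]
  have stabM : ∀ (p : ↥(Cfsg.GU k F q) × ↥(Cfsg.GU (n - k) F q)),
      mkGU hF _ (presM p) ∈ (Cfsg.stabilizing (Cfsg.glToMat (Fin n) F) (W : Set VV)).subgroupOf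
      (Cfsg.GU n F q) := by
    intro p
    rw [Subgroup.mem_subgroupOf]
    apply Cfsg.Agent.S0774.mem_of_forward
    intro w hw
    show (c₁ * ((p.1 : GL (Fin k) F) : Matrix (Fin k) (Fin k) F) * r₁ +
        c₂ * ((p.2 : GL (Fin (n - k)) F) : Matrix (Fin (n - k)) (Fin (n - k)) F) * r₂) *ᵥ w ∈ W
    rw [hMv, f9 w hw, Matrix.mulVec_zero, Matrix.mulVec_zero, add_zero]
    exact f1 _
  refine ⟨{ toFun := fun x => (mkGU hF _ (pres₁ x), mkGU hF _ (pres₂ x))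
            invFun := fun p => ⟨mkGU hF _ (presM p), stabM p⟩
            left_inv := ?_
            right_inv := ?_
            map_mul' := ?_ }⟩
  · intro x
    obtain ⟨hGU, hxW, hxU⟩ := hst x
    apply Subtype.ext
    apply Subtype.ext
    apply Units.ext
    show c₁ * (r₁ * ((x.1 : GL (Fin n) F) : MM) * c₁) * r₁ +
      c₂ * (r₂ * ((x.1 : GL (Fin n) F) : MM) * c₂) * r₂ = ((x.1 : GL (Fin n) F) : MM)
    rw [Matrix.ext_iff_mulVec]
    intro v
    rw [Matrix.add_mulVec]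
    simp only [← Matrix.mulVec_mulVec]
    rw [f7 _ (hxW _ (f1 _)), f8 _ (hxU _ (f2 _)), ← Matrix.mulVec_add, ← f11]
  · intro p
    apply Prod.ext
    · apply Subtype.ext
      apply Units.ext
      show r₁ * (c₁ * ((p.1 : GL (Fin k) F) : Matrix (Fin k) (Fin k) F) * r₁ +
        c₂ * ((p.2 : GL (Fin (n - k)) F) : Matrix (Fin (n - k)) (Fin (n - k)) F) * r₂) * c₁ =
        ((p.1 : GL (Fin k) F) : Matrix (Fin k) (Fin k) F)
      rw [Matrix.ext_iff_mulVec]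
      intro u
      rw [← Matrix.mulVec_mulVec, ← Matrix.mulVec_mulVec, hMv, f3, f6, Matrix.mulVec_zero,
        Matrix.mulVec_zero, add_zero, f3]
    · apply Subtype.ext
      apply Units.ext
      show r₂ * (c₁ * ((p.1 : GL (Fin k) F) : Matrix (Fin k) (Fin k) F) * r₁ +
        c₂ * ((p.2 : GL (Fin (n - k)) F) : Matrix (Fin (n - k)) (Fin (n - k)) F) * r₂) * c₂ =
        ((p.2 : GL (Fin (n - k)) F) : Matrix (Fin (n - k)) (Fin (n - k)) F)
      rw [Matrix.ext_iff_mulVec]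
      intro u
      rw [← Matrix.mulVec_mulVec, ← Matrix.mulVec_mulVec, hMv, f4, f5, Matrix.mulVec_zero,
        Matrix.mulVec_zero, zero_add, f4]
  · intro x y
    obtain ⟨-, hyW, hyU⟩ := hst y
    apply Prod.ext
    · apply Subtype.ext
      apply Units.ext
      show r₁ * (((x * y).1 : GL (Fin n) F) : MM) * c₁ =
        (r₁ * ((x.1 : GL (Fin n) F) : MM) * c₁) * (r₁ * ((y.1 : GL (Fin n) F) : MM) * c₁)
      have hxy : (((x * y).1 : GL (Fin n) F) : MM) =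
          ((x.1 : GL (Fin n) F) : MM) * ((y.1 : GL (Fin n) F) : MM) := rfl
      rw [hxy, Matrix.ext_iff_mulVec]
      intro u
      simp only [← Matrix.mulVec_mulVec]
      rw [f7 _ (hyW _ (f1 u))]
    · apply Subtype.ext
      apply Units.ext
      show r₂ * (((x * y).1 : GL (Fin n) F) : MM) * c₂ =
        (r₂ * ((x.1 : GL (Fin n) F) : MM) * c₂) * (r₂ * ((y.1 : GL (Fin n) F) : MM) * c₂)
      have hxy : (((x * y).1 : GL (Fin n) F) : MM) =
          ((x.1 : GL (Fin n) F) : MM) * ((y.1 : GL (Fin n) F) : MM) := rfl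
      rw [hxy, Matrix.ext_iff_mulVec]
      intro u
      simp only [← Matrix.mulVec_mulVec]
      rw [f8 _ (hyU _ (f2 u))]

end ustab

end Cfsg.Agent.helper29
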