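import Mathlib
import Cfsg.Prelude.Def_RootSubgroups

set_option autoImplicit false
set_option linter.unusedSectionVars false
set_option linter.unusedVariables false

namespace Cfsg.Agent.helper29.Unip

open Cfsg

variable {k : Type*} [Field k] {M : Type*} [AddCommGroup M] [Module k M]

local notation "GLM" => LinearMap.GeneralLinearGroup k M

/-- `g - 1` as an endomorphism -/
def hat (g : GLM) : M →ₗ[k] M := (g : M →ₗ[k] M) - 1

theorem hat_apply (g : GLM) (v : M) : hat g v = (g : M →ₗ[k] M) v - v := by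
  unfold hat
  rw [LinearMap.sub_apply, Module.End.one_apply]

theorem coe_mul_apply (g h : GLM) (v : M) :
    ((g * h : GLM) : M →ₗ[k] M) v = (g : M →ₗ[k] M) ((h : M →ₗ[k] M) v) := by
  rw [Units.val_mul, Module.End.mul_apply]

theorem inv_apply_apply (g : GLM) (v : M) :
    ((g⁻¹ : GLM) : M →ₗ[k] M) ((g : M →ₗ[k] M) v) = v := by
  rw [← coe_mul_apply, inv_mul_cancel, Units.val_one, Module.End.one_apply]

theorem apply_inv_apply (g : GLM) (v : M) :
    (g : M →ₗ[k] M) (((g⁻¹ : GLM) : M →ₗ[k] M) v) = v := by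
  rw [← coe_mul_apply, mul_inv_cancel, Units.val_one, Module.End.one_apply]

theorem apply_eq (g : GLM) (v : M) : (g : M →ₗ[k] M) v = v + hat g v := by
  rw [hat_apply]; abel

theorem hat_mul_apply (g h : GLM) (v : M) :
    hat (g * h) v = hat g (hat h v) + hat g v + hat h v := by
  simp only [hat_apply, coe_mul_apply, map_sub]
  abel

theorem hat_one_apply (v : M) : hat (1 : GLM) v = 0 := by
  rw [hat_apply, Units.val_one, Module.End.one_apply, sub_self]

theorem hat_inv_apply (g : GLM) (v : M) :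
    hat g⁻¹ v = - ((g⁻¹ : GLM) : M →ₗ[k] M) (hat g v) := by
  rw [hat_apply, hat_apply, map_sub, inv_apply_apply]
  abel

/-- `(x a x⁻¹ - 1) v = x ((a - 1) (x⁻¹ v))` -/
theorem hat_conj_apply (x a : GLM) (v : M) :
    hat (x * a * x⁻¹) v = (x : M →ₗ[k] M) (hat a (((x⁻¹ : GLM) : M →ₗ[k] M) v)) := by
  rw [hat_apply, hat_apply, coe_mul_apply, coe_mul_apply, map_sub, apply_inv_apply]

/-- `(a - 1) (x v) = x ((x⁻¹ a x - 1) v)` -/
theorem hat_apply_apply (a x : GLM) (v : M) :
    hat a ((x : M →ₗ[k] M) v) = (x : M →ₗ[k] M) (hat (x⁻¹ * a * x) v) := by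
  rw [hat_apply (x⁻¹ * a * x), map_sub, coe_mul_apply, coe_mul_apply, apply_inv_apply, hat_apply]

/-- the product of the `g - 1` over a list -/
def hprod (l : List GLM) : M →ₗ[k] M := (l.map fun g : GLM => hat g).prod

theorem prelude_prod_eq (l : List GLM) :
    (List.map (fun g => g - 1) (do let a ← l; pure (↑a : M →ₗ[k] M))).prod = hprod l := by
  unfold hprod
  congr 1
  simp only [List.pure_def, List.bind_eq_flatMap]
  induction l with
  | nil => rfl
  | cons g l ih =>
    rw [List.flatMap_cons, List.map_append, ih]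
    rfl

theorem hprod_nil (v : M) : hprod ([] : List GLM) v = v := by
  unfold hprod
  rw [List.map_nil, List.prod_nil, Module.End.one_apply]

theorem hprod_cons (g : GLM) (l : List GLM) (v : M) : hprod (g :: l) v = hat g (hprod l v) := by
  unfold hprod
  rw [List.map_cons, List.prod_cons, Module.End.mul_apply]

theorem hprod_append (l₁ l₂ : List GLM) (v : M) : hprod (l₁ ++ l₂) v = hprod l₁ (hprod l₂ v) := by
  unfold hprod
  rw [List.map_append, List.prod_append, Module.End.mul_apply]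

theorem hprod_singleton (g : GLM) (v : M) : hprod [g] v = hat g v := by
  rw [hprod_cons, hprod_nil]

/-- the stabiliser of a subspace -/
def stabSub (N : Submodule k M) : Subgroup GLM where
  carrier := {g | ∀ v ∈ N, (g : M →ₗ[k] M) v ∈ N ∧ ((g⁻¹ : GLM) : M →ₗ[k] M) v ∈ N}
  mul_mem' := by
    intro g h hg hh v hv
    refine ⟨?_, ?_⟩
    · rw [coe_mul_apply]
      exact (hg _ (hh v hv).1).1
    · rw [mul_inv_rev, coe_mul_apply]
      exact (hh _ (hg v hv).2).2
  one_mem' := by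
    intro v hv
    rw [inv_one, Units.val_one, Module.End.one_apply]
    exact ⟨hv, hv⟩
  inv_mem' := by
    intro g hg v hv
    rw [inv_inv]
    exact ⟨(hg v hv).2, (hg v hv).1⟩

theorem stab_apply {N : Submodule k M} {g : GLM} (hg : g ∈ stabSub N) {v : M} (hv : v ∈ N) :
    (g : M →ₗ[k] M) v ∈ N := (hg v hv).1

theorem stab_hat {N : Submodule k M} {g : GLM} (hg : g ∈ stabSub N) {v : M} (hv : v ∈ N) :
    hat g v ∈ N := by
  rw [hat_apply]
  exact N.sub_mem (hg v hv).1 hv

/-- membership in the stabiliser for elements of a subgroup -/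
theorem le_stabSub_of {H : Subgroup GLM} {N : Submodule k M}
    (h : ∀ g ∈ H, ∀ v ∈ N, (g : M →ₗ[k] M) v ∈ N) : H ≤ stabSub N := by
  intro g hg v hv
  exact ⟨h g hg v hv, h g⁻¹ (H.inv_mem hg) v hv⟩

/-- the elements acting trivially on `N₂ / N₁` -/
def trivSub (N₁ N₂ : Submodule k M) : Subgroup GLM where
  carrier := {g | g ∈ stabSub N₁ ∧ ∀ v ∈ N₂, hat g v ∈ N₁}
  mul_mem' := by
    rintro g h ⟨hg1, hg2⟩ ⟨hh1, hh2⟩
    refine ⟨(stabSub N₁).mul_mem hg1 hh1, ?_⟩
    intro v hv
    rw [hat_mul_apply]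
    exact N₁.add_mem (N₁.add_mem (stab_hat hg1 (hh2 v hv)) (hg2 v hv)) (hh2 v hv)
  one_mem' := by
    refine ⟨(stabSub N₁).one_mem, ?_⟩
    intro v hv
    rw [hat_one_apply]
    exact N₁.zero_mem
  inv_mem' := by
    rintro g ⟨hg1, hg2⟩
    refine ⟨(stabSub N₁).inv_mem hg1, ?_⟩
    intro v hv
    rw [hat_inv_apply]
    exact N₁.neg_mem (stab_apply ((stabSub N₁).inv_mem hg1) (hg2 v hv))

/-- relative unipotency -/
def RelUnip (H : Subgroup GLM) (N₁ N₂ : Submodule k M) : Prop :=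
  ∃ n : ℕ, ∀ l : List GLM, (∀ g ∈ l, g ∈ H) → l.length = n → ∀ v ∈ N₂, hprod l v ∈ N₁

theorem isUnipotentOn_iff (H : Subgroup GLM) : Cfsg.IsUnipotentOn H ↔ RelUnip H ⊥ ⊤ := by
  unfold Cfsg.IsUnipotentOn RelUnip
  constructor
  · rintro ⟨n, hn⟩
    refine ⟨n, fun l hl hlen v _ => ?_⟩
    have := hn l hl hlen
    rw [prelude_prod_eq] at this
    rw [this, LinearMap.zero_apply]
    exact Submodule.zero_mem _
  · rintro ⟨n, hn⟩
    refine ⟨n, fun l hl hlen => ?_⟩
    rw [prelude_prod_eq]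
    apply LinearMap.ext
    intro v
    have := hn l hl hlen v Submodule.mem_top
    rw [Submodule.mem_bot] at this
    rw [LinearMap.zero_apply]
    exact this

theorem RelUnip.mono {H H' : Subgroup GLM} {N₁ N₂ N₁' N₂' : Submodule k M} (h : RelUnip H N₁ N₂)
    (hH : H' ≤ H) (h1 : N₁ ≤ N₁') (h2 : N₂' ≤ N₂) : RelUnip H' N₁' N₂' := by
  obtain ⟨n, hn⟩ := h
  exact ⟨n, fun l hl hlen v hv => h1 (hn l (fun g hg => hH (hl g hg)) hlen v (h2 hv))⟩

theorem RelUnip.trans {H : Subgroup GLM} {N₁ T N₂ : Submodule k M} (h1 : RelUnip H N₁ T)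
    (h2 : RelUnip H T N₂) : RelUnip H N₁ N₂ := by
  obtain ⟨n₁, hn₁⟩ := h1
  obtain ⟨n₂, hn₂⟩ := h2
  refine ⟨n₁ + n₂, fun l hl hlen v hv => ?_⟩
  rw [← List.take_append_drop n₁ l, hprod_append]
  apply hn₁
  · intro g hg
    exact hl g (List.mem_of_mem_take hg)
  · rw [List.length_take, hlen]
    omega
  · apply hn₂
    · intro g hg
      exact hl g (List.mem_of_mem_drop hg)
    · rw [List.length_drop, hlen]
      omega
    · exact hv

theorem hprod_mem {H : Subgroup GLM} {N : Submodule k M} (hH : H ≤ stabSub N) (l : List GLM)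
    (hl : ∀ g ∈ l, g ∈ H) {v : M} (hv : v ∈ N) : hprod l v ∈ N := by
  induction l with
  | nil => rw [hprod_nil]; exact hv
  | cons g l ih =>
    rw [hprod_cons]
    exact stab_hat (hH (hl g (List.mem_cons_self))) (ih fun g' hg' => hl g' (List.mem_cons_of_mem _ hg'))

/-- a relatively unipotent group has a fixed vector modulo `N₁` -/
theorem exists_fixed {H : Subgroup GLM} {N₁ N₂ : Submodule k M} (h1 : H ≤ stabSub N₁)
    (h2 : H ≤ stabSub N₂) (hU : RelUnip H N₁ N₂) (hlt : N₁ < N₂) :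
    ∃ v ∈ N₂, v ∉ N₁ ∧ ∀ h ∈ H, hat h v ∈ N₁ := by
  classical
  obtain ⟨n, hn⟩ : ∃ n, n = Nat.find hU := ⟨_, rfl⟩
  have hspec := Nat.find_spec hU
  rw [← hn] at hspec
  rcases Nat.eq_zero_or_pos n with h0 | hpos
  · exfalso
    apply not_le_of_gt hlt
    intro v hv
    have := hspec [] (by simp) (by rw [h0]; rfl) v hv
    rwa [hprod_nil] at this
  · obtain ⟨m, rfl⟩ : ∃ m, n = m + 1 := ⟨n - 1, by omega⟩
    have hmin := Nat.find_min hU (m := m) (by rw [← hn]; omega)
    push Not at hmin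
    obtain ⟨l, hl, hlen, v, hv, hvn⟩ := hmin
    refine ⟨hprod l v, hprod_mem h2 l hl hv, hvn, ?_⟩
    intro h hh
    rw [← hprod_cons]
    apply hspec
    · intro g hg
      rcases List.mem_cons.mp hg with rfl | hg
      · exact hh
      · exact hl g hg
    · rw [List.length_cons, hlen]
    · exact hv

end Cfsg.Agent.helper29.Unip
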