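import Mathlib
import Cfsg.Agent.Lib_helper29_Unip1

set_option autoImplicit false
set_option linter.unusedSectionVars false
set_option linter.unusedVariables false

namespace Cfsg.Agent.helper29.Unip

open Cfsg

variable {k : Type*} [Field k] {M : Type*} [AddCommGroup M] [Module k M]

local notation "GLM" => LinearMap.GeneralLinearGroup k M

/-- the fixed space of a family modulo `N₁` inside `N₂` -/
def Fix (Δ : Set (Subgroup GLM)) (N₁ N₂ : Submodule k M) : Submodule k M where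
  carrier := {v | v ∈ N₂ ∧ ∀ A ∈ Δ, ∀ a ∈ A, hat a v ∈ N₁}
  add_mem' := by
    rintro v w ⟨hv, hv'⟩ ⟨hw, hw'⟩
    refine ⟨N₂.add_mem hv hw, fun A hA a ha => ?_⟩
    rw [map_add]
    exact N₁.add_mem (hv' A hA a ha) (hw' A hA a ha)
  zero_mem' := ⟨N₂.zero_mem, fun A hA a ha => by rw [map_zero]; exact N₁.zero_mem⟩
  smul_mem' := by
    rintro c v ⟨hv, hv'⟩
    refine ⟨N₂.smul_mem c hv, fun A hA a ha => ?_⟩
    rw [map_smul]
    exact N₁.smul_mem c (hv' A hA a ha)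

theorem mem_Fix {Δ : Set (Subgroup GLM)} {N₁ N₂ : Submodule k M} {v : M} :
    v ∈ Fix Δ N₁ N₂ ↔ v ∈ N₂ ∧ ∀ A ∈ Δ, ∀ a ∈ A, hat a v ∈ N₁ := Iff.rfl

theorem Fix_le (Δ : Set (Subgroup GLM)) (N₁ N₂ : Submodule k M) : Fix Δ N₁ N₂ ≤ N₂ :=
  fun v hv => hv.1

theorem Fix_anti {Δ Δ' : Set (Subgroup GLM)} (h : Δ ⊆ Δ') (N₁ N₂ : Submodule k M) :
    Fix Δ' N₁ N₂ ≤ Fix Δ N₁ N₂ :=
  fun v hv => ⟨hv.1, fun A hA a ha => hv.2 A (h hA) a ha⟩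

theorem le_Fix {Δ : Set (Subgroup GLM)} {N₁ N₂ : Submodule k M} (hle : N₁ ≤ N₂)
    (hpres : ∀ A ∈ Δ, A ≤ stabSub N₁) : N₁ ≤ Fix Δ N₁ N₂ :=
  fun v hv => ⟨hle hv, fun A hA a ha => stab_hat (hpres A hA ha) hv⟩

/-- the members of the family stabilising `T` -/
def stabFam (W : Set (Subgroup GLM)) (T : Submodule k M) : Set (Subgroup GLM) :=
  {A | A ∈ W ∧ A ≤ stabSub T}

theorem stabFam_subset (W : Set (Subgroup GLM)) (T : Submodule k M) : stabFam W T ⊆ W :=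
  fun A hA => hA.1

theorem mem_conjBy {A : Subgroup GLM} {b x : GLM} : x ∈ Cfsg.conjBy A b ↔ ∃ a ∈ A, b * a * b⁻¹ = x := by
  unfold Cfsg.conjBy
  rw [Subgroup.mem_map]
  rfl

theorem conj_mem_conjBy {A : Subgroup GLM} {a : GLM} (ha : a ∈ A) (b : GLM) :
    b * a * b⁻¹ ∈ Cfsg.conjBy A b := mem_conjBy.mpr ⟨a, ha, rfl⟩

theorem conj_le_stab {A : Subgroup GLM} {b : GLM} {T : Submodule k M} (hA : A ≤ stabSub T)
    (hb : b ∈ stabSub T) : Cfsg.conjBy A b ≤ stabSub T := by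
  intro x hx
  obtain ⟨a, ha, rfl⟩ := mem_conjBy.mp hx
  exact (stabSub T).mul_mem ((stabSub T).mul_mem hb (hA ha)) ((stabSub T).inv_mem hb)

/-- the standing hypotheses on a family relative to `N₁ ≤ N₂` -/
structure Hyp (W : Set (Subgroup GLM)) (N₁ N₂ : Submodule k M) : Prop where
  le : N₁ ≤ N₂
  pres1 : ∀ A ∈ W, A ≤ stabSub N₁
  pres2 : ∀ A ∈ W, A ≤ stabSub N₂
  conj : ∀ A ∈ W, ∀ B ∈ W, ∀ b ∈ B, Cfsg.conjBy A b ∈ W
  pair : ∀ A ∈ W, ∀ B ∈ W, RelUnip (A ⊔ B) N₁ N₂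

theorem stabFam_conj {W : Set (Subgroup GLM)} {N₁ N₂ : Submodule k M} (hyp : Hyp W N₁ N₂)
    (T : Submodule k M) : ∀ A ∈ stabFam W T, ∀ B ∈ stabFam W T, ∀ b ∈ B, Cfsg.conjBy A b ∈ stabFam W T :=
  fun A hA B hB b hb => ⟨hyp.conj A hA.1 B hB.1 b hb, conj_le_stab hA.2 (hB.2 hb)⟩

theorem Hyp.sub {W W' : Set (Subgroup GLM)} {N₁ N₂ : Submodule k M} (hyp : Hyp W N₁ N₂) (hsub : W' ⊆ W)
    (hconj : ∀ A ∈ W', ∀ B ∈ W', ∀ b ∈ B, Cfsg.conjBy A b ∈ W') : Hyp W' N₁ N₂ :=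
  ⟨hyp.le, fun A hA => hyp.pres1 A (hsub hA), fun A hA => hyp.pres2 A (hsub hA), hconj,
    fun A hA B hB => hyp.pair A (hsub hA) B (hsub hB)⟩

theorem Hyp.left {W : Set (Subgroup GLM)} {N₁ N₂ : Submodule k M} (hyp : Hyp W N₁ N₂) (T : Submodule k M)
    (h1 : N₁ ≤ T) (h2 : T ≤ N₂) (hT : ∀ A ∈ W, A ≤ stabSub T) : Hyp W N₁ T :=
  ⟨h1, hyp.pres1, hT, hyp.conj, fun A hA B hB => (hyp.pair A hA B hB).mono le_rfl le_rfl h2⟩

theorem Hyp.right {W : Set (Subgroup GLM)} {N₁ N₂ : Submodule k M} (hyp : Hyp W N₁ N₂) (T : Submodule k M)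
    (h1 : N₁ ≤ T) (h2 : T ≤ N₂) (hT : ∀ A ∈ W, A ≤ stabSub T) : Hyp W T N₂ :=
  ⟨h2, hT, hyp.pres2, hyp.conj, fun A hA B hB => (hyp.pair A hA B hB).mono le_rfl h1 le_rfl⟩

theorem Hyp.stabFam {W : Set (Subgroup GLM)} {N₁ N₂ : Submodule k M} (hyp : Hyp W N₁ N₂)
    (T : Submodule k M) : Hyp (stabFam W T) N₁ N₂ :=
  hyp.sub (stabFam_subset W T) (stabFam_conj hyp T)

theorem iSup_le_stab {Δ : Set (Subgroup GLM)} {N : Submodule k M} (h : ∀ A ∈ Δ, A ≤ stabSub N) :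
    (⨆ A ∈ Δ, A) ≤ stabSub N := iSup₂_le h

/-- an element normalising a family preserves its fixed space -/
theorem Fix_pres (Δ : Set (Subgroup GLM)) (N₁ N₂ : Submodule k M) (b : GLM) (hb1 : b ∈ stabSub N₁)
    (hb2 : b ∈ stabSub N₂) (hnorm : ∀ A ∈ Δ, ∀ a ∈ A, ∃ A' ∈ Δ, b⁻¹ * a * b ∈ A') :
    ∀ v ∈ Fix Δ N₁ N₂, (b : M →ₗ[k] M) v ∈ Fix Δ N₁ N₂ := by
  rintro v ⟨hv, hv'⟩
  refine ⟨stab_apply hb2 hv, fun A hA a ha => ?_⟩
  rw [hat_apply_apply]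
  obtain ⟨A', hA', hmem⟩ := hnorm A hA a ha
  exact stab_apply hb1 (hv' A' hA' _ hmem)

theorem conj_inv_mem {A : Subgroup GLM} {a : GLM} (ha : a ∈ A) (b : GLM) :
    b⁻¹ * a * b ∈ Cfsg.conjBy A b⁻¹ := by
  have := conj_mem_conjBy ha b⁻¹
  rwa [inv_inv] at this

theorem stabFam_le_stab_Fix {W : Set (Subgroup GLM)} {N₁ N₂ : Submodule k M} (hyp : Hyp W N₁ N₂)
    (T : Submodule k M) : ∀ B ∈ stabFam W T, B ≤ stabSub (Fix (stabFam W T) N₁ N₂) := by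
  intro B hB
  apply le_stabSub_of
  intro b hb v hv
  apply Fix_pres _ _ _ b (hyp.pres1 B hB.1 hb) (hyp.pres2 B hB.1 hb) _ v hv
  intro A hA a ha
  exact ⟨_, stabFam_conj hyp T A hA B hB b⁻¹ (B.inv_mem hb), conj_inv_mem ha b⟩

/-- centralising implies stabilising -/
theorem cent_le_stab {A : Subgroup GLM} {N₁ T : Submodule k M} (h1 : N₁ ≤ T)
    (h : ∀ a ∈ A, ∀ v ∈ T, hat a v ∈ N₁) : A ≤ stabSub T := by
  apply le_stabSub_of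
  intro a ha v hv
  rw [apply_eq]
  exact T.add_mem hv (h1 (h a ha v hv))

/-! ### the relative upper fixed series -/

/-- the relative upper fixed series of `P` -/
def Gs (P : Subgroup GLM) (N₁ N₂ : Submodule k M) (i : ℕ) : Submodule k M where
  carrier := {v | v ∈ N₂ ∧ ∀ l : List GLM, (∀ g ∈ l, g ∈ P) → l.length = i → hprod l v ∈ N₁}
  add_mem' := by
    rintro v w ⟨hv, hv'⟩ ⟨hw, hw'⟩
    refine ⟨N₂.add_mem hv hw, fun l hl hlen => ?_⟩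
    rw [map_add]
    exact N₁.add_mem (hv' l hl hlen) (hw' l hl hlen)
  zero_mem' := ⟨N₂.zero_mem, fun l hl hlen => by rw [map_zero]; exact N₁.zero_mem⟩
  smul_mem' := by
    rintro c v ⟨hv, hv'⟩
    refine ⟨N₂.smul_mem c hv, fun l hl hlen => ?_⟩
    rw [map_smul]
    exact N₁.smul_mem c (hv' l hl hlen)

theorem Gs_zero_le (P : Subgroup GLM) (N₁ N₂ : Submodule k M) : Gs P N₁ N₂ 0 ≤ N₁ := by
  rintro v ⟨_, hv⟩
  have := hv [] (by simp) rfl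
  rwa [hprod_nil] at this

theorem le_Gs_zero (P : Subgroup GLM) {N₁ N₂ : Submodule k M} (hle : N₁ ≤ N₂) : N₁ ≤ Gs P N₁ N₂ 0 := by
  intro v hv
  refine ⟨hle hv, fun l hl hlen => ?_⟩
  rw [List.length_eq_zero_iff.mp hlen, hprod_nil]
  exact hv

theorem Gs_le_succ {P : Subgroup GLM} {N₁ N₂ : Submodule k M} (h1 : P ≤ stabSub N₁) (i : ℕ) :
    Gs P N₁ N₂ i ≤ Gs P N₁ N₂ (i + 1) := by
  rintro v ⟨hv, hv'⟩
  refine ⟨hv, fun l hl hlen => ?_⟩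
  cases l with
  | nil => simp at hlen
  | cons g l =>
    rw [hprod_cons]
    refine stab_hat (h1 (hl g List.mem_cons_self)) (hv' l (fun g' hg' => hl g' (List.mem_cons_of_mem _ hg')) ?_)
    simpa using hlen

theorem Gs_mono {P : Subgroup GLM} {N₁ N₂ : Submodule k M} (h1 : P ≤ stabSub N₁) {i j : ℕ} (hij : i ≤ j) :
    Gs P N₁ N₂ i ≤ Gs P N₁ N₂ j :=
  monotone_nat_of_le_succ (Gs_le_succ h1) hij

theorem Gs_shift {P : Subgroup GLM} {N₁ N₂ : Submodule k M} (h2 : P ≤ stabSub N₂) {g : GLM} (hg : g ∈ P)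
    {i : ℕ} {v : M} (hv : v ∈ Gs P N₁ N₂ (i + 1)) : hat g v ∈ Gs P N₁ N₂ i := by
  refine ⟨stab_hat (h2 hg) hv.1, fun l hl hlen => ?_⟩
  rw [← hprod_singleton g, ← hprod_append]
  apply hv.2
  · intro g' hg'
    rcases List.mem_append.mp hg' with h | h
    · exact hl g' h
    · rw [List.mem_singleton] at h
      rw [h]; exact hg
  · rw [List.length_append, hlen, List.length_singleton]

theorem Gs_hat {P : Subgroup GLM} {N₁ N₂ : Submodule k M} (h1 : P ≤ stabSub N₁) (h2 : P ≤ stabSub N₂)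
    {g : GLM} (hg : g ∈ P) {i : ℕ} {v : M} (hv : v ∈ Gs P N₁ N₂ i) : hat g v ∈ Gs P N₁ N₂ i :=
  Gs_shift h2 hg (Gs_le_succ h1 i hv)

theorem Gs_apply {P : Subgroup GLM} {N₁ N₂ : Submodule k M} (h1 : P ≤ stabSub N₁) (h2 : P ≤ stabSub N₂)
    {g : GLM} (hg : g ∈ P) {i : ℕ} {v : M} (hv : v ∈ Gs P N₁ N₂ i) :
    (g : M →ₗ[k] M) v ∈ Gs P N₁ N₂ i := by
  rw [apply_eq]
  exact (Gs P N₁ N₂ i).add_mem hv (Gs_hat h1 h2 hg hv)

end Cfsg.Agent.helper29.Unip
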