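import Mathlib
import Cfsg.Agent.Lib_helper29_Unip2

set_option autoImplicit false
set_option linter.unusedSectionVars false
set_option linter.unusedVariables false

namespace Cfsg.Agent.helper29.Unip

open Cfsg

variable {k : Type*} [Field k] {M : Type*} [AddCommGroup M] [Module k M]

local notation "GLM" => LinearMap.GeneralLinearGroup k M

/-- every member of a family stabilises the fixed space of the family -/
theorem mem_le_stab_Fix (Γ : Set (Subgroup GLM)) (N₁ N₂ : Submodule k M)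
    (h1 : ∀ A ∈ Γ, A ≤ stabSub N₁) (h2 : ∀ A ∈ Γ, A ≤ stabSub N₂) :
    ∀ B ∈ Γ, B ≤ stabSub (Fix Γ N₁ N₂) := by
  have hQ : (⨆ A ∈ Γ, A) ≤ trivSub N₁ (Fix Γ N₁ N₂) := by
    refine iSup₂_le fun A hA a ha => ⟨h1 A hA ha, fun v hv => hv.2 A hA a ha⟩
  intro B hB
  apply le_stabSub_of
  rintro b hb v ⟨hv, hv'⟩
  refine ⟨stab_apply (h2 B hB hb) hv, fun A hA a ha => ?_⟩
  rw [hat_apply_apply]
  have hmem : b⁻¹ * a * b ∈ (⨆ A ∈ Γ, A) :=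
    mul_mem (mul_mem (inv_mem (le_iSup₂ (f := fun (A : Subgroup GLM) (_ : A ∈ Γ) => A) B hB hb))
      (le_iSup₂ (f := fun (A : Subgroup GLM) (_ : A ∈ Γ) => A) A hA ha))
      (le_iSup₂ (f := fun (A : Subgroup GLM) (_ : A ∈ Γ) => A) B hB hb)
  exact stab_apply (h1 B hB hb) ((hQ hmem).2 v ⟨hv, hv'⟩)

/-! ### the normaliser chain -/

/-- the chain of subsets of `P` used for the normaliser argument -/
def EE (P : Subgroup GLM) (N₁ N₂ S : Submodule k M) (i : ℕ) (x : GLM) : Prop :=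
  x ∈ P ∧ ∀ s ∈ S, hat x s ∈ Gs P N₁ N₂ i

theorem EE_inv {P : Subgroup GLM} {N₁ N₂ S : Submodule k M} (h1 : P ≤ stabSub N₁) (h2 : P ≤ stabSub N₂)
    {i : ℕ} {x : GLM} (hx : EE P N₁ N₂ S i x) : EE P N₁ N₂ S i x⁻¹ := by
  refine ⟨P.inv_mem hx.1, fun s hs => ?_⟩
  rw [hat_inv_apply]
  exact neg_mem (Gs_apply h1 h2 (P.inv_mem hx.1) (hx.2 s hs))

theorem EE_mono {P : Subgroup GLM} {N₁ N₂ S : Submodule k M} (h1 : P ≤ stabSub N₁)
    {i j : ℕ} (hij : i ≤ j) {x : GLM} (hx : EE P N₁ N₂ S i x) : EE P N₁ N₂ S j x :=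
  ⟨hx.1, fun s hs => Gs_mono h1 hij (hx.2 s hs)⟩

theorem EE_conj {P : Subgroup GLM} {N₁ N₂ S : Submodule k M} (h1 : P ≤ stabSub N₁) (h2 : P ≤ stabSub N₂)
    {i : ℕ} {x z : GLM} (hx : EE P N₁ N₂ S (i + 1) x) (hz : EE P N₁ N₂ S i z) :
    EE P N₁ N₂ S i (x * z * x⁻¹) := by
  refine ⟨mul_mem (mul_mem hx.1 hz.1) (inv_mem hx.1), fun s hs => ?_⟩
  rw [hat_conj_apply]
  have hw : hat x⁻¹ s ∈ Gs P N₁ N₂ (i + 1) := (EE_inv h1 h2 hx).2 s hs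
  rw [apply_eq x⁻¹ s, map_add]
  apply Gs_apply h1 h2 hx.1
  exact add_mem (hz.2 s hs) (Gs_shift h2 hz.1 hw)

/-- normaliser growth: a member outside `Δ` stabilising the fixed space of `Δ` -/
theorem star {W : Set (Subgroup GLM)} {N₁ N₂ : Submodule k M} (hyp : Hyp W N₁ N₂) (T₁ : Submodule k M)
    (hP : RelUnip (⨆ A ∈ stabFam W T₁, A) N₁ N₂) (S : Submodule k M) (hS2 : S ≤ N₂)
    (Δ : Set (Subgroup GLM))
    (hΔ : ∀ A, A ∈ Δ ↔ A ∈ stabFam W T₁ ∧ ∀ a ∈ A, ∀ s ∈ S, hat a s ∈ N₁)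
    (hFix : Fix Δ N₁ N₂ = S) (X₀ : Subgroup GLM) (hX₀ : X₀ ∈ stabFam W T₁) (hX₀Δ : X₀ ∉ Δ) :
    ∃ X ∈ stabFam W T₁, X ∉ Δ ∧ X ≤ stabSub S := by
  classical
  have hΛ := hyp.stabFam T₁
  obtain ⟨P, hPdef⟩ : ∃ P : Subgroup GLM, P = ⨆ A ∈ stabFam W T₁, A := ⟨_, rfl⟩
  rw [← hPdef] at hP
  have h1 : P ≤ stabSub N₁ := hPdef ▸ iSup_le_stab hΛ.pres1
  have h2 : P ≤ stabSub N₂ := hPdef ▸ iSup_le_stab hΛ.pres2
  have hle : ∀ A ∈ stabFam W T₁, A ≤ P := fun A hA =>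
    hPdef ▸ le_iSup₂ (f := fun (A : Subgroup GLM) (_ : A ∈ stabFam W T₁) => A) A hA
  obtain ⟨n, hn⟩ := hP
  have htop : ∀ v ∈ N₂, v ∈ Gs P N₁ N₂ n := fun v hv => ⟨hv, fun l hl hlen => hn l hl hlen v hv⟩
  have hex : ∃ i, ∃ X ∈ stabFam W T₁, X ∉ Δ ∧ ∀ x ∈ X, EE P N₁ N₂ S i x :=
    ⟨n, X₀, hX₀, hX₀Δ, fun x hx => ⟨hle X₀ hX₀ hx, fun s hs =>
      htop _ (stab_hat (h2 (hle X₀ hX₀ hx)) (hS2 hs))⟩⟩
  obtain ⟨i₀, hi₀⟩ : ∃ i₀, i₀ = Nat.find hex := ⟨_, rfl⟩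
  have hspec := Nat.find_spec hex
  rw [← hi₀] at hspec
  obtain ⟨X, hXΛ, hXΔ, hXE⟩ := hspec
  rcases Nat.eq_zero_or_pos i₀ with h0 | hpos
  · exfalso
    apply hXΔ
    rw [hΔ]
    refine ⟨hXΛ, fun a ha s hs => Gs_zero_le P N₁ N₂ ?_⟩
    have := (hXE a ha).2 s hs
    rwa [h0] at this
  · obtain ⟨j, rfl⟩ : ∃ j, i₀ = j + 1 := ⟨i₀ - 1, by omega⟩
    have hmin : ∀ A ∈ stabFam W T₁, (∀ a ∈ A, EE P N₁ N₂ S j a) → A ∈ Δ := by
      intro A hA hAE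
      by_contra hAΔ
      exact Nat.find_min hex (m := j) (by rw [← hi₀]; omega) ⟨A, hA, hAΔ, hAE⟩
    refine ⟨X, hXΛ, hXΔ, ?_⟩
    apply le_stabSub_of
    intro x hx s hs
    rw [← hFix] at hs ⊢
    apply Fix_pres Δ N₁ N₂ x (hyp.pres1 X hXΛ.1 hx) (hyp.pres2 X hXΛ.1 hx) _ s hs
    intro A hA a ha
    have hAΛ := ((hΔ A).mp hA).1
    refine ⟨Cfsg.conjBy A x⁻¹, ?_, conj_inv_mem ha x⟩
    apply hmin _ (stabFam_conj hyp T₁ A hAΛ X hXΛ x⁻¹ (X.inv_mem hx))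
    intro c hc
    obtain ⟨a', ha', rfl⟩ := mem_conjBy.mp hc
    apply EE_conj h1 h2 (EE_inv h1 h2 (hXE x hx))
    apply EE_mono h1 (Nat.zero_le j)
    exact ⟨hle A hAΛ ha', fun s hs => le_Gs_zero P hyp.le (((hΔ A).mp hA).2 a' ha' s hs)⟩

/-! ### closed subspaces -/

/-- a subspace strictly between `N₁` and `N₂` equal to the fixed space of its stabilising members -/
def Closed (W : Set (Subgroup GLM)) (N₁ N₂ T : Submodule k M) : Prop :=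
  N₁ < T ∧ T < N₂ ∧ Fix (stabFam W T) N₁ N₂ = T

/-- a minimal closed subspace -/
def MinClosed (W : Set (Subgroup GLM)) (N₁ N₂ T : Submodule k M) : Prop :=
  Closed W N₁ N₂ T ∧ ∀ T', Closed W N₁ N₂ T' → T' ≤ T → T' = T

theorem closed_mem_iff {W : Set (Subgroup GLM)} {N₁ N₂ T : Submodule k M} (hT : Closed W N₁ N₂ T)
    {A : Subgroup GLM} (hA : A ∈ W) : A ∈ stabFam W T ↔ ∀ a ∈ A, ∀ v ∈ T, hat a v ∈ N₁ := by
  constructor
  · intro hAT a ha v hv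
    rw [← hT.2.2] at hv
    exact hv.2 A hAT a ha
  · intro h
    exact ⟨hA, cent_le_stab hT.1.le h⟩

theorem closed_stab_mono {W : Set (Subgroup GLM)} {N₁ N₂ T T₀ : Submodule k M} (hT : Closed W N₁ N₂ T)
    (h1 : N₁ ≤ T₀) (h2 : T₀ ≤ T) : stabFam W T ⊆ stabFam W T₀ := by
  intro A hA
  refine ⟨hA.1, cent_le_stab h1 fun a ha v hv => ?_⟩
  exact (closed_mem_iff hT hA.1).mp hA a ha v (h2 hv)

theorem exists_closed [FiniteDimensional k M] {W : Set (Subgroup GLM)} {N₁ N₂ : Submodule k M}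
    (hyp : Hyp W N₁ N₂)
    (hI : ∀ T, N₁ < T → T < N₂ → RelUnip (⨆ A ∈ stabFam W T, A) N₁ N₂) :
    ∀ d : ℕ, ∀ T : Submodule k M, Module.finrank k T ≤ d → N₁ < T → T < N₂ →
      Fix (stabFam W T) N₁ N₂ ≤ T →
      ∃ T', Closed W N₁ N₂ T' ∧ T' ≤ T ∧ stabFam W T ⊆ stabFam W T' := by
  intro d
  induction d using Nat.strong_induction_on with
  | _ d ih =>
    intro T hd hT1 hT2 hFT
    have hΛ := hyp.stabFam T
    obtain ⟨v, hv2, hv1, hvfix⟩ := exists_fixed (iSup_le_stab hΛ.pres1) (iSup_le_stab hΛ.pres2)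
      (hI T hT1 hT2) (lt_trans hT1 hT2)
    obtain ⟨T', hT'⟩ : ∃ T', T' = Fix (stabFam W T) N₁ N₂ := ⟨_, rfl⟩
    have hvT' : v ∈ T' := by
      rw [hT']
      exact ⟨hv2, fun A hA a ha => hvfix a
        (le_iSup₂ (f := fun (A : Subgroup GLM) (_ : A ∈ stabFam W T) => A) A hA ha)⟩
    have hN1T' : N₁ < T' := by
      rw [SetLike.lt_iff_le_and_exists]
      refine ⟨?_, v, hvT', hv1⟩
      rw [hT']
      exact le_Fix hyp.le hΛ.pres1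
    have hsub : stabFam W T ⊆ stabFam W T' := fun B hB =>
      ⟨hB.1, hT' ▸ mem_le_stab_Fix _ N₁ N₂ hΛ.pres1 hΛ.pres2 B hB⟩
    by_cases heq : T' = T
    · exact ⟨T, ⟨hT1, hT2, hT' ▸ heq⟩, le_rfl, subset_rfl⟩
    · have hlt : T' < T := lt_of_le_of_ne (hT' ▸ hFT) heq
      have hfr := Submodule.finrank_lt_finrank_of_lt hlt
      obtain ⟨T'', hcl, hle, hsub'⟩ := ih (Module.finrank k T') (by omega) T' le_rfl hN1T'
        (lt_trans hlt hT2) (by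
          calc Fix (stabFam W T') N₁ N₂ ≤ Fix (stabFam W T) N₁ N₂ := Fix_anti hsub N₁ N₂
            _ = T' := hT'.symm)
      exact ⟨T'', hcl, hle.trans hlt.le, hsub.trans hsub'⟩

theorem exists_minClosed [FiniteDimensional k M] {W : Set (Subgroup GLM)} {N₁ N₂ : Submodule k M} :
    ∀ d : ℕ, ∀ T : Submodule k M, Module.finrank k T ≤ d → Closed W N₁ N₂ T →
      ∃ T₀, MinClosed W N₁ N₂ T₀ ∧ T₀ ≤ T := by
  intro d
  induction d using Nat.strong_induction_on with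
  | _ d ih =>
    intro T hd hT
    by_cases hmin : ∀ T', Closed W N₁ N₂ T' → T' ≤ T → T' = T
    · exact ⟨T, ⟨hT, hmin⟩, le_rfl⟩
    · push Not at hmin
      obtain ⟨T', hT', hle, hne⟩ := hmin
      have hlt : T' < T := lt_of_le_of_ne hle hne
      have hfr := Submodule.finrank_lt_finrank_of_lt hlt
      obtain ⟨T₀, hT₀, hle₀⟩ := ih (Module.finrank k T') (by omega) T' le_rfl hT'
      exact ⟨T₀, hT₀, hle₀.trans hle⟩

theorem exists_min [FiniteDimensional k M] {W : Set (Subgroup GLM)} {N₁ N₂ : Submodule k M}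
    (hyp : Hyp W N₁ N₂)
    (hI : ∀ T, N₁ < T → T < N₂ → RelUnip (⨆ A ∈ stabFam W T, A) N₁ N₂)
    (T : Submodule k M) (hT1 : N₁ < T) (hT2 : T < N₂) (hFT : Fix (stabFam W T) N₁ N₂ ≤ T) :
    ∃ T₁, MinClosed W N₁ N₂ T₁ ∧ stabFam W T ⊆ stabFam W T₁ := by
  obtain ⟨T', hcl, hle, hsub⟩ := exists_closed hyp hI _ T le_rfl hT1 hT2 hFT
  obtain ⟨T₀, hT₀, hle₀⟩ := exists_minClosed (W := W) (N₁ := N₁) (N₂ := N₂) _ T' le_rfl hcl
  exact ⟨T₀, hT₀, hsub.trans (closed_stab_mono hcl hT₀.1.1.le hle₀)⟩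

end Cfsg.Agent.helper29.Unip
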