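import Mathlib
import Cfsg.Agent.Lib_helper29_Unip3

set_option autoImplicit false
set_option linter.unusedSectionVars false
set_option linter.unusedVariables false

namespace Cfsg.Agent.helper29.Unip

open Cfsg

variable {k : Type*} [Field k] {M : Type*} [AddCommGroup M] [Module k M]

local notation "GLM" => LinearMap.GeneralLinearGroup k M

/-- a family with a proper nonzero fixed space lies in the stabilising family of a minimal closed
subspace -/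
theorem family_min [FiniteDimensional k M] {W : Set (Subgroup GLM)} {N₁ N₂ : Submodule k M}
    (hyp : Hyp W N₁ N₂)
    (hI : ∀ T, N₁ < T → T < N₂ → RelUnip (⨆ A ∈ stabFam W T, A) N₁ N₂)
    (Γ : Set (Subgroup GLM)) (hΓ : Γ ⊆ W) (h1 : N₁ < Fix Γ N₁ N₂) (h2 : Fix Γ N₁ N₂ < N₂) :
    ∃ T, MinClosed W N₁ N₂ T ∧ Γ ⊆ stabFam W T := by
  have hsub : Γ ⊆ stabFam W (Fix Γ N₁ N₂) := fun A hA =>
    ⟨hΓ hA, mem_le_stab_Fix Γ N₁ N₂ (fun A hA => hyp.pres1 A (hΓ hA)) (fun A hA => hyp.pres2 A (hΓ hA)) A hA⟩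
  obtain ⟨T, hT, hsub'⟩ := exists_min hyp hI _ h1 h2 (Fix_anti hsub N₁ N₂)
  exact ⟨T, hT, hsub.trans hsub'⟩

theorem c6a [FiniteDimensional k M] {W : Set (Subgroup GLM)} {N₁ N₂ : Submodule k M}
    (T₁ T' S : Submodule k M) (n₀ : ℕ)
    (hS : Module.finrank k S = n₀)
    (hmin : T₁ ≠ T' → n₀ ≤ Module.finrank k (Fix (stabFam W T₁ ∩ stabFam W T') N₁ N₂))
    (X : Subgroup GLM) (hX1 : X ∈ stabFam W T₁) (hX' : X ∈ stabFam W T')
    (hXS : ¬ ∀ a ∈ X, ∀ s ∈ S, hat a s ∈ N₁)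
    (hle : Fix (stabFam W T₁ ∩ stabFam W T') N₁ N₂ ≤ S) : T₁ = T' := by
  by_contra hne
  have h := hmin hne
  have hne' : Fix (stabFam W T₁ ∩ stabFam W T') N₁ N₂ ≠ S := by
    intro heq
    apply hXS
    intro a ha s hs
    rw [← heq] at hs
    exact hs.2 X ⟨hX1, hX'⟩ a ha
  have hfr := Submodule.finrank_lt_finrank_of_lt (lt_of_le_of_ne hle hne')
  omega

/-- the irreducible case: every member acts trivially -/
theorem core [FiniteDimensional k M] {W : Set (Subgroup GLM)} {N₁ N₂ : Submodule k M}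
    (hyp : Hyp W N₁ N₂) (hlt : N₁ < N₂)
    (hI : ∀ T, N₁ < T → T < N₂ → RelUnip (⨆ A ∈ stabFam W T, A) N₁ N₂)
    (hirr : ∀ T, N₁ < T → T < N₂ → ∃ A ∈ W, ¬ A ≤ stabSub T) :
    ∀ A ∈ W, A ≤ trivSub N₁ N₂ := by
  classical
  by_contra hcon
  push Not at hcon
  obtain ⟨A₀, hA₀, hA₀n⟩ := hcon
  -- a nontrivial member lies in the stabilising family of a minimal closed subspace
  have nontriv_min : ∀ A ∈ W, ¬ A ≤ trivSub N₁ N₂ → ∃ T, MinClosed W N₁ N₂ T ∧ A ∈ stabFam W T := by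
    intro A hA hAn
    have hU : RelUnip A N₁ N₂ := by
      have := hyp.pair A hA A hA
      rwa [sup_idem] at this
    obtain ⟨v, hv2, hv1, hvfix⟩ := exists_fixed (hyp.pres1 A hA) (hyp.pres2 A hA) hU hlt
    have h1 : N₁ < Fix {A} N₁ N₂ := by
      rw [SetLike.lt_iff_le_and_exists]
      refine ⟨le_Fix hyp.le (fun B hB => by rw [Set.mem_singleton_iff.mp hB]; exact hyp.pres1 A hA), v, ?_, hv1⟩
      refine ⟨hv2, fun B hB a ha => ?_⟩
      rw [Set.mem_singleton_iff.mp hB] at ha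
      exact hvfix a ha
    have h2 : Fix {A} N₁ N₂ < N₂ := by
      refine lt_of_le_of_ne (Fix_le _ _ _) fun heq => hAn fun a ha => ⟨hyp.pres1 A hA ha, fun v hv => ?_⟩
      rw [← heq] at hv
      exact hv.2 A rfl a ha
    obtain ⟨T, hT, hsub⟩ := family_min hyp hI {A} (by rintro B hB; rw [Set.mem_singleton_iff.mp hB]; exact hA)
      h1 h2
    exact ⟨T, hT, hsub rfl⟩
  -- two different minimal closed subspaces
  obtain ⟨Ta, hTa, hA₀Ta⟩ := nontriv_min A₀ hA₀ hA₀n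
  obtain ⟨B, hB, hBn⟩ := hirr Ta hTa.1.1 hTa.1.2.1
  have hBnt : ¬ B ≤ trivSub N₁ N₂ := by
    intro hBt
    apply hBn
    exact cent_le_stab hTa.1.1.le fun b hb v hv => (hBt hb).2 v (hTa.1.2.1.le hv)
  obtain ⟨Tb, hTb, hBTb⟩ := nontriv_min B hB hBnt
  have hab : Ta ≠ Tb := by
    intro heq
    rw [← heq] at hBTb
    exact hBn hBTb.2
  -- choose a pair minimising the dimension of the common fixed space
  have hQ : ∃ n : ℕ, ∃ T₁ T₂ : Submodule k M, MinClosed W N₁ N₂ T₁ ∧ MinClosed W N₁ N₂ T₂ ∧ T₁ ≠ T₂ ∧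
      Module.finrank k (Fix (stabFam W T₁ ∩ stabFam W T₂) N₁ N₂) = n := ⟨_, Ta, Tb, hTa, hTb, hab, rfl⟩
  obtain ⟨n₀, hn₀⟩ : ∃ n₀, n₀ = Nat.find hQ := ⟨_, rfl⟩
  have hspec := Nat.find_spec hQ
  rw [← hn₀] at hspec
  obtain ⟨T₁, T₂, hT₁, hT₂, h12, hfr⟩ := hspec
  have hmin : ∀ T T' : Submodule k M, MinClosed W N₁ N₂ T → MinClosed W N₁ N₂ T' → T ≠ T' →
      n₀ ≤ Module.finrank k (Fix (stabFam W T ∩ stabFam W T') N₁ N₂) := by
    intro T T' hT hT' hne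
    rw [hn₀]
    exact Nat.find_min' hQ ⟨T, T', hT, hT', hne, rfl⟩
  obtain ⟨Δ, hΔdef⟩ : ∃ Δ, Δ = stabFam W T₁ ∩ stabFam W T₂ := ⟨_, rfl⟩
  obtain ⟨S, hSdef⟩ : ∃ S, S = Fix Δ N₁ N₂ := ⟨_, rfl⟩
  rw [← hΔdef, ← hSdef] at hfr
  have hT1S : T₁ ≤ S := by
    intro v hv
    rw [hSdef]
    refine ⟨hT₁.1.2.1.le hv, fun A hA a ha => ?_⟩
    rw [hΔdef] at hA
    exact (closed_mem_iff hT₁.1 hA.1.1).mp hA.1 a ha v hv
  have hT2S : T₂ ≤ S := by
    intro v hv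
    rw [hSdef]
    refine ⟨hT₂.1.2.1.le hv, fun A hA a ha => ?_⟩
    rw [hΔdef] at hA
    exact (closed_mem_iff hT₂.1 hA.2.1).mp hA.2 a ha v hv
  have hΔ1 : ∀ A, A ∈ Δ ↔ A ∈ stabFam W T₁ ∧ ∀ a ∈ A, ∀ s ∈ S, hat a s ∈ N₁ := by
    intro A
    constructor
    · intro hA
      refine ⟨(hΔdef ▸ hA : A ∈ stabFam W T₁ ∩ stabFam W T₂).1, fun a ha s hs => ?_⟩
      rw [hSdef] at hs
      exact hs.2 A hA a ha
    · rintro ⟨hA1, hA2⟩
      rw [hΔdef]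
      exact ⟨hA1, (closed_mem_iff hT₂.1 hA1.1).mpr fun a ha v hv => hA2 a ha v (hT2S hv)⟩
  have hΔ2 : ∀ A, A ∈ Δ ↔ A ∈ stabFam W T₂ ∧ ∀ a ∈ A, ∀ s ∈ S, hat a s ∈ N₁ := by
    intro A
    constructor
    · intro hA
      refine ⟨(hΔdef ▸ hA : A ∈ stabFam W T₁ ∩ stabFam W T₂).2, fun a ha s hs => ?_⟩
      rw [hSdef] at hs
      exact hs.2 A hA a ha
    · rintro ⟨hA1, hA2⟩
      rw [hΔdef]
      exact ⟨(closed_mem_iff hT₁.1 hA1.1).mpr fun a ha v hv => hA2 a ha v (hT1S hv), hA1⟩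
  -- members outside the intersection
  have hX₀ : ∃ X₀ ∈ stabFam W T₁, X₀ ∉ Δ := by
    by_contra hall
    push Not at hall
    apply h12
    symm
    apply hT₁.2 T₂ hT₂.1
    calc T₂ = Fix (stabFam W T₂) N₁ N₂ := hT₂.1.2.2.symm
      _ ≤ Fix (stabFam W T₁) N₁ N₂ := Fix_anti (fun A hA => ((hΔdef ▸ hall A hA :
          A ∈ stabFam W T₁ ∩ stabFam W T₂)).2) N₁ N₂
      _ = T₁ := hT₁.1.2.2
  have hY₀ : ∃ Y₀ ∈ stabFam W T₂, Y₀ ∉ Δ := by
    by_contra hall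
    push Not at hall
    apply h12
    apply hT₂.2 T₁ hT₁.1
    calc T₁ = Fix (stabFam W T₁) N₁ N₂ := hT₁.1.2.2.symm
      _ ≤ Fix (stabFam W T₂) N₁ N₂ := Fix_anti (fun A hA => ((hΔdef ▸ hall A hA :
          A ∈ stabFam W T₁ ∩ stabFam W T₂)).1) N₁ N₂
      _ = T₂ := hT₂.1.2.2
  obtain ⟨X₀, hX₀Λ, hX₀Δ⟩ := hX₀
  obtain ⟨Y₀, hY₀Λ, hY₀Δ⟩ := hY₀
  have hSle : S ≤ N₂ := hSdef ▸ Fix_le _ _ _
  have hN1S : N₁ < S := lt_of_lt_of_le hT₁.1.1 hT1S
  -- the final step, given suitable X, Y and a minimal closed subspace containing them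
  have final : ∀ (X Y : Subgroup GLM) (T' : Submodule k M), X ∈ stabFam W T₁ → X ∉ Δ → Y ∈ stabFam W T₂ →
      Y ∉ Δ → MinClosed W N₁ N₂ T' → X ∈ stabFam W T' → Y ∈ stabFam W T' →
      Fix (stabFam W T₁ ∩ stabFam W T') N₁ N₂ ≤ S → Fix (stabFam W T₂ ∩ stabFam W T') N₁ N₂ ≤ S → False := by
    intro X Y T' hX1 hXΔ hY2 hYΔ hT' hXT' hYT' hle1 hle2
    have e1 : T₁ = T' := c6a T₁ T' S n₀ hfr (hmin T₁ T' hT₁ hT') X hX1 hXT'
      (fun h => hXΔ ((hΔ1 X).mpr ⟨hX1, h⟩)) hle1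
    have e2 : T₂ = T' := c6a T₂ T' S n₀ hfr (hmin T₂ T' hT₂ hT') Y hY2 hYT'
      (fun h => hYΔ ((hΔ2 Y).mpr ⟨hY2, h⟩)) hle2
    exact h12 (e1.trans e2.symm)
  rcases eq_or_lt_of_le hSle with hSeq | hSlt
  · -- the common fixed space is everything
    obtain ⟨Γ, hΓdef⟩ : ∃ Γ : Set (Subgroup GLM), Γ = {X₀, Y₀} := ⟨_, rfl⟩
    have hΓW : Γ ⊆ W := by
      rw [hΓdef]
      rintro A (rfl | rfl)
      · exact hX₀Λ.1
      · exact hY₀Λ.1
    have hXY1 : X₀ ⊔ Y₀ ≤ stabSub N₁ := sup_le (hyp.pres1 _ hX₀Λ.1) (hyp.pres1 _ hY₀Λ.1)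
    have hXY2 : X₀ ⊔ Y₀ ≤ stabSub N₂ := sup_le (hyp.pres2 _ hX₀Λ.1) (hyp.pres2 _ hY₀Λ.1)
    obtain ⟨v, hv2, hv1, hvfix⟩ := exists_fixed hXY1 hXY2 (hyp.pair _ hX₀Λ.1 _ hY₀Λ.1) hlt
    have h1 : N₁ < Fix Γ N₁ N₂ := by
      rw [SetLike.lt_iff_le_and_exists]
      refine ⟨le_Fix hyp.le (fun A hA => hyp.pres1 A (hΓW hA)), v, ⟨hv2, ?_⟩, hv1⟩
      rw [hΓdef]
      rintro A (rfl | rfl) a ha
      · exact hvfix a (le_sup_left (a := A) (b := Y₀) ha)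
      · exact hvfix a (le_sup_right (a := X₀) (b := A) ha)
    have h2 : Fix Γ N₁ N₂ < N₂ := by
      refine lt_of_le_of_ne (Fix_le _ _ _) fun heq => hX₀Δ ((hΔ1 X₀).mpr ⟨hX₀Λ, fun a ha s hs => ?_⟩)
      have hs' : s ∈ Fix Γ N₁ N₂ := by rw [heq]; exact hSle hs
      exact hs'.2 X₀ (by rw [hΓdef]; exact Set.mem_insert _ _) a ha
    obtain ⟨T', hT', hsub⟩ := family_min hyp hI Γ hΓW h1 h2
    have hXT' : X₀ ∈ stabFam W T' := hsub (by rw [hΓdef]; exact Set.mem_insert _ _)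
    have hYT' : Y₀ ∈ stabFam W T' := hsub (by rw [hΓdef]; exact Set.mem_insert_of_mem _ rfl)
    exact final X₀ Y₀ T' hX₀Λ hX₀Δ hY₀Λ hY₀Δ hT' hXT' hYT' (hSeq ▸ Fix_le _ _ _) (hSeq ▸ Fix_le _ _ _)
  · -- the common fixed space is proper: normaliser growth
    obtain ⟨X, hXΛ, hXΔ, hXS⟩ := star hyp T₁ (hI T₁ hT₁.1.1 hT₁.1.2.1) S hSle Δ hΔ1 hSdef.symm X₀ hX₀Λ hX₀Δ
    obtain ⟨Y, hYΛ, hYΔ, hYS⟩ := star hyp T₂ (hI T₂ hT₂.1.1 hT₂.1.2.1) S hSle Δ hΔ2 hSdef.symm Y₀ hY₀Λ hY₀Δ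
    have hΔS : Δ ⊆ stabFam W S := fun A hA =>
      ⟨((hΔ1 A).mp hA).1.1, cent_le_stab hN1S.le ((hΔ1 A).mp hA).2⟩
    have hFS : Fix (stabFam W S) N₁ N₂ ≤ S := by
      have := Fix_anti hΔS N₁ N₂
      rwa [← hSdef] at this
    obtain ⟨T', hT', hsub⟩ := exists_min hyp hI S hN1S hSlt hFS
    have hXT' : X ∈ stabFam W T' := hsub ⟨hXΛ.1, hXS⟩
    have hYT' : Y ∈ stabFam W T' := hsub ⟨hYΛ.1, hYS⟩
    have hsub1 : Δ ⊆ stabFam W T₁ ∩ stabFam W T' := fun A hA => ⟨((hΔ1 A).mp hA).1, hsub (hΔS hA)⟩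
    have hsub2 : Δ ⊆ stabFam W T₂ ∩ stabFam W T' := fun A hA => ⟨((hΔ2 A).mp hA).1, hsub (hΔS hA)⟩
    have hle1 := Fix_anti hsub1 N₁ N₂
    have hle2 := Fix_anti hsub2 N₁ N₂
    rw [← hSdef] at hle1 hle2
    exact final X Y T' hXΛ hXΔ hYΛ hYΔ hT' hXT' hYT' hle1 hle2

theorem le_trivSub_relUnip {H : Subgroup GLM} {N₁ N₂ : Submodule k M} (h : H ≤ trivSub N₁ N₂) :
    RelUnip H N₁ N₂ := by
  refine ⟨1, fun l hl hlen v hv => ?_⟩
  obtain ⟨g, rfl⟩ := List.length_eq_one_iff.mp hlen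
  rw [hprod_singleton]
  exact (h (hl g (List.mem_singleton_self g))).2 v hv

theorem relUnip_of_eq (H : Subgroup GLM) {N₁ N₂ : Submodule k M} (h : N₁ = N₂) : RelUnip H N₁ N₂ := by
  refine ⟨0, fun l hl hlen v hv => ?_⟩
  rw [List.length_eq_zero_iff.mp hlen, hprod_nil, h]
  exact hv

/-- the main theorem in relative form -/
theorem main_rel [FiniteDimensional k M] : ∀ d : ℕ, ∀ (N₁ N₂ : Submodule k M) (W : Set (Subgroup GLM)),
    Hyp W N₁ N₂ → Module.finrank k N₂ ≤ Module.finrank k N₁ + d → RelUnip (⨆ A ∈ W, A) N₁ N₂ := by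
  intro d
  induction d with
  | zero =>
    intro N₁ N₂ W hyp hd
    exact relUnip_of_eq _ (Submodule.eq_of_le_of_finrank_le hyp.le (by omega))
  | succ d ih =>
    intro N₁ N₂ W hyp hd
    rcases eq_or_lt_of_le hyp.le with heq | hlt
    · exact relUnip_of_eq _ heq
    · by_cases hred : ∃ T, N₁ < T ∧ T < N₂ ∧ ∀ A ∈ W, A ≤ stabSub T
      · obtain ⟨T, h1, h2, hT⟩ := hred
        have f1 := Submodule.finrank_lt_finrank_of_lt h1
        have f2 := Submodule.finrank_lt_finrank_of_lt h2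
        have r1 := ih N₁ T W (hyp.left T h1.le h2.le hT) (by omega)
        have r2 := ih T N₂ W (hyp.right T h1.le h2.le hT) (by omega)
        exact r1.trans r2
      · push Not at hred
        have hI : ∀ T, N₁ < T → T < N₂ → RelUnip (⨆ A ∈ stabFam W T, A) N₁ N₂ := by
          intro T h1 h2
          have f1 := Submodule.finrank_lt_finrank_of_lt h1
          have f2 := Submodule.finrank_lt_finrank_of_lt h2
          have hΛ := hyp.stabFam T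
          have r1 := ih N₁ T (stabFam W T) (hΛ.left T h1.le h2.le (fun A hA => hA.2)) (by omega)
          have r2 := ih T N₂ (stabFam W T) (hΛ.right T h1.le h2.le (fun A hA => hA.2)) (by omega)
          exact r1.trans r2
        have := core hyp hlt hI (fun T h1 h2 => hred T h1 h2)
        exact le_trivSub_relUnip (iSup₂_le this)

/-- the statement: a conjugation-invariant family of subgroups, any two of which generate a unipotent
group, generates a unipotent normal subgroup -/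
theorem main [FiniteDimensional k M] {G : Subgroup GLM} {W : Set (Subgroup GLM)} (hWG : ∀ A ∈ W, A ≤ G)
    (hWW : ∀ A ∈ W, ∀ B ∈ W, Cfsg.IsUnipotentOn (A ⊔ B))
    (hWconj : ∀ A ∈ W, ∀ g ∈ G, Cfsg.conjBy A g ∈ W) :
    Cfsg.IsUnipotentOn (⨆ A ∈ W, A) ∧ ∀ g ∈ G, Cfsg.conjBy (⨆ A ∈ W, A) g = ⨆ A ∈ W, A := by
  constructor
  · rw [isUnipotentOn_iff]
    apply main_rel (Module.finrank k M) ⊥ ⊤ W
    · refine ⟨bot_le, fun A hA => ?_, fun A hA => ?_, fun A hA B hB b hb => hWconj A hA b (hWG B hB hb),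
        fun A hA B hB => (isUnipotentOn_iff _).mp (hWW A hA B hB)⟩
      · apply le_stabSub_of
        intro g hg v hv
        rw [Submodule.mem_bot] at hv ⊢
        rw [hv, map_zero]
      · apply le_stabSub_of
        intro g hg v hv
        exact Submodule.mem_top
    · rw [finrank_top]
      omega
  · intro g hg
    apply le_antisymm
    · intro x hx
      obtain ⟨y, hy, rfl⟩ := mem_conjBy.mp hx
      have hle : (⨆ A ∈ W, A) ≤ (⨆ A ∈ W, A).comap (MulAut.conj g).toMonoidHom := by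
        refine iSup₂_le fun A hA a ha => ?_
        rw [Subgroup.mem_comap]
        exact le_iSup₂ (f := fun (A : Subgroup GLM) (_ : A ∈ W) => A) _ (hWconj A hA g hg)
          (conj_mem_conjBy ha g)
      exact hle hy
    · refine iSup₂_le fun A hA a ha => ?_
      rw [mem_conjBy]
      refine ⟨g⁻¹ * a * g, ?_, by group⟩
      exact le_iSup₂ (f := fun (A : Subgroup GLM) (_ : A ∈ W) => A) _ (hWconj A hA g⁻¹ (G.inv_mem hg))
        (conj_inv_mem ha g)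

end Cfsg.Agent.helper29.Unip
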