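import Mathlib
import Cfsg.Prelude.Def_LieExceptional

set_option autoImplicit false

namespace Cfsg.Agent.helper2.BN

open Cfsg DoubleCoset

variable {G : Type*} [Group G] (P : Cfsg.BNPair G)

/-- The double coset `B n B`. -/
def C (n : G) : Set G := doubleCoset n (P.B : Set G) P.B

theorem mem_C {n g : G} : g ∈ C P n ↔ ∃ b ∈ P.B, ∃ b' ∈ P.B, g = b * n * b' := by
  unfold C
  rw [mem_doubleCoset]
  rfl

theorem self_mem_C (n : G) : n ∈ C P n := mem_C P |>.mpr ⟨1, P.B.one_mem, 1, P.B.one_mem, by simp⟩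

theorem C_eq_of_mem {n g : G} (h : g ∈ C P n) : C P g = C P n :=
  doubleCoset_eq_of_mem h

theorem mul_mem_C_left {n g b : G} (hb : b ∈ P.B) (h : g ∈ C P n) : b * g ∈ C P n := by
  obtain ⟨b1, hb1, b2, hb2, rfl⟩ := (mem_C P).mp h
  exact (mem_C P).mpr ⟨b * b1, P.B.mul_mem hb hb1, b2, hb2, by group⟩

theorem mul_mem_C_right {n g b : G} (hb : b ∈ P.B) (h : g ∈ C P n) : g * b ∈ C P n := by
  obtain ⟨b1, hb1, b2, hb2, rfl⟩ := (mem_C P).mp h
  exact (mem_C P).mpr ⟨b1, hb1, b2 * b, P.B.mul_mem hb2 hb, by group⟩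

/-- `T = B ⊓ N`. -/
def T : Subgroup G := P.B ⊓ P.N

theorem T_le_B : T P ≤ P.B := inf_le_left
theorem T_le_N : T P ≤ P.N := inf_le_right

theorem T_conj {n t : G} (hn : n ∈ P.N) (ht : t ∈ T P) : n * t * n⁻¹ ∈ T P :=
  ⟨P.conj_mem n hn t ht, P.N.mul_mem (P.N.mul_mem hn ht.2) (P.N.inv_mem hn)⟩

theorem T_conj' {n t : G} (hn : n ∈ P.N) (ht : t ∈ T P) : n⁻¹ * t * n ∈ T P := by
  have := T_conj P (P.N.inv_mem hn) ht
  rwa [inv_inv] at this

theorem S_mem_N {s : G} (hs : s ∈ P.S) : s ∈ P.N := P.subset hs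

theorem S_sq_mem_T {s : G} (hs : s ∈ P.S) : s * s ∈ T P :=
  ⟨P.sq_mem s hs, P.N.mul_mem (S_mem_N P hs) (S_mem_N P hs)⟩

theorem S_inv_sq_mem_B {s : G} (hs : s ∈ P.S) : s⁻¹ * s⁻¹ ∈ P.B := by
  have h := P.B.inv_mem (P.sq_mem s hs)
  rwa [mul_inv_rev] at h

theorem closure_le_N {J : Set G} (hJ : J ⊆ P.S) : Subgroup.closure J ≤ P.N := by
  rw [Subgroup.closure_le]
  exact fun s hs => P.subset (hJ hs)

/-- T3 in the form: `s * g ∈ C (s n) ∪ C n` for `g ∈ C n`. -/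
theorem S_mul_mem {s n g : G} (hs : s ∈ P.S) (hn : n ∈ P.N) (hg : g ∈ C P n) :
    s * g ∈ C P (s * n) ∪ C P n := by
  obtain ⟨b1, hb1, b2, hb2, rfl⟩ := (mem_C P).mp hg
  have h := P.mul_mem_union s hs n hn b1 hb1
  rcases h with h | h
  · left
    have := mul_mem_C_right P hb2 h
    convert this using 1
    group
  · right
    have := mul_mem_C_right P hb2 h
    convert this using 1
    group

/-- The union of the double cosets `B n B`, `n ∈ ⟨J⟩`. -/
def X (J : Set G) : Set G := {g | ∃ n ∈ Subgroup.closure J, g ∈ C P n}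

theorem X_mul_B {J : Set G} {b g : G} (hb : b ∈ P.B) (hg : g ∈ X P J) : b * g ∈ X P J := by
  obtain ⟨n, hn, hg⟩ := hg
  exact ⟨n, hn, mul_mem_C_left P hb hg⟩

theorem X_mul_S {J : Set G} (hJ : J ⊆ P.S) {s g : G} (hs : s ∈ J) (hg : g ∈ X P J) :
    s * g ∈ X P J := by
  obtain ⟨n, hn, hg⟩ := hg
  rcases S_mul_mem P (hJ hs) (closure_le_N P hJ hn) hg with h | h
  · exact ⟨s * n, (Subgroup.closure J).mul_mem (Subgroup.subset_closure hs) hn, h⟩
  · exact ⟨n, hn, h⟩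

theorem X_mul_S_inv {J : Set G} (hJ : J ⊆ P.S) {s g : G} (hs : s ∈ J) (hg : g ∈ X P J) :
    s⁻¹ * g ∈ X P J := by
  have h1 : s⁻¹ * g = s * ((s⁻¹ * s⁻¹) * g) := by group
  rw [h1]
  exact X_mul_S P hJ hs (X_mul_B P (S_inv_sq_mem_B P (hJ hs)) hg)

theorem one_mem_X (J : Set G) : (1 : G) ∈ X P J :=
  ⟨1, (Subgroup.closure J).one_mem, self_mem_C P 1⟩

/-- The parabolic subgroup `⟨B, J⟩` is contained in `B ⟨J⟩ B`. -/
theorem parabolic_subset_X {J : Set G} (hJ : J ⊆ P.S) {g : G} (hg : g ∈ P.parabolic J) :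
    g ∈ X P J := by
  have key : ∀ h ∈ P.parabolic J, (∀ x ∈ X P J, h * x ∈ X P J) ∧ (∀ x ∈ X P J, h⁻¹ * x ∈ X P J) := by
    intro h hh
    unfold BNPair.parabolic at hh
    rw [← Subgroup.closure_eq P.B, ← Subgroup.closure_union] at hh
    induction hh using Subgroup.closure_induction with
    | mem y hy =>
      rcases hy with hy | hy
      · exact ⟨fun x hx => X_mul_B P hy hx, fun x hx => X_mul_B P (P.B.inv_mem hy) hx⟩
      · exact ⟨fun x hx => X_mul_S P hJ hy hx, fun x hx => X_mul_S_inv P hJ hy hx⟩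
    | one => exact ⟨fun x hx => by simpa using hx, fun x hx => by simpa using hx⟩
    | mul a b _ _ iha ihb =>
      refine ⟨fun x hx => ?_, fun x hx => ?_⟩
      · rw [mul_assoc]
        exact iha.1 _ (ihb.1 x hx)
      · rw [mul_inv_rev, mul_assoc]
        exact ihb.2 _ (iha.2 x hx)
    | inv a _ iha =>
      exact ⟨iha.2, fun x hx => by rw [inv_inv]; exact iha.1 x hx⟩
  have := (key g hg).1 1 (one_mem_X P J)
  simpa using this

theorem B_le_parabolic (J : Set G) : P.B ≤ P.parabolic J := le_sup_left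

theorem closure_le_parabolic (J : Set G) : Subgroup.closure J ≤ P.parabolic J := le_sup_right

theorem X_subset_parabolic {J : Set G} {g : G} (hg : g ∈ X P J) : g ∈ P.parabolic J := by
  obtain ⟨n, hn, hg⟩ := hg
  obtain ⟨b1, hb1, b2, hb2, rfl⟩ := (mem_C P).mp hg
  exact (P.parabolic J).mul_mem ((P.parabolic J).mul_mem (B_le_parabolic P J hb1)
    (closure_le_parabolic P J hn)) (B_le_parabolic P J hb2)

theorem mem_parabolic_iff {J : Set G} (hJ : J ⊆ P.S) {g : G} :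
    g ∈ P.parabolic J ↔ ∃ n ∈ Subgroup.closure J, g ∈ C P n :=
  ⟨parabolic_subset_X P hJ, X_subset_parabolic P⟩

theorem parabolic_S_eq_top : P.parabolic P.S = ⊤ := by
  rw [eq_top_iff, ← P.sup_eq_top]
  apply sup_le (B_le_parabolic P P.S)
  rw [← P.closure_sup]
  exact sup_le (closure_le_parabolic P P.S) (inf_le_left.trans (B_le_parabolic P P.S))

/-- Bruhat decomposition, existence. -/
theorem bruhat_exists (g : G) : ∃ n ∈ P.N, g ∈ C P n := by
  have hg : g ∈ P.parabolic P.S := by rw [parabolic_S_eq_top]; trivial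
  obtain ⟨n, hn, h⟩ := parabolic_subset_X P (le_refl _) hg
  exact ⟨n, closure_le_N P (le_refl _) hn, h⟩

end Cfsg.Agent.helper2.BN
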