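import Mathlib

set_option autoImplicit false
set_option linter.unusedSectionVars false

/-! Word length in a group with respect to a set `A` of involutions. -/

namespace Cfsg.Agent.helper2.WL

variable {W : Type*} [Group W] (A : Set W)

/-- `L` is a word in the alphabet `A`. -/
def IsWord (L : List W) : Prop := ∀ a ∈ L, a ∈ A

theorem isWord_nil : IsWord A ([] : List W) := fun _ h => by simp at h

variable {A}

theorem isWord_cons {a : W} {L : List W} : IsWord A (a :: L) ↔ a ∈ A ∧ IsWord A L := by
  unfold IsWord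
  simp

theorem isWord_append {L₁ L₂ : List W} : IsWord A (L₁ ++ L₂) ↔ IsWord A L₁ ∧ IsWord A L₂ := by
  unfold IsWord
  simp only [List.mem_append]
  constructor
  · intro h
    exact ⟨fun a ha => h a (Or.inl ha), fun a ha => h a (Or.inr ha)⟩
  · rintro ⟨h1, h2⟩ a (ha | ha)
    · exact h1 a ha
    · exact h2 a ha

theorem isWord_singleton {a : W} : IsWord A [a] ↔ a ∈ A := by
  unfold IsWord
  simp

theorem isWord_reverse {L : List W} (h : IsWord A L) : IsWord A L.reverse := by
  intro a ha
  exact h a (List.mem_reverse.mp ha)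

theorem IsWord.mono {K : Set W} (hK : K ⊆ A) {L : List W} (h : IsWord K L) : IsWord A L :=
  fun a ha => hK (h a ha)

theorem prod_reverse_of_inv (hinv : ∀ a ∈ A, a * a = 1) {L : List W} (hL : IsWord A L) :
    L.reverse.prod = (L.prod)⁻¹ := by
  induction L with
  | nil => simp
  | cons a L ih =>
    have ha : a ∈ A := (isWord_cons.mp hL).1
    have hL' : IsWord A L := (isWord_cons.mp hL).2
    rw [List.reverse_cons, List.prod_append, ih hL', List.prod_singleton, List.prod_cons, mul_inv_rev]
    congr 1
    exact eq_inv_of_mul_eq_one_left (hinv a ha)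

theorem exists_word_of_mem_closure {K : Set W} (hinv : ∀ a ∈ K, a * a = 1) {w : W}
    (hw : w ∈ Subgroup.closure K) : ∃ L : List W, IsWord K L ∧ L.prod = w := by
  induction hw using Subgroup.closure_induction with
  | mem a ha => exact ⟨[a], isWord_singleton.mpr ha, by simp⟩
  | one => exact ⟨[], isWord_nil K, rfl⟩
  | mul a b _ _ iha ihb =>
    obtain ⟨L1, h1, rfl⟩ := iha
    obtain ⟨L2, h2, rfl⟩ := ihb
    exact ⟨L1 ++ L2, isWord_append.mpr ⟨h1, h2⟩, by simp⟩
  | inv a _ iha =>
    obtain ⟨L, h1, rfl⟩ := iha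
    exact ⟨L.reverse, isWord_reverse h1, prod_reverse_of_inv hinv h1⟩

theorem prod_mem_closure {K : Set W} {L : List W} (hL : IsWord K L) :
    L.prod ∈ Subgroup.closure K :=
  Subgroup.list_prod_mem _ (fun a ha => Subgroup.subset_closure (hL a ha))

variable (A)

/-- `w` can be written as a word of length `k`. -/
def Rep (k : ℕ) (w : W) : Prop := ∃ L : List W, IsWord A L ∧ L.length = k ∧ L.prod = w

/-- The word length. -/
noncomputable def len (w : W) : ℕ := sInf {k | Rep A k w}

/-- `A` is a generating set of involutions. -/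
structure Gen : Prop where
  inv : ∀ a ∈ A, a * a = 1
  gen : Subgroup.closure A = ⊤

/-- Reduced words. -/
def IsReduced (L : List W) : Prop := IsWord A L ∧ len A L.prod = L.length

variable {A}

theorem Gen.inv_eq (h : Gen A) {a : W} (ha : a ∈ A) : a⁻¹ = a :=
  (eq_inv_of_mul_eq_one_left (h.inv a ha)).symm

theorem exists_rep (h : Gen A) (w : W) : ∃ k, Rep A k w := by
  have hw : w ∈ Subgroup.closure A := by rw [h.gen]; trivial
  obtain ⟨L, hL, hp⟩ := exists_word_of_mem_closure h.inv hw
  exact ⟨L.length, L, hL, rfl, hp⟩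

theorem rep_len (h : Gen A) (w : W) : Rep A (len A w) w := Nat.sInf_mem (exists_rep h w)

theorem len_le_of_rep {k : ℕ} {w : W} (hr : Rep A k w) : len A w ≤ k := Nat.sInf_le hr

theorem len_prod_le {L : List W} (hL : IsWord A L) : len A L.prod ≤ L.length :=
  len_le_of_rep ⟨L, hL, rfl, rfl⟩

theorem len_one : len A (1 : W) = 0 :=
  Nat.le_zero.mp (len_le_of_rep ⟨[], isWord_nil A, rfl, rfl⟩)

theorem eq_one_of_len_eq_zero (h : Gen A) {w : W} (hw : len A w = 0) : w = 1 := by
  obtain ⟨L, _, hlen, hprod⟩ := rep_len h w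
  rw [hw] at hlen
  have : L = [] := List.eq_nil_of_length_eq_zero hlen
  subst this
  simpa using hprod.symm

theorem len_mem_le_one {a : W} (ha : a ∈ A) : len A a ≤ 1 :=
  len_le_of_rep ⟨[a], isWord_singleton.mpr ha, rfl, by simp⟩

theorem len_mul_le (h : Gen A) {a : W} (ha : a ∈ A) (w : W) : len A (a * w) ≤ len A w + 1 := by
  obtain ⟨L, hL, hlen, hprod⟩ := rep_len h w
  exact len_le_of_rep ⟨a :: L, isWord_cons.mpr ⟨ha, hL⟩, by simp [hlen], by simp [hprod]⟩

theorem len_le_mul (h : Gen A) {a : W} (ha : a ∈ A) (w : W) : len A w ≤ len A (a * w) + 1 := by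
  have := len_mul_le h ha (a * w)
  rwa [← mul_assoc, h.inv a ha, one_mul] at this

theorem len_mul_right_le (h : Gen A) {a : W} (ha : a ∈ A) (w : W) :
    len A (w * a) ≤ len A w + 1 := by
  obtain ⟨L, hL, hlen, hprod⟩ := rep_len h w
  exact len_le_of_rep ⟨L ++ [a], isWord_append.mpr ⟨hL, isWord_singleton.mpr ha⟩,
    by simp [hlen], by simp [hprod]⟩

theorem len_le_mul_right (h : Gen A) {a : W} (ha : a ∈ A) (w : W) :
    len A w ≤ len A (w * a) + 1 := by
  have := len_mul_right_le h ha (w * a)
  rwa [mul_assoc, h.inv a ha, mul_one] at this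

theorem len_inv (h : Gen A) (w : W) : len A w⁻¹ = len A w := by
  have key : ∀ w : W, len A w⁻¹ ≤ len A w := fun w => by
    obtain ⟨L, hL, hlen, hprod⟩ := rep_len h w
    exact len_le_of_rep ⟨L.reverse, isWord_reverse hL, by simp [hlen],
      by rw [prod_reverse_of_inv h.inv hL, hprod]⟩
  exact le_antisymm (key w) (by simpa using key w⁻¹)

theorem exists_reduced (h : Gen A) (w : W) : ∃ L, IsReduced A L ∧ L.prod = w := by
  obtain ⟨L, hL, hlen, hprod⟩ := rep_len h w
  exact ⟨L, ⟨hL, by rw [hprod, hlen]⟩, hprod⟩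

theorem isReduced_nil : IsReduced A ([] : List W) := ⟨isWord_nil A, by simp [len_one]⟩

theorem IsReduced.tail (h : Gen A) {a : W} {L : List W} (hr : IsReduced A (a :: L)) :
    IsReduced A L := by
  obtain ⟨hw, hlen⟩ := hr
  have ha := (isWord_cons.mp hw).1
  have hL := (isWord_cons.mp hw).2
  refine ⟨hL, le_antisymm (len_prod_le hL) ?_⟩
  have h1 := len_mul_le h ha L.prod
  simp only [List.prod_cons, List.length_cons] at hlen
  omega

theorem IsReduced.init (h : Gen A) {a : W} {L : List W} (hr : IsReduced A (L ++ [a])) :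
    IsReduced A L := by
  obtain ⟨hw, hlen⟩ := hr
  have ha := isWord_singleton.mp (isWord_append.mp hw).2
  have hL := (isWord_append.mp hw).1
  refine ⟨hL, le_antisymm (len_prod_le hL) ?_⟩
  have h1 := len_mul_right_le h ha L.prod
  simp only [List.prod_append, List.prod_singleton, List.length_append, List.length_singleton]
    at hlen
  omega

theorem exists_peel_left (h : Gen A) {w : W} (hw : 0 < len A w) :
    ∃ a ∈ A, ∃ w' : W, w = a * w' ∧ len A w' + 1 = len A w := by
  obtain ⟨L, hL, hprod⟩ := exists_reduced h w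
  cases L with
  | nil =>
    exfalso
    simp only [List.prod_nil] at hprod
    rw [← hprod, len_one] at hw
    exact lt_irrefl _ hw
  | cons a L =>
    have ht := hL.tail h
    refine ⟨a, (isWord_cons.mp hL.1).1, L.prod, by rw [← hprod, List.prod_cons], ?_⟩
    rw [ht.2, ← hprod, hL.2, List.length_cons]

theorem exists_peel_right (h : Gen A) {w : W} (hw : 0 < len A w) :
    ∃ a ∈ A, ∃ w' : W, w = w' * a ∧ len A w' + 1 = len A w := by
  have hw' : 0 < len A w⁻¹ := by rwa [len_inv h]
  obtain ⟨a, ha, w', h1, h2⟩ := exists_peel_left h hw'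
  refine ⟨a, ha, w'⁻¹, ?_, ?_⟩
  · have : w = (a * w')⁻¹ := by rw [← h1, inv_inv]
    rw [this, mul_inv_rev, h.inv_eq ha]
  · rw [len_inv h, h2, len_inv h]

/-- The two abstract inputs from which the exchange and deletion properties follow. -/
structure Exch (A : Set W) : Prop where
  fold : ∀ (w a c : W), a ∈ A → c ∈ A → len A w ≤ len A (a * w) →
    len A (a * w * c) < len A (w * c) → a * w = w * c
  parity : ∀ (w a : W), a ∈ A → len A (a * w) ≠ len A w

theorem exchange (h : Gen A) (hE : Exch A) {a : W} (ha : a ∈ A) :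
    ∀ L : List W, IsReduced A L → len A (a * L.prod) < len A L.prod →
      ∃ (L1 : List W) (c : W) (L2 : List W), L = L1 ++ c :: L2 ∧ a * L1.prod = L1.prod * c := by
  intro L
  induction L using List.reverseRecOn with
  | nil =>
    intro _ hlt
    simp only [List.prod_nil, len_one] at hlt
    exact absurd hlt (Nat.not_lt_zero _)
  | append_singleton L c ih =>
    intro hr hlt
    have hr' := hr.init h
    have hc : c ∈ A := isWord_singleton.mp (isWord_append.mp hr.1).2
    simp only [List.prod_append, List.prod_singleton] at hlt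
    by_cases hcase : len A (a * L.prod) < len A L.prod
    · obtain ⟨L1, c', L2, hL, heq⟩ := ih hr' hcase
      exact ⟨L1, c', L2 ++ [c], by rw [hL]; simp, heq⟩
    · rw [not_lt] at hcase
      have := hE.fold L.prod a c ha hc hcase (by rwa [mul_assoc])
      exact ⟨L, c, [], rfl, this⟩

theorem deletion (h : Gen A) (hE : Exch A) :
    ∀ L : List W, IsWord A L → len A L.prod < L.length →
      ∃ L' : List W, (∀ x ∈ L', x ∈ L) ∧ L'.length < L.length ∧ L'.prod = L.prod := by
  intro L
  induction L with
  | nil =>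
    intro _ hlt
    exact absurd hlt (Nat.not_lt_zero _)
  | cons a L ih =>
    intro hw hlt
    have ha := (isWord_cons.mp hw).1
    have hL := (isWord_cons.mp hw).2
    by_cases hr : len A L.prod = L.length
    · have hlt' : len A (a * L.prod) < len A L.prod := by
        simp only [List.prod_cons, List.length_cons] at hlt
        have := hE.parity L.prod a ha
        omega
      obtain ⟨L1, c, L2, hLeq, heq⟩ := exchange h hE ha L ⟨hL, hr⟩ hlt'
      have hc : c ∈ A := hL c (by rw [hLeq]; simp)
      refine ⟨L1 ++ L2, ?_, ?_, ?_⟩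
      · intro x hx
        rw [hLeq]
        rcases List.mem_append.mp hx with hx | hx
        · simp [hx]
        · simp [hx]
      · rw [hLeq]
        simp
      · rw [hLeq]
        simp only [List.prod_cons, List.prod_append]
        calc L1.prod * L2.prod = L1.prod * (c * c) * L2.prod := by rw [h.inv c hc, mul_one]
          _ = (L1.prod * c) * (c * L2.prod) := by group
          _ = (a * L1.prod) * (c * L2.prod) := by rw [heq]
          _ = a * (L1.prod * (c * L2.prod)) := by group
    · have hlt' : len A L.prod < L.length := lt_of_le_of_ne (len_prod_le hL) hr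
      obtain ⟨L', h1, h2, h3⟩ := ih hL hlt'
      refine ⟨a :: L', ?_, ?_, ?_⟩
      · intro x hx
        rcases List.mem_cons.mp hx with hx | hx
        · simp [hx]
        · simp [h1 x hx]
      · simpa using h2
      · simp [h3]

theorem exists_reduced_of_mem_closure (h : Gen A) (hE : Exch A) {K : Set W} (hK : K ⊆ A) {w : W}
    (hw : w ∈ Subgroup.closure K) : ∃ L : List W, IsWord K L ∧ IsReduced A L ∧ L.prod = w := by
  obtain ⟨L0, hL0, hp0⟩ := exists_word_of_mem_closure (fun a ha => h.inv a (hK ha)) hw
  have key : ∀ k : ℕ, ∀ L : List W, L.length = k → IsWord K L →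
      ∃ L' : List W, IsWord K L' ∧ IsReduced A L' ∧ L'.prod = L.prod := by
    intro k
    induction k using Nat.strong_induction_on with
    | _ k ih =>
      intro L hk hL
      by_cases hr : len A L.prod = L.length
      · exact ⟨L, hL, ⟨hL.mono hK, hr⟩, rfl⟩
      · have hlt : len A L.prod < L.length := lt_of_le_of_ne (len_prod_le (hL.mono hK)) hr
        obtain ⟨L', h1, h2, h3⟩ := deletion h hE L (hL.mono hK) hlt
        obtain ⟨L'', g1, g2, g3⟩ := ih L'.length (by omega) L' rfl (fun x hx => hL x (h1 x hx))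
        exact ⟨L'', g1, g2, by rw [g3, h3]⟩
  obtain ⟨L, h1, h2, h3⟩ := key L0.length L0 rfl hL0
  exact ⟨L, h1, h2, by rw [h3, hp0]⟩

/-- A generator lying in the subgroup generated by `K ⊆ A` lies in `K`. -/
theorem mem_of_mem_closure (h : Gen A) (hE : Exch A) {K : Set W} (hK : K ⊆ A) {a : W}
    (ha : a ∈ A) (ha1 : a ≠ 1) (hw : a ∈ Subgroup.closure K) : a ∈ K := by
  obtain ⟨L, hL, hr, hp⟩ := exists_reduced_of_mem_closure h hE hK hw
  have h1 : len A a ≤ 1 := len_mem_le_one ha
  have h0 : len A a ≠ 0 := fun h0 => ha1 (eq_one_of_len_eq_zero h h0)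
  have hlen : L.length = 1 := by
    have := hr.2
    rw [hp] at this
    omega
  obtain ⟨c, rfl⟩ := List.length_eq_one_iff.mp hlen
  simp only [List.prod_singleton] at hp
  rw [← hp]
  exact isWord_singleton.mp hL

end Cfsg.Agent.helper2.WL
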