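import Mathlib
import Cfsg.Agent.Lib_helper2_BN
import Cfsg.Agent.Lib_helper2_WordLen

set_option autoImplicit false

namespace Cfsg.Agent.helper2.BN

open Cfsg DoubleCoset
open Cfsg.Agent.helper2.WL

variable {G : Type*} [Group G] (P : Cfsg.BNPair G)

/-- `T = B ⊓ N` as a subgroup of `N`. -/
def TN : Subgroup P.N := (T P).subgroupOf P.N

instance TN_normal : (TN P).Normal := by
  constructor
  intro t ht n
  unfold TN at ht ⊢
  rw [Subgroup.mem_subgroupOf] at ht ⊢
  have := T_conj P n.2 ht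
  simpa using this

/-- The Weyl group. -/
abbrev W : Type _ := P.N ⧸ TN P

/-- The projection `N → W`. -/
def pr : P.N →* W P := QuotientGroup.mk' (TN P)

theorem pr_surjective : Function.Surjective (pr P) := QuotientGroup.mk'_surjective _

theorem pr_eq_iff {n n' : P.N} : pr P n = pr P n' ↔ (n : G)⁻¹ * (n' : G) ∈ P.B := by
  unfold pr
  rw [QuotientGroup.mk'_apply, QuotientGroup.mk'_apply, QuotientGroup.eq]
  unfold TN
  rw [Subgroup.mem_subgroupOf]
  constructor
  · intro h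
    have := h.1
    simpa using this
  · intro h
    exact ⟨by simpa using h, (n⁻¹ * n').2⟩

theorem pr_eq_one_iff {n : P.N} : pr P n = 1 ↔ (n : G) ∈ P.B := by
  have := pr_eq_iff P (n := 1) (n' := n)
  rw [map_one] at this
  rw [eq_comm, this]
  simp

/-- The distinguished generators of `W`. -/
def A : Set (W P) := {a | ∃ s : P.N, (s : G) ∈ P.S ∧ pr P s = a}

theorem pr_mem_A {s : P.N} (hs : (s : G) ∈ P.S) : pr P s ∈ A P := ⟨s, hs, rfl⟩

theorem S_not_mem_B {s : G} (hs : s ∈ P.S) : s ∉ P.B := by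
  intro hsB
  apply P.conj_ne s hs
  ext x
  constructor
  · rintro ⟨b, hb, rfl⟩
    exact P.B.mul_mem (P.B.mul_mem hsB hb) hsB
  · intro hx
    refine ⟨s⁻¹ * x * s⁻¹,
      P.B.mul_mem (P.B.mul_mem (P.B.inv_mem hsB) hx) (P.B.inv_mem hsB), ?_⟩
    show s * (s⁻¹ * x * s⁻¹) * s = x
    group

theorem pr_S_ne_one {s : P.N} (hs : (s : G) ∈ P.S) : pr P s ≠ 1 := by
  intro h
  exact S_not_mem_B P hs ((pr_eq_one_iff P).mp h)

theorem pr_S_mul_self {s : P.N} (hs : (s : G) ∈ P.S) : pr P s * pr P s = 1 := by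
  rw [← map_mul, pr_eq_one_iff]
  exact P.sq_mem _ hs

theorem gen_A : Gen (A P) := by
  constructor
  · rintro a ⟨s, hs, rfl⟩
    exact pr_S_mul_self P hs
  · rw [eq_top_iff]
    intro w _
    obtain ⟨n, rfl⟩ := pr_surjective P w
    have hN : P.N ≤ ((Subgroup.closure (A P)).comap (pr P)).map P.N.subtype := by
      conv_lhs => rw [← P.closure_sup]
      apply sup_le
      · rw [Subgroup.closure_le]
        intro s hs
        refine Subgroup.mem_map.mpr ⟨⟨s, P.subset hs⟩, ?_, rfl⟩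
        show pr P ⟨s, P.subset hs⟩ ∈ Subgroup.closure (A P)
        exact Subgroup.subset_closure (pr_mem_A P hs)
      · intro t ht
        refine Subgroup.mem_map.mpr ⟨⟨t, ht.2⟩, ?_, rfl⟩
        show pr P ⟨t, ht.2⟩ ∈ Subgroup.closure (A P)
        have : pr P ⟨t, ht.2⟩ = 1 := (pr_eq_one_iff P).mpr ht.1
        rw [this]
        exact Subgroup.one_mem _
    obtain ⟨n', hn', hnn⟩ := Subgroup.mem_map.mp (hN n.2)
    have : n' = n := Subtype.ext hnn
    rw [← this]
    exact hn'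

theorem pr_S_inv {s : P.N} (hs : (s : G) ∈ P.S) : (pr P s)⁻¹ = pr P s :=
  (gen_A P).inv_eq (pr_mem_A P hs)

/-- The double coset attached to an element of `W`. -/
def Cw (w : W P) : Set G := {g | ∃ n : P.N, pr P n = w ∧ g ∈ C P (n : G)}

theorem Cw_pr (n : P.N) : Cw P (pr P n) = C P (n : G) := by
  ext g
  constructor
  · rintro ⟨n', hn', hg⟩
    have h1 : (n' : G)⁻¹ * n ∈ P.B := (pr_eq_iff P).mp hn'
    have h2 : (n : G) ∈ C P (n' : G) := (mem_C P).mpr ⟨1, P.B.one_mem, _, h1, by group⟩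
    rw [C_eq_of_mem P h2]
    exact hg
  · intro hg
    exact ⟨n, rfl, hg⟩

theorem mem_Cw_pr {n : P.N} {g : G} : g ∈ Cw P (pr P n) ↔ g ∈ C P (n : G) := by rw [Cw_pr]

theorem coe_mem_Cw (n : P.N) : (n : G) ∈ Cw P (pr P n) := (mem_Cw_pr P).mpr (self_mem_C P _)

theorem C_one : C P 1 = (P.B : Set G) := by
  ext g
  rw [mem_C]
  constructor
  · rintro ⟨b, hb, b', hb', rfl⟩
    exact P.B.mul_mem (P.B.mul_mem hb P.B.one_mem) hb'
  · intro hg
    exact ⟨g, hg, 1, P.B.one_mem, by simp⟩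

theorem Cw_one : Cw P 1 = (P.B : Set G) := by
  have := Cw_pr P 1
  rw [map_one] at this
  rw [this, Subgroup.coe_one, C_one]

theorem Cw_eq_C_of_mem {w : W P} {g : G} (h : g ∈ Cw P w) : Cw P w = C P g := by
  obtain ⟨n, rfl, hg⟩ := h
  rw [Cw_pr, C_eq_of_mem P hg]

theorem Cw_eq_of_mem_of_mem {w w' : W P} {g : G} (h : g ∈ Cw P w) (h' : g ∈ Cw P w') :
    Cw P w = Cw P w' := by
  rw [Cw_eq_C_of_mem P h, Cw_eq_C_of_mem P h']

theorem mul_mem_Cw_left {w : W P} {g b : G} (hb : b ∈ P.B) (h : g ∈ Cw P w) :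
    b * g ∈ Cw P w := by
  obtain ⟨n, hn, hg⟩ := h
  exact ⟨n, hn, mul_mem_C_left P hb hg⟩

theorem mul_mem_Cw_right {w : W P} {g b : G} (hb : b ∈ P.B) (h : g ∈ Cw P w) :
    g * b ∈ Cw P w := by
  obtain ⟨n, hn, hg⟩ := h
  exact ⟨n, hn, mul_mem_C_right P hb hg⟩

theorem inv_mem_Cw {w : W P} {g : G} (h : g ∈ Cw P w) : g⁻¹ ∈ Cw P w⁻¹ := by
  obtain ⟨n, rfl, hg⟩ := h
  obtain ⟨b1, hb1, b2, hb2, rfl⟩ := (mem_C P).mp hg
  refine ⟨n⁻¹, map_inv _ _, (mem_C P).mpr ⟨b2⁻¹, P.B.inv_mem hb2, b1⁻¹, P.B.inv_mem hb1, ?_⟩⟩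
  rw [Subgroup.coe_inv]
  group

theorem T3 {s : P.N} (hs : (s : G) ∈ P.S) {w : W P} {g : G} (hg : g ∈ Cw P w) :
    (s : G) * g ∈ Cw P (pr P s * w) ∪ Cw P w := by
  obtain ⟨n, rfl, hg⟩ := hg
  rcases S_mul_mem P hs n.2 hg with h | h
  · left
    rw [← map_mul, Cw_pr]
    exact h
  · right
    rw [Cw_pr]
    exact h

theorem T3_inv {s : P.N} (hs : (s : G) ∈ P.S) {w : W P} {g : G} (hg : g ∈ Cw P w) :
    (s : G)⁻¹ * g ∈ Cw P (pr P s * w) ∪ Cw P w := by
  have h1 : (s : G)⁻¹ * g = s * ((s : G)⁻¹ * (s : G)⁻¹ * g) := by group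
  rw [h1]
  exact T3 P hs (mul_mem_Cw_left P (S_inv_sq_mem_B P hs) hg)

theorem T3_right {t : P.N} (ht : (t : G) ∈ P.S) {w : W P} {g : G} (hg : g ∈ Cw P w) :
    g * (t : G) ∈ Cw P (w * pr P t) ∪ Cw P w := by
  rcases T3_inv P ht (inv_mem_Cw P hg) with h | h
  · left
    have := inv_mem_Cw P h
    simp only [mul_inv_rev, inv_inv] at this
    rwa [pr_S_inv P ht] at this
  · right
    have := inv_mem_Cw P h
    simpa only [mul_inv_rev, inv_inv] using this

theorem T3_right_inv {t : P.N} (ht : (t : G) ∈ P.S) {w : W P} {g : G} (hg : g ∈ Cw P w) :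
    g * (t : G)⁻¹ ∈ Cw P (w * pr P t) ∪ Cw P w := by
  rcases T3 P ht (inv_mem_Cw P hg) with h | h
  · left
    have := inv_mem_Cw P h
    simp only [mul_inv_rev, inv_inv] at this
    rwa [pr_S_inv P ht] at this
  · right
    have := inv_mem_Cw P h
    simpa only [mul_inv_rev, inv_inv] using this

theorem Cw_disjoint_aux : ∀ q : ℕ, ∀ w w' : W P, len (A P) w = q → q ≤ len (A P) w' →
    ∀ g : G, g ∈ Cw P w → g ∈ Cw P w' → w = w' := by
  intro q
  induction q with
  | zero =>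
    intro w w' hw _ g hg hg'
    have hw1 : w = 1 := eq_one_of_len_eq_zero (gen_A P) hw
    subst hw1
    rw [Cw_one] at hg
    obtain ⟨n', rfl, hgn⟩ := hg'
    obtain ⟨b1, hb1, b2, hb2, rfl⟩ := (mem_C P).mp hgn
    have : (n' : G) ∈ P.B := by
      have h := P.B.mul_mem (P.B.mul_mem (P.B.inv_mem hb1) hg) (P.B.inv_mem hb2)
      convert h using 1
      group
    exact ((pr_eq_one_iff P).mpr this).symm
  | succ q ih =>
    intro w w' hw hle g hg hg'
    obtain ⟨a, ha, w'', hww, hlen⟩ := exists_peel_left (gen_A P) (w := w) (by omega)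
    obtain ⟨s, hs, rfl⟩ := ha
    obtain ⟨n'', rfl⟩ := pr_surjective P w''
    have h1 : ((s * n'' : P.N) : G) ∈ Cw P w := by
      rw [hww, ← map_mul]
      exact coe_mem_Cw P _
    rw [Cw_eq_of_mem_of_mem P hg hg'] at h1
    have h2 := T3_inv P hs h1
    have h3 : (s : G)⁻¹ * ((s * n'' : P.N) : G) = n'' := by
      rw [Subgroup.coe_mul]
      group
    rw [h3] at h2
    have h4 := coe_mem_Cw P n''
    rcases h2 with h2 | h2
    · have hl : q ≤ len (A P) (pr P s * w') := by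
        have := len_le_mul (gen_A P) (pr_mem_A P hs) w'
        omega
      have := ih (pr P n'') (pr P s * w') (by omega) hl _ h4 h2
      rw [hww, this, ← mul_assoc, pr_S_mul_self P hs, one_mul]
    · exfalso
      have := ih (pr P n'') w' (by omega) (by omega) _ h4 h2
      rw [this] at hlen
      omega

theorem eq_of_mem_Cw {w w' : W P} {g : G} (hg : g ∈ Cw P w) (hg' : g ∈ Cw P w') : w = w' := by
  rcases le_total (len (A P) w) (len (A P) w') with h | h
  · exact Cw_disjoint_aux P _ w w' rfl h g hg hg'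
  · exact (Cw_disjoint_aux P _ w' w rfl h g hg' hg).symm

/-- Bruhat decomposition, uniqueness. -/
theorem C_eq_iff {n n' : G} (hn : n ∈ P.N) (hn' : n' ∈ P.N) :
    C P n = C P n' ↔ n⁻¹ * n' ∈ P.B := by
  constructor
  · intro h
    have h1 : n' ∈ Cw P (pr P ⟨n, hn⟩) := by
      rw [Cw_pr]
      show n' ∈ C P n
      rw [h]
      exact self_mem_C P n'
    have h2 : n' ∈ Cw P (pr P ⟨n', hn'⟩) := coe_mem_Cw P ⟨n', hn'⟩
    exact (pr_eq_iff P).mp (eq_of_mem_Cw P h1 h2)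
  · intro h
    have : n' ∈ C P n := (mem_C P).mpr ⟨1, P.B.one_mem, n⁻¹ * n', h, by group⟩
    exact (C_eq_of_mem P this).symm

theorem fold_aux {s t : P.N} (hs : (s : G) ∈ P.S) (ht : (t : G) ∈ P.S) {w : W P}
    (hI : ∀ g ∈ Cw P w, (s : G) * g ∈ Cw P (pr P s * w))
    {g : G} (hg : g ∈ Cw P (w * pr P t)) (hsg : (s : G) * g ∈ Cw P (w * pr P t)) :
    pr P s * w = w * pr P t := by
  obtain ⟨n, rfl⟩ := pr_surjective P w
  have hg' : g ∈ C P ((n * t : P.N) : G) := by
    rw [← map_mul, mem_Cw_pr] at hg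
    exact hg
  obtain ⟨b1, hb1, b2, hb2, rfl⟩ := (mem_C P).mp hg'
  have h1 : (s : G) * (b1 * (n : G)) ∈ Cw P (pr P s * pr P n) :=
    hI _ (mul_mem_Cw_left P hb1 (coe_mem_Cw P n))
  have h2 : (s : G) * (b1 * ((n * t : P.N) : G) * b2) * b2⁻¹ ∈ Cw P (pr P n * pr P t) :=
    mul_mem_Cw_right P (P.B.inv_mem hb2) hsg
  have h4 : (s : G) * (b1 * ((n * t : P.N) : G) * b2) * b2⁻¹ * (t : G)⁻¹
      = (s : G) * (b1 * (n : G)) := by
    rw [Subgroup.coe_mul]
    group
  have h3 : (s : G) * (b1 * (n : G)) ∈ Cw P (pr P n) ∪ Cw P (pr P n * pr P t) := by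
    have := T3_right_inv P ht h2
    rw [h4] at this
    have e : pr P n * pr P t * pr P t = pr P n := by
      rw [mul_assoc, pr_S_mul_self P ht, mul_one]
    rwa [e] at this
  rcases h3 with h3 | h3
  · exfalso
    have := eq_of_mem_Cw P h1 h3
    exact pr_S_ne_one P hs (mul_right_cancel (b := pr P n) (by rw [one_mul]; exact this))
  · exact eq_of_mem_Cw P h1 h3

theorem inc_of_le : ∀ q : ℕ, ∀ (w : W P), len (A P) w = q → ∀ (s : P.N), (s : G) ∈ P.S →
    len (A P) w ≤ len (A P) (pr P s * w) →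
    ∀ g ∈ Cw P w, (s : G) * g ∈ Cw P (pr P s * w) := by
  intro q
  induction q with
  | zero =>
    intro w hw s hs _ g hg
    have hw1 := eq_one_of_len_eq_zero (gen_A P) hw
    subst hw1
    rcases T3 P hs hg with h | h
    · exact h
    · exfalso
      rw [Cw_one] at hg h
      apply S_not_mem_B P hs
      have := P.B.mul_mem h (P.B.inv_mem hg)
      simpa using this
  | succ q ih =>
    intro w hw s hs hle g hg
    rcases T3 P hs hg with h | h
    · exact h
    · exfalso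
      obtain ⟨c, hc, w', hww, hlen⟩ := exists_peel_right (gen_A P) (w := w) (by omega)
      obtain ⟨t, ht, rfl⟩ := hc
      subst hww
      have hle' : len (A P) w' ≤ len (A P) (pr P s * w') := by
        have h1 := len_le_mul_right (gen_A P) (pr_mem_A P ht) (pr P s * (w' * pr P t))
        have e : pr P s * (w' * pr P t) * pr P t = pr P s * w' := by
          rw [mul_assoc, mul_assoc, pr_S_mul_self P ht, mul_one]
        rw [e] at h1
        omega
      have hI := ih w' (by omega) s hs hle'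
      have := fold_aux P hs ht hI hg h
      have e2 : pr P s * (w' * pr P t) = w' := by
        rw [← this, ← mul_assoc, pr_S_mul_self P hs, one_mul]
      rw [e2] at hle
      omega

theorem exists_B_conj {s : G} (hs : s ∈ P.S) :
    ∃ b ∈ P.B, ∃ b1 ∈ P.B, ∃ b2 ∈ P.B, s * b * s = b1 * s * b2 := by
  have h1 : ∃ b ∈ P.B, s * b * s ∉ P.B := by
    by_contra hcon
    simp only [not_exists, not_and, not_not] at hcon
    apply P.conj_ne s hs
    ext x
    constructor
    · rintro ⟨b, hb, rfl⟩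
      exact hcon b hb
    · intro hx
      refine ⟨s⁻¹ * x * s⁻¹, ?_, ?_⟩
      · show s⁻¹ * x * s⁻¹ ∈ P.B
        have h2 := hcon x hx
        have h3 := S_inv_sq_mem_B P hs
        have := P.B.mul_mem (P.B.mul_mem h3 h2) h3
        convert this using 1
        group
      · show s * (s⁻¹ * x * s⁻¹) * s = x
        group
  obtain ⟨b, hb, hnot⟩ := h1
  have h2 := P.mul_mem_union s hs s (P.subset hs) b hb
  rcases h2 with h2 | h2
  · exfalso
    apply hnot
    rw [DoubleCoset.mem_doubleCoset] at h2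
    obtain ⟨x, hx, y, hy, he⟩ := h2
    rw [he]
    exact P.B.mul_mem (P.B.mul_mem hx (P.sq_mem s hs)) hy
  · rw [DoubleCoset.mem_doubleCoset] at h2
    obtain ⟨x, hx, y, hy, he⟩ := h2
    exact ⟨b, hb, x, hx, y, hy, he⟩

theorem meet_of_lt {s : P.N} (hs : (s : G) ∈ P.S) {w : W P}
    (hlt : len (A P) (pr P s * w) < len (A P) w) :
    ∃ g ∈ Cw P w, (s : G) * g ∈ Cw P w := by
  have hw : pr P s * (pr P s * w) = w := by rw [← mul_assoc, pr_S_mul_self P hs, one_mul]
  have hI := inc_of_le P _ (pr P s * w) rfl s hs (by rw [hw]; exact hlt.le)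
  rw [hw] at hI
  obtain ⟨b, hb, b1, hb1, b2, hb2, he⟩ := exists_B_conj P hs
  obtain ⟨n', hn'⟩ := pr_surjective P (pr P s * w)
  have hsn : pr P (s * n') = w := by rw [map_mul, hn', hw]
  refine ⟨b * ((s * n' : P.N) : G), ?_, ?_⟩
  · rw [← hsn]
    exact mul_mem_Cw_left P hb (coe_mem_Cw P (s * n'))
  · have e : (s : G) * (b * ((s * n' : P.N) : G)) = b1 * ((s : G) * (b2 * (n' : G))) := by
      rw [Subgroup.coe_mul]
      calc (s : G) * (b * ((s : G) * (n' : G))) = ((s : G) * b * (s : G)) * (n' : G) := by group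
        _ = (b1 * (s : G) * b2) * (n' : G) := by rw [he]
        _ = _ := by group
    rw [e]
    apply mul_mem_Cw_left P hb1
    apply hI
    rw [← hn']
    exact mul_mem_Cw_left P hb2 (coe_mem_Cw P n')

theorem len_ne {s : P.N} (hs : (s : G) ∈ P.S) (w : W P) :
    len (A P) (pr P s * w) ≠ len (A P) w := by
  intro heq
  have hw : pr P s * (pr P s * w) = w := by rw [← mul_assoc, pr_S_mul_self P hs, one_mul]
  have hI1 := inc_of_le P _ w rfl s hs heq.ge
  have hI2 := inc_of_le P _ (pr P s * w) rfl s hs (by rw [hw]; exact heq.le)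
  rw [hw] at hI2
  obtain ⟨b, hb, b1, hb1, b2, hb2, he⟩ := exists_B_conj P hs
  obtain ⟨n, rfl⟩ := pr_surjective P w
  have hx1 : (s : G) * (b * ((s : G) * (n : G))) ∈ Cw P (pr P n) := by
    apply hI2
    apply mul_mem_Cw_left P hb
    exact hI1 _ (coe_mem_Cw P n)
  have hx2 : (s : G) * (b * ((s : G) * (n : G))) ∈ Cw P (pr P s * pr P n) := by
    have e : (s : G) * (b * ((s : G) * (n : G))) = b1 * ((s : G) * (b2 * (n : G))) := by
      calc (s : G) * (b * ((s : G) * (n : G))) = ((s : G) * b * (s : G)) * (n : G) := by group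
        _ = (b1 * (s : G) * b2) * (n : G) := by rw [he]
        _ = _ := by group
    rw [e]
    apply mul_mem_Cw_left P hb1
    apply hI1
    exact mul_mem_Cw_left P hb2 (coe_mem_Cw P n)
  have := eq_of_mem_Cw P hx1 hx2
  exact pr_S_ne_one P hs (mul_right_cancel (b := pr P n) (by rw [one_mul]; exact this.symm))

theorem exch_A : Exch (A P) := by
  constructor
  · rintro w a c ⟨s, hs, rfl⟩ ⟨t, ht, rfl⟩ hle hlt
    have hI := inc_of_le P _ w rfl s hs hle
    rw [mul_assoc] at hlt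
    obtain ⟨g, hg, hsg⟩ := meet_of_lt P hs hlt
    exact fold_aux P hs ht hI hg hsg
  · rintro w a ⟨s, hs, rfl⟩
    exact len_ne P hs w

/-- The image in `W` of a set `J ⊆ S`. -/
def AJ (J : Set G) : Set (W P) := {a | ∃ s : P.N, (s : G) ∈ J ∧ pr P s = a}

theorem AJ_subset {J : Set G} (hJ : J ⊆ P.S) : AJ P J ⊆ A P := by
  rintro a ⟨s, hs, rfl⟩
  exact ⟨s, hJ hs, rfl⟩

theorem pr_mem_closure_AJ {J : Set G} (hJ : J ⊆ P.S) {n : P.N}
    (hn : (n : G) ∈ Subgroup.closure J) : pr P n ∈ Subgroup.closure (AJ P J) := by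
  have hN : Subgroup.closure J ≤ ((Subgroup.closure (AJ P J)).comap (pr P)).map P.N.subtype := by
    rw [Subgroup.closure_le]
    intro s hs
    refine Subgroup.mem_map.mpr ⟨⟨s, P.subset (hJ hs)⟩, ?_, rfl⟩
    show pr P ⟨s, P.subset (hJ hs)⟩ ∈ Subgroup.closure (AJ P J)
    exact Subgroup.subset_closure ⟨⟨s, P.subset (hJ hs)⟩, hs, rfl⟩
  obtain ⟨n', hn', hnn⟩ := Subgroup.mem_map.mp (hN hn)
  have : n' = n := Subtype.ext hnn
  rw [← this]
  exact hn'

/-- A distinguished generator lying in the parabolic `P_J` lies in `J`. -/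
theorem mem_of_mem_parabolic {J : Set G} (hJ : J ⊆ P.S) {s : G} (hs : s ∈ P.S)
    (hsJ : s ∈ P.parabolic J) : s ∈ J := by
  obtain ⟨n, hn, hsn⟩ := (mem_parabolic_iff P hJ).mp hsJ
  have hnN : n ∈ P.N := closure_le_N P hJ hn
  have h1 : s ∈ Cw P (pr P ⟨n, hnN⟩) := (mem_Cw_pr P).mpr hsn
  have h2 : s ∈ Cw P (pr P ⟨s, P.subset hs⟩) := coe_mem_Cw P ⟨s, P.subset hs⟩
  have h3 := eq_of_mem_Cw P h2 h1
  have h4 : pr P ⟨s, P.subset hs⟩ ∈ Subgroup.closure (AJ P J) := by
    rw [h3]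
    exact pr_mem_closure_AJ P hJ hn
  have h5 := mem_of_mem_closure (gen_A P) (exch_A P) (AJ_subset P hJ)
    (pr_mem_A P (s := ⟨s, P.subset hs⟩) hs) (pr_S_ne_one P (s := ⟨s, P.subset hs⟩) hs) h4
  obtain ⟨s', hs', he⟩ := h5
  have h6 := P.inj s' (hJ hs') s hs ((pr_eq_iff P).mp he)
  rw [← h6]
  exact hs'

/-- `Q n = ⟨B, n B n⁻¹⟩`. -/
def Q (n : G) : Subgroup G := P.B ⊔ P.B.map (MulAut.conj n).toMonoidHom

theorem B_le_Q (n : G) : P.B ≤ Q P n := le_sup_left

theorem conj_mem_Q {n b : G} (hb : b ∈ P.B) : n * b * n⁻¹ ∈ Q P n := by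
  have h : P.B.map (MulAut.conj n).toMonoidHom ≤ Q P n := le_sup_right
  exact h (Subgroup.mem_map.mpr ⟨b, hb, by simp [MulAut.conj_apply]⟩)

theorem Q_le {n : G} {H : Subgroup G} (hB : P.B ≤ H) (hn : ∀ b ∈ P.B, n * b * n⁻¹ ∈ H) :
    Q P n ≤ H := by
  apply sup_le hB
  intro x hx
  obtain ⟨b, hb, rfl⟩ := Subgroup.mem_map.mp hx
  simpa [MulAut.conj_apply] using hn b hb

theorem S_mem_Q_of_inc {s n : P.N} (hs : (s : G) ∈ P.S) {w' : W P}
    (hn : pr P n = pr P s * w')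
    (hI : ∀ g ∈ Cw P w', (s : G) * g ∈ Cw P (pr P s * w')) : (s : G) ∈ Q P (n : G) := by
  obtain ⟨b, hb, b1, hb1, b2, hb2, he⟩ := exists_B_conj P hs
  have hn' : pr P (s⁻¹ * n) = w' := by rw [map_mul, hn, map_inv, inv_mul_cancel_left]
  have h1 : (s : G) * b * (n : G) ∈ Cw P (pr P n) := by
    have e : (s : G) * b * (n : G) = b1 * ((s : G) * (b2 * ((s⁻¹ * n : P.N) : G))) := by
      rw [Subgroup.coe_mul, Subgroup.coe_inv]
      calc (s : G) * b * (n : G) = ((s : G) * b * (s : G)) * ((s : G)⁻¹ * (n : G)) := by group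
        _ = (b1 * (s : G) * b2) * ((s : G)⁻¹ * (n : G)) := by rw [he]
        _ = _ := by group
    rw [e, hn]
    apply mul_mem_Cw_left P hb1
    apply hI
    rw [← hn']
    exact mul_mem_Cw_left P hb2 (coe_mem_Cw P _)
  obtain ⟨b3, hb3, b4, hb4, h⟩ := (mem_C P).mp ((mem_Cw_pr P).mp h1)
  have e2 : (s : G) = b3 * ((n : G) * b4 * (n : G)⁻¹) * b⁻¹ := by
    have : (s : G) = ((s : G) * b * (n : G)) * (n : G)⁻¹ * b⁻¹ := by group
    rw [this, h]
    group
  rw [e2]
  exact (Q P n).mul_mem ((Q P n).mul_mem (B_le_Q P _ hb3) (conj_mem_Q P hb4))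
    (B_le_Q P _ (P.B.inv_mem hb))

theorem letters_mem_Q : ∀ (L : List (W P)), IsReduced (A P) L → ∀ n : P.N, pr P n = L.prod →
    ∀ s : P.N, (s : G) ∈ P.S → pr P s ∈ L → (s : G) ∈ Q P (n : G) := by
  intro L
  induction L with
  | nil =>
    intro _ _ _ s _ hmem
    simp at hmem
  | cons a L ih =>
    intro hr n hn s hs hmem
    have hr' := hr.tail (gen_A P)
    obtain ⟨s0, hs0, rfl⟩ : a ∈ A P := (isWord_cons.mp hr.1).1
    rw [List.prod_cons] at hn
    have hlen : len (A P) L.prod ≤ len (A P) (pr P s0 * L.prod) := by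
      have h1 := hr.2
      have h2 := hr'.2
      rw [List.prod_cons, List.length_cons] at h1
      omega
    have hI0 := inc_of_le P _ L.prod rfl s0 hs0 hlen
    have hs0Q : (s0 : G) ∈ Q P (n : G) := S_mem_Q_of_inc P hs0 hn hI0
    rcases List.mem_cons.mp hmem with hmem | hmem
    · have h1 : (s : G) = (s0 : G) := P.inj s hs s0 hs0 ((pr_eq_iff P).mp hmem)
      rw [h1]
      exact hs0Q
    · have hn' : pr P (s0⁻¹ * n) = L.prod := by
        rw [map_mul, hn, map_inv, inv_mul_cancel_left]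
      have h1 := ih hr' (s0⁻¹ * n) hn' s hs hmem
      have hle : Q P ((s0⁻¹ * n : P.N) : G) ≤ Q P (n : G) := by
        apply Q_le P (B_le_Q P _)
        intro b hb
        have e : ((s0⁻¹ * n : P.N) : G) * b * ((s0⁻¹ * n : P.N) : G)⁻¹
            = (s0 : G)⁻¹ * ((n : G) * b * (n : G)⁻¹) * (s0 : G) := by
          rw [Subgroup.coe_mul, Subgroup.coe_inv]
          group
        rw [e]
        exact (Q P n).mul_mem ((Q P n).mul_mem ((Q P n).inv_mem hs0Q) (conj_mem_Q P hb)) hs0Q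
      exact hle h1

theorem mem_of_letters {n : G} (hn : n ∈ P.N) {H : Subgroup G} (hB : P.B ≤ H)
    (hS : ∀ s ∈ P.S, s ∈ Q P n → s ∈ H) : n ∈ H := by
  obtain ⟨L, hr, hp⟩ := exists_reduced (gen_A P) (pr P ⟨n, hn⟩)
  have hL : L.prod ∈ (H.comap P.N.subtype).map (pr P) := by
    apply Subgroup.list_prod_mem
    intro a ha
    obtain ⟨s, hs, rfl⟩ := hr.1 a ha
    refine Subgroup.mem_map.mpr ⟨s, ?_, rfl⟩
    exact hS s hs (letters_mem_Q P L hr ⟨n, hn⟩ hp.symm s hs ha)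
  obtain ⟨m, hm, hmp⟩ := Subgroup.mem_map.mp hL
  rw [hp] at hmp
  have h1 : (m : G)⁻¹ * n ∈ P.B := (pr_eq_iff P).mp hmp
  have e : n = (m : G) * ((m : G)⁻¹ * n) := by group
  rw [e]
  exact H.mul_mem hm (hB h1)

theorem mem_Q_self {n : G} (hn : n ∈ P.N) : n ∈ Q P n :=
  mem_of_letters P hn (B_le_Q P n) (fun _ _ h => h)

/-- If `H ≥ B` contains `n B n⁻¹` then it contains `n`. -/
theorem mem_of_conj_le {n : G} (hn : n ∈ P.N) {H : Subgroup G} (hB : P.B ≤ H)
    (hc : ∀ b ∈ P.B, n * b * n⁻¹ ∈ H) : n ∈ H :=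
  Q_le P hB hc (mem_Q_self P hn)

/-- Every subgroup containing `B` is the parabolic subgroup of `S ∩ M`. -/
theorem eq_parabolic_of_B_le {M : Subgroup G} (hM : P.B ≤ M) :
    M = P.parabolic (P.S ∩ (M : Set G)) := by
  apply le_antisymm
  · intro g hg
    obtain ⟨n, hn, hgn⟩ := bruhat_exists P g
    obtain ⟨b1, hb1, b2, hb2, rfl⟩ := (mem_C P).mp hgn
    have hnM : n ∈ M := by
      have := M.mul_mem (M.mul_mem (M.inv_mem (hM hb1)) hg) (M.inv_mem (hM hb2))
      convert this using 1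
      group
    have hQ : Q P n ≤ M := Q_le P hM (fun b hb =>
      M.mul_mem (M.mul_mem hnM (hM hb)) (M.inv_mem hnM))
    have hnP : n ∈ P.parabolic (P.S ∩ (M : Set G)) := by
      apply mem_of_letters P hn (B_le_parabolic P _)
      intro s hs hsQ
      exact closure_le_parabolic P _ (Subgroup.subset_closure ⟨hs, hQ hsQ⟩)
    exact (P.parabolic _).mul_mem ((P.parabolic _).mul_mem (B_le_parabolic P _ hb1) hnP)
      (B_le_parabolic P _ hb2)
  · apply sup_le hM
    rw [Subgroup.closure_le]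
    exact fun s hs => hs.2

theorem parabolic_mono {J K : Set G} (h : J ⊆ K) : P.parabolic J ≤ P.parabolic K :=
  sup_le_sup_left (Subgroup.closure_mono h) _

theorem S_inter_parabolic {J : Set G} (hJ : J ⊆ P.S) :
    P.S ∩ (P.parabolic J : Set G) = J := by
  ext s
  constructor
  · rintro ⟨hs, hsJ⟩
    exact mem_of_mem_parabolic P hJ hs hsJ
  · intro hs
    exact ⟨hJ hs, closure_le_parabolic P J (Subgroup.subset_closure hs)⟩

theorem parabolic_le_iff {J K : Set G} (hJ : J ⊆ P.S) (hK : K ⊆ P.S) :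
    P.parabolic J ≤ P.parabolic K ↔ J ⊆ K := by
  constructor
  · intro h s hs
    exact mem_of_mem_parabolic P hK (hJ hs)
      (h (closure_le_parabolic P J (Subgroup.subset_closure hs)))
  · exact parabolic_mono P

end Cfsg.Agent.helper2.BN
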