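import Mathlib
import Cfsg.Agent.Lib_helper2_BN2

set_option autoImplicit false

namespace Cfsg.Agent.helper2.BN

open Cfsg DoubleCoset
open Cfsg.Agent.helper2.WL

variable {G : Type*} [Group G] (P : Cfsg.BNPair G)

theorem zpow_of_mul_self {M : Type*} [Group M] {a : M} (h : a * a = 1) (k : ℤ) :
    a ^ k = 1 ∨ a ^ k = a := by
  rcases Int.even_or_odd' k with ⟨m, rfl | rfl⟩
  · left
    rw [zpow_mul, zpow_two, h, one_zpow]
  · right
    rw [zpow_add, zpow_mul, zpow_two, h, one_zpow, one_mul, zpow_one]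

theorem AJ_singleton {s : G} (hs : s ∈ P.S) : AJ P {s} = {pr P ⟨s, P.subset hs⟩} := by
  ext a
  constructor
  · rintro ⟨s', hs', rfl⟩
    rw [Set.mem_singleton_iff] at hs' ⊢
    congr 1
    exact Subtype.ext hs'
  · intro ha
    rw [Set.mem_singleton_iff] at ha
    exact ⟨⟨s, P.subset hs⟩, rfl, ha.symm⟩

/-- The rank one parabolic `⟨B, s⟩` is `B ∪ B s B`. -/
theorem parabolic_singleton {s : G} (hs : s ∈ P.S) :
    (P.parabolic {s} : Set G) = (P.B : Set G) ∪ C P s := by
  have hJ : ({s} : Set G) ⊆ P.S := Set.singleton_subset_iff.mpr hs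
  ext g
  rw [SetLike.mem_coe, mem_parabolic_iff P hJ]
  constructor
  · rintro ⟨m, hm, hgm⟩
    have hmN : m ∈ P.N := closure_le_N P hJ hm
    have h1 := pr_mem_closure_AJ P hJ (n := ⟨m, hmN⟩) hm
    rw [AJ_singleton P hs, Subgroup.mem_closure_singleton] at h1
    obtain ⟨k, hk⟩ := h1
    rcases zpow_of_mul_self (pr_S_mul_self P (s := ⟨s, P.subset hs⟩) hs) k with h2 | h2
    · left
      rw [h2] at hk
      have hmB : m ∈ P.B := (pr_eq_one_iff P (n := ⟨m, hmN⟩)).mp hk.symm
      obtain ⟨b1, hb1, b2, hb2, rfl⟩ := (mem_C P).mp hgm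
      exact P.B.mul_mem (P.B.mul_mem hb1 hmB) hb2
    · right
      rw [h2] at hk
      have := Cw_pr P ⟨m, hmN⟩
      rw [← hk, Cw_pr] at this
      show g ∈ C P s
      have h3 : C P s = C P m := this
      rw [h3]
      exact hgm
  · rintro (hg | hg)
    · refine ⟨1, Subgroup.one_mem _, ?_⟩
      rw [C_one]
      exact hg
    · exact ⟨s, Subgroup.subset_closure rfl, hg⟩

theorem parabolic_empty : P.parabolic ∅ = P.B := by
  unfold BNPair.parabolic
  rw [Subgroup.closure_empty, sup_bot_eq]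

end Cfsg.Agent.helper2.BN
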