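import Mathlib
import Cfsg.Agent.Lib_helper2_Elt

set_option autoImplicit false

namespace Cfsg.Agent.helper2.Golay

open Cfsg Cfsg.Agent.helper27
open scoped Pointwise

/-! ### Classification of the involutions of `M24` up to conjugacy -/

def usInv : List (List ℕ × List ℕ) := [
  ([23, 2, 1, 3, 13, 5, 21, 19, 8, 10, 9, 11, 12, 4, 14, 20, 22, 17, 18, 7, 15, 6, 16, 0], [23, 2, 1, 3, 13, 5, 21, 19, 8, 10, 9, 11, 12, 4, 14, 20, 22, 17, 18, 7, 15, 6, 16, 0]),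
  ([23, 2, 1, 4, 9, 13, 5, 14, 6, 12, 11, 21, 7, 10, 16, 18, 15, 22, 19, 3, 8, 17, 20, 0], [23, 2, 1, 19, 3, 6, 8, 12, 20, 4, 13, 10, 9, 5, 7, 16, 14, 21, 15, 18, 22, 11, 17, 0]),
  ([23, 2, 1, 5, 18, 17, 19, 7, 20, 22, 13, 15, 10, 8, 14, 4, 12, 3, 9, 21, 16, 6, 11, 0], [23, 2, 1, 17, 15, 3, 21, 7, 13, 18, 12, 22, 16, 10, 14, 11, 20, 5, 4, 6, 8, 19, 9, 0]),
  ([23, 2, 1, 6, 9, 19, 22, 16, 17, 12, 8, 14, 5, 15, 21, 11, 20, 7, 3, 13, 18, 4, 10, 0], [23, 2, 1, 18, 21, 12, 3, 17, 10, 4, 22, 15, 9, 19, 11, 13, 7, 8, 20, 5, 16, 14, 6, 0]),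
  ([23, 2, 1, 7, 8, 6, 13, 22, 15, 5, 3, 10, 20, 11, 21, 17, 12, 19, 9, 16, 14, 4, 18, 0], [23, 2, 1, 10, 21, 9, 5, 3, 4, 18, 11, 13, 16, 6, 20, 8, 19, 15, 22, 17, 12, 14, 7, 0]),
  ([23, 2, 1, 8, 13, 18, 17, 14, 6, 10, 15, 19, 21, 22, 11, 9, 16, 12, 7, 5, 20, 3, 4, 0], [23, 2, 1, 21, 22, 19, 8, 18, 3, 15, 9, 14, 17, 4, 7, 10, 16, 6, 5, 11, 20, 12, 13, 0]),
  ([23, 2, 1, 9, 5, 20, 18, 8, 13, 21, 6, 22, 16, 14, 10, 19, 3, 15, 4, 12, 7, 11, 17, 0], [23, 2, 1, 16, 18, 4, 10, 20, 7, 3, 14, 21, 19, 8, 13, 17, 12, 22, 6, 15, 5, 9, 11, 0]),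
  ([23, 2, 1, 10, 11, 9, 13, 16, 17, 7, 21, 5, 3, 12, 20, 19, 8, 15, 14, 4, 6, 22, 18, 0], [23, 2, 1, 12, 19, 11, 20, 9, 16, 5, 3, 4, 13, 6, 18, 17, 7, 8, 22, 15, 14, 10, 21, 0]),
  ([23, 2, 1, 11, 3, 8, 6, 21, 4, 20, 10, 13, 16, 5, 18, 9, 14, 12, 22, 7, 15, 19, 17, 0], [23, 2, 1, 4, 8, 13, 6, 19, 5, 15, 10, 3, 17, 11, 16, 20, 12, 22, 14, 21, 9, 7, 18, 0]),
  ([23, 2, 1, 12, 21, 11, 9, 20, 22, 3, 5, 13, 4, 7, 18, 14, 6, 8, 16, 10, 17, 15, 19, 0], [23, 2, 1, 9, 12, 10, 16, 13, 17, 6, 19, 5, 3, 11, 15, 21, 18, 20, 14, 22, 7, 4, 8, 0]),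
  ([23, 2, 1, 13, 19, 22, 14, 3, 18, 15, 9, 8, 12, 6, 16, 10, 7, 4, 11, 5, 20, 17, 21, 0], [23, 2, 1, 7, 17, 19, 13, 16, 11, 10, 15, 18, 12, 3, 6, 9, 14, 21, 8, 4, 20, 22, 5, 0]),
  ([23, 2, 1, 14, 6, 17, 4, 22, 15, 11, 12, 9, 10, 19, 3, 8, 21, 5, 20, 13, 18, 16, 7, 0], [23, 2, 1, 14, 6, 17, 4, 22, 15, 11, 12, 9, 10, 19, 3, 8, 21, 5, 20, 13, 18, 16, 7, 0]),
  ([23, 2, 1, 15, 8, 9, 19, 21, 4, 5, 14, 22, 13, 12, 10, 3, 18, 20, 16, 6, 17, 7, 11, 0], [23, 2, 1, 15, 8, 9, 19, 21, 4, 5, 14, 22, 13, 12, 10, 3, 18, 20, 16, 6, 17, 7, 11, 0]),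
  ([23, 2, 1, 16, 17, 4, 6, 7, 20, 8, 12, 9, 15, 3, 13, 18, 14, 22, 10, 19, 11, 21, 5, 0], [23, 2, 1, 13, 5, 22, 6, 7, 9, 11, 18, 20, 10, 14, 16, 12, 3, 4, 15, 19, 8, 21, 17, 0]),
  ([23, 2, 1, 17, 9, 3, 7, 21, 4, 12, 18, 16, 22, 20, 14, 8, 10, 5, 13, 19, 11, 6, 15, 0], [23, 2, 1, 5, 8, 17, 21, 6, 15, 4, 16, 20, 9, 18, 14, 22, 11, 3, 10, 19, 13, 7, 12, 0]),
  ([23, 2, 1, 18, 19, 11, 4, 16, 17, 15, 20, 3, 14, 7, 8, 9, 21, 12, 5, 22, 10, 13, 6, 0], [23, 2, 1, 11, 6, 18, 22, 13, 14, 15, 20, 5, 17, 21, 12, 9, 7, 8, 3, 4, 10, 16, 19, 0]),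
  ([23, 2, 1, 19, 14, 21, 10, 20, 22, 8, 18, 4, 16, 3, 6, 11, 5, 7, 13, 15, 12, 9, 17, 0], [23, 2, 1, 13, 11, 16, 14, 17, 9, 21, 6, 15, 20, 18, 4, 19, 12, 22, 10, 3, 7, 5, 8, 0]),
  ([23, 2, 1, 20, 18, 9, 3, 14, 6, 22, 16, 7, 19, 12, 15, 13, 11, 10, 21, 17, 4, 5, 8, 0], [23, 2, 1, 6, 20, 21, 8, 11, 22, 5, 17, 16, 13, 15, 7, 14, 10, 19, 4, 12, 3, 18, 9, 0]),
  ([23, 2, 1, 21, 4, 6, 17, 5, 10, 18, 12, 9, 20, 13, 19, 11, 16, 7, 15, 3, 8, 14, 22, 0], [23, 2, 1, 19, 4, 7, 5, 17, 20, 11, 8, 15, 10, 13, 21, 18, 16, 6, 9, 14, 12, 3, 22, 0]),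
  ([23, 2, 1, 22, 11, 4, 3, 5, 10, 7, 19, 20, 15, 18, 16, 6, 12, 13, 9, 14, 21, 17, 8, 0], [23, 2, 1, 6, 5, 7, 15, 9, 22, 18, 8, 4, 16, 17, 19, 12, 14, 21, 13, 10, 11, 20, 3, 0]),
  ([23, 1, 2, 3, 7, 14, 10, 20, 13, 11, 8, 16, 22, 6, 5, 12, 19, 17, 4, 9, 18, 15, 21, 0], [23, 1, 2, 3, 18, 14, 13, 4, 10, 19, 6, 9, 15, 8, 5, 21, 11, 17, 20, 16, 7, 22, 12, 0])]

def repA : List ℕ × List ℕ := ([0, 1, 2, 3, 6, 5, 4, 22, 20, 12, 11, 10, 9, 19, 14, 18, 21, 17, 15, 13, 8, 16, 7, 23], [0, 1, 2, 3, 6, 5, 4, 22, 20, 12, 11, 10, 9, 19, 14, 18, 21, 17, 15, 13, 8, 16, 7, 23])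

def repB : List ℕ × List ℕ := ([23, 2, 1, 4, 3, 13, 10, 15, 11, 19, 6, 8, 18, 5, 16, 7, 14, 22, 12, 9, 21, 20, 17, 0], [23, 2, 1, 4, 3, 13, 10, 15, 11, 19, 6, 8, 18, 5, 16, 7, 14, 22, 12, 9, 21, 20, 17, 0])

set_option maxRecDepth 1000000 in
def invData : List (ℕ × (List ℕ × List ℕ)) := [
  (1, ([22, 21, 16, 14, 10, 5, 4, 13, 17, 15, 18, 0, 2, 11, 1, 9, 20, 23, 3, 19, 12, 6, 8, 7], [11, 14, 12, 18, 6, 5, 21, 23, 22, 15, 4, 13, 20, 7, 3, 9, 2, 8, 10, 19, 16, 1, 0, 17])),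
  (0, ([], [])),
  (0, ([], [])),
  (0, ([], [])),
  (0, ([], [])),
  (0, ([], [])),
  (0, ([], [])),
  (0, ([], [])),
  (0, ([], [])),
  (0, ([], [])),
  (0, ([], [])),
  (0, ([], [])),
  (0, ([], [])),
  (0, ([], [])),
  (0, ([], [])),
  (0, ([], [])),
  (0, ([], [])),
  (0, ([], [])),
  (0, ([], [])),
  (0, ([], [])),
  (0, ([], [])),
  (0, ([], [])),
  (0, ([], [])),
  (0, ([], [])),
  (1, ([4, 13, 19, 14, 0, 5, 7, 22, 9, 11, 20, 12, 18, 17, 23, 8, 2, 1, 15, 16, 10, 21, 3, 6], [4, 17, 16, 22, 0, 5, 23, 6, 15, 8, 20, 9, 11, 1, 3, 18, 19, 13, 12, 2, 10, 21, 7, 14])),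
  (0, ([], [])),
  (0, ([], [])),
  (0, ([], [])),
  (0, ([], [])),
  (0, ([], [])),
  (1, ([6, 18, 15, 5, 11, 14, 2, 23, 20, 9, 13, 22, 8, 16, 0, 12, 21, 17, 7, 3, 19, 1, 10, 4], [14, 21, 6, 19, 23, 3, 0, 18, 12, 9, 22, 4, 15, 10, 5, 2, 13, 17, 1, 20, 8, 16, 11, 7])),
  (0, ([], [])),
  (0, ([], [])),
  (0, ([], [])),
  (0, ([], [])),
  (0, ([], [])),
  (0, ([], [])),
  (0, ([], [])),
  (0, ([], [])),
  (0, ([], [])),
  (0, ([], [])),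
  (0, ([], [])),
  (0, ([], [])),
  (0, ([], [])),
  (0, ([], [])),
  (1, ([11, 13, 19, 5, 21, 3, 18, 22, 4, 1, 14, 20, 8, 9, 23, 0, 16, 17, 6, 15, 2, 7, 12, 10], [15, 9, 20, 5, 8, 3, 18, 21, 12, 13, 23, 0, 22, 1, 10, 19, 16, 17, 6, 2, 11, 4, 7, 14])),
  (0, ([], [])),
  (0, ([], [])),
  (0, ([], [])),
  (0, ([], [])),
  (0, ([], [])),
  (0, ([], [])),
  (0, ([], [])),
  (0, ([], [])),
  (0, ([], [])),
  (0, ([], [])),
  (0, ([], [])),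
  (0, ([], [])),
  (0, ([], [])),
  (0, ([], [])),
  (0, ([], [])),
  (0, ([], [])),
  (0, ([], [])),
  (0, ([], [])),
  (0, ([], [])),
  (0, ([], [])),
  (0, ([], [])),
  (0, ([], [])),
  (0, ([], [])),
  (0, ([], [])),
  (0, ([], [])),
  (0, ([], [])),
  (0, ([], [])),
  (0, ([], [])),
  (0, ([], [])),
  (0, ([], [])),
  (0, ([], [])),
  (0, ([], [])),
  (0, ([], [])),
  (0, ([], [])),
  (0, ([], [])),
  (0, ([], [])),
  (0, ([], [])),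
  (0, ([], [])),
  (2, ([0, 1, 2, 3, 4, 5, 6, 7, 8, 9, 10, 11, 12, 13, 14, 15, 16, 17, 18, 19, 20, 21, 22, 23], [0, 1, 2, 3, 4, 5, 6, 7, 8, 9, 10, 11, 12, 13, 14, 15, 16, 17, 18, 19, 20, 21, 22, 23])),
  (2, ([13, 21, 20, 17, 22, 18, 3, 4, 15, 6, 8, 10, 2, 0, 14, 1, 12, 23, 11, 9, 7, 19, 16, 5], [13, 15, 12, 6, 7, 23, 9, 20, 10, 19, 11, 18, 16, 0, 14, 8, 22, 3, 5, 21, 2, 1, 4, 17])),
  (2, ([0, 1, 2, 4, 3, 16, 6, 7, 9, 8, 12, 20, 10, 17, 22, 18, 5, 13, 15, 19, 11, 21, 14, 23], [0, 1, 2, 4, 3, 16, 6, 7, 9, 8, 12, 20, 10, 17, 22, 18, 5, 13, 15, 19, 11, 21, 14, 23])),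
  (0, ([], [])),
  (0, ([], [])),
  (0, ([], [])),
  (0, ([], [])),
  (0, ([], [])),
  (0, ([], [])),
  (0, ([], [])),
  (0, ([], [])),
  (0, ([], [])),
  (0, ([], [])),
  (0, ([], [])),
  (2, ([0, 16, 14, 12, 3, 18, 8, 7, 9, 11, 15, 20, 5, 13, 17, 1, 21, 22, 4, 2, 6, 10, 19, 23], [0, 15, 19, 4, 18, 12, 20, 7, 6, 8, 21, 9, 3, 13, 2, 10, 1, 14, 5, 22, 11, 16, 17, 23])),
  (0, ([], [])),
  (0, ([], [])),
  (0, ([], [])),
  (0, ([], [])),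
  (0, ([], [])),
  (0, ([], [])),
  (0, ([], [])),
  (0, ([], [])),
  (0, ([], [])),
  (0, ([], [])),
  (0, ([], [])),
  (2, ([14, 17, 22, 3, 8, 4, 15, 10, 18, 19, 21, 0, 23, 1, 13, 20, 2, 5, 12, 6, 9, 7, 11, 16], [11, 13, 16, 3, 5, 17, 19, 21, 4, 20, 7, 22, 18, 14, 0, 6, 23, 1, 8, 9, 15, 10, 2, 12])),
  (0, ([], [])),
  (0, ([], [])),
  (1, ([11, 7, 22, 8, 18, 20, 2, 5, 6, 0, 1, 4, 9, 15, 16, 17, 13, 21, 12, 3, 23, 14, 19, 10], [9, 10, 6, 19, 11, 7, 8, 1, 3, 12, 23, 0, 18, 16, 21, 13, 14, 15, 4, 22, 5, 17, 2, 20])),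
  (0, ([], [])),
  (0, ([], [])),
  (0, ([], [])),
  (0, ([], [])),
  (0, ([], [])),
  (0, ([], [])),
  (0, ([], [])),
  (0, ([], [])),
  (2, ([2, 23, 0, 12, 16, 18, 10, 20, 14, 21, 6, 17, 3, 22, 8, 19, 4, 11, 5, 15, 7, 9, 13, 1], [2, 23, 0, 12, 16, 18, 10, 20, 14, 21, 6, 17, 3, 22, 8, 19, 4, 11, 5, 15, 7, 9, 13, 1])),
  (0, ([], [])),
  (0, ([], [])),
  (1, ([11, 4, 6, 9, 5, 12, 19, 20, 3, 21, 15, 14, 1, 2, 22, 16, 23, 7, 17, 13, 18, 8, 0, 10], [22, 12, 13, 8, 1, 4, 2, 17, 21, 3, 23, 0, 5, 19, 11, 10, 15, 18, 20, 6, 7, 9, 14, 16])),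
  (0, ([], [])),
  (0, ([], [])),
  (2, ([16, 12, 18, 17, 19, 22, 7, 1, 13, 6, 8, 3, 9, 21, 0, 15, 5, 23, 20, 10, 2, 11, 4, 14], [14, 7, 20, 11, 22, 16, 9, 6, 10, 12, 19, 21, 1, 8, 23, 15, 0, 3, 2, 4, 18, 13, 5, 17])),
  (0, ([], [])),
  (0, ([], [])),
  (0, ([], [])),
  (0, ([], [])),
  (0, ([], [])),
  (0, ([], [])),
  (0, ([], [])),
  (0, ([], [])),
  (2, ([5, 4, 3, 22, 11, 17, 10, 6, 12, 9, 19, 23, 18, 2, 16, 21, 8, 14, 0, 7, 20, 15, 1, 13], [18, 22, 13, 2, 1, 0, 7, 19, 16, 9, 6, 4, 8, 23, 17, 21, 14, 5, 12, 10, 20, 15, 3, 11])),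
  (0, ([], [])),
  (0, ([], [])),
  (0, ([], [])),
  (0, ([], [])),
  (0, ([], [])),
  (2, ([9, 4, 3, 13, 14, 5, 11, 15, 22, 6, 1, 16, 0, 17, 20, 7, 18, 21, 12, 2, 8, 10, 23, 19], [12, 10, 19, 2, 1, 5, 9, 15, 20, 0, 21, 6, 18, 3, 4, 7, 11, 13, 16, 23, 14, 17, 8, 22])),
  (0, ([], [])),
  (0, ([], [])),
  (2, ([18, 21, 20, 16, 10, 2, 14, 1, 19, 6, 5, 0, 9, 4, 11, 15, 13, 17, 23, 8, 3, 22, 7, 12], [11, 7, 5, 20, 13, 10, 9, 22, 19, 12, 4, 14, 23, 16, 6, 15, 3, 17, 0, 8, 2, 1, 21, 18])),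
  (0, ([], [])),
  (2, ([12, 11, 8, 15, 0, 9, 7, 6, 5, 22, 4, 14, 3, 2, 10, 16, 1, 20, 17, 21, 13, 19, 23, 18], [4, 16, 13, 12, 10, 8, 7, 6, 2, 5, 14, 1, 0, 20, 11, 3, 15, 18, 23, 21, 17, 19, 9, 22])),
  (0, ([], [])),
  (0, ([], [])),
  (0, ([], [])),
  (0, ([], [])),
  (0, ([], [])),
  (0, ([], [])),
  (0, ([], [])),
  (0, ([], [])),
  (0, ([], [])),
  (0, ([], [])),
  (0, ([], [])),
  (0, ([], [])),
  (0, ([], [])),
  (0, ([], [])),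
  (0, ([], [])),
  (0, ([], [])),
  (0, ([], [])),
  (0, ([], [])),
  (0, ([], [])),
  (0, ([], [])),
  (0, ([], [])),
  (0, ([], [])),
  (2, ([5, 20, 21, 6, 17, 7, 10, 2, 12, 4, 9, 22, 0, 23, 8, 3, 18, 1, 16, 15, 19, 11, 14, 13], [12, 17, 7, 15, 9, 0, 3, 5, 14, 10, 6, 21, 8, 23, 22, 19, 18, 4, 16, 20, 1, 2, 11, 13])),
  (0, ([], [])),
  (0, ([], [])),
  (0, ([], [])),
  (0, ([], [])),
  (0, ([], [])),
  (0, ([], [])),
  (0, ([], [])),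
  (0, ([], [])),
  (0, ([], [])),
  (0, ([], [])),
  (0, ([], [])),
  (0, ([], [])),
  (0, ([], [])),
  (0, ([], [])),
  (0, ([], [])),
  (0, ([], [])),
  (0, ([], [])),
  (0, ([], [])),
  (0, ([], [])),
  (0, ([], [])),
  (0, ([], [])),
  (2, ([21, 12, 18, 14, 5, 22, 2, 16, 13, 23, 19, 7, 4, 6, 8, 0, 15, 1, 10, 11, 9, 17, 3, 20], [15, 17, 6, 22, 12, 4, 13, 11, 14, 20, 18, 19, 1, 8, 3, 16, 7, 21, 2, 10, 23, 0, 5, 9])),
  (0, ([], [])),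
  (0, ([], [])),
  (0, ([], [])),
  (0, ([], [])),
  (0, ([], [])),
  (0, ([], [])),
  (2, ([0, 3, 4, 6, 18, 22, 15, 10, 19, 8, 9, 11, 20, 5, 7, 2, 13, 14, 1, 17, 21, 16, 12, 23], [0, 18, 15, 1, 2, 13, 3, 14, 9, 10, 7, 11, 22, 16, 17, 6, 21, 19, 4, 8, 12, 20, 5, 23])),
  (0, ([], [])),
  (0, ([], [])),
  (0, ([], [])),
  (0, ([], [])),
  (0, ([], [])),
  (0, ([], [])),
  (0, ([], [])),
  (0, ([], [])),
  (0, ([], [])),
  (0, ([], [])),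
  (0, ([], [])),
  (0, ([], [])),
  (2, ([9, 2, 1, 10, 4, 22, 17, 6, 20, 12, 13, 11, 21, 18, 16, 23, 0, 7, 8, 15, 3, 14, 5, 19], [16, 2, 1, 20, 4, 22, 7, 17, 18, 0, 3, 11, 9, 10, 21, 19, 14, 6, 13, 23, 8, 12, 5, 15])),
  (0, ([], [])),
  (0, ([], [])),
  (0, ([], [])),
  (0, ([], [])),
  (0, ([], [])),
  (0, ([], [])),
  (0, ([], [])),
  (0, ([], [])),
  (0, ([], [])),
  (0, ([], [])),
  (0, ([], [])),
  (0, ([], [])),
  (0, ([], [])),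
  (0, ([], [])),
  (0, ([], [])),
  (0, ([], [])),
  (0, ([], [])),
  (0, ([], [])),
  (0, ([], [])),
  (0, ([], [])),
  (0, ([], [])),
  (0, ([], [])),
  (0, ([], [])),
  (0, ([], [])),
  (0, ([], [])),
  (0, ([], [])),
  (0, ([], [])),
  (2, ([21, 7, 15, 4, 10, 5, 11, 23, 3, 8, 2, 13, 22, 6, 17, 0, 19, 16, 14, 18, 12, 1, 9, 20], [15, 21, 10, 8, 3, 5, 13, 1, 9, 22, 4, 6, 20, 11, 18, 2, 17, 14, 19, 16, 23, 0, 12, 7])),
  (0, ([], [])),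
  (0, ([], [])),
  (0, ([], [])),
  (0, ([], [])),
  (0, ([], [])),
  (0, ([], [])),
  (0, ([], [])),
  (0, ([], [])),
  (0, ([], [])),
  (2, ([16, 19, 9, 18, 3, 10, 4, 2, 12, 20, 21, 7, 6, 5, 0, 17, 1, 15, 23, 8, 22, 13, 11, 14], [14, 16, 7, 4, 6, 13, 12, 11, 19, 2, 5, 22, 8, 21, 23, 17, 0, 15, 3, 1, 9, 10, 20, 18])),
  (2, ([23, 17, 22, 15, 19, 8, 14, 12, 7, 20, 9, 1, 10, 21, 2, 3, 5, 6, 11, 18, 13, 16, 4, 0], [23, 11, 14, 15, 22, 16, 17, 8, 5, 10, 12, 18, 7, 20, 6, 3, 21, 1, 19, 4, 9, 13, 2, 0])),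
  (0, ([], [])),
  (0, ([], [])),
  (0, ([], [])),
  (0, ([], [])),
  (0, ([], [])),
  (0, ([], [])),
  (0, ([], [])),
  (0, ([], [])),
  (0, ([], [])),
  (0, ([], [])),
  (0, ([], [])),
  (0, ([], [])),
  (0, ([], [])),
  (0, ([], [])),
  (0, ([], [])),
  (0, ([], [])),
  (0, ([], [])),
  (0, ([], [])),
  (0, ([], [])),
  (0, ([], [])),
  (0, ([], [])),
  (0, ([], [])),
  (0, ([], [])),
  (0, ([], [])),
  (0, ([], [])),
  (0, ([], [])),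
  (0, ([], [])),
  (0, ([], [])),
  (0, ([], [])),
  (0, ([], [])),
  (0, ([], [])),
  (0, ([], [])),
  (0, ([], [])),
  (0, ([], [])),
  (0, ([], [])),
  (0, ([], [])),
  (0, ([], [])),
  (0, ([], [])),
  (0, ([], [])),
  (0, ([], [])),
  (2, ([19, 0, 23, 1, 13, 8, 21, 18, 3, 2, 17, 6, 15, 10, 14, 11, 4, 22, 5, 20, 16, 12, 7, 9], [1, 3, 9, 8, 16, 18, 11, 22, 5, 23, 13, 15, 21, 4, 14, 12, 20, 10, 7, 0, 19, 6, 17, 2])),
  (0, ([], [])),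
  (0, ([], [])),
  (0, ([], [])),
  (0, ([], [])),
  (0, ([], [])),
  (0, ([], [])),
  (0, ([], [])),
  (0, ([], [])),
  (0, ([], [])),
  (0, ([], [])),
  (0, ([], [])),
  (0, ([], [])),
  (0, ([], [])),
  (0, ([], [])),
  (0, ([], [])),
  (0, ([], [])),
  (2, ([2, 23, 0, 16, 12, 4, 10, 20, 21, 14, 3, 7, 6, 11, 13, 5, 18, 22, 19, 15, 17, 9, 8, 1], [2, 23, 0, 10, 5, 15, 12, 11, 22, 21, 6, 13, 4, 14, 9, 19, 3, 20, 16, 18, 7, 8, 17, 1])),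
  (0, ([], [])),
  (0, ([], [])),
  (0, ([], [])),
  (0, ([], [])),
  (0, ([], [])),
  (0, ([], [])),
  (0, ([], [])),
  (0, ([], [])),
  (0, ([], [])),
  (0, ([], [])),
  (0, ([], [])),
  (0, ([], [])),
  (0, ([], [])),
  (0, ([], [])),
  (0, ([], [])),
  (0, ([], [])),
  (2, ([9, 11, 8, 14, 4, 10, 18, 3, 2, 16, 22, 21, 20, 12, 17, 15, 5, 7, 1, 0, 6, 13, 23, 19], [19, 18, 8, 7, 4, 16, 20, 17, 2, 0, 5, 1, 13, 21, 3, 15, 9, 14, 6, 23, 12, 11, 10, 22])),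
  (0, ([], [])),
  (0, ([], [])),
  (0, ([], [])),
  (0, ([], [])),
  (0, ([], [])),
  (0, ([], [])),
  (0, ([], [])),
  (0, ([], [])),
  (0, ([], [])),
  (2, ([2, 23, 0, 10, 5, 15, 12, 11, 22, 21, 6, 13, 4, 14, 9, 19, 3, 20, 16, 18, 7, 8, 17, 1], [2, 23, 0, 16, 12, 4, 10, 20, 21, 14, 3, 7, 6, 11, 13, 5, 18, 22, 19, 15, 17, 9, 8, 1])),
  (0, ([], [])),
  (0, ([], [])),
  (0, ([], [])),
  (0, ([], [])),
  (2, ([0, 1, 2, 6, 18, 19, 3, 17, 13, 9, 10, 22, 16, 8, 21, 15, 12, 7, 4, 5, 20, 14, 11, 23], [0, 1, 2, 6, 18, 19, 3, 17, 13, 9, 10, 22, 16, 8, 21, 15, 12, 7, 4, 5, 20, 14, 11, 23])),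
  (0, ([], [])),
  (0, ([], [])),
  (0, ([], [])),
  (0, ([], [])),
  (0, ([], [])),
  (0, ([], [])),
  (0, ([], [])),
  (0, ([], [])),
  (0, ([], [])),
  (0, ([], [])),
  (2, ([0, 2, 1, 17, 20, 5, 6, 19, 8, 16, 22, 18, 12, 15, 14, 13, 9, 3, 11, 7, 4, 21, 10, 23], [0, 2, 1, 17, 20, 5, 6, 19, 8, 16, 22, 18, 12, 15, 14, 13, 9, 3, 11, 7, 4, 21, 10, 23])),
  (0, ([], [])),
  (0, ([], [])),
  (0, ([], [])),
  (0, ([], [])),
  (0, ([], [])),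
  (0, ([], [])),
  (0, ([], [])),
  (0, ([], [])),
  (0, ([], [])),
  (0, ([], [])),
  (0, ([], [])),
  (0, ([], [])),
  (0, ([], [])),
  (0, ([], [])),
  (0, ([], [])),
  (0, ([], [])),
  (0, ([], [])),
  (0, ([], [])),
  (0, ([], [])),
  (0, ([], [])),
  (0, ([], [])),
  (0, ([], [])),
  (0, ([], [])),
  (0, ([], [])),
  (0, ([], [])),
  (0, ([], [])),
  (0, ([], [])),
  (0, ([], [])),
  (0, ([], [])),
  (0, ([], [])),
  (0, ([], [])),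
  (0, ([], [])),
  (0, ([], [])),
  (0, ([], [])),
  (0, ([], [])),
  (0, ([], [])),
  (0, ([], [])),
  (0, ([], [])),
  (0, ([], [])),
  (0, ([], [])),
  (0, ([], [])),
  (0, ([], [])),
  (0, ([], [])),
  (0, ([], [])),
  (0, ([], [])),
  (0, ([], [])),
  (0, ([], [])),
  (0, ([], [])),
  (2, ([0, 22, 17, 7, 16, 10, 4, 21, 6, 13, 3, 15, 2, 14, 11, 9, 18, 1, 8, 19, 20, 5, 12, 23], [0, 17, 12, 10, 6, 21, 8, 3, 18, 15, 5, 14, 22, 9, 13, 11, 4, 2, 16, 19, 20, 7, 1, 23])),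
  (0, ([], [])),
  (0, ([], [])),
  (0, ([], [])),
  (0, ([], [])),
  (0, ([], [])),
  (0, ([], [])),
  (0, ([], [])),
  (0, ([], [])),
  (0, ([], [])),
  (0, ([], [])),
  (0, ([], [])),
  (0, ([], [])),
  (0, ([], [])),
  (0, ([], [])),
  (0, ([], [])),
  (0, ([], [])),
  (0, ([], [])),
  (0, ([], [])),
  (2, ([22, 0, 23, 10, 5, 11, 9, 13, 2, 16, 14, 6, 15, 4, 7, 18, 19, 1, 8, 3, 12, 20, 21, 17], [1, 17, 8, 19, 13, 4, 11, 14, 18, 6, 3, 5, 20, 7, 10, 12, 9, 23, 15, 16, 21, 22, 0, 2])),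
  (0, ([], [])),
  (0, ([], [])),
  (0, ([], [])),
  (2, ([23, 6, 10, 1, 21, 13, 12, 15, 4, 14, 17, 2, 5, 9, 3, 20, 16, 8, 11, 7, 19, 18, 22, 0], [23, 3, 11, 14, 8, 12, 1, 19, 17, 13, 2, 18, 6, 5, 9, 7, 16, 10, 21, 20, 15, 4, 22, 0])),
  (0, ([], [])),
  (0, ([], [])),
  (0, ([], [])),
  (0, ([], [])),
  (0, ([], [])),
  (0, ([], [])),
  (0, ([], [])),
  (0, ([], [])),
  (0, ([], [])),
  (2, ([23, 17, 22, 19, 15, 5, 14, 12, 20, 7, 10, 13, 9, 6, 4, 11, 8, 21, 3, 18, 1, 16, 2, 0], [23, 20, 22, 18, 14, 5, 13, 9, 16, 12, 10, 15, 7, 11, 6, 4, 21, 1, 19, 3, 8, 17, 2, 0])),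
  (0, ([], [])),
  (0, ([], [])),
  (0, ([], [])),
  (0, ([], [])),
  (0, ([], [])),
  (0, ([], [])),
  (0, ([], [])),
  (0, ([], [])),
  (0, ([], [])),
  (0, ([], [])),
  (0, ([], [])),
  (0, ([], [])),
  (0, ([], [])),
  (0, ([], [])),
  (0, ([], [])),
  (2, ([20, 13, 5, 6, 9, 7, 14, 23, 2, 0, 12, 11, 10, 19, 1, 16, 4, 8, 15, 18, 22, 17, 3, 21], [9, 14, 8, 22, 16, 2, 3, 5, 17, 4, 12, 11, 10, 1, 6, 18, 15, 21, 19, 13, 0, 23, 20, 7])),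
  (0, ([], [])),
  (0, ([], [])),
  (0, ([], [])),
  (0, ([], [])),
  (0, ([], [])),
  (0, ([], [])),
  (0, ([], [])),
  (0, ([], [])),
  (0, ([], [])),
  (0, ([], [])),
  (0, ([], [])),
  (0, ([], [])),
  (0, ([], [])),
  (0, ([], [])),
  (0, ([], [])),
  (0, ([], [])),
  (0, ([], [])),
  (0, ([], [])),
  (0, ([], [])),
  (0, ([], [])),
  (0, ([], [])),
  (0, ([], [])),
  (0, ([], [])),
  (0, ([], [])),
  (0, ([], [])),
  (0, ([], [])),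
  (0, ([], [])),
  (2, ([22, 0, 23, 9, 8, 3, 10, 1, 4, 16, 14, 21, 19, 2, 20, 18, 15, 13, 5, 11, 12, 7, 6, 17], [1, 7, 13, 5, 8, 18, 22, 21, 4, 3, 6, 19, 20, 17, 10, 16, 9, 23, 15, 12, 14, 11, 0, 2])),
  (0, ([], [])),
  (0, ([], [])),
  (0, ([], [])),
  (0, ([], [])),
  (2, ([18, 7, 15, 13, 2, 8, 14, 17, 22, 23, 6, 16, 21, 5, 1, 10, 11, 3, 9, 19, 0, 20, 4, 12], [20, 14, 4, 17, 22, 13, 10, 1, 5, 18, 15, 16, 23, 3, 6, 2, 11, 7, 0, 19, 21, 12, 8, 9])),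
  (0, ([], [])),
  (0, ([], [])),
  (0, ([], [])),
  (0, ([], [])),
  (0, ([], [])),
  (0, ([], [])),
  (0, ([], [])),
  (0, ([], [])),
  (0, ([], [])),
  (0, ([], [])),
  (0, ([], [])),
  (0, ([], [])),
  (0, ([], [])),
  (0, ([], [])),
  (0, ([], [])),
  (0, ([], [])),
  (0, ([], [])),
  (0, ([], [])),
  (0, ([], [])),
  (0, ([], [])),
  (0, ([], [])),
  (0, ([], [])),
  (0, ([], [])),
  (0, ([], [])),
  (0, ([], [])),
  (0, ([], [])),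
  (0, ([], [])),
  (0, ([], [])),
  (0, ([], [])),
  (0, ([], [])),
  (0, ([], [])),
  (0, ([], [])),
  (0, ([], [])),
  (2, ([20, 11, 8, 13, 4, 3, 15, 6, 2, 22, 10, 1, 19, 5, 23, 7, 18, 12, 9, 14, 16, 17, 0, 21], [22, 11, 8, 5, 4, 13, 7, 15, 2, 18, 10, 1, 17, 3, 19, 6, 20, 21, 16, 12, 0, 23, 9, 14])),
  (0, ([], [])),
  (0, ([], [])),
  (0, ([], [])),
  (2, ([18, 2, 1, 6, 19, 20, 11, 8, 3, 14, 13, 5, 22, 10, 7, 4, 15, 9, 16, 23, 17, 0, 21, 12], [21, 2, 1, 8, 15, 11, 3, 14, 7, 17, 13, 6, 23, 10, 9, 16, 18, 20, 0, 4, 5, 22, 12, 19])),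
  (0, ([], [])),
  (0, ([], [])),
  (0, ([], [])),
  (0, ([], [])),
  (0, ([], [])),
  (2, ([23, 11, 8, 12, 5, 2, 13, 4, 6, 21, 19, 20, 9, 22, 18, 10, 16, 1, 7, 17, 15, 14, 3, 0], [23, 17, 5, 22, 7, 4, 8, 18, 2, 12, 15, 1, 3, 6, 21, 20, 16, 19, 14, 10, 11, 9, 13, 0])),
  (0, ([], [])),
  (0, ([], [])),
  (1, ([11, 7, 22, 13, 2, 15, 0, 1, 8, 9, 12, 16, 21, 5, 19, 6, 3, 18, 20, 17, 4, 23, 14, 10], [6, 7, 4, 16, 20, 13, 15, 1, 8, 9, 23, 0, 10, 3, 22, 5, 11, 19, 17, 14, 18, 12, 2, 21])),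
  (0, ([], [])),
  (0, ([], [])),
  (1, ([10, 13, 19, 12, 22, 21, 6, 4, 3, 1, 2, 17, 5, 18, 9, 0, 15, 16, 23, 20, 14, 8, 7, 11], [15, 9, 10, 8, 7, 12, 6, 22, 21, 14, 0, 23, 3, 1, 20, 16, 17, 11, 13, 2, 19, 5, 4, 18])),
  (0, ([], [])),
  (0, ([], [])),
  (0, ([], [])),
  (0, ([], [])),
  (0, ([], [])),
  (0, ([], [])),
  (0, ([], [])),
  (0, ([], [])),
  (0, ([], [])),
  (0, ([], [])),
  (0, ([], [])),
  (0, ([], [])),
  (0, ([], [])),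
  (0, ([], [])),
  (0, ([], [])),
  (0, ([], [])),
  (0, ([], [])),
  (2, ([16, 9, 19, 21, 5, 22, 2, 8, 12, 18, 0, 6, 7, 1, 20, 10, 11, 17, 23, 13, 15, 4, 3, 14], [10, 13, 6, 22, 21, 4, 11, 12, 7, 1, 15, 16, 8, 19, 23, 20, 0, 17, 9, 2, 14, 3, 5, 18])),
  (0, ([], [])),
  (0, ([], [])),
  (0, ([], [])),
  (0, ([], [])),
  (0, ([], [])),
  (2, ([23, 14, 16, 17, 9, 18, 3, 13, 2, 11, 1, 7, 10, 5, 22, 6, 4, 12, 8, 21, 15, 19, 20, 0], [23, 10, 8, 6, 16, 13, 15, 11, 18, 4, 12, 9, 17, 7, 1, 20, 2, 3, 5, 21, 22, 19, 14, 0])),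
  (0, ([], [])),
  (0, ([], [])),
  (0, ([], [])),
  (0, ([], [])),
  (0, ([], [])),
  (2, ([17, 16, 14, 13, 8, 3, 23, 12, 15, 9, 21, 10, 7, 11, 5, 20, 2, 4, 6, 0, 19, 18, 1, 22], [19, 22, 16, 5, 17, 14, 18, 12, 4, 9, 11, 13, 7, 3, 2, 8, 1, 0, 21, 20, 15, 10, 23, 6])),
  (0, ([], [])),
  (0, ([], [])),
  (0, ([], [])),
  (0, ([], [])),
  (0, ([], [])),
  (2, ([0, 12, 18, 20, 22, 19, 2, 11, 6, 5, 3, 10, 7, 16, 21, 13, 17, 9, 15, 8, 4, 1, 14, 23], [0, 21, 6, 10, 20, 9, 8, 12, 19, 17, 11, 7, 1, 15, 22, 18, 13, 16, 2, 5, 3, 14, 4, 23])),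
  (0, ([], [])),
  (0, ([], [])),
  (2, ([17, 12, 18, 16, 4, 23, 13, 3, 2, 15, 6, 10, 7, 9, 14, 11, 20, 0, 8, 21, 1, 19, 5, 22], [17, 20, 8, 7, 4, 22, 10, 12, 18, 13, 11, 15, 1, 6, 14, 9, 3, 0, 2, 21, 16, 19, 23, 5])),
  (0, ([], [])),
  (0, ([], [])),
  (2, ([19, 18, 12, 1, 7, 8, 20, 23, 15, 11, 22, 13, 4, 3, 17, 2, 10, 16, 6, 21, 14, 0, 5, 9], [21, 3, 15, 13, 12, 22, 18, 4, 5, 23, 16, 9, 2, 11, 20, 8, 17, 14, 1, 0, 6, 19, 10, 7])),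
  (0, ([], [])),
  (0, ([], [])),
  (0, ([], [])),
  (2, ([21, 23, 0, 13, 8, 15, 2, 22, 9, 10, 7, 12, 18, 16, 4, 5, 1, 6, 19, 11, 3, 14, 17, 20], [2, 16, 6, 20, 14, 15, 17, 10, 4, 8, 9, 19, 11, 3, 21, 5, 13, 22, 12, 18, 23, 0, 7, 1])),
  (0, ([], [])),
  (0, ([], [])),
  (0, ([], [])),
  (0, ([], [])),
  (0, ([], [])),
  (0, ([], [])),
  (0, ([], [])),
  (0, ([], [])),
  (0, ([], [])),
  (0, ([], [])),
  (0, ([], [])),
  (0, ([], [])),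
  (0, ([], [])),
  (0, ([], [])),
  (0, ([], [])),
  (0, ([], [])),
  (0, ([], [])),
  (0, ([], [])),
  (0, ([], [])),
  (0, ([], [])),
  (0, ([], [])),
  (0, ([], [])),
  (0, ([], [])),
  (0, ([], [])),
  (0, ([], [])),
  (0, ([], [])),
  (0, ([], [])),
  (0, ([], [])),
  (0, ([], [])),
  (0, ([], [])),
  (2, ([0, 20, 21, 16, 12, 1, 15, 13, 7, 11, 22, 3, 5, 19, 8, 14, 18, 17, 10, 6, 2, 4, 9, 23], [0, 5, 20, 11, 21, 12, 19, 8, 14, 22, 18, 9, 4, 7, 15, 6, 3, 17, 16, 13, 1, 2, 10, 23])),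
  (0, ([], [])),
  (0, ([], [])),
  (0, ([], [])),
  (0, ([], [])),
  (0, ([], [])),
  (0, ([], [])),
  (0, ([], [])),
  (0, ([], [])),
  (0, ([], [])),
  (0, ([], [])),
  (0, ([], [])),
  (0, ([], [])),
  (0, ([], [])),
  (2, ([17, 5, 13, 23, 18, 8, 9, 21, 6, 4, 14, 15, 20, 11, 1, 16, 0, 12, 19, 7, 3, 10, 2, 22], [16, 14, 22, 20, 9, 1, 8, 19, 5, 6, 21, 13, 17, 2, 10, 11, 15, 0, 4, 18, 12, 7, 23, 3])),
  (0, ([], [])),
  (0, ([], [])),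
  (0, ([], [])),
  (0, ([], [])),
  (0, ([], [])),
  (0, ([], [])),
  (0, ([], [])),
  (0, ([], [])),
  (0, ([], [])),
  (0, ([], [])),
  (0, ([], [])),
  (0, ([], [])),
  (0, ([], [])),
  (0, ([], [])),
  (0, ([], [])),
  (0, ([], [])),
  (0, ([], [])),
  (0, ([], [])),
  (0, ([], [])),
  (0, ([], [])),
  (0, ([], [])),
  (0, ([], [])),
  (0, ([], [])),
  (0, ([], [])),
  (0, ([], [])),
  (0, ([], [])),
  (0, ([], [])),
  (0, ([], [])),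
  (0, ([], [])),
  (0, ([], [])),
  (2, ([4, 12, 18, 14, 7, 22, 2, 8, 5, 1, 9, 13, 0, 6, 15, 21, 16, 10, 23, 19, 11, 20, 17, 3], [12, 9, 6, 23, 0, 8, 13, 4, 7, 10, 17, 20, 1, 11, 3, 14, 16, 22, 2, 19, 21, 15, 5, 18])),
  (0, ([], [])),
  (0, ([], [])),
  (0, ([], [])),
  (0, ([], [])),
  (0, ([], [])),
  (0, ([], [])),
  (0, ([], [])),
  (0, ([], [])),
  (0, ([], [])),
  (0, ([], [])),
  (0, ([], [])),
  (0, ([], [])),
  (2, ([5, 19, 9, 17, 23, 0, 21, 20, 2, 15, 1, 11, 7, 16, 14, 8, 22, 12, 6, 3, 10, 4, 18, 13], [5, 10, 8, 19, 21, 0, 18, 12, 15, 2, 20, 11, 17, 23, 14, 9, 13, 3, 22, 1, 7, 6, 16, 4])),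
  (0, ([], [])),
  (0, ([], [])),
  (0, ([], [])),
  (2, ([10, 21, 20, 19, 0, 7, 22, 4, 17, 23, 2, 13, 16, 11, 15, 8, 12, 9, 3, 5, 18, 14, 1, 6], [4, 22, 10, 18, 7, 19, 23, 5, 15, 17, 0, 13, 16, 11, 21, 14, 12, 8, 20, 3, 2, 1, 6, 9])),
  (0, ([], [])),
  (0, ([], [])),
  (0, ([], [])),
  (0, ([], [])),
  (0, ([], [])),
  (0, ([], [])),
  (0, ([], [])),
  (0, ([], [])),
  (1, ([22, 10, 11, 21, 3, 20, 12, 4, 19, 23, 0, 18, 13, 14, 8, 17, 2, 16, 15, 6, 1, 9, 5, 7], [10, 20, 16, 4, 7, 22, 19, 23, 14, 21, 1, 2, 6, 12, 13, 18, 17, 15, 11, 8, 5, 3, 0, 9])),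
  (0, ([], [])),
  (0, ([], [])),
  (0, ([], [])),
  (0, ([], [])),
  (0, ([], [])),
  (0, ([], [])),
  (0, ([], [])),
  (0, ([], [])),
  (1, ([4, 20, 8, 9, 7, 21, 0, 2, 3, 19, 10, 17, 5, 18, 16, 11, 22, 12, 23, 14, 13, 1, 15, 6], [6, 21, 7, 8, 0, 12, 23, 4, 2, 3, 10, 15, 17, 20, 19, 22, 14, 11, 13, 9, 1, 5, 16, 18])),
  (0, ([], [])),
  (0, ([], [])),
  (2, ([0, 12, 18, 4, 21, 5, 15, 6, 14, 1, 2, 16, 22, 19, 13, 8, 9, 3, 17, 7, 11, 10, 20, 23], [0, 9, 10, 17, 3, 5, 7, 19, 15, 16, 21, 20, 1, 14, 8, 6, 11, 18, 2, 13, 22, 4, 12, 23])),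
  (0, ([], [])),
  (0, ([], [])),
  (2, ([23, 14, 16, 22, 3, 18, 1, 15, 8, 5, 9, 7, 2, 19, 12, 20, 13, 17, 10, 6, 4, 11, 21, 0], [23, 6, 12, 4, 20, 9, 19, 11, 8, 10, 18, 21, 14, 16, 1, 7, 2, 17, 5, 13, 15, 22, 3, 0])),
  (0, ([], [])),
  (0, ([], [])),
  (0, ([], [])),
  (0, ([], [])),
  (0, ([], [])),
  (2, ([0, 20, 21, 18, 1, 19, 7, 3, 4, 14, 2, 6, 13, 17, 9, 11, 8, 12, 15, 5, 22, 10, 16, 23], [0, 4, 10, 7, 8, 19, 11, 6, 16, 14, 21, 15, 17, 12, 9, 18, 22, 13, 3, 5, 1, 2, 20, 23])),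
  (0, ([], [])),
  (0, ([], [])),
  (2, ([23, 12, 18, 17, 8, 14, 20, 21, 5, 10, 15, 3, 4, 11, 16, 6, 2, 22, 13, 19, 7, 9, 1, 0], [23, 22, 16, 11, 12, 8, 15, 20, 4, 21, 9, 13, 1, 18, 5, 10, 14, 3, 2, 19, 6, 7, 17, 0])),
  (0, ([], [])),
  (0, ([], [])),
  (0, ([], [])),
  (0, ([], [])),
  (0, ([], [])),
  (0, ([], [])),
  (0, ([], [])),
  (0, ([], [])),
  (0, ([], [])),
  (0, ([], [])),
  (0, ([], [])),
  (2, ([16, 7, 15, 22, 1, 6, 0, 3, 13, 19, 11, 23, 4, 9, 10, 2, 8, 17, 18, 5, 21, 12, 20, 14], [6, 4, 15, 7, 12, 19, 5, 1, 16, 13, 14, 10, 21, 8, 23, 2, 0, 17, 18, 9, 22, 20, 3, 11])),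
  (0, ([], [])),
  (0, ([], [])),
  (0, ([], [])),
  (0, ([], [])),
  (0, ([], [])),
  (0, ([], [])),
  (0, ([], [])),
  (0, ([], [])),
  (0, ([], [])),
  (0, ([], [])),
  (0, ([], [])),
  (0, ([], [])),
  (0, ([], [])),
  (0, ([], [])),
  (0, ([], [])),
  (0, ([], [])),
  (0, ([], [])),
  (2, ([0, 4, 3, 1, 15, 20, 18, 13, 21, 22, 14, 8, 9, 10, 19, 6, 16, 11, 2, 5, 7, 12, 17, 23], [0, 3, 18, 2, 1, 19, 15, 20, 11, 12, 13, 17, 21, 7, 10, 4, 16, 22, 6, 14, 5, 8, 9, 23])),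
  (0, ([], [])),
  (0, ([], [])),
  (0, ([], [])),
  (0, ([], [])),
  (0, ([], [])),
  (0, ([], [])),
  (0, ([], [])),
  (0, ([], [])),
  (0, ([], [])),
  (0, ([], [])),
  (0, ([], [])),
  (0, ([], [])),
  (0, ([], [])),
  (2, ([21, 0, 23, 15, 16, 4, 22, 2, 10, 12, 18, 3, 5, 17, 6, 19, 8, 13, 7, 11, 9, 14, 1, 20], [1, 22, 7, 11, 5, 12, 14, 18, 16, 20, 8, 19, 9, 17, 21, 3, 4, 13, 10, 15, 23, 0, 6, 2])),
  (0, ([], [])),
  (0, ([], [])),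
  (0, ([], [])),
  (0, ([], [])),
  (0, ([], [])),
  (0, ([], [])),
  (0, ([], [])),
  (0, ([], [])),
  (0, ([], [])),
  (0, ([], [])),
  (0, ([], [])),
  (0, ([], [])),
  (0, ([], [])),
  (2, ([23, 9, 19, 8, 18, 1, 13, 7, 16, 6, 15, 17, 2, 12, 22, 3, 20, 14, 11, 10, 5, 4, 21, 0], [23, 5, 12, 15, 21, 20, 9, 7, 3, 1, 19, 18, 13, 6, 17, 10, 8, 11, 4, 2, 16, 22, 14, 0])),
  (0, ([], [])),
  (0, ([], [])),
  (0, ([], [])),
  (0, ([], [])),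
  (0, ([], [])),
  (0, ([], [])),
  (2, ([22, 11, 8, 0, 10, 9, 20, 18, 16, 13, 6, 1, 14, 4, 21, 3, 5, 12, 2, 23, 7, 19, 15, 17], [3, 11, 18, 15, 13, 16, 10, 20, 2, 5, 4, 1, 17, 9, 12, 22, 8, 23, 7, 21, 6, 14, 0, 19])),
  (0, ([], [])),
  (0, ([], [])),
  (0, ([], [])),
  (0, ([], [])),
  (0, ([], [])),
  (0, ([], [])),
  (0, ([], [])),
  (2, ([0, 10, 6, 1, 15, 3, 5, 4, 16, 14, 19, 9, 22, 12, 8, 17, 18, 13, 21, 2, 20, 11, 7, 23], [0, 3, 19, 5, 7, 6, 2, 22, 14, 11, 1, 21, 13, 17, 9, 4, 8, 15, 16, 10, 20, 18, 12, 23])),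
  (0, ([], [])),
  (0, ([], [])),
  (0, ([], [])),
  (0, ([], [])),
  (2, ([20, 5, 13, 2, 12, 11, 8, 7, 14, 19, 3, 23, 17, 16, 15, 9, 22, 10, 18, 1, 4, 6, 0, 21], [22, 19, 3, 10, 20, 1, 21, 7, 6, 15, 17, 5, 4, 2, 8, 14, 13, 12, 18, 9, 0, 23, 16, 11])),
  (0, ([], [])),
  (0, ([], [])),
  (0, ([], [])),
  (0, ([], [])),
  (0, ([], [])),
  (0, ([], [])),
  (0, ([], [])),
  (0, ([], [])),
  (0, ([], [])),
  (0, ([], [])),
  (0, ([], [])),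
  (0, ([], [])),
  (0, ([], [])),
  (0, ([], [])),
  (0, ([], [])),
  (0, ([], [])),
  (0, ([], [])),
  (0, ([], [])),
  (0, ([], [])),
  (0, ([], [])),
  (0, ([], [])),
  (0, ([], [])),
  (0, ([], [])),
  (0, ([], [])),
  (0, ([], [])),
  (0, ([], [])),
  (0, ([], [])),
  (0, ([], [])),
  (0, ([], [])),
  (0, ([], [])),
  (0, ([], [])),
  (0, ([], [])),
  (0, ([], [])),
  (0, ([], [])),
  (0, ([], [])),
  (0, ([], [])),
  (0, ([], [])),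
  (0, ([], [])),
  (0, ([], [])),
  (0, ([], [])),
  (2, ([15, 14, 16, 4, 8, 18, 11, 21, 10, 12, 0, 17, 22, 20, 13, 5, 1, 23, 6, 2, 3, 19, 9, 7], [10, 16, 19, 20, 3, 15, 18, 23, 4, 22, 8, 6, 9, 14, 1, 0, 2, 11, 5, 21, 13, 7, 12, 17])),
  (0, ([], [])),
  (0, ([], [])),
  (0, ([], [])),
  (0, ([], [])),
  (0, ([], [])),
  (0, ([], [])),
  (2, ([23, 3, 4, 10, 13, 17, 11, 20, 9, 7, 14, 8, 2, 12, 16, 22, 5, 15, 21, 1, 6, 19, 18, 0], [23, 19, 12, 1, 2, 16, 20, 9, 11, 8, 3, 6, 13, 4, 10, 17, 14, 5, 22, 21, 7, 18, 15, 0])),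
  (0, ([], [])),
  (0, ([], [])),
  (0, ([], [])),
  (0, ([], [])),
  (0, ([], [])),
  (0, ([], [])),
  (0, ([], [])),
  (0, ([], [])),
  (0, ([], [])),
  (2, ([21, 3, 4, 7, 14, 6, 5, 9, 23, 8, 10, 22, 16, 0, 11, 1, 17, 2, 18, 13, 15, 19, 12, 20], [13, 15, 17, 1, 2, 6, 5, 3, 9, 7, 10, 14, 22, 19, 4, 20, 12, 16, 18, 21, 23, 0, 11, 8])),
  (0, ([], [])),
  (0, ([], [])),
  (0, ([], [])),
  (0, ([], [])),
  (0, ([], [])),
  (0, ([], [])),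
  (0, ([], [])),
  (0, ([], [])),
  (0, ([], [])),
  (0, ([], [])),
  (0, ([], [])),
  (0, ([], [])),
  (0, ([], [])),
  (0, ([], [])),
  (0, ([], [])),
  (0, ([], [])),
  (0, ([], [])),
  (0, ([], [])),
  (0, ([], [])),
  (0, ([], [])),
  (0, ([], [])),
  (0, ([], [])),
  (0, ([], [])),
  (0, ([], [])),
  (0, ([], [])),
  (0, ([], [])),
  (0, ([], [])),
  (0, ([], [])),
  (0, ([], [])),
  (0, ([], [])),
  (0, ([], [])),
  (0, ([], [])),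
  (0, ([], [])),
  (0, ([], [])),
  (0, ([], [])),
  (0, ([], [])),
  (0, ([], [])),
  (0, ([], [])),
  (2, ([0, 20, 21, 4, 8, 13, 7, 5, 2, 9, 18, 22, 11, 17, 15, 19, 16, 6, 14, 10, 12, 3, 1, 23], [0, 22, 8, 21, 3, 7, 17, 6, 4, 9, 19, 12, 20, 5, 18, 14, 16, 13, 10, 15, 1, 2, 11, 23])),
  (0, ([], [])),
  (0, ([], [])),
  (0, ([], [])),
  (0, ([], [])),
  (0, ([], [])),
  (0, ([], [])),
  (0, ([], [])),
  (0, ([], [])),
  (0, ([], [])),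
  (0, ([], [])),
  (0, ([], [])),
  (0, ([], [])),
  (0, ([], [])),
  (0, ([], [])),
  (0, ([], [])),
  (0, ([], [])),
  (2, ([20, 4, 3, 1, 18, 10, 11, 7, 13, 0, 14, 19, 5, 16, 15, 12, 22, 8, 9, 6, 17, 2, 23, 21], [9, 3, 21, 2, 1, 12, 19, 7, 17, 18, 5, 6, 15, 8, 10, 14, 13, 20, 4, 11, 0, 23, 16, 22])),
  (0, ([], [])),
  (0, ([], [])),
  (0, ([], [])),
  (0, ([], [])),
  (0, ([], [])),
  (0, ([], [])),
  (0, ([], [])),
  (0, ([], [])),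
  (0, ([], [])),
  (0, ([], [])),
  (2, ([7, 18, 12, 3, 23, 8, 11, 2, 9, 20, 14, 22, 21, 6, 13, 19, 10, 1, 16, 5, 17, 4, 0, 15], [22, 17, 7, 3, 21, 19, 13, 0, 5, 8, 16, 6, 2, 14, 10, 23, 18, 20, 1, 15, 9, 12, 11, 4])),
  (0, ([], [])),
  (0, ([], [])),
  (0, ([], [])),
  (0, ([], [])),
  (0, ([], [])),
  (0, ([], [])),
  (0, ([], [])),
  (0, ([], [])),
  (2, ([12, 9, 19, 4, 10, 6, 22, 14, 17, 0, 20, 16, 1, 5, 15, 21, 7, 13, 8, 2, 23, 11, 3, 18], [9, 12, 19, 22, 3, 13, 5, 16, 18, 1, 4, 21, 0, 17, 7, 14, 11, 8, 23, 2, 10, 15, 6, 20])),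
  (0, ([], [])),
  (0, ([], [])),
  (0, ([], [])),
  (0, ([], [])),
  (0, ([], [])),
  (0, ([], [])),
  (0, ([], [])),
  (0, ([], [])),
  (0, ([], [])),
  (0, ([], [])),
  (0, ([], [])),
  (0, ([], [])),
  (0, ([], [])),
  (0, ([], [])),
  (0, ([], [])),
  (0, ([], [])),
  (0, ([], [])),
  (0, ([], [])),
  (0, ([], [])),
  (0, ([], [])),
  (0, ([], [])),
  (0, ([], [])),
  (0, ([], [])),
  (0, ([], [])),
  (0, ([], [])),
  (0, ([], [])),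
  (0, ([], [])),
  (0, ([], [])),
  (0, ([], [])),
  (0, ([], [])),
  (0, ([], [])),
  (2, ([5, 14, 16, 11, 1, 12, 4, 3, 10, 6, 9, 7, 19, 18, 2, 21, 0, 23, 20, 17, 15, 22, 8, 13], [16, 4, 14, 7, 6, 0, 9, 11, 22, 10, 8, 3, 5, 23, 1, 20, 2, 19, 13, 12, 18, 15, 21, 17])),
  (0, ([], [])),
  (0, ([], [])),
  (0, ([], [])),
  (0, ([], [])),
  (2, ([14, 23, 0, 5, 21, 4, 15, 6, 17, 10, 8, 22, 12, 19, 9, 2, 3, 20, 18, 1, 7, 11, 13, 16], [2, 19, 15, 16, 5, 3, 7, 20, 10, 14, 9, 21, 12, 22, 0, 6, 23, 8, 18, 13, 17, 4, 11, 1])),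
  (0, ([], [])),
  (0, ([], [])),
  (0, ([], [])),
  (0, ([], [])),
  (0, ([], [])),
  (0, ([], [])),
  (0, ([], [])),
  (0, ([], [])),
  (0, ([], [])),
  (0, ([], [])),
  (1, ([7, 0, 2, 23, 11, 12, 21, 3, 18, 6, 13, 1, 15, 8, 9, 20, 4, 5, 14, 17, 10, 16, 19, 22], [1, 11, 2, 7, 16, 17, 9, 0, 13, 14, 20, 4, 5, 10, 18, 12, 21, 19, 8, 22, 15, 6, 23, 3])),
  (0, ([], [])),
  (0, ([], [])),
  (0, ([], [])),
  (1, ([8, 0, 17, 14, 10, 5, 19, 15, 16, 18, 12, 21, 1, 11, 22, 6, 3, 7, 23, 9, 13, 4, 2, 20], [1, 12, 22, 16, 21, 5, 15, 17, 0, 19, 4, 13, 10, 20, 3, 7, 8, 2, 9, 6, 23, 11, 14, 18])),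
  (0, ([], [])),
  (0, ([], [])),
  (1, ([16, 2, 0, 17, 6, 3, 5, 18, 19, 12, 1, 4, 10, 13, 22, 9, 11, 7, 20, 23, 14, 15, 8, 21], [2, 10, 1, 5, 11, 6, 4, 17, 22, 15, 12, 16, 9, 13, 20, 21, 0, 3, 7, 8, 18, 23, 14, 19])),
  (0, ([], [])),
  (0, ([], [])),
  (1, ([16, 17, 2, 14, 20, 23, 7, 0, 8, 5, 13, 9, 15, 12, 6, 1, 11, 4, 10, 22, 19, 3, 18, 21], [7, 15, 2, 21, 17, 9, 14, 6, 8, 11, 18, 16, 13, 10, 3, 12, 0, 1, 22, 20, 4, 23, 19, 5])),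
  (0, ([], [])),
  (1, ([6, 2, 23, 14, 15, 16, 12, 7, 9, 10, 5, 22, 20, 3, 21, 0, 18, 17, 19, 13, 11, 8, 1, 4], [15, 22, 1, 13, 23, 10, 0, 7, 21, 8, 9, 20, 6, 19, 3, 4, 5, 17, 16, 18, 12, 14, 11, 2])),
  (0, ([], [])),
  (0, ([], [])),
  (0, ([], [])),
  (0, ([], [])),
  (1, ([16, 14, 0, 2, 11, 12, 23, 3, 6, 8, 4, 7, 18, 17, 1, 22, 5, 9, 20, 19, 15, 13, 10, 21], [2, 14, 3, 7, 10, 16, 8, 11, 9, 17, 22, 4, 5, 21, 1, 20, 0, 13, 12, 19, 18, 23, 15, 6])),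
  (0, ([], [])),
  (0, ([], [])),
  (0, ([], [])),
  (0, ([], [])),
  (0, ([], [])),
  (0, ([], [])),
  (0, ([], [])),
  (0, ([], [])),
  (1, ([12, 23, 14, 5, 21, 15, 19, 6, 11, 20, 8, 3, 0, 4, 1, 2, 13, 18, 10, 16, 17, 7, 22, 9], [12, 14, 15, 11, 13, 3, 7, 21, 10, 23, 18, 8, 0, 16, 2, 5, 19, 20, 17, 6, 9, 4, 22, 1])),
  (1, ([8, 17, 23, 14, 0, 12, 10, 13, 18, 3, 4, 22, 11, 16, 9, 6, 1, 2, 19, 7, 5, 15, 21, 20], [4, 16, 17, 9, 10, 20, 15, 19, 0, 14, 6, 12, 5, 7, 3, 21, 13, 1, 8, 18, 23, 22, 11, 2])),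
  (1, ([22, 0, 2, 1, 17, 14, 13, 20, 5, 4, 19, 23, 12, 3, 18, 8, 21, 15, 9, 10, 11, 6, 16, 7], [1, 3, 2, 13, 9, 8, 21, 23, 15, 18, 19, 20, 12, 6, 5, 17, 22, 4, 14, 10, 7, 16, 0, 11])),
  (1, ([7, 2, 14, 23, 0, 13, 11, 10, 6, 4, 16, 9, 8, 18, 17, 20, 15, 19, 21, 5, 12, 3, 1, 22], [4, 22, 1, 21, 9, 19, 8, 0, 12, 11, 7, 6, 20, 5, 2, 16, 10, 14, 13, 17, 15, 18, 23, 3])),
  (1, ([12, 23, 14, 5, 6, 18, 17, 8, 3, 4, 21, 10, 0, 16, 15, 22, 19, 1, 11, 20, 13, 2, 7, 9], [12, 17, 21, 8, 9, 3, 4, 22, 7, 23, 11, 18, 0, 20, 2, 14, 13, 6, 5, 16, 19, 10, 15, 1])),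
  (0, ([], [])),
  (0, ([], [])),
  (0, ([], [])),
  (0, ([], [])),
  (0, ([], [])),
  (0, ([], [])),
  (0, ([], [])),
  (0, ([], [])),
  (0, ([], [])),
  (0, ([], [])),
  (1, ([18, 2, 0, 14, 20, 7, 13, 10, 3, 23, 5, 9, 12, 19, 1, 16, 11, 22, 17, 4, 21, 8, 6, 15], [2, 14, 1, 8, 19, 10, 22, 5, 21, 11, 7, 16, 12, 6, 3, 23, 15, 18, 0, 13, 4, 20, 17, 9]))]

theorem usInv_ok : usInv.all (fun u => tablesOK u.1 u.2 && codeOK u.2) = true := by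
  decide +kernel

theorem usInv_spec : ∀ u ∈ usInv, tablesOK u.1 u.2 = true ∧ codeOK u.2 = true := by
  intro u hu
  have := List.all_eq_true.mp usInv_ok u hu
  rwa [Bool.and_eq_true] at this

theorem repA_ok : tablesOK repA.1 repA.2 = true ∧ codeOK repA.2 = true := by
  constructor <;> decide +kernel

theorem repB_ok : tablesOK repB.1 repB.2 = true ∧ codeOK repB.2 = true := by
  constructor <;> decide +kernel

/-- Check of the classification data against the candidates. -/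
def invCheck : List (List ℕ × List ℕ) → List (ℕ × (List ℕ × List ℕ)) → Bool
  | [], [] => true
  | d :: ds, e :: es =>
    (if e.1 = 0 then (!(comp d.1 d.1 == idTab) || (d.1 == idTab))
      else (tablesOK e.2.1 e.2.2 && codeOK e.2.2 &&
        (comp e.2.1 (comp d.1 e.2.2) == (if e.1 = 1 then repA.1 else repB.1)))) &&
      invCheck ds es
  | _, _ => false

theorem invCheck_spec : ∀ (ds : List (List ℕ × List ℕ)) (es : List (ℕ × (List ℕ × List ℕ))),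
    invCheck ds es = true → ∀ d ∈ ds, comp d.1 d.1 = idTab → d.1 ≠ idTab →
      ∃ κ : List ℕ × List ℕ, tablesOK κ.1 κ.2 = true ∧ codeOK κ.2 = true ∧
        (comp κ.1 (comp d.1 κ.2) = repA.1 ∨ comp κ.1 (comp d.1 κ.2) = repB.1) := by
  intro ds
  induction ds with
  | nil =>
    intro es _ d hd
    exact absurd hd (by simp)
  | cons d0 ds ih =>
    intro es h d hd h2 h1
    cases es with
    | nil => exact absurd h (by simp [invCheck])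
    | cons e es =>
      unfold invCheck at h
      rw [Bool.and_eq_true] at h
      rcases List.mem_cons.mp hd with rfl | hd
      · have h0 := h.1
        split_ifs at h0 with he he1
        · rw [Bool.or_eq_true, Bool.not_eq_true', beq_eq_false_iff_ne, beq_iff_eq] at h0
          rcases h0 with h0 | h0
          · exact absurd h2 h0
          · exact absurd h0 h1
        · rw [Bool.and_eq_true, Bool.and_eq_true, beq_iff_eq] at h0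
          exact ⟨e.2, h0.1.1, h0.1.2, Or.inl h0.2⟩
        · rw [Bool.and_eq_true, Bool.and_eq_true, beq_iff_eq] at h0
          exact ⟨e.2, h0.1.1, h0.1.2, Or.inr h0.2⟩
      · exact ih es h.2 d hd h2 h1

set_option maxRecDepth 100000 in
theorem invData_ok : invCheck (candsOf usInv) invData = true := by decide +kernel

theorem idTab_eq : idTab = (List.range 24).map (fun i => tb idTab i) := by decide +kernel

/-- Every involution among the candidates is conjugate to one of the two representatives. -/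
theorem cand_conj {d : List ℕ × List ℕ} (hd : d ∈ candsOf usInv) (h2 : gperm d * gperm d = 1)
    (h1 : gperm d ≠ 1) :
    ∃ κ ∈ M24, κ * gperm d * κ⁻¹ = gperm repA ∨ κ * gperm d * κ⁻¹ = gperm repB := by
  have ht := tablesOK_candsOf usInv_spec d hd
  have hs := tablesOK_spec ht
  have hc2 : comp d.1 d.1 = idTab := by
    apply comp_eq_of_forall _ idTab_eq
    intro i hi
    have := congrArg (fun σ : Equiv.Perm GolayPt => σ (pt i)) h2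
    simp only [Equiv.Perm.mul_apply, Equiv.Perm.one_apply] at this
    rw [gperm_pt ht hi, gperm_pt ht (hs i hi).1] at this
    have h3 := congrArg idx this
    rw [idx_pt _ (hs _ (hs i hi).1).1, idx_pt _ hi] at h3
    rw [h3, tb_idTab i hi]
  have hc1 : d.1 ≠ idTab := by
    intro he
    apply h1
    apply Equiv.Perm.ext
    intro p
    rw [gperm_apply ht, he, tb_idTab _ (idx_lt p), pt_idx]
    rfl
  obtain ⟨κ, hκt, hκc, hκ⟩ := invCheck_spec _ _ invData_ok d hd hc2 hc1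
  obtain ⟨hct, hcg⟩ := gperm_conjD hκt ht
  refine ⟨gperm κ, gperm_mem hκt hκc, ?_⟩
  rw [← hcg]
  rcases hκ with hκ | hκ
  · exact Or.inl (gperm_eq_of_fst hct repA_ok.1 (by rw [conjD_fst]; exact hκ))
  · exact Or.inr (gperm_eq_of_fst hct repB_ok.1 (by rw [conjD_fst]; exact hκ))

/-- Boolean matching of the action on the base points. -/
def matchB (us : List (List ℕ × List ℕ)) (y : List ℕ) : Bool :=
  us.any (fun u => (tb u.1 23 == y.getD 0 0) && (tb u.1 0 == y.getD 1 0) &&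
    (tb u.1 1 == y.getD 2 0) && (tb u.1 2 == y.getD 3 0) && (tb u.1 3 == y.getD 4 0))

theorem matchB_spec {us : List (List ℕ × List ℕ)} {y0 y1 y2 y3 y4 : ℕ}
    (h : matchB us [y0, y1, y2, y3, y4] = true) : ∃ u ∈ us,
      tb u.1 23 = y0 ∧ tb u.1 0 = y1 ∧ tb u.1 1 = y2 ∧ tb u.1 2 = y3 ∧ tb u.1 3 = y4 := by
  unfold matchB at h
  rw [List.any_eq_true] at h
  obtain ⟨u, hu, h⟩ := h
  simp only [Bool.and_eq_true, beq_iff_eq, List.getD_cons_zero, List.getD_cons_succ] at h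
  exact ⟨u, hu, h.1.1.1.1, h.1.1.1.2, h.1.1.2, h.1.2, h.2⟩

theorem usInv_match1' : ∀ e < 24, ((e == 0) || (e == 23) || (e == 2) || (e == 1) ||
    matchB usInv [0, 23, 2, 1, e]) = true := by
  decide +kernel

theorem usInv_match1 : ∀ e < 24, e ≠ 0 → e ≠ 23 → e ≠ 2 → e ≠ 1 → ∃ u ∈ usInv,
    tb u.1 23 = 0 ∧ tb u.1 0 = 23 ∧ tb u.1 1 = 2 ∧ tb u.1 2 = 1 ∧ tb u.1 3 = e := by
  intro e he h0 h23 h2 h1
  have := usInv_match1' e he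
  simp only [Bool.or_eq_true, beq_iff_eq] at this
  rcases this with (((h | h) | h) | h) | h
  · exact absurd h h0
  · exact absurd h h23
  · exact absurd h h2
  · exact absurd h h1
  · exact matchB_spec h

theorem usInv_match2 : ∃ u ∈ usInv,
    tb u.1 23 = 0 ∧ tb u.1 0 = 23 ∧ tb u.1 1 = 1 ∧ tb u.1 2 = 2 ∧ tb u.1 3 = 3 :=
  matchB_spec (by decide +kernel)

theorem exists_notMem (s : Finset GolayPt) (h : s.card < 24) : ∃ e, e ∉ s := by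
  by_contra hcon
  push Not at hcon
  have : s = Finset.univ := Finset.eq_univ_iff_forall.mpr hcon
  rw [this, Finset.card_univ, card_golayPt] at h
  exact absurd h (by norm_num)

/-- An embedding of `Fin 5` from five distinct points. -/
def emb5 (a b c d e : GolayPt) (h : [a, b, c, d, e].Nodup) : Fin 5 ↪ GolayPt :=
  ⟨fun i => [a, b, c, d, e].get (i.cast (by simp)), by
    intro i j hij
    have := (List.Nodup.get_inj_iff h).mp hij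
    exact Fin.cast_injective _ this⟩

/-- Every involution of `M24` is conjugate to one of the two representatives. -/
theorem inv_classify {g : Equiv.Perm GolayPt} (hg : g ∈ M24) (h2 : g * g = 1) (h1 : g ≠ 1) :
    ∃ κ ∈ M24, κ * g * κ⁻¹ = gperm repA ∨ κ * g * κ⁻¹ = gperm repB := by
  have hgg : ∀ p, g (g p) = p := fun p => by
    have := congrArg (fun σ : Equiv.Perm GolayPt => σ p) h2
    simpa using this
  obtain ⟨a, ha⟩ : ∃ a, g a ≠ a := by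
    by_contra hcon
    push Not at hcon
    exact h1 (Equiv.Perm.ext hcon)
  have hab : a ≠ g a := fun h => ha h.symm
  -- the normal form
  have key : ∃ k ∈ M24, ∃ u ∈ usInv, ∃ m < 48, k * g * k⁻¹ = gperm (compD u (hsD m)) := by
    by_cases hc : ∃ c, c ≠ a ∧ c ≠ g a ∧ g c ≠ c
    · obtain ⟨c, hca, hcb, hcc⟩ := hc
      have hda : g c ≠ a := by
        intro h
        apply hcb
        rw [← h, hgg]
      have hdb : g c ≠ g a := fun h => hca (g.injective h)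
      obtain ⟨e, he⟩ := exists_notMem {a, g a, c, g c} (by
        refine lt_of_le_of_lt (Finset.card_le_four) (by norm_num))
      simp only [Finset.mem_insert, Finset.mem_singleton, not_or] at he
      have hnd : [a, g a, c, g c, e].Nodup := by
        simp only [List.nodup_cons, List.mem_cons, List.not_mem_nil, or_false, not_or,
          not_false_eq_true, List.nodup_nil, and_true]
        exact ⟨⟨hab, hca.symm, hda.symm, fun h => he.1 h.symm⟩,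
          ⟨hcb.symm, hdb.symm, fun h => he.2.1 h.symm⟩,
          ⟨hcc.symm, fun h => he.2.2.1 h.symm⟩, fun h => he.2.2.2 h.symm⟩
      apply exists_normal_form hg (emb5 a (g a) c (g c) e hnd) usInv usInv_spec
      intro k _ hkx
      have k0 : k a = pt 23 := hkx 0
      have k1 : k (g a) = pt 0 := hkx 1
      have k2 : k c = pt 1 := hkx 2
      have k3 : k (g c) = pt 2 := hkx 3
      have k4 : k e = pt 3 := hkx 4
      have g0 : (k * g * k⁻¹) (pt 23) = pt 0 := by rw [← k0, conj_apply_map, k1]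
      have g1 : (k * g * k⁻¹) (pt 0) = pt 23 := by rw [← k1, conj_apply_map, hgg, k0]
      have g2 : (k * g * k⁻¹) (pt 1) = pt 2 := by rw [← k2, conj_apply_map, k3]
      have g3 : (k * g * k⁻¹) (pt 2) = pt 1 := by rw [← k3, conj_apply_map, hgg, k2]
      have hne : ∀ i : ℕ, i < 24 → i ≠ 3 → (k * g * k⁻¹) (pt 3) ≠ (k * g * k⁻¹) (pt i) := by
        intro i hi hi3 h
        have := (k * g * k⁻¹).injective h
        have h3 := congrArg idx this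
        rw [idx_pt 3 (by norm_num), idx_pt i hi] at h3
        exact hi3 h3.symm
      set q := (k * g * k⁻¹) (pt 3) with hq
      obtain ⟨u, hu, u0, u1, u2, u3, u4⟩ := usInv_match1 (idx q) (idx_lt q)
        (by
          intro h
          apply hne 23 (by norm_num) (by norm_num)
          rw [g0, ← h, pt_idx])
        (by
          intro h
          apply hne 0 (by norm_num) (by norm_num)
          rw [g1, ← h, pt_idx])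
        (by
          intro h
          apply hne 1 (by norm_num) (by norm_num)
          rw [g2, ← h, pt_idx])
        (by
          intro h
          apply hne 2 (by norm_num) (by norm_num)
          rw [g3, ← h, pt_idx])
      refine ⟨u, hu, ?_⟩
      intro j hj
      interval_cases j
      · show (k * g * k⁻¹) (pt 23) = pt (tb u.1 23)
        rw [g0, u0]
      · show (k * g * k⁻¹) (pt 0) = pt (tb u.1 0)
        rw [g1, u1]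
      · show (k * g * k⁻¹) (pt 1) = pt (tb u.1 1)
        rw [g2, u2]
      · show (k * g * k⁻¹) (pt 2) = pt (tb u.1 2)
        rw [g3, u3]
      · show (k * g * k⁻¹) (pt 3) = pt (tb u.1 3)
        rw [u4, pt_idx]
    · push Not at hc
      obtain ⟨c, hc1⟩ := exists_notMem {a, g a} (by
        refine lt_of_le_of_lt (Finset.card_le_two) (by norm_num))
      simp only [Finset.mem_insert, Finset.mem_singleton, not_or] at hc1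
      obtain ⟨d, hd1⟩ := exists_notMem {a, g a, c} (by
        refine lt_of_le_of_lt (Finset.card_le_three) (by norm_num))
      simp only [Finset.mem_insert, Finset.mem_singleton, not_or] at hd1
      obtain ⟨e, he⟩ := exists_notMem {a, g a, c, d} (by
        refine lt_of_le_of_lt (Finset.card_le_four) (by norm_num))
      simp only [Finset.mem_insert, Finset.mem_singleton, not_or] at he
      have hnd : [a, g a, c, d, e].Nodup := by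
        simp only [List.nodup_cons, List.mem_cons, List.not_mem_nil, or_false, not_or,
          not_false_eq_true, List.nodup_nil, and_true]
        exact ⟨⟨hab, fun h => hc1.1 h.symm, fun h => hd1.1 h.symm, fun h => he.1 h.symm⟩,
          ⟨fun h => hc1.2 h.symm, fun h => hd1.2.1 h.symm, fun h => he.2.1 h.symm⟩,
          ⟨fun h => hd1.2.2 h.symm, fun h => he.2.2.1 h.symm⟩, fun h => he.2.2.2 h.symm⟩
      apply exists_normal_form hg (emb5 a (g a) c d e hnd) usInv usInv_spec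
      intro k _ hkx
      have k0 : k a = pt 23 := hkx 0
      have k1 : k (g a) = pt 0 := hkx 1
      have k2 : k c = pt 1 := hkx 2
      have k3 : k d = pt 2 := hkx 3
      have k4 : k e = pt 3 := hkx 4
      have g0 : (k * g * k⁻¹) (pt 23) = pt 0 := by rw [← k0, conj_apply_map, k1]
      have g1 : (k * g * k⁻¹) (pt 0) = pt 23 := by rw [← k1, conj_apply_map, hgg, k0]
      have g2 : (k * g * k⁻¹) (pt 1) = pt 1 := by
        rw [← k2, conj_apply_map, hc c hc1.1 hc1.2]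
      have g3 : (k * g * k⁻¹) (pt 2) = pt 2 := by
        rw [← k3, conj_apply_map, hc d hd1.1 hd1.2.1]
      have g4 : (k * g * k⁻¹) (pt 3) = pt 3 := by
        rw [← k4, conj_apply_map, hc e he.1 he.2.1]
      obtain ⟨u, hu, u0, u1, u2, u3, u4⟩ := usInv_match2
      refine ⟨u, hu, ?_⟩
      intro j hj
      interval_cases j
      · show (k * g * k⁻¹) (pt 23) = pt (tb u.1 23)
        rw [g0, u0]
      · show (k * g * k⁻¹) (pt 0) = pt (tb u.1 0)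
        rw [g1, u1]
      · show (k * g * k⁻¹) (pt 1) = pt (tb u.1 1)
        rw [g2, u2]
      · show (k * g * k⁻¹) (pt 2) = pt (tb u.1 2)
        rw [g3, u3]
      · show (k * g * k⁻¹) (pt 3) = pt (tb u.1 3)
        rw [g4, u4]
  obtain ⟨k, hk, u, hu, m, hm, hkg⟩ := key
  have hd := mem_candsOf hu hm
  have h2' : gperm (compD u (hsD m)) * gperm (compD u (hsD m)) = 1 := by
    rw [← hkg]
    have : k * g * k⁻¹ * (k * g * k⁻¹) = k * (g * g) * k⁻¹ := by group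
    rw [this, h2]
    group
  have h1' : gperm (compD u (hsD m)) ≠ 1 := by
    rw [← hkg]
    intro h
    apply h1
    have : g = k⁻¹ * (k * g * k⁻¹) * k := by group
    rw [this, h]
    group
  obtain ⟨κ, hκ, hκc⟩ := cand_conj hd h2' h1'
  refine ⟨κ * k, Subgroup.mul_mem _ hκ hk, ?_⟩
  have e1 : κ * k * g * (κ * k)⁻¹ = κ * (k * g * k⁻¹) * κ⁻¹ := by group
  rw [e1, hkg]
  exact hκc

end Cfsg.Agent.helper2.Golay
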