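import Mathlib
import Cfsg.Agent.Lib_helper2_Inv
import Cfsg.Agent.Lib_helper2_M24m

set_option autoImplicit false

namespace Cfsg.Agent.helper2.Golay

open Cfsg Cfsg.Agent.helper27
open scoped Pointwise

/-! ### The two classes of involutions of `M24` -/

theorem sq_of_orderOf_two {G : Type*} [Group G] {g : G} (h : orderOf g = 2) :
    g * g = 1 ∧ g ≠ 1 := by
  constructor
  · have := pow_orderOf_eq_one g
    rw [h, pow_two] at this
    exact this
  · rintro rfl
    rw [orderOf_one] at h
    exact absurd h (by norm_num)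

theorem orderOf_two_of_sq {G : Type*} [Group G] {g : G} (h2 : g * g = 1) (h1 : g ≠ 1) :
    orderOf g = 2 := by
  apply orderOf_eq_prime
  · rw [pow_two]
    exact h2
  · exact h1

theorem fixed_conj (κ g : Equiv.Perm GolayPt) (p : GolayPt) :
    (κ * g * κ⁻¹) p = p ↔ g (κ⁻¹ p) = κ⁻¹ p := by
  rw [Equiv.Perm.mul_apply, Equiv.Perm.mul_apply]
  constructor
  · intro h
    have := congrArg (fun z => κ⁻¹ z) h
    simpa using this
  · intro h
    rw [h]
    exact Equiv.apply_symm_apply κ p

theorem gperm_sq_one {d : List ℕ × List ℕ} (ht : tablesOK d.1 d.2 = true)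
    (h : comp d.1 d.1 = idTab) : gperm d * gperm d = 1 := by
  apply Equiv.Perm.ext
  intro p
  rw [Equiv.Perm.mul_apply, gperm_apply ht, gperm_apply ht,
    idx_pt _ (tablesOK_spec ht _ (idx_lt p)).1, ← tb_comp _ _ _ (idx_lt p), h,
    tb_idTab _ (idx_lt p), pt_idx]
  rfl

theorem repA_fix : ∀ p : GolayPt, pt (tb repA.1 (idx p)) = p ↔ p ∈ pts (cw 47) := by
  decide +kernel

theorem repB_fpf' : ∀ p : GolayPt, pt (tb repB.1 (idx p)) ≠ p := by decide +kernel

theorem repA_fixed (p : GolayPt) : gperm repA p = p ↔ p ∈ pts (cw 47) := by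
  rw [gperm_apply repA_ok.1]
  exact repA_fix p

theorem repB_fpf (p : GolayPt) : gperm repB p ≠ p := by
  rw [gperm_apply repB_ok.1]
  exact repB_fpf' p

theorem repA_mem : gperm repA ∈ M24 := gperm_mem repA_ok.1 repA_ok.2

theorem repB_mem : gperm repB ∈ M24 := gperm_mem repB_ok.1 repB_ok.2

theorem repA_sq : gperm repA * gperm repA = 1 := gperm_sq_one repA_ok.1 (by decide +kernel)

theorem repB_sq : gperm repB * gperm repB = 1 := gperm_sq_one repB_ok.1 (by decide +kernel)

theorem repA_ne_one : gperm repA ≠ 1 := by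
  intro h
  have := repA_fixed (pt 4)
  rw [h] at this
  have h2 : pt 4 ∉ pts (cw 47) := by decide +kernel
  exact h2 (this.mp rfl)

theorem repB_ne_one : gperm repB ≠ 1 := by
  intro h
  have := repB_fpf (pt 4)
  rw [h] at this
  exact this rfl

/-- The fixed points of a conjugate. -/
theorem fix_filter_conj (κ g : Equiv.Perm GolayPt) :
    (Finset.univ.filter fun p => g p = p) =
      κ⁻¹ • (Finset.univ.filter fun p => (κ * g * κ⁻¹) p = p) := by
  ext p
  rw [Finset.mem_filter, ← Finset.inv_smul_mem_iff, inv_inv, Finset.mem_filter]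
  simp only [Finset.mem_univ, true_and]
  rw [fixed_conj]
  show g p = p ↔ g (κ⁻¹ (κ p)) = κ⁻¹ (κ p)
  rw [show κ⁻¹ (κ p) = p from Equiv.symm_apply_apply κ p]

theorem repA_filter : (Finset.univ.filter fun p => gperm repA p = p) = pts (cw 47) := by
  ext p
  rw [Finset.mem_filter]
  simp only [Finset.mem_univ, true_and]
  exact repA_fixed p

/-- An involution conjugate to the first representative fixes exactly an octad. -/
theorem fix_of_conj_repA {g κ : Equiv.Perm GolayPt} (hκ : κ ∈ M24)
    (h : κ * g * κ⁻¹ = gperm repA) : (Finset.univ.filter fun p => g p = p) ∈ octads := by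
  rw [fix_filter_conj κ g, h, repA_filter]
  exact smul_mem_octads' (Subgroup.inv_mem _ hκ) o0_mem

/-- An involution conjugate to the second representative has no fixed points. -/
theorem fpf_of_conj_repB {g κ : Equiv.Perm GolayPt} (h : κ * g * κ⁻¹ = gperm repB) :
    ∀ p, g p ≠ p := by
  intro p hp
  have := (fixed_conj κ g (κ p)).mpr (by
    rw [show κ⁻¹ (κ p) = p from Equiv.symm_apply_apply κ p]
    exact hp)
  rw [h] at this
  exact repB_fpf _ this

theorem not_fpf_of_conj_repA {g κ : Equiv.Perm GolayPt} (h : κ * g * κ⁻¹ = gperm repA) :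
    ¬ ∀ p, g p ≠ p := by
  intro hfpf
  have h0 : pt 0 ∈ pts (cw 47) := by decide +kernel
  have := (repA_fixed (pt 0)).mpr h0
  rw [← h, fixed_conj] at this
  exact hfpf _ this

/-- The two classes of involutions. -/
theorem inv_classes {g : Equiv.Perm GolayPt} (hg : g ∈ M24) (h2 : orderOf g = 2) :
    (∃ κ ∈ M24, κ * g * κ⁻¹ = gperm repA) ∨ (∃ κ ∈ M24, κ * g * κ⁻¹ = gperm repB) := by
  obtain ⟨ha, hb⟩ := sq_of_orderOf_two h2
  obtain ⟨κ, hκ, h | h⟩ := inv_classify hg ha hb
  · exact Or.inl ⟨κ, hκ, h⟩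
  · exact Or.inr ⟨κ, hκ, h⟩

end Cfsg.Agent.helper2.Golay
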