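import Mathlib
import Cfsg.Agent.Lib_helper2_Ord3
import Cfsg.Agent.Lib_helper2_Inv2

set_option autoImplicit false

namespace Cfsg.Agent.helper2.Golay

open Cfsg Cfsg.Agent.helper27
open scoped Pointwise

/-! ### The two classes of elements of order 3 of `M24` -/

theorem cube_of_orderOf_three {G : Type*} [Group G] {g : G} (h : orderOf g = 3) :
    g * g * g = 1 ∧ g ≠ 1 := by
  constructor
  · have := pow_orderOf_eq_one g
    rw [h, pow_succ, pow_two] at this
    exact this
  · rintro rfl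
    rw [orderOf_one] at h
    exact absurd h (by norm_num)

theorem orderOf_three_of_cube {G : Type*} [Group G] {g : G} (h3 : g * g * g = 1) (h1 : g ≠ 1) :
    orderOf g = 3 := by
  apply orderOf_eq_prime
  · rw [pow_succ, pow_two]
    exact h3
  · exact h1

theorem gperm_cube_one {d : List ℕ × List ℕ} (ht : tablesOK d.1 d.2 = true)
    (h : comp d.1 (comp d.1 d.1) = idTab) : gperm d * gperm d * gperm d = 1 := by
  apply Equiv.Perm.ext
  intro p
  have hs := tablesOK_spec ht
  rw [Equiv.Perm.mul_apply, Equiv.Perm.mul_apply, gperm_apply ht, gperm_apply ht, gperm_apply ht,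
    idx_pt _ (hs _ (idx_lt p)).1, idx_pt _ (hs _ (hs _ (idx_lt p)).1).1,
    ← tb_comp _ _ _ (idx_lt p), ← tb_comp _ _ _ (idx_lt p), h, tb_idTab _ (idx_lt p), pt_idx]
  rfl

theorem rep3A_fix : ∀ p : GolayPt, pt (tb rep3A.1 (idx p)) = p ↔ p ∈ pts 0x264410 := by
  decide +kernel

theorem rep3B_fpf' : ∀ p : GolayPt, pt (tb rep3B.1 (idx p)) ≠ p := by decide +kernel

theorem rep3A_fixed (p : GolayPt) : gperm rep3A p = p ↔ p ∈ pts 0x264410 := by
  rw [gperm_apply rep3A_ok.1]
  exact rep3A_fix p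

theorem rep3B_fpf (p : GolayPt) : gperm rep3B p ≠ p := by
  rw [gperm_apply rep3B_ok.1]
  exact rep3B_fpf' p

theorem rep3A_mem : gperm rep3A ∈ M24 := gperm_mem rep3A_ok.1 rep3A_ok.2

theorem rep3B_mem : gperm rep3B ∈ M24 := gperm_mem rep3B_ok.1 rep3B_ok.2

theorem rep3A_cube : gperm rep3A * gperm rep3A * gperm rep3A = 1 :=
  gperm_cube_one rep3A_ok.1 (by decide +kernel)

theorem rep3B_cube : gperm rep3B * gperm rep3B * gperm rep3B = 1 :=
  gperm_cube_one rep3B_ok.1 (by decide +kernel)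

theorem rep3B_ne_one : gperm rep3B ≠ 1 := by
  intro h
  have := rep3B_fpf (pt 4)
  rw [h] at this
  exact this rfl

theorem rep3A_filter : (Finset.univ.filter fun p => gperm rep3A p = p) = pts 0x264410 := by
  ext p
  rw [Finset.mem_filter]
  simp only [Finset.mem_univ, true_and]
  exact rep3A_fixed p

theorem rep3A_ne_one : gperm rep3A ≠ 1 := by
  intro h
  have h1 := rep3A_filter
  rw [h] at h1
  have h2 : (Finset.univ.filter fun p : GolayPt => (1 : Equiv.Perm GolayPt) p = p)
      = Finset.univ := by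
    ext p
    simp
  rw [h2] at h1
  have h3 := congrArg Finset.card h1
  rw [Finset.card_univ, card_golayPt, card_pts] at h3
  revert h3
  decide +kernel

theorem card_fix_conj_rep3A {g κ : Equiv.Perm GolayPt} (h : κ * g * κ⁻¹ = gperm rep3A) :
    (Finset.univ.filter fun p => g p = p).card = 6 := by
  rw [fix_filter_conj κ g, h, rep3A_filter, Finset.card_smul_finset, card_pts]
  decide +kernel

theorem fpf_of_conj_rep3B {g κ : Equiv.Perm GolayPt} (h : κ * g * κ⁻¹ = gperm rep3B) :
    ∀ p, g p ≠ p := by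
  intro p hp
  have := (fixed_conj κ g (κ p)).mpr (by
    rw [show κ⁻¹ (κ p) = p from Equiv.symm_apply_apply κ p]
    exact hp)
  rw [h] at this
  exact rep3B_fpf _ this

theorem card_fix_conj_rep3B {g κ : Equiv.Perm GolayPt} (h : κ * g * κ⁻¹ = gperm rep3B) :
    (Finset.univ.filter fun p => g p = p).card = 0 := by
  rw [Finset.card_eq_zero, Finset.filter_eq_empty_iff]
  intro p _
  exact fpf_of_conj_rep3B h p

/-- The two classes of elements of order 3. -/
theorem ord3_classes {g : Equiv.Perm GolayPt} (hg : g ∈ M24) (h3 : orderOf g = 3) :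
    (∃ κ ∈ M24, κ * g * κ⁻¹ = gperm rep3A) ∨ (∃ κ ∈ M24, κ * g * κ⁻¹ = gperm rep3B) := by
  obtain ⟨ha, hb⟩ := cube_of_orderOf_three h3
  obtain ⟨κ, hκ, h | h⟩ := ord3_classify hg ha hb
  · exact Or.inl ⟨κ, hκ, h⟩
  · exact Or.inr ⟨κ, hκ, h⟩

theorem rep3A_len : rep3A.1.length = 24 := by decide

theorem rep3B_len : rep3B.1.length = 24 := by decide

end Cfsg.Agent.helper2.Golay
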