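import Mathlib
import Cfsg.Agent.Lib_helper2_K6
import Cfsg.Agent.Lib_helper2_Inv2
import Cfsg.Agent.Lib_helper2_Ord3b

set_option autoImplicit false

namespace Cfsg.Agent.helper2.Golay

open Cfsg Cfsg.Agent.helper27
open scoped Pointwise

/-! ### Structure of the kernel `K6`: order 192, involutions form a subgroup of order 64 -/

theorem k6_orders : k6Pairs.all (fun d => (comp d.1 d.1 == idTab) ||
    (comp d.1 (comp d.1 d.1) == idTab)) = true := by decide +kernel

theorem k6_norm : k6Pairs.all (fun d => d.1 == (List.range 24).map (tb d.1)) = true := by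
  decide +kernel

theorem k6_nodup : (k6Pairs.map (fun d => d.1)).Nodup := by decide +kernel

theorem k6_length : k6Pairs.length = 192 := by decide +kernel

theorem k6_inv_count : (k6Pairs.filter (fun d => comp d.1 d.1 == idTab)).length = 64 := by
  decide +kernel

theorem gperm_inj_k6 : ∀ d ∈ k6Pairs, ∀ d' ∈ k6Pairs, gperm d = gperm d' → d = d' := by
  intro d hd d' hd' h
  have h1 : d.1 = d'.1 := by
    have n1 := List.all_eq_true.mp k6_norm d hd
    have n2 := List.all_eq_true.mp k6_norm d' hd'
    rw [beq_iff_eq] at n1 n2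
    rw [n1, n2]
    apply List.map_congr_left
    intro i hi
    have hi' := List.mem_range.mp hi
    have := congrArg (fun σ : Equiv.Perm GolayPt => idx (σ (pt i))) h
    rw [gperm_pt (k6Pairs_spec d hd).1 hi', gperm_pt (k6Pairs_spec d' hd').1 hi',
      idx_pt _ (tablesOK_spec (k6Pairs_spec d hd).1 i hi').1,
      idx_pt _ (tablesOK_spec (k6Pairs_spec d' hd').1 i hi').1] at this
    exact this
  exact List.inj_on_of_nodup_map k6_nodup hd hd' h1

theorem K6_eq_image : (K6 : Set (Equiv.Perm GolayPt)) = ↑(k6Pairs.map gperm).toFinset := by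
  ext g
  rw [SetLike.mem_coe, mem_K6_iff, Finset.mem_coe, List.mem_toFinset, List.mem_map]
  constructor
  · rintro ⟨d, hd, rfl⟩
    exact ⟨d, hd, rfl⟩
  · rintro ⟨d, hd, rfl⟩
    exact ⟨d, hd, rfl⟩

theorem k6_map_nodup : (k6Pairs.map gperm).Nodup := by
  apply List.Nodup.map_on gperm_inj_k6
  exact List.Nodup.of_map _ k6_nodup

/-- The kernel has order 192. -/
theorem card_K6 : Nat.card K6 = 192 := by
  rw [← SetLike.coe_sort_coe, Nat.card_coe_set_eq, K6_eq_image, Set.ncard_coe_finset,
    List.toFinset_card_of_nodup k6_map_nodup, List.length_map, k6_length]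

/-- Every element of the kernel has order 1, 2 or 3. -/
theorem K6_order {g : Equiv.Perm GolayPt} (hg : g ∈ K6) : g * g = 1 ∨ g * g * g = 1 := by
  obtain ⟨d, hd, rfl⟩ := mem_K6_iff.mp hg
  have := List.all_eq_true.mp k6_orders d hd
  rw [Bool.or_eq_true, beq_iff_eq, beq_iff_eq] at this
  rcases this with h | h
  · exact Or.inl (gperm_sq_one (k6Pairs_spec d hd).1 h)
  · exact Or.inr (gperm_cube_one (k6Pairs_spec d hd).1 h)

theorem gperm_sq_iff {d : List ℕ × List ℕ} (ht : tablesOK d.1 d.2 = true) :
    gperm d * gperm d = 1 ↔ comp d.1 d.1 = idTab := by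
  constructor
  · intro h2
    have hs := tablesOK_spec ht
    apply comp_eq_of_forall _ idTab_eq
    intro i hi
    have := congrArg (fun σ : Equiv.Perm GolayPt => σ (pt i)) h2
    simp only [Equiv.Perm.mul_apply, Equiv.Perm.one_apply] at this
    rw [gperm_pt ht hi, gperm_pt ht (hs i hi).1] at this
    have h3 := congrArg idx this
    rw [idx_pt _ (hs _ (hs i hi).1).1, idx_pt _ hi] at h3
    rw [h3, tb_idTab i hi]
  · exact gperm_sq_one ht

/-- The involutions of the kernel (with the identity). -/
def N6set : Set (Equiv.Perm GolayPt) := {g | g ∈ K6 ∧ g * g = 1}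

theorem N6set_eq : N6set
    = ↑((k6Pairs.filter (fun d => comp d.1 d.1 == idTab)).map gperm).toFinset := by
  ext g
  rw [Finset.mem_coe, List.mem_toFinset, List.mem_map]
  constructor
  · rintro ⟨hg, h2⟩
    obtain ⟨d, hd, rfl⟩ := mem_K6_iff.mp hg
    refine ⟨d, List.mem_filter.mpr ⟨hd, ?_⟩, rfl⟩
    rw [beq_iff_eq]
    exact (gperm_sq_iff (k6Pairs_spec d hd).1).mp h2
  · rintro ⟨d, hd, rfl⟩
    rw [List.mem_filter, beq_iff_eq] at hd
    exact ⟨mem_K6_iff.mpr ⟨d, hd.1, rfl⟩, (gperm_sq_iff (k6Pairs_spec d hd.1).1).mpr hd.2⟩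

theorem ncard_N6set : N6set.ncard = 64 := by
  rw [N6set_eq, Set.ncard_coe_finset, List.toFinset_card_of_nodup, List.length_map, k6_inv_count]
  exact k6_map_nodup.sublist (List.Sublist.map gperm List.filter_sublist)

/-- The involutions of the kernel are closed under multiplication. -/
theorem N6set_mul {a b : Equiv.Perm GolayPt} (ha : a ∈ N6set) (hb : b ∈ N6set) :
    a * b ∈ N6set := by
  classical
  have hfin : Finite K6 := Nat.finite_of_card_ne_zero (by rw [card_K6]; norm_num)
  have hdvd : 2 ^ 6 ∣ Nat.card K6 := by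
    rw [card_K6]
    norm_num
  obtain ⟨P, hP⟩ := Sylow.exists_subgroup_card_pow_prime 2 hdvd
  -- the elements of `P` are involutions
  have hPsub : ∀ x : K6, x ∈ P → (x : Equiv.Perm GolayPt) ∈ N6set := by
    intro x hx
    refine ⟨x.2, ?_⟩
    rcases K6_order x.2 with h | h
    · exact h
    · -- order divides 3 and a power of 2
      have h3 : x ^ 3 = 1 := by
        apply Subtype.ext
        rw [Subgroup.coe_pow, pow_succ, pow_two]
        exact h
      have h64 : x ^ 64 = 1 := by
        have := pow_card_eq_one' (G := P) (x := ⟨x, hx⟩)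
        rw [hP] at this
        have h' := congrArg (Subtype.val : P → K6) this
        simpa using h'
      have h1 : x = 1 := by
        have e : x = x ^ 64 * (x ^ 3) ^ (-21 : ℤ) := by
          rw [← zpow_natCast, ← zpow_natCast, ← zpow_mul, ← zpow_add]
          norm_num
        rw [e, h64, h3]
        simp
      rw [h1]
      simp
  -- so `P`, as a set of permutations, is the set of involutions
  have hPimg : (Subtype.val '' (P : Set K6)) = N6set := by
    apply Set.eq_of_subset_of_ncard_le
    · rintro _ ⟨x, hx, rfl⟩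
      exact hPsub x hx
    · rw [ncard_N6set, Set.ncard_image_of_injective _ Subtype.val_injective,
        ← Nat.card_coe_set_eq]
      exact le_of_eq hP.symm
    · rw [N6set_eq]
      exact Finset.finite_toSet _
  rw [← hPimg] at ha hb ⊢
  obtain ⟨x, hx, rfl⟩ := ha
  obtain ⟨y, hy, rfl⟩ := hb
  exact ⟨x * y, P.mul_mem hx hy, rfl⟩

end Cfsg.Agent.helper2.Golay
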