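import Mathlib
import Cfsg.Agent.Lib_helper2_Fam

set_option autoImplicit false
set_option linter.constructorNameAsVariable false

namespace Cfsg.Agent.helper2.Golay

open Cfsg Cfsg.Agent.helper27
open scoped Pointwise

/-! ### Fast images of masks under a table -/

/-- Image of the mask `a` under the table `L` (entry `i` is the image of point `i`), walking
the table and the bits of `a` simultaneously. -/
def imgAux : List ℕ → ℕ → ℕ → ℕ
  | [], _, acc => acc
  | t :: ts, a, acc => imgAux ts (a / 2) (if a % 2 = 1 then acc ||| 2 ^ t else acc)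

/-- Image of a mask under a table. -/
def img (L : List ℕ) (a : ℕ) : ℕ := imgAux L a 0

theorem testBit_imgAux (L : List ℕ) (a acc j : ℕ) :
    (imgAux L a acc).testBit j = true ↔
      acc.testBit j = true ∨ ∃ i < L.length, a.testBit i = true ∧ L.getD i 0 = j := by
  induction L generalizing a acc with
  | nil =>
    unfold imgAux
    constructor
    · exact fun h => Or.inl h
    · rintro (h | ⟨i, hi, -⟩)
      · exact h
      · exact absurd hi (by simp)
  | cons t ts ih =>
    unfold imgAux
    rw [ih]
    have h0 : a.testBit 0 = decide (a % 2 = 1) := Nat.testBit_zero a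
    constructor
    · rintro (h | ⟨i, hi, hai, hti⟩)
      · split_ifs at h with h2
        · rw [Nat.testBit_or, Bool.or_eq_true, Nat.testBit_two_pow, decide_eq_true_eq] at h
          rcases h with h | h
          · exact Or.inl h
          · refine Or.inr ⟨0, by simp, ?_, ?_⟩
            · rw [h0, decide_eq_true_eq]
              exact h2
            · rw [List.getD_cons_zero]
              exact h
        · exact Or.inl h
      · refine Or.inr ⟨i + 1, by simpa using hi, ?_, ?_⟩
        · rw [Nat.testBit_succ]
          exact hai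
        · rw [List.getD_cons_succ]
          exact hti
    · rintro (h | ⟨i, hi, hai, hti⟩)
      · left
        split_ifs with h2
        · rw [Nat.testBit_or, h, Bool.true_or]
        · exact h
      · cases i with
        | zero =>
          left
          rw [h0, decide_eq_true_eq] at hai
          rw [List.getD_cons_zero] at hti
          rw [if_pos hai, Nat.testBit_or, Nat.testBit_two_pow, hti]
          simp
        | succ i =>
          right
          rw [Nat.testBit_succ] at hai
          rw [List.getD_cons_succ] at hti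
          exact ⟨i, by simpa using hi, hai, hti⟩

theorem pts_img {d : List ℕ × List ℕ} (ht : tablesOK d.1 d.2 = true) (hlen : d.1.length = 24)
    (a : ℕ) : pts (img d.1 a) = gperm d • pts a := by
  ext p
  rw [mem_pts, img, testBit_imgAux, Finset.mem_smul_finset]
  simp only [Nat.zero_testBit, Bool.false_eq_true, false_or]
  constructor
  · rintro ⟨i, hi, hai, hLi⟩
    rw [hlen] at hi
    refine ⟨pt i, (mem_pts_pt hi).mpr hai, ?_⟩
    show gperm d (pt i) = p
    rw [gperm_pt ht hi]
    unfold tb
    rw [hLi, pt_idx]
  · rintro ⟨q, hq, rfl⟩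
    refine ⟨idx q, by rw [hlen]; exact idx_lt q, mem_pts.mp hq, ?_⟩
    show _ = idx (gperm d q)
    rw [gperm_apply ht, idx_pt _ (tablesOK_spec ht _ (idx_lt q)).1]
    rfl

theorem gperm_smul_famFin_img {d : List ℕ × List ℕ} (ht : tablesOK d.1 d.2 = true)
    (hlen : d.1.length = 24) (L : List ℕ) :
    gperm d • famFin L = famFin (L.map (img d.1)) := by
  apply smul_famFin _ _ _ (by rw [List.length_map])
  intro i hi
  rw [← pts_img ht hlen, List.getD_eq_getElem _ _ hi,
    List.getD_eq_getElem _ _ (by rw [List.length_map]; exact hi), List.getElem_map]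

/-! ### Depth-first orbit certificates -/

/-- Check of a depth-first certificate.  Each entry is `(pop, generator index, family)`: after
dropping `pop` families from the stack, the family on top is the parent, and the generator
maps it to the family of the entry, which is then pushed. -/
def dfsAux (gens : List (List ℕ × List ℕ)) :
    List (ℕ × ℕ × List ℕ) → List (List ℕ) → Bool
  | [], _ => true
  | e :: rest, stack =>
    match stack.drop e.1 with
    | [] => false
    | P :: st =>
      decide (e.2.1 < gens.length) &&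
        (sameSet (P.map (img (gens.getD e.2.1 ([], [])).1)) e.2.2 &&
          dfsAux gens rest (e.2.2 :: P :: st))

theorem dfsAux_spec (K : Subgroup (Equiv.Perm GolayPt)) (gens : List (List ℕ × List ℕ))
    (hgens : ∀ d ∈ gens, tablesOK d.1 d.2 = true ∧ d.1.length = 24 ∧ gperm d ∈ K)
    (R : Finset (Finset GolayPt)) :
    ∀ (es : List (ℕ × ℕ × List ℕ)) (stack : List (List ℕ)),
      (∀ P ∈ stack, ∃ k ∈ K, k • R = famFin P) → dfsAux gens es stack = true →
      ∀ e ∈ es, ∃ k ∈ K, k • R = famFin e.2.2 := by
  intro es
  induction es with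
  | nil =>
    intro _ _ _ e he
    exact absurd he (by simp)
  | cons e rest ih =>
    intro stack hst h
    unfold dfsAux at h
    split at h
    · exact absurd h (by simp)
    · rename_i P st hdrop
      rw [Bool.and_eq_true, Bool.and_eq_true, decide_eq_true_eq] at h
      obtain ⟨hlt, hsame, hrest⟩ := h
      have hP : P ∈ stack := by
        have : P ∈ stack.drop e.1 := by rw [hdrop]; exact List.mem_cons_self
        exact List.mem_of_mem_drop this
      have hst' : ∀ Q ∈ st, Q ∈ stack := by
        intro Q hQ
        have : Q ∈ stack.drop e.1 := by rw [hdrop]; exact List.mem_cons_of_mem _ hQ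
        exact List.mem_of_mem_drop this
      have hmem : gens.getD e.2.1 ([], []) ∈ gens := by
        rw [List.getD_eq_getElem _ _ hlt]
        exact List.getElem_mem _
      obtain ⟨ht, hlen, hK⟩ := hgens _ hmem
      obtain ⟨k, hk, hkP⟩ := hst P hP
      have he : ∃ k ∈ K, k • R = famFin e.2.2 := by
        refine ⟨gperm _ * k, K.mul_mem hK hk, ?_⟩
        rw [mul_smul, hkP, gperm_smul_famFin_img ht hlen, famFin_eq_of_sameSet hsame]
      intro e' he'
      rcases List.mem_cons.mp he' with rfl | he'
      · exact he
      · refine ih (e.2.2 :: P :: st) ?_ hrest e' he'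
        intro Q hQ
        rcases List.mem_cons.mp hQ with rfl | hQ
        · exact he
        · rcases List.mem_cons.mp hQ with rfl | hQ
          · exact hst _ hP
          · exact hst _ (hst' Q hQ)

/-! ### Binary search trees for duplicate detection -/

/-- Binary trees with natural number keys. -/
inductive BT where
  | leaf : BT
  | node : BT → ℕ → BT → BT

/-- Search along the comparison path. -/
def BT.find : BT → ℕ → Bool
  | .leaf, _ => false
  | .node l k r, x => if x < k then l.find x else if k < x then r.find x else true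

/-- Insertion along the comparison path, failing on a key already met. -/
def BT.ins : BT → ℕ → Option BT
  | .leaf, x => some (.node .leaf x .leaf)
  | .node l k r, x =>
    if x < k then (l.ins x).map (fun l' => .node l' k r)
    else if k < x then (r.ins x).map (fun r' => .node l k r')
    else none

theorem BT.ins_spec : ∀ (t t' : BT) (x : ℕ), t.ins x = some t' →
    t.find x = false ∧ ∀ y, t'.find y = (t.find y || decide (y = x)) := by
  intro t
  induction t with
  | leaf =>
    intro t' x h
    unfold BT.ins at h
    rw [Option.some.injEq] at h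
    subst h
    refine ⟨rfl, fun y => ?_⟩
    unfold BT.find
    by_cases h1 : y < x
    · rw [if_pos h1]
      have : y ≠ x := by omega
      simp [BT.find, this]
    · rw [if_neg h1]
      by_cases h2 : x < y
      · rw [if_pos h2]
        have : y ≠ x := by omega
        simp [BT.find, this]
      · rw [if_neg h2]
        have : y = x := by omega
        simp [this]
  | node l k r ihl ihr =>
    intro t' x h
    unfold BT.ins at h
    by_cases h1 : x < k
    · rw [if_pos h1, Option.map_eq_some_iff] at h
      obtain ⟨l', hl', rfl⟩ := h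
      obtain ⟨hf, hall⟩ := ihl l' x hl'
      refine ⟨?_, fun y => ?_⟩
      · unfold BT.find
        rw [if_pos h1]
        exact hf
      · unfold BT.find
        by_cases h3 : y < k
        · rw [if_pos h3, if_pos h3]
          exact hall y
        · rw [if_neg h3, if_neg h3]
          have : y ≠ x := by omega
          simp [this]
    · rw [if_neg h1] at h
      by_cases h2 : k < x
      · rw [if_pos h2, Option.map_eq_some_iff] at h
        obtain ⟨r', hr', rfl⟩ := h
        obtain ⟨hf, hall⟩ := ihr r' x hr'
        refine ⟨?_, fun y => ?_⟩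
        · unfold BT.find
          rw [if_neg h1, if_pos h2]
          exact hf
        · unfold BT.find
          by_cases h3 : y < k
          · rw [if_pos h3, if_pos h3]
            have : y ≠ x := by omega
            simp [this]
          · rw [if_neg h3, if_neg h3]
            by_cases h4 : k < y
            · rw [if_pos h4, if_pos h4]
              exact hall y
            · rw [if_neg h4, if_neg h4]
              simp
      · rw [if_neg h2] at h
        exact absurd h (by simp)

/-- Insert a list of keys, failing on duplicates. -/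
def BT.insAll : BT → List ℕ → Option BT
  | t, [] => some t
  | t, x :: xs =>
    match t.ins x with
    | none => none
    | some t' => t'.insAll xs

theorem BT.insAll_spec : ∀ (xs : List ℕ) (t t' : BT), t.insAll xs = some t' →
    xs.Nodup ∧ ∀ x ∈ xs, t.find x = false := by
  intro xs
  induction xs with
  | nil =>
    intro t t' _
    exact ⟨List.nodup_nil, fun x hx => absurd hx (by simp)⟩
  | cons x xs ih =>
    intro t t' h
    unfold BT.insAll at h
    split at h
    · exact absurd h (by simp)
    · rename_i t1 hins
      obtain ⟨hf, hall⟩ := BT.ins_spec t t1 x hins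
      obtain ⟨hnd, hfind⟩ := ih t1 t' h
      refine ⟨List.nodup_cons.mpr ⟨?_, hnd⟩, ?_⟩
      · intro hx
        have := hfind x hx
        rw [hall x] at this
        simp at this
      · intro y hy
        rcases List.mem_cons.mp hy with rfl | hy
        · exact hf
        · have := hfind y hy
          rw [hall y, Bool.or_eq_false_iff] at this
          exact this.1

theorem nodup_of_insAll {xs : List ℕ} (h : (BT.leaf.insAll xs).isSome = true) : xs.Nodup := by
  obtain ⟨t', ht'⟩ := Option.isSome_iff_exists.mp h
  exact (BT.insAll_spec xs _ t' ht').1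

/-! ### Canonical (strictly decreasing) lists of masks -/

/-- Strictly decreasing below the bound. -/
def descAux : ℕ → List ℕ → Bool
  | _, [] => true
  | b, a :: as => decide (a < b) && descAux a as

/-- Strictly decreasing list of 24-bit masks. -/
def desc (L : List ℕ) : Bool := descAux (2 ^ 24) L

theorem descAux_spec : ∀ (L : List ℕ) (b : ℕ), descAux b L = true →
    (∀ a ∈ L, a < b) ∧ L.Pairwise (· > ·) := by
  intro L
  induction L with
  | nil =>
    intro b _
    exact ⟨fun a ha => absurd ha (by simp), List.Pairwise.nil⟩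
  | cons a as ih =>
    intro b h
    unfold descAux at h
    rw [Bool.and_eq_true, decide_eq_true_eq] at h
    obtain ⟨h1, h2⟩ := ih a h.2
    refine ⟨?_, List.pairwise_cons.mpr ⟨fun a' ha' => h1 a' ha', h2⟩⟩
    intro a' ha'
    rcases List.mem_cons.mp ha' with rfl | ha'
    · exact h.1
    · exact lt_trans (h1 a' ha') h.1

theorem famFin_inj_desc {L L' : List ℕ} (h : desc L = true) (h' : desc L' = true)
    (he : famFin L = famFin L') : L = L' := by
  obtain ⟨h1, h2⟩ := descAux_spec L _ h
  obtain ⟨h1', h2'⟩ := descAux_spec L' _ h'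
  apply List.Pairwise.eq_of_mem_iff h2 h2'
  intro a
  constructor
  · intro ha
    have : pts a ∈ famFin L' := by
      rw [← he]
      exact mem_famFin.mpr ⟨a, ha, rfl⟩
    obtain ⟨b, hb, hba⟩ := mem_famFin.mp this
    rw [← pts_inj_lt (h1' b hb) (h1 a ha) hba]
    exact hb
  · intro ha
    have : pts a ∈ famFin L := by
      rw [he]
      exact mem_famFin.mpr ⟨a, ha, rfl⟩
    obtain ⟨b, hb, hba⟩ := mem_famFin.mp this
    rw [← pts_inj_lt (h1 b hb) (h1' a ha) hba]
    exact hb

/-! ### Orbit decompositions from certificates -/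

/-- The families of one certificate `(value, root, entries)`. -/
def certFams (ct : ℕ × List ℕ × List (ℕ × ℕ × List ℕ)) : List (List ℕ) :=
  ct.2.1 :: ct.2.2.map (fun e => e.2.2)

/-- All families of a list of certificates. -/
def allFams (certs : List (ℕ × List ℕ × List (ℕ × ℕ × List ℕ))) : List (List ℕ) :=
  certs.flatMap certFams

/-- The full check of a list of certificates. -/
def certOK (gens : List (List ℕ × List ℕ)) (key : List ℕ → ℕ)
    (certs : List (ℕ × List ℕ × List (ℕ × ℕ × List ℕ))) (N : ℕ) : Bool :=
  gens.all (fun d => d.1.length == 24) &&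
    (certs.all (fun ct => dfsAux gens ct.2.2 [ct.2.1]) &&
      ((allFams certs).all desc &&
        ((BT.leaf.insAll ((allFams certs).map key)).isSome &&
          ((allFams certs).length == N))))

theorem dfs_classes (K : Subgroup (Equiv.Perm GolayPt)) (Ω : Set (Finset (Finset GolayPt)))
    (N : ℕ) (hΩ : Ω.ncard = N) (hN : 0 < N)
    (hK : ∀ k ∈ K, ∀ X ∈ Ω, k • X ∈ Ω)
    (c : Finset (Finset GolayPt) → ℕ) (hc : ∀ k ∈ K, ∀ X, c (k • X) = c X)
    (gens : List (List ℕ × List ℕ))
    (hgens : ∀ d ∈ gens, tablesOK d.1 d.2 = true ∧ gperm d ∈ K)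
    (key : List ℕ → ℕ) (certs : List (ℕ × List ℕ × List (ℕ × ℕ × List ℕ)))
    (hcert : certOK gens key certs N = true)
    (hroots : ∀ ct ∈ certs, famFin ct.2.1 ∈ Ω ∧ c (famFin ct.2.1) = ct.1)
    (hvals : (certs.map (fun ct => ct.1)).Nodup) :
    (∀ X ∈ Ω, c X ∈ certs.map (fun ct => ct.1)) ∧
    (∀ ct ∈ certs, {X | X ∈ Ω ∧ c X = ct.1}.ncard = ct.2.2.length + 1) ∧
    (∀ X ∈ Ω, ∀ Y ∈ Ω, c X = c Y → ∃ k ∈ K, k • X = Y) := by
  classical
  unfold certOK at hcert
  simp only [Bool.and_eq_true, List.all_eq_true, beq_iff_eq] at hcert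
  obtain ⟨hlen, hdfs, hdesc, hkeys, hcount⟩ := hcert
  have hgens' : ∀ d ∈ gens, tablesOK d.1 d.2 = true ∧ d.1.length = 24 ∧ gperm d ∈ K :=
    fun d hd => ⟨(hgens d hd).1, hlen d hd, (hgens d hd).2⟩
  -- reachability
  have hreach : ∀ ct ∈ certs, ∀ L ∈ certFams ct, ∃ k ∈ K, k • famFin ct.2.1 = famFin L := by
    intro ct hct L hL
    unfold certFams at hL
    rcases List.mem_cons.mp hL with rfl | hL
    · exact ⟨1, K.one_mem, one_smul _ _⟩
    · obtain ⟨e, he, rfl⟩ := List.mem_map.mp hL
      refine dfsAux_spec K gens hgens' (famFin ct.2.1) ct.2.2 [ct.2.1] ?_ (hdfs ct hct) e he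
      intro P hP
      rw [List.mem_singleton] at hP
      subst hP
      exact ⟨1, K.one_mem, one_smul _ _⟩
  have hin : ∀ ct ∈ certs, ∀ L ∈ certFams ct, famFin L ∈ Ω ∧ c (famFin L) = ct.1 := by
    intro ct hct L hL
    obtain ⟨k, hk, hkL⟩ := hreach ct hct L hL
    rw [← hkL]
    exact ⟨hK k hk _ (hroots ct hct).1, by rw [hc k hk]; exact (hroots ct hct).2⟩
  -- distinctness
  have hnd0 : (allFams certs).Nodup := List.Nodup.of_map key (nodup_of_insAll hkeys)
  have hnd : ((allFams certs).map famFin).Nodup := by
    apply List.Nodup.map_on _ hnd0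
    intro L hL L' hL' he
    exact famFin_inj_desc (hdesc L hL) (hdesc L' hL') he
  have hfin : Ω.Finite := Set.finite_of_ncard_pos (by rw [hΩ]; exact hN)
  have hsub : (↑((allFams certs).map famFin).toFinset : Set (Finset (Finset GolayPt))) ⊆ Ω := by
    intro X hX
    rw [Finset.mem_coe, List.mem_toFinset, List.mem_map] at hX
    obtain ⟨L, hL, rfl⟩ := hX
    unfold allFams at hL
    obtain ⟨ct, hct, hLct⟩ := List.mem_flatMap.mp hL
    exact (hin ct hct L hLct).1
  have heq : (↑((allFams certs).map famFin).toFinset : Set (Finset (Finset GolayPt))) = Ω := by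
    apply Set.eq_of_subset_of_ncard_le hsub _ hfin
    rw [Set.ncard_coe_finset, List.toFinset_card_of_nodup hnd, List.length_map, hcount, hΩ]
  have hall : ∀ X ∈ Ω, ∃ ct ∈ certs, ∃ L ∈ certFams ct, X = famFin L := by
    intro X hX
    rw [← heq, Finset.mem_coe, List.mem_toFinset, List.mem_map] at hX
    obtain ⟨L, hL, rfl⟩ := hX
    unfold allFams at hL
    obtain ⟨ct, hct, hLct⟩ := List.mem_flatMap.mp hL
    exact ⟨ct, hct, L, hLct, rfl⟩
  have hinj : ∀ ct ∈ certs, ∀ ct' ∈ certs, ct.1 = ct'.1 → ct = ct' := by
    intro ct hct ct' hct' h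
    exact List.inj_on_of_nodup_map hvals hct hct' h
  refine ⟨?_, ?_, ?_⟩
  · intro X hX
    obtain ⟨ct, hct, L, hL, rfl⟩ := hall X hX
    rw [(hin ct hct L hL).2]
    exact List.mem_map.mpr ⟨ct, hct, rfl⟩
  · intro ct hct
    have hset : {X | X ∈ Ω ∧ c X = ct.1}
        = ↑((certFams ct).map famFin).toFinset := by
      ext X
      rw [Set.mem_ofPred_eq, Finset.mem_coe, List.mem_toFinset, List.mem_map]
      constructor
      · rintro ⟨hX, hcX⟩
        obtain ⟨ct', hct', L, hL, rfl⟩ := hall X hX
        have : ct' = ct := hinj ct' hct' ct hct (by rw [← (hin ct' hct' L hL).2, hcX])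
        subst this
        exact ⟨L, hL, rfl⟩
      · rintro ⟨L, hL, rfl⟩
        exact hin ct hct L hL
    have hnd1 : ((certFams ct).map famFin).Nodup := by
      have h1 : (allFams certs).map famFin
          = certs.flatMap (fun ct => (certFams ct).map famFin) := by
        unfold allFams
        rw [List.map_flatMap]
      rw [h1, List.nodup_flatMap] at hnd
      exact hnd.1 ct hct
    rw [hset, Set.ncard_coe_finset, List.toFinset_card_of_nodup hnd1, List.length_map]
    unfold certFams
    rw [List.length_cons, List.length_map]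
  · intro X hX Y hY hXY
    obtain ⟨ct, hct, L, hL, rfl⟩ := hall X hX
    obtain ⟨ct', hct', L', hL', rfl⟩ := hall Y hY
    have : ct = ct' := hinj ct hct ct' hct'
      (by rw [← (hin ct hct L hL).2, ← (hin ct' hct' L' hL').2, hXY])
    subst this
    obtain ⟨k, hk, hkL⟩ := hreach ct hct L hL
    obtain ⟨k', hk', hkL'⟩ := hreach ct hct L' hL'
    refine ⟨k' * k⁻¹, K.mul_mem hk' (K.inv_mem hk), ?_⟩
    rw [mul_smul, ← hkL, inv_smul_smul, hkL']

/-- The list of `(value, size)` of a list of certificates. -/
def certSizes (certs : List (ℕ × List ℕ × List (ℕ × ℕ × List ℕ))) : List (ℕ × ℕ) :=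
  certs.map (fun ct => (ct.1, ct.2.2.length + 1))

/-- Variant of `dfs_classes` phrased with `certSizes`. -/
theorem dfs_classes' (K : Subgroup (Equiv.Perm GolayPt)) (Ω : Set (Finset (Finset GolayPt)))
    (N : ℕ) (hΩ : Ω.ncard = N) (hN : 0 < N)
    (hK : ∀ k ∈ K, ∀ X ∈ Ω, k • X ∈ Ω)
    (c : Finset (Finset GolayPt) → ℕ) (hc : ∀ k ∈ K, ∀ X, c (k • X) = c X)
    (gens : List (List ℕ × List ℕ))
    (hgens : ∀ d ∈ gens, tablesOK d.1 d.2 = true ∧ gperm d ∈ K)
    (key : List ℕ → ℕ) (certs : List (ℕ × List ℕ × List (ℕ × ℕ × List ℕ)))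
    (hcert : certOK gens key certs N = true)
    (hroots : ∀ ct ∈ certs, famFin ct.2.1 ∈ Ω ∧ c (famFin ct.2.1) = ct.1)
    (sizes : List (ℕ × ℕ)) (hsizes : certSizes certs = sizes)
    (hvals : (sizes.map (fun p => p.1)).Nodup) :
    (∀ X ∈ Ω, c X ∈ sizes.map (fun p => p.1)) ∧
    (∀ p ∈ sizes, {X | X ∈ Ω ∧ c X = p.1}.ncard = p.2) ∧
    (∀ X ∈ Ω, ∀ Y ∈ Ω, c X = c Y → ∃ k ∈ K, k • X = Y) := by
  subst hsizes
  have hm : (certSizes certs).map (fun p => p.1) = certs.map (fun ct => ct.1) := by
    unfold certSizes
    rw [List.map_map]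
    rfl
  rw [hm] at hvals ⊢
  obtain ⟨h1, h2, h3⟩ := dfs_classes K Ω N hΩ hN hK c hc gens hgens key certs hcert hroots hvals
  refine ⟨h1, ?_, h3⟩
  intro p hp
  unfold certSizes at hp
  obtain ⟨ct, hct, rfl⟩ := List.mem_map.mp hp
  exact h2 ct hct

end Cfsg.Agent.helper2.Golay
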