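import Mathlib
import Cfsg.Agent.Lib_helper2_Sext
import Cfsg.Prelude.Def_SporadicCombinatorics

set_option autoImplicit false
set_option linter.constructorNameAsVariable false

namespace Cfsg.Agent.helper2.Golay

open Cfsg Cfsg.Agent.helper27
open scoped Pointwise

/-! ### Abstract facts on sextets -/

theorem sextet_disjoint {S : Finset (Finset GolayPt)} (hS : S ∈ sextets) {t u : Finset GolayPt}
    (ht : t ∈ S) (hu : u ∈ S) (htu : t ≠ u) : Disjoint t u := by
  obtain ⟨_, h4, hoct⟩ := hS
  have h8 := octads_steiner.1 _ (hoct t ht u hu htu)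
  have h1 := Finset.card_union_add_card_inter t u
  rw [h8, h4 t ht, h4 u hu] at h1
  rw [Finset.disjoint_iff_inter_eq_empty, ← Finset.card_eq_zero]
  omega

theorem sextet_cover {S : Finset (Finset GolayPt)} (hS : S ∈ sextets) (x : GolayPt) :
    ∃ u ∈ S, x ∈ u := by
  have hd : (S : Set (Finset GolayPt)).PairwiseDisjoint id := by
    intro t ht u hu htu
    exact sextet_disjoint hS ht hu htu
  have hcard : (S.biUnion id).card = 24 := by
    rw [Finset.card_biUnion hd]
    have : ∀ t ∈ S, (id t : Finset GolayPt).card = 4 := fun t ht => hS.2.1 t ht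
    rw [Finset.sum_congr rfl this, Finset.sum_const, hS.1]
    rfl
  have huniv : S.biUnion id = Finset.univ := by
    apply Finset.eq_univ_of_card
    rw [hcard]
    rfl
  have hx : x ∈ S.biUnion id := by rw [huniv]; exact Finset.mem_univ x
  rw [Finset.mem_biUnion] at hx
  obtain ⟨u, hu, hxu⟩ := hx
  exact ⟨u, hu, hxu⟩

theorem sextet_subset {S S' : Finset (Finset GolayPt)} (hS : S ∈ sextets) (hS' : S' ∈ sextets)
    {t : Finset GolayPt} (ht : t ∈ S) (ht' : t ∈ S') : S ⊆ S' := by
  intro u hu
  by_cases hut : u = t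
  · rw [hut]; exact ht'
  · have hu4 : u.card = 4 := hS.2.1 u hu
    have hune : u.Nonempty := by
      rw [← Finset.card_pos, hu4]; norm_num
    obtain ⟨x, hx⟩ := hune
    have hdtu := sextet_disjoint hS ht hu (Ne.symm hut)
    have hxt : x ∉ t := fun h => (Finset.disjoint_left.mp hdtu) h hx
    obtain ⟨u', hu', hxu'⟩ := sextet_cover hS' x
    have hu't : u' ≠ t := by
      rintro rfl
      exact hxt hxu'
    have hdtu' := sextet_disjoint hS' ht' hu' (Ne.symm hu't)
    have ho1 := hS.2.2 t ht u hu (Ne.symm hut)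
    have ho2 := hS'.2.2 t ht' u' hu' (Ne.symm hu't)
    -- both octads contain the five points t ∪ {x}
    have h5 : (insert x t).card = 5 := by
      rw [Finset.card_insert_of_notMem hxt, hS.2.1 t ht]
    obtain ⟨b, _, huniq⟩ := octads_steiner.2 _ h5
    have e1 : t ∪ u = b := by
      apply huniq
      refine ⟨ho1, ?_⟩
      intro y hy
      rw [Finset.mem_insert] at hy
      rcases hy with rfl | hy
      · exact Finset.mem_union_right _ hx
      · exact Finset.mem_union_left _ hy
    have e2 : t ∪ u' = b := by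
      apply huniq
      refine ⟨ho2, ?_⟩
      intro y hy
      rw [Finset.mem_insert] at hy
      rcases hy with rfl | hy
      · exact Finset.mem_union_right _ hxu'
      · exact Finset.mem_union_left _ hy
    have e3 : u = u' := by
      have h1 : (t ∪ u) \ t = u := Finset.union_sdiff_cancel_left hdtu
      have h2 : (t ∪ u') \ t = u' := Finset.union_sdiff_cancel_left hdtu'
      rw [← h1, ← h2, e1, e2]
    rw [e3]
    exact hu'

theorem sextet_unique {S S' : Finset (Finset GolayPt)} (hS : S ∈ sextets) (hS' : S' ∈ sextets)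
    {t : Finset GolayPt} (ht : t ∈ S) (ht' : t ∈ S') : S = S' :=
  Finset.Subset.antisymm (sextet_subset hS hS' ht ht') (sextet_subset hS' hS ht' ht)

theorem smul_mem_sextets {g : Equiv.Perm GolayPt} (hg : g ∈ M24) {S : Finset (Finset GolayPt)}
    (hS : S ∈ sextets) : g • S ∈ sextets := by
  obtain ⟨h6, h4, hoct⟩ := hS
  refine ⟨by rw [Finset.card_smul_finset, h6], ?_, ?_⟩
  · intro t ht
    obtain ⟨t0, ht0, rfl⟩ := Finset.mem_smul_finset.mp ht
    rw [Finset.card_smul_finset]
    exact h4 t0 ht0
  · intro t ht u hu htu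
    obtain ⟨t0, ht0, rfl⟩ := Finset.mem_smul_finset.mp ht
    obtain ⟨u0, hu0, rfl⟩ := Finset.mem_smul_finset.mp hu
    rw [← Finset.smul_finset_union]
    apply smul_mem_octads' hg
    apply hoct t0 ht0 u0 hu0
    rintro rfl
    exact htu rfl

/-! ### The table of sextets -/

theorem testBit_foldl_or (L : List ℕ) (init i : ℕ) :
    (L.foldl (fun x y => x ||| y) init).testBit i
      = (init.testBit i || L.any (fun a => a.testBit i)) := by
  induction L generalizing init with
  | nil => simp
  | cons a L ih =>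
    rw [List.foldl_cons, ih, Nat.testBit_or, List.any_cons, Bool.or_assoc]

theorem sxOK_spec {L : List ℕ} (h : sxOK L = true) :
    L.length = 6 ∧ (∀ a ∈ L, wt a = 4) ∧
      (∀ i < 6, ∀ j < i, isOct8 (L.getD i 0 ||| L.getD j 0) = true) ∧
      L.foldl (fun x y => x ||| y) 0 = 2 ^ 24 - 1 := by
  unfold sxOK at h
  simp only [Bool.and_eq_true, beq_iff_eq, List.all_eq_true, List.mem_range] at h
  exact ⟨h.1.1.1, h.1.1.2, h.1.2, h.2⟩

theorem sx_cover {L : List ℕ} (h : sxOK L = true) (p : GolayPt) : ∃ a ∈ L, p ∈ pts a := by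
  have h1 := (sxOK_spec h).2.2.2
  have h2 : (L.foldl (fun x y => x ||| y) 0).testBit (idx p) = true := by
    rw [h1]
    have : ∀ i < 24, (2 ^ 24 - 1).testBit i = true := by decide
    exact this _ (idx_lt p)
  rw [testBit_foldl_or, Nat.zero_testBit, Bool.false_or, List.any_eq_true] at h2
  obtain ⟨a, ha, hap⟩ := h2
  exact ⟨a, ha, mem_pts.mpr hap⟩

theorem sx_pair {L : List ℕ} (h : sxOK L = true) {i j : ℕ} (hi : i < 6) (hj : j < 6)
    (hij : i ≠ j) : pts (L.getD i 0) ∪ pts (L.getD j 0) ∈ octads ∧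
      Disjoint (pts (L.getD i 0)) (pts (L.getD j 0)) := by
  obtain ⟨hlen, h4, hoct, _⟩ := sxOK_spec h
  have key : pts (L.getD i 0) ∪ pts (L.getD j 0) ∈ octads := by
    rw [← pts_or]
    rcases lt_or_gt_of_ne hij with hlt | hlt
    · rw [Nat.lor_comm]
      exact pts_mem_octads_of_isOct8 (hoct j hj i hlt)
    · exact pts_mem_octads_of_isOct8 (hoct i hi j hlt)
  refine ⟨key, ?_⟩
  have h8 := octads_steiner.1 _ key
  have hmi : L.getD i 0 ∈ L := by
    rw [List.getD_eq_getElem _ _ (by omega)]; exact List.getElem_mem _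
  have hmj : L.getD j 0 ∈ L := by
    rw [List.getD_eq_getElem _ _ (by omega)]; exact List.getElem_mem _
  have h1 := Finset.card_union_add_card_inter (pts (L.getD i 0)) (pts (L.getD j 0))
  rw [h8, card_pts, card_pts, h4 _ hmi, h4 _ hmj] at h1
  rw [Finset.disjoint_iff_inter_eq_empty, ← Finset.card_eq_zero]
  omega

theorem exists_index {L : List ℕ} (hlen : L.length = 6) {a : ℕ} (ha : a ∈ L) :
    ∃ i < 6, L.getD i 0 = a := by
  obtain ⟨i, hi, rfl⟩ := List.mem_iff_getElem.mp ha
  exact ⟨i, hlen ▸ hi, List.getD_eq_getElem _ _ hi⟩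

theorem famFin_mem_sextets {L : List ℕ} (h : sxOK L = true) : famFin L ∈ sextets := by
  obtain ⟨hlen, h4, _, _⟩ := sxOK_spec h
  refine ⟨?_, ?_, ?_⟩
  · unfold famFin
    rw [List.toFinset_card_of_nodup, List.length_map, hlen]
    rw [List.Nodup, List.pairwise_iff_getElem]
    intro i j hi hj hij
    rw [List.length_map] at hi hj
    rw [List.getElem_map, List.getElem_map]
    intro heq
    have hd := (sx_pair h (i := i) (j := j) (by omega) (by omega) (by omega)).2
    rw [List.getD_eq_getElem _ _ hi, List.getD_eq_getElem _ _ hj, heq,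
      Finset.disjoint_self_iff_empty] at hd
    have h4j := h4 _ (List.getElem_mem hj)
    rw [← card_pts, hd] at h4j
    exact absurd h4j (by norm_num)
  · intro t ht
    obtain ⟨a, ha, rfl⟩ := mem_famFin.mp ht
    rw [card_pts, h4 a ha]
  · intro t ht u hu htu
    obtain ⟨a, ha, rfl⟩ := mem_famFin.mp ht
    obtain ⟨b, hb, rfl⟩ := mem_famFin.mp hu
    obtain ⟨i, hi, rfl⟩ := exists_index hlen ha
    obtain ⟨j, hj, rfl⟩ := exists_index hlen hb
    have hij : i ≠ j := by
      rintro rfl
      exact htu rfl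
    exact (sx_pair h hi hj hij).1

theorem sxAll_getD_ok {i : ℕ} (hi : i < sxAll.length) : sxOK (sxAll.getD i []) = true := by
  have h := sxAll_ok
  rw [List.all_eq_true] at h
  apply h
  rw [List.getD_eq_getElem _ _ hi]
  exact List.getElem_mem _

theorem sx_mem_sextets {i : ℕ} (hi : i < sxAll.length) : famFin (sxAll.getD i []) ∈ sextets :=
  famFin_mem_sextets (sxAll_getD_ok hi)

/-- Every sextet occurs in the table. -/
theorem exists_sx_index {S : Finset (Finset GolayPt)} (hS : S ∈ sextets) :
    ∃ i < sxAll.length, S = famFin (sxAll.getD i []) := by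
  obtain ⟨t, ht, h23⟩ := sextet_cover hS (pt 23)
  have ht4 : t.card = 4 := hS.2.1 t ht
  have h3 : (t.erase (pt 23)).card = 3 := by
    rw [Finset.card_erase_of_mem h23, ht4]
  obtain ⟨b, hb, hbt⟩ := exists_threeSet h3
  have hb23 : b.testBit 23 = false := by
    have : pt 23 ∉ pts b := by
      rw [← hbt]
      exact Finset.notMem_erase _ _
    rw [mem_pts_pt (by norm_num)] at this
    simpa using this
  have hkey : t = pts (2 ^ 23 + b) := by
    rw [three_or b hb hb23, pts_or, pts_pow23, ← hbt, ← Finset.insert_eq,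
      Finset.insert_erase h23]
  -- position of the key in the table
  have hmem : 2 ^ 23 + b ∈ sxAll.map (fun L => L.headD 0) := by
    rw [sxAll_keys, List.mem_map]
    refine ⟨b, List.mem_filter.mpr ⟨hb, ?_⟩, rfl⟩
    rw [hb23]
    rfl
  rw [List.mem_map] at hmem
  obtain ⟨L, hL, hLk⟩ := hmem
  obtain ⟨i, hi, rfl⟩ := List.mem_iff_getElem.mp hL
  refine ⟨i, hi, ?_⟩
  rw [List.getD_eq_getElem _ _ hi]
  have hok : sxOK sxAll[i] = true := by
    have := sxAll_getD_ok hi
    rwa [List.getD_eq_getElem _ _ hi] at this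
  apply sextet_unique hS (famFin_mem_sextets hok) ht
  rw [mem_famFin]
  refine ⟨sxAll[i].headD 0, ?_, by rw [hLk, hkey]⟩
  have hlen := (sxOK_spec hok).1
  cases hl : sxAll[i] with
  | nil => rw [hl] at hlen; exact absurd hlen (by norm_num)
  | cons a tl => simp

end Cfsg.Agent.helper2.Golay
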