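import Mathlib
import Cfsg.Agent.Lib_helper2_Sext2

set_option autoImplicit false
set_option linter.constructorNameAsVariable false

namespace Cfsg.Agent.helper2.Golay

open Cfsg Cfsg.Agent.helper27
open scoped Pointwise

/-! ### Toolkit for sextet orbit statements -/

theorem sxAll_keys_chain : (sxAll.map (fun L => L.headD 0)).IsChain (· < ·) := by decide +kernel

theorem sxAll_keys_nodup : (sxAll.map (fun L => L.headD 0)).Nodup := by
  have h := List.isChain_iff_pairwise.mp sxAll_keys_chain
  exact h.imp (fun h => ne_of_lt h)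

theorem sxAll_keys_23 : sxAll.all (fun L => (L.headD 0).testBit 23 && decide (L.headD 0 < 2 ^ 24))
    = true := by decide +kernel

theorem sx_key_mem {i : ℕ} (hi : i < sxAll.length) :
    pts ((sxAll.getD i []).headD 0) ∈ famFin (sxAll.getD i []) := by
  rw [mem_famFin]
  refine ⟨_, ?_, rfl⟩
  have hlen := (sxOK_spec (sxAll_getD_ok hi)).1
  cases hl : sxAll.getD i [] with
  | nil => rw [hl] at hlen; exact absurd hlen (by norm_num)
  | cons a tl => simp

theorem sx_key_23 {i : ℕ} (hi : i < sxAll.length) :
    pt 23 ∈ pts ((sxAll.getD i []).headD 0) ∧ (sxAll.getD i []).headD 0 < 2 ^ 24 := by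
  have h := sxAll_keys_23
  rw [List.all_eq_true] at h
  have h1 := h (sxAll.getD i []) (by
    rw [List.getD_eq_getElem _ _ hi]; exact List.getElem_mem _)
  simp only [Bool.and_eq_true, decide_eq_true_eq] at h1
  exact ⟨(mem_pts_pt (by norm_num)).mpr h1.1, h1.2⟩

/-- Distinct table entries are distinct sextets. -/
theorem sx_index_inj {i j : ℕ} (hi : i < sxAll.length) (hj : j < sxAll.length)
    (h : famFin (sxAll.getD i []) = famFin (sxAll.getD j [])) : i = j := by
  have hSj := sx_mem_sextets hj
  have h1 : pts ((sxAll.getD i []).headD 0) ∈ famFin (sxAll.getD j []) := by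
    rw [← h]; exact sx_key_mem hi
  have h2 := sx_key_mem hj
  have heq : pts ((sxAll.getD i []).headD 0) = pts ((sxAll.getD j []).headD 0) := by
    by_contra hne
    have hd := sextet_disjoint hSj h1 h2 hne
    exact (Finset.disjoint_left.mp hd) (sx_key_23 hi).1 (sx_key_23 hj).1
  have hk := pts_inj_lt (sx_key_23 hi).2 (sx_key_23 hj).2 heq
  have hnd := sxAll_keys_nodup
  rw [List.Nodup, List.pairwise_iff_getElem] at hnd
  by_contra hij
  rw [List.getD_eq_getElem _ _ hi, List.getD_eq_getElem _ _ hj] at hk
  rcases lt_or_gt_of_ne hij with hlt | hlt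
  · have := hnd i j (by rw [List.length_map]; exact hi) (by rw [List.length_map]; exact hj) hlt
    rw [List.getElem_map, List.getElem_map] at this
    exact this hk
  · have := hnd j i (by rw [List.length_map]; exact hj) (by rw [List.length_map]; exact hi) hlt
    rw [List.getElem_map, List.getElem_map] at this
    exact this hk.symm

/-- Counting a set of sextets described by a predicate on table indices. -/
theorem ncard_sx (P : ℕ → Prop) [DecidablePred P] (A : Set (Finset (Finset GolayPt)))
    (hA : ∀ X, X ∈ A ↔ ∃ j < sxAll.length, P j ∧ X = famFin (sxAll.getD j [])) :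
    A.ncard = ((Finset.range sxAll.length).filter P).card := by
  have h : A = ↑(Finset.image (fun j => famFin (sxAll.getD j []))
      ((Finset.range sxAll.length).filter P)) := by
    ext X
    rw [hA, Finset.mem_coe, Finset.mem_image]
    constructor
    · rintro ⟨j, hj, hP, rfl⟩
      exact ⟨j, Finset.mem_filter.mpr ⟨Finset.mem_range.mpr hj, hP⟩, rfl⟩
    · rintro ⟨j, hj, rfl⟩
      rw [Finset.mem_filter, Finset.mem_range] at hj
      exact ⟨j, hj.1, hj.2, rfl⟩
  rw [h, Set.ncard_coe_finset, Finset.card_image_of_injOn]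
  intro i hi j hj hij
  rw [Finset.coe_filter, Set.mem_ofPred_eq, Finset.mem_range] at hi hj
  exact sx_index_inj hi.1 hj.1 hij

theorem baseSet_four : baseSet 4 = pts (2 ^ 23 + 7) := by decide +kernel

theorem sxAll_zero_key : (sxAll.getD 0 []).headD 0 = 2 ^ 23 + 7 := by decide +kernel

/-- `M24` is transitive on sextets: every sextet can be moved to the first table entry. -/
theorem sextet_to_base {S : Finset (Finset GolayPt)} (hS : S ∈ sextets) :
    ∃ h ∈ M24, h • S = famFin (sxAll.getD 0 []) := by
  obtain ⟨t, ht, -⟩ := sextet_cover hS (pt 23)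
  obtain ⟨h, hh, hht⟩ := kset_to_base (k := 4) (by norm_num) (hS.2.1 t ht)
  rw [baseSet_four] at hht
  refine ⟨h, hh, ?_⟩
  have h0 : 0 < sxAll.length := by rw [sxAll_length]; norm_num
  apply sextet_unique (smul_mem_sextets hh hS) (sx_mem_sextets h0) (t := h • t)
  · exact Finset.smul_mem_smul_finset ht
  · rw [hht, ← sxAll_zero_key]
    exact sx_key_mem h0

/-! ### Sum-of-squares invariants -/

/-- Sum of squared intersection sizes of the members of two families. -/
def famInv (S S' : Finset (Finset GolayPt)) : ℕ :=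
  ∑ t ∈ S, ∑ t' ∈ S', (t ∩ t').card ^ 2

/-- Sum of squared intersection sizes of a set with the members of a family. -/
def setInv (S : Finset (Finset GolayPt)) (o : Finset GolayPt) : ℕ :=
  ∑ t ∈ S, (t ∩ o).card ^ 2

theorem famInv_smul (g : Equiv.Perm GolayPt) (S S' : Finset (Finset GolayPt)) :
    famInv (g • S) (g • S') = famInv S S' := by
  unfold famInv
  have hinj : Function.Injective (fun t : Finset GolayPt => g • t) := MulAction.injective g
  have e1 : g • S = S.image (fun t => g • t) := rfl
  have e2 : g • S' = S'.image (fun t => g • t) := rfl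
  rw [e1, Finset.sum_image (fun a _ b _ h => hinj h)]
  apply Finset.sum_congr rfl
  intro t _
  rw [e2, Finset.sum_image (fun a _ b _ h => hinj h)]
  apply Finset.sum_congr rfl
  intro t' _
  rw [card_smul_inter]

theorem setInv_smul (g : Equiv.Perm GolayPt) (S : Finset (Finset GolayPt)) (o : Finset GolayPt) :
    setInv (g • S) (g • o) = setInv S o := by
  unfold setInv
  have hinj : Function.Injective (fun t : Finset GolayPt => g • t) := MulAction.injective g
  have e1 : g • S = S.image (fun t => g • t) := rfl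
  rw [e1, Finset.sum_image (fun a _ b _ h => hinj h)]
  apply Finset.sum_congr rfl
  intro t _
  rw [card_smul_inter]

/-- List version of `famInv`. -/
def famInvL (L L' : List ℕ) : ℕ :=
  (L.map fun a => (L'.map fun b => wt (a &&& b) ^ 2).sum).sum

/-- List version of `setInv`. -/
def setInvL (L : List ℕ) (b : ℕ) : ℕ := (L.map fun a => wt (a &&& b) ^ 2).sum

theorem sum_famFin {L : List ℕ} (hnd : (L.map pts).Nodup) (f : Finset GolayPt → ℕ) :
    ∑ t ∈ famFin L, f t = (L.map fun a => f (pts a)).sum := by
  unfold famFin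
  rw [List.sum_toFinset f hnd, List.map_map]
  rfl

theorem setInv_famFin {L : List ℕ} (hnd : (L.map pts).Nodup) (b : ℕ) :
    setInv (famFin L) (pts b) = setInvL L b := by
  unfold setInv setInvL
  rw [sum_famFin hnd]
  refine congrArg List.sum (List.map_congr_left ?_)
  intro a _
  rw [← pts_and, card_pts]

theorem famInv_famFin {L L' : List ℕ} (hnd : (L.map pts).Nodup) (hnd' : (L'.map pts).Nodup) :
    famInv (famFin L) (famFin L') = famInvL L L' := by
  unfold famInv famInvL
  rw [sum_famFin hnd]
  refine congrArg List.sum (List.map_congr_left ?_)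
  intro a _
  rw [sum_famFin hnd']
  refine congrArg List.sum (List.map_congr_left ?_)
  intro b _
  rw [← pts_and, card_pts]

theorem sx_nodup {L : List ℕ} (h : sxOK L = true) : (L.map pts).Nodup := by
  obtain ⟨hlen, h4, _, _⟩ := sxOK_spec h
  rw [List.Nodup, List.pairwise_iff_getElem]
  intro i j hi hj hij
  rw [List.length_map] at hi hj
  rw [List.getElem_map, List.getElem_map]
  intro heq
  have hd := (sx_pair h (i := i) (j := j) (by omega) (by omega) (by omega)).2
  rw [List.getD_eq_getElem _ _ hi, List.getD_eq_getElem _ _ hj, heq,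
    Finset.disjoint_self_iff_empty] at hd
  have h4j := h4 _ (List.getElem_mem hj)
  rw [← card_pts, hd] at h4j
  exact absurd h4j (by norm_num)

theorem sxAll_nodup {i : ℕ} (hi : i < sxAll.length) : ((sxAll.getD i []).map pts).Nodup :=
  sx_nodup (sxAll_getD_ok hi)

/-! ### Stabilisers of configurations including families -/

/-- The subgroup of `M24` fixing the listed points, stabilising the listed masks and the listed
families of masks. -/
def famStab (fixed sets : List ℕ) (fams : List (List ℕ)) : Subgroup (Equiv.Perm GolayPt) where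
  carrier := {g | g ∈ cfgStab fixed sets ∧ ∀ F ∈ fams, g • famFin F = famFin F}
  mul_mem' := by
    rintro g h ⟨hg, hgf⟩ ⟨hh, hhf⟩
    refine ⟨Subgroup.mul_mem _ hg hh, fun F hF => ?_⟩
    rw [mul_smul, hhf F hF, hgf F hF]
  one_mem' := ⟨Subgroup.one_mem _, fun _ _ => one_smul _ _⟩
  inv_mem' := by
    rintro g ⟨hg, hgf⟩
    refine ⟨Subgroup.inv_mem _ hg, fun F hF => ?_⟩
    rw [inv_smul_eq_iff]
    exact (hgf F hF).symm

theorem mem_famStab {fixed sets : List ℕ} {fams : List (List ℕ)} {g : Equiv.Perm GolayPt} :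
    g ∈ famStab fixed sets fams ↔
      g ∈ cfgStab fixed sets ∧ ∀ F ∈ fams, g • famFin F = famFin F := Iff.rfl

/-- Boolean check that explicit table pairs lie in `famStab`. -/
def famGensOK (fixed sets : List ℕ) (fams : List (List ℕ)) (gens : List (List ℕ × List ℕ)) :
    Bool :=
  cfgGensOK fixed sets gens &&
    gens.all fun d => fams.all fun F => sameSet (F.map (pull (tb d.2))) F

theorem famGens_mem {fixed sets : List ℕ} {fams : List (List ℕ)}
    {gens : List (List ℕ × List ℕ)} (h : famGensOK fixed sets fams gens = true) :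
    ∀ d ∈ gens, tablesOK d.1 d.2 = true ∧ gperm d ∈ famStab fixed sets fams := by
  unfold famGensOK at h
  rw [Bool.and_eq_true, List.all_eq_true] at h
  intro d hd
  obtain ⟨ht, hc⟩ := cfgGens_mem h.1 d hd
  refine ⟨ht, hc, ?_⟩
  intro F hF
  have h2 := h.2 d hd
  rw [List.all_eq_true] at h2
  rw [gperm_smul_famFin ht, famFin_eq_of_sameSet (h2 F hF)]

/-- Conjugating an element of a base configuration stabiliser back (family version). -/
theorem conj_fam {fixed sets : List ℕ} {fams : List (List ℕ)} {h g0 : Equiv.Perm GolayPt}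
    (hh : h ∈ M24) (hg0 : g0 ∈ famStab fixed sets fams) :
    h⁻¹ * g0 * h ∈ M24 ∧ (∀ i ∈ fixed, ∀ x, h x = pt i → (h⁻¹ * g0 * h) x = x) ∧
      (∀ a ∈ sets, ∀ o : Finset GolayPt, h • o = pts a → (h⁻¹ * g0 * h) • o = o) ∧
      (∀ F ∈ fams, ∀ S : Finset (Finset GolayPt), h • S = famFin F →
        (h⁻¹ * g0 * h) • S = S) ∧
      (∀ s t : Finset GolayPt, g0 • (h • s) = h • t → (h⁻¹ * g0 * h) • s = t) ∧
      ∀ S T : Finset (Finset GolayPt), g0 • (h • S) = h • T → (h⁻¹ * g0 * h) • S = T := by
  obtain ⟨hc, hf⟩ := hg0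
  obtain ⟨c1, c2, c3, c4⟩ := conj_cfg hh hc
  refine ⟨c1, c2, c3, ?_, c4, ?_⟩
  · intro F hF S hS
    rw [mul_smul, mul_smul, hS, hf F hF, ← hS, inv_smul_smul]
  · intro S T hST
    rw [mul_smul, mul_smul, hST, inv_smul_smul]

end Cfsg.Agent.helper2.Golay
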