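import Mathlib
import Cfsg.Agent.Lib_helper2_Sext3
import Cfsg.Agent.Lib_helper2_Dfs

set_option autoImplicit false

namespace Cfsg.Agent.helper2.Golay

open Cfsg Cfsg.Agent.helper27
open scoped Pointwise

/-- There are 1771 sextets. -/
theorem ncard_sextets : sextets.ncard = 1771 := by
  rw [ncard_sx (fun _ => True) sextets]
  · rw [Finset.filter_true_of_mem (fun _ _ => trivial), Finset.card_range, sxAll_length]
  · intro X
    constructor
    · intro hX
      obtain ⟨i, hi, rfl⟩ := exists_sx_index hX
      exact ⟨i, hi, trivial, rfl⟩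
    · rintro ⟨j, hj, -, rfl⟩
      exact sx_mem_sextets hj

/-- Roots of certificates for sextets: membership and value of the invariant. -/
theorem sx_roots {sx0 : List ℕ} (h0 : sxOK sx0 = true)
    (certs : List (ℕ × List ℕ × List (ℕ × ℕ × List ℕ)))
    (h : certs.all (fun ct => sxOK ct.2.1 && (famInvL sx0 ct.2.1 == ct.1)) = true) :
    ∀ ct ∈ certs, famFin ct.2.1 ∈ sextets ∧ famInv (famFin sx0) (famFin ct.2.1) = ct.1 := by
  rw [List.all_eq_true] at h
  intro ct hct
  have h1 := h ct hct
  rw [Bool.and_eq_true, beq_iff_eq] at h1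
  refine ⟨famFin_mem_sextets h1.1, ?_⟩
  rw [famInv_famFin (sx_nodup h0) (sx_nodup h1.1)]
  exact h1.2

/-- Invariance of `famInv` against a stabilised family. -/
theorem famInv_stab {S : Finset (Finset GolayPt)} {k : Equiv.Perm GolayPt} (hk : k • S = S)
    (X : Finset (Finset GolayPt)) : famInv S (k • X) = famInv S X := by
  have := famInv_smul k S X
  rw [hk] at this
  exact this

/-- The action of `M24` on families preserves sextets. -/
theorem m24_smul_mem_sextets (g : M24) {X : Finset (Finset GolayPt)} (hX : X ∈ sextets) :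
    g • X ∈ sextets := smul_mem_sextets g.2 hX

end Cfsg.Agent.helper2.Golay
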