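import Mathlib
import Cfsg.Agent.Lib_helper2_K6b
import Cfsg.Agent.Lib_helper2_Sext4

set_option autoImplicit false

namespace Cfsg.Agent.helper2.Golay

open Cfsg Cfsg.Agent.helper27
open scoped Pointwise

/-! ### Transpositions of tetrads induced by the sextet stabiliser; kernels for general sextets -/

def swData : List (ℕ × ℕ × (List ℕ × List ℕ)) := [
  (0, 1, ([13, 22, 16, 17, 23, 14, 7, 21, 12, 20, 15, 18, 11, 0, 3, 9, 2, 5, 8, 6, 10, 19, 1, 4], [13, 22, 16, 14, 23, 17, 19, 6, 18, 15, 20, 12, 8, 0, 5, 10, 2, 3, 11, 21, 9, 7, 1, 4])),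
  (0, 2, ([7, 19, 6, 5, 4, 3, 2, 0, 18, 9, 20, 11, 12, 22, 14, 15, 16, 17, 8, 1, 10, 23, 13, 21], [7, 19, 6, 5, 4, 3, 2, 0, 18, 9, 20, 11, 12, 22, 14, 15, 16, 17, 8, 1, 10, 23, 13, 21])),
  (0, 3, ([10, 9, 20, 3, 4, 14, 7, 6, 8, 1, 0, 11, 18, 22, 5, 23, 16, 17, 12, 19, 2, 21, 13, 15], [10, 9, 20, 3, 4, 14, 7, 6, 8, 1, 0, 11, 18, 22, 5, 23, 16, 17, 12, 19, 2, 21, 13, 15])),
  (0, 4, ([8, 11, 12, 5, 22, 14, 21, 6, 0, 15, 20, 1, 2, 4, 17, 10, 13, 3, 23, 7, 9, 19, 16, 18], [8, 11, 12, 17, 13, 3, 7, 19, 0, 20, 15, 1, 2, 16, 5, 9, 22, 14, 23, 21, 10, 6, 4, 18])),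
  (0, 5, ([17, 3, 14, 0, 13, 2, 6, 7, 12, 9, 10, 8, 18, 22, 23, 20, 4, 1, 11, 21, 15, 19, 16, 5], [3, 17, 5, 1, 16, 23, 6, 7, 11, 9, 10, 18, 8, 4, 2, 20, 22, 0, 12, 21, 15, 19, 13, 14])),
  (1, 2, ([2, 1, 0, 3, 7, 14, 16, 4, 11, 15, 10, 8, 12, 21, 5, 9, 6, 17, 18, 22, 20, 13, 19, 23], [2, 1, 0, 3, 7, 14, 16, 4, 11, 15, 10, 8, 12, 21, 5, 9, 6, 17, 18, 22, 20, 13, 19, 23])),
  (1, 3, ([23, 2, 0, 5, 10, 14, 21, 6, 12, 16, 4, 18, 11, 20, 17, 22, 9, 3, 8, 7, 13, 19, 15, 1], [2, 23, 1, 17, 10, 3, 7, 19, 18, 16, 4, 12, 8, 20, 5, 22, 9, 14, 11, 21, 13, 6, 15, 0])),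
  (1, 4, ([2, 0, 23, 14, 12, 17, 7, 19, 22, 10, 15, 16, 4, 18, 5, 20, 11, 3, 13, 21, 9, 6, 8, 1], [1, 23, 0, 17, 12, 14, 21, 6, 22, 20, 9, 16, 4, 18, 3, 10, 11, 5, 13, 7, 15, 19, 8, 2])),
  (1, 5, ([23, 1, 2, 13, 5, 4, 6, 7, 8, 20, 10, 11, 18, 3, 16, 15, 14, 22, 12, 21, 9, 19, 17, 0], [23, 1, 2, 13, 5, 4, 6, 7, 8, 20, 10, 11, 18, 3, 16, 15, 14, 22, 12, 21, 9, 19, 17, 0])),
  (2, 3, ([0, 1, 23, 3, 22, 14, 20, 15, 18, 19, 21, 11, 12, 13, 5, 7, 16, 17, 8, 9, 6, 10, 4, 2], [0, 1, 23, 3, 22, 14, 20, 15, 18, 19, 21, 11, 12, 13, 5, 7, 16, 17, 8, 9, 6, 10, 4, 2])),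
  (2, 4, ([2, 23, 1, 5, 22, 14, 18, 11, 21, 10, 15, 7, 19, 16, 17, 20, 4, 3, 6, 12, 9, 8, 13, 0], [23, 2, 0, 17, 16, 3, 18, 11, 21, 20, 9, 7, 19, 22, 5, 10, 13, 14, 6, 12, 15, 8, 4, 1])),
  (2, 5, ([1, 0, 2, 6, 16, 21, 3, 17, 8, 9, 10, 11, 18, 13, 19, 20, 4, 7, 12, 14, 15, 5, 22, 23], [1, 0, 2, 6, 16, 21, 3, 17, 8, 9, 10, 11, 18, 13, 19, 20, 4, 7, 12, 14, 15, 5, 22, 23])),
  (3, 4, ([2, 23, 1, 17, 22, 14, 7, 21, 20, 12, 18, 15, 9, 4, 3, 11, 13, 5, 10, 6, 8, 19, 16, 0], [23, 2, 0, 14, 13, 17, 19, 6, 20, 12, 18, 15, 9, 16, 5, 11, 22, 3, 10, 21, 8, 7, 4, 1])),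
  (3, 5, ([2, 1, 0, 10, 4, 9, 21, 7, 11, 5, 3, 8, 12, 16, 15, 14, 13, 20, 18, 19, 17, 6, 22, 23], [2, 1, 0, 10, 4, 9, 21, 7, 11, 5, 3, 8, 12, 16, 15, 14, 13, 20, 18, 19, 17, 6, 22, 23])),
  (4, 5, ([2, 0, 23, 8, 22, 11, 19, 6, 3, 20, 15, 5, 17, 16, 18, 9, 4, 12, 14, 21, 10, 7, 13, 1], [1, 23, 0, 8, 16, 11, 7, 21, 3, 15, 20, 5, 17, 22, 18, 10, 13, 12, 14, 6, 9, 19, 4, 2]))]

/-- The index permuted by the transposition `(i j)`. -/
def swIdx (i j k : ℕ) : ℕ := if k = i then j else if k = j then i else k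

theorem sw_ok : swData.all (fun e => tablesOK e.2.2.1 e.2.2.2 && codeOK e.2.2.2 &&
    (e.2.2.1.length == 24) && (List.range 6).all (fun k =>
      img e.2.2.1 (sxBase.getD k 0) % 2 ^ 24 == sxBase.getD (swIdx e.1 e.2.1 k) 0 % 2 ^ 24))
    = true := by decide +kernel

theorem sw_complete : ∀ i < 6, ∀ j < 6, i < j →
    swData.any (fun e => (e.1 == i) && (e.2.1 == j)) = true := by decide +kernel

theorem sxBase_ok : sxOK sxBase = true := by decide +kernel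

theorem sxBase_eq : famFin (sxAll.getD 0 []) = famFin sxBase :=
  famFin_eq_of_sameSet (by decide +kernel)

theorem base_swap_lt {i j : ℕ} (hi : i < 6) (hj : j < 6) (hij : i < j) :
    ∃ g ∈ M24, ∀ k < 6, g • pts (sxBase.getD k 0) = pts (sxBase.getD (swIdx i j k) 0) := by
  have h1 := sw_complete i hi j hj hij
  rw [List.any_eq_true] at h1
  obtain ⟨e, he, hee⟩ := h1
  rw [Bool.and_eq_true, beq_iff_eq, beq_iff_eq] at hee
  have h2 := List.all_eq_true.mp sw_ok e he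
  simp only [Bool.and_eq_true, beq_iff_eq, List.all_eq_true, List.mem_range] at h2
  obtain ⟨⟨⟨ht, hc⟩, hlen⟩, himg⟩ := h2
  refine ⟨gperm e.2.2, gperm_mem ht hc, fun k hk => ?_⟩
  rw [← pts_img ht hlen, pts_eq_iff_mod, himg k hk, hee.1, hee.2]

theorem swIdx_symm (i j k : ℕ) : swIdx i j k = swIdx j i k := by
  unfold swIdx
  by_cases h1 : k = i
  · by_cases h2 : k = j
    · rw [if_pos h1, if_pos h2, ← h1, ← h2]
    · rw [if_pos h1, if_neg h2, if_pos h1]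
  · by_cases h2 : k = j
    · rw [if_neg h1, if_pos h2, if_pos h2]
    · rw [if_neg h1, if_neg h2, if_neg h2, if_neg h1]

theorem base_swap {i j : ℕ} (hi : i < 6) (hj : j < 6) (hij : i ≠ j) :
    ∃ g ∈ M24, ∀ k < 6, g • pts (sxBase.getD k 0) = pts (sxBase.getD (swIdx i j k) 0) := by
  rcases Nat.lt_or_gt_of_ne hij with h | h
  · exact base_swap_lt hi hj h
  · obtain ⟨g, hg, hgk⟩ := base_swap_lt hj hi h
    refine ⟨g, hg, fun k hk => ?_⟩
    rw [swIdx_symm]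
    exact hgk k hk

theorem mem_sxBase_iff {s : Finset GolayPt} :
    s ∈ famFin sxBase ↔ ∃ k < 6, s = pts (sxBase.getD k 0) := by
  rw [mem_famFin]
  constructor
  · rintro ⟨a, ha, rfl⟩
    obtain ⟨k, hk, rfl⟩ := List.mem_iff_getElem.mp ha
    have hk6 : k < 6 := hk
    exact ⟨k, hk6, by rw [List.getD_eq_getElem _ _ hk]⟩
  · rintro ⟨k, hk, rfl⟩
    have hk' : k < sxBase.length := hk
    exact ⟨_, by rw [List.getD_eq_getElem _ _ hk']; exact List.getElem_mem _, rfl⟩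

theorem sxBase_inj {k k' : ℕ} (hk : k < 6) (hk' : k' < 6)
    (h : pts (sxBase.getD k 0) = pts (sxBase.getD k' 0)) : k = k' := by
  have hnd := sx_nodup sxBase_ok
  have hk1 : k < (sxBase.map pts).length := by rw [List.length_map]; exact hk
  have hk2 : k' < (sxBase.map pts).length := by rw [List.length_map]; exact hk'
  have := (List.Nodup.getElem_inj_iff hnd (i := k) (j := k') (hi := hk1) (hj := hk2)).mp (by
    rw [List.getElem_map, List.getElem_map]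
    have e1 : sxBase.getD k 0 = sxBase[k]'hk := List.getD_eq_getElem _ _ hk
    have e2 : sxBase.getD k' 0 = sxBase[k']'hk' := List.getD_eq_getElem _ _ hk'
    rw [e1, e2] at h
    exact h)
  exact this

/-- `M24` maps any sextet to the base sextet. -/
theorem sextet_to_sxBase {S : Finset (Finset GolayPt)} (hS : S ∈ sextets) :
    ∃ h ∈ M24, h • S = famFin sxBase := by
  obtain ⟨h, hh, hhS⟩ := sextet_to_base hS
  exact ⟨h, hh, by rw [hhS, sxBase_eq]⟩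

/-- The stabiliser of a sextet induces every transposition of its tetrads. -/
theorem sextet_swap {S : Finset (Finset GolayPt)} (hS : S ∈ sextets) {t u : Finset GolayPt}
    (ht : t ∈ S) (hu : u ∈ S) (htu : t ≠ u) :
    ∃ g ∈ M24, g • t = u ∧ g • u = t ∧ ∀ v ∈ S, v ≠ t → v ≠ u → g • v = v := by
  obtain ⟨h, hh, hhS⟩ := sextet_to_sxBase hS
  have hmem : ∀ v ∈ S, ∃ k < 6, h • v = pts (sxBase.getD k 0) := by
    intro v hv
    apply mem_sxBase_iff.mp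
    rw [← hhS]
    exact Finset.smul_mem_smul_finset hv
  obtain ⟨i, hi, hti⟩ := hmem t ht
  obtain ⟨j, hj, huj⟩ := hmem u hu
  have hij : i ≠ j := by
    rintro rfl
    apply htu
    have : h • t = h • u := by rw [hti, huj]
    exact MulAction.injective h this
  obtain ⟨g0, hg0, hg0k⟩ := base_swap hi hj hij
  refine ⟨h⁻¹ * g0 * h, Subgroup.mul_mem _ (Subgroup.mul_mem _ (Subgroup.inv_mem _ hh) hg0) hh,
    ?_, ?_, ?_⟩
  · rw [mul_smul, mul_smul, hti, hg0k i hi, inv_smul_eq_iff, huj]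
    unfold swIdx
    rw [if_pos rfl]
  · rw [mul_smul, mul_smul, huj, hg0k j hj, inv_smul_eq_iff, hti]
    unfold swIdx
    rw [if_neg (Ne.symm hij), if_pos rfl]
  · intro v hv hvt hvu
    obtain ⟨k, hk, hvk⟩ := hmem v hv
    have hki : k ≠ i := by
      rintro rfl
      apply hvt
      have : h • v = h • t := by rw [hvk, hti]
      exact MulAction.injective h this
    have hkj : k ≠ j := by
      rintro rfl
      apply hvu
      have : h • v = h • u := by rw [hvk, huj]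
      exact MulAction.injective h this
    rw [mul_smul, mul_smul, hvk, hg0k k hk, inv_smul_eq_iff, hvk]
    unfold swIdx
    rw [if_neg hki, if_neg hkj]

/-- The subgroup of `M24` fixing every member of a family. -/
def famKer (S : Finset (Finset GolayPt)) : Subgroup (Equiv.Perm GolayPt) where
  carrier := {g | g ∈ M24 ∧ ∀ t ∈ S, g • t = t}
  mul_mem' := by
    rintro g h ⟨hg, hgf⟩ ⟨hh, hhf⟩
    refine ⟨Subgroup.mul_mem _ hg hh, fun a ha => ?_⟩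
    rw [mul_smul, hhf a ha, hgf a ha]
  one_mem' := ⟨Subgroup.one_mem _, fun _ _ => one_smul _ _⟩
  inv_mem' := by
    rintro g ⟨hg, hgf⟩
    refine ⟨Subgroup.inv_mem _ hg, fun a ha => ?_⟩
    rw [inv_smul_eq_iff]
    exact (hgf a ha).symm

theorem mem_famKer {S : Finset (Finset GolayPt)} {g : Equiv.Perm GolayPt} :
    g ∈ famKer S ↔ g ∈ M24 ∧ ∀ t ∈ S, g • t = t := Iff.rfl

theorem famKer_base : famKer (famFin sxBase) = K6 := by
  ext g
  rw [mem_famKer, mem_K6]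
  constructor
  · rintro ⟨hg, h⟩
    exact ⟨hg, fun a ha => h _ (mem_famFin.mpr ⟨a, ha, rfl⟩)⟩
  · rintro ⟨hg, h⟩
    refine ⟨hg, fun t ht => ?_⟩
    obtain ⟨a, ha, rfl⟩ := mem_famFin.mp ht
    exact h a ha

theorem famKer_conj {S : Finset (Finset GolayPt)} {h : Equiv.Perm GolayPt} (hh : h ∈ M24)
    (g : Equiv.Perm GolayPt) : g ∈ famKer S ↔ h * g * h⁻¹ ∈ famKer (h • S) := by
  rw [mem_famKer, mem_famKer]
  constructor
  · rintro ⟨hg, hf⟩
    refine ⟨Subgroup.mul_mem _ (Subgroup.mul_mem _ hh hg) (Subgroup.inv_mem _ hh), ?_⟩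
    intro t ht
    obtain ⟨t0, ht0, rfl⟩ := Finset.mem_smul_finset.mp ht
    rw [mul_smul, mul_smul]
    show h • g • h⁻¹ • h • t0 = h • t0
    rw [inv_smul_smul, hf t0 ht0]
  · rintro ⟨hg, hf⟩
    constructor
    · have := Subgroup.mul_mem _ (Subgroup.mul_mem _ (Subgroup.inv_mem _ hh) hg) hh
      have e : h⁻¹ * (h * g * h⁻¹) * h = g := by group
      rwa [e] at this
    · intro t ht
      have := hf (h • t) (Finset.smul_mem_smul_finset ht)
      rw [mul_smul, mul_smul, inv_smul_smul] at this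
      exact MulAction.injective h this

/-- Conjugation identifies the kernel of a sextet with the base kernel. -/
def famKerEquiv {S : Finset (Finset GolayPt)} {h : Equiv.Perm GolayPt} (hh : h ∈ M24)
    (hS : h • S = famFin sxBase) : famKer S ≃ K6 where
  toFun g := ⟨h * g.1 * h⁻¹, by
    rw [← famKer_base, ← hS]
    exact (famKer_conj hh g.1).mp g.2⟩
  invFun g := ⟨h⁻¹ * g.1 * h, by
    rw [famKer_conj hh, hS, famKer_base]
    have e : h * (h⁻¹ * g.1 * h) * h⁻¹ = g.1 := by group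
    rw [e]
    exact g.2⟩
  left_inv g := by
    apply Subtype.ext
    show h⁻¹ * (h * g.1 * h⁻¹) * h = g.1
    group
  right_inv g := by
    apply Subtype.ext
    show h * (h⁻¹ * g.1 * h) * h⁻¹ = g.1
    group

theorem card_famKer {S : Finset (Finset GolayPt)} (hS : S ∈ sextets) :
    Nat.card (famKer S) = 192 := by
  obtain ⟨h, hh, hhS⟩ := sextet_to_sxBase hS
  rw [Nat.card_congr (famKerEquiv hh hhS), card_K6]

end Cfsg.Agent.helper2.Golay
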