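import Mathlib
import Cfsg.Agent.Lib_helper2_Coatom

set_option autoImplicit false

namespace Cfsg.Agent.helper2

open MulAction

/-- Transport of a count along a group element (any action). -/
theorem ncard_smul_eq_gen {G X : Type*} [Group G] [MulAction G X] (g : G) (A B : Set X)
    (h : ∀ s, s ∈ A ↔ g • s ∈ B) : A.ncard = B.ncard := by
  have hAB : B = (fun s => g • s) '' A := by
    ext t
    constructor
    · intro ht
      refine ⟨g⁻¹ • t, ?_, smul_inv_smul g t⟩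
      rw [h, smul_inv_smul]
      exact ht
    · rintro ⟨s, hs, rfl⟩
      exact (h s).mp hs
  rw [hAB, Set.ncard_image_of_injective _ (MulAction.injective g)]

/-- The orbits of a stabiliser on an invariant set on which it is transitive on the classes of
an invariant labelling are exactly the classes. -/
theorem orbit_stab_eq_class {G X Y : Type*} [Group G] [MulAction G X] [MulAction G Y] (S : Y)
    (Ω : Set X) (c : X → ℕ)
    (hΩ : ∀ g ∈ stabilizer G S, ∀ x ∈ Ω, g • x ∈ Ω)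
    (hc : ∀ g ∈ stabilizer G S, ∀ x ∈ Ω, c (g • x) = c x)
    (htr : ∀ x ∈ Ω, ∀ y ∈ Ω, c x = c y → ∃ s ∈ stabilizer G S, s • x = y)
    {x : X} (hx : x ∈ Ω) :
    orbit (stabilizer G S) x = {y | y ∈ Ω ∧ c y = c x} := by
  ext y
  constructor
  · rintro ⟨⟨s, hs⟩, rfl⟩
    exact ⟨hΩ s hs x hx, hc s hs x hx⟩
  · rintro ⟨hy, hcy⟩
    obtain ⟨s, hs, hsy⟩ := htr x hx y hy hcy.symm
    exact ⟨⟨s, hs⟩, hsy⟩

/-- A class of positive size is an orbit of the stabiliser. -/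
theorem exists_orbit_class {G X Y : Type*} [Group G] [MulAction G X] [MulAction G Y] (S : Y)
    (Ω : Set X) (c : X → ℕ)
    (hΩ : ∀ g ∈ stabilizer G S, ∀ x ∈ Ω, g • x ∈ Ω)
    (hc : ∀ g ∈ stabilizer G S, ∀ x ∈ Ω, c (g • x) = c x)
    (htr : ∀ x ∈ Ω, ∀ y ∈ Ω, c x = c y → ∃ s ∈ stabilizer G S, s • x = y)
    (v n : ℕ) (hn : {y | y ∈ Ω ∧ c y = v}.ncard = n) (hpos : 0 < n) :
    ∃ x ∈ Ω, c x = v ∧ orbit (stabilizer G S) x = {y | y ∈ Ω ∧ c y = v} ∧
      (orbit (stabilizer G S) x).ncard = n := by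
  have hne : {y | y ∈ Ω ∧ c y = v}.Nonempty := by
    rw [← Set.ncard_pos (Set.finite_of_ncard_pos (by rw [hn]; exact hpos)), hn]
    exact hpos
  obtain ⟨x, hx, hcx⟩ := hne
  have h := orbit_stab_eq_class S Ω c hΩ hc htr hx
  rw [hcx] at h
  exact ⟨x, hx, hcx, h, by rw [h, hn]⟩

/-- Transfer of class data from a base object to a conjugate. -/
theorem transfer_classes {G X Y : Type*} [Group G] [MulAction G X] [MulAction G Y]
    (Ω : Set X) (hΩ : ∀ g : G, ∀ x ∈ Ω, g • x ∈ Ω)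
    (C : Y → X → ℕ) (hC : ∀ (g : G) (s : Y) (x : X), C (g • s) (g • x) = C s x)
    (S0 : Y) (labels : List ℕ) (hlab : ∀ x ∈ Ω, C S0 x ∈ labels)
    (n : ℕ → ℕ) (hn : ∀ v ∈ labels, {x | x ∈ Ω ∧ C S0 x = v}.ncard = n v)
    (htr : ∀ x ∈ Ω, ∀ y ∈ Ω, C S0 x = C S0 y → ∃ k ∈ stabilizer G S0, k • x = y)
    (S : Y) (h : G) (hS : h • S = S0) :
    (∀ x ∈ Ω, C S x ∈ labels) ∧ (∀ v ∈ labels, {x | x ∈ Ω ∧ C S x = v}.ncard = n v) ∧
      (∀ x ∈ Ω, ∀ y ∈ Ω, C S x = C S y → ∃ k ∈ stabilizer G S, k • x = y) := by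
  have hcS : ∀ x, C S x = C S0 (h • x) := by
    intro x
    rw [← hS, hC]
  have hΩiff : ∀ x, x ∈ Ω ↔ h • x ∈ Ω := by
    intro x
    constructor
    · exact hΩ h x
    · intro hx
      have := hΩ h⁻¹ _ hx
      rwa [inv_smul_smul] at this
  refine ⟨?_, ?_, ?_⟩
  · intro x hx
    rw [hcS]
    exact hlab _ ((hΩiff x).mp hx)
  · intro v hv
    rw [← hn v hv]
    apply ncard_smul_eq_gen h
    intro x
    rw [Set.mem_ofPred_eq, Set.mem_ofPred_eq, hcS, ← hΩiff]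
  · intro x hx y hy hxy
    rw [hcS, hcS] at hxy
    obtain ⟨k, hk, hky⟩ := htr _ ((hΩiff x).mp hx) _ ((hΩiff y).mp hy) hxy
    refine ⟨h⁻¹ * k * h, ?_, ?_⟩
    · rw [mem_stabilizer_iff] at hk ⊢
      rw [mul_smul, mul_smul, hS, hk, ← hS, inv_smul_smul]
    · rw [mul_smul, mul_smul, hky, inv_smul_smul]

/-- Invariance of the labelling under the stabiliser. -/
theorem label_stab_inv {G X Y : Type*} [Group G] [MulAction G X] [MulAction G Y]
    (C : Y → X → ℕ) (hC : ∀ (g : G) (s : Y) (x : X), C (g • s) (g • x) = C s x) (S : Y)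
    (g : G) (hg : g ∈ stabilizer G S) (x : X) : C S (g • x) = C S x := by
  have := hC g S x
  rw [mem_stabilizer_iff.mp hg] at this
  exact this

/-- The orbit of an element of an invariant set on which the group is transitive. -/
theorem orbit_eq_of_trans {G X : Type*} [Group G] [MulAction G X] (Ω : Set X)
    (hΩ : ∀ g : G, ∀ x ∈ Ω, g • x ∈ Ω) (x0 : X)
    (htr : ∀ x ∈ Ω, ∃ g : G, g • x = x0) {S : X} (hS : S ∈ Ω) : orbit G S = Ω := by
  ext x
  constructor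
  · rintro ⟨g, rfl⟩
    exact hΩ g S hS
  · intro hx
    obtain ⟨g1, hg1⟩ := htr S hS
    obtain ⟨g2, hg2⟩ := htr x hx
    refine ⟨g2⁻¹ * g1, ?_⟩
    show (g2⁻¹ * g1) • S = x
    rw [mul_smul, hg1, ← hg2, inv_smul_smul]

/-- A class of size one containing `S` is `{S}`. -/
theorem class_eq_singleton {X : Type*} (A : Set X) (hA : A.ncard = 1) {S : X} (hS : S ∈ A) :
    A = {S} := by
  obtain ⟨a, ha⟩ := Set.ncard_eq_one.mp hA
  rw [ha] at hS ⊢
  rw [Set.mem_singleton_iff] at hS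
  rw [hS]

end Cfsg.Agent.helper2
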