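import Mathlib
import Cfsg.Agent.Lib_helper2_Dfs
import Cfsg.Agent.Lib_helper2_OrbForm

set_option autoImplicit false

namespace Cfsg.Agent.helper2.Golay

open Cfsg Cfsg.Agent.helper27
open scoped Pointwise

/-! ### Enumerations from certificates and counts of fixed objects -/

theorem testBit_mod_24 (a i : ℕ) (hi : i < 24) : (a % 2 ^ 24).testBit i = a.testBit i := by
  rw [Nat.testBit_mod_two_pow]
  simp [hi]

theorem pts_eq_iff_mod {a b : ℕ} : pts a = pts b ↔ a % 2 ^ 24 = b % 2 ^ 24 := by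
  constructor
  · intro h
    apply Nat.eq_of_testBit_eq
    intro i
    by_cases hi : i < 24
    · rw [testBit_mod_24 a i hi, testBit_mod_24 b i hi]
      exact testBit_eq_of_pts_eq h i hi
    · rw [Nat.testBit_mod_two_pow, Nat.testBit_mod_two_pow]
      simp [hi]
  · intro h
    ext p
    rw [mem_pts, mem_pts, ← testBit_mod_24 a _ (idx_lt p), ← testBit_mod_24 b _ (idx_lt p), h]

/-- The two lists have the same entries modulo `2 ^ 24`. -/
def sameMod (L L' : List ℕ) : Bool :=
  L.all (fun a => L'.any (fun b => a % 2 ^ 24 == b % 2 ^ 24)) &&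
    L'.all (fun b => L.any (fun a => a % 2 ^ 24 == b % 2 ^ 24))

theorem famFin_eq_iff_sameMod {L L' : List ℕ} : famFin L = famFin L' ↔ sameMod L L' = true := by
  unfold sameMod
  simp only [Bool.and_eq_true, List.all_eq_true, List.any_eq_true, beq_iff_eq]
  constructor
  · intro h
    constructor
    · intro a ha
      have : pts a ∈ famFin L' := by
        rw [← h]
        exact mem_famFin.mpr ⟨a, ha, rfl⟩
      obtain ⟨b, hb, hba⟩ := mem_famFin.mp this
      exact ⟨b, hb, (pts_eq_iff_mod.mp hba).symm⟩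
    · intro b hb
      have : pts b ∈ famFin L := by
        rw [h]
        exact mem_famFin.mpr ⟨b, hb, rfl⟩
      obtain ⟨a, ha, hab⟩ := mem_famFin.mp this
      exact ⟨a, ha, pts_eq_iff_mod.mp hab⟩
  · rintro ⟨h1, h2⟩
    ext s
    rw [mem_famFin, mem_famFin]
    constructor
    · rintro ⟨a, ha, rfl⟩
      obtain ⟨b, hb, hab⟩ := h1 a ha
      exact ⟨b, hb, (pts_eq_iff_mod.mpr hab).symm⟩
    · rintro ⟨b, hb, rfl⟩
      obtain ⟨a, ha, hab⟩ := h2 b hb
      exact ⟨a, ha, pts_eq_iff_mod.mpr hab⟩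

/-- Enumeration of `Ω` from a certificate. -/
theorem dfs_enum (K : Subgroup (Equiv.Perm GolayPt)) (Ω : Set (Finset (Finset GolayPt)))
    (N : ℕ) (hΩ : Ω.ncard = N) (hN : 0 < N)
    (hK : ∀ k ∈ K, ∀ X ∈ Ω, k • X ∈ Ω)
    (gens : List (List ℕ × List ℕ))
    (hgens : ∀ d ∈ gens, tablesOK d.1 d.2 = true ∧ gperm d ∈ K)
    (key : List ℕ → ℕ) (certs : List (ℕ × List ℕ × List (ℕ × ℕ × List ℕ)))
    (hcert : certOK gens key certs N = true)
    (hroots : ∀ ct ∈ certs, famFin ct.2.1 ∈ Ω) :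
    (∀ X ∈ Ω, ∃ L ∈ allFams certs, X = famFin L) ∧
      (∀ L ∈ allFams certs, famFin L ∈ Ω) ∧ ((allFams certs).map famFin).Nodup := by
  classical
  unfold certOK at hcert
  simp only [Bool.and_eq_true, List.all_eq_true, beq_iff_eq] at hcert
  obtain ⟨hlen, hdfs, hdesc, hkeys, hcount⟩ := hcert
  have hgens' : ∀ d ∈ gens, tablesOK d.1 d.2 = true ∧ d.1.length = 24 ∧ gperm d ∈ K :=
    fun d hd => ⟨(hgens d hd).1, hlen d hd, (hgens d hd).2⟩
  have hreach : ∀ ct ∈ certs, ∀ L ∈ certFams ct, ∃ k ∈ K, k • famFin ct.2.1 = famFin L := by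
    intro ct hct L hL
    unfold certFams at hL
    rcases List.mem_cons.mp hL with rfl | hL
    · exact ⟨1, K.one_mem, one_smul _ _⟩
    · obtain ⟨e, he, rfl⟩ := List.mem_map.mp hL
      refine dfsAux_spec K gens hgens' (famFin ct.2.1) ct.2.2 [ct.2.1] ?_ (hdfs ct hct) e he
      intro P hP
      rw [List.mem_singleton] at hP
      subst hP
      exact ⟨1, K.one_mem, one_smul _ _⟩
  have hin : ∀ L ∈ allFams certs, famFin L ∈ Ω := by
    intro L hL
    unfold allFams at hL
    obtain ⟨ct, hct, hLct⟩ := List.mem_flatMap.mp hL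
    obtain ⟨k, hk, hkL⟩ := hreach ct hct L hLct
    rw [← hkL]
    exact hK k hk _ (hroots ct hct)
  have hnd0 : (allFams certs).Nodup := List.Nodup.of_map key (nodup_of_insAll hkeys)
  have hnd : ((allFams certs).map famFin).Nodup := by
    apply List.Nodup.map_on _ hnd0
    intro L hL L' hL' he
    exact famFin_inj_desc (hdesc L hL) (hdesc L' hL') he
  have hfin : Ω.Finite := Set.finite_of_ncard_pos (by rw [hΩ]; exact hN)
  have hsub : (↑((allFams certs).map famFin).toFinset : Set (Finset (Finset GolayPt))) ⊆ Ω := by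
    intro X hX
    rw [Finset.mem_coe, List.mem_toFinset, List.mem_map] at hX
    obtain ⟨L, hL, rfl⟩ := hX
    exact hin L hL
  have heq : (↑((allFams certs).map famFin).toFinset : Set (Finset (Finset GolayPt))) = Ω := by
    apply Set.eq_of_subset_of_ncard_le hsub _ hfin
    rw [Set.ncard_coe_finset, List.toFinset_card_of_nodup hnd, List.length_map, hcount, hΩ]
  refine ⟨?_, hin, hnd⟩
  intro X hX
  rw [← heq, Finset.mem_coe, List.mem_toFinset, List.mem_map] at hX
  obtain ⟨L, hL, rfl⟩ := hX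
  exact ⟨L, hL, rfl⟩

/-- Counting the members of a tabulated set of families fixed by an explicit element. -/
theorem ncard_fixed_fam (Ω : Set (Finset (Finset GolayPt))) (tbl : List (List ℕ))
    (hcomplete : ∀ X ∈ Ω, ∃ L ∈ tbl, X = famFin L) (hmem : ∀ L ∈ tbl, famFin L ∈ Ω)
    (hnd : (tbl.map famFin).Nodup) {d : List ℕ × List ℕ} (ht : tablesOK d.1 d.2 = true)
    (hlen : d.1.length = 24) :
    {X | X ∈ Ω ∧ gperm d • X = X}.ncard
      = (tbl.filter (fun L => sameMod (L.map (img d.1)) L)).length := by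
  classical
  have hset : {X | X ∈ Ω ∧ gperm d • X = X}
      = ↑((tbl.filter (fun L => sameMod (L.map (img d.1)) L)).map famFin).toFinset := by
    ext X
    rw [Set.mem_ofPred_eq, Finset.mem_coe, List.mem_toFinset, List.mem_map]
    constructor
    · rintro ⟨hX, hfix⟩
      obtain ⟨L, hL, rfl⟩ := hcomplete X hX
      refine ⟨L, List.mem_filter.mpr ⟨hL, ?_⟩, rfl⟩
      rw [← famFin_eq_iff_sameMod, ← gperm_smul_famFin_img ht hlen]
      exact hfix
    · rintro ⟨L, hL, rfl⟩
      rw [List.mem_filter] at hL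
      refine ⟨hmem L hL.1, ?_⟩
      rw [gperm_smul_famFin_img ht hlen]
      exact famFin_eq_iff_sameMod.mpr hL.2
  have hnd1 : ((tbl.filter (fun L => sameMod (L.map (img d.1)) L)).map famFin).Nodup :=
    hnd.sublist (List.Sublist.map famFin List.filter_sublist)
  rw [hset, Set.ncard_coe_finset, List.toFinset_card_of_nodup hnd1, List.length_map]

/-- Counting the code words of a given weight fixed by an explicit element. -/
theorem ncard_fixed_words (k : ℕ) (W : Set (Finset GolayPt))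
    (hW : ∀ s, s ∈ W ↔ ∃ m < 4096, wt (cw m) = k ∧ s = pts (cw m))
    {d : List ℕ × List ℕ} (ht : tablesOK d.1 d.2 = true) (hlen : d.1.length = 24) :
    {o | o ∈ W ∧ gperm d • o = o}.ncard
      = ((Finset.range 4096).filter (fun m =>
          (if wt (cw m) = k ∧ img d.1 (cw m) % 2 ^ 24 = cw m % 2 ^ 24 then 1 else 0) = 1)).card := by
  apply ncard_cls
  intro s
  rw [Set.mem_ofPred_eq, hW]
  constructor
  · rintro ⟨⟨m, hm, hw, rfl⟩, hfix⟩
    refine ⟨m, hm, ?_, rfl⟩
    rw [if_pos]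
    refine ⟨hw, ?_⟩
    rw [← pts_eq_iff_mod, pts_img ht hlen]
    exact hfix
  · rintro ⟨m, hm, hc, rfl⟩
    split_ifs at hc with h
    refine ⟨⟨m, hm, h.1, rfl⟩, ?_⟩
    rw [← pts_img ht hlen]
    exact pts_eq_iff_mod.mpr h.2

/-- Fixed objects of a conjugate. -/
theorem ncard_fixed_conj {X : Type*} [MulAction (Equiv.Perm GolayPt) X] (Ω : Set X)
    (κ g : Equiv.Perm GolayPt) (hΩ : ∀ x, x ∈ Ω ↔ κ • x ∈ Ω) :
    {x | x ∈ Ω ∧ g • x = x}.ncard = {x | x ∈ Ω ∧ (κ * g * κ⁻¹) • x = x}.ncard := by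
  apply Cfsg.Agent.helper2.ncard_smul_eq_gen κ
  intro x
  rw [Set.mem_ofPred_eq, Set.mem_ofPred_eq, ← hΩ, mul_smul, mul_smul, inv_smul_smul]
  constructor
  · rintro ⟨h1, h2⟩
    exact ⟨h1, by rw [h2]⟩
  · rintro ⟨h1, h2⟩
    exact ⟨h1, MulAction.injective κ h2⟩

end Cfsg.Agent.helper2.Golay
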