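import Mathlib
import Cfsg.Agent.S1552
import Cfsg.Agent.S1559
import Cfsg.Agent.Lib_helper2_Dfs2

set_option autoImplicit false

namespace Cfsg.Agent.helper2.Golay

open Cfsg Cfsg.Agent.helper27
open scoped Pointwise

/-! ### Tables of all sextets and all trios -/

/-- All 1771 sextets as decreasing lists of masks. -/
noncomputable def sxTab : List (List ℕ) := allFams Cfsg.Agent.S1552.cSx

/-- All 3795 trios as decreasing lists of masks. -/
noncomputable def trTab : List (List ℕ) := allFams Cfsg.Agent.S1559.cTr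

theorem sxTab_spec : (∀ X ∈ sextets, ∃ L ∈ sxTab, X = famFin L) ∧
    (∀ L ∈ sxTab, famFin L ∈ sextets) ∧ (sxTab.map famFin).Nodup :=
  dfs_enum (famStab [] [] [Cfsg.Agent.S1552.sx0]) sextets 1771 ncard_sextets (by norm_num)
    (fun k hk X hX => smul_mem_sextets (mem_cfgStab.mp (mem_famStab.mp hk).1).1 hX)
    Cfsg.Agent.S1552.gSx (famGens_mem Cfsg.Agent.S1552.gSx_ok) _ Cfsg.Agent.S1552.cSx
    Cfsg.Agent.S1552.cSx_ok
    (fun ct hct => (sx_roots Cfsg.Agent.S1552.sx0_ok _ Cfsg.Agent.S1552.cSx_roots ct hct).1)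

theorem trTab_spec : (∀ X ∈ trios, ∃ L ∈ trTab, X = famFin L) ∧
    (∀ L ∈ trTab, famFin L ∈ trios) ∧ (trTab.map famFin).Nodup :=
  dfs_enum (famStab [] [] [tr0]) trios 3795 ncard_trios (by norm_num)
    (fun k hk X hX => smul_mem_trios (mem_cfgStab.mp (mem_famStab.mp hk).1).1 hX)
    Cfsg.Agent.S1559.gTr (famGens_mem Cfsg.Agent.S1559.gTr_ok) _ Cfsg.Agent.S1559.cTr
    Cfsg.Agent.S1559.cTr_ok
    (fun ct hct => (tr_roots (famInv (famFin tr0)) (famInvL tr0)
      (fun L h => famInv_famFin (trOK_spec tr0_ok).2 h) _ Cfsg.Agent.S1559.cTr_roots ct hct).1)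

/-- Number of sextets fixed by an explicit element. -/
theorem ncard_fixed_sextets {d : List ℕ × List ℕ} (ht : tablesOK d.1 d.2 = true)
    (hlen : d.1.length = 24) :
    {X | X ∈ sextets ∧ gperm d • X = X}.ncard
      = (sxTab.filter (fun L => sameMod (L.map (img d.1)) L)).length :=
  ncard_fixed_fam sextets sxTab sxTab_spec.1 sxTab_spec.2.1 sxTab_spec.2.2 ht hlen

/-- Number of trios fixed by an explicit element. -/
theorem ncard_fixed_trios {d : List ℕ × List ℕ} (ht : tablesOK d.1 d.2 = true)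
    (hlen : d.1.length = 24) :
    {X | X ∈ trios ∧ gperm d • X = X}.ncard
      = (trTab.filter (fun L => sameMod (L.map (img d.1)) L)).length :=
  ncard_fixed_fam trios trTab trTab_spec.1 trTab_spec.2.1 trTab_spec.2.2 ht hlen

theorem octads_iff (s : Finset GolayPt) :
    s ∈ octads ↔ ∃ m < 4096, wt (cw m) = 8 ∧ s = pts (cw m) :=
  ⟨exists_of_mem_octads, fun ⟨_, hm, hw, hs⟩ => hs ▸ pts_mem_octads hm hw⟩

theorem dodecads_iff (s : Finset GolayPt) :
    s ∈ dodecads ↔ ∃ m < 4096, wt (cw m) = 12 ∧ s = pts (cw m) :=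
  ⟨exists_of_mem_dodecads, fun ⟨_, hm, hw, hs⟩ => hs ▸ pts_mem_dodecads hm hw⟩

/-- Number of octads fixed by an explicit element. -/
theorem ncard_fixed_octads {d : List ℕ × List ℕ} (ht : tablesOK d.1 d.2 = true)
    (hlen : d.1.length = 24) :
    {o | o ∈ octads ∧ gperm d • o = o}.ncard
      = ((Finset.range 4096).filter (fun m =>
          (if wt (cw m) = 8 ∧ img d.1 (cw m) % 2 ^ 24 = cw m % 2 ^ 24 then 1 else 0) = 1)).card :=
  ncard_fixed_words 8 octads octads_iff ht hlen

/-- Number of dodecads fixed by an explicit element. -/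
theorem ncard_fixed_dodecads {d : List ℕ × List ℕ} (ht : tablesOK d.1 d.2 = true)
    (hlen : d.1.length = 24) :
    {o | o ∈ dodecads ∧ gperm d • o = o}.ncard
      = ((Finset.range 4096).filter (fun m =>
          (if wt (cw m) = 12 ∧ img d.1 (cw m) % 2 ^ 24 = cw m % 2 ^ 24 then 1 else 0) = 1)).card :=
  ncard_fixed_words 12 dodecads dodecads_iff ht hlen

theorem sextets_smul_iff {κ : Equiv.Perm GolayPt} (hκ : κ ∈ M24) (X : Finset (Finset GolayPt)) :
    X ∈ sextets ↔ κ • X ∈ sextets := by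
  constructor
  · exact smul_mem_sextets hκ
  · intro h
    have := smul_mem_sextets (Subgroup.inv_mem _ hκ) h
    rwa [inv_smul_smul] at this

theorem trios_smul_iff {κ : Equiv.Perm GolayPt} (hκ : κ ∈ M24) (X : Finset (Finset GolayPt)) :
    X ∈ trios ↔ κ • X ∈ trios := by
  constructor
  · exact smul_mem_trios hκ
  · intro h
    have := smul_mem_trios (Subgroup.inv_mem _ hκ) h
    rwa [inv_smul_smul] at this

theorem octads_smul_iff {κ : Equiv.Perm GolayPt} (hκ : κ ∈ M24) (o : Finset GolayPt) :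
    o ∈ octads ↔ κ • o ∈ octads := (smul_mem_octads_iff hκ).symm

theorem dodecads_smul_iff {κ : Equiv.Perm GolayPt} (hκ : κ ∈ M24) (o : Finset GolayPt) :
    o ∈ dodecads ↔ κ • o ∈ dodecads := (smul_mem_dodecads_iff hκ).symm

end Cfsg.Agent.helper2.Golay
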