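import Mathlib
import Cfsg.Agent.Lib_helper2_K6c
import Cfsg.Agent.Lib_helper2_Tabs

set_option autoImplicit false

namespace Cfsg.Agent.helper2.Golay

open Cfsg Cfsg.Agent.helper27
open scoped Pointwise

/-! ### The centraliser of a fixed-point-free involution of `M24` -/

/-- A fixed-point-free involution in the kernel of the base sextet. -/
def tB0 : List ℕ × List ℕ := ([23, 2, 1, 5, 22, 3, 21, 19, 18, 20, 15, 12, 11, 16, 17, 10, 13, 14, 8, 7, 9, 6, 4, 0], [23, 2, 1, 5, 22, 3, 21, 19, 18, 20, 15, 12, 11, 16, 17, 10, 13, 14, 8, 7, 9, 6, 4, 0])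

/-- Elements commuting with `tB0` moving the point `0` to every point. -/
def cB0 : List (List ℕ × List ℕ) := [
  ([0, 1, 2, 3, 4, 5, 6, 7, 8, 9, 10, 11, 12, 13, 14, 15, 16, 17, 18, 19, 20, 21, 22, 23], [0, 1, 2, 3, 4, 5, 6, 7, 8, 9, 10, 11, 12, 13, 14, 15, 16, 17, 18, 19, 20, 21, 22, 23]),
  ([1, 23, 0, 18, 21, 8, 5, 14, 13, 20, 10, 22, 4, 7, 11, 15, 19, 12, 16, 17, 9, 3, 6, 2], [2, 0, 23, 21, 12, 6, 22, 13, 5, 20, 10, 14, 17, 8, 7, 15, 18, 19, 3, 16, 9, 4, 11, 1]),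
  ([2, 0, 23, 5, 21, 3, 11, 18, 20, 4, 16, 10, 15, 7, 14, 13, 19, 17, 9, 8, 22, 12, 6, 1], [1, 23, 0, 5, 9, 3, 22, 13, 19, 18, 11, 6, 21, 15, 14, 12, 10, 17, 7, 16, 8, 4, 20, 2]),
  ([3, 17, 14, 10, 19, 15, 18, 12, 4, 0, 2, 13, 16, 21, 9, 1, 6, 20, 22, 11, 23, 8, 7, 5], [9, 15, 10, 0, 8, 23, 16, 22, 21, 14, 3, 19, 7, 11, 2, 5, 12, 1, 6, 4, 17, 13, 18, 20]),
  ([4, 16, 13, 8, 20, 18, 14, 3, 21, 2, 0, 19, 7, 15, 11, 23, 10, 12, 6, 5, 1, 17, 9, 22], [10, 20, 9, 7, 0, 19, 18, 12, 3, 22, 16, 14, 17, 2, 6, 13, 1, 21, 5, 11, 4, 8, 23, 15]),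
  ([5, 14, 17, 12, 0, 11, 4, 13, 6, 10, 9, 7, 19, 2, 18, 20, 1, 8, 21, 16, 15, 22, 23, 3], [4, 16, 13, 23, 6, 0, 8, 11, 17, 10, 9, 5, 3, 7, 1, 20, 19, 2, 14, 12, 15, 18, 21, 22]),
  ([6, 7, 19, 11, 9, 12, 22, 13, 0, 14, 5, 1, 2, 15, 18, 3, 10, 8, 23, 16, 17, 4, 20, 21], [8, 11, 12, 15, 21, 10, 0, 1, 17, 4, 16, 3, 5, 7, 9, 13, 19, 20, 14, 2, 22, 23, 6, 18]),
  ([7, 21, 6, 20, 2, 9, 13, 4, 17, 8, 11, 5, 3, 0, 15, 12, 23, 10, 14, 22, 18, 16, 1, 19], [13, 22, 4, 12, 7, 11, 2, 0, 9, 5, 17, 10, 15, 6, 18, 14, 21, 8, 20, 23, 3, 1, 19, 16]),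
  ([8, 11, 12, 22, 17, 4, 15, 9, 2, 7, 21, 23, 0, 3, 13, 6, 5, 16, 1, 20, 19, 10, 14, 18], [12, 18, 8, 13, 5, 16, 15, 9, 0, 7, 21, 1, 2, 14, 22, 6, 17, 4, 23, 20, 19, 10, 3, 11]),
  ([9, 15, 10, 13, 5, 16, 21, 19, 12, 23, 1, 18, 8, 17, 4, 2, 14, 22, 11, 7, 0, 6, 3, 20], [20, 10, 15, 22, 14, 4, 21, 19, 12, 0, 2, 18, 8, 3, 16, 1, 5, 13, 11, 7, 23, 6, 17, 9]),
  ([10, 20, 9, 14, 4, 17, 18, 12, 6, 23, 1, 7, 19, 13, 3, 2, 16, 5, 21, 11, 0, 8, 22, 15], [20, 10, 15, 14, 4, 17, 8, 11, 21, 2, 0, 19, 7, 13, 3, 23, 16, 5, 6, 12, 1, 18, 22, 9]),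
  ([11, 18, 8, 4, 7, 22, 14, 3, 20, 1, 23, 15, 10, 6, 13, 0, 21, 16, 9, 5, 2, 17, 19, 12], [15, 9, 20, 7, 3, 19, 13, 4, 2, 18, 12, 0, 23, 14, 6, 11, 17, 21, 1, 22, 8, 16, 5, 10]),
  ([12, 8, 18, 14, 7, 17, 13, 4, 1, 10, 9, 23, 0, 6, 3, 20, 21, 5, 2, 22, 15, 16, 19, 11], [12, 8, 18, 14, 7, 17, 13, 4, 1, 10, 9, 23, 0, 6, 3, 20, 21, 5, 2, 22, 15, 16, 19, 11]),
  ([13, 4, 22, 18, 17, 8, 19, 6, 1, 20, 10, 0, 23, 3, 11, 15, 5, 12, 2, 21, 9, 7, 14, 16], [11, 8, 18, 13, 1, 16, 7, 21, 5, 20, 10, 14, 17, 0, 22, 15, 23, 4, 3, 6, 9, 19, 2, 12]),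
  ([14, 5, 3, 21, 9, 6, 16, 22, 11, 2, 0, 8, 18, 10, 19, 23, 15, 7, 12, 4, 1, 13, 20, 17], [10, 20, 9, 2, 19, 1, 5, 17, 11, 4, 13, 8, 18, 21, 0, 16, 6, 23, 12, 14, 22, 3, 7, 15]),
  ([15, 9, 20, 18, 4, 8, 3, 14, 23, 19, 21, 1, 2, 13, 12, 6, 16, 11, 0, 17, 7, 5, 22, 10], [18, 11, 12, 6, 4, 21, 15, 20, 5, 1, 23, 17, 14, 13, 7, 0, 16, 19, 3, 9, 2, 10, 22, 8]),
  ([16, 22, 4, 6, 17, 21, 18, 11, 15, 1, 0, 9, 20, 3, 19, 23, 5, 7, 10, 12, 2, 8, 14, 13], [10, 9, 20, 13, 2, 16, 3, 17, 21, 11, 18, 7, 19, 23, 22, 8, 0, 4, 6, 14, 12, 5, 1, 15]),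
  ([17, 5, 3, 13, 12, 16, 10, 20, 6, 23, 2, 19, 7, 8, 22, 1, 18, 4, 21, 9, 0, 15, 11, 14], [20, 15, 10, 2, 17, 1, 8, 12, 13, 19, 6, 22, 4, 3, 23, 21, 5, 0, 16, 11, 7, 18, 14, 9]),
  ([18, 12, 11, 9, 17, 20, 22, 13, 6, 2, 23, 19, 7, 3, 15, 0, 5, 10, 21, 16, 1, 4, 14, 8], [15, 20, 9, 13, 21, 16, 8, 12, 23, 3, 17, 2, 1, 7, 22, 14, 19, 4, 0, 11, 5, 18, 6, 10]),
  ([19, 6, 21, 5, 12, 3, 16, 22, 15, 23, 1, 20, 9, 18, 17, 2, 8, 14, 10, 4, 0, 13, 11, 7], [20, 10, 15, 5, 19, 3, 1, 23, 16, 12, 18, 22, 4, 21, 17, 8, 6, 14, 13, 0, 11, 2, 7, 9]),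
  ([20, 10, 15, 21, 1, 6, 11, 8, 17, 13, 4, 5, 3, 23, 19, 22, 0, 7, 14, 18, 16, 12, 2, 9], [16, 4, 22, 12, 10, 11, 5, 17, 7, 23, 1, 6, 21, 9, 18, 2, 20, 8, 19, 14, 0, 3, 15, 13]),
  ([21, 19, 7, 13, 9, 16, 11, 18, 3, 0, 1, 17, 14, 15, 22, 2, 10, 4, 5, 8, 23, 12, 20, 6], [9, 10, 15, 8, 17, 18, 23, 2, 19, 4, 16, 6, 21, 3, 12, 13, 5, 11, 7, 1, 22, 0, 14, 20]),
  ([22, 13, 16, 14, 20, 17, 11, 8, 2, 7, 6, 0, 23, 15, 3, 21, 10, 5, 1, 18, 19, 12, 9, 4], [11, 18, 8, 14, 23, 17, 10, 9, 7, 22, 16, 6, 21, 1, 3, 13, 2, 5, 19, 20, 4, 15, 0, 12]),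
  ([23, 2, 1, 6, 4, 21, 14, 3, 9, 12, 18, 10, 15, 13, 7, 8, 16, 19, 20, 5, 11, 17, 22, 0], [23, 2, 1, 7, 4, 19, 3, 14, 15, 8, 11, 20, 9, 13, 6, 12, 16, 21, 10, 17, 18, 5, 22, 0])]

theorem tB0_mem : tB0 ∈ k6Pairs := by decide +kernel

theorem tB0_ok : tablesOK tB0.1 tB0.2 = true ∧ tB0.1.length = 24 := k6Pairs_spec tB0 tB0_mem

theorem tB0_sq : comp tB0.1 tB0.1 = idTab := by decide +kernel

theorem tB0_fpf' : ∀ i < 24, tb tB0.1 i ≠ i := by decide +kernel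

theorem gperm_fpf_iff {d : List ℕ × List ℕ} (ht : tablesOK d.1 d.2 = true) :
    (∀ p, gperm d p ≠ p) ↔ ∀ i < 24, tb d.1 i ≠ i := by
  have hs := tablesOK_spec ht
  constructor
  · intro h i hi heq
    apply h (pt i)
    rw [gperm_pt ht hi, heq]
  · intro h p hp
    rw [gperm_apply ht] at hp
    have := congrArg idx hp
    rw [idx_pt _ (hs _ (idx_lt p)).1] at this
    exact h _ (idx_lt p) this

theorem tB0_K6 : gperm tB0 ∈ K6 := mem_K6_iff.mpr ⟨tB0, tB0_mem, rfl⟩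

theorem tB0_M24 : gperm tB0 ∈ M24 := (mem_K6.mp tB0_K6).1

theorem tB0_sq' : gperm tB0 * gperm tB0 = 1 := gperm_sq_one tB0_ok.1 tB0_sq

theorem tB0_fpf : ∀ p, gperm tB0 p ≠ p := (gperm_fpf_iff tB0_ok.1).mpr tB0_fpf'

theorem base_mem_sextets : famFin sxBase ∈ sextets := famFin_mem_sextets sxBase_ok

set_option maxRecDepth 100000 in
/-- The base sextet is the only sextet all of whose tetrads are invariant under `tB0`. -/
theorem uniq_check : sxTab.all (fun L =>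
    !(L.all (fun m => img tB0.1 m % 2 ^ 24 == m % 2 ^ 24)) || sameMod L sxBase) = true := by
  decide +kernel

theorem uniq_base {S : Finset (Finset GolayPt)} (hS : S ∈ sextets)
    (h : ∀ T ∈ S, gperm tB0 • T = T) : S = famFin sxBase := by
  obtain ⟨L, hL, rfl⟩ := sxTab_spec.1 S hS
  have := List.all_eq_true.mp uniq_check L hL
  rw [Bool.or_eq_true, Bool.not_eq_true'] at this
  rcases this with h1 | h1
  · exfalso
    have h2 : L.all (fun m => img tB0.1 m % 2 ^ 24 == m % 2 ^ 24) = true := by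
      rw [List.all_eq_true]
      intro m hm
      rw [beq_iff_eq, ← pts_eq_iff_mod, pts_img tB0_ok.1 tB0_ok.2]
      exact h _ (mem_famFin.mpr ⟨m, hm, rfl⟩)
    rw [h2] at h1
    exact absurd h1 (by simp)
  · exact famFin_eq_iff_sameMod.mpr h1

/-- Elements of the kernel fix the base sextet. -/
theorem K6_smul_base {x : Equiv.Perm GolayPt} (hx : x ∈ K6) : x • famFin sxBase = famFin sxBase := by
  rw [← famKer_base] at hx
  ext T
  rw [Finset.mem_smul_finset]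
  constructor
  · rintro ⟨T0, hT0, rfl⟩
    rw [(mem_famKer.mp hx).2 T0 hT0]
    exact hT0
  · intro hT
    exact ⟨T, hT, (mem_famKer.mp hx).2 T hT⟩

/-- The centraliser of `tB0` stabilises the base sextet. -/
theorem cent_stab {c : Equiv.Perm GolayPt} (hc : c ∈ M24)
    (hct : c * gperm tB0 = gperm tB0 * c) : c • famFin sxBase = famFin sxBase := by
  apply uniq_base (smul_mem_sextets hc base_mem_sextets)
  intro T hT
  obtain ⟨T0, hT0, rfl⟩ := Finset.mem_smul_finset.mp hT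
  rw [smul_smul, ← hct, mul_smul]
  congr 1
  have := tB0_K6
  rw [← famKer_base] at this
  exact (mem_famKer.mp this).2 T0 hT0

/-- Fixed-point-free involutions of `M24` are conjugate to `tB0`. -/
theorem conj_to_tB0 {x : Equiv.Perm GolayPt} (hx : x ∈ M24) (h2 : x * x = 1)
    (hf : ∀ p, x p ≠ p) : ∃ g ∈ M24, g * gperm tB0 * g⁻¹ = x := by
  have hx1 : x ≠ 1 := by
    rintro rfl
    exact hf (pt 0) rfl
  have ht1 : gperm tB0 ≠ 1 := by
    intro h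
    apply tB0_fpf (pt 0)
    rw [h]
    rfl
  have key : ∀ y ∈ M24, y * y = 1 → y ≠ 1 → (∀ p, y p ≠ p) →
      ∃ κ ∈ M24, κ * y * κ⁻¹ = gperm repB := by
    intro y hy hy2 hy1 hyf
    rcases inv_classes hy (orderOf_two_of_sq hy2 hy1) with ⟨κ, hκ, e⟩ | ⟨κ, hκ, e⟩
    · exact absurd hyf (not_fpf_of_conj_repA e)
    · exact ⟨κ, hκ, e⟩
  obtain ⟨κ, hκ, e⟩ := key x hx h2 hx1 hf
  obtain ⟨κ0, hκ0, e0⟩ := key _ tB0_M24 tB0_sq' ht1 tB0_fpf
  refine ⟨κ⁻¹ * κ0, Subgroup.mul_mem _ (Subgroup.inv_mem _ hκ) hκ0, ?_⟩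
  have : κ⁻¹ * κ0 * gperm tB0 * (κ⁻¹ * κ0)⁻¹ = κ⁻¹ * (κ0 * gperm tB0 * κ0⁻¹) * κ := by group
  rw [this, e0, ← e]
  group

/-- An element conjugating `tB0` into the kernel stabilises the base sextet. -/
theorem conj_stab {g : Equiv.Perm GolayPt} (hg : g ∈ M24)
    (hx : g * gperm tB0 * g⁻¹ ∈ K6) : g • famFin sxBase = famFin sxBase := by
  have h1 : g⁻¹ • famFin sxBase = famFin sxBase := by
    apply uniq_base (smul_mem_sextets (Subgroup.inv_mem _ hg) base_mem_sextets)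
    intro T hT
    obtain ⟨T0, hT0, rfl⟩ := Finset.mem_smul_finset.mp hT
    rw [← famKer_base] at hx
    have h3 := (mem_famKer.mp hx).2 T0 hT0
    rw [mul_smul, mul_smul, smul_eq_iff_eq_inv_smul] at h3
    exact h3
  rw [inv_smul_eq_iff] at h1
  exact h1.symm

/-- The fixed-point-free involutions of the kernel. -/
def X18 : Set (Equiv.Perm GolayPt) := {g | g ∈ K6 ∧ g * g = 1 ∧ ∀ p, g p ≠ p}

theorem k6_fpf_count : (k6Pairs.filter (fun d => (comp d.1 d.1 == idTab) &&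
    (List.range 24).all (fun i => tb d.1 i != i))).length = 18 := by
  decide +kernel

theorem X18_eq : X18 = ↑((k6Pairs.filter (fun d => (comp d.1 d.1 == idTab) &&
    (List.range 24).all (fun i => tb d.1 i != i))).map gperm).toFinset := by
  ext g
  rw [Finset.mem_coe, List.mem_toFinset, List.mem_map]
  constructor
  · rintro ⟨hg, h2, hf⟩
    obtain ⟨d, hd, rfl⟩ := mem_K6_iff.mp hg
    refine ⟨d, List.mem_filter.mpr ⟨hd, ?_⟩, rfl⟩
    rw [Bool.and_eq_true, beq_iff_eq, List.all_eq_true]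
    refine ⟨(gperm_sq_iff (k6Pairs_spec d hd).1).mp h2, ?_⟩
    intro i hi
    rw [bne_iff_ne]
    exact (gperm_fpf_iff (k6Pairs_spec d hd).1).mp hf i (List.mem_range.mp hi)
  · rintro ⟨d, hd, rfl⟩
    rw [List.mem_filter, Bool.and_eq_true, beq_iff_eq, List.all_eq_true] at hd
    refine ⟨mem_K6_iff.mpr ⟨d, hd.1, rfl⟩, (gperm_sq_iff (k6Pairs_spec d hd.1).1).mpr hd.2.1, ?_⟩
    apply (gperm_fpf_iff (k6Pairs_spec d hd.1).1).mpr
    intro i hi
    have := hd.2.2 i (List.mem_range.mpr hi)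
    rwa [bne_iff_ne] at this

theorem ncard_X18 : X18.ncard = 18 := by
  rw [X18_eq, Set.ncard_coe_finset, List.toFinset_card_of_nodup, List.length_map, k6_fpf_count]
  exact k6_map_nodup.sublist (List.Sublist.map gperm List.filter_sublist)

/-- Orbit-stabiliser for the conjugation action, with the orbit given as a set. -/
theorem card_conj_orbit {G : Type*} [Group G] [Finite G] (t : G) (X : Set G)
    (h1 : ∀ h : G, h * t * h⁻¹ ∈ X) (h2 : ∀ x ∈ X, ∃ h : G, h * t * h⁻¹ = x) :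
    Nat.card {c : G // c * t = t * c} * X.ncard = Nat.card G := by
  have horb : MulAction.orbit (ConjAct G) t = X := by
    ext x
    constructor
    · rintro ⟨k, rfl⟩
      exact h1 (ConjAct.ofConjAct k)
    · intro hx
      obtain ⟨h, rfl⟩ := h2 x hx
      exact ⟨ConjAct.toConjAct h, rfl⟩
  have hstab : Nat.card (MulAction.stabilizer (ConjAct G) t) = Nat.card {c : G // c * t = t * c} := by
    apply Nat.card_congr
    refine ⟨fun k => ⟨ConjAct.ofConjAct k.1, ?_⟩, fun c => ⟨ConjAct.toConjAct c.1, ?_⟩, ?_, ?_⟩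
    · have := MulAction.mem_stabilizer_iff.mp k.2
      rw [ConjAct.smul_def] at this
      exact mul_inv_eq_iff_eq_mul.mp this
    · rw [MulAction.mem_stabilizer_iff, ConjAct.smul_def, ConjAct.ofConjAct_toConjAct]
      exact mul_inv_eq_iff_eq_mul.mpr c.2
    · intro k
      rfl
    · intro c
      rfl
  rw [← hstab, ← horb, ← MulAction.index_stabilizer, Subgroup.card_mul_index]
  exact Nat.card_congr ConjAct.ofConjAct.toEquiv

theorem orbit_base : MulAction.orbit M24 (famFin sxBase) = sextets := by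
  apply Cfsg.Agent.helper2.orbit_eq_of_trans (G := M24) sextets
    (fun g x hx => smul_mem_sextets g.2 hx) (famFin sxBase) _ base_mem_sextets
  intro x hx
  obtain ⟨h, hh, hhS⟩ := sextet_to_sxBase hx
  exact ⟨⟨h, hh⟩, hhS⟩

/-- The stabiliser of a sextet has order 138240. -/
theorem card_stab_base : Nat.card (MulAction.stabilizer M24 (famFin sxBase)) = 138240 := by
  have h1 := Subgroup.card_mul_index (MulAction.stabilizer M24 (famFin sxBase))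
  rw [MulAction.index_stabilizer, orbit_base, ncard_sextets, card_M24] at h1
  exact Nat.eq_of_mul_eq_mul_right (by norm_num : 0 < 1771) (h1.trans (by norm_num))

/-- `tB0` as an element of the stabiliser of the base sextet. -/
noncomputable def tB0' : MulAction.stabilizer M24 (famFin sxBase) :=
  ⟨⟨gperm tB0, tB0_M24⟩, MulAction.mem_stabilizer_iff.mpr (K6_smul_base tB0_K6)⟩

theorem card_cent_stab :
    Nat.card {c : MulAction.stabilizer M24 (famFin sxBase) // c * tB0' = tB0' * c} = 7680 := by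
  have hfin : Finite (MulAction.stabilizer M24 (famFin sxBase)) :=
    Nat.finite_of_card_ne_zero (by rw [card_stab_base]; norm_num)
  let f : MulAction.stabilizer M24 (famFin sxBase) → Equiv.Perm GolayPt := fun x => ((x : M24) :
    Equiv.Perm GolayPt)
  have hf : Function.Injective f := fun a b h => Subtype.ext (Subtype.ext h)
  have hsub : X18 ⊆ Set.range f := by
    rintro x ⟨hx, -, -⟩
    exact ⟨⟨⟨x, (mem_K6.mp hx).1⟩, MulAction.mem_stabilizer_iff.mpr (K6_smul_base hx)⟩, rfl⟩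
  have key := card_conj_orbit tB0' (f ⁻¹' X18) ?_ ?_
  · rw [Set.ncard_preimage_of_injective_subset_range hf hsub, ncard_X18, card_stab_base] at key
    exact Nat.eq_of_mul_eq_mul_right (by norm_num : 0 < 18) (key.trans (by norm_num))
  · intro h
    show ((h : M24) : Equiv.Perm GolayPt) * gperm tB0 * ((h : M24) : Equiv.Perm GolayPt)⁻¹ ∈ X18
    have hh : ((h : M24) : Equiv.Perm GolayPt) • famFin sxBase = famFin sxBase :=
      MulAction.mem_stabilizer_iff.mp h.2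
    refine ⟨?_, ?_, ?_⟩
    · have := (famKer_conj (S := famFin sxBase) (h.1).2 (gperm tB0)).mp
        (by rw [famKer_base]; exact tB0_K6)
      rw [hh, famKer_base] at this
      exact this
    · have : ((h : M24) : Equiv.Perm GolayPt) * gperm tB0 * ((h : M24) : Equiv.Perm GolayPt)⁻¹ *
          (((h : M24) : Equiv.Perm GolayPt) * gperm tB0 * ((h : M24) : Equiv.Perm GolayPt)⁻¹)
          = ((h : M24) : Equiv.Perm GolayPt) * (gperm tB0 * gperm tB0) *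
            ((h : M24) : Equiv.Perm GolayPt)⁻¹ := by group
      rw [this, tB0_sq']
      group
    · intro p hp
      rw [fixed_conj] at hp
      exact tB0_fpf _ hp
  · rintro x ⟨hx, hx2, hxf⟩
    obtain ⟨g, hg, hgx⟩ := conj_to_tB0 (mem_K6.mp hx).1 hx2 hxf
    have hgs : g • famFin sxBase = famFin sxBase := conj_stab hg (by rw [hgx]; exact hx)
    refine ⟨⟨⟨g, hg⟩, MulAction.mem_stabilizer_iff.mpr hgs⟩, ?_⟩
    apply hf
    exact hgx

/-- The centraliser of `tB0` in `M24` has order 7680. -/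
theorem card_cent_tB0 :
    Nat.card {c : Equiv.Perm GolayPt // c ∈ M24 ∧ c * gperm tB0 = gperm tB0 * c} = 7680 := by
  rw [← card_cent_stab]
  apply Nat.card_congr
  refine ⟨fun c => ⟨⟨⟨c.1, c.2.1⟩, MulAction.mem_stabilizer_iff.mpr (cent_stab c.2.1 c.2.2)⟩,
    Subtype.ext (Subtype.ext c.2.2)⟩, fun c => ⟨((c.1 : M24) : Equiv.Perm GolayPt), (c.1 : M24).2,
    congrArg (fun z : MulAction.stabilizer M24 (famFin sxBase) => ((z : M24) :
      Equiv.Perm GolayPt)) c.2⟩, ?_, ?_⟩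
  · intro c
    rfl
  · intro c
    rfl

theorem gperm_comm_of_comp {d e : List ℕ × List ℕ} (hd : tablesOK d.1 d.2 = true)
    (he : tablesOK e.1 e.2 = true) (h : comp d.1 e.1 = comp e.1 d.1) :
    gperm d * gperm e = gperm e * gperm d := by
  rw [← gperm_compD hd he, ← gperm_compD he hd]
  exact gperm_eq_of_fst (tablesOK_compD hd he) (tablesOK_compD he hd) h

theorem cB0_ok : cB0.all (fun d => tablesOK d.1 d.2 && codeOK d.2 &&
    (comp d.1 tB0.1 == comp tB0.1 d.1)) = true := by decide +kernel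

theorem cB0_img : ∀ q < 24, q < cB0.length ∧ tb (cB0.getD q ([], [])).1 0 = q := by
  decide +kernel

/-- The centraliser of `tB0` is transitive on the points. -/
theorem cent_trans_base (p q : GolayPt) :
    ∃ c ∈ M24, c * gperm tB0 = gperm tB0 * c ∧ c p = q := by
  have hc : ∀ r : GolayPt, ∃ c ∈ M24, c * gperm tB0 = gperm tB0 * c ∧ c (pt 0) = r := by
    intro r
    obtain ⟨hlt, himg⟩ := cB0_img (idx r) (idx_lt r)
    have hmem : cB0.getD (idx r) ([], []) ∈ cB0 := by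
      rw [List.getD_eq_getElem _ _ hlt]
      exact List.getElem_mem hlt
    have := List.all_eq_true.mp cB0_ok _ hmem
    rw [Bool.and_eq_true, Bool.and_eq_true, beq_iff_eq] at this
    obtain ⟨⟨h1, h2⟩, h3⟩ := this
    refine ⟨gperm (cB0.getD (idx r) ([], [])), gperm_mem h1 h2,
      gperm_comm_of_comp h1 tB0_ok.1 h3, ?_⟩
    rw [gperm_pt h1 (by norm_num), himg, pt_idx]
  obtain ⟨cp, hcp, hcpt, hcp0⟩ := hc p
  obtain ⟨cq, hcq, hcqt, hcq0⟩ := hc q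
  refine ⟨cq * cp⁻¹, Subgroup.mul_mem _ hcq (Subgroup.inv_mem _ hcp), ?_, ?_⟩
  · have h1 : cp⁻¹ * gperm tB0 = gperm tB0 * cp⁻¹ := by
      have : cp⁻¹ * gperm tB0 = cp⁻¹ * (gperm tB0 * cp) * cp⁻¹ := by group
      rw [this, ← hcpt]
      group
    rw [mul_assoc, h1, ← mul_assoc, hcqt, mul_assoc]
  · rw [Equiv.Perm.mul_apply, ← hcp0, show cp⁻¹ (cp (pt 0)) = pt 0 from
      Equiv.symm_apply_apply cp (pt 0), hcq0]

end Cfsg.Agent.helper2.Golay
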