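import Mathlib

/-!
Finite groups given by a Cayley graph with several generators: `n` elements of a monoid containing
the identity, closed under right multiplication by `g` of them, with a spanning tree.  The abstract
group on the index set, homomorphisms out of it from Cayley-compatible families, and the
isomorphism type of Sylow subgroups from a common embedded group.
-/

set_option autoImplicit false

namespace Cfsg.Agent.helper2.Cay

/-- multiplication computed along the spanning tree -/
def mulG {n g : ℕ} (r : Fin g → Fin n → Fin n) (par : Fin n → Fin n) (gen : Fin n → Fin g) :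
    ℕ → Fin n → Fin n → Fin n
  | 0, x, _ => x
  | (k+1), x, y => if y.val = 0 then x else r (gen y) (mulG r par gen k x (par y))

structure CData (Mo : Type*) [Monoid Mo] (n g : ℕ) where
  M : Fin n → Mo
  r : Fin g → Fin n → Fin n
  par : Fin n → Fin n
  gen : Fin n → Fin g
  inv : Fin n → Fin n
  e : Fin n
  ig : Fin g → Fin n
  e_val : e.val = 0
  M_r : ∀ k x, M (r k x) = M x * M (ig k)
  tree : ∀ y : Fin n, y.val ≠ 0 → (par y).val < y.val ∧ r (gen y) (par y) = y
  M_e : M e = 1
  M_inj : ∀ x y, M x = M y → x = y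
  inv_mul : ∀ x, mulG r par gen n (inv x) x = e

variable {Mo : Type*} [Monoid Mo] {n g : ℕ}

namespace CData
variable (D : CData Mo n g)

/-- raw multiplication -/
def mul (x y : Fin n) : Fin n := mulG D.r D.par D.gen n x y

theorem eq_e_of_val {y : Fin n} (h : y.val = 0) : y = D.e := Fin.ext (h.trans D.e_val.symm)

/-- any Cayley-compatible family into a monoid is multiplicative -/
theorem N_mulG {Mo' : Type*} [Monoid Mo'] (N : Fin n → Mo')
    (hr : ∀ k x, N (D.r k x) = N x * N (D.ig k)) (he : N D.e = 1) (k : ℕ) :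
    ∀ (x y : Fin n), y.val ≤ k → N (mulG D.r D.par D.gen k x y) = N x * N y := by
  induction k with
  | zero =>
    intro x y hy
    have : y = D.e := D.eq_e_of_val (Nat.le_zero.mp hy)
    rw [this, he, mul_one]
    rfl
  | succ k ih =>
    intro x y hy
    rw [mulG]
    by_cases h0 : y.val = 0
    · rw [if_pos h0, D.eq_e_of_val h0, he, mul_one]
    · rw [if_neg h0]
      obtain ⟨hlt, htree⟩ := D.tree y h0
      have hk : (D.par y).val ≤ k := by omega
      have ihp := ih x (D.par y) hk
      rw [hr, ihp, mul_assoc, ← hr, htree]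

theorem N_mul {Mo' : Type*} [Monoid Mo'] (N : Fin n → Mo')
    (hr : ∀ k x, N (D.r k x) = N x * N (D.ig k)) (he : N D.e = 1) (x y : Fin n) :
    N (D.mul x y) = N x * N y :=
  D.N_mulG N hr he n x y (le_of_lt y.isLt)

theorem M_mul (x y : Fin n) : D.M (D.mul x y) = D.M x * D.M y :=
  D.N_mul D.M D.M_r D.M_e x y

end CData

/-- the abstract group on the index set -/
structure CG (D : CData Mo n g) where
  k : Fin n
deriving DecidableEq

namespace CG
variable {D : CData Mo n g}

theorem ext' {a b : CG D} (h : a.k = b.k) : a = b := by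
  cases a; cases b; simp_all

instance : Mul (CG D) := ⟨fun a b => ⟨D.mul a.k b.k⟩⟩
instance : One (CG D) := ⟨⟨D.e⟩⟩
instance : Inv (CG D) := ⟨fun a => ⟨D.inv a.k⟩⟩

theorem mul_k (a b : CG D) : (a * b).k = D.mul a.k b.k := rfl
theorem one_k : (1 : CG D).k = D.e := rfl
theorem inv_k (a : CG D) : (a⁻¹).k = D.inv a.k := rfl

instance : Group (CG D) where
  mul_assoc a b c := by
    apply ext'
    apply D.M_inj
    simp only [mul_k, D.M_mul, mul_assoc]
  one_mul a := by
    apply ext'
    apply D.M_inj
    simp only [mul_k, one_k, D.M_mul, D.M_e, one_mul]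
  mul_one a := by
    apply ext'
    apply D.M_inj
    simp only [mul_k, one_k, D.M_mul, D.M_e, mul_one]
  inv_mul_cancel a := by
    apply ext'
    exact D.inv_mul a.k

def equivFin (D : CData Mo n g) : CG D ≃ Fin n := ⟨CG.k, CG.mk, fun _ => rfl, fun _ => rfl⟩

instance : Fintype (CG D) := Fintype.ofEquiv _ (equivFin D).symm

theorem card_eq (D : CData Mo n g) : Nat.card (CG D) = n := by
  rw [Nat.card_congr (equivFin D), Nat.card_fin]

/-- the homomorphism given by a Cayley-compatible family -/
def homOf (D : CData Mo n g) {Mo' : Type*} [Monoid Mo'] (N : Fin n → Mo')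
    (hr : ∀ k x, N (D.r k x) = N x * N (D.ig k)) (he : N D.e = 1) : CG D →* Mo' where
  toFun a := N a.k
  map_one' := he
  map_mul' a b := D.N_mul N hr he a.k b.k

theorem homOf_apply (D : CData Mo n g) {Mo' : Type*} [Monoid Mo'] (N : Fin n → Mo')
    (hr : ∀ k x, N (D.r k x) = N x * N (D.ig k)) (he : N D.e = 1) (a : CG D) :
    homOf D N hr he a = N a.k := rfl

/-- the defining representation -/
def rho (D : CData Mo n g) : CG D →* Mo := homOf D D.M D.M_r D.M_e

theorem rho_apply (a : CG D) : rho D a = D.M a.k := rfl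

theorem rho_injective (D : CData Mo n g) : Function.Injective (rho D) := by
  intro a b h
  exact ext' (D.M_inj _ _ h)

theorem mk_r (k : Fin g) (z : Fin n) : (⟨D.r k z⟩ : CG D) = ⟨z⟩ * ⟨D.ig k⟩ := by
  apply rho_injective D
  rw [map_mul, rho_apply, rho_apply, rho_apply, D.M_r]

theorem mem_closure (D : CData Mo n g) (k : ℕ) : ∀ y : Fin n, y.val ≤ k →
    (⟨y⟩ : CG D) ∈ Subgroup.closure (Set.range fun j : Fin g => (⟨D.ig j⟩ : CG D)) := by
  induction k with
  | zero =>
    intro y hy
    have : y = D.e := D.eq_e_of_val (Nat.le_zero.mp hy)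
    rw [this]
    exact Subgroup.one_mem _
  | succ k ih =>
    intro y hy
    by_cases h0 : y.val = 0
    · rw [D.eq_e_of_val h0]
      exact Subgroup.one_mem _
    · obtain ⟨hlt, htree⟩ := D.tree y h0
      have hk : (D.par y).val ≤ k := by omega
      have ihp := ih (D.par y) hk
      rw [← htree, mk_r]
      exact Subgroup.mul_mem _ ihp (Subgroup.subset_closure ⟨_, rfl⟩)

theorem closure_eq_top (D : CData Mo n g) :
    Subgroup.closure (Set.range fun j : Fin g => (⟨D.ig j⟩ : CG D)) = ⊤ := by
  rw [eq_top_iff]
  intro y _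
  exact mem_closure D n y.k (le_of_lt y.k.isLt)

/-- a homomorphism to a commutative-free target is trivial when it kills the generators -/
theorem hom_eq_one_of_gens (D : CData Mo n g) {A : Type*} [Group A] (φ : CG D →* A)
    (h : ∀ j : Fin g, φ ⟨D.ig j⟩ = 1) (x : CG D) : φ x = 1 := by
  have hx : x ∈ Subgroup.closure (Set.range fun j : Fin g => (⟨D.ig j⟩ : CG D)) := by
    rw [closure_eq_top]
    exact Subgroup.mem_top x
  have hle : Subgroup.closure (Set.range fun j : Fin g => (⟨D.ig j⟩ : CG D)) ≤ φ.ker := by
    rw [Subgroup.closure_le]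
    rintro _ ⟨j, rfl⟩
    exact MonoidHom.mem_ker.mpr (h j)
  exact MonoidHom.mem_ker.mp (hle hx)

end CG

/-! ### Sylow subgroups from an embedded group -/

theorem factorization_two_of_eq (N k m : ℕ) (h : N = 2 ^ k * m) (hm : ¬ 2 ∣ m) :
    N.factorization 2 = k := by
  have hm0 : m ≠ 0 := by
    rintro rfl
    exact hm (dvd_zero 2)
  rw [h, Nat.factorization_mul (pow_ne_zero _ (by norm_num)) hm0,
    Nat.Prime.factorization_pow Nat.prime_two]
  simp [Nat.factorization_eq_zero_of_not_dvd hm]

theorem sylow_iso_of_embed {G T : Type*} [Group G] [Group T] [Finite G] (p : ℕ) [Fact p.Prime]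
    (f : T →* G) (hf : Function.Injective f)
    (hT : Nat.card T = p ^ (Nat.card G).factorization p) (P : Sylow p G) :
    Nonempty (↥(P : Subgroup G) ≃* T) := by
  have hcard : Nat.card ↥f.range = p ^ (Nat.card G).factorization p := by
    rw [← hT]
    exact Nat.card_congr (MonoidHom.ofInjective hf).symm.toEquiv
  let P' : Sylow p G := Sylow.ofCard f.range hcard
  exact ⟨(P.equiv P').trans (MonoidHom.ofInjective hf).symm⟩

end Cfsg.Agent.helper2.Cay
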