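import Mathlib
import Cfsg.Agent.Lib_helper2_Cay2

/-! Verified facts about the 128 matrices and the resulting table group. -/

set_option autoImplicit false
set_option maxRecDepth 100000
set_option synthInstance.maxSize 4000
set_option synthInstance.maxHeartbeats 2000000
set_option maxHeartbeats 4000000

namespace Cfsg.Agent.helper2.Syl

open Cfsg.Agent.helper2.Cay Cfsg.Agent.helper2.H1 Matrix

/-- explicit matrix product on entry functions -/
def mm6 {R : Type*} [Mul R] [Add R] (A B : I6 → I6 → R) (i j : I6) : R :=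
  A i (.inl (.inl 0)) * B (.inl (.inl 0)) j + A i (.inl (.inl 1)) * B (.inl (.inl 1)) j +
    A i (.inl (.inr 0)) * B (.inl (.inr 0)) j + A i (.inl (.inr 1)) * B (.inl (.inr 1)) j +
    A i (.inr 0) * B (.inr 0) j + A i (.inr 1) * B (.inr 1) j

theorem mul_eq_mm6 {R : Type*} [CommRing R] (A B : Matrix I6 I6 R) (i j : I6) :
    (A * B) i j = mm6 A B i j := by
  rw [Matrix.mul_apply]
  simp only [mm6, Fintype.sum_sum_type, Fin.sum_univ_two]
  ring

/-- explicit matrix-vector product on entry functions -/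
def mv6 {R : Type*} [Mul R] [Add R] (A : I6 → I6 → R) (v : I6 → R) (i : I6) : R :=
  A i (.inl (.inl 0)) * v (.inl (.inl 0)) + A i (.inl (.inl 1)) * v (.inl (.inl 1)) +
    A i (.inl (.inr 0)) * v (.inl (.inr 0)) + A i (.inl (.inr 1)) * v (.inl (.inr 1)) +
    A i (.inr 0) * v (.inr 0) + A i (.inr 1) * v (.inr 1)

theorem mulVec_eq_mv6 {R : Type*} [CommRing R] (A : Matrix I6 I6 R) (v : I6 → R) :
    A *ᵥ v = mv6 A v := by
  funext i
  rw [Matrix.mulVec, dotProduct]
  simp only [mv6, Fintype.sum_sum_type, Fin.sum_univ_two]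
  ring

theorem o6_r : ∀ k : Fin 3, ∀ x : Fin 128, ∀ i j : I6,
    o6E (o6r k x) i j = mm6 (o6E x) (o6E (o6ig k)) i j := by
  decide +kernel

theorem o6_tree : ∀ y : Fin 128, y.val ≠ 0 →
    (o6par y).val < y.val ∧ o6r (o6gen y) (o6par y) = y := by
  decide +kernel

theorem o6_one : ∀ i j : I6, o6E 0 i j = if i = j then 1 else 0 := by
  decide +kernel

theorem o6_inv : ∀ x : Fin 128, mulG o6r o6par o6gen 128 (o6inv x) x = 0 := by
  decide +kernel

theorem o6_inj : ∀ x y : Fin 128, (∀ i j : I6, o6E x i j = o6E y i j) → x = y := by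
  decide +kernel

theorem o6_isom : ∀ x : Fin 128, ∀ k < 64,
    qfM2 (mv6 (o6E x) (dec posM2 k)) = qfM2 (dec posM2 k) := by
  decide +kernel

theorem o6_P_r : ∀ k : Fin 3, ∀ x : Fin 128, ∀ i : Fin 8,
    o6P (o6r k x) i = o6P x (o6P (o6ig k) i) := by
  decide +kernel

theorem o6_P_one : ∀ i : Fin 8, o6P 0 i = i := by
  decide +kernel

theorem o6_P_inj : ∀ x : Fin 128, (∀ i : Fin 8, o6P x i = i) → x = 0 := by
  decide +kernel

/-- the Cayley-graph data of the Sylow 2-subgroup -/
def D2 : CData (Matrix I6 I6 (ZMod 2)) 128 3 where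
  M := o6M
  r := o6r
  par := o6par
  gen := o6gen
  inv := o6inv
  e := 0
  ig := o6ig
  e_val := rfl
  M_r k x := by
    apply Matrix.ext
    intro i j
    rw [mul_eq_mm6]
    exact o6_r k x i j
  tree := o6_tree
  M_e := by
    apply Matrix.ext
    intro i j
    rw [Matrix.one_apply]
    exact o6_one i j
  M_inj x y h := o6_inj x y (fun i j => congrFun (congrFun h i) j)
  inv_mul := o6_inv

theorem card_T2 : Nat.card (CG D2) = 128 := CG.card_eq D2

end Cfsg.Agent.helper2.Syl
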