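import Mathlib
import Cfsg.Agent.Lib_helper2_Cay3
import Cfsg.Agent.Lib_helper13_OrthG

/-! The Sylow 2-subgroups of the symmetric group of degree 8 and of the orthogonal group of minus type
in dimension 6 over a field with two elements are isomorphic. -/

set_option autoImplicit false
set_option maxRecDepth 100000
set_option linter.unusedSectionVars false

namespace Cfsg.Agent.helper2.Syl

open Cfsg.Agent.helper2.Cay Cfsg.Agent.helper2.H1 Matrix

/-- the action on 8 points as a family of self-maps -/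
def o6N (x : Fin 128) : Function.End (Fin 8) := o6P x

theorem o6N_r (k : Fin 3) (x : Fin 128) : o6N (D2.r k x) = o6N x * o6N (D2.ig k) := by
  funext i
  exact o6_P_r k x i

theorem o6N_e : o6N D2.e = 1 := by
  funext i
  exact o6_P_one i

/-- the permutation representation of the table group -/
def f1 : CG D2 →* Equiv.Perm (Fin 8) := (CG.homOf D2 o6N o6N_r o6N_e).toHomPerm

theorem f1_apply (x : CG D2) (i : Fin 8) : f1 x i = o6P x.k i := rfl

theorem f1_injective : Function.Injective f1 := by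
  rw [injective_iff_map_eq_one]
  intro x hx
  apply CG.ext'
  show x.k = 0
  apply o6_P_inj
  intro i
  rw [← f1_apply, hx]
  rfl

theorem card_perm8 : Nat.card (Equiv.Perm (Fin 8)) = 2 ^ 7 * 315 := by
  rw [Nat.card_eq_fintype_card, Fintype.card_perm, Fintype.card_fin]
  decide

theorem sylow_perm8 (P : Sylow 2 (Equiv.Perm (Fin 8))) :
    Nonempty (↥(P : Subgroup (Equiv.Perm (Fin 8))) ≃* CG D2) := by
  apply sylow_iso_of_embed 2 f1 f1_injective _ P
  rw [card_T2, factorization_two_of_eq _ 7 315 card_perm8 (by decide)]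
  norm_num

section K
variable {K : Type} [Field K] [Fintype K]

/-- the matrix over `K` of an element -/
noncomputable def o6MK (e : ZMod 2 ≃+* K) (x : Fin 128) : Matrix I6 I6 K :=
  (o6M x).map e

theorem o6MK_r (e : ZMod 2 ≃+* K) (k : Fin 3) (x : Fin 128) :
    o6MK e (D2.r k x) = o6MK e x * o6MK e (D2.ig k) := by
  unfold o6MK
  rw [← Matrix.map_mul]
  congr 1
  exact D2.M_r k x

theorem o6MK_e (e : ZMod 2 ≃+* K) : o6MK e D2.e = 1 := by
  unfold o6MK
  have h : o6M D2.e = 1 := D2.M_e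
  rw [h, Matrix.map_one _ (map_zero e) (map_one e)]

theorem qf_map (e : ZMod 2 ≃+* K) (w : I6 → ZMod 2) :
    Cfsg.quadFormMinus 2 K 1 1 (fun i => e (w i)) = e (qfM2 w) := by
  unfold Cfsg.quadFormMinus qfM2
  simp only [Fin.sum_univ_two, map_add, map_mul]
  ring

theorem o6MK_isom (e : ZMod 2 ≃+* K) (x : Fin 128) (u : I6 → K) :
    Cfsg.quadFormMinus 2 K 1 1 (o6MK e x *ᵥ u) = Cfsg.quadFormMinus 2 K 1 1 u := by
  obtain ⟨w, rfl⟩ : ∃ w : I6 → ZMod 2, u = fun i => e (w i) :=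
    ⟨fun i => e.symm (u i), by funext i; simp⟩
  have h1 : o6MK e x *ᵥ (fun i => e (w i)) = fun i => e ((o6M x *ᵥ w) i) := by
    funext i
    exact (RingHom.map_mulVec (e : ZMod 2 →+* K) (o6M x) w i).symm
  rw [h1, qf_map, qf_map]
  congr 1
  obtain ⟨k, hk, rfl⟩ := dec_surj posM2 6 cardM2 encM2 encM2_dec w
  rw [mulVec_eq_mv6]
  exact o6_isom x k hk

/-- the representation in the general linear group over `K` -/
noncomputable def f2GL (e : ZMod 2 ≃+* K) : CG D2 →* GL I6 K :=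
  (CG.homOf D2 (o6MK e) (o6MK_r e) (o6MK_e e)).toHomUnits

theorem f2GL_val (e : ZMod 2 ≃+* K) (x : CG D2) :
    ((f2GL e x : GL I6 K) : Matrix I6 I6 K) = o6MK e x.k := rfl

theorem f2GL_mem (e : ZMod 2 ≃+* K) (x : CG D2) :
    f2GL e x ∈ Cfsg.isometryGroup K (Cfsg.quadFormMinus 2 K 1 1) := by
  intro u v
  show Cfsg.quadFormMinus 2 K 1 1 (((f2GL e x : GL I6 K) : Matrix I6 I6 K) *ᵥ u) = _
  rw [f2GL_val]
  exact o6MK_isom e x.k u

/-- the representation in the isometry group over `K` -/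
noncomputable def f2 (e : ZMod 2 ≃+* K) :
    CG D2 →* ↥(Cfsg.isometryGroup K (Cfsg.quadFormMinus 2 K 1 1)) :=
  (f2GL e).codRestrict _ (f2GL_mem e)

theorem f2_injective (e : ZMod 2 ≃+* K) : Function.Injective (f2 e) := by
  intro x y h
  have h1 : o6MK e x.k = o6MK e y.k := by
    rw [← f2GL_val, ← f2GL_val]
    exact congrArg (fun g : ↥(Cfsg.isometryGroup K (Cfsg.quadFormMinus 2 K 1 1)) =>
      ((g : GL I6 K) : Matrix I6 I6 K)) h
  have h2 : o6M x.k = o6M y.k := Matrix.map_injective e.injective h1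
  exact CG.ext' (D2.M_inj _ _ h2)

theorem anis_two (hK : Fintype.card K = 2) (a b : K)
    (hab : ∀ z₁ z₂ : K, z₁ ^ 2 + a * z₁ * z₂ + b * z₂ ^ 2 = 0 → z₁ = 0 ∧ z₂ = 0) :
    a = 1 ∧ b = 1 := by
  have h01 : ∀ c : K, c = 0 ∨ c = 1 := by
    intro c
    by_contra h
    push Not at h
    have : 2 < Fintype.card K :=
      Fintype.two_lt_card_iff.mpr ⟨0, 1, c, zero_ne_one, h.1.symm, h.2.symm⟩
    omega
  have h2 : (1 : K) + 1 = 0 := by
    rcases h01 (1 + 1) with h | h
    · exact h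
    · exfalso
      have : (1 : K) = 0 := by linear_combination h
      exact one_ne_zero this
  have hb : b = 1 := by
    rcases h01 b with h | h
    · exfalso
      have := (hab 0 1 (by rw [h]; ring)).2
      exact one_ne_zero this
    · exact h
  have ha : a = 1 := by
    rcases h01 a with h | h
    · exfalso
      have := (hab 1 1 (by rw [h, hb]; linear_combination h2)).1
      exact one_ne_zero this
    · exact h
  exact ⟨ha, hb⟩

theorem card_o6 (hK : Fintype.card K = 2)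
    (hab : ∀ z₁ z₂ : K, z₁ ^ 2 + (1 : K) * z₁ * z₂ + (1 : K) * z₂ ^ 2 = 0 → z₁ = 0 ∧ z₂ = 0) :
    Nat.card ↥(Cfsg.isometryGroup K (Cfsg.quadFormMinus 2 K 1 1)) = 2 ^ 7 * 405 := by
  rw [Cfsg.Agent.helper13.card_minus 2 1 1 hab, hK]
  simp [Finset.prod_range_succ]

theorem sylow_o6 (hK : Fintype.card K = 2) (a b : K)
    (hab : ∀ z₁ z₂ : K, z₁ ^ 2 + a * z₁ * z₂ + b * z₂ ^ 2 = 0 → z₁ = 0 ∧ z₂ = 0)
    (Q : Sylow 2 ↥(Cfsg.isometryGroup K (Cfsg.quadFormMinus 2 K a b))) :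
    Nonempty (↥(Q : Subgroup ↥(Cfsg.isometryGroup K (Cfsg.quadFormMinus 2 K a b))) ≃* CG D2) := by
  obtain ⟨ha, hb⟩ := anis_two hK a b hab
  subst ha hb
  have e : ZMod 2 ≃+* K := ZMod.ringEquivOfPrime K Nat.prime_two hK
  apply sylow_iso_of_embed 2 (f2 e) (f2_injective e) _ Q
  rw [card_T2, factorization_two_of_eq _ 7 405 (card_o6 hK hab) (by decide)]
  norm_num

theorem sylow_part2 (hK : Fintype.card K = 2) (a b : K)
    (hab : ∀ z₁ z₂ : K, z₁ ^ 2 + a * z₁ * z₂ + b * z₂ ^ 2 = 0 → z₁ = 0 ∧ z₂ = 0)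
    (P' : Sylow 2 (Equiv.Perm (Fin 8)))
    (Q' : Sylow 2 ↥(Cfsg.isometryGroup K (Cfsg.quadFormMinus 2 K a b))) :
    Nonempty (↥(P' : Subgroup (Equiv.Perm (Fin 8))) ≃*
      ↥(Q' : Subgroup ↥(Cfsg.isometryGroup K (Cfsg.quadFormMinus 2 K a b)))) := by
  obtain ⟨e1⟩ := sylow_perm8 P'
  obtain ⟨e2⟩ := sylow_o6 hK a b hab Q'
  exact ⟨e1.trans e2.symm⟩

end K

end Cfsg.Agent.helper2.Syl
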