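import Mathlib
import Cfsg.Agent.Lib_helper2_Cay5

/-! Verified facts about the 128 symplectic matrices and the resulting table group. -/

set_option autoImplicit false
set_option maxRecDepth 100000
set_option synthInstance.maxSize 4000
set_option synthInstance.maxHeartbeats 2000000
set_option maxHeartbeats 4000000

namespace Cfsg.Agent.helper2.Syl

open Cfsg.Agent.helper2.Cay Matrix

/-- explicit matrix product on entry functions -/
def mm4 {R : Type*} [Mul R] [Add R] (A B : I4 → I4 → R) (i j : I4) : R :=
  A i (.inl 0) * B (.inl 0) j + A i (.inl 1) * B (.inl 1) j +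
    A i (.inr 0) * B (.inr 0) j + A i (.inr 1) * B (.inr 1) j

theorem mul_eq_mm4 {R : Type*} [CommRing R] (A B : Matrix I4 I4 R) (i j : I4) :
    (A * B) i j = mm4 A B i j := by
  rw [Matrix.mul_apply]
  simp only [mm4, Fintype.sum_sum_type, Fin.sum_univ_two]
  ring

/-- explicit entries of `A * J * Aᵀ` -/
def sE {R : Type*} [Mul R] [Add R] [Sub R] (A : I4 → I4 → R) (i j : I4) : R :=
  A i (.inr 0) * A j (.inl 0) + A i (.inr 1) * A j (.inl 1) - A i (.inl 0) * A j (.inr 0) -
    A i (.inl 1) * A j (.inr 1)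

/-- explicit entries of `J` -/
def Jent {R : Type*} [Zero R] [One R] [Neg R] : I4 → I4 → R
  | .inl a, .inr b => if a = b then -1 else 0
  | .inr a, .inl b => if a = b then 1 else 0
  | _, _ => 0

theorem J_entry {R : Type*} [CommRing R] (i j : I4) : Matrix.J (Fin 2) R i j = Jent i j := by
  rcases i with i | i <;> rcases j with j | j <;>
    simp [Matrix.J, Jent, Matrix.one_apply]
  split_ifs <;> simp

theorem sympl_entry {R : Type*} [CommRing R] (A : Matrix I4 I4 R) (i j : I4) :
    (A * Matrix.J (Fin 2) R * Aᵀ) i j = sE A i j := by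
  rw [Matrix.mul_apply]
  simp only [Matrix.mul_apply, Matrix.transpose_apply, Fintype.sum_sum_type, Fin.sum_univ_two,
    J_entry, Jent, sE]
  simp
  ring

theorem sp_r : ∀ k : Fin 3, ∀ x : Fin 128, ∀ i j : I4,
    spE (spr k x) i j = mm4 (spE x) (spE (spig k)) i j := by
  decide +kernel

theorem sp_tree : ∀ y : Fin 128, y.val ≠ 0 →
    (sppar y).val < y.val ∧ spr (spgen y) (sppar y) = y := by
  decide +kernel

theorem sp_one : ∀ i j : I4, spE 0 i j = if i = j then 1 else 0 := by
  decide +kernel

theorem sp_inv : ∀ x : Fin 128, mulG spr sppar spgen 128 (spinv x) x = 0 := by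
  decide +kernel

theorem sp_inj : ∀ x y : Fin 128, (∀ i j : I4, spE x i j = spE y i j) → x = y := by
  decide +kernel

theorem sp_sympl : ∀ x : Fin 128, ∀ i j : I4, sE (spE x) i j = Jent i j := by
  decide +kernel

theorem sp_z : ∀ i j : I4, spE 8 i j = if i = j then -1 else 0 := by
  decide +kernel

theorem sp_zz : mulG spr sppar spgen 128 8 8 = 0 := by
  decide +kernel

theorem sp_center : ∀ x : Fin 128,
    (∀ k : Fin 3, spr k x = mulG spr sppar spgen 128 (spig k) x) → x = 0 ∨ x = 8 := by
  decide +kernel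

theorem sp_P_r : ∀ k : Fin 3, ∀ x : Fin 128, ∀ i : Fin 8,
    spP (spr k x) i = spP x (spP (spig k) i) := by
  decide +kernel

theorem sp_P_one : ∀ i : Fin 8, spP 0 i = i := by
  decide +kernel

theorem sp_P_ker : ∀ x : Fin 128, (∀ i : Fin 8, spP x i = i) ↔ (x = 0 ∨ x = 8) := by
  decide +kernel

/-- the Cayley-graph data of the Sylow 2-subgroup -/
def D1 : CData (Matrix I4 I4 (ZMod 3)) 128 3 where
  M := spM
  r := spr
  par := sppar
  gen := spgen
  inv := spinv
  e := 0
  ig := spig
  e_val := rfl
  M_r k x := by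
    apply Matrix.ext
    intro i j
    rw [mul_eq_mm4]
    exact sp_r k x i j
  tree := sp_tree
  M_e := by
    apply Matrix.ext
    intro i j
    rw [Matrix.one_apply]
    exact sp_one i j
  M_inj x y h := sp_inj x y (fun i j => congrFun (congrFun h i) j)
  inv_mul := sp_inv

theorem card_T1 : Nat.card (CG D1) = 128 := CG.card_eq D1

end Cfsg.Agent.helper2.Syl
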