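import Mathlib
import Cfsg.Agent.Lib_helper2_Cay6
import Cfsg.Agent.S0245
import Cfsg.Agent.S0246

/-! The Sylow 2-subgroups of the alternating group of degree 8 and of the projective symplectic group
of dimension 4 over a field with three elements are isomorphic. -/

set_option autoImplicit false
set_option maxRecDepth 100000
set_option linter.unusedSectionVars false

namespace Cfsg.Agent.helper2.Syl

open Cfsg.Agent.helper2.Cay Matrix

theorem spM_mem (x : Fin 128) : spM x ∈ symplecticGroup (Fin 2) (ZMod 3) := by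
  rw [SymplecticGroup.mem_iff]
  apply Matrix.ext
  intro i j
  rw [sympl_entry, J_entry]
  exact sp_sympl x i j

/-- the action on 8 points as a family of self-maps -/
def spN (x : Fin 128) : Function.End (Fin 8) := spP x

theorem spN_r (k : Fin 3) (x : Fin 128) : spN (D1.r k x) = spN x * spN (D1.ig k) := by
  funext i
  exact sp_P_r k x i

theorem spN_e : spN D1.e = 1 := by
  funext i
  exact sp_P_one i

/-- the permutation representation of the table group -/
def g1 : CG D1 →* Equiv.Perm (Fin 8) := (CG.homOf D1 spN spN_r spN_e).toHomPerm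

theorem g1_apply (x : CG D1) (i : Fin 8) : g1 x i = spP x.k i := rfl

/-- the central involution -/
def zT : CG D1 := ⟨8⟩

theorem zT_ne_one : zT ≠ 1 := by
  intro h
  have := congrArg CG.k h
  exact absurd this (by decide)

theorem g1_eq_one_iff (x : CG D1) : g1 x = 1 ↔ (x = 1 ∨ x = zT) := by
  constructor
  · intro h
    have h1 := (sp_P_ker x.k).mp (fun i => by rw [← g1_apply, h]; rfl)
    rcases h1 with h0 | h8
    · left
      exact CG.ext' h0
    · right
      exact CG.ext' h8
  · rintro (rfl | rfl)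
    · exact map_one _
    · apply Equiv.ext
      intro i
      rw [g1_apply]
      exact (sp_P_ker 8).mpr (Or.inr rfl) i

theorem g1_gen_sign : ∀ j : Fin 3, Equiv.Perm.sign (g1 ⟨D1.ig j⟩) = 1 := by
  decide +kernel

theorem g1_sign (x : CG D1) : Equiv.Perm.sign (g1 x) = 1 := by
  have h := CG.hom_eq_one_of_gens D1 (Equiv.Perm.sign.comp g1)
    (fun j => by rw [MonoidHom.comp_apply]; exact g1_gen_sign j) x
  rwa [MonoidHom.comp_apply] at h

theorem card_ker_g1 : Nat.card ↥g1.ker = 2 := by
  rw [Nat.card_eq_two_iff]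
  refine ⟨⟨1, Subgroup.one_mem _⟩, ⟨zT, MonoidHom.mem_ker.mpr ((g1_eq_one_iff zT).mpr (Or.inr rfl))⟩,
    ?_, ?_⟩
  · intro h
    exact zT_ne_one (congrArg Subtype.val h).symm
  · rw [Set.eq_univ_iff_forall]
    rintro ⟨x, hx⟩
    rcases (g1_eq_one_iff x).mp (MonoidHom.mem_ker.mp hx) with h | h
    · left
      exact Subtype.ext h
    · right
      exact Subtype.ext h

theorem card_T1q : Nat.card (CG D1 ⧸ g1.ker) = 64 := by
  have h := Subgroup.card_eq_card_quotient_mul_card_subgroup g1.ker
  rw [card_T1, card_ker_g1] at h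
  omega

/-- the embedding of the quotient in the alternating group -/
noncomputable def h1 : CG D1 ⧸ g1.ker →* ↥(alternatingGroup (Fin 8)) :=
  (QuotientGroup.kerLift g1).codRestrict _ (fun q => by
    induction q using QuotientGroup.induction_on with
    | H x =>
      rw [QuotientGroup.kerLift_mk]
      exact Equiv.Perm.mem_alternatingGroup.mpr (g1_sign x))

theorem h1_injective : Function.Injective h1 := by
  intro a b hab
  apply QuotientGroup.kerLift_injective g1
  exact congrArg Subtype.val hab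

theorem card_alt8 : Nat.card ↥(alternatingGroup (Fin 8)) = 2 ^ 6 * 315 := by
  rw [nat_card_alternatingGroup, Nat.card_eq_fintype_card, Fintype.card_fin]
  decide

theorem sylow_alt8 (P : Sylow 2 ↥(alternatingGroup (Fin 8))) :
    Nonempty (↥(P : Subgroup ↥(alternatingGroup (Fin 8))) ≃* CG D1 ⧸ g1.ker) := by
  apply sylow_iso_of_embed 2 h1 h1_injective _ P
  rw [card_T1q, factorization_two_of_eq _ 6 315 card_alt8 (by decide)]
  norm_num

section F
variable {F : Type} [Field F] [Fintype F]

/-- the matrix over `F` of an element -/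
noncomputable def spMF (e : ZMod 3 ≃+* F) (x : Fin 128) : Matrix I4 I4 F :=
  (spM x).map e

theorem spMF_r (e : ZMod 3 ≃+* F) (k : Fin 3) (x : Fin 128) :
    spMF e (D1.r k x) = spMF e x * spMF e (D1.ig k) := by
  unfold spMF
  rw [← Matrix.map_mul]
  congr 1
  exact D1.M_r k x

theorem spMF_e (e : ZMod 3 ≃+* F) : spMF e D1.e = 1 := by
  unfold spMF
  have h : spM D1.e = 1 := D1.M_e
  rw [h, Matrix.map_one _ (map_zero e) (map_one e)]

theorem spMF_mem (e : ZMod 3 ≃+* F) (x : Fin 128) :
    spMF e x ∈ symplecticGroup (Fin 2) F :=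
  SymplecticGroup.map_mem (spM_mem x) e

/-- the representation in the symplectic group over `F` -/
noncomputable def g2Sp (e : ZMod 3 ≃+* F) : CG D1 →* ↥(symplecticGroup (Fin 2) F) :=
  (CG.homOf D1 (spMF e) (spMF_r e) (spMF_e e)).codRestrict _ (fun x => spMF_mem e x.k)

theorem g2Sp_val (e : ZMod 3 ≃+* F) (x : CG D1) :
    ((g2Sp e x : ↥(symplecticGroup (Fin 2) F)) : Matrix I4 I4 F) = spMF e x.k := rfl

theorem g2Sp_injective (e : ZMod 3 ≃+* F) : Function.Injective (g2Sp e) := by
  intro x y h
  have h1 : spMF e x.k = spMF e y.k := by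
    rw [← g2Sp_val, ← g2Sp_val, h]
  have h2 : spM x.k = spM y.k := Matrix.map_injective e.injective h1
  exact CG.ext' (D1.M_inj _ _ h2)

theorem spMF_z (e : ZMod 3 ≃+* F) : spMF e 8 = -1 := by
  apply Matrix.ext
  intro i j
  unfold spMF spM
  rw [Matrix.map_apply, Matrix.of_apply, sp_z i j, Matrix.neg_apply, Matrix.one_apply]
  split_ifs <;> simp

/-- the representation in the projective symplectic group over `F` -/
noncomputable def g2 (e : ZMod 3 ≃+* F) : CG D1 →* Cfsg.PSp 2 F :=
  (QuotientGroup.mk' (Subgroup.center ↥(symplecticGroup (Fin 2) F))).comp (g2Sp e)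

theorem g2_eq_one_iff (e : ZMod 3 ≃+* F) (x : CG D1) : g2 e x = 1 ↔ (x = 1 ∨ x = zT) := by
  unfold g2
  rw [MonoidHom.comp_apply, QuotientGroup.mk'_apply, QuotientGroup.eq_one_iff]
  constructor
  · intro hc
    rw [Subgroup.mem_center_iff] at hc
    have h1 := sp_center x.k (fun k => by
      have h2 := hc (g2Sp e ⟨D1.ig k⟩)
      rw [← map_mul, ← map_mul] at h2
      have h3 := congrArg CG.k (g2Sp_injective e h2)
      have h4 : (x * ⟨D1.ig k⟩).k = D1.r k x.k :=
        (congrArg CG.k (CG.mk_r (D := D1) k x.k)).symm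
      calc spr k x.k = (x * ⟨D1.ig k⟩).k := h4.symm
        _ = ((⟨D1.ig k⟩ : CG D1) * x).k := h3.symm
        _ = mulG spr sppar spgen 128 (spig k) x.k := rfl)
    rcases h1 with h0 | h8
    · left
      exact CG.ext' h0
    · right
      exact CG.ext' h8
  · rintro (rfl | rfl)
    · rw [map_one]
      exact Subgroup.one_mem _
    · rw [Subgroup.mem_center_iff]
      intro g
      apply Subtype.ext
      show (g : Matrix I4 I4 F) * ((g2Sp e zT : ↥(symplecticGroup (Fin 2) F)) : Matrix I4 I4 F) =
        ((g2Sp e zT : ↥(symplecticGroup (Fin 2) F)) : Matrix I4 I4 F) * (g : Matrix I4 I4 F)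
      rw [g2Sp_val]
      show (g : Matrix I4 I4 F) * spMF e 8 = spMF e 8 * (g : Matrix I4 I4 F)
      rw [spMF_z, mul_neg, mul_one, neg_mul, one_mul]

/-- the embedding of the quotient in the projective symplectic group -/
noncomputable def h2 (e : ZMod 3 ≃+* F) : CG D1 ⧸ g1.ker →* Cfsg.PSp 2 F :=
  QuotientGroup.lift g1.ker (g2 e) (fun x hx =>
    (g2_eq_one_iff e x).mpr ((g1_eq_one_iff x).mp (MonoidHom.mem_ker.mp hx)))

theorem h2_injective (e : ZMod 3 ≃+* F) : Function.Injective (h2 e) := by
  rw [injective_iff_map_eq_one]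
  intro q hq
  induction q using QuotientGroup.induction_on with
  | H x =>
    have h : g2 e x = 1 := hq
    rw [QuotientGroup.eq_one_iff]
    exact MonoidHom.mem_ker.mpr ((g1_eq_one_iff x).mpr ((g2_eq_one_iff e x).mp h))

theorem card_psp (hF : Fintype.card F = 3) : Nat.card (Cfsg.PSp 2 F) = 2 ^ 6 * 405 := by
  have h1 := Cfsg.Agent.S0245.result hF 2
  have h2 := Cfsg.Agent.S0246.result hF 2 (by norm_num)
  have h3 := Subgroup.card_eq_card_quotient_mul_card_subgroup
    (Subgroup.center ↥(symplecticGroup (Fin 2) F))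
  rw [h1, h2] at h3
  simp [Finset.prod_range_succ] at h3
  show Nat.card (↥(symplecticGroup (Fin 2) F) ⧸ Subgroup.center ↥(symplecticGroup (Fin 2) F)) = _
  omega

theorem sylow_psp (hF : Fintype.card F = 3) (Q : Sylow 2 (Cfsg.PSp 2 F)) :
    Nonempty (↥(Q : Subgroup (Cfsg.PSp 2 F)) ≃* CG D1 ⧸ g1.ker) := by
  have e : ZMod 3 ≃+* F := ZMod.ringEquivOfPrime F Nat.prime_three hF
  have : Finite (Cfsg.PSp 2 F) := by
    show Finite (↥(symplecticGroup (Fin 2) F) ⧸ Subgroup.center ↥(symplecticGroup (Fin 2) F))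
    infer_instance
  apply sylow_iso_of_embed 2 (h2 e) (h2_injective e) _ Q
  rw [card_T1q, factorization_two_of_eq _ 6 405 (card_psp hF) (by decide)]
  norm_num

theorem sylow_part1 (hF : Fintype.card F = 3)
    (P : Sylow 2 ↥(alternatingGroup (Fin 8))) (Q : Sylow 2 (Cfsg.PSp 2 F)) :
    Nonempty (↥(P : Subgroup ↥(alternatingGroup (Fin 8))) ≃* ↥(Q : Subgroup (Cfsg.PSp 2 F))) := by
  obtain ⟨e1⟩ := sylow_alt8 P
  obtain ⟨e2⟩ := sylow_psp hF Q
  exact ⟨e1.trans e2.symm⟩

end F

end Cfsg.Agent.helper2.Syl
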