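import Mathlib

set_option autoImplicit false

namespace Cfsg.Agent.helper2

variable {G : Type*} [Group G]

theorem inv_of_sq {x : G} (hx2 : x * x = 1) : x⁻¹ = x := inv_eq_of_mul_eq_one_right hx2

theorem sq_of_order {x : G} (hx : orderOf x = 2) : x * x = 1 := by
  rw [← sq, ← hx, pow_orderOf_eq_one]

theorem conj_prod {x y : G} (hx2 : x * x = 1) (hy2 : y * y = 1) : x * (x * y) * x⁻¹ = (x * y)⁻¹ := by
  rw [mul_inv_rev, inv_of_sq hx2, inv_of_sq hy2]
  calc x * (x * y) * x = (x * x) * y * x := by group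
    _ = y * x := by rw [hx2, one_mul]

theorem x_mul_zpow {x y : G} (hx2 : x * x = 1) (hy2 : y * y = 1) (j : ℤ) :
    x * (x * y) ^ j = (x * y) ^ (-j) * x := by
  have h := conj_zpow (a := x) (b := x * y) (i := j)
  rw [conj_prod hx2 hy2, inv_zpow, ← zpow_neg] at h
  rw [h]; group

theorem y_eq {x y : G} (hx2 : x * x = 1) (hy2 : y * y = 1) : y = (x * y) ^ (-1 : ℤ) * x := by
  rw [zpow_neg, zpow_one, mul_inv_rev, inv_of_sq hx2, inv_of_sq hy2, mul_assoc, hx2, mul_one]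

theorem mem_closure_pair {x y : G} (hx2 : x * x = 1) (hy2 : y * y = 1) (d : G)
    (hd : d ∈ Subgroup.closure ({x, y} : Set G)) :
    ∃ i : ℤ, d = (x * y) ^ i ∨ d = (x * y) ^ i * x := by
  induction hd using Subgroup.closure_induction with
  | mem z hz =>
    rcases hz with rfl | hz
    · exact ⟨0, Or.inr (by simp)⟩
    · rw [Set.mem_singleton_iff] at hz
      subst hz
      exact ⟨-1, Or.inr (y_eq hx2 hy2)⟩
  | one => exact ⟨0, Or.inl (by simp)⟩
  | mul a b _ _ iha ihb =>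
    obtain ⟨i, hi | hi⟩ := iha <;> obtain ⟨j, hj | hj⟩ := ihb
    · exact ⟨i + j, Or.inl (by rw [hi, hj, zpow_add])⟩
    · exact ⟨i + j, Or.inr (by rw [hi, hj, zpow_add, mul_assoc])⟩
    · refine ⟨i - j, Or.inr ?_⟩
      rw [hi, hj, mul_assoc, x_mul_zpow hx2 hy2, ← mul_assoc, ← zpow_add, sub_eq_add_neg]
    · refine ⟨i - j, Or.inl ?_⟩
      rw [hi, hj, mul_assoc, ← mul_assoc x, x_mul_zpow hx2 hy2, mul_assoc, hx2, mul_one, ← zpow_add,
        sub_eq_add_neg]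
  | inv a _ iha =>
    obtain ⟨i, hi | hi⟩ := iha
    · exact ⟨-i, Or.inl (by rw [hi, zpow_neg])⟩
    · refine ⟨i, Or.inr ?_⟩
      rw [hi, mul_inv_rev, inv_of_sq hx2, ← zpow_neg, x_mul_zpow hx2 hy2, neg_neg]

/-- Conjugating `x` by any element of `⟨x, y⟩` gives `(xy)^(2i) x`. -/
theorem conj_x_of_mem {x y : G} (hx2 : x * x = 1) (hy2 : y * y = 1) (d : G)
    (hd : d ∈ Subgroup.closure ({x, y} : Set G)) :
    ∃ i : ℤ, d * x * d⁻¹ = (x * y) ^ (2 * i) * x := by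
  obtain ⟨i, hi | hi⟩ := mem_closure_pair hx2 hy2 d hd
  · refine ⟨i, ?_⟩
    rw [hi, mul_assoc, ← zpow_neg, x_mul_zpow hx2 hy2, neg_neg, ← mul_assoc, ← zpow_add, two_mul]
  · refine ⟨i, ?_⟩
    rw [hi, mul_inv_rev, inv_of_sq hx2, mul_assoc ((x * y) ^ i), hx2, mul_one, ← zpow_neg,
      x_mul_zpow hx2 hy2, neg_neg, ← mul_assoc, ← zpow_add, two_mul]

end Cfsg.Agent.helper2
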