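import Mathlib
import Cfsg.Statements.S5550
import Cfsg.Agent.Lib_helper2_Elt
import Cfsg.Agent.Lib_helper2_M24m

set_option autoImplicit false
open Cfsg

namespace Cfsg.Agent.S5550

open Cfsg.Agent.helper2

open Cfsg.Agent.helper2.Golay Cfsg.Agent.helper27
open scoped Pointwise

/-- Two elements stabilising the base set. -/
def gO : List (List ℕ × List ℕ) := [
  ([0, 1, 14, 17, 7, 5, 12, 19, 13, 10, 16, 15, 4, 11, 23, 22, 21, 2, 9, 6, 20, 18, 8, 3], [0, 1, 17, 23, 12, 5, 19, 4, 22, 18, 9, 13, 6, 8, 2, 11, 10, 3, 21, 7, 20, 16, 15, 14]),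
  ([2, 23, 0, 1, 15, 17, 16, 10, 18, 22, 20, 13, 9, 19, 5, 11, 12, 3, 6, 8, 21, 7, 4, 14], [2, 3, 0, 17, 22, 14, 18, 21, 19, 12, 7, 15, 16, 11, 23, 4, 6, 5, 8, 13, 10, 20, 9, 1])]

/-- For each basis word, a list of pairs (element, basis word) whose differences sum to it. -/
def cO : List (List (ℕ × ℕ)) := [
  [(0, 1), (0, 2), (0, 6), (1, 2), (1, 6)],
  [(0, 0), (0, 3), (0, 4), (0, 8), (0, 9), (1, 1)],
  [(0, 0), (0, 3), (0, 8), (1, 1), (1, 6)],
  [(0, 0), (0, 6), (0, 8)],
  [(0, 2), (0, 3), (0, 4), (0, 6), (0, 8), (1, 1), (1, 6)],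
  [(0, 0), (0, 1), (0, 4), (1, 0), (1, 2)],
  [(0, 2), (0, 3), (0, 6)],
  [(0, 0), (0, 1), (1, 1), (1, 6)],
  [(0, 0), (0, 1), (0, 2), (0, 6), (1, 1), (1, 6)],
  [(0, 1), (0, 2), (0, 3), (0, 6), (0, 9), (1, 1), (1, 6)],
  [(0, 0), (0, 2), (1, 1), (1, 6)],
  [(0, 1), (0, 2), (0, 8)]]

/-- Two elements stabilising the base set. -/
def gD : List (List ℕ × List ℕ) := [
  ([16, 0, 1, 21, 18, 9, 13, 22, 8, 7, 11, 15, 19, 6, 14, 20, 17, 12, 3, 23, 5, 4, 10, 2], [1, 2, 23, 18, 21, 20, 13, 9, 8, 5, 22, 10, 17, 6, 14, 11, 0, 16, 4, 12, 15, 3, 7, 19]),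
  ([17, 18, 4, 21, 3, 6, 11, 5, 13, 7, 10, 14, 2, 8, 20, 9, 0, 19, 12, 16, 15, 23, 22, 1], [16, 23, 12, 4, 2, 7, 5, 9, 13, 15, 10, 6, 18, 8, 11, 20, 19, 0, 1, 17, 14, 3, 22, 21])]

/-- For each basis word, a list of pairs (element, basis word) whose differences sum to it. -/
def cD : List (List (ℕ × ℕ)) := [
  [(0, 0), (0, 3), (0, 5), (0, 7), (0, 9), (1, 0)],
  [(0, 0), (0, 1), (0, 2), (0, 3), (0, 7), (0, 9), (1, 6)],
  [(0, 0), (0, 1), (0, 7), (0, 9), (1, 0), (1, 6)],
  [(0, 0), (0, 1), (0, 2), (0, 6), (0, 7), (0, 9), (1, 0), (1, 6)],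
  [(0, 5), (1, 0), (1, 6)],
  [(0, 0), (0, 6), (1, 6)],
  [(0, 1), (0, 2), (0, 7), (0, 9), (1, 6)],
  [(0, 1), (0, 2), (0, 3), (0, 5), (0, 7), (0, 9), (1, 0)],
  [(1, 0), (1, 1)],
  [(0, 0), (0, 7), (1, 0)],
  [(0, 0), (0, 5), (0, 6), (0, 7), (0, 9), (0, 10), (1, 0)],
  [(0, 0), (0, 1), (0, 2), (0, 3), (0, 7), (0, 9), (1, 0), (1, 6)]]

theorem wperm_mem {σ : Equiv.Perm GolayPt} (hσ : σ ∈ M24) {w : GolayPt → ZMod 2}
    (hw : w ∈ golayCode) : wperm σ w ∈ golayCode := by
  have h1 : support₂ w ∈ supports (golayCode : Set (GolayPt → ZMod 2)) := ⟨w, hw, rfl⟩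
  have h2 : σ • support₂ w ∈ supports (golayCode : Set (GolayPt → ZMod 2)) := by
    have h3 := MulAction.mem_stabilizer_iff.mp hσ
    rw [← h3]
    exact Set.smul_mem_smul_set h1
  obtain ⟨w', hw', hs⟩ := h2
  have h4 : wperm σ w = w' := eq_of_support₂_eq (by rw [support_wperm, hs])
  rw [h4]
  exact hw'

/-- The dot product of two words. -/
def dotW (v c : GolayPt → ZMod 2) : ZMod 2 := ∑ p, v p * c p

theorem dotW_add_right (v c c' : GolayPt → ZMod 2) : dotW v (c + c') = dotW v c + dotW v c' := by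
  simp only [dotW, Pi.add_apply, mul_add, Finset.sum_add_distrib]

theorem dotW_add_left (v v' c : GolayPt → ZMod 2) : dotW (v + v') c = dotW v c + dotW v' c := by
  simp only [dotW, Pi.add_apply, add_mul, Finset.sum_add_distrib]

theorem dotW_zero_right (v : GolayPt → ZMod 2) : dotW v 0 = 0 := by
  simp [dotW]

theorem dotW_wperm (σ : Equiv.Perm GolayPt) (v c : GolayPt → ZMod 2) :
    dotW (wperm σ v) c = dotW v (wperm σ⁻¹ c) := by
  unfold dotW wperm
  rw [← Equiv.sum_comp σ]
  apply Finset.sum_congr rfl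
  intro q _
  simp only [Equiv.symm_apply_apply]
  rfl

theorem toWord_mul (a b : ℕ) (p : GolayPt) : toWord a p * toWord b p = toWord (a &&& b) p := by
  unfold toWord
  rw [Nat.testBit_and]
  cases a.testBit (idx p) <;> cases b.testBit (idx p) <;> simp

theorem sum_toWord (n : ℕ) : ∑ p, toWord n p = ((wt n : ℕ) : ZMod 2) := by
  unfold toWord
  rw [Finset.sum_boole, ← card_pts]
  rfl

theorem D_eq_wt (a b : ℕ) : D a b = ((wt (a &&& b) : ℕ) : ZMod 2) := by
  unfold D
  rw [← sum_toWord]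
  exact Finset.sum_congr rfl (fun p _ => toWord_mul a b p)

theorem cw_lt : ∀ m < 4096, cw m < 2 ^ 24 := forall_lt_4096 (by decide +kernel)

theorem high_zero : ∀ h < 4096, rr.all (fun r => wt ((4096 * h) &&& r) % 2 == 0) = true → h = 0 :=
  forall_lt_4096 (by decide +kernel)

theorem exists_mask (v : GolayPt → ZMod 2) : ∃ n < 2 ^ 24, v = toWord n := by
  refine ⟨mkBits (fun j => decide (v (pt j) = 1)) 0 24, ?_, ?_⟩
  · apply Nat.lt_pow_two_of_testBit
    intro i hi
    rw [testBit_mkBits]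
    simp
    omega
  · funext p
    unfold toWord
    rw [testBit_mkBits, zero_add, pt_idx]
    have hlt := idx_lt p
    have key : ∀ a : ZMod 2, a = if (decide (a = 1)) = true then 1 else 0 := by decide
    simp only [hlt, decide_true, Bool.true_and]
    exact key _

/-- The code is its own dual: a word orthogonal to the basis lies in the code. -/
theorem self_dual {v : GolayPt → ZMod 2} (h : ∀ r ∈ rr, dotW v (toWord r) = 0) :
    v ∈ golayCode := by
  obtain ⟨n, hn, rfl⟩ := exists_mask v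
  have hD : ∀ r ∈ rr, D n r = 0 := h
  have hm : n % 4096 < 4096 := Nat.mod_lt _ (by norm_num)
  have hlt : n ^^^ cw (n % 4096) < 2 ^ 24 := Nat.xor_lt_two_pow hn (cw_lt _ hm)
  have hmod : (n ^^^ cw (n % 4096)) % 4096 = 0 := by
    have e : (4096 : ℕ) = 2 ^ 12 := by norm_num
    rw [e, Nat.xor_mod_two_pow, ← e, cw_low _ hm, Nat.xor_self]
  have hD' : ∀ r ∈ rr, D (n ^^^ cw (n % 4096)) r = 0 := by
    intro r hr
    rw [D_xor_left, hD r hr, zero_add]
    apply D_xorSel_left
    intro g hg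
    exact D_rr g hg r hr
  obtain ⟨k, hk⟩ : ∃ k, n ^^^ cw (n % 4096) = 4096 * k := ⟨_, (Nat.mul_div_cancel' (Nat.dvd_of_mod_eq_zero hmod)).symm⟩
  have hk4 : k < 4096 := by
    rw [hk] at hlt
    norm_num at hlt
    omega
  have hk0 : k = 0 := by
    apply high_zero k hk4
    rw [List.all_eq_true]
    intro r hr
    rw [beq_iff_eq]
    have := hD' r hr
    rw [hk, D_eq_wt, ZMod.natCast_eq_zero_iff] at this
    exact Nat.mod_eq_zero_of_dvd this
  rw [hk0, mul_zero] at hk
  have := Nat.xor_eq_zero_iff.mp hk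
  rw [this]
  exact cw_mem _

/-- The difference vector of a basis word under the inverse of an element. -/
def dvec (t : List ℕ) (a : ℕ) : ℕ := pull (tb t) a ^^^ a

/-- The check of a certificate. -/
def certOK2 (gs : List (List ℕ × List ℕ)) (cs : List (List (ℕ × ℕ))) : Bool :=
  (List.range 12).all (fun j => ((cs.getD j []).foldl
    (fun acc p => acc ^^^ dvec (gs.getD p.1 ([], [])).1 (rr.getD p.2 0)) 0 == rr.getD j 0) &&
    (cs.getD j []).all (fun p => decide (p.1 < gs.length) && decide (p.2 < 12)))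

theorem gO_ok : cfgGensOK [] [cw 47] gO = true := by decide +kernel

theorem gD_ok : cfgGensOK [] [d0m] gD = true := by decide +kernel

theorem cO_ok : certOK2 gO cO = true := by decide +kernel

theorem cD_ok : certOK2 gD cD = true := by decide +kernel

theorem wperm_inv_toWord {d : List ℕ × List ℕ} (ht : tablesOK d.1 d.2 = true) (a : ℕ) :
    wperm (gperm d)⁻¹ (toWord a) = toWord (pull (tb d.1) a) := by
  rw [← gperm_swapD ht]
  unfold gperm
  rw [dif_pos (tablesOK_swapD ht)]
  exact wperm_permOf_toWord _ _ (tablesOK_swapD ht) a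

theorem sub_eq_add_z2 (a b : GolayPt → ZMod 2) : a - b = a + b := by
  funext p
  have key : ∀ x y : ZMod 2, x - y = x + y := by decide
  exact key _ _

/-- A word fixed modulo the code by all listed elements, with a certificate, lies in the code. -/
theorem mem_of_fixed (gs : List (List ℕ × List ℕ)) (cs : List (List (ℕ × ℕ)))
    (hgs : ∀ d ∈ gs, tablesOK d.1 d.2 = true ∧ gperm d ∈ M24) (hc : certOK2 gs cs = true)
    (w : GolayPt → ZMod 2) (hw : ∀ d ∈ gs, wperm (gperm d) w - w ∈ golayCode) :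
    w ∈ golayCode := by
  have hrr : ∀ j < 12, toWord (rr.getD j 0) ∈ golayCode := by
    intro j hj
    apply rr_mem
    rw [List.getD_eq_getElem _ _ (by simpa [rr] using hj)]
    exact List.getElem_mem _
  have hd : ∀ d ∈ gs, ∀ j < 12, dotW w (toWord (dvec d.1 (rr.getD j 0))) = 0 := by
    intro d hd j hj
    obtain ⟨ht, hm⟩ := hgs d hd
    have hcj := hrr j hj
    have h1 : dotW (wperm (gperm d) w - w) (toWord (rr.getD j 0)) = 0 := dot_eq_zero (hw d hd) hcj
    rw [sub_eq_add_z2, dotW_add_left, dotW_wperm, wperm_inv_toWord ht, ← dotW_add_right,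
      ← toWord_xor] at h1
    exact h1
  apply self_dual
  intro r hr
  obtain ⟨j, hj, rfl⟩ : ∃ j, j < 12 ∧ rr.getD j 0 = r := by
    obtain ⟨j, hj, hjr⟩ := List.getElem_of_mem hr
    refine ⟨j, by simpa [rr] using hj, ?_⟩
    rw [List.getD_eq_getElem _ _ hj, hjr]
  unfold certOK2 at hc
  rw [List.all_eq_true] at hc
  have hcj := hc j (List.mem_range.mpr hj)
  rw [Bool.and_eq_true, beq_iff_eq, List.all_eq_true] at hcj
  rw [← hcj.1]
  have key : ∀ (L : List (ℕ × ℕ)) (acc : ℕ), dotW w (toWord acc) = 0 →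
      (∀ p ∈ L, p.1 < gs.length ∧ p.2 < 12) →
      dotW w (toWord (L.foldl
        (fun acc p => acc ^^^ dvec (gs.getD p.1 ([], [])).1 (rr.getD p.2 0)) acc)) = 0 := by
    intro L
    induction L with
    | nil => intro acc h _; exact h
    | cons p L ih =>
      intro acc h hL
      rw [List.foldl_cons]
      apply ih
      · rw [toWord_xor, dotW_add_right, h, zero_add]
        have hp := hL p (by simp)
        have hmem : gs.getD p.1 ([], []) ∈ gs := by
          rw [List.getD_eq_getElem _ _ hp.1]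
          exact List.getElem_mem _
        exact hd _ hmem _ hp.2
      · intro q hq
        exact hL q (by simp [hq])
  apply key _ 0 (by rw [toWord_zero]; exact dotW_zero_right w)
  intro p hp
  have := hcj.2 p hp
  rw [Bool.and_eq_true, decide_eq_true_eq, decide_eq_true_eq] at this
  exact this

/-- The property to be proved, for a set of points. -/
def Good (s : Finset GolayPt) : Prop :=
  ∀ w : GolayPt → ZMod 2, w ∉ golayCode → ∃ σ ∈ M24, σ • s = s ∧ wperm σ w - w ∉ golayCode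

theorem good_of_cert (gs : List (List ℕ × List ℕ)) (cs : List (List (ℕ × ℕ))) (a : ℕ)
    (hgs : cfgGensOK [] [a] gs = true) (hc : certOK2 gs cs = true) : Good (pts a) := by
  intro w hw
  by_contra hcon
  push Not at hcon
  apply hw
  have hmem := cfgGens_mem hgs
  apply mem_of_fixed gs cs (fun d hd => ⟨(hmem d hd).1, (mem_cfgStab.mp (hmem d hd).2).1⟩) hc
  intro d hd
  have h := mem_cfgStab.mp (hmem d hd).2
  exact hcon _ h.1 (h.2.2 a (by simp))

theorem good_smul {s : Finset GolayPt} (h : Good s) {g : Equiv.Perm GolayPt} (hg : g ∈ M24) :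
    Good (g • s) := by
  intro w hw
  have hw' : wperm g⁻¹ w ∉ golayCode := by
    intro hcon
    apply hw
    have := wperm_mem hg hcon
    rwa [← wperm_mul, mul_inv_cancel, wperm_one] at this
  obtain ⟨σ, hσ, hσs, hσw⟩ := h _ hw'
  refine ⟨g * σ * g⁻¹, Subgroup.mul_mem _ (Subgroup.mul_mem _ hg hσ) (Subgroup.inv_mem _ hg), ?_, ?_⟩
  · rw [mul_smul, mul_smul, inv_smul_smul, hσs]
  · intro hcon
    apply hσw
    have := wperm_mem (Subgroup.inv_mem _ hg) hcon
    have e : wperm g⁻¹ (wperm (g * σ * g⁻¹) w - w) = wperm σ (wperm g⁻¹ w) - wperm g⁻¹ w := by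
      rw [sub_eq_add_z2, sub_eq_add_z2, wperm_add, ← wperm_mul, ← wperm_mul]
      congr 2
      group
    rwa [e] at this

theorem good_compl {s : Finset GolayPt} (h : Good s) : Good sᶜ := by
  intro w hw
  obtain ⟨σ, hσ, hσs, hσw⟩ := h w hw
  exact ⟨σ, hσ, by rw [smul_compl, hσs], hσw⟩

theorem good_o0 : Good (pts (cw 47)) := good_of_cert gO cO _ gO_ok cO_ok

theorem good_d0 : Good (pts d0m) := good_of_cert gD cD _ gD_ok cD_ok

theorem good_empty : Good ∅ := by
  intro w hw
  obtain ⟨σ, hσ, _, hσw⟩ := good_o0 w hw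
  exact ⟨σ, hσ, Finset.smul_finset_empty σ, hσw⟩

theorem good_of_code {m : ℕ} (hm : m < 4096) : Good (pts (cw m)) := by
  rcases weights m hm with h | h | h | h | h
  · have : pts (cw m) = ∅ := by
      rw [← Finset.card_eq_zero, card_pts, h]
    rw [this]
    exact good_empty
  · obtain ⟨g, hg, hgo⟩ := octads_transitive o0_mem (pts_mem_octads hm h)
    rw [← hgo]
    exact good_smul good_o0 hg
  · obtain ⟨g, hg, hgo⟩ := dodecads_transitive d0_mem (pts_mem_dodecads hm h)
    rw [← hgo]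
    exact good_smul good_d0 hg
  · -- weight 16: the complement of an octad
    have h1 : (pts (cw m))ᶜ = pts (cw (m ^^^ 4095)) := by
      have e : cw (m ^^^ 4095) = cw m ^^^ 0xFFFFFF := by
        rw [cw_xor]
        congr 1
      ext p
      rw [Finset.mem_compl, mem_pts, mem_pts, e, Nat.testBit_xor]
      have hb : (0xFFFFFF : ℕ).testBit (idx p) = true := by
        have := idx_lt p
        generalize idx p = i at *
        interval_cases i <;> rfl
      rw [hb]
      cases (cw m).testBit (idx p) <;> simp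
    have hm' : m ^^^ 4095 < 4096 := Nat.xor_lt_two_pow (n := 12) hm (by norm_num)
    have h8 : wt (cw (m ^^^ 4095)) = 8 := by
      have hc : (pts (cw m))ᶜ.card = 8 := by
        rw [Finset.card_compl, card_pts, h, card_golayPt]
      rw [h1, card_pts] at hc
      exact hc
    obtain ⟨g, hg, hgo⟩ := octads_transitive o0_mem (pts_mem_octads hm' h8)
    have : pts (cw m) = (g • pts (cw 47))ᶜ := by
      rw [hgo, ← h1, compl_compl]
    rw [this]
    exact good_compl (good_smul good_o0 hg)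
  · have : pts (cw m) = (∅ : Finset GolayPt)ᶜ := by
      rw [Finset.compl_empty]
      apply Finset.eq_univ_of_card
      rw [card_pts, h, card_golayPt]
    rw [this]
    exact good_compl good_empty

theorem result (u : (Cfsg.GolayPt → ZMod 2)) (hu : u ∈ Cfsg.golayCode) (w : (Cfsg.GolayPt → ZMod 2)) (hw : w ∉ Cfsg.golayCode) : ∃ σ ∈ Cfsg.M24, (fun p => u (σ.symm p)) = u ∧ (fun p => w (σ.symm p)) - w ∉ Cfsg.golayCode := by
  obtain ⟨m, hm, rfl⟩ := exists_of_mem hu
  obtain ⟨σ, hσ, hσs, hσw⟩ := good_of_code hm w hw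
  refine ⟨σ, hσ, ?_, hσw⟩
  show wperm σ (toWord (cw m)) = toWord (cw m)
  apply eq_of_support₂_eq
  rw [support_wperm, support₂_toWord, hσs]

end Cfsg.Agent.S5550
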