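import Mathlib
import Cfsg.Statements.S5548
import Cfsg.Agent.S5550

set_option autoImplicit false
open Cfsg

namespace Cfsg.Agent.S5548

open Cfsg.Agent.helper2

open Cfsg.Agent.helper2.Golay Cfsg.Agent.helper27 Cfsg.Agent.S5550
open scoped Pointwise

/-- For each high part, a code word index bringing it to weight at most four; 64 rows of 64. -/
def covRows : List (List ℕ) := [
  [0, 0, 0, 0, 0, 0, 0, 0, 0, 0, 0, 0, 0, 0, 0, 2049, 0, 0, 0, 0, 0, 0, 0, 1105, 0, 0, 0, 769, 0, 169, 5, 2, 0, 0, 0, 0, 0, 0, 0, 545, 0, 0, 0, 145, 0, 1283, 5, 72, 0, 0, 0, 2059, 0, 1, 5, 384, 0, 65, 5, 1056, 5, 2576, 5, 5],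
  [0, 0, 0, 0, 0, 0, 0, 2049, 0, 0, 0, 2049, 0, 2049, 2049, 2049, 0, 0, 0, 133, 0, 1, 291, 520, 0, 19, 73, 1056, 1537, 324, 144, 2049, 0, 0, 0, 321, 0, 1, 1161, 22, 0, 525, 3, 1056, 113, 128, 768, 2049, 0, 1, 529, 1056, 1, 1, 2112, 1, 2433, 1056, 1056, 1056, 10, 1, 5, 1056],
  [0, 0, 0, 0, 0, 0, 0, 545, 0, 0, 0, 1033, 0, 21, 449, 2, 0, 0, 0, 133, 0, 2305, 9, 2, 0, 65, 2097, 2, 1537, 2, 2, 2, 0, 0, 0, 545, 0, 545, 545, 545, 0, 65, 3, 2308, 2057, 128, 1040, 545, 0, 65, 1281, 16, 147, 1036, 2112, 545, 65, 65, 648, 65, 288, 65, 5, 2],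
  [0, 0, 0, 133, 0, 75, 17, 1280, 0, 289, 3, 592, 1537, 128, 44, 2049, 0, 133, 133, 133, 1537, 48, 2112, 133, 1537, 2056, 256, 133, 1537, 1537, 1537, 2, 0, 3089, 3, 8, 261, 128, 2112, 545, 3, 128, 3, 3, 128, 128, 3, 128, 41, 770, 2112, 133, 2112, 1, 2112, 2112, 20, 65, 3, 1056, 1537, 128, 2112, 281],
  [0, 0, 0, 0, 0, 0, 0, 131, 0, 0, 0, 1033, 0, 577, 5, 304, 0, 0, 0, 33, 0, 2305, 5, 520, 0, 19, 5, 2240, 5, 1024, 5, 5, 0, 0, 0, 321, 0, 25, 5, 3072, 0, 2081, 5, 514, 5, 128, 5, 5, 0, 1665, 5, 16, 5, 98, 5, 5, 5, 264, 5, 5, 5, 5, 5, 5],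
  [0, 0, 0, 321, 0, 1061, 17, 520, 0, 19, 673, 4, 265, 128, 1090, 2049, 0, 19, 3073, 520, 193, 520, 520, 520, 19, 19, 256, 19, 2080, 19, 5, 520, 0, 321, 321, 321, 2563, 128, 32, 321, 1025, 128, 2072, 321, 128, 128, 5, 128, 41, 2052, 130, 321, 1296, 1, 5, 520, 576, 19, 5, 1056, 5, 128, 5, 5],
  [0, 0, 0, 1033, 0, 2305, 17, 68, 0, 1033, 1033, 1033, 35, 128, 2560, 1033, 0, 2305, 579, 16, 2305, 2305, 1184, 2305, 129, 548, 256, 1033, 88, 2305, 5, 2, 0, 7, 2177, 16, 1089, 128, 266, 545, 785, 128, 96, 1033, 128, 128, 5, 128, 41, 16, 16, 16, 512, 2305, 5, 16, 3074, 65, 5, 16, 5, 128, 5, 5],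
  [0, 513, 17, 2082, 17, 128, 17, 17, 2117, 128, 256, 1033, 128, 128, 17, 128, 41, 1088, 256, 133, 6, 2305, 17, 520, 256, 19, 256, 256, 1537, 128, 256, 97, 41, 128, 1540, 321, 128, 128, 17, 128, 128, 128, 3, 128, 128, 128, 128, 128, 41, 41, 41, 16, 41, 128, 2112, 1027, 41, 128, 256, 2561, 128, 128, 5, 128],
  [0, 0, 0, 0, 0, 0, 0, 2049, 0, 0, 0, 2049, 0, 2049, 2049, 2049, 0, 0, 0, 33, 0, 519, 9, 384, 0, 65, 1155, 28, 273, 1024, 608, 2049, 0, 0, 0, 1029, 0, 25, 67, 384, 0, 65, 297, 514, 641, 36, 1040, 2049, 0, 65, 529, 384, 3105, 384, 384, 384, 65, 65, 2048, 65, 10, 65, 5, 384],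
  [0, 0, 0, 2049, 0, 2049, 2049, 2049, 0, 2049, 2049, 2049, 2049, 2049, 2049, 2049, 0, 1289, 529, 66, 193, 48, 1028, 2049, 37, 640, 256, 2049, 10, 2049, 2049, 2049, 0, 163, 529, 8, 261, 1600, 32, 2049, 1025, 272, 196, 2049, 10, 2049, 2049, 2049, 529, 2052, 529, 529, 10, 1, 529, 384, 10, 65, 529, 1056, 10, 10, 10, 2049],
  [0, 0, 0, 275, 0, 1153, 9, 68, 0, 65, 517, 160, 35, 776, 1040, 2049, 0, 65, 9, 3584, 9, 48, 9, 9, 65, 65, 256, 65, 2180, 65, 9, 2, 0, 65, 2177, 8, 261, 2050, 1040, 545, 65, 65, 1040, 65, 1040, 65, 1040, 1040, 65, 65, 38, 65, 512, 65, 9, 384, 65, 65, 65, 65, 65, 65, 1040, 65],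
  [0, 513, 1121, 8, 261, 48, 642, 2049, 153, 1030, 256, 2049, 64, 2049, 2049, 2049, 2051, 48, 256, 133, 48, 48, 9, 48, 256, 65, 256, 256, 1537, 48, 256, 2049, 261, 8, 8, 8, 261, 261, 261, 8, 2592, 65, 3, 8, 261, 128, 1040, 2049, 1152, 65, 529, 8, 261, 48, 2112, 1027, 65, 65, 256, 65, 10, 65, 161, 516],
  [0, 0, 0, 33, 0, 25, 1793, 68, 0, 389, 81, 514, 35, 1024, 136, 2049, 0, 33, 33, 33, 193, 1024, 2066, 33, 2569, 1024, 256, 33, 1024, 1024, 5, 1024, 0, 25, 2177, 514, 25, 25, 32, 25, 1025, 514, 514, 514, 2368, 25, 5, 514, 259, 2052, 1096, 33, 512, 25, 5, 384, 176, 65, 5, 514, 5, 1024, 5, 5],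
  [0, 513, 15, 1168, 193, 258, 32, 2049, 1025, 104, 256, 2049, 532, 2049, 2049, 2049, 193, 2052, 256, 33, 193, 193, 193, 520, 256, 19, 256, 256, 193, 1024, 256, 2049, 1025, 2052, 32, 321, 32, 25, 32, 32, 1025, 1025, 1025, 514, 1025, 128, 32, 2049, 2052, 2052, 529, 2052, 193, 2052, 32, 1027, 1025, 2052, 256, 137, 10, 801, 5, 80],
  [0, 513, 2177, 68, 35, 68, 68, 68, 35, 2064, 256, 1033, 35, 35, 35, 68, 1045, 138, 256, 33, 512, 2305, 9, 68, 256, 65, 256, 256, 35, 1024, 256, 657, 2177, 1312, 2177, 2177, 512, 25, 2177, 68, 12, 65, 2177, 514, 35, 128, 1040, 257, 512, 65, 2177, 16, 512, 512, 512, 1027, 65, 65, 256, 65, 512, 65, 5, 2088],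
  [513, 513, 256, 513, 3080, 513, 17, 68, 256, 513, 256, 256, 35, 128, 256, 2049, 256, 513, 256, 256, 193, 48, 256, 1027, 256, 256, 256, 256, 256, 13, 256, 256, 82, 513, 2177, 8, 261, 128, 32, 1027, 1025, 128, 256, 53, 128, 128, 585, 128, 41, 2052, 256, 1027, 512, 1027, 1027, 1027, 256, 65, 256, 256, 2065, 128, 256, 1027],
  [0, 0, 0, 0, 0, 0, 0, 269, 0, 0, 0, 145, 0, 577, 1057, 2, 0, 0, 0, 33, 0, 1, 2689, 2, 0, 3077, 73, 2, 273, 2, 2, 2, 0, 0, 0, 145, 0, 1, 67, 3072, 0, 145, 145, 145, 2057, 36, 768, 145, 0, 1, 1281, 580, 1, 1, 56, 1, 547, 264, 2048, 145, 1216, 1, 5, 2],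
  [0, 0, 0, 1539, 0, 1, 17, 224, 0, 289, 73, 4, 135, 1048, 768, 2049, 0, 1, 73, 2320, 1, 1, 1028, 1, 73, 640, 73, 73, 2080, 1, 73, 2, 0, 1, 2085, 8, 1, 1, 768, 1, 1025, 2114, 768, 145, 768, 1, 768, 768, 1, 1, 130, 1, 1, 1, 1, 1, 20, 1, 73, 1056, 1, 1, 768, 1],
  [0, 0, 0, 2113, 0, 1153, 17, 2, 0, 289, 517, 2, 2057, 2, 2, 2, 0, 537, 1281, 2, 101, 2, 2, 2, 129, 2, 2, 2, 2, 2, 2, 2, 0, 7, 1281, 8, 2057, 336, 132, 545, 2057, 1536, 96, 145, 2057, 2057, 2057, 2, 1281, 2208, 1281, 1281, 512, 1, 1281, 2, 20, 65, 1281, 2, 2057, 2, 2, 2],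
  [0, 289, 17, 8, 17, 2564, 17, 17, 289, 289, 3200, 289, 64, 289, 17, 2, 2051, 1088, 544, 133, 392, 1, 17, 2, 20, 289, 73, 2, 1537, 2, 2, 2, 705, 8, 8, 8, 1058, 1, 17, 8, 20, 289, 3, 8, 2057, 128, 768, 1093, 20, 1, 1281, 8, 1, 1, 2112, 1, 20, 20, 20, 2561, 20, 1, 161, 2],
  [0, 0, 0, 33, 0, 577, 17, 3072, 0, 577, 2307, 4, 577, 577, 136, 577, 0, 33, 33, 33, 1035, 148, 320, 33, 129, 264, 1552, 33, 2080, 577, 5, 2, 0, 7, 521, 3072, 417, 3072, 3072, 3072, 1025, 264, 96, 145, 18, 577, 5, 3072, 2129, 264, 130, 33, 512, 1, 5, 3072, 264, 264, 5, 264, 5, 264, 5, 5],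
  [0, 2185, 17, 4, 17, 258, 17, 17, 1025, 4, 4, 4, 2080, 577, 17, 4, 773, 1088, 130, 33, 2080, 1, 17, 520, 2080, 19, 73, 4, 2080, 2080, 2080, 1409, 1025, 560, 130, 321, 76, 1, 17, 3072, 1025, 1025, 1025, 4, 1025, 128, 768, 43, 130, 1, 130, 130, 1, 1, 130, 1, 1025, 264, 130, 2561, 2080, 1, 5, 80],
  [0, 7, 17, 896, 17, 40, 17, 17, 129, 2064, 96, 1033, 1284, 577, 17, 2, 129, 1088, 2060, 33, 512, 2305, 17, 2, 129, 129, 129, 2, 129, 2, 2, 2, 7, 7, 96, 7, 512, 7, 17, 3072, 96, 7, 96, 96, 2057, 128, 96, 257, 512, 7, 1281, 16, 512, 512, 512, 201, 129, 264, 96, 2561, 512, 1073, 5, 2],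
  [17, 1088, 17, 17, 17, 17, 17, 17, 522, 289, 17, 4, 17, 128, 17, 17, 1088, 1088, 17, 1088, 17, 1088, 17, 17, 129, 1088, 256, 2561, 2080, 13, 17, 2, 2304, 7, 17, 8, 17, 128, 17, 17, 1025, 128, 96, 2561, 128, 128, 17, 128, 41, 1088, 130, 2561, 512, 1, 17, 292, 20, 2561, 2561, 2561, 323, 128, 1032, 2561],
  [0, 0, 0, 33, 0, 1153, 67, 528, 0, 11, 517, 1344, 273, 36, 136, 2049, 0, 33, 33, 33, 273, 2120, 1028, 33, 273, 640, 2048, 33, 273, 273, 273, 2, 0, 2817, 67, 8, 67, 36, 67, 67, 1025, 36, 2048, 145, 36, 36, 67, 36, 141, 1042, 2048, 33, 512, 1, 67, 384, 2048, 65, 2048, 2048, 273, 36, 2048, 1545],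
  [0, 85, 385, 8, 553, 258, 1028, 2049, 1025, 640, 50, 2049, 64, 2049, 2049, 2049, 2051, 640, 1028, 33, 1028, 1, 1028, 1028, 640, 640, 73, 640, 273, 640, 1028, 2049, 1025, 8, 8, 8, 2192, 1, 67, 8, 1025, 1025, 1025, 8, 1025, 36, 768, 2049, 352, 1, 529, 8, 1, 1, 1028, 1, 1025, 640, 2048, 263, 10, 1, 161, 80],
  [0, 1153, 517, 8, 1153, 1153, 2336, 1153, 517, 2064, 517, 517, 64, 1153, 517, 2, 2051, 260, 208, 33, 512, 1153, 9, 2, 1064, 65, 517, 2, 273, 2, 2, 2, 49, 8, 8, 8, 512, 1153, 67, 8, 386, 65, 517, 8, 2057, 36, 1040, 257, 512, 65, 1281, 8, 512, 512, 512, 2069, 65, 65, 2048, 65, 512, 65, 161, 2],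
  [2051, 8, 8, 8, 64, 1153, 17, 8, 64, 289, 517, 8, 64, 64, 64, 2049, 2051, 2051, 2051, 8, 2051, 48, 1028, 833, 2051, 640, 256, 1041, 64, 13, 161, 2, 8, 8, 8, 8, 261, 8, 8, 8, 1025, 8, 8, 8, 64, 531, 161, 8, 2051, 8, 8, 8, 512, 1, 161, 8, 20, 65, 161, 8, 161, 3328, 161, 161],
  [0, 33, 33, 33, 2053, 258, 136, 33, 1025, 2064, 136, 33, 136, 577, 136, 136, 33, 33, 33, 33, 512, 33, 33, 33, 70, 33, 33, 33, 273, 1024, 136, 33, 1025, 192, 276, 33, 512, 25, 67, 3072, 1025, 1025, 1025, 514, 1025, 36, 136, 257, 512, 33, 33, 33, 512, 512, 512, 33, 1025, 264, 2048, 33, 512, 2179, 5, 80],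
  [1025, 258, 2624, 33, 258, 258, 17, 258, 1025, 1025, 1025, 4, 1025, 258, 136, 2049, 24, 33, 33, 33, 193, 258, 1028, 33, 1025, 640, 256, 33, 2080, 13, 515, 80, 1025, 1025, 1025, 8, 1025, 258, 32, 645, 1025, 1025, 1025, 1025, 1025, 1025, 1025, 80, 1025, 2052, 130, 33, 512, 1, 2313, 80, 1025, 1025, 1025, 80, 1025, 80, 80, 80],
  [329, 2064, 1026, 33, 512, 1153, 17, 68, 2064, 2064, 517, 2064, 35, 2064, 136, 257, 512, 33, 33, 33, 512, 512, 512, 33, 129, 2064, 256, 33, 512, 13, 3137, 2, 512, 7, 2177, 8, 512, 512, 512, 257, 1025, 2064, 96, 257, 512, 257, 257, 257, 512, 512, 512, 33, 512, 512, 512, 512, 512, 65, 27, 1156, 512, 512, 512, 257],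
  [164, 513, 17, 8, 17, 258, 17, 17, 1025, 2064, 256, 195, 64, 13, 17, 1568, 2051, 1088, 256, 33, 512, 13, 17, 2176, 256, 13, 256, 256, 13, 13, 256, 13, 1025, 8, 8, 8, 512, 2145, 17, 8, 1025, 1025, 1025, 8, 1025, 128, 2054, 257, 512, 401, 69, 8, 512, 512, 512, 1027, 1025, 34, 256, 2561, 512, 13, 161, 80],
  [0, 0, 0, 0, 0, 0, 0, 131, 0, 0, 0, 769, 0, 21, 1057, 72, 0, 0, 0, 769, 0, 1, 9, 2084, 0, 769, 769, 769, 2115, 1024, 144, 769, 0, 0, 0, 1029, 0, 1, 2321, 72, 0, 2081, 3, 72, 641, 72, 72, 72, 0, 1, 225, 16, 1, 1, 1538, 1, 1049, 134, 2048, 769, 288, 1, 5, 72],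
  [0, 0, 0, 57, 0, 1, 581, 1280, 0, 1217, 3, 4, 265, 546, 144, 2049, 0, 1, 3073, 66, 1, 1, 144, 1, 37, 2056, 144, 769, 144, 1, 144, 144, 0, 1, 3, 2688, 1, 1, 32, 1, 3, 272, 3, 3, 3076, 1, 3, 72, 1, 1, 268, 1, 1, 1, 1, 1, 576, 1, 3, 1056, 1, 1, 144, 1],
  [0, 0, 0, 2113, 0, 21, 9, 1280, 0, 21, 3, 160, 21, 21, 2560, 21, 0, 1059, 9, 16, 9, 704, 9, 9, 129, 2056, 1092, 769, 288, 21, 9, 2, 0, 393, 3, 16, 1089, 2050, 132, 545, 3, 1536, 3, 3, 288, 21, 3, 72, 2565, 16, 16, 16, 288, 1, 9, 16, 288, 65, 3, 16, 288, 288, 288, 3201],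
  [0, 513, 3, 1280, 2209, 1280, 1280, 1280, 3, 2056, 3, 3, 64, 21, 3, 1280, 337, 2056, 544, 133, 6, 1, 9, 1280, 2056, 2056, 3, 2056, 1537, 2056, 144, 97, 3, 100, 3, 3, 536, 1, 3, 1280, 3, 3, 3, 3, 3, 128, 3, 3, 1152, 1, 3, 16, 1, 1, 2112, 1, 3, 2056, 3, 3, 288, 1, 3, 516],
  [0, 0, 0, 131, 0, 131, 131, 131, 0, 2081, 81, 4, 265, 1024, 2560, 131, 0, 77, 3073, 16, 561, 1024, 320, 131, 129, 1024, 42, 769, 1024, 1024, 5, 1024, 0, 2081, 521, 16, 1089, 772, 32, 131, 2081, 2081, 1408, 2081, 18, 2081, 5, 72, 259, 16, 16, 16, 2184, 1, 5, 16, 576, 2081, 5, 16, 5, 1024, 5, 5],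
  [0, 513, 3073, 4, 265, 2128, 32, 131, 265, 4, 4, 4, 265, 265, 265, 4, 3073, 416, 3073, 3073, 6, 1, 3073, 520, 576, 19, 3073, 4, 265, 1024, 144, 97, 149, 1034, 32, 321, 32, 1, 32, 32, 576, 2081, 3, 4, 265, 128, 32, 1553, 576, 1, 3073, 16, 1, 1, 32, 1, 576, 576, 576, 137, 576, 1, 5, 2306],
  [0, 513, 293, 16, 1089, 40, 2560, 131, 129, 322, 2560, 1033, 2560, 21, 2560, 2560, 129, 16, 16, 16, 6, 2305, 9, 16, 129, 129, 129, 16, 129, 1024, 2560, 97, 1089, 16, 16, 16, 1089, 1089, 1089, 16, 12, 2081, 3, 16, 1089, 128, 2560, 257, 16, 16, 16, 16, 1089, 16, 16, 16, 129, 16, 16, 16, 288, 523, 5, 16],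
  [513, 513, 200, 513, 6, 513, 17, 1280, 1072, 513, 3, 4, 265, 128, 2560, 97, 6, 513, 3073, 16, 6, 6, 6, 97, 129, 2056, 256, 97, 6, 97, 97, 97, 2304, 513, 3, 16, 1089, 128, 32, 2061, 3, 128, 3, 3, 128, 128, 3, 128, 41, 16, 16, 16, 6, 1, 897, 16, 576, 1285, 3, 16, 2065, 128, 1032, 97],
  [0, 0, 0, 1029, 0, 353, 9, 528, 0, 11, 81, 160, 641, 1024, 262, 2049, 0, 2193, 9, 66, 9, 1024, 9, 9, 37, 1024, 2048, 769, 1024, 1024, 9, 1024, 0, 1029, 1029, 1029, 641, 2050, 32, 1029, 641, 272, 2048, 1029, 641, 641, 641, 72, 259, 552, 2048, 1029, 84, 1, 9, 384, 2048, 65, 2048, 2048, 641, 1024, 2048, 51],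
  [0, 513, 385, 66, 1043, 140, 32, 2049, 37, 272, 1544, 2049, 64, 2049, 2049, 2049, 37, 66, 66, 66, 2816, 1, 9, 66, 37, 37, 37, 66, 37, 1024, 144, 2049, 2121, 272, 32, 1029, 32, 1, 32, 32, 272, 272, 3, 272, 641, 272, 32, 2049, 1152, 1, 529, 66, 1, 1, 32, 1, 37, 272, 2048, 137, 10, 1, 1345, 516],
  [0, 513, 9, 160, 9, 2050, 9, 9, 3329, 160, 160, 160, 64, 21, 9, 160, 9, 260, 9, 9, 9, 9, 9, 9, 530, 65, 9, 160, 9, 1024, 9, 9, 49, 2050, 832, 1029, 2050, 2050, 9, 2050, 12, 65, 3, 160, 641, 2050, 1040, 257, 1152, 65, 9, 16, 9, 2050, 9, 9, 65, 65, 2048, 65, 288, 65, 9, 516],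
  [513, 513, 2068, 513, 64, 513, 9, 1280, 64, 513, 3, 160, 64, 64, 64, 2049, 1152, 513, 9, 66, 9, 48, 9, 9, 37, 2056, 256, 1041, 64, 387, 9, 516, 1152, 513, 3, 8, 261, 2050, 32, 209, 3, 272, 3, 3, 64, 1065, 3, 516, 1152, 1152, 1152, 2337, 1152, 1, 9, 516, 1152, 65, 3, 516, 2065, 516, 516, 516],
  [0, 513, 81, 2312, 2053, 1024, 32, 131, 81, 1024, 81, 81, 1024, 1024, 81, 1024, 259, 1024, 644, 33, 1024, 1024, 9, 1024, 1024, 1024, 81, 1024, 1024, 1024, 1024, 1024, 259, 192, 32, 1029, 32, 25, 32, 32, 12, 2081, 81, 514, 641, 1024, 32, 257, 259, 259, 259, 16, 259, 1024, 32, 2625, 259, 1024, 2048, 137, 1024, 1024, 5, 1024],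
  [513, 513, 32, 513, 32, 513, 32, 32, 2178, 513, 81, 4, 265, 1024, 32, 2049, 24, 513, 3073, 66, 193, 1024, 32, 277, 37, 1024, 256, 137, 1024, 1024, 515, 1024, 32, 513, 32, 32, 32, 32, 32, 32, 1025, 272, 32, 137, 32, 71, 32, 32, 259, 2052, 32, 137, 32, 1, 32, 32, 576, 137, 137, 137, 2065, 1024, 32, 137],
  [513, 513, 1026, 513, 400, 513, 9, 68, 12, 513, 81, 160, 35, 1024, 2560, 257, 2144, 513, 9, 16, 9, 1024, 9, 9, 129, 1024, 256, 2055, 1024, 1024, 9, 1024, 12, 513, 2177, 16, 1089, 2050, 32, 257, 12, 12, 12, 257, 12, 257, 257, 257, 259, 16, 16, 16, 512, 165, 9, 16, 12, 65, 1569, 16, 2065, 1024, 194, 257],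
  [513, 513, 513, 513, 513, 513, 32, 513, 513, 513, 256, 513, 64, 513, 1157, 26, 513, 513, 256, 513, 6, 513, 9, 2176, 256, 513, 256, 256, 2065, 1024, 256, 97, 513, 513, 32, 513, 32, 513, 32, 32, 12, 513, 3, 3136, 2065, 128, 32, 257, 1152, 513, 69, 16, 2065, 328, 32, 1027, 2065, 34, 256, 137, 2065, 2065, 2065, 516],
  [0, 0, 0, 2113, 0, 1, 1057, 528, 0, 11, 1057, 4, 1057, 2432, 1057, 1057, 0, 1, 23, 1160, 1, 1, 320, 1, 129, 112, 2048, 769, 524, 1, 1057, 2, 0, 1, 521, 290, 1, 1, 132, 1, 325, 1536, 2048, 145, 18, 1, 1057, 72, 1, 1, 2048, 1, 1, 1, 1, 1, 2048, 1, 2048, 2048, 1, 1, 2048, 1],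
  [0, 1, 385, 4, 1, 1, 2058, 1, 2577, 4, 4, 4, 64, 1, 1057, 4, 1, 1, 544, 1, 1, 1, 1, 1, 1282, 1, 73, 4, 1, 1, 144, 1, 1, 1, 1104, 1, 1, 1, 1, 1, 168, 1, 3, 4, 1, 1, 768, 1, 1, 1, 1, 1, 1, 1, 1, 1, 1, 1, 2048, 1, 1, 1, 1, 1],
  [0, 2113, 2113, 2113, 771, 40, 132, 2113, 129, 1536, 280, 2113, 64, 21, 1057, 2, 129, 260, 544, 2113, 3088, 1, 9, 2, 129, 129, 129, 2, 129, 2, 2, 2, 49, 1536, 132, 2113, 132, 1, 132, 132, 1536, 1536, 3, 1536, 2057, 1536, 132, 257, 74, 1, 1281, 16, 1, 1, 132, 1, 129, 1536, 2048, 45, 288, 1, 593, 2],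
  [1037, 146, 544, 2113, 64, 1, 17, 1280, 64, 289, 3, 4, 64, 64, 64, 649, 544, 1, 544, 544, 1, 1, 544, 1, 129, 2056, 544, 1041, 64, 1, 2309, 2, 2304, 1, 3, 8, 1, 1, 132, 1, 3, 1536, 3, 3, 64, 1, 3, 2096, 1, 1, 544, 1, 1, 1, 1, 1, 20, 1, 3, 448, 1, 1, 1032, 1],
  [0, 1297, 521, 4, 2053, 40, 320, 131, 129, 4, 4, 4, 18, 577, 1057, 4, 129, 2562, 320, 33, 320, 1, 320, 320, 129, 129, 129, 4, 129, 1024, 320, 2073, 521, 192, 521, 521, 18, 1, 521, 3072, 18, 2081, 521, 4, 18, 18, 18, 257, 1060, 1, 521, 16, 1, 1, 320, 1, 129, 264, 2048, 1091, 18, 1, 5, 672],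
  [99, 4, 4, 4, 1664, 1, 17, 4, 4, 4, 4, 4, 265, 4, 4, 4, 24, 1, 3073, 4, 1, 1, 320, 1, 129, 4, 4, 4, 2080, 1, 515, 4, 2304, 1, 521, 4, 1, 1, 32, 1, 1025, 4, 4, 4, 18, 1, 2241, 4, 1, 1, 130, 1, 1, 1, 1, 1, 576, 1, 305, 4, 1, 1, 1032, 1],
  [129, 40, 1026, 2113, 40, 40, 17, 40, 129, 129, 129, 4, 129, 40, 2560, 257, 129, 129, 129, 16, 129, 40, 320, 1541, 129, 129, 129, 129, 129, 129, 129, 2, 2304, 7, 521, 16, 1089, 40, 132, 257, 129, 1536, 96, 257, 18, 257, 257, 257, 129, 16, 16, 16, 512, 1, 2083, 16, 129, 129, 129, 16, 129, 2116, 1032, 257],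
  [2304, 513, 17, 4, 17, 40, 17, 17, 129, 4, 4, 4, 64, 3075, 17, 4, 129, 1088, 544, 267, 6, 1, 17, 2176, 129, 129, 129, 4, 129, 784, 1032, 97, 2304, 2304, 2304, 1185, 2304, 1, 17, 578, 2304, 89, 3, 4, 549, 128, 1032, 257, 2304, 1, 69, 16, 1, 1, 1032, 1, 129, 34, 1032, 2561, 1032, 1, 1032, 1032],
  [0, 11, 385, 528, 2053, 528, 528, 528, 11, 11, 2048, 11, 64, 11, 1057, 528, 1601, 260, 2048, 33, 162, 1, 9, 528, 2048, 11, 2048, 2048, 273, 1024, 2048, 197, 49, 192, 2048, 1029, 1288, 1, 67, 528, 2048, 11, 2048, 2048, 641, 36, 2048, 257, 2048, 1, 2048, 2048, 1, 1, 2048, 1, 2048, 2048, 2048, 2048, 2048, 1, 2048, 2048],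
  [385, 3104, 385, 385, 64, 1, 385, 528, 64, 11, 385, 4, 64, 64, 64, 2049, 24, 1, 385, 66, 1, 1, 1028, 1, 37, 640, 2048, 1041, 64, 1, 515, 296, 518, 1, 385, 8, 1, 1, 32, 1, 1025, 272, 2048, 609, 64, 1, 29, 1154, 1, 1, 2048, 1, 1, 1, 1, 1, 2048, 1, 2048, 2048, 1, 1, 2048, 1],
  [49, 260, 1026, 2113, 64, 1153, 9, 528, 64, 11, 517, 160, 64, 64, 64, 257, 260, 260, 9, 260, 9, 260, 9, 9, 129, 260, 2048, 1041, 64, 2593, 9, 2, 49, 49, 49, 8, 49, 2050, 132, 257, 49, 1536, 2048, 257, 64, 257, 257, 257, 49, 260, 2048, 643, 512, 1, 9, 1120, 2048, 65, 2048, 2048, 1031, 152, 2048, 257],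
  [64, 513, 385, 8, 64, 64, 64, 39, 64, 64, 64, 1041, 64, 64, 64, 64, 2051, 260, 544, 1041, 64, 1, 9, 2176, 64, 1041, 1041, 1041, 64, 64, 64, 1041, 49, 8, 8, 8, 64, 1, 3585, 8, 64, 2181, 3, 8, 64, 64, 64, 257, 1152, 1, 69, 8, 1, 1, 274, 1, 777, 34, 2048, 1041, 64, 1, 161, 516],
  [2053, 192, 1026, 33, 2053, 2053, 2053, 528, 800, 11, 81, 4, 2053, 1024, 136, 257, 24, 33, 33, 33, 2053, 1024, 320, 33, 129, 1024, 2048, 33, 1024, 1024, 515, 1024, 192, 192, 521, 192, 2053, 192, 32, 257, 1025, 192, 2048, 257, 18, 257, 257, 257, 259, 192, 2048, 33, 512, 1, 1169, 14, 2048, 533, 2048, 2048, 105, 1024, 2048, 257],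
  [24, 513, 385, 4, 2053, 258, 32, 1097, 1025, 4, 4, 4, 64, 177, 515, 4, 24, 24, 24, 33, 24, 1, 515, 2176, 24, 2369, 515, 4, 515, 1024, 515, 515, 1025, 192, 32, 2067, 32, 1, 32, 32, 1025, 1025, 1025, 4, 1025, 2568, 32, 257, 24, 1, 69, 1792, 1, 1, 32, 1, 1025, 34, 2048, 137, 388, 1, 515, 80],
  [1026, 513, 1026, 1026, 2053, 40, 1026, 257, 129, 2064, 1026, 257, 64, 257, 257, 257, 129, 260, 1026, 33, 512, 83, 9, 2176, 129, 129, 129, 584, 129, 1024, 52, 257, 49, 192, 1026, 257, 512, 257, 257, 257, 12, 257, 257, 257, 257, 257, 257, 257, 512, 3081, 69, 16, 512, 512, 512, 257, 129, 34, 2048, 257, 512, 257, 257, 257],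
  [513, 513, 1026, 513, 64, 513, 17, 2176, 64, 513, 2089, 4, 64, 64, 64, 257, 24, 513, 69, 2176, 1313, 2176, 2176, 2176, 129, 34, 256, 1041, 64, 13, 515, 2176, 2304, 513, 69, 8, 139, 1044, 32, 257, 1025, 34, 656, 257, 64, 257, 257, 257, 69, 34, 69, 69, 512, 1, 69, 2176, 34, 34, 69, 34, 2065, 34, 1032, 257]]

/-- For each basis word, two words of weight eight adding up to it. -/
def octPairs : List (ℕ × ℕ) := [(2, 3), (1, 3), (1, 5), (1, 9), (1, 17), (1, 33), (1, 65), (1, 129), (2, 258), (1, 513), (1, 1025), (1, 2049)]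

/-- Invariance of a subspace under the group. -/
def Inv (W : Submodule (ZMod 2) (GolayPt → ZMod 2)) : Prop :=
  ∀ σ ∈ M24, ∀ w ∈ W, wperm σ w ∈ W

/-! ### Words -/

theorem add_self_z2 (a : GolayPt → ZMod 2) : a + a = 0 := by
  funext p
  have key : ∀ x : ZMod 2, x + x = 0 := by decide
  exact key _

theorem z2_swap {a b c d : GolayPt → ZMod 2} (h : a + b = c + d) : a + c = b + d := by
  funext p
  have key : ∀ x y z t : ZMod 2, x + y = z + t → x + z = y + t := by decide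
  exact key _ _ _ _ (congrFun h p)

theorem z2_move {a b c : GolayPt → ZMod 2} (h : a + b = c) : a = c + b := by
  funext p
  have key : ∀ x y z : ZMod 2, x + y = z → x = z + y := by decide
  exact key _ _ _ (congrFun h p)

theorem wperm_apply (σ : Equiv.Perm GolayPt) (w : GolayPt → ZMod 2) (p : GolayPt) :
    wperm σ w p = w (σ.symm p) := rfl

theorem wperm_single (σ : Equiv.Perm GolayPt) (a : GolayPt) :
    wperm σ (Pi.single a 1) = Pi.single (σ a) 1 := by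
  funext p
  rw [wperm_apply, Pi.single_apply, Pi.single_apply]
  by_cases h : p = σ a
  · rw [if_pos h, if_pos (by rw [h, Equiv.symm_apply_apply])]
  · rw [if_neg h, if_neg]
    intro h2
    apply h
    rw [← h2, Equiv.apply_symm_apply]

/-- The word with two ones. -/
def pairW (a b : GolayPt) : GolayPt → ZMod 2 := Pi.single a 1 + Pi.single b 1

theorem wperm_pairW (σ : Equiv.Perm GolayPt) (a b : GolayPt) :
    wperm σ (pairW a b) = pairW (σ a) (σ b) := by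
  unfold pairW
  rw [wperm_add, wperm_single, wperm_single]

theorem pairW_self (a : GolayPt) : pairW a a = 0 := add_self_z2 _

/-- The word of a set of points. -/
def ind (s : Finset GolayPt) : GolayPt → ZMod 2 := fun p => if p ∈ s then 1 else 0

theorem toWord_eq_ind (n : ℕ) : toWord n = ind (pts n) := by
  funext p
  unfold toWord ind
  by_cases h : n.testBit (idx p) = true
  · rw [if_pos h, if_pos (mem_pts.mpr h)]
  · rw [if_neg h, if_neg (fun h2 => h (mem_pts.mp h2))]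

theorem wperm_ind (σ : Equiv.Perm GolayPt) (s : Finset GolayPt) :
    wperm σ (ind s) = ind (σ • s) := by
  funext p
  rw [wperm_apply]
  unfold ind
  have h : σ.symm p ∈ s ↔ p ∈ σ • s := by
    rw [← perm_mem_smul_iff σ (σ.symm p) s, Equiv.apply_symm_apply]
  by_cases h2 : σ.symm p ∈ s
  · rw [if_pos h2, if_pos (h.mp h2)]
  · rw [if_neg h2, if_neg (fun h3 => h2 (h.mpr h3))]

theorem ind_add_swap {A : Finset GolayPt} {a b : GolayPt} (ha : a ∈ A) (hb : b ∉ A) :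
    ind A + ind (insert b (A.erase a)) = pairW a b := by
  have hab : a ≠ b := fun h => hb (h ▸ ha)
  funext p
  unfold ind pairW
  rw [Pi.add_apply, Pi.add_apply, Pi.single_apply, Pi.single_apply]
  by_cases hpa : p = a
  · subst hpa
    rw [if_pos ha, if_neg, if_pos rfl, if_neg hab]
    rw [Finset.mem_insert, Finset.mem_erase]
    push Not
    exact ⟨hab, fun h => absurd rfl h⟩
  · by_cases hpb : p = b
    · subst hpb
      rw [if_neg hb, if_pos (Finset.mem_insert_self _ _), if_neg hpa, if_pos rfl]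
    · rw [if_neg hpa, if_neg hpb]
      by_cases hpA : p ∈ A
      · have h1 : p ∈ insert b (A.erase a) := by
          rw [Finset.mem_insert, Finset.mem_erase]
          exact Or.inr ⟨hpa, hpA⟩
        rw [if_pos hpA, if_pos h1]
        decide
      · have h1 : p ∉ insert b (A.erase a) := by
          rw [Finset.mem_insert, Finset.mem_erase]
          push Not
          exact ⟨hpb, fun _ => hpA⟩
        rw [if_neg hpA, if_neg h1]

theorem toWord_eq_zero_of_wt {n : ℕ} (h : wt n = 0) : toWord n = 0 := by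
  have he : pts n = ∅ := by rw [← Finset.card_eq_zero, card_pts, h]
  rw [toWord_eq_ind, he]
  funext p
  simp [ind]

theorem toWord_eq_one_of_wt {n : ℕ} (h : wt n = 24) : toWord n = 1 := by
  have he : pts n = Finset.univ := by
    apply Finset.eq_univ_of_card
    rw [card_pts, h, card_golayPt]
  rw [toWord_eq_ind, he]
  funext p
  simp [ind]

/-! ### Transitivity on small sets -/

theorem exists_smul_finset {k : ℕ} (hk : k ≤ 5) {s s' : Finset GolayPt} (hs : s.card = k)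
    (hs' : s'.card = k) : ∃ g ∈ M24, g • s = s' := by
  have hT := m24_k_transitive hk
  let x : Fin k ↪ GolayPt :=
    (s.equivFinOfCardEq hs).symm.toEmbedding.trans (Function.Embedding.subtype _)
  let y : Fin k ↪ GolayPt :=
    (s'.equivFinOfCardEq hs').symm.toEmbedding.trans (Function.Embedding.subtype _)
  obtain ⟨g, hg⟩ := hT.exists_smul_eq x y
  have hx : ∀ p, p ∈ s ↔ ∃ i, x i = p := by
    intro p
    constructor
    · intro hp
      exact ⟨s.equivFinOfCardEq hs ⟨p, hp⟩, by simp [x]⟩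
    · rintro ⟨i, rfl⟩
      exact ((s.equivFinOfCardEq hs).symm i).2
  have hy : ∀ p, p ∈ s' ↔ ∃ i, y i = p := by
    intro p
    constructor
    · intro hp
      exact ⟨s'.equivFinOfCardEq hs' ⟨p, hp⟩, by simp [y]⟩
    · rintro ⟨i, rfl⟩
      exact ((s'.equivFinOfCardEq hs').symm i).2
  have hgi : ∀ i, g.1 (x i) = y i := fun i => DFunLike.congr_fun hg i
  refine ⟨g.1, g.2, ?_⟩
  apply Finset.eq_of_subset_of_card_le
  · intro q hq
    obtain ⟨p, hp, rfl⟩ := Finset.mem_smul_finset.mp hq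
    obtain ⟨i, rfl⟩ := (hx p).mp hp
    exact (hy _).mpr ⟨i, (hgi i).symm⟩
  · rw [Finset.card_smul_finset, hs, hs']

theorem exists_map_three {a b p q : GolayPt} (hab : a ≠ b) (hap : a ≠ p) (hbp : b ≠ p)
    (haq : a ≠ q) (hbq : b ≠ q) : ∃ g ∈ M24, g a = a ∧ g b = b ∧ g p = q := by
  have h3 := m24_k_transitive (k := 3) (by norm_num)
  obtain ⟨g, hg⟩ := h3.exists_smul_eq (emb3 hab hap hbp) (emb3 hab haq hbq)
  exact ⟨g.1, g.2, DFunLike.congr_fun hg 0, DFunLike.congr_fun hg 1, DFunLike.congr_fun hg 2⟩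

/-! ### Subspaces containing a word with two ones -/

theorem even_mem_of_pair {W : Submodule (ZMod 2) (GolayPt → ZMod 2)} (hW : Inv W) {a b : GolayPt}
    (hab : a ≠ b) (hp : pairW a b ∈ W) : ∀ v : GolayPt → ZMod 2, ∑ p, v p = 0 → v ∈ W := by
  have hall : ∀ c d : GolayPt, pairW c d ∈ W := by
    intro c d
    by_cases hcd : c = d
    · rw [hcd, pairW_self]
      exact W.zero_mem
    · obtain ⟨g, hg, hga, hgb⟩ := exists_map_two hab hcd
      have := hW g hg _ hp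
      rwa [wperm_pairW, hga, hgb] at this
  intro v hv
  have hsum : v = ∑ p, v p • pairW p a := by
    funext q
    rw [Finset.sum_apply]
    simp only [Pi.smul_apply, pairW, Pi.add_apply, Pi.single_apply, smul_eq_mul, mul_add,
      Finset.sum_add_distrib]
    rw [← Finset.sum_mul, hv, zero_mul, add_zero]
    simp [Finset.sum_ite_eq]
  rw [hsum]
  exact Submodule.sum_mem _ (fun p _ => Submodule.smul_mem _ _ (hall p a))

theorem final_of_even {W : Submodule (ZMod 2) (GolayPt → ZMod 2)}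
    (hE : ∀ v : GolayPt → ZMod 2, ∑ p, v p = 0 → v ∈ W) :
    (W : Set (GolayPt → ZMod 2)) = {w | ∑ p, w p = 0} ∨ W = ⊤ := by
  by_cases h : ∀ w ∈ W, ∑ p, w p = 0
  · left
    ext w
    exact ⟨h w, hE w⟩
  · right
    push Not at h
    obtain ⟨w, hw, hw1⟩ := h
    rw [eq_top_iff]
    intro v _
    have key : ∀ x : ZMod 2, x = 0 ∨ x = 1 := by decide
    rcases key (∑ p, v p) with h0 | h1
    · exact hE v h0
    · have hw2 : ∑ p, w p = 1 := (key _).resolve_left hw1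
      have hs : ∑ p, (v + w) p = 0 := by
        simp only [Pi.add_apply, Finset.sum_add_distrib, h1, hw2]
        decide
      have hv : v = (v + w) + w := by rw [add_assoc, add_self_z2, add_zero]
      rw [hv]
      exact W.add_mem (hE _ hs) hw

/-! ### Subspaces of the code -/

theorem octPairs_ok : ∀ r ∈ rr, ∃ p ∈ octPairs, p.1 < 4096 ∧ p.2 < 4096 ∧ wt (cw p.1) = 8 ∧
    wt (cw p.2) = 8 ∧ cw p.1 ^^^ cw p.2 = r := by decide +kernel

theorem compl_pts_cw (m : ℕ) : (pts (cw m))ᶜ = pts (cw (m ^^^ 4095)) := by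
  have e : cw (m ^^^ 4095) = cw m ^^^ 0xFFFFFF := by
    rw [cw_xor]
    congr 1
  ext p
  rw [Finset.mem_compl, mem_pts, mem_pts, e, Nat.testBit_xor]
  have hb : (0xFFFFFF : ℕ).testBit (idx p) = true := by
    have := idx_lt p
    generalize idx p = i at *
    interval_cases i <;> rfl
  rw [hb]
  cases (cw m).testBit (idx p) <;> simp

theorem wt_compl {m : ℕ} (h : wt (cw m) = 16) : wt (cw (m ^^^ 4095)) = 8 := by
  have hc : (pts (cw m))ᶜ.card = 8 := by
    rw [Finset.card_compl, card_pts, h, card_golayPt]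
  rw [compl_pts_cw, card_pts] at hc
  exact hc

theorem toWord_of_smul {g : Equiv.Perm GolayPt} {a b : ℕ} (h : g • pts a = pts b) :
    wperm g (toWord a) = toWord b := by
  apply eq_of_support₂_eq
  rw [support_wperm, support₂_toWord, support₂_toWord, h]

/-- Code words of the same weight are in one orbit. -/
theorem same_weight_orbit {m m' : ℕ} (hm : m < 4096) (hm' : m' < 4096)
    (hk : wt (cw m) = 8 ∨ wt (cw m) = 12 ∨ wt (cw m) = 16) (he : wt (cw m') = wt (cw m)) :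
    ∃ g ∈ M24, wperm g (toWord (cw m)) = toWord (cw m') := by
  rcases hk with h | h | h
  · obtain ⟨g, hg, hgo⟩ := octads_transitive (pts_mem_octads hm h)
      (pts_mem_octads hm' (he.trans h))
    exact ⟨g, hg, toWord_of_smul hgo⟩
  · obtain ⟨g, hg, hgo⟩ := dodecads_transitive (pts_mem_dodecads hm h)
      (pts_mem_dodecads hm' (he.trans h))
    exact ⟨g, hg, toWord_of_smul hgo⟩
  · have hx : m ^^^ 4095 < 4096 := Nat.xor_lt_two_pow (n := 12) hm (by norm_num)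
    have hx' : m' ^^^ 4095 < 4096 := Nat.xor_lt_two_pow (n := 12) hm' (by norm_num)
    obtain ⟨g, hg, hgo⟩ := octads_transitive (pts_mem_octads hx (wt_compl h))
      (pts_mem_octads hx' (wt_compl (he.trans h)))
    refine ⟨g, hg, toWord_of_smul ?_⟩
    rw [← compl_compl (pts (cw m)), ← compl_compl (pts (cw m')), smul_compl, compl_pts_cw,
      compl_pts_cw, hgo]

theorem code_le_of_octad {W : Submodule (ZMod 2) (GolayPt → ZMod 2)} (hW : Inv W) {m : ℕ}
    (hm : m < 4096) (h8 : wt (cw m) = 8) (hmem : toWord (cw m) ∈ W) : golayCode ≤ W := by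
  have hall : ∀ m' < 4096, wt (cw m') = 8 → toWord (cw m') ∈ W := by
    intro m' hm' h8'
    obtain ⟨g, hg, hgw⟩ := same_weight_orbit hm hm' (Or.inl h8) (h8'.trans h8.symm)
    rw [← hgw]
    exact hW g hg _ hmem
  have hrr : ∀ r ∈ rr, toWord r ∈ W := by
    intro r hr
    obtain ⟨p, _, h1, h2, h3, h4, h5⟩ := octPairs_ok r hr
    rw [← h5, toWord_xor]
    exact W.add_mem (hall _ h1 h3) (hall _ h2 h4)
  intro c hc
  obtain ⟨m', _, rfl⟩ := exists_of_mem hc
  exact toWord_xorSel_mem hrr m'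

theorem code_le_of_mem {W : Submodule (ZMod 2) (GolayPt → ZMod 2)} (hW : Inv W) {m : ℕ}
    (hm : m < 4096) (hk : wt (cw m) = 8 ∨ wt (cw m) = 12 ∨ wt (cw m) = 16)
    (hmem : toWord (cw m) ∈ W) : golayCode ≤ W := by
  have hall : ∀ m' < 4096, wt (cw m') = wt (cw m) → toWord (cw m') ∈ W := by
    intro m' hm' he
    obtain ⟨g, hg, hgw⟩ := same_weight_orbit hm hm' hk he
    rw [← hgw]
    exact hW g hg _ hmem
  have h47 : wt (cw 47) = 8 := by decide +kernel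
  rcases hk with h | h | h
  · exact code_le_of_octad hW hm h hmem
  · apply code_le_of_octad hW (m := 47) (by norm_num) h47
    have e : cw 47 = cw 13 ^^^ cw 34 := cw_xor 13 34
    rw [e, toWord_xor]
    exact W.add_mem (hall 13 (by norm_num) ((by decide +kernel : wt (cw 13) = 12).trans h.symm))
      (hall 34 (by norm_num) ((by decide +kernel : wt (cw 34) = 12).trans h.symm))
  · apply code_le_of_octad hW (m := 47) (by norm_num) h47
    have e : cw 47 = cw 473 ^^^ cw 502 := cw_xor 473 502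
    rw [e, toWord_xor]
    exact W.add_mem (hall 473 (by norm_num) ((by decide +kernel : wt (cw 473) = 16).trans h.symm))
      (hall 502 (by norm_num) ((by decide +kernel : wt (cw 502) = 16).trans h.symm))

theorem sub_code {W : Submodule (ZMod 2) (GolayPt → ZMod 2)} (hW : Inv W) (hle : W ≤ golayCode) :
    W = ⊥ ∨ W = Submodule.span (ZMod 2) {fun _ => (1 : ZMod 2)} ∨ W = golayCode := by
  by_cases h : ∀ w ∈ W, w = 0 ∨ w = 1
  · by_cases h1 : (1 : GolayPt → ZMod 2) ∈ W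
    · right; left
      apply le_antisymm
      · intro w hw
        rcases h w hw with rfl | rfl
        · exact Submodule.zero_mem _
        · exact Submodule.subset_span rfl
      · rw [Submodule.span_le, Set.singleton_subset_iff]
        exact h1
    · left
      rw [eq_bot_iff]
      intro w hw
      rcases h w hw with rfl | rfl
      · exact Submodule.zero_mem _
      · exact absurd hw h1
  · right; right
    push Not at h
    obtain ⟨w, hw, hw0, hw1⟩ := h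
    obtain ⟨m, hm, rfl⟩ := exists_of_mem (hle hw)
    apply le_antisymm hle
    apply code_le_of_mem hW hm _ hw
    rcases weights m hm with h | h | h | h | h
    · exact absurd (toWord_eq_zero_of_wt h) hw0
    · exact Or.inl h
    · exact Or.inr (Or.inl h)
    · exact Or.inr (Or.inr h)
    · exact absurd (toWord_eq_one_of_wt h) hw1

/-! ### Covering radius -/

theorem cov_ok : ∀ a < 64, ∀ b < 64, (covRows.getD a []).getD b 0 < 4096 ∧
    wt ((4096 * (a * 64 + b)) ^^^ cw ((covRows.getD a []).getD b 0)) ≤ 4 := by decide +kernel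

theorem cov_spec : ∀ k < 4096, ∃ m < 4096, wt ((4096 * k) ^^^ cw m) ≤ 4 := by
  apply forall_lt_4096
  intro a ha b hb
  exact ⟨_, (cov_ok a ha b hb).1, (cov_ok a ha b hb).2⟩

theorem cover (v : GolayPt → ZMod 2) : ∃ m < 4096, ∃ n, wt n ≤ 4 ∧ v + toWord (cw m) = toWord n := by
  obtain ⟨n, hn, rfl⟩ := exists_mask v
  have hm : n % 4096 < 4096 := Nat.mod_lt _ (by norm_num)
  have hlt : n ^^^ cw (n % 4096) < 2 ^ 24 := Nat.xor_lt_two_pow hn (cw_lt _ hm)
  have hmod : (n ^^^ cw (n % 4096)) % 4096 = 0 := by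
    have e : (4096 : ℕ) = 2 ^ 12 := by norm_num
    rw [e, Nat.xor_mod_two_pow, ← e, cw_low _ hm, Nat.xor_self]
  obtain ⟨k, hk⟩ : ∃ k, n ^^^ cw (n % 4096) = 4096 * k :=
    ⟨_, (Nat.mul_div_cancel' (Nat.dvd_of_mod_eq_zero hmod)).symm⟩
  have hk4 : k < 4096 := by
    rw [hk] at hlt
    norm_num at hlt
    omega
  obtain ⟨m, hm4, hwt⟩ := cov_spec k hk4
  refine ⟨n % 4096 ^^^ m, Nat.xor_lt_two_pow (n := 12) hm hm4, _, hwt, ?_⟩
  rw [← toWord_xor, cw_xor, ← Nat.xor_assoc, hk]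

/-- A subspace containing the code properly contains a word with two ones. -/
theorem pair_of_not_le {W : Submodule (ZMod 2) (GolayPt → ZMod 2)} (hW : Inv W)
    (hC : golayCode ≤ W) {w : GolayPt → ZMod 2} (hw : w ∈ W) (hwC : w ∉ golayCode) :
    ∃ a b, a ≠ b ∧ pairW a b ∈ W := by
  obtain ⟨m, _, n, hn4, he⟩ := cover w
  have heW : toWord n ∈ W := by
    rw [← he]
    exact W.add_mem hw (hC (cw_mem m))
  have hn0 : wt n ≠ 0 := by
    intro h0
    apply hwC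
    rw [toWord_eq_zero_of_wt h0] at he
    have := z2_move he
    rw [zero_add] at this
    rw [this]
    exact cw_mem m
  have hcard : (pts n).card = wt n := card_pts n
  have hne : (pts n).Nonempty := by
    rw [← Finset.card_pos, hcard]
    omega
  obtain ⟨a, ha⟩ := hne
  have hnu : ∃ b, b ∉ pts n := by
    by_contra hcon
    push Not at hcon
    have : (pts n).card = 24 := by
      rw [Finset.eq_univ_of_forall hcon, Finset.card_univ, card_golayPt]
    omega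
  obtain ⟨b, hb⟩ := hnu
  have hab : a ≠ b := fun h => hb (h ▸ ha)
  have hc' : (insert b ((pts n).erase a)).card = wt n := by
    rw [Finset.card_insert_of_notMem (fun h => hb (Finset.mem_of_mem_erase h)),
      Finset.card_erase_of_mem ha, hcard]
    omega
  obtain ⟨g, hg, hgs⟩ := exists_smul_finset (k := wt n) (by omega) hcard hc'
  refine ⟨a, b, hab, ?_⟩
  rw [← ind_add_swap ha hb, ← hgs, ← wperm_ind, ← toWord_eq_ind]
  exact W.add_mem heW (hW g hg _ heW)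

/-! ### Code words fixed by the stabiliser of two points -/

theorem const_of_fixed {c : GolayPt → ZMod 2} (hc : c ∈ golayCode) {a b : GolayPt} (hab : a ≠ b)
    (h : ∀ σ ∈ M24, σ a = a → σ b = b → wperm σ c = c) : c = 0 ∨ c = 1 := by
  have hconst : ∀ p q : GolayPt, a ≠ p → b ≠ p → a ≠ q → b ≠ q → c p = c q := by
    intro p q hap hbp haq hbq
    obtain ⟨g, hg, hga, hgb, hgp⟩ := exists_map_three hab hap hbp haq hbq
    have := congrFun (h g hg hga hgb) q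
    rw [wperm_apply, ← hgp, Equiv.symm_apply_apply] at this
    rw [← hgp]
    exact this
  obtain ⟨m, hm, rfl⟩ := exists_of_mem hc
  have hcard : (pts (cw m)).card = wt (cw m) := card_pts _
  obtain ⟨p0, hp0a, hp0b⟩ : ∃ p0 : GolayPt, a ≠ p0 ∧ b ≠ p0 := by
    by_contra hcon
    push Not at hcon
    have hsub : (Finset.univ : Finset GolayPt) ⊆ {a, b} := by
      intro p _
      rw [Finset.mem_insert, Finset.mem_singleton]
      by_cases hpa : a = p
      · exact Or.inl hpa.symm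
      · exact Or.inr (hcon p hpa).symm
    have := Finset.card_le_card hsub
    rw [Finset.card_univ, card_golayPt] at this
    have h2 : ({a, b} : Finset GolayPt).card ≤ 2 := Finset.card_le_two
    omega
  have key : ∀ x : ZMod 2, x = 0 ∨ x = 1 := by decide
  rcases key (toWord (cw m) p0) with h0 | h1
  · left
    apply toWord_eq_zero_of_wt
    have hsub : pts (cw m) ⊆ {a, b} := by
      intro p hp
      rw [Finset.mem_insert, Finset.mem_singleton]
      by_contra hcon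
      push Not at hcon
      have h1 := hconst p p0 (Ne.symm hcon.1) (Ne.symm hcon.2) hp0a hp0b
      rw [h0, toWord_eq_ind] at h1
      simp [ind, hp] at h1
    have h2 := (Finset.card_le_card hsub).trans Finset.card_le_two
    rw [hcard] at h2
    rcases weights m hm with h | h | h | h | h <;> omega
  · right
    apply toWord_eq_one_of_wt
    have hsub : (pts (cw m))ᶜ ⊆ {a, b} := by
      intro p hp
      rw [Finset.mem_compl] at hp
      rw [Finset.mem_insert, Finset.mem_singleton]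
      by_contra hcon
      push Not at hcon
      have h2 := hconst p p0 (Ne.symm hcon.1) (Ne.symm hcon.2) hp0a hp0b
      rw [h1, toWord_eq_ind] at h2
      simp [ind, hp] at h2
    have h2 := (Finset.card_le_card hsub).trans Finset.card_le_two
    rw [Finset.card_compl, hcard, card_golayPt] at h2
    rcases weights m hm with h | h | h | h | h <;> omega

theorem inv_inf {W : Submodule (ZMod 2) (GolayPt → ZMod 2)} (hW : Inv W) : Inv (W ⊓ golayCode) := by
  intro σ hσ w hw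
  exact ⟨hW σ hσ w hw.1, wperm_mem hσ hw.2⟩

theorem inv_sup {W : Submodule (ZMod 2) (GolayPt → ZMod 2)} (hW : Inv W) : Inv (W ⊔ golayCode) := by
  intro σ hσ w hw
  obtain ⟨x, hx, y, hy, rfl⟩ := Submodule.mem_sup.mp hw
  rw [wperm_add]
  exact Submodule.add_mem_sup (hW σ hσ x hx) (wperm_mem hσ hy)

/-- A subspace not inside the code contains all words of even weight. -/
theorem even_le_of_not_le {W : Submodule (ZMod 2) (GolayPt → ZMod 2)} (hW : Inv W)
    (hnle : ¬ W ≤ golayCode) : ∀ v : GolayPt → ZMod 2, ∑ p, v p = 0 → v ∈ W := by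
  obtain ⟨w, hw, hwC⟩ := SetLike.not_le_iff_exists.mp hnle
  by_cases hC : golayCode ≤ W
  · obtain ⟨a, b, hab, hp⟩ := pair_of_not_le hW hC hw hwC
    exact even_mem_of_pair hW hab hp
  · have hD : ∀ x ∈ W, x ∈ golayCode → x = 0 ∨ x = 1 := by
      intro x hxW hxC
      have hx : x ∈ W ⊓ golayCode := ⟨hxW, hxC⟩
      rcases sub_code (inv_inf hW) inf_le_right with h | h | h
      · rw [h] at hx
        exact Or.inl ((Submodule.mem_bot _).mp hx)
      · rw [h] at hx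
        obtain ⟨t, rfl⟩ := Submodule.mem_span_singleton.mp hx
        have key : ∀ x : ZMod 2, x = 0 ∨ x = 1 := by decide
        rcases key t with rfl | rfl
        · left
          rw [zero_smul]
        · right
          rw [one_smul]
          rfl
      · exact absurd (h ▸ inf_le_left) hC
    obtain ⟨a, b, hab, hp⟩ := pair_of_not_le (inv_sup hW) le_sup_right
      (Submodule.mem_sup_left hw) hwC
    obtain ⟨w1, hw1, c, hc, hsum⟩ := Submodule.mem_sup.mp hp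
    have hfix : ∀ σ ∈ M24, σ a = a → σ b = b → wperm σ c = c := by
      intro σ hσ ha hb
      have e1 : wperm σ w1 + wperm σ c = w1 + c := by
        rw [← wperm_add, hsum, wperm_pairW, ha, hb]
      have e2 : wperm σ w1 + w1 = wperm σ c + c := z2_swap e1
      have hxW : wperm σ c + c ∈ W := by
        rw [← e2]
        exact W.add_mem (hW σ hσ _ hw1) hw1
      have hxC : wperm σ c + c ∈ golayCode := golayCode.add_mem (wperm_mem hσ hc) hc
      rcases hD _ hxW hxC with h0 | h1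
      · have := z2_move h0
        rwa [zero_add] at this
      · exfalso
        have := congrFun h1 a
        have hsa : σ.symm a = a := by rw [Equiv.symm_apply_eq, ha]
        rw [Pi.add_apply, wperm_apply, hsa] at this
        have key : ∀ x : ZMod 2, x + x ≠ 1 := by decide
        exact key _ this
    rcases const_of_fixed hc hab hfix with rfl | rfl
    · rw [add_zero] at hsum
      rw [hsum] at hw1
      exact even_mem_of_pair hW hab hw1
    · have hw1' : w1 = pairW a b + 1 := z2_move hsum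
      obtain ⟨b', hab', hbb'⟩ : ∃ b' : GolayPt, a ≠ b' ∧ b ≠ b' := by
        by_contra hcon
        push Not at hcon
        have hsub : (Finset.univ : Finset GolayPt) ⊆ {a, b} := by
          intro p _
          rw [Finset.mem_insert, Finset.mem_singleton]
          by_cases hpa : a = p
          · exact Or.inl hpa.symm
          · exact Or.inr (hcon p hpa).symm
        have := Finset.card_le_card hsub
        rw [Finset.card_univ, card_golayPt] at this
        have h2 : ({a, b} : Finset GolayPt).card ≤ 2 := Finset.card_le_two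
        omega
      obtain ⟨g, hg, hga, hgb⟩ := exists_map_two hab hab'
      have h2 : wperm g w1 ∈ W := hW g hg _ hw1
      have h3 : w1 + wperm g w1 = pairW b b' := by
        rw [hw1', wperm_add, wperm_pairW, hga, hgb, wperm_ones]
        funext p
        simp only [pairW, Pi.add_apply, Pi.one_apply]
        have key : ∀ x y z : ZMod 2, x + y + 1 + (x + z + 1) = y + z := by decide
        exact key _ _ _
      have h4 : pairW b b' ∈ W := by
        rw [← h3]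
        exact W.add_mem hw1 h2
      exact even_mem_of_pair hW hbb' h4

theorem result (W : Submodule (ZMod 2) (Cfsg.GolayPt → ZMod 2)) (hW : ∀ σ ∈ Cfsg.M24, ∀ w ∈ W, (fun p => w (σ.symm p)) ∈ W) : W = ⊥ ∨ W = Submodule.span (ZMod 2) {fun _ => (1 : ZMod 2)} ∨ W = Cfsg.golayCode ∨ (W : Set (Cfsg.GolayPt → ZMod 2)) = {w | ∑ p, w p = 0} ∨ W = ⊤ := by
  have hInv : Inv W := hW
  by_cases hle : W ≤ golayCode
  · rcases sub_code hInv hle with h | h | h
    · exact Or.inl h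
    · exact Or.inr (Or.inl h)
    · exact Or.inr (Or.inr (Or.inl h))
  · rcases final_of_even (even_le_of_not_le hInv hle) with h | h
    · exact Or.inr (Or.inr (Or.inr (Or.inl h)))
    · exact Or.inr (Or.inr (Or.inr (Or.inr h)))

end Cfsg.Agent.S5548
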