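import Mathlib
import Cfsg.Agent.Lib_helper2_K6

set_option autoImplicit false

namespace Cfsg.Agent.helper2.Golay

open Cfsg Cfsg.Agent.helper27
open scoped Pointwise

/-! ### Enumerating the elements of `M24` with a decidable property through normal forms -/

/-- Tables of candidates are normalised. -/
theorem cand_norm {us : List (List ℕ × List ℕ)} {d : List ℕ × List ℕ} (hd : d ∈ candsOf us) :
    d.1 = (List.range 24).map (fun i => tb d.1 i) := by
  unfold candsOf at hd
  rw [List.mem_flatMap] at hd
  obtain ⟨u, _, hd⟩ := hd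
  obtain ⟨m, _, rfl⟩ := List.mem_map.mp hd
  show comp u.1 (hsD m).1 = (List.range 24).map (fun i => tb (comp u.1 (hsD m).1) i)
  conv_lhs => unfold comp
  apply List.map_congr_left
  intro i hi
  exact (tb_comp _ _ i (List.mem_range.mp hi)).symm

/-- Two table pairs with normalised tables define the same permutation iff the tables agree. -/
theorem gperm_eq_iff_norm {d d' : List ℕ × List ℕ} (h : tablesOK d.1 d.2 = true)
    (h' : tablesOK d'.1 d'.2 = true) (hn : d.1 = (List.range 24).map (fun i => tb d.1 i))
    (hn' : d'.1 = (List.range 24).map (fun i => tb d'.1 i)) :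
    gperm d = gperm d' ↔ d.1 = d'.1 := by
  constructor
  · intro he
    rw [hn, hn']
    apply List.map_congr_left
    intro i hi
    have hi' := List.mem_range.mp hi
    have := congrArg (fun σ : Equiv.Perm GolayPt => idx (σ (pt i))) he
    rw [gperm_pt h hi', gperm_pt h' hi', idx_pt _ (tablesOK_spec h i hi').1,
      idx_pt _ (tablesOK_spec h' i hi').1] at this
    exact this
  · exact gperm_eq_of_fst h h'

theorem comp_norm (t1 t2 : List ℕ) :
    comp t1 t2 = (List.range 24).map (fun i => tb (comp t1 t2) i) := by
  conv_lhs => unfold comp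
  apply List.map_congr_left
  intro i hi
  exact (tb_comp _ _ i (List.mem_range.mp hi)).symm

/-- A relation `g * a = b * g` between explicit elements, in terms of tables. -/
theorem gperm_rel_iff {d a b : List ℕ × List ℕ} (hd : tablesOK d.1 d.2 = true)
    (ha : tablesOK a.1 a.2 = true) (hb : tablesOK b.1 b.2 = true) :
    gperm d * gperm a = gperm b * gperm d ↔ comp d.1 a.1 = comp b.1 d.1 := by
  rw [← gperm_compD hd ha, ← gperm_compD hb hd]
  exact gperm_eq_iff_norm (tablesOK_compD hd ha) (tablesOK_compD hb hd) (comp_norm _ _)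
    (comp_norm _ _)

/-- The elements of `M24` with a property `P`, decided by a test `T` on tables, all of which are
candidates, are counted by filtering the candidates. -/
theorem enum_ncard (us : List (List ℕ × List ℕ))
    (hus : ∀ u ∈ us, tablesOK u.1 u.2 = true ∧ codeOK u.2 = true)
    (P : Equiv.Perm GolayPt → Prop) (T : List ℕ × List ℕ → Bool)
    (hcand : ∀ g ∈ M24, P g → ∃ d ∈ candsOf us, g = gperm d)
    (hT : ∀ d ∈ candsOf us, (T d = true ↔ P (gperm d)))
    (L : List (List ℕ)) (hfilter : ((candsOf us).filter T).map (fun d => d.1) = L)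
    (hnd : L.Nodup) :
    {g | g ∈ M24 ∧ P g} = ↑(((candsOf us).filter T).map gperm).toFinset ∧
      {g | g ∈ M24 ∧ P g}.ncard = L.length := by
  have hset : {g | g ∈ M24 ∧ P g} = ↑(((candsOf us).filter T).map gperm).toFinset := by
    ext g
    rw [Finset.mem_coe, List.mem_toFinset, List.mem_map]
    constructor
    · rintro ⟨hg, hP⟩
      obtain ⟨d, hd, rfl⟩ := hcand g hg hP
      exact ⟨d, List.mem_filter.mpr ⟨hd, (hT d hd).mpr hP⟩, rfl⟩
    · rintro ⟨d, hd, rfl⟩
      rw [List.mem_filter] at hd
      exact ⟨cand_mem_M24 hus hd.1, (hT d hd.1).mp hd.2⟩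
  refine ⟨hset, ?_⟩
  have hnd1 : (((candsOf us).filter T).map (fun d => d.1)).Nodup := by rw [hfilter]; exact hnd
  have hnd2 : (((candsOf us).filter T).map gperm).Nodup := by
    apply List.Nodup.map_on _ (List.Nodup.of_map _ hnd1)
    intro d hd d' hd' he
    rw [List.mem_filter] at hd hd'
    have h1 : d.1 = d'.1 := (gperm_eq_iff_norm (tablesOK_candsOf hus d hd.1)
      (tablesOK_candsOf hus d' hd'.1) (cand_norm hd.1) (cand_norm hd'.1)).mp he
    exact List.inj_on_of_nodup_map hnd1 (List.mem_filter.mpr hd) (List.mem_filter.mpr hd') h1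
  rw [hset, Set.ncard_coe_finset, List.toFinset_card_of_nodup hnd2, List.length_map, ← hfilter,
    List.length_map]

end Cfsg.Agent.helper2.Golay
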