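import Mathlib

/-!
Generic "Frobenius-type" semidirect product `(ZMod p)^d ⋊ Q` built from a finite table of matrices
closed under multiplication, with tools to bound / compute its element orders.
-/

set_option autoImplicit false

namespace Cfsg.Agent.helper2.Spec

open Matrix

section Ring
variable {R : Type*} [Ring R]

/-- geometric sum `1 + A + ... + A^(k-1)` in Horner form -/
def gs (A : R) : ℕ → R
  | 0 => 0
  | (k+1) => 1 + A * gs A k

/-- power by left multiplication -/
def pw (A : R) : ℕ → R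
  | 0 => 1
  | (k+1) => A * pw A k

theorem pw_eq (A : R) (k : ℕ) : pw A k = A ^ k := by
  induction k with
  | zero => simp [pw]
  | succ k ih => simp [pw, ih, pow_succ']

theorem gs_eq (A : R) (k : ℕ) : gs A k = ∑ i ∈ Finset.range k, A ^ i := by
  induction k with
  | zero => simp [gs]
  | succ k ih =>
    rw [gs, ih, Finset.sum_range_succ', Finset.mul_sum, pow_zero, add_comm]
    congr 1
    apply Finset.sum_congr rfl
    intro i _
    rw [pow_succ']

theorem pow_eq_one_of_gs {A : R} {k : ℕ} (h : gs A k = 0) : A ^ k = 1 := by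
  have h1 := mul_geom_sum A k
  rw [← gs_eq, h, mul_zero] at h1
  exact (sub_eq_zero.mp h1.symm)

end Ring

/-- table data: `n` matrices closed under multiplication -/
structure QData (p d n : ℕ) where
  M : Fin n → Matrix (Fin d) (Fin d) (ZMod p)
  mul : Fin n → Fin n → Fin n
  inv : Fin n → Fin n
  e : Fin n
  M_mul : ∀ a b, M (mul a b) = M a * M b
  M_inj : ∀ a b, M a = M b → a = b
  M_e : M e = 1
  inv_mul : ∀ a, mul (inv a) a = e

variable {p d n : ℕ}

/-- powers computed in the table -/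
def pwT (mul : Fin n → Fin n → Fin n) (e a : Fin n) : ℕ → Fin n
  | 0 => e
  | (k+1) => mul a (pwT mul e a k)

/-- entries of the sum of the matrices of the first `k` powers -/
def sE (M : Fin n → Matrix (Fin d) (Fin d) (ZMod p)) (mul : Fin n → Fin n → Fin n) (e a : Fin n) :
    ℕ → Fin d → Fin d → ZMod p
  | 0, _, _ => 0
  | (k+1), i, j => M (pwT mul e a k) i j + sE M mul e a k i j

namespace QData
variable (D : QData p d n)

theorem M_pwT (a : Fin n) (k : ℕ) : D.M (pwT D.mul D.e a k) = D.M a ^ k := by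
  induction k with
  | zero => simp [pwT, D.M_e]
  | succ k ih => rw [pwT, D.M_mul, ih, pow_succ']

theorem sE_eq (a : Fin n) (m : ℕ) (i j : Fin d) :
    sE D.M D.mul D.e a m i j = (∑ k ∈ Finset.range m, D.M a ^ k) i j := by
  induction m with
  | zero => simp [sE]
  | succ m ih =>
    rw [sE, ih, Finset.sum_range_succ, Matrix.add_apply, D.M_pwT, add_comm]

theorem gs_eq_zero_of_sE (a : Fin n) (m : ℕ) (h : ∀ i j, sE D.M D.mul D.e a m i j = 0) :
    gs (D.M a) m = 0 := by
  rw [gs_eq]
  ext i j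
  rw [← D.sE_eq, h, Matrix.zero_apply]

end QData

/-- the abstract group on the index set -/
structure QG (D : QData p d n) where
  k : Fin n
deriving DecidableEq

namespace QG
variable {D : QData p d n}

@[ext] theorem ext' {a b : QG D} (h : a.k = b.k) : a = b := by
  cases a; cases b; simp_all

instance : Mul (QG D) := ⟨fun a b => ⟨D.mul a.k b.k⟩⟩
instance : One (QG D) := ⟨⟨D.e⟩⟩
instance : Inv (QG D) := ⟨fun a => ⟨D.inv a.k⟩⟩

theorem mul_k (a b : QG D) : (a * b).k = D.mul a.k b.k := rfl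
theorem one_k : (1 : QG D).k = D.e := rfl
theorem inv_k (a : QG D) : (a⁻¹).k = D.inv a.k := rfl

instance : Group (QG D) where
  mul_assoc a b c := by
    apply ext'
    apply D.M_inj
    simp only [mul_k, D.M_mul, mul_assoc]
  one_mul a := by
    apply ext'
    apply D.M_inj
    simp only [mul_k, one_k, D.M_mul, D.M_e, one_mul]
  mul_one a := by
    apply ext'
    apply D.M_inj
    simp only [mul_k, one_k, D.M_mul, D.M_e, mul_one]
  inv_mul_cancel a := by
    apply ext'
    simp only [mul_k, inv_k, one_k, D.inv_mul]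

def equivFin (D : QData p d n) : QG D ≃ Fin n := ⟨QG.k, QG.mk, fun _ => rfl, fun _ => rfl⟩

instance : Fintype (QG D) := Fintype.ofEquiv _ (equivFin D).symm

theorem card_eq (D : QData p d n) : Nat.card (QG D) = n := by
  rw [Nat.card_congr (equivFin D), Nat.card_fin]

/-- the matrix representation -/
def rho (D : QData p d n) : QG D →* Matrix (Fin d) (Fin d) (ZMod p) where
  toFun a := D.M a.k
  map_one' := D.M_e
  map_mul' a b := D.M_mul a.k b.k

theorem rho_apply (a : QG D) : rho D a = D.M a.k := rfl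

theorem rho_injective (D : QData p d n) : Function.Injective (rho D) := by
  intro a b h
  exact ext' (D.M_inj _ _ h)

theorem orderOf_eq (a : QG D) : orderOf a = orderOf (D.M a.k) :=
  (orderOf_injective (rho D) (rho_injective D) a).symm

theorem pow_k (a : QG D) (k : ℕ) : (a ^ k).k = pwT D.mul D.e a.k k := by
  induction k with
  | zero => rfl
  | succ k ih => rw [pow_succ', mul_k, ih, pwT]

theorem orderOf_eq_of_table (a : QG D) (m : ℕ) (hm : 0 < m) (h1 : pwT D.mul D.e a.k m = D.e)
    (h2 : ∀ q : ℕ, q.Prime → q ∣ m → pwT D.mul D.e a.k (m / q) ≠ D.e) : orderOf a = m := by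
  apply orderOf_eq_of_pow_and_pow_div_prime hm
  · apply ext'
    rw [pow_k, h1, one_k]
  · intro q hq hqm h
    apply h2 q hq hqm
    rw [← pow_k, h, one_k]

end QG

/-- the semidirect product `(ZMod p)^d ⋊ Q` -/
structure HG (D : QData p d n) where
  v : Fin d → ZMod p
  q : QG D

namespace HG
variable {D : QData p d n}

@[ext] theorem ext' {a b : HG D} (h1 : a.v = b.v) (h2 : a.q = b.q) : a = b := by
  cases a; cases b; simp_all

instance : Mul (HG D) := ⟨fun a b => ⟨a.v + QG.rho D a.q *ᵥ b.v, a.q * b.q⟩⟩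
instance : One (HG D) := ⟨⟨0, 1⟩⟩
instance : Inv (HG D) := ⟨fun a => ⟨-(QG.rho D a.q⁻¹ *ᵥ a.v), a.q⁻¹⟩⟩

theorem mul_v (a b : HG D) : (a * b).v = a.v + QG.rho D a.q *ᵥ b.v := rfl
theorem mul_q (a b : HG D) : (a * b).q = a.q * b.q := rfl
theorem one_v : (1 : HG D).v = 0 := rfl
theorem one_q : (1 : HG D).q = 1 := rfl
theorem inv_v (a : HG D) : (a⁻¹).v = -(QG.rho D a.q⁻¹ *ᵥ a.v) := rfl
theorem inv_q (a : HG D) : (a⁻¹).q = a.q⁻¹ := rfl

instance : Group (HG D) where
  mul_assoc a b c := by
    apply ext'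
    · simp only [mul_v, mul_q, map_mul, Matrix.mulVec_add, Matrix.mulVec_mulVec, add_assoc]
    · simp only [mul_q, mul_assoc]
  one_mul a := by
    apply ext'
    · simp only [mul_v, one_v, one_q, map_one, Matrix.one_mulVec, zero_add]
    · simp only [mul_q, one_q, one_mul]
  mul_one a := by
    apply ext'
    · simp only [mul_v, one_v, Matrix.mulVec_zero, add_zero]
    · simp only [mul_q, one_q, mul_one]
  inv_mul_cancel a := by
    apply ext'
    · simp only [mul_v, inv_v, inv_q, one_v, neg_add_cancel]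
    · simp only [mul_q, inv_q, one_q, inv_mul_cancel]

def equivProd (D : QData p d n) : HG D ≃ (Fin d → ZMod p) × QG D :=
  ⟨fun a => (a.v, a.q), fun x => ⟨x.1, x.2⟩, fun _ => rfl, fun _ => rfl⟩

instance [NeZero p] : Fintype (HG D) := Fintype.ofEquiv _ (equivProd D).symm

/-- projection to `Q` -/
def proj (D : QData p d n) : HG D →* QG D where
  toFun a := a.q
  map_one' := rfl
  map_mul' _ _ := rfl

/-- inclusion of `Q` -/
def inr (D : QData p d n) : QG D →* HG D where
  toFun a := ⟨0, a⟩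
  map_one' := rfl
  map_mul' a b := by
    apply ext'
    · simp only [mul_v, Matrix.mulVec_zero, add_zero]
    · rfl

/-- inclusion of the vector space -/
def inl (D : QData p d n) : Multiplicative (Fin d → ZMod p) →* HG D where
  toFun v := ⟨Multiplicative.toAdd v, 1⟩
  map_one' := rfl
  map_mul' a b := by
    apply ext'
    · simp only [mul_v, map_one, Matrix.one_mulVec, toAdd_mul]
    · simp only [mul_q, mul_one]

theorem inr_injective (D : QData p d n) : Function.Injective (inr D) := by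
  intro a b h
  have := congrArg HG.q h
  exact this

theorem inl_injective (D : QData p d n) : Function.Injective (inl D) := by
  intro a b h
  have := congrArg HG.v h
  exact this

theorem pow_q (h : HG D) (k : ℕ) : (h ^ k).q = h.q ^ k := map_pow (proj D) h k

theorem pow_v (h : HG D) (k : ℕ) : (h ^ k).v = gs (QG.rho D h.q) k *ᵥ h.v := by
  induction k with
  | zero => simp [gs, one_v]
  | succ k ih =>
    rw [pow_succ', mul_v, ih, gs, Matrix.add_mulVec, Matrix.one_mulVec, ← Matrix.mulVec_mulVec]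

/-- an element whose `Q`-part has vanishing geometric sum has order dividing `m` -/
theorem pow_eq_one_of_gs {h : HG D} {m : ℕ} (hm : gs (D.M h.q.k) m = 0) : h ^ m = 1 := by
  apply ext'
  · rw [pow_v, QG.rho_apply, hm, Matrix.zero_mulVec, one_v]
  · rw [pow_q, one_q]
    apply QG.rho_injective D
    rw [map_pow, map_one, QG.rho_apply]
    exact Spec.pow_eq_one_of_gs hm

theorem pow_p_of_q_eq_one {h : HG D} (hq : h.q = 1) : h ^ p = 1 := by
  apply ext'
  · have key : ∀ k : ℕ, gs (QG.rho D h.q) k = (k : Matrix (Fin d) (Fin d) (ZMod p)) := by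
      intro k
      induction k with
      | zero => simp [gs]
      | succ k ih => rw [gs, ih, hq, map_one, one_mul, Nat.cast_succ, add_comm]
    rw [pow_v, key, one_v]
    have : ((p : ℕ) : Matrix (Fin d) (Fin d) (ZMod p)) = 0 := by
      ext i j
      rw [Matrix.natCast_apply]
      simp
    rw [this, Matrix.zero_mulVec]
  · rw [pow_q, hq, one_pow, one_q]

/-- spectrum bound -/
theorem orderOf_dvd (D : QData p d n) (m₁ m₂ : ℕ)
    (hfpf : ∀ a : Fin n, a = D.e ∨ gs (D.M a) m₁ = 0 ∨ gs (D.M a) m₂ = 0) (h : HG D) :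
    orderOf h ∣ m₁ ∨ orderOf h ∣ m₂ ∨ orderOf h ∣ p := by
  rcases hfpf h.q.k with h1 | h1 | h1
  · right; right
    apply orderOf_dvd_of_pow_eq_one
    apply pow_p_of_q_eq_one
    exact QG.ext' h1
  · left
    exact orderOf_dvd_of_pow_eq_one (pow_eq_one_of_gs h1)
  · right; left
    exact orderOf_dvd_of_pow_eq_one (pow_eq_one_of_gs h1)

theorem orderOf_dvd' (D : QData p d n) (m₁ m₂ : ℕ)
    (hfpf : ∀ a : Fin n, a = D.e ∨ (∀ i j, sE D.M D.mul D.e a m₁ i j = 0) ∨
      (∀ i j, sE D.M D.mul D.e a m₂ i j = 0)) (h : HG D) :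
    orderOf h ∣ m₁ ∨ orderOf h ∣ m₂ ∨ orderOf h ∣ p := by
  apply orderOf_dvd D m₁ m₂ _ h
  intro a
  rcases hfpf a with h1 | h1 | h1
  · exact Or.inl h1
  · exact Or.inr (Or.inl (D.gs_eq_zero_of_sE a m₁ h1))
  · exact Or.inr (Or.inr (D.gs_eq_zero_of_sE a m₂ h1))

theorem orderOf_inr_of_table (D : QData p d n) (a : Fin n) (m : ℕ) (hm : 0 < m)
    (h1 : pwT D.mul D.e a m = D.e)
    (h2 : ∀ q : ℕ, q.Prime → q ∣ m → pwT D.mul D.e a (m / q) ≠ D.e) :
    orderOf (inr D ⟨a⟩) = m := by
  rw [orderOf_injective (inr D) (inr_injective D)]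
  exact QG.orderOf_eq_of_table ⟨a⟩ m hm h1 h2

theorem orderOf_inr (D : QData p d n) (a : QG D) : orderOf (inr D a) = orderOf (D.M a.k) := by
  rw [orderOf_injective (inr D) (inr_injective D) a, QG.orderOf_eq]

theorem orderOf_inl (D : QData p d n) [Fact p.Prime] (v : Fin d → ZMod p) (hv : v ≠ 0) :
    orderOf (⟨v, 1⟩ : HG D) = p := by
  apply orderOf_eq_prime
  · exact pow_p_of_q_eq_one rfl
  · intro h
    exact hv (congrArg HG.v h)

theorem isSolvable (D : QData p d n) [hQ : Group.IsSolvable (QG D)] : Group.IsSolvable (HG D) := by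
  apply Group.isSolvable_of_ker_le_range (inl D) (proj D)
  intro h hh
  rw [MonoidHom.mem_ker] at hh
  refine ⟨Multiplicative.ofAdd h.v, ?_⟩
  apply ext'
  · rfl
  · exact hh.symm

end HG

/-! ### small arithmetic facts -/

theorem mem_of_dvd_6 {k : ℕ} (h : k ∣ 6) : k ∈ ({1,2,3,4,6,8,13} : Set ℕ) := by
  have := Nat.le_of_dvd (by norm_num) h
  interval_cases k <;> simp_all (config := {decide := true})

theorem mem_of_dvd_8 {k : ℕ} (h : k ∣ 8) : k ∈ ({1,2,3,4,6,8,13} : Set ℕ) := by
  have := Nat.le_of_dvd (by norm_num) h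
  interval_cases k <;> simp_all (config := {decide := true})

theorem mem_of_dvd_13 {k : ℕ} (h : k ∣ 13) : k ∈ ({1,2,3,4,6,8,13} : Set ℕ) := by
  rcases (Nat.dvd_prime (by norm_num : Nat.Prime 13)).mp h with rfl | rfl <;> simp

theorem prime_dvd_8 {q : ℕ} (hq : q.Prime) (h : q ∣ 8) : q = 2 := by
  have h8 : (8 : ℕ) = 2 ^ 3 := by norm_num
  rw [h8] at h
  exact (Nat.prime_dvd_prime_iff_eq hq Nat.prime_two).mp (hq.dvd_of_dvd_pow h)

theorem prime_dvd_4 {q : ℕ} (hq : q.Prime) (h : q ∣ 4) : q = 2 := by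
  have h4 : (4 : ℕ) = 2 ^ 2 := by norm_num
  rw [h4] at h
  exact (Nat.prime_dvd_prime_iff_eq hq Nat.prime_two).mp (hq.dvd_of_dvd_pow h)

theorem prime_dvd_6 {q : ℕ} (hq : q.Prime) (h : q ∣ 6) : q = 2 ∨ q = 3 := by
  have h6 : (6 : ℕ) = 2 * 3 := by norm_num
  rw [h6] at h
  rcases (Nat.Prime.dvd_mul hq).mp h with h | h
  · exact Or.inl ((Nat.prime_dvd_prime_iff_eq hq Nat.prime_two).mp h)
  · exact Or.inr ((Nat.prime_dvd_prime_iff_eq hq Nat.prime_three).mp h)

end Cfsg.Agent.helper2.Spec
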