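import Cfsg.Agent.Lib_helper2_Frob2
import Cfsg.Agent.S0144

/-! The Frobenius group `13^4 : 2O` is solvable with element orders `{1,2,3,4,6,8,13}`. -/

set_option autoImplicit false

namespace Cfsg.Agent.helper2.Spec

instance fact_prime_13 : Fact (Nat.Prime 13) := ⟨by norm_num⟩

theorem solvable_Q48 : Group.IsSolvable (QG D48) :=
  Cfsg.Agent.S0144.result 2 3 4 1 Nat.prime_two Nat.prime_three
    (by rw [QG.card_eq]; norm_num)

theorem solvable_H48 : Group.IsSolvable (HG D48) := by
  haveI := solvable_Q48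
  exact HG.isSolvable D48

theorem spec_H48 : Set.range (orderOf : HG D48 → ℕ) = {1,2,3,4,6,8,13} := by
  ext m
  constructor
  · rintro ⟨h, rfl⟩
    rcases HG.orderOf_dvd' D48 6 8 q48_fpf h with h1 | h1 | h1
    · exact mem_of_dvd_6 h1
    · exact mem_of_dvd_8 h1
    · exact mem_of_dvd_13 h1
  · intro hm
    simp only [Set.mem_insert_iff, Set.mem_singleton_iff] at hm
    rcases hm with rfl | rfl | rfl | rfl | rfl | rfl | rfl
    · exact ⟨1, orderOf_one⟩
    · refine ⟨HG.inr D48 ⟨12⟩, HG.orderOf_inr_of_table D48 12 2 (by norm_num) q48_ord2.1 ?_⟩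
      intro q hq hq2
      have : q = 2 := (Nat.prime_dvd_prime_iff_eq hq Nat.prime_two).mp hq2
      subst this
      exact q48_ord2.2
    · refine ⟨HG.inr D48 ⟨6⟩, HG.orderOf_inr_of_table D48 6 3 (by norm_num) q48_ord3.1 ?_⟩
      intro q hq hq2
      have : q = 3 := (Nat.prime_dvd_prime_iff_eq hq Nat.prime_three).mp hq2
      subst this
      exact q48_ord3.2
    · refine ⟨HG.inr D48 ⟨3⟩, HG.orderOf_inr_of_table D48 3 4 (by norm_num) q48_ord4.1 ?_⟩
      intro q hq hq2
      have : q = 2 := prime_dvd_4 hq hq2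
      subst this
      exact q48_ord4.2
    · refine ⟨HG.inr D48 ⟨2⟩, HG.orderOf_inr_of_table D48 2 6 (by norm_num) q48_ord6.1 ?_⟩
      intro q hq hq2
      rcases prime_dvd_6 hq hq2 with rfl | rfl
      · exact q48_ord6.2.1
      · exact q48_ord6.2.2
    · refine ⟨HG.inr D48 ⟨1⟩, HG.orderOf_inr_of_table D48 1 8 (by norm_num) q48_ord8.1 ?_⟩
      intro q hq hq2
      have : q = 2 := prime_dvd_8 hq hq2
      subst this
      exact q48_ord8.2
    · refine ⟨⟨fun _ => 1, 1⟩, HG.orderOf_inl D48 (fun _ => 1) ?_⟩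
      intro h
      have := congrFun h 0
      simp at this

end Cfsg.Agent.helper2.Spec
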