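import Cfsg.Agent.Lib_helper2_Frob1

/-! Tables for the group `Z3 : Z8` of order 24 acting fixed-point-freely on `(ZMod 7)^4`. -/

set_option autoImplicit false
set_option maxRecDepth 100000

namespace Cfsg.Agent.helper2.Spec

open Matrix

/-- the 24 matrices, each coded in base 7 -/
def q24Code : List ℕ := [4747844002000,2718824276462,96895481445,23739219976384,55487856809,27887636805,4071315778250,484474347665,581368770955,18991375974384,290684562637,9495688037616,83093018365,41689393991,1366332789038,69289613995,690087035750,387579689763,193789904735,28487064012000,14243532039616,14084232435,2042578537538,3395070024962]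

/-- rows of the multiplication table, coded in base 24 -/
def q24MulCode : List ℕ := [1331214537196502869015340298036888,26531738798523122421182332452169,757202555394195292342435288406522,94069650891334346582593617671763,1005079833631945222963107880320772,151913868856640986388431746085301,213227010046814034661287929061342,1176641764876489976491500745149631,235772684500953170321000376888176,387092102831367293977406290590105,328427988286358721202317141507946,1237043610121977064600857388036619,572534471154148192765658391803004,409738046740065012529093915319101,500854280913646180514996921315606,469969817168928797012964820964967,632996504784103628429204570909488,862273337332510287893493208460681,698072261692798720175842429465650,781522038484393261819919004251683,922874395585213039007372681545916,988014803241002949677076693327549,1064517388140855227711039478013534,1157244631532642094884854524540887]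

/-- inverse table, coded in base 24 -/
def q24InvCode : ℕ := 88197751107405179493151028902248

def q24E (a : Fin 24) (i j : Fin 4) : ZMod 7 :=
  ((q24Code.getD a.val 0 / 7 ^ (4 * i.val + j.val) % 7 : ℕ) : ZMod 7)

def q24M (a : Fin 24) : Matrix (Fin 4) (Fin 4) (ZMod 7) := Matrix.of (q24E a)

def q24mul (a b : Fin 24) : Fin 24 :=
  ⟨q24MulCode.getD a.val 0 / 24 ^ b.val % 24, Nat.mod_lt _ (by norm_num)⟩

def q24inv (a : Fin 24) : Fin 24 := ⟨q24InvCode / 24 ^ a.val % 24, Nat.mod_lt _ (by norm_num)⟩

/-- explicit 4x4 product on entry functions -/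
def mm4' (A B : Fin 4 → Fin 4 → ZMod 7) (i j : Fin 4) : ZMod 7 :=
  A i 0 * B 0 j + A i 1 * B 1 j + A i 2 * B 2 j + A i 3 * B 3 j

theorem mul_eq_mm4' (A B : Matrix (Fin 4) (Fin 4) (ZMod 7)) (i j : Fin 4) :
    (A * B) i j = mm4' A B i j := by
  simp [Matrix.mul_apply, Fin.sum_univ_four, mm4']

theorem q24_one : ∀ i j : Fin 4, q24E 0 i j = if i = j then 1 else 0 := by
  decide +kernel

theorem q24_inv_mul : ∀ a : Fin 24, q24mul (q24inv a) a = 0 := by
  decide +kernel

theorem q24_mul_ent : ∀ a b : Fin 24, ∀ i j : Fin 4,
    q24E (q24mul a b) i j = mm4' (q24E a) (q24E b) i j := by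
  decide +kernel

theorem q24_inj : ∀ a b : Fin 24, (∀ i j : Fin 4, q24E a i j = q24E b i j) → a = b := by
  decide +kernel

/-- the table data of `Z3 : Z8` -/
def D24 : QData 7 4 24 where
  M := q24M
  mul := q24mul
  inv := q24inv
  e := 0
  M_mul a b := by
    ext i j
    rw [mul_eq_mm4']
    exact q24_mul_ent a b i j
  M_inj a b h := by
    apply q24_inj
    intro i j
    exact congrFun (congrFun h i) j
  M_e := by
    ext i j
    rw [Matrix.one_apply]
    exact q24_one i j
  inv_mul := q24_inv_mul

theorem q24_fpf : ∀ a : Fin 24, a = 0 ∨ (∀ i j, sE q24M q24mul 0 a 8 i j = 0) ∨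
    (∀ i j, sE q24M q24mul 0 a 12 i j = 0) := by
  decide +kernel

theorem q24_ord12 : pwT q24mul 0 1 12 = 0 ∧ pwT q24mul 0 1 6 ≠ 0 ∧ pwT q24mul 0 1 4 ≠ 0 := by
  decide +kernel
theorem q24_ord8 : pwT q24mul 0 2 8 = 0 ∧ pwT q24mul 0 2 4 ≠ 0 := by decide +kernel
theorem q24_ord6 : pwT q24mul 0 3 6 = 0 ∧ pwT q24mul 0 3 3 ≠ 0 ∧ pwT q24mul 0 3 2 ≠ 0 := by
  decide +kernel
theorem q24_ord4 : pwT q24mul 0 6 4 = 0 ∧ pwT q24mul 0 6 2 ≠ 0 := by decide +kernel
theorem q24_ord3 : pwT q24mul 0 9 3 = 0 ∧ pwT q24mul 0 9 1 ≠ 0 := by decide +kernel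
theorem q24_ord2 : pwT q24mul 0 19 2 = 0 ∧ pwT q24mul 0 19 1 ≠ 0 := by decide +kernel

end Cfsg.Agent.helper2.Spec
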