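import Cfsg.Agent.Lib_helper2_Frob4
import Cfsg.Agent.S0144

/-! The Frobenius group `7^4 : (Z3 : Z8)` is solvable with element orders `{1,2,3,4,6,7,8,12}`. -/

set_option autoImplicit false

namespace Cfsg.Agent.helper2.Spec

instance fact_prime_7 : Fact (Nat.Prime 7) := ⟨by norm_num⟩

theorem solvable_Q24 : Group.IsSolvable (QG D24) :=
  Cfsg.Agent.S0144.result 2 3 3 1 Nat.prime_two Nat.prime_three
    (by rw [QG.card_eq]; norm_num)

theorem solvable_H24 : Group.IsSolvable (HG D24) := by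
  have := solvable_Q24
  exact HG.isSolvable D24

theorem mem'_of_dvd_12 {k : ℕ} (h : k ∣ 12) : k ∈ ({1,2,3,4,6,7,8,12} : Set ℕ) := by
  have := Nat.le_of_dvd (by norm_num) h
  interval_cases k <;> simp_all (config := {decide := true})

theorem mem'_of_dvd_8 {k : ℕ} (h : k ∣ 8) : k ∈ ({1,2,3,4,6,7,8,12} : Set ℕ) := by
  have := Nat.le_of_dvd (by norm_num) h
  interval_cases k <;> simp_all (config := {decide := true})

theorem mem'_of_dvd_7 {k : ℕ} (h : k ∣ 7) : k ∈ ({1,2,3,4,6,7,8,12} : Set ℕ) := by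
  rcases (Nat.dvd_prime (by norm_num : Nat.Prime 7)).mp h with rfl | rfl <;> simp

theorem prime_dvd_12 {q : ℕ} (hq : q.Prime) (h : q ∣ 12) : q = 2 ∨ q = 3 := by
  have h12 : (12 : ℕ) = 2 ^ 2 * 3 := by norm_num
  rw [h12] at h
  rcases (Nat.Prime.dvd_mul hq).mp h with h | h
  · exact Or.inl ((Nat.prime_dvd_prime_iff_eq hq Nat.prime_two).mp (hq.dvd_of_dvd_pow h))
  · exact Or.inr ((Nat.prime_dvd_prime_iff_eq hq Nat.prime_three).mp h)

theorem spec_H24 : Set.range (orderOf : HG D24 → ℕ) = {1,2,3,4,6,7,8,12} := by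
  ext m
  constructor
  · rintro ⟨h, rfl⟩
    rcases HG.orderOf_dvd' D24 8 12 q24_fpf h with h1 | h1 | h1
    · exact mem'_of_dvd_8 h1
    · exact mem'_of_dvd_12 h1
    · exact mem'_of_dvd_7 h1
  · intro hm
    simp only [Set.mem_insert_iff, Set.mem_singleton_iff] at hm
    rcases hm with rfl | rfl | rfl | rfl | rfl | rfl | rfl | rfl
    · exact ⟨1, orderOf_one⟩
    · refine ⟨HG.inr D24 ⟨19⟩, HG.orderOf_inr_of_table D24 19 2 (by norm_num) q24_ord2.1 ?_⟩
      intro q hq hq2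
      have : q = 2 := (Nat.prime_dvd_prime_iff_eq hq Nat.prime_two).mp hq2
      subst this
      exact q24_ord2.2
    · refine ⟨HG.inr D24 ⟨9⟩, HG.orderOf_inr_of_table D24 9 3 (by norm_num) q24_ord3.1 ?_⟩
      intro q hq hq2
      have : q = 3 := (Nat.prime_dvd_prime_iff_eq hq Nat.prime_three).mp hq2
      subst this
      exact q24_ord3.2
    · refine ⟨HG.inr D24 ⟨6⟩, HG.orderOf_inr_of_table D24 6 4 (by norm_num) q24_ord4.1 ?_⟩
      intro q hq hq2
      have : q = 2 := prime_dvd_4 hq hq2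
      subst this
      exact q24_ord4.2
    · refine ⟨HG.inr D24 ⟨3⟩, HG.orderOf_inr_of_table D24 3 6 (by norm_num) q24_ord6.1 ?_⟩
      intro q hq hq2
      rcases prime_dvd_6 hq hq2 with rfl | rfl
      · exact q24_ord6.2.1
      · exact q24_ord6.2.2
    · refine ⟨⟨fun _ => 1, 1⟩, HG.orderOf_inl D24 (fun _ => 1) ?_⟩
      intro h
      have := congrFun h 0
      simp at this
    · refine ⟨HG.inr D24 ⟨2⟩, HG.orderOf_inr_of_table D24 2 8 (by norm_num) q24_ord8.1 ?_⟩
      intro q hq hq2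
      have : q = 2 := prime_dvd_8 hq hq2
      subst this
      exact q24_ord8.2
    · refine ⟨HG.inr D24 ⟨1⟩, HG.orderOf_inr_of_table D24 1 12 (by norm_num) q24_ord12.1 ?_⟩
      intro q hq hq2
      rcases prime_dvd_12 hq hq2 with rfl | rfl
      · exact q24_ord12.2.1
      · exact q24_ord12.2.2

end Cfsg.Agent.helper2.Spec
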