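import Mathlib

set_option autoImplicit false
set_option linter.unusedSectionVars false
set_option linter.unusedVariables false

namespace Cfsg.Agent.helper2.H1

variable {ι : Type} [Fintype ι] [DecidableEq ι]

/-- a quadratic space over the field of two elements, unbundled -/
structure Setup (ι : Type) [Fintype ι] [DecidableEq ι] where
  B : (ι → ZMod 2) → (ι → ZMod 2) → ZMod 2
  Qf : (ι → ZMod 2) → ZMod 2
  B_add_left : ∀ x y z, B (x + y) z = B x z + B y z
  B_comm : ∀ x y, B x y = B y x
  B_self : ∀ x, B x x = 0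
  Q_add : ∀ x y, Qf (x + y) = Qf x + Qf y + B x y

namespace Setup

variable (S : Setup ι)

theorem z2_cases (c : ZMod 2) : c = 0 ∨ c = 1 := by
  fin_cases c
  · left; rfl
  · right; rfl

theorem z2_add_self (c : ZMod 2) : c + c = 0 := by
  rcases z2_cases c with h | h <;> rw [h] <;> decide

theorem v_add_self (x : ι → ZMod 2) : x + x = 0 := by
  funext i; exact z2_add_self _

theorem B_zero_left (z : ι → ZMod 2) : S.B 0 z = 0 := by
  have h := S.B_add_left 0 0 z
  rw [add_zero] at h
  have h2 : S.B 0 z + S.B 0 z = 0 := z2_add_self _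
  rw [← h] at h2
  exact h2

theorem B_add_right (x y z : ι → ZMod 2) : S.B x (y + z) = S.B x y + S.B x z := by
  rw [S.B_comm, S.B_add_left, S.B_comm y, S.B_comm z]

theorem B_zero_right (z : ι → ZMod 2) : S.B z 0 = 0 := by rw [S.B_comm, S.B_zero_left]

theorem B_smul_left (c : ZMod 2) (x z : ι → ZMod 2) : S.B (c • x) z = c * S.B x z := by
  rcases z2_cases c with h | h <;> rw [h]
  · rw [zero_smul, zero_mul, S.B_zero_left]
  · rw [one_smul, one_mul]

theorem B_smul_right (c : ZMod 2) (x z : ι → ZMod 2) : S.B x (c • z) = c * S.B x z := by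
  rw [S.B_comm, S.B_smul_left, S.B_comm]

/-- the reflection (orthogonal transvection) -/
def rho (a x : ι → ZMod 2) : ι → ZMod 2 := x + S.B x a • a

theorem rho_add (a x y : ι → ZMod 2) : S.rho a (x + y) = S.rho a x + S.rho a y := by
  unfold rho
  rw [S.B_add_left, add_smul]
  abel

theorem rho_rho (a x : ι → ZMod 2) : S.rho a (S.rho a x) = x := by
  unfold rho
  rw [S.B_add_left, S.B_smul_left, S.B_self, mul_zero, add_zero, add_assoc, ← add_smul,
    z2_add_self, zero_smul, add_zero]

theorem rho_self (a : ι → ZMod 2) : S.rho a a = a := by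
  unfold rho
  rw [S.B_self, zero_smul, add_zero]

theorem rho_smul (a : ι → ZMod 2) (c : ZMod 2) (x : ι → ZMod 2) : S.rho a (c • x) = c • S.rho a x := by
  unfold rho
  rw [S.B_smul_left, smul_add, smul_smul]

theorem rho_zero (a : ι → ZMod 2) : S.rho a 0 = 0 := by
  unfold rho
  rw [S.B_zero_left, zero_smul, add_zero]

theorem Q_zero : S.Qf 0 = 0 := by
  have h := S.Q_add 0 0
  rw [add_zero, S.B_self, add_zero] at h
  have h2 : S.Qf 0 + S.Qf 0 = 0 := z2_add_self _
  rw [← h] at h2
  exact h2

theorem ne_zero_of_Q {a : ι → ZMod 2} (ha : S.Qf a = 1) : a ≠ 0 := by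
  intro h
  rw [h, S.Q_zero] at ha
  exact absurd ha (by decide)

theorem Q_add_of (a b : ι → ZMod 2) (ha : S.Qf a = 1) (hb : S.Qf b = 1) (hab : S.B a b = 1) :
    S.Qf (a + b) = 1 := by
  rw [S.Q_add, ha, hb, hab]; decide

theorem rho_rho' (a b x : ι → ZMod 2) :
    S.rho a (S.rho b x) = x + S.B x b • b + (S.B x a + S.B x b * S.B b a) • a := by
  unfold rho
  rw [S.B_add_left, S.B_smul_left]

/-- pointwise identities over the field of two elements are decided by brute force -/
theorem comm_aux : ∀ (x a b p q : ZMod 2), x + q * b + (p + q * 0) * a = x + p * a + (q + p * 0) * b := by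
  decide

theorem rho_comm (a b x : ι → ZMod 2) (hab : S.B a b = 0) :
    S.rho a (S.rho b x) = S.rho b (S.rho a x) := by
  have hba : S.B b a = 0 := by rw [S.B_comm]; exact hab
  rw [rho_rho', rho_rho', hab, hba]
  funext i
  simp only [Pi.add_apply, Pi.smul_apply, smul_eq_mul]
  exact comm_aux _ _ _ _ _

theorem braid1_aux : ∀ (x a b p q : ZMod 2),
    x + q * b + (p + q * 1) * a = x + (p + q) * (a + b) + (q + (p + q) * 1) * b := by decide

theorem rho_braid1 (a b x : ι → ZMod 2) (hab : S.B a b = 1) :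
    S.rho a (S.rho b x) = S.rho b (S.rho (a + b) x) := by
  have hba : S.B b a = 1 := by rw [S.B_comm]; exact hab
  have h1 : S.B (a + b) b = 1 := by rw [S.B_add_left, hab, S.B_self]; decide
  rw [rho_rho', rho_rho', hba, h1, S.B_add_right]
  funext i
  simp only [Pi.add_apply, Pi.smul_apply, smul_eq_mul]
  exact braid1_aux _ _ _ _ _

theorem braid2_aux : ∀ (x a b p q : ZMod 2),
    x + q * b + (p + q * 1) * a = x + p * a + ((p + q) + p * 1) * (a + b) := by decide

theorem rho_braid2 (a b x : ι → ZMod 2) (hab : S.B a b = 1) :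
    S.rho a (S.rho b x) = S.rho (a + b) (S.rho a x) := by
  have hba : S.B b a = 1 := by rw [S.B_comm]; exact hab
  have h1 : S.B a (a + b) = 1 := by rw [S.B_add_right, hab, S.B_self]; decide
  rw [rho_rho', rho_rho', hba, h1, S.B_add_right]
  funext i
  simp only [Pi.add_apply, Pi.smul_apply, smul_eq_mul]
  exact braid2_aux _ _ _ _ _

theorem char2_cancel {X Y Z : ι → ZMod 2} (h : X = Y + Z) : Z = Y + X := by
  rw [h, ← add_assoc, v_add_self, zero_add]

/-- a model of the even reflection group acting on the space -/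
structure Model (Ω : Type*) [Group Ω] where
  act : Ω → (ι → ZMod 2) → (ι → ZMod 2)
  act_add : ∀ g x y, act g (x + y) = act g x + act g y
  act_mul : ∀ g h x, act (g * h) x = act g (act h x)
  act_one : ∀ x, act 1 x = x
  faithful : ∀ g h : Ω, (∀ x, act g x = act h x) → g = h
  P : (ι → ZMod 2) → (ι → ZMod 2) → Ω
  act_P : ∀ a b, S.Qf a = 1 → S.Qf b = 1 → ∀ x, act (P a b) x = S.rho a (S.rho b x)
  gen : ∀ g : Ω, ∃ l : List ((ι → ZMod 2) × (ι → ZMod 2)),
    (∀ p ∈ l, S.Qf p.1 = 1 ∧ S.Qf p.2 = 1) ∧ g = (l.map (fun p => P p.1 p.2)).prod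

end Setup

end Cfsg.Agent.helper2.H1
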