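import Mathlib
import Cfsg.Agent.Lib_helper2_H1a

set_option autoImplicit false
set_option linter.unusedSectionVars false
set_option linter.unusedVariables false

namespace Cfsg.Agent.helper2.H1

open Setup

variable {ι : Type} [Fintype ι] [DecidableEq ι] (S : Setup ι) {Ω : Type*} [Group Ω] (M : S.Model Ω)

namespace Setup.Model

theorem P_mul {a b c : ι → ZMod 2} (ha : S.Qf a = 1) (hb : S.Qf b = 1) (hc : S.Qf c = 1) :
    M.P a b * M.P b c = M.P a c := by
  apply M.faithful; intro x
  rw [M.act_mul, M.act_P a b ha hb, M.act_P b c hb hc, M.act_P a c ha hc, S.rho_rho]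

theorem P_self {a : ι → ZMod 2} (ha : S.Qf a = 1) : M.P a a = 1 := by
  apply M.faithful; intro x
  rw [M.act_P a a ha ha, S.rho_rho, M.act_one]

theorem P_comm {a b : ι → ZMod 2} (ha : S.Qf a = 1) (hb : S.Qf b = 1) (hab : S.B a b = 0) :
    M.P a b = M.P b a := by
  apply M.faithful; intro x
  rw [M.act_P a b ha hb, M.act_P b a hb ha, S.rho_comm a b x hab]

theorem P_braid1 {a b : ι → ZMod 2} (ha : S.Qf a = 1) (hb : S.Qf b = 1) (hab : S.B a b = 1) :
    M.P a b = M.P b (a + b) := by
  apply M.faithful; intro x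
  rw [M.act_P a b ha hb, M.act_P b (a + b) hb (S.Q_add_of a b ha hb hab), S.rho_braid1 a b x hab]

theorem P_braid2 {a b : ι → ZMod 2} (ha : S.Qf a = 1) (hb : S.Qf b = 1) (hab : S.B a b = 1) :
    M.P a b = M.P (a + b) a := by
  apply M.faithful; intro x
  rw [M.act_P a b ha hb, M.act_P (a + b) a (S.Q_add_of a b ha hb hab) ha, S.rho_braid2 a b x hab]

theorem act_zero (g : Ω) : M.act g 0 = 0 := by
  have h := M.act_add g 0 0
  rw [add_zero] at h
  have h2 := Setup.v_add_self (M.act g 0)
  rw [← h] at h2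
  exact h2

variable (f : Ω → (ι → ZMod 2)) (hf : ∀ g h, f (g * h) = f g + M.act g (f h))
include hf

theorem f_one : f 1 = 0 := by
  have h := hf 1 1
  rw [mul_one, M.act_one] at h
  have h2 := Setup.v_add_self (f 1)
  rw [← h] at h2
  exact h2

/-- the normalised values on the pairs through the base vector -/
def cc (f : Ω → (ι → ZMod 2)) (e x : ι → ZMod 2) : ι → ZMod 2 := S.rho e (f (M.P e x))

theorem cc_base {e : ι → ZMod 2} (he : S.Qf e = 1) : M.cc S f e e = 0 := by
  unfold cc
  rw [M.P_self S he, M.f_one S f hf, S.rho_zero]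

theorem key {e a b : ι → ZMod 2} (he : S.Qf e = 1) (ha : S.Qf a = 1) (hb : S.Qf b = 1) :
    f (M.P a b) = S.rho a (M.cc S f e a + M.cc S f e b) := by
  have h := hf (M.P e a) (M.P a b)
  rw [M.P_mul S he ha hb, M.act_P e a he ha] at h
  have h1 : S.rho e (S.rho a (f (M.P a b))) = f (M.P e a) + f (M.P e b) := Setup.char2_cancel h
  have h2 : S.rho a (f (M.P a b)) = M.cc S f e a + M.cc S f e b := by
    unfold cc
    rw [← S.rho_add, ← h1, S.rho_rho]
  rw [← h2, S.rho_rho]

theorem rel2 {e a b : ι → ZMod 2} (he : S.Qf e = 1) (ha : S.Qf a = 1) (hb : S.Qf b = 1)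
    (hab : S.B a b = 0) :
    S.rho a (M.cc S f e a + M.cc S f e b) = S.rho b (M.cc S f e b + M.cc S f e a) := by
  rw [← M.key S f hf he ha hb, ← M.key S f hf he hb ha, M.P_comm S ha hb hab]

theorem rel3 {e a b : ι → ZMod 2} (he : S.Qf e = 1) (ha : S.Qf a = 1) (hb : S.Qf b = 1)
    (hab : S.B a b = 1) :
    S.rho a (M.cc S f e a + M.cc S f e b) = S.rho b (M.cc S f e b + M.cc S f e (a + b)) ∧
    S.rho a (M.cc S f e a + M.cc S f e b) = S.rho (a + b) (M.cc S f e (a + b) + M.cc S f e a) := by
  have hd := S.Q_add_of a b ha hb hab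
  constructor
  · rw [← M.key S f hf he ha hb, ← M.key S f hf he hb hd, M.P_braid1 S ha hb hab]
  · rw [← M.key S f hf he ha hb, ← M.key S f hf he hd ha, M.P_braid2 S ha hb hab]

end Setup.Model

theorem triple_aux1 : ∀ (A B' CA CB CD p q r : ZMod 2),
    CA + CB + p * A = CB + CD + q * B' → CA + CB + p * A = CD + CA + r * (A + B') →
    CA + CB = r * A + (q + r) * B' := by decide

theorem triple_aux2 : ∀ (A B' CA CB CD p q r : ZMod 2),
    CA + CB + p * A = CB + CD + q * B' → CA + CB + p * A = CD + CA + r * (A + B') →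
    p = q + r → CB + CD = (r + p) * A + r * B' := by decide

theorem triple (a b ca cb cd : ι → ZMod 2) (hab : S.B a b = 1)
    (h1 : S.rho a (ca + cb) = S.rho b (cb + cd))
    (h2 : S.rho a (ca + cb) = S.rho (a + b) (cd + ca)) :
    ∃ α β : ZMod 2, ca + cb = α • a + β • b ∧ cb + cd = (α + β) • a + α • b := by
  unfold Setup.rho at h1 h2
  set p := S.B (ca + cb) a with hp
  set q := S.B (cb + cd) b with hq
  set r := S.B (cd + ca) (a + b) with hr
  have hu : ca + cb = r • a + (q + r) • b := by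
    funext i
    have e1 := congrFun h1 i
    have e2 := congrFun h2 i
    simp only [Pi.add_apply, Pi.smul_apply, smul_eq_mul] at e1 e2 ⊢
    exact triple_aux1 _ _ _ _ _ _ _ _ e1 e2
  have hpq : p = q + r := by
    rw [hp, hu, S.B_add_left, S.B_smul_left, S.B_smul_left, S.B_self, S.B_comm b a, hab]
    ring
  refine ⟨r, p, ?_, ?_⟩
  · rw [hu, hpq]
  · funext i
    have e1 := congrFun h1 i
    have e2 := congrFun h2 i
    simp only [Pi.add_apply, Pi.smul_apply, smul_eq_mul] at e1 e2 ⊢
    exact triple_aux2 _ _ _ _ _ _ _ _ e1 e2 hpq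

theorem z2_eq_of_add {x y : ZMod 2} (h : x + y = 0) : x = y := by
  revert x y; decide

theorem z2_ne_add {x y : ZMod 2} (h : x ≠ y) : x + y = 1 := by
  revert x y; decide

theorem smul_cases (x y : ZMod 2) (a b : ι → ZMod 2) :
    x • a + y • b = 0 ∨ x • a + y • b = a ∨ x • a + y • b = b ∨ x • a + y • b = a + b := by
  rcases Setup.z2_cases x with hx | hx <;> rcases Setup.z2_cases y with hy | hy <;> rw [hx, hy]
  · left; simp
  · right; right; left; simp
  · right; left; simp
  · right; right; right; simp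

end Cfsg.Agent.helper2.H1
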