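import Mathlib
import Cfsg.Agent.Lib_helper2_H1a
import Cfsg.Agent.Lib_helper2_H1b

set_option autoImplicit false
set_option linter.unusedSectionVars false
set_option linter.unusedVariables false

namespace Cfsg.Agent.helper2.H1

open Setup

variable {ι : Type} [Fintype ι] [DecidableEq ι] (S : Setup ι) {Ω : Type*} [Group Ω] (M : S.Model Ω)

theorem s2_aux : ∀ (E A B' μ μ' l l' α β : ZMod 2),
    (μ * E + l * A) + (μ' * E + l' * B') = α * A + β * B' → μ + μ' = 1 →
    E = (α + l) * A + (β + l') * B' := by decide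

theorem cocyc_aux : ∀ (a b c d e' : ZMod 2), a + b + (c + d) = a + (e' + d) + (b + (c + e')) := by
  decide

theorem cc_aux : ∀ (v p x q e : ZMod 2), v + p * x + (v + q * e) = p * x + q * e := by decide

theorem zA_aux : ∀ (μ e l a : ZMod 2), μ * e + l * a + (l * a + μ * e) = 0 := by decide

theorem z2_neg : ∀ c : ZMod 2, -c = c := by decide

theorem v_neg (x : ι → ZMod 2) : -x = x := by
  funext i
  exact z2_neg _

namespace Setup

def Bhom (z : ι → ZMod 2) : (ι → ZMod 2) →+ ZMod 2 where
  toFun := fun x => S.B x z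
  map_zero' := S.B_zero_left z
  map_add' := fun x y => S.B_add_left x y z

theorem B_sum_left {κ : Type*} (s : Finset κ) (c : κ → ZMod 2) (x : κ → ι → ZMod 2)
    (z : ι → ZMod 2) : S.B (∑ k ∈ s, c k • x k) z = ∑ k ∈ s, c k * S.B (x k) z := by
  have h := map_sum (S.Bhom z) (fun k => c k • x k) s
  simp only [Bhom, AddMonoidHom.coe_mk, ZeroHom.coe_mk] at h
  rw [h]
  exact Finset.sum_congr rfl (fun k _ => S.B_smul_left _ _ _)

end Setup

namespace Setup.Model

variable (f : Ω → (ι → ZMod 2)) (hf : ∀ g h, f (g * h) = f g + M.act g (f h))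
include hf

theorem s1 {e a : ι → ZMod 2} (he : S.Qf e = 1) (ha : S.Qf a = 1) (hea : S.B e a = 1) :
    ∃ μ l : ZMod 2, M.cc S f e a = μ • e + l • a := by
  obtain ⟨h1, h2⟩ := M.rel3 S f hf he he ha hea
  obtain ⟨α, β, h3, -⟩ := triple S e a _ _ _ hea h1 h2
  rw [M.cc_base S f hf he, zero_add] at h3
  exact ⟨α, β, h3⟩

theorem s2 {e a b : ι → ZMod 2} (he : S.Qf e = 1) (ha : S.Qf a = 1) (hb : S.Qf b = 1)
    (hea : S.B e a = 1) (heb : S.B e b = 1) (hne : a ≠ b) (hne2 : a + b ≠ e)
    {μ l μ' l' : ZMod 2} (h1 : M.cc S f e a = μ • e + l • a)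
    (h2 : M.cc S f e b = μ' • e + l' • b) : μ = μ' := by
  rcases Setup.z2_cases (S.B a b) with hab | hab
  · have hr := M.rel2 S f hf he ha hb hab
    rw [add_comm (M.cc S f e b) (M.cc S f e a)] at hr
    unfold Setup.rho at hr
    have hr2 : S.B (M.cc S f e a + M.cc S f e b) a • a = S.B (M.cc S f e a + M.cc S f e b) b • b :=
      add_left_cancel hr
    have hsa : S.B (M.cc S f e a + M.cc S f e b) a = 0 := by
      rcases Setup.z2_cases (S.B (M.cc S f e a + M.cc S f e b) a) with h | h
      · exact h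
      · exfalso
        rw [h, one_smul] at hr2
        rcases Setup.z2_cases (S.B (M.cc S f e a + M.cc S f e b) b) with h' | h'
        · rw [h', zero_smul] at hr2; exact S.ne_zero_of_Q ha hr2
        · rw [h', one_smul] at hr2; exact hne hr2
    have hcomp : S.B (M.cc S f e a + M.cc S f e b) a = μ + μ' := by
      rw [h1, h2]
      simp only [S.B_add_left, S.B_smul_left, hea, S.B_self, S.B_comm b a, hab]
      ring
    rw [hcomp] at hsa
    exact z2_eq_of_add hsa
  · obtain ⟨r1, r2⟩ := M.rel3 S f hf he ha hb hab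
    obtain ⟨α, β, h3, -⟩ := triple S a b _ _ _ hab r1 r2
    by_contra hμ
    have h1' := z2_ne_add hμ
    have he' : e = (α + l) • a + (β + l') • b := by
      funext i
      have h4 := congrFun h3 i
      rw [h1, h2] at h4
      simp only [Pi.add_apply, Pi.smul_apply, smul_eq_mul] at h4 ⊢
      exact s2_aux _ _ _ _ _ _ _ _ _ h4 h1'
    rcases smul_cases (α + l) (β + l') a b with h | h | h | h
    · rw [h] at he'; exact S.ne_zero_of_Q he he'
    · rw [h] at he'
      rw [he', S.B_self] at hea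
      exact absurd hea (by decide)
    · rw [h] at he'
      rw [he', S.B_self] at heb
      exact absurd heb (by decide)
    · rw [h] at he'; exact hne2 he'.symm

theorem main {m : ℕ} (e : ι → ZMod 2) (he : S.Qf e = 1) (A : Fin m → ι → ZMod 2) (k0 : Fin m)
    (hA : ∀ k, S.Qf (A k) = 1) (hAe : ∀ k, S.B e (A k) = 1)
    (hAne : ∀ k l, k ≠ l → A k ≠ A l ∧ A k + A l ≠ e)
    (De : ι → ZMod 2) (D : Fin m → ι → ZMod 2)
    (hDe : S.B De e = 1) (hDeA : ∀ k, S.B De (A k) = 0) (hDk : ∀ k, S.B (D k) e = 0)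
    (hDA : ∀ k l, S.B (D k) (A l) = if k = l then 1 else 0)
    (hprop : ∀ Z : (ι → ZMod 2) → Prop, Z e → (∀ k, Z (A k)) →
      (∀ a b, S.Qf a = 1 → S.Qf b = 1 → S.B a b = 1 → Z a → Z b → Z (a + b)) →
      ∀ x, S.Qf x = 1 → Z x) :
    ∃ v : ι → ZMod 2, ∀ g, f g = M.act g v - v := by
  choose μ lam hml using fun k => M.s1 S f hf he (hA k) (hAe k)
  have hμ : ∀ k, μ k = μ k0 := by
    intro k
    by_cases h : k = k0
    · rw [h]
    · exact M.s2 S f hf he (hA k) (hA k0) (hAe k) (hAe k0) (hAne k k0 h).1 (hAne k k0 h).2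
        (hml k) (hml k0)
  obtain ⟨v, hv⟩ : ∃ v : ι → ZMod 2, v = μ k0 • De + ∑ k, lam k • D k := ⟨_, rfl⟩
  have hve : S.B v e = μ k0 := by
    rw [hv, S.B_add_left, S.B_smul_left, hDe, S.B_sum_left]
    simp [hDk]
  have hvA : ∀ l, S.B v (A l) = lam l := by
    intro l
    rw [hv, S.B_add_left, S.B_smul_left, hDeA, S.B_sum_left]
    simp [hDA]
  obtain ⟨f', hf'def⟩ : ∃ f' : Ω → (ι → ZMod 2), ∀ g, f' g = f g + (M.act g v + v) :=
    ⟨fun g => f g + (M.act g v + v), fun g => rfl⟩
  have hf' : ∀ g h, f' (g * h) = f' g + M.act g (f' h) := by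
    intro g h
    rw [hf'def, hf'def, hf'def, hf, M.act_mul, M.act_add, M.act_add]
    funext i
    simp only [Pi.add_apply]
    exact cocyc_aux _ _ _ _ _
  have hcc' : ∀ x, S.Qf x = 1 →
      M.cc S f' e x = M.cc S f e x + (S.B v x • x + S.B v e • e) := by
    intro x hx
    unfold cc
    rw [hf'def, M.act_P e x he hx, S.rho_add, S.rho_add, S.rho_rho]
    congr 1
    unfold Setup.rho
    funext i
    simp only [Pi.add_apply, Pi.smul_apply, smul_eq_mul]
    exact cc_aux _ _ _ _ _
  have hZA : ∀ k, M.cc S f' e (A k) = 0 := by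
    intro k
    rw [hcc' _ (hA k), hml k, hvA, hve, hμ k]
    funext i
    simp only [Pi.add_apply, Pi.smul_apply, smul_eq_mul, Pi.zero_apply]
    exact zA_aux _ _ _ _
  have hall : ∀ x, S.Qf x = 1 → M.cc S f' e x = 0 := by
    apply hprop (fun x => M.cc S f' e x = 0)
    · exact M.cc_base S f' hf' he
    · exact hZA
    · intro a b ha hb hab hza hzb
      obtain ⟨r1, r2⟩ := M.rel3 S f' hf' he ha hb hab
      obtain ⟨α, β, h3, h4⟩ := triple S a b _ _ _ hab r1 r2
      rw [hza, hzb, add_zero] at h3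
      rw [hzb, zero_add] at h4
      rcases Setup.z2_cases α with hα | hα <;> rcases Setup.z2_cases β with hβ | hβ
      · rw [h4, hα, hβ]; simp
      · exfalso
        rw [hα, hβ, zero_smul, one_smul, zero_add] at h3
        exact S.ne_zero_of_Q hb h3.symm
      · exfalso
        rw [hα, hβ, zero_smul, one_smul, add_zero] at h3
        exact S.ne_zero_of_Q ha h3.symm
      · exfalso
        rw [hα, hβ, one_smul, one_smul] at h3
        have hab' : b = a := by
          have := Setup.char2_cancel h3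
          rw [add_zero] at this
          exact this
        rw [hab', S.B_self] at hab
        exact absurd hab (by decide)
  have hpair : ∀ a b, S.Qf a = 1 → S.Qf b = 1 → f' (M.P a b) = 0 := by
    intro a b ha hb
    rw [M.key S f' hf' he ha hb, hall a ha, hall b hb, add_zero, S.rho_zero]
  have hprod : ∀ l : List ((ι → ZMod 2) × (ι → ZMod 2)),
      (∀ p ∈ l, S.Qf p.1 = 1 ∧ S.Qf p.2 = 1) →
      f' ((l.map fun p => M.P p.1 p.2).prod) = 0 := by
    intro l
    induction l with
    | nil =>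
      intro _
      rw [List.map_nil, List.prod_nil]
      exact M.f_one S f' hf'
    | cons p l ih =>
      intro h
      rw [List.map_cons, List.prod_cons, hf',
        hpair _ _ (h p (List.mem_cons_self)).1 (h p (List.mem_cons_self)).2,
        ih (fun q hq => h q (List.mem_cons_of_mem _ hq)), M.act_zero, add_zero]
  refine ⟨v, fun g => ?_⟩
  obtain ⟨l, hl, rfl⟩ := M.gen g
  have h5 := hprod l hl
  rw [hf'def] at h5
  have h6 := Setup.char2_cancel h5.symm
  rw [add_zero] at h6
  rw [← h6, sub_eq_add_neg, v_neg]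

end Setup.Model

end Cfsg.Agent.helper2.H1
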