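import Mathlib
import Cfsg.Agent.Lib_helper2_H1c
import Cfsg.Agent.Lib_helper13_C2E
import Cfsg.Agent.Lib_helper13_GeoTS

set_option autoImplicit false
set_option linter.unusedSectionVars false
set_option linter.unusedVariables false

namespace Cfsg.Agent.helper2.H1

open Cfsg.Agent.helper13 QuadraticMap

variable {ι : Type} [Fintype ι] [DecidableEq ι]
variable (Q : QuadraticForm (ZMod 2) (ι → ZMod 2))

theorem two_eq_zero_z2 : (2 : ZMod 2) = 0 := by decide

theorem ne_zero_iff_z2 (c : ZMod 2) : c ≠ 0 ↔ c = 1 := by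
  rcases Setup.z2_cases c with h | h <;> rw [h] <;> decide

/-- the unbundled quadratic space of a quadratic form over the field of two elements -/
noncomputable def setupOf : Setup ι where
  B := polar ⇑Q
  Qf := ⇑Q
  B_add_left := fun x y z => polar_add_left Q x y z
  B_comm := fun x y => polar_comm Q x y
  B_self := fun x => by
    rw [polar_self' Q x, two_eq_zero_z2, zero_mul]
  Q_add := fun x y => by
    unfold polar
    ring

theorem setupOf_B (x y : ι → ZMod 2) : (setupOf Q).B x y = polar ⇑Q x y := rfl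
theorem setupOf_Qf (x : ι → ZMod 2) : (setupOf Q).Qf x = Q x := rfl

theorem vsub_eq_add (x y : ι → ZMod 2) : x - y = x + y := by
  funext i
  simp only [Pi.sub_apply, Pi.add_apply]
  exact CharTwo.sub_eq_add _ _

theorem iact_reflG_two (w : ι → ZMod 2) (hw : Q w ≠ 0) (x : ι → ZMod 2) :
    iact (reflG Q w hw) x = (setupOf Q).rho w x := by
  have h1 : Q w = 1 := (ne_zero_iff_z2 _).mp hw
  rw [iact_reflG, h1, inv_one, one_mul, vsub_eq_add, polar_comm]
  rfl

theorem dickson_prodR (hQ : (polarBilin Q).Nondegenerate) (vs : List (ι → ZMod 2))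
    (hvs : ∀ v ∈ vs, Q v ≠ 0) :
    dickson Q two_eq_zero_z2 hQ (prodR Q vs) = (-1) ^ vs.length := by
  induction vs with
  | nil => rw [prodR_nil, map_one, List.length_nil, pow_zero]
  | cons v vs ih =>
    rw [prodR_cons, map_mul, ih (fun u hu => hvs u (List.mem_cons_of_mem _ hu)),
      reflG'_of Q v (hvs v List.mem_cons_self), dickson_reflG, List.length_cons, pow_succ, mul_comm]

theorem pairs_of_even : ∀ (n : ℕ) (vs : List (ι → ZMod 2)), vs.length = 2 * n →
    (∀ v ∈ vs, Q v ≠ 0) →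
    ∃ l : List ((ι → ZMod 2) × (ι → ZMod 2)), (∀ p ∈ l, Q p.1 ≠ 0 ∧ Q p.2 ≠ 0) ∧
      prodR Q vs = (l.map (fun p => reflG' Q p.1 * reflG' Q p.2)).prod := by
  intro n
  induction n with
  | zero =>
    intro vs hlen _
    have : vs = [] := List.length_eq_zero_iff.mp (by omega)
    subst this
    exact ⟨[], fun p hp => absurd hp List.not_mem_nil, rfl⟩
  | succ n ih =>
    intro vs hlen hvs
    match vs, hlen, hvs with
    | [], hlen, _ => simp only [List.length_nil] at hlen; omega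
    | [a], hlen, _ => simp only [List.length_cons, List.length_nil] at hlen; omega
    | a :: b :: rest, hlen, hvs =>
      have hlen' : rest.length = 2 * n := by
        simp only [List.length_cons] at hlen
        omega
      obtain ⟨l, hl, hprod⟩ := ih rest hlen' (fun v hv =>
        hvs v (List.mem_cons_of_mem _ (List.mem_cons_of_mem _ hv)))
      refine ⟨(a, b) :: l, ?_, ?_⟩
      · intro p hp
        rcases List.mem_cons.mp hp with h | h
        · rw [h]
          exact ⟨hvs a List.mem_cons_self, hvs b (List.mem_cons_of_mem _ List.mem_cons_self)⟩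
        · exact hl p h
      · rw [prodR_cons, prodR_cons, hprod, List.map_cons, List.prod_cons, mul_assoc]

/-- the even reflection group of a quadratic form over the field of two elements as a model -/
noncomputable def modelOf (hQ : (polarBilin Q).Nondegenerate)
    (hgen : ∀ g : ↥(Cfsg.isometryGroup (ZMod 2) ⇑Q), ∃ vs : List (ι → ZMod 2),
      (∀ v ∈ vs, Q v ≠ 0) ∧ g = prodR Q vs)
    (hpair : ∀ (a b : ι → ZMod 2) (ha : Q a ≠ 0) (hb : Q b ≠ 0),
      reflG Q a ha * reflG Q b hb ∈ commutator ↥(Cfsg.isometryGroup (ZMod 2) ⇑Q)) :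
    (setupOf Q).Model ↥(commutator ↥(Cfsg.isometryGroup (ZMod 2) ⇑Q)) where
  act := fun g x => iact g.1 x
  act_add := fun g x y => iact_add _ _ _
  act_mul := fun g h x => by
    show iact (g * h).1 x = _
    rw [Subgroup.coe_mul, iact_mul]
  act_one := fun x => by
    show iact (1 : ↥(commutator ↥(Cfsg.isometryGroup (ZMod 2) ⇑Q))).1 x = x
    rw [Subgroup.coe_one, iact_one]
  faithful := fun g h hgh => Subtype.ext (iact_ext hgh)
  P := fun a b => by
    classical
    exact if h : Q a ≠ 0 ∧ Q b ≠ 0 then ⟨reflG Q a h.1 * reflG Q b h.2, hpair a b h.1 h.2⟩ else 1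
  act_P := by
    intro a b ha hb x
    have ha' : Q a ≠ 0 := (ne_zero_iff_z2 _).mpr ha
    have hb' : Q b ≠ 0 := (ne_zero_iff_z2 _).mpr hb
    show iact (dite _ _ _ : ↥(commutator ↥(Cfsg.isometryGroup (ZMod 2) ⇑Q))).1 x = _
    rw [dif_pos ⟨ha', hb'⟩]
    show iact (reflG Q a ha' * reflG Q b hb') x = _
    rw [iact_mul, iact_reflG_two, iact_reflG_two]
  gen := by
    intro g
    obtain ⟨vs, hvs, hg⟩ := hgen g.1
    have hd : dickson Q two_eq_zero_z2 hQ g.1 = 1 :=
      MonoidHom.mem_ker.mp (Abelianization.commutator_subset_ker _ g.2)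
    rw [hg, dickson_prodR Q hQ vs hvs] at hd
    have hev : Even vs.length := by
      by_contra hodd
      rw [Nat.not_even_iff_odd] at hodd
      rw [Odd.neg_one_pow hodd] at hd
      exact absurd hd (by decide)
    obtain ⟨n, hn⟩ := hev
    obtain ⟨l, hl, hprod⟩ := pairs_of_even Q n vs (by omega) hvs
    refine ⟨l, ?_, ?_⟩
    · intro p hp
      exact ⟨(ne_zero_iff_z2 _).mp (hl p hp).1, (ne_zero_iff_z2 _).mp (hl p hp).2⟩
    · apply Subtype.ext
      rw [hg, hprod, Subgroup.val_list_prod, List.map_map]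
      congr 1
      apply List.map_congr_left
      intro p hp
      show _ = (dite _ _ _ : ↥(commutator ↥(Cfsg.isometryGroup (ZMod 2) ⇑Q))).1
      rw [dif_pos (hl p hp), reflG'_of Q p.1 (hl p hp).1, reflG'_of Q p.2 (hl p hp).2]

/-- vanishing of the first cohomology from a certificate -/
theorem cohom_of (hQ : (polarBilin Q).Nondegenerate)
    (hgen : ∀ g : ↥(Cfsg.isometryGroup (ZMod 2) ⇑Q), ∃ vs : List (ι → ZMod 2),
      (∀ v ∈ vs, Q v ≠ 0) ∧ g = prodR Q vs)
    (hpair : ∀ (a b : ι → ZMod 2) (ha : Q a ≠ 0) (hb : Q b ≠ 0),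
      reflG Q a ha * reflG Q b hb ∈ commutator ↥(Cfsg.isometryGroup (ZMod 2) ⇑Q))
    {m : ℕ} (e : ι → ZMod 2) (he : Q e = 1) (A : Fin m → ι → ZMod 2) (k0 : Fin m)
    (hA : ∀ k, Q (A k) = 1) (hAe : ∀ k, polar ⇑Q e (A k) = 1)
    (hAne : ∀ k l, k ≠ l → A k ≠ A l ∧ A k + A l ≠ e)
    (De : ι → ZMod 2) (D : Fin m → ι → ZMod 2)
    (hDe : polar ⇑Q De e = 1) (hDeA : ∀ k, polar ⇑Q De (A k) = 0)
    (hDk : ∀ k, polar ⇑Q (D k) e = 0)
    (hDA : ∀ k l, polar ⇑Q (D k) (A l) = if k = l then 1 else 0)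
    (hprop : ∀ Z : (ι → ZMod 2) → Prop, Z e → (∀ k, Z (A k)) →
      (∀ a b, Q a = 1 → Q b = 1 → polar ⇑Q a b = 1 → Z a → Z b → Z (a + b)) →
      ∀ x, Q x = 1 → Z x)
    (f : ↥(Cfsg.Omega (ZMod 2) ⇑Q) → (ι → ZMod 2))
    (hf : ∀ g h : ↥(Cfsg.Omega (ZMod 2) ⇑Q), f (g * h) = f g +
      Matrix.mulVec (((g : ↥(Cfsg.isometryGroup (ZMod 2) ⇑Q)) :
        Matrix.GeneralLinearGroup ι (ZMod 2)) : Matrix ι ι (ZMod 2)) (f h)) :
    ∃ v : ι → ZMod 2, ∀ g : ↥(Cfsg.Omega (ZMod 2) ⇑Q), f g =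
      Matrix.mulVec (((g : ↥(Cfsg.isometryGroup (ZMod 2) ⇑Q)) :
        Matrix.GeneralLinearGroup ι (ZMod 2)) : Matrix ι ι (ZMod 2)) v - v :=
  (modelOf Q hQ hgen hpair).main (setupOf Q) f hf e he A k0 hA hAe hAne De D hDe hDeA hDk hDA hprop

end Cfsg.Agent.helper2.H1
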