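import Mathlib
import Cfsg.Agent.Lib_helper2_H1d

set_option autoImplicit false
set_option linter.unusedSectionVars false
set_option linter.unusedVariables false

namespace Cfsg.Agent.helper2.H1

open Cfsg.Agent.helper13 QuadraticMap
open scoped commutatorElement

variable {ι : Type} [Fintype ι] [DecidableEq ι]

/-- decode a natural number to a vector by its bits -/
def dec (pos : ι → ℕ) (k : ℕ) : ι → ZMod 2 := fun i => if k.testBit (pos i) then 1 else 0

theorem dec_xor (pos : ι → ℕ) (x y : ℕ) : dec pos (x ^^^ y) = dec pos x + dec pos y := by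
  funext i
  simp only [dec, Pi.add_apply, Nat.testBit_xor]
  cases x.testBit (pos i) <;> cases y.testBit (pos i) <;> decide

theorem dec_zero (pos : ι → ℕ) : dec pos 0 = 0 := by
  funext i
  simp [dec]

theorem dec_inj (pos : ι → ℕ) (n : ℕ) (enc : (ι → ZMod 2) → ℕ)
    (henc : ∀ k < 2 ^ n, enc (dec pos k) = k) (a b : ℕ) (ha : a < 2 ^ n) (hb : b < 2 ^ n)
    (h : dec pos a = dec pos b) : a = b := by
  rw [← henc a ha, ← henc b hb, h]

theorem dec_surj (pos : ι → ℕ) (n : ℕ) (hcard : Fintype.card ι = n) (enc : (ι → ZMod 2) → ℕ)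
    (henc : ∀ k < 2 ^ n, enc (dec pos k) = k) :
    ∀ v : ι → ZMod 2, ∃ k < 2 ^ n, dec pos k = v := by
  have hinj : Function.Injective (fun k : Fin (2 ^ n) => dec pos k.1) := by
    intro k l h
    apply Fin.ext
    exact dec_inj pos n enc henc k.1 l.1 k.2 l.2 h
  have hbij := (Fintype.bijective_iff_injective_and_card _).mpr
    ⟨hinj, by rw [Fintype.card_fin, Fintype.card_fun, ZMod.card, hcard]⟩
  intro v
  obtain ⟨k, hk⟩ := hbij.2 v
  exact ⟨k.1, k.2, hk⟩

/-- validity of one closure step -/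
def stepOK (qf : (ι → ZMod 2) → ZMod 2) (pos : ι → ℕ) (acc : List ℕ) (p : ℕ × ℕ) : Bool :=
  decide (p.1 ∈ acc) && decide (p.2 ∈ acc) && decide (qf (dec pos p.1) = 1) &&
    decide (qf (dec pos p.2) = 1) && decide (polar qf (dec pos p.1) (dec pos p.2) = 1)

/-- run the closure steps -/
def run (qf : (ι → ZMod 2) → ZMod 2) (pos : ι → ℕ) : List ℕ → List (ℕ × ℕ) → List ℕ
  | acc, [] => acc
  | acc, p :: ps =>
    if stepOK qf pos acc p then run qf pos ((p.1 ^^^ p.2) :: acc) ps else run qf pos acc ps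

theorem run_sound (qf : (ι → ZMod 2) → ZMod 2) (pos : ι → ℕ) (Z : (ι → ZMod 2) → Prop)
    (hstep : ∀ a b, qf a = 1 → qf b = 1 → polar qf a b = 1 → Z a → Z b → Z (a + b)) :
    ∀ (steps : List (ℕ × ℕ)) (acc : List ℕ), (∀ k ∈ acc, Z (dec pos k)) →
      ∀ k ∈ run qf pos acc steps, Z (dec pos k) := by
  intro steps
  induction steps with
  | nil =>
    intro acc h k hk
    exact h k hk
  | cons p ps ih =>
    intro acc h k hk
    unfold run at hk
    split_ifs at hk with hok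
    · apply ih _ _ k hk
      intro j hj
      rcases List.mem_cons.mp hj with rfl | hj
      · rw [dec_xor]
        unfold stepOK at hok
        simp only [Bool.and_eq_true, decide_eq_true_eq] at hok
        obtain ⟨⟨⟨⟨m1, m2⟩, q1⟩, q2⟩, b⟩ := hok
        exact hstep _ _ q1 q2 b (h _ m1) (h _ m2)
      · exact h j hj
    · exact ih acc h k hk

variable (Q : QuadraticForm (ZMod 2) (ι → ZMod 2))

theorem exists_list_of_not_exc (hQ : (polarBilin Q).Nondegenerate)
    (hexc : ¬ Exc Q (⊤ : Submodule (ZMod 2) (ι → ZMod 2)))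
    (g : ↥(Cfsg.isometryGroup (ZMod 2) ⇑Q)) :
    ∃ vs : List (ι → ZMod 2), (∀ v ∈ vs, Q v ≠ 0) ∧ g = prodR Q vs := by
  have hg : g ∈ RU Q ⊤ := by
    apply cd2_aux Q two_eq_zero_z2 hQ _ ⊤ rfl (nondegOn_top Q hQ) hexc
    intro z hz
    have : z = 0 := by
      apply hQ.2 z
      intro u
      rw [polarBilin_apply_apply]
      exact hz u Submodule.mem_top
    rw [this, iact_zero]
  unfold RU at hg
  induction hg using Subgroup.closure_induction with
  | mem r hr =>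
    obtain ⟨w, -, hw, rfl⟩ := hr
    refine ⟨[w], ?_, ?_⟩
    · intro v hv
      rw [List.mem_singleton] at hv
      rw [hv]
      exact hw
    · rw [prodR_cons, prodR_nil, mul_one, reflG'_of Q w hw]
  | one => exact ⟨[], fun v hv => absurd hv (List.not_mem_nil), rfl⟩
  | mul a b _ _ ha hb =>
    obtain ⟨va, hva, rfl⟩ := ha
    obtain ⟨vb, hvb, rfl⟩ := hb
    refine ⟨va ++ vb, ?_, (prodR_append Q va vb).symm⟩
    intro v hv
    rcases List.mem_append.mp hv with h | h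
    · exact hva v h
    · exact hvb v h
  | inv a _ ha =>
    obtain ⟨va, hva, rfl⟩ := ha
    refine ⟨va.reverse, ?_, (prodR_reverse Q va).symm⟩
    intro v hv
    exact hva v (List.mem_reverse.mp hv)

theorem reflG_inv_two (w : ι → ZMod 2) (hw : Q w ≠ 0) : (reflG Q w hw)⁻¹ = reflG Q w hw :=
  inv_eq_of_mul_eq_one_left (reflG_mul_self Q w hw)

theorem pair_mem_of_polar_one (a b : ι → ZMod 2) (ha : Q a ≠ 0) (hb : Q b ≠ 0)
    (hab : polar ⇑Q a b = 1) :
    reflG Q a ha * reflG Q b hb ∈ commutator ↥(Cfsg.isometryGroup (ZMod 2) ⇑Q) := by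
  have ha1 : Q a = 1 := (ne_zero_iff_z2 _).mp ha
  have hb1 : Q b = 1 := (ne_zero_iff_z2 _).mp hb
  have hc1 : Q (a + b) = 1 := by
    have := (setupOf Q).Q_add a b
    rw [setupOf_Qf, setupOf_Qf, setupOf_Qf, setupOf_B, ha1, hb1, hab] at this
    rw [this]
    decide
  have hc : Q (a + b) ≠ 0 := (ne_zero_iff_z2 _).mpr hc1
  have hB : (setupOf Q).B (a + b) b = 1 := by
    rw [(setupOf Q).B_add_left, (setupOf Q).B_self, add_zero]
    exact hab
  have heq : reflG Q a ha * reflG Q b hb = ⁅reflG Q (a + b) hc, reflG Q b hb⁆ := by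
    apply iact_ext
    intro x
    rw [commutatorElement_def, reflG_inv_two, reflG_inv_two]
    simp only [iact_mul, iact_reflG_two]
    rw [(setupOf Q).rho_braid2 (a + b) b _ hB, (setupOf Q).rho_rho, add_assoc,
      Setup.v_add_self, add_zero]
  rw [heq, commutator_def]
  exact Subgroup.commutator_mem_commutator (Subgroup.mem_top _) (Subgroup.mem_top _)

theorem pair_mem_of_conn
    (hconn : ∀ a b : ι → ZMod 2, Q a = 1 → Q b = 1 → a ≠ b → polar ⇑Q a b = 0 →
      ∃ c, Q c = 1 ∧ polar ⇑Q a c = 1 ∧ polar ⇑Q c b = 1)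
    (a b : ι → ZMod 2) (ha : Q a ≠ 0) (hb : Q b ≠ 0) :
    reflG Q a ha * reflG Q b hb ∈ commutator ↥(Cfsg.isometryGroup (ZMod 2) ⇑Q) := by
  by_cases hab : a = b
  · subst hab
    rw [reflG_mul_self]
    exact Subgroup.one_mem _
  · rcases Setup.z2_cases (polar ⇑Q a b) with h | h
    · obtain ⟨c, hc, hac, hcb⟩ := hconn a b ((ne_zero_iff_z2 _).mp ha) ((ne_zero_iff_z2 _).mp hb) hab h
      have hc' : Q c ≠ 0 := (ne_zero_iff_z2 _).mpr hc
      have : reflG Q a ha * reflG Q b hb =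
          (reflG Q a ha * reflG Q c hc') * (reflG Q c hc' * reflG Q b hb) := by
        rw [mul_assoc, ← mul_assoc (reflG Q c hc'), reflG_mul_self, one_mul]
      rw [this]
      exact Subgroup.mul_mem _ (pair_mem_of_polar_one Q a c ha hc' hac)
        (pair_mem_of_polar_one Q c b hc' hb hcb)
    · exact pair_mem_of_polar_one Q a b ha hb h

/-- vanishing of the first cohomology from a coded certificate -/
theorem cohom_cert (hQ : (polarBilin Q).Nondegenerate)
    (hgen : ∀ g : ↥(Cfsg.isometryGroup (ZMod 2) ⇑Q), ∃ vs : List (ι → ZMod 2),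
      (∀ v ∈ vs, Q v ≠ 0) ∧ g = prodR Q vs)
    (hpair : ∀ (a b : ι → ZMod 2) (ha : Q a ≠ 0) (hb : Q b ≠ 0),
      reflG Q a ha * reflG Q b hb ∈ commutator ↥(Cfsg.isometryGroup (ZMod 2) ⇑Q))
    (qf : (ι → ZMod 2) → ZMod 2) (hqf : ⇑Q = qf)
    (pos : ι → ℕ) (n : ℕ) (hcard : Fintype.card ι = n) (enc : (ι → ZMod 2) → ℕ)
    (henc : ∀ k < 2 ^ n, enc (dec pos k) = k)
    (ec : ℕ) (Ac : List ℕ) (Dec : ℕ) (Dc : List ℕ) (steps : List (ℕ × ℕ)) (reach : List ℕ)
    (hm : 0 < Ac.length) (hec : ec < 2 ^ n) (hAc : ∀ k < Ac.length, Ac.getD k 0 < 2 ^ n)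
    (h1 : qf (dec pos ec) = 1)
    (h2 : ∀ k < Ac.length, qf (dec pos (Ac.getD k 0)) = 1 ∧
      polar qf (dec pos ec) (dec pos (Ac.getD k 0)) = 1 ∧
      polar qf (dec pos Dec) (dec pos (Ac.getD k 0)) = 0 ∧
      polar qf (dec pos (Dc.getD k 0)) (dec pos ec) = 0)
    (h3 : ∀ k < Ac.length, ∀ l < Ac.length, k ≠ l →
      Ac.getD k 0 ≠ Ac.getD l 0 ∧ Ac.getD k 0 ^^^ Ac.getD l 0 ≠ ec)
    (h4 : polar qf (dec pos Dec) (dec pos ec) = 1)
    (h5 : ∀ k < Ac.length, ∀ l < Ac.length,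
      polar qf (dec pos (Dc.getD k 0)) (dec pos (Ac.getD l 0)) = if k = l then 1 else 0)
    (h6 : run qf pos (ec :: Ac) steps = reach)
    (h7 : ∀ k < 2 ^ n, qf (dec pos k) = 1 → k ∈ reach)
    (f : ↥(Cfsg.Omega (ZMod 2) ⇑Q) → (ι → ZMod 2))
    (hf : ∀ g h : ↥(Cfsg.Omega (ZMod 2) ⇑Q), f (g * h) = f g +
      Matrix.mulVec (((g : ↥(Cfsg.isometryGroup (ZMod 2) ⇑Q)) :
        Matrix.GeneralLinearGroup ι (ZMod 2)) : Matrix ι ι (ZMod 2)) (f h)) :
    ∃ v : ι → ZMod 2, ∀ g : ↥(Cfsg.Omega (ZMod 2) ⇑Q), f g =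
      Matrix.mulVec (((g : ↥(Cfsg.isometryGroup (ZMod 2) ⇑Q)) :
        Matrix.GeneralLinearGroup ι (ZMod 2)) : Matrix ι ι (ZMod 2)) v - v := by
  subst hqf
  refine cohom_of Q hQ hgen hpair (dec pos ec) h1
    (fun k : Fin Ac.length => dec pos (Ac.getD k.1 0)) ⟨0, hm⟩
    (fun k => (h2 k.1 k.2).1) (fun k => (h2 k.1 k.2).2.1) ?_
    (dec pos Dec) (fun k : Fin Ac.length => dec pos (Dc.getD k.1 0))
    h4 (fun k => (h2 k.1 k.2).2.2.1) (fun k => (h2 k.1 k.2).2.2.2) ?_ ?_ f hf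
  · intro k l hkl
    have hkl' : k.1 ≠ l.1 := fun h => hkl (Fin.ext h)
    obtain ⟨hne1, hne2⟩ := h3 k.1 k.2 l.1 l.2 hkl'
    constructor
    · intro h
      exact hne1 (dec_inj pos n enc henc _ _ (hAc k.1 k.2) (hAc l.1 l.2) h)
    · intro h
      rw [← dec_xor] at h
      exact hne2 (dec_inj pos n enc henc _ _
        (Nat.xor_lt_two_pow (hAc k.1 k.2) (hAc l.1 l.2)) hec h)
  · intro k l
    rw [h5 k.1 k.2 l.1 l.2]
    by_cases h : k = l
    · rw [if_pos h, if_pos (congrArg Fin.val h)]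
    · rw [if_neg h, if_neg (fun h' => h (Fin.ext h'))]
  · intro Z hZe hZA hstep x hx
    obtain ⟨k, hk, rfl⟩ := dec_surj pos n hcard enc henc x
    have hmem := h7 k hk hx
    rw [← h6] at hmem
    refine run_sound (⇑Q) pos Z hstep steps (ec :: Ac) ?_ k hmem
    intro j hj
    rcases List.mem_cons.mp hj with rfl | hj
    · exact hZe
    · obtain ⟨i, hi, rfl⟩ := List.getElem_of_mem hj
      have := hZA ⟨i, hi⟩
      rw [List.getD_eq_getElem _ _ hi] at this
      exact this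

end Cfsg.Agent.helper2.H1
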