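import Mathlib
import Cfsg.Agent.Lib_helper2_H1e
import Cfsg.Agent.Lib_helper13_QStd

set_option autoImplicit false
set_option linter.unusedSectionVars false
set_option linter.unusedVariables false
set_option maxRecDepth 100000
set_option synthInstance.maxSize 4000
set_option synthInstance.maxHeartbeats 2000000
set_option maxHeartbeats 4000000

namespace Cfsg.Agent.helper2.H1

open Cfsg.Agent.helper13 QuadraticMap

/-- explicit form -/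
def qfM1 (v : (Fin 1 ⊕ Fin 1) ⊕ Fin 2 → ZMod 2) : ZMod 2 :=
  v (.inl (.inl 0)) * v (.inl (.inr 0)) + (v (.inr 0) * v (.inr 0) + v (.inr 0) * v (.inr 1) + v (.inr 1) * v (.inr 1))

theorem QM1_coe : ⇑(QMinus (ZMod 2) 1 1 1) = qfM1 := by
  rw [QMinus_coe]
  funext v
  simp only [Cfsg.quadFormMinus, qfM1, Finset.univ_unique, Finset.sum_singleton, Fin.default_eq_zero]
  ring

/-- bit positions -/
def posM1 : (Fin 1 ⊕ Fin 1) ⊕ Fin 2 → ℕ := Sum.elim (Sum.elim (fun _ => 0) (fun _ => 1)) (fun i => 2 + i.val)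

/-- encoding -/
def encM1 (v : (Fin 1 ⊕ Fin 1) ⊕ Fin 2 → ZMod 2) : ℕ :=
  (v (.inl (.inl 0))).val + 2 * (v (.inl (.inr 0))).val + 4 * (v (.inr 0)).val + 8 * (v (.inr 1)).val

theorem encM1_dec : ∀ k < 2 ^ 4, encM1 (dec posM1 k) = k := by decide +kernel

theorem cardM1 : Fintype.card ((Fin 1 ⊕ Fin 1) ⊕ Fin 2) = 4 := by
  simp

theorem nondegM1 : (polarBilin (QMinus (ZMod 2) 1 1 1)).Nondegenerate :=
  QMinus_nondeg (F := ZMod 2) 1 1 1 (by decide)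

theorem excM1_check : ∀ k < 16, ∀ l < 16, qfM1 (dec posM1 k) = 0 → qfM1 (dec posM1 l) = 0 →
    polar qfM1 (dec posM1 k) (dec posM1 l) = 0 → k = 0 ∨ l = 0 ∨ k = l := by decide +kernel

theorem not_exc_M1 : ¬ Exc (QMinus (ZMod 2) 1 1 1) (⊤ : Submodule (ZMod 2) ((Fin 1 ⊕ Fin 1) ⊕ Fin 2 → ZMod 2)) := by
  rintro ⟨-, -, a, -, b, -, ha0, hb0, hab, hQa, hQb, hp⟩
  rw [QM1_coe] at hQa hQb hp
  obtain ⟨k, hk, rfl⟩ := dec_surj posM1 4 cardM1 encM1 encM1_dec a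
  obtain ⟨l, hl, rfl⟩ := dec_surj posM1 4 cardM1 encM1 encM1_dec b
  rcases excM1_check k hk l hl hQa hQb hp with h | h | h
  · subst h
    exact ha0 (dec_zero _)
  · subst h
    exact hb0 (dec_zero _)
  · subst h
    exact hab rfl

theorem hgenM1 : ∀ g : ↥(Cfsg.isometryGroup (ZMod 2) ⇑(QMinus (ZMod 2) 1 1 1)), ∃ vs : List ((Fin 1 ⊕ Fin 1) ⊕ Fin 2 → ZMod 2),
    (∀ v ∈ vs, (QMinus (ZMod 2) 1 1 1) v ≠ 0) ∧ g = prodR (QMinus (ZMod 2) 1 1 1) vs :=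
  exists_list_of_not_exc (QMinus (ZMod 2) 1 1 1) nondegM1 not_exc_M1


theorem connM1_check : ∀ k < 16, ∀ l < 16, qfM1 (dec posM1 k) = 1 → qfM1 (dec posM1 l) = 1 → k ≠ l →
    polar qfM1 (dec posM1 k) (dec posM1 l) = 0 →
    ∃ c < 16, qfM1 (dec posM1 c) = 1 ∧ polar qfM1 (dec posM1 k) (dec posM1 c) = 1 ∧
      polar qfM1 (dec posM1 c) (dec posM1 l) = 1 := by decide +kernel

theorem hpairM1 : ∀ (a b : (Fin 1 ⊕ Fin 1) ⊕ Fin 2 → ZMod 2) (ha : (QMinus (ZMod 2) 1 1 1) a ≠ 0) (hb : (QMinus (ZMod 2) 1 1 1) b ≠ 0),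
    reflG (QMinus (ZMod 2) 1 1 1) a ha * reflG (QMinus (ZMod 2) 1 1 1) b hb ∈
      commutator ↥(Cfsg.isometryGroup (ZMod 2) ⇑(QMinus (ZMod 2) 1 1 1)) := by
  apply pair_mem_of_conn
  intro a b ha hb hab hp
  rw [QM1_coe] at ha hb hp ⊢
  obtain ⟨k, hk, rfl⟩ := dec_surj posM1 4 cardM1 encM1 encM1_dec a
  obtain ⟨l, hl, rfl⟩ := dec_surj posM1 4 cardM1 encM1 encM1_dec b
  have hkl : k ≠ l := fun h => hab (by rw [h])
  obtain ⟨c, -, h1, h2, h3⟩ := connM1_check k hk l hl ha hb hkl hp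
  exact ⟨dec posM1 c, h1, h2, h3⟩

/-- the closure steps -/
def stepsM1 : List (ℕ × ℕ) := [(9, 13), (3, 5), (3, 9), (3, 13), (5, 9), (5, 13)]

/-- the reached codes -/
def reachM1 : List ℕ := [8, 12, 14, 10, 6, 4, 3, 5, 9, 13]

theorem cohomM1 (f : ↥(Cfsg.Omega (ZMod 2) ⇑(QMinus (ZMod 2) 1 1 1)) → ((Fin 1 ⊕ Fin 1) ⊕ Fin 2 → ZMod 2))
    (hf : ∀ g h : ↥(Cfsg.Omega (ZMod 2) ⇑(QMinus (ZMod 2) 1 1 1)), f (g * h) = f g +
      Matrix.mulVec (((g : ↥(Cfsg.isometryGroup (ZMod 2) ⇑(QMinus (ZMod 2) 1 1 1))) :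
        Matrix.GeneralLinearGroup ((Fin 1 ⊕ Fin 1) ⊕ Fin 2) (ZMod 2)) : Matrix ((Fin 1 ⊕ Fin 1) ⊕ Fin 2) ((Fin 1 ⊕ Fin 1) ⊕ Fin 2) (ZMod 2)) (f h)) :
    ∃ v : (Fin 1 ⊕ Fin 1) ⊕ Fin 2 → ZMod 2, ∀ g : ↥(Cfsg.Omega (ZMod 2) ⇑(QMinus (ZMod 2) 1 1 1)), f g =
      Matrix.mulVec (((g : ↥(Cfsg.isometryGroup (ZMod 2) ⇑(QMinus (ZMod 2) 1 1 1))) :
        Matrix.GeneralLinearGroup ((Fin 1 ⊕ Fin 1) ⊕ Fin 2) (ZMod 2)) : Matrix ((Fin 1 ⊕ Fin 1) ⊕ Fin 2) ((Fin 1 ⊕ Fin 1) ⊕ Fin 2) (ZMod 2)) v - v :=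
  cohom_cert (QMinus (ZMod 2) 1 1 1) nondegM1 hgenM1 hpairM1 qfM1 QM1_coe posM1 4 cardM1
    encM1 encM1_dec 3 [5, 9, 13] 1 [7, 11, 15] stepsM1 reachM1
    (by decide) (by decide) (by decide +kernel) (by decide +kernel) (by decide +kernel)
    (by decide +kernel) (by decide +kernel) (by decide +kernel) (by decide +kernel)
    (by decide +kernel) f hf

end Cfsg.Agent.helper2.H1
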