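import Mathlib
import Cfsg.Agent.Lib_helper2_H1e
import Cfsg.Agent.Lib_helper13_QStd

set_option autoImplicit false
set_option linter.unusedSectionVars false
set_option linter.unusedVariables false
set_option maxRecDepth 100000
set_option synthInstance.maxSize 4000
set_option synthInstance.maxHeartbeats 2000000
set_option maxHeartbeats 4000000

namespace Cfsg.Agent.helper2.H1

open Cfsg.Agent.helper13 QuadraticMap

/-- explicit form -/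
def qfM2 (v : (Fin 2 ⊕ Fin 2) ⊕ Fin 2 → ZMod 2) : ZMod 2 :=
  v (.inl (.inl 0)) * v (.inl (.inr 0)) + v (.inl (.inl 1)) * v (.inl (.inr 1)) + (v (.inr 0) * v (.inr 0) + v (.inr 0) * v (.inr 1) + v (.inr 1) * v (.inr 1))

theorem QM2_coe : ⇑(QMinus (ZMod 2) 2 1 1) = qfM2 := by
  rw [QMinus_coe]
  funext v
  simp only [Cfsg.quadFormMinus, qfM2, Fin.sum_univ_two]
  ring

/-- bit positions -/
def posM2 : (Fin 2 ⊕ Fin 2) ⊕ Fin 2 → ℕ := Sum.elim (Sum.elim (fun i => i.val) (fun i => 2 + i.val)) (fun i => 4 + i.val)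

/-- encoding -/
def encM2 (v : (Fin 2 ⊕ Fin 2) ⊕ Fin 2 → ZMod 2) : ℕ :=
  (v (.inl (.inl 0))).val + 2 * (v (.inl (.inl 1))).val + 4 * (v (.inl (.inr 0))).val + 8 * (v (.inl (.inr 1))).val + 16 * (v (.inr 0)).val + 32 * (v (.inr 1)).val

theorem encM2_dec : ∀ k < 2 ^ 6, encM2 (dec posM2 k) = k := by decide +kernel

theorem cardM2 : Fintype.card ((Fin 2 ⊕ Fin 2) ⊕ Fin 2) = 6 := by
  simp

theorem nondegM2 : (polarBilin (QMinus (ZMod 2) 2 1 1)).Nondegenerate :=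
  QMinus_nondeg (F := ZMod 2) 2 1 1 (by decide)

theorem hneM2 : Fintype.card (ZMod 2) ≠ 2 ∨ Fintype.card ((Fin 2 ⊕ Fin 2) ⊕ Fin 2) ≠ 4 := by
  right
  rw [cardM2]
  decide

theorem hgenM2 : ∀ g : ↥(Cfsg.isometryGroup (ZMod 2) ⇑(QMinus (ZMod 2) 2 1 1)), ∃ vs : List ((Fin 2 ⊕ Fin 2) ⊕ Fin 2 → ZMod 2),
    (∀ v ∈ vs, (QMinus (ZMod 2) 2 1 1) v ≠ 0) ∧ g = prodR (QMinus (ZMod 2) 2 1 1) vs :=
  exists_list_two (QMinus (ZMod 2) 2 1 1) two_eq_zero_z2 nondegM2 hneM2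


theorem hpairM2 : ∀ (a b : (Fin 2 ⊕ Fin 2) ⊕ Fin 2 → ZMod 2) (ha : (QMinus (ZMod 2) 2 1 1) a ≠ 0) (hb : (QMinus (ZMod 2) 2 1 1) b ≠ 0),
    reflG (QMinus (ZMod 2) 2 1 1) a ha * reflG (QMinus (ZMod 2) 2 1 1) b hb ∈
      commutator ↥(Cfsg.isometryGroup (ZMod 2) ⇑(QMinus (ZMod 2) 2 1 1)) := by
  intro a b ha hb
  apply reflG_pair_mem_comm (QMinus (ZMod 2) 2 1 1) nondegM2 hneM2 b a hb ha
  rw [(ne_zero_iff_z2 _).mp ha, (ne_zero_iff_z2 _).mp hb]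

/-- the closure steps -/
def stepsM2 : List (ℕ × ℕ) := [(5, 33), (5, 11), (5, 17), (5, 19), (5, 25), (11, 36), (11, 19), (11, 20), (11, 25), (17, 33), (17, 22), (17, 28), (19, 33), (19, 47), (19, 48), (19, 25), (25, 33), (25, 47), (25, 48), (5, 35), (5, 41), (5, 54), (5, 60), (7, 47), (7, 51), (7, 54), (7, 56), (10, 40), (17, 49), (33, 49)]

/-- the reached codes -/
def reachM2 : List ℕ := [16, 32, 34, 63, 49, 52, 40, 57, 51, 44, 38, 41, 54, 56, 10, 35, 60, 50, 13, 7, 48, 18, 31, 24, 47, 28, 22, 20, 14, 36, 5, 11, 17, 19, 25, 33]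

theorem cohomM2 (f : ↥(Cfsg.Omega (ZMod 2) ⇑(QMinus (ZMod 2) 2 1 1)) → ((Fin 2 ⊕ Fin 2) ⊕ Fin 2 → ZMod 2))
    (hf : ∀ g h : ↥(Cfsg.Omega (ZMod 2) ⇑(QMinus (ZMod 2) 2 1 1)), f (g * h) = f g +
      Matrix.mulVec (((g : ↥(Cfsg.isometryGroup (ZMod 2) ⇑(QMinus (ZMod 2) 2 1 1))) :
        Matrix.GeneralLinearGroup ((Fin 2 ⊕ Fin 2) ⊕ Fin 2) (ZMod 2)) : Matrix ((Fin 2 ⊕ Fin 2) ⊕ Fin 2) ((Fin 2 ⊕ Fin 2) ⊕ Fin 2) (ZMod 2)) (f h)) :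
    ∃ v : (Fin 2 ⊕ Fin 2) ⊕ Fin 2 → ZMod 2, ∀ g : ↥(Cfsg.Omega (ZMod 2) ⇑(QMinus (ZMod 2) 2 1 1)), f g =
      Matrix.mulVec (((g : ↥(Cfsg.isometryGroup (ZMod 2) ⇑(QMinus (ZMod 2) 2 1 1))) :
        Matrix.GeneralLinearGroup ((Fin 2 ⊕ Fin 2) ⊕ Fin 2) (ZMod 2)) : Matrix ((Fin 2 ⊕ Fin 2) ⊕ Fin 2) ((Fin 2 ⊕ Fin 2) ⊕ Fin 2) (ZMod 2)) v - v :=
  cohom_cert (QMinus (ZMod 2) 2 1 1) nondegM2 hgenM2 hpairM2 qfM2 QM2_coe posM2 6 cardM2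
    encM2 encM2_dec 5 [11, 17, 19, 25, 33] 1 [53, 42, 61, 55, 16] stepsM2 reachM2
    (by decide) (by decide) (by decide +kernel) (by decide +kernel) (by decide +kernel)
    (by decide +kernel) (by decide +kernel) (by decide +kernel) (by decide +kernel)
    (by decide +kernel) f hf

end Cfsg.Agent.helper2.H1
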