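import Mathlib
import Cfsg.Agent.Lib_helper2_H1e
import Cfsg.Agent.Lib_helper13_QStd

set_option autoImplicit false
set_option linter.unusedSectionVars false
set_option linter.unusedVariables false
set_option maxRecDepth 100000
set_option synthInstance.maxSize 4000
set_option synthInstance.maxHeartbeats 2000000
set_option maxHeartbeats 4000000

namespace Cfsg.Agent.helper2.H1

open Cfsg.Agent.helper13 QuadraticMap

/-- explicit form -/
def qfP4 (v : Fin 4 ⊕ Fin 4 → ZMod 2) : ZMod 2 :=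
  v (.inl 0) * v (.inr 0) + v (.inl 1) * v (.inr 1) + v (.inl 2) * v (.inr 2) + v (.inl 3) * v (.inr 3)

theorem QP4_coe : ⇑(QPlus (ZMod 2) 4) = qfP4 := by
  rw [QPlus_coe]
  funext v
  simp only [Cfsg.quadFormPlus, qfP4, Fin.sum_univ_four]

/-- bit positions -/
def posP4 : Fin 4 ⊕ Fin 4 → ℕ := Sum.elim (fun i => i.val) (fun i => 4 + i.val)

/-- encoding -/
def encP4 (v : Fin 4 ⊕ Fin 4 → ZMod 2) : ℕ :=
  (v (.inl 0)).val + 2 * (v (.inl 1)).val + 4 * (v (.inl 2)).val + 8 * (v (.inl 3)).val + 16 * (v (.inr 0)).val + 32 * (v (.inr 1)).val + 64 * (v (.inr 2)).val + 128 * (v (.inr 3)).val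

theorem encP4_dec : ∀ k < 2 ^ 8, encP4 (dec posP4 k) = k := by decide +kernel

theorem cardP4 : Fintype.card (Fin 4 ⊕ Fin 4) = 8 := by
  simp

theorem nondegP4 : (polarBilin (QPlus (ZMod 2) 4)).Nondegenerate :=
  QPlus_nondeg (F := ZMod 2) 4

theorem hneP4 : Fintype.card (ZMod 2) ≠ 2 ∨ Fintype.card (Fin 4 ⊕ Fin 4) ≠ 4 := by
  right
  rw [cardP4]
  decide

theorem hgenP4 : ∀ g : ↥(Cfsg.isometryGroup (ZMod 2) ⇑(QPlus (ZMod 2) 4)), ∃ vs : List (Fin 4 ⊕ Fin 4 → ZMod 2),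
    (∀ v ∈ vs, (QPlus (ZMod 2) 4) v ≠ 0) ∧ g = prodR (QPlus (ZMod 2) 4) vs :=
  exists_list_two (QPlus (ZMod 2) 4) two_eq_zero_z2 nondegP4 hneP4


theorem hpairP4 : ∀ (a b : Fin 4 ⊕ Fin 4 → ZMod 2) (ha : (QPlus (ZMod 2) 4) a ≠ 0) (hb : (QPlus (ZMod 2) 4) b ≠ 0),
    reflG (QPlus (ZMod 2) 4) a ha * reflG (QPlus (ZMod 2) 4) b hb ∈
      commutator ↥(Cfsg.isometryGroup (ZMod 2) ⇑(QPlus (ZMod 2) 4)) := by
  intro a b ha hb
  apply reflG_pair_mem_comm (QPlus (ZMod 2) 4) nondegP4 hneP4 b a hb ha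
  rw [(ne_zero_iff_z2 _).mp ha, (ne_zero_iff_z2 _).mp hb]

/-- the closure steps -/
def stepsP4 : List (ℕ × ℕ) := [(35, 71), (69, 99), (39, 99), (39, 69), (43, 100), (43, 71), (43, 137), (17, 35), (17, 99), (17, 69), (17, 39), (17, 71), (17, 137), (17, 43), (17, 79), (35, 152), (35, 54), (35, 58), (35, 84), (35, 114), (39, 152), (39, 58), (39, 187), (39, 86), (39, 94), (43, 81), (43, 84), (43, 114), (43, 119), (50, 191), (50, 89), (50, 127), (54, 92), (54, 122), (58, 156), (68, 141), (68, 156), (68, 166), (68, 191), (68, 106), (68, 107), (68, 113), (68, 121), (68, 122), (69, 141), (69, 152), (69, 166), (69, 187), (69, 201), (69, 86), (69, 94), (69, 226), (71, 140), (71, 141), (71, 152), (71, 162), (71, 191), (71, 200), (71, 201), (71, 221), (71, 251), (79, 137), (79, 156), (79, 166), (79, 167), (79, 187), (79, 216), (79, 226), (79, 227), (79, 254), (84, 142), (84, 166), (84, 187), (84, 202), (84, 223), (84,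 226), (86, 167), (86, 227), (86, 254), (94, 143), (94, 154), (94, 203), (98, 140), (98, 149), (98, 167), (98, 182), (98, 203), (98, 218), (98, 232), (98, 241), (99, 158), (99, 181), (99, 209), (99, 242), (114, 181), (114, 209), (19, 247), (25, 145), (137, 158), (137, 163), (137, 184), (137, 199), (137, 218), (137, 228), (137, 253), (138, 149), (138, 168), (138, 209), (138, 239), (139, 178), (139, 247), (140, 202)]

/-- the reached codes -/
def reachP4 : List ℕ := [70, 124, 57, 101, 91, 34, 31, 116, 109, 83, 78, 49, 42, 23, 136, 228, 163, 199, 145, 178, 214, 253, 147, 138, 184, 169, 212, 197, 247, 238, 149, 196, 209, 168, 181, 241, 182, 139, 158, 239, 242, 218, 177, 172, 173, 151, 244, 232, 233, 211, 198, 188, 154, 142, 143, 248, 229, 223, 202, 203, 167, 27, 19, 140, 254, 227, 221, 200, 62, 61, 53, 47, 46, 251, 226, 216, 201, 166, 76, 106, 77, 107, 141, 92, 89, 127, 122, 121, 113, 156, 29, 191, 81, 119, 25,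 21, 187, 94, 58, 152, 86, 54, 84, 114, 50, 162, 108, 79, 98, 68, 38, 100, 17, 35, 39, 43, 69, 71, 99, 137]

theorem cohomP4 (f : ↥(Cfsg.Omega (ZMod 2) ⇑(QPlus (ZMod 2) 4)) → (Fin 4 ⊕ Fin 4 → ZMod 2))
    (hf : ∀ g h : ↥(Cfsg.Omega (ZMod 2) ⇑(QPlus (ZMod 2) 4)), f (g * h) = f g +
      Matrix.mulVec (((g : ↥(Cfsg.isometryGroup (ZMod 2) ⇑(QPlus (ZMod 2) 4))) :
        Matrix.GeneralLinearGroup (Fin 4 ⊕ Fin 4) (ZMod 2)) : Matrix (Fin 4 ⊕ Fin 4) (Fin 4 ⊕ Fin 4) (ZMod 2)) (f h)) :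
    ∃ v : Fin 4 ⊕ Fin 4 → ZMod 2, ∀ g : ↥(Cfsg.Omega (ZMod 2) ⇑(QPlus (ZMod 2) 4)), f g =
      Matrix.mulVec (((g : ↥(Cfsg.isometryGroup (ZMod 2) ⇑(QPlus (ZMod 2) 4))) :
        Matrix.GeneralLinearGroup (Fin 4 ⊕ Fin 4) (ZMod 2)) : Matrix (Fin 4 ⊕ Fin 4) (Fin 4 ⊕ Fin 4) (ZMod 2)) v - v :=
  cohom_cert (QPlus (ZMod 2) 4) nondegP4 hgenP4 hpairP4 qfP4 QP4_coe posP4 8 cardP4
    encP4 encP4_dec 17 [35, 39, 43, 69, 71, 99, 137] 1 [206, 91, 136, 57, 34, 31, 8] stepsP4 reachP4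
    (by decide) (by decide) (by decide +kernel) (by decide +kernel) (by decide +kernel)
    (by decide +kernel) (by decide +kernel) (by decide +kernel) (by decide +kernel)
    (by decide +kernel) f hf

end Cfsg.Agent.helper2.H1
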