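import Mathlib

set_option autoImplicit false

namespace Cfsg.Agent.helper2

variable {G : Type*} [Group G]

theorem mem_centralizer_single {g x : G} :
    g ∈ Subgroup.centralizer ({x} : Set G) ↔ x * g = g * x := by
  rw [Subgroup.mem_centralizer_iff]
  simp

theorem inv_of_order_two {x : G} (hx : orderOf x = 2) : x⁻¹ = x := by
  have : x * x = 1 := by rw [← sq, ← hx, pow_orderOf_eq_one]
  exact inv_eq_of_mul_eq_one_right this

theorem orderOf_conj' (g u : G) : orderOf (g * u * g⁻¹) = orderOf u := by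
  have := MulEquiv.orderOf_eq (MulAut.conj g) u
  rwa [MulAut.conj_apply] at this

theorem order_two_iff {x : G} : orderOf x = 2 ↔ x * x = 1 ∧ x ≠ 1 := by
  rw [orderOf_eq_prime_iff, sq]

/-- Pairs of involutions with product `x` correspond to involutions `t` with `t⁻¹ x` an involution. -/
def pairsEquiv (x : G) :
    {p : G × G // orderOf p.1 = 2 ∧ orderOf p.2 = 2 ∧ p.1 * p.2 = x} ≃
      {t : G // orderOf t = 2 ∧ orderOf (t⁻¹ * x) = 2} where
  toFun p := ⟨p.1.1, p.2.1, by
    have h : p.1.1⁻¹ * x = p.1.2 := by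
      have h := p.2.2.2
      exact inv_mul_eq_of_eq_mul h.symm
    rw [h]
    exact p.2.2.1⟩
  invFun t := ⟨(t.1, t.1⁻¹ * x), t.2.1, t.2.2, by simp⟩
  left_inv p := by
    obtain ⟨⟨u, v⟩, hu, hv, huv⟩ := p
    apply Subtype.ext
    simp only [Prod.mk.injEq, true_and]
    rw [← huv, inv_mul_cancel_left]
  right_inv t := by
    apply Subtype.ext
    rfl

theorem card_pairs (x : G) :
    Nat.card {p : G × G // orderOf p.1 = 2 ∧ orderOf p.2 = 2 ∧ p.1 * p.2 = x} =
      Nat.card {t : G // orderOf t = 2 ∧ orderOf (t⁻¹ * x) = 2} :=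
  Nat.card_congr (pairsEquiv x)

/-- For `x` not an involution or 1, the condition reads: `t` inverts `x`. -/
theorem inverts_iff {x t : G} (hx : x ^ 2 ≠ 1) (ht : orderOf t = 2) :
    orderOf (t⁻¹ * x) = 2 ↔ t * x * t⁻¹ = x⁻¹ := by
  have hti := inv_of_order_two ht
  rw [order_two_iff, hti]
  constructor
  · rintro ⟨h, -⟩
    have : t * x * t * x = 1 := by rw [← h]; group
    exact eq_inv_of_mul_eq_one_left this
  · intro h
    constructor
    · calc t * x * (t * x) = (t * x * t) * x := by group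
        _ = 1 := by rw [h, inv_mul_cancel]
    · intro h1
      apply hx
      have : x = t := by
        have := eq_inv_of_mul_eq_one_right h1
        rw [this, hti]
      rw [this, sq]
      exact (order_two_iff.mp ht).1

/-- For `x` an involution the condition reads: `t` commutes with `x` and `t ≠ x`. -/
theorem commutes_iff {x t : G} (hx : orderOf x = 2) (ht : orderOf t = 2) :
    orderOf (t⁻¹ * x) = 2 ↔ Commute t x ∧ t ≠ x := by
  have hti := inv_of_order_two ht
  have hxi := inv_of_order_two hx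
  have hx2 := (order_two_iff.mp hx).1
  have ht2 := (order_two_iff.mp ht).1
  rw [order_two_iff, hti]
  constructor
  · rintro ⟨h, h1⟩
    constructor
    · have h2 : t * x = (t * x)⁻¹ := (inv_eq_of_mul_eq_one_right h).symm
      rw [mul_inv_rev, hti, hxi] at h2
      exact h2
    · intro h2
      apply h1
      rw [h2]; exact hx2
  · rintro ⟨h, h1⟩
    constructor
    · have : t * x = x * t := h
      calc t * x * (t * x) = t * (x * t) * x := by group
        _ = t * (t * x) * x := by rw [this]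
        _ = (t * t) * (x * x) := by group
        _ = 1 := by rw [hx2, ht2, one_mul]
    · intro h2
      apply h1
      have := eq_inv_of_mul_eq_one_left h2
      rw [this, hxi]

end Cfsg.Agent.helper2

namespace Cfsg.Agent.helper2

variable {G : Type*} [Group G]

theorem card_pairs_inverting (x : G) (hx : x ^ 2 ≠ 1) :
    Nat.card {p : G × G // orderOf p.1 = 2 ∧ orderOf p.2 = 2 ∧ p.1 * p.2 = x} =
      Nat.card {t : G // orderOf t = 2 ∧ t * x * t⁻¹ = x⁻¹} := by
  rw [card_pairs]
  apply Nat.card_congr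
  apply Equiv.subtypeEquivRight
  intro t
  constructor
  · rintro ⟨h1, h2⟩; exact ⟨h1, (inverts_iff hx h1).mp h2⟩
  · rintro ⟨h1, h2⟩; exact ⟨h1, (inverts_iff hx h1).mpr h2⟩

theorem card_pairs_commuting [Finite G] (x : G) (hx : orderOf x = 2) :
    Nat.card {p : G × G // orderOf p.1 = 2 ∧ orderOf p.2 = 2 ∧ p.1 * p.2 = x} + 1 =
      Nat.card {t : G // orderOf t = 2 ∧ Commute t x} := by
  classical
  have := Fintype.ofFinite G
  rw [card_pairs, Nat.card_eq_fintype_card, Nat.card_eq_fintype_card, Fintype.card_subtype,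
    Fintype.card_subtype]
  have hset : (Finset.univ.filter fun t : G => orderOf t = 2 ∧ Commute t x) =
      insert x (Finset.univ.filter fun t : G => orderOf t = 2 ∧ orderOf (t⁻¹ * x) = 2) := by
    ext t
    simp only [Finset.mem_filter, Finset.mem_univ, true_and, Finset.mem_insert]
    constructor
    · rintro ⟨h1, h2⟩
      by_cases h : t = x
      · exact Or.inl h
      · exact Or.inr ⟨h1, (commutes_iff hx h1).mpr ⟨h2, h⟩⟩
    · rintro (h | ⟨h1, h2⟩)
      · subst h; exact ⟨hx, Commute.refl _⟩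
      · exact ⟨h1, ((commutes_iff hx h1).mp h2).1⟩
  rw [hset, Finset.card_insert_of_notMem]
  simp only [Finset.mem_filter, Finset.mem_univ, true_and, not_and]
  intro _
  rw [inv_mul_cancel, orderOf_one]
  norm_num

/-- The elements conjugating `x` to `x⁻¹` form a coset of the centralizer. -/
theorem card_inverting (x : G) (hreal : IsConj x x⁻¹) :
    Nat.card {g : G // g * x * g⁻¹ = x⁻¹} = Nat.card (Subgroup.centralizer ({x} : Set G)) := by
  obtain ⟨g0, hg0⟩ := isConj_iff.mp hreal
  symm
  apply Nat.card_congr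
  refine ⟨fun c => ⟨g0 * c.1, ?_⟩, fun g => ⟨g0⁻¹ * g.1, ?_⟩, ?_, ?_⟩
  · have hc := mem_centralizer_single.mp c.2
    calc g0 * c.1 * x * (g0 * c.1)⁻¹ = g0 * (c.1 * x) * c.1⁻¹ * g0⁻¹ := by group
      _ = g0 * (x * c.1) * c.1⁻¹ * g0⁻¹ := by rw [hc]
      _ = g0 * x * g0⁻¹ := by group
      _ = x⁻¹ := hg0
  · rw [mem_centralizer_single]
    obtain ⟨g, hg⟩ := g
    simp only
    have h1 : x * g0⁻¹ = g0⁻¹ * x⁻¹ := by rw [← hg0]; group
    have h2 : x⁻¹ * g = g * x := by rw [← hg]; group
    calc x * (g0⁻¹ * g) = (x * g0⁻¹) * g := by group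
      _ = g0⁻¹ * (x⁻¹ * g) := by rw [h1]; group
      _ = g0⁻¹ * g * x := by rw [h2]; group
  · intro c; apply Subtype.ext; simp
  · intro g; apply Subtype.ext; simp

end Cfsg.Agent.helper2

namespace Cfsg.Agent.helper2

variable {G : Type*} [Group G]

theorem sq_commute_of_inverts {g x : G} (h : g * x * g⁻¹ = x⁻¹) : Commute (g ^ 2) x := by
  have h' : g * x⁻¹ * g⁻¹ = x := by
    have := congrArg (fun z => z⁻¹) h
    simp only [mul_inv_rev, inv_inv] at this
    rw [← mul_assoc] at this
    exact this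
  unfold Commute SemiconjBy
  rw [sq]
  calc g * g * x = g * (g * x * g⁻¹) * g⁻¹ * (g * g) := by group
    _ = g * x⁻¹ * g⁻¹ * (g * g) := by rw [h]
    _ = x * (g * g) := by rw [h']

theorem odd_pow_inverts {g x : G} (h : g * x * g⁻¹ = x⁻¹) (j : ℕ) :
    g ^ (2 * j + 1) * x * (g ^ (2 * j + 1))⁻¹ = x⁻¹ := by
  have hc : Commute (g ^ (2 * j)) x⁻¹ := by
    rw [pow_mul]
    exact ((sq_commute_of_inverts h).pow_left j).inv_right
  calc g ^ (2 * j + 1) * x * (g ^ (2 * j + 1))⁻¹
      = g ^ (2 * j) * (g * x * g⁻¹) * (g ^ (2 * j))⁻¹ := by rw [pow_succ]; group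
    _ = g ^ (2 * j) * x⁻¹ * (g ^ (2 * j))⁻¹ := by rw [h]
    _ = x⁻¹ := by rw [hc.eq]; group

end Cfsg.Agent.helper2

namespace Cfsg.Agent.helper2

variable {G : Type*} [Group G]

/-- Orbit-stabilizer for conjugation, in `Nat.card` form. -/
theorem card_conj_mul_card_centralizer [Finite G] (x : G) :
    Nat.card {y : G // IsConj x y} * Nat.card (Subgroup.centralizer ({x} : Set G)) = Nat.card G := by
  have e := MulAction.orbitProdStabilizerEquivGroup (ConjAct G) x
  have h1 := Nat.card_congr e
  rw [Nat.card_prod, ← Subgroup.nat_card_centralizer_nat_card_stabilizer] at h1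
  have h2 : Nat.card (MulAction.orbit (ConjAct G) x) = Nat.card {y : G // IsConj x y} := by
    apply Nat.card_congr
    apply Equiv.subtypeEquivRight
    intro y
    rw [ConjAct.mem_orbit_conjAct, isConj_comm]
  rw [h2] at h1
  rw [h1]
  rfl

end Cfsg.Agent.helper2
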