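import Mathlib
import Cfsg.Agent.Lib_helper2_M24m

set_option autoImplicit false
set_option linter.constructorNameAsVariable false

namespace Cfsg.Agent.helper2.Golay

open Cfsg Cfsg.Agent.helper27
open scoped Pointwise

/-! ### Dodecads through / avoiding given base points, classified by intersection with the base
dodecad -/

/-- Class of a code word index: the intersection size with the base dodecad, for dodecads
containing the points `inP` and avoiding the points `outP` (99 otherwise). -/
def dodCls (inP outP : List ℕ) (m : ℕ) : ℕ :=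
  if wt (cw m) = 12 ∧ (inP.all fun i => (cw m).testBit i) = true ∧
      (outP.all fun i => !(cw m).testBit i) = true then wt (d0m &&& cw m) else 99

theorem dodCls_mem (inP outP : List ℕ) (hin : ∀ i ∈ inP, i < 24) (hout : ∀ i ∈ outP, i < 24)
    (k : ℕ) (hk : k ≠ 99) (s : Finset GolayPt) :
    (s ∈ dodecads ∧ (∀ i ∈ inP, pt i ∈ s) ∧ (∀ i ∈ outP, pt i ∉ s) ∧
        (pts d0m ∩ s).card = k) ↔
      ∃ m < 4096, dodCls inP outP m = k ∧ s = pts (cw m) := by
  constructor
  · rintro ⟨hs, hp, hq, hc⟩
    obtain ⟨m, hm, hw, rfl⟩ := exists_of_mem_dodecads hs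
    refine ⟨m, hm, ?_, rfl⟩
    unfold dodCls
    rw [if_pos, ← card_pts, pts_and]
    · exact hc
    · refine ⟨hw, ?_, ?_⟩
      · rw [List.all_eq_true]
        intro i hi
        exact (mem_pts_pt (hin i hi)).mp (hp i hi)
      · rw [List.all_eq_true]
        intro i hi
        have := hq i hi
        rw [mem_pts_pt (hout i hi)] at this
        simpa using this
  · rintro ⟨m, hm, hc, rfl⟩
    unfold dodCls at hc
    split_ifs at hc with hw
    · obtain ⟨hw8, hi, ho⟩ := hw
      rw [List.all_eq_true] at hi ho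
      refine ⟨pts_mem_dodecads hm hw8, ?_, ?_, ?_⟩
      · intro i hii
        exact (mem_pts_pt (hin i hii)).mpr (hi i hii)
      · intro i hii
        rw [mem_pts_pt (hout i hii)]
        have := ho i hii
        simpa using this
      · rw [← pts_and, card_pts]
        exact hc
    · exact absurd hc.symm hk

theorem dodCls_count (inP outP : List ℕ) (hin : ∀ i ∈ inP, i < 24) (hout : ∀ i ∈ outP, i < 24)
    (k : ℕ) (hk : k ≠ 99) :
    {s : Finset GolayPt | s ∈ dodecads ∧ (∀ i ∈ inP, pt i ∈ s) ∧ (∀ i ∈ outP, pt i ∉ s) ∧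
        (pts d0m ∩ s).card = k}.ncard
      = ((Finset.range 4096).filter (fun m => dodCls inP outP m = k)).card :=
  ncard_cls (dodCls inP outP) k _ (fun s => dodCls_mem inP outP hin hout k hk s)

theorem inter_d0_le (s : Finset GolayPt) : (pts d0m ∩ s).card ≤ 12 := by
  have := Finset.card_le_card (Finset.inter_subset_left (s₁ := pts d0m) (s₂ := s))
  rw [card_pts] at this
  have h8 : wt d0m = 12 := by decide +kernel
  omega

theorem dodCls_trans (inP outP : List ℕ) (hin : ∀ i ∈ inP, i < 24) (hout : ∀ i ∈ outP, i < 24)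
    (K : Subgroup (Equiv.Perm GolayPt)) (gens : List (List ℕ × List ℕ))
    (hgens : ∀ d ∈ gens, tablesOK d.1 d.2 = true ∧ gperm d ∈ K)
    (trees : List (List (ℕ × ℕ × ℕ))) (hT : trees.all (treeOK gens) = true)
    (hlen : trees.length = 13)
    (hall : ∀ m < 4096, dodCls inP outP m < trees.length →
      (trees.getD (dodCls inP outP m) []).any (fun e => e.1 == cw m) = true)
    {s t : Finset GolayPt} (hs : s ∈ dodecads) (ht : t ∈ dodecads)
    (hins : ∀ i ∈ inP, pt i ∈ s) (hint : ∀ i ∈ inP, pt i ∈ t)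
    (houts : ∀ i ∈ outP, pt i ∉ s) (houtt : ∀ i ∈ outP, pt i ∉ t)
    (h : (pts d0m ∩ s).card = (pts d0m ∩ t).card) :
    ∃ g ∈ K, g • s = t := by
  have h99 : ∀ u : Finset GolayPt, (pts d0m ∩ u).card ≠ 99 := by
    intro u
    have := inter_d0_le u
    omega
  obtain ⟨m, hm, hcm, rfl⟩ := (dodCls_mem inP outP hin hout _ (h99 s) s).mp ⟨hs, hins, houts, rfl⟩
  obtain ⟨m', hm', hcm', rfl⟩ := (dodCls_mem inP outP hin hout _ (h99 t) t).mp
    ⟨ht, hint, houtt, rfl⟩
  have hlt : dodCls inP outP m < trees.length := by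
    rw [hcm, hlen]
    have := inter_d0_le (pts (cw m))
    omega
  exact rank_reach K gens hgens trees hT (dodCls inP outP) hall hm hm' hlt (by rw [hcm, hcm', h])

/-- Map a dodecad to the base dodecad and a chosen point of it to `pt 23`. -/
theorem dodecad_pt_to_base {d : Finset GolayPt} (hd : d ∈ dodecads) {x : GolayPt} (hx : x ∈ d) :
    ∃ h ∈ M24, h x = pt 23 ∧ h • d = pts d0m := by
  obtain ⟨x5, hx5, hx50⟩ := exists_emb_through (s := d)
    (by rw [card_of_mem_dodecads hd]; norm_num) hx 0
  obtain ⟨g, hg, hgx, hgd⟩ := dodecad_to_base hd x5 hx5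
  refine ⟨g, hg, ?_, hgd⟩
  rw [← hx50, hgx 0]
  rfl

end Cfsg.Agent.helper2.Golay
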