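import Mathlib
import Cfsg.Agent.Lib_helper2_M24q

set_option autoImplicit false
set_option linter.constructorNameAsVariable false

namespace Cfsg.Agent.helper2.Golay

open Cfsg Cfsg.Agent.helper27
open scoped Pointwise

open Classical in
/-- The class of a triple `U` relative to a triple `T`: the size of the intersection if they
meet, otherwise `4` or `5` according as `T ∪ U` lies in an octad or not. -/
noncomputable def cl3 (T U : Finset GolayPt) : ℕ :=
  if (T ∩ U).card ≠ 0 then (T ∩ U).card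
  else if ∃ o ∈ octads, T ∪ U ⊆ o then 4 else 5

theorem in_octad_smul {h : Equiv.Perm GolayPt} (hh : h ∈ M24) (V : Finset GolayPt) :
    (∃ o ∈ octads, h • V ⊆ o) ↔ ∃ o ∈ octads, V ⊆ o := by
  constructor
  · rintro ⟨o, ho, hV⟩
    refine ⟨h⁻¹ • o, smul_mem_octads' (Subgroup.inv_mem _ hh) ho, ?_⟩
    intro x hx
    rw [← perm_mem_smul_iff h, smul_inv_smul]
    exact hV ((perm_mem_smul_iff h x V).mpr hx)
  · rintro ⟨o, ho, hV⟩
    refine ⟨h • o, smul_mem_octads' hh ho, ?_⟩
    exact Finset.smul_finset_subset_smul_finset hV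

theorem cl3_smul {h : Equiv.Perm GolayPt} (hh : h ∈ M24) (T U : Finset GolayPt) :
    cl3 (h • T) (h • U) = cl3 T U := by
  unfold cl3
  rw [card_smul_inter]
  have e : (∃ o ∈ octads, h • T ∪ h • U ⊆ o) ↔ ∃ o ∈ octads, T ∪ U ⊆ o := by
    rw [← Finset.smul_finset_union]
    exact in_octad_smul hh _
  by_cases h0 : (T ∩ U).card ≠ 0
  · rw [if_pos h0, if_pos h0]
  · rw [if_neg h0, if_neg h0]
    by_cases h1 : ∃ o ∈ octads, T ∪ U ⊆ o
    · rw [if_pos h1, if_pos (e.mpr h1)]
    · rw [if_neg h1, if_neg (fun hc => h1 (e.mp hc))]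

theorem T0m_lt : T0m < 2 ^ 24 := by decide

theorem or_lt {a b : ℕ} (ha : a < 2 ^ 24) (hb : b < 2 ^ 24) : a ||| b < 2 ^ 24 :=
  Nat.or_lt_two_pow ha hb

theorem in_octad_base {a : ℕ} (ha : a < 2 ^ 24) :
    (∃ o ∈ octads, pts T0m ∪ pts a ⊆ o) ↔
      oct21.any (fun m => (T0m ||| a) &&& cw m == (T0m ||| a)) = true := by
  rw [← pts_or, List.any_eq_true]
  have hlt := or_lt T0m_lt ha
  constructor
  · rintro ⟨o, ho, hsub⟩
    obtain ⟨m, hm, hw, rfl⟩ := exists_of_mem_octads ho
    have h1 := (pts_subset_iff hlt).mp hsub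
    refine ⟨m, List.contains_iff_mem.mp (oct21_all m hm hw ?_), by rw [beq_iff_eq]; exact h1⟩
    apply (pts_subset_iff T0m_lt).mp
    refine Finset.Subset.trans ?_ hsub
    rw [pts_or]
    exact Finset.subset_union_left
  · rintro ⟨m, hm, hmm⟩
    rw [beq_iff_eq] at hmm
    obtain ⟨hm4, hw⟩ := oct21_ok m hm
    exact ⟨pts (cw m), pts_mem_octads hm4 hw, (pts_subset_iff hlt).mpr hmm⟩

theorem cl3_base {a : ℕ} (ha : a < 2 ^ 24) : cl3 (pts T0m) (pts a) = cls3 a := by
  unfold cl3 cls3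
  rw [← pts_and, card_pts]
  by_cases h0 : wt (T0m &&& a) ≠ 0
  · rw [if_pos h0, if_pos h0]
  · rw [if_neg h0, if_neg h0]
    by_cases h1 : oct21.any (fun m => (T0m ||| a) &&& cw m == (T0m ||| a)) = true
    · rw [if_pos ((in_octad_base ha).mpr h1), if_pos h1]
    · rw [if_neg (fun hc => h1 ((in_octad_base ha).mp hc)), if_neg h1]

theorem base_mem3 (i : ℕ) (U : Finset GolayPt) :
    (U.card = 3 ∧ cl3 (pts T0m) U = i) ↔
      ∃ a ∈ threeSets.filter (fun a => cls3 a = i), U = pts a := by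
  constructor
  · rintro ⟨hU, hc⟩
    obtain ⟨a, ha, rfl⟩ := exists_threeSet hU
    refine ⟨a, List.mem_filter.mpr ⟨ha, ?_⟩, rfl⟩
    rw [decide_eq_true_eq, ← cl3_base (threeSets_lt a ha)]
    exact hc
  · rintro ⟨a, ha, rfl⟩
    rw [List.mem_filter, decide_eq_true_eq] at ha
    refine ⟨by rw [card_pts, threeSets_wt a ha.1], ?_⟩
    rw [cl3_base (threeSets_lt a ha.1)]
    exact ha.2

theorem base_count3 (i : ℕ) :
    {U : Finset GolayPt | U.card = 3 ∧ cl3 (pts T0m) U = i}.ncard
      = (threeSets.filter (fun a => cls3 a = i)).toFinset.card :=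
  ncard_maskList _ (fun a ha => threeSets_lt a (List.mem_filter.mp ha).1) _ (base_mem3 i)

theorem cls3_le (a : ℕ) (ha : a ∈ threeSets) : cls3 a < t3s.length := by
  have h2 : t3s.length = 6 := by decide +kernel
  rw [h2]
  unfold cls3
  have h1 : wt (T0m &&& a) ≤ 3 := by
    have := Finset.card_le_card (Finset.inter_subset_right (s₁ := pts T0m) (s₂ := pts a))
    rw [← pts_and, card_pts, card_pts, threeSets_wt a ha] at this
    exact this
  split_ifs <;> omega

theorem base_trans3 {U U' : Finset GolayPt} (hU : U.card = 3) (hU' : U'.card = 3)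
    (h : cl3 (pts T0m) U = cl3 (pts T0m) U') : ∃ g ∈ cfgStab [] [T0m], g • U = U' := by
  obtain ⟨a, ha, rfl⟩ := exists_threeSet hU
  obtain ⟨a', ha', rfl⟩ := exists_threeSet hU'
  rw [cl3_base (threeSets_lt a ha), cl3_base (threeSets_lt a' ha')] at h
  exact rank_reach_list _ g3s (cfgGens_mem g3s_ok) t3s t3s_ok cls3 threeSets t3s_all ha ha'
    (cls3_le a ha) h

theorem triple_to_base {T : Finset GolayPt} (hT : T.card = 3) :
    ∃ h ∈ M24, h • T = pts T0m := by
  obtain ⟨h, hh, hhT⟩ := kset_to_base (by norm_num) hT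
  rw [baseSet_three] at hhT
  exact ⟨h, hh, hhT⟩

/-- Counting the triples in a given class relative to any triple. -/
theorem count3 {T : Finset GolayPt} (hT : T.card = 3) (i : ℕ) :
    {U : Finset GolayPt | U.card = 3 ∧ cl3 T U = i}.ncard
      = (threeSets.filter (fun a => cls3 a = i)).toFinset.card := by
  obtain ⟨h, hh, hhT⟩ := triple_to_base hT
  rw [← base_count3 i]
  apply ncard_smul_eq h
  intro U
  rw [Set.mem_ofPred_eq, Set.mem_ofPred_eq, Finset.card_smul_finset, ← hhT, cl3_smul hh]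

/-- The stabiliser of a triple is transitive on each class of triples. -/
theorem trans3 {T U U' : Finset GolayPt} (hT : T.card = 3) (hU : U.card = 3) (hU' : U'.card = 3)
    (h : cl3 T U = cl3 T U') : ∃ g ∈ M24, g • T = T ∧ g • U = U' := by
  obtain ⟨k, hk, hkT⟩ := triple_to_base hT
  have h1 : cl3 (pts T0m) (k • U) = cl3 (pts T0m) (k • U') := by
    rw [← hkT, cl3_smul hk, cl3_smul hk]
    exact h
  obtain ⟨g0, hg0, hg0U⟩ := base_trans3 (by rw [Finset.card_smul_finset]; exact hU)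
    (by rw [Finset.card_smul_finset]; exact hU') h1
  obtain ⟨c1, -, c3, c4⟩ := conj_cfg hk hg0
  exact ⟨k⁻¹ * g0 * k, c1, c3 T0m (List.mem_singleton.mpr rfl) T hkT, c4 U U' hg0U⟩

theorem cl3_eq_four {T U : Finset GolayPt} (hT : T.card = 3) :
    cl3 T U = 4 ↔ Disjoint T U ∧ ∃ o ∈ octads, T ∪ U ⊆ o := by
  unfold cl3
  have hle : (T ∩ U).card ≤ 3 := by
    have := Finset.card_le_card (Finset.inter_subset_left (s₁ := T) (s₂ := U))
    omega
  rw [Finset.disjoint_iff_inter_eq_empty, ← Finset.card_eq_zero]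
  by_cases h0 : (T ∩ U).card ≠ 0
  · rw [if_pos h0]
    constructor
    · intro h
      omega
    · intro h
      exact absurd h.1 h0
  · rw [if_neg h0]
    push Not at h0
    by_cases h1 : ∃ o ∈ octads, T ∪ U ⊆ o
    · rw [if_pos h1]
      exact ⟨fun _ => ⟨h0, h1⟩, fun _ => rfl⟩
    · rw [if_neg h1]
      constructor
      · intro h
        omega
      · intro h
        exact absurd h.2 h1

theorem cl3_eq_five {T U : Finset GolayPt} (hT : T.card = 3) :
    cl3 T U = 5 ↔ Disjoint T U ∧ ¬ ∃ o ∈ octads, T ∪ U ⊆ o := by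
  unfold cl3
  have hle : (T ∩ U).card ≤ 3 := by
    have := Finset.card_le_card (Finset.inter_subset_left (s₁ := T) (s₂ := U))
    omega
  rw [Finset.disjoint_iff_inter_eq_empty, ← Finset.card_eq_zero]
  by_cases h0 : (T ∩ U).card ≠ 0
  · rw [if_pos h0]
    constructor
    · intro h
      omega
    · intro h
      exact absurd h.1 h0
  · rw [if_neg h0]
    push Not at h0
    by_cases h1 : ∃ o ∈ octads, T ∪ U ⊆ o
    · rw [if_pos h1]
      constructor
      · intro h
        omega
      · intro h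
        exact absurd h1 h.2
    · rw [if_neg h1]
      exact ⟨fun _ => ⟨h0, h1⟩, fun _ => rfl⟩

end Cfsg.Agent.helper2.Golay
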