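import Mathlib
import Cfsg.Agent.Lib_helper2_M24s

set_option autoImplicit false
set_option linter.constructorNameAsVariable false

namespace Cfsg.Agent.helper2.Golay

open Cfsg Cfsg.Agent.helper27
open scoped Pointwise

def leaves0 : List (List ℕ × ℕ) := [
  ([18, 1, 13, 3, 4, 11, 9, 19, 8, 6, 10, 5, 16, 2, 23, 15, 12, 22, 0, 7, 20, 21, 17, 14], 1306),
  ([0, 12, 2, 3, 10, 8, 18, 7, 5, 9, 4, 15, 1, 23, 14, 11, 21, 22, 6, 19, 20, 16, 17, 13], 653),
  ([0, 22, 5, 16, 7, 2, 17, 4, 8, 9, 10, 15, 18, 13, 14, 11, 3, 6, 12, 23, 20, 21, 1, 19], 1793),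
  ([1, 0, 5, 23, 4, 2, 13, 7, 10, 9, 8, 11, 15, 6, 17, 12, 16, 14, 18, 19, 20, 22, 21, 3], 2704),
  ([15, 1, 2, 18, 21, 5, 13, 19, 14, 9, 10, 11, 12, 6, 8, 0, 22, 17, 3, 7, 23, 4, 16, 20], 3622),
  ([5, 16, 20, 3, 4, 0, 6, 11, 13, 9, 12, 7, 10, 8, 18, 15, 1, 17, 14, 23, 2, 21, 22, 19], 600),
  ([0, 1, 19, 3, 5, 4, 21, 7, 15, 9, 22, 17, 13, 12, 20, 8, 16, 11, 18, 2, 14, 6, 10, 23], 651),
  ([11, 3, 2, 1, 23, 5, 6, 21, 14, 9, 10, 0, 16, 17, 8, 15, 12, 13, 18, 20, 19, 7, 22, 4], 1636)]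

set_option maxRecDepth 1000000 in
def nops0 : List (ℕ × ℕ × ℕ × List ℕ) := [
  (0, 0, 0, []), (0, 0, 1, []), (0, 2, 9, []), (0, 0, 2, []),
  (0, 0, 10, []), (0, 1, 10, []), (0, 2, 11, []), (0, 1, 12, []),
  (0, 1, 14, []), (0, 3, 1, []), (0, 3, 15, []), (0, 2, 3, []),
  (0, 1, 17, []), (0, 1, 18, []), (0, 0, 20, []), (0, 2, 5, []),
  (0, 23, 23, []), (0, 23, 24, []), (0, 6, 23, []), (0, 6, 24, []),
  (0, 6, 25, []), (0, 23, 27, []), (0, 23, 28, []), (0, 23, 29, []),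
  (0, 6, 29, []), (0, 23, 30, []), (0, 23, 31, []), (0, 6, 31, []),
  (0, 23, 32, []), (0, 23, 33, []), (0, 23, 35, []), (0, 6, 37, []),
  (0, 23, 38, []), (0, 23, 39, []), (0, 23, 40, []), (0, 6, 41, []),
  (0, 14, 7, []), (1, 37, 0, [19, 16, 12, 22, 15, 2, 4, 13, 10, 9, 14, 0, 1, 11, 8, 6, 18, 21, 5, 20, 7, 17, 3, 23]), (0, 45, 44, []), (0, 46, 32, []),
  (0, 6, 46, []), (0, 46, 46, []), (0, 46, 48, []), (0, 6, 49, []),
  (0, 6, 50, []), (0, 46, 50, []), (0, 46, 51, []), (0, 46, 52, []),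
  (0, 6, 53, []), (0, 46, 53, []), (0, 6, 54, []), (0, 46, 54, []),
  (0, 6, 55, []), (0, 46, 56, []), (0, 46, 57, []), (0, 46, 58, []),
  (0, 6, 59, []), (0, 46, 59, []), (0, 46, 60, []), (0, 46, 62, []),
  (0, 1, 5, []), (0, 2, 68, []), (1, 36, 0, [17, 13, 15, 14, 21, 12, 8, 10, 0, 9, 4, 18, 19, 11, 3, 2, 16, 6, 1, 20, 5, 7, 22, 23]), (0, 70, 69, []),
  (1, 63, 0, [0, 16, 22, 20, 10, 19, 2, 1, 12, 8, 3, 18, 14, 6, 15, 5, 21, 7, 17, 13, 11, 4, 9, 23]), (0, 72, 71, []), (0, 6, 73, []), (0, 74, 6, []),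
  (0, 74, 75, []), (0, 6, 76, []), (0, 74, 74, []), (0, 3, 4, []),
  (0, 4, 79, []), (0, 33, 80, []), (1, 49, 0, [0, 5, 7, 18, 22, 11, 17, 16, 8, 21, 10, 1, 4, 9, 14, 3, 2, 19, 15, 6, 20, 13, 12, 23]), (0, 82, 81, []),
  (0, 83, 6, []), (0, 83, 75, []), (0, 83, 76, []), (0, 6, 83, []),
  (0, 83, 83, []), (0, 6, 84, []), (0, 74, 84, []), (0, 83, 84, []),
  (0, 6, 85, []), (0, 74, 85, []), (0, 74, 86, []), (0, 74, 87, []),
  (0, 74, 90, []), (0, 74, 93, []), (0, 83, 95, []), (0, 4, 68, []),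
  (1, 11, 0, [12, 22, 13, 16, 7, 15, 9, 23, 8, 17, 10, 2, 3, 5, 19, 11, 18, 1, 0, 4, 20, 21, 6, 14]), (0, 100, 99, []), (1, 26, 0, [5, 22, 19, 1, 20, 11, 21, 4, 7, 9, 16, 6, 8, 14, 2, 13, 3, 15, 10, 0, 18, 17, 12, 23]), (0, 102, 101, []),
  (1, 48, 0, [0, 11, 16, 22, 1, 3, 9, 19, 4, 13, 18, 7, 21, 15, 8, 20, 6, 5, 12, 17, 10, 2, 14, 23]), (0, 104, 103, []), (1, 98, 0, [0, 1, 8, 9, 11, 22, 3, 10, 7, 20, 16, 5, 4, 18, 14, 17, 2, 19, 15, 13, 21, 6, 12, 23]), (0, 106, 105, []),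
  (0, 107, 78, []), (0, 74, 107, []), (0, 107, 107, []), (0, 74, 108, []),
  (0, 107, 108, []), (0, 74, 109, []), (0, 107, 109, []), (0, 74, 110, []),
  (0, 74, 111, []), (0, 107, 111, []), (0, 74, 114, []), (0, 0, 99, []),
  (0, 119, 79, []), (0, 1, 120, []), (1, 42, 0, [5, 14, 3, 16, 17, 10, 11, 4, 12, 9, 13, 19, 22, 2, 18, 7, 0, 6, 20, 15, 8, 21, 1, 23]), (0, 122, 121, []),
  (1, 54, 0, [0, 19, 1, 10, 18, 5, 6, 7, 14, 4, 20, 22, 8, 17, 12, 11, 13, 16, 9, 2, 3, 21, 15, 23]), (0, 124, 123, []), (0, 125, 110, []), (0, 125, 111, []),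
  (0, 125, 118, []), (0, 125, 125, []), (0, 6, 79, []), (0, 0, 130, []),
  (0, 25, 131, []), (1, 66, 0, [0, 17, 22, 4, 8, 19, 9, 3, 12, 10, 1, 14, 18, 6, 21, 7, 15, 5, 16, 13, 11, 20, 2, 23]), (0, 133, 132, []), (0, 73, 134, []),
  (1, 118, 0, [0, 1, 2, 4, 15, 16, 18, 11, 14, 19, 21, 5, 17, 10, 22, 6, 20, 13, 3, 8, 7, 12, 9, 23]), (0, 136, 135, []), (0, 130, 79, []), (0, 3, 138, []),
  (0, 31, 139, []), (1, 64, 0, [0, 22, 13, 15, 19, 10, 4, 2, 18, 17, 9, 7, 21, 11, 14, 3, 6, 5, 8, 16, 20, 1, 12, 23]), (0, 141, 140, []), (1, 83, 0, [0, 1, 3, 12, 10, 22, 18, 7, 11, 14, 2, 19, 4, 8, 15, 17, 13, 21, 20, 16, 5, 9, 6, 23]),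
  (0, 143, 142, []), (1, 109, 0, [0, 1, 2, 6, 18, 7, 4, 16, 9, 14, 17, 20, 10, 12, 19, 3, 11, 21, 15, 22, 5, 13, 8, 23]), (0, 145, 144, []), (0, 146, 137, []),
  (1, 86, 0, [0, 1, 21, 3, 9, 12, 20, 17, 4, 2, 19, 18, 10, 11, 22, 6, 5, 15, 14, 16, 7, 8, 13, 23]), (0, 138, 120, []), (1, 18, 0, [3, 21, 5, 15, 4, 2, 13, 14, 19, 17, 11, 8, 23, 6, 9, 22, 16, 7, 18, 10, 20, 12, 0, 1]), (0, 150, 149, []),
  (0, 45, 151, []), (1, 59, 0, [0, 22, 16, 15, 10, 19, 1, 2, 3, 17, 12, 5, 11, 21, 20, 18, 6, 7, 8, 13, 14, 4, 9, 23]), (0, 153, 152, []), (0, 148, 154, []),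
  (1, 110, 0, [0, 1, 2, 8, 21, 11, 14, 5, 9, 4, 22, 20, 10, 19, 12, 13, 7, 18, 15, 17, 16, 3, 6, 23]), (0, 156, 155, []), (0, 157, 146, []), (0, 157, 147, []),
  (0, 137, 157, []), (0, 146, 157, []), (0, 137, 158, []), (0, 146, 158, []),
  (0, 157, 158, []), (0, 137, 159, []), (0, 146, 159, []), (0, 146, 160, []),
  (0, 146, 162, []), (0, 99, 7, []), (1, 16, 0, [12, 0, 15, 18, 10, 8, 3, 7, 13, 17, 23, 2, 6, 4, 19, 11, 21, 22, 1, 14, 20, 16, 9, 5]), (0, 170, 169, []),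
  (1, 27, 0, [20, 16, 19, 22, 2, 15, 21, 11, 4, 9, 3, 17, 13, 18, 0, 8, 1, 7, 12, 5, 10, 6, 14, 23]), (0, 172, 171, []), (1, 65, 0, [0, 5, 7, 9, 15, 22, 16, 13, 14, 21, 20, 19, 18, 4, 12, 10, 1, 2, 11, 6, 3, 17, 8, 23]), (0, 174, 173, []),
  (0, 143, 175, []), (0, 117, 176, []), (1, 163, 0, [0, 1, 2, 3, 20, 17, 7, 21, 16, 12, 18, 4, 13, 9, 5, 8, 15, 14, 22, 19, 11, 6, 10, 23]), (0, 178, 177, []),
  (0, 179, 179, []), (0, 22, 35, []), (0, 181, 65, []), (0, 182, 85, []),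
  (0, 183, 109, []), (0, 184, 162, []), (0, 185, 179, []), (0, 22, 37, []),
  (0, 187, 67, []), (0, 188, 76, []), (0, 189, 109, []), (0, 190, 160, []),
  (0, 22, 39, []), (0, 192, 64, []), (0, 193, 76, []), (0, 194, 128, []),
  (0, 195, 137, []), (0, 196, 180, []), (0, 22, 23, []), (0, 198, 59, []),
  (0, 199, 75, []), (0, 200, 168, []), (0, 201, 179, []), (0, 22, 47, []),
  (0, 203, 52, []), (0, 204, 85, []), (0, 205, 110, []), (0, 206, 179, []),
  (0, 22, 34, []), (0, 208, 61, []), (0, 209, 83, []), (0, 210, 167, []),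
  (0, 211, 179, []), (0, 22, 25, []), (0, 213, 60, []), (0, 214, 77, []),
  (0, 215, 129, []), (0, 216, 163, []), (0, 19, 34, []), (0, 218, 107, []),
  (0, 219, 146, []), (0, 220, 179, []), (0, 19, 43, []), (0, 222, 67, []),
  (0, 223, 89, []), (0, 224, 78, []), (0, 225, 161, []), (0, 0, 34, []),
  (0, 227, 49, []), (0, 228, 91, []), (0, 229, 116, []), (0, 230, 158, []),
  (0, 231, 179, []), (0, 18, 26, []), (0, 233, 58, []), (0, 234, 115, []),
  (0, 235, 147, []), (0, 236, 179, []), (0, 18, 40, []), (0, 238, 50, []),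
  (0, 239, 83, []), (0, 240, 116, []), (0, 241, 162, []), (0, 242, 179, []),
  (0, 18, 43, []), (0, 244, 65, []), (0, 245, 85, []), (0, 246, 112, []),
  (0, 247, 166, []), (0, 248, 180, []), (0, 18, 42, []), (0, 250, 64, []),
  (0, 251, 85, []), (0, 252, 110, []), (0, 253, 162, []), (0, 254, 180, []),
  (0, 18, 31, []), (0, 256, 65, []), (0, 257, 98, []), (0, 258, 116, []),
  (0, 259, 164, []), (0, 260, 179, []), (0, 13, 41, []), (0, 262, 48, []),
  (0, 263, 83, []), (0, 264, 118, []), (0, 265, 168, []), (0, 266, 179, []),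
  (0, 13, 35, []), (0, 268, 59, []), (0, 269, 88, []), (0, 270, 110, []),
  (0, 271, 166, []), (0, 17, 29, []), (0, 273, 97, []), (0, 274, 107, []),
  (0, 275, 159, []), (0, 276, 179, []), (0, 17, 28, []), (0, 278, 52, []),
  (0, 279, 92, []), (0, 280, 129, []), (0, 14, 29, []), (0, 282, 56, []),
  (0, 283, 90, []), (0, 284, 113, []), (0, 285, 168, []), (0, 286, 179, []),
  (0, 14, 26, []), (0, 288, 52, []), (0, 289, 86, []), (0, 290, 114, []),
  (0, 291, 166, []), (0, 292, 180, []), (0, 21, 43, []), (0, 294, 59, []),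
  (0, 295, 167, []), (0, 296, 179, []), (0, 21, 40, []), (0, 298, 64, []),
  (0, 299, 84, []), (0, 300, 107, []), (0, 301, 163, []), (0, 302, 180, []),
  (0, 35, 66, []), (0, 304, 89, []), (0, 305, 159, []), (0, 306, 180, []),
  (0, 43, 49, []), (0, 308, 97, []), (0, 309, 126, []), (0, 310, 179, []),
  (0, 24, 64, []), (0, 312, 94, []), (0, 313, 127, []), (0, 314, 167, []),
  (0, 26, 57, []), (0, 316, 85, []), (0, 317, 158, []), (0, 318, 179, []),
  (0, 34, 46, []), (0, 320, 88, []), (0, 321, 78, []), (0, 322, 165, []),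
  (0, 323, 179, []), (0, 39, 46, []), (0, 325, 94, []), (0, 326, 127, []),
  (0, 327, 147, []), (0, 328, 179, []), (0, 42, 59, []), (0, 330, 76, []),
  (0, 331, 125, []), (0, 332, 164, []), (0, 33, 67, []), (0, 334, 77, []),
  (0, 335, 78, []), (0, 336, 163, []), (0, 337, 179, []), (0, 27, 52, []),
  (0, 339, 96, []), (0, 340, 107, []), (0, 341, 180, []), (0, 32, 58, []),
  (0, 343, 86, []), (0, 344, 127, []), (0, 345, 165, []), (0, 346, 180, []),
  (0, 29, 48, []), (0, 348, 92, []), (0, 349, 116, []), (0, 350, 146, []),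
  (0, 37, 84, []), (0, 352, 117, []), (0, 353, 162, []), (0, 354, 179, []),
  (0, 31, 49, []), (0, 356, 88, []), (0, 357, 110, []), (0, 358, 163, []),
  (0, 359, 180, []), (0, 47, 58, []), (0, 361, 87, []), (0, 362, 112, []),
  (0, 363, 137, []), (0, 364, 180, []), (0, 36, 61, []), (0, 366, 93, []),
  (0, 367, 157, []), (0, 30, 66, []), (0, 369, 83, []), (0, 370, 116, []),
  (0, 371, 162, []), (0, 372, 180, []), (0, 41, 54, []), (0, 374, 6, []),
  (0, 375, 129, []), (0, 376, 146, []), (0, 377, 180, []), (0, 25, 51, []),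
  (0, 379, 91, []), (0, 380, 114, []), (0, 381, 137, []), (0, 382, 180, []),
  (0, 28, 63, []), (0, 384, 88, []), (0, 385, 74, []), (0, 386, 163, []),
  (0, 40, 48, []), (0, 388, 97, []), (0, 389, 109, []), (0, 390, 167, []),
  (0, 391, 179, []), (0, 23, 84, []), (0, 393, 116, []), (0, 394, 160, []),
  (0, 38, 66, []), (0, 396, 89, []), (0, 397, 111, []), (0, 398, 158, []),
  (0, 48, 84, []), (0, 400, 110, []), (0, 401, 161, []), (0, 402, 179, []),
  (0, 59, 88, []), (0, 404, 118, []), (0, 405, 158, []), (0, 406, 180, []),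
  (0, 54, 86, []), (0, 408, 114, []), (0, 409, 165, []), (0, 410, 180, []),
  (0, 50, 98, []), (0, 412, 107, []), (0, 413, 164, []), (0, 414, 180, []),
  (0, 57, 6, []), (0, 416, 74, []), (0, 417, 137, []), (0, 418, 179, []),
  (0, 67, 77, []), (0, 420, 117, []), (0, 421, 147, []), (0, 422, 179, []),
  (0, 46, 6, []), (0, 424, 114, []), (0, 425, 161, []), (0, 426, 180, []),
  (0, 54, 90, []), (0, 428, 111, []), (0, 429, 163, []), (0, 430, 179, []),
  (0, 51, 76, []), (0, 432, 78, []), (0, 433, 164, []), (0, 434, 180, []),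
  (0, 66, 84, []), (0, 436, 117, []), (0, 437, 164, []), (0, 438, 180, []),
  (0, 50, 88, []), (0, 440, 115, []), (0, 441, 164, []), (0, 442, 179, []),
  (0, 58, 96, []), (0, 444, 111, []), (0, 445, 147, []), (0, 446, 179, []),
  (0, 57, 91, []), (0, 448, 108, []), (0, 449, 161, []), (0, 450, 179, []),
  (0, 66, 92, []), (0, 452, 116, []), (0, 453, 165, []), (0, 57, 92, []),
  (0, 455, 129, []), (0, 456, 159, []), (0, 457, 180, []), (0, 50, 84, []),
  (0, 459, 110, []), (0, 460, 166, []), (0, 59, 83, []), (0, 462, 117, []),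
  (0, 463, 161, []), (0, 54, 83, []), (0, 465, 127, []), (0, 466, 163, []),
  (0, 467, 179, []), (0, 59, 94, []), (0, 469, 108, []), (0, 470, 162, []),
  (0, 471, 179, []), (0, 48, 6, []), (0, 473, 126, []), (0, 474, 137, []),
  (0, 50, 92, []), (0, 476, 115, []), (0, 477, 166, []), (0, 478, 179, []),
  (0, 75, 114, []), (0, 480, 137, []), (0, 481, 180, []), (0, 98, 112, []),
  (0, 483, 146, []), (0, 97, 108, []), (0, 485, 137, []), (0, 486, 179, []),
  (0, 93, 129, []), (0, 488, 159, []), (0, 489, 179, []), (0, 83, 78, []),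
  (0, 491, 163, []), (0, 6, 118, []), (0, 493, 168, []), (0, 97, 117, []),
  (0, 495, 167, []), (0, 96, 118, []), (0, 497, 157, []), (0, 498, 180, []),
  (0, 89, 109, []), (0, 500, 165, []), (0, 88, 116, []), (0, 502, 168, []),
  (0, 503, 179, []), (0, 83, 107, []), (0, 505, 164, []), (0, 506, 180, []),
  (0, 91, 108, []), (0, 508, 168, []), (0, 509, 180, []), (0, 75, 117, []),
  (0, 511, 180, []), (0, 96, 115, []), (0, 513, 146, []), (0, 86, 127, []),
  (0, 515, 166, []), (0, 516, 180, []), (0, 97, 127, []), (0, 518, 165, []),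
  (0, 519, 179, []), (0, 76, 107, []), (0, 521, 158, []), (0, 522, 179, []),
  (0, 92, 107, []), (0, 524, 167, []), (0, 525, 180, []), (0, 77, 125, []),
  (0, 527, 146, []), (0, 91, 118, []), (0, 529, 168, []), (0, 530, 180, []),
  (0, 113, 157, []), (0, 112, 166, []), (0, 533, 179, []), (0, 144, 180, []),
  (0, 109, 164, []), (0, 536, 179, []), (0, 113, 167, []), (0, 538, 180, []),
  (0, 126, 158, []), (0, 540, 179, []), (0, 116, 164, []), (0, 542, 179, []),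
  (0, 118, 163, []), (0, 544, 180, []), (0, 125, 166, []), (0, 546, 180, []),
  (0, 108, 179, []), (0, 129, 163, []), (0, 549, 179, []), (0, 74, 168, []),
  (0, 551, 179, []), (0, 107, 164, []), (0, 112, 160, []), (0, 554, 180, []),
  (0, 116, 160, []), (0, 111, 158, []), (0, 108, 158, []), (0, 558, 179, []),
  (0, 115, 167, []), (0, 560, 179, []), (0, 125, 165, []), (0, 166, 180, []),
  (0, 166, 179, []), (0, 137, 179, []), (0, 137, 180, []), (0, 147, 179, []),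
  (0, 147, 180, []), (0, 168, 180, []), (0, 168, 179, []), (0, 157, 180, []),
  (0, 157, 179, []), (0, 163, 180, []), (0, 160, 180, []), (0, 160, 179, []),
  (0, 162, 180, []), (0, 162, 179, []), (0, 146, 179, []), (0, 146, 180, []),
  (0, 161, 180, []), (0, 161, 179, []), (0, 159, 180, []), (0, 159, 179, []),
  (0, 167, 180, []), (0, 167, 179, []), (0, 165, 180, []), (0, 158, 180, []),
  (0, 158, 179, []), (0, 164, 179, []), (0, 164, 180, [])]

def sepOcts0 : List ℕ := [1, 150, 3944, 8, 228, 3859, 260, 720, 3115, 1024, 2192]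

theorem gen0_ok : genOK 0 leaves0 nops0 = true := by decide +kernel

theorem sep0_ok : sepOK 0 sepOcts0 = true := by decide +kernel

theorem class0_eq (k : ℕ) : {o : Finset GolayPt | (o ∈ octads ∧ ∀ j < 0, pt (bs j) ∈ o) ∧
    (pts (cw 47) ∩ o).card = k} = ↑(octClass (pts (cw 47)) k) := by
  ext o
  rw [Set.mem_ofPred_eq, Finset.mem_coe, mem_octClass]
  constructor
  · rintro ⟨⟨h1, _⟩, h2⟩
    exact ⟨h1, h2⟩
  · rintro ⟨h1, h2⟩
    exact ⟨⟨h1, fun j hj => absurd hj (Nat.not_lt_zero j)⟩, h2⟩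

theorem coatom0 : IsCoatom (MulAction.stabilizer (GF 0) (pts (cw 47))) := by
  apply GF_coatom (by norm_num) {8, 0, 2, 4}
    (fun i => if i = 8 then 1 else if i = 0 then 30 else if i = 2 then 448 else 280)
  · intro o ho _
    rcases octads_inter_cases o0_mem ho with h | h | h | h
    · rw [h]; decide
    · rw [h]; decide
    · rw [h]; decide
    · rw [h]; decide
  · intro i hi
    simp only [Finset.mem_insert, Finset.mem_singleton] at hi
    rcases hi with rfl | rfl | rfl | rfl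
    · rw [if_pos rfl]
      exact ncard_class_eight 0 (by norm_num)
    · rw [if_neg (by norm_num), if_pos rfl, class0_eq, Set.ncard_coe_finset, card_octClass0 o0_mem]
    · rw [if_neg (by norm_num), if_neg (by norm_num), if_pos rfl, class0_eq,
        Set.ncard_coe_finset, card_octClass2 o0_mem]
    · rw [if_neg (by norm_num), if_neg (by norm_num), if_neg (by norm_num), class0_eq,
        Set.ncard_coe_finset, card_octClass4 o0_mem]
  · intro o o' ho ho' _ _ hc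
    obtain ⟨g, hg, hgo, hgo'⟩ := octad_stab_transitive o0_mem ho ho' hc
    exact ⟨g, ⟨hg, fun j hj => absurd hj (Nat.not_lt_zero j)⟩, hgo, hgo'⟩
  · decide
  · refine ⟨pts (cw 1), pts_mem_octads (by norm_num) (by decide +kernel),
      fun j hj => absurd hj (Nat.not_lt_zero j), ?_⟩
    intro h
    exact absurd (cw_injOn (by norm_num) (by norm_num) h) (by norm_num)

theorem GF0_simple : IsSimpleGroup (GF 0) :=
  GF_simple (by norm_num) leaves0 nops0 gen0_ok sepOcts0 sep0_ok coatom0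

end Cfsg.Agent.helper2.Golay
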