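import Mathlib
import Cfsg.Statements.S1607
import Cfsg.Agent.Lib_helper2_M24m

set_option autoImplicit false
open scoped Pointwise
open Cfsg

namespace Cfsg.Agent.S1607

open Cfsg.Agent.helper2

open Cfsg.Agent.helper2.Golay Cfsg.Agent.helper27

set_option maxRecDepth 1000000 in
def g1607 : List (List ℕ × List ℕ) := [
  ([14, 5, 0, 3, 7, 1, 20, 16, 22, 6, 12, 13, 15, 19, 17, 21, 18, 2, 10, 9, 8, 4, 11, 23], [2, 5, 17, 3, 21, 1, 9, 4, 20, 19, 18, 22, 10, 11, 0, 12, 7, 14, 16, 13, 6, 15, 8, 23]),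
  ([3, 1, 5, 0, 8, 14, 7, 12, 16, 22, 9, 13, 20, 18, 17, 4, 21, 2, 15, 6, 10, 11, 19, 23], [3, 1, 17, 0, 15, 2, 19, 6, 4, 10, 20, 21, 7, 11, 5, 18, 8, 14, 13, 22, 12, 16, 9, 23])]

set_option maxRecDepth 1000000 in
def t1607 : List (List (ℕ × ℕ × ℕ)) := [
  [],
  [],
  [
    (13938692, 0, 0), (11046145, 0, 0), (10257456, 0, 1), (14709264, 1, 0), (8464984, 1, 1), (10491778, 2, 0), (8439632, 2, 1), (9078992, 3, 0),
    (14551296, 3, 1), (10232008, 4, 0), (14950785, 4, 1), (12685424, 5, 0), (13703682, 5, 1), (15864000, 6, 0), (12780432, 6, 1), (11608708, 7, 0),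
    (8401364, 7, 1), (12594948, 8, 0), (9020484, 8, 1), (10028808, 9, 0), (8688833, 9, 1), (13192208, 10, 0), (9279496, 10, 1), (11831426, 11, 0),
    (12075408, 11, 1), (8694112, 12, 0), (16262146, 12, 1), (9537812, 13, 0), (9968772, 13, 1), (12912836, 14, 0), (15274244, 14, 1), (9240913, 15, 0),
    (14949408, 15, 1), (14254209, 16, 0), (9769376, 16, 1), (13121601, 17, 0), (13443616, 17, 1), (12325377, 18, 0), (10748656, 18, 1), (12849992, 19, 0),
    (14747201, 19, 1), (11654144, 20, 0), (9474712, 20, 1), (8796800, 21, 0), (11150144, 21, 1), (10790408, 22, 0), (11575377, 22, 1), (10560816, 23, 0),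
    (8436754, 23, 1), (8592704, 24, 1), (8773776, 25, 1), (8919856, 26, 0), (9178690, 26, 1), (8499969, 28, 0), (9451104, 28, 1), (9776129, 29, 0),
    (11055264, 29, 1), (12880401, 30, 0), (12126304, 30, 1), (13911680, 31, 0), (10584520, 31, 1), (10021376, 32, 1), (10832640, 33, 0), (11015256, 33, 1),
    (12944642, 34, 0), (15515712, 36, 1), (13667400, 37, 1), (9503954, 38, 0), (12638592, 38, 1), (9721936, 40, 0), (15207048, 40, 1), (10916112, 41, 0),
    (11669008, 41, 1), (13636881, 42, 1), (14156372, 44, 0), (8654232, 46, 1), (13373586, 47, 0), (9708306, 48, 1), (11469952, 50, 0), (12624578, 51, 0),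
    (13721920, 51, 1), (16056344, 53, 1), (9998658, 54, 0), (9204992, 55, 0), (11108882, 56, 0), (10513600, 57, 0), (13148440, 57, 1), (13276672, 59, 1),
    (10557585, 60, 1), (12985424, 61, 1), (14919680, 62, 1), (9440193, 63, 1), (11548936, 66, 0), (8922769, 66, 1), (10170384, 68, 1), (9610624, 69, 0),
    (14714004, 71, 0), (13108704, 74, 1), (12661896, 75, 0), (8490656, 76, 0), (8721940, 78, 0), (10525252, 78, 1), (15762208, 82, 0), (9929280, 83, 1),
    (14682450, 84, 1), (9208708, 89, 1), (11282452, 90, 0), (8999616, 93, 0), (11797828, 94, 1), (10825794, 99, 0), (13641904, 101, 1), (8989058, 104, 1)],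
  [],
  [
    (13062145, 0, 0), (8834052, 0, 0), (12222476, 0, 1), (10630149, 1, 0), (8561204, 1, 1), (10486557, 2, 0), (8391797, 2, 1), (8966165, 3, 0),
    (9701932, 3, 1), (11010247, 4, 0), (12861748, 4, 1), (12599513, 5, 0), (12650793, 5, 1), (9465987, 6, 0), (8414120, 6, 1), (10666625, 7, 0),
    (9568632, 7, 1), (8398155, 8, 0), (12641313, 8, 1), (9519665, 9, 0), (8394986, 9, 1), (12717187, 10, 0), (9158944, 10, 1), (9652360, 11, 0),
    (9048457, 11, 1), (12871690, 12, 0), (11100169, 12, 1), (9835530, 13, 1), (13303882, 14, 0), (10698836, 15, 0), (12720156, 15, 1), (13631886, 16, 0),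
    (8471941, 16, 1), (14176296, 17, 0), (8716939, 17, 1), (11163650, 18, 0), (9323032, 18, 1), (8798658, 19, 0), (14828808, 19, 1), (9543722, 20, 0),
    (8484900, 21, 0), (8925710, 21, 1), (15073798, 22, 0), (8855820, 23, 0), (12698124, 24, 0), (9506893, 24, 1), (9055272, 25, 0), (9347075, 25, 1),
    (10881097, 26, 1), (8426796, 27, 0), (9471495, 27, 1), (9830549, 29, 0), (10619300, 29, 1), (8431757, 30, 0), (9969957, 30, 1), (8983587, 31, 1),
    (10687016, 32, 1), (8555274, 33, 0), (10110017, 33, 1), (8733800, 34, 0), (14716939, 34, 1), (9578566, 35, 1), (8521420, 36, 0), (12747077, 36, 1),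
    (13829156, 37, 0), (8622214, 37, 1), (9112069, 38, 1), (11272490, 39, 0), (10765331, 39, 1), (11952160, 40, 1), (8946281, 41, 0), (13893731, 41, 1),
    (13142054, 42, 1), (13370381, 43, 0), (10846245, 43, 1), (15335473, 44, 1), (9748745, 45, 0), (11535529, 45, 1), (8675909, 46, 1), (11028004, 47, 0),
    (8683614, 47, 1), (9462812, 48, 0), (10506593, 50, 0), (12584506, 50, 1), (12656663, 52, 0), (8663097, 53, 1), (13124355, 54, 0), (8704546, 55, 0),
    (11551306, 55, 1), (15747077, 56, 1), (14688364, 57, 0), (9589508, 58, 0), (10537016, 60, 0), (9963547, 60, 1), (8660134, 61, 1), (12587685, 62, 1),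
    (8978620, 63, 1), (8657159, 64, 0), (11538486, 65, 1), (8505411, 67, 1), (8541360, 68, 0), (9045270, 69, 0), (9456930, 71, 0), (8963210, 71, 1),
    (10496547, 72, 0), (8937586, 72, 1), (8412681, 73, 0), (8407702, 75, 0), (8931660, 75, 1), (8619033, 76, 1), (8474906, 77, 0), (13009064, 78, 1),
    (8524371, 79, 0), (12733024, 79, 1), (8421811, 80, 1), (8783649, 81, 1), (13811730, 82, 0), (9193633, 84, 0), (10650722, 87, 0), (8546577, 89, 0),
    (10625178, 92, 0), (8455014, 101, 1), (12726562, 102, 0), (8611330, 102, 1), (10093218, 105, 0), (8581192, 106, 0), (13771273, 106, 1), (8593633, 107, 0),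
    (10768524, 109, 0), (11731203, 110, 1), (10554382, 111, 0), (9486564, 112, 0), (13262980, 113, 1), (14762146, 114, 0), (12604486, 115, 0), (10305542, 122, 1),
    (9310308, 123, 0), (9607201, 128, 1), (8849458, 133, 0), (10543366, 137, 0)],
  [],
  [],
  [],
  [
    (8536111, 0, 0)]]

/-- Class of a code word index: intersection size with the base octad, for octads through
the base point `pt 23`. -/
def cls1607 (m : ℕ) : ℕ :=
  if wt (cw m) = 8 ∧ (cw m).testBit 23 = true then wt (cw 47 &&& cw m) else 99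

theorem g1607_ok : cfgGensOK [23] [cw 47] g1607 = true := by decide +kernel

theorem t1607_ok : t1607.all (treeOK g1607) = true := by decide +kernel

theorem t1607_all : ∀ m < 4096, cls1607 m < t1607.length →
    (t1607.getD (cls1607 m) []).any (fun e => e.1 == cw m) = true :=
  forall_lt_4096 (by decide +kernel)

theorem count2 : ((Finset.range 4096).filter (fun m => cls1607 m = 2)).card = 112 := by
  rw [count_rows]
  decide +kernel

theorem count4 : ((Finset.range 4096).filter (fun m => cls1607 m = 4)).card = 140 := by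
  rw [count_rows]
  decide +kernel

theorem base_mem (k : ℕ) (hk : k ≠ 99) (s : Finset GolayPt) :
    (s ∈ octads ∧ pt 23 ∈ s ∧ (pts (cw 47) ∩ s).card = k) ↔
      ∃ m < 4096, cls1607 m = k ∧ s = pts (cw m) := by
  constructor
  · rintro ⟨hs, hp, hc⟩
    obtain ⟨m, hm, hw, rfl⟩ := exists_of_mem_octads hs
    refine ⟨m, hm, ?_, rfl⟩
    rw [mem_pts_pt (by norm_num)] at hp
    unfold cls1607
    rw [if_pos ⟨hw, hp⟩, ← card_pts, pts_and]
    exact hc
  · rintro ⟨m, hm, hc, rfl⟩
    unfold cls1607 at hc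
    split_ifs at hc with hw
    · refine ⟨pts_mem_octads hm hw.1, (mem_pts_pt (by norm_num)).mpr hw.2, ?_⟩
      rw [← pts_and, card_pts]
      exact hc
    · exact absurd hc.symm hk

theorem base_count (k : ℕ) (hk : k ≠ 99) :
    {s : Finset GolayPt | s ∈ octads ∧ pt 23 ∈ s ∧ (pts (cw 47) ∩ s).card = k}.ncard
      = ((Finset.range 4096).filter (fun m => cls1607 m = k)).card :=
  ncard_cls cls1607 k _ (fun s => base_mem k hk s)

theorem base_trans {s t : Finset GolayPt} (hs : s ∈ octads) (ht : t ∈ octads)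
    (hps : pt 23 ∈ s) (hpt : pt 23 ∈ t)
    (h : (pts (cw 47) ∩ s).card = (pts (cw 47) ∩ t).card) :
    ∃ g ∈ cfgStab [23] [cw 47], g • s = t := by
  obtain ⟨m, hm, hcm, rfl⟩ := (base_mem _ (by
    have := Finset.card_le_card (Finset.inter_subset_right (s₁ := pts (cw 47)) (s₂ := s))
    have h8 := octads_steiner.1 s hs
    omega) s).mp ⟨hs, hps, rfl⟩
  obtain ⟨m', hm', hcm', rfl⟩ := (base_mem _ (by
    have := Finset.card_le_card (Finset.inter_subset_right (s₁ := pts (cw 47)) (s₂ := t))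
    have h8 := octads_steiner.1 t ht
    omega) t).mp ⟨ht, hpt, rfl⟩
  have hlt : cls1607 m < t1607.length := by
    rw [hcm]
    have := Finset.card_le_card (Finset.inter_subset_left (s₁ := pts (cw 47)) (s₂ := pts (cw m)))
    rw [card_pts] at this
    have h8 : wt (cw 47) = 8 := by decide +kernel
    have hl : t1607.length = 9 := by decide +kernel
    omega
  exact rank_reach _ g1607 (cfgGens_mem g1607_ok) t1607 t1607_ok cls1607 t1607_all hm hm' hlt
    (by rw [hcm, hcm', h])


theorem result (x : Cfsg.GolayPt) (o : Finset Cfsg.GolayPt) (ho : o ∈ Cfsg.octads) (hx : x ∈ o) : {o' : Finset Cfsg.GolayPt | o' ∈ Cfsg.octads ∧ x ∈ o' ∧ (o ∩ o').card = 2}.ncard = 112 ∧ {o' : Finset Cfsg.GolayPt | o' ∈ Cfsg.octads ∧ x ∈ o' ∧ (o ∩ o').card = 4}.ncard = 140 ∧ ∀ o' o'' : Finset Cfsg.GolayPt, o' ∈ Cfsg.octads → o'' ∈ Cfsg.octads → x ∈ o' → x ∈ o'' → (o ∩ o').card = (o ∩ o'').card → ∃ g : Equiv.Perm Cfsg.GolayPt, g ∈ Cfsg.M24 ∧ g x = x ∧ g • o = o ∧ g • o' = o'' := by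
  obtain ⟨h, hh, hhx, hho⟩ := octad_emb_to_base ho (k := 1) (by norm_num) (emb1 x) (fun _ => hx)
  have hx23 : h x = pt 23 := hhx 0
  have key : ∀ k : ℕ, ∀ s : Finset GolayPt,
      (s ∈ {o' : Finset GolayPt | o' ∈ octads ∧ x ∈ o' ∧ (o ∩ o').card = k}) ↔
      h • s ∈ {s : Finset GolayPt | s ∈ octads ∧ pt 23 ∈ s ∧ (pts (cw 47) ∩ s).card = k} := by
    intro k s
    rw [Set.mem_ofPred_eq, Set.mem_ofPred_eq, smul_mem_octads_iff hh, ← hx23, perm_mem_smul_iff, ← hho,
      card_smul_inter]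
  refine ⟨?_, ?_, ?_⟩
  · rw [ncard_smul_eq h _ _ (key 2), base_count 2 (by norm_num), count2]
  · rw [ncard_smul_eq h _ _ (key 4), base_count 4 (by norm_num), count4]
  · intro o' o'' ho' ho'' hxo' hxo'' hc
    have h1 : (pts (cw 47) ∩ h • o').card = (pts (cw 47) ∩ h • o'').card := by
      rw [← hho, card_smul_inter, card_smul_inter]
      exact hc
    obtain ⟨g0, hg0, hg0s⟩ := base_trans ((smul_mem_octads_iff hh).mpr ho')
      ((smul_mem_octads_iff hh).mpr ho'') (by rw [← hx23, perm_mem_smul_iff]; exact hxo')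
      (by rw [← hx23, perm_mem_smul_iff]; exact hxo'') h1
    obtain ⟨c1, c2, c3, c4⟩ := conj_cfg hh hg0
    exact ⟨h⁻¹ * g0 * h, c1, c2 23 (List.mem_singleton.mpr rfl) x hx23,
      c3 (cw 47) (List.mem_singleton.mpr rfl) o hho, c4 o' o'' hg0s⟩

end Cfsg.Agent.S1607
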