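import Mathlib
import Cfsg.Agent.Lib_helper2_M24s
import Cfsg.Agent.S1607

set_option autoImplicit false
set_option linter.constructorNameAsVariable false

namespace Cfsg.Agent.helper2.Golay

open Cfsg Cfsg.Agent.helper27
open scoped Pointwise

def leaves1 : List (List ℕ × ℕ) := [
  ([5, 1, 2, 14, 8, 0, 13, 7, 4, 22, 19, 20, 12, 6, 3, 15, 16, 17, 21, 10, 11, 18, 9, 23], 134),
  ([22, 13, 2, 3, 4, 5, 14, 7, 11, 12, 18, 8, 9, 1, 6, 20, 16, 21, 10, 19, 15, 17, 0, 23], 188),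
  ([4, 1, 16, 18, 0, 5, 9, 15, 8, 6, 20, 14, 12, 13, 11, 7, 2, 17, 3, 21, 10, 19, 22, 23], 290),
  ([20, 1, 15, 5, 22, 3, 11, 7, 8, 9, 10, 6, 12, 14, 13, 2, 17, 16, 19, 18, 0, 21, 4, 23], 1922),
  ([15, 11, 21, 3, 17, 5, 6, 12, 20, 19, 10, 1, 7, 22, 14, 0, 16, 4, 18, 9, 8, 2, 13, 23], 1128),
  ([11, 17, 2, 13, 4, 6, 5, 7, 19, 18, 10, 0, 16, 3, 20, 15, 12, 1, 9, 8, 14, 21, 22, 23], 1172),
  ([0, 18, 16, 12, 21, 22, 6, 8, 7, 11, 10, 9, 3, 15, 14, 13, 2, 17, 1, 19, 20, 4, 5, 23], 1089),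
  ([13, 22, 2, 19, 4, 7, 6, 5, 11, 18, 12, 8, 10, 0, 14, 20, 16, 17, 9, 3, 15, 21, 1, 23], 84)]

set_option maxRecDepth 1000000 in
def nops1 : List (ℕ × ℕ × ℕ × List ℕ) := [
  (0, 0, 0, []), (0, 0, 1, []), (0, 1, 9, []), (0, 2, 9, []),
  (0, 0, 2, []), (0, 0, 11, []), (0, 1, 11, []), (0, 1, 12, []),
  (0, 1, 13, []), (0, 0, 14, []), (0, 0, 15, []), (0, 2, 17, []),
  (0, 1, 18, []), (0, 2, 18, []), (0, 0, 19, []), (0, 2, 20, []),
  (0, 0, 21, []), (0, 1, 22, []), (1, 18, 0, [4, 9, 16, 13, 10, 6, 1, 15, 8, 5, 20, 7, 22, 18, 11, 14, 2, 3, 17, 19, 0, 21, 12, 23]), (0, 26, 3, []),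
  (0, 27, 20, []), (0, 27, 25, []), (0, 27, 27, []), (0, 27, 30, []),
  (0, 27, 31, []), (1, 20, 0, [12, 18, 16, 13, 10, 6, 11, 15, 7, 22, 17, 8, 5, 9, 1, 0, 2, 21, 20, 19, 14, 3, 4, 23]), (0, 33, 4, []), (0, 34, 27, []),
  (0, 34, 30, []), (0, 34, 31, []), (0, 34, 32, []), (0, 34, 34, []),
  (0, 27, 35, []), (0, 34, 35, []), (0, 27, 36, []), (0, 27, 37, []),
  (0, 34, 37, []), (0, 34, 38, []), (0, 27, 40, []), (0, 34, 40, []),
  (0, 27, 42, []), (0, 34, 44, []), (0, 34, 46, []), (0, 11, 5, []),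
  (1, 50, 0, [0, 22, 10, 1, 12, 17, 2, 18, 16, 5, 13, 21, 9, 4, 11, 14, 20, 7, 6, 3, 15, 19, 8, 23]), (0, 52, 51, []), (0, 53, 53, []), (0, 53, 54, []),
  (0, 53, 55, []), (0, 53, 56, []), (0, 53, 57, []), (1, 38, 0, [0, 18, 3, 14, 11, 15, 13, 4, 9, 10, 2, 7, 16, 6, 8, 22, 21, 20, 1, 5, 19, 12, 17, 23]),
  (0, 59, 6, []), (0, 60, 53, []), (0, 60, 54, []), (0, 60, 55, []),
  (0, 60, 57, []), (0, 60, 58, []), (0, 53, 60, []), (0, 53, 61, []),
  (0, 60, 61, []), (0, 60, 62, []), (0, 60, 66, []), (0, 60, 68, []),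
  (0, 53, 69, []), (1, 13, 0, [22, 13, 16, 15, 4, 11, 14, 20, 5, 12, 10, 19, 9, 0, 17, 7, 2, 21, 18, 8, 3, 6, 1, 23]), (0, 73, 7, []), (0, 56, 74, []),
  (0, 75, 75, []), (0, 75, 76, []), (0, 75, 77, []), (0, 0, 3, []),
  (0, 5, 4, []), (0, 33, 80, []), (1, 43, 0, [0, 15, 4, 21, 17, 20, 18, 11, 5, 19, 2, 7, 1, 16, 6, 12, 10, 13, 8, 9, 14, 22, 3, 23]), (0, 82, 81, []),
  (1, 60, 0, [0, 1, 10, 16, 8, 19, 15, 9, 14, 7, 11, 21, 4, 6, 12, 22, 3, 5, 18, 20, 17, 2, 13, 23]), (0, 84, 83, []), (0, 78, 85, []), (0, 86, 75, []),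
  (0, 86, 76, []), (0, 86, 77, []), (0, 86, 78, []), (0, 75, 87, []),
  (0, 86, 87, []), (0, 75, 88, []), (0, 75, 89, []), (0, 86, 89, []),
  (0, 86, 90, []), (0, 75, 91, []), (0, 75, 93, []), (0, 75, 96, []),
  (0, 86, 98, []), (0, 75, 100, []), (0, 86, 86, []), (0, 6, 7, []),
  (0, 1, 4, []), (0, 79, 80, []), (1, 29, 0, [13, 22, 0, 16, 20, 1, 7, 21, 10, 11, 12, 14, 5, 3, 2, 19, 17, 4, 15, 8, 6, 18, 9, 23]), (0, 106, 105, []),
  (1, 39, 0, [0, 8, 21, 16, 3, 20, 7, 18, 14, 19, 10, 5, 12, 2, 1, 15, 4, 17, 6, 22, 11, 13, 9, 23]), (0, 108, 107, []), (0, 54, 109, []), (1, 89, 0, [0, 1, 2, 19, 18, 7, 20, 9, 3, 22, 4, 17, 5, 11, 21, 16, 8, 6, 14, 15, 13, 10, 12, 23]),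
  (0, 111, 110, []), (0, 112, 86, []), (0, 112, 102, []), (0, 86, 112, []),
  (0, 112, 112, []), (0, 112, 113, []), (0, 86, 115, []), (0, 86, 116, []),
  (0, 86, 117, []), (0, 80, 105, []), (1, 22, 0, [12, 14, 2, 7, 5, 3, 15, 19, 22, 9, 8, 10, 1, 11, 21, 20, 16, 18, 6, 4, 17, 0, 13, 23]), (0, 122, 121, []),
  (0, 59, 123, []), (1, 65, 0, [0, 1, 3, 8, 15, 13, 11, 19, 18, 14, 2, 7, 16, 12, 10, 17, 22, 6, 9, 4, 5, 20, 21, 23]), (0, 125, 124, []), (0, 77, 126, []),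
  (0, 127, 113, []), (0, 127, 115, []), (0, 127, 120, []), (0, 103, 104, []),
  (1, 128, 0, [0, 1, 2, 3, 11, 17, 16, 22, 7, 15, 9, 19, 6, 18, 5, 10, 12, 14, 21, 4, 20, 13, 8, 23]), (0, 2, 131, []), (0, 73, 133, []), (0, 108, 134, []),
  (1, 67, 0, [0, 1, 13, 15, 22, 17, 9, 11, 10, 14, 20, 3, 8, 2, 18, 7, 16, 19, 6, 21, 12, 5, 4, 23]), (0, 136, 135, []), (0, 75, 137, []), (0, 114, 138, []),
  (0, 139, 139, []), (0, 1, 41, []), (0, 141, 71, []), (0, 142, 92, []),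
  (0, 143, 120, []), (0, 22, 31, []), (0, 145, 65, []), (0, 146, 77, []),
  (0, 147, 118, []), (0, 18, 44, []), (0, 149, 65, []), (0, 150, 76, []),
  (0, 151, 139, []), (0, 24, 32, []), (0, 153, 58, []), (0, 154, 76, []),
  (0, 155, 117, []), (0, 156, 139, []), (0, 19, 34, []), (0, 158, 71, []),
  (0, 159, 96, []), (0, 160, 118, []), (0, 161, 140, []), (0, 25, 34, []),
  (0, 163, 67, []), (0, 164, 90, []), (0, 165, 116, []), (0, 28, 35, []),
  (0, 167, 94, []), (0, 168, 119, []), (0, 20, 46, []), (0, 170, 53, []),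
  (0, 171, 94, []), (0, 172, 127, []), (0, 173, 140, []), (0, 14, 35, []),
  (0, 175, 57, []), (0, 176, 91, []), (0, 177, 112, []), (0, 178, 140, []),
  (0, 13, 40, []), (0, 180, 70, []), (0, 181, 75, []), (0, 182, 115, []),
  (0, 183, 139, []), (0, 10, 31, []), (0, 185, 68, []), (0, 186, 90, []),
  (0, 187, 116, []), (0, 15, 41, []), (0, 189, 56, []), (0, 190, 93, []),
  (0, 191, 115, []), (0, 21, 32, []), (0, 193, 65, []), (0, 194, 77, []),
  (0, 195, 102, []), (0, 196, 140, []), (0, 9, 35, []), (0, 198, 54, []),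
  (0, 199, 98, []), (0, 200, 130, []), (0, 201, 140, []), (0, 12, 41, []),
  (0, 203, 68, []), (0, 204, 98, []), (0, 205, 118, []), (0, 206, 139, []),
  (0, 23, 42, []), (0, 208, 57, []), (0, 209, 99, []), (0, 210, 127, []),
  (0, 211, 140, []), (0, 11, 45, []), (0, 213, 64, []), (0, 214, 101, []),
  (0, 215, 113, []), (0, 216, 140, []), (0, 0, 31, []), (0, 218, 55, []),
  (0, 219, 93, []), (0, 220, 117, []), (0, 2, 30, []), (0, 222, 58, []),
  (0, 223, 93, []), (0, 224, 117, []), (0, 17, 50, []), (0, 226, 70, []),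
  (0, 227, 117, []), (0, 228, 139, []), (0, 29, 49, []), (0, 230, 57, []),
  (0, 231, 93, []), (0, 232, 128, []), (0, 233, 139, []), (0, 16, 49, []),
  (0, 235, 65, []), (0, 236, 101, []), (0, 237, 102, []), (0, 37, 61, []),
  (0, 239, 94, []), (0, 240, 116, []), (0, 241, 139, []), (0, 36, 65, []),
  (0, 243, 90, []), (0, 244, 102, []), (0, 245, 140, []), (0, 46, 57, []),
  (0, 247, 89, []), (0, 248, 117, []), (0, 48, 60, []), (0, 250, 97, []),
  (0, 251, 113, []), (0, 252, 139, []), (0, 38, 67, []), (0, 254, 99, []),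
  (0, 255, 127, []), (0, 256, 140, []), (0, 50, 62, []), (0, 258, 96, []),
  (0, 259, 120, []), (0, 260, 140, []), (0, 30, 63, []), (0, 262, 90, []),
  (0, 263, 114, []), (0, 264, 139, []), (0, 46, 95, []), (0, 266, 86, []),
  (0, 40, 61, []), (0, 268, 75, []), (0, 269, 113, []), (0, 270, 140, []),
  (0, 47, 56, []), (0, 272, 112, []), (0, 48, 69, []), (0, 274, 90, []),
  (0, 275, 116, []), (0, 276, 140, []), (0, 35, 65, []), (0, 278, 87, []),
  (0, 279, 120, []), (0, 280, 139, []), (0, 38, 78, []), (0, 282, 115, []),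
  (0, 283, 140, []), (0, 47, 58, []), (0, 285, 90, []), (0, 286, 113, []),
  (0, 287, 139, []), (0, 38, 69, []), (0, 289, 102, []), (0, 48, 71, []),
  (0, 291, 94, []), (0, 292, 127, []), (0, 36, 70, []), (0, 294, 87, []),
  (0, 295, 118, []), (0, 296, 140, []), (0, 46, 54, []), (0, 298, 112, []),
  (0, 299, 139, []), (0, 36, 61, []), (0, 301, 77, []), (0, 302, 113, []),
  (0, 303, 140, []), (0, 37, 62, []), (0, 305, 97, []), (0, 306, 114, []),
  (0, 307, 140, []), (0, 48, 66, []), (0, 309, 96, []), (0, 310, 127, []),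
  (0, 311, 140, []), (0, 72, 92, []), (0, 313, 130, []), (0, 55, 88, []),
  (0, 315, 116, []), (0, 316, 139, []), (0, 63, 114, []), (0, 318, 140, []),
  (0, 62, 94, []), (0, 320, 102, []), (0, 321, 139, []), (0, 65, 89, []),
  (0, 323, 113, []), (0, 324, 139, []), (0, 61, 94, []), (0, 326, 114, []),
  (0, 63, 87, []), (0, 328, 102, []), (0, 329, 139, []), (0, 66, 78, []),
  (0, 331, 115, []), (0, 332, 139, []), (0, 71, 91, []), (0, 334, 112, []),
  (0, 335, 139, []), (0, 54, 93, []), (0, 337, 86, []), (0, 338, 140, []),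
  (0, 65, 75, []), (0, 340, 86, []), (0, 341, 140, []), (0, 56, 96, []),
  (0, 343, 114, []), (0, 344, 139, []), (0, 72, 99, []), (0, 346, 130, []),
  (0, 347, 140, []), (0, 66, 93, []), (0, 349, 112, []), (0, 350, 139, []),
  (0, 70, 88, []), (0, 352, 119, []), (0, 353, 139, []), (0, 63, 89, []),
  (0, 355, 86, []), (0, 69, 76, []), (0, 357, 117, []), (0, 358, 139, []),
  (0, 60, 100, []), (0, 360, 114, []), (0, 361, 139, []), (0, 53, 94, []),
  (0, 363, 118, []), (0, 56, 90, []), (0, 365, 129, []), (0, 366, 139, []),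
  (0, 87, 112, []), (0, 94, 118, []), (0, 92, 119, []), (0, 370, 139, []),
  (0, 92, 115, []), (0, 372, 140, []), (0, 87, 129, []), (0, 374, 139, []),
  (0, 97, 86, []), (0, 77, 113, []), (0, 377, 140, []), (0, 99, 115, []),
  (0, 379, 140, []), (0, 75, 115, []), (0, 381, 139, []), (0, 96, 119, []),
  (0, 383, 139, []), (0, 98, 115, []), (0, 385, 140, []), (0, 90, 114, []),
  (0, 387, 139, []), (0, 101, 130, []), (0, 94, 119, []), (0, 390, 139, []),
  (0, 77, 130, []), (0, 392, 140, []), (0, 88, 112, []), (0, 394, 140, []),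
  (0, 96, 128, []), (0, 89, 120, []), (0, 397, 140, []), (0, 75, 130, []),
  (0, 399, 139, []), (0, 115, 140, []), (0, 115, 139, []), (0, 114, 140, []),
  (0, 114, 139, []), (0, 86, 140, []), (0, 86, 139, []), (0, 127, 139, []),
  (0, 127, 140, []), (0, 119, 140, []), (0, 112, 139, []), (0, 130, 139, []),
  (0, 130, 140, []), (0, 129, 139, []), (0, 129, 140, []), (0, 113, 140, []),
  (0, 113, 139, []), (0, 117, 139, []), (0, 117, 140, []), (0, 120, 140, []),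
  (0, 120, 139, []), (0, 128, 139, []), (0, 128, 140, []), (0, 116, 140, []),
  (0, 116, 139, []), (0, 102, 139, []), (0, 102, 140, []), (0, 118, 140, []),
  (0, 118, 139, [])]

def sepOcts1 : List ℕ := [1, 12, 114, 1922, 2189, 2324, 2604, 3144]

theorem gen1_ok : genOK 1 leaves1 nops1 = true := by decide +kernel

theorem sep1_ok : sepOK 1 sepOcts1 = true := by decide +kernel

theorem base1_iff (o : Finset GolayPt) : (∀ j < 1, pt (bs j) ∈ o) ↔ pt 23 ∈ o := by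
  constructor
  · intro h
    exact h 0 (by norm_num)
  · intro h j hj
    interval_cases j
    exact h

theorem coatom1 : IsCoatom (MulAction.stabilizer (GF 1) (pts (cw 47))) := by
  have hx : pt 23 ∈ pts (cw 47) := bs_mem_o0 0 (by norm_num)
  obtain ⟨c2, c4, htr⟩ := Cfsg.Agent.S1607.result (pt 23) (pts (cw 47)) o0_mem hx
  apply GF_coatom (by norm_num) {8, 2, 4}
    (fun i => if i = 8 then 1 else if i = 2 then 112 else 140)
  · intro o ho hFo
    rcases octads_inter_cases o0_mem ho with h | h | h | h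
    · exfalso
      have : pt 23 ∈ pts (cw 47) ∩ o := Finset.mem_inter.mpr ⟨hx, (base1_iff o).mp hFo⟩
      rw [Finset.card_eq_zero] at h
      rw [h] at this
      exact absurd this (Finset.notMem_empty _)
    · rw [h]; decide
    · rw [h]; decide
    · rw [h]; decide
  · intro i hi
    simp only [Finset.mem_insert, Finset.mem_singleton] at hi
    rcases hi with rfl | rfl | rfl
    · rw [if_pos rfl]
      exact ncard_class_eight 1 (by norm_num)
    · rw [if_neg (by norm_num), if_pos rfl, ← c2]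
      congr 1
      ext o
      rw [Set.mem_ofPred_eq, Set.mem_ofPred_eq, base1_iff, and_assoc]
    · rw [if_neg (by norm_num), if_neg (by norm_num), ← c4]
      congr 1
      ext o
      rw [Set.mem_ofPred_eq, Set.mem_ofPred_eq, base1_iff, and_assoc]
  · intro o o' ho ho' hFo hFo' hc
    obtain ⟨g, hg, hgx, hgo, hgo'⟩ := htr o o' ho ho' ((base1_iff o).mp hFo)
      ((base1_iff o').mp hFo') hc
    refine ⟨g, ⟨hg, fun j hj => ?_⟩, hgo, hgo'⟩
    interval_cases j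
    exact hgx
  · decide
  · refine ⟨pts (cw 1), pts_mem_octads (by norm_num) (by decide +kernel), ?_, ?_⟩
    · rw [base1_iff, mem_pts_pt (by norm_num)]
      decide +kernel
    · intro h
      exact absurd (cw_injOn (by norm_num) (by norm_num) h) (by norm_num)

theorem GF1_simple : IsSimpleGroup (GF 1) :=
  GF_simple (by norm_num) leaves1 nops1 gen1_ok sepOcts1 sep1_ok coatom1

end Cfsg.Agent.helper2.Golay
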