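import Mathlib
import Cfsg.Agent.Lib_helper2_M24p

set_option autoImplicit false
set_option linter.constructorNameAsVariable false

namespace Cfsg.Agent.helper2.Golay

open Cfsg Cfsg.Agent.helper27
open scoped Pointwise

/-! ### Pairs of points in the two-point stabiliser, relative to a fixed pair -/

def g22s : List (List ℕ × List ℕ) := [
  ([0, 2, 1, 15, 11, 10, 22, 4, 6, 14, 17, 7, 21, 8, 9, 5, 12, 20, 19, 13, 3, 16, 18, 23], [0, 2, 1, 20, 7, 15, 8, 11, 13, 14, 5, 4, 16, 19, 9, 3, 21, 10, 22, 18, 17, 12, 6, 23]),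
  ([0, 1, 2, 18, 20, 8, 19, 21, 17, 4, 13, 5, 3, 15, 12, 16, 10, 11, 14, 6, 22, 7, 9, 23], [0, 1, 2, 12, 9, 11, 19, 21, 5, 22, 16, 17, 14, 10, 18, 13, 15, 8, 3, 6, 4, 7, 20, 23])]

set_option maxRecDepth 1000000 in
def t22s : List (List (ℕ × ℕ × ℕ)) := [
  [
    (6, 0, 0)],
  [
    (10, 0, 0), (32772, 0, 0), (262146, 0, 1), (34, 1, 0), (65540, 1, 1), (524292, 2, 0), (16386, 2, 1), (1028, 3, 0),
    (258, 3, 1), (4098, 4, 0), (8194, 5, 0), (68, 5, 1), (516, 6, 0), (131074, 7, 0), (8196, 7, 1), (2097156, 9, 0),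
    (260, 10, 0), (32770, 10, 1), (4194306, 11, 0), (20, 12, 1), (1048580, 13, 0), (2050, 13, 1), (65538, 15, 0), (132, 15, 1),
    (66, 16, 0), (131076, 16, 1), (36, 17, 0), (262148, 18, 0), (514, 18, 1), (4194308, 20, 1), (4100, 22, 0), (1026, 22, 1),
    (18, 23, 0), (524290, 24, 1), (1048578, 25, 0), (2052, 25, 1), (16388, 27, 1), (2097154, 30, 0), (12, 30, 1), (130, 35, 0)],
  [
    (40, 0, 0), (33792, 0, 0), (262400, 0, 1), (131104, 1, 0), (73728, 1, 1), (524352, 2, 0), (147456, 2, 1), (1049600, 3, 0),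
    (2304, 3, 1), (4352, 4, 0), (4202496, 5, 0), (1049088, 6, 0), (6144, 6, 1), (131080, 7, 0), (192, 8, 0), (2097216, 9, 0),
    (33280, 10, 1), (16392, 11, 0), (4194320, 11, 1), (2097280, 12, 0), (1081344, 13, 0), (264192, 13, 1), (2621440, 14, 1), (4259840, 15, 0),
    (524416, 15, 1), (16416, 16, 0), (65552, 16, 1), (266240, 17, 1), (1536, 23, 1), (8208, 24, 0)],
  [
    (24, 0, 0), (34816, 0, 0), (1310720, 0, 1), (160, 1, 0), (65568, 1, 1), (524296, 2, 0), (4210688, 2, 1), (1040, 3, 0),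
    (2097408, 3, 1), (5120, 4, 0), (1280, 4, 1), (40960, 5, 0), (262208, 5, 1), (262656, 6, 0), (4608, 6, 1), (133120, 7, 0),
    (1056768, 7, 1), (65600, 8, 0), (131200, 8, 1), (2228224, 9, 0), (8200, 9, 1), (131136, 10, 0), (139264, 10, 1), (288, 11, 0),
    (98304, 11, 1), (4718592, 12, 0), (540672, 12, 1), (16400, 13, 1), (2113536, 14, 0), (1048704, 15, 0), (2080, 15, 1), (264, 16, 0),
    (4227072, 16, 1), (4198400, 17, 0), (525312, 17, 1), (1048592, 18, 0), (2099200, 18, 1), (1114112, 19, 0), (2176, 19, 1), (33024, 20, 0),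
    (294912, 20, 1), (5242880, 21, 0), (526336, 21, 1), (1048832, 22, 0), (1088, 23, 0), (131328, 23, 1), (4128, 24, 0), (66560, 24, 1),
    (270336, 25, 0), (576, 25, 1), (8704, 26, 0), (4160, 26, 1), (2560, 27, 0), (1052672, 27, 1), (66048, 28, 0), (4224, 28, 1),
    (6291456, 29, 1), (1152, 30, 0), (32832, 31, 0), (393216, 31, 1), (262176, 32, 0), (2359296, 33, 0), (520, 33, 1), (8256, 34, 1),
    (2056, 35, 0), (65664, 36, 0), (4104, 37, 0), (4195328, 37, 1), (144, 38, 0), (2097184, 38, 1), (96, 39, 0), (196608, 39, 1),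
    (524320, 40, 0), (81920, 40, 1), (262152, 41, 0), (4194816, 41, 1), (8320, 42, 0), (72, 43, 0), (4325376, 43, 1), (532480, 44, 1),
    (1048640, 45, 0), (2098176, 46, 0), (135168, 47, 0), (9216, 47, 1), (524544, 48, 0), (49152, 48, 1), (524304, 49, 1), (16640, 50, 0),
    (32784, 50, 1), (16512, 52, 0), (48, 52, 1), (2097160, 53, 0), (4194312, 53, 1), (20480, 54, 0), (2097168, 55, 0), (327680, 56, 0),
    (640, 56, 1), (131088, 57, 0), (2105344, 57, 1), (4194336, 58, 0), (589824, 58, 1), (1572864, 59, 0), (18432, 59, 1), (262160, 62, 1),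
    (4194560, 63, 0), (557056, 63, 1), (32896, 64, 0), (4112, 65, 0), (2129920, 66, 0), (2064, 68, 0), (3145728, 68, 1), (384, 69, 1),
    (3072, 71, 1), (320, 72, 1), (278528, 74, 1), (528, 75, 1), (272, 76, 0), (786432, 77, 1), (8448, 79, 0), (544, 85, 0),
    (69632, 85, 1), (10240, 86, 0), (2101248, 89, 1), (262272, 91, 1), (2097664, 93, 0), (67584, 94, 0), (528384, 95, 0), (17408, 95, 1),
    (1050624, 97, 0), (65792, 98, 0), (263168, 99, 0), (768, 99, 1), (12288, 100, 0), (4194368, 101, 1), (1064960, 103, 1), (131584, 104, 1),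
    (8224, 105, 0), (2162688, 106, 1), (1048584, 107, 1), (1048608, 109, 1), (65544, 110, 0), (4194432, 110, 1), (80, 111, 0), (655360, 113, 1),
    (524800, 114, 0), (2112, 116, 0), (1179648, 116, 1), (16448, 117, 1), (163840, 118, 1), (1032, 120, 1), (32800, 121, 1), (136, 122, 1),
    (1056, 125, 1), (132096, 129, 1), (24576, 130, 1), (32776, 132, 1), (4456448, 133, 0), (36864, 140, 0), (4196352, 142, 0), (16896, 156, 1)]]

def oct77 : List ℕ := [1, 3, 9, 11, 21, 23, 37, 47, 49, 57, 77, 81, 99, 129, 131, 149, 199, 217, 225, 259, 265, 293, 325, 337, 353, 385, 393, 435, 513, 521, 561, 581, 595, 617, 641, 651, 677, 769, 771, 797, 1029, 1037, 1043, 1049, 1057, 1059, 1089, 1193, 1217, 1297, 1355, 1413, 1543, 1601, 1681, 1825, 2053, 2075, 2081, 2113, 2115, 2121, 2189, 2193, 2209, 2311, 2321, 2345, 2565, 2577, 2595, 3009, 3073, 3189, 3203, 3329, 3593]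

/-- The 2-subsets avoiding `pt 23` and `pt 0`. -/
def U22 : List ℕ := twoSets.filter (fun a => !a.testBit 23 && !a.testBit 0)

/-- Class of a pair mask relative to the base configuration `(pt 23, pt 0, {pt 1, pt 2})`. -/
def cls22 (a : ℕ) : ℕ :=
  if a = 6 then 0 else if wt (6 &&& a) ≠ 0 then 1
  else if oct77.any (fun m => (6 ||| a) &&& cw m == (6 ||| a)) then 2 else 3

theorem g22s_ok : cfgGensOK [23, 0] [6] g22s = true := by decide +kernel

theorem t22s_ok : t22s.all (treeOK g22s) = true := by decide +kernel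

theorem t22s_all : ∀ a ∈ U22, cls22 a < t22s.length →
    (t22s.getD (cls22 a) []).any (fun e => e.1 == a) = true := by decide +kernel

theorem oct77_ok : ∀ m ∈ oct77, m < 4096 ∧ wt (cw m) = 8 ∧ (cw m).testBit 23 = true ∧
    (cw m).testBit 0 = true := by decide +kernel

theorem oct77_all : ∀ m < 4096, wt (cw m) = 8 → (cw m).testBit 23 = true →
    (cw m).testBit 0 = true → oct77.contains m = true :=
  forall_lt_4096 (by decide +kernel)

theorem count22_2 : (U22.filter (fun a => cls22 a = 2)).toFinset.card = 30 := by decide +kernel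
theorem count22_3 : (U22.filter (fun a => cls22 a = 3)).toFinset.card = 160 := by decide +kernel

theorem cls22_lt : ∀ a ∈ U22, cls22 a < t22s.length := by decide +kernel

open Classical in
/-- The class of a pair `t` relative to `(p, q, s)`. -/
noncomputable def cl22 (p q : GolayPt) (s t : Finset GolayPt) : ℕ :=
  if t = s then 0 else if (s ∩ t).card ≠ 0 then 1
  else if ∃ o ∈ octads, p ∈ o ∧ q ∈ o ∧ s ∪ t ⊆ o then 2 else 3

theorem in_octad22_smul {h : Equiv.Perm GolayPt} (hh : h ∈ M24) (p q : GolayPt)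
    (V : Finset GolayPt) :
    (∃ o ∈ octads, h p ∈ o ∧ h q ∈ o ∧ h • V ⊆ o) ↔ ∃ o ∈ octads, p ∈ o ∧ q ∈ o ∧ V ⊆ o := by
  constructor
  · rintro ⟨o, ho, hp, hq, hV⟩
    refine ⟨h⁻¹ • o, smul_mem_octads' (Subgroup.inv_mem _ hh) ho, ?_, ?_, ?_⟩
    · rw [← perm_mem_smul_iff h, smul_inv_smul]
      exact hp
    · rw [← perm_mem_smul_iff h, smul_inv_smul]
      exact hq
    · intro x hx
      rw [← perm_mem_smul_iff h, smul_inv_smul]
      exact hV ((perm_mem_smul_iff h x V).mpr hx)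
  · rintro ⟨o, ho, hp, hq, hV⟩
    exact ⟨h • o, smul_mem_octads' hh ho, (perm_mem_smul_iff h p o).mpr hp,
      (perm_mem_smul_iff h q o).mpr hq, Finset.smul_finset_subset_smul_finset hV⟩

theorem cl22_smul {h : Equiv.Perm GolayPt} (hh : h ∈ M24) (p q : GolayPt)
    (s t : Finset GolayPt) : cl22 (h p) (h q) (h • s) (h • t) = cl22 p q s t := by
  unfold cl22
  rw [card_smul_inter]
  have e : (∃ o ∈ octads, h p ∈ o ∧ h q ∈ o ∧ h • s ∪ h • t ⊆ o) ↔
      ∃ o ∈ octads, p ∈ o ∧ q ∈ o ∧ s ∪ t ⊆ o := by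
    rw [← Finset.smul_finset_union]
    exact in_octad22_smul hh p q _
  have e0 : h • t = h • s ↔ t = s := (MulAction.injective h).eq_iff
  by_cases h00 : t = s
  · rw [if_pos h00, if_pos (e0.mpr h00)]
  · rw [if_neg h00, if_neg (fun hc => h00 (e0.mp hc))]
    by_cases h0 : (s ∩ t).card ≠ 0
    · rw [if_pos h0, if_pos h0]
    · rw [if_neg h0, if_neg h0]
      by_cases h1 : ∃ o ∈ octads, p ∈ o ∧ q ∈ o ∧ s ∪ t ⊆ o
      · rw [if_pos h1, if_pos (e.mpr h1)]
      · rw [if_neg h1, if_neg (fun hc => h1 (e.mp hc))]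

theorem in_octad22_base {a : ℕ} (ha : a < 2 ^ 24) :
    (∃ o ∈ octads, pt 23 ∈ o ∧ pt 0 ∈ o ∧ pts 6 ∪ pts a ⊆ o) ↔
      oct77.any (fun m => (6 ||| a) &&& cw m == (6 ||| a)) = true := by
  rw [← pts_or, List.any_eq_true]
  have hlt : 6 ||| a < 2 ^ 24 := Nat.or_lt_two_pow (by norm_num) ha
  constructor
  · rintro ⟨o, ho, hp, hq, hsub⟩
    obtain ⟨m, hm, hw, rfl⟩ := exists_of_mem_octads ho
    have h1 := (pts_subset_iff hlt).mp hsub
    rw [mem_pts_pt (by norm_num)] at hp hq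
    exact ⟨m, List.contains_iff_mem.mp (oct77_all m hm hw hp hq), by rw [beq_iff_eq]; exact h1⟩
  · rintro ⟨m, hm, hmm⟩
    rw [beq_iff_eq] at hmm
    obtain ⟨hm4, hw, hp, hq⟩ := oct77_ok m hm
    exact ⟨pts (cw m), pts_mem_octads hm4 hw, (mem_pts_pt (by norm_num)).mpr hp,
      (mem_pts_pt (by norm_num)).mpr hq, (pts_subset_iff hlt).mpr hmm⟩

theorem cl22_base {a : ℕ} (ha : a < 2 ^ 24) :
    cl22 (pt 23) (pt 0) (pts 6) (pts a) = cls22 a := by
  unfold cl22 cls22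
  rw [← pts_and, card_pts]
  have e0 : pts a = pts 6 ↔ a = 6 :=
    ⟨fun h => pts_inj_lt ha (by norm_num) h, fun h => by rw [h]⟩
  by_cases h00 : a = 6
  · rw [if_pos h00, if_pos (e0.mpr h00)]
  · rw [if_neg h00, if_neg (fun hc => h00 (e0.mp hc))]
    by_cases h0 : wt (6 &&& a) ≠ 0
    · rw [if_pos h0, if_pos h0]
    · rw [if_neg h0, if_neg h0]
      by_cases h1 : oct77.any (fun m => (6 ||| a) &&& cw m == (6 ||| a)) = true
      · rw [if_pos ((in_octad22_base ha).mpr h1), if_pos h1]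
      · rw [if_neg (fun hc => h1 ((in_octad22_base ha).mp hc)), if_neg h1]

theorem mem_U22 {t : Finset GolayPt} :
    (t.card = 2 ∧ pt 23 ∉ t ∧ pt 0 ∉ t) ↔ ∃ a ∈ U22, t = pts a := by
  constructor
  · rintro ⟨ht, hp, hq⟩
    obtain ⟨a, ha, rfl⟩ := exists_twoSet ht
    refine ⟨a, List.mem_filter.mpr ⟨ha, ?_⟩, rfl⟩
    rw [mem_pts_pt (by norm_num)] at hp hq
    simp only [Bool.and_eq_true, Bool.not_eq_true']
    exact ⟨by simpa using hp, by simpa using hq⟩
  · rintro ⟨a, ha, rfl⟩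
    rw [U22, List.mem_filter] at ha
    obtain ⟨ha2, hb⟩ := ha
    simp only [Bool.and_eq_true, Bool.not_eq_true'] at hb
    refine ⟨by rw [card_pts, twoSets_wt a ha2], ?_, ?_⟩
    · rw [mem_pts_pt (by norm_num), hb.1]
      decide
    · rw [mem_pts_pt (by norm_num), hb.2]
      decide

theorem U22_lt : ∀ a ∈ U22, a < 2 ^ 24 := fun a ha => twoSets_lt a (List.mem_filter.mp ha).1

theorem base_mem22 (i : ℕ) (t : Finset GolayPt) :
    ((t.card = 2 ∧ pt 23 ∉ t ∧ pt 0 ∉ t) ∧ cl22 (pt 23) (pt 0) (pts 6) t = i) ↔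
      ∃ a ∈ U22.filter (fun a => cls22 a = i), t = pts a := by
  constructor
  · rintro ⟨ht, hc⟩
    obtain ⟨a, ha, rfl⟩ := mem_U22.mp ht
    refine ⟨a, List.mem_filter.mpr ⟨ha, ?_⟩, rfl⟩
    rw [decide_eq_true_eq, ← cl22_base (U22_lt a ha)]
    exact hc
  · rintro ⟨a, ha, rfl⟩
    rw [List.mem_filter, decide_eq_true_eq] at ha
    refine ⟨mem_U22.mpr ⟨a, ha.1, rfl⟩, ?_⟩
    rw [cl22_base (U22_lt a ha.1)]
    exact ha.2

theorem base_count22 (i : ℕ) :
    {t : Finset GolayPt | (t.card = 2 ∧ pt 23 ∉ t ∧ pt 0 ∉ t) ∧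
      cl22 (pt 23) (pt 0) (pts 6) t = i}.ncard
      = (U22.filter (fun a => cls22 a = i)).toFinset.card :=
  ncard_maskList _ (fun a ha => U22_lt a (List.mem_filter.mp ha).1) _ (base_mem22 i)

theorem base_trans22 {t t' : Finset GolayPt} (ht : t.card = 2 ∧ pt 23 ∉ t ∧ pt 0 ∉ t)
    (ht' : t'.card = 2 ∧ pt 23 ∉ t' ∧ pt 0 ∉ t')
    (h : cl22 (pt 23) (pt 0) (pts 6) t = cl22 (pt 23) (pt 0) (pts 6) t') :
    ∃ g ∈ cfgStab [23, 0] [6], g • t = t' := by
  obtain ⟨a, ha, rfl⟩ := mem_U22.mp ht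
  obtain ⟨a', ha', rfl⟩ := mem_U22.mp ht'
  rw [cl22_base (U22_lt a ha), cl22_base (U22_lt a' ha')] at h
  exact rank_reach_list _ g22s (cfgGens_mem g22s_ok) t22s t22s_ok cls22 U22 t22s_all ha ha'
    (cls22_lt a ha) h

/-- Move `(p, q, s)` to the base configuration. -/
theorem cfg22_to_base {p q : GolayPt} (hpq : p ≠ q) {s : Finset GolayPt}
    (hs : s.card = 2 ∧ p ∉ s ∧ q ∉ s) :
    ∃ h ∈ M24, h p = pt 23 ∧ h q = pt 0 ∧ h • s = pts 6 := by
  obtain ⟨hs2, hps, hqs⟩ := hs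
  obtain ⟨x, y, hxy, rfl⟩ := Finset.card_eq_two.mp hs2
  rw [Finset.mem_insert, Finset.mem_singleton] at hps hqs
  push Not at hps hqs
  let e : Fin 4 ↪ GolayPt := ⟨![p, q, x, y], by
    intro i j hij
    fin_cases i <;> fin_cases j <;> simp_all⟩
  obtain ⟨h, hh, hhe⟩ := emb_to_base (by norm_num) e
  have h0 : h p = pt 23 := hhe 0
  have h1 : h q = pt 0 := hhe 1
  have h2 : h x = pt 1 := hhe 2
  have h3 : h y = pt 2 := hhe 3
  refine ⟨h, hh, h0, h1, ?_⟩
  have e6 : pts 6 = {pt 2, pt 1} := pts_two 2 (by norm_num) 1 (by norm_num)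
  rw [e6]
  ext z
  rw [Finset.mem_smul_finset]
  simp only [Finset.mem_insert, Finset.mem_singleton, Equiv.Perm.smul_def]
  constructor
  · rintro ⟨w, hw | hw, rfl⟩
    · right
      rw [hw, h2]
    · left
      rw [hw, h3]
  · rintro (hz | hz)
    · exact ⟨y, Or.inr rfl, by rw [h3, hz]⟩
    · exact ⟨x, Or.inl rfl, by rw [h2, hz]⟩

end Cfsg.Agent.helper2.Golay
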