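import Mathlib
import Cfsg.Agent.Lib_helper2_Enum

set_option autoImplicit false

namespace Cfsg.Agent.helper2.Golay

open Cfsg Cfsg.Agent.helper27
open scoped Pointwise

/-! ### The group of order 72 fixing the base dodecad and three of its points -/

/-- Elements of the base group, one for each pair of images of the last two base points. -/
def usM9 : List (List ℕ × List ℕ) := [
  ([0, 1, 2, 3, 4, 5, 6, 7, 8, 9, 10, 11, 12, 13, 14, 15, 16, 17, 18, 19, 20, 21, 22, 23], [0, 1, 2, 3, 4, 5, 6, 7, 8, 9, 10, 11, 12, 13, 14, 15, 16, 17, 18, 19, 20, 21, 22, 23]),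
  ([0, 1, 2, 4, 17, 22, 8, 11, 7, 20, 15, 6, 21, 5, 13, 10, 3, 16, 19, 12, 9, 18, 14, 23], [0, 1, 2, 16, 3, 13, 11, 8, 6, 20, 15, 7, 19, 14, 22, 10, 17, 4, 21, 18, 9, 12, 5, 23]),
  ([0, 1, 2, 12, 19, 8, 13, 22, 14, 15, 20, 5, 17, 7, 11, 9, 21, 18, 3, 16, 10, 4, 6, 23], [0, 1, 2, 18, 21, 11, 22, 13, 5, 15, 20, 14, 3, 6, 8, 9, 19, 12, 17, 4, 10, 16, 7, 23]),
  ([0, 1, 2, 16, 3, 13, 11, 8, 6, 20, 15, 7, 19, 14, 22, 10, 17, 4, 21, 18, 9, 12, 5, 23], [0, 1, 2, 4, 17, 22, 8, 11, 7, 20, 15, 6, 21, 5, 13, 10, 3, 16, 19, 12, 9, 18, 14, 23]),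
  ([0, 1, 2, 17, 16, 14, 7, 6, 11, 9, 10, 8, 18, 22, 5, 15, 4, 3, 12, 21, 20, 19, 13, 23], [0, 1, 2, 17, 16, 14, 7, 6, 11, 9, 10, 8, 18, 22, 5, 15, 4, 3, 12, 21, 20, 19, 13, 23]),
  ([0, 1, 2, 18, 21, 11, 22, 13, 5, 15, 20, 14, 3, 6, 8, 9, 19, 12, 17, 4, 10, 16, 7, 23], [0, 1, 2, 12, 19, 8, 13, 22, 14, 15, 20, 5, 17, 7, 11, 9, 21, 18, 3, 16, 10, 4, 6, 23]),
  ([0, 1, 2, 19, 18, 6, 14, 5, 22, 10, 9, 13, 4, 8, 7, 20, 12, 21, 16, 17, 15, 3, 11, 23], [0, 1, 2, 21, 12, 7, 5, 14, 13, 10, 9, 22, 16, 11, 6, 20, 18, 19, 4, 3, 15, 17, 8, 23]),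
  ([0, 1, 2, 21, 12, 7, 5, 14, 13, 10, 9, 22, 16, 11, 6, 20, 18, 19, 4, 3, 15, 17, 8, 23], [0, 1, 2, 19, 18, 6, 14, 5, 22, 10, 9, 13, 4, 8, 7, 20, 12, 21, 16, 17, 15, 3, 11, 23]),
  ([0, 1, 3, 2, 12, 14, 9, 7, 20, 6, 10, 11, 4, 15, 5, 13, 21, 17, 19, 18, 8, 16, 22, 23], [0, 1, 3, 2, 12, 14, 9, 7, 20, 6, 10, 11, 4, 15, 5, 13, 21, 17, 19, 18, 8, 16, 22, 23]),
  ([0, 1, 3, 4, 18, 20, 15, 22, 5, 13, 8, 14, 17, 7, 11, 6, 16, 19, 2, 21, 10, 12, 9, 23], [0, 1, 18, 2, 3, 8, 15, 13, 10, 22, 20, 14, 21, 9, 11, 6, 16, 12, 4, 17, 5, 19, 7, 23]),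
  ([0, 1, 3, 12, 17, 22, 20, 11, 7, 8, 13, 9, 16, 14, 15, 10, 2, 21, 18, 4, 6, 19, 5, 23], [0, 1, 16, 2, 19, 22, 20, 8, 9, 11, 15, 7, 3, 10, 13, 14, 12, 4, 18, 21, 6, 17, 5, 23]),
  ([0, 1, 3, 16, 4, 7, 14, 5, 15, 10, 6, 22, 21, 11, 9, 8, 19, 18, 12, 2, 13, 17, 20, 23], [0, 1, 19, 2, 4, 7, 10, 5, 15, 14, 9, 13, 18, 20, 6, 8, 3, 21, 17, 16, 22, 12, 11, 23]),
  ([0, 1, 3, 17, 21, 5, 7, 9, 11, 6, 10, 20, 19, 22, 14, 13, 12, 2, 4, 16, 8, 18, 15, 23], [0, 1, 17, 2, 18, 5, 9, 6, 20, 7, 10, 8, 16, 15, 14, 22, 19, 3, 21, 12, 11, 4, 13, 23]),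
  ([0, 1, 3, 18, 19, 9, 5, 14, 22, 10, 6, 15, 12, 20, 7, 8, 4, 16, 21, 17, 13, 2, 11, 23], [0, 1, 21, 2, 16, 6, 10, 14, 15, 5, 9, 22, 12, 20, 7, 11, 17, 19, 3, 4, 13, 18, 8, 23]),
  ([0, 1, 3, 19, 16, 11, 22, 15, 14, 13, 8, 5, 2, 9, 20, 6, 18, 4, 17, 12, 10, 21, 7, 23], [0, 1, 12, 2, 17, 11, 15, 22, 10, 13, 20, 5, 19, 9, 8, 7, 4, 18, 16, 3, 14, 21, 6, 23]),
  ([0, 1, 3, 21, 2, 15, 11, 20, 9, 8, 13, 7, 18, 5, 22, 10, 17, 12, 16, 19, 6, 4, 14, 23], [0, 1, 4, 2, 21, 13, 20, 11, 9, 8, 15, 6, 17, 10, 22, 5, 18, 16, 12, 19, 7, 3, 14, 23]),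
  ([0, 1, 4, 2, 21, 13, 20, 11, 9, 8, 15, 6, 17, 10, 22, 5, 18, 16, 12, 19, 7, 3, 14, 23], [0, 1, 3, 21, 2, 15, 11, 20, 9, 8, 13, 7, 18, 5, 22, 10, 17, 12, 16, 19, 6, 4, 14, 23]),
  ([0, 1, 4, 3, 17, 11, 13, 22, 10, 15, 8, 14, 18, 6, 20, 7, 12, 19, 21, 2, 5, 16, 9, 23], [0, 1, 19, 3, 2, 20, 13, 15, 10, 22, 8, 5, 16, 6, 11, 9, 21, 4, 12, 17, 14, 18, 7, 23]),
  ([0, 1, 4, 12, 3, 6, 14, 10, 13, 5, 7, 22, 2, 20, 9, 8, 19, 17, 16, 21, 15, 18, 11, 23], [0, 1, 12, 4, 2, 9, 5, 10, 15, 14, 7, 22, 3, 8, 6, 20, 18, 17, 21, 16, 13, 19, 11, 23]),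
  ([0, 1, 4, 16, 18, 22, 11, 20, 6, 8, 15, 9, 12, 14, 13, 5, 21, 2, 17, 3, 7, 19, 10, 23], [0, 1, 17, 19, 2, 15, 8, 20, 9, 11, 22, 6, 12, 14, 13, 10, 3, 18, 4, 21, 7, 16, 5, 23]),
  ([0, 1, 4, 17, 19, 9, 10, 14, 22, 5, 7, 13, 16, 11, 6, 8, 3, 12, 2, 18, 15, 21, 20, 23], [0, 1, 18, 16, 2, 9, 14, 10, 15, 5, 6, 13, 17, 11, 7, 20, 12, 3, 19, 4, 22, 21, 8, 23]),
  ([0, 1, 4, 18, 2, 10, 6, 9, 20, 7, 5, 11, 19, 22, 14, 15, 16, 21, 3, 12, 8, 17, 13, 23], [0, 1, 4, 18, 2, 10, 6, 9, 20, 7, 5, 11, 19, 22, 14, 15, 16, 21, 3, 12, 8, 17, 13, 23]),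
  ([0, 1, 4, 19, 12, 20, 22, 13, 14, 15, 8, 10, 21, 9, 11, 7, 17, 3, 18, 16, 5, 2, 6, 23], [0, 1, 21, 17, 2, 20, 22, 15, 10, 13, 11, 14, 4, 7, 8, 9, 19, 16, 18, 3, 5, 12, 6, 23]),
  ([0, 1, 4, 21, 16, 14, 9, 6, 11, 7, 5, 20, 3, 13, 10, 15, 2, 18, 19, 17, 8, 12, 22, 23], [0, 1, 16, 12, 2, 10, 7, 9, 20, 6, 14, 8, 21, 13, 5, 15, 4, 19, 17, 18, 11, 3, 22, 23]),
  ([0, 1, 12, 2, 17, 11, 15, 22, 10, 13, 20, 5, 19, 9, 8, 7, 4, 18, 16, 3, 14, 21, 6, 23], [0, 1, 3, 19, 16, 11, 22, 15, 14, 13, 8, 5, 2, 9, 20, 6, 18, 4, 17, 12, 10, 21, 7, 23]),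
  ([0, 1, 12, 3, 16, 15, 8, 11, 6, 20, 13, 9, 17, 10, 22, 14, 19, 21, 4, 18, 7, 2, 5, 23], [0, 1, 21, 3, 18, 22, 8, 20, 6, 11, 13, 7, 2, 10, 15, 5, 4, 12, 19, 16, 9, 17, 14, 23]),
  ([0, 1, 12, 4, 2, 9, 5, 10, 15, 14, 7, 22, 3, 8, 6, 20, 18, 17, 21, 16, 13, 19, 11, 23], [0, 1, 4, 12, 3, 6, 14, 10, 13, 5, 7, 22, 2, 20, 9, 8, 19, 17, 16, 21, 15, 18, 11, 23]),
  ([0, 1, 12, 16, 21, 5, 6, 9, 11, 7, 14, 8, 2, 15, 10, 13, 3, 19, 18, 17, 20, 4, 22, 23], [0, 1, 12, 16, 21, 5, 6, 9, 11, 7, 14, 8, 2, 15, 10, 13, 3, 19, 18, 17, 20, 4, 22, 23]),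
  ([0, 1, 12, 17, 18, 6, 10, 5, 22, 14, 7, 15, 21, 11, 9, 20, 2, 4, 3, 19, 13, 16, 8, 23], [0, 1, 16, 18, 17, 7, 5, 10, 22, 14, 6, 13, 2, 20, 9, 11, 21, 3, 4, 19, 15, 12, 8, 23]),
  ([0, 1, 12, 18, 4, 8, 22, 15, 5, 13, 20, 10, 16, 6, 11, 7, 17, 2, 19, 21, 14, 3, 9, 23], [0, 1, 17, 21, 4, 8, 13, 15, 5, 22, 11, 14, 2, 9, 20, 7, 12, 16, 3, 18, 10, 19, 6, 23]),
  ([0, 1, 12, 19, 3, 10, 9, 6, 8, 7, 14, 11, 18, 22, 5, 13, 21, 16, 2, 4, 20, 17, 15, 23], [0, 1, 18, 4, 19, 14, 7, 9, 8, 6, 5, 11, 2, 15, 10, 22, 17, 21, 12, 3, 20, 16, 13, 23]),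
  ([0, 1, 12, 21, 19, 22, 11, 8, 9, 20, 13, 6, 4, 5, 15, 14, 16, 3, 17, 2, 7, 18, 10, 23], [0, 1, 19, 17, 12, 13, 11, 20, 7, 8, 22, 6, 2, 10, 15, 14, 16, 18, 21, 4, 9, 3, 5, 23]),
  ([0, 1, 16, 2, 19, 22, 20, 8, 9, 11, 15, 7, 3, 10, 13, 14, 12, 4, 18, 21, 6, 17, 5, 23], [0, 1, 3, 12, 17, 22, 20, 11, 7, 8, 13, 9, 16, 14, 15, 10, 2, 21, 18, 4, 6, 19, 5, 23]),
  ([0, 1, 16, 3, 21, 9, 10, 5, 13, 14, 6, 22, 4, 8, 7, 11, 17, 18, 2, 12, 15, 19, 20, 23], [0, 1, 18, 3, 12, 7, 10, 14, 13, 5, 6, 15, 19, 8, 9, 20, 2, 16, 17, 21, 22, 4, 11, 23]),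
  ([0, 1, 16, 4, 12, 13, 8, 20, 7, 11, 15, 9, 18, 5, 22, 14, 19, 2, 3, 17, 6, 21, 10, 23], [0, 1, 17, 18, 3, 13, 20, 8, 6, 11, 22, 9, 4, 5, 15, 10, 2, 19, 12, 16, 7, 21, 14, 23]),
  ([0, 1, 16, 12, 2, 10, 7, 9, 20, 6, 14, 8, 21, 13, 5, 15, 4, 19, 17, 18, 11, 3, 22, 23], [0, 1, 4, 21, 16, 14, 9, 6, 11, 7, 5, 20, 3, 13, 10, 15, 2, 18, 19, 17, 8, 12, 22, 23]),
  ([0, 1, 16, 17, 3, 8, 22, 13, 10, 15, 11, 5, 12, 7, 20, 6, 18, 21, 19, 2, 14, 4, 9, 23], [0, 1, 19, 4, 21, 11, 15, 13, 5, 22, 8, 10, 12, 7, 20, 9, 2, 3, 16, 18, 14, 17, 6, 23]),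
  ([0, 1, 16, 18, 17, 7, 5, 10, 22, 14, 6, 13, 2, 20, 9, 11, 21, 3, 4, 19, 15, 12, 8, 23], [0, 1, 12, 17, 18, 6, 10, 5, 22, 14, 7, 15, 21, 11, 9, 20, 2, 4, 3, 19, 13, 16, 8, 23]),
  ([0, 1, 16, 19, 4, 5, 9, 7, 8, 6, 14, 20, 17, 22, 10, 15, 2, 12, 21, 3, 11, 18, 13, 23], [0, 1, 16, 19, 4, 5, 9, 7, 8, 6, 14, 20, 17, 22, 10, 15, 2, 12, 21, 3, 11, 18, 13, 23]),
  ([0, 1, 16, 21, 18, 20, 13, 22, 5, 15, 11, 10, 19, 9, 8, 6, 3, 17, 12, 4, 14, 2, 7, 23], [0, 1, 21, 16, 19, 8, 15, 22, 14, 13, 11, 10, 18, 6, 20, 9, 2, 17, 4, 12, 5, 3, 7, 23]),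
  ([0, 1, 17, 2, 18, 5, 9, 6, 20, 7, 10, 8, 16, 15, 14, 22, 19, 3, 21, 12, 11, 4, 13, 23], [0, 1, 3, 17, 21, 5, 7, 9, 11, 6, 10, 20, 19, 22, 14, 13, 12, 2, 4, 16, 8, 18, 15, 23]),
  ([0, 1, 17, 3, 19, 14, 6, 9, 8, 7, 10, 20, 21, 13, 5, 22, 18, 2, 16, 4, 11, 12, 15, 23], [0, 1, 17, 3, 19, 14, 6, 9, 8, 7, 10, 20, 21, 13, 5, 22, 18, 2, 16, 4, 11, 12, 15, 23]),
  ([0, 1, 17, 4, 16, 6, 5, 14, 15, 10, 7, 13, 19, 8, 9, 11, 21, 12, 18, 2, 22, 3, 20, 23], [0, 1, 19, 21, 3, 6, 5, 10, 13, 14, 9, 15, 17, 11, 7, 8, 4, 2, 18, 12, 22, 16, 20, 23]),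
  ([0, 1, 17, 12, 21, 9, 14, 5, 13, 10, 7, 15, 18, 20, 6, 11, 16, 4, 19, 3, 22, 2, 8, 23], [0, 1, 21, 19, 17, 7, 14, 10, 22, 5, 9, 15, 3, 8, 6, 11, 16, 2, 12, 18, 13, 4, 20, 23]),
  ([0, 1, 17, 16, 12, 20, 15, 13, 14, 22, 11, 5, 3, 6, 8, 7, 4, 21, 2, 19, 10, 18, 9, 23], [0, 1, 18, 12, 16, 11, 13, 15, 14, 22, 20, 10, 4, 7, 8, 6, 3, 2, 21, 19, 5, 17, 9, 23]),
  ([0, 1, 17, 18, 3, 13, 20, 8, 6, 11, 22, 9, 4, 5, 15, 10, 2, 19, 12, 16, 7, 21, 14, 23], [0, 1, 16, 4, 12, 13, 8, 20, 7, 11, 15, 9, 18, 5, 22, 14, 19, 2, 3, 17, 6, 21, 10, 23]),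
  ([0, 1, 17, 19, 2, 15, 8, 20, 9, 11, 22, 6, 12, 14, 13, 10, 3, 18, 4, 21, 7, 16, 5, 23], [0, 1, 4, 16, 18, 22, 11, 20, 6, 8, 15, 9, 12, 14, 13, 5, 21, 2, 17, 3, 7, 19, 10, 23]),
  ([0, 1, 17, 21, 4, 8, 13, 15, 5, 22, 11, 14, 2, 9, 20, 7, 12, 16, 3, 18, 10, 19, 6, 23], [0, 1, 12, 18, 4, 8, 22, 15, 5, 13, 20, 10, 16, 6, 11, 7, 17, 2, 19, 21, 14, 3, 9, 23]),
  ([0, 1, 18, 2, 3, 8, 15, 13, 10, 22, 20, 14, 21, 9, 11, 6, 16, 12, 4, 17, 5, 19, 7, 23], [0, 1, 3, 4, 18, 20, 15, 22, 5, 13, 8, 14, 17, 7, 11, 6, 16, 19, 2, 21, 10, 12, 9, 23]),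
  ([0, 1, 18, 3, 12, 7, 10, 14, 13, 5, 6, 15, 19, 8, 9, 20, 2, 16, 17, 21, 22, 4, 11, 23], [0, 1, 16, 3, 21, 9, 10, 5, 13, 14, 6, 22, 4, 8, 7, 11, 17, 18, 2, 12, 15, 19, 20, 23]),
  ([0, 1, 18, 4, 19, 14, 7, 9, 8, 6, 5, 11, 2, 15, 10, 22, 17, 21, 12, 3, 20, 16, 13, 23], [0, 1, 12, 19, 3, 10, 9, 6, 8, 7, 14, 11, 18, 22, 5, 13, 21, 16, 2, 4, 20, 17, 15, 23]),
  ([0, 1, 18, 12, 16, 11, 13, 15, 14, 22, 20, 10, 4, 7, 8, 6, 3, 2, 21, 19, 5, 17, 9, 23], [0, 1, 17, 16, 12, 20, 15, 13, 14, 22, 11, 5, 3, 6, 8, 7, 4, 21, 2, 19, 10, 18, 9, 23]),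
  ([0, 1, 18, 16, 2, 9, 14, 10, 15, 5, 6, 13, 17, 11, 7, 20, 12, 3, 19, 4, 22, 21, 8, 23], [0, 1, 4, 17, 19, 9, 10, 14, 22, 5, 7, 13, 16, 11, 6, 8, 3, 12, 2, 18, 15, 21, 20, 23]),
  ([0, 1, 18, 17, 4, 15, 11, 8, 7, 20, 22, 9, 3, 10, 13, 5, 21, 19, 16, 12, 6, 2, 14, 23], [0, 1, 21, 12, 4, 15, 20, 8, 7, 11, 13, 6, 19, 14, 22, 5, 18, 3, 2, 17, 9, 16, 10, 23]),
  ([0, 1, 18, 19, 21, 13, 8, 11, 9, 20, 22, 7, 16, 14, 15, 5, 4, 17, 3, 2, 6, 12, 10, 23], [0, 1, 19, 18, 16, 15, 20, 11, 6, 8, 22, 7, 21, 5, 13, 14, 12, 17, 2, 3, 9, 4, 10, 23]),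
  ([0, 1, 18, 21, 17, 10, 9, 7, 11, 6, 5, 8, 12, 13, 14, 22, 19, 4, 2, 16, 20, 3, 15, 23], [0, 1, 18, 21, 17, 10, 9, 7, 11, 6, 5, 8, 12, 13, 14, 22, 19, 4, 2, 16, 20, 3, 15, 23]),
  ([0, 1, 19, 2, 4, 7, 10, 5, 15, 14, 9, 13, 18, 20, 6, 8, 3, 21, 17, 16, 22, 12, 11, 23], [0, 1, 3, 16, 4, 7, 14, 5, 15, 10, 6, 22, 21, 11, 9, 8, 19, 18, 12, 2, 13, 17, 20, 23]),
  ([0, 1, 19, 3, 2, 20, 13, 15, 10, 22, 8, 5, 16, 6, 11, 9, 21, 4, 12, 17, 14, 18, 7, 23], [0, 1, 4, 3, 17, 11, 13, 22, 10, 15, 8, 14, 18, 6, 20, 7, 12, 19, 21, 2, 5, 16, 9, 23]),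
  ([0, 1, 19, 4, 21, 11, 15, 13, 5, 22, 8, 10, 12, 7, 20, 9, 2, 3, 16, 18, 14, 17, 6, 23], [0, 1, 16, 17, 3, 8, 22, 13, 10, 15, 11, 5, 12, 7, 20, 6, 18, 21, 19, 2, 14, 4, 9, 23]),
  ([0, 1, 19, 12, 18, 5, 7, 6, 20, 9, 14, 11, 3, 13, 10, 22, 17, 16, 4, 2, 8, 21, 15, 23], [0, 1, 19, 12, 18, 5, 7, 6, 20, 9, 14, 11, 3, 13, 10, 22, 17, 16, 4, 2, 8, 21, 15, 23]),
  ([0, 1, 19, 16, 17, 10, 6, 7, 11, 9, 14, 20, 4, 15, 5, 22, 18, 12, 3, 21, 8, 2, 13, 23], [0, 1, 21, 18, 12, 14, 6, 7, 20, 9, 5, 8, 17, 22, 10, 13, 3, 4, 16, 2, 11, 19, 15, 23]),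
  ([0, 1, 19, 17, 12, 13, 11, 20, 7, 8, 22, 6, 2, 10, 15, 14, 16, 18, 21, 4, 9, 3, 5, 23], [0, 1, 12, 21, 19, 22, 11, 8, 9, 20, 13, 6, 4, 5, 15, 14, 16, 3, 17, 2, 7, 18, 10, 23]),
  ([0, 1, 19, 18, 16, 15, 20, 11, 6, 8, 22, 7, 21, 5, 13, 14, 12, 17, 2, 3, 9, 4, 10, 23], [0, 1, 18, 19, 21, 13, 8, 11, 9, 20, 22, 7, 16, 14, 15, 5, 4, 17, 3, 2, 6, 12, 10, 23]),
  ([0, 1, 19, 21, 3, 6, 5, 10, 13, 14, 9, 15, 17, 11, 7, 8, 4, 2, 18, 12, 22, 16, 20, 23], [0, 1, 17, 4, 16, 6, 5, 14, 15, 10, 7, 13, 19, 8, 9, 11, 21, 12, 18, 2, 22, 3, 20, 23]),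
  ([0, 1, 21, 2, 16, 6, 10, 14, 15, 5, 9, 22, 12, 20, 7, 11, 17, 19, 3, 4, 13, 18, 8, 23], [0, 1, 3, 18, 19, 9, 5, 14, 22, 10, 6, 15, 12, 20, 7, 8, 4, 16, 21, 17, 13, 2, 11, 23]),
  ([0, 1, 21, 3, 18, 22, 8, 20, 6, 11, 13, 7, 2, 10, 15, 5, 4, 12, 19, 16, 9, 17, 14, 23], [0, 1, 12, 3, 16, 15, 8, 11, 6, 20, 13, 9, 17, 10, 22, 14, 19, 21, 4, 18, 7, 2, 5, 23]),
  ([0, 1, 21, 4, 3, 10, 7, 6, 8, 9, 5, 20, 16, 15, 14, 13, 12, 18, 17, 19, 11, 2, 22, 23], [0, 1, 21, 4, 3, 10, 7, 6, 8, 9, 5, 20, 16, 15, 14, 13, 12, 18, 17, 19, 11, 2, 22, 23]),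
  ([0, 1, 21, 12, 4, 15, 20, 8, 7, 11, 13, 6, 19, 14, 22, 5, 18, 3, 2, 17, 9, 16, 10, 23], [0, 1, 18, 17, 4, 15, 11, 8, 7, 20, 22, 9, 3, 10, 13, 5, 21, 19, 16, 12, 6, 2, 14, 23]),
  ([0, 1, 21, 16, 19, 8, 15, 22, 14, 13, 11, 10, 18, 6, 20, 9, 2, 17, 4, 12, 5, 3, 7, 23], [0, 1, 16, 21, 18, 20, 13, 22, 5, 15, 11, 10, 19, 9, 8, 6, 3, 17, 12, 4, 14, 2, 7, 23]),
  ([0, 1, 21, 17, 2, 20, 22, 15, 10, 13, 11, 14, 4, 7, 8, 9, 19, 16, 18, 3, 5, 12, 6, 23], [0, 1, 4, 19, 12, 20, 22, 13, 14, 15, 8, 10, 21, 9, 11, 7, 17, 3, 18, 16, 5, 2, 6, 23]),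
  ([0, 1, 21, 18, 12, 14, 6, 7, 20, 9, 5, 8, 17, 22, 10, 13, 3, 4, 16, 2, 11, 19, 15, 23], [0, 1, 19, 16, 17, 10, 6, 7, 11, 9, 14, 20, 4, 15, 5, 22, 18, 12, 3, 21, 8, 2, 13, 23]),
  ([0, 1, 21, 19, 17, 7, 14, 10, 22, 5, 9, 15, 3, 8, 6, 11, 16, 2, 12, 18, 13, 4, 20, 23], [0, 1, 17, 12, 21, 9, 14, 5, 13, 10, 7, 15, 18, 20, 6, 11, 16, 4, 19, 3, 22, 2, 8, 23])]

/-- The elements of order dividing nine. -/
def m9L : List (List ℕ) := [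
  [0, 1, 2, 3, 4, 5, 6, 7, 8, 9, 10, 11, 12, 13, 14, 15, 16, 17, 18, 19, 20, 21, 22, 23],
  [0, 1, 3, 17, 21, 5, 7, 9, 11, 6, 10, 20, 19, 22, 14, 13, 12, 2, 4, 16, 8, 18, 15, 23],
  [0, 1, 4, 21, 16, 14, 9, 6, 11, 7, 5, 20, 3, 13, 10, 15, 2, 18, 19, 17, 8, 12, 22, 23],
  [0, 1, 12, 19, 3, 10, 9, 6, 8, 7, 14, 11, 18, 22, 5, 13, 21, 16, 2, 4, 20, 17, 15, 23],
  [0, 1, 16, 12, 2, 10, 7, 9, 20, 6, 14, 8, 21, 13, 5, 15, 4, 19, 17, 18, 11, 3, 22, 23],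
  [0, 1, 17, 2, 18, 5, 9, 6, 20, 7, 10, 8, 16, 15, 14, 22, 19, 3, 21, 12, 11, 4, 13, 23],
  [0, 1, 18, 4, 19, 14, 7, 9, 8, 6, 5, 11, 2, 15, 10, 22, 17, 21, 12, 3, 20, 16, 13, 23],
  [0, 1, 19, 16, 17, 10, 6, 7, 11, 9, 14, 20, 4, 15, 5, 22, 18, 12, 3, 21, 8, 2, 13, 23],
  [0, 1, 21, 18, 12, 14, 6, 7, 20, 9, 5, 8, 17, 22, 10, 13, 3, 4, 16, 2, 11, 19, 15, 23]]

/-- The eight elements fixing four base points, labelled by the quaternion group. -/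
def q8L : List (List ℕ × List ℕ) := [
  ([0, 1, 2, 3, 4, 5, 6, 7, 8, 9, 10, 11, 12, 13, 14, 15, 16, 17, 18, 19, 20, 21, 22, 23], [0, 1, 2, 3, 4, 5, 6, 7, 8, 9, 10, 11, 12, 13, 14, 15, 16, 17, 18, 19, 20, 21, 22, 23]),
  ([0, 1, 2, 4, 17, 22, 8, 11, 7, 20, 15, 6, 21, 5, 13, 10, 3, 16, 19, 12, 9, 18, 14, 23], [0, 1, 2, 16, 3, 13, 11, 8, 6, 20, 15, 7, 19, 14, 22, 10, 17, 4, 21, 18, 9, 12, 5, 23]),
  ([0, 1, 2, 17, 16, 14, 7, 6, 11, 9, 10, 8, 18, 22, 5, 15, 4, 3, 12, 21, 20, 19, 13, 23], [0, 1, 2, 17, 16, 14, 7, 6, 11, 9, 10, 8, 18, 22, 5, 15, 4, 3, 12, 21, 20, 19, 13, 23]),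
  ([0, 1, 2, 16, 3, 13, 11, 8, 6, 20, 15, 7, 19, 14, 22, 10, 17, 4, 21, 18, 9, 12, 5, 23], [0, 1, 2, 4, 17, 22, 8, 11, 7, 20, 15, 6, 21, 5, 13, 10, 3, 16, 19, 12, 9, 18, 14, 23]),
  ([0, 1, 2, 12, 19, 8, 13, 22, 14, 15, 20, 5, 17, 7, 11, 9, 21, 18, 3, 16, 10, 4, 6, 23], [0, 1, 2, 18, 21, 11, 22, 13, 5, 15, 20, 14, 3, 6, 8, 9, 19, 12, 17, 4, 10, 16, 7, 23]),
  ([0, 1, 2, 19, 18, 6, 14, 5, 22, 10, 9, 13, 4, 8, 7, 20, 12, 21, 16, 17, 15, 3, 11, 23], [0, 1, 2, 21, 12, 7, 5, 14, 13, 10, 9, 22, 16, 11, 6, 20, 18, 19, 4, 3, 15, 17, 8, 23]),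
  ([0, 1, 2, 18, 21, 11, 22, 13, 5, 15, 20, 14, 3, 6, 8, 9, 19, 12, 17, 4, 10, 16, 7, 23], [0, 1, 2, 12, 19, 8, 13, 22, 14, 15, 20, 5, 17, 7, 11, 9, 21, 18, 3, 16, 10, 4, 6, 23]),
  ([0, 1, 2, 21, 12, 7, 5, 14, 13, 10, 9, 22, 16, 11, 6, 20, 18, 19, 4, 3, 15, 17, 8, 23], [0, 1, 2, 19, 18, 6, 14, 5, 22, 10, 9, 13, 4, 8, 7, 20, 12, 21, 16, 17, 15, 3, 11, 23])]


theorem usM9_ok : usM9.all (fun u => tablesOK u.1 u.2 && codeOK u.2) = true := by decide +kernel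

theorem usM9_spec : ∀ u ∈ usM9, tablesOK u.1 u.2 = true ∧ codeOK u.2 = true := by
  intro u hu
  have := List.all_eq_true.mp usM9_ok u hu
  rwa [Bool.and_eq_true] at this

/-- The defining property of the base group. -/
def PM9 (g : Equiv.Perm GolayPt) : Prop :=
  g (pt 23) = pt 23 ∧ g (pt 0) = pt 0 ∧ g (pt 1) = pt 1 ∧ g • pts d0m = pts d0m

/-- The points of the base dodecad. -/
def d12L : List ℕ := [23, 0, 1, 2, 3, 4, 12, 16, 17, 18, 19, 21]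

theorem d0_mem_iff : ∀ p : GolayPt, p ∈ pts d0m ↔ idx p ∈ d12L := by decide +kernel

theorem m9_match : d12L.all (fun a => d12L.all (fun b => (a == 23) || (a == 0) || (a == 1) ||
    (b == 23) || (b == 0) || (b == 1) || (a == b) || matchB usM9 [23, 0, 1, a, b])) = true := by
  decide +kernel

/-- Every element of the base group is one of the candidates. -/
theorem M9_cand {g : Equiv.Perm GolayPt} (hg : g ∈ M24) (hP : PM9 g) :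
    ∃ d ∈ candsOf usM9, g = gperm d := by
  obtain ⟨h23, h0, h1, hd⟩ := hP
  have hin : ∀ i ∈ d12L, idx (g (pt i)) ∈ d12L := by
    intro i hi
    have hi24 : i < 24 := by
      simp only [d12L, List.mem_cons, List.not_mem_nil, or_false] at hi
      omega
    rw [← d0_mem_iff, ← hd]
    apply Finset.smul_mem_smul_finset
    rw [d0_mem_iff, idx_pt i hi24]
    exact hi
  have hne : ∀ i < 24, ∀ j < 24, i ≠ j → idx (g (pt i)) ≠ idx (g (pt j)) := by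
    intro i hi j hj hij h
    have h1 : g (pt i) = g (pt j) := by rw [← pt_idx (g (pt i)), h, pt_idx]
    have h2 := congrArg idx (g.injective h1)
    rw [idx_pt i hi, idx_pt j hj] at h2
    exact hij h2
  have e23 : idx (g (pt 23)) = 23 := by rw [h23, idx_pt 23 (by norm_num)]
  have e0 : idx (g (pt 0)) = 0 := by rw [h0, idx_pt 0 (by norm_num)]
  have e1 : idx (g (pt 1)) = 1 := by rw [h1, idx_pt 1 (by norm_num)]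
  have hm1 := m9_match
  simp only [List.all_eq_true] at hm1
  have hm2 := hm1 _ (hin 2 (by simp [d12L])) _ (hin 3 (by simp [d12L]))
  simp only [Bool.or_eq_true, beq_iff_eq] at hm2
  rcases hm2 with ((((((h | h) | h) | h) | h) | h) | h) | h
  · exact absurd (h.trans e23.symm) (hne 2 (by norm_num) 23 (by norm_num) (by norm_num))
  · exact absurd (h.trans e0.symm) (hne 2 (by norm_num) 0 (by norm_num) (by norm_num))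
  · exact absurd (h.trans e1.symm) (hne 2 (by norm_num) 1 (by norm_num) (by norm_num))
  · exact absurd (h.trans e23.symm) (hne 3 (by norm_num) 23 (by norm_num) (by norm_num))
  · exact absurd (h.trans e0.symm) (hne 3 (by norm_num) 0 (by norm_num) (by norm_num))
  · exact absurd (h.trans e1.symm) (hne 3 (by norm_num) 1 (by norm_num) (by norm_num))
  · exact absurd h (hne 2 (by norm_num) 3 (by norm_num) (by norm_num))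
  · obtain ⟨u, hu, u0, u1, u2, u3, u4⟩ := matchB_spec h
    obtain ⟨m, hm48, hgm⟩ := normal_form hg (usM9_spec u hu).1 (usM9_spec u hu).2 (by
      intro j hj
      interval_cases j
      · show g (pt 23) = pt (tb u.1 23)
        rw [u0, h23]
      · show g (pt 0) = pt (tb u.1 0)
        rw [u1, h0]
      · show g (pt 1) = pt (tb u.1 1)
        rw [u2, h1]
      · show g (pt 2) = pt (tb u.1 2)
        rw [u3, pt_idx]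
      · show g (pt 3) = pt (tb u.1 3)
        rw [u4, pt_idx])
    exact ⟨_, mem_candsOf hu hm48, hgm⟩

/-- The cube of a table pair. -/
def cubeD (d : List ℕ × List ℕ) : List ℕ × List ℕ := compD d (compD d d)

theorem gperm_cubeD {d : List ℕ × List ℕ} (ht : tablesOK d.1 d.2 = true) :
    tablesOK (cubeD d).1 (cubeD d).2 = true ∧ gperm (cubeD d) = gperm d ^ 3 := by
  have h2 := tablesOK_compD ht ht
  refine ⟨tablesOK_compD ht h2, ?_⟩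
  unfold cubeD
  rw [gperm_compD ht h2, gperm_compD ht ht, pow_succ, pow_two, mul_assoc]

theorem cubeD_norm (d : List ℕ × List ℕ) :
    (cubeD d).1 = (List.range 24).map (fun i => tb (cubeD d).1 i) := comp_norm _ _

theorem gperm_eq_one_iff {d : List ℕ × List ℕ} (ht : tablesOK d.1 d.2 = true)
    (hn : d.1 = (List.range 24).map (fun i => tb d.1 i)) : gperm d = 1 ↔ d.1 = idTab := by
  constructor
  · intro h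
    rw [hn, idTab_eq]
    apply List.map_congr_left
    intro i hi
    have hi24 := List.mem_range.mp hi
    have h1 := congrArg (fun σ : Equiv.Perm GolayPt => idx (σ (pt i))) h
    simp only [Equiv.Perm.one_apply] at h1
    rw [gperm_pt ht hi24, idx_pt _ (tablesOK_spec ht i hi24).1, idx_pt _ hi24] at h1
    rw [h1, tb_idTab i hi24]
  · intro he
    apply Equiv.Perm.ext
    intro p
    rw [gperm_apply ht, he, tb_idTab _ (idx_lt p), pt_idx]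
    rfl

/-- The test for the elements of order dividing nine of the base group. -/
def m9Test (d : List ℕ × List ℕ) : Bool :=
  (tb d.1 23 == 23) && ((tb d.1 0 == 0) && ((tb d.1 1 == 1) &&
    ((img d.1 d0m % 2 ^ 24 == d0m % 2 ^ 24) && ((cubeD (cubeD d)).1 == idTab))))

theorem pt_inj {a b : ℕ} (ha : a < 24) (hb : b < 24) (h : pt a = pt b) : a = b := by
  have := congrArg idx h
  rwa [idx_pt a ha, idx_pt b hb] at this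

theorem m9Test_spec {d : List ℕ × List ℕ} (ht : tablesOK d.1 d.2 = true)
    (hlen : d.1.length = 24) : m9Test d = true ↔ (PM9 (gperm d) ∧ gperm d ^ 9 = 1) := by
  have hs := tablesOK_spec ht
  have hfix : ∀ i < 24, (tb d.1 i == i) = true ↔ gperm d (pt i) = pt i := by
    intro i hi
    rw [beq_iff_eq, gperm_pt ht hi]
    constructor
    · intro h
      rw [h]
    · intro h
      exact pt_inj (hs i hi).1 hi h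
  have hset : (img d.1 d0m % 2 ^ 24 == d0m % 2 ^ 24) = true ↔ gperm d • pts d0m = pts d0m := by
    rw [beq_iff_eq, ← pts_eq_iff_mod, pts_img ht hlen]
  have h3 := gperm_cubeD ht
  have h9 := gperm_cubeD h3.1
  have hpow : ((cubeD (cubeD d)).1 == idTab) = true ↔ gperm d ^ 9 = 1 := by
    rw [beq_iff_eq, ← gperm_eq_one_iff h9.1 (cubeD_norm _), h9.2, h3.2, ← pow_mul]
  have e : m9Test d = ((tb d.1 23 == 23) && ((tb d.1 0 == 0) && ((tb d.1 1 == 1) &&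
    ((img d.1 d0m % 2 ^ 24 == d0m % 2 ^ 24) && ((cubeD (cubeD d)).1 == idTab))))) := rfl
  rw [e, Bool.and_eq_true, Bool.and_eq_true, Bool.and_eq_true, Bool.and_eq_true,
    hfix 23 (by norm_num), hfix 0 (by norm_num), hfix 1 (by norm_num), hset, hpow]
  constructor
  · rintro ⟨a, b, c, e, f⟩
    exact ⟨⟨a, b, c, e⟩, f⟩
  · rintro ⟨⟨a, b, c, e⟩, f⟩
    exact ⟨a, b, c, e, f⟩

set_option maxRecDepth 100000 in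
theorem m9_filter : ((candsOf usM9).filter m9Test).map (fun d => d.1) = m9L := by decide +kernel

theorem m9L_nodup : m9L.Nodup := by decide +kernel

theorem m9L_length : m9L.length = 9 := by decide +kernel

set_option maxRecDepth 100000 in
theorem m9_cubes : ((candsOf usM9).filter m9Test).all (fun d => (cubeD d).1 == idTab) = true := by
  decide +kernel

/-- The elements of order dividing nine of the base group: there are nine of them, all of order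
dividing three. -/
theorem M9_enum : {g | g ∈ M24 ∧ (PM9 g ∧ g ^ 9 = 1)}.ncard = 9 ∧
    ∀ g ∈ M24, PM9 g → g ^ 9 = 1 → g ^ 3 = 1 := by
  have h := enum_ncard usM9 usM9_spec (fun g => PM9 g ∧ g ^ 9 = 1) m9Test
    (fun g hg hP => M9_cand hg hP.1)
    (fun d hd => m9Test_spec (tablesOK_candsOf usM9_spec d hd) (cand_length hd))
    m9L m9_filter m9L_nodup
  refine ⟨by rw [h.2, m9L_length], ?_⟩
  intro g hg hP h9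
  have hmem : g ∈ {g | g ∈ M24 ∧ (PM9 g ∧ g ^ 9 = 1)} := ⟨hg, hP, h9⟩
  rw [h.1, Finset.mem_coe, List.mem_toFinset, List.mem_map] at hmem
  obtain ⟨d, hd, rfl⟩ := hmem
  have hc := List.all_eq_true.mp m9_cubes d hd
  rw [beq_iff_eq] at hc
  have ht := tablesOK_candsOf usM9_spec d (List.mem_filter.mp hd).1
  have h3 := gperm_cubeD ht
  rw [← h3.2]
  exact (gperm_eq_one_iff h3.1 (cubeD_norm _)).mpr hc

/-! ### A quaternion subgroup -/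

theorem q8L_ok : cfgGensOK [23, 0, 1] [d0m] q8L = true := by decide +kernel

/-- The table of an element of the quaternion group. -/
def q8tab : QuaternionGroup 2 → List ℕ × List ℕ
  | .a i => q8L.getD i.val ([], [])
  | .xa i => q8L.getD (4 + i.val) ([], [])

theorem q8tab_mem : ∀ x : QuaternionGroup 2, q8tab x ∈ q8L := by decide +kernel

theorem q8tab_mul : ∀ x y : QuaternionGroup 2, q8tab (x * y) = compD (q8tab x) (q8tab y) := by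
  decide +kernel

theorem q8tab_ne : ∀ x : QuaternionGroup 2, x ≠ 1 → tb (q8tab x).1 3 ≠ 3 := by decide +kernel

theorem q8tab_ok (x : QuaternionGroup 2) : tablesOK (q8tab x).1 (q8tab x).2 = true :=
  (cfgGens_mem q8L_ok _ (q8tab_mem x)).1

/-- The quaternion group inside the base group. -/
noncomputable def q8Hom : QuaternionGroup 2 →* Equiv.Perm GolayPt :=
  MonoidHom.mk' (fun x => gperm (q8tab x)) (by
    intro x y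
    rw [q8tab_mul, gperm_compD (q8tab_ok x) (q8tab_ok y)])

theorem q8Hom_mem (x : QuaternionGroup 2) : q8Hom x ∈ M24 ∧ PM9 (q8Hom x) := by
  have h := (cfgGens_mem q8L_ok _ (q8tab_mem x)).2
  rw [mem_cfgStab] at h
  exact ⟨h.1, h.2.1 23 (by simp), h.2.1 0 (by simp), h.2.1 1 (by simp), h.2.2 d0m (by simp)⟩

theorem q8Hom_injective : Function.Injective q8Hom := by
  rw [injective_iff_map_eq_one]
  intro x hx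
  by_contra hne
  have h1 := congrArg (fun σ : Equiv.Perm GolayPt => idx (σ (pt 3))) hx
  simp only [Equiv.Perm.one_apply] at h1
  have h2 : q8Hom x = gperm (q8tab x) := rfl
  rw [h2, gperm_pt (q8tab_ok x) (by norm_num),
    idx_pt _ (tablesOK_spec (q8tab_ok x) 3 (by norm_num)).1, idx_pt _ (by norm_num)] at h1
  exact q8tab_ne x hne h1

end Cfsg.Agent.helper2.Golay
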