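import Mathlib
import Cfsg.Agent.Lib_helper2_Tabs
import Cfsg.Agent.Lib_helper2_M24f

set_option autoImplicit false

namespace Cfsg.Agent.helper2.Golay

open Cfsg Cfsg.Agent.helper27
open scoped Pointwise

/-! ### The 15 trios through an octad -/

/-- Elements of the stabiliser of the base octad moving the base trio to each of the 15 trios. -/
def gs15 : List (List ℕ × List ℕ) := [
  ([2, 23, 5, 3, 10, 17, 9, 8, 19, 20, 12, 11, 15, 13, 14, 4, 7, 0, 22, 16, 21, 6, 18, 1], [17, 23, 0, 3, 15, 2, 21, 16, 7, 6, 4, 11, 10, 13, 14, 12, 19, 5, 22, 8, 9, 20, 18, 1]),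
  ([2, 23, 0, 1, 15, 17, 16, 10, 18, 22, 20, 13, 9, 19, 5, 11, 12, 3, 6, 8, 21, 7, 4, 14], [2, 3, 0, 17, 22, 14, 18, 21, 19, 12, 7, 15, 16, 11, 23, 4, 6, 5, 8, 13, 10, 20, 9, 1]),
  ([3, 5, 0, 2, 15, 14, 18, 4, 11, 7, 20, 8, 22, 9, 1, 21, 19, 17, 16, 12, 10, 13, 6, 23], [2, 14, 3, 0, 7, 1, 22, 9, 11, 13, 20, 8, 19, 21, 5, 4, 18, 17, 6, 16, 10, 15, 12, 23]),
  ([2, 3, 17, 14, 21, 1, 19, 9, 15, 12, 13, 16, 11, 18, 23, 7, 4, 0, 6, 8, 20, 22, 10, 5], [17, 5, 0, 1, 16, 23, 18, 15, 19, 7, 22, 12, 9, 10, 3, 8, 11, 2, 13, 6, 20, 4, 21, 14]),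
  ([0, 1, 2, 3, 4, 5, 6, 7, 8, 9, 10, 11, 12, 13, 14, 15, 16, 17, 18, 19, 20, 21, 22, 23], [0, 1, 2, 3, 4, 5, 6, 7, 8, 9, 10, 11, 12, 13, 14, 15, 16, 17, 18, 19, 20, 21, 22, 23]),
  ([1, 0, 17, 3, 13, 23, 8, 11, 9, 18, 12, 22, 16, 20, 2, 21, 10, 14, 15, 19, 7, 6, 4, 5], [1, 0, 14, 3, 22, 23, 21, 20, 6, 8, 16, 7, 10, 4, 17, 18, 12, 2, 9, 19, 13, 15, 11, 5]),
  ([14, 1, 5, 0, 19, 17, 7, 20, 8, 10, 21, 6, 15, 11, 2, 13, 16, 23, 22, 18, 12, 4, 9, 3], [3, 1, 14, 23, 21, 2, 11, 6, 8, 22, 9, 13, 20, 15, 0, 12, 16, 5, 19, 4, 7, 10, 18, 17]),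
  ([2, 0, 17, 5, 7, 14, 21, 15, 22, 6, 10, 20, 19, 8, 3, 18, 13, 23, 12, 11, 16, 4, 9, 1], [1, 23, 0, 14, 21, 3, 9, 4, 13, 22, 10, 19, 18, 16, 5, 7, 20, 2, 15, 12, 11, 6, 8, 17]),
  ([1, 5, 0, 23, 10, 17, 21, 16, 8, 13, 19, 9, 12, 18, 2, 7, 15, 14, 20, 4, 22, 6, 11, 3], [2, 0, 14, 23, 19, 1, 21, 15, 8, 11, 4, 22, 12, 9, 17, 16, 7, 5, 13, 10, 18, 6, 20, 3]),
  ([14, 1, 2, 23, 20, 17, 15, 18, 11, 21, 16, 13, 19, 6, 3, 9, 4, 5, 10, 7, 12, 22, 8, 0], [23, 1, 2, 14, 16, 17, 13, 19, 22, 15, 18, 8, 20, 11, 0, 6, 10, 5, 7, 12, 4, 9, 21, 3]),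
  ([0, 1, 14, 17, 7, 5, 12, 19, 13, 10, 16, 15, 4, 11, 23, 22, 21, 2, 9, 6, 20, 18, 8, 3], [0, 1, 17, 23, 12, 5, 19, 4, 22, 18, 9, 13, 6, 8, 2, 11, 10, 3, 21, 7, 20, 16, 15, 14]),
  ([2, 0, 23, 1, 19, 14, 11, 7, 9, 12, 6, 8, 21, 22, 17, 20, 10, 5, 4, 15, 16, 13, 18, 3], [1, 3, 0, 23, 18, 17, 10, 7, 11, 8, 16, 6, 9, 21, 5, 19, 20, 14, 22, 4, 15, 12, 13, 2]),
  ([14, 3, 2, 17, 15, 0, 19, 8, 18, 10, 4, 12, 7, 9, 5, 20, 22, 1, 21, 6, 13, 11, 16, 23], [5, 17, 2, 1, 10, 14, 19, 12, 7, 13, 9, 21, 11, 20, 0, 4, 22, 3, 8, 6, 15, 18, 16, 23]),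
  ([5, 0, 3, 17, 4, 2, 16, 11, 6, 20, 7, 19, 9, 13, 1, 10, 12, 14, 15, 22, 21, 8, 18, 23], [1, 14, 5, 2, 4, 0, 8, 10, 21, 12, 15, 7, 16, 13, 17, 18, 6, 3, 22, 11, 9, 20, 19, 23]),
  ([5, 0, 14, 23, 9, 2, 22, 4, 18, 15, 20, 13, 16, 6, 3, 19, 7, 17, 8, 11, 21, 12, 10, 1], [1, 23, 5, 14, 7, 0, 13, 16, 18, 4, 22, 19, 21, 11, 2, 9, 12, 17, 8, 15, 10, 20, 6, 3])]

/-- Elements of the stabiliser of the base octad and the base trio moving the first of the 14 trios to each of them. -/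
def hs14 : List (List ℕ × List ℕ) := [
  ([0, 1, 2, 3, 4, 5, 6, 7, 8, 9, 10, 11, 12, 13, 14, 15, 16, 17, 18, 19, 20, 21, 22, 23], [0, 1, 2, 3, 4, 5, 6, 7, 8, 9, 10, 11, 12, 13, 14, 15, 16, 17, 18, 19, 20, 21, 22, 23]),
  ([23, 0, 17, 1, 9, 2, 15, 12, 7, 19, 4, 13, 6, 8, 14, 22, 10, 3, 16, 11, 21, 20, 18, 5], [1, 3, 5, 17, 10, 23, 12, 8, 13, 4, 16, 19, 7, 11, 14, 6, 18, 2, 22, 9, 21, 20, 15, 0]),
  ([0, 1, 5, 14, 18, 17, 20, 8, 22, 21, 16, 19, 13, 10, 23, 4, 11, 2, 7, 12, 6, 9, 15, 3], [0, 1, 17, 23, 15, 2, 20, 18, 7, 21, 13, 16, 19, 12, 3, 22, 10, 5, 4, 11, 6, 9, 8, 14]),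
  ([1, 5, 17, 0, 15, 3, 10, 9, 21, 4, 22, 13, 16, 8, 23, 7, 18, 14, 19, 12, 6, 11, 20, 2], [3, 0, 23, 5, 9, 1, 20, 15, 13, 7, 6, 21, 19, 11, 17, 4, 12, 2, 16, 18, 22, 8, 10, 14]),
  ([1, 17, 2, 0, 4, 14, 16, 21, 9, 18, 15, 10, 11, 22, 3, 8, 7, 23, 12, 13, 20, 19, 6, 5], [3, 0, 2, 14, 4, 23, 22, 16, 15, 8, 11, 12, 18, 19, 5, 10, 6, 1, 9, 21, 20, 7, 13, 17]),
  ([1, 23, 5, 2, 19, 0, 21, 22, 8, 12, 15, 20, 11, 13, 3, 9, 6, 17, 10, 16, 18, 7, 4, 14], [5, 0, 3, 14, 22, 2, 16, 21, 8, 15, 18, 12, 9, 13, 23, 10, 19, 17, 20, 4, 11, 6, 7, 1]),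
  ([5, 23, 1, 3, 21, 2, 6, 19, 10, 12, 18, 11, 8, 16, 17, 9, 22, 0, 20, 4, 15, 13, 7, 14], [17, 2, 5, 3, 19, 0, 6, 22, 12, 15, 8, 11, 9, 21, 23, 20, 13, 14, 10, 7, 18, 4, 16, 1]),
  ([5, 23, 17, 2, 19, 3, 16, 6, 15, 10, 18, 20, 12, 21, 14, 9, 4, 1, 11, 13, 8, 7, 22, 0], [23, 17, 3, 5, 16, 0, 7, 21, 20, 15, 9, 18, 12, 19, 14, 8, 6, 2, 10, 4, 11, 13, 22, 1]),
  ([0, 5, 2, 17, 16, 23, 7, 4, 20, 15, 8, 10, 12, 22, 1, 9, 6, 3, 18, 21, 11, 13, 19, 14], [0, 14, 2, 17, 7, 1, 16, 6, 10, 15, 11, 20, 12, 21, 23, 9, 4, 3, 18, 22, 8, 19, 13, 5]),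
  ([5, 1, 2, 0, 18, 3, 10, 9, 13, 22, 4, 21, 19, 20, 23, 6, 15, 14, 16, 12, 7, 11, 8, 17], [3, 1, 2, 5, 10, 0, 15, 20, 22, 7, 6, 21, 19, 8, 17, 16, 18, 23, 4, 12, 13, 11, 9, 14]),
  ([2, 5, 0, 3, 10, 23, 8, 9, 21, 6, 16, 7, 13, 20, 1, 19, 12, 17, 4, 11, 22, 15, 18, 14], [2, 14, 0, 3, 18, 1, 9, 11, 6, 7, 4, 19, 16, 12, 23, 21, 10, 17, 22, 15, 13, 8, 20, 5]),
  ([3, 5, 14, 2, 12, 23, 15, 9, 16, 19, 6, 13, 4, 11, 0, 21, 8, 1, 22, 20, 7, 10, 18, 17], [14, 17, 3, 0, 12, 1, 10, 20, 16, 7, 21, 13, 4, 11, 2, 6, 8, 23, 22, 9, 19, 15, 18, 5]),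
  ([1, 3, 14, 5, 6, 0, 4, 22, 11, 18, 8, 20, 15, 13, 17, 9, 16, 23, 12, 19, 10, 21, 7, 2], [5, 0, 23, 1, 6, 3, 4, 22, 10, 15, 20, 8, 18, 13, 2, 12, 16, 14, 9, 19, 11, 21, 7, 17]),
  ([17, 0, 14, 23, 15, 5, 11, 9, 22, 4, 7, 13, 21, 10, 3, 16, 12, 2, 6, 18, 19, 20, 8, 1], [1, 23, 17, 14, 9, 5, 18, 10, 22, 7, 13, 6, 16, 11, 2, 4, 15, 0, 19, 20, 21, 12, 8, 3])]


/-- The second base trio through the base octad. -/
def tr1 : List ℕ := [8536111, 7903248, 337856]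

/-- Counting the members of a tabulated set of families with a decidable property. -/
theorem ncard_filter_fam (Ω : Set (Finset (Finset GolayPt))) (tbl : List (List ℕ))
    (hcomplete : ∀ X ∈ Ω, ∃ L ∈ tbl, X = famFin L) (hmem : ∀ L ∈ tbl, famFin L ∈ Ω)
    (hnd : (tbl.map famFin).Nodup) (P : Finset (Finset GolayPt) → Prop) (T : List ℕ → Bool)
    (hT : ∀ L ∈ tbl, (T L = true ↔ P (famFin L))) :
    {X | X ∈ Ω ∧ P X} = ↑((tbl.filter T).map famFin).toFinset ∧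
      {X | X ∈ Ω ∧ P X}.ncard = (tbl.filter T).length := by
  classical
  have hset : {X | X ∈ Ω ∧ P X} = ↑((tbl.filter T).map famFin).toFinset := by
    ext X
    rw [Set.mem_ofPred_eq, Finset.mem_coe, List.mem_toFinset, List.mem_map]
    constructor
    · rintro ⟨hX, hP⟩
      obtain ⟨L, hL, rfl⟩ := hcomplete X hX
      exact ⟨L, List.mem_filter.mpr ⟨hL, (hT L hL).mpr hP⟩, rfl⟩
    · rintro ⟨L, hL, rfl⟩
      rw [List.mem_filter] at hL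
      exact ⟨hmem L hL.1, (hT L hL.1).mp hL.2⟩
  refine ⟨hset, ?_⟩
  have hnd1 : ((tbl.filter T).map famFin).Nodup :=
    hnd.sublist (List.Sublist.map famFin List.filter_sublist)
  rw [hset, Set.ncard_coe_finset, List.toFinset_card_of_nodup hnd1, List.length_map]

/-- The test that a list of masks contains the base octad. -/
def hasO0 (L : List ℕ) : Bool := L.any (fun m => m % 2 ^ 24 == 8536111)

theorem hasO0_iff {L : List ℕ} : hasO0 L = true ↔ pts (cw 47) ∈ famFin L := by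
  unfold hasO0
  rw [List.any_eq_true, mem_famFin, ← tr0_head]
  constructor
  · rintro ⟨m, hm, h⟩
    rw [beq_iff_eq] at h
    exact ⟨m, hm, pts_eq_iff_mod.mpr (by rw [h]; norm_num)⟩
  · rintro ⟨m, hm, h⟩
    refine ⟨m, hm, ?_⟩
    rw [beq_iff_eq]
    have := pts_eq_iff_mod.mp h
    rw [this]
    norm_num

set_option maxRecDepth 100000 in
theorem trs_o0_count : (trTab.filter hasO0).length = 15 := by decide +kernel

theorem trios_o0 : {T | T ∈ trios ∧ pts (cw 47) ∈ T}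
      = ↑((trTab.filter hasO0).map famFin).toFinset ∧
    {T | T ∈ trios ∧ pts (cw 47) ∈ T}.ncard = 15 := by
  have h := ncard_filter_fam trios trTab trTab_spec.1 trTab_spec.2.1 trTab_spec.2.2
    (fun T => pts (cw 47) ∈ T) hasO0 (fun L _ => hasO0_iff)
  exact ⟨h.1, h.2.trans trs_o0_count⟩

theorem trios_o0_table {T : Finset (Finset GolayPt)} (hT : T ∈ trios) (ho : pts (cw 47) ∈ T) :
    ∃ L ∈ trTab.filter hasO0, T = famFin L := by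
  have : T ∈ {T | T ∈ trios ∧ pts (cw 47) ∈ T} := ⟨hT, ho⟩
  rw [trios_o0.1, Finset.mem_coe, List.mem_toFinset, List.mem_map] at this
  obtain ⟨L, hL, rfl⟩ := this
  exact ⟨L, hL, rfl⟩

/-- An explicit element of `M24` fixing the base octad. -/
def gOK (d : List ℕ × List ℕ) : Bool :=
  tablesOK d.1 d.2 && codeOK d.2 && (d.1.length == 24) && (img d.1 8536111 % 2 ^ 24 == 8536111)

theorem gOK_spec {d : List ℕ × List ℕ} (h : gOK d = true) :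
    tablesOK d.1 d.2 = true ∧ d.1.length = 24 ∧ gperm d ∈ M24 ∧
      gperm d • pts (cw 47) = pts (cw 47) := by
  unfold gOK at h
  simp only [Bool.and_eq_true, beq_iff_eq] at h
  obtain ⟨⟨⟨h1, h2⟩, h3⟩, h4⟩ := h
  refine ⟨h1, h3, gperm_mem h1 h2, ?_⟩
  rw [← tr0_head, ← pts_img h1 h3]
  exact pts_eq_iff_mod.mpr (by rw [h4]; norm_num)

set_option maxRecDepth 100000 in
theorem gs15_check : (trTab.filter hasO0).all (fun L => gs15.any (fun d =>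
    gOK d && sameMod (tr0.map (img d.1)) L)) = true := by decide +kernel

set_option maxRecDepth 100000 in
theorem hs14_check : (trTab.filter hasO0).all (fun L => sameMod L tr0 || hs14.any (fun d =>
    gOK d && sameMod (tr0.map (img d.1)) tr0 && sameMod (tr1.map (img d.1)) L)) = true := by
  decide +kernel

theorem tr0_mem_o0 : pts (cw 47) ∈ famFin tr0 :=
  hasO0_iff.mp (by decide +kernel)

theorem tr1_ok : trOK tr1 = true := by decide +kernel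

theorem tr1_mem_o0 : pts (cw 47) ∈ famFin tr1 :=
  hasO0_iff.mp (by decide +kernel)

theorem tr1_ne : famFin tr1 ≠ famFin tr0 := by
  intro h
  have := famFin_eq_iff_sameMod.mp h
  revert this
  decide +kernel

/-- The stabiliser of the base octad is transitive on the trios through it. -/
theorem trans15 {T : Finset (Finset GolayPt)} (hT : T ∈ trios) (ho : pts (cw 47) ∈ T) :
    ∃ g ∈ M24, g • pts (cw 47) = pts (cw 47) ∧ g • famFin tr0 = T := by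
  obtain ⟨L, hL, rfl⟩ := trios_o0_table hT ho
  have := List.all_eq_true.mp gs15_check L hL
  rw [List.any_eq_true] at this
  obtain ⟨d, _, hd⟩ := this
  rw [Bool.and_eq_true] at hd
  obtain ⟨h1, h2, h3, h4⟩ := gOK_spec hd.1
  refine ⟨gperm d, h3, h4, ?_⟩
  rw [gperm_smul_famFin_img h1 h2]
  exact famFin_eq_iff_sameMod.mpr hd.2

/-- The stabiliser of the base octad and the base trio is transitive on the other trios
through the octad. -/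
theorem trans14 {T : Finset (Finset GolayPt)} (hT : T ∈ trios) (ho : pts (cw 47) ∈ T)
    (hne : T ≠ famFin tr0) :
    ∃ g ∈ M24, g • pts (cw 47) = pts (cw 47) ∧ g • famFin tr0 = famFin tr0 ∧
      g • famFin tr1 = T := by
  obtain ⟨L, hL, rfl⟩ := trios_o0_table hT ho
  have := List.all_eq_true.mp hs14_check L hL
  rw [Bool.or_eq_true] at this
  rcases this with h | h
  · exact absurd (famFin_eq_iff_sameMod.mpr h) hne
  · rw [List.any_eq_true] at h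
    obtain ⟨d, _, hd⟩ := h
    rw [Bool.and_eq_true, Bool.and_eq_true] at hd
    obtain ⟨h1, h2, h3, h4⟩ := gOK_spec hd.1.1
    refine ⟨gperm d, h3, h4, ?_, ?_⟩
    · rw [gperm_smul_famFin_img h1 h2]
      exact famFin_eq_iff_sameMod.mpr hd.1.2
    · rw [gperm_smul_famFin_img h1 h2]
      exact famFin_eq_iff_sameMod.mpr hd.2

set_option maxRecDepth 100000 in
theorem fix_check : ∀ k < 48, k % 3 = 0 → (hsD k).1.length = 24 ∧
    (trTab.filter hasO0).all (fun L => sameMod (L.map (img (hsD k).1)) L) = true := by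
  decide +kernel

/-- The pointwise stabiliser of the base octad fixes every trio through it. -/
theorem fix_trios_o0 {g : Equiv.Perm GolayPt} (hg : g ∈ fixM24 (pts (cw 47)))
    {T : Finset (Finset GolayPt)} (hT : T ∈ trios) (ho : pts (cw 47) ∈ T) : g • T = T := by
  obtain ⟨k, hk, hk3, rfl⟩ := mem_fixM24_o0.mp hg
  obtain ⟨L, hL, rfl⟩ := trios_o0_table hT ho
  obtain ⟨hlen, hall⟩ := fix_check k hk hk3
  show gperm (hsD k) • famFin L = famFin L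
  rw [gperm_smul_famFin_img (hs_tables hk) hlen]
  exact famFin_eq_iff_sameMod.mpr (List.all_eq_true.mp hall L hL)

end Cfsg.Agent.helper2.Golay
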