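import Cfsg.Agent.Lib_helper2_Ree1

/-! Verified partial products of the generating words of the small Ree group (root elements and the words for U). -/

set_option autoImplicit false
set_option maxRecDepth 100000

namespace Cfsg.Agent.helper2.Ree

open Cfsg.Lie

theorem hX : ∀ r : Fin 12, ∀ c : ZMod 3,
    chevG2.x (ZMod 3) r.val c = Matrix.of (E (xcode r.val c)) := by decide +kernel

theorem hXinv : ∀ r : Fin 12, ∀ c : ZMod 3, ∀ i j : Idx,
    mm (E (xcode r.val c)) (E (xcode r.val (-c))) i j = if i = j then 1 else 0 := by decide +kernel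

theorem lU5 : ∀ t u v : ZMod 3, ∀ i j : Idx,
    mm (E (xcode 10 (u))) (E (xcode 11 (v))) i j = E (pU5 t u v) i j := by
  decide +kernel

theorem lU4 : ∀ t u v : ZMod 3, ∀ i j : Idx,
    mm (E (xcode 9 (t ^ (2 * 1 + 1) + v ^ 1))) (E (pU5 t u v)) i j = E (pU4 t u v) i j := by
  decide +kernel

theorem lU3 : ∀ t u v : ZMod 3, ∀ i j : Idx,
    mm (E (xcode 8 (t ^ (1 + 1) + u ^ 1))) (E (pU4 t u v)) i j = E (pU3 t u v) i j := by
  decide +kernel

theorem lU2 : ∀ t u v : ZMod 3, ∀ i j : Idx,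
    mm (E (xcode 6 (t))) (E (pU3 t u v)) i j = E (pU2 t u v) i j := by
  decide +kernel

theorem lU1 : ∀ t u v : ZMod 3, ∀ i j : Idx,
    mm (E (xcode 7 (t ^ 1))) (E (pU2 t u v)) i j = E (pU1 t u v) i j := by
  decide +kernel


end Cfsg.Agent.helper2.Ree
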