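import Cfsg.Agent.Lib_helper2_Ree2a

/-! Verified partial products of the generating words of the small Ree group (the words for V). -/

set_option autoImplicit false
set_option maxRecDepth 100000

namespace Cfsg.Agent.helper2.Ree

open Cfsg.Lie

theorem lV5 : ∀ t u v : ZMod 3, ∀ i j : Idx,
    mm (E (xcode 1 (-u))) (E (xcode 0 (-v))) i j = E (pV5 t u v) i j := by
  decide +kernel

theorem lV4 : ∀ t u v : ZMod 3, ∀ i j : Idx,
    mm (E (xcode 2 (-(t ^ (2 * 1 + 1) + v ^ 1)))) (E (pV5 t u v)) i j = E (pV4 t u v) i j := by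
  decide +kernel

theorem lV3 : ∀ t u v : ZMod 3, ∀ i j : Idx,
    mm (E (xcode 3 (-(t ^ (1 + 1) + u ^ 1)))) (E (pV4 t u v)) i j = E (pV3 t u v) i j := by
  decide +kernel

theorem lV2 : ∀ t u v : ZMod 3, ∀ i j : Idx,
    mm (E (xcode 5 (-t))) (E (pV3 t u v)) i j = E (pV2 t u v) i j := by
  decide +kernel

theorem lV1 : ∀ t u v : ZMod 3, ∀ i j : Idx,
    mm (E (xcode 4 (-(t ^ 1)))) (E (pV2 t u v)) i j = E (pV1 t u v) i j := by
  decide +kernel


end Cfsg.Agent.helper2.Ree
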