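import Cfsg.Agent.Lib_helper2_Ree2b

/-! Verified partial products of the generating words of the small Ree group (action on the 56 vectors). -/

set_option autoImplicit false
set_option maxRecDepth 100000

namespace Cfsg.Agent.helper2.Ree

open Cfsg.Lie

theorem aU : ∀ t u v : ZMod 3, ∀ a : Fin 56, ∀ j : Idx,
    mv (E (pU1 t u v)) (vec a) j = vec (fU t u v a) j := by
  decide +kernel

theorem iU : ∀ t u v : ZMod 3, ∀ a : Fin 56,
    gU t u v (fU t u v a) = a ∧ fU t u v (gU t u v a) = a := by
  decide +kernel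

theorem aV : ∀ t u v : ZMod 3, ∀ a : Fin 56, ∀ j : Idx,
    mv (E (pV1 t u v)) (vec a) j = vec (fV t u v a) j := by
  decide +kernel

theorem iV : ∀ t u v : ZMod 3, ∀ a : Fin 56,
    gV t u v (fV t u v a) = a ∧ fV t u v (gV t u v a) = a := by
  decide +kernel

theorem vec_inj : ∀ a b : Fin 56, (∀ j : Idx, vec a j = vec b j) → a = b := by
  decide +kernel


end Cfsg.Agent.helper2.Ree
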