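import Cfsg.Agent.Lib_helper2_Ree3

/-! Verified facts about the 504 permutations and the resulting simple table group. -/

set_option autoImplicit false
set_option maxRecDepth 100000

namespace Cfsg.Agent.helper2.Ree

open Cfsg.Agent.helper2.Tab

theorem n_r : ∀ x : Fin 504, ∀ a : Fin 56,
    nperm (nrA x) a = nperm x (nperm 1 a) ∧ nperm (nrB x) a = nperm x (nperm 2 a) := by
  decide +kernel

theorem n_tree : ∀ y : Fin 504, y.val ≠ 0 →
    (npar y).val < y.val ∧ (if ngen y then nrB (npar y) else nrA (npar y)) = y := by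
  decide +kernel

theorem n_one : ∀ a : Fin 56, nperm 0 a = a := by
  decide +kernel

theorem n_inv : ∀ x : Fin 504, mulF nrA nrB npar ngen 504 (ninv x) x = 0 := by
  decide +kernel

theorem n_key : ∀ x : Fin 504, nkey (nperm x) = x := by
  decide +kernel

theorem n_inj : ∀ x y : Fin 504, (∀ a : Fin 56, nperm x a = nperm y a) → x = y := by
  intro x y h
  have hxy : nperm x = nperm y := funext h
  rw [← n_key x, ← n_key y, hxy]

def nmul (x y : Fin 504) : Fin 504 := mulF nrA nrB npar ngen 504 x y

theorem n_cert : ∀ x : Fin 504, x.val ≠ 0 →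
    (prodConjT nmul ninv 0 x [ncA1 x] = 1 ∨ prodConjT nmul ninv 0 x [ncA1 x, ncA2 x] = 1) ∧
    (prodConjT nmul ninv 0 x [ncB1 x] = 2 ∨ prodConjT nmul ninv 0 x [ncB1 x, ncB2 x] = 2) := by
  decide +kernel

/-- the Cayley-graph data of the copy of `PSL(2,8)` -/
def D504 : MData (Function.End (Fin 56)) 504 where
  M := nperm
  rA := nrA
  rB := nrB
  par := npar
  gen := ngen
  inv := ninv
  e := 0
  iA := 1
  iB := 2
  e_val := rfl
  M_rA := fun x => funext fun a => (n_r x a).1
  M_rB := fun x => funext fun a => (n_r x a).2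
  tree := n_tree
  M_e := funext n_one
  M_inj := fun x y h => n_inj x y (fun a => congrFun h a)
  inv_mul := n_inv

instance : Nontrivial (MG D504) :=
  ⟨⟨⟨0⟩, ⟨1⟩, fun h => absurd (congrArg MG.k h) (by decide)⟩⟩

theorem simple_N504 : IsSimpleGroup (MG D504) :=
  MG.isSimpleGroup ncA1 ncA2 ncB1 ncB2 n_cert

theorem card_N504 : Nat.card (MG D504) = 504 := MG.card_eq D504

end Cfsg.Agent.helper2.Ree
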