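import Cfsg.Agent.Lib_helper2_Ree2c
import Cfsg.Agent.Lib_helper2_Ree4

/-! Normality and coset data linking the 54 generator permutations to the 504-element table. -/

set_option autoImplicit false
set_option maxRecDepth 100000

namespace Cfsg.Agent.helper2.Ree

open Cfsg.Lie

def ix504 (l : List ℕ) (t u v : ZMod 3) : Fin 504 :=
  ⟨l.getD (tix t u v) 0 % 504, Nat.mod_lt _ (by norm_num)⟩

def c1UL : List ℕ := [1,26,24,121,450,442,9,91,84,153,138,16,151,134,102,316,484,281,143,18,155,115,154,141,328,271,488]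
def c2UL : List ℕ := [2,2,2,2,2,2,2,2,2,2,2,2,2,2,2,2,2,2,2,2,2,2,2,2,2,2,2]
def d1UL : List ℕ := [1,24,26,9,84,91,121,442,450,271,328,488,115,141,154,155,18,143,281,484,316,151,102,134,138,153,16]
def d2UL : List ℕ := [2,2,2,2,2,2,2,2,2,2,2,2,2,2,2,2,2,2,2,2,2,2,2,2,2,2,2]
def kUL : List ℕ := [0,0,0,1,1,1,2,2,2,2,2,2,0,0,0,1,1,1,2,2,2,0,0,0,1,1,1]
def nUL : List ℕ := [0,6,2,0,6,2,0,6,2,191,114,295,114,295,191,295,191,114,499,468,498,498,499,468,468,498,499]

def c1VL : List ℕ := [1,433,388,411,120,137,498,138,155,133,352,48,482,128,101,454,370,463,105,43,311,491,119,109,452,466,438]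
def c2VL : List ℕ := [2,213,249,51,54,86,136,63,53,332,495,408,126,181,87,58,237,289,353,367,472,118,77,171,55,337,214]
def d1VL : List ℕ := [1,388,433,498,155,138,411,137,120,466,452,438,491,109,119,311,43,105,463,370,454,482,101,128,352,133,48]
def d2VL : List ℕ := [2,249,213,136,53,63,51,86,54,337,55,214,118,171,77,472,367,353,289,237,58,126,87,181,495,332,408]
def kVL : List ℕ := [0,0,0,1,1,1,2,2,2,2,2,2,0,0,0,1,1,1,2,2,2,0,0,0,1,1,1]
def nVL : List ℕ := [0,425,321,268,402,81,203,183,422,331,49,58,215,145,285,306,181,322,438,369,473,152,107,121,234,119,250]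

/-- powers of the coset representative `fU 0 1 0` -/
def taupow : ℕ → Fin 56 → Fin 56
  | 0, a => a
  | (k+1), a => fU 0 1 0 (taupow k a)

theorem conjU : ∀ t u v : ZMod 3, ∀ a : Fin 56,
    fU t u v (nperm 1 (gU t u v a)) = nperm (ix504 c1UL t u v) a ∧
    fU t u v (nperm 2 (gU t u v a)) = nperm (ix504 c2UL t u v) a ∧
    gU t u v (nperm 1 (fU t u v a)) = nperm (ix504 d1UL t u v) a ∧
    gU t u v (nperm 2 (fU t u v a)) = nperm (ix504 d2UL t u v) a := by
  decide +kernel

theorem cosetU : ∀ t u v : ZMod 3, ∀ a : Fin 56,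
    fU t u v a = taupow (kUL.getD (tix t u v) 0) (nperm (ix504 nUL t u v) a) := by
  decide +kernel

theorem conjV : ∀ t u v : ZMod 3, ∀ a : Fin 56,
    fV t u v (nperm 1 (gV t u v a)) = nperm (ix504 c1VL t u v) a ∧
    fV t u v (nperm 2 (gV t u v a)) = nperm (ix504 c2VL t u v) a ∧
    gV t u v (nperm 1 (fV t u v a)) = nperm (ix504 d1VL t u v) a ∧
    gV t u v (nperm 2 (fV t u v a)) = nperm (ix504 d2VL t u v) a := by
  decide +kernel

theorem cosetV : ∀ t u v : ZMod 3, ∀ a : Fin 56,
    fV t u v a = taupow (kVL.getD (tix t u v) 0) (nperm (ix504 nVL t u v) a) := by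
  decide +kernel

theorem commA : ∀ a : Fin 56, nperm 1 a = fV 1 1 1 (fU 1 0 1 (gV 1 1 1 (gU 1 0 1 a))) := by
  decide +kernel

theorem commB : ∀ a : Fin 56, nperm 2 a = fU 0 2 1 (fU 2 0 0 (gU 0 2 1 (gU 2 0 0 a))) := by
  decide +kernel

def biCode : ℕ := 1434714972595507453214289065400667154109959432269121614567618338624864818087840205468785596399280019997490241008648200

/-- the matrix whose columns are the first 14 vectors of the orbit -/
def basIdx (k : Idx) : Fin 56 := ⟨pos k % 56, Nat.mod_lt _ (by norm_num)⟩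

def basE (j k : Idx) : ZMod 3 := vec (basIdx k) j

theorem bas_inv : ∀ i j : Idx, mm basE (E biCode) i j = if i = j then 1 else 0 := by
  decide +kernel

end Cfsg.Agent.helper2.Ree
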