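import Cfsg.Agent.Lib_helper2_Ree5

/-! The small Ree group over `ZMod 3` as a permutation group on 56 vectors; its derived subgroup
is the 504-element simple table group. -/

set_option autoImplicit false

namespace Cfsg.Agent.helper2.Ree

open Cfsg.Lie Matrix Cfsg.Agent.helper2.Tab

abbrev Mat : Type := Matrix Idx Idx (ZMod 3)
abbrev GLm : Type := GL Idx (ZMod 3)
abbrev P56 : Type := Equiv.Perm (Fin 56)

theorem univ_eq : (Finset.univ : Finset Idx) = idxL.toFinset := by decide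

theorem idxL_nodup : idxL.Nodup := by decide

theorem sum_idx (f : Idx → ZMod 3) : ∑ k, f k = (idxL.map f).sum := by
  rw [univ_eq, List.sum_toFinset f idxL_nodup]

theorem mul_eq_mm (A B : Mat) (i j : Idx) : (A * B) i j = mm A B i j := by
  rw [Matrix.mul_apply, sum_idx]
  rfl

theorem mulVec_eq_mv (A : Mat) (w : Idx → ZMod 3) (j : Idx) : (A *ᵥ w) j = mv A w j := by
  show ∑ k, A j k * w k = _
  rw [sum_idx]
  rfl

theorem hX' (r : ℕ) (hr : r < 12) (c : ZMod 3) :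
    chevG2.x (ZMod 3) r c = Matrix.of (E (xcode r c)) := hX ⟨r, hr⟩ c

theorem step (r : ℕ) (hr : r < 12) (c : ZMod 3) (p q : ℕ)
    (h : ∀ i j, mm (E (xcode r c)) (E p) i j = E q i j) :
    chevG2.x (ZMod 3) r c * Matrix.of (E p) = Matrix.of (E q) := by
  rw [hX' r hr c]
  ext i j
  rw [mul_eq_mm]
  exact h i j

theorem x_mul_neg (r : ℕ) (hr : r < 12) (c : ZMod 3) :
    chevG2.x (ZMod 3) r c * chevG2.x (ZMod 3) r (-c) = 1 := by
  rw [hX' r hr c, hX' r hr (-c)]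
  ext i j
  rw [mul_eq_mm, Matrix.one_apply]
  exact hXinv ⟨r, hr⟩ c i j

/-- root elements as units -/
def xG (r : ℕ) (hr : r < 12) (c : ZMod 3) : GLm :=
  ⟨chevG2.x (ZMod 3) r c, chevG2.x (ZMod 3) r (-c), x_mul_neg r hr c, by
    have := x_mul_neg r hr (-c)
    rwa [neg_neg] at this⟩

theorem wordU_eq (t u v : ZMod 3) :
    chevG2.wordMat (ZMod 3) (reeWordU 1 t u v) = Matrix.of (E (pU1 t u v)) := by
  have h6 : chevG2.x (ZMod 3) 11 v * 1 = Matrix.of (E (xcode 11 v)) := by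
    rw [mul_one]
    exact hX' 11 (by norm_num) v
  have h5 := step 10 (by norm_num) u _ _ (lU5 t u v)
  have h4 := step 9 (by norm_num) (t ^ (2 * 1 + 1) + v ^ 1) _ _ (lU4 t u v)
  have h3 := step 8 (by norm_num) (t ^ (1 + 1) + u ^ 1) _ _ (lU3 t u v)
  have h2 := step 6 (by norm_num) t _ _ (lU2 t u v)
  have h1 := step 7 (by norm_num) (t ^ 1) _ _ (lU1 t u v)
  have hw : chevG2.wordMat (ZMod 3) (reeWordU 1 t u v) =
      chevG2.x (ZMod 3) 7 (t ^ 1) * (chevG2.x (ZMod 3) 6 t *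
        (chevG2.x (ZMod 3) 8 (t ^ (1 + 1) + u ^ 1) *
        (chevG2.x (ZMod 3) 9 (t ^ (2 * 1 + 1) + v ^ 1) *
        (chevG2.x (ZMod 3) 10 u * (chevG2.x (ZMod 3) 11 v * 1))))) := rfl
  rw [hw, h6, h5, h4, h3, h2, h1]

theorem wordV_eq (t u v : ZMod 3) :
    chevG2.wordMat (ZMod 3) (reeWordV 1 t u v) = Matrix.of (E (pV1 t u v)) := by
  have h6 : chevG2.x (ZMod 3) 0 (-v) * 1 = Matrix.of (E (xcode 0 (-v))) := by
    rw [mul_one]
    exact hX' 0 (by norm_num) (-v)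
  have h5 := step 1 (by norm_num) (-u) _ _ (lV5 t u v)
  have h4 := step 2 (by norm_num) (-(t ^ (2 * 1 + 1) + v ^ 1)) _ _ (lV4 t u v)
  have h3 := step 3 (by norm_num) (-(t ^ (1 + 1) + u ^ 1)) _ _ (lV3 t u v)
  have h2 := step 5 (by norm_num) (-t) _ _ (lV2 t u v)
  have h1 := step 4 (by norm_num) (-(t ^ 1)) _ _ (lV1 t u v)
  have hw : chevG2.wordMat (ZMod 3) (reeWordV 1 t u v) =
      chevG2.x (ZMod 3) 4 (-(t ^ 1)) * (chevG2.x (ZMod 3) 5 (-t) *
        (chevG2.x (ZMod 3) 3 (-(t ^ (1 + 1) + u ^ 1)) *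
        (chevG2.x (ZMod 3) 2 (-(t ^ (2 * 1 + 1) + v ^ 1)) *
        (chevG2.x (ZMod 3) 1 (-u) * (chevG2.x (ZMod 3) 0 (-v) * 1))))) := rfl
  rw [hw, h6, h5, h4, h3, h2, h1]

/-- the generating words as units -/
def wGU (t u v : ZMod 3) : GLm :=
  xG 7 (by norm_num) (t ^ 1) * (xG 6 (by norm_num) t *
    (xG 8 (by norm_num) (t ^ (1 + 1) + u ^ 1) *
    (xG 9 (by norm_num) (t ^ (2 * 1 + 1) + v ^ 1) *
    (xG 10 (by norm_num) u * xG 11 (by norm_num) v))))

def wGV (t u v : ZMod 3) : GLm :=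
  xG 4 (by norm_num) (-(t ^ 1)) * (xG 5 (by norm_num) (-t) *
    (xG 3 (by norm_num) (-(t ^ (1 + 1) + u ^ 1)) *
    (xG 2 (by norm_num) (-(t ^ (2 * 1 + 1) + v ^ 1)) *
    (xG 1 (by norm_num) (-u) * xG 0 (by norm_num) (-v)))))

theorem wGU_val (t u v : ZMod 3) :
    ((wGU t u v : GLm) : Mat) = chevG2.wordMat (ZMod 3) (reeWordU 1 t u v) := by
  have hw : chevG2.wordMat (ZMod 3) (reeWordU 1 t u v) =
      chevG2.x (ZMod 3) 7 (t ^ 1) * (chevG2.x (ZMod 3) 6 t *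
        (chevG2.x (ZMod 3) 8 (t ^ (1 + 1) + u ^ 1) *
        (chevG2.x (ZMod 3) 9 (t ^ (2 * 1 + 1) + v ^ 1) *
        (chevG2.x (ZMod 3) 10 u * (chevG2.x (ZMod 3) 11 v * 1))))) := rfl
  rw [hw]
  show _ = _ * (_ * (_ * (_ * (_ * (_ * 1)))))
  rw [Matrix.mul_one]
  rfl

theorem wGV_val (t u v : ZMod 3) :
    ((wGV t u v : GLm) : Mat) = chevG2.wordMat (ZMod 3) (reeWordV 1 t u v) := by
  have hw : chevG2.wordMat (ZMod 3) (reeWordV 1 t u v) =
      chevG2.x (ZMod 3) 4 (-(t ^ 1)) * (chevG2.x (ZMod 3) 5 (-t) *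
        (chevG2.x (ZMod 3) 3 (-(t ^ (1 + 1) + u ^ 1)) *
        (chevG2.x (ZMod 3) 2 (-(t ^ (2 * 1 + 1) + v ^ 1)) *
        (chevG2.x (ZMod 3) 1 (-u) * (chevG2.x (ZMod 3) 0 (-v) * 1))))) := rfl
  rw [hw]
  show _ = _ * (_ * (_ * (_ * (_ * (_ * 1)))))
  rw [Matrix.mul_one]
  rfl

/-- the induced permutations -/
def sgU (t u v : ZMod 3) : P56 :=
  ⟨fU t u v, gU t u v, fun a => (iU t u v a).1, fun a => (iU t u v a).2⟩

def sgV (t u v : ZMod 3) : P56 :=
  ⟨fV t u v, gV t u v, fun a => (iV t u v a).1, fun a => (iV t u v a).2⟩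

theorem vec_inj' {a b : Fin 56} (h : vec a = vec b) : a = b :=
  vec_inj a b (fun j => congrFun h j)

theorem eq_of_mulVec (A B : Mat) (h : ∀ a, A *ᵥ vec a = B *ᵥ vec a) : A = B := by
  have hB : (Matrix.of basE : Mat) * Matrix.of (E biCode) = 1 := by
    ext i j
    rw [mul_eq_mm, Matrix.one_apply]
    exact bas_inv i j
  have hcol : A * Matrix.of basE = B * Matrix.of basE := by
    ext j k
    have := congrFun (h (basIdx k)) j
    simpa [Matrix.mul_apply, Matrix.mulVec, dotProduct, basE] using this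
  calc A = A * (Matrix.of basE * Matrix.of (E biCode)) := by rw [hB, mul_one]
    _ = (A * Matrix.of basE) * Matrix.of (E biCode) := by rw [mul_assoc]
    _ = (B * Matrix.of basE) * Matrix.of (E biCode) := by rw [hcol]
    _ = B := by rw [mul_assoc, hB, mul_one]

/-- pairs (matrix, permutation) with compatible actions on the 56 vectors -/
def Gam : Subgroup (GLm × P56) where
  carrier := {p | ∀ a, (p.1 : Mat) *ᵥ vec a = vec (p.2 a)}
  mul_mem' := by
    intro p q hp hq a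
    show ((p.1 * q.1 : GLm) : Mat) *ᵥ vec a = vec ((p.2 * q.2) a)
    rw [Units.val_mul, ← Matrix.mulVec_mulVec, hq a, hp (q.2 a)]
    rfl
  one_mem' := by
    intro a
    show ((1 : GLm) : Mat) *ᵥ vec a = vec ((1 : P56) a)
    rw [Units.val_one, Matrix.one_mulVec]
    rfl
  inv_mem' := by
    intro p hp a
    show ((p.1⁻¹ : GLm) : Mat) *ᵥ vec a = vec ((p.2⁻¹) a)
    have h := hp (p.2⁻¹ a)
    have h0 : p.2 (p.2⁻¹ a) = a := by simp
    rw [h0] at h
    rw [← h, Matrix.mulVec_mulVec, ← Units.val_mul, inv_mul_cancel, Units.val_one,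
      Matrix.one_mulVec]

theorem mem_Gam {p : GLm × P56} : p ∈ Gam ↔ ∀ a, (p.1 : Mat) *ᵥ vec a = vec (p.2 a) := Iff.rfl

theorem prU_mem (t u v : ZMod 3) : (wGU t u v, sgU t u v) ∈ Gam := by
  intro a
  show ((wGU t u v : GLm) : Mat) *ᵥ vec a = vec (sgU t u v a)
  rw [wGU_val, wordU_eq]
  funext j
  rw [mulVec_eq_mv]
  exact aU t u v a j

theorem prV_mem (t u v : ZMod 3) : (wGV t u v, sgV t u v) ∈ Gam := by
  intro a
  show ((wGV t u v : GLm) : Mat) *ᵥ vec a = vec (sgV t u v a)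
  rw [wGV_val, wordV_eq]
  funext j
  rw [mulVec_eq_mv]
  exact aV t u v a j

theorem Gam_fst_inj {p q : GLm × P56} (hp : p ∈ Gam) (hq : q ∈ Gam) (h : p.1 = q.1) : p = q := by
  refine Prod.ext h (Equiv.ext fun a => vec_inj' ?_)
  rw [← hp a, ← hq a, h]

theorem Gam_snd_inj {p q : GLm × P56} (hp : p ∈ Gam) (hq : q ∈ Gam) (h : p.2 = q.2) : p = q := by
  refine Prod.ext (Units.ext (eq_of_mulVec _ _ fun a => ?_)) h
  rw [hp a, hq a, h]

/-- the generating pairs -/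
def prS : Set (GLm × P56) :=
  {p | ∃ t u v : ZMod 3, p = (wGU t u v, sgU t u v) ∨ p = (wGV t u v, sgV t u v)}

def GamR : Subgroup (GLm × P56) := Subgroup.closure prS

theorem GamR_le : GamR ≤ Gam := by
  rw [GamR, Subgroup.closure_le]
  rintro p ⟨t, u, v, rfl | rfl⟩
  · exact prU_mem t u v
  · exact prV_mem t u v

/-- the permutation group generated by the 54 permutations -/
def sgS : Set P56 := {s | ∃ t u v : ZMod 3, s = sgU t u v ∨ s = sgV t u v}

def PP : Subgroup P56 := Subgroup.closure sgS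

theorem map_fst : GamR.map (MonoidHom.fst GLm P56) = twistedG2 (ZMod 3) 1 := by
  rw [GamR, MonoidHom.map_closure]
  show _ = Subgroup.closure _
  congr 1
  ext g
  constructor
  · rintro ⟨p, ⟨t, u, v, rfl | rfl⟩, rfl⟩
    · exact ⟨reeWordU 1 t u v, ⟨t, u, v, Or.inl rfl⟩, wGU_val t u v⟩
    · exact ⟨reeWordV 1 t u v, ⟨t, u, v, Or.inr rfl⟩, wGV_val t u v⟩
  · rintro ⟨w, ⟨t, u, v, rfl | rfl⟩, hg⟩
    · exact ⟨(wGU t u v, sgU t u v), ⟨t, u, v, Or.inl rfl⟩, Units.ext ((wGU_val t u v).trans hg.symm)⟩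
    · exact ⟨(wGV t u v, sgV t u v), ⟨t, u, v, Or.inr rfl⟩, Units.ext ((wGV_val t u v).trans hg.symm)⟩

theorem map_snd : GamR.map (MonoidHom.snd GLm P56) = PP := by
  rw [GamR, MonoidHom.map_closure, PP]
  congr 1
  ext s
  constructor
  · rintro ⟨p, ⟨t, u, v, rfl | rfl⟩, rfl⟩
    · exact ⟨t, u, v, Or.inl rfl⟩
    · exact ⟨t, u, v, Or.inr rfl⟩
  · rintro ⟨t, u, v, rfl | rfl⟩
    · exact ⟨(wGU t u v, sgU t u v), ⟨t, u, v, Or.inl rfl⟩, rfl⟩
    · exact ⟨(wGV t u v, sgV t u v), ⟨t, u, v, Or.inr rfl⟩, rfl⟩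

def phi1 : GamR →* GLm := (MonoidHom.fst GLm P56).comp GamR.subtype
def phi2 : GamR →* P56 := (MonoidHom.snd GLm P56).comp GamR.subtype

theorem phi1_inj : Function.Injective phi1 := by
  intro x y h
  exact Subtype.ext (Gam_fst_inj (GamR_le x.2) (GamR_le y.2) h)

theorem phi2_inj : Function.Injective phi2 := by
  intro x y h
  exact Subtype.ext (Gam_snd_inj (GamR_le x.2) (GamR_le y.2) h)

theorem phi1_range : phi1.range = twistedG2 (ZMod 3) 1 := by
  rw [phi1, MonoidHom.range_comp, Subgroup.range_subtype, map_fst]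

theorem phi2_range : phi2.range = PP := by
  rw [phi2, MonoidHom.range_comp, Subgroup.range_subtype, map_snd]

/-- the small Ree group is isomorphic to the permutation group -/
noncomputable def reeEquiv : ↥(twistedG2 (ZMod 3) 1) ≃* ↥PP :=
  ((MulEquiv.subgroupCongr phi1_range).symm.trans (MonoidHom.ofInjective phi1_inj).symm).trans
    ((MonoidHom.ofInjective phi2_inj).trans (MulEquiv.subgroupCongr phi2_range))

end Cfsg.Agent.helper2.Ree
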