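import Cfsg.Agent.Lib_helper2_Ree6

/-! The derived subgroup of the small Ree group over `ZMod 3` is the 504-element simple group. -/

set_option autoImplicit false

namespace Cfsg.Agent.helper2.Ree

open Cfsg.Lie Cfsg.Agent.helper2.Tab
open scoped commutatorElement

/-- if the generators normalise `N` and lie in cosets of powers of one element, then the derived
subgroup of the generated group lies in `N` -/
theorem comm_le_of_cyclic {G : Type*} [Group G] (N : Subgroup G) (S : Set G) (τ : G)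
    (hτ : τ ∈ Subgroup.normalizer (N : Set G)) (hS : ∀ s ∈ S, s ∈ Subgroup.normalizer (N : Set G))
    (hcos : ∀ s ∈ S, ∃ k : ℕ, ∃ ν ∈ N, s = τ ^ k * ν) :
    ⁅Subgroup.closure S, Subgroup.closure S⁆ ≤ N := by
  have : (N.subgroupOf (Subgroup.normalizer (N : Set G))).Normal := Subgroup.normal_in_normalizer
  let π := QuotientGroup.mk' (N.subgroupOf (Subgroup.normalizer (N : Set G)))
  let τn : ↥(Subgroup.normalizer (N : Set G)) := ⟨τ, hτ⟩
  let K : Subgroup G := ((Subgroup.zpowers (π τn)).comap π).map (Subgroup.normalizer (N : Set G)).subtype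
  have hSK : Subgroup.closure S ≤ K := by
    rw [Subgroup.closure_le]
    intro s hs
    obtain ⟨k, ν, hν, hsk⟩ := hcos s hs
    refine ⟨⟨s, hS s hs⟩, ?_, rfl⟩
    show π ⟨s, hS s hs⟩ ∈ Subgroup.zpowers (π τn)
    have hνn : ν ∈ Subgroup.normalizer (N : Set G) := Subgroup.le_normalizer hν
    have he : (⟨s, hS s hs⟩ : ↥(Subgroup.normalizer (N : Set G))) = τn ^ k * ⟨ν, hνn⟩ := Subtype.ext (by simpa using hsk)
    have h1 : π ⟨ν, hνn⟩ = 1 := by
      rw [QuotientGroup.mk'_apply, QuotientGroup.eq_one_iff]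
      exact Subgroup.mem_subgroupOf.mpr hν
    rw [he, map_mul, map_pow, h1, mul_one]
    exact Subgroup.pow_mem _ (Subgroup.mem_zpowers _) k
  rw [Subgroup.commutator_le]
  intro g1 h1 g2 h2
  obtain ⟨z1, hz1, rfl⟩ := hSK h1
  obtain ⟨z2, hz2, rfl⟩ := hSK h2
  obtain ⟨a, ha⟩ := Subgroup.mem_zpowers_iff.mp hz1
  obtain ⟨b, hb⟩ := Subgroup.mem_zpowers_iff.mp hz2
  have hc : π z1 * π z2 = π z2 * π z1 := by
    rw [← ha, ← hb, ← zpow_add, ← zpow_add, add_comm]
  have h3 : π ⁅z1, z2⁆ = 1 := by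
    rw [map_commutatorElement, commutatorElement_eq_one_iff_mul_comm]
    exact hc
  have h4 : ⁅z1, z2⁆ ∈ N.subgroupOf (Subgroup.normalizer (N : Set G)) := by
    rwa [QuotientGroup.mk'_apply, QuotientGroup.eq_one_iff] at h3
  rw [← map_commutatorElement]
  exact Subgroup.mem_subgroupOf.mp h4

/-- isomorphic groups have isomorphic derived subgroups -/
noncomputable def commEquiv {G H : Type*} [Group G] [Group H] (e : G ≃* H) :
    ↥(commutator G) ≃* ↥(commutator H) :=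
  (e.subgroupMap (commutator G)).trans (MulEquiv.subgroupCongr (by
    rw [commutator_def, commutator_def, Subgroup.map_commutator,
      Subgroup.map_top_of_surjective _ e.surjective]))

/-- the 504 permutations as a homomorphism -/
def rhoP : MG D504 →* P56 :=
  letI : MulAction (MG D504) (Fin 56) := MulAction.compHom (Fin 56) (MG.rho D504)
  MulAction.toPermHom (MG D504) (Fin 56)

theorem rhoP_apply (x : MG D504) (a : Fin 56) : rhoP x a = nperm x.k a := rfl

theorem rhoP_inj : Function.Injective rhoP := by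
  intro x y h
  apply MG.ext'
  apply n_inj
  intro a
  rw [← rhoP_apply, ← rhoP_apply, h]

def NN : Subgroup P56 := rhoP.range

def gA : P56 := rhoP ⟨1⟩
def gB : P56 := rhoP ⟨2⟩

theorem NN_eq : NN = Subgroup.closure {gA, gB} := by
  rw [NN, MonoidHom.range_eq_map, ← MG.closure_eq_top D504, MonoidHom.map_closure, Set.image_pair]
  rfl

theorem gA_eq : gA = ⁅(sgV 1 1 1 : Equiv.Perm (Fin 56)), (sgU 1 0 1 : Equiv.Perm (Fin 56))⁆ := Equiv.ext fun a => commA a

theorem gB_eq : gB = ⁅(sgU 0 2 1 : Equiv.Perm (Fin 56)), (sgU 2 0 0 : Equiv.Perm (Fin 56))⁆ := Equiv.ext fun a => commB a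

theorem conj_closure {σ : P56} (hA : σ * gA * σ⁻¹ ∈ NN) (hB : σ * gB * σ⁻¹ ∈ NN) :
    ∀ h ∈ NN, σ * h * σ⁻¹ ∈ NN := by
  intro h hh
  rw [NN_eq] at hh
  induction hh using Subgroup.closure_induction with
  | mem x hx =>
    rcases hx with rfl | rfl
    · exact hA
    · exact hB
  | one =>
    have : σ * 1 * σ⁻¹ = 1 := by group
    rw [this]
    exact NN.one_mem
  | mul x y _ _ hx hy =>
    have : σ * (x * y) * σ⁻¹ = (σ * x * σ⁻¹) * (σ * y * σ⁻¹) := by group
    rw [this]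
    exact NN.mul_mem hx hy
  | inv x _ hx =>
    have : σ * x⁻¹ * σ⁻¹ = (σ * x * σ⁻¹)⁻¹ := by group
    rw [this]
    exact NN.inv_mem hx

theorem mem_normalizer_of {σ : P56} (h1 : ∀ h ∈ NN, σ * h * σ⁻¹ ∈ NN)
    (h2 : ∀ h ∈ NN, σ⁻¹ * h * σ⁻¹⁻¹ ∈ NN) : σ ∈ Subgroup.normalizer (NN : Set P56) := by
  rw [Subgroup.mem_normalizer_iff]
  intro h
  constructor
  · exact h1 h
  · intro hh
    have := h2 _ hh
    have e : σ⁻¹ * (σ * h * σ⁻¹) * σ⁻¹⁻¹ = h := by group
    rwa [e] at this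

theorem sgU_norm (t u v : ZMod 3) : sgU t u v ∈ Subgroup.normalizer (NN : Set P56) := by
  apply mem_normalizer_of
  · exact conj_closure
      ⟨⟨ix504 c1UL t u v⟩, Equiv.ext fun a => ((conjU t u v a).1).symm⟩
      ⟨⟨ix504 c2UL t u v⟩, Equiv.ext fun a => ((conjU t u v a).2.1).symm⟩
  · exact conj_closure
      ⟨⟨ix504 d1UL t u v⟩, Equiv.ext fun a => ((conjU t u v a).2.2.1).symm⟩
      ⟨⟨ix504 d2UL t u v⟩, Equiv.ext fun a => ((conjU t u v a).2.2.2).symm⟩

theorem sgV_norm (t u v : ZMod 3) : sgV t u v ∈ Subgroup.normalizer (NN : Set P56) := by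
  apply mem_normalizer_of
  · exact conj_closure
      ⟨⟨ix504 c1VL t u v⟩, Equiv.ext fun a => ((conjV t u v a).1).symm⟩
      ⟨⟨ix504 c2VL t u v⟩, Equiv.ext fun a => ((conjV t u v a).2.1).symm⟩
  · exact conj_closure
      ⟨⟨ix504 d1VL t u v⟩, Equiv.ext fun a => ((conjV t u v a).2.2.1).symm⟩
      ⟨⟨ix504 d2VL t u v⟩, Equiv.ext fun a => ((conjV t u v a).2.2.2).symm⟩

def tauP : P56 := sgU 0 1 0

theorem taupow_eq (k : ℕ) (a : Fin 56) : (tauP ^ k) a = taupow k a := by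
  induction k generalizing a with
  | zero => rfl
  | succ k ih =>
    rw [pow_succ', Equiv.Perm.mul_apply, ih]
    rfl

theorem sgU_coset (t u v : ZMod 3) : ∃ k : ℕ, ∃ ν ∈ NN, sgU t u v = tauP ^ k * ν :=
  ⟨kUL.getD (tix t u v) 0, rhoP ⟨ix504 nUL t u v⟩, ⟨_, rfl⟩, Equiv.ext fun a => by
    rw [Equiv.Perm.mul_apply, taupow_eq]
    exact cosetU t u v a⟩

theorem sgV_coset (t u v : ZMod 3) : ∃ k : ℕ, ∃ ν ∈ NN, sgV t u v = tauP ^ k * ν :=
  ⟨kVL.getD (tix t u v) 0, rhoP ⟨ix504 nVL t u v⟩, ⟨_, rfl⟩, Equiv.ext fun a => by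
    rw [Equiv.Perm.mul_apply, taupow_eq]
    exact cosetV t u v a⟩

theorem comm_PP_le : ⁅PP, PP⁆ ≤ NN := by
  show ⁅Subgroup.closure sgS, Subgroup.closure sgS⁆ ≤ NN
  apply comm_le_of_cyclic NN sgS tauP (sgU_norm 0 1 0)
  · rintro s ⟨t, u, v, rfl | rfl⟩
    · exact sgU_norm t u v
    · exact sgV_norm t u v
  · rintro s ⟨t, u, v, rfl | rfl⟩
    · exact sgU_coset t u v
    · exact sgV_coset t u v

theorem NN_le_comm : NN ≤ ⁅PP, PP⁆ := by
  rw [NN_eq, Subgroup.closure_le]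
  rintro x (rfl | rfl)
  · rw [gA_eq]
    exact Subgroup.commutator_mem_commutator
      (Subgroup.subset_closure ⟨1, 1, 1, Or.inr rfl⟩) (Subgroup.subset_closure ⟨1, 0, 1, Or.inl rfl⟩)
  · rw [gB_eq]
    exact Subgroup.commutator_mem_commutator
      (Subgroup.subset_closure ⟨0, 2, 1, Or.inl rfl⟩) (Subgroup.subset_closure ⟨2, 0, 0, Or.inl rfl⟩)

theorem comm_PP : ⁅PP, PP⁆ = NN := le_antisymm comm_PP_le NN_le_comm

/-- the derived subgroup of the small Ree group over `ZMod 3` is the 504-element table group -/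
theorem ree_comm_equiv :
    Nonempty (↥(commutator ↥(twistedG2 (ZMod 3) 1)) ≃* MG D504) := by
  have e1 : ↥(commutator ↥(twistedG2 (ZMod 3) 1)) ≃* ↥(commutator ↥PP) := commEquiv reeEquiv
  have e2 : ↥(commutator ↥PP) ≃* ↥((commutator ↥PP).map PP.subtype) :=
    (commutator ↥PP).equivMapOfInjective PP.subtype (Subgroup.subtype_injective _)
  have h3 : (commutator ↥PP).map PP.subtype = NN := by
    rw [Subgroup.map_subtype_commutator, comm_PP]
  have e4 : MG D504 ≃* ↥NN := MonoidHom.ofInjective rhoP_inj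
  exact ⟨(e1.trans e2).trans ((MulEquiv.subgroupCongr h3).trans e4.symm)⟩

end Cfsg.Agent.helper2.Ree
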