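import Mathlib
import Cfsg.Prelude.Def_Spor_Ru

set_option autoImplicit false
set_option maxRecDepth 100000

namespace Cfsg.Agent.helper2.Ru

open Cfsg Cfsg.Spor

/-- real coordinates of a `Z`-basis of the lattice (Hermite normal form) -/
def tblB : List (List ℤ) := [[1,0,0,0,0,0,0,1,0,0,0,1,0,0,0,1,0,0,0,0,1,1,0,0,0,0,0,1,1,0,0,0,0,0,1,1,0,1,2,1,1,1,0,0,1,0,0,1,1,0,2,2,0,1,3,1],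
  [0,1,0,0,0,0,0,1,0,0,0,0,0,1,1,0,0,0,0,0,0,1,0,1,0,1,1,1,0,1,1,1,0,0,1,2,1,0,2,2,1,0,1,3,0,1,3,3,0,1,2,3,0,3,0,3],
  [0,0,1,0,0,0,0,1,0,0,0,1,0,1,0,0,0,0,0,1,0,0,0,1,0,1,1,0,0,1,1,0,0,1,0,0,0,0,0,3,1,1,1,1,0,1,3,0,0,2,2,2,1,2,3,2],
  [0,0,0,1,0,0,0,1,0,0,0,0,0,0,1,1,0,0,0,1,1,0,0,0,0,1,1,0,0,0,1,3,0,1,0,1,1,1,2,2,1,0,1,1,0,3,0,2,1,2,2,2,0,2,0,3],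
  [0,0,0,0,1,0,0,1,0,0,0,0,0,1,0,1,0,0,0,1,0,0,1,2,0,1,0,0,0,0,1,2,0,0,1,2,0,0,3,2,0,1,0,3,1,0,1,0,0,2,1,0,0,1,0,2],
  [0,0,0,0,0,1,0,1,0,0,0,1,0,0,1,0,0,0,0,1,0,1,0,0,0,0,1,0,0,0,1,0,0,1,1,2,1,0,2,1,1,1,1,2,0,1,3,3,0,1,2,3,0,2,0,0],
  [0,0,0,0,0,0,1,1,0,0,0,1,0,1,1,1,0,0,0,0,0,1,1,0,0,0,0,0,1,0,1,2,0,1,0,0,1,0,1,3,0,1,1,3,1,3,3,0,0,2,3,2,1,3,2,1],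
  [0,0,0,0,0,0,0,2,0,0,0,0,0,0,0,0,0,0,0,0,1,1,1,1,0,0,0,0,0,0,0,0,0,1,0,3,0,1,1,2,0,1,1,2,1,2,1,2,1,1,2,2,3,1,2,0],
  [0,0,0,0,0,0,0,0,1,0,0,1,0,1,0,1,0,0,0,0,0,0,0,2,0,0,1,1,1,1,0,0,0,1,0,1,1,0,0,1,1,1,1,3,0,0,0,2,1,3,1,1,1,3,3,1],
  [0,0,0,0,0,0,0,0,0,1,0,1,0,1,1,0,0,0,0,0,0,0,0,0,0,0,1,1,0,0,1,1,0,0,1,1,1,1,2,0,0,1,0,3,1,2,2,3,0,0,2,0,2,0,2,0],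
  [0,0,0,0,0,0,0,0,0,0,1,1,0,0,1,1,0,0,0,0,1,1,1,1,0,1,0,1,1,0,0,3,0,1,0,1,1,0,0,3,1,1,1,1,0,0,0,2,1,1,0,0,3,3,0,2],
  [0,0,0,0,0,0,0,0,0,0,0,2,0,0,0,0,0,0,0,0,1,1,1,3,0,0,0,0,0,0,0,2,0,1,0,1,0,1,3,0,1,0,0,3,0,1,0,1,1,1,2,2,3,1,2,2],
  [0,0,0,0,0,0,0,0,0,0,0,0,1,1,1,1,0,0,0,0,0,0,0,0,0,1,0,1,0,1,1,0,0,1,1,2,1,0,3,2,0,0,1,3,0,0,3,3,1,3,1,1,1,1,3,1],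
  [0,0,0,0,0,0,0,0,0,0,0,0,0,2,0,0,0,0,0,0,1,1,1,3,0,0,0,0,0,0,0,2,0,1,0,1,0,1,3,0,1,0,0,3,0,3,2,1,1,3,0,2,1,3,0,0],
  [0,0,0,0,0,0,0,0,0,0,0,0,0,0,2,0,0,0,0,0,1,1,1,3,0,0,0,0,0,0,0,2,0,1,0,1,0,1,3,0,1,0,0,1,0,3,2,3,1,1,0,0,3,3,2,0],
  [0,0,0,0,0,0,0,0,0,0,0,0,0,0,0,2,0,0,0,0,1,1,1,3,0,0,0,0,0,0,0,2,0,1,0,1,0,1,3,0,1,0,0,3,0,3,0,3,1,3,2,2,3,3,2,2],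
  [0,0,0,0,0,0,0,0,0,0,0,0,0,0,0,0,1,0,0,1,0,1,0,1,0,0,0,0,0,0,0,2,0,0,1,3,1,1,2,0,0,1,0,3,1,0,0,3,0,2,0,2,3,3,1,3],
  [0,0,0,0,0,0,0,0,0,0,0,0,0,0,0,0,0,1,0,1,1,0,0,1,0,0,0,0,0,0,0,0,0,1,1,0,0,1,0,1,1,0,1,2,1,0,2,3,0,3,1,2,1,2,1,0],
  [0,0,0,0,0,0,0,0,0,0,0,0,0,0,0,0,0,0,1,1,0,0,1,3,0,0,0,0,0,0,0,2,0,1,0,3,1,0,0,3,1,1,1,1,0,0,0,2,1,0,2,3,3,2,3,0],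
  [0,0,0,0,0,0,0,0,0,0,0,0,0,0,0,0,0,0,0,2,0,0,0,2,0,0,0,0,0,0,0,0,0,0,0,2,0,0,2,0,1,1,1,3,1,1,3,3,1,1,1,3,3,1,1,3],
  [0,0,0,0,0,0,0,0,0,0,0,0,0,0,0,0,0,0,0,0,2,0,0,2,0,0,0,0,0,0,0,0,0,0,0,2,0,0,2,0,0,0,0,2,0,2,0,0,0,2,0,0,2,0,0,0],
  [0,0,0,0,0,0,0,0,0,0,0,0,0,0,0,0,0,0,0,0,0,2,0,2,0,0,0,0,0,0,0,0,0,0,0,2,0,0,0,2,1,1,1,1,1,3,1,1,1,1,1,3,1,1,1,1],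
  [0,0,0,0,0,0,0,0,0,0,0,0,0,0,0,0,0,0,0,0,0,0,2,2,0,0,0,0,0,0,0,0,0,0,0,0,0,0,2,2,1,1,1,3,1,1,1,1,1,3,3,1,3,1,3,3],
  [0,0,0,0,0,0,0,0,0,0,0,0,0,0,0,0,0,0,0,0,0,0,0,4,0,0,0,0,0,0,0,0,0,0,0,0,0,0,0,0,0,0,0,0,0,0,0,0,0,0,0,0,0,0,0,0],
  [0,0,0,0,0,0,0,0,0,0,0,0,0,0,0,0,0,0,0,0,0,0,0,0,1,1,1,1,1,1,1,3,0,0,0,2,0,0,0,2,1,1,1,1,1,1,3,1,0,2,2,0,2,2,2,2],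
  [0,0,0,0,0,0,0,0,0,0,0,0,0,0,0,0,0,0,0,0,0,0,0,0,0,2,0,0,0,0,0,2,0,0,0,0,0,0,2,2,1,1,1,3,1,3,1,3,1,1,3,3,1,1,3,1],
  [0,0,0,0,0,0,0,0,0,0,0,0,0,0,0,0,0,0,0,0,0,0,0,0,0,0,2,0,0,0,0,2,0,0,0,2,0,0,0,2,1,1,1,3,1,3,1,3,1,1,3,1,1,1,3,3],
  [0,0,0,0,0,0,0,0,0,0,0,0,0,0,0,0,0,0,0,0,0,0,0,0,0,0,0,2,0,0,0,2,0,0,0,0,0,0,2,2,0,0,0,0,0,0,0,0,0,2,2,0,0,0,2,2],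
  [0,0,0,0,0,0,0,0,0,0,0,0,0,0,0,0,0,0,0,0,0,0,0,0,0,0,0,0,2,0,0,2,0,0,0,0,0,0,0,0,1,1,1,3,1,3,1,3,1,1,1,1,1,3,3,3],
  [0,0,0,0,0,0,0,0,0,0,0,0,0,0,0,0,0,0,0,0,0,0,0,0,0,0,0,0,0,2,0,2,0,0,0,2,0,0,2,0,0,0,0,0,0,0,0,0,0,0,2,0,0,0,2,0],
  [0,0,0,0,0,0,0,0,0,0,0,0,0,0,0,0,0,0,0,0,0,0,0,0,0,0,0,0,0,0,2,2,0,0,0,2,0,0,2,0,1,1,1,3,1,3,1,3,1,3,1,1,3,3,3,3],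
  [0,0,0,0,0,0,0,0,0,0,0,0,0,0,0,0,0,0,0,0,0,0,0,0,0,0,0,0,0,0,0,4,0,0,0,0,0,0,0,0,0,0,0,0,0,0,0,0,0,0,0,0,0,0,0,0],
  [0,0,0,0,0,0,0,0,0,0,0,0,0,0,0,0,0,0,0,0,0,0,0,0,0,0,0,0,0,0,0,0,1,1,1,1,1,1,3,1,0,0,0,0,0,2,2,0,1,1,1,1,3,3,1,3],
  [0,0,0,0,0,0,0,0,0,0,0,0,0,0,0,0,0,0,0,0,0,0,0,0,0,0,0,0,0,0,0,0,0,2,0,2,0,0,2,2,1,1,1,3,1,3,1,3,1,3,3,3,1,3,3,1],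
  [0,0,0,0,0,0,0,0,0,0,0,0,0,0,0,0,0,0,0,0,0,0,0,0,0,0,0,0,0,0,0,0,0,0,2,2,0,0,2,2,0,0,0,0,0,0,0,0,0,2,0,2,2,0,0,2],
  [0,0,0,0,0,0,0,0,0,0,0,0,0,0,0,0,0,0,0,0,0,0,0,0,0,0,0,0,0,0,0,0,0,0,0,4,0,0,0,0,0,0,0,0,0,0,0,0,0,0,0,0,0,0,0,0],
  [0,0,0,0,0,0,0,0,0,0,0,0,0,0,0,0,0,0,0,0,0,0,0,0,0,0,0,0,0,0,0,0,0,0,0,0,2,0,2,0,1,1,1,3,1,3,1,3,1,1,1,3,1,1,3,3],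
  [0,0,0,0,0,0,0,0,0,0,0,0,0,0,0,0,0,0,0,0,0,0,0,0,0,0,0,0,0,0,0,0,0,0,0,0,0,2,0,2,1,1,1,3,1,3,1,3,1,3,1,1,1,3,1,3],
  [0,0,0,0,0,0,0,0,0,0,0,0,0,0,0,0,0,0,0,0,0,0,0,0,0,0,0,0,0,0,0,0,0,0,0,0,0,0,4,0,0,0,0,0,0,0,0,0,0,0,0,0,0,0,0,0],
  [0,0,0,0,0,0,0,0,0,0,0,0,0,0,0,0,0,0,0,0,0,0,0,0,0,0,0,0,0,0,0,0,0,0,0,0,0,0,0,4,0,0,0,0,0,0,0,0,0,0,0,0,0,0,0,0],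
  [0,0,0,0,0,0,0,0,0,0,0,0,0,0,0,0,0,0,0,0,0,0,0,0,0,0,0,0,0,0,0,0,0,0,0,0,0,0,0,0,2,0,0,2,0,2,0,2,0,0,2,2,0,0,2,2],
  [0,0,0,0,0,0,0,0,0,0,0,0,0,0,0,0,0,0,0,0,0,0,0,0,0,0,0,0,0,0,0,0,0,0,0,0,0,0,0,0,0,2,0,2,0,2,2,0,0,2,2,0,2,0,2,0],
  [0,0,0,0,0,0,0,0,0,0,0,0,0,0,0,0,0,0,0,0,0,0,0,0,0,0,0,0,0,0,0,0,0,0,0,0,0,0,0,0,0,0,2,2,0,0,2,2,0,0,2,2,2,2,0,0],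
  [0,0,0,0,0,0,0,0,0,0,0,0,0,0,0,0,0,0,0,0,0,0,0,0,0,0,0,0,0,0,0,0,0,0,0,0,0,0,0,0,0,0,0,4,0,0,0,0,0,0,0,0,0,0,0,0],
  [0,0,0,0,0,0,0,0,0,0,0,0,0,0,0,0,0,0,0,0,0,0,0,0,0,0,0,0,0,0,0,0,0,0,0,0,0,0,0,0,0,0,0,0,2,2,2,2,0,2,2,0,0,2,0,2],
  [0,0,0,0,0,0,0,0,0,0,0,0,0,0,0,0,0,0,0,0,0,0,0,0,0,0,0,0,0,0,0,0,0,0,0,0,0,0,0,0,0,0,0,0,0,4,0,0,0,0,0,0,0,0,0,0],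
  [0,0,0,0,0,0,0,0,0,0,0,0,0,0,0,0,0,0,0,0,0,0,0,0,0,0,0,0,0,0,0,0,0,0,0,0,0,0,0,0,0,0,0,0,0,0,4,0,0,0,0,0,0,0,0,0],
  [0,0,0,0,0,0,0,0,0,0,0,0,0,0,0,0,0,0,0,0,0,0,0,0,0,0,0,0,0,0,0,0,0,0,0,0,0,0,0,0,0,0,0,0,0,0,0,4,0,0,0,0,0,0,0,0],
  [0,0,0,0,0,0,0,0,0,0,0,0,0,0,0,0,0,0,0,0,0,0,0,0,0,0,0,0,0,0,0,0,0,0,0,0,0,0,0,0,0,0,0,0,0,0,0,0,2,2,2,2,2,2,2,2],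
  [0,0,0,0,0,0,0,0,0,0,0,0,0,0,0,0,0,0,0,0,0,0,0,0,0,0,0,0,0,0,0,0,0,0,0,0,0,0,0,0,0,0,0,0,0,0,0,0,0,4,0,0,0,0,0,0],
  [0,0,0,0,0,0,0,0,0,0,0,0,0,0,0,0,0,0,0,0,0,0,0,0,0,0,0,0,0,0,0,0,0,0,0,0,0,0,0,0,0,0,0,0,0,0,0,0,0,0,4,0,0,0,0,0],
  [0,0,0,0,0,0,0,0,0,0,0,0,0,0,0,0,0,0,0,0,0,0,0,0,0,0,0,0,0,0,0,0,0,0,0,0,0,0,0,0,0,0,0,0,0,0,0,0,0,0,0,4,0,0,0,0],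
  [0,0,0,0,0,0,0,0,0,0,0,0,0,0,0,0,0,0,0,0,0,0,0,0,0,0,0,0,0,0,0,0,0,0,0,0,0,0,0,0,0,0,0,0,0,0,0,0,0,0,0,0,4,0,0,0],
  [0,0,0,0,0,0,0,0,0,0,0,0,0,0,0,0,0,0,0,0,0,0,0,0,0,0,0,0,0,0,0,0,0,0,0,0,0,0,0,0,0,0,0,0,0,0,0,0,0,0,0,0,0,4,0,0],
  [0,0,0,0,0,0,0,0,0,0,0,0,0,0,0,0,0,0,0,0,0,0,0,0,0,0,0,0,0,0,0,0,0,0,0,0,0,0,0,0,0,0,0,0,0,0,0,0,0,0,0,0,0,0,4,0],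
  [0,0,0,0,0,0,0,0,0,0,0,0,0,0,0,0,0,0,0,0,0,0,0,0,0,0,0,0,0,0,0,0,0,0,0,0,0,0,0,0,0,0,0,0,0,0,0,0,0,0,0,0,0,0,0,4]]

def ent (T : List (List ℤ)) (j k : ℕ) : ℤ := (T.getD j []).getD k 0

/-- index of a coordinate -/
def cidx (p : RuIdx) : ℕ := 4 * p.1.val + p.2.val

def vecOf (T : List (List ℤ)) (j : ℕ) : RuVec := fun p => ⟨ent T j (2 * cidx p), ent T j (2 * cidx p + 1)⟩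

def Bv (j : Fin 56) : RuVec := vecOf tblB j.val

/-- integer combination of the basis, computed coordinatewise -/
def comb (c : Fin 56 → ℤ) : RuVec := fun p =>
  ⟨∑ k : Fin 56, c k * (Bv k p).re, ∑ k : Fin 56, c k * (Bv k p).im⟩

def rowFn (T : List (List ℤ)) (j : ℕ) : Fin 56 → ℤ := fun k => ent T j k.val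

def tblGen : List (List ℤ) := [[4,0,0,0,0,0,0,-2,0,0,0,-2,0,0,0,-2,0,0,0,0,1,1,3,1,0,0,0,-2,-2,0,0,4,0,3,-2,0,0,1,0,-2,-3,-4,-2,4,-4,5,4,4,-2,4,5,2,6,3,2,5],
  [0,-1,1,0,1,0,1,-1,0,0,0,-1,0,-1,0,-1,0,0,0,-1,2,2,1,0,1,-1,0,0,-1,0,-2,2,0,1,0,0,0,2,2,-4,1,-2,-1,2,-2,1,2,4,2,-1,0,0,2,1,0,0],
  [0,-1,1,0,-1,0,-1,1,0,0,0,0,0,1,1,1,0,0,0,0,-2,-1,-1,0,1,0,-1,0,0,0,1,-1,0,-2,1,1,1,-2,0,3,1,2,2,1,3,-1,-3,-2,1,-1,-2,-1,-4,-2,-2,-1],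
  [0,-1,-1,0,1,0,-1,1,0,0,0,1,0,1,1,0,0,0,0,0,-2,-1,-2,0,1,0,1,0,0,0,1,-3,0,-1,0,-1,1,-2,-1,3,1,1,2,-1,0,0,-1,-2,0,2,0,0,-2,0,-1,1],
  [0,-1,-1,0,-1,0,1,1,0,0,0,0,0,1,0,0,0,0,0,1,-1,-1,-1,1,1,1,0,0,-1,0,0,-1,0,-1,1,0,0,-1,0,1,2,1,1,0,1,-1,-2,-1,1,0,-2,-2,-2,0,-1,0],
  [1,0,1,0,1,0,1,-2,1,0,0,-2,0,-2,-1,-2,1,0,-1,-1,4,3,4,0,0,-1,-1,-1,-2,-1,-1,6,1,3,-2,0,-2,3,2,-5,0,-4,-3,2,-3,3,4,6,1,-2,3,2,4,1,2,0],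
  [1,0,1,0,1,0,1,-2,0,0,-1,-1,0,-1,0,-1,0,0,0,-1,2,2,2,0,-1,0,0,1,0,0,-1,2,0,2,-1,1,0,2,-1,-4,-2,-3,-2,1,-3,1,3,4,-1,0,2,1,5,2,0,1],
  [1,0,1,0,1,0,1,-2,0,0,0,-1,-1,-1,0,-1,0,0,0,-1,2,2,1,0,0,0,-1,0,-1,0,-1,2,0,2,-1,1,0,2,1,-3,-1,-2,-1,2,-2,1,2,4,1,0,1,0,3,0,1,1],
  [1,0,1,0,-1,0,-1,0,0,0,1,-1,0,1,0,0,0,0,0,0,-1,0,1,0,-1,0,0,-1,0,0,1,1,0,-1,0,1,0,-1,1,1,-1,0,0,2,1,1,0,0,-1,1,2,1,0,0,1,1],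
  [1,0,1,0,-1,0,-1,0,0,0,0,-1,-1,1,1,1,0,0,0,0,-2,-1,0,0,0,1,0,0,0,0,1,-1,-1,0,1,1,2,-1,-1,1,-3,-1,0,2,-1,1,1,-1,-2,2,3,0,1,0,0,2],
  [1,0,1,0,-1,0,-1,0,1,0,0,-1,0,0,1,0,0,-1,0,1,0,0,1,-1,0,0,-1,-1,0,-1,1,2,0,0,0,0,0,0,0,1,-2,-1,-1,2,0,1,0,0,-2,1,4,2,0,0,1,1],
  [1,0,1,0,-1,0,-1,0,0,-1,0,0,0,1,1,1,1,0,1,-1,-2,-2,-1,0,0,0,0,0,0,0,1,-2,0,-2,0,1,0,-2,1,3,1,3,3,1,4,0,-3,-3,1,-1,-3,-1,-3,-4,-2,-1],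
  [1,0,-1,0,1,0,-1,0,0,-1,0,1,0,1,1,-1,0,0,0,0,-1,-1,-1,0,0,0,1,0,0,0,1,-2,0,0,0,-1,1,-1,-2,2,-1,0,1,0,0,1,0,-1,-2,2,2,1,1,0,1,1],
  [1,0,-1,0,1,0,-1,0,-1,0,0,1,0,1,1,0,0,0,0,0,-2,-2,-2,1,0,0,1,0,1,1,0,-3,0,0,-1,0,1,-2,-2,4,0,2,3,-1,1,0,-2,-3,0,3,-2,0,0,-1,-1,1],
  [1,0,-1,0,1,0,-1,0,0,0,0,1,-1,1,1,0,1,0,1,-1,-2,-2,-2,0,0,1,0,0,0,1,1,-4,0,-1,-1,0,0,-2,-1,4,1,2,4,-1,2,1,-1,-3,1,2,-3,-1,-2,-3,-1,1],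
  [1,0,-1,0,1,0,-1,0,0,0,1,0,0,0,0,-1,0,-1,0,1,0,0,0,0,1,-1,0,-2,-1,0,0,1,1,1,-1,-2,0,0,0,1,0,-1,1,1,0,2,0,0,-1,3,2,1,0,0,3,1],
  [1,0,-1,0,-1,0,1,0,0,0,0,0,1,0,-1,-1,0,-1,0,1,1,0,1,1,0,0,0,-1,-1,0,0,2,0,1,0,-1,-1,1,0,-1,0,-1,-1,0,-1,1,1,1,-1,1,1,0,1,2,1,1],
  [1,0,-1,0,-1,0,1,0,0,0,-1,0,0,0,0,0,-1,0,1,1,0,0,0,0,-1,2,1,0,0,1,1,-1,0,0,0,-1,0,0,-2,-1,-2,-1,-2,0,-2,-1,2,0,-3,3,1,0,2,3,-1,3],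
  [1,0,-1,0,-1,0,1,0,0,-1,0,0,0,1,0,0,0,0,0,1,-1,-1,-1,1,0,1,1,0,-1,0,1,-1,1,-1,0,0,0,-1,-1,1,0,1,1,0,1,-1,-2,-1,-1,1,-1,-1,-1,-1,0,0],
  [1,0,-1,0,-1,0,1,0,1,0,0,-1,0,0,0,-1,0,0,0,1,1,0,1,0,0,1,0,-1,-1,0,1,1,0,0,0,-1,-1,1,0,-1,-1,-2,-2,1,-2,1,2,1,-1,1,3,1,1,1,1,2]]
def tblGI : List (List ℤ) := [[0,1,0,0,0,0,-1,0,0,0,-1,1,0,0,0,1,0,0,0,0,-1,0,0,-1,0,0,-1,0,1,0,0,0,0,0,-1,1,0,-1,-1,3,-1,2,1,-1,1,0,-2,-1,0,0,-2,0,-1,-1,-1,1],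
  [-1,0,0,0,0,0,-1,1,0,0,0,1,-1,1,1,2,0,0,0,0,-3,-2,-3,0,-1,1,0,2,1,1,1,-4,0,-2,0,2,1,-2,-2,5,1,4,2,-1,3,-3,-3,-3,0,0,-4,0,-3,-2,-3,-1],
  [0,0,0,1,0,0,-1,0,0,0,-1,1,-1,1,1,1,0,0,-1,0,-2,-1,-1,0,-1,1,0,2,1,1,1,-3,-1,0,1,1,2,-2,-5,3,-2,2,1,-1,0,-2,0,-1,-2,0,-1,0,0,1,-2,1],
  [0,0,-1,0,0,0,-1,1,0,0,0,1,0,1,0,1,0,0,-1,1,-2,-1,-1,0,-1,1,1,1,1,1,0,-2,-1,0,0,0,1,-1,-3,3,-1,1,0,-2,-2,0,1,-2,-3,3,1,1,1,3,-1,2],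
  [0,0,0,0,0,1,-1,0,0,0,0,0,-1,1,0,1,0,0,-1,0,-1,-1,-1,1,-1,1,0,1,1,1,0,-1,0,0,-1,2,1,-1,-2,4,-1,1,0,0,1,-1,0,-1,-1,1,0,1,2,0,0,1],
  [0,0,0,0,-1,0,-1,1,0,0,-1,1,0,1,1,2,0,0,-1,1,-3,-2,-1,0,0,1,0,1,1,0,1,-2,-1,-1,0,2,2,-2,-3,5,-2,2,0,-1,0,-1,-2,-2,-2,1,0,1,-1,1,-2,1],
  [0,0,0,0,0,0,-1,1,0,0,-1,1,-1,1,1,2,0,0,0,0,-3,-2,-2,0,0,1,0,1,1,1,0,-3,-1,-1,1,1,2,-2,-3,4,-1,2,1,0,0,0,0,-1,-1,2,-1,0,-1,1,-2,2],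
  [0,0,0,0,0,0,-2,1,0,0,0,1,0,1,1,1,0,0,0,0,-3,-1,-2,0,0,0,0,0,1,0,1,-2,-1,-1,-1,1,1,-2,0,5,-1,2,1,1,1,1,-1,-2,-1,3,1,2,0,1,0,3],
  [0,0,0,0,0,0,0,0,0,1,-1,0,-1,0,0,1,0,0,0,0,0,0,-1,0,0,1,-1,1,0,1,0,-1,-1,1,0,0,1,0,-2,1,-1,0,-1,0,-1,-1,1,0,-1,1,0,0,1,2,-1,3],
  [0,0,0,0,0,0,0,0,-1,0,-1,1,-1,1,1,2,0,0,0,0,-2,-2,-2,0,0,1,0,2,1,1,0,-4,0,-1,0,2,1,-2,-3,4,0,3,2,-1,1,-2,-3,-1,1,0,-4,-1,-2,-1,-3,0],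
  [0,0,0,0,0,0,0,0,0,0,-1,1,0,0,0,1,0,0,0,0,-1,0,-1,0,-1,1,0,1,1,1,-1,-1,-1,0,0,1,1,0,-2,1,-1,1,0,-1,0,-1,0,-1,-1,1,-1,-1,1,2,-2,1],
  [0,0,0,0,0,0,0,0,0,0,-2,1,0,0,1,1,0,0,0,0,-1,0,-2,0,0,1,0,1,1,0,-1,-1,-1,0,0,1,1,-1,-1,3,0,2,0,-1,0,-2,-1,-1,0,1,-2,-1,1,2,-3,2],
  [0,0,0,0,0,0,0,0,0,0,0,0,-1,1,0,1,0,0,0,0,-1,-1,-1,0,-1,1,0,1,0,1,1,-2,-1,0,0,1,1,0,-2,2,-1,0,-1,0,0,-1,1,0,-2,1,1,1,2,1,0,2],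
  [0,0,0,0,0,0,0,0,0,0,0,0,-2,1,1,1,0,0,0,0,-2,-1,-3,1,0,1,0,1,0,1,0,-3,-1,0,1,1,1,-1,0,3,0,2,1,1,0,-1,0,0,0,2,-1,-1,0,0,0,2],
  [0,0,0,0,0,0,0,0,0,0,0,0,0,0,0,1,0,0,0,0,-1,0,-2,1,0,0,0,0,0,0,-1,0,-1,0,0,1,0,0,2,2,1,2,1,0,0,0,-1,0,1,1,-1,-1,0,1,0,2],
  [0,0,0,0,0,0,0,0,0,0,0,0,0,0,-1,0,0,0,0,0,0,1,-1,1,0,0,0,0,0,0,-1,1,-1,1,0,0,0,1,2,0,0,0,-2,1,-2,1,2,2,-1,2,2,1,3,4,1,3],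
  [0,0,0,0,0,0,0,0,0,0,0,0,0,0,0,0,0,1,-1,0,-1,0,0,1,0,0,0,0,0,0,-1,1,0,0,-2,3,0,0,2,2,0,1,-1,1,0,1,-1,1,0,1,0,2,2,2,0,2],
  [0,0,0,0,0,0,0,0,0,0,0,0,0,0,0,0,-1,0,-1,1,0,1,0,0,0,0,0,0,0,0,0,1,-1,1,1,0,1,1,-1,-1,-2,-1,-3,1,-2,0,1,2,-3,1,4,2,3,4,2,2],
  [0,0,0,0,0,0,0,0,0,0,0,0,0,0,0,0,0,0,-1,1,0,0,-1,1,0,0,0,0,0,0,-1,1,-1,1,-1,1,1,1,0,1,-1,0,-1,0,-1,0,0,0,0,1,1,1,2,2,1,2],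
  [0,0,0,0,0,0,0,0,0,0,0,0,0,0,0,0,0,0,-2,1,0,0,0,1,0,0,0,0,0,0,0,1,0,1,-1,1,1,0,-1,2,-1,0,-2,0,-2,0,0,2,-1,1,2,2,2,3,0,1],
  [0,0,0,0,0,0,0,0,0,0,0,0,0,0,0,0,0,0,0,0,0,1,-1,0,0,0,0,0,0,0,0,0,0,0,-1,0,0,0,1,1,0,0,-1,1,-1,0,1,1,-1,2,2,1,2,2,1,2],
  [0,0,0,0,0,0,0,0,0,0,0,0,0,0,0,0,0,0,0,0,-1,0,-1,1,0,0,0,0,0,0,0,0,0,0,-1,1,0,0,1,1,0,1,0,1,-1,1,0,1,0,2,0,1,1,1,0,2],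
  [0,0,0,0,0,0,0,0,0,0,0,0,0,0,0,0,0,0,0,0,0,0,-1,1,0,0,0,0,0,0,0,0,0,0,0,0,0,0,0,1,0,1,-1,1,0,0,0,1,-1,1,1,2,1,2,0,2],
  [0,0,0,0,0,0,0,0,0,0,0,0,0,0,0,0,0,0,0,0,0,0,-2,1,0,0,0,0,0,0,0,0,0,0,0,0,0,0,1,1,1,1,1,0,1,-1,-1,-1,1,0,-1,-1,0,-1,0,0],
  [0,0,0,0,0,0,0,0,0,0,0,0,0,0,0,0,0,0,0,0,0,0,0,0,-1,1,0,1,0,1,-1,0,0,0,-1,1,0,0,-1,0,0,1,0,0,0,0,0,1,-1,1,-1,1,1,2,-1,2],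
  [0,0,0,0,0,0,0,0,0,0,0,0,0,0,0,0,0,0,0,0,0,0,0,0,-2,1,1,1,1,1,0,-1,0,0,0,0,0,0,-2,0,-1,0,-2,0,-2,0,2,1,-2,2,1,2,2,3,-1,2],
  [0,0,0,0,0,0,0,0,0,0,0,0,0,0,0,0,0,0,0,0,0,0,0,0,0,0,0,1,0,0,-1,0,0,0,-1,1,0,0,0,0,0,1,-1,1,-1,1,0,2,0,1,0,2,1,2,-1,2],
  [0,0,0,0,0,0,0,0,0,0,0,0,0,0,0,0,0,0,0,0,0,0,0,0,0,0,-1,0,0,0,-1,1,0,0,0,1,0,0,0,1,1,1,1,0,1,0,-1,0,0,0,-1,0,0,0,0,1],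
  [0,0,0,0,0,0,0,0,0,0,0,0,0,0,0,0,0,0,0,0,0,0,0,0,0,0,0,0,0,1,-1,0,0,0,0,0,0,0,0,0,0,1,-1,1,-1,1,0,2,0,1,0,1,0,2,-1,2],
  [0,0,0,0,0,0,0,0,0,0,0,0,0,0,0,0,0,0,0,0,0,0,0,0,0,0,0,0,-1,0,-1,1,0,0,-1,1,0,0,1,1,1,1,1,0,1,0,-1,0,1,0,-2,0,0,0,0,1],
  [0,0,0,0,0,0,0,0,0,0,0,0,0,0,0,0,0,0,0,0,0,0,0,0,0,0,0,0,0,0,-1,1,0,0,-1,1,0,0,1,1,0,1,-1,1,-1,1,0,2,-1,2,1,2,1,3,0,3],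
  [0,0,0,0,0,0,0,0,0,0,0,0,0,0,0,0,0,0,0,0,0,0,0,0,0,0,0,0,0,0,-2,1,0,0,0,1,0,0,1,0,1,1,1,0,1,0,-1,0,1,0,-2,-1,0,0,0,0],
  [0,0,0,0,0,0,0,0,0,0,0,0,0,0,0,0,0,0,0,0,0,0,0,0,0,0,0,0,0,0,0,0,-1,1,0,0,0,1,0,0,-1,-1,-1,0,-2,1,2,1,-1,1,2,1,1,2,0,2],
  [0,0,0,0,0,0,0,0,0,0,0,0,0,0,0,0,0,0,0,0,0,0,0,0,0,0,0,0,0,0,0,0,-2,1,0,0,1,1,0,0,-2,-1,-3,1,-3,2,3,2,-2,2,4,3,3,4,1,4],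
  [0,0,0,0,0,0,0,0,0,0,0,0,0,0,0,0,0,0,0,0,0,0,0,0,0,0,0,0,0,0,0,0,0,0,-1,1,0,0,0,1,0,0,0,0,0,0,0,0,-1,1,0,1,1,1,0,1],
  [0,0,0,0,0,0,0,0,0,0,0,0,0,0,0,0,0,0,0,0,0,0,0,0,0,0,0,0,0,0,0,0,0,0,-2,1,0,0,1,1,0,0,0,0,0,0,0,0,0,1,0,1,1,0,0,1],
  [0,0,0,0,0,0,0,0,0,0,0,0,0,0,0,0,0,0,0,0,0,0,0,0,0,0,0,0,0,0,0,0,0,0,0,0,0,1,0,0,-1,0,-2,1,-2,1,1,2,-1,1,2,2,1,2,0,2],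
  [0,0,0,0,0,0,0,0,0,0,0,0,0,0,0,0,0,0,0,0,0,0,0,0,0,0,0,0,0,0,0,0,0,0,0,0,-1,0,0,0,0,1,-1,1,-1,1,0,2,-1,1,1,2,0,2,0,2],
  [0,0,0,0,0,0,0,0,0,0,0,0,0,0,0,0,0,0,0,0,0,0,0,0,0,0,0,0,0,0,0,0,0,0,0,0,0,0,0,1,0,0,0,0,0,0,0,0,0,0,0,0,0,0,0,0],
  [0,0,0,0,0,0,0,0,0,0,0,0,0,0,0,0,0,0,0,0,0,0,0,0,0,0,0,0,0,0,0,0,0,0,0,0,0,0,-1,0,0,0,0,0,0,0,0,0,0,0,0,0,0,0,0,0],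
  [0,0,0,0,0,0,0,0,0,0,0,0,0,0,0,0,0,0,0,0,0,0,0,0,0,0,0,0,0,0,0,0,0,0,0,0,0,0,0,0,0,1,-1,0,-1,0,0,1,0,0,0,1,0,1,-1,1],
  [0,0,0,0,0,0,0,0,0,0,0,0,0,0,0,0,0,0,0,0,0,0,0,0,0,0,0,0,0,0,0,0,0,0,0,0,0,0,0,0,-1,0,-1,1,-1,1,1,2,-1,1,2,2,1,2,1,2],
  [0,0,0,0,0,0,0,0,0,0,0,0,0,0,0,0,0,0,0,0,0,0,0,0,0,0,0,0,0,0,0,0,0,0,0,0,0,0,0,0,0,0,-1,1,0,0,0,1,0,0,0,1,0,1,0,0],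
  [0,0,0,0,0,0,0,0,0,0,0,0,0,0,0,0,0,0,0,0,0,0,0,0,0,0,0,0,0,0,0,0,0,0,0,0,0,0,0,0,0,0,-2,1,0,0,1,1,0,0,1,1,1,1,0,0],
  [0,0,0,0,0,0,0,0,0,0,0,0,0,0,0,0,0,0,0,0,0,0,0,0,0,0,0,0,0,0,0,0,0,0,0,0,0,0,0,0,0,0,0,0,-1,1,0,1,-1,1,1,1,0,1,0,1],
  [0,0,0,0,0,0,0,0,0,0,0,0,0,0,0,0,0,0,0,0,0,0,0,0,0,0,0,0,0,0,0,0,0,0,0,0,0,0,0,0,0,0,0,0,-2,1,1,1,0,1,1,0,0,1,0,1],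
  [0,0,0,0,0,0,0,0,0,0,0,0,0,0,0,0,0,0,0,0,0,0,0,0,0,0,0,0,0,0,0,0,0,0,0,0,0,0,0,0,0,0,0,0,0,0,0,1,0,0,0,0,0,0,0,0],
  [0,0,0,0,0,0,0,0,0,0,0,0,0,0,0,0,0,0,0,0,0,0,0,0,0,0,0,0,0,0,0,0,0,0,0,0,0,0,0,0,0,0,0,0,0,0,-1,0,0,0,0,0,0,0,0,0],
  [0,0,0,0,0,0,0,0,0,0,0,0,0,0,0,0,0,0,0,0,0,0,0,0,0,0,0,0,0,0,0,0,0,0,0,0,0,0,0,0,0,0,0,0,0,0,0,0,-1,1,0,1,0,1,0,1],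
  [0,0,0,0,0,0,0,0,0,0,0,0,0,0,0,0,0,0,0,0,0,0,0,0,0,0,0,0,0,0,0,0,0,0,0,0,0,0,0,0,0,0,0,0,0,0,0,0,-2,1,1,1,1,1,1,1],
  [0,0,0,0,0,0,0,0,0,0,0,0,0,0,0,0,0,0,0,0,0,0,0,0,0,0,0,0,0,0,0,0,0,0,0,0,0,0,0,0,0,0,0,0,0,0,0,0,0,0,0,1,0,0,0,0],
  [0,0,0,0,0,0,0,0,0,0,0,0,0,0,0,0,0,0,0,0,0,0,0,0,0,0,0,0,0,0,0,0,0,0,0,0,0,0,0,0,0,0,0,0,0,0,0,0,0,0,-1,0,0,0,0,0],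
  [0,0,0,0,0,0,0,0,0,0,0,0,0,0,0,0,0,0,0,0,0,0,0,0,0,0,0,0,0,0,0,0,0,0,0,0,0,0,0,0,0,0,0,0,0,0,0,0,0,0,0,0,0,1,0,0],
  [0,0,0,0,0,0,0,0,0,0,0,0,0,0,0,0,0,0,0,0,0,0,0,0,0,0,0,0,0,0,0,0,0,0,0,0,0,0,0,0,0,0,0,0,0,0,0,0,0,0,0,0,-1,0,0,0],
  [0,0,0,0,0,0,0,0,0,0,0,0,0,0,0,0,0,0,0,0,0,0,0,0,0,0,0,0,0,0,0,0,0,0,0,0,0,0,0,0,0,0,0,0,0,0,0,0,0,0,0,0,0,0,0,1],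
  [0,0,0,0,0,0,0,0,0,0,0,0,0,0,0,0,0,0,0,0,0,0,0,0,0,0,0,0,0,0,0,0,0,0,0,0,0,0,0,0,0,0,0,0,0,0,0,0,0,0,0,0,0,0,-1,0]]
def tblRj : List (List ℤ) := [[0,0,0,1,0,1,0,-1,-1,0,0,0,0,1,-1,0,0,0,0,-1,0,0,0,1,-1,0,0,1,1,1,-1,-1,-1,1,0,1,1,1,-1,-1,-1,0,-1,0,0,-1,1,0,-1,0,0,0,5,1,1,0],
  [0,0,-1,0,0,1,0,0,0,0,0,0,1,0,-1,-1,0,0,0,0,1,1,1,0,-1,1,0,0,1,1,0,0,-2,2,0,-2,1,3,-2,-3,-5,-4,-5,0,-3,2,5,0,-5,2,7,3,7,5,3,3],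
  [0,1,0,0,0,1,0,-1,-1,0,0,0,0,0,-1,0,-1,0,0,0,1,1,1,0,0,0,-1,0,1,0,-1,1,0,1,-1,1,0,3,0,-2,-3,-1,-3,1,0,-1,0,1,-2,0,2,2,5,1,3,0],
  [-1,0,0,0,0,1,0,0,0,0,0,0,1,0,-1,0,-1,0,0,0,1,1,0,0,0,0,-1,0,1,1,-1,1,-1,0,0,0,1,3,0,-2,-2,-1,-3,0,-1,0,1,0,-2,0,3,2,4,3,2,1],
  [0,0,0,0,0,1,-1,0,0,0,0,0,0,1,0,0,-1,0,0,0,0,1,0,-1,0,0,-1,0,1,1,0,0,-2,1,1,-1,3,2,-2,-1,-6,-3,-4,2,-2,1,3,1,-3,1,7,2,5,3,3,3],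
  [0,0,0,0,0,1,0,-1,-1,0,0,0,1,0,-1,0,-1,0,0,0,1,1,1,0,0,0,0,0,1,0,-1,1,-2,2,0,0,2,3,-1,-3,-5,-3,-5,1,-2,1,3,1,-4,1,6,3,7,4,3,2],
  [0,0,0,0,1,1,0,-1,-1,0,0,0,1,0,-1,-1,0,0,0,-1,2,1,1,0,0,-1,0,0,1,1,-2,1,0,1,-2,0,0,3,0,-2,-2,-1,-2,0,0,0,0,1,-1,0,1,3,5,1,2,0],
  [0,0,0,0,0,2,0,-1,0,0,0,-1,0,0,-1,0,0,0,0,-1,2,1,1,0,0,0,-1,0,0,0,-1,2,-3,2,0,0,1,4,1,-3,-4,-3,-4,1,-2,2,4,1,-1,-1,5,2,7,2,3,3],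
  [0,0,0,0,0,0,0,0,-1,0,0,1,0,1,0,0,0,0,0,0,-1,0,-1,0,-1,1,1,1,1,1,0,-3,-1,0,0,0,1,0,-2,0,-3,0,-1,0,-1,0,1,0,-2,2,1,1,3,2,0,1],
  [0,0,0,0,0,0,0,0,-1,0,-1,1,1,0,0,0,0,0,0,0,0,0,0,0,-1,1,1,1,2,1,0,-2,-1,1,0,-1,2,0,-4,-1,-4,-2,-3,-1,-2,0,2,-1,-3,2,3,1,4,3,-2,1],
  [0,0,0,0,0,0,0,0,-1,1,0,0,1,0,-1,0,0,0,0,0,1,1,0,0,-1,0,0,0,1,2,-1,0,-1,1,-1,-1,0,2,-1,-1,-1,-1,-2,-1,-2,0,2,0,-1,1,1,1,3,3,-1,1],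
  [0,0,0,0,0,0,0,0,-2,0,0,1,0,1,0,1,0,0,0,0,-1,0,-2,0,0,0,1,1,1,2,0,-4,-1,0,0,-1,3,-1,-3,1,-3,0,0,0,-1,-1,0,-1,-2,3,1,0,2,2,-1,1],
  [0,0,0,0,0,0,0,0,0,0,0,0,1,0,-1,-1,0,0,0,0,1,1,1,0,-1,0,0,0,1,0,0,1,-2,2,0,-1,2,3,-1,-3,-5,-4,-5,0,-3,2,5,1,-4,1,7,3,7,4,2,2],
  [0,0,0,0,0,0,0,0,0,0,0,0,0,0,0,-1,0,0,0,0,1,2,0,-1,0,0,0,0,0,1,0,0,-1,1,0,-2,2,1,-1,-2,-4,-3,-3,2,-2,1,3,1,-3,2,5,2,4,3,2,2],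
  [0,0,0,0,0,0,0,0,0,0,0,0,2,-1,-1,-1,0,0,0,0,2,3,1,-1,0,-1,0,-1,0,0,-1,3,-1,1,-1,-2,1,2,1,-3,-2,-3,-4,1,-2,2,3,1,-2,1,5,2,5,4,1,1],
  [0,0,0,0,0,0,0,0,0,0,0,0,0,1,0,0,0,0,0,0,0,1,-1,-1,0,0,0,0,0,1,0,-1,-1,0,0,-1,2,0,-1,0,-3,-1,-1,1,-1,1,1,0,-2,2,3,1,3,2,1,2],
  [0,0,0,0,0,0,0,0,0,0,0,0,0,0,0,0,-1,0,0,1,0,1,0,-1,0,0,0,0,0,1,0,0,-3,2,2,-2,3,2,-2,-3,-6,-4,-5,2,-4,3,5,2,-4,2,8,2,6,6,2,3],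
  [0,0,0,0,0,0,0,0,0,0,0,0,0,0,0,0,-1,0,-1,1,0,1,0,0,0,0,0,0,0,0,0,1,0,1,0,0,1,1,-1,-1,-3,-1,-2,1,-1,0,0,1,-3,1,3,2,3,2,2,1],
  [0,0,0,0,0,0,0,0,0,0,0,0,0,0,0,0,-1,1,0,0,0,2,0,-1,0,0,0,0,0,1,0,0,-3,1,1,-1,2,3,0,-3,-5,-3,-5,2,-4,2,5,2,-4,2,8,3,7,5,2,4],
  [0,0,0,0,0,0,0,0,0,0,0,0,0,0,0,0,-2,0,0,1,0,2,0,-1,0,0,0,0,0,0,0,1,-2,1,2,-1,3,2,-1,-3,-6,-3,-5,3,-2,1,3,2,-5,2,8,3,6,6,3,3],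
  [0,0,0,0,0,0,0,0,0,0,0,0,0,0,0,0,0,0,0,0,0,1,-1,0,0,0,0,0,0,0,0,0,-2,1,1,-1,2,1,0,-1,-3,-2,-2,1,-2,1,3,0,-1,1,4,0,3,2,1,2],
  [0,0,0,0,0,0,0,0,0,0,0,0,0,0,0,0,0,0,0,0,0,1,0,-1,0,0,0,0,0,0,0,0,-2,1,1,-1,1,2,0,-2,-3,-2,-3,1,-2,1,3,0,-3,1,5,2,4,3,2,2],
  [0,0,0,0,0,0,0,0,0,0,0,0,0,0,0,0,0,0,0,0,1,1,0,-1,0,0,0,0,0,0,0,0,0,0,0,-1,1,1,-1,-1,-3,-1,-2,1,-1,0,1,1,-2,1,3,2,2,2,1,1],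
  [0,0,0,0,0,0,0,0,0,0,0,0,0,0,0,0,0,0,0,0,0,2,0,-1,0,0,0,0,0,0,0,0,0,0,0,-1,0,0,0,-1,-1,-1,-1,1,-1,0,1,1,-1,1,2,0,1,1,1,1],
  [0,0,0,0,0,0,0,0,0,0,0,0,0,0,0,0,0,0,0,0,0,0,0,0,-1,1,0,1,1,2,0,-2,-2,1,1,-1,1,2,-2,-2,-3,-2,-3,0,-1,0,3,-1,-2,0,2,1,4,2,-1,0],
  [0,0,0,0,0,0,0,0,0,0,0,0,0,0,0,0,0,0,0,0,0,0,0,0,0,0,-1,0,0,1,0,0,0,0,0,0,1,1,-1,0,-2,0,-1,1,0,1,0,0,-2,1,2,2,2,1,1,1],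
  [0,0,0,0,0,0,0,0,0,0,0,0,0,0,0,0,0,0,0,0,0,0,0,0,0,1,0,0,0,1,0,-1,-2,1,1,-1,1,2,-1,-2,-4,-2,-3,1,-2,2,3,0,-2,1,4,2,4,3,1,2],
  [0,0,0,0,0,0,0,0,0,0,0,0,0,0,0,0,0,0,0,0,0,0,0,0,-2,1,1,1,1,2,1,-2,0,0,0,-1,1,1,-3,-1,-2,-2,-2,-1,-2,-1,3,-1,-3,2,2,1,3,2,-1,0],
  [0,0,0,0,0,0,0,0,0,0,0,0,0,0,0,0,0,0,0,0,0,0,0,0,0,0,0,0,0,1,-1,0,0,0,0,0,0,0,0,0,-1,1,0,1,1,1,-1,0,0,0,-1,1,1,1,0,0],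
  [0,0,0,0,0,0,0,0,0,0,0,0,0,0,0,0,0,0,0,0,0,0,0,0,0,0,0,0,0,1,0,-1,-2,1,1,-1,2,1,-1,-1,-2,-2,-2,0,-2,1,3,0,-1,1,3,0,3,2,0,1],
  [0,0,0,0,0,0,0,0,0,0,0,0,0,0,0,0,0,0,0,0,0,0,0,0,0,0,0,0,1,1,0,-1,-2,1,1,-1,2,1,-1,-1,-4,-2,-3,1,-2,2,3,0,-2,1,4,2,4,3,0,1],
  [0,0,0,0,0,0,0,0,0,0,0,0,0,0,0,0,0,0,0,0,0,0,0,0,0,0,0,0,0,2,0,-1,0,0,0,-1,0,0,-1,0,0,0,0,0,0,0,0,0,0,0,-1,0,0,0,-1,0],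
  [0,0,0,0,0,0,0,0,0,0,0,0,0,0,0,0,0,0,0,0,0,0,0,0,0,0,0,0,0,0,0,0,-1,1,0,0,2,1,-1,-1,-2,-2,-2,0,-1,0,2,-1,-2,1,3,1,3,2,0,0],
  [0,0,0,0,0,0,0,0,0,0,0,0,0,0,0,0,0,0,0,0,0,0,0,0,0,0,0,0,0,0,0,0,-2,1,0,0,2,2,0,-1,-4,-2,-3,1,-2,2,3,0,-3,2,5,3,5,3,2,2],
  [0,0,0,0,0,0,0,0,0,0,0,0,0,0,0,0,0,0,0,0,0,0,0,0,0,0,0,0,0,0,0,0,-2,2,1,-1,2,2,-1,-2,-3,-3,-3,0,-3,1,4,0,-3,1,5,1,4,3,1,2],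
  [0,0,0,0,0,0,0,0,0,0,0,0,0,0,0,0,0,0,0,0,0,0,0,0,0,0,0,0,0,0,0,0,-4,2,2,-1,2,2,0,-2,-3,-3,-3,0,-3,2,5,0,-1,0,5,0,4,3,1,2],
  [0,0,0,0,0,0,0,0,0,0,0,0,0,0,0,0,0,0,0,0,0,0,0,0,0,0,0,0,0,0,0,0,0,0,0,0,1,0,-1,0,-2,0,-1,1,0,1,0,0,-2,1,2,2,2,2,1,1],
  [0,0,0,0,0,0,0,0,0,0,0,0,0,0,0,0,0,0,0,0,0,0,0,0,0,0,0,0,0,0,0,0,0,0,0,0,0,1,0,-1,-2,0,-1,1,0,1,0,0,-1,0,1,2,1,1,1,0],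
  [0,0,0,0,0,0,0,0,0,0,0,0,0,0,0,0,0,0,0,0,0,0,0,0,0,0,0,0,0,0,0,0,0,0,0,0,2,0,-1,0,-1,-1,-1,0,-1,0,1,0,-1,1,2,0,1,1,0,0],
  [0,0,0,0,0,0,0,0,0,0,0,0,0,0,0,0,0,0,0,0,0,0,0,0,0,0,0,0,0,0,0,0,0,0,0,0,0,2,0,-1,-1,-1,-1,0,-1,0,1,0,-1,0,2,1,1,0,1,0],
  [0,0,0,0,0,0,0,0,0,0,0,0,0,0,0,0,0,0,0,0,0,0,0,0,0,0,0,0,0,0,0,0,0,0,0,0,0,0,0,0,-1,0,0,1,0,1,0,0,-1,1,1,1,1,1,1,1],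
  [0,0,0,0,0,0,0,0,0,0,0,0,0,0,0,0,0,0,0,0,0,0,0,0,0,0,0,0,0,0,0,0,0,0,0,0,0,0,0,0,-1,0,-1,1,1,0,0,0,0,0,0,1,1,0,0,0],
  [0,0,0,0,0,0,0,0,0,0,0,0,0,0,0,0,0,0,0,0,0,0,0,0,0,0,0,0,0,0,0,0,0,0,0,0,0,0,0,0,-1,1,0,0,1,0,-1,0,-1,0,0,1,0,0,0,0],
  [0,0,0,0,0,0,0,0,0,0,0,0,0,0,0,0,0,0,0,0,0,0,0,0,0,0,0,0,0,0,0,0,0,0,0,0,0,0,0,0,-2,0,0,1,0,1,0,1,0,0,1,1,0,0,1,1],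
  [0,0,0,0,0,0,0,0,0,0,0,0,0,0,0,0,0,0,0,0,0,0,0,0,0,0,0,0,0,0,0,0,0,0,0,0,0,0,0,0,0,0,0,0,1,0,-1,-1,0,0,-1,0,0,0,0,-1],
  [0,0,0,0,0,0,0,0,0,0,0,0,0,0,0,0,0,0,0,0,0,0,0,0,0,0,0,0,0,0,0,0,0,0,0,0,0,0,0,0,0,0,0,0,0,0,0,-1,0,0,0,0,0,0,0,0],
  [0,0,0,0,0,0,0,0,0,0,0,0,0,0,0,0,0,0,0,0,0,0,0,0,0,0,0,0,0,0,0,0,0,0,0,0,0,0,0,0,0,0,0,0,2,-1,-1,-1,0,-1,-1,0,0,-1,0,-1],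
  [0,0,0,0,0,0,0,0,0,0,0,0,0,0,0,0,0,0,0,0,0,0,0,0,0,0,0,0,0,0,0,0,0,0,0,0,0,0,0,0,0,0,0,0,0,1,0,0,0,0,0,0,0,0,0,0],
  [0,0,0,0,0,0,0,0,0,0,0,0,0,0,0,0,0,0,0,0,0,0,0,0,0,0,0,0,0,0,0,0,0,0,0,0,0,0,0,0,0,0,0,0,0,0,0,0,-1,1,0,1,1,1,0,0],
  [0,0,0,0,0,0,0,0,0,0,0,0,0,0,0,0,0,0,0,0,0,0,0,0,0,0,0,0,0,0,0,0,0,0,0,0,0,0,0,0,0,0,0,0,0,0,0,0,0,0,-1,0,0,0,0,0],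
  [0,0,0,0,0,0,0,0,0,0,0,0,0,0,0,0,0,0,0,0,0,0,0,0,0,0,0,0,0,0,0,0,0,0,0,0,0,0,0,0,0,0,0,0,0,0,0,0,0,1,0,0,0,0,0,0],
  [0,0,0,0,0,0,0,0,0,0,0,0,0,0,0,0,0,0,0,0,0,0,0,0,0,0,0,0,0,0,0,0,0,0,0,0,0,0,0,0,0,0,0,0,0,0,0,0,-2,1,1,1,1,1,1,1],
  [0,0,0,0,0,0,0,0,0,0,0,0,0,0,0,0,0,0,0,0,0,0,0,0,0,0,0,0,0,0,0,0,0,0,0,0,0,0,0,0,0,0,0,0,0,0,0,0,0,0,0,0,0,0,-1,0],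
  [0,0,0,0,0,0,0,0,0,0,0,0,0,0,0,0,0,0,0,0,0,0,0,0,0,0,0,0,0,0,0,0,0,0,0,0,0,0,0,0,0,0,0,0,0,0,0,0,0,0,0,0,0,0,0,-1],
  [0,0,0,0,0,0,0,0,0,0,0,0,0,0,0,0,0,0,0,0,0,0,0,0,0,0,0,0,0,0,0,0,0,0,0,0,0,0,0,0,0,0,0,0,0,0,0,0,0,0,0,0,1,0,0,0],
  [0,0,0,0,0,0,0,0,0,0,0,0,0,0,0,0,0,0,0,0,0,0,0,0,0,0,0,0,0,0,0,0,0,0,0,0,0,0,0,0,0,0,0,0,0,0,0,0,0,0,0,0,0,1,0,0]]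
def tblRk : List (List ℤ) := [[0,0,0,-1,0,1,0,0,0,0,0,-1,0,0,0,1,-1,1,0,0,0,0,0,0,0,1,0,0,0,0,0,1,-1,0,-1,1,1,1,1,0,-2,-1,-2,0,-2,1,1,0,-1,1,2,1,3,2,1,4],
  [0,0,0,-1,-1,0,0,1,-1,0,-1,1,0,1,1,2,-1,0,0,1,-2,-2,-2,0,-1,2,1,1,1,1,2,-3,0,-1,0,0,2,-2,-4,4,-2,1,-1,-2,0,-3,-1,-2,-4,3,1,0,0,2,-2,3],
  [0,0,0,-1,0,0,1,0,-1,0,0,0,0,0,0,1,0,0,0,0,0,-1,-1,1,-1,1,1,1,0,1,1,-2,0,0,0,-1,0,0,-2,0,0,0,-1,-1,-1,-1,1,0,-1,1,-1,0,0,1,-1,1],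
  [0,0,0,-1,0,0,0,1,0,0,-1,0,0,0,1,1,0,1,0,0,-1,-1,-1,0,0,1,0,-1,0,0,1,0,-1,0,-1,0,1,-1,0,3,-2,0,0,-1,-1,1,0,-1,-1,2,2,0,0,1,0,5],
  [0,1,0,-1,0,0,0,0,-1,0,0,0,0,0,0,1,0,0,-1,0,0,-1,0,1,0,0,0,-1,0,0,0,1,0,1,-2,1,1,0,0,3,0,1,0,-2,-1,-1,-1,0,0,1,0,0,0,0,0,1],
  [-1,0,0,-1,0,0,0,1,0,0,-1,1,0,0,1,2,-1,0,0,1,-1,-1,-2,-1,0,1,0,1,1,0,1,-2,0,-1,0,0,1,-1,-2,3,-1,1,-1,-2,0,-2,-1,-1,-2,1,1,1,-1,1,-1,2],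
  [0,0,-1,-1,0,0,0,1,-1,0,-1,1,0,1,1,2,-1,0,-1,2,-2,-2,-2,0,0,2,1,0,1,1,1,-3,0,0,0,-1,2,-2,-5,4,-3,1,-1,-2,-2,-2,-1,-1,-4,4,2,1,0,3,0,4],
  [0,0,0,-2,0,0,0,1,0,0,0,0,0,0,1,1,-1,1,-1,1,-1,-1,-1,0,0,1,1,0,0,0,1,0,-1,0,0,0,2,0,-1,2,-3,-1,-2,-1,-3,1,1,0,-2,3,4,2,1,3,0,4],
  [0,0,0,0,0,0,0,0,-1,0,0,0,0,1,0,1,0,0,0,-1,-1,-1,-1,1,-1,1,1,1,1,1,1,-3,0,0,0,0,0,-1,-2,1,0,1,1,-2,0,-2,0,-1,-2,1,-2,0,0,0,-1,1],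
  [0,0,0,0,0,0,0,0,-1,0,-1,1,-1,1,1,2,0,0,0,0,-2,-2,-2,0,0,1,0,1,1,1,1,-4,-1,0,0,1,2,-2,-3,4,-2,2,1,-2,0,-2,-1,-1,0,1,-2,-1,-1,-1,-2,1],
  [0,0,0,0,0,0,0,0,0,0,-1,0,0,0,1,1,-1,1,-1,0,-1,0,0,0,0,1,0,-1,0,0,0,1,0,0,0,1,1,-1,-1,2,-1,1,0,-1,-1,-1,-1,0,-2,2,1,0,1,2,0,3],
  [0,0,0,0,0,0,0,0,0,0,0,0,0,0,0,1,-1,1,-1,-1,-1,0,0,1,0,0,0,-1,0,0,0,1,-1,0,-1,3,1,0,2,2,-1,1,0,0,0,0,0,1,0,1,0,1,2,1,1,3],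
  [0,0,0,0,0,0,0,0,-1,1,-1,0,0,0,0,1,0,0,0,0,0,0,0,0,-1,1,0,1,1,1,0,-1,0,1,-2,0,0,-1,-2,2,0,0,-1,-2,-1,-2,1,0,-1,2,-2,0,1,2,-2,2],
  [0,0,0,0,0,0,0,0,-2,0,0,1,0,1,0,1,-1,1,-1,-1,-2,-1,-1,2,0,0,1,0,1,1,0,-2,-1,0,-1,3,2,-1,0,3,-2,2,0,0,0,-1,-1,1,-1,2,0,2,2,2,0,3],
  [0,0,0,0,0,0,0,0,0,0,-2,1,0,0,1,1,-1,1,-1,-1,-1,0,0,0,0,1,0,0,1,0,0,0,-1,0,-1,3,2,-1,-1,3,-3,1,-1,-1,-1,-1,0,1,-2,2,1,2,3,3,-1,4],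
  [0,0,0,0,0,0,0,0,0,0,0,-1,0,0,0,0,-1,1,-1,-1,0,1,1,1,0,0,0,-1,0,0,0,2,-1,1,-1,2,1,1,2,0,-3,-1,-2,1,-2,1,2,3,-2,2,4,3,4,3,3,5],
  [0,0,0,0,0,0,0,0,0,0,0,0,0,0,0,0,-1,0,0,0,0,1,0,0,0,0,0,-1,0,0,0,1,-1,1,0,0,1,1,1,0,-2,-1,-2,0,-2,0,2,2,-3,3,4,1,3,3,2,4],
  [0,0,0,0,0,0,0,0,0,0,0,0,0,0,0,0,0,1,0,-1,-1,0,0,1,0,0,0,0,0,0,0,0,-1,0,0,1,0,0,2,0,0,1,-1,0,0,1,1,1,0,0,0,1,1,1,0,2],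
  [0,0,0,0,0,0,0,0,0,0,0,0,0,0,0,0,0,0,-1,-1,0,0,1,1,0,0,0,-1,0,0,0,1,0,1,0,0,0,0,0,1,0,0,0,-1,-1,0,1,1,-1,1,0,1,1,1,1,2],
  [0,0,0,0,0,0,0,0,0,0,0,0,0,0,0,0,0,0,0,-1,0,0,0,1,0,0,0,0,0,0,0,0,0,0,-1,1,0,0,1,1,0,1,-1,0,0,0,1,2,0,1,0,1,1,1,0,2],
  [0,0,0,0,0,0,0,0,0,0,0,0,0,0,0,0,0,2,0,-2,-1,0,0,1,0,0,0,0,0,0,0,0,0,-1,-2,3,0,-1,3,2,0,2,1,1,1,1,-1,1,2,0,-2,1,0,-1,-1,2],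
  [0,0,0,0,0,0,0,0,0,0,0,0,0,0,0,0,-2,0,0,0,0,1,0,0,0,0,0,0,0,0,0,1,0,0,1,0,1,1,0,-1,-3,0,-2,2,-1,0,1,3,-2,1,3,2,2,3,2,3],
  [0,0,0,0,0,0,0,0,0,0,0,0,0,0,0,0,0,0,-2,0,0,0,1,1,0,0,0,0,0,0,0,1,0,1,-1,1,1,0,-1,1,-1,0,-1,-1,-2,0,1,2,-1,1,1,1,1,2,1,1],
  [0,0,0,0,0,0,0,0,0,0,0,0,0,0,0,0,0,0,0,-2,0,0,0,1,0,0,0,0,0,0,0,0,0,0,0,1,0,0,1,0,1,1,1,0,1,-1,0,0,1,-1,-2,0,0,-1,-1,0],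
  [0,0,0,0,0,0,0,0,0,0,0,0,0,0,0,0,0,0,0,0,0,0,0,0,-1,1,0,-1,0,1,1,0,0,0,0,-1,0,0,-1,1,-1,0,-2,0,-1,0,2,1,-2,2,2,1,1,2,1,2],
  [0,0,0,0,0,0,0,0,0,0,0,0,0,0,0,0,0,0,0,0,0,0,0,0,0,0,0,-1,-1,0,0,1,0,0,-1,0,0,0,1,1,-1,1,0,0,0,1,0,2,0,1,0,1,0,1,2,3],
  [0,0,0,0,0,0,0,0,0,0,0,0,0,0,0,0,0,0,0,0,0,0,0,0,0,0,0,-1,0,0,1,0,0,0,0,-1,0,0,0,1,-2,0,-1,0,-1,1,1,2,-1,1,2,1,0,1,2,2],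
  [0,0,0,0,0,0,0,0,0,0,0,0,0,0,0,0,0,0,0,0,0,0,0,0,0,0,0,-1,0,0,0,1,0,0,-1,0,0,0,1,1,0,0,0,0,0,0,0,0,0,1,0,0,0,0,1,1],
  [0,0,0,0,0,0,0,0,0,0,0,0,0,0,0,0,0,0,0,0,0,0,0,0,0,1,0,-1,0,0,0,0,0,0,0,0,0,0,0,0,-2,0,-1,0,-1,1,1,2,-2,2,2,1,1,2,2,3],
  [0,0,0,0,0,0,0,0,0,0,0,0,0,0,0,0,0,0,0,0,0,0,0,0,-2,1,1,0,1,1,1,-1,0,0,-1,0,0,0,-1,1,-1,-1,-1,-1,-1,-1,2,-1,-2,2,1,1,2,1,0,1],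
  [0,0,0,0,0,0,0,0,0,0,0,0,0,0,0,0,0,0,0,0,0,0,0,0,0,0,-1,-1,0,0,0,1,0,0,-1,1,0,0,1,2,-1,1,0,0,0,1,0,2,-1,2,1,1,0,1,2,3],
  [0,0,0,0,0,0,0,0,0,0,0,0,0,0,0,0,0,0,0,0,0,0,0,0,0,0,0,-2,0,0,0,1,0,0,0,0,0,0,1,1,0,0,0,0,0,0,0,0,0,1,1,0,0,0,1,1],
  [0,0,0,0,0,0,0,0,0,0,0,0,0,0,0,0,0,0,0,0,0,0,0,0,0,0,0,0,0,0,0,0,-1,1,-1,0,0,1,1,0,-2,-1,-2,1,-1,1,2,1,-2,2,3,2,3,2,2,3],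
  [0,0,0,0,0,0,0,0,0,0,0,0,0,0,0,0,0,0,0,0,0,0,0,0,0,0,0,0,0,0,0,0,0,0,-1,0,-1,0,1,1,-1,1,0,0,0,1,0,2,-1,1,0,2,0,1,2,3],
  [0,0,0,0,0,0,0,0,0,0,0,0,0,0,0,0,0,0,0,0,0,0,0,0,0,0,0,0,0,0,0,0,0,0,-1,0,0,0,1,1,0,0,0,0,0,0,0,0,0,1,0,0,0,0,0,1],
  [0,0,0,0,0,0,0,0,0,0,0,0,0,0,0,0,0,0,0,0,0,0,0,0,0,0,0,0,0,0,0,0,0,0,0,0,0,0,0,1,0,0,0,0,0,0,0,0,0,0,0,0,0,0,0,0],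
  [0,0,0,0,0,0,0,0,0,0,0,0,0,0,0,0,0,0,0,0,0,0,0,0,0,0,0,0,0,0,0,0,0,1,-1,0,0,0,0,0,-2,0,-1,0,-1,1,1,2,-1,1,1,1,1,1,1,3],
  [0,0,0,0,0,0,0,0,0,0,0,0,0,0,0,0,0,0,0,0,0,0,0,0,0,0,0,0,0,0,0,0,-2,1,1,-1,1,1,0,-1,-3,-1,-2,0,-2,2,3,2,-2,1,4,1,2,3,2,3],
  [0,0,0,0,0,0,0,0,0,0,0,0,0,0,0,0,0,0,0,0,0,0,0,0,0,0,0,0,0,0,0,0,0,0,-2,1,0,0,1,1,0,0,0,0,0,0,0,0,0,1,0,1,1,0,0,1],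
  [0,0,0,0,0,0,0,0,0,0,0,0,0,0,0,0,0,0,0,0,0,0,0,0,0,0,0,0,0,0,0,0,0,0,0,-1,0,0,0,0,0,0,0,0,0,0,0,0,0,0,0,0,0,0,0,0],
  [0,0,0,0,0,0,0,0,0,0,0,0,0,0,0,0,0,0,0,0,0,0,0,0,0,0,0,0,0,0,0,0,0,0,0,0,0,0,0,0,-1,0,0,0,0,1,0,1,0,0,0,0,0,0,1,1],
  [0,0,0,0,0,0,0,0,0,0,0,0,0,0,0,0,0,0,0,0,0,0,0,0,0,0,0,0,0,0,0,0,0,0,0,0,0,0,0,0,-1,0,-1,1,-1,1,1,2,0,1,1,1,0,1,1,1],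
  [0,0,0,0,0,0,0,0,0,0,0,0,0,0,0,0,0,0,0,0,0,0,0,0,0,0,0,0,0,0,0,0,0,0,0,0,0,0,0,0,0,0,-1,0,0,0,1,1,-1,1,1,1,1,1,1,1],
  [0,0,0,0,0,0,0,0,0,0,0,0,0,0,0,0,0,0,0,0,0,0,0,0,0,0,0,0,0,0,0,0,0,0,0,0,0,0,0,0,0,0,0,0,0,0,0,1,0,0,0,0,0,0,0,0],
  [0,0,0,0,0,0,0,0,0,0,0,0,0,0,0,0,0,0,0,0,0,0,0,0,0,0,0,0,0,0,0,0,0,0,0,0,0,0,0,0,-1,1,-1,0,0,0,0,1,-1,0,1,1,0,1,1,1],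
  [0,0,0,0,0,0,0,0,0,0,0,0,0,0,0,0,0,0,0,0,0,0,0,0,0,0,0,0,0,0,0,0,0,0,0,0,0,0,0,0,-2,0,0,1,0,1,0,1,0,0,1,1,0,0,1,1],
  [0,0,0,0,0,0,0,0,0,0,0,0,0,0,0,0,0,0,0,0,0,0,0,0,0,0,0,0,0,0,0,0,0,0,0,0,0,0,0,0,0,0,-2,1,0,0,1,1,0,0,1,1,1,1,0,0],
  [0,0,0,0,0,0,0,0,0,0,0,0,0,0,0,0,0,0,0,0,0,0,0,0,0,0,0,0,0,0,0,0,0,0,0,0,0,0,0,0,0,0,0,-1,0,0,0,0,0,0,0,0,0,0,0,0],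
  [0,0,0,0,0,0,0,0,0,0,0,0,0,0,0,0,0,0,0,0,0,0,0,0,0,0,0,0,0,0,0,0,0,0,0,0,0,0,0,0,0,0,0,0,0,0,0,0,-1,1,0,0,0,1,1,1],
  [0,0,0,0,0,0,0,0,0,0,0,0,0,0,0,0,0,0,0,0,0,0,0,0,0,0,0,0,0,0,0,0,0,0,0,0,0,0,0,0,0,0,0,0,0,0,0,0,0,0,0,0,-1,0,0,0],
  [0,0,0,0,0,0,0,0,0,0,0,0,0,0,0,0,0,0,0,0,0,0,0,0,0,0,0,0,0,0,0,0,0,0,0,0,0,0,0,0,0,0,0,0,0,0,0,0,0,0,0,0,0,0,1,0],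
  [0,0,0,0,0,0,0,0,0,0,0,0,0,0,0,0,0,0,0,0,0,0,0,0,0,0,0,0,0,0,0,0,0,0,0,0,0,0,0,0,0,0,0,0,0,0,0,0,0,0,0,0,0,0,0,1],
  [0,0,0,0,0,0,0,0,0,0,0,0,0,0,0,0,0,0,0,0,0,0,0,0,0,0,0,0,0,0,0,0,0,0,0,0,0,0,0,0,0,0,0,0,0,0,0,0,0,1,0,0,0,0,0,0],
  [0,0,0,0,0,0,0,0,0,0,0,0,0,0,0,0,0,0,0,0,0,0,0,0,0,0,0,0,0,0,0,0,0,0,0,0,0,0,0,0,0,0,0,0,0,0,0,0,-2,1,1,1,1,1,1,1],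
  [0,0,0,0,0,0,0,0,0,0,0,0,0,0,0,0,0,0,0,0,0,0,0,0,0,0,0,0,0,0,0,0,0,0,0,0,0,0,0,0,0,0,0,0,0,0,0,0,0,0,-1,0,0,0,0,0],
  [0,0,0,0,0,0,0,0,0,0,0,0,0,0,0,0,0,0,0,0,0,0,0,0,0,0,0,0,0,0,0,0,0,0,0,0,0,0,0,0,0,0,0,0,0,0,0,0,0,0,0,-1,0,0,0,0]]
def tblSg : List (List ℤ) := [[-1,0,0,0,0,0,0,0,0,0,0,1,0,0,0,1,0,0,0,0,0,0,-1,-1,0,0,0,0,0,0,0,-1,0,-1,1,0,0,0,0,1,0,1,1,-1,1,-1,-1,-1,0,-1,-1,-1,-2,-1,0,-1],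
  [0,-1,0,0,0,0,0,0,0,0,0,0,0,1,1,0,0,0,0,0,-1,0,-1,0,0,0,0,0,0,0,0,-1,0,-1,1,1,1,-1,0,2,0,1,1,0,1,-1,-2,-1,0,0,0,-1,-1,-1,0,0],
  [0,0,-1,0,0,0,0,0,0,0,0,1,0,1,0,0,0,0,0,1,-1,-1,-1,0,0,0,0,0,0,0,0,-1,0,0,0,0,0,-1,-1,3,0,1,1,-1,1,0,-2,-1,0,0,-1,-1,-1,-1,0,0],
  [0,0,0,-1,0,0,0,0,0,0,0,0,0,0,1,1,0,0,0,1,0,-1,-1,-1,0,0,0,0,0,0,0,-1,0,0,0,0,1,0,-1,2,-1,0,0,-1,0,-1,-1,-2,-1,0,1,0,-1,-1,0,0],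
  [0,0,0,0,-1,0,0,0,0,0,0,0,0,1,0,1,0,0,0,1,-1,-1,0,0,0,0,0,0,0,0,0,-1,0,-1,1,1,0,-1,0,2,0,1,1,-1,1,0,-2,-1,0,-1,-1,-1,-2,-1,0,-1],
  [0,0,0,0,0,-1,0,0,0,0,0,1,0,0,1,0,0,0,0,1,-1,0,-1,-1,0,0,0,0,0,0,0,-1,0,0,1,0,1,-1,-1,1,-1,0,0,0,0,0,-1,-1,-1,1,1,-1,-1,0,0,0],
  [0,0,0,0,0,0,-1,0,0,0,0,1,0,1,1,1,0,0,0,0,-2,-1,-1,-1,0,0,0,0,0,0,0,-2,0,-1,0,1,1,-2,-1,4,0,2,2,-1,2,-1,-3,-2,0,0,-2,-1,-2,-2,-1,0],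
  [0,0,0,0,0,0,0,-1,0,0,0,0,0,0,0,0,0,0,0,0,1,1,1,-1,0,0,0,0,0,0,0,0,0,1,0,0,0,1,-1,-1,-2,-2,-2,0,-2,0,2,1,-2,0,3,1,1,1,1,1],
  [0,0,0,0,0,0,0,0,1,0,0,0,0,0,0,0,0,0,0,0,0,0,0,0,0,0,-1,-1,-1,-1,0,2,0,0,0,1,0,0,1,1,0,0,0,0,1,1,0,0,0,-1,1,0,0,-1,1,1],
  [0,0,0,0,0,0,0,0,0,1,0,0,0,0,0,0,0,0,0,0,0,0,0,0,0,0,-1,-1,0,0,-1,1,0,0,0,1,0,0,1,1,1,0,1,-1,0,0,-1,-1,1,1,-1,-1,-1,0,0,1],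
  [0,0,0,0,0,0,0,0,0,0,1,0,0,0,0,0,0,0,0,0,0,0,0,0,0,-1,0,-1,-1,0,0,0,0,0,0,0,0,0,1,1,0,0,0,1,1,1,0,0,0,0,1,1,-1,-1,2,0],
  [0,0,0,0,0,0,0,0,0,0,0,1,0,0,0,0,0,0,0,0,0,0,0,0,0,0,0,0,0,0,0,-1,0,0,0,0,0,0,0,0,-1,0,0,-1,0,0,0,0,-1,0,0,0,-1,0,0,0],
  [0,0,0,0,0,0,0,0,0,0,0,0,1,0,0,0,0,0,0,0,0,0,0,0,0,-1,0,-1,0,-1,-1,2,0,0,0,1,0,0,2,1,1,1,0,-1,1,0,-2,-1,0,-1,0,0,0,0,0,0],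
  [0,0,0,0,0,0,0,0,0,0,0,0,0,1,0,0,0,0,0,0,0,0,0,0,0,0,0,0,0,0,0,-1,0,0,0,0,0,0,0,0,-1,0,0,-1,0,-1,-1,0,-1,-1,1,0,0,-1,1,1],
  [0,0,0,0,0,0,0,0,0,0,0,0,0,0,1,0,0,0,0,0,0,0,0,0,0,0,0,0,0,0,0,-1,0,0,0,0,0,0,0,0,-1,0,0,0,0,-1,-1,-1,-1,0,1,1,-1,-1,0,1],
  [0,0,0,0,0,0,0,0,0,0,0,0,0,0,0,1,0,0,0,0,0,0,0,0,0,0,0,0,0,0,0,-1,0,0,0,0,0,0,0,0,-1,0,0,-1,0,-1,0,-1,-1,-1,0,0,-1,-1,0,0],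
  [0,0,0,0,0,0,0,0,0,0,0,0,0,0,0,0,1,0,0,0,0,0,0,0,0,0,0,0,0,0,0,-1,0,0,0,0,0,0,0,0,0,-1,0,-1,-1,1,1,-1,0,0,1,-1,-1,-1,0,-1],
  [0,0,0,0,0,0,0,0,0,0,0,0,0,0,0,0,0,1,0,0,0,0,0,0,0,0,0,0,0,0,0,0,0,0,0,0,0,0,0,0,-1,0,-1,0,-1,1,0,0,0,-1,1,0,0,0,0,1],
  [0,0,0,0,0,0,0,0,0,0,0,0,0,0,0,0,0,0,1,0,0,0,0,0,0,0,0,0,0,0,0,-1,0,0,0,0,0,0,0,0,-1,-1,-1,1,0,1,1,0,-1,1,1,0,0,0,0,1],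
  [0,0,0,0,0,0,0,0,0,0,0,0,0,0,0,0,0,0,0,1,0,0,0,0,0,0,0,0,0,0,0,0,0,0,0,0,0,0,0,0,-1,-1,-1,0,-1,1,0,0,-1,1,2,0,0,1,1,0],
  [0,0,0,0,0,0,0,0,0,0,0,0,0,0,0,0,0,0,0,0,1,0,0,0,0,0,0,0,0,0,0,0,0,0,0,0,0,0,0,0,0,0,0,-1,0,-1,0,0,0,-1,0,0,-1,0,0,0],
  [0,0,0,0,0,0,0,0,0,0,0,0,0,0,0,0,0,0,0,0,0,1,0,0,0,0,0,0,0,0,0,0,0,0,0,0,0,0,0,0,-1,-1,-1,1,-1,0,1,1,-1,1,2,0,1,1,1,1],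
  [0,0,0,0,0,0,0,0,0,0,0,0,0,0,0,0,0,0,0,0,0,0,1,0,0,0,0,0,0,0,0,0,0,0,0,0,0,0,0,0,-1,-1,-1,0,-1,1,1,1,-1,0,1,1,0,1,0,0],
  [0,0,0,0,0,0,0,0,0,0,0,0,0,0,0,0,0,0,0,0,0,0,0,1,0,0,0,0,0,0,0,0,0,0,0,0,0,0,0,0,0,0,0,0,0,0,0,0,0,0,0,0,0,0,0,0],
  [0,0,0,0,0,0,0,0,0,0,0,0,0,0,0,0,0,0,0,0,0,0,0,0,-1,0,0,0,0,0,0,0,0,0,0,1,0,0,0,1,0,0,0,0,0,0,0,0,0,0,0,0,0,0,0,0],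
  [0,0,0,0,0,0,0,0,0,0,0,0,0,0,0,0,0,0,0,0,0,0,0,0,0,-1,0,0,0,0,0,0,0,0,0,0,0,0,1,1,0,0,0,0,0,0,0,0,0,0,0,0,0,0,0,0],
  [0,0,0,0,0,0,0,0,0,0,0,0,0,0,0,0,0,0,0,0,0,0,0,0,0,0,-1,0,0,0,0,0,0,0,0,1,0,0,0,1,0,0,0,0,0,0,0,0,0,0,0,0,0,0,0,0],
  [0,0,0,0,0,0,0,0,0,0,0,0,0,0,0,0,0,0,0,0,0,0,0,0,0,0,0,-1,0,0,0,0,0,0,0,0,0,0,1,1,0,0,0,0,0,0,0,0,0,0,0,0,0,0,0,0],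
  [0,0,0,0,0,0,0,0,0,0,0,0,0,0,0,0,0,0,0,0,0,0,0,0,0,0,0,0,-1,0,0,0,0,0,0,0,0,0,0,0,0,0,0,0,0,0,0,0,0,0,0,0,0,0,0,0],
  [0,0,0,0,0,0,0,0,0,0,0,0,0,0,0,0,0,0,0,0,0,0,0,0,0,0,0,0,0,-1,0,0,0,0,0,1,0,0,1,0,0,0,0,0,0,0,0,0,0,0,0,0,0,0,0,0],
  [0,0,0,0,0,0,0,0,0,0,0,0,0,0,0,0,0,0,0,0,0,0,0,0,0,0,0,0,0,0,-1,0,0,0,0,1,0,0,1,0,0,0,0,0,0,0,0,0,0,0,0,0,0,0,0,0],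
  [0,0,0,0,0,0,0,0,0,0,0,0,0,0,0,0,0,0,0,0,0,0,0,0,0,0,0,0,0,0,0,-1,0,0,0,0,0,0,0,0,0,0,0,0,0,0,0,0,0,0,0,0,0,0,0,0],
  [0,0,0,0,0,0,0,0,0,0,0,0,0,0,0,0,0,0,0,0,0,0,0,0,0,0,0,0,0,0,0,0,1,0,0,0,0,0,0,0,0,0,0,0,0,-1,-1,0,-1,0,0,0,-1,-1,0,-1],
  [0,0,0,0,0,0,0,0,0,0,0,0,0,0,0,0,0,0,0,0,0,0,0,0,0,0,0,0,0,0,0,0,0,1,0,0,0,0,0,0,-1,-1,-1,0,-1,0,1,0,-1,0,1,0,1,0,0,1],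
  [0,0,0,0,0,0,0,0,0,0,0,0,0,0,0,0,0,0,0,0,0,0,0,0,0,0,0,0,0,0,0,0,0,0,1,0,0,0,0,0,0,0,0,0,0,0,0,0,0,-1,0,-1,-1,0,0,-1],
  [0,0,0,0,0,0,0,0,0,0,0,0,0,0,0,0,0,0,0,0,0,0,0,0,0,0,0,0,0,0,0,0,0,0,0,1,0,0,0,0,0,0,0,0,0,0,0,0,0,0,0,0,0,0,0,0],
  [0,0,0,0,0,0,0,0,0,0,0,0,0,0,0,0,0,0,0,0,0,0,0,0,0,0,0,0,0,0,0,0,0,0,0,0,1,0,0,0,-1,-1,-1,0,-1,0,1,0,-1,1,2,0,1,1,0,0],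
  [0,0,0,0,0,0,0,0,0,0,0,0,0,0,0,0,0,0,0,0,0,0,0,0,0,0,0,0,0,0,0,0,0,0,0,0,0,1,0,0,-1,-1,-1,0,-1,0,1,0,-1,0,2,1,1,0,1,0],
  [0,0,0,0,0,0,0,0,0,0,0,0,0,0,0,0,0,0,0,0,0,0,0,0,0,0,0,0,0,0,0,0,0,0,0,0,0,0,1,0,0,0,0,0,0,0,0,0,0,0,0,0,0,0,0,0],
  [0,0,0,0,0,0,0,0,0,0,0,0,0,0,0,0,0,0,0,0,0,0,0,0,0,0,0,0,0,0,0,0,0,0,0,0,0,0,0,1,0,0,0,0,0,0,0,0,0,0,0,0,0,0,0,0],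
  [0,0,0,0,0,0,0,0,0,0,0,0,0,0,0,0,0,0,0,0,0,0,0,0,0,0,0,0,0,0,0,0,0,0,0,0,0,0,0,0,-1,0,0,0,0,0,0,0,0,0,0,0,0,0,0,0],
  [0,0,0,0,0,0,0,0,0,0,0,0,0,0,0,0,0,0,0,0,0,0,0,0,0,0,0,0,0,0,0,0,0,0,0,0,0,0,0,0,0,-1,0,0,0,0,0,0,0,0,0,0,0,0,0,0],
  [0,0,0,0,0,0,0,0,0,0,0,0,0,0,0,0,0,0,0,0,0,0,0,0,0,0,0,0,0,0,0,0,0,0,0,0,0,0,0,0,0,0,-1,0,0,0,0,0,0,0,0,0,0,0,0,0],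
  [0,0,0,0,0,0,0,0,0,0,0,0,0,0,0,0,0,0,0,0,0,0,0,0,0,0,0,0,0,0,0,0,0,0,0,0,0,0,0,0,0,0,0,-1,0,0,0,0,0,0,0,0,0,0,0,0],
  [0,0,0,0,0,0,0,0,0,0,0,0,0,0,0,0,0,0,0,0,0,0,0,0,0,0,0,0,0,0,0,0,0,0,0,0,0,0,0,0,0,0,0,0,-1,0,0,0,0,0,0,0,0,0,0,0],
  [0,0,0,0,0,0,0,0,0,0,0,0,0,0,0,0,0,0,0,0,0,0,0,0,0,0,0,0,0,0,0,0,0,0,0,0,0,0,0,0,0,0,0,0,0,-1,0,0,0,0,0,0,0,0,0,0],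
  [0,0,0,0,0,0,0,0,0,0,0,0,0,0,0,0,0,0,0,0,0,0,0,0,0,0,0,0,0,0,0,0,0,0,0,0,0,0,0,0,0,0,0,0,0,0,-1,0,0,0,0,0,0,0,0,0],
  [0,0,0,0,0,0,0,0,0,0,0,0,0,0,0,0,0,0,0,0,0,0,0,0,0,0,0,0,0,0,0,0,0,0,0,0,0,0,0,0,0,0,0,0,0,0,0,-1,0,0,0,0,0,0,0,0],
  [0,0,0,0,0,0,0,0,0,0,0,0,0,0,0,0,0,0,0,0,0,0,0,0,0,0,0,0,0,0,0,0,0,0,0,0,0,0,0,0,0,0,0,0,0,0,0,0,-1,0,0,0,0,0,0,0],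
  [0,0,0,0,0,0,0,0,0,0,0,0,0,0,0,0,0,0,0,0,0,0,0,0,0,0,0,0,0,0,0,0,0,0,0,0,0,0,0,0,0,0,0,0,0,0,0,0,0,-1,0,0,0,0,0,0],
  [0,0,0,0,0,0,0,0,0,0,0,0,0,0,0,0,0,0,0,0,0,0,0,0,0,0,0,0,0,0,0,0,0,0,0,0,0,0,0,0,0,0,0,0,0,0,0,0,0,0,-1,0,0,0,0,0],
  [0,0,0,0,0,0,0,0,0,0,0,0,0,0,0,0,0,0,0,0,0,0,0,0,0,0,0,0,0,0,0,0,0,0,0,0,0,0,0,0,0,0,0,0,0,0,0,0,0,0,0,-1,0,0,0,0],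
  [0,0,0,0,0,0,0,0,0,0,0,0,0,0,0,0,0,0,0,0,0,0,0,0,0,0,0,0,0,0,0,0,0,0,0,0,0,0,0,0,0,0,0,0,0,0,0,0,0,0,0,0,-1,0,0,0],
  [0,0,0,0,0,0,0,0,0,0,0,0,0,0,0,0,0,0,0,0,0,0,0,0,0,0,0,0,0,0,0,0,0,0,0,0,0,0,0,0,0,0,0,0,0,0,0,0,0,0,0,0,0,-1,0,0],
  [0,0,0,0,0,0,0,0,0,0,0,0,0,0,0,0,0,0,0,0,0,0,0,0,0,0,0,0,0,0,0,0,0,0,0,0,0,0,0,0,0,0,0,0,0,0,0,0,0,0,0,0,0,0,-1,0],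
  [0,0,0,0,0,0,0,0,0,0,0,0,0,0,0,0,0,0,0,0,0,0,0,0,0,0,0,0,0,0,0,0,0,0,0,0,0,0,0,0,0,0,0,0,0,0,0,0,0,0,0,0,0,0,0,-1]]
def tblSh : List (List ℤ) := [[0,0,0,1,0,0,0,0,0,0,0,0,1,0,-1,-1,0,0,0,0,1,1,1,0,0,-1,0,0,0,0,0,1,1,0,-1,-1,-1,0,0,-1,1,0,0,0,0,0,0,1,0,-1,-1,0,0,0,0,-1],
  [0,0,0,0,0,1,1,-1,0,0,0,-1,0,0,-1,0,0,1,1,-1,1,1,1,0,0,0,0,1,0,0,0,0,1,-1,-1,1,-2,1,2,-2,0,0,0,1,0,1,-1,2,1,-2,-2,0,0,-2,0,0],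
  [0,0,0,1,0,1,0,-1,0,0,0,0,0,0,-1,0,0,1,1,-2,0,1,1,0,0,0,-1,0,0,0,-1,1,1,-1,-1,2,-2,0,3,-1,1,3,2,1,3,0,-2,1,2,-3,-5,-1,-1,-3,0,0],
  [0,0,0,0,0,0,1,0,0,0,0,0,1,-1,-1,-1,0,1,1,-1,1,1,1,1,0,0,0,0,0,0,0,1,1,-1,-1,0,-2,2,2,-3,1,0,-1,0,-1,1,0,2,0,-1,-1,1,0,0,-1,0],
  [0,0,0,0,0,1,0,0,0,0,0,0,0,0,0,1,0,1,0,-1,-1,-1,0,1,0,0,0,1,0,0,1,-1,0,-1,-1,2,0,-1,0,1,0,2,1,-1,1,0,-2,-1,1,-2,-3,0,-1,-2,-2,0],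
  [0,0,0,1,0,0,1,-1,0,0,0,0,0,0,-1,-1,0,0,1,-1,1,1,1,0,0,0,0,1,0,0,0,-1,1,0,0,0,-2,1,1,-3,0,0,0,1,0,0,0,2,0,-2,-2,0,0,-1,0,-1],
  [0,0,0,1,0,1,1,-1,0,0,0,-1,0,0,-1,-1,0,0,0,-1,2,1,2,1,0,0,-1,0,0,0,-1,2,0,1,0,1,-1,3,1,-4,-1,-1,-1,0,-1,0,1,2,0,-3,0,0,2,-1,2,0],
  [0,0,0,0,0,0,0,0,0,0,0,0,1,0,0,0,0,0,0,0,0,0,0,0,0,0,0,1,0,0,0,0,0,0,0,0,0,1,-1,-1,0,0,0,-1,1,-1,-1,-2,-1,-2,-1,0,0,-1,-1,-1],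
  [1,0,0,1,0,1,0,-1,0,0,0,-1,0,0,-1,0,0,0,1,-1,1,1,1,0,0,0,-1,0,0,0,-1,1,1,0,-1,1,-2,0,1,-1,1,2,1,1,2,0,-1,1,1,-2,-4,-1,0,-2,0,0],
  [0,1,0,1,0,1,1,-2,0,0,0,-1,0,-1,-2,-1,0,0,1,-1,3,2,3,0,0,-1,-1,0,0,0,-1,2,0,2,-1,0,-2,4,2,-5,-2,-3,-3,1,-1,1,3,3,0,-3,1,1,4,-1,3,-1],
  [0,0,1,1,0,0,1,-1,0,0,0,-1,1,-1,-1,-1,0,1,0,-1,2,2,2,1,0,-1,-1,0,0,-1,-2,4,1,0,-1,2,-2,1,3,-3,2,1,-1,1,2,0,-2,3,2,-4,-3,0,1,-1,0,-2],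
  [0,0,0,2,0,0,0,-1,0,0,0,0,1,0,-1,0,0,0,0,-1,0,1,1,1,0,-1,-1,0,0,0,0,0,1,-1,-1,2,-2,0,1,0,2,3,2,0,4,-2,-3,0,1,-4,-5,0,-1,-3,0,-3],
  [0,0,0,0,1,1,1,-1,0,0,0,-1,0,-1,-1,-1,0,1,0,-1,2,2,2,0,0,0,0,1,0,0,0,1,0,1,-1,0,-1,2,1,-4,-1,-2,-3,0,-3,1,3,3,0,-2,1,1,3,1,0,0],
  [0,0,0,0,0,2,0,-1,0,0,0,-1,1,0,-1,1,0,0,0,-1,1,0,1,1,0,0,-1,0,0,0,0,1,1,-1,-2,2,-2,2,1,0,1,2,0,-1,2,-1,-3,-1,1,-4,-3,1,0,-3,0,-1],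
  [0,0,0,0,0,0,2,-1,0,0,0,-1,1,-1,-1,0,0,0,0,0,2,1,1,1,0,0,0,0,-1,0,0,1,1,0,-1,0,-2,3,1,-3,1,-1,-2,-1,0,-1,0,1,0,-3,-1,1,1,-1,0,-2],
  [0,0,0,0,0,0,0,1,0,0,0,0,1,0,0,1,0,0,0,0,-1,-1,-1,1,0,0,0,0,0,0,1,-1,1,-2,-1,1,-1,0,0,2,2,3,2,-2,3,-2,-4,-3,0,-2,-4,0,-3,-3,-2,-2],
  [0,0,0,0,0,0,0,0,1,0,0,0,0,0,0,0,0,0,0,0,0,0,0,0,0,0,0,1,0,0,1,-1,0,0,0,0,0,0,-1,0,-1,0,-1,0,1,0,0,0,-1,-2,0,1,0,-1,-1,-1],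
  [0,0,0,0,0,0,0,0,0,1,0,0,1,-1,-1,0,0,0,0,0,1,1,1,0,0,0,0,-1,0,0,-1,2,1,0,-1,0,-1,0,1,0,1,1,0,-1,0,0,-1,0,0,0,-2,0,-1,1,-1,0],
  [0,0,0,0,0,0,0,0,0,0,1,0,0,0,0,1,0,0,0,0,-1,-1,-1,1,0,0,0,1,0,0,0,-1,1,-1,0,1,-1,-1,0,1,2,2,3,0,4,-1,-3,-3,1,-2,-5,-1,-3,-4,-1,-3],
  [0,0,0,0,0,0,0,0,0,0,0,1,0,0,0,1,0,0,0,0,-1,-1,-1,0,0,0,0,1,0,0,1,-2,1,-1,0,1,0,-1,-1,2,1,2,2,-1,3,-2,-3,-2,0,-2,-4,-1,-3,-3,-2,-3],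
  [0,0,0,0,0,0,0,0,0,0,0,0,2,-1,-1,0,0,0,0,0,1,1,1,0,0,-1,0,0,0,-1,0,2,0,0,-1,0,-1,2,1,-2,0,0,-2,-1,0,0,0,0,-1,-2,1,2,1,1,0,-1],
  [0,0,0,0,0,0,0,0,0,0,0,0,0,1,0,1,0,0,0,0,-1,-1,-1,0,0,0,0,1,0,0,0,-1,1,-1,0,1,0,0,-1,1,1,2,2,-1,2,-2,-3,-2,0,-2,-3,-1,-2,-3,-1,-2],
  [0,0,0,0,0,0,0,0,0,0,0,0,0,0,1,1,0,0,0,0,-1,-1,-1,0,0,0,0,0,0,0,1,-1,1,-1,0,1,0,-1,-1,2,1,3,3,-2,3,-3,-4,-3,0,-2,-4,-1,-4,-4,-2,-2],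
  [0,0,0,0,0,0,0,0,0,0,0,0,0,0,0,2,0,0,0,0,-1,-1,-1,0,0,0,0,0,0,0,0,-1,0,-1,0,1,0,-1,0,2,1,2,2,-1,2,-1,-2,-2,1,-1,-3,-1,-2,-2,-1,-1],
  [0,0,0,0,0,0,0,0,0,0,0,0,0,0,0,0,1,1,1,-1,0,0,0,0,0,0,0,1,0,0,0,-1,1,-1,-1,0,-1,-1,1,0,1,2,2,-1,2,0,-2,-1,1,-2,-4,-1,-3,-3,-2,-1],
  [0,0,0,0,0,0,0,0,0,0,0,0,0,0,0,0,0,2,0,-1,-1,0,0,1,0,0,0,0,0,0,1,0,1,-1,-1,2,0,0,1,1,0,1,1,0,0,0,-1,-1,0,-1,-1,0,-1,-2,-1,0],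
  [0,0,0,0,0,0,0,0,0,0,0,0,0,0,0,0,0,0,2,-1,0,0,-1,0,0,0,0,1,0,0,0,-1,1,-1,0,0,-1,1,1,-1,1,1,2,0,2,-1,-1,-1,0,-1,-3,-1,-2,-3,-1,-1],
  [0,0,0,0,0,0,0,0,0,0,0,0,0,0,0,0,0,0,0,1,0,0,0,0,0,0,0,0,0,0,1,0,0,0,0,-1,0,0,-1,0,-1,0,0,-1,-1,0,0,0,-1,0,1,0,-1,0,0,0],
  [0,0,0,0,0,0,0,0,0,0,0,0,0,0,0,0,0,0,0,0,1,0,0,0,0,0,0,0,0,0,0,0,1,0,0,0,0,1,-1,0,0,0,0,-1,0,-1,0,0,-1,-1,0,0,-1,-1,0,-1],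
  [0,0,0,0,0,0,0,0,0,0,0,0,0,0,0,0,0,0,0,0,0,1,0,0,0,0,0,1,0,0,1,-1,0,0,0,-1,0,0,-1,-1,-1,-1,0,0,-1,0,1,0,-1,0,1,0,0,0,0,0],
  [0,0,0,0,0,0,0,0,0,0,0,0,0,0,0,0,0,0,0,0,0,0,1,0,0,0,0,1,0,0,1,-1,1,0,0,0,0,1,-2,-1,-1,0,-1,-1,0,-1,0,0,-2,-2,0,1,-1,-1,-1,-2],
  [0,0,0,0,0,0,0,0,0,0,0,0,0,0,0,0,0,0,0,0,0,0,0,1,0,0,0,0,0,0,0,0,0,0,0,0,0,0,0,0,0,0,0,0,0,0,0,0,0,0,0,0,0,0,0,0],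
  [0,0,0,0,0,0,0,0,0,0,0,0,0,0,0,0,0,0,0,0,0,0,0,0,1,0,0,0,0,0,1,-1,0,0,0,-1,0,1,0,-1,-1,-1,-1,0,0,0,0,0,-1,-1,1,1,0,-1,0,-1],
  [0,0,0,0,0,0,0,0,0,0,0,0,0,0,0,0,0,0,0,0,0,0,0,0,0,1,0,1,0,0,1,-1,1,0,0,0,0,1,-2,-1,-1,0,0,-1,-1,-1,0,-1,-2,-1,0,0,-1,-1,-1,-1],
  [0,0,0,0,0,0,0,0,0,0,0,0,0,0,0,0,0,0,0,0,0,0,0,0,0,0,1,1,0,0,1,-1,0,0,0,-1,0,0,-1,-1,-1,0,-1,0,0,-1,0,0,-1,-1,0,1,0,0,-1,-1],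
  [0,0,0,0,0,0,0,0,0,0,0,0,0,0,0,0,0,0,0,0,0,0,0,0,0,0,0,2,0,0,0,-1,0,0,0,0,0,0,-1,-1,0,0,0,0,0,0,0,0,0,-1,-1,0,0,0,-1,-1],
  [0,0,0,0,0,0,0,0,0,0,0,0,0,0,0,0,0,0,0,0,0,0,0,0,0,0,0,0,1,0,1,-1,1,0,0,0,0,1,-1,0,-1,-1,-1,0,-1,-1,1,0,-2,0,2,1,0,-1,0,-1],
  [0,0,0,0,0,0,0,0,0,0,0,0,0,0,0,0,0,0,0,0,0,0,0,0,0,0,0,0,0,1,0,0,1,0,0,0,0,1,-1,0,0,1,0,-1,0,-1,-1,0,-1,-1,-1,0,-1,-1,-1,-1],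
  [0,0,0,0,0,0,0,0,0,0,0,0,0,0,0,0,0,0,0,0,0,0,0,0,0,0,0,0,0,0,2,-1,0,0,0,-1,0,0,-1,0,-1,-1,-1,0,-1,0,1,0,-1,0,2,1,0,0,0,0],
  [0,0,0,0,0,0,0,0,0,0,0,0,0,0,0,0,0,0,0,0,0,0,0,0,0,0,0,0,0,0,0,1,0,0,0,0,0,0,0,0,0,0,0,0,0,0,0,0,0,0,0,0,0,0,0,0],
  [0,0,0,0,0,0,0,0,0,0,0,0,0,0,0,0,0,0,0,0,0,0,0,0,0,0,0,0,0,0,0,0,2,-1,-1,1,-1,0,0,1,1,1,2,0,1,-1,-2,0,0,0,-2,0,-2,-2,0,-1],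
  [0,0,0,0,0,0,0,0,0,0,0,0,0,0,0,0,0,0,0,0,0,0,0,0,0,0,0,0,0,0,0,0,0,1,0,0,0,1,0,-1,-1,0,0,-1,0,-1,0,-1,-1,-1,0,0,0,-1,0,0],
  [0,0,0,0,0,0,0,0,0,0,0,0,0,0,0,0,0,0,0,0,0,0,0,0,0,0,0,0,0,0,0,0,0,0,1,0,0,0,0,0,0,0,1,0,1,0,-1,-1,0,-1,-1,-1,-1,-1,0,-1],
  [0,0,0,0,0,0,0,0,0,0,0,0,0,0,0,0,0,0,0,0,0,0,0,0,0,0,0,0,0,0,0,0,0,0,0,1,0,0,0,0,0,0,0,0,0,0,0,0,0,0,0,0,0,0,0,0],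
  [0,0,0,0,0,0,0,0,0,0,0,0,0,0,0,0,0,0,0,0,0,0,0,0,0,0,0,0,0,0,0,0,0,0,0,0,1,1,0,0,-1,0,0,-1,-1,0,0,0,-1,0,1,0,0,0,0,0],
  [0,0,0,0,0,0,0,0,0,0,0,0,0,0,0,0,0,0,0,0,0,0,0,0,0,0,0,0,0,0,0,0,0,0,0,0,0,2,0,-1,-1,-1,-1,0,-1,0,1,0,-1,0,2,1,1,0,1,0],
  [0,0,0,0,0,0,0,0,0,0,0,0,0,0,0,0,0,0,0,0,0,0,0,0,0,0,0,0,0,0,0,0,0,0,0,0,0,0,1,0,0,0,0,0,0,0,0,0,0,0,0,0,0,0,0,0],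
  [0,0,0,0,0,0,0,0,0,0,0,0,0,0,0,0,0,0,0,0,0,0,0,0,0,0,0,0,0,0,0,0,0,0,0,0,0,0,0,1,0,0,0,0,0,0,0,0,0,0,0,0,0,0,0,0],
  [0,0,0,0,0,0,0,0,0,0,0,0,0,0,0,0,0,0,0,0,0,0,0,0,0,0,0,0,0,0,0,0,0,0,0,0,0,0,0,0,1,1,1,-1,1,-1,-1,-1,0,-1,-2,-1,-1,-1,-1,-1],
  [0,0,0,0,0,0,0,0,0,0,0,0,0,0,0,0,0,0,0,0,0,0,0,0,0,0,0,0,0,0,0,0,0,0,0,0,0,0,0,0,0,2,0,-1,0,-1,-1,0,0,-1,-1,0,-1,0,-1,0],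
  [0,0,0,0,0,0,0,0,0,0,0,0,0,0,0,0,0,0,0,0,0,0,0,0,0,0,0,0,0,0,0,0,0,0,0,0,0,0,0,0,0,0,2,-1,0,0,-1,-1,0,0,-1,-1,-1,-1,0,0],
  [0,0,0,0,0,0,0,0,0,0,0,0,0,0,0,0,0,0,0,0,0,0,0,0,0,0,0,0,0,0,0,0,0,0,0,0,0,0,0,0,0,0,0,1,0,0,0,0,0,0,0,0,0,0,0,0],
  [0,0,0,0,0,0,0,0,0,0,0,0,0,0,0,0,0,0,0,0,0,0,0,0,0,0,0,0,0,0,0,0,0,0,0,0,0,0,0,0,0,0,0,0,2,-1,-1,-1,0,-1,-1,0,0,-1,0,-1],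
  [0,0,0,0,0,0,0,0,0,0,0,0,0,0,0,0,0,0,0,0,0,0,0,0,0,0,0,0,0,0,0,0,0,0,0,0,0,0,0,0,0,0,0,0,0,1,0,0,0,0,0,0,0,0,0,0],
  [0,0,0,0,0,0,0,0,0,0,0,0,0,0,0,0,0,0,0,0,0,0,0,0,0,0,0,0,0,0,0,0,0,0,0,0,0,0,0,0,0,0,0,0,0,0,1,0,0,0,0,0,0,0,0,0],
  [0,0,0,0,0,0,0,0,0,0,0,0,0,0,0,0,0,0,0,0,0,0,0,0,0,0,0,0,0,0,0,0,0,0,0,0,0,0,0,0,0,0,0,0,0,0,0,1,0,0,0,0,0,0,0,0]]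

end Cfsg.Agent.helper2.Ru
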