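import Mathlib
import Cfsg.Prelude.Def_Spor_Ru
import Cfsg.Agent.Lib_helper2_Ru1

set_option autoImplicit false
set_option maxRecDepth 100000

namespace Cfsg.Agent.helper2.Ru

open Cfsg Cfsg.Spor

/-- the real bilinear form -/
def bet (x y : RuVec) : ℤ := ∑ p : RuIdx, ((x p).re * (y p).re + (x p).im * (y p).im)

theorem chk_GI : ∀ j : Fin 56, ∀ p : RuIdx, gI * Bv j p = comb (rowFn tblGI j.val) p := by decide +kernel

theorem chk_Rj : ∀ j : Fin 56, ∀ p : RuIdx, ruRj (Bv j) p = comb (rowFn tblRj j.val) p := by decide +kernel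

theorem chk_Rk : ∀ j : Fin 56, ∀ p : RuIdx, ruRk (Bv j) p = comb (rowFn tblRk j.val) p := by decide +kernel

theorem chk_Sg : ∀ j : Fin 56, ∀ p : RuIdx, ruSign (Bv j) p = comb (rowFn tblSg j.val) p := by decide +kernel

theorem chk_Sh : ∀ j : Fin 56, ∀ p : RuIdx, ruShift (Bv j) p = comb (rowFn tblSh j.val) p := by decide +kernel

theorem chk_gen : ∀ i : Fin 20, ∀ p : RuIdx, (ruTable.getD i.val 0) p = comb (rowFn tblGen i.val) p := by decide +kernel

theorem gram4 : ∀ j k : Fin 56, bet (Bv j) (Bv k) % 4 = 0 := by decide +kernel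

theorem gram8 : ∀ j : Fin 56, bet (Bv j) (Bv j) % 8 = 0 := by decide +kernel

end Cfsg.Agent.helper2.Ru
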