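import Mathlib
import Cfsg.Prelude.Def_Spor_Ru
import Cfsg.Agent.Lib_helper2_Ru1
import Cfsg.Agent.Lib_helper2_Ru2

set_option autoImplicit false
set_option maxRecDepth 100000

namespace Cfsg.Agent.helper2.Ru

open Cfsg Cfsg.Spor

/-- the explicit lattice -/
def M : AddSubgroup RuVec := AddSubgroup.closure (Set.range Bv)

theorem Bv_mem (j : Fin 56) : Bv j ∈ M := AddSubgroup.subset_closure ⟨j, rfl⟩

def reHom : GaussianInt →+ ℤ := { toFun := Zsqrtd.re, map_zero' := rfl, map_add' := fun _ _ => rfl }
def imHom : GaussianInt →+ ℤ := { toFun := Zsqrtd.im, map_zero' := rfl, map_add' := fun _ _ => rfl }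

theorem re_sum' {ι : Type*} (s : Finset ι) (f : ι → GaussianInt) : (∑ k ∈ s, f k).re = ∑ k ∈ s, (f k).re :=
  map_sum reHom f s

theorem im_sum' {ι : Type*} (s : Finset ι) (f : ι → GaussianInt) : (∑ k ∈ s, f k).im = ∑ k ∈ s, (f k).im :=
  map_sum imHom f s

theorem comb_eq (c : Fin 56 → ℤ) : comb c = ∑ k : Fin 56, c k • Bv k := by
  funext p
  rw [Finset.sum_apply]
  apply Zsqrtd.ext
  · rw [re_sum']
    simp [comb, Pi.smul_apply, zsmul_eq_mul]
  · rw [im_sum']
    simp [comb, Pi.smul_apply, zsmul_eq_mul]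

theorem comb_mem (c : Fin 56 → ℤ) : comb c ∈ M := by
  rw [comb_eq]
  exact AddSubgroup.sum_mem _ (fun k _ => AddSubgroup.zsmul_mem _ (Bv_mem k) _)

theorem map_mem (h : RuVec →+ RuVec) (hb : ∀ j, h (Bv j) ∈ M) : ∀ v ∈ M, h v ∈ M := by
  intro v hv
  have hle : M ≤ M.comap h := by
    unfold M
    rw [AddSubgroup.closure_le]
    rintro _ ⟨j, rfl⟩
    exact hb j
  exact hle hv

def hRj : RuVec →+ RuVec where
  toFun := ruRj
  map_zero' := by
    funext p
    rcases p with ⟨n, t⟩
    fin_cases t <;> simp [ruRj]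
  map_add' v w := by
    funext p
    rcases p with ⟨n, t⟩
    fin_cases t <;> simp [ruRj, mul_add, add_comm]

def hRk : RuVec →+ RuVec where
  toFun := ruRk
  map_zero' := by
    funext p
    rcases p with ⟨n, t⟩
    fin_cases t <;> simp [ruRk]
  map_add' v w := by
    funext p
    rcases p with ⟨n, t⟩
    fin_cases t <;> simp [ruRk, mul_add, add_comm]

def hSg : RuVec →+ RuVec where
  toFun := ruSign
  map_zero' := by
    funext p
    simp [ruSign]
  map_add' v w := by
    funext p
    by_cases h : p.1 = 0 ∨ p.1 = 3 ∨ p.1 = 5 ∨ p.1 = 6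
    · simp [ruSign, h]; ring
    · simp [ruSign, h]

def hSh : RuVec →+ RuVec where
  toFun := ruShift
  map_zero' := by
    funext p
    simp [ruShift]
  map_add' v w := by
    funext p
    simp [ruShift]

theorem M_closed : M ∈ ruClosed := by
  refine ⟨?_, ?_⟩
  · intro v hv
    obtain ⟨i, hi, rfl⟩ := List.getElem_of_mem hv
    have hlen : ruTable.length = 20 := rfl
    have hi' : i < 20 := hlen ▸ hi
    have : ruTable[i] = comb (rowFn tblGen i) := by
      funext p
      have := chk_gen ⟨i, hi'⟩ p
      rw [List.getD_eq_getElem _ _ hi] at this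
      exact this
    exact this ▸ comb_mem _
  · intro v hv
    refine ⟨?_, ?_, ?_, ?_, ?_⟩
    · have := map_mem (DistribSMul.toAddMonoidHom RuVec gI) (fun j => by
        have : (DistribSMul.toAddMonoidHom RuVec gI) (Bv j) = comb (rowFn tblGI j.val) := by
          funext p
          exact chk_GI j p
        rw [this]; exact comb_mem _) v hv
      exact this
    · exact map_mem hRj (fun j => by
        have : hRj (Bv j) = comb (rowFn tblRj j.val) := by
          funext p
          exact chk_Rj j p
        rw [this]; exact comb_mem _) v hv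
    · exact map_mem hRk (fun j => by
        have : hRk (Bv j) = comb (rowFn tblRk j.val) := by
          funext p
          exact chk_Rk j p
        rw [this]; exact comb_mem _) v hv
    · exact map_mem hSg (fun j => by
        have : hSg (Bv j) = comb (rowFn tblSg j.val) := by
          funext p
          exact chk_Sg j p
        rw [this]; exact comb_mem _) v hv
    · exact map_mem hSh (fun j => by
        have : hSh (Bv j) = comb (rowFn tblSh j.val) := by
          funext p
          exact chk_Sh j p
        rw [this]; exact comb_mem _) v hv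

theorem ruLattice_le : ruLattice ≤ M := sInf_le M_closed

/-! ### integrality -/

theorem bet_add_left (x y z : RuVec) : bet (x + y) z = bet x z + bet y z := by
  simp only [bet, Pi.add_apply, Zsqrtd.re_add, Zsqrtd.im_add, ← Finset.sum_add_distrib]
  refine Finset.sum_congr rfl (fun p _ => ?_)
  ring

theorem bet_neg_left (x z : RuVec) : bet (-x) z = - bet x z := by
  simp only [bet, Pi.neg_apply, Zsqrtd.re_neg, Zsqrtd.im_neg, ← Finset.sum_neg_distrib]
  refine Finset.sum_congr rfl (fun p _ => ?_)
  ring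

theorem bet_zero_left (z : RuVec) : bet 0 z = 0 := by
  simp [bet]

theorem bet_comm (x y : RuVec) : bet x y = bet y x := by
  simp only [bet]
  refine Finset.sum_congr rfl (fun p _ => ?_)
  ring

theorem ruNorm_eq (x : RuVec) : ruNorm x = bet x x := by
  simp only [ruNorm, bet, Zsqrtd.norm_def]
  refine Finset.sum_congr rfl (fun p _ => ?_)
  ring

theorem ruNorm_add (x y : RuVec) : ruNorm (x + y) = ruNorm x + ruNorm y + 2 * bet x y := by
  rw [ruNorm_eq, ruNorm_eq, ruNorm_eq, bet_add_left, bet_comm x (x + y), bet_comm y (x + y),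
    bet_add_left, bet_add_left, bet_comm y x]
  ring

theorem bet_dvd_basis {y : RuVec} (hy : y ∈ M) (j : Fin 56) : (4 : ℤ) ∣ bet y (Bv j) := by
  unfold M at hy
  induction hy using AddSubgroup.closure_induction with
  | mem x hx =>
    obtain ⟨k, rfl⟩ := hx
    exact Int.dvd_of_emod_eq_zero (gram4 k j)
  | zero => simp [bet_zero_left]
  | add x y _ _ hx hy => rw [bet_add_left]; exact dvd_add hx hy
  | neg x _ hx => rw [bet_neg_left]; exact (dvd_neg).mpr hx

theorem bet_dvd {x y : RuVec} (hx : x ∈ M) (hy : y ∈ M) : (4 : ℤ) ∣ bet x y := by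
  unfold M at hy
  induction hy using AddSubgroup.closure_induction with
  | mem y hy' =>
    obtain ⟨k, rfl⟩ := hy'
    exact bet_dvd_basis hx k
  | zero => rw [bet_comm, bet_zero_left]; exact dvd_zero _
  | add y z _ _ h1 h2 => rw [bet_comm, bet_add_left, bet_comm y, bet_comm z]; exact dvd_add h1 h2
  | neg y _ h1 => rw [bet_comm, bet_neg_left, bet_comm y]; exact (dvd_neg).mpr h1

theorem norm_dvd {x : RuVec} (hx : x ∈ M) : (8 : ℤ) ∣ ruNorm x := by
  have hx0 := hx
  unfold M at hx
  induction hx using AddSubgroup.closure_induction with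
  | mem x hx' =>
    obtain ⟨k, rfl⟩ := hx'
    rw [ruNorm_eq]
    exact Int.dvd_of_emod_eq_zero (gram8 k)
  | zero => simp [ruNorm]
  | add x y hxm hym h1 h2 =>
    rw [ruNorm_add]
    have h4 : (4 : ℤ) ∣ bet x y := bet_dvd (x := x) (y := y) hxm hym
    obtain ⟨a, ha⟩ := h1 hxm
    obtain ⟨b, hb⟩ := h2 hym
    obtain ⟨c, hc⟩ := h4
    exact ⟨a + b + c, by rw [ha, hb, hc]; ring⟩
  | neg x hxm h1 =>
    have : ruNorm (-x) = ruNorm x := by
      rw [ruNorm_eq, ruNorm_eq, bet_neg_left, bet_comm, bet_neg_left]; ring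
    rw [this]; exact h1 hxm

end Cfsg.Agent.helper2.Ru
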