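import Mathlib
import Cfsg.Prelude.Def_Spor_Ru
import Cfsg.Agent.Lib_helper2_Ru1
import Cfsg.Agent.Lib_helper2_Ru2
import Cfsg.Agent.Lib_helper2_Ru3

set_option autoImplicit false
set_option maxRecDepth 100000
set_option maxHeartbeats 4000000

namespace Cfsg.Agent.helper2.Ru

open Cfsg Cfsg.Spor

def tblGre : List (List ℤ) := [[1,0,0,0,0,0,0,1,0,0,1,0,0,1,1,1,0,0,1,0,0,1,1,1,1,0,0,1],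
  [1,0,0,0,0,0,0,0,0,0,1,0,0,0,1,0,0,1,0,0,1,0,1,0,1,0,0,1],
  [0,1,0,0,0,0,0,1,0,0,0,0,0,0,0,0,0,1,1,0,0,0,0,0,0,0,1,1],
  [1,1,1,0,0,0,0,1,0,0,1,1,0,0,1,1,0,1,1,1,1,0,0,1,1,1,1,0],
  [1,1,0,0,0,0,0,1,0,0,0,0,0,0,1,0,0,1,1,0,1,0,1,1,0,0,1,0],
  [0,1,1,0,0,0,0,0,0,0,1,1,0,1,0,0,0,0,0,1,1,1,1,1,1,1,1,1],
  [0,0,1,0,0,0,0,0,0,0,0,0,0,0,0,1,0,0,0,0,0,1,0,1,0,1,1,0],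
  [0,1,0,0,0,0,0,0,1,0,0,0,0,1,0,1,0,1,1,0,1,1,1,1,0,0,0,0],
  [0,1,0,0,1,0,0,0,0,0,1,1,0,0,1,1,0,0,1,1,0,1,1,0,0,1,1,0]]
def tblGim : List (List ℤ) := [[1,0,0,0,0,1,1,1,0,0,0,1,1,0,1,1,0,1,1,1,1,1,1,0,1,1,0,0],
  [0,0,0,1,0,1,0,1,0,0,1,0,0,1,0,0,0,1,1,1,1,0,0,1,0,0,1,1],
  [1,0,0,0,0,1,0,0,0,1,1,0,0,1,0,1,1,0,0,1,1,0,0,1,1,1,1,1],
  [1,0,0,0,0,0,1,0,0,0,0,0,1,0,0,1,1,1,1,0,1,1,0,0,1,1,1,0],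
  [0,1,0,1,0,0,1,0,0,0,1,1,0,1,1,1,0,0,0,0,0,0,0,1,0,0,1,0],
  [0,1,1,0,0,0,0,0,0,0,1,1,1,0,1,1,1,1,1,0,1,1,1,1,1,1,1,1],
  [1,1,0,1,0,0,0,0,0,0,0,0,1,1,1,0,0,0,0,0,0,1,0,1,0,1,1,0],
  [1,0,1,1,0,0,0,0,0,1,1,1,0,1,0,1,0,1,1,0,1,1,1,1,0,0,0,0],
  [1,0,1,1,0,1,1,1,0,0,1,1,0,0,1,1,0,0,1,1,0,1,1,0,0,1,1,0]]
def tblKt : List (List ℤ) := [[1,1,1,1,1,0,0,1,0,0,1,1,0,0,1,1,0,1,0,1,0,1,1,0,0,1,0,1],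
  [0,1,1,0,1,0,1,0,1,1,1,1,0,1,1,0,0,0,1,1,1,1,0,0,1,0,1,0],
  [1,0,1,0,0,1,1,0,1,0,1,0,0,0,0,0,0,1,1,0,1,1,0,0,1,1,0,0],
  [1,1,1,1,0,0,0,0,0,0,0,0,0,0,0,0,0,0,0,0,1,1,1,1,0,0,0,0],
  [0,1,1,0,1,1,0,0,0,0,1,1,0,1,0,1,0,1,1,0,1,0,1,0,0,0,0,0],
  [0,0,0,0,0,0,0,0,0,0,0,0,0,0,0,0,1,1,1,1,0,0,0,0,0,0,0,0],
  [0,0,0,0,0,0,0,0,0,0,0,0,1,1,1,1,0,0,0,0,0,0,0,0,0,0,0,0],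
  [0,0,0,0,0,0,0,0,1,1,1,1,0,0,0,0,0,0,0,0,0,0,0,0,0,0,0,0],
  [0,0,0,0,1,1,1,1,0,0,0,0,0,0,0,0,0,0,0,0,0,0,0,0,0,0,0,0],
  [1,1,1,1,0,0,0,0,0,0,0,0,0,0,0,0,0,0,0,0,0,0,0,0,0,0,0,0]]
def tblAt : List (List ℤ) := [[0,1,0,0,0,0,0,0,0],
  [1,1,0,0,0,0,0,0,0],
  [1,1,1,0,0,0,0,0,0],
  [1,0,1,0,1,0,0,0,0],
  [0,1,1,1,0,0,0,0,0],
  [0,0,1,1,1,1,0,0,0],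
  [1,0,0,0,0,1,0,0,0],
  [0,0,0,1,1,0,1,0,0],
  [0,0,0,0,0,1,1,0,1],
  [0,0,0,1,1,1,0,0,1],
  [0,0,0,0,0,1,0,0,0],
  [0,0,0,1,1,0,1,0,0],
  [0,0,0,0,0,1,0,0,0],
  [0,0,0,1,1,0,1,0,0],
  [0,0,0,1,1,0,1,0,0],
  [0,0,0,1,1,0,1,0,0],
  [0,0,0,1,1,1,0,1,0],
  [1,1,0,1,0,0,0,1,0],
  [1,1,0,0,1,1,0,0,0],
  [0,0,0,0,0,0,0,0,0],
  [0,0,0,0,0,0,0,0,0],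
  [0,0,0,0,0,0,0,0,0],
  [0,0,0,0,0,0,0,0,0],
  [0,0,0,0,0,0,0,0,0],
  [0,0,0,0,0,0,0,0,0],
  [0,0,0,0,0,0,0,0,0],
  [0,0,0,0,0,0,0,0,0],
  [0,0,0,0,0,0,0,0,0],
  [0,0,0,0,0,0,0,0,0],
  [0,0,0,0,0,0,0,0,0],
  [0,0,0,0,0,0,0,0,0],
  [0,0,0,0,0,0,0,0,0],
  [0,0,0,0,0,0,0,0,0],
  [0,0,0,0,0,0,0,0,0],
  [0,0,0,0,0,0,0,0,0],
  [0,0,0,0,0,0,0,0,0],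
  [0,0,0,0,0,0,0,0,0],
  [0,0,0,0,0,0,0,0,0],
  [0,0,0,0,0,0,0,0,0],
  [0,0,0,0,0,0,0,0,0],
  [0,0,0,0,0,0,0,0,0],
  [0,0,0,0,0,0,0,0,0],
  [0,0,0,0,0,0,0,0,0],
  [0,0,0,0,0,0,0,0,0],
  [0,0,0,0,0,0,0,0,0],
  [0,0,0,0,0,0,0,0,0],
  [0,0,0,0,0,0,0,0,0],
  [0,0,0,0,0,0,0,0,0],
  [0,0,0,0,0,0,0,0,0],
  [0,0,0,0,0,0,0,0,0],
  [0,0,0,0,0,0,0,0,0],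
  [0,0,0,0,0,0,0,0,0],
  [0,0,0,0,0,0,0,0,0],
  [0,0,0,0,0,0,0,0,0],
  [0,0,0,0,0,0,0,0,0],
  [0,0,0,0,0,0,0,0,0]]
def tblBt : List (List ℤ) := [[0,0,0,0,0,0,0,0,0,0],
  [0,0,0,0,0,0,0,0,0,0],
  [0,0,0,0,0,0,0,0,0,0],
  [0,0,0,0,0,0,0,0,0,0],
  [0,0,0,0,0,0,0,0,0,0],
  [0,0,0,0,0,0,0,0,0,0],
  [0,0,0,1,0,0,0,0,0,0],
  [0,0,0,0,0,0,0,0,0,0],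
  [0,0,0,0,0,0,0,0,0,0],
  [1,0,0,1,0,0,0,0,0,0],
  [1,0,0,1,1,0,0,0,0,0],
  [0,0,0,1,0,0,0,0,0,1],
  [0,0,0,0,1,0,0,0,1,0],
  [0,0,0,1,0,0,0,0,0,1],
  [0,0,0,1,0,0,0,0,0,1],
  [0,0,0,1,0,0,0,0,0,1],
  [0,0,0,0,0,0,0,0,0,0],
  [1,0,1,1,0,0,0,0,1,0],
  [0,1,1,1,1,0,0,0,0,1],
  [1,1,0,1,1,0,0,1,1,0],
  [0,0,0,0,0,0,0,0,0,0],
  [1,1,0,1,1,0,0,1,1,0],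
  [1,1,0,1,1,0,0,1,1,0],
  [0,0,0,0,0,0,0,0,0,0],
  [0,0,0,1,0,0,1,0,0,1],
  [1,1,0,1,1,0,0,1,1,0],
  [1,1,0,1,1,0,0,1,1,0],
  [0,0,0,0,0,0,0,0,0,0],
  [1,1,0,1,1,0,0,1,1,0],
  [0,0,0,0,0,0,0,0,0,0],
  [1,1,0,1,1,0,0,1,1,0],
  [0,0,0,0,0,0,0,0,0,0],
  [1,1,0,0,1,1,0,1,1,1],
  [1,1,0,1,1,0,0,1,1,0],
  [0,0,0,0,0,0,0,0,0,0],
  [0,0,0,0,0,0,0,0,0,0],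
  [1,1,0,1,1,0,0,1,1,0],
  [1,1,0,1,1,0,0,1,1,0],
  [0,0,0,0,0,0,0,0,0,0],
  [0,0,0,0,0,0,0,0,0,0],
  [0,0,0,0,0,0,0,0,0,0],
  [0,0,0,0,0,0,0,0,0,0],
  [0,0,0,0,0,0,0,0,0,0],
  [0,0,0,0,0,0,0,0,0,0],
  [0,0,0,0,0,0,0,0,0,0],
  [0,0,0,0,0,0,0,0,0,0],
  [0,0,0,0,0,0,0,0,0,0],
  [0,0,0,0,0,0,0,0,0,0],
  [0,0,0,0,0,0,0,0,0,0],
  [0,0,0,0,0,0,0,0,0,0],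
  [0,0,0,0,0,0,0,0,0,0],
  [0,0,0,0,0,0,0,0,0,0],
  [0,0,0,0,0,0,0,0,0,0],
  [0,0,0,0,0,0,0,0,0,0],
  [0,0,0,0,0,0,0,0,0,0],
  [0,0,0,0,0,0,0,0,0,0]]
def tblK1a : List (List ℤ) := [[0],
  [0,2,0,0,0,0,0,-1,0,0,0,0,0,-1,-1,0,0,0,0,0,2,0,2,-1,0,0,0,0,0,0,0,1,0,2,0,-2,0,2,-2,-3,-3,-3,-3,-1,-3,2,3,1,-1,-1,3,1,2,0,1,-1],
  [0,2,0,0,0,0,0,-1,0,0,1,0,0,0,-2,0,0,0,0,0,1,0,1,0,0,-2,0,-2,0,0,0,2,0,1,0,-1,-2,1,2,-1,1,0,0,-1,2,1,-1,0,1,-2,-1,0,0,-3,3,-3],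
  [0,2,0,0,0,0,0,-1,-1,-1,1,1,-1,0,0,0,0,0,0,0,-1,-1,-1,1,0,-1,0,0,0,0,0,-1,0,1,0,1,0,1,1,0,-1,2,0,1,2,0,-2,0,1,-1,-1,0,0,-3,2,-3],
  [0,2,0,0,0,0,0,-1,1,-1,0,1,2,-2,-2,-2,0,1,0,-1,3,3,3,-1,0,-2,0,-2,0,-2,-2,6,0,1,-2,0,-2,3,5,-4,0,-1,-3,0,-1,3,2,3,0,-2,2,2,4,2,3,0],
  [0,2,0,0,0,0,0,-1,2,1,2,-2,-1,-1,-1,-2,0,0,0,0,2,2,2,0,0,-2,-2,-2,-2,-2,0,6,0,2,0,0,-2,4,5,-4,-1,-3,-3,3,-1,4,3,3,1,-1,6,2,3,-1,7,0],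
  [0,2,0,0,0,0,0,-1,0,-1,0,1,0,0,-1,1,2,0,0,0,0,-2,0,0,0,0,0,0,0,0,0,-2,0,0,-2,0,-2,0,0,2,0,2,2,-3,2,1,-2,-2,2,-3,-4,-1,-2,-5,0,-3],
  [0],
  [0],
  [0,0,1,1,1,1,0,-2,0,2,0,-2,0,-2,-2,-1,0,0,0,-2,4,4,4,0,0,-2,-2,0,0,0,-2,5,0,4,-2,0,-2,4,2,-6,-1,-5,-3,2,-3,2,5,5,1,-2,2,2,6,1,3,1],
  [0,0,0,0,0,2,0,0,0,2,0,-2,0,-1,-2,0,-1,0,0,0,3,3,3,0,0,0,-2,-1,0,0,-2,5,0,1,-2,0,-2,3,2,-3,-1,-4,-2,2,-2,2,2,3,1,1,2,1,4,2,4,3],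
  [0,0,1,1,2,0,1,-2,0,2,0,-2,0,-3,-2,-2,0,0,0,-2,6,6,4,-1,0,-2,-2,0,0,0,-4,6,0,4,-2,-1,-2,4,3,-8,1,-5,-3,2,-5,2,6,7,3,-1,1,0,5,3,2,1],
  [1,1,-1,1,2,0,2,-2,0,2,0,-2,0,-3,-3,-3,0,-1,0,0,6,5,5,0,0,-2,-2,-2,-2,0,-4,8,0,7,-2,-3,-2,5,1,-9,0,-7,-5,1,-7,4,8,8,0,2,4,0,8,6,5,3],
  [0,0,1,1,0,2,-1,-2,0,2,0,-2,0,-1,-2,0,-1,2,1,-2,3,4,3,-1,0,0,-2,0,0,0,-2,4,0,1,-2,1,-2,1,3,-4,-1,-2,-2,3,0,2,1,3,2,-2,-1,0,4,1,2,3],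
  [0],
  [0],
  [0],
  [0,0,1,1,0,0,-1,0,1,1,0,-1,2,-2,-2,-2,0,2,0,-2,2,4,4,0,0,-2,-2,-2,0,-2,-2,8,0,0,-2,2,-2,2,7,-3,1,-1,-3,3,-1,5,3,5,1,-1,3,3,4,4,3,2],
  [0,1,-1,2,2,1,2,-4,0,0,0,0,2,-2,-4,-4,0,2,0,-3,5,5,5,1,0,-2,-2,-2,0,0,-4,6,0,3,-4,2,-4,5,6,-7,2,-1,-3,-1,-3,4,3,8,4,-4,-2,1,8,2,4,1],
  [0,0,0,2,1,1,-1,-2,2,1,-1,-1,2,-2,-2,-2,0,2,0,-3,3,5,5,-1,0,-2,-2,-2,0,-2,-2,8,0,1,-4,2,-2,3,6,-3,-1,-2,-4,2,-2,4,4,5,0,-2,4,5,8,3,4,4],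
  [0,0,0,2,0,0,2,-1,-1,2,-1,0,-1,0,-1,-1,0,2,0,-2,0,1,1,2,0,0,-2,0,0,2,-2,0,0,1,-2,3,-2,-1,2,0,4,3,3,-1,1,-2,-3,1,5,-2,-10,-4,0,-2,-3,1],
  [0],
  [0],
  [0],
  [0],
  [0,1,2,1,2,1,1,-4,2,1,1,-4,-1,-4,-2,-2,1,-1,0,-2,7,5,7,-1,0,-2,-4,-2,-2,-2,-4,10,0,5,-2,1,-4,7,6,-10,0,-7,-5,4,-3,6,8,9,4,-5,4,2,7,-1,7,-1],
  [1,1,-1,-1,0,2,0,0,0,-1,-1,1,0,1,1,0,0,0,0,0,0,-2,0,-1,0,2,0,0,0,0,0,-1,0,0,-2,0,0,0,-3,2,-2,0,0,-2,0,0,-2,-2,0,0,-1,-1,1,-2,0,2],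
  [0,0,1,1,1,1,0,-1,0,1,0,-2,-1,-1,-1,-1,0,0,0,-2,3,3,3,0,0,0,-2,0,0,0,-2,3,0,3,0,0,0,3,0,-6,-2,-5,-3,3,-3,1,5,4,0,-1,3,0,5,1,3,1],
  [0],
  [0],
  [0],
  [0],
  [0],
  [0,0,2,2,0,0,0,-1,2,0,0,-2,-1,-2,-1,-1,1,0,0,-2,2,4,4,-1,0,-2,-2,0,0,-2,-2,5,0,2,0,1,-2,2,5,-6,-1,-3,-3,5,-1,3,5,6,1,-3,3,1,4,0,3,-1],
  [1,-1,2,2,0,2,1,-3,2,-1,2,-4,1,-2,-3,-4,0,2,0,-4,4,6,6,2,0,-2,-2,-2,-2,-2,-2,10,0,2,-2,3,-4,6,11,-11,-1,-5,-7,9,-1,6,7,10,2,-5,6,5,11,1,7,2],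
  [0],
  [0],
  [0],
  [0],
  [0],
  [0],
  [0,1,1,2,0,-1,2,-2,-1,-1,-1,0,-1,-1,0,0,1,0,0,-2,2,0,2,0,0,0,0,2,0,0,-2,-2,0,2,0,2,0,0,-1,-4,0,2,0,-1,0,-3,0,3,2,-5,-6,-2,0,-2,-3,-4],
  [0],
  [0],
  [0],
  [0],
  [0],
  [0],
  [0]]
def tblK1b : List (List ℤ) := [[0],
  [2,0,0,0,0,0,0,-1,0,0,0,-1,0,0,0,-1,0,0,0,0,0,0,2,1,0,0,0,0,0,0,0,1,0,2,0,0,0,0,-1,-2,-2,-2,-2,2,-2,3,2,2,-2,1,3,2,3,2,0,2],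
  [2,0,0,0,0,0,0,-1,2,0,1,-2,0,0,0,-2,0,0,0,0,1,1,2,0,0,0,0,-2,-2,0,0,3,0,2,0,-1,-2,2,2,-4,-2,-4,-2,4,-2,5,4,3,-2,1,5,3,4,1,4,4],
  [2,0,0,0,0,0,0,-1,2,2,0,-2,2,-2,-2,-2,0,0,0,0,3,3,5,0,0,-1,-2,-4,-2,-2,-2,10,0,3,-2,0,-2,3,4,-4,-1,-4,-4,2,-4,6,5,5,0,1,5,2,5,5,3,5],
  [2,0,0,0,0,0,0,-1,-1,-1,0,1,0,2,0,0,2,1,0,-2,-3,-3,-1,2,0,0,2,0,0,0,0,-3,0,-1,-2,3,0,-3,1,4,2,3,5,-1,3,1,-3,-3,3,0,-6,-2,-1,-5,-3,-1],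
  [2,0,0,0,0,0,0,-1,2,-1,2,-3,1,0,0,-3,0,0,0,0,2,2,2,0,0,-2,0,-2,-2,-2,0,6,0,2,0,-1,-2,4,5,-5,-2,-4,-4,5,-2,5,4,4,-2,0,9,5,6,1,6,3],
  [2,0,0,0,0,0,0,-1,-1,2,1,-1,-1,0,0,-1,2,0,0,0,1,-1,1,1,0,0,0,-2,0,2,0,-1,0,3,-2,-2,-2,-1,-1,1,0,-3,1,0,-3,4,3,0,1,4,0,0,0,-1,0,3],
  [0],
  [0],
  [1,1,0,0,1,-1,0,0,2,0,0,-1,0,-2,0,-2,0,0,0,0,2,2,2,-1,0,0,0,-2,-2,-2,0,5,0,2,0,-2,0,2,2,-4,-2,-4,-4,2,-4,4,5,4,-1,1,6,2,3,3,2,2],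
  [0,2,0,2,0,2,2,-4,2,0,0,-3,0,-3,-4,-3,1,0,0,-2,7,5,7,1,0,-2,-4,-2,-2,-2,-4,11,0,5,-2,1,-6,7,7,-9,1,-4,-4,3,-2,5,5,9,5,-7,0,0,7,-1,7,-1],
  [1,2,2,-1,-1,2,-1,-2,2,0,0,-3,0,-2,-1,0,0,0,0,0,4,2,6,-2,0,0,-4,-2,0,-2,-2,9,0,2,-2,2,-2,4,3,-4,-4,-4,-4,3,-2,6,2,4,1,-3,5,2,3,-1,4,2],
  [1,1,-1,1,2,0,2,-2,2,0,0,-2,0,-3,-2,-4,2,-1,2,-2,7,4,3,-1,1,-2,-2,-2,-2,-2,-2,6,0,5,-2,-5,-4,5,5,-9,1,-6,-4,2,-4,5,8,7,3,-2,4,1,5,0,5,1],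
  [1,0,0,1,0,-1,0,-1,2,0,0,-1,0,-1,0,-2,-1,-1,0,1,2,4,2,-2,0,0,0,-2,-2,0,0,4,0,2,2,-3,0,2,0,-5,-4,-4,-4,4,-4,2,5,5,-4,2,8,2,4,5,4,3],
  [0],
  [0],
  [0],
  [0,0,1,-1,1,-1,0,1,0,1,0,0,-1,0,2,0,2,0,0,-1,-1,-2,-2,0,0,0,0,0,0,0,0,-2,0,0,0,0,0,-2,0,3,3,1,5,-2,1,0,-2,-3,3,1,-4,-3,-5,-4,-3,-1],
  [0,0,0,0,1,-1,-1,1,2,2,0,-1,0,-2,0,0,2,0,0,-1,1,1,1,-1,1,0,-2,-2,0,-2,0,2,0,1,-2,-1,-2,-1,3,1,2,-1,1,-1,-1,3,2,-1,2,1,0,1,-2,-1,-1,2],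
  [0,0,0,0,1,-1,-1,0,2,-1,-1,2,2,-2,2,-1,2,0,0,-1,0,0,0,-2,0,0,0,0,0,-2,0,1,0,0,-2,0,0,0,0,1,0,0,0,-2,0,2,1,-2,-1,0,2,2,0,-1,-2,0],
  [0,0,2,2,0,2,2,-3,0,1,2,-4,0,-3,-5,-3,2,0,0,-4,7,5,7,3,0,-2,-4,-2,-2,0,-4,9,0,5,-2,1,-6,7,9,-11,2,-5,-5,6,-1,5,7,10,6,-7,-1,1,7,-1,6,-1],
  [0],
  [0],
  [0],
  [0],
  [0,0,0,2,-1,-1,-1,1,0,1,-1,1,2,0,0,0,2,1,0,-1,-2,-1,0,1,2,-2,-2,-2,0,-2,-2,2,0,-2,-2,3,-2,-4,5,6,6,8,6,-2,6,0,-8,-3,6,-3,-10,-3,-7,-4,-3,-1],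
  [1,1,-1,1,2,0,0,-2,0,1,1,0,2,-2,-3,-4,0,0,0,0,4,4,4,0,2,-4,-2,-4,-2,-2,-4,9,0,4,-4,-1,-2,4,6,-4,1,-3,-3,2,-3,7,3,7,3,1,4,2,6,4,7,2],
  [0,0,1,1,2,0,-1,-1,-1,1,0,0,2,-1,-1,-2,1,2,1,-4,1,3,1,1,2,-4,-2,-2,0,-2,-4,5,0,1,-4,3,-2,1,9,-1,4,3,3,1,3,3,-4,2,6,-3,-5,0,1,-3,1,1],
  [0],
  [0],
  [0],
  [0],
  [0],
  [0,0,0,0,0,0,0,1,-1,-1,1,1,0,2,1,1,1,0,0,0,-3,-4,-4,2,0,0,2,0,0,0,0,-4,2,-4,-1,2,-1,-4,1,6,5,7,7,-2,7,-3,-9,-5,3,0,-9,-2,-6,-6,-2,-3],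
  [1,-1,2,2,0,2,1,-3,2,-1,2,-4,1,-2,-2,-5,2,2,0,-4,5,4,7,2,1,-3,-4,-2,-4,-2,-4,11,2,0,-4,5,-6,4,12,-7,5,1,-1,8,3,8,0,11,8,-8,-3,3,3,-3,5,0],
  [0],
  [0],
  [0],
  [0],
  [0],
  [0],
  [0,1,2,-1,0,-1,1,0,2,2,0,-2,0,-3,0,0,1,-1,0,0,4,2,2,-2,1,-2,-2,-2,-2,-2,-2,7,0,2,0,-2,-2,2,4,-4,3,-3,-1,0,-1,2,1,2,3,-2,0,-1,-2,-1,0,-1],
  [0],
  [0],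
  [0],
  [0],
  [0],
  [0],
  [0]]
def tblK2 : List (List ℤ) := [[0,2,0,0,0,0,0,-1,0,0,0,0,0,0,0,0,0,0,0,0,0,0,0,0,0,0,0,0,0,0,0,0,0,0,0,0,0,0,-1,0,0,0,0,-1,0,0,-1,-1,0,0,0,-1,1,-1,1,-1],
  [0,0,0,0,0,0,0,0,0,2,0,-1,0,-1,-1,0,0,0,0,0,2,2,2,-1,0,0,0,0,0,0,0,1,0,2,0,-3,0,0,-2,-3,-1,-3,-3,-1,-3,0,3,1,-1,0,2,0,1,3,-1,1],
  [0,0,0,0,0,0,2,0,1,0,0,-2,0,-2,0,-2,0,2,0,-1,2,2,2,1,0,0,0,0,-2,0,0,3,0,0,0,0,-2,2,4,-5,2,-2,-2,2,-2,2,2,3,3,-2,-1,0,1,1,-1,0],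
  [1,2,1,0,-1,0,2,-2,1,0,0,-2,0,-2,-2,-2,0,0,0,0,5,3,5,-1,0,0,-2,-2,-2,-2,-2,8,0,3,0,0,-2,5,3,-8,-2,-5,-5,2,-3,3,4,6,1,-3,4,-1,4,1,4,0],
  [0,1,-1,0,-1,2,-1,0,0,2,0,0,0,0,-2,2,0,0,0,0,1,-1,1,0,0,0,-2,-2,0,0,0,2,0,1,-2,0,-2,-1,0,4,2,1,1,-2,3,-1,-2,-4,3,-2,-5,-2,-2,-3,0,1],
  [0,0,0,0,0,0,0,1,1,-1,1,-1,1,-1,0,-2,0,0,0,0,1,1,1,1,0,0,0,0,0,0,0,2,0,1,0,-2,0,3,1,-5,-2,-3,-5,2,-3,2,4,2,-2,0,6,3,4,2,1,1],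
  [0,0,0,0,1,1,-1,-1,-1,-1,0,2,0,2,0,0,0,1,0,-2,-1,-1,-1,0,0,0,0,2,2,0,0,-4,0,-1,0,2,2,-1,-3,2,-1,2,2,-2,2,-1,-2,-2,0,-2,-2,-1,0,-3,-1,-2]]

def Gre (j : Fin 9) (p : RuIdx) : ℤ := ent tblGre j.val (cidx p)
def Gim (j : Fin 9) (p : RuIdx) : ℤ := ent tblGim j.val (cidx p)
def Kt (j : Fin 10) (p : RuIdx) : ℤ := ent tblKt j.val (cidx p)
def At (k : Fin 56) (j : Fin 9) : ℤ := ent tblAt k.val j.val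
def Bt (k : Fin 56) (j : Fin 10) : ℤ := ent tblBt k.val j.val

def bz (b : Bool) : ℤ := if b then 1 else 0

theorem resid_basis : ∀ k : Fin 56, ∀ p : RuIdx,
    ((Bv k p).re - (∑ j, At k j * Gre j p + ∑ j, Bt k j * Kt j p)) % 2 = 0 ∧
    ((Bv k p).im - (∑ j, At k j * Gim j p + ∑ j, Bt k j * Kt j p)) % 2 = 0 := by decide +kernel

def r1 (s : Fin 9 → Bool) (p : RuIdx) : ℤ := (∑ j, bz (s j) * (Gre j p + Gim j p)) % 2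

def T1 (s : Fin 9 → Bool) : Prop :=
  (∀ j, s j = false) ∨ (9 ≤ ∑ p : RuIdx, r1 s p) ∨
    (∃ m n : Fin 7, m < n ∧ ∀ p : RuIdx, r1 s p = if p.1 = m ∨ p.1 = n then 1 else 0)

instance (s : Fin 9 → Bool) : Decidable (T1 s) := by unfold T1; infer_instance

theorem t1_all : ∀ s0 s1 s2 s3 s4 s5 s6 s7 s8 : Bool, T1 ![s0, s1, s2, s3, s4, s5, s6, s7, s8] := by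
  decide +kernel

def k2 (t : Fin 10 → Bool) (p : RuIdx) : ℤ := (∑ j, bz (t j) * Kt j p) % 2

def T2 (t : Fin 10 → Bool) : Prop :=
  (∀ p : RuIdx, k2 t p = 0) ∨ (5 ≤ ∑ p : RuIdx, k2 t p) ∨
    (∃ n : Fin 7, ∀ p : RuIdx, k2 t p = if p.1 = n then 1 else 0)

instance (t : Fin 10 → Bool) : Decidable (T2 t) := by unfold T2; infer_instance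

theorem t2_all : ∀ s0 s1 s2 s3 s4 s5 s6 s7 s8 s9 : Bool, T2 ![s0, s1, s2, s3, s4, s5, s6, s7, s8, s9] := by
  decide +kernel

def c1 (m n : Fin 7) : RuVec := comb (rowFn tblK1a (7 * m.val + n.val))
def c2 (m n : Fin 7) : RuVec := comb (rowFn tblK1b (7 * m.val + n.val))
def c3 (n : Fin 7) : RuVec := comb (rowFn tblK2 n.val)

theorem kill1_ok : ∀ m n : Fin 7, m < n →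
    (∀ p : RuIdx, (p.1 = m ∨ p.1 = n) → p ≠ (m, 0) →
      ((c1 m n p).re % 4 = 0 ∧ (c1 m n p).im % 4 = 0 ∧ (c2 m n p).re % 4 = 0 ∧ (c2 m n p).im % 4 = 0)) ∧
    (c1 m n (m, 0)).re % 4 = 0 ∧ (c1 m n (m, 0)).im % 4 = 2 ∧
    (c2 m n (m, 0)).re % 4 = 2 ∧ (c2 m n (m, 0)).im % 4 = 0 := by decide +kernel

theorem kill2_ok : ∀ n : Fin 7,
    (∀ p : RuIdx, p.1 = n → p ≠ (n, 0) → ((c3 n p).re % 4 = 0 ∧ (c3 n p).im % 4 = 0)) ∧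
    (c3 n (n, 0)).re % 4 = 0 ∧ (c3 n (n, 0)).im % 4 = 2 := by decide +kernel

/-- real coordinates -/
def gco (x : RuVec) (k : RuIdx × Bool) : ℤ := if k.2 then (x k.1).im else (x k.1).re

theorem kill3_ok : ∀ k l : RuIdx × Bool, k ≠ l → ∃ j : Fin 56, (gco (Bv j) k + gco (Bv j) l) % 2 = 1 := by
  decide +kernel

theorem sum_pair : ∀ m n : Fin 7, m < n →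
    ∑ p : RuIdx, (if p.1 = m ∨ p.1 = n then (1 : ℤ) else 0) = 8 := by decide +kernel

theorem sum_single : ∀ n : Fin 7, ∑ p : RuIdx, (if p.1 = n then (1 : ℤ) else 0) = 4 := by decide +kernel

end Cfsg.Agent.helper2.Ru
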