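import Mathlib
import Cfsg.Prelude.Def_Spor_Ru
import Cfsg.Agent.Lib_helper2_Ru1
import Cfsg.Agent.Lib_helper2_Ru2
import Cfsg.Agent.Lib_helper2_Ru3
import Cfsg.Agent.Lib_helper2_Ru4

set_option autoImplicit false
set_option maxRecDepth 100000

namespace Cfsg.Agent.helper2.Ru

open Cfsg Cfsg.Spor

def resid (x : RuVec) (a : Fin 9 → ℤ) (b : Fin 10 → ℤ) : Prop :=
  ∀ p : RuIdx, (2 : ℤ) ∣ ((x p).re - (∑ j, a j * Gre j p + ∑ j, b j * Kt j p)) ∧
    (2 : ℤ) ∣ ((x p).im - (∑ j, a j * Gim j p + ∑ j, b j * Kt j p))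

theorem exists_resid {x : RuVec} (hx : x ∈ M) : ∃ a b, resid x a b := by
  unfold M at hx
  induction hx using AddSubgroup.closure_induction with
  | mem x hx' =>
    obtain ⟨k, rfl⟩ := hx'
    refine ⟨At k, Bt k, fun p => ?_⟩
    obtain ⟨h1, h2⟩ := resid_basis k p
    exact ⟨Int.dvd_of_emod_eq_zero h1, Int.dvd_of_emod_eq_zero h2⟩
  | zero => exact ⟨0, 0, fun p => by simp⟩
  | add x y _ _ hx hy =>
    obtain ⟨a, b, h⟩ := hx
    obtain ⟨a', b', h'⟩ := hy
    refine ⟨a + a', b + b', fun p => ?_⟩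
    obtain ⟨h1, h2⟩ := h p
    obtain ⟨h1', h2'⟩ := h' p
    constructor
    · have e : ((x + y) p).re - (∑ j, (a + a') j * Gre j p + ∑ j, (b + b') j * Kt j p)
          = ((x p).re - (∑ j, a j * Gre j p + ∑ j, b j * Kt j p))
            + ((y p).re - (∑ j, a' j * Gre j p + ∑ j, b' j * Kt j p)) := by
        simp only [Pi.add_apply, Zsqrtd.re_add, add_mul, Finset.sum_add_distrib]
        ring
      rw [e]; exact dvd_add h1 h1'
    · have e : ((x + y) p).im - (∑ j, (a + a') j * Gim j p + ∑ j, (b + b') j * Kt j p)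
          = ((x p).im - (∑ j, a j * Gim j p + ∑ j, b j * Kt j p))
            + ((y p).im - (∑ j, a' j * Gim j p + ∑ j, b' j * Kt j p)) := by
        simp only [Pi.add_apply, Zsqrtd.im_add, add_mul, Finset.sum_add_distrib]
        ring
      rw [e]; exact dvd_add h2 h2'
  | neg x _ hx =>
    obtain ⟨a, b, h⟩ := hx
    refine ⟨-a, -b, fun p => ?_⟩
    obtain ⟨h1, h2⟩ := h p
    constructor
    · have e : ((-x) p).re - (∑ j, (-a) j * Gre j p + ∑ j, (-b) j * Kt j p)
          = - ((x p).re - (∑ j, a j * Gre j p + ∑ j, b j * Kt j p)) := by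
        simp only [Pi.neg_apply, Zsqrtd.re_neg, neg_mul, Finset.sum_neg_distrib]
        ring
      rw [e]; exact (dvd_neg).mpr h1
    · have e : ((-x) p).im - (∑ j, (-a) j * Gim j p + ∑ j, (-b) j * Kt j p)
          = - ((x p).im - (∑ j, a j * Gim j p + ∑ j, b j * Kt j p)) := by
        simp only [Pi.neg_apply, Zsqrtd.im_neg, neg_mul, Finset.sum_neg_distrib]
        ring
      rw [e]; exact (dvd_neg).mpr h2

def sOf {n : ℕ} (a : Fin n → ℤ) : Fin n → Bool := fun j => decide (a j % 2 = 1)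

theorem bz_sOf {n : ℕ} (a : Fin n → ℤ) (j : Fin n) : (2 : ℤ) ∣ a j - bz (sOf a j) := by
  unfold bz sOf
  by_cases h : a j % 2 = 1
  · simp only [h, decide_true, if_true]; omega
  · simp only [h, decide_false]; simp; omega

theorem sum_bz_congr {n : ℕ} (a : Fin n → ℤ) (g : Fin n → ℤ) :
    (2 : ℤ) ∣ (∑ j, a j * g j) - ∑ j, bz (sOf a j) * g j := by
  rw [← Finset.sum_sub_distrib]
  apply Finset.dvd_sum
  intro j _
  rw [← sub_mul]
  exact Dvd.dvd.mul_right (bz_sOf a j) _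

theorem T1_of (s : Fin 9 → Bool) : T1 s := by
  have h := t1_all (s 0) (s 1) (s 2) (s 3) (s 4) (s 5) (s 6) (s 7) (s 8)
  have e : s = ![s 0, s 1, s 2, s 3, s 4, s 5, s 6, s 7, s 8] := by
    funext j; fin_cases j <;> rfl
  rw [e]; exact h

theorem T2_of (t : Fin 10 → Bool) : T2 t := by
  have h := t2_all (t 0) (t 1) (t 2) (t 3) (t 4) (t 5) (t 6) (t 7) (t 8) (t 9)
  have e : t = ![t 0, t 1, t 2, t 3, t 4, t 5, t 6, t 7, t 8, t 9] := by
    funext j; fin_cases j <;> rfl
  rw [e]; exact h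

def nrm (z : GaussianInt) : ℤ := z.re * z.re + z.im * z.im

theorem ruNorm_eq_sum (x : RuVec) : ruNorm x = ∑ p, nrm (x p) := by
  simp only [ruNorm, Zsqrtd.norm_def, nrm]
  refine Finset.sum_congr rfl (fun p _ => ?_)
  ring

theorem nrm_nonneg (z : GaussianInt) : 0 ≤ nrm z := by
  unfold nrm; nlinarith [mul_self_nonneg z.re, mul_self_nonneg z.im]

theorem eq_zero_of_nrm (z : GaussianInt) (h : nrm z = 0) : z = 0 := by
  unfold nrm at h
  have h1 : z.re * z.re = 0 := by nlinarith [mul_self_nonneg z.re, mul_self_nonneg z.im]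
  have h2 : z.im * z.im = 0 := by nlinarith [mul_self_nonneg z.re, mul_self_nonneg z.im]
  exact Zsqrtd.ext (mul_self_eq_zero.mp h1) (mul_self_eq_zero.mp h2)

theorem nrm_ge_parity (z : GaussianInt) : (z.re + z.im) % 2 ≤ nrm z := by
  rcases Int.emod_two_eq_zero_or_one (z.re + z.im) with h | h
  · rw [h]; exact nrm_nonneg z
  · rw [h]
    by_contra hlt
    push Not at hlt
    have h0 : nrm z = 0 := le_antisymm (by omega) (nrm_nonneg z)
    have hz := eq_zero_of_nrm z h0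
    rw [hz] at h
    simp at h

theorem one_le_sq (a : ℤ) (h : a % 2 = 1) : 1 ≤ a * a := by
  have h0 : a ≠ 0 := by intro h'; rw [h'] at h; simp at h
  rcases lt_or_gt_of_ne h0 with h1 | h1 <;> nlinarith

theorem nrm_ge_two (z : GaussianInt) (h1 : z.re % 2 = 1) (h2 : z.im % 2 = 1) : 2 ≤ nrm z := by
  unfold nrm
  have := one_le_sq _ h1
  have := one_le_sq _ h2
  linarith

theorem kill_lemma (x c : RuVec) (T : RuIdx → Prop) (p' : RuIdx)
    (hx : ∀ p, ¬ T p → x p = 0)
    (hc : ∀ p, T p → p ≠ p' → (4 : ℤ) ∣ (c p).re ∧ (4 : ℤ) ∣ (c p).im) (h : (4 : ℤ) ∣ bet x c) :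
    (4 : ℤ) ∣ (x p').re * (c p').re + (x p').im * (c p').im := by
  classical
  unfold bet at h
  rw [← Finset.add_sum_erase Finset.univ _ (Finset.mem_univ p')] at h
  have h2 : (4 : ℤ) ∣ ∑ p ∈ Finset.univ.erase p', ((x p).re * (c p).re + (x p).im * (c p).im) := by
    apply Finset.dvd_sum
    intro p hp
    have hne : p ≠ p' := Finset.ne_of_mem_erase hp
    by_cases hT : T p
    · obtain ⟨h1, h2⟩ := hc p hT hne
      exact dvd_add (Dvd.dvd.mul_left h1 _) (Dvd.dvd.mul_left h2 _)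
    · rw [hx p hT]; simp
  exact (dvd_add_left h2).mp h

theorem par_lemma (R I cr ci : ℤ) (hcr : cr % 4 = 0) (hci : ci % 4 = 2)
    (h : (4 : ℤ) ∣ R * cr + I * ci) : (2 : ℤ) ∣ I := by
  obtain ⟨u, hu⟩ := Int.dvd_of_emod_eq_zero hcr
  have hv : ci = 4 * (ci / 4) + 2 := by omega
  obtain ⟨w, hw⟩ := h
  rw [hu] at hw
  have h2 : I * ci = 4 * (I * (ci / 4)) + 2 * I := by
    conv_lhs => rw [hv]
    ring
  have h3 : 2 * I = 4 * (w - R * u - I * (ci / 4)) := by linear_combination hw - h2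
  exact ⟨w - R * u - I * (ci / 4), by linarith⟩

theorem shape2 {ι : Type*} [Fintype ι] [DecidableEq ι] (f : ι → ℤ) (h : ∑ i, f i * f i = 2) :
    ∃ k l, k ≠ l ∧ (f k = 1 ∨ f k = -1) ∧ (f l = 1 ∨ f l = -1) ∧ ∀ m, m ≠ k → m ≠ l → f m = 0 := by
  have hnn : ∀ i, 0 ≤ f i * f i := fun i => mul_self_nonneg _
  obtain ⟨k, hk⟩ : ∃ k, f k ≠ 0 := by
    by_contra hall
    push Not at hall
    simp [hall] at h
  have hsplit : f k * f k + ∑ i ∈ Finset.univ.erase k, f i * f i = 2 := by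
    rw [Finset.add_sum_erase Finset.univ (fun i => f i * f i) (Finset.mem_univ k)]; exact h
  have hrest_nn : 0 ≤ ∑ i ∈ Finset.univ.erase k, f i * f i := Finset.sum_nonneg (fun i _ => hnn i)
  have hk1 : f k = 1 ∨ f k = -1 := by
    have h1 : f k * f k ≤ 2 := by linarith
    have h2 : -1 ≤ f k := by nlinarith
    have h3 : f k ≤ 1 := by nlinarith
    omega
  have hkk : f k * f k = 1 := by rcases hk1 with h | h <;> rw [h] <;> norm_num
  have hrest : ∑ i ∈ Finset.univ.erase k, f i * f i = 1 := by linarith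
  obtain ⟨l, hl, hl0⟩ : ∃ l ∈ Finset.univ.erase k, f l ≠ 0 := by
    by_contra hall
    push Not at hall
    rw [Finset.sum_eq_zero (fun i hi => by rw [hall i hi]; ring)] at hrest
    norm_num at hrest
  have hsplit2 : f l * f l + ∑ i ∈ (Finset.univ.erase k).erase l, f i * f i = 1 := by
    rw [Finset.add_sum_erase (Finset.univ.erase k) (fun i => f i * f i) hl]; exact hrest
  have hrest2_nn : 0 ≤ ∑ i ∈ (Finset.univ.erase k).erase l, f i * f i :=
    Finset.sum_nonneg (fun i _ => hnn i)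
  have hl1 : f l = 1 ∨ f l = -1 := by
    have h1 : f l * f l ≤ 1 := by linarith
    have h2 : -1 ≤ f l := by nlinarith
    have h3 : f l ≤ 1 := by nlinarith
    omega
  have hll : f l * f l = 1 := by rcases hl1 with h | h <;> rw [h] <;> norm_num
  have hrest2 : ∑ i ∈ (Finset.univ.erase k).erase l, f i * f i = 0 := by linarith
  refine ⟨k, l, (Finset.ne_of_mem_erase hl).symm, hk1, hl1, fun m hmk hml => ?_⟩
  have hm : m ∈ (Finset.univ.erase k).erase l :=
    Finset.mem_erase.mpr ⟨hml, Finset.mem_erase.mpr ⟨hmk, Finset.mem_univ m⟩⟩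
  have := (Finset.sum_eq_zero_iff_of_nonneg (fun i _ => hnn i)).mp hrest2 m hm
  exact mul_self_eq_zero.mp this

theorem bet_gco (x y : RuVec) : bet x y = ∑ k : RuIdx × Bool, gco x k * gco y k := by
  rw [Fintype.sum_prod_type (f := fun k : RuIdx × Bool => gco x k * gco y k)]
  unfold bet
  refine Finset.sum_congr rfl (fun p _ => ?_)
  rw [Fintype.sum_bool]
  simp only [gco]
  simp
  ring

theorem nrm_gco (x : RuVec) : ∑ p, nrm (x p) = ∑ k : RuIdx × Bool, gco x k * gco x k := by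
  rw [Fintype.sum_prod_type (f := fun k : RuIdx × Bool => gco x k * gco x k)]
  refine Finset.sum_congr rfl (fun p _ => ?_)
  rw [Fintype.sum_bool]
  simp only [gco, nrm]
  simp
  ring

end Cfsg.Agent.helper2.Ru
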