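import Mathlib
import Cfsg.Prelude.Def_Spor_Ru
import Cfsg.Agent.Lib_helper2_Ru1
import Cfsg.Agent.Lib_helper2_Ru2
import Cfsg.Agent.Lib_helper2_Ru3
import Cfsg.Agent.Lib_helper2_Ru4
import Cfsg.Agent.Lib_helper2_Ru5

set_option autoImplicit false
set_option maxRecDepth 100000

namespace Cfsg.Agent.helper2.Ru

open Cfsg Cfsg.Spor

theorem no_norm8 {x : RuVec} (hx : x ∈ M) (h8 : ruNorm x = 8) : False := by
  obtain ⟨a, b, hres⟩ := exists_resid hx
  have hsum8 : ∑ p, nrm (x p) = 8 := by rw [← ruNorm_eq_sum]; exact h8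
  have hrho : ∀ p, ((x p).re + (x p).im) % 2 = r1 (sOf a) p := by
    intro p
    obtain ⟨h1, h2⟩ := hres p
    unfold r1
    apply Int.emod_eq_emod_iff_emod_sub_eq_zero.mpr
    apply Int.emod_eq_zero_of_dvd
    have e : ((x p).re + (x p).im) - ∑ j, bz (sOf a j) * (Gre j p + Gim j p)
        = ((x p).re - (∑ j, a j * Gre j p + ∑ j, b j * Kt j p))
          + ((x p).im - (∑ j, a j * Gim j p + ∑ j, b j * Kt j p))
          + 2 * (∑ j, b j * Kt j p)
          + ((∑ j, a j * (Gre j p + Gim j p)) - ∑ j, bz (sOf a j) * (Gre j p + Gim j p)) := by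
      simp only [mul_add, Finset.sum_add_distrib]
      ring
    rw [e]
    exact dvd_add (dvd_add (dvd_add h1 h2) (dvd_mul_right 2 _)) (sum_bz_congr a _)
  rcases T1_of (sOf a) with hz | hbig | ⟨m, n, hmn, hind⟩
  · -- level 2
    have haeven : ∀ j, (2 : ℤ) ∣ a j := by
      intro j
      have := bz_sOf a j
      rw [hz j] at this
      simpa [bz] using this
    have hA : ∀ (g : Fin 9 → ℤ), (2 : ℤ) ∣ ∑ j, a j * g j :=
      fun g => Finset.dvd_sum (fun j _ => Dvd.dvd.mul_right (haeven j) _)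
    have hre : ∀ p, (x p).re % 2 = k2 (sOf b) p := by
      intro p
      obtain ⟨h1, h2⟩ := hres p
      unfold k2
      apply Int.emod_eq_emod_iff_emod_sub_eq_zero.mpr
      apply Int.emod_eq_zero_of_dvd
      have e : (x p).re - ∑ j, bz (sOf b j) * Kt j p
          = ((x p).re - (∑ j, a j * Gre j p + ∑ j, b j * Kt j p)) + (∑ j, a j * Gre j p)
            + ((∑ j, b j * Kt j p) - ∑ j, bz (sOf b j) * Kt j p) := by ring
      rw [e]
      exact dvd_add (dvd_add h1 (hA _)) (sum_bz_congr b _)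
    have him : ∀ p, (x p).im % 2 = k2 (sOf b) p := by
      intro p
      obtain ⟨h1, h2⟩ := hres p
      unfold k2
      apply Int.emod_eq_emod_iff_emod_sub_eq_zero.mpr
      apply Int.emod_eq_zero_of_dvd
      have e : (x p).im - ∑ j, bz (sOf b j) * Kt j p
          = ((x p).im - (∑ j, a j * Gim j p + ∑ j, b j * Kt j p)) + (∑ j, a j * Gim j p)
            + ((∑ j, b j * Kt j p) - ∑ j, bz (sOf b j) * Kt j p) := by ring
      rw [e]
      exact dvd_add (dvd_add h2 (hA _)) (sum_bz_congr b _)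
    rcases T2_of (sOf b) with hk0 | hbig | ⟨n, hind⟩
    · -- everything even
      have hre0 : ∀ p, (x p).re % 2 = 0 := fun p => by rw [hre p, hk0 p]
      have him0 : ∀ p, (x p).im % 2 = 0 := fun p => by rw [him p, hk0 p]
      let z : RuVec := fun p => ⟨(x p).re / 2, (x p).im / 2⟩
      have hxz : ∀ k : RuIdx × Bool, gco x k = 2 * gco z k := by
        rintro ⟨p, b'⟩
        have h1 := hre0 p
        have h2 := him0 p
        cases b' <;> simp only [gco, z] <;> simp <;> omega
      have hz2 : ∑ k : RuIdx × Bool, gco z k * gco z k = 2 := by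
        have h1 : ∑ k : RuIdx × Bool, gco x k * gco x k = 8 := by rw [← nrm_gco]; exact hsum8
        have h2 : ∑ k : RuIdx × Bool, gco x k * gco x k
            = 4 * ∑ k : RuIdx × Bool, gco z k * gco z k := by
          rw [Finset.mul_sum]
          refine Finset.sum_congr rfl (fun k _ => ?_)
          rw [hxz k]; ring
        omega
      obtain ⟨k, l, hkl, hk1, hl1, hrest⟩ := shape2 (gco z) hz2
      obtain ⟨j, hj⟩ := kill3_ok k l hkl
      have hd : (4 : ℤ) ∣ bet x (Bv j) := bet_dvd hx (Bv_mem j)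
      rw [bet_gco] at hd
      have e : ∑ k' : RuIdx × Bool, gco x k' * gco (Bv j) k'
          = 2 * (gco z k * gco (Bv j) k + gco z l * gco (Bv j) l) := by
        have h1 : ∑ k' : RuIdx × Bool, gco x k' * gco (Bv j) k'
            = 2 * ∑ k' : RuIdx × Bool, gco z k' * gco (Bv j) k' := by
          rw [Finset.mul_sum]
          refine Finset.sum_congr rfl (fun k' _ => ?_)
          rw [hxz k']; ring
        rw [h1, Fintype.sum_eq_add k l hkl (fun m hm => by rw [hrest m hm.1 hm.2]; ring)]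
      rw [e] at hd
      rcases hk1 with h | h <;> rcases hl1 with h' | h' <;> rw [h, h'] at hd <;> omega
    · -- big weight
      have hk01 : ∀ p, k2 (sOf b) p = 0 ∨ k2 (sOf b) p = 1 :=
        fun p => Int.emod_two_eq_zero_or_one _
      have hle : ∑ p, 2 * k2 (sOf b) p ≤ ∑ p, nrm (x p) := Finset.sum_le_sum (fun p _ => by
        rcases hk01 p with h | h
        · rw [h]; simpa using nrm_nonneg (x p)
        · rw [h]; exact nrm_ge_two _ (by rw [hre p, h]) (by rw [him p, h]))
      rw [← Finset.mul_sum] at hle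
      omega
    · -- one block
      have hge : ∀ p : RuIdx, 2 * (if p.1 = n then (1 : ℤ) else 0) ≤ nrm (x p) := by
        intro p
        by_cases hp : p.1 = n
        · rw [if_pos hp]
          have h1 : k2 (sOf b) p = 1 := by rw [hind p, if_pos hp]
          exact nrm_ge_two _ (by rw [hre p, h1]) (by rw [him p, h1])
        · rw [if_neg hp]; simpa using nrm_nonneg (x p)
      have hsum : ∑ p : RuIdx, (nrm (x p) - 2 * (if p.1 = n then (1 : ℤ) else 0)) = 0 := by
        rw [Finset.sum_sub_distrib, ← Finset.mul_sum, hsum8, sum_single n]; norm_num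
      have hall := (Finset.sum_eq_zero_iff_of_nonneg (fun p _ => sub_nonneg.mpr (hge p))).mp hsum
      have hx0 : ∀ p : RuIdx, ¬ (p.1 = n) → x p = 0 := fun p hp => eq_zero_of_nrm _ (by
        have := hall p (Finset.mem_univ p)
        rw [if_neg hp] at this
        linarith)
      obtain ⟨hk, hcr, hci⟩ := kill2_ok n
      have d := kill_lemma x (c3 n) (fun p => p.1 = n) (n, 0) hx0
        (fun p hT hne => ⟨Int.dvd_of_emod_eq_zero (hk p hT hne).1,
          Int.dvd_of_emod_eq_zero (hk p hT hne).2⟩)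
        (bet_dvd hx (comb_mem _))
      have hI := par_lemma _ _ _ _ hcr hci d
      have h1 : k2 (sOf b) (n, 0) = 1 := by rw [hind]; simp
      have h2 := him (n, 0)
      rw [h1] at h2
      omega
  · -- big weight
    have hle : ∑ p, r1 (sOf a) p ≤ ∑ p, nrm (x p) :=
      Finset.sum_le_sum (fun p _ => by rw [← hrho p]; exact nrm_ge_parity _)
    omega
  · -- two blocks
    have hge : ∀ p : RuIdx, (if p.1 = m ∨ p.1 = n then (1 : ℤ) else 0) ≤ nrm (x p) := by
      intro p
      rw [← hind p, ← hrho p]; exact nrm_ge_parity _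
    have hsum : ∑ p : RuIdx, (nrm (x p) - (if p.1 = m ∨ p.1 = n then (1 : ℤ) else 0)) = 0 := by
      rw [Finset.sum_sub_distrib, hsum8, sum_pair m n hmn]; norm_num
    have hall := (Finset.sum_eq_zero_iff_of_nonneg (fun p _ => sub_nonneg.mpr (hge p))).mp hsum
    have hx0 : ∀ p : RuIdx, ¬ (p.1 = m ∨ p.1 = n) → x p = 0 := fun p hp => eq_zero_of_nrm _ (by
      have := hall p (Finset.mem_univ p)
      rw [if_neg hp] at this
      linarith)
    have hN1 : nrm (x (m, 0)) = 1 := by
      have := hall (m, 0) (Finset.mem_univ _)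
      rw [if_pos (Or.inl rfl)] at this
      linarith
    obtain ⟨hk, h1re, h1im, h2re, h2im⟩ := kill1_ok m n hmn
    have d1 := kill_lemma x (c1 m n) (fun p => p.1 = m ∨ p.1 = n) (m, 0) hx0
      (fun p hT hne => ⟨Int.dvd_of_emod_eq_zero (hk p hT hne).1,
        Int.dvd_of_emod_eq_zero (hk p hT hne).2.1⟩)
      (bet_dvd hx (comb_mem _))
    have d2 := kill_lemma x (c2 m n) (fun p => p.1 = m ∨ p.1 = n) (m, 0) hx0
      (fun p hT hne => ⟨Int.dvd_of_emod_eq_zero (hk p hT hne).2.2.1,
        Int.dvd_of_emod_eq_zero (hk p hT hne).2.2.2⟩)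
      (bet_dvd hx (comb_mem _))
    have hI := par_lemma _ _ _ _ h1re h1im d1
    have hR := par_lemma _ _ _ _ h2im h2re (by rw [add_comm]; exact d2)
    obtain ⟨r, hr⟩ := hR
    obtain ⟨t, ht⟩ := hI
    unfold nrm at hN1
    have h4 : 4 * (r * r + t * t) = 1 := by rw [← hN1, hr, ht]; ring
    omega

theorem ru_main : (∀ x ∈ Cfsg.Spor.ruLattice, (8 : ℤ) ∣ Cfsg.Spor.ruNorm x) ∧
    (∀ x ∈ Cfsg.Spor.ruLattice, Cfsg.Spor.ruNorm x ≠ 8) ∧
    (∀ x ∈ Cfsg.Spor.ruLattice, x ≠ 0 → 16 ≤ Cfsg.Spor.ruNorm x) ∧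
    ∃ x ∈ Cfsg.Spor.ruLattice, Cfsg.Spor.ruNorm x = 16 := by
  have p1 : ∀ x ∈ Cfsg.Spor.ruLattice, (8 : ℤ) ∣ Cfsg.Spor.ruNorm x :=
    fun x hx => norm_dvd (ruLattice_le hx)
  have p2 : ∀ x ∈ Cfsg.Spor.ruLattice, Cfsg.Spor.ruNorm x ≠ 8 :=
    fun x hx h8 => no_norm8 (ruLattice_le hx) h8
  refine ⟨p1, p2, ?_, ?_⟩
  · intro x hx hx0
    have h1 := p1 x hx
    have h2 := p2 x hx
    have h3 : 0 ≤ ruNorm x := by
      rw [ruNorm_eq_sum]; exact Finset.sum_nonneg (fun p _ => nrm_nonneg _)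
    have h4 : ruNorm x ≠ 0 := by
      intro h0
      apply hx0
      rw [ruNorm_eq_sum] at h0
      have := (Finset.sum_eq_zero_iff_of_nonneg (fun p _ => nrm_nonneg (x p))).mp h0
      funext p
      exact eq_zero_of_nrm _ (this p (Finset.mem_univ p))
    omega
  · refine ⟨ruTable.getD 0 0, ?_, by decide +kernel⟩
    rw [ruLattice, AddSubgroup.mem_sInf]
    intro L hL
    apply hL.1
    have hlen : 0 < ruTable.length := by decide
    rw [List.getD_eq_getElem _ _ hlen]
    exact List.getElem_mem hlen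

end Cfsg.Agent.helper2.Ru
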