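import Mathlib
import Cfsg.Prelude.Def_Involutions

set_option autoImplicit false

namespace Cfsg.Agent.helper2

variable {G : Type*} [Group G] [Finite G]

theorem odd_card_iff_no_involution (K : Subgroup G) :
    Odd (Nat.card K) ↔ ∀ t ∈ K, orderOf t ≠ 2 := by
  constructor
  · intro hodd t ht h2
    have h := orderOf_dvd_natCard (⟨t, ht⟩ : K)
    rw [Subgroup.orderOf_mk, h2] at h
    exact (Nat.not_even_iff_odd.mpr hodd) (even_iff_two_dvd.mpr h)
  · intro h
    by_contra hne
    rw [Nat.not_odd_iff_even, even_iff_two_dvd] at hne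
    have : Fact (Nat.Prime 2) := ⟨Nat.prime_two⟩
    obtain ⟨t, ht⟩ := exists_prime_orderOf_dvd_card' 2 hne
    exact h t.1 t.2 (by rw [Subgroup.orderOf_coe]; exact ht)

omit [Finite G] in
theorem mem_conj_map (H : Subgroup G) (g x : G) :
    x ∈ H.map (MulAut.conj g).toMonoidHom ↔ g⁻¹ * x * g ∈ H := by
  constructor
  · rintro ⟨y, hy, rfl⟩
    simp only [MulEquiv.coe_toMonoidHom, MulAut.conj_apply]
    have : g⁻¹ * (g * y * g⁻¹) * g = y := by group
    rw [this]; exact hy
  · intro h
    refine ⟨g⁻¹ * x * g, h, ?_⟩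
    simp only [MulEquiv.coe_toMonoidHom, MulAut.conj_apply]
    group

/-- `H` is strongly embedded iff it is proper of even order and no involution of `H` has a
conjugate `g⁻¹ t g` in `H` for `g` outside `H`. -/
theorem se_iff (H : Subgroup G) :
    Cfsg.IsStronglyEmbedded H ↔ H ≠ ⊤ ∧ Even (Nat.card H) ∧
      ∀ g : G, g ∉ H → ∀ t ∈ H, orderOf t = 2 → g⁻¹ * t * g ∉ H := by
  unfold Cfsg.IsStronglyEmbedded
  refine and_congr Iff.rfl (and_congr Iff.rfl ?_)
  refine forall_congr' fun g => forall_congr' fun _ => ?_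
  rw [odd_card_iff_no_involution]
  constructor
  · intro h t ht h2 hc
    exact h t ⟨ht, (mem_conj_map H g t).mpr hc⟩ h2
  · intro h t ht h2
    exact h t ht.1 h2 ((mem_conj_map H g t).mp ht.2)

end Cfsg.Agent.helper2
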