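import Cfsg.Agent.Lib_helper2_Frob1

/-! Element orders of `SL(3, ZMod 3)` (and hence of `PSL(3,F)`, `|F| = 3`) via the Cayley-Hamilton
recurrence for 3x3 matrices of determinant one. -/

set_option autoImplicit false

namespace Cfsg.Agent.helper2.Spec

open Matrix

section CH
variable {R : Type*} [CommRing R]

/-- trace of a 3x3 matrix -/
def tr3 (g : Matrix (Fin 3) (Fin 3) R) : R := g 0 0 + g 1 1 + g 2 2

/-- second coefficient of the characteristic polynomial -/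
def sm3 (g : Matrix (Fin 3) (Fin 3) R) : R :=
  (g 0 0 * g 1 1 - g 0 1 * g 1 0) + (g 0 0 * g 2 2 - g 0 2 * g 2 0) + (g 1 1 * g 2 2 - g 1 2 * g 2 1)

theorem cayley3 (g : Matrix (Fin 3) (Fin 3) R) :
    g ^ 3 = tr3 g • g ^ 2 - sm3 g • g + g.det • (1 : Matrix (Fin 3) (Fin 3) R) := by
  ext i j
  fin_cases i <;> fin_cases j <;>
    simp [pow_succ, Matrix.mul_apply, Fin.sum_univ_three, Matrix.det_fin_three, tr3, sm3] <;> ring

/-- coefficients of `g^k` in the basis `1, g, g^2` -/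
def co (t s : R) : ℕ → R × R × R
  | 0 => (1, 0, 0)
  | (k+1) => ((co t s k).2.2, (co t s k).1 - s * (co t s k).2.2, (co t s k).2.1 + t * (co t s k).2.2)

theorem pow_eq_co (g : Matrix (Fin 3) (Fin 3) R) (hg : g.det = 1) (k : ℕ) :
    g ^ k = (co (tr3 g) (sm3 g) k).1 • (1 : Matrix (Fin 3) (Fin 3) R)
      + (co (tr3 g) (sm3 g) k).2.1 • g + (co (tr3 g) (sm3 g) k).2.2 • g ^ 2 := by
  induction k with
  | zero => simp [co]
  | succ k ih =>
    have h3 : g ^ 2 * g = tr3 g • g ^ 2 - sm3 g • g + (1 : Matrix (Fin 3) (Fin 3) R) := by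
      have := cayley3 g
      rw [hg, one_smul] at this
      rw [← this]
      exact (pow_succ g 2).symm
    have hgg : g * g = g ^ 2 := (pow_two g).symm
    rw [pow_succ, ih, add_mul, add_mul, smul_mul_assoc, smul_mul_assoc, smul_mul_assoc, one_mul, hgg,
      h3]
    simp only [co]
    module

theorem pow_eq_one_of_co (g : Matrix (Fin 3) (Fin 3) R) (hg : g.det = 1) (k : ℕ)
    (h : co (tr3 g) (sm3 g) k = (1, 0, 0)) : g ^ k = 1 := by
  rw [pow_eq_co g hg k, h]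
  simp

end CH

abbrev M3 := Matrix (Fin 3) (Fin 3) (ZMod 3)
abbrev L3 := Matrix.SpecialLinearGroup (Fin 3) (ZMod 3)

theorem co_z3 : ∀ t s : ZMod 3, co t s 6 = (1, 0, 0) ∨ co t s 8 = (1, 0, 0) ∨ co t s 13 = (1, 0, 0) := by
  decide

theorem L3_pow (g : L3) : g ^ 6 = 1 ∨ g ^ 8 = 1 ∨ g ^ 13 = 1 := by
  rcases co_z3 (tr3 g.1) (sm3 g.1) with h | h | h
  · left
    apply Subtype.ext
    rw [Matrix.SpecialLinearGroup.coe_pow]
    exact pow_eq_one_of_co g.1 g.2 6 h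
  · right; left
    apply Subtype.ext
    rw [Matrix.SpecialLinearGroup.coe_pow]
    exact pow_eq_one_of_co g.1 g.2 8 h
  · right; right
    apply Subtype.ext
    rw [Matrix.SpecialLinearGroup.coe_pow]
    exact pow_eq_one_of_co g.1 g.2 13 h

theorem L3_order (g : L3) (n : ℕ) (hn : 0 < n) (h1 : pw g.1 n = 1)
    (h2 : ∀ q : ℕ, q.Prime → q ∣ n → pw g.1 (n / q) ≠ 1) : orderOf g = n := by
  apply orderOf_eq_of_pow_and_pow_div_prime hn
  · apply Subtype.ext
    rw [Matrix.SpecialLinearGroup.coe_pow, ← pw_eq]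
    exact h1
  · intro q hq hqn h
    apply h2 q hq hqn
    rw [pw_eq, ← Matrix.SpecialLinearGroup.coe_pow, h]
    rfl

def w13m : M3 := !![0,0,1;1,0,1;0,1,0]
def w8m : M3 := !![0,0,1;1,0,2;0,1,0]
def w4m : M3 := !![0,0,1;1,0,2;0,1,1]
def w6m : M3 := !![0,0,1;1,0,1;0,1,2]
def w3m : M3 := !![0,0,1;1,0,0;0,1,0]
def w2m : M3 := !![2,0,0;0,2,0;0,0,1]

theorem w13_det : w13m.det = 1 := by rw [Matrix.det_fin_three]; decide
theorem w8_det : w8m.det = 1 := by rw [Matrix.det_fin_three]; decide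
theorem w4_det : w4m.det = 1 := by rw [Matrix.det_fin_three]; decide
theorem w6_det : w6m.det = 1 := by rw [Matrix.det_fin_three]; decide
theorem w3_det : w3m.det = 1 := by rw [Matrix.det_fin_three]; decide
theorem w2_det : w2m.det = 1 := by rw [Matrix.det_fin_three]; decide

theorem w13_ord : pw w13m 13 = 1 ∧ pw w13m 1 ≠ 1 := by decide
theorem w8_ord : pw w8m 8 = 1 ∧ pw w8m 4 ≠ 1 := by decide
theorem w4_ord : pw w4m 4 = 1 ∧ pw w4m 2 ≠ 1 := by decide
theorem w6_ord : pw w6m 6 = 1 ∧ pw w6m 3 ≠ 1 ∧ pw w6m 2 ≠ 1 := by decide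
theorem w3_ord : pw w3m 3 = 1 ∧ pw w3m 1 ≠ 1 := by decide
theorem w2_ord : pw w2m 2 = 1 ∧ pw w2m 1 ≠ 1 := by decide

end Cfsg.Agent.helper2.Spec
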