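import Cfsg.Agent.Lib_helper2_Spec1

/-! The set of element orders of `PSL(3,F)`, `|F| = 3`, is `{1,2,3,4,6,8,13}`. -/

set_option autoImplicit false

namespace Cfsg.Agent.helper2.Spec

open Matrix

theorem spec_L3 : Set.range (orderOf : L3 → ℕ) = {1,2,3,4,6,8,13} := by
  ext m
  constructor
  · rintro ⟨g, rfl⟩
    rcases L3_pow g with h | h | h
    · exact mem_of_dvd_6 (orderOf_dvd_of_pow_eq_one h)
    · exact mem_of_dvd_8 (orderOf_dvd_of_pow_eq_one h)
    · exact mem_of_dvd_13 (orderOf_dvd_of_pow_eq_one h)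
  · intro hm
    simp only [Set.mem_insert_iff, Set.mem_singleton_iff] at hm
    rcases hm with rfl | rfl | rfl | rfl | rfl | rfl | rfl
    · exact ⟨1, orderOf_one⟩
    · refine ⟨⟨w2m, w2_det⟩, L3_order _ 2 (by norm_num) w2_ord.1 ?_⟩
      intro q hq hq2
      have : q = 2 := (Nat.prime_dvd_prime_iff_eq hq Nat.prime_two).mp hq2
      subst this
      exact w2_ord.2
    · refine ⟨⟨w3m, w3_det⟩, L3_order _ 3 (by norm_num) w3_ord.1 ?_⟩
      intro q hq hq2
      have : q = 3 := (Nat.prime_dvd_prime_iff_eq hq Nat.prime_three).mp hq2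
      subst this
      exact w3_ord.2
    · refine ⟨⟨w4m, w4_det⟩, L3_order _ 4 (by norm_num) w4_ord.1 ?_⟩
      intro q hq hq2
      have : q = 2 := prime_dvd_4 hq hq2
      subst this
      exact w4_ord.2
    · refine ⟨⟨w6m, w6_det⟩, L3_order _ 6 (by norm_num) w6_ord.1 ?_⟩
      intro q hq hq2
      rcases prime_dvd_6 hq hq2 with rfl | rfl
      · exact w6_ord.2.1
      · exact w6_ord.2.2
    · refine ⟨⟨w8m, w8_det⟩, L3_order _ 8 (by norm_num) w8_ord.1 ?_⟩
      intro q hq hq2
      have : q = 2 := prime_dvd_8 hq hq2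
      subst this
      exact w8_ord.2
    · refine ⟨⟨w13m, w13_det⟩, L3_order _ 13 (by norm_num) w13_ord.1 ?_⟩
      intro q hq hq2
      have : q = 13 := (Nat.prime_dvd_prime_iff_eq hq (by norm_num)).mp hq2
      subst this
      exact w13_ord.2

theorem range_orderOf_congr {G H : Type*} [Group G] [Group H] (e : G ≃* H) :
    Set.range (orderOf : G → ℕ) = Set.range (orderOf : H → ℕ) := by
  ext m
  constructor
  · rintro ⟨g, rfl⟩
    exact ⟨e g, e.orderOf_eq g⟩
  · rintro ⟨h, rfl⟩
    exact ⟨e.symm h, e.symm.orderOf_eq h⟩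

/-! ### The isomorphism `PSL(3,F) ≃* SL(3, ZMod 3)` -/

/-- a ring isomorphism induces an isomorphism of special linear groups -/
def slCongr3 {F K : Type*} [Field F] [Field K] (φ : F ≃+* K) :
    Matrix.SpecialLinearGroup (Fin 3) F ≃* Matrix.SpecialLinearGroup (Fin 3) K where
  toFun := Matrix.SpecialLinearGroup.map φ.toRingHom
  invFun := Matrix.SpecialLinearGroup.map φ.symm.toRingHom
  left_inv A := by
    apply Subtype.ext
    ext i j
    show φ.symm (φ (A.1 i j)) = A.1 i j
    exact φ.symm_apply_apply _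
  right_inv A := by
    apply Subtype.ext
    ext i j
    show φ (φ.symm (A.1 i j)) = A.1 i j
    exact φ.apply_symm_apply _
  map_mul' := map_mul _

theorem center_SL {F : Type*} [Field F] [Fintype F] (hF : Fintype.card F = 3) :
    Subgroup.center (Matrix.SpecialLinearGroup (Fin 3) F) = ⊥ := by
  rw [eq_bot_iff]
  intro A hA
  rw [Matrix.SpecialLinearGroup.mem_center_iff] at hA
  obtain ⟨r, hr, hA'⟩ := hA
  rw [Fintype.card_fin] at hr
  have hr1 : r = 1 := by
    by_cases h0 : r = 0
    · rw [h0] at hr; simp at hr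
    · have h2 : r ^ 2 = 1 := by
        have := FiniteField.pow_card_sub_one_eq_one r h0
        rwa [hF] at this
      have : r ^ 3 = r := by rw [pow_succ, h2, one_mul]
      rw [← this, hr]
  rw [Subgroup.mem_bot]
  apply Subtype.ext
  rw [← hA', hr1]
  simp

/-- `PSL(3,F)` is isomorphic to `SL(3, ZMod 3)` when `F` has three elements -/
noncomputable def pslIso {F : Type*} [Field F] [Fintype F] (hF : Fintype.card F = 3) :
    Matrix.ProjectiveSpecialLinearGroup (Fin 3) F ≃* L3 :=
  (QuotientGroup.quotientMulEquivOfEq (center_SL hF)).trans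
    (QuotientGroup.quotientBot.trans
      (slCongr3 (ZMod.ringEquivOfPrime F (by norm_num) hF).symm))

theorem spec_PSL3 {F : Type*} [Field F] [Fintype F] (hF : Fintype.card F = 3) :
    Set.range (orderOf : Matrix.ProjectiveSpecialLinearGroup (Fin 3) F → ℕ) = {1,2,3,4,6,8,13} := by
  rw [range_orderOf_congr (pslIso hF), spec_L3]

end Cfsg.Agent.helper2.Spec
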