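import Cfsg.Agent.Lib_helper2_Spec1
import Cfsg.Prelude.Def_Classical

/-! `SU(3,F)` for a field of characteristic 3 (Hermitian form `Σ u_i v_i^3`): matrix description,
the relation between the coefficients of the characteristic polynomial. -/

set_option autoImplicit false
set_option linter.unusedSectionVars false

namespace Cfsg.Agent.helper2.Spec

open Matrix

instance fact_prime_3 : Fact (Nat.Prime 3) := ⟨Nat.prime_three⟩

section Unitary
variable {F : Type*} [Field F] [CharP F 3]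

/-- entrywise cube -/
def cube3 (M : Matrix (Fin 3) (Fin 3) F) : Matrix (Fin 3) (Fin 3) F := M.map (· ^ 3)

theorem cube3_apply (M : Matrix (Fin 3) (Fin 3) F) (i j : Fin 3) : cube3 M i j = M i j ^ 3 := rfl

theorem add3_pow (x y z : F) : (x + y + z) ^ 3 = x ^ 3 + y ^ 3 + z ^ 3 := by
  rw [add_pow_char _ _ 3, add_pow_char _ _ 3]

/-- the unitarity condition in entries -/
theorem unitary_entries (M : Matrix (Fin 3) (Fin 3) F) (a b : Fin 3) :
    (Mᵀ * cube3 M) a b = M 0 a * M 0 b ^ 3 + M 1 a * M 1 b ^ 3 + M 2 a * M 2 b ^ 3 := by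
  rw [Matrix.mul_apply, Fin.sum_univ_three]
  rfl

theorem herm_expand (M : Matrix (Fin 3) (Fin 3) F) (u v : Fin 3 → F) :
    Cfsg.hermForm 3 F 3 (M *ᵥ u) (M *ᵥ v) =
      (M 0 0 * u 0 + M 0 1 * u 1 + M 0 2 * u 2) * (M 0 0 * v 0 + M 0 1 * v 1 + M 0 2 * v 2) ^ 3 +
      (M 1 0 * u 0 + M 1 1 * u 1 + M 1 2 * u 2) * (M 1 0 * v 0 + M 1 1 * v 1 + M 1 2 * v 2) ^ 3 +
      (M 2 0 * u 0 + M 2 1 * u 1 + M 2 2 * u 2) * (M 2 0 * v 0 + M 2 1 * v 1 + M 2 2 * v 2) ^ 3 := by
  simp only [Cfsg.hermForm, Matrix.mulVec, dotProduct, Fin.sum_univ_three]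

theorem herm_std (u v : Fin 3 → F) :
    Cfsg.hermForm 3 F 3 u v = u 0 * v 0 ^ 3 + u 1 * v 1 ^ 3 + u 2 * v 2 ^ 3 := by
  simp only [Cfsg.hermForm, Fin.sum_univ_three]

theorem preserves_of_unitary (M : Matrix (Fin 3) (Fin 3) F) (E : Mᵀ * cube3 M = 1)
    (u v : Fin 3 → F) :
    Cfsg.hermForm 3 F 3 (M *ᵥ u) (M *ᵥ v) = Cfsg.hermForm 3 F 3 u v := by
  have e00 := unitary_entries M 0 0
  have e01 := unitary_entries M 0 1
  have e02 := unitary_entries M 0 2
  have e10 := unitary_entries M 1 0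
  have e11 := unitary_entries M 1 1
  have e12 := unitary_entries M 1 2
  have e20 := unitary_entries M 2 0
  have e21 := unitary_entries M 2 1
  have e22 := unitary_entries M 2 2
  rw [E] at e00 e01 e02 e10 e11 e12 e20 e21 e22
  simp only [Matrix.one_apply_eq, ne_eq, Fin.reduceEq, not_false_eq_true, Matrix.one_apply_ne]
    at e00 e01 e02 e10 e11 e12 e20 e21 e22
  rw [herm_expand, herm_std, add3_pow, add3_pow, add3_pow]
  linear_combination (-(u 0 * v 0 ^ 3)) * e00 + (-(u 0 * v 1 ^ 3)) * e01 + (-(u 0 * v 2 ^ 3)) * e02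
    + (-(u 1 * v 0 ^ 3)) * e10 + (-(u 1 * v 1 ^ 3)) * e11 + (-(u 1 * v 2 ^ 3)) * e12
    + (-(u 2 * v 0 ^ 3)) * e20 + (-(u 2 * v 1 ^ 3)) * e21 + (-(u 2 * v 2 ^ 3)) * e22

theorem unitary_of_preserves (M : Matrix (Fin 3) (Fin 3) F)
    (h : ∀ u v : Fin 3 → F, Cfsg.hermForm 3 F 3 (M *ᵥ u) (M *ᵥ v) = Cfsg.hermForm 3 F 3 u v) :
    Mᵀ * cube3 M = 1 := by
  ext a b
  rw [unitary_entries]
  have := h (Pi.single a 1) (Pi.single b 1)
  rw [Matrix.mulVec_single_one, Matrix.mulVec_single_one, herm_std, herm_std] at this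
  simp only [Matrix.col_apply] at this
  rw [this, Matrix.one_apply]
  fin_cases a <;> fin_cases b <;> simp

theorem slToMat_apply (g : Matrix.SpecialLinearGroup (Fin 3) F) : Cfsg.slToMat 3 F g = g.1 := rfl

theorem mem_SU_iff (g : Matrix.SpecialLinearGroup (Fin 3) F) :
    g ∈ Cfsg.SU 3 F 3 ↔ g.1ᵀ * cube3 g.1 = 1 := by
  constructor
  · intro h
    apply unitary_of_preserves
    intro u v
    have := h u v
    rwa [slToMat_apply] at this
  · intro E u v
    rw [slToMat_apply]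
    exact preserves_of_unitary g.1 E u v

theorem sm3_of_unitary (M : Matrix (Fin 3) (Fin 3) F) (hdet : M.det = 1) (E : Mᵀ * cube3 M = 1) :
    sm3 M = tr3 M ^ 3 := by
  have h1 : cube3 M = adjugate Mᵀ := by
    calc cube3 M = (adjugate Mᵀ * Mᵀ) * cube3 M := by
          rw [Matrix.adjugate_mul, Matrix.det_transpose, hdet, one_smul, one_mul]
      _ = adjugate Mᵀ := by rw [Matrix.mul_assoc, E, mul_one]
  have d0 := congrFun (congrFun h1 0) 0
  have d1 := congrFun (congrFun h1 1) 1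
  have d2 := congrFun (congrFun h1 2) 2
  rw [cube3_apply, Matrix.adjugate_fin_three] at d0 d1 d2
  simp at d0 d1 d2
  rw [tr3, add3_pow, d0, d1, d2, sm3]
  ring

end Unitary

end Cfsg.Agent.helper2.Spec
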