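import Cfsg.Agent.Lib_helper2_Spec3

/-! The model `F9 = F_3[i]` of the field with nine elements, its embedding in any field with
nine elements, and transfer of matrix facts. -/

set_option autoImplicit false
set_option linter.unusedSectionVars false
set_option maxRecDepth 100000

namespace Cfsg.Agent.helper2.Spec

open Matrix

abbrev F9 := QuadraticAlgebra (ZMod 3) (-1) 0

instance fintypeF9 : Fintype F9 := Fintype.ofEquiv _ (QuadraticAlgebra.equivProd (-1 : ZMod 3) 0).symm

theorem card_F9 : Fintype.card F9 = 9 := by
  rw [Fintype.card_congr (QuadraticAlgebra.equivProd (-1 : ZMod 3) 0), Fintype.card_prod, ZMod.card]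

theorem co_f9 : ∀ t : F9, co t (t * t * t) 7 = (1, 0, 0) ∨ co t (t * t * t) 8 = (1, 0, 0) ∨
    co t (t * t * t) 12 = (1, 0, 0) := by
  decide +kernel

theorem f9_inv : ∀ x : F9, x = 0 ∨ ∃ y : F9, x * y = 1 := by decide +kernel

section Phi
variable {F : Type*} [Field F] [CharP F 3]

/-- the embedding of the model determined by a square root of `-1` -/
def phi (I : F) (hI : I * I = -1) : F9 →+* F where
  toFun x := (ZMod.castHom (dvd_refl 3) F x.re) + (ZMod.castHom (dvd_refl 3) F x.im) * I
  map_one' := by
    show (ZMod.castHom (dvd_refl 3) F (1 : ZMod 3)) + (ZMod.castHom (dvd_refl 3) F (0 : ZMod 3)) * I = 1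
    rw [map_one, map_zero, zero_mul, add_zero]
  map_zero' := by
    show (ZMod.castHom (dvd_refl 3) F (0 : ZMod 3)) + (ZMod.castHom (dvd_refl 3) F (0 : ZMod 3)) * I = 0
    rw [map_zero, zero_mul, add_zero]
  map_add' x y := by
    simp only [QuadraticAlgebra.re_add, QuadraticAlgebra.im_add, map_add]
    ring
  map_mul' x y := by
    simp only [QuadraticAlgebra.re_mul, QuadraticAlgebra.im_mul, map_add, map_mul, map_neg, map_one,
      map_zero]
    linear_combination (-(ZMod.castHom (dvd_refl 3) F x.im) * (ZMod.castHom (dvd_refl 3) F y.im)) * hI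

theorem phi_injective (I : F) (hI : I * I = -1) : Function.Injective (phi I hI) := by
  rw [injective_iff_map_eq_zero]
  intro x hx
  rcases f9_inv x with h | ⟨y, hy⟩
  · exact h
  · exfalso
    have := congrArg (phi I hI) hy
    rw [map_mul, hx, zero_mul, map_one] at this
    exact zero_ne_one this

theorem phi_surjective [Fintype F] (hF : Fintype.card F = 9) (I : F) (hI : I * I = -1) :
    Function.Surjective (phi I hI) := by
  have := (Fintype.bijective_iff_injective_and_card (phi I hI)).2
    ⟨phi_injective I hI, by rw [hF, card_F9]⟩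
  exact this.2

theorem co_map {R S : Type*} [CommRing R] [CommRing S] (f : R →+* S) (t s : R) (k : ℕ) :
    co (f t) (f s) k = (f (co t s k).1, f (co t s k).2.1, f (co t s k).2.2) := by
  induction k with
  | zero => simp [co]
  | succ k ih => simp only [co, ih, map_sub, map_add, map_mul]

end Phi

theorem charP_of_card {F : Type*} [Field F] [Fintype F] (hF : Fintype.card F = 9) : CharP F 3 := by
  obtain ⟨p, hp⟩ := CharP.exists F
  obtain ⟨n, hpr, hn⟩ := FiniteField.card F p
  have h3 : p ∣ 3 ^ 2 := by
    have : p ∣ p ^ (n : ℕ) := dvd_pow_self p n.ne_zero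
    rw [← hn, hF] at this
    exact this
  have : p = 3 := (Nat.prime_dvd_prime_iff_eq hpr Nat.prime_three).mp (hpr.dvd_of_dvd_pow h3)
  rw [← this]
  exact hp

theorem exists_I {F : Type*} [Field F] [Fintype F] (hF : Fintype.card F = 9) :
    ∃ I : F, I * I = -1 := by
  have : IsSquare (-1 : F) := FiniteField.isSquare_neg_one_iff.mpr (by rw [hF]; norm_num)
  obtain ⟨r, hr⟩ := this
  exact ⟨r, hr.symm⟩

end Cfsg.Agent.helper2.Spec
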