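import Cfsg.Agent.Lib_helper2_Spec4

/-! Element orders of `SU(3,3)` over an arbitrary field with nine elements. -/

set_option autoImplicit false
set_option linter.unusedSectionVars false
set_option maxRecDepth 100000

namespace Cfsg.Agent.helper2.Spec

open Matrix

abbrev M9 := Matrix (Fin 3) (Fin 3) F9

def v2m : M9 := !![0,0,1;0,2,0;1,0,0]
def v3m : M9 := !![0,1,0;0,0,1;1,0,0]
def v4m : M9 := !![0,0,2;0,1,0;1,0,0]
def v6m : M9 := !![1,0,0;0,⟨2,1⟩,⟨2,1⟩;0,⟨1,1⟩,⟨2,2⟩]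
def v7m : M9 := !![0,⟨1,1⟩,⟨2,1⟩;0,⟨1,1⟩,⟨1,2⟩;1,0,0]
def v8m : M9 := !![0,0,1;0,⟨0,1⟩,0;⟨0,1⟩,0,0]
def v12m : M9 := !![0,⟨1,1⟩,⟨1,1⟩;0,⟨2,1⟩,⟨1,2⟩;1,0,0]
def vDm : M9 := !![1,0,0;0,⟨0,1⟩,0;0,0,⟨0,2⟩]

/-- unitarity over the model -/
def IsU (W : M9) : Prop := Wᵀ * W.map (fun x => x * x * x) = 1

instance (W : M9) : Decidable (IsU W) := by unfold IsU; infer_instance

theorem v2_det : v2m.det = 1 := by rw [Matrix.det_fin_three]; decide +kernel
theorem v3_det : v3m.det = 1 := by rw [Matrix.det_fin_three]; decide +kernel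
theorem v4_det : v4m.det = 1 := by rw [Matrix.det_fin_three]; decide +kernel
theorem v6_det : v6m.det = 1 := by rw [Matrix.det_fin_three]; decide +kernel
theorem v7_det : v7m.det = 1 := by rw [Matrix.det_fin_three]; decide +kernel
theorem v8_det : v8m.det = 1 := by rw [Matrix.det_fin_three]; decide +kernel
theorem v12_det : v12m.det = 1 := by rw [Matrix.det_fin_three]; decide +kernel
theorem vD_det : vDm.det = 1 := by rw [Matrix.det_fin_three]; decide +kernel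

theorem v2_U : IsU v2m := by decide +kernel
theorem v3_U : IsU v3m := by decide +kernel
theorem v4_U : IsU v4m := by decide +kernel
theorem v6_U : IsU v6m := by decide +kernel
theorem v7_U : IsU v7m := by decide +kernel
theorem v8_U : IsU v8m := by decide +kernel
theorem v12_U : IsU v12m := by decide +kernel
theorem vD_U : IsU vDm := by decide +kernel

theorem v2_ord : pw v2m 2 = 1 ∧ pw v2m 1 ≠ 1 := by decide +kernel
theorem v3_ord : pw v3m 3 = 1 ∧ pw v3m 1 ≠ 1 := by decide +kernel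
theorem v4_ord : pw v4m 4 = 1 ∧ pw v4m 2 ≠ 1 := by decide +kernel
theorem v6_ord : pw v6m 6 = 1 ∧ pw v6m 3 ≠ 1 ∧ pw v6m 2 ≠ 1 := by decide +kernel
theorem v7_ord : pw v7m 7 = 1 ∧ pw v7m 1 ≠ 1 := by decide +kernel
theorem v8_ord : pw v8m 8 = 1 ∧ pw v8m 4 ≠ 1 := by decide +kernel
theorem v12_ord : pw v12m 12 = 1 ∧ pw v12m 6 ≠ 1 ∧ pw v12m 4 ≠ 1 := by decide +kernel

end Cfsg.Agent.helper2.Spec
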