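import Cfsg.Agent.Lib_helper2_Spec5

/-! Element orders of `PSU(3,3)` over an arbitrary field with nine elements. -/

set_option autoImplicit false
set_option linter.unusedSectionVars false

namespace Cfsg.Agent.helper2.Spec

open Matrix

section SUelt
variable {F : Type*} [Field F] [CharP F 3] (I : F) (hI : I * I = -1)

theorem cube3_map (W : M9) :
    cube3 (W.map (phi I hI)) = (W.map (fun x => x * x * x)).map (phi I hI) := by
  ext i j
  rw [cube3_apply, Matrix.map_apply, Matrix.map_apply, Matrix.map_apply, map_mul, map_mul]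
  ring

theorem unitary_map (W : M9) (hU : IsU W) :
    (W.map (phi I hI))ᵀ * cube3 (W.map (phi I hI)) = 1 := by
  have h1 : (W.map (phi I hI))ᵀ = (Wᵀ).map (phi I hI) := by
    ext i j; rfl
  rw [cube3_map, h1, ← Matrix.map_mul, hU]
  ext i j
  rw [Matrix.map_apply, Matrix.one_apply, Matrix.one_apply]
  split_ifs
  · exact map_one _
  · exact map_zero _

theorem det_map (W : M9) (hdet : W.det = 1) : (W.map (phi I hI)).det = 1 := by
  have := RingHom.map_det (phi I hI) W
  rw [hdet, map_one] at this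
  rw [this]
  rfl

/-- the element of `SU(3,F)` given by a unitary matrix over the model -/
def mkSU (W : M9) (hdet : W.det = 1) (hU : IsU W) : Cfsg.SU 3 F 3 :=
  ⟨⟨W.map (phi I hI), det_map I hI W hdet⟩, (mem_SU_iff _).2 (unitary_map I hI W hU)⟩

theorem mkSU_val (W : M9) (hdet : W.det = 1) (hU : IsU W) :
    (mkSU I hI W hdet hU).1.1 = W.map (phi I hI) := rfl

theorem su_pow_val (g : Cfsg.SU 3 F 3) (k : ℕ) : (g ^ k).1.1 = g.1.1 ^ k := by
  rw [Subgroup.coe_pow, Matrix.SpecialLinearGroup.coe_pow]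

theorem su_eq_one_iff (g : Cfsg.SU 3 F 3) : g = 1 ↔ g.1.1 = 1 := by
  constructor
  · intro h; rw [h]; rfl
  · intro h
    apply Subtype.ext
    apply Subtype.ext
    exact h

theorem map_pow_eq_one_iff (W : M9) (k : ℕ) : (W.map (phi I hI)) ^ k = 1 ↔ W ^ k = 1 := by
  have h1 : W.map (phi I hI) = (phi I hI).mapMatrix W := rfl
  rw [h1, ← map_pow]
  constructor
  · intro h
    have hinj : Function.Injective ((phi I hI).mapMatrix (m := Fin 3)) :=
      Matrix.map_injective (phi_injective I hI)
    apply hinj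
    rw [h, map_one]
  · intro h
    rw [h, map_one]

theorem orderOf_mkSU (W : M9) (hdet : W.det = 1) (hU : IsU W) :
    orderOf (mkSU I hI W hdet hU) = orderOf W := by
  rw [orderOf_eq_orderOf_iff]
  intro k
  rw [su_eq_one_iff, su_pow_val, mkSU_val, map_pow_eq_one_iff]

theorem orderOf_M9 (W : M9) (n : ℕ) (hn : 0 < n) (h1 : pw W n = 1)
    (h2 : ∀ q : ℕ, q.Prime → q ∣ n → pw W (n / q) ≠ 1) : orderOf W = n := by
  apply orderOf_eq_of_pow_and_pow_div_prime hn
  · rw [← pw_eq]; exact h1
  · intro q hq hqn h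
    apply h2 q hq hqn
    rw [pw_eq, h]

end SUelt

end Cfsg.Agent.helper2.Spec
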