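import Cfsg.Agent.Lib_helper2_Spec6

/-! Element orders of `PSU(3,3)`: upper bound, witnesses, triviality of the centre. -/

set_option autoImplicit false
set_option linter.unusedSectionVars false

namespace Cfsg.Agent.helper2.Spec

open Matrix

section Main
variable {F : Type*} [Field F] [CharP F 3]

theorem SU_pow [Fintype F] (hF : Fintype.card F = 9) (I : F) (hI : I * I = -1) (g : Cfsg.SU 3 F 3) :
    g ^ 7 = 1 ∨ g ^ 8 = 1 ∨ g ^ 12 = 1 := by
  have hdet : g.1.1.det = 1 := g.1.2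
  have E := (mem_SU_iff g.1).1 g.2
  have hs := sm3_of_unitary g.1.1 hdet E
  obtain ⟨r, hr⟩ := phi_surjective hF I hI (tr3 g.1.1)
  have hs' : sm3 g.1.1 = phi I hI (r * r * r) := by
    rw [hs, ← hr, map_mul, map_mul]; ring
  have key : ∀ N : ℕ, co r (r * r * r) N = (1, 0, 0) → g ^ N = 1 := by
    intro N hN
    rw [su_eq_one_iff, su_pow_val]
    apply pow_eq_one_of_co g.1.1 hdet N
    rw [hs', ← hr, co_map, hN]
    simp
  rcases co_f9 r with h | h | h
  · exact Or.inl (key 7 h)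
  · exact Or.inr (Or.inl (key 8 h))
  · exact Or.inr (Or.inr (key 12 h))

theorem prime_dvd_7 {q : ℕ} (hq : q.Prime) (h : q ∣ 7) : q = 7 :=
  (Nat.prime_dvd_prime_iff_eq hq (by norm_num)).mp h

theorem prime_dvd_12' {q : ℕ} (hq : q.Prime) (h : q ∣ 12) : q = 2 ∨ q = 3 := by
  have h12 : (12 : ℕ) = 2 ^ 2 * 3 := by norm_num
  rw [h12] at h
  rcases (Nat.Prime.dvd_mul hq).mp h with h | h
  · exact Or.inl ((Nat.prime_dvd_prime_iff_eq hq Nat.prime_two).mp (hq.dvd_of_dvd_pow h))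
  · exact Or.inr ((Nat.prime_dvd_prime_iff_eq hq Nat.prime_three).mp h)

theorem SU_witness (I : F) (hI : I * I = -1) (n : ℕ) (hn : n ∈ ({1,2,3,4,6,7,8,12} : Set ℕ)) :
    ∃ g : Cfsg.SU 3 F 3, orderOf g = n := by
  simp only [Set.mem_insert_iff, Set.mem_singleton_iff] at hn
  rcases hn with rfl | rfl | rfl | rfl | rfl | rfl | rfl | rfl
  · exact ⟨1, orderOf_one⟩
  · refine ⟨mkSU I hI v2m v2_det v2_U, ?_⟩
    rw [orderOf_mkSU]
    apply orderOf_M9 _ 2 (by norm_num) v2_ord.1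
    intro q hq hq2
    have : q = 2 := (Nat.prime_dvd_prime_iff_eq hq Nat.prime_two).mp hq2
    subst this
    exact v2_ord.2
  · refine ⟨mkSU I hI v3m v3_det v3_U, ?_⟩
    rw [orderOf_mkSU]
    apply orderOf_M9 _ 3 (by norm_num) v3_ord.1
    intro q hq hq2
    have : q = 3 := (Nat.prime_dvd_prime_iff_eq hq Nat.prime_three).mp hq2
    subst this
    exact v3_ord.2
  · refine ⟨mkSU I hI v4m v4_det v4_U, ?_⟩
    rw [orderOf_mkSU]
    apply orderOf_M9 _ 4 (by norm_num) v4_ord.1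
    intro q hq hq2
    have : q = 2 := prime_dvd_4 hq hq2
    subst this
    exact v4_ord.2
  · refine ⟨mkSU I hI v6m v6_det v6_U, ?_⟩
    rw [orderOf_mkSU]
    apply orderOf_M9 _ 6 (by norm_num) v6_ord.1
    intro q hq hq2
    rcases prime_dvd_6 hq hq2 with rfl | rfl
    · exact v6_ord.2.1
    · exact v6_ord.2.2
  · refine ⟨mkSU I hI v7m v7_det v7_U, ?_⟩
    rw [orderOf_mkSU]
    apply orderOf_M9 _ 7 (by norm_num) v7_ord.1
    intro q hq hq2
    have : q = 7 := prime_dvd_7 hq hq2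
    subst this
    exact v7_ord.2
  · refine ⟨mkSU I hI v8m v8_det v8_U, ?_⟩
    rw [orderOf_mkSU]
    apply orderOf_M9 _ 8 (by norm_num) v8_ord.1
    intro q hq hq2
    have : q = 2 := prime_dvd_8 hq hq2
    subst this
    exact v8_ord.2
  · refine ⟨mkSU I hI v12m v12_det v12_U, ?_⟩
    rw [orderOf_mkSU]
    apply orderOf_M9 _ 12 (by norm_num) v12_ord.1
    intro q hq hq2
    rcases prime_dvd_12' hq hq2 with rfl | rfl
    · exact v12_ord.2.1
    · exact v12_ord.2.2

end Main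

end Cfsg.Agent.helper2.Spec
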