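import Cfsg.Agent.Lib_helper2_Spec7

/-! The centre of `SU(3,3)` is trivial; element orders of `PSU(3,3)`. -/

set_option autoImplicit false
set_option linter.unusedSectionVars false
set_option maxRecDepth 100000

namespace Cfsg.Agent.helper2.Spec

open Matrix

def dvec : Fin 3 → F9 := ![1, ⟨0,1⟩, ⟨0,2⟩]

theorem vD_diag : vDm = Matrix.diagonal dvec := by decide +kernel

theorem dvec_inj : ∀ i j : Fin 3, dvec i = dvec j → i = j := by decide +kernel

theorem v3_eq : v3m = Matrix.of (fun i j : Fin 3 => if j = i + 1 then (1 : F9) else 0) := by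
  decide +kernel

theorem v3_entries (i j : Fin 3) : v3m i j = if j = i + 1 then 1 else 0 :=
  congrFun (congrFun v3_eq i) j

section Center
variable {F : Type*} [Field F] [CharP F 3]

theorem center_SU (I : F) (hI : I * I = -1) : Subgroup.center (Cfsg.SU 3 F 3) = ⊥ := by
  rw [eq_bot_iff]
  intro z hz
  rw [Subgroup.mem_center_iff] at hz
  rw [Subgroup.mem_bot, su_eq_one_iff]
  have hD : (vDm.map (phi I hI)) * z.1.1 = z.1.1 * (vDm.map (phi I hI)) :=
    congrArg (fun x : Cfsg.SU 3 F 3 => x.1.1) (hz (mkSU I hI vDm vD_det vD_U))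
  have hP : (v3m.map (phi I hI)) * z.1.1 = z.1.1 * (v3m.map (phi I hI)) :=
    congrArg (fun x : Cfsg.SU 3 F 3 => x.1.1) (hz (mkSU I hI v3m v3_det v3_U))
  have hdet : z.1.1.det = 1 := z.1.2
  have E := (mem_SU_iff z.1).1 z.2
  generalize z.1.1 = Z at hD hP hdet E ⊢
  -- off-diagonal entries vanish
  have hoff : ∀ i j : Fin 3, i ≠ j → Z i j = 0 := by
    intro i j hij
    rw [vD_diag, Matrix.diagonal_map (map_zero _)] at hD
    have e := congrFun (congrFun hD i) j
    rw [Matrix.diagonal_mul, Matrix.mul_diagonal] at e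
    have hne : phi I hI (dvec i) - phi I hI (dvec j) ≠ 0 := by
      intro h
      apply hij
      apply dvec_inj
      apply phi_injective I hI
      exact sub_eq_zero.mp h
    have : (phi I hI (dvec i) - phi I hI (dvec j)) * Z i j = 0 := by
      linear_combination e
    rcases mul_eq_zero.mp this with h | h
    · exact absurd h hne
    · exact h
  -- diagonal entries agree
  have hPe : ∀ i j : Fin 3, (v3m.map (phi I hI)) i j = if j = i + 1 then 1 else 0 := by
    intro i j
    rw [Matrix.map_apply, v3_entries]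
    split_ifs
    · exact map_one _
    · exact map_zero _
  have e01 := congrFun (congrFun hP 0) 1
  have e12 := congrFun (congrFun hP 1) 2
  rw [Matrix.mul_apply, Matrix.mul_apply, Fin.sum_univ_three, Fin.sum_univ_three] at e01 e12
  simp only [hPe] at e01 e12
  simp (config := {decide := true}) at e01 e12
  -- now `Z` is scalar
  have hZ : ∀ i j : Fin 3, Z i j = if i = j then Z 0 0 else 0 := by
    intro i j
    by_cases hij : i = j
    · subst hij
      rw [if_pos rfl]
      fin_cases i
      · rfl
      · exact e01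
      · show Z 2 2 = Z 0 0
        rw [e12, e01]
    · rw [if_neg hij]
      exact hoff i j hij
  have h3 : Z 0 0 ^ 3 = 1 := by
    rw [Matrix.det_fin_three] at hdet
    rw [hZ 0 1, hZ 0 2, hZ 1 0, hZ 1 2, hZ 2 0, hZ 2 1, hZ 1 1, hZ 2 2] at hdet
    simp (config := {decide := true}) at hdet
    linear_combination hdet
  have h4 : Z 0 0 * Z 0 0 ^ 3 = 1 := by
    have := unitary_entries Z 0 0
    rw [E, Matrix.one_apply_eq, hZ 1 0, hZ 2 0] at this
    simp (config := {decide := true}) at this
    exact this.symm
  have h1 : Z 0 0 = 1 := by rw [h3, mul_one] at h4; exact h4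
  ext i j
  rw [hZ i j, h1, Matrix.one_apply]

end Center

end Cfsg.Agent.helper2.Spec
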