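import Cfsg.Agent.Lib_helper2_Spec8
import Cfsg.Agent.Lib_helper2_Spec2
import Cfsg.Agent.Lib_helper2_Frob5

/-! The set of element orders of `PSU(3,3)` is `{1,2,3,4,6,7,8,12}`. -/

set_option autoImplicit false

namespace Cfsg.Agent.helper2.Spec

theorem spec_PSU3 {F : Type*} [Field F] [Fintype F] (hF : Fintype.card F = 9) :
    Set.range (orderOf : Cfsg.PSU 3 F 3 → ℕ) = {1,2,3,4,6,7,8,12} := by
  have := charP_of_card hF
  obtain ⟨I, hI⟩ := exists_I hF
  have e : Cfsg.PSU 3 F 3 ≃* Cfsg.SU 3 F 3 :=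
    (QuotientGroup.quotientMulEquivOfEq (center_SU I hI)).trans QuotientGroup.quotientBot
  rw [range_orderOf_congr e]
  ext m
  constructor
  · rintro ⟨g, rfl⟩
    rcases SU_pow hF I hI g with h | h | h
    · exact mem'_of_dvd_7 (orderOf_dvd_of_pow_eq_one h)
    · exact mem'_of_dvd_8 (orderOf_dvd_of_pow_eq_one h)
    · exact mem'_of_dvd_12 (orderOf_dvd_of_pow_eq_one h)
  · intro hm
    exact SU_witness I hI m hm

end Cfsg.Agent.helper2.Spec
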