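import Mathlib
import Cfsg.Agent.Lib_helper2_Sext3

set_option autoImplicit false
set_option linter.constructorNameAsVariable false

namespace Cfsg.Agent.helper2.Syl2

open Cfsg Cfsg.Agent.helper27 Cfsg.Agent.helper2.Golay
open scoped Pointwise

/-! ### A Sylow 2-subgroup of `M24` as the stabiliser of a structure on the base octad -/

/-- The four pairs of the structure. -/
def piL : List ℕ := [3, 12, 16416, 8519680]

/-- The two blocks of the structure. -/
def beL : List ℕ := [15, 8536096]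

/-- Elements of the base group separating points. -/
def wL : List (List ℕ × List ℕ) := [
  ([0, 1, 2, 3, 4, 14, 9, 7, 19, 6, 10, 22, 12, 21, 5, 16, 15, 23, 20, 8, 18, 13, 11, 17], [0, 1, 2, 3, 4, 14, 9, 7, 19, 6, 10, 22, 12, 21, 5, 16, 15, 23, 20, 8, 18, 13, 11, 17]),
  ([1, 0, 3, 2, 4, 5, 9, 7, 15, 6, 10, 22, 12, 20, 14, 8, 19, 17, 21, 16, 13, 18, 11, 23], [1, 0, 3, 2, 4, 5, 9, 7, 15, 6, 10, 22, 12, 20, 14, 8, 19, 17, 21, 16, 13, 18, 11, 23]),
  ([0, 1, 3, 2, 4, 5, 9, 10, 13, 6, 7, 11, 12, 8, 14, 20, 18, 23, 16, 21, 15, 19, 22, 17], [0, 1, 3, 2, 4, 5, 9, 10, 13, 6, 7, 11, 12, 8, 14, 20, 18, 23, 16, 21, 15, 19, 22, 17]),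
  ([1, 0, 2, 3, 4, 14, 9, 10, 18, 6, 7, 11, 12, 16, 5, 21, 13, 17, 8, 20, 19, 15, 22, 23], [1, 0, 2, 3, 4, 14, 9, 10, 18, 6, 7, 11, 12, 16, 5, 21, 13, 17, 8, 20, 19, 15, 22, 23]),
  ([0, 1, 2, 3, 10, 23, 6, 12, 16, 9, 4, 11, 7, 21, 17, 19, 8, 14, 20, 15, 18, 13, 22, 5], [0, 1, 2, 3, 10, 23, 6, 12, 16, 9, 4, 11, 7, 21, 17, 19, 8, 14, 20, 15, 18, 13, 22, 5]),
  ([2, 3, 0, 1, 11, 5, 4, 9, 18, 12, 6, 10, 22, 15, 14, 20, 13, 17, 19, 21, 16, 8, 7, 23], [2, 3, 0, 1, 6, 5, 10, 22, 21, 7, 11, 4, 9, 16, 14, 13, 20, 17, 8, 18, 15, 19, 12, 23])]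

/-- The base group. -/
abbrev R0 : Subgroup (Equiv.Perm GolayPt) := famStab [] [cw 47] [piL, beL]

theorem wL_ok : famGensOK [] [cw 47] [piL, beL] wL = true := by decide +kernel

theorem mem_R0 {g : Equiv.Perm GolayPt} : g ∈ R0 ↔ g ∈ M24 ∧ g • pts (cw 47) = pts (cw 47) ∧
    g • famFin piL = famFin piL ∧ g • famFin beL = famFin beL := by
  rw [mem_famStab, mem_cfgStab]
  constructor
  · rintro ⟨⟨h1, _, h3⟩, h4⟩
    exact ⟨h1, h3 _ (by simp), h4 _ (by simp), h4 _ (by simp)⟩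
  · rintro ⟨h1, h2, h3, h4⟩
    refine ⟨⟨h1, fun i hi => by simp at hi, fun a ha => ?_⟩, fun F hF => ?_⟩
    · rw [List.mem_singleton] at ha
      rw [ha]
      exact h2
    · simp only [List.mem_cons, List.not_mem_nil, or_false] at hF
      rcases hF with rfl | rfl
      · exact h3
      · exact h4

/-- The points of the base octad. -/
def O8 : List ℕ := [0, 1, 2, 3, 5, 14, 17, 23]

/-- The partner of a point. -/
def par (c : ℕ) : ℕ :=
  if c = 0 then 1 else if c = 1 then 0 else if c = 2 then 3 else if c = 3 then 2 else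
  if c = 5 then 14 else if c = 14 then 5 else if c = 17 then 23 else 17

/-- The pair of a point. -/
def pairMask (c : ℕ) : ℕ := 2 ^ c ||| 2 ^ par c

/-- The block of a point. -/
def blkMask (c : ℕ) : ℕ := if c < 4 then 15 else 8536096

theorem O8_lt : ∀ c ∈ O8, c < 24 := by decide

theorem mem_o0_iff (p : GolayPt) : p ∈ pts (cw 47) ↔ idx p ∈ O8 := o0_testBit p

theorem pt_mem_o0 {c : ℕ} (hc : c ∈ O8) : pt c ∈ pts (cw 47) := by
  rw [mem_o0_iff, idx_pt c (O8_lt c hc)]
  exact hc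

theorem par_facts : ∀ c ∈ O8, par c ∈ O8 ∧ par c ≠ c ∧ par (par c) = c ∧ pairMask c ∈ piL ∧
    blkMask c ∈ beL ∧ blkMask (par c) = blkMask c := by decide

theorem pair_unique : ∀ c ∈ O8, ∀ a ∈ piL, a.testBit c = true → a = pairMask c := by decide

theorem blk_unique : ∀ c ∈ O8, ∀ a ∈ beL, a.testBit c = true → a = blkMask c := by decide

theorem pair_bits : ∀ c ∈ O8, (pairMask c).testBit c = true ∧ (pairMask c).testBit (par c) = true ∧
    ∀ i < 24, (pairMask c).testBit i = true → i = c ∨ i = par c := by decide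

theorem blk_bits : ∀ c ∈ O8, (blkMask c).testBit c = true ∧
    ∀ i < 24, (blkMask c).testBit i = true → i ∈ O8 ∧ blkMask i = blkMask c := by decide

theorem blk_bits' : ∀ c ∈ O8, ∀ i ∈ O8, blkMask i = blkMask c → (blkMask c).testBit i = true := by
  decide

theorem blk_four : ∀ c ∈ O8, ∀ d ∈ O8, blkMask d = blkMask c → d ≠ c → d ≠ par c →
    ∀ i ∈ O8, blkMask i = blkMask c → i = c ∨ i = par c ∨ i = d ∨ i = par d := by decide

theorem piL_sub : ∀ a ∈ piL, a &&& cw 47 = a ∧ a < 2 ^ 24 := by decide +kernel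

theorem beL_sub : ∀ a ∈ beL, a &&& cw 47 = a ∧ a < 2 ^ 24 := by decide +kernel

theorem piL_rep : ∀ a ∈ piL, ∃ c ∈ O8, a = pairMask c := by decide

theorem beL_rep : ∀ a ∈ beL, ∃ c ∈ O8, a = blkMask c := by decide

theorem wit1 : ∀ c1 ∈ O8, ∀ c2 ∈ O8, c2 ≠ c1 → c2 ≠ par c1 →
    ∃ w ∈ wL, tb w.1 c1 = c1 ∧ tb w.1 c2 ≠ c2 := by decide +kernel

theorem wit2 : ∀ x ∈ O8, ∀ y ∈ O8, blkMask y ≠ blkMask x → ∃ r1 ∈ wL, ∃ r2 ∈ wL,
    tb r1.1 x = x ∧ tb r2.1 x = x ∧ tb r1.1 y ≠ y ∧ tb r2.1 y ≠ y ∧ tb r1.1 y ≠ tb r2.1 y := by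
  decide +kernel

/-- The index of the image of a point. -/
def ix (g : Equiv.Perm GolayPt) (c : ℕ) : ℕ := idx (g (pt c))

theorem apply_pt (g : Equiv.Perm GolayPt) (c : ℕ) : g (pt c) = pt (ix g c) := (pt_idx _).symm

theorem ix_mem {g : Equiv.Perm GolayPt} (hg : g • pts (cw 47) = pts (cw 47)) {c : ℕ} (hc : c ∈ O8) :
    ix g c ∈ O8 := by
  unfold ix
  rw [← mem_o0_iff, ← hg, perm_mem_smul_iff]
  exact pt_mem_o0 hc

theorem ix_inj (g : Equiv.Perm GolayPt) {c d : ℕ} (hc : c < 24) (hd : d < 24)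
    (h : ix g c = ix g d) : c = d := by
  have h1 : g (pt c) = g (pt d) := by rw [apply_pt, apply_pt, h]
  have h2 := congrArg idx (g.injective h1)
  rwa [idx_pt c hc, idx_pt d hd] at h2

theorem mem_pts_pairMask {c : ℕ} (hc : c ∈ O8) {p : GolayPt} (hp : p ∈ pts (pairMask c)) :
    p = pt c ∨ p = pt (par c) := by
  rw [mem_pts] at hp
  rcases (pair_bits c hc).2.2 _ (idx_lt p) hp with h | h
  · left; rw [← h, pt_idx]
  · right; rw [← h, pt_idx]

/-- The member of a family containing a given point is determined. -/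
theorem smul_pair {r : Equiv.Perm GolayPt} (hr : r ∈ R0) {c : ℕ} (hc : c ∈ O8) :
    r • pts (pairMask c) = pts (pairMask (ix r c)) := by
  obtain ⟨_, h2, h3, _⟩ := mem_R0.mp hr
  have hmem : r • pts (pairMask c) ∈ famFin piL := by
    rw [← h3]
    exact Finset.smul_mem_smul_finset (mem_famFin.mpr ⟨_, (par_facts c hc).2.2.2.1, rfl⟩)
  obtain ⟨a, ha, hae⟩ := mem_famFin.mp hmem
  have hin : r (pt c) ∈ r • pts (pairMask c) := by
    rw [perm_mem_smul_iff, mem_pts, idx_pt c (O8_lt c hc)]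
    exact (pair_bits c hc).1
  rw [← hae, apply_pt, mem_pts_pt (O8_lt _ (ix_mem h2 hc))] at hin
  rw [← hae, pair_unique _ (ix_mem h2 hc) a ha hin]

theorem smul_blk {r : Equiv.Perm GolayPt} (hr : r ∈ R0) {c : ℕ} (hc : c ∈ O8) :
    r • pts (blkMask c) = pts (blkMask (ix r c)) := by
  obtain ⟨_, h2, _, h4⟩ := mem_R0.mp hr
  have hmem : r • pts (blkMask c) ∈ famFin beL := by
    rw [← h4]
    exact Finset.smul_mem_smul_finset (mem_famFin.mpr ⟨_, (par_facts c hc).2.2.2.2.1, rfl⟩)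
  obtain ⟨a, ha, hae⟩ := mem_famFin.mp hmem
  have hin : r (pt c) ∈ r • pts (blkMask c) := by
    rw [perm_mem_smul_iff, mem_pts, idx_pt c (O8_lt c hc)]
    exact (blk_bits c hc).1
  rw [← hae, apply_pt, mem_pts_pt (O8_lt _ (ix_mem h2 hc))] at hin
  rw [← hae, blk_unique _ (ix_mem h2 hc) a ha hin]

/-- Elements of the base group respect partners. -/
theorem ix_par {r : Equiv.Perm GolayPt} (hr : r ∈ R0) {c : ℕ} (hc : c ∈ O8) :
    ix r (par c) = par (ix r c) := by
  obtain ⟨_, h2, _, _⟩ := mem_R0.mp hr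
  have hpc := (par_facts c hc)
  have hin : r (pt (par c)) ∈ r • pts (pairMask c) := by
    rw [perm_mem_smul_iff, mem_pts, idx_pt _ (O8_lt _ hpc.1)]
    exact (pair_bits c hc).2.1
  rw [smul_pair hr hc, apply_pt] at hin
  rcases mem_pts_pairMask (ix_mem h2 hc) hin with h | h
  · exfalso
    have h3 := congrArg idx h
    rw [idx_pt _ (O8_lt _ (ix_mem h2 hpc.1)), idx_pt _ (O8_lt _ (ix_mem h2 hc))] at h3
    exact hpc.2.1 (ix_inj r (O8_lt _ hpc.1) (O8_lt _ hc) h3)
  · have h3 := congrArg idx h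
    rwa [idx_pt _ (O8_lt _ (ix_mem h2 hpc.1)),
      idx_pt _ (O8_lt _ (par_facts _ (ix_mem h2 hc)).1)] at h3

/-- Elements of the base group respect blocks. -/
theorem ix_blk {r : Equiv.Perm GolayPt} (hr : r ∈ R0) {c d : ℕ} (hc : c ∈ O8) (hd : d ∈ O8)
    (h : blkMask d = blkMask c) : blkMask (ix r d) = blkMask (ix r c) := by
  obtain ⟨_, h2, _, _⟩ := mem_R0.mp hr
  have hin : r (pt d) ∈ r • pts (blkMask c) := by
    rw [perm_mem_smul_iff, mem_pts, idx_pt _ (O8_lt _ hd)]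
    exact blk_bits' c hc d hd h
  rw [smul_blk hr hc, apply_pt, mem_pts_pt (O8_lt _ (ix_mem h2 hd))] at hin
  exact ((blk_bits _ (ix_mem h2 hc)).2 _ (O8_lt _ (ix_mem h2 hd)) hin).2

/-! ### The pointwise stabiliser of the octad lies in the base group -/

theorem smul_eq_of_fix {k : Equiv.Perm GolayPt} {s : Finset GolayPt} (h : ∀ p ∈ s, k p = p) :
    k • s = s := by
  apply Finset.eq_of_subset_of_card_le
  · intro q hq
    obtain ⟨p, hp, rfl⟩ := Finset.mem_smul_finset.mp hq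
    rw [Equiv.Perm.smul_def, h p hp]
    exact hp
  · rw [Finset.card_smul_finset]

theorem smul_fam_eq_of_fix {k : Equiv.Perm GolayPt} {F : Finset (Finset GolayPt)}
    (h : ∀ s ∈ F, k • s = s) : k • F = F := by
  apply Finset.eq_of_subset_of_card_le
  · intro q hq
    obtain ⟨p, hp, rfl⟩ := Finset.mem_smul_finset.mp hq
    rw [h p hp]
    exact hp
  · rw [Finset.card_smul_finset]

theorem fix_le_R0 {k : Equiv.Perm GolayPt} (hk : k ∈ fixM24 (pts (cw 47))) : k ∈ R0 := by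
  obtain ⟨hkm, hfix⟩ := mem_fixM24.mp hk
  have hsub : ∀ a : ℕ, a &&& cw 47 = a → k • pts a = pts a := by
    intro a ha
    apply smul_eq_of_fix
    intro p hp
    apply hfix
    rw [← ha, pts_and] at hp
    exact (Finset.mem_inter.mp hp).2
  refine mem_R0.mpr ⟨hkm, smul_eq_of_fix hfix, ?_, ?_⟩
  · apply smul_fam_eq_of_fix
    intro s hs
    obtain ⟨a, ha, rfl⟩ := mem_famFin.mp hs
    exact hsub a (piL_sub a ha).1
  · apply smul_fam_eq_of_fix
    intro s hs
    obtain ⟨a, ha, rfl⟩ := mem_famFin.mp hs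
    exact hsub a (beL_sub a ha).1

/-- An octad fixed by the pointwise stabiliser of the base octad is the base octad. -/
theorem fixed_octad {o1 : Finset GolayPt} (ho1 : o1 ∈ octads)
    (h : ∀ k ∈ fixM24 (pts (cw 47)), k • o1 = o1) : o1 = pts (cw 47) := by
  have hc1 : o1.card = 8 := ho1.2
  have hc0 : (pts (cw 47)).card = 8 := o0_mem.2
  by_contra hne
  have hex : ∃ q ∈ o1, q ∉ pts (cw 47) := by
    by_contra hcon
    push Not at hcon
    exact hne (Finset.eq_of_subset_of_card_le hcon (by rw [hc0, hc1]))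
  obtain ⟨q, hq1, hq0⟩ := hex
  have hsub : (pts (cw 47))ᶜ ⊆ o1 := by
    intro q' hq'
    rw [Finset.mem_compl] at hq'
    obtain ⟨k, hk, hkq⟩ := fix_transitive_outside o0_mem hq0 hq'
    rw [← h k hk, ← hkq, perm_mem_smul_iff]
    exact hq1
  have := Finset.card_le_card hsub
  rw [Finset.card_compl, hc0, hc1, card_golayPt] at this
  omega

/-! ### Elements normalising the base group lie in it -/

/-- The hypothesis that `g` normalises the base group. -/
def Nrm (g : Equiv.Perm GolayPt) : Prop := g ∈ M24 ∧ ∀ r ∈ R0, g⁻¹ * r * g ∈ R0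

theorem nrm_octad {g : Equiv.Perm GolayPt} (hg : Nrm g) : g • pts (cw 47) = pts (cw 47) := by
  apply fixed_octad ((smul_mem_octads_iff hg.1).mpr o0_mem)
  intro k hk
  have h1 := (mem_R0.mp (hg.2 k (fix_le_R0 hk))).2.1
  rw [mul_smul, mul_smul, inv_smul_eq_iff] at h1
  exact h1

theorem conj_apply {g r : Equiv.Perm GolayPt} (c : ℕ) :
    (g⁻¹ * r * g) (pt c) = g⁻¹ (r (g (pt c))) := rfl

theorem gperm_wL {w : List ℕ × List ℕ} (hw : w ∈ wL) :
    tablesOK w.1 w.2 = true ∧ gperm w ∈ R0 := famGens_mem wL_ok w hw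

/-- A normalising element respects partners. -/
theorem nrm_par {g : Equiv.Perm GolayPt} (hg : Nrm g) {c : ℕ} (hc : c ∈ O8) :
    ix g (par c) = par (ix g c) := by
  have hgo := nrm_octad hg
  have hpc := par_facts c hc
  have h1 := ix_mem hgo hc
  have h2 := ix_mem hgo hpc.1
  by_contra hne
  have hne1 : ix g (par c) ≠ ix g c := fun h =>
    hpc.2.1 (ix_inj g (O8_lt _ hpc.1) (O8_lt _ hc) h)
  obtain ⟨w, hw, hw1, hw2⟩ := wit1 _ h1 _ h2 hne1 hne
  obtain ⟨ht, hr⟩ := gperm_wL hw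
  have hs := hg.2 _ hr
  have hfix : (g⁻¹ * gperm w * g) (pt c) = pt c := by
    rw [conj_apply, apply_pt g c, gperm_pt ht (O8_lt _ h1), hw1, ← apply_pt g c, perm_inv_apply]
  have hix : ix (g⁻¹ * gperm w * g) c = c := by
    unfold ix
    rw [hfix, idx_pt c (O8_lt c hc)]
  have h3 := ix_par hs hc
  rw [hix] at h3
  have h4 : (g⁻¹ * gperm w * g) (pt (par c)) = pt (par c) := by
    rw [apply_pt, h3]
  rw [conj_apply, apply_pt g (par c), gperm_pt ht (O8_lt _ h2), Equiv.Perm.inv_eq_iff_eq,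
    apply_pt g (par c)] at h4
  have h5 := congrArg idx h4
  have hlt := (tablesOK_spec ht _ (O8_lt _ h2)).1
  rw [idx_pt _ hlt, idx_pt _ (O8_lt _ h2)] at h5
  exact hw2 h5

/-- An element of the base group fixing a point moves the other points of its block inside
their pairs. -/
theorem fix_blk {r : Equiv.Perm GolayPt} (hr : r ∈ R0) {c d : ℕ} (hc : c ∈ O8) (hd : d ∈ O8)
    (hfix : ix r c = c) (hb : blkMask d = blkMask c) (hdc : d ≠ c) (hdp : d ≠ par c) :
    ix r d = d ∨ ix r d = par d := by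
  obtain ⟨_, h2, _, _⟩ := mem_R0.mp hr
  have hpc := par_facts c hc
  have h1 := ix_blk hr hc hd hb
  rw [hfix] at h1
  rcases blk_four c hc d hd hb hdc hdp _ (ix_mem h2 hd) h1 with h | h | h | h
  · exfalso
    rw [← hfix] at h
    exact hdc (ix_inj r (O8_lt _ hd) (O8_lt _ hc) h)
  · exfalso
    have h3 := ix_par hr hc
    rw [hfix] at h3
    exact hdp (ix_inj r (O8_lt _ hd) (O8_lt _ hpc.1) (h.trans h3.symm))
  · exact Or.inl h
  · exact Or.inr h

/-- A normalising element respects blocks. -/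
theorem nrm_blk {g : Equiv.Perm GolayPt} (hg : Nrm g) {c d : ℕ} (hc : c ∈ O8) (hd : d ∈ O8)
    (hb : blkMask d = blkMask c) : blkMask (ix g d) = blkMask (ix g c) := by
  have hgo := nrm_octad hg
  have hpc := par_facts c hc
  have h1 := ix_mem hgo hc
  have h2 := ix_mem hgo hd
  by_cases hdc : d = c
  · rw [hdc]
  by_cases hdp : d = par c
  · rw [hdp, nrm_par hg hc]
    exact (par_facts _ h1).2.2.2.2.2
  by_contra hne
  obtain ⟨r1, hr1, r2, hr2, e1, e2, n1, n2, n12⟩ := wit2 _ h1 _ h2 hne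
  obtain ⟨ht1, hR1⟩ := gperm_wL hr1
  obtain ⟨ht2, hR2⟩ := gperm_wL hr2
  have key : ∀ w : List ℕ × List ℕ, tablesOK w.1 w.2 = true → gperm w ∈ R0 →
      tb w.1 (ix g c) = ix g c →
      ix g (ix (g⁻¹ * gperm w * g) d) = tb w.1 (ix g d) ∧
      (ix (g⁻¹ * gperm w * g) d = d ∨ ix (g⁻¹ * gperm w * g) d = par d) := by
    intro w ht hR hw1
    have hs := hg.2 _ hR
    have hfix : (g⁻¹ * gperm w * g) (pt c) = pt c := by
      rw [conj_apply, apply_pt g c, gperm_pt ht (O8_lt _ h1), hw1, ← apply_pt g c, perm_inv_apply]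
    have hix : ix (g⁻¹ * gperm w * g) c = c := by
      unfold ix
      rw [hfix, idx_pt c (O8_lt c hc)]
    refine ⟨?_, fix_blk hs hc hd hix hb hdc hdp⟩
    have h5 : g ((g⁻¹ * gperm w * g) (pt d)) = pt (tb w.1 (ix g d)) := by
      rw [conj_apply, perm_apply_inv, apply_pt g d, gperm_pt ht (O8_lt _ h2)]
    rw [apply_pt (g⁻¹ * gperm w * g) d] at h5
    have h6 := congrArg idx h5
    rw [idx_pt _ (tablesOK_spec ht _ (O8_lt _ h2)).1] at h6
    exact h6
  obtain ⟨k1, o1⟩ := key r1 ht1 hR1 e1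
  obtain ⟨k2, o2⟩ := key r2 ht2 hR2 e2
  have hgd : ix g d = ix g d := rfl
  rcases o1 with o1 | o1 <;> rcases o2 with o2 | o2
  · rw [o1] at k1
    exact n1 k1.symm
  · rw [o1] at k1
    exact n1 k1.symm
  · rw [o2] at k2
    exact n2 k2.symm
  · rw [o1] at k1
    rw [o2] at k2
    exact n12 (k1.symm.trans k2)

theorem card_famFin_piL : (famFin piL).card = 4 := by
  unfold famFin
  rw [List.toFinset_card_of_nodup, List.length_map]
  · rfl
  · apply List.Nodup.map_on
    · intro a ha b hb hab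
      exact pts_inj_lt (piL_sub a ha).2 (piL_sub b hb).2 hab
    · decide

theorem nrm_mem {g : Equiv.Perm GolayPt} (hg : Nrm g) : g ∈ R0 := by
  have hgo := nrm_octad hg
  refine mem_R0.mpr ⟨hg.1, hgo, ?_, ?_⟩
  · apply Finset.eq_of_subset_of_card_le
    · intro s hs
      obtain ⟨t, ht, rfl⟩ := Finset.mem_smul_finset.mp hs
      obtain ⟨a, ha, rfl⟩ := mem_famFin.mp ht
      obtain ⟨c, hc, rfl⟩ := piL_rep a ha
      have h1 := ix_mem hgo hc
      have hpc := par_facts c hc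
      rw [mem_famFin]
      refine ⟨pairMask (ix g c), (par_facts _ h1).2.2.2.1, ?_⟩
      symm
      apply Finset.eq_of_subset_of_card_le
      · intro q hq
        obtain ⟨p, hp, rfl⟩ := Finset.mem_smul_finset.mp hq
        rw [Equiv.Perm.smul_def, mem_pts]
        rcases mem_pts_pairMask hc hp with rfl | rfl
        · rw [apply_pt, idx_pt _ (O8_lt _ h1)]
          exact (pair_bits _ h1).1
        · rw [apply_pt, nrm_par hg hc, idx_pt _ (O8_lt _ (par_facts _ h1).1)]
          exact (pair_bits _ h1).2.1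
      · rw [Finset.card_smul_finset, card_pts, card_pts]
        have : ∀ c ∈ O8, ∀ c' ∈ O8, wt (pairMask c') ≤ wt (pairMask c) := by decide +kernel
        exact this c hc _ h1
    · rw [Finset.card_smul_finset]
  · apply Finset.eq_of_subset_of_card_le
    · intro s hs
      obtain ⟨t, ht, rfl⟩ := Finset.mem_smul_finset.mp hs
      obtain ⟨a, ha, rfl⟩ := mem_famFin.mp ht
      obtain ⟨c, hc, rfl⟩ := beL_rep a ha
      have h1 := ix_mem hgo hc
      rw [mem_famFin]
      refine ⟨blkMask (ix g c), (par_facts _ h1).2.2.2.2.1, ?_⟩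
      symm
      apply Finset.eq_of_subset_of_card_le
      · intro q hq
        obtain ⟨p, hp, rfl⟩ := Finset.mem_smul_finset.mp hq
        rw [Equiv.Perm.smul_def, mem_pts]
        rw [mem_pts] at hp
        obtain ⟨hd, hbd⟩ := (blk_bits c hc).2 _ (idx_lt p) hp
        have h2 := ix_mem hgo hd
        have h3 := nrm_blk hg hc hd hbd
        have h4 : g p = pt (ix g (idx p)) := by rw [← apply_pt, pt_idx]
        rw [h4, idx_pt _ (O8_lt _ h2)]
        exact blk_bits' _ h1 _ h2 h3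
      · rw [Finset.card_smul_finset, card_pts, card_pts]
        have : ∀ c ∈ O8, ∀ c' ∈ O8, wt (blkMask c') ≤ wt (blkMask c) := by decide +kernel
        exact this c hc _ h1
    · rw [Finset.card_smul_finset]

/-! ### The base group is a 2-group -/

/-- The action on the octad described by four images. -/
def mkF (v0 v2 v5 v17 : ℕ) (c : ℕ) : ℕ :=
  if c = 0 then v0 else if c = 1 then par v0 else if c = 2 then v2 else if c = 3 then par v2 else
  if c = 5 then v5 else if c = 14 then par v5 else if c = 17 then v17 else par v17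

/-- Injectivity on the octad. -/
def injOn8 (f : ℕ → ℕ) : Bool := O8.all fun c => O8.all fun d => (c == d) || !(f c == f d)

theorem iter_fact : (O8.all fun v0 => O8.all fun v2 => O8.all fun v5 => O8.all fun v17 =>
    !(blkMask v2 == blkMask v0 && blkMask v17 == blkMask v5 && injOn8 (mkF v0 v2 v5 v17)) ||
      O8.all fun c => (mkF v0 v2 v5 v17)^[8] c == c) = true := by decide +kernel

theorem pow_apply_pt (g : Equiv.Perm GolayPt) (c : ℕ) :
    ∀ n : ℕ, (g ^ n) (pt c) = pt ((ix g)^[n] c) := by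
  intro n
  induction n with
  | zero => rfl
  | succ n ih =>
    rw [pow_succ', Equiv.Perm.mul_apply, ih, apply_pt, Function.iterate_succ_apply']

theorem agree_iter {F G : ℕ → ℕ} (h : ∀ c ∈ O8, F c = G c) (hO : ∀ c ∈ O8, F c ∈ O8) :
    ∀ n : ℕ, ∀ c ∈ O8, F^[n] c = G^[n] c ∧ F^[n] c ∈ O8 := by
  intro n
  induction n with
  | zero => intro c hc; exact ⟨rfl, hc⟩
  | succ n ih =>
    intro c hc
    obtain ⟨h1, h2⟩ := ih c hc
    rw [Function.iterate_succ_apply', Function.iterate_succ_apply', ← h1]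
    exact ⟨h _ h2, hO _ h2⟩

theorem pow_sixteen {g : Equiv.Perm GolayPt} (hg : g ∈ R0) : g ^ 16 = 1 := by
  obtain ⟨hgm, hgo, _, _⟩ := mem_R0.mp hg
  have hm : ∀ c ∈ O8, ix g c ∈ O8 := fun c hc => ix_mem hgo hc
  have m0 : (0 : ℕ) ∈ O8 := by decide
  have m2 : (2 : ℕ) ∈ O8 := by decide
  have m5 : (5 : ℕ) ∈ O8 := by decide
  have m17 : (17 : ℕ) ∈ O8 := by decide
  have hagree : ∀ c ∈ O8, ix g c = mkF (ix g 0) (ix g 2) (ix g 5) (ix g 17) c := by
    intro c hc
    simp only [O8, List.mem_cons, List.not_mem_nil, or_false] at hc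
    rcases hc with rfl | rfl | rfl | rfl | rfl | rfl | rfl | rfl
    · rfl
    · exact ix_par hg m0
    · rfl
    · exact ix_par hg m2
    · rfl
    · exact ix_par hg m5
    · rfl
    · exact ix_par hg m17
  have hfact := iter_fact
  simp only [List.all_eq_true] at hfact
  have h1 := hfact _ (hm 0 m0) _ (hm 2 m2) _ (hm 5 m5) _ (hm 17 m17)
  have hcond : (blkMask (ix g 2) == blkMask (ix g 0) && blkMask (ix g 17) == blkMask (ix g 5) &&
      injOn8 (mkF (ix g 0) (ix g 2) (ix g 5) (ix g 17))) = true := by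
    rw [Bool.and_eq_true, Bool.and_eq_true, beq_iff_eq, beq_iff_eq]
    refine ⟨⟨ix_blk hg m0 m2 rfl, ix_blk hg m5 m17 rfl⟩, ?_⟩
    unfold injOn8
    simp only [List.all_eq_true]
    intro c hc d hd
    rw [Bool.or_eq_true, beq_iff_eq, Bool.not_eq_true', beq_eq_false_iff_ne]
    by_cases hcd : c = d
    · exact Or.inl hcd
    · right
      rw [← hagree c hc, ← hagree d hd]
      exact fun h => hcd (ix_inj g (O8_lt c hc) (O8_lt d hd) h)
  rw [hcond] at h1
  simp only [Bool.not_true, Bool.false_or, List.all_eq_true, beq_iff_eq] at h1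
  have h8 : g ^ 8 ∈ fixM24 (pts (cw 47)) := by
    rw [mem_fixM24]
    refine ⟨Subgroup.pow_mem _ hgm 8, ?_⟩
    intro p hp
    have hc : idx p ∈ O8 := (mem_o0_iff p).mp hp
    have h2 := pow_apply_pt g (idx p) 8
    rw [pt_idx, (agree_iter hagree hm 8 _ hc).1, h1 _ hc, pt_idx] at h2
    exact h2
  have h16 := (fixM24_octad o0_mem).2 _ h8
  rw [← pow_add] at h16
  exact h16

theorem R0_isPGroup : IsPGroup 2 R0 := by
  intro x
  refine ⟨4, ?_⟩
  apply Subtype.ext
  rw [Subgroup.coe_pow]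
  exact pow_sixteen x.2
end Cfsg.Agent.helper2.Syl2
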