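import Mathlib

/-!
Finite matrix groups given by a Cayley graph: `n` matrices containing the identity and closed under
right multiplication by two of them, with a spanning tree.  The abstract group on the index set,
its generation by the two generators, and a certificate-based simplicity criterion.
-/

set_option autoImplicit false

namespace Cfsg.Agent.helper2.Tab

open Matrix

/-- multiplication computed along the spanning tree -/
def mulF {n : ℕ} (rA rB par : Fin n → Fin n) (gen : Fin n → Bool) : ℕ → Fin n → Fin n → Fin n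
  | 0, x, _ => x
  | (k+1), x, y => if y.val = 0 then x else
      (if gen y then rB (mulF rA rB par gen k x (par y)) else rA (mulF rA rB par gen k x (par y)))

structure TData (R : Type*) [Ring R] (d n : ℕ) where
  M : Fin n → Matrix (Fin d) (Fin d) R
  rA : Fin n → Fin n
  rB : Fin n → Fin n
  par : Fin n → Fin n
  gen : Fin n → Bool
  inv : Fin n → Fin n
  e : Fin n
  iA : Fin n
  iB : Fin n
  e_val : e.val = 0
  M_rA : ∀ x, M (rA x) = M x * M iA
  M_rB : ∀ x, M (rB x) = M x * M iB
  tree : ∀ y : Fin n, y.val ≠ 0 →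
    (par y).val < y.val ∧ (if gen y then rB (par y) else rA (par y)) = y
  M_e : M e = 1
  M_inj : ∀ x y, M x = M y → x = y
  inv_mul : ∀ x, mulF rA rB par gen n (inv x) x = e

variable {R : Type*} [Ring R] {d n : ℕ}

namespace TData
variable (D : TData R d n)

/-- raw multiplication -/
def mul (x y : Fin n) : Fin n := mulF D.rA D.rB D.par D.gen n x y

theorem eq_e_of_val {y : Fin n} (h : y.val = 0) : y = D.e := Fin.ext (h.trans D.e_val.symm)

theorem M_mulF (k : ℕ) : ∀ (x y : Fin n), y.val ≤ k →
    D.M (mulF D.rA D.rB D.par D.gen k x y) = D.M x * D.M y := by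
  induction k with
  | zero =>
    intro x y hy
    have : y = D.e := D.eq_e_of_val (Nat.le_zero.mp hy)
    rw [this, D.M_e, mul_one]
    rfl
  | succ k ih =>
    intro x y hy
    rw [mulF]
    by_cases h0 : y.val = 0
    · rw [if_pos h0, D.eq_e_of_val h0, D.M_e, mul_one]
    · rw [if_neg h0]
      obtain ⟨hlt, htree⟩ := D.tree y h0
      have hk : (D.par y).val ≤ k := by omega
      have ihp := ih x (D.par y) hk
      cases hg : D.gen y with
      | true =>
        rw [hg] at htree
        simp only [if_true] at htree ⊢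
        rw [D.M_rB, ihp, mul_assoc, ← D.M_rB, htree]
      | false =>
        rw [hg] at htree
        simp only [Bool.false_eq_true, if_false] at htree ⊢
        rw [D.M_rA, ihp, mul_assoc, ← D.M_rA, htree]

theorem M_mul (x y : Fin n) : D.M (D.mul x y) = D.M x * D.M y :=
  D.M_mulF n x y (le_of_lt y.isLt)

end TData

/-- the abstract group on the index set -/
structure TG (D : TData R d n) where
  k : Fin n
deriving DecidableEq

namespace TG
variable {D : TData R d n}

theorem ext' {a b : TG D} (h : a.k = b.k) : a = b := by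
  cases a; cases b; simp_all

instance : Mul (TG D) := ⟨fun a b => ⟨D.mul a.k b.k⟩⟩
instance : One (TG D) := ⟨⟨D.e⟩⟩
instance : Inv (TG D) := ⟨fun a => ⟨D.inv a.k⟩⟩

theorem mul_k (a b : TG D) : (a * b).k = D.mul a.k b.k := rfl
theorem one_k : (1 : TG D).k = D.e := rfl
theorem inv_k (a : TG D) : (a⁻¹).k = D.inv a.k := rfl

instance : Group (TG D) where
  mul_assoc a b c := by
    apply ext'
    apply D.M_inj
    simp only [mul_k, D.M_mul, mul_assoc]
  one_mul a := by
    apply ext'
    apply D.M_inj
    simp only [mul_k, one_k, D.M_mul, D.M_e, one_mul]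
  mul_one a := by
    apply ext'
    apply D.M_inj
    simp only [mul_k, one_k, D.M_mul, D.M_e, mul_one]
  inv_mul_cancel a := by
    apply ext'
    exact D.inv_mul a.k

def equivFin (D : TData R d n) : TG D ≃ Fin n := ⟨TG.k, TG.mk, fun _ => rfl, fun _ => rfl⟩

instance : Fintype (TG D) := Fintype.ofEquiv _ (equivFin D).symm

theorem card_eq (D : TData R d n) : Nat.card (TG D) = n := by
  rw [Nat.card_congr (equivFin D), Nat.card_fin]

/-- the matrix representation -/
def rho (D : TData R d n) : TG D →* Matrix (Fin d) (Fin d) R where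
  toFun a := D.M a.k
  map_one' := D.M_e
  map_mul' a b := D.M_mul a.k b.k

theorem rho_apply (a : TG D) : rho D a = D.M a.k := rfl

theorem rho_injective (D : TData R d n) : Function.Injective (rho D) := by
  intro a b h
  exact ext' (D.M_inj _ _ h)

theorem mk_rA (z : Fin n) : (⟨D.rA z⟩ : TG D) = ⟨z⟩ * ⟨D.iA⟩ := by
  apply rho_injective D
  rw [map_mul, rho_apply, rho_apply, rho_apply, D.M_rA]

theorem mk_rB (z : Fin n) : (⟨D.rB z⟩ : TG D) = ⟨z⟩ * ⟨D.iB⟩ := by
  apply rho_injective D
  rw [map_mul, rho_apply, rho_apply, rho_apply, D.M_rB]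

theorem mem_closure (D : TData R d n) (k : ℕ) : ∀ y : Fin n, y.val ≤ k →
    (⟨y⟩ : TG D) ∈ Subgroup.closure ({⟨D.iA⟩, ⟨D.iB⟩} : Set (TG D)) := by
  induction k with
  | zero =>
    intro y hy
    have : y = D.e := D.eq_e_of_val (Nat.le_zero.mp hy)
    rw [this]
    exact Subgroup.one_mem _
  | succ k ih =>
    intro y hy
    by_cases h0 : y.val = 0
    · rw [D.eq_e_of_val h0]
      exact Subgroup.one_mem _
    · obtain ⟨hlt, htree⟩ := D.tree y h0
      have hk : (D.par y).val ≤ k := by omega
      have ihp := ih (D.par y) hk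
      cases hg : D.gen y with
      | true =>
        rw [hg] at htree
        simp only [if_true] at htree
        rw [← htree, mk_rB]
        exact Subgroup.mul_mem _ ihp (Subgroup.subset_closure (by simp))
      | false =>
        rw [hg] at htree
        simp only [Bool.false_eq_true, if_false] at htree
        rw [← htree, mk_rA]
        exact Subgroup.mul_mem _ ihp (Subgroup.subset_closure (by simp))

theorem closure_eq_top (D : TData R d n) :
    Subgroup.closure ({⟨D.iA⟩, ⟨D.iB⟩} : Set (TG D)) = ⊤ := by
  rw [eq_top_iff]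
  intro y _
  exact mem_closure D n y.k (le_of_lt y.k.isLt)

end TG

/-! ### Simplicity from certificates -/

section Simple
variable {G : Type*} [Group G]

/-- product of conjugates of `x` by the listed elements -/
def prodConjG (x : G) : List G → G
  | [] => 1
  | c :: cs => (c * x * c⁻¹) * prodConjG x cs

theorem prodConjG_mem (x : G) (cs : List G) : prodConjG x cs ∈ Subgroup.normalClosure ({x} : Set G) := by
  induction cs with
  | nil => exact Subgroup.one_mem _
  | cons c cs ih =>
    rw [prodConjG]
    apply Subgroup.mul_mem _ _ ih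
    have hx : x ∈ Subgroup.normalClosure ({x} : Set G) :=
      Subgroup.subset_normalClosure (Set.mem_singleton x)
    exact Subgroup.normalClosure_normal.conj_mem x hx c

theorem isSimpleGroup_of_cert [Nontrivial G] (S : Set G) (hS : Subgroup.closure S = ⊤)
    (h : ∀ x : G, x ≠ 1 → ∀ s ∈ S, ∃ cs : List G, prodConjG x cs = s) : IsSimpleGroup G := by
  refine ⟨fun N hN => ?_⟩
  by_cases hb : N = ⊥
  · exact Or.inl hb
  · right
    obtain ⟨x, hxN, hx1⟩ : ∃ x ∈ N, x ≠ 1 := by
      by_contra hcon
      apply hb
      rw [eq_bot_iff]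
      intro y hy
      rw [Subgroup.mem_bot]
      by_contra hne
      exact hcon ⟨y, hy, hne⟩
    have hle : Subgroup.normalClosure ({x} : Set G) ≤ N :=
      Subgroup.normalClosure_le_normal (Set.singleton_subset_iff.mpr hxN)
    rw [eq_top_iff, ← hS, Subgroup.closure_le]
    intro s hs
    obtain ⟨cs, hcs⟩ := h x hx1 s hs
    rw [← hcs]
    exact hle (prodConjG_mem x cs)

end Simple

/-- raw product of conjugates in the table -/
def prodConjT {n : ℕ} (mul : Fin n → Fin n → Fin n) (inv : Fin n → Fin n) (e x : Fin n) :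
    List (Fin n) → Fin n
  | [] => e
  | c :: cs => mul (mul (mul c x) (inv c)) (prodConjT mul inv e x cs)

theorem TG.prodConj_eq {D : TData R d n} (x : TG D) (cs : List (Fin n)) :
    prodConjG x (cs.map TG.mk) = ⟨prodConjT D.mul D.inv D.e x.k cs⟩ := by
  induction cs with
  | nil => rfl
  | cons c cs ih =>
    rw [List.map_cons, prodConjG, ih, prodConjT]
    rfl

/-- simplicity of the table group from certificates of length at most two -/
theorem TG.isSimpleGroup {D : TData R d n} [Nontrivial (TG D)] (cA1 cA2 cB1 cB2 : Fin n → Fin n)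
    (hcert : ∀ x : Fin n, x.val ≠ 0 →
      (prodConjT D.mul D.inv D.e x [cA1 x] = D.iA ∨ prodConjT D.mul D.inv D.e x [cA1 x, cA2 x] = D.iA) ∧
      (prodConjT D.mul D.inv D.e x [cB1 x] = D.iB ∨ prodConjT D.mul D.inv D.e x [cB1 x, cB2 x] = D.iB)) :
    IsSimpleGroup (TG D) := by
  apply isSimpleGroup_of_cert _ (TG.closure_eq_top D)
  intro x hx s hs
  have hx0 : x.k.val ≠ 0 := by
    intro h
    apply hx
    apply TG.ext'
    exact D.eq_e_of_val h
  obtain ⟨hA, hB⟩ := hcert x.k hx0
  simp only [Set.mem_insert_iff, Set.mem_singleton_iff] at hs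
  rcases hs with rfl | rfl
  · rcases hA with h | h
    · exact ⟨[cA1 x.k].map TG.mk, by rw [TG.prodConj_eq, h]⟩
    · exact ⟨[cA1 x.k, cA2 x.k].map TG.mk, by rw [TG.prodConj_eq, h]⟩
  · rcases hB with h | h
    · exact ⟨[cB1 x.k].map TG.mk, by rw [TG.prodConj_eq, h]⟩
    · exact ⟨[cB1 x.k, cB2 x.k].map TG.mk, by rw [TG.prodConj_eq, h]⟩

end Cfsg.Agent.helper2.Tab
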