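import Cfsg.Agent.Lib_helper2_Tab2

/-! Verified facts about the 168 matrices and the resulting simple table group. -/

set_option autoImplicit false
set_option maxRecDepth 100000

namespace Cfsg.Agent.helper2.Spec

open Matrix Cfsg.Agent.helper2.Tab

theorem l27_r : ∀ x : Fin 168, ∀ i j : Fin 3,
    l27E (l27rA x) i j = mm3 (l27E x) (l27E 1) i j ∧ l27E (l27rB x) i j = mm3 (l27E x) (l27E 2) i j := by
  decide +kernel

theorem l27_tree : ∀ y : Fin 168, y.val ≠ 0 →
    (l27par y).val < y.val ∧ (if l27gen y then l27rB (l27par y) else l27rA (l27par y)) = y := by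
  decide +kernel

theorem l27_one : ∀ i j : Fin 3, l27E 0 i j = if i = j then 1 else 0 := by
  decide +kernel

theorem l27_inv : ∀ x : Fin 168, mulF l27rA l27rB l27par l27gen 168 (l27inv x) x = 0 := by
  decide +kernel

theorem l27_inj : ∀ x y : Fin 168, (∀ i j : Fin 3, l27E x i j = l27E y i j) → x = y := by
  decide +kernel

/-- explicit determinant on entry functions -/
def det3E (A : Fin 3 → Fin 3 → F9) : F9 :=
  A 0 0 * A 1 1 * A 2 2 - A 0 0 * A 1 2 * A 2 1 - A 0 1 * A 1 0 * A 2 2 + A 0 1 * A 1 2 * A 2 0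
    + A 0 2 * A 1 0 * A 2 1 - A 0 2 * A 1 1 * A 2 0

/-- explicit unitarity on entry functions -/
def uE (A : Fin 3 → Fin 3 → F9) (a b : Fin 3) : F9 :=
  A 0 a * (A 0 b * A 0 b * A 0 b) + A 1 a * (A 1 b * A 1 b * A 1 b) + A 2 a * (A 2 b * A 2 b * A 2 b)

theorem l27_det : ∀ x : Fin 168, det3E (l27E x) = 1 := by decide +kernel

theorem l27_U : ∀ x : Fin 168, ∀ a b : Fin 3, uE (l27E x) a b = if a = b then 1 else 0 := by
  decide +kernel

def l27mul (x y : Fin 168) : Fin 168 := mulF l27rA l27rB l27par l27gen 168 x y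

theorem l27_cert : ∀ x : Fin 168, x.val ≠ 0 →
    (prodConjT l27mul l27inv 0 x [l27cA1 x] = 1 ∨ prodConjT l27mul l27inv 0 x [l27cA1 x, l27cA2 x] = 1) ∧
    (prodConjT l27mul l27inv 0 x [l27cB1 x] = 2 ∨ prodConjT l27mul l27inv 0 x [l27cB1 x, l27cB2 x] = 2) := by
  decide +kernel

/-- the Cayley-graph data of the copy of `PSL(2,7)` -/
def D168 : TData F9 3 168 where
  M := l27M
  rA := l27rA
  rB := l27rB
  par := l27par
  gen := l27gen
  inv := l27inv
  e := 0
  iA := 1
  iB := 2
  e_val := rfl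
  M_rA x := by
    apply Matrix.ext
    intro i j
    rw [mul_eq_mm3]
    exact (l27_r x i j).1
  M_rB x := by
    apply Matrix.ext
    intro i j
    rw [mul_eq_mm3]
    exact (l27_r x i j).2
  tree := l27_tree
  M_e := by
    apply Matrix.ext
    intro i j
    rw [Matrix.one_apply]
    exact l27_one i j
  M_inj x y h := l27_inj x y (fun i j => congrFun (congrFun h i) j)
  inv_mul := l27_inv

instance : Nontrivial (TG D168) := ⟨⟨⟨0⟩, ⟨1⟩, by decide⟩⟩

instance simple_T168 : IsSimpleGroup (TG D168) :=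
  TG.isSimpleGroup l27cA1 l27cA2 l27cB1 l27cB2 l27_cert

theorem card_T168 : Nat.card (TG D168) = 168 := TG.card_eq D168

theorem l27_detM (x : Fin 168) : (l27M x).det = 1 := by
  rw [Matrix.det_fin_three]
  exact l27_det x

theorem l27_UM (x : Fin 168) : IsU (l27M x) := by
  unfold IsU
  apply Matrix.ext
  intro a b
  rw [Matrix.mul_apply, Fin.sum_univ_three, Matrix.one_apply]
  exact l27_U x a b

end Cfsg.Agent.helper2.Spec
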