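import Cfsg.Agent.Lib_helper2_Tab3
import Cfsg.Agent.Lib_helper2_Spec8
import Cfsg.Agent.S0495

/-! `PSU(3,3)` contains a subgroup isomorphic to `PSL(2,7)`. -/

set_option autoImplicit false
set_option linter.unusedSectionVars false

namespace Cfsg.Agent.helper2.Spec

open Matrix Cfsg.Agent.helper2.Tab

section Hom
variable {F : Type*} [Field F] [CharP F 3]

/-- the embedding of the table group into `SU(3,F)` -/
def l27Hom (I : F) (hI : I * I = -1) : TG D168 →* Cfsg.SU 3 F 3 where
  toFun x := mkSU I hI (l27M x.k) (l27_detM x.k) (l27_UM x.k)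
  map_one' := by
    rw [su_eq_one_iff, mkSU_val]
    have h : l27M (1 : TG D168).k = 1 := D168.M_e
    rw [h]
    exact (map_pow_eq_one_iff I hI 1 1).2 (pow_one 1) |>.symm ▸ (pow_one _).symm
  map_mul' x y := by
    apply Subtype.ext
    apply Subtype.ext
    show (l27M (x * y).k).map (phi I hI) = (l27M x.k).map (phi I hI) * (l27M y.k).map (phi I hI)
    rw [← Matrix.map_mul]
    congr 1
    exact D168.M_mul x.k y.k

theorem l27Hom_injective (I : F) (hI : I * I = -1) : Function.Injective (l27Hom I hI) := by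
  intro x y h
  have h1 : (l27M x.k).map (phi I hI) = (l27M y.k).map (phi I hI) :=
    congrArg (fun g : Cfsg.SU 3 F 3 => g.1.1) h
  have h2 : l27M x.k = l27M y.k := Matrix.map_injective (phi_injective I hI) h1
  exact TG.ext' (D168.M_inj _ _ h2)

end Hom

theorem exists_L27 {F : Type*} [Field F] [Fintype F] (hF : Fintype.card F = 9)
    {K : Type*} [Field K] [Fintype K] (hK : Fintype.card K = 7) :
    ∃ H : Subgroup (Cfsg.PSU 3 F 3),
      Nonempty (H ≃* Matrix.ProjectiveSpecialLinearGroup (Fin 2) K) := by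
  have := charP_of_card hF
  obtain ⟨I, hI⟩ := exists_I hF
  let e : Cfsg.PSU 3 F 3 ≃* Cfsg.SU 3 F 3 :=
    (QuotientGroup.quotientMulEquivOfEq (center_SU I hI)).trans QuotientGroup.quotientBot
  let f : TG D168 →* Cfsg.PSU 3 F 3 := e.symm.toMonoidHom.comp (l27Hom I hI)
  have hf : Function.Injective f := e.symm.injective.comp (l27Hom_injective I hI)
  obtain ⟨iso⟩ := Cfsg.Agent.S0495.result (G := TG D168) card_T168 hK
  exact ⟨f.range, ⟨(MonoidHom.ofInjective hf).symm.trans iso⟩⟩

end Cfsg.Agent.helper2.Spec
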