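import Mathlib
import Cfsg.Agent.Lib_helper2_Tab1

/-!
Finite groups given by a Cayley graph inside an arbitrary monoid: `n` elements containing the
identity and closed under right multiplication by two of them, with a spanning tree.
-/

set_option autoImplicit false

namespace Cfsg.Agent.helper2.Tab

structure MData (X : Type*) [Monoid X] (n : ℕ) where
  M : Fin n → X
  rA : Fin n → Fin n
  rB : Fin n → Fin n
  par : Fin n → Fin n
  gen : Fin n → Bool
  inv : Fin n → Fin n
  e : Fin n
  iA : Fin n
  iB : Fin n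
  e_val : e.val = 0
  M_rA : ∀ x, M (rA x) = M x * M iA
  M_rB : ∀ x, M (rB x) = M x * M iB
  tree : ∀ y : Fin n, y.val ≠ 0 →
    (par y).val < y.val ∧ (if gen y then rB (par y) else rA (par y)) = y
  M_e : M e = 1
  M_inj : ∀ x y, M x = M y → x = y
  inv_mul : ∀ x, mulF rA rB par gen n (inv x) x = e

variable {X : Type*} [Monoid X] {n : ℕ}

namespace MData
variable (D : MData X n)

/-- raw multiplication -/
def mul (x y : Fin n) : Fin n := mulF D.rA D.rB D.par D.gen n x y

theorem eq_e_of_val {y : Fin n} (h : y.val = 0) : y = D.e := Fin.ext (h.trans D.e_val.symm)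

theorem M_mulF (k : ℕ) : ∀ (x y : Fin n), y.val ≤ k →
    D.M (mulF D.rA D.rB D.par D.gen k x y) = D.M x * D.M y := by
  induction k with
  | zero =>
    intro x y hy
    have : y = D.e := D.eq_e_of_val (Nat.le_zero.mp hy)
    rw [this, D.M_e, mul_one]
    rfl
  | succ k ih =>
    intro x y hy
    rw [mulF]
    by_cases h0 : y.val = 0
    · rw [if_pos h0, D.eq_e_of_val h0, D.M_e, mul_one]
    · rw [if_neg h0]
      obtain ⟨hlt, htree⟩ := D.tree y h0
      have hk : (D.par y).val ≤ k := by omega
      have ihp := ih x (D.par y) hk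
      cases hg : D.gen y with
      | true =>
        rw [hg] at htree
        simp only [if_true] at htree ⊢
        rw [D.M_rB, ihp, mul_assoc, ← D.M_rB, htree]
      | false =>
        rw [hg] at htree
        simp only [Bool.false_eq_true, if_false] at htree ⊢
        rw [D.M_rA, ihp, mul_assoc, ← D.M_rA, htree]

theorem M_mul (x y : Fin n) : D.M (D.mul x y) = D.M x * D.M y :=
  D.M_mulF n x y (le_of_lt y.isLt)

end MData

/-- the abstract group on the index set -/
structure MG (D : MData X n) where
  k : Fin n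
deriving DecidableEq

namespace MG
variable {D : MData X n}

theorem ext' {a b : MG D} (h : a.k = b.k) : a = b := by
  cases a; cases b; simp_all

instance : Mul (MG D) := ⟨fun a b => ⟨D.mul a.k b.k⟩⟩
instance : One (MG D) := ⟨⟨D.e⟩⟩
instance : Inv (MG D) := ⟨fun a => ⟨D.inv a.k⟩⟩

theorem mul_k (a b : MG D) : (a * b).k = D.mul a.k b.k := rfl
theorem one_k : (1 : MG D).k = D.e := rfl
theorem inv_k (a : MG D) : (a⁻¹).k = D.inv a.k := rfl

instance : Group (MG D) where
  mul_assoc a b c := by
    apply ext'
    apply D.M_inj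
    simp only [mul_k, D.M_mul, mul_assoc]
  one_mul a := by
    apply ext'
    apply D.M_inj
    simp only [mul_k, one_k, D.M_mul, D.M_e, one_mul]
  mul_one a := by
    apply ext'
    apply D.M_inj
    simp only [mul_k, one_k, D.M_mul, D.M_e, mul_one]
  inv_mul_cancel a := by
    apply ext'
    exact D.inv_mul a.k

def equivFin (D : MData X n) : MG D ≃ Fin n := ⟨MG.k, MG.mk, fun _ => rfl, fun _ => rfl⟩

instance : Fintype (MG D) := Fintype.ofEquiv _ (equivFin D).symm

theorem card_eq (D : MData X n) : Nat.card (MG D) = n := by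
  rw [Nat.card_congr (equivFin D), Nat.card_fin]

/-- the matrix representation -/
def rho (D : MData X n) : MG D →* X where
  toFun a := D.M a.k
  map_one' := D.M_e
  map_mul' a b := D.M_mul a.k b.k

theorem rho_apply (a : MG D) : rho D a = D.M a.k := rfl

theorem rho_injective (D : MData X n) : Function.Injective (rho D) := by
  intro a b h
  exact ext' (D.M_inj _ _ h)

theorem mk_rA (z : Fin n) : (⟨D.rA z⟩ : MG D) = ⟨z⟩ * ⟨D.iA⟩ := by
  apply rho_injective D
  rw [map_mul, rho_apply, rho_apply, rho_apply, D.M_rA]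

theorem mk_rB (z : Fin n) : (⟨D.rB z⟩ : MG D) = ⟨z⟩ * ⟨D.iB⟩ := by
  apply rho_injective D
  rw [map_mul, rho_apply, rho_apply, rho_apply, D.M_rB]

theorem mem_closure (D : MData X n) (k : ℕ) : ∀ y : Fin n, y.val ≤ k →
    (⟨y⟩ : MG D) ∈ Subgroup.closure ({⟨D.iA⟩, ⟨D.iB⟩} : Set (MG D)) := by
  induction k with
  | zero =>
    intro y hy
    have : y = D.e := D.eq_e_of_val (Nat.le_zero.mp hy)
    rw [this]
    exact Subgroup.one_mem _
  | succ k ih =>
    intro y hy
    by_cases h0 : y.val = 0
    · rw [D.eq_e_of_val h0]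
      exact Subgroup.one_mem _
    · obtain ⟨hlt, htree⟩ := D.tree y h0
      have hk : (D.par y).val ≤ k := by omega
      have ihp := ih (D.par y) hk
      cases hg : D.gen y with
      | true =>
        rw [hg] at htree
        simp only [if_true] at htree
        rw [← htree, mk_rB]
        exact Subgroup.mul_mem _ ihp (Subgroup.subset_closure (by simp))
      | false =>
        rw [hg] at htree
        simp only [Bool.false_eq_true, if_false] at htree
        rw [← htree, mk_rA]
        exact Subgroup.mul_mem _ ihp (Subgroup.subset_closure (by simp))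

theorem closure_eq_top (D : MData X n) :
    Subgroup.closure ({⟨D.iA⟩, ⟨D.iB⟩} : Set (MG D)) = ⊤ := by
  rw [eq_top_iff]
  intro y _
  exact mem_closure D n y.k (le_of_lt y.k.isLt)

end MG

theorem MG.prodConj_eq {D : MData X n} (x : MG D) (cs : List (Fin n)) :
    prodConjG x (cs.map MG.mk) = ⟨prodConjT D.mul D.inv D.e x.k cs⟩ := by
  induction cs with
  | nil => rfl
  | cons c cs ih =>
    rw [List.map_cons, prodConjG, ih, prodConjT]
    rfl

/-- simplicity of the table group from certificates of length at most two -/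
theorem MG.isSimpleGroup {D : MData X n} [Nontrivial (MG D)] (cA1 cA2 cB1 cB2 : Fin n → Fin n)
    (hcert : ∀ x : Fin n, x.val ≠ 0 →
      (prodConjT D.mul D.inv D.e x [cA1 x] = D.iA ∨ prodConjT D.mul D.inv D.e x [cA1 x, cA2 x] = D.iA) ∧
      (prodConjT D.mul D.inv D.e x [cB1 x] = D.iB ∨ prodConjT D.mul D.inv D.e x [cB1 x, cB2 x] = D.iB)) :
    IsSimpleGroup (MG D) := by
  apply isSimpleGroup_of_cert _ (MG.closure_eq_top D)
  intro x hx s hs
  have hx0 : x.k.val ≠ 0 := by
    intro h
    apply hx
    apply MG.ext'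
    exact D.eq_e_of_val h
  obtain ⟨hA, hB⟩ := hcert x.k hx0
  simp only [Set.mem_insert_iff, Set.mem_singleton_iff] at hs
  rcases hs with rfl | rfl
  · rcases hA with h | h
    · exact ⟨[cA1 x.k].map MG.mk, by rw [MG.prodConj_eq, h]⟩
    · exact ⟨[cA1 x.k, cA2 x.k].map MG.mk, by rw [MG.prodConj_eq, h]⟩
  · rcases hB with h | h
    · exact ⟨[cB1 x.k].map MG.mk, by rw [MG.prodConj_eq, h]⟩
    · exact ⟨[cB1 x.k, cB2 x.k].map MG.mk, by rw [MG.prodConj_eq, h]⟩

end Cfsg.Agent.helper2.Tab
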