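import Mathlib
import Cfsg.Agent.Lib_helper2_M24i
import Cfsg.Agent.Lib_helper2_Sext
import Cfsg.Agent.Lib_helper2_Dfs
import Cfsg.Prelude.Def_SporadicCombinatorics

set_option autoImplicit false

namespace Cfsg.Agent.helper2.Golay

open Cfsg Cfsg.Agent.helper27
open scoped Pointwise

/-! ### Trios -/

theorem compl_pts_cw (m : ℕ) : (pts (cw m))ᶜ = pts (cw (m ^^^ 4095)) := by
  ext p
  rw [Finset.mem_compl, cw_xor, mem_pts, mem_pts, Nat.testBit_xor]
  have h2 : (cw 4095).testBit (idx p) = true := by
    have : cw 4095 = 0xFFFFFF := cw_ones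
    rw [this]
    exact full_testBit p
  rw [h2]
  cases (cw m).testBit (idx p) <;> simp

theorem octad_nonempty {a : Finset GolayPt} (ha : a ∈ octads) : a.Nonempty := by
  rw [← Finset.card_pos, octads_steiner.1 a ha]
  norm_num

theorem octad_ne_of_disjoint {a b : Finset GolayPt} (ha : a ∈ octads) (hd : Disjoint a b) :
    a ≠ b := by
  rintro rfl
  rw [disjoint_self, Finset.bot_eq_empty] at hd
  exact (octad_nonempty ha).ne_empty hd

theorem card_compl_union {a b : Finset GolayPt} (ha : a ∈ octads) (hb : b ∈ octads)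
    (hd : Disjoint a b) : ((a ∪ b)ᶜ).card = 8 := by
  rw [Finset.card_compl, Finset.card_union_of_disjoint hd, octads_steiner.1 a ha,
    octads_steiner.1 b hb, card_golayPt]

/-- The complement of the union of two disjoint octads is an octad. -/
theorem compl_union_mem_octads {a b : Finset GolayPt} (ha : a ∈ octads) (hb : b ∈ octads)
    (hd : Disjoint a b) : (a ∪ b)ᶜ ∈ octads := by
  have hcard := card_compl_union ha hb hd
  obtain ⟨m, hm, hw, rfl⟩ := exists_of_mem_octads ha
  obtain ⟨m', hm', hw', rfl⟩ := exists_of_mem_octads hb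
  have h1 : pts (cw m) ∪ pts (cw m') = pts (cw (m ^^^ m')) := by
    rw [cw_xor, pts_xor, symmDiff_eq_sup_sdiff_inf, Finset.sup_eq_union, Finset.inf_eq_inter,
      Finset.disjoint_iff_inter_eq_empty.mp hd, Finset.sdiff_empty]
  rw [h1, compl_pts_cw] at hcard ⊢
  have hlt : m ^^^ m' ^^^ 4095 < 4096 :=
    Nat.xor_lt_two_pow (n := 12) (Nat.xor_lt_two_pow (n := 12) hm hm') (by norm_num)
  apply pts_mem_octads hlt
  rw [← card_pts]
  exact hcard

/-- An octad disjoint from two disjoint octads is the complement of their union. -/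
theorem eq_compl_union {a b c : Finset GolayPt} (ha : a ∈ octads) (hb : b ∈ octads)
    (hc : c ∈ octads) (hab : Disjoint a b) (hac : Disjoint a c) (hbc : Disjoint b c) :
    c = (a ∪ b)ᶜ := by
  apply Finset.eq_of_subset_of_card_le
  · intro x hx
    rw [Finset.mem_compl, Finset.mem_union]
    rintro (h | h)
    · exact (Finset.disjoint_left.mp hac) h hx
    · exact (Finset.disjoint_left.mp hbc) h hx
  · rw [card_compl_union ha hb hab, octads_steiner.1 c hc]

theorem trio_mk {a b : Finset GolayPt} (ha : a ∈ octads) (hb : b ∈ octads) (hd : Disjoint a b) :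
    ({a, b, (a ∪ b)ᶜ} : Finset (Finset GolayPt)) ∈ trios := by
  have hc := compl_union_mem_octads ha hb hd
  have hac : Disjoint a (a ∪ b)ᶜ := by
    rw [Finset.disjoint_left]
    intro x hx hx'
    exact (Finset.mem_compl.mp hx') (Finset.mem_union_left _ hx)
  have hbc : Disjoint b (a ∪ b)ᶜ := by
    rw [Finset.disjoint_left]
    intro x hx hx'
    exact (Finset.mem_compl.mp hx') (Finset.mem_union_right _ hx)
  have hab' := octad_ne_of_disjoint ha hd
  have hac' := octad_ne_of_disjoint ha hac
  have hbc' := octad_ne_of_disjoint hb hbc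
  refine ⟨?_, ?_, ?_⟩
  · rw [Finset.card_insert_of_notMem, Finset.card_pair hbc']
    rw [Finset.mem_insert, Finset.mem_singleton]
    rintro (h | h)
    · exact hab' h
    · exact hac' h
  · intro o ho
    simp only [Finset.mem_insert, Finset.mem_singleton] at ho
    rcases ho with rfl | rfl | rfl
    · exact ha
    · exact hb
    · exact hc
  · intro o ho o' ho' hne
    simp only [Finset.mem_insert, Finset.mem_singleton] at ho ho'
    rcases ho with rfl | rfl | rfl <;> rcases ho' with rfl | rfl | rfl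
    · exact absurd rfl hne
    · exact hd
    · exact hac
    · exact hd.symm
    · exact absurd rfl hne
    · exact hbc
    · exact hac.symm
    · exact hbc.symm
    · exact absurd rfl hne

theorem trio_third {T : Finset (Finset GolayPt)} (hT : T ∈ trios) {a b : Finset GolayPt}
    (ha : a ∈ T) (hb : b ∈ T) (hab : a ≠ b) : T = {a, b, (a ∪ b)ᶜ} := by
  obtain ⟨h3, hoct, hdis⟩ := hT
  have hlt : ({a, b} : Finset (Finset GolayPt)).card < T.card := by
    rw [Finset.card_pair hab, h3]
    norm_num
  obtain ⟨c, hc, hcn⟩ := Finset.exists_mem_notMem_of_card_lt_card hlt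
  rw [Finset.mem_insert, Finset.mem_singleton, not_or] at hcn
  have hceq : c = (a ∪ b)ᶜ := eq_compl_union (hoct a ha) (hoct b hb) (hoct c hc)
    (hdis a ha b hb hab) (hdis a ha c hc (Ne.symm hcn.1)) (hdis b hb c hc (Ne.symm hcn.2))
  rw [← hceq]
  symm
  apply Finset.eq_of_subset_of_card_le
  · intro x hx
    simp only [Finset.mem_insert, Finset.mem_singleton] at hx
    rcases hx with rfl | rfl | rfl
    · exact ha
    · exact hb
    · exact hc
  · rw [h3, Finset.card_insert_of_notMem, Finset.card_pair (Ne.symm hcn.2)]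
    rw [Finset.mem_insert, Finset.mem_singleton]
    rintro (h | h)
    · exact hab h
    · exact hcn.1 h.symm

theorem trio_unique {T T' : Finset (Finset GolayPt)} (hT : T ∈ trios) (hT' : T' ∈ trios)
    {a b : Finset GolayPt} (ha : a ∈ T) (hb : b ∈ T) (ha' : a ∈ T') (hb' : b ∈ T')
    (hab : a ≠ b) : T = T' := by
  rw [trio_third hT ha hb hab, trio_third hT' ha' hb' hab]

theorem smul_mem_trios {g : Equiv.Perm GolayPt} (hg : g ∈ M24) {T : Finset (Finset GolayPt)}
    (hT : T ∈ trios) : g • T ∈ trios := by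
  obtain ⟨h3, hoct, hdis⟩ := hT
  refine ⟨by rw [Finset.card_smul_finset, h3], ?_, ?_⟩
  · intro t ht
    obtain ⟨t0, ht0, rfl⟩ := Finset.mem_smul_finset.mp ht
    exact smul_mem_octads' hg (hoct t0 ht0)
  · intro t ht u hu htu
    obtain ⟨t0, ht0, rfl⟩ := Finset.mem_smul_finset.mp ht
    obtain ⟨u0, hu0, rfl⟩ := Finset.mem_smul_finset.mp hu
    have h1 := hdis t0 ht0 u0 hu0 (by rintro rfl; exact htu rfl)
    rw [Finset.disjoint_iff_inter_eq_empty] at h1 ⊢
    rw [← Finset.smul_finset_inter, h1, Finset.smul_finset_empty]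

/-- Trios as a finset. -/
noncomputable def triosF : Finset (Finset (Finset GolayPt)) :=
  @Finset.filter _ (fun T => T ∈ trios) (Classical.decPred _) Finset.univ

theorem mem_triosF {T : Finset (Finset GolayPt)} : T ∈ triosF ↔ T ∈ trios := by
  unfold triosF
  rw [@Finset.mem_filter _ (fun T => T ∈ trios) (Classical.decPred _)]
  simp

theorem pairSet_zero_eq : pairSet 0 = ↑(triosF.biUnion (fun T => T.offDiag)) := by
  ext ⟨a, b⟩
  rw [Finset.mem_coe, Finset.mem_biUnion]
  constructor
  · rintro ⟨ha, hb, h0⟩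
    have hd : Disjoint a b := by
      rw [Finset.disjoint_iff_inter_eq_empty, ← Finset.card_eq_zero]
      exact h0
    refine ⟨{a, b, (a ∪ b)ᶜ}, mem_triosF.mpr (trio_mk ha hb hd), ?_⟩
    rw [Finset.mem_offDiag]
    exact ⟨Finset.mem_insert_self _ _, Finset.mem_insert_of_mem (Finset.mem_insert_self _ _),
      octad_ne_of_disjoint ha hd⟩
  · rintro ⟨T, hT, hab⟩
    rw [mem_triosF] at hT
    rw [Finset.mem_offDiag] at hab
    obtain ⟨ha, hb, hne⟩ := hab
    refine ⟨hT.2.1 a ha, hT.2.1 b hb, ?_⟩
    rw [Finset.card_eq_zero, ← Finset.disjoint_iff_inter_eq_empty]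
    exact hT.2.2 a ha b hb hne

/-- There are 3795 trios. -/
theorem ncard_trios : trios.ncard = 3795 := by
  have h1 : (pairSet 0).ncard = 759 * 30 := ncard_pairSet 0 30 (fun o ho => card_octClass0 ho)
  rw [pairSet_zero_eq, Set.ncard_coe_finset, Finset.card_biUnion] at h1
  · have h6 : ∀ T ∈ triosF, (T.offDiag).card = 6 := by
      intro T hT
      rw [Finset.offDiag_card, (mem_triosF.mp hT).1]
    rw [Finset.sum_const_nat h6] at h1
    have h2 : trios = ↑triosF := by
      ext T
      rw [Finset.mem_coe, mem_triosF]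
    rw [h2, Set.ncard_coe_finset]
    have h4 : triosF.card * 6 = 3795 * 6 := by
      rw [h1]
    exact Nat.eq_of_mul_eq_mul_right (by norm_num) h4
  · intro T hT T' hT' hne
    rw [Function.onFun, Finset.disjoint_left]
    rintro ⟨a, b⟩ hab hab'
    rw [Finset.mem_offDiag] at hab hab'
    exact hne (trio_unique (mem_triosF.mp hT) (mem_triosF.mp hT') hab.1 hab.2.1 hab'.1 hab'.2.1
      hab.2.2)

/-! ### Explicit trios -/

theorem pts_zero : pts 0 = ∅ := by
  ext p
  rw [mem_pts, Nat.zero_testBit]
  simp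

theorem disjoint_pts {a b : ℕ} (h : a &&& b = 0) : Disjoint (pts a) (pts b) := by
  rw [Finset.disjoint_iff_inter_eq_empty, ← pts_and, h, pts_zero]

/-- Boolean check that a list of three masks is a trio. -/
def trOK (L : List ℕ) : Bool :=
  match L with
  | [a, b, c] => isOct8 a && isOct8 b && isOct8 c && (a &&& b == 0) && (a &&& c == 0) &&
      (b &&& c == 0)
  | _ => false

theorem trOK_spec {L : List ℕ} (h : trOK L = true) : famFin L ∈ trios ∧ (L.map pts).Nodup := by
  unfold trOK at h
  split at h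
  · rename_i a b c
    simp only [Bool.and_eq_true, beq_iff_eq] at h
    obtain ⟨⟨⟨⟨⟨ha, hb⟩, hc⟩, hab⟩, hac⟩, hbc⟩ := h
    have ha' := pts_mem_octads_of_isOct8 ha
    have hb' := pts_mem_octads_of_isOct8 hb
    have hc' := pts_mem_octads_of_isOct8 hc
    have dab := disjoint_pts hab
    have dac := disjoint_pts hac
    have dbc := disjoint_pts hbc
    have hceq : pts c = (pts a ∪ pts b)ᶜ := eq_compl_union ha' hb' hc' dab dac dbc
    constructor
    · have : famFin [a, b, c] = {pts a, pts b, (pts a ∪ pts b)ᶜ} := by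
        unfold famFin
        rw [← hceq]
        simp
      rw [this]
      exact trio_mk ha' hb' dab
    · simp only [List.map_cons, List.map_nil, List.nodup_cons, List.mem_cons, List.not_mem_nil,
        or_false, not_or, not_false_eq_true, List.nodup_nil, and_true]
      exact ⟨⟨octad_ne_of_disjoint ha' dab, octad_ne_of_disjoint ha' dac⟩,
        octad_ne_of_disjoint hb' dbc⟩
  · exact absurd h (by simp)

/-- The base trio. -/
def tr0 : List ℕ := [8536111, 6889680, 1351424]

theorem tr0_ok : trOK tr0 = true := by decide +kernel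

theorem tr0_head : pts 8536111 = pts (cw 47) := by
  have : cw 47 = 8536111 := by decide +kernel
  rw [this]

/-- `M24` is transitive on trios. -/
theorem trio_to_base {T : Finset (Finset GolayPt)} (hT : T ∈ trios) :
    ∃ h ∈ M24, h • T = famFin tr0 := by
  have h3 := hT.1
  obtain ⟨a, ha⟩ : T.Nonempty := by
    rw [← Finset.card_pos, h3]
    norm_num
  obtain ⟨b, hb, hba⟩ := Finset.exists_mem_ne (by rw [h3]; norm_num : 1 < T.card) a
  have hao := hT.2.1 a ha
  have hbo := hT.2.1 b hb
  have hdab := hT.2.2 a ha b hb (Ne.symm hba)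
  obtain ⟨g1, hg1, hg1a⟩ := octads_transitive hao o0_mem
  have h0T := (trOK_spec tr0_ok).1
  have hm0 : pts (cw 47) ∈ famFin tr0 := by
    rw [← tr0_head]
    exact mem_famFin.mpr ⟨_, by simp [tr0], rfl⟩
  have hm1 : pts 6889680 ∈ famFin tr0 := mem_famFin.mpr ⟨_, by simp [tr0], rfl⟩
  have hne01 : pts (cw 47) ≠ pts 6889680 := by
    rw [← tr0_head]
    apply octad_ne_of_disjoint (h0T.2.1 _ (by rw [tr0_head]; exact hm0))
    exact disjoint_pts (by decide +kernel)
  have hd01 : (pts (cw 47) ∩ pts 6889680).card = 0 := by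
    rw [← tr0_head, ← pts_and, card_pts]
    decide +kernel
  have hd1 : (pts (cw 47) ∩ g1 • b).card = 0 := by
    rw [← hg1a, card_smul_inter, Finset.card_eq_zero, ← Finset.disjoint_iff_inter_eq_empty]
    exact hdab
  obtain ⟨s, hs, hso, hsb⟩ := octad_stab_transitive o0_mem (smul_mem_octads' hg1 hbo)
    (h0T.2.1 _ hm1) (hd1.trans hd01.symm)
  refine ⟨s * g1, Subgroup.mul_mem _ hs hg1, ?_⟩
  apply trio_unique (smul_mem_trios (Subgroup.mul_mem _ hs hg1) hT) h0T (a := pts (cw 47))
    (b := pts 6889680) _ _ hm0 hm1 hne01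
  · rw [← hso, ← hg1a, ← mul_smul]
    exact Finset.smul_mem_smul_finset ha
  · rw [← hsb, ← mul_smul]
    exact Finset.smul_mem_smul_finset hb

/-- Roots of certificates for trios: membership and value of an invariant given on lists. -/
theorem tr_roots (c : Finset (Finset GolayPt) → ℕ) (cL : List ℕ → ℕ)
    (hcL : ∀ L, (L.map pts).Nodup → c (famFin L) = cL L)
    (certs : List (ℕ × List ℕ × List (ℕ × ℕ × List ℕ)))
    (h : certs.all (fun ct => trOK ct.2.1 && (cL ct.2.1 == ct.1)) = true) :
    ∀ ct ∈ certs, famFin ct.2.1 ∈ trios ∧ c (famFin ct.2.1) = ct.1 := by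
  rw [List.all_eq_true] at h
  intro ct hct
  have h1 := h ct hct
  rw [Bool.and_eq_true, beq_iff_eq] at h1
  obtain ⟨h2, h3⟩ := trOK_spec h1.1
  exact ⟨h2, by rw [hcL _ h3]; exact h1.2⟩

end Cfsg.Agent.helper2.Golay
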