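import Mathlib
import Cfsg.Agent.Lib_helper2_Out21
import Cfsg.Agent.Lib_helper2_Dual

set_option autoImplicit false
set_option linter.unusedSectionVars false

/-!
Towards the centraliser of an octad involution of `M24` (helper2): affine coordinates on the 16
points off an octad; the octad stabiliser acts by affine maps.
-/

namespace Cfsg.Agent.helper2.Golay

open Cfsg Cfsg.Agent.helper27 Cfsg.Agent.S5550
open scoped Pointwise

def tvUl : List ℕ := [0x7dbfd0, 0x5d1440, 0x6920d0, 0x3da100, 0xcb250]

def tvU (i : Fin 5) : ℕ := tvUl.getD i.val 0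

/-- The coordinate vector of a point. -/
def tvX (p : GolayPt) : Fin 5 → ZMod 2 := fun i => toWord (tvU i) p

def o0m : ℕ := 0x82402f

theorem o0m_eq : cw 47 = o0m := by decide +kernel

/-- The coefficient vector of a number below 32. -/
def cvec (c : ℕ) : Fin 5 → ZMod 2 := fun i => if c.testBit i.val then 1 else 0

theorem tv_span : ∀ m < 4096, cw m &&& o0m = 0 → ∃ c < 32, cw m = xorSel tvUl c :=
  forall_lt_4096 (by decide +kernel)

theorem tv_expand : ∀ c < 32, ∀ p : GolayPt,
    toWord (xorSel tvUl c) p = ∑ j : Fin 5, cvec c j * tvX p j := by decide +kernel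

theorem tvU_code : ∀ i : Fin 5, cw (tvU i % 4096) = tvU i ∧ tvU i &&& o0m = 0 := by decide +kernel

theorem tvX_inj : ∀ p q : GolayPt, o0m.testBit (idx p) = false → o0m.testBit (idx q) = false →
    tvX p = tvX q → p = q := by decide +kernel

theorem o0m_lt : o0m < 2 ^ 24 := by decide

theorem tv_affine {g : Equiv.Perm GolayPt} (hg : g ∈ stabD (pts o0m)) :
    ∃ A : Matrix (Fin 5) (Fin 5) (ZMod 2), ∀ p, tvX (g p) = A.mulVec (tvX p) := by
  obtain ⟨hg24, hgo⟩ := mem_stabD.mp hg
  have key : ∀ i : Fin 5, ∃ c < 32, ∀ p, toWord (tvU i) (g p) = ∑ j : Fin 5, cvec c j * tvX p j := by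
    intro i
    have hmem : toWord (tvU i) ∈ golayCode := by
      rw [← (tvU_code i).1]
      exact cw_mem _
    have hw : wperm g⁻¹ (toWord (tvU i)) ∈ golayCode :=
      wperm_mem (Subgroup.inv_mem _ hg24) hmem
    obtain ⟨m, hm, hwm⟩ := exists_of_mem hw
    have hval : ∀ p, toWord (cw m) p = toWord (tvU i) (g p) := by
      intro p
      rw [← hwm]
      rfl
    have hzero : cw m &&& o0m = 0 := by
      apply Nat.eq_of_testBit_eq
      intro j
      rw [Nat.testBit_and, Nat.zero_testBit]
      by_cases hj : j < 24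
      · by_cases ho : o0m.testBit j = true
        · have h1 := hval (pt j)
          have h2 : g (pt j) ∈ pts o0m := by
            apply (stabD_apply_mem hg).mpr
            rw [mem_pts, idx_pt j hj]
            exact ho
          have h3 : toWord (tvU i) (g (pt j)) = 0 := by
            unfold toWord
            rw [mem_pts] at h2
            have h4 : (tvU i &&& o0m).testBit (idx (g (pt j))) = false := by
              rw [(tvU_code i).2, Nat.zero_testBit]
            rw [Nat.testBit_and, h2, Bool.and_true] at h4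
            rw [h4]
            rfl
          rw [h3] at h1
          unfold toWord at h1
          rw [idx_pt j hj] at h1
          by_cases hb : (cw m).testBit j = true
          · rw [hb] at h1
            simp at h1
          · rw [Bool.not_eq_true] at hb
            rw [hb, Bool.false_and]
        · rw [Bool.not_eq_true] at ho
          rw [ho, Bool.and_false]
      · have : o0m.testBit j = false := by
          apply Nat.testBit_lt_two_pow
          calc o0m < 2 ^ 24 := o0m_lt
            _ ≤ 2 ^ j := Nat.pow_le_pow_right (by norm_num) (by omega)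
        rw [this, Bool.and_false]
    obtain ⟨c, hc, hcm⟩ := tv_span m hm hzero
    refine ⟨c, hc, fun p => ?_⟩
    rw [← hval p, hcm]
    exact tv_expand c hc p
  choose c hc hcp using key
  refine ⟨fun i j => cvec (c i) j, fun p => ?_⟩
  funext i
  show toWord (tvU i) (g p) = _
  rw [hcp i p]
  rfl

theorem tvX_base : tvX (pt 11) = Pi.single 0 1 ∧ tvX (pt 10) = Pi.single 0 1 + Pi.single 1 1 ∧
    tvX (pt 7) = Pi.single 0 1 + Pi.single 2 1 ∧ tvX (pt 8) = Pi.single 0 1 + Pi.single 3 1 ∧
    tvX (pt 9) = Pi.single 0 1 + Pi.single 4 1 := by decide +kernel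

theorem tv_unique {A B : Matrix (Fin 5) (Fin 5) (ZMod 2)}
    (h : ∀ p, A.mulVec (tvX p) = B.mulVec (tvX p)) : A = B := by
  obtain ⟨b0, b1, b2, b3, b4⟩ := tvX_base
  have h0 := h (pt 11)
  have h1 := h (pt 10)
  have h2 := h (pt 7)
  have h3 := h (pt 8)
  have h4 := h (pt 9)
  rw [b0] at h0
  rw [b1, Matrix.mulVec_add, Matrix.mulVec_add, h0] at h1
  rw [b2, Matrix.mulVec_add, Matrix.mulVec_add, h0] at h2
  rw [b3, Matrix.mulVec_add, Matrix.mulVec_add, h0] at h3
  rw [b4, Matrix.mulVec_add, Matrix.mulVec_add, h0] at h4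
  have h1' := add_left_cancel h1
  have h2' := add_left_cancel h2
  have h3' := add_left_cancel h3
  have h4' := add_left_cancel h4
  rw [Matrix.mulVec_single_one, Matrix.mulVec_single_one] at h0 h1' h2' h3' h4'
  ext i j
  fin_cases j
  · exact congrFun h0 i
  · exact congrFun h1' i
  · exact congrFun h2' i
  · exact congrFun h3' i
  · exact congrFun h4' i

/-- The matrix of an element of the octad stabiliser. -/
noncomputable def tvN (g : Equiv.Perm GolayPt) : Matrix (Fin 5) (Fin 5) (ZMod 2) :=
  if h : ∃ A : Matrix (Fin 5) (Fin 5) (ZMod 2), ∀ p, tvX (g p) = A.mulVec (tvX p) then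
    Classical.choose h else 1

theorem tvN_spec {g : Equiv.Perm GolayPt} (hg : g ∈ stabD (pts o0m)) :
    ∀ p, tvX (g p) = (tvN g).mulVec (tvX p) := by
  have h := tv_affine hg
  unfold tvN
  rw [dif_pos h]
  exact Classical.choose_spec h

theorem tvN_eq {g : Equiv.Perm GolayPt} {A : Matrix (Fin 5) (Fin 5) (ZMod 2)}
    (hA : ∀ p, tvX (g p) = A.mulVec (tvX p)) : tvN g = A := by
  have h : ∃ A : Matrix (Fin 5) (Fin 5) (ZMod 2), ∀ p, tvX (g p) = A.mulVec (tvX p) := ⟨A, hA⟩
  unfold tvN
  rw [dif_pos h]
  apply tv_unique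
  intro p
  rw [← Classical.choose_spec h p, ← hA p]

theorem tvN_one : tvN 1 = 1 := by
  apply tvN_eq
  intro p
  rw [Matrix.one_mulVec]
  rfl

theorem tvN_mul {g h : Equiv.Perm GolayPt} (hg : g ∈ stabD (pts o0m))
    (hh : h ∈ stabD (pts o0m)) : tvN (g * h) = tvN g * tvN h := by
  apply tvN_eq
  intro p
  rw [Equiv.Perm.mul_apply, tvN_spec hg, tvN_spec hh, Matrix.mulVec_mulVec]

end Cfsg.Agent.helper2.Golay
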