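import Mathlib
import Cfsg.Agent.Lib_helper2_Tv1

set_option autoImplicit false
set_option linter.unusedSectionVars false

/-!
Towards the centraliser of an octad involution of `M24` (helper2): the homomorphism from the
centraliser to `SL(5,2)`, its injectivity, and the image of the involution.
-/

namespace Cfsg.Agent.helper2.Golay

open Cfsg Cfsg.Agent.helper27 Cfsg.Agent.S5550
open scoped Pointwise Matrix

/-- The octad involution as an element of `M24`. -/
noncomputable def tvZ : M24 := ⟨gperm repA, repA_mem⟩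

theorem tvZ_sq : tvZ * tvZ = 1 := Subtype.ext repA_sq

theorem tvZ_ne : tvZ ≠ 1 := fun h => repA_ne_one (congrArg Subtype.val h)

theorem tvZ_order : orderOf tvZ = 2 := orderOf_two_of_sq tvZ_sq tvZ_ne

theorem fixF_repA : fixF (gperm repA) = pts o0m := by
  rw [← o0m_eq]
  exact repA_filter

theorem centralizer_le_stab {g : M24} (hg : g ∈ Subgroup.centralizer ({tvZ} : Set M24)) :
    g.1 ∈ stabD (pts o0m) := by
  rw [Subgroup.mem_centralizer_iff] at hg
  have h1 : tvZ * g = g * tvZ := hg tvZ (Set.mem_singleton _)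
  have h2 : gperm repA * g.1 = g.1 * gperm repA := congrArg Subtype.val h1
  refine mem_stabD.mpr ⟨g.2, ?_⟩
  rw [← fixF_repA]
  apply smul_eq_of_apply_mem_iff
  intro p
  rw [mem_fixF, mem_fixF]
  have h3 : gperm repA (g.1 p) = g.1 (gperm repA p) := by
    rw [← Equiv.Perm.mul_apply, ← Equiv.Perm.mul_apply, h2]
  rw [h3]
  exact g.1.injective.eq_iff

theorem z2_unit : ∀ a b : ZMod 2, a * b = 1 → a = 1 := by decide

theorem tvN_det {g : Equiv.Perm GolayPt} (hg : g ∈ stabD (pts o0m)) : (tvN g).det = 1 := by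
  have h1 : tvN g * tvN g⁻¹ = 1 := by
    rw [← tvN_mul hg (Subgroup.inv_mem _ hg), mul_inv_cancel, tvN_one]
  have h2 := congrArg Matrix.det h1
  rw [Matrix.det_mul, Matrix.det_one] at h2
  exact z2_unit _ _ h2

/-- The homomorphism from the centraliser of the octad involution to `SL(5,2)`. -/
noncomputable def tvPhi :
    ↥(Subgroup.centralizer ({tvZ} : Set M24)) →* Matrix.SpecialLinearGroup (Fin 5) (ZMod 2) where
  toFun g := ⟨(tvN (g.1.1)⁻¹)ᵀ, by
    rw [Matrix.det_transpose]
    exact tvN_det (Subgroup.inv_mem _ (centralizer_le_stab g.2))⟩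
  map_one' := by
    apply Subtype.ext
    show (tvN ((1 : Equiv.Perm GolayPt))⁻¹)ᵀ = 1
    rw [inv_one, tvN_one, Matrix.transpose_one]
  map_mul' g h := by
    apply Subtype.ext
    show (tvN (g.1.1 * h.1.1)⁻¹)ᵀ = (tvN (g.1.1)⁻¹)ᵀ * (tvN (h.1.1)⁻¹)ᵀ
    rw [mul_inv_rev, tvN_mul (Subgroup.inv_mem _ (centralizer_le_stab h.2))
      (Subgroup.inv_mem _ (centralizer_le_stab g.2)), Matrix.transpose_mul]

theorem tvPhi_val (g : ↥(Subgroup.centralizer ({tvZ} : Set M24))) :
    ((tvPhi g : Matrix.SpecialLinearGroup (Fin 5) (ZMod 2)) : Matrix (Fin 5) (Fin 5) (ZMod 2))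
      = (tvN (g.1.1)⁻¹)ᵀ := rfl

theorem repA_affine : ∀ p : GolayPt, tvX (pt (tb repA.1 (idx p)))
    = (1 + Matrix.single (1 : Fin 5) (0 : Fin 5) (1 : ZMod 2)).mulVec (tvX p) := by decide +kernel

theorem tvN_repA : tvN (gperm repA) = 1 + Matrix.single (1 : Fin 5) (0 : Fin 5) (1 : ZMod 2) := by
  apply tvN_eq
  intro p
  rw [gperm_apply repA_ok.1]
  exact repA_affine p

theorem tvZ_mem_centralizer : tvZ ∈ Subgroup.centralizer ({tvZ} : Set M24) := by
  rw [Subgroup.mem_centralizer_iff]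
  intro h hh
  rw [Set.mem_singleton_iff] at hh
  rw [hh]

theorem tvPhi_tvZ : ((tvPhi ⟨tvZ, tvZ_mem_centralizer⟩ : Matrix.SpecialLinearGroup (Fin 5) (ZMod 2)) :
    Matrix (Fin 5) (Fin 5) (ZMod 2)) = Matrix.transvection 0 1 1 := by
  rw [tvPhi_val]
  have h1 : (gperm repA)⁻¹ = gperm repA := by
    rw [inv_eq_iff_mul_eq_one]
    exact repA_sq
  show (tvN (gperm repA)⁻¹)ᵀ = _
  rw [h1, tvN_repA, Matrix.transpose_add, Matrix.transpose_one, Matrix.transpose_single]
  rfl

theorem tvPhi_injective : Function.Injective tvPhi := by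
  rw [injective_iff_map_eq_one]
  intro g hg
  have h1 : (tvN (g.1.1)⁻¹)ᵀ = 1 := by
    rw [← tvPhi_val, hg]
    rfl
  have h2 : tvN (g.1.1)⁻¹ = 1 := by
    have := congrArg Matrix.transpose h1
    rwa [Matrix.transpose_transpose, Matrix.transpose_one] at this
  have hmem := Subgroup.inv_mem _ (centralizer_le_stab g.2)
  have hspec := tvN_spec hmem
  rw [h2] at hspec
  have hfix : ∀ p, p ∉ pts o0m → (g.1.1)⁻¹ p = p := by
    intro p hp
    have h3 := hspec p
    rw [Matrix.one_mulVec] at h3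
    have hp' : (g.1.1)⁻¹ p ∉ pts o0m := fun h => hp ((stabD_apply_mem hmem).mp h)
    rw [mem_pts, Bool.not_eq_true] at hp hp'
    exact tvX_inj _ _ hp' hp h3
  have hinv : (g.1.1)⁻¹ = 1 := by
    by_contra hne
    have h8 := fix_le_eight (Subgroup.inv_mem _ g.1.2) hne
    have hsub : (pts o0m)ᶜ ⊆ fixF (g.1.1)⁻¹ := by
      intro p hp
      exact mem_fixF.mpr (hfix p (Finset.mem_compl.mp hp))
    have h16 := Finset.card_le_card hsub
    have hc : (pts o0m)ᶜ.card = 16 := by
      rw [Finset.card_compl, Golay.card_golayPt, ← o0m_eq]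
      have := out_card_octad o0_mem
      rw [this]
    omega
  apply Subtype.ext
  apply Subtype.ext
  show g.1.1 = 1
  rw [← inv_inv g.1.1, hinv, inv_one]

end Cfsg.Agent.helper2.Golay
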