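import Mathlib
import Cfsg.Agent.Lib_helper2_Tv2

set_option autoImplicit false
set_option linter.unusedSectionVars false

/-!
Towards the centraliser of an octad involution of `M24` (helper2): the centraliser has at least
21504 elements (the class has at most `759 * 15` elements).
-/

namespace Cfsg.Agent.helper2.Golay

open Cfsg Cfsg.Agent.helper27
open scoped Pointwise

/-- A base point off a set. -/
noncomputable def basePt (o : Finset GolayPt) : GolayPt :=
  if h : (oᶜ).Nonempty then h.choose else none

theorem basePt_mem {o : Finset GolayPt} (ho : o ∈ weightFinset 8) : basePt o ∈ oᶜ := by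
  have hne : (oᶜ).Nonempty := by
    apply Finset.card_pos.mp
    rw [Finset.card_compl, Golay.card_golayPt, card_of_mem_weightFinset ho]
    norm_num
  unfold basePt
  rw [dif_pos hne]
  exact hne.choose_spec

/-- The pairs (octad, point off the octad other than its base point). -/
noncomputable def classBound : Finset (Finset GolayPt × GolayPt) :=
  ((weightFinset 8).sigma (fun o => (oᶜ).erase (basePt o))).map
    (Equiv.sigmaEquivProd (Finset GolayPt) GolayPt).toEmbedding

theorem mem_classBound {o : Finset GolayPt} {r : GolayPt} :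
    (o, r) ∈ classBound ↔ o ∈ weightFinset 8 ∧ r ∈ (oᶜ).erase (basePt o) := by
  unfold classBound
  rw [Finset.mem_map_equiv, Finset.mem_sigma]
  rfl

theorem card_classBound : classBound.card = 11385 := by
  unfold classBound
  rw [Finset.card_map, Finset.card_sigma]
  have h : ∀ o ∈ weightFinset 8, ((oᶜ).erase (basePt o)).card = 15 := by
    intro o ho
    rw [Finset.card_erase_of_mem (basePt_mem ho), Finset.card_compl, Golay.card_golayPt,
      card_of_mem_weightFinset ho]
  rw [Finset.sum_congr rfl h, Finset.sum_const, card_weightFinset8]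
  rfl

attribute [irreducible] classBound

theorem fixF_mem_of_conj {y : M24} (hy : IsConj tvZ y) : fixF y.1 ∈ weightFinset 8 := by
  obtain ⟨c, hc⟩ := isConj_iff.mp hy
  have h1 : c.1 * gperm repA * c.1⁻¹ = y.1 := congrArg Subtype.val hc
  have h2 : c.1⁻¹ * y.1 * c.1⁻¹⁻¹ = gperm repA := by
    rw [← h1]
    group
  have h3 := fix_of_conj_repA (Subgroup.inv_mem _ c.2) h2
  rw [octads_eq] at h3
  exact Finset.mem_coe.mp h3

theorem classBound_mem (y : {y : M24 // IsConj tvZ y}) :
    (fixF y.1.1, y.1.1 (basePt (fixF y.1.1))) ∈ classBound := by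
  have ho := fixF_mem_of_conj y.2
  rw [mem_classBound]
  refine ⟨ho, ?_⟩
  have hb := basePt_mem ho
  rw [Finset.mem_compl, mem_fixF] at hb
  rw [Finset.mem_erase, Finset.mem_compl, mem_fixF]
  refine ⟨hb, ?_⟩
  intro h
  exact hb (y.1.1.injective h)

/-- The map from the class to the bounding set. -/
noncomputable def classMap (y : {y : M24 // IsConj tvZ y}) : {x // x ∈ classBound} :=
  ⟨_, classBound_mem y⟩

theorem classMap_injective : Function.Injective classMap := by
  intro y y' hyy
  have h1 : (fixF y.1.1, y.1.1 (basePt (fixF y.1.1)))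
      = (fixF y'.1.1, y'.1.1 (basePt (fixF y'.1.1))) := congrArg Subtype.val hyy
  have ho : fixF y.1.1 = fixF y'.1.1 := congrArg Prod.fst h1
  have hb : y.1.1 (basePt (fixF y.1.1)) = y'.1.1 (basePt (fixF y'.1.1)) := congrArg Prod.snd h1
  rw [← ho] at hb
  have hoW := fixF_mem_of_conj y.2
  have hwM : (y.1.1)⁻¹ * y'.1.1 ∈ M24 := Subgroup.mul_mem _ (Subgroup.inv_mem _ y.1.2) y'.1.2
  have hw1 : (y.1.1)⁻¹ * y'.1.1 = 1 := by
    by_contra hne
    have h8 := fix_le_eight hwM hne
    have hsub : insert (basePt (fixF y.1.1)) (fixF y.1.1) ⊆ fixF ((y.1.1)⁻¹ * y'.1.1) := by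
      intro p hp
      rw [Finset.mem_insert] at hp
      rw [mem_fixF, Equiv.Perm.mul_apply, Equiv.Perm.inv_eq_iff_eq]
      rcases hp with rfl | hp
      · exact hb.symm
      · have h2 : y.1.1 p = p := mem_fixF.mp hp
        have h3 : y'.1.1 p = p := mem_fixF.mp (ho ▸ hp)
        rw [h2, h3]
    have h9 := Finset.card_le_card hsub
    have hbm := basePt_mem hoW
    rw [Finset.mem_compl] at hbm
    rw [Finset.card_insert_of_notMem hbm, card_of_mem_weightFinset hoW] at h9
    omega
  have h5 : y.1.1 = y'.1.1 := by
    rw [inv_mul_eq_one] at hw1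
    exact hw1
  exact Subtype.ext (Subtype.ext h5)

theorem card_class_le : Nat.card {y : M24 // IsConj tvZ y} ≤ 11385 := by
  have := Nat.card_le_card_of_injective classMap classMap_injective
  rw [Nat.card_eq_fintype_card (α := {x // x ∈ classBound}), Fintype.card_coe,
    card_classBound] at this
  exact this

theorem card_centralizer_ge : 21504 ≤ Nat.card (Subgroup.centralizer ({tvZ} : Set M24)) := by
  have h := Cfsg.Agent.helper2.card_conj_mul_card_centralizer tvZ
  rw [card_M24] at h
  have h1 := card_class_le
  by_contra hlt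
  push Not at hlt
  have h2 : Nat.card {y : M24 // IsConj tvZ y} *
      Nat.card (Subgroup.centralizer ({tvZ} : Set M24)) ≤ 11385 * 21503 :=
    Nat.mul_le_mul h1 (by omega)
  omega

end Cfsg.Agent.helper2.Golay
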