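import Mathlib

set_option autoImplicit false
set_option linter.unusedSectionVars false

/-!
The centraliser of a transvection in `SL(5,2)` has at most `21504` elements (helper2).
-/

namespace Cfsg.Agent.helper2.Tvc

open Matrix

/-- The shape of the matrices commuting with the transvection `1 + E₀₁`. -/
def Shape (g : Matrix (Fin 5) (Fin 5) (ZMod 2)) : Prop :=
  g 0 0 = 1 ∧ g 1 1 = 1 ∧ (∀ i, i ≠ 0 → g i 0 = 0) ∧ (∀ j, j ≠ 1 → g 1 j = 0)

theorem z2_ne_zero : ∀ x : ZMod 2, x ≠ 0 → x = 1 := by decide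

theorem shape_of_comm {g : Matrix (Fin 5) (Fin 5) (ZMod 2)} (hdet : g.det = 1)
    (h : g * transvection 0 1 1 = transvection 0 1 1 * g) : Shape g := by
  have hE : g * single 0 1 1 = single 0 1 1 * g := by
    unfold transvection at h
    rw [mul_add, add_mul, mul_one, one_mul] at h
    exact add_left_cancel h
  have hcol : ∀ i, i ≠ 0 → g i 0 = 0 := by
    intro i hi
    have h1 := congrFun (congrFun hE i) 1
    rw [mul_single_apply_same, single_mul_apply_of_ne _ _ _ _ _ hi, mul_one] at h1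
    exact h1
  have hrow : ∀ j, j ≠ 1 → g 1 j = 0 := by
    intro j hj
    have h1 := congrFun (congrFun hE 0) j
    rw [mul_single_apply_of_ne _ _ _ _ _ hj, single_mul_apply_same, one_mul] at h1
    exact h1.symm
  have hd : g 0 0 = g 1 1 := by
    have h1 := congrFun (congrFun hE 0) 1
    rw [mul_single_apply_same, single_mul_apply_same, mul_one, one_mul] at h1
    exact h1
  have h00 : g 0 0 = 1 := by
    apply z2_ne_zero
    intro h0
    have h1 : g.det = 0 := by
      apply det_eq_zero_of_column_eq_zero 0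
      intro i
      by_cases hi : i = 0
      · rw [hi]
        exact h0
      · exact hcol i hi
    rw [hdet] at h1
    exact one_ne_zero h1
  exact ⟨h00, hd ▸ h00, hcol, hrow⟩

/-- The lower right block. -/
def blk (g : Matrix (Fin 5) (Fin 5) (ZMod 2)) : Matrix (Fin 3) (Fin 3) (ZMod 2) :=
  fun k l => g k.succ.succ l.succ.succ

theorem blk_mul {g h : Matrix (Fin 5) (Fin 5) (ZMod 2)} (hg : Shape g) (hh : Shape h)
    (hgh : g * h = 1) : blk g * blk h = 1 := by
  ext k l
  have h1 := congrFun (congrFun hgh k.succ.succ) l.succ.succ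
  rw [mul_apply, Fin.sum_univ_succ, Fin.sum_univ_succ] at h1
  have h2 : g k.succ.succ 0 = 0 := hg.2.2.1 _ (Fin.succ_ne_zero _)
  have h3 : h (Fin.succ 0) l.succ.succ = 0 := by
    apply hh.2.2.2
    intro h4
    have h5 : l.succ = 0 := Fin.succ_injective _ h4
    exact Fin.succ_ne_zero _ h5
  rw [h2, h3, zero_mul, mul_zero, zero_add, zero_add] at h1
  rw [mul_apply]
  show ∑ j : Fin 3, g k.succ.succ j.succ.succ * h j.succ.succ l.succ.succ = _
  rw [h1, one_apply, one_apply]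
  by_cases hkl : k = l
  · rw [if_pos hkl, if_pos (by rw [hkl])]
  · rw [if_neg hkl, if_neg]
    intro h4
    exact hkl (Fin.succ_injective _ (Fin.succ_injective _ h4))

variable {s : SpecialLinearGroup (Fin 5) (ZMod 2)}

theorem shape_of_mem (hs : (s : Matrix (Fin 5) (Fin 5) (ZMod 2)) = transvection 0 1 1)
    {g : SpecialLinearGroup (Fin 5) (ZMod 2)}
    (hg : g ∈ Subgroup.centralizer ({s} : Set (SpecialLinearGroup (Fin 5) (ZMod 2)))) :
    Shape g.1 := by
  apply shape_of_comm g.2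
  rw [Subgroup.mem_centralizer_iff] at hg
  have h1 := hg s (Set.mem_singleton _)
  have h2 : s.1 * g.1 = g.1 * s.1 := congrArg Subtype.val h1
  rw [← hs]
  exact h2.symm

theorem coe_mul_inv
    (g : ↥(Subgroup.centralizer ({s} : Set (SpecialLinearGroup (Fin 5) (ZMod 2))))) :
    g.1.1 * (g⁻¹).1.1 = 1 := by
  have h1 : g * g⁻¹ = 1 := mul_inv_cancel g
  have h2 : g.1 * (g⁻¹).1 = 1 := by
    rw [← Subgroup.coe_mul, h1, Subgroup.coe_one]
  have h3 : ((g.1 * (g⁻¹).1 : SpecialLinearGroup (Fin 5) (ZMod 2)) :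
      Matrix (Fin 5) (Fin 5) (ZMod 2)) = ((1 : SpecialLinearGroup (Fin 5) (ZMod 2)) :
      Matrix (Fin 5) (Fin 5) (ZMod 2)) := by rw [h2]
  rw [Matrix.SpecialLinearGroup.coe_mul, Matrix.SpecialLinearGroup.coe_one] at h3
  exact h3

theorem coe_inv_mul
    (g : ↥(Subgroup.centralizer ({s} : Set (SpecialLinearGroup (Fin 5) (ZMod 2))))) :
    (g⁻¹).1.1 * g.1.1 = 1 := by
  have h1 : g⁻¹ * g = 1 := inv_mul_cancel g
  have h2 : (g⁻¹).1 * g.1 = 1 := by
    rw [← Subgroup.coe_mul, h1, Subgroup.coe_one]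
  have h3 : (((g⁻¹).1 * g.1 : SpecialLinearGroup (Fin 5) (ZMod 2)) :
      Matrix (Fin 5) (Fin 5) (ZMod 2)) = ((1 : SpecialLinearGroup (Fin 5) (ZMod 2)) :
      Matrix (Fin 5) (Fin 5) (ZMod 2)) := by rw [h2]
  rw [Matrix.SpecialLinearGroup.coe_mul, Matrix.SpecialLinearGroup.coe_one] at h3
  exact h3

/-- The lower right block as an invertible matrix. -/
noncomputable def blkGL (hs : (s : Matrix (Fin 5) (Fin 5) (ZMod 2)) = transvection 0 1 1)
    (g : ↥(Subgroup.centralizer ({s} : Set (SpecialLinearGroup (Fin 5) (ZMod 2))))) :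
    GL (Fin 3) (ZMod 2) :=
  ⟨blk g.1.1, blk (g⁻¹).1.1,
    blk_mul (shape_of_mem hs g.2) (shape_of_mem hs (g⁻¹).2) (coe_mul_inv g),
    blk_mul (shape_of_mem hs (g⁻¹).2) (shape_of_mem hs g.2) (coe_inv_mul g)⟩

/-- The coordinates of an element of the centraliser. -/
noncomputable def tvcMap (hs : (s : Matrix (Fin 5) (Fin 5) (ZMod 2)) = transvection 0 1 1)
    (g : ↥(Subgroup.centralizer ({s} : Set (SpecialLinearGroup (Fin 5) (ZMod 2))))) :
    (Fin 4 → ZMod 2) × (Fin 3 → ZMod 2) × GL (Fin 3) (ZMod 2) :=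
  (fun k => g.1.1 0 k.succ, fun k => g.1.1 k.succ.succ 1, blkGL hs g)

theorem tvcMap_injective (hs : (s : Matrix (Fin 5) (Fin 5) (ZMod 2)) = transvection 0 1 1) :
    Function.Injective (tvcMap hs) := by
  intro g g' hgg
  have hS := shape_of_mem hs g.2
  have hS' := shape_of_mem hs g'.2
  have h1 : ∀ k : Fin 4, g.1.1 0 k.succ = g'.1.1 0 k.succ :=
    fun k => congrFun (congrArg Prod.fst hgg) k
  have h2 : ∀ k : Fin 3, g.1.1 k.succ.succ 1 = g'.1.1 k.succ.succ 1 :=
    fun k => congrFun (congrArg (fun x => x.2.1) hgg) k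
  have h3 : blk g.1.1 = blk g'.1.1 :=
    congrArg (fun x => (x.2.2 : Matrix (Fin 3) (Fin 3) (ZMod 2))) hgg
  apply Subtype.ext
  apply Subtype.ext
  ext i j
  rcases Fin.eq_zero_or_eq_succ i with rfl | ⟨i, rfl⟩
  · rcases Fin.eq_zero_or_eq_succ j with rfl | ⟨j, rfl⟩
    · rw [hS.1, hS'.1]
    · exact h1 j
  · rcases Fin.eq_zero_or_eq_succ i with rfl | ⟨i, rfl⟩
    · by_cases hj : j = 1
      · rw [hj]
        show g.1.1 1 1 = g'.1.1 1 1
        rw [hS.2.1, hS'.2.1]
      · show g.1.1 1 j = g'.1.1 1 j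
        rw [hS.2.2.2 j hj, hS'.2.2.2 j hj]
    · rcases Fin.eq_zero_or_eq_succ j with rfl | ⟨j, rfl⟩
      · rw [hS.2.2.1 _ (Fin.succ_ne_zero _), hS'.2.2.1 _ (Fin.succ_ne_zero _)]
      · rcases Fin.eq_zero_or_eq_succ j with rfl | ⟨j, rfl⟩
        · exact h2 i
        · exact congrFun (congrFun h3 i) j

theorem card_centralizer_le (hs : (s : Matrix (Fin 5) (Fin 5) (ZMod 2)) = transvection 0 1 1) :
    Nat.card ↥(Subgroup.centralizer ({s} : Set (SpecialLinearGroup (Fin 5) (ZMod 2))))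
      ≤ 21504 := by
  have h := Nat.card_le_card_of_injective (tvcMap hs) (tvcMap_injective hs)
  rw [Nat.card_prod, Nat.card_prod, card_GL_field] at h
  simp only [Nat.card_eq_fintype_card, Fintype.card_fun, ZMod.card, Fintype.card_fin] at h
  rw [Fin.prod_univ_three] at h
  norm_num at h
  exact h

end Cfsg.Agent.helper2.Tvc
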