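import Mathlib
import Cfsg.Prelude.Def_MonsterType
import Cfsg.Agent.Lib_helper25_AffA
import Cfsg.Agent.Lib_helper25_TransvF
import Cfsg.Agent.S5595

set_option autoImplicit false
set_option linter.unusedSectionVars false

/-!
Transport of the structure of an involution centraliser along an isomorphism of centralisers
(helper2): the largest normal 2-subgroup, its extraspecial structure, complements, and the
large extraspecial property.
-/

namespace Cfsg.Agent.helper2.LXT

open Cfsg Cfsg.Agent.helper28.LargeES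

variable {G T : Type*} [Group G] [Group T]

theorem isElementaryAbelian_of_equiv {p : ℕ} {H : Subgroup G} {H' : Subgroup T}
    (f : ↥H ≃* ↥H') (h : IsElementaryAbelian p H') : IsElementaryAbelian p H := by
  obtain ⟨hc, hexp⟩ := h
  constructor
  · refine ⟨⟨fun a b => ?_⟩⟩
    apply f.injective
    rw [map_mul, map_mul]
    exact hc.is_comm.comm (f a) (f b)
  · intro a ha
    have h1 := hexp ((f ⟨a, ha⟩ : ↥H') : T) (f ⟨a, ha⟩).2
    have h2 : (f ⟨a, ha⟩) ^ p = 1 := by
      apply Subtype.ext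
      rw [Subgroup.coe_pow, h1]
      rfl
    have h3 : (⟨a, ha⟩ : ↥H) ^ p = 1 := by
      apply f.injective
      rw [map_pow, h2, map_one]
    have h4 := congrArg Subtype.val h3
    rw [Subgroup.coe_pow] at h4
    exact h4

section pull
variable (z : G) (Cs : Subgroup T) (e : ↥(Subgroup.centralizer ({z} : Set G)) ≃* ↥Cs)

/-- The embedding of the centraliser into the second group. -/
def theta : ↥(Subgroup.centralizer ({z} : Set G)) →* T := Cs.subtype.comp e.toMonoidHom

theorem theta_apply (c : ↥(Subgroup.centralizer ({z} : Set G))) :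
    theta z Cs e c = ((e c : ↥Cs) : T) := rfl

theorem theta_injective : Function.Injective (theta z Cs e) := by
  intro a b h
  apply e.injective
  exact Subtype.ext h

theorem theta_range : (theta z Cs e).range = Cs := by
  ext w
  constructor
  · rintro ⟨c, rfl⟩
    exact (e c).2
  · intro hw
    refine ⟨e.symm ⟨w, hw⟩, ?_⟩
    rw [theta_apply, e.apply_symm_apply]

/-- The subgroup of the first group corresponding to a subgroup of the second. -/
def pull (H : Subgroup T) : Subgroup G :=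
  (H.comap (theta z Cs e)).map (Subgroup.centralizer ({z} : Set G)).subtype

theorem mem_pull {H : Subgroup T} {x : G} : x ∈ pull z Cs e H ↔
    ∃ c : ↥(Subgroup.centralizer ({z} : Set G)), theta z Cs e c ∈ H ∧ (c : G) = x := by
  unfold pull
  rw [Subgroup.mem_map]
  constructor
  · rintro ⟨c, hc, rfl⟩
    exact ⟨c, hc, rfl⟩
  · rintro ⟨c, hc, rfl⟩
    exact ⟨c, hc, rfl⟩

theorem pull_mono {H K : Subgroup T} (h : H ≤ K) : pull z Cs e H ≤ pull z Cs e K :=
  Subgroup.map_mono (Subgroup.comap_mono h)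

theorem pull_inf (H K : Subgroup T) :
    pull z Cs e (H ⊓ K) = pull z Cs e H ⊓ pull z Cs e K := by
  unfold pull
  rw [Subgroup.comap_inf, Subgroup.map_inf _ _ _ (Subgroup.subtype_injective _)]

theorem pull_sup {H K : Subgroup T} (hH : H ≤ Cs) (hK : K ≤ Cs) :
    pull z Cs e (H ⊔ K) = pull z Cs e H ⊔ pull z Cs e K := by
  unfold pull
  rw [← Subgroup.comap_sup_eq_of_le_range (theta z Cs e) (by rw [theta_range]; exact hH)
    (by rw [theta_range]; exact hK), Subgroup.map_sup]

theorem pull_bot : pull z Cs e ⊥ = ⊥ := by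
  unfold pull
  rw [MonoidHom.comap_bot, (MonoidHom.ker_eq_bot_iff _).mpr (theta_injective z Cs e),
    Subgroup.map_bot]

theorem pull_top : pull z Cs e Cs = Subgroup.centralizer ({z} : Set G) := by
  ext x
  rw [mem_pull]
  constructor
  · rintro ⟨c, -, rfl⟩
    exact c.2
  · intro hx
    exact ⟨⟨x, hx⟩, (e ⟨x, hx⟩).2, rfl⟩

/-- The corresponding subgroups are isomorphic. -/
noncomputable def pullEquiv {H : Subgroup T} (hH : H ≤ Cs) : ↥(pull z Cs e H) ≃* ↥H :=
  ((Subgroup.equivMapOfInjective (H.comap (theta z Cs e)) _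
    (Subgroup.subtype_injective _)).symm).trans
    (Cfsg.Agent.helper25.AffA.comapEquiv (theta z Cs e) (theta_injective z Cs e) H
      (by rw [theta_range]; exact hH))

theorem pull_pCore : pull z Cs e ((pCore 2 ↥Cs).map Cs.subtype) = Qof z := by
  unfold pull Qof
  congr 1
  have h1 := Cfsg.Agent.helper14.pCore_map_equiv 2 e
  ext c
  rw [Subgroup.mem_comap]
  constructor
  · rintro ⟨w, hw, hwc⟩
    have h2 : w = e c := Subtype.ext hwc
    rw [h2, ← h1] at hw
    obtain ⟨c', hc', hcc⟩ := hw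
    have h3 : c' = c := e.injective hcc
    rwa [h3] at hc'
  · intro hc
    refine ⟨e c, ?_, rfl⟩
    rw [← h1]
    exact Subgroup.mem_map_of_mem _ hc

end pull

theorem comm_of_commutator_eq_one {k q : G} (h : k * q * k⁻¹ * q⁻¹ = 1) : q * k = k * q := by
  calc q * k = (k * q * k⁻¹ * q⁻¹)⁻¹ * (k * q) := by group
    _ = k * q := by rw [h, inv_one, one_mul]

/-- Transport of the structure of the centraliser of an involution. -/
theorem main [Finite G] {z : G} (hz : orderOf z = 2) (Cs : Subgroup T)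
    (e : ↥(Subgroup.centralizer ({z} : Set G)) ≃* ↥Cs) {L : Type*} [Group L] (m1 m2 : ℕ)
    (hT : IsExtraspecial 2 ↥((pCore 2 ↥Cs).map Cs.subtype) ∧
      Nat.card ↥((pCore 2 ↥Cs).map Cs.subtype) = m1 ∧
      (∃ E : Subgroup T, E ≤ (pCore 2 ↥Cs).map Cs.subtype ∧ IsElementaryAbelian 2 E ∧
        Nat.card ↥E = m2) ∧
      IsLargeExtraspecial ((pCore 2 ↥Cs).map Cs.subtype) ∧
      ∃ K : Subgroup T, K ≤ Cs ∧ (pCore 2 ↥Cs).map Cs.subtype ⊓ K = ⊥ ∧
        (pCore 2 ↥Cs).map Cs.subtype ⊔ K = Cs ∧ Nonempty (↥K ≃* L))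
    (a : G) (ha : a ∈ Qof z) (ha1 : ∃ g : G, g * z * g⁻¹ = a)
    (ha2 : ∃ g : G, g * z * g⁻¹ = a * z) :
    IsExtraspecial 2 ↥(Qof z) ∧ Nat.card ↥(Qof z) = m1 ∧
      (∃ E : Subgroup G, E ≤ Qof z ∧ IsElementaryAbelian 2 E ∧ Nat.card ↥E = m2) ∧
      IsLargeExtraspecial (Qof z) ∧
      ∃ K : Subgroup G, K ≤ Subgroup.centralizer ({z} : Set G) ∧ Qof z ⊓ K = ⊥ ∧
        Qof z ⊔ K = Subgroup.centralizer ({z} : Set G) ∧ Nonempty (↥K ≃* L) := by
  obtain ⟨hES, hcard, ⟨Es, hEs, hEsab, hEscard⟩, hLX, Ks, hKs, hinf, hsup, ⟨fK⟩⟩ := hT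
  have hQsC : (pCore 2 ↥Cs).map Cs.subtype ≤ Cs := by
    rintro _ ⟨w, -, rfl⟩
    exact w.2
  have hpQ : pull z Cs e ((pCore 2 ↥Cs).map Cs.subtype) = Qof z := pull_pCore z Cs e
  have fQ : ↥(Qof z) ≃* ↥((pCore 2 ↥Cs).map Cs.subtype) :=
    (MulEquiv.subgroupCongr hpQ.symm).trans (pullEquiv z Cs e hQsC)
  have h1 : IsExtraspecial 2 ↥(Qof z) :=
    Cfsg.Agent.helper25.AffA.isExtraspecial_of_equiv 2 fQ.symm hES
  have h2 : Nat.card ↥(Qof z) = m1 := by
    rw [Nat.card_congr fQ.toEquiv]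
    exact hcard
  have hzQ : z ∈ Qof z := self_mem_Qof hz
  have hzz : z * z = 1 := by
    rw [← pow_two, ← hz]
    exact pow_orderOf_eq_one z
  -- the centraliser of `Q`
  have hcenS : Subgroup.centralizer (((pCore 2 ↥Cs).map Cs.subtype : Subgroup T) : Set T)
      ≤ (pCore 2 ↥Cs).map Cs.subtype := by
    rw [hLX.2.1]
    rintro _ ⟨y, -, rfl⟩
    exact y.2
  have hcen : ∀ x : G, x ∈ Subgroup.centralizer ((Qof z : Subgroup G) : Set G) → x ∈ Qof z := by
    intro x hx
    rw [Subgroup.mem_centralizer_iff] at hx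
    have hxz : z * x = x * z := hx z hzQ
    have hxC : x ∈ Subgroup.centralizer ({z} : Set G) := mem_cent_iff.mpr hxz.symm
    have hth : theta z Cs e ⟨x, hxC⟩ ∈ Subgroup.centralizer
        (((pCore 2 ↥Cs).map Cs.subtype : Subgroup T) : Set T) := by
      rw [Subgroup.mem_centralizer_iff]
      intro w hw
      have hwC : w ∈ Cs := hQsC hw
      have hc' : ((e.symm ⟨w, hwC⟩ : ↥(Subgroup.centralizer ({z} : Set G))) : G) ∈ Qof z := by
        rw [← hpQ, mem_pull]
        refine ⟨e.symm ⟨w, hwC⟩, ?_, rfl⟩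
        rw [theta_apply, e.apply_symm_apply]
        exact hw
      have h3 := hx _ hc'
      have h4 : e.symm ⟨w, hwC⟩ * ⟨x, hxC⟩ = ⟨x, hxC⟩ * e.symm ⟨w, hwC⟩ := Subtype.ext h3
      have h5 := congrArg e h4
      rw [map_mul, map_mul, e.apply_symm_apply] at h5
      have h6 := congrArg Subtype.val h5
      exact h6
    have h7 := hcenS hth
    rw [← hpQ, mem_pull]
    exact ⟨⟨x, hxC⟩, h7, rfl⟩
  have hb : Subgroup.centralizer ((Qof z : Subgroup G) : Set G)
      = (Subgroup.center ↥(Qof z)).map (Qof z).subtype := by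
    ext x
    constructor
    · intro hx
      have hxQ := hcen x hx
      rw [Subgroup.mem_map]
      refine ⟨⟨x, hxQ⟩, ?_, rfl⟩
      rw [Subgroup.mem_center_iff]
      intro q
      apply Subtype.ext
      rw [Subgroup.mem_centralizer_iff] at hx
      exact hx q.1 q.2
    · intro hx
      rw [Subgroup.mem_map] at hx
      obtain ⟨y, hy, rfl⟩ := hx
      rw [Subgroup.mem_centralizer_iff]
      intro h hh
      have h3 := Subgroup.mem_center_iff.mp hy ⟨h, hh⟩
      exact congrArg Subtype.val h3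
  have hzc : (⟨z, hzQ⟩ : ↥(Qof z)) ∈ Subgroup.center ↥(Qof z) := by
    rw [Subgroup.mem_center_iff]
    intro q
    apply Subtype.ext
    exact Qof_comm q.2
  have hc : Subgroup.centralizer
      (((Subgroup.center ↥(Qof z)).map (Qof z).subtype : Subgroup G) : Set G)
      ≤ Subgroup.normalizer ((Qof z : Subgroup G) : Set G) := by
    intro x hx
    rw [Subgroup.mem_centralizer_iff] at hx
    have hxz : z * x = x * z := hx z (Subgroup.mem_map.mpr ⟨⟨z, hzQ⟩, hzc, rfl⟩)
    rw [Subgroup.mem_normalizer_iff]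
    intro h
    constructor
    · intro hh
      exact Qof_normal hxz.symm hh
    · intro hh
      have hxi : x⁻¹ * z = z * x⁻¹ := (Commute.inv_left (show Commute x z from hxz.symm)).eq
      have h3 := Qof_normal hxi hh
      have h4 : x⁻¹ * (x * h * x⁻¹) * x⁻¹⁻¹ = h := by group
      rw [h4] at h3
      exact h3
  have hd : ∀ K : Subgroup G, Odd (Nat.card K) → Qof z ≤ Subgroup.normalizer (K : Set G) →
      K = ⊥ := by
    intro K hodd hQK
    have hnK : ∀ q ∈ Qof z, ∀ k ∈ K, q * k * q⁻¹ ∈ K := by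
      intro q hq k hk
      exact ((Subgroup.mem_normalizer_iff.mp (hQK hq)) k).mp hk
    have hK2 : ∀ {x : G}, x ∈ K → ∀ {P : Subgroup G}, IsPGroup 2 ↥P → x ∈ P → x = 1 := by
      intro x hx P hP hxP
      obtain ⟨r, hr⟩ := hP ⟨x, hxP⟩
      have h3 : x ^ (2 ^ r) = 1 := by
        have h4 := congrArg Subtype.val hr
        rw [Subgroup.coe_pow] at h4
        exact h4
      exact Cfsg.Agent.helper25.TransvF.eq_one_of_odd_of_pow K hodd hx h3
    have hcomm : ∀ {k q : G} {P : Subgroup G}, k ∈ K → IsPGroup 2 ↥P → q ∈ P →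
        k * q * k⁻¹ ∈ P → q * k * q⁻¹ ∈ K → q * k = k * q := by
      intro k q P hk hP hq h3 h4
      have h5 : k * q * k⁻¹ * q⁻¹ ∈ P := P.mul_mem h3 (P.inv_mem hq)
      have h6 : k * q * k⁻¹ * q⁻¹ ∈ K := by
        have h7 := K.mul_mem hk (K.inv_mem h4)
        have e1 : k * (q * k * q⁻¹)⁻¹ = k * q * k⁻¹ * q⁻¹ := by group
        rwa [e1] at h7
      exact comm_of_commutator_eq_one (hK2 h6 hP h5)
    have hfixz : ∀ k ∈ K, z * k = k * z → k = 1 := by
      intro k hk hkz
      have hkQ : k ∈ Subgroup.centralizer ((Qof z : Subgroup G) : Set G) := by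
        rw [Subgroup.mem_centralizer_iff]
        intro q hq
        exact hcomm hk (Qof_isPGroup z) hq (Qof_normal hkz.symm hq) (hnK q hq k hk)
      exact hK2 hk (Qof_isPGroup z) (hcen k hkQ)
    have hinvz := Cfsg.Agent.helper25.TransvF.inverts_of_fpf z hzz K
      (fun k hk => hnK z hzQ k hk) hfixz
    have hCle : Subgroup.centralizer ((Qof z : Subgroup G) : Set G) ≤ Qof z := hcen
    have hfixb : ∀ b ∈ Qof z, (∃ g : G, g * z * g⁻¹ = b) → ∀ k ∈ K, b * k = k * b → k = 1 := by
      rintro b hb ⟨g, hg⟩ k hk hkb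
      have hzb : z ∈ Qof b := by
        rw [← hg]
        exact Cfsg.Agent.S5595.result Qof (fun x => rfl) z hz h1 hCle g (by rw [hg]; exact hb)
      apply hfixz k hk
      exact hcomm hk (Qof_isPGroup b) hzb (Qof_normal hkb.symm hzb) (hnK z hzQ k hk)
    obtain ⟨g1, hg1⟩ := ha1
    have haa : a * a = 1 := by
      rw [← hg1]
      calc g1 * z * g1⁻¹ * (g1 * z * g1⁻¹) = g1 * (z * z) * g1⁻¹ := by group
        _ = 1 := by rw [hzz]; group
    have hinva := Cfsg.Agent.helper25.TransvF.inverts_of_fpf a haa K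
      (fun k hk => hnK a ha k hk) (hfixb a ha ⟨g1, hg1⟩)
    have haz : a * z ∈ Qof z := (Qof z).mul_mem ha hzQ
    rw [Subgroup.eq_bot_iff_forall]
    intro k hk
    apply hfixb (a * z) haz ha2 k hk
    have e1 := hinvz k hk
    have e2 := hinva k⁻¹ (K.inv_mem hk)
    rw [inv_inv] at e2
    calc a * z * k = a * (z * k * z⁻¹) * z := by group
      _ = a * k⁻¹ * z := by rw [e1]
      _ = (a * k⁻¹ * a⁻¹) * a * z := by group
      _ = k * (a * z) := by rw [e2]; group
  refine ⟨h1, h2, ?_, ⟨h1, hb, hc, hd⟩, ?_⟩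
  · have hEsC : Es ≤ Cs := le_trans hEs hQsC
    refine ⟨pull z Cs e Es, ?_, ?_, ?_⟩
    · rw [← hpQ]
      exact pull_mono z Cs e hEs
    · exact isElementaryAbelian_of_equiv (pullEquiv z Cs e hEsC) hEsab
    · rw [Nat.card_congr (pullEquiv z Cs e hEsC).toEquiv]
      exact hEscard
  · refine ⟨pull z Cs e Ks, ?_, ?_, ?_, ⟨(pullEquiv z Cs e hKs).trans fK⟩⟩
    · rw [← pull_top z Cs e]
      exact pull_mono z Cs e hKs
    · rw [← hpQ, ← pull_inf, hinf, pull_bot]
    · rw [← hpQ, ← pull_sup z Cs e hQsC hKs, hsup, pull_top]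

end Cfsg.Agent.helper2.LXT
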