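import Cfsg.Statements.S5424
import Cfsg.Agent.Lib_helper25_TransvE
import Cfsg.Agent.Lib_helper25_TransvF

set_option autoImplicit false
open Cfsg

namespace Cfsg.Agent.S5424

open Cfsg.Agent.S1339 Cfsg.Agent.helper25.TransvB Cfsg.Agent.helper25.TransvC
  Cfsg.Agent.helper25.TransvD Cfsg.Agent.helper25.TransvE Cfsg.Agent.helper25.TransvF

/-- Let G be the special linear group of degree n + 2 over the field with two elements, n ≥ 2, let z be a transvection, and let Q be the largest normal 2-subgroup of the centralizer C of z. Then Q is extraspecial of order 2^(2n+1) with an elementary abelian subgroup of order 2^(n+1) (plus type), Q is a large extraspecial 2-subgroup of G, and C is the split extension of Q by the special linear group of degree n over the field with two elements. -/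
theorem result (n : ℕ) (hn : 2 ≤ n) (z : Matrix.SpecialLinearGroup (Fin (n + 2)) (ZMod 2)) (hz : (z : Matrix (Fin (n + 2)) (Fin (n + 2)) (ZMod 2)) = Matrix.transvection 0 1 1) (Q : Subgroup (Matrix.SpecialLinearGroup (Fin (n + 2)) (ZMod 2))) (hQ : Q = (Cfsg.pCore 2 ↥(Subgroup.centralizer ({z} : Set (Matrix.SpecialLinearGroup (Fin (n + 2)) (ZMod 2))))).map (Subgroup.centralizer ({z} : Set (Matrix.SpecialLinearGroup (Fin (n + 2)) (ZMod 2)))).subtype) : Cfsg.IsExtraspecial 2 ↥Q ∧ Nat.card ↥Q = 2 ^ (2 * n + 1) ∧ (∃ E : Subgroup (Matrix.SpecialLinearGroup (Fin (n + 2)) (ZMod 2)), E ≤ Q ∧ Cfsg.IsElementaryAbelian 2 E ∧ Nat.card ↥E = 2 ^ (n + 1)) ∧ Cfsg.IsLargeExtraspecial Q ∧ ∃ K : Subgroup (Matrix.SpecialLinearGroup (Fin (n + 2)) (ZMod 2)), K ≤ Subgroup.centralizer ({z} : Set (Matrix.SpecialLinearGroup (Fin (n + 2)) (ZMod 2))) ∧ Q ⊓ K = ⊥ ∧ Q ⊔ K = Subgroup.centralizer ({z} : Set (Matrix.SpecialLinearGroup (Fin (n + 2)) (ZMod 2))) ∧ Nonempty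 (↥K ≃* Matrix.SpecialLinearGroup (Fin n) (ZMod 2)) := by
  have hF : Fintype.card (ZMod 2) = 2 := ZMod.card 2
  have hzt : z = tv (F := ZMod 2) 0 1 h01 := Subtype.ext hz
  subst hzt
  have hQ' : Q = qSub (F := ZMod 2) (0 : Fin (n + 2)) 1 := by
    rw [hQ]
    exact pCoreOf_Cz (F := ZMod 2) hF hn
  subst hQ'
  -- a third index
  have hb0 : (Fin.succ (Fin.succ (⟨0, by omega⟩ : Fin n)) : Fin (n + 2)) ≠ 0 := Fin.succ_ne_zero _
  have hb1 : (Fin.succ (Fin.succ (⟨0, by omega⟩ : Fin n)) : Fin (n + 2)) ≠ 1 := succ_succ_ne_one _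
  have hex := isExtraspecial_qSub (F := ZMod 2) hF h01 hb0 hb1
  have hzc : (⟨tv (F := ZMod 2) 0 1 h01, tv_mem_qSub h01⟩ : ↥(qSub (F := ZMod 2) (0 : Fin (n + 2)) 1))
      ∈ Subgroup.center ↥(qSub (F := ZMod 2) (0 : Fin (n + 2)) 1) :=
    (mem_center_qSub_iff hF h01 _).mpr (Or.inr rfl)
  refine ⟨hex, card_qSub hF, ⟨eSub (F := ZMod 2) 0, eSub_le_qSub h01, isElementaryAbelian_eSub 0,
    card_eSub hF⟩, ⟨hex, ?_, ?_, ?_⟩, ?_⟩
  · ext x
    constructor
    · intro hx
      rcases centralizer_cases hF h01 hx with h | h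
      · rw [h]; exact one_mem _
      · exact ⟨_, hzc, h.symm⟩
    · rintro ⟨y, hy, rfl⟩
      rcases (mem_center_qSub_iff hF h01 y).mp hy with h | h
      · show (y : Matrix.SpecialLinearGroup (Fin (n + 2)) (ZMod 2)) ∈ _
        rw [h]; exact one_mem _
      · show (y : Matrix.SpecialLinearGroup (Fin (n + 2)) (ZMod 2)) ∈ _
        rw [h]; exact tv_mem_centralizer_qSub h01
  · intro g hg
    apply centralizer_le_normalizer_qSub (F := ZMod 2) h01
    rw [Subgroup.mem_centralizer_iff] at hg ⊢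
    intro x hx
    rw [Set.mem_singleton_iff] at hx
    rw [hx]
    exact hg _ ⟨_, hzc, rfl⟩
  · intro K hodd hQK
    exact no_odd hF h01 hb0 hb1 K hodd hQK
  · obtain ⟨h1, h2, h3, h4⟩ := complement (F := ZMod 2) (n := n) hF
    exact ⟨_, h1, h2, h3, h4⟩

end Cfsg.Agent.S5424
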