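import Mathlib
import Cfsg.Agent.Lib_helper2_Tv3
import Cfsg.Agent.Lib_helper2_Tv4
import Cfsg.Agent.Lib_helper2_Tv5
import Cfsg.Agent.S5424

set_option autoImplicit false
set_option linter.unusedSectionVars false

/-!
The centraliser of an octad involution of `M24` (helper2): the isomorphism with the centraliser
of a transvection of `SL(5,2)` as a definition, a second translation, and conjugacy of
involutions with fixed points.
-/

namespace Cfsg.Agent.helper2.Golay

open Cfsg Cfsg.Agent.helper27 Cfsg.Agent.S5550 Cfsg.Agent.helper28.LargeES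
open scoped Pointwise Matrix

/-- The transvection `1 + E₀₁` of `SL(5,2)`. -/
def tvS : Matrix.SpecialLinearGroup (Fin 5) (ZMod 2) :=
  ⟨Matrix.transvection 0 1 1, Matrix.det_transvection_of_ne 0 1 (by decide) 1⟩

theorem tvS_coe : (tvS : Matrix (Fin 5) (Fin 5) (ZMod 2)) = Matrix.transvection 0 1 1 := rfl

theorem tvPhi_mem (g : ↥(Subgroup.centralizer ({tvZ} : Set ↥Cfsg.M24))) :
    tvPhi g ∈ Subgroup.centralizer ({tvS} : Set (Matrix.SpecialLinearGroup (Fin 5) (ZMod 2))) := by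
  have hzs : (tvPhi ⟨tvZ, tvZ_mem_centralizer⟩ : Matrix.SpecialLinearGroup (Fin 5) (ZMod 2))
      = tvS := by
    apply Subtype.ext
    exact tvPhi_tvZ.trans tvS_coe.symm
  rw [Subgroup.mem_centralizer_iff]
  intro h hh
  rw [Set.mem_singleton_iff] at hh
  rw [hh, ← hzs, ← map_mul, ← map_mul]
  congr 1
  apply Subtype.ext
  have hg := g.2
  rw [Subgroup.mem_centralizer_iff] at hg
  exact hg tvZ (Set.mem_singleton _)

/-- The isomorphism of the two centralisers. -/
noncomputable def tvE : ↥(Subgroup.centralizer ({tvZ} : Set ↥Cfsg.M24)) ≃*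
    ↥(Subgroup.centralizer ({tvS} : Set (Matrix.SpecialLinearGroup (Fin 5) (ZMod 2)))) :=
  MulEquiv.ofBijective (tvPhi.codRestrict _ tvPhi_mem) (by
    have hinj : Function.Injective (tvPhi.codRestrict
        (Subgroup.centralizer ({tvS} : Set (Matrix.SpecialLinearGroup (Fin 5) (ZMod 2))))
        tvPhi_mem) := by
      intro a b hab
      apply tvPhi_injective
      exact congrArg Subtype.val hab
    have hle : Nat.card ↥(Subgroup.centralizer
        ({tvS} : Set (Matrix.SpecialLinearGroup (Fin 5) (ZMod 2))))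
        ≤ Nat.card ↥(Subgroup.centralizer ({tvZ} : Set ↥Cfsg.M24)) :=
      le_trans (Cfsg.Agent.helper2.Tvc.card_centralizer_le tvS_coe) card_centralizer_ge
    exact hinj.bijective_of_nat_card_le hle)

theorem tvE_coe (g : ↥(Subgroup.centralizer ({tvZ} : Set ↥Cfsg.M24))) :
    ((tvE g : ↥(Subgroup.centralizer
      ({tvS} : Set (Matrix.SpecialLinearGroup (Fin 5) (ZMod 2))))) :
      Matrix.SpecialLinearGroup (Fin 5) (ZMod 2)) = tvPhi g := rfl

/-- A second translation. -/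
def tvTa : List ℕ × List ℕ :=
  ([0, 1, 2, 3, 9, 5, 12, 11, 21, 4, 22, 7, 6, 15, 14, 13, 20, 17, 19, 18, 16, 8, 10, 23],
   [0, 1, 2, 3, 9, 5, 12, 11, 21, 4, 22, 7, 6, 15, 14, 13, 20, 17, 19, 18, 16, 8, 10, 23])

theorem tvTa_ok : tablesOK tvTa.1 tvTa.2 = true ∧ codeOK tvTa.2 = true := by
  constructor <;> decide +kernel

theorem tvTa_mem : gperm tvTa ∈ M24 := gperm_mem tvTa_ok.1 tvTa_ok.2

theorem tvTa_sq : gperm tvTa * gperm tvTa = 1 := gperm_sq_one tvTa_ok.1 (by decide +kernel)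

theorem tvTa_comm' : ∀ p : GolayPt, pt (tb tvTa.1 (idx (pt (tb repA.1 (idx p)))))
    = pt (tb repA.1 (idx (pt (tb tvTa.1 (idx p))))) := by decide +kernel

theorem tvTa_comm : gperm tvTa * gperm repA = gperm repA * gperm tvTa := by
  apply Equiv.Perm.ext
  intro p
  rw [Equiv.Perm.mul_apply, Equiv.Perm.mul_apply, gperm_apply repA_ok.1, gperm_apply tvTa_ok.1,
    gperm_apply tvTa_ok.1, gperm_apply repA_ok.1]
  exact tvTa_comm' p

theorem tvTa_fix' : pt (tb tvTa.1 (idx (pt 0))) = pt 0 ∧ pt (tb repA.1 (idx (pt 0))) = pt 0 := by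
  decide +kernel

theorem tvTa_fix : gperm tvTa (pt 0) = pt 0 := by
  rw [gperm_apply tvTa_ok.1]
  exact tvTa_fix'.1

theorem repA_fix0 : gperm repA (pt 0) = pt 0 := by
  rw [gperm_apply repA_ok.1]
  exact tvTa_fix'.2

theorem tvTa_ne : gperm tvTa (pt 4) ≠ pt 4 := by
  rw [gperm_apply tvTa_ok.1]
  decide +kernel

theorem tvTa_repA_ne : (gperm tvTa * gperm repA) (pt 4) ≠ pt 4 := by
  rw [Equiv.Perm.mul_apply, gperm_apply repA_ok.1, gperm_apply tvTa_ok.1]
  decide +kernel

theorem tvTa_affine : ∀ p : GolayPt, tvX (pt (tb tvTa.1 (idx p)))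
    = (1 + Matrix.single (2 : Fin 5) (0 : Fin 5) (1 : ZMod 2)).mulVec (tvX p) := by decide +kernel

theorem tvN_tvTa : tvN (gperm tvTa) = 1 + Matrix.single (2 : Fin 5) (0 : Fin 5) (1 : ZMod 2) := by
  apply tvN_eq
  intro p
  rw [gperm_apply tvTa_ok.1]
  exact tvTa_affine p

/-- The second translation as an element of `M24`. -/
noncomputable def tvA : M24 := ⟨gperm tvTa, tvTa_mem⟩

theorem tvA_sq : tvA * tvA = 1 := Subtype.ext tvTa_sq

theorem tvA_comm : tvA * tvZ = tvZ * tvA := Subtype.ext tvTa_comm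

theorem tvA_mem_centralizer : tvA ∈ Subgroup.centralizer ({tvZ} : Set M24) :=
  mem_cent_iff.mpr tvA_comm

/-- An involution of `M24` with a fixed point is conjugate to the octad involution. -/
theorem conj_of_fixed {x : M24} (h2 : orderOf x = 2) (p : GolayPt) (hp : x.1 p = p) :
    ∃ g : M24, g * tvZ * g⁻¹ = x := by
  have h2' : orderOf x.1 = 2 := by
    rw [← h2]
    exact Subgroup.orderOf_coe x
  rcases inv_classes x.2 h2' with ⟨κ, hκ, h⟩ | ⟨κ, hκ, h⟩
  · refine ⟨⟨κ, hκ⟩⁻¹, ?_⟩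
    apply Subtype.ext
    show κ⁻¹ * gperm repA * κ⁻¹⁻¹ = x.1
    rw [← h]
    group
  · exact absurd hp (fpf_of_conj_repB h p)

theorem orderOf_two_of_sq' {G : Type*} [Group G] {g : G} (h2 : g * g = 1) (h1 : g ≠ 1) :
    orderOf g = 2 := orderOf_two_of_sq h2 h1

theorem tvA_conj : ∃ g : M24, g * tvZ * g⁻¹ = tvA := by
  apply conj_of_fixed (orderOf_two_of_sq tvA_sq ?_) (pt 0) tvTa_fix
  intro h
  have h1 : gperm tvTa = 1 := congrArg Subtype.val h
  apply tvTa_ne
  rw [h1]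
  rfl

theorem tvAZ_conj : ∃ g : M24, g * tvZ * g⁻¹ = tvA * tvZ := by
  have hsq : (tvA * tvZ) * (tvA * tvZ) = 1 := by
    calc (tvA * tvZ) * (tvA * tvZ) = tvA * (tvZ * tvA) * tvZ := by group
      _ = tvA * (tvA * tvZ) * tvZ := by rw [tvA_comm]
      _ = (tvA * tvA) * (tvZ * tvZ) := by group
      _ = 1 := by rw [tvA_sq, tvZ_sq, one_mul]
  apply conj_of_fixed (orderOf_two_of_sq hsq ?_) (pt 0)
  · show (gperm tvTa * gperm repA) (pt 0) = pt 0
    rw [Equiv.Perm.mul_apply, repA_fix0, tvTa_fix]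
  · intro h
    have h1 : gperm tvTa * gperm repA = 1 := congrArg Subtype.val h
    apply tvTa_repA_ne
    rw [h1]
    rfl

end Cfsg.Agent.helper2.Golay
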