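import Mathlib
import Cfsg.Agent.Lib_helper2_Cay1

/-!
Packed tables (64 entries per numeral, 20 numerals per row) and code-level arithmetic of 4 x 4
matrices over the field with 4 elements (base-4 codes) and over the field with 3 elements (base-3
codes).
-/

set_option autoImplicit false

namespace Cfsg.Agent.helper2.U4

def nthLL : List (List ℕ) → ℕ → List ℕ
  | [], _ => []
  | a :: _, 0 => a
  | _ :: l, k+1 => nthLL l k

def nthL : List ℕ → ℕ → ℕ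
  | [], _ => 0
  | a :: _, 0 => a
  | _ :: l, k+1 => nthL l k

/-- entry `x` of a packed table of width `w` -/
def tget (t : List (List ℕ)) (w x : ℕ) : ℕ :=
  (nthL (nthLL t (x / 1280)) (x / 64 % 20) >>> (w * (x % 64))) % 2 ^ w

theorem all_of_chunks (P : ℕ → Prop) (h : ∀ a < 162, ∀ b < 160, P (160 * a + b)) :
    ∀ x < 25920, P x := by
  intro x hx
  have := h (x / 160) (by omega) (x % 160) (Nat.mod_lt _ (by norm_num))
  rwa [Nat.div_add_mod] at this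

/-- base-4 digit -/
def dg4 (c p : ℕ) : ℕ := c / 4 ^ p % 4

/-- multiplication of the field with 4 elements on codes `re + 2 * im`, with `ω^2 = ω + 1` -/
def f4m (x y : ℕ) : ℕ := (0x9c78e400 >>> (2 * (4 * x + y))) % 4

/-- entry of the product -/
def ent4 (a b i j : ℕ) : ℕ :=
  f4m (dg4 a (4 * i)) (dg4 b j) ^^^ f4m (dg4 a (4 * i + 1)) (dg4 b (4 + j)) ^^^
    f4m (dg4 a (4 * i + 2)) (dg4 b (8 + j)) ^^^ f4m (dg4 a (4 * i + 3)) (dg4 b (12 + j))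

/-- the code with given digits -/
def enc16 (e0 e1 e2 e3 e4 e5 e6 e7 e8 e9 e10 e11 e12 e13 e14 e15 : ℕ) : ℕ :=
  e0 + 4 * e1 + 4 ^ 2 * e2 + 4 ^ 3 * e3 + 4 ^ 4 * e4 + 4 ^ 5 * e5 + 4 ^ 6 * e6 + 4 ^ 7 * e7 + 4 ^ 8 * e8 + 4 ^ 9 * e9 + 4 ^ 10 * e10 + 4 ^ 11 * e11 + 4 ^ 12 * e12 + 4 ^ 13 * e13 + 4 ^ 14 * e14 + 4 ^ 15 * e15

/-- product of codes -/
def mc4 (a b : ℕ) : ℕ :=
  enc16 (ent4 a b 0 0) (ent4 a b 0 1) (ent4 a b 0 2) (ent4 a b 0 3)
    (ent4 a b 1 0) (ent4 a b 1 1) (ent4 a b 1 2) (ent4 a b 1 3)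
    (ent4 a b 2 0) (ent4 a b 2 1) (ent4 a b 2 2) (ent4 a b 2 3)
    (ent4 a b 3 0) (ent4 a b 3 1) (ent4 a b 3 2) (ent4 a b 3 3)

end Cfsg.Agent.helper2.U4
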