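import Mathlib
import Cfsg.Agent.Lib_helper2_U4a
import Cfsg.Agent.Lib_helper2_U4b

/-! The table functions of the group of order 25920. -/

set_option autoImplicit false

namespace Cfsg.Agent.helper2.U4

def rT (k x : ℕ) : ℕ := tget (if k = 0 then R0 else R1) 15 x
def parT (x : ℕ) : ℕ := tget PAR 15 x
def genT (x : ℕ) : ℕ := tget GEN 1 x
def invT (x : ℕ) : ℕ := tget INV 15 x
def cuT (x : ℕ) : ℕ := tget CU 32 x
def csT (x : ℕ) : ℕ := tget CS 26 x
def srtT (x : ℕ) : ℕ := tget SRT 15 x
def sriT (x : ℕ) : ℕ := tget SRI 15 x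

def rF (k : Fin 2) (x : Fin 25920) : Fin 25920 := Fin.ofNat 25920 (rT k.val x.val)
def parF (x : Fin 25920) : Fin 25920 := Fin.ofNat 25920 (parT x.val)
def genF (x : Fin 25920) : Fin 2 := Fin.ofNat 2 (genT x.val)
def invF (x : Fin 25920) : Fin 25920 := Fin.ofNat 25920 (invT x.val)
def igF (k : Fin 2) : Fin 25920 := Fin.ofNat 25920 (k.val + 1)

theorem rF_val (k : Fin 2) (x : Fin 25920) : (rF k x).val = rT k.val x.val % 25920 := rfl
theorem parF_val (x : Fin 25920) : (parF x).val = parT x.val % 25920 := rfl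
theorem genF_val (x : Fin 25920) : (genF x).val = genT x.val % 2 := rfl
theorem invF_val (x : Fin 25920) : (invF x).val = invT x.val % 25920 := rfl
theorem igF_val (k : Fin 2) : (igF k).val = (k.val + 1) % 25920 := rfl

theorem all_of_chunks9 (P : ℕ → Prop)
    (h : ∀ j < 9, ∀ a < 18, ∀ b < 160, P (160 * (a + 18 * j) + b)) : ∀ x < 25920, P x := by
  intro x hx
  have := h (x / 2880) (by omega) (x / 160 % 18) (Nat.mod_lt _ (by norm_num)) (x % 160)
    (Nat.mod_lt _ (by norm_num))
  have e : 160 * (x / 160 % 18 + 18 * (x / 2880)) + x % 160 = x := by omega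
  rwa [e] at this

end Cfsg.Agent.helper2.U4
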