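import Mathlib
import Cfsg.Agent.Lib_helper2_U4c

/-! Kernel check: the codes of the unitary matrices are compatible with right multiplication. -/

set_option autoImplicit false

namespace Cfsg.Agent.helper2.U4

set_option maxRecDepth 100000 in
set_option maxHeartbeats 4000000 in
theorem chk_Mr : ∀ k < 2, ∀ j < 9, ∀ a < 18, ∀ b < 160,
    cuT (rT k (160 * (a + 18 * j) + b) % 25920) =
      mc4 (cuT (160 * (a + 18 * j) + b)) (cuT ((k + 1) % 25920)) := by
  intro k hk
  interval_cases k
  · intro j hj
    interval_cases j
    all_goals decide +kernel
  · intro j hj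
    interval_cases j
    all_goals decide +kernel

end Cfsg.Agent.helper2.U4
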