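import Mathlib
import Cfsg.Agent.Lib_helper2_U4c

/-! Kernel check: the table of inverses. -/

set_option autoImplicit false

namespace Cfsg.Agent.helper2.U4

open Cfsg.Agent.helper2.Cay

set_option maxRecDepth 100000 in
set_option maxHeartbeats 4000000 in
theorem chk_inv : ∀ j < 9, ∀ a < 18, ∀ b < 160,
    (mulG rF parF genF 25920 (invF (Fin.ofNat 25920 (160 * (a + 18 * j) + b)))
      (Fin.ofNat 25920 (160 * (a + 18 * j) + b))).val = 0 := by
  intro j hj
  interval_cases j
  all_goals decide +kernel

end Cfsg.Agent.helper2.U4
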