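import Mathlib
import Cfsg.Agent.Lib_helper2_U4c

/-! Kernel checks: the spanning tree and the sorted order of the codes. -/

set_option autoImplicit false

namespace Cfsg.Agent.helper2.U4

set_option maxRecDepth 100000 in
set_option maxHeartbeats 4000000 in
theorem chk_tree : ∀ j < 9, ∀ a < 18, ∀ b < 160,
    160 * (a + 18 * j) + b ≠ 0 →
      parT (160 * (a + 18 * j) + b) % 25920 < 160 * (a + 18 * j) + b ∧
      rT (genT (160 * (a + 18 * j) + b) % 2) (parT (160 * (a + 18 * j) + b) % 25920) % 25920 =
        160 * (a + 18 * j) + b := by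
  intro j hj
  interval_cases j
  all_goals decide +kernel

set_option maxRecDepth 100000 in
set_option maxHeartbeats 4000000 in
theorem chk_sorted : ∀ j < 9, ∀ a < 18, ∀ b < 160,
    160 * (a + 18 * j) + b + 1 < 25920 →
      cuT (srtT (160 * (a + 18 * j) + b) % 25920) <
        cuT (srtT (160 * (a + 18 * j) + b + 1) % 25920) := by
  intro j hj
  interval_cases j
  all_goals decide +kernel

set_option maxRecDepth 100000 in
set_option maxHeartbeats 4000000 in
theorem chk_sri : ∀ j < 9, ∀ a < 18, ∀ b < 160,
    srtT (sriT (160 * (a + 18 * j) + b) % 25920) % 25920 = 160 * (a + 18 * j) + b := by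
  intro j hj
  interval_cases j
  all_goals decide +kernel

end Cfsg.Agent.helper2.U4
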