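import Mathlib
import Cfsg.Agent.Lib_helper2_U4a

/-! The field with 4 elements as a quadratic algebra, decoding of base-4 codes to matrices. -/

set_option autoImplicit false
set_option maxRecDepth 100000

namespace Cfsg.Agent.helper2.U4

open Matrix

abbrev F4 := QuadraticAlgebra (ZMod 2) 1 1

instance fintypeF4 : Fintype F4 := Fintype.ofEquiv _ (QuadraticAlgebra.equivProd (1 : ZMod 2) 1).symm

theorem card_F4 : Fintype.card F4 = 4 := by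
  rw [Fintype.card_congr (QuadraticAlgebra.equivProd (1 : ZMod 2) 1), Fintype.card_prod, ZMod.card]

/-- the field element with code `d` -/
def f4 (d : ℕ) : F4 := ⟨((d % 2 : ℕ) : ZMod 2), ((d / 2 : ℕ) : ZMod 2)⟩

theorem f4_xor : ∀ x < 4, ∀ y < 4, f4 (x ^^^ y) = f4 x + f4 y := by decide +kernel

theorem f4_mul : ∀ x < 4, ∀ y < 4, f4 (f4m x y) = f4 x * f4 y := by decide +kernel

theorem f4m_lt : ∀ x < 4, ∀ y < 4, f4m x y < 4 := by decide +kernel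

theorem xor_lt4 : ∀ x < 4, ∀ y < 4, x ^^^ y < 4 := by decide +kernel

theorem f4_inj : ∀ x < 4, ∀ y < 4, f4 x = f4 y → x = y := by decide +kernel

theorem dg4_lt (c p : ℕ) : dg4 c p < 4 := Nat.mod_lt _ (by norm_num)

/-- the matrix with code `c` -/
def dec4 (c : ℕ) : Matrix (Fin 4) (Fin 4) F4 := fun i j => f4 (dg4 c (4 * i.val + j.val))

theorem ent4_lt (a b i j : ℕ) : ent4 a b i j < 4 := by
  unfold ent4
  have h := fun p q => f4m_lt _ (dg4_lt a p) _ (dg4_lt b q)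
  exact xor_lt4 _ (xor_lt4 _ (xor_lt4 _ (h _ _) _ (h _ _)) _ (h _ _)) _ (h _ _)

theorem f4_ent4 (a b i j : ℕ) : f4 (ent4 a b i j) =
    f4 (dg4 a (4 * i)) * f4 (dg4 b j) + f4 (dg4 a (4 * i + 1)) * f4 (dg4 b (4 + j)) +
    f4 (dg4 a (4 * i + 2)) * f4 (dg4 b (8 + j)) + f4 (dg4 a (4 * i + 3)) * f4 (dg4 b (12 + j)) := by
  unfold ent4
  have h := fun p q => f4m_lt _ (dg4_lt a p) _ (dg4_lt b q)
  have m := fun p q => f4_mul _ (dg4_lt a p) _ (dg4_lt b q)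
  rw [f4_xor _ (xor_lt4 _ (xor_lt4 _ (h _ _) _ (h _ _)) _ (h _ _)) _ (h _ _),
    f4_xor _ (xor_lt4 _ (h _ _) _ (h _ _)) _ (h _ _), f4_xor _ (h _ _) _ (h _ _), m, m, m, m]

set_option maxHeartbeats 4000000 in
theorem dg4_sum (e0 e1 e2 e3 e4 e5 e6 e7 e8 e9 e10 e11 e12 e13 e14 e15 : ℕ) (h0 : e0 < 4) (h1 : e1 < 4) (h2 : e2 < 4) (h3 : e3 < 4) (h4 : e4 < 4) (h5 : e5 < 4) (h6 : e6 < 4) (h7 : e7 < 4) (h8 : e8 < 4) (h9 : e9 < 4) (h10 : e10 < 4) (h11 : e11 < 4) (h12 : e12 < 4) (h13 : e13 < 4) (h14 : e14 < 4) (h15 : e15 < 4) :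
    dg4 (enc16 e0 e1 e2 e3 e4 e5 e6 e7 e8 e9 e10 e11 e12 e13 e14 e15) 0 = e0 ∧
    dg4 (enc16 e0 e1 e2 e3 e4 e5 e6 e7 e8 e9 e10 e11 e12 e13 e14 e15) 1 = e1 ∧
    dg4 (enc16 e0 e1 e2 e3 e4 e5 e6 e7 e8 e9 e10 e11 e12 e13 e14 e15) 2 = e2 ∧
    dg4 (enc16 e0 e1 e2 e3 e4 e5 e6 e7 e8 e9 e10 e11 e12 e13 e14 e15) 3 = e3 ∧
    dg4 (enc16 e0 e1 e2 e3 e4 e5 e6 e7 e8 e9 e10 e11 e12 e13 e14 e15) 4 = e4 ∧
    dg4 (enc16 e0 e1 e2 e3 e4 e5 e6 e7 e8 e9 e10 e11 e12 e13 e14 e15) 5 = e5 ∧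
    dg4 (enc16 e0 e1 e2 e3 e4 e5 e6 e7 e8 e9 e10 e11 e12 e13 e14 e15) 6 = e6 ∧
    dg4 (enc16 e0 e1 e2 e3 e4 e5 e6 e7 e8 e9 e10 e11 e12 e13 e14 e15) 7 = e7 ∧
    dg4 (enc16 e0 e1 e2 e3 e4 e5 e6 e7 e8 e9 e10 e11 e12 e13 e14 e15) 8 = e8 ∧
    dg4 (enc16 e0 e1 e2 e3 e4 e5 e6 e7 e8 e9 e10 e11 e12 e13 e14 e15) 9 = e9 ∧
    dg4 (enc16 e0 e1 e2 e3 e4 e5 e6 e7 e8 e9 e10 e11 e12 e13 e14 e15) 10 = e10 ∧
    dg4 (enc16 e0 e1 e2 e3 e4 e5 e6 e7 e8 e9 e10 e11 e12 e13 e14 e15) 11 = e11 ∧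
    dg4 (enc16 e0 e1 e2 e3 e4 e5 e6 e7 e8 e9 e10 e11 e12 e13 e14 e15) 12 = e12 ∧
    dg4 (enc16 e0 e1 e2 e3 e4 e5 e6 e7 e8 e9 e10 e11 e12 e13 e14 e15) 13 = e13 ∧
    dg4 (enc16 e0 e1 e2 e3 e4 e5 e6 e7 e8 e9 e10 e11 e12 e13 e14 e15) 14 = e14 ∧
    dg4 (enc16 e0 e1 e2 e3 e4 e5 e6 e7 e8 e9 e10 e11 e12 e13 e14 e15) 15 = e15 := by
  unfold dg4 enc16
  refine ⟨?_, ?_, ?_, ?_, ?_, ?_, ?_, ?_, ?_, ?_, ?_, ?_, ?_, ?_, ?_, ?_⟩ <;> norm_num <;> omega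

/-- entries of the product code -/
theorem dg4_mc4 (a b : ℕ) (i j : Fin 4) :
    dg4 (mc4 a b) (4 * i.val + j.val) = ent4 a b i.val j.val := by
  have := dg4_sum (ent4 a b 0 0) (ent4 a b 0 1) (ent4 a b 0 2) (ent4 a b 0 3)
    (ent4 a b 1 0) (ent4 a b 1 1) (ent4 a b 1 2) (ent4 a b 1 3)
    (ent4 a b 2 0) (ent4 a b 2 1) (ent4 a b 2 2) (ent4 a b 2 3)
    (ent4 a b 3 0) (ent4 a b 3 1) (ent4 a b 3 2) (ent4 a b 3 3)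
    (ent4_lt _ _ _ _) (ent4_lt _ _ _ _) (ent4_lt _ _ _ _) (ent4_lt _ _ _ _)
    (ent4_lt _ _ _ _) (ent4_lt _ _ _ _) (ent4_lt _ _ _ _) (ent4_lt _ _ _ _)
    (ent4_lt _ _ _ _) (ent4_lt _ _ _ _) (ent4_lt _ _ _ _) (ent4_lt _ _ _ _)
    (ent4_lt _ _ _ _) (ent4_lt _ _ _ _) (ent4_lt _ _ _ _) (ent4_lt _ _ _ _)
  obtain ⟨q0, q1, q2, q3, q4, q5, q6, q7, q8, q9, q10, q11, q12, q13, q14, q15⟩ := this
  fin_cases i <;> fin_cases j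
  · exact q0
  · exact q1
  · exact q2
  · exact q3
  · exact q4
  · exact q5
  · exact q6
  · exact q7
  · exact q8
  · exact q9
  · exact q10
  · exact q11
  · exact q12
  · exact q13
  · exact q14
  · exact q15

theorem dec4_mc4 (a b : ℕ) : dec4 (mc4 a b) = dec4 a * dec4 b := by
  apply Matrix.ext
  intro i j
  rw [Matrix.mul_apply, Fin.sum_univ_four]
  show f4 (dg4 (mc4 a b) (4 * i.val + j.val)) = _
  rw [dg4_mc4, f4_ent4]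
  simp only [dec4, Fin.val_zero, Fin.val_one, Fin.val_two, add_zero, mul_zero, zero_add, mul_one]
  rfl

end Cfsg.Agent.helper2.U4
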