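import Mathlib
import Cfsg.Agent.Lib_helper2_U4c1
import Cfsg.Agent.Lib_helper2_U4d
import Cfsg.Agent.Lib_helper2_U4e
import Cfsg.Agent.Lib_helper2_U4f

/-! The table group of order 25920 with its faithful representation by 4 x 4 matrices over the field
with 4 elements. -/

set_option autoImplicit false
set_option maxRecDepth 100000

namespace Cfsg.Agent.helper2.U4

open Matrix Cfsg.Agent.helper2.Cay

/-- the matrix of an element -/
def MU (x : Fin 25920) : Matrix (Fin 4) (Fin 4) F4 := dec4 (cuT x.val)

theorem fin_ofNat_val (x : Fin 25920) : Fin.ofNat 25920 x.val = x := by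
  apply Fin.ext
  show x.val % 25920 = x.val
  exact Nat.mod_eq_of_lt x.isLt

theorem MU_r (k : Fin 2) (x : Fin 25920) : MU (rF k x) = MU x * MU (igF k) := by
  unfold MU
  rw [← dec4_mc4, rF_val, igF_val]
  congr 1
  exact all_of_chunks9
    (fun X => cuT (rT k.val X % 25920) = mc4 (cuT X) (cuT ((k.val + 1) % 25920)))
    (chk_Mr k.val k.isLt) x.val x.isLt

theorem tree_F (y : Fin 25920) (hy : y.val ≠ 0) :
    (parF y).val < y.val ∧ rF (genF y) (parF y) = y := by
  have := all_of_chunks9
    (fun X => X ≠ 0 → parT X % 25920 < X ∧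
      rT (genT X % 2) (parT X % 25920) % 25920 = X) chk_tree y.val y.isLt hy
  exact ⟨this.1, Fin.ext this.2⟩

theorem inv_F (x : Fin 25920) : mulG rF parF genF 25920 (invF x) x = (0 : Fin 25920) := by
  have := all_of_chunks9
    (fun X => (mulG rF parF genF 25920 (invF (Fin.ofNat 25920 X)) (Fin.ofNat 25920 X)).val = 0)
    chk_inv x.val x.isLt
  simp only [fin_ofNat_val] at this
  exact Fin.ext this

theorem chk_one4 : ∀ i < 4, ∀ j < 4, dg4 (cuT 0) (4 * i + j) = if i = j then 1 else 0 := by
  decide +kernel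

theorem f4_one : f4 1 = 1 := by decide +kernel
theorem f4_zero : f4 0 = 0 := by decide +kernel

theorem MU_e : MU (0 : Fin 25920) = 1 := by
  apply Matrix.ext
  intro i j
  show f4 (dg4 (cuT 0) (4 * i.val + j.val)) = _
  rw [chk_one4 i.val i.isLt j.val j.isLt, Matrix.one_apply]
  by_cases h : i = j
  · subst h
    rw [if_pos rfl, if_pos rfl]
    exact f4_one
  · rw [if_neg h, if_neg (fun h' => h (Fin.ext h'))]
    exact f4_zero

/-! ### injectivity -/

theorem mono_of_succ (f : ℕ → ℕ) (n : ℕ) (h : ∀ p, p + 1 < n → f p < f (p + 1)) :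
    ∀ p q, p < q → q < n → f p < f q := by
  intro p q hpq
  induction q with
  | zero => omega
  | succ q ih =>
    intro hq
    rcases Nat.lt_succ_iff_lt_or_eq.mp hpq with h1 | h1
    · exact lt_trans (ih h1 (by omega)) (h q hq)
    · subst h1
      exact h p hq

theorem cuT_inj (x y : ℕ) (hx : x < 25920) (hy : y < 25920) (h : cuT x = cuT y) : x = y := by
  have hs : ∀ p, p + 1 < 25920 →
      cuT (srtT p % 25920) < cuT (srtT (p + 1) % 25920) := by
    intro p hp
    exact all_of_chunks9
      (fun X => X + 1 < 25920 → cuT (srtT X % 25920) < cuT (srtT (X + 1) % 25920))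
      chk_sorted p (by omega) hp
  have hm := mono_of_succ (fun p => cuT (srtT p % 25920)) 25920 hs
  have hi := all_of_chunks9 (fun X => srtT (sriT X % 25920) % 25920 = X) chk_sri
  have hpx : sriT x % 25920 < 25920 := Nat.mod_lt _ (by norm_num)
  have hpy : sriT y % 25920 < 25920 := Nat.mod_lt _ (by norm_num)
  have ex := hi x hx
  have ey := hi y hy
  rcases lt_trichotomy (sriT x % 25920) (sriT y % 25920) with h1 | h1 | h1
  · have := hm _ _ h1 hpy
    simp only [ex, ey] at this
    omega
  · rw [← ex, ← ey, h1]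
  · have := hm _ _ h1 hpx
    simp only [ex, ey] at this
    omega

theorem eq_of_digits4 : ∀ n a b : ℕ, a < 4 ^ n → b < 4 ^ n →
    (∀ p < n, a / 4 ^ p % 4 = b / 4 ^ p % 4) → a = b := by
  intro n
  induction n with
  | zero =>
    intro a b ha hb _
    simp at ha hb
    omega
  | succ n ih =>
    intro a b ha hb h
    have h0 := h 0 (by omega)
    simp at h0
    have h1 : a / 4 = b / 4 := by
      apply ih
      · rw [pow_succ] at ha
        omega
      · rw [pow_succ] at hb
        omega
      · intro p hp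
        have := h (p + 1) (by omega)
        rw [pow_succ, mul_comm, ← Nat.div_div_eq_div_mul, ← Nat.div_div_eq_div_mul] at this
        exact this
    omega

theorem cuT_lt (x : ℕ) : cuT x < 4 ^ 16 := by
  unfold cuT tget
  exact Nat.mod_lt _ (by norm_num)

theorem dec4_inj (a b : ℕ) (ha : a < 4 ^ 16) (hb : b < 4 ^ 16) (h : dec4 a = dec4 b) : a = b := by
  apply eq_of_digits4 16 a b ha hb
  intro p hp
  have h1 := congrFun (congrFun h ⟨p / 4, by omega⟩) ⟨p % 4, Nat.mod_lt _ (by norm_num)⟩
  have h2 : f4 (dg4 a (4 * (p / 4) + p % 4)) = f4 (dg4 b (4 * (p / 4) + p % 4)) := h1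
  rw [Nat.div_add_mod] at h2
  exact f4_inj _ (dg4_lt a p) _ (dg4_lt b p) h2

theorem MU_inj (x y : Fin 25920) (h : MU x = MU y) : x = y := by
  apply Fin.ext
  exact cuT_inj _ _ x.isLt y.isLt (dec4_inj _ _ (cuT_lt _) (cuT_lt _) h)

/-- the Cayley-graph data -/
def DU : CData (Matrix (Fin 4) (Fin 4) F4) 25920 2 where
  M := MU
  r := rF
  par := parF
  gen := genF
  inv := invF
  e := 0
  ig := igF
  e_val := rfl
  M_r := MU_r
  tree := tree_F
  M_e := MU_e
  M_inj := MU_inj
  inv_mul := inv_F

/-- the table group -/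
abbrev GU := CG DU

theorem card_GU : Nat.card GU = 25920 := CG.card_eq DU

/-- induction along the spanning tree -/
theorem DU_ind (P : Fin 25920 → Prop) (h0 : P 0) (hs : ∀ k x, P x → P (rF k x)) : ∀ x, P x := by
  have : ∀ m, ∀ x : Fin 25920, x.val ≤ m → P x := by
    intro m
    induction m with
    | zero =>
      intro x hx
      have : x = 0 := DU.eq_e_of_val (Nat.le_zero.mp hx)
      rw [this]
      exact h0
    | succ m ih =>
      intro x hx
      by_cases h : x.val = 0
      · have : x = 0 := DU.eq_e_of_val h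
        rw [this]
        exact h0
      · obtain ⟨hlt, ht⟩ := tree_F x h
        rw [← ht]
        exact hs _ _ (ih _ (by omega))
  exact fun x => this x.val x le_rfl

end Cfsg.Agent.helper2.U4
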