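import Mathlib

/-! Code-level arithmetic of 4 x 4 matrices over the field with 3 elements (base-3 codes). -/

set_option autoImplicit false

namespace Cfsg.Agent.helper2.U4

/-- base-3 digit -/
def dg3 (c p : ℕ) : ℕ := c / 3 ^ p % 3

/-- entry of the product -/
def ent3 (a b i j : ℕ) : ℕ :=
  (dg3 a (4 * i) * dg3 b j + dg3 a (4 * i + 1) * dg3 b (4 + j) +
    dg3 a (4 * i + 2) * dg3 b (8 + j) + dg3 a (4 * i + 3) * dg3 b (12 + j)) % 3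

/-- the code with given digits -/
def enc3 (e0 e1 e2 e3 e4 e5 e6 e7 e8 e9 e10 e11 e12 e13 e14 e15 : ℕ) : ℕ :=
  e0 + 3 * e1 + 3 ^ 2 * e2 + 3 ^ 3 * e3 + 3 ^ 4 * e4 + 3 ^ 5 * e5 + 3 ^ 6 * e6 + 3 ^ 7 * e7 + 3 ^ 8 * e8 + 3 ^ 9 * e9 + 3 ^ 10 * e10 + 3 ^ 11 * e11 + 3 ^ 12 * e12 + 3 ^ 13 * e13 + 3 ^ 14 * e14 + 3 ^ 15 * e15

/-- product of codes -/
def mc3 (a b : ℕ) : ℕ :=
  enc3 (ent3 a b 0 0) (ent3 a b 0 1) (ent3 a b 0 2) (ent3 a b 0 3)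
    (ent3 a b 1 0) (ent3 a b 1 1) (ent3 a b 1 2) (ent3 a b 1 3)
    (ent3 a b 2 0) (ent3 a b 2 1) (ent3 a b 2 2) (ent3 a b 2 3)
    (ent3 a b 3 0) (ent3 a b 3 1) (ent3 a b 3 2) (ent3 a b 3 3)

/-- negative of a code -/
def negc3 (c : ℕ) : ℕ :=
  enc3 ((3 - dg3 c 0) % 3) ((3 - dg3 c 1) % 3) ((3 - dg3 c 2) % 3) ((3 - dg3 c 3) % 3)
    ((3 - dg3 c 4) % 3) ((3 - dg3 c 5) % 3) ((3 - dg3 c 6) % 3) ((3 - dg3 c 7) % 3)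
    ((3 - dg3 c 8) % 3) ((3 - dg3 c 9) % 3) ((3 - dg3 c 10) % 3) ((3 - dg3 c 11) % 3)
    ((3 - dg3 c 12) % 3) ((3 - dg3 c 13) % 3) ((3 - dg3 c 14) % 3) ((3 - dg3 c 15) % 3)

end Cfsg.Agent.helper2.U4
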