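import Mathlib
import Cfsg.Agent.Lib_helper2_U4c
import Cfsg.Agent.Lib_helper2_U4h

/-! Kernel checks: the symplectic lifts are projectively compatible with right multiplication, and
only the identity has a scalar lift. -/

set_option autoImplicit false

namespace Cfsg.Agent.helper2.U4

set_option maxRecDepth 100000 in
set_option maxHeartbeats 4000000 in
theorem chk_Nr : ∀ k < 2, ∀ j < 9, ∀ a < 18, ∀ b < 160,
    csT (rT k (160 * (a + 18 * j) + b) % 25920) =
        mc3 (csT (160 * (a + 18 * j) + b)) (csT ((k + 1) % 25920)) ∨
      csT (rT k (160 * (a + 18 * j) + b) % 25920) =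
        negc3 (mc3 (csT (160 * (a + 18 * j) + b)) (csT ((k + 1) % 25920))) := by
  intro k hk
  interval_cases k
  · intro j hj
    interval_cases j
    all_goals decide +kernel
  · intro j hj
    interval_cases j
    all_goals decide +kernel

/-- the digits are those of a scalar matrix `± 1` -/
def isPM (c : ℕ) : Prop :=
  (∀ i < 4, ∀ j < 4, dg3 c (4 * i + j) = if i = j then 1 else 0) ∨
    (∀ i < 4, ∀ j < 4, dg3 c (4 * i + j) = if i = j then 2 else 0)

instance (c : ℕ) : Decidable (isPM c) := by unfold isPM; infer_instance

set_option maxRecDepth 100000 in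
set_option maxHeartbeats 4000000 in
theorem chk_ker : ∀ j < 9, ∀ a < 18, ∀ b < 160,
    isPM (csT (160 * (a + 18 * j) + b)) → 160 * (a + 18 * j) + b = 0 := by
  intro j hj
  interval_cases j
  all_goals decide +kernel

theorem chk_one : ∀ i < 4, ∀ j < 4, dg3 (csT 0) (4 * i + j) = if i = j then 1 else 0 := by
  decide +kernel

end Cfsg.Agent.helper2.U4
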