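import Mathlib
import Cfsg.Agent.Lib_helper2_U4h
import Cfsg.Agent.Lib_helper2_Cay6

/-! Decoding of base-3 codes to 4 x 4 matrices over a ring of characteristic 3. -/

set_option autoImplicit false
set_option maxRecDepth 100000

namespace Cfsg.Agent.helper2.U4

open Matrix Cfsg.Agent.helper2.Syl

theorem dg3_lt (c p : ℕ) : dg3 c p < 3 := Nat.mod_lt _ (by norm_num)

theorem ent3_lt (a b i j : ℕ) : ent3 a b i j < 3 := Nat.mod_lt _ (by norm_num)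

set_option maxHeartbeats 4000000 in
theorem dg3_sum (e0 e1 e2 e3 e4 e5 e6 e7 e8 e9 e10 e11 e12 e13 e14 e15 : ℕ) (h0 : e0 < 3) (h1 : e1 < 3) (h2 : e2 < 3) (h3 : e3 < 3) (h4 : e4 < 3) (h5 : e5 < 3) (h6 : e6 < 3) (h7 : e7 < 3) (h8 : e8 < 3) (h9 : e9 < 3) (h10 : e10 < 3) (h11 : e11 < 3) (h12 : e12 < 3) (h13 : e13 < 3) (h14 : e14 < 3) (h15 : e15 < 3) :
    dg3 (enc3 e0 e1 e2 e3 e4 e5 e6 e7 e8 e9 e10 e11 e12 e13 e14 e15) 0 = e0 ∧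
    dg3 (enc3 e0 e1 e2 e3 e4 e5 e6 e7 e8 e9 e10 e11 e12 e13 e14 e15) 1 = e1 ∧
    dg3 (enc3 e0 e1 e2 e3 e4 e5 e6 e7 e8 e9 e10 e11 e12 e13 e14 e15) 2 = e2 ∧
    dg3 (enc3 e0 e1 e2 e3 e4 e5 e6 e7 e8 e9 e10 e11 e12 e13 e14 e15) 3 = e3 ∧
    dg3 (enc3 e0 e1 e2 e3 e4 e5 e6 e7 e8 e9 e10 e11 e12 e13 e14 e15) 4 = e4 ∧
    dg3 (enc3 e0 e1 e2 e3 e4 e5 e6 e7 e8 e9 e10 e11 e12 e13 e14 e15) 5 = e5 ∧
    dg3 (enc3 e0 e1 e2 e3 e4 e5 e6 e7 e8 e9 e10 e11 e12 e13 e14 e15) 6 = e6 ∧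
    dg3 (enc3 e0 e1 e2 e3 e4 e5 e6 e7 e8 e9 e10 e11 e12 e13 e14 e15) 7 = e7 ∧
    dg3 (enc3 e0 e1 e2 e3 e4 e5 e6 e7 e8 e9 e10 e11 e12 e13 e14 e15) 8 = e8 ∧
    dg3 (enc3 e0 e1 e2 e3 e4 e5 e6 e7 e8 e9 e10 e11 e12 e13 e14 e15) 9 = e9 ∧
    dg3 (enc3 e0 e1 e2 e3 e4 e5 e6 e7 e8 e9 e10 e11 e12 e13 e14 e15) 10 = e10 ∧
    dg3 (enc3 e0 e1 e2 e3 e4 e5 e6 e7 e8 e9 e10 e11 e12 e13 e14 e15) 11 = e11 ∧
    dg3 (enc3 e0 e1 e2 e3 e4 e5 e6 e7 e8 e9 e10 e11 e12 e13 e14 e15) 12 = e12 ∧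
    dg3 (enc3 e0 e1 e2 e3 e4 e5 e6 e7 e8 e9 e10 e11 e12 e13 e14 e15) 13 = e13 ∧
    dg3 (enc3 e0 e1 e2 e3 e4 e5 e6 e7 e8 e9 e10 e11 e12 e13 e14 e15) 14 = e14 ∧
    dg3 (enc3 e0 e1 e2 e3 e4 e5 e6 e7 e8 e9 e10 e11 e12 e13 e14 e15) 15 = e15 := by
  unfold dg3 enc3
  refine ⟨?_, ?_, ?_, ?_, ?_, ?_, ?_, ?_, ?_, ?_, ?_, ?_, ?_, ?_, ?_, ?_⟩ <;> norm_num <;> omega

/-- the matrix with code `c` -/
def dec3 (R : Type*) [NatCast R] (c : ℕ) : Matrix I4 I4 R :=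
  fun i j => ((dg3 c (4 * pos4 i + pos4 j) : ℕ) : R)

theorem pos4_lt (i : I4) : pos4 i < 4 := by
  rcases i with i | i <;> fin_cases i <;> simp [pos4]

theorem dg3_mc3 (a b : ℕ) (i j : I4) :
    dg3 (mc3 a b) (4 * pos4 i + pos4 j) = ent3 a b (pos4 i) (pos4 j) := by
  have := dg3_sum (ent3 a b 0 0) (ent3 a b 0 1) (ent3 a b 0 2) (ent3 a b 0 3) (ent3 a b 1 0) (ent3 a b 1 1) (ent3 a b 1 2) (ent3 a b 1 3) (ent3 a b 2 0) (ent3 a b 2 1) (ent3 a b 2 2) (ent3 a b 2 3) (ent3 a b 3 0) (ent3 a b 3 1) (ent3 a b 3 2) (ent3 a b 3 3)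
    (ent3_lt _ _ _ _) (ent3_lt _ _ _ _) (ent3_lt _ _ _ _) (ent3_lt _ _ _ _)
    (ent3_lt _ _ _ _) (ent3_lt _ _ _ _) (ent3_lt _ _ _ _) (ent3_lt _ _ _ _)
    (ent3_lt _ _ _ _) (ent3_lt _ _ _ _) (ent3_lt _ _ _ _) (ent3_lt _ _ _ _)
    (ent3_lt _ _ _ _) (ent3_lt _ _ _ _) (ent3_lt _ _ _ _) (ent3_lt _ _ _ _)
  obtain ⟨q0, q1, q2, q3, q4, q5, q6, q7, q8, q9, q10, q11, q12, q13, q14, q15⟩ := this
  rcases i with i | i <;> rcases j with j | j <;> fin_cases i <;> fin_cases j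
  · exact q0
  · exact q1
  · exact q4
  · exact q5
  · exact q2
  · exact q3
  · exact q6
  · exact q7
  · exact q8
  · exact q9
  · exact q12
  · exact q13
  · exact q10
  · exact q11
  · exact q14
  · exact q15

theorem dg3_negc3 (c : ℕ) (i j : I4) :
    dg3 (negc3 c) (4 * pos4 i + pos4 j) = (3 - dg3 c (4 * pos4 i + pos4 j)) % 3 := by
  have := dg3_sum ((3 - dg3 c 0) % 3) ((3 - dg3 c 1) % 3) ((3 - dg3 c 2) % 3) ((3 - dg3 c 3) % 3) ((3 - dg3 c 4) % 3) ((3 - dg3 c 5) % 3) ((3 - dg3 c 6) % 3) ((3 - dg3 c 7) % 3) ((3 - dg3 c 8) % 3) ((3 - dg3 c 9) % 3) ((3 - dg3 c 10) % 3) ((3 - dg3 c 11) % 3) ((3 - dg3 c 12) % 3) ((3 - dg3 c 13) % 3) ((3 - dg3 c 14) % 3) ((3 - dg3 c 15) % 3)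
    (Nat.mod_lt _ (by norm_num)) (Nat.mod_lt _ (by norm_num)) (Nat.mod_lt _ (by norm_num))
    (Nat.mod_lt _ (by norm_num)) (Nat.mod_lt _ (by norm_num)) (Nat.mod_lt _ (by norm_num))
    (Nat.mod_lt _ (by norm_num)) (Nat.mod_lt _ (by norm_num)) (Nat.mod_lt _ (by norm_num))
    (Nat.mod_lt _ (by norm_num)) (Nat.mod_lt _ (by norm_num)) (Nat.mod_lt _ (by norm_num))
    (Nat.mod_lt _ (by norm_num)) (Nat.mod_lt _ (by norm_num)) (Nat.mod_lt _ (by norm_num))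
    (Nat.mod_lt _ (by norm_num))
  obtain ⟨q0, q1, q2, q3, q4, q5, q6, q7, q8, q9, q10, q11, q12, q13, q14, q15⟩ := this
  rcases i with i | i <;> rcases j with j | j <;> fin_cases i <;> fin_cases j
  · exact q0
  · exact q1
  · exact q4
  · exact q5
  · exact q2
  · exact q3
  · exact q6
  · exact q7
  · exact q8
  · exact q9
  · exact q12
  · exact q13
  · exact q10
  · exact q11
  · exact q14
  · exact q15

section K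
variable (K : Type*) [CommRing K] [CharP K 3]

theorem cast_mod3 (n : ℕ) : ((n % 3 : ℕ) : K) = (n : K) :=
  (CharP.natCast_eq_natCast_mod K 3 n).symm

theorem dec3_mc3 (a b : ℕ) : dec3 K (mc3 a b) = dec3 K a * dec3 K b := by
  apply Matrix.ext
  intro i j
  rw [mul_eq_mm4]
  show ((dg3 (mc3 a b) (4 * pos4 i + pos4 j) : ℕ) : K) = _
  rw [dg3_mc3]
  unfold ent3
  rw [cast_mod3]
  simp only [mm4, dec3, pos4, Sum.elim_inl, Sum.elim_inr, Fin.val_zero, Fin.val_one]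
  push_cast
  norm_num

theorem dec3_negc3 (c : ℕ) : dec3 K (negc3 c) = - dec3 K c := by
  apply Matrix.ext
  intro i j
  show ((dg3 (negc3 c) (4 * pos4 i + pos4 j) : ℕ) : K) = - ((dg3 c (4 * pos4 i + pos4 j) : ℕ) : K)
  rw [dg3_negc3, cast_mod3]
  have h := dg3_lt c (4 * pos4 i + pos4 j)
  rw [Nat.cast_sub (le_of_lt h)]
  have h3 : ((3 : ℕ) : K) = 0 := CharP.cast_eq_zero K 3
  rw [h3, zero_sub]

theorem dec3_map {R S : Type*} [CommRing R] [CommRing S] (f : R →+* S) (c : ℕ) :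
    (dec3 R c).map f = dec3 S c := by
  apply Matrix.ext
  intro i j
  show f ((dg3 c (4 * pos4 i + pos4 j) : ℕ) : R) = _
  rw [map_natCast]
  rfl

end K

end Cfsg.Agent.helper2.U4
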