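import Mathlib
import Cfsg.Agent.Lib_helper2_U4g
import Cfsg.Agent.S0278
import Cfsg.Agent.S0279

/-! The table group of order 25920 is isomorphic to `PSU 4 F 2` for a field `F` with 4 elements. -/

set_option autoImplicit false
set_option maxRecDepth 100000
set_option linter.unusedSectionVars false

namespace Cfsg.Agent.helper2.U4

open Matrix Cfsg.Agent.helper2.Cay

theorem charP_of_card_pow {F : Type*} [Field F] [Fintype F] (p k : ℕ) (hp : p.Prime)
    (hF : Fintype.card F = p ^ k) : CharP F p := by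
  obtain ⟨p', hp'⟩ := CharP.exists F
  obtain ⟨n, hpr, hn⟩ := FiniteField.card F p'
  have h3 : p' ∣ p ^ k := by
    have : p' ∣ p' ^ (n : ℕ) := dvd_pow_self p' n.ne_zero
    rw [← hn, hF] at this
    exact this
  have : p' = p := (Nat.prime_dvd_prime_iff_eq hpr hp).mp (hpr.dvd_of_dvd_pow h3)
  rw [← this]
  exact hp'

theorem f4_inv : ∀ x : F4, x = 0 ∨ ∃ y : F4, x * y = 1 := by decide +kernel

section Phi
variable {F : Type*} [Field F] [CharP F 2]

/-- the embedding of the model determined by a root of `X^2 + X + 1` -/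
def phi4 (w : F) (hw : w * w = w + 1) : F4 →+* F where
  toFun x := (ZMod.castHom (dvd_refl 2) F x.re) + (ZMod.castHom (dvd_refl 2) F x.im) * w
  map_one' := by
    show (ZMod.castHom (dvd_refl 2) F (1 : ZMod 2)) + (ZMod.castHom (dvd_refl 2) F (0 : ZMod 2)) * w = 1
    rw [map_one, map_zero, zero_mul, add_zero]
  map_zero' := by
    show (ZMod.castHom (dvd_refl 2) F (0 : ZMod 2)) + (ZMod.castHom (dvd_refl 2) F (0 : ZMod 2)) * w = 0
    rw [map_zero, zero_mul, add_zero]
  map_add' x y := by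
    simp only [QuadraticAlgebra.re_add, QuadraticAlgebra.im_add, map_add]
    ring
  map_mul' x y := by
    simp only [QuadraticAlgebra.re_mul, QuadraticAlgebra.im_mul, map_add, map_mul, map_one]
    linear_combination (-(ZMod.castHom (dvd_refl 2) F x.im) * (ZMod.castHom (dvd_refl 2) F y.im)) * hw

theorem phi4_injective (w : F) (hw : w * w = w + 1) : Function.Injective (phi4 w hw) := by
  rw [injective_iff_map_eq_zero]
  intro x hx
  rcases f4_inv x with h | ⟨y, hy⟩
  · exact h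
  · exfalso
    have := congrArg (phi4 w hw) hy
    rw [map_mul, hx, zero_mul, map_one] at this
    exact zero_ne_one this

end Phi

theorem exists_w {F : Type*} [Field F] [Fintype F] [CharP F 2] (hF : Fintype.card F = 4) :
    ∃ w : F, w * w = w + 1 := by
  classical
  have hc : ({0, 1} : Finset F).card < (Finset.univ : Finset F).card := by
    rw [Finset.card_univ, hF]
    exact lt_of_le_of_lt Finset.card_le_two (by norm_num)
  obtain ⟨w, _, hw⟩ := Finset.exists_mem_notMem_of_card_lt_card hc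
  simp only [Finset.mem_insert, Finset.mem_singleton, not_or] at hw
  have h3 : w ^ 3 = 1 := by
    have := FiniteField.pow_card_sub_one_eq_one w hw.1
    rwa [hF] at this
  have h2 : (2 : F) = 0 := by
    have := CharP.cast_eq_zero F 2
    exact_mod_cast this
  refine ⟨w, ?_⟩
  have h4 : (w - 1) * (w * w - (w + 1)) = 0 := by
    linear_combination h3 + (1 - w * w) * h2
  rcases mul_eq_zero.mp h4 with h | h
  · exact absurd (sub_eq_zero.mp h) hw.2
  · exact sub_eq_zero.mp h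

section Unitary
variable {F : Type*} [Field F] [CharP F 2]

theorem add4_sq (x y z t : F) : (x + y + z + t) ^ 2 = x ^ 2 + y ^ 2 + z ^ 2 + t ^ 2 := by
  rw [add_pow_char _ _ 2, add_pow_char _ _ 2, add_pow_char _ _ 2]

theorem unitary_entries4 (M : Matrix (Fin 4) (Fin 4) F) (a b : Fin 4) :
    (Mᵀ * M.map (· ^ 2)) a b =
      M 0 a * M 0 b ^ 2 + M 1 a * M 1 b ^ 2 + M 2 a * M 2 b ^ 2 + M 3 a * M 3 b ^ 2 := by
  rw [Matrix.mul_apply, Fin.sum_univ_four]
  rfl

theorem herm_expand4 (M : Matrix (Fin 4) (Fin 4) F) (u v : Fin 4 → F) :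
    Cfsg.hermForm 4 F 2 (M *ᵥ u) (M *ᵥ v) =
      (M 0 0 * u 0 + M 0 1 * u 1 + M 0 2 * u 2 + M 0 3 * u 3) * (M 0 0 * v 0 + M 0 1 * v 1 + M 0 2 * v 2 + M 0 3 * v 3) ^ 2 +
      (M 1 0 * u 0 + M 1 1 * u 1 + M 1 2 * u 2 + M 1 3 * u 3) * (M 1 0 * v 0 + M 1 1 * v 1 + M 1 2 * v 2 + M 1 3 * v 3) ^ 2 +
      (M 2 0 * u 0 + M 2 1 * u 1 + M 2 2 * u 2 + M 2 3 * u 3) * (M 2 0 * v 0 + M 2 1 * v 1 + M 2 2 * v 2 + M 2 3 * v 3) ^ 2 +
      (M 3 0 * u 0 + M 3 1 * u 1 + M 3 2 * u 2 + M 3 3 * u 3) * (M 3 0 * v 0 + M 3 1 * v 1 + M 3 2 * v 2 + M 3 3 * v 3) ^ 2 := by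
  simp only [Cfsg.hermForm, Matrix.mulVec, dotProduct, Fin.sum_univ_four]

theorem herm_std4 (u v : Fin 4 → F) :
    Cfsg.hermForm 4 F 2 u v = u 0 * v 0 ^ 2 + u 1 * v 1 ^ 2 + u 2 * v 2 ^ 2 + u 3 * v 3 ^ 2 := by
  simp only [Cfsg.hermForm, Fin.sum_univ_four]

set_option maxHeartbeats 4000000 in
theorem preserves_of_unitary4 (M : Matrix (Fin 4) (Fin 4) F) (E : Mᵀ * M.map (· ^ 2) = 1)
    (u v : Fin 4 → F) :
    Cfsg.hermForm 4 F 2 (M *ᵥ u) (M *ᵥ v) = Cfsg.hermForm 4 F 2 u v := by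
  have e00 := unitary_entries4 M 0 0
  have e01 := unitary_entries4 M 0 1
  have e02 := unitary_entries4 M 0 2
  have e03 := unitary_entries4 M 0 3
  have e10 := unitary_entries4 M 1 0
  have e11 := unitary_entries4 M 1 1
  have e12 := unitary_entries4 M 1 2
  have e13 := unitary_entries4 M 1 3
  have e20 := unitary_entries4 M 2 0
  have e21 := unitary_entries4 M 2 1
  have e22 := unitary_entries4 M 2 2
  have e23 := unitary_entries4 M 2 3
  have e30 := unitary_entries4 M 3 0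
  have e31 := unitary_entries4 M 3 1
  have e32 := unitary_entries4 M 3 2
  have e33 := unitary_entries4 M 3 3
  rw [E] at e00 e01 e02 e03 e10 e11 e12 e13 e20 e21 e22 e23 e30 e31 e32 e33
  simp only [Matrix.one_apply_eq, ne_eq, Fin.reduceEq, not_false_eq_true, Matrix.one_apply_ne]
    at e00 e01 e02 e03 e10 e11 e12 e13 e20 e21 e22 e23 e30 e31 e32 e33
  rw [herm_expand4, herm_std4, add4_sq, add4_sq, add4_sq, add4_sq]
  linear_combination (-(u 0 * v 0 ^ 2)) * e00 +
    (-(u 0 * v 1 ^ 2)) * e01 +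
    (-(u 0 * v 2 ^ 2)) * e02 +
    (-(u 0 * v 3 ^ 2)) * e03 +
    (-(u 1 * v 0 ^ 2)) * e10 +
    (-(u 1 * v 1 ^ 2)) * e11 +
    (-(u 1 * v 2 ^ 2)) * e12 +
    (-(u 1 * v 3 ^ 2)) * e13 +
    (-(u 2 * v 0 ^ 2)) * e20 +
    (-(u 2 * v 1 ^ 2)) * e21 +
    (-(u 2 * v 2 ^ 2)) * e22 +
    (-(u 2 * v 3 ^ 2)) * e23 +
    (-(u 3 * v 0 ^ 2)) * e30 +
    (-(u 3 * v 1 ^ 2)) * e31 +
    (-(u 3 * v 2 ^ 2)) * e32 +
    (-(u 3 * v 3 ^ 2)) * e33

theorem mem_SU4 (g : Matrix.SpecialLinearGroup (Fin 4) F) (E : g.1ᵀ * g.1.map (· ^ 2) = 1) :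
    g ∈ Cfsg.SU 4 F 2 := by
  intro u v
  exact preserves_of_unitary4 g.1 E u v

/-- determinant one and unitary -/
def PF (A : Matrix (Fin 4) (Fin 4) F) : Prop := A.det = 1 ∧ Aᵀ * A.map (· ^ 2) = 1

theorem map_sq_mul (A B : Matrix (Fin 4) (Fin 4) F) :
    (A * B).map (· ^ 2) = A.map (· ^ 2) * B.map (· ^ 2) := by
  have := Matrix.map_mul (L := A) (M := B) (f := frobenius F 2)
  exact this

theorem PF_one : PF (1 : Matrix (Fin 4) (Fin 4) F) := by
  refine ⟨Matrix.det_one, ?_⟩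
  rw [Matrix.transpose_one, Matrix.map_one _ (by simp) (by simp), one_mul]

theorem PF_mul (A B : Matrix (Fin 4) (Fin 4) F) (hA : PF A) (hB : PF B) : PF (A * B) := by
  refine ⟨by rw [Matrix.det_mul, hA.1, hB.1, one_mul], ?_⟩
  rw [map_sq_mul, Matrix.transpose_mul, Matrix.mul_assoc, ← Matrix.mul_assoc Aᵀ, hA.2, one_mul,
    hB.2]

end Unitary

/-- unitarity over the model -/
def IsU4 (W : Matrix (Fin 4) (Fin 4) F4) : Prop := Wᵀ * W.map (fun x => x * x) = 1

instance (W : Matrix (Fin 4) (Fin 4) F4) : Decidable (IsU4 W) := by unfold IsU4; infer_instance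

set_option maxHeartbeats 4000000 in
theorem gens_U : ∀ k : Fin 2, IsU4 (MU (igF k)) := by decide +kernel

set_option maxHeartbeats 4000000 in
theorem gens_det : ∀ k : Fin 2, (MU (igF k)).det = 1 := by decide +kernel

section Hom
variable {F : Type*} [Field F] [CharP F 2] (w : F) (hw : w * w = w + 1)

theorem PF_map (W : Matrix (Fin 4) (Fin 4) F4) (hdet : W.det = 1) (hU : IsU4 W) :
    PF (W.map (phi4 w hw)) := by
  constructor
  · have := RingHom.map_det (phi4 w hw) W
    rw [hdet, map_one] at this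
    rw [this]
    rfl
  · have h1 : (W.map (phi4 w hw))ᵀ = (Wᵀ).map (phi4 w hw) := by
      ext i j; rfl
    have h2 : (W.map (phi4 w hw)).map (· ^ 2) = (W.map (fun x => x * x)).map (phi4 w hw) := by
      ext i j
      rw [Matrix.map_apply, Matrix.map_apply, Matrix.map_apply, Matrix.map_apply, map_mul]
      ring
    rw [h1, h2, ← Matrix.map_mul, hU]
    exact Matrix.map_one _ (map_zero _) (map_one _)

theorem PF_MU (x : Fin 25920) : PF ((MU x).map (phi4 w hw)) := by
  refine DU_ind (fun x => PF ((MU x).map (phi4 w hw))) ?_ ?_ x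
  · show PF ((MU 0).map (phi4 w hw))
    rw [MU_e, Matrix.map_one _ (map_zero _) (map_one _)]
    exact PF_one
  · intro k x hx
    show PF ((MU (rF k x)).map (phi4 w hw))
    rw [MU_r, Matrix.map_mul]
    exact PF_mul _ _ hx (PF_map w hw _ (gens_det k) (gens_U k))

/-- the unitary matrix of an element -/
def toSU (x : Fin 25920) : Cfsg.SU 4 F 2 :=
  ⟨⟨(MU x).map (phi4 w hw), (PF_MU w hw x).1⟩, mem_SU4 _ (PF_MU w hw x).2⟩

/-- the representation in the special unitary group -/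
def fSU : GU →* Cfsg.SU 4 F 2 where
  toFun g := toSU w hw g.k
  map_one' := by
    apply Subtype.ext
    apply Subtype.ext
    show (MU 0).map (phi4 w hw) = 1
    rw [MU_e, Matrix.map_one _ (map_zero _) (map_one _)]
  map_mul' a b := by
    apply Subtype.ext
    apply Subtype.ext
    show (MU (DU.mul a.k b.k)).map (phi4 w hw) =
      (MU a.k).map (phi4 w hw) * (MU b.k).map (phi4 w hw)
    rw [← Matrix.map_mul]
    congr 1
    exact DU.M_mul a.k b.k

theorem fSU_injective : Function.Injective (fSU w hw) := by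
  intro a b h
  have h1 : (MU a.k).map (phi4 w hw) = (MU b.k).map (phi4 w hw) :=
    congrArg (fun g : Cfsg.SU 4 F 2 => g.1.1) h
  exact CG.ext' (MU_inj _ _ (Matrix.map_injective (phi4_injective w hw) h1))

end Hom

theorem card_SU4 {F : Type*} [Field F] [Fintype F] (hF : Fintype.card F = 4) :
    Nat.card (Cfsg.SU 4 F 2) = 25920 := by
  have h := Cfsg.Agent.S0278.result (F := F) (q := 2) (by rw [hF]; norm_num) 4 (by norm_num)
  have hp : (∏ i ∈ Finset.range 4, (if Even i then 2 ^ (i + 1) + 1 else 2 ^ (i + 1) - 1)) = 1215 := by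
    decide
  rw [hp] at h
  norm_num at h
  omega

theorem center_SU4 {F : Type*} [Field F] [Fintype F] (hF : Fintype.card F = 4) :
    Subgroup.center (Cfsg.SU 4 F 2) = ⊥ := by
  have h := Cfsg.Agent.S0279.result (F := F) (q := 2) (by rw [hF]; norm_num) 4 (by norm_num)
  have h1 : Nat.card (Subgroup.center (Cfsg.SU 4 F 2)) = 1 := by
    rw [h]
    decide
  exact Subgroup.card_eq_one.mp h1

/-- the table group is the projective special unitary group -/
theorem psu_equiv {F : Type*} [Field F] [Fintype F] (hF : Fintype.card F = 4) :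
    Nonempty (Cfsg.PSU 4 F 2 ≃* GU) := by
  have : CharP F 2 := charP_of_card_pow 2 2 Nat.prime_two (by rw [hF]; norm_num)
  obtain ⟨w, hw⟩ := exists_w hF
  have hbij : Function.Bijective (fSU w hw) :=
    (fSU_injective w hw).bijective_of_nat_card_le (by rw [card_SU4 hF, card_GU])
  have e1 : GU ≃* Cfsg.SU 4 F 2 := MulEquiv.ofBijective (fSU w hw) hbij
  have e2 : Cfsg.PSU 4 F 2 ≃* Cfsg.SU 4 F 2 :=
    (QuotientGroup.quotientMulEquivOfEq (center_SU4 hF)).trans QuotientGroup.quotientBot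
  exact ⟨e2.trans e1.symm⟩

end Cfsg.Agent.helper2.U4
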