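import Mathlib
import Cfsg.Agent.Lib_helper2_U4g
import Cfsg.Agent.Lib_helper2_U4h1
import Cfsg.Agent.Lib_helper2_U4i
import Cfsg.Agent.S0245
import Cfsg.Agent.S0246

/-! The table group of order 25920 is isomorphic to `PSp 2 K` for a field `K` with 3 elements. -/

set_option autoImplicit false
set_option maxRecDepth 100000
set_option linter.unusedSectionVars false

namespace Cfsg.Agent.helper2.U4

open Matrix Cfsg.Agent.helper2.Cay Cfsg.Agent.helper2.Syl

theorem pos4_inj (i j : I4) : pos4 i = pos4 j ↔ i = j := by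
  rcases i with i | i <;> rcases j with j | j <;> fin_cases i <;> fin_cases j <;> simp [pos4]

theorem pos4_surj : ∀ i < 4, ∃ a : I4, pos4 a = i := by
  intro i hi
  interval_cases i
  · exact ⟨.inl 0, rfl⟩
  · exact ⟨.inl 1, rfl⟩
  · exact ⟨.inr 0, rfl⟩
  · exact ⟨.inr 1, rfl⟩

set_option maxHeartbeats 4000000 in
theorem gens_sp : ∀ k : Fin 2, ∀ i j : I4,
    sE (dec3 (ZMod 3) (csT (igF k).val)) i j = Jent i j := by decide +kernel

section K
variable (K : Type*) [Field K] [CharP K 3]

/-- the symplectic lift of an element -/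
def spK (x : Fin 25920) : Matrix I4 I4 K := dec3 K (csT x.val)

theorem spK_r (k : Fin 2) (x : Fin 25920) :
    spK K (rF k x) = spK K x * spK K (igF k) ∨ spK K (rF k x) = -(spK K x * spK K (igF k)) := by
  have := all_of_chunks9
    (fun X => csT (rT k.val X % 25920) = mc3 (csT X) (csT ((k.val + 1) % 25920)) ∨
      csT (rT k.val X % 25920) = negc3 (mc3 (csT X) (csT ((k.val + 1) % 25920))))
    (chk_Nr k.val k.isLt) x.val x.isLt
  unfold spK
  rw [rF_val, igF_val, ← dec3_mc3, ← dec3_negc3]
  rcases this with h | h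
  · left
    rw [h]
  · right
    rw [h]

theorem gen_mem (k : Fin 2) : spK K (igF k) ∈ symplecticGroup (Fin 2) K := by
  have h1 : dec3 (ZMod 3) (csT (igF k).val) ∈ symplecticGroup (Fin 2) (ZMod 3) := by
    rw [SymplecticGroup.mem_iff]
    apply Matrix.ext
    intro i j
    rw [sympl_entry, J_entry]
    exact gens_sp k i j
  have := SymplecticGroup.map_mem h1 (ZMod.castHom (dvd_refl 3) K)
  rwa [dec3_map] at this

theorem spK_e : spK K 0 = 1 := by
  apply Matrix.ext
  intro i j
  show ((dg3 (csT 0) (4 * pos4 i + pos4 j) : ℕ) : K) = _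
  rw [chk_one _ (pos4_lt i) _ (pos4_lt j), Matrix.one_apply]
  by_cases h : i = j
  · rw [if_pos h, if_pos ((pos4_inj i j).mpr h)]
    simp
  · rw [if_neg h, if_neg (fun h' => h ((pos4_inj i j).mp h'))]
    simp

theorem spK_mem (x : Fin 25920) : spK K x ∈ symplecticGroup (Fin 2) K := by
  refine DU_ind (fun x => spK K x ∈ symplecticGroup (Fin 2) K) ?_ ?_ x
  · show spK K 0 ∈ _
    rw [spK_e]
    exact one_mem _
  · intro k x hx
    show spK K (rF k x) ∈ _
    rcases spK_r K k x with h | h
    · rw [h]
      exact mul_mem hx (gen_mem K k)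
    · rw [h]
      exact SymplecticGroup.neg_mem (mul_mem hx (gen_mem K k))

/-- the lift as an element of the symplectic group -/
def spG (x : Fin 25920) : ↥(symplecticGroup (Fin 2) K) := ⟨spK K x, spK_mem K x⟩

/-- the scalar `-1` -/
def negOne : ↥(symplecticGroup (Fin 2) K) := ⟨-1, SymplecticGroup.neg_mem (one_mem _)⟩

theorem negOne_center : negOne K ∈ Subgroup.center ↥(symplecticGroup (Fin 2) K) := by
  rw [Subgroup.mem_center_iff]
  intro g
  apply Subtype.ext
  show (g : Matrix I4 I4 K) * (-1) = (-1) * (g : Matrix I4 I4 K)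
  rw [mul_neg, mul_one, neg_mul, one_mul]

theorem mk_neg (g h : ↥(symplecticGroup (Fin 2) K))
    (hh : (h : Matrix I4 I4 K) = -(g : Matrix I4 I4 K)) :
    (QuotientGroup.mk h : Cfsg.PSp 2 K) = QuotientGroup.mk g := by
  have e : h = negOne K * g := by
    apply Subtype.ext
    show (h : Matrix I4 I4 K) = (-1) * (g : Matrix I4 I4 K)
    rw [hh, neg_mul, one_mul]
  rw [e, QuotientGroup.mk_mul, (QuotientGroup.eq_one_iff (negOne K)).mpr (negOne_center K), one_mul]

/-- the projective family -/
def NK (x : Fin 25920) : Cfsg.PSp 2 K := QuotientGroup.mk (spG K x)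

theorem NK_r (k : Fin 2) (x : Fin 25920) : NK K (DU.r k x) = NK K x * NK K (DU.ig k) := by
  show NK K (rF k x) = NK K x * NK K (igF k)
  unfold NK
  rw [← QuotientGroup.mk_mul]
  rcases spK_r K k x with h | h
  · congr 1
    apply Subtype.ext
    exact h
  · apply mk_neg
    exact h

theorem NK_e : NK K DU.e = 1 := by
  show NK K 0 = 1
  unfold NK
  have : spG K 0 = 1 := by
    apply Subtype.ext
    exact spK_e K
  rw [this]
  rfl

/-- the representation in the projective symplectic group -/
def fSp : GU →* Cfsg.PSp 2 K := CG.homOf DU (NK K) (NK_r K) (NK_e K)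

theorem cast_inj3 (a b : ℕ) (ha : a < 3) (hb : b < 3) (h : (a : K) = (b : K)) : a = b :=
  Nat.ModEq.eq_of_lt_of_lt ((CharP.natCast_eq_natCast K 3).mp h) ha hb

theorem digits_of_eq (c t : ℕ) (ht : t < 3)
    (h : ∀ i j : I4, dec3 K c i j = if i = j then ((t : ℕ) : K) else 0) :
    ∀ i < 4, ∀ j < 4, dg3 c (4 * i + j) = if i = j then t else 0 := by
  intro i hi j hj
  obtain ⟨a, rfl⟩ := pos4_surj i hi
  obtain ⟨b, rfl⟩ := pos4_surj j hj
  have hab := h a b
  unfold dec3 at hab
  by_cases e : a = b
  · rw [if_pos e] at hab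
    rw [if_pos (congrArg pos4 e)]
    exact cast_inj3 K _ _ (dg3_lt _ _) ht hab
  · rw [if_neg e] at hab
    rw [if_neg (fun e' => e ((pos4_inj a b).mp e'))]
    exact cast_inj3 K _ 0 (dg3_lt _ _) (by norm_num) (by rw [hab]; simp)

theorem eq_zero_of_scalar (x : Fin 25920) (h : spK K x = 1 ∨ spK K x = -1) : x = 0 := by
  have hpm : isPM (csT x.val) := by
    rcases h with h | h
    · left
      apply digits_of_eq K _ 1 (by norm_num)
      intro i j
      have := congrFun (congrFun h i) j
      rw [Matrix.one_apply] at this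
      rw [Nat.cast_one]
      exact this
    · right
      apply digits_of_eq K _ 2 (by norm_num)
      intro i j
      have := congrFun (congrFun h i) j
      rw [Matrix.neg_apply, Matrix.one_apply] at this
      have h3 : ((3 : ℕ) : K) = 0 := CharP.cast_eq_zero K 3
      have h2 : ((2 : ℕ) : K) = -1 := by
        push_cast at h3 ⊢
        linear_combination h3
      rw [h2]
      rw [show spK K x = dec3 K (csT x.val) from rfl] at this
      rw [this]
      split_ifs <;> simp
  have := all_of_chunks9 (fun X => isPM (csT X) → X = 0) chk_ker x.val x.isLt hpm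
  exact Fin.ext this

end K

section Card
variable {K : Type*} [Field K] [Fintype K]

theorem card_psp' (hK : Fintype.card K = 3) : Nat.card (Cfsg.PSp 2 K) = 25920 := by
  have h1 := Cfsg.Agent.S0245.result hK 2
  have h2 := Cfsg.Agent.S0246.result hK 2 (by norm_num)
  have h3 := Subgroup.card_eq_card_quotient_mul_card_subgroup
    (Subgroup.center ↥(symplecticGroup (Fin 2) K))
  rw [h1, h2] at h3
  simp [Finset.prod_range_succ] at h3
  show Nat.card (↥(symplecticGroup (Fin 2) K) ⧸ Subgroup.center ↥(symplecticGroup (Fin 2) K)) = _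
  omega

theorem center_cases [CharP K 3] (hK : Fintype.card K = 3)
    (g : ↥(symplecticGroup (Fin 2) K))
    (hg : g ∈ Subgroup.center ↥(symplecticGroup (Fin 2) K)) : g = 1 ∨ g = negOne K := by
  have h2 : Nat.card (Subgroup.center ↥(symplecticGroup (Fin 2) K)) = 2 := by
    rw [Cfsg.Agent.S0246.result hK 2 (by norm_num)]
    decide
  obtain ⟨y, _, hy⟩ := (Nat.card_eq_two_iff' (1 : Subgroup.center ↥(symplecticGroup (Fin 2) K))).mp h2
  by_cases h1 : g = 1
  · left
    exact h1
  · right
    have hne : negOne K ≠ 1 := by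
      intro h
      have h' := congrArg (fun a : ↥(symplecticGroup (Fin 2) K) => (a : Matrix I4 I4 K) (.inl 0) (.inl 0)) h
      have h'' : (-1 : Matrix I4 I4 K) (.inl 0) (.inl 0) = (1 : Matrix I4 I4 K) (.inl 0) (.inl 0) := h'
      rw [Matrix.neg_apply, Matrix.one_apply_eq] at h''
      have h3 : ((3 : ℕ) : K) = 0 := CharP.cast_eq_zero K 3
      have h4 : (1 : K) = 0 := by
        push_cast at h3
        linear_combination h3 + h''
      exact one_ne_zero h4
    have e1 := hy ⟨g, hg⟩ (fun h => h1 (congrArg Subtype.val h))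
    have e2 := hy ⟨negOne K, negOne_center K⟩ (fun h => hne (congrArg Subtype.val h))
    have := e1.trans e2.symm
    exact congrArg Subtype.val this

theorem fSp_injective [CharP K 3] (hK : Fintype.card K = 3) : Function.Injective (fSp K) := by
  rw [injective_iff_map_eq_one]
  intro g hg
  have h1 : (QuotientGroup.mk (spG K g.k) : Cfsg.PSp 2 K) = 1 := hg
  rw [QuotientGroup.eq_one_iff] at h1
  have h2 : spK K g.k = 1 ∨ spK K g.k = -1 := by
    rcases center_cases hK _ h1 with h | h
    · left
      exact congrArg Subtype.val h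
    · right
      exact congrArg Subtype.val h
  exact CG.ext' (eq_zero_of_scalar K g.k h2)

/-- the table group is the projective symplectic group -/
theorem psp_equiv (hK : Fintype.card K = 3) : Nonempty (GU ≃* Cfsg.PSp 2 K) := by
  have e : ZMod 3 ≃+* K := ZMod.ringEquivOfPrime K Nat.prime_three hK
  have : CharP K 3 := charP_of_injective_ringHom (f := e.toRingHom) e.injective 3
  have : Finite (Cfsg.PSp 2 K) := by
    show Finite (↥(symplecticGroup (Fin 2) K) ⧸ Subgroup.center ↥(symplecticGroup (Fin 2) K))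
    infer_instance
  have hbij : Function.Bijective (fSp K) :=
    (fSp_injective hK).bijective_of_nat_card_le (by rw [card_psp' hK, card_GU])
  exact ⟨MulEquiv.ofBijective (fSp K) hbij⟩

end Card

end Cfsg.Agent.helper2.U4
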