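import Mathlib
import Cfsg.Statements.S0493
import Cfsg.Agent.Lib_helper5_Simple
import Cfsg.Agent.S0494

set_option autoImplicit false
open Cfsg

namespace Cfsg.Agent.S0493

/-- The numerical constraints that the Sylow `p`-subgroups of a non-abelian simple group of
order `p ^ k * m` must satisfy (`d` the number of Sylow subgroups, `r` the automizer order). -/
def Good (p k m : ℕ) : Prop :=
  m ≠ 1 ∧ ∃ d, d ≤ m ∧ (d ∣ m ∧ d % p = 1 ∧ d ≠ 1 ∧ p ^ k * m ∣ d.factorial ∧
    (k = 1 → ∃ r, r ≤ p - 1 ∧ (r ≠ 1 ∧ r ∣ p - 1 ∧ r * d ∣ m)))

instance (p k m : ℕ) : Decidable (Good p k m) := by unfold Good; infer_instance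

theorem good_of_simple {G : Type*} [Group G] [Finite G] [IsSimpleGroup G] (hG : ¬ IsCyclic G)
    (p k m : ℕ) (hp : p.Prime) (hn : Nat.card G = p ^ k * m) (hpm : ¬ p ∣ m) (hk : k ≠ 0) :
    Good p k m := by
  classical
  haveI : Fact p.Prime := ⟨hp⟩
  have hnonab : ∃ a b : G, a * b ≠ b * a := by
    by_contra hcon
    push Not at hcon
    let inst : CommGroup G := { ‹Group G› with mul_comm := hcon }
    exact hG (@IsSimpleGroup.isCyclic G inst ‹_›)
  have hm1 : m ≠ 1 := by
    rintro rfl
    rw [mul_one] at hn
    have hPG : IsPGroup p G := IsPGroup.of_card hn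
    haveI : Nontrivial G := IsSimpleGroup.toNontrivial
    have hc : Nontrivial (Subgroup.center G) := hPG.center_nontrivial
    have hcn : (Subgroup.center G) = ⊤ := by
      rcases (inferInstance : (Subgroup.center G).Normal).eq_bot_or_eq_top with h | h
      · exfalso
        rw [Subgroup.nontrivial_iff_ne_bot] at hc
        exact hc h
      · exact h
    obtain ⟨a, b, hab⟩ := hnonab
    apply hab
    have : a ∈ Subgroup.center G := by rw [hcn]; trivial
    exact (Subgroup.mem_center_iff.mp this b).symm
  refine ⟨hm1, ?_⟩
  obtain ⟨P⟩ : Nonempty (Sylow p G) := inferInstance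
  obtain ⟨hPcard, hPidx⟩ := helper5.sylow_card_of_card_eq P k m hn hpm
  have hm0 : m ≠ 0 := fun h => hpm (h ▸ dvd_zero p)
  have hP1 : (P : Subgroup G) ≠ ⊥ := by
    intro hb
    have : Nat.card (P : Subgroup G) = 1 := by rw [hb]; exact Subgroup.card_bot
    rw [hPcard] at this
    have := Nat.pow_eq_one.mp this
    have := hp.one_lt
    omega
  have hP2 : (P : Subgroup G) ≠ ⊤ := by
    intro ht
    have : (P : Subgroup G).index = 1 := by rw [ht]; exact Subgroup.index_top
    rw [hPidx] at this
    exact hm1 this
  obtain ⟨hmod, hdvd, hmul⟩ := helper5.sylow_count_facts P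
  rw [hPidx] at hdvd
  refine ⟨Nat.card (Sylow p G), Nat.le_of_dvd (Nat.pos_of_ne_zero hm0) hdvd, hdvd, hmod,
    helper5.sylow_count_ne_one P hP1 hP2, ?_, ?_⟩
  · have hNtop : Subgroup.normalizer ((P : Subgroup G) : Set G) ≠ ⊤ := by
      intro ht
      have hn' : (P : Subgroup G).Normal := Subgroup.normalizer_eq_top_iff.mp ht
      rcases hn'.eq_bot_or_eq_top with h' | h'
      · exact hP1 h'
      · exact hP2 h'
    have := Cfsg.Agent.S0494.card_dvd_factorial_index _ hNtop
    rw [P.card_eq_index_normalizer, ← hn]
    exact this
  · intro hk1
    have hPc : Nat.card (P : Subgroup G) = p := by rw [hPcard, hk1, pow_one]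
    have hcyc : IsCyclic (P : Subgroup G) := isCyclic_of_prime_card hPc
    obtain ⟨r, -, hr1, hr2, hr3⟩ := helper5.automizer_facts hnonab P hP1 hcyc
    rw [hPc, Nat.totient_prime hp] at hr2
    rw [hPidx] at hr3
    have := hp.two_le
    exact ⟨r, Nat.le_of_dvd (by omega) hr2, hr1, hr2, hr3⟩

/-- A finite simple group of order at most 100 that is not cyclic has order 60. -/
theorem result {G : Type*} [Group G] [Finite G] [IsSimpleGroup G]
    (hG : ¬ IsCyclic G) (h : Nat.card G ≤ 100) : Nat.card G = 60 := by
  by_contra h60
  haveI : Nontrivial G := IsSimpleGroup.toNontrivial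
  have h2 : 2 ≤ Nat.card G := Finite.one_lt_card
  have key : ∀ p k m : ℕ, p.Prime → Nat.card G = p ^ k * m → ¬ p ∣ m → k ≠ 0 → Good p k m :=
    fun p k m hp hn hpm hk => good_of_simple hG p k m hp hn hpm hk
  generalize Nat.card G = n at *
  interval_cases n
  · exact absurd (key 2 1 1 (by norm_num) (by norm_num) (by norm_num) (by norm_num)) (by decide)
  · exact absurd (key 3 1 1 (by norm_num) (by norm_num) (by norm_num) (by norm_num)) (by decide)
  · exact absurd (key 2 2 1 (by norm_num) (by norm_num) (by norm_num) (by norm_num)) (by decide)
  · exact absurd (key 5 1 1 (by norm_num) (by norm_num) (by norm_num) (by norm_num)) (by decide)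
  · exact absurd (key 2 1 3 (by norm_num) (by norm_num) (by norm_num) (by norm_num)) (by decide)
  · exact absurd (key 7 1 1 (by norm_num) (by norm_num) (by norm_num) (by norm_num)) (by decide)
  · exact absurd (key 2 3 1 (by norm_num) (by norm_num) (by norm_num) (by norm_num)) (by decide)
  · exact absurd (key 3 2 1 (by norm_num) (by norm_num) (by norm_num) (by norm_num)) (by decide)
  · exact absurd (key 2 1 5 (by norm_num) (by norm_num) (by norm_num) (by norm_num)) (by decide)
  · exact absurd (key 11 1 1 (by norm_num) (by norm_num) (by norm_num) (by norm_num)) (by decide)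
  · exact absurd (key 2 2 3 (by norm_num) (by norm_num) (by norm_num) (by norm_num)) (by decide)
  · exact absurd (key 13 1 1 (by norm_num) (by norm_num) (by norm_num) (by norm_num)) (by decide)
  · exact absurd (key 2 1 7 (by norm_num) (by norm_num) (by norm_num) (by norm_num)) (by decide)
  · exact absurd (key 3 1 5 (by norm_num) (by norm_num) (by norm_num) (by norm_num)) (by decide)
  · exact absurd (key 2 4 1 (by norm_num) (by norm_num) (by norm_num) (by norm_num)) (by decide)
  · exact absurd (key 17 1 1 (by norm_num) (by norm_num) (by norm_num) (by norm_num)) (by decide)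
  · exact absurd (key 2 1 9 (by norm_num) (by norm_num) (by norm_num) (by norm_num)) (by decide)
  · exact absurd (key 19 1 1 (by norm_num) (by norm_num) (by norm_num) (by norm_num)) (by decide)
  · exact absurd (key 5 1 4 (by norm_num) (by norm_num) (by norm_num) (by norm_num)) (by decide)
  · exact absurd (key 3 1 7 (by norm_num) (by norm_num) (by norm_num) (by norm_num)) (by decide)
  · exact absurd (key 2 1 11 (by norm_num) (by norm_num) (by norm_num) (by norm_num)) (by decide)
  · exact absurd (key 23 1 1 (by norm_num) (by norm_num) (by norm_num) (by norm_num)) (by decide)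
  · exact absurd (key 2 3 3 (by norm_num) (by norm_num) (by norm_num) (by norm_num)) (by decide)
  · exact absurd (key 5 2 1 (by norm_num) (by norm_num) (by norm_num) (by norm_num)) (by decide)
  · exact absurd (key 2 1 13 (by norm_num) (by norm_num) (by norm_num) (by norm_num)) (by decide)
  · exact absurd (key 3 3 1 (by norm_num) (by norm_num) (by norm_num) (by norm_num)) (by decide)
  · exact absurd (key 7 1 4 (by norm_num) (by norm_num) (by norm_num) (by norm_num)) (by decide)
  · exact absurd (key 29 1 1 (by norm_num) (by norm_num) (by norm_num) (by norm_num)) (by decide)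
  · exact absurd (key 2 1 15 (by norm_num) (by norm_num) (by norm_num) (by norm_num)) (by decide)
  · exact absurd (key 31 1 1 (by norm_num) (by norm_num) (by norm_num) (by norm_num)) (by decide)
  · exact absurd (key 2 5 1 (by norm_num) (by norm_num) (by norm_num) (by norm_num)) (by decide)
  · exact absurd (key 3 1 11 (by norm_num) (by norm_num) (by norm_num) (by norm_num)) (by decide)
  · exact absurd (key 2 1 17 (by norm_num) (by norm_num) (by norm_num) (by norm_num)) (by decide)
  · exact absurd (key 5 1 7 (by norm_num) (by norm_num) (by norm_num) (by norm_num)) (by decide)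
  · exact absurd (key 3 2 4 (by norm_num) (by norm_num) (by norm_num) (by norm_num)) (by decide)
  · exact absurd (key 37 1 1 (by norm_num) (by norm_num) (by norm_num) (by norm_num)) (by decide)
  · exact absurd (key 2 1 19 (by norm_num) (by norm_num) (by norm_num) (by norm_num)) (by decide)
  · exact absurd (key 3 1 13 (by norm_num) (by norm_num) (by norm_num) (by norm_num)) (by decide)
  · exact absurd (key 5 1 8 (by norm_num) (by norm_num) (by norm_num) (by norm_num)) (by decide)
  · exact absurd (key 41 1 1 (by norm_num) (by norm_num) (by norm_num) (by norm_num)) (by decide)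
  · exact absurd (key 2 1 21 (by norm_num) (by norm_num) (by norm_num) (by norm_num)) (by decide)
  · exact absurd (key 43 1 1 (by norm_num) (by norm_num) (by norm_num) (by norm_num)) (by decide)
  · exact absurd (key 11 1 4 (by norm_num) (by norm_num) (by norm_num) (by norm_num)) (by decide)
  · exact absurd (key 3 2 5 (by norm_num) (by norm_num) (by norm_num) (by norm_num)) (by decide)
  · exact absurd (key 2 1 23 (by norm_num) (by norm_num) (by norm_num) (by norm_num)) (by decide)
  · exact absurd (key 47 1 1 (by norm_num) (by norm_num) (by norm_num) (by norm_num)) (by decide)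
  · exact absurd (key 2 4 3 (by norm_num) (by norm_num) (by norm_num) (by norm_num)) (by decide)
  · exact absurd (key 7 2 1 (by norm_num) (by norm_num) (by norm_num) (by norm_num)) (by decide)
  · exact absurd (key 2 1 25 (by norm_num) (by norm_num) (by norm_num) (by norm_num)) (by decide)
  · exact absurd (key 3 1 17 (by norm_num) (by norm_num) (by norm_num) (by norm_num)) (by decide)
  · exact absurd (key 13 1 4 (by norm_num) (by norm_num) (by norm_num) (by norm_num)) (by decide)
  · exact absurd (key 53 1 1 (by norm_num) (by norm_num) (by norm_num) (by norm_num)) (by decide)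
  · exact absurd (key 2 1 27 (by norm_num) (by norm_num) (by norm_num) (by norm_num)) (by decide)
  · exact absurd (key 5 1 11 (by norm_num) (by norm_num) (by norm_num) (by norm_num)) (by decide)
  · exact absurd (key 7 1 8 (by norm_num) (by norm_num) (by norm_num) (by norm_num)) (by decide)
  · exact absurd (key 3 1 19 (by norm_num) (by norm_num) (by norm_num) (by norm_num)) (by decide)
  · exact absurd (key 2 1 29 (by norm_num) (by norm_num) (by norm_num) (by norm_num)) (by decide)
  · exact absurd (key 59 1 1 (by norm_num) (by norm_num) (by norm_num) (by norm_num)) (by decide)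
  · exact h60 rfl
  · exact absurd (key 61 1 1 (by norm_num) (by norm_num) (by norm_num) (by norm_num)) (by decide)
  · exact absurd (key 2 1 31 (by norm_num) (by norm_num) (by norm_num) (by norm_num)) (by decide)
  · exact absurd (key 7 1 9 (by norm_num) (by norm_num) (by norm_num) (by norm_num)) (by decide)
  · exact absurd (key 2 6 1 (by norm_num) (by norm_num) (by norm_num) (by norm_num)) (by decide)
  · exact absurd (key 5 1 13 (by norm_num) (by norm_num) (by norm_num) (by norm_num)) (by decide)
  · exact absurd (key 2 1 33 (by norm_num) (by norm_num) (by norm_num) (by norm_num)) (by decide)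
  · exact absurd (key 67 1 1 (by norm_num) (by norm_num) (by norm_num) (by norm_num)) (by decide)
  · exact absurd (key 17 1 4 (by norm_num) (by norm_num) (by norm_num) (by norm_num)) (by decide)
  · exact absurd (key 3 1 23 (by norm_num) (by norm_num) (by norm_num) (by norm_num)) (by decide)
  · exact absurd (key 2 1 35 (by norm_num) (by norm_num) (by norm_num) (by norm_num)) (by decide)
  · exact absurd (key 71 1 1 (by norm_num) (by norm_num) (by norm_num) (by norm_num)) (by decide)
  · exact absurd (key 3 2 8 (by norm_num) (by norm_num) (by norm_num) (by norm_num)) (by decide)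
  · exact absurd (key 73 1 1 (by norm_num) (by norm_num) (by norm_num) (by norm_num)) (by decide)
  · exact absurd (key 2 1 37 (by norm_num) (by norm_num) (by norm_num) (by norm_num)) (by decide)
  · exact absurd (key 3 1 25 (by norm_num) (by norm_num) (by norm_num) (by norm_num)) (by decide)
  · exact absurd (key 19 1 4 (by norm_num) (by norm_num) (by norm_num) (by norm_num)) (by decide)
  · exact absurd (key 7 1 11 (by norm_num) (by norm_num) (by norm_num) (by norm_num)) (by decide)
  · exact absurd (key 2 1 39 (by norm_num) (by norm_num) (by norm_num) (by norm_num)) (by decide)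
  · exact absurd (key 79 1 1 (by norm_num) (by norm_num) (by norm_num) (by norm_num)) (by decide)
  · exact absurd (key 2 4 5 (by norm_num) (by norm_num) (by norm_num) (by norm_num)) (by decide)
  · exact absurd (key 3 4 1 (by norm_num) (by norm_num) (by norm_num) (by norm_num)) (by decide)
  · exact absurd (key 2 1 41 (by norm_num) (by norm_num) (by norm_num) (by norm_num)) (by decide)
  · exact absurd (key 83 1 1 (by norm_num) (by norm_num) (by norm_num) (by norm_num)) (by decide)
  · exact absurd (key 7 1 12 (by norm_num) (by norm_num) (by norm_num) (by norm_num)) (by decide)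
  · exact absurd (key 5 1 17 (by norm_num) (by norm_num) (by norm_num) (by norm_num)) (by decide)
  · exact absurd (key 2 1 43 (by norm_num) (by norm_num) (by norm_num) (by norm_num)) (by decide)
  · exact absurd (key 3 1 29 (by norm_num) (by norm_num) (by norm_num) (by norm_num)) (by decide)
  · exact absurd (key 11 1 8 (by norm_num) (by norm_num) (by norm_num) (by norm_num)) (by decide)
  · exact absurd (key 89 1 1 (by norm_num) (by norm_num) (by norm_num) (by norm_num)) (by decide)
  · exact absurd (key 2 1 45 (by norm_num) (by norm_num) (by norm_num) (by norm_num)) (by decide)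
  · exact absurd (key 7 1 13 (by norm_num) (by norm_num) (by norm_num) (by norm_num)) (by decide)
  · exact absurd (key 23 1 4 (by norm_num) (by norm_num) (by norm_num) (by norm_num)) (by decide)
  · exact absurd (key 3 1 31 (by norm_num) (by norm_num) (by norm_num) (by norm_num)) (by decide)
  · exact absurd (key 2 1 47 (by norm_num) (by norm_num) (by norm_num) (by norm_num)) (by decide)
  · exact absurd (key 5 1 19 (by norm_num) (by norm_num) (by norm_num) (by norm_num)) (by decide)
  · exact absurd (key 2 5 3 (by norm_num) (by norm_num) (by norm_num) (by norm_num)) (by decide)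
  · exact absurd (key 97 1 1 (by norm_num) (by norm_num) (by norm_num) (by norm_num)) (by decide)
  · exact absurd (key 2 1 49 (by norm_num) (by norm_num) (by norm_num) (by norm_num)) (by decide)
  · exact absurd (key 3 2 11 (by norm_num) (by norm_num) (by norm_num) (by norm_num)) (by decide)
  · exact absurd (key 5 2 4 (by norm_num) (by norm_num) (by norm_num) (by norm_num)) (by decide)

end Cfsg.Agent.S0493
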