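import Mathlib
import Cfsg.Agent.S0493

set_option autoImplicit false

/-!
helper3: small non-solvable groups (order at least 60; below 120 they are simple),
and the unique involution of the quaternion group of order 8.
-/

namespace Cfsg.Agent.helper3.BI

universe u

/-- a finite non-solvable group has order at least 60, and is simple if its order is below 120 -/
theorem bi_not_solvable_card : ∀ (n : ℕ) (H : Type u) [Group H] [Finite H], Nat.card H = n →
    ¬ Group.IsSolvable H → 60 ≤ n ∧ (n < 120 → IsSimpleGroup H) := by
  intro n
  induction n using Nat.strong_induction_on with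
  | _ n ih =>
    intro H _ _ hcard hns
    haveI hnt : Nontrivial H := by
      by_contra hcon
      rw [not_nontrivial_iff_subsingleton] at hcon
      exact hns inferInstance
    by_cases hs : IsSimpleGroup H
    · refine ⟨?_, fun _ => hs⟩
      haveI := hs
      have hnc : ¬ IsCyclic H := by
        intro hc
        have hcomm : ∀ a b : H, a * b = b * a := fun a b => by
          obtain ⟨g, hg⟩ := hc.exists_generator
          obtain ⟨i, rfl⟩ := Subgroup.mem_zpowers_iff.mp (hg a)
          obtain ⟨j, rfl⟩ := Subgroup.mem_zpowers_iff.mp (hg b)
          rw [← zpow_add, ← zpow_add, add_comm]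
        exact hns (Group.isSolvable_of_comm hcomm)
      by_cases h100 : n ≤ 100
      · have := Cfsg.Agent.S0493.result (G := H) hnc (by rw [hcard]; exact h100)
        omega
      · omega
    · -- not simple: a proper nontrivial normal subgroup
      have hex : ∃ N : Subgroup H, N.Normal ∧ N ≠ ⊥ ∧ N ≠ ⊤ := by
        by_contra hcon
        push Not at hcon
        apply hs
        exact { toNontrivial := hnt
                eq_bot_or_eq_top_of_normal := fun N hN => by
                  by_cases hb : N = ⊥
                  · exact Or.inl hb
                  · exact Or.inr (hcon N hN hb) }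
      obtain ⟨N, hN, hNb, hNt⟩ := hex
      have hmul : Nat.card H = Nat.card (H ⧸ N) * Nat.card N :=
        Subgroup.card_eq_card_quotient_mul_card_subgroup N
      have hN1 : 1 < Nat.card N := by
        rw [Finite.one_lt_card_iff_nontrivial, Subgroup.nontrivial_iff_ne_bot]; exact hNb
      have hQ1 : 1 < Nat.card (H ⧸ N) := by
        rw [Finite.one_lt_card_iff_nontrivial]
        by_contra hcon
        rw [not_nontrivial_iff_subsingleton] at hcon
        exact hNt (QuotientGroup.subsingleton_iff.mp hcon)
      have hNlt : Nat.card N < n := by
        rw [← hcard, hmul]; nlinarith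
      have hQlt : Nat.card (H ⧸ N) < n := by
        rw [← hcard, hmul]; nlinarith
      have hor : ¬ Group.IsSolvable N ∨ ¬ Group.IsSolvable (H ⧸ N) := by
        by_contra hcon
        push Not at hcon
        obtain ⟨h1, h2⟩ := hcon
        haveI := h1
        haveI := h2
        apply hns
        exact Group.isSolvable_of_ker_le_range N.subtype (QuotientGroup.mk' N) (by
          rw [QuotientGroup.ker_mk', Subgroup.range_subtype])
      have h120 : 120 ≤ n := by
        rcases hor with h | h
        · have := (ih _ hNlt N rfl h).1
          rw [← hcard, hmul]; nlinarith
        · have := (ih _ hQlt (H ⧸ N) rfl h).1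
          rw [← hcard, hmul]; nlinarith
      exact ⟨by omega, fun h => by omega⟩

/-- in the quaternion group of order 8 the only involution is `a 2` -/
theorem bi_quaternion_involution : ∀ q : QuaternionGroup 2, q ^ 2 = 1 → q ≠ 1 →
    q = QuaternionGroup.a 2 := by
  decide

end Cfsg.Agent.helper3.BI
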