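import Mathlib
import Cfsg.Agent.Lib_helper3_BI1
import Cfsg.Agent.S0494
import Cfsg.Agent.S3377
import Cfsg.Agent.Lib_helper12_ZS5

set_option autoImplicit false

/-!
helper3: a non-solvable group of order 120 with quaternion Sylow 2-subgroups is generated by
elements satisfying the binary icosahedral relations.
-/

namespace Cfsg.Agent.helper3.BI

open Cfsg
open scoped Pointwise

universe u

variable {G : Type u} [Group G] [Finite G]

/-- each Sylow 2-subgroup has exactly one involution -/
theorem bi_sylow_involution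
    (hQ : ∀ P : Sylow 2 G, Nonempty ((P : Subgroup G) ≃* QuaternionGroup 2)) (P : Sylow 2 G) :
    ∃ z ∈ (P : Subgroup G), orderOf z = 2 ∧
      ∀ u ∈ (P : Subgroup G), u ^ 2 = 1 → u ≠ 1 → u = z := by
  obtain ⟨e⟩ := hQ P
  have ha2 : (QuaternionGroup.a 2 : QuaternionGroup 2) ^ 2 = 1 := by decide
  have ha1 : (QuaternionGroup.a 2 : QuaternionGroup 2) ≠ 1 := by decide
  refine ⟨((e.symm (QuaternionGroup.a 2) : (P : Subgroup G)) : G), (e.symm _).2, ?_, ?_⟩
  · haveI : Fact (Nat.Prime 2) := ⟨Nat.prime_two⟩
    apply orderOf_eq_prime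
    · have : (e.symm (QuaternionGroup.a 2)) ^ 2 = 1 := by rw [← map_pow, ha2, map_one]
      have h2 := congrArg (Subtype.val) this
      simpa using h2
    · intro h
      have : e.symm (QuaternionGroup.a 2) = 1 := Subtype.ext (by simpa using h)
      apply ha1
      have := congrArg e this
      simpa using this
  · intro u hu h2 h1
    have hq := bi_quaternion_involution (e ⟨u, hu⟩) (by
      rw [← map_pow]
      have : (⟨u, hu⟩ : (P : Subgroup G)) ^ 2 = 1 := Subtype.ext (by simpa using h2)
      rw [this, map_one]) (by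
      intro h
      have : (⟨u, hu⟩ : (P : Subgroup G)) = 1 := by
        have := congrArg e.symm h
        simpa using this
      exact h1 (by simpa using congrArg Subtype.val this))
    have : (⟨u, hu⟩ : (P : Subgroup G)) = e.symm (QuaternionGroup.a 2) := by
      rw [← hq]; simp
    exact congrArg Subtype.val this

/-- the involution is central and is the unique involution of `G` inside Sylow 2-subgroups -/
theorem bi_center (hcard : Nat.card G = 120) (hns : ¬ Group.IsSolvable G)
    (hQ : ∀ P : Sylow 2 G, Nonempty ((P : Subgroup G) ≃* QuaternionGroup 2)) :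
    ∃ z : G, orderOf z = 2 ∧ (∀ g : G, g * z = z * g) ∧
      ∀ P : Sylow 2 G, ∀ u ∈ (P : Subgroup G), u ^ 2 = 1 → u ≠ 1 → u = z := by
  haveI : Fact (Nat.Prime 2) := ⟨Nat.prime_two⟩
  obtain ⟨P⟩ : Nonempty (Sylow 2 G) := inferInstance
  obtain ⟨z, hzP, hz2, hzu⟩ := bi_sylow_involution hQ P
  have hzz : z ^ 2 = 1 := by rw [← hz2]; exact pow_orderOf_eq_one z
  have hz1 : z ≠ 1 := by
    intro h; rw [h, orderOf_one] at hz2; omega
  have hiso : IsIsolatedInvolution z := by
    apply Cfsg.Agent.helper12.zs_isolated_of_sylow P z hz2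
    intro g hg
    apply hzu _ hg
    · rw [conj_pow, hzz]; group
    · intro h
      apply hz1
      have : g * z * g⁻¹ = g * 1 * g⁻¹ := by rw [h]; group
      exact mul_left_cancel (mul_right_cancel this)
  obtain ⟨N, hNn, hNodd, hN⟩ := Cfsg.Agent.helper12.zs_main 120 G hcard z hiso
  have hNbot : N = ⊥ := by
    by_contra hne
    have hmul : Nat.card G = Nat.card (G ⧸ N) * Nat.card N :=
      Subgroup.card_eq_card_quotient_mul_card_subgroup N
    have hN1 : 1 < Nat.card N := by
      rw [Finite.one_lt_card_iff_nontrivial, Subgroup.nontrivial_iff_ne_bot]; exact hne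
    have hdvd : Nat.card N ∣ 120 := by rw [← hcard]; exact Subgroup.card_subgroup_dvd_card N
    have hcop : (Nat.card N).Coprime 8 := by
      have : (Nat.card N).Coprime 2 := Nat.coprime_two_right.mpr hNodd
      exact Nat.Coprime.pow_right 3 this
    have h15 : Nat.card N ∣ 15 := hcop.dvd_of_dvd_mul_left (by norm_num; exact hdvd)
    have hle : Nat.card N ≤ 15 := Nat.le_of_dvd (by norm_num) h15
    have h3 : 3 ≤ Nat.card N := by
      rcases hNodd with ⟨k, hk⟩; omega
    have hq : Nat.card (G ⧸ N) ≤ 40 := by
      by_contra hcon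
      push Not at hcon
      have : 120 = Nat.card (G ⧸ N) * Nat.card N := by rw [← hmul, hcard]
      nlinarith
    have hs1 : Group.IsSolvable N := by
      by_contra h
      have := (bi_not_solvable_card _ N rfl h).1
      omega
    have hs2 : Group.IsSolvable (G ⧸ N) := by
      by_contra h
      have := (bi_not_solvable_card _ (G ⧸ N) rfl h).1
      omega
    haveI := hs1
    haveI := hs2
    exact hns (Group.isSolvable_of_ker_le_range N.subtype (QuotientGroup.mk' N) (by
      rw [QuotientGroup.ker_mk', Subgroup.range_subtype]))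
  have hcen : ∀ g : G, g * z = z * g := by
    intro g
    have h1 := hN g
    rw [hNbot, Subgroup.mem_bot] at h1
    have : z * g = g * z := by
      have h2 : z * g * z⁻¹ * g⁻¹ * g * z = g * z := by rw [h1]; group
      rw [← h2]; group
    exact this.symm
  refine ⟨z, hz2, hcen, ?_⟩
  intro P' u hu hu2 hu1
  obtain ⟨z', hz'P, hz'2, hz'u⟩ := bi_sylow_involution hQ P'
  have hzP' : z ∈ (P' : Subgroup G) := by
    obtain ⟨g, rfl⟩ := MulAction.exists_smul_eq G P P'
    show z ∈ MulAut.conj g • (P : Subgroup G)
    rw [Subgroup.mem_pointwise_smul_iff_inv_smul_mem]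
    have : (MulAut.conj g)⁻¹ • z = z := by
      rw [← map_inv, MulAut.smul_def, MulAut.conj_apply, inv_inv]
      rw [mul_assoc, ← hcen g, ← mul_assoc, inv_mul_cancel, one_mul]
    rw [this]; exact hzP
  rw [hz'u u hu hu2 hu1, hz'u z hzP' hzz hz1]

end Cfsg.Agent.helper3.BI
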