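import Mathlib
import Cfsg.Agent.Lib_helper3_BI2

set_option autoImplicit false

/-!
helper3: generators of a non-solvable group of order 120 with quaternion Sylow 2-subgroups
satisfying the binary icosahedral relations.
-/

namespace Cfsg.Agent.helper3.BI

open Cfsg

universe u

/-- generators of `Alt(5)` satisfying the (2,3,5) relations -/
theorem bi_alt_gens : ∃ a b : alternatingGroup (Fin 5), a ^ 3 = 1 ∧ b ^ 5 = 1 ∧ (a * b) ^ 2 = 1 ∧
    Subgroup.closure ({a, b} : Set (alternatingGroup (Fin 5))) = ⊤ := by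
  obtain ⟨e⟩ := Cfsg.Agent.S3377.result
  set rels : Set (FreeGroup (Fin 2)) := {FreeGroup.of (0 : Fin 2) ^ 3, FreeGroup.of (1 : Fin 2) ^ 5,
        (FreeGroup.of (0 : Fin 2) * FreeGroup.of 1) ^ 2} with hrels
  set x : PresentedGroup rels := PresentedGroup.of 0 with hxdef
  set y : PresentedGroup rels := PresentedGroup.of 1 with hydef
  have hx : x ^ 3 = 1 := by
    have : PresentedGroup.mk rels (FreeGroup.of 0 ^ 3) = 1 :=
      PresentedGroup.one_of_mem (by rw [hrels]; simp)
    rwa [map_pow] at this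
  have hy : y ^ 5 = 1 := by
    have : PresentedGroup.mk rels (FreeGroup.of 1 ^ 5) = 1 :=
      PresentedGroup.one_of_mem (by rw [hrels]; simp)
    rwa [map_pow] at this
  have hxy : (x * y) ^ 2 = 1 := by
    have : PresentedGroup.mk rels ((FreeGroup.of 0 * FreeGroup.of 1) ^ 2) = 1 :=
      PresentedGroup.one_of_mem (by rw [hrels]; simp)
    rwa [map_pow, map_mul] at this
  have hgen : Subgroup.closure ({x, y} : Set (PresentedGroup rels)) = ⊤ := by
    have h := PresentedGroup.closure_range_of rels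
    rw [← h]
    congr 1
    ext g
    constructor
    · rintro (rfl | rfl)
      · exact ⟨0, rfl⟩
      · exact ⟨1, rfl⟩
    · rintro ⟨i, rfl⟩
      fin_cases i
      · left; rfl
      · right; rfl
  refine ⟨e x, e y, ?_, ?_, ?_, ?_⟩
  · rw [← map_pow, hx, map_one]
  · rw [← map_pow, hy, map_one]
  · rw [← map_mul, ← map_pow, hxy, map_one]
  · have h1 : Subgroup.map e.toMonoidHom (Subgroup.closure ({x, y} : Set (PresentedGroup rels))) = ⊤ := by
      rw [hgen, ← MonoidHom.range_eq_map, MonoidHom.range_eq_top]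
      exact e.surjective
    rw [MonoidHom.map_closure, Set.image_pair] at h1
    exact h1

variable {G : Type u} [Group G] [Finite G]

/-- elements of `zpowers z` for an involution `z` -/
theorem bi_mem_zpowers {z : G} (hz : z ^ 2 = 1) {w : G} (hw : w ∈ Subgroup.zpowers z) :
    w = 1 ∨ w = z := by
  obtain ⟨k, rfl⟩ := Subgroup.mem_zpowers_iff.mp hw
  rcases Int.even_or_odd' k with ⟨m, rfl | rfl⟩
  · left
    rw [zpow_mul, zpow_ofNat, hz, one_zpow]
  · right
    rw [zpow_add, zpow_mul, zpow_ofNat, hz, one_zpow, one_mul, zpow_one]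

/-- the main generation statement -/
theorem bi_gens (hcard : Nat.card G = 120) (hns : ¬ Group.IsSolvable G)
    (hQ : ∀ P : Sylow 2 G, Nonempty ((P : Subgroup G) ≃* QuaternionGroup 2)) :
    ∃ x y z : G, x ^ 3 = 1 ∧ y ^ 5 = 1 ∧ z ^ 2 = 1 ∧ z * x = x * z ∧ z * y = y * z ∧
      (x * y) ^ 2 = z ∧ Subgroup.closure ({x, y} : Set G) = ⊤ := by
  haveI : Fact (Nat.Prime 2) := ⟨Nat.prime_two⟩
  obtain ⟨z, hz2, hcen, huniq⟩ := bi_center hcard hns hQ
  have hzz : z ^ 2 = 1 := by rw [← hz2]; exact pow_orderOf_eq_one z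
  have hz1 : z ≠ 1 := by
    intro h; rw [h, orderOf_one] at hz2; omega
  set Z : Subgroup G := Subgroup.zpowers z with hZ
  have hZcen : ∀ w ∈ Z, ∀ g : G, g * w = w * g := by
    intro w hw g
    rcases bi_mem_zpowers hzz hw with rfl | rfl
    · simp
    · exact hcen g
  haveI hZn : Z.Normal := by
    refine ⟨fun w hw g => ?_⟩
    have : g * w * g⁻¹ = w := by rw [hZcen w hw g, mul_assoc, mul_inv_cancel, mul_one]
    rw [this]; exact hw
  have hZcard : Nat.card Z = 2 := by rw [hZ, Nat.card_zpowers, hz2]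
  have hmul : Nat.card G = Nat.card (G ⧸ Z) * Nat.card Z :=
    Subgroup.card_eq_card_quotient_mul_card_subgroup Z
  have hQcard : Nat.card (G ⧸ Z) = 60 := by
    rw [hcard, hZcard] at hmul; omega
  have hZsol : Group.IsSolvable Z := by
    apply Group.isSolvable_of_comm
    intro a b
    apply Subtype.ext
    show (a : G) * (b : G) = (b : G) * (a : G)
    exact hZcen b b.2 a
  have hQns : ¬ Group.IsSolvable (G ⧸ Z) := by
    intro h
    haveI := hZsol
    haveI := h
    exact hns (Group.isSolvable_of_ker_le_range Z.subtype (QuotientGroup.mk' Z) (by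
      rw [QuotientGroup.ker_mk', Subgroup.range_subtype]))
  haveI hQs : IsSimpleGroup (G ⧸ Z) :=
    (bi_not_solvable_card _ (G ⧸ Z) rfl hQns).2 (by rw [hQcard]; norm_num)
  obtain ⟨f⟩ := Cfsg.Agent.S0494.result (G := G ⧸ Z) hQcard
  obtain ⟨a, b, ha, hb, hab, hgen⟩ := bi_alt_gens
  -- transport to the quotient
  set a' : G ⧸ Z := f.symm a with ha'
  set b' : G ⧸ Z := f.symm b with hb'
  have ha3 : a' ^ 3 = 1 := by rw [ha', ← map_pow, ha, map_one]
  have hb5 : b' ^ 5 = 1 := by rw [hb', ← map_pow, hb, map_one]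
  have hab2 : (a' * b') ^ 2 = 1 := by rw [ha', hb', ← map_mul, ← map_pow, hab, map_one]
  have hgen' : Subgroup.closure ({a', b'} : Set (G ⧸ Z)) = ⊤ := by
    have h1 : Subgroup.map f.symm.toMonoidHom
        (Subgroup.closure ({a, b} : Set (alternatingGroup (Fin 5)))) = ⊤ := by
      rw [hgen, ← MonoidHom.range_eq_map, MonoidHom.range_eq_top]
      exact f.symm.surjective
    rw [MonoidHom.map_closure, Set.image_pair] at h1
    exact h1
  have hab1 : a' * b' ≠ 1 := by
    intro h
    have hb'' : b' = a'⁻¹ := eq_inv_of_mul_eq_one_right h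
    have hle : (⊤ : Subgroup (G ⧸ Z)) ≤ Subgroup.zpowers a' := by
      rw [← hgen', Subgroup.closure_le]
      rintro t (rfl | rfl)
      · exact Subgroup.mem_zpowers _
      · rw [SetLike.mem_coe, hb'']; exact (Subgroup.zpowers a').inv_mem (Subgroup.mem_zpowers _)
    have h1 : Nat.card (⊤ : Subgroup (G ⧸ Z)) ≤ Nat.card (Subgroup.zpowers a') :=
      Subgroup.card_le_of_le hle
    rw [Subgroup.card_top, hQcard, Nat.card_zpowers] at h1
    have h2 : orderOf a' ≤ 3 := orderOf_le_of_pow_eq_one (by norm_num) ha3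
    omega
  -- lifts
  have hmkz : (QuotientGroup.mk z : G ⧸ Z) = 1 := by
    rw [QuotientGroup.eq_one_iff]; exact Subgroup.mem_zpowers z
  have hlift : ∀ (c : G ⧸ Z) (n : ℕ), Odd n → c ^ n = 1 →
      ∃ x : G, (QuotientGroup.mk x : G ⧸ Z) = c ∧ x ^ n = 1 := by
    intro c n hn hc
    obtain ⟨x0, rfl⟩ := QuotientGroup.mk_surjective c
    have hmem : x0 ^ n ∈ Z := by
      rw [← QuotientGroup.eq_one_iff]; exact hc
    rcases bi_mem_zpowers hzz hmem with h | h
    · exact ⟨x0, rfl, h⟩
    · refine ⟨x0 * z, ?_, ?_⟩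
      · rw [QuotientGroup.mk_mul, hmkz, mul_one]
      · have hc' : Commute x0 z := hcen x0
        rw [hc'.mul_pow, h]
        obtain ⟨k, rfl⟩ := hn
        rw [pow_succ, pow_mul, hzz, one_pow, one_mul, ← pow_two, hzz]
  obtain ⟨x, hxa, hx3⟩ := hlift a' 3 (by decide) ha3
  obtain ⟨y, hyb, hy5⟩ := hlift b' 5 (by decide) hb5
  have hmkxy : (QuotientGroup.mk (x * y) : G ⧸ Z) = a' * b' := by
    rw [QuotientGroup.mk_mul, hxa, hyb]
  have hxy1 : x * y ≠ 1 := by
    intro h
    apply hab1
    rw [← hmkxy, h]; rfl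
  have hxyz : (x * y) ^ 2 = z := by
    have hmem : (x * y) ^ 2 ∈ Z := by
      rw [← QuotientGroup.eq_one_iff, QuotientGroup.mk_pow, hmkxy]; exact hab2
    rcases bi_mem_zpowers hzz hmem with h | h
    · exfalso
      -- `x * y` is an involution, hence equals `z`
      have hp : IsPGroup 2 (Subgroup.zpowers (x * y)) := by
        apply IsPGroup.of_card (n := 1)
        rw [Nat.card_zpowers, pow_one]
        exact orderOf_eq_prime h hxy1
      obtain ⟨P', hP'⟩ := hp.exists_le_sylow
      have hu : x * y = z := huniq P' (x * y) (hP' (Subgroup.mem_zpowers _)) h hxy1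
      apply hab1
      rw [← hmkxy, hu]; exact hmkz
    · exact h
  refine ⟨x, y, z, hx3, hy5, hzz, (hcen x).symm, (hcen y).symm, hxyz, ?_⟩
  -- generation
  rw [eq_top_iff]
  intro g _
  set K : Subgroup G := Subgroup.closure ({x, y} : Set G) with hK
  have hxK : x ∈ K := Subgroup.subset_closure (by simp)
  have hyK : y ∈ K := Subgroup.subset_closure (by simp)
  have hzK : z ∈ K := by rw [← hxyz]; exact K.pow_mem (K.mul_mem hxK hyK) 2
  have hmap : Subgroup.map (QuotientGroup.mk' Z) K = ⊤ := by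
    rw [hK, MonoidHom.map_closure, Set.image_pair]
    show Subgroup.closure ({(QuotientGroup.mk x : G ⧸ Z), (QuotientGroup.mk y : G ⧸ Z)} : Set (G ⧸ Z)) = ⊤
    rw [hxa, hyb]; exact hgen'
  have hg : (QuotientGroup.mk' Z) g ∈ Subgroup.map (QuotientGroup.mk' Z) K := by
    rw [hmap]; trivial
  obtain ⟨k, hkK, hkg⟩ := hg
  have hkg' : k⁻¹ * g ∈ Z := by
    rw [← QuotientGroup.eq]; exact hkg
  have hZK : Z ≤ K := by
    rw [hZ, Subgroup.zpowers_le]; exact hzK
  have : g = k * (k⁻¹ * g) := by group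
  rw [this]
  exact K.mul_mem hkK (hZK hkg')

end Cfsg.Agent.helper3.BI
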