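import Mathlib
import Cfsg.Prelude.Def_KGroupFacts
import Cfsg.Prelude.Def_Transfer
import Cfsg.Agent.Lib_helper10_PResidual
import Cfsg.Agent.Lib_helper19_Pairing

set_option autoImplicit false
open Cfsg

namespace Cfsg.Agent.helper3

variable {P : Type*} [Group P]

theorem crit_pow_apply (α : MulAut P) (x d : P) (hd : α x = x * d) (hfix : α d = d) :
    ∀ k : ℕ, (α ^ k) x = x * d ^ k := by
  intro k
  induction k with
  | zero => simp
  | succ k ih =>
    rw [pow_succ', MulAut.mul_apply, ih, map_mul, map_pow, hd, hfix, mul_assoc, ← pow_succ']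

/-- If `x⁻¹ α(x)` is fixed by the `p'`-automorphism `α` of the `p`-group `P`, then `α` fixes `x`. -/
theorem crit_fix_elt [Finite P] {p : ℕ} [Fact p.Prime] (hP : IsPGroup p P) (α : MulAut P)
    (hα : (orderOf α).Coprime p) (x : P) (h : α (x⁻¹ * α x) = x⁻¹ * α x) : α x = x := by
  obtain ⟨d, hd⟩ : ∃ d : P, d = x⁻¹ * α x := ⟨_, rfl⟩
  rw [← hd] at h
  have hxd : α x = x * d := by rw [hd, mul_inv_cancel_left]
  have h1 := crit_pow_apply α x d hxd h (orderOf α)
  rw [pow_orderOf_eq_one, MulAut.one_apply] at h1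
  have hdm : d ^ orderOf α = 1 := by
    have h2 : x * 1 = x * d ^ orderOf α := by rw [mul_one]; exact h1
    exact (mul_left_cancel h2).symm
  obtain ⟨j, hj⟩ := hP d
  have hdvd1 : orderOf d ∣ orderOf α := orderOf_dvd_of_pow_eq_one hdm
  have hdvd2 : orderOf d ∣ p ^ j := orderOf_dvd_of_pow_eq_one hj
  have hcop : (orderOf α).Coprime (p ^ j) := hα.pow_right j
  have h3 := Nat.dvd_gcd hdvd1 hdvd2
  rw [Nat.Coprime.gcd_eq_one hcop] at h3
  have h4 : orderOf d = 1 := Nat.dvd_one.1 h3
  rw [orderOf_eq_one_iff] at h4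
  rw [hxd, h4, mul_one]

/-- A `p'`-automorphism of an abelian `p`-subgroup that is trivial on the elements of order dividing `p` is trivial. -/
theorem crit_abelian_fix [Finite P] {p : ℕ} [Fact p.Prime] (hP : IsPGroup p P) (α : MulAut P)
    (hα : (orderOf α).Coprime p) (A : Subgroup P)
    (hAc : ∀ a ∈ A, ∀ b ∈ A, a * b = b * a) (hAα : ∀ a ∈ A, α a ∈ A)
    (hΩ : ∀ a ∈ A, a ^ p = 1 → α a = a) : ∀ a ∈ A, α a = a := by
  have key : ∀ k : ℕ, ∀ a ∈ A, a ^ (p ^ k) = 1 → α a = a := by
    intro k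
    induction k with
    | zero =>
      intro a _ h
      rw [pow_zero, pow_one] at h
      rw [h, map_one]
    | succ k ih =>
      intro a ha h
      have hb : α (a ^ p) = a ^ p :=
        ih (a ^ p) (A.pow_mem ha p) (by rw [← pow_mul, ← pow_succ']; exact h)
      apply crit_fix_elt hP α hα
      apply hΩ _ (A.mul_mem (A.inv_mem ha) (hAα a ha))
      have hc : Commute a⁻¹ (α a) := hAc _ (A.inv_mem ha) _ (hAα a ha)
      rw [hc.mul_pow, inv_pow, ← map_pow, hb, inv_mul_cancel]
  intro a ha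
  obtain ⟨k, hk⟩ := hP a
  exact key k a ha hk

theorem crit_pow_comm {x y c : P} (hyx : y * x = x * y * c) (hcy : Commute c y) :
    ∀ n : ℕ, y ^ n * x = x * y ^ n * c ^ n := by
  intro n
  induction n with
  | zero => simp
  | succ n ih =>
    have h1 : Commute c (y ^ n) := hcy.pow_right n
    calc y ^ (n + 1) * x = y * (y ^ n * x) := by rw [pow_succ', mul_assoc]
      _ = y * (x * y ^ n * c ^ n) := by rw [ih]
      _ = (y * x) * y ^ n * c ^ n := by simp only [mul_assoc]
      _ = x * y * c * y ^ n * c ^ n := by rw [hyx]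
      _ = x * y * (c * y ^ n) * c ^ n := by simp only [mul_assoc]
      _ = x * y * (y ^ n * c) * c ^ n := by rw [h1.eq]
      _ = x * (y * y ^ n) * (c * c ^ n) := by simp only [mul_assoc]
      _ = x * y ^ (n + 1) * c ^ (n + 1) := by rw [← pow_succ', ← pow_succ']

theorem crit_mul_pow {x y c : P} (hyx : y * x = x * y * c) (hcx : Commute c x) (hcy : Commute c y) :
    ∀ n : ℕ, (x * y) ^ n = x ^ n * y ^ n * c ^ (n.choose 2) := by
  intro n
  induction n with
  | zero => simp
  | succ n ih =>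
    have h1 : Commute (c ^ (n.choose 2)) x := hcx.pow_left _
    have h2 : Commute (c ^ (n.choose 2)) y := hcy.pow_left _
    have h3 : Commute (c ^ n) y := hcy.pow_left _
    have hch : (n + 1).choose 2 = n + n.choose 2 := by
      rw [Nat.choose_succ_succ, Nat.choose_one_right]
    calc (x * y) ^ (n + 1) = (x * y) ^ n * (x * y) := pow_succ _ _
      _ = x ^ n * y ^ n * c ^ (n.choose 2) * (x * y) := by rw [ih]
      _ = x ^ n * y ^ n * (c ^ (n.choose 2) * x) * y := by simp only [mul_assoc]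
      _ = x ^ n * y ^ n * (x * c ^ (n.choose 2)) * y := by rw [h1.eq]
      _ = x ^ n * (y ^ n * x) * (c ^ (n.choose 2) * y) := by simp only [mul_assoc]
      _ = x ^ n * (x * y ^ n * c ^ n) * (y * c ^ (n.choose 2)) := by
          rw [crit_pow_comm hyx hcy n, h2.eq]
      _ = (x ^ n * x) * y ^ n * (c ^ n * y) * c ^ (n.choose 2) := by simp only [mul_assoc]
      _ = (x ^ n * x) * y ^ n * (y * c ^ n) * c ^ (n.choose 2) := by rw [h3.eq]
      _ = (x ^ n * x) * (y ^ n * y) * (c ^ n * c ^ (n.choose 2)) := by simp only [mul_assoc]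
      _ = x ^ (n + 1) * y ^ (n + 1) * c ^ ((n + 1).choose 2) := by
          rw [← pow_succ, ← pow_succ, ← pow_add, hch]

/-- The elements of order dividing `p` in the centre. -/
def critOmega (p : ℕ) (H : Type*) [Group H] : Subgroup H where
  carrier := {z | z ∈ Subgroup.center H ∧ z ^ p = 1}
  one_mem' := ⟨Subgroup.one_mem _, one_pow _⟩
  mul_mem' := by
    rintro a b ⟨ha, hap⟩ ⟨hb, hbp⟩
    refine ⟨Subgroup.mul_mem _ ha hb, ?_⟩
    have hc : Commute a b := (Subgroup.mem_center_iff.1 ha b).symm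
    rw [hc.mul_pow, hap, hbp, one_mul]
  inv_mem' := by
    rintro a ⟨ha, hap⟩
    exact ⟨Subgroup.inv_mem _ ha, by rw [inv_pow, hap, inv_one]⟩

/-- A normal subgroup `E` of a finite `p`-group properly containing the normal subgroup `A` contains an element
outside `A` that is central modulo `A` and has `p`-th power in `A`. -/
theorem crit_exists_central_mod [Finite P] {p : ℕ} [Fact p.Prime] (hP : IsPGroup p P)
    (A E : Subgroup P) [A.Normal] [E.Normal] (hne : ¬ E ≤ A) :
    ∃ b ∈ E, b ∉ A ∧ (∀ g : P, b * g * b⁻¹ * g⁻¹ ∈ A) ∧ b ^ p ∈ A := by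
  have hsurj : Function.Surjective (QuotientGroup.mk' A) := QuotientGroup.mk'_surjective A
  haveI hNn : (E.map (QuotientGroup.mk' A)).Normal := Subgroup.Normal.map inferInstance _ hsurj
  have hN : E.map (QuotientGroup.mk' A) ≠ ⊥ := by
    intro hbot
    apply hne
    intro x hx
    have h1 : QuotientGroup.mk' A x ∈ E.map (QuotientGroup.mk' A) := ⟨x, hx, rfl⟩
    rw [hbot, Subgroup.mem_bot] at h1
    exact (QuotientGroup.eq_one_iff x).1 h1
  have hPq : IsPGroup p (P ⧸ A) := hP.to_quotient A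
  have hK := Cfsg.Agent.helper19.inf_center_ne_bot_of_normal hPq (E.map (QuotientGroup.mk' A)) hN
  obtain ⟨k, hk⟩ := IsPGroup.iff_card.1
    (hPq.to_subgroup (E.map (QuotientGroup.mk' A) ⊓ Subgroup.center (P ⧸ A)))
  have hk0 : k ≠ 0 := by
    intro h0
    rw [h0, pow_zero] at hk
    exact hK (Subgroup.card_eq_one.1 hk)
  have hdvd : p ∣ Nat.card ↥(E.map (QuotientGroup.mk' A) ⊓ Subgroup.center (P ⧸ A)) := by
    rw [hk]; exact dvd_pow_self p hk0
  obtain ⟨w, hw⟩ := exists_prime_orderOf_dvd_card' p hdvd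
  obtain ⟨hwE, hwZ⟩ := Subgroup.mem_inf.1 w.2
  obtain ⟨b, hbE, hb⟩ := hwE
  have hwp : (w : P ⧸ A) ^ p = 1 := by
    have h1 : w ^ p = 1 := by rw [← hw]; exact pow_orderOf_eq_one w
    have h2 := congrArg Subtype.val h1
    simpa using h2
  have hw1 : (w : P ⧸ A) ≠ 1 := by
    intro h1
    have h2 : w = 1 := Subtype.ext h1
    rw [h2, orderOf_one] at hw
    exact (Fact.out : p.Prime).one_lt.ne hw
  refine ⟨b, hbE, ?_, ?_, ?_⟩
  · intro hbA
    apply hw1
    rw [← hb]
    exact (QuotientGroup.eq_one_iff b).2 hbA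
  · intro g
    rw [← QuotientGroup.eq_one_iff]
    have hc := Subgroup.mem_center_iff.1 hwZ (QuotientGroup.mk' A g)
    rw [← hb] at hc
    have h5 : ((b * g * b⁻¹ * g⁻¹ : P) : P ⧸ A) =
        QuotientGroup.mk' A b * QuotientGroup.mk' A g * (QuotientGroup.mk' A b)⁻¹ *
          (QuotientGroup.mk' A g)⁻¹ := by
      simp
    rw [h5, ← hc, mul_inv_cancel_right, mul_inv_cancel]
  · rw [← QuotientGroup.eq_one_iff]
    have h5 : ((b ^ p : P) : P ⧸ A) = (QuotientGroup.mk' A b) ^ p := by simp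
    rw [h5, hb, hwp]

end Cfsg.Agent.helper3
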