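import Mathlib
import Cfsg.Agent.Lib_helper3_Crit1

set_option autoImplicit false
open Cfsg

namespace Cfsg.Agent.helper3

variable {P : Type*} [Group P]

/-- The centralizer of an invariant subgroup is invariant. -/
theorem crit_centralizer_inv (G : Subgroup (MulAut P)) (H : Subgroup P)
    (hH : ∀ β ∈ G, ∀ x ∈ H, β x ∈ H) :
    ∀ β ∈ G, ∀ y ∈ Subgroup.centralizer (H : Set P), β y ∈ Subgroup.centralizer (H : Set P) := by
  intro β hβ y hy
  rw [Subgroup.mem_centralizer_iff] at hy ⊢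
  intro h hh
  have h1 : β⁻¹ h ∈ H := hH β⁻¹ (G.inv_mem hβ) h hh
  have h2 := hy (β⁻¹ h) h1
  have h3 := congrArg β h2
  rw [map_mul, map_mul, MulAut.apply_inv_self] at h3
  exact h3

/-- Existence of a "critical pair" `A ≤ C` inside an invariant normal subgroup `Q`. -/
theorem crit_exists_pair [Finite P] {p : ℕ} [Fact p.Prime] (hP : IsPGroup p P)
    (G : Subgroup (MulAut P)) (hG : Cfsg.Inn P ≤ G) (Q : Subgroup P)
    (hQinv : ∀ β ∈ G, ∀ x ∈ Q, β x ∈ Q) :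
    ∃ A C : Subgroup P, A ≤ C ∧ C ≤ Q ∧
      (∀ β ∈ G, ∀ x ∈ A, β x ∈ A) ∧ (∀ β ∈ G, ∀ x ∈ C, β x ∈ C) ∧
      (∀ a ∈ A, ∀ c ∈ C, a * c = c * a) ∧
      (∀ x ∈ C, ∀ g : P, x * g * x⁻¹ * g⁻¹ ∈ A) ∧
      (∀ x ∈ C, x ^ p ∈ A) ∧
      (∀ y ∈ Q, (∀ c ∈ C, y * c = c * y) → y ∈ A) := by
  classical
  have hconj : ∀ g : P, MulAut.conj g ∈ G := fun g => hG ⟨g, rfl⟩
  have hnormal_of_inv : ∀ H : Subgroup P, (∀ β ∈ G, ∀ x ∈ H, β x ∈ H) → H.Normal :=
    fun H h => ⟨fun n hn g => h _ (hconj g) n hn⟩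
  -- a maximal invariant abelian subgroup of Q
  let 𝒮 : Set (Subgroup P) := {H | H ≤ Q ∧ (∀ β ∈ G, ∀ x ∈ H, β x ∈ H) ∧
    ∀ a ∈ H, ∀ b ∈ H, a * b = b * a}
  have h𝒮ne : 𝒮.Nonempty := by
    refine ⟨⊥, bot_le, ?_, ?_⟩
    · intro β _ x hx
      rw [Subgroup.mem_bot] at hx ⊢
      rw [hx, map_one]
    · intro a ha b hb
      rw [Subgroup.mem_bot] at ha hb
      rw [ha, hb]
  obtain ⟨A, ⟨hAQ, hAinv, hAc⟩, hAmax⟩ := (Set.toFinite 𝒮).exists_maximal h𝒮ne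
  haveI hAn : A.Normal := hnormal_of_inv A hAinv
  -- B = C_Q(A)
  obtain ⟨B, hBdef⟩ : ∃ B : Subgroup P, B = Q ⊓ Subgroup.centralizer (A : Set P) := ⟨_, rfl⟩
  have hBinv : ∀ β ∈ G, ∀ x ∈ B, β x ∈ B := by
    intro β hβ x hx
    rw [hBdef] at hx ⊢
    exact Subgroup.mem_inf.2 ⟨hQinv β hβ x (Subgroup.mem_inf.1 hx).1,
      crit_centralizer_inv G A hAinv β hβ x (Subgroup.mem_inf.1 hx).2⟩
  have hAB : A ≤ B := by
    intro a ha
    rw [hBdef]
    refine Subgroup.mem_inf.2 ⟨hAQ ha, ?_⟩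
    rw [Subgroup.mem_centralizer_iff]
    intro h hh
    exact hAc h hh a ha
  -- C
  obtain ⟨C, hCdef⟩ : ∃ C : Subgroup P,
      C = B ⊓ (critOmega p (P ⧸ A)).comap (QuotientGroup.mk' A) := ⟨_, rfl⟩
  have hmemC : ∀ x : P, x ∈ C ↔ x ∈ B ∧ (∀ g : P, x * g * x⁻¹ * g⁻¹ ∈ A) ∧ x ^ p ∈ A := by
    intro x
    rw [hCdef, Subgroup.mem_inf, Subgroup.mem_comap]
    have hiff : QuotientGroup.mk' A x ∈ critOmega p (P ⧸ A) ↔
        (∀ g : P, x * g * x⁻¹ * g⁻¹ ∈ A) ∧ x ^ p ∈ A := by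
      constructor
      · rintro ⟨hz, hzp⟩
        constructor
        · intro g
          rw [← QuotientGroup.eq_one_iff]
          have hc := Subgroup.mem_center_iff.1 hz (QuotientGroup.mk' A g)
          have h5 : ((x * g * x⁻¹ * g⁻¹ : P) : P ⧸ A) =
              QuotientGroup.mk' A x * QuotientGroup.mk' A g * (QuotientGroup.mk' A x)⁻¹ *
                (QuotientGroup.mk' A g)⁻¹ := by
            simp
          rw [h5, ← hc, mul_inv_cancel_right, mul_inv_cancel]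
        · rw [← QuotientGroup.eq_one_iff]
          have h5 : ((x ^ p : P) : P ⧸ A) = (QuotientGroup.mk' A x) ^ p := by simp
          rw [h5, hzp]
      · rintro ⟨hg, hxp⟩
        refine ⟨?_, ?_⟩
        · rw [Subgroup.mem_center_iff]
          intro h
          obtain ⟨g, rfl⟩ := QuotientGroup.mk'_surjective A h
          have h1 := (QuotientGroup.eq_one_iff _).2 (hg g)
          have h5 : ((x * g * x⁻¹ * g⁻¹ : P) : P ⧸ A) =
              QuotientGroup.mk' A x * QuotientGroup.mk' A g * (QuotientGroup.mk' A x)⁻¹ *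
                (QuotientGroup.mk' A g)⁻¹ := by
            simp
          rw [h5, mul_inv_eq_one, mul_inv_eq_iff_eq_mul] at h1
          exact h1.symm
        · have h5 : (QuotientGroup.mk' A x) ^ p = ((x ^ p : P) : P ⧸ A) := by simp
          rw [h5]
          exact (QuotientGroup.eq_one_iff _).2 hxp
    rw [hiff]
  have hCB : C ≤ B := by rw [hCdef]; exact inf_le_left
  have hBQ : B ≤ Q := by rw [hBdef]; exact inf_le_left
  have hBcent : ∀ x ∈ B, ∀ a ∈ A, a * x = x * a := by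
    intro x hx a ha
    rw [hBdef] at hx
    exact Subgroup.mem_centralizer_iff.1 (Subgroup.mem_inf.1 hx).2 a ha
  have hAC : A ≤ C := by
    intro a ha
    rw [hmemC]
    refine ⟨hAB ha, fun g => ?_, A.pow_mem ha p⟩
    have h1 : g * a⁻¹ * g⁻¹ ∈ A := hAn.conj_mem a⁻¹ (A.inv_mem ha) g
    have h2 : a * g * a⁻¹ * g⁻¹ = a * (g * a⁻¹ * g⁻¹) := by simp only [mul_assoc]
    rw [h2]
    exact A.mul_mem ha h1
  have hCinv : ∀ β ∈ G, ∀ x ∈ C, β x ∈ C := by
    intro β hβ x hx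
    rw [hmemC] at hx ⊢
    obtain ⟨hxB, hxg, hxp⟩ := hx
    refine ⟨hBinv β hβ x hxB, fun g => ?_, ?_⟩
    · have h1 := hAinv β hβ _ (hxg (β⁻¹ g))
      rw [map_mul, map_mul, map_mul, map_inv, map_inv, MulAut.apply_inv_self] at h1
      exact h1
    · rw [← map_pow]
      exact hAinv β hβ _ hxp
  have hACc : ∀ a ∈ A, ∀ c ∈ C, a * c = c * a := fun a ha c hc => hBcent c (hCB hc) a ha
  -- the centre of C is A
  have hZC : C ⊓ Subgroup.centralizer (C : Set P) ≤ A := by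
    have hZin : (C ⊓ Subgroup.centralizer (C : Set P)) ∈ 𝒮 := by
      refine ⟨inf_le_left.trans (hCB.trans hBQ), ?_, ?_⟩
      · intro β hβ x hx
        exact Subgroup.mem_inf.2 ⟨hCinv β hβ x (Subgroup.mem_inf.1 hx).1,
          crit_centralizer_inv G C hCinv β hβ x (Subgroup.mem_inf.1 hx).2⟩
      · intro a ha b hb
        exact (Subgroup.mem_centralizer_iff.1 (Subgroup.mem_inf.1 hb).2 a (Subgroup.mem_inf.1 ha).1)
    have hle : A ≤ C ⊓ Subgroup.centralizer (C : Set P) := by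
      intro a ha
      refine Subgroup.mem_inf.2 ⟨hAC ha, ?_⟩
      rw [Subgroup.mem_centralizer_iff]
      intro c hc
      exact (hACc a ha c hc).symm
    exact hAmax hZin hle
  refine ⟨A, C, hAC, hCB.trans hBQ, hAinv, hCinv, hACc, fun x hx => ((hmemC x).1 hx).2.1,
    fun x hx => ((hmemC x).1 hx).2.2, ?_⟩
  -- C_Q(C) ≤ A
  obtain ⟨E, hEdef⟩ : ∃ E : Subgroup P, E = Q ⊓ Subgroup.centralizer (C : Set P) := ⟨_, rfl⟩
  have hEinv : ∀ β ∈ G, ∀ x ∈ E, β x ∈ E := by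
    intro β hβ x hx
    rw [hEdef] at hx ⊢
    exact Subgroup.mem_inf.2 ⟨hQinv β hβ x (Subgroup.mem_inf.1 hx).1,
      crit_centralizer_inv G C hCinv β hβ x (Subgroup.mem_inf.1 hx).2⟩
  haveI hEn : E.Normal := hnormal_of_inv E hEinv
  have hEA : E ≤ A := by
    by_contra hne
    obtain ⟨b, hbE, hbA, hbg, hbp⟩ := crit_exists_central_mod hP A E hne
    rw [hEdef] at hbE
    obtain ⟨hbQ, hbC⟩ := Subgroup.mem_inf.1 hbE
    rw [Subgroup.mem_centralizer_iff] at hbC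
    have hbB : b ∈ B := by
      rw [hBdef]
      refine Subgroup.mem_inf.2 ⟨hbQ, ?_⟩
      rw [Subgroup.mem_centralizer_iff]
      intro a ha
      exact hbC a (hAC ha)
    have hbCmem : b ∈ C := (hmemC b).2 ⟨hbB, hbg, hbp⟩
    apply hbA
    apply hZC
    refine Subgroup.mem_inf.2 ⟨hbCmem, ?_⟩
    rw [Subgroup.mem_centralizer_iff]
    exact hbC
  intro y hyQ hyC
  apply hEA
  rw [hEdef]
  refine Subgroup.mem_inf.2 ⟨hyQ, ?_⟩
  rw [Subgroup.mem_centralizer_iff]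
  intro c hc
  exact (hyC c hc).symm

end Cfsg.Agent.helper3
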