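import Mathlib
import Cfsg.Agent.Lib_helper3_Crit2

set_option autoImplicit false
open Cfsg

namespace Cfsg.Agent.helper3

variable {P : Type*} [Group P]

set_option maxHeartbeats 800000 in
/-- A `G`-invariant "critical subgroup of small exponent" inside `[P, O^p(G)]`. -/
theorem crit_main [Finite P] {p : ℕ} [hp : Fact p.Prime] (hP : IsPGroup p P)
    (G : Subgroup (MulAut P)) (hG : Cfsg.Inn P ≤ G) :
    ∃ D : Subgroup P,
      (∀ α ∈ G, D.map α.toMonoidHom = D) ∧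
      D ≤ Subgroup.closure {y : P | ∃ α ∈ Cfsg.pResidual p ↥G, ∃ x : P, y = x⁻¹ * (α : MulAut P) x} ∧
      (∀ d ∈ D, d ^ p = 1 ∨ (p = 2 ∧ d ^ 4 = 1)) ∧
      ⁅D, (⊤ : Subgroup P)⁆ ≤ D ⊓ Subgroup.centralizer (D : Set P) ∧
      (∀ α ∈ G, (orderOf α).Coprime p → (∀ d ∈ D, α d = d) → α = 1) ∧
      ∀ A : Subgroup P, A ≤ D → IsMulCommutative ↥A →
        (∀ B : Subgroup P, A ≤ B → B ≤ D → IsMulCommutative ↥B → B = A) →
        A.Normal ∧ ∀ α ∈ G, (∀ a ∈ A, α a = a) → ∃ k : ℕ, orderOf α = p ^ k := by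
  classical
  have hpp : p.Prime := hp.out
  haveI : Finite (MulAut P) :=
    Finite.of_injective (fun f : MulAut P => (f : P → P)) DFunLike.coe_injective
  obtain ⟨Q, hQdef⟩ : ∃ Q : Subgroup P, Q = Subgroup.closure
      {y : P | ∃ α ∈ Cfsg.pResidual p ↥G, ∃ x : P, y = x⁻¹ * (α : MulAut P) x} := ⟨_, rfl⟩
  have hconj : ∀ g : P, MulAut.conj g ∈ G := fun g => hG ⟨g, rfl⟩
  have hres : ∀ α (hα : α ∈ G), (orderOf α).Coprime p →
      (⟨α, hα⟩ : ↥G) ∈ Cfsg.pResidual p ↥G := by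
    intro α hα hc
    apply Subgroup.subset_closure
    show Nat.Coprime (orderOf (⟨α, hα⟩ : ↥G)) p
    rw [Subgroup.orderOf_mk]
    exact hc
  have hQinv : ∀ β ∈ G, ∀ x ∈ Q, β x ∈ Q := by
    intro β hβ x hx
    rw [hQdef] at hx ⊢
    induction hx using Subgroup.closure_induction with
    | mem y hy =>
      obtain ⟨α, hα, z, rfl⟩ := hy
      apply Subgroup.subset_closure
      refine ⟨⟨β, hβ⟩ * α * ⟨β, hβ⟩⁻¹,
        (Cfsg.Agent.helper10.pResidual_normal p ↥G).conj_mem α hα ⟨β, hβ⟩, β z, ?_⟩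
      simp [map_mul, map_inv]
    | one => rw [map_one]; exact Subgroup.one_mem _
    | mul a b _ _ ha hb => rw [map_mul]; exact Subgroup.mul_mem _ ha hb
    | inv a _ ha => rw [map_inv]; exact Subgroup.inv_mem _ ha
  have hQcomm : ∀ α ∈ G, (orderOf α).Coprime p → ∀ x : P, x⁻¹ * α x ∈ Q := by
    intro α hα hc x
    rw [hQdef]
    exact Subgroup.subset_closure ⟨⟨α, hα⟩, hres α hα hc, x, rfl⟩
  obtain ⟨A, C, hAC, hCQ, hAinv, hCinv, hACc, hCg, hCp, hCent⟩ :=
    crit_exists_pair hP G hG Q hQinv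
  -- the exponent
  obtain ⟨e, he⟩ : ∃ e : ℕ, e = if p = 2 then 4 else p := ⟨_, rfl⟩
  have he1 : ∃ m : ℕ, e.choose 2 = p * m := by
    by_cases h2 : p = 2
    · rw [he, if_pos h2, h2]; exact ⟨3, by decide⟩
    · rw [he, if_neg h2]
      have hodd : Odd p := hpp.odd_of_ne_two h2
      obtain ⟨k, hk⟩ := hodd
      refine ⟨k, ?_⟩
      rw [Nat.choose_two_right, hk]
      have h3 : (2 * k + 1) * (2 * k + 1 - 1) = (2 * k + 1) * k * 2 := by
        rw [Nat.add_sub_cancel]; ring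
      rw [h3, Nat.mul_div_cancel _ (by norm_num)]
  have he2 : ∃ m : ℕ, e = p * m := by
    by_cases h2 : p = 2
    · rw [he, if_pos h2, h2]; exact ⟨2, by norm_num⟩
    · rw [he, if_neg h2]; exact ⟨1, (mul_one p).symm⟩
  have he3 : ∀ d : P, d ^ e = 1 → d ^ p = 1 ∨ (p = 2 ∧ d ^ 4 = 1) := by
    intro d hd
    by_cases h2 : p = 2
    · right; rw [he, if_pos h2] at hd; exact ⟨h2, hd⟩
    · left; rw [he, if_neg h2] at hd; exact hd
  have hCA_pow : ∀ x ∈ C, x ^ e ∈ A := by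
    intro x hx
    obtain ⟨m, hm⟩ := he2
    rw [hm, pow_mul]
    exact A.pow_mem (hCp x hx) m
  have hpow_e_of_p : ∀ x : P, x ^ p = 1 → x ^ e = 1 := by
    intro x hx
    obtain ⟨m, hm⟩ := he2
    rw [hm, pow_mul, hx, one_pow]
  -- the power map is multiplicative on C
  have hCmul : ∀ u ∈ C, ∀ v ∈ C, (u * v) ^ e = u ^ e * v ^ e := by
    intro u hu v hv
    obtain ⟨c, hc⟩ : ∃ c : P, c = (u * v)⁻¹ * (v * u) := ⟨_, rfl⟩
    have hyx : v * u = u * v * c := by rw [hc, mul_inv_cancel_left]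
    have hcA : c ∈ A := by
      have h1 := hCg v⁻¹ (C.inv_mem hv) u⁻¹
      rw [inv_inv, inv_inv] at h1
      have h2 : c = v⁻¹ * u⁻¹ * v * u := by rw [hc]; group
      rw [h2]; exact h1
    have hcu : Commute c u := hACc c hcA u hu
    have hcv : Commute c v := hACc c hcA v hv
    have hcp : c ^ p = 1 := by
      have h1 := crit_pow_comm hyx hcv p
      have h2 : v ^ p * u = u * v ^ p := hACc _ (hCp v hv) u hu
      rw [h2] at h1
      have h3 : u * v ^ p * 1 = u * v ^ p * c ^ p := by rw [mul_one]; exact h1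
      exact (mul_left_cancel h3).symm
    obtain ⟨m, hm⟩ := he1
    rw [crit_mul_pow hyx hcu hcv e, hm, pow_mul, hcp, one_pow, mul_one]
  -- D
  let D : Subgroup P :=
    { carrier := {x | x ∈ C ∧ x ^ e = 1}
      one_mem' := ⟨C.one_mem, one_pow _⟩
      mul_mem' := fun {a b} ha hb =>
        ⟨C.mul_mem ha.1 hb.1, by rw [hCmul a ha.1 b hb.1, ha.2, hb.2, one_mul]⟩
      inv_mem' := fun {a} ha => ⟨C.inv_mem ha.1, by rw [inv_pow, ha.2, inv_one]⟩ }
  have hmemD : ∀ x : P, x ∈ D ↔ x ∈ C ∧ x ^ e = 1 := fun x => Iff.rfl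
  have hDinv : ∀ β ∈ G, ∀ x ∈ D, β x ∈ D := by
    intro β hβ x hx
    rw [hmemD] at hx ⊢
    exact ⟨hCinv β hβ x hx.1, by rw [← map_pow, hx.2, map_one]⟩
  have hDn : D.Normal := ⟨fun n hn g => hDinv _ (hconj g) n hn⟩
  have hCn : C.Normal := ⟨fun n hn g => hCinv _ (hconj g) n hn⟩
  -- commutators of D with P
  have h4el : ∀ d ∈ D, ∀ g : P, d * g * d⁻¹ * g⁻¹ ∈ D ∧
      ∀ h ∈ D, h * (d * g * d⁻¹ * g⁻¹) = (d * g * d⁻¹ * g⁻¹) * h := by
    intro d hd g
    constructor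
    · have h1 : g * d⁻¹ * g⁻¹ ∈ D := hDn.conj_mem d⁻¹ (D.inv_mem hd) g
      have h2 : d * g * d⁻¹ * g⁻¹ = d * (g * d⁻¹ * g⁻¹) := by simp only [mul_assoc]
      rw [h2]; exact D.mul_mem hd h1
    · intro h hh
      exact (hACc _ (hCg d ((hmemD d).1 hd).1 g) h ((hmemD h).1 hh).1).symm
  -- (5)
  have h5 : ∀ α ∈ G, (orderOf α).Coprime p → (∀ d ∈ D, α d = d) → α = 1 := by
    intro α hα hc hfix
    have hA1 : ∀ a ∈ A, α a = a := by
      apply crit_abelian_fix hP α hc A (fun a ha b hb => hACc a ha b (hAC hb)) (hAinv α hα)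
      intro a ha hap
      exact hfix a ((hmemD a).2 ⟨hAC ha, hpow_e_of_p a hap⟩)
    have hC1 : ∀ x ∈ C, α x = x := by
      intro x hx
      apply crit_fix_elt hP α hc
      apply hfix
      rw [hmemD]
      have hαx : α x ∈ C := hCinv α hα x hx
      refine ⟨C.mul_mem (C.inv_mem hx) hαx, ?_⟩
      rw [hCmul _ (C.inv_mem hx) _ hαx, inv_pow, ← map_pow, hA1 _ (hCA_pow x hx), inv_mul_cancel]
    have hQ1 : ∀ q ∈ Q, α q = q := by
      intro q hq
      apply crit_fix_elt hP α hc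
      apply hA1
      apply hCent _ (Q.mul_mem (Q.inv_mem hq) (hQinv α hα q hq))
      intro c hcC
      have h1 : q * c * q⁻¹ ∈ C := hCn.conj_mem c hcC q
      have h2 := hC1 _ h1
      rw [map_mul, map_mul, map_inv, hC1 c hcC] at h2
      have h3 : α q * c = q * c * q⁻¹ * α q := by rw [← h2]; group
      calc q⁻¹ * α q * c = q⁻¹ * (α q * c) := by rw [mul_assoc]
        _ = q⁻¹ * (q * c * q⁻¹ * α q) := by rw [h3]
        _ = c * (q⁻¹ * α q) := by group
    apply MulEquiv.ext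
    intro x
    rw [MulAut.one_apply]
    apply crit_fix_elt hP α hc
    exact hQ1 _ (hQcomm α hα hc x)
  refine ⟨D, ?_, ?_, ?_, ?_, h5, ?_⟩
  · intro α hα
    apply le_antisymm
    · rintro _ ⟨x, hx, rfl⟩
      exact hDinv α hα x hx
    · intro x hx
      refine ⟨α⁻¹ x, hDinv α⁻¹ (G.inv_mem hα) x hx, ?_⟩
      simp
  · intro x hx
    rw [← hQdef]
    exact hCQ ((hmemD x).1 hx).1
  · intro d hd
    exact he3 d ((hmemD d).1 hd).2
  · rw [Subgroup.commutator_le]
    intro d hd g _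
    rw [commutatorElement_def]
    refine Subgroup.mem_inf.2 ⟨(h4el d hd g).1, ?_⟩
    rw [Subgroup.mem_centralizer_iff]
    exact (h4el d hd g).2
  · intro A' hA'D hA'c hA'max
    have hA'comm : ∀ a ∈ A', ∀ b ∈ A', a * b = b * a := by
      intro a ha b hb
      have h1 := hA'c.is_comm.comm ⟨a, ha⟩ ⟨b, hb⟩
      exact congrArg Subtype.val h1
    have hself : ∀ y ∈ D, (∀ a ∈ A', y * a = a * y) → y ∈ A' := by
      intro y hy hya
      have hB'comm : ∀ s ∈ (A' : Set P) ∪ {y}, ∀ t ∈ (A' : Set P) ∪ {y}, s * t = t * s := by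
        rintro s (hs | hs) t (ht | ht)
        · exact hA'comm s hs t ht
        · rw [Set.mem_singleton_iff] at ht; rw [ht]; exact (hya s hs).symm
        · rw [Set.mem_singleton_iff] at hs; rw [hs]; exact hya t ht
        · rw [Set.mem_singleton_iff] at hs ht; rw [hs, ht]
      have hB'eq := hA'max (Subgroup.closure ((A' : Set P) ∪ {y}))
        (fun a ha => Subgroup.subset_closure (Or.inl ha))
        (by
          rw [Subgroup.closure_le]
          rintro s (hs | hs)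
          · exact hA'D hs
          · rw [Set.mem_singleton_iff] at hs; rw [hs]; exact hy)
        (Subgroup.isMulCommutative_closure hB'comm)
      rw [← hB'eq]
      exact Subgroup.subset_closure (Or.inr rfl)
    have hA'n : A'.Normal := by
      refine ⟨fun a ha g => ?_⟩
      have haD : a ∈ D := hA'D ha
      obtain ⟨h1, h2⟩ := h4el a haD g
      have h3 : (a * g * a⁻¹ * g⁻¹)⁻¹ ∈ A' := by
        apply hself _ (D.inv_mem h1)
        intro b hb
        have h4 := h2 b (hA'D hb)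
        -- b * z = z * b → z⁻¹ * b = b * z⁻¹
        calc (a * g * a⁻¹ * g⁻¹)⁻¹ * b
            = (a * g * a⁻¹ * g⁻¹)⁻¹ * (b * (a * g * a⁻¹ * g⁻¹)) * (a * g * a⁻¹ * g⁻¹)⁻¹ := by group
          _ = (a * g * a⁻¹ * g⁻¹)⁻¹ * ((a * g * a⁻¹ * g⁻¹) * b) * (a * g * a⁻¹ * g⁻¹)⁻¹ := by rw [h4]
          _ = b * (a * g * a⁻¹ * g⁻¹)⁻¹ := by group
      have h5' : g * a * g⁻¹ = (a * g * a⁻¹ * g⁻¹)⁻¹ * a := by group
      rw [h5']
      exact A'.mul_mem h3 ha
    refine ⟨hA'n, ?_⟩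
    intro α hα hfixA
    have hαpos : 0 < orderOf α := orderOf_pos α
    obtain ⟨k, m, hm, hkm⟩ := Nat.exists_eq_pow_mul_and_not_dvd hαpos.ne' p hpp.ne_one
    obtain ⟨β, hβdef⟩ : ∃ β : MulAut P, β = α ^ (p ^ k) := ⟨_, rfl⟩
    have hβG : β ∈ G := by rw [hβdef]; exact G.pow_mem hα _
    have hβm : β ^ m = 1 := by rw [hβdef, ← pow_mul, ← hkm, pow_orderOf_eq_one]
    have hβc : (orderOf β).Coprime p := by
      have h1 : orderOf β ∣ m := orderOf_dvd_of_pow_eq_one hβm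
      have h2 : m.Coprime p := ((Nat.Prime.coprime_iff_not_dvd hpp).2 hm).symm
      exact Nat.Coprime.coprime_dvd_left h1 h2
    have hβfix : ∀ a ∈ A', β a = a := by
      intro a ha
      have h1 : ∀ n : ℕ, (α ^ n) a = a := by
        intro n
        induction n with
        | zero => simp
        | succ n ih => rw [pow_succ', MulAut.mul_apply, ih, hfixA a ha]
      rw [hβdef]
      exact h1 _
    have hβD : ∀ d ∈ D, β d = d := by
      intro d hd
      apply crit_fix_elt hP β hβc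
      apply hβfix
      apply hself _ (D.mul_mem (D.inv_mem hd) (hDinv β hβG d hd))
      intro a ha
      have h1 : d * a * d⁻¹ ∈ A' := hA'n.conj_mem a ha d
      have h2 := hβfix _ h1
      rw [map_mul, map_mul, map_inv, hβfix a ha] at h2
      have h3 : β d * a = d * a * d⁻¹ * β d := by rw [← h2]; group
      calc d⁻¹ * β d * a = d⁻¹ * (β d * a) := by rw [mul_assoc]
        _ = d⁻¹ * (d * a * d⁻¹ * β d) := by rw [h3]
        _ = a * (d⁻¹ * β d) := by group
    have hβ1 : β = 1 := h5 β hβG hβc hβD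
    have hdvd : orderOf α ∣ p ^ k := by
      apply orderOf_dvd_of_pow_eq_one
      rw [← hβdef]; exact hβ1
    obtain ⟨j, _, hj⟩ := (Nat.dvd_prime_pow hpp).1 hdvd
    exact ⟨j, hj⟩

end Cfsg.Agent.helper3
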