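import Mathlib
import Cfsg.Agent.Lib_helper25_AutTwo

/-! Dihedral-like 2-groups: odd-order elements normalizing a subgroup centralize it, unless the
subgroup is a four-group (helper3). -/

set_option autoImplicit false
set_option linter.style.haveILetI false

namespace Cfsg.Agent.helper3

variable {X : Type*} [Group X]

/-- `T` has a cyclic subgroup `R` such that the elements of `T` outside `R` are involutions and
the product of two of them lies in `R`. -/
structure DihLike (T R : Subgroup X) : Prop where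
  cyc : IsCyclic ↥R
  sq : ∀ x ∈ T, x ∉ R → x * x = 1
  mul : ∀ x ∈ T, ∀ y ∈ T, x ∉ R → y ∉ R → x * y ∈ R

theorem DihLike.mono {T R Q : Subgroup X} (h : DihLike T R) (hQ : Q ≤ T) : DihLike Q R :=
  ⟨h.cyc, fun x hx => h.sq x (hQ hx), fun x hx y hy => h.mul x (hQ hx) y (hQ hy)⟩

/-- Iterated conjugation formula. -/
theorem conj_pow_formula {g y : X} {j : ℕ} (h : g * y * g⁻¹ = y ^ j) (m : ℕ) :
    g ^ m * y * (g ^ m)⁻¹ = y ^ (j ^ m) := by
  induction m with
  | zero => simp
  | succ m ih =>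
    have h1 : g ^ (m + 1) * y * (g ^ (m + 1))⁻¹ = g * (g ^ m * y * (g ^ m)⁻¹) * g⁻¹ := by
      rw [pow_succ']; group
    rw [h1, ih]
    have h2 : g * y ^ (j ^ m) * g⁻¹ = (g * y * g⁻¹) ^ (j ^ m) := by
      rw [conj_pow]
    rw [h2, h, ← pow_mul, pow_succ']

/-- An odd-order element normalizing a cyclic `2`-group centralizes it. -/
theorem comm_of_conj_mem_zpowers [Finite X] {g y : X} (hy : ∃ k, orderOf y = 2 ^ k)
    (hg : Odd (orderOf g)) (h : g * y * g⁻¹ ∈ Subgroup.zpowers y) : g * y = y * g := by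
  obtain ⟨k, hk⟩ := hy
  obtain ⟨j, hj⟩ : ∃ j : ℕ, y ^ j = g * y * g⁻¹ := by
    have := (mem_powers_iff_mem_zpowers (x := y)).mpr h
    exact Submonoid.mem_powers_iff _ _ |>.mp this
  have hform := conj_pow_formula hj.symm
  have ht0 : orderOf g ≠ 0 := (orderOf_pos g).ne'
  -- `j ^ t ≡ 1`
  have h1 : y ^ (j ^ orderOf g) = y ^ 1 := by
    rw [← hform (orderOf g), pow_orderOf_eq_one]; simp
  have h2 : j ^ orderOf g ≡ 1 [MOD orderOf y] := pow_eq_pow_iff_modEq.mp h1
  have hcop : j.Coprime (orderOf y) := by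
    have h3 : (j ^ orderOf g).Coprime (orderOf y) := by
      have := h2.gcd_eq
      rw [Nat.gcd_one_left] at this
      exact this
    exact Nat.Coprime.coprime_dvd_left (dvd_pow_self j ht0) h3
  have h4 : j ^ Nat.totient (orderOf y) ≡ 1 [MOD orderOf y] := Nat.ModEq.pow_totient hcop
  have h5 : g ^ Nat.totient (orderOf y) * y * (g ^ Nat.totient (orderOf y))⁻¹ = y := by
    rw [hform, pow_eq_pow_iff_modEq.mpr h4, pow_one]
  -- totient of `2 ^ k` is coprime to the odd order of `g`
  have hcop2 : (Nat.totient (orderOf y)).Coprime (orderOf g) := by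
    rw [hk]
    rcases Nat.eq_zero_or_pos k with rfl | hkpos
    · simp
    · rw [Nat.totient_prime_pow Nat.prime_two hkpos]
      simp only [Nat.add_one_sub_one, mul_one]
      exact Nat.Coprime.pow_left _ (Nat.coprime_two_left.mpr hg)
  obtain ⟨m, hm⟩ := exists_pow_eq_self_of_coprime hcop2
  have h6 : g ^ Nat.totient (orderOf y) * y = y * g ^ Nat.totient (orderOf y) := by
    have := congrArg (· * g ^ Nat.totient (orderOf y)) h5
    simpa [mul_assoc] using this
  have h7 : Commute (g ^ Nat.totient (orderOf y)) y := h6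
  have h8 : Commute ((g ^ Nat.totient (orderOf y)) ^ m) y := h7.pow_left m
  rw [hm] at h8
  exact h8

theorem conj_eq_of_comm {g x : X} (h : g * x = x * g) : g * x * g⁻¹ = x := by
  rw [h, mul_inv_cancel_right]

theorem comm_of_conj_eq {g x : X} (h : g * x * g⁻¹ = x) : g * x = x * g := by
  calc g * x = g * x * g⁻¹ * g := by group
    _ = x * g := by rw [h]

theorem conj_pow_mul {g x w : X} (hgw : Commute g w) (hxw : g * x * g⁻¹ = x * w) (m : ℕ) :
    g ^ m * x * (g ^ m)⁻¹ = x * w ^ m := by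
  induction m with
  | zero => simp
  | succ m ih =>
    have e1 : g ^ (m + 1) * x * (g ^ (m + 1))⁻¹ = g * (g ^ m * x * (g ^ m)⁻¹) * g⁻¹ := by
      rw [pow_succ']; group
    rw [e1, ih]
    have e2 : g * (x * w ^ m) * g⁻¹ = (g * x * g⁻¹) * (g * w ^ m * g⁻¹) := by group
    rw [e2, conj_eq_of_comm (hgw.pow_right m).eq, hxw, mul_assoc, ← pow_succ']

/-- Main lemma: if `Q ∩ R = ⟨y⟩` has an element of order at least `4`, an odd-order element
normalizing `Q` centralizes `Q`. -/
theorem centralizes_of_dihLike [Finite X] {Q R : Subgroup X} (hQR : DihLike Q R)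
    (hQ2 : IsPGroup 2 ↥Q) {g : X} (hg : g ∈ Subgroup.normalizer (Q : Set X))
    (hodd : Odd (orderOf g)) (y : X) (hy : Subgroup.zpowers y = Q ⊓ R) (hy2 : y * y ≠ 1) :
    ∀ x ∈ Q, g * x = x * g := by
  haveI : Fact (Nat.Prime 2) := ⟨Nat.prime_two⟩
  have two_pow : ∀ x ∈ Q, ∃ k, orderOf x = 2 ^ k := by
    intro x hx
    obtain ⟨k, hk⟩ := IsPGroup.iff_orderOf.mp hQ2 ⟨x, hx⟩
    exact ⟨k, by rwa [Subgroup.orderOf_mk] at hk⟩
  have hyQR : y ∈ Q ⊓ R := by rw [← hy]; exact Subgroup.mem_zpowers y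
  have hconj : ∀ x ∈ Q, g * x * g⁻¹ ∈ Q := fun x hx =>
    (Subgroup.mem_normalizer_iff.mp hg x).mp hx
  have h1 : g * y * g⁻¹ ∈ Q := hconj y hyQR.1
  have h2 : g * y * g⁻¹ ∈ R := by
    by_contra hn
    have h := hQR.sq _ h1 hn
    apply hy2
    have e : g * y * g⁻¹ * (g * y * g⁻¹) = g * (y * y) * g⁻¹ := by group
    rw [e] at h
    calc y * y = g⁻¹ * (g * (y * y) * g⁻¹) * g := by group
      _ = 1 := by rw [h]; group
  have h3 : g * y * g⁻¹ ∈ Subgroup.zpowers y := by rw [hy]; exact ⟨h1, h2⟩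
  have hgy : Commute g y := comm_of_conj_mem_zpowers (two_pow y hyQR.1) hodd h3
  have hgz : ∀ w ∈ Q ⊓ R, Commute g w := by
    intro w hw
    rw [← hy] at hw
    obtain ⟨i, rfl⟩ := Subgroup.mem_zpowers_iff.mp hw
    exact hgy.zpow_right i
  intro x hx
  by_cases hxR : x ∈ R
  · exact hgz x ⟨hx, hxR⟩
  · have hx' : g * x * g⁻¹ ∈ Q := hconj x hx
    have hx'R : g * x * g⁻¹ ∉ R := by
      intro hin
      have hc : g * (g * x * g⁻¹) = (g * x * g⁻¹) * g := hgz _ ⟨hx', hin⟩
      have e : g * x * g⁻¹ = x := by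
        calc g * x * g⁻¹ = g⁻¹ * (g * (g * x * g⁻¹)) := by group
          _ = g⁻¹ * ((g * x * g⁻¹) * g) := by rw [hc]
          _ = x := by group
      rw [e] at hin
      exact hxR hin
    have hxx : x * x = 1 := hQR.sq x hx hxR
    have hwR : x * (g * x * g⁻¹) ∈ R := hQR.mul x hx _ hx' hxR hx'R
    have hwQ : x * (g * x * g⁻¹) ∈ Q := Q.mul_mem hx hx'
    have hgw : Commute g (x * (g * x * g⁻¹)) := hgz _ ⟨hwQ, hwR⟩
    have hxw : g * x * g⁻¹ = x * (x * (g * x * g⁻¹)) := by
      rw [← mul_assoc, hxx, one_mul]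
    have hform := conj_pow_mul hgw hxw
    have h5 := hform (orderOf g)
    rw [pow_orderOf_eq_one, one_mul, inv_one, mul_one] at h5
    have h6 : (x * (g * x * g⁻¹)) ^ orderOf g = 1 := by
      have := congrArg (fun z => x⁻¹ * z) h5
      simpa using this.symm
    obtain ⟨k, hk⟩ := two_pow _ hwQ
    have h7 : orderOf (x * (g * x * g⁻¹)) ∣ orderOf g := orderOf_dvd_of_pow_eq_one h6
    have h8 : orderOf (x * (g * x * g⁻¹)) = 1 := by
      rw [hk] at h7 ⊢
      exact Nat.Coprime.eq_one_of_dvd (Nat.Coprime.pow_left _ (Nat.coprime_two_left.mpr hodd)) h7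
    have h9 : x * (g * x * g⁻¹) = 1 := orderOf_eq_one_iff.mp h8
    have h10 : g * x * g⁻¹ = x := by
      rw [hxw, h9, mul_one]
    exact comm_of_conj_eq h10

/-- A cyclic group has at most one involution. -/
theorem involution_unique_of_cyclic [Finite X] {R : Subgroup X} (hR : IsCyclic ↥R) {a b : X}
    (ha : a ∈ R) (hb : b ∈ R) (ha2 : a * a = 1) (hb2 : b * b = 1) (ha1 : a ≠ 1) (hb1 : b ≠ 1) :
    a = b := by
  obtain ⟨r, hr⟩ := (Subgroup.isCyclic_iff_exists_zpowers_eq_top R).mp hR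
  rw [← hr] at ha hb
  exact Cfsg.Agent.helper25.zpowers_unique_involution r a ha b hb
    (by rw [sq]; exact ha2) (by rw [sq]; exact hb2) ha1 hb1

/-- Small case: commuting involutions `t, x, g x g⁻¹` in a dihedral-like group with `g`
centralizing `t` and of odd order: `g` centralizes `x`. -/
theorem centralizes_small [Finite X] {T R : Subgroup X} (hT : DihLike T R) {g t x : X}
    (ht : t ∈ T) (hx : x ∈ T) (hx' : g * x * g⁻¹ ∈ T) (ht1 : t ≠ 1) (htt : t * t = 1)
    (hxx : x * x = 1) (hgt : g * t = t * g) (htx : t * x = x * t)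
    (htx' : t * (g * x * g⁻¹) = (g * x * g⁻¹) * t) (hxx' : x * (g * x * g⁻¹) = (g * x * g⁻¹) * x)
    (hodd : Odd (orderOf g)) : g * x = x * g := by
  by_contra hne
  have hx'x : g * x * g⁻¹ ≠ x := fun h => hne (comm_of_conj_eq h)
  have hx'sq : (g * x * g⁻¹) * (g * x * g⁻¹) = 1 := by
    have e : g * x * g⁻¹ * (g * x * g⁻¹) = g * (x * x) * g⁻¹ := by group
    rw [e, hxx]; group
  have hxt : x ≠ t := by
    rintro rfl
    exact hne hgt
  have hx't : g * x * g⁻¹ ≠ t := by
    intro h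
    apply hxt
    calc x = g⁻¹ * (g * x * g⁻¹) * g := by group
      _ = g⁻¹ * t * g := by rw [h]
      _ = t := by rw [mul_assoc, ← hgt]; group
  have hx1 : x ≠ 1 := by
    rintro rfl
    exact hne (by simp)
  have hx'1 : g * x * g⁻¹ ≠ 1 := by
    intro h
    apply hx1
    calc x = g⁻¹ * (g * x * g⁻¹) * g := by group
      _ = 1 := by rw [h]; group
  -- key: `g x g⁻¹ = x t`
  have key : g * x * g⁻¹ = x * t := by
    have U := fun {a b : X} (ha : a ∈ R) (hb : b ∈ R) (ha2 : a * a = 1) (hb2 : b * b = 1)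
      (ha1 : a ≠ 1) (hb1 : b ≠ 1) => involution_unique_of_cyclic hT.cyc ha hb ha2 hb2 ha1 hb1
    have sq_mul : ∀ {a b : X}, a * a = 1 → b * b = 1 → a * b = b * a → (a * b) * (a * b) = 1 := by
      intro a b ha hb hab
      calc a * b * (a * b) = a * (b * a) * b := by group
        _ = a * (a * b) * b := by rw [hab]
        _ = (a * a) * (b * b) := by group
        _ = 1 := by rw [ha, hb, one_mul]
    have ne_one_of_ne : ∀ {a b : X}, a * a = 1 → a ≠ b → a * b ≠ 1 := by
      intro a b ha hab h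
      apply hab
      calc a = a * (a * b) := by rw [h, mul_one]
        _ = (a * a) * b := by group
        _ = b := by rw [ha, one_mul]
    by_cases htR : t ∈ R
    · by_cases hxR : x ∈ R
      · exact absurd (U hxR htR hxx htt hx1 ht1) hxt
      · by_cases hx'R : g * x * g⁻¹ ∈ R
        · exact absurd (U hx'R htR hx'sq htt hx'1 ht1) hx't
        · have h1 := hT.mul x hx _ hx' hxR hx'R
          have h2 := U h1 htR (sq_mul hxx hx'sq hxx') htt
            (ne_one_of_ne hxx (Ne.symm hx'x)) ht1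
          calc g * x * g⁻¹ = (x * x) * (g * x * g⁻¹) := by rw [hxx, one_mul]
            _ = x * (x * (g * x * g⁻¹)) := by group
            _ = x * t := by rw [h2]
    · by_cases hxR : x ∈ R
      · by_cases hx'R : g * x * g⁻¹ ∈ R
        · exact absurd (U hx'R hxR hx'sq hxx hx'1 hx1) hx'x
        · have h1 := hT.mul t ht _ hx' htR hx'R
          have h2 := U h1 hxR (sq_mul htt hx'sq htx') hxx
            (ne_one_of_ne htt (Ne.symm hx't)) hx1
          calc g * x * g⁻¹ = (t * t) * (g * x * g⁻¹) := by rw [htt, one_mul]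
            _ = t * (t * (g * x * g⁻¹)) := by group
            _ = t * x := by rw [h2]
            _ = x * t := htx
      · have h1 := hT.mul t ht x hx htR hxR
        by_cases hx'R : g * x * g⁻¹ ∈ R
        · have h2 := U h1 hx'R (sq_mul htt hxx htx) hx'sq
            (ne_one_of_ne htt (Ne.symm hxt)) hx'1
          rw [← h2, htx]
        · have h3 := hT.mul t ht _ hx' htR hx'R
          have h4 := U h1 h3 (sq_mul htt hxx htx) (sq_mul htt hx'sq htx')
            (ne_one_of_ne htt (Ne.symm hxt)) (ne_one_of_ne htt (Ne.symm hx't))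
          exact absurd (mul_left_cancel h4).symm hx'x
  -- `g ^ 2` centralizes `x`
  have h2 : g ^ 2 * x * (g ^ 2)⁻¹ = x := by
    have e : g ^ 2 * x * (g ^ 2)⁻¹ = g * (g * x * g⁻¹) * g⁻¹ := by rw [pow_two]; group
    rw [e, key]
    have e2 : g * (x * t) * g⁻¹ = (g * x * g⁻¹) * (g * t * g⁻¹) := by group
    rw [e2, key, conj_eq_of_comm hgt, mul_assoc, htt, mul_one]
  have hcomm2 : Commute (g ^ 2) x := comm_of_conj_eq h2
  obtain ⟨m, hm⟩ := exists_pow_eq_self_of_coprime (Nat.coprime_two_left.mpr hodd)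
  have := hcomm2.pow_left m
  rw [hm] at this
  exact hne this

end Cfsg.Agent.helper3
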