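import Mathlib
import Cfsg.Agent.Lib_helper4_RedI
import Cfsg.Agent.Lib_helper3_QdA

/-!
Groups all of whose `p`-automizers `N(Q)/C(Q)` have no section `SL₂(p)` (helper3).
-/

set_option autoImplicit false

namespace Cfsg.Agent.helper3

open Cfsg Cfsg.Agent.helper4.Red

section free

variable {p : ℕ} [hp : Fact p.Prime]

/-- No automizer `N_X(Q)/C_X(Q)` of a `p`-subgroup has a section `SL₂(p)`. -/
def FreeAut (p : ℕ) [Fact p.Prime] (X : Type*) [Group X] : Prop :=
  ∀ Q : Subgroup X, IsPGroup p Q →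
    ¬ HasSec p (↥(Subgroup.normalizer (Q : Set X)) ⧸
      (Subgroup.centralizer (Q : Set X)).subgroupOf (Subgroup.normalizer (Q : Set X)))

theorem freeAut_subgroup {X : Type*} [Group X] (H : Subgroup X) (h : FreeAut p X) :
    FreeAut p ↥H := by
  intro Q' hQ' hsec
  have hQp : IsPGroup p ↥(Q'.map H.subtype) := hQ'.map _
  apply h _ hQp
  -- the map on normalizers
  have hN : ∀ x : ↥(Subgroup.normalizer (Q' : Set ↥H)),
      ((x : ↥H) : X) ∈ Subgroup.normalizer ((Q'.map H.subtype : Subgroup X) : Set X) :=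
    fun x => Subgroup.le_normalizer_map H.subtype ⟨x, x.2, rfl⟩
  let f : ↥(Subgroup.normalizer (Q' : Set ↥H)) →*
      ↥(Subgroup.normalizer ((Q'.map H.subtype : Subgroup X) : Set X)) :=
    (H.subtype.comp (Subgroup.normalizer (Q' : Set ↥H)).subtype).codRestrict _ hN
  have hf : ∀ x, ((f x : ↥(Subgroup.normalizer ((Q'.map H.subtype : Subgroup X) : Set X))) : X) =
      ((x : ↥H) : X) := fun x => rfl
  have hle : (Subgroup.centralizer (Q' : Set ↥H)).subgroupOf (Subgroup.normalizer (Q' : Set ↥H)) ≤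
      ((Subgroup.centralizer ((Q'.map H.subtype : Subgroup X) : Set X)).subgroupOf
        (Subgroup.normalizer ((Q'.map H.subtype : Subgroup X) : Set X))).comap f := by
    intro x hx
    rw [Subgroup.mem_comap, Subgroup.mem_subgroupOf, hf, Subgroup.mem_centralizer_iff]
    rw [Subgroup.mem_subgroupOf, Subgroup.mem_centralizer_iff] at hx
    rintro _ ⟨q, hq, rfl⟩
    have := hx q hq
    exact congrArg Subtype.val this
  let ι := QuotientGroup.map _ _ f hle
  refine hsec.of_injective ι ?_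
  rw [injective_iff_map_eq_one]
  intro y hy
  obtain ⟨x, rfl⟩ := QuotientGroup.mk_surjective y
  have h1 : ι (QuotientGroup.mk x) = QuotientGroup.mk (f x) := rfl
  rw [h1, QuotientGroup.eq_one_iff, Subgroup.mem_subgroupOf, hf, Subgroup.mem_centralizer_iff] at hy
  rw [QuotientGroup.eq_one_iff, Subgroup.mem_subgroupOf, Subgroup.mem_centralizer_iff]
  intro q hq
  apply Subtype.ext
  have := hy _ ⟨q, hq, rfl⟩
  simpa using this

theorem freeAut_quotient {X : Type*} [Group X] [Finite X] (N : Subgroup X) [N.Normal]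
    (h : FreeAut p X) : FreeAut p (X ⧸ N) := by
  intro Qb hQb hsec
  obtain ⟨P₁, hP₁p, hmap, hnorm⟩ := exists_lift_pSubgroup (QuotientGroup.mk' N)
    (QuotientGroup.mk'_surjective N) Qb hQb
  apply h P₁ hP₁p
  have hN : ∀ x : ↥(Subgroup.normalizer (P₁ : Set X)),
      (QuotientGroup.mk' N) (x : X) ∈ Subgroup.normalizer ((Qb : Subgroup (X ⧸ N)) : Set (X ⧸ N)) := by
    intro x
    rw [← hnorm]
    exact ⟨x, x.2, rfl⟩
  let f : ↥(Subgroup.normalizer (P₁ : Set X)) →*
      ↥(Subgroup.normalizer ((Qb : Subgroup (X ⧸ N)) : Set (X ⧸ N))) :=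
    ((QuotientGroup.mk' N).comp (Subgroup.normalizer (P₁ : Set X)).subtype).codRestrict _ hN
  have hf : ∀ x, ((f x : ↥(Subgroup.normalizer ((Qb : Subgroup (X ⧸ N)) : Set (X ⧸ N)))) : X ⧸ N) =
      (QuotientGroup.mk' N) (x : X) := fun x => rfl
  have hfsurj : Function.Surjective f := by
    rintro ⟨y, hy⟩
    rw [← hnorm] at hy
    obtain ⟨x, hx, rfl⟩ := hy
    exact ⟨⟨x, hx⟩, rfl⟩
  have hle : (Subgroup.centralizer (P₁ : Set X)).subgroupOf (Subgroup.normalizer (P₁ : Set X)) ≤
      ((Subgroup.centralizer ((Qb : Subgroup (X ⧸ N)) : Set (X ⧸ N))).subgroupOf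
        (Subgroup.normalizer ((Qb : Subgroup (X ⧸ N)) : Set (X ⧸ N)))).comap f := by
    intro x hx
    rw [Subgroup.mem_comap, Subgroup.mem_subgroupOf, hf, Subgroup.mem_centralizer_iff]
    rw [Subgroup.mem_subgroupOf, Subgroup.mem_centralizer_iff] at hx
    intro q hq
    rw [← hmap] at hq
    obtain ⟨q₀, hq₀, rfl⟩ := hq
    have := hx q₀ hq₀
    rw [← map_mul, ← map_mul, this]
  let π := QuotientGroup.map _ _ f hle
  refine hsec.of_surjective π ?_
  intro y
  obtain ⟨x, rfl⟩ := QuotientGroup.mk_surjective y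
  obtain ⟨x₀, rfl⟩ := hfsurj x
  exact ⟨QuotientGroup.mk x₀, rfl⟩

/-- **`p`-stability from the automizer.** If `g ∈ N(P)` acts quadratically on the `p`-subgroup `P`
and its image is not in `O_p(N(P)/C(P))`, then `N(P)/C(P)` has a section `SL₂(p)`. -/
theorem hasSec_automizer_of_not_pstable {G : Type*} [Group G] [Finite G] (hp2 : p ≠ 2)
    (P : Subgroup G) (hP : IsPGroup p P) (g : G) (hg : g ∈ Subgroup.normalizer (P : Set G))
    (hq : ⁅⁅P, Subgroup.zpowers g⁆, Subgroup.zpowers g⁆ = ⊥)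
    (hns : (QuotientGroup.mk (s := (Subgroup.centralizer (P : Set G)).subgroupOf
        (Subgroup.normalizer (P : Set G))) (⟨g, hg⟩ : ↥(Subgroup.normalizer (P : Set G)))) ∉
      Cfsg.pCore p (↥(Subgroup.normalizer (P : Set G)) ⧸
        (Subgroup.centralizer (P : Set G)).subgroupOf (Subgroup.normalizer (P : Set G)))) :
    HasSec p (↥(Subgroup.normalizer (P : Set G)) ⧸
        (Subgroup.centralizer (P : Set G)).subgroupOf (Subgroup.normalizer (P : Set G))) := by
  have hpp : p.Prime := Fact.out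
  have hPN : P ≤ Subgroup.normalizer (P : Set G) := Subgroup.le_normalizer
  -- the normal subgroup Pn of N
  set Pn : Subgroup ↥(Subgroup.normalizer (P : Set G)) :=
    P.subgroupOf (Subgroup.normalizer (P : Set G)) with hPn
  haveI hPnn : Pn.Normal := Subgroup.normal_in_normalizer
  have hPnp : IsPGroup p Pn := hP.comap_of_injective _ (Subgroup.subtype_injective _)
  set Φ : Subgroup ↥(Subgroup.normalizer (P : Set G)) := (frattini ↥Pn).map Pn.subtype with hΦ
  haveI hΦn : Φ.Normal := by rw [hΦ]; infer_instance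
  set V₂ : Subgroup (↥(Subgroup.normalizer (P : Set G)) ⧸ Φ) := Pn.map (QuotientGroup.mk' Φ)
    with hV₂
  haveI hV₂n : V₂.Normal := Subgroup.Normal.map hPnn _ (QuotientGroup.mk'_surjective Φ)
  have hV₂ea : Cfsg.IsElementaryAbelian p V₂ := isElementaryAbelian_frattini_quotient Pn hPnp
  haveI : Fact (Cfsg.IsElementaryAbelian p V₂) := ⟨hV₂ea⟩
  set ρ₀ : ↥(Subgroup.normalizer (P : Set G)) →* Module.End (ZMod p) (EA p V₂) :=
    (conjRepN p V₂).comp (QuotientGroup.mk' Φ) with hρ₀
  -- quadratic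
  have hq1 : ⁅⁅Pn, Subgroup.zpowers (⟨g, hg⟩ : ↥(Subgroup.normalizer (P : Set G)))⁆,
      Subgroup.zpowers (⟨g, hg⟩ : ↥(Subgroup.normalizer (P : Set G)))⁆ = ⊥ := by
    apply Subgroup.map_injective (Subgroup.subtype_injective (Subgroup.normalizer (P : Set G)))
    rw [Subgroup.map_commutator, Subgroup.map_commutator, MonoidHom.map_zpowers, hPn,
      Subgroup.subgroupOf_map_subtype, inf_eq_left.mpr hPN, Subgroup.map_bot]
    exact hq
  have hq2 : ⁅⁅V₂, Subgroup.zpowers (QuotientGroup.mk' Φ ⟨g, hg⟩)⁆,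
      Subgroup.zpowers (QuotientGroup.mk' Φ ⟨g, hg⟩)⁆ = ⊥ := by
    rw [hV₂, ← MonoidHom.map_zpowers, ← Subgroup.map_commutator, ← Subgroup.map_commutator, hq1,
      Subgroup.map_bot]
  have ha2 : (ρ₀ ⟨g, hg⟩ - 1) * (ρ₀ ⟨g, hg⟩ - 1) = 0 := conjRepN_quadratic V₂ _ hq2
  -- the kernel consists of p-elements modulo the centralizer
  have hker : ∀ x : ↥(Subgroup.normalizer (P : Set G)), ρ₀ x = 1 →
      ∃ j : ℕ, (QuotientGroup.mk' ((Subgroup.centralizer (P : Set G)).subgroupOf
        (Subgroup.normalizer (P : Set G))) x) ^ p ^ j = 1 := by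
    intro x hx
    -- step A
    have hA : ∀ (k : ℕ) (u : Pn), x ^ k * (u : ↥(Subgroup.normalizer (P : Set G))) * (x ^ k)⁻¹ *
        (u : ↥(Subgroup.normalizer (P : Set G)))⁻¹ ∈ Φ := by
      intro k u
      have h1 : ρ₀ (x ^ k) = 1 := by rw [map_pow, hx, one_pow]
      have hu : QuotientGroup.mk' Φ (u : ↥(Subgroup.normalizer (P : Set G))) ∈ V₂ :=
        Subgroup.mem_map_of_mem _ u.2
      have h2 := congrArg (fun f => ((f (EA.mk ⟨_, hu⟩ : EA p V₂)).val :
        ↥(Subgroup.normalizer (P : Set G)) ⧸ Φ)) h1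
      simp only [hρ₀, MonoidHom.comp_apply, conjRepN_val, EA.val_mk, Module.End.one_apply] at h2
      rw [← QuotientGroup.eq_one_iff]
      have h3 : QuotientGroup.mk' Φ (x ^ k * (u : ↥(Subgroup.normalizer (P : Set G))) * (x ^ k)⁻¹ *
          (u : ↥(Subgroup.normalizer (P : Set G)))⁻¹) = 1 := by
        rw [map_mul, map_mul, map_inv, map_mul, map_inv, h2, mul_inv_cancel]
      exact h3
    -- step B
    set α : MulAut Pn := MulAut.conjNormal x with hα
    have hB : ∀ β ∈ Subgroup.zpowers α, ∀ u : Pn, β u * u⁻¹ ∈ frattini ↥Pn := by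
      intro β hβ u
      rw [← mem_powers_iff_mem_zpowers] at hβ
      obtain ⟨k, rfl⟩ := hβ
      rw [← Subgroup.mem_map_iff_mem Pn.subtype_injective, ← hΦ]
      have : Pn.subtype ((α ^ k) u * u⁻¹) = x ^ k * (u : ↥(Subgroup.normalizer (P : Set G))) *
          (x ^ k)⁻¹ * (u : ↥(Subgroup.normalizer (P : Set G)))⁻¹ := by
        have e : (MulAut.conjNormal x : MulAut Pn) ^ k = MulAut.conjNormal (x ^ k) :=
          (map_pow _ _ _).symm
        rw [hα, e, map_mul, map_inv]
        show ((MulAut.conjNormal (x ^ k) u : Pn) : ↥(Subgroup.normalizer (P : Set G))) * _ = _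
        rw [MulAut.conjNormal_apply]
        rfl
      rw [this]
      exact hA k u
    -- step C
    obtain ⟨n, hn⟩ := IsPGroup.iff_card.mp hPnp
    have hdvd : (frattini ↥Pn).index ∣ p ^ n := by
      rw [← hn]; exact Subgroup.index_dvd_card _
    obtain ⟨r, -, hr⟩ := (Nat.dvd_prime_pow hpp).mp hdvd
    have hcard := Cfsg.Agent.helper21.card_dvd_of_fix_frattini hn hr (Subgroup.zpowers α) hB
    rw [Nat.card_zpowers] at hcard
    have hpow : α ^ p ^ (r * (n - r)) = 1 := orderOf_dvd_iff_pow_eq_one.mp hcard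
    refine ⟨r * (n - r), ?_⟩
    rw [← map_pow]
    apply (QuotientGroup.eq_one_iff _).mpr
    rw [Subgroup.mem_subgroupOf, Subgroup.mem_centralizer_iff]
    intro v hv
    have h1 := congrArg (fun f : MulAut Pn => ((f ⟨⟨v, hPN hv⟩, hv⟩ : Pn) :
      ↥(Subgroup.normalizer (P : Set G)))) hpow
    have e : (MulAut.conjNormal x : MulAut Pn) ^ p ^ (r * (n - r)) =
        MulAut.conjNormal (x ^ p ^ (r * (n - r))) := (map_pow _ _ _).symm
    rw [hα, e] at h1
    simp only [MulAut.conjNormal_apply, MulAut.one_apply] at h1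
    have h2 := congrArg Subtype.val h1
    simp only [Subgroup.coe_mul, Subgroup.coe_inv, Subgroup.coe_pow] at h2 ⊢
    calc v * (x : G) ^ p ^ (r * (n - r))
        = ((x : G) ^ p ^ (r * (n - r)) * v * ((x : G) ^ p ^ (r * (n - r)))⁻¹) *
          (x : G) ^ p ^ (r * (n - r)) := by rw [h2]
      _ = (x : G) ^ p ^ (r * (n - r)) * v := by group
  -- the centralizer acts trivially
  have hCtriv : ∀ x ∈ (Subgroup.centralizer (P : Set G)).subgroupOf
      (Subgroup.normalizer (P : Set G)), ρ₀ x = 1 := by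
    intro x hx
    rw [Subgroup.mem_subgroupOf, Subgroup.mem_centralizer_iff] at hx
    ext y
    apply EA.ext
    apply Subtype.ext
    simp only [hρ₀, MonoidHom.comp_apply, conjRepN_val, Module.End.one_apply]
    obtain ⟨u, hu, huy⟩ := y.val.2
    rw [← huy, ← map_inv, ← map_mul, ← map_mul]
    congr 1
    apply Subtype.ext
    have h1 := hx (u : G) (Subgroup.mem_subgroupOf.mp hu)
    simp only [Subgroup.coe_mul, Subgroup.coe_inv]
    rw [← h1]; group
  set ρ₁ : (↥(Subgroup.normalizer (P : Set G)) ⧸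
      (Subgroup.centralizer (P : Set G)).subgroupOf (Subgroup.normalizer (P : Set G))) →*
      Module.End (ZMod p) (EA p V₂) := QuotientGroup.lift _ ρ₀ hCtriv with hρ₁
  have hρ₁mk : ∀ x, ρ₁ (QuotientGroup.mk x) = ρ₀ x := fun x => rfl
  refine hasSec_of_rep hp2 ρ₁ (MonoidHom.id _) (fun y => ⟨y, rfl⟩) ?_
    (QuotientGroup.mk ⟨g, hg⟩) ?_ hns
  · intro y hy
    obtain ⟨x, rfl⟩ := QuotientGroup.mk_surjective y
    rw [hρ₁mk] at hy
    exact hker x hy
  · rw [hρ₁mk]; exact ha2

/-- Groups with `SL₂(p)`-free automizers are `p`-stable in the normalizer form. -/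
theorem isNormalizerPStable_of_freeAut {G : Type*} [Group G] [Finite G] (hp2 : p ≠ 2)
    (h : FreeAut p G) : Cfsg.IsNormalizerPStable p G := by
  intro P hP g hg hq
  by_contra hns
  exact h P hP (hasSec_automizer_of_not_pstable hp2 P hP g hg hq hns)

end free

end Cfsg.Agent.helper3
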