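import Mathlib
import Cfsg.Statements.S1961
import Cfsg.Agent.Lib_helper10_Control

set_option autoImplicit false
open Cfsg

namespace Cfsg.Agent.S1961

open Cfsg.Agent.helper10

theorem result {G : Type*} [Group G] [Finite G] {p : ℕ} [Fact p.Prime] (S : Sylow p G) (W : Subgroup G → Subgroup G) (hW : Cfsg.IsConjugacyFunctor p W) (hloc : ∀ T : Subgroup G, T ≠ ⊥ → Cfsg.IsWellPlaced p W (S : Subgroup G) T → Cfsg.ControlsStrongFusionIn p W (Subgroup.normalizer ((T : Subgroup G) : Set G))) : Cfsg.ControlsStrongFusionIn p W ⊤ := by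
  have hS : IsPGroup p (S : Subgroup G) := S.isPGroup'
  refine ⟨S, le_top, hS, ?_, ?_⟩
  · rw [Subgroup.relIndex_top_right]; exact S.not_dvd_index
  · intro A h _ hAS hAh
    have hchain := alperin_chain S {T : Subgroup G | Cfsg.IsWellPlaced p W (S : Subgroup G) T}
      (fun U hU => hU.1) (fun T hT => by
        obtain ⟨g, hg⟩ := exists_isWellPlaced_conj S hW T hT
        exact ⟨_, hg, ⟨g, rfl⟩, hg.2 0⟩)
    have h1 : Subgroup.closure A ≤ (S : Subgroup G) := (Subgroup.closure_le _).mpr hAS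
    have h2 : rconj ((Subgroup.closure A : Subgroup G) : Set G) h⁻¹ ⊆ (S : Subgroup G) := by
      rw [rconj_coe, SetLike.coe_subset_coe, MonoidHom.map_closure, Subgroup.closure_le]
      rintro _ ⟨a, ha, rfl⟩
      apply hAh
      exact ⟨a, ha, by simp [MulAut.conj_apply]⟩
    obtain ⟨l, hl1, hl2, hl3⟩ := hchain _ (Subgroup.closure A) h⁻¹ rfl h1 h2
    obtain ⟨y, hy, hyB⟩ := chain_control
      (𝓕 := {T : Subgroup G | Cfsg.IsWellPlaced p W (S : Subgroup G) T})
      (N := Subgroup.normalizer ((W (S : Subgroup G) : Subgroup G) : Set G))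
      (fun T hT x hx => wellPlaced_control S hW hloc T hT x hx) l _ hl2 hl3
    refine ⟨y⁻¹, Subgroup.mem_inf.mpr ⟨Subgroup.mem_top _, Subgroup.inv_mem _ hy⟩, ?_⟩
    intro a ha
    have h3 := hyB a (Subgroup.subset_closure ha)
    rw [hl1] at h3
    rw [inv_inv] at h3 ⊢
    exact h3

end Cfsg.Agent.S1961
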