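import Mathlib
import Cfsg.Agent.Lib_helper3_ThompsonD
import Cfsg.Agent.Lib_helper10_Sec3
import Cfsg.Agent.Lib_helper10_Control
import Cfsg.Agent.S1961
import Cfsg.Agent.S0632

/-! Control of strong fusion by `N(Z(J(D)))` for a strongly closed subgroup `D` in `p`-stable
groups with `p`-constrained `p`-locals (helper3). -/

set_option autoImplicit false

namespace Cfsg.Agent.helper3

open Cfsg
open scoped commutatorElement

universe u

section pstab

/-- Membership in `O_p` of a quotient, transported back along a homomorphism. -/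
theorem mk_mem_pCore_of_hom {A B' : Type*} [Group A] [Group B'] {p : ℕ} (C : Subgroup A)
    [C.Normal] (f : A →* B') (hC : ∀ x, f x = 1 → x ∈ C) (x : A)
    (hx : f x ∈ Cfsg.pCore p B') :
    (QuotientGroup.mk' C x) ∈ Cfsg.pCore p (A ⧸ C) := by
  haveI := Cfsg.Agent.helper1.pCore_normal (G := B') p
  have hLn : ((Cfsg.pCore p B').comap f).Normal := Subgroup.Normal.comap inferInstance f
  have hMn : (((Cfsg.pCore p B').comap f).map (QuotientGroup.mk' C)).Normal :=
    hLn.map _ (QuotientGroup.mk'_surjective C)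
  have hMp : IsPGroup p ↥(((Cfsg.pCore p B').comap f).map (QuotientGroup.mk' C)) := by
    rintro ⟨_, y, hy, rfl⟩
    obtain ⟨n, hn⟩ := (Cfsg.Agent.helper1.pCore_isPGroup (G := B') p) ⟨f y, hy⟩
    have hn' : (f y) ^ p ^ n = 1 := by
      have := congrArg Subtype.val hn
      simpa using this
    refine ⟨n, Subtype.ext ?_⟩
    show (QuotientGroup.mk' C y) ^ p ^ n = 1
    rw [← map_pow, QuotientGroup.mk'_apply, QuotientGroup.eq_one_iff]
    apply hC
    rw [map_pow]; exact hn'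
  exact Cfsg.Agent.helper1.le_pCore hMn hMp ⟨x, hx, rfl⟩

/-- `p`-stability in the normalizer form passes to subgroups. -/
theorem isNormalizerPStable_subgroup {G : Type*} [Group G] {p : ℕ} (H : Subgroup G)
    (h : Cfsg.IsNormalizerPStable p G) : Cfsg.IsNormalizerPStable p ↥H := by
  intro Q' hQ' g' hg' hq'
  have hQp : IsPGroup p ↥(Q'.map H.subtype) := hQ'.map _
  have hgN : (g' : G) ∈ Subgroup.normalizer ((Q'.map H.subtype : Subgroup G) : Set G) :=
    Subgroup.le_normalizer_map H.subtype ⟨g', hg', rfl⟩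
  have hq : ⁅⁅Q'.map H.subtype, Subgroup.zpowers (g' : G)⁆, Subgroup.zpowers (g' : G)⁆ = ⊥ := by
    have h0 := congrArg (Subgroup.map H.subtype) hq'
    rw [Subgroup.map_commutator, Subgroup.map_commutator, MonoidHom.map_zpowers,
      Subgroup.map_bot] at h0
    exact h0
  have h1 := h (Q'.map H.subtype) hQp (g' : G) hgN hq
  let ι : ↥(Subgroup.normalizer (Q' : Set ↥H)) →*
      ↥(Subgroup.normalizer ((Q'.map H.subtype : Subgroup G) : Set G)) :=
    (H.subtype.comp (Subgroup.normalizer (Q' : Set ↥H)).subtype).codRestrict _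
      (fun x => Subgroup.le_normalizer_map H.subtype ⟨x, x.2, rfl⟩)
  apply mk_mem_pCore_of_hom _ ((QuotientGroup.mk'
    ((Subgroup.centralizer ((Q'.map H.subtype : Subgroup G) : Set G)).subgroupOf
      (Subgroup.normalizer ((Q'.map H.subtype : Subgroup G) : Set G)))).comp ι) ?_ ⟨g', hg'⟩ h1
  intro x hx
  have hx1 : ι x ∈ (Subgroup.centralizer ((Q'.map H.subtype : Subgroup G) : Set G)).subgroupOf
      (Subgroup.normalizer ((Q'.map H.subtype : Subgroup G) : Set G)) := by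
    rw [← QuotientGroup.eq_one_iff]; exact hx
  rw [Subgroup.mem_subgroupOf, Subgroup.mem_centralizer_iff] at hx1
  rw [Subgroup.mem_subgroupOf, Subgroup.mem_centralizer_iff]
  intro q' hq'
  apply Subtype.ext
  exact hx1 (q' : G) ⟨q', hq', rfl⟩

/-- `p`-stability (normalizer form) gives `p`-stability on normal `p`-subgroups of
`Y/O_{p'}(Y)` for elements of a Sylow subgroup. -/
theorem hst_quotient_pPrimeCore {Y : Type*} [Group Y] [Finite Y] {p : ℕ} [hp : Fact p.Prime]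
    (hst : Cfsg.IsNormalizerPStable p Y) (S : Sylow p Y) :
    ∀ (Vb : Subgroup (Y ⧸ Cfsg.pPrimeCore p Y)) [Vb.Normal], IsPGroup p Vb →
      ∀ ab ∈ (S : Subgroup Y).map (QuotientGroup.mk' (Cfsg.pPrimeCore p Y)),
      ⁅⁅Vb, Subgroup.zpowers ab⁆, Subgroup.zpowers ab⁆ = ⊥ →
      (QuotientGroup.mk ab :
        (Y ⧸ Cfsg.pPrimeCore p Y) ⧸ Subgroup.centralizer (Vb : Set (Y ⧸ Cfsg.pPrimeCore p Y))) ∈
        Cfsg.pCore p ((Y ⧸ Cfsg.pPrimeCore p Y) ⧸
          Subgroup.centralizer (Vb : Set (Y ⧸ Cfsg.pPrimeCore p Y))) := by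
  intro Vb hVbn hVb ab hab hq
  obtain ⟨a, haS, rfl⟩ := hab
  have hKcop : (Nat.card ↥(Cfsg.pPrimeCore p Y)).Coprime p :=
    Cfsg.Agent.helper1.pPrimeCore_coprime p
  have hπs : Function.Surjective (QuotientGroup.mk' (Cfsg.pPrimeCore p Y)) :=
    QuotientGroup.mk'_surjective _
  have hmeet : ∀ x, x ∈ (S : Subgroup Y) → x ∈ Cfsg.pPrimeCore p Y → x = 1 := fun x hxS hxK =>
    Cfsg.Agent.helper10.eq_one_of_mem_of_coprime (S : Subgroup Y) (Cfsg.pPrimeCore p Y)
      S.isPGroup' hKcop x hxS hxK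
  have hker : ∀ x : Y, (QuotientGroup.mk' (Cfsg.pPrimeCore p Y)) x = 1 →
      x ∈ Cfsg.pPrimeCore p Y := fun x hx => (QuotientGroup.eq_one_iff x).1 hx
  have hVbS : Vb ≤ (S : Subgroup Y).map (QuotientGroup.mk' (Cfsg.pPrimeCore p Y)) :=
    (Cfsg.Agent.helper1.le_pCore hVbn hVb).trans
      (Cfsg.Agent.helper1.pCore_le_sylow (S.mapSurjective hπs))
  set P₁ : Subgroup Y :=
    (S : Subgroup Y) ⊓ Vb.comap (QuotientGroup.mk' (Cfsg.pPrimeCore p Y)) with hP₁
  have hP₁map : Vb = P₁.map (QuotientGroup.mk' (Cfsg.pPrimeCore p Y)) := by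
    apply le_antisymm
    · intro x hx
      obtain ⟨s, hs, rfl⟩ := hVbS hx
      exact ⟨s, ⟨hs, hx⟩, rfl⟩
    · rintro _ ⟨s, ⟨_, hs⟩, rfl⟩
      exact hs
  have hP₁p : IsPGroup p P₁ := S.isPGroup'.to_le inf_le_left
  have hconj : ∀ s ∈ (S : Subgroup Y), ∀ x ∈ P₁, s * x * s⁻¹ ∈ P₁ := by
    intro s hs x hx
    refine ⟨(S : Subgroup Y).mul_mem ((S : Subgroup Y).mul_mem hs hx.1)
      ((S : Subgroup Y).inv_mem hs), ?_⟩
    show (QuotientGroup.mk' (Cfsg.pPrimeCore p Y)) (s * x * s⁻¹) ∈ Vb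
    rw [map_mul, map_mul, map_inv]
    exact hVbn.conj_mem _ hx.2 _
  have hSN : (S : Subgroup Y) ≤ Subgroup.normalizer (P₁ : Set Y) := by
    intro s hs
    rw [Subgroup.mem_normalizer_iff]
    intro x
    constructor
    · intro hx
      exact hconj s hs x hx
    · intro hx
      have := hconj s⁻¹ ((S : Subgroup Y).inv_mem hs) _ hx
      simpa [mul_assoc] using this
  have haN : a ∈ Subgroup.normalizer (P₁ : Set Y) := hSN haS
  have hA₁N : Subgroup.zpowers a ≤ Subgroup.normalizer (P₁ : Set Y) :=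
    Subgroup.zpowers_le.2 haN
  have hA₁S : Subgroup.zpowers a ≤ (S : Subgroup Y) := Subgroup.zpowers_le.2 haS
  have hcomm₁ : ⁅⁅P₁, Subgroup.zpowers a⁆, Subgroup.zpowers a⁆ = ⊥ := by
    have h1 : (⁅⁅P₁, Subgroup.zpowers a⁆, Subgroup.zpowers a⁆).map
        (QuotientGroup.mk' (Cfsg.pPrimeCore p Y)) = ⊥ := by
      rw [Subgroup.map_commutator, Subgroup.map_commutator, ← hP₁map, MonoidHom.map_zpowers, hq]
    have h3 : ⁅⁅P₁, Subgroup.zpowers a⁆, Subgroup.zpowers a⁆ ≤ (S : Subgroup Y) :=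
      Cfsg.Agent.S0632.comm_le_of_le (Cfsg.Agent.S0632.comm_le_of_le inf_le_left hA₁S) hA₁S
    rw [eq_bot_iff]
    intro x hx
    rw [Subgroup.mem_bot]
    apply hmeet x (h3 hx)
    apply hker
    have : (QuotientGroup.mk' (Cfsg.pPrimeCore p Y)) x ∈ (⊥ : Subgroup _) := by
      rw [← h1]; exact ⟨x, hx, rfl⟩
    rwa [Subgroup.mem_bot] at this
  have hcomapN : (Vb.comap (QuotientGroup.mk' (Cfsg.pPrimeCore p Y))).Normal := hVbn.comap _
  have hsurj : Subgroup.normalizer (P₁ : Set Y) ⊔ Cfsg.pPrimeCore p Y = ⊤ := by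
    have hKP₁ : Cfsg.pPrimeCore p Y ⊔ P₁ =
        Vb.comap (QuotientGroup.mk' (Cfsg.pPrimeCore p Y)) := by
      rw [hP₁map, Subgroup.comap_map_eq, QuotientGroup.ker_mk', sup_comm]
    have h1 := Cfsg.Agent.helper19.frattini_inf S
      (Vb.comap (QuotientGroup.mk' (Cfsg.pPrimeCore p Y)))
    rw [← hP₁, ← hKP₁] at h1
    rw [eq_top_iff, ← h1]
    refine sup_le le_sup_left (sup_le le_sup_right ?_)
    exact (Subgroup.le_normalizer).trans le_sup_left
  have key := hst P₁ hP₁p a haN hcomm₁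
  have key' : ((Subgroup.zpowers a).subgroupOf (Subgroup.normalizer (P₁ : Set Y))).map
      (QuotientGroup.mk' ((Subgroup.centralizer (P₁ : Set Y)).subgroupOf
        (Subgroup.normalizer (P₁ : Set Y)))) ≤ Cfsg.pCore p _ := by
    rintro _ ⟨⟨y, hyN⟩, hy, rfl⟩
    rw [SetLike.mem_coe, Subgroup.mem_subgroupOf] at hy
    obtain ⟨k, rfl⟩ := hy
    have : (⟨a ^ k, hyN⟩ : ↥(Subgroup.normalizer (P₁ : Set Y))) = ⟨a, haN⟩ ^ k := by
      apply Subtype.ext; simp
    rw [this, map_zpow]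
    exact Subgroup.zpow_mem _ key k
  have h2 := transport_down (Cfsg.pPrimeCore p Y) p P₁ (Subgroup.zpowers a) hA₁N hsurj key'
    Vb (Subgroup.zpowers ((QuotientGroup.mk' (Cfsg.pPrimeCore p Y)) a)) hP₁map
    (by rw [MonoidHom.map_zpowers])
  have h3 := map_le_pCore_of_normal p Vb _ h2
  exact h3 ⟨_, Subgroup.mem_zpowers _, rfl⟩

end pstab

section localControl

open Cfsg.Agent.helper10

variable {Y : Type u} [Group Y] [Finite Y] {p : ℕ} [hp : Fact p.Prime]
  {𝔉 : ∀ (X : Type u) [Group X], Subgroup X → Set (Subgroup X)}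

/-- The local step: in a `p`-stable `p`-constrained group, `N(Z(J(D)))` controls strong fusion in
a Sylow `p`-subgroup, `D` strongly closed. -/
theorem local_control (hp2 : p ≠ 2) (h𝔉 : DScheme p 𝔉) (hst : Cfsg.IsNormalizerPStable p Y)
    (hcon : Cfsg.IsPConstrained p Y) (S : Sylow p Y) (D : Subgroup Y)
    (hD : Cfsg.IsStronglyClosed D (S : Subgroup Y)) (B : Set Y)
    (hB : B ⊆ ((S : Subgroup Y) : Set Y)) (e : Y)
    (heB : lconj e B ⊆ ((S : Subgroup Y) : Set Y)) :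
    ∃ d ∈ Subgroup.normalizer ((zjI (𝔉 Y) D : Subgroup Y) : Set Y),
      ∀ b ∈ B, d * b * d⁻¹ = e * b * e⁻¹ := by
  have hKcop : (Nat.card ↥(Cfsg.pPrimeCore p Y)).Coprime p :=
    Cfsg.Agent.helper1.pPrimeCore_coprime p
  have hπs : Function.Surjective (QuotientGroup.mk' (Cfsg.pPrimeCore p Y)) :=
    QuotientGroup.mk'_surjective _
  have hcb := centralizer_pCore_quotient_le hcon
  have hfam := h𝔉.fam Y
  have hDb : Cfsg.IsStronglyClosed (D.map (QuotientGroup.mk' (Cfsg.pPrimeCore p Y)))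
      ((S.mapSurjective hπs : Sylow p (Y ⧸ Cfsg.pPrimeCore p Y)) :
        Subgroup (Y ⧸ Cfsg.pPrimeCore p Y)) := stronglyClosed_map_mk S hD _
  have hnorm := zjID_normal (h𝔉.fam (Y ⧸ Cfsg.pPrimeCore p Y)) (S.mapSurjective hπs)
    (D.map (QuotientGroup.mk' (Cfsg.pPrimeCore p Y))) hDb
    (h𝔉.repl _ (S.mapSurjective hπs) _ hDb) hcb
    (fun Vb _ hVb ab hab hq => hst_quotient_pPrimeCore hst S Vb hVb ab hab hq)
  rw [h𝔉.map Y _ (QuotientGroup.mk' (Cfsg.pPrimeCore p Y)) D (fun x hxD hx => by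
    have hxK : x ∈ Cfsg.pPrimeCore p Y := by
      have : x ∈ (QuotientGroup.mk' (Cfsg.pPrimeCore p Y)).ker := hx
      rwa [QuotientGroup.ker_mk'] at this
    exact eq_one_of_mem_of_coprime (S : Subgroup Y) (Cfsg.pPrimeCore p Y) S.isPGroup'
      hKcop x (hD.1 hxD) hxK)] at hnorm
  have hVS : zjI (𝔉 Y) D ≤ (S : Subgroup Y) := (zjI_le hfam D).trans hD.1
  have hSV : (S : Subgroup Y) ≤ Subgroup.normalizer ((zjI (𝔉 Y) D : Subgroup Y) : Set Y) :=
    (stronglyClosed_le_normalizer hD).trans (normalizer_le_normalizer_zjI hfam D)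
  have hVK : Subgroup.normalizer ((zjI (𝔉 Y) D ⊔ Cfsg.pPrimeCore p Y : Subgroup Y) : Set Y) = ⊤ := by
    have h1 : zjI (𝔉 Y) D ⊔ Cfsg.pPrimeCore p Y =
        ((zjI (𝔉 Y) D).map (QuotientGroup.mk' (Cfsg.pPrimeCore p Y))).comap
          (QuotientGroup.mk' (Cfsg.pPrimeCore p Y)) := by
      rw [Subgroup.comap_map_eq, QuotientGroup.ker_mk']
    rw [h1]
    exact Subgroup.normalizer_eq_top_iff.mpr (hnorm.comap _)
  obtain ⟨d, hdN, hdK, hdB⟩ := correct_step S (Cfsg.pPrimeCore p Y) hKcop (zjI (𝔉 Y) D) hVS hSV e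
    (by rw [hVK]; trivial) B hB
    (heB.trans (by
      intro x hx
      exact (le_sup_left : (S : Subgroup Y) ≤ (S : Subgroup Y) ⊔ Cfsg.pPrimeCore p Y) hx))
  refine ⟨d, hdN, fun b hb => ?_⟩
  have h1 : d * b * d⁻¹ ∈ (S : Subgroup Y) := hdB ⟨b, hb, rfl⟩
  have h2 : e * b * e⁻¹ ∈ (S : Subgroup Y) := heB ⟨b, hb, rfl⟩
  have h3 : (d * b * d⁻¹) * (e * b * e⁻¹)⁻¹ ∈ Cfsg.pPrimeCore p Y := by
    have hKn : (Cfsg.pPrimeCore p Y).Normal := inferInstance
    have e1 : (d * b * d⁻¹) * (e * b * e⁻¹)⁻¹ =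
        (d * e⁻¹) * ((e * b * e⁻¹) * (d * e⁻¹)⁻¹ * (e * b * e⁻¹)⁻¹) := by group
    rw [e1]
    exact Subgroup.mul_mem _ hdK (hKn.conj_mem _ (Subgroup.inv_mem _ hdK) _)
  have h4 := eq_one_of_mem_of_coprime (S : Subgroup Y) (Cfsg.pPrimeCore p Y) S.isPGroup' hKcop _
    ((S : Subgroup Y).mul_mem h1 ((S : Subgroup Y).inv_mem h2)) h3
  exact mul_inv_eq_one.mp h4

end localControl

section functor

variable {G : Type*} [Group G]

/-- The set of all conjugates of elements of `D`. -/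
def conjSet (D : Subgroup G) : Set G := {y | ∃ g d : G, d ∈ D ∧ y = g * d * g⁻¹}

/-- The part of `R` generated by conjugates of elements of `D`. -/
def dPart (D R : Subgroup G) : Subgroup G := Subgroup.closure ((R : Set G) ∩ conjSet D)

open Classical in
/-- `dPart D R` when nontrivial, otherwise `R`. -/
noncomputable def dArg (D R : Subgroup G) : Subgroup G :=
  if dPart D R = ⊥ then R else dPart D R

theorem dPart_le (D R : Subgroup G) : dPart D R ≤ R :=
  (Subgroup.closure_le R).2 Set.inter_subset_left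

theorem dArg_le (D R : Subgroup G) : dArg D R ≤ R := by
  unfold dArg
  split_ifs
  · exact le_rfl
  · exact dPart_le D R

theorem dArg_ne_bot (D : Subgroup G) {R : Subgroup G} (hR : R ≠ ⊥) : dArg D R ≠ ⊥ := by
  unfold dArg
  split_ifs with h
  · exact hR
  · exact h

theorem dPart_conj (D R : Subgroup G) (g : G) :
    dPart D (R.map (MulAut.conj g).toMonoidHom) = (dPart D R).map (MulAut.conj g).toMonoidHom := by
  unfold dPart
  rw [MonoidHom.map_closure]
  congr 1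
  ext y
  constructor
  · rintro ⟨⟨x, hx, rfl⟩, h, d, hd, hyd⟩
    refine ⟨x, ⟨hx, g⁻¹ * h, d, hd, ?_⟩, rfl⟩
    have h1 : g * x * g⁻¹ = h * d * h⁻¹ := by
      simpa [MulAut.conj_apply] using hyd
    calc x = g⁻¹ * (g * x * g⁻¹) * g := by group
      _ = g⁻¹ * (h * d * h⁻¹) * g := by rw [h1]
      _ = g⁻¹ * h * d * (g⁻¹ * h)⁻¹ := by group
  · rintro ⟨x, ⟨hx, h, d, hd, rfl⟩, rfl⟩
    refine ⟨⟨h * d * h⁻¹, hx, rfl⟩, g * h, d, hd, ?_⟩
    simp only [MulEquiv.coe_toMonoidHom, MulAut.conj_apply]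
    group

theorem dArg_conj (D R : Subgroup G) (g : G) :
    dArg D (R.map (MulAut.conj g).toMonoidHom) = (dArg D R).map (MulAut.conj g).toMonoidHom := by
  unfold dArg
  rw [dPart_conj]
  by_cases h : dPart D R = ⊥
  · rw [if_pos h, if_pos (by rw [h, Subgroup.map_bot])]
  · rw [if_neg h, if_neg (by
      intro h1
      exact h ((Subgroup.map_eq_bot_iff_of_injective _ (MulAut.conj g).injective).mp h1))]

theorem dPart_of_le {D P : Subgroup G} (hD : Cfsg.IsStronglyClosed D P) {R : Subgroup G}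
    (hRP : R ≤ P) : dPart D R = R ⊓ D := by
  unfold dPart
  have h1 : (R : Set G) ∩ conjSet D = ((R ⊓ D : Subgroup G) : Set G) := by
    ext x
    constructor
    · rintro ⟨hx, g, d, hd, rfl⟩
      exact ⟨hx, hD.2 d hd g (hRP hx)⟩
    · rintro ⟨hx, hxD⟩
      exact ⟨hx, 1, x, hxD, by group⟩
  rw [h1, Subgroup.closure_eq]

theorem dArg_stronglyClosed {D P : Subgroup G} (hD : Cfsg.IsStronglyClosed D P) {R : Subgroup G}
    (hRP : R ≤ P) : Cfsg.IsStronglyClosed (dArg D R) R := by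
  unfold dArg
  split_ifs with h
  · exact stronglyClosed_self R
  · rw [dPart_of_le hD hRP]
    exact ⟨inf_le_left, fun x hx g hg => ⟨hg, hD.2 x hx.2 g (hRP hg)⟩⟩

theorem dArg_self {D P : Subgroup G} (hD : Cfsg.IsStronglyClosed D P) (hD1 : D ≠ ⊥) :
    dArg D P = D := by
  have h1 : dPart D P = D := by
    rw [dPart_of_le hD le_rfl, inf_eq_right.2 hD.1]
  unfold dArg
  rw [h1, if_neg hD1]

/-- The conjugacy functor attached to a strongly closed subgroup and a family. -/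
noncomputable def wD (𝔄 : Subgroup G → Set (Subgroup G)) (D : Subgroup G) :
    Subgroup G → Subgroup G := fun R => zjI 𝔄 (dArg D R)

theorem isConjugacyFunctor_wD {p : ℕ} {𝔄 : Subgroup G → Set (Subgroup G)} (h𝔄 : ZJFamily 𝔄)
    (hne : ∀ R : Subgroup G, IsPGroup p R → R ≠ ⊥ → zjI 𝔄 R ≠ ⊥) (D : Subgroup G) :
    Cfsg.IsConjugacyFunctor p (wD 𝔄 D) := by
  intro R hR
  refine ⟨(zjI_le h𝔄 _).trans (dArg_le D R), fun hR1 => ?_, fun g => ?_⟩
  · exact hne _ (hR.to_le (dArg_le D R)) (dArg_ne_bot D hR1)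
  · unfold wD
    rw [dArg_conj, ← zjI_map h𝔄 (MulAut.conj g)]

end functor

section main

open Cfsg.Agent.helper10

variable {G : Type u} [Group G] [Finite G] {p : ℕ} [hp : Fact p.Prime]
  {𝔉 : ∀ (X : Type u) [Group X], Subgroup X → Set (Subgroup X)}

/-- **Control of strong fusion by `N(Z(J(D)))`**, scheme form. -/
theorem controlD (hp2 : p ≠ 2) (h𝔉 : DScheme p 𝔉) (P : Sylow p G) (D : Subgroup G)
    (hD : Cfsg.IsStronglyClosed D (P : Subgroup G)) (hst : Cfsg.IsNormalizerPStable p G)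
    (hc : ∀ U : Subgroup G, U ≤ (P : Subgroup G) → U ≠ ⊥ →
      Cfsg.IsPConstrained p ↥(Subgroup.normalizer (U : Set G)))
    (A : Set G) (hA : A ⊆ ((P : Subgroup G) : Set G)) :
    Cfsg.ControlsStrongFusionOf (Subgroup.normalizer ((zjI (𝔉 G) D : Subgroup G) : Set G))
      (P : Subgroup G) A := by
  refine ⟨hA, fun g hg => ?_⟩
  have hfam := h𝔉.fam G
  by_cases hD1 : D = ⊥
  · have h0 : zjI (𝔉 G) D = ⊥ := by
      rw [eq_bot_iff, ← hD1]; exact zjI_le hfam D
    rw [h0]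
    have htop : Subgroup.normalizer (((⊥ : Subgroup G) : Subgroup G) : Set G) = ⊤ :=
      Subgroup.normalizer_eq_top_iff.mpr inferInstance
    exact ⟨g, by rw [htop]; trivial, fun a _ => rfl⟩
  have hW : Cfsg.IsConjugacyFunctor p (wD (𝔉 G) D) :=
    isConjugacyFunctor_wD hfam (h𝔉.ne_bot G) D
  have hloc : ∀ T : Subgroup G, T ≠ ⊥ → Cfsg.IsWellPlaced p (wD (𝔉 G) D) (P : Subgroup G) T →
      Cfsg.ControlsStrongFusionIn p (wD (𝔉 G) D) (Subgroup.normalizer ((T : Subgroup G) : Set G)) := by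
    intro T hT1 hwp
    obtain ⟨hTP, htower⟩ := hwp
    have h0 : ¬ p ∣ ((P : Subgroup G) ⊓ Subgroup.normalizer (T : Set G)).relIndex
        (Subgroup.normalizer (T : Set G)) := htower 0
    refine ⟨(P : Subgroup G) ⊓ Subgroup.normalizer (T : Set G), inf_le_right,
      P.isPGroup'.to_le inf_le_left, h0, ?_⟩
    intro A' h hh hA' hAh
    have hT₁p' : IsPGroup p ↥(((P : Subgroup G) ⊓ Subgroup.normalizer (T : Set G)).subgroupOf
        (Subgroup.normalizer (T : Set G))) :=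
      IsPGroup.comap_subtype (P.isPGroup'.to_le inf_le_left)
    obtain ⟨S₁, hS₁⟩ : ∃ S₁ : Sylow p ↥(Subgroup.normalizer (T : Set G)),
        (S₁ : Subgroup ↥(Subgroup.normalizer (T : Set G))) =
          ((P : Subgroup G) ⊓ Subgroup.normalizer (T : Set G)).subgroupOf
            (Subgroup.normalizer (T : Set G)) :=
      ⟨hT₁p'.toSylow h0, IsPGroup.toSylow_coe hT₁p' h0⟩
    have hDle : dArg D ((P : Subgroup G) ⊓ Subgroup.normalizer (T : Set G)) ≤
        Subgroup.normalizer (T : Set G) := (dArg_le D _).trans inf_le_right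
    have hD₁ : Cfsg.IsStronglyClosed
        ((dArg D ((P : Subgroup G) ⊓ Subgroup.normalizer (T : Set G))).subgroupOf
          (Subgroup.normalizer (T : Set G)))
        (S₁ : Subgroup ↥(Subgroup.normalizer (T : Set G))) := by
      rw [hS₁]
      exact stronglyClosed_subgroupOf (dArg_stronglyClosed hD inf_le_left) _
    have hstN := isNormalizerPStable_subgroup (Subgroup.normalizer (T : Set G)) hst
    have hconN := hc T hTP hT1
    obtain ⟨d, hdN, hdb⟩ := local_control hp2 h𝔉 hstN hconN S₁ _ hD₁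
      {b : ↥(Subgroup.normalizer (T : Set G)) | (b : G) ∈ A'}
      (by
        intro b hb
        rw [SetLike.mem_coe, hS₁, Subgroup.mem_subgroupOf]
        exact hA' hb)
      ⟨h, hh⟩
      (by
        rintro _ ⟨b, hb, rfl⟩
        rw [SetLike.mem_coe, hS₁, Subgroup.mem_subgroupOf]
        exact hAh ⟨(b : G), hb, rfl⟩)
    refine ⟨(d : G), ⟨d.2, ?_⟩, fun a ha => ?_⟩
    · show (d : G) ∈ Subgroup.normalizer ((zjI (𝔉 G)
        (dArg D ((P : Subgroup G) ⊓ Subgroup.normalizer (T : Set G))) : Subgroup G) : Set G)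
      rw [← Subgroup.map_subgroupOf_eq_of_le hDle,
        h𝔉.map _ G (Subgroup.normalizer (T : Set G)).subtype _ (fun x _ hx => Subtype.ext hx)]
      exact Subgroup.le_normalizer_map _ ⟨d, hdN, rfl⟩
    · have h1 := hdb ⟨a, (hA' ha).2⟩ ha
      exact congrArg Subtype.val h1
  have hG := Cfsg.Agent.S1961.result P (wD (𝔉 G) D) hW hloc
  obtain ⟨x, hx, hxa⟩ := control_transfer hW hG (P : Subgroup G) le_top P.isPGroup'
    (by rw [Subgroup.relIndex_top_right]; exact P.not_dvd_index) A g trivial hA hg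
  have hWP : wD (𝔉 G) D (P : Subgroup G) = zjI (𝔉 G) D := by
    unfold wD
    rw [dArg_self hD hD1]
  refine ⟨x, ?_, fun a ha => (hxa a ha).symm⟩
  rw [← hWP]
  exact hx.2

end main

end Cfsg.Agent.helper3
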