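import Mathlib
import Cfsg.Agent.Lib_helper3_FusionD
import Cfsg.Agent.Lib_helper3_ZJD2
import Cfsg.Agent.Lib_helper10_Sec5
import Cfsg.Agent.Lib_helper10_PS1
import Cfsg.Agent.S1961

/-!
Glauberman's section theorem for the functors `Z(J(D))`, `D` strongly closed (helper3).
Part 1: the relation, transport to subgroups, lifting through `O_{p'}`.
-/

set_option autoImplicit false

namespace Cfsg.Agent.helper3

open Cfsg Cfsg.Agent.helper10

universe u

section relD

variable {X : Type*} [Group X]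

/-- `h` acts on `A` as some element of `H ∩ N(V)`. -/
def RelD (H V : Subgroup X) (A : Set X) (h : X) : Prop :=
  ∃ x ∈ H, x ∈ Subgroup.normalizer (V : Set X) ∧ ∀ a ∈ A, x * a * x⁻¹ = h * a * h⁻¹

theorem RelD.of_mem {H V : Subgroup X} {A : Set X} {h : X} (hH : h ∈ H)
    (hh : h ∈ Subgroup.normalizer (V : Set X)) : RelD H V A h :=
  ⟨h, hH, hh, fun _ _ => rfl⟩

theorem RelD.mono {H V : Subgroup X} {A A' : Set X} {h : X} (hA : A' ⊆ A) :
    RelD H V A h → RelD H V A' h :=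
  fun ⟨x, hxH, hx, hag⟩ => ⟨x, hxH, hx, fun a ha => hag a (hA ha)⟩

theorem RelD.mono_left {H H' V : Subgroup X} {A : Set X} {h : X} (hH : H ≤ H') :
    RelD H V A h → RelD H' V A h :=
  fun ⟨x, hxH, hx, hag⟩ => ⟨x, hH hxH, hx, hag⟩

theorem RelD.congr {H V : Subgroup X} {A : Set X} {h h' : X}
    (hgh : ∀ a ∈ A, h * a * h⁻¹ = h' * a * h'⁻¹) : RelD H V A h → RelD H V A h' :=
  fun ⟨x, hxH, hx, hag⟩ => ⟨x, hxH, hx, fun a ha => (hag a ha).trans (hgh a ha)⟩

theorem RelD.trans {H V : Subgroup X} {A : Set X} {h h' : X} :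
    RelD H V A h → RelD H V (lconj h A) h' → RelD H V A (h' * h) := by
  rintro ⟨c, hcH, hc, hag⟩ ⟨c', hcH', hc', hag'⟩
  refine ⟨c' * c, H.mul_mem hcH' hcH, Subgroup.mul_mem _ hc' hc, ?_⟩
  intro a ha
  have h1 := hag a ha
  have h2 := hag' (h * a * h⁻¹) (mem_lconj ha)
  calc c' * c * a * (c' * c)⁻¹ = c' * (c * a * c⁻¹) * c'⁻¹ := by group
    _ = c' * (h * a * h⁻¹) * c'⁻¹ := by rw [h1]
    _ = h' * (h * a * h⁻¹) * h'⁻¹ := h2
    _ = h' * h * a * (h' * h)⁻¹ := by group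

theorem RelD.symm {H V : Subgroup X} {A : Set X} {h : X} :
    RelD H V A h → RelD H V (lconj h A) h⁻¹ := by
  rintro ⟨c, hcH, hc, hag⟩
  refine ⟨c⁻¹, H.inv_mem hcH, Subgroup.inv_mem _ hc, ?_⟩
  rintro _ ⟨a, ha, rfl⟩
  have h1 : c⁻¹ * (h * a * h⁻¹) * c⁻¹⁻¹ = a := by rw [← hag a ha]; group
  have h2 : h⁻¹ * (h * a * h⁻¹) * h⁻¹⁻¹ = a := by group
  show c⁻¹ * (h * a * h⁻¹) * c⁻¹⁻¹ = h⁻¹ * (h * a * h⁻¹) * h⁻¹⁻¹
  rw [h1, h2]

/-- Control of strong fusion in `S` by `N(V)`. -/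
def CtlD (V S : Subgroup X) : Prop :=
  ∀ (A : Set X) (h : X), A ⊆ (S : Set X) → lconj h A ⊆ (S : Set X) → RelD ⊤ V A h

end relD

section transport

variable {X : Type u} [Group X] [Finite X] {p : ℕ} [hp : Fact p.Prime]
  {𝔉 : ∀ (X : Type u) [Group X], Subgroup X → Set (Subgroup X)}

omit hp in
/-- Control in a subgroup `H` (as a group) gives control by elements of `H` in the ambient group. -/
theorem relD_of_subgroup (h𝔉 : DScheme p 𝔉) (H S₁ D₁ : Subgroup X) (hS₁H : S₁ ≤ H)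
    (hD₁S₁ : D₁ ≤ S₁)
    (hH : CtlD (zjI (𝔉 ↥H) (D₁.subgroupOf H)) (S₁.subgroupOf H))
    (A : Set X) (h : X) (hh : h ∈ H) (hA : A ⊆ (S₁ : Set X)) (hAh : lconj h A ⊆ (S₁ : Set X)) :
    RelD H (zjI (𝔉 X) D₁) A h := by
  obtain ⟨d, -, hdN, hdb⟩ := hH {b : ↥H | (b : X) ∈ A} ⟨h, hh⟩
    (by
      intro b hb
      rw [SetLike.mem_coe, Subgroup.mem_subgroupOf]
      exact hA hb)
    (by
      rintro _ ⟨b, hb, rfl⟩
      rw [SetLike.mem_coe, Subgroup.mem_subgroupOf]
      exact hAh ⟨(b : X), hb, rfl⟩)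
  refine ⟨(d : X), d.2, ?_, fun a ha => ?_⟩
  · rw [← Subgroup.map_subgroupOf_eq_of_le (hD₁S₁.trans hS₁H),
      h𝔉.map _ X H.subtype _ (fun x _ hx => Subtype.ext hx)]
    exact Subgroup.le_normalizer_map _ ⟨d, hdN, rfl⟩
  · have h1 := hdb ⟨a, hS₁H (hA ha)⟩ ha
    exact congrArg Subtype.val h1

/-- In a constrained `p`-stable group, `Z(J(D))` is normal. -/
theorem zjI_normal_of_scheme (h𝔉 : DScheme p 𝔉) (hst : Cfsg.IsNormalizerPStable p X)
    (hc : Constrained p X) (S : Sylow p X) (D : Subgroup X)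
    (hD : Cfsg.IsStronglyClosed D (S : Subgroup X)) : (zjI (𝔉 X) D).Normal :=
  zjID_normal (h𝔉.fam X) S D hD (h𝔉.repl X S D hD) hc
    (fun V _ hV a _ hq => mk_mem_pCore_of_isNormalizerPStable hst V hV a hq)

/-- Lifting control through a normal `p'`-subgroup. -/
theorem ctlD_lift_coprime (h𝔉 : DScheme p 𝔉) (S : Sylow p X) (D : Subgroup X)
    (hD : Cfsg.IsStronglyClosed D (S : Subgroup X)) (K : Subgroup X) [K.Normal]
    (hK : (Nat.card K).Coprime p)
    (hq : CtlD (zjI (𝔉 (X ⧸ K)) (D.map (QuotientGroup.mk' K)))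
      ((S : Subgroup X).map (QuotientGroup.mk' K))) :
    CtlD (zjI (𝔉 X) D) (S : Subgroup X) := by
  intro A h hA hAh
  have hfam := h𝔉.fam X
  have hVS : zjI (𝔉 X) D ≤ (S : Subgroup X) := (zjI_le hfam D).trans hD.1
  have hSV : (S : Subgroup X) ≤ Subgroup.normalizer ((zjI (𝔉 X) D : Subgroup X) : Set X) :=
    (stronglyClosed_le_normalizer hD).trans (normalizer_le_normalizer_zjI hfam D)
  have hmapV : zjI (𝔉 (X ⧸ K)) (D.map (QuotientGroup.mk' K)) =
      (zjI (𝔉 X) D).map (QuotientGroup.mk' K) :=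
    h𝔉.map X _ (QuotientGroup.mk' K) D (fun x hxD hx => by
      have hxK : x ∈ K := by
        have : x ∈ (QuotientGroup.mk' K).ker := hx
        rwa [QuotientGroup.ker_mk'] at this
      exact eq_one_of_mem_of_coprime (S : Subgroup X) K S.isPGroup' hK x (hD.1 hxD) hxK)
  obtain ⟨xb, -, hxbN, hag⟩ := hq ((QuotientGroup.mk' K) '' A) ((QuotientGroup.mk' K) h)
    (by
      rintro _ ⟨a, ha, rfl⟩
      exact ⟨a, hA ha, rfl⟩)
    (by
      rw [← image_lconj]
      rintro _ ⟨a, ha, rfl⟩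
      exact ⟨a, hAh ha, rfl⟩)
  obtain ⟨x₀, rfl⟩ := QuotientGroup.mk'_surjective K xb
  have hx₀N : x₀ ∈ Subgroup.normalizer ((zjI (𝔉 X) D ⊔ K : Subgroup X) : Set X) := by
    have h1 : zjI (𝔉 X) D ⊔ K =
        ((zjI (𝔉 X) D).map (QuotientGroup.mk' K)).comap (QuotientGroup.mk' K) := by
      rw [Subgroup.comap_map_eq, QuotientGroup.ker_mk']
    rw [h1, ← hmapV]
    exact Subgroup.le_normalizer_comap (QuotientGroup.mk' K) hxbN
  have hmodK : ∀ a ∈ A, (x₀ * a * x₀⁻¹) * (h * a * h⁻¹)⁻¹ ∈ K := by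
    intro a ha
    have h1 := hag ((QuotientGroup.mk' K) a) ⟨a, ha, rfl⟩
    have h2 : (QuotientGroup.mk' K) ((x₀ * a * x₀⁻¹) * (h * a * h⁻¹)⁻¹) = 1 := by
      simp only [map_mul, map_inv] at h1 ⊢
      rw [h1]; group
    have : (x₀ * a * x₀⁻¹) * (h * a * h⁻¹)⁻¹ ∈ (QuotientGroup.mk' K).ker := h2
    rwa [QuotientGroup.ker_mk'] at this
  obtain ⟨d, hdN, hdK, hdB⟩ := correct_step S K hK (zjI (𝔉 X) D) hVS hSV x₀ hx₀N A hA
    (by
      rintro _ ⟨a, ha, rfl⟩
      have e1 : x₀ * a * x₀⁻¹ = (h * a * h⁻¹) * ((h * a * h⁻¹)⁻¹ * ((x₀ * a * x₀⁻¹) * (h * a * h⁻¹)⁻¹) * (h * a * h⁻¹)) := by group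
      show x₀ * a * x₀⁻¹ ∈ ((S : Subgroup X) ⊔ K : Subgroup X)
      rw [e1]
      refine Subgroup.mul_mem_sup (hAh ⟨a, ha, rfl⟩) ?_
      have hKn : K.Normal := inferInstance
      have := hKn.conj_mem _ (hmodK a ha) (h * a * h⁻¹)⁻¹
      simpa using this)
  refine ⟨d, Subgroup.mem_top d, hdN, fun b hb => ?_⟩
  have h1 : d * b * d⁻¹ ∈ (S : Subgroup X) := hdB ⟨b, hb, rfl⟩
  have h2 : h * b * h⁻¹ ∈ (S : Subgroup X) := hAh ⟨b, hb, rfl⟩
  have hKn : K.Normal := inferInstance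
  have h3 : (d * b * d⁻¹) * (h * b * h⁻¹)⁻¹ ∈ K := by
    have e1 : (d * b * d⁻¹) * (h * b * h⁻¹)⁻¹ =
        (d * x₀⁻¹) * ((x₀ * b * x₀⁻¹) * (d * x₀⁻¹)⁻¹ * (x₀ * b * x₀⁻¹)⁻¹) *
          ((x₀ * b * x₀⁻¹) * (h * b * h⁻¹)⁻¹) := by group
    rw [e1]
    exact K.mul_mem (K.mul_mem hdK (hKn.conj_mem _ (K.inv_mem hdK) _)) (hmodK b hb)
  have h4 := eq_one_of_mem_of_coprime (S : Subgroup X) K S.isPGroup' hK _
    ((S : Subgroup X).mul_mem h1 ((S : Subgroup X).inv_mem h2)) h3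
  exact mul_inv_eq_one.mp h4

end transport

section caseB2

variable {X : Type u} [Group X] [Finite X] {p : ℕ} [hp : Fact p.Prime]
  {𝔉 : ∀ (X : Type u) [Group X], Subgroup X → Set (Subgroup X)}

/-- The inductive hypothesis on proper subgroups, in ambient form. -/
def SubHyp (p : ℕ) (𝔉 : ∀ (X : Type u) [Group X], Subgroup X → Set (Subgroup X))
    (X : Type u) [Group X] : Prop :=
  ∀ H : Subgroup X, H ≠ ⊤ → ∀ S₁ D₁ : Subgroup X, S₁ ≤ H → IsPGroup p S₁ →
    ¬ p ∣ S₁.relIndex H → Cfsg.IsStronglyClosed D₁ S₁ →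
    ∀ (A : Set X) (h : X), h ∈ H → A ⊆ (S₁ : Set X) → lconj h A ⊆ (S₁ : Set X) →
      RelD H (zjI (𝔉 X) D₁) A h

/-- Case `O_p(X) = 1`: the well-placed argument. -/
theorem ctlD_of_pCore_eq_bot (h𝔉 : DScheme p 𝔉) (S : Sylow p X) (D : Subgroup X)
    (hD : Cfsg.IsStronglyClosed D (S : Subgroup X)) (hD1 : D ≠ ⊥)
    (hP : Cfsg.pCore p X = ⊥) (hsub : SubHyp p 𝔉 X) :
    CtlD (zjI (𝔉 X) D) (S : Subgroup X) := by
  intro A g hA hg
  have hfam := h𝔉.fam X
  have hW : Cfsg.IsConjugacyFunctor p (wD (𝔉 X) D) :=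
    isConjugacyFunctor_wD hfam (h𝔉.ne_bot X) D
  have hloc : ∀ T : Subgroup X, T ≠ ⊥ → Cfsg.IsWellPlaced p (wD (𝔉 X) D) (S : Subgroup X) T →
      Cfsg.ControlsStrongFusionIn p (wD (𝔉 X) D) (Subgroup.normalizer ((T : Subgroup X) : Set X)) := by
    intro T hT1 hwp
    obtain ⟨hTS, htower⟩ := hwp
    have h0 : ¬ p ∣ ((S : Subgroup X) ⊓ Subgroup.normalizer (T : Set X)).relIndex
        (Subgroup.normalizer (T : Set X)) := htower 0
    have hNne : Subgroup.normalizer (T : Set X) ≠ ⊤ := by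
      intro htop
      apply hT1
      have := le_pCore_of_normalizer_eq_top T (S.isPGroup'.to_le hTS) htop
      rw [hP] at this
      exact le_bot_iff.mp this
    refine ⟨(S : Subgroup X) ⊓ Subgroup.normalizer (T : Set X), inf_le_right,
      S.isPGroup'.to_le inf_le_left, h0, ?_⟩
    intro A' h hh hA' hAh
    obtain ⟨x, hxH, hxN, hxa⟩ := hsub _ hNne ((S : Subgroup X) ⊓ Subgroup.normalizer (T : Set X))
      (dArg D ((S : Subgroup X) ⊓ Subgroup.normalizer (T : Set X))) inf_le_right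
      (S.isPGroup'.to_le inf_le_left) h0 (dArg_stronglyClosed hD inf_le_left) A' h hh hA' hAh
    exact ⟨x, ⟨hxH, hxN⟩, hxa⟩
  have hG := Cfsg.Agent.S1961.result S (wD (𝔉 X) D) hW hloc
  obtain ⟨x, hx, hxa⟩ := control_transfer hW hG (S : Subgroup X) le_top S.isPGroup'
    (by rw [Subgroup.relIndex_top_right]; exact S.not_dvd_index) A g trivial hA hg
  have hWP : wD (𝔉 X) D (S : Subgroup X) = zjI (𝔉 X) D := by
    unfold wD
    rw [dArg_self hD hD1]
  refine ⟨x, Subgroup.mem_top x, ?_, hxa⟩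
  rw [← hWP]
  exact hx.2

end caseB2

section caseB3

variable {X : Type u} [Group X] [Finite X] {p : ℕ} [hp : Fact p.Prime]
  {𝔉 : ∀ (X : Type u) [Group X], Subgroup X → Set (Subgroup X)}

local notation:max K "^[" g "]" => Subgroup.map (MulEquiv.toMonoidHom (MulAut.conj g)) K

/-- The preimage of `Z(J(D̄))` in `X`, `D̄` the image of `D` in `X / P`: its normalizer is proper
and contains `S`. -/
theorem preimage_zjI_props (h𝔉 : DScheme p 𝔉) (S : Sylow p X) (D : Subgroup X)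
    (hD : Cfsg.IsStronglyClosed D (S : Subgroup X))
    (P : Subgroup X) [P.Normal] (hPdef : P = Cfsg.pCore p X) (hPS : P ≤ (S : Subgroup X))
    (hDP : ¬ D ≤ P) :
    Subgroup.normalizer ((((zjI (𝔉 (X ⧸ P)) (D.map (QuotientGroup.mk' P))).comap
        (QuotientGroup.mk' P) : Subgroup X)) : Set X) ≠ ⊤ ∧
      (S : Subgroup X) ≤ Subgroup.normalizer ((((zjI (𝔉 (X ⧸ P)) (D.map (QuotientGroup.mk' P))).comap
        (QuotientGroup.mk' P) : Subgroup X)) : Set X) := by
  have hfamq := h𝔉.fam (X ⧸ P)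
  have hDb : Cfsg.IsStronglyClosed (D.map (QuotientGroup.mk' P))
      ((S : Subgroup X).map (QuotientGroup.mk' P)) := stronglyClosed_map_mk S hD P
  have hpreS : ∀ x : X, (QuotientGroup.mk' P) x ∈ (S : Subgroup X).map (QuotientGroup.mk' P) ↔
      x ∈ (S : Subgroup X) := by
    intro x
    rw [← Subgroup.mem_comap, Subgroup.comap_map_eq, QuotientGroup.ker_mk', sup_eq_left.2 hPS]
  have hVS : zjI (𝔉 (X ⧸ P)) (D.map (QuotientGroup.mk' P)) ≤
      (S : Subgroup X).map (QuotientGroup.mk' P) := (zjI_le hfamq _).trans hDb.1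
  have hDbp : IsPGroup p ↥(D.map (QuotientGroup.mk' P)) := (S.isPGroup'.to_le hD.1).map _
  have hDbne : D.map (QuotientGroup.mk' P) ≠ ⊥ := by
    intro h
    apply hDP
    have := (Subgroup.map_eq_bot_iff _).1 h
    rwa [QuotientGroup.ker_mk'] at this
  have hVne := h𝔉.ne_bot (X ⧸ P) _ hDbp hDbne
  refine ⟨?_, ?_⟩
  · intro htop
    have hUS : (zjI (𝔉 (X ⧸ P)) (D.map (QuotientGroup.mk' P))).comap
        (QuotientGroup.mk' P) ≤ (S : Subgroup X) := by
      intro x hx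
      exact (hpreS x).1 (hVS hx)
    have hUP := le_pCore_of_normalizer_eq_top _ (S.isPGroup'.to_le hUS) htop
    rw [← hPdef] at hUP
    apply hVne
    have h1 := Subgroup.map_mono (f := QuotientGroup.mk' P) hUP
    rw [Subgroup.map_comap_eq_self_of_surjective (QuotientGroup.mk'_surjective P),
      QuotientGroup.map_mk'_self] at h1
    exact le_bot_iff.mp h1
  · intro s hs
    apply Subgroup.le_normalizer_comap (QuotientGroup.mk' P)
    rw [Subgroup.mem_comap]
    exact ((stronglyClosed_le_normalizer hDb).trans (normalizer_le_normalizer_zjI hfamq _))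
      ⟨s, hs, rfl⟩

/-- The descending induction in the case `X = S·C_X(P)`. -/
theorem relD_of_sup_centralizer_eq_top (h𝔉 : DScheme p 𝔉) (S : Sylow p X) (D : Subgroup X)
    (hD : Cfsg.IsStronglyClosed D (S : Subgroup X))
    (P : Subgroup X) [P.Normal] (hPdef : P = Cfsg.pCore p X)
    (hSP : ¬ (S : Subgroup X) ≤ P) (hDP : ¬ D ≤ P)
    (hsub : ∀ H : Subgroup X, H ≠ ⊤ → (S : Subgroup X) ≤ H → ∀ (A : Set X) (h : X), h ∈ H →
      A ⊆ ((S : Subgroup X) : Set X) → lconj h A ⊆ ((S : Subgroup X) : Set X) →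
      RelD ⊤ (zjI (𝔉 X) D) A h)
    (hquot : CtlD (zjI (𝔉 (X ⧸ P)) (D.map (QuotientGroup.mk' P)))
      ((S : Subgroup X).map (QuotientGroup.mk' P)))
    (hSC : (S : Subgroup X) ⊔ Subgroup.centralizer (P : Set X) = ⊤) :
    ∀ (m : ℕ) (Q : Subgroup X), P ≤ Q → Q ≤ (S : Subgroup X) →
      Nat.card (S : Subgroup X) - Nat.card Q = m → ∀ h : X,
      lconj h (Q : Set X) ⊆ ((S : Subgroup X) : Set X) →
      RelD ⊤ (zjI (𝔉 X) D) (Q : Set X) h := by
  have hSp : IsPGroup p (S : Subgroup X) := S.isPGroup'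
  have hPS : P ≤ (S : Subgroup X) := by rw [hPdef]; exact Cfsg.Agent.helper1.pCore_le_sylow S
  have hsurj : Function.Surjective (QuotientGroup.mk' P) := QuotientGroup.mk'_surjective P
  have hpreS : ∀ x : X, (QuotientGroup.mk' P) x ∈ (S : Subgroup X).map (QuotientGroup.mk' P) ↔
      x ∈ (S : Subgroup X) := by
    intro x
    rw [← Subgroup.mem_comap, Subgroup.comap_map_eq, QuotientGroup.ker_mk', sup_eq_left.2 hPS]
  have hNSne : Subgroup.normalizer (((S : Subgroup X)) : Set X) ≠ ⊤ := by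
    intro h
    apply hSP
    rw [hPdef]
    exact le_pCore_of_normalizer_eq_top _ hSp h
  have hSne : (S : Subgroup X) ≠ ⊤ := by
    intro h
    apply hNSne
    rw [eq_top_iff, ← h]
    exact Subgroup.le_normalizer
  have hker : ∀ x : X, (QuotientGroup.mk' P) x = 1 → x ∈ P := by
    intro x hx
    rw [← QuotientGroup.ker_mk' P]; exact hx
  obtain ⟨hRne, hSR⟩ := preimage_zjI_props h𝔉 S D hD P hPdef hPS hDP
  intro m
  induction m using Nat.strong_induction_on with
  | _ m IH =>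
    intro Q hPQ hQS hm h hh
    -- the element in the quotient
    have hAq : (QuotientGroup.mk' P) '' (Q : Set X) ⊆ ((((S : Subgroup X).map (QuotientGroup.mk' P) :
        Subgroup (X ⧸ P)) : Set (X ⧸ P))) := by
      rintro _ ⟨a, ha, rfl⟩
      exact ⟨a, hQS ha, rfl⟩
    have hAhq : lconj ((QuotientGroup.mk' P) h) ((QuotientGroup.mk' P) '' (Q : Set X)) ⊆
        ((((S : Subgroup X).map (QuotientGroup.mk' P) : Subgroup (X ⧸ P)) : Set (X ⧸ P))) := by
      rw [← image_lconj]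
      rintro _ ⟨a, ha, rfl⟩
      exact ⟨a, hh ha, rfl⟩
    obtain ⟨cb, -, hcbN, hag⟩ := hquot _ _ hAq hAhq
    obtain ⟨c, hc⟩ := hsurj cb
    have hcR : c ∈ Subgroup.normalizer ((((zjI (𝔉 (X ⧸ P)) (D.map (QuotientGroup.mk' P))).comap
        (QuotientGroup.mk' P) : Subgroup X)) : Set X) := by
      apply Subgroup.le_normalizer_comap (QuotientGroup.mk' P)
      rw [Subgroup.mem_comap, hc]
      exact hcbN
    have hcQ : lconj c (Q : Set X) ⊆ ((S : Subgroup X) : Set X) := by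
      rintro _ ⟨q, hq, rfl⟩
      rw [SetLike.mem_coe, ← hpreS]
      have h1 := hag ((QuotientGroup.mk' P) q) ⟨q, hq, rfl⟩
      rw [← hc] at h1
      have h2 : (QuotientGroup.mk' P) (c * q * c⁻¹) = (QuotientGroup.mk' P) (h * q * h⁻¹) := by
        simp only [map_mul, map_inv]
        exact h1
      rw [h2]
      exact ⟨h * q * h⁻¹, hh ⟨q, hq, rfl⟩, rfl⟩
    have hRelc : RelD ⊤ (zjI (𝔉 X) D) (Q : Set X) c :=
      hsub _ hRne hSR (Q : Set X) c hcR (by exact_mod_cast hQS) hcQ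
    -- the remaining element
    obtain ⟨y, hy⟩ : ∃ y : X, y = c⁻¹ * h := ⟨_, rfl⟩
    have hyQ : ∀ q ∈ Q, y * q * y⁻¹ * q⁻¹ ∈ P := by
      intro q hq
      apply hker
      have h1 := hag ((QuotientGroup.mk' P) q) ⟨q, hq, rfl⟩
      rw [← hc] at h1
      rw [hy]
      simp only [map_mul, map_inv] at h1 ⊢
      calc ((QuotientGroup.mk' P) c)⁻¹ * (QuotientGroup.mk' P) h * (QuotientGroup.mk' P) q *
            (((QuotientGroup.mk' P) c)⁻¹ * (QuotientGroup.mk' P) h)⁻¹ * ((QuotientGroup.mk' P) q)⁻¹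
          = ((QuotientGroup.mk' P) c)⁻¹ * ((QuotientGroup.mk' P) h * (QuotientGroup.mk' P) q *
            ((QuotientGroup.mk' P) h)⁻¹) * (QuotientGroup.mk' P) c * ((QuotientGroup.mk' P) q)⁻¹ := by
            group
        _ = ((QuotientGroup.mk' P) c)⁻¹ * ((QuotientGroup.mk' P) c * (QuotientGroup.mk' P) q *
            ((QuotientGroup.mk' P) c)⁻¹) * (QuotientGroup.mk' P) c * ((QuotientGroup.mk' P) q)⁻¹ := by
            rw [h1]
        _ = 1 := by group
    have hyN : y ∈ Subgroup.normalizer (Q : Set X) := by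
      apply mem_normalizer_of_map_conj_le
      rintro _ ⟨q, hq, rfl⟩
      have h1 : y * q * y⁻¹ = (y * q * y⁻¹ * q⁻¹) * q := by group
      show y * q * y⁻¹ ∈ Q
      rw [h1]
      exact Q.mul_mem (hPQ (hyQ q hq)) hq
    have hyQset : lconj y (Q : Set X) = (Q : Set X) := by
      rw [lconj_coe, (mem_normalizer_iff_map_conj Q y).1 hyN]
    -- `y` acts as an element of `N(V)`
    have hRely : RelD ⊤ (zjI (𝔉 X) D) (Q : Set X) y := by
      by_cases hQeq : Q = (S : Subgroup X)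
      · rw [hQeq] at hyN hyQset ⊢
        exact hsub _ hNSne Subgroup.le_normalizer _ y hyN subset_rfl (by rw [hyQset])
      · have hlt : Q < (S : Subgroup X) := lt_of_le_of_ne hQS hQeq
        have hVlt := lt_inf_normalizer_of_lt hSp hlt
        obtain ⟨g, hgS, hgext⟩ := exists_extremal_conj S Q
          ((S : Subgroup X) ⊓ Subgroup.normalizer (Q : Set X)) (hSp.to_le inf_le_left) inf_le_right
        have hVcard := card_lt_card_of_lt hVlt
        have hVle : Nat.card ((S : Subgroup X) ⊓ Subgroup.normalizer (Q : Set X) : Subgroup X) ≤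
            Nat.card (S : Subgroup X) := Subgroup.card_le_of_le inf_le_left
        have hRelV := IH (Nat.card (S : Subgroup X) -
          Nat.card ((S : Subgroup X) ⊓ Subgroup.normalizer (Q : Set X) : Subgroup X)) (by omega)
          ((S : Subgroup X) ⊓ Subgroup.normalizer (Q : Set X)) (hPQ.trans hVlt.le) inf_le_left rfl g
          (by rw [lconj_coe]; exact_mod_cast hgS)
        have hRelQg : RelD ⊤ (zjI (𝔉 X) D) (Q : Set X) g :=
          hRelV.mono (by exact_mod_cast hVlt.le)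
        -- the extremal conjugate
        have hPQ' : P ≤ Q^[g] := by
          have h1 : P^[g] = P := (mem_normalizer_iff_map_conj P g).1
            (by rw [Subgroup.normalizer_eq_top]; exact Subgroup.mem_top g)
          rw [← h1]
          exact Subgroup.map_mono hPQ
        have hQ'S : Q^[g] ≤ (S : Subgroup X) := (Subgroup.map_mono hVlt.le).trans hgS
        have hy' : g * y * g⁻¹ ∈ quotStab P (Q^[g]) := by
          refine ⟨?_, ?_⟩
          · rw [normalizer_map_conj]; exact conj_mem_map_conj _ g y hyN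
          · rintro _ ⟨q, hq, rfl⟩
            have h1 : g * (y * q * y⁻¹ * q⁻¹) * g⁻¹ ∈ P :=
              Subgroup.Normal.conj_mem inferInstance _ (hyQ q hq) g
            have h2 : g * y * g⁻¹ * (g * q * g⁻¹) * (g * y * g⁻¹)⁻¹ * (g * q * g⁻¹)⁻¹ =
                g * (y * q * y⁻¹ * q⁻¹) * g⁻¹ := by group
            show g * y * g⁻¹ * (g * q * g⁻¹) * (g * y * g⁻¹)⁻¹ * (g * q * g⁻¹)⁻¹ ∈ P
            rw [h2]; exact h1
        obtain ⟨s, hs, hsq⟩ := exists_sylow_elt_of_trivial_on_quotient S P hSC (Q^[g]) hPQ' hQ'S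
          hgext (g * y * g⁻¹) hy'
        have hsN : s ∈ Subgroup.normalizer ((Q^[g] : Subgroup X) : Set X) := by
          apply mem_normalizer_of_map_conj_le
          rintro _ ⟨q, hq, rfl⟩
          show s * q * s⁻¹ ∈ Q^[g]
          rw [hsq q hq]
          exact (Subgroup.mem_normalizer_iff.mp hy'.1 q).mp hq
        have hRels : RelD ⊤ (zjI (𝔉 X) D) ((Q^[g] : Subgroup X) : Set X) s := by
          apply hsub (S : Subgroup X) hSne le_rfl _ s hs
          · exact_mod_cast hQ'S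
          · rw [lconj_coe, (mem_normalizer_iff_map_conj _ s).1 hsN]
            exact_mod_cast hQ'S
        have hRely' : RelD ⊤ (zjI (𝔉 X) D) ((Q^[g] : Subgroup X) : Set X) (g * y * g⁻¹) :=
          hRels.congr hsq
        have hy'set : lconj (g * y * g⁻¹) ((Q^[g] : Subgroup X) : Set X) = ((Q^[g] : Subgroup X) : Set X) := by
          rw [lconj_coe, (mem_normalizer_iff_map_conj _ _).1 hy'.1]
        have hRelginv := hRelQg.symm
        rw [lconj_coe] at hRelginv
        have hR1 := hRelQg.trans (by rw [lconj_coe]; exact hRely')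
        have hR2 := hR1.trans (by
          rw [← lconj_lconj, lconj_coe, hy'set]; exact hRelginv)
        have e : g⁻¹ * (g * y * g⁻¹ * g) = y := by group
        rw [e] at hR2
        exact hR2
    have hfin := hRely.trans (by rw [hyQset]; exact hRelc)
    have e : c * y = h := by rw [hy]; group
    rw [e] at hfin
    exact hfin

end caseB3

end Cfsg.Agent.helper3
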