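import Mathlib
import Cfsg.Agent.Lib_helper3_SecD

/-!
Glauberman's section theorem for the functors `Z(J(D))`, `D` strongly closed (helper3).
Part 2: the non-constrained case and the main induction.
-/

set_option autoImplicit false

namespace Cfsg.Agent.helper3

open Cfsg Cfsg.Agent.helper10

universe u

section caseB3main

variable {X : Type u} [Group X] [Finite X] {p : ℕ} [hp : Fact p.Prime]
  {𝔉 : ∀ (X : Type u) [Group X], Subgroup X → Set (Subgroup X)}

local notation:max K "^[" g "]" => Subgroup.map (MulEquiv.toMonoidHom (MulAut.conj g)) K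

/-- Case B3: `O_{p'}(X) = 1`, `O_p(X) ≠ 1`, `X` not constrained. -/
theorem ctlD_case_B3 (h𝔉 : DScheme p 𝔉) (S : Sylow p X) (D : Subgroup X)
    (hD : Cfsg.IsStronglyClosed D (S : Subgroup X))
    (hsub : SubHyp p 𝔉 X)
    (hquot : ∀ (N : Subgroup X) [N.Normal], N ≠ ⊥ →
      CtlD (zjI (𝔉 (X ⧸ N)) (D.map (QuotientGroup.mk' N)))
        ((S : Subgroup X).map (QuotientGroup.mk' N)))
    (hK : Cfsg.pPrimeCore p X = ⊥) (hP1 : Cfsg.pCore p X ≠ ⊥) (hnc : ¬ Constrained p X)
    (hDP : ¬ D ≤ Cfsg.pCore p X) :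
    CtlD (zjI (𝔉 X) D) (S : Subgroup X) := by
  have hα := not_le_pCore_of_not_constrained S hK hnc
  obtain ⟨P, hPdef⟩ : ∃ P : Subgroup X, P = Cfsg.pCore p X := ⟨_, rfl⟩
  rw [← hPdef] at hα hP1 hDP
  have hPn : P.Normal := by rw [hPdef]; exact Cfsg.Agent.helper1.pCore_normal p
  have hPS : P ≤ (S : Subgroup X) := by rw [hPdef]; exact Cfsg.Agent.helper1.pCore_le_sylow S
  have hSP : ¬ (S : Subgroup X) ≤ P := fun h => hα (inf_le_left.trans h)
  have hSp : IsPGroup p (S : Subgroup X) := S.isPGroup'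
  have hsubS : ∀ H : Subgroup X, H ≠ ⊤ → (S : Subgroup X) ≤ H → ∀ (A : Set X) (h : X), h ∈ H →
      A ⊆ ((S : Subgroup X) : Set X) → lconj h A ⊆ ((S : Subgroup X) : Set X) →
      RelD ⊤ (zjI (𝔉 X) D) A h := by
    intro H hH hSH A h hh hA hAh
    have hidx : ¬ p ∣ (S : Subgroup X).relIndex H := by
      intro hdvd
      exact S.not_dvd_index ((Subgroup.relIndex_mul_index hSH) ▸ Dvd.dvd.mul_right hdvd _)
    exact (hsub H hH (S : Subgroup X) D hSH hSp hidx hD A h hh hA hAh).mono_left le_top
  intro A h hA hAh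
  by_cases hSC : (S : Subgroup X) ⊔ Subgroup.centralizer (P : Set X) = ⊤
  · -- case (iii)
    obtain ⟨Q, hQ⟩ : ∃ Q : Subgroup X, Q = Subgroup.closure A ⊔ P := ⟨_, rfl⟩
    have hQS : Q ≤ (S : Subgroup X) := by
      rw [hQ]; exact sup_le ((Subgroup.closure_le _).2 hA) hPS
    have hQh : lconj h (Q : Set X) ⊆ ((S : Subgroup X) : Set X) := by
      rw [lconj_coe, SetLike.coe_subset_coe, hQ, Subgroup.map_sup, MonoidHom.map_closure]
      refine sup_le ?_ ?_
      · rw [Subgroup.closure_le]
        rintro _ ⟨a, ha, rfl⟩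
        exact hAh ⟨a, ha, by simp [MulAut.conj_apply]⟩
      · have h1 : P^[h] = P := (mem_normalizer_iff_map_conj P h).1
          (by rw [Subgroup.normalizer_eq_top]; exact Subgroup.mem_top h)
        rw [h1]; exact hPS
    have hmain := relD_of_sup_centralizer_eq_top h𝔉 S D hD P hPdef hSP hDP hsubS (hquot P hP1)
      hSC _ Q (by rw [hQ]; exact le_sup_right) hQS rfl h hQh
    exact hmain.mono (by
      intro a ha
      rw [hQ]
      exact Subgroup.mem_sup_left (Subgroup.subset_closure ha))
  · -- case (ii)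
    obtain ⟨M, hM⟩ : ∃ M : Subgroup X, M = Subgroup.normalizer
        ((((S : Subgroup X) ⊓ (P ⊔ Subgroup.centralizer (P : Set X)) : Subgroup X)) : Set X) := ⟨_, rfl⟩
    have hMne : M ≠ ⊤ := by
      intro htop
      apply hα
      rw [hPdef]
      rw [hM] at htop
      exact le_pCore_of_normalizer_eq_top _ (hSp.to_le inf_le_left) (by rw [← hPdef]; exact htop)
    have hSM : (S : Subgroup X) ≤ M := by
      rw [hM]; exact sylow_le_normalizer_inf _ _
    obtain ⟨m, hm, c, hc, hmc⟩ := exists_mul_normalizer_centralizer S P hPS h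
    rw [← hM] at hm
    rw [hmc] at hAh
    obtain ⟨m', hm', c', hc', hmc', hc'A⟩ := exists_factor_sylow S
      ((S : Subgroup X) ⊔ Subgroup.centralizer (P : Set X)) M le_sup_left hSM m c hm
      (Subgroup.mem_sup_right hc) A hA hAh
    have hR1 := hsubS _ hSC le_sup_left A c' hc' hA hc'A
    have hR2 := hsubS M hMne hSM (lconj c' A) m' hm' hc'A
      (by rw [lconj_lconj, ← hmc']; exact hAh)
    have := hR1.trans hR2
    rw [← hmc', ← hmc] at this
    exact this

end caseB3main

section main

variable {p : ℕ} [hp : Fact p.Prime]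
  {𝔉 : ∀ (X : Type u) [Group X], Subgroup X → Set (Subgroup X)}

/-- **Glauberman's section theorem for strongly closed subgroups**: if every section of `X` is
`p`-stable (normalizer form), `p` odd, then `N(Z(J(D)))` controls strong fusion in a Sylow
`p`-subgroup `S`, for `D` strongly closed in `S`. -/
theorem sectionD (h𝔉 : DScheme p 𝔉) :
    ∀ (n : ℕ) (X : Type u) [Group X] [Finite X], Nat.card X = n → PSt p X →
      ∀ (S : Sylow p X) (D : Subgroup X), Cfsg.IsStronglyClosed D (S : Subgroup X) →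
        CtlD (zjI (𝔉 X) D) (S : Subgroup X) := by
  intro n
  induction n using Nat.strong_induction_on with
  | _ n IH =>
    intro X _ _ hn hps S D hD
    have hfam := h𝔉.fam X
    -- trivial case: `D` normal
    by_cases hDn : Subgroup.normalizer (D : Set X) = ⊤
    · intro A h _ _
      exact RelD.of_mem (Subgroup.mem_top h)
        (normalizer_le_normalizer_zjI hfam D (by rw [hDn]; exact Subgroup.mem_top h))
    have hD1 : D ≠ ⊥ := by
      intro h
      apply hDn
      rw [h]
      exact Subgroup.normalizer_eq_top_iff.mpr inferInstance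
    have hsub : SubHyp p 𝔉 X := by
      intro H hH S₁ D₁ hS₁H hS₁p hS₁i hD₁ A h hh hA hAh
      have hlt : Nat.card H < n := by
        rw [← hn]
        have h1 : H < ⊤ := lt_top_iff_ne_top.2 hH
        have h2 := card_lt_card_of_lt h1
        rwa [Subgroup.card_top] at h2
      have hS₁p' : IsPGroup p ↥(S₁.subgroupOf H) := IsPGroup.comap_subtype hS₁p
      obtain ⟨T, hT⟩ : ∃ T : Sylow p ↥H, (T : Subgroup ↥H) = S₁.subgroupOf H :=
        ⟨hS₁p'.toSylow hS₁i, IsPGroup.toSylow_coe hS₁p' hS₁i⟩
      have hD₁' : Cfsg.IsStronglyClosed (D₁.subgroupOf H) (T : Subgroup ↥H) := by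
        rw [hT]; exact stronglyClosed_subgroupOf hD₁ H
      have hctl := IH _ hlt H rfl (pst_subgroup H hps) T _ hD₁'
      rw [hT] at hctl
      exact relD_of_subgroup h𝔉 H S₁ D₁ hS₁H hD₁.1 hctl A h hh hA hAh
    have hquot : ∀ (N : Subgroup X) [N.Normal], N ≠ ⊥ →
        CtlD (zjI (𝔉 (X ⧸ N)) (D.map (QuotientGroup.mk' N)))
          ((S : Subgroup X).map (QuotientGroup.mk' N)) := by
      intro N _ hN
      have hlt : Nat.card (X ⧸ N) < n := by
        rw [← hn, ← Subgroup.index_eq_card, ← Subgroup.card_mul_index N]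
        have h1 : 1 < Nat.card N := by
          rw [Subgroup.one_lt_card_iff_ne_bot]; exact hN
        have h2 : 0 < N.index := Nat.pos_of_ne_zero Subgroup.index_ne_zero_of_finite
        nlinarith
      have hsurj : Function.Surjective (QuotientGroup.mk' N) := QuotientGroup.mk'_surjective N
      exact IH _ hlt (X ⧸ N) rfl (pst_quotient N hps) (S.mapSurjective hsurj) _
        (stronglyClosed_map_mk S hD N)
    by_cases hcon : Constrained p X
    · have := zjI_normal_of_scheme h𝔉 (pst_top hps) hcon S D hD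
      intro A h _ _
      refine RelD.of_mem (Subgroup.mem_top h) ?_
      rw [Subgroup.normalizer_eq_top_iff.mpr inferInstance]
      exact Subgroup.mem_top h
    by_cases hK : Cfsg.pPrimeCore p X = ⊥
    · by_cases hP : Cfsg.pCore p X = ⊥
      · exact ctlD_of_pCore_eq_bot h𝔉 S D hD hD1 hP hsub
      · by_cases hDP : D ≤ Cfsg.pCore p X
        · exfalso
          apply hDn
          rw [Subgroup.normalizer_eq_top_iff]
          refine ⟨fun d hd g => ?_⟩
          have := Cfsg.Agent.helper1.pCore_normal (G := X) p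
          have h1 : g * d * g⁻¹ ∈ Cfsg.pCore p X :=
            Subgroup.Normal.conj_mem inferInstance d (hDP hd) g
          exact hD.2 d hd g (Cfsg.Agent.helper1.pCore_le_sylow S h1)
        · exact ctlD_case_B3 h𝔉 S D hD hsub hquot hK hP hcon hDP
    · have : (Cfsg.pPrimeCore p X).Normal := Cfsg.Agent.helper1.pPrimeCore_normal p
      exact ctlD_lift_coprime h𝔉 S D hD _ (Cfsg.Agent.helper1.pPrimeCore_coprime p)
        (hquot (Cfsg.pPrimeCore p X) hK)

end main

end Cfsg.Agent.helper3
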