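import Mathlib
import Cfsg.Agent.Lib_helper3_SecD2
import Cfsg.Agent.Lib_helper3_Free

/-!
Glauberman's section theorem for `Z(J(D))`, for an abstract subgroup/quotient closed class of
`p`-stable groups; in particular for groups with `SL₂(p)`-free automizers (helper3).
-/

set_option autoImplicit false

namespace Cfsg.Agent.helper3

open Cfsg Cfsg.Agent.helper10

universe u

section main

variable {p : ℕ} [hp : Fact p.Prime]
  {𝔉 : ∀ (X : Type u) [Group X], Subgroup X → Set (Subgroup X)}

/-- Section theorem for an abstract class `𝒞` of `p`-stable groups closed under subgroups and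
quotients. -/
theorem sectionD_class (h𝔉 : DScheme p 𝔉) (𝒞 : ∀ (X : Type u) [Group X], Prop)
    (hsub𝒞 : ∀ (X : Type u) [Group X] [Finite X] (H : Subgroup X), 𝒞 X → 𝒞 ↥H)
    (hquot𝒞 : ∀ (X : Type u) [Group X] [Finite X] (N : Subgroup X) [N.Normal], 𝒞 X → 𝒞 (X ⧸ N))
    (hst𝒞 : ∀ (X : Type u) [Group X] [Finite X], 𝒞 X → Cfsg.IsNormalizerPStable p X) :
    ∀ (n : ℕ) (X : Type u) [Group X] [Finite X], Nat.card X = n → 𝒞 X →
      ∀ (S : Sylow p X) (D : Subgroup X), Cfsg.IsStronglyClosed D (S : Subgroup X) →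
        CtlD (zjI (𝔉 X) D) (S : Subgroup X) := by
  intro n
  induction n using Nat.strong_induction_on with
  | _ n IH =>
    intro X _ _ hn hps S D hD
    have hfam := h𝔉.fam X
    -- trivial case: `D` normal
    by_cases hDn : Subgroup.normalizer (D : Set X) = ⊤
    · intro A h _ _
      exact RelD.of_mem (Subgroup.mem_top h)
        (normalizer_le_normalizer_zjI hfam D (by rw [hDn]; exact Subgroup.mem_top h))
    have hD1 : D ≠ ⊥ := by
      intro h
      apply hDn
      rw [h]
      exact Subgroup.normalizer_eq_top_iff.mpr inferInstance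
    have hsub : SubHyp p 𝔉 X := by
      intro H hH S₁ D₁ hS₁H hS₁p hS₁i hD₁ A h hh hA hAh
      have hlt : Nat.card H < n := by
        rw [← hn]
        have h1 : H < ⊤ := lt_top_iff_ne_top.2 hH
        have h2 := card_lt_card_of_lt h1
        rwa [Subgroup.card_top] at h2
      have hS₁p' : IsPGroup p ↥(S₁.subgroupOf H) := IsPGroup.comap_subtype hS₁p
      obtain ⟨T, hT⟩ : ∃ T : Sylow p ↥H, (T : Subgroup ↥H) = S₁.subgroupOf H :=
        ⟨hS₁p'.toSylow hS₁i, IsPGroup.toSylow_coe hS₁p' hS₁i⟩
      have hD₁' : Cfsg.IsStronglyClosed (D₁.subgroupOf H) (T : Subgroup ↥H) := by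
        rw [hT]; exact stronglyClosed_subgroupOf hD₁ H
      have hctl := IH _ hlt H rfl (hsub𝒞 X H hps) T _ hD₁'
      rw [hT] at hctl
      exact relD_of_subgroup h𝔉 H S₁ D₁ hS₁H hD₁.1 hctl A h hh hA hAh
    have hquot : ∀ (N : Subgroup X) [N.Normal], N ≠ ⊥ →
        CtlD (zjI (𝔉 (X ⧸ N)) (D.map (QuotientGroup.mk' N)))
          ((S : Subgroup X).map (QuotientGroup.mk' N)) := by
      intro N _ hN
      have hlt : Nat.card (X ⧸ N) < n := by
        rw [← hn, ← Subgroup.index_eq_card, ← Subgroup.card_mul_index N]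
        have h1 : 1 < Nat.card N := by
          rw [Subgroup.one_lt_card_iff_ne_bot]; exact hN
        have h2 : 0 < N.index := Nat.pos_of_ne_zero Subgroup.index_ne_zero_of_finite
        nlinarith
      have hsurj : Function.Surjective (QuotientGroup.mk' N) := QuotientGroup.mk'_surjective N
      exact IH _ hlt (X ⧸ N) rfl (hquot𝒞 X N hps) (S.mapSurjective hsurj) _
        (stronglyClosed_map_mk S hD N)
    by_cases hcon : Constrained p X
    · have := zjI_normal_of_scheme h𝔉 (hst𝒞 X hps) hcon S D hD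
      intro A h _ _
      refine RelD.of_mem (Subgroup.mem_top h) ?_
      rw [Subgroup.normalizer_eq_top_iff.mpr inferInstance]
      exact Subgroup.mem_top h
    by_cases hK : Cfsg.pPrimeCore p X = ⊥
    · by_cases hP : Cfsg.pCore p X = ⊥
      · exact ctlD_of_pCore_eq_bot h𝔉 S D hD hD1 hP hsub
      · by_cases hDP : D ≤ Cfsg.pCore p X
        · exfalso
          apply hDn
          rw [Subgroup.normalizer_eq_top_iff]
          refine ⟨fun d hd g => ?_⟩
          have := Cfsg.Agent.helper1.pCore_normal (G := X) p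
          have h1 : g * d * g⁻¹ ∈ Cfsg.pCore p X :=
            Subgroup.Normal.conj_mem inferInstance d (hDP hd) g
          exact hD.2 d hd g (Cfsg.Agent.helper1.pCore_le_sylow S h1)
        · exact ctlD_case_B3 h𝔉 S D hD hsub hquot hK hP hcon hDP
    · have : (Cfsg.pPrimeCore p X).Normal := Cfsg.Agent.helper1.pPrimeCore_normal p
      exact ctlD_lift_coprime h𝔉 S D hD _ (Cfsg.Agent.helper1.pPrimeCore_coprime p)
        (hquot (Cfsg.pPrimeCore p X) hK)

/-- Section theorem for groups with `SL₂(p)`-free automizers. -/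
theorem sectionD_free (hp2 : p ≠ 2) (h𝔉 : DScheme p 𝔉) (X : Type u) [Group X] [Finite X]
    (hX : FreeAut p X) (S : Sylow p X) (D : Subgroup X)
    (hD : Cfsg.IsStronglyClosed D (S : Subgroup X)) :
    CtlD (zjI (𝔉 X) D) (S : Subgroup X) :=
  sectionD_class h𝔉 (fun X _ => FreeAut p X)
    (fun X _ _ H h => freeAut_subgroup H h)
    (fun X _ _ N _ h => freeAut_quotient N h)
    (fun X _ _ h => isNormalizerPStable_of_freeAut hp2 h)
    _ X rfl hX S D hD

end main

end Cfsg.Agent.helper3
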