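import Mathlib
import Cfsg.Agent.Lib_helper3_SecD3

/-!
Lifting control of strong fusion through a normal `p`-subgroup `P` with `X = S·C_X(P)` (helper3).
-/

set_option autoImplicit false

namespace Cfsg.Agent.helper3

open Cfsg Cfsg.Agent.helper10

universe u

section lift

variable {X : Type u} [Group X] [Finite X] {p : ℕ} [hp : Fact p.Prime]

local notation:max K "^[" g "]" => Subgroup.map (MulEquiv.toMonoidHom (MulAut.conj g)) K

/-- The descending induction for lifting control through a normal `p`-subgroup. -/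
theorem relD_lift_pNormal (S : Sylow p X) (P : Subgroup X) [P.Normal] (hPS : P ≤ (S : Subgroup X))
    (hSC : (S : Subgroup X) ⊔ Subgroup.centralizer (P : Set X) = ⊤)
    (Vb : Subgroup (X ⧸ P))
    (hSV : (S : Subgroup X).map (QuotientGroup.mk' P) ≤ Subgroup.normalizer (Vb : Set (X ⧸ P)))
    (hquot : CtlD Vb ((S : Subgroup X).map (QuotientGroup.mk' P))) :
    ∀ (m : ℕ) (Q : Subgroup X), P ≤ Q → Q ≤ (S : Subgroup X) →
      Nat.card (S : Subgroup X) - Nat.card Q = m → ∀ h : X,
      lconj h (Q : Set X) ⊆ ((S : Subgroup X) : Set X) →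
      RelD ⊤ (Vb.comap (QuotientGroup.mk' P)) (Q : Set X) h := by
  have hSp : IsPGroup p (S : Subgroup X) := S.isPGroup'
  have hsurj : Function.Surjective (QuotientGroup.mk' P) := QuotientGroup.mk'_surjective P
  have hpreS : ∀ x : X, (QuotientGroup.mk' P) x ∈ (S : Subgroup X).map (QuotientGroup.mk' P) ↔
      x ∈ (S : Subgroup X) := by
    intro x
    rw [← Subgroup.mem_comap, Subgroup.comap_map_eq, QuotientGroup.ker_mk', sup_eq_left.2 hPS]
  have hker : ∀ x : X, (QuotientGroup.mk' P) x = 1 → x ∈ P := by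
    intro x hx
    rw [← QuotientGroup.ker_mk' P]; exact hx
  have hSR : (S : Subgroup X) ≤ Subgroup.normalizer
      (((Vb.comap (QuotientGroup.mk' P) : Subgroup X)) : Set X) := by
    intro s hs
    apply Subgroup.le_normalizer_comap (QuotientGroup.mk' P)
    rw [Subgroup.mem_comap]
    exact hSV ⟨s, hs, rfl⟩
  intro m
  induction m using Nat.strong_induction_on with
  | _ m IH =>
    intro Q hPQ hQS hm h hh
    -- the element in the quotient
    have hAq : (QuotientGroup.mk' P) '' (Q : Set X) ⊆ ((((S : Subgroup X).map (QuotientGroup.mk' P) :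
        Subgroup (X ⧸ P)) : Set (X ⧸ P))) := by
      rintro _ ⟨a, ha, rfl⟩
      exact ⟨a, hQS ha, rfl⟩
    have hAhq : lconj ((QuotientGroup.mk' P) h) ((QuotientGroup.mk' P) '' (Q : Set X)) ⊆
        ((((S : Subgroup X).map (QuotientGroup.mk' P) : Subgroup (X ⧸ P)) : Set (X ⧸ P))) := by
      rw [← image_lconj]
      rintro _ ⟨a, ha, rfl⟩
      exact ⟨a, hh ha, rfl⟩
    obtain ⟨cb, -, hcbN, hag⟩ := hquot _ _ hAq hAhq
    obtain ⟨c, hc⟩ := hsurj cb
    have hcR : c ∈ Subgroup.normalizer (((Vb.comap (QuotientGroup.mk' P) : Subgroup X)) : Set X) := by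
      apply Subgroup.le_normalizer_comap (QuotientGroup.mk' P)
      rw [Subgroup.mem_comap, hc]
      exact hcbN
    have hRelc : RelD ⊤ (Vb.comap (QuotientGroup.mk' P)) (Q : Set X) c :=
      RelD.of_mem (Subgroup.mem_top c) hcR
    -- the remaining element
    obtain ⟨y, hy⟩ : ∃ y : X, y = c⁻¹ * h := ⟨_, rfl⟩
    have hyQ : ∀ q ∈ Q, y * q * y⁻¹ * q⁻¹ ∈ P := by
      intro q hq
      apply hker
      have h1 := hag ((QuotientGroup.mk' P) q) ⟨q, hq, rfl⟩
      rw [← hc] at h1
      rw [hy]
      simp only [map_mul, map_inv] at h1 ⊢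
      calc ((QuotientGroup.mk' P) c)⁻¹ * (QuotientGroup.mk' P) h * (QuotientGroup.mk' P) q *
            (((QuotientGroup.mk' P) c)⁻¹ * (QuotientGroup.mk' P) h)⁻¹ * ((QuotientGroup.mk' P) q)⁻¹
          = ((QuotientGroup.mk' P) c)⁻¹ * ((QuotientGroup.mk' P) h * (QuotientGroup.mk' P) q *
            ((QuotientGroup.mk' P) h)⁻¹) * (QuotientGroup.mk' P) c * ((QuotientGroup.mk' P) q)⁻¹ := by
            group
        _ = ((QuotientGroup.mk' P) c)⁻¹ * ((QuotientGroup.mk' P) c * (QuotientGroup.mk' P) q *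
            ((QuotientGroup.mk' P) c)⁻¹) * (QuotientGroup.mk' P) c * ((QuotientGroup.mk' P) q)⁻¹ := by
            rw [h1]
        _ = 1 := by group
    have hyN : y ∈ Subgroup.normalizer (Q : Set X) := by
      apply mem_normalizer_of_map_conj_le
      rintro _ ⟨q, hq, rfl⟩
      have h1 : y * q * y⁻¹ = (y * q * y⁻¹ * q⁻¹) * q := by group
      show y * q * y⁻¹ ∈ Q
      rw [h1]
      exact Q.mul_mem (hPQ (hyQ q hq)) hq
    have hyQset : lconj y (Q : Set X) = (Q : Set X) := by
      rw [lconj_coe, (mem_normalizer_iff_map_conj Q y).1 hyN]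
    -- `y` acts as an element of `N(V)`
    have hRely : RelD ⊤ (Vb.comap (QuotientGroup.mk' P)) (Q : Set X) y := by
      by_cases hQeq : Q = (S : Subgroup X)
      · have hext : ¬ p ∣ ((S : Subgroup X) ⊓ Subgroup.normalizer (Q : Set X)).relIndex
            (Subgroup.normalizer (Q : Set X)) := by
          rw [hQeq, inf_eq_left.2 Subgroup.le_normalizer]
          intro hdvd
          exact S.not_dvd_index ((Subgroup.relIndex_mul_index
            (Subgroup.le_normalizer (H := (S : Subgroup X)))) ▸ Dvd.dvd.mul_right hdvd _)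
        obtain ⟨s, hs, hsq⟩ := exists_sylow_elt_of_trivial_on_quotient S P hSC Q hPQ hQS
          hext y ⟨hyN, hyQ⟩
        exact (RelD.of_mem (Subgroup.mem_top s) (hSR hs)).congr hsq
      · have hlt : Q < (S : Subgroup X) := lt_of_le_of_ne hQS hQeq
        have hVlt := lt_inf_normalizer_of_lt hSp hlt
        obtain ⟨g, hgS, hgext⟩ := exists_extremal_conj S Q
          ((S : Subgroup X) ⊓ Subgroup.normalizer (Q : Set X)) (hSp.to_le inf_le_left) inf_le_right
        have hVcard := card_lt_card_of_lt hVlt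
        have hVle : Nat.card ((S : Subgroup X) ⊓ Subgroup.normalizer (Q : Set X) : Subgroup X) ≤
            Nat.card (S : Subgroup X) := Subgroup.card_le_of_le inf_le_left
        have hRelV := IH (Nat.card (S : Subgroup X) -
          Nat.card ((S : Subgroup X) ⊓ Subgroup.normalizer (Q : Set X) : Subgroup X)) (by omega)
          ((S : Subgroup X) ⊓ Subgroup.normalizer (Q : Set X)) (hPQ.trans hVlt.le) inf_le_left rfl g
          (by rw [lconj_coe]; exact_mod_cast hgS)
        have hRelQg : RelD ⊤ (Vb.comap (QuotientGroup.mk' P)) (Q : Set X) g :=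
          hRelV.mono (by exact_mod_cast hVlt.le)
        -- the extremal conjugate
        have hPQ' : P ≤ Q^[g] := by
          have h1 : P^[g] = P := (mem_normalizer_iff_map_conj P g).1
            (by rw [Subgroup.normalizer_eq_top]; exact Subgroup.mem_top g)
          rw [← h1]
          exact Subgroup.map_mono hPQ
        have hQ'S : Q^[g] ≤ (S : Subgroup X) := (Subgroup.map_mono hVlt.le).trans hgS
        have hy' : g * y * g⁻¹ ∈ quotStab P (Q^[g]) := by
          refine ⟨?_, ?_⟩
          · rw [normalizer_map_conj]; exact conj_mem_map_conj _ g y hyN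
          · rintro _ ⟨q, hq, rfl⟩
            have h1 : g * (y * q * y⁻¹ * q⁻¹) * g⁻¹ ∈ P :=
              Subgroup.Normal.conj_mem inferInstance _ (hyQ q hq) g
            have h2 : g * y * g⁻¹ * (g * q * g⁻¹) * (g * y * g⁻¹)⁻¹ * (g * q * g⁻¹)⁻¹ =
                g * (y * q * y⁻¹ * q⁻¹) * g⁻¹ := by group
            show g * y * g⁻¹ * (g * q * g⁻¹) * (g * y * g⁻¹)⁻¹ * (g * q * g⁻¹)⁻¹ ∈ P
            rw [h2]; exact h1
        obtain ⟨s, hs, hsq⟩ := exists_sylow_elt_of_trivial_on_quotient S P hSC (Q^[g]) hPQ' hQ'S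
          hgext (g * y * g⁻¹) hy'
        have hRely' : RelD ⊤ (Vb.comap (QuotientGroup.mk' P)) ((Q^[g] : Subgroup X) : Set X)
            (g * y * g⁻¹) :=
          (RelD.of_mem (Subgroup.mem_top s) (hSR hs)).congr hsq
        have hy'set : lconj (g * y * g⁻¹) ((Q^[g] : Subgroup X) : Set X) = ((Q^[g] : Subgroup X) : Set X) := by
          rw [lconj_coe, (mem_normalizer_iff_map_conj _ _).1 hy'.1]
        have hRelginv := hRelQg.symm
        rw [lconj_coe] at hRelginv
        have hR1 := hRelQg.trans (by rw [lconj_coe]; exact hRely')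
        have hR2 := hR1.trans (by
          rw [← lconj_lconj, lconj_coe, hy'set]; exact hRelginv)
        have e : g⁻¹ * (g * y * g⁻¹ * g) = y := by group
        rw [e] at hR2
        exact hR2
    have hfin := hRely.trans (by rw [hyQset]; exact hRelc)
    have e : c * y = h := by rw [hy]; group
    rw [e] at hfin
    exact hfin

/-- Lifting control of strong fusion through a normal `p`-subgroup `P` with `X = S·C_X(P)`. -/
theorem ctlD_lift_pNormal (S : Sylow p X) (P : Subgroup X) [P.Normal] (hPS : P ≤ (S : Subgroup X))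
    (hSC : (S : Subgroup X) ⊔ Subgroup.centralizer (P : Set X) = ⊤)
    (Vb : Subgroup (X ⧸ P))
    (hSV : (S : Subgroup X).map (QuotientGroup.mk' P) ≤ Subgroup.normalizer (Vb : Set (X ⧸ P)))
    (hquot : CtlD Vb ((S : Subgroup X).map (QuotientGroup.mk' P))) :
    CtlD (Vb.comap (QuotientGroup.mk' P)) (S : Subgroup X) := by
  intro A h hA hAh
  obtain ⟨Q, hQ⟩ : ∃ Q : Subgroup X, Q = Subgroup.closure A ⊔ P := ⟨_, rfl⟩
  have hQS : Q ≤ (S : Subgroup X) := by
    rw [hQ]; exact sup_le ((Subgroup.closure_le _).2 hA) hPS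
  have hQh : lconj h (Q : Set X) ⊆ ((S : Subgroup X) : Set X) := by
    rw [lconj_coe, SetLike.coe_subset_coe, hQ, Subgroup.map_sup, MonoidHom.map_closure]
    refine sup_le ?_ ?_
    · rw [Subgroup.closure_le]
      rintro _ ⟨a, ha, rfl⟩
      exact hAh ⟨a, ha, by simp [MulAut.conj_apply]⟩
    · have h1 : P^[h] = P := (mem_normalizer_iff_map_conj P h).1
        (by rw [Subgroup.normalizer_eq_top]; exact Subgroup.mem_top h)
      rw [h1]; exact hPS
  have hmain := relD_lift_pNormal S P hPS hSC Vb hSV hquot _ Q (by rw [hQ]; exact le_sup_right)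
    hQS rfl h hQh
  exact hmain.mono (by
    intro a ha
    rw [hQ]
    exact Subgroup.mem_sup_left (Subgroup.subset_closure ha))

end lift

end Cfsg.Agent.helper3
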