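import Mathlib
import Cfsg.Agent.Lib_helper3_FN

/-!
Subgroups `V ⊴ P` whose normalizer controls strong fusion in `P` (helper3).
-/

set_option autoImplicit false

namespace Cfsg.Agent.helper3

open Cfsg Cfsg.Agent.helper10

universe u

section fn

variable {G : Type u} [Group G]

local notation:max K "^[" g "]" => Subgroup.map (MulEquiv.toMonoidHom (MulAut.conj g)) K

/-- `V ≤ P` is normalized by `P` and `N(V)` controls strong fusion in `P`. -/
def FN (P V : Subgroup G) : Prop :=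
  V ≤ P ∧ P ≤ Subgroup.normalizer (V : Set G) ∧ CtlD V P

theorem FN.bot (P : Subgroup G) : FN P ⊥ := by
  have h : Subgroup.normalizer (((⊥ : Subgroup G)) : Set G) = ⊤ :=
    Subgroup.normalizer_eq_top_iff.mpr inferInstance
  refine ⟨bot_le, ?_, ?_⟩
  · rw [h]; exact le_top
  · intro A g _ _
    exact RelD.of_mem (Subgroup.mem_top g) (by rw [h]; exact Subgroup.mem_top g)

theorem FN.sup [Finite G] {P V₁ V₂ : Subgroup G} (h₁ : FN P V₁) (h₂ : FN P V₂) :
    FN P (V₁ ⊔ V₂) := by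
  obtain ⟨h1a, h1b, h1c⟩ := h₁
  obtain ⟨h2a, h2b, h2c⟩ := h₂
  have hN : ∀ x, x ∈ Subgroup.normalizer (V₁ : Set G) → x ∈ Subgroup.normalizer (V₂ : Set G) →
      x ∈ Subgroup.normalizer ((V₁ ⊔ V₂ : Subgroup G) : Set G) := by
    intro x hx1 hx2
    rw [mem_normalizer_iff_map_conj] at hx1 hx2 ⊢
    rw [Subgroup.map_sup, hx1, hx2]
  refine ⟨sup_le h1a h2a, fun s hs => hN s (h1b hs) (h2b hs), ?_⟩
  intro A h hA hAh
  obtain ⟨x₁, -, hx₁N, hx₁A⟩ := h1c A h hA hAh
  have hA' : A ∪ (V₁ : Set G) ⊆ (P : Set G) := Set.union_subset hA h1a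
  have hA'x : lconj x₁ (A ∪ (V₁ : Set G)) ⊆ (P : Set G) := by
    rintro _ ⟨a, ha | ha, rfl⟩
    · show x₁ * a * x₁⁻¹ ∈ P
      rw [hx₁A a ha]; exact hAh (mem_lconj ha)
    · exact h1a ((Subgroup.mem_normalizer_iff.mp hx₁N a).mp ha)
  obtain ⟨x₂, -, hx₂N, hx₂A⟩ := h2c _ x₁ hA' hA'x
  have hx₂V₁ : x₂ ∈ Subgroup.normalizer (V₁ : Set G) := by
    apply mem_normalizer_of_map_conj_le
    rintro _ ⟨v, hv, rfl⟩
    show x₂ * v * x₂⁻¹ ∈ V₁
    rw [hx₂A v (Or.inr hv)]
    exact (Subgroup.mem_normalizer_iff.mp hx₁N v).mp hv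
  exact ⟨x₂, Subgroup.mem_top _, hN x₂ hx₂V₁ hx₂N,
    fun a ha => (hx₂A a (Or.inl ha)).trans (hx₁A a ha)⟩

theorem exists_largest_FN [Finite G] (P : Subgroup G) :
    ∃ Q₀ : Subgroup G, FN P Q₀ ∧ ∀ V, FN P V → V ≤ Q₀ := by
  classical
  have hfin : ({V | FN P V} : Set (Subgroup G)).Finite := Set.toFinite _
  refine ⟨hfin.toFinset.sup id, ?_, fun V hV => ?_⟩
  · exact Finset.sup_induction (p := FN P) (FN.bot P) (fun a ha b hb => FN.sup ha hb)
      (fun b hb => by simpa using hb)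
  · exact Finset.le_sup (f := id) (by simpa using hV)

/-- Second isomorphism theorem, index form. -/
theorem relIndex_sup_of_normalizes (T Y : Subgroup G)
    (h : T ≤ Subgroup.normalizer (Y : Set G)) : Y.relIndex (T ⊔ Y) = Y.relIndex T := by
  letI := Subgroup.normal_subgroupOf_of_le_normalizer h
  letI := Subgroup.normal_subgroupOf_sup_of_le_normalizer h
  exact Nat.card_congr (QuotientGroup.quotientInfEquivProdNormalizerQuotient T Y h).toEquiv.symm

theorem normalizer_le_normalizer_centralizer (R : Subgroup G) :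
    Subgroup.normalizer (R : Set G) ≤
      Subgroup.normalizer ((Subgroup.centralizer (R : Set G) : Subgroup G) : Set G) := by
  have key : ∀ n ∈ Subgroup.normalizer (R : Set G), ∀ c ∈ Subgroup.centralizer (R : Set G),
      n * c * n⁻¹ ∈ Subgroup.centralizer (R : Set G) := by
    intro n hn c hc
    rw [Subgroup.mem_centralizer_iff] at hc ⊢
    intro r hr
    have hr' : n⁻¹ * r * n⁻¹⁻¹ ∈ R :=
      (Subgroup.mem_normalizer_iff.mp (Subgroup.inv_mem _ hn) r).mp hr
    have h1 := hc _ hr'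
    calc r * (n * c * n⁻¹) = n * ((n⁻¹ * r * n⁻¹⁻¹) * c) * n⁻¹ := by group
      _ = n * (c * (n⁻¹ * r * n⁻¹⁻¹)) * n⁻¹ := by rw [h1]
      _ = n * c * n⁻¹ * r := by group
  intro n hn
  rw [Subgroup.mem_normalizer_iff]
  intro c
  refine ⟨key n hn c, fun h => ?_⟩
  have := key n⁻¹ (Subgroup.inv_mem _ hn) _ h
  have e : n⁻¹ * (n * c * n⁻¹) * n⁻¹⁻¹ = c := by group
  rwa [e] at this

/-- The largest `FN`-subgroup lies in every centric radical subgroup. -/
theorem FN.le_of_centric_radical [Finite G] {p : ℕ} [Fact p.Prime] {P Q₀ R : Subgroup G}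
    (hP : IsPGroup p P) (hQ₀ : FN P Q₀) (hRP : R ≤ P)
    (hcen : P ⊓ Subgroup.centralizer (R : Set G) ≤ R)
    (hrad : ∀ X : Subgroup G, X ≤ Subgroup.normalizer (R : Set G) →
      (∀ n ∈ Subgroup.normalizer (R : Set G), X.map (MulAut.conj n).toMonoidHom = X) →
      R ⊔ Subgroup.centralizer (R : Set G) ≤ X →
      (∃ k : ℕ, (R ⊔ Subgroup.centralizer (R : Set G)).relIndex X = p ^ k) →
      X = R ⊔ Subgroup.centralizer (R : Set G)) : Q₀ ≤ R := by
  by_contra hQR
  obtain ⟨hQ₀P, hPQ₀, hctl⟩ := hQ₀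
  obtain ⟨T, hT⟩ : ∃ T : Subgroup G, T = Q₀ ⊔ R := ⟨_, rfl⟩
  have hTP : T ≤ P := by rw [hT]; exact sup_le hQ₀P hRP
  have hRT : R < T := by
    refine lt_of_le_of_ne (by rw [hT]; exact le_sup_right) ?_
    intro h
    apply hQR
    rw [h, hT]; exact le_sup_left
  have hT₁ := lt_inf_normalizer_of_lt (hP.to_le hTP) hRT
  obtain ⟨T₁, hT₁def⟩ : ∃ T₁ : Subgroup G, T₁ = T ⊓ Subgroup.normalizer (R : Set G) := ⟨_, rfl⟩
  rw [← hT₁def] at hT₁
  obtain ⟨C, hC⟩ : ∃ C : Subgroup G, C = Subgroup.centralizer (R : Set G) := ⟨_, rfl⟩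
  rw [← hC] at hcen hrad
  have hCN : C ≤ Subgroup.normalizer (R : Set G) := by
    rw [hC]; exact Subgroup.centralizer_le_normalizer _
  have hT₁N : T₁ ≤ Subgroup.normalizer (R : Set G) := by rw [hT₁def]; exact inf_le_right
  have hNC : Subgroup.normalizer (R : Set G) ≤ Subgroup.normalizer (C : Set G) := by
    rw [hC]; exact normalizer_le_normalizer_centralizer R
  have hRC_N : R ⊔ C ≤ Subgroup.normalizer (R : Set G) := sup_le Subgroup.le_normalizer hCN
  have hNRC : Subgroup.normalizer (R : Set G) ≤ Subgroup.normalizer ((R ⊔ C : Subgroup G) : Set G) := by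
    intro n hn
    have h1 := (mem_normalizer_iff_map_conj R n).1 hn
    have h2 := (mem_normalizer_iff_map_conj C n).1 (hNC hn)
    rw [mem_normalizer_iff_map_conj, Subgroup.map_sup, h1, h2]
  -- the subgroup `X`
  obtain ⟨X, hX⟩ : ∃ X : Subgroup G, X = T₁ ⊔ (R ⊔ C) := ⟨_, rfl⟩
  have hXN : X ≤ Subgroup.normalizer (R : Set G) := by
    rw [hX]; exact sup_le hT₁N hRC_N
  have hRCX : R ⊔ C ≤ X := by rw [hX]; exact le_sup_right
  have hXidx : ∃ k : ℕ, (R ⊔ C).relIndex X = p ^ k := by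
    rw [hX, relIndex_sup_of_normalizes T₁ (R ⊔ C) (hT₁N.trans hNRC)]
    have hT₁p : IsPGroup p T₁ := hP.to_le (by rw [hT₁def]; exact inf_le_left.trans hTP)
    exact hT₁p.index _
  have hXinv : ∀ n ∈ Subgroup.normalizer (R : Set G), X^[n] = X := by
    intro n hn
    -- decompose `n`
    have hnR := (mem_normalizer_iff_map_conj R n).1 hn
    obtain ⟨x, -, hxQ₀, hxR⟩ := hctl (R : Set G) n (by exact_mod_cast hRP)
      (by rw [lconj_coe, hnR]; exact_mod_cast hRP)
    have hxN : x ∈ Subgroup.normalizer (R : Set G) := by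
      apply mem_normalizer_of_map_conj_le
      rintro _ ⟨r, hr, rfl⟩
      show x * r * x⁻¹ ∈ R
      rw [hxR r hr]
      exact (Subgroup.mem_normalizer_iff.mp hn r).mp hr
    have hc : x⁻¹ * n ∈ C := by
      rw [hC, Subgroup.mem_centralizer_iff]
      intro r hr
      have h1 := hxR r hr
      calc r * (x⁻¹ * n) = x⁻¹ * (x * r * x⁻¹) * n := by group
        _ = x⁻¹ * (n * r * n⁻¹) * n := by rw [h1]
        _ = x⁻¹ * n * r := by group
    have hxT : T^[x] = T := by
      rw [hT, Subgroup.map_sup, (mem_normalizer_iff_map_conj Q₀ x).1 hxQ₀,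
        (mem_normalizer_iff_map_conj R x).1 hxN]
    have hxNN : (Subgroup.normalizer (R : Set G))^[x] = Subgroup.normalizer (R : Set G) :=
      (mem_normalizer_iff_map_conj _ x).1 (Subgroup.le_normalizer hxN)
    have hxT₁ : T₁^[x] = T₁ := by
      rw [hT₁def, Subgroup.map_inf _ _ _ (MulAut.conj x).injective, hxT, hxNN]
    have hxRC : (R ⊔ C)^[x] = R ⊔ C := (mem_normalizer_iff_map_conj _ x).1 (hNRC hxN)
    have hxX : x ∈ Subgroup.normalizer (X : Set G) := by
      rw [mem_normalizer_iff_map_conj, hX, Subgroup.map_sup, hxT₁, hxRC]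
    have hcX : x⁻¹ * n ∈ Subgroup.normalizer (X : Set G) :=
      Subgroup.le_normalizer (hRCX (Subgroup.mem_sup_right hc))
    have hnX : n ∈ Subgroup.normalizer (X : Set G) := by
      have e : n = x * (x⁻¹ * n) := by group
      rw [e]; exact Subgroup.mul_mem _ hxX hcX
    exact (mem_normalizer_iff_map_conj X n).1 hnX
  have hXeq := hrad X hXN hXinv hRCX hXidx
  -- `T₁ ≤ R`
  apply not_le_of_gt hT₁
  intro t ht
  have htX : t ∈ R ⊔ C := by
    rw [← hXeq, hX]; exact Subgroup.mem_sup_left ht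
  have htP : t ∈ P := hTP (by rw [hT₁def] at ht; exact ht.1)
  have hRnC : R ≤ Subgroup.normalizer (C : Set G) := Subgroup.le_normalizer.trans hNC
  have hcoe := Subgroup.coe_mul_of_left_le_normalizer_right R C hRnC
  have htX' : t ∈ ((R ⊔ C : Subgroup G) : Set G) := htX
  rw [hcoe] at htX'
  obtain ⟨r, hr, c, hc, hrc⟩ := Set.mem_mul.mp htX'
  have hcP : c ∈ P := by
    have e : c = r⁻¹ * t := by rw [← hrc]; group
    rw [e]; exact P.mul_mem (P.inv_mem (hRP hr)) htP
  rw [← hrc]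
  exact R.mul_mem hr (hcen ⟨hcP, hc⟩)

end fn

end Cfsg.Agent.helper3
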