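import Mathlib
import Cfsg.Agent.Lib_helper3_FN2
import Cfsg.Agent.Lib_helper9_Gold

/-!
A normal `p`-subgroup containing every `FN`-subgroup is centric and radical (helper3).
-/

set_option autoImplicit false

namespace Cfsg.Agent.helper3

open Cfsg Cfsg.Agent.helper10

universe u

section thmE

variable {G : Type u} [Group G] [Finite G] {p : ℕ} [hp : Fact p.Prime]
  {𝔉 : ∀ (X : Type u) [Group X], Subgroup X → Set (Subgroup X)}

local notation:max K "^[" g "]" => Subgroup.map (MulEquiv.toMonoidHom (MulAut.conj g)) K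

/-- (E2) the radical property. -/
theorem radical_of_FN_le (P : Sylow p G) (Q : Subgroup G) [Q.Normal] (hQ : IsPGroup p Q)
    (hmax : ∀ V, FN (P : Subgroup G) V → V ≤ Q)
    (hE1 : (P : Subgroup G) ⊓ Subgroup.centralizer (Q : Set G) ≤ Q)
    (X : Subgroup G) [X.Normal] (hQCX : Q ⊔ Subgroup.centralizer (Q : Set G) ≤ X)
    (hidx : ∃ k : ℕ, (Q ⊔ Subgroup.centralizer (Q : Set G)).relIndex X = p ^ k) :
    X ≤ Q ⊔ Subgroup.centralizer (Q : Set G) := by
  have hpp : p.Prime := Fact.out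
  obtain ⟨C, hC⟩ : ∃ C : Subgroup G, C = Subgroup.centralizer (Q : Set G) := ⟨_, rfl⟩
  rw [← hC] at hE1 hQCX hidx ⊢
  haveI hCn : C.Normal := by rw [hC]; infer_instance
  have hQP : Q ≤ (P : Subgroup G) := hQ.le_sylow_of_normal P
  obtain ⟨K, hK⟩ : ∃ K : Subgroup G, K = Cfsg.pPrimeCore p G := ⟨_, rfl⟩
  haveI hKn : K.Normal := by rw [hK]; exact Cfsg.Agent.helper1.pPrimeCore_normal p
  have hKcop : (Nat.card K).Coprime p := by rw [hK]; exact Cfsg.Agent.helper1.pPrimeCore_coprime p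
  -- `C ≤ Z K`
  obtain ⟨Z, hZ⟩ : ∃ Z : Subgroup G, Z = (P : Subgroup G) ⊓ C := ⟨_, rfl⟩
  have hZp : IsPGroup p Z := P.isPGroup'.to_le (by rw [hZ]; exact inf_le_left)
  have hZi : ¬ p ∣ Z.relIndex C := by
    rw [hZ]; exact Cfsg.Agent.helper19.sylow_inf_normal_not_dvd P C
  have hcent : ∀ z ∈ Z, ∀ c ∈ C, z * c = c * z := by
    intro z hz c hc
    rw [hZ] at hz
    rw [hC, Subgroup.mem_centralizer_iff] at hc
    exact hc z (hE1 hz)
  have hCle : C ≤ Z ⊔ K := by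
    rw [hK]; exact Cfsg.Agent.helper9.le_sup_pPrimeCore_of_central_sylow C Z hZp hZi hcent
  -- `Y`
  obtain ⟨Y, hY⟩ : ∃ Y : Subgroup G, Y = (P : Subgroup G) ⊓ X := ⟨_, rfl⟩
  have hYP : Y ≤ (P : Subgroup G) := by rw [hY]; exact inf_le_left
  have hYX : Y ≤ X := by rw [hY]; exact inf_le_right
  have hQY : Q ≤ Y := by rw [hY]; exact le_inf hQP (le_sup_left.trans hQCX)
  have hZY : Z ≤ Y := by
    rw [hY, hZ]; exact inf_le_inf_left _ (le_sup_right.trans hQCX)
  have hYi : ¬ p ∣ Y.relIndex X := by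
    rw [hY]; exact Cfsg.Agent.helper19.sylow_inf_normal_not_dvd P X
  have hXW : X ≤ Y ⊔ (Q ⊔ C) := by
    rw [← Subgroup.relIndex_eq_one]
    have hW1 : (Y ⊔ (Q ⊔ C)).relIndex X ∣ Y.relIndex X :=
      Subgroup.relIndex_dvd_of_le_left X le_sup_left
    have hW2 : (Y ⊔ (Q ⊔ C)).relIndex X ∣ (Q ⊔ C).relIndex X :=
      Subgroup.relIndex_dvd_of_le_left X le_sup_right
    obtain ⟨k, hk⟩ := hidx
    rw [hk] at hW2
    obtain ⟨j, -, hj⟩ := (Nat.dvd_prime_pow hpp).mp hW2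
    rcases Nat.eq_zero_or_pos j with h0 | h0
    · rw [hj, h0, pow_zero]
    · exfalso
      apply hYi
      refine Dvd.dvd.trans ?_ hW1
      rw [hj]; exact dvd_pow_self p h0.ne'
  have hXYK : X ≤ Y ⊔ K := by
    refine hXW.trans (sup_le le_sup_left (sup_le (hQY.trans le_sup_left) ?_))
    exact hCle.trans (sup_le (hZY.trans le_sup_left) le_sup_right)
  have hYKeq : Y ⊔ K = X ⊔ K :=
    le_antisymm (sup_le (hYX.trans le_sup_left) le_sup_right) (sup_le hXYK le_sup_right)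
  have hYKtop : Subgroup.normalizer ((Y ⊔ K : Subgroup G) : Set G) = ⊤ := by
    rw [hYKeq]; exact Subgroup.normalizer_eq_top_iff.mpr inferInstance
  have hPY : (P : Subgroup G) ≤ Subgroup.normalizer (Y : Set G) := by
    rw [hY]; exact sylow_le_normalizer_inf _ _
  have hFN : FN (P : Subgroup G) Y := by
    refine ⟨hYP, hPY, ?_⟩
    intro A g hA hAg
    obtain ⟨d, hdN, hdK, hdB⟩ := correct_step P K hKcop Y hYP hPY g
      (by rw [hYKtop]; exact Subgroup.mem_top g) A hA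
      (fun x hx => (le_sup_left : (P : Subgroup G) ≤ (P : Subgroup G) ⊔ K) (hAg hx))
    refine ⟨d, Subgroup.mem_top d, hdN, fun b hb => ?_⟩
    have h1 : d * b * d⁻¹ ∈ (P : Subgroup G) := hdB ⟨b, hb, rfl⟩
    have h2 : g * b * g⁻¹ ∈ (P : Subgroup G) := hAg ⟨b, hb, rfl⟩
    have h3 : (d * b * d⁻¹) * (g * b * g⁻¹)⁻¹ ∈ K := by
      have e1 : (d * b * d⁻¹) * (g * b * g⁻¹)⁻¹ =
          (d * g⁻¹) * ((g * b * g⁻¹) * (d * g⁻¹)⁻¹ * (g * b * g⁻¹)⁻¹) := by group
      rw [e1]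
      exact K.mul_mem hdK (hKn.conj_mem _ (K.inv_mem hdK) _)
    have h4 := eq_one_of_mem_of_coprime (P : Subgroup G) K P.isPGroup' hKcop _
      ((P : Subgroup G).mul_mem h1 ((P : Subgroup G).inv_mem h2)) h3
    exact mul_inv_eq_one.mp h4
  have hYQ := hmax Y hFN
  exact hXW.trans (sup_le (hYQ.trans le_sup_left) le_rfl)

/-- (E1) the centric property. -/
theorem inf_centralizer_le_of_FN_le (hp2 : p ≠ 2) (h𝔉 : DScheme p 𝔉) (hG : FreeAut p G)
    (P : Sylow p G) (Q : Subgroup G) [Q.Normal] (hQ : IsPGroup p Q)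
    (hmax : ∀ V, FN (P : Subgroup G) V → V ≤ Q) :
    (P : Subgroup G) ⊓ Subgroup.centralizer (Q : Set G) ≤ Q := by
  obtain ⟨C, hC⟩ : ∃ C : Subgroup G, C = Subgroup.centralizer (Q : Set G) := ⟨_, rfl⟩
  haveI hCn : C.Normal := by rw [hC]; infer_instance
  have hQP : Q ≤ (P : Subgroup G) := hQ.le_sylow_of_normal P
  obtain ⟨T, hT⟩ : ∃ T : Subgroup G, T = (P : Subgroup G) ⊓ (Q ⊔ C) := ⟨_, rfl⟩
  suffices hTQ : T ≤ Q by
    rw [← hC]
    refine le_trans ?_ hTQ
    rw [hT]; exact inf_le_inf_left _ le_sup_right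
  by_contra hTQ
  have hTP : T ≤ (P : Subgroup G) := by rw [hT]; exact inf_le_left
  have hQT : Q ≤ T := by rw [hT]; exact le_inf hQP le_sup_left
  have hTsc : Cfsg.IsStronglyClosed T (P : Subgroup G) := by
    refine ⟨hTP, fun d hd g hg => ?_⟩
    rw [hT] at hd ⊢
    exact ⟨hg, Subgroup.Normal.conj_mem inferInstance d hd.2 g⟩
  have hPNT : (P : Subgroup G) ≤ Subgroup.normalizer (T : Set G) := by
    rw [hT]; exact sylow_le_normalizer_inf _ _
  -- the subgroup `L = P C`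
  obtain ⟨L, hL⟩ : ∃ L : Subgroup G, L = (P : Subgroup G) ⊔ C := ⟨_, rfl⟩
  have hPL : (P : Subgroup G) ≤ L := by rw [hL]; exact le_sup_left
  have hCL : C ≤ L := by rw [hL]; exact le_sup_right
  have hTL : T ≤ L := hTP.trans hPL
  -- inside `L`
  obtain ⟨PL, hPLdef⟩ : ∃ PL : Sylow p ↥L, (PL : Subgroup ↥L) = (P : Subgroup G).subgroupOf L :=
    ⟨P.subtype hPL, Sylow.coe_subtype P hPL⟩
  have hQLP : Q.subgroupOf L ≤ (PL : Subgroup ↥L) := by
    intro x hx
    rw [hPLdef, Subgroup.mem_subgroupOf]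
    exact hQP (Subgroup.mem_subgroupOf.mp hx)
  have hSC : (PL : Subgroup ↥L) ⊔ Subgroup.centralizer ((Q.subgroupOf L : Subgroup ↥L) : Set ↥L) = ⊤ := by
    rw [eq_top_iff]
    intro x _
    have hx : (x : G) ∈ (P : Subgroup G) ⊔ C := by rw [← hL]; exact x.2
    obtain ⟨s, hs, c, hc, hsc⟩ := Subgroup.mem_sup_of_normal_right.mp hx
    have e : x = (⟨s, hPL hs⟩ : ↥L) * ⟨c, hCL hc⟩ := Subtype.ext hsc.symm
    rw [e]
    refine Subgroup.mul_mem_sup ?_ ?_
    · rw [hPLdef, Subgroup.mem_subgroupOf]; exact hs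
    · rw [Subgroup.mem_centralizer_iff]
      intro q hq
      apply Subtype.ext
      rw [hC, Subgroup.mem_centralizer_iff] at hc
      exact hc (q : G) (Subgroup.mem_subgroupOf.mp hq)
  have hTLsc : Cfsg.IsStronglyClosed (T.subgroupOf L) (PL : Subgroup ↥L) := by
    rw [hPLdef]; exact stronglyClosed_subgroupOf hTsc L
  have hsurjL : Function.Surjective (QuotientGroup.mk' (Q.subgroupOf L)) :=
    QuotientGroup.mk'_surjective _
  have hscq := stronglyClosed_map_mk PL hTLsc (Q.subgroupOf L)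
  have hctlq : CtlD (zjI (𝔉 (↥L ⧸ Q.subgroupOf L))
      ((T.subgroupOf L).map (QuotientGroup.mk' (Q.subgroupOf L))))
      ((PL : Subgroup ↥L).map (QuotientGroup.mk' (Q.subgroupOf L))) :=
    sectionD_free hp2 h𝔉 (↥L ⧸ Q.subgroupOf L)
      (freeAut_quotient (Q.subgroupOf L) (freeAut_subgroup L hG)) (PL.mapSurjective hsurjL) _ hscq
  have hSV : (PL : Subgroup ↥L).map (QuotientGroup.mk' (Q.subgroupOf L)) ≤
      Subgroup.normalizer ((zjI (𝔉 (↥L ⧸ Q.subgroupOf L))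
        ((T.subgroupOf L).map (QuotientGroup.mk' (Q.subgroupOf L))) :
          Subgroup (↥L ⧸ Q.subgroupOf L)) : Set (↥L ⧸ Q.subgroupOf L)) :=
    (stronglyClosed_le_normalizer hscq).trans (normalizer_le_normalizer_zjI (h𝔉.fam _) _)
  have hctlL := ctlD_lift_pNormal PL (Q.subgroupOf L) hQLP hSC _ hSV hctlq
  -- in `G`
  have hfamq := h𝔉.fam (G ⧸ Q)
  obtain ⟨Vb, hVb⟩ : ∃ Vb : Subgroup (G ⧸ Q), Vb = zjI (𝔉 (G ⧸ Q)) (T.map (QuotientGroup.mk' Q)) :=
    ⟨_, rfl⟩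
  obtain ⟨U, hU⟩ : ∃ U : Subgroup G, U = Vb.comap (QuotientGroup.mk' Q) := ⟨_, rfl⟩
  -- the map between the quotients
  obtain ⟨φ, hφ⟩ : ∃ φ : (↥L ⧸ Q.subgroupOf L) →* (G ⧸ Q),
      ∀ x : ↥L, φ (QuotientGroup.mk' (Q.subgroupOf L) x) = QuotientGroup.mk' Q (x : G) :=
    ⟨QuotientGroup.map (Q.subgroupOf L) Q L.subtype le_rfl, fun x => rfl⟩
  have hφinj : Function.Injective φ := by
    rw [injective_iff_map_eq_one]
    intro y hy
    obtain ⟨x, rfl⟩ := hsurjL y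
    rw [hφ] at hy
    have hxQ : (x : G) ∈ Q := by
      rw [← QuotientGroup.ker_mk' Q]; exact hy
    have : x ∈ (QuotientGroup.mk' (Q.subgroupOf L)).ker := by
      rw [QuotientGroup.ker_mk']; exact Subgroup.mem_subgroupOf.mpr hxQ
    exact this
  have hTmap : ((T.subgroupOf L).map (QuotientGroup.mk' (Q.subgroupOf L))).map φ =
      T.map (QuotientGroup.mk' Q) := by
    ext y
    constructor
    · rintro ⟨_, ⟨x, hx, rfl⟩, rfl⟩
      rw [hφ]
      exact ⟨(x : G), Subgroup.mem_subgroupOf.mp hx, rfl⟩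
    · rintro ⟨x, hx, rfl⟩
      exact ⟨_, ⟨⟨x, hTL hx⟩, Subgroup.mem_subgroupOf.mpr hx, rfl⟩, hφ _⟩
  have hVmap : Vb = (zjI (𝔉 (↥L ⧸ Q.subgroupOf L))
      ((T.subgroupOf L).map (QuotientGroup.mk' (Q.subgroupOf L)))).map φ := by
    rw [hVb, ← hTmap]
    exact h𝔉.map _ _ φ _ (fun x _ hx => hφinj (hx.trans (map_one φ).symm))
  have hUT : U ≤ T := by
    intro x hx
    rw [hU, Subgroup.mem_comap, hVb] at hx
    have h1 := zjI_le hfamq _ hx
    rw [← Subgroup.mem_comap, Subgroup.comap_map_eq, QuotientGroup.ker_mk', sup_eq_left.2 hQT] at h1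
    exact h1
  have hUeq : U = ((zjI (𝔉 (↥L ⧸ Q.subgroupOf L))
      ((T.subgroupOf L).map (QuotientGroup.mk' (Q.subgroupOf L)))).comap
        (QuotientGroup.mk' (Q.subgroupOf L))).map L.subtype := by
    ext x
    constructor
    · intro hx
      have hxL : x ∈ L := hTL (hUT hx)
      refine ⟨⟨x, hxL⟩, ?_, rfl⟩
      rw [SetLike.mem_coe, Subgroup.mem_comap]
      rw [hU, Subgroup.mem_comap, hVmap] at hx
      have h2 : φ (QuotientGroup.mk' (Q.subgroupOf L) ⟨x, hxL⟩) = QuotientGroup.mk' Q x := hφ _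
      rw [← h2] at hx
      exact (Subgroup.mem_map_iff_mem hφinj).mp hx
    · rintro ⟨z, hz, rfl⟩
      rw [SetLike.mem_coe, Subgroup.mem_comap] at hz
      rw [hU, Subgroup.mem_comap, hVmap]
      exact ⟨_, hz, hφ z⟩
  have hMU : Subgroup.normalizer (T : Set G) ≤ Subgroup.normalizer (U : Set G) := by
    intro m hm
    rw [hU]
    apply Subgroup.le_normalizer_comap (QuotientGroup.mk' Q)
    rw [Subgroup.mem_comap, hVb]
    exact normalizer_le_normalizer_zjI hfamq _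
      (Subgroup.le_normalizer_map (QuotientGroup.mk' Q) ⟨m, hm, rfl⟩)
  have hUneQ : ¬ U ≤ Q := by
    intro hUQ
    have hTbp : IsPGroup p ↥(T.map (QuotientGroup.mk' Q)) := (P.isPGroup'.to_le hTP).map _
    have hTbne : T.map (QuotientGroup.mk' Q) ≠ ⊥ := by
      intro h
      apply hTQ
      have := (Subgroup.map_eq_bot_iff _).1 h
      rwa [QuotientGroup.ker_mk'] at this
    apply h𝔉.ne_bot (G ⧸ Q) _ hTbp hTbne
    rw [← hVb]
    have h1 := Subgroup.map_mono (f := QuotientGroup.mk' Q) hUQ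
    rw [hU, Subgroup.map_comap_eq_self_of_surjective (QuotientGroup.mk'_surjective Q),
      QuotientGroup.map_mk'_self] at h1
    exact le_bot_iff.mp h1
  -- `U` is an `FN`-subgroup
  have hFN : FN (P : Subgroup G) U := by
    refine ⟨hUT.trans hTP, hPNT.trans hMU, ?_⟩
    intro A g hA hAg
    obtain ⟨m, hm, c, hc, hmc⟩ := exists_mul_normalizer_centralizer P Q hQP g
    rw [← hC, ← hT] at hm
    rw [← hC] at hc
    rw [hmc] at hAg
    obtain ⟨m', hm', c', hc', hmc', hc'A⟩ := exists_factor_sylow P L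
      (Subgroup.normalizer (T : Set G)) hPL hPNT m c hm (hCL hc) A hA hAg
    have hR1 : RelD ⊤ U A c' := by
      obtain ⟨d, -, hdN, hdb⟩ := hctlL {b : ↥L | (b : G) ∈ A} ⟨c', hc'⟩
        (by
          intro b hb
          rw [SetLike.mem_coe, hPLdef, Subgroup.mem_subgroupOf]
          exact hA hb)
        (by
          rintro _ ⟨b, hb, rfl⟩
          rw [SetLike.mem_coe, hPLdef, Subgroup.mem_subgroupOf]
          exact hc'A ⟨(b : G), hb, rfl⟩)
      refine ⟨(d : G), Subgroup.mem_top _, ?_, fun a ha => ?_⟩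
      · rw [hUeq]
        exact Subgroup.le_normalizer_map _ ⟨d, hdN, rfl⟩
      · have h1 := hdb ⟨a, hPL (hA ha)⟩ ha
        exact congrArg Subtype.val h1
    have hR2 : RelD ⊤ U (lconj c' A) m' := RelD.of_mem (Subgroup.mem_top _) (hMU hm')
    have := hR1.trans hR2
    rw [← hmc', ← hmc] at this
    exact this
  exact hUneQ (hmax U hFN)

end thmE

end Cfsg.Agent.helper3
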