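import Mathlib
import Cfsg.Agent.Lib_helper3_FN3

/-!
The largest `FN`-subgroup is centric and radical (helper3).
-/

set_option autoImplicit false

namespace Cfsg.Agent.helper3

open Cfsg Cfsg.Agent.helper10

universe u

section largest

variable {G : Type u} [Group G] [Finite G] {p : ℕ} [hp : Fact p.Prime]

local notation:max K "^[" g "]" => Subgroup.map (MulEquiv.toMonoidHom (MulAut.conj g)) K

/-- `FN`-subgroups of `N(Q₀)` are `FN`-subgroups of `G` when `Q₀` is. -/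
theorem FN.of_normalizer {P Q₀ : Subgroup G} (hQ₀ : FN P Q₀)
    (V' : Subgroup ↥(Subgroup.normalizer (Q₀ : Set G)))
    (hV' : FN (P.subgroupOf (Subgroup.normalizer (Q₀ : Set G))) V') :
    FN P (V'.map (Subgroup.normalizer (Q₀ : Set G)).subtype) := by
  obtain ⟨hQ₀P, hPQ₀, hctl⟩ := hQ₀
  obtain ⟨hV'P, hPV', hctl'⟩ := hV'
  refine ⟨?_, ?_, ?_⟩
  · rintro _ ⟨v, hv, rfl⟩
    exact Subgroup.mem_subgroupOf.mp (hV'P hv)
  · intro s hs
    exact Subgroup.le_normalizer_map _ ⟨⟨s, hPQ₀ hs⟩, hPV' (Subgroup.mem_subgroupOf.mpr hs), rfl⟩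
  · intro A g hA hAg
    obtain ⟨x, -, hxN, hxA⟩ := hctl A g hA hAg
    obtain ⟨d, -, hdN, hdb⟩ := hctl' {b : ↥(Subgroup.normalizer (Q₀ : Set G)) | (b : G) ∈ A} ⟨x, hxN⟩
      (by
        intro b hb
        rw [SetLike.mem_coe, Subgroup.mem_subgroupOf]
        exact hA hb)
      (by
        rintro _ ⟨b, hb, rfl⟩
        rw [SetLike.mem_coe, Subgroup.mem_subgroupOf]
        have h1 : x * (b : G) * x⁻¹ = g * (b : G) * g⁻¹ := hxA _ hb
        show x * (b : G) * x⁻¹ ∈ P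
        rw [h1]
        exact hAg ⟨(b : G), hb, rfl⟩)
    refine ⟨(d : G), Subgroup.mem_top _, Subgroup.le_normalizer_map _ ⟨d, hdN, rfl⟩, fun a ha => ?_⟩
    have h1 := hdb ⟨a, hPQ₀ (hA ha)⟩ ha
    exact (congrArg Subtype.val h1).trans (hxA a ha)

/-- The largest `FN`-subgroup is centric and radical. -/
theorem centric_radical_of_largest_FN (hp2 : p ≠ 2) (hG : FreeAut p G) (P : Sylow p G)
    (Q₀ : Subgroup G) (hQ₀ : FN (P : Subgroup G) Q₀)
    (hmax : ∀ V, FN (P : Subgroup G) V → V ≤ Q₀) :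
    (P : Subgroup G) ⊓ Subgroup.centralizer (Q₀ : Set G) ≤ Q₀ ∧
    ∀ X : Subgroup G, X ≤ Subgroup.normalizer (Q₀ : Set G) →
      (∀ n ∈ Subgroup.normalizer (Q₀ : Set G), X.map (MulAut.conj n).toMonoidHom = X) →
      Q₀ ⊔ Subgroup.centralizer (Q₀ : Set G) ≤ X →
      (∃ k : ℕ, (Q₀ ⊔ Subgroup.centralizer (Q₀ : Set G)).relIndex X = p ^ k) →
      X = Q₀ ⊔ Subgroup.centralizer (Q₀ : Set G) := by
  obtain ⟨N, hN⟩ : ∃ N : Subgroup G, N = Subgroup.normalizer (Q₀ : Set G) := ⟨_, rfl⟩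
  have hPN : (P : Subgroup G) ≤ N := by rw [hN]; exact hQ₀.2.1
  have hQ₀N : Q₀ ≤ N := by rw [hN]; exact Subgroup.le_normalizer
  obtain ⟨C, hC⟩ : ∃ C : Subgroup G, C = Subgroup.centralizer (Q₀ : Set G) := ⟨_, rfl⟩
  have hCN : C ≤ N := by rw [hC, hN]; exact Subgroup.centralizer_le_normalizer _
  rw [← hN, ← hC]
  obtain ⟨P', hP'⟩ : ∃ P' : Sylow p ↥N, (P' : Subgroup ↥N) = (P : Subgroup G).subgroupOf N :=
    ⟨P.subtype hPN, Sylow.coe_subtype P hPN⟩
  haveI hQ'n : (Q₀.subgroupOf N).Normal := by rw [hN]; exact Subgroup.normal_in_normalizer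
  have hQ₀p : IsPGroup p Q₀ := P.isPGroup'.to_le hQ₀.1
  have hQ'p : IsPGroup p ↥(Q₀.subgroupOf N) := hQ₀p.comap_subtype
  have hG' : FreeAut p ↥N := freeAut_subgroup N hG
  have hmax' : ∀ V', FN (P' : Subgroup ↥N) V' → V' ≤ Q₀.subgroupOf N := by
    intro V' hV'
    rw [hP'] at hV'
    have h1 : FN (P : Subgroup G) (V'.map N.subtype) := by
      subst hN
      exact FN.of_normalizer hQ₀ V' hV'
    have h2 := hmax _ h1
    intro v hv
    rw [Subgroup.mem_subgroupOf]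
    exact h2 ⟨v, hv, rfl⟩
  have hC' : Subgroup.centralizer ((Q₀.subgroupOf N : Subgroup ↥N) : Set ↥N) = C.subgroupOf N := by
    ext c
    rw [Subgroup.mem_subgroupOf, hC, Subgroup.mem_centralizer_iff, Subgroup.mem_centralizer_iff]
    constructor
    · intro h q hq
      have := h ⟨q, hQ₀N hq⟩ (Subgroup.mem_subgroupOf.mpr hq)
      exact congrArg Subtype.val this
    · intro h q hq
      apply Subtype.ext
      exact h (q : G) (Subgroup.mem_subgroupOf.mp hq)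
  have hE1' := inf_centralizer_le_of_FN_le hp2 (dScheme_famAb hp2) hG' P' (Q₀.subgroupOf N)
    hQ'p hmax'
  refine ⟨?_, ?_⟩
  · intro x hx
    have hxN : x ∈ N := hPN hx.1
    have h1 : (⟨x, hxN⟩ : ↥N) ∈ (P' : Subgroup ↥N) ⊓
        Subgroup.centralizer ((Q₀.subgroupOf N : Subgroup ↥N) : Set ↥N) := by
      rw [hC', hP']
      exact ⟨Subgroup.mem_subgroupOf.mpr hx.1, Subgroup.mem_subgroupOf.mpr hx.2⟩
    exact Subgroup.mem_subgroupOf.mp (hE1' h1)
  · intro X hXN hXinv hQCX hidx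
    haveI hX'n : (X.subgroupOf N).Normal := by
      refine ⟨fun x hx n => ?_⟩
      rw [Subgroup.mem_subgroupOf] at hx ⊢
      have h1 := hXinv (n : G) n.2
      rw [← h1]
      exact ⟨(x : G), hx, by simp [MulAut.conj_apply]⟩
    have hsup : Q₀.subgroupOf N ⊔ Subgroup.centralizer ((Q₀.subgroupOf N : Subgroup ↥N) : Set ↥N) =
        (Q₀ ⊔ C).subgroupOf N := by
      rw [hC', Subgroup.subgroupOf_sup hQ₀N hCN]
    have h2 := radical_of_FN_le P' (Q₀.subgroupOf N) hQ'p hmax' hE1' (X.subgroupOf N)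
      (by
        rw [hsup]
        intro x hx
        rw [Subgroup.mem_subgroupOf] at hx ⊢
        exact hQCX hx)
      (by
        rw [hsup, Subgroup.relIndex_subgroupOf hXN]
        exact hidx)
    rw [hsup] at h2
    refine le_antisymm ?_ hQCX
    intro x hx
    have := h2 (Subgroup.mem_subgroupOf.mpr (show ((⟨x, hXN hx⟩ : ↥N) : G) ∈ X from hx))
    exact Subgroup.mem_subgroupOf.mp this

end largest

end Cfsg.Agent.helper3
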