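import Mathlib
import Cfsg.Agent.Lib_helper10_QdNC
import Cfsg.Agent.Lib_helper3_ZJAb
import Cfsg.Agent.Lib_helper3_ZJFunctor
import Cfsg.Agent.Lib_helper3_QdD

/-!
In any group isomorphic to `Qd(p)` (`p` odd), `Z(J(T))` of a Sylow `p`-subgroup `T` does not
control strong fusion (helper3).
-/

set_option autoImplicit false

namespace Cfsg.Agent.helper3

open Cfsg Matrix
open Cfsg.Agent.S2762
open scoped commutatorElement

universe u

section abstractQ

variable {Q : Type*} [Group Q] {p : ℕ}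

/-- If all nontrivial elements of `V` are conjugate and `V` lies in all Sylow subgroups, no
`1 < U < V` controls strong fusion. -/
theorem not_control_of_le_of_conj (V : Subgroup Q) (hVT : ∀ T : Sylow p Q, V ≤ (T : Subgroup Q))
    (hconj : ∀ v ∈ V, ∀ w ∈ V, v ≠ 1 → w ≠ 1 → ∃ g : Q, g * v * g⁻¹ = w)
    (U : Subgroup Q) (hUV : U ≤ V) (hU1 : U ≠ ⊥) (hVU : ¬ V ≤ U) :
    ¬ Cfsg.ControlsStrongFusion p U := by
  rintro ⟨T', hUT', hctl⟩
  obtain ⟨⟨u, hu⟩, hu1'⟩ := (Subgroup.ne_bot_iff_exists_ne_one).mp hU1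
  have hu1 : u ≠ 1 := fun h => hu1' (Subtype.ext h)
  obtain ⟨v, hvV, hvU⟩ := SetLike.not_le_iff_exists.mp hVU
  have hv1 : v ≠ 1 := fun h => hvU (h ▸ U.one_mem)
  obtain ⟨g, hg⟩ := hconj u (hUV hu) v hvV hu1 hv1
  obtain ⟨-, hc⟩ := hctl {u} (by
    intro a ha
    rw [Set.mem_singleton_iff] at ha
    rw [ha]; exact hVT T' (hUV hu))
  obtain ⟨x, hx, hxa⟩ := hc g (by
    rintro _ ⟨a, ha, rfl⟩
    rw [Set.mem_singleton_iff] at ha
    rw [ha]
    show g * u * g⁻¹ ∈ (T' : Subgroup Q)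
    rw [hg]; exact hVT T' hvV)
  have h1 := hxa u rfl
  rw [hg] at h1
  apply hvU
  rw [h1]
  exact (Subgroup.mem_normalizer_iff.mp hx u).mp hu

variable [Finite Q] [hp : Fact p.Prime]

/-- A Sylow subgroup `T` of order `p³` with a self-centralizing abelian subgroup `V` of order `p²`:
`Z(J(T)) < V`. -/
theorem zj_lt_of_card (T : Sylow p Q) (V : Subgroup Q) (hVT : V ≤ (T : Subgroup Q))
    (hVc : IsMulCommutative V)
    (hCV : Subgroup.centralizer (V : Set Q) ⊓ (T : Subgroup Q) ≤ V)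
    (hV : Nat.card V = p ^ 2) (hT : Nat.card (T : Subgroup Q) = p ^ 3) :
    Cfsg.centerThompsonAOf (T : Subgroup Q) ≤ V ∧
      ¬ V ≤ Cfsg.centerThompsonAOf (T : Subgroup Q) := by
  have hp1 : 1 < p := hp.out.one_lt
  -- an element outside `V`
  obtain ⟨t, htT, htV⟩ : ∃ t ∈ (T : Subgroup Q), t ∉ V := by
    by_contra hcon
    have hcon' : (T : Subgroup Q) ≤ V := fun x hx => by
      by_contra hxV
      exact hcon ⟨x, hx, hxV⟩
    have : (T : Subgroup Q) = V := le_antisymm hcon' hVT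
    rw [this, hV] at hT
    exact absurd (Nat.pow_right_injective (le_refl 2 |>.trans hp1) hT) (by norm_num)
  have hbound : ∀ B : Subgroup Q, B ≤ (T : Subgroup Q) → IsMulCommutative B →
      Nat.card B ≤ p ^ 2 := by
    intro B hB hBc
    have hBp : IsPGroup p B := T.isPGroup'.to_le hB
    obtain ⟨k, hk⟩ := hBp.exists_card_eq
    have hdvd : Nat.card B ∣ Nat.card (T : Subgroup Q) := Subgroup.card_dvd_of_le hB
    rw [hk, hT] at hdvd
    have hk3 : k ≤ 3 := (Nat.pow_dvd_pow_iff_le_right hp1).mp hdvd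
    by_cases hk3' : k = 3
    · exfalso
      have hBT : B = (T : Subgroup Q) :=
        Subgroup.eq_of_le_of_card_ge hB (by rw [hk, hT, hk3'])
      apply htV
      apply hCV
      refine Subgroup.mem_inf.mpr ⟨?_, htT⟩
      rw [Subgroup.mem_centralizer_iff]
      intro v hv
      have hvB : v ∈ B := by rw [hBT]; exact hVT hv
      have htB : t ∈ B := by rw [hBT]; exact htT
      exact congrArg Subtype.val (hBc.is_comm.comm (⟨v, hvB⟩ : B) ⟨t, htB⟩)
    · rw [hk]
      exact Nat.pow_le_pow_right hp.out.pos (by omega)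
  have hVmax : IsMaxAbIn (T : Subgroup Q) V :=
    ⟨hVT, hVc, fun B hB hBc => by rw [hV]; exact hbound B hB hBc⟩
  refine ⟨?_, ?_⟩
  · rw [centerThompsonAOf_eq_zjI]
    exact zjI_le_of_mem (𝔄 := famAb) hVmax
  -- a second abelian subgroup of order `p²`
  have hTp : IsPGroup p ↥(T : Subgroup Q) := T.isPGroup'
  have hTnt : Nontrivial ↥(T : Subgroup Q) := by
    rw [← Finite.one_lt_card_iff_nontrivial, hT]
    exact Nat.one_lt_pow (by norm_num) hp1
  have hcn : Nontrivial (Subgroup.center ↥(T : Subgroup Q)) := hTp.center_nontrivial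
  obtain ⟨Zc, hZc⟩ : ∃ Zc : Subgroup Q,
      Zc = (Subgroup.center ↥(T : Subgroup Q)).map (T : Subgroup Q).subtype := ⟨_, rfl⟩
  have hZcT : Zc ≤ (T : Subgroup Q) := by rw [hZc]; exact Subgroup.map_subtype_le _
  have hZcomm : ∀ c ∈ Zc, ∀ x ∈ (T : Subgroup Q), x * c = c * x := by
    intro c hc x hx
    rw [hZc] at hc
    obtain ⟨c', hc', rfl⟩ := hc
    have := Subgroup.mem_center_iff.mp hc' ⟨x, hx⟩
    exact congrArg Subtype.val this
  have hZcV : Zc ≤ V := by
    intro c hc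
    apply hCV
    refine Subgroup.mem_inf.mpr ⟨?_, hZcT hc⟩
    rw [Subgroup.mem_centralizer_iff]
    intro v hv
    exact hZcomm c hc v (hVT hv)
  have hZcne : Zc ≠ ⊥ := by
    rw [hZc]
    intro h
    rw [Subgroup.map_eq_bot_iff_of_injective _ (T : Subgroup Q).subtype_injective] at h
    obtain ⟨z, hz⟩ := exists_ne (1 : Subgroup.center ↥(T : Subgroup Q))
    apply hz
    have hz2 : (z : ↥(T : Subgroup Q)) ∈ (⊥ : Subgroup ↥(T : Subgroup Q)) := h ▸ z.2
    rw [Subgroup.mem_bot] at hz2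
    exact Subtype.ext hz2
  have hZcc : IsMulCommutative Zc := by
    rw [hZc]; exact Subgroup.map_isMulCommutative _ _
  obtain ⟨B, hBdef⟩ : ∃ B : Subgroup Q, B = Subgroup.zpowers t ⊔ Zc := ⟨_, rfl⟩
  have hztT : Subgroup.zpowers t ≤ (T : Subgroup Q) := (Subgroup.zpowers_le).mpr htT
  have hBT : B ≤ (T : Subgroup Q) := by rw [hBdef]; exact sup_le hztT hZcT
  have hBc : IsMulCommutative B := by
    rw [hBdef]
    exact isMulCommutative_sup' inferInstance hZcc (fun x hx c hc => hZcomm c hc x (hztT hx))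
  have htB : t ∈ B := by
    rw [hBdef]; exact Subgroup.mem_sup_left (Subgroup.mem_zpowers t)
  have hBle : Nat.card B ≤ p ^ 2 := hbound B hBT hBc
  have hBge : p ^ 2 ≤ Nat.card B := by
    have hI_lt : B ⊓ V < B := by
      refine lt_of_le_of_ne inf_le_left ?_
      intro h
      have h' : t ∈ B ⊓ V := by rw [h]; exact htB
      exact htV (Subgroup.mem_inf.mp h').2
    have hI_ne : B ⊓ V ≠ ⊥ := by
      intro h
      apply hZcne
      rw [eq_bot_iff, ← h]
      exact le_inf (by rw [hBdef]; exact le_sup_right) hZcV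
    have hBp : IsPGroup p B := T.isPGroup'.to_le hBT
    have hIp : IsPGroup p (B ⊓ V : Subgroup Q) := hBp.to_le inf_le_left
    obtain ⟨k, hk⟩ := hBp.exists_card_eq
    obtain ⟨j, hj⟩ := hIp.exists_card_eq
    have h1 : 1 < Nat.card (B ⊓ V : Subgroup Q) := (Subgroup.one_lt_card_iff_ne_bot _).mpr hI_ne
    have h2 : Nat.card (B ⊓ V : Subgroup Q) < Nat.card B := card_lt_of_lt' hI_lt
    rw [hj] at h1
    rw [hj, hk] at h2
    have hj1 : 1 ≤ j := by
      by_contra hj0
      have : j = 0 := by omega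
      rw [this, pow_zero] at h1
      exact absurd h1 (lt_irrefl 1)
    have hjk : j < k := (Nat.pow_lt_pow_iff_right hp1).mp h2
    rw [hk]
    exact Nat.pow_le_pow_right hp.out.pos (by omega)
  have hBmax : IsMaxAbIn (T : Subgroup Q) B :=
    ⟨hBT, hBc, fun B' h1 h2 => (hbound B' h1 h2).trans hBge⟩
  intro hle
  have hVB : V ≤ B := by
    refine hle.trans ?_
    rw [centerThompsonAOf_eq_zjI]
    exact zjI_le_of_mem (𝔄 := famAb) hBmax
  have hVeqB : V = B := Subgroup.eq_of_le_of_card_ge hVB (by rw [hV]; exact hBle)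
  exact htV (hVeqB ▸ htB)

end abstractQ

section concrete

variable {p : ℕ} [hp : Fact p.Prime]

theorem sl2_eq_one_of_mulVec {F : Type*} [Field F] (A : SpecialLinearGroup (Fin 2) F)
    (h : ∀ w : Fin 2 → F, (A : Matrix (Fin 2) (Fin 2) F) *ᵥ w = w) : A = 1 := by
  apply Subtype.ext
  rw [Matrix.SpecialLinearGroup.coe_one]
  ext i j
  have h1 := congrFun (h (Pi.single j 1)) i
  rw [Matrix.mulVec_single_one] at h1
  rw [Matrix.one_apply]
  simp only [Matrix.col_apply] at h1
  rw [h1, Pi.single_apply]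

/-- In a group isomorphic to `Qd(p)`, `p` odd, `Z(J(T))` does not control strong fusion. -/
theorem not_control_zj_of_equiv_qd (hp2 : p ≠ 2) {Q : Type u} [Group Q] [Finite Q]
    (e : Q ≃* ↥(Cfsg.qdOver (ZMod p))) (T : Sylow p Q) :
    ¬ Cfsg.ControlsStrongFusion p (Cfsg.centerThompsonAOf (T : Subgroup Q)) := by
  have hsurj : Function.Surjective e.toMonoidHom := e.surjective
  obtain ⟨V, hVdef⟩ : ∃ V : Subgroup Q,
      V = ((blkHom (F := ZMod p)).comp e.toMonoidHom).ker := ⟨_, rfl⟩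
  have hmemV : ∀ x : Q, x ∈ V ↔ blkHom (e x) = 1 := by
    intro x; rw [hVdef, MonoidHom.mem_ker]; rfl
  have hVtr : ∀ x ∈ V, ∃ w : Fin 2 → ZMod p, e x = tr w := by
    intro x hx
    exact ⟨_, eq_tr_of_mem_ker (MonoidHom.mem_ker.mpr ((hmemV x).mp hx))⟩
  have htrV : ∀ w : Fin 2 → ZMod p, e.symm (tr w) ∈ V := by
    intro w
    rw [hmemV, MulEquiv.apply_symm_apply, blkHom_tr]
  have hVn : V.Normal := by rw [hVdef]; infer_instance
  have hVp : IsPGroup p V := by
    have h1 : IsPGroup p ↥((blkHom (F := ZMod p)).ker) := by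
      rw [← pCore_eq_ker (F := ZMod p) (p := p)]
      exact Cfsg.Agent.helper1.pCore_isPGroup p
    have h2 := h1.comap_of_injective e.toMonoidHom e.injective
    have h3 : V = ((blkHom (F := ZMod p)).ker).comap e.toMonoidHom := by
      rw [hVdef]; rfl
    rw [h3]; exact h2
  have hVS : ∀ T' : Sylow p Q, V ≤ (T' : Subgroup Q) := fun T' =>
    (Cfsg.Agent.helper1.le_pCore hVn hVp).trans (Cfsg.Agent.helper1.pCore_le_sylow T')
  have hVc : IsMulCommutative V := by
    refine ⟨⟨fun a b => Subtype.ext (e.injective ?_)⟩⟩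
    obtain ⟨wa, hwa⟩ := hVtr a a.2
    obtain ⟨wb, hwb⟩ := hVtr b b.2
    show e ((a : Q) * (b : Q)) = e ((b : Q) * (a : Q))
    rw [map_mul, map_mul, hwa, hwb, ← tr_add, ← tr_add, add_comm]
  have hCV : Subgroup.centralizer (V : Set Q) ≤ V := by
    intro x hx
    rw [hmemV]
    apply sl2_eq_one_of_mulVec
    intro w
    have h1 := (Subgroup.mem_centralizer_iff.mp hx) _ (htrV w)
    have h2 := congrArg e h1
    rw [map_mul, map_mul, MulEquiv.apply_symm_apply] at h2
    have hd := decomp (e x)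
    obtain ⟨v, hv⟩ : ∃ v : Fin 2 → ZMod p, v = ![mat (e x) 0 2, mat (e x) 1 2] := ⟨_, rfl⟩
    rw [← hv] at hd
    rw [hd] at h2
    have h3 : tr w * (tr v * emb (blkHom (e x))) = tr (w + v) * emb (blkHom (e x)) := by
      rw [← mul_assoc, ← tr_add]
    have h4 : tr v * emb (blkHom (e x)) * tr w =
        tr (v + (blkHom (e x) : Matrix (Fin 2) (Fin 2) (ZMod p)) *ᵥ w) * emb (blkHom (e x)) := by
      rw [mul_assoc, emb_mul_tr, ← mul_assoc, ← tr_add]
    rw [h3, h4] at h2
    have h5 := Cfsg.Agent.helper10.tr_injective (mul_right_cancel h2)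
    have h6 : v + (blkHom (e x) : Matrix (Fin 2) (Fin 2) (ZMod p)) *ᵥ w = v + w := by
      rw [← h5, add_comm]
    exact add_left_cancel h6
  have hV : Nat.card V = p ^ 2 := by
    have hbij : Function.Bijective (fun w : Fin 2 → ZMod p => (⟨e.symm (tr w), htrV w⟩ : V)) := by
      constructor
      · intro a b hab
        have h1 := congrArg Subtype.val hab
        exact Cfsg.Agent.helper10.tr_injective (e.symm.injective h1)
      · rintro ⟨x, hx⟩
        obtain ⟨w, hw⟩ := hVtr x hx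
        refine ⟨w, Subtype.ext ?_⟩
        show e.symm (tr w) = x
        rw [← hw, MulEquiv.symm_apply_apply]
    rw [← Nat.card_congr (Equiv.ofBijective _ hbij)]
    simp [Nat.card_eq_fintype_card, ZMod.card]
  have hT : Nat.card (T : Subgroup Q) = p ^ 3 := by
    have h1 := (Cfsg.Agent.S3074.result p hp2 (T.mapSurjective hsurj)).2.1
    have h2 : ((T.mapSurjective hsurj : Sylow p ↥(Cfsg.qdOver (ZMod p))) :
        Subgroup ↥(Cfsg.qdOver (ZMod p))) = (T : Subgroup Q).map e.toMonoidHom := rfl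
    have h3 : Nat.card ((T : Subgroup Q).map e.toMonoidHom) = Nat.card (T : Subgroup Q) :=
      Subgroup.card_map_of_injective e.injective
    rw [← h3, ← h2]; exact h1
  have hconj : ∀ v ∈ V, ∀ w ∈ V, v ≠ 1 → w ≠ 1 → ∃ g : Q, g * v * g⁻¹ = w := by
    intro v hv w hw hv1 hw1
    obtain ⟨a, ha⟩ := hVtr v hv
    obtain ⟨b, hb⟩ := hVtr w hw
    have ha0 : a ≠ 0 := by
      intro h
      rw [h, tr_zero] at ha
      exact hv1 (e.injective (by rw [ha, map_one]))
    have hb0 : b ≠ 0 := by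
      intro h
      rw [h, tr_zero] at hb
      exact hw1 (e.injective (by rw [hb, map_one]))
    obtain ⟨g₀, hg₀⟩ := Cfsg.Agent.helper10.exists_conj_tr a b ha0 hb0
    refine ⟨e.symm g₀, e.injective ?_⟩
    rw [map_mul, map_mul, map_inv, MulEquiv.apply_symm_apply, ha, hb, hg₀]
  obtain ⟨h1, h2⟩ := zj_lt_of_card T V (hVS T) hVc (inf_le_left.trans hCV) hV hT
  have hne : Cfsg.centerThompsonAOf (T : Subgroup Q) ≠ ⊥ := by
    rw [← inducedFunctor_zjFunctor]
    unfold Cfsg.inducedFunctor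
    intro h
    rw [Subgroup.map_eq_bot_iff_of_injective _ (T : Subgroup Q).subtype_injective] at h
    have hTnt : Nontrivial ↥(T : Subgroup Q) := by
      rw [← Finite.one_lt_card_iff_nontrivial, hT]
      exact Nat.one_lt_pow (by norm_num) hp.out.one_lt
    exact (isCharPFunctor_zjFunctor p).1 ↥(T : Subgroup Q) T.isPGroup' hTnt h
  exact not_control_of_le_of_conj V hVS hconj _ h1 hne h2

end concrete

end Cfsg.Agent.helper3
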