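import Mathlib
import Cfsg.Prelude.Def_FusionComponents
import Cfsg.Prelude.Def_LocalEven
import Cfsg.Agent.Lib_helper3_QdE
import Cfsg.Agent.Lib_helper3_QdF
import Cfsg.Agent.Lib_helper3_ZJD2
import Cfsg.Agent.S1987

set_option autoImplicit false
universe u
open Cfsg

namespace Cfsg.Agent.helper3

open Cfsg.Agent.helper10

/-- Explicit form of `S1987.ctl_of_normal_pst`: the control of strong fusion happens in the given Sylow subgroup. -/
theorem ctl_explicit_of_normal_pst {G : Type u} [Group G] [Finite G] {p : ℕ} [Fact p.Prime]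
    (W : ∀ (Q : Type u) [Group Q], Subgroup Q) (hW : Cfsg.IsCharPFunctor.{u} p W)
    (hnorm : ∀ (Y : Type u) [Group Y] [Finite Y], PSt p Y →
      Subgroup.centralizer ((Cfsg.pCore p Y : Subgroup Y) : Set Y) ≤ Cfsg.pCore p Y →
      ∀ T : Sylow p Y, (Cfsg.inducedFunctor (G := Y) W (T : Subgroup Y)).Normal)
    (hps : PSt p G) (S : Sylow p G) (A : Set G) (g : G) (hA : A ⊆ (S : Subgroup G))
    (hg : (fun a => g * a * g⁻¹) '' A ⊆ (S : Subgroup G)) :
    ∃ x ∈ Subgroup.normalizer ((Cfsg.inducedFunctor (G := G) W (S : Subgroup G) : Subgroup G) : Set G),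
      ∀ a ∈ A, g * a * g⁻¹ = x * a * x⁻¹ := by
  have h𝓦 : ∀ W' ∈ ({W} : Set (∀ (Q : Type u) [Group Q], Subgroup Q)),
      Cfsg.IsCharPFunctor.{u} p W' := by
    intro W' hW'
    rw [Set.mem_singleton_iff] at hW'
    rw [hW']; exact hW
  have hHyp : Hyp p ({W} : Set (∀ (Q : Type u) [Group Q], Subgroup Q)) G := by
    intro K Y _ f hf hY
    haveI : Finite Y := Finite.of_surjective f hf
    have hpsY : PSt p Y := pst_image K f hf hps
    obtain ⟨T⟩ : Nonempty (Sylow p Y) := inferInstance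
    apply ctl_of_ctlAt T
    intro A h hA hAh
    have hn := hnorm Y hpsY hY T
    apply Rel.of_reach
    apply Reach.single hA _ hAh
    refine ⟨_, ⟨W, rfl, rfl⟩, Subgroup.mem_inf.2 ⟨Subgroup.mem_top _, ?_⟩⟩
    rw [Subgroup.normalizer_eq_top]
    exact Subgroup.mem_top h
  have hctl := section_main h𝓦 _ G rfl hHyp
  have hat := ctlAt_of_ctl h𝓦 S hctl
  obtain ⟨c, hc, hag⟩ := hat A g hA hg
  refine ⟨c, ?_, fun a ha => (hag a ha).symm⟩
  apply Cfsg.Agent.S1969.reach_mem _ _ hc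
  rintro d ⟨_, ⟨W', hW', rfl⟩, hd⟩
  rw [Set.mem_singleton_iff] at hW'
  subst hW'
  exact (Subgroup.mem_inf.1 hd).2

/-- In a `Qd(p)`-free group (`p` odd), in every section `K/R` and for every Sylow `p`-subgroup `T` of it,
`N(Z(J(T)))` controls strong fusion in `T` (explicit form). -/
theorem zj_controls_explicit {G : Type u} [Group G] [Finite G] {p : ℕ} [Fact p.Prime] (hp : p ≠ 2)
    (hqd : ¬ Cfsg.Involves ↥(Cfsg.qd p) G) (K R : Subgroup G) [hR : (R.subgroupOf K).Normal]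
    (T : Sylow p (K ⧸ R.subgroupOf K)) (A : Set (K ⧸ R.subgroupOf K)) (g : K ⧸ R.subgroupOf K)
    (hA : A ⊆ (T : Subgroup (K ⧸ R.subgroupOf K)))
    (hg : (fun a => g * a * g⁻¹) '' A ⊆ (T : Subgroup (K ⧸ R.subgroupOf K))) :
    ∃ x ∈ Subgroup.normalizer
        ((Cfsg.centerThompsonAOf (T : Subgroup (K ⧸ R.subgroupOf K)) : Subgroup (K ⧸ R.subgroupOf K)) :
          Set (K ⧸ R.subgroupOf K)),
      ∀ a ∈ A, g * a * g⁻¹ = x * a * x⁻¹ := by
  have hno : ∀ (K' R' : Subgroup G) [hR' : (R'.subgroupOf K').Normal],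
      ¬ Inv ↥(Cfsg.qdOver (ZMod p)) (↥K' ⧸ R'.subgroupOf K') := by
    intro K' R' hR' hinv
    exact hqd (Inv.of_section K' R' hinv).involves
  have hst : ∀ (K' R' : Subgroup G) [hR' : (R'.subgroupOf K').Normal],
      Cfsg.IsNormalizerPStable p (↥K' ⧸ R'.subgroupOf K') :=
    fun K' R' hR' => isNormalizerPStable_of_not_inv_qd hp (hno K' R')
  have hps : PSt p G := pst_of_sections hst
  have hpsY : PSt p (↥K ⧸ R.subgroupOf K) :=
    pst_image K (QuotientGroup.mk' (R.subgroupOf K)) (QuotientGroup.mk'_surjective _) hps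
  have hmain := ctl_explicit_of_normal_pst zjFunctor (isCharPFunctor_zjFunctor p)
    (fun Y _ _ hY hcon T' => by
      rw [inducedFunctor_zjFunctor]
      exact (stronglyClosed_zj_normal hp T' (T' : Subgroup Y) ⟨le_rfl, fun x _ g h => h⟩
        (pst_top hY) hcon).1) hpsY T A g hA hg
  rwa [inducedFunctor_zjFunctor] at hmain

/-- `Z(J(T))` is a nontrivial subgroup of `T` for a nontrivial `p`-subgroup `T`. -/
theorem zj_le_and_ne_bot {G : Type u} [Group G] [Finite G] {p : ℕ} [Fact p.Prime]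
    (T : Subgroup G) (hT : IsPGroup p T) :
    Cfsg.centerThompsonAOf T ≤ T ∧ (T ≠ ⊥ → Cfsg.centerThompsonAOf T ≠ ⊥) := by
  have h := induced_isConjugacyFunctor (X := G) zjFunctor (isCharPFunctor_zjFunctor p) T hT
  rw [inducedFunctor_zjFunctor] at h
  exact ⟨h.1, h.2.1⟩

end Cfsg.Agent.helper3
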