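import Mathlib
import Cfsg.Prelude.Def_FusionComponents

set_option autoImplicit false
open Cfsg

namespace Cfsg.Agent.helper3

open Cfsg.FusionSystem

/-- Membership in the full preimage along `θ`. -/
theorem mem_preimageAlong_iff {Ω : Type*} [Group Ω] {S : Subgroup Ω} {Ω' : Type*} [Group Ω']
    (θ : S →* Ω') (P' : Subgroup Ω') (y : Ω) :
    y ∈ preimageAlong θ P' ↔ ∃ s : S, θ s ∈ P' ∧ (s : Ω) = y := by
  unfold preimageAlong
  rw [Subgroup.mem_map]
  constructor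
  · rintro ⟨s, hs, rfl⟩
    exact ⟨s, Subgroup.mem_comap.1 hs, rfl⟩
  · rintro ⟨s, hs, rfl⟩
    exact ⟨s, Subgroup.mem_comap.2 hs, rfl⟩

theorem preimageAlong_le {Ω : Type*} [Group Ω] {S : Subgroup Ω} {Ω' : Type*} [Group Ω']
    (θ : S →* Ω') (P' : Subgroup Ω') : preimageAlong θ P' ≤ S := by
  intro y hy
  obtain ⟨s, -, rfl⟩ := (mem_preimageAlong_iff θ P' y).1 hy
  exact s.2

/-- In the factor system of `F_P(G)` modulo a strongly closed subgroup `R`, read inside a quotient `H` of a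
subgroup `N` containing the "semi-normalizer" of `R`, a subgroup `U` of the image of `P` whose normalizer controls
strong fusion in that image pulls back to a subgroup normal in the factor system. -/
theorem isNormal_comap_of_control
    {G : Type*} [Group G] {P R N : Subgroup G} (hPN : P ≤ N)
    {Ω' : Type*} [Group Ω'] (θ : P →* Ω') (E : FusionSystem (⊤ : Subgroup Ω'))
    (hfac : (groupFusionSystem P).IsFactorSystem R θ E)
    (hsc : (groupFusionSystem P).StronglyClosed R)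
    (hgN : ∀ g : G, (∀ r ∈ R, g * r * g⁻¹ ∈ R) → g ∈ N)
    {H : Type*} [Group H] (π : N →* H) (hπ : Function.Surjective π)
    (hker : ∀ n : N, π n = 1 ↔ (n : G) ∈ R)
    (ι : Ω' →* H) (hι : Function.Injective ι)
    (hιθ : ∀ s : P, ι (θ s) = π ⟨s, hPN s.2⟩)
    (U : Subgroup H) (hU : U ≤ ι.range)
    (hctl : ∀ (A : Set H) (h : H), A ⊆ ι.range → (fun a => h * a * h⁻¹) '' A ⊆ ι.range →
       ∃ x ∈ Subgroup.normalizer (U : Set H), ∀ a ∈ A, h * a * h⁻¹ = x * a * x⁻¹) :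
    E.IsNormal (U.comap ι) := by
  obtain ⟨hRP, hθker, hθrange, hE⟩ := hfac
  have hθsurj : Function.Surjective θ := MonoidHom.range_eq_top.1 hθrange
  -- key computation
  have key1 : ∀ (n : N) (s : P) (h : (n : G) * s * (n : G)⁻¹ ∈ P),
      π n * ι (θ s) * (π n)⁻¹ = ι (θ ⟨(n : G) * s * (n : G)⁻¹, h⟩) := by
    intro n s h
    rw [hιθ, hιθ, ← map_inv, ← map_mul, ← map_mul]
    congr 1
  refine ⟨le_top, ?_⟩
  intro P' φ' hφ'
  obtain ⟨-, φ, hφ, hQ, hφP, hP', hind⟩ := (hE P' φ').1 hφ'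
  have mem_pre : ∀ (s : P), θ s ∈ P' → (s : G) ∈ preimageAlong θ P' :=
    fun s hs => (mem_preimageAlong_iff θ P' _).2 ⟨s, hs, rfl⟩
  obtain ⟨-, -, g, hg⟩ := hφ
  have hRQ : R ≤ preimageAlong θ P' := by
    intro r hr
    have : θ ⟨r, hRP hr⟩ = 1 := (hθker ⟨r, hRP hr⟩).2 hr
    exact mem_pre ⟨r, hRP hr⟩ (by rw [this]; exact P'.one_mem)
  have hgN' : g ∈ N := by
    apply hgN
    intro r hr
    have hmem : conjHom R g ∈ (groupFusionSystem P).Hom R := by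
      refine ⟨hRP, fun x => ?_, g, fun x => rfl⟩
      have h1 := hφP ⟨x, hRQ x.2⟩
      rw [hg] at h1
      exact h1
    exact hsc.2 R le_rfl (conjHom R g) hmem ⟨r, hr⟩
  set gN : N := ⟨g, hgN'⟩ with hgNdef
  -- the image of φ' computed through ι
  have hφ'ι : ∀ (s : P) (hs : θ s ∈ P'), ι (φ' ⟨θ s, hs⟩) = π gN * ι (θ s) * (π gN)⁻¹ := by
    intro s hs
    have hy := hind ⟨s, mem_pre s hs⟩
    have hgs : g * (s : G) * g⁻¹ ∈ P := by
      have h1 := hφP ⟨s, mem_pre s hs⟩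
      rw [hg] at h1
      exact h1
    rw [key1 gN s hgs]
    have e1 : (⟨θ ⟨((⟨s, mem_pre s hs⟩ : preimageAlong θ P') : G), hQ (mem_pre s hs)⟩,
        hP' ⟨s, mem_pre s hs⟩⟩ : P') = ⟨θ s, hs⟩ := Subtype.ext rfl
    rw [e1] at hy
    rw [hy]
    congr 2
    exact Subtype.ext (hg ⟨s, mem_pre s hs⟩)
  set A : Set H := ι '' (P' : Set Ω') with hAdef
  have hA : A ⊆ ι.range := by
    rintro _ ⟨w, -, rfl⟩
    exact ⟨w, rfl⟩
  have hgA : (fun a => π gN * a * (π gN)⁻¹) '' A ⊆ ι.range := by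
    rintro _ ⟨_, ⟨w, hw, rfl⟩, rfl⟩
    obtain ⟨s, rfl⟩ := hθsurj w
    exact ⟨φ' ⟨θ s, hw⟩, hφ'ι s hw⟩
  obtain ⟨xb, hxU, hx⟩ := hctl A (π gN) hA hgA
  obtain ⟨x, rfl⟩ := hπ xb
  set V : Subgroup Ω' := P' ⊔ U.comap ι with hVdef
  have hV : ∀ w ∈ V, π x * ι w * (π x)⁻¹ ∈ ι.range := by
    have hle : V ≤ ι.range.comap ((MulAut.conj (π x)).toMonoidHom.comp ι) := by
      apply sup_le
      · intro w hw
        rw [Subgroup.mem_comap]
        show π x * ι w * (π x)⁻¹ ∈ ι.range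
        rw [← hx (ι w) ⟨w, hw, rfl⟩]
        exact hgA ⟨ι w, ⟨w, hw, rfl⟩, rfl⟩
      · intro w hw
        rw [Subgroup.mem_comap]
        show π x * ι w * (π x)⁻¹ ∈ ι.range
        exact hU ((Subgroup.mem_normalizer_iff.1 hxU (ι w)).1 (Subgroup.mem_comap.1 hw))
    intro w hw
    exact hle hw
  let c : V →* H := (MulAut.conj (π x)).toMonoidHom.comp (ι.comp V.subtype)
  have hc : ∀ w : V, c w ∈ ι.range := fun w => hV w w.2
  let ψ' : V →* Ω' := (MonoidHom.ofInjective hι).symm.toMonoidHom.comp (c.codRestrict ι.range hc)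
  have hψ' : ∀ w : V, ι (ψ' w) = π x * ι w * (π x)⁻¹ := by
    intro w
    exact MonoidHom.apply_ofInjective_symm hι _
  -- the preimage of V is mapped into P by conjugation with x
  have hQ2P : preimageAlong θ V ≤ P := preimageAlong_le θ V
  have hxP : ∀ (s : P), θ s ∈ V → (x : G) * s * (x : G)⁻¹ ∈ P := by
    intro s hs
    obtain ⟨w', hw'⟩ := hV (θ s) hs
    obtain ⟨s', rfl⟩ := hθsurj w'
    rw [hιθ, hιθ, ← map_inv, ← map_mul, ← map_mul] at hw'
    have h1 : π ((⟨s', hPN s'.2⟩ : N)⁻¹ * (x * ⟨s, hPN s.2⟩ * x⁻¹)) = 1 := by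
      rw [map_mul, map_inv, hw', inv_mul_cancel]
    have h2 := (hker _).1 h1
    have h3 : (s' : G)⁻¹ * ((x : G) * s * (x : G)⁻¹) ∈ P := hRP h2
    have h4 := P.mul_mem s'.2 h3
    rwa [mul_inv_cancel_left] at h4
  have hmapP : ∀ y : preimageAlong θ V, conjHom (preimageAlong θ V) (x : G) y ∈ P := by
    intro y
    obtain ⟨s, hs, hsy⟩ := (mem_preimageAlong_iff θ V _).1 y.2
    show (x : G) * (y : G) * (x : G)⁻¹ ∈ P
    rw [← hsy]
    exact hxP s hs
  have hP'2 : ∀ y : preimageAlong θ V, θ ⟨y, hQ2P y.2⟩ ∈ V := by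
    intro y
    obtain ⟨s, hs, hsy⟩ := (mem_preimageAlong_iff θ V _).1 y.2
    have : (⟨(y : G), hQ2P y.2⟩ : P) = s := Subtype.ext hsy.symm
    rw [this]
    exact hs
  refine ⟨ψ', ?_, ?_, ?_⟩
  · rw [hE]
    refine ⟨le_top, conjHom (preimageAlong θ V) (x : G), ⟨hQ2P, hmapP, (x : G), fun y => rfl⟩, ?_⟩
    refine ⟨hQ2P, hmapP, hP'2, fun y => ?_⟩
    apply hι
    rw [hψ']
    exact key1 x ⟨y, hQ2P y.2⟩ (hmapP y)
  · intro w
    apply hι
    rw [hψ']
    obtain ⟨s, hs⟩ := hθsurj (w : Ω')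
    have hsP' : θ s ∈ P' := by rw [hs]; exact w.2
    have hw : w = ⟨θ s, hsP'⟩ := Subtype.ext hs.symm
    have h1 := hφ'ι s hsP'
    rw [← hw] at h1
    rw [h1]
    show π x * ι (w : Ω') * (π x)⁻¹ = _
    rw [← hx (ι (w : Ω')) ⟨w, w.2, rfl⟩, hs]
  · ext z
    constructor
    · rintro ⟨w, hw, rfl⟩
      rw [Subgroup.mem_comap, hψ']
      exact (Subgroup.mem_normalizer_iff.1 hxU (ι w)).1 (Subgroup.mem_comap.1 (Subgroup.mem_subgroupOf.1 hw))
    · intro hz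
      have hz' : ι z ∈ U := Subgroup.mem_comap.1 hz
      have hxinv : (π x)⁻¹ ∈ Subgroup.normalizer (U : Set H) := (Subgroup.normalizer (U : Set H)).inv_mem hxU
      have h1 : (π x)⁻¹ * ι z * (π x)⁻¹⁻¹ ∈ U := (Subgroup.mem_normalizer_iff.1 hxinv (ι z)).1 hz'
      obtain ⟨w, hw⟩ := hU h1
      have hwZ : w ∈ U.comap ι := by rw [Subgroup.mem_comap, hw]; exact h1
      refine ⟨⟨w, Subgroup.mem_sup_right hwZ⟩, Subgroup.mem_subgroupOf.2 hwZ, ?_⟩
      apply hι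
      rw [hψ']
      show π x * ι w * (π x)⁻¹ = ι z
      rw [hw]
      group

end Cfsg.Agent.helper3
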