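import Mathlib
import Cfsg.Agent.Lib_helper22_FS
import Cfsg.Agent.Lib_helper24_CharBasic
import Cfsg.Agent.Lib_helper24_CharValues

set_option autoImplicit false
set_option linter.unusedSectionVars false
set_option linter.unusedVariables false

/-!
helper3: an irreducible character with Frobenius–Schur indicator `-1` has even degree
(an invertible skew-symmetric matrix has even size).
-/

namespace Cfsg.Agent.helper3.FSB

open Cfsg

theorem even_degree_of_fsInd_neg_one {G : Type*} [Group G] [Fintype G] {χ : G → ℂ}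
    (hχ : IsIrrCharacter G χ) (h : helper22.fsInd χ = -1) : Even (charDegree χ) := by
  have hreal : ∀ g, (χ g).im = 0 :=
    (helper22.fsInd_ne_zero_iff hχ).1 (by rw [h]; norm_num)
  obtain ⟨n, ρ, hρ, rfl⟩ := hχ
  obtain ⟨M, hM0, hM⟩ := helper22.exists_invariant_of_real ρ hρ hreal
  have hT := helper22.fs_transpose ρ hρ M hM
  have hfs : helper22.fsRep ρ = -1 := h
  rw [hfs] at hT
  have hU := helper22.isUnit_of_invariant ρ hρ M hM0 hM
  have hdet : IsUnit M.det := (Matrix.isUnit_iff_isUnit_det M).1 hU
  have h1 : M.det = (-1 : ℂ) ^ n * M.det := by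
    have := congrArg Matrix.det hT
    rw [Matrix.det_transpose, Matrix.det_smul, Fintype.card_fin] at this
    exact this
  have h2 : (-1 : ℂ) ^ n = 1 := by
    have h3 : ((-1 : ℂ) ^ n - 1) * M.det = 0 := by
      rw [sub_mul, one_mul, ← h1, sub_self]
    rcases mul_eq_zero.1 h3 with h4 | h4
    · exact sub_eq_zero.1 h4
    · exact absurd h4 hdet.ne_zero
  have h5 : Even n := (neg_one_pow_eq_one_iff_even (by norm_num)).1 h2
  have h6 : charDegree ρ.character = n := by
    apply helper24.charDegree_natCast
    simp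
  rw [h6]
  exact h5

theorem multiset_pm_one_parity (ms : Multiset ℂ) (h : ∀ μ ∈ ms, μ = 1 ∨ μ = -1) :
    ∃ k : ℤ, (Multiset.card ms : ℂ) - ms.sum = 2 * (k : ℂ) := by
  induction ms using Multiset.induction_on with
  | empty => exact ⟨0, by simp⟩
  | cons a m ih =>
    obtain ⟨k, hk⟩ := ih (fun μ hμ => h μ (Multiset.mem_cons_of_mem hμ))
    rcases h a (Multiset.mem_cons_self a m) with ha | ha
    · refine ⟨k, ?_⟩
      rw [Multiset.card_cons, Multiset.sum_cons, ha]
      push_cast
      linear_combination hk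
    · refine ⟨k + 1, ?_⟩
      rw [Multiset.card_cons, Multiset.sum_cons, ha]
      push_cast
      linear_combination hk

/-- the degree of a character and its value at an involution differ by an even integer -/
theorem charDegree_sub_involution {G : Type*} [Group G] [Finite G] {χ : G → ℂ}
    (hχ : IsCharacter G χ) {t : G} (ht : orderOf t = 2) :
    ∃ k : ℤ, (charDegree χ : ℂ) - χ t = 2 * (k : ℂ) := by
  obtain ⟨n, ρ, rfl⟩ := hχ
  obtain ⟨ms, hcard, hms, hsum⟩ := helper24.rep_char_eq_sum_roots ρ t
  have h2 : ∀ μ ∈ ms, μ = 1 ∨ μ = -1 := by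
    intro μ hμ
    have h3 : μ ^ 2 = 1 := by
      have := hms μ hμ
      rwa [ht] at this
    have h4 : (μ - 1) * (μ + 1) = 0 := by
      have : (μ - 1) * (μ + 1) = μ ^ 2 - 1 := by ring
      rw [this, h3, sub_self]
    rcases mul_eq_zero.mp h4 with h | h
    · left; exact sub_eq_zero.mp h
    · right; exact eq_neg_of_add_eq_zero_left h
  obtain ⟨k, hk⟩ := multiset_pm_one_parity ms h2
  have h6 : charDegree ρ.character = n := by
    apply helper24.charDegree_natCast
    simp
  refine ⟨k, ?_⟩
  rw [h6, hsum, ← hcard]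
  exact hk

/-- a character with value `±1` at an involution has odd degree -/
theorem odd_degree_of_involution_value {G : Type*} [Group G] [Finite G] {χ : G → ℂ}
    (hχ : IsCharacter G χ) {t : G} (ht : orderOf t = 2) (ε : ℤ) (hε : ε = 1 ∨ ε = -1)
    (hv : χ t = (ε : ℂ)) : Odd (charDegree χ) := by
  obtain ⟨k, hk⟩ := charDegree_sub_involution hχ ht
  rw [hv] at hk
  have h1 : ((charDegree χ : ℤ) : ℂ) = ((ε + 2 * k : ℤ) : ℂ) := by
    push_cast
    linear_combination hk
  have h2 : (charDegree χ : ℤ) = ε + 2 * k := by exact_mod_cast h1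
  have h3 : Odd (charDegree χ : ℤ) := by
    rw [h2]
    rcases hε with rfl | rfl
    · exact ⟨k, by ring⟩
    · exact ⟨k - 1, by ring⟩
  exact_mod_cast h3

end Cfsg.Agent.helper3.FSB
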