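import Cfsg.Statements.S0575
import Mathlib

set_option autoImplicit false
open Cfsg

namespace Cfsg.Agent.S0575

open scoped Pointwise

theorem result {G : Type*} [Group G] [Finite G] (H : Subgroup G) [H.Normal] : (frattini ↥H).map H.subtype ≤ frattini G := by
  set F := (frattini ↥H).map H.subtype with hF
  haveI hFn : F.Normal := ConjAct.normal_of_characteristic_of_normal
  have hFH : F ≤ H := by
    rw [hF]; exact Subgroup.map_subtype_le _
  unfold frattini Order.radical
  apply le_iInf₂
  intro M hM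
  by_contra hFM
  have hsup : F ⊔ M = ⊤ := by
    by_contra h
    have h1 : M < F ⊔ M := lt_of_le_of_ne le_sup_right (fun h2 => hFM (by rw [h2]; exact le_sup_left))
    exact h (hM.2 _ h1)
  have hK : M.subgroupOf H ⊔ frattini ↥H = ⊤ := by
    rw [eq_top_iff]
    rintro ⟨h, hh⟩ -
    have hmem : h ∈ ((F ⊔ M : Subgroup G) : Set G) := by rw [hsup]; trivial
    rw [Subgroup.normal_mul] at hmem
    obtain ⟨f, hf, m, hm, hfm⟩ := hmem
    change f * m = h at hfm
    have hfH : f ∈ H := hFH hf
    have hmH : m ∈ H := by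
      have : m = f⁻¹ * h := by rw [← hfm]; group
      rw [this]; exact H.mul_mem (H.inv_mem hfH) hh
    have hf' : (⟨f, hfH⟩ : H) ∈ frattini ↥H := by
      rw [hF] at hf
      obtain ⟨x, hx, hxf⟩ := hf
      have : x = ⟨f, hfH⟩ := Subtype.ext hxf
      rwa [← this]
    have hm' : (⟨m, hmH⟩ : H) ∈ M.subgroupOf H := by
      rw [Subgroup.mem_subgroupOf]; exact hm
    have : (⟨h, hh⟩ : H) = ⟨f, hfH⟩ * ⟨m, hmH⟩ := Subtype.ext hfm.symm
    rw [this]
    exact Subgroup.mul_mem _ (Subgroup.mem_sup_right hf') (Subgroup.mem_sup_left hm')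
  have hKtop := frattini_nongenerating hK
  have hHM : H ≤ M := by
    rw [← Subgroup.subgroupOf_eq_top]; exact hKtop
  exact hFM (hFH.trans hHM)

end Cfsg.Agent.S0575
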