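import Cfsg.Statements.S0586
import Mathlib
import Cfsg.Agent.Lib_helper3_Prim
import Cfsg.Agent.Lib_helper1_Core
import Cfsg.Agent.Lib_helper1_PGroup
import Cfsg.Agent.S0575

set_option autoImplicit false
open Cfsg

open scoped commutatorElement
namespace Cfsg.Agent.S0586

open Cfsg.Agent.helper3 Cfsg.Agent.helper1

theorem nilpotent_of_comm {N : Type*} [Group N] (h : IsMulCommutative N) : Group.IsNilpotent N := by
  letI : CommGroup N := { (inferInstance : Group N) with mul_comm := h.is_comm.comm }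
  exact CommGroup.isNilpotent

/-- A normal maximal subgroup contains the commutator subgroup. -/
theorem commutator_le_normal_coatom {F : Type*} [Group F] {M : Subgroup F} (hMn : M.Normal)
    (hM : IsCoatom M) : commutator F ≤ M := by
  haveI := hMn
  obtain ⟨x, hx⟩ : ∃ x, x ∉ M := by
    by_contra h
    push Not at h
    exact hM.1 (eq_top_iff.mpr (fun y _ => h y))
  have hsup : M ⊔ Subgroup.zpowers x = ⊤ := by
    apply hM.2
    apply lt_of_le_of_ne le_sup_left
    intro h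
    apply hx
    rw [h]
    exact Subgroup.mem_sup_right (Subgroup.mem_zpowers x)
  haveI : IsCyclic (F ⧸ M) := by
    refine ⟨⟨QuotientGroup.mk' M x, ?_⟩⟩
    intro y
    obtain ⟨y, rfl⟩ := QuotientGroup.mk'_surjective M y
    obtain ⟨m, hm, z, hz, rfl⟩ := prim_exists_mul hsup y
    obtain ⟨k, rfl⟩ := Subgroup.mem_zpowers_iff.mp hz
    refine ⟨k, ?_⟩
    show QuotientGroup.mk' M x ^ k = QuotientGroup.mk' M (m * x ^ k)
    rw [map_mul, map_zpow]
    have : QuotientGroup.mk' M m = 1 := (QuotientGroup.eq_one_iff m).mpr hm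
    rw [this, one_mul]
  letI : CommGroup (F ⧸ M) := IsCyclic.commGroup
  have := Abelianization.commutator_subset_ker (QuotientGroup.mk' M)
  rwa [QuotientGroup.ker_mk'] at this

/-- A finite nilpotent group with trivial Frattini subgroup is abelian. -/
theorem comm_of_nilpotent_frattini_bot {F : Type*} [Group F] [Finite F]
    (hnil : Group.IsNilpotent F) (hΦ : frattini F = ⊥) : ∀ a b : F, a * b = b * a := by
  have h1 : commutator F ≤ frattini F := by
    apply le_frattini_of_forall_coatom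
    intro M hM
    have hMn : M.Normal :=
      ((Group.isNilpotent_of_finite_tfae (G := F)).out 0 2 rfl rfl).mp hnil M hM
    exact commutator_le_normal_coatom hMn hM
  rw [hΦ] at h1
  intro a b
  have h2 : ⁅a, b⁆ ∈ commutator F := Subgroup.commutator_mem_commutator (Subgroup.mem_top a)
    (Subgroup.mem_top b)
  have h3 := h1 h2
  rw [Subgroup.mem_bot, commutatorElement_eq_one_iff_mul_comm] at h3
  exact h3

/-- With trivial Frattini subgroup, abelian normal subgroups are complemented. -/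
theorem exists_compl_of_frattini_bot {G : Type*} [Group G] [Finite G] (hΦ : frattini G = ⊥)
    (A : Subgroup G) [hA : A.Normal] (hab : ∀ x ∈ A, ∀ y ∈ A, x * y = y * x) :
    ∃ K : Subgroup G, A ⊔ K = ⊤ ∧ A ⊓ K = ⊥ := by
  obtain ⟨K, hK⟩ := exists_minimal_of_wellFoundedLT (fun K : Subgroup G => A ⊔ K = ⊤)
    ⟨⊤, sup_top_eq A⟩
  refine ⟨K, hK.1, ?_⟩
  by_contra hD
  have hDn : (A ⊓ K).Normal := by
    constructor
    intro x hx g
    obtain ⟨a, ha, k, hk, rfl⟩ := prim_exists_mul hK.1 g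
    have h1 : k * x * k⁻¹ ∈ A ⊓ K :=
      Subgroup.mem_inf.mpr ⟨hA.conj_mem _ hx.1 _, K.mul_mem (K.mul_mem hk hx.2) (K.inv_mem hk)⟩
    have e : a * k * x * (a * k)⁻¹ = a * (k * x * k⁻¹) * a⁻¹ := by group
    rw [e, hab a ha _ h1.1]
    have e' : k * x * k⁻¹ * a * a⁻¹ = k * x * k⁻¹ := by group
    rw [e']; exact h1
  have hnle : ¬ (A ⊓ K) ≤ frattini G := by
    rw [hΦ]
    intro h
    exact hD (le_bot_iff.mp h)
  obtain ⟨M, hM, hDM⟩ := exists_coatom_not_le_of_not_le_frattini hnle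
  have hsup : (A ⊓ K) ⊔ M = ⊤ := coatom_sup_eq_top hM hDM
  have hK' : A ⊔ (K ⊓ M) = ⊤ := by
    rw [eq_top_iff, ← hK.1]
    apply sup_le le_sup_left
    intro k hk
    haveI := hDn
    obtain ⟨d, hd, m, hm, rfl⟩ := prim_exists_mul hsup k
    have hmK : m ∈ K := by
      have : m = d⁻¹ * (d * m) := by group
      rw [this]
      exact K.mul_mem (K.inv_mem hd.2) hk
    exact Subgroup.mul_mem _ (Subgroup.mem_sup_left hd.1)
      (Subgroup.mem_sup_right (Subgroup.mem_inf.mpr ⟨hmK, hm⟩))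
  have hKM : K ≤ K ⊓ M := hK.2 hK' inf_le_left
  exact hDM (inf_le_right.trans (hKM.trans inf_le_right))

/-- If the Frattini subgroup of a finite group G is trivial, then the Fitting subgroup of G equals the join of all abelian minimal normal subgroups of G. -/
theorem result {G : Type*} [Group G] [Finite G] (hΦ : frattini G = ⊥) : Cfsg.fittingSubgroup G = sSup {N : Subgroup G | N.Normal ∧ N ≠ ⊥ ∧ IsMulCommutative N ∧ ∀ K : Subgroup G, K.Normal → K ≤ N → K = ⊥ ∨ K = N} := by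
  classical
  set F := Cfsg.fittingSubgroup G with hFdef
  haveI hFn : F.Normal := fitting_normal
  have hFnil : Group.IsNilpotent F := fitting_isNilpotent
  have hΦF : frattini ↥F = ⊥ := by
    have h1 := Cfsg.Agent.S0575.result F
    rw [hΦ] at h1
    have h2 := le_bot_iff.mp h1
    rwa [Subgroup.map_eq_bot_iff_of_injective _ F.subtype_injective] at h2
  have hFab : ∀ x ∈ F, ∀ y ∈ F, x * y = y * x := by
    intro x hx y hy
    have := comm_of_nilpotent_frattini_bot hFnil hΦF ⟨x, hx⟩ ⟨y, hy⟩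
    exact congrArg Subtype.val this
  set 𝒩 : Set (Subgroup G) := {N : Subgroup G | N.Normal ∧ N ≠ ⊥ ∧ IsMulCommutative N ∧
    ∀ K : Subgroup G, K.Normal → K ≤ N → K = ⊥ ∨ K = N} with h𝒩
  have hSF : sSup 𝒩 ≤ F := by
    apply sSup_le
    intro N hN
    exact le_fitting hN.1 (nilpotent_of_comm hN.2.2.1)
  apply le_antisymm _ hSF
  haveI hSn : (sSup 𝒩).Normal := Subgroup.sSup_normal _ (fun N hN => hN.1)
  have hSab : ∀ x ∈ sSup 𝒩, ∀ y ∈ sSup 𝒩, x * y = y * x :=
    fun x hx y hy => hFab x (hSF hx) y (hSF hy)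
  obtain ⟨K, hK1, hK2⟩ := exists_compl_of_frattini_bot hΦ (sSup 𝒩) hSab
  -- F ⊓ K is normal
  have hFKn : (F ⊓ K).Normal := by
    constructor
    intro x hx g
    obtain ⟨s, hs, k, hk, rfl⟩ := prim_exists_mul hK1 g
    have h1 : k * x * k⁻¹ ∈ F ⊓ K :=
      Subgroup.mem_inf.mpr ⟨hFn.conj_mem _ hx.1 _, K.mul_mem (K.mul_mem hk hx.2) (K.inv_mem hk)⟩
    have e : s * k * x * (s * k)⁻¹ = s * (k * x * k⁻¹) * s⁻¹ := by group
    rw [e, hFab s (hSF hs) _ h1.1]
    have e' : k * x * k⁻¹ * s * s⁻¹ = k * x * k⁻¹ := by group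
    rw [e']; exact h1
  have hFK : F ⊓ K = ⊥ := by
    by_contra hne
    obtain ⟨N, hN⟩ := exists_minimal_of_wellFoundedLT
      (fun N : Subgroup G => N.Normal ∧ N ≠ ⊥ ∧ N ≤ F ⊓ K) ⟨F ⊓ K, hFKn, hne, le_rfl⟩
    have hN𝒩 : N ∈ 𝒩 := by
      refine ⟨hN.1.1, hN.1.2.1, ?_, ?_⟩
      · exact ⟨⟨fun a b => Subtype.ext
          (hFab a (inf_le_left (a := F) (b := K) (hN.1.2.2 a.2)) b
            (inf_le_left (a := F) (b := K) (hN.1.2.2 b.2)))⟩⟩
      · intro K' hK'n hK'N
        by_cases h0 : K' = ⊥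
        · exact Or.inl h0
        · right
          exact le_antisymm hK'N (hN.2 ⟨hK'n, h0, hK'N.trans hN.1.2.2⟩ hK'N)
    have h1 : N ≤ sSup 𝒩 ⊓ K := le_inf (le_sSup hN𝒩) (hN.1.2.2.trans inf_le_right)
    rw [hK2] at h1
    exact hN.1.2.1 (le_bot_iff.mp h1)
  intro x hx
  obtain ⟨s, hs, k, hk, rfl⟩ := prim_exists_mul hK1 x
  have hkF : k ∈ F ⊓ K := by
    refine Subgroup.mem_inf.mpr ⟨?_, hk⟩
    have : k = s⁻¹ * (s * k) := by group
    rw [this]
    exact F.mul_mem (F.inv_mem (hSF hs)) hx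
  rw [hFK, Subgroup.mem_bot] at hkF
  rw [hkF, mul_one]; exact hs

end Cfsg.Agent.S0586
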