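import Mathlib

set_option autoImplicit false

namespace Cfsg.Agent.helper3.GF2

variable {G : Type*} [Group G]

theorem exists_sylow_in [Finite G] (K A : Subgroup G) (hAK : A ≤ K) (hA : IsPGroup 2 A) :
    ∃ S : Subgroup G, S ≤ K ∧ A ≤ S ∧ IsPGroup 2 S ∧
      Nat.card S = 2 ^ (Nat.card K).factorization 2 := by
  haveI : Fact (Nat.Prime 2) := ⟨Nat.prime_two⟩
  have hA' : IsPGroup 2 (A.subgroupOf K) := hA.comap_subtype
  obtain ⟨S', hS'⟩ := hA'.exists_le_sylow
  refine ⟨(S' : Subgroup K).map K.subtype, Subgroup.map_subtype_le _, ?_, ?_, ?_⟩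
  · intro a ha
    exact ⟨⟨a, hAK ha⟩, hS' (by rw [Subgroup.mem_subgroupOf]; exact ha), rfl⟩
  · exact S'.isPGroup'.map _
  · rw [Subgroup.card_map_of_injective K.subtype_injective]
    exact S'.card_eq_multiplicity

theorem card_le_of_pgroup [Finite G] (K A : Subgroup G) (hAK : A ≤ K) (hA : IsPGroup 2 A) :
    Nat.card A ≤ 2 ^ (Nat.card K).factorization 2 := by
  haveI : Fact (Nat.Prime 2) := ⟨Nat.prime_two⟩
  obtain ⟨k, hk⟩ := hA.exists_card_eq
  have hdvd : Nat.card A ∣ Nat.card K := Subgroup.card_dvd_of_le hAK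
  rw [hk] at hdvd ⊢
  have : k ≤ (Nat.card K).factorization 2 :=
    (Nat.Prime.pow_dvd_iff_le_factorization Nat.prime_two (Nat.card_pos.ne')).mp hdvd
  exact Nat.pow_le_pow_right (by norm_num) this

theorem card_centralizer_conj [Finite G] (g z : G) :
    Nat.card (Subgroup.centralizer ({g * z * g⁻¹} : Set G)) =
      Nat.card (Subgroup.centralizer ({z} : Set G)) := by
  have : Subgroup.centralizer ({g * z * g⁻¹} : Set G) =
      (Subgroup.centralizer ({z} : Set G)).map (MulAut.conj g).toMonoidHom := by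
    ext x
    rw [Subgroup.mem_map, Subgroup.mem_centralizer_singleton_iff]
    constructor
    · intro hx
      refine ⟨g⁻¹ * x * g, ?_, ?_⟩
      · rw [Subgroup.mem_centralizer_singleton_iff]
        have : g⁻¹ * x * g * z = g⁻¹ * (x * (g * z * g⁻¹)) * g := by group
        rw [this, hx]; group
      · simp only [MulEquiv.coe_toMonoidHom, MulAut.conj_apply]; group
    · rintro ⟨y, hy, rfl⟩
      rw [Subgroup.mem_centralizer_singleton_iff] at hy
      simp only [MulEquiv.coe_toMonoidHom, MulAut.conj_apply]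
      have : g * y * g⁻¹ * (g * z * g⁻¹) = g * (y * z) * g⁻¹ := by group
      rw [this, hy]; group
  rw [this, Subgroup.card_map_of_injective (MulAut.conj g).injective]

theorem exists_normalizing [Finite G] (S T : Subgroup G) (hST : S ≤ T) (hne : S ≠ T)
    (hT : IsPGroup 2 T) :
    ∃ y ∈ T, y ∉ S ∧ ∀ s ∈ S, y * s * y⁻¹ ∈ S ∧ y⁻¹ * s * y ∈ S := by
  haveI : Fact (Nat.Prime 2) := ⟨Nat.prime_two⟩
  haveI : Group.IsNilpotent T := hT.isNilpotent
  have hnc := Group.normalizerCondition_of_isNilpotent (G := T)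
  have hlt : S.subgroupOf T < ⊤ := by
    rw [lt_top_iff_ne_top]
    intro h
    apply hne
    apply le_antisymm hST
    intro x hx
    have : (⟨x, hx⟩ : T) ∈ S.subgroupOf T := by rw [h]; trivial
    exact this
  have h2 := hnc _ hlt
  obtain ⟨y, hyN, hyS⟩ := SetLike.exists_of_lt h2
  refine ⟨y.1, y.2, fun h => hyS h, ?_⟩
  intro s hs
  have hsT : s ∈ T := hST hs
  have hyN' := inv_mem hyN
  rw [Subgroup.mem_normalizer_iff] at hyN hyN'
  constructor
  · exact (hyN ⟨s, hsT⟩).mp hs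
  · have h3 := (hyN' ⟨s, hsT⟩).mp hs
    rw [inv_inv] at h3
    exact h3

theorem mem_closure_pair {z t : G} (hzz : z * z = 1) (htt : t * t = 1) (htz : t * z = z * t)
    {u : G} (hu : u ∈ Subgroup.closure ({z, t} : Set G)) :
    u = 1 ∨ u = z ∨ u = t ∨ u = z * t := by
  have hz' : ∀ a : G, z * (z * a) = a := fun a => by rw [← mul_assoc, hzz, one_mul]
  have ht' : ∀ a : G, t * (t * a) = a := fun a => by rw [← mul_assoc, htt, one_mul]
  have htz' : ∀ a : G, t * (z * a) = z * (t * a) := fun a => by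
    rw [← mul_assoc, htz, mul_assoc]
  have hzi : z⁻¹ = z := inv_eq_of_mul_eq_one_right hzz
  have hti : t⁻¹ = t := inv_eq_of_mul_eq_one_right htt
  induction hu using Subgroup.closure_induction with
  | mem x hx =>
    rcases hx with rfl | hx
    · right; left; rfl
    · rw [Set.mem_singleton_iff] at hx
      subst hx
      right; right; left; rfl
  | one => left; rfl
  | mul x y _ _ hx hy =>
    rcases hx with rfl | rfl | rfl | rfl <;> rcases hy with rfl | rfl | rfl | rfl <;>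
      simp [mul_assoc, hzz, htt, htz, hz', htz']
  | inv x _ hx =>
    rcases hx with rfl | rfl | rfl | rfl <;> simp [hzi, hti, mul_inv_rev, htz]


theorem act_iff {a x y : G} : SemiconjBy a x y ↔ a * x * a⁻¹ = y := by
  unfold SemiconjBy
  exact mul_inv_eq_iff_eq_mul.symm

theorem act_unique {a x y y' : G} (h1 : SemiconjBy a x y) (h2 : SemiconjBy a x y') : y = y' := by
  rw [act_iff] at h1 h2
  rw [← h1, ← h2]

theorem commute_conj {a x y x' y' : G} (h : Commute x y) (h1 : SemiconjBy a x x')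
    (h2 : SemiconjBy a y y') : Commute x' y' := by
  rw [act_iff] at h1 h2
  subst h1; subst h2
  show a * x * a⁻¹ * (a * y * a⁻¹) = a * y * a⁻¹ * (a * x * a⁻¹)
  have e1 : a * x * a⁻¹ * (a * y * a⁻¹) = a * (x * y) * a⁻¹ := by group
  have e2 : a * y * a⁻¹ * (a * x * a⁻¹) = a * (y * x) * a⁻¹ := by group
  rw [e1, e2, h.eq]

structure Ctx (z t q0 : G) (Q : Subgroup G) : Prop where
  hzz : z * z = 1
  hz1 : z ≠ 1
  hQz : ∀ q ∈ Q, q * z = z * q
  hQn : ∀ h : G, h * z = z * h → ∀ q ∈ Q, h * q * h⁻¹ ∈ Q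
  hself : ∀ h : G, h * z = z * h → (∀ q ∈ Q, h * q = q * h) → h ∈ Q
  hzQ : z ∈ Q
  hS1 : ∀ c ∈ Q, (∀ q ∈ Q, c * q = q * c) → c ^ 2 = 1 → c = 1 ∨ c = z
  hS3 : ∀ a ∈ Q, ∀ b ∈ Q, a * b = b * a ∨ a * b = z * (b * a)
  htQ : t ∈ Q
  htt : t * t = 1
  hq0 : q0 ∈ Q
  hq0t : SemiconjBy q0 t (z * t)

theorem stepA (z : G) (Q : Subgroup G)
    (hS1 : ∀ c ∈ Q, (∀ q ∈ Q, c * q = q * c) → c ^ 2 = 1 → c = 1 ∨ c = z)
    (hS3 : ∀ a ∈ Q, ∀ b ∈ Q, a * b = b * a ∨ a * b = z * (b * a))
    (a : G) (haQ : a ∈ Q) (haa : a * a = 1) (ha1 : a ≠ 1) (haz : a ≠ z) :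
    ∃ q ∈ Q, SemiconjBy q a (z * a) := by
  by_cases h : ∀ q ∈ Q, a * q = q * a
  · rcases hS1 a haQ h (by rw [pow_two]; exact haa) with h1 | h1
    · exact absurd h1 ha1
    · exact absurd h1 haz
  · push_neg at h
    obtain ⟨q, hq, hqa⟩ := h
    refine ⟨q, hq, ?_⟩
    rcases hS3 q hq a haQ with h1 | h1
    · exact absurd h1.symm hqa
    · show q * a = z * a * q
      rw [h1, mul_assoc]

namespace Ctx

variable {z t q0 : G} {Q : Subgroup G}

theorem zz' (ctx : Ctx z t q0 Q) (a : G) : z * (z * a) = a := by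
  rw [← mul_assoc, ctx.hzz, one_mul]

theorem cz (ctx : Ctx z t q0 Q) {q : G} (hq : q ∈ Q) : Commute q z := ctx.hQz q hq

theorem idx (ctx : Ctx z t q0 Q) {q : G} (hq : q ∈ Q) :
    Commute q t ∨ Commute (q0⁻¹ * q) t := by
  rcases ctx.hS3 q hq t ctx.htQ with h | h
  · left; exact h
  · right
    have h1 : SemiconjBy q t (z * t) := by
      show q * t = z * t * q
      rw [h, mul_assoc]
    exact ctx.hq0t.inv_symm_left.mul_left h1

theorem cen (ctx : Ctx z t q0 Q) {w : G} (hwz : w * z = z * w)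
    (hwR : ∀ r ∈ Q, Commute r t → Commute w r)
    (hwq : Commute w q0) (hww : w * w = 1) : w = 1 ∨ w = z := by
  have hall : ∀ q ∈ Q, w * q = q * w := by
    intro q hq
    rcases ctx.idx hq with h | h
    · exact (hwR q hq h).eq
    · have h1 : Commute w (q0⁻¹ * q) := hwR _ (mul_mem (inv_mem ctx.hq0) hq) h
      have h2 : Commute w (q0 * (q0⁻¹ * q)) := hwq.mul_right h1
      rw [mul_inv_cancel_left] at h2
      exact h2.eq
  have hwQ : w ∈ Q := ctx.hself w hwz hall
  exact ctx.hS1 w hwQ hall (by rw [pow_two]; exact hww)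

theorem stepC (ctx : Ctx z t q0 Q) {x : G} (hxz : x * z = z * x) (hxx : x * x = 1)
    (hxR : ∀ r ∈ Q, Commute r t → Commute x r) :
    x = 1 ∨ x = z ∨ x = t ∨ x = z * t := by
  have hq0z : Commute q0 z := ctx.cz ctx.hq0
  have htz : Commute t z := ctx.cz ctx.htQ
  have hq0zt : SemiconjBy q0 (z * t) t := by
    have := SemiconjBy.mul_right (show SemiconjBy q0 z z from hq0z) ctx.hq0t
    rwa [ctx.zz'] at this
  obtain ⟨c, hc⟩ : ∃ c, c = q0⁻¹ * (x * (q0 * x⁻¹)) := ⟨_, rfl⟩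
  have hcQ : c ∈ Q := by
    rw [hc]
    apply mul_mem (inv_mem ctx.hq0)
    have := ctx.hQn x hxz q0 ctx.hq0
    rwa [mul_assoc] at this
  have hxq0 : SemiconjBy x q0 (q0 * c) := by
    rw [act_iff, hc]; group
  have hcR : ∀ r ∈ Q, Commute r t → Commute c r := by
    intro r hr hrt
    have hr'Q : q0 * r * q0⁻¹ ∈ Q := mul_mem (mul_mem ctx.hq0 hr) (inv_mem ctx.hq0)
    have hq0r : SemiconjBy q0 r (q0 * r * q0⁻¹) := SemiconjBy.conj_mk q0 r
    have hrzt : Commute r (z * t) := (ctx.cz hr).mul_right hrt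
    have hr't : Commute (q0 * r * q0⁻¹) t := commute_conj hrzt hq0r hq0zt
    have h1 : Commute x⁻¹ r := (hxR r hr hrt).inv_left
    have h2 : Commute x (q0 * r * q0⁻¹) := hxR _ hr'Q hr't
    have h3 : SemiconjBy q0⁻¹ (q0 * r * q0⁻¹) r := hq0r.inv_symm_left
    have h4 : SemiconjBy (q0⁻¹ * (x * (q0 * x⁻¹))) r r :=
      h3.mul_left (SemiconjBy.mul_left (show SemiconjBy x _ _ from h2) (hq0r.mul_left h1))
    rw [← hc] at h4
    exact h4
  have hct : Commute c t := hcR t ctx.htQ (Commute.refl t)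
  have hxc : Commute x c := hxR c hcQ hct
  have hcc : c * c = 1 := by
    have h1 : SemiconjBy x (q0 * c) (q0 * c * c) := hxq0.mul_right hxc
    have h2 : SemiconjBy (x * x) q0 (q0 * c * c) := h1.mul_left hxq0
    rw [hxx] at h2
    have h3 := h2.eq
    rw [one_mul, mul_one, mul_assoc] at h3
    exact mul_left_cancel (a := q0) (by rw [mul_one]; exact h3.symm)
  have hq0q0t : Commute (q0 * q0) t := hq0zt.mul_left ctx.hq0t
  have hxq0q0 : Commute x (q0 * q0) := hxR _ (mul_mem ctx.hq0 ctx.hq0) hq0q0t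
  have hcq0 : Commute c q0 := by
    have h1 : SemiconjBy x (q0 * q0) (q0 * c * (q0 * c)) := hxq0.mul_right hxq0
    have h2 : q0 * q0 = q0 * c * (q0 * c) := act_unique hxq0q0 h1
    have h3 : c * q0 * c = q0 := by
      apply mul_left_cancel (a := q0)
      rw [h2]; group
    show c * q0 = q0 * c
    calc c * q0 = c * q0 * (c * c) := by rw [hcc, mul_one]
      _ = (c * q0 * c) * c := by group
      _ = q0 * c := by rw [h3]
  have hc1z : c = 1 ∨ c = z := ctx.cen (ctx.hQz c hcQ) hcR hcq0 hcc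
  rcases hc1z with h | h
  · rw [h, mul_one] at hxq0
    rcases ctx.cen hxz hxR hxq0 hxx with h1 | h1
    · left; exact h1
    · right; left; exact h1
  · rw [h] at hxq0
    have hxt : Commute x t := hxR t ctx.htQ (Commute.refl t)
    have htq0 : SemiconjBy t q0 (z * q0) := by
      show t * q0 = z * q0 * t
      have e := ctx.hq0t.eq
      rw [mul_assoc, e, mul_assoc, ctx.zz']
    have hxzq0 : SemiconjBy x (z * q0) q0 := by
      have h1 : SemiconjBy x (z * q0) (z * (q0 * z)) :=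
        SemiconjBy.mul_right (show SemiconjBy x z z from hxz) hxq0
      have e : z * (q0 * z) = q0 := by rw [hq0z.eq, ctx.zz']
      rwa [e] at h1
    have hxtq0 : Commute (x * t) q0 := hxzq0.mul_left htq0
    have hxtz : x * t * z = z * (x * t) := by
      rw [mul_assoc, htz.eq, ← mul_assoc, hxz, mul_assoc]
    have hxtR : ∀ r ∈ Q, Commute r t → Commute (x * t) r := by
      intro r hr hrt
      exact (hxR r hr hrt).mul_left hrt.symm
    have hxtxt : x * t * (x * t) = 1 := by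
      calc x * t * (x * t) = x * (t * x) * t := by group
        _ = x * (x * t) * t := by rw [hxt.eq]
        _ = (x * x) * (t * t) := by group
        _ = 1 := by rw [hxx, ctx.htt, one_mul]
    have hti : t⁻¹ = t := inv_eq_of_mul_eq_one_right ctx.htt
    rcases ctx.cen hxtz hxtR hxtq0 hxtxt with h1 | h1
    · right; right; left
      have : x = t⁻¹ := eq_inv_of_mul_eq_one_left h1
      rw [this, hti]
    · right; right; right
      have : x = z * t⁻¹ := eq_mul_inv_of_mul_eq h1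
      rw [this, hti]


theorem stepB [Finite G] (ctx : Ctx z t q0 Q) (hQ2 : IsPGroup 2 Q)
    (hcard : Nat.card (Subgroup.centralizer ({t} : Set G)) =
      Nat.card (Subgroup.centralizer ({z} : Set G)))
    (htz : t ≠ z) :
    ∃ y : G, Commute y t ∧ SemiconjBy y z (z * t) := by
  have memH : ∀ x : G, x ∈ Subgroup.centralizer ({z} : Set G) ↔ x * z = z * x :=
    fun x => Subgroup.mem_centralizer_singleton_iff
  have memH' : ∀ x : G, x ∈ Subgroup.centralizer ({t} : Set G) ↔ x * t = t * x :=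
    fun x => Subgroup.mem_centralizer_singleton_iff
  have hQH : Q ≤ Subgroup.centralizer ({z} : Set G) := fun q hq => (memH q).mpr (ctx.hQz q hq)
  have hR0D : Q ⊓ Subgroup.centralizer ({t} : Set G) ≤
      Subgroup.centralizer ({z} : Set G) ⊓ Subgroup.centralizer ({t} : Set G) :=
    fun r hr => ⟨hQH hr.1, hr.2⟩
  have hR02 : IsPGroup 2 (Q ⊓ Subgroup.centralizer ({t} : Set G) : Subgroup G) :=
    hQ2.to_le inf_le_left
  obtain ⟨S, hSD, hR0S, hS2, hScard⟩ := exists_sylow_in _ _ hR0D hR02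
  have hSH' : S ≤ Subgroup.centralizer ({t} : Set G) := hSD.trans inf_le_right
  have hSH : S ≤ Subgroup.centralizer ({z} : Set G) := hSD.trans inf_le_left
  obtain ⟨T', hT'H', hST', hT'2, hT'card⟩ := exists_sylow_in _ S hSH' hS2
  have hSN : S ≤ Subgroup.normalizer (Q : Set G) := by
    intro s hs
    rw [Subgroup.mem_normalizer_iff]
    intro q
    constructor
    · intro hq
      exact ctx.hQn s ((memH s).mp (hSH hs)) q hq
    · intro hq
      have h1 := ctx.hQn s⁻¹ ((memH s⁻¹).mp (inv_mem (hSH hs))) _ hq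
      have e : s⁻¹ * (s * q * s⁻¹) * s⁻¹⁻¹ = q := by group
      rwa [e] at h1
  have hSQ2 : IsPGroup 2 (S ⊔ Q : Subgroup G) := IsPGroup.to_sup_of_normal_right' hS2 hQ2 hSN
  have hSQH : S ⊔ Q ≤ Subgroup.centralizer ({z} : Set G) := sup_le hSH hQH
  have h1 := card_le_of_pgroup _ _ hSQH hSQ2
  have hq0S : q0 ∉ S := by
    intro h
    have h2 := (memH' q0).mp (hSH' h)
    have h3 := ctx.hq0t.eq
    rw [h2, mul_assoc] at h3
    have h4 : z = 1 := by
      have := mul_right_cancel (b := t * q0) (a := 1) (c := z) (by rw [one_mul]; exact h3)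
      exact this.symm
    exact ctx.hz1 h4
  have h2 : Nat.card S < Nat.card (S ⊔ Q : Subgroup G) := by
    by_contra hle
    push_neg at hle
    have h3 := Subgroup.eq_of_le_of_card_ge (le_sup_left : S ≤ S ⊔ Q) hle
    apply hq0S
    rw [h3]
    exact Subgroup.mem_sup_right ctx.hq0
  have hne : S ≠ T' := by
    intro h
    have h3 : Nat.card S = Nat.card T' := by rw [h]
    rw [hT'card, hcard] at h3
    omega
  obtain ⟨y, hyT', hyS, hynorm⟩ := exists_normalizing S T' hST' hne hT'2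
  have hyH' : y * t = t * y := (memH' y).mp (hT'H' hyT')
  have hyH : ¬ (y * z = z * y) := by
    intro hyH
    have hA2 : IsPGroup 2 ((Subgroup.centralizer ({z} : Set G) ⊓
        Subgroup.centralizer ({t} : Set G)) ⊓ T' : Subgroup G) := hT'2.to_le inf_le_right
    have hAle := card_le_of_pgroup (Subgroup.centralizer ({z} : Set G) ⊓
        Subgroup.centralizer ({t} : Set G)) _ inf_le_left hA2
    have hSA : S ≤ (Subgroup.centralizer ({z} : Set G) ⊓
        Subgroup.centralizer ({t} : Set G)) ⊓ T' := le_inf hSD hST'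
    have h3 := Subgroup.eq_of_le_of_card_ge hSA (by rw [hScard]; exact hAle)
    apply hyS
    rw [h3]
    exact ⟨⟨(memH y).mpr hyH, (memH' y).mpr hyH'⟩, hyT'⟩
  have hzt : z * t = t * z := (ctx.hQz t ctx.htQ).symm
  have hzS : z ∈ S := hR0S ⟨ctx.hzQ, (memH' z).mpr hzt⟩
  obtain ⟨x, hxdef⟩ : ∃ x, x = y * z * y⁻¹ := ⟨_, rfl⟩
  have hxS : x ∈ S := by rw [hxdef]; exact (hynorm z hzS).1
  have hxH : x * z = z * x := (memH x).mp (hSH hxS)
  have hxx : x * x = 1 := by
    rw [hxdef]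
    calc y * z * y⁻¹ * (y * z * y⁻¹) = y * (z * z) * y⁻¹ := by group
      _ = 1 := by rw [ctx.hzz]; group
  have hxR0 : ∀ r ∈ Q, Commute r t → Commute x r := by
    intro r hrQ hrt
    have hrS : r ∈ S := hR0S ⟨hrQ, (memH' r).mpr hrt.eq⟩
    have hr' : y⁻¹ * r * y ∈ S := (hynorm r hrS).2
    have hr'z : (y⁻¹ * r * y) * z = z * (y⁻¹ * r * y) := (memH _).mp (hSH hr')
    show x * r = r * x
    rw [hxdef]
    calc y * z * y⁻¹ * r = y * (z * (y⁻¹ * r * y)) * y⁻¹ := by group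
      _ = y * ((y⁻¹ * r * y) * z) * y⁻¹ := by rw [hr'z]
      _ = r * (y * z * y⁻¹) := by group
  rcases ctx.stepC hxH hxx hxR0 with h | h | h | h
  · exfalso
    rw [hxdef] at h
    exact ctx.hz1 (conj_eq_one_iff.mp h)
  · exfalso
    apply hyH
    rw [hxdef] at h
    exact (act_iff.mpr h).eq
  · exfalso
    apply htz
    rw [hxdef] at h
    have h3 : y * t * y⁻¹ = t := act_iff.mp (show SemiconjBy y t t from hyH')
    have h4 : y * z * y⁻¹ = y * t * y⁻¹ := by rw [h, h3]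
    have h5 := mul_right_cancel h4
    exact (mul_left_cancel h5).symm
  · refine ⟨y, hyH', ?_⟩
    rw [hxdef] at h
    exact act_iff.mpr h

end Ctx

theorem main_abstract [Finite G] (z : G) (hz : orderOf z = 2) (Q : Subgroup G)
    (hQH : Q ≤ Subgroup.centralizer ({z} : Set G)) (hQ2 : IsPGroup 2 Q)
    (hQn : ∀ h ∈ Subgroup.centralizer ({z} : Set G), ∀ q ∈ Q, h * q * h⁻¹ ∈ Q)
    (hself : ∀ h ∈ Subgroup.centralizer ({z} : Set G), (∀ q ∈ Q, h * q = q * h) → h ∈ Q)
    (hzQ : z ∈ Q)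
    (hS1 : ∀ c ∈ Q, (∀ q ∈ Q, c * q = q * c) → c ^ 2 = 1 → c = 1 ∨ c = z)
    (hS3 : ∀ a ∈ Q, ∀ b ∈ Q, a * b = b * a ∨ a * b = z * (b * a))
    (g : G) (hne : g * z * g⁻¹ ≠ z) (hin : g * z * g⁻¹ ∈ Q) :
    z ∈ Q.map (MulAut.conj g).toMonoidHom ∧
      ∀ u ∈ Subgroup.closure ({z, g * z * g⁻¹} : Set G),
        ∀ v ∈ Subgroup.closure ({z, g * z * g⁻¹} : Set G),
        u ≠ 1 → v ≠ 1 → u ≠ v →
          ∃ x ∈ Q ⊔ Q.map (MulAut.conj g).toMonoidHom,
            x * z * x⁻¹ = u ∧ x * (g * z * g⁻¹) * x⁻¹ = v := by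
  have memH : ∀ x : G, x ∈ Subgroup.centralizer ({z} : Set G) ↔ x * z = z * x :=
    fun x => Subgroup.mem_centralizer_singleton_iff
  have hzz : z * z = 1 := by
    have := pow_orderOf_eq_one z
    rwa [hz, pow_two] at this
  have hz1 : z ≠ 1 := by
    intro h
    rw [h, orderOf_one] at hz
    omega
  have hcard := card_centralizer_conj g z
  have hgz : SemiconjBy g z (g * z * g⁻¹) := SemiconjBy.conj_mk g z
  obtain ⟨t, ht⟩ : ∃ t, t = g * z * g⁻¹ := ⟨_, rfl⟩
  rw [← ht] at hne hin hcard hgz ⊢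
  have htt : t * t = 1 := by
    rw [ht]
    calc g * z * g⁻¹ * (g * z * g⁻¹) = g * (z * z) * g⁻¹ := by group
      _ = 1 := by rw [hzz]; group
  have ht1 : t ≠ 1 := by
    intro h
    rw [ht] at h
    exact hz1 (conj_eq_one_iff.mp h)
  have hQz : ∀ q ∈ Q, q * z = z * q := fun q hq => (memH q).mp (hQH hq)
  obtain ⟨q0, hq0, hq0t⟩ := stepA z Q hS1 hS3 t hin htt ht1 hne
  have ctx : Ctx z t q0 Q :=
    { hzz := hzz
      hz1 := hz1
      hQz := hQz
      hQn := fun h hh q hq => hQn h ((memH h).mpr hh) q hq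
      hself := fun h hh hall => hself h ((memH h).mpr hh) hall
      hzQ := hzQ
      hS1 := hS1
      hS3 := hS3
      htQ := hin
      htt := htt
      hq0 := hq0
      hq0t := hq0t }
  obtain ⟨y, hyt, hyz⟩ := ctx.stepB hQ2 hcard hne
  have hq0z : SemiconjBy q0 z z := hQz q0 hq0
  have htz : t * z = z * t := hQz t hin
  have hq0zt : SemiconjBy q0 (z * t) t := by
    have := SemiconjBy.mul_right hq0z hq0t
    rwa [ctx.zz'] at this
  have htzt : t * (z * t) = z := by
    rw [← mul_assoc, htz, mul_assoc, htt, mul_one]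
  have hztt : z * t * t = z := by rw [mul_assoc, htt, mul_one]
  -- w = q0 * y
  have hwz : SemiconjBy (q0 * y) z t := hq0zt.mul_left hyz
  have hwt : SemiconjBy (q0 * y) t (z * t) := hq0t.mul_left (show SemiconjBy y t t from hyt)
  have hwzt : SemiconjBy (q0 * y) (z * t) z := by
    have := hwz.mul_right hwt
    rwa [htzt] at this
  have hwi : SemiconjBy (q0 * y)⁻¹ z (z * t) := hwzt.inv_symm_left
  have hgi : SemiconjBy g⁻¹ t z := hgz.inv_symm_left
  have hh : SemiconjBy (g⁻¹ * (q0 * y)) z z := hgi.mul_left hwz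
  have hhQ : g⁻¹ * (q0 * y) * (z * t) * (g⁻¹ * (q0 * y))⁻¹ ∈ Q :=
    hQn _ ((memH _).mpr hh.eq) _ (mul_mem hzQ hin)
  have hz'eq : g⁻¹ * z * g⁻¹⁻¹ =
      g⁻¹ * (q0 * y) * (z * t) * (g⁻¹ * (q0 * y))⁻¹ := by
    have h1 : SemiconjBy (g⁻¹ * (q0 * y) * (q0 * y)⁻¹) z
        (g⁻¹ * (q0 * y) * (z * t) * (g⁻¹ * (q0 * y))⁻¹) :=
      (SemiconjBy.conj_mk (g⁻¹ * (q0 * y)) (z * t)).mul_left hwi
    rw [mul_inv_cancel_right] at h1
    exact act_unique (SemiconjBy.conj_mk g⁻¹ z) h1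
  obtain ⟨z', hz'def⟩ : ∃ z', z' = g⁻¹ * z * g⁻¹⁻¹ := ⟨_, rfl⟩
  have hz'Q : z' ∈ Q := by rw [hz'def, hz'eq]; exact hhQ
  have hgiz : SemiconjBy g⁻¹ z z' := by rw [hz'def]; exact SemiconjBy.conj_mk g⁻¹ z
  have hgz' : SemiconjBy g z' z := by
    have := hgiz.inv_symm_left
    rwa [inv_inv] at this
  have hzP : z ∈ Q.map (MulAut.conj g).toMonoidHom := by
    refine ⟨z', hz'Q, ?_⟩
    simp only [MulEquiv.coe_toMonoidHom, MulAut.conj_apply]
    exact act_iff.mp hgz'
  refine ⟨hzP, ?_⟩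
  -- the element p
  have hz'z' : z' * z' = 1 := by
    rw [hz'def]
    calc g⁻¹ * z * g⁻¹⁻¹ * (g⁻¹ * z * g⁻¹⁻¹) = g⁻¹ * (z * z) * g⁻¹⁻¹ := by group
      _ = 1 := by rw [hzz]; group
  have hz'1 : z' ≠ 1 := by
    intro h
    rw [hz'def] at h
    exact hz1 (conj_eq_one_iff.mp h)
  have hz'z : z' ≠ z := by
    intro h
    rw [h] at hgz'
    exact hne (act_unique hgz hgz')
  obtain ⟨q1, hq1, hq1z'⟩ := stepA z Q hS1 hS3 z' hz'Q hz'z' hz'1 hz'z
  have hq1z : SemiconjBy q1 z z := hQz q1 hq1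
  have hpz : SemiconjBy (g * (q1 * g⁻¹)) z (z * t) := by
    have h1 : SemiconjBy g (z * z') (t * z) := hgz.mul_right hgz'
    have h2 := h1.mul_left (hq1z'.mul_left hgiz)
    rwa [htz] at h2
  have hpt : SemiconjBy (g * (q1 * g⁻¹)) t t := hgz.mul_left (hq1z.mul_left hgi)
  have hpP : g * (q1 * g⁻¹) ∈ Q.map (MulAut.conj g).toMonoidHom := by
    refine ⟨q1, hq1, ?_⟩
    simp only [MulEquiv.coe_toMonoidHom, MulAut.conj_apply, mul_assoc]
  obtain ⟨b, hbdef⟩ : ∃ b, b = g * (q1 * g⁻¹) := ⟨_, rfl⟩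
  rw [← hbdef] at hpz hpt hpP
  have hbzt : SemiconjBy b (z * t) z := by
    have := hpz.mul_right hpt
    rwa [hztt] at this
  have haX : q0 ∈ Q ⊔ Q.map (MulAut.conj g).toMonoidHom := Subgroup.mem_sup_left hq0
  have hbX : b ∈ Q ⊔ Q.map (MulAut.conj g).toMonoidHom := Subgroup.mem_sup_right hpP
  have ab_z : SemiconjBy (q0 * b) z t := hq0zt.mul_left hpz
  have ab_t : SemiconjBy (q0 * b) t (z * t) := hq0t.mul_left hpt
  have ba_z : SemiconjBy (b * q0) z (z * t) := hpz.mul_left hq0z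
  have ba_t : SemiconjBy (b * q0) t z := hbzt.mul_left hq0t
  have ab_zt : SemiconjBy (q0 * b) (z * t) z := by
    have := ab_z.mul_right ab_t
    rwa [htzt] at this
  have aba_z : SemiconjBy (q0 * b * q0) z t := ab_z.mul_left hq0z
  have aba_t : SemiconjBy (q0 * b * q0) t z := ab_zt.mul_left hq0t
  intro u hu v hv hu1 hv1 huv
  have hu' := mem_closure_pair hzz htt htz hu
  have hv' := mem_closure_pair hzz htt htz hv
  rcases hu' with hu' | hu' | hu' | hu'
  · exact absurd hu' hu1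
  · rcases hv' with hv' | hv' | hv' | hv'
    · exact absurd hv' hv1
    · exact absurd (hu'.trans hv'.symm) huv
    · exact ⟨1, one_mem _, by rw [hu']; group, by rw [hv']; group⟩
    · exact ⟨q0, haX, by rw [hu']; exact act_iff.mp hq0z, by rw [hv']; exact act_iff.mp hq0t⟩
  · rcases hv' with hv' | hv' | hv' | hv'
    · exact absurd hv' hv1
    · exact ⟨q0 * b * q0, mul_mem (mul_mem haX hbX) haX, by rw [hu']; exact act_iff.mp aba_z,
        by rw [hv']; exact act_iff.mp aba_t⟩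
    · exact absurd (hu'.trans hv'.symm) huv
    · exact ⟨q0 * b, mul_mem haX hbX, by rw [hu']; exact act_iff.mp ab_z,
        by rw [hv']; exact act_iff.mp ab_t⟩
  · rcases hv' with hv' | hv' | hv' | hv'
    · exact absurd hv' hv1
    · exact ⟨b * q0, mul_mem hbX haX, by rw [hu']; exact act_iff.mp ba_z,
        by rw [hv']; exact act_iff.mp ba_t⟩
    · exact ⟨b, hbX, by rw [hu']; exact act_iff.mp hpz, by rw [hv']; exact act_iff.mp hpt⟩
    · exact absurd (hu'.trans hv'.symm) huv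

end Cfsg.Agent.helper3.GF2
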