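import Mathlib
import Cfsg.Agent.Lib_lead_Coprime5

set_option autoImplicit false
set_option linter.style.haveILetI false

/-!
# Basic lemmas for strongly closed subgroups of fixed order (S3031)
-/

namespace Cfsg.Agent.helper3

open scoped commutatorElement

universe u

section arith

/-- All primes dividing `m` exceed `p`. -/
def BigPrimes (p m : ℕ) : Prop := ∀ q : ℕ, q.Prime → q ∣ m → p < q

theorem BigPrimes.of_dvd {p m k : ℕ} (h : BigPrimes p m) (hk : k ∣ m) : BigPrimes p k :=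
  fun q hq hqk => h q hq (hqk.trans hk)

theorem BigPrimes.coprime_of_small {p m k : ℕ} (h : BigPrimes p m)
    (hk : ∀ q : ℕ, q.Prime → q ∣ k → q ≤ p) : Nat.Coprime m k := by
  apply Nat.Coprime.symm
  apply Nat.Coprime.symm
  exact Nat.coprime_of_dvd (fun q hq hqm hqk => absurd (hk q hq hqk) (not_le.mpr (h q hq hqm)))

theorem BigPrimes.coprime_self {p m : ℕ} (hp : p.Prime) (h : BigPrimes p m) : Nat.Coprime m p :=
  h.coprime_of_small (fun q hq hqp => by
    rw [(Nat.prime_dvd_prime_iff_eq hq hp).mp hqp])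

theorem BigPrimes.coprime_pow {p m : ℕ} (hp : p.Prime) (h : BigPrimes p m) (k : ℕ) :
    Nat.Coprime m (p ^ k) := Nat.Coprime.pow_right k (h.coprime_self hp)

theorem BigPrimes.coprime_pred {p m : ℕ} (hp : p.Prime) (h : BigPrimes p m) :
    Nat.Coprime m (p - 1) :=
  h.coprime_of_small (fun q _ hqp => by
    have h1 : 0 < p - 1 := Nat.sub_pos_of_lt hp.one_lt
    have := Nat.le_of_dvd h1 hqp
    omega)

theorem BigPrimes.coprime_totient {p m : ℕ} (hp : p.Prime) (h : BigPrimes p m) (k : ℕ) :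
    Nat.Coprime m (Nat.totient (p ^ k)) := by
  rcases Nat.eq_zero_or_pos k with h0 | h0
  · rw [h0, pow_zero, Nat.totient_one]; exact Nat.coprime_one_right m
  · rw [Nat.totient_prime_pow hp h0]
    exact Nat.Coprime.mul_right (h.coprime_pow hp _) (h.coprime_pred hp)

/-- A divisor of `m` that is smaller than `p` is `1`. -/
theorem BigPrimes.eq_one_of_dvd_of_lt {p m j : ℕ} (h : BigPrimes p m) (hj : j ∣ m) (hjp : j < p)
    (hj0 : j ≠ 0) : j = 1 := by
  by_contra hne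
  obtain ⟨q, hq, hqj⟩ := Nat.exists_prime_and_dvd hne
  have h1 := h q hq (hqj.trans hj)
  have h2 := Nat.le_of_dvd (Nat.pos_of_ne_zero hj0) hqj
  omega

end arith

variable {G : Type u} [Group G]

/-- An element mapping a finite subgroup into itself by conjugation normalizes it. -/
theorem hs_mem_normalizer [Finite G] (E : Subgroup G) (g : G) (h : ∀ e ∈ E, g * e * g⁻¹ ∈ E) :
    g ∈ Subgroup.normalizer (E : Set G) := by
  rw [Subgroup.mem_normalizer_iff]
  intro x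
  refine ⟨h x, fun hx => ?_⟩
  let f : E → E := fun e => ⟨g * e * g⁻¹, h e e.2⟩
  have hinj : Function.Injective f := by
    intro a b hab
    have : g * (a : G) * g⁻¹ = g * (b : G) * g⁻¹ := congrArg Subtype.val hab
    apply Subtype.ext
    simpa using this
  have hsurj := Finite.injective_iff_surjective.mp hinj
  obtain ⟨e, he⟩ := hsurj ⟨g * x * g⁻¹, hx⟩
  have : g * (e : G) * g⁻¹ = g * x * g⁻¹ := congrArg Subtype.val he
  have hex : (e : G) = x := by simpa using this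
  rw [← hex]; exact e.2

theorem hs_conj_mem {E : Subgroup G} {g : G} (hg : g ∈ Subgroup.normalizer (E : Set G))
    {e : G} (he : e ∈ E) : g * e * g⁻¹ ∈ E :=
  (Subgroup.mem_normalizer_iff.mp hg e).mp he

theorem hs_conj_pow_mem {E : Subgroup G} {g : G} (hg : g ∈ Subgroup.normalizer (E : Set G))
    (j : ℕ) {e : G} (he : e ∈ E) : g ^ j * e * (g ^ j)⁻¹ ∈ E :=
  hs_conj_mem (Subgroup.pow_mem _ hg j) he

theorem hs_zpowers_le_normalizer {E : Subgroup G} {g : G}
    (hg : g ∈ Subgroup.normalizer (E : Set G)) :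
    Subgroup.zpowers g ≤ Subgroup.normalizer (E : Set G) := by
  rw [Subgroup.zpowers_le]; exact hg

/-- `g` centralizes `E` iff `zpowers g` does. -/
theorem hs_zpowers_le_centralizer {E : Subgroup G} {g : G}
    (hg : g ∈ Subgroup.centralizer (E : Set G)) :
    Subgroup.zpowers g ≤ Subgroup.centralizer (E : Set G) := by
  rw [Subgroup.zpowers_le]; exact hg

/-- Intermediate subgroups of prescribed order in a `p`-group. -/
theorem hs_exists_between [Finite G] {p : ℕ} [hp : Fact p.Prime] {H K : Subgroup G} (hHK : H ≤ K)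
    (hK : IsPGroup p K) {m : ℕ} (h1 : Nat.card H ≤ p ^ m) (h2 : p ^ m ≤ Nat.card K) :
    ∃ E : Subgroup G, H ≤ E ∧ E ≤ K ∧ Nat.card E = p ^ m := by
  obtain ⟨k, hk⟩ := hK.exists_card_eq
  obtain ⟨a, ha⟩ := (hK.to_le hHK).exists_card_eq
  have ham : a ≤ m := by
    rw [ha] at h1
    exact (Nat.pow_le_pow_iff_right hp.out.one_lt).mp h1
  have hmk : m ≤ k := by
    rw [hk] at h2
    exact (Nat.pow_le_pow_iff_right hp.out.one_lt).mp h2
  have hdvd : p ^ m ∣ Nat.card K := by rw [hk]; exact pow_dvd_pow p hmk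
  have hH' : Nat.card (H.subgroupOf K) = p ^ a := by
    rw [← ha]; exact Nat.card_congr (Subgroup.subgroupOfEquivOfLe hHK).toEquiv
  obtain ⟨E', hE', hle⟩ := Sylow.exists_subgroup_card_pow_prime_le p hdvd (H.subgroupOf K) hH' ham
  refine ⟨E'.map K.subtype, ?_, ?_, ?_⟩
  · intro x hx
    exact ⟨⟨x, hHK hx⟩, hle (by rw [Subgroup.mem_subgroupOf]; exact hx), rfl⟩
  · rintro _ ⟨y, _, rfl⟩; exact y.2
  · rw [Subgroup.card_map_of_injective K.subtype_injective, hE']

/-- Lemma C: an element normalizing a finite cyclic subgroup, of order prime to the number of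
automorphisms, centralizes it. -/
theorem hs_cyclic_centralizes (C : Subgroup G) [Finite C] [IsCyclic C] (g : G)
    (hg : g ∈ Subgroup.normalizer (C : Set G))
    (hcop : Nat.Coprime (orderOf g) (Nat.totient (Nat.card C))) :
    g ∈ Subgroup.centralizer (C : Set G) := by
  let f : Subgroup.normalizer (C : Set G) →* MulAut C := C.normalizerMonoidHom
  have h1 : orderOf (f ⟨g, hg⟩) ∣ orderOf g := by
    have := orderOf_map_dvd f (⟨g, hg⟩ : Subgroup.normalizer (C : Set G))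
    rwa [Subgroup.orderOf_mk] at this
  have h2 : orderOf (f ⟨g, hg⟩) ∣ Nat.totient (Nat.card C) := by
    rw [← IsCyclic.card_mulAut]; exact orderOf_dvd_natCard _
  have h3 : orderOf (f ⟨g, hg⟩) = 1 := Nat.eq_one_of_dvd_coprimes hcop h1 h2
  rw [orderOf_eq_one_iff] at h3
  have h4 : (⟨g, hg⟩ : Subgroup.normalizer (C : Set G)) ∈ f.ker := h3
  rw [Subgroup.normalizerMonoidHom_ker, Subgroup.mem_subgroupOf] at h4
  exact h4

/-- L2: an element of order prime to `p - 1` normalizing `L ⊴ U` with `|U : L| = p` acts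
trivially on `U / L`. -/
theorem hs_quot_trivial [Finite G] {p : ℕ} [hp : Fact p.Prime] (U L : Subgroup G) (hLU : L ≤ U)
    (hUL : U ≤ Subgroup.normalizer (L : Set G)) (hcard : Nat.card U = p * Nat.card L) (g : G)
    (hgU : g ∈ Subgroup.normalizer (U : Set G)) (hgL : g ∈ Subgroup.normalizer (L : Set G))
    (hcop : Nat.Coprime (orderOf g) (p - 1)) :
    ∀ x ∈ U, x⁻¹ * (g * x * g⁻¹) ∈ L := by
  classical
  set N : Subgroup G := Subgroup.normalizer (L : Set G) with hN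
  let π : N →* N ⧸ L.subgroupOf N := QuotientGroup.mk' (L.subgroupOf N)
  let φ : U →* N ⧸ L.subgroupOf N := π.comp (Subgroup.inclusion hUL)
  have hker : φ.ker = L.subgroupOf U := by
    ext u
    rw [MonoidHom.mem_ker, Subgroup.mem_subgroupOf]
    show π (Subgroup.inclusion hUL u) = 1 ↔ _
    rw [QuotientGroup.mk'_apply, QuotientGroup.eq_one_iff, Subgroup.mem_subgroupOf]
    rfl
  have hidx : (L.subgroupOf U).index = p := by
    have h1 := Subgroup.card_mul_index (L.subgroupOf U)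
    have h2 : Nat.card (L.subgroupOf U) = Nat.card L :=
      Nat.card_congr (Subgroup.subgroupOfEquivOfLe hLU).toEquiv
    rw [h2, hcard] at h1
    have h3 : 0 < Nat.card L := Nat.card_pos
    have h4 : Nat.card L * (L.subgroupOf U).index = Nat.card L * p := by rw [h1, mul_comm]
    exact Nat.eq_of_mul_eq_mul_left h3 h4
  have hrange : Nat.card φ.range = p := by
    rw [← Nat.card_congr (QuotientGroup.quotientKerEquivRange φ).toEquiv, ← Subgroup.index_eq_card,
      hker, hidx]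
  have : IsCyclic φ.range := isCyclic_of_prime_card hrange
  have hnorm : π ⟨g, hgL⟩ ∈ Subgroup.normalizer ((φ.range : Subgroup (N ⧸ L.subgroupOf N)) :
      Set (N ⧸ L.subgroupOf N)) := by
    apply hs_mem_normalizer
    rintro _ ⟨u, rfl⟩
    refine ⟨⟨g * u * g⁻¹, hs_conj_mem hgU u.2⟩, ?_⟩
    show π (Subgroup.inclusion hUL _) = π ⟨g, hgL⟩ * π (Subgroup.inclusion hUL u) * (π ⟨g, hgL⟩)⁻¹
    rw [← map_inv, ← map_mul, ← map_mul]
    rfl
  have hord : orderOf (π ⟨g, hgL⟩) ∣ orderOf g := by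
    have := orderOf_map_dvd π (⟨g, hgL⟩ : N)
    rwa [Subgroup.orderOf_mk] at this
  have hcop' : Nat.Coprime (orderOf (π ⟨g, hgL⟩)) (Nat.totient (Nat.card φ.range)) := by
    rw [hrange, Nat.totient_prime hp.out]
    exact Nat.Coprime.coprime_dvd_left hord hcop
  have hcent := hs_cyclic_centralizes φ.range (π ⟨g, hgL⟩) hnorm hcop'
  intro x hx
  rw [Subgroup.mem_centralizer_iff] at hcent
  have h1 := hcent (φ ⟨x, hx⟩) ⟨⟨x, hx⟩, rfl⟩
  -- φ x * π g = π g * φ x
  have h2 : π (⟨x, hUL hx⟩⁻¹ * (⟨g, hgL⟩ * ⟨x, hUL hx⟩ * ⟨g, hgL⟩⁻¹)) = 1 := by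
    have h3 : φ ⟨x, hx⟩ = π ⟨x, hUL hx⟩ := rfl
    rw [h3] at h1
    rw [map_mul, map_mul, map_mul, map_inv, map_inv, ← h1]
    group
  rw [QuotientGroup.mk'_apply, QuotientGroup.eq_one_iff, Subgroup.mem_subgroupOf] at h2
  exact h2

/-- Elements normalizing `Q` and `N` that act trivially on `Q` modulo `N`. -/
def hsStab (Q N : Subgroup G) : Subgroup G where
  carrier := {a | a ∈ Subgroup.normalizer (Q : Set G) ∧ a ∈ Subgroup.normalizer (N : Set G) ∧
    ∀ x ∈ Q, x⁻¹ * (a * x * a⁻¹) ∈ N}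
  one_mem' := ⟨Subgroup.one_mem _, Subgroup.one_mem _, fun x _ => by simp⟩
  mul_mem' := by
    rintro a b ⟨haQ, haN, ha⟩ ⟨hbQ, hbN, hb⟩
    refine ⟨Subgroup.mul_mem _ haQ hbQ, Subgroup.mul_mem _ haN hbN, fun x hx => ?_⟩
    have h1 := ha x hx
    have h2 := hs_conj_mem haN (hb x hx)
    have h3 : x⁻¹ * (a * b * x * (a * b)⁻¹) =
        x⁻¹ * (a * x * a⁻¹) * ((a * x * a⁻¹)⁻¹ * (a * (b * x * b⁻¹) * a⁻¹)) := by group
    have h4 : (a * x * a⁻¹)⁻¹ * (a * (b * x * b⁻¹) * a⁻¹) = a * (x⁻¹ * (b * x * b⁻¹)) * a⁻¹ := by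
      group
    rw [h3, h4]
    exact N.mul_mem h1 h2
  inv_mem' := by
    rintro a ⟨haQ, haN, ha⟩
    refine ⟨Subgroup.inv_mem _ haQ, Subgroup.inv_mem _ haN, fun x hx => ?_⟩
    have hy : a⁻¹ * x * a⁻¹⁻¹ ∈ Q := hs_conj_mem (Subgroup.inv_mem _ haQ) hx
    have h1 := ha _ hy
    have h2 : (a⁻¹ * x * a⁻¹⁻¹)⁻¹ * (a * (a⁻¹ * x * a⁻¹⁻¹) * a⁻¹) =
        (x⁻¹ * (a⁻¹ * x * a⁻¹⁻¹))⁻¹ := by group
    rw [h2] at h1
    exact (Subgroup.inv_mem_iff N).mp h1

/-- (G1) If `g` acts trivially on `Q` modulo a `g`-invariant `N`, then `[Q, ⟨g⟩] ≤ N`. -/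
theorem hs_comm_le (Q N : Subgroup G) (g : G) (hgQ : g ∈ Subgroup.normalizer (Q : Set G))
    (hgN : g ∈ Subgroup.normalizer (N : Set G)) (h : ∀ x ∈ Q, x⁻¹ * (g * x * g⁻¹) ∈ N) :
    ⁅Q, Subgroup.zpowers g⁆ ≤ N := by
  have hg : g ∈ hsStab Q N := ⟨hgQ, hgN, h⟩
  have hz : Subgroup.zpowers g ≤ hsStab Q N := by rw [Subgroup.zpowers_le]; exact hg
  rw [Subgroup.commutator_le]
  intro x hx a ha
  obtain ⟨-, -, h3⟩ := hz ha
  have h4 := h3 x⁻¹ (Q.inv_mem hx)
  have h5 : ⁅x, a⁆ = x⁻¹⁻¹ * (a * x⁻¹ * a⁻¹) := by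
    rw [commutatorElement_def]; group
  rw [h5]; exact h4

/-- Subgroups of index `p`. -/
def IsMaxIn (p : ℕ) (M Q : Subgroup G) : Prop := M ≤ Q ∧ Nat.card Q = p * Nat.card M

theorem IsMaxIn.le_normalizer [Finite G] {p : ℕ} [hp : Fact p.Prime] {M Q : Subgroup G}
    (hQ : IsPGroup p Q) (h : IsMaxIn p M Q) : Q ≤ Subgroup.normalizer (M : Set G) := by
  rw [← Subgroup.normal_subgroupOf_iff_le_normalizer h.1]
  have hidx : (M.subgroupOf Q).index = p := by
    have h1 := Subgroup.card_mul_index (M.subgroupOf Q)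
    have h2 : Nat.card (M.subgroupOf Q) = Nat.card M :=
      Nat.card_congr (Subgroup.subgroupOfEquivOfLe h.1).toEquiv
    rw [h2, h.2] at h1
    have h3 : 0 < Nat.card M := Nat.card_pos
    have h4 : Nat.card M * (M.subgroupOf Q).index = Nat.card M * p := by rw [h1, mul_comm]
    exact Nat.eq_of_mul_eq_mul_left h3 h4
  apply Subgroup.normal_of_index_eq_minFac_card
  rw [hidx]
  obtain ⟨k, hk⟩ := hQ.exists_card_eq
  have hk0 : k ≠ 0 := by
    rintro rfl
    rw [pow_zero, h.2] at hk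
    have := Nat.eq_one_of_mul_eq_one_right hk
    exact hp.out.one_lt.ne' this
  rw [hk, Nat.Prime.pow_minFac hp.out hk0]

theorem IsMaxIn.index_eq [Finite G] {p : ℕ} {M Q : Subgroup G} (h : IsMaxIn p M Q) :
    (M.subgroupOf Q).index = p := by
  have h1 := Subgroup.card_mul_index (M.subgroupOf Q)
  have h2 : Nat.card (M.subgroupOf Q) = Nat.card M :=
    Nat.card_congr (Subgroup.subgroupOfEquivOfLe h.1).toEquiv
  rw [h2, h.2] at h1
  have h3 : 0 < Nat.card M := Nat.card_pos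
  have h4 : Nat.card M * (M.subgroupOf Q).index = Nat.card M * p := by rw [h1, mul_comm]
  exact Nat.eq_of_mul_eq_mul_left h3 h4

theorem IsMaxIn.card_lt [Finite G] {p : ℕ} [hp : Fact p.Prime] {M Q : Subgroup G}
    (h : IsMaxIn p M Q) : Nat.card M < Nat.card Q := by
  rw [h.2]
  have h3 : 0 < Nat.card M := Nat.card_pos
  have := hp.out.one_lt
  nlinarith

theorem IsMaxIn.ne [Finite G] {p : ℕ} [hp : Fact p.Prime] {M Q : Subgroup G}
    (h : IsMaxIn p M Q) : M ≠ Q := by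
  intro hMQ
  have := h.card_lt
  rw [hMQ] at this
  exact lt_irrefl _ this

theorem exists_isMaxIn [Finite G] {p : ℕ} [hp : Fact p.Prime] {R Q : Subgroup G}
    (hQ : IsPGroup p Q) (hRQ : R ≤ Q) (hne : R ≠ Q) : ∃ M, IsMaxIn p M Q ∧ R ≤ M := by
  obtain ⟨k, hk⟩ := hQ.exists_card_eq
  have hlt : Nat.card R < Nat.card Q := by
    by_contra hge
    push Not at hge
    exact hne (Subgroup.eq_of_le_of_card_ge hRQ hge)
  obtain ⟨a, ha⟩ := (hQ.to_le hRQ).exists_card_eq
  have hak : a < k := by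
    rw [ha, hk] at hlt
    exact (Nat.pow_lt_pow_iff_right hp.out.one_lt).mp hlt
  have h1 : Nat.card R ≤ p ^ (k - 1) := by
    rw [ha]; exact Nat.pow_le_pow_right hp.out.pos (by omega)
  have h2 : p ^ (k - 1) ≤ Nat.card Q := by
    rw [hk]; exact Nat.pow_le_pow_right hp.out.pos (by omega)
  obtain ⟨M, hRM, hMQ, hM⟩ := hs_exists_between hRQ hQ h1 h2
  refine ⟨M, ⟨hMQ, ?_⟩, hRM⟩
  rw [hk, hM, ← pow_succ']
  congr 1
  omega

theorem IsMaxIn.conj [Finite G] {p : ℕ} {M Q : Subgroup G} (h : IsMaxIn p M Q) {g : G}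
    (hg : g ∈ Subgroup.normalizer (Q : Set G)) :
    IsMaxIn p (M.map (MulAut.conj g).toMonoidHom) Q := by
  refine ⟨?_, ?_⟩
  · rintro _ ⟨m, hm, rfl⟩
    exact hs_conj_mem hg (h.1 hm)
  · rw [Subgroup.card_map_of_injective (MulAut.conj g).injective]
    exact h.2

theorem IsMaxIn.pow_mem [Finite G] {p : ℕ} [hp : Fact p.Prime] {M Q : Subgroup G}
    (hQ : IsPGroup p Q) (h : IsMaxIn p M Q) {x : G} (hx : x ∈ Q) : x ^ p ∈ M := by
  haveI : (M.subgroupOf Q).Normal :=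
    (Subgroup.normal_subgroupOf_iff_le_normalizer h.1).mpr (h.le_normalizer hQ)
  have hcard : Nat.card (Q ⧸ M.subgroupOf Q) = p := by
    rw [← Subgroup.index_eq_card, h.index_eq]
  have h1 : ((⟨x, hx⟩ : Q) : Q ⧸ M.subgroupOf Q) ^ p = 1 := by
    rw [← hcard]; exact pow_card_eq_one'
  rw [← QuotientGroup.mk_pow, QuotientGroup.eq_one_iff, Subgroup.mem_subgroupOf] at h1
  exact h1

theorem IsMaxIn.comm_mem [Finite G] {p : ℕ} [hp : Fact p.Prime] {M Q : Subgroup G}
    (hQ : IsPGroup p Q) (h : IsMaxIn p M Q) {x y : G} (hx : x ∈ Q) (hy : y ∈ Q) :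
    x * y * x⁻¹ * y⁻¹ ∈ M := by
  haveI : (M.subgroupOf Q).Normal :=
    (Subgroup.normal_subgroupOf_iff_le_normalizer h.1).mpr (h.le_normalizer hQ)
  have hcard : Nat.card (Q ⧸ M.subgroupOf Q) = p := by
    rw [← Subgroup.index_eq_card, h.index_eq]
  have : IsCyclic (Q ⧸ M.subgroupOf Q) := isCyclic_of_prime_card hcard
  letI : CommGroup (Q ⧸ M.subgroupOf Q) := IsCyclic.commGroup
  have h1 : (((⟨x, hx⟩ : Q) * ⟨y, hy⟩ * (⟨x, hx⟩ : Q)⁻¹ * (⟨y, hy⟩ : Q)⁻¹ : Q) :
      Q ⧸ M.subgroupOf Q) = 1 := by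
    rw [QuotientGroup.mk_mul, QuotientGroup.mk_mul, QuotientGroup.mk_mul, QuotientGroup.mk_inv,
      QuotientGroup.mk_inv]
    rw [mul_comm ((⟨x, hx⟩ : Q) : Q ⧸ M.subgroupOf Q), mul_assoc, mul_assoc]
    simp
  rw [QuotientGroup.eq_one_iff, Subgroup.mem_subgroupOf] at h1
  exact h1

end Cfsg.Agent.helper3
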