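import Mathlib
import Cfsg.Agent.Lib_helper3_HS1

set_option autoImplicit false
set_option linter.style.haveILetI false

namespace Cfsg.Agent.helper3

open scoped commutatorElement

universe u

variable {G : Type u} [Group G]

/-- The Frattini subgroup of `Q` in ambient form: intersection of the index-`p` subgroups. -/
def hsPhi (p : ℕ) (Q : Subgroup G) : Subgroup G := Q ⊓ sInf {M | IsMaxIn p M Q}

theorem hsPhi_le (p : ℕ) (Q : Subgroup G) : hsPhi p Q ≤ Q := inf_le_left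

theorem hsPhi_le_max {p : ℕ} {M Q : Subgroup G} (h : IsMaxIn p M Q) : hsPhi p Q ≤ M :=
  inf_le_right.trans (sInf_le h)

theorem mem_hsPhi {p : ℕ} {Q : Subgroup G} {x : G} (hx : x ∈ Q)
    (h : ∀ M, IsMaxIn p M Q → x ∈ M) : x ∈ hsPhi p Q := by
  refine Subgroup.mem_inf.mpr ⟨hx, ?_⟩
  rw [Subgroup.mem_sInf]
  exact h

theorem hsPhi_normalizer [Finite G] {p : ℕ} {Q : Subgroup G} {g : G}
    (hg : g ∈ Subgroup.normalizer (Q : Set G)) :
    g ∈ Subgroup.normalizer ((hsPhi p Q : Subgroup G) : Set G) := by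
  apply hs_mem_normalizer
  intro e he
  refine mem_hsPhi (hs_conj_mem hg (hsPhi_le p Q he)) (fun M hM => ?_)
  have hM' := hM.conj (Subgroup.inv_mem _ hg)
  have h1 := hsPhi_le_max hM' he
  obtain ⟨m, hm, hme⟩ := h1
  have : g * e * g⁻¹ = m := by
    rw [← hme]; simp only [MulEquiv.coe_toMonoidHom, MulAut.conj_apply, inv_inv]; group
  rw [this]; exact hm

theorem hsPhi_ne [Finite G] {p : ℕ} [hp : Fact p.Prime] {Q : Subgroup G} (hQ : IsPGroup p Q)
    (hne : Q ≠ ⊥) : hsPhi p Q ≠ Q := by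
  obtain ⟨M, hM, -⟩ := exists_isMaxIn hQ (bot_le : (⊥ : Subgroup G) ≤ Q) (Ne.symm hne)
  intro h
  have h1 : Q ≤ M := h ▸ hsPhi_le_max hM
  exact hM.ne (le_antisymm hM.1 h1)

theorem pow_mem_hsPhi [Finite G] {p : ℕ} [hp : Fact p.Prime] {Q : Subgroup G} (hQ : IsPGroup p Q)
    {x : G} (hx : x ∈ Q) : x ^ p ∈ hsPhi p Q :=
  mem_hsPhi (Q.pow_mem hx p) (fun _ hM => hM.pow_mem hQ hx)

theorem comm_mem_hsPhi [Finite G] {p : ℕ} [hp : Fact p.Prime] {Q : Subgroup G} (hQ : IsPGroup p Q)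
    {x y : G} (hx : x ∈ Q) (hy : y ∈ Q) : x * y * x⁻¹ * y⁻¹ ∈ hsPhi p Q :=
  mem_hsPhi (Q.mul_mem (Q.mul_mem (Q.mul_mem hx hy) (Q.inv_mem hx)) (Q.inv_mem hy))
    (fun _ hM => hM.comm_mem hQ hx hy)

/-- Frattini argument: a subgroup of `Q` which together with `Φ(Q)` generates `Q` is `Q`. -/
theorem eq_of_sup_hsPhi [Finite G] {p : ℕ} [hp : Fact p.Prime] {Q E : Subgroup G}
    (hQ : IsPGroup p Q) (hEQ : E ≤ Q) (h : Q ≤ E ⊔ hsPhi p Q) : E = Q := by
  by_contra hne
  obtain ⟨M, hM, hEM⟩ := exists_isMaxIn hQ hEQ hne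
  have h1 : Q ≤ M := h.trans (sup_le hEM (hsPhi_le_max hM))
  exact hM.ne (le_antisymm hM.1 h1)

/-- Power formula in class two. -/
theorem hs_mul_pow {y c z : G} (hz : c * y = y * c * z) (hzy : Commute z y) (hzc : Commute z c)
    (n : ℕ) : (y * c) ^ n = y ^ n * c ^ n * z ^ (∑ i ∈ Finset.range n, i) := by
  have hcn : ∀ k : ℕ, c ^ k * y = y * c ^ k * z ^ k := by
    intro k
    induction k with
    | zero => simp
    | succ k ih =>
      calc c ^ (k + 1) * y = c ^ k * (c * y) := by rw [pow_succ]; group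
        _ = c ^ k * (y * c * z) := by rw [hz]
        _ = (c ^ k * y) * c * z := by group
        _ = (y * c ^ k * z ^ k) * c * z := by rw [ih]
        _ = y * c ^ k * (z ^ k * c) * z := by group
        _ = y * c ^ k * (c * z ^ k) * z := by rw [(hzc.pow_left k).eq]
        _ = y * c ^ (k + 1) * z ^ (k + 1) := by rw [pow_succ, pow_succ]; group
  induction n with
  | zero => simp
  | succ n ih =>
    rw [pow_succ, ih, Finset.sum_range_succ]
    calc y ^ n * c ^ n * z ^ (∑ i ∈ Finset.range n, i) * (y * c)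
        = y ^ n * c ^ n * (z ^ (∑ i ∈ Finset.range n, i) * y) * c := by group
      _ = y ^ n * c ^ n * (y * z ^ (∑ i ∈ Finset.range n, i)) * c := by
          rw [(hzy.pow_left _).eq]
      _ = y ^ n * (c ^ n * y) * z ^ (∑ i ∈ Finset.range n, i) * c := by group
      _ = y ^ n * (y * c ^ n * z ^ n) * z ^ (∑ i ∈ Finset.range n, i) * c := by rw [hcn]
      _ = y ^ (n + 1) * c ^ n * z ^ n * (z ^ (∑ i ∈ Finset.range n, i) * c) := by
          rw [pow_succ]; group
      _ = y ^ (n + 1) * c ^ n * z ^ n * (c * z ^ (∑ i ∈ Finset.range n, i)) := by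
          rw [(hzc.pow_left _).eq]
      _ = y ^ (n + 1) * c ^ n * (z ^ n * c) * z ^ (∑ i ∈ Finset.range n, i) := by group
      _ = y ^ (n + 1) * c ^ n * (c * z ^ n) * z ^ (∑ i ∈ Finset.range n, i) := by
          rw [(hzc.pow_left n).eq]
      _ = y ^ (n + 1) * c ^ (n + 1) * z ^ (∑ i ∈ Finset.range n, i + n) := by
          rw [pow_succ c n, pow_add z]
          have h1 : z ^ n * z ^ (∑ i ∈ Finset.range n, i) =
              z ^ (∑ i ∈ Finset.range n, i) * z ^ n := by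
            rw [← pow_add, ← pow_add, add_comm]
          calc y ^ (n + 1) * c ^ n * (c * z ^ n) * z ^ (∑ i ∈ Finset.range n, i)
              = y ^ (n + 1) * (c ^ n * c) * (z ^ n * z ^ (∑ i ∈ Finset.range n, i)) := by group
            _ = y ^ (n + 1) * (c ^ n * c) * (z ^ (∑ i ∈ Finset.range n, i) * z ^ n) := by rw [h1]

/-- If `c * y = y * c * z` with `z` commuting with both and `y ^ n` commuting with `c`, then
`z ^ n = 1`. -/
theorem hs_comm_pow_eq_one {y c z : G} (hz : c * y = y * c * z) (hzy : Commute z y)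
    (n : ℕ) (hyc : Commute (y ^ n) c) : z ^ n = 1 := by
  have h1 : c⁻¹ * y * c = y * z⁻¹ := by
    have : y * c = c * y * z⁻¹ := by rw [hz]; group
    calc c⁻¹ * y * c = c⁻¹ * (y * c) := by group
      _ = c⁻¹ * (c * y * z⁻¹) := by rw [this]
      _ = y * z⁻¹ := by group
  have h2 : (c⁻¹ * y * c) ^ n = y ^ n * (z⁻¹) ^ n := by
    rw [h1, (hzy.inv_left.symm).mul_pow]
  have h3 : (c⁻¹ * y * c) ^ n = c⁻¹ * y ^ n * c := by
    have := conj_pow (a := c⁻¹) (b := y) (i := n)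
    simpa using this
  have h4 : c⁻¹ * y ^ n * c = y ^ n := by
    calc c⁻¹ * y ^ n * c = c⁻¹ * (y ^ n * c) := by group
      _ = c⁻¹ * (c * y ^ n) := by rw [hyc.eq]
      _ = y ^ n := by group
  rw [h3, h4] at h2
  have h5 : (z⁻¹) ^ n = 1 := by
    have := h2
    exact (mul_eq_left.mp this.symm)
  rw [inv_pow, inv_eq_one] at h5
  exact h5

/-- Lemma D: if `Q = [Q, ⟨g⟩]` (coprime action), then the fixed points of `g` on `Q` lie in every
subgroup of index `p`. -/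
theorem hs_fixed_mem_max [Finite G] {p : ℕ} [hp : Fact p.Prime] {Q M : Subgroup G}
    (hQ : IsPGroup p Q) (hM : IsMaxIn p M Q) (g : G)
    (hg : g ∈ Subgroup.normalizer (Q : Set G)) (hcop : Nat.Coprime (orderOf g) p)
    (hcomm : Q ≤ ⁅Q, Subgroup.zpowers g⁆) {c : G} (hc : c ∈ Q) (hfix : g * c * g⁻¹ = c) :
    c ∈ M := by
  classical
  haveI : (M.subgroupOf Q).Normal :=
    (Subgroup.normal_subgroupOf_iff_le_normalizer hM.1).mpr (hM.le_normalizer hQ)
  have hcard : Nat.card (Q ⧸ M.subgroupOf Q) = p := by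
    rw [← Subgroup.index_eq_card, hM.index_eq]
  have : IsCyclic (Q ⧸ M.subgroupOf Q) := isCyclic_of_prime_card hcard
  letI : CommGroup (Q ⧸ M.subgroupOf Q) := IsCyclic.commGroup
  let π : Q →* Q ⧸ M.subgroupOf Q := QuotientGroup.mk' _
  let γ : MulAut Q := Q.normalizerMonoidHom ⟨g, hg⟩
  have hγ : ∀ (j : ℕ) (q : Q), (((γ ^ j) q : Q) : G) = g ^ j * q * (g ^ j)⁻¹ := by
    intro j q
    have h1 : γ ^ j = Q.normalizerMonoidHom (⟨g, hg⟩ ^ j) := (map_pow _ _ _).symm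
    rw [h1, Subgroup.normalizerMonoidHom_apply_apply_coe]
    rfl
  set m := orderOf g with hm
  let Θ : Q →* Q ⧸ M.subgroupOf Q :=
    ∏ j ∈ Finset.range m, π.comp (γ ^ j : MulAut Q).toMonoidHom
  have hΘ : ∀ q, Θ q = ∏ j ∈ Finset.range m, π ((γ ^ j) q) := by
    intro q
    simp only [Θ, MonoidHom.finsetProd_apply]
    rfl
  have hγm : γ ^ m = 1 := by
    have h1 : γ ^ m = Q.normalizerMonoidHom (⟨g, hg⟩ ^ m) := (map_pow _ _ _).symm
    rw [h1]
    have h2 : (⟨g, hg⟩ : Subgroup.normalizer (Q : Set G)) ^ m = 1 := by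
      apply Subtype.ext
      rw [Subgroup.coe_pow, Subgroup.coe_one, hm]
      exact pow_orderOf_eq_one g
    rw [h2, map_one]
  have hinv : ∀ q, Θ (γ q) = Θ q := by
    intro q
    rw [hΘ, hΘ]
    have h1 : ∀ j, (γ ^ j) (γ q) = (γ ^ (j + 1)) q := by
      intro j; rw [pow_succ]; rfl
    simp_rw [h1]
    have h2 := Finset.prod_range_succ' (fun j => π ((γ ^ j) q)) m
    have h3 := Finset.prod_range_succ (fun j => π ((γ ^ j) q)) m
    rw [h2] at h3
    simp only [pow_zero, hγm] at h3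
    exact mul_right_cancel h3
  have hinvj : ∀ (j : ℕ) q, Θ ((γ ^ j) q) = Θ q := by
    intro j
    induction j with
    | zero => intro q; simp
    | succ j ih =>
      intro q
      have : (γ ^ (j + 1)) q = γ ((γ ^ j) q) := by rw [pow_succ']; rfl
      rw [this, hinv, ih]
  have hker : ⁅Q, Subgroup.zpowers g⁆ ≤ Θ.ker.map Q.subtype := by
    rw [Subgroup.commutator_le]
    intro x hx a ha
    have ha' : a ∈ Submonoid.powers g :=
      mem_powers_iff_mem_zpowers.mpr ha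
    obtain ⟨j, rfl⟩ := ha'
    refine ⟨(⟨x, hx⟩ : Q) * ((γ ^ j) (⟨x, hx⟩⁻¹ : Q)), ?_, ?_⟩
    · rw [SetLike.mem_coe, MonoidHom.mem_ker, map_mul, hinvj, ← map_mul, mul_inv_cancel, map_one]
    · rw [Subgroup.subtype_apply, Subgroup.coe_mul, hγ, commutatorElement_def]
      simp only [Subgroup.coe_inv]
      group
  have hc1 : Θ ⟨c, hc⟩ = 1 := by
    obtain ⟨c', hc', hcc⟩ := hker (hcomm hc)
    have : c' = ⟨c, hc⟩ := Subtype.ext hcc
    rw [← this]; exact hc'
  have hfixj : ∀ j : ℕ, (γ ^ j) (⟨c, hc⟩ : Q) = ⟨c, hc⟩ := by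
    intro j
    apply Subtype.ext
    rw [hγ]
    show g ^ j * c * (g ^ j)⁻¹ = c
    induction j with
    | zero => simp
    | succ j ih =>
      calc g ^ (j + 1) * c * (g ^ (j + 1))⁻¹ = g ^ j * (g * c * g⁻¹) * (g ^ j)⁻¹ := by
            rw [pow_succ]; group
        _ = c := by rw [hfix, ih]
  have h5 : (π ⟨c, hc⟩) ^ m = 1 := by
    rw [← hc1, hΘ]
    simp_rw [hfixj]
    rw [Finset.prod_const, Finset.card_range]
  have h6 : (π ⟨c, hc⟩) ^ p = 1 := by
    rw [← hcard]; exact pow_card_eq_one'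
  have h7 : (π ⟨c, hc⟩) ^ (Nat.gcd m p) = 1 := pow_gcd_eq_one.mpr ⟨h5, h6⟩
  rw [Nat.Coprime.gcd_eq_one hcop, pow_one] at h7
  rw [QuotientGroup.mk'_apply, QuotientGroup.eq_one_iff, Subgroup.mem_subgroupOf] at h7
  exact h7

/-- If `x` normalizes `N` and `x ^ p ∈ N` then `|N⟨x⟩| ≤ p |N|`. -/
theorem hs_card_sup_zpowers [Finite G] {p : ℕ} (hp0 : 0 < p) (N : Subgroup G) (x : G)
    (hx : x ∈ Subgroup.normalizer (N : Set G)) (hxp : x ^ p ∈ N) :
    Nat.card (Subgroup.zpowers x ⊔ N : Subgroup G) ≤ p * Nat.card N := by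
  classical
  have hle : Subgroup.zpowers x ≤ Subgroup.normalizer (N : Set G) := by
    rw [Subgroup.zpowers_le]; exact hx
  let f : Fin p × N → (Subgroup.zpowers x ⊔ N : Subgroup G) := fun a =>
    ⟨x ^ (a.1 : ℕ) * (a.2 : G), Subgroup.mul_mem _
      (Subgroup.mem_sup_left (Subgroup.pow_mem _ (Subgroup.mem_zpowers x) _))
      (Subgroup.mem_sup_right a.2.2)⟩
  have hsurj : Function.Surjective f := by
    rintro ⟨y, hy⟩
    have hy' : y ∈ ((Subgroup.zpowers x ⊔ N : Subgroup G) : Set G) := hy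
    rw [Subgroup.coe_mul_of_left_le_normalizer_right _ _ hle] at hy'
    obtain ⟨h, hh, n, hn, rfl⟩ := hy'
    obtain ⟨k, rfl⟩ := Subgroup.mem_zpowers_iff.mp hh
    have hk : x ^ k = x ^ ((k % (p : ℤ)).toNat) * (x ^ p) ^ (k / (p : ℤ)) := by
      have h1 : (0 : ℤ) ≤ k % (p : ℤ) := Int.emod_nonneg _ (by exact_mod_cast hp0.ne')
      have h2 : x ^ ((k % (p : ℤ)).toNat) = x ^ (k % (p : ℤ)) := by
        rw [← zpow_natCast, Int.toNat_of_nonneg h1]
      rw [h2, ← zpow_natCast x p, ← zpow_mul, ← zpow_add]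
      congr 1
      exact (Int.emod_add_mul_ediv k p).symm
    have hlt : (k % (p : ℤ)).toNat < p := by
      have h1 : (0 : ℤ) ≤ k % (p : ℤ) := Int.emod_nonneg _ (by exact_mod_cast hp0.ne')
      have h2 : k % (p : ℤ) < p := Int.emod_lt_of_pos _ (by exact_mod_cast hp0)
      omega
    refine ⟨(⟨(k % (p : ℤ)).toNat, hlt⟩, ⟨(x ^ p) ^ (k / (p : ℤ)) * n,
      N.mul_mem (N.zpow_mem hxp _) hn⟩), ?_⟩
    apply Subtype.ext
    show x ^ ((k % (p : ℤ)).toNat) * ((x ^ p) ^ (k / (p : ℤ)) * n) = x ^ k * n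
    rw [hk]; group
  have h1 := Nat.card_le_card_of_surjective f hsurj
  rw [Nat.card_prod, Nat.card_fin] at h1
  exact h1

end Cfsg.Agent.helper3
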