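import Mathlib
import Cfsg.Agent.Lib_helper3_HS2

set_option autoImplicit false
set_option linter.style.haveILetI false

namespace Cfsg.Agent.helper3

open scoped commutatorElement
open Cfsg.Agent.lead Cfsg.Agent.helper7

universe u

variable {G : Type u} [Group G]

/-- All subgroups of `Q` of order `p ^ d` (and of order `4` if `p ^ d = 2`) are `g`-invariant. -/
def InvHyp (p d : ℕ) (g : G) (Q : Subgroup G) : Prop :=
  ∀ E : Subgroup G, E ≤ Q → (Nat.card E = p ^ d ∨ (p ^ d = 2 ∧ Nat.card E = 4)) →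
    g ∈ Subgroup.normalizer (E : Set G)

theorem InvHyp.mono {p d : ℕ} {g : G} {Q R : Subgroup G} (h : InvHyp p d g Q) (hRQ : R ≤ Q) :
    InvHyp p d g R := fun E hE hc => h E (hE.trans hRQ) hc

theorem hs_normalizer_sup {E F : Subgroup G} {g : G} (hE : g ∈ Subgroup.normalizer (E : Set G))
    (hF : g ∈ Subgroup.normalizer (F : Set G)) :
    g ∈ Subgroup.normalizer ((E ⊔ F : Subgroup G) : Set G) := by
  rw [Subgroup.mem_normalizer_iff_map_conj_eq] at hE hF ⊢
  rw [Subgroup.map_sup, hE, hF]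

theorem hs_zpowers_comm (g : G) :
    ∀ x ∈ Subgroup.zpowers g, ∀ y ∈ Subgroup.zpowers g, x * y = y * x := by
  intro x hx y hy
  obtain ⟨i, rfl⟩ := Subgroup.mem_zpowers_iff.mp hx
  obtain ⟨j, rfl⟩ := Subgroup.mem_zpowers_iff.mp hy
  exact (Commute.zpow_zpow_self g i j).eq

theorem hs_centralizer_iff {g : G} {R : Subgroup G} :
    g ∈ Subgroup.centralizer (R : Set G) ↔ ∀ r ∈ R, g * r * g⁻¹ = r := by
  rw [Subgroup.mem_centralizer_iff]
  constructor
  · intro h r hr
    rw [← h r hr]; group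
  · intro h r hr
    have := h r hr
    calc r * g = (g * r * g⁻¹) * g := by rw [this]
      _ = g * r := by group

/-- Claim A: a `p'`-element (all prime divisors of its order exceed `p`) normalizing a `p`-group
`Q` of order `> p ^ d` and all subgroups of `Q` of order `p ^ d` (and `4` if `p ^ d = 2`)
centralizes `Q`. -/
theorem hs_claimA [Finite G] {p : ℕ} [hp : Fact p.Prime] (g : G)
    (hbig : BigPrimes p (orderOf g)) (d : ℕ) (hd : 1 ≤ d) :
    ∀ (n : ℕ) (Q : Subgroup G), Nat.card Q = n → IsPGroup p Q →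
      g ∈ Subgroup.normalizer (Q : Set G) → p ^ d < Nat.card Q → InvHyp p d g Q →
      g ∈ Subgroup.centralizer (Q : Set G) := by
  intro n
  induction n using Nat.strong_induction_on with
  | _ n ih =>
  intro Q hn hQ hgQ hlt hinv
  classical
  have hp1 : 1 < p := hp.out.one_lt
  set A : Subgroup G := Subgroup.zpowers g with hA
  have hgA : g ∈ A := Subgroup.mem_zpowers g
  have hAQ : A ≤ Subgroup.normalizer (Q : Set G) := hs_zpowers_le_normalizer hgQ
  obtain ⟨k, hk⟩ := hQ.exists_card_eq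
  have hcardA : Nat.card A = orderOf g := Nat.card_zpowers g
  have hcopA : (Nat.card A).Coprime (Nat.card Q) := by
    rw [hcardA, hk]; exact hbig.coprime_pow hp.out k
  have hsolv : Group.IsSolvable A ∨ Group.IsSolvable Q :=
    Or.inl (solvable_of_comm_subgroup A (hs_zpowers_comm g))
  set C : Subgroup G := Q ⊓ Subgroup.centralizer (A : Set G) with hC
  set K1 : Subgroup G := ⁅Q, A⁆ with hK1
  have hK1Q : K1 ≤ Q := commutator_le_of_normalizer hAQ
  have hsup : K1 ⊔ C = Q := coprime_commutator_sup_fixed A Q hAQ hcopA hsolv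
  have hK1K1 : ⁅K1, A⁆ = K1 := coprime_commutator_commutator A Q hAQ hcopA hsolv
  have hgK1 : g ∈ Subgroup.normalizer (K1 : Set G) :=
    mem_normalizer_commutator hgQ (Subgroup.le_normalizer hgA)
  have hdk : d < k := by
    rw [hk] at hlt
    exact (Nat.pow_lt_pow_iff_right hp1).mp hlt
  -- finishing lemmas
  have finish : K1 = ⊥ → g ∈ Subgroup.centralizer (Q : Set G) := by
    intro h0
    rw [h0, bot_sup_eq] at hsup
    have h1 : Q ≤ Subgroup.centralizer (A : Set G) := by
      rw [← hsup]; exact inf_le_right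
    exact (Subgroup.le_centralizer_iff.mp h1) hgA
  have finish2 : ∀ R : Subgroup G, K1 ≤ R → g ∈ Subgroup.centralizer (R : Set G) →
      g ∈ Subgroup.centralizer (Q : Set G) := by
    intro R hK1R hgR
    apply finish
    have h1 : A ≤ Subgroup.centralizer (R : Set G) := hs_zpowers_le_centralizer hgR
    have h2 : K1 ≤ Subgroup.centralizer (A : Set G) :=
      hK1R.trans (Subgroup.le_centralizer_iff.mp h1)
    rw [← hK1K1]
    exact Subgroup.commutator_eq_bot_iff_le_centralizer.mpr h2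
  have cent : ∀ R : Subgroup G, R ≤ Q → g ∈ Subgroup.normalizer (R : Set G) →
      p ^ d < Nat.card R → R ≠ Q → g ∈ Subgroup.centralizer (R : Set G) := by
    intro R hRQ hgR hltR hne
    have hcard : Nat.card R < n := by
      rw [← hn]
      by_contra hge
      push Not at hge
      exact hne (Subgroup.eq_of_le_of_card_ge hRQ hge)
    exact ih (Nat.card R) hcard R rfl (hQ.to_le hRQ) hgR hltR (hinv.mono hRQ)
  have hmaxcard : ∀ M, IsMaxIn p M Q → Nat.card M = p ^ (k - 1) := by
    intro M hM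
    have h1 := hM.2
    rw [hk] at h1
    have hk1 : k = (k - 1) + 1 := by omega
    rw [hk1, pow_succ'] at h1
    exact (Nat.eq_of_mul_eq_mul_left hp.out.pos h1).symm
  have hquot : ∀ M, IsMaxIn p M Q → g ∈ Subgroup.normalizer (M : Set G) → K1 ≤ M := by
    intro M hM hgM
    have h1 := hs_quot_trivial Q M hM.1 (hM.le_normalizer hQ) hM.2 g hgQ hgM
      (hbig.coprime_pred hp.out)
    exact hs_comm_le Q M g hgQ hgM h1
  by_cases hcase1 : k = d + 1
  · -- Case 1: all maximal subgroups have order `p ^ d`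
    have hall : ∀ M, IsMaxIn p M Q → K1 ≤ M := by
      intro M hM
      apply hquot M hM
      apply hinv M hM.1
      left
      rw [hmaxcard M hM, hcase1]; rfl
    have hCQ : C = Q := by
      by_contra hne
      obtain ⟨M, hM, hCM⟩ := exists_isMaxIn hQ (inf_le_left : C ≤ Q) hne
      have h1 : Q ≤ M := by rw [← hsup]; exact sup_le (hall M hM) hCM
      exact hM.ne (le_antisymm hM.1 h1)
    have h1 : Q ≤ Subgroup.centralizer (A : Set G) := by
      rw [← hCQ]; exact inf_le_right
    exact (Subgroup.le_centralizer_iff.mp h1) hgA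
  have hk2 : d + 2 ≤ k := by omega
  have hmaxbig : ∀ M, IsMaxIn p M Q → p ^ d < Nat.card M := by
    intro M hM
    rw [hmaxcard M hM]
    exact Nat.pow_lt_pow_right hp1 (by omega)
  by_cases hK1eq : K1 = Q
  swap
  · -- Case 2a
    obtain ⟨M, hM, hK1M⟩ := exists_isMaxIn hQ hK1Q hK1eq
    have hgM : g ∈ Subgroup.normalizer (M : Set G) := by
      apply hs_mem_normalizer
      intro m hm
      obtain ⟨s, hs, c, hc, rfl⟩ := coprime_decomp A Q hAQ hcopA hsolv m (hM.1 hm)
      have hcM : c ∈ M := by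
        have : c = s⁻¹ * (s * c) := by group
        rw [this]; exact M.mul_mem (M.inv_mem (hK1M hs)) hm
      have hcfix : g * c * g⁻¹ = c := by
        have h1 := (Subgroup.mem_inf.mp hc).2
        rw [Subgroup.mem_centralizer_iff] at h1
        have h2 := h1 g hgA
        calc g * c * g⁻¹ = (c * g) * g⁻¹ := by rw [h2]
          _ = c := by group
      have h3 : g * (s * c) * g⁻¹ = (g * s * g⁻¹) * (g * c * g⁻¹) := by group
      rw [h3, hcfix]
      exact M.mul_mem (hK1M (hs_conj_mem hgK1 hs)) hcM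
    exact finish2 M hK1M (cent M hM.1 hgM (hmaxbig M hM) hM.ne)
  -- Case 2b: `Q = [Q, A]`, derive a contradiction
  exfalso
  have hQK1 : Q ≤ ⁅Q, Subgroup.zpowers g⁆ := by rw [← hA, ← hK1, hK1eq]
  have hQne : Q ≠ ⊥ := by
    intro h0
    rw [h0, Subgroup.card_bot] at hlt
    have := Nat.one_le_pow d p hp.out.pos
    omega
  set Φ : Subgroup G := hsPhi p Q with hΦ
  have hΦQ : Φ ≤ Q := hsPhi_le p Q
  have hgΦ : g ∈ Subgroup.normalizer (Φ : Set G) := hsPhi_normalizer hgQ
  have hQΦ : Q ≤ Subgroup.normalizer (Φ : Set G) :=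
    fun q hq => hsPhi_normalizer (Subgroup.le_normalizer hq)
  have hΦne : Φ ≠ Q := hsPhi_ne hQ hQne
  -- (b1) no invariant maximal subgroup
  have hnoinv : ∀ M, IsMaxIn p M Q → g ∉ Subgroup.normalizer (M : Set G) := by
    intro M hM hgM
    have h1 : Q ≤ M := by rw [← hK1eq]; exact hquot M hM hgM
    exact hM.ne (le_antisymm hM.1 h1)
  -- (b2) fixed points lie in Φ
  have hfixΦ : ∀ c ∈ Q, g * c * g⁻¹ = c → c ∈ Φ := by
    intro c hc hfix
    exact mem_hsPhi hc (fun M hM =>
      hs_fixed_mem_max hQ hM g hgQ (hbig.coprime_self hp.out) hQK1 hc hfix)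
  have centΦ : ∀ R : Subgroup G, R ≤ Q → g ∈ Subgroup.normalizer (R : Set G) →
      p ^ d < Nat.card R → R ≠ Q → R ≤ Φ := by
    intro R hRQ hgR hltR hne r hr
    have h1 := cent R hRQ hgR hltR hne
    exact hfixΦ r (hRQ hr) (hs_centralizer_iff.mp h1 r hr)
  -- (b3) dichotomy
  have hdich : ∀ E : Subgroup G, E ≤ Q → Nat.card E = p ^ d → E ≤ Φ ∨ Φ ≤ E := by
    intro E hEQ hE
    have hgE := hinv E hEQ (Or.inl hE)
    have hgN : g ∈ Subgroup.normalizer ((E ⊔ Φ : Subgroup G) : Set G) := hs_normalizer_sup hgE hgΦ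
    have hNQ : E ⊔ Φ ≤ Q := sup_le hEQ hΦQ
    have hNne : E ⊔ Φ ≠ Q := by
      intro h
      have h1 := eq_of_sup_hsPhi hQ hEQ (le_of_eq h.symm)
      rw [h1] at hE
      omega
    by_cases hN : p ^ d < Nat.card (E ⊔ Φ : Subgroup G)
    · left
      exact le_sup_left.trans (centΦ _ hNQ hgN hN hNne)
    · right
      push Not at hN
      have h1 : E = E ⊔ Φ := Subgroup.eq_of_le_of_card_ge le_sup_left (by rw [hE]; exact hN)
      rw [h1]; exact le_sup_right
  -- (b4) subgroups of order 4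
  have hfour : p ^ d = 2 → ∀ E : Subgroup G, E ≤ Q → Nat.card E = 4 → E ≤ Φ := by
    intro h2 E hEQ hE
    have hgE := hinv E hEQ (Or.inr ⟨h2, hE⟩)
    have hgN : g ∈ Subgroup.normalizer ((E ⊔ Φ : Subgroup G) : Set G) := hs_normalizer_sup hgE hgΦ
    have hNQ : E ⊔ Φ ≤ Q := sup_le hEQ hΦQ
    have hQ8 : 8 ≤ Nat.card Q := by
      rw [hk]
      have h3 : p ^ k = p ^ d * p ^ (k - d) := by rw [← pow_add]; congr 1; omega
      rw [h3, h2]
      have h4 : p ^ 2 ≤ p ^ (k - d) := Nat.pow_le_pow_right hp.out.pos (by omega)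
      have h5 : 2 ≤ p := hp.out.two_le
      nlinarith
    have hNne : E ⊔ Φ ≠ Q := by
      intro h
      have h1 := eq_of_sup_hsPhi hQ hEQ (le_of_eq h.symm)
      rw [h1] at hE
      omega
    have hN : p ^ d < Nat.card (E ⊔ Φ : Subgroup G) := by
      have h3 : Nat.card E ≤ Nat.card (E ⊔ Φ : Subgroup G) :=
        Subgroup.card_le_of_le le_sup_left
      rw [h2]; omega
    exact le_sup_left.trans (centΦ _ hNQ hgN hN hNne)
  -- (b5) |Φ| ≥ p ^ d
  have hΦcard : p ^ d ≤ Nat.card Φ := by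
    by_contra hlt'
    push Not at hlt'
    obtain ⟨a, ha⟩ := (hQ.to_le hΦQ).exists_card_eq
    have had : a < d := by
      rw [ha] at hlt'
      exact (Nat.pow_lt_pow_iff_right hp1).mp hlt'
    have hpΦ : p * Nat.card Φ ≤ p ^ d := by
      rw [ha, ← pow_succ']
      exact Nat.pow_le_pow_right hp.out.pos (by omega)
    have up : ∀ j, d + j < k → ∀ F : Subgroup G, Φ ≤ F → F ≤ Q → Nat.card F = p ^ (d + j) →
        g ∈ Subgroup.normalizer (F : Set G) := by
      intro j
      induction j with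
      | zero =>
        intro _ F _ hFQ hF
        exact hinv F hFQ (Or.inl hF)
      | succ j ihj =>
        intro hj F hΦF hFQ hF
        apply hs_mem_normalizer
        intro x hx
        have hxQ : x ∈ Q := hFQ hx
        have hH := hs_card_sup_zpowers hp.out.pos Φ x (hQΦ hxQ) (pow_mem_hsPhi hQ hxQ)
        have hHF : Subgroup.zpowers x ⊔ Φ ≤ F :=
          sup_le (by rw [Subgroup.zpowers_le]; exact hx) hΦF
        have h1 : Nat.card (Subgroup.zpowers x ⊔ Φ : Subgroup G) ≤ p ^ (d + j) :=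
          hH.trans (hpΦ.trans (Nat.pow_le_pow_right hp.out.pos (by omega)))
        have h2 : p ^ (d + j) ≤ Nat.card F := by
          rw [hF]; exact Nat.pow_le_pow_right hp.out.pos (by omega)
        obtain ⟨F', hHF', hF'F, hF'⟩ := hs_exists_between hHF (hQ.to_le hFQ) h1 h2
        have hgF' := ihj (by omega) F' (le_sup_right.trans hHF') (hF'F.trans hFQ) hF'
        have hxF' : x ∈ F' := hHF' (Subgroup.mem_sup_left (Subgroup.mem_zpowers x))
        exact hF'F (hs_conj_mem hgF' hxF')
    obtain ⟨M, hM, -⟩ := exists_isMaxIn hQ (bot_le : (⊥ : Subgroup G) ≤ Q) (Ne.symm hQne)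
    have hMc := hmaxcard M hM
    have h3 : k - 1 = d + (k - 1 - d) := by omega
    rw [h3] at hMc
    exact hnoinv M hM (up (k - 1 - d) (by omega) M (hsPhi_le_max hM) hM.1 hMc)
  -- (b6)
  have hEΦ : ∀ E : Subgroup G, E ≤ Q → Nat.card E = p ^ d → E ≤ Φ := by
    intro E hEQ hE
    rcases hdich E hEQ hE with h | h
    · exact h
    · have h1 : Φ = E := Subgroup.eq_of_le_of_card_ge h (by rw [hE]; exact hΦcard)
      rw [h1]
  -- (b7) elements of small order lie in Φ
  have hlow : ∀ c ∈ Q, (c ^ p = 1 ∨ (p = 2 ∧ c ^ 4 = 1)) → c ∈ Φ := by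
    intro c hc hor
    have hZQ : Subgroup.zpowers c ≤ Q := by rw [Subgroup.zpowers_le]; exact hc
    have hZcard : Nat.card (Subgroup.zpowers c) = orderOf c := Nat.card_zpowers c
    by_cases hsmall : orderOf c ≤ p ^ d
    · obtain ⟨E, hZE, hEQ, hE⟩ := hs_exists_between hZQ hQ (by rw [hZcard]; exact hsmall) hlt.le
      exact hEΦ E hEQ hE (hZE (Subgroup.mem_zpowers c))
    · push Not at hsmall
      have hpd : p ≤ p ^ d := by
        calc p = p ^ 1 := (pow_one p).symm
          _ ≤ p ^ d := Nat.pow_le_pow_right hp.out.pos hd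
      rcases hor with h | ⟨h2, h4⟩
      · have h1 : orderOf c ≤ p := Nat.le_of_dvd hp.out.pos (orderOf_dvd_of_pow_eq_one h)
        omega
      · have h1 : orderOf c ∣ 4 := orderOf_dvd_of_pow_eq_one h4
        have h3 : orderOf c ≤ 4 := Nat.le_of_dvd (by norm_num) h1
        have hd1 : d = 1 := by
          by_contra hne
          have h5 : p ^ 2 ≤ p ^ d := Nat.pow_le_pow_right hp.out.pos (by omega)
          rw [h2] at h5 hsmall
          omega
        have hpd2 : p ^ d = 2 := by rw [hd1, h2]; norm_num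
        have ho4 : orderOf c = 4 := by
          rw [hpd2] at hsmall
          have h6 : orderOf c ∈ Nat.divisors 4 := Nat.mem_divisors.mpr ⟨h1, by norm_num⟩
          have h7 : Nat.divisors 4 = {1, 2, 4} := by decide
          rw [h7] at h6
          simp only [Finset.mem_insert, Finset.mem_singleton] at h6
          omega
        exact hfour hpd2 _ hZQ (by rw [hZcard, ho4]) (Subgroup.mem_zpowers c)
  -- (b8) `g` centralizes Φ
  have hΦcent : g ∈ Subgroup.centralizer (Φ : Set G) := by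
    by_cases hbigΦ : p ^ d < Nat.card Φ
    · exact cent Φ hΦQ hgΦ hbigΦ hΦne
    · push Not at hbigΦ
      have hΦd : Nat.card Φ = p ^ d := le_antisymm hbigΦ hΦcard
      obtain ⟨y, hyQ, hyΦ⟩ := SetLike.exists_of_lt (lt_of_le_of_ne hΦQ hΦne)
      have hZQ : Subgroup.zpowers y ≤ Q := by rw [Subgroup.zpowers_le]; exact hyQ
      by_cases hZ : p ^ d ≤ Nat.card (Subgroup.zpowers y)
      · obtain ⟨E, -, hEZ, hE⟩ := hs_exists_between
          (bot_le : (⊥ : Subgroup G) ≤ Subgroup.zpowers y) (hQ.to_le hZQ)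
          (by rw [Subgroup.card_bot]; exact Nat.one_le_pow _ _ hp.out.pos) hZ
        have h1 : E ≤ Φ := hEΦ E (hEZ.trans hZQ) hE
        have h2 : E = Φ := Subgroup.eq_of_le_of_card_ge h1 (by rw [hE, hΦd])
        have hΦZ : Φ ≤ Subgroup.zpowers y := h2 ▸ hEZ
        haveI : IsCyclic Φ := Subgroup.isCyclic_of_le hΦZ
        apply hs_cyclic_centralizes Φ g hgΦ
        rw [hΦd]; exact hbig.coprime_totient hp.out d
      · push Not at hZ
        obtain ⟨E, hZE, hEQ, hE⟩ := hs_exists_between hZQ hQ hZ.le hlt.le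
        exact absurd (hEΦ E hEQ hE (hZE (Subgroup.mem_zpowers y))) hyΦ
  -- (b9) Φ is central in Q
  have hΦA : Φ ≤ Subgroup.centralizer (A : Set G) :=
    Subgroup.le_centralizer_iff.mp (hs_zpowers_le_centralizer hΦcent)
  have hQΦcomm : Q ≤ Subgroup.centralizer (Φ : Set G) := by
    have h1 : ⁅⁅Q, Φ⁆, A⁆ = ⊥ := by
      rw [Subgroup.commutator_eq_bot_iff_le_centralizer]
      have : ⁅Q, Φ⁆ ≤ Φ := by
        rw [Subgroup.commutator_comm]; exact commutator_le_of_normalizer hQΦ
      exact this.trans hΦA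
    have h2 : ⁅⁅Φ, A⁆, Q⁆ = ⊥ := by
      have : ⁅Φ, A⁆ = ⊥ := Subgroup.commutator_eq_bot_iff_le_centralizer.mpr hΦA
      rw [this, Subgroup.commutator_bot_left]
    have h3 := Subgroup.commutator_commutator_eq_bot_of_rotate h1 h2
    rw [Subgroup.commutator_comm A Q, ← hK1, hK1eq] at h3
    exact Subgroup.commutator_eq_bot_iff_le_centralizer.mp h3
  -- (b10)
  have hmain : ∀ y ∈ Q, y⁻¹ * (g * y * g⁻¹) ∈ Φ := by
    intro y hy
    obtain ⟨c, hc⟩ : ∃ c, c = y⁻¹ * (g * y * g⁻¹) := ⟨_, rfl⟩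
    rw [← hc]
    have hcQ : c ∈ Q := by rw [hc]; exact Q.mul_mem (Q.inv_mem hy) (hs_conj_mem hgQ hy)
    have hyc : y * c = g * y * g⁻¹ := by rw [hc]; group
    have hypΦ : y ^ p ∈ Φ := pow_mem_hsPhi hQ hy
    have hycp : (y * c) ^ p = y ^ p := by
      rw [hyc, conj_pow]
      exact hs_centralizer_iff.mp hΦcent _ hypΦ
    obtain ⟨z, hz⟩ : ∃ z, z = c⁻¹ * y⁻¹ * c * y := ⟨_, rfl⟩
    have hzΦ : z ∈ Φ := by
      have := comm_mem_hsPhi hQ (Q.inv_mem hcQ) (Q.inv_mem hy)
      rw [inv_inv, inv_inv] at this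
      rw [hz]; exact this
    have hcz : c * y = y * c * z := by rw [hz]; group
    have hcomm : ∀ q ∈ Q, Commute z q := by
      intro q hq
      have := hQΦcomm hq
      rw [Subgroup.mem_centralizer_iff] at this
      exact this z hzΦ
    have hzy := hcomm y hy
    have hzc := hcomm c hcQ
    have hypc : Commute (y ^ p) c := by
      have := hQΦcomm hcQ
      rw [Subgroup.mem_centralizer_iff] at this
      exact this _ hypΦ
    have hzp : z ^ p = 1 := hs_comm_pow_eq_one hcz hzy p hypc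
    have hpow := hs_mul_pow hcz hzy hzc p
    rw [hycp] at hpow
    apply hlow c hcQ
    rcases hp.out.eq_two_or_odd' with h2 | hodd
    · right
      refine ⟨h2, ?_⟩
      rw [h2] at hpow hzp
      have hs : ∑ i ∈ Finset.range 2, i = 1 := by decide
      rw [hs, pow_one] at hpow
      have h3 : c ^ 2 * z = 1 := by
        have : y ^ 2 * (c ^ 2 * z) = y ^ 2 * 1 := by
          rw [mul_one, ← mul_assoc]; exact hpow.symm
        exact mul_left_cancel this
      have h4 : c ^ 2 = z⁻¹ := eq_inv_of_mul_eq_one_left h3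
      calc c ^ 4 = (c ^ 2) ^ 2 := by rw [← pow_mul]
        _ = (z⁻¹) ^ 2 := by rw [h4]
        _ = 1 := by rw [inv_pow, hzp, inv_one]
    · left
      obtain ⟨m, hm⟩ := hodd
      have hs : ∑ i ∈ Finset.range p, i = p * m := by
        have h3 := Finset.sum_range_id_mul_two p
        have h4 : p * (p - 1) = p * m * 2 := by rw [hm]; simp; ring
        rw [h4] at h3
        exact Nat.eq_of_mul_eq_mul_right (by norm_num) h3
      rw [hs, pow_mul, hzp, one_pow, mul_one] at hpow
      have : y ^ p * c ^ p = y ^ p * 1 := by rw [mul_one]; exact hpow.symm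
      exact mul_left_cancel this
  have h1 : K1 ≤ Φ := hs_comm_le Q Φ g hgQ hgΦ hmain
  rw [hK1eq] at h1
  exact hΦne (le_antisymm hΦQ h1)

end Cfsg.Agent.helper3

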