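import Mathlib
import Cfsg.Prelude.Def_Transfer
import Cfsg.Agent.Lib_helper3_HS3
import Cfsg.Agent.Lib_helper10_Hyperfocal
import Cfsg.Agent.Lib_lead_Tate

set_option autoImplicit false
set_option linter.style.haveILetI false

namespace Cfsg.Agent.helper3

open scoped commutatorElement
open Cfsg.Agent.lead Cfsg.Agent.helper7

universe u

variable {G : Type u} [Group G]

/-- `E` is strongly closed in its normalizer with respect to `G` (an `ℋ`-subgroup). -/
def IsHSub (E : Subgroup G) : Prop :=
  ∀ g : G, E.map (MulAut.conj g).toMonoidHom ⊓ Subgroup.normalizer (E : Set G) ≤ E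

/-- An `ℋ`-subgroup of a `p`-group `P` is normal in `P`. -/
theorem IsHSub.le_normalizer [Finite G] {p : ℕ} [hp : Fact p.Prime] {P E : Subgroup G}
    (hP : IsPGroup p P) (hE : IsHSub E) (hEP : E ≤ P) :
    P ≤ Subgroup.normalizer (E : Set G) := by
  haveI : Group.IsNilpotent P := hP.isNilpotent
  have hnc : NormalizerCondition P := Group.normalizerCondition_of_isNilpotent
  rw [normalizerCondition_iff_only_full_group_self_normalizing] at hnc
  have htop : (Subgroup.normalizer (E : Set G)).subgroupOf P = ⊤ := by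
    apply hnc
    apply le_antisymm _ Subgroup.le_normalizer
    intro u hu
    rw [Subgroup.mem_subgroupOf]
    apply hs_mem_normalizer
    intro e he
    apply hE (u : G)
    refine Subgroup.mem_inf.mpr ⟨⟨e, he, by simp [MulAut.conj_apply]⟩, ?_⟩
    have h1 : (⟨e, hEP he⟩ : P) ∈ (Subgroup.normalizer (E : Set G)).subgroupOf P := by
      rw [Subgroup.mem_subgroupOf]; exact Subgroup.le_normalizer he
    have h2 := (Subgroup.mem_normalizer_iff.mp hu _).mp h1
    rw [Subgroup.mem_subgroupOf] at h2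
    exact h2
  intro x hx
  have : (⟨x, hx⟩ : P) ∈ (Subgroup.normalizer (E : Set G)).subgroupOf P := by
    rw [htop]; exact Subgroup.mem_top _
  rw [Subgroup.mem_subgroupOf] at this
  exact this

/-- `ℋ`-subgroups of a `p`-subgroup `P` are strongly closed in `P`. -/
theorem IsHSub.strongly_closed [Finite G] {p : ℕ} [hp : Fact p.Prime] {P E : Subgroup G}
    (hP : IsPGroup p P) (hE : IsHSub E) (hEP : E ≤ P) (g : G) {e : G} (he : e ∈ E)
    (hgP : g * e * g⁻¹ ∈ P) : g * e * g⁻¹ ∈ E := by
  apply hE g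
  exact Subgroup.mem_inf.mpr ⟨⟨e, he, by simp [MulAut.conj_apply]⟩,
    hE.le_normalizer hP hEP hgP⟩

theorem IsHSub.inf_normalizer [Finite G] {p : ℕ} [hp : Fact p.Prime] {P E U : Subgroup G}
    (hP : IsPGroup p P) (hE : IsHSub E) (hEP : E ≤ P) (hUP : U ≤ P) {g : G}
    (hg : g ∈ Subgroup.normalizer (U : Set G)) :
    g ∈ Subgroup.normalizer ((E ⊓ U : Subgroup G) : Set G) := by
  apply hs_mem_normalizer
  intro x hx
  obtain ⟨hxE, hxU⟩ := Subgroup.mem_inf.mp hx
  have h1 : g * x * g⁻¹ ∈ U := hs_conj_mem hg hxU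
  exact Subgroup.mem_inf.mpr ⟨hE.strongly_closed hP hEP g hxE (hUP h1), h1⟩

/-- Index-`p` subgroups restrict to index-`p` subgroups. -/
theorem IsMaxIn.inf [Finite G] {p : ℕ} [hp : Fact p.Prime] {M P U : Subgroup G}
    (hP : IsPGroup p P) (hM : IsMaxIn p M P) (hUP : U ≤ P) (hUM : ¬ U ≤ M) :
    IsMaxIn p (U ⊓ M) U := by
  refine ⟨inf_le_left, ?_⟩
  haveI : (M.subgroupOf P).Normal :=
    (Subgroup.normal_subgroupOf_iff_le_normalizer hM.1).mpr (hM.le_normalizer hP)
  have h1 : ((M.subgroupOf P).comap (Subgroup.inclusion hUP)).index =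
      (M.subgroupOf P).relIndex (Subgroup.inclusion hUP).range := Subgroup.index_comap _ _
  have h2 : (M.subgroupOf P).relIndex (Subgroup.inclusion hUP).range ∣ p := by
    rw [← hM.index_eq]; exact Subgroup.relIndex_dvd_index_of_normal _ _
  have h3 : (M.subgroupOf P).comap (Subgroup.inclusion hUP) = (U ⊓ M).subgroupOf U := by
    ext u
    simp only [Subgroup.mem_comap, Subgroup.mem_subgroupOf, Subgroup.coe_inclusion,
      Subgroup.mem_inf]
    exact ⟨fun h => ⟨u.2, h⟩, fun h => h.2⟩
  have h4 : ((U ⊓ M).subgroupOf U).index ≠ 1 := by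
    intro h
    rw [Subgroup.index_eq_one] at h
    apply hUM
    intro u hu
    have : (⟨u, hu⟩ : U) ∈ (U ⊓ M).subgroupOf U := by rw [h]; exact Subgroup.mem_top _
    rw [Subgroup.mem_subgroupOf] at this
    exact (Subgroup.mem_inf.mp this).2
  have h5 : ((U ⊓ M).subgroupOf U).index = p := by
    rw [← h3, h1]
    rw [← h3, h1] at h4
    rcases (Nat.dvd_prime hp.out).mp h2 with h | h
    · exact absurd h h4
    · exact h
  have h6 := Subgroup.card_mul_index ((U ⊓ M).subgroupOf U)
  have h7 : Nat.card ((U ⊓ M).subgroupOf U) = Nat.card (U ⊓ M : Subgroup G) :=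
    Nat.card_congr (Subgroup.subgroupOfEquivOfLe (inf_le_left : U ⊓ M ≤ U)).toEquiv
  rw [h7, h5] at h6
  rw [← h6, mul_comm]

/-- Membership in the Frattini subgroup of a `p`-subgroup via index-`p` subgroups. -/
theorem hs_mem_frattini [Finite G] {p : ℕ} [hp : Fact p.Prime] {P : Subgroup G}
    (hP : IsPGroup p P) {y : G} (hy : y ∈ P) (h : ∀ M, IsMaxIn p M P → y ∈ M) :
    y ∈ (frattini P).map P.subtype := by
  refine ⟨⟨y, hy⟩, ?_, rfl⟩
  rw [SetLike.mem_coe]
  unfold frattini Order.radical
  rw [Subgroup.mem_iInf]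
  intro K
  rw [Subgroup.mem_iInf]
  intro hK
  have hidx := Cfsg.Agent.helper1.coatom_index_of_isPGroup hP hK
  have hmax : IsMaxIn p (K.map P.subtype) P := by
    refine ⟨?_, ?_⟩
    · rintro _ ⟨k, -, rfl⟩; exact k.2
    · rw [Subgroup.card_map_of_injective P.subtype_injective, ← hidx, mul_comm]
      exact (Subgroup.card_mul_index K).symm
  obtain ⟨k, hk, hky⟩ := h _ hmax
  have : k = ⟨y, hy⟩ := Subtype.ext hky
  rw [← this]; exact hk

/-- The main local statement: under the hypothesis on subgroups of order `p ^ d`, every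
hyperfocal generator lies in every index-`p` subgroup of `P`. -/
theorem hs_hyp_gen_mem [Finite G] {p : ℕ} [hp : Fact p.Prime] {P : Subgroup G}
    (hP : IsPGroup p P) (d : ℕ) (hd : 1 ≤ d) (hdP : p ^ d < Nat.card P)
    (hE : ∀ E : Subgroup G, E ≤ P → (Nat.card E = p ^ d ∨ (p ^ d = 2 ∧ Nat.card E = 4)) →
      IsHSub E)
    (U : Subgroup G) (hUP : U ≤ P) (g : G) (hg : g ∈ Subgroup.normalizer (U : Set G))
    (hbig : BigPrimes p (orderOf g)) (x : G) (hx : x ∈ U) (M : Subgroup G)
    (hM : IsMaxIn p M P) : x⁻¹ * (g * x * g⁻¹) ∈ M := by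
  have hUp : IsPGroup p U := hP.to_le hUP
  by_cases hbigU : p ^ d < Nat.card U
  · have hinv : InvHyp p d g U := by
      intro E hEU hc
      have h1 := (hE E (hEU.trans hUP) hc).inf_normalizer hP (hEU.trans hUP) hUP hg
      rwa [inf_eq_left.mpr hEU] at h1
    have hcent := hs_claimA g hbig d hd (Nat.card U) U rfl hUp hg hbigU hinv
    rw [hs_centralizer_iff.mp hcent x hx, inv_mul_cancel]
    exact M.one_mem
  · push Not at hbigU
    by_cases hUM : U ≤ M
    · exact hUM (U.mul_mem (U.inv_mem hx) (hs_conj_mem hg hx))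
    · have hL : IsMaxIn p (U ⊓ M) U := hM.inf hP hUP hUM
      have hMp : IsPGroup p M := hP.to_le hM.1
      obtain ⟨n, hn⟩ := hP.exists_card_eq
      have hdn : d < n := by
        rw [hn] at hdP
        exact (Nat.pow_lt_pow_iff_right hp.out.one_lt).mp hdP
      have hMcard : p ^ d ≤ Nat.card M := by
        have h1 := hM.2
        rw [hn] at h1
        have hn1 : n = (n - 1) + 1 := by omega
        rw [hn1, pow_succ'] at h1
        rw [← Nat.eq_of_mul_eq_mul_left hp.out.pos h1]
        exact Nat.pow_le_pow_right hp.out.pos (by omega)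
      have hLcard : Nat.card (U ⊓ M : Subgroup G) ≤ p ^ d :=
        (Subgroup.card_le_of_le inf_le_left).trans hbigU
      obtain ⟨E, hLE, hEM, hEc⟩ := hs_exists_between (inf_le_right : U ⊓ M ≤ M) hMp hLcard hMcard
      have hEU : E ⊓ U = U ⊓ M := by
        apply le_antisymm
        · exact le_inf inf_le_right (inf_le_left.trans hEM)
        · exact le_inf hLE inf_le_left
      have hgL : g ∈ Subgroup.normalizer ((U ⊓ M : Subgroup G) : Set G) := by
        have h1 := (hE E (hEM.trans hM.1) (Or.inl hEc)).inf_normalizer hP (hEM.trans hM.1) hUP hg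
        rwa [hEU] at h1
      have hUL : U ≤ Subgroup.normalizer ((U ⊓ M : Subgroup G) : Set G) := by
        intro u hu
        apply Subgroup.inf_normalizer_le_normalizer_inf
        exact Subgroup.mem_inf.mpr ⟨Subgroup.le_normalizer hu, hM.le_normalizer hP (hUP hu)⟩
      have h1 := hs_quot_trivial U (U ⊓ M) inf_le_left hUL hL.2 g hg hgL
        (hbig.coprime_pred hp.out) x hx
      exact (Subgroup.mem_inf.mp h1).2

/-- Under the hypothesis on subgroups of order `p ^ d`, `G` has a normal `p`-complement. -/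
theorem hs_npc [Finite G] {p : ℕ} [hp : Fact p.Prime]
    (hmin : ∀ q : ℕ, q.Prime → q ∣ Nat.card G → p ≤ q) (P : Sylow p G) (d : ℕ) (hd : 1 ≤ d)
    (hdP : p ^ d < Nat.card (P : Subgroup G))
    (hE : ∀ E : Subgroup G, E ≤ (P : Subgroup G) →
      (Nat.card E = p ^ d ∨ (p ^ d = 2 ∧ Nat.card E = 4)) → IsHSub E) :
    Cfsg.HasNormalPComplement p G := by
  have hP : IsPGroup p (P : Subgroup G) := P.isPGroup'
  have hgen : Subgroup.closure (Cfsg.Agent.helper10.HypSet p (P : Subgroup G)) ≤
      (frattini (P : Subgroup G)).map (P : Subgroup G).subtype := by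
    rw [Subgroup.closure_le]
    rintro y ⟨U, hUP, g, hg, hcop, x, hx, rfl⟩
    have hbig : BigPrimes p (orderOf g) := by
      intro q hq hqg
      have h1 : p ≤ q := hmin q hq (hqg.trans (orderOf_dvd_natCard g))
      have h2 : q ≠ p := by
        rintro rfl
        exact hq.one_lt.ne' (Nat.Coprime.eq_one_of_dvd hcop.symm hqg)
      omega
    have hyP : x⁻¹ * (g * x * g⁻¹) ∈ (P : Subgroup G) :=
      hUP (U.mul_mem (U.inv_mem hx) (hs_conj_mem hg hx))
    exact hs_mem_frattini hP hyP
      (fun M hM => hs_hyp_gen_mem hP d hd hdP hE U hUP g hg hbig x hx M hM)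
  have hfoc := Cfsg.Agent.helper10.inf_pResidual_le_closure_hypSet P
  haveI := Cfsg.Agent.helper10.pResidual_normal p G
  have hR : Cfsg.pResidual p G ⊓ (P : Subgroup G) ≤
      (frattini (P : Subgroup G)).map (P : Subgroup G).subtype := by
    rw [inf_comm]; exact hfoc.trans hgen
  have htate := tate_core P (Cfsg.pResidual p G) {g : G | Nat.Coprime (orderOf g) p} rfl
    (fun x hx => hx) hR
  apply Cfsg.Agent.helper10.hasNormalPComplement_of_pResidual_coprime
  have h1 := Cfsg.Agent.helper19.sylow_inf_normal_not_dvd P (Cfsg.pResidual p G)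
  rw [inf_comm, htate, Subgroup.relIndex_bot_left] at h1
  rw [Nat.coprime_comm, hp.out.coprime_iff_not_dvd]
  exact h1

end Cfsg.Agent.helper3
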