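import Mathlib
import Cfsg.Agent.Lib_helper3_EA
import Cfsg.Agent.Lib_helper3_PLocal

/-! Nilpotent action of a `p`-group on a `p`-group: `X ≤ [X,A]` forces `X = 1` (helper3). -/

set_option autoImplicit false

namespace Cfsg.Agent.helper3

open Cfsg
open scoped commutatorElement

variable {G : Type*} [Group G]

/-- In a nilpotent subgroup `P`, `X ≤ [X,P]` forces `X = 1`. -/
theorem eq_bot_of_le_commutator_nilpotent {P X : Subgroup G} (hP : Group.IsNilpotent P)
    (hXP : X ≤ P) (h : X ≤ ⁅X, P⁆) : X = ⊥ := by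
  obtain ⟨n, hn⟩ := (Subgroup.isNilpotent_iff_lowerCentralSeries P).mp hP
  have key : ∀ k, X ≤ P.lowerCentralSeries k := by
    intro k
    induction k with
    | zero => exact hXP
    | succ k ih =>
      rw [Subgroup.lowerCentralSeries_succ]
      exact h.trans (Subgroup.commutator_mono ih le_rfl)
  exact le_bot_iff.mp (hn ▸ key n)

theorem conj_mem_centralizer_of_normalizer {V : Subgroup G} {a c : G}
    (ha : a ∈ Subgroup.normalizer (V : Set G)) (hc : c ∈ Subgroup.centralizer (V : Set G)) :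
    a * c * a⁻¹ ∈ Subgroup.centralizer (V : Set G) := by
  rw [Subgroup.mem_centralizer_iff] at hc ⊢
  intro v hv
  have h1 : a⁻¹ * v * a ∈ V := by
    have := (Subgroup.mem_normalizer_iff.mp (Subgroup.inv_mem _ ha) v).mp hv
    simpa using this
  have h2 := hc _ h1
  calc v * (a * c * a⁻¹) = a * (a⁻¹ * v * a * c) * a⁻¹ := by group
    _ = a * (c * (a⁻¹ * v * a)) * a⁻¹ := by rw [h2]
    _ = a * c * a⁻¹ * v := by group

/-- If `A` normalizes the elementary abelian `p`-group `V`, all `p`-th powers of elements of `A`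
centralize `V`, and `X ≤ V` satisfies `X ≤ [X,A]`, then `X = 1`. -/
theorem eq_bot_of_le_commutator_pact [Finite G] {p : ℕ} [Fact p.Prime] {V A X : Subgroup G}
    (hV : Cfsg.IsElementaryAbelian p V) (hVn : A ≤ Subgroup.normalizer (V : Set G))
    (hp : ∀ a ∈ A, a ^ p ∈ Subgroup.centralizer (V : Set G)) (hXV : X ≤ V)
    (h : X ≤ ⁅X, A⁆) : X = ⊥ := by
  classical
  -- the kernel of the action, inside `A`
  have hN : ((Subgroup.centralizer (V : Set G)).subgroupOf A).Normal := by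
    refine ⟨fun n hn g => ?_⟩
    rw [Subgroup.mem_subgroupOf] at hn ⊢
    have := conj_mem_centralizer_of_normalizer (hVn g.2) hn
    simpa using this
  have hQ : IsPGroup p (↥A ⧸ (Subgroup.centralizer (V : Set G)).subgroupOf A) := by
    intro q
    obtain ⟨a, rfl⟩ := QuotientGroup.mk_surjective q
    refine ⟨1, ?_⟩
    rw [pow_one, ← QuotientGroup.mk_pow, QuotientGroup.eq_one_iff, Subgroup.mem_subgroupOf]
    simpa using hp a a.2
  have hcore : Cfsg.pCore p (↥A ⧸ (Subgroup.centralizer (V : Set G)).subgroupOf A) = ⊤ := by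
    apply le_antisymm le_top
    exact helper1.le_pCore (inferInstance : (⊤ : Subgroup _).Normal) (hQ.to_subgroup ⊤)
  obtain ⟨S⟩ : Nonempty (Sylow p ↥A) := inferInstance
  set S' : Subgroup G := (S : Subgroup ↥A).map A.subtype with hS'
  have hS'p : IsPGroup p S' := S.2.map A.subtype
  have hS'A : S' ≤ A := Subgroup.map_subtype_le _
  have hdecomp : ∀ a ∈ A, ∃ s ∈ S', s⁻¹ * a ∈ Subgroup.centralizer (V : Set G) := by
    intro a ha
    have h1 : ((⟨a, ha⟩ : A) : ↥A ⧸ (Subgroup.centralizer (V : Set G)).subgroupOf A) ∈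
        Cfsg.pCore p (↥A ⧸ (Subgroup.centralizer (V : Set G)).subgroupOf A) := by
      rw [hcore]; exact Subgroup.mem_top _
    obtain ⟨s, hs, hsa⟩ := exists_sylow_mul_of_mem_pCore _ h1 S
    refine ⟨(s : G), ⟨s, hs, rfl⟩, ?_⟩
    rw [Subgroup.mem_subgroupOf] at hsa
    simpa using hsa
  have hPp : IsPGroup p (V ⊔ S' : Subgroup G) :=
    IsPGroup.to_sup_of_normal_left' (ea_isPGroup hV) hS'p (hS'A.trans hVn)
  have hPn : Group.IsNilpotent (V ⊔ S' : Subgroup G) := hPp.isNilpotent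
  apply eq_bot_of_le_commutator_nilpotent hPn (hXV.trans le_sup_left)
  refine h.trans ?_
  rw [Subgroup.commutator_le]
  intro x hx a ha
  obtain ⟨s, hs, hsa⟩ := hdecomp a ha
  have hxc : x⁻¹ * (s⁻¹ * a) = (s⁻¹ * a) * x⁻¹ :=
    Subgroup.mem_centralizer_iff.mp hsa _ (V.inv_mem (hXV hx))
  have h1 : ⁅x, a⁆ = ⁅x, s⁆ := by
    have e : a = s * (s⁻¹ * a) := by group
    rw [commutatorElement_def, commutatorElement_def]
    calc x * a * x⁻¹ * a⁻¹ = x * s * ((s⁻¹ * a) * x⁻¹) * a⁻¹ := by group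
      _ = x * s * (x⁻¹ * (s⁻¹ * a)) * a⁻¹ := by rw [hxc]
      _ = x * s * x⁻¹ * s⁻¹ := by group
  rw [h1]
  exact Subgroup.commutator_mem_commutator hx ((le_sup_right : S' ≤ V ⊔ S') hs)

end Cfsg.Agent.helper3
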