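import Mathlib
import Cfsg.Agent.Lib_helper3_S2670x

set_option autoImplicit false
open Polynomial

namespace Cfsg.Agent.helper3.S2670t

open Cfsg.Agent.helper3.S2670x

variable {F : Type*} [Field F]

theorem sc_one (n : ℕ) (f : F[X]) : C ((1 : F) ^ n) * f.comp (C (1 : F)⁻¹ * X) = f := by
  simp

theorem sc_sc (n : ℕ) (μ ν : F) (f : F[X]) :
    C (μ ^ n) * (C (ν ^ n) * f.comp (C ν⁻¹ * X)).comp (C μ⁻¹ * X)
      = C ((μ * ν) ^ n) * f.comp (C (μ * ν)⁻¹ * X) := by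
  have h1 : (C ν⁻¹ * X : F[X]).comp (C μ⁻¹ * X) = C (μ * ν)⁻¹ * X := by
    rw [mul_comp, C_comp, X_comp, ← mul_assoc, ← C_mul, mul_inv_rev]
  rw [mul_comp, C_comp, comp_assoc, h1, ← mul_assoc, ← C_mul, ← mul_pow]

theorem sc_inv_sc (n : ℕ) (μ : F) (hμ : μ ≠ 0) (f : F[X]) :
    C ((μ⁻¹) ^ n) * (C (μ ^ n) * f.comp (C μ⁻¹ * X)).comp (C (μ⁻¹)⁻¹ * X) = f := by
  rw [sc_sc, inv_mul_cancel₀ hμ, sc_one]

theorem sc_mem (n r : ℕ) (μ : F) (hμ : μ ≠ 0) (c : F) (f : F[X])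
    (h : f.Monic ∧ f.natDegree = n ∧ f ∣ (X ^ r - C c) ^ n ∧ ¬ ∃ a : F, f = (X - C a) ^ n) :
    (C (μ ^ n) * f.comp (C μ⁻¹ * X)).Monic ∧ (C (μ ^ n) * f.comp (C μ⁻¹ * X)).natDegree = n ∧
      (C (μ ^ n) * f.comp (C μ⁻¹ * X)) ∣ (X ^ r - C (μ ^ r * c)) ^ n ∧
      ¬ ∃ a : F, C (μ ^ n) * f.comp (C μ⁻¹ * X) = (X - C a) ^ n := by
  obtain ⟨hf, hd, hdiv, hns⟩ := h
  obtain ⟨m1, m2, m3, -, -⟩ := pieceS2 n r μ hμ f hf hd
  refine ⟨m1, m2, m3 c hdiv, ?_⟩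
  rintro ⟨a, ha⟩
  apply hns
  refine ⟨μ⁻¹ * a, ?_⟩
  have hmon : ((X - C a : F[X]) ^ n).Monic := (monic_X_sub_C a).pow n
  have hdeg : ((X - C a : F[X]) ^ n).natDegree = n := by
    rw [natDegree_pow, natDegree_X_sub_C, mul_one]
  have h4 := (pieceS2 n r μ⁻¹ (inv_ne_zero hμ) ((X - C a) ^ n) hmon hdeg).2.2.2.1 a rfl
  rw [← h4, ← ha, sc_inv_sc n μ hμ f]

/-- PIECE T2: scaling bijection between the fibre over `ν ^ r` and the fibre over `1` -/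
theorem pieceT2 {F : Type*} [Field F] (n r : ℕ) (hn : 1 ≤ n) (hr : r.Prime) (ν : F) (hν : ν ≠ 0) :
    Nat.card {f : F[X] // f.Monic ∧ f.natDegree = n ∧ f ∣ (X ^ r - C (ν ^ r)) ^ n ∧
        ¬ ∃ a : F, f = (X - C a) ^ n} =
    Nat.card {f : F[X] // f.Monic ∧ f.natDegree = n ∧ f ∣ (X ^ r - C 1) ^ n ∧
        ¬ ∃ a : F, f = (X - C a) ^ n} := by
  have hν' : (ν⁻¹ : F) ≠ 0 := inv_ne_zero hν
  have e1 : (ν⁻¹) ^ r * ν ^ r = 1 := by rw [← mul_pow, inv_mul_cancel₀ hν, one_pow]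
  refine Nat.card_congr
    { toFun := fun f => ⟨C ((ν⁻¹) ^ n) * f.1.comp (C (ν⁻¹)⁻¹ * X), ?_⟩
      invFun := fun g => ⟨C (ν ^ n) * g.1.comp (C ν⁻¹ * X), ?_⟩
      left_inv := ?_
      right_inv := ?_ }
  · have := sc_mem n r ν⁻¹ hν' (ν ^ r) f.1 f.2
    rwa [e1] at this
  · have := sc_mem n r ν hν 1 g.1 g.2
    rwa [mul_one] at this
  · intro f
    apply Subtype.ext
    have := sc_inv_sc n ν⁻¹ hν' f.1
    simp only [inv_inv] at this ⊢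
    exact this
  · intro g
    apply Subtype.ext
    exact sc_inv_sc n ν hν g.1

end Cfsg.Agent.helper3.S2670t
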