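import Mathlib
import Cfsg.Agent.Lib_helper3_S2670x

set_option autoImplicit false
open Polynomial

namespace Cfsg.Agent.helper3.S2670x

variable {F : Type*} [Field F]

theorem s6_prim (r : ℕ) (hr : r.Prime) (ω : F) (hω : ω ^ r = 1) (hω1 : ω ≠ 1) :
    IsPrimitiveRoot ω r := by
  have h1 : orderOf ω ∣ r := orderOf_dvd_of_pow_eq_one hω
  rcases (Nat.dvd_prime hr).mp h1 with h | h
  · exact absurd (orderOf_eq_one_iff.mp h) hω1
  · rw [← h]; exact IsPrimitiveRoot.orderOf ω

theorem s6_aux (r : ℕ) (hr : r.Prime) (ω : F) (hω : ω ^ r = 1) (hω1 : ω ≠ 1) :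
    ∀ n : ℕ, ∀ f : F[X], f.Monic → f.natDegree = n → ∀ N : ℕ, f ∣ (X ^ r - C 1) ^ N →
      C (ω ^ n) * f.comp (C ω⁻¹ * X) = f → r ∣ n ∧ f = (X ^ r - C 1) ^ (n / r) := by
  have hr0 : 0 < r := hr.pos
  have hω0 : ω ≠ 0 := by
    intro h; rw [h, zero_pow hr0.ne'] at hω; exact zero_ne_one hω
  have hprim := s6_prim r hr ω hω hω1
  have hprod : (X ^ r - C 1 : F[X]) = ∏ ζ ∈ nthRootsFinset r (1 : F), (X - C ζ) := by
    rw [C_1]; exact X_pow_sub_one_eq_prod hr0 hprim
  have hcomp : (X ^ r - C 1 : F[X]).comp (C ω⁻¹ * X) = X ^ r - C 1 := by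
    rw [comp_key r ω hω0 1, inv_pow, hω]; simp
  have hmon : (X ^ r - C 1 : F[X]).Monic := monic_X_pow_sub_C 1 hr0.ne'
  have hne : (X ^ r - C 1 : F[X]) ≠ 0 := hmon.ne_zero
  have : NeZero r := ⟨hr0.ne'⟩
  have hdeg : (X ^ r - C 1 : F[X]).natDegree = r := natDegree_X_pow_sub_C
  intro n
  induction n using Nat.strong_induction_on with
  | _ n ih =>
    intro f hf hd N hdvd hfix
    rcases Nat.eq_zero_or_pos n with hn | hn
    · subst hn
      have : f = 1 := by
        exact eq_one_of_monic_natDegree_zero hf hd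
      refine ⟨dvd_zero r, ?_⟩
      rw [this, Nat.zero_div, pow_zero]
    · -- a root exists
      have hroot : ∃ α : F, α ^ r = 1 ∧ f.IsRoot α := by
        by_contra hcon
        push Not at hcon
        have hcop : IsCoprime (∏ ζ ∈ nthRootsFinset r (1 : F), (X - C ζ)) f := by
          apply IsCoprime.prod_left
          intro ζ hζ
          rw [(irreducible_X_sub_C ζ).coprime_iff_not_dvd, dvd_iff_isRoot]
          exact hcon ζ ((mem_nthRootsFinset hr0 1).mp hζ)
        rw [← hprod] at hcop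
        have hcop2 : IsCoprime ((X ^ r - C 1 : F[X]) ^ N) f := hcop.pow_left
        have hu : IsUnit f := hcop2.symm.isUnit_of_dvd' (dvd_refl f) hdvd
        have := natDegree_eq_zero_of_isUnit hu
        omega
      obtain ⟨α, hα, hαr⟩ := hroot
      -- roots are stable under multiplication by ω
      have hstab : ∀ β : F, f.IsRoot β → f.IsRoot (ω * β) := by
        intro β hβ
        have h1 : f.eval (ω * β) = (C (ω ^ n) * f.comp (C ω⁻¹ * X)).eval (ω * β) := by rw [hfix]
        rw [eval_mul, eval_C, eval_comp, eval_mul, eval_C, eval_X, ← mul_assoc,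
          inv_mul_cancel₀ hω0, one_mul] at h1
        unfold IsRoot at hβ ⊢
        rw [h1, hβ, mul_zero]
      have hpow : ∀ k : ℕ, f.IsRoot (ω ^ k * α) := by
        intro k
        induction k with
        | zero => simpa using hαr
        | succ k ihk => rw [pow_succ', mul_assoc]; exact hstab _ ihk
      have hα0 : α ≠ 0 := by
        intro h; rw [h, zero_pow hr0.ne'] at hα; exact zero_ne_one hα
      have hall : ∀ ζ : F, ζ ^ r = 1 → f.IsRoot ζ := by
        intro ζ hζ
        have h2 : (ζ * α⁻¹) ^ r = 1 := by rw [mul_pow, inv_pow, hζ, hα, inv_one, one_mul]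
        obtain ⟨k, -, hk⟩ := hprim.eq_pow_of_pow_eq_one h2
        have : ζ = ω ^ k * α := by rw [hk, mul_assoc, inv_mul_cancel₀ hα0, mul_one]
        rw [this]; exact hpow k
      have hdiv : (X ^ r - C 1 : F[X]) ∣ f := by
        rw [hprod]
        apply Finset.prod_dvd_of_coprime
        · intro a _ b _ hab
          exact isCoprime_X_sub_C_of_isUnit_sub (sub_ne_zero.mpr hab).isUnit
        · intro ζ hζ
          rw [dvd_iff_isRoot]
          exact hall ζ ((mem_nthRootsFinset hr0 1).mp hζ)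
      obtain ⟨f₁, hf₁⟩ := hdiv
      have hf₁mon : f₁.Monic := hmon.of_mul_monic_left (hf₁ ▸ hf)
      have hdn : n = r + f₁.natDegree := by
        rw [← hd, hf₁, hmon.natDegree_mul hf₁mon, hdeg]
      have hlt : f₁.natDegree < n := by omega
      have hf₁dvd : f₁ ∣ (X ^ r - C 1) ^ N := (Dvd.intro_left _ hf₁.symm).trans hdvd
      have hfix₁ : C (ω ^ f₁.natDegree) * f₁.comp (C ω⁻¹ * X) = f₁ := by
        have h3 : C (ω ^ n) * ((X ^ r - C 1) * f₁).comp (C ω⁻¹ * X) = (X ^ r - C 1) * f₁ := by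
          rw [← hf₁]; exact hfix
        rw [mul_comp, hcomp, hdn, pow_add, hω, one_mul, mul_left_comm] at h3
        exact mul_left_cancel₀ hne h3
      obtain ⟨hrd, hf₁eq⟩ := ih f₁.natDegree hlt f₁ hf₁mon rfl N hf₁dvd hfix₁
      refine ⟨?_, ?_⟩
      · rw [hdn]; exact (dvd_refl r).add hrd
      · rw [hf₁, hf₁eq, hdn, Nat.add_div_left _ hr0, pow_succ']

/-- PIECE S6: fixed points of the rotation for `c = 1` -/
theorem pieceS6 {F : Type*} [Field F] (n r : ℕ) (hr : r.Prime) (ω : F) (hω : ω ^ r = 1)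
    (hω1 : ω ≠ 1) (f : F[X]) (hf : f.Monic) (hd : f.natDegree = n)
    (h : f ∣ (X ^ r - C 1) ^ n) (hfix : C (ω ^ n) * f.comp (C ω⁻¹ * X) = f) :
    r ∣ n ∧ f = (X ^ r - C 1) ^ (n / r) :=
  s6_aux r hr ω hω hω1 n f hf hd n h hfix

end Cfsg.Agent.helper3.S2670x
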