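import Mathlib
import Cfsg.Prelude.Def_Transfer
import Cfsg.Agent.Lib_helper3_S3739x

set_option autoImplicit false

/-! Wrappers of `Lib_helper3_S3739x` with exactly the argument lists of the S3739 plan
(including the unused hypothesis `hd`). -/

namespace Cfsg.Agent.helper3.S3739x

variable {G : Type*} [Group G] [Finite G]

theorem A0 (hno : ¬ ∃ E : Subgroup G, Cfsg.IsElementaryAbelian 2 E ∧ Nat.card E = 8)
    (E : Subgroup G) (hE : Cfsg.IsElementaryAbelian 2 E) : Nat.card E ≤ 4 :=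
  card_le_four hno E hE

theorem A1 (hno : ¬ ∃ E : Subgroup G, Cfsg.IsElementaryAbelian 2 E ∧ Nat.card E = 8)
    (d : G) (_hd : IsPGroup 3 ↥(Subgroup.zpowers d)) (W : Subgroup G)
    (hW : Cfsg.IsElementaryAbelian 2 W) (hW1 : W ≠ ⊥)
    (hdW : d ∈ Subgroup.normalizer (W : Set G))
    (hfpf : W ⊓ Subgroup.centralizer {d} = ⊥) : Nat.card W = 4 :=
  card_eq_four hno d W hW hW1 hdW hfpf

theorem A2 (hno : ¬ ∃ E : Subgroup G, Cfsg.IsElementaryAbelian 2 E ∧ Nat.card E = 8)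
    (d : G) (_hd : IsPGroup 3 ↥(Subgroup.zpowers d)) (W : Subgroup G)
    (hW : Cfsg.IsElementaryAbelian 2 W) (hW1 : W ≠ ⊥)
    (hdW : d ∈ Subgroup.normalizer (W : Set G))
    (hfpf : W ⊓ Subgroup.centralizer {d} = ⊥)
    (Y : Subgroup G) (hYW : Y ≤ W) (hdY : ∀ y ∈ Y, d * y * d⁻¹ ∈ Y) : Y = ⊥ ∨ Y = W :=
  invariant_eq_bot_or hno d W hW hW1 hdW hfpf Y hYW hdY

theorem A3 (hno : ¬ ∃ E : Subgroup G, Cfsg.IsElementaryAbelian 2 E ∧ Nat.card E = 8)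
    (d : G) (_hd : IsPGroup 3 ↥(Subgroup.zpowers d)) (W : Subgroup G)
    (hW : Cfsg.IsElementaryAbelian 2 W) (hW1 : W ≠ ⊥)
    (hdW : d ∈ Subgroup.normalizer (W : Set G))
    (hfpf : W ⊓ Subgroup.centralizer {d} = ⊥) :
    ∀ w ∈ W, w ≠ 1 → ∀ w' ∈ W, w' ≠ 1 → ∃ k : ℕ, d ^ k * w * (d ^ k)⁻¹ = w' :=
  transitive hno d W hW hW1 hdW hfpf

/-- `d` moves every non-identity element of `W` (the form `hdfree` used by helper16's
`eq_of_aniso`). -/
theorem dfree (d : G) (W : Subgroup G) (hfpf : W ⊓ Subgroup.centralizer {d} = ⊥) :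
    ∀ w ∈ W, w ≠ 1 → d * w * d⁻¹ ≠ w :=
  fun _ hw hw1 h => hw1 (fixed_eq_one d W hfpf hw h)

end Cfsg.Agent.helper3.S3739x
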