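import Mathlib
import Cfsg.Prelude.Def_Characters
import Cfsg.Prelude.Def_Blocks

set_option autoImplicit false

namespace Cfsg.Agent.helper3.S4871x

open Cfsg

universe u

/-- The averaging operator of a finite subgroup in a representation is idempotent; hence the sum of a
character over a subgroup is `|F|` times a natural number bounded by the degree. -/
theorem sum_rep_eq {G : Type u} [Group G] [Finite G] (F : Subgroup G) (n : ℕ)
    (ρ : Representation ℂ G (Fin n → ℂ)) :
    ∃ k : ℕ, k ≤ n ∧ ∑ᶠ f : F, ρ.character f = (Nat.card F : ℂ) * k := by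
  classical
  haveI : Fintype F := Fintype.ofFinite F
  have hm0 : (Nat.card F : ℂ) ≠ 0 := by
    have : 0 < Nat.card F := Nat.card_pos
    exact_mod_cast this.ne'
  -- the sum operator
  obtain ⟨S, hS⟩ : ∃ S : (Fin n → ℂ) →ₗ[ℂ] (Fin n → ℂ), S = ∑ f : F, ρ (f : G) := ⟨_, rfl⟩
  have hSS : S * S = (Nat.card F : ℂ) • S := by
    have h1 : S * S = ∑ f : F, ∑ f' : F, ρ ((f : G) * (f' : G)) := by
      rw [hS, Finset.sum_mul]
      refine Finset.sum_congr rfl fun f _ => ?_
      rw [Finset.mul_sum]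
      refine Finset.sum_congr rfl fun f' _ => ?_
      rw [map_mul]
    have h2 : ∀ f : F, ∑ f' : F, ρ ((f : G) * (f' : G)) = S := by
      intro f
      rw [hS]
      exact Fintype.sum_equiv (Equiv.mulLeft f) _ _ (fun f' => rfl)
    rw [h1, Finset.sum_congr rfl (fun f _ => h2 f), Finset.sum_const, Finset.card_univ,
      Nat.card_eq_fintype_card, Nat.cast_smul_eq_nsmul]
  obtain ⟨A, hA⟩ : ∃ A : (Fin n → ℂ) →ₗ[ℂ] (Fin n → ℂ), A = (Nat.card F : ℂ)⁻¹ • S := ⟨_, rfl⟩
  have hAA : IsIdempotentElem A := by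
    show A * A = A
    rw [hA, smul_mul_smul_comm, hSS, smul_smul, mul_assoc, inv_mul_cancel₀ hm0, mul_one]
  have hproj := LinearMap.IsIdempotentElem.isProj_range A hAA
  have htr := hproj.trace
  refine ⟨Module.finrank ℂ (LinearMap.range A), ?_, ?_⟩
  · have := Submodule.finrank_le (LinearMap.range A)
    rwa [Module.finrank_fin_fun] at this
  · rw [finsum_eq_sum_of_fintype]
    have h3 : LinearMap.trace ℂ (Fin n → ℂ) A =
        (Nat.card F : ℂ)⁻¹ * ∑ f : F, ρ.character (f : G) := by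
      rw [hA, map_smul, hS, map_sum, smul_eq_mul]
      rfl
    rw [h3] at htr
    rw [← htr, ← mul_assoc, mul_inv_cancel₀ hm0, one_mul]

theorem charDegree_rep {G : Type u} [Group G] (n : ℕ) (ρ : Representation ℂ G (Fin n → ℂ)) :
    Cfsg.charDegree ρ.character = n := by
  unfold Cfsg.charDegree
  have h1 : ρ.character 1 = (n : ℂ) := by
    unfold Representation.character
    rw [map_one]
    have := LinearMap.trace_one ℂ (Fin n → ℂ)
    rw [this, Module.finrank_fin_fun]
  rw [h1]
  simp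

/-- PIECE E of the S4871 plan. -/
theorem pieceE {G : Type u} [Group G] [Finite G] (F : Subgroup G) (χ : Cfsg.IrrCharacter G) :
    ∃ k : ℕ, k ≤ Cfsg.charDegree (χ : G → ℂ) ∧
      ∑ᶠ f : F, (χ : G → ℂ) f = (Nat.card F : ℂ) * k := by
  obtain ⟨n, ρ, _, hχ⟩ := χ.2
  obtain ⟨k, hk, hsum⟩ := sum_rep_eq F n ρ
  refine ⟨k, ?_, ?_⟩
  · rw [← hχ, charDegree_rep]
    exact hk
  · rw [← hχ]
    exact hsum

end Cfsg.Agent.helper3.S4871x
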