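import Mathlib
import Cfsg.Prelude.Def_SolvableStructure

set_option autoImplicit false

namespace Cfsg.Agent.helper3

open Subgroup

/-- `SSReach N`: `N` is reached from `⊥` by a chain of normal subgroups of `G`, each obtained from
the previous one by adjoining one element. -/
inductive SSReach {G : Type*} [Group G] : Subgroup G → Prop
  | bot : SSReach ⊥
  | step (H : Subgroup G) (g : G) : SSReach H → H.Normal → (H ⊔ zpowers g).Normal →
      SSReach (H ⊔ zpowers g)

theorem SSReach.normal {G : Type*} [Group G] {N : Subgroup G} (h : SSReach N) : N.Normal := by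
  cases h with
  | bot => exact Subgroup.normal_bot
  | step H g _ _ hn => exact hn

theorem ssreach_of_isSupersolvable {G : Type*} [Group G] (h : Cfsg.IsSupersolvable G) :
    SSReach (⊤ : Subgroup G) := by
  obtain ⟨n, H, h0, hlast, hnorm, hstep⟩ := h
  have key : ∀ i : Fin (n + 1), SSReach (H i) := by
    intro i
    induction i using Fin.induction with
    | zero => rw [h0]; exact SSReach.bot
    | succ i ih =>
      obtain ⟨g, hg⟩ := hstep i
      rw [hg]
      exact SSReach.step _ g ih (hnorm _) (hg ▸ hnorm _)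
  rw [← hlast]
  exact key _

theorem exists_chain_of_ssreach {G : Type*} [Group G] {N : Subgroup G} (h : SSReach N) :
    ∃ (n : ℕ) (H : Fin (n + 1) → Subgroup G),
      H 0 = ⊥ ∧ H (Fin.last n) = N ∧ (∀ i, (H i).Normal) ∧
        ∀ i : Fin n, ∃ g : G, H i.succ = H i.castSucc ⊔ Subgroup.zpowers g := by
  induction h with
  | bot =>
    exact ⟨0, fun _ => ⊥, rfl, rfl, fun _ => Subgroup.normal_bot, fun i => i.elim0⟩
  | step H g _ hHn hn ih =>
    obtain ⟨n, F, h0, hl, hnm, hst⟩ := ih
    refine ⟨n + 1, Fin.snoc (α := fun _ => Subgroup G) F (H ⊔ zpowers g), ?_, ?_, ?_, ?_⟩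
    · have : (0 : Fin (n + 2)) = Fin.castSucc (0 : Fin (n + 1)) := rfl
      rw [this, Fin.snoc_castSucc]
      exact h0
    · exact Fin.snoc_last (α := fun _ => Subgroup G) _ _
    · intro i
      refine Fin.lastCases ?_ (fun j => ?_) i
      · rw [Fin.snoc_last (α := fun _ => Subgroup G)]; exact hn
      · rw [Fin.snoc_castSucc (α := fun _ => Subgroup G)]; exact hnm j
    · intro i
      refine Fin.lastCases ?_ (fun j => ?_) i
      · refine ⟨g, ?_⟩
        rw [Fin.succ_last, Fin.snoc_last (α := fun _ => Subgroup G),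
          Fin.snoc_castSucc (α := fun _ => Subgroup G), hl]
      · obtain ⟨g', hg'⟩ := hst j
        refine ⟨g', ?_⟩
        rw [Fin.succ_castSucc, Fin.snoc_castSucc (α := fun _ => Subgroup G),
          Fin.snoc_castSucc (α := fun _ => Subgroup G)]
        exact hg'

theorem isSupersolvable_iff_ssreach {G : Type*} [Group G] :
    Cfsg.IsSupersolvable G ↔ SSReach (⊤ : Subgroup G) :=
  ⟨ssreach_of_isSupersolvable, fun h => exists_chain_of_ssreach h⟩

/-- Images under surjective homomorphisms. -/
theorem SSReach.map {G G' : Type*} [Group G] [Group G'] (f : G →* G')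
    (hf : Function.Surjective f) {N : Subgroup G} (h : SSReach N) : SSReach (N.map f) := by
  induction h with
  | bot => rw [Subgroup.map_bot]; exact SSReach.bot
  | step H g _ hHn hn ih =>
    have e : (H ⊔ zpowers g).map f = H.map f ⊔ zpowers (f g) := by
      rw [Subgroup.map_sup, MonoidHom.map_zpowers]
    rw [e]
    exact SSReach.step _ _ ih (hHn.map f hf) (e ▸ hn.map f hf)

theorem comap_step {G G' : Type*} [Group G] [Group G'] (f : G →* G')
    (hf : Function.Surjective f) (H' : Subgroup G') (g : G) :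
    (H' ⊔ zpowers (f g)).comap f = H'.comap f ⊔ zpowers g := by
  have hr : f.range = ⊤ := MonoidHom.range_eq_top.2 hf
  rw [← Subgroup.comap_sup_eq_of_le_range f (hr ▸ le_top) (hr ▸ le_top), ← MonoidHom.map_zpowers,
    Subgroup.comap_map_eq]
  apply le_antisymm
  · apply sup_le le_sup_left
    apply sup_le le_sup_right
    exact (Subgroup.ker_le_comap f H').trans le_sup_left
  · exact sup_le_sup_left le_sup_left _

/-- Preimages under surjective homomorphisms, given that the kernel is reachable. -/
theorem SSReach.comap {G G' : Type*} [Group G] [Group G'] (f : G →* G')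
    (hf : Function.Surjective f) (hker : SSReach f.ker) {N' : Subgroup G'} (h : SSReach N') :
    SSReach (N'.comap f) := by
  induction h with
  | bot => rw [MonoidHom.comap_bot]; exact hker
  | step H' q _ hHn hn ih =>
    obtain ⟨g, rfl⟩ := hf q
    rw [comap_step f hf]
    exact SSReach.step _ g ih (hHn.comap f) (comap_step f hf H' g ▸ hn.comap f)

theorem exists_gen_subgroupOf {G : Type*} [Group G] (K H : Subgroup G) [H.Normal] (g : G) :
    ∃ k : K, (H ⊔ zpowers g).subgroupOf K = H.subgroupOf K ⊔ zpowers k := by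
  set π := QuotientGroup.mk' H with hπ
  set φ : K →* G ⧸ H := π.comp K.subtype with hφ
  set M := (H ⊔ zpowers g).subgroupOf K with hM
  have hmap : (H ⊔ zpowers g).map π = zpowers (π g) := by
    rw [Subgroup.map_sup, QuotientGroup.map_mk'_self, bot_sup_eq, MonoidHom.map_zpowers]
  have hle : M.map φ ≤ zpowers (π g) := by
    rintro x ⟨m, hm, rfl⟩
    rw [← hmap]
    exact ⟨(m : G), Subgroup.mem_subgroupOf.1 hm, rfl⟩
  haveI : IsCyclic (M.map φ) := Subgroup.isCyclic_of_le hle
  obtain ⟨c, hc⟩ := (Subgroup.isCyclic_iff_exists_zpowers_eq_top (M.map φ)).1 inferInstance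
  have hcm : c ∈ M.map φ := by rw [← hc]; exact mem_zpowers c
  obtain ⟨k, hkM, hkc⟩ := hcm
  refine ⟨k, le_antisymm ?_ ?_⟩
  · intro m hm
    have h1 : φ m ∈ zpowers c := by rw [hc]; exact ⟨m, hm, rfl⟩
    obtain ⟨t, ht⟩ := mem_zpowers_iff.1 h1
    have h2 : m * k ^ (-t) ∈ H.subgroupOf K := by
      rw [Subgroup.mem_subgroupOf]
      have : φ (m * k ^ (-t)) = 1 := by
        rw [map_mul, map_zpow, hkc, zpow_neg, ← ht, mul_inv_cancel]
      have h3 : π ((m * k ^ (-t) : K) : G) = 1 := this
      exact (QuotientGroup.eq_one_iff _).1 h3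
    have h4 : m = (m * k ^ (-t)) * k ^ t := by
      rw [zpow_neg, inv_mul_cancel_right]
    rw [h4]
    exact Subgroup.mul_mem _ (Subgroup.mem_sup_left h2)
      (Subgroup.mem_sup_right (Subgroup.zpow_mem _ (mem_zpowers k) t))
  · apply sup_le
    · intro x hx
      rw [Subgroup.mem_subgroupOf] at hx ⊢
      exact Subgroup.mem_sup_left hx
    · rw [Subgroup.zpowers_le]; exact hkM

/-- Intersections with a subgroup. -/
theorem SSReach.subgroupOf {G : Type*} [Group G] (K : Subgroup G) {N : Subgroup G}
    (h : SSReach N) : SSReach (N.subgroupOf K) := by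
  induction h with
  | bot => rw [Subgroup.bot_subgroupOf]; exact SSReach.bot
  | step H g _ hHn hn ih =>
    haveI := hHn
    obtain ⟨k, hk⟩ := exists_gen_subgroupOf K H g
    rw [hk]
    exact SSReach.step _ k ih (hHn.subgroupOf K) (hk ▸ hn.subgroupOf K)

theorem prod_bot_eq_map_inl {G G' : Type*} [Group G] [Group G'] (N : Subgroup G) :
    N.prod (⊥ : Subgroup G') = N.map (MonoidHom.inl G G') := by
  ext ⟨x, y⟩
  simp only [Subgroup.mem_prod, Subgroup.mem_bot, Subgroup.mem_map, MonoidHom.inl_apply,
    Prod.mk.injEq]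
  constructor
  · rintro ⟨hx, rfl⟩; exact ⟨x, hx, rfl, rfl⟩
  · rintro ⟨n, hn, rfl, rfl⟩; exact ⟨hn, rfl⟩

theorem SSReach.prod_bot {G G' : Type*} [Group G] [Group G'] {N : Subgroup G}
    (h : SSReach N) : SSReach (N.prod (⊥ : Subgroup G')) := by
  induction h with
  | bot => rw [Subgroup.bot_prod_bot]; exact SSReach.bot
  | step H g _ hHn hn ih =>
    have e : (H ⊔ zpowers g).prod (⊥ : Subgroup G') =
        H.prod (⊥ : Subgroup G') ⊔ zpowers (MonoidHom.inl G G' g) := by
      rw [prod_bot_eq_map_inl, Subgroup.map_sup, MonoidHom.map_zpowers, ← prod_bot_eq_map_inl]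
    rw [e]
    haveI := hHn
    haveI := hn
    exact SSReach.step _ _ ih inferInstance (e ▸ inferInstance)

/-- Quotients of supersolvable groups are supersolvable. -/
theorem isSupersolvable_quotient {G : Type*} [Group G] (hG : Cfsg.IsSupersolvable G)
    (N : Subgroup G) [N.Normal] : Cfsg.IsSupersolvable (G ⧸ N) := by
  rw [isSupersolvable_iff_ssreach] at hG ⊢
  have := hG.map (QuotientGroup.mk' N) (QuotientGroup.mk'_surjective N)
  rwa [Subgroup.map_top_of_surjective _ (QuotientGroup.mk'_surjective N)] at this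

/-- Subgroups of supersolvable groups are supersolvable. -/
theorem isSupersolvable_subgroup {G : Type*} [Group G] (hG : Cfsg.IsSupersolvable G)
    (K : Subgroup G) : Cfsg.IsSupersolvable K := by
  rw [isSupersolvable_iff_ssreach] at hG ⊢
  have := hG.subgroupOf K
  rwa [Subgroup.top_subgroupOf] at this

/-- Extension by a reachable kernel. -/
theorem isSupersolvable_of_ker {G G' : Type*} [Group G] [Group G'] (f : G →* G')
    (hf : Function.Surjective f) (hker : SSReach f.ker) (hG' : Cfsg.IsSupersolvable G') :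
    Cfsg.IsSupersolvable G := by
  rw [isSupersolvable_iff_ssreach] at hG' ⊢
  have := SSReach.comap f hf hker hG'
  rwa [Subgroup.comap_top] at this

theorem isSupersolvable_prod {G H : Type*} [Group G] [Group H] (hG : Cfsg.IsSupersolvable G)
    (hH : Cfsg.IsSupersolvable H) : Cfsg.IsSupersolvable (G × H) := by
  apply isSupersolvable_of_ker (MonoidHom.snd G H) Prod.snd_surjective _ hH
  have : (MonoidHom.snd G H).ker = (⊤ : Subgroup G).prod (⊥ : Subgroup H) := by
    ext ⟨x, y⟩
    simp [Subgroup.mem_prod]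
  rw [this]
  exact (ssreach_of_isSupersolvable hG).prod_bot

theorem isSupersolvable_of_cyclic_normal {G : Type*} [Group G] (N : Subgroup G) [N.Normal]
    [IsCyclic N] (h : Cfsg.IsSupersolvable (G ⧸ N)) : Cfsg.IsSupersolvable G := by
  apply isSupersolvable_of_ker (QuotientGroup.mk' N) (QuotientGroup.mk'_surjective N) _ h
  rw [QuotientGroup.ker_mk']
  obtain ⟨g, hg⟩ := (Subgroup.isCyclic_iff_exists_zpowers_eq_top N).1 inferInstance
  have e : N = ⊥ ⊔ zpowers g := by rw [bot_sup_eq, hg]
  rw [e]
  exact SSReach.step ⊥ g SSReach.bot Subgroup.normal_bot (e ▸ inferInstance)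

end Cfsg.Agent.helper3
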