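import Cfsg.Agent.Lib_helper3_SS

set_option autoImplicit false

namespace Cfsg.Agent.helper3

open Subgroup

/-- A nontrivial reachable subgroup contains a nontrivial cyclic subgroup normal in `G`. -/
theorem SSReach.exists_cyclic_normal {G : Type*} [Group G] {N : Subgroup G} (h : SSReach N)
    (hN : N ≠ ⊥) : ∃ g : G, g ≠ 1 ∧ g ∈ N ∧ (zpowers g).Normal := by
  induction h with
  | bot => exact absurd rfl hN
  | step H g _ hHn hn ih =>
    by_cases hH : H = ⊥
    · subst hH
      rw [bot_sup_eq] at hn hN ⊢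
      refine ⟨g, ?_, mem_zpowers g, hn⟩
      intro h1
      apply hN
      rw [h1, zpowers_one_eq_bot]
    · obtain ⟨g', h1, h2, h3⟩ := ih hH
      exact ⟨g', h1, Subgroup.mem_sup_left h2, h3⟩

/-- A cyclic normal subgroup `zpowers g` of finite order has all its subgroups `zpowers (g ^ k)`
normal. -/
theorem zpowers_pow_normal {G : Type*} [Group G] (g : G) (hn : (zpowers g).Normal) (k : ℕ) :
    (zpowers (g ^ k)).Normal := by
  constructor
  intro y hy x
  obtain ⟨j, rfl⟩ := mem_zpowers_iff.1 hy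
  have h1 := hn.conj_mem g (mem_zpowers g) x
  obtain ⟨i, hi⟩ := mem_zpowers_iff.1 h1
  have e : x * (g ^ k) ^ j * x⁻¹ = ((x * g * x⁻¹) ^ k) ^ j := by
    rw [← conj_zpow, ← conj_pow]
  have e2 : (g ^ i) ^ k = (g ^ k) ^ i := by
    rw [← zpow_natCast (g ^ i) k, ← zpow_natCast g k, ← zpow_mul, ← zpow_mul, mul_comm]
  rw [e, ← hi, e2]
  exact Subgroup.zpow_mem _ (Subgroup.zpow_mem _ (mem_zpowers _) i) j

/-- A nontrivial finite supersolvable group has a normal subgroup of prime order. -/
theorem exists_normal_prime_card {G : Type*} [Group G] [Finite G] [Nontrivial G]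
    (hG : Cfsg.IsSupersolvable G) : ∃ N : Subgroup G, N.Normal ∧ (Nat.card N).Prime := by
  have hr := ssreach_of_isSupersolvable hG
  obtain ⟨g, hg1, -, hgn⟩ := hr.exists_cyclic_normal (by exact top_ne_bot)
  have hm : orderOf g ≠ 1 := by
    intro h; exact hg1 (orderOf_eq_one_iff.1 h)
  have hm0 : orderOf g ≠ 0 := (orderOf_pos g).ne'
  set r := (orderOf g).minFac with hr'
  have hrp : r.Prime := Nat.minFac_prime hm
  have hrd : r ∣ orderOf g := Nat.minFac_dvd _
  refine ⟨zpowers (g ^ (orderOf g / r)), zpowers_pow_normal g hgn _, ?_⟩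
  rw [Nat.card_zpowers, orderOf_pow_orderOf_div hm0 hrd]
  exact hrp

end Cfsg.Agent.helper3
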