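import Cfsg.Agent.Lib_helper3_SS
import Cfsg.Agent.Lib_helper3_SS2

set_option autoImplicit false

namespace Cfsg.Agent.helper3

open Subgroup

/-- A normal subgroup `P` meeting a reachable subgroup `N` nontrivially contains a nontrivial cyclic
subgroup normal in `G`. -/
theorem SSReach.exists_cyclic_normal_inf {G : Type*} [Group G] {N : Subgroup G} (h : SSReach N)
    (P : Subgroup G) [hPn : P.Normal] (hP : P ⊓ N ≠ ⊥) :
    ∃ g : G, g ≠ 1 ∧ g ∈ P ⊓ N ∧ (zpowers g).Normal := by
  induction h with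
  | bot => rw [inf_bot_eq] at hP; exact absurd rfl hP
  | step H g _ hHn hn ih =>
    by_cases hH : P ⊓ H = ⊥
    · haveI := hHn
      haveI := hn
      -- `K = P ⊓ (H ⊔ ⟨g⟩)` embeds into the cyclic group generated by the image of `g` in `G ⧸ H`
      set K : Subgroup G := P ⊓ (H ⊔ zpowers g) with hK
      have hKn : K.Normal := inferInstance
      have hmem : ∀ x : K, ((QuotientGroup.mk' H).comp K.subtype) x ∈
          zpowers ((QuotientGroup.mk' H) g) := by
        intro x
        have h1 : (x : G) ∈ H ⊔ zpowers g := x.2.2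
        have h2 : (QuotientGroup.mk' H) (x : G) ∈ (H ⊔ zpowers g).map (QuotientGroup.mk' H) :=
          ⟨x, h1, rfl⟩
        rw [Subgroup.map_sup, QuotientGroup.map_mk'_self, bot_sup_eq, MonoidHom.map_zpowers] at h2
        exact h2
      have hinj : Function.Injective
          (((QuotientGroup.mk' H).comp K.subtype).codRestrict (zpowers ((QuotientGroup.mk' H) g)) hmem) := by
        rw [injective_iff_map_eq_one]
        intro x hx
        have h1 : (QuotientGroup.mk' H) (x : G) = 1 := congrArg Subtype.val hx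
        rw [QuotientGroup.mk'_apply, QuotientGroup.eq_one_iff] at h1
        have h2 : (x : G) ∈ P ⊓ H := ⟨x.2.1, h1⟩
        rw [hH, Subgroup.mem_bot] at h2
        exact Subtype.ext h2
      haveI : IsCyclic (zpowers ((QuotientGroup.mk' H) g)) := Subgroup.isCyclic_zpowers _
      have hcyc : IsCyclic K := isCyclic_of_injective _ hinj
      obtain ⟨k, hk⟩ := (Subgroup.isCyclic_iff_exists_zpowers_eq_top K).1 hcyc
      refine ⟨k, ?_, ?_, ?_⟩
      · intro h1
        rw [h1, zpowers_one_eq_bot] at hk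
        exact hP hk.symm
      · rw [← hk]; exact mem_zpowers k
      · rw [hk]; exact hKn
    · obtain ⟨g', h1, h2, h3⟩ := ih hH
      exact ⟨g', h1, ⟨h2.1, Subgroup.mem_sup_left h2.2⟩, h3⟩

/-- In a finite supersolvable group, a nontrivial normal `p`-subgroup contains a normal subgroup of
order `p`. -/
theorem exists_normal_prime_card_le {G : Type*} [Group G] [Finite G]
    (hG : Cfsg.IsSupersolvable G) {p : ℕ} [hp : Fact p.Prime] (P : Subgroup G) [P.Normal]
    (hP : IsPGroup p P) (hne : P ≠ ⊥) :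
    ∃ N : Subgroup G, N ≤ P ∧ N.Normal ∧ Nat.card N = p := by
  have hr := ssreach_of_isSupersolvable hG
  obtain ⟨g, hg1, hgP, hgn⟩ := hr.exists_cyclic_normal_inf P (by rwa [inf_top_eq])
  have hgP' : g ∈ P := hgP.1
  have hm : orderOf g ≠ 1 := by
    intro h; exact hg1 (orderOf_eq_one_iff.1 h)
  have hm0 : orderOf g ≠ 0 := (orderOf_pos g).ne'
  obtain ⟨k, hk⟩ := (IsPGroup.iff_orderOf.mp hP) ⟨g, hgP'⟩
  rw [Subgroup.orderOf_mk] at hk
  have hk0 : k ≠ 0 := by
    intro h0; rw [h0, pow_zero] at hk; exact hm hk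
  have hpd : p ∣ orderOf g := hk ▸ dvd_pow_self p hk0
  refine ⟨zpowers (g ^ (orderOf g / p)), ?_, zpowers_pow_normal g hgn _, ?_⟩
  · rw [Subgroup.zpowers_le]
    exact P.pow_mem hgP' _
  · rw [Nat.card_zpowers, orderOf_pow_orderOf_div hm0 hpd]

end Cfsg.Agent.helper3
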