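import Mathlib

set_option autoImplicit false

/-!
# Elementary abelian groups written multiplicatively: power maps and automorphisms normalizing
cyclic subgroups (tools for S3033).
-/

namespace Cfsg.Agent.helper3

open Subgroup

section expq

variable {V : Type*} [CommGroup V] {q : ℕ} [hqp : Fact q.Prime]

theorem sv_orderOf (hq : ∀ v : V, v ^ q = 1) {v : V} (hv : v ≠ 1) : orderOf v = q :=
  orderOf_eq_prime (hq v) hv

theorem sv_pow_eq_of_modEq (hq : ∀ v : V, v ^ q = 1) {a b : ℕ} (h : a ≡ b [MOD q]) (v : V) :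
    v ^ a = v ^ b := by
  by_cases hv : v = 1
  · subst hv; simp
  · rw [pow_eq_pow_iff_modEq, sv_orderOf hq hv]; exact h

theorem sv_modEq_of_pow_eq (hq : ∀ v : V, v ^ q = 1) {a b : ℕ} {v : V} (hv : v ≠ 1)
    (h : v ^ a = v ^ b) : a ≡ b [MOD q] := by
  rw [pow_eq_pow_iff_modEq, sv_orderOf hq hv] at h; exact h

/-- Either `w ↦ w ^ a` is the identity, or it fixes only `1`. -/
theorem sv_pow_dichotomy (hq : ∀ v : V, v ^ q = 1) (a : ℕ) :
    (∀ w : V, w ^ a = w) ∨ (∀ w : V, w ^ a = w → w = 1) := by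
  by_cases h : a ≡ 1 [MOD q]
  · left; intro w
    have := sv_pow_eq_of_modEq hq h w
    simpa using this
  · right; intro w hw
    by_contra hw1
    exact h (sv_modEq_of_pow_eq hq hw1 (by simpa using hw))

theorem sv_exists_pow_of_mem_zpowers [Finite V] {u w : V} (h : w ∈ zpowers u) :
    ∃ k : ℕ, w = u ^ k := by
  rw [← (isOfFinOrder_of_finite u).mem_powers_iff_mem_zpowers] at h
  obtain ⟨k, hk⟩ := (Submonoid.mem_powers_iff _ _).1 h
  exact ⟨k, hk.symm⟩

/-- In a group of exponent `q`, a nontrivial element of `⟨u⟩` generates `⟨u⟩`. -/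
theorem sv_mem_zpowers_symm [Finite V] (hq : ∀ v : V, v ^ q = 1) {u z : V} (hz : z ∈ zpowers u)
    (hz1 : z ≠ 1) : u ∈ zpowers z := by
  obtain ⟨a, rfl⟩ := sv_exists_pow_of_mem_zpowers hz
  have hu1 : u ≠ 1 := by
    rintro rfl; exact hz1 (one_pow _)
  have hqa : ¬ q ∣ a := by
    rintro ⟨c, rfl⟩
    apply hz1
    rw [pow_mul, hq, one_pow]
  have hcop : Nat.Coprime a q := ((Nat.Prime.coprime_iff_not_dvd hqp.out).2 hqa).symm
  obtain ⟨b, -, hb⟩ := Nat.exists_mul_mod_eq_one_of_coprime hcop hqp.out.one_lt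
  have hmod : a * b ≡ 1 [MOD q] := by
    show a * b % q = 1 % q
    rw [hb, Nat.mod_eq_of_lt hqp.out.one_lt]
  have : (u ^ a) ^ b = u := by
    rw [← pow_mul]
    have := sv_pow_eq_of_modEq hq hmod u
    simpa using this
  have h2 : (u ^ a) ^ b ∈ zpowers (u ^ a) :=
    Subgroup.pow_mem (zpowers (u ^ a)) (mem_zpowers (u ^ a)) b
  rwa [this] at h2

/-- An endomorphism normalizing every cyclic subgroup of a subgroup `S` acts on `S` as a
uniform power. -/
theorem sv_uniform [Finite V] (hq : ∀ v : V, v ^ q = 1) (α : V →* V) (S : Subgroup V)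
    (h : ∀ u ∈ S, α u ∈ zpowers u) : ∃ k : ℕ, ∀ u ∈ S, α u = u ^ k := by
  by_cases hS : ∀ u ∈ S, u = 1
  · exact ⟨1, fun u hu => by rw [hS u hu]; simp⟩
  · obtain ⟨u0, hu0'⟩ := not_forall.1 hS
    obtain ⟨hu0S, hu0⟩ := Classical.not_imp.1 hu0'
    obtain ⟨k0, hk0⟩ := sv_exists_pow_of_mem_zpowers (h u0 hu0S)
    refine ⟨k0, fun u hu => ?_⟩
    by_cases hmem : u ∈ zpowers u0
    · obtain ⟨j, rfl⟩ := sv_exists_pow_of_mem_zpowers hmem
      rw [map_pow, hk0, ← pow_mul, ← pow_mul, mul_comm]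
    · obtain ⟨l, hl⟩ := sv_exists_pow_of_mem_zpowers (h u hu)
      obtain ⟨m, hm⟩ := sv_exists_pow_of_mem_zpowers (h (u * u0) (S.mul_mem hu hu0S))
      rw [map_mul, hl, hk0, mul_pow] at hm
      have hlm : u ^ l = u ^ m := by
        by_contra hz
        have hz1 : u ^ l * (u ^ m)⁻¹ ≠ 1 := by
          intro h1; exact hz (mul_inv_eq_one.1 h1)
        have hzu : u ^ l * (u ^ m)⁻¹ ∈ zpowers u :=
          Subgroup.mul_mem _ (Subgroup.pow_mem _ (mem_zpowers _) _)
            (Subgroup.inv_mem _ (Subgroup.pow_mem _ (mem_zpowers _) _))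
        have hzeq : u ^ l * (u ^ m)⁻¹ = u0 ^ m * (u0 ^ k0)⁻¹ := by
          rw [mul_inv_eq_iff_eq_mul, mul_assoc, mul_comm _ (u ^ m), ← mul_assoc, eq_mul_inv_iff_mul_eq]
          rw [hm, mul_comm]
        have hzu0 : u ^ l * (u ^ m)⁻¹ ∈ zpowers u0 := by
          rw [hzeq]
          exact Subgroup.mul_mem _ (Subgroup.pow_mem _ (mem_zpowers _) _)
            (Subgroup.inv_mem _ (Subgroup.pow_mem _ (mem_zpowers _) _))
        have h1 : u ∈ zpowers (u ^ l * (u ^ m)⁻¹) := sv_mem_zpowers_symm hq hzu hz1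
        have h2 : zpowers (u ^ l * (u ^ m)⁻¹) ≤ zpowers u0 := by
          rw [Subgroup.zpowers_le]; exact hzu0
        exact hmem (h2 h1)
      have h2 : u0 ^ k0 = u0 ^ m := by
        rw [hlm] at hm; exact mul_left_cancel hm
      have h3 : k0 ≡ m [MOD q] := sv_modEq_of_pow_eq hq hu0 h2
      rw [hl, hlm]
      exact sv_pow_eq_of_modEq hq h3.symm u

end expq

/-- Prime-power part: if `g ^ (r ^ e)` lies in the subgroup `C`, some `r`-element is congruent to
`g` modulo `C`. -/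
theorem sv_ppart {Γ : Type*} [Group Γ] [Finite Γ] (r : ℕ) [hr : Fact r.Prime] (g : Γ)
    (C : Subgroup Γ) (e : ℕ) (h : g ^ (r ^ e) ∈ C) :
    ∃ g' : Γ, (∃ b : ℕ, orderOf g' = r ^ b) ∧ g⁻¹ * g' ∈ C := by
  rcases Nat.eq_zero_or_pos e with he | he
  · subst he
    refine ⟨1, ⟨0, by simp⟩, ?_⟩
    simpa using C.inv_mem h
  · have hn : orderOf g ≠ 0 := (orderOf_pos g).ne'
    obtain ⟨a, m, hm, hnm⟩ := Nat.exists_eq_pow_mul_and_not_dvd hn r hr.out.ne_one
    have hcop : Nat.Coprime m (r ^ e) :=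
      (Nat.Coprime.pow_left e ((Nat.Prime.coprime_iff_not_dvd hr.out).2 hm)).symm
    have hk : 1 < r ^ e := Nat.one_lt_pow he.ne' hr.out.one_lt
    obtain ⟨m', -, hm'⟩ := Nat.exists_mul_mod_eq_one_of_coprime hcop hk
    obtain ⟨t, ht⟩ : ∃ t, m * m' = 1 + t * r ^ e := by
      refine ⟨m * m' / r ^ e, ?_⟩
      have := Nat.div_add_mod (m * m') (r ^ e)
      rw [hm'] at this
      rw [mul_comm] at this
      omega
    refine ⟨g ^ (m * m'), ?_, ?_⟩
    · have h1 : (g ^ (m * m')) ^ (r ^ a) = 1 := by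
        rw [← pow_mul]
        have : m * m' * r ^ a = (r ^ a * m) * m' := by ring
        rw [this, pow_mul, ← hnm, pow_orderOf_eq_one, one_pow]
      obtain ⟨b, -, hb⟩ := (Nat.dvd_prime_pow hr.out).1 (orderOf_dvd_of_pow_eq_one h1)
      exact ⟨b, hb⟩
    · rw [ht, pow_add, pow_one, inv_mul_cancel_left, mul_comm t, pow_mul]
      exact C.pow_mem h _

end Cfsg.Agent.helper3
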