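import Mathlib
import Cfsg.Agent.Lib_helper3_SV1

set_option autoImplicit false

/-!
# Automorphisms of an elementary abelian group: `v ↦ φ v * v⁻¹`, range/fixed-point decomposition
-/

namespace Cfsg.Agent.helper3

open Subgroup

section kappa

variable {V : Type*} [CommGroup V]

/-- `v ↦ φ v * v⁻¹` as an endomorphism of the commutative group `V`. -/
def svKappa (φ : MulAut V) : V →* V :=
  MonoidHom.mk' (fun v => φ v * v⁻¹) (by
    intro a b
    rw [map_mul, mul_inv]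
    exact mul_mul_mul_comm _ _ _ _)

@[simp] theorem svKappa_apply (φ : MulAut V) (v : V) : svKappa φ v = φ v * v⁻¹ := rfl

theorem svKappa_eq_one_iff (φ : MulAut V) (v : V) : svKappa φ v = 1 ↔ φ v = v := by
  rw [svKappa_apply, mul_inv_eq_one]

theorem sv_apply_eq (φ : MulAut V) (v : V) : φ v = v * svKappa φ v := by
  rw [svKappa_apply, mul_comm, inv_mul_cancel_right]

variable {q : ℕ} [hqp : Fact q.Prime]

theorem sv_range_power [Finite V] (hq : ∀ v : V, v ^ q = 1) (φ : MulAut V)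
    (hA : ∀ v : V, φ (φ v * v⁻¹) ∈ zpowers (φ v * v⁻¹)) :
    ∃ k : ℕ, ∀ w ∈ (svKappa φ).range, φ w = w ^ k := by
  have := sv_uniform hq (φ.toMonoidHom) (svKappa φ).range (by
    rintro u ⟨v, rfl⟩
    exact hA v)
  simpa using this

theorem sv_power_of_fixfree [Finite V] (hq : ∀ v : V, v ^ q = 1) (φ : MulAut V)
    (hA : ∀ v : V, φ (φ v * v⁻¹) ∈ zpowers (φ v * v⁻¹))
    (hfix : ∀ v : V, φ v = v → v = 1) : ∃ k : ℕ, ∀ v : V, φ v = v ^ k := by
  obtain ⟨k, hk⟩ := sv_range_power hq φ hA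
  have hinj : Function.Injective (svKappa φ) := by
    rw [injective_iff_map_eq_one]
    intro a ha
    exact hfix a ((svKappa_eq_one_iff φ a).1 ha)
  have hsurj := Finite.surjective_of_injective hinj
  exact ⟨k, fun v => hk v (MonoidHom.mem_range.2 (hsurj v))⟩

theorem sv_decomp [Finite V] (φ : MulAut V)
    (hfix : ∀ w ∈ (svKappa φ).range, φ w = w → w = 1) (v : V) :
    ∃ w ∈ (svKappa φ).range, ∃ f : V, φ f = f ∧ v = w * f := by
  let κW : (svKappa φ).range → (svKappa φ).range :=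
    fun w => ⟨svKappa φ w, MonoidHom.mem_range.2 ⟨w, rfl⟩⟩
  have hinj : Function.Injective κW := by
    intro a b hab
    have h1 : svKappa φ (a : V) = svKappa φ (b : V) := congrArg Subtype.val hab
    have h2 : svKappa φ ((a : V) * (b : V)⁻¹) = 1 := by
      rw [map_mul, map_inv, h1, mul_inv_cancel]
    have h3 := hfix _ ((svKappa φ).range.mul_mem a.2 ((svKappa φ).range.inv_mem b.2))
      ((svKappa_eq_one_iff φ _).1 h2)
    exact Subtype.ext (mul_inv_eq_one.1 h3)
  obtain ⟨w, hw⟩ := Finite.surjective_of_injective hinj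
    ⟨svKappa φ v, MonoidHom.mem_range.2 ⟨v, rfl⟩⟩
  have hw' : svKappa φ (w : V) = svKappa φ v := congrArg Subtype.val hw
  refine ⟨w, w.2, (w : V)⁻¹ * v, ?_, by rw [mul_inv_cancel_left]⟩
  rw [← svKappa_eq_one_iff, map_mul, map_inv, hw', inv_mul_cancel]

theorem sv_decomp_unique (φ : MulAut V)
    (hfix : ∀ w ∈ (svKappa φ).range, φ w = w → w = 1) {w1 w2 f1 f2 : V}
    (hw1 : w1 ∈ (svKappa φ).range) (hw2 : w2 ∈ (svKappa φ).range) (hf1 : φ f1 = f1)
    (hf2 : φ f2 = f2) (h : w1 * f1 = w2 * f2) : w1 = w2 ∧ f1 = f2 := by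
  have h1 : w2⁻¹ * w1 = f2 * f1⁻¹ := by
    rw [inv_mul_eq_iff_eq_mul, ← mul_assoc, eq_mul_inv_iff_mul_eq]
    exact h
  have h2 : φ (w2⁻¹ * w1) = w2⁻¹ * w1 := by
    rw [h1, map_mul, map_inv, hf1, hf2]
  have h3 := hfix _ ((svKappa φ).range.mul_mem ((svKappa φ).range.inv_mem hw2) hw1) h2
  have hw : w2 = w1 := inv_mul_eq_one.1 h3
  subst hw
  exact ⟨rfl, mul_left_cancel h⟩

end kappa

end Cfsg.Agent.helper3
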