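import Mathlib
import Cfsg.Agent.Lib_helper3_SV2

set_option autoImplicit false

/-!
# The core contradiction for S3033: a non-scalar `r`-element generating a normal subgroup modulo
scalars.
-/

namespace Cfsg.Agent.helper3

open Subgroup

section core

variable {Γ : Type*} [Group Γ] [Finite Γ] {V : Type*} [CommGroup V] [Finite V]
  {q : ℕ} [hqp : Fact q.Prime]

theorem sv_core (hq : ∀ v : V, v ^ q = 1) (ρ : Γ →* MulAut V)
    (hirr : ∀ W : Subgroup V, (∀ γ : Γ, ∀ w ∈ W, ρ γ w ∈ W) → W = ⊥ ∨ W = ⊤)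
    (hA : ∀ p : ℕ, p.Prime → p ≠ q → ∀ γ : Γ, (∃ a : ℕ, orderOf γ = p ^ a) →
      ∀ v : V, ρ γ (ρ γ v * v⁻¹) ∈ zpowers (ρ γ v * v⁻¹))
    (r : ℕ) [hr : Fact r.Prime] (hrq : r ≠ q) (d : Γ) (b : ℕ) (hd : orderOf d = r ^ b)
    (hdU : ¬ ∃ k : ℕ, ∀ v : V, ρ d v = v ^ k)
    (hconj : ∀ γ : Γ, ∃ j k : ℕ, ∀ v : V, ρ (γ * d * γ⁻¹) v = (ρ (d ^ j) v) ^ k) : False := by
  classical
  set φ : MulAut V := ρ d with hφ
  set W : Subgroup V := (svKappa φ).range with hW
  obtain ⟨lam, hlam⟩ := sv_range_power hq φ (hA r hr.out hrq d ⟨b, hd⟩)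
  -- general facts about `ρ`
  have hρinv : ∀ (γ : Γ) (v : V), ρ γ (ρ γ⁻¹ v) = v := by
    intro γ v
    rw [← MulAut.mul_apply, ← map_mul, mul_inv_cancel, map_one, MulAut.one_apply]
  have hρinv' : ∀ (γ : Γ) (v : V), ρ γ⁻¹ (ρ γ v) = v := by
    intro γ v
    rw [← MulAut.mul_apply, ← map_mul, inv_mul_cancel, map_one, MulAut.one_apply]
  have hρinj : ∀ (γ : Γ) (v : V), ρ γ v = 1 → v = 1 := by
    intro γ v hv
    have := hρinv' γ v
    rw [hv, map_one] at this
    exact this.symm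
  have hdpowW : ∀ j : ℕ, ∀ w ∈ W, ρ (d ^ j) w = w ^ (lam ^ j) := by
    intro j
    induction j with
    | zero => intro w _; simp
    | succ j ih =>
      intro w hw
      rw [pow_succ, map_mul, MulAut.mul_apply]
      have : ρ d w = w ^ lam := hlam w hw
      rw [this, map_pow, ih w hw, ← pow_mul, pow_succ]
  have hdpowF : ∀ j : ℕ, ∀ f : V, φ f = f → ρ (d ^ j) f = f := by
    intro j f hf
    induction j with
    | zero => simp
    | succ j ih =>
      rw [pow_succ, map_mul, MulAut.mul_apply]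
      have : ρ d f = f := hf
      rw [this, ih]
  have hFtop : ¬ ∀ v : V, φ v = v := by
    intro h
    exact hdU ⟨1, fun v => by rw [pow_one]; exact h v⟩
  have hcop : Nat.Coprime (r ^ b) q :=
    Nat.Coprime.pow_left b ((Nat.coprime_primes hr.out hqp.out).2 hrq)
  have hnotfixW : ¬ ∀ w ∈ W, φ w = w := by
    intro h
    apply hFtop
    intro v
    have key : ∀ j : ℕ, ρ (d ^ j) v = v * (svKappa φ v) ^ j := by
      intro j
      induction j with
      | zero => simp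
      | succ j ih =>
        rw [pow_succ, map_mul, MulAut.mul_apply]
        have h1 : ρ d v = v * svKappa φ v := sv_apply_eq φ v
        rw [h1, map_mul, ih]
        have h2 : ρ (d ^ j) (svKappa φ v) = svKappa φ v :=
          hdpowF j _ (h _ (MonoidHom.mem_range.2 ⟨v, rfl⟩))
        rw [h2, pow_succ, mul_assoc]
    have h3 := key (r ^ b)
    rw [← hd, pow_orderOf_eq_one, map_one, MulAut.one_apply] at h3
    have h4 : (svKappa φ v) ^ (orderOf d) = 1 := by
      have := h3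
      rw [eq_comm, mul_eq_left] at this  -- v * x = v → x = 1
      exact this
    have h5 : orderOf (svKappa φ v) ∣ r ^ b := by
      rw [← hd]; exact orderOf_dvd_of_pow_eq_one h4
    have h6 : orderOf (svKappa φ v) ∣ q := orderOf_dvd_of_pow_eq_one (hq _)
    have h7 : orderOf (svKappa φ v) = 1 := Nat.eq_one_of_dvd_coprimes hcop h5 h6
    exact (svKappa_eq_one_iff φ v).1 (orderOf_eq_one_iff.1 h7)
  have hlam1 : ∀ v : V, v ^ lam = v → v = 1 := by
    rcases sv_pow_dichotomy hq lam with h | h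
    · exact absurd (fun w hw => by rw [hlam w hw, h w]) hnotfixW
    · exact h
  have hfixW : ∀ w ∈ W, φ w = w → w = 1 := by
    intro w hw hfw
    apply hlam1
    rw [← hlam w hw]; exact hfw
  obtain ⟨f0, hf0, hf01⟩ : ∃ f0 : V, φ f0 = f0 ∧ f0 ≠ 1 := by
    by_contra h
    have h' : ∀ v : V, φ v = v → v = 1 := by
      intro v hv
      by_contra hv1
      exact h ⟨v, hv, hv1⟩
    exact hdU (sv_power_of_fixfree hq φ (hA r hr.out hrq d ⟨b, hd⟩) h')
  obtain ⟨w0, hw0, hw01⟩ : ∃ w0 ∈ W, w0 ≠ 1 := by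
    by_contra h
    apply hFtop
    intro v
    have h1 : svKappa φ v = 1 := by
      by_contra h2
      exact h ⟨svKappa φ v, MonoidHom.mem_range.2 ⟨v, rfl⟩, h2⟩
    exact (svKappa_eq_one_iff φ v).1 h1
  have hq2 : q ≠ 2 := by
    intro hq2
    have h2 : ∀ v : V, v ^ 2 = 1 := by
      intro v; have := hq v; rwa [hq2] at this
    rcases Nat.even_or_odd' lam with ⟨c, hc | hc⟩
    · have : φ w0 = 1 := by
        rw [hlam w0 hw0, hc, pow_mul, h2, one_pow]
      exact hw01 (hρinj d w0 this)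
    · apply hw01
      apply hlam1
      rw [hc, pow_succ, pow_mul, h2, one_pow, one_mul]
  have hdec := sv_decomp φ hfixW
  have huniq := fun {w1 w2 f1 f2 : V} => sv_decomp_unique φ hfixW (w1 := w1) (w2 := w2) (f1 := f1) (f2 := f2)
  have hFpow : ∀ (f : V) (n : ℕ), φ f = f → φ (f ^ n) = f ^ n := by
    intro f n hf; rw [map_pow, hf]
  -- the dichotomy: each `γ` stabilizes `F` or swaps
  have hdich : ∀ γ : Γ, (∀ v : V, φ (ρ γ v) = ρ γ v ↔ φ v = v) ∨
      (∀ v : V, φ (ρ γ v) = ρ γ v ↔ v ∈ W) := by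
    intro γ
    obtain ⟨j, k, hjk⟩ := hconj γ⁻¹
    rw [inv_inv] at hjk
    have hFγ : ∀ v : V, φ (ρ γ v) = ρ γ v ↔ ρ (γ⁻¹ * d * γ) v = v := by
      intro v
      rw [map_mul, map_mul, MulAut.mul_apply, MulAut.mul_apply]
      constructor
      · intro h
        have : ρ d (ρ γ v) = ρ γ v := h
        rw [this, hρinv']
      · intro h
        have h1 : ρ γ (ρ γ⁻¹ (ρ d (ρ γ v))) = ρ γ v := by rw [h]
        rw [hρinv] at h1
        exact h1
    have hact : ∀ w ∈ W, ∀ f : V, φ f = f →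
        ρ (γ⁻¹ * d * γ) (w * f) = w ^ (lam ^ j * k) * f ^ k := by
      intro w hw f hf
      rw [hjk, map_mul, hdpowW j w hw, hdpowF j f hf, mul_pow, ← pow_mul]
    rcases sv_pow_dichotomy hq (lam ^ j * k) with ha | ha <;>
      rcases sv_pow_dichotomy hq k with hk | hk
    · -- everything fixed: impossible
      exfalso
      apply hFtop
      intro v
      have h1 : ∀ v' : V, φ (ρ γ v') = ρ γ v' := by
        intro v'
        obtain ⟨w, hw, f, hf, rfl⟩ := hdec v'
        rw [hFγ, hact w hw f hf, ha, hk]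
      have := h1 (ρ γ⁻¹ v)
      rwa [hρinv] at this
    · -- fixed iff `f = 1` iff in `W`
      right
      intro v
      obtain ⟨w, hw, f, hf, rfl⟩ := hdec v
      rw [hFγ, hact w hw f hf, ha]
      constructor
      · intro h
        have h1 : f ^ k = f := mul_left_cancel h
        rw [hk f h1, mul_one]; exact hw
      · intro h
        have h1 : f ∈ W := by
          have := W.mul_mem (W.inv_mem hw) h
          rwa [inv_mul_cancel_left] at this
        rw [hfixW f h1 hf, one_pow]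
    · -- fixed iff `w = 1` iff in `F`
      left
      intro v
      obtain ⟨w, hw, f, hf, rfl⟩ := hdec v
      rw [hFγ, hact w hw f hf, hk]
      constructor
      · intro h
        have h1 : w ^ (lam ^ j * k) = w := mul_right_cancel h
        rw [ha w h1, one_mul]; exact hf
      · intro h
        have h1 : φ w = w := by
          have h2 : φ (w * f) * (φ f)⁻¹ = w * f * f⁻¹ := by rw [h, hf]
          rw [map_mul, mul_inv_cancel_right, mul_inv_cancel_right] at h2
          exact h2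
        rw [hfixW w hw h1, one_pow]
    · -- nothing fixed: impossible
      exfalso
      have h1 : φ (ρ γ (ρ γ⁻¹ f0)) = ρ γ (ρ γ⁻¹ f0) := by rw [hρinv]; exact hf0
      obtain ⟨w, hw, f, hf, hwf⟩ := hdec (ρ γ⁻¹ f0)
      rw [hwf, hFγ, hact w hw f hf] at h1
      obtain ⟨e1, e2⟩ := huniq (W.pow_mem hw _) hw (hFpow f k hf) hf h1
      have hw1 : w = 1 := ha w e1
      have hf1 : f = 1 := hk f e2
      rw [hw1, hf1, mul_one] at hwf
      have := hρinv γ f0
      rw [hwf, map_one] at this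
      exact hf01 this.symm
  -- `F` is not invariant
  have hnotinv : ∃ γ0 : Γ, ∀ v : V, φ (ρ γ0 v) = ρ γ0 v ↔ v ∈ W := by
    by_contra h
    have hall : ∀ γ : Γ, ∀ v : V, φ (ρ γ v) = ρ γ v ↔ φ v = v := by
      intro γ
      rcases hdich γ with h1 | h1
      · exact h1
      · exact absurd ⟨γ, h1⟩ h
    rcases hirr (svKappa φ).ker (by
      intro γ w hw
      rw [MonoidHom.mem_ker, svKappa_eq_one_iff] at hw ⊢
      exact (hall γ w).2 hw) with h1 | h1
    · have : f0 ∈ (svKappa φ).ker := by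
        rw [MonoidHom.mem_ker, svKappa_eq_one_iff]; exact hf0
      rw [h1, Subgroup.mem_bot] at this
      exact hf01 this
    · apply hFtop
      intro v
      have : v ∈ (svKappa φ).ker := by rw [h1]; exact Subgroup.mem_top v
      rwa [MonoidHom.mem_ker, svKappa_eq_one_iff] at this
  obtain ⟨γ0, hγ0⟩ := hnotinv
  -- consequences of swapping
  have hswap_inv : ∀ γ : Γ, (∀ v : V, φ (ρ γ v) = ρ γ v ↔ v ∈ W) →
      (∀ v : V, φ (ρ γ⁻¹ v) = ρ γ⁻¹ v ↔ v ∈ W) := by
    intro γ hγ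
    rcases hdich γ⁻¹ with h1 | h1
    · exfalso
      have h2 : φ (ρ γ w0) = ρ γ w0 := (hγ w0).2 hw0
      have h3 : φ (ρ γ⁻¹ (ρ γ w0)) = ρ γ⁻¹ (ρ γ w0) := (h1 _).2 h2
      rw [hρinv'] at h3
      exact hw01 (hfixW w0 hw0 h3)
    · exact h1
  have hswapFW : ∀ γ : Γ, (∀ v : V, φ (ρ γ v) = ρ γ v ↔ v ∈ W) →
      ∀ v : V, ρ γ v ∈ W ↔ φ v = v := by
    intro γ hγ v
    have hinv := hswap_inv γ hγ
    constructor
    · intro h
      have := (hinv (ρ γ v)).2 h
      rwa [hρinv'] at this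
    · intro h
      have h1 : φ (ρ γ⁻¹ (ρ γ v)) = ρ γ⁻¹ (ρ γ v) := by rw [hρinv']; exact h
      exact (hinv (ρ γ v)).1 h1
  -- the stabilizer of `F`
  let Γ1 : Subgroup Γ :=
    { carrier := {γ | ∀ v : V, φ (ρ γ v) = ρ γ v ↔ φ v = v}
      one_mem' := by intro v; simp
      mul_mem' := by
        intro a c ha hc v
        rw [map_mul, MulAut.mul_apply]
        exact (ha _).trans (hc v)
      inv_mem' := by
        intro a ha v
        have := ha (ρ a⁻¹ v)
        rw [hρinv] at this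
        exact this.symm }
  have hγ0sq : γ0 ^ (2 ^ 1) ∈ Γ1 := by
    show ∀ v : V, φ (ρ (γ0 ^ (2 ^ 1)) v) = ρ (γ0 ^ (2 ^ 1)) v ↔ φ v = v
    intro v
    rw [pow_one, pow_two, map_mul, MulAut.mul_apply]
    exact (hγ0 _).trans (hswapFW γ0 hγ0 v)
  obtain ⟨t, ⟨b2, ht2⟩, hts⟩ := sv_ppart 2 γ0 Γ1 1 hγ0sq
  have hst : ∀ v : V, φ (ρ (γ0⁻¹ * t) v) = ρ (γ0⁻¹ * t) v ↔ φ v = v := hts
  have ht : ∀ v : V, φ (ρ t v) = ρ t v ↔ v ∈ W := by
    rcases hdich t with h1 | h1
    · exfalso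
      -- `γ0 = t * (γ0⁻¹ * t)⁻¹` would stabilize `F`
      have h2 : ∀ v : V, φ (ρ γ0 v) = ρ γ0 v ↔ φ v = v := by
        intro v
        have e : γ0 = t * (γ0⁻¹ * t)⁻¹ := by group
        have h3 : ∀ v : V, φ (ρ (γ0⁻¹ * t)⁻¹ v) = ρ (γ0⁻¹ * t)⁻¹ v ↔ φ v = v :=
          Γ1.inv_mem hts
        rw [e, map_mul, MulAut.mul_apply]
        exact (h1 _).trans (h3 v)
      have h4 := (h2 f0).2 hf0
      have h5 := (hγ0 f0).1 h4
      exact hf01 (hfixW f0 h5 hf0)
    · exact h1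
  have htFW := hswapFW t ht
  -- `t` acts as an involution
  have hA2 := hA 2 Nat.prime_two (Ne.symm hq2) t ⟨b2, ht2⟩
  have httF : ∀ f : V, φ f = f → ρ t (ρ t f) = f := by
    intro f hf
    by_cases hf1 : f = 1
    · rw [hf1, map_one, map_one]
    have hg1 : ρ t f ∈ W := (htFW f).2 hf
    have hg2 : φ (ρ t (ρ t f)) = ρ t (ρ t f) := (ht _).2 hg1
    obtain ⟨m, hm⟩ := sv_exists_pow_of_mem_zpowers (hA2 f)
    rw [map_mul, map_inv, mul_pow, inv_pow] at hm
    have hm' : (ρ t f)⁻¹ * ρ t (ρ t f) = (ρ t f) ^ m * (f ^ m)⁻¹ := by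
      rw [mul_comm]; exact hm
    obtain ⟨e1, e2⟩ := huniq (W.inv_mem hg1) (W.pow_mem hg1 _) hg2
      (by rw [map_inv, hFpow f m hf]) hm'
    have hg11 : ρ t f ≠ 1 := fun h => hf1 (hρinj t f h)
    have h1 : (ρ t f) ^ (m + 1) = (ρ t f) ^ 0 := by
      rw [pow_succ, ← e1, inv_mul_cancel, pow_zero]
    have h2 : m + 1 ≡ 0 [MOD q] := sv_modEq_of_pow_eq hq hg11 h1
    have h3 : f ^ (m + 1) = 1 := by
      have := sv_pow_eq_of_modEq hq h2 f
      rwa [pow_zero] at this
    have h4 : (f ^ m)⁻¹ = f := by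
      rw [inv_eq_iff_eq_inv, eq_inv_iff_mul_eq_one, ← pow_succ]; exact h3
    rw [e2, h4]
  have httW : ∀ w ∈ W, ρ t (ρ t w) = w := by
    intro w hw
    have hinv := hswap_inv t ht
    have h1 : φ (ρ t⁻¹ w) = ρ t⁻¹ w := (hinv w).2 hw
    have h2 := httF _ h1
    have h3 : ρ t (ρ t (ρ t (ρ t⁻¹ w))) = ρ t (ρ t⁻¹ w) := by rw [h2]
    rw [hρinv] at h3
    exact h3
  have htt : ∀ v : V, ρ t (ρ t v) = v := by
    intro v
    obtain ⟨w, hw, f, hf, rfl⟩ := hdec v
    rw [map_mul, map_mul, httW w hw, httF f hf]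
  have htinv : ∀ v : V, ρ t⁻¹ v = ρ t v := by
    intro v
    have := hρinv' t (ρ t v)
    rw [htt] at this
    exact this
  have htWF : ∀ w ∈ W, φ (ρ t w) = ρ t w := fun w hw => (ht w).2 hw
  -- the conjugate `c = t d t⁻¹`
  set c : Γ := t * d * t⁻¹ with hc
  have hcF : ∀ f : V, φ f = f → ρ c f = f ^ lam := by
    intro f hf
    rw [hc, map_mul, map_mul, MulAut.mul_apply, MulAut.mul_apply, htinv]
    have h1 : ρ d (ρ t f) = (ρ t f) ^ lam := hlam _ ((htFW f).2 hf)
    rw [h1, map_pow, httF f hf]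
  have hcW : ∀ w ∈ W, ρ c w = w := by
    intro w hw
    rw [hc, map_mul, map_mul, MulAut.mul_apply, MulAut.mul_apply, htinv]
    have h1 : ρ d (ρ t w) = ρ t w := htWF w hw
    rw [h1, httW w hw]
  set y : Γ := d * c ^ 2 with hy
  have hyF : ∀ f : V, φ f = f → ρ y f = f ^ (lam * lam) := by
    intro f hf
    rw [hy, map_mul, MulAut.mul_apply, pow_two, map_mul, MulAut.mul_apply, hcF f hf,
      hcF _ (hFpow f lam hf), ← pow_mul]
    exact hFpow f _ hf
  have hyW : ∀ w ∈ W, ρ y w = w ^ lam := by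
    intro w hw
    rw [hy, map_mul, MulAut.mul_apply, pow_two, map_mul, MulAut.mul_apply, hcW w hw, hcW w hw]
    exact hlam w hw
  have hypow : ∀ n : ℕ, ∀ w ∈ W, ∀ f : V, φ f = f →
      ρ (y ^ n) (w * f) = w ^ (lam ^ n) * f ^ ((lam * lam) ^ n) := by
    intro n
    induction n with
    | zero => intro w _ f _; simp
    | succ n ih =>
      intro w hw f hf
      rw [pow_succ, map_mul ρ, MulAut.mul_apply, map_mul (ρ y), hyW w hw, hyF f hf,
        ih _ (W.pow_mem hw _) _ (hFpow f _ hf), ← pow_mul, ← pow_mul, pow_succ, pow_succ,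
        mul_comm lam (lam ^ n), mul_comm (lam * lam) ((lam * lam) ^ n)]
  have hlamord : lam ^ (r ^ b) ≡ 1 [MOD q] := by
    have h1 := hdpowW (r ^ b) w0 hw0
    rw [← hd, pow_orderOf_eq_one, map_one, MulAut.one_apply] at h1
    have h2 : w0 ^ (lam ^ orderOf d) = w0 ^ 1 := by rw [← h1, pow_one]
    rw [hd] at h2
    exact sv_modEq_of_pow_eq hq hw01 h2
  have hyker : y ^ (r ^ b) ∈ ρ.ker := by
    rw [MonoidHom.mem_ker]
    ext v
    obtain ⟨w, hw, f, hf, rfl⟩ := hdec v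
    rw [hypow _ w hw f hf, MulAut.one_apply]
    have h1 : w ^ (lam ^ (r ^ b)) = w := by
      have := sv_pow_eq_of_modEq hq hlamord w
      rwa [pow_one] at this
    have h2 : f ^ ((lam * lam) ^ (r ^ b)) = f := by
      have h3 : (lam * lam) ^ (r ^ b) ≡ 1 [MOD q] := by
        rw [mul_pow]
        have := hlamord.mul hlamord
        simpa using this
      have := sv_pow_eq_of_modEq hq h3 f
      rwa [pow_one] at this
    rw [h1, h2]
  obtain ⟨y', ⟨b3, hy'ord⟩, hy'⟩ := sv_ppart r y ρ.ker b hyker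
  have hy'act : ∀ v : V, ρ y' v = ρ y v := by
    intro v
    have e : y' = y * (y⁻¹ * y') := by group
    rw [e, map_mul, MulAut.mul_apply]
    have : ρ (y⁻¹ * y') = 1 := MonoidHom.mem_ker.1 hy'
    rw [this, MulAut.one_apply]
  have hlam2 : ∀ v : V, v ^ (lam * lam) = v := by
    rcases sv_pow_dichotomy hq (lam * lam) with h | h
    · exact h
    · exfalso
      have hfixfree : ∀ v : V, ρ y' v = v → v = 1 := by
        intro v hv
        rw [hy'act] at hv
        obtain ⟨w, hw, f, hf, rfl⟩ := hdec v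
        rw [map_mul, hyW w hw, hyF f hf] at hv
        obtain ⟨e1, e2⟩ := huniq (W.pow_mem hw _) hw (hFpow f _ hf) hf hv
        rw [hlam1 w e1, h f e2, mul_one]
      obtain ⟨k, hk⟩ := sv_power_of_fixfree hq (ρ y') (hA r hr.out hrq y' ⟨b3, hy'ord⟩) hfixfree
      have h1 : f0 ^ (lam * lam) = f0 ^ k := by rw [← hyF f0 hf0, ← hy'act, hk]
      have h2 : w0 ^ lam = w0 ^ k := by rw [← hyW w0 hw0, ← hy'act, hk]
      have h3 : lam * lam ≡ lam [MOD q] :=
        (sv_modEq_of_pow_eq hq hf01 h1).trans (sv_modEq_of_pow_eq hq hw01 h2).symm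
      have h4 : (w0 ^ lam) ^ lam = w0 ^ lam := by
        rw [← pow_mul]; exact sv_pow_eq_of_modEq hq h3 w0
      have h5 : w0 ^ lam = 1 := hlam1 _ h4
      have h6 : φ w0 = 1 := by rw [hlam w0 hw0, h5]
      exact hw01 (hρinj d w0 h6)
  -- the element `x = t d`
  set x : Γ := t * d with hx
  have hxF : ∀ f : V, φ f = f → ρ x f = ρ t f := by
    intro f hf
    rw [hx, map_mul, MulAut.mul_apply]
    have : ρ d f = f := hf
    rw [this]
  have hxW : ∀ w ∈ W, ρ x w = (ρ t w) ^ lam := by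
    intro w hw
    rw [hx, map_mul, MulAut.mul_apply]
    have : ρ d w = w ^ lam := hlam w hw
    rw [this, map_pow]
  have hxx : ∀ v : V, ρ x (ρ x v) = v ^ lam := by
    intro v
    obtain ⟨w, hw, f, hf, rfl⟩ := hdec v
    rw [map_mul (ρ x), map_mul (ρ x), hxF f hf, hxW w hw, hxW _ ((htFW f).2 hf), httF f hf,
      hxF _ (hFpow _ lam (htWF w hw)), map_pow, httW w hw, mul_pow]
  have hxker : x ^ (2 ^ 2) ∈ ρ.ker := by
    rw [MonoidHom.mem_ker]
    ext v
    have e : x ^ (2 ^ 2) = x * x * (x * x) := by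
      norm_num [pow_succ, mul_assoc]
    rw [e, map_mul, MulAut.mul_apply, map_mul, MulAut.mul_apply, MulAut.mul_apply, hxx, hxx,
      ← pow_mul, hlam2, MulAut.one_apply]
  obtain ⟨x', ⟨b4, hx'ord⟩, hx'⟩ := sv_ppart 2 x ρ.ker 2 hxker
  have hx'act : ∀ v : V, ρ x' v = ρ x v := by
    intro v
    have e : x' = x * (x⁻¹ * x') := by group
    rw [e, map_mul, MulAut.mul_apply]
    have : ρ (x⁻¹ * x') = 1 := MonoidHom.mem_ker.1 hx'
    rw [this, MulAut.one_apply]
  have hxfixfree : ∀ v : V, ρ x' v = v → v = 1 := by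
    intro v hv
    rw [hx'act] at hv
    apply hlam1
    rw [← hxx, hv, hv]
  obtain ⟨k, hk⟩ := sv_power_of_fixfree hq (ρ x') (hA 2 Nat.prime_two (Ne.symm hq2) x' ⟨b4, hx'ord⟩)
    hxfixfree
  have h1 : ρ t f0 = f0 ^ k := by rw [← hxF f0 hf0, ← hx'act, hk]
  have h2 : ρ t f0 ∈ W := (htFW f0).2 hf0
  have h3 : φ (ρ t f0) = ρ t f0 := by rw [h1]; exact hFpow f0 k hf0
  exact hf01 (hρinj t f0 (hfixW _ h2 h3))

end core

end Cfsg.Agent.helper3
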