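import Mathlib
import Cfsg.Agent.Lib_helper3_SV3
import Cfsg.Agent.Lib_helper3_SS2

set_option autoImplicit false

/-!
# A supersolvable group acting irreducibly on an elementary abelian group with the "rank one
commutator" property acts by scalars (S3033).
-/

namespace Cfsg.Agent.helper3

open Subgroup

section main

variable {Γ : Type*} [Group Γ] [Finite Γ] {V : Type*} [CommGroup V] [Finite V]
  {q : ℕ} [hqp : Fact q.Prime]

theorem sv_scalar_pow (ρ : Γ →* MulAut V) {a : Γ} {k : ℕ} (h : ∀ v : V, ρ a v = v ^ k) (n : ℕ) :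
    ∀ v : V, ρ (a ^ n) v = v ^ (k ^ n) := by
  induction n with
  | zero => intro v; simp
  | succ n ih =>
    intro v
    rw [pow_succ, map_mul, MulAut.mul_apply, h, map_pow, ih, ← pow_mul, pow_succ]

theorem sv_rho_inv (ρ : Γ →* MulAut V) (γ : Γ) (v : V) : ρ γ (ρ γ⁻¹ v) = v := by
  rw [← MulAut.mul_apply, ← map_mul, mul_inv_cancel, map_one, MulAut.one_apply]

theorem sv_rho_inv' (ρ : Γ →* MulAut V) (γ : Γ) (v : V) : ρ γ⁻¹ (ρ γ v) = v := by
  rw [← MulAut.mul_apply, ← map_mul, inv_mul_cancel, map_one, MulAut.one_apply]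

/-- The subgroup of elements acting as uniform powers. -/
def svScalars (ρ : Γ →* MulAut V) : Subgroup Γ where
  carrier := {γ | ∃ k : ℕ, ∀ v : V, ρ γ v = v ^ k}
  one_mem' := ⟨1, fun v => by simp⟩
  mul_mem' := by
    rintro a b ⟨ka, ha⟩ ⟨kb, hb⟩
    refine ⟨ka * kb, fun v => ?_⟩
    rw [map_mul, MulAut.mul_apply, hb, map_pow, ha, ← pow_mul]
  inv_mem' := by
    rintro a ⟨k, ha⟩
    have h1 : a⁻¹ = a ^ (orderOf a - 1) := by
      symm
      apply eq_inv_of_mul_eq_one_left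
      rw [← pow_succ, Nat.sub_add_cancel (orderOf_pos a), pow_orderOf_eq_one]
    refine ⟨k ^ (orderOf a - 1), fun v => ?_⟩
    rw [h1]
    exact sv_scalar_pow ρ ha _ v

theorem mem_svScalars (ρ : Γ →* MulAut V) (γ : Γ) :
    γ ∈ svScalars ρ ↔ ∃ k : ℕ, ∀ v : V, ρ γ v = v ^ k := Iff.rfl

instance svScalars_normal (ρ : Γ →* MulAut V) : (svScalars ρ).Normal := by
  constructor
  rintro a ⟨k, ha⟩ g
  refine ⟨k, fun v => ?_⟩
  rw [map_mul, map_mul, MulAut.mul_apply, MulAut.mul_apply, ha, map_pow, sv_rho_inv]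

/-- A `q`-element generating a normal subgroup modulo scalars acts trivially. -/
theorem sv_q_case (hq : ∀ v : V, v ^ q = 1) (ρ : Γ →* MulAut V)
    (hirr : ∀ W : Subgroup V, (∀ γ : Γ, ∀ w ∈ W, ρ γ w ∈ W) → W = ⊥ ∨ W = ⊤)
    (d : Γ) (b : ℕ) (hd : orderOf d = q ^ b)
    (hconj : ∀ γ : Γ, ∃ j k : ℕ, ∀ v : V, ρ (γ * d * γ⁻¹) v = (ρ (d ^ j) v) ^ k) :
    ∀ v : V, ρ d v = v := by
  classical
  set F : Subgroup V := (svKappa (ρ d)).ker with hF
  have hFmem : ∀ v : V, v ∈ F ↔ ρ d v = v := by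
    intro v
    rw [hF, MonoidHom.mem_ker, svKappa_eq_one_iff]
  have hdpowF : ∀ j : ℕ, ∀ f : V, ρ d f = f → ρ (d ^ j) f = f := by
    intro j f hf
    induction j with
    | zero => simp
    | succ j ih =>
      rw [pow_succ, map_mul, MulAut.mul_apply, hf, ih]
  have hinv : ∀ γ : Γ, ∀ w ∈ F, ρ γ w ∈ F := by
    intro γ f hf
    rw [hFmem] at hf ⊢
    obtain ⟨j, k, hjk⟩ := hconj γ⁻¹
    set c : Γ := γ⁻¹ * d * γ⁻¹⁻¹ with hc
    have hcf : ρ c f = f ^ k := by
      rw [hjk f, hdpowF j f hf]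
    have hcpow : ∀ n : ℕ, ρ (c ^ n) f = f ^ (k ^ n) := by
      intro n
      induction n with
      | zero => simp
      | succ n ih =>
        rw [pow_succ, map_mul, MulAut.mul_apply, hcf, map_pow, ih, ← pow_mul, pow_succ]
    have hcone : c ^ (q ^ b) = 1 := by
      rw [hc, conj_pow, ← hd, pow_orderOf_eq_one]
      group
    have hcf' : ρ c f = f := by
      by_cases hf1 : f = 1
      · rw [hf1, map_one]
      · have h1 := hcpow (q ^ b)
        rw [hcone, map_one, MulAut.one_apply] at h1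
        have h2 : k ^ (q ^ b) ≡ 1 [MOD q] := by
          apply sv_modEq_of_pow_eq hq hf1
          rw [← h1, pow_one]
        have h3 : k ≡ 1 [MOD q] := by
          rw [← ZMod.natCast_eq_natCast_iff] at h2 ⊢
          push_cast at h2 ⊢
          rwa [ZMod.pow_card_pow] at h2
        rw [hcf]
        have := sv_pow_eq_of_modEq hq h3 f
        simpa using this
    -- ρ (γ⁻¹ d γ) f = f  ⇒  ρ d (ρ γ f) = ρ γ f
    have h4 : ρ c f = ρ γ⁻¹ (ρ d (ρ γ f)) := by
      rw [hc, inv_inv, map_mul, map_mul, MulAut.mul_apply, MulAut.mul_apply]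
    rw [hcf'] at h4
    have h5 := congrArg (ρ γ) h4
    rw [sv_rho_inv] at h5
    exact h5.symm
  rcases hirr F hinv with hbot | htop
  · -- `F = ⊥`: contradiction with fixed point counting unless `V` is trivial
    by_cases hV : ∀ v : V, v = 1
    · intro v; rw [hV v, map_one]
    · exfalso
      have hVnt : Nontrivial V := by
        obtain ⟨v, hv⟩ := not_forall.1 hV
        exact ⟨⟨v, 1, hv⟩⟩
      have hVp : IsPGroup q V := by
        intro v
        exact ⟨1, by rw [pow_one]; exact hq v⟩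
      have hqV : q ∣ Nat.card V := by
        rcases hVp.card_eq_or_dvd with h | h
        · exfalso
          have := Finite.one_lt_card_iff_nontrivial.2 hVnt
          omega
        · exact h
      letI : MulAction (zpowers d) V := MulAction.compHom V (ρ.comp (zpowers d).subtype)
      have hsmul : ∀ (g : zpowers d) (v : V), g • v = ρ (g : Γ) v := fun g v => rfl
      have hDp : IsPGroup q (zpowers d) := by
        apply IsPGroup.of_card (n := b)
        rw [Nat.card_zpowers, hd]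
      have h1fix : (1 : V) ∈ MulAction.fixedPoints (zpowers d) V := by
        intro g
        rw [hsmul, map_one]
      obtain ⟨w, hw, hw1⟩ := hDp.exists_fixed_point_of_prime_dvd_card_of_fixed_point V hqV h1fix
      have hwF : w ∈ F := by
        rw [hFmem]
        have := hw ⟨d, mem_zpowers d⟩
        rwa [hsmul] at this
      rw [hbot, Subgroup.mem_bot] at hwF
      exact hw1 hwF.symm
  · intro v
    rw [← hFmem, htop]
    exact Subgroup.mem_top v

/-- **Main module-theoretic theorem**: a finite supersolvable group acting irreducibly on an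
elementary abelian `q`-group, such that for every `q'`-element of prime power order `γ` and every
`v` the commutator `[γ, v]` spans a `γ`-invariant line, acts by scalars. -/
theorem sv_main (hΓ : Cfsg.IsSupersolvable Γ) (hq : ∀ v : V, v ^ q = 1) (ρ : Γ →* MulAut V)
    (hirr : ∀ W : Subgroup V, (∀ γ : Γ, ∀ w ∈ W, ρ γ w ∈ W) → W = ⊥ ∨ W = ⊤)
    (hA : ∀ p : ℕ, p.Prime → p ≠ q → ∀ γ : Γ, (∃ a : ℕ, orderOf γ = p ^ a) →
      ∀ v : V, ρ γ (ρ γ v * v⁻¹) ∈ zpowers (ρ γ v * v⁻¹)) :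
    ∀ γ : Γ, ∃ k : ℕ, ∀ v : V, ρ γ v = v ^ k := by
  classical
  by_contra hcon
  obtain ⟨γ0, hγ0⟩ := not_forall.1 hcon
  set U : Subgroup Γ := svScalars ρ with hU
  have hΓU : Cfsg.IsSupersolvable (Γ ⧸ U) := isSupersolvable_quotient hΓ U
  have hnt : Nontrivial (Γ ⧸ U) := by
    refine ⟨⟨(γ0 : Γ ⧸ U), 1, ?_⟩⟩
    intro h
    rw [QuotientGroup.eq_one_iff] at h
    exact hγ0 h
  obtain ⟨D, hDn, hDc⟩ := exists_normal_prime_card hΓU
  set r := Nat.card D with hr
  haveI : Fact r.Prime := ⟨hDc⟩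
  haveI : Fact (Nat.card D).Prime := ⟨hDc⟩
  have hDnt : Nontrivial D := Finite.one_lt_card_iff_nontrivial.1 hDc.one_lt
  obtain ⟨dbar, hdbar⟩ := exists_ne (1 : D)
  obtain ⟨d0, hd0⟩ := QuotientGroup.mk_surjective (dbar : Γ ⧸ U)
  have hdbar_top : zpowers dbar = ⊤ := zpowers_eq_top_of_prime_card rfl hdbar
  have hd0r : d0 ^ (r ^ 1) ∈ U := by
    rw [pow_one, ← QuotientGroup.eq_one_iff, QuotientGroup.mk_pow, hd0]
    have : dbar ^ r = 1 := by rw [hr]; exact pow_card_eq_one'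
    have := congrArg Subtype.val this
    simpa using this
  obtain ⟨d, ⟨b, hdb⟩, hdd0⟩ := sv_ppart r d0 U 1 hd0r
  have hdmk : ((d : Γ) : Γ ⧸ U) = (dbar : Γ ⧸ U) := by
    rw [← hd0]
    symm
    rw [QuotientGroup.eq]
    exact hdd0
  have hdU : d ∉ U := by
    intro h
    rw [← QuotientGroup.eq_one_iff, hdmk] at h
    apply hdbar
    exact Subtype.ext h
  have hconj : ∀ γ : Γ, ∃ j k : ℕ, ∀ v : V, ρ (γ * d * γ⁻¹) v = (ρ (d ^ j) v) ^ k := by
    intro γ
    have h1 : ((γ * d * γ⁻¹ : Γ) : Γ ⧸ U) ∈ D := by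
      rw [QuotientGroup.mk_mul, QuotientGroup.mk_mul, QuotientGroup.mk_inv, hdmk]
      exact hDn.conj_mem _ dbar.2 _
    have h2 : (⟨_, h1⟩ : D) ∈ zpowers dbar := by rw [hdbar_top]; exact Subgroup.mem_top _
    haveI : Finite D := inferInstance
    rw [← (isOfFinOrder_of_finite dbar).mem_powers_iff_mem_zpowers] at h2
    obtain ⟨j, hj⟩ := (Submonoid.mem_powers_iff _ _).1 h2
    have hj' : ((d ^ j : Γ) : Γ ⧸ U) = ((γ * d * γ⁻¹ : Γ) : Γ ⧸ U) := by
      have := congrArg Subtype.val hj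
      rw [QuotientGroup.mk_pow, hdmk]
      simpa using this
    rw [QuotientGroup.eq] at hj'
    obtain ⟨k, hk⟩ := hj'
    refine ⟨j, k, fun v => ?_⟩
    have h3 : γ * d * γ⁻¹ = d ^ j * ((d ^ j)⁻¹ * (γ * d * γ⁻¹)) := by group
    rw [h3, map_mul, MulAut.mul_apply, hk, map_pow]
  by_cases hrq : r = q
  · apply hdU
    refine ⟨1, fun v => ?_⟩
    rw [pow_one]
    exact sv_q_case hq ρ hirr d b (by rw [hdb, hrq]) hconj v
  · exact sv_core hq ρ hirr hA r hrq d b hdb hdU hconj

end main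

end Cfsg.Agent.helper3
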