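import Mathlib
import Cfsg.Agent.Lib_helper3_SV1
import Cfsg.Agent.Lib_helper10_NPC

set_option autoImplicit false

/-!
# The hypothesis of S3033: inheritance, the key commutator lemma, Frobenius' condition for the
smallest prime, solvability.
-/

namespace Cfsg.Agent.helper3

open Subgroup

universe u

/-- The hypothesis of S3033. -/
def SvH (G : Type*) [Group G] : Prop :=
  ∀ (p q : ℕ), p.Prime → q.Prime → p ≠ q → ∀ (x g : G), (∃ a : ℕ, orderOf x = p ^ a) →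
    (∃ b : ℕ, orderOf g = q ^ b) →
      ¬ q ^ 2 ∣ Nat.card ↥(Subgroup.zpowers x ⊔ Subgroup.zpowers (g * x * g⁻¹))

theorem SvH.subgroup {G : Type*} [Group G] (h : SvH G) (K : Subgroup G) : SvH K := by
  intro p q hp hq hpq x g ⟨a, ha⟩ ⟨b, hb⟩ hdvd
  apply h p q hp hq hpq (x : G) (g : G) ⟨a, by rw [Subgroup.orderOf_coe]; exact ha⟩
    ⟨b, by rw [Subgroup.orderOf_coe]; exact hb⟩
  have h1 : (zpowers x ⊔ zpowers (g * x * g⁻¹)).map K.subtype =
      zpowers (x : G) ⊔ zpowers ((g : G) * x * (g : G)⁻¹) := by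
    rw [Subgroup.map_sup, MonoidHom.map_zpowers, MonoidHom.map_zpowers]
    simp
  rw [← h1, Subgroup.card_map_of_injective K.subtype_injective]
  exact hdvd

theorem sv_lift_pelem {G G' : Type*} [Group G] [Finite G] [Group G'] (f : G →* G')
    (hf : Function.Surjective f) (p : ℕ) [Fact p.Prime] (y : G') (a : ℕ)
    (hy : orderOf y = p ^ a) : ∃ x : G, (∃ b : ℕ, orderOf x = p ^ b) ∧ f x = y := by
  obtain ⟨x0, hx0⟩ := hf y
  have h1 : x0 ^ (p ^ a) ∈ f.ker := by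
    rw [MonoidHom.mem_ker, map_pow, hx0, ← hy, pow_orderOf_eq_one]
  obtain ⟨x, hx, hxx0⟩ := sv_ppart p x0 f.ker a h1
  refine ⟨x, hx, ?_⟩
  rw [MonoidHom.mem_ker, map_mul, map_inv, inv_mul_eq_one] at hxx0
  rw [← hxx0, hx0]

theorem SvH.of_surjective {G G' : Type*} [Group G] [Finite G] [Group G'] (h : SvH G)
    (f : G →* G') (hf : Function.Surjective f) : SvH G' := by
  intro p q hp hq hpq x' g' ⟨a, ha⟩ ⟨b, hb⟩ hdvd
  haveI : Fact p.Prime := ⟨hp⟩
  haveI : Fact q.Prime := ⟨hq⟩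
  obtain ⟨x, hx, rfl⟩ := sv_lift_pelem f hf p x' a ha
  obtain ⟨g, hg, rfl⟩ := sv_lift_pelem f hf q g' b hb
  apply h p q hp hq hpq x g hx hg
  have h1 : (zpowers x ⊔ zpowers (g * x * g⁻¹)).map f =
      zpowers (f x) ⊔ zpowers (f g * f x * (f g)⁻¹) := by
    rw [Subgroup.map_sup, MonoidHom.map_zpowers, MonoidHom.map_zpowers]
    simp
  rw [← h1] at hdvd
  exact hdvd.trans (Subgroup.card_map_dvd _ f)

/-- Elements of a `q`-subgroup have `q`-power order. -/
theorem sv_orderOf_of_mem {G : Type*} [Group G] {q : ℕ} [hq : Fact q.Prime] {Q : Subgroup G}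
    (hQ : IsPGroup q Q) {v : G} (hv : v ∈ Q) : ∃ b : ℕ, orderOf v = q ^ b := by
  obtain ⟨k, hk⟩ := hQ ⟨v, hv⟩
  have hk' : v ^ (q ^ k) = 1 := by
    have := congrArg Subtype.val hk
    simpa using this
  obtain ⟨b, -, hb⟩ := (Nat.dvd_prime_pow hq.out).1 (orderOf_dvd_of_pow_eq_one hk')
  exact ⟨b, hb⟩

/-- **Key lemma**: if the `p`-element `y` normalizes the `q`-subgroup `Q` and `v ∈ Q`, then `y`
normalizes the cyclic group generated by the commutator `[y, v]`. -/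
theorem sv_L1 {G : Type*} [Group G] [Finite G] (h : SvH G) {p q : ℕ} (hp : p.Prime)
    [hq : Fact q.Prime] (hpq : p ≠ q) (Q : Subgroup G) (hQ : IsPGroup q Q) (y : G)
    (hy : ∃ a : ℕ, orderOf y = p ^ a) (hyN : ∀ w ∈ Q, y * w * y⁻¹ ∈ Q) (v : G) (hv : v ∈ Q) :
    (y * v * y⁻¹ * v⁻¹) ^ q = 1 ∧
      y * (y * v * y⁻¹ * v⁻¹) * y⁻¹ ∈ zpowers (y * v * y⁻¹ * v⁻¹) := by
  set u : G := y * v * y⁻¹ * v⁻¹ with hu
  by_cases hu1 : u = 1
  · rw [hu1]; simp
  set T : Subgroup G := zpowers y ⊔ zpowers (v * y * v⁻¹) with hT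
  have hTq : ¬ q ^ 2 ∣ Nat.card T := h p q hp hq.out hpq y v hy (sv_orderOf_of_mem hQ hv)
  have hyT : y ∈ T := (le_sup_left : zpowers y ≤ T) (mem_zpowers y)
  have hvyT : v * y * v⁻¹ ∈ T := (le_sup_right : zpowers (v * y * v⁻¹) ≤ T) (mem_zpowers _)
  have huT : u ∈ T := by
    have h1 : u = y * (v * y * v⁻¹)⁻¹ := by rw [hu]; group
    rw [h1]
    exact T.mul_mem hyT (T.inv_mem hvyT)
  have huQ : u ∈ Q := by
    rw [hu]
    exact Q.mul_mem (hyN v hv) (Q.inv_mem hv)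
  have hyuT : y * u * y⁻¹ ∈ T := T.mul_mem (T.mul_mem hyT huT) (T.inv_mem hyT)
  have hyuQ : y * u * y⁻¹ ∈ Q := hyN u huQ
  -- the order of `Q ⊓ T` divides `q`
  obtain ⟨c, hc⟩ := (IsPGroup.iff_card (p := q)).1 (hQ.to_le (inf_le_left : Q ⊓ T ≤ Q))
  have hc1 : c ≤ 1 := by
    by_contra hc2
    push_neg at hc2
    apply hTq
    calc q ^ 2 ∣ q ^ c := pow_dvd_pow q hc2
      _ = Nat.card (Q ⊓ T : Subgroup G) := hc.symm
      _ ∣ Nat.card T := Subgroup.card_dvd_of_le inf_le_right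
  have hdq : Nat.card (Q ⊓ T : Subgroup G) ∣ q := by
    rw [hc]
    calc q ^ c ∣ q ^ 1 := pow_dvd_pow q hc1
      _ = q := pow_one q
  have hle : zpowers u ≤ Q ⊓ T := by
    rw [Subgroup.zpowers_le]
    exact ⟨huQ, huT⟩
  have hou : orderOf u ∣ q := by
    rw [← Nat.card_zpowers]
    exact (Subgroup.card_dvd_of_le hle).trans hdq
  have houq : orderOf u = q := by
    rcases (Nat.dvd_prime hq.out).1 hou with h1 | h1
    · exact absurd (orderOf_eq_one_iff.1 h1) hu1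
    · exact h1
  have heq : zpowers u = Q ⊓ T := by
    apply Subgroup.eq_of_le_of_card_ge hle
    rw [Nat.card_zpowers, houq]
    exact Nat.le_of_dvd hq.out.pos hdq
  refine ⟨by rw [← houq, pow_orderOf_eq_one], ?_⟩
  rw [heq]
  exact ⟨hyuQ, hyuT⟩

/-- A `p`-element (`p ∤ q - 1`) normalizing a `q`-subgroup centralizes it. -/
theorem sv_pelem_centralizes {G : Type*} [Group G] [Finite G] (h : SvH G) {p q : ℕ}
    (hp : p.Prime) [hq : Fact q.Prime] (hpq : p ≠ q) (hpq1 : Nat.Coprime p (q - 1))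
    (Q : Subgroup G) (hQ : IsPGroup q Q) (y : G) (a : ℕ) (hy : orderOf y = p ^ a)
    (hyN : y ∈ normalizer (Q : Set G)) : y ∈ centralizer (Q : Set G) := by
  rw [Subgroup.mem_centralizer_iff]
  intro v hv
  have hv : v ∈ Q := hv
  have hyN' : ∀ w ∈ Q, y * w * y⁻¹ ∈ Q := fun w hw => (Subgroup.mem_normalizer_iff.1 hyN w).1 hw
  set u : G := y * v * y⁻¹ * v⁻¹ with hu
  suffices hu1 : u = 1 by
    have h1 : y * v = u * (v * y) := by rw [hu]; group
    rw [h1, hu1, one_mul]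
  by_contra hu1
  obtain ⟨huq, hL1⟩ := sv_L1 h hp hpq Q hQ y ⟨a, hy⟩ hyN' v hv
  rw [← hu] at hL1 huq
  have houq : orderOf u = q := orderOf_eq_prime huq hu1
  -- `y u y⁻¹ = u ^ k`
  rw [← (isOfFinOrder_of_finite u).mem_powers_iff_mem_zpowers] at hL1
  obtain ⟨k, hk⟩ := (Submonoid.mem_powers_iff _ _).1 hL1
  have hpow : ∀ n : ℕ, y ^ n * u * (y ^ n)⁻¹ = u ^ (k ^ n) := by
    intro n
    induction n with
    | zero => simp
    | succ n ih =>
      have h1 : y ^ (n + 1) * u * (y ^ (n + 1))⁻¹ = y * (y ^ n * u * (y ^ n)⁻¹) * y⁻¹ := by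
        rw [pow_succ']; group
      rw [h1, ih, ← conj_pow, ← hk, ← pow_mul, pow_succ']
  have h2 := hpow (p ^ a)
  rw [← hy, pow_orderOf_eq_one, one_mul, inv_one, mul_one] at h2
  have h4 : k ^ orderOf y ≡ 1 [MOD q] := by
    rw [← houq, ← pow_eq_pow_iff_modEq, pow_one]
    exact h2.symm
  have h5 : ((k : ZMod q)) ^ (p ^ a) = 1 := by
    rw [← hy]
    have := (ZMod.natCast_eq_natCast_iff _ _ _).2 h4
    push_cast at this
    exact this
  have hk0 : (k : ZMod q) ≠ 0 := by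
    intro h0
    rw [h0, zero_pow (pow_ne_zero a hp.ne_zero)] at h5
    exact zero_ne_one h5
  have h6 : (k : ZMod q) ^ (q - 1) = 1 := ZMod.pow_card_sub_one_eq_one hk0
  have h7 : orderOf (k : ZMod q) = 1 :=
    Nat.eq_one_of_dvd_coprimes (Nat.Coprime.pow_left a hpq1) (orderOf_dvd_of_pow_eq_one h5)
      (orderOf_dvd_of_pow_eq_one h6)
  have h8 : (k : ZMod q) = 1 := orderOf_eq_one_iff.1 h7
  have h9 : k ≡ 1 [MOD q] := by
    rw [← ZMod.natCast_eq_natCast_iff]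
    push_cast
    exact h8
  have h10 : y * u * y⁻¹ = u := by
    rw [← hk]
    have : u ^ k = u ^ 1 := by
      rw [pow_eq_pow_iff_modEq, houq]; exact h9
    rw [this, pow_one]
  -- `y` commutes with `w = v y⁻¹ v⁻¹`
  set w : G := v * y⁻¹ * v⁻¹ with hw
  have huw : u = y * w := by rw [hu, hw]; group
  have hcomm : Commute y w := by
    have h11 : y * (y * w) = (y * w) * y := by
      rw [← huw]
      calc y * u = (y * u * y⁻¹) * y := by group
        _ = u * y := by rw [h10]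
    show y * w = w * y
    have := mul_left_cancel (a := y) (b := y * w) (c := w * y) (by rw [h11, mul_assoc])
    exact this
  have h12 : u ^ (p ^ a) = 1 := by
    rw [huw, hcomm.mul_pow, ← hy, pow_orderOf_eq_one, one_mul, hw, conj_pow, inv_pow,
      pow_orderOf_eq_one]
    group
  have h13 : q ∣ p ^ a := by
    rw [← houq]; exact orderOf_dvd_of_pow_eq_one h12
  have h14 : q ∣ p := hq.out.dvd_of_dvd_pow h13
  exact hpq ((Nat.prime_dvd_prime_iff_eq hq.out hp).1 h14).symm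

end Cfsg.Agent.helper3
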