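import Mathlib
import Cfsg.Agent.Lib_helper3_SV5

set_option autoImplicit false

/-!
# Frobenius' condition for the smallest prime and solvability under the hypothesis of S3033.
-/

namespace Cfsg.Agent.helper3

open Subgroup Cfsg.Agent.lead Cfsg.Agent.helper10

universe u

theorem sv_frobCond {G : Type*} [Group G] [Finite G] (h : SvH G) (q : ℕ) [hq : Fact q.Prime]
    (hmin : ∀ p : ℕ, p.Prime → p ∣ Nat.card G → q ≤ p) : FrobCond q G := by
  intro Q hQ g hg hcop
  have key : ∀ n : ℕ, ∀ g : G, orderOf g = n → g ∈ normalizer (Q : Set G) → Nat.Coprime n q →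
      g ∈ centralizer (Q : Set G) := by
    intro n
    induction n using Nat.strong_induction_on with
    | _ n ih =>
      intro g hgn hgN hc
      by_cases hn1 : n = 1
      · rw [hn1, orderOf_eq_one_iff] at hgn
        rw [hgn]; exact Subgroup.one_mem _
      have hn0 : n ≠ 0 := by rw [← hgn]; exact (orderOf_pos g).ne'
      set p := n.minFac with hp
      have hpp : p.Prime := Nat.minFac_prime hn1
      have hpn : p ∣ n := Nat.minFac_dvd n
      have hpG : p ∣ Nat.card G := hpn.trans (hgn ▸ orderOf_dvd_natCard g)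
      have hpq : p ≠ q := by
        intro hpq
        have : q ∣ Nat.gcd n q := Nat.dvd_gcd (hpq ▸ hpn) dvd_rfl
        rw [hc] at this
        exact hq.out.one_lt.ne' (Nat.dvd_one.1 this)
      have hqp : q < p := lt_of_le_of_ne (hmin p hpp hpG) (Ne.symm hpq)
      have hpq1 : Nat.Coprime p (q - 1) := by
        rw [Nat.Prime.coprime_iff_not_dvd hpp]
        intro hd
        have h1 : q - 1 ≠ 0 := by have := hq.out.two_le; omega
        have := Nat.le_of_dvd (Nat.pos_of_ne_zero h1) hd
        omega
      obtain ⟨a, m, hm, hnm⟩ := Nat.exists_eq_pow_mul_and_not_dvd hn0 p hpp.ne_one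
      by_cases hm1 : m = 1
      · rw [hm1, mul_one] at hnm
        exact sv_pelem_centralizes h hpp hpq hpq1 Q hQ g a (hgn.trans hnm) hgN
      · have hm0 : m ≠ 0 := by
          rintro rfl; rw [mul_zero] at hnm; exact hn0 hnm
        have ha0 : a ≠ 0 := by
          rintro rfl
          rw [pow_zero, one_mul] at hnm
          exact hm (hnm ▸ hpn)
        have hpa1 : 1 < p ^ a := Nat.one_lt_pow ha0 hpp.one_lt
        have hpa0 : p ^ a ≠ 0 := by omega
        have hmpos : 0 < m := Nat.pos_of_ne_zero hm0
        have hmn : m < n := by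
          rw [hnm]
          calc m = 1 * m := (one_mul m).symm
            _ < p ^ a * m := Nat.mul_lt_mul_of_pos_right hpa1 hmpos
        have hpan : p ^ a < n := by
          rw [hnm]
          have h1m : 1 < m := by omega
          calc p ^ a = p ^ a * 1 := (mul_one _).symm
            _ < p ^ a * m := Nat.mul_lt_mul_of_pos_left h1m (by omega)
        have ho1 : orderOf (g ^ (p ^ a)) = m := by
          rw [orderOf_pow_of_dvd hpa0 (by rw [hgn, hnm]; exact dvd_mul_right _ _), hgn, hnm,
            Nat.mul_div_cancel_left _ (by omega)]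
        have ho2 : orderOf (g ^ m) = p ^ a := by
          rw [orderOf_pow_of_dvd hm0 (by rw [hgn, hnm]; exact dvd_mul_left _ _), hgn, hnm,
            Nat.mul_div_cancel _ (by omega)]
        have hN1 : g ^ (p ^ a) ∈ normalizer (Q : Set G) := Subgroup.pow_mem _ hgN _
        have hN2 : g ^ m ∈ normalizer (Q : Set G) := Subgroup.pow_mem _ hgN _
        have hcm : Nat.Coprime m q := by
          apply Nat.Coprime.coprime_dvd_left _ hc
          rw [hnm]; exact dvd_mul_left _ _
        have hcpa : Nat.Coprime (p ^ a) q := by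
          apply Nat.Coprime.coprime_dvd_left _ hc
          rw [hnm]; exact dvd_mul_right _ _
        have hC1 := ih m hmn (g ^ (p ^ a)) ho1 hN1 hcm
        have hC2 := ih (p ^ a) hpan (g ^ m) ho2 hN2 hcpa
        have hcop : Nat.Coprime (p ^ a) m :=
          Nat.Coprime.pow_left a ((Nat.Prime.coprime_iff_not_dvd hpp).2 hm)
        have hbez := Nat.gcd_eq_gcd_ab (p ^ a) m
        rw [hcop] at hbez
        have hg : g = (g ^ (p ^ a)) ^ (Nat.gcdA (p ^ a) m) * (g ^ m) ^ (Nat.gcdB (p ^ a) m) := by
          rw [← zpow_natCast g (p ^ a), ← zpow_natCast g m, ← zpow_mul, ← zpow_mul, ← zpow_add,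
            ← hbez]
          simp
        rw [hg]
        exact Subgroup.mul_mem _ (Subgroup.zpow_mem _ hC1 _) (Subgroup.zpow_mem _ hC2 _)
  exact key (orderOf g) g rfl hg hcop

theorem sv_solvable : ∀ n : ℕ, ∀ (G : Type u) [Group G] [Finite G], Nat.card G = n → SvH G →
    Group.IsSolvable G := by
  intro n
  induction n using Nat.strong_induction_on with
  | _ n ih =>
    intro G _ _ hn h
    by_cases hn1 : n = 1
    · have : Subsingleton G := (Nat.card_eq_one_iff_unique.1 (hn.trans hn1)).1
      infer_instance
    set q := n.minFac with hq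
    have hqp : q.Prime := Nat.minFac_prime hn1
    haveI : Fact q.Prime := ⟨hqp⟩
    have hqn : q ∣ Nat.card G := hn ▸ Nat.minFac_dvd n
    have hF : FrobCond q G := sv_frobCond h q (fun p hp hpd => by
      rw [hq]; exact Nat.minFac_le_of_dvd hp.two_le (hn ▸ hpd))
    obtain ⟨S, K, hKn, hKS⟩ := npc_of_frobCond hF
    haveI := hKn
    have hcard : Nat.card K * Nat.card S = Nat.card G := hKS.card_mul_card
    have hS : q ∣ Nat.card S := S.dvd_card_of_dvd_card hqn
    have hS2 : 2 ≤ Nat.card S := le_trans hqp.two_le (Nat.le_of_dvd Nat.card_pos hS)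
    have hKlt : Nat.card K < n := by
      rw [← hn, ← hcard]
      have : 0 < Nat.card K := Nat.card_pos
      nlinarith
    haveI hKsol : Group.IsSolvable K := ih _ hKlt K rfl (h.subgroup K)
    obtain ⟨k, hk⟩ := (IsPGroup.iff_card (p := q)).1 S.isPGroup'
    have hGK : IsPGroup q (G ⧸ K) := by
      apply IsPGroup.of_card (n := k)
      rw [← Subgroup.index_eq_card, hKS.symm.index_eq_card]
      exact hk
    haveI : Group.IsNilpotent (G ⧸ K) := hGK.isNilpotent
    haveI : Group.IsSolvable (G ⧸ K) := IsNilpotent.to_isSolvable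
    exact Group.isSolvable_of_ker_le_range K.subtype (QuotientGroup.mk' K) (by
      rw [QuotientGroup.ker_mk', Subgroup.range_subtype])

end Cfsg.Agent.helper3
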