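import Mathlib
import Cfsg.Agent.Lib_helper3_SV4
import Cfsg.Agent.Lib_helper3_SV6
import Cfsg.Agent.Lib_helper3_SS

set_option autoImplicit false

/-!
# Assembly of S3033: minimal normal subgroups, scalar action, induction.
-/

namespace Cfsg.Agent.helper3

open Subgroup

universe u

theorem sv_exists_min_normal {G : Type*} [Group G] [Finite G] [Nontrivial G] :
    ∃ N : Subgroup G, N.Normal ∧ N ≠ ⊥ ∧
      ∀ L : Subgroup G, L.Normal → L ≤ N → L = ⊥ ∨ L = N := by
  let S : Set (Subgroup G) := {N | N.Normal ∧ N ≠ ⊥}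
  obtain ⟨N, hN⟩ := (Set.toFinite S).exists_minimal ⟨⊤, inferInstance, top_ne_bot⟩
  obtain ⟨⟨hNn, hNne⟩, hmin⟩ := hN
  refine ⟨N, hNn, hNne, fun L hL hLN => ?_⟩
  by_cases hL0 : L = ⊥
  · left; exact hL0
  · right; exact le_antisymm hLN (hmin ⟨hL, hL0⟩ hLN)

theorem sv_comm_of_min_normal {G : Type*} [Group G] [Group.IsSolvable G] (M : Subgroup G)
    [hMn : M.Normal] (hM : M ≠ ⊥)
    (hmin : ∀ K : Subgroup G, K.Normal → K ≤ M → K = ⊥ ∨ K = M) :
    ∀ x ∈ M, ∀ y ∈ M, x * y = y * x := by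
  have hcn : (⁅M, M⁆ : Subgroup G).Normal := Subgroup.commutator_normal M M
  have hcle : ⁅M, M⁆ ≤ M := Subgroup.commutator_le_right M M
  rcases hmin _ hcn hcle with h | h
  · have hle : M ≤ Subgroup.centralizer (M : Set G) :=
      (Subgroup.commutator_eq_bot_iff_le_centralizer).mp h
    intro x hx y hy
    have := (Subgroup.mem_centralizer_iff.mp (hle hy)) x hx
    exact this
  · exfalso
    obtain ⟨n, hn⟩ := (Group.isSolvable_def G).mp inferInstance
    have hall : ∀ k, M ≤ derivedSeries G k := by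
      intro k
      induction k with
      | zero => exact le_top
      | succ k ih =>
        rw [derivedSeries_succ]
        calc M = ⁅M, M⁆ := h.symm
          _ ≤ ⁅derivedSeries G k, derivedSeries G k⁆ := Subgroup.commutator_mono ih ih
    apply hM
    rw [eq_bot_iff, ← hn]
    exact hall n

theorem sv_exists_prime_exponent {G : Type*} [Group G] [Finite G] (M : Subgroup G)
    [hMn : M.Normal] (hM : M ≠ ⊥)
    (hmin : ∀ K : Subgroup G, K.Normal → K ≤ M → K = ⊥ ∨ K = M)
    (hc : ∀ x ∈ M, ∀ y ∈ M, x * y = y * x) :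
    ∃ p : ℕ, p.Prime ∧ ∀ m ∈ M, m ^ p = 1 := by
  classical
  have hcard : Nat.card M ≠ 1 := fun h => hM (Subgroup.card_eq_one.mp h)
  set p := (Nat.card M).minFac with hp
  have hpp : p.Prime := Nat.minFac_prime hcard
  haveI : Fact p.Prime := ⟨hpp⟩
  obtain ⟨x0, hx0⟩ := exists_prime_orderOf_dvd_card' (G := M) p (Nat.minFac_dvd _)
  have hx0' : orderOf (x0 : G) = p := by rw [Subgroup.orderOf_coe]; exact hx0
  let K : Subgroup G :=
    { carrier := {m | m ∈ M ∧ m ^ p = 1}
      mul_mem' := by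
        rintro a b ⟨ha, hap⟩ ⟨hb, hbp⟩
        refine ⟨M.mul_mem ha hb, ?_⟩
        have hcom : Commute a b := hc a ha b hb
        rw [hcom.mul_pow, hap, hbp, one_mul]
      one_mem' := ⟨M.one_mem, one_pow p⟩
      inv_mem' := by
        rintro a ⟨ha, hap⟩
        exact ⟨M.inv_mem ha, by rw [inv_pow, hap, inv_one]⟩ }
  have hKn : K.Normal := by
    constructor
    rintro m ⟨hm, hmp⟩ g
    exact ⟨hMn.conj_mem m hm g, by rw [conj_pow, hmp, mul_one, mul_inv_cancel]⟩
  have hKle : K ≤ M := fun m hm => hm.1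
  have hKbot : K ≠ ⊥ := by
    intro h
    have hx0K : (x0 : G) ∈ K := ⟨x0.2, by rw [← hx0', pow_orderOf_eq_one]⟩
    rw [h, Subgroup.mem_bot] at hx0K
    rw [hx0K, orderOf_one] at hx0'
    exact hpp.one_lt.ne hx0'
  have hKM : K = M := (hmin K hKn hKle).resolve_left hKbot
  refine ⟨p, hpp, fun m hm => ?_⟩
  have : m ∈ K := hKM ▸ hm
  exact this.2

/-- Under the hypothesis of S3033, if `G ⧸ N` is supersolvable for an elementary abelian minimal
normal subgroup `N`, then every cyclic subgroup of `N` is normal in `G`. -/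
theorem sv_all_normal {G : Type*} [Group G] [Finite G] (h : SvH G) (N : Subgroup G)
    [hN : N.Normal] (hcomm : ∀ x ∈ N, ∀ y ∈ N, x * y = y * x) (q : ℕ) [hq : Fact q.Prime]
    (hexp : ∀ x ∈ N, x ^ q = 1)
    (hmin : ∀ K : Subgroup G, K.Normal → K ≤ N → K = ⊥ ∨ K = N)
    (hΓ : Cfsg.IsSupersolvable (G ⧸ N)) :
    ∀ v ∈ N, ∀ g : G, g * v * g⁻¹ ∈ zpowers v := by
  classical
  letI : CommGroup N := { (inferInstance : Group N) with
    mul_comm := fun a b => Subtype.ext (hcomm a a.2 b b.2) }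
  have hNker : N ≤ (MulAut.conjNormal (H := N)).ker := by
    intro n hn
    rw [MonoidHom.mem_ker]
    ext v
    rw [MulAut.conjNormal_apply, MulAut.one_apply]
    rw [hcomm n hn v v.2, mul_inv_cancel_right]
  let ρ : G ⧸ N →* MulAut N := QuotientGroup.lift N MulAut.conjNormal hNker
  have hρ : ∀ (g : G) (v : N), ((ρ (g : G ⧸ N) v : N) : G) = g * v * g⁻¹ := by
    intro g v
    show ((MulAut.conjNormal g v : N) : G) = _
    exact MulAut.conjNormal_apply g v
  have hq' : ∀ v : N, v ^ q = 1 := fun v => Subtype.ext (by simpa using hexp v v.2)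
  have hNq : IsPGroup q N := fun v => ⟨1, by rw [pow_one]; exact hq' v⟩
  have hirr : ∀ W : Subgroup N, (∀ γ : G ⧸ N, ∀ w ∈ W, ρ γ w ∈ W) → W = ⊥ ∨ W = ⊤ := by
    intro W hW
    have hWn : (W.map N.subtype).Normal := by
      constructor
      rintro _ ⟨w, hw, rfl⟩ g
      refine ⟨ρ (g : G ⧸ N) w, hW _ w hw, ?_⟩
      rw [Subgroup.subtype_apply, hρ]; rfl
    rcases hmin _ hWn (Subgroup.map_subtype_le W) with h1 | h1
    · left
      exact (Subgroup.map_eq_bot_iff_of_injective W N.subtype_injective).1 h1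
    · right
      apply Subgroup.map_injective N.subtype_injective
      rw [h1, ← MonoidHom.range_eq_map, Subgroup.range_subtype]
  have hA : ∀ p : ℕ, p.Prime → p ≠ q → ∀ γ : G ⧸ N, (∃ a : ℕ, orderOf γ = p ^ a) →
      ∀ v : N, ρ γ (ρ γ v * v⁻¹) ∈ zpowers (ρ γ v * v⁻¹) := by
    intro p hp hpq γ ⟨a, ha⟩ v
    haveI : Fact p.Prime := ⟨hp⟩
    obtain ⟨x, hx, rfl⟩ :=
      sv_lift_pelem (QuotientGroup.mk' N) (QuotientGroup.mk'_surjective N) p γ a ha
    obtain ⟨-, hL⟩ := sv_L1 h hp hpq N hNq x hx (fun w hw => hN.conj_mem w hw x) v v.2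
    rw [Subgroup.mem_zpowers_iff] at hL ⊢
    obtain ⟨k, hk⟩ := hL
    refine ⟨k, Subtype.ext ?_⟩
    rw [QuotientGroup.mk'_apply, hρ]
    simp only [Subgroup.coe_zpow, Subgroup.coe_mul, Subgroup.coe_inv, hρ]
    exact hk
  have hmain := sv_main hΓ hq' ρ hirr hA
  intro v hv g
  obtain ⟨k, hk⟩ := hmain (g : G ⧸ N)
  have := congrArg Subtype.val (hk ⟨v, hv⟩)
  rw [hρ] at this
  simp only [Subgroup.coe_pow] at this
  rw [this]
  exact Subgroup.pow_mem _ (mem_zpowers v) k

theorem sv_card_quotient_lt {G : Type*} [Group G] [Finite G] (N : Subgroup G) (hN : N ≠ ⊥) :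
    Nat.card (G ⧸ N) < Nat.card G := by
  rw [Subgroup.card_eq_card_quotient_mul_card_subgroup N]
  have h1 : 1 < Nat.card N := (Subgroup.one_lt_card_iff_ne_bot N).2 hN
  have h2 : 0 < Nat.card (G ⧸ N) := Nat.card_pos
  calc Nat.card (G ⧸ N) = Nat.card (G ⧸ N) * 1 := (mul_one _).symm
    _ < Nat.card (G ⧸ N) * Nat.card N := Nat.mul_lt_mul_of_pos_left h1 h2

theorem sv_supersolvable : ∀ n : ℕ, ∀ (G : Type u) [Group G] [Finite G], Nat.card G = n →
    SvH G → Cfsg.IsSupersolvable G := by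
  intro n
  induction n using Nat.strong_induction_on with
  | _ n ih =>
    intro G _ _ hn h
    by_cases hG1 : Subsingleton G
    · rw [isSupersolvable_iff_ssreach]
      have : (⊤ : Subgroup G) = ⊥ := Subsingleton.elim _ _
      rw [this]
      exact SSReach.bot
    · haveI : Nontrivial G := not_subsingleton_iff_nontrivial.1 hG1
      haveI : Group.IsSolvable G := sv_solvable _ G rfl h
      obtain ⟨N, hNn, hNne, hNmin⟩ := sv_exists_min_normal (G := G)
      haveI := hNn
      have hcomm := sv_comm_of_min_normal N hNne hNmin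
      obtain ⟨q, hq, hexp⟩ := sv_exists_prime_exponent N hNne hNmin hcomm
      haveI : Fact q.Prime := ⟨hq⟩
      have hlt : Nat.card (G ⧸ N) < n := hn ▸ sv_card_quotient_lt N hNne
      have hΓ : Cfsg.IsSupersolvable (G ⧸ N) :=
        ih _ hlt (G ⧸ N) rfl
          (h.of_surjective (QuotientGroup.mk' N) (QuotientGroup.mk'_surjective N))
      have hall := sv_all_normal h N hcomm q hexp hNmin hΓ
      obtain ⟨v, hvN, hv1⟩ : ∃ v ∈ N, v ≠ 1 := by
        by_contra hcon
        push_neg at hcon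
        exact hNne ((Subgroup.eq_bot_iff_forall N).2 hcon)
      set C : Subgroup G := zpowers v with hC
      have hCn : C.Normal := by
        constructor
        intro c hc g
        obtain ⟨k, rfl⟩ := Subgroup.mem_zpowers_iff.1 hc
        rw [← conj_zpow]
        exact Subgroup.zpow_mem _ (hall v hvN g) k
      haveI := hCn
      have hCne : C ≠ ⊥ := by
        rw [hC, Ne, zpowers_eq_bot]; exact hv1
      have hlt2 : Nat.card (G ⧸ C) < n := hn ▸ sv_card_quotient_lt C hCne
      have hΓ2 : Cfsg.IsSupersolvable (G ⧸ C) :=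
        ih _ hlt2 (G ⧸ C) rfl
          (h.of_surjective (QuotientGroup.mk' C) (QuotientGroup.mk'_surjective C))
      exact isSupersolvable_of_cyclic_normal C hΓ2

end Cfsg.Agent.helper3
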