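import Mathlib
import Cfsg.Agent.Lib_helper3_HS3
import Cfsg.Agent.Lib_helper3_SS
import Cfsg.Agent.Lib_helper26_ChainA
import Cfsg.Agent.Lib_helper26_ChainB
import Cfsg.Agent.Lib_helper10_PResidual

set_option autoImplicit false
set_option linter.style.haveILetI false

/-! Normal `p`-subgroups all of whose subgroups of a fixed order are normal: towards
hypercentral embedding (helper3, for S3032). Part 1: sections of order `p`, the verbal
subgroup `G' G^(p-1)`, and the existence of a normal cyclic subgroup. -/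

namespace Cfsg.Agent.helper3

open scoped commutatorElement

universe u

variable {G : Type u} [Group G]

/-- The action of `G` on a normal section `U / L` of order `p` factors through a commutative
group of exponent dividing `p - 1`, with kernel inside `hsStab U L`. -/
theorem sz_section_hom [Finite G] {p : ℕ} [hp : Fact p.Prime] (U L : Subgroup G) (hLU : L ≤ U)
    (hUn : ∀ g : G, g ∈ Subgroup.normalizer (U : Set G))
    (hLn : ∀ g : G, g ∈ Subgroup.normalizer (L : Set G))
    (hcard : Nat.card U = p * Nat.card L) :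
    ∃ (A : Type u) (_ : CommGroup A) (f : G →* A), (∀ a : A, a ^ (p - 1) = 1) ∧
      ∀ g : G, f g = 1 → g ∈ hsStab U L := by
  classical
  haveI hLnorm : L.Normal := ⟨fun n hn g => hs_conj_mem (hLn g) hn⟩
  let π : G →* G ⧸ L := QuotientGroup.mk' L
  let φ : U →* G ⧸ L := π.comp U.subtype
  have hker : φ.ker = L.subgroupOf U := by
    ext u
    rw [MonoidHom.mem_ker, Subgroup.mem_subgroupOf]
    show π (u : G) = 1 ↔ _
    rw [QuotientGroup.mk'_apply, QuotientGroup.eq_one_iff]
  have hidx : (L.subgroupOf U).index = p := by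
    have h1 := Subgroup.card_mul_index (L.subgroupOf U)
    have h2 : Nat.card (L.subgroupOf U) = Nat.card L :=
      Nat.card_congr (Subgroup.subgroupOfEquivOfLe hLU).toEquiv
    rw [h2, hcard] at h1
    have h3 : 0 < Nat.card L := Nat.card_pos
    have h4 : Nat.card L * (L.subgroupOf U).index = Nat.card L * p := by rw [h1, mul_comm]
    exact Nat.eq_of_mul_eq_mul_left h3 h4
  have hrange : Nat.card φ.range = p := by
    rw [← Nat.card_congr (QuotientGroup.quotientKerEquivRange φ).toEquiv, ← Subgroup.index_eq_card,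
      hker, hidx]
  haveI : IsCyclic φ.range := isCyclic_of_prime_card hrange
  have hnorm : ∀ g : G, π g ∈ Subgroup.normalizer ((φ.range : Subgroup (G ⧸ L)) : Set (G ⧸ L)) := by
    intro g
    apply hs_mem_normalizer
    rintro _ ⟨u, rfl⟩
    refine ⟨⟨g * u * g⁻¹, hs_conj_mem (hUn g) u.2⟩, ?_⟩
    show π (g * u * g⁻¹) = π g * π (u : G) * (π g)⁻¹
    rw [map_mul, map_mul, map_inv]
  let ι : G →* Subgroup.normalizer ((φ.range : Subgroup (G ⧸ L)) : Set (G ⧸ L)) :=
    π.codRestrict _ hnorm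
  letI iC : CommGroup (MulAut φ.range) :=
    { (inferInstance : Group (MulAut φ.range)) with
      mul_comm := Cfsg.Agent.h26Chain.mulAut_comm }
  refine ⟨MulAut φ.range, iC, (φ.range.normalizerMonoidHom).comp ι, ?_, ?_⟩
  · intro a
    have h1 : Nat.card (MulAut φ.range) = p - 1 := by
      rw [IsCyclic.card_mulAut, hrange, Nat.totient_prime hp.out]
    rw [← h1]
    exact pow_card_eq_one'
  · intro g hg
    have h4 : ι g ∈ (φ.range.normalizerMonoidHom).ker := hg
    rw [Subgroup.normalizerMonoidHom_ker, Subgroup.mem_subgroupOf] at h4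
    have hcent : π g ∈ Subgroup.centralizer ((φ.range : Subgroup (G ⧸ L)) : Set (G ⧸ L)) := h4
    refine ⟨hUn g, hLn g, fun x hx => ?_⟩
    rw [Subgroup.mem_centralizer_iff] at hcent
    have h1 := hcent (φ ⟨x, hx⟩) ⟨⟨x, hx⟩, rfl⟩
    have h3 : φ ⟨x, hx⟩ = π x := rfl
    rw [h3] at h1
    have h2 : π (x⁻¹ * (g * x * g⁻¹)) = 1 := by
      rw [map_mul, map_mul, map_mul, map_inv, map_inv, ← h1]
      group
    rw [QuotientGroup.mk'_apply, QuotientGroup.eq_one_iff] at h2
    exact h2

/-- The verbal subgroup `G' G^(p-1)`. -/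
def szB (p : ℕ) (G : Type u) [Group G] : Subgroup G :=
  Subgroup.closure ({c | ∃ g h : G, c = g * h * g⁻¹ * h⁻¹} ∪ {c | ∃ g : G, c = g ^ (p - 1)})

theorem comm_mem_szB (p : ℕ) (g h : G) : g * h * g⁻¹ * h⁻¹ ∈ szB p G :=
  Subgroup.subset_closure (Or.inl ⟨g, h, rfl⟩)

theorem pow_mem_szB (p : ℕ) (g : G) : g ^ (p - 1) ∈ szB p G :=
  Subgroup.subset_closure (Or.inr ⟨g, rfl⟩)

theorem szB_normal (p : ℕ) : (szB p G).Normal := by
  apply Cfsg.Agent.helper10.closure_normal_of_conj_invariant
  rintro x (⟨g, h, rfl⟩ | ⟨g, rfl⟩) a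
  · left
    exact ⟨a * g * a⁻¹, a * h * a⁻¹, by group⟩
  · right
    exact ⟨a * g * a⁻¹, by rw [conj_pow]⟩

theorem szB_le_stab [Finite G] {p : ℕ} [hp : Fact p.Prime] (U L : Subgroup G) (hLU : L ≤ U)
    (hUn : ∀ g : G, g ∈ Subgroup.normalizer (U : Set G))
    (hLn : ∀ g : G, g ∈ Subgroup.normalizer (L : Set G))
    (hcard : Nat.card U = p * Nat.card L) : szB p G ≤ hsStab U L := by
  obtain ⟨A, iA, f, hexp, hf⟩ := sz_section_hom U L hLU hUn hLn hcard
  unfold szB
  rw [Subgroup.closure_le]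
  rintro x (⟨g, h, rfl⟩ | ⟨g, rfl⟩)
  · apply hf
    rw [map_mul, map_mul, map_mul, map_inv, map_inv, mul_comm (f g) (f h)]
    group
  · apply hf
    rw [map_pow]
    exact hexp _

/-- The image of `szB` under a surjection contains `szB` of the image. -/
theorem szB_le_map {G' : Type*} [Group G'] (p : ℕ) (f : G →* G') (hf : Function.Surjective f) :
    szB p G' ≤ (szB p G).map f := by
  unfold szB
  rw [Subgroup.closure_le]
  rintro x (⟨g, h, rfl⟩ | ⟨g, rfl⟩)
  · obtain ⟨g0, rfl⟩ := hf g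
    obtain ⟨h0, rfl⟩ := hf h
    exact ⟨g0 * h0 * g0⁻¹ * h0⁻¹, comm_mem_szB p g0 h0, by simp⟩
  · obtain ⟨g0, rfl⟩ := hf g
    exact ⟨g0 ^ (p - 1), pow_mem_szB p g0, by simp⟩

end Cfsg.Agent.helper3
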