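import Mathlib
import Cfsg.Agent.Lib_helper3_SZ1

set_option autoImplicit false
set_option linter.style.haveILetI false

/-! Part 2 (helper3, for S3032): a nontrivial normal `p`-subgroup `R` of `G` such that the
`p'`-elements of `G' G^(p-1)` centralize `R` contains a nontrivial cyclic normal subgroup of `G`;
consequently `R` is reached by a chain of normal subgroups with cyclic steps. -/

namespace Cfsg.Agent.helper3

open scoped commutatorElement

universe u

variable {G : Type u} [Group G]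

theorem sz_exists_normal_cyclic [Finite G] {p : ℕ} [hp : Fact p.Prime] (R : Subgroup G)
    [hRn : R.Normal] (hR : IsPGroup p R) (hRne : R ≠ ⊥)
    (hB : ∀ b ∈ szB p G, (orderOf b).Coprime p → b ∈ Subgroup.centralizer (R : Set G)) :
    ∃ w ∈ R, w ≠ 1 ∧ (Subgroup.zpowers w).Normal := by
  classical
  let P : Subgroup G → Prop := fun U => U.Normal ∧ U ≤ R ∧ U ≠ ⊥
  have hex : ∃ n : ℕ, ∃ U, P U ∧ Nat.card U = n := ⟨_, R, ⟨hRn, le_rfl, hRne⟩, rfl⟩
  obtain ⟨V, hV, hVn⟩ := Nat.find_spec hex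
  have hmin : ∀ U', P U' → U' ≤ V → U' = V := by
    intro U' hU' hle
    have h1 : Nat.card V ≤ Nat.card U' := by rw [hVn]; exact Nat.find_min' hex ⟨U', hU', rfl⟩
    exact Subgroup.eq_of_le_of_card_ge hle h1
  obtain ⟨hVnorm, hVR, hVne⟩ := hV
  haveI := hVnorm
  have hVp : IsPGroup p V := hR.to_le hVR
  have hmin' : ∀ U' : Subgroup G, U'.Normal → U' ≤ V → U' ≠ V → U' = ⊥ := by
    intro U' hn hle hne
    by_contra h0
    exact hne (hmin U' ⟨hn, hle.trans hVR, h0⟩ hle)
  obtain ⟨M, hM, -⟩ := exists_isMaxIn hVp (bot_le : (⊥ : Subgroup G) ≤ V) (Ne.symm hVne)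
  -- V is abelian
  have hcomm : ∀ x ∈ V, ∀ y ∈ V, x * y = y * x := by
    have h1 : ⁅V, V⁆ ≤ M := by
      rw [Subgroup.commutator_le]
      intro x hx y hy
      rw [commutatorElement_def]
      exact hM.comm_mem hVp hx hy
    have h2 : ⁅V, V⁆ = ⊥ := by
      apply hmin' _ inferInstance (h1.trans hM.1)
      intro h; rw [h] at h1; exact hM.ne (le_antisymm hM.1 h1)
    intro x hx y hy
    have h3 : ⁅x, y⁆ ∈ ⁅V, V⁆ := Subgroup.commutator_mem_commutator hx hy
    rw [h2, Subgroup.mem_bot, commutatorElement_eq_one_iff_mul_comm] at h3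
    exact h3
  -- V has exponent p
  have hexp : ∀ x ∈ V, x ^ p = 1 := by
    set Vp : Subgroup G := Subgroup.closure {c | ∃ x ∈ V, c = x ^ p} with hVp'
    have hn : Vp.Normal := by
      apply Cfsg.Agent.helper10.closure_normal_of_conj_invariant
      rintro c ⟨x, hx, rfl⟩ g
      exact ⟨g * x * g⁻¹, hVnorm.conj_mem x hx g, by rw [conj_pow]⟩
    have h1 : Vp ≤ M := by
      rw [Subgroup.closure_le]
      rintro c ⟨x, hx, rfl⟩
      exact hM.pow_mem hVp hx
    have h2 : Vp = ⊥ := by
      apply hmin' _ hn (h1.trans hM.1)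
      intro h; rw [h] at h1; exact hM.ne (le_antisymm hM.1 h1)
    intro x hx
    have : x ^ p ∈ Vp := Subgroup.subset_closure ⟨x, hx, rfl⟩
    rwa [h2, Subgroup.mem_bot] at this
  -- B centralizes V
  have hBV : ∀ b ∈ szB p G, ∀ x ∈ V, b * x = x * b := by
    haveI hBn : (szB p G).Normal := szB_normal p
    obtain ⟨Q⟩ : Nonempty (Sylow p ↥(szB p G)) := inferInstance
    set Q' : Subgroup G := (Q : Subgroup ↥(szB p G)).map (szB p G).subtype with hQ'
    have hQ'p : IsPGroup p Q' := Q.isPGroup'.map _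
    letI act : MulAction ↥Q' ↥V :=
      MulAction.compHom ↥V ((MulAut.conjNormal (H := V)).comp Q'.subtype)
    have hsmul : ∀ (q : ↥Q') (v : ↥V), ((q • v : ↥V) : G) = (q : G) * (v : G) * (q : G)⁻¹ :=
      fun q v => MulAut.conjNormal_apply (q : G) v
    have hdvd : p ∣ Nat.card ↥V := by
      rcases hVp.card_eq_or_dvd with h | h
      · exfalso; exact hVne (Subgroup.card_eq_one.mp h)
      · exact h
    have hfix1 : (1 : ↥V) ∈ MulAction.fixedPoints ↥Q' ↥V := by
      intro q; apply Subtype.ext; rw [hsmul]; simp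
    obtain ⟨v, hvfix, hv1⟩ :=
      hQ'p.exists_fixed_point_of_prime_dvd_card_of_fixed_point ↥V hdvd hfix1
    have hres : ∀ k ∈ Cfsg.pResidual p ↥(szB p G),
        (k : G) ∈ Subgroup.centralizer (R : Set G) := by
      intro k hk
      have h1 : Cfsg.pResidual p ↥(szB p G) ≤
          (Subgroup.centralizer (R : Set G)).subgroupOf (szB p G) := by
        unfold Cfsg.pResidual
        rw [Subgroup.closure_le]
        intro x hx
        rw [SetLike.mem_coe, Subgroup.mem_subgroupOf]
        apply hB _ x.2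
        rw [Subgroup.orderOf_coe]; exact hx
      exact Subgroup.mem_subgroupOf.mp (h1 hk)
    have hbv : ∀ b ∈ szB p G, b * (v : G) * b⁻¹ = (v : G) := by
      intro b hb
      obtain ⟨s, hs, k, hk, hbsk⟩ :=
        Cfsg.Agent.helper10.exists_mul_of_pResidual_sylow p Q ⟨b, hb⟩
      have hb' : b = (s : G) * (k : G) := congrArg Subtype.val hbsk
      have hkv : (k : G) * (v : G) * (k : G)⁻¹ = (v : G) := by
        have := hres k hk
        rw [hs_centralizer_iff] at this
        exact this _ (hVR v.2)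
      have hsQ' : (s : G) ∈ Q' := ⟨s, hs, rfl⟩
      have hsv : (s : G) * (v : G) * (s : G)⁻¹ = (v : G) := by
        have h1 := hvfix ⟨(s : G), hsQ'⟩
        have h2 := congrArg Subtype.val h1
        rw [hsmul] at h2
        exact h2
      rw [hb']
      calc (s : G) * k * v * ((s : G) * k)⁻¹ = (s : G) * ((k : G) * v * (k : G)⁻¹) * (s : G)⁻¹ := by
            group
        _ = v := by rw [hkv, hsv]
    set C : Subgroup G := V ⊓ Subgroup.centralizer ((szB p G : Subgroup G) : Set G) with hC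
    have hCn : C.Normal := inferInstance
    have hvC : (v : G) ∈ C := by
      refine Subgroup.mem_inf.mpr ⟨v.2, ?_⟩
      rw [Subgroup.mem_centralizer_iff]
      intro b hb
      have := hbv b hb
      calc b * (v : G) = (b * v * b⁻¹) * b := by group
        _ = v * b := by rw [this]
    have hCne : C ≠ ⊥ := by
      intro h0
      rw [h0, Subgroup.mem_bot] at hvC
      exact hv1 (Subtype.ext hvC.symm)
    have hCV : C = V := by
      by_contra hne
      exact hCne (hmin' C hCn inf_le_left hne)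
    intro b hb x hx
    have hxC : x ∈ C := by rw [hCV]; exact hx
    have := (Subgroup.mem_inf.mp hxC).2
    rw [Subgroup.mem_centralizer_iff] at this
    exact this b hb
  -- common eigenvector
  have hconjpow : ∀ (a : G) (n : ℕ) (x : G),
      ((MulAut.conj a).toMonoidHom)^[n] x = a ^ n * x * (a ^ n)⁻¹ := by
    intro a n
    induction n with
    | zero => intro x; simp
    | succ n ih =>
      intro x
      rw [Function.iterate_succ_apply', ih]
      show a * (a ^ n * x * (a ^ n)⁻¹) * a⁻¹ = _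
      rw [pow_succ']
      group
  obtain ⟨w, hwV, hw1, hwf⟩ := Cfsg.Agent.h26Chain.exists_common_eigen (p := p) V hVne hcomm hexp
    (Set.range fun g : G => (MulAut.conj g).toMonoidHom)
    (by
      rintro f ⟨a, rfl⟩ x hx
      exact hVnorm.conj_mem x hx a)
    (by
      rintro f ⟨a, rfl⟩ g ⟨b, rfl⟩ x hx
      show a * (b * x * b⁻¹) * a⁻¹ = b * (a * x * a⁻¹) * b⁻¹
      have hc := hBV _ (comm_mem_szB p a⁻¹ b⁻¹) x hx
      have h1 : a * (b * x * b⁻¹) * a⁻¹ =
          b * a * ((a⁻¹ * b⁻¹ * a⁻¹⁻¹ * b⁻¹⁻¹) * x) * (a⁻¹ * b⁻¹ * a⁻¹⁻¹ * b⁻¹⁻¹)⁻¹ * a⁻¹ * b⁻¹ := by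
        group
      rw [h1, hc]
      group)
    (by
      rintro f ⟨a, rfl⟩ x hx
      rw [hconjpow]
      have hc := hBV _ (pow_mem_szB p a) x hx
      rw [hc]; group)
  refine ⟨w, hVR hwV, hw1, ⟨fun n hn g => ?_⟩⟩
  obtain ⟨k, rfl⟩ := Subgroup.mem_zpowers_iff.mp hn
  have h1 : g * w * g⁻¹ ∈ Subgroup.zpowers w := hwf _ ⟨g, rfl⟩
  have h2 : g * w ^ k * g⁻¹ = (g * w * g⁻¹) ^ k := by rw [conj_zpow]
  rw [h2]
  exact Subgroup.zpow_mem _ h1 k

end Cfsg.Agent.helper3
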