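import Mathlib
import Cfsg.Agent.Lib_helper3_SZ2

set_option autoImplicit false
set_option linter.style.haveILetI false

/-! Part 3 (helper3, for S3032): the chain theorem `sz_ssreach`. -/

namespace Cfsg.Agent.helper3

open scoped commutatorElement

universe u

/-- If the `p'`-elements of `G' G^(p-1)` centralize the normal `p`-subgroup `R`, then `R` is
reached from `⊥` by a chain of normal subgroups of `G` with cyclic steps. -/
theorem sz_ssreach {p : ℕ} [hp : Fact p.Prime] :
    ∀ (n : ℕ) (G : Type u) [Group G] [Finite G] (R : Subgroup G), R.Normal → Nat.card R = n →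
      IsPGroup p R →
      (∀ b ∈ szB p G, (orderOf b).Coprime p → b ∈ Subgroup.centralizer (R : Set G)) →
      SSReach R := by
  intro n
  induction n using Nat.strong_induction_on with
  | _ n ih =>
  intro G _ _ R hRn hn hR hB
  haveI := hRn
  by_cases hRne : R = ⊥
  · rw [hRne]; exact SSReach.bot
  obtain ⟨w, hwR, hw1, hwn⟩ := sz_exists_normal_cyclic R hR hRne hB
  haveI := hwn
  set N : Subgroup G := Subgroup.zpowers w with hN
  have hNR : N ≤ R := by rw [hN, Subgroup.zpowers_le]; exact hwR
  let π : G →* G ⧸ N := QuotientGroup.mk' N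
  have hπ : Function.Surjective π := QuotientGroup.mk'_surjective N
  have hkerπ : π.ker = N := QuotientGroup.ker_mk' N
  have hRbar : (R.map π).Normal := hRn.map π hπ
  -- cardinality drops
  have hcard : Nat.card (R.map π) < n := by
    have h1 : Nat.card (R.map π) * Nat.card N = Nat.card R := by
      have h2 := Subgroup.card_mul_index ((π.domRestrict R).ker)
      rw [Subgroup.index_ker, MonoidHom.domRestrict_range] at h2
      have h3 : Nat.card (π.domRestrict R).ker = Nat.card N := by
        have : (π.domRestrict R).ker = N.subgroupOf R := by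
          rw [MonoidHom.ker_domRestrict, hkerπ]
        rw [this]
        exact Nat.card_congr (Subgroup.subgroupOfEquivOfLe hNR).toEquiv
      rw [h3] at h2
      rw [mul_comm]; exact h2
    have h4 : 2 ≤ Nat.card N := by
      rw [hN, Nat.card_zpowers]
      have h5 : orderOf w ≠ 0 := (orderOf_pos w).ne'
      have h6 : orderOf w ≠ 1 := fun h => hw1 (orderOf_eq_one_iff.mp h)
      omega
    have h7 : 0 < Nat.card (R.map π) := Nat.card_pos
    rw [← hn, ← h1]
    nlinarith
  -- hypothesis for the quotient
  have hBbar : ∀ b ∈ szB p (G ⧸ N), (orderOf b).Coprime p →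
      b ∈ Subgroup.centralizer ((R.map π : Subgroup (G ⧸ N)) : Set (G ⧸ N)) := by
    intro bb hbb hcop
    obtain ⟨b, hb, rfl⟩ := szB_le_map p π hπ hbb
    set a := (orderOf b).factorization p with ha
    set b1 := b ^ (p ^ a) with hb1
    have hb1B : b1 ∈ szB p G := Subgroup.pow_mem _ hb _
    have hb1cop : (orderOf b1).Coprime p := by
      have hpos : 0 < orderOf b := orderOf_pos b
      rw [hb1, orderOf_pow' b (pow_ne_zero _ hp.out.ne_zero),
        Nat.gcd_eq_right (Nat.ordProj_dvd (orderOf b) p)]
      exact (Nat.coprime_ordCompl hp.out hpos.ne').symm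
    -- π b is a power of π b1
    set t := orderOf (π b) with ht
    have hcopt : Nat.Coprime (p ^ a) t := (Nat.Coprime.pow_right a hcop).symm
    obtain ⟨j, hj⟩ : ∃ j : ℕ, π b = (π b1) ^ j := by
      by_cases ht1 : t = 1
      · refine ⟨0, ?_⟩
        rw [pow_zero]
        exact orderOf_eq_one_iff.mp ht1
      · have htpos : 0 < t := orderOf_pos _
        have ht2 : 1 < t := by omega
        obtain ⟨m, -, hm⟩ := Nat.exists_mul_mod_eq_one_of_coprime hcopt ht2
        refine ⟨m, ?_⟩
        rw [hb1, map_pow, ← pow_mul, ← pow_mod_orderOf, ← ht, hm, pow_one]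
    have hcent : b1 ^ j ∈ Subgroup.centralizer (R : Set G) := by
      apply hB _ (Subgroup.pow_mem _ hb1B j)
      exact Nat.Coprime.coprime_dvd_left (orderOf_pow_dvd j) hb1cop
    rw [hj, ← map_pow]
    rw [Subgroup.mem_centralizer_iff]
    rintro _ ⟨r, hr, rfl⟩
    rw [Subgroup.mem_centralizer_iff] at hcent
    rw [← map_mul, ← map_mul, hcent r hr]
  have hss := ih (Nat.card (R.map π)) hcard (G ⧸ N) (R.map π) hRbar rfl (hR.map π) hBbar
  have hker : SSReach π.ker := by
    rw [hkerπ]
    have e : N = ⊥ ⊔ Subgroup.zpowers w := by rw [bot_sup_eq]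
    rw [e]
    exact SSReach.step ⊥ w SSReach.bot Subgroup.normal_bot (e ▸ hwn)
  have hfin := SSReach.comap π hπ hker hss
  rw [Subgroup.comap_map_eq, hkerπ, sup_eq_left.mpr hNR] at hfin
  exact hfin

end Cfsg.Agent.helper3
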