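import Mathlib
import Cfsg.Agent.Lib_helper3_SZ3
import Cfsg.Agent.Lib_helper23_Bk2

set_option autoImplicit false
set_option linter.style.haveILetI false

/-! Part 4 (helper3, for S3032): Lemma Z. A normal `p`-subgroup `R` of `G` of order `> p ^ d`
(`d ≥ 1`) all of whose subgroups of order `p ^ d` (and `4` if `p ^ d = 2`) are normal in `G` is
reached by a chain of normal subgroups of `G` with cyclic steps. -/

namespace Cfsg.Agent.helper3

open scoped commutatorElement
open Cfsg.Agent.lead Cfsg.Agent.helper7

universe u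

variable {G : Type u} [Group G]

/-- In a cyclic subgroup, elements of order dividing `p` lie in the subgroup generated by any
element of order `p`. -/
theorem sz_mem_zpowers_of_cyclic [Finite G] {p : ℕ} [hp : Fact p.Prime] (T : Subgroup G)
    [hT : IsCyclic T] {y z : G} (hy : y ∈ T) (hz : z ∈ T) (hyp : y ^ p = 1) (hy1 : y ≠ 1)
    (hzp : z ^ p = 1) : z ∈ Subgroup.zpowers y := by
  classical
  obtain ⟨g, hg⟩ := hT.exists_generator
  have hcommT : ∀ a ∈ T, ∀ b ∈ T, a * b = b * a := by
    intro a ha b hb
    obtain ⟨i, hi⟩ := Subgroup.mem_zpowers_iff.mp (hg ⟨a, ha⟩)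
    obtain ⟨j, hj⟩ := Subgroup.mem_zpowers_iff.mp (hg ⟨b, hb⟩)
    have h1 : (⟨a, ha⟩ : T) * ⟨b, hb⟩ = ⟨b, hb⟩ * ⟨a, ha⟩ := by
      rw [← hi, ← hj]
      exact (Commute.zpow_zpow_self g i j).eq
    exact congrArg Subtype.val h1
  let K : Subgroup G :=
    { carrier := {a | a ∈ T ∧ a ^ p = 1}
      one_mem' := ⟨T.one_mem, one_pow _⟩
      mul_mem' := by
        rintro a b ⟨ha, ha2⟩ ⟨hb, hb2⟩
        refine ⟨T.mul_mem ha hb, ?_⟩
        have hc : Commute a b := hcommT a ha b hb
        rw [hc.mul_pow, ha2, hb2, one_mul]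
      inv_mem' := by
        rintro a ⟨ha, ha2⟩
        exact ⟨T.inv_mem ha, by rw [inv_pow, ha2, inv_one]⟩ }
  have hKcard : Nat.card K ≤ p := by
    haveI : Fintype T := Fintype.ofFinite T
    have h1 := IsCyclic.card_pow_eq_one_le (α := T) hp.out.pos
    have h2 : Nat.card K ≤ Nat.card {a : T // a ^ p = 1} := by
      apply Nat.card_le_card_of_injective (fun k : K => (⟨⟨k.1, k.2.1⟩, by
        apply Subtype.ext
        exact k.2.2⟩ : {a : T // a ^ p = 1}))
      intro a b hab
      apply Subtype.ext
      have := congrArg (fun t : {a : T // a ^ p = 1} => ((t : T) : G)) hab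
      exact this
    have h3 : Nat.card {a : T // a ^ p = 1} =
        (Finset.univ.filter (fun a : T => a ^ p = 1)).card := by
      rw [Nat.card_eq_fintype_card, Fintype.card_subtype]
    rw [h3] at h2
    exact h2.trans h1
  have hyK : Subgroup.zpowers y ≤ K := by
    rw [Subgroup.zpowers_le]
    exact ⟨hy, hyp⟩
  have hycard : Nat.card (Subgroup.zpowers y) = p := by
    rw [Nat.card_zpowers]
    exact orderOf_eq_prime hyp hy1
  have hKy : Subgroup.zpowers y = K :=
    Subgroup.eq_of_le_of_card_ge hyK (by rw [hycard]; exact hKcard)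
  rw [hKy]
  exact ⟨hz, hzp⟩

/-- The `p'`-elements of `G' G^(p-1)` centralize `R`. -/
theorem sz_cent [Finite G] {p : ℕ} [hp : Fact p.Prime] (R : Subgroup G) [hRn : R.Normal]
    (hR : IsPGroup p R) (d : ℕ) (hd : 1 ≤ d) (hlt : p ^ d < Nat.card R)
    (hinv : ∀ S : Subgroup G, S ≤ R → (Nat.card S = p ^ d ∨ (p ^ d = 2 ∧ Nat.card S = 4)) →
      ∀ g : G, g ∈ Subgroup.normalizer (S : Set G))
    (b : G) (hb : b ∈ szB p G) (hcop : (orderOf b).Coprime p) :
    b ∈ Subgroup.centralizer (R : Set G) := by
  classical
  have hp1 : 1 < p := hp.out.one_lt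
  have hRnorm : ∀ g : G, g ∈ Subgroup.normalizer (R : Set G) := fun g => by
    rw [Subgroup.normalizer_eq_top_iff.mpr hRn]; exact Subgroup.mem_top g
  by_cases hp2 : p = 2
  · -- Claim A
    have hbig : BigPrimes p (orderOf b) := by
      intro q hq hqb
      have h1 : q ≠ p := by
        rintro rfl
        exact hq.one_lt.ne' (Nat.Coprime.eq_one_of_dvd hcop.symm hqb)
      have := hq.two_le
      omega
    exact hs_claimA b hbig d hd (Nat.card R) R rfl hR (hRnorm b) hlt
      (fun E hE hc => hinv E hE hc b)
  · apply Cfsg.Agent.helper23.centralizes_of_centralizes_omega hp2 R hR b hcop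
    intro y hyR hyp
    by_cases hy1 : y = 1
    · rw [hy1, mul_one, one_mul]
    have hyord : orderOf y = p := orderOf_eq_prime hyp hy1
    have hYcard : Nat.card (Subgroup.zpowers y) = p := by rw [Nat.card_zpowers, hyord]
    obtain ⟨n, hn⟩ := hR.exists_card_eq
    have hdn : d < n := by
      rw [hn] at hlt
      exact (Nat.pow_lt_pow_iff_right hp1).mp hlt
    by_cases hα : ∃ z ∈ R, z ^ p = 1 ∧ y * z = z * y ∧ z ∉ Subgroup.zpowers y
    · -- a noncyclic subgroup of order `p ^ (d + 1)` containing `y`
      obtain ⟨z, hzR, hzp, hyz, hzy⟩ := hα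
      set E : Subgroup G := Subgroup.zpowers z ⊔ Subgroup.zpowers y with hE
      have hzn : z ∈ Subgroup.normalizer ((Subgroup.zpowers y : Subgroup G) : Set G) := by
        apply hs_mem_normalizer
        intro e he
        obtain ⟨k, rfl⟩ := Subgroup.mem_zpowers_iff.mp he
        have hc : Commute z (y ^ k) := (Commute.zpow_right (show Commute z y from hyz.symm) k)
        rw [hc.eq, mul_inv_cancel_right]
        exact Subgroup.zpow_mem_zpowers y k
      have hEcard : Nat.card E ≤ p ^ (d + 1) := by
        have h1 := hs_card_sup_zpowers hp.out.pos (Subgroup.zpowers y) z hzn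
          (by rw [hzp]; exact Subgroup.one_mem _)
        rw [hYcard] at h1
        calc Nat.card E ≤ p * p := h1
          _ = p ^ 2 := (sq p).symm
          _ ≤ p ^ (d + 1) := Nat.pow_le_pow_right hp.out.pos (by omega)
      have hER : E ≤ R := by
        apply sup_le
        · rw [Subgroup.zpowers_le]; exact hzR
        · rw [Subgroup.zpowers_le]; exact hyR
      have hRbig : p ^ (d + 1) ≤ Nat.card R := by
        rw [hn]; exact Nat.pow_le_pow_right hp.out.pos (by omega)
      obtain ⟨T, hET, hTR, hTcard⟩ := hs_exists_between hER hR hEcard hRbig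
      have hTp : IsPGroup p T := hR.to_le hTR
      have hyT : y ∈ T := hET (Subgroup.mem_sup_right (Subgroup.mem_zpowers y))
      have hzT : z ∈ T := hET (Subgroup.mem_sup_left (Subgroup.mem_zpowers z))
      have hTnc : ¬ IsCyclic T := by
        intro hcyc
        exact hzy (sz_mem_zpowers_of_cyclic T hyT hzT hyp hy1 hzp)
      have hmaxcard : ∀ M, IsMaxIn p M T → Nat.card M = p ^ d := by
        intro M hM
        have h1 := hM.2
        rw [hTcard, pow_succ'] at h1
        exact (Nat.eq_of_mul_eq_mul_left hp.out.pos h1).symm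
      have hMn : ∀ M, IsMaxIn p M T → ∀ g : G, g ∈ Subgroup.normalizer (M : Set G) :=
        fun M hM => hinv M (hM.1.trans hTR) (Or.inl (hmaxcard M hM))
      have hcover : ∀ x ∈ T, ∃ M, IsMaxIn p M T ∧ x ∈ M := by
        intro x hx
        have hxT : Subgroup.zpowers x ≤ T := by rw [Subgroup.zpowers_le]; exact hx
        have hne : Subgroup.zpowers x ≠ T := by
          intro h
          apply hTnc
          rw [← h]
          infer_instance
        obtain ⟨M, hM, hxM⟩ := exists_isMaxIn hTp hxT hne
        exact ⟨M, hM, hxM (Subgroup.mem_zpowers x)⟩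
      have hTn : ∀ g : G, g ∈ Subgroup.normalizer (T : Set G) := by
        intro g
        apply hs_mem_normalizer
        intro x hx
        obtain ⟨M, hM, hxM⟩ := hcover x hx
        exact hM.1 (hs_conj_mem (hMn M hM g) hxM)
      -- `b` centralizes `T`
      set A : Subgroup G := Subgroup.zpowers b with hA
      have hbA : b ∈ A := Subgroup.mem_zpowers b
      have hAT : A ≤ Subgroup.normalizer (T : Set G) := hs_zpowers_le_normalizer (hTn b)
      have hcopA : (Nat.card A).Coprime (Nat.card T) := by
        rw [hA, Nat.card_zpowers, hTcard]; exact Nat.Coprime.pow_right _ hcop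
      have hsolv : Group.IsSolvable A ∨ Group.IsSolvable T :=
        Or.inl (solvable_of_comm_subgroup A (hs_zpowers_comm b))
      set C : Subgroup G := T ⊓ Subgroup.centralizer (A : Set G) with hC
      set K1 : Subgroup G := ⁅T, A⁆ with hK1
      have hsup : K1 ⊔ C = T := coprime_commutator_sup_fixed A T hAT hcopA hsolv
      have hall : ∀ M, IsMaxIn p M T → K1 ≤ M := by
        intro M hM
        have h1 : b ∈ hsStab T M := szB_le_stab T M hM.1 hTn (hMn M hM) hM.2 hb
        exact hs_comm_le T M b h1.1 h1.2.1 h1.2.2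
      have hCT : C = T := by
        by_contra hne
        obtain ⟨M, hM, hCM⟩ := exists_isMaxIn hTp (inf_le_left : C ≤ T) hne
        have h1 : T ≤ M := by rw [← hsup]; exact sup_le (hall M hM) hCM
        exact hM.ne (le_antisymm hM.1 h1)
      have h1 : y ∈ C := by rw [hCT]; exact hyT
      have h2 := (Subgroup.mem_inf.mp h1).2
      rw [Subgroup.mem_centralizer_iff] at h2
      exact h2 b hbA
    · -- `⟨y⟩` is normal in `G`
      push Not at hα
      have hYn : ∀ g : G, g ∈ Subgroup.normalizer ((Subgroup.zpowers y : Subgroup G) : Set G) := by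
        -- `y` is central in `R`
        have hycent : ∀ r ∈ R, y * r = r * y := by
          haveI : Nontrivial R := ⟨⟨⟨y, hyR⟩, 1, fun h => hy1 (congrArg Subtype.val h)⟩⟩
          haveI := hR.center_nontrivial
          have hdvd : p ∣ Nat.card (Subgroup.center R) := by
            rcases (hR.to_subgroup (Subgroup.center R)).card_eq_or_dvd with h | h
            · exfalso
              have := (Subgroup.center R).one_lt_card_iff_ne_bot.mpr
                ((Subgroup.nontrivial_iff_ne_bot _).mp inferInstance)
              omega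
            · exact h
          obtain ⟨z0, hz0⟩ := exists_prime_orderOf_dvd_card' p hdvd
          have hz0c : ∀ r : R, r * (z0 : R) = (z0 : R) * r :=
            fun r => Subgroup.mem_center_iff.mp z0.2 r
          have hz0p : ((z0 : R) : G) ^ p = 1 := by
            have := pow_orderOf_eq_one z0
            rw [hz0] at this
            have h2 := congrArg (fun t : Subgroup.center R => ((t : R) : G)) this
            exact h2
          have hz01 : ((z0 : R) : G) ≠ 1 := by
            intro h
            have : z0 = 1 := Subtype.ext (Subtype.ext h)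
            rw [this, orderOf_one] at hz0
            exact hp.out.one_lt.ne hz0
          have hyz0 : y * ((z0 : R) : G) = ((z0 : R) : G) * y :=
            congrArg Subtype.val (hz0c ⟨y, hyR⟩)
          have hz0y : ((z0 : R) : G) ∈ Subgroup.zpowers y :=
            hα _ (z0 : R).2 hz0p hyz0
          have hle : Subgroup.zpowers ((z0 : R) : G) ≤ Subgroup.zpowers y := by
            rw [Subgroup.zpowers_le]; exact hz0y
          have heq : Subgroup.zpowers ((z0 : R) : G) = Subgroup.zpowers y := by
            apply Subgroup.eq_of_le_of_card_ge hle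
            rw [hYcard, Nat.card_zpowers, orderOf_eq_prime hz0p hz01]
          have hyz : y ∈ Subgroup.zpowers ((z0 : R) : G) := by
            rw [heq]; exact Subgroup.mem_zpowers y
          obtain ⟨k, hk⟩ := Subgroup.mem_zpowers_iff.mp hyz
          intro r hr
          have hc : Commute ((z0 : R) : G) r := (congrArg Subtype.val (hz0c ⟨r, hr⟩)).symm
          rw [← hk]
          exact (hc.zpow_left k).eq
        intro g
        apply hs_mem_normalizer
        intro e he
        obtain ⟨k, rfl⟩ := Subgroup.mem_zpowers_iff.mp he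
        have h1 : g * y * g⁻¹ ∈ Subgroup.zpowers y := by
          apply hα _ (hRn.conj_mem y hyR g)
          · rw [conj_pow, hyp, mul_one, mul_inv_cancel]
          · exact hycent _ (hRn.conj_mem y hyR g)
        have h2 : g * y ^ k * g⁻¹ = (g * y * g⁻¹) ^ k := by rw [conj_zpow]
        rw [h2]
        exact Subgroup.zpow_mem _ h1 k
      have h1 : b ∈ hsStab (Subgroup.zpowers y) ⊥ := by
        apply szB_le_stab (Subgroup.zpowers y) ⊥ bot_le hYn _ _ hb
        · intro g
          rw [Subgroup.normalizer_eq_top_iff.mpr Subgroup.normal_bot]; exact Subgroup.mem_top g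
        · rw [hYcard, Subgroup.card_bot, mul_one]
      have h2 := h1.2.2 y (Subgroup.mem_zpowers y)
      rw [Subgroup.mem_bot] at h2
      have h3 : b * y * b⁻¹ = y := (inv_mul_eq_one.mp h2).symm
      calc b * y = (b * y * b⁻¹) * b := by group
        _ = y * b := by rw [h3]

/-- Lemma Z. -/
theorem sz_lemmaZ [Finite G] {p : ℕ} [hp : Fact p.Prime] (R : Subgroup G) [hRn : R.Normal]
    (hR : IsPGroup p R) (d : ℕ) (hd : 1 ≤ d) (hlt : p ^ d < Nat.card R)
    (hinv : ∀ S : Subgroup G, S ≤ R → (Nat.card S = p ^ d ∨ (p ^ d = 2 ∧ Nat.card S = 4)) →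
      ∀ g : G, g ∈ Subgroup.normalizer (S : Set G)) : SSReach R :=
  sz_ssreach (Nat.card R) G R hRn rfl hR (fun b hb hcop => sz_cent R hR d hd hlt hinv b hb hcop)

end Cfsg.Agent.helper3
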