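import Mathlib
import Cfsg.Agent.Lib_helper3_SZ4
import Cfsg.Agent.Lib_helper3_HS4

set_option autoImplicit false
set_option linter.style.haveILetI false

/-! Part 5 (helper3, for S3032): tools for the induction: Sylow containment inside a subgroup,
`ℋ`-subgroups of subgroups, normality of `F K`, and the data of a normal `p`-complement of a
normal subgroup. -/

namespace Cfsg.Agent.helper3

open scoped commutatorElement

universe u

variable {G : Type u} [Group G]

/-- Sylow containment inside a subgroup `R`. -/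
theorem sz_sylow_sub [Finite G] {p : ℕ} [Fact p.Prime] {R Q Q' : Subgroup G}
    (hQR : Q ≤ R) (hQ'R : Q' ≤ R) (hQ : IsPGroup p Q) (hQ' : IsPGroup p Q')
    (hidx : ¬ p ∣ Q.relIndex R) : ∃ h ∈ R, Q'.map (MulAut.conj h).toMonoidHom ≤ Q := by
  have hQs : IsPGroup p (Q.subgroupOf R) :=
    hQ.of_equiv (Subgroup.subgroupOfEquivOfLe hQR).symm
  let S₀ : Sylow p ↥R := hQs.toSylow hidx
  have hQ's : IsPGroup p (Q'.subgroupOf R) :=
    hQ'.of_equiv (Subgroup.subgroupOfEquivOfLe hQ'R).symm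
  obtain ⟨S₁, hS₁⟩ := hQ's.exists_le_sylow
  obtain ⟨r, hr⟩ := MulAction.exists_smul_eq (↥R) S₁ S₀
  refine ⟨(r : G), r.2, ?_⟩
  rintro _ ⟨x, hx, rfl⟩
  have hxR : x ∈ R := hQ'R hx
  have h1 : (⟨x, hxR⟩ : ↥R) ∈ S₁ := hS₁ (by rw [Subgroup.mem_subgroupOf]; exact hx)
  have h2 : r * ⟨x, hxR⟩ * r⁻¹ ∈ ((r • S₁ : Sylow p ↥R) : Subgroup ↥R) := by
    rw [Sylow.coe_subgroup_smul]
    have := Subgroup.smul_mem_pointwise_smul _ (MulAut.conj r) (S₁ : Subgroup ↥R) h1
    simpa [MulAut.smul_def, MulAut.conj_apply] using this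
  rw [hr] at h2
  have h3 : r * ⟨x, hxR⟩ * r⁻¹ ∈ Q.subgroupOf R := h2
  rw [Subgroup.mem_subgroupOf] at h3
  simpa [MulAut.conj_apply] using h3

/-- An `ℋ`-subgroup of `G` contained in `E` is an `ℋ`-subgroup of `E`. -/
theorem sz_hsub_of_map [Finite G] (E : Subgroup G) (F' : Subgroup ↥E)
    (h : IsHSub (F'.map E.subtype)) : IsHSub F' := by
  intro g' x' hx'
  obtain ⟨hx1, hx2⟩ := Subgroup.mem_inf.mp hx'
  have hmem : (x' : G) ∈ F'.map E.subtype := by
    apply h (g' : G)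
    refine Subgroup.mem_inf.mpr ⟨?_, ?_⟩
    · obtain ⟨e', he', rfl⟩ := hx1
      exact ⟨(e' : G), ⟨e', he', rfl⟩, by simp [MulAut.conj_apply]⟩
    · apply hs_mem_normalizer
      rintro _ ⟨f', hf', rfl⟩
      have h1 := (Subgroup.mem_normalizer_iff.mp hx2 f').mp hf'
      exact ⟨x' * f' * x'⁻¹, h1, by simp⟩
  obtain ⟨f', hf', hfx⟩ := hmem
  have : f' = x' := Subtype.ext hfx
  rw [← this]; exact hf'

/-- If `F ≤ P` is an `ℋ`-subgroup of `G`, `P` a Sylow `p`-subgroup of the normal subgroup `E` and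
`K ⊴ G` with `E = P K`, then `F K` is normal in `G`. -/
theorem sz_FK_normal [Finite G] {p : ℕ} [hp : Fact p.Prime] (E P K F : Subgroup G) [hEn : E.Normal]
    [hKn : K.Normal] (hPE : P ≤ E) (hP : IsPGroup p P) (hidx : ¬ p ∣ P.relIndex E)
    (hEPK : E ≤ P ⊔ K) (hFP : F ≤ P) (hF : IsHSub F) : (F ⊔ K).Normal := by
  have hPF : P ≤ Subgroup.normalizer (F : Set G) := hF.le_normalizer hP hFP
  have key : ∀ g : G, ∀ f ∈ F, g * f * g⁻¹ ∈ F ⊔ K := by
    intro g f hf
    have hFg : F.map (MulAut.conj g).toMonoidHom ≤ E := by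
      rintro _ ⟨x, hx, rfl⟩
      exact hEn.conj_mem x (hPE (hFP hx)) g
    obtain ⟨e, heE, he⟩ := sz_sylow_sub hPE hFg hP (hP.to_le hFP |>.map _) hidx
    have h1 : e * (g * f * g⁻¹) * e⁻¹ ∈ P :=
      he ⟨g * f * g⁻¹, ⟨f, hf, by simp [MulAut.conj_apply]⟩, by simp [MulAut.conj_apply]⟩
    have h2 : (e * g) * f * (e * g)⁻¹ ∈ F := by
      apply hF.strongly_closed hP hFP (e * g) hf
      have : e * g * f * (e * g)⁻¹ = e * (g * f * g⁻¹) * e⁻¹ := by group
      rw [this]; exact h1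
    obtain ⟨f', hf'⟩ : ∃ f', f' = (e * g) * f * (e * g)⁻¹ := ⟨_, rfl⟩
    rw [← hf'] at h2
    have h3 : g * f * g⁻¹ = e⁻¹ * f' * e⁻¹⁻¹ := by rw [hf']; group
    rw [h3]
    have heinv : e⁻¹ ∈ (((P ⊔ K : Subgroup G)) : Set G) := hEPK (E.inv_mem heE)
    rw [Subgroup.mul_normal, Set.mem_mul] at heinv
    obtain ⟨a, ha, k, hk, hak⟩ := heinv
    rw [← hak]
    have h4 : k * f' * k⁻¹ ∈ F ⊔ K := by
      have : k * f' * k⁻¹ = f' * (f'⁻¹ * k * f'⁻¹⁻¹ * k⁻¹) := by group
      rw [this]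
      exact Subgroup.mul_mem _ (Subgroup.mem_sup_left h2)
        (Subgroup.mem_sup_right (K.mul_mem (hKn.conj_mem k hk f'⁻¹) (K.inv_mem hk)))
    have haN : a ∈ Subgroup.normalizer ((F ⊔ K : Subgroup G) : Set G) := by
      apply hs_normalizer_sup (hPF ha)
      rw [Subgroup.normalizer_eq_top_iff.mpr hKn]; exact Subgroup.mem_top a
    have h5 := hs_conj_mem haN h4
    have : a * k * f' * (a * k)⁻¹ = a * (k * f' * k⁻¹) * a⁻¹ := by group
    rw [this]; exact h5
  refine ⟨fun x hx g => ?_⟩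
  have hmap : (F ⊔ K).map (MulAut.conj g).toMonoidHom ≤ F ⊔ K := by
    rw [Subgroup.map_sup]
    apply sup_le
    · rintro _ ⟨f, hf, rfl⟩
      exact key g f hf
    · rintro _ ⟨k, hk, rfl⟩
      exact Subgroup.mem_sup_right (hKn.conj_mem k hk g)
  exact hmap ⟨x, hx, by simp [MulAut.conj_apply]⟩

/-- Elements whose order is prime to the index of a normal subgroup lie in it. -/
theorem sz_mem_of_coprime_index {H : Type*} [Group H] [Finite H] (N : Subgroup H) [N.Normal]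
    (x : H) (hcop : (orderOf x).Coprime N.index) : x ∈ N := by
  have h1 : orderOf (QuotientGroup.mk' N x) ∣ orderOf x := orderOf_map_dvd _ x
  have h2 : orderOf (QuotientGroup.mk' N x) ∣ N.index := by
    rw [Subgroup.index_eq_card]; exact orderOf_dvd_natCard _
  have h3 : orderOf (QuotientGroup.mk' N x) = 1 := Nat.eq_one_of_dvd_coprimes hcop h1 h2
  rw [orderOf_eq_one_iff, QuotientGroup.mk'_apply, QuotientGroup.eq_one_iff] at h3
  exact h3

/-- The image of a subgroup meeting the kernel trivially has the same order. -/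
theorem sz_card_map_of_disjoint {G' : Type*} [Group G'] (f : G →* G') (F : Subgroup G)
    (h : F ⊓ f.ker = ⊥) : Nat.card (F.map f) = Nat.card F := by
  have hinj : Function.Injective (f.domRestrict F) := by
    rw [← MonoidHom.ker_eq_bot_iff, MonoidHom.ker_domRestrict, Subgroup.subgroupOf_eq_bot]
    exact (disjoint_iff.mpr h).symm
  rw [← MonoidHom.domRestrict_range]
  exact (Nat.card_congr (MonoidHom.ofInjective hinj).toEquiv).symm

/-- The data of a normal `p`-complement of a normal subgroup `E` of `G`. -/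
theorem sz_npc_data [Finite G] (E : Subgroup G) [hEn : E.Normal] (p : ℕ) [hp : Fact p.Prime]
    (hnpc : Cfsg.HasNormalPComplement p ↥E) :
    ∃ P K : Subgroup G, P ≤ E ∧ IsPGroup p P ∧ ¬ p ∣ P.relIndex E ∧ K.Normal ∧ K ≤ E ∧
      (Nat.card K).Coprime p ∧ P ⊔ K = E ∧ P ⊓ K = ⊥ ∧ Nat.card E = Nat.card P * Nat.card K := by
  obtain ⟨P₀, N₀, hN₀n, hc⟩ := hnpc
  haveI := hN₀n
  have hcardP : Nat.card ((P₀ : Subgroup ↥E).map E.subtype) = Nat.card (P₀ : Subgroup ↥E) :=
    Subgroup.card_map_of_injective E.subtype_injective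
  have hcardK : Nat.card (N₀.map E.subtype) = Nat.card N₀ :=
    Subgroup.card_map_of_injective E.subtype_injective
  have hmul : Nat.card N₀ * Nat.card (P₀ : Subgroup ↥E) = Nat.card ↥E := hc.card_mul_card
  have hidxP : (P₀ : Subgroup ↥E).index = Nat.card N₀ := hc.index_eq_card
  have hN₀cop : (Nat.card N₀).Coprime p := by
    rw [← hidxP]
    exact ((Nat.Prime.coprime_iff_not_dvd hp.out).mpr P₀.not_dvd_index).symm
  obtain ⟨a, ha⟩ := P₀.isPGroup'.exists_card_eq
  have hN₀idx : N₀.index = p ^ a := by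
    have h1 := Subgroup.card_mul_index N₀
    rw [← hmul, ha] at h1
    exact Nat.eq_of_mul_eq_mul_left Nat.card_pos h1
  refine ⟨(P₀ : Subgroup ↥E).map E.subtype, N₀.map E.subtype, Subgroup.map_subtype_le _,
    P₀.isPGroup'.map _, ?_, ?_, Subgroup.map_subtype_le _, ?_, ?_, ?_, ?_⟩
  · have : ((P₀ : Subgroup ↥E).map E.subtype).subgroupOf E = (P₀ : Subgroup ↥E) :=
      Subgroup.comap_map_eq_self_of_injective E.subtype_injective _
    rw [Subgroup.relIndex, this]
    exact P₀.not_dvd_index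
  · refine ⟨fun k hk g => ?_⟩
    obtain ⟨k₀, hk₀, rfl⟩ := hk
    have hmemE : g * (k₀ : G) * g⁻¹ ∈ E := hEn.conj_mem _ k₀.2 g
    have hord : orderOf (⟨g * (k₀ : G) * g⁻¹, hmemE⟩ : ↥E) = orderOf k₀ := by
      rw [← Subgroup.orderOf_coe, ← Subgroup.orderOf_coe]
      have := orderOf_injective (MulAut.conj g).toMonoidHom (MulAut.conj g).injective (k₀ : G)
      simpa [MulAut.conj_apply] using this
    have hk₀ord : orderOf k₀ ∣ Nat.card N₀ := Subgroup.orderOf_dvd_natCard N₀ hk₀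
    have hcop : (orderOf (⟨g * (k₀ : G) * g⁻¹, hmemE⟩ : ↥E)).Coprime N₀.index := by
      rw [hord, hN₀idx]
      exact Nat.Coprime.pow_right a (Nat.Coprime.coprime_dvd_left hk₀ord hN₀cop)
    have := sz_mem_of_coprime_index N₀ _ hcop
    exact ⟨_, this, rfl⟩
  · rw [hcardK]; exact hN₀cop
  · have h1 := hc.sup_eq_top
    have h2 : (N₀ ⊔ (P₀ : Subgroup ↥E)).map E.subtype = E := by
      rw [h1, ← MonoidHom.range_eq_map, Subgroup.range_subtype]
    rw [Subgroup.map_sup] at h2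
    rw [sup_comm]; exact h2
  · apply disjoint_iff.mp
    apply Subgroup.disjoint_of_coprime_natCard
    rw [hcardP, hcardK, ha]
    exact (Nat.Coprime.pow_right a hN₀cop).symm
  · rw [hcardP, hcardK, ← hmul, mul_comm]

end Cfsg.Agent.helper3
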