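import Mathlib
import Cfsg.Agent.Lib_helper3_SZ5
import Cfsg.Agent.S3031

set_option autoImplicit false
set_option linter.style.haveILetI false

/-! Part 6 (helper3, for S3032): the main induction. -/

namespace Cfsg.Agent.helper3

open scoped commutatorElement

universe u

variable {G : Type u} [Group G]

/-- The hypothesis of S3032 on a subgroup `E`. -/
def SHyp (E : Subgroup G) : Prop :=
  ∀ (p : ℕ), p.Prime → ∀ P : Subgroup G, P ≤ E → IsPGroup p P → ¬ p ∣ P.relIndex E →
    ¬ IsCyclic ↥P →
      ∃ D : Subgroup G, D ≤ P ∧ 1 < Nat.card D ∧ Nat.card D < Nat.card P ∧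
        ∀ F : Subgroup G, F ≤ P → (Nat.card F = Nat.card D ∨ (Nat.card D = 2 ∧ Nat.card F = 4)) →
          IsHSub F

theorem sz_theoremT [Finite G] :
    ∀ (n : ℕ) (E : Subgroup G), E.Normal → Nat.card E = n → SHyp E → SSReach E := by
  intro n
  induction n using Nat.strong_induction_on with
  | _ n ih =>
  intro E hEn hn hS
  haveI := hEn
  by_cases hE1 : E = ⊥
  · rw [hE1]; exact SSReach.bot
  have hcard1 : Nat.card E ≠ 1 := fun h => hE1 (Subgroup.card_eq_one.mp h)
  obtain ⟨p, hp_def⟩ : ∃ p, p = (Nat.card E).minFac := ⟨_, rfl⟩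
  have hpp : p.Prime := hp_def ▸ Nat.minFac_prime hcard1
  haveI : Fact p.Prime := ⟨hpp⟩
  have hdiv : p ∣ Nat.card ↥E := hp_def ▸ Nat.minFac_dvd _
  have hmin : ∀ q : ℕ, q.Prime → q ∣ Nat.card ↥E → p ≤ q :=
    fun q hq hqd => hp_def ▸ Nat.minFac_le_of_dvd hq.two_le hqd
  obtain ⟨P₀⟩ : Nonempty (Sylow p ↥E) := inferInstance
  have hnpc : Cfsg.HasNormalPComplement p ↥E := by
    apply Cfsg.Agent.S3031.result hdiv hmin P₀
    by_cases hcyc : IsCyclic ↥(P₀ : Subgroup ↥E)
    · exact Or.inl hcyc
    · right
      set P : Subgroup G := (P₀ : Subgroup ↥E).map E.subtype with hP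
      have hPE : P ≤ E := Subgroup.map_subtype_le _
      have hPp : IsPGroup p P := P₀.isPGroup'.map _
      have hidx : ¬ p ∣ P.relIndex E := by
        have : P.subgroupOf E = (P₀ : Subgroup ↥E) :=
          Subgroup.comap_map_eq_self_of_injective E.subtype_injective _
        rw [Subgroup.relIndex, this]; exact P₀.not_dvd_index
      have hnc : ¬ IsCyclic ↥P := by
        intro hc
        apply hcyc
        exact isCyclic_of_injective
          ((P₀ : Subgroup ↥E).equivMapOfInjective E.subtype E.subtype_injective).toMonoidHom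
          (MulEquiv.injective _)
      obtain ⟨D, hDP, hD1, hDlt, hDF⟩ := hS p hpp P hPE hPp hidx hnc
      have hDE : D ≤ E := hDP.trans hPE
      have hDcard : Nat.card (D.subgroupOf E) = Nat.card D :=
        Nat.card_congr (Subgroup.subgroupOfEquivOfLe hDE).toEquiv
      have hPcard : Nat.card P = Nat.card (P₀ : Subgroup ↥E) :=
        Subgroup.card_map_of_injective E.subtype_injective
      refine ⟨D.subgroupOf E, ?_, ?_, ?_, ?_⟩
      · intro x hx
        rw [Subgroup.mem_subgroupOf] at hx
        obtain ⟨y, hy, hyx⟩ := hDP hx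
        have : y = x := Subtype.ext hyx
        rw [← this]; exact hy
      · rw [hDcard]; exact hD1
      · rw [hDcard, ← hPcard]; exact hDlt
      · intro F' hF'P hcardF'
        have h1 : IsHSub (F'.map E.subtype) := by
          apply hDF (F'.map E.subtype) (Subgroup.map_mono hF'P)
          rw [Subgroup.card_map_of_injective E.subtype_injective]
          rw [hDcard] at hcardF'
          exact hcardF'
        exact sz_hsub_of_map E F' h1
  obtain ⟨P, K, hPE, hPp, hidx, hKn, hKE, hKcop, hPK, hPKbot, hcardE⟩ := sz_npc_data E p hnpc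
  haveI := hKn
  have hPcard : p ∣ Nat.card P := by
    have h1 : p ∣ Nat.card P * Nat.card K := hcardE ▸ hdiv
    exact (Nat.Coprime.dvd_mul_right hKcop.symm).mp h1
  have hKlt : Nat.card K < n := by
    rw [← hn, hcardE]
    have h1 : 2 ≤ Nat.card P := hpp.two_le.trans (Nat.le_of_dvd Nat.card_pos hPcard)
    have h2 : 0 < Nat.card K := Nat.card_pos
    nlinarith
  obtain ⟨a, ha⟩ := hPp.exists_card_eq
  have hKrel : K.relIndex E = p ^ a := by
    have h1 := Subgroup.card_mul_index (K.subgroupOf E)
    rw [Nat.card_congr (Subgroup.subgroupOfEquivOfLe hKE).toEquiv, hcardE, ha, mul_comm] at h1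
    exact Nat.eq_of_mul_eq_mul_right Nat.card_pos h1
  have hSK : SHyp K := by
    intro q hq Pq hPqK hPq hqidx hqnc
    have hqp : q ≠ p := by
      rintro rfl
      apply hqnc
      have hbot : Pq = ⊥ := by
        obtain ⟨b, hb⟩ := hPq.exists_card_eq
        have h1 : Nat.card Pq ∣ Nat.card K := Subgroup.card_dvd_of_le hPqK
        have hb0 : b = 0 := by
          by_contra hb0
          have h2 : q ∣ Nat.card Pq := by rw [hb]; exact dvd_pow_self q hb0
          have h3 : q ∣ Nat.card K := h2.trans h1
          exact hq.one_lt.ne' (Nat.Coprime.eq_one_of_dvd hKcop.symm h3)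
        rw [hb0, pow_zero] at hb
        exact Subgroup.card_eq_one.mp hb
      rw [hbot]
      infer_instance
    have hqidxE : ¬ q ∣ Pq.relIndex E := by
      rw [← Subgroup.relIndex_mul_relIndex Pq K E hPqK hKE]
      intro h
      rcases (Nat.Prime.dvd_mul hq).mp h with h | h
      · exact hqidx h
      · rw [hKrel] at h
        exact hqp ((Nat.prime_dvd_prime_iff_eq hq hpp).mp (hq.dvd_of_dvd_pow h))
    exact hS q hq Pq (hPqK.trans hKE) hPq hqidxE hqnc
  have hssK : SSReach K := ih (Nat.card K) hKlt K hKn rfl hSK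
  let π : G →* G ⧸ K := QuotientGroup.mk' K
  have hπ : Function.Surjective π := QuotientGroup.mk'_surjective K
  have hkerπ : π.ker = K := QuotientGroup.ker_mk' K
  have hKmap : K.map π = ⊥ := by
    rw [Subgroup.map_eq_bot_iff, hkerπ]
  have hEbar : E.map π = P.map π := by
    rw [← hPK, Subgroup.map_sup, hKmap, sup_bot_eq]
  have hEbarn : (E.map π).Normal := hEn.map π hπ
  have hPbarp : IsPGroup p (P.map π) := hPp.map π
  have hcardPbar : Nat.card (P.map π) = Nat.card P :=
    sz_card_map_of_disjoint π P (by rw [hkerπ]; exact hPKbot)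
  have hssE : SSReach (E.map π) := by
    by_cases hcyc : IsCyclic ↥P
    · obtain ⟨g₀, hg₀⟩ := hcyc.exists_generator
      obtain ⟨g₁, hg₁⟩ : ∃ g₁ : G, g₁ = (g₀ : G) := ⟨_, rfl⟩
      have hPz : P = Subgroup.zpowers g₁ := by
        apply le_antisymm
        · intro x hx
          obtain ⟨k, hk⟩ := Subgroup.mem_zpowers_iff.mp (hg₀ ⟨x, hx⟩)
          rw [Subgroup.mem_zpowers_iff]
          refine ⟨k, ?_⟩
          have := congrArg Subtype.val hk
          rw [hg₁]
          simpa using this
        · rw [Subgroup.zpowers_le, hg₁]; exact g₀.2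
      have e : E.map π = ⊥ ⊔ Subgroup.zpowers (π g₁) := by
        rw [bot_sup_eq, hEbar, hPz, MonoidHom.map_zpowers]
      rw [e]
      exact SSReach.step ⊥ _ SSReach.bot Subgroup.normal_bot (e ▸ hEbarn)
    · obtain ⟨D, hDP, hD1, hDlt, hDF⟩ := hS p hpp P hPE hPp hidx hcyc
      obtain ⟨d, hd⟩ := (hPp.to_le hDP).exists_card_eq
      have hd1 : 1 ≤ d := by
        by_contra h0
        have : d = 0 := by omega
        rw [this, pow_zero] at hd
        omega
      haveI := hEbarn
      apply sz_lemmaZ (E.map π) (hEbar ▸ hPbarp) d hd1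
        (by rw [hEbar, hcardPbar, ← hd]; exact hDlt)
      intro Sb hSb hcardSb gb
      set F : Subgroup G := Sb.comap π ⊓ P with hF
      have hFP : F ≤ P := inf_le_right
      have hFmap : F.map π = Sb := by
        apply le_antisymm
        · rintro _ ⟨x, hx, rfl⟩
          exact (Subgroup.mem_inf.mp hx).1
        · intro s hs
          have hsE : s ∈ P.map π := hEbar ▸ hSb hs
          obtain ⟨x, hxP, rfl⟩ := hsE
          exact ⟨x, Subgroup.mem_inf.mpr ⟨hs, hxP⟩, rfl⟩
      have hFcard : Nat.card F = Nat.card Sb := by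
        rw [← hFmap]
        symm
        apply sz_card_map_of_disjoint
        rw [hkerπ, eq_bot_iff, ← hPKbot]
        exact inf_le_inf_right _ hFP
      have hFH : IsHSub F := by
        apply hDF F hFP
        rcases hcardSb with h | ⟨h2, h4⟩
        · left; rw [hFcard, h, hd]
        · right; exact ⟨by rw [hd]; exact h2, by rw [hFcard]; exact h4⟩
      have hFKn : (F ⊔ K).Normal :=
        sz_FK_normal E P K F hPE hPp hidx (le_of_eq hPK.symm) hFP hFH
      have hSbn : Sb.Normal := by
        have h1 : ((F ⊔ K).map π).Normal := hFKn.map π hπ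
        have h2 : (F ⊔ K).map π = Sb := by
          rw [Subgroup.map_sup, hFmap, hKmap, sup_bot_eq]
        rw [h2] at h1; exact h1
      rw [Subgroup.normalizer_eq_top_iff.mpr hSbn]; exact Subgroup.mem_top gb
  have hker : SSReach π.ker := by rw [hkerπ]; exact hssK
  have hfin := SSReach.comap π hπ hker hssE
  rw [Subgroup.comap_map_eq, hkerπ, sup_eq_left.mpr hKE] at hfin
  exact hfin

end Cfsg.Agent.helper3
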