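import Mathlib

/-!
Shift-invariant subspaces of the space of functions `ZMod p → K` in characteristic `p`
(helper4).  `PL r` is the space of polynomial functions of degree `< r`; the shift-invariant
subspaces are exactly the `PL r`, `r ≤ p`.
-/

set_option autoImplicit false
set_option linter.unusedSectionVars false

namespace Cfsg.Agent.helper4

open Polynomial

section
variable {p : ℕ} [Fact p.Prime] {K : Type*} [Field K] [CharP K p]

/-- evaluation of a polynomial at the points of `ZMod p` -/
noncomputable def evZ (p : ℕ) (K : Type*) [Field K] : K[X] →ₗ[K] (ZMod p → K) where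
  toFun P := fun j => P.eval (ZMod.cast j : K)
  map_add' P Q := by funext j; simp
  map_smul' c P := by funext j; simp

@[simp] theorem evZ_apply (P : K[X]) (j : ZMod p) : evZ p K P j = P.eval (ZMod.cast j : K) := rfl

/-- polynomial functions of degree `< r` -/
noncomputable def PL (p : ℕ) (K : Type*) [Field K] (r : ℕ) : Submodule K (ZMod p → K) :=
  (Polynomial.degreeLT K r).map (evZ p K)

theorem mem_PL {r : ℕ} {f : ZMod p → K} :
    f ∈ PL p K r ↔ ∃ P : K[X], P.degree < r ∧ ∀ j : ZMod p, f j = P.eval (ZMod.cast j : K) := by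
  unfold PL
  rw [Submodule.mem_map]
  constructor
  · rintro ⟨P, hP, rfl⟩
    exact ⟨P, Polynomial.mem_degreeLT.mp hP, fun j => rfl⟩
  · rintro ⟨P, hP, h⟩
    exact ⟨P, Polynomial.mem_degreeLT.mpr hP, funext fun j => (h j).symm⟩

theorem PL_mono {r s : ℕ} (h : r ≤ s) : PL p K r ≤ PL p K s :=
  Submodule.map_mono (Polynomial.degreeLT_mono h)

theorem cast_injective : Function.Injective (fun j : ZMod p => (ZMod.cast j : K)) := by
  have := (ZMod.castHom (dvd_refl p) K).injective
  intro a b hab
  apply this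
  simpa [ZMod.castHom_apply] using hab

theorem evZ_injOn {r : ℕ} (hr : r ≤ p) (P : K[X]) (hP : P.degree < r) (h : evZ p K P = 0) :
    P = 0 := by
  haveI : NeZero p := ⟨(Fact.out : p.Prime).ne_zero⟩
  apply Polynomial.eq_zero_of_natDegree_lt_card_of_eval_eq_zero P (cast_injective (p := p) (K := K))
  · intro j
    exact congrFun h j
  · rw [ZMod.card]
    by_cases hP0 : P = 0
    · rw [hP0, natDegree_zero]; exact (Fact.out : p.Prime).pos
    · have := (Polynomial.natDegree_lt_iff_degree_lt hP0).mpr hP
      omega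

theorem finrank_PL {r : ℕ} (hr : r ≤ p) : Module.finrank K (PL p K r) = r := by
  have hinj : Function.Injective ((evZ p K).domRestrict (Polynomial.degreeLT K r)) := by
    rw [← LinearMap.ker_eq_bot, LinearMap.ker_eq_bot']
    rintro ⟨P, hP⟩ h
    have : P = 0 := evZ_injOn hr P (Polynomial.mem_degreeLT.mp hP) h
    exact Subtype.ext this
  have h1 : PL p K r = LinearMap.range ((evZ p K).domRestrict (Polynomial.degreeLT K r)) := by
    rw [LinearMap.range_domRestrict]; rfl
  rw [h1, LinearMap.finrank_range_of_inj hinj, (Polynomial.degreeLTEquiv K r).finrank_eq,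
    Module.finrank_fin_fun]

theorem PL_top : PL p K p = ⊤ := by
  haveI : NeZero p := ⟨(Fact.out : p.Prime).ne_zero⟩
  apply Submodule.eq_top_of_finrank_eq
  rw [finrank_PL le_rfl, Module.finrank_fintype_fun_eq_card, ZMod.card]

theorem PL_zero : PL p K 0 = ⊥ := by
  rw [eq_bot_iff]
  intro f hf
  obtain ⟨P, hP, h⟩ := mem_PL.mp hf
  have : P = 0 := by
    rw [← Polynomial.degree_eq_bot]
    simpa using hP
  rw [Submodule.mem_bot]
  funext j
  rw [h j, this]; simp

/-- the shift operator -/
def shiftT (p : ℕ) (K : Type*) [Field K] : (ZMod p → K) →ₗ[K] (ZMod p → K) where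
  toFun f := fun j => f (j - 1)
  map_add' f g := rfl
  map_smul' c f := rfl

@[simp] theorem shiftT_apply (f : ZMod p → K) (j : ZMod p) : shiftT p K f j = f (j - 1) := rfl

/-- `N = T - 1` -/
def shiftN (p : ℕ) (K : Type*) [Field K] : (ZMod p → K) →ₗ[K] (ZMod p → K) := shiftT p K - 1

@[simp] theorem shiftN_apply (f : ZMod p → K) (j : ZMod p) : shiftN p K f j = f (j - 1) - f j := rfl

theorem shiftT_evZ (P : K[X]) : shiftT p K (evZ p K P) = evZ p K (taylor (-1) P) := by
  funext j
  rw [shiftT_apply, evZ_apply, evZ_apply, taylor_eval, ZMod.cast_sub (dvd_refl p),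
    ZMod.cast_one (dvd_refl p), sub_eq_add_neg]

theorem shiftN_evZ (P : K[X]) : shiftN p K (evZ p K P) = evZ p K (taylor (-1) P - P) := by
  unfold shiftN
  rw [LinearMap.sub_apply, shiftT_evZ, map_sub]; rfl

theorem shiftT_PL (r : ℕ) : (PL p K r).map (shiftT p K) ≤ PL p K r := by
  rintro _ ⟨f, hf, rfl⟩
  obtain ⟨P, hP, rfl⟩ := hf
  rw [shiftT_evZ]
  exact ⟨_, Polynomial.mem_degreeLT.mpr (by rw [degree_taylor]; exact Polynomial.mem_degreeLT.mp hP), rfl⟩

theorem shiftN_PL (r : ℕ) : (PL p K (r + 1)).map (shiftN p K) ≤ PL p K r := by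
  rintro _ ⟨f, hf, rfl⟩
  obtain ⟨P, hP, rfl⟩ := hf
  rw [shiftN_evZ]
  refine ⟨_, Polynomial.mem_degreeLT.mpr ?_, rfl⟩
  by_cases hP0 : P = 0
  · rw [hP0]; simp
  · have h1 : (taylor (-1) P - P).degree < (taylor (-1) P).degree :=
      Polynomial.degree_sub_lt (degree_taylor P (-1))
        (by intro h; apply hP0; exact (Polynomial.taylor_injective (-1)) (by rw [h, map_zero]))
        (leadingCoeff_taylor (-1) P)
    rw [degree_taylor] at h1
    have h2 : P.degree < (r + 1 : ℕ) := Polynomial.mem_degreeLT.mp hP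
    have h3 : P.degree ≤ r := by
      rw [Polynomial.degree_eq_natDegree hP0] at h2 ⊢
      exact_mod_cast Nat.lt_succ_iff.mp (by exact_mod_cast h2)
    exact lt_of_lt_of_le h1 h3

theorem ker_shiftN_le [NeZero p] : LinearMap.ker (shiftN p K) ≤ PL p K 1 := by
  intro f hf
  rw [LinearMap.mem_ker] at hf
  have h1 : ∀ j : ZMod p, f (j - 1) = f j := fun j => by
    have := congrFun hf j
    rw [shiftN_apply] at this
    exact sub_eq_zero.mp this
  have h2 : ∀ n : ℕ, f (n : ZMod p) = f 0 := by
    intro n
    induction n with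
    | zero => simp
    | succ n ih =>
      rw [← ih, ← h1 ((n + 1 : ℕ) : ZMod p)]
      congr 1
      push_cast; ring
  rw [mem_PL]
  refine ⟨C (f 0), ?_, ?_⟩
  · exact lt_of_le_of_lt Polynomial.degree_C_le (by exact_mod_cast zero_lt_one)
  · intro j
    rw [Polynomial.eval_C, ← ZMod.natCast_zmod_val j, h2]

theorem finrank_ker_inf_le (W : Submodule K (ZMod p → K)) :
    Module.finrank K (LinearMap.ker ((shiftN p K).domRestrict W)) ≤ 1 := by
  haveI : NeZero p := ⟨(Fact.out : p.Prime).ne_zero⟩
  rw [← Submodule.finrank_map_subtype_eq W, ← finrank_PL (p := p) (K := K)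
    (Nat.one_le_iff_ne_zero.mpr (Fact.out : p.Prime).ne_zero)]
  apply Submodule.finrank_mono
  rintro _ ⟨⟨f, hf⟩, hk, rfl⟩
  apply ker_shiftN_le
  have hk' : (shiftN p K).domRestrict W ⟨f, hf⟩ = 0 := hk
  rw [LinearMap.mem_ker]
  exact hk'

theorem finrank_map_shiftN_ge (W : Submodule K (ZMod p → K)) :
    Module.finrank K W ≤ Module.finrank K (W.map (shiftN p K)) + 1 := by
  have h1 := LinearMap.finrank_range_add_finrank_ker ((shiftN p K).domRestrict W)
  rw [LinearMap.range_domRestrict] at h1
  have h2 := finrank_ker_inf_le W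
  omega

theorem map_shiftN_le {W : Submodule K (ZMod p → K)} (hW : W.map (shiftT p K) ≤ W) :
    W.map (shiftN p K) ≤ W := by
  rintro _ ⟨f, hf, rfl⟩
  unfold shiftN
  rw [LinearMap.sub_apply]
  exact W.sub_mem (hW ⟨f, hf, rfl⟩) hf

theorem shiftT_map_shiftN {W : Submodule K (ZMod p → K)} (hW : W.map (shiftT p K) ≤ W) :
    (W.map (shiftN p K)).map (shiftT p K) ≤ W.map (shiftN p K) := by
  rintro _ ⟨_, ⟨f, hf, rfl⟩, rfl⟩
  refine ⟨shiftT p K f, hW ⟨f, hf, rfl⟩, ?_⟩
  funext j
  simp

theorem map_shiftN_PL_eq {r : ℕ} (hr : r + 1 ≤ p) :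
    (PL p K (r + 1)).map (shiftN p K) = PL p K r := by
  apply Submodule.eq_of_le_of_finrank_le (shiftN_PL r)
  have := finrank_map_shiftN_ge (PL p K (r + 1))
  rw [finrank_PL hr] at this
  rw [finrank_PL (by omega)]
  omega

/-- a subspace with `N W = W` is zero -/
theorem eq_bot_of_map_shiftN_eq {W : Submodule K (ZMod p → K)} (h : W.map (shiftN p K) = W) :
    W = ⊥ := by
  have key : ∀ k : ℕ, k ≤ p → W ≤ PL p K (p - k) := by
    intro k
    induction k with
    | zero => intro _; rw [Nat.sub_zero, PL_top]; exact le_top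
    | succ k ih =>
      intro hk
      have h1 := ih (by omega)
      have h2 : p - k = (p - (k + 1)) + 1 := by omega
      rw [h2] at h1
      calc W = W.map (shiftN p K) := h.symm
        _ ≤ (PL p K (p - (k + 1) + 1)).map (shiftN p K) := Submodule.map_mono h1
        _ ≤ PL p K (p - (k + 1)) := shiftN_PL _
  have := key p le_rfl
  rw [Nat.sub_self, PL_zero] at this
  exact eq_bot_iff.mpr this

/-- shift-invariant subspaces are the `PL r` -/
theorem shift_invariant_eq_PL (W : Submodule K (ZMod p → K)) (hW : W.map (shiftT p K) ≤ W) :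
    Module.finrank K W ≤ p ∧ W = PL p K (Module.finrank K W) := by
  have : NeZero p := ⟨(Fact.out : p.Prime).ne_zero⟩
  have hle : Module.finrank K W ≤ p := by
    have := Submodule.finrank_le W
    rwa [Module.finrank_fintype_fun_eq_card, ZMod.card] at this
  refine ⟨hle, ?_⟩
  induction hr : Module.finrank K W generalizing W with
  | zero =>
    rw [PL_zero]
    exact Submodule.finrank_eq_zero.mp hr
  | succ r ih =>
    rw [hr] at hle
    obtain ⟨W', hW'⟩ : ∃ W', W' = W.map (shiftN p K) := ⟨_, rfl⟩
    have hW'le : W' ≤ W := by rw [hW']; exact map_shiftN_le hW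
    have hge := finrank_map_shiftN_ge W
    rw [← hW'] at hge
    have hle' : Module.finrank K W' ≤ Module.finrank K W := Submodule.finrank_mono hW'le
    have hfr : Module.finrank K W' = r := by
      by_contra hne
      have : Module.finrank K W' = Module.finrank K W := by omega
      have heq : W' = W := Submodule.eq_of_le_of_finrank_eq hW'le this
      rw [hW'] at heq
      have := eq_bot_of_map_shiftN_eq heq
      rw [this, finrank_bot] at hr
      omega
    have hW'eq : W' = PL p K r := ih W' (by rw [hW']; exact shiftT_map_shiftN hW) (by omega) hfr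
    have hWle : W ≤ PL p K (r + 1) := by
      intro f hf
      have h1 : shiftN p K f ∈ PL p K r := by
        rw [← hW'eq, hW']; exact ⟨f, hf, rfl⟩
      rw [← map_shiftN_PL_eq hle] at h1
      obtain ⟨g, hg, hgf⟩ := h1
      have h2 : f - g ∈ PL p K (r + 1) := by
        apply PL_mono (show 1 ≤ r + 1 by omega)
        apply ker_shiftN_le
        rw [LinearMap.mem_ker, map_sub, hgf, sub_self]
      have := (PL p K (r + 1)).add_mem h2 hg
      rwa [sub_add_cancel] at this
    exact Submodule.eq_of_le_of_finrank_eq hWle (by rw [hr, finrank_PL hle])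

end

end Cfsg.Agent.helper4
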