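import Mathlib
import Cfsg.Prelude.Def_Perm
import Cfsg.Agent.Lib_helper4_Shift

/-!
Burnside's theorem on transitive groups of prime degree, by the polynomial method (helper4).
-/

set_option autoImplicit false
set_option linter.unusedSectionVars false

namespace Cfsg.Agent.helper4

open Polynomial

section
variable {p : ℕ} [Fact p.Prime] {K : Type*} [Field K] [CharP K p]

theorem sum_cast_pow (k : ℕ) (hk : k < p) :
    ∑ j : ZMod p, (ZMod.cast j : K) ^ k = if k = p - 1 then -1 else 0 := by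
  have hp : p.Prime := Fact.out
  have : NeZero p := ⟨hp.ne_zero⟩
  have hcast : ∀ j : ZMod p, (ZMod.cast j : K) = ZMod.castHom (dvd_refl p) K j := fun j => rfl
  split_ifs with h
  · have h1 : ∀ j : ZMod p, (ZMod.cast j : K) ^ k = 1 - if j = 0 then 1 else 0 := by
      intro j
      split_ifs with hj
      · rw [hj, ZMod.cast_zero, zero_pow (by rw [h]; have := hp.two_le; omega), sub_self]
      · rw [hcast, ← map_pow, h, ZMod.pow_card_sub_one_eq_one hj, map_one, sub_zero]
    rw [Finset.sum_congr rfl (fun j _ => h1 j), Finset.sum_sub_distrib, Finset.sum_ite_eq']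
    simp
  · have h1 := FiniteField.sum_pow_lt_card_sub_one (K := ZMod p) k (by rw [ZMod.card]; omega)
    have h2 := congrArg (ZMod.castHom (dvd_refl p) K) h1
    rw [map_sum, map_zero] at h2
    rw [← h2]
    apply Finset.sum_congr rfl
    intro j _
    rw [hcast, map_pow]

theorem sum_eval_cast (R : K[X]) (hR : R.degree < p) :
    ∑ j : ZMod p, R.eval (ZMod.cast j : K) = - R.coeff (p - 1) := by
  have hp : p.Prime := Fact.out
  have hnat : R.natDegree < p := by
    by_cases h0 : R = 0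
    · rw [h0, natDegree_zero]; exact hp.pos
    · exact (Polynomial.natDegree_lt_iff_degree_lt h0).mpr hR
  have h1 : ∀ j : ZMod p, R.eval (ZMod.cast j : K) =
      ∑ k ∈ Finset.range p, R.coeff k * (ZMod.cast j : K) ^ k :=
    fun j => Polynomial.eval_eq_sum_range' hnat _
  rw [Finset.sum_congr rfl (fun j _ => h1 j), Finset.sum_comm]
  have h2 : ∀ k ∈ Finset.range p, ∑ j : ZMod p, R.coeff k * (ZMod.cast j : K) ^ k =
      if k = p - 1 then - R.coeff (p - 1) else 0 := by
    intro k hk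
    rw [← Finset.mul_sum, sum_cast_pow k (Finset.mem_range.mp hk)]
    split_ifs with h
    · rw [h]; ring
    · ring
  rw [Finset.sum_congr rfl h2, Finset.sum_ite_eq']
  rw [if_pos (Finset.mem_range.mpr (by have := hp.pos; omega))]

theorem mem_PL_compl_iff {r : ℕ} (hr : r ≤ p) (f : ZMod p → K) :
    f ∈ PL p K (p - r) ↔ ∀ g ∈ PL p K r, ∑ j : ZMod p, f j * g j = 0 := by
  have hp : p.Prime := Fact.out
  constructor
  · intro hf g hg
    obtain ⟨P, hP, hfP⟩ := mem_PL.mp hf
    obtain ⟨Q, hQ, hgQ⟩ := mem_PL.mp hg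
    have h1 : ∀ j : ZMod p, f j * g j = (P * Q).eval (ZMod.cast j : K) := by
      intro j; rw [hfP, hgQ, eval_mul]
    rw [Finset.sum_congr rfl (fun j _ => h1 j)]
    by_cases hP0 : P = 0
    · simp [hP0]
    by_cases hQ0 : Q = 0
    · simp [hQ0]
    have hPn := (Polynomial.natDegree_lt_iff_degree_lt hP0).mpr hP
    have hQn := (Polynomial.natDegree_lt_iff_degree_lt hQ0).mpr hQ
    have hPQ : (P * Q).natDegree < p - 1 := by
      rw [Polynomial.natDegree_mul hP0 hQ0]; omega
    rw [sum_eval_cast (P * Q) (by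
      rw [Polynomial.degree_eq_natDegree (mul_ne_zero hP0 hQ0)]
      exact_mod_cast (by omega : (P * Q).natDegree < p)),
      Polynomial.coeff_eq_zero_of_natDegree_lt hPQ, neg_zero]
  · intro h
    have hf : f ∈ PL p K p := by rw [PL_top]; trivial
    obtain ⟨P, hP, hfP⟩ := mem_PL.mp hf
    rw [mem_PL]
    refine ⟨P, ?_, hfP⟩
    by_cases hP0 : P = 0
    · rw [hP0, degree_zero]; exact WithBot.bot_lt_coe _
    have hPn := (Polynomial.natDegree_lt_iff_degree_lt hP0).mpr hP
    rw [Polynomial.degree_eq_natDegree hP0]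
    by_contra hcon
    have hs : p - r ≤ P.natDegree := by
      by_contra h'
      apply hcon
      exact_mod_cast (by omega : P.natDegree < p - r)
    obtain ⟨m, hm⟩ : ∃ m, m = p - 1 - P.natDegree := ⟨_, rfl⟩
    have hQ : (X ^ m : K[X]).degree < r := by
      rw [Polynomial.degree_X_pow]
      exact_mod_cast (by omega : m < r)
    have h2 := h (evZ p K (X ^ m)) (mem_PL.mpr ⟨_, hQ, fun j => rfl⟩)
    have h1 : ∀ j : ZMod p, f j * evZ p K (X ^ m) j =
        (P * X ^ m).eval (ZMod.cast j : K) := by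
      intro j; rw [hfP, evZ_apply, eval_mul]
    rw [Finset.sum_congr rfl (fun j _ => h1 j)] at h2
    have hdeg : (P * X ^ m).degree < (p : WithBot ℕ) := by
      rw [Polynomial.degree_mul, Polynomial.degree_X_pow, Polynomial.degree_eq_natDegree hP0]
      exact_mod_cast (by omega : P.natDegree + m < p)
    rw [sum_eval_cast _ hdeg] at h2
    have h3 : p - 1 = P.natDegree + m := by omega
    rw [h3, Polynomial.coeff_mul_X_pow, neg_eq_zero] at h2
    exact hP0 (Polynomial.leadingCoeff_eq_zero.mp h2)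

/-- `W` is invariant under precomposition with the permutations of `H` -/
def InvUnder (H : Subgroup (Equiv.Perm (ZMod p))) (W : Submodule K (ZMod p → K)) : Prop :=
  ∀ h ∈ H, ∀ f ∈ W, (fun j => f (h j)) ∈ W

theorem InvUnder.dual {H : Subgroup (Equiv.Perm (ZMod p))} {r : ℕ} (hr : r ≤ p)
    (hinv : InvUnder H (PL p K r)) : InvUnder H (PL p K (p - r)) := by
  intro h hh f hf
  rw [mem_PL_compl_iff hr]
  intro g hg
  have h1 := (mem_PL_compl_iff hr f).mp hf _ (hinv h⁻¹ (H.inv_mem hh) g hg)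
  rw [← h1]
  rw [← Equiv.sum_comp h (fun i => f i * g (h⁻¹ i))]
  apply Finset.sum_congr rfl
  intro j _
  simp

theorem natDegree_le_one_of_inv {H : Subgroup (Equiv.Perm (ZMod p))} {r : ℕ} (hr2 : 2 ≤ r)
    (hsmall : 2 * (r - 1) ≤ p - 1) (hinv : InvUnder H (PL p K r)) (h : Equiv.Perm (ZMod p))
    (hh : h ∈ H) :
    ∃ P : K[X], P.natDegree ≤ 1 ∧ ∀ j : ZMod p, (ZMod.cast (h j) : K) = P.eval (ZMod.cast j : K) := by
  have hp : p.Prime := Fact.out
  have hX : evZ p K X ∈ PL p K r := by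
    rw [mem_PL]
    exact ⟨X, by rw [degree_X]; exact_mod_cast (by omega : 1 < r), fun j => rfl⟩
  obtain ⟨P, hP, hPj⟩ := mem_PL.mp (hinv h hh _ hX)
  simp only [evZ_apply, eval_X] at hPj
  refine ⟨P, ?_, hPj⟩
  by_contra hcon
  push Not at hcon
  have hP0 : P ≠ 0 := by
    rintro rfl
    simp at hcon
  have hPn : P.natDegree < r := (Polynomial.natDegree_lt_iff_degree_lt hP0).mpr hP
  obtain ⟨e, he⟩ : ∃ e, e = P.natDegree := ⟨_, rfl⟩
  obtain ⟨d, hd⟩ : ∃ d, d = r - 1 := ⟨_, rfl⟩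
  rw [← he] at hcon hPn
  have ha : e * (d / e) ≤ d := Nat.mul_div_le d e
  have hb : d < e * (d / e + 1) := Nat.lt_mul_div_succ d (by omega)
  have hc : d / e ≤ d / 2 := Nat.div_le_div_left (by omega) (by omega)
  obtain ⟨k, hk⟩ : ∃ k, k = d / e + 1 := ⟨_, rfl⟩
  have hek : e * k = e * (d / e) + e := by rw [hk]; ring
  rw [← hk] at hb
  have hkd : k ≤ d := by omega
  have hXk : evZ p K (X ^ k) ∈ PL p K r := by
    rw [mem_PL]
    exact ⟨X ^ k, by rw [degree_X_pow]; exact_mod_cast (by omega : k < r), fun j => rfl⟩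
  obtain ⟨Q, hQ, hQj⟩ := mem_PL.mp (hinv h hh _ hXk)
  simp only [evZ_apply, eval_X, eval_pow] at hQj
  have hPk : (P ^ k).natDegree = e * k := by
    rw [Polynomial.natDegree_pow, he, mul_comm]
  have hPk0 : P ^ k ≠ 0 := pow_ne_zero _ hP0
  have hz : P ^ k - Q = 0 := by
    apply evZ_injOn (p := p) (K := K) le_rfl
    · apply lt_of_le_of_lt (Polynomial.degree_sub_le _ _)
      rw [max_lt_iff]
      constructor
      · rw [Polynomial.degree_eq_natDegree hPk0, hPk]
        exact_mod_cast (by omega : e * k < p)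
      · exact lt_of_lt_of_le hQ (by exact_mod_cast (by omega : r ≤ p))
    · funext j
      rw [evZ_apply, eval_sub, eval_pow, ← hPj, hQj, sub_self]; rfl
  rw [sub_eq_zero] at hz
  rw [← hz, Polynomial.degree_eq_natDegree hPk0, hPk] at hQ
  have : e * k < r := by exact_mod_cast hQ
  omega

theorem mem_affine_of_natDegree_le_one (h : Equiv.Perm (ZMod p)) (P : K[X]) (hP : P.natDegree ≤ 1)
    (hPj : ∀ j : ZMod p, (ZMod.cast (h j) : K) = P.eval (ZMod.cast j : K)) :
    h ∈ Cfsg.affineGroup (ZMod p) := by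
  have hp : p.Prime := Fact.out
  haveI : Fact (1 < p) := ⟨hp.one_lt⟩
  have hcast : ∀ j : ZMod p, (ZMod.cast j : K) = ZMod.castHom (dvd_refl p) K j := fun j => rfl
  rw [Polynomial.eq_X_add_C_of_natDegree_le_one hP] at hPj
  simp only [eval_add, eval_mul, eval_C, eval_X] at hPj
  have h0 := hPj 0
  rw [ZMod.cast_zero, mul_zero, zero_add] at h0
  have h1 := hPj 1
  rw [ZMod.cast_one (dvd_refl p), mul_one, ← h0] at h1
  have hne : h 1 - h 0 ≠ 0 := by
    intro hcon
    have := h.injective (sub_eq_zero.mp hcon)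
    exact one_ne_zero this
  refine ⟨Units.mk0 _ hne, h 0, fun x => ?_⟩
  apply cast_injective (p := p) (K := K)
  change (ZMod.cast (h x) : K) = ZMod.cast (((Units.mk0 (h 1 - h 0) hne : (ZMod p)ˣ) : ZMod p) * x + h 0)
  rw [hPj x, ← h0, Units.val_mk0, hcast (_ + _), map_add, map_mul, map_sub, ← hcast, ← hcast,
    ← hcast, h1]
  ring

theorem le_affine_of_inv {H : Subgroup (Equiv.Perm (ZMod p))} {r : ℕ} (hr2 : 2 ≤ r)
    (hr : r ≤ p - 2) (hinv : InvUnder H (PL p K r)) : H ≤ Cfsg.affineGroup (ZMod p) := by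
  intro h hh
  by_cases hsmall : 2 * (r - 1) ≤ p - 1
  · obtain ⟨P, hP, hPj⟩ := natDegree_le_one_of_inv hr2 hsmall hinv h hh
    exact mem_affine_of_natDegree_le_one h P hP hPj
  · have hinv' := hinv.dual (by omega)
    obtain ⟨P, hP, hPj⟩ := natDegree_le_one_of_inv (r := p - r) (by omega) (by omega) hinv' h hh
    exact mem_affine_of_natDegree_le_one h P hP hPj

end

section affine
open scoped commutatorElement

/-- the translation subgroup -/
def transSub (R : Type*) [CommRing R] : Subgroup (Equiv.Perm R) where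
  carrier := {σ | ∃ c : R, ∀ z, σ z = z + c}
  one_mem' := ⟨0, fun z => by simp⟩
  mul_mem' := by
    rintro σ τ ⟨c, hc⟩ ⟨d, hd⟩
    exact ⟨d + c, fun z => by rw [Equiv.Perm.mul_apply, hd, hc]; ring⟩
  inv_mem' := by
    rintro σ ⟨c, hc⟩
    refine ⟨-c, fun z => ?_⟩
    apply σ.injective
    rw [Equiv.Perm.inv_def, Equiv.apply_symm_apply, hc]; ring

theorem commutator_mem_transSub {R : Type*} [CommRing R] (g₁ g₂ : Equiv.Perm R) (h₁ : g₁ ∈ Cfsg.affineGroup R)
    (h₂ : g₂ ∈ Cfsg.affineGroup R) : ⁅g₁, g₂⁆ ∈ transSub R := by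
  obtain ⟨a₁, b₁, h₁⟩ := h₁
  obtain ⟨a₂, b₂, h₂⟩ := h₂
  refine ⟨(a₁ : R) * b₂ + b₁ - (a₂ : R) * b₁ - b₂, fun z => ?_⟩
  obtain ⟨w, rfl⟩ : ∃ w, z = g₂ (g₁ w) := ⟨g₁⁻¹ (g₂⁻¹ z), by simp⟩
  rw [commutatorElement_def]
  simp only [Equiv.Perm.mul_apply, Equiv.Perm.inv_def, Equiv.symm_apply_apply]
  rw [h₁ (g₂ w), h₂ w, h₂ (g₁ w), h₁ w]
  ring

theorem isSolvable_of_le_affine {R : Type*} [CommRing R] (H : Subgroup (Equiv.Perm R))
    (hH : H ≤ Cfsg.affineGroup R) : Group.IsSolvable H := by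
  rw [Group.isSolvable_def]
  refine ⟨2, ?_⟩
  have h1 : derivedSeries H 1 ≤ (transSub R).comap H.subtype := by
    rw [derivedSeries_succ, derivedSeries_zero, Subgroup.commutator_le]
    intro g₁ _ g₂ _
    rw [Subgroup.mem_comap, map_commutatorElement]
    exact commutator_mem_transSub _ _ (hH g₁.2) (hH g₂.2)
  rw [derivedSeries_succ, eq_bot_iff, Subgroup.commutator_le]
  intro x hx y hy
  rw [Subgroup.mem_bot, commutatorElement_eq_one_iff_mul_comm]
  obtain ⟨c, hc⟩ := h1 hx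
  obtain ⟨d, hd⟩ := h1 hy
  apply Subtype.ext
  apply Equiv.ext
  intro z
  have hc' : ∀ z, (x : Equiv.Perm R) z = z + c := hc
  have hd' : ∀ z, (y : Equiv.Perm R) z = z + d := hd
  rw [Subgroup.coe_mul, Subgroup.coe_mul, Equiv.Perm.mul_apply, Equiv.Perm.mul_apply, hc', hd',
    hd', hc']
  ring

end affine

section ident
variable {p : ℕ} [Fact p.Prime]

theorem exists_equiv_zmod {α : Type*} [Fintype α] [DecidableEq α] (hα : Fintype.card α = p)
    (G : Subgroup (Equiv.Perm α)) [MulAction.IsPretransitive G α] :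
    ∃ (e : α ≃ ZMod p) (t : Equiv.Perm α), t ∈ G ∧ ∀ x, e (t x) = e x + 1 := by
  classical
  have hp : p.Prime := Fact.out
  haveI : Fact (1 < p) := ⟨hp.one_lt⟩
  haveI : NeZero p := ⟨hp.ne_zero⟩
  haveI : Nonempty α := by
    rw [← Fintype.card_pos_iff, hα]; exact hp.pos
  obtain ⟨x₀⟩ := ‹Nonempty α›
  have hdvd : p ∣ Fintype.card G := by
    have h1 := MulAction.index_stabilizer_of_transitive G x₀
    have h2 := Subgroup.index_dvd_card (MulAction.stabilizer G x₀)
    rw [h1, Nat.card_eq_fintype_card, hα, Nat.card_eq_fintype_card] at h2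
    exact h2
  obtain ⟨t, ht⟩ := exists_prime_orderOf_dvd_card p hdvd
  have ht' : orderOf (t : Equiv.Perm α) = p := by rw [Subgroup.orderOf_coe]; exact ht
  have hcyc : (t : Equiv.Perm α).IsCycle :=
    Equiv.Perm.isCycle_of_prime_order'' (by rw [hα]; exact hp) (by rw [ht', hα])
  have hsupp : (t : Equiv.Perm α).support = Finset.univ := by
    apply Finset.eq_univ_of_card
    rw [← hcyc.orderOf, ht', hα]
  have hmoved : ∀ x : α, (t : Equiv.Perm α) x ≠ x := by
    intro x
    rw [← Equiv.Perm.mem_support, hsupp]; exact Finset.mem_univ x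
  let φ : ZMod p → α := fun j => ((t : Equiv.Perm α) ^ j.val) x₀
  have hsurj : Function.Surjective φ := by
    intro y
    obtain ⟨i, hi⟩ := hcyc.exists_pow_eq (hmoved x₀) (hmoved y)
    refine ⟨(i : ZMod p), ?_⟩
    change ((t : Equiv.Perm α) ^ ((i : ZMod p)).val) x₀ = y
    rw [ZMod.val_natCast, ← hi]
    conv_lhs => rw [← ht', pow_mod_orderOf]
  have hbij : Function.Bijective φ :=
    (Fintype.bijective_iff_surjective_and_card φ).mpr ⟨hsurj, by rw [ZMod.card, hα]⟩
  refine ⟨(Equiv.ofBijective φ hbij).symm, t, t.2, fun x => ?_⟩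
  obtain ⟨j, rfl⟩ := hsurj x
  rw [Equiv.symm_apply_eq]
  have h1 : (Equiv.ofBijective φ hbij).symm (φ j) = j := by
    rw [Equiv.symm_apply_eq]; rfl
  rw [h1]
  change (t : Equiv.Perm α) (((t : Equiv.Perm α) ^ j.val) x₀) =
    ((t : Equiv.Perm α) ^ (j + 1).val) x₀
  rw [← Equiv.Perm.mul_apply, ← pow_succ']
  congr 1
  rw [pow_eq_pow_iff_modEq, ht', ZMod.val_add, ZMod.val_one]
  exact (Nat.mod_modEq _ _).symm

end ident

section transport
variable {p : ℕ} [Fact p.Prime] {K : Type*} [Field K] [CharP K p]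

theorem invUnder_eq_PL {H : Subgroup (Equiv.Perm (ZMod p))} {W₀ : Submodule K (ZMod p → K)}
    (hs : ∃ s ∈ H, ∀ j, s j = j + 1) (hinv : InvUnder H W₀) :
    Module.finrank K W₀ ≤ p ∧ W₀ = PL p K (Module.finrank K W₀) := by
  apply shift_invariant_eq_PL
  rintro _ ⟨f, hf, rfl⟩
  obtain ⟨s, hs, hsj⟩ := hs
  have := hinv s⁻¹ (H.inv_mem hs) f hf
  convert this using 2 with j
  rw [shiftT_apply]
  congr 1
  apply s.injective
  rw [hsj, Equiv.Perm.inv_def, Equiv.apply_symm_apply]; ring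

/-- the image of `G` under the identification `e` -/
noncomputable def imgGroup {α : Type*} (e : α ≃ ZMod p) (G : Subgroup (Equiv.Perm α)) :
    Subgroup (Equiv.Perm (ZMod p)) :=
  G.map (e.permCongrHom : Equiv.Perm α ≃* Equiv.Perm (ZMod p)).toMonoidHom

theorem mem_imgGroup {α : Type*} (e : α ≃ ZMod p) (G : Subgroup (Equiv.Perm α))
    (h : Equiv.Perm (ZMod p)) :
    h ∈ imgGroup e G ↔ ∃ g ∈ G, ∀ j, h j = e (g (e.symm j)) := by
  unfold imgGroup
  rw [Subgroup.mem_map]
  constructor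
  · rintro ⟨g, hg, rfl⟩
    exact ⟨g, hg, fun j => rfl⟩
  · rintro ⟨g, hg, hj⟩
    refine ⟨g, hg, ?_⟩
    apply Equiv.ext
    intro j
    rw [hj]; rfl

theorem isSolvable_of_imgGroup {α : Type*} (e : α ≃ ZMod p) (G : Subgroup (Equiv.Perm α))
    (h : Group.IsSolvable (imgGroup e G)) : Group.IsSolvable G := by
  have hinj : Function.Injective (e.permCongrHom : Equiv.Perm α ≃* Equiv.Perm (ZMod p)).toMonoidHom :=
    (e.permCongrHom : Equiv.Perm α ≃* Equiv.Perm (ZMod p)).injective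
  haveI : Group.IsSolvable
      (G.map (e.permCongrHom : Equiv.Perm α ≃* Equiv.Perm (ZMod p)).toMonoidHom) := h
  exact solvable_of_solvable_injective
    (f := (G.equivMapOfInjective _ hinj).toMonoidHom) (G.equivMapOfInjective _ hinj).injective

/-- transported subspace -/
def W0 {α : Type*} (e : α ≃ ZMod p) (W : Submodule K (α → K)) : Submodule K (ZMod p → K) :=
  W.comap (LinearMap.funLeft K K e)

theorem mem_W0 {α : Type*} (e : α ≃ ZMod p) (W : Submodule K (α → K)) (f₀ : ZMod p → K) :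
    f₀ ∈ W0 e W ↔ (fun x => f₀ (e x)) ∈ W := Iff.rfl

theorem mem_W0' {α : Type*} (e : α ≃ ZMod p) (W : Submodule K (α → K)) (f : α → K) :
    (fun j => f (e.symm j)) ∈ W0 e W ↔ f ∈ W := by
  rw [mem_W0]
  simp

theorem invUnder_W0 {α : Type*} (e : α ≃ ZMod p) (G : Subgroup (Equiv.Perm α))
    (W : Submodule K (α → K)) (hW : ∀ g ∈ G, ∀ f ∈ W, (fun x => f (g x)) ∈ W) :
    InvUnder (imgGroup e G) (W0 e W) := by
  intro h hh f₀ hf₀
  obtain ⟨g, hg, hj⟩ := (mem_imgGroup e G h).mp hh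
  rw [mem_W0] at hf₀ ⊢
  have := hW g hg _ hf₀
  convert this using 2 with x
  rw [hj, Equiv.symm_apply_apply]

theorem shift_mem_imgGroup {α : Type*} (e : α ≃ ZMod p) (G : Subgroup (Equiv.Perm α))
    (t : Equiv.Perm α) (ht : t ∈ G) (het : ∀ x, e (t x) = e x + 1) :
    ∃ s ∈ imgGroup e G, ∀ j, s j = j + 1 := by
  refine ⟨e.permCongrHom t, ⟨t, ht, rfl⟩, fun j => ?_⟩
  change e (t (e.symm j)) = j + 1
  rw [het, Equiv.apply_symm_apply]

/-- **Key dichotomy** for invariant subspaces between the constants and the sum-zero functions -/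
theorem heart_dichotomy {α : Type*} [Fintype α] [DecidableEq α] (hα : Fintype.card α = p)
    (G : Subgroup (Equiv.Perm α)) [MulAction.IsPretransitive G α]
    (W : Submodule K (α → K)) (hW : ∀ g ∈ G, ∀ f ∈ W, (fun x => f (g x)) ∈ W)
    (h₁ : (fun _ => (1 : K)) ∈ W) (h₂ : ∀ f ∈ W, ∑ x, f x = 0) :
    Group.IsSolvable G ∨ (∀ f ∈ W, ∃ c : K, f = fun _ => c) ∨ (∀ f : α → K, ∑ x, f x = 0 → f ∈ W) := by
  classical
  have hp : p.Prime := Fact.out
  have : NeZero p := ⟨hp.ne_zero⟩
  obtain ⟨e, t, ht, het⟩ := exists_equiv_zmod hα G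
  have hinv := invUnder_W0 e G W hW
  obtain ⟨hrp, hPL⟩ := invUnder_eq_PL (shift_mem_imgGroup e G t ht het) hinv
  obtain ⟨r, hr⟩ : ∃ r, r = Module.finrank K (W0 e W) := ⟨_, rfl⟩
  rw [← hr] at hrp hPL
  -- r ≥ 1
  have hr1 : 1 ≤ r := by
    by_contra hcon
    have h0 : r = 0 := by omega
    rw [h0, PL_zero] at hPL
    have : (fun _ : ZMod p => (1 : K)) ∈ W0 e W := by rw [mem_W0]; exact h₁
    rw [hPL, Submodule.mem_bot] at this
    exact one_ne_zero (congrFun this 0)
  -- r ≤ p - 1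
  have hr2 : r ≤ p - 1 := by
    by_contra hcon
    have h0 : r = p := by omega
    rw [h0, PL_top] at hPL
    have : (Pi.single 0 1 : ZMod p → K) ∈ W0 e W := by rw [hPL]; trivial
    rw [mem_W0] at this
    have h3 := h₂ _ this
    rw [Equiv.sum_comp e (fun j => (Pi.single 0 1 : ZMod p → K) j)] at h3
    simp at h3
  by_cases hr1' : r = 1
  · right; left
    intro f hf
    have h3 := (mem_W0' e W f).mpr hf
    rw [hPL, hr1', mem_PL] at h3
    obtain ⟨P, hP, hPj⟩ := h3
    have hPC : P = C (P.coeff 0) := by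
      apply Polynomial.eq_C_of_degree_le_zero
      by_cases hP0 : P = 0
      · rw [hP0]; simp
      · rw [Polynomial.degree_eq_natDegree hP0] at hP ⊢
        exact_mod_cast Nat.lt_succ_iff.mp (by exact_mod_cast hP)
    refine ⟨P.coeff 0, funext fun x => ?_⟩
    have := hPj (e x)
    rw [Equiv.symm_apply_apply, hPC, eval_C] at this
    rw [this]
  by_cases hr2' : r = p - 1
  · right; right
    intro f hf
    rw [← mem_W0' e W f, hPL, hr2']
    have hf₀ : (fun j => f (e.symm j)) ∈ PL p K p := by rw [PL_top]; trivial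
    obtain ⟨P, hP, hPj⟩ := mem_PL.mp hf₀
    rw [mem_PL]
    refine ⟨P, ?_, hPj⟩
    have h3 := sum_eval_cast P hP
    rw [← Finset.sum_congr rfl (fun j _ => hPj j), Equiv.sum_comp e.symm f, hf] at h3
    have h4 : P.coeff (p - 1) = 0 := by
      rw [eq_comm, neg_eq_zero] at h3; exact h3
    rw [Polynomial.degree_lt_iff_coeff_zero]
    intro m hm
    by_cases hm' : m = p - 1
    · rw [hm', h4]
    · apply Polynomial.coeff_eq_zero_of_degree_lt
      exact lt_of_lt_of_le hP (by exact_mod_cast (by omega : p ≤ m))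
  left
  apply isSolvable_of_imgGroup e G
  apply isSolvable_of_le_affine
  rw [hPL] at hinv
  exact le_affine_of_inv (K := K) (r := r) (by omega) (by omega) hinv

end transport

end Cfsg.Agent.helper4
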