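import Mathlib
import Cfsg.Prelude.Def_Perm
import Cfsg.Agent.Lib_helper4_Burnside

/-!
Burnside's theorem on transitive groups of prime degree, second part: a transitive group of
prime degree that is not doubly transitive is affine (helper4).
-/

set_option autoImplicit false
set_option linter.unusedSectionVars false

namespace Cfsg.Agent.helper4

open Polynomial

section
variable {p : ℕ} [Fact p.Prime] {K : Type*} [Field K] [CharP K p]

theorem addRight_mem {H : Subgroup (Equiv.Perm (ZMod p))} (hs : ∃ s ∈ H, ∀ j, s j = j + 1)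
    (c : ZMod p) : Equiv.addRight c ∈ H := by
  have hp : p.Prime := Fact.out
  have : NeZero p := ⟨hp.ne_zero⟩
  obtain ⟨s, hs, hsj⟩ := hs
  have key : ∀ n : ℕ, Equiv.addRight ((n : ℕ) : ZMod p) ∈ H := by
    intro n
    induction n with
    | zero =>
      convert H.one_mem
      apply Equiv.ext; intro z; simp
    | succ n ih =>
      have : Equiv.addRight (((n + 1 : ℕ)) : ZMod p) = s * Equiv.addRight ((n : ℕ) : ZMod p) := by
        apply Equiv.ext; intro z
        rw [Equiv.Perm.mul_apply, hsj]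
        simp only [Equiv.coe_addRight]
        push_cast; ring
      rw [this]
      exact H.mul_mem hs ih
  have := key c.val
  rwa [ZMod.natCast_zmod_val] at this

/-- the orbit of `1` under the stabiliser of `0` -/
def orbA (H : Subgroup (Equiv.Perm (ZMod p))) : Set (ZMod p) :=
  {y | ∃ h ∈ H, h 0 = 0 ∧ h 1 = y}

theorem zero_notMem_orbA (H : Subgroup (Equiv.Perm (ZMod p))) : (0 : ZMod p) ∉ orbA H := by
  have hp : p.Prime := Fact.out
  haveI : Fact (1 < p) := ⟨hp.one_lt⟩
  rintro ⟨h, _, h0, h1⟩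
  have := h.injective (h1.trans h0.symm)
  exact one_ne_zero this

theorem one_mem_orbA (H : Subgroup (Equiv.Perm (ZMod p))) : (1 : ZMod p) ∈ orbA H :=
  ⟨1, H.one_mem, rfl, rfl⟩

theorem orbA_key {H : Subgroup (Equiv.Perm (ZMod p))} (hs : ∃ s ∈ H, ∀ j, s j = j + 1)
    (h : Equiv.Perm (ZMod p)) (hh : h ∈ H) (x y : ZMod p) (hxy : y - x ∈ orbA H) :
    h y - h x ∈ orbA H := by
  obtain ⟨g, hg, hg0, hg1⟩ := hxy
  refine ⟨Equiv.addRight (-(h x)) * h * Equiv.addRight x * g,
    H.mul_mem (H.mul_mem (H.mul_mem (addRight_mem hs _) hh) (addRight_mem hs _)) hg, ?_, ?_⟩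
  · simp only [Equiv.Perm.mul_apply, Equiv.coe_addRight, hg0]
    ring_nf
  · simp only [Equiv.Perm.mul_apply, Equiv.coe_addRight, hg1]
    ring_nf

/-- concrete double transitivity -/
def TwoTrans (H : Subgroup (Equiv.Perm (ZMod p))) : Prop :=
  ∀ a b c d : ZMod p, a ≠ b → c ≠ d → ∃ h ∈ H, h a = c ∧ h b = d

theorem exists_notMem_orbA {H : Subgroup (Equiv.Perm (ZMod p))}
    (hs : ∃ s ∈ H, ∀ j, s j = j + 1) (h2 : ¬ TwoTrans H) :
    ∃ w : ZMod p, w ≠ 0 ∧ w ∉ orbA H := by
  by_contra hcon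
  push Not at hcon
  apply h2
  intro a b c d hab hcd
  obtain ⟨h₁, hh₁, h₁0, h₁1⟩ := hcon (b - a) (sub_ne_zero.mpr hab.symm)
  obtain ⟨h₂, hh₂, h₂0, h₂1⟩ := hcon (d - c) (sub_ne_zero.mpr hcd.symm)
  refine ⟨Equiv.addRight c * h₂ * h₁⁻¹ * Equiv.addRight (-a),
    H.mul_mem (H.mul_mem (H.mul_mem (addRight_mem hs _) hh₂) (H.inv_mem hh₁)) (addRight_mem hs _),
    ?_, ?_⟩
  · simp only [Equiv.Perm.mul_apply, Equiv.coe_addRight]
    rw [add_neg_cancel, ← h₁0, Equiv.Perm.inv_def, Equiv.symm_apply_apply, h₂0, zero_add]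
  · simp only [Equiv.Perm.mul_apply, Equiv.coe_addRight]
    rw [← sub_eq_add_neg, ← h₁1, Equiv.Perm.inv_def, Equiv.symm_apply_apply, h₂1]
    ring

open scoped Classical in
/-- the orbit as a finset -/
noncomputable def orbAF (H : Subgroup (Equiv.Perm (ZMod p))) : Finset (ZMod p) :=
  Finset.univ.filter (fun y => y ∈ orbA H)

theorem mem_orbAF (H : Subgroup (Equiv.Perm (ZMod p))) (y : ZMod p) :
    y ∈ orbAF H ↔ y ∈ orbA H := by
  unfold orbAF
  simp

/-- the operator `f ↦ (x ↦ ∑_{a ∈ A} f (x + a) - |A| f x)` -/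
noncomputable def opM (K : Type*) [Field K] (H : Subgroup (Equiv.Perm (ZMod p))) :
    (ZMod p → K) →ₗ[K] (ZMod p → K) :=
  ∑ a ∈ orbAF H, LinearMap.funLeft K K (fun x : ZMod p => x + a) -
    ((orbAF H).card : K) • LinearMap.id

theorem opM_apply (H : Subgroup (Equiv.Perm (ZMod p))) (f : ZMod p → K) (x : ZMod p) :
    opM K H f x = ∑ a ∈ orbAF H, f (x + a) - ((orbAF H).card : K) * f x := by
  unfold opM
  simp [LinearMap.sum_apply, Finset.sum_apply, LinearMap.funLeft_apply]

/-- equivariance of an operator -/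
def Equi (H : Subgroup (Equiv.Perm (ZMod p))) (M : (ZMod p → K) →ₗ[K] (ZMod p → K)) : Prop :=
  ∀ h ∈ H, ∀ f : ZMod p → K, M (fun j => f (h j)) = fun j => M f (h j)

theorem opM_equi {H : Subgroup (Equiv.Perm (ZMod p))} (hs : ∃ s ∈ H, ∀ j, s j = j + 1) :
    Equi H (opM K H) := by
  intro h hh f
  funext x
  rw [opM_apply, opM_apply]
  congr 1
  apply Finset.sum_nbij' (fun a => h (x + a) - h x) (fun b => h⁻¹ (h x + b) - x)
  · intro a ha
    rw [mem_orbAF] at ha ⊢
    apply orbA_key hs h hh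
    rwa [add_sub_cancel_left]
  · intro b hb
    rw [mem_orbAF] at hb ⊢
    have := orbA_key hs h⁻¹ (H.inv_mem hh) (h x) (h x + b) (by rwa [add_sub_cancel_left])
    rwa [Equiv.Perm.inv_def, Equiv.symm_apply_apply] at this
  · intro a _
    simp only [add_sub_cancel, Equiv.Perm.inv_def, Equiv.symm_apply_apply, add_sub_cancel_left]
  · intro b _
    simp only [add_sub_cancel, Equiv.Perm.inv_def, Equiv.apply_symm_apply, add_sub_cancel_left]
  · intro a _
    simp only [add_sub_cancel]

theorem Equi.ker {H : Subgroup (Equiv.Perm (ZMod p))} {M : (ZMod p → K) →ₗ[K] (ZMod p → K)}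
    (hM : Equi H M) : InvUnder H (LinearMap.ker M) := by
  intro h hh f hf
  rw [LinearMap.mem_ker] at hf ⊢
  rw [hM h hh f, hf]; rfl

theorem Equi.range {H : Subgroup (Equiv.Perm (ZMod p))} {M : (ZMod p → K) →ₗ[K] (ZMod p → K)}
    (hM : Equi H M) : InvUnder H (LinearMap.range M) := by
  rintro h hh _ ⟨f, rfl⟩
  exact ⟨fun j => f (h j), hM h hh f⟩

theorem Equi.comap {H : Subgroup (Equiv.Perm (ZMod p))} {M : (ZMod p → K) →ₗ[K] (ZMod p → K)}
    (hM : Equi H M) {U : Submodule K (ZMod p → K)} (hU : InvUnder H U) :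
    InvUnder H (U.comap M) := by
  intro h hh f hf
  rw [Submodule.mem_comap] at hf ⊢
  rw [hM h hh f]
  exact hU h hh _ hf

theorem mem_PL_one_const {f : ZMod p → K} (hf : f ∈ PL p K 1) (x y : ZMod p) : f x = f y := by
  obtain ⟨P, hP, hPj⟩ := mem_PL.mp hf
  have hPC : P = C (P.coeff 0) := by
    apply Polynomial.eq_C_of_degree_le_zero
    by_cases hP0 : P = 0
    · rw [hP0]; simp
    · rw [Polynomial.degree_eq_natDegree hP0] at hP ⊢
      exact_mod_cast Nat.lt_succ_iff.mp (by exact_mod_cast hP)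
  rw [hPj x, hPj y, hPC, eval_C, eval_C]

theorem le_affine_of_not_twoTrans {H : Subgroup (Equiv.Perm (ZMod p))}
    (hs : ∃ s ∈ H, ∀ j, s j = j + 1) (h2 : ¬ TwoTrans H) (hp5 : 5 ≤ p) :
    H ≤ Cfsg.affineGroup (ZMod p) := by
  classical
  have hp : p.Prime := Fact.out
  haveI : Fact (1 < p) := ⟨hp.one_lt⟩
  have hne : NeZero p := ⟨hp.ne_zero⟩
  obtain ⟨w, hw0, hwA⟩ := exists_notMem_orbA hs h2
  have hM : Equi H (opM (ZMod p) H) := opM_equi hs
  obtain ⟨M, hMdef⟩ : ∃ M, M = opM (ZMod p) H := ⟨_, rfl⟩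
  rw [← hMdef] at hM
  have hMapply : ∀ (f : ZMod p → ZMod p) (x : ZMod p),
      M f x = ∑ a ∈ orbAF H, f (x + a) - ((orbAF H).card : ZMod p) * f x := by
    intro f x; rw [hMdef, opM_apply]
  -- values of `M δ`
  have hδ1 : M (Pi.single 0 1) (-1) = 1 := by
    rw [hMapply, Finset.sum_eq_single_of_mem 1 ((mem_orbAF H 1).mpr (one_mem_orbA H))]
    · simp
    · intro b _ hb
      rw [Pi.single_apply, if_neg]
      intro h
      apply hb
      rw [neg_add_eq_zero] at h
      exact h.symm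
  have hδ0 : M (Pi.single 0 1) (-w) = 0 := by
    rw [hMapply, Finset.sum_eq_zero]
    · rw [Pi.single_apply, if_neg (neg_ne_zero.mpr hw0)]; simp
    · intro a ha
      rw [Pi.single_apply, if_neg]
      intro h
      rw [neg_add_eq_zero] at h
      rw [mem_orbAF, ← h] at ha
      exact hwA ha
  have hconst : (fun _ : ZMod p => (1 : ZMod p)) ∈ LinearMap.ker M := by
    rw [LinearMap.mem_ker]
    funext x
    rw [hMapply]
    simp
  obtain ⟨hmp, hker⟩ := invUnder_eq_PL hs hM.ker
  obtain ⟨hrp, hrange⟩ := invUnder_eq_PL hs hM.range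
  have hrn := LinearMap.finrank_range_add_finrank_ker M
  rw [Module.finrank_fintype_fun_eq_card, ZMod.card] at hrn
  obtain ⟨m, hm⟩ : ∃ m, m = Module.finrank (ZMod p) (LinearMap.ker M) := ⟨_, rfl⟩
  obtain ⟨r, hr⟩ : ∃ r, r = Module.finrank (ZMod p) (LinearMap.range M) := ⟨_, rfl⟩
  rw [← hm] at hmp hker hrn
  rw [← hr] at hrp hrange hrn
  have hm1 : 1 ≤ m := by
    by_contra hcon
    have h0 : m = 0 := by omega
    rw [hker, h0, PL_zero, Submodule.mem_bot] at hconst
    exact one_ne_zero (congrFun hconst 0)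
  have hmp' : m ≠ p := by
    intro h
    have : (Pi.single 0 1 : ZMod p → ZMod p) ∈ LinearMap.ker M := by
      rw [hker, h, PL_top]; trivial
    rw [LinearMap.mem_ker] at this
    rw [this] at hδ1
    exact zero_ne_one hδ1
  have hmp1 : m ≠ p - 1 := by
    intro h
    have hr1 : r = 1 := by omega
    have : M (Pi.single 0 1) ∈ PL p (ZMod p) 1 := by
      rw [← hr1, ← hrange]; exact LinearMap.mem_range_self M _
    have := mem_PL_one_const this (-1) (-w)
    rw [hδ1, hδ0] at this
    exact one_ne_zero this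
  by_cases hm2 : 2 ≤ m
  · have hinv := hM.ker
    rw [hker] at hinv
    exact le_affine_of_inv (K := ZMod p) hm2 (by omega) hinv
  · have hm1' : m = 1 := by omega
    have hr' : r = p - 1 := by omega
    rw [hm1'] at hker
    rw [hr'] at hrange
    have hW : InvUnder H ((LinearMap.ker M).comap M) := hM.comap hM.ker
    obtain ⟨hWp, hWPL⟩ := invUnder_eq_PL hs hW
    have hfr : Module.finrank (ZMod p) ((LinearMap.ker M).comap M) = 2 := by
      have h1 := LinearMap.finrank_range_add_finrank_ker (M.domRestrict ((LinearMap.ker M).comap M))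
      rw [LinearMap.range_domRestrict, Submodule.map_comap_eq, LinearMap.ker_domRestrict] at h1
      have hle : LinearMap.ker M ≤ (LinearMap.ker M).comap M := by
        intro f hf
        rw [Submodule.mem_comap, LinearMap.mem_ker.mp hf]
        exact Submodule.zero_mem _
      rw [(Submodule.comapSubtypeEquivOfLe hle).finrank_eq] at h1
      have h3 : LinearMap.range M ⊓ LinearMap.ker M = PL p (ZMod p) 1 := by
        rw [hrange, hker]
        exact inf_eq_right.mpr (PL_mono (by omega))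
      rw [h3, finrank_PL (by omega)] at h1
      have h4 : Module.finrank (ZMod p) (LinearMap.ker M) = 1 := by
        rw [hker, finrank_PL (by omega)]
      omega
    rw [hfr] at hWPL
    rw [hWPL] at hW
    exact le_affine_of_inv (K := ZMod p) le_rfl (by omega) hW

end

end Cfsg.Agent.helper4
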