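import Mathlib

set_option autoImplicit false
set_option linter.unusedSectionVars false

/-!
# Groups in which centralizers of involutions are elementary abelian 2-groups: local structure
-/

namespace Cfsg.Agent.helper4.Cit

variable {G : Type*} [Group G]

/-- centralizers of involutions are elementary abelian 2-groups -/
def CIT (G : Type*) [Group G] : Prop :=
  ∀ t : G, orderOf t = 2 →
    (∀ a ∈ Subgroup.centralizer ({t} : Set G), ∀ b ∈ Subgroup.centralizer ({t} : Set G),
      a * b = b * a) ∧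
    ∀ c ∈ Subgroup.centralizer ({t} : Set G), c ^ 2 = 1

theorem isPGroup_of_sq {H : Subgroup G} (h : ∀ c ∈ H, c ^ 2 = 1) : IsPGroup 2 H := by
  intro g
  refine ⟨1, ?_⟩
  apply Subtype.ext
  rw [pow_one, Subgroup.coe_pow, h g.1 g.2]
  rfl

theorem mem_centralizer_singleton {t x : G} :
    x ∈ Subgroup.centralizer ({t} : Set G) ↔ t * x = x * t := by
  rw [Subgroup.mem_centralizer_iff]
  simp

variable [Finite G]

theorem sylow_props (h : CIT G) (P : Sylow 2 G) (hP : (P : Subgroup G) ≠ ⊥) :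
    (∀ x ∈ P, x ^ 2 = 1) ∧ (∀ x ∈ P, ∀ y ∈ P, x * y = y * x) ∧
      ∀ t ∈ P, t ≠ 1 → Subgroup.centralizer ({t} : Set G) = P := by
  haveI : Nontrivial (P : Subgroup G) := (Subgroup.nontrivial_iff_ne_bot _).mpr hP
  have hPp : IsPGroup 2 (P : Subgroup G) := P.isPGroup'
  haveI := hPp.center_nontrivial
  have hcp : IsPGroup 2 (Subgroup.center (P : Subgroup G)) := hPp.to_subgroup _
  obtain ⟨k, hk⟩ := IsPGroup.iff_card.mp hcp
  have hk0 : k ≠ 0 := by
    intro h0
    rw [h0, pow_zero] at hk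
    have := Finite.one_lt_card (α := Subgroup.center (P : Subgroup G))
    omega
  have h2 : 2 ∣ Nat.card (Subgroup.center (P : Subgroup G)) := by
    rw [hk]; exact dvd_pow_self 2 hk0
  obtain ⟨x, hx⟩ := exists_prime_orderOf_dvd_card' 2 h2
  set z : G := ((x : (P : Subgroup G)) : G) with hz
  have hzord : orderOf z = 2 := by
    rw [hz, Subgroup.orderOf_coe, Subgroup.orderOf_coe]; exact hx
  have hzP : z ∈ P := (x : (P : Subgroup G)).2
  have hPle : (P : Subgroup G) ≤ Subgroup.centralizer ({z} : Set G) := by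
    intro y hy
    rw [mem_centralizer_singleton]
    have hxc := x.2
    rw [Subgroup.mem_center_iff] at hxc
    have := hxc ⟨y, hy⟩
    have h3 := congrArg (fun w : ↥(P : Subgroup G) => (w : G)) this
    simp only [Subgroup.coe_mul] at h3
    exact h3.symm
  obtain ⟨hcomm, hsq⟩ := h z hzord
  have hCz : Subgroup.centralizer ({z} : Set G) = P := P.is_maximal' (isPGroup_of_sq hsq) hPle
  have hsqP : ∀ x ∈ P, x ^ 2 = 1 := fun x hx => hsq x (hPle hx)
  have hcommP : ∀ x ∈ P, ∀ y ∈ P, x * y = y * x := fun x hx y hy => hcomm x (hPle hx) y (hPle hy)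
  refine ⟨hsqP, hcommP, ?_⟩
  intro t ht ht1
  have htord : orderOf t = 2 := orderOf_eq_prime (hsqP t ht) ht1
  obtain ⟨_, hsqt⟩ := h t htord
  apply P.is_maximal' (isPGroup_of_sq hsqt)
  intro y hy
  rw [mem_centralizer_singleton]
  exact hcommP t ht y hy

theorem mem_of_mem_normalizer (P : Sylow 2 G) {t : G} (ht : t ^ 2 = 1)
    (hn : t ∈ Subgroup.normalizer ((P : Subgroup G) : Set G)) : t ∈ P := by
  have hK : IsPGroup 2 (Subgroup.zpowers t) := by
    apply isPGroup_of_sq
    intro c hc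
    obtain ⟨k, rfl⟩ := Subgroup.mem_zpowers_iff.mp hc
    rw [← zpow_natCast, ← zpow_mul, mul_comm, zpow_mul, zpow_natCast, ht, one_zpow]
  have hle : Subgroup.zpowers t ≤ Subgroup.normalizer ((P : Subgroup G) : Set G) := by
    rw [Subgroup.zpowers_le]; exact hn
  have hsup := IsPGroup.to_sup_of_normal_right' hK P.isPGroup' hle
  have := P.is_maximal' hsup le_sup_right
  have h1 : Subgroup.zpowers t ≤ (P : Subgroup G) := by
    rw [← this]; exact le_sup_left
  exact h1 (Subgroup.mem_zpowers t)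

theorem ne_bot_of_mem (P : Sylow 2 G) {t : G} (htP : t ∈ P) (ht1 : t ≠ 1) :
    (P : Subgroup G) ≠ ⊥ := by
  intro h0
  have : t ∈ (P : Subgroup G) := htP
  rw [h0, Subgroup.mem_bot] at this
  exact ht1 this

/-- Distinct Sylow 2-subgroups intersect trivially. -/
theorem sylow_TI (h : CIT G) (P Q : Sylow 2 G) {t : G} (htP : t ∈ P) (htQ : t ∈ Q) (ht1 : t ≠ 1) :
    P = Q := by
  have hP : (P : Subgroup G) ≠ ⊥ := ne_bot_of_mem P htP ht1
  have hQ : (Q : Subgroup G) ≠ ⊥ := ne_bot_of_mem Q htQ ht1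
  have e1 := (sylow_props h P hP).2.2 t htP ht1
  have e2 := (sylow_props h Q hQ).2.2 t htQ ht1
  exact Sylow.ext (e1.symm.trans e2)

/-- every involution lies in a Sylow 2-subgroup, which is its centralizer -/
theorem exists_sylow_of_invol (h : CIT G) {t : G} (ht : orderOf t = 2) :
    ∃ P : Sylow 2 G, t ∈ P ∧ Subgroup.centralizer ({t} : Set G) = P := by
  have ht2 : t ^ 2 = 1 := by rw [← ht]; exact pow_orderOf_eq_one t
  have ht1 : t ≠ 1 := by
    intro h1; rw [h1, orderOf_one] at ht; norm_num at ht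
  have hK : IsPGroup 2 (Subgroup.zpowers t) := by
    apply isPGroup_of_sq
    intro c hc
    obtain ⟨k, rfl⟩ := Subgroup.mem_zpowers_iff.mp hc
    rw [← zpow_natCast, ← zpow_mul, mul_comm, zpow_mul, zpow_natCast, ht2, one_zpow]
  obtain ⟨P, hP⟩ := hK.exists_le_sylow
  have htP : t ∈ P := hP (Subgroup.mem_zpowers t)
  have hPne : (P : Subgroup G) ≠ ⊥ := ne_bot_of_mem P htP ht1
  exact ⟨P, htP, (sylow_props h P hPne).2.2 t htP ht1⟩

/-- Two involutions in different Sylow 2-subgroups are conjugate by an involution. -/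
theorem exists_swap_invol (h : CIT G) (P Q : Sylow 2 G) (hPQ : P ≠ Q) {t t' : G} (htP : t ∈ P)
    (ht'Q : t' ∈ Q) (ht1 : t ≠ 1) (ht'1 : t' ≠ 1) :
    ∃ s : G, s ^ 2 = 1 ∧ s ≠ 1 ∧ s * t * s⁻¹ = t' := by
  have hPne : (P : Subgroup G) ≠ ⊥ := ne_bot_of_mem P htP ht1
  have hQne : (Q : Subgroup G) ≠ ⊥ := ne_bot_of_mem Q ht'Q ht'1
  obtain ⟨hsqP, _, hCP⟩ := sylow_props h P hPne
  obtain ⟨hsqQ, _, hCQ⟩ := sylow_props h Q hQne
  have ht2 : t * t = 1 := by rw [← sq]; exact hsqP t htP
  have ht'2 : t' * t' = 1 := by rw [← sq]; exact hsqQ t' ht'Q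
  have htinv : t⁻¹ = t := inv_eq_of_mul_eq_one_left ht2
  have ht'inv : t'⁻¹ = t' := inv_eq_of_mul_eq_one_left ht'2
  set x := t * t' with hx
  have hxinv : x⁻¹ = t' * t := by rw [hx, mul_inv_rev, htinv, ht'inv]
  have hconj : t * x * t⁻¹ = x⁻¹ := by
    rw [hxinv, htinv, hx]
    calc t * (t * t') * t = (t * t) * t' * t := by group
      _ = t' * t := by rw [ht2, one_mul]
  have hconj' : t' * x * t'⁻¹ = x⁻¹ := by
    rw [hxinv, ht'inv, hx]
    calc t' * (t * t') * t' = t' * t * (t' * t') := by group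
      _ = t' * t := by rw [ht'2, mul_one]
  have hconjpow : ∀ k : ℕ, t * x ^ k * t⁻¹ = (x ^ k)⁻¹ := by
    intro k
    rw [← inv_pow, ← hconj, conj_pow]
  have hconjpow' : ∀ k : ℕ, t' * x ^ k * t'⁻¹ = (x ^ k)⁻¹ := by
    intro k
    rw [← inv_pow, ← hconj', conj_pow]
  set m := orderOf x with hm
  have hmpos : 0 < m := orderOf_pos x
  -- m is odd
  have hmodd : m % 2 = 1 := by
    by_contra hev
    have hev' : m % 2 = 0 := by omega
    obtain ⟨j, hj⟩ : ∃ j, m = 2 * j := ⟨m / 2, by omega⟩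
    have hj0 : 0 < j := by omega
    set z := x ^ j with hz
    have hz2 : z ^ 2 = 1 := by
      rw [hz, ← pow_mul, mul_comm, ← hj, hm, pow_orderOf_eq_one]
    have hz1 : z ≠ 1 := by
      intro h1
      have := orderOf_dvd_of_pow_eq_one h1
      rw [← hm, hj] at this
      have := Nat.le_of_dvd hj0 this
      omega
    have hzinv : z⁻¹ = z := by
      apply inv_eq_of_mul_eq_one_left
      rw [← sq]; exact hz2
    have hzt : z ∈ Subgroup.centralizer ({t} : Set G) := by
      rw [mem_centralizer_singleton]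
      have := hconjpow j
      rw [← hz, hzinv] at this
      calc t * z = t * z * t⁻¹ * t := by group
        _ = z * t := by rw [this]
    have hzt' : z ∈ Subgroup.centralizer ({t'} : Set G) := by
      rw [mem_centralizer_singleton]
      have := hconjpow' j
      rw [← hz, hzinv] at this
      calc t' * z = t' * z * t'⁻¹ * t' := by group
        _ = z * t' := by rw [this]
    rw [hCP t htP ht1] at hzt
    rw [hCQ t' ht'Q ht'1] at hzt'
    exact hPQ (sylow_TI h P Q hzt hzt' hz1)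
  obtain ⟨j, hj⟩ : ∃ j, m = 2 * j + 1 := ⟨m / 2, by omega⟩
  have hx2j : x ^ (2 * j) = x⁻¹ := by
    apply eq_inv_of_mul_eq_one_left
    rw [← pow_succ, ← hj, hm, pow_orderOf_eq_one]
  refine ⟨x ^ j * t, ?_, ?_, ?_⟩
  · rw [sq]
    have h1 := hconjpow j
    have h2 : t * x ^ j = (x ^ j)⁻¹ * t := by
      calc t * x ^ j = t * x ^ j * t⁻¹ * t := by group
        _ = (x ^ j)⁻¹ * t := by rw [h1]
    calc x ^ j * t * (x ^ j * t) = x ^ j * (t * x ^ j) * t := by group
      _ = x ^ j * ((x ^ j)⁻¹ * t) * t := by rw [h2]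
      _ = t * t := by group
      _ = 1 := ht2
  · intro h1
    -- then t = x^j, so t commutes with x, so x = x⁻¹ ...
    have h3 : t = (x ^ j)⁻¹ := by
      have : x ^ j * t = 1 := h1
      exact eq_inv_of_mul_eq_one_right this
    -- t commutes with x
    have h4 : t * x * t⁻¹ = x := by
      rw [h3]
      have : Commute ((x ^ j)⁻¹) x := ((Commute.refl x).pow_left j).inv_left
      rw [this.eq]; group
    rw [hconj] at h4
    -- x⁻¹ = x so x^2 = 1, m ∣ 2, m odd → m = 1 → x = 1 → t = t'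
    have h5 : x ^ 2 = 1 := by
      rw [sq]
      nth_rewrite 1 [← h4]
      group
    have h6 : m ∣ 2 := orderOf_dvd_of_pow_eq_one h5
    have h7 : m = 1 := by
      have := Nat.le_of_dvd (by norm_num) h6
      interval_cases m <;> omega
    have h8 : x = 1 := orderOf_eq_one_iff.mp h7
    have h9 : t = t' := by
      have : t * t' = 1 := h8
      rw [← ht'inv]; exact eq_inv_of_mul_eq_one_left this
    rw [← h9] at ht'Q
    exact hPQ (sylow_TI h P Q htP ht'Q ht1)
  · have h1 := hconjpow j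
    have h2 : t * (x ^ j)⁻¹ = x ^ j * t := by
      have : t * (x ^ j)⁻¹ * t⁻¹ = x ^ j := by
        have := congrArg (fun y => y⁻¹) h1
        simp only [mul_inv_rev, inv_inv] at this
        rw [htinv] at this ⊢
        rw [← mul_assoc] at this
        exact this
      calc t * (x ^ j)⁻¹ = t * (x ^ j)⁻¹ * t⁻¹ * t := by group
        _ = x ^ j * t := by rw [this]
    calc x ^ j * t * t * (x ^ j * t)⁻¹ = x ^ j * (t * t) * t⁻¹ * (x ^ j)⁻¹ := by group
      _ = x ^ j * (t * (x ^ j)⁻¹) := by rw [ht2, htinv]; group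
      _ = x ^ j * (x ^ j * t) := by rw [h2]
      _ = x ^ (2 * j) * t := by rw [two_mul, pow_add]; group
      _ = x⁻¹ * t := by rw [hx2j]
      _ = t' := by rw [hxinv, mul_assoc, ht2, mul_one]

end Cfsg.Agent.helper4.Cit
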