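import Mathlib
import Cfsg.Agent.Lib_helper4_CitA

set_option autoImplicit false
set_option linter.unusedSectionVars false

/-!
# CIT groups: the action on Sylow 2-subgroups, two-point stabilisers
-/

namespace Cfsg.Agent.helper4.Cit

variable {G : Type*} [Group G] [Finite G]

theorem mem_smul_iff (g : G) (P : Sylow 2 G) (x : G) : x ∈ g • P ↔ g⁻¹ * x * g ∈ P := by
  change x ∈ ((g • P : Sylow 2 G) : Subgroup G) ↔ _
  rw [Sylow.coe_subgroup_smul, Subgroup.mem_pointwise_smul_iff_inv_smul_mem]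
  simp only [MulAut.smul_def, MulAut.conj_inv_apply]
  rfl

theorem conj_mem_smul (g : G) (P : Sylow 2 G) {x : G} (hx : x ∈ P) : g * x * g⁻¹ ∈ g • P := by
  rw [mem_smul_iff]
  have : g⁻¹ * (g * x * g⁻¹) * g = x := by group
  rw [this]; exact hx

theorem fix_of_mem (P : Sylow 2 G) {t : G} (ht : t ∈ P) : t • P = P :=
  Sylow.smul_eq_iff_mem_normalizer.mpr (Subgroup.le_normalizer ht)

theorem conj_mem_of_fix (P : Sylow 2 G) {n x : G} (hn : n • P = P) (hx : x ∈ P) :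
    n * x * n⁻¹ ∈ P := by
  have := conj_mem_smul n P hx
  rw [hn] at this
  exact this

theorem eq_one_of_fix (h : CIT G) {P Q : Sylow 2 G} (hPQ : P ≠ Q) {t : G} (htP : t ∈ P)
    (htQ : t • Q = Q) : t = 1 := by
  by_contra ht1
  have hsq := (sylow_props h P (ne_bot_of_mem P htP ht1)).1 t htP
  have := mem_of_mem_normalizer Q hsq (Sylow.smul_eq_iff_mem_normalizer.mp htQ)
  exact hPQ (sylow_TI h P Q htP this ht1)

theorem invol_mem_of_fix (P : Sylow 2 G) {s : G} (hs : s ^ 2 = 1) (hsP : s • P = P) : s ∈ P :=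
  mem_of_mem_normalizer P hs (Sylow.smul_eq_iff_mem_normalizer.mp hsP)

theorem swap_of_conj (h : CIT G) {P Q : Sylow 2 G} {s t t' : G} (hs : s ^ 2 = 1) (htP : t ∈ P)
    (ht'Q : t' ∈ Q) (ht'1 : t' ≠ 1) (hst : s * t * s⁻¹ = t') : s • P = Q ∧ s • Q = P := by
  have h1 : t' ∈ s • P := by rw [← hst]; exact conj_mem_smul s P htP
  have e : s • P = Q := sylow_TI h _ _ h1 ht'Q ht'1
  refine ⟨e, ?_⟩
  rw [← e, ← mul_smul, ← sq, hs, one_smul]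

/-- the stabiliser of two points -/
def Hst (P Q : Sylow 2 G) : Subgroup G := MulAction.stabilizer G P ⊓ MulAction.stabilizer G Q

theorem mem_Hst {P Q : Sylow 2 G} {g : G} : g ∈ Hst P Q ↔ g • P = P ∧ g • Q = Q := by
  rw [Hst, Subgroup.mem_inf, MulAction.mem_stabilizer_iff, MulAction.mem_stabilizer_iff]

/-- elements of `Hst` that are involutions or trivial are trivial -/
theorem Hst_sq_eq_one (h : CIT G) {P Q : Sylow 2 G} (hPQ : P ≠ Q) {x : G} (hx : x ∈ Hst P Q)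
    (hx2 : x ^ 2 = 1) : x = 1 := by
  rw [mem_Hst] at hx
  have h1 := invol_mem_of_fix P hx2 hx.1
  exact eq_one_of_fix h hPQ h1 hx.2

/-- non-identity elements of a Sylow subgroup -/
abbrev PS (P : Sylow 2 G) := {t : G // t ∈ P ∧ t ≠ 1}

theorem Hst_conj_inj (h : CIT G) {P Q : Sylow 2 G} (hPQ : P ≠ Q) {t₁ : G} (ht₁ : t₁ ∈ P)
    (ht₁1 : t₁ ≠ 1) {a b : G} (ha : a ∈ Hst P Q) (hb : b ∈ Hst P Q)
    (hab : a * t₁ * a⁻¹ = b * t₁ * b⁻¹) : a = b := by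
  have hC := (sylow_props h P (ne_bot_of_mem P ht₁ ht₁1)).2.2 t₁ ht₁ ht₁1
  have hmem : b⁻¹ * a ∈ Subgroup.centralizer ({t₁} : Set G) := by
    rw [mem_centralizer_singleton]
    have : t₁ = a⁻¹ * (b * t₁ * b⁻¹) * a := by rw [← hab]; group
    calc t₁ * (b⁻¹ * a) = (a⁻¹ * (b * t₁ * b⁻¹) * a) * (b⁻¹ * a) := by rw [← this]
      _ = a⁻¹ * b * t₁ * (b⁻¹ * a * b⁻¹ * a) := by group
      _ = b⁻¹ * a * t₁ := by
        -- use hab again
        have h2 : b * t₁ * b⁻¹ = a * t₁ * a⁻¹ := hab.symm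
        have h3 : t₁ * b⁻¹ * a = b⁻¹ * a * t₁ := by
          calc t₁ * b⁻¹ * a = b⁻¹ * (b * t₁ * b⁻¹) * a := by group
            _ = b⁻¹ * (a * t₁ * a⁻¹) * a := by rw [h2]
            _ = b⁻¹ * a * t₁ := by group
        calc a⁻¹ * b * t₁ * (b⁻¹ * a * b⁻¹ * a) = a⁻¹ * b * (t₁ * b⁻¹ * a) * (b⁻¹ * a) := by group
          _ = a⁻¹ * b * (b⁻¹ * a * t₁) * (b⁻¹ * a) := by rw [h3]
          _ = t₁ * b⁻¹ * a := by group
          _ = b⁻¹ * a * t₁ := h3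
  rw [hC] at hmem
  have hfix : (b⁻¹ * a) • Q = Q := by
    have := (Hst P Q).mul_mem ((Hst P Q).inv_mem hb) ha
    exact (mem_Hst.mp this).2
  have := eq_one_of_fix h hPQ hmem hfix
  exact (inv_mul_eq_one.mp this).symm

theorem card_PS_eq (P Q : Sylow 2 G) : Nat.card (PS P) = Nat.card (PS Q) := by
  obtain ⟨g, rfl⟩ := MulAction.exists_smul_eq G P Q
  apply Nat.card_congr
  refine ⟨fun t => ⟨g * t.1 * g⁻¹, conj_mem_smul g P t.2.1, ?_⟩,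
    fun t => ⟨g⁻¹ * t.1 * g, (mem_smul_iff g P t.1).mp t.2.1, ?_⟩, ?_, ?_⟩
  · intro h1
    apply t.2.2
    have : t.1 = g⁻¹ * (g * t.1 * g⁻¹) * g := by group
    rw [this, h1]; group
  · intro h1
    apply t.2.2
    have : t.1 = g * (g⁻¹ * t.1 * g) * g⁻¹ := by group
    rw [this, h1]; group
  · intro t
    apply Subtype.ext
    change g⁻¹ * (g * t.1 * g⁻¹) * g = t.1
    group
  · intro t
    apply Subtype.ext
    change g * (g⁻¹ * t.1 * g) * g⁻¹ = t.1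
    group

/-- The conjugation action of the two-point stabiliser on `P∖1` is regular. -/
theorem Hst_conj_surj (h : CIT G) {P Q : Sylow 2 G} (hPQ : P ≠ Q) {t₁ : G} (ht₁ : t₁ ∈ P)
    (ht₁1 : t₁ ≠ 1) {t : G} (ht : t ∈ P) (ht1 : t ≠ 1) :
    ∃ a ∈ Hst P Q, a * t₁ * a⁻¹ = t := by
  classical
  -- injection Hst → PS P
  let f : Hst P Q → PS P := fun a => ⟨a.1 * t₁ * a.1⁻¹,
    conj_mem_of_fix P (mem_Hst.mp a.2).1 ht₁, by
      intro h1
      apply ht₁1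
      have : t₁ = a.1⁻¹ * (a.1 * t₁ * a.1⁻¹) * a.1 := by group
      rw [this, h1]; group⟩
  have hf : Function.Injective f := by
    intro a b hab
    apply Subtype.ext
    exact Hst_conj_inj h hPQ ht₁ ht₁1 a.2 b.2 (congrArg Subtype.val hab)
  -- injection PS Q → Hst
  obtain ⟨t₀, ht₀Q, ht₀1⟩ : ∃ t₀ : G, t₀ ∈ Q ∧ t₀ ≠ 1 := by
    obtain ⟨g, hg⟩ := MulAction.exists_smul_eq G P Q
    refine ⟨g * t₁ * g⁻¹, by rw [← hg]; exact conj_mem_smul g P ht₁, ?_⟩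
    intro h1
    apply ht₁1
    have : t₁ = g⁻¹ * (g * t₁ * g⁻¹) * g := by group
    rw [this, h1]; group
  have hex : ∀ t₂ : PS Q, ∃ s : G, s ^ 2 = 1 ∧ s ≠ 1 ∧ s * t₁ * s⁻¹ = t₂.1 :=
    fun t₂ => exists_swap_invol h P Q hPQ ht₁ t₂.2.1 ht₁1 t₂.2.2
  obtain ⟨s₀, hs₀2, _, hs₀c⟩ := hex ⟨t₀, ht₀Q, ht₀1⟩
  have hs₀sw := swap_of_conj h hs₀2 ht₁ ht₀Q ht₀1 hs₀c
  let g : PS Q → Hst P Q := fun t₂ => ⟨s₀ * (hex t₂).choose, by
    have hspec := (hex t₂).choose_spec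
    have hsw := swap_of_conj h hspec.1 ht₁ t₂.2.1 t₂.2.2 hspec.2.2
    rw [mem_Hst]
    constructor
    · rw [mul_smul, hsw.1, hs₀sw.2]
    · rw [mul_smul, hsw.2, hs₀sw.1]⟩
  have hg : Function.Injective g := by
    intro t₂ t₂' h1
    have h2 : s₀ * (hex t₂).choose = s₀ * (hex t₂').choose := congrArg Subtype.val h1
    have h3 : (hex t₂).choose = (hex t₂').choose := mul_left_cancel h2
    apply Subtype.ext
    rw [← (hex t₂).choose_spec.2.2, ← (hex t₂').choose_spec.2.2, h3]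
  have hcard : Nat.card (PS P) ≤ Nat.card (Hst P Q) := by
    rw [card_PS_eq P Q]
    exact Nat.card_le_card_of_injective g hg
  have hbij : Function.Bijective f := hf.bijective_of_nat_card_le hcard
  obtain ⟨a, ha⟩ := hbij.2 ⟨t, ht, ht1⟩
  exact ⟨a.1, a.2, congrArg Subtype.val ha⟩

theorem card_Hst (h : CIT G) {P Q : Sylow 2 G} (hPQ : P ≠ Q) {t₁ : G} (ht₁ : t₁ ∈ P)
    (ht₁1 : t₁ ≠ 1) : Nat.card (Hst P Q) = Nat.card (PS P) := by
  classical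
  apply Nat.card_congr
  refine Equiv.ofBijective (fun a => (⟨a.1 * t₁ * a.1⁻¹,
    conj_mem_of_fix P (mem_Hst.mp a.2).1 ht₁, by
      intro h1
      apply ht₁1
      have : t₁ = a.1⁻¹ * (a.1 * t₁ * a.1⁻¹) * a.1 := by group
      rw [this, h1]; group⟩ : PS P)) ⟨?_, ?_⟩
  · intro a b hab
    apply Subtype.ext
    exact Hst_conj_inj h hPQ ht₁ ht₁1 a.2 b.2 (congrArg Subtype.val hab)
  · intro t
    obtain ⟨a, ha, hat⟩ := Hst_conj_surj h hPQ ht₁ ht₁1 t.2.1 t.2.2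
    exact ⟨⟨a, ha⟩, Subtype.ext hat⟩

/-- `N(P) = P · Hst P Q`. -/
theorem normalizer_decomp (h : CIT G) {P Q : Sylow 2 G} (hPQ : P ≠ Q) {t₁ : G} (ht₁ : t₁ ∈ P)
    (ht₁1 : t₁ ≠ 1) {n : G} (hn : n • P = P) : ∃ a ∈ P, ∃ k ∈ Hst P Q, n = a * k := by
  have hC := (sylow_props h P (ne_bot_of_mem P ht₁ ht₁1)).2.2 t₁ ht₁ ht₁1
  have h1 : n * t₁ * n⁻¹ ∈ P := conj_mem_of_fix P hn ht₁
  have h2 : n * t₁ * n⁻¹ ≠ 1 := by
    intro h1
    apply ht₁1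
    have : t₁ = n⁻¹ * (n * t₁ * n⁻¹) * n := by group
    rw [this, h1]; group
  obtain ⟨k, hk, hkt⟩ := Hst_conj_surj h hPQ ht₁ ht₁1 h1 h2
  have hmem : k⁻¹ * n ∈ Subgroup.centralizer ({t₁} : Set G) := by
    rw [mem_centralizer_singleton]
    have h3 : t₁ = k⁻¹ * (n * t₁ * n⁻¹) * k := by rw [← hkt]; group
    calc t₁ * (k⁻¹ * n) = k⁻¹ * (n * t₁ * n⁻¹) * k * (k⁻¹ * n) := by rw [← h3]
      _ = k⁻¹ * n * t₁ := by group
  rw [hC] at hmem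
  have hkP : k • P = P := (mem_Hst.mp hk).1
  refine ⟨k * (k⁻¹ * n) * k⁻¹, conj_mem_of_fix P hkP hmem, k, hk, by group⟩

/-- An involution interchanging `P` and `Q` inverts the two-point stabiliser. -/
theorem Hst_inverted (h : CIT G) {P Q : Sylow 2 G} (hPQ : P ≠ Q) {s : G} (hs2 : s ^ 2 = 1)
    (hsP : s • P = Q) (hsQ : s • Q = P) {x : G} (hx : x ∈ Hst P Q) : s * x * s⁻¹ = x⁻¹ := by
  classical
  have hs1 : s ≠ 1 := by
    intro h1
    rw [h1, one_smul] at hsP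
    exact hPQ hsP
  have hsinv : s⁻¹ = s := by
    apply inv_eq_of_mul_eq_one_left
    rw [← sq]; exact hs2
  have hnorm : ∀ y ∈ Hst P Q, s * y * s⁻¹ ∈ Hst P Q := by
    intro y hy
    rw [mem_Hst] at hy ⊢
    constructor
    · rw [mul_smul, mul_smul, hsinv, hsP, hy.2, hsQ]
    · rw [mul_smul, mul_smul, hsinv, hsQ, hy.1, hsP]
  let φ : Hst P Q → Hst P Q := fun y => ⟨y.1⁻¹ * (s * y.1 * s⁻¹),
    (Hst P Q).mul_mem ((Hst P Q).inv_mem y.2) (hnorm y.1 y.2)⟩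
  have hφ : Function.Injective φ := by
    intro y y' hyy
    have h1 : y.1⁻¹ * (s * y.1 * s⁻¹) = y'.1⁻¹ * (s * y'.1 * s⁻¹) := congrArg Subtype.val hyy
    -- w = y' y⁻¹ commutes with s
    set w := y'.1 * y.1⁻¹ with hw
    have hwmem : w ∈ Hst P Q := (Hst P Q).mul_mem y'.2 ((Hst P Q).inv_mem y.2)
    have hwc : s * w * s⁻¹ = w := by
      have h2 : s * y'.1 * s⁻¹ = y'.1 * y.1⁻¹ * (s * y.1 * s⁻¹) := by
        calc s * y'.1 * s⁻¹ = y'.1 * (y'.1⁻¹ * (s * y'.1 * s⁻¹)) := by group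
          _ = y'.1 * (y.1⁻¹ * (s * y.1 * s⁻¹)) := by rw [h1]
          _ = y'.1 * y.1⁻¹ * (s * y.1 * s⁻¹) := by group
      calc s * w * s⁻¹ = (s * y'.1 * s⁻¹) * (s * y.1 * s⁻¹)⁻¹ := by rw [hw]; group
        _ = y'.1 * y.1⁻¹ * (s * y.1 * s⁻¹) * (s * y.1 * s⁻¹)⁻¹ := by rw [h2]
        _ = w := by rw [hw]; group
    -- w ∈ C(s), a 2-group
    have hsord : orderOf s = 2 := orderOf_eq_prime hs2 hs1
    have hwC : w ∈ Subgroup.centralizer ({s} : Set G) := by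
      rw [mem_centralizer_singleton]
      calc s * w = s * w * s⁻¹ * s := by group
        _ = w * s := by rw [hwc]
    have hw2 : w ^ 2 = 1 := (h s hsord).2 w hwC
    have hw1 : w = 1 := Hst_sq_eq_one h hPQ hwmem hw2
    apply Subtype.ext
    have : y'.1 = w * y.1 := by rw [hw]; group
    rw [this, hw1, one_mul]
  have hsurj : Function.Surjective φ := Finite.surjective_of_injective hφ
  obtain ⟨y, hy⟩ := hsurj ⟨x, hx⟩
  have hxy : x = y.1⁻¹ * (s * y.1 * s⁻¹) := (congrArg Subtype.val hy).symm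
  rw [hxy]
  have hss : s * s = 1 := by rw [← sq]; exact hs2
  calc s * (y.1⁻¹ * (s * y.1 * s⁻¹)) * s⁻¹ = (s * y.1⁻¹ * s⁻¹) * (s * s) * y.1 * (s⁻¹ * s⁻¹) := by
        group
    _ = (s * y.1⁻¹ * s⁻¹) * y.1 := by
        rw [hss, hsinv, hss]; group
    _ = (y.1⁻¹ * (s * y.1 * s⁻¹))⁻¹ := by group

theorem Hst_comm (h : CIT G) {P Q : Sylow 2 G} (hPQ : P ≠ Q) {t₁ : G} (ht₁ : t₁ ∈ P)
    (ht₁1 : t₁ ≠ 1) {x y : G} (hx : x ∈ Hst P Q) (hy : y ∈ Hst P Q) : x * y = y * x := by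
  obtain ⟨t₀, ht₀Q, ht₀1⟩ : ∃ t₀ : G, t₀ ∈ Q ∧ t₀ ≠ 1 := by
    obtain ⟨g, hg⟩ := MulAction.exists_smul_eq G P Q
    refine ⟨g * t₁ * g⁻¹, by rw [← hg]; exact conj_mem_smul g P ht₁, ?_⟩
    intro h1
    apply ht₁1
    have : t₁ = g⁻¹ * (g * t₁ * g⁻¹) * g := by group
    rw [this, h1]; group
  obtain ⟨s, hs2, _, hsc⟩ := exists_swap_invol h P Q hPQ ht₁ ht₀Q ht₁1 ht₀1
  obtain ⟨hsP, hsQ⟩ := swap_of_conj h hs2 ht₁ ht₀Q ht₀1 hsc
  have e1 := Hst_inverted h hPQ hs2 hsP hsQ hx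
  have e2 := Hst_inverted h hPQ hs2 hsP hsQ hy
  have e3 := Hst_inverted h hPQ hs2 hsP hsQ ((Hst P Q).mul_mem hx hy)
  have e4 : s * (x * y) * s⁻¹ = (s * x * s⁻¹) * (s * y * s⁻¹) := by group
  rw [e4, e1, e2, ← mul_inv_rev] at e3
  exact (inv_injective e3).symm

end Cfsg.Agent.helper4.Cit
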