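import Mathlib
import Cfsg.Agent.Lib_helper4_CitB

set_option autoImplicit false
set_option linter.unusedSectionVars false

/-!
# CIT groups: the action on Sylow 2-subgroups is sharply 3-transitive
-/

namespace Cfsg.Agent.helper4.Cit

variable {G : Type*} [Group G] [Finite G]

/-- every Sylow 2-subgroup has two distinct non-identity elements -/
def Big (G : Type*) [Group G] : Prop :=
  ∀ P : Sylow 2 G, ∃ a b : G, a ∈ P ∧ b ∈ P ∧ a ≠ 1 ∧ b ≠ 1 ∧ a ≠ b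

theorem exists_ne_one_mem (hq : Big G) (P : Sylow 2 G) : ∃ t : G, t ∈ P ∧ t ≠ 1 := by
  obtain ⟨a, _, ha, _, ha1, _, _⟩ := hq P
  exact ⟨a, ha, ha1⟩

theorem exists_Hst_ne_one (h : CIT G) (hq : Big G) {P Q : Sylow 2 G} (hPQ : P ≠ Q) :
    ∃ k ∈ Hst P Q, k ≠ 1 := by
  obtain ⟨a, b, ha, hb, ha1, hb1, hab⟩ := hq P
  obtain ⟨k, hk, hka⟩ := Hst_conj_surj h hPQ ha ha1 hb hb1
  refine ⟨k, hk, ?_⟩
  intro h1
  rw [h1] at hka
  apply hab
  simpa using hka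

theorem card_Hst_eq (h : CIT G) (hq : Big G) {P Q P' Q' : Sylow 2 G} (hPQ : P ≠ Q)
    (hPQ' : P' ≠ Q') : Nat.card (Hst P Q) = Nat.card (Hst P' Q') := by
  obtain ⟨t, ht, ht1⟩ := exists_ne_one_mem hq P
  obtain ⟨t', ht', ht'1⟩ := exists_ne_one_mem hq P'
  rw [card_Hst h hPQ ht ht1, card_Hst h hPQ' ht' ht'1, card_PS_eq P P']

theorem Hst_symm (P Q : Sylow 2 G) : Hst P Q = Hst Q P := by
  ext g
  rw [mem_Hst, mem_Hst, and_comm]

theorem exists_swap (h : CIT G) (hq : Big G) {P Q : Sylow 2 G} (hPQ : P ≠ Q) :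
    ∃ s : G, s ^ 2 = 1 ∧ s • P = Q ∧ s • Q = P := by
  obtain ⟨t, ht, ht1⟩ := exists_ne_one_mem hq P
  obtain ⟨t', ht', ht'1⟩ := exists_ne_one_mem hq Q
  obtain ⟨s, hs2, _, hsc⟩ := exists_swap_invol h P Q hPQ ht ht' ht1 ht'1
  obtain ⟨h1, h2⟩ := swap_of_conj h hs2 ht ht' ht'1 hsc
  exact ⟨s, hs2, h1, h2⟩

/-- Two distinct two-point stabilisers through `P` with a common ... cannot coincide. -/
theorem no_common_stab (h : CIT G) (hq : Big G) {P A B : Sylow 2 G} (hPA : P ≠ A) (hPB : P ≠ B)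
    (hAB : A ≠ B) (hH : Hst P A = Hst P B) : False := by
  obtain ⟨s₁, hs₁2, hs₁P, hs₁A⟩ := exists_swap h hq hPA
  obtain ⟨s₂, hs₂2, hs₂P, hs₂B⟩ := exists_swap h hq hPB
  obtain ⟨s₃, hs₃2, hs₃A, hs₃B⟩ := exists_swap h hq hAB
  have hfixA : ∀ x ∈ Hst P A, x • A = A := fun x hx => (mem_Hst.mp hx).2
  have hfixB : ∀ x ∈ Hst P A, x • B = B := fun x hx => by
    rw [hH] at hx; exact (mem_Hst.mp hx).2
  have hfixP : ∀ x ∈ Hst P A, x • P = P := fun x hx => (mem_Hst.mp hx).1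
  have hHAB : ∀ x ∈ Hst P A, x ∈ Hst A B := fun x hx => mem_Hst.mpr ⟨hfixA x hx, hfixB x hx⟩
  have hHBA : Hst P A = Hst B A := by
    apply Subgroup.eq_of_le_of_card_ge
    · intro x hx
      exact mem_Hst.mpr ⟨hfixB x hx, hfixA x hx⟩
    · exact le_of_eq (card_Hst_eq h hq (Ne.symm hAB) hPA)
  have i1 : ∀ x ∈ Hst P A, s₁ * x * s₁⁻¹ = x⁻¹ := fun x hx =>
    Hst_inverted h hPA hs₁2 hs₁P hs₁A hx
  have i2 : ∀ x ∈ Hst P A, s₂ * x * s₂⁻¹ = x⁻¹ := fun x hx =>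
    Hst_inverted h hPB hs₂2 hs₂P hs₂B (hH ▸ hx)
  have i3 : ∀ x ∈ Hst P A, s₃ * x * s₃⁻¹ = x⁻¹ := fun x hx =>
    Hst_inverted h hAB hs₃2 hs₃A hs₃B (hHAB x hx)
  set g := s₃ * s₁ * s₂ with hg
  have hgB : g • B = B := by
    rw [hg, mul_smul, mul_smul, hs₂B, hs₁P, hs₃A]
  have hginv : ∀ x ∈ Hst P A, g * x * g⁻¹ = x⁻¹ := by
    intro x hx
    have hx' : x⁻¹ ∈ Hst P A := (Hst P A).inv_mem hx
    have e1 : s₁ * x⁻¹ * s₁⁻¹ = x := by rw [i1 _ hx', inv_inv]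
    calc g * x * g⁻¹ = s₃ * (s₁ * (s₂ * x * s₂⁻¹) * s₁⁻¹) * s₃⁻¹ := by rw [hg]; group
      _ = s₃ * (s₁ * x⁻¹ * s₁⁻¹) * s₃⁻¹ := by rw [i2 x hx]
      _ = s₃ * x * s₃⁻¹ := by rw [e1]
      _ = x⁻¹ := i3 x hx
  obtain ⟨tB, htB, htB1⟩ := exists_ne_one_mem hq B
  obtain ⟨b, hb, k, hk, hgbk⟩ := normalizer_decomp h (Ne.symm hAB) htB htB1 hgB
  rw [← hHBA] at hk
  -- b inverts H
  have hbinv : ∀ x ∈ Hst P A, b * x * b⁻¹ = x⁻¹ := by
    intro x hx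
    obtain ⟨tP, htP, htP1⟩ := exists_ne_one_mem hq P
    have hc : k⁻¹ * x * k = x := by
      have := Hst_comm h hPA htP htP1 hx hk
      calc k⁻¹ * x * k = k⁻¹ * (x * k) := by group
        _ = k⁻¹ * (k * x) := by rw [this]
        _ = x := by group
    have hb' : b = g * k⁻¹ := by rw [hgbk]; group
    calc b * x * b⁻¹ = g * (k⁻¹ * x * k) * g⁻¹ := by rw [hb']; group
      _ = g * x * g⁻¹ := by rw [hc]
      _ = x⁻¹ := hginv x hx
  -- every element of H is trivial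
  obtain ⟨x, hx, hx1⟩ := exists_Hst_ne_one h hq hPA
  have hxB : x • B = B := hfixB x hx
  have hmemB : b * (x * b⁻¹ * x⁻¹) ∈ B := by
    have h1 : x * b⁻¹ * x⁻¹ ∈ B := conj_mem_of_fix B hxB ((B : Subgroup G).inv_mem hb)
    exact (B : Subgroup G).mul_mem hb h1
  have heq : b * (x * b⁻¹ * x⁻¹) = x⁻¹ * x⁻¹ := by
    calc b * (x * b⁻¹ * x⁻¹) = (b * x * b⁻¹) * x⁻¹ := by group
      _ = x⁻¹ * x⁻¹ := by rw [hbinv x hx]
  rw [heq] at hmemB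
  have hfix : (x⁻¹ * x⁻¹) • P = P :=
    hfixP _ ((Hst P A).mul_mem ((Hst P A).inv_mem hx) ((Hst P A).inv_mem hx))
  have h1 := eq_one_of_fix h (Ne.symm hPB) hmemB hfix
  have hx2 : x ^ 2 = 1 := by
    have : (x * x)⁻¹ = 1 := by rw [mul_inv_rev]; exact h1
    rw [sq]; exact inv_eq_one.mp this
  exact hx1 (Hst_sq_eq_one h hPA hx hx2)

/-- No non-identity element fixes three Sylow 2-subgroups. -/
theorem three_fix (h : CIT G) (hq : Big G) {P A B : Sylow 2 G} (hPA : P ≠ A) (hPB : P ≠ B)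
    (hAB : A ≠ B) {x : G} (hxP : x • P = P) (hxA : x • A = A) (hxB : x • B = B) : x = 1 := by
  by_contra hx1
  obtain ⟨tP, htP, htP1⟩ := exists_ne_one_mem hq P
  have hxPA : x ∈ Hst P A := mem_Hst.mpr ⟨hxP, hxA⟩
  have hxPB : x ∈ Hst P B := mem_Hst.mpr ⟨hxP, hxB⟩
  have key : ∀ {A B : Sylow 2 G}, P ≠ A → P ≠ B → x ∈ Hst P A → x ∈ Hst P B →
      Hst P A ≤ Hst P B := by
    intro A B hPA hPB hxPA hxPB y hy
    obtain ⟨a, ha, k, hk, hyak⟩ := normalizer_decomp h hPB htP htP1 (mem_Hst.mp hy).1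
    have c1 : x * y = y * x := Hst_comm h hPA htP htP1 hxPA hy
    have c2 : x * k = k * x := Hst_comm h hPB htP htP1 hxPB hk
    have ha' : a = y * k⁻¹ := by rw [hyak]; group
    have c3 : x * a = a * x := by
      have c2' : x * k⁻¹ = k⁻¹ * x := by
        calc x * k⁻¹ = k⁻¹ * (k * x) * k⁻¹ := by group
          _ = k⁻¹ * (x * k) * k⁻¹ := by rw [c2]
          _ = k⁻¹ * x := by group
      calc x * a = x * y * k⁻¹ := by rw [ha']; group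
        _ = y * x * k⁻¹ := by rw [c1]
        _ = y * (x * k⁻¹) := by group
        _ = y * (k⁻¹ * x) := by rw [c2']
        _ = a * x := by rw [ha']; group
    have ha1 : a = 1 := by
      by_contra ha1
      have hC := (sylow_props h P (ne_bot_of_mem P ha ha1)).2.2 a ha ha1
      have hxC : x ∈ Subgroup.centralizer ({a} : Set G) := by
        rw [mem_centralizer_singleton]; exact c3.symm
      rw [hC] at hxC
      exact hx1 (eq_one_of_fix h hPA hxC (mem_Hst.mp hxPA).2)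
    rw [hyak, ha1, one_mul]
    exact hk
  exact no_common_stab h hq hPA hPB hAB
    (le_antisymm (key hPA hPB hxPA hxPB) (key hPB hPA hxPB hxPA))

/-- `P` is transitive on the other Sylow subgroups. -/
theorem P_trans (h : CIT G) (hq : Big G) {P A B : Sylow 2 G} (hPA : P ≠ A) (hPB : P ≠ B) :
    ∃ t ∈ P, t • A = B := by
  by_contra hno
  push Not at hno
  have hAB : A ≠ B := by
    intro hAB
    exact hno 1 (P : Subgroup G).one_mem (by rw [one_smul, hAB])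
  obtain ⟨tP, htP, htP1⟩ := exists_ne_one_mem hq P
  obtain ⟨k₂, hk₂, hk₂1⟩ := exists_Hst_ne_one h hq hPB
  obtain ⟨a, ha, k₁, hk₁, hk₂a⟩ := normalizer_decomp h hPA htP htP1 (mem_Hst.mp hk₂).1
  have hk₁1 : k₁ ≠ 1 := by
    intro h1
    rw [h1, mul_one] at hk₂a
    rw [hk₂a] at hk₂ hk₂1
    exact hk₂1 (eq_one_of_fix h hPB ha (mem_Hst.mp hk₂).2)
  have hk₁P : k₁ • P = P := (mem_Hst.mp hk₁).1
  have hk₁invP : k₁⁻¹ • P = P := by
    rw [inv_smul_eq_iff, hk₁P]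
  -- the map θ
  let θ : ↥(P : Subgroup G) → ↥(P : Subgroup G) := fun t =>
    ⟨t.1 * (k₁ * t.1⁻¹ * k₁⁻¹), (P : Subgroup G).mul_mem t.2
      (conj_mem_of_fix P hk₁P ((P : Subgroup G).inv_mem t.2))⟩
  have hθ : Function.Injective θ := by
    intro t t' htt
    have h1 : t.1 * (k₁ * t.1⁻¹ * k₁⁻¹) = t'.1 * (k₁ * t'.1⁻¹ * k₁⁻¹) := congrArg Subtype.val htt
    set w := t'.1⁻¹ * t.1 with hw
    have hwP : w ∈ P := (P : Subgroup G).mul_mem ((P : Subgroup G).inv_mem t'.2) t.2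
    have hwc : k₁ * w * k₁⁻¹ = w := by
      have h2 : t'.1⁻¹ * t.1 = (k₁ * t'.1⁻¹ * k₁⁻¹) * (k₁ * t.1⁻¹ * k₁⁻¹)⁻¹ := by
        calc t'.1⁻¹ * t.1 = t'.1⁻¹ * (t.1 * (k₁ * t.1⁻¹ * k₁⁻¹)) * (k₁ * t.1⁻¹ * k₁⁻¹)⁻¹ := by
              group
          _ = t'.1⁻¹ * (t'.1 * (k₁ * t'.1⁻¹ * k₁⁻¹)) * (k₁ * t.1⁻¹ * k₁⁻¹)⁻¹ := by rw [h1]
          _ = (k₁ * t'.1⁻¹ * k₁⁻¹) * (k₁ * t.1⁻¹ * k₁⁻¹)⁻¹ := by group
      calc k₁ * w * k₁⁻¹ = (k₁ * t'.1⁻¹ * k₁⁻¹) * (k₁ * t.1⁻¹ * k₁⁻¹)⁻¹ := by rw [hw]; group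
        _ = w := by rw [← h2]
    have hw1 : w = 1 := by
      by_contra hw1
      have hC := (sylow_props h P (ne_bot_of_mem P hwP hw1)).2.2 w hwP hw1
      have hkC : k₁ ∈ Subgroup.centralizer ({w} : Set G) := by
        rw [mem_centralizer_singleton]
        calc w * k₁ = (k₁ * w * k₁⁻¹) * k₁ := by rw [hwc]
          _ = k₁ * w := by group
      rw [hC] at hkC
      exact hk₁1 (eq_one_of_fix h hPA hkC (mem_Hst.mp hk₁).2)
    apply Subtype.ext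
    have : t.1 = t'.1 * w := by rw [hw]; group
    rw [this, hw1, mul_one]
  obtain ⟨t, ht⟩ := Finite.surjective_of_injective hθ ⟨a, ha⟩
  have hta : t.1 * (k₁ * t.1⁻¹ * k₁⁻¹) = a := congrArg Subtype.val ht
  have hconj : t.1 * k₁ * t.1⁻¹ = k₂ := by
    rw [hk₂a, ← hta]; group
  have hfix : k₂ • (t.1 • A) = t.1 • A := by
    rw [← hconj, ← mul_smul]
    have : t.1 * k₁ * t.1⁻¹ * t.1 = t.1 * k₁ := by group
    rw [this, mul_smul, (mem_Hst.mp hk₁).2]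
  have hne1 : P ≠ t.1 • A := by
    intro h1
    apply hPA
    have : t.1 • P = t.1 • A := by rw [fix_of_mem P t.2]; exact h1
    exact MulAction.injective t.1 this
  have hne2 : B ≠ t.1 • A := fun h1 => hno t.1 t.2 h1.symm
  exact hk₂1 (three_fix h hq hPB hne1 hne2 (mem_Hst.mp hk₂).1 (mem_Hst.mp hk₂).2 hfix)

/-- The two-point stabiliser is transitive on the remaining points. -/
theorem Hst_trans (h : CIT G) (hq : Big G) {P A B B' : Sylow 2 G} (hPA : P ≠ A) (hPB : P ≠ B)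
    (hAB : A ≠ B) (hPB' : P ≠ B') (hAB' : A ≠ B') : ∃ k ∈ Hst P A, k • B = B' := by
  obtain ⟨t, ht, htB⟩ := P_trans h hq hPA hPB
  obtain ⟨t', ht', htB'⟩ := P_trans h hq hPA hPB'
  have ht1 : t ≠ 1 := by
    intro h1; rw [h1, one_smul] at htB; exact hAB htB
  have ht'1 : t' ≠ 1 := by
    intro h1; rw [h1, one_smul] at htB'; exact hAB' htB'
  obtain ⟨k, hk, hkt⟩ := Hst_conj_surj h hPA ht ht1 ht' ht'1
  refine ⟨k, hk, ?_⟩
  have hkA : k • A = A := (mem_Hst.mp hk).2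
  have e : k * t * k⁻¹ * k = k * t := by group
  calc k • B = (k * t) • A := by rw [← htB, mul_smul]
    _ = (k * t * k⁻¹ * k) • A := by rw [e]
    _ = (k * t * k⁻¹) • (k • A) := by rw [mul_smul]
    _ = t' • A := by rw [hkA, hkt]
    _ = B' := htB'

/-- The action on Sylow 2-subgroups is 3-transitive. -/
theorem three_trans (h : CIT G) (hq : Big G) {P₁ P₂ P₃ Q₁ Q₂ Q₃ : Sylow 2 G} (h12 : P₁ ≠ P₂)
    (h13 : P₁ ≠ P₃) (h23 : P₂ ≠ P₃) (k12 : Q₁ ≠ Q₂) (k13 : Q₁ ≠ Q₃) (k23 : Q₂ ≠ Q₃) :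
    ∃ g : G, g • P₁ = Q₁ ∧ g • P₂ = Q₂ ∧ g • P₃ = Q₃ := by
  obtain ⟨g₁, hg₁⟩ := MulAction.exists_smul_eq G P₁ Q₁
  have e1 : Q₁ ≠ g₁ • P₂ := by
    rw [← hg₁]; exact fun h1 => h12 (MulAction.injective g₁ h1)
  obtain ⟨t, ht, htP⟩ := P_trans h hq e1 k12
  have htQ : t • Q₁ = Q₁ := fix_of_mem Q₁ ht
  have e2 : Q₁ ≠ (t * g₁) • P₃ := by
    intro h1
    apply h13
    have : (t * g₁) • P₁ = (t * g₁) • P₃ := by rw [mul_smul, hg₁, htQ]; exact h1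
    exact MulAction.injective _ this
  have e3 : Q₂ ≠ (t * g₁) • P₃ := by
    intro h1
    apply h23
    have : (t * g₁) • P₂ = (t * g₁) • P₃ := by rw [mul_smul, htP]; exact h1
    exact MulAction.injective _ this
  obtain ⟨k, hk, hkP⟩ := Hst_trans h hq k12 e2 e3 k13 k23
  refine ⟨k * (t * g₁), ?_, ?_, ?_⟩
  · rw [mul_smul, mul_smul, hg₁, htQ, (mem_Hst.mp hk).1]
  · rw [mul_smul, mul_smul, htP, (mem_Hst.mp hk).2]
  · rw [mul_smul, hkP]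

end Cfsg.Agent.helper4.Cit
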