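import Mathlib

set_option autoImplicit false

namespace Cfsg.Agent.helper4.Sharp

/-- List form of sharp `K`-transitivity. -/
structure SharpK (G : Type*) (Ω : Type*) [Group G] [MulAction G Ω] (K : ℕ) : Prop where
  ex : ∀ l l' : List Ω, l.Nodup → l'.Nodup → l.length = K → l'.length = K →
    ∃ g : G, l.map (fun x => g • x) = l'
  uniq : ∀ (g : G) (l : List Ω), l.Nodup → l.length = K → (∀ x ∈ l, g • x = x) → g = 1

variable {G : Type*} {Ω : Type*} [Group G] [MulAction G Ω]

theorem sharpK_of_pretransitive (K : ℕ) [MulAction.IsMultiplyPretransitive G Ω K]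
    (hsharp : ∀ x : Fin K ↪ Ω, MulAction.stabilizer G x = ⊥) : SharpK G Ω K := by
  constructor
  · intro l l' hl hl' hK hK'
    let x : Fin K ↪ Ω := ⟨fun i => l.get (Fin.cast hK.symm i), fun i j hij => by
      have := (List.nodup_iff_injective_get.mp hl) hij
      simpa using this⟩
    let x' : Fin K ↪ Ω := ⟨fun i => l'.get (Fin.cast hK'.symm i), fun i j hij => by
      have := (List.nodup_iff_injective_get.mp hl') hij
      simpa using this⟩
    obtain ⟨g, hg⟩ := MulAction.exists_smul_eq G x x'
    refine ⟨g, ?_⟩
    apply List.ext_get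
    · simp [hK, hK']
    · intro n h1 h2
      have h3 : n < K := by simpa [hK] using h1
      have := congrArg (fun y : Fin K ↪ Ω => y ⟨n, h3⟩) hg
      simpa [x, x'] using this
  · intro g l hl hK hfix
    let x : Fin K ↪ Ω := ⟨fun i => l.get (Fin.cast hK.symm i), fun i j hij => by
      have := (List.nodup_iff_injective_get.mp hl) hij
      simpa using this⟩
    have : g ∈ MulAction.stabilizer G x := by
      rw [MulAction.mem_stabilizer_iff]
      ext i
      simp only [Function.Embedding.smul_apply]
      exact hfix _ (List.get_mem _ _)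
    rw [hsharp x] at this
    exact Subgroup.mem_bot.mp this

namespace SharpK

variable {K : ℕ} (S : SharpK G Ω K)
include S

theorem eq_of_agree (g g' : G) (l : List Ω) (hl : l.Nodup) (hK : l.length = K)
    (h : ∀ x ∈ l, g • x = g' • x) : g = g' := by
  have := S.uniq (g'⁻¹ * g) l hl hK (fun x hx => by rw [mul_smul, h x hx, inv_smul_smul])
  exact inv_mul_eq_one.mp this |>.symm

theorem comm_of_agree (g t : G) (l : List Ω) (hl : l.Nodup) (hK : l.length = K)
    (h : ∀ x ∈ l, g • t • x = t • g • x) : g * t = t * g :=
  S.eq_of_agree _ _ l hl hK (fun x hx => by rw [mul_smul, mul_smul, h x hx])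

end SharpK

end Cfsg.Agent.helper4.Sharp
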