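import Mathlib
import Cfsg.Agent.Lib_helper4_SharpA

set_option autoImplicit false
set_option linter.unusedSectionVars false

/-!
# Sharply 3-transitive subgroups of `Perm α`: basic facts, involutions, the translation subgroup
-/

namespace Cfsg.Agent.helper4.Z3

open Equiv

variable {α : Type*} [Fintype α] [DecidableEq α]

/-- Sharp 3-transitivity of a subgroup of `Perm α`, in elementwise form. -/
structure Tri (G : Subgroup (Perm α)) : Prop where
  ex : ∀ a b c a' b' c' : α, a ≠ b → a ≠ c → b ≠ c → a' ≠ b' → a' ≠ c' → b' ≠ c' →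
    ∃ g ∈ G, g a = a' ∧ g b = b' ∧ g c = c'
  uniq : ∀ g ∈ G, ∀ a b c : α, a ≠ b → a ≠ c → b ≠ c → g a = a → g b = b → g c = c → g = 1

theorem tri_of_pretransitive (G : Subgroup (Perm α))
    (h3 : MulAction.IsMultiplyPretransitive G α 3)
    (hsharp : ∀ x : Fin 3 ↪ α, MulAction.stabilizer G x = ⊥) : Tri G := by
  haveI := h3
  have S := Sharp.sharpK_of_pretransitive (G := G) (Ω := α) 3 hsharp
  constructor
  · intro a b c a' b' c' hab hac hbc hab' hac' hbc'
    obtain ⟨g, hg⟩ := S.ex [a, b, c] [a', b', c'] (by simp [hab, hac, hbc])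
      (by simp [hab', hac', hbc']) rfl rfl
    refine ⟨g, g.2, ?_⟩
    simp only [List.map_cons, List.map_nil, List.cons.injEq, and_true] at hg
    exact hg
  · intro g hg a b c hab hac hbc ha hb hc
    have := S.uniq ⟨g, hg⟩ [a, b, c] (by simp [hab, hac, hbc]) rfl (by
      intro x hx
      simp only [List.mem_cons, List.not_mem_nil, or_false] at hx
      rcases hx with rfl | rfl | rfl
      · exact ha
      · exact hb
      · exact hc)
    exact congrArg Subtype.val this

namespace Tri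

variable {G : Subgroup (Perm α)}

theorem eq_of_agree (T : Tri G) {g g' : Perm α} (hg : g ∈ G) (hg' : g' ∈ G) {a b c : α}
    (hab : a ≠ b) (hac : a ≠ c) (hbc : b ≠ c)
    (ha : g a = g' a) (hb : g b = g' b) (hc : g c = g' c) : g = g' := by
  have h := T.uniq (g'⁻¹ * g) (G.mul_mem (G.inv_mem hg') hg) a b c hab hac hbc
    (by rw [Perm.mul_apply, ha]; simp)
    (by rw [Perm.mul_apply, hb]; simp)
    (by rw [Perm.mul_apply, hc]; simp)
  exact (inv_mul_eq_one.mp h).symm

theorem sq_eq_one_of_swap (T : Tri G) {g : Perm α} (hg : g ∈ G) {a b c : α} (hab : a ≠ b)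
    (hga : g a = b) (hgb : g b = a) (hgc : g c = c) : g * g = 1 := by
  have hac : a ≠ c := by
    intro h; subst h; exact hab (hgc.symm.trans hga)
  have hbc : b ≠ c := by
    intro h; subst h; exact hab (hgb.symm.trans hgc)
  apply T.uniq (g * g) (G.mul_mem hg hg) a b c hab hac hbc
  · rw [Perm.mul_apply, hga, hgb]
  · rw [Perm.mul_apply, hgb, hga]
  · rw [Perm.mul_apply, hgc, hgc]

theorem invol_exists_fix (hodd : ¬ 2 ∣ Fintype.card α) {g : Perm α} (hg2 : g * g = 1) :
    ∃ a, g a = a :=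
  Equiv.Perm.exists_fixed_point_of_prime (p := 2) (n := 1) hodd (by rw [pow_one, sq, hg2])

theorem invol_fix_unique (T : Tri G) (hodd : ¬ 2 ∣ Fintype.card α) {g : Perm α} (hg : g ∈ G)
    (hg2 : g * g = 1) (hg1 : g ≠ 1) {a b : α} (ha : g a = a) (hb : g b = b) : a = b := by
  by_contra hab
  have hmod := Equiv.Perm.card_compl_support_modEq (p := 2) (n := 1) (σ := g)
    (by rw [pow_one, sq, hg2])
  have hamem : a ∈ g.supportᶜ := by
    rw [Finset.mem_compl, Perm.notMem_support]; exact ha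
  have hbmem : b ∈ g.supportᶜ := by
    rw [Finset.mem_compl, Perm.notMem_support]; exact hb
  have hsub : ({a, b} : Finset α) ⊆ g.supportᶜ := by
    intro x hx
    rw [Finset.mem_insert, Finset.mem_singleton] at hx
    rcases hx with rfl | rfl
    · exact hamem
    · exact hbmem
  have h2 : ({a, b} : Finset α).card = 2 := Finset.card_pair hab
  by_cases hss : g.supportᶜ ⊆ ({a, b} : Finset α)
  · have heq : g.supportᶜ = ({a, b} : Finset α) := Finset.Subset.antisymm hss hsub
    rw [heq, h2] at hmod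
    have : Fintype.card α % 2 = 0 := by
      have := hmod
      unfold Nat.ModEq at this
      omega
    exact hodd (Nat.dvd_of_mod_eq_zero this)
  · obtain ⟨c, hc, hcn⟩ := Finset.not_subset.mp hss
    rw [Finset.mem_insert, Finset.mem_singleton, not_or] at hcn
    rw [Finset.mem_compl, Perm.notMem_support] at hc
    exact hg1 (T.uniq g hg a b c hab (Ne.symm hcn.1) (Ne.symm hcn.2) ha hb hc)

end Tri


section Stab

variable {G : Subgroup (Perm α)} (T : Tri G) (hodd : ¬ 2 ∣ Fintype.card α) (o : α)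
include T

theorem exists_swapB {a b : α} (hao : a ≠ o) (hbo : b ≠ o) (hab : a ≠ b) :
    ∃ t ∈ G, t o = o ∧ t a = b ∧ t b = a ∧ t * t = 1 ∧ t ≠ 1 := by
  obtain ⟨t, ht, h1, h2, h3⟩ := T.ex o a b o b a (Ne.symm hao) (Ne.symm hbo) hab (Ne.symm hbo)
    (Ne.symm hao) (Ne.symm hab)
  refine ⟨t, ht, h1, h2, h3, T.sq_eq_one_of_swap ht hab h2 h3 h1, ?_⟩
  intro h
  rw [h] at h2
  exact hab (by simpa using h2)

theorem invol_eq {t u : Perm α} (ht : t ∈ G) (hu : u ∈ G) (hto : t o = o) (huo : u o = o)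
    (ht2 : t * t = 1) (hu2 : u * u = 1) {a : α} (hao : a ≠ o) (hta : t a ≠ a)
    (h : t a = u a) : t = u := by
  have hb : t (t a) = a := by
    have := congrArg (fun p : Perm α => p a) ht2
    simpa using this
  have hb' : u (u a) = a := by
    have := congrArg (fun p : Perm α => p a) hu2
    simpa using this
  have hbo : t a ≠ o := by
    intro h'
    apply hao
    apply t.injective
    rw [h', hto]
  exact T.eq_of_agree ht hu (Ne.symm hao) (Ne.symm hbo) (Ne.symm hta) (hto.trans huo.symm) h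
    (by rw [hb, h, hb'])

include hodd

theorem invol_fpf {t : Perm α} (ht : t ∈ G) (hto : t o = o) (ht2 : t * t = 1) (ht1 : t ≠ 1)
    {x : α} (hx : x ≠ o) : t x ≠ x :=
  fun h => hx (T.invol_fix_unique hodd ht ht2 ht1 h hto)

theorem prod_fpf {t u : Perm α} (ht : t ∈ G) (hu : u ∈ G) (hto : t o = o) (huo : u o = o)
    (ht2 : t * t = 1) (hu2 : u * u = 1) (hu1 : u ≠ 1) (htu : t ≠ u)
    {x : α} (hx : x ≠ o) : (t * u) x ≠ x := by
  intro h
  rw [Perm.mul_apply] at h
  have h1 : u x = t x := by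
    have := congrArg t h
    have h2 : t (t (u x)) = u x := by
      simpa using congrArg (fun p : Perm α => p (u x)) ht2
    rw [h2] at this
    exact this
  have hux : u x ≠ x := invol_fpf T hodd o hu huo hu2 hu1 hx
  exact htu (invol_eq T o ht hu hto huo ht2 hu2 hx (by rw [← h1]; exact hux) h1.symm)

/-- Counting: in the point stabiliser, an element without fixed points among the other points is an
involution. -/
theorem fpf_sq (z u : α) (hzo : z ≠ o) (huo : u ≠ o) (hzu : z ≠ u) {g : Perm α} (hg : g ∈ G)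
    (hgo : g o = o) (hfpf : ∀ x, x ≠ o → g x ≠ x) : g * g = 1 := by
  classical
  obtain ⟨q, hq⟩ : ∃ q, q = Fintype.card α - 1 := ⟨_, rfl⟩
  set Ω' : Finset α := Finset.univ.erase o with hΩ'
  have hΩcard : Ω'.card = q := by
    rw [hΩ', Finset.card_erase_of_mem (Finset.mem_univ o), Finset.card_univ, hq]
  have hmemΩ : ∀ x, x ∈ Ω' ↔ x ≠ o := by
    intro x; simp [hΩ']
  set Bf : Finset (Perm α) := Finset.univ.filter (fun g => g ∈ G ∧ g o = o) with hBf
  have hmemB : ∀ g, g ∈ Bf ↔ g ∈ G ∧ g o = o := by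
    intro g; simp [hBf]
  have hne : ∀ {g : Perm α} {x : α}, g o = o → x ≠ o → g x ≠ o := by
    intro g x hgo hx h
    exact hx (g.injective (h.trans hgo.symm))
  -- C1
  have hC1 : Bf.card = q * (q - 1) := by
    have : Bf.card = Ω'.offDiag.card := by
      apply Finset.card_bij (fun g _ => (g z, g u))
      · intro g hg
        rw [hmemB] at hg
        rw [Finset.mem_offDiag, hmemΩ, hmemΩ]
        exact ⟨hne hg.2 hzo, hne hg.2 huo, fun h => hzu (g.injective h)⟩
      · intro g hg g' hg' h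
        rw [hmemB] at hg hg'
        rw [Prod.mk.injEq] at h
        exact T.eq_of_agree hg.1 hg'.1 (Ne.symm hzo) (Ne.symm huo) hzu (hg.2.trans hg'.2.symm)
          h.1 h.2
      · rintro ⟨x, y⟩ hxy
        rw [Finset.mem_offDiag, hmemΩ, hmemΩ] at hxy
        obtain ⟨g, hg, h1, h2, h3⟩ := T.ex o z u o x y (Ne.symm hzo) (Ne.symm huo) hzu
          (Ne.symm hxy.1) (Ne.symm hxy.2.1) hxy.2.2
        exact ⟨g, (hmemB g).mpr ⟨hg, h1⟩, by rw [h2, h3]⟩
    rw [this, Finset.offDiag_card, hΩcard, Nat.mul_sub_one]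
  -- C2
  have hC2 : ∀ a ∈ Ω', (Bf.filter (fun g => g a = a)).card = q - 1 := by
    intro a ha
    rw [hmemΩ] at ha
    obtain ⟨b, hbo, hba⟩ : ∃ b, b ≠ o ∧ b ≠ a := by
      by_cases h : a = z
      · exact ⟨u, huo, by rw [h]; exact Ne.symm hzu⟩
      · exact ⟨z, hzo, Ne.symm h⟩
    have : (Bf.filter (fun g => g a = a)).card = (Ω'.erase a).card := by
      apply Finset.card_bij (fun g _ => g b)
      · intro g hg
        rw [Finset.mem_filter, hmemB] at hg
        rw [Finset.mem_erase, hmemΩ]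
        refine ⟨?_, hne hg.1.2 hbo⟩
        intro h
        exact hba (g.injective (h.trans hg.2.symm))
      · intro g hg g' hg' h
        rw [Finset.mem_filter, hmemB] at hg hg'
        exact T.eq_of_agree hg.1.1 hg'.1.1 (Ne.symm ha) (Ne.symm hbo) (Ne.symm hba)
          (hg.1.2.trans hg'.1.2.symm) (hg.2.trans hg'.2.symm) h
      · intro y hy
        rw [Finset.mem_erase, hmemΩ] at hy
        obtain ⟨g, hg, h1, h2, h3⟩ := T.ex o a b o a y (Ne.symm ha) (Ne.symm hbo) (Ne.symm hba)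
          (Ne.symm ha) (Ne.symm hy.2) (Ne.symm hy.1)
        exact ⟨g, by rw [Finset.mem_filter, hmemB]; exact ⟨⟨hg, h1⟩, h2⟩, h3⟩
    rw [this, Finset.card_erase_of_mem ((hmemΩ a).mpr ha), hΩcard]
  -- C3
  have hC3 : ∑ a ∈ Ω', (Bf.filter (fun g => g a = a)).card =
      ∑ g ∈ Bf, (Ω'.filter (fun a => g a = a)).card :=
    Finset.sum_card_bipartiteAbove_eq_sum_card_bipartiteBelow (fun a (g : Perm α) => g a = a)
  have hL : ∑ a ∈ Ω', (Bf.filter (fun g => g a = a)).card = q * (q - 1) := by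
    rw [Finset.sum_congr rfl hC2, Finset.sum_const, hΩcard, smul_eq_mul]
  -- C4
  set X : Finset (Perm α) := Bf.filter (fun g => g ≠ 1 ∧ ∃ a ∈ Ω', g a = a) with hX
  set Y : Finset (Perm α) := Bf.filter (fun g => g ≠ 1 ∧ ∀ a ∈ Ω', g a ≠ a) with hY
  have hmemX : ∀ g, g ∈ X ↔ g ∈ Bf ∧ g ≠ 1 ∧ ∃ a ∈ Ω', g a = a := by
    intro g; rw [hX, Finset.mem_filter]
  have hmemY : ∀ g, g ∈ Y ↔ g ∈ Bf ∧ g ≠ 1 ∧ ∀ a ∈ Ω', g a ≠ a := by
    intro g; rw [hY, Finset.mem_filter]
  have h1B : (1 : Perm α) ∈ Bf := (hmemB 1).mpr ⟨G.one_mem, rfl⟩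
  have hXY : Disjoint X Y := by
    rw [Finset.disjoint_left]
    intro g hgX hgY
    rw [hmemX] at hgX
    rw [hmemY] at hgY
    obtain ⟨a, ha, hga⟩ := hgX.2.2
    exact hgY.2.2 a ha hga
  have h1XY : (1 : Perm α) ∉ X ∪ Y := by
    rw [Finset.mem_union, hmemX, hmemY]
    rintro (h | h)
    · exact h.2.1 rfl
    · exact h.2.1 rfl
  have hBdecomp : Bf = insert 1 (X ∪ Y) := by
    ext g
    rw [Finset.mem_insert, Finset.mem_union, hmemX, hmemY]
    constructor
    · intro hgB
      by_cases hg1 : g = 1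
      · exact Or.inl hg1
      · right
        by_cases hex : ∃ a ∈ Ω', g a = a
        · exact Or.inl ⟨hgB, hg1, hex⟩
        · right
          push Not at hex
          exact ⟨hgB, hg1, hex⟩
    · rintro (h | h | h)
      · rw [h]; exact h1B
      · exact h.1
      · exact h.1
  have hf1 : (Ω'.filter (fun a => (1 : Perm α) a = a)).card = q := by
    rw [← hΩcard]
    congr 1
    apply Finset.filter_true_of_mem
    intro a _
    rfl
  have hfX : ∀ g ∈ X, (Ω'.filter (fun a => g a = a)).card = 1 := by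
    intro g hgX
    rw [hmemX, hmemB] at hgX
    obtain ⟨a, ha, hga⟩ := hgX.2.2
    rw [Finset.card_eq_one]
    refine ⟨a, ?_⟩
    ext b
    rw [Finset.mem_filter, Finset.mem_singleton]
    constructor
    · rintro ⟨hb, hgb⟩
      by_contra hba
      rw [hmemΩ] at ha hb
      exact hgX.2.1 (T.uniq g hgX.1.1 o a b (Ne.symm ha) (Ne.symm hb) (Ne.symm hba) hgX.1.2 hga hgb)
    · rintro rfl
      exact ⟨ha, hga⟩
  have hfY : ∀ g ∈ Y, (Ω'.filter (fun a => g a = a)).card = 0 := by
    intro g hgY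
    rw [hmemY] at hgY
    rw [Finset.card_eq_zero, Finset.filter_eq_empty_iff]
    intro a ha
    exact hgY.2.2 a ha
  have hR : ∑ g ∈ Bf, (Ω'.filter (fun a => g a = a)).card = q + X.card := by
    rw [hBdecomp, Finset.sum_insert h1XY, Finset.sum_union hXY, hf1, Finset.sum_congr rfl hfX,
      Finset.sum_congr rfl hfY, Finset.sum_const, Finset.sum_const]
    simp
  have hBcard : Bf.card = 1 + X.card + Y.card := by
    rw [hBdecomp, Finset.card_insert_of_notMem h1XY, Finset.card_union_of_disjoint hXY]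
    ring
  have hYcard : Y.card + 1 = q := by
    have h1 := hC3
    rw [hL, hR] at h1
    omega
  -- C5
  set Tf : Finset (Perm α) := Bf.filter (fun g => g ≠ 1 ∧ g * g = 1) with hTf
  have hmemT : ∀ g, g ∈ Tf ↔ g ∈ Bf ∧ g ≠ 1 ∧ g * g = 1 := by
    intro g; rw [hTf, Finset.mem_filter]
  have hTY : Tf ⊆ Y := by
    intro t ht
    rw [hmemT, hmemB] at ht
    rw [hmemY, hmemB]
    refine ⟨ht.1, ht.2.1, ?_⟩
    intro a ha
    exact invol_fpf T hodd o ht.1.1 ht.1.2 ht.2.2 ht.2.1 ((hmemΩ a).mp ha)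
  have hTcard : Tf.card = (Ω'.erase z).card := by
    apply Finset.card_bij (fun t _ => t z)
    · intro t ht
      rw [hmemT, hmemB] at ht
      rw [Finset.mem_erase, hmemΩ]
      exact ⟨invol_fpf T hodd o ht.1.1 ht.1.2 ht.2.2 ht.2.1 hzo, hne ht.1.2 hzo⟩
    · intro t ht t' ht' h
      rw [hmemT, hmemB] at ht ht'
      exact invol_eq T o ht.1.1 ht'.1.1 ht.1.2 ht'.1.2 ht.2.2 ht'.2.2 hzo
        (invol_fpf T hodd o ht.1.1 ht.1.2 ht.2.2 ht.2.1 hzo) h
    · intro y hy
      rw [Finset.mem_erase, hmemΩ] at hy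
      obtain ⟨t, ht, h1, h2, _, h4, h5⟩ := exists_swapB T o hzo hy.2 (Ne.symm hy.1)
      exact ⟨t, by rw [hmemT, hmemB]; exact ⟨⟨ht, h1⟩, h5, h4⟩, h2⟩
  have hTeq : Tf = Y := by
    apply Finset.eq_of_subset_of_card_le hTY
    rw [hTcard, Finset.card_erase_of_mem ((hmemΩ z).mpr hzo), hΩcard]
    omega
  have hgY : g ∈ Y := by
    rw [hmemY, hmemB]
    refine ⟨⟨hg, hgo⟩, ?_, fun a ha => hfpf a ((hmemΩ a).mp ha)⟩
    intro h1
    rw [h1] at hfpf
    exact hfpf z hzo rfl
  rw [← hTeq, hmemT] at hgY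
  exact hgY.2.2

end Stab

end Cfsg.Agent.helper4.Z3
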