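import Mathlib
import Cfsg.Agent.Lib_helper4_Z3A

set_option autoImplicit false
set_option linter.unusedSectionVars false

/-!
# Sharply 3-transitive groups of odd degree: translations, the two-point stabiliser, inversion
-/

namespace Cfsg.Agent.helper4.Z3

open Equiv

variable {α : Type*} [Fintype α] [DecidableEq α]

/-- Context: a sharply 3-transitive group of odd degree with three base points. -/
structure Ctx (G : Subgroup (Perm α)) : Type _ where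
  T : Tri G
  hodd : ¬ 2 ∣ Fintype.card α
  o : α
  z : α
  u : α
  hzo : z ≠ o
  huo : u ≠ o
  hzu : z ≠ u

variable {G : Subgroup (Perm α)} (C : Ctx G)

/-- the translation subgroup -/
def Nsub : Subgroup (Perm α) where
  carrier := {g | g ∈ G ∧ g C.o = C.o ∧ g * g = 1}
  one_mem' := ⟨G.one_mem, rfl, by simp⟩
  inv_mem' := by
    rintro g ⟨hg, hgo, hg2⟩
    have : g⁻¹ = g := inv_eq_of_mul_eq_one_left hg2
    rw [this]
    exact ⟨hg, hgo, hg2⟩
  mul_mem' := by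
    rintro t v ⟨ht, hto, ht2⟩ ⟨hv, hvo, hv2⟩
    by_cases hv1 : v = 1
    · subst hv1
      rw [mul_one]
      exact ⟨ht, hto, ht2⟩
    by_cases htv : t = v
    · subst htv
      rw [ht2]
      exact ⟨G.one_mem, rfl, by simp⟩
    have ho : (t * v) C.o = C.o := by rw [Perm.mul_apply, hvo, hto]
    refine ⟨G.mul_mem ht hv, ho, ?_⟩
    exact fpf_sq C.T C.hodd C.o C.z C.u C.hzo C.huo C.hzu (G.mul_mem ht hv) ho
      (fun x hx => prod_fpf C.T C.hodd C.o ht hv hto hvo ht2 hv2 hv1 htv hx)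

theorem mem_Nsub {g : Perm α} : g ∈ Nsub C ↔ g ∈ G ∧ g C.o = C.o ∧ g * g = 1 := Iff.rfl

theorem Nsub_comm {x y : Perm α} (hx : x ∈ Nsub C) (hy : y ∈ Nsub C) : x * y = y * x := by
  have hxy := (Nsub C).mul_mem hx hy
  have h1 : x⁻¹ = x := inv_eq_of_mul_eq_one_left hx.2.2
  have h2 : y⁻¹ = y := inv_eq_of_mul_eq_one_left hy.2.2
  have h3 : (x * y)⁻¹ = x * y := inv_eq_of_mul_eq_one_left hxy.2.2
  rw [mul_inv_rev, h1, h2] at h3
  exact h3.symm

theorem Nsub_free {n : Perm α} (hn : n ∈ Nsub C) {a : α} (hao : a ≠ C.o) (hna : n a = a) : n = 1 := by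
  by_contra h1
  exact invol_fpf C.T C.hodd C.o hn.1 hn.2.1 hn.2.2 h1 hao hna

theorem Nsub_trans {a b : α} (hao : a ≠ C.o) (hbo : b ≠ C.o) : ∃ n ∈ Nsub C, n a = b := by
  by_cases hab : a = b
  · exact ⟨1, (Nsub C).one_mem, by rw [hab]; rfl⟩
  · obtain ⟨t, ht, h1, h2, _, h4, _⟩ := exists_swapB C.T C.o hao hbo hab
    exact ⟨t, ⟨ht, h1, h4⟩, h2⟩

theorem Nsub_eq_of_apply {n n' : Perm α} (hn : n ∈ Nsub C) (hn' : n' ∈ Nsub C) {a : α}
    (hao : a ≠ C.o) (h : n a = n' a) : n = n' := by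
  have hmem := (Nsub C).mul_mem ((Nsub C).inv_mem hn') hn
  have := Nsub_free C hmem hao (by rw [Perm.mul_apply, h]; simp)
  exact (inv_mul_eq_one.mp this).symm

theorem Nsub_conj {g n : Perm α} (hg : g ∈ G) (hgo : g C.o = C.o) (hn : n ∈ Nsub C) :
    g * n * g⁻¹ ∈ Nsub C := by
  have hginv : g⁻¹ C.o = C.o := by
    rw [Perm.inv_eq_iff_eq]; exact hgo.symm
  refine ⟨G.mul_mem (G.mul_mem hg hn.1) (G.inv_mem hg), ?_, ?_⟩
  · rw [Perm.mul_apply, Perm.mul_apply, hginv, hn.2.1, hgo]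
  · have : g * n * g⁻¹ * (g * n * g⁻¹) = g * (n * n) * g⁻¹ := by group
    rw [this, hn.2.2, mul_one, mul_inv_cancel]

/-- the two-point stabiliser -/
def Hsub : Subgroup (Perm α) where
  carrier := {g | g ∈ G ∧ g C.o = C.o ∧ g C.z = C.z}
  one_mem' := ⟨G.one_mem, rfl, rfl⟩
  inv_mem' := by
    rintro g ⟨hg, hgo, hgz⟩
    refine ⟨G.inv_mem hg, ?_, ?_⟩
    · rw [Perm.inv_eq_iff_eq]; exact hgo.symm
    · rw [Perm.inv_eq_iff_eq]; exact hgz.symm
  mul_mem' := by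
    rintro g g' ⟨hg, hgo, hgz⟩ ⟨hg', hgo', hgz'⟩
    exact ⟨G.mul_mem hg hg', by rw [Perm.mul_apply, hgo', hgo], by rw [Perm.mul_apply, hgz', hgz]⟩

theorem mem_Hsub {g : Perm α} : g ∈ Hsub C ↔ g ∈ G ∧ g C.o = C.o ∧ g C.z = C.z := Iff.rfl

theorem Hsub_eq_of_apply {h h' : Perm α} (hh : h ∈ Hsub C) (hh' : h' ∈ Hsub C) {c : α}
    (hco : c ≠ C.o) (hcz : c ≠ C.z) (hc : h c = h' c) : h = h' :=
  C.T.eq_of_agree hh.1 hh'.1 (Ne.symm C.hzo) (Ne.symm hco) (Ne.symm hcz)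
    (hh.2.1.trans hh'.2.1.symm) (hh.2.2.trans hh'.2.2.symm) hc

theorem Hsub_trans {c d : α} (hco : c ≠ C.o) (hcz : c ≠ C.z) (hdo : d ≠ C.o) (hdz : d ≠ C.z) :
    ∃ h ∈ Hsub C, h c = d := by
  obtain ⟨g, hg, h1, h2, h3⟩ := C.T.ex C.o C.z c C.o C.z d (Ne.symm C.hzo) (Ne.symm hco)
    (Ne.symm hcz) (Ne.symm C.hzo) (Ne.symm hdo) (Ne.symm hdz)
  exact ⟨g, ⟨hg, h1, h2⟩, h3⟩

/-- Key lemma: every element interchanging `o` and `z` is an involution. -/
theorem swap_invol {g : Perm α} (hg : g ∈ G) (hgo : g C.o = C.z) (hgz : g C.z = C.o) :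
    g * g = 1 := by
  classical
  let P := {c : α // c ≠ C.o ∧ c ≠ C.z}
  let Sw := {g : Perm α // g ∈ G ∧ g C.o = C.z ∧ g C.z = C.o}
  have hex : ∀ c : P, ∃ g : Perm α, g ∈ G ∧ g C.o = C.z ∧ g C.z = C.o ∧ g c.1 = c.1 := by
    intro c
    obtain ⟨g, hg, h1, h2, h3⟩ := C.T.ex C.o C.z c.1 C.z C.o c.1 (Ne.symm C.hzo) (Ne.symm c.2.1)
      (Ne.symm c.2.2) C.hzo (Ne.symm c.2.2) (Ne.symm c.2.1)
    exact ⟨g, hg, h1, h2, h3⟩
  let φ : P → Sw := fun c => ⟨(hex c).choose, (hex c).choose_spec.1, (hex c).choose_spec.2.1,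
    (hex c).choose_spec.2.2.1⟩
  have hφfix : ∀ c : P, (φ c).1 c.1 = c.1 := fun c => (hex c).choose_spec.2.2.2
  have hφsq : ∀ c : P, (φ c).1 * (φ c).1 = 1 := fun c =>
    C.T.sq_eq_one_of_swap (φ c).2.1 (Ne.symm C.hzo) (φ c).2.2.1 (φ c).2.2.2 (hφfix c)
  have hφinj : Function.Injective φ := by
    intro c d hcd
    have h1 : (φ c).1 d.1 = d.1 := by rw [hcd]; exact hφfix d
    have hne : (φ c).1 ≠ 1 := by
      intro h
      have := (φ c).2.2.1
      rw [h] at this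
      exact C.hzo (by simpa using this.symm)
    apply Subtype.ext
    exact C.T.invol_fix_unique C.hodd (φ c).2.1 (hφsq c) hne (hφfix c) h1
  let ψ : Sw → P := fun g => ⟨g.1 C.u, by
    constructor
    · intro h
      exact C.hzu (g.1.injective (g.2.2.2.trans h.symm))
    · intro h
      exact C.huo (g.1.injective (h.trans g.2.2.1.symm))⟩
  have hψinj : Function.Injective ψ := by
    intro g g' hgg
    have h1 : g.1 C.u = g'.1 C.u := congrArg Subtype.val hgg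
    apply Subtype.ext
    exact C.T.eq_of_agree g.2.1 g'.2.1 (Ne.symm C.hzo) (Ne.symm C.huo) C.hzu
      (g.2.2.1.trans g'.2.2.1.symm) (g.2.2.2.trans g'.2.2.2.symm) h1
  have hbij : Function.Bijective φ :=
    hφinj.bijective_of_nat_card_le (Nat.card_le_card_of_injective ψ hψinj)
  obtain ⟨c, hc⟩ := hbij.2 ⟨g, hg, hgo, hgz⟩
  have := hφsq c
  rw [hc] at this
  exact this

theorem exists_s : ∃ s ∈ G, s C.o = C.z ∧ s C.z = C.o ∧ s C.u = C.u ∧ s * s = 1 := by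
  obtain ⟨s, hs, h1, h2, h3⟩ := C.T.ex C.o C.z C.u C.z C.o C.u (Ne.symm C.hzo) (Ne.symm C.huo)
    C.hzu C.hzo C.hzu (Ne.symm C.huo)
  exact ⟨s, hs, h1, h2, h3, swap_invol C hs h1 h2⟩

theorem Hsub_inv {s h : Perm α} (hs : s ∈ G) (hso : s C.o = C.z) (hsz : s C.z = C.o)
    (hh : h ∈ Hsub C) : s * h * s = h⁻¹ := by
  have h1 : (s * h) * (s * h) = 1 :=
    swap_invol C (G.mul_mem hs hh.1) (by rw [Perm.mul_apply, hh.2.1, hso])
      (by rw [Perm.mul_apply, hh.2.2, hsz])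
  have h2 : s * h * s * h = 1 := by rw [← h1]; group
  exact eq_inv_of_mul_eq_one_left h2

theorem Hsub_comm {h h' : Perm α} (hh : h ∈ Hsub C) (hh' : h' ∈ Hsub C) : h * h' = h' * h := by
  obtain ⟨s, hs, hso, hsz, _, hs2⟩ := exists_s C
  have e1 := Hsub_inv C hs hso hsz hh
  have e2 := Hsub_inv C hs hso hsz hh'
  have e3 := Hsub_inv C hs hso hsz ((Hsub C).mul_mem hh hh')
  have e4 : s * (h * h') * s = (s * h * s) * (s * h' * s) := by
    have : (s * h * s) * (s * h' * s) = s * h * (s * s) * h' * s := by group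
    rw [this, hs2]; group
  rw [e4, e1, e2, ← mul_inv_rev] at e3
  exact (inv_injective e3).symm

theorem Hsub_conj_mem {h n : Perm α} (hh : h ∈ Hsub C) (hn : n ∈ Nsub C) :
    h * n * h⁻¹ ∈ Nsub C := Nsub_conj C hh.1 hh.2.1 hn

theorem conj_apply_z {h n : Perm α} (hh : h ∈ Hsub C) : (h * n * h⁻¹) C.z = h (n C.z) := by
  have : h⁻¹ C.z = C.z := by rw [Perm.inv_eq_iff_eq]; exact hh.2.2.symm
  rw [Perm.mul_apply, Perm.mul_apply, this]

theorem exists_e : ∃ e ∈ Nsub C, e C.z = C.u ∧ e ≠ 1 := by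
  obtain ⟨e, he, h1⟩ := Nsub_trans C C.hzo C.huo
  refine ⟨e, he, h1, ?_⟩
  intro h
  rw [h] at h1
  exact C.hzu (by simpa using h1)

theorem Hsub_reg {e : Perm α} (he : e ∈ Nsub C) (hez : e C.z = C.u) {n : Perm α}
    (hn : n ∈ Nsub C) (hn1 : n ≠ 1) : ∃! h, h ∈ Hsub C ∧ h * e * h⁻¹ = n := by
  have hc : n C.z ≠ C.z := fun h => hn1 (Nsub_free C hn C.hzo h)
  have hco : n C.z ≠ C.o := by
    intro h
    exact C.hzo (n.injective (h.trans hn.2.1.symm))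
  obtain ⟨h, hh, hhu⟩ := Hsub_trans C C.huo (Ne.symm C.hzu) hco hc
  refine ⟨h, ⟨hh, ?_⟩, ?_⟩
  · apply Nsub_eq_of_apply C (Hsub_conj_mem C hh he) hn C.hzo
    rw [conj_apply_z C hh, hez, hhu]
  · rintro h' ⟨hh', hconj⟩
    apply Hsub_eq_of_apply C hh' hh C.huo (Ne.symm C.hzu)
    rw [hhu, ← hez, ← conj_apply_z C hh', hconj]

end Cfsg.Agent.helper4.Z3
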