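import Mathlib

set_option autoImplicit false
set_option linter.unusedSectionVars false

/-!
# A field from an abelian group acted on regularly by an abelian group
-/

namespace Cfsg.Agent.helper4.Z3

/-- Data for the field construction: an abelian subgroup `N`, an abelian subgroup `H` acting on it
by conjugation, regularly on the non-identity elements, and a base element `e`. -/
structure FData (Γ : Type*) [Group Γ] where
  N : Subgroup Γ
  H : Subgroup Γ
  e : Γ
  he : e ∈ N
  he1 : e ≠ 1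
  Ncomm : ∀ x ∈ N, ∀ y ∈ N, x * y = y * x
  Hcomm : ∀ x ∈ H, ∀ y ∈ H, x * y = y * x
  conj_mem : ∀ h ∈ H, ∀ n ∈ N, h * n * h⁻¹ ∈ N
  reg : ∀ n ∈ N, n ≠ 1 → ∃! h, h ∈ H ∧ h * e * h⁻¹ = n

variable {Γ : Type*} [Group Γ]

/-- the carrier of the field -/
@[ext] structure KF (D : FData Γ) where
  val : Γ
  mem : val ∈ D.N

namespace KF

variable {D : FData Γ}

instance : Zero (KF D) := ⟨⟨1, D.N.one_mem⟩⟩
instance : Add (KF D) := ⟨fun x y => ⟨x.val * y.val, D.N.mul_mem x.mem y.mem⟩⟩
instance : Neg (KF D) := ⟨fun x => ⟨x.val⁻¹, D.N.inv_mem x.mem⟩⟩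
instance : One (KF D) := ⟨⟨D.e, D.he⟩⟩

@[simp] theorem zero_val : (0 : KF D).val = 1 := rfl
@[simp] theorem add_val (x y : KF D) : (x + y).val = x.val * y.val := rfl
@[simp] theorem neg_val (x : KF D) : (-x).val = x.val⁻¹ := rfl
@[simp] theorem one_val : (1 : KF D).val = D.e := rfl

theorem eq_zero_iff (x : KF D) : x = 0 ↔ x.val = 1 := by
  constructor
  · intro h; rw [h]; rfl
  · intro h; ext; exact h

/-- conjugation by an element of `H` -/
def cj (h : Γ) (hh : h ∈ D.H) (y : KF D) : KF D := ⟨h * y.val * h⁻¹, D.conj_mem h hh y.val y.mem⟩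

@[simp] theorem cj_val (h : Γ) (hh : h ∈ D.H) (y : KF D) : (cj h hh y).val = h * y.val * h⁻¹ := rfl

theorem cj_zero (h : Γ) (hh : h ∈ D.H) : cj h hh (0 : KF D) = 0 := by
  ext; simp

theorem cj_add (h : Γ) (hh : h ∈ D.H) (x y : KF D) : cj h hh (x + y) = cj h hh x + cj h hh y := by
  ext; simp

theorem cj_cj (h h' : Γ) (hh : h ∈ D.H) (hh' : h' ∈ D.H) (x : KF D) :
    cj h hh (cj h' hh' x) = cj (h * h') (D.H.mul_mem hh hh') x := by
  ext; simp [mul_assoc]

theorem cj_one_elt (x : KF D) : cj 1 D.H.one_mem x = x := by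
  ext; simp

theorem cj_eq_zero_iff (h : Γ) (hh : h ∈ D.H) (x : KF D) : cj h hh x = 0 ↔ x = 0 := by
  rw [eq_zero_iff, eq_zero_iff, cj_val]
  constructor
  · intro h1
    have : x.val = h⁻¹ * (h * x.val * h⁻¹) * h := by group
    rw [this, h1]; group
  · intro h1
    rw [h1]; group

/-- the element of `H` attached to a non-zero element -/
noncomputable def eta (x : KF D) (hx : x ≠ 0) : Γ :=
  (D.reg x.val x.mem (fun h => hx ((eq_zero_iff x).mpr h))).exists.choose

theorem eta_mem (x : KF D) (hx : x ≠ 0) : eta x hx ∈ D.H :=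
  (D.reg x.val x.mem (fun h => hx ((eq_zero_iff x).mpr h))).exists.choose_spec.1

theorem eta_spec (x : KF D) (hx : x ≠ 0) : cj (eta x hx) (eta_mem x hx) 1 = x := by
  ext
  exact (D.reg x.val x.mem (fun h => hx ((eq_zero_iff x).mpr h))).exists.choose_spec.2

theorem eta_unique (x : KF D) (hx : x ≠ 0) (h : Γ) (hh : h ∈ D.H) (hcj : cj h hh 1 = x) :
    h = eta x hx := by
  have hu := D.reg x.val x.mem (fun h => hx ((eq_zero_iff x).mpr h))
  apply hu.unique ⟨hh, ?_⟩ ⟨eta_mem x hx, ?_⟩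
  · exact congrArg KF.val hcj
  · exact congrArg KF.val (eta_spec x hx)

theorem one_ne_zero' : (1 : KF D) ≠ 0 := by
  intro h
  exact D.he1 ((eq_zero_iff _).mp h)

open Classical in
noncomputable instance : Mul (KF D) :=
  ⟨fun x y => if hx : x = 0 then 0 else cj (eta x hx) (eta_mem x hx) y⟩

open Classical in
noncomputable instance : Inv (KF D) :=
  ⟨fun x => if hx : x = 0 then 0 else cj (eta x hx)⁻¹ (D.H.inv_mem (eta_mem x hx)) 1⟩

open Classical in
theorem zero_mul' (y : KF D) : 0 * y = 0 := by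
  change (if hx : (0 : KF D) = 0 then 0 else cj (eta 0 hx) (eta_mem 0 hx) y) = 0
  rw [dif_pos rfl]

open Classical in
theorem mul_def (x y : KF D) (hx : x ≠ 0) : x * y = cj (eta x hx) (eta_mem x hx) y := by
  change (if hx : x = 0 then 0 else cj (eta x hx) (eta_mem x hx) y) = _
  rw [dif_neg hx]

open Classical in
theorem inv_def (x : KF D) (hx : x ≠ 0) :
    x⁻¹ = cj (eta x hx)⁻¹ (D.H.inv_mem (eta_mem x hx)) 1 := by
  change (if hx : x = 0 then 0 else cj (eta x hx)⁻¹ (D.H.inv_mem (eta_mem x hx)) 1) = _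
  rw [dif_neg hx]

open Classical in
theorem inv_zero' : (0 : KF D)⁻¹ = 0 := by
  change (if hx : (0 : KF D) = 0 then 0 else cj (eta 0 hx)⁻¹ (D.H.inv_mem (eta_mem 0 hx)) 1) = 0
  rw [dif_pos rfl]

theorem mul_zero' (x : KF D) : x * 0 = 0 := by
  by_cases hx : x = 0
  · rw [hx, zero_mul']
  · rw [mul_def x 0 hx, cj_zero]

/-- multiplication by `cj h 1` is `cj h` -/
theorem cj_one_mul (h : Γ) (hh : h ∈ D.H) (y : KF D) : cj h hh 1 * y = cj h hh y := by
  have hne : cj h hh (1 : KF D) ≠ 0 := by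
    rw [Ne, cj_eq_zero_iff]; exact one_ne_zero'
  rw [mul_def _ y hne]
  have := eta_unique (cj h hh 1) hne h hh rfl
  congr 1
  exact this.symm

theorem mul_eq_zero' {x y : KF D} (h : x * y = 0) : x = 0 ∨ y = 0 := by
  by_cases hx : x = 0
  · exact Or.inl hx
  · right
    rw [mul_def x y hx, cj_eq_zero_iff] at h
    exact h

theorem mul_assoc' (x y z : KF D) : x * y * z = x * (y * z) := by
  by_cases hx : x = 0
  · rw [hx, zero_mul', zero_mul', zero_mul']
  by_cases hy : y = 0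
  · rw [hy, mul_zero', zero_mul', mul_zero']
  rw [← eta_spec x hx, ← eta_spec y hy, cj_one_mul, cj_one_mul, cj_one_mul, cj_cj, cj_one_mul,
    cj_cj]

theorem mul_comm' (x y : KF D) : x * y = y * x := by
  by_cases hx : x = 0
  · rw [hx, zero_mul', mul_zero']
  by_cases hy : y = 0
  · rw [hy, zero_mul', mul_zero']
  rw [← eta_spec x hx, ← eta_spec y hy, cj_one_mul, cj_one_mul, cj_cj, cj_cj]
  congr 1
  exact D.Hcomm _ (eta_mem x hx) _ (eta_mem y hy)

theorem one_mul' (y : KF D) : 1 * y = y := by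
  have : (1 : KF D) = cj 1 D.H.one_mem 1 := (cj_one_elt 1).symm
  rw [this, cj_one_mul, cj_one_elt]

theorem left_distrib' (x y z : KF D) : x * (y + z) = x * y + x * z := by
  by_cases hx : x = 0
  · rw [hx, zero_mul', zero_mul', zero_mul']
    ext; simp
  · rw [mul_def x _ hx, mul_def x _ hx, mul_def x _ hx, cj_add]

theorem mul_inv_cancel' (x : KF D) (hx : x ≠ 0) : x * x⁻¹ = 1 := by
  rw [inv_def x hx, mul_def x _ hx, cj_cj]
  have : cj (eta x hx * (eta x hx)⁻¹) (D.H.mul_mem (eta_mem x hx) (D.H.inv_mem (eta_mem x hx)))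
      (1 : KF D) = cj 1 D.H.one_mem 1 := by
    ext; simp
  rw [this, cj_one_elt]

noncomputable instance : CommRing (KF D) where
  add_assoc := by intro a b c; ext; simp [mul_assoc]
  zero_add := by intro a; ext; simp
  add_zero := by intro a; ext; simp
  nsmul := nsmulRec
  zsmul := zsmulRec
  neg_add_cancel := by intro a; ext; simp
  add_comm := by intro a b; ext; exact D.Ncomm _ a.mem _ b.mem
  left_distrib := left_distrib'
  right_distrib := by
    intro a b c
    rw [mul_comm' (a + b) c, left_distrib', mul_comm' c a, mul_comm' c b]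
  zero_mul := zero_mul'
  mul_zero := mul_zero'
  mul_assoc := mul_assoc'
  one_mul := one_mul'
  mul_one := by intro a; rw [mul_comm', one_mul']
  mul_comm := mul_comm'

noncomputable instance : Field (KF D) where
  exists_pair_ne := ⟨1, 0, one_ne_zero'⟩
  mul_inv_cancel := mul_inv_cancel'
  inv_zero := inv_zero'
  nnqsmul := _
  qsmul := _

/-- the coordinate of `cj h 1` is multiplicative -/
theorem cj_eq_mul (h : Γ) (hh : h ∈ D.H) (y : KF D) : cj h hh y = cj h hh 1 * y :=
  (cj_one_mul h hh y).symm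

theorem inv_cj_one (h : Γ) (hh : h ∈ D.H) :
    (cj h hh (1 : KF D))⁻¹ = cj h⁻¹ (D.H.inv_mem hh) 1 := by
  have hne : cj h hh (1 : KF D) ≠ 0 := by
    rw [Ne, cj_eq_zero_iff]; exact one_ne_zero'
  apply inv_eq_of_mul_eq_one_right
  rw [cj_one_mul, cj_cj]
  have : cj (h * h⁻¹) (D.H.mul_mem hh (D.H.inv_mem hh)) (1 : KF D) = cj 1 D.H.one_mem 1 := by
    ext; simp
  rw [this, cj_one_elt]

theorem exists_cj_of_ne_zero (x : KF D) (hx : x ≠ 0) : ∃ h, ∃ hh : h ∈ D.H, cj h hh 1 = x :=
  ⟨eta x hx, eta_mem x hx, eta_spec x hx⟩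

end KF

end Cfsg.Agent.helper4.Z3
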