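import Mathlib
import Cfsg.Agent.Lib_helper4_DkA
import Cfsg.Agent.Lib_helper4_Z3A

set_option autoImplicit false
set_option linter.unusedSectionVars false

/-!
# Recognising `PGL₂(K)` as a sharply 3-transitive group on the projective line
-/

namespace Cfsg.Agent.helper4.Z3

open Matrix Equiv
open scoped LinearAlgebra.Projectivization MatrixGroups
open Cfsg.Agent.helper4.Dk

variable {K : Type*} [Field K]

theorem gl_smul_vec (g : GL (Fin 2) K) (v : Fin 2 → K) :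
    g • v = ![g 0 0 * v 0 + g 0 1 * v 1, g 1 0 * v 0 + g 1 1 * v 1] := by
  ext i
  fin_cases i <;> simp [Units.smul_def, Matrix.mulVec, dotProduct, Fin.sum_univ_two]

theorem pgl_smul_pInf_of_eq (g : GL (Fin 2) K) (h : g 1 0 = 0) :
    (ProjGenLinGroup.mk g : PGL(Fin 2, K)) • (pInf : ℙ K (Fin 2 → K)) = pInf := by
  rw [pInf, Projectivization.PGL.mk_smul_mk]
  apply mk_eq_pInf
  rw [gl_smul_vec]; simp [h]

theorem pgl_smul_pInf_of_ne (g : GL (Fin 2) K) (h : g 1 0 ≠ 0) :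
    (ProjGenLinGroup.mk g : PGL(Fin 2, K)) • (pInf : ℙ K (Fin 2 → K)) = pt (g 0 0 / g 1 0) := by
  rw [pInf, Projectivization.PGL.mk_smul_mk]
  rw [mk_eq_pt]
  · rw [gl_smul_vec]; simp
  · rw [gl_smul_vec]; simpa using h

theorem pgl_smul_pt_of_eq (g : GL (Fin 2) K) (a : K) (h : g 1 0 * a + g 1 1 = 0) :
    (ProjGenLinGroup.mk g : PGL(Fin 2, K)) • (pt a : ℙ K (Fin 2 → K)) = pInf := by
  rw [pt, Projectivization.PGL.mk_smul_mk]
  apply mk_eq_pInf
  rw [gl_smul_vec]; simpa using h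

theorem pgl_smul_pt_of_ne (g : GL (Fin 2) K) (a : K) (h : g 1 0 * a + g 1 1 ≠ 0) :
    (ProjGenLinGroup.mk g : PGL(Fin 2, K)) • (pt a : ℙ K (Fin 2 → K)) =
      pt ((g 0 0 * a + g 0 1) / (g 1 0 * a + g 1 1)) := by
  rw [pt, Projectivization.PGL.mk_smul_mk]
  rw [mk_eq_pt]
  · rw [gl_smul_vec]; simp
  · rw [gl_smul_vec]; simpa using h

/-- translation -/
def Tm (b : K) : GL (Fin 2) K :=
  GeneralLinearGroup.mkOfDetNeZero !![1, b; 0, 1] (by simp [det_fin_two_of])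

/-- scaling -/
def Dm (a : K) (ha : a ≠ 0) : GL (Fin 2) K :=
  GeneralLinearGroup.mkOfDetNeZero !![a, 0; 0, 1] (by simp [det_fin_two_of, ha])

/-- inversion -/
def Wm : GL (Fin 2) K :=
  GeneralLinearGroup.mkOfDetNeZero !![0, 1; 1, 0] (by simp [det_fin_two_of])

@[simp] theorem Tm_00 (b : K) : Tm b 0 0 = 1 := rfl
@[simp] theorem Tm_01 (b : K) : Tm b 0 1 = b := rfl
@[simp] theorem Tm_10 (b : K) : Tm b 1 0 = 0 := rfl
@[simp] theorem Tm_11 (b : K) : Tm b 1 1 = 1 := rfl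
@[simp] theorem Dm_00 (a : K) (ha : a ≠ 0) : Dm a ha 0 0 = a := rfl
@[simp] theorem Dm_01 (a : K) (ha : a ≠ 0) : Dm a ha 0 1 = 0 := rfl
@[simp] theorem Dm_10 (a : K) (ha : a ≠ 0) : Dm a ha 1 0 = 0 := rfl
@[simp] theorem Dm_11 (a : K) (ha : a ≠ 0) : Dm a ha 1 1 = 1 := rfl
@[simp] theorem Wm_00 : (Wm : GL (Fin 2) K) 0 0 = 0 := rfl
@[simp] theorem Wm_01 : (Wm : GL (Fin 2) K) 0 1 = 1 := rfl
@[simp] theorem Wm_10 : (Wm : GL (Fin 2) K) 1 0 = 1 := rfl
@[simp] theorem Wm_11 : (Wm : GL (Fin 2) K) 1 1 = 0 := rfl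

/-- projective images -/
def Tp (b : K) : PGL(Fin 2, K) := ProjGenLinGroup.mk (Tm b)
def Dp (a : K) (ha : a ≠ 0) : PGL(Fin 2, K) := ProjGenLinGroup.mk (Dm a ha)
def Wp : PGL(Fin 2, K) := ProjGenLinGroup.mk Wm

theorem Tp_pInf (b : K) : Tp b • (pInf : ℙ K (Fin 2 → K)) = pInf :=
  pgl_smul_pInf_of_eq _ (by simp)

theorem Tp_pt (b x : K) : Tp b • (pt x : ℙ K (Fin 2 → K)) = pt (x + b) := by
  rw [Tp, pgl_smul_pt_of_ne _ _ (by simp)]
  simp

theorem Dp_pInf (a : K) (ha : a ≠ 0) : Dp a ha • (pInf : ℙ K (Fin 2 → K)) = pInf :=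
  pgl_smul_pInf_of_eq _ (by simp)

theorem Dp_pt (a : K) (ha : a ≠ 0) (x : K) : Dp a ha • (pt x : ℙ K (Fin 2 → K)) = pt (a * x) := by
  rw [Dp, pgl_smul_pt_of_ne _ _ (by simp)]
  simp

theorem Wp_pInf : (Wp : PGL(Fin 2, K)) • (pInf : ℙ K (Fin 2 → K)) = pt 0 := by
  rw [Wp, pgl_smul_pInf_of_ne _ (by simp)]
  simp

theorem Wp_pt_zero : (Wp : PGL(Fin 2, K)) • (pt 0 : ℙ K (Fin 2 → K)) = pInf :=
  pgl_smul_pt_of_eq _ _ (by simp)

theorem Wp_pt (x : K) (hx : x ≠ 0) : (Wp : PGL(Fin 2, K)) • (pt x : ℙ K (Fin 2 → K)) = pt x⁻¹ := by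
  rw [Wp, pgl_smul_pt_of_ne _ _ (by simpa using hx)]
  simp

/-- An element of `PGL₂` fixing `∞, 0, 1` is trivial. -/
theorem pgl_eq_one_of_fix (γ : PGL(Fin 2, K)) (h1 : γ • (pInf : ℙ K (Fin 2 → K)) = pInf)
    (h2 : γ • (pt 0 : ℙ K (Fin 2 → K)) = pt 0) (h3 : γ • (pt 1 : ℙ K (Fin 2 → K)) = pt 1) :
    γ = 1 := by
  induction γ using Matrix.ProjGenLinGroup.induction_on with | mk g =>
  have h10 : g 1 0 = 0 := by
    by_contra h
    rw [pgl_smul_pInf_of_ne g h] at h1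
    exact pt_ne_pInf _ h1
  have hdet := GeneralLinearGroup.det_ne_zero g
  rw [Matrix.det_fin_two] at hdet
  have hdet' : g 0 0 * g 1 1 ≠ 0 := by
    intro h
    apply hdet
    change g 0 0 * g 1 1 - g 0 1 * g 1 0 = 0
    rw [h, h10]; ring
  have h11 : g 1 1 ≠ 0 := right_ne_zero_of_mul hdet'
  have h00 : g 0 0 ≠ 0 := left_ne_zero_of_mul hdet'
  have h01 : g 0 1 = 0 := by
    rw [pgl_smul_pt_of_ne g 0 (by rw [h10]; simpa using h11)] at h2
    have := pt_injective h2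
    rw [h10] at this
    simp only [mul_zero, zero_add] at this
    rcases div_eq_zero_iff.mp this with h | h
    · exact h
    · exact absurd h h11
  have heq : g 0 0 = g 1 1 := by
    rw [pgl_smul_pt_of_ne g 1 (by rw [h10]; simpa using h11)] at h3
    have := pt_injective h3
    rw [h10, h01] at this
    simp only [mul_one, add_zero, zero_add] at this
    rwa [div_eq_one_iff_eq h11] at this
  have : g = GeneralLinearGroup.scalar (Fin 2) (Units.mk0 (g 0 0) h00) := by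
    apply Units.ext
    ext i j
    rw [GeneralLinearGroup.coe_scalar]
    fin_cases i <;> fin_cases j
    · simp
    · simpa using h01
    · simpa using h10
    · simpa using heq.symm
  rw [this]
  exact ProjGenLinGroup.mk_scalar _

/-- the subgroup generated by translations, scalings and the inversion -/
def Gam (K : Type*) [Field K] : Subgroup (PGL(Fin 2, K)) :=
  Subgroup.closure ({γ | (∃ b : K, γ = Tp b) ∨ (∃ (a : K) (ha : a ≠ 0), γ = Dp a ha) ∨ γ = Wp})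

theorem Tp_mem (b : K) : Tp b ∈ Gam K := Subgroup.subset_closure (Or.inl ⟨b, rfl⟩)
theorem Dp_mem (a : K) (ha : a ≠ 0) : Dp a ha ∈ Gam K :=
  Subgroup.subset_closure (Or.inr (Or.inl ⟨a, ha, rfl⟩))
theorem Wp_mem : (Wp : PGL(Fin 2, K)) ∈ Gam K := Subgroup.subset_closure (Or.inr (Or.inr rfl))

/-- `Gam` is 3-transitive on the projective line. -/
theorem Gam_trans (P1 P2 P3 : ℙ K (Fin 2 → K)) (h12 : P1 ≠ P2) (h13 : P1 ≠ P3) (h23 : P2 ≠ P3) :
    ∃ γ ∈ Gam K, γ • P1 = pInf ∧ γ • P2 = pt 0 ∧ γ • P3 = pt 1 := by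
  -- step 1: move P1 to infinity
  obtain ⟨γ1, hγ1, h1⟩ : ∃ γ ∈ Gam K, γ • P1 = (pInf : ℙ K (Fin 2 → K)) := by
    rcases eq_pInf_or_pt P1 with h | ⟨c, h⟩
    · exact ⟨1, (Gam K).one_mem, by rw [one_smul, h]⟩
    · refine ⟨Wp * Tp (-c), (Gam K).mul_mem Wp_mem (Tp_mem _), ?_⟩
      rw [h, mul_smul, Tp_pt, add_neg_cancel, Wp_pt_zero]
  -- step 2: move the second point to 0
  have hP2 : γ1 • P2 ≠ pInf := by
    intro h
    apply h12
    have := h1.trans h.symm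
    exact MulAction.injective γ1 this
  obtain ⟨d, hd⟩ : ∃ d, γ1 • P2 = pt d := by
    rcases eq_pInf_or_pt (γ1 • P2) with h | h
    · exact absurd h hP2
    · exact h
  set γ2 := Tp (-d) * γ1 with hγ2def
  have hγ2 : γ2 ∈ Gam K := (Gam K).mul_mem (Tp_mem _) hγ1
  have h21 : γ2 • P1 = pInf := by rw [hγ2def, mul_smul, h1, Tp_pInf]
  have h22 : γ2 • P2 = pt 0 := by rw [hγ2def, mul_smul, hd, Tp_pt, add_neg_cancel]
  -- step 3: scale the third point to 1
  have hP3 : γ2 • P3 ≠ pInf := by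
    intro h
    exact h13 (MulAction.injective γ2 (h21.trans h.symm))
  obtain ⟨a, ha⟩ : ∃ a, γ2 • P3 = pt a := by
    rcases eq_pInf_or_pt (γ2 • P3) with h | h
    · exact absurd h hP3
    · exact h
  have ha0 : a ≠ 0 := by
    intro h
    rw [h] at ha
    exact h23 (MulAction.injective γ2 (h22.trans ha.symm))
  refine ⟨Dp a⁻¹ (inv_ne_zero ha0) * γ2, (Gam K).mul_mem (Dp_mem _ _) hγ2, ?_, ?_, ?_⟩
  · rw [mul_smul, h21, Dp_pInf]
  · rw [mul_smul, h22, Dp_pt, mul_zero]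
  · rw [mul_smul, ha, Dp_pt, inv_mul_cancel₀ ha0]

theorem Gam_eq_top : Gam K = ⊤ := by
  rw [eq_top_iff]
  intro γ _
  have h12 : γ⁻¹ • (pInf : ℙ K (Fin 2 → K)) ≠ γ⁻¹ • pt 0 := by
    intro h; exact pt_ne_pInf 0 (MulAction.injective _ h).symm
  have h13 : γ⁻¹ • (pInf : ℙ K (Fin 2 → K)) ≠ γ⁻¹ • pt 1 := by
    intro h; exact pt_ne_pInf 1 (MulAction.injective _ h).symm
  have h23 : γ⁻¹ • (pt 0 : ℙ K (Fin 2 → K)) ≠ γ⁻¹ • pt 1 := by
    intro h
    have := pt_injective (MulAction.injective _ h)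
    exact zero_ne_one this
  obtain ⟨δ, hδ, e1, e2, e3⟩ := Gam_trans _ _ _ h12 h13 h23
  have : δ * γ⁻¹ = 1 := by
    apply pgl_eq_one_of_fix
    · rw [mul_smul, e1]
    · rw [mul_smul, e2]
    · rw [mul_smul, e3]
  have hγ : γ = δ := by
    rw [mul_inv_eq_one] at this
    exact this.symm
  rw [hγ]; exact hδ

section Recognize

variable {α : Type*} [Fintype α] [DecidableEq α]

/-- The recognition theorem: a sharply 3-transitive group on `α`, identified with the projective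
line in such a way that it contains the translations, the scalings and the inversion, is `PGL₂`. -/
theorem recognize (G : Subgroup (Perm α)) (T : Tri G) (ε : α ≃ ℙ K (Fin 2 → K))
    (hT : ∀ b : K, ∃ g ∈ G, ∀ x, ε (g x) = Tp b • ε x)
    (hD : ∀ (a : K) (ha : a ≠ 0), ∃ g ∈ G, ∀ x, ε (g x) = Dp a ha • ε x)
    (hW : ∃ g ∈ G, ∀ x, ε (g x) = (Wp : PGL(Fin 2, K)) • ε x) :
    Nonempty (G ≃* PGL(Fin 2, K)) := by
  let ψ : PGL(Fin 2, K) →* Perm α :=
    (permCongrHom ε.symm).toMonoidHom.comp (MulAction.toPermHom (PGL(Fin 2, K)) (ℙ K (Fin 2 → K)))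
  have hψ : ∀ (γ : PGL(Fin 2, K)) (x : α), ψ γ x = ε.symm (γ • ε x) := by
    intro γ x
    rfl
  have hψ' : ∀ (γ : PGL(Fin 2, K)) (x : α), ε (ψ γ x) = γ • ε x := by
    intro γ x
    rw [hψ, Equiv.apply_symm_apply]
  have hperm : ∀ (γ : PGL(Fin 2, K)) (g : Perm α), (∀ x, ε (g x) = γ • ε x) → ψ γ = g := by
    intro γ g h
    ext x
    rw [hψ, ← h x, Equiv.symm_apply_apply]
  -- the image lies in G
  have hle : (⊤ : Subgroup (PGL(Fin 2, K))) ≤ G.comap ψ := by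
    rw [← Gam_eq_top, Gam, Subgroup.closure_le]
    rintro γ (⟨b, rfl⟩ | ⟨a, ha, rfl⟩ | rfl)
    · obtain ⟨g, hg, h⟩ := hT b
      change ψ (Tp b) ∈ G
      rw [hperm _ g h]; exact hg
    · obtain ⟨g, hg, h⟩ := hD a ha
      change ψ (Dp a ha) ∈ G
      rw [hperm _ g h]; exact hg
    · obtain ⟨g, hg, h⟩ := hW
      change ψ Wp ∈ G
      rw [hperm _ g h]; exact hg
  have hrange_le : ψ.range ≤ G := by
    rintro _ ⟨γ, rfl⟩
    exact hle (Subgroup.mem_top γ)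
  -- injectivity
  have hinj : Function.Injective ψ := by
    rw [injective_iff_map_eq_one]
    intro γ hγ
    have hfix : ∀ P : ℙ K (Fin 2 → K), γ • P = P := by
      intro P
      have := hψ' γ (ε.symm P)
      rw [hγ, Equiv.apply_symm_apply] at this
      simpa using this.symm
    exact pgl_eq_one_of_fix γ (hfix _) (hfix _) (hfix _)
  -- surjectivity onto G
  have hG_le : G ≤ ψ.range := by
    intro g hg
    obtain ⟨o, ho⟩ : ∃ o, o = ε.symm (pInf : ℙ K (Fin 2 → K)) := ⟨_, rfl⟩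
    obtain ⟨z, hz⟩ : ∃ z, z = ε.symm (pt 0 : ℙ K (Fin 2 → K)) := ⟨_, rfl⟩
    obtain ⟨u, hu⟩ : ∃ u, u = ε.symm (pt 1 : ℙ K (Fin 2 → K)) := ⟨_, rfl⟩
    have hεo : ε o = pInf := by rw [ho, Equiv.apply_symm_apply]
    have hεz : ε z = pt 0 := by rw [hz, Equiv.apply_symm_apply]
    have hεu : ε u = pt 1 := by rw [hu, Equiv.apply_symm_apply]
    have hoz : o ≠ z := by
      intro h
      rw [h, hεz] at hεo
      exact pt_ne_pInf 0 hεo
    have hou : o ≠ u := by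
      intro h
      rw [h, hεu] at hεo
      exact pt_ne_pInf 1 hεo
    have hzu : z ≠ u := by
      intro h
      rw [h, hεu] at hεz
      exact zero_ne_one (pt_injective hεz).symm
    have h12 : ε (g o) ≠ ε (g z) := fun h => hoz (g.injective (ε.injective h))
    have h13 : ε (g o) ≠ ε (g u) := fun h => hou (g.injective (ε.injective h))
    have h23 : ε (g z) ≠ ε (g u) := fun h => hzu (g.injective (ε.injective h))
    obtain ⟨δ, _, e1, e2, e3⟩ := Gam_trans _ _ _ h12 h13 h23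
    refine ⟨δ⁻¹, ?_⟩
    have hmem : ψ δ⁻¹ ∈ G := hrange_le ⟨δ⁻¹, rfl⟩
    apply T.eq_of_agree hmem hg hoz hou hzu
    · apply ε.injective
      rw [hψ', hεo, ← e1, inv_smul_smul]
    · apply ε.injective
      rw [hψ', hεz, ← e2, inv_smul_smul]
    · apply ε.injective
      rw [hψ', hεu, ← e3, inv_smul_smul]
  have hrange : ψ.range = G := le_antisymm hrange_le hG_le
  exact ⟨((MonoidHom.ofInjective hinj).trans (MulEquiv.subgroupCongr hrange)).symm⟩

end Recognize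

/-- `PGL₂` of isomorphic rings are isomorphic. -/
noncomputable def pglCongr {R S : Type*} [CommRing R] [CommRing S] (f : R ≃+* S) :
    PGL(Fin 2, R) ≃* PGL(Fin 2, S) :=
  MonoidHom.toMulEquiv (ProjGenLinGroup.map f.toRingHom) (ProjGenLinGroup.map f.symm.toRingHom)
    (by rw [← ProjGenLinGroup.map_comp]; simp)
    (by rw [← ProjGenLinGroup.map_comp]; simp)

end Cfsg.Agent.helper4.Z3
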