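import Mathlib
import Cfsg.Agent.Lib_helper4_Z3B
import Cfsg.Agent.Lib_helper4_Z3C
import Cfsg.Agent.Lib_helper4_Z3D

set_option autoImplicit false
set_option linter.unusedSectionVars false

/-!
# Sharply 3-transitive groups of odd degree are `PGL₂`
-/

namespace Cfsg.Agent.helper4.Z3

open Matrix Equiv
open scoped LinearAlgebra.Projectivization MatrixGroups
open Cfsg.Agent.helper4.Dk

variable {α : Type*} [Fintype α] [DecidableEq α] {G : Subgroup (Perm α)} (C : Ctx G)

open Classical in
/-- the translation taking `z` to `x` -/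
noncomputable def nu (x : α) : Perm α :=
  if hx : x = C.o then 1 else (Nsub_trans C C.hzo hx).choose

theorem nu_mem (x : α) : nu C x ∈ Nsub C := by
  unfold nu
  split_ifs with hx
  · exact (Nsub C).one_mem
  · exact (Nsub_trans C C.hzo hx).choose_spec.1

theorem nu_apply {x : α} (hx : x ≠ C.o) : nu C x C.z = x := by
  unfold nu
  rw [dif_neg hx]
  exact (Nsub_trans C C.hzo hx).choose_spec.2

theorem nu_unique {x : α} (hx : x ≠ C.o) {n : Perm α} (hn : n ∈ Nsub C) (hnz : n C.z = x) :
    n = nu C x :=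
  Nsub_eq_of_apply C hn (nu_mem C x) C.hzo (hnz.trans (nu_apply C hx).symm)

theorem N_apply_ne {n : Perm α} (hn : n ∈ Nsub C) {x : α} (hx : x ≠ C.o) : n x ≠ C.o := by
  intro h
  exact hx (n.injective (h.trans hn.2.1.symm))

theorem H_apply_ne {h : Perm α} (hh : h ∈ Hsub C) {x : α} (hx : x ≠ C.o) : h x ≠ C.o := by
  intro h'
  exact hx (h.injective (h'.trans hh.2.1.symm))

/-- the field data -/
noncomputable def fdata : FData (Perm α) where
  N := Nsub C
  H := Hsub C
  e := (exists_e C).choose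
  he := (exists_e C).choose_spec.1
  he1 := (exists_e C).choose_spec.2.2
  Ncomm := fun _ hx _ hy => Nsub_comm C hx hy
  Hcomm := fun _ hx _ hy => Hsub_comm C hx hy
  conj_mem := fun _ hh _ hn => Hsub_conj_mem C hh hn
  reg := fun _ hn hn1 => Hsub_reg C (exists_e C).choose_spec.1 (exists_e C).choose_spec.2.1 hn hn1

theorem fdata_e_z : (fdata C).e C.z = C.u := (exists_e C).choose_spec.2.1

/-- coordinate of a point -/
noncomputable def coord (x : α) : KF (fdata C) := ⟨nu C x, nu_mem C x⟩

theorem coord_z : coord C C.z = 0 := by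
  apply KF.ext
  change nu C C.z = 1
  exact (nu_unique C C.hzo (Nsub C).one_mem rfl).symm

theorem coord_u : coord C C.u = 1 := by
  apply KF.ext
  change nu C C.u = (fdata C).e
  exact (nu_unique C C.huo (fdata C).he (fdata_e_z C)).symm

theorem coord_injective {x y : α} (hx : x ≠ C.o) (hy : y ≠ C.o) (h : coord C x = coord C y) :
    x = y := by
  have : nu C x = nu C y := congrArg KF.val h
  rw [← nu_apply C hx, ← nu_apply C hy, this]

theorem coord_val_apply (k : KF (fdata C)) : coord C (k.val C.z) = k := by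
  apply KF.ext
  change nu C (k.val C.z) = k.val
  exact (nu_unique C (N_apply_ne C k.mem C.hzo) k.mem rfl).symm

open Classical in
/-- the identification with the projective line -/
noncomputable def epsFun (x : α) : ℙ (KF (fdata C)) (Fin 2 → KF (fdata C)) :=
  if x = C.o then pInf else pt (coord C x)

theorem epsFun_o : epsFun C C.o = pInf := by
  unfold epsFun; rw [if_pos rfl]

theorem epsFun_of_ne {x : α} (hx : x ≠ C.o) : epsFun C x = pt (coord C x) := by
  unfold epsFun; rw [if_neg hx]

theorem epsFun_bijective : Function.Bijective (epsFun C) := by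
  constructor
  · intro x y h
    by_cases hx : x = C.o
    · by_cases hy : y = C.o
      · rw [hx, hy]
      · rw [hx, epsFun_o, epsFun_of_ne C hy] at h
        exact absurd h.symm (pt_ne_pInf _)
    · by_cases hy : y = C.o
      · rw [hy, epsFun_o, epsFun_of_ne C hx] at h
        exact absurd h (pt_ne_pInf _)
      · rw [epsFun_of_ne C hx, epsFun_of_ne C hy] at h
        exact coord_injective C hx hy (pt_injective h)
  · intro P
    rcases eq_pInf_or_pt P with h | ⟨k, h⟩
    · exact ⟨C.o, by rw [epsFun_o, h]⟩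
    · refine ⟨k.val C.z, ?_⟩
      rw [epsFun_of_ne C (N_apply_ne C k.mem C.hzo), coord_val_apply, h]

/-- the identification as an equivalence -/
noncomputable def eps : α ≃ ℙ (KF (fdata C)) (Fin 2 → KF (fdata C)) :=
  Equiv.ofBijective (epsFun C) (epsFun_bijective C)

theorem eps_apply (x : α) : eps C x = epsFun C x := rfl

theorem coord_N {n : Perm α} (hn : n ∈ Nsub C) {x : α} (hx : x ≠ C.o) :
    coord C (n x) = coord C x + ⟨n, hn⟩ := by
  apply KF.ext
  change nu C (n x) = nu C x * n
  symm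
  apply nu_unique C (N_apply_ne C hn hx) ((Nsub C).mul_mem (nu_mem C x) hn)
  rw [Nsub_comm C (nu_mem C x) hn, Perm.mul_apply, nu_apply C hx]

theorem coord_H {h : Perm α} (hh : h ∈ (fdata C).H) {x : α} (hx : x ≠ C.o) :
    coord C (h x) = KF.cj (D := fdata C) h hh (coord C x) := by
  apply KF.ext
  change nu C (h x) = h * nu C x * h⁻¹
  have hh : h ∈ Hsub C := hh
  symm
  apply nu_unique C (H_apply_ne C hh hx) (Hsub_conj_mem C hh (nu_mem C x))
  rw [conj_apply_z C hh, nu_apply C hx]

theorem hT (b : KF (fdata C)) : ∃ g ∈ G, ∀ x, eps C (g x) = Tp b • eps C x := by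
  refine ⟨b.val, b.mem.1, ?_⟩
  intro x
  rw [eps_apply, eps_apply]
  by_cases hx : x = C.o
  · rw [hx, b.mem.2.1, epsFun_o, Tp_pInf]
  · rw [epsFun_of_ne C (N_apply_ne C b.mem hx), epsFun_of_ne C hx, Tp_pt, coord_N C b.mem hx]

theorem hD (a : KF (fdata C)) (ha : a ≠ 0) : ∃ g ∈ G, ∀ x, eps C (g x) = Dp a ha • eps C x := by
  obtain ⟨h, hh, hcj⟩ := KF.exists_cj_of_ne_zero a ha
  have hh0 : h ∈ Hsub C := hh
  refine ⟨h, hh0.1, ?_⟩
  intro x
  rw [eps_apply, eps_apply]
  by_cases hx : x = C.o
  · rw [hx, hh0.2.1, epsFun_o, Dp_pInf]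
  · rw [epsFun_of_ne C (H_apply_ne C hh0 hx), epsFun_of_ne C hx, Dp_pt, coord_H C hh hx,
      KF.cj_eq_mul, hcj]

theorem hW : ∃ g ∈ G, ∀ x, eps C (g x) =
    (Wp : PGL(Fin 2, KF (fdata C))) • eps C x := by
  obtain ⟨s, hs, hso, hsz, hsu, hs2⟩ := exists_s C
  refine ⟨s, hs, ?_⟩
  intro x
  rw [eps_apply, eps_apply]
  by_cases hx : x = C.o
  · rw [hx, hso, epsFun_o, epsFun_of_ne C C.hzo, coord_z, Wp_pInf]
  by_cases hxz : x = C.z
  · rw [hxz, hsz, epsFun_o, epsFun_of_ne C C.hzo, coord_z, Wp_pt_zero]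
  obtain ⟨h, hh, hhu⟩ := Hsub_trans C C.huo (Ne.symm C.hzu) hx hxz
  have hh' : h ∈ (fdata C).H := hh
  have hcx : coord C x = KF.cj (D := fdata C) h hh' 1 := by
    rw [← hhu, coord_H C hh' C.huo, coord_u]
  have hsx : s x = h⁻¹ C.u := by
    have h1 := Hsub_inv C hs hso hsz hh
    rw [← hhu, ← h1, Perm.mul_apply, Perm.mul_apply, hsu]
  have hhinv : h⁻¹ ∈ Hsub C := (Hsub C).inv_mem hh
  have hhinv' : h⁻¹ ∈ (fdata C).H := hhinv
  have hcsx : coord C (s x) = (coord C x)⁻¹ := by
    rw [hsx, coord_H C hhinv' C.huo, coord_u, hcx, KF.inv_cj_one]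
  have hne : coord C x ≠ 0 := by
    rw [hcx, Ne, KF.cj_eq_zero_iff]
    exact KF.one_ne_zero'
  have hsxo : s x ≠ C.o := by
    rw [hsx]; exact H_apply_ne C hhinv C.huo
  rw [epsFun_of_ne C hsxo, epsFun_of_ne C hx, hcsx, Wp_pt _ hne]

/-- the points other than `o` correspond to the field elements -/
noncomputable def kfEquiv : KF (fdata C) ≃ {x : α // x ≠ C.o} where
  toFun k := ⟨k.val C.z, N_apply_ne C k.mem C.hzo⟩
  invFun x := coord C x.1
  left_inv k := coord_val_apply C k
  right_inv x := by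
    apply Subtype.ext
    exact nu_apply C x.2

noncomputable instance : Fintype (KF (fdata C)) := by
  classical
  exact Fintype.ofEquiv _ (kfEquiv C).symm

theorem card_KF : Fintype.card (KF (fdata C)) + 1 = Fintype.card α := by
  classical
  rw [Fintype.card_congr (kfEquiv C), Fintype.card_subtype_compl, Fintype.card_subtype_eq]
  have : 0 < Fintype.card α := Fintype.card_pos_iff.mpr ⟨C.o⟩
  omega

/-- **Main theorem**: a sharply 3-transitive group of odd degree is `PGL₂` of a finite field. -/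
theorem main : Nonempty (G ≃* PGL(Fin 2, KF (fdata C))) :=
  recognize G C.T (eps C) (hT C) (hD C) (hW C)

end Cfsg.Agent.helper4.Z3
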