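import Mathlib
import Cfsg.Agent.Lib_helper4_CitC
import Cfsg.Agent.Lib_helper4_Z3E

set_option autoImplicit false
set_option linter.unusedSectionVars false

/-!
# CIT groups are `PGL₂` of a field of characteristic 2
-/

namespace Cfsg.Agent.helper4.Cit

open Equiv
open scoped MatrixGroups
open Cfsg.Agent.helper4.Z3

universe u

variable {G : Type u} [Group G] [Finite G]

noncomputable instance : Fintype (Sylow 2 G) := Fintype.ofFinite _
noncomputable instance : DecidableEq (Sylow 2 G) := Classical.decEq _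

/-- the permutation representation on Sylow 2-subgroups -/
noncomputable def rho (G : Type*) [Group G] : G →* Perm (Sylow 2 G) :=
  MulAction.toPermHom G (Sylow 2 G)

theorem rho_apply (g : G) (P : Sylow 2 G) : rho G g P = g • P := rfl

theorem exists_three (h : CIT G) (hq : Big G) (T : Sylow 2 G) (hnn : ¬ (T : Subgroup G).Normal) :
    ∃ A B : Sylow 2 G, T ≠ A ∧ T ≠ B ∧ A ≠ B := by
  obtain ⟨g, hg⟩ : ∃ g : G, g • T ≠ T := by
    by_contra hall
    push Not at hall
    apply hnn
    rw [← Subgroup.normalizer_eq_top_iff, eq_top_iff]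
    intro g _
    exact Sylow.smul_eq_iff_mem_normalizer.mp (hall g)
  obtain ⟨t, ht, ht1⟩ := exists_ne_one_mem hq T
  refine ⟨g • T, t • (g • T), Ne.symm hg, ?_, ?_⟩
  · intro h1
    apply hg
    have : t • T = t • (g • T) := by rw [fix_of_mem T ht]; exact h1
    exact (MulAction.injective t this).symm
  · intro h1
    exact ht1 (eq_one_of_fix h (Ne.symm hg) ht h1.symm)

theorem tri_range (h : CIT G) (hq : Big G) : Tri (rho G).range := by
  constructor
  · intro a b c a' b' c' hab hac hbc hab' hac' hbc'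
    obtain ⟨g, h1, h2, h3⟩ := three_trans h hq hab hac hbc hab' hac' hbc'
    exact ⟨rho G g, ⟨g, rfl⟩, h1, h2, h3⟩
  · rintro _ ⟨g, rfl⟩ a b c hab hac hbc ha hb hc
    have := three_fix h hq hab hac hbc ha hb hc
    rw [this, map_one]

theorem rho_injective (h : CIT G) (hq : Big G) (T : Sylow 2 G)
    (hnn : ¬ (T : Subgroup G).Normal) : Function.Injective (rho G) := by
  obtain ⟨A, B, hTA, hTB, hAB⟩ := exists_three h hq T hnn
  rw [injective_iff_map_eq_one]
  intro g hg
  have hfix : ∀ P : Sylow 2 G, g • P = P := by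
    intro P
    have := congrArg (fun σ : Perm (Sylow 2 G) => σ P) hg
    simpa [rho_apply] using this
  exact three_fix h hq hTA hTB hAB (hfix _) (hfix _) (hfix _)

theorem card_sylow (h : CIT G) (hq : Big G) (T : Sylow 2 G) (hnn : ¬ (T : Subgroup G).Normal) :
    Fintype.card (Sylow 2 G) = Nat.card T + 1 := by
  classical
  obtain ⟨A, _, hTA, _, _⟩ := exists_three h hq T hnn
  have hbij : Nat.card (T : Subgroup G) = Nat.card {B : Sylow 2 G // B ≠ T} := by
    apply Nat.card_congr
    refine Equiv.ofBijective (fun t => (⟨t.1 • A, ?_⟩ : {B : Sylow 2 G // B ≠ T})) ⟨?_, ?_⟩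
    · intro h1
      apply hTA
      have : t.1 • A = t.1 • T := by rw [fix_of_mem T t.2]; exact h1
      exact (MulAction.injective t.1 this).symm
    · intro t t' htt
      have h1 : t.1 • A = t'.1 • A := congrArg Subtype.val htt
      have h2 : (t'.1⁻¹ * t.1) • A = A := by rw [mul_smul, h1, inv_smul_smul]
      have h3 := eq_one_of_fix h hTA
        ((T : Subgroup G).mul_mem ((T : Subgroup G).inv_mem t'.2) t.2) h2
      apply Subtype.ext
      exact (inv_mul_eq_one.mp h3).symm
    · intro B
      obtain ⟨t, ht, htB⟩ := P_trans h hq hTA (Ne.symm B.2)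
      exact ⟨⟨t, ht⟩, Subtype.ext htB⟩
  rw [hbij, Nat.card_eq_fintype_card, Fintype.card_subtype_compl, Fintype.card_subtype_eq]
  have : 0 < Fintype.card (Sylow 2 G) := Fintype.card_pos_iff.mpr ⟨T⟩
  omega

/-- **Main theorem** for CIT groups. -/
theorem cit_main (h : CIT G) (hq : Big G) (T : Sylow 2 G) (hnn : ¬ (T : Subgroup G).Normal) :
    ∃ (K : Type u) (_ : Field K) (_ : Fintype K), Fintype.card K = Nat.card T ∧
      Nonempty (G ≃* PGL(Fin 2, K)) := by
  obtain ⟨A, B, hTA, hTB, hAB⟩ := exists_three h hq T hnn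
  have hcard := card_sylow h hq T hnn
  have heven : 2 ∣ Nat.card T := by
    obtain ⟨t, ht, ht1⟩ := exists_ne_one_mem hq T
    have hsq := (sylow_props h T (ne_bot_of_mem T ht ht1)).1 t ht
    have hord : orderOf t = 2 := orderOf_eq_prime hsq ht1
    have h2 : orderOf (⟨t, ht⟩ : ↥(T : Subgroup G)) = 2 :=
      (Subgroup.orderOf_mk t ht).trans hord
    have h3 : orderOf (⟨t, ht⟩ : ↥(T : Subgroup G)) ∣ Nat.card ↥(T : Subgroup G) :=
      orderOf_dvd_natCard _
    exact (dvd_of_eq h2.symm).trans h3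
  have hodd : ¬ 2 ∣ Fintype.card (Sylow 2 G) := by
    rw [hcard]; omega
  let C : Ctx (rho G).range := ⟨tri_range h hq, hodd, T, A, B, Ne.symm hTA, Ne.symm hTB, hAB⟩
  obtain ⟨e⟩ := main C
  have hK : Fintype.card (KF (fdata C)) + 1 = Fintype.card (Sylow 2 G) := card_KF C
  refine ⟨KF (fdata C), inferInstance, inferInstance, ?_, ⟨?_⟩⟩
  · omega
  exact (MonoidHom.ofInjective (rho_injective h hq T hnn)).trans e

end Cfsg.Agent.helper4.Cit
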