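import Mathlib

set_option autoImplicit false

namespace Cfsg.Agent.helper4.SU32

/-- A concrete, computable model of the field with four elements: `v = w² = w + 1`. -/
inductive F4 : Type
  | z | o | w | v
  deriving DecidableEq

namespace F4

instance : Fintype F4 := ⟨{z, o, w, v}, by intro x; cases x <;> decide⟩

def add : F4 → F4 → F4
  | z, x => x
  | x, z => x
  | o, o => z
  | o, w => v
  | o, v => w
  | w, o => v
  | w, w => z
  | w, v => o
  | v, o => w
  | v, w => o
  | v, v => z

def mul : F4 → F4 → F4
  | z, _ => z
  | _, z => z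
  | o, x => x
  | x, o => x
  | w, w => v
  | w, v => o
  | v, w => o
  | v, v => w

def inv : F4 → F4
  | z => z
  | o => o
  | w => v
  | v => w

instance : Zero F4 := ⟨z⟩
instance : One F4 := ⟨o⟩
instance : Add F4 := ⟨add⟩
instance : Mul F4 := ⟨mul⟩
instance : Neg F4 := ⟨id⟩
instance : Inv F4 := ⟨inv⟩

theorem add_assoc' : ∀ a b c : F4, a + b + c = a + (b + c) := by decide
theorem zero_add' : ∀ a : F4, 0 + a = a := by decide
theorem add_zero' : ∀ a : F4, a + 0 = a := by decide
theorem neg_add' : ∀ a : F4, -a + a = 0 := by decide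
theorem add_comm' : ∀ a b : F4, a + b = b + a := by decide
theorem left_distrib' : ∀ a b c : F4, a * (b + c) = a * b + a * c := by decide
theorem right_distrib' : ∀ a b c : F4, (a + b) * c = a * c + b * c := by decide
theorem zero_mul' : ∀ a : F4, 0 * a = 0 := by decide
theorem mul_zero' : ∀ a : F4, a * 0 = 0 := by decide
theorem mul_assoc' : ∀ a b c : F4, a * b * c = a * (b * c) := by decide
theorem one_mul' : ∀ a : F4, 1 * a = a := by decide
theorem mul_one' : ∀ a : F4, a * 1 = a := by decide
theorem mul_comm' : ∀ a b : F4, a * b = b * a := by decide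
theorem mul_inv_cancel' : ∀ a : F4, a ≠ 0 → a * a⁻¹ = 1 := by decide

instance : CommRing F4 where
  add_assoc := add_assoc'
  zero_add := zero_add'
  add_zero := add_zero'
  nsmul := nsmulRec
  zsmul := zsmulRec
  neg_add_cancel := neg_add'
  add_comm := add_comm'
  left_distrib := left_distrib'
  right_distrib := right_distrib'
  zero_mul := zero_mul'
  mul_zero := mul_zero'
  mul_assoc := mul_assoc'
  one_mul := one_mul'
  mul_one := mul_one'
  mul_comm := mul_comm'

instance : Field F4 where
  exists_pair_ne := ⟨z, o, by decide⟩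
  mul_inv_cancel := mul_inv_cancel'
  inv_zero := rfl
  nnqsmul := _
  qsmul := _

theorem card_F4 : Fintype.card F4 = 4 := rfl

end F4

end Cfsg.Agent.helper4.SU32
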