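import Mathlib
import Cfsg.Agent.Lib_helper4_DnAB
import Cfsg.Agent.Lib_helper4_MxN

set_option autoImplicit false
set_option linter.unusedSectionVars false
set_option linter.style.haveILetI false
set_option maxHeartbeats 1600000

/-!
# The Sylow 2-subgroups of `PSL₂(F)`, `|F| ≡ ±1 mod 8`, are dihedral
-/

namespace Cfsg.Agent.helper4.Fs

open Matrix
open scoped LinearAlgebra.Projectivization MatrixGroups
open Cfsg.Agent.helper4.Dk Cfsg.Agent.helper4.Dn

variable {F : Type*} [Field F] [Fintype F]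

/-- `PSL₂(F)` (`|F|` odd) has a dihedral subgroup of every even order `m ≥ 3` dividing
`q - 1` or `q + 1` -/
theorem exists_dih_of_dvd (hodd : Odd (Fintype.card F)) {e : ℕ}
    (he : e = Fintype.card F - 1 ∨ e = Fintype.card F + 1) {m : ℕ} (hm : m ∣ e) (hm3 : 3 ≤ m)
    (hm2 : 2 ∣ m) :
    ∃ D : Subgroup (Matrix.ProjectiveSpecialLinearGroup (Fin 2) F),
      Nonempty (D ≃* DihedralGroup (m / 2)) := by
  classical
  have hq2 : 2 ≤ Fintype.card F := Fintype.one_lt_card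
  have he0 : e ≠ 0 := by
    rcases hodd with ⟨t, ht⟩
    rcases he with rfl | rfl <;> omega
  have hgcd : Nat.gcd 2 (Fintype.card F - 1) = 2 := by
    obtain ⟨t, ht⟩ := hodd
    rw [ht]
    have : 2 * t + 1 - 1 = 2 * t := by omega
    rw [this]
    exact Nat.gcd_eq_left (dvd_mul_right 2 t)
  have key : ∀ (y y' : ℙ (AlgebraicClosure F) (Fin 2 → AlgebraicClosure F))
      (c₀ g₀ : SpecialLinearGroup (Fin 2) F), y ≠ y' → orderOf c₀ = e →
      iota F (AlgebraicClosure F) c₀ • y = y → iota F (AlgebraicClosure F) c₀ • y' = y' →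
      iota F (AlgebraicClosure F) g₀ • y = y' → iota F (AlgebraicClosure F) g₀ • y' = y →
      ∃ D : Subgroup (Matrix.ProjectiveSpecialLinearGroup (Fin 2) F),
        Nonempty (D ≃* DihedralGroup (m / 2)) := by
    intro y y' c₀ g₀ hyy hord hc1 hc2 hg1 hg2
    have hkd : e / m ∣ orderOf c₀ := by rw [hord]; exact Nat.div_dvd_of_dvd hm
    have hk0 : e / m ≠ 0 := by
      intro h0
      have := Nat.div_mul_cancel hm
      rw [h0, zero_mul] at this
      exact he0 this.symm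
    have hord1 : orderOf (c₀ ^ (e / m)) = m := by
      rw [orderOf_pow_of_dvd hk0 hkd, hord, Nat.div_div_self hm he0]
    have hf1 : iota F (AlgebraicClosure F) (c₀ ^ (e / m)) • y = y := by
      rw [map_pow]; exact pow_smul_fix hc1 _
    have hf2 : iota F (AlgebraicClosure F) (c₀ ^ (e / m)) • y' = y' := by
      rw [map_pow]; exact pow_smul_fix hc2 _
    obtain ⟨D, ⟨e1⟩⟩ := dihedral_sub (K := AlgebraicClosure F) hyy hm3 (fun _ => hm2) hord1 hf1 hf2 hg1 hg2
    rw [hgcd] at e1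
    exact ⟨D, ⟨e1⟩⟩
  rcases he with rfl | rfl
  · obtain ⟨c₀, g₀, hord, hc1, hc2, hg1, hg2⟩ := split_data (F := F) (K := AlgebraicClosure F)
    exact key _ _ c₀ g₀ (Ne.symm (pt_ne_pInf 0)) hord hc1 hc2 hg1 hg2
  · obtain ⟨y, y', c₀, g₀, hyy, hord, hc1, hc2, hg1, hg2⟩ :=
      nonsplit_data (F := F) (K := AlgebraicClosure F)
    exact key y y' c₀ g₀ hyy hord hc1 hc2 hg1 hg2

/-- numerics: the `2`-part of `q ∓ 1` -/
theorem num_split {q : ℕ} (hq2 : 2 ≤ q) (hodd : q % 2 = 1) (h16 : 16 ∣ q ^ 2 - 1) :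
    ∃ e k m' f' : ℕ, (e = q - 1 ∨ e = q + 1) ∧ 3 ≤ k ∧ Odd m' ∧ Odd f' ∧ e = 2 ^ k * m' ∧
      q * (q ^ 2 - 1) = 2 * (2 ^ k * (q * m' * f')) := by
  have hq1 : 1 ≤ q := by omega
  have hsq : q ^ 2 - 1 = (q - 1) * (q + 1) := by
    obtain ⟨n, rfl⟩ : ∃ n, q = n + 1 := ⟨q - 1, by omega⟩
    simp only [Nat.add_sub_cancel]
    have : (n + 1) ^ 2 = n * (n + 1 + 1) + 1 := by ring
    omega
  have hmain : ∀ e e' : ℕ, (e = q - 1 ∨ e = q + 1) → e * e' = q ^ 2 - 1 → 8 ∣ e →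
      (∃ f', Odd f' ∧ e' = 2 * f') → 
      ∃ e k m' f' : ℕ, (e = q - 1 ∨ e = q + 1) ∧ 3 ≤ k ∧ Odd m' ∧ Odd f' ∧ e = 2 ^ k * m' ∧
      q * (q ^ 2 - 1) = 2 * (2 ^ k * (q * m' * f')) := by
    intro e e' he hee h8 ⟨f', hf', hef⟩
    have he0 : e ≠ 0 := by
      rcases he with rfl | rfl <;> omega
    obtain ⟨k, m', hm', hek⟩ := Nat.exists_eq_two_pow_mul_odd he0
    have hk3 : 3 ≤ k := by
      have h1 : (2 : ℕ) ^ 3 ∣ 2 ^ k * m' := by rw [← hek]; exact h8
      have hc : Nat.Coprime (2 ^ 3) m' := Nat.Coprime.pow_left _ hm'.coprime_two_left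
      have h2 : (2 : ℕ) ^ 3 ∣ 2 ^ k := hc.dvd_of_dvd_mul_right h1
      exact (Nat.pow_dvd_pow_iff_le_right (by norm_num)).mp h2
    refine ⟨e, k, m', f', he, hk3, hm', hf', hek, ?_⟩
    rw [← hee, hek, hef]
    ring
  obtain ⟨t, ht⟩ : ∃ t, q = 2 * t + 1 := ⟨q / 2, by omega⟩
  rcases Nat.even_or_odd t with ⟨s, hs⟩ | ⟨s, hs⟩
  · -- q = 4s+1
    have hq : q = 4 * s + 1 := by omega
    have h8 : 8 ∣ q - 1 := by
      have h1 : q ^ 2 - 1 = 8 * (s * (2 * s + 1)) := by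
        rw [hsq, hq]
        have : 4 * s + 1 - 1 = 4 * s := by omega
        rw [this]; ring
      rw [h1] at h16
      have h2 : 2 ∣ s * (2 * s + 1) := by
        obtain ⟨c, hc⟩ := h16
        exact ⟨c, by omega⟩
      have h3 : 2 ∣ s := by
        have hc : Nat.Coprime 2 (2 * s + 1) := by
          rw [Nat.coprime_two_left]; exact ⟨s, rfl⟩
        exact hc.dvd_of_dvd_mul_right h2
      obtain ⟨c, hc⟩ := h3
      exact ⟨c, by omega⟩
    exact hmain (q - 1) (q + 1) (Or.inl rfl) hsq.symm h8 ⟨2 * s + 1, ⟨s, rfl⟩, by omega⟩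
  · -- q = 4s+3
    have hq : q = 4 * s + 3 := by omega
    have h8 : 8 ∣ q + 1 := by
      have h1 : q ^ 2 - 1 = 8 * ((s + 1) * (2 * s + 1)) := by
        rw [hsq, hq]
        have : 4 * s + 3 - 1 = 4 * s + 2 := by omega
        rw [this]; ring
      rw [h1] at h16
      have h2 : 2 ∣ (s + 1) * (2 * s + 1) := by
        obtain ⟨c, hc⟩ := h16
        exact ⟨c, by omega⟩
      have h3 : 2 ∣ s + 1 := by
        have hc : Nat.Coprime 2 (2 * s + 1) := by
          rw [Nat.coprime_two_left]; exact ⟨s, rfl⟩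
        exact hc.dvd_of_dvd_mul_right h2
      obtain ⟨c, hc⟩ := h3
      exact ⟨c, by omega⟩
    exact hmain (q + 1) (q - 1) (Or.inr rfl) (by rw [hsq, mul_comm]) h8
      ⟨2 * s + 1, ⟨s, rfl⟩, by omega⟩

/-- the Sylow `2`-subgroups of `PSL₂(F)` are dihedral of order at least `8` when
`|F|² ≡ 1 mod 16` -/
theorem sylow_dihedral (hodd : Fintype.card F % 2 = 1) (h16 : 16 ∣ Fintype.card F ^ 2 - 1)
    (S : Sylow 2 (Matrix.ProjectiveSpecialLinearGroup (Fin 2) F)) :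
    ∃ m : ℕ, 2 ≤ m ∧
      Nonempty ((S : Subgroup (Matrix.ProjectiveSpecialLinearGroup (Fin 2) F)) ≃*
        DihedralGroup (2 ^ m)) := by
  classical
  haveI : Fact (Nat.Prime 2) := ⟨Nat.prime_two⟩
  have h2 : (2 : F) ≠ 0 := by
    intro h
    have := (two_eq_zero_iff_dvd (F := F)).mp h
    omega
  have hoddq : Odd (Fintype.card F) := Nat.odd_iff.mpr hodd
  obtain ⟨e, k, m', f', he, hk3, hm', hf', hek, hcard⟩ := num_split Fintype.one_lt_card hodd h16
  have hcardG : Nat.card (Matrix.ProjectiveSpecialLinearGroup (Fin 2) F) =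
      2 ^ k * (Fintype.card F * m' * f') := by
    have := Cfsg.Agent.helper4.Mx.two_mul_card_PSL h2
    rw [hcard] at this
    omega
  have hk1 : 1 ≤ k := by omega
  have hdiv : (2 ^ k) / 2 = 2 ^ (k - 1) := by
    obtain ⟨k', rfl⟩ : ∃ k', k = k' + 1 := ⟨k - 1, by omega⟩
    rw [pow_succ, Nat.add_sub_cancel]
    exact Nat.mul_div_cancel _ (by norm_num)
  have h8 : 8 ≤ 2 ^ k := by
    calc 8 = 2 ^ 3 := by norm_num
      _ ≤ 2 ^ k := Nat.pow_le_pow_right (by norm_num) hk3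
  obtain ⟨D, ⟨eD⟩⟩ := exists_dih_of_dvd hoddq he (m := 2 ^ k) (by rw [hek]; exact dvd_mul_right _ _)
    (by omega) (dvd_pow_self 2 (by omega))
  rw [hdiv] at eD
  have hcardD : Nat.card D = 2 ^ k := by
    rw [Nat.card_congr eD.toEquiv, DihedralGroup.nat_card, ← pow_succ', Nat.sub_add_cancel hk1]
  have hDp : IsPGroup 2 D := IsPGroup.of_card hcardD
  have hidx : ¬ 2 ∣ D.index := by
    have h1 := Subgroup.card_mul_index D
    rw [hcardD, hcardG] at h1
    have h3 : D.index = Fintype.card F * m' * f' :=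
      Nat.eq_of_mul_eq_mul_left (by positivity) h1
    rw [h3]
    have : Odd (Fintype.card F * m' * f') := (hoddq.mul hm').mul hf'
    rw [← Nat.not_even_iff_odd, even_iff_two_dvd] at this
    exact this
  set P₀ : Sylow 2 (Matrix.ProjectiveSpecialLinearGroup (Fin 2) F) := hDp.toSylow hidx with hP₀
  have e1 : (S : Subgroup (Matrix.ProjectiveSpecialLinearGroup (Fin 2) F)) ≃* D :=
    Sylow.equiv S P₀
  refine ⟨k - 1, by omega, ⟨e1.trans eD⟩⟩

end Cfsg.Agent.helper4.Fs
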