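import Mathlib
import Cfsg.Agent.Lib_helper4_DnM

set_option autoImplicit false
set_option linter.unusedSectionVars false
set_option maxHeartbeats 1600000

/-!
# Involutions of `PSL₂(F)` (`|F|` odd) are conjugate
-/

namespace Cfsg.Agent.helper4.Fs

open Matrix Polynomial
open scoped LinearAlgebra.Projectivization MatrixGroups
open Cfsg.Agent.helper4.Dk Cfsg.Agent.helper4.Dn

variable {F : Type*} [Field F] [Fintype F]

theorem exists_sq_add_sq (hodd : Fintype.card F % 2 = 1) (c : F) : ∃ X Y : F, X ^ 2 + Y ^ 2 = c := by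
  let f : F[X] := X ^ 2
  let g : F[X] := X ^ 2 - C c
  obtain ⟨a, b, hab⟩ : ∃ a b, f.eval a + g.eval b = 0 :=
    FiniteField.exists_root_sum_quadratic (f := f) (g := g) (degree_X_pow 2)
      (degree_X_pow_sub_C (by decide) _) hodd
  refine ⟨a, b, ?_⟩
  rw [← sub_eq_zero]
  simpa only [f, g, eval_C, eval_X, eval_pow, eval_sub, ← add_sub_assoc] using hab

/-- the column matrix `[v | g v]` -/
def colS (g : SpecialLinearGroup (Fin 2) F) (x y : F)
    (h : g 1 0 * x ^ 2 + (g 1 1 - g 0 0) * x * y - g 0 1 * y ^ 2 = 1) : SpecialLinearGroup (Fin 2) F :=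
  ⟨!![x, g 0 0 * x + g 0 1 * y; y, g 1 0 * x + g 1 1 * y], by
    rw [det_fin_two_of]; linear_combination h⟩

theorem trace_zero_conj (hodd : Fintype.card F % 2 = 1) (g : SpecialLinearGroup (Fin 2) F)
    (htr : g 0 0 + g 1 1 = 0) : ∃ P : SpecialLinearGroup (Fin 2) F, g = P * wS 0 * P⁻¹ := by
  have h2 : (2 : F) ≠ 0 := by
    intro h
    have := (two_eq_zero_iff_dvd (F := F)).mp h
    omega
  have hd := det_eq g
  have h11 : g 1 1 = - g 0 0 := by linear_combination htr
  obtain ⟨x, y, hxy⟩ : ∃ x y : F, g 1 0 * x ^ 2 + (g 1 1 - g 0 0) * x * y - g 0 1 * y ^ 2 = 1 := by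
    by_cases hc : g 1 0 = 0
    · have ha : g 0 0 ≠ 0 := by
        intro h0
        rw [h0, hc] at hd
        simp at hd
      refine ⟨-(1 + g 0 1) / (2 * g 0 0), 1, ?_⟩
      rw [hc, h11]
      field_simp
      ring
    · obtain ⟨X, Y, hXY⟩ := exists_sq_add_sq hodd (g 1 0)
      refine ⟨(X + g 0 0 * Y) / g 1 0, Y, ?_⟩
      rw [h11]
      rw [h11] at hd
      field_simp
      linear_combination hXY + Y ^ 2 * hd
  refine ⟨colS g x y hxy, ?_⟩
  rw [eq_mul_inv_iff_mul_eq]
  apply sl_ext'
  · rw [mul_00, mul_00]; simp [colS]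
  · rw [mul_01, mul_01]; simp [colS]
    rw [h11]; rw [h11] at hd
    linear_combination (-x) * hd
  · rw [mul_10, mul_10]; simp [colS]
  · rw [mul_11, mul_11]; simp [colS]
    rw [h11]; rw [h11] at hd
    linear_combination (-y) * hd

theorem trace_zero_of_sq (_h2 : (2 : F) ≠ 0) (g : SpecialLinearGroup (Fin 2) F)
    (hx1 : piF F g ≠ 1) (hxx : piF F g * piF F g = 1) : g 0 0 + g 1 1 = 0 := by
  have hd := det_eq g
  rw [← map_mul, piF_eq_one_iff] at hxx
  have hne1 : g ≠ 1 := fun h => hx1 ((piF_eq_one_iff g).mpr (Or.inl h))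
  have hne2 : g ≠ -1 := fun h => hx1 ((piF_eq_one_iff g).mpr (Or.inr h))
  by_contra htr
  rcases hxx with h | h
  · have e00 := congrArg (fun A : SpecialLinearGroup (Fin 2) F => A 0 0) h
    have e01 := congrArg (fun A : SpecialLinearGroup (Fin 2) F => A 0 1) h
    have e10 := congrArg (fun A : SpecialLinearGroup (Fin 2) F => A 1 0) h
    have e11 := congrArg (fun A : SpecialLinearGroup (Fin 2) F => A 1 1) h
    simp only [mul_00, mul_01, mul_10, mul_11, one_00, one_01, one_10, one_11] at e00 e01 e10 e11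
    have hb : g 0 1 = 0 := by
      have : g 0 1 * (g 0 0 + g 1 1) = 0 := by linear_combination e01
      rcases mul_eq_zero.mp this with h' | h'
      · exact h'
      · exact absurd h' htr
    have hc : g 1 0 = 0 := by
      have : g 1 0 * (g 0 0 + g 1 1) = 0 := by linear_combination e10
      rcases mul_eq_zero.mp this with h' | h'
      · exact h'
      · exact absurd h' htr
    rw [hb, hc] at e00 e11 hd
    have ha : (g 0 0 - 1) * (g 0 0 + 1) = 0 := by linear_combination e00
    rcases mul_eq_zero.mp ha with h' | h'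
    · have ha1 : g 0 0 = 1 := sub_eq_zero.mp h'
      have hd1 : g 1 1 = 1 := by rw [ha1] at hd; linear_combination hd
      exact hne1 (by apply sl_ext' <;> simp [ha1, hd1, hb, hc])
    · have ha1 : g 0 0 = -1 := eq_neg_of_add_eq_zero_left h'
      have hd1 : g 1 1 = -1 := by rw [ha1] at hd; linear_combination -hd
      exact hne2 (by apply sl_ext' <;> simp [ha1, hd1, hb, hc])
  · have e00 := congrArg (fun A : SpecialLinearGroup (Fin 2) F => A 0 0) h
    have e01 := congrArg (fun A : SpecialLinearGroup (Fin 2) F => A 0 1) h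
    have e10 := congrArg (fun A : SpecialLinearGroup (Fin 2) F => A 1 0) h
    have e11 := congrArg (fun A : SpecialLinearGroup (Fin 2) F => A 1 1) h
    simp only [mul_00, mul_01, mul_10, mul_11, neg_00, neg_01, neg_10, neg_11,
      one_00, one_01, one_10, one_11] at e00 e01 e10 e11
    have hb : g 0 1 = 0 := by
      have : g 0 1 * (g 0 0 + g 1 1) = 0 := by linear_combination e01
      rcases mul_eq_zero.mp this with h' | h'
      · exact h'
      · exact absurd h' htr
    have hc : g 1 0 = 0 := by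
      have : g 1 0 * (g 0 0 + g 1 1) = 0 := by linear_combination e10
      rcases mul_eq_zero.mp this with h' | h'
      · exact h'
      · exact absurd h' htr
    rw [hb, hc] at e00 e11 hd
    apply htr
    have : (g 0 0 + g 1 1) ^ 2 = 0 := by linear_combination e00 + e11 + 2 * hd
    exact pow_eq_zero_iff (two_ne_zero) |>.mp this

/-- all involutions of `PSL₂(F)`, `|F|` odd, are conjugate -/
theorem involutions_conj (hodd : Fintype.card F % 2 = 1)
    (x y : Matrix.ProjectiveSpecialLinearGroup (Fin 2) F) (hx1 : x ≠ 1) (hxx : x * x = 1)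
    (hy1 : y ≠ 1) (hyy : y * y = 1) : ∃ g, g * x * g⁻¹ = y := by
  have h2 : (2 : F) ≠ 0 := by
    intro h
    have := (two_eq_zero_iff_dvd (F := F)).mp h
    omega
  obtain ⟨a, rfl⟩ := piF_surjective x
  obtain ⟨b, rfl⟩ := piF_surjective y
  obtain ⟨P, hP⟩ := trace_zero_conj hodd a (trace_zero_of_sq h2 a hx1 hxx)
  obtain ⟨Q, hQ⟩ := trace_zero_conj hodd b (trace_zero_of_sq h2 b hy1 hyy)
  refine ⟨piF F (Q * P⁻¹), ?_⟩
  rw [← map_mul, ← map_inv, ← map_mul]
  congr 1
  rw [hQ, hP]
  group

end Cfsg.Agent.helper4.Fs
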