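import Mathlib

set_option autoImplicit false
set_option linter.unusedSectionVars false
set_option maxHeartbeats 1600000

/-!
# Dihedral 2-groups as Sylow subgroups: generation by involutions and normalizers
-/

namespace Cfsg.Agent.helper4.Fs

variable {G : Type*} [Group G]

/-- a group isomorphic to a dihedral group is generated by involutions -/
theorem gen_by_inv {k : ℕ} {S : Subgroup G} (e : S ≃* DihedralGroup k) (T : Subgroup G)
    (hT : ∀ u ∈ S, u * u = 1 → u ∈ T) : S ≤ T := by
  have hsr : ∀ i : ZMod k, ((e.symm (DihedralGroup.sr i) : S) : G) ∈ T := by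
    intro i
    refine hT _ (e.symm _).2 ?_
    rw [← Subgroup.coe_mul, ← map_mul, DihedralGroup.sr_mul_self, map_one, Subgroup.coe_one]
  have key : ∀ d : DihedralGroup k, ((e.symm d : S) : G) ∈ T := by
    intro d
    cases d with
    | r i =>
      have h1 : (DihedralGroup.r i : DihedralGroup k) = DihedralGroup.sr 0 * DihedralGroup.sr i := by
        rw [DihedralGroup.sr_mul_sr, sub_zero]
      rw [h1, map_mul, Subgroup.coe_mul]
      exact T.mul_mem (hsr 0) (hsr i)
    | sr i => exact hsr i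
  intro x hx
  have := key (e ⟨x, hx⟩)
  rwa [MulEquiv.symm_apply_apply] at this

theorem conj_pow_iter (h a : G) (n : ℕ) (hn : h * a * h⁻¹ = a ^ n) (i : ℕ) :
    h ^ i * a * (h ^ i)⁻¹ = a ^ (n ^ i) := by
  induction i with
  | zero => simp
  | succ i ih =>
    have : h ^ (i + 1) * a * (h ^ (i + 1))⁻¹ = h * (h ^ i * a * (h ^ i)⁻¹) * h⁻¹ := by
      rw [pow_succ']; group
    rw [this, ih, ← conj_pow, hn, ← pow_mul, pow_succ, mul_comm]

theorem conj_mul_iter (h x c : G) (hx : h * x * h⁻¹ = x * c) (hc : h * c * h⁻¹ = c) (i : ℕ) :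
    h ^ i * x * (h ^ i)⁻¹ = x * c ^ i := by
  induction i with
  | zero => simp
  | succ i ih =>
    have : h ^ (i + 1) * x * (h ^ (i + 1))⁻¹ = h * (h ^ i * x * (h ^ i)⁻¹) * h⁻¹ := by
      rw [pow_succ']; group
    have h2 : h * (x * c ^ i) * h⁻¹ = (h * x * h⁻¹) * (h * c * h⁻¹) ^ i := by
      rw [conj_pow]; group
    rw [this, ih, h2, hx, hc, pow_succ, mul_assoc]
    congr 1
    exact (pow_mul_comm' c i).symm

/-- number theory: `n ^ j ≡ 1 mod 2^m` with `j` odd forces `n ≡ 1` -/
theorem modEq_one_of_pow {m n j : ℕ} (hj : Odd j) (h : n ^ j ≡ 1 [MOD 2 ^ m]) :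
    n ≡ 1 [MOD 2 ^ m] := by
  rcases Nat.eq_zero_or_pos m with rfl | hm
  · simp [Nat.modEq_one]
  have hj0 : j ≠ 0 := by rintro rfl; simp at hj
  have hcop : Nat.Coprime n (2 ^ m) := by
    apply Nat.coprime_of_mul_modEq_one (n ^ (j - 1))
    rw [← pow_succ', Nat.sub_add_cancel (Nat.pos_of_ne_zero hj0)]
    exact h
  have h2 : n ^ Nat.totient (2 ^ m) ≡ 1 [MOD 2 ^ m] := Nat.ModEq.pow_totient hcop
  rw [Nat.totient_prime_pow Nat.prime_two hm] at h2
  simp only [Nat.add_one_sub_one, mul_one] at h2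
  have e1 : ((n : ZMod (2 ^ m))) ^ j = 1 := by
    have := (ZMod.natCast_eq_natCast_iff _ _ _).mpr h
    simpa using this
  have e2 : ((n : ZMod (2 ^ m))) ^ (2 ^ (m - 1)) = 1 := by
    have := (ZMod.natCast_eq_natCast_iff _ _ _).mpr h2
    simpa using this
  have d1 := orderOf_dvd_of_pow_eq_one e1
  have d2 := orderOf_dvd_of_pow_eq_one e2
  have hc : Nat.Coprime j (2 ^ (m - 1)) := by
    apply Nat.Coprime.pow_right
    exact hj.coprime_two_right
  have h1 : orderOf ((n : ZMod (2 ^ m))) = 1 := Nat.eq_one_of_dvd_coprimes hc d1 d2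
  rw [orderOf_eq_one_iff] at h1
  have := (ZMod.natCast_eq_natCast_iff n 1 (2 ^ m)).mp (by simpa using h1)
  exact this

/-- an element of odd order normalizing a dihedral 2-group of order at least 8 centralizes it -/
theorem odd_centralizes {m : ℕ} (hm : 2 ≤ m) {S : Subgroup G} (e : S ≃* DihedralGroup (2 ^ m))
    (h : G) (hS : ∀ x ∈ S, h * x * h⁻¹ ∈ S) (hodd : Odd (orderOf h)) :
    ∀ x ∈ S, h * x * h⁻¹ = x := by
  haveI : NeZero (2 ^ m) := ⟨by positivity⟩
  have hk4 : 4 ≤ 2 ^ m := by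
    calc 4 = 2 ^ 2 := by norm_num
      _ ≤ 2 ^ m := Nat.pow_le_pow_right (by norm_num) hm
  set j := orderOf h with hj
  have hhj : h ^ j = 1 := pow_orderOf_eq_one h
  -- the generator of the cyclic part
  set a : S := e.symm (DihedralGroup.r 1) with ha
  have hord_a : orderOf (a : G) = 2 ^ m := by
    rw [Subgroup.orderOf_coe, ha, MulEquiv.orderOf_eq, DihedralGroup.orderOf_r_one]
  have hrpow : ∀ u : ZMod (2 ^ m), ((e.symm (DihedralGroup.r u) : S) : G) = (a : G) ^ u.val := by
    intro u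
    rw [← Subgroup.coe_pow, ha, ← map_pow, DihedralGroup.r_one_pow, ZMod.natCast_zmod_val]
  -- Step A
  obtain ⟨n, hn⟩ : ∃ n : ℕ, h * (a : G) * h⁻¹ = (a : G) ^ n := by
    set b : S := ⟨h * a * h⁻¹, hS _ a.2⟩ with hb
    have hob : orderOf b = 2 ^ m := by
      rw [← Subgroup.orderOf_coe, hb]
      show orderOf (h * (a : G) * h⁻¹) = 2 ^ m
      have := MulEquiv.orderOf_eq (MulAut.conj h) (a : G)
      rw [MulAut.conj_apply] at this
      rw [this, hord_a]
    have hob' : orderOf (e b) = 2 ^ m := by rw [MulEquiv.orderOf_eq, hob]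
    cases hd : e b with
    | r u =>
      refine ⟨u.val, ?_⟩
      rw [← hrpow u, ← hd, MulEquiv.symm_apply_apply]
    | sr u =>
      rw [hd, DihedralGroup.orderOf_sr] at hob'
      omega
  -- Step B
  have hBa : h * (a : G) * h⁻¹ = a := by
    have h1 := conj_pow_iter h (a : G) n hn j
    rw [hhj, inv_one, one_mul, mul_one] at h1
    have h2 : (a : G) ^ 1 = (a : G) ^ (n ^ j) := by rw [pow_one]; exact h1
    rw [pow_eq_pow_iff_modEq, hord_a] at h2
    have h3 := modEq_one_of_pow hodd h2.symm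
    have h4 : (a : G) ^ n = (a : G) ^ 1 := by
      rw [pow_eq_pow_iff_modEq, hord_a]; exact h3
    rw [hn, h4, pow_one]
  have hBpow : ∀ t : ℕ, h * (a : G) ^ t * h⁻¹ = (a : G) ^ t := by
    intro t
    rw [← conj_pow, hBa]
  have hS' : ∀ x ∈ S, h⁻¹ * x * h ∈ S := by
    intro x hx
    have hpow : ∀ i : ℕ, h ^ i * x * (h ^ i)⁻¹ ∈ S := by
      intro i
      induction i with
      | zero => simpa using hx
      | succ i ih =>
        have : h ^ (i + 1) * x * (h ^ (i + 1))⁻¹ = h * (h ^ i * x * (h ^ i)⁻¹) * h⁻¹ := by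
          rw [pow_succ']; group
        rw [this]
        exact hS _ ih
    have hj1 : 1 ≤ j := by
      rcases hodd with ⟨t, ht⟩; omega
    have hinv : h ^ (j - 1) = h⁻¹ := by
      have : h ^ (j - 1) * h = 1 := by rw [← pow_succ, Nat.sub_add_cancel hj1, hhj]
      exact eq_inv_of_mul_eq_one_left this
    have := hpow (j - 1)
    rwa [hinv, inv_inv] at this
  -- main
  intro x hx
  cases hd : e ⟨x, hx⟩ with
  | r u =>
    have hx' : x = (a : G) ^ u.val := by
      rw [← hrpow u, ← hd, MulEquiv.symm_apply_apply]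
    rw [hx']
    exact hBpow _
  | sr i =>
    set y : S := ⟨h * x * h⁻¹, hS x hx⟩ with hy
    cases hd' : e y with
    | r u =>
      exfalso
      have hy' : h * x * h⁻¹ = (a : G) ^ u.val := by
        have : ((e.symm (e y) : S) : G) = (a : G) ^ u.val := by rw [hd', hrpow]
        rwa [MulEquiv.symm_apply_apply] at this
      have hx' : x = (a : G) ^ u.val := by
        have h1 : x = h⁻¹ * (h * x * h⁻¹) * h := by group
        rw [h1, hy']
        have h2 := hBpow u.val
        calc h⁻¹ * (a : G) ^ u.val * h = h⁻¹ * (h * (a : G) ^ u.val * h⁻¹) * h := by rw [h2]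
          _ = (a : G) ^ u.val := by group
      have : e ⟨x, hx⟩ = DihedralGroup.r u := by
        have h3 : (⟨x, hx⟩ : S) = e.symm (DihedralGroup.r u) := by
          apply Subtype.ext
          rw [hrpow]; exact hx'
        rw [h3, MulEquiv.apply_symm_apply]
      rw [this] at hd
      cases hd
    | sr i' =>
      -- x⁻¹ * y = a ^ (i' - i)
      have hc : x⁻¹ * (h * x * h⁻¹) = (a : G) ^ (i' - i).val := by
        have h1 : ((⟨x, hx⟩ : S)⁻¹ * y) = e.symm (DihedralGroup.r (i' - i)) := by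
          apply e.injective
          rw [map_mul, map_inv, hd, hd', MulEquiv.apply_symm_apply, DihedralGroup.inv_sr,
            DihedralGroup.sr_mul_sr]
        have h2 := congrArg (fun z : S => (z : G)) h1
        simp only [Subgroup.coe_mul, Subgroup.coe_inv] at h2
        rw [hrpow] at h2
        exact h2
      set c := (a : G) ^ (i' - i).val with hcdef
      have hxc : h * x * h⁻¹ = x * c := by rw [← hc]; group
      have hcc : h * c * h⁻¹ = c := hBpow _
      have h1 := conj_mul_iter h x c hxc hcc j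
      rw [hhj, inv_one, one_mul, mul_one] at h1
      have hcj : c ^ j = 1 := by
        have : x * 1 = x * c ^ j := by rw [mul_one]; exact h1
        exact (mul_left_cancel this).symm
      have d1 : orderOf c ∣ j := orderOf_dvd_of_pow_eq_one hcj
      have d2 : orderOf c ∣ 2 ^ m := by
        rw [← hord_a, hcdef]; exact orderOf_pow_dvd _
      have hcop : Nat.Coprime j (2 ^ m) := Nat.Coprime.pow_right _ hodd.coprime_two_right
      have h1' : orderOf c = 1 := Nat.eq_one_of_dvd_coprimes hcop d1 d2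
      rw [orderOf_eq_one_iff] at h1'
      rw [hxc, h1', mul_one]

/-- the normalizer of a dihedral Sylow 2-subgroup of order at least 8 induces only inner
automorphisms on it -/
theorem normalizer_inner [Finite G] {m : ℕ} (hm : 2 ≤ m) (S : Sylow 2 G)
    (e : (S : Subgroup G) ≃* DihedralGroup (2 ^ m)) (g : G)
    (hg : ∀ x ∈ (S : Subgroup G), g * x * g⁻¹ ∈ (S : Subgroup G)) :
    ∃ s ∈ (S : Subgroup G), ∀ x ∈ (S : Subgroup G), g * x * g⁻¹ = s * x * s⁻¹ := by
  -- forward normalizers form a submonoid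
  have hpow : ∀ t : ℕ, ∀ x ∈ (S : Subgroup G), g ^ t * x * (g ^ t)⁻¹ ∈ (S : Subgroup G) := by
    intro t
    induction t with
    | zero => intro x hx; simpa using hx
    | succ t ih =>
      intro x hx
      have : g ^ (t + 1) * x * (g ^ (t + 1))⁻¹ = g * (g ^ t * x * (g ^ t)⁻¹) * g⁻¹ := by
        rw [pow_succ']; group
      rw [this]
      exact hg _ (ih x hx)
  have hz : ∀ y ∈ Subgroup.zpowers g, ∀ x ∈ (S : Subgroup G), y * x * y⁻¹ ∈ (S : Subgroup G) := by
    intro y hy x hx
    rw [← mem_powers_iff_mem_zpowers] at hy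
    obtain ⟨t, rfl⟩ := hy
    exact hpow t x hx
  set j := orderOf g with hj
  have hj0 : j ≠ 0 := (orderOf_pos g).ne'
  obtain ⟨i, j', hj'odd, hjeq⟩ := Nat.exists_eq_two_pow_mul_odd hj0
  have hcop : Nat.Coprime (2 ^ i) j' := Nat.Coprime.pow_left _ hj'odd.coprime_two_left
  have hbez := Nat.gcd_eq_gcd_ab (2 ^ i) j'
  rw [hcop.gcd_eq_one] at hbez
  set A := Nat.gcdA (2 ^ i) j' with hA
  set B := Nat.gcdB (2 ^ i) j' with hB
  set g₁ : G := (g ^ (2 ^ i)) ^ A with hg₁
  set s : G := (g ^ j') ^ B with hs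
  have hgs : g = g₁ * s := by
    rw [hg₁, hs, ← zpow_natCast g (2 ^ i), ← zpow_natCast g j', ← zpow_mul, ← zpow_mul, ← zpow_add]
    have : ((2 ^ i : ℕ) : ℤ) * A + (j' : ℤ) * B = 1 := by
      rw [← hbez]; push_cast
    rw [this, zpow_one]
  have hg₁mem : g₁ ∈ Subgroup.zpowers g := by
    rw [hg₁]
    exact Subgroup.zpow_mem _ (Subgroup.pow_mem _ (Subgroup.mem_zpowers g) _) _
  have hsmem : s ∈ Subgroup.zpowers g := by
    rw [hs]
    exact Subgroup.zpow_mem _ (Subgroup.pow_mem _ (Subgroup.mem_zpowers g) _) _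
  -- orders
  have ho1 : orderOf (g ^ (2 ^ i)) = j' := by
    rw [orderOf_pow_of_dvd (by positivity) (by rw [← hj, hjeq]; exact dvd_mul_right _ _), ← hj, hjeq]
    exact Nat.mul_div_cancel_left _ (by positivity)
  have ho2 : orderOf (g ^ j') = 2 ^ i := by
    have hj'0 : j' ≠ 0 := by rintro rfl; simp at hj'odd
    rw [orderOf_pow_of_dvd hj'0 (by rw [← hj, hjeq]; exact dvd_mul_left _ _), ← hj, hjeq]
    exact Nat.mul_div_cancel _ (Nat.pos_of_ne_zero hj'0)
  have hodd₁ : Odd (orderOf g₁) := by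
    have hd : orderOf g₁ ∣ j' := by
      rw [← ho1]
      exact orderOf_dvd_of_mem_zpowers (Subgroup.zpow_mem _ (Subgroup.mem_zpowers _) _)
    exact Odd.of_dvd_nat hj'odd hd
  have hcent := odd_centralizes hm e g₁ (hz g₁ hg₁mem) hodd₁
  -- s lies in S
  have hsS : s ∈ (S : Subgroup G) := by
    have hd : orderOf s ∣ 2 ^ i := by
      rw [← ho2]
      exact orderOf_dvd_of_mem_zpowers (Subgroup.zpow_mem _ (Subgroup.mem_zpowers _) _)
    obtain ⟨l, -, hl⟩ := (Nat.dvd_prime_pow Nat.prime_two).mp hd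
    have hP : IsPGroup 2 (Subgroup.zpowers s) := by
      apply IsPGroup.of_card (n := l)
      rw [Nat.card_zpowers, hl]
    have hle : Subgroup.zpowers s ≤ Subgroup.normalizer ((S : Subgroup G) : Set G) := by
      rw [Subgroup.le_normalizer_iff]
      intro y hy x hx
      have hy' : y ∈ Subgroup.zpowers g := by
        have : Subgroup.zpowers s ≤ Subgroup.zpowers g := by
          rw [Subgroup.zpowers_le]; exact hsmem
        exact this hy
      exact hz y hy' x hx
    have hsup := IsPGroup.to_sup_of_normal_right' hP S.isPGroup' hle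
    have := S.is_maximal' hsup le_sup_right
    rw [← this]
    exact (le_sup_left : Subgroup.zpowers s ≤ _) (Subgroup.mem_zpowers s)
  refine ⟨s, hsS, ?_⟩
  intro x hx
  have h1 : s * x * s⁻¹ ∈ (S : Subgroup G) := hz s hsmem x hx
  have h2 := hcent _ h1
  rw [hgs]
  calc g₁ * s * x * (g₁ * s)⁻¹ = g₁ * (s * x * s⁻¹) * g₁⁻¹ := by group
    _ = s * x * s⁻¹ := h2

end Cfsg.Agent.helper4.Fs
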