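import Mathlib
import Cfsg.Prelude.Def_FusionSystem
import Cfsg.Agent.Lib_helper25_Saturated
import Cfsg.Agent.Lib_helper4_FsC

set_option autoImplicit false
set_option linter.unusedSectionVars false
set_option linter.style.haveILetI false
set_option maxHeartbeats 1600000

/-!
# Simplicity of the 2-fusion system of a group with dihedral Sylow 2-subgroups and one class
of involutions
-/

namespace Cfsg.Agent.helper4.Fs

open Cfsg Cfsg.FusionSystem

variable {G : Type*} [Group G]

theorem inner_of_mem_autGroup [Finite G] {m : ℕ} (hm : 2 ≤ m) (S : Sylow 2 G)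
    (e : (S : Subgroup G) ≃* DihedralGroup (2 ^ m))
    (α : MulAut (S : Subgroup G))
    (hα : α ∈ (groupFusionSystem (S : Subgroup G)).autGroup (S : Subgroup G)) :
    ∃ s ∈ (S : Subgroup G), ∀ x : (S : Subgroup G), ((α x : (S : Subgroup G)) : G) = s * x * s⁻¹ := by
  unfold FusionSystem.autGroup at hα
  induction hα using Subgroup.closure_induction with
  | mem α hα =>
    obtain ⟨-, -, g, hg⟩ := hα
    have hg' : ∀ x : (S : Subgroup G), ((α x : (S : Subgroup G)) : G) = g * x * g⁻¹ := fun x => hg x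
    have hnorm : ∀ x ∈ (S : Subgroup G), g * x * g⁻¹ ∈ (S : Subgroup G) := by
      intro x hx
      rw [← hg' ⟨x, hx⟩]
      exact (α ⟨x, hx⟩).2
    obtain ⟨s, hs, hsx⟩ := normalizer_inner hm S e g hnorm
    exact ⟨s, hs, fun x => by rw [hg', hsx x x.2]⟩
  | one => exact ⟨1, Subgroup.one_mem _, fun x => by simp⟩
  | mul α β _ _ ihα ihβ =>
    obtain ⟨s, hs, hsx⟩ := ihα
    obtain ⟨t, ht, htx⟩ := ihβ
    refine ⟨s * t, Subgroup.mul_mem _ hs ht, fun x => ?_⟩
    rw [MulAut.mul_apply, hsx, htx]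
    group
  | inv α _ ih =>
    obtain ⟨s, hs, hsx⟩ := ih
    refine ⟨s⁻¹, Subgroup.inv_mem _ hs, fun x => ?_⟩
    have h1 := hsx (α⁻¹ x)
    rw [MulAut.apply_inv_self] at h1
    rw [h1]
    group

theorem simple_of [Finite G] (S : Sylow 2 G) {m : ℕ} (hm : 2 ≤ m)
    (e : (S : Subgroup G) ≃* DihedralGroup (2 ^ m))
    (hconj : ∀ x y : G, x ≠ 1 → x * x = 1 → y ≠ 1 → y * y = 1 → ∃ g, g * x * g⁻¹ = y) :
    (groupFusionSystem (S : Subgroup G)).IsSimple 2 := by
  haveI : Fact (Nat.Prime 2) := ⟨Nat.prime_two⟩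
  refine ⟨Cfsg.Agent.helper25.groupFS_isSaturated S, ?_, ?_⟩
  · intro hbot
    have h1 : Nat.card (S : Subgroup G) = 2 * 2 ^ m := by
      rw [Nat.card_congr e.toEquiv, DihedralGroup.nat_card]
    rw [hbot, Subgroup.card_bot] at h1
    have : 1 ≤ 2 ^ m := Nat.one_le_two_pow
    omega
  · intro T E hE
    obtain ⟨⟨-, -, hsub, hsc, -, hfrat⟩, -⟩ := hE
    by_cases hT : T = ⊥
    · exact Or.inl hT
    right
    have hTS : T = (S : Subgroup G) := by
      refine le_antisymm hsc.1 (gen_by_inv e T ?_)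
      intro u hu huu
      by_cases hu1 : u = 1
      · rw [hu1]; exact T.one_mem
      -- an involution in T
      have hTp : IsPGroup 2 T := S.isPGroup'.to_le hsc.1
      obtain ⟨l, hl⟩ := hTp.exists_card_eq
      have hl0 : l ≠ 0 := by
        rintro rfl
        rw [pow_zero] at hl
        exact hT (Subgroup.card_eq_one.mp hl)
      have hdvd : 2 ∣ Nat.card T := by rw [hl]; exact dvd_pow_self 2 hl0
      obtain ⟨t, ht⟩ := exists_prime_orderOf_dvd_card' 2 hdvd
      have ht1 : (t : G) ≠ 1 := by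
        intro h
        have : t = 1 := Subtype.ext h
        rw [this, orderOf_one] at ht
        omega
      have htt : (t : G) * (t : G) = 1 := by
        have := pow_orderOf_eq_one t
        rw [ht, pow_two] at this
        exact congrArg Subtype.val this
      obtain ⟨g, hg⟩ := hconj (t : G) u ht1 htt hu1 huu
      have hR : Subgroup.zpowers (t : G) ≤ T := by
        rw [Subgroup.zpowers_le]; exact t.2
      have hφ : conjHom (Subgroup.zpowers (t : G)) g ∈
          (groupFusionSystem (S : Subgroup G)).Hom (Subgroup.zpowers (t : G)) := by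
        refine ⟨hR.trans hsc.1, ?_, g, fun x => rfl⟩
        rintro ⟨x, hx⟩
        obtain ⟨i, rfl⟩ := Subgroup.mem_zpowers_iff.mp hx
        show g * (t : G) ^ i * g⁻¹ ∈ (S : Subgroup G)
        have : g * (t : G) ^ i * g⁻¹ = (g * (t : G) * g⁻¹) ^ i := by rw [conj_zpow]
        rw [this, hg]
        exact Subgroup.zpow_mem _ hu i
      have := hsc.2 _ hR _ hφ ⟨(t : G), Subgroup.mem_zpowers _⟩
      have h2 : conjHom (Subgroup.zpowers (t : G)) g ⟨(t : G), Subgroup.mem_zpowers _⟩ =
          g * (t : G) * g⁻¹ := rfl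
      rw [h2, hg] at this
      exact this
    subst hTS
    refine ⟨rfl, fun P => Set.Subset.antisymm (hsub P) ?_⟩
    intro φ hφ
    have hPS : P ≤ (S : Subgroup G) := hφ.1
    obtain ⟨α, hα, φ₀, hφ₀, hfac⟩ := hfrat P hPS φ hφ
    obtain ⟨s, hs, hαs⟩ := inner_of_mem_autGroup hm S e α hα
    have h₀S : ∀ x : P, φ₀ x ∈ (S : Subgroup G) := (E.le_of_mem hφ₀).2
    have hc : conjHom (S : Subgroup G) s ∈ E.Hom (S : Subgroup G) := E.conj_mem le_rfl hs
    have hcomp := E.comp_mem hφ₀ hc h₀S
    have heq : φ = (conjHom (S : Subgroup G) s).comp (φ₀.codRestrict (S : Subgroup G) h₀S) := by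
      ext x
      rw [hfac x (h₀S x), hαs]
      rfl
    rw [heq]
    exact hcomp

end Cfsg.Agent.helper4.Fs
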