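import Mathlib

set_option autoImplicit false

/-!
# The subgroup of order 120 of `SL₂(9)` generated by two transvections: formal model
-/

namespace Cfsg.Agent.helper4.G120

/-- formal elements `a + b i` of `F₉`, `i² = -1` -/
abbrev P9 : Type := ZMod 3 × ZMod 3

/-- formal `2 × 2` matrices `(a, b, c, d)` -/
abbrev FM : Type := P9 × P9 × P9 × P9

def addP (x y : P9) : P9 := (x.1 + y.1, x.2 + y.2)

def mulP (x y : P9) : P9 := (x.1 * y.1 - x.2 * y.2, x.1 * y.2 + x.2 * y.1)

def mulM (x y : FM) : FM :=
  (addP (mulP x.1 y.1) (mulP x.2.1 y.2.2.1), addP (mulP x.1 y.2.1) (mulP x.2.1 y.2.2.2),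
   addP (mulP x.2.2.1 y.1) (mulP x.2.2.2 y.2.2.1), addP (mulP x.2.2.1 y.2.1) (mulP x.2.2.2 y.2.2.2))

def oneM : FM := ((1,0),(0,0),(0,0),(1,0))
def Sf : FM := ((1,0),(0,0),(1,0),(1,0))
def Tf : FM := ((1,0),(0,1),(0,0),(1,0))
def Sf' : FM := ((1,0),(0,0),(2,0),(1,0))
def Tf' : FM := ((1,0),(0,2),(0,0),(1,0))

/-- the formal matrix of a word (head = last letter applied on the right) -/
def wordM : List Bool → FM
  | [] => oneM
  | b :: w => mulM (wordM w) (if b then Sf else Tf)

def W120 : List (List Bool) :=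
  [[],
  [true],
  [false],
  [true,true],
  [false,true],
  [true,false],
  [false,false],
  [false,true,true],
  [true,false,true],
  [false,false,true],
  [true,true,false],
  [false,true,false],
  [true,false,false],
  [true,false,true,true],
  [false,false,true,true],
  [true,true,false,true],
  [false,true,false,true],
  [true,false,false,true],
  [false,true,true,false],
  [true,false,true,false],
  [false,false,true,false],
  [true,true,false,false],
  [false,true,false,false],
  [true,true,false,true,true],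
  [false,true,false,true,true],
  [true,false,false,true,true],
  [false,true,true,false,true],
  [true,false,true,false,true],
  [false,false,true,false,true],
  [true,true,false,false,true],
  [false,true,false,false,true],
  [true,false,true,true,false],
  [false,false,true,true,false],
  [true,true,false,true,false],
  [true,false,false,true,false],
  [false,true,true,false,false],
  [true,false,true,false,false],
  [false,false,true,false,false],
  [false,true,true,false,true,true],
  [true,false,true,false,true,true],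
  [false,false,true,false,true,true],
  [true,true,false,false,true,true],
  [false,true,false,false,true,true],
  [true,false,true,true,false,true],
  [false,false,true,true,false,true],
  [true,true,false,true,false,true],
  [true,false,false,true,false,true],
  [false,true,true,false,false,true],
  [true,false,true,false,false,true],
  [false,false,true,false,false,true],
  [true,true,false,true,true,false],
  [false,true,false,true,true,false],
  [true,false,false,true,true,false],
  [false,true,true,false,true,false],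
  [true,true,false,false,true,false],
  [false,true,false,false,true,false],
  [true,false,true,true,false,false],
  [false,false,true,true,false,false],
  [true,true,false,true,false,false],
  [true,false,false,true,false,false],
  [true,false,true,true,false,true,true],
  [false,false,true,true,false,true,true],
  [true,true,false,true,false,true,true],
  [true,false,false,true,false,true,true],
  [false,true,true,false,false,true,true],
  [true,false,true,false,false,true,true],
  [false,false,true,false,false,true,true],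
  [true,true,false,true,true,false,true],
  [false,true,false,true,true,false,true],
  [true,false,false,true,true,false,true],
  [false,true,true,false,true,false,true],
  [true,true,false,false,true,false,true],
  [false,true,false,false,true,false,true],
  [true,false,true,true,false,false,true],
  [false,false,true,true,false,false,true],
  [true,true,false,true,false,false,true],
  [true,false,false,true,false,false,true],
  [false,true,true,false,true,true,false],
  [false,false,true,false,true,true,false],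
  [true,true,false,false,true,true,false],
  [false,true,false,false,true,true,false],
  [true,false,true,true,false,true,false],
  [false,true,true,false,false,true,false],
  [true,false,true,false,false,true,false],
  [false,false,true,false,false,true,false],
  [true,true,false,true,true,false,false],
  [true,false,false,true,true,false,false],
  [false,true,true,false,true,false,false],
  [true,true,false,false,true,false,false],
  [false,true,false,false,true,false,false],
  [false,true,false,true,true,false,true,true],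
  [false,true,true,false,true,false,true,true],
  [true,true,false,false,true,false,true,true],
  [false,true,false,false,true,false,true,true],
  [true,false,true,true,false,false,true,true],
  [false,false,true,true,false,false,true,true],
  [true,true,false,true,false,false,true,true],
  [false,false,true,false,true,true,false,true],
  [true,true,false,false,true,true,false,true],
  [false,true,false,false,true,true,false,true],
  [true,false,true,true,false,true,false,true],
  [false,true,true,false,false,true,false,true],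
  [true,false,true,false,false,true,false,true],
  [false,false,true,false,false,true,false,true],
  [true,false,false,true,true,false,false,true],
  [false,true,true,false,false,true,true,false],
  [true,false,true,false,false,true,true,false],
  [false,true,false,true,true,false,true,false],
  [true,false,true,true,false,false,true,false],
  [true,true,false,true,false,false,true,false],
  [true,true,false,false,true,true,false,false],
  [true,false,true,true,false,true,false,false],
  [true,false,true,true,false,true,false,true,true],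
  [true,false,true,false,false,true,false,true,true],
  [true,false,false,true,true,false,false,true,true],
  [false,true,false,true,true,false,true,false,true],
  [true,true,false,true,false,false,true,false,true],
  [true,true,false,false,true,true,false,false,true],
  [false,true,false,true,true,false,true,false,true,true],
  [true,true,false,false,true,true,false,false,true,true]]

def L120 : List FM :=
  [((1,0),(0,0),(0,0),(1,0)),
  ((1,0),(0,0),(1,0),(1,0)),
  ((1,0),(0,1),(0,0),(1,0)),
  ((1,0),(0,0),(2,0),(1,0)),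
  ((1,0),(0,1),(1,0),(1,1)),
  ((1,1),(0,1),(1,0),(1,0)),
  ((1,0),(0,2),(0,0),(1,0)),
  ((1,0),(0,1),(2,0),(1,2)),
  ((1,1),(0,1),(2,1),(1,1)),
  ((1,0),(0,2),(1,0),(1,2)),
  ((1,2),(0,1),(2,0),(1,0)),
  ((1,1),(2,2),(1,0),(1,1)),
  ((1,2),(0,2),(1,0),(1,0)),
  ((1,1),(0,1),(0,2),(1,2)),
  ((1,0),(0,2),(2,0),(1,1)),
  ((1,2),(0,1),(0,2),(1,1)),
  ((1,1),(2,2),(2,1),(0,0)),
  ((1,2),(0,2),(2,2),(1,2)),
  ((1,2),(1,2),(2,0),(1,2)),
  ((0,0),(2,2),(2,1),(1,1)),
  ((1,1),(1,0),(1,0),(1,2)),
  ((1,1),(0,2),(2,0),(1,0)),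
  ((1,2),(1,0),(1,0),(1,1)),
  ((1,2),(0,1),(1,1),(1,2)),
  ((1,1),(2,2),(0,2),(2,2)),
  ((1,2),(0,2),(0,1),(1,1)),
  ((1,2),(1,2),(0,2),(2,1)),
  ((0,0),(2,2),(2,1),(0,0)),
  ((1,1),(1,0),(2,1),(2,2)),
  ((1,1),(0,2),(0,1),(1,2)),
  ((1,2),(1,0),(2,2),(2,1)),
  ((2,1),(1,2),(0,2),(1,2)),
  ((1,2),(2,0),(2,0),(1,1)),
  ((2,2),(2,2),(0,2),(1,1)),
  ((2,1),(1,0),(2,2),(1,2)),
  ((1,1),(2,0),(2,0),(1,2)),
  ((2,2),(1,0),(2,1),(1,1)),
  ((1,2),(2,1),(1,0),(1,2)),
  ((1,2),(1,2),(1,1),(0,0)),
  ((0,0),(2,2),(2,1),(2,2)),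
  ((1,1),(1,0),(0,2),(0,2)),
  ((1,1),(0,2),(1,2),(1,1)),
  ((1,2),(1,0),(0,1),(0,1)),
  ((2,1),(1,2),(2,0),(2,1)),
  ((1,2),(2,0),(0,2),(0,1)),
  ((2,2),(2,2),(2,1),(0,0)),
  ((2,1),(1,0),(1,0),(2,2)),
  ((1,1),(2,0),(0,1),(0,2)),
  ((2,2),(1,0),(1,0),(2,1)),
  ((1,2),(2,1),(2,2),(0,0)),
  ((0,0),(1,2),(1,1),(1,2)),
  ((2,1),(0,1),(0,2),(2,2)),
  ((0,2),(2,0),(0,1),(1,1)),
  ((2,2),(0,1),(0,2),(2,1)),
  ((0,1),(1,0),(0,1),(1,2)),
  ((2,1),(0,2),(2,2),(2,1)),
  ((0,1),(2,0),(0,2),(1,2)),
  ((1,1),(1,1),(2,0),(1,1)),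
  ((0,2),(1,0),(0,2),(1,1)),
  ((0,0),(2,1),(2,2),(1,2)),
  ((2,1),(1,2),(1,1),(0,0)),
  ((1,2),(2,0),(1,1),(2,1)),
  ((2,2),(2,2),(1,0),(2,2)),
  ((2,1),(1,0),(0,1),(0,2)),
  ((1,1),(2,0),(1,2),(2,2)),
  ((2,2),(1,0),(0,2),(0,1)),
  ((1,2),(2,1),(0,1),(2,1)),
  ((0,0),(1,2),(1,1),(2,1)),
  ((2,1),(0,1),(2,0),(2,0)),
  ((0,2),(2,0),(0,0),(0,1)),
  ((2,2),(0,1),(2,1),(2,2)),
  ((0,1),(1,0),(0,2),(2,2)),
  ((2,1),(0,2),(1,0),(2,0)),
  ((0,1),(2,0),(0,0),(0,2)),
  ((1,1),(1,1),(0,1),(2,2)),
  ((0,2),(1,0),(0,1),(2,1)),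
  ((0,0),(2,1),(2,2),(0,0)),
  ((0,0),(1,2),(1,1),(0,0)),
  ((2,1),(2,0),(0,2),(0,2)),
  ((2,2),(2,0),(1,2),(1,1)),
  ((0,2),(0,0),(0,1),(0,1)),
  ((2,0),(0,1),(2,0),(2,1)),
  ((0,1),(0,0),(0,1),(0,2)),
  ((2,0),(0,2),(1,0),(2,1)),
  ((2,1),(2,1),(2,2),(0,0)),
  ((2,1),(2,0),(1,1),(1,2)),
  ((2,2),(1,1),(0,1),(1,1)),
  ((0,2),(2,0),(0,2),(2,1)),
  ((2,1),(2,1),(0,1),(1,2)),
  ((0,0),(2,1),(2,2),(2,1)),
  ((2,1),(0,1),(1,1),(2,1)),
  ((2,2),(0,1),(1,0),(2,0)),
  ((0,1),(1,0),(0,0),(0,2)),
  ((2,1),(0,2),(0,1),(2,2)),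
  ((0,1),(2,0),(0,1),(2,2)),
  ((1,1),(1,1),(1,2),(0,0)),
  ((0,2),(1,0),(0,0),(0,1)),
  ((2,1),(2,0),(2,0),(2,2)),
  ((2,2),(2,0),(0,1),(0,1)),
  ((0,2),(0,0),(0,0),(0,1)),
  ((2,0),(0,1),(1,0),(2,2)),
  ((0,1),(0,0),(0,2),(0,2)),
  ((2,0),(0,2),(0,0),(2,0)),
  ((2,1),(2,1),(1,0),(2,1)),
  ((2,2),(1,1),(2,0),(2,2)),
  ((2,2),(0,2),(1,2),(2,2)),
  ((0,2),(0,0),(0,2),(0,1)),
  ((2,0),(0,0),(2,0),(2,0)),
  ((0,1),(0,0),(0,0),(0,2)),
  ((2,2),(0,2),(0,1),(2,1)),
  ((0,0),(1,1),(1,2),(1,1)),
  ((2,2),(2,0),(2,0),(2,1)),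
  ((2,0),(0,1),(0,0),(2,0)),
  ((2,0),(0,2),(2,0),(2,2)),
  ((2,2),(1,1),(1,2),(0,0)),
  ((2,0),(0,0),(1,0),(2,0)),
  ((2,2),(0,2),(2,0),(2,0)),
  ((0,0),(1,1),(1,2),(2,2)),
  ((2,0),(0,0),(0,0),(2,0)),
  ((0,0),(1,1),(1,2),(0,0))]

theorem L120_eq : W120.map wordM = L120 := by decide +kernel

theorem L120_length : L120.length = 120 := by decide +kernel

theorem L120_nodup : L120.Nodup := by decide +kernel

theorem L120_one : oneM ∈ L120 := by decide +kernel

theorem L120_closed_S : ∀ x ∈ L120, mulM x Sf ∈ L120 := by decide +kernel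

theorem L120_closed_T : ∀ x ∈ L120, mulM x Tf ∈ L120 := by decide +kernel

theorem L120_closed_S' : ∀ x ∈ L120, mulM x Sf' ∈ L120 := by decide +kernel

theorem L120_closed_T' : ∀ x ∈ L120, mulM x Tf' ∈ L120 := by decide +kernel

theorem mulM_Sf_Sf' : mulM Sf Sf' = oneM := by decide +kernel

theorem mulM_Tf_Tf' : mulM Tf Tf' = oneM := by decide +kernel

end Cfsg.Agent.helper4.G120
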