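import Mathlib
import Cfsg.Agent.Lib_helper4_G120A
import Cfsg.Agent.Lib_helper11_SL2U

set_option autoImplicit false

/-!
# The subgroup of order 120 of `SL₂(9)` generated by two transvections: evaluation in a field
-/

namespace Cfsg.Agent.helper4.G120

open Matrix

variable {F : Type*} [Field F]

/-- the generating set -/
def gens (lam : F) : Set (SpecialLinearGroup (Fin 2) F) :=
  {g | (g : Matrix (Fin 2) (Fin 2) F) = !![1, 0; 1, 1] ∨
    (g : Matrix (Fin 2) (Fin 2) F) = !![1, lam; 0, 1]}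

theorem coe_inv_of_mul_eq_one (g : SpecialLinearGroup (Fin 2) F) (M : Matrix (Fin 2) (Fin 2) F)
    (h : (g : Matrix (Fin 2) (Fin 2) F) * M = 1) :
    ((g⁻¹ : SpecialLinearGroup (Fin 2) F) : Matrix (Fin 2) (Fin 2) F) = M := by
  have h1 : ((g⁻¹ : SpecialLinearGroup (Fin 2) F) : Matrix (Fin 2) (Fin 2) F) *
      (g : Matrix (Fin 2) (Fin 2) F) = 1 := by
    rw [← Matrix.SpecialLinearGroup.coe_mul, inv_mul_cancel, Matrix.SpecialLinearGroup.coe_one]
  calc ((g⁻¹ : SpecialLinearGroup (Fin 2) F) : Matrix (Fin 2) (Fin 2) F)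
      = ((g⁻¹ : SpecialLinearGroup (Fin 2) F) : Matrix (Fin 2) (Fin 2) F) *
          ((g : Matrix (Fin 2) (Fin 2) F) * M) := by rw [h, mul_one]
    _ = M := by rw [← mul_assoc, h1, one_mul]

variable [CharP F 3]

/-- the prime field embedding -/
noncomputable def phi3 (F : Type*) [Field F] [CharP F 3] : ZMod 3 →+* F :=
  ZMod.castHom (dvd_refl 3) F

/-- evaluation of a formal element at `lam` -/
noncomputable def ev (lam : F) (x : P9) : F := phi3 F x.1 + phi3 F x.2 * lam

theorem ev_add (lam : F) (x y : P9) : ev lam (addP x y) = ev lam x + ev lam y := by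
  simp only [ev, addP, map_add]
  ring

theorem ev_mul {lam : F} (hl : lam ^ 2 = -1) (x y : P9) :
    ev lam (mulP x y) = ev lam x * ev lam y := by
  simp only [ev, mulP, map_add, map_sub, map_mul]
  linear_combination (- phi3 F x.2 * phi3 F y.2) * hl

instance : Fact (Nat.Prime 3) := ⟨Nat.prime_three⟩

theorem phi3_injective : Function.Injective (phi3 F) := (phi3 F).injective

theorem ev_injective {lam : F} (hl : lam ^ 2 = -1) : Function.Injective (ev lam) := by
  rintro ⟨a, b⟩ ⟨c, d⟩ h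
  simp only [ev] at h
  have h1 : phi3 F (b - d) * lam = phi3 F (c - a) := by
    rw [map_sub, map_sub]
    linear_combination h
  by_cases hbd : b - d = 0
  · rw [hbd, map_zero, zero_mul] at h1
    have hca : c - a = 0 := by
      apply phi3_injective (F := F)
      rw [map_zero, ← h1]
    have hb : b = d := sub_eq_zero.mp hbd
    have ha : c = a := sub_eq_zero.mp hca
    rw [hb, ha]
  · exfalso
    have hne : phi3 F (b - d) ≠ 0 := by
      intro h0
      apply hbd
      apply phi3_injective (F := F)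
      rw [h0, map_zero]
    have hlam : lam = phi3 F ((c - a) / (b - d)) := by
      rw [map_div₀, ← h1]
      field_simp
    have hsq : phi3 F (((c - a) / (b - d)) ^ 2 + 1) = 0 := by
      rw [map_add, map_pow, ← hlam, hl, map_one]
      ring
    have h0 : ((c - a) / (b - d)) ^ 2 + 1 = 0 := by
      apply phi3_injective (F := F)
      rw [hsq, map_zero]
    have hdec : ∀ e : ZMod 3, e ^ 2 + 1 ≠ 0 := by decide
    exact hdec _ h0

/-- evaluation of a formal matrix -/
noncomputable def evM (lam : F) (x : FM) : Matrix (Fin 2) (Fin 2) F :=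
  !![ev lam x.1, ev lam x.2.1; ev lam x.2.2.1, ev lam x.2.2.2]

theorem evM_mul {lam : F} (hl : lam ^ 2 = -1) (x y : FM) :
    evM lam (mulM x y) = evM lam x * evM lam y := by
  simp only [evM, mulM, ev_add, ev_mul hl, Matrix.mul_fin_two]

theorem ev_one (lam : F) : ev lam (1, 0) = 1 := by simp [ev]
theorem ev_zero (lam : F) : ev lam (0, 0) = 0 := by simp [ev]
theorem ev_lam (lam : F) : ev lam (0, 1) = lam := by simp [ev]

theorem evM_one (lam : F) : evM lam oneM = 1 := by
  simp only [evM, oneM, ev_one, ev_zero, Matrix.one_fin_two]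

theorem evM_Sf (lam : F) : evM lam Sf = !![1, 0; 1, 1] := by
  simp only [evM, Sf, ev_one, ev_zero]

theorem evM_Tf (lam : F) : evM lam Tf = !![1, lam; 0, 1] := by
  simp only [evM, Tf, ev_one, ev_zero, ev_lam]

theorem evM_injective {lam : F} (hl : lam ^ 2 = -1) : Function.Injective (evM lam) := by
  rintro ⟨a, b, c, d⟩ ⟨a', b', c', d'⟩ h
  have h00 := congrFun (congrFun h 0) 0
  have h01 := congrFun (congrFun h 0) 1
  have h10 := congrFun (congrFun h 1) 0
  have h11 := congrFun (congrFun h 1) 1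
  simp only [evM, Matrix.of_apply, Matrix.cons_val_zero, Matrix.cons_val_one,
    Matrix.cons_val', Matrix.cons_val_fin_one] at h00 h01 h10 h11
  rw [ev_injective hl h00, ev_injective hl h01, ev_injective hl h10, ev_injective hl h11]


theorem mem_L120_of_mem_closure {lam : F} (hl : lam ^ 2 = -1)
    {g : SpecialLinearGroup (Fin 2) F} (hg : g ∈ Subgroup.closure (gens lam)) :
    ∃ x ∈ L120, (g : Matrix (Fin 2) (Fin 2) F) = evM lam x := by
  refine Subgroup.closure_induction_right
    (p := fun (g : SpecialLinearGroup (Fin 2) F) _ =>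
      ∃ x ∈ L120, (g : Matrix (Fin 2) (Fin 2) F) = evM lam x) ?_ ?_ ?_ hg
  · exact ⟨oneM, L120_one, by rw [evM_one, Matrix.SpecialLinearGroup.coe_one]⟩
  · rintro x _ y hy ⟨x', hx', hxx'⟩
    rcases hy with hy | hy
    · refine ⟨mulM x' Sf, L120_closed_S x' hx', ?_⟩
      rw [Matrix.SpecialLinearGroup.coe_mul, evM_mul hl, hxx', hy, evM_Sf]
    · refine ⟨mulM x' Tf, L120_closed_T x' hx', ?_⟩
      rw [Matrix.SpecialLinearGroup.coe_mul, evM_mul hl, hxx', hy, evM_Tf]
  · rintro x _ y hy ⟨x', hx', hxx'⟩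
    rcases hy with hy | hy
    · refine ⟨mulM x' Sf', L120_closed_S' x' hx', ?_⟩
      have hinv : ((y⁻¹ : SpecialLinearGroup (Fin 2) F) : Matrix (Fin 2) (Fin 2) F) =
          evM lam Sf' := by
        apply coe_inv_of_mul_eq_one
        rw [hy, ← evM_Sf lam, ← evM_mul hl, mulM_Sf_Sf', evM_one]
      rw [Matrix.SpecialLinearGroup.coe_mul, evM_mul hl, hxx', hinv]
    · refine ⟨mulM x' Tf', L120_closed_T' x' hx', ?_⟩
      have hinv : ((y⁻¹ : SpecialLinearGroup (Fin 2) F) : Matrix (Fin 2) (Fin 2) F) =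
          evM lam Tf' := by
        apply coe_inv_of_mul_eq_one
        rw [hy, ← evM_Tf lam, ← evM_mul hl, mulM_Tf_Tf', evM_one]
      rw [Matrix.SpecialLinearGroup.coe_mul, evM_mul hl, hxx', hinv]

theorem exists_mem_closure_of_word {lam : F} (hl : lam ^ 2 = -1) (w : List Bool) :
    ∃ g ∈ Subgroup.closure (gens lam), (g : Matrix (Fin 2) (Fin 2) F) = evM lam (wordM w) := by
  induction w with
  | nil =>
    exact ⟨1, Subgroup.one_mem _, by
      rw [wordM, evM_one, Matrix.SpecialLinearGroup.coe_one]⟩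
  | cons b w ih =>
    obtain ⟨g, hg, hgw⟩ := ih
    cases b with
    | true =>
      refine ⟨g * Cfsg.Agent.helper11.SL2U.lS 1, Subgroup.mul_mem _ hg
        (Subgroup.subset_closure (Or.inl (Cfsg.Agent.helper11.SL2U.coe_lS 1))), ?_⟩
      rw [wordM, Matrix.SpecialLinearGroup.coe_mul, hgw, Cfsg.Agent.helper11.SL2U.coe_lS,
        ← evM_Sf lam, ← evM_mul hl]
      rfl
    | false =>
      refine ⟨g * Cfsg.Agent.helper11.SL2U.uS lam, Subgroup.mul_mem _ hg
        (Subgroup.subset_closure (Or.inr (Cfsg.Agent.helper11.SL2U.coe_uS lam))), ?_⟩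
      rw [wordM, Matrix.SpecialLinearGroup.coe_mul, hgw, Cfsg.Agent.helper11.SL2U.coe_uS,
        ← evM_Tf lam, ← evM_mul hl]
      rfl

theorem exists_mem_closure_of_mem_L120 {lam : F} (hl : lam ^ 2 = -1) {x : FM} (hx : x ∈ L120) :
    ∃ g ∈ Subgroup.closure (gens lam), (g : Matrix (Fin 2) (Fin 2) F) = evM lam x := by
  rw [← L120_eq, List.mem_map] at hx
  obtain ⟨w, _, rfl⟩ := hx
  exact exists_mem_closure_of_word hl w

/-- the subgroup generated has order `120` -/
theorem card_closure {lam : F} (hl : lam ^ 2 = -1) :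
    Nat.card (Subgroup.closure (gens lam)) = 120 := by
  classical
  have hch : ∀ x : {x : FM // x ∈ L120.toFinset},
      ∃ g ∈ Subgroup.closure (gens lam), (g : Matrix (Fin 2) (Fin 2) F) = evM lam x.1 :=
    fun x => exists_mem_closure_of_mem_L120 hl (List.mem_toFinset.mp x.2)
  choose ψ hψ hψ' using hch
  let Ψ : {x : FM // x ∈ L120.toFinset} → Subgroup.closure (gens lam) := fun x => ⟨ψ x, hψ x⟩
  have hinj : Function.Injective Ψ := by
    intro x y hxy
    have h1 : ψ x = ψ y := congrArg Subtype.val hxy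
    apply Subtype.ext
    apply evM_injective hl
    rw [← hψ' x, ← hψ' y, h1]
  have hsurj : Function.Surjective Ψ := by
    rintro ⟨g, hg⟩
    obtain ⟨x, hx, hgx⟩ := mem_L120_of_mem_closure hl hg
    refine ⟨⟨x, List.mem_toFinset.mpr hx⟩, ?_⟩
    apply Subtype.ext
    apply Subtype.ext
    show (ψ ⟨x, _⟩ : Matrix (Fin 2) (Fin 2) F) = g
    rw [hψ', hgx]
  rw [← Nat.card_congr (Equiv.ofBijective Ψ ⟨hinj, hsurj⟩), Nat.card_eq_fintype_card,
    Fintype.card_coe, List.toFinset_card_of_nodup L120_nodup, L120_length]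


/-- formal inverse -/
def invP (x : P9) : P9 :=
  (x.1 * (x.1 * x.1 + x.2 * x.2), -x.2 * (x.1 * x.1 + x.2 * x.2))

theorem mulP_invP : ∀ x : P9, x ≠ (0, 0) → mulP x (invP x) = (1, 0) := by decide +kernel

/-- the image of `ev` as a subfield -/
noncomputable def rangeSubfield {lam : F} (hl : lam ^ 2 = -1) : Subfield F where
  carrier := Set.range (ev lam)
  mul_mem' := by
    rintro _ _ ⟨x, rfl⟩ ⟨y, rfl⟩
    exact ⟨mulP x y, ev_mul hl x y⟩
  one_mem' := ⟨(1, 0), ev_one lam⟩
  add_mem' := by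
    rintro _ _ ⟨x, rfl⟩ ⟨y, rfl⟩
    exact ⟨addP x y, ev_add lam x y⟩
  zero_mem' := ⟨(0, 0), ev_zero lam⟩
  neg_mem' := by
    rintro _ ⟨x, rfl⟩
    refine ⟨(-x.1, -x.2), ?_⟩
    simp only [ev, map_neg]
    ring
  inv_mem' := by
    rintro _ ⟨x, rfl⟩
    by_cases hx : x = (0, 0)
    · refine ⟨(0, 0), ?_⟩
      rw [hx, ev_zero, _root_.inv_zero]
    · refine ⟨invP x, ?_⟩
      apply eq_inv_of_mul_eq_one_right
      rw [← ev_mul hl, mulP_invP x hx, ev_one]

theorem ev_surjective {lam : F} (hl : lam ^ 2 = -1)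
    (hgen : Subfield.closure ({lam} : Set F) = ⊤) : Function.Surjective (ev lam) := by
  intro x
  have hle : Subfield.closure ({lam} : Set F) ≤ rangeSubfield hl := by
    rw [Subfield.closure_le]
    intro y hy
    rw [Set.mem_singleton_iff] at hy
    rw [hy]
    exact ⟨(0, 1), ev_lam lam⟩
  rw [hgen] at hle
  exact hle (Subfield.mem_top x)

theorem card_eq_nine {lam : F} (hl : lam ^ 2 = -1)
    (hgen : Subfield.closure ({lam} : Set F) = ⊤) : Nat.card F = 9 := by
  rw [← Nat.card_congr (Equiv.ofBijective (ev lam) ⟨ev_injective hl, ev_surjective hl hgen⟩),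
    Nat.card_prod, Nat.card_zmod]

omit [CharP F 3] in
theorem charP_three_of_card [Fintype F] (h9 : Fintype.card F = 9) : CharP F 3 := by
  obtain ⟨p, hp⟩ := CharP.exists F
  have := hp
  obtain ⟨n, hpp, hn⟩ := FiniteField.card F p
  rw [h9] at hn
  have hdvd : p ∣ 3 ^ 2 := by
    have : p ∣ p ^ (n : ℕ) := dvd_pow_self p n.pos.ne'
    rw [← hn] at this
    exact this
  have hp3 : p = 3 := (Nat.prime_dvd_prime_iff_eq hpp Nat.prime_three).mp
    (hpp.dvd_of_dvd_pow hdvd)
  rw [← hp3]
  exact hp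

end Cfsg.Agent.helper4.G120
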