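import Mathlib
import Cfsg.Agent.Lib_helper11_QuatPres

set_option autoImplicit false

namespace Cfsg.Agent.helper4.SU32

open Cfsg.Agent.helper11.QuatPres

/-- Abstract recognition of `3² : Q₈` among groups of order 72. -/
theorem g72 {G : Type*} [Group G] [Finite G] (hG : Nat.card G = 72) (a b c d : G)
    (hd3 : d ^ 3 = 1) (hc3 : c ^ 3 = 1) (hdc : d * c = c * d) (hd1 : d ≠ 1)
    (had : a * d * a⁻¹ = c * c) (hac : a * c * a⁻¹ = d)
    (hbd : b * d * b⁻¹ = d * d * c * c) (hbc : b * c * b⁻¹ = d * d * c)
    (ha4 : a ^ 4 = 1) (ha2 : a ^ 2 ≠ 1) (hb2 : b ^ 2 = a ^ 2) (hba : b * a * b⁻¹ = a⁻¹) :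
    ∃ (N : Subgroup G) (_ : N.Normal), Nat.card N = 9 ∧ (∀ x ∈ N, x ^ 3 = 1) ∧
      Nonempty (G ⧸ N ≃* QuaternionGroup 2) := by
  classical
  haveI : Fact (Nat.Prime 3) := ⟨Nat.prime_three⟩
  haveI : Fact (Nat.Prime 2) := ⟨Nat.prime_two⟩
  set N : Subgroup G := Subgroup.closure {d, c} with hN
  have hdN : d ∈ N := Subgroup.subset_closure (by simp)
  have hcN : c ∈ N := Subgroup.subset_closure (by simp)
  -- N is commutative
  have hcomm : ∀ x ∈ N, ∀ y ∈ N, x * y = y * x := by
    have hcen : N ≤ Subgroup.centralizer ({d, c} : Set G) := by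
      rw [hN, Subgroup.closure_le]
      intro x hx
      rw [SetLike.mem_coe, Subgroup.mem_centralizer_iff]
      intro y hy
      rcases hx with rfl | rfl <;> rcases hy with rfl | rfl
      · rfl
      · exact hdc.symm
      · exact hdc
      · rfl
    intro x hx y hy
    have h1 : N ≤ Subgroup.centralizer ({x} : Set G) := by
      rw [hN, Subgroup.closure_le]
      intro g hg
      rw [SetLike.mem_coe, Subgroup.mem_centralizer_iff]
      intro t ht
      rw [Set.mem_singleton_iff] at ht
      subst ht
      exact ((Subgroup.mem_centralizer_iff.mp (hcen hx)) g hg).symm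
    exact (Subgroup.mem_centralizer_iff.mp (h1 hy)) x rfl
  -- exponent 3
  have hexp : ∀ x ∈ N, x ^ 3 = 1 := by
    intro x hx
    induction hx using Subgroup.closure_induction with
    | mem y hy => rcases hy with rfl | rfl <;> assumption
    | one => simp
    | mul y z hy hz ihy ihz =>
      have : Commute y z := hcomm y hy z hz
      rw [this.mul_pow, ihy, ihz, one_mul]
    | inv y hy ihy => rw [inv_pow, ihy, inv_one]
  have hp : IsPGroup 3 N := by
    intro x
    refine ⟨1, ?_⟩
    apply Subtype.ext
    simpa using hexp x.1 x.2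
  obtain ⟨k, hk⟩ := IsPGroup.iff_card.mp hp
  have hdvd : Nat.card N ∣ 72 := hG ▸ Subgroup.card_subgroup_dvd_card N
  have hk2 : k ≤ 2 := by
    by_contra hlt
    push Not at hlt
    have h27 : 27 ∣ Nat.card N := by
      rw [hk]; exact (by norm_num : 27 = 3 ^ 3) ▸ pow_dvd_pow 3 hlt
    have := h27.trans hdvd
    omega
  -- zpowers d has order 3
  have hord : orderOf d = 3 := orderOf_eq_prime hd3 hd1
  have hzd : Subgroup.zpowers d ≤ N := by rw [Subgroup.zpowers_le]; exact hdN
  have hzcard : Nat.card (Subgroup.zpowers d) = 3 := by rw [Nat.card_zpowers, hord]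
  have hcnot : c ∉ Subgroup.zpowers d := by
    intro hmem
    rw [mem_zpowers_iff_mem_range_orderOf, hord] at hmem
    simp only [Finset.mem_image, Finset.mem_range] at hmem
    obtain ⟨m, hm3, hm⟩ := hmem
    interval_cases m
    · -- c = 1
      rw [pow_zero] at hm
      rw [← hm] at hac
      apply hd1; rw [← hac]; group
    · rw [pow_one] at hm
      rw [← hm] at had hac
      rw [hac] at had
      apply hd1
      have : d * d = d * 1 := by rw [mul_one]; exact had.symm
      exact mul_left_cancel this
    · have he : a * d * a⁻¹ = d := by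
        rw [had, ← hm]
        calc d ^ 2 * d ^ 2 = d ^ 3 * d := by group
          _ = d := by rw [hd3, one_mul]
      have h2 : a * d ^ 2 * a⁻¹ = d ^ 2 := by rw [← conj_pow, he]
      rw [← hm, h2] at hac
      apply hd1
      have : d * d = d * 1 := by rw [mul_one, ← pow_two]; exact hac
      exact mul_left_cancel this
  have hcard9 : Nat.card N = 9 := by
    have h3dvd : 3 ∣ Nat.card N := hzcard ▸ Subgroup.card_dvd_of_le hzd
    interval_cases k
    · rw [hk] at h3dvd; norm_num at h3dvd
    · exfalso
      have : Subgroup.zpowers d = N :=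
        Subgroup.eq_of_le_of_card_ge hzd (by rw [hk, hzcard]; norm_num)
      exact hcnot (this ▸ hcN)
    · rw [hk]; norm_num
  -- normalizer
  have key : ∀ g : G, g * d * g⁻¹ ∈ N → g * c * g⁻¹ ∈ N →
      g ∈ Subgroup.normalizer (N : Set G) := by
    intro g h1 h2
    have hle : N.map (MulAut.conj g).toMonoidHom ≤ N := by
      rw [Subgroup.map_le_iff_le_comap, hN, Subgroup.closure_le]
      intro x hx
      rw [SetLike.mem_coe, Subgroup.mem_comap]
      rcases hx with rfl | rfl
      · exact h1
      · exact h2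
    have heq : N.map (MulAut.conj g).toMonoidHom = N :=
      Subgroup.eq_of_le_of_card_ge hle
        (by rw [Subgroup.card_map_of_injective (MulAut.conj g).injective])
    rw [Subgroup.mem_normalizer_iff]
    intro h
    constructor
    · intro hh
      exact hle (Subgroup.mem_map_of_mem _ hh)
    · intro hh
      rw [← heq] at hh
      obtain ⟨n, hn, hne⟩ := hh
      have : n = h := (MulAut.conj g).injective hne
      exact this ▸ hn
  have ha_norm : a ∈ Subgroup.normalizer (N : Set G) :=
    key a (had ▸ N.mul_mem hcN hcN) (hac ▸ hdN)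
  have hb_norm : b ∈ Subgroup.normalizer (N : Set G) :=
    key b (hbd ▸ N.mul_mem (N.mul_mem (N.mul_mem hdN hdN) hcN) hcN)
      (hbc ▸ N.mul_mem (N.mul_mem hdN hdN) hcN)
  have horda : orderOf a = 2 * 2 := by
    have := orderOf_eq_prime_pow (p := 2) (n := 1) (x := a) (by simpa using ha2) (by simpa using ha4)
    simpa using this
  have hx : a ^ (2 * 2) = 1 := by simpa using ha4
  let f : QuaternionGroup 2 →* G := quatHom a b hx hb2 hba
  have hf : Function.Injective f := quatHom_injective le_rfl horda hb2 hba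
  have hfr : f.range ≤ Subgroup.normalizer (N : Set G) := by
    rintro _ ⟨u, rfl⟩
    change quatFun a b u ∈ _
    rcases u with i | i
    · exact Subgroup.pow_mem _ ha_norm _
    · exact Subgroup.mul_mem _ hb_norm (Subgroup.pow_mem _ ha_norm _)
  have hfcard : Nat.card f.range = 8 := by
    rw [← Nat.card_congr (MonoidHom.ofInjective hf).toEquiv, Nat.card_eq_fintype_card,
      QuaternionGroup.card]
  have hNtop : Subgroup.normalizer (N : Set G) = ⊤ := by
    apply Subgroup.eq_top_of_card_eq
    have h8 : 8 ∣ Nat.card (Subgroup.normalizer (N : Set G)) :=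
      hfcard ▸ Subgroup.card_dvd_of_le hfr
    have h9 : 9 ∣ Nat.card (Subgroup.normalizer (N : Set G)) :=
      hcard9 ▸ Subgroup.card_dvd_of_le Subgroup.le_normalizer
    have h72 : Nat.card (Subgroup.normalizer (N : Set G)) ∣ 72 :=
      hG ▸ Subgroup.card_subgroup_dvd_card _
    have hpos : 0 < Nat.card (Subgroup.normalizer (N : Set G)) := Nat.card_pos
    rw [hG]
    have h72' : 72 ∣ Nat.card (Subgroup.normalizer (N : Set G)) :=
      (by norm_num : (72 : ℕ) = 8 * 9) ▸
        Nat.Coprime.mul_dvd_of_dvd_of_dvd (by norm_num) h8 h9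
    exact Nat.dvd_antisymm h72 h72'
  have hnormal : N.Normal := Subgroup.normalizer_eq_top_iff.mp hNtop
  refine ⟨N, hnormal, hcard9, hexp, ?_⟩
  -- the quotient
  let φ : QuaternionGroup 2 →* G ⧸ N := (QuotientGroup.mk' N).comp f
  have hφ : Function.Injective φ := by
    rw [injective_iff_map_eq_one]
    intro u hu
    have h1 : f u ∈ N := by
      rw [← QuotientGroup.eq_one_iff]; exact hu
    have h2 : (f u) ^ 3 = 1 := hexp _ h1
    have h3 : u ^ 8 = 1 := by
      have := pow_card_eq_one (G := QuaternionGroup 2) (x := u)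
      rwa [QuaternionGroup.card] at this
    have h4 : (f u) ^ 8 = 1 := by rw [← map_pow, h3, map_one]
    have h5 : f u = 1 := by
      calc f u = ((f u) ^ 3) ^ 3 * ((f u) ^ 8)⁻¹ := by group
        _ = 1 := by rw [h2, h4]; simp
    exact hf (by rw [h5, map_one])
  have hcardQ : Nat.card (G ⧸ N) = 8 := by
    have h1 := Subgroup.card_eq_card_quotient_mul_card_subgroup N
    rw [hG, hcard9] at h1
    omega
  have hbij : Function.Bijective φ := by
    haveI : Finite (G ⧸ N) := inferInstance
    rw [Nat.bijective_iff_injective_and_card]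
    refine ⟨hφ, ?_⟩
    rw [hcardQ, Nat.card_eq_fintype_card, QuaternionGroup.card]
  exact ⟨(MulEquiv.ofBijective φ hbij).symm⟩

end Cfsg.Agent.helper4.SU32
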