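import Mathlib

set_option autoImplicit false

namespace Cfsg.Agent.helper4

open Matrix

/-- 2x2 matrices with natural-number entries (to be read modulo `p`). -/
abbrev Q4 := ℕ × ℕ × ℕ × ℕ

def oneQ : Q4 := (1, 0, 0, 1)

def mulQ (p : ℕ) (x y : Q4) : Q4 :=
  ((x.1 * y.1 + x.2.1 * y.2.2.1) % p, (x.1 * y.2.1 + x.2.1 * y.2.2.2) % p,
   (x.2.2.1 * y.1 + x.2.2.2 * y.2.2.1) % p, (x.2.2.1 * y.2.1 + x.2.2.2 * y.2.2.2) % p)

def toM (p : ℕ) (x : Q4) : Matrix (Fin 2) (Fin 2) (ZMod p) :=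
  !![(x.1 : ZMod p), (x.2.1 : ZMod p); (x.2.2.1 : ZMod p), (x.2.2.2 : ZMod p)]

def ltQ (p : ℕ) (x : Q4) : Prop := x.1 < p ∧ x.2.1 < p ∧ x.2.2.1 < p ∧ x.2.2.2 < p

instance (p : ℕ) (x : Q4) : Decidable (ltQ p x) := by unfold ltQ; infer_instance

theorem toM_one (p : ℕ) : toM p oneQ = 1 := by
  unfold toM oneQ
  ext i j
  fin_cases i <;> fin_cases j <;> simp

theorem toM_mulQ (p : ℕ) (x y : Q4) : toM p (mulQ p x y) = toM p x * toM p y := by
  unfold toM mulQ
  ext i j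
  fin_cases i <;> fin_cases j <;>
    simp [Matrix.mul_apply, Fin.sum_univ_two, ZMod.natCast_mod]

theorem toM_injOn (p : ℕ) {x y : Q4} (hx : ltQ p x) (hy : ltQ p y) (h : toM p x = toM p y) : x = y := by
  have key : ∀ a b : ℕ, a < p → b < p → ((a : ZMod p) = (b : ZMod p)) → a = b := by
    intro a b ha hb hab
    have := (ZMod.natCast_eq_natCast_iff' a b p).mp hab
    rwa [Nat.mod_eq_of_lt ha, Nat.mod_eq_of_lt hb] at this
  obtain ⟨x1, x2, x3, x4⟩ := x
  obtain ⟨y1, y2, y3, y4⟩ := y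
  obtain ⟨hx1, hx2, hx3, hx4⟩ := hx
  obtain ⟨hy1, hy2, hy3, hy4⟩ := hy
  have h00 := congrFun (congrFun h 0) 0
  have h01 := congrFun (congrFun h 0) 1
  have h10 := congrFun (congrFun h 1) 0
  have h11 := congrFun (congrFun h 1) 1
  simp only [toM, Matrix.of_apply, Matrix.cons_val', Matrix.cons_val_zero, Matrix.cons_val_one,
    Matrix.cons_val_fin_one] at h00 h01 h10 h11
  simp only [Prod.mk.injEq]
  exact ⟨key _ _ hx1 hy1 h00, key _ _ hx2 hy2 h01, key _ _ hx3 hy3 h10, key _ _ hx4 hy4 h11⟩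

/-- evaluate a word (list of generator indices) -/
def evalW (p : ℕ) (gens : List Q4) (w : List ℕ) : Q4 :=
  w.foldl (fun acc i => mulQ p acc (gens.getD i oneQ)) oneQ

section closure

variable {p : ℕ} [NeZero p]

abbrev GL2 (p : ℕ) := Matrix.GeneralLinearGroup (Fin 2) (ZMod p)

/-- Every element of the closure of `S` has matrix in `toM '' T` provided `T` contains one and is closed
under right multiplication by the generators. -/
theorem closure_subset (S : Set (GL2 p)) (gens : List Q4) (T : List Q4)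
    (hS : ∀ s ∈ S, ∃ g ∈ gens, (s : Matrix (Fin 2) (Fin 2) (ZMod p)) = toM p g)
    (hone : oneQ ∈ T) (hclosed : ∀ g ∈ gens, ∀ t ∈ T, mulQ p t g ∈ T) :
    ∀ h ∈ Subgroup.closure S, ∃ t ∈ T, (h : Matrix (Fin 2) (Fin 2) (ZMod p)) = toM p t := by
  intro h hh
  have hh' : h ∈ Submonoid.closure S := by
    rw [← Subgroup.closure_toSubmonoid_of_finite]; exact hh
  induction hh' using Submonoid.closure_induction_right with
  | one => exact ⟨oneQ, hone, by rw [toM_one]; rfl⟩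
  | mul_right x _ y hy ih =>
    have hx : x ∈ Subgroup.closure S := by
      rw [← Subgroup.mem_toSubmonoid, Subgroup.closure_toSubmonoid_of_finite]; assumption
    obtain ⟨t, ht, hxt⟩ := ih hx
    obtain ⟨g, hg, hyg⟩ := hS y hy
    exact ⟨mulQ p t g, hclosed g hg t ht, by rw [Units.val_mul, hxt, hyg, toM_mulQ]⟩

omit [NeZero p] in
theorem evalW_mem (S : Set (GL2 p)) (gens : List Q4)
    (hgens : ∀ g ∈ gens, ∃ s ∈ S, (s : Matrix (Fin 2) (Fin 2) (ZMod p)) = toM p g) (w : List ℕ) :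
    ∃ h ∈ Subgroup.closure S, (h : Matrix (Fin 2) (Fin 2) (ZMod p)) = toM p (evalW p gens w) := by
  unfold evalW
  have gen : ∀ (w : List ℕ) (acc : Q4),
      (∃ h ∈ Subgroup.closure S, (h : Matrix (Fin 2) (Fin 2) (ZMod p)) = toM p acc) →
      ∃ h ∈ Subgroup.closure S, (h : Matrix (Fin 2) (Fin 2) (ZMod p)) =
        toM p (w.foldl (fun acc i => mulQ p acc (gens.getD i oneQ)) acc) := by
    intro w
    induction w with
    | nil => intro acc h; exact h
    | cons i w ih =>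
      intro acc ⟨h, hh, hacc⟩
      rw [List.foldl_cons]
      apply ih
      have hg : ∃ k ∈ Subgroup.closure S, (k : Matrix (Fin 2) (Fin 2) (ZMod p)) = toM p (gens.getD i oneQ) := by
        by_cases hi : i < gens.length
        · rw [List.getD_eq_getElem _ _ hi]
          obtain ⟨s, hs, hsg⟩ := hgens _ (List.getElem_mem hi)
          exact ⟨s, Subgroup.subset_closure hs, hsg⟩
        · rw [List.getD_eq_default _ _ (not_lt.mp hi)]
          exact ⟨1, Subgroup.one_mem _, by rw [toM_one]; rfl⟩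
      obtain ⟨k, hk, hkg⟩ := hg
      exact ⟨h * k, Subgroup.mul_mem _ hh hk, by rw [Units.val_mul, hacc, hkg, toM_mulQ]⟩
  exact gen w oneQ ⟨1, Subgroup.one_mem _, by rw [toM_one]; rfl⟩

/-- cardinality of the closure -/
theorem card_closure (S : Set (GL2 p)) (gens : List Q4) (words : List (List ℕ))
    (hS : ∀ s ∈ S, ∃ g ∈ gens, (s : Matrix (Fin 2) (Fin 2) (ZMod p)) = toM p g)
    (hgens : ∀ g ∈ gens, ∃ s ∈ S, (s : Matrix (Fin 2) (Fin 2) (ZMod p)) = toM p g)
    (hone : oneQ ∈ words.map (evalW p gens))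
    (hclosed : ∀ g ∈ gens, ∀ t ∈ words.map (evalW p gens), mulQ p t g ∈ words.map (evalW p gens))
    (hlt : ∀ t ∈ words.map (evalW p gens), ltQ p t)
    (hnodup : (words.map (evalW p gens)).Nodup) :
    Nat.card (Subgroup.closure S) = words.length := by
  classical
  set T := words.map (evalW p gens) with hT
  have hsub := closure_subset S gens T hS hone hclosed
  -- bijection closure S ≃ T.toFinset
  have hex : ∀ h : Subgroup.closure S, ∃ t : T.toFinset, ((h : GL2 p) : Matrix (Fin 2) (Fin 2) (ZMod p)) = toM p t.1 := by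
    intro h
    obtain ⟨t, ht, hht⟩ := hsub h.1 h.2
    exact ⟨⟨t, List.mem_toFinset.mpr ht⟩, hht⟩
  choose f hf using hex
  have hinj : Function.Injective f := by
    intro h h' hhh
    apply Subtype.ext
    apply Units.ext
    rw [hf h, hf h', hhh]
  have hsurj : Function.Surjective f := by
    rintro ⟨t, ht⟩
    have ht' : t ∈ T := List.mem_toFinset.mp ht
    obtain ⟨w, _, rfl⟩ := List.mem_map.mp ht'
    obtain ⟨h, hh, hhw⟩ := evalW_mem S gens hgens w
    refine ⟨⟨h, hh⟩, ?_⟩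
    apply Subtype.ext
    apply toM_injOn p (hlt _ (List.mem_toFinset.mp (f ⟨h, hh⟩).2)) (hlt _ ht')
    rw [← hf ⟨h, hh⟩]
    exact hhw
  rw [Nat.card_congr (Equiv.ofBijective f ⟨hinj, hsurj⟩)]
  rw [Nat.card_eq_fintype_card, Fintype.card_coe, List.toFinset_card_of_nodup hnodup, hT,
    List.length_map]

end closure

/-- the quantity `det (t - 1)` reduced mod `p`, computed in `ℕ` -/
def fixQ (p : ℕ) (t : Q4) : ℕ :=
  ((t.1 + (p - 1)) * (t.2.2.2 + (p - 1)) + (p - 1) * (t.2.1 * t.2.2.1)) % p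

theorem fixQ_cast (p : ℕ) [NeZero p] (t : Q4) : ((fixQ p t : ℕ) : ZMod p) = (toM p t - 1).det := by
  have hp1 : ((p - 1 : ℕ) : ZMod p) = -1 := by
    have hp : 1 ≤ p := Nat.one_le_iff_ne_zero.mpr (NeZero.ne p)
    rw [Nat.cast_sub hp, ZMod.natCast_self, Nat.cast_one, zero_sub]
  unfold fixQ toM
  rw [ZMod.natCast_mod, Matrix.det_fin_two]
  simp only [Nat.cast_add, Nat.cast_mul, hp1, Matrix.sub_apply, Matrix.of_apply, Matrix.cons_val',
    Matrix.cons_val_zero, Matrix.cons_val_one, Matrix.cons_val_fin_one, Matrix.one_apply_eq]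
  simp
  ring

theorem free_of_fixQ (p : ℕ) [Fact p.Prime] (t : Q4) (ht : fixQ p t ≠ 0) (v : Fin 2 → ZMod p)
    (hv : toM p t *ᵥ v = v) : v = 0 := by
  have hp : p ≠ 0 := (Fact.out : p.Prime).ne_zero
  have : NeZero p := ⟨hp⟩
  have hdet : (toM p t - 1).det ≠ 0 := by
    rw [← fixQ_cast]
    intro h0
    rw [ZMod.natCast_eq_zero_iff] at h0
    have hlt : fixQ p t < p := Nat.mod_lt _ (Nat.pos_of_ne_zero hp)
    exact ht (Nat.eq_zero_of_dvd_of_lt h0 hlt)
  apply Matrix.eq_zero_of_mulVec_eq_zero hdet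
  rw [Matrix.sub_mulVec, Matrix.one_mulVec, hv, sub_self]

/-- Regularity on nonzero vectors from freeness and the cardinality. -/
theorem regular_of_free {p : ℕ} [Fact p.Prime] (H : Subgroup (GL2 p)) (hcard : Nat.card H = p ^ 2 - 1)
    (hfree : ∀ h ∈ H, ∀ v : Fin 2 → ZMod p, (h : Matrix (Fin 2) (Fin 2) (ZMod p)) *ᵥ v = v → v ≠ 0 → h = 1) :
    ∀ v w : Fin 2 → ZMod p, v ≠ 0 → w ≠ 0 →
      ∃! h : H, ((h : GL2 p) : Matrix (Fin 2) (Fin 2) (ZMod p)) *ᵥ v = w := by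
  classical
  have hp : p ≠ 0 := (Fact.out : p.Prime).ne_zero
  have : NeZero p := ⟨hp⟩
  have hcardV : Nat.card {w : Fin 2 → ZMod p // w ≠ 0} = p ^ 2 - 1 := by
    rw [Nat.card_eq_fintype_card, Fintype.card_subtype_compl, Fintype.card_subtype_eq,
      Fintype.card_fun, ZMod.card, Fintype.card_fin]
  have hinv : ∀ (h : GL2 p) (v : Fin 2 → ZMod p), ((h⁻¹ : GL2 p) : Matrix (Fin 2) (Fin 2) (ZMod p)) *ᵥ ((h : Matrix (Fin 2) (Fin 2) (ZMod p)) *ᵥ v) = v := by
    intro h v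
    rw [Matrix.mulVec_mulVec, ← Units.val_mul, inv_mul_cancel, Units.val_one, Matrix.one_mulVec]
  have hne : ∀ (h : GL2 p) (v : Fin 2 → ZMod p), v ≠ 0 → (h : Matrix (Fin 2) (Fin 2) (ZMod p)) *ᵥ v ≠ 0 := by
    intro h v hv h0
    apply hv
    rw [← hinv h v, h0, Matrix.mulVec_zero]
  intro v w hv hw
  have key : Function.Bijective (fun h : H => (⟨((h : GL2 p) : Matrix (Fin 2) (Fin 2) (ZMod p)) *ᵥ v, hne _ v hv⟩ : {w : Fin 2 → ZMod p // w ≠ 0})) := by
    apply Function.Injective.bijective_of_nat_card_le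
    · intro h h' hhh
      have h1 : ((h : GL2 p) : Matrix (Fin 2) (Fin 2) (ZMod p)) *ᵥ v = ((h' : GL2 p) : Matrix (Fin 2) (Fin 2) (ZMod p)) *ᵥ v := by
        simpa using congrArg Subtype.val hhh
      have h2 : (((h : GL2 p)⁻¹ * (h' : GL2 p) : GL2 p) : Matrix (Fin 2) (Fin 2) (ZMod p)) *ᵥ v = v := by
        rw [Units.val_mul, ← Matrix.mulVec_mulVec, ← h1, hinv]
      have h3 := hfree _ (H.mul_mem (H.inv_mem h.2) h'.2) v h2 hv
      apply Subtype.ext
      exact inv_mul_eq_one.mp h3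
    · rw [hcardV, hcard]
  obtain ⟨h, hh⟩ := key.2 ⟨w, hw⟩
  have hh' : ((h : GL2 p) : Matrix (Fin 2) (Fin 2) (ZMod p)) *ᵥ v = w := by
    simpa using congrArg Subtype.val hh
  refine ⟨h, hh', ?_⟩
  intro h' hh''
  apply key.1
  apply Subtype.ext
  change ((h' : GL2 p) : Matrix (Fin 2) (Fin 2) (ZMod p)) *ᵥ v = ((h : GL2 p) : Matrix (Fin 2) (Fin 2) (ZMod p)) *ᵥ v
  rw [hh'', hh']

end Cfsg.Agent.helper4
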