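import Mathlib
import Cfsg.Agent.Lib_helper4_DnAO

set_option autoImplicit false
set_option linter.unusedSectionVars false
set_option maxHeartbeats 1600000

/-!
# A lower bound for centralisers in `SL₂(F)` and `PSL₂(F)`
-/

namespace Cfsg.Agent.helper4.Mx

open Matrix
open scoped MatrixGroups
open Cfsg.Agent.helper4.Dk Cfsg.Agent.helper4.Dn

variable {F : Type*} [Field F]

theorem det_lin (c : SpecialLinearGroup (Fin 2) F) (a b : F) :
    (a • (1 : Matrix (Fin 2) (Fin 2) F) + b • (c : Matrix (Fin 2) (Fin 2) F)).det =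
      a ^ 2 + a * b * tr c + b ^ 2 := by
  have hd := det_eq c
  rw [det_fin_two]
  simp only [Matrix.add_apply, Matrix.smul_apply, Matrix.one_apply_eq, smul_eq_mul, mul_one,
    Matrix.one_apply_ne (show (0 : Fin 2) ≠ 1 by decide),
    Matrix.one_apply_ne (show (1 : Fin 2) ≠ 0 by decide), mul_zero, zero_add]
  unfold tr
  linear_combination (b ^ 2) * hd

theorem scalar_case {c : SpecialLinearGroup (Fin 2) F} (h01 : c 0 1 = 0) (h10 : c 1 0 = 0)
    (h : c 0 0 = c 1 1) : c = 1 ∨ c = -1 := by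
  have hd := det_eq c
  rw [h01, h10, ← h] at hd
  have h1 : (c 0 0 - 1) * (c 0 0 + 1) = 0 := by linear_combination hd
  rcases mul_eq_zero.mp h1 with h1 | h1
  · left
    apply sl_ext' <;> simp [h01, h10, ← h, sub_eq_zero.mp h1]
  · right
    have : c 0 0 = -1 := by linear_combination h1
    apply sl_ext' <;> simp [h01, h10, ← h, this]

theorem coeff_det (t u : F) (hu : u ^ 2 + t * u + 1 ≠ 0) :
    ((u ^ 2 - 1) / (u ^ 2 + t * u + 1)) ^ 2 +
      ((u ^ 2 - 1) / (u ^ 2 + t * u + 1)) * ((2 * u + t) / (u ^ 2 + t * u + 1)) * t +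
      ((2 * u + t) / (u ^ 2 + t * u + 1)) ^ 2 = 1 := by
  obtain ⟨δ, hδ⟩ : ∃ δ, δ = u ^ 2 + t * u + 1 := ⟨_, rfl⟩
  rw [← hδ] at hu ⊢
  have h : (u ^ 2 - 1) ^ 2 + (u ^ 2 - 1) * (2 * u + t) * t + (2 * u + t) ^ 2 = δ ^ 2 := by
    rw [hδ]; ring
  have e : ((u ^ 2 - 1) / δ) ^ 2 + ((u ^ 2 - 1) / δ) * ((2 * u + t) / δ) * t + ((2 * u + t) / δ) ^ 2 =
      ((u ^ 2 - 1) ^ 2 + (u ^ 2 - 1) * (2 * u + t) * t + (2 * u + t) ^ 2) / δ ^ 2 := by
    field_simp
  rw [e, h, div_self (pow_ne_zero 2 hu)]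

/-- the elements `(u + c)(u + c⁻¹)⁻¹` of the centraliser -/
noncomputable def gam (c : SpecialLinearGroup (Fin 2) F) (u : F) (hu : u ^ 2 + tr c * u + 1 ≠ 0) :
    SpecialLinearGroup (Fin 2) F :=
  ⟨((u ^ 2 - 1) / (u ^ 2 + tr c * u + 1)) • (1 : Matrix (Fin 2) (Fin 2) F) +
    ((2 * u + tr c) / (u ^ 2 + tr c * u + 1)) • (c : Matrix (Fin 2) (Fin 2) F), by
    rw [det_lin]
    exact coeff_det (tr c) u hu⟩

theorem gam_comm (c : SpecialLinearGroup (Fin 2) F) (u : F) (hu : u ^ 2 + tr c * u + 1 ≠ 0) :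
    c * gam c u hu = gam c u hu * c := by
  apply Subtype.ext
  change (c : Matrix (Fin 2) (Fin 2) F) * (gam c u hu : Matrix (Fin 2) (Fin 2) F) =
    (gam c u hu : Matrix (Fin 2) (Fin 2) F) * (c : Matrix (Fin 2) (Fin 2) F)
  simp only [gam]
  simp [Matrix.mul_add, Matrix.add_mul]

theorem gam_00 (c : SpecialLinearGroup (Fin 2) F) (u : F) (hu : u ^ 2 + tr c * u + 1 ≠ 0) :
    gam c u hu 0 0 = (u ^ 2 - 1) / (u ^ 2 + tr c * u + 1) +
      (2 * u + tr c) / (u ^ 2 + tr c * u + 1) * c 0 0 := by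
  simp [gam]
theorem gam_11 (c : SpecialLinearGroup (Fin 2) F) (u : F) (hu : u ^ 2 + tr c * u + 1 ≠ 0) :
    gam c u hu 1 1 = (u ^ 2 - 1) / (u ^ 2 + tr c * u + 1) +
      (2 * u + tr c) / (u ^ 2 + tr c * u + 1) * c 1 1 := by
  simp [gam]
theorem gam_01 (c : SpecialLinearGroup (Fin 2) F) (u : F) (hu : u ^ 2 + tr c * u + 1 ≠ 0) :
    gam c u hu 0 1 = (2 * u + tr c) / (u ^ 2 + tr c * u + 1) * c 0 1 := by
  simp [gam]
theorem gam_10 (c : SpecialLinearGroup (Fin 2) F) (u : F) (hu : u ^ 2 + tr c * u + 1 ≠ 0) :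
    gam c u hu 1 0 = (2 * u + tr c) / (u ^ 2 + tr c * u + 1) * c 1 0 := by
  simp [gam]

/-- the two coefficients determine `u` -/
theorem coeff_rel (t u : F) (hu : u ^ 2 + t * u + 1 ≠ 0) :
    (2 * u + t) / (u ^ 2 + t * u + 1) * u - (u ^ 2 - 1) / (u ^ 2 + t * u + 1) = 1 := by
  obtain ⟨δ, hδ⟩ : ∃ δ, δ = u ^ 2 + t * u + 1 := ⟨_, rfl⟩
  rw [← hδ] at hu ⊢
  have e : (2 * u + t) / δ * u - (u ^ 2 - 1) / δ = ((2 * u + t) * u - (u ^ 2 - 1)) / δ := by
    field_simp
  have h : (2 * u + t) * u - (u ^ 2 - 1) = δ := by rw [hδ]; ring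
  rw [e, h, div_self hu]

theorem gam_injective (h2 : (2 : F) ≠ 0) (c : SpecialLinearGroup (Fin 2) F) (hc1 : c ≠ 1)
    (hc2 : c ≠ -1) (u v : F) (hu : u ^ 2 + tr c * u + 1 ≠ 0) (hv : v ^ 2 + tr c * v + 1 ≠ 0)
    (h : gam c u hu = gam c v hv) : u = v := by
  obtain ⟨au, hau⟩ : ∃ a, a = (u ^ 2 - 1) / (u ^ 2 + tr c * u + 1) := ⟨_, rfl⟩
  obtain ⟨bu, hbu⟩ : ∃ a, a = (2 * u + tr c) / (u ^ 2 + tr c * u + 1) := ⟨_, rfl⟩
  obtain ⟨av, hav⟩ : ∃ a, a = (v ^ 2 - 1) / (v ^ 2 + tr c * v + 1) := ⟨_, rfl⟩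
  obtain ⟨bv, hbv⟩ : ∃ a, a = (2 * v + tr c) / (v ^ 2 + tr c * v + 1) := ⟨_, rfl⟩
  have e00 := congrArg (fun x : SpecialLinearGroup (Fin 2) F => x 0 0) h
  have e01 := congrArg (fun x : SpecialLinearGroup (Fin 2) F => x 0 1) h
  have e10 := congrArg (fun x : SpecialLinearGroup (Fin 2) F => x 1 0) h
  have e11 := congrArg (fun x : SpecialLinearGroup (Fin 2) F => x 1 1) h
  simp only [gam_00, gam_01, gam_10, gam_11, ← hau, ← hbu, ← hav, ← hbv] at e00 e01 e10 e11
  have ru := coeff_rel (tr c) u hu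
  have rv := coeff_rel (tr c) v hv
  rw [← hau, ← hbu] at ru
  rw [← hav, ← hbv] at rv
  by_cases hb : bu = bv
  · have ha : au = av := by
      rw [hb] at e00
      linear_combination e00
    rw [hb, ha] at ru
    have h3 : bv * (u - v) = 0 := by linear_combination ru - rv
    rcases mul_eq_zero.mp h3 with h3 | h3
    · -- bv = 0
      have hu0 : 2 * u + tr c = 0 := by
        rw [← hb] at h3
        rw [h3] at hbu
        have := hbu.symm
        rcases div_eq_zero_iff.mp this with h | h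
        · exact h
        · exact absurd h hu
      have hv0 : 2 * v + tr c = 0 := by
        rw [h3] at hbv
        have := hbv.symm
        rcases div_eq_zero_iff.mp this with h | h
        · exact h
        · exact absurd h hv
      have : 2 * (u - v) = 0 := by linear_combination hu0 - hv0
      rcases mul_eq_zero.mp this with h | h
      · exact absurd h h2
      · exact sub_eq_zero.mp h
    · exact sub_eq_zero.mp h3
  · exfalso
    have hb' : bu - bv ≠ 0 := sub_ne_zero.mpr hb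
    have h01 : c 0 1 = 0 := by
      have : (bu - bv) * c 0 1 = 0 := by linear_combination e01
      exact (mul_eq_zero.mp this).resolve_left hb'
    have h10 : c 1 0 = 0 := by
      have : (bu - bv) * c 1 0 = 0 := by linear_combination e10
      exact (mul_eq_zero.mp this).resolve_left hb'
    have h00 : c 0 0 = c 1 1 := by
      have : (bu - bv) * (c 0 0 - c 1 1) = 0 := by linear_combination e00 - e11
      exact sub_eq_zero.mp ((mul_eq_zero.mp this).resolve_left hb')
    rcases scalar_case h01 h10 h00 with h | h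
    · exact hc1 h
    · exact hc2 h

theorem gam_ne_one (h2 : (2 : F) ≠ 0) (c : SpecialLinearGroup (Fin 2) F) (hc1 : c ≠ 1)
    (hc2 : c ≠ -1) (u : F) (hu : u ^ 2 + tr c * u + 1 ≠ 0) : gam c u hu ≠ 1 := by
  intro h
  obtain ⟨au, hau⟩ : ∃ a, a = (u ^ 2 - 1) / (u ^ 2 + tr c * u + 1) := ⟨_, rfl⟩
  obtain ⟨bu, hbu⟩ : ∃ a, a = (2 * u + tr c) / (u ^ 2 + tr c * u + 1) := ⟨_, rfl⟩
  have e00 := congrArg (fun x : SpecialLinearGroup (Fin 2) F => x 0 0) h
  have e01 := congrArg (fun x : SpecialLinearGroup (Fin 2) F => x 0 1) h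
  have e10 := congrArg (fun x : SpecialLinearGroup (Fin 2) F => x 1 0) h
  have e11 := congrArg (fun x : SpecialLinearGroup (Fin 2) F => x 1 1) h
  simp only [gam_00, gam_01, gam_10, gam_11, ← hau, ← hbu, one_00, one_01, one_10, one_11]
    at e00 e01 e10 e11
  have ru := coeff_rel (tr c) u hu
  rw [← hau, ← hbu] at ru
  by_cases hb : bu = 0
  · rw [hb] at e00 ru
    have h1 : au = 1 := by linear_combination e00
    rw [h1] at ru
    apply h2
    linear_combination -ru
  · have h01 : c 0 1 = 0 := (mul_eq_zero.mp e01).resolve_left hb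
    have h10 : c 1 0 = 0 := (mul_eq_zero.mp e10).resolve_left hb
    have h00 : c 0 0 = c 1 1 := by
      have : bu * (c 0 0 - c 1 1) = 0 := by linear_combination e00 - e11
      exact sub_eq_zero.mp ((mul_eq_zero.mp this).resolve_left hb)
    rcases scalar_case h01 h10 h00 with h | h
    · exact hc1 h
    · exact hc2 h

variable [Fintype F]

/-- the centraliser of a non-central element of `SL₂(F)` has at least `q - 1` elements -/
theorem card_centralizer_ge (h2 : (2 : F) ≠ 0) (c : SpecialLinearGroup (Fin 2) F) (hc1 : c ≠ 1)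
    (hc2 : c ≠ -1) :
    Fintype.card F - 1 ≤ Nat.card (Subgroup.centralizer ({c} : Set (SpecialLinearGroup (Fin 2) F))) := by
  classical
  have hroots : (Finset.univ.filter (fun u : F => u ^ 2 + tr c * u + 1 = 0)).card ≤ 2 := by
    by_contra hlt
    push Not at hlt
    obtain ⟨x, y, z, hx, hy, hz, hxy, hxz, hyz⟩ := Finset.two_lt_card_iff.mp hlt
    simp only [Finset.mem_filter, Finset.mem_univ, true_and] at hx hy hz
    have h1 : (x - y) * (x + y + tr c) = 0 := by linear_combination hx - hy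
    have h2' : (x - z) * (x + z + tr c) = 0 := by linear_combination hx - hz
    have h3 := (mul_eq_zero.mp h1).resolve_left (sub_ne_zero.mpr hxy)
    have h4 := (mul_eq_zero.mp h2').resolve_left (sub_ne_zero.mpr hxz)
    apply hyz
    linear_combination h3 - h4
  have hD : Fintype.card F - 2 ≤ Fintype.card {u : F // u ^ 2 + tr c * u + 1 ≠ 0} := by
    rw [Fintype.card_subtype_compl, Fintype.card_subtype]
    omega
  let f : Option {u : F // u ^ 2 + tr c * u + 1 ≠ 0} →
      Subgroup.centralizer ({c} : Set (SpecialLinearGroup (Fin 2) F)) := fun o =>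
    match o with
    | none => 1
    | some u => ⟨gam c u.1 u.2, by
        rw [Subgroup.mem_centralizer_iff]
        intro h hh
        rw [Set.mem_singleton_iff] at hh
        rw [hh]
        exact gam_comm c u.1 u.2⟩
  have hf : Function.Injective f := by
    intro a b hab
    rcases a with _ | a <;> rcases b with _ | b
    · rfl
    · exfalso
      have := congrArg Subtype.val hab
      exact gam_ne_one h2 c hc1 hc2 b.1 b.2 this.symm
    · exfalso
      have := congrArg Subtype.val hab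
      exact gam_ne_one h2 c hc1 hc2 a.1 a.2 this
    · have := congrArg Subtype.val hab
      have := gam_injective h2 c hc1 hc2 a.1 b.1 a.2 b.2 this
      rw [Subtype.ext this]
  have hcard := Nat.card_le_card_of_injective f hf
  rw [Nat.card_eq_fintype_card, Fintype.card_option] at hcard
  have hq : 2 ≤ Fintype.card F := Fintype.one_lt_card
  omega

/-- the centraliser of a nontrivial element of `PSL₂(F)` has at least `(q - 1) / 2` elements -/
theorem card_centralizer_psl_ge (h2 : (2 : F) ≠ 0) (c : SpecialLinearGroup (Fin 2) F) (hc1 : c ≠ 1)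
    (hc2 : c ≠ -1) :
    Fintype.card F - 1 ≤ 2 * Nat.card (Subgroup.centralizer
      ({piF F c} : Set (Matrix.ProjectiveSpecialLinearGroup (Fin 2) F))) := by
  have h1 := card_centralizer_ge h2 c hc1 hc2
  have hle : Subgroup.centralizer ({c} : Set (SpecialLinearGroup (Fin 2) F)) ≤
      (Subgroup.centralizer ({piF F c} : Set (Matrix.ProjectiveSpecialLinearGroup (Fin 2) F))).comap
        (piF F) := by
    intro g hg
    rw [Subgroup.mem_comap, Subgroup.mem_centralizer_iff]
    intro h hh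
    rw [Set.mem_singleton_iff] at hh
    rw [Subgroup.mem_centralizer_iff] at hg
    have := hg c rfl
    rw [hh, ← map_mul, ← map_mul, this]
  haveI : Finite ((Subgroup.centralizer ({piF F c} : Set (Matrix.ProjectiveSpecialLinearGroup (Fin 2) F))).comap
        (piF F)) := inferInstance
  have h3 := Subgroup.card_le_of_le hle
  rw [card_comap_piF_gen] at h3
  have hz : zc F = 2 := by
    rcases zc_cases F with ⟨h, _⟩ | ⟨_, h⟩
    · exact h
    · exact absurd h h2
  rw [hz] at h3
  omega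

end Cfsg.Agent.helper4.Mx
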