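import Mathlib
import Cfsg.Agent.Lib_helper4_MxA

set_option autoImplicit false

/-!
# Dihedral maximal subgroups of simple groups
-/

namespace Cfsg.Agent.helper4.Mx

open Subgroup

theorem conj_mem_zpowers {G : Type*} [Group G] {m c : G} (h : m * c * m⁻¹ ∈ zpowers c) :
    ∀ x ∈ zpowers c, m * x * m⁻¹ ∈ zpowers c := by
  rintro x ⟨j, rfl⟩
  have : m * c ^ j * m⁻¹ = (m * c * m⁻¹) ^ j := by
    rw [conj_zpow]
  rw [this]
  exact (zpowers c).zpow_mem h j

theorem mem_normalizer_zpowers {G : Type*} [Group G] {m c : G} (h1 : m * c * m⁻¹ ∈ zpowers c)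
    (h2 : m⁻¹ * c * m ∈ zpowers c) : m ∈ normalizer (zpowers c : Set G) := by
  rw [mem_normalizer_iff]
  intro x
  constructor
  · exact conj_mem_zpowers h1 x
  · intro hx
    have h2' : m⁻¹ * c * m⁻¹⁻¹ ∈ zpowers c := by rwa [inv_inv]
    have := conj_mem_zpowers h2' _ hx
    have e : m⁻¹ * (m * x * m⁻¹) * m⁻¹⁻¹ = x := by group
    rwa [e] at this

def dpsi (k : ℕ) : DihedralGroup k → ZMod k
  | DihedralGroup.r i => i
  | DihedralGroup.sr i => i

theorem dihedral_coatom {G : Type*} [Group G] [Finite G] [IsSimpleGroup G] {M : Subgroup G}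
    (hM : IsCoatom M) {k : ℕ} (hk : 3 ≤ k) (e : M ≃* DihedralGroup k) :
    ∃ c : G, c ∈ M ∧ c ≠ 1 ∧ orderOf c = k ∧
      Nat.card (centralizer ({c} : Set G)) ≤ k := by
  classical
  haveI : NeZero k := ⟨by omega⟩
  obtain ⟨c₀, hc₀⟩ : ∃ c₀ : M, c₀ = e.symm (DihedralGroup.r 1) := ⟨_, rfl⟩
  have hec : e c₀ = DihedralGroup.r 1 := by rw [hc₀]; simp
  have hord₀ : orderOf c₀ = k := by
    rw [← e.orderOf_eq, hec, DihedralGroup.orderOf_r_one]
  have hord : orderOf (c₀ : G) = k := by rw [Subgroup.orderOf_coe, hord₀]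
  have hc1 : (c₀ : G) ≠ 1 := by
    intro h
    rw [h, orderOf_one] at hord
    omega
  have hconj : ∀ m : M, (m : G) * c₀ * (m : G)⁻¹ ∈ zpowers (c₀ : G) := by
    intro m
    have hcases : e (m * c₀ * m⁻¹) = DihedralGroup.r 1 ∨ e (m * c₀ * m⁻¹) = (DihedralGroup.r 1)⁻¹ := by
      rw [map_mul, map_mul, map_inv, hec]
      rcases e m with i | i
      · left
        simp
      · right
        simp
    rcases hcases with h | h
    · have : m * c₀ * m⁻¹ = c₀ := e.injective (by rw [h, hec])
      have h' : (m : G) * c₀ * (m : G)⁻¹ = c₀ := by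
        have := congrArg Subtype.val this
        simpa using this
      rw [h']
      exact mem_zpowers _
    · have : m * c₀ * m⁻¹ = c₀⁻¹ := e.injective (by rw [h, map_inv, hec])
      have h' : (m : G) * c₀ * (m : G)⁻¹ = (c₀ : G)⁻¹ := by
        have := congrArg Subtype.val this
        simpa using this
      rw [h']
      exact (zpowers _).inv_mem (mem_zpowers _)
  have hCbot : zpowers (c₀ : G) ≠ ⊥ := by
    intro h
    exact hc1 (zpowers_eq_bot.mp h)
  have hCM : zpowers (c₀ : G) ≤ M := by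
    rw [zpowers_le]
    exact c₀.2
  have hCtop : zpowers (c₀ : G) ≠ ⊤ := fun h => hM.1 (top_le_iff.mp (h ▸ hCM))
  have hMN : M ≤ normalizer (zpowers (c₀ : G) : Set G) := by
    intro m hm
    apply mem_normalizer_zpowers
    · exact hconj ⟨m, hm⟩
    · have := hconj ⟨m⁻¹, M.inv_mem hm⟩
      simpa using this
  have hN := normalizer_eq_of_coatom hM hCbot hCtop hMN
  have hcentM : centralizer ({(c₀ : G)} : Set G) ≤ M := by
    intro x hx
    have hgoal : x ∈ normalizer (zpowers (c₀ : G) : Set G) := by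
      rw [mem_centralizer_iff] at hx
      have hx' := hx (c₀ : G) rfl
      apply mem_normalizer_zpowers
      · have : x * c₀ * x⁻¹ = c₀ := by rw [← hx']; group
        rw [this]; exact mem_zpowers _
      · have : x⁻¹ * c₀ * x = c₀ := by rw [mul_assoc, hx']; group
        rw [this]; exact mem_zpowers _
    rw [hN] at hgoal
    exact hgoal
  have hcentM_old : True := by
    trivial
  have hdummy : ∀ x : G, x ∈ centralizer ({(c₀ : G)} : Set G) → True := by
    intro x hx
    trivial
  refine ⟨c₀, c₀.2, hc1, hord, ?_⟩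
  -- the centraliser embeds into the rotations
  have hrot : ∀ x : centralizer ({(c₀ : G)} : Set G),
      ∃ i : ZMod k, e ⟨x.1, hcentM x.2⟩ = DihedralGroup.r i := by
    intro x
    have hx := x.2
    rw [mem_centralizer_iff] at hx
    have hx' := hx (c₀ : G) rfl
    have hcomm : e ⟨x.1, hcentM x.2⟩ * DihedralGroup.r 1 = DihedralGroup.r 1 * e ⟨x.1, hcentM x.2⟩ := by
      rw [← hec, ← map_mul, ← map_mul]
      congr 1
      apply Subtype.ext
      exact hx'.symm
    rcases h : e ⟨x.1, hcentM x.2⟩ with i | i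
    · exact ⟨i, rfl⟩
    · exfalso
      rw [h] at hcomm
      simp only [DihedralGroup.sr_mul_r, DihedralGroup.r_mul_sr] at hcomm
      have h1 : i + 1 = i - 1 := by
        injection hcomm
      have h2 : (2 : ZMod k) = 0 := by linear_combination h1
      have h3 : ((2 : ℕ) : ZMod k) = 0 := by exact_mod_cast h2
      rw [ZMod.natCast_eq_zero_iff] at h3
      have := Nat.le_of_dvd (by norm_num) h3
      omega
  let φ : centralizer ({(c₀ : G)} : Set G) → ZMod k := fun x => dpsi k (e ⟨x.1, hcentM x.2⟩)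
  have hφ : Function.Injective φ := by
    intro x y hxy
    obtain ⟨i, hi⟩ := hrot x
    obtain ⟨j, hj⟩ := hrot y
    have h1 : φ x = i := by
      change dpsi k (e ⟨x.1, hcentM x.2⟩) = i
      rw [hi]; rfl
    have h2 : φ y = j := by
      change dpsi k (e ⟨y.1, hcentM y.2⟩) = j
      rw [hj]; rfl
    rw [h1, h2] at hxy
    rw [hxy, ← hj] at hi
    have := e.injective hi
    apply Subtype.ext
    have h3 := congrArg Subtype.val this
    exact h3
  have := Nat.card_le_card_of_injective φ hφ
  rwa [Nat.card_zmod] at this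

end Cfsg.Agent.helper4.Mx
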