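import Mathlib
import Cfsg.Agent.Lib_helper4_MxN
import Cfsg.Agent.Lib_helper4_MxC
import Cfsg.Agent.Lib_helper4_MxB

set_option autoImplicit false
set_option linter.unusedSectionVars false
set_option maxHeartbeats 1600000
set_option maxRecDepth 100000

/-!
# Dihedral maximal subgroups of `PSL₂(F)` and the extra condition for `A₄`
-/

namespace Cfsg.Agent.helper4.Mx

open Matrix
open scoped LinearAlgebra.Projectivization MatrixGroups
open Cfsg.Agent.helper4.Dk Cfsg.Agent.helper4.Dn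

section general

theorem transfer_rot {G A : Type*} [Group G] [Finite G] [Group A] {X : Subgroup G} (ε : X ≃* A)
    {c t : A} {r : ℕ} (hr : r.Prime) (hr2 : r ≠ 2) (hc : orderOf c = r) (ht : orderOf t = 2)
    (h1 : t * c * t⁻¹ ∈ Subgroup.zpowers c) (h2 : t⁻¹ * c * t ∈ Subgroup.zpowers c) :
    ∃ R : Subgroup G, R ≤ X ∧ Nat.card R = r ∧
      2 * r ≤ Nat.card ((Subgroup.normalizer (R : Set G) ⊓ X : Subgroup G)) := by
  classical
  obtain ⟨c', hc'⟩ : ∃ c' : X, c' = ε.symm c := ⟨_, rfl⟩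
  obtain ⟨t', ht'⟩ : ∃ t' : X, t' = ε.symm t := ⟨_, rfl⟩
  have hoc : orderOf (c' : G) = r := by
    rw [Subgroup.orderOf_coe, hc', ε.symm.orderOf_eq, hc]
  have hot : orderOf (t' : G) = 2 := by
    rw [Subgroup.orderOf_coe, ht', ε.symm.orderOf_eq, ht]
  have hconj1 : (t' : G) * c' * (t' : G)⁻¹ ∈ Subgroup.zpowers (c' : G) := by
    obtain ⟨k, hk⟩ := Subgroup.mem_zpowers_iff.mp h1
    refine Subgroup.mem_zpowers_iff.mpr ⟨k, ?_⟩
    have : c' ^ k = t' * c' * t'⁻¹ := by
      rw [hc', ht', ← map_zpow, hk, map_mul, map_mul, map_inv]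
    exact_mod_cast congrArg Subtype.val this
  have hconj2 : (t' : G)⁻¹ * c' * (t' : G) ∈ Subgroup.zpowers (c' : G) := by
    obtain ⟨k, hk⟩ := Subgroup.mem_zpowers_iff.mp h2
    refine Subgroup.mem_zpowers_iff.mpr ⟨k, ?_⟩
    have : c' ^ k = t'⁻¹ * c' * t' := by
      rw [hc', ht', ← map_zpow, hk, map_mul, map_mul, map_inv]
    exact_mod_cast congrArg Subtype.val this
  refine ⟨Subgroup.zpowers (c' : G), ?_, ?_, ?_⟩
  · rw [Subgroup.zpowers_le]; exact c'.2
  · rw [Nat.card_zpowers, hoc]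
  · obtain ⟨D, hD⟩ : ∃ D, D = Subgroup.closure ({(c' : G), (t' : G)} : Set G) := ⟨_, rfl⟩
    have hDle : D ≤ Subgroup.normalizer ((Subgroup.zpowers (c' : G) : Subgroup G) : Set G) ⊓ X := by
      rw [hD, Subgroup.closure_le]
      rintro g (rfl | rfl)
      · exact ⟨Subgroup.le_normalizer (Subgroup.mem_zpowers _), c'.2⟩
      · exact ⟨mem_normalizer_zpowers hconj1 hconj2, t'.2⟩
    have hcD : (c' : G) ∈ D := by rw [hD]; exact Subgroup.subset_closure (by simp)
    have htD : (t' : G) ∈ D := by rw [hD]; exact Subgroup.subset_closure (by simp)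
    have d1 := order_dvd_of_mem D hcD
    have d2 := order_dvd_of_mem D htD
    rw [hoc] at d1
    rw [hot] at d2
    have hcop : Nat.Coprime 2 r := by
      rw [Nat.coprime_primes Nat.prime_two hr]
      exact fun h => hr2 h.symm
    have d3 : 2 * r ∣ Nat.card D := hcop.mul_dvd_of_dvd_of_dvd d2 d1
    have := Nat.le_of_dvd Nat.card_pos d3
    exact this.trans (Subgroup.card_le_of_le hDle)

theorem transfer_klein {G A : Type*} [Group G] [Finite G] [Group A] {X : Subgroup G} (ε : X ≃* A)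
    {x y w : A} (hx : x * x = 1) (hy : y * y = 1) (hxy : x * y = y * x) (hx1 : x ≠ 1) (hy1 : y ≠ 1)
    (hne : x ≠ y) (hw : orderOf w = 3)
    (hwx : w * x * w⁻¹ = 1 ∨ w * x * w⁻¹ = x ∨ w * x * w⁻¹ = y ∨ w * x * w⁻¹ = x * y)
    (hwy : w * y * w⁻¹ = 1 ∨ w * y * w⁻¹ = x ∨ w * y * w⁻¹ = y ∨ w * y * w⁻¹ = x * y) :
    ∃ R : Subgroup G, R ≤ X ∧ Nat.card R = 4 ∧
      12 ≤ Nat.card ((Subgroup.normalizer (R : Set G) ⊓ X : Subgroup G)) := by
  classical
  obtain ⟨x', hx'⟩ : ∃ x' : X, x' = ε.symm x := ⟨_, rfl⟩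
  obtain ⟨y', hy'⟩ : ∃ y' : X, y' = ε.symm y := ⟨_, rfl⟩
  obtain ⟨w', hw'⟩ : ∃ w' : X, w' = ε.symm w := ⟨_, rfl⟩
  have hxG : (x' : G) * x' = 1 := by
    have : x' * x' = 1 := by rw [hx', ← map_mul, hx, map_one]
    exact_mod_cast congrArg Subtype.val this
  have hyG : (y' : G) * y' = 1 := by
    have : y' * y' = 1 := by rw [hy', ← map_mul, hy, map_one]
    exact_mod_cast congrArg Subtype.val this
  have hxyG : (x' : G) * y' = y' * x' := by
    have : x' * y' = y' * x' := by rw [hx', hy', ← map_mul, hxy, map_mul]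
    exact_mod_cast congrArg Subtype.val this
  have hx1G : (x' : G) ≠ 1 := by
    intro h
    apply hx1
    have : x' = 1 := Subtype.ext h
    rw [hx'] at this
    simpa using this
  have hy1G : (y' : G) ≠ 1 := by
    intro h
    apply hy1
    have : y' = 1 := Subtype.ext h
    rw [hy'] at this
    simpa using this
  have hneG : (x' : G) ≠ y' := by
    intro h
    apply hne
    have : x' = y' := Subtype.ext h
    rw [hx', hy'] at this
    exact ε.symm.injective this
  have how : orderOf (w' : G) = 3 := by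
    rw [Subgroup.orderOf_coe, hw', ε.symm.orderOf_eq, hw]
  have htrans : ∀ z : A, (z = 1 ∨ z = x ∨ z = y ∨ z = x * y) →
      ((ε.symm z : X) : G) ∈ kleinSub (x' : G) (y' : G) hxG hyG hxyG := by
    rintro z (rfl | rfl | rfl | rfl)
    · left; simp
    · right; left; rw [hx']
    · right; right; left; rw [hy']
    · right; right; right
      rw [map_mul, hx', hy']; rfl
  have hc1 : (w' : G) * x' * (w' : G)⁻¹ ∈ kleinSub (x' : G) (y' : G) hxG hyG hxyG := by
    have := htrans _ hwx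
    rw [map_mul, map_mul, map_inv, ← hw', ← hx'] at this
    exact_mod_cast this
  have hc2 : (w' : G) * y' * (w' : G)⁻¹ ∈ kleinSub (x' : G) (y' : G) hxG hyG hxyG := by
    have := htrans _ hwy
    rw [map_mul, map_mul, map_inv, ← hw', ← hy'] at this
    exact_mod_cast this
  refine ⟨kleinSub (x' : G) (y' : G) hxG hyG hxyG, ?_, card_kleinSub hxG hyG hxyG hx1G hy1G hneG, ?_⟩
  · rintro g (rfl | rfl | rfl | rfl)
    · exact X.one_mem
    · exact x'.2
    · exact y'.2
    · exact X.mul_mem x'.2 y'.2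
  · obtain ⟨D, hD⟩ : ∃ D, D = Subgroup.closure ({(x' : G), (y' : G), (w' : G)} : Set G) := ⟨_, rfl⟩
    have hxD : (x' : G) ∈ D := by rw [hD]; exact Subgroup.subset_closure (by simp)
    have hyD : (y' : G) ∈ D := by rw [hD]; exact Subgroup.subset_closure (by simp)
    have hwD : (w' : G) ∈ D := by rw [hD]; exact Subgroup.subset_closure (by simp)
    have hRD : kleinSub (x' : G) (y' : G) hxG hyG hxyG ≤ D := by
      rintro g (rfl | rfl | rfl | rfl)
      · exact D.one_mem
      · exact hxD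
      · exact hyD
      · exact D.mul_mem hxD hyD
    have hDle : D ≤ Subgroup.normalizer
        ((kleinSub (x' : G) (y' : G) hxG hyG hxyG : Subgroup G) : Set G) ⊓ X := by
      rw [hD, Subgroup.closure_le]
      rintro g (rfl | rfl | rfl)
      · exact ⟨Subgroup.le_normalizer (Or.inr (Or.inl rfl)), x'.2⟩
      · exact ⟨Subgroup.le_normalizer (Or.inr (Or.inr (Or.inl rfl))), y'.2⟩
      · exact ⟨klein_normalized hxG hyG hxyG _ hc1 hc2, w'.2⟩
    have d1 : 4 ∣ Nat.card D := by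
      rw [← card_kleinSub hxG hyG hxyG hx1G hy1G hneG]
      exact Subgroup.card_dvd_of_le hRD
    have d2 := order_dvd_of_mem D hwD
    rw [how] at d2
    have d3 : 4 * 3 ∣ Nat.card D := Nat.Coprime.mul_dvd_of_dvd_of_dvd (by norm_num) d1 d2
    have := Nat.le_of_dvd Nat.card_pos d3
    exact le_trans (by omega) (this.trans (Subgroup.card_le_of_le hDle))

/-- a coatom of order eight and odd index cannot coexist with a proper subgroup of order `24` -/
theorem sylow2_small_false {G : Type*} [Group G] [Finite G] [IsSimpleGroup G] {M X : Subgroup G}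
    (hM : IsCoatom M) (hc : Nat.card M = 8) (hi : ¬ 2 ∣ M.index) (hX : X ≠ ⊤)
    (hXc : Nat.card X = 24) : False := by
  classical
  haveI : Fact (Nat.Prime 2) := ⟨Nat.prime_two⟩
  have hMbot : M ≠ ⊥ := by
    rintro rfl
    rw [Subgroup.card_bot] at hc
    omega
  have hN : Subgroup.normalizer (M : Set G) = M :=
    normalizer_eq_of_coatom hM hMbot hM.1 Subgroup.le_normalizer
  have hp : IsPGroup 2 M := IsPGroup.of_card (n := 3) (by rw [hc]; norm_num)
  obtain ⟨K, hK⟩ := Sylow.exists_subgroup_card_pow_prime (G := X) 2 (n := 3)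
    (by rw [hXc]; norm_num)
  obtain ⟨R, hR⟩ : ∃ R : Subgroup G, R = K.map X.subtype := ⟨_, rfl⟩
  have hRX : R ≤ X := by rw [hR]; exact Subgroup.map_subtype_le _
  have hRc : Nat.card R = 8 := by
    rw [hR, Subgroup.card_map_of_injective (Subgroup.subtype_injective X), hK]; norm_num
  apply coatom_sylow_false (r := 2) hM hN hp hi hX (by rw [hc, hXc]; norm_num) hRX
    (by rw [hRc, hc])
  rw [hc, ← hRc]
  exact Subgroup.card_le_of_le (le_inf Subgroup.le_normalizer hRX)

/-- the rotation subgroup of a dihedral coatom cannot be a Sylow subgroup normalised by a large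
subgroup of a proper subgroup -/
theorem rot_small_false {G A : Type*} [Group G] [Finite G] [Group A] {M X : Subgroup G}
    (hM : IsCoatom M) {c : G} (hN : Subgroup.normalizer (Subgroup.zpowers c : Set G) = M)
    {r : ℕ} (hr : r.Prime) (hr2 : r ≠ 2) (hord : orderOf c = r) (hMc : Nat.card M = 2 * r)
    (hi : ¬ r ∣ (Subgroup.zpowers c).index) (hX : X ≠ ⊤) (hMX : 2 * r < Nat.card X)
    (ε : X ≃* A) {c₀ t₀ : A} (hc₀ : orderOf c₀ = r) (ht₀ : orderOf t₀ = 2)
    (h1 : t₀ * c₀ * t₀⁻¹ ∈ Subgroup.zpowers c₀) (h2 : t₀⁻¹ * c₀ * t₀ ∈ Subgroup.zpowers c₀) :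
    False := by
  classical
  haveI : Fact r.Prime := ⟨hr⟩
  obtain ⟨R, hRX, hRc, hbig⟩ := transfer_rot ε hr hr2 hc₀ ht₀ h1 h2
  have hp : IsPGroup r (Subgroup.zpowers c) :=
    IsPGroup.of_card (n := 1) (by rw [Nat.card_zpowers, hord, pow_one])
  apply coatom_sylow_false (r := r) hM hN hp hi hX (by rw [hMc]; exact hMX) hRX
    (by rw [hRc, Nat.card_zpowers, hord])
  rw [hMc]
  exact hbig

end general

/-! ### models -/

def c3S4 : Equiv.Perm (Fin 4) := Equiv.swap 0 1 * Equiv.swap 1 2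
def tS4 : Equiv.Perm (Fin 4) := Equiv.swap 0 1

theorem s4_rot : c3S4 ^ 3 = 1 ∧ c3S4 ≠ 1 ∧ tS4 ^ 2 = 1 ∧ tS4 ≠ 1 ∧
    tS4 * c3S4 * tS4⁻¹ = c3S4⁻¹ ∧ tS4⁻¹ * c3S4 * tS4 = c3S4⁻¹ := by decide

def c5A5 : alternatingGroup (Fin 5) :=
  ⟨Equiv.swap 0 1 * Equiv.swap 1 2 * Equiv.swap 2 3 * Equiv.swap 3 4, by
    rw [Equiv.Perm.mem_alternatingGroup]; decide⟩

theorem a5_rot : c5A5 ^ 5 = 1 ∧ c5A5 ≠ 1 ∧ ∃ t : alternatingGroup (Fin 5), t ^ 2 = 1 ∧ t ≠ 1 ∧
    t * c5A5 * t⁻¹ = c5A5⁻¹ ∧ t⁻¹ * c5A5 * t = c5A5⁻¹ := by decide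

def wA5 : alternatingGroup (Fin 5) :=
  ⟨Equiv.swap 0 1 * Equiv.swap 1 2, by rw [Equiv.Perm.mem_alternatingGroup]; decide⟩

theorem a5_klein_norm : wA5 ^ 3 = 1 ∧ wA5 ≠ 1 ∧
    (wA5 * xA5 * wA5⁻¹ = 1 ∨ wA5 * xA5 * wA5⁻¹ = xA5 ∨ wA5 * xA5 * wA5⁻¹ = yA5 ∨
      wA5 * xA5 * wA5⁻¹ = xA5 * yA5) ∧
    (wA5 * yA5 * wA5⁻¹ = 1 ∨ wA5 * yA5 * wA5⁻¹ = xA5 ∨ wA5 * yA5 * wA5⁻¹ = yA5 ∨
      wA5 * yA5 * wA5⁻¹ = xA5 * yA5) := by decide

theorem dihedral_small_comm : ∀ s : ℕ, s = 1 ∨ s = 2 → ∀ a b : DihedralGroup s, a * b = b * a := by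
  rintro s (rfl | rfl) <;> decide

section dc2
open Subgroup

theorem dihedral_coatom2 {G : Type*} [Group G] [Finite G] [IsSimpleGroup G] {M : Subgroup G}
    (hM : IsCoatom M) {k : ℕ} (hk : 3 ≤ k) (e : M ≃* DihedralGroup k) :
    ∃ c : G, c ∈ M ∧ c ≠ 1 ∧ orderOf c = k ∧ normalizer (zpowers c : Set G) = M ∧
      Nat.card (centralizer ({c} : Set G)) ≤ k := by
  classical
  haveI : NeZero k := ⟨by omega⟩
  obtain ⟨c₀, hc₀⟩ : ∃ c₀ : M, c₀ = e.symm (DihedralGroup.r 1) := ⟨_, rfl⟩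
  have hec : e c₀ = DihedralGroup.r 1 := by rw [hc₀]; simp
  have hord₀ : orderOf c₀ = k := by
    rw [← e.orderOf_eq, hec, DihedralGroup.orderOf_r_one]
  have hord : orderOf (c₀ : G) = k := by rw [Subgroup.orderOf_coe, hord₀]
  have hc1 : (c₀ : G) ≠ 1 := by
    intro h
    rw [h, orderOf_one] at hord
    omega
  have hconj : ∀ m : M, (m : G) * c₀ * (m : G)⁻¹ ∈ zpowers (c₀ : G) := by
    intro m
    have hcases : e (m * c₀ * m⁻¹) = DihedralGroup.r 1 ∨ e (m * c₀ * m⁻¹) = (DihedralGroup.r 1)⁻¹ := by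
      rw [map_mul, map_mul, map_inv, hec]
      rcases e m with i | i
      · left
        simp
      · right
        simp
    rcases hcases with h | h
    · have : m * c₀ * m⁻¹ = c₀ := e.injective (by rw [h, hec])
      have h' : (m : G) * c₀ * (m : G)⁻¹ = c₀ := by
        have := congrArg Subtype.val this
        simpa using this
      rw [h']
      exact mem_zpowers _
    · have : m * c₀ * m⁻¹ = c₀⁻¹ := e.injective (by rw [h, map_inv, hec])
      have h' : (m : G) * c₀ * (m : G)⁻¹ = (c₀ : G)⁻¹ := by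
        have := congrArg Subtype.val this
        simpa using this
      rw [h']
      exact (zpowers _).inv_mem (mem_zpowers _)
  have hCbot : zpowers (c₀ : G) ≠ ⊥ := by
    intro h
    exact hc1 (zpowers_eq_bot.mp h)
  have hCM : zpowers (c₀ : G) ≤ M := by
    rw [zpowers_le]
    exact c₀.2
  have hCtop : zpowers (c₀ : G) ≠ ⊤ := fun h => hM.1 (top_le_iff.mp (h ▸ hCM))
  have hMN : M ≤ normalizer (zpowers (c₀ : G) : Set G) := by
    intro m hm
    apply mem_normalizer_zpowers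
    · exact hconj ⟨m, hm⟩
    · have := hconj ⟨m⁻¹, M.inv_mem hm⟩
      simpa using this
  have hN := normalizer_eq_of_coatom hM hCbot hCtop hMN
  have hcentM : centralizer ({(c₀ : G)} : Set G) ≤ M := by
    intro x hx
    have hgoal : x ∈ normalizer (zpowers (c₀ : G) : Set G) := by
      rw [mem_centralizer_iff] at hx
      have hx' := hx (c₀ : G) rfl
      apply mem_normalizer_zpowers
      · have : x * c₀ * x⁻¹ = c₀ := by rw [← hx']; group
        rw [this]; exact mem_zpowers _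
      · have : x⁻¹ * c₀ * x = c₀ := by rw [mul_assoc, hx']; group
        rw [this]; exact mem_zpowers _
    rw [hN] at hgoal
    exact hgoal
  have hcentM_old : True := by
    trivial
  have hdummy : ∀ x : G, x ∈ centralizer ({(c₀ : G)} : Set G) → True := by
    intro x hx
    trivial
  refine ⟨c₀, c₀.2, hc1, hord, hN, ?_⟩
  -- the centraliser embeds into the rotations
  have hrot : ∀ x : centralizer ({(c₀ : G)} : Set G),
      ∃ i : ZMod k, e ⟨x.1, hcentM x.2⟩ = DihedralGroup.r i := by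
    intro x
    have hx := x.2
    rw [mem_centralizer_iff] at hx
    have hx' := hx (c₀ : G) rfl
    have hcomm : e ⟨x.1, hcentM x.2⟩ * DihedralGroup.r 1 = DihedralGroup.r 1 * e ⟨x.1, hcentM x.2⟩ := by
      rw [← hec, ← map_mul, ← map_mul]
      congr 1
      apply Subtype.ext
      exact hx'.symm
    rcases h : e ⟨x.1, hcentM x.2⟩ with i | i
    · exact ⟨i, rfl⟩
    · exfalso
      rw [h] at hcomm
      simp only [DihedralGroup.sr_mul_r, DihedralGroup.r_mul_sr] at hcomm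
      have h1 : i + 1 = i - 1 := by
        injection hcomm
      have h2 : (2 : ZMod k) = 0 := by linear_combination h1
      have h3 : ((2 : ℕ) : ZMod k) = 0 := by exact_mod_cast h2
      rw [ZMod.natCast_eq_zero_iff] at h3
      have := Nat.le_of_dvd (by norm_num) h3
      omega
  let φ : centralizer ({(c₀ : G)} : Set G) → ZMod k := fun x => dpsi k (e ⟨x.1, hcentM x.2⟩)
  have hφ : Function.Injective φ := by
    intro x y hxy
    obtain ⟨i, hi⟩ := hrot x
    obtain ⟨j, hj⟩ := hrot y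
    have h1 : φ x = i := by
      change dpsi k (e ⟨x.1, hcentM x.2⟩) = i
      rw [hi]; rfl
    have h2 : φ y = j := by
      change dpsi k (e ⟨y.1, hcentM y.2⟩) = j
      rw [hj]; rfl
    rw [h1, h2] at hxy
    rw [hxy, ← hj] at hi
    have := e.injective hi
    apply Subtype.ext
    have h3 := congrArg Subtype.val this
    exact h3
  have := Nat.card_le_card_of_injective φ hφ
  rwa [Nat.card_zmod] at this


end dc2

end Cfsg.Agent.helper4.Mx
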