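import Mathlib
import Cfsg.Agent.Lib_helper4_MxO

set_option autoImplicit false
set_option linter.unusedSectionVars false
set_option maxHeartbeats 1600000
set_option maxRecDepth 100000

/-!
# Dihedral maximal subgroups of `PSL₂(F)`, continued
-/

namespace Cfsg.Agent.helper4.Mx

open Matrix
open scoped LinearAlgebra.Projectivization MatrixGroups
open Cfsg.Agent.helper4.Dk Cfsg.Agent.helper4.Dn

variable {F : Type*} [Field F] [Fintype F]

local notation "G" => Matrix.ProjectiveSpecialLinearGroup (Fin 2) F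

theorem psl_noncomm (h2 : (2 : F) ≠ 0) : ∃ x y : G, x * y ≠ y * x := by
  refine ⟨piF F (uS 1), piF F (lS 1), ?_⟩
  intro h
  rw [← map_mul, ← map_mul, piF_eq_iff] at h
  rcases h with h | h
  · have := congrArg (fun g : SpecialLinearGroup (Fin 2) F => g 0 0) h
    simp only [mul_00, uS_00, uS_01, lS_00, lS_10, lS_01] at this
    have h1 : (1 : F) = 0 := by linear_combination this
    exact one_ne_zero h1
  · have h01 : (uS (1 : F) * lS 1 : SpecialLinearGroup (Fin 2) F) 0 1 =
        (-(lS (1 : F) * uS 1) : SpecialLinearGroup (Fin 2) F) 0 1 := by rw [h]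
    have hneg : ∀ g : SpecialLinearGroup (Fin 2) F, (-g) 0 1 = -(g 0 1) := fun g => by
      simp [Matrix.SpecialLinearGroup.coe_neg]
    rw [hneg, mul_01, mul_01] at h01
    simp only [uS_00, uS_01, lS_00, lS_01, lS_11, uS_11] at h01
    apply h2
    linear_combination h01

/-- dihedral maximal subgroups -/
theorem dihedral_case (h2 : (2 : F) ≠ 0) (h5 : 5 ≤ Fintype.card F) (hsimp : IsSimpleGroup G)
    {M : Subgroup G} (hM : IsCoatom M) {s : ℕ} (e : M ≃* DihedralGroup s)
    (hs : 2 * s ∣ Fintype.card F - 1 ∨ 2 * s ∣ Fintype.card F + 1) :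
    (13 ≤ Fintype.card F ∧ 2 * s = Fintype.card F - 1) ∨
      (Fintype.card F ≠ 7 ∧ Fintype.card F ≠ 9 ∧ 2 * s = Fintype.card F + 1) := by
  classical
  haveI := hsimp
  have hcardM : Nat.card M = 2 * s := by
    rw [Nat.card_congr e.toEquiv, DihedralGroup.nat_card]
  have hs0 : s ≠ 0 := by
    rintro rfl
    have : 0 < Nat.card M := Nat.card_pos
    omega
  have hG := two_mul_card_PSL (F := F) h2
  by_cases hs3 : s < 3
  · exfalso
    have hs12 : s = 1 ∨ s = 2 := by omega
    apply no_abelian_coatom (psl_noncomm h2) hM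
    intro a ha b hb
    have h1 := dihedral_small_comm s hs12 (e ⟨a, ha⟩) (e ⟨b, hb⟩)
    rw [← map_mul, ← map_mul] at h1
    have := e.injective h1
    exact congrArg Subtype.val this
  push Not at hs3
  obtain ⟨c, hcM, hc1, hord, hN, hcent⟩ := dihedral_coatom2 hM hs3 e
  obtain ⟨c', rfl⟩ := piF_surj' (L := F) c
  have hc'1 : c' ≠ 1 := by
    rintro rfl
    exact hc1 (map_one _)
  have hc'2 : c' ≠ -1 := by
    rintro rfl
    exact hc1 (piF_neg_one' (L := F))
  have hge := card_centralizer_psl_ge h2 c' hc'1 hc'2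
  have hqs : Fintype.card F - 1 ≤ 2 * s := by omega
  -- the order of `M` is `q - 1` or `q + 1`
  have hcases : 2 * s = Fintype.card F - 1 ∨ 2 * s = Fintype.card F + 1 := by
    rcases hs with hs | hs
    · left
      have := Nat.le_of_dvd (by omega) hs
      omega
    · right
      obtain ⟨j, hj⟩ := hs
      rcases Nat.lt_or_ge j 2 with hj2 | hj2
      · interval_cases j
        · omega
        · omega
      · exfalso
        have : 2 * s * 2 ≤ 2 * s * j := Nat.mul_le_mul_left _ hj2
        omega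
  have hXne : ∀ X : Subgroup G, Nat.card X < Nat.card G → X ≠ ⊤ := by
    rintro X hX rfl
    rw [Subgroup.card_top] at hX
    omega
  have hidx : (Subgroup.zpowers (piF F c')).index * s = Nat.card G := by
    rw [← hord, ← Nat.card_zpowers, Subgroup.index_mul_card]
  have hMidx : M.index * (2 * s) = Nat.card G := by
    rw [← hcardM, Subgroup.index_mul_card]
  rcases hcases with hc | hc
  · left
    refine ⟨?_, hc⟩
    by_contra hlt
    push Not at hlt
    -- `q ∈ {7, 9, 11}`
    have hq : Fintype.card F = 7 ∨ Fintype.card F = 9 ∨ Fintype.card F = 11 := by omega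
    rcases hq with hq | hq | hq
    · -- `q = 7`, `s = 3`
      have hs' : s = 3 := by omega
      rw [hq] at hG
      have hGc : Nat.card G = 168 := by omega
      obtain ⟨X, ⟨ε⟩⟩ := (Cfsg.Agent.S0803.result (F := F) hq).mpr (by norm_num)
      have hXc : Nat.card X = 24 := by rw [Nat.card_congr ε.toEquiv, s4_card]
      obtain ⟨r1, r2, r3, r4, r5, r6⟩ := s4_rot
      haveI : Fact (Nat.Prime 3) := ⟨Nat.prime_three⟩
      haveI : Fact (Nat.Prime 2) := ⟨Nat.prime_two⟩
      apply rot_small_false hM hN Nat.prime_three (by norm_num) (by rw [hord, hs'])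
        (by rw [hcardM, hs']) ?_ (hXne X (by rw [hXc, hGc]; norm_num)) (by rw [hXc]; norm_num) ε
        (orderOf_eq_prime r1 r2) (orderOf_eq_prime r3 r4)
        (by rw [r5]; exact Subgroup.inv_mem _ (Subgroup.mem_zpowers _))
        (by rw [r6]; exact Subgroup.inv_mem _ (Subgroup.mem_zpowers _))
      rw [hs', hGc] at hidx
      have : (Subgroup.zpowers (piF F c')).index = 56 := by omega
      rw [this]; norm_num
    · -- `q = 9`, `s = 4`
      have hs' : s = 4 := by omega
      rw [hq] at hG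
      have hGc : Nat.card G = 360 := by omega
      obtain ⟨X, ⟨ε⟩⟩ := (Cfsg.Agent.S0803.result (F := F) hq).mpr (by norm_num)
      have hXc : Nat.card X = 24 := by rw [Nat.card_congr ε.toEquiv, s4_card]
      apply sylow2_small_false hM (by rw [hcardM, hs']) ?_ (hXne X (by rw [hXc, hGc]; norm_num)) hXc
      rw [hs', hGc] at hMidx
      have : M.index = 45 := by omega
      rw [this]; norm_num
    · -- `q = 11`, `s = 5`
      have hs' : s = 5 := by omega
      rw [hq] at hG
      have hGc : Nat.card G = 660 := by omega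
      obtain ⟨X, ⟨ε⟩⟩ := (Cfsg.Agent.S0804.result (F := F) hq).mpr (by norm_num)
      have hXc : Nat.card X = 60 := by rw [Nat.card_congr ε.toEquiv, a5_card]
      obtain ⟨r1, r2, t, r3, r4, r5, r6⟩ := a5_rot
      haveI : Fact (Nat.Prime 5) := ⟨by norm_num⟩
      haveI : Fact (Nat.Prime 2) := ⟨Nat.prime_two⟩
      apply rot_small_false hM hN (by norm_num : Nat.Prime 5) (by norm_num) (by rw [hord, hs'])
        (by rw [hcardM, hs']) ?_ (hXne X (by rw [hXc, hGc]; norm_num)) (by rw [hXc]; norm_num) ε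
        (orderOf_eq_prime r1 r2) (orderOf_eq_prime r3 r4)
        (by rw [r5]; exact Subgroup.inv_mem _ (Subgroup.mem_zpowers _))
        (by rw [r6]; exact Subgroup.inv_mem _ (Subgroup.mem_zpowers _))
      rw [hs', hGc] at hidx
      have : (Subgroup.zpowers (piF F c')).index = 132 := by omega
      rw [this]; norm_num
  · right
    refine ⟨?_, ?_, hc⟩
    · intro hq
      -- `q = 7`, `s = 4`
      have hs' : s = 4 := by omega
      rw [hq] at hG
      have hGc : Nat.card G = 168 := by omega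
      obtain ⟨X, ⟨ε⟩⟩ := (Cfsg.Agent.S0803.result (F := F) hq).mpr (by norm_num)
      have hXc : Nat.card X = 24 := by rw [Nat.card_congr ε.toEquiv, s4_card]
      apply sylow2_small_false hM (by rw [hcardM, hs']) ?_ (hXne X (by rw [hXc, hGc]; norm_num)) hXc
      rw [hs', hGc] at hMidx
      have : M.index = 21 := by omega
      rw [this]; norm_num
    · intro hq
      -- `q = 9`, `s = 5`
      have hs' : s = 5 := by omega
      rw [hq] at hG
      have hGc : Nat.card G = 360 := by omega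
      obtain ⟨X, ⟨ε⟩⟩ := (Cfsg.Agent.S0804.result (F := F) hq).mpr (by norm_num)
      have hXc : Nat.card X = 60 := by rw [Nat.card_congr ε.toEquiv, a5_card]
      obtain ⟨r1, r2, t, r3, r4, r5, r6⟩ := a5_rot
      haveI : Fact (Nat.Prime 5) := ⟨by norm_num⟩
      haveI : Fact (Nat.Prime 2) := ⟨Nat.prime_two⟩
      apply rot_small_false hM hN (by norm_num : Nat.Prime 5) (by norm_num) (by rw [hord, hs'])
        (by rw [hcardM, hs']) ?_ (hXne X (by rw [hXc, hGc]; norm_num)) (by rw [hXc]; norm_num) ε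
        (orderOf_eq_prime r1 r2) (orderOf_eq_prime r3 r4)
        (by rw [r5]; exact Subgroup.inv_mem _ (Subgroup.mem_zpowers _))
        (by rw [r6]; exact Subgroup.inv_mem _ (Subgroup.mem_zpowers _))
      rw [hs', hGc] at hidx
      have : (Subgroup.zpowers (piF F c')).index = 72 := by omega
      rw [this]; norm_num

/-- the extra condition for maximal `A₄` -/
theorem a4_extra (p : ℕ) [Fact p.Prime] [CharP F p] (h2 : (2 : F) ≠ 0) (hsimp : IsSimpleGroup G)
    {M : Subgroup G} (hM : IsCoatom M) (e : M ≃* alternatingGroup (Fin 4))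
    (hq : Fintype.card F = p) (h8 : p % 8 = 3 ∨ p % 8 = 5) (h10 : p % 10 = 1 ∨ p % 10 = 9) :
    False := by
  classical
  haveI := hsimp
  haveI : Fact (Nat.Prime 2) := ⟨Nat.prime_two⟩
  obtain ⟨r1, r2, r3, r4, r5, r6⟩ := a4_rel
  obtain ⟨x₀, hx₀⟩ : ∃ x₀ : M, x₀ = e.symm xA4 := ⟨_, rfl⟩
  obtain ⟨y₀, hy₀⟩ : ∃ y₀ : M, y₀ = e.symm yA4 := ⟨_, rfl⟩
  have hx : (x₀ : G) * x₀ = 1 := by
    have : x₀ * x₀ = 1 := by rw [hx₀, ← map_mul, r1, map_one]
    exact_mod_cast congrArg Subtype.val this
  have hy : (y₀ : G) * y₀ = 1 := by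
    have : y₀ * y₀ = 1 := by rw [hy₀, ← map_mul, r2, map_one]
    exact_mod_cast congrArg Subtype.val this
  have hxy : (x₀ : G) * y₀ = y₀ * x₀ := by
    have : x₀ * y₀ = y₀ * x₀ := by rw [hx₀, hy₀, ← map_mul, r3, map_mul]
    exact_mod_cast congrArg Subtype.val this
  have hx1 : (x₀ : G) ≠ 1 := by
    intro h
    apply r4
    have : x₀ = 1 := Subtype.ext h
    rw [hx₀] at this
    simpa using this
  have hy1 : (y₀ : G) ≠ 1 := by
    intro h
    apply r5
    have : y₀ = 1 := Subtype.ext h
    rw [hy₀] at this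
    simpa using this
  have hne : (x₀ : G) ≠ y₀ := by
    intro h
    apply r6
    have : x₀ = y₀ := Subtype.ext h
    rw [hx₀, hy₀] at this
    exact e.symm.injective this
  have hMcard : Nat.card M = 12 := by
    rw [Nat.card_congr e.toEquiv, a4_card]
  obtain ⟨V, hV⟩ : ∃ V, V = kleinSub (x₀ : G) (y₀ : G) hx hy hxy := ⟨_, rfl⟩
  have hVcard : Nat.card V = 4 := by rw [hV]; exact card_kleinSub hx hy hxy hx1 hy1 hne
  have hVM : V ≤ M := by
    rw [hV]
    rintro g (rfl | rfl | rfl | rfl)
    · exact M.one_mem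
    · exact x₀.2
    · exact y₀.2
    · exact M.mul_mem x₀.2 y₀.2
  have htrans : ∀ z : alternatingGroup (Fin 4), (z = xA4 ∨ z = yA4 ∨ z = xA4 * yA4) →
      ((e.symm z : M) : G) ∈ kleinSub (x₀ : G) (y₀ : G) hx hy hxy := by
    rintro z (rfl | rfl | rfl)
    · right; left; rw [hx₀]
    · right; right; left; rw [hy₀]
    · right; right; right
      rw [map_mul, hx₀, hy₀]; rfl
  have hMN : M ≤ Subgroup.normalizer (V : Set G) := by
    intro m hm
    rw [hV]
    obtain ⟨n1, n2⟩ := a4_normal (e ⟨m, hm⟩)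
    apply klein_normalized hx hy hxy
    · have := htrans _ n1
      rw [map_mul, map_mul, map_inv, e.symm_apply_apply, ← hx₀] at this
      exact_mod_cast this
    · have := htrans _ n2
      rw [map_mul, map_mul, map_inv, e.symm_apply_apply, ← hy₀] at this
      exact_mod_cast this
  have hVbot : V ≠ ⊥ := by
    rintro h
    rw [h, Subgroup.card_bot] at hVcard
    omega
  have hVtop : V ≠ ⊤ := fun h => hM.1 (top_le_iff.mp (h ▸ hVM))
  have hN := normalizer_eq_of_coatom hM hVbot hVtop hMN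
  have hp : IsPGroup 2 V := IsPGroup.of_card (n := 2) (by rw [hVcard]; norm_num)
  -- numerics
  have hpp := (Fact.out : p.Prime)
  have hG := two_mul_card_PSL (F := F) h2
  rw [hq] at hG
  have hp9 : 9 ≤ p := by
    have := hpp.two_le
    omega
  have hp1 : 1 ≤ p ^ 2 := Nat.one_le_pow _ _ (by omega)
  have hp16 : p ^ 2 % 16 = 9 := by
    rw [Nat.pow_mod]
    have : p % 16 = 3 ∨ p % 16 = 5 ∨ p % 16 = 11 ∨ p % 16 = 13 := by omega
    rcases this with h | h | h | h <;> rw [h]
  have hmod16 : p * (p ^ 2 - 1) % 16 = 8 := by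
    have h1 : (p ^ 2 - 1) % 16 = 8 := by omega
    rw [Nat.mul_mod, h1]
    have : p % 16 = 3 ∨ p % 16 = 5 ∨ p % 16 = 11 ∨ p % 16 = 13 := by omega
    rcases this with h | h | h | h <;> rw [h]
  have hidx : V.index * 4 = Nat.card G := by
    rw [← hVcard, Subgroup.index_mul_card]
  have hi : ¬ 2 ∣ V.index := by
    rintro ⟨j, hj⟩
    rw [hj] at hidx
    omega
  have h5 : 5 ∣ p * (p ^ 2 - 1) := by
    apply dvd_mul_of_dvd_right
    apply Nat.dvd_of_mod_eq_zero
    have : p ^ 2 % 5 = 1 := by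
      rw [Nat.pow_mod]
      have : p % 5 = 1 ∨ p % 5 = 4 := by omega
      rcases this with h | h <;> rw [h]
    omega
  obtain ⟨X, ⟨ε⟩⟩ := (Cfsg.Agent.S0804.result (F := F) hq).mpr h5
  have hXc : Nat.card X = 60 := by rw [Nat.card_congr ε.toEquiv, a5_card]
  have hbig : 720 ≤ p * (p ^ 2 - 1) := by
    have : 80 ≤ p ^ 2 - 1 := by
      have : 81 ≤ p ^ 2 := by nlinarith
      omega
    calc 720 = 9 * 80 := by norm_num
      _ ≤ p * (p ^ 2 - 1) := Nat.mul_le_mul hp9 this
  have hX : X ≠ ⊤ := by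
    rintro rfl
    rw [Subgroup.card_top] at hXc
    omega
  obtain ⟨s1, s2, s3, s4, s5, s6⟩ := a5_rel
  obtain ⟨w1, w2, w3, w4⟩ := a5_klein_norm
  haveI : Fact (Nat.Prime 3) := ⟨Nat.prime_three⟩
  obtain ⟨R, hRX, hRc, hRbig⟩ := transfer_klein ε s1 s2 s3 s4 s5 s6 (orderOf_eq_prime w1 w2) w3 w4
  apply coatom_sylow_false (r := 2) hM hN hp hi hX (by rw [hMcard, hXc]; norm_num) hRX
    (by rw [hRc, hVcard])
  rw [hMcard]
  exact hRbig

end Cfsg.Agent.helper4.Mx
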