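import Mathlib
import Cfsg.Agent.Lib_helper4_MxP

set_option autoImplicit false
set_option linter.unusedSectionVars false
set_option maxHeartbeats 1600000

/-!
# The Borel case and elements of order `p`
-/

namespace Cfsg.Agent.helper4.Mx

open Matrix
open scoped LinearAlgebra.Projectivization MatrixGroups
open Cfsg.Agent.helper4.Dk Cfsg.Agent.helper4.Dn

variable {F : Type*} [Field F] [Fintype F]

local notation "G" => Matrix.ProjectiveSpecialLinearGroup (Fin 2) F

theorem borel_max (h2 : (2 : F) ≠ 0) {M : Subgroup G} (hM : IsCoatom M)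
    (s : SpecialLinearGroup (Fin 2) F)
    (h : ∀ b, b ∈ cj s (M.comap (piF F)) → b 1 0 = 0) :
    2 * Nat.card M = Fintype.card F * (Fintype.card F - 1) := by
  classical
  obtain ⟨Bt, hBt⟩ : ∃ Bt, Bt = cj s⁻¹ (GB (⊤ : Subgroup (SpecialLinearGroup (Fin 2) F))) :=
    ⟨_, rfl⟩
  have hBtcard : Nat.card Bt = (Fintype.card F - 1) * Fintype.card F := by
    rw [hBt, card_cj, card_GB_top]
  have hle : M.comap (piF F) ≤ Bt := by
    intro g hg
    rw [hBt, mem_cj, mem_GB]
    refine ⟨Subgroup.mem_top _, ?_⟩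
    apply h
    rw [mem_cj]
    have e : s * (s⁻¹ * g * s⁻¹⁻¹) * s⁻¹ = g := by group
    rw [e]
    exact hg
  have hker : (piF F).ker ≤ Bt := by
    intro g hg
    rw [MonoidHom.mem_ker] at hg
    rcases (piF_eq_one_iff' g).mp hg with rfl | rfl
    · exact Bt.one_mem
    · rw [hBt]
      apply neg_one_mem_cj
      rw [mem_GB]
      refine ⟨Subgroup.mem_top _, ?_⟩
      simp [Matrix.SpecialLinearGroup.coe_neg]
  have hMB : M ≤ Bt.map (piF F) := by
    intro m hm
    obtain ⟨g, rfl⟩ := piF_surj' (L := F) m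
    exact Subgroup.mem_map_of_mem _ (hle hm)
  have hq2 : 2 ≤ Fintype.card F := Fintype.one_lt_card
  have hBtop : Bt.map (piF F) ≠ ⊤ := by
    intro htop
    have h1 : (Bt.map (piF F)).comap (piF F) = ⊤ := by rw [htop, Subgroup.comap_top]
    rw [Subgroup.comap_map_eq, sup_eq_left.mpr hker] at h1
    rw [h1, Subgroup.card_top, Cfsg.Agent.helper12.card_SL2] at hBtcard
    have h3 : Fintype.card F ^ 2 - 1 = (Fintype.card F - 1) * (Fintype.card F + 1) := by
      have : 1 ≤ Fintype.card F := by omega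
      zify [this, Nat.one_le_pow 2 _ this]
      ring
    rw [h3] at hBtcard
    have h4 : Fintype.card F * ((Fintype.card F - 1) * (Fintype.card F + 1)) =
        ((Fintype.card F - 1) * Fintype.card F) * (Fintype.card F + 1) := by ring
    rw [h4] at hBtcard
    have hpos : 0 < (Fintype.card F - 1) * Fintype.card F := by
      apply Nat.mul_pos <;> omega
    have : Fintype.card F + 1 = 1 := by
      apply Nat.eq_of_mul_eq_mul_left hpos
      rw [hBtcard, mul_one]
    omega
  have hMeq : M = Bt.map (piF F) := by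
    by_contra hne
    exact hBtop (hM.2 _ (lt_of_le_of_ne hMB hne))
  have hcomap : M.comap (piF F) = Bt := by
    rw [hMeq, Subgroup.comap_map_eq, sup_eq_left.mpr hker]
  have hc := card_comap_piF_gen (L := F) M
  rw [hcomap, hBtcard] at hc
  rcases zc_cases F with ⟨hz, _⟩ | ⟨_, hz⟩
  · rw [hz] at hc
    rw [← hc]; ring
  · exact absurd hz h2

/-- a finite subgroup without parabolic elements has no elements of order `p` -/
theorem order_p_parabolic {K : Type*} [Field K] [IsAlgClosed K] (p : ℕ) [Fact p.Prime] [CharP K p]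
    (h2 : (2 : K) ≠ 0) (H : Subgroup (SpecialLinearGroup (Fin 2) K)) [Finite H]
    (hpar : ∀ y, N2 H y = 0) {g : SpecialLinearGroup (Fin 2) K} (hgH : g ∈ H) (hg : g ^ p = 1) :
    g = 1 := by
  by_contra hg1
  have hpodd : Odd p := by
    apply (Fact.out : p.Prime).odd_of_ne_two
    rintro rfl
    apply h2
    have := CharP.cast_eq_zero K 2
    exact_mod_cast this
  have hgm1 : g ≠ -1 := by
    rintro rfl
    rw [Odd.neg_one_pow hpodd] at hg
    exact neg_one_ne_one h2 hg
  obtain ⟨y, hy⟩ := exists_fixed' g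
  obtain ⟨s, hs⟩ := exists_smul_pInf y
  obtain ⟨g', hg'⟩ : ∃ g', g' = s⁻¹ * g * s := ⟨_, rfl⟩
  have h10 : g' 1 0 = 0 := by
    apply (fixed_pInf_iff g').mp
    rw [hg', mul_smul, mul_smul, hs, hy, ← hs, inv_smul_smul]
  have hpow : g' ^ p = 1 := by
    have : g' = s⁻¹ * g * s⁻¹⁻¹ := by rw [hg', inv_inv]
    rw [this, conj_pow, hg]
    group
  have h00 : (g' 0 0) ^ p = 1 := by
    rw [← (tri_pow g' h10 p).2, hpow, one_00]
  have h00' : g' 0 0 = 1 := by
    have : (g' 0 0 - 1) ^ p = 0 := by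
      rw [sub_pow_char, h00, one_pow, sub_self]
    exact sub_eq_zero.mp (pow_eq_zero_iff (Fact.out : p.Prime).ne_zero |>.mp this)
  have h11 : g' 1 1 = 1 := by
    have := diag_mul_of_tri g' h10
    rw [h00', one_mul] at this
    exact this
  have htr : tr g = 2 := by
    have h1 : tr g' = tr g := by
      have : g' = s⁻¹ * g * s⁻¹⁻¹ := by rw [hg', inv_inv]
      rw [this, tr_conj]
    rw [← h1]
    unfold tr
    rw [h00', h11]; norm_num
  have hfin : {g : SpecialLinearGroup (Fin 2) K | g ∈ H ∧ g ≠ 1 ∧ g ≠ -1 ∧ tr g ^ 2 = 4 ∧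
      g • y = y}.Finite := by
    apply Set.Finite.subset (Set.toFinite (H : Set (SpecialLinearGroup (Fin 2) K)))
    intro x hx
    exact hx.1
  have h0 := hpar y
  unfold N2 at h0
  rw [Set.ncard_eq_zero hfin] at h0
  have hmem : g ∈ {g : SpecialLinearGroup (Fin 2) K | g ∈ H ∧ g ≠ 1 ∧ g ≠ -1 ∧ tr g ^ 2 = 4 ∧
      g • y = y} := ⟨hgH, hg1, hgm1, by rw [htr]; norm_num, hy⟩
  rw [h0] at hmem
  exact hmem

end Cfsg.Agent.helper4.Mx
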