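import Mathlib
import Cfsg.Agent.Lib_helper4_MxQ
import Cfsg.Agent.Lib_helper4_MxL
import Cfsg.Agent.Lib_helper4_DnAO

set_option autoImplicit false
set_option linter.unusedSectionVars false
set_option maxHeartbeats 1600000

/-!
# Small auxiliary facts for the list of maximal subgroups of `PSL₂(q)`
-/

namespace Cfsg.Agent.helper4.Mx

open Matrix
open scoped LinearAlgebra.Projectivization MatrixGroups
open Cfsg.Agent.helper4.Dk Cfsg.Agent.helper4.Dn

theorem two_ne_zero_of_odd_card {Kf : Type*} [Field Kf] [Fintype Kf]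
    (h : Odd (Fintype.card Kf)) : (2 : Kf) ≠ 0 := by
  intro h0
  have h1 : ((2 : ℕ) : Kf) = 0 := by exact_mod_cast h0
  have h2 : ringChar Kf = 2 := CharP.ringChar_of_prime_eq_zero Nat.prime_two h1
  have h3 := FiniteField.even_card_of_char_two h2
  rw [Nat.odd_iff] at h
  omega

variable {F : Type*} [Field F] [Fintype F]

local notation "G" => Matrix.ProjectiveSpecialLinearGroup (Fin 2) F

theorem piF_neg (g : SpecialLinearGroup (Fin 2) F) : piF F (-g) = piF F g := by
  rw [piF_eq_iff]
  right; rfl

/-- a quaternion pair gives a Klein four group -/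
theorem klein_of_quat (h2 : (2 : F) ≠ 0) {x y : SpecialLinearGroup (Fin 2) F}
    (hx : x * x = -1) (hy : y * y = -1) (hxy : x * y = -(y * x)) :
    piF F x * piF F x = 1 ∧ piF F y * piF F y = 1 ∧ piF F x * piF F y = piF F y * piF F x ∧
      piF F x ≠ 1 ∧ piF F y ≠ 1 ∧ piF F x ≠ piF F y := by
  have hne := neg_one_ne_one (K := F) h2
  refine ⟨?_, ?_, ?_, ?_, ?_, ?_⟩
  · rw [← map_mul, hx, piF_neg_one']
  · rw [← map_mul, hy, piF_neg_one']
  · rw [← map_mul, hxy, piF_neg, map_mul]
  · intro h
    rcases (piF_eq_one_iff' x).mp h with rfl | rfl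
    · rw [one_mul] at hx
      exact hne hx.symm
    · rw [neg_mul_neg, one_mul] at hx
      exact hne hx.symm
  · intro h
    rcases (piF_eq_one_iff' y).mp h with rfl | rfl
    · rw [one_mul] at hy
      exact hne hy.symm
    · rw [neg_mul_neg, one_mul] at hy
      exact hne hy.symm
  · intro h
    rcases (piF_eq_iff x y).mp h with rfl | rfl
    · rw [hx] at hxy
      have : (-1 : SpecialLinearGroup (Fin 2) F) = 1 := by
        rw [hxy, neg_neg]
      exact hne this
    · rw [neg_mul, mul_neg, hy, neg_neg] at hxy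
      exact hne hxy.symm

/-- in the absence of parabolic elements, `p` does not divide the order -/
theorem p_not_dvd_card_of_nonpar {K : Type*} [Field K] [Algebra F K] [IsAlgClosed K] (p : ℕ)
    [Fact p.Prime] [CharP K p] (h2 : (2 : F) ≠ 0) (M : Subgroup G)
    (hpar : ∀ y, N2 ((M.comap (piF F)).map (iota F K)) y = 0) : ¬ p ∣ Nat.card M := by
  classical
  intro hdvd
  have h2K : (2 : K) ≠ 0 := by
    intro h
    apply h2
    apply (algebraMap F K).injective
    rw [map_ofNat, h, map_zero]
  have hpodd : Odd p := by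
    apply (Fact.out : p.Prime).odd_of_ne_two
    rintro rfl
    apply h2K
    have := CharP.cast_eq_zero K 2
    exact_mod_cast this
  obtain ⟨m, hm⟩ := exists_prime_orderOf_dvd_card' p hdvd
  obtain ⟨g, hg⟩ := piF_surj' (L := F) (m : G)
  have hgM : g ∈ M.comap (piF F) := by
    rw [Subgroup.mem_comap, hg]; exact m.2
  have hmp : (m : G) ^ p = 1 := by
    have : m ^ p = 1 := by rw [← hm, pow_orderOf_eq_one]
    exact_mod_cast congrArg Subtype.val this
  have hgp : g ^ p = 1 ∨ g ^ p = -1 := by
    apply (piF_eq_one_iff' _).mp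
    rw [map_pow, hg, hmp]
  haveI : Finite ((M.comap (piF F)).map (iota F K)) := inferInstance
  have hkey : ∀ g' : SpecialLinearGroup (Fin 2) F, g' ∈ M.comap (piF F) → g' ^ p = 1 → g' = 1 := by
    intro g' hg' hp1
    apply iota_injective (K := K)
    rw [map_one]
    apply order_p_parabolic p h2K _ hpar (Subgroup.mem_map_of_mem _ hg')
    rw [← map_pow, hp1, map_one]
  have hm1 : (m : G) = 1 := by
    rcases hgp with h | h
    · have := hkey g hgM h
      rw [← hg, this, map_one]
    · have hneg : -g ∈ M.comap (piF F) := by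
        rw [Subgroup.mem_comap, piF_neg, hg]; exact m.2
      have hp1 : (-g) ^ p = 1 := by
        rw [neg_pow, h, Odd.neg_one_pow hpodd, neg_mul_neg, one_mul]
      have := hkey (-g) hneg hp1
      rw [← hg, ← piF_neg, this, map_one]
  have : m = 1 := Subtype.ext hm1
  rw [this, orderOf_one] at hm
  exact (Fact.out : p.Prime).one_lt.ne' hm.symm

end Cfsg.Agent.helper4.Mx
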