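import Mathlib
import Cfsg.Agent.Lib_helper4_MxR

set_option autoImplicit false
set_option linter.unusedSectionVars false
set_option maxHeartbeats 1600000

/-!
# Quaternion groups with rational coordinates (no scalar factor) and their invariance
-/

namespace Cfsg.Agent.helper4.My

open Matrix
open scoped LinearAlgebra.Projectivization MatrixGroups
open Cfsg.Agent.helper4.Dk Cfsg.Agent.helper4.Dn Cfsg.Agent.helper4.Mx

section qz

variable {K : Type*} [Field K]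

/-- the group of norm one elements of the quaternion algebra `B(S)` -/
def QZ (i : K) (hi : i ^ 2 = -1) (S : Subfield K) : Subgroup (SpecialLinearGroup (Fin 2) K) where
  carrier := {h | ∃ x₀ x₁ x₂ x₃ : K, x₀ ∈ S ∧ x₁ ∈ S ∧ x₂ ∈ S ∧ x₃ ∈ S ∧
    (h : Matrix (Fin 2) (Fin 2) K) = qm i x₀ x₁ x₂ x₃}
  one_mem' := ⟨1, 0, 0, 0, S.one_mem, S.zero_mem, S.zero_mem, S.zero_mem, by
    rw [qm_one]; rfl⟩
  mul_mem' := by
    rintro g h ⟨x₀, x₁, x₂, x₃, hx₀, hx₁, hx₂, hx₃, hg⟩ ⟨y₀, y₁, y₂, y₃, hy₀, hy₁, hy₂, hy₃, hh⟩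
    refine ⟨(x₀ * y₀ - x₁ * y₁ - x₂ * y₂ - x₃ * y₃), (x₀ * y₁ + x₁ * y₀ + x₂ * y₃ - x₃ * y₂),
        (x₀ * y₂ - x₁ * y₃ + x₂ * y₀ + x₃ * y₁), (x₀ * y₃ + x₁ * y₂ - x₂ * y₁ + x₃ * y₀),
        ?_, ?_, ?_, ?_, ?_⟩
    rotate_left 4
    · refine (Matrix.SpecialLinearGroup.coe_mul g h).trans ?_
      rw [hg, hh, qm_mul hi]
    · exact S.sub_mem (S.sub_mem (S.sub_mem (S.mul_mem hx₀ hy₀) (S.mul_mem hx₁ hy₁))
        (S.mul_mem hx₂ hy₂)) (S.mul_mem hx₃ hy₃)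
    · exact S.sub_mem (S.add_mem (S.add_mem (S.mul_mem hx₀ hy₁) (S.mul_mem hx₁ hy₀))
        (S.mul_mem hx₂ hy₃)) (S.mul_mem hx₃ hy₂)
    · exact S.add_mem (S.add_mem (S.sub_mem (S.mul_mem hx₀ hy₂) (S.mul_mem hx₁ hy₃))
        (S.mul_mem hx₂ hy₀)) (S.mul_mem hx₃ hy₁)
    · exact S.add_mem (S.sub_mem (S.add_mem (S.mul_mem hx₀ hy₃) (S.mul_mem hx₁ hy₂))
        (S.mul_mem hx₂ hy₁)) (S.mul_mem hx₃ hy₀)
  inv_mem' := by
    rintro g ⟨x₀, x₁, x₂, x₃, hx₀, hx₁, hx₂, hx₃, hg⟩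
    refine ⟨x₀, -x₁, -x₂, -x₃, hx₀, S.neg_mem hx₁, S.neg_mem hx₂, S.neg_mem hx₃, ?_⟩
    refine (Matrix.SpecialLinearGroup.coe_inv g).trans ?_
    rw [hg, qm_adjugate]

theorem mem_QZ {i : K} {hi : i ^ 2 = -1} {S : Subfield K} {h : SpecialLinearGroup (Fin 2) K} :
    h ∈ QZ i hi S ↔ ∃ x₀ x₁ x₂ x₃ : K, x₀ ∈ S ∧ x₁ ∈ S ∧ x₂ ∈ S ∧ x₃ ∈ S ∧
      (h : Matrix (Fin 2) (Fin 2) K) = qm i x₀ x₁ x₂ x₃ := Iff.rfl

theorem QZ_le_QY (i : K) (hi : i ^ 2 = -1) (S : Subfield K) : QZ i hi S ≤ QY i hi S := by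
  rintro h ⟨x₀, x₁, x₂, x₃, h0, h1, h2, h3, hh⟩
  exact ⟨1, x₀, x₁, x₂, x₃, h0, h1, h2, h3, by rw [one_smul]; exact hh⟩

theorem neg_one_mem_QZ (i : K) (hi : i ^ 2 = -1) (S : Subfield K) : -1 ∈ QZ i hi S := by
  refine ⟨-1, 0, 0, 0, S.neg_mem S.one_mem, S.zero_mem, S.zero_mem, S.zero_mem, ?_⟩
  ext r s
  fin_cases r <;> fin_cases s <;> simp [qm, Matrix.SpecialLinearGroup.coe_neg]

end qz

section qs

variable {F : Type*} [Field F] [Fintype F] {K : Type*} [Field K] [Algebra F K]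
variable {a b : SpecialLinearGroup (Fin 2) F} (Q : QS F K a b)

/-- the rational points of the quaternion group over `S` -/
def XZ (S : Subfield K) : Subgroup (SpecialLinearGroup (Fin 2) F) := (QZ Q.i Q.hi S).comap Q.Θ

theorem mem_XZ {S : Subfield K} {g : SpecialLinearGroup (Fin 2) F} :
    g ∈ XZ Q S ↔ Q.Θ g ∈ QZ Q.i Q.hi S := Iff.rfl

theorem neg_one_mem_XZ (S : Subfield K) : -1 ∈ XZ Q S := by
  rw [mem_XZ, Q.neg]; exact neg_one_mem_QZ _ _ _

theorem mem_XZ_of_traces (h2 : (2 : K) ≠ 0) (S : Subfield K) (g : SpecialLinearGroup (Fin 2) F)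
    (h0 : algebraMap F K (tr g) ∈ S) (h1 : algebraMap F K (tr (g * a)) ∈ S)
    (h2' : algebraMap F K (tr (g * b)) ∈ S) (h3 : algebraMap F K (tr (g * (a * b))) ∈ S) :
    g ∈ XZ Q S := by
  have h2S : (2 : K) ∈ S := ofNat_mem S 2
  refine ⟨_, _, _, _, S.div_mem h0 h2S, S.div_mem (S.neg_mem h1) h2S,
    S.div_mem (S.neg_mem h2') h2S, S.div_mem (S.neg_mem h3) h2S, ?_⟩
  exact Q.coords h2 g

theorem tr_mem_of_mem_XZ (h2 : (2 : K) ≠ 0) {S : Subfield K} {g : SpecialLinearGroup (Fin 2) F}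
    (hg : g ∈ XZ Q S) : algebraMap F K (tr g) ∈ S := by
  obtain ⟨x₀, x₁, x₂, x₃, h0, h1, h2', h3, hh⟩ := hg
  have hc := Q.coords h2 g
  rw [hh] at hc
  have := (qm_injective Q.hi h2 hc).1
  have e : algebraMap F K (tr g) = 2 * x₀ := by
    rw [this]; field_simp
  rw [e]
  exact S.mul_mem (ofNat_mem S 2) h0

theorem mem_a_XZ (S : Subfield K) : a ∈ XZ Q S :=
  ⟨0, 1, 0, 0, S.zero_mem, S.one_mem, S.zero_mem, S.zero_mem, Q.coe_a⟩

theorem mem_b_XZ (S : Subfield K) : b ∈ XZ Q S :=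
  ⟨0, 0, 1, 0, S.zero_mem, S.zero_mem, S.one_mem, S.zero_mem, Q.coe_b⟩

/-- **Invariance**: a trace preserving automorphism which preserves a subgroup `A ≤ XZ S`
containing `a` and `b` preserves `XZ S`. -/
theorem XZ_invariant (h2 : (2 : K) ≠ 0) (S : Subfield K)
    (σ σ' : SpecialLinearGroup (Fin 2) F → SpecialLinearGroup (Fin 2) F)
    (hmul : ∀ g h, σ (g * h) = σ g * σ h) (htr : ∀ g, tr (σ g) = tr g)
    (hinv : ∀ g, σ (σ' g) = g)
    (A : Subgroup (SpecialLinearGroup (Fin 2) F)) (haA : a ∈ A) (hbA : b ∈ A)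
    (hAX : A ≤ XZ Q S) (hA : ∀ g ∈ A, σ' g ∈ A) :
    ∀ g ∈ XZ Q S, σ g ∈ XZ Q S := by
  intro g hg
  have key : ∀ e ∈ A, algebraMap F K (tr (σ g * e)) ∈ S := by
    intro e he
    have h1 : σ g * e = σ (g * σ' e) := by rw [hmul, hinv]
    rw [h1, htr]
    exact tr_mem_of_mem_XZ Q h2 ((XZ Q S).mul_mem hg (hAX (hA e he)))
  apply mem_XZ_of_traces Q h2
  · have := key 1 A.one_mem
    rwa [mul_one] at this
  · exact key a haA
  · exact key b hbA
  · exact key (a * b) (A.mul_mem haA hbA)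

theorem card_XZ_le [IsAlgClosed K] (S : Subfield K) [Finite S] :
    Nat.card (XZ Q S) ≤ Nat.card S ^ 4 * 2 := by
  refine le_trans ?_ (card_QY_le Q.hi S)
  haveI : Finite (QY Q.i Q.hi S) := finite_QY Q.hi S
  let φ : XZ Q S → QY Q.i Q.hi S := fun g => ⟨Q.Θ g.1, QZ_le_QY _ _ _ g.2⟩
  apply Nat.card_le_card_of_injective φ
  intro g h hgh
  have := congrArg Subtype.val hgh
  exact Subtype.ext (Q.inj this)

/-- the element `(1 + a + b + ab)/2` -/
theorem exists_omega' (h2 : (2 : F) ≠ 0) :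
    ∃ w : SpecialLinearGroup (Fin 2) F, w * w * w = -1 ∧ w * a = b * w ∧ w * b = (a * b) * w ∧
      w ≠ 1 ∧ w ≠ -1 ∧ ∀ S : Subfield K, w ∈ XZ Q S := by
  have h2K : (2 : K) ≠ 0 := by
    intro h
    apply h2
    apply (algebraMap F K).injective
    rw [map_ofNat, h, map_zero]
  obtain ⟨w, hw⟩ := Q.ex (2⁻¹) (2⁻¹) (2⁻¹) (2⁻¹) (by field_simp; norm_num)
  have hcw := Q.lin w _ _ _ _ hw
  rw [map_inv₀, map_ofNat] at hcw
  have hi := Q.hi
  refine ⟨w, ?_, ?_, ?_, ?_, ?_, ?_⟩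
  · apply Q.ext
    rw [Q.coe_mul, Q.coe_mul, hcw, Q.coe_neg_one, qm_mul hi, qm_mul hi]
    congr 1 <;> field_simp <;> ring
  · apply Q.ext
    rw [Q.coe_mul, Q.coe_mul, hcw, Q.coe_a, Q.coe_b, qm_mul hi, qm_mul hi]
    congr 1 <;> ring
  · apply Q.ext
    rw [Q.coe_mul, Q.coe_mul, hcw, Q.coe_ab, Q.coe_b, qm_mul hi, qm_mul hi]
    congr 1 <;> ring
  · intro h
    rw [h, Q.coe_one] at hcw
    have := (qm_injective hi h2K hcw).2.1
    exact inv_ne_zero h2K this.symm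
  · intro h
    rw [h, Q.coe_neg_one] at hcw
    have := (qm_injective hi h2K hcw).2.1
    exact inv_ne_zero h2K this.symm
  · intro S
    have h2S : (2 : K)⁻¹ ∈ S := S.inv_mem (ofNat_mem S 2)
    exact ⟨_, _, _, _, h2S, h2S, h2S, h2S, hcw⟩

/-- a one-parameter unipotent subgroup -/
theorem exists_unip_hom' (p : ℕ) [Fact p.Prime] [CharP F p] (h2 : (2 : F) ≠ 0) :
    ∃ ψ : Multiplicative F →* SpecialLinearGroup (Fin 2) F,
      (∀ s, ψ s = 1 ∨ ψ s = -1 → s = 1) ∧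
      ∀ (S : Subfield K) (s : Multiplicative F), algebraMap F K (Multiplicative.toAdd s) ∈ S →
        ψ s ∈ XZ Q S := by
  have h2K : (2 : K) ≠ 0 := by
    intro h
    apply h2
    apply (algebraMap F K).injective
    rw [map_ofNat, h, map_zero]
  haveI : CharP K p := charP_of_injective_algebraMap (algebraMap F K).injective p
  obtain ⟨k₂, k₃, hk⟩ := CharP.sq_add_sq F p (-1)
  have hk' : (k₂ : F) ^ 2 + (k₃ : F) ^ 2 = -1 := by
    rw [hk]; simp
  have hkK : (k₂ : K) ^ 2 + (k₃ : K) ^ 2 = -1 := by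
    have := congrArg (algebraMap F K) hk'
    simpa using this
  have hi := Q.hi
  have hex : ∀ s : F, ∃ g : SpecialLinearGroup (Fin 2) F,
      (g : Matrix (Fin 2) (Fin 2) F) = (1 : F) • (1 : Matrix (Fin 2) (Fin 2) F) +
          s • (a : Matrix (Fin 2) (Fin 2) F) + (s * k₂) • (b : Matrix (Fin 2) (Fin 2) F) +
          (s * k₃) • ((a * b : SpecialLinearGroup (Fin 2) F) : Matrix (Fin 2) (Fin 2) F) :=
    fun s => Q.ex 1 s (s * k₂) (s * k₃) (by linear_combination s ^ 2 * hk')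
  choose u hu using hex
  have hcu : ∀ s, ((Q.Θ (u s) : SpecialLinearGroup (Fin 2) K) : Matrix (Fin 2) (Fin 2) K) =
      qm Q.i 1 (algebraMap F K s) (algebraMap F K s * k₂) (algebraMap F K s * k₃) := by
    intro s
    have := Q.lin (u s) _ _ _ _ (hu s)
    rw [map_one, map_mul, map_mul, map_natCast, map_natCast] at this
    exact this
  have hmul : ∀ s t, u (s + t) = u s * u t := by
    intro s t
    apply Q.ext
    rw [Q.coe_mul, hcu, hcu, hcu, qm_mul hi, map_add]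
    congr 1
    · linear_combination (algebraMap F K s * algebraMap F K t) * hkK
    · ring
    · ring
    · ring
  refine ⟨MonoidHom.mk' (fun s => u (Multiplicative.toAdd s)) (fun s t => hmul _ _), ?_, ?_⟩
  · intro s hs
    change u (Multiplicative.toAdd s) = 1 ∨ u (Multiplicative.toAdd s) = -1 at hs
    have h0 : Multiplicative.toAdd s = 0 := by
      rcases hs with h | h
      · have h1 := hcu (Multiplicative.toAdd s)
        rw [h, Q.coe_one] at h1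
        have := (qm_injective hi h2K h1).2.1
        apply (algebraMap F K).injective
        rw [map_zero, ← this]
      · exfalso
        have h1 := hcu (Multiplicative.toAdd s)
        rw [h, Q.coe_neg_one] at h1
        have := (qm_injective hi h2K h1).1
        apply h2K
        linear_combination -this
    exact Multiplicative.toAdd.injective h0
  · intro S s hs
    change Q.Θ (u (Multiplicative.toAdd s)) ∈ QZ Q.i Q.hi S
    exact ⟨1, _, _, _, S.one_mem, hs, S.mul_mem hs (natCast_mem S k₂),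
      S.mul_mem hs (natCast_mem S k₃), hcu _⟩

end qs

end Cfsg.Agent.helper4.My
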