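import Mathlib
import Cfsg.Agent.Lib_helper4_MxR

set_option autoImplicit false
set_option linter.unusedSectionVars false
set_option maxHeartbeats 1600000
set_option maxRecDepth 100000

/-!
# Abstract group theory for maximal subgroups of a group with a simple subgroup of index two
-/

namespace Cfsg.Agent.helper4.My

open Subgroup
open Cfsg.Agent.helper4.Mx

theorem map_normalizer_mem {G P : Type*} [Group G] [Group P] (τ : P →* G)
    (hτ : Function.Injective τ) (X : Subgroup P) {g : P} (hg : g ∈ normalizer (X : Set P)) :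
    τ g ∈ normalizer ((X.map τ : Subgroup G) : Set G) := by
  rw [mem_normalizer_iff] at hg
  rw [mem_normalizer_iff]
  intro h
  constructor
  · rintro ⟨x, hx, rfl⟩
    refine ⟨g * x * g⁻¹, (hg x).mp hx, ?_⟩
    rw [map_mul, map_mul, map_inv]
  · rintro ⟨x, hx, hxe⟩
    refine ⟨g⁻¹ * x * g, ?_, ?_⟩
    · apply (hg (g⁻¹ * x * g)).mpr
      have e : g * (g⁻¹ * x * g) * g⁻¹ = x := by group
      rw [e]; exact hx
    · rw [map_mul, map_mul, map_inv, hxe]; group

/-- relative version of `normalizer_eq_of_coatom` -/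
theorem rel_normalizer {G P : Type*} [Group G] [Group P] [IsSimpleGroup P] (τ : P →* G)
    (hτ : Function.Injective τ) {M : Subgroup G} (hM : IsCoatom M)
    (X : Subgroup P) (hX1 : X ≠ ⊥) (hX2 : X ≠ ⊤)
    (hMX : M ≤ normalizer ((X.map τ : Subgroup G) : Set G)) :
    normalizer ((X.map τ : Subgroup G) : Set G) = M := by
  by_contra hne
  have hlt : M < normalizer ((X.map τ : Subgroup G) : Set G) := lt_of_le_of_ne hMX (Ne.symm hne)
  have htop := hM.2 _ hlt
  rw [normalizer_eq_top_iff] at htop
  have hn : X.Normal := by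
    have e : X = (X.map τ).comap τ := (comap_map_eq_self_of_injective hτ X).symm
    rw [e]
    exact Subgroup.Normal.comap htop τ
  rcases hn.eq_bot_or_eq_top with h | h
  · exact hX1 h
  · exact hX2 h

theorem rel_normalizer_le {G P : Type*} [Group G] [Group P] [IsSimpleGroup P] (τ : P →* G)
    (hτ : Function.Injective τ) {M : Subgroup G} (hM : IsCoatom M)
    (X : Subgroup P) (hX1 : X ≠ ⊥) (hX2 : X ≠ ⊤)
    (hMX : M ≤ normalizer ((X.map τ : Subgroup G) : Set G)) :
    normalizer (X : Set P) ≤ M.comap τ := by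
  intro g hg
  rw [mem_comap, ← rel_normalizer τ hτ hM X hX1 hX2 hMX]
  exact map_normalizer_mem τ hτ X hg

theorem card_inf_of_index_two {G : Type*} [Group G] (L M : Subgroup G) (hL : L.index = 2)
    (hML : ¬ M ≤ L) : Nat.card M = 2 * Nat.card (M ⊓ L : Subgroup G) := by
  haveI : L.Normal := normal_of_index_eq_two hL
  have h1 : L.relIndex M ∣ 2 := hL ▸ relIndex_dvd_index_of_normal L M
  have h2 : L.relIndex M ≠ 1 := fun h => hML (relIndex_eq_one.mp h)
  have h3 : L.relIndex M = 2 := by
    rcases (Nat.dvd_prime Nat.prime_two).mp h1 with h | h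
    · exact absurd h h2
    · exact h
  have h4 := relIndex_mul_relIndex ⊥ (M ⊓ L) M bot_le inf_le_left
  rw [relIndex_bot_left, relIndex_bot_left, inf_relIndex_left, h3] at h4
  omega

theorem card_le_two_mul_inf {G : Type*} [Group G] [Finite G] (L C : Subgroup G)
    (hL : L.index = 2) : Nat.card C ≤ 2 * Nat.card (C ⊓ L : Subgroup G) := by
  haveI : L.Normal := normal_of_index_eq_two hL
  have h1 : L.relIndex C ∣ 2 := hL ▸ relIndex_dvd_index_of_normal L C
  have h2 : L.relIndex C ≤ 2 := Nat.le_of_dvd (by norm_num) h1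
  have h4 := relIndex_mul_relIndex ⊥ (C ⊓ L) C bot_le inf_le_left
  rw [relIndex_bot_left, relIndex_bot_left, inf_relIndex_left] at h4
  rw [← h4, mul_comm]
  exact Nat.mul_le_mul_right _ h2

/-- a normal subgroup of the big group inside a maximal subgroup not containing the simple
subgroup of index two has at most two elements -/
theorem card_normal_le_two {G P : Type*} [Group G] [Finite G] [Group P] [IsSimpleGroup P]
    (τ : P →* G) (hτ : Function.Injective τ) (hL : τ.range.index = 2) {M : Subgroup G}
    (hML : ¬ τ.range ≤ M) (C : Subgroup G) (hCM : C ≤ M) (hC : C.Normal) : Nat.card C ≤ 2 := by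
  have hn : (C.comap τ).Normal := Subgroup.Normal.comap hC τ
  have h1 := card_le_two_mul_inf τ.range C hL
  rcases hn.eq_bot_or_eq_top with h | h
  · have hbot : (C ⊓ τ.range : Subgroup G) = ⊥ := by
      rw [eq_bot_iff]
      rintro x ⟨hxC, y, rfl⟩
      have : y ∈ C.comap τ := hxC
      rw [h, mem_bot] at this
      rw [this, map_one]
      exact Subgroup.one_mem _
    rw [hbot, card_bot] at h1
    omega
  · exfalso
    apply hML
    rintro x ⟨y, rfl⟩
    apply hCM
    have : y ∈ C.comap τ := by rw [h]; trivial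
    exact this

/-- a simple group has no nontrivial abelian subgroup whose characteristic subgroups have
normaliser inside it -/
theorem no_abelian_selfnorm {G : Type*} [Group G] [Finite G] [IsSimpleGroup G] {A : Subgroup G}
    (hA : A ≠ ⊥) (hAT : A ≠ ⊤) (hab : ∀ x ∈ A, ∀ y ∈ A, x * y = y * x)
    (hN : ∀ (r k : ℕ) (R : Subgroup G), r.Prime → (∀ x, x ∈ R ↔ x ∈ A ∧ x ^ (r ^ k) = 1) →
      R ≠ ⊥ → normalizer (R : Set G) ≤ A) : False := by
  classical
  have hcard : Nat.card A ≠ 1 := fun h => hA (card_eq_one.mp h)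
  obtain ⟨r, hr, hrA⟩ := Nat.exists_prime_and_dvd hcard
  have : Fact r.Prime := ⟨hr⟩
  obtain ⟨R⟩ : Nonempty (Sylow r A) := inferInstance
  obtain ⟨R', hR'⟩ : ∃ R' : Subgroup G, R' = (R : Subgroup A).map A.subtype := ⟨_, rfl⟩
  have hR'A : R' ≤ A := by rw [hR']; exact map_subtype_le _
  have hRne : (R : Subgroup A) ≠ ⊥ := R.ne_bot_of_dvd_card hrA
  have hR'ne : R' ≠ ⊥ := by
    rw [hR']
    intro h
    apply hRne
    exact (map_eq_bot_iff_of_injective _ (subtype_injective A)).mp h
  have hR'top : R' ≠ ⊤ := fun h => hAT (top_le_iff.mp (h ▸ hR'A))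
  obtain ⟨k, hk⟩ : ∃ k, k = (Nat.card A).factorization r := ⟨_, rfl⟩
  have hcardR : Nat.card R' = r ^ k := by
    rw [hR', card_map_of_injective (subtype_injective A), hk]
    exact R.card_eq_multiplicity
  have hRnormal : (R : Subgroup A).Normal := by
    constructor
    intro n hn g
    have : g * n * g⁻¹ = n := by
      apply Subtype.ext
      have := hab g.1 g.2 n.1 n.2
      show g.1 * n.1 * g.1⁻¹ = n.1
      rw [this]; group
    rw [this]; exact hn
  have hchar : ∀ x, x ∈ R' ↔ x ∈ A ∧ x ^ (r ^ k) = 1 := by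
    intro x
    constructor
    · intro hx
      refine ⟨hR'A hx, ?_⟩
      have := pow_card_eq_one' (G := R') (x := ⟨x, hx⟩)
      rw [hcardR] at this
      exact congrArg Subtype.val this
    · rintro ⟨hxA, hxp⟩
      have hpg : IsPGroup r (zpowers (⟨x, hxA⟩ : A)) := by
        have h1 : orderOf (⟨x, hxA⟩ : A) ∣ r ^ k := by
          apply orderOf_dvd_of_pow_eq_one
          apply Subtype.ext
          exact hxp
        obtain ⟨j, -, hj⟩ := (Nat.dvd_prime_pow hr).mp h1
        apply IsPGroup.of_card (n := j)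
        rw [Nat.card_zpowers, hj]
      obtain ⟨Q, hQ⟩ := hpg.exists_le_sylow
      obtain ⟨g, hg⟩ := MulAction.exists_smul_eq A R Q
      have hQR : Q = R := by
        rw [← hg]
        exact Sylow.smul_eq_of_normal
      have hxR : (⟨x, hxA⟩ : A) ∈ (R : Subgroup A) := by
        rw [← hQR]
        exact hQ (mem_zpowers _)
      rw [hR']
      exact ⟨⟨x, hxA⟩, hxR, rfl⟩
  have hAN : A ≤ normalizer (R' : Set G) := by
    intro m hm
    rw [mem_normalizer_iff]
    intro h
    constructor
    · intro hh
      have : m * h * m⁻¹ = h := by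
        rw [hab m hm h (hR'A hh)]; group
      rw [this]; exact hh
    · intro hh
      have hmem : m * h * m⁻¹ ∈ A := hR'A hh
      have hhA : h ∈ A := by
        have : h = m⁻¹ * (m * h * m⁻¹) * m := by group
        rw [this]
        exact A.mul_mem (A.mul_mem (A.inv_mem hm) hmem) hm
      have : m * h * m⁻¹ = h := by
        rw [hab m hm h hhA]; group
      rwa [this] at hh
  have hN' : normalizer (R' : Set G) = A := le_antisymm (hN r k R' hr hchar hR'ne) hAN
  have hsub : R'.subgroupOf A = (R : Subgroup A) := by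
    rw [hR']
    exact comap_map_eq_self_of_injective (subtype_injective A) _
  have hcardR2 : Nat.card R' = r ^ (Nat.card A).factorization r := by rw [hcardR, hk]
  have hmod := Sylow.card_quotient_normalizer_modEq_card_quotient hcardR
  have hmod' : R'.relIndex (normalizer (R' : Set G)) ≡ R'.index [MOD r] := hmod
  rw [hN'] at hmod'
  have hrel : R'.relIndex A = (R : Subgroup A).index := by
    unfold relIndex
    rw [hsub]
  rw [hrel] at hmod'
  have hnd : ¬ r ∣ R'.index := by
    intro hdvd
    have h0 : R'.index ≡ 0 [MOD r] := (Nat.modEq_zero_iff_dvd).mpr hdvd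
    have h1 : (R : Subgroup A).index ≡ 0 [MOD r] := hmod'.trans h0
    exact R.not_dvd_index ((Nat.modEq_zero_iff_dvd).mp h1)
  have hpg : IsPGroup r R' := IsPGroup.of_card hcardR
  obtain ⟨P, hP⟩ : ∃ P : Sylow r G, (P : Subgroup G) = R' := ⟨hpg.toSylow hnd, hpg.toSylow_coe hnd⟩
  have hNC : normalizer (P : Set G) ≤ centralizer (P : Set G) := by
    have : ((P : Subgroup G) : Set G) = (R' : Set G) := by rw [hP]
    change normalizer ((P : Subgroup G) : Set G) ≤ centralizer ((P : Subgroup G) : Set G)
    rw [this, hN']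
    intro m hm
    rw [mem_centralizer_iff]
    intro h hh
    exact (hab m hm h (hR'A hh)).symm
  have hcompl := MonoidHom.ker_transferSylow_isComplement' P hNC
  rcases (MonoidHom.normal_ker (MonoidHom.transferSylow P hNC)).eq_bot_or_eq_top with h | h
  · rw [h, isComplement'_bot_left] at hcompl
    rw [hP] at hcompl
    exact hR'top hcompl
  · rw [h, isComplement'_top_left, hP] at hcompl
    exact hR'ne hcompl

/-- a subgroup of order two is not maximal in a group of order divisible by four and by an odd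
number -/
theorem card_two_not_coatom {G : Type*} [Group G] [Finite G] {M : Subgroup G} (hM : IsCoatom M)
    (h2 : Nat.card M = 2) (h4 : 4 ∣ Nat.card G) (q : ℕ) (hq : q ∣ Nat.card G) (hqodd : Odd q)
    (hq1 : 1 < q) : False := by
  classical
  haveI : Fact (Nat.Prime 2) := ⟨Nat.prime_two⟩
  have hpg : IsPGroup 2 M := IsPGroup.of_card (n := 1) (by rw [h2]; norm_num)
  obtain ⟨S, hS⟩ := hpg.exists_le_sylow
  have hcardS : Nat.card (S : Subgroup G) = 2 ^ (Nat.card G).factorization 2 := S.card_eq_multiplicity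
  have hpos : Nat.card G ≠ 0 := Nat.card_pos.ne'
  have hfac : 2 ≤ (Nat.card G).factorization 2 :=
    (Nat.Prime.pow_dvd_iff_le_factorization Nat.prime_two hpos).mp (by norm_num; exact h4)
  have hS4 : 4 ≤ Nat.card (S : Subgroup G) := by
    rw [hcardS]
    calc 4 = 2 ^ 2 := by norm_num
      _ ≤ 2 ^ (Nat.card G).factorization 2 := Nat.pow_le_pow_right (by norm_num) hfac
  have hne : M ≠ (S : Subgroup G) := by
    intro h
    rw [← h, h2] at hS4
    omega
  have htop := hM.2 _ (lt_of_le_of_ne hS hne)
  rw [htop, card_top] at hcardS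
  rw [hcardS] at hq
  have hcop : Nat.Coprime q (2 ^ (Nat.card G).factorization 2) := by
    apply Nat.Coprime.pow_right
    rw [Nat.coprime_two_right]
    exact hqodd
  have := Nat.Coprime.eq_one_of_dvd hcop hq
  omega

/-! ### facts on small permutation groups -/

theorem a4_sq : ∀ g : alternatingGroup (Fin 4), ∃ a b : alternatingGroup (Fin 4),
    g = a * a * (b * b) := by decide

theorem s4_even_sq : ∀ g : Equiv.Perm (Fin 4), Equiv.Perm.sign g = 1 →
    ∃ a b : Equiv.Perm (Fin 4), g = a * a * (b * b) := by decide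

theorem s4_x_sq : ∃ a : Equiv.Perm (Fin 4), a * a = xS4 := by decide

theorem s4_y_sq : ∃ a : Equiv.Perm (Fin 4), a * a = yS4 := by decide

/-! ### dihedral groups -/

theorem dihedral_coatom3 {G : Type*} [Group G] [Finite G] {M : Subgroup G}
    (hM : IsCoatom M) {k : ℕ} (hk : 3 ≤ k) (e : M ≃* DihedralGroup k)
    (hnn : ∀ c : G, c ∈ M → orderOf c = k → ¬ (zpowers c).Normal) :
    ∃ c : G, c ∈ M ∧ c ≠ 1 ∧ orderOf c = k ∧ normalizer (zpowers c : Set G) = M ∧
      Nat.card (centralizer ({c} : Set G)) ≤ k := by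
  classical
  haveI : NeZero k := ⟨by omega⟩
  obtain ⟨c₀, hc₀⟩ : ∃ c₀ : M, c₀ = e.symm (DihedralGroup.r 1) := ⟨_, rfl⟩
  have hec : e c₀ = DihedralGroup.r 1 := by rw [hc₀]; simp
  have hord₀ : orderOf c₀ = k := by
    rw [← e.orderOf_eq, hec, DihedralGroup.orderOf_r_one]
  have hord : orderOf (c₀ : G) = k := by rw [Subgroup.orderOf_coe, hord₀]
  have hc1 : (c₀ : G) ≠ 1 := by
    intro h
    rw [h, orderOf_one] at hord
    omega
  have hconj : ∀ m : M, (m : G) * c₀ * (m : G)⁻¹ ∈ zpowers (c₀ : G) := by
    intro m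
    have hcases : e (m * c₀ * m⁻¹) = DihedralGroup.r 1 ∨ e (m * c₀ * m⁻¹) = (DihedralGroup.r 1)⁻¹ := by
      rw [map_mul, map_mul, map_inv, hec]
      rcases e m with i | i
      · left
        simp
      · right
        simp
    rcases hcases with h | h
    · have : m * c₀ * m⁻¹ = c₀ := e.injective (by rw [h, hec])
      have h' : (m : G) * c₀ * (m : G)⁻¹ = c₀ := by
        have := congrArg Subtype.val this
        simpa using this
      rw [h']
      exact mem_zpowers _
    · have : m * c₀ * m⁻¹ = c₀⁻¹ := e.injective (by rw [h, map_inv, hec])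
      have h' : (m : G) * c₀ * (m : G)⁻¹ = (c₀ : G)⁻¹ := by
        have := congrArg Subtype.val this
        simpa using this
      rw [h']
      exact (zpowers _).inv_mem (mem_zpowers _)
  have hMN : M ≤ normalizer (zpowers (c₀ : G) : Set G) := by
    intro m hm
    apply mem_normalizer_zpowers
    · exact hconj ⟨m, hm⟩
    · have := hconj ⟨m⁻¹, M.inv_mem hm⟩
      simpa using this
  have hN : normalizer (zpowers (c₀ : G) : Set G) = M := by
    by_contra hne
    have hlt : M < normalizer (zpowers (c₀ : G) : Set G) := lt_of_le_of_ne hMN (Ne.symm hne)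
    have htop := hM.2 _ hlt
    rw [normalizer_eq_top_iff] at htop
    exact hnn _ c₀.2 hord htop
  have hcentM : centralizer ({(c₀ : G)} : Set G) ≤ M := by
    intro x hx
    have hgoal : x ∈ normalizer (zpowers (c₀ : G) : Set G) := by
      rw [mem_centralizer_iff] at hx
      have hx' := hx (c₀ : G) rfl
      apply mem_normalizer_zpowers
      · have : x * c₀ * x⁻¹ = c₀ := by rw [← hx']; group
        rw [this]; exact mem_zpowers _
      · have : x⁻¹ * c₀ * x = c₀ := by rw [mul_assoc, hx']; group
        rw [this]; exact mem_zpowers _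
    rw [hN] at hgoal
    exact hgoal
  refine ⟨c₀, c₀.2, hc1, hord, hN, ?_⟩
  have hrot : ∀ x : centralizer ({(c₀ : G)} : Set G),
      ∃ i : ZMod k, e ⟨x.1, hcentM x.2⟩ = DihedralGroup.r i := by
    intro x
    have hx := x.2
    rw [mem_centralizer_iff] at hx
    have hx' := hx (c₀ : G) rfl
    have hcomm : e ⟨x.1, hcentM x.2⟩ * DihedralGroup.r 1 = DihedralGroup.r 1 * e ⟨x.1, hcentM x.2⟩ := by
      rw [← hec, ← map_mul, ← map_mul]
      congr 1
      apply Subtype.ext
      exact hx'.symm
    rcases h : e ⟨x.1, hcentM x.2⟩ with i | i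
    · exact ⟨i, rfl⟩
    · exfalso
      rw [h] at hcomm
      simp only [DihedralGroup.sr_mul_r, DihedralGroup.r_mul_sr] at hcomm
      have h1 : i + 1 = i - 1 := by
        injection hcomm
      have h2 : (2 : ZMod k) = 0 := by linear_combination h1
      have h3 : ((2 : ℕ) : ZMod k) = 0 := by exact_mod_cast h2
      rw [ZMod.natCast_eq_zero_iff] at h3
      have := Nat.le_of_dvd (by norm_num) h3
      omega
  let φ : centralizer ({(c₀ : G)} : Set G) → ZMod k := fun x => dpsi k (e ⟨x.1, hcentM x.2⟩)
  have hφ : Function.Injective φ := by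
    intro x y hxy
    obtain ⟨i, hi⟩ := hrot x
    obtain ⟨j, hj⟩ := hrot y
    have h1 : φ x = i := by
      change dpsi k (e ⟨x.1, hcentM x.2⟩) = i
      rw [hi]; rfl
    have h2 : φ y = j := by
      change dpsi k (e ⟨y.1, hcentM y.2⟩) = j
      rw [hj]; rfl
    rw [h1, h2] at hxy
    rw [hxy, ← hj] at hi
    have := e.injective hi
    apply Subtype.ext
    have h3 := congrArg Subtype.val this
    exact h3
  have := Nat.card_le_card_of_injective φ hφ
  rwa [Nat.card_zmod] at this

end Cfsg.Agent.helper4.My
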