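import Mathlib
import Cfsg.Agent.Lib_helper4_MxR
import Cfsg.Agent.Lib_helper2_Classical

set_option autoImplicit false
set_option linter.unusedSectionVars false
set_option maxHeartbeats 1600000

/-!
# `PGL₂(F)`: the subgroup `PSL₂(F)`, conjugation of `SL₂(F)` by `GL₂(F)`
-/

namespace Cfsg.Agent.helper4.My

open Matrix
open scoped LinearAlgebra.Projectivization MatrixGroups
open Cfsg.Agent.helper4.Dk Cfsg.Agent.helper4.Dn Cfsg.Agent.helper4.Mx

variable {F : Type*} [Field F] [Fintype F]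

/-- the inclusion `PSL₂(F) → PGL₂(F)` -/
noncomputable abbrev tauF (F : Type*) [Field F] :
    Matrix.ProjectiveSpecialLinearGroup (Fin 2) F →* Matrix.ProjGenLinGroup (Fin 2) F :=
  Matrix.ProjectiveSpecialLinearGroup.toPGL

theorem tau_piF (h : SpecialLinearGroup (Fin 2) F) :
    tauF F (piF F h) = ProjGenLinGroup.mk (SpecialLinearGroup.toGL h) := rfl

theorem tauF_injective : Function.Injective (tauF F) :=
  Matrix.ProjectiveSpecialLinearGroup.toPGL_injective

theorem range_eq_tau :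
    (Matrix.ProjGenLinGroup.mk.comp Matrix.SpecialLinearGroup.toGL :
      SpecialLinearGroup (Fin 2) F →* Matrix.ProjGenLinGroup (Fin 2) F).range = (tauF F).range := by
  ext x
  constructor
  · rintro ⟨h, rfl⟩
    exact ⟨piF F h, rfl⟩
  · rintro ⟨y, rfl⟩
    obtain ⟨h, rfl⟩ := piF_surj' (L := F) y
    exact ⟨h, rfl⟩

/-- conjugation of `SL₂(F)` by `GL₂(F)` -/
noncomputable def cg (g : GL (Fin 2) F) (h : SpecialLinearGroup (Fin 2) F) :
    SpecialLinearGroup (Fin 2) F :=
  ⟨(g : Matrix (Fin 2) (Fin 2) F) * (h : Matrix (Fin 2) (Fin 2) F) *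
    ((g⁻¹ : GL (Fin 2) F) : Matrix (Fin 2) (Fin 2) F), by
      rw [Matrix.det_units_conj]; exact h.2⟩

theorem cg_coe (g : GL (Fin 2) F) (h : SpecialLinearGroup (Fin 2) F) :
    ((cg g h : SpecialLinearGroup (Fin 2) F) : Matrix (Fin 2) (Fin 2) F) =
      (g : Matrix (Fin 2) (Fin 2) F) * (h : Matrix (Fin 2) (Fin 2) F) *
      ((g⁻¹ : GL (Fin 2) F) : Matrix (Fin 2) (Fin 2) F) := rfl

theorem toGL_cg (g : GL (Fin 2) F) (h : SpecialLinearGroup (Fin 2) F) :
    SpecialLinearGroup.toGL (cg g h) = g * SpecialLinearGroup.toGL h * g⁻¹ := by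
  apply Units.ext
  rfl

theorem tau_cg (g : GL (Fin 2) F) (h : SpecialLinearGroup (Fin 2) F) :
    tauF F (piF F (cg g h)) =
      ProjGenLinGroup.mk g * tauF F (piF F h) * (ProjGenLinGroup.mk g)⁻¹ := by
  rw [tau_piF, tau_piF, toGL_cg, map_mul, map_mul, map_inv]

theorem tr_cg (g : GL (Fin 2) F) (h : SpecialLinearGroup (Fin 2) F) : tr (cg g h) = tr h := by
  have := Matrix.trace_units_conj g (h : Matrix (Fin 2) (Fin 2) F)
  rw [Matrix.trace_fin_two, Matrix.trace_fin_two] at this
  exact this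

theorem cg_mul (g : GL (Fin 2) F) (h h' : SpecialLinearGroup (Fin 2) F) :
    cg g (h * h') = cg g h * cg g h' := by
  apply SpecialLinearGroup.toGL_injective
  rw [toGL_cg, map_mul, map_mul, toGL_cg, toGL_cg]
  group

theorem cg_cg_inv (g : GL (Fin 2) F) (h : SpecialLinearGroup (Fin 2) F) :
    cg g (cg g⁻¹ h) = h := by
  apply SpecialLinearGroup.toGL_injective
  rw [toGL_cg, toGL_cg]
  group

theorem card_PG : Nat.card (Matrix.ProjGenLinGroup (Fin 2) F) =
    Fintype.card F * (Fintype.card F ^ 2 - 1) := by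
  rw [Cfsg.Agent.helper2.card_PGL_eq_card_SL, Cfsg.Agent.helper12.card_SL2]

instance finite_PG : Finite (Matrix.ProjGenLinGroup (Fin 2) F) := by
  apply Nat.finite_of_card_ne_zero
  rw [card_PG]
  have h2 : 2 ≤ Fintype.card F := Fintype.one_lt_card
  have : 1 < Fintype.card F ^ 2 := by nlinarith
  have : 0 < Fintype.card F ^ 2 - 1 := by omega
  positivity

theorem index_range_tau (h2 : (2 : F) ≠ 0) : (tauF F).range.index = 2 := by
  have h1 := Subgroup.card_mul_index (tauF F).range
  have h3 : Nat.card (tauF F).range =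
      Nat.card (Matrix.ProjectiveSpecialLinearGroup (Fin 2) F) :=
    (Nat.card_congr (MonoidHom.ofInjective tauF_injective).toEquiv).symm
  have h4 := two_mul_card_PSL (F := F) h2
  rw [card_PG, h3, ← h4] at h1
  have hpos : 0 < Nat.card (Matrix.ProjectiveSpecialLinearGroup (Fin 2) F) := Nat.card_pos
  have : Nat.card (Matrix.ProjectiveSpecialLinearGroup (Fin 2) F) * (tauF F).range.index =
      Nat.card (Matrix.ProjectiveSpecialLinearGroup (Fin 2) F) * 2 := by
    rw [h1]; ring
  exact Nat.eq_of_mul_eq_mul_left hpos this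

end Cfsg.Agent.helper4.My
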