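import Mathlib
import Cfsg.Agent.Lib_helper4_MyC
import Cfsg.Agent.S0805

set_option autoImplicit false
set_option linter.unusedSectionVars false
set_option maxHeartbeats 1600000

/-!
# The embedding of `PGL₂(F)` into `PSL₂` of an algebraically closed field
-/

namespace Cfsg.Agent.helper4.My

open Matrix
open scoped LinearAlgebra.Projectivization MatrixGroups
open Cfsg.Agent.helper4.Dk Cfsg.Agent.helper4.Dn Cfsg.Agent.helper4.Mx

variable {F : Type*} [Field F] [Fintype F] {K : Type*} [Field K] [Algebra F K] [IsAlgClosed K]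

theorem toPGL_iso (y : Matrix.ProjGenLinGroup (Fin 2) K) :
    Matrix.ProjectiveSpecialLinearGroup.toPGL
      (Matrix.ProjectiveSpecialLinearGroup.isoPSLOfAlgClosed (n := Fin 2) (F := K) y) = y := by
  unfold Matrix.ProjectiveSpecialLinearGroup.isoPSLOfAlgClosed
  rw [dif_pos (inferInstance : Nonempty (Fin 2))]
  unfold Matrix.ProjectiveSpecialLinearGroup.isoPSLOfAlgClosedOfNonempty
  exact MulEquiv.ofBijective_apply_symm_apply _ _

/-- the embedding `PGL₂(F) → PSL₂(K)` -/
noncomputable def EE (F : Type*) [Field F] (K : Type*) [Field K] [Algebra F K] [IsAlgClosed K] :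
    Matrix.ProjGenLinGroup (Fin 2) F →* Matrix.ProjectiveSpecialLinearGroup (Fin 2) K :=
  (Matrix.ProjectiveSpecialLinearGroup.isoPSLOfAlgClosed (n := Fin 2) (F := K)).toMonoidHom.comp
    (Matrix.ProjGenLinGroup.map (algebraMap F K))

theorem toPGL_EE (x : Matrix.ProjGenLinGroup (Fin 2) F) :
    Matrix.ProjectiveSpecialLinearGroup.toPGL (EE F K x) =
      Matrix.ProjGenLinGroup.map (algebraMap F K) x := by
  unfold EE
  rw [MonoidHom.comp_apply]
  exact toPGL_iso _

theorem EE_injective : Function.Injective (EE F K) := by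
  rw [injective_iff_map_eq_one]
  intro x hx
  have h1 := toPGL_EE (F := F) (K := K) x
  rw [hx, map_one] at h1
  induction x using Matrix.ProjGenLinGroup.induction_on with | mk g =>
  rw [Matrix.ProjGenLinGroup.map_mk] at h1
  have h2 : g ∈ ((ProjGenLinGroup.mk : GL (Fin 2) K →* ProjGenLinGroup (Fin 2) K).comp
      (GeneralLinearGroup.map (algebraMap F K))).ker := by
    rw [MonoidHom.mem_ker, MonoidHom.comp_apply]
    exact h1.symm
  rw [Cfsg.Agent.S0805.ker_gl_map] at h2
  rw [Matrix.ProjGenLinGroup.mk_eq_one]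
  exact h2

theorem EE_tau (h : SpecialLinearGroup (Fin 2) F) :
    EE F K (tauF F (piF F h)) = piF K (iota F K h) := by
  apply Matrix.ProjectiveSpecialLinearGroup.toPGL_injective
  rw [toPGL_EE, tau_piF, Matrix.ProjGenLinGroup.map_mk]
  show ProjGenLinGroup.mk (GeneralLinearGroup.map (algebraMap F K) (SpecialLinearGroup.toGL h)) =
    ProjGenLinGroup.mk (SpecialLinearGroup.toGL (iota F K h))
  congr 1
  apply Units.ext
  ext i j
  rw [GeneralLinearGroup.map_apply]
  rfl

/-- lifts of elements of `PGL₂(F)` are scalar multiples of rational matrices -/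
theorem EE_mk_lift (g : GL (Fin 2) F) (h : SpecialLinearGroup (Fin 2) K)
    (hh : piF K h = EE F K (ProjGenLinGroup.mk g)) :
    ∃ l : K, l ≠ 0 ∧ ∀ i j, h i j = algebraMap F K (g i j) * l := by
  have h1 : ProjGenLinGroup.mk (GeneralLinearGroup.map (algebraMap F K) g) =
      ProjGenLinGroup.mk (SpecialLinearGroup.toGL h) := by
    have := toPGL_EE (F := F) (K := K) (ProjGenLinGroup.mk g)
    rw [← hh, Matrix.ProjGenLinGroup.map_mk] at this
    exact this.symm
  rw [ProjGenLinGroup.mk_eq_mk_iff] at h1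
  obtain ⟨u, hu⟩ := h1
  refine ⟨u, u.ne_zero, ?_⟩
  intro i j
  have h2 := congrArg (fun x : GL (Fin 2) K => (x : Matrix (Fin 2) (Fin 2) K) i j) hu
  simp only [Units.val_mul, GeneralLinearGroup.coe_scalar] at h2
  rw [Matrix.scalar_apply, Matrix.mul_diagonal, GeneralLinearGroup.map_apply] at h2
  exact h2.symm

/-- **Lemma T**: an element of `PGL₂(F)` with a lift of nonzero rational trace lies in `PSL₂(F)` -/
theorem lemma_T (m : Matrix.ProjGenLinGroup (Fin 2) F) (h : SpecialLinearGroup (Fin 2) K)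
    (hh : piF K h = EE F K m) (t : F) (ht : tr h = algebraMap F K t) (ht0 : t ≠ 0) :
    ∃ g : SpecialLinearGroup (Fin 2) F, iota F K g = h ∧ tauF F (piF F g) = m := by
  induction m using Matrix.ProjGenLinGroup.induction_on with | mk g =>
  obtain ⟨l, hl0, hl⟩ := EE_mk_lift g h hh
  have htr : algebraMap F K ((g : Matrix (Fin 2) (Fin 2) F) 0 0 + (g : Matrix (Fin 2) (Fin 2) F) 1 1) * l =
      algebraMap F K t := by
    rw [← ht]
    unfold tr
    rw [hl, hl, map_add]; ring
  obtain ⟨s, hs⟩ : ∃ s, s = (g : Matrix (Fin 2) (Fin 2) F) 0 0 + (g : Matrix (Fin 2) (Fin 2) F) 1 1 :=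
    ⟨_, rfl⟩
  rw [← hs] at htr
  have hs0 : s ≠ 0 := by
    rintro rfl
    rw [map_zero, zero_mul] at htr
    apply ht0
    apply (algebraMap F K).injective
    rw [← htr, map_zero]
  have hsK : algebraMap F K s ≠ 0 := by
    intro h0
    apply hs0
    apply (algebraMap F K).injective
    rw [h0, map_zero]
  have hlam : l = algebraMap F K (t / s) := by
    rw [map_div₀]
    field_simp
    rw [← htr]; ring
  obtain ⟨lam, hlamdef⟩ : ∃ lam : F, lam = t / s := ⟨_, rfl⟩
  rw [← hlamdef] at hlam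
  have hent : ∀ i j, h i j = algebraMap F K ((g : Matrix (Fin 2) (Fin 2) F) i j * lam) := by
    intro i j
    rw [hl, hlam, map_mul]
  have hdet : (Matrix.of (fun i j => (g : Matrix (Fin 2) (Fin 2) F) i j * lam)).det = 1 := by
    apply (algebraMap F K).injective
    rw [map_one, det_fin_two]
    simp only [Matrix.of_apply, map_sub, map_mul]
    have hd := det_eq h
    rw [hl, hl, hl, hl, hlam] at hd
    rw [← hd]
  obtain ⟨g₀, hg₀⟩ : ∃ g₀ : SpecialLinearGroup (Fin 2) F,
      g₀ = ⟨Matrix.of (fun i j => (g : Matrix (Fin 2) (Fin 2) F) i j * lam), hdet⟩ := ⟨_, rfl⟩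
  have hg₀ent : ∀ i j, g₀ i j = (g : Matrix (Fin 2) (Fin 2) F) i j * lam := by
    intro i j; rw [hg₀]; rfl
  have hio : iota F K g₀ = h := by
    apply sl_ext'
    all_goals rw [iota_apply, hg₀ent, ← hent]
  refine ⟨g₀, hio, ?_⟩
  apply EE_injective (K := K)
  rw [EE_tau, hio, hh]


theorem N2_mono {H₁ H₂ : Subgroup (SpecialLinearGroup (Fin 2) K)} [Finite H₂] (hle : H₁ ≤ H₂)
    (y : ℙ K (Fin 2 → K)) : N2 H₁ y ≤ N2 H₂ y := by
  unfold N2
  apply Set.ncard_le_ncard
  · rintro g ⟨h1, h2⟩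
    exact ⟨hle h1, h2⟩
  · apply Set.Finite.subset (Set.toFinite (H₂ : Set (SpecialLinearGroup (Fin 2) K)))
    intro x hx
    exact hx.1

theorem parab_fix_unique {g : SpecialLinearGroup (Fin 2) K} (hg1 : g ≠ 1) (hg2 : g ≠ -1)
    (htr : tr g ^ 2 = 4) {y y' : ℙ K (Fin 2 → K)} (hy : g • y = y) (hy' : g • y' = y') : y = y' := by
  have h1 := (ncard_fix' g hg1 hg2).1 htr
  obtain ⟨w, hw⟩ := Set.ncard_eq_one.mp h1
  have e1 : y ∈ {y : ℙ K (Fin 2 → K) | g • y = y} := hy
  have e2 : y' ∈ {y : ℙ K (Fin 2 → K) | g • y = y} := hy'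
  rw [hw, Set.mem_singleton_iff] at e1 e2
  rw [e1, e2]

omit [IsAlgClosed K] in
theorem sq_of_tr_zero {h : SpecialLinearGroup (Fin 2) K} (ht : tr h = 0) : h * h = -1 := by
  have hd := det_eq h
  unfold tr at ht
  have h11 : h 1 1 = -h 0 0 := by linear_combination ht
  apply sl_ext'
  · rw [mul_00]
    simp only [Matrix.SpecialLinearGroup.coe_neg, Matrix.SpecialLinearGroup.coe_one,
      Matrix.neg_apply, Matrix.one_apply_eq]
    rw [h11] at hd
    linear_combination -hd
  · rw [mul_01]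
    simp only [Matrix.SpecialLinearGroup.coe_neg, Matrix.SpecialLinearGroup.coe_one,
      Matrix.neg_apply, Matrix.one_apply_ne (show (0 : Fin 2) ≠ 1 by decide)]
    rw [h11]; ring
  · rw [mul_10]
    simp only [Matrix.SpecialLinearGroup.coe_neg, Matrix.SpecialLinearGroup.coe_one,
      Matrix.neg_apply, Matrix.one_apply_ne (show (1 : Fin 2) ≠ 0 by decide)]
    rw [h11]; ring
  · rw [mul_11]
    simp only [Matrix.SpecialLinearGroup.coe_neg, Matrix.SpecialLinearGroup.coe_one,
      Matrix.neg_apply, Matrix.one_apply_eq]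
    rw [h11] at hd ⊢
    linear_combination -hd

/-- if all traces are rational, a parabolic fixed point is fixed by everything -/
theorem trace_rat_fix (h2K : (2 : K) ≠ 0) {M : Subgroup (Matrix.ProjGenLinGroup (Fin 2) F)}
    (hML : ¬ M ≤ (tauF F).range) {y₀ : ℙ K (Fin 2 → K)} {u : SpecialLinearGroup (Fin 2) K}
    (huH : piF K u ∈ M.map (EE F K)) (hu1 : u ≠ 1) (hu2 : u ≠ -1) (hutr : tr u ^ 2 = 4)
    (huy : u • y₀ = y₀)
    (htr : ∀ h : SpecialLinearGroup (Fin 2) K, piF K h ∈ M.map (EE F K) →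
      tr h ∈ Set.range (algebraMap F K)) :
    ∀ h : SpecialLinearGroup (Fin 2) K, piF K h ∈ M.map (EE F K) → h • y₀ = y₀ := by
  -- elements outside `L` have trace zero
  have hA : ∀ (m : Matrix.ProjGenLinGroup (Fin 2) F) (h : SpecialLinearGroup (Fin 2) K),
      m ∈ M → m ∉ (tauF F).range → piF K h = EE F K m → tr h = 0 := by
    intro m h hm hmL hh
    obtain ⟨t, ht⟩ := htr h (by rw [hh]; exact Subgroup.mem_map_of_mem _ hm)
    by_cases ht0 : t = 0
    · rw [← ht, ht0, map_zero]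
    · exfalso
      obtain ⟨g, -, hg⟩ := lemma_T m h hh t ht.symm ht0
      exact hmL ⟨_, hg⟩
  obtain ⟨mu, hmuM, hmu⟩ := huH
  have hmuL : mu ∈ (tauF F).range := by
    obtain ⟨t, ht⟩ := htr u (by rw [← hmu]; exact Subgroup.mem_map_of_mem _ hmuM)
    have ht0 : t ≠ 0 := by
      rintro rfl
      rw [map_zero] at ht
      rw [← ht] at hutr
      have : (4 : K) = 0 := by rw [← hutr]; ring
      apply h2K
      have h4 : (2 : K) * 2 = 0 := by rw [← this]; norm_num
      exact (mul_self_eq_zero.mp h4)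
    obtain ⟨g, -, hg⟩ := lemma_T mu u hmu.symm t ht.symm ht0
    exact ⟨_, hg⟩
  have hB : ∀ (m : Matrix.ProjGenLinGroup (Fin 2) F) (h : SpecialLinearGroup (Fin 2) K),
      m ∈ M → m ∉ (tauF F).range → piF K h = EE F K m → h • y₀ = y₀ := by
    intro m h hm hmL hh
    have h1 : h * h = -1 := sq_of_tr_zero (hA m h hm hmL hh)
    have hmmu : m * mu ∉ (tauF F).range := by
      intro hc
      apply hmL
      have := (tauF F).range.mul_mem hc ((tauF F).range.inv_mem hmuL)
      rwa [mul_inv_cancel_right] at this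
    have h2 : (h * u) * (h * u) = -1 :=
      sq_of_tr_zero (hA (m * mu) (h * u) (M.mul_mem hm hmuM) hmmu (by rw [map_mul, map_mul, hh, hmu]))
    have h3 : u * h * u = h := by
      have e : h * (u * h * u) = h * h := by
        rw [h1, ← h2]; group
      exact mul_left_cancel e
    have h4 : u • (h • y₀) = h • y₀ := by
      have := congrArg (fun x : SpecialLinearGroup (Fin 2) K => x • y₀) h3
      simp only [mul_smul] at this
      rw [huy] at this
      exact this
    exact (parab_fix_unique hu1 hu2 hutr huy h4).symm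
  obtain ⟨m₂, hm₂M, hm₂L⟩ := SetLike.not_le_iff_exists.mp hML
  obtain ⟨h₂, hh₂⟩ := piF_surj' (L := K) (EE F K m₂)
  have hfix₂ := hB m₂ h₂ hm₂M hm₂L hh₂
  rintro h ⟨m, hm, hmh⟩
  by_cases hmL : m ∈ (tauF F).range
  · have hmm₂ : m * m₂ ∉ (tauF F).range := by
      intro hc
      apply hm₂L
      have := (tauF F).range.mul_mem ((tauF F).range.inv_mem hmL) hc
      rwa [inv_mul_cancel_left] at this
    have := hB (m * m₂) (h * h₂) (M.mul_mem hm hm₂M) hmm₂ (by rw [map_mul, map_mul, hh₂, hmh])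
    rw [mul_smul, hfix₂] at this
    exact this
  · exact hB m h hm hmL hmh.symm

theorem field_numerics2 {p a f q₁ q N : ℕ} (hp : p.Prime) (ha : 1 ≤ a) (hf : 1 ≤ f)
    (hq₁ : q₁ = p ^ a) (hq : q = p ^ f) (h1 : q₁ * (q₁ ^ 2 - 1) ∣ 2 * N)
    (h2 : N ∣ q * (q ^ 2 - 1)) : ∃ m, q₁ ^ m = q := by
  have hp2 := hp.two_le
  have hd : q₁ ^ 2 - 1 ∣ q * (2 * (q ^ 2 - 1)) := by
    have : 2 * N ∣ q * (2 * (q ^ 2 - 1)) := by
      obtain ⟨c, hc⟩ := h2
      exact ⟨c, by
        calc q * (2 * (q ^ 2 - 1)) = 2 * (q * (q ^ 2 - 1)) := by ring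
          _ = 2 * (N * c) := by rw [hc]
          _ = 2 * N * c := by ring⟩
    exact (dvd_mul_left _ _).trans (h1.trans this)
  have hq₁1 : 1 ≤ q₁ ^ 2 := by rw [hq₁]; exact Nat.one_le_pow _ _ (by positivity)
  have hcop : Nat.Coprime (q₁ ^ 2 - 1) q := by
    rw [hq]
    apply Nat.Coprime.pow_right
    rw [Nat.coprime_comm, Nat.Prime.coprime_iff_not_dvd hp]
    intro hdvd
    have h5 : p ∣ q₁ ^ 2 := by
      rw [hq₁]
      exact dvd_pow (dvd_pow_self p (by omega)) (by norm_num)
    have h7 : p ∣ 1 := by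
      have := (Nat.dvd_sub h5 hdvd)
      rwa [Nat.sub_sub_self hq₁1] at this
    exact hp.one_lt.ne' (Nat.dvd_one.mp h7)
  have hd2 : q₁ ^ 2 - 1 ∣ 2 * (q ^ 2 - 1) := hcop.dvd_of_dvd_mul_left hd
  rw [hq₁, hq, ← pow_mul, ← pow_mul] at hd2
  have h3 : a * 2 ∣ f * 2 :=
    dvd_of_pow_sub_one_dvd_two hp2 (by omega) (by omega) hd2
  obtain ⟨m, hm⟩ := h3
  refine ⟨m, ?_⟩
  rw [hq₁, hq, ← pow_mul]
  congr 1
  nlinarith

omit [IsAlgClosed K] in
theorem mem_range_of_pow_card (p : ℕ) [Fact p.Prime] [CharP K p] {x : K}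
    (hx : x ^ Fintype.card F = x) : x ∈ Set.range (algebraMap F K) := by
  haveI : CharP F p := (algebraMap F K).charP_iff_charP p |>.mpr inferInstance
  obtain ⟨n, -, hn⟩ := FiniteField.card F p
  have he : (n : ℕ) ≠ 0 := n.ne_zero
  obtain ⟨hfin, hcard⟩ := frobS_finite (K := K) p he
  have hsub : Set.range (algebraMap F K) ⊆ (frobS (K := K) p n : Set K) := by
    rintro _ ⟨y, rfl⟩
    change (algebraMap F K y) ^ p ^ (n : ℕ) = algebraMap F K y
    rw [← map_pow, ← hn, FiniteField.pow_card]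
  have hr : (Set.range (algebraMap F K)).ncard = p ^ (n : ℕ) := by
    rw [← Set.image_univ, Set.ncard_image_of_injective _ (algebraMap F K).injective, Set.ncard_univ,
      Nat.card_eq_fintype_card, hn]
  have := Set.eq_of_subset_of_ncard_le hsub (by rw [hr]; exact hcard) hfin
  rw [this]
  change x ^ p ^ (n : ℕ) = x
  rw [← hn]; exact hx

end Cfsg.Agent.helper4.My
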