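import Mathlib
import Cfsg.Agent.Lib_helper4_MxR

set_option autoImplicit false
set_option linter.unusedSectionVars false
set_option maxHeartbeats 3200000

/-!
# `par_iso` in odd characteristic: no dihedral alternative
-/

namespace Cfsg.Agent.helper4.My

open Matrix
open scoped LinearAlgebra.Projectivization MatrixGroups
open Cfsg.Agent.helper4.Dk Cfsg.Agent.helper4.Dn Cfsg.Agent.helper4.Mx

variable {K : Type*} [Field K] [IsAlgClosed K]

theorem par_iso2 {p : ℕ} [Fact p.Prime] [CharP K p] (h2K : (2 : K) ≠ 0)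
    (G : Subgroup (Matrix.ProjectiveSpecialLinearGroup (Fin 2) K)) [Finite G]
    (hu1 : uS 1 ∈ G.comap (piF K)) {g₂ : SpecialLinearGroup (Fin 2) K}
    (hg₂ : g₂ ∈ G.comap (piF K)) (hg₂0 : g₂ • (pInf : ℙ K (Fin 2 → K)) = pt 0) :
    (p = 3 ∧ Nonempty (G ≃* alternatingGroup (Fin 5))) ∨
    (∃ (Kf : Type) (_ : Field Kf) (_ : Fintype Kf) (a : ℕ), 1 ≤ a ∧ Fintype.card Kf = p ^ a ∧
        Fintype.card Kf * (Fintype.card Kf ^ 2 - 1) ∣ Nat.card (G.comap (piF K)) ∧
        (∃ x ∈ G.comap (piF K), ∃ y ∈ G.comap (piF K), x * x = -1 ∧ y * y = -1 ∧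
          x * y = -(y * x)) ∧
        ((Nonempty (G ≃* Matrix.ProjectiveSpecialLinearGroup (Fin 2) Kf) ∧
            ∀ h ∈ G.comap (piF K), tr h ^ p ^ a = tr h) ∨
          (Nonempty (G ≃* Matrix.ProjGenLinGroup (Fin 2) Kf) ∧
            ∀ h ∈ G.comap (piF K), tr h ^ p ^ (2 * a) = tr h))) := by
  classical
  haveI := finite_comap_piF G
  obtain ⟨H, hHdef⟩ : ∃ H, H = G.comap (piF K) := ⟨_, rfl⟩
  rw [← hHdef] at hu1 hg₂ ⊢
  haveI : Finite H := by rw [hHdef]; infer_instance
  have hH : -1 ∈ H := by rw [hHdef]; exact neg_one_mem_comap G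
  have hmove : ∃ g ∈ H, g • (pInf : ℙ K (Fin 2 → K)) ≠ pInf :=
    ⟨g₂, hg₂, by rw [hg₂0]; exact pt_ne_pInf 0⟩
  obtain ⟨y₁, s, c, k, hy₁O, hs2, hc1, hk1, hstab, hYeq, hN2, hGB, hcq, hn, heq, hcard, hcases⟩ :=
    structure_z H hH hu1 one_ne_zero hmove
  obtain ⟨q₁, hq₁⟩ : ∃ q₁, q₁ = Nat.card (AA H) := ⟨_, rfl⟩
  obtain ⟨n, hndef⟩ : ∃ n, n = (orb H pInf).ncard := ⟨_, rfl⟩
  rw [← hq₁] at hGB hcq hn heq hcard hcases
  rw [← hndef] at hn heq hcard
  have hz1 := zc_pos K
  have hfield : n = 1 + q₁ →
      (∃ (Kf : Type) (_ : Field Kf) (_ : Fintype Kf) (a : ℕ), 1 ≤ a ∧ Fintype.card Kf = p ^ a ∧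
        Fintype.card Kf * (Fintype.card Kf ^ 2 - 1) ∣ Nat.card H ∧
        (∃ x ∈ H, ∃ y ∈ H, x * x = -1 ∧ y * y = -1 ∧ x * y = -(y * x)) ∧
        ((Nonempty (G ≃* Matrix.ProjectiveSpecialLinearGroup (Fin 2) Kf) ∧
            ∀ h ∈ H, tr h ^ p ^ a = tr h) ∨
          (Nonempty (G ≃* Matrix.ProjGenLinGroup (Fin 2) Kf) ∧
            ∀ h ∈ H, tr h ^ p ^ (2 * a) = tr h))) := by
    intro hn1
    obtain ⟨A, hAset, hsl, hpt⟩ := field_case H hH hu1 hg₂ hg₂0 (by rw [← hndef, ← hq₁, hn1])
    haveI : Finite ((A : Set K)) := by rw [hAset]; exact (inferInstance : Finite (AA H))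
    haveI : Finite A := this
    have hAcard : Nat.card A = q₁ := by
      have h1 : Nat.card A = (A : Set K).ncard := rfl
      have h2 : Nat.card (AA H) = (AA H : Set K).ncard := rfl
      rw [h1, hAset, ← h2, hq₁]
    letI : Fintype A := Fintype.ofFinite A
    haveI : CharP A p := RingHom.charP A.subtype Subtype.val_injective p
    obtain ⟨a, -, ha⟩ := FiniteField.card A p
    letI : Fintype (GaloisField p a) := Fintype.ofFinite _
    have hKfcard : Fintype.card (GaloisField p a) = p ^ (a : ℕ) := by
      rw [← Nat.card_eq_fintype_card]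
      exact GaloisField.card p a a.ne_zero
    have e : GaloisField p a ≃+* A := FiniteField.ringEquivOfCardEq (by rw [hKfcard, ha])
    obtain ⟨ι, hι⟩ : ∃ ι : GaloisField p a →+* K, ι = A.subtype.comp (e : GaloisField p a →+* A) :=
      ⟨_, rfl⟩
    have hrange : ∀ x : K, x ∈ Set.range ι ↔ x ∈ A := by
      intro x
      constructor
      · rintro ⟨y, rfl⟩
        rw [hι]
        exact (e y).2
      · intro hx
        refine ⟨e.symm ⟨x, hx⟩, ?_⟩
        rw [hι]
        simp
    have hq₁card : q₁ = Fintype.card (GaloisField p a) := by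
      rw [← hAcard, Nat.card_eq_fintype_card, ha, hKfcard]
    have hSA : (SpecialLinearGroup.map (n := Fin 2) ι).range ≤ H := by
      intro g hg
      rw [mem_range_slmap_iff] at hg
      exact hsl g (fun i j => (hrange _).mp (hg i j))
    have hSAcard := card_range_slmap ι
    have hApow : ∀ x : K, x ∈ A → x ^ p ^ (a : ℕ) = x := by
      intro x hx
      have := FiniteField.pow_card (⟨x, hx⟩ : A)
      rw [ha] at this
      exact congrArg Subtype.val this
    refine ⟨GaloisField p a, inferInstance, inferInstance, a, a.pos, hKfcard, ?_, ?_, ?_⟩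
    · rw [← hSAcard]
      exact Subgroup.card_dvd_of_le hSA
    · -- the quaternion pair
      obtain ⟨k₂, k₃, hk⟩ := CharP.sq_add_sq K p (-1)
      have hk' : (k₂ : K) ^ 2 + (k₃ : K) ^ 2 = -1 := by
        rw [hk]; simp
      have hdx : (!![(k₂ : K), (k₃ : K); (k₃ : K), -(k₂ : K)] : Matrix (Fin 2) (Fin 2) K).det = 1 := by
        rw [det_fin_two_of]; linear_combination -hk'
      have hdy : (!![(0 : K), 1; -1, 0] : Matrix (Fin 2) (Fin 2) K).det = 1 := by
        rw [det_fin_two_of]; ring
      obtain ⟨x, hxdef⟩ : ∃ x : SpecialLinearGroup (Fin 2) K,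
          x = ⟨!![(k₂ : K), (k₃ : K); (k₃ : K), -(k₂ : K)], hdx⟩ := ⟨_, rfl⟩
      obtain ⟨y, hydef⟩ : ∃ y : SpecialLinearGroup (Fin 2) K,
          y = ⟨!![(0 : K), 1; -1, 0], hdy⟩ := ⟨_, rfl⟩
      have x00 : x 0 0 = k₂ := by rw [hxdef]; rfl
      have x01 : x 0 1 = k₃ := by rw [hxdef]; rfl
      have x10 : x 1 0 = k₃ := by rw [hxdef]; rfl
      have x11 : x 1 1 = -k₂ := by rw [hxdef]; rfl
      have y00 : y 0 0 = 0 := by rw [hydef]; rfl
      have y01 : y 0 1 = 1 := by rw [hydef]; rfl
      have y10 : y 1 0 = -1 := by rw [hydef]; rfl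
      have y11 : y 1 1 = 0 := by rw [hydef]; rfl
      refine ⟨x, ?_, y, ?_, ?_, ?_, ?_⟩
      · apply hsl
        intro i j
        fin_cases i <;> fin_cases j
        · show x 0 0 ∈ A
          rw [x00]; exact natCast_mem A k₂
        · show x 0 1 ∈ A
          rw [x01]; exact natCast_mem A k₃
        · show x 1 0 ∈ A
          rw [x10]; exact natCast_mem A k₃
        · show x 1 1 ∈ A
          rw [x11]; exact A.neg_mem (natCast_mem A k₂)
      · apply hsl
        intro i j
        fin_cases i <;> fin_cases j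
        · show y 0 0 ∈ A
          rw [y00]; exact A.zero_mem
        · show y 0 1 ∈ A
          rw [y01]; exact A.one_mem
        · show y 1 0 ∈ A
          rw [y10]; exact A.neg_mem A.one_mem
        · show y 1 1 ∈ A
          rw [y11]; exact A.zero_mem
      · apply sl_ext'
        · rw [mul_00, neg_entries, one_00, x00, x01, x10]
          linear_combination hk'
        · rw [mul_01, neg_entries, one_01, x00, x01, x11]
          ring
        · rw [mul_10, neg_entries, one_10, x00, x10, x11]
          ring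
        · rw [mul_11, neg_entries, one_11, x01, x10, x11]
          linear_combination hk'
      · apply sl_ext'
        · rw [mul_00, neg_entries, one_00, y00, y01, y10]
          ring
        · rw [mul_01, neg_entries, one_01, y00, y01, y11]
          ring
        · rw [mul_10, neg_entries, one_10, y00, y10, y11]
          ring
        · rw [mul_11, neg_entries, one_11, y01, y10, y11]
          ring
      · apply sl_ext'
        · rw [mul_00, neg_entries, mul_00, x00, x01, y00, y10, y01, x10]
          ring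
        · rw [mul_01, neg_entries, mul_01, x00, x01, y01, y11, y00, x11]
          ring
        · rw [mul_10, neg_entries, mul_10, x10, x11, y00, y10, y11, x00]
          ring
        · rw [mul_11, neg_entries, mul_11, x10, x11, y01, y11, y10, x01]
          ring
    by_cases hEq : H = (SpecialLinearGroup.map (n := Fin 2) ι).range
    · left
      have hG : G = pslD ι := by
        apply Subgroup.comap_injective (piF_surj' (L := K))
        rw [comap_pslD, ← hHdef]
        exact hEq
      obtain ⟨e'⟩ := pslD_equiv ι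
      refine ⟨⟨(MulEquiv.subgroupCongr hG).trans e'⟩, ?_⟩
      intro h hh
      rw [hEq, mem_range_slmap_iff] at hh
      apply hApow
      unfold tr
      exact A.add_mem ((hrange _).mp (hh 0 0)) ((hrange _).mp (hh 1 1))
    · right
      obtain ⟨h, hh, hhS⟩ := SetLike.exists_of_lt (lt_of_le_of_ne hSA (Ne.symm hEq))
      have hhA : ¬ ∀ i j, h i j ∈ A := by
        intro hall
        apply hhS
        rw [mem_range_slmap_iff]
        exact fun i j => (hrange _).mpr (hall i j)
      obtain ⟨t, ht0, htH, ht2, htA⟩ := exists_diag_of_not_mem H hu1 A hAset hsl hpt hh hhA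
      -- cardinalities
      have hq2 : 2 ≤ q₁ := by
        rw [hq₁card]; exact Fintype.one_lt_card
      obtain ⟨m, hm⟩ := Subgroup.card_dvd_of_le hSA
      rw [hSAcard, ← hq₁card] at hm
      have hm2 : 2 ≤ m := by
        by_contra hlt
        push Not at hlt
        have hpos : 0 < Nat.card H := Nat.card_pos
        interval_cases m
        · omega
        · apply hEq
          symm
          apply Subgroup.eq_of_le_of_card_ge hSA
          rw [hSAcard, ← hq₁card, hm]; omega
      have hS : q₁ * (q₁ ^ 2 - 1) = (1 + q₁) * q₁ * (q₁ - 1) := by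
        rw [← x_cube_id q₁ (by omega)]; ring
      have hzc : zc K * c = m * (q₁ - 1) := by
        have h1 : (1 + q₁) * q₁ * (zc K * c) = (1 + q₁) * q₁ * (m * (q₁ - 1)) := by
          calc (1 + q₁) * q₁ * (zc K * c) = zc K * (n * q₁ * c) := by rw [hn1]; ring
            _ = Nat.card H := hcard.symm
            _ = q₁ * (q₁ ^ 2 - 1) * m := hm
            _ = (1 + q₁) * q₁ * (m * (q₁ - 1)) := by rw [hS]; ring
        exact Nat.eq_of_mul_eq_mul_left (by positivity) h1
      have hz2 : zc K = 2 ∧ m = 2 := by
        have hmq : 2 * (q₁ - 1) ≤ m * (q₁ - 1) := Nat.mul_le_mul_right _ hm2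
        rcases zc_cases K with ⟨hz, _⟩ | ⟨hz, _⟩
        · refine ⟨hz, ?_⟩
          rw [hz] at hzc
          by_contra hne
          have hm3 : 3 ≤ m := by omega
          have : 3 * (q₁ - 1) ≤ m * (q₁ - 1) := Nat.mul_le_mul_right _ hm3
          omega
        · exfalso
          rw [hz, one_mul] at hzc
          omega
      have hcard' : Nat.card H = 2 * (Fintype.card (GaloisField p a) *
          (Fintype.card (GaloisField p a) ^ 2 - 1)) := by
        rw [hm, hz2.2, ← hq₁card]; ring
      have hsq : ∀ d : GaloisField p a, d ≠ 0 → IsSquare (ι d) := by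
        intro d _
        obtain ⟨z, hz⟩ := IsAlgClosed.exists_eq_mul_self (ι d)
        exact ⟨z, hz⟩
      have hHD := eq_comap_pglD ι hsq H hSA ht0 htH ((hrange _).mpr ht2)
        (fun h => htA ((hrange _).mp h)) hz2.1 hcard'
      have hG : G = pglD ι := by
        apply Subgroup.comap_injective (piF_surj' (L := K))
        rw [← hHdef]
        exact hHD
      obtain ⟨e'⟩ := pglD_equiv ι hsq
      refine ⟨⟨(MulEquiv.subgroupCongr hG).trans e'⟩, ?_⟩
      -- traces lie in the quadratic extension
      have hA2 : ∀ x : K, x ∈ A → x ∈ frobS (K := K) p (2 * (a : ℕ)) := by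
        intro x hx
        rw [mem_frobS, mul_comm, pow_mul, pow_two, pow_mul, hApow x hx, hApow x hx]
      have htpow : t ∈ frobS (K := K) p (2 * (a : ℕ)) := by
        rw [mem_frobS]
        have h1 : (t ^ 2) ^ p ^ (a : ℕ) = t ^ 2 := hApow _ ht2
        have hpodd : Odd (p ^ (a : ℕ)) := by
          apply Odd.pow
          apply (Fact.out : p.Prime).odd_of_ne_two
          rintro rfl
          apply h2K
          have := CharP.cast_eq_zero K 2
          exact_mod_cast this
        -- `t ^ (p^a) = ± t`
        have h3 : (t ^ p ^ (a : ℕ)) ^ 2 = t ^ 2 := by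
          rw [← pow_mul, mul_comm, pow_mul, h1]
        have h4 : t ^ p ^ (a : ℕ) = t ∨ t ^ p ^ (a : ℕ) = -t := by
          have : (t ^ p ^ (a : ℕ) - t) * (t ^ p ^ (a : ℕ) + t) = 0 := by
            linear_combination h3
          rcases mul_eq_zero.mp this with h | h
          · left; linear_combination h
          · right; linear_combination h
        rw [mul_comm, pow_mul, pow_two, pow_mul]
        rcases h4 with h | h
        · rw [h, h]
        · rw [h, neg_pow, h, Odd.neg_one_pow hpodd]
          ring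
      obtain ⟨W, hW⟩ : ∃ W, W = (SpecialLinearGroup.map (n := Fin 2)
          (frobS (K := K) p (2 * (a : ℕ))).subtype).range := ⟨_, rfl⟩
      have hmemW : ∀ g : SpecialLinearGroup (Fin 2) K, g ∈ W ↔
          ∀ i j, g i j ∈ frobS (K := K) p (2 * (a : ℕ)) := by
        intro g
        rw [hW, mem_range_slmap_iff]
        constructor
        · intro h i j
          obtain ⟨y, hy⟩ := h i j
          rw [← hy]
          exact y.2
        · intro h i j
          exact ⟨⟨_, h i j⟩, rfl⟩
      have hHW : H ≤ W := by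
        apply le_of_index_two _ H W hSA (by rw [hcard', hSAcard]) ?_ htH ?_ ?_
        · intro g hg
          rw [mem_range_slmap_iff] at hg
          rw [hmemW]
          intro i j
          exact hA2 _ ((hrange _).mp (hg i j))
        · rw [hmemW]
          intro i j
          fin_cases i <;> fin_cases j
          · show (dS t ht0) 0 0 ∈ _
            rw [dS_00]; exact htpow
          · show (dS t ht0) 0 1 ∈ _
            rw [dS_01]; exact Subfield.zero_mem _
          · show (dS t ht0) 1 0 ∈ _
            rw [dS_10]; exact Subfield.zero_mem _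
          · show (dS t ht0) 1 1 ∈ _
            rw [dS_11]; exact Subfield.inv_mem _ htpow
        · intro hmem
          rw [mem_range_slmap_iff] at hmem
          apply htA
          have := hmem 0 0
          rw [dS_00] at this
          exact (hrange _).mp this
      intro h hh
      have := (hmemW h).mp (hHW hh)
      rw [← mem_frobS]
      unfold tr
      exact Subfield.add_mem _ (this 0 0) (this 1 1)
  rcases hcases with hq2 | hk | ⟨hq3, hk3, hc2, hs5⟩
  · exfalso
    have hcast := CharP.cast_eq_zero K p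
    have h1 : (1 : K) ∈ AA H := mem_AA.mpr hu1
    have hfinAA : Finite (AA H) := by
      apply Nat.finite_of_card_ne_zero
      rw [← hq₁, hq2]; norm_num
    have h2 : addOrderOf (⟨1, h1⟩ : AA H) ∣ Nat.card (AA H) := addOrderOf_dvd_natCard _
    have h3 : addOrderOf (⟨1, h1⟩ : AA H) = addOrderOf (1 : K) :=
      (AddSubgroup.addOrderOf_coe (⟨1, h1⟩ : AA H)).symm
    haveI : CharP K (addOrderOf (1 : K)) := CharP.addOrderOf_one K
    have h4 : addOrderOf (1 : K) = p := CharP.eq K this ‹CharP K p›
    rw [h3, h4, ← hq₁, hq2] at h2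
    have hp2 : p = 2 := ((Nat.prime_dvd_prime_iff_eq (Fact.out : p.Prime) Nat.prime_two).mp h2)
    apply h2K
    rw [hp2] at hcast
    exact_mod_cast hcast
  · right
    apply hfield
    rw [hn, hk, one_mul]
  · left
    constructor
    · have h1 : (1 : K) ∈ AA H := mem_AA.mpr hu1
      have hfinAA : Finite (AA H) := by
        apply Nat.finite_of_card_ne_zero
        rw [← hq₁, hq3]; norm_num
      have h2 : addOrderOf (⟨1, h1⟩ : AA H) ∣ Nat.card (AA H) := addOrderOf_dvd_natCard _
      have h3 : addOrderOf (⟨1, h1⟩ : AA H) = addOrderOf (1 : K) :=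
        (AddSubgroup.addOrderOf_coe (⟨1, h1⟩ : AA H)).symm
      haveI : CharP K (addOrderOf (1 : K)) := CharP.addOrderOf_one K
      have h4 : addOrderOf (1 : K) = p := CharP.eq K this ‹CharP K p›
      rw [h3, h4, ← hq₁, hq3] at h2
      exact ((Nat.prime_dvd_prime_iff_eq (Fact.out : p.Prime) Nat.prime_three).mp h2)
    subst hHdef
    apply alt5_of_stab G y₁ (by rw [hstab, hs5])
    rw [hcard, hn, hq3, hk3, hc2]

end Cfsg.Agent.helper4.My
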