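import Mathlib
import Cfsg.Agent.Lib_helper4_MyA
import Cfsg.Agent.Lib_helper4_MyB
import Cfsg.Agent.Lib_helper4_MyD

set_option autoImplicit false
set_option linter.unusedSectionVars false
set_option maxHeartbeats 1600000

/-!
# Maximal subgroups of `PGL₂(F)` not containing `PSL₂(F)`: general set-up, abelian and Borel cases
-/

namespace Cfsg.Agent.helper4.My

open Matrix
open scoped LinearAlgebra.Projectivization MatrixGroups
open Cfsg.Agent.helper4.Dk Cfsg.Agent.helper4.Dn Cfsg.Agent.helper4.Mx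

variable {F : Type*} [Field F] [Fintype F]

local notation "PG" => Matrix.ProjGenLinGroup (Fin 2) F
local notation "PS" => Matrix.ProjectiveSpecialLinearGroup (Fin 2) F

theorem range_tau_ne_top (h2 : (2 : F) ≠ 0) : (tauF F).range ≠ ⊤ := by
  intro h
  have := index_range_tau h2
  rw [h, Subgroup.index_top] at this
  omega

theorem not_le_range {M : Subgroup PG} (hM : IsCoatom M) (h2 : (2 : F) ≠ 0)
    (hML : ¬ (tauF F).range ≤ M) : ¬ M ≤ (tauF F).range := by
  intro hle
  rcases eq_or_lt_of_le hle with h | h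
  · exact hML (h ▸ le_refl _)
  · exact range_tau_ne_top h2 (hM.2 _ h)

theorem card_M_eq {M : Subgroup PG} (hM : IsCoatom M) (h2 : (2 : F) ≠ 0)
    (hML : ¬ (tauF F).range ≤ M) : Nat.card M = 2 * Nat.card (M.comap (tauF F)) := by
  have h1 := card_inf_of_index_two (tauF F).range M (index_range_tau h2) (not_le_range hM h2 hML)
  have h3 : Nat.card (M ⊓ (tauF F).range : Subgroup PG) = Nat.card (M.comap (tauF F)) := by
    rw [inf_comm, ← Subgroup.map_comap_eq (tauF F) M]
    exact Subgroup.card_map_of_injective tauF_injective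
  rw [h1, h3]

theorem sq_mem_range (h2 : (2 : F) ≠ 0) (g : PG) : g * g ∈ (tauF F).range :=
  Subgroup.mul_self_mem_of_index_two (index_range_tau h2) g

theorem comap_ne_top {M : Subgroup PG} (hML : ¬ (tauF F).range ≤ M) : M.comap (tauF F) ≠ ⊤ := by
  intro h
  apply hML
  rintro _ ⟨x, rfl⟩
  have : x ∈ M.comap (tauF F) := by rw [h]; trivial
  exact this

theorem cg_mem_M {M : Subgroup PG} {g : GL (Fin 2) F} (hg : ProjGenLinGroup.mk g ∈ M)
    {h : SpecialLinearGroup (Fin 2) F} (hh : tauF F (piF F h) ∈ M) :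
    tauF F (piF F (cg g h)) ∈ M := by
  rw [tau_cg]
  exact M.mul_mem (M.mul_mem hg hh) (M.inv_mem hg)

/-- an invariant subgroup between the trace of `M` on `PSL₂(F)` and the whole group is trivial -/
theorem rel_sub [IsSimpleGroup PS] {M : Subgroup PG} (hM : IsCoatom M)
    (X' : Subgroup (SpecialLinearGroup (Fin 2) F))
    (hinv : ∀ g : GL (Fin 2) F, ProjGenLinGroup.mk g ∈ M → ∀ h ∈ X', cg g h ∈ X')
    (hbot : X'.map (piF F) ≠ ⊥) (htop : X'.map (piF F) ≠ ⊤) :
    X'.map (piF F) ≤ M.comap (tauF F) := by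
  refine le_trans Subgroup.le_normalizer
    (rel_normalizer_le (tauF F) tauF_injective hM _ hbot htop ?_)
  intro m hm
  obtain ⟨g, rfl⟩ := ProjGenLinGroup.mk_surjective m
  apply mem_normalizer_of_conj_mem
  rintro v ⟨x, ⟨h, hh, rfl⟩, rfl⟩
  rw [← tau_cg]
  exact ⟨_, ⟨_, hinv g hm h hh, rfl⟩, rfl⟩

theorem four_dvd_card_PG (hodd : Odd (Fintype.card F)) : 4 ∣ Nat.card PG := by
  rw [card_PG]
  obtain ⟨t, ht⟩ := hodd
  rw [ht]
  have e : (2 * t + 1) ^ 2 - 1 = 4 * (t * (t + 1)) := by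
    have : (2 * t + 1) ^ 2 = 4 * (t * (t + 1)) + 1 := by ring
    omega
  rw [e]
  exact ⟨(2 * t + 1) * (t * (t + 1)), by ring⟩

/-- the trace of `M` on `PSL₂(F)` is not abelian -/
theorem abelian_case [IsSimpleGroup PS] (h2 : (2 : F) ≠ 0) (hodd : Odd (Fintype.card F))
    {M : Subgroup PG} (hM : IsCoatom M) (hML : ¬ (tauF F).range ≤ M)
    (hab : ∀ x ∈ M.comap (tauF F), ∀ y ∈ M.comap (tauF F), x * y = y * x) : False := by
  classical
  have hidx := index_range_tau (F := F) h2
  by_cases hbot : M.comap (tauF F) = ⊥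
  · have hc := card_M_eq hM h2 hML
    rw [hbot, Subgroup.card_bot] at hc
    apply card_two_not_coatom hM hc (four_dvd_card_PG hodd) (Fintype.card F)
      (by rw [card_PG]; exact dvd_mul_right _ _) hodd Fintype.one_lt_card
  · apply no_abelian_selfnorm hbot (comap_ne_top hML) hab
    intro r k R hr hchar hRne
    have hRle : R ≤ M.comap (tauF F) := fun x hx => ((hchar x).mp hx).1
    have hRtop : R ≠ ⊤ := by
      intro h
      apply comap_ne_top hML
      exact top_le_iff.mp (h ▸ hRle)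
    apply rel_normalizer_le (tauF F) tauF_injective hM R hRne hRtop
    intro m hm
    apply mem_normalizer_of_conj_mem
    rintro v ⟨x, hx, rfl⟩
    obtain ⟨hxA, hxp⟩ := (hchar x).mp hx
    have hn : (tauF F).range.Normal := Subgroup.normal_of_index_eq_two hidx
    obtain ⟨x', hx'⟩ := hn.conj_mem _ ⟨x, rfl⟩ m
    refine ⟨x', (hchar x').mpr ⟨?_, ?_⟩, hx'⟩
    · show tauF F x' ∈ M
      rw [hx']
      exact M.mul_mem (M.mul_mem hm hxA) (M.inv_mem hm)
    · apply tauF_injective
      rw [map_pow, hx', map_one, conj_pow, ← map_pow, hxp, map_one]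
      group

/-! ### the Borel case -/

/-- upper triangular matrices in `GL₂(F)` -/
def TG (F : Type*) [Field F] : Subgroup (GL (Fin 2) F) where
  carrier := {g | (g : Matrix (Fin 2) (Fin 2) F) 1 0 = 0}
  mul_mem' := by
    intro a b ha hb
    rw [Set.mem_setOf_eq] at ha hb ⊢
    rw [Units.val_mul, Matrix.mul_apply, Fin.sum_univ_two, ha, hb]
    ring
  one_mem' := by
    rw [Set.mem_setOf_eq]
    simp
  inv_mem' := by
    intro a ha
    rw [Set.mem_setOf_eq] at ha ⊢
    rw [Matrix.coe_units_inv, Matrix.inv_def, Matrix.smul_apply, Matrix.adjugate_fin_two]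
    simp [ha]

theorem mem_TG {g : GL (Fin 2) F} : g ∈ TG F ↔ (g : Matrix (Fin 2) (Fin 2) F) 1 0 = 0 := Iff.rfl

theorem mem_Bt_iff (s x : SpecialLinearGroup (Fin 2) F) :
    x ∈ cj s⁻¹ (GB (⊤ : Subgroup (SpecialLinearGroup (Fin 2) F))) ↔
      (SpecialLinearGroup.toGL s)⁻¹ * SpecialLinearGroup.toGL x * SpecialLinearGroup.toGL s ∈ TG F := by
  rw [mem_cj, mem_GB, inv_inv]
  have e : (SpecialLinearGroup.toGL s)⁻¹ * SpecialLinearGroup.toGL x * SpecialLinearGroup.toGL s =
      SpecialLinearGroup.toGL (s⁻¹ * x * s) := by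
    rw [map_mul, map_mul, map_inv]
  rw [e, mem_TG]
  constructor
  · rintro ⟨-, h⟩
    exact h
  · intro h
    exact ⟨Subgroup.mem_top _, h⟩

theorem borel_rel [IsSimpleGroup PS] (h2 : (2 : F) ≠ 0)
    {M : Subgroup PG} (hM : IsCoatom M) (hML : ¬ (tauF F).range ≤ M)
    (s : SpecialLinearGroup (Fin 2) F)
    (h : ∀ g : GL (Fin 2) F, ProjGenLinGroup.mk g ∈ M →
      (SpecialLinearGroup.toGL s)⁻¹ * g * SpecialLinearGroup.toGL s ∈ TG F) :
    Nat.card M = Fintype.card F * (Fintype.card F - 1) := by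
  classical
  obtain ⟨Bt, hBt⟩ : ∃ Bt, Bt = cj s⁻¹ (GB (⊤ : Subgroup (SpecialLinearGroup (Fin 2) F))) :=
    ⟨_, rfl⟩
  have hBtcard : Nat.card Bt = (Fintype.card F - 1) * Fintype.card F := by
    rw [hBt, card_cj, card_GB_top]
  have hle : (M.comap (tauF F)).comap (piF F) ≤ Bt := by
    intro g hg
    rw [hBt, mem_Bt_iff]
    apply h
    exact hg
  have hker : (piF F).ker ≤ Bt := by
    intro g hg
    rw [MonoidHom.mem_ker] at hg
    rcases (piF_eq_one_iff' g).mp hg with rfl | rfl
    · exact Bt.one_mem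
    · rw [hBt]
      apply neg_one_mem_cj
      rw [mem_GB]
      refine ⟨Subgroup.mem_top _, ?_⟩
      simp [Matrix.SpecialLinearGroup.coe_neg]
  have hMB : M.comap (tauF F) ≤ Bt.map (piF F) := by
    intro m hm
    obtain ⟨g, rfl⟩ := piF_surj' (L := F) m
    exact Subgroup.mem_map_of_mem _ (hle hm)
  have hq2 : 2 ≤ Fintype.card F := Fintype.one_lt_card
  have hBtop : Bt.map (piF F) ≠ ⊤ := by
    intro htop
    have h1 : (Bt.map (piF F)).comap (piF F) = ⊤ := by rw [htop, Subgroup.comap_top]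
    rw [Subgroup.comap_map_eq, sup_eq_left.mpr hker] at h1
    rw [h1, Subgroup.card_top, Cfsg.Agent.helper12.card_SL2] at hBtcard
    have h3 : Fintype.card F ^ 2 - 1 = (Fintype.card F - 1) * (Fintype.card F + 1) := by
      have : 1 ≤ Fintype.card F := by omega
      zify [this, Nat.one_le_pow 2 _ this]
      ring
    rw [h3] at hBtcard
    have h4 : Fintype.card F * ((Fintype.card F - 1) * (Fintype.card F + 1)) =
        ((Fintype.card F - 1) * Fintype.card F) * (Fintype.card F + 1) := by ring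
    rw [h4] at hBtcard
    have hpos : 0 < (Fintype.card F - 1) * Fintype.card F := by
      apply Nat.mul_pos <;> omega
    have : Fintype.card F + 1 = 1 := by
      apply Nat.eq_of_mul_eq_mul_left hpos
      rw [hBtcard, mul_one]
    omega
  have hBbot : Bt.map (piF F) ≠ ⊥ := by
    intro hb
    have hx : s * uS 1 * s⁻¹ ∈ Bt := by
      rw [hBt, mem_cj, mem_GB]
      refine ⟨Subgroup.mem_top _, ?_⟩
      have e : s⁻¹ * (s * uS 1 * s⁻¹) * s⁻¹⁻¹ = uS 1 := by group
      rw [e]; simp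
    have h1 : piF F (s * uS 1 * s⁻¹) ∈ Bt.map (piF F) := Subgroup.mem_map_of_mem _ hx
    rw [hb, Subgroup.mem_bot, piF_eq_one_iff'] at h1
    rcases h1 with h1 | h1
    · have h3 : uS (1 : F) = 1 := by
        have : uS (1 : F) = s⁻¹ * (s * uS 1 * s⁻¹) * s := by group
        rw [this, h1]; group
      have := congrArg (fun x : SpecialLinearGroup (Fin 2) F => x 0 1) h3
      simp at this
    · have h3 : uS (1 : F) = -1 := by
        have : uS (1 : F) = s⁻¹ * (s * uS 1 * s⁻¹) * s := by group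
        rw [this, h1]; simp
      have := congrArg (fun x : SpecialLinearGroup (Fin 2) F => x 0 1) h3
      simp [Matrix.SpecialLinearGroup.coe_neg] at this
  have hinv : ∀ g : GL (Fin 2) F, ProjGenLinGroup.mk g ∈ M → ∀ x ∈ Bt, cg g x ∈ Bt := by
    intro g hg x hx
    rw [hBt, mem_Bt_iff] at hx ⊢
    rw [toGL_cg]
    have h1 := h g hg
    have e : (SpecialLinearGroup.toGL s)⁻¹ * (g * SpecialLinearGroup.toGL x * g⁻¹) *
        SpecialLinearGroup.toGL s =
        ((SpecialLinearGroup.toGL s)⁻¹ * g * SpecialLinearGroup.toGL s) *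
        ((SpecialLinearGroup.toGL s)⁻¹ * SpecialLinearGroup.toGL x * SpecialLinearGroup.toGL s) *
        ((SpecialLinearGroup.toGL s)⁻¹ * g * SpecialLinearGroup.toGL s)⁻¹ := by group
    rw [e]
    exact (TG F).mul_mem ((TG F).mul_mem h1 hx) ((TG F).inv_mem h1)
  have hsub := rel_sub hM Bt hinv hBbot hBtop
  have hMeq : M.comap (tauF F) = Bt.map (piF F) := le_antisymm hMB hsub
  have hcomap : (M.comap (tauF F)).comap (piF F) = Bt := by
    rw [hMeq, Subgroup.comap_map_eq, sup_eq_left.mpr hker]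
  have hc := card_comap_piF_gen (L := F) (M.comap (tauF F))
  rw [hcomap, hBtcard] at hc
  have hcM := card_M_eq hM h2 hML
  rcases zc_cases F with ⟨hz, _⟩ | ⟨_, hz⟩
  · rw [hz] at hc
    rw [hcM, ← hc]; ring
  · exact absurd hz h2

end Cfsg.Agent.helper4.My
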