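import Mathlib
import Cfsg.Agent.Lib_helper4_MyF

set_option autoImplicit false
set_option linter.unusedSectionVars false
set_option maxHeartbeats 1600000

/-!
# Centralisers in `PGL₂(F)` and the dihedral case
-/

namespace Cfsg.Agent.helper4.My

open Matrix
open scoped LinearAlgebra.Projectivization MatrixGroups
open Cfsg.Agent.helper4.Dk Cfsg.Agent.helper4.Dn Cfsg.Agent.helper4.Mx

variable {F : Type*} [Field F] [Fintype F]

local notation "PG" => Matrix.ProjGenLinGroup (Fin 2) F
local notation "PS" => Matrix.ProjectiveSpecialLinearGroup (Fin 2) F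

omit [Fintype F] in
theorem mk_eq_one_of_scalar (g : GL (Fin 2) F) (ν : F)
    (h : (g : Matrix (Fin 2) (Fin 2) F) = ν • (1 : Matrix (Fin 2) (Fin 2) F)) :
    ProjGenLinGroup.mk g = 1 := by
  have hν : ν ≠ 0 := by
    rintro rfl
    have hd := (Matrix.isUnits_det_units g).ne_zero
    rw [h, zero_smul] at hd
    simp at hd
  rw [ProjGenLinGroup.mk_eq_one, GeneralLinearGroup.center_eq_range_scalar]
  refine ⟨Units.mk0 ν hν, ?_⟩
  apply Units.ext
  rw [GeneralLinearGroup.coe_scalar, h, Units.val_mk0, Matrix.smul_one_eq_diagonal]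
  rfl

/-- the centraliser of a nontrivial element of `PGL₂(F)` has at least `q - 1` elements -/
theorem card_centralizer_pgl_ge (g : GL (Fin 2) F) (hg : ProjGenLinGroup.mk g ≠ (1 : PG)) :
    Fintype.card F - 1 ≤
      Nat.card (Subgroup.centralizer ({ProjGenLinGroup.mk g} : Set PG)) := by
  classical
  obtain ⟨A, hA⟩ : ∃ A : Matrix (Fin 2) (Fin 2) F, A = (g : Matrix (Fin 2) (Fin 2) F) := ⟨_, rfl⟩
  obtain ⟨t, ht⟩ : ∃ t : F, t = A 0 0 + A 1 1 := ⟨_, rfl⟩
  obtain ⟨δ, hδ⟩ : ∃ δ : F, δ = A 0 0 * A 1 1 - A 0 1 * A 1 0 := ⟨_, rfl⟩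
  have hdet : ∀ u : F, (u • (1 : Matrix (Fin 2) (Fin 2) F) + A).det = u ^ 2 + t * u + δ := by
    intro u
    rw [det_fin_two]
    simp only [Matrix.add_apply, Matrix.smul_apply, Matrix.one_apply_eq, smul_eq_mul, mul_one,
      Matrix.one_apply_ne (show (0 : Fin 2) ≠ 1 by decide),
      Matrix.one_apply_ne (show (1 : Fin 2) ≠ 0 by decide), mul_zero, zero_add]
    rw [ht, hδ]; ring
  have hroots : (Finset.univ.filter (fun u : F => u ^ 2 + t * u + δ = 0)).card ≤ 2 := by
    by_contra hlt
    push Not at hlt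
    obtain ⟨x, y, z, hx, hy, hz, hxy, hxz, hyz⟩ := Finset.two_lt_card_iff.mp hlt
    simp only [Finset.mem_filter, Finset.mem_univ, true_and] at hx hy hz
    have h1 : (x - y) * (x + y + t) = 0 := by linear_combination hx - hy
    have h2' : (x - z) * (x + z + t) = 0 := by linear_combination hx - hz
    have h3 := (mul_eq_zero.mp h1).resolve_left (sub_ne_zero.mpr hxy)
    have h4 := (mul_eq_zero.mp h2').resolve_left (sub_ne_zero.mpr hxz)
    apply hyz
    linear_combination h3 - h4
  -- the good parameters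
  obtain ⟨S, hS⟩ : ∃ S : Finset F, S = Finset.univ.filter (fun u : F => u ^ 2 + t * u + δ ≠ 0) :=
    ⟨_, rfl⟩
  have hScard : Fintype.card F - 2 ≤ S.card := by
    have h1 : (Finset.univ.filter (fun u : F => u ^ 2 + t * u + δ = 0)).card + S.card =
        Fintype.card F := by
      rw [hS, Finset.card_filter_add_card_filter_not, Finset.card_univ]
    omega
  have hSmem : ∀ u : F, u ∈ S → u ^ 2 + t * u + δ ≠ 0 := by
    intro u hu
    rw [hS, Finset.mem_filter] at hu
    exact hu.2
  have hgood : ∀ u : S, (u.1 • (1 : Matrix (Fin 2) (Fin 2) F) + A).det ≠ 0 := by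
    intro u
    rw [hdet]
    exact hSmem u.1 u.2
  obtain ⟨γ, hγ⟩ : ∃ γ : S → GL (Fin 2) F, γ = fun u =>
      GeneralLinearGroup.mkOfDetNeZero (u.1 • (1 : Matrix (Fin 2) (Fin 2) F) + A) (hgood u) :=
    ⟨_, rfl⟩
  have hγcoe : ∀ u : S, ((γ u : GL (Fin 2) F) : Matrix (Fin 2) (Fin 2) F) =
      u.1 • (1 : Matrix (Fin 2) (Fin 2) F) + A := by
    intro u; rw [hγ]; rfl
  have hcomm : ∀ u : S, γ u * g = g * γ u := by
    intro u
    apply Units.ext
    rw [Units.val_mul, Units.val_mul, hγcoe, ← hA]
    simp [Matrix.add_mul, Matrix.mul_add]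
  -- nonscalar
  have hns : ∀ ν : F, A ≠ ν • (1 : Matrix (Fin 2) (Fin 2) F) := by
    intro ν h
    exact hg (mk_eq_one_of_scalar g ν (hA ▸ h))
  let f : Option S → Subgroup.centralizer ({ProjGenLinGroup.mk g} : Set PG) := fun o =>
    match o with
    | none => 1
    | some u => ⟨ProjGenLinGroup.mk (γ u), by
        rw [Subgroup.mem_centralizer_iff]
        intro h hh
        rw [Set.mem_singleton_iff] at hh
        rw [hh, ← map_mul, ← map_mul, hcomm]⟩
  have hf : Function.Injective f := by
    intro o1 o2 h12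
    have hval := congrArg Subtype.val h12
    rcases o1 with _ | u <;> rcases o2 with _ | v
    · rfl
    · exfalso
      change (1 : PG) = ProjGenLinGroup.mk (γ v) at hval
      have h1 := hval.symm
      rw [ProjGenLinGroup.mk_eq_one, GeneralLinearGroup.center_eq_range_scalar] at h1
      obtain ⟨c, hc⟩ := h1
      have h2 := congrArg (fun x : GL (Fin 2) F => (x : Matrix (Fin 2) (Fin 2) F)) hc
      simp only [GeneralLinearGroup.coe_scalar] at h2
      rw [hγcoe, Matrix.scalar_apply, ← Matrix.smul_one_eq_diagonal] at h2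
      apply hns ((c : F) - v.1)
      rw [sub_smul, h2]; abel
    · exfalso
      change ProjGenLinGroup.mk (γ u) = (1 : PG) at hval
      have h1 := hval
      rw [ProjGenLinGroup.mk_eq_one, GeneralLinearGroup.center_eq_range_scalar] at h1
      obtain ⟨c, hc⟩ := h1
      have h2 := congrArg (fun x : GL (Fin 2) F => (x : Matrix (Fin 2) (Fin 2) F)) hc
      simp only [GeneralLinearGroup.coe_scalar] at h2
      rw [hγcoe, Matrix.scalar_apply, ← Matrix.smul_one_eq_diagonal] at h2
      apply hns ((c : F) - u.1)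
      rw [sub_smul, h2]; abel
    · change ProjGenLinGroup.mk (γ u) = ProjGenLinGroup.mk (γ v) at hval
      rw [ProjGenLinGroup.mk_eq_mk_iff] at hval
      obtain ⟨c, hc⟩ := hval
      have h2 := congrArg (fun x : GL (Fin 2) F => (x : Matrix (Fin 2) (Fin 2) F)) hc
      simp only [Units.val_mul, GeneralLinearGroup.coe_scalar] at h2
      rw [hγcoe, hγcoe, Matrix.scalar_apply, ← Matrix.smul_one_eq_diagonal, Matrix.mul_smul,
        Matrix.mul_one] at h2
      -- `c (u + A) = v + A`
      by_cases hc1 : (c : F) = 1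
      · rw [hc1, one_smul] at h2
        have h3 : u.1 • (1 : Matrix (Fin 2) (Fin 2) F) = v.1 • (1 : Matrix (Fin 2) (Fin 2) F) :=
          add_right_cancel h2
        have h4 := congrFun (congrFun h3 0) 0
        simp at h4
        rw [h4]
      · exfalso
        apply hns ((v.1 - c * u.1) / (c - 1))
        have hc1' : (c : F) - 1 ≠ 0 := sub_ne_zero.mpr hc1
        have h3 : ((c : F) - 1) • A = (v.1 - c * u.1) • (1 : Matrix (Fin 2) (Fin 2) F) := by
          rw [smul_add, smul_smul] at h2
          rw [sub_smul, sub_smul, one_smul]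
          have : (c : F) • A = v.1 • (1 : Matrix (Fin 2) (Fin 2) F) + A -
              ((c : F) * u.1) • (1 : Matrix (Fin 2) (Fin 2) F) := by
            rw [← h2]; abel
          rw [this]; abel
        have h4 : A = ((c : F) - 1)⁻¹ • (((c : F) - 1) • A) := by
          rw [smul_smul, inv_mul_cancel₀ hc1', one_smul]
        rw [h4, h3, smul_smul]
        congr 1
        field_simp
  have hcard := Nat.card_le_card_of_injective f hf
  have hopt : Nat.card (Option S) = S.card + 1 := by
    rw [Nat.card_eq_fintype_card, Fintype.card_option, Fintype.card_coe]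
  rw [hopt] at hcard
  omega

/-- **The dihedral case.** -/
theorem dih_rel_case [IsSimpleGroup PS] (h2 : (2 : F) ≠ 0) (hodd : Odd (Fintype.card F))
    (h3 : 3 < Fintype.card F)
    {M : Subgroup PG} (hM : IsCoatom M) (hML : ¬ (tauF F).range ≤ M) {s : ℕ}
    (e : M ≃* DihedralGroup s)
    (hdvd : s ∣ Fintype.card F - 1 ∨ s ∣ Fintype.card F + 1) :
    (Fintype.card F ≠ 5 ∧ s = Fintype.card F - 1) ∨ s = Fintype.card F + 1 := by
  classical
  have hidx := index_range_tau (F := F) h2
  have hcM : Nat.card M = 2 * s := by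
    rw [Nat.card_congr e.toEquiv, DihedralGroup.nat_card]
  have hs0 : s ≠ 0 := by
    rintro rfl
    have : 0 < Nat.card M := Nat.card_pos
    omega
  have hcM0 := card_M_eq hM h2 hML
  by_cases hs3 : 3 ≤ s
  · obtain ⟨c, hcM', hc1, hord, -, hcent⟩ := dihedral_coatom3 hM hs3 e (by
      intro c hc hordc hn
      have h1 := card_normal_le_two (tauF F) tauF_injective hidx hML (Subgroup.zpowers c)
        (by rw [Subgroup.zpowers_le]; exact hc) hn
      rw [Nat.card_zpowers, hordc] at h1
      omega)
    obtain ⟨g, rfl⟩ := ProjGenLinGroup.mk_surjective c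
    have hge := card_centralizer_pgl_ge g hc1
    have hsq : Fintype.card F - 1 ≤ s := le_trans hge hcent
    rcases hdvd with hd | hd
    · have hle := Nat.le_of_dvd (by omega) hd
      have hs : s = Fintype.card F - 1 := le_antisymm hle hsq
      left
      refine ⟨?_, hs⟩
      intro h5
      -- `q = 5`: the trace on `PSL₂` has order four and is abelian
      have hc4 : Nat.card (M.comap (tauF F)) = 2 ^ 2 := by
        rw [h5] at hs
        omega
      haveI : Fact (Nat.Prime 2) := ⟨Nat.prime_two⟩
      have hab := IsPGroup.isMulCommutative_of_card_eq_prime_sq (p := 2) hc4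
      apply abelian_case h2 hodd hM hML
      intro x hx y hy
      have := hab.is_comm.comm ⟨x, hx⟩ ⟨y, hy⟩
      exact congrArg Subtype.val this
    · right
      obtain ⟨k, hk⟩ := hd
      have hk0 : k ≠ 0 := by
        rintro rfl
        omega
      by_cases hk1 : k = 1
      · rw [hk1, mul_one] at hk
        exact hk.symm
      · exfalso
        have hk2 : 2 ≤ k := by omega
        have : s * 2 ≤ s * k := Nat.mul_le_mul_left _ hk2
        omega
  · exfalso
    have hs12 : s = 1 ∨ s = 2 := by omega
    have hab := dihedral_small_comm s hs12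
    apply abelian_case h2 hodd hM hML
    intro x hx y hy
    apply tauF_injective
    rw [map_mul, map_mul]
    have h1 : (⟨tauF F x, hx⟩ : M) * ⟨tauF F y, hy⟩ = ⟨tauF F y, hy⟩ * ⟨tauF F x, hx⟩ := by
      apply e.injective
      rw [map_mul, map_mul]
      exact hab _ _
    exact congrArg Subtype.val h1

end Cfsg.Agent.helper4.My
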