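import Mathlib
import Cfsg.Agent.Lib_helper4_MyF

set_option autoImplicit false
set_option linter.unusedSectionVars false
set_option maxHeartbeats 3200000

/-!
# The cases `A₄`, `A₅`, `S₄`
-/

namespace Cfsg.Agent.helper4.My

open Matrix
open scoped LinearAlgebra.Projectivization MatrixGroups
open Cfsg.Agent.helper4.Dk Cfsg.Agent.helper4.Dn Cfsg.Agent.helper4.Mx

variable {F : Type*} [Field F] [Fintype F]

local notation "PG" => Matrix.ProjGenLinGroup (Fin 2) F
local notation "PS" => Matrix.ProjectiveSpecialLinearGroup (Fin 2) F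

theorem a4_excl (h2 : (2 : F) ≠ 0) {M : Subgroup PG} (hM : IsCoatom M)
    (hML : ¬ (tauF F).range ≤ M) (e : M ≃* alternatingGroup (Fin 4)) : False := by
  apply not_le_range hM h2 hML
  intro m hm
  obtain ⟨a, b, hab⟩ := a4_sq (e ⟨m, hm⟩)
  have h1 : (⟨m, hm⟩ : M) = e.symm a * e.symm a * (e.symm b * e.symm b) := by
    apply e.injective
    rw [hab]; simp
  have h2' : m = ((e.symm a : M) : PG) * (e.symm a : M) * (((e.symm b : M) : PG) * (e.symm b : M)) := by
    have := congrArg Subtype.val h1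
    simpa using this
  rw [h2']
  exact Subgroup.mul_mem _ (sq_mem_range h2 _) (sq_mem_range h2 _)

theorem a5_excl (h2 : (2 : F) ≠ 0) {M : Subgroup PG} (hM : IsCoatom M)
    (hML : ¬ (tauF F).range ≤ M) (e : M ≃* alternatingGroup (Fin 5)) : False := by
  haveI := alternatingGroup.isSimpleGroup_five
  have hidx := index_range_tau (F := F) h2
  haveI hn : (tauF F).range.Normal := Subgroup.normal_of_index_eq_two hidx
  obtain ⟨N, hN⟩ : ∃ N : Subgroup M, N = (tauF F).range.subgroupOf M := ⟨_, rfl⟩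
  have hNn : N.Normal := by rw [hN]; infer_instance
  have hNm : (N.map e.toMonoidHom).Normal := Subgroup.Normal.map hNn _ e.surjective
  rcases hNm.eq_bot_or_eq_top with h | h
  · have hNbot : N = ⊥ := (Subgroup.map_eq_bot_iff_of_injective N e.injective).mp h
    rw [hN, Subgroup.subgroupOf_eq_bot, disjoint_iff] at hNbot
    have hc := card_inf_of_index_two (tauF F).range M hidx (not_le_range hM h2 hML)
    rw [inf_comm, hNbot, Subgroup.card_bot] at hc
    rw [Nat.card_congr e.toEquiv, a5_card] at hc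
    omega
  · have hNtop : N = ⊤ := by
      have := Subgroup.comap_map_eq_self_of_injective (f := e.toMonoidHom) e.injective N
      rw [← this, h, Subgroup.comap_top]
    rw [hN, Subgroup.subgroupOf_eq_top] at hNtop
    exact not_le_range hM h2 hML hNtop

/-- **The case `S₄`.** -/
theorem s4_rel_case (p : ℕ) [Fact p.Prime] [CharP F p] [IsSimpleGroup PS] (h2 : (2 : F) ≠ 0)
    {M : Subgroup PG} (hM : IsCoatom M) (hML : ¬ (tauF F).range ≤ M)
    (e : M ≃* Equiv.Perm (Fin 4)) (hp3 : p ≠ 3) {f : ℕ} (hq : Fintype.card F = p ^ f) :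
    Fintype.card F = p ∧ (p % 8 = 3 ∨ p % 8 = 5) := by
  classical
  obtain ⟨hp3', hpodd⟩ := pow_card_facts (F := F) p h2
  have hpp := (Fact.out : p.Prime)
  have hidx := index_range_tau (F := F) h2
  obtain ⟨r1, r2, r3, r4, r5, r6⟩ := s4_rel
  have hsqL : ∀ z : Equiv.Perm (Fin 4), (∃ a, a * a = z) →
      ((e.symm z : M) : PG) ∈ (tauF F).range := by
    rintro z ⟨a, rfl⟩
    rw [map_mul, Subgroup.coe_mul]
    exact sq_mem_range h2 _
  -- even elements lie in `L`
  have hevenL : ∀ (m : PG) (hm : m ∈ M), Equiv.Perm.sign (e ⟨m, hm⟩) = 1 →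
      m ∈ (tauF F).range := by
    intro m hm hs
    obtain ⟨a, b, hab⟩ := s4_even_sq (e ⟨m, hm⟩) hs
    have h1 : (⟨m, hm⟩ : M) = e.symm a * e.symm a * (e.symm b * e.symm b) := by
      apply e.injective
      rw [hab]; simp
    have h2' : m = ((e.symm a : M) : PG) * (e.symm a : M) *
        (((e.symm b : M) : PG) * (e.symm b : M)) := by
      have := congrArg Subtype.val h1
      simpa using this
    rw [h2']
    exact Subgroup.mul_mem _ (sq_mem_range h2 _) (sq_mem_range h2 _)
  obtain ⟨x₀, hx₀⟩ := hsqL xS4 s4_x_sq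
  obtain ⟨y₀, hy₀⟩ := hsqL yS4 s4_y_sq
  have hx₀M : x₀ ∈ M.comap (tauF F) := by
    show tauF F x₀ ∈ M
    rw [hx₀]; exact (e.symm xS4).2
  have hy₀M : y₀ ∈ M.comap (tauF F) := by
    show tauF F y₀ ∈ M
    rw [hy₀]; exact (e.symm yS4).2
  have hx : x₀ * x₀ = 1 := by
    apply tauF_injective
    rw [map_mul, hx₀, map_one]
    have : e.symm xS4 * e.symm xS4 = 1 := by rw [← map_mul, r1, map_one]
    exact_mod_cast congrArg Subtype.val this
  have hy : y₀ * y₀ = 1 := by
    apply tauF_injective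
    rw [map_mul, hy₀, map_one]
    have : e.symm yS4 * e.symm yS4 = 1 := by rw [← map_mul, r2, map_one]
    exact_mod_cast congrArg Subtype.val this
  have hxy : x₀ * y₀ = y₀ * x₀ := by
    apply tauF_injective
    rw [map_mul, map_mul, hx₀, hy₀]
    have : e.symm xS4 * e.symm yS4 = e.symm yS4 * e.symm xS4 := by
      rw [← map_mul, r3, map_mul]
    exact_mod_cast congrArg Subtype.val this
  have hx1 : x₀ ≠ 1 := by
    intro h
    apply r4
    have h1 : ((e.symm xS4 : M) : PG) = 1 := by rw [← hx₀, h, map_one]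
    have h2' : e.symm xS4 = 1 := Subtype.ext h1
    simpa using h2'
  have hy1 : y₀ ≠ 1 := by
    intro h
    apply r5
    have h1 : ((e.symm yS4 : M) : PG) = 1 := by rw [← hy₀, h, map_one]
    have h2' : e.symm yS4 = 1 := Subtype.ext h1
    simpa using h2'
  have hne : x₀ ≠ y₀ := by
    intro h
    apply r6
    have h1 : ((e.symm xS4 : M) : PG) = (e.symm yS4 : M) := by rw [← hx₀, ← hy₀, h]
    exact e.symm.injective (Subtype.ext h1)
  obtain ⟨V, hV⟩ : ∃ V, V = kleinSub x₀ y₀ hx hy hxy := ⟨_, rfl⟩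
  have hVM : V ≤ M.comap (tauF F) := by
    rw [hV]
    rintro v (rfl | rfl | rfl | rfl)
    · exact Subgroup.one_mem _
    · exact hx₀M
    · exact hy₀M
    · exact Subgroup.mul_mem _ hx₀M hy₀M
  have hxV : x₀ ∈ V := by rw [hV]; exact Or.inr (Or.inl rfl)
  have hyV : y₀ ∈ V := by rw [hV]; exact Or.inr (Or.inr (Or.inl rfl))
  have hMN : M ≤ Subgroup.normalizer ((V.map (tauF F) : Subgroup PG) : Set PG) := by
    intro m hm
    obtain ⟨n1, n2⟩ := s4_normal (e ⟨m, hm⟩)
    have key : ∀ z : Equiv.Perm (Fin 4), (e ⟨m, hm⟩ * z * (e ⟨m, hm⟩)⁻¹ = xS4 ∨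
        e ⟨m, hm⟩ * z * (e ⟨m, hm⟩)⁻¹ = yS4 ∨ e ⟨m, hm⟩ * z * (e ⟨m, hm⟩)⁻¹ = xS4 * yS4) →
        m * ((e.symm z : M) : PG) * m⁻¹ ∈ V.map (tauF F) := by
      intro z hz
      have e1 : (⟨m, hm⟩ : M) * e.symm z * (⟨m, hm⟩ : M)⁻¹ =
          e.symm (e ⟨m, hm⟩ * z * (e ⟨m, hm⟩)⁻¹) := by
        rw [map_mul, map_mul, map_inv, e.symm_apply_apply]
      have e2 : m * ((e.symm z : M) : PG) * m⁻¹ =
          ((e.symm (e ⟨m, hm⟩ * z * (e ⟨m, hm⟩)⁻¹) : M) : PG) := by
        rw [← e1]; rfl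
      rw [e2]
      rcases hz with h | h | h
      · rw [h, ← hx₀]; exact Subgroup.mem_map_of_mem _ hxV
      · rw [h, ← hy₀]; exact Subgroup.mem_map_of_mem _ hyV
      · rw [h, map_mul, Subgroup.coe_mul, ← hx₀, ← hy₀, ← map_mul]
        exact Subgroup.mem_map_of_mem _ (V.mul_mem hxV hyV)
    have kx : m * tauF F x₀ * m⁻¹ ∈ V.map (tauF F) := by
      rw [hx₀]; exact key _ n1
    have ky : m * tauF F y₀ * m⁻¹ ∈ V.map (tauF F) := by
      rw [hy₀]; exact key _ n2
    apply mem_normalizer_of_conj_mem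
    rintro v ⟨v₀, hv₀, rfl⟩
    rw [hV] at hv₀
    rcases hv₀ with rfl | rfl | rfl | rfl
    · rw [map_one]; simp [Subgroup.one_mem]
    · exact kx
    · exact ky
    · have := (V.map (tauF F)).mul_mem kx ky
      have e3 : m * tauF F x₀ * m⁻¹ * (m * tauF F y₀ * m⁻¹) = m * tauF F (x₀ * y₀) * m⁻¹ := by
        rw [map_mul]; group
      rwa [e3] at this
  have hVbot : V ≠ ⊥ := by
    intro h
    rw [h, Subgroup.mem_bot] at hxV
    exact hx1 hxV
  have hVtop : V ≠ ⊤ := fun h => comap_ne_top hML (top_le_iff.mp (h ▸ hVM))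
  have hNle := rel_normalizer_le (tauF F) tauF_injective hM V hVbot hVtop hMN
  have hVcard : Nat.card V = 4 := by
    rw [hV]; exact card_kleinSub hx hy hxy hx1 hy1 hne
  have hMcard : Nat.card (M.comap (tauF F)) = 12 := by
    have h1 := card_M_eq hM h2 hML
    rw [Nat.card_congr e.toEquiv, s4_card] at h1
    omega
  -- quaternion coordinates
  obtain ⟨a, b, hxa, hyb, ha, hb, hab⟩ := klein_lift h2 hx hy hxy hx1 hy1 hne
  obtain ⟨Q⟩ := exists_QS (K := AlgebraicClosure F) h2 ha hab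
  haveI : CharP (AlgebraicClosure F) p :=
    charP_of_injective_algebraMap (algebraMap F (AlgebraicClosure F)).injective p
  have h2K : (2 : AlgebraicClosure F) ≠ 0 := by
    intro h
    apply h2
    apply (algebraMap F (AlgebraicClosure F)).injective
    rw [map_ofNat, h, map_zero]
  obtain ⟨S, hS⟩ : ∃ S : Subfield (AlgebraicClosure F), S = frobS p 1 := ⟨_, rfl⟩
  obtain ⟨X', hX'⟩ : ∃ X' : Subgroup (SpecialLinearGroup (Fin 2) F), X' = XZ Q S := ⟨_, rfl⟩
  obtain ⟨X, hX⟩ : ∃ X : Subgroup PS, X = X'.map (piF F) := ⟨_, rfl⟩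
  have haX : a ∈ X' := by rw [hX']; exact mem_a_XZ Q S
  have hbX : b ∈ X' := by rw [hX']; exact mem_b_XZ Q S
  have hVX : V ≤ X := by
    rw [hV]
    rintro v (rfl | rfl | rfl | rfl)
    · exact X.one_mem
    · rw [← hxa, hX]; exact Subgroup.mem_map_of_mem _ haX
    · rw [← hyb, hX]; exact Subgroup.mem_map_of_mem _ hbX
    · rw [← hxa, ← hyb, hX]
      exact Subgroup.mul_mem _ (Subgroup.mem_map_of_mem _ haX) (Subgroup.mem_map_of_mem _ hbX)
  -- the element of order three
  obtain ⟨w, hw3, hwa, hwb, hw1, hw2, hwS⟩ := exists_omega' Q h2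
  have hwX : piF F w ∈ X := by
    rw [hX, hX']; exact Subgroup.mem_map_of_mem _ (hwS S)
  have hword : orderOf (piF F w) = 3 := by
    apply orderOf_eq_prime
    · have : piF F w ^ 3 = piF F (w * w * w) := by
        rw [map_mul, map_mul, pow_succ, pow_two]
      rw [this, hw3, piF_neg_one']
    · intro h
      rcases (piF_eq_one_iff' w).mp h with h | h
      · exact hw1 h
      · exact hw2 h
  have hwM : piF F w ∈ M.comap (tauF F) := by
    apply hNle
    rw [hV]
    apply klein_normalized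
    · have : piF F w * x₀ * (piF F w)⁻¹ = y₀ := by
        rw [← hxa, ← hyb, ← map_mul, hwa, map_mul]; group
      rw [this]; exact Or.inr (Or.inr (Or.inl rfl))
    · have : piF F w * y₀ * (piF F w)⁻¹ = x₀ * y₀ := by
        rw [← hxa, ← hyb, ← map_mul, hwb, map_mul, map_mul]; group
      rw [this]; exact Or.inr (Or.inr (Or.inr rfl))
  have hMX : M.comap (tauF F) ≤ X := by
    have hZ : M.comap (tauF F) ⊓ X = M.comap (tauF F) := by
      apply Subgroup.eq_of_le_of_card_ge inf_le_left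
      have h4 : 4 ∣ Nat.card (M.comap (tauF F) ⊓ X : Subgroup PS) := by
        rw [← hVcard]
        exact Subgroup.card_dvd_of_le (le_inf hVM hVX)
      have h3 : 3 ∣ Nat.card (M.comap (tauF F) ⊓ X : Subgroup PS) := by
        rw [← hword]
        exact order_dvd_of_mem _ ⟨hwM, hwX⟩
      have h12 : 12 ∣ Nat.card (M.comap (tauF F) ⊓ X : Subgroup PS) :=
        Nat.Coprime.mul_dvd_of_dvd_of_dvd (by norm_num) h4 h3
      have hpos : 0 < Nat.card (M.comap (tauF F) ⊓ X : Subgroup PS) := Nat.card_pos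
      rw [hMcard]
      exact Nat.le_of_dvd hpos h12
    rw [← hZ]; exact inf_le_right
  obtain ⟨A, hA⟩ : ∃ A : Subgroup (SpecialLinearGroup (Fin 2) F),
      A = (M.comap (tauF F)).comap (piF F) := ⟨_, rfl⟩
  have hAX : A ≤ X' := by
    intro g hg
    rw [hA] at hg
    have h1 : piF F g ∈ X := hMX hg
    rw [hX] at h1
    obtain ⟨g', hg', hgg⟩ := h1
    rcases (piF_eq_iff g' g).mp hgg with h | h
    · rw [← h]; exact hg'
    · have : g = -1 * g' := by rw [h]; simp
      rw [this]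
      exact X'.mul_mem (by rw [hX']; exact neg_one_mem_XZ Q S) hg'
  have haA : a ∈ A := by rw [hA]; show piF F a ∈ M.comap (tauF F); rw [hxa]; exact hx₀M
  have hbA : b ∈ A := by rw [hA]; show piF F b ∈ M.comap (tauF F); rw [hyb]; exact hy₀M
  have hinv : ∀ g : GL (Fin 2) F, ProjGenLinGroup.mk g ∈ M → ∀ h ∈ X', cg g h ∈ X' := by
    intro g hg h hh
    rw [hX'] at hh ⊢
    apply XZ_invariant Q h2K S (cg g) (cg g⁻¹) (cg_mul g) (tr_cg g) (cg_cg_inv g) A haA hbA
      (by rw [← hX']; exact hAX) ?_ h hh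
    intro k hk
    rw [hA] at hk ⊢
    have hg' : ProjGenLinGroup.mk g⁻¹ ∈ M := by rw [map_inv]; exact M.inv_mem hg
    exact cg_mem_M hg' hk
  have hXbot : X ≠ ⊥ := by
    intro h
    have := hVX hxV
    rw [h, Subgroup.mem_bot] at this
    exact hx1 this
  have hker : (piF F).ker ≤ X' := by
    intro g hg
    rw [MonoidHom.mem_ker, piF_eq_one_iff'] at hg
    rcases hg with rfl | rfl
    · exact X'.one_mem
    · rw [hX']; exact neg_one_mem_XZ Q S
  have hf1 : f = 1 := by
    by_contra hf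
    have hf0 : f ≠ 0 := by
      rintro rfl
      have := Fintype.one_lt_card (α := F)
      rw [hq] at this; simp at this
    have hf2 : 2 ≤ f := by omega
    have hQ : p ^ 2 ≤ Fintype.card F := by
      rw [hq]; exact Nat.pow_le_pow_right (by omega) hf2
    have hsmall := small_bound_one hp3' hQ
    obtain ⟨hfin, hcard⟩ := frobS_finite (K := AlgebraicClosure F) p one_ne_zero
    haveI : Finite S := by rw [hS]; exact hfin
    have hcard' : Nat.card S ≤ p ^ 1 := by rw [hS]; exact hcard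
    have hXtop : X ≠ ⊤ := by
      intro htop
      have h1 : X.comap (piF F) = ⊤ := by rw [htop, Subgroup.comap_top]
      rw [hX, Subgroup.comap_map_eq, sup_eq_left.mpr hker] at h1
      have h3 := card_XZ_le Q S
      rw [← hX', h1, Subgroup.card_top, Cfsg.Agent.helper12.card_SL2] at h3
      have h4 : Nat.card S ^ 4 ≤ (p ^ 1) ^ 4 := Nat.pow_le_pow_left hcard' 4
      rw [← pow_mul] at h4
      have e14 : 1 * 4 = 4 * 1 := by norm_num
      rw [e14] at h4
      omega
    have hsub := rel_sub hM X' hinv (by rw [← hX]; exact hXbot) (by rw [← hX]; exact hXtop)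
    obtain ⟨ψ, hψ1, hψS⟩ := exists_unip_hom' Q p h2
    obtain ⟨u, hu⟩ : ∃ u, u = ψ (Multiplicative.ofAdd (1 : F)) := ⟨_, rfl⟩
    have huX : u ∈ X' := by
      rw [hu, hX']
      apply hψS
      simp only [toAdd_ofAdd, map_one]
      exact S.one_mem
    have huM : piF F u ∈ M.comap (tauF F) := hsub (Subgroup.mem_map_of_mem _ huX)
    have hup : orderOf (piF F u) = p := by
      apply orderOf_eq_prime
      · rw [← map_pow, hu, ← map_pow, ← ofAdd_nsmul, nsmul_eq_mul, mul_one,
          CharP.cast_eq_zero F p, ofAdd_zero, map_one, map_one]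
      · intro h
        have := hψ1 _ ((piF_eq_one_iff' _).mp (hu ▸ h))
        have h0 : (1 : F) = 0 := by
          have := congrArg Multiplicative.toAdd this
          simpa using this
        exact one_ne_zero h0
    have := order_dvd_of_mem _ huM
    rw [hup, hMcard] at this
    have hle := Nat.le_of_dvd (by norm_num) this
    interval_cases p <;> omega
  refine ⟨by rw [hq, hf1, pow_one], ?_⟩
  by_contra hmod
  have hq8 : Fintype.card F % 8 ≠ 3 ∧ Fintype.card F % 8 ≠ 5 := by
    rw [hq, hf1, pow_one]; omega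
  obtain ⟨t, ht⟩ := FiniteField.isSquare_two_iff.mpr hq8
  have hs : 2 * (t / 2) ^ 2 = 1 := by
    field_simp
    rw [pow_two, ← ht]
  obtain ⟨r, hrr, hra, hrb, -⟩ := Q.exists_rho h2 _ hs
  have hrM : piF F r ∈ M.comap (tauF F) := by
    apply hNle
    rw [hV]
    apply klein_normalized
    · have : piF F r * x₀ * (piF F r)⁻¹ = x₀ := by
        rw [← hxa, ← map_mul, hra, map_mul]; group
      rw [this]; exact Or.inr (Or.inl rfl)
    · have : piF F r * y₀ * (piF F r)⁻¹ = x₀ * y₀ := by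
        rw [← hxa, ← hyb, ← map_mul, hrb, map_mul, map_mul]; group
      rw [this]; exact Or.inr (Or.inr (Or.inr rfl))
  obtain ⟨rr, hrrdef⟩ : ∃ rr : M, rr = ⟨tauF F (piF F r), hrM⟩ := ⟨_, rfl⟩
  have hrrsq : e rr * e rr = xS4 := by
    rw [← map_mul]
    have : rr * rr = e.symm xS4 := by
      apply Subtype.ext
      rw [Subgroup.coe_mul, hrrdef, ← hx₀]
      show tauF F (piF F r) * tauF F (piF F r) = tauF F x₀
      rw [← map_mul, ← map_mul, hrr, hxa]
    rw [this, e.apply_symm_apply]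
  have hrrsign := s4_sqrt_sign _ hrrsq
  have hrrL : (rr : PG) ∈ (tauF F).range := by
    rw [hrrdef]; exact ⟨_, rfl⟩
  apply not_le_range hM h2 hML
  intro m hm
  rcases Int.units_eq_one_or (Equiv.Perm.sign (e ⟨m, hm⟩)) with hsg | hsg
  · exact hevenL m hm hsg
  · have hm2 : m * (rr : PG)⁻¹ ∈ M := M.mul_mem hm (M.inv_mem rr.2)
    have hsg2 : Equiv.Perm.sign (e ⟨m * (rr : PG)⁻¹, hm2⟩) = 1 := by
      have : (⟨m * (rr : PG)⁻¹, hm2⟩ : M) = ⟨m, hm⟩ * rr⁻¹ := rfl
      rw [this, map_mul, map_inv, map_mul, map_inv, hsg, hrrsign]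
      decide
    have h3 := hevenL _ hm2 hsg2
    have := (tauF F).range.mul_mem h3 hrrL
    rwa [inv_mul_cancel_right] at this

end Cfsg.Agent.helper4.My
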