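import Mathlib
import Cfsg.Agent.Lib_helper4_MyF

set_option autoImplicit false
set_option linter.unusedSectionVars false
set_option maxHeartbeats 3200000

/-!
# The case of subfield subgroups `PGL₂(K₀)`
-/

namespace Cfsg.Agent.helper4.My

open Matrix
open scoped LinearAlgebra.Projectivization MatrixGroups
open Cfsg.Agent.helper4.Dk Cfsg.Agent.helper4.Dn Cfsg.Agent.helper4.Mx

section unip

variable {K : Type*} [Field K]

theorem uS_pow (t : K) (n : ℕ) : uS t ^ n = uS (n * t) := by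
  induction n with
  | zero => simp [uS_zero]
  | succ n ih =>
    rw [pow_succ, ih, ← uS_add]
    congr 1
    push_cast; ring

theorem lS_pow (t : K) (n : ℕ) : lS t ^ n = lS (n * t) := by
  induction n with
  | zero => simp [lS_zero]
  | succ n ih =>
    rw [pow_succ, ih, ← lS_add]
    congr 1
    push_cast; ring

theorem uS_pow_char (p : ℕ) [CharP K p] (t : K) : uS t ^ p = 1 := by
  rw [uS_pow, CharP.cast_eq_zero, zero_mul, uS_zero]

theorem lS_pow_char (p : ℕ) [CharP K p] (t : K) : lS t ^ p = 1 := by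
  rw [lS_pow, CharP.cast_eq_zero, zero_mul, lS_zero]

/-- a quaternion pair made of products of unipotent elements -/
theorem exists_unip_quat (p : ℕ) [Fact p.Prime] [CharP K p] :
    ∃ (t₁ t₂ t₃ : K) (x y : SpecialLinearGroup (Fin 2) K),
      x = uS 1 * lS (-1) * uS 1 ∧ y = uS t₁ * lS t₂ * uS t₃ ∧
      x * x = -1 ∧ y * y = -1 ∧ x * y = -(y * x) := by
  obtain ⟨k₂, k₃, hk⟩ := CharP.sq_add_sq K p (-1)
  have hk' : (k₂ : K) ^ 2 + (k₃ : K) ^ 2 = -1 := by
    rw [hk]; simp
  obtain ⟨α, β, hαβ, hβ⟩ : ∃ α β : K, α ^ 2 + β ^ 2 = -1 ∧ β ≠ 0 := by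
    by_cases h3 : (k₃ : K) = 0
    · refine ⟨k₃, k₂, by rw [← hk']; ring, ?_⟩
      intro h2
      rw [h2, h3] at hk'
      have h1 : (1 : K) = 0 := by linear_combination hk'
      exact one_ne_zero h1
    · exact ⟨k₂, k₃, hk', h3⟩
  obtain ⟨s, hs⟩ : ∃ s : K, s * β = α - 1 := ⟨(α - 1) / β, by field_simp⟩
  obtain ⟨t, ht⟩ : ∃ t : K, t * β = -α - 1 := ⟨(-α - 1) / β, by field_simp⟩
  obtain ⟨x, hxdef⟩ : ∃ x : SpecialLinearGroup (Fin 2) K, x = uS 1 * lS (-1) * uS 1 := ⟨_, rfl⟩
  obtain ⟨y, hydef⟩ : ∃ y : SpecialLinearGroup (Fin 2) K, y = uS s * lS β * uS t := ⟨_, rfl⟩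
  have x00 : x 0 0 = 0 := by rw [hxdef]; simp [mul_00, mul_01, mul_10, mul_11]
  have x01 : x 0 1 = 1 := by rw [hxdef]; simp [mul_00, mul_01, mul_10, mul_11]
  have x10 : x 1 0 = -1 := by rw [hxdef]; simp [mul_00, mul_01, mul_10, mul_11]
  have x11 : x 1 1 = 0 := by rw [hxdef]; simp [mul_00, mul_01, mul_10, mul_11]
  have y00 : y 0 0 = α := by
    have : y 0 0 = 1 + s * β := by rw [hydef]; simp [mul_00, mul_01, mul_10, mul_11]
    rw [this]; linear_combination hs
  have y10 : y 1 0 = β := by rw [hydef]; simp [mul_00, mul_01, mul_10, mul_11]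
  have y11 : y 1 1 = -α := by
    have : y 1 1 = β * t + 1 := by rw [hydef]; simp [mul_00, mul_01, mul_10, mul_11]
    rw [this]; linear_combination ht
  have y01 : y 0 1 = β := by
    have h1 : y 0 1 = (1 + s * β) * t + s := by
      rw [hydef]; simp [mul_00, mul_01, mul_10, mul_11]
    apply mul_right_cancel₀ hβ
    rw [h1]
    linear_combination (1 + t * β) * hs + α * ht - hαβ
  refine ⟨s, β, t, x, y, hxdef, hydef, ?_, ?_, ?_⟩
  · apply sl_ext'
    · rw [mul_00, x00, x01, x10]; simp [Matrix.SpecialLinearGroup.coe_neg]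
    · rw [mul_01, x00, x01, x11]; simp [Matrix.SpecialLinearGroup.coe_neg]
    · rw [mul_10, x00, x10, x11]; simp [Matrix.SpecialLinearGroup.coe_neg]
    · rw [mul_11, x01, x10, x11]; simp [Matrix.SpecialLinearGroup.coe_neg]
  · apply sl_ext'
    · rw [mul_00, y00, y01, y10]; simp only [Matrix.SpecialLinearGroup.coe_neg,
        Matrix.SpecialLinearGroup.coe_one, Matrix.neg_apply, Matrix.one_apply_eq]
      linear_combination hαβ
    · rw [mul_01, y00, y01, y11]; simp only [Matrix.SpecialLinearGroup.coe_neg,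
        Matrix.SpecialLinearGroup.coe_one, Matrix.neg_apply,
        Matrix.one_apply_ne (show (0 : Fin 2) ≠ 1 by decide)]
      ring
    · rw [mul_10, y00, y10, y11]; simp only [Matrix.SpecialLinearGroup.coe_neg,
        Matrix.SpecialLinearGroup.coe_one, Matrix.neg_apply,
        Matrix.one_apply_ne (show (1 : Fin 2) ≠ 0 by decide)]
      ring
    · rw [mul_11, y01, y10, y11]; simp only [Matrix.SpecialLinearGroup.coe_neg,
        Matrix.SpecialLinearGroup.coe_one, Matrix.neg_apply, Matrix.one_apply_eq]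
      linear_combination hαβ
  · apply sl_ext'
    · rw [mul_00, x00, x01, y00, y10]
      simp only [Matrix.SpecialLinearGroup.coe_neg, Matrix.neg_apply]
      rw [show ((y * x : SpecialLinearGroup (Fin 2) K) : Matrix (Fin 2) (Fin 2) K) 0 0 = (y * x) 0 0 from rfl,
        mul_00, y00, y01, x00, x10]
      ring
    · rw [mul_01, x00, x01, y01, y11]
      simp only [Matrix.SpecialLinearGroup.coe_neg, Matrix.neg_apply]
      rw [show ((y * x : SpecialLinearGroup (Fin 2) K) : Matrix (Fin 2) (Fin 2) K) 0 1 = (y * x) 0 1 from rfl,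
        mul_01, y00, y01, x01, x11]
      ring
    · rw [mul_10, x10, x11, y00, y10]
      simp only [Matrix.SpecialLinearGroup.coe_neg, Matrix.neg_apply]
      rw [show ((y * x : SpecialLinearGroup (Fin 2) K) : Matrix (Fin 2) (Fin 2) K) 1 0 = (y * x) 1 0 from rfl,
        mul_10, y10, y11, x00, x10]
      ring
    · rw [mul_11, x10, x11, y01, y11]
      simp only [Matrix.SpecialLinearGroup.coe_neg, Matrix.neg_apply]
      rw [show ((y * x : SpecialLinearGroup (Fin 2) K) : Matrix (Fin 2) (Fin 2) K) 1 1 = (y * x) 1 1 from rfl,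
        mul_11, y10, y11, x01, x11]
      ring

end unip


variable {F : Type*} [Field F] [Fintype F]

local notation "PG" => Matrix.ProjGenLinGroup (Fin 2) F
local notation "PS" => Matrix.ProjectiveSpecialLinearGroup (Fin 2) F

/-- **The subfield case.** -/
theorem pgl_rel_case (p : ℕ) [Fact p.Prime] [CharP F p] [IsSimpleGroup PS] (h2 : (2 : F) ≠ 0)
    {M : Subgroup PG} (hM : IsCoatom M) (hML : ¬ (tauF F).range ≤ M)
    {Kf : Type} [Field Kf] [Fintype Kf] (e : M ≃* Matrix.ProjGenLinGroup (Fin 2) Kf)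
    {a m : ℕ} (ha : 1 ≤ a) (hKf : Fintype.card Kf = p ^ a)
    (hq : Fintype.card F = (p ^ a) ^ m) (hmodd : Odd m)
    (htr : ∀ g' : SpecialLinearGroup (Fin 2) F, tauF F (piF F g') ∈ M →
      (tr g') ^ p ^ (2 * a) = tr g') : m.Prime := by
  classical
  have hpp := (Fact.out : p.Prime)
  obtain ⟨hp3', hpodd'⟩ := pow_card_facts (F := F) p h2
  have hpodd : Odd p := Nat.odd_iff.mpr hpodd'
  have hidx := index_range_tau (F := F) h2
  haveI : CharP Kf p := charP_of_card_eq_prime_pow hKf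
  have hKfodd : Odd (Fintype.card Kf) := by rw [hKf]; exact hpodd.pow
  have h2Kf : (2 : Kf) ≠ 0 := two_ne_zero_of_odd_card hKfodd
  -- the embedding of `PSL₂(Kf)`
  obtain ⟨φ, hφ⟩ : ∃ φ : Matrix.ProjectiveSpecialLinearGroup (Fin 2) Kf →* PG,
      φ = M.subtype.comp (e.symm.toMonoidHom.comp (tauF Kf)) := ⟨_, rfl⟩
  have hφM : ∀ z, φ z ∈ M := by
    intro z; rw [hφ]; exact (e.symm (tauF Kf z)).2
  have hφinj : Function.Injective φ := by
    rw [hφ]
    intro z z' hzz
    have h1 : e.symm (tauF Kf z) = e.symm (tauF Kf z') := Subtype.ext hzz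
    exact tauF_injective (e.symm.injective h1)
  have hunip : ∀ u : SpecialLinearGroup (Fin 2) Kf, u ^ p = 1 →
      φ (piF Kf u) ∈ (tauF F).range := by
    intro u hu
    obtain ⟨k, hk⟩ := hpodd
    have h1 : u = u ^ (k + 1) * u ^ (k + 1) := by
      rw [← pow_add]
      have : k + 1 + (k + 1) = p + 1 := by omega
      rw [this, pow_succ, hu, one_mul]
    rw [h1, map_mul, map_mul]
    exact sq_mem_range h2 _
  obtain ⟨t₁, t₂, t₃, xs, ys, hxs, hys, hxx, hyy, hxy'⟩ := exists_unip_quat (K := Kf) p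
  obtain ⟨k1, k2, k3, k4, k5, k6⟩ := klein_of_quat h2Kf hxx hyy hxy'
  have hxL : φ (piF Kf xs) ∈ (tauF F).range := by
    rw [hxs, map_mul, map_mul, map_mul, map_mul]
    exact Subgroup.mul_mem _ (Subgroup.mul_mem _ (hunip _ (uS_pow_char p _))
      (hunip _ (lS_pow_char p _))) (hunip _ (uS_pow_char p _))
  have hyL : φ (piF Kf ys) ∈ (tauF F).range := by
    rw [hys, map_mul, map_mul, map_mul, map_mul]
    exact Subgroup.mul_mem _ (Subgroup.mul_mem _ (hunip _ (uS_pow_char p _))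
      (hunip _ (lS_pow_char p _))) (hunip _ (uS_pow_char p _))
  obtain ⟨x₀, hx₀⟩ := hxL
  obtain ⟨y₀, hy₀⟩ := hyL
  have hx₀M : x₀ ∈ M.comap (tauF F) := by
    show tauF F x₀ ∈ M
    rw [hx₀]; exact hφM _
  have hy₀M : y₀ ∈ M.comap (tauF F) := by
    show tauF F y₀ ∈ M
    rw [hy₀]; exact hφM _
  have hx : x₀ * x₀ = 1 := by
    apply tauF_injective
    rw [map_mul, hx₀, ← φ.map_mul, k1, map_one, map_one]
  have hy : y₀ * y₀ = 1 := by
    apply tauF_injective
    rw [map_mul, hy₀, ← φ.map_mul, k2, map_one, map_one]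
  have hxy : x₀ * y₀ = y₀ * x₀ := by
    apply tauF_injective
    rw [map_mul, map_mul, hx₀, hy₀, ← φ.map_mul, ← φ.map_mul, k3]
  have hx1 : x₀ ≠ 1 := by
    intro h
    apply k4
    apply hφinj
    rw [← hx₀, h, map_one, map_one]
  have hy1 : y₀ ≠ 1 := by
    intro h
    apply k5
    apply hφinj
    rw [← hy₀, h, map_one, map_one]
  have hne : x₀ ≠ y₀ := by
    intro h
    apply k6
    apply hφinj
    rw [← hx₀, ← hy₀, h]
  -- cardinalities
  have hcardM : Nat.card M = p ^ a * ((p ^ a) ^ 2 - 1) := by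
    rw [Nat.card_congr e.toEquiv, card_PG, hKf]
  have hcM0 := card_M_eq hM h2 hML
  have hm0 : m ≠ 0 := by
    rintro rfl
    have := Fintype.one_lt_card (α := F)
    rw [hq] at this; simp at this
  have hm1 : m ≠ 1 := by
    rintro rfl
    rw [pow_one] at hq
    have hG := card_PG (F := F)
    rw [hq, ← hcardM] at hG
    exact hM.1 (Subgroup.eq_top_of_card_eq M hG.symm)
  by_contra hnp
  obtain ⟨m₁, hm₁dvd, hm₁2, hm₁lt⟩ := Nat.exists_dvd_of_not_prime2 (by omega) hnp
  obtain ⟨m₂, rfl⟩ := hm₁dvd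
  have hm₂ : 2 ≤ m₂ := by
    by_contra h
    push Not at h
    interval_cases m₂ <;> omega
  have hq' : Fintype.card F = (p ^ (a * m₁)) ^ m₂ := by
    rw [hq, pow_mul, pow_mul]
  -- traces
  have htr1 : ∀ g' : SpecialLinearGroup (Fin 2) F, tauF F (piF F g') ∈ M →
      (tr g') ^ p ^ a = tr g' := by
    intro g' hg'
    have h1 := htr g' hg'
    have h3 : (tr g') ^ Fintype.card F = tr g' := FiniteField.pow_card _
    obtain ⟨k, hk⟩ := hmodd
    have h4 : Fintype.card F = (p ^ (2 * a)) ^ k * p ^ a := by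
      rw [hq, hk, ← pow_mul, ← pow_mul, ← pow_add]
      congr 1; ring
    rw [h4, pow_mul] at h3
    by_cases hk0 : k = 0
    · rw [hk0, pow_zero, pow_one] at h3
      exact h3
    · rw [pow_pow_fix h1 k hk0] at h3
      exact h3
  have htr' : ∀ g' : SpecialLinearGroup (Fin 2) F, tauF F (piF F g') ∈ M →
      (tr g') ^ p ^ (a * m₁) = tr g' := by
    intro g' hg'
    rw [pow_mul]
    exact pow_pow_fix (htr1 g' hg') m₁ (by omega)
  -- quaternion coordinates
  obtain ⟨qa, qb, hxa, hyb, hqa, hqb, hqab⟩ := klein_lift h2 hx hy hxy hx1 hy1 hne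
  obtain ⟨Q⟩ := exists_QS (K := AlgebraicClosure F) h2 hqa hqab
  haveI : CharP (AlgebraicClosure F) p :=
    charP_of_injective_algebraMap (algebraMap F (AlgebraicClosure F)).injective p
  have h2K : (2 : AlgebraicClosure F) ≠ 0 := by
    intro h
    apply h2
    apply (algebraMap F (AlgebraicClosure F)).injective
    rw [map_ofNat, h, map_zero]
  have he1 : a * m₁ ≠ 0 := by positivity
  obtain ⟨S, hS⟩ : ∃ S : Subfield (AlgebraicClosure F), S = frobS p (a * m₁) := ⟨_, rfl⟩
  obtain ⟨X', hX'⟩ : ∃ X' : Subgroup (SpecialLinearGroup (Fin 2) F), X' = XZ Q S := ⟨_, rfl⟩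
  obtain ⟨A, hA⟩ : ∃ A : Subgroup (SpecialLinearGroup (Fin 2) F),
      A = (M.comap (tauF F)).comap (piF F) := ⟨_, rfl⟩
  have haA : qa ∈ A := by rw [hA]; show piF F qa ∈ M.comap (tauF F); rw [hxa]; exact hx₀M
  have hbA : qb ∈ A := by rw [hA]; show piF F qb ∈ M.comap (tauF F); rw [hyb]; exact hy₀M
  have hAX : A ≤ X' := by
    intro g hg
    have hmem : ∀ g' : SpecialLinearGroup (Fin 2) F, g' ∈ A →
        algebraMap F (AlgebraicClosure F) (tr g') ∈ S := by
      intro g' hg'
      rw [hS, mem_frobS, ← map_pow, htr' g' (by rw [hA] at hg'; exact hg')]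
    rw [hX']
    apply mem_XZ_of_traces Q h2K
    · exact hmem _ hg
    · exact hmem _ (A.mul_mem hg haA)
    · exact hmem _ (A.mul_mem hg hbA)
    · exact hmem _ (A.mul_mem hg (A.mul_mem haA hbA))
  have hinv : ∀ g : GL (Fin 2) F, ProjGenLinGroup.mk g ∈ M → ∀ h ∈ X', cg g h ∈ X' := by
    intro g hg h hh
    rw [hX'] at hh ⊢
    apply XZ_invariant Q h2K S (cg g) (cg g⁻¹) (cg_mul g) (tr_cg g) (cg_cg_inv g) A haA hbA
      (by rw [← hX']; exact hAX) ?_ h hh
    intro k hk
    rw [hA] at hk ⊢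
    have hg' : ProjGenLinGroup.mk g⁻¹ ∈ M := by rw [map_inv]; exact M.inv_mem hg
    exact cg_mem_M hg' hk
  have hXbot : X'.map (piF F) ≠ ⊥ := by
    intro h
    have : piF F qa ∈ X'.map (piF F) := Subgroup.mem_map_of_mem _ (hAX haA)
    rw [h, Subgroup.mem_bot, hxa] at this
    exact hx1 this
  have hker : (piF F).ker ≤ X' := by
    intro g hg
    rw [MonoidHom.mem_ker, piF_eq_one_iff'] at hg
    rcases hg with rfl | rfl
    · exact X'.one_mem
    · rw [hX']; exact neg_one_mem_XZ Q S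
  have hQ2 : 2 ≤ p ^ (a * m₁) := by
    calc 2 ≤ p := hpp.two_le
      _ = p ^ 1 := (pow_one p).symm
      _ ≤ p ^ (a * m₁) := Nat.pow_le_pow_right hpp.pos (by omega)
  obtain ⟨hfin, hcard⟩ := frobS_finite (K := AlgebraicClosure F) p he1
  haveI : Finite S := by rw [hS]; exact hfin
  have hcard' : Nat.card S ≤ p ^ (a * m₁) := by rw [hS]; exact hcard
  have hXtop : X'.map (piF F) ≠ ⊤ := by
    intro htop
    have h1 : (X'.map (piF F)).comap (piF F) = ⊤ := by rw [htop, Subgroup.comap_top]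
    rw [Subgroup.comap_map_eq, sup_eq_left.mpr hker] at h1
    have h3 := card_XZ_le Q S
    rw [← hX', h1, Subgroup.card_top, Cfsg.Agent.helper12.card_SL2] at h3
    have h4 : Nat.card S ^ 4 ≤ (p ^ (a * m₁)) ^ 4 := Nat.pow_le_pow_left hcard' 4
    have h5 := small_bound_gen hQ2 hm₂ hq'
    omega
  have hsub := rel_sub hM X' hinv hXbot hXtop
  -- a large unipotent subgroup
  letI : Fintype (GaloisField p (a * m₁)) := Fintype.ofFinite _
  have hKfcard : Fintype.card (GaloisField p (a * m₁)) = p ^ (a * m₁) := by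
    rw [← Nat.card_eq_fintype_card]
    exact GaloisField.card p (a * m₁) he1
  obtain ⟨ι₀⟩ := Cfsg.Agent.S0805.exists_ringHom (F := F) (K := GaloisField p (a * m₁)) m₂
    (by rw [hKfcard, hq'])
  obtain ⟨ψ, hψ1, hψS⟩ := exists_unip_hom' Q p h2
  obtain ⟨φ', hφ'⟩ : ∃ φ' : Multiplicative (GaloisField p (a * m₁)) →* PS,
      φ' = (piF F).comp (ψ.comp (AddMonoidHom.toMultiplicative ι₀.toAddMonoidHom)) := ⟨_, rfl⟩
  have hφ'app : ∀ s : Multiplicative (GaloisField p (a * m₁)),
      φ' s = piF F (ψ (Multiplicative.ofAdd (ι₀ (Multiplicative.toAdd s)))) := by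
    intro s
    rw [hφ']
    rfl
  have hinj : Function.Injective φ' := by
    rw [injective_iff_map_eq_one]
    intro s hs
    rw [hφ'app] at hs
    have := hψ1 _ ((piF_eq_one_iff' _).mp hs)
    have h0 : ι₀ (Multiplicative.toAdd s) = 0 := by
      have := congrArg Multiplicative.toAdd this
      simpa using this
    have h1 : Multiplicative.toAdd s = 0 := by
      apply ι₀.injective
      rw [h0, map_zero]
    exact Multiplicative.toAdd.injective h1
  have hUX : φ'.range ≤ X'.map (piF F) := by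
    rintro _ ⟨s, rfl⟩
    rw [hφ'app]
    refine Subgroup.mem_map_of_mem _ ?_
    rw [hX']
    apply hψS
    rw [hS, mem_frobS]
    simp only [toAdd_ofAdd]
    rw [← map_pow, ← map_pow, ← hKfcard, FiniteField.pow_card]
  have hUcard : Nat.card φ'.range = p ^ (a * m₁) := by
    rw [← Nat.card_congr (MonoidHom.ofInjective hinj).toEquiv]
    rw [Nat.card_congr (Multiplicative.toAdd (α := GaloisField p (a * m₁))),
      Nat.card_eq_fintype_card]
    exact hKfcard
  have hdvd : p ^ (a * m₁) ∣ Nat.card (M.comap (tauF F)) := by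
    rw [← hUcard]
    exact Subgroup.card_dvd_of_le (hUX.trans hsub)
  apply pow_dvd_aux hpp ha (j := a * m₁) (N := Nat.card (M.comap (tauF F))) (by nlinarith) hdvd
  rw [← hcardM, hcM0]
  exact Dvd.intro_left 2 rfl

end Cfsg.Agent.helper4.My
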