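import Mathlib
import Cfsg.Agent.Lib_helper4_MyF

set_option autoImplicit false
set_option linter.unusedSectionVars false
set_option maxHeartbeats 1600000

/-!
# Auxiliary lemmas for the main theorem on maximal subgroups of `PGL₂(q)`
-/

namespace Cfsg.Agent.helper4.My

open Matrix
open scoped LinearAlgebra.Projectivization MatrixGroups
open Cfsg.Agent.helper4.Dk Cfsg.Agent.helper4.Dn Cfsg.Agent.helper4.Mx

theorem card_eq_inf_mul {G : Type*} [Group G] (A B H : Subgroup G) [Finite H] (hA : A ≤ H)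
    (hB : B ≤ H) (hcard : Nat.card H = 2 * Nat.card B) :
    Nat.card A = Nat.card (A ⊓ B : Subgroup G) ∨
      Nat.card A = 2 * Nat.card (A ⊓ B : Subgroup G) := by
  haveI : Finite B := Finite.of_injective (fun x : B => (⟨x.1, hB x.2⟩ : H))
    (fun a b hab => Subtype.ext (congrArg (fun y : H => (y : G)) hab))
  have hBpos : 0 < Nat.card B := Nat.card_pos
  have h1 := Subgroup.relIndex_mul_relIndex ⊥ B H bot_le hB
  rw [Subgroup.relIndex_bot_left, Subgroup.relIndex_bot_left, hcard] at h1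
  have h2 : B.relIndex H = 2 := by
    have : Nat.card B * B.relIndex H = Nat.card B * 2 := by rw [h1]; ring
    exact Nat.eq_of_mul_eq_mul_left hBpos this
  have h3 : (B.subgroupOf H).index = 2 := h2
  haveI : (B.subgroupOf H).Normal := Subgroup.normal_of_index_eq_two h3
  have h4 := Subgroup.relIndex_dvd_index_of_normal (B.subgroupOf H) (A.subgroupOf H)
  rw [Subgroup.relIndex_subgroupOf hA, h3] at h4
  have h5 := Subgroup.relIndex_mul_relIndex ⊥ (A ⊓ B) A bot_le inf_le_left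
  rw [Subgroup.relIndex_bot_left, Subgroup.relIndex_bot_left, Subgroup.inf_relIndex_left] at h5
  rcases (Nat.dvd_prime Nat.prime_two).mp h4 with h | h
  · left; rw [← h5, h, mul_one]
  · right; rw [← h5, h, mul_comm]

variable {F : Type*} [Field F] [Fintype F] {K : Type*} [Field K] [Algebra F K] [IsAlgClosed K]

omit [IsAlgClosed K] in
theorem borel_entry (s : SpecialLinearGroup (Fin 2) F) (g : GL (Fin 2) F)
    (h : SpecialLinearGroup (Fin 2) K) (l : K) (hl0 : l ≠ 0)
    (hl : ∀ i j, h i j = algebraMap F K ((g : Matrix (Fin 2) (Fin 2) F) i j) * l)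
    (h10 : ((iota F K s)⁻¹ * h * iota F K s) 1 0 = 0) :
    (SpecialLinearGroup.toGL s)⁻¹ * g * SpecialLinearGroup.toGL s ∈ TG F := by
  rw [mem_TG, ← map_inv]
  have e1 : ((SpecialLinearGroup.toGL s⁻¹ * g * SpecialLinearGroup.toGL s : GL (Fin 2) F) :
      Matrix (Fin 2) (Fin 2) F) 1 0 =
      (s⁻¹ 1 0 * (g : Matrix (Fin 2) (Fin 2) F) 0 0 + s⁻¹ 1 1 * (g : Matrix (Fin 2) (Fin 2) F) 1 0) * s 0 0 +
      (s⁻¹ 1 0 * (g : Matrix (Fin 2) (Fin 2) F) 0 1 + s⁻¹ 1 1 * (g : Matrix (Fin 2) (Fin 2) F) 1 1) * s 1 0 := by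
    rw [Units.val_mul, Units.val_mul, Matrix.mul_apply, Fin.sum_univ_two, Matrix.mul_apply,
      Matrix.mul_apply, Fin.sum_univ_two, Fin.sum_univ_two]
    rfl
  rw [e1]
  rw [mul_10, mul_10, mul_11, ← map_inv, iota_apply, iota_apply, iota_apply, iota_apply,
    hl, hl, hl, hl] at h10
  apply (algebraMap F K).injective
  rw [map_zero]
  have h3 : algebraMap F K ((s⁻¹ 1 0 * (g : Matrix (Fin 2) (Fin 2) F) 0 0 +
      s⁻¹ 1 1 * (g : Matrix (Fin 2) (Fin 2) F) 1 0) * s 0 0 +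
      (s⁻¹ 1 0 * (g : Matrix (Fin 2) (Fin 2) F) 0 1 +
      s⁻¹ 1 1 * (g : Matrix (Fin 2) (Fin 2) F) 1 1) * s 1 0) * l = 0 := by
    simp only [map_add, map_mul]
    linear_combination h10
  exact (mul_eq_zero.mp h3).resolve_right hl0

omit [IsAlgClosed K] in
theorem trace_of_conj (d : SpecialLinearGroup (Fin 2) K)
    (H : Subgroup (SpecialLinearGroup (Fin 2) K)) (N : ℕ)
    (htr : ∀ h ∈ cj d H, tr h ^ N = tr h) : ∀ h ∈ H, tr h ^ N = tr h := by
  intro h hh
  have h1 : d⁻¹ * h * d ∈ cj d H := by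
    rw [mem_cj]
    have e : d * (d⁻¹ * h * d) * d⁻¹ = h := by group
    rw [e]; exact hh
  have h2 := htr _ h1
  have e : d⁻¹ * h * d = d⁻¹ * h * d⁻¹⁻¹ := by rw [inv_inv]
  rw [e, tr_conj] at h2
  exact h2

theorem conj_image (M : Subgroup (Matrix.ProjGenLinGroup (Fin 2) F))
    (d : SpecialLinearGroup (Fin 2) K) :
    ∃ G' : Subgroup (Matrix.ProjectiveSpecialLinearGroup (Fin 2) K), Nonempty (M ≃* G') ∧
      G'.comap (piF K) = cj d ((M.map (EE F K)).comap (piF K)) := by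
  obtain ⟨E', hE'⟩ : ∃ E' : Matrix.ProjGenLinGroup (Fin 2) F →*
      Matrix.ProjectiveSpecialLinearGroup (Fin 2) K,
      E' = (MulAut.conj (piF K d)⁻¹).toMonoidHom.comp (EE F K) := ⟨_, rfl⟩
  have hE'app : ∀ m, E' m = (piF K d)⁻¹ * EE F K m * piF K d := by
    intro m
    rw [hE']
    simp [MulAut.conj_apply]
  have hinj : Function.Injective E' := by
    intro m m' hmm
    rw [hE'app, hE'app] at hmm
    apply EE_injective (K := K)
    have := congrArg (fun x => piF K d * x * (piF K d)⁻¹) hmm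
    simpa [mul_assoc] using this
  refine ⟨M.map E', ⟨M.equivMapOfInjective _ hinj⟩, ?_⟩
  ext g
  rw [Subgroup.mem_comap, mem_cj, Subgroup.mem_comap, Subgroup.mem_map, Subgroup.mem_map]
  constructor
  · rintro ⟨m, hm, hmg⟩
    refine ⟨m, hm, ?_⟩
    rw [hE'app] at hmg
    rw [map_mul, map_mul, map_inv, ← hmg]
    group
  · rintro ⟨m, hm, hmg⟩
    refine ⟨m, hm, ?_⟩
    rw [hE'app, hmg, map_mul, map_mul, map_inv]
    group

end Cfsg.Agent.helper4.My
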