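import Mathlib

set_option autoImplicit false
set_option maxHeartbeats 1600000

/-!
# Numerical lemmas for the comparison of maximal subgroups of `PGL₂(q)` and `PSL₂(q)`
-/

namespace Cfsg.Agent.helper4.Mz

theorem two_mul_le_of_dvd {a b : ℕ} (hb : 0 < b) (hab : a ∣ b) (hne : a ≠ b) : 2 * a ≤ b := by
  obtain ⟨c, rfl⟩ := hab
  rcases c with _ | _ | c
  · omega
  · simp at hne
  · nlinarith

/-! ### upper bounds for `b` -/

theorem z1_bound {q b : ℕ} (hq : 5 ≤ q) (hb : 2 * b = q * (q - 1)) : b < q * (q - 1) := by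
  obtain ⟨n, rfl⟩ : ∃ n, q = n + 1 := ⟨q - 1, by omega⟩
  simp only [Nat.add_sub_cancel] at *
  have : 0 < (n + 1) * n := by nlinarith
  omega

theorem z2_bound {q : ℕ} (hq : 5 ≤ q) : q - 1 < q * (q - 1) := by
  obtain ⟨n, rfl⟩ : ∃ n, q = n + 1 := ⟨q - 1, by omega⟩
  simp only [Nat.add_sub_cancel] at *
  nlinarith

theorem z3_bound {q : ℕ} (hq : 5 ≤ q) : q + 1 < q * (q - 1) := by
  obtain ⟨n, rfl⟩ : ∃ n, q = n + 1 := ⟨q - 1, by omega⟩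
  simp only [Nat.add_sub_cancel] at *
  nlinarith

theorem z4_bound {q q₁ : ℕ} (hq : 5 ≤ q) (hq₁ : q = q₁ ^ 2) :
    q₁ * (q₁ ^ 2 - 1) < q * (q - 1) := by
  have h2 : 2 ≤ q₁ := by
    by_contra h
    have : q₁ ≤ 1 := by omega
    have : q₁ ^ 2 ≤ 1 := by nlinarith
    omega
  rw [← hq₁]
  have h1 : 0 < q - 1 := by omega
  have h3 : q₁ < q := by rw [hq₁]; nlinarith
  exact Nat.mul_lt_mul_of_pos_right h3 h1

theorem z5_small {q q₁ s b : ℕ} (hq : 5 ≤ q) (hs : 3 ≤ s) (hq₁ : q = q₁ ^ s)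
    (hb : 2 * b = q₁ * (q₁ ^ 2 - 1)) : b + 2 ≤ q := by
  have h2 : 2 ≤ q₁ := by
    by_contra h
    have h1 : q₁ ≤ 1 := by omega
    have : q₁ ^ s ≤ 1 := by
      interval_cases q₁
      · rw [zero_pow (by omega)]; omega
      · simp
    omega
  have h3 : q₁ ^ 3 ≤ q := by
    rw [hq₁]; exact Nat.pow_le_pow_right (by omega) hs
  have h4 : q₁ * (q₁ ^ 2 - 1) + q₁ = q₁ ^ 3 := by
    have : 1 ≤ q₁ ^ 2 := Nat.one_le_pow _ _ (by omega)
    obtain ⟨m, hm⟩ : ∃ m, q₁ ^ 2 = m + 1 := ⟨q₁ ^ 2 - 1, by omega⟩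
    rw [hm, Nat.add_sub_cancel]
    calc q₁ * m + q₁ = q₁ * (m + 1) := by ring
      _ = q₁ * q₁ ^ 2 := by rw [hm]
      _ = q₁ ^ 3 := by ring
  have h5 : 8 ≤ q₁ ^ 3 := by
    calc 8 = 2 ^ 3 := by norm_num
      _ ≤ q₁ ^ 3 := Nat.pow_le_pow_left h2 3
  omega

theorem z5_bound {q q₁ s b : ℕ} (hq : 5 ≤ q) (hs : 3 ≤ s) (hq₁ : q = q₁ ^ s)
    (hb : 2 * b = q₁ * (q₁ ^ 2 - 1)) : b < q * (q - 1) := by
  have h1 := z5_small hq hs hq₁ hb
  have h2 := z2_bound hq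
  have : q ≤ q * (q - 1) := Nat.le_mul_of_pos_right q (by omega)
  omega

theorem z6_bound {q : ℕ} (hq : 5 ≤ q) (h10 : q % 10 = 1 ∨ q % 10 = 9) : 60 < q * (q - 1) := by
  have h9 : 9 ≤ q := by omega
  obtain ⟨n, rfl⟩ : ∃ n, q = n + 1 := ⟨q - 1, by omega⟩
  simp only [Nat.add_sub_cancel] at *
  nlinarith

theorem z7_bound {q : ℕ} (hq : 5 ≤ q) : 12 < q * (q - 1) := by
  obtain ⟨n, rfl⟩ : ∃ n, q = n + 1 := ⟨q - 1, by omega⟩
  simp only [Nat.add_sub_cancel] at *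
  nlinarith

theorem z8_bound {q : ℕ} (hq : 5 ≤ q) (h8 : q % 8 = 1 ∨ q % 8 = 7) : 24 < q * (q - 1) := by
  have h9 : 7 ≤ q := by omega
  obtain ⟨n, rfl⟩ : ∃ n, q = n + 1 := ⟨q - 1, by omega⟩
  simp only [Nat.add_sub_cancel] at *
  nlinarith

/-- the Borel case: `M ∩ L` is too big to be properly contained in anything -/
theorem m1_excl {q a b : ℕ} (ha : 2 * a = q * (q - 1)) (h2 : 2 * a ≤ b) (hb : b < q * (q - 1)) :
    False := by omega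

/-! ### `a = q - 1` -/

theorem m2z1 {q b : ℕ} (hq : 5 ≤ q) (hodd : Odd q) (hab : (q - 1) ∣ b)
    (hb : 2 * b = q * (q - 1)) : False := by
  obtain ⟨c, rfl⟩ := hab
  have h1 : 0 < q - 1 := by omega
  have h2 : (q - 1) * (2 * c) = (q - 1) * q := by
    calc (q - 1) * (2 * c) = 2 * ((q - 1) * c) := by ring
      _ = q * (q - 1) := hb
      _ = (q - 1) * q := by ring
  have h3 : 2 * c = q := Nat.eq_of_mul_eq_mul_left h1 h2
  obtain ⟨k, hk⟩ := hodd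
  omega

theorem m2z3 {q : ℕ} (hq : 5 ≤ q) (hab : (q - 1) ∣ (q + 1)) : False := by
  have h1 : (q - 1) ∣ 2 := by
    have : q + 1 = (q - 1) + 2 := by omega
    rw [this] at hab
    exact (Nat.dvd_add_right (dvd_refl _)).mp hab
  have := Nat.le_of_dvd (by norm_num) h1
  omega

theorem m2z5 {q q₁ s b : ℕ} (hq : 5 ≤ q) (hs : 3 ≤ s) (hq₁ : q = q₁ ^ s)
    (hb : 2 * b = q₁ * (q₁ ^ 2 - 1)) (hab : q - 1 ≤ b) : False := by
  have h1 := z5_small hq hs hq₁ hb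
  omega

theorem dvd60 {d : ℕ} (h : d ∣ 60) : d ∈ ({1,2,3,4,5,6,10,12,15,20,30,60} : Finset ℕ) := by
  have h1 : d ∈ Nat.divisors 60 := Nat.mem_divisors.mpr ⟨h, by norm_num⟩
  have h2 : Nat.divisors 60 = {1,2,3,4,5,6,10,12,15,20,30,60} := by decide
  rw [h2] at h1; exact h1

theorem dvd24 {d : ℕ} (h : d ∣ 24) : d ∈ ({1,2,3,4,6,8,12,24} : Finset ℕ) := by
  have h1 : d ∈ Nat.divisors 24 := Nat.mem_divisors.mpr ⟨h, by norm_num⟩
  have h2 : Nat.divisors 24 = {1,2,3,4,6,8,12,24} := by decide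
  rw [h2] at h1; exact h1

theorem dvd12 {d : ℕ} (h : d ∣ 12) : d ∈ ({1,2,3,4,6,12} : Finset ℕ) := by
  have h1 : d ∈ Nat.divisors 12 := Nat.mem_divisors.mpr ⟨h, by norm_num⟩
  have h2 : Nat.divisors 12 = {1,2,3,4,6,12} := by decide
  rw [h2] at h1; exact h1

/-- `a = q - 1`, `Z ≅ A₅`: only `q = 31` survives -/
theorem m2z6 {q p : ℕ} (hp : p.Prime) (hq : 5 ≤ q) (h11 : q ≠ 11)
    (hab : (q - 1) ∣ 60) (hne : q - 1 ≠ 60) (h10 : q % 10 = 1 ∨ q % 10 = 9)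
    (hqp : q = p ∨ q = p ^ 2) : q = 31 := by
  have h := dvd60 hab
  simp only [Finset.mem_insert, Finset.mem_singleton] at h
  have hq21 : q ≠ 21 := by
    rintro rfl
    rcases hqp with h | h
    · rw [← h] at hp; norm_num at hp
    · have : p < 5 := by nlinarith
      interval_cases p <;> omega
  omega

theorem m2z7 {q : ℕ} (hq : 5 ≤ q) (h5 : q ≠ 5) (hab : (q - 1) ∣ 12) (hne : q - 1 ≠ 12)
    (h8 : q % 8 = 3 ∨ q % 8 = 5) : False := by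
  have h := dvd12 hab
  simp only [Finset.mem_insert, Finset.mem_singleton] at h
  omega

theorem m2z8 {q : ℕ} (hq : 5 ≤ q) (h7 : q ≠ 7) (h9 : q ≠ 9) (hab : (q - 1) ∣ 24) (hne : q - 1 ≠ 24)
    (h8 : q % 8 = 1 ∨ q % 8 = 7) : False := by
  have h := dvd24 hab
  simp only [Finset.mem_insert, Finset.mem_singleton] at h
  omega

/-! ### `a = q + 1` -/

theorem dvd_two_of_dvd {q : ℕ} (hq : 5 ≤ q) {d : ℕ} (h1 : d ∣ q + 1) (h2 : d ∣ q * (q - 1)) :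
    d ∣ 2 := by
  have h3 : q * (q - 1) + 2 * (q + 1) = (q + 1) * q + 2 := by
    obtain ⟨n, rfl⟩ : ∃ n, q = n + 1 := ⟨q - 1, by omega⟩
    simp only [Nat.add_sub_cancel]
    ring
  have h4 : d ∣ (q + 1) * q + 2 := by
    rw [← h3]; exact dvd_add h2 (dvd_mul_of_dvd_right h1 _)
  exact (Nat.dvd_add_right (dvd_mul_of_dvd_left h1 _)).mp h4

theorem m3z1 {q b : ℕ} (hq : 5 ≤ q) (hab : (q + 1) ∣ b) (hb : 2 * b = q * (q - 1)) : False := by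
  have h1 : (q + 1) ∣ q * (q - 1) := by rw [← hb]; exact dvd_mul_of_dvd_right hab _
  have h2 := dvd_two_of_dvd hq (dvd_refl _) h1
  have := Nat.le_of_dvd (by norm_num) h2
  omega

theorem m3z4 {q q₁ : ℕ} (hq : 5 ≤ q) (hq₁ : q = q₁ ^ 2) (hab : (q + 1) ∣ q₁ * (q₁ ^ 2 - 1)) :
    False := by
  rw [← hq₁] at hab
  have h1 : (q + 1) ∣ q * (q - 1) := by
    have : q * (q - 1) = q₁ * (q₁ * (q - 1)) := by rw [hq₁]; ring
    rw [this]; exact dvd_mul_of_dvd_right hab _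
  have h2 := dvd_two_of_dvd hq (dvd_refl _) h1
  have := Nat.le_of_dvd (by norm_num) h2
  omega

theorem m3z5 {q q₁ s b : ℕ} (hq : 5 ≤ q) (hs : 3 ≤ s) (hq₁ : q = q₁ ^ s)
    (hb : 2 * b = q₁ * (q₁ ^ 2 - 1)) (hab : q + 1 ≤ b) : False := by
  have h1 := z5_small hq hs hq₁ hb
  omega

theorem m3z6 {q : ℕ} (hq : 5 ≤ q) (h9 : q ≠ 9) (h11 : q ≠ 11)
    (h40 : q.Prime → q % 40 ∉ ({11, 19, 21, 29} : Finset ℕ))
    (hab : (q + 1) ∣ 60) (hne : q + 1 ≠ 60) (h10 : q % 10 = 1 ∨ q % 10 = 9) : False := by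
  have h := dvd60 hab
  simp only [Finset.mem_insert, Finset.mem_singleton] at h
  have h19 : q ≠ 19 := by
    rintro rfl
    exact h40 (by norm_num) (by decide)
  have h29 : q ≠ 29 := by
    rintro rfl
    exact h40 (by norm_num) (by decide)
  omega

/-- `a = q + 1`, `Z ≅ A₄`: only `q = 5` survives -/
theorem m3z7 {q : ℕ} (hq : 5 ≤ q) (hab : (q + 1) ∣ 12) (hne : q + 1 ≠ 12) : q = 5 := by
  have h := dvd12 hab
  simp only [Finset.mem_insert, Finset.mem_singleton] at h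
  omega

theorem m3z8 {q : ℕ} (hq : 5 ≤ q) (h7 : q ≠ 7) (hab : (q + 1) ∣ 24) (hne : q + 1 ≠ 24)
    (h8 : q % 8 = 1 ∨ q % 8 = 7) : False := by
  have h := dvd24 hab
  simp only [Finset.mem_insert, Finset.mem_singleton] at h
  omega

/-! ### `a = 12`, `q` prime, `q ≡ ±3 (mod 8)` -/

theorem m4z1 {q b : ℕ} (hq : 5 ≤ q) (h8 : q % 8 = 3 ∨ q % 8 = 5) (hab : 12 ∣ b)
    (hb : 2 * b = q * (q - 1)) : False := by
  obtain ⟨c, rfl⟩ := hab
  have h1 : q * (q - 1) % 8 = 0 := by rw [← hb]; omega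
  have h2 : q * (q - 1) % 8 = (q % 8) * ((q - 1) % 8) % 8 := Nat.mul_mod _ _ _
  rcases h8 with h | h
  · have h3 : (q - 1) % 8 = 2 := by omega
    rw [h2, h, h3] at h1; norm_num at h1
  · have h3 : (q - 1) % 8 = 4 := by omega
    rw [h2, h, h3] at h1; norm_num at h1

theorem m4z4 {q q₁ : ℕ} (hp : q.Prime) (hq₁ : q = q₁ ^ 2) : False := by
  rw [hq₁] at hp
  have := Nat.Prime.eq_one_of_pow hp
  omega

theorem m4z5 {q q₁ s : ℕ} (hp : q.Prime) (hs : 3 ≤ s) (hq₁ : q = q₁ ^ s) : False := by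
  rw [hq₁] at hp
  have := Nat.Prime.eq_one_of_pow hp
  omega

theorem m4z6 {q : ℕ} (hp : q.Prime) (h40 : q.Prime → q % 40 ∉ ({11, 19, 21, 29} : Finset ℕ))
    (h8 : q % 8 = 3 ∨ q % 8 = 5) (h10 : q % 10 = 1 ∨ q % 10 = 9) : False := by
  apply h40 hp
  simp only [Finset.mem_insert, Finset.mem_singleton]
  omega

/-! ### the subfield case `2a = q₀ (q₀² - 1)`, `q = q₀ ^ r` -/

theorem q0_facts {q q₀ r : ℕ} (hq : 5 ≤ q) (hodd : Odd q) (hr : 3 ≤ r) (hq₀ : q = q₀ ^ r) :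
    3 ≤ q₀ ∧ Odd q₀ := by
  have hodd₀ : Odd q₀ := by
    rw [hq₀] at hodd
    exact (Nat.odd_pow_iff (by omega)).mp hodd
  refine ⟨?_, hodd₀⟩
  by_contra h
  obtain ⟨k, hk⟩ := hodd₀
  have h1 : q₀ = 1 := by omega
  rw [h1, one_pow] at hq₀
  omega

theorem m5_dvd {q₀ a : ℕ} (hodd : Odd q₀) (ha : 2 * a = q₀ * (q₀ ^ 2 - 1)) : q₀ ∣ a := by
  obtain ⟨k, rfl⟩ := hodd
  have h1 : (2 * k + 1) ^ 2 - 1 = 2 * (2 * k * (k + 1)) := by
    have : (2 * k + 1) ^ 2 = 2 * (2 * k * (k + 1)) + 1 := by ring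
    omega
  rw [h1] at ha
  have h2 : a = (2 * k + 1) * (2 * k * (k + 1)) := by
    have : 2 * a = 2 * ((2 * k + 1) * (2 * k * (k + 1))) := by rw [ha]; ring
    omega
  rw [h2]; exact dvd_mul_right _ _

theorem m5_succ_dvd {q₀ a : ℕ} (hq₀ : 1 ≤ q₀) (ha : 2 * a = q₀ * (q₀ ^ 2 - 1)) :
    (q₀ + 1) ∣ 2 * a := by
  rw [ha]
  have h1 : q₀ ^ 2 - 1 = (q₀ + 1) * (q₀ - 1) := by
    obtain ⟨n, rfl⟩ : ∃ n, q₀ = n + 1 := ⟨q₀ - 1, by omega⟩
    simp only [Nat.add_sub_cancel]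
    have : (n + 1) ^ 2 = (n + 1 + 1) * n + 1 := by ring
    omega
  rw [h1]
  exact dvd_mul_of_dvd_right (dvd_mul_right _ _) _

theorem m5z1 {q q₀ r a b : ℕ} (hq : 5 ≤ q) (hq₀3 : 3 ≤ q₀) (hr : Odd r) (hq₀ : q = q₀ ^ r)
    (ha : 2 * a = q₀ * (q₀ ^ 2 - 1)) (hab : a ∣ b) (hb : 2 * b = q * (q - 1)) : False := by
  have h1 : (q₀ + 1) ∣ q + 1 := by
    have := Odd.nat_add_dvd_pow_add_pow q₀ 1 hr
    rw [one_pow, ← hq₀] at this
    exact this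
  have h2 : (q₀ + 1) ∣ q * (q - 1) := by
    rw [← hb]
    exact (m5_succ_dvd (by omega) ha).trans (mul_dvd_mul_left 2 hab)
  have h3 := dvd_two_of_dvd hq h1 h2
  have := Nat.le_of_dvd (by norm_num) h3
  omega

theorem m5z23 {q q₀ r a : ℕ} (hq₀3 : 3 ≤ q₀) (hr : 1 ≤ r) (hq₀ : q = q₀ ^ r) (hodd : Odd q₀)
    (ha : 2 * a = q₀ * (q₀ ^ 2 - 1)) (hab : a ∣ q - 1 ∨ a ∣ q + 1) : False := by
  have h1 : q₀ ∣ a := m5_dvd hodd ha
  have h2 : q₀ ∣ q := by rw [hq₀]; exact dvd_pow_self _ (by omega)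
  have hq1 : 1 ≤ q := by rw [hq₀]; exact Nat.one_le_pow _ _ (by omega)
  rcases hab with h | h
  · have h3 : q₀ ∣ q - 1 := h1.trans h
    have h4 : q₀ ∣ 1 := by
      have : q = (q - 1) + 1 := by omega
      rw [this] at h2
      exact (Nat.dvd_add_right h3).mp h2
    have := Nat.le_of_dvd (by norm_num) h4
    omega
  · have h3 : q₀ ∣ q + 1 := h1.trans h
    have h4 : q₀ ∣ 1 := (Nat.dvd_add_right h2).mp h3
    have := Nat.le_of_dvd (by norm_num) h4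
    omega

theorem m5z4 {q q₀ q₁ r a : ℕ} (hq : 5 ≤ q) (hq₀3 : 3 ≤ q₀) (hr : Odd r) (hq₀ : q = q₀ ^ r)
    (hq₁ : q = q₁ ^ 2)
    (ha : 2 * a = q₀ * (q₀ ^ 2 - 1)) (hab : a ∣ q₁ * (q₁ ^ 2 - 1)) : False := by
  have h1 : (q₀ + 1) ∣ q + 1 := by
    have := Odd.nat_add_dvd_pow_add_pow q₀ 1 hr
    rw [one_pow, ← hq₀] at this
    exact this
  rw [← hq₁] at hab
  have h2 : (q₀ + 1) ∣ 2 * (q * (q - 1)) := by
    have h3 : (q₀ + 1) ∣ 2 * (q₁ * (q - 1)) :=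
      (m5_succ_dvd (by omega) ha).trans (mul_dvd_mul_left 2 hab)
    have : 2 * (q * (q - 1)) = q₁ * (2 * (q₁ * (q - 1))) := by rw [hq₁]; ring
    rw [this]; exact dvd_mul_of_dvd_right h3 _
  -- q (q-1) = (q+1)(q-2) + 2
  have h4 : 2 * (q * (q - 1)) + 4 * (q + 1) = (q + 1) * (2 * q) + 4 := by
    obtain ⟨n, rfl⟩ : ∃ n, q = n + 1 := ⟨q - 1, by omega⟩
    simp only [Nat.add_sub_cancel]
    ring
  have h5 : (q₀ + 1) ∣ 4 := by
    have h6 : (q₀ + 1) ∣ (q + 1) * (2 * q) + 4 := by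
      rw [← h4]; exact dvd_add h2 (dvd_mul_of_dvd_right h1 _)
    exact (Nat.dvd_add_right (dvd_mul_of_dvd_left h1 _)).mp h6
  have h7 : q₀ = 3 := by
    have := Nat.le_of_dvd (by norm_num) h5
    omega
  subst h7
  -- 3 ^ r = q₁ ^ 2 with r odd
  have h8 : q₁ ∣ 3 ^ r := by
    rw [← hq₀, hq₁]; exact dvd_pow_self _ (by norm_num)
  obtain ⟨j, -, rfl⟩ := (Nat.dvd_prime_pow Nat.prime_three).mp h8
  rw [hq₀, ← pow_mul] at hq₁
  have h9 : r = j * 2 := Nat.pow_right_injective (by norm_num : 2 ≤ 3) hq₁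
  obtain ⟨k, hk⟩ := hr
  omega

theorem m5z678 {q q₀ p r : ℕ} (hp : p.Prime) (hq₀3 : 3 ≤ q₀) (hr : 3 ≤ r) (hq₀ : q = q₀ ^ r)
    (hqp : q = p ∨ q = p ^ 2) : False := by
  have h1 : q₀ ∣ p ^ 2 := by
    rcases hqp with h | h
    · rw [← h, hq₀, sq]
      exact dvd_mul_of_dvd_left (dvd_pow_self _ (by omega)) _
    · rw [← h, hq₀]; exact dvd_pow_self _ (by omega)
  obtain ⟨j, hj, rfl⟩ := (Nat.dvd_prime_pow hp).mp h1
  have hj1 : 1 ≤ j := by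
    by_contra h
    have : j = 0 := by omega
    subst this
    simp at hq₀3
  rw [← pow_mul] at hq₀
  rcases hqp with h | h
  · have h2 : p ^ (j * r) = p ^ 1 := by rw [← hq₀, h, pow_one]
    have h3 := Nat.pow_right_injective hp.two_le h2
    nlinarith
  · have h2 : p ^ (j * r) = p ^ 2 := by rw [← hq₀, h]
    have h3 := Nat.pow_right_injective hp.two_le h2
    nlinarith

end Cfsg.Agent.helper4.Mz
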