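import Mathlib
import Cfsg.Agent.Lib_helper4_MyB

set_option autoImplicit false
set_option maxHeartbeats 1600000

/-!
# Structural lemmas for the comparison of maximal subgroups of `PGL₂(q)` and `PSL₂(q)`
-/

namespace Cfsg.Agent.helper4.Mz

open Cfsg.Agent.helper4.My

/-- relative coatom criterion -/
theorem isCoatom_subgroupOf {G : Type*} [Group G] (A L : Subgroup G) (hAL : A ≤ L) (hne : A ≠ L)
    (h : ∀ Y : Subgroup G, A ≤ Y → Y ≤ L → Y ≠ A → Y = L) : IsCoatom (A.subgroupOf L) := by
  constructor
  · intro h1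
    rw [Subgroup.subgroupOf_eq_top] at h1
    exact hne (le_antisymm hAL h1)
  · intro Y' hY'
    have h1 : A ≤ Y'.map L.subtype := by
      intro x hx
      exact ⟨⟨x, hAL hx⟩, hY'.le (by rw [Subgroup.mem_subgroupOf]; exact hx), rfl⟩
    have h2 : Y'.map L.subtype ≤ L := by
      rintro _ ⟨y, -, rfl⟩
      exact y.2
    have h3 : Y'.map L.subtype ≠ A := by
      intro h3
      apply hY'.ne
      ext y
      rw [Subgroup.mem_subgroupOf, ← h3]
      constructor
      · rintro ⟨z, hz, hzy⟩
        have : z = y := Subtype.ext hzy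
        rw [← this]; exact hz
      · intro hy
        exact ⟨y, hy, rfl⟩
    have h4 := h _ h1 h2 h3
    rw [eq_top_iff]
    intro y _
    have : (y : G) ∈ Y'.map L.subtype := by rw [h4]; exact y.2
    obtain ⟨z, hz, hzy⟩ := this
    have : z = y := Subtype.ext hzy
    rw [← this]; exact hz

/-- a proper subgroup of the range lies in the image of a coatom -/
theorem exists_coatom_map {P G : Type*} [Group P] [Group G] [Finite P] (τ : P →* G)
    (Y : Subgroup G) (hY : Y ≤ τ.range) (hne : Y ≠ τ.range) :
    ∃ Z : Subgroup P, IsCoatom Z ∧ Y ≤ Z.map τ := by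
  have h1 : Y.comap τ ≠ ⊤ := by
    intro h
    apply hne
    apply le_antisymm hY
    rintro _ ⟨x, rfl⟩
    have : x ∈ Y.comap τ := by rw [h]; trivial
    exact this
  rcases eq_top_or_exists_le_coatom (Y.comap τ) with h | ⟨Z, hZ, hle⟩
  · exact absurd h h1
  · refine ⟨Z, hZ, ?_⟩
    intro y hy
    obtain ⟨x, rfl⟩ := hY hy
    exact ⟨x, hle hy, rfl⟩

theorem dih_sq_comm {k : ℕ} (a b : DihedralGroup k) : a * a * (b * b) = b * b * (a * a) := by
  cases a <;> cases b <;> simp [add_comm]

set_option maxRecDepth 100000 in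
theorem s4_fourth_noncomm : ∃ s t : Equiv.Perm (Fin 4),
    (s * s) * (s * s) * ((t * t) * (t * t)) ≠ (t * t) * (t * t) * ((s * s) * (s * s)) := by
  decide

/-- a group all of whose squares lie in a subgroup of a dihedral group cannot be `S₄` -/
theorem s4_dih_excl {G : Type*} [Group G] {M Y : Subgroup G} (f : M ≃* Equiv.Perm (Fin 4))
    {k : ℕ} (g : Y ≃* DihedralGroup k) (h : ∀ x ∈ M, x * x ∈ Y) : False := by
  obtain ⟨s, t, hst⟩ := s4_fourth_noncomm
  apply hst
  obtain ⟨s', rfl⟩ := f.surjective s
  obtain ⟨t', rfl⟩ := f.surjective t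
  set A : Y := ⟨(s' : G) * (s' : G), h _ s'.2⟩ with hA
  set B : Y := ⟨(t' : G) * (t' : G), h _ t'.2⟩ with hB
  have h1 : A * A * (B * B) = B * B * (A * A) := by
    apply g.injective
    simp only [map_mul]
    exact dih_sq_comm _ _
  have h2 : (s' * s') * (s' * s') * ((t' * t') * (t' * t')) =
      (t' * t') * (t' * t') * ((s' * s') * (s' * s')) := by
    apply Subtype.ext
    have := congrArg (Subtype.val) h1
    simpa [hA, hB] using this
  have := congrArg f h2
  simpa only [map_mul] using this

/-- a simple group of order `> 2` has no subgroup of index two -/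
theorem index_two_simple_excl {G : Type*} [Group G] {A Y : Subgroup G} (hAY : A ≤ Y) [Finite Y]
    (h2 : Nat.card Y = 2 * Nat.card A) {S : Type*} [Group S] [IsSimpleGroup S] (e : Y ≃* S)
    (hS : 2 < Nat.card S) : False := by
  have hcY : Nat.card Y = Nat.card S := Nat.card_congr e.toEquiv
  set A' : Subgroup S := (A.subgroupOf Y).map e.toMonoidHom with hA'
  have h3 : Nat.card A' = Nat.card A := by
    rw [hA', Subgroup.card_map_of_injective e.injective]
    exact Nat.card_congr (Subgroup.subgroupOfEquivOfLe hAY).toEquiv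
  haveI : Finite S := Finite.of_equiv _ e.toEquiv
  have h4 := Subgroup.card_mul_index A'
  have hpos : 0 < Nat.card A' := Nat.card_pos
  have h5 : A'.index = 2 := by
    rw [h3, ← hcY, h2] at h4
    rw [h3] at hpos
    have : Nat.card A * A'.index = Nat.card A * 2 := by rw [h4]; ring
    exact Nat.eq_of_mul_eq_mul_left hpos this
  haveI : A'.Normal := Subgroup.normal_of_index_eq_two h5
  rcases Subgroup.Normal.eq_bot_or_eq_top (H := A') inferInstance with h | h
  · rw [h, Subgroup.card_bot] at h3
    omega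
  · rw [h, Subgroup.index_top] at h5
    omega

/-- `A₄` has no subgroup of order `6` -/
theorem a4_no_index_two {G : Type*} [Group G] {A Y : Subgroup G} (hAY : A ≤ Y)
    (e : Y ≃* alternatingGroup (Fin 4)) (h : Nat.card A = 6) : False := by
  set A' : Subgroup (alternatingGroup (Fin 4)) := (A.subgroupOf Y).map e.toMonoidHom with hA'
  have h3 : Nat.card A' = 6 := by
    rw [hA', Subgroup.card_map_of_injective e.injective, ← h]
    exact Nat.card_congr (Subgroup.subgroupOfEquivOfLe hAY).toEquiv
  have hc : Nat.card (alternatingGroup (Fin 4)) = 12 := by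
    rw [Nat.card_eq_fintype_card]; rfl
  have h4 := Subgroup.card_mul_index A'
  rw [h3, hc] at h4
  have h5 : A'.index = 2 := by omega
  have h6 : A' = ⊤ := by
    rw [eq_top_iff]
    intro g _
    obtain ⟨a, b, rfl⟩ := a4_sq g
    exact A'.mul_mem (Subgroup.mul_self_mem_of_index_two h5 a)
      (Subgroup.mul_self_mem_of_index_two h5 b)
  rw [h6, Subgroup.card_top, hc] at h3
  omega

set_option maxRecDepth 100000 in
theorem s4_pow : ∀ σ : Equiv.Perm (Fin 4), σ ^ 4 = 1 ∨ σ ^ 6 = 1 := by decide

end Cfsg.Agent.helper4.Mz
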