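import Cfsg.Statements.S5891
-- import your own Cfsg.Agent.* helpers here
import Mathlib
import Cfsg.Agent.Lib_helper4_MyE
import Cfsg.Agent.Lib_helper4_MyG
import Cfsg.Agent.Lib_helper4_MyH
import Cfsg.Agent.Lib_helper4_MyI
import Cfsg.Agent.Lib_helper4_MyJ

set_option autoImplicit false
open Cfsg

set_option maxHeartbeats 6400000
namespace Cfsg.Agent.S5891

open Matrix
open scoped LinearAlgebra.Projectivization MatrixGroups
open Cfsg.Agent.helper4.Dk Cfsg.Agent.helper4.Dn Cfsg.Agent.helper4.Mx Cfsg.Agent.helper4.My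


/-- Let F be a finite field of odd order q > 3 and characteristic p, and let M be a maximal subgroup of PGL₂(F) not containing the image L of SL₂(F) (a copy of PSL₂(F) of index 2). Then one of the following holds: |M| = q(q − 1) (M is the stabiliser of a point of the projective line); q ≠ 5 and M is dihedral of order 2(q − 1); M is dihedral of order 2(q + 1); q = p ≡ ±3 (mod 8) and M ≅ S₄; or q = q₀^r for an odd prime r and M ≅ PGL₂(F₀) with |F₀| = q₀. -/
theorem result {F : Type*} [Field F] [Fintype F]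
    (hodd : Odd (Fintype.card F)) (h3 : 3 < Fintype.card F) (M : Subgroup (Matrix.ProjGenLinGroup (Fin 2) F)) (hM : IsCoatom M)
    (hML : ¬ (Matrix.ProjGenLinGroup.mk.comp Matrix.SpecialLinearGroup.toGL).range ≤ M) :
    Nat.card M = Fintype.card F * (Fintype.card F - 1) ∨
    (Fintype.card F ≠ 5 ∧ Nonempty (M ≃* DihedralGroup (Fintype.card F - 1))) ∨
    Nonempty (M ≃* DihedralGroup (Fintype.card F + 1)) ∨
    ((Fintype.card F).Prime ∧ (Fintype.card F % 8 = 3 ∨ Fintype.card F % 8 = 5) ∧ Nonempty (M ≃* Equiv.Perm (Fin 4))) ∨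
    (∃ (F₀ : Type) (_ : Field F₀) (_ : Fintype F₀) (r : ℕ), r.Prime ∧ Odd r ∧ Fintype.card F = Fintype.card F₀ ^ r ∧
        Nonempty (M ≃* Matrix.ProjGenLinGroup (Fin 2) F₀)) := by
  classical
  obtain ⟨p, hpF⟩ := CharP.exists F
  haveI := hpF
  have hpp : p.Prime := CharP.char_is_prime F p
  haveI : Fact p.Prime := ⟨hpp⟩
  obtain ⟨n, -, hn⟩ := FiniteField.card F p
  have h2 : (2 : F) ≠ 0 := two_ne_zero_of_odd_card hodd
  haveI hsimp : IsSimpleGroup (Matrix.ProjectiveSpecialLinearGroup (Fin 2) F) :=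
    Matrix.ProjectiveSpecialLinearGroup.rank_two_simple (by rw [Nat.card_eq_fintype_card]; omega)
  haveI : CharP (AlgebraicClosure F) p :=
    charP_of_injective_algebraMap (algebraMap F (AlgebraicClosure F)).injective p
  have h2K : (2 : AlgebraicClosure F) ≠ 0 := by
    intro h
    apply h2
    apply (algebraMap F (AlgebraicClosure F)).injective
    rw [map_ofNat, h, map_zero]
  have hpodd : Odd p := by
    apply hpp.odd_of_ne_two
    rintro rfl
    apply h2
    have := CharP.cast_eq_zero F 2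
    exact_mod_cast this
  have hzc : zc (AlgebraicClosure F) = 2 := by
    rcases zc_cases (AlgebraicClosure F) with ⟨hz, _⟩ | ⟨_, hz⟩
    · exact hz
    · exact absurd hz h2K
  have hzcF : zc F = 2 := by
    rcases zc_cases F with ⟨hz, _⟩ | ⟨_, hz⟩
    · exact hz
    · exact absurd hz h2
  have hML' : ¬ (tauF F).range ≤ M := by rw [← range_eq_tau]; exact hML
  have hcM0 := card_M_eq hM h2 hML'
  obtain ⟨G₀, hG₀⟩ : ∃ G₀, G₀ = M.map (EE F (AlgebraicClosure F)) := ⟨_, rfl⟩
  obtain ⟨eG₀⟩ : Nonempty (M ≃* G₀) := by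
    rw [hG₀]; exact ⟨M.equivMapOfInjective _ EE_injective⟩
  haveI : Finite G₀ := Finite.of_equiv _ eG₀.toEquiv
  obtain ⟨Hbar, hHbar⟩ : ∃ Hbar, Hbar = G₀.comap (piF (AlgebraicClosure F)) := ⟨_, rfl⟩
  haveI : Finite Hbar := by rw [hHbar]; exact finite_comap_piF G₀
  have hneg' : -1 ∈ Hbar := by rw [hHbar]; exact neg_one_mem_comap G₀
  have hmemH : ∀ h, h ∈ Hbar ↔ piF (AlgebraicClosure F) h ∈ M.map (EE F (AlgebraicClosure F)) := by
    intro h; rw [hHbar, hG₀]; rfl
  have hcardH : Nat.card Hbar = 2 * Nat.card M := by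
    rw [hHbar, card_comap_piF_gen, hzc, Nat.card_congr eG₀.toEquiv]
  -- the rational part
  obtain ⟨Ht, hHt⟩ : ∃ Ht, Ht = (M.comap (tauF F)).comap (piF F) := ⟨_, rfl⟩
  have hnegt : -1 ∈ Ht := by
    rw [hHt, Subgroup.mem_comap, piF_neg_one']; exact Subgroup.one_mem _
  obtain ⟨H₀, hH₀⟩ : ∃ H₀, H₀ = Ht.map (iota F (AlgebraicClosure F)) := ⟨_, rfl⟩
  have hH₀le : H₀ ≤ Hbar := by
    rw [hH₀]
    rintro _ ⟨g, hg, rfl⟩
    rw [hmemH, ← EE_tau]
    rw [hHt] at hg
    exact Subgroup.mem_map_of_mem _ hg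
  have hcardH₀ : Nat.card H₀ = 2 * Nat.card (M.comap (tauF F)) := by
    rw [hH₀, card_map_iota, hHt, card_comap_piF_gen, hzcF]
  have hiotaH : ∀ g : SpecialLinearGroup (Fin 2) F, tauF F (piF F g) ∈ M →
      iota F (AlgebraicClosure F) g ∈ Hbar := by
    intro g hg
    rw [hmemH, ← EE_tau]
    exact Subgroup.mem_map_of_mem _ hg
  by_cases hpar : ∃ y, N2 Hbar y ≠ 0
  · obtain ⟨y₀, hy₀⟩ := hpar
    have hne : {g : SpecialLinearGroup (Fin 2) (AlgebraicClosure F) | g ∈ Hbar ∧ g ≠ 1 ∧ g ≠ -1 ∧
        tr g ^ 2 = 4 ∧ g • y₀ = y₀}.Nonempty := by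
      by_contra hemp
      rw [Set.not_nonempty_iff_eq_empty] at hemp
      apply hy₀
      unfold N2
      rw [hemp, Set.ncard_empty]
    obtain ⟨g', hg'H, hg'1, hg'2, hg'tr, hg'y⟩ := hne
    have hg'M := (hmemH g').mp hg'H
    by_cases hfix : ∀ g ∈ Hbar, g • y₀ = y₀
    · -- the Borel case
      left
      obtain ⟨t, ht, ht0⟩ : ∃ t : F, tr g' = algebraMap F (AlgebraicClosure F) t ∧ t ≠ 0 := by
        have h1 : (tr g' - 2) * (tr g' + 2) = 0 := by linear_combination hg'tr
        rcases mul_eq_zero.mp h1 with h | h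
        · refine ⟨2, by rw [map_ofNat]; linear_combination h, h2⟩
        · refine ⟨-2, by rw [map_neg, map_ofNat]; linear_combination h, neg_ne_zero.mpr h2⟩
      obtain ⟨mg, hmgM, hmg⟩ := hg'M
      obtain ⟨g, hg, -⟩ := lemma_T mg g' hmg.symm t ht ht0
      obtain ⟨s, hs⟩ := exists_rational_conj g (by rw [hg]; exact hg'1) (by rw [hg]; exact hg'2)
        (by rw [hg]; exact hg'tr) y₀ (by rw [hg]; exact hg'y)
      apply borel_rel h2 hM hML' s
      intro gh hgh
      obtain ⟨h, hh⟩ := piF_surj' (L := AlgebraicClosure F)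
        (EE F (AlgebraicClosure F) (ProjGenLinGroup.mk gh))
      have hhH : h ∈ Hbar := by
        rw [hmemH, hh]; exact Subgroup.mem_map_of_mem _ hgh
      obtain ⟨l, hl0, hl⟩ := EE_mk_lift gh h hh
      have h1 : h • y₀ = y₀ := hfix h hhH
      apply borel_entry (K := AlgebraicClosure F) s gh h l hl0 hl
      apply (fixed_pInf_iff _).mp
      rw [mul_smul, mul_smul, hs, h1, ← hs, inv_smul_smul]
    · push Not at hfix
      obtain ⟨g₀, hg₀, hmove⟩ := hfix
      obtain ⟨d, hu1, g₂, hg₂, hg₂0⟩ := exists_normal_form Hbar hneg' hy₀ hg₀ hmove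
      obtain ⟨G', ⟨eG⟩, hGc⟩ := conj_image (K := AlgebraicClosure F) M d
      rw [← hG₀, ← hHbar] at hGc
      haveI : Finite G' := Finite.of_equiv _ eG.toEquiv
      rw [← hGc] at hu1 hg₂
      -- rational traces lead to a contradiction
      have hratfalse : ∀ N : ℕ, (∀ x : AlgebraicClosure F, x ^ N = x → x ^ Fintype.card F = x) →
          (∀ h ∈ G'.comap (piF (AlgebraicClosure F)), tr h ^ N = tr h) → False := by
        intro N hN htr
        rw [hGc] at htr
        have htr' := trace_of_conj d Hbar N htr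
        apply hmove
        apply trace_rat_fix h2K (not_le_range hM h2 hML') hg'M hg'1 hg'2 hg'tr hg'y ?_ g₀
          ((hmemH g₀).mp hg₀)
        intro h hh
        apply mem_range_of_pow_card p
        exact hN _ (htr' h ((hmemH h).mpr hh))
      rcases par_iso2 (p := p) h2K G' hu1 hg₂ hg₂0 with
        ⟨hp3, ⟨e⟩⟩ | ⟨Kf, _, _, a, ha1, hKf, hdvd, -, halt⟩
      · exact (a5_excl h2 hM hML' (eG.trans e)).elim
      · have hcard : Nat.card (G'.comap (piF (AlgebraicClosure F))) = 2 * Nat.card M := by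
          rw [hGc, card_cj, hcardH]
        rw [hcard] at hdvd
        have hMdvd : Nat.card M ∣ Fintype.card F * (Fintype.card F ^ 2 - 1) := by
          rw [← card_PG]
          exact Subgroup.card_subgroup_dvd_card M
        obtain ⟨m, hm⟩ := field_numerics2 hpp ha1 n.pos hKf hn hdvd hMdvd
        have hq : Fintype.card F = (p ^ a) ^ m := by rw [← hKf, hm]
        have hm0 : m ≠ 0 := by
          rintro rfl
          have := Fintype.one_lt_card (α := F)
          rw [hq] at this; simp at this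
        rcases halt with ⟨⟨e⟩, htr⟩ | ⟨⟨e⟩, htr⟩
        · exfalso
          apply hratfalse (p ^ a) ?_ htr
          intro x hx
          rw [hq]
          exact pow_pow_fix hx m hm0
        · by_cases hmev : Even m
          · exfalso
            obtain ⟨k, hk⟩ := hmev
            apply hratfalse (p ^ (2 * a)) ?_ htr
            intro x hx
            have hq2 : Fintype.card F = (p ^ (2 * a)) ^ k := by
              rw [hq, hk, ← two_mul, ← pow_mul, ← pow_mul]
              ring_nf
            rw [hq2]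
            exact pow_pow_fix hx k (by omega)
          · right; right; right; right
            have hmodd : Odd m := Nat.not_even_iff_odd.mp hmev
            have htrF : ∀ g'' : SpecialLinearGroup (Fin 2) F, tauF F (piF F g'') ∈ M →
                (tr g'') ^ p ^ (2 * a) = tr g'' := by
              intro g'' hg''
              rw [hGc] at htr
              have h1 := trace_of_conj d Hbar _ htr _ (hiotaH g'' hg'')
              rw [tr_iota, ← map_pow] at h1
              exact (algebraMap F (AlgebraicClosure F)).injective h1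
            have hprime := pgl_rel_case p h2 hM hML' (eG.trans e) ha1 hKf hq hmodd htrF
            exact ⟨Kf, inferInstance, inferInstance, m, hprime, hmodd, hm.symm, ⟨eG.trans e⟩⟩
  · push Not at hpar
    have hpM₀ : ¬ p ∣ Nat.card (M.comap (tauF F)) := by
      apply p_not_dvd_card_of_nonpar (K := AlgebraicClosure F) p h2 (M.comap (tauF F))
      intro y
      rw [← hHt, ← hH₀]
      have := N2_mono hH₀le y
      rw [hpar y] at this
      omega
    rcases pprime_z Hbar hneg' hpar with ⟨w, hw⟩ | ⟨y₁, y₂, y₃, s₁, s₂, s₃, hb, hPoly⟩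
    · -- cyclic
      exfalso
      haveI : IsCyclic G₀ := cyclic_of_fix G₀ w (by rw [← hHbar]; exact hpar w)
        (by rw [← hHbar]; exact hw)
      haveI : IsCyclic M := isCyclic_of_surjective eG₀.symm eG₀.symm.surjective
      obtain ⟨g, hg⟩ := IsCyclic.exists_generator (α := M)
      apply abelian_case h2 hodd hM hML'
      intro a ha b hb
      obtain ⟨i, hi⟩ := Subgroup.mem_zpowers_iff.mp (hg ⟨tauF F a, ha⟩)
      obtain ⟨j, hj⟩ := Subgroup.mem_zpowers_iff.mp (hg ⟨tauF F b, hb⟩)
      have : (⟨tauF F a, ha⟩ : M) * ⟨tauF F b, hb⟩ = ⟨tauF F b, hb⟩ * ⟨tauF F a, ha⟩ := by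
        rw [← hi, ← hj, ← _root_.zpow_add, ← _root_.zpow_add, add_comm]
      apply tauF_injective
      rw [map_mul, map_mul]
      exact congrArg Subtype.val this
    · have hc3 : Nat.card (stabIn Hbar y₃) = zc (AlgebraicClosure F) * s₃ := hPoly.2.2.2.2.2.2.2.2.2.1
      have hPoly' : Poly (G₀.comap (piF (AlgebraicClosure F))) y₁ y₂ y₃ s₁ s₂ s₃ hb := by
        rw [← hHbar]; exact hPoly
      rcases poly_iso G₀ (by rw [← hHbar]; exact hpar) hPoly' with
        ⟨hs3, ⟨e⟩⟩ | ⟨⟨e⟩⟩ | ⟨⟨e⟩⟩ | ⟨⟨e⟩⟩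
      · -- dihedral
        have hdv₀ := card_stab_dvd Ht hnegt y₃ (by
          rw [← hH₀]
          have := N2_mono hH₀le y₃
          rw [hpar y₃] at this
          omega)
        rw [← hH₀] at hdv₀
        have hinf : (stabIn Hbar y₃ ⊓ H₀ : Subgroup _) = stabIn H₀ y₃ := by
          ext x
          rw [Subgroup.mem_inf, mem_stabIn, mem_stabIn]
          constructor
          · rintro ⟨⟨-, h1⟩, h2'⟩
            exact ⟨h2', h1⟩
          · rintro ⟨h1, h2'⟩
            exact ⟨⟨hH₀le h1, h2'⟩, h1⟩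
        have hstle : stabIn Hbar y₃ ≤ Hbar := fun x hx => (mem_stabIn.mp hx).1
        have hcases := card_eq_inf_mul (stabIn Hbar y₃) H₀ Hbar hstle hH₀le
          (by rw [hcardH, hcardH₀, hcM0])
        rw [hinf, hc3, hzc] at hcases
        have hdv : s₃ ∣ Fintype.card F - 1 ∨ s₃ ∣ Fintype.card F + 1 := by
          rcases hcases with hc | hc
          · rw [← hc] at hdv₀
            rcases hdv₀ with h | h
            · left; exact (dvd_mul_left s₃ 2).trans h
            · right; exact (dvd_mul_left s₃ 2).trans h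
          · have : s₃ = Nat.card (stabIn H₀ y₃) := by omega
            rw [← this] at hdv₀
            exact hdv₀
        rcases dih_rel_case h2 hodd h3 hM hML' (eG₀.trans e) hdv with ⟨h5, hs⟩ | hs
        · right; left
          refine ⟨h5, ⟨?_⟩⟩
          rw [← hs]; exact eG₀.trans e
        · right; right; left
          refine ⟨?_⟩
          rw [← hs]; exact eG₀.trans e
      · exact (a4_excl h2 hM hML' (eG₀.trans e)).elim
      · right; right; right; left
        have hcM : Nat.card M = 24 := by rw [Nat.card_congr (eG₀.trans e).toEquiv, s4_card]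
        have hp3 : p ≠ 3 := by
          rintro rfl
          apply hpM₀
          rw [hcM] at hcM0
          have : Nat.card (M.comap (tauF F)) = 12 := by omega
          rw [this]; norm_num
        obtain ⟨h1, h8⟩ := s4_rel_case p h2 hM hML' (eG₀.trans e) hp3 hn
        refine ⟨by rw [h1]; exact hpp, by rw [h1]; exact h8, ⟨eG₀.trans e⟩⟩
      · exact (a5_excl h2 hM hML' (eG₀.trans e)).elim

end Cfsg.Agent.S5891
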