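import Mathlib
import Cfsg.Agent.S5891
import Cfsg.Agent.Lib_helper4_MzA
import Cfsg.Agent.Lib_helper4_MzB

set_option autoImplicit false
set_option maxHeartbeats 1600000

/-!
# Subgroups of order `q² - 1` in `PGL₂(q)`
-/

namespace Cfsg.Agent.helper4.Mz

open Matrix
open scoped LinearAlgebra.Projectivization MatrixGroups
open Cfsg.Agent.helper4.Dk Cfsg.Agent.helper4.Dn Cfsg.Agent.helper4.Mx Cfsg.Agent.helper4.My

theorem sq_sub_one {q : ℕ} (hq : 1 ≤ q) : q ^ 2 - 1 = (q - 1) * (q + 1) := by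
  obtain ⟨n, rfl⟩ : ∃ n, q = n + 1 := ⟨q - 1, by omega⟩
  simp only [Nat.add_sub_cancel]
  have : (n + 1) ^ 2 = n * (n + 1 + 1) + 1 := by ring
  omega

theorem n1 {q : ℕ} (hq : 3 < q) (h : q * (q ^ 2 - 1) = q ^ 2 - 1) : False := by
  have h1 : 0 < q ^ 2 - 1 := by
    have : 1 < q ^ 2 := by nlinarith
    omega
  have : q * (q ^ 2 - 1) = 1 * (q ^ 2 - 1) := by rw [h, one_mul]
  have := Nat.eq_of_mul_eq_mul_right h1 this
  omega

theorem n2 {q c : ℕ} (hq : 3 < q) (hodd : Odd q) (h : c * 2 = q * (q ^ 2 - 1))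
    (hd : (q ^ 2 - 1) ∣ c) : False := by
  obtain ⟨d, rfl⟩ := hd
  have h1 : 0 < q ^ 2 - 1 := by
    have : 1 < q ^ 2 := by nlinarith
    omega
  have h2 : (q ^ 2 - 1) * (2 * d) = (q ^ 2 - 1) * q := by
    calc (q ^ 2 - 1) * (2 * d) = (q ^ 2 - 1) * d * 2 := by ring
      _ = q * (q ^ 2 - 1) := h
      _ = (q ^ 2 - 1) * q := by ring
  have h3 := Nat.eq_of_mul_eq_mul_left h1 h2
  obtain ⟨k, hk⟩ := hodd
  omega

theorem n3 {q : ℕ} (hq : 3 < q) (h : (q ^ 2 - 1) ∣ q * (q - 1)) : False := by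
  have h1 : 0 < q * (q - 1) := Nat.mul_pos (by omega) (by omega)
  have h2 := Nat.le_of_dvd h1 h
  rw [sq_sub_one (by omega)] at h2
  obtain ⟨n, rfl⟩ : ∃ n, q = n + 1 := ⟨q - 1, by omega⟩
  simp only [Nat.add_sub_cancel] at h2
  nlinarith

theorem n4 {q : ℕ} (hq : 3 < q) (h : (q ^ 2 - 1) ∣ 2 * (q - 1)) : False := by
  have h1 : 0 < 2 * (q - 1) := by omega
  have h2 := Nat.le_of_dvd h1 h
  rw [sq_sub_one (by omega)] at h2
  obtain ⟨n, rfl⟩ : ∃ n, q = n + 1 := ⟨q - 1, by omega⟩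
  simp only [Nat.add_sub_cancel] at h2
  nlinarith

theorem n5 {q : ℕ} (hq : 3 < q) (h : (q ^ 2 - 1) ∣ 2 * (q + 1)) : False := by
  have h1 : 0 < 2 * (q + 1) := by omega
  have h2 := Nat.le_of_dvd h1 h
  rw [sq_sub_one (by omega)] at h2
  obtain ⟨n, rfl⟩ : ∃ n, q = n + 1 := ⟨q - 1, by omega⟩
  simp only [Nat.add_sub_cancel] at h2
  nlinarith

theorem n6 {q : ℕ} (hq : 3 < q) (hodd : Odd q) (h : (q ^ 2 - 1) ∣ 24) : q = 5 := by
  have h2 := Nat.le_of_dvd (by norm_num) h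
  have h3 : q ≤ 5 := by
    by_contra h4
    have : 6 ≤ q := by omega
    have : 36 ≤ q ^ 2 := by nlinarith
    omega
  obtain ⟨k, hk⟩ := hodd
  omega

theorem n7 {q q₀ r : ℕ} (hq : 3 < q) (hr : 3 ≤ r) (hq₀ : q = q₀ ^ r)
    (h : (q ^ 2 - 1) ∣ q₀ * (q₀ ^ 2 - 1)) : False := by
  have h2 : 2 ≤ q₀ := by
    by_contra h
    have h1 : q₀ ≤ 1 := by omega
    have : q₀ ^ r ≤ 1 := by
      interval_cases q₀
      · rw [zero_pow (by omega)]; omega
      · simp
    omega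
  have h1 : 0 < q₀ * (q₀ ^ 2 - 1) := by
    have : 1 < q₀ ^ 2 := by nlinarith
    exact Nat.mul_pos (by omega) (by omega)
  have h3 := Nat.le_of_dvd h1 h
  have h4 : q₀ ^ 3 ≤ q := by rw [hq₀]; exact Nat.pow_le_pow_right (by omega) hr
  have h5 : q₀ * (q₀ ^ 2 - 1) ≤ q₀ ^ 3 := by
    calc q₀ * (q₀ ^ 2 - 1) ≤ q₀ * q₀ ^ 2 := Nat.mul_le_mul_left _ (Nat.sub_le _ _)
      _ = q₀ ^ 3 := by ring
  have h6 : q + 1 < q ^ 2 := by nlinarith
  omega

theorem card_perm4 : Nat.card (Equiv.Perm (Fin 4)) = 24 := by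
  rw [Nat.card_eq_fintype_card, Fintype.card_perm]; rfl

/-- a subgroup of order `q² - 1` of `PGL₂(q)` exists only for `q = 5` and is then `S₄` -/
theorem pgl_sub_excl {F₁ : Type*} [Field F₁] [Fintype F₁] (hodd : Odd (Fintype.card F₁))
    (h3 : 3 < Fintype.card F₁)
    (X : Subgroup (Matrix.ProjGenLinGroup (Fin 2) F₁))
    (hX : Nat.card X = Fintype.card F₁ ^ 2 - 1) :
    Fintype.card F₁ = 5 ∧ Nonempty (X ≃* Equiv.Perm (Fin 4)) := by
  have h2 : (2 : F₁) ≠ 0 := two_ne_zero_of_odd_card hodd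
  have hcG := card_PG (F := F₁)
  have hXne : X ≠ ⊤ := by
    intro h
    rw [h, Subgroup.card_top, hcG] at hX
    exact n1 h3 hX
  rcases eq_top_or_exists_le_coatom X with h | ⟨N, hN, hXN⟩
  · exact absurd h hXne
  have hdvd : Nat.card X ∣ Nat.card N := Subgroup.card_dvd_of_le hXN
  rw [hX] at hdvd
  by_cases hLN : (Matrix.ProjGenLinGroup.mk.comp Matrix.SpecialLinearGroup.toGL).range ≤ N
  · exfalso
    rw [range_eq_tau] at hLN
    have h1 := index_range_tau (F := F₁) h2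
    have h4 : N.index ∣ (tauF F₁).range.index := Subgroup.index_dvd_of_le hLN
    rw [h1] at h4
    have h5 : N.index ≠ 1 := fun h => hN.1 (Subgroup.index_eq_one.mp h)
    have h6 : N.index = 2 := by
      rcases (Nat.dvd_prime Nat.prime_two).mp h4 with h | h
      · exact absurd h h5
      · exact h
    have h7 := Subgroup.card_mul_index N
    rw [h6, hcG] at h7
    exact n2 h3 hodd h7 hdvd
  · rcases Cfsg.Agent.S5891.result hodd h3 N hN hLN with h | ⟨_, ⟨e⟩⟩ | ⟨⟨e⟩⟩ | ⟨hp, h8, ⟨e⟩⟩ |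
      ⟨F₀, _, _, r, hr, hro, hq, ⟨e⟩⟩
    · exfalso
      rw [h] at hdvd
      exact n3 h3 hdvd
    · exfalso
      rw [Nat.card_congr e.toEquiv, DihedralGroup.nat_card] at hdvd
      exact n4 h3 hdvd
    · exfalso
      rw [Nat.card_congr e.toEquiv, DihedralGroup.nat_card] at hdvd
      exact n5 h3 hdvd
    · have hcN : Nat.card N = 24 := by rw [Nat.card_congr e.toEquiv, card_perm4]
      rw [hcN] at hdvd
      have hq5 := n6 h3 hodd hdvd
      refine ⟨hq5, ?_⟩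
      have hXN' : X = N := by
        apply Subgroup.eq_of_le_of_card_ge hXN
        rw [hcN, hX, hq5]
        norm_num
      rw [hXN']
      exact ⟨e⟩
    · exfalso
      rw [Nat.card_congr e.toEquiv, card_PG] at hdvd
      have hr3 : 3 ≤ r := by
        have := hr.two_le
        obtain ⟨k, hk⟩ := hro
        omega
      exact n7 h3 hr3 hq hdvd

theorem zmod24_a : (8 : ZMod 24) ≠ 0 := by decide
theorem zmod24_b : (12 : ZMod 24) ≠ 0 := by decide

/-- the index two subgroup of the dihedral group of order `2 (q₁² - 1)` does not embed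
in `PGL₂(q₁)` for `q₁ > 3` -/
theorem dih_pgl_excl {G : Type*} [Group G] {M M₀ Y : Subgroup G} (hsq : ∀ x ∈ M, x * x ∈ M₀)
    (hle : M₀ ≤ Y) {n : ℕ} (f : M ≃* DihedralGroup n) {F₁ : Type*} [Field F₁] [Fintype F₁]
    (e : Y ≃* Matrix.ProjGenLinGroup (Fin 2) F₁) (hodd : Odd (Fintype.card F₁))
    (h3 : 3 < Fintype.card F₁) (hn : n = Fintype.card F₁ ^ 2 - 1) (hcard : Nat.card M₀ = n) :
    False := by
  set ψ : M₀ →* Matrix.ProjGenLinGroup (Fin 2) F₁ :=
    e.toMonoidHom.comp (Subgroup.inclusion hle) with hψ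
  have hψi : Function.Injective ψ := by
    rw [hψ]
    exact e.injective.comp (Subgroup.inclusion_injective hle)
  have hX : Nat.card ψ.range = Fintype.card F₁ ^ 2 - 1 := by
    rw [← hn, ← hcard]
    exact (Nat.card_congr (MonoidHom.ofInjective hψi).toEquiv).symm
  obtain ⟨hq5, ⟨φ⟩⟩ := pgl_sub_excl hodd h3 ψ.range hX
  have hn24 : n = 24 := by rw [hn, hq5]; norm_num
  subst hn24
  set Φ : M₀ ≃* Equiv.Perm (Fin 4) := (MonoidHom.ofInjective hψi).trans φ with hΦ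
  set ρ : M := f.symm (DihedralGroup.r 1) with hρ
  set x : M₀ := ⟨(ρ : G) * (ρ : G), hsq _ ρ.2⟩ with hx
  have key : ∀ j : ℕ, x ^ j = 1 → ((2 * j : ℕ) : ZMod 24) = 0 := by
    intro j hj
    have h1 : ((x ^ j : M₀) : G) = 1 := by rw [hj]; rfl
    have h2 : (ρ : G) ^ (2 * j) = 1 := by
      rw [pow_mul, pow_two]
      simpa [hx] using h1
    have h4 : ρ ^ (2 * j) = 1 := by
      apply Subtype.ext
      simpa using h2
    have h5 := congrArg f h4
    rw [map_pow, hρ, MulEquiv.apply_symm_apply, DihedralGroup.r_one_pow, map_one,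
      DihedralGroup.one_def] at h5
    exact DihedralGroup.r.inj h5
  rcases s4_pow (Φ x) with h | h
  · have h1 : x ^ 4 = 1 := by
      apply Φ.injective
      rw [map_pow, h, map_one]
    have := key 4 h1
    exact zmod24_a (by simpa using this)
  · have h1 : x ^ 6 = 1 := by
      apply Φ.injective
      rw [map_pow, h, map_one]
    have := key 6 h1
    exact zmod24_b (by simpa using this)

end Cfsg.Agent.helper4.Mz
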