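import Cfsg.Statements.S5892
-- import your own Cfsg.Agent.* helpers here
import Mathlib
import Cfsg.Agent.Lib_helper4_MxR

set_option autoImplicit false
open Cfsg

set_option maxHeartbeats 6400000
namespace Cfsg.Agent.S5892

open Matrix
open scoped LinearAlgebra.Projectivization MatrixGroups
open Cfsg.Agent.helper4.Dk Cfsg.Agent.helper4.Dn Cfsg.Agent.helper4.Mx


/-- Let F be a finite field of odd order q ≥ 5 and characteristic p, and let M be a maximal subgroup of PSL₂(F). Then one of the following holds: |M| = q(q − 1)/2 (the stabiliser of a point of the projective line); q ≥ 13 and M is dihedral of order q − 1; q ∉ {7, 9} and M is dihedral of order q + 1; q = q₀² and M ≅ PGL₂(F₀) with |F₀| = q₀; q = q₀^r for an odd prime r and M ≅ PSL₂(F₀) with |F₀| = q₀; q ≡ ±1 (mod 10) with q = p or q = p², p ≡ ±3 (mod 10), and M ≅ A₅; q = p ≡ ±3 (mod 8), q ≢ ±1 (mod 10), and M ≅ A₄; or q = p ≡ ±1 (mod 8) and M ≅ S₄. -/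
theorem result {F : Type*} [Field F] [Fintype F] (p : ℕ)
    [Fact p.Prime] [CharP F p] (hodd : Odd (Fintype.card F)) (h5 : 5 ≤ Fintype.card F)
    (M : Subgroup (Matrix.ProjectiveSpecialLinearGroup (Fin 2) F)) (hM : IsCoatom M) :
    2 * Nat.card M = Fintype.card F * (Fintype.card F - 1) ∨
    (13 ≤ Fintype.card F ∧ (∃ k : ℕ, 2 * k = Fintype.card F - 1 ∧ Nonempty (M ≃* DihedralGroup k))) ∨
    (Fintype.card F ≠ 7 ∧ Fintype.card F ≠ 9 ∧ (∃ k : ℕ, 2 * k = Fintype.card F + 1 ∧ Nonempty (M ≃* DihedralGroup k))) ∨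
    (∃ (F₀ : Type) (_ : Field F₀) (_ : Fintype F₀), Fintype.card F = Fintype.card F₀ ^ 2 ∧
        Nonempty (M ≃* Matrix.ProjGenLinGroup (Fin 2) F₀)) ∨
    (∃ (F₀ : Type) (_ : Field F₀) (_ : Fintype F₀) (r : ℕ), r.Prime ∧ Odd r ∧ Fintype.card F = Fintype.card F₀ ^ r ∧
        Nonempty (M ≃* Matrix.ProjectiveSpecialLinearGroup (Fin 2) F₀)) ∨
    ((Fintype.card F % 10 = 1 ∨ Fintype.card F % 10 = 9) ∧
        (Fintype.card F = p ∨ (Fintype.card F = p ^ 2 ∧ (p % 10 = 3 ∨ p % 10 = 7))) ∧
        Nonempty (M ≃* alternatingGroup (Fin 5))) ∨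
    (Fintype.card F = p ∧ (p % 8 = 3 ∨ p % 8 = 5) ∧ ¬ (p % 10 = 1 ∨ p % 10 = 9) ∧
        Nonempty (M ≃* alternatingGroup (Fin 4))) ∨
    (Fintype.card F = p ∧ (p % 8 = 1 ∨ p % 8 = 7) ∧ Nonempty (M ≃* Equiv.Perm (Fin 4))) := by
  classical
  have hpp : p.Prime := Fact.out
  obtain ⟨n, -, hn⟩ := FiniteField.card F p
  have h2 : (2 : F) ≠ 0 := two_ne_zero_of_odd_card hodd
  have hsimp : IsSimpleGroup (Matrix.ProjectiveSpecialLinearGroup (Fin 2) F) :=
    Matrix.ProjectiveSpecialLinearGroup.rank_two_simple (by rw [Nat.card_eq_fintype_card]; omega)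
  haveI := hsimp
  haveI : CharP (AlgebraicClosure F) p :=
    charP_of_injective_algebraMap (algebraMap F (AlgebraicClosure F)).injective p
  have h2K : (2 : AlgebraicClosure F) ≠ 0 := by
    intro h
    apply h2
    apply (algebraMap F (AlgebraicClosure F)).injective
    rw [map_ofNat, h, map_zero]
  have hpodd : Odd p := by
    apply hpp.odd_of_ne_two
    rintro rfl
    apply h2
    have := CharP.cast_eq_zero F 2
    exact_mod_cast this
  have hzc : zc (AlgebraicClosure F) = 2 := by
    rcases zc_cases (AlgebraicClosure F) with ⟨hz, _⟩ | ⟨_, hz⟩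
    · exact hz
    · exact absurd hz h2K
  obtain ⟨Ht, hHt⟩ : ∃ Ht, Ht = M.comap (piF F) := ⟨_, rfl⟩
  have hneg : -1 ∈ Ht := by
    rw [hHt, Subgroup.mem_comap, piF_neg_one]; exact M.one_mem
  obtain ⟨Hbar, hHbar⟩ : ∃ Hbar, Hbar = Ht.map (iota F (AlgebraicClosure F)) := ⟨_, rfl⟩
  haveI : Finite Hbar := by rw [hHbar]; infer_instance
  have hneg' : -1 ∈ Hbar := by rw [hHbar]; exact neg_one_mem_map hneg
  -- the consequences of the various isomorphism types
  have hA5 : ∀ e : M ≃* alternatingGroup (Fin 5), p ≠ 5 →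
      ((Fintype.card F % 10 = 1 ∨ Fintype.card F % 10 = 9) ∧
        (Fintype.card F = p ∨ (Fintype.card F = p ^ 2 ∧ (p % 10 = 3 ∨ p % 10 = 7))) ∧
        Nonempty (M ≃* alternatingGroup (Fin 5))) := by
    intro e hp5
    rcases a5_case p h2 hM e hp5 hn h5 with ⟨h1, h3⟩ | ⟨h1, h3⟩
    · refine ⟨?_, Or.inl h1, ⟨e⟩⟩
      rw [h1]; exact h3
    · refine ⟨?_, Or.inr ⟨h1, h3⟩, ⟨e⟩⟩
      right
      rw [h1, Nat.pow_mod]
      rcases h3 with h | h <;> rw [h]
  have hDih : ∀ (s : ℕ) (e : M ≃* DihedralGroup s),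
      (2 * s ∣ Fintype.card F - 1 ∨ 2 * s ∣ Fintype.card F + 1) →
      (13 ≤ Fintype.card F ∧ (∃ k : ℕ, 2 * k = Fintype.card F - 1 ∧ Nonempty (M ≃* DihedralGroup k))) ∨
      (Fintype.card F ≠ 7 ∧ Fintype.card F ≠ 9 ∧ (∃ k : ℕ, 2 * k = Fintype.card F + 1 ∧ Nonempty (M ≃* DihedralGroup k))) := by
    intro s e hs
    rcases dihedral_case h2 h5 hsimp hM e hs with ⟨h13, hk⟩ | ⟨h7, h9, hk⟩
    · left; exact ⟨h13, s, hk, ⟨e⟩⟩
    · right; exact ⟨h7, h9, s, hk, ⟨e⟩⟩
  -- the image of `M` in `PSL₂` of the algebraic closure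
  have key : ∀ (Θ : SpecialLinearGroup (Fin 2) F →* SpecialLinearGroup (Fin 2) (AlgebraicClosure F))
      (hΘ : Θ (-1) = -1) (hinj : Function.Injective Θ),
      ∃ G' : Subgroup (Matrix.ProjectiveSpecialLinearGroup (Fin 2) (AlgebraicClosure F)),
        Nonempty (M ≃* G') ∧ G'.comap (piF (AlgebraicClosure F)) = Ht.map Θ := by
    intro Θ hΘ hinj
    refine ⟨M.map (psiOf Θ hΘ), ⟨M.equivMapOfInjective _ (psiOf_injective Θ hΘ hinj)⟩, ?_⟩
    rw [comap_map_psiOf, hHt]
  by_cases hpar : ∃ y, N2 Hbar y ≠ 0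
  · obtain ⟨y₀, hy₀⟩ := hpar
    by_cases hfix : ∀ g ∈ Hbar, g • y₀ = y₀
    · -- the Borel case
      left
      have hne : {g : SpecialLinearGroup (Fin 2) (AlgebraicClosure F) | g ∈ Hbar ∧ g ≠ 1 ∧ g ≠ -1 ∧
          tr g ^ 2 = 4 ∧ g • y₀ = y₀}.Nonempty := by
        by_contra hemp
        rw [Set.not_nonempty_iff_eq_empty] at hemp
        apply hy₀
        unfold N2
        rw [hemp, Set.ncard_empty]
      obtain ⟨g', hg'H, hg'1, hg'2, hg'tr, hg'y⟩ := hne
      rw [hHbar] at hg'H
      obtain ⟨g, hg, rfl⟩ := hg'H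
      obtain ⟨s, hs⟩ := exists_rational_conj g hg'1 hg'2 hg'tr y₀ hg'y
      apply borel_max h2 hM s
      intro b hb
      rw [← hHt, mem_cj] at hb
      have h1 : iota F (AlgebraicClosure F) (s * b * s⁻¹) • y₀ = y₀ :=
        hfix _ (by rw [hHbar]; exact Subgroup.mem_map_of_mem _ hb)
      have h2' : iota F (AlgebraicClosure F) b • (pInf : ℙ (AlgebraicClosure F) (Fin 2 → AlgebraicClosure F)) = pInf := by
        rw [map_mul, map_mul, map_inv, mul_smul, mul_smul, ← hs, inv_smul_smul] at h1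
        have := congrArg (fun x => (iota F (AlgebraicClosure F) s)⁻¹ • x) h1
        simpa using this
      have h3 := (fixed_pInf_iff _).mp h2'
      rw [iota_apply] at h3
      exact (algebraMap F (AlgebraicClosure F)).injective (by rw [h3, map_zero])
    · push Not at hfix
      obtain ⟨g₀, hg₀, hmove⟩ := hfix
      obtain ⟨d, hu1, g₂, hg₂, hg₂0⟩ := exists_normal_form Hbar hneg' hy₀ hg₀ hmove
      obtain ⟨Θ, hΘdef⟩ : ∃ Θ : SpecialLinearGroup (Fin 2) F →* SpecialLinearGroup (Fin 2) (AlgebraicClosure F),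
          Θ = (MulAut.conj d⁻¹).toMonoidHom.comp (iota F (AlgebraicClosure F)) := ⟨_, rfl⟩
      have hΘapp : ∀ g, Θ g = d⁻¹ * iota F (AlgebraicClosure F) g * d := by
        intro g
        rw [hΘdef]
        simp [MulAut.conj_apply]
      have hΘneg : Θ (-1) = -1 := by
        rw [hΘapp, iota_neg_one]; simp
      have hΘinj : Function.Injective Θ := by
        intro a b hab
        rw [hΘapp, hΘapp] at hab
        apply iota_injective (K := AlgebraicClosure F)
        have := congrArg (fun x => d * x * d⁻¹) hab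
        beta_reduce at this
        have e1 : ∀ x : SpecialLinearGroup (Fin 2) (AlgebraicClosure F), d * (d⁻¹ * x * d) * d⁻¹ = x := by
          intro x; group
        rwa [e1, e1] at this
      have hΘtr : ∀ g, tr (Θ g) = algebraMap F (AlgebraicClosure F) (tr g) := by
        intro g
        have : Θ g = d⁻¹ * iota F (AlgebraicClosure F) g * d⁻¹⁻¹ := by rw [hΘapp, inv_inv]
        rw [this, tr_conj, tr_iota]
      have hΘnegg : ∀ g, Θ (-g) = -Θ g := by
        intro g
        have : -g = -1 * g := by rw [neg_one_mul]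
        rw [this, map_mul, hΘneg, neg_one_mul]
      obtain ⟨G', ⟨eG⟩, hGc⟩ := key Θ hΘneg hΘinj
      have hGc' : G'.comap (piF (AlgebraicClosure F)) = cj d Hbar := by
        rw [hGc]
        ext x
        rw [mem_cj, Subgroup.mem_map, hHbar, Subgroup.mem_map]
        constructor
        · rintro ⟨g, hg, rfl⟩
          refine ⟨g, hg, ?_⟩
          rw [hΘapp]; group
        · rintro ⟨g, hg, hgx⟩
          refine ⟨g, hg, ?_⟩
          rw [hΘapp, hgx]; group
      haveI : Finite G' := Finite.of_equiv _ eG.toEquiv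
      rw [← hGc'] at hu1 hg₂
      rcases par_iso' (p := p) h2K G' hu1 hg₂ hg₂0 with
        ⟨y₁, s, hs2, hN2, hst, ⟨e⟩⟩ | ⟨hp3, ⟨e⟩⟩ |
          ⟨Kf, _, _, a, ha1, hKf, hdvd, ⟨x, hxG, y, hyG, hxx, hyy, hxy⟩, halt⟩
      · -- dihedral
        have hdv : 2 * s ∣ Fintype.card F - 1 ∨ 2 * s ∣ Fintype.card F + 1 := by
          rw [hGc'] at hN2 hst
          rw [← N2_conj] at hN2
          rw [← card_stabIn_conj] at hst
          have := card_stab_dvd Ht hneg (d • y₁) (by rw [← hHbar]; exact hN2)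
          rw [← hHbar, hst, hzc] at this
          exact this
        rcases hDih s (eG.trans e) hdv with h | h
        · right; left; exact h
        · right; right; left; exact h
      · -- `A₅` in characteristic three
        right; right; right; right; right; left
        exact hA5 (eG.trans e) (by omega)
      · -- subfield subgroups
        have hcard : Nat.card (G'.comap (piF (AlgebraicClosure F))) = Nat.card Ht := by
          rw [hGc', card_cj, hHbar, card_map_iota]
        rw [hcard] at hdvd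
        obtain ⟨m, hm⟩ := field_numerics hpp ha1 n.pos hKf hn hdvd (card_dvd_SL2 Ht)
        have hq : Fintype.card F = (p ^ a) ^ m := by rw [← hKf, hm]
        -- the Klein four group
        rw [hGc] at hxG hyG
        obtain ⟨x', hx'H, rfl⟩ := hxG
        obtain ⟨y', hy'H, rfl⟩ := hyG
        have hx'x' : x' * x' = -1 := by
          apply hΘinj
          rw [map_mul, hxx, hΘneg]
        have hy'y' : y' * y' = -1 := by
          apply hΘinj
          rw [map_mul, hyy, hΘneg]
        have hx'y' : x' * y' = -(y' * x') := by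
          apply hΘinj
          rw [map_mul, hxy, hΘnegg, map_mul]
        obtain ⟨k1, k2, k3, k4, k5, k6⟩ := klein_of_quat h2 hx'x' hy'y' hx'y'
        have hxM : piF F x' ∈ M := by rw [hHt] at hx'H; exact hx'H
        have hyM : piF F y' ∈ M := by rw [hHt] at hy'H; exact hy'H
        have htrans : ∀ N : ℕ, (∀ h ∈ G'.comap (piF (AlgebraicClosure F)), tr h ^ N = tr h) →
            ∀ g' : SpecialLinearGroup (Fin 2) F, piF F g' ∈ M → tr g' ^ N = tr g' := by
          intro N hN g' hg'
          apply (algebraMap F (AlgebraicClosure F)).injective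
          rw [map_pow, ← hΘtr]
          apply hN
          rw [hGc]
          exact Subgroup.mem_map_of_mem _ (by rw [hHt]; exact hg')
        have hKfodd : Odd (Fintype.card Kf) := by rw [hKf]; exact hpodd.pow
        rcases halt with ⟨⟨e⟩, htr⟩ | ⟨⟨e⟩, htr⟩
        · right; right; right; right; left
          have hcardM : 2 * Nat.card M = p ^ a * ((p ^ a) ^ 2 - 1) := by
            rw [Nat.card_congr (eG.trans e).toEquiv, two_mul_card_PSL (two_ne_zero_of_odd_card hKfodd),
              hKf]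
          obtain ⟨hmp, hmo⟩ := psl_field_case p h2 hM k1 k2 k3 k4 k5 k6 hxM hyM ha1 hq hcardM
            (htrans _ htr)
          exact ⟨Kf, inferInstance, inferInstance, m, hmp, hmo, hm.symm, ⟨eG.trans e⟩⟩
        · right; right; right; left
          have hm1 : 1 ≤ m := by
            rcases Nat.eq_zero_or_pos m with rfl | h
            · rw [pow_zero] at hm; omega
            · exact h
          have hev : Even m :=
            (Cfsg.Agent.S0805.result (F := F) (K := Kf) rfl hodd m hm1 hm).2.mp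
              ⟨M, ⟨eG.trans e⟩⟩
          have hcardM : Nat.card M = p ^ a * ((p ^ a) ^ 2 - 1) := by
            rw [Nat.card_congr (eG.trans e).toEquiv, Cfsg.Agent.helper2.card_PGL_eq_card_SL,
              Cfsg.Agent.helper12.card_SL2, hKf]
          have hm2 := pgl_field_case p h2 hM k1 k2 k3 k4 k5 k6 hxM hyM ha1 hq hev hcardM
            (htrans _ htr)
          rw [hm2] at hm
          exact ⟨Kf, inferInstance, inferInstance, hm.symm, ⟨eG.trans e⟩⟩
  · push Not at hpar
    obtain ⟨G', ⟨eG⟩, hGc⟩ := key (iota F (AlgebraicClosure F)) iota_neg_one iota_injective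
    rw [← hHbar] at hGc
    haveI : Finite G' := Finite.of_equiv _ eG.toEquiv
    have hpM : ¬ p ∣ Nat.card M := by
      apply p_not_dvd_card_of_nonpar (K := AlgebraicClosure F) p h2 M
      rw [← hHt, ← hHbar]
      exact hpar
    rcases pprime_z Hbar hneg' hpar with ⟨w, hw⟩ | ⟨y₁, y₂, y₃, s₁, s₂, s₃, hb, hPoly⟩
    · -- cyclic
      exfalso
      haveI : IsCyclic G' := cyclic_of_fix G' w (by rw [hGc]; exact hpar w) (by rw [hGc]; exact hw)
      haveI : IsCyclic M := isCyclic_of_surjective eG.symm eG.symm.surjective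
      obtain ⟨g, hg⟩ := IsCyclic.exists_generator (α := M)
      apply no_abelian_coatom (psl_noncomm h2) hM
      intro a ha b hb
      obtain ⟨i, hi⟩ := Subgroup.mem_zpowers_iff.mp (hg ⟨a, ha⟩)
      obtain ⟨j, hj⟩ := Subgroup.mem_zpowers_iff.mp (hg ⟨b, hb⟩)
      have : (⟨a, ha⟩ : M) * ⟨b, hb⟩ = ⟨b, hb⟩ * ⟨a, ha⟩ := by
        rw [← hi, ← hj, ← _root_.zpow_add, ← _root_.zpow_add, add_comm]
      exact congrArg Subtype.val this
    · have hc3 : Nat.card (stabIn Hbar y₃) = zc (AlgebraicClosure F) * s₃ := hPoly.2.2.2.2.2.2.2.2.2.1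
      have hPoly' : Poly (G'.comap (piF (AlgebraicClosure F))) y₁ y₂ y₃ s₁ s₂ s₃ hb := by
        rw [hGc]; exact hPoly
      rcases poly_iso G' (by rw [hGc]; exact hpar) hPoly' with ⟨hs3, ⟨e⟩⟩ | ⟨⟨e⟩⟩ | ⟨⟨e⟩⟩ | ⟨⟨e⟩⟩
      · have hdv : 2 * s₃ ∣ Fintype.card F - 1 ∨ 2 * s₃ ∣ Fintype.card F + 1 := by
          have h2' := card_stab_dvd Ht hneg y₃ (by rw [← hHbar]; exact hpar y₃)
          rw [← hHbar, hc3, hzc] at h2'
          exact h2'
        rcases hDih s₃ (eG.trans e) hdv with h | h
        · right; left; exact h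
        · right; right; left; exact h
      · right; right; right; right; right; right; left
        have hcM : Nat.card M = 12 := by rw [Nat.card_congr (eG.trans e).toEquiv, a4_card]
        have hp3 : p ≠ 3 := by
          rintro rfl
          apply hpM
          rw [hcM]; norm_num
        obtain ⟨h1, h8⟩ := a4_case p h2 hsimp hM (eG.trans e) hp3 hn
        exact ⟨h1, h8, fun h10 => a4_extra p h2 hsimp hM (eG.trans e) h1 h8 h10, ⟨eG.trans e⟩⟩
      · right; right; right; right; right; right; right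
        have hcM : Nat.card M = 24 := by rw [Nat.card_congr (eG.trans e).toEquiv, s4_card]
        have hp3 : p ≠ 3 := by
          rintro rfl
          apply hpM
          rw [hcM]; norm_num
        obtain ⟨h1, h8⟩ := s4_case p h2 hsimp hM (eG.trans e) hp3 hn
        exact ⟨h1, h8, ⟨eG.trans e⟩⟩
      · right; right; right; right; right; left
        have hcM : Nat.card M = 60 := by rw [Nat.card_congr (eG.trans e).toEquiv, a5_card]
        have hp5 : p ≠ 5 := by
          rintro rfl
          apply hpM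
          rw [hcM]; norm_num
        exact hA5 (eG.trans e) hp5

end Cfsg.Agent.S5892
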