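import Mathlib
import Cfsg.Agent.S5891
import Cfsg.Agent.S5892
import Cfsg.Agent.Lib_helper4_MzA
import Cfsg.Agent.Lib_helper4_MzB
import Cfsg.Agent.Lib_helper4_MzC

set_option autoImplicit false
set_option maxHeartbeats 3200000

/-!
# `M ∩ L` is maximal in `L` for maximal subgroups `M` of `PGL₂(q)`: the core argument
-/

namespace Cfsg.Agent.helper4.Mz

open Matrix
open scoped LinearAlgebra.Projectivization MatrixGroups
open Cfsg.Agent.helper4.Dk Cfsg.Agent.helper4.Dn Cfsg.Agent.helper4.Mx Cfsg.Agent.helper4.My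

theorem m5z5 {p q q₀ q₁ r s a b : ℕ} (hp : p.Prime) (hq₀3 : 3 ≤ q₀) (hr : r.Prime) (hs : s.Prime)
    (hq₀ : q = q₀ ^ r) (hq₁ : q = q₁ ^ s) (hqp : ∃ n, q = p ^ n)
    (ha : 2 * a = q₀ * (q₀ ^ 2 - 1)) (hb : 2 * b = q₁ * (q₁ ^ 2 - 1)) (hab : a ∣ b)
    (hne : a ≠ b) : False := by
  obtain ⟨n, hn⟩ := hqp
  have hq3 : 3 ≤ q := by
    rw [hq₀]
    calc 3 ≤ q₀ := hq₀3
      _ = q₀ ^ 1 := (pow_one _).symm
      _ ≤ q₀ ^ r := Nat.pow_le_pow_right (by omega) hr.one_le
  have hq₁2 : 2 ≤ q₁ := by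
    by_contra h
    have h1 : q₁ ≤ 1 := by omega
    have : q₁ ^ s ≤ 1 := by
      interval_cases q₁
      · rw [zero_pow hs.ne_zero]; omega
      · simp
    omega
  have h0 : q₀ ∣ p ^ n := by rw [← hn, hq₀]; exact dvd_pow_self _ hr.ne_zero
  have h1 : q₁ ∣ p ^ n := by rw [← hn, hq₁]; exact dvd_pow_self _ hs.ne_zero
  obtain ⟨α, -, rfl⟩ := (Nat.dvd_prime_pow hp).mp h0
  obtain ⟨β, -, rfl⟩ := (Nat.dvd_prime_pow hp).mp h1
  have hα : 1 ≤ α := by
    by_contra h
    have : α = 0 := by omega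
    subst this
    simp at hq₀3
  have hβ : 1 ≤ β := by
    by_contra h
    have : β = 0 := by omega
    subst this
    simp at hq₁2
  have hd1 : p ^ α * ((p ^ α) ^ 2 - 1) ∣ 2 * b := by
    rw [← ha]; exact mul_dvd_mul_left 2 hab
  have hd2 : 2 * b ∣ p ^ β * ((p ^ β) ^ 2 - 1) := by rw [hb]
  obtain ⟨m, hm⟩ := field_numerics hp hα hβ rfl rfl hd1 hd2
  have h3 : (p ^ α) ^ r = (p ^ α) ^ (m * s) := by
    rw [← hq₀, hq₁, ← hm, ← pow_mul]
  have h4 : r = m * s := Nat.pow_right_injective (by omega : 2 ≤ p ^ α) h3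
  have h5 : s ∣ r := ⟨m, by rw [h4]; ring⟩
  have h6 : s = r := by
    rcases (Nat.dvd_prime hr).mp h5 with h | h
    · exact absurd h hs.ne_one
    · exact h
  have h7 : m = 1 := by
    rw [h6] at h4
    have : 1 * r = m * r := by rw [one_mul]; exact h4
    exact (Nat.eq_of_mul_eq_mul_right hr.pos this).symm
  rw [h7, pow_one] at hm
  rw [hm] at ha
  omega

theorem card_alt5 : Nat.card (alternatingGroup (Fin 5)) = 60 := by
  have h := two_mul_nat_card_alternatingGroup (α := Fin 5)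
  rw [Nat.card_eq_fintype_card (α := Equiv.Perm (Fin 5)), Fintype.card_perm] at h
  have : Nat.factorial (Fintype.card (Fin 5)) = 120 := by rw [Fintype.card_fin]; rfl
  omega

theorem card_alt4 : Nat.card (alternatingGroup (Fin 4)) = 12 := by
  rw [Nat.card_eq_fintype_card]; rfl

variable {F : Type*} [Field F] [Fintype F]

local notation "PG" => Matrix.ProjGenLinGroup (Fin 2) F
local notation "PS" => Matrix.ProjectiveSpecialLinearGroup (Fin 2) F

theorem core (p : ℕ) [Fact p.Prime] [CharP F p] (hodd : Odd (Fintype.card F))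
    (h5 : 5 ≤ Fintype.card F) (h7 : Fintype.card F ≠ 7) (h9 : Fintype.card F ≠ 9)
    (h11 : Fintype.card F ≠ 11)
    (h40 : (Fintype.card F).Prime → Fintype.card F % 40 ∉ ({11, 19, 21, 29} : Finset ℕ))
    (M : Subgroup PG) (hM : IsCoatom M)
    (hML : ¬ (Matrix.ProjGenLinGroup.mk.comp Matrix.SpecialLinearGroup.toGL).range ≤ M)
    (Z : Subgroup PS) (hZ : IsCoatom Z)
    (hle : M ⊓ (tauF F).range ≤ Z.map (tauF F))
    (hne : M ⊓ (tauF F).range ≠ Z.map (tauF F)) : False := by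
  classical
  have hpp : p.Prime := Fact.out
  have h2 : (2 : F) ≠ 0 := two_ne_zero_of_odd_card hodd
  have hML' : ¬ (tauF F).range ≤ M := by rw [← range_eq_tau]; exact hML
  obtain ⟨nn, -, hnn⟩ := FiniteField.card F p
  have hqp : ∃ n, Fintype.card F = p ^ n := ⟨nn, hnn⟩
  -- notation
  obtain ⟨q, hq⟩ : ∃ q, q = Fintype.card F := ⟨_, rfl⟩
  obtain ⟨M₀, hM₀⟩ : ∃ M₀, M₀ = M ⊓ (tauF F).range := ⟨_, rfl⟩
  obtain ⟨Y, hY⟩ : ∃ Y, Y = Z.map (tauF F) := ⟨_, rfl⟩
  rw [← hM₀, ← hY] at hle hne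
  have eY : Z ≃* Y := by rw [hY]; exact Z.equivMapOfInjective _ tauF_injective
  haveI : Finite PS := Nat.finite_of_card_ne_zero (by
    have := two_mul_card_PSL (F := F) h2
    intro h0
    rw [h0] at this
    have h1 : 1 < Fintype.card F ^ 2 := by nlinarith
    have : 0 < Fintype.card F * (Fintype.card F ^ 2 - 1) := Nat.mul_pos (by omega) (by omega)
    omega)
  haveI : Finite Z := inferInstance
  haveI : Finite Y := Finite.of_equiv _ eY.toEquiv
  obtain ⟨a, ha⟩ : ∃ a, a = Nat.card M₀ := ⟨_, rfl⟩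
  obtain ⟨b, hb⟩ : ∃ b, b = Nat.card Z := ⟨_, rfl⟩
  have hbY : Nat.card Y = b := by rw [hb]; exact (Nat.card_congr eY.toEquiv).symm
  have hcM : Nat.card M = 2 * a := by
    rw [ha, hM₀]
    exact card_inf_of_index_two (tauF F).range M (index_range_tau h2) (not_le_range hM h2 hML')
  have hab : a ∣ b := by
    rw [ha, ← hbY]; exact Subgroup.card_dvd_of_le hle
  have hneq : a ≠ b := by
    intro h
    apply hne
    apply Subgroup.eq_of_le_of_card_ge hle
    rw [hbY, ← h, ha]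
  have hbpos : 0 < b := by rw [hb]; exact Nat.card_pos
  have hapos : 0 < a := by rw [ha]; exact Nat.card_pos
  have h2ab : 2 * a ≤ b := two_mul_le_of_dvd hbpos hab hneq
  have hsq : ∀ x ∈ M, x * x ∈ M₀ := by
    intro x hx
    rw [hM₀]
    exact ⟨M.mul_mem hx hx, sq_mem_range h2 x⟩
  have hsqY : ∀ x ∈ M, x * x ∈ Y := fun x hx => hle (hsq x hx)
  rw [← hq] at hodd h5 h7 h9 h11 h40 hqp
  -- the type of `Z`
  have hZtype := Cfsg.Agent.S5892.result p (by rw [← hq]; exact hodd) (by rw [← hq]; exact h5) Z hZ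
  rw [← hq, ← hb] at hZtype
  -- the type of `M`
  have hMtype := Cfsg.Agent.S5891.result (by rw [← hq]; exact hodd) (by rw [← hq]; omega) M hM hML
  rw [← hq, hcM] at hMtype
  rcases hMtype with hM1 | ⟨hq5, ⟨f⟩⟩ | ⟨⟨f⟩⟩ | ⟨hqprime, hq8, ⟨f⟩⟩ |
    ⟨F₀, _, _, r, hr, hro, hq₀, ⟨f⟩⟩
  · -- Borel
    have hb' : b < q * (q - 1) := by
      rcases hZtype with hZ1 | ⟨-, k, hk, ⟨g⟩⟩ | ⟨-, -, k, hk, ⟨g⟩⟩ | ⟨F₁, _, _, hq₁, ⟨g⟩⟩ |
        ⟨F₁, _, _, s, hs, hso, hq₁, ⟨g⟩⟩ | ⟨h10, -, ⟨g⟩⟩ | ⟨-, -, -, ⟨g⟩⟩ | ⟨hqp', h8, ⟨g⟩⟩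
      · exact z1_bound h5 hZ1
      · have : b = q - 1 := by
          rw [hb, Nat.card_congr g.toEquiv, DihedralGroup.nat_card]; exact hk
        rw [this]; exact z2_bound h5
      · have : b = q + 1 := by
          rw [hb, Nat.card_congr g.toEquiv, DihedralGroup.nat_card]; exact hk
        rw [this]; exact z3_bound h5
      · have : b = Fintype.card F₁ * (Fintype.card F₁ ^ 2 - 1) := by
          rw [hb, Nat.card_congr g.toEquiv, card_PG]
        rw [this]; exact z4_bound h5 hq₁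
      · have hs3 : 3 ≤ s := by
          have := hs.two_le
          obtain ⟨k, hk⟩ := hso
          omega
        have hodd₁ : Odd (Fintype.card F₁) := by
          rw [hq₁] at hodd
          exact (Nat.odd_pow_iff (by omega)).mp hodd
        have : 2 * b = Fintype.card F₁ * (Fintype.card F₁ ^ 2 - 1) := by
          rw [hb, Nat.card_congr g.toEquiv]
          exact two_mul_card_PSL (two_ne_zero_of_odd_card hodd₁)
        exact z5_bound h5 hs3 hq₁ this
      · have : b = 60 := by rw [hb, Nat.card_congr g.toEquiv, card_alt5]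
        rw [this]; exact z6_bound h5 h10
      · have : b = 12 := by rw [hb, Nat.card_congr g.toEquiv, card_alt4]
        rw [this]; exact z7_bound h5
      · have : b = 24 := by rw [hb, Nat.card_congr g.toEquiv, card_perm4]
        rw [this]; exact z8_bound h5 (by rw [hqp']; exact h8)
    exact m1_excl hM1 h2ab hb'
  · -- dihedral of order 2 (q - 1)
    have ha' : a = q - 1 := by
      have := Nat.card_congr f.toEquiv
      rw [hcM, DihedralGroup.nat_card] at this
      omega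
    rcases hZtype with hZ1 | ⟨-, k, hk, ⟨g⟩⟩ | ⟨-, -, k, hk, ⟨g⟩⟩ | ⟨F₁, _, _, hq₁, ⟨g⟩⟩ |
      ⟨F₁, _, _, s, hs, hso, hq₁, ⟨g⟩⟩ | ⟨h10, hqp', ⟨g⟩⟩ | ⟨hqp', h8, -, ⟨g⟩⟩ | ⟨hqp', h8, ⟨g⟩⟩
    · exact m2z1 h5 hodd (ha' ▸ hab) hZ1
    · have : b = q - 1 := by
        rw [hb, Nat.card_congr g.toEquiv, DihedralGroup.nat_card]; exact hk
      omega
    · have : b = q + 1 := by
        rw [hb, Nat.card_congr g.toEquiv, DihedralGroup.nat_card]; exact hk
      rw [this, ha'] at hab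
      exact m2z3 h5 hab
    · -- the structural case
      have hodd₁ : Odd (Fintype.card F₁) := by
        rw [hq₁] at hodd
        exact (Nat.odd_pow_iff (by omega)).mp hodd
      have h3₁ : 3 < Fintype.card F₁ := by
        obtain ⟨k, hk⟩ := hodd₁
        by_contra hcon
        have : Fintype.card F₁ = 1 ∨ Fintype.card F₁ = 3 := by omega
        rcases this with h | h
        · rw [h] at hq₁; omega
        · rw [h] at hq₁; omega
      refine dih_pgl_excl hsq hle f (eY.symm.trans g) hodd₁ h3₁ ?_ ?_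
      · rw [hq₁]
      · rw [← ha, ha']
    · have hs3 : 3 ≤ s := by
        have := hs.two_le
        obtain ⟨k, hk⟩ := hso
        omega
      have hodd₁ : Odd (Fintype.card F₁) := by
        rw [hq₁] at hodd
        exact (Nat.odd_pow_iff (by omega)).mp hodd
      have : 2 * b = Fintype.card F₁ * (Fintype.card F₁ ^ 2 - 1) := by
        rw [hb, Nat.card_congr g.toEquiv]
        exact two_mul_card_PSL (two_ne_zero_of_odd_card hodd₁)
      exact m2z5 h5 hs3 hq₁ this (by omega)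
    · have hb60 : b = 60 := by rw [hb, Nat.card_congr g.toEquiv, card_alt5]
      have hq31 : q = 31 := by
        apply m2z6 hpp h5 h11 _ _ h10
        · rcases hqp' with h | ⟨h, -⟩
          · exact Or.inl h
          · exact Or.inr h
        · rw [← ha', ← hb60]; exact hab
        · rw [← ha', ← hb60]; exact hneq
      have ha30 : a = 30 := by omega
      refine index_two_simple_excl hle ?_ (eY.symm.trans g) ?_
      · rw [hbY, ← ha, hb60, ha30]
      · rw [card_alt5]; norm_num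
    · have hb12 : b = 12 := by rw [hb, Nat.card_congr g.toEquiv, card_alt4]
      refine m2z7 h5 hq5 ?_ ?_ (by rw [hqp']; exact h8)
      · rw [← ha', ← hb12]; exact hab
      · rw [← ha', ← hb12]; exact hneq
    · have hb24 : b = 24 := by rw [hb, Nat.card_congr g.toEquiv, card_perm4]
      refine m2z8 h5 h7 h9 ?_ ?_ (by rw [hqp']; exact h8)
      · rw [← ha', ← hb24]; exact hab
      · rw [← ha', ← hb24]; exact hneq
  · -- dihedral of order 2 (q + 1)
    have ha' : a = q + 1 := by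
      have := Nat.card_congr f.toEquiv
      rw [hcM, DihedralGroup.nat_card] at this
      omega
    rcases hZtype with hZ1 | ⟨-, k, hk, ⟨g⟩⟩ | ⟨-, -, k, hk, ⟨g⟩⟩ | ⟨F₁, _, _, hq₁, ⟨g⟩⟩ |
      ⟨F₁, _, _, s, hs, hso, hq₁, ⟨g⟩⟩ | ⟨h10, hqp', ⟨g⟩⟩ | ⟨hqp', h8, -, ⟨g⟩⟩ | ⟨hqp', h8, ⟨g⟩⟩
    · exact m3z1 h5 (ha' ▸ hab) hZ1
    · have : b = q - 1 := by
        rw [hb, Nat.card_congr g.toEquiv, DihedralGroup.nat_card]; exact hk
      omega
    · have : b = q + 1 := by
        rw [hb, Nat.card_congr g.toEquiv, DihedralGroup.nat_card]; exact hk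
      omega
    · have : b = Fintype.card F₁ * (Fintype.card F₁ ^ 2 - 1) := by
        rw [hb, Nat.card_congr g.toEquiv, card_PG]
      rw [this, ha'] at hab
      exact m3z4 h5 hq₁ hab
    · have hs3 : 3 ≤ s := by
        have := hs.two_le
        obtain ⟨k, hk⟩ := hso
        omega
      have hodd₁ : Odd (Fintype.card F₁) := by
        rw [hq₁] at hodd
        exact (Nat.odd_pow_iff (by omega)).mp hodd
      have : 2 * b = Fintype.card F₁ * (Fintype.card F₁ ^ 2 - 1) := by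
        rw [hb, Nat.card_congr g.toEquiv]
        exact two_mul_card_PSL (two_ne_zero_of_odd_card hodd₁)
      exact m3z5 h5 hs3 hq₁ this (by omega)
    · have hb60 : b = 60 := by rw [hb, Nat.card_congr g.toEquiv, card_alt5]
      refine m3z6 h5 h9 h11 h40 ?_ ?_ h10
      · rw [← ha', ← hb60]; exact hab
      · rw [← ha', ← hb60]; exact hneq
    · have hb12 : b = 12 := by rw [hb, Nat.card_congr g.toEquiv, card_alt4]
      have hq5' : q = 5 := by
        apply m3z7 h5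
        · rw [← ha', ← hb12]; exact hab
        · rw [← ha', ← hb12]; exact hneq
      refine a4_no_index_two hle (eY.symm.trans g) ?_
      rw [← ha, ha', hq5']
    · have hb24 : b = 24 := by rw [hb, Nat.card_congr g.toEquiv, card_perm4]
      refine m3z8 h5 h7 ?_ ?_ (by rw [hqp']; exact h8)
      · rw [← ha', ← hb24]; exact hab
      · rw [← ha', ← hb24]; exact hneq
  · -- S₄
    have ha' : a = 12 := by
      have := Nat.card_congr f.toEquiv
      rw [hcM, card_perm4] at this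
      omega
    rcases hZtype with hZ1 | ⟨-, k, hk, ⟨g⟩⟩ | ⟨-, -, k, hk, ⟨g⟩⟩ | ⟨F₁, _, _, hq₁, ⟨g⟩⟩ |
      ⟨F₁, _, _, s, hs, hso, hq₁, ⟨g⟩⟩ | ⟨h10, hqp', ⟨g⟩⟩ | ⟨hqp', h8, -, ⟨g⟩⟩ | ⟨hqp', h8, ⟨g⟩⟩
    · exact m4z1 h5 hq8 (ha' ▸ hab) hZ1
    · exact s4_dih_excl f (eY.symm.trans g) hsqY
    · exact s4_dih_excl f (eY.symm.trans g) hsqY
    · exact m4z4 hqprime hq₁
    · have hs3 : 3 ≤ s := by
        have := hs.two_le
        obtain ⟨k, hk⟩ := hso
        omega
      exact m4z5 hqprime hs3 hq₁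
    · exact m4z6 hqprime h40 hq8 h10
    · have hb12 : b = 12 := by rw [hb, Nat.card_congr g.toEquiv, card_alt4]
      omega
    · rw [← hqp'] at h8
      omega
  · -- subfield
    have hr3 : 3 ≤ r := by
      have := hr.two_le
      obtain ⟨k, hk⟩ := hro
      omega
    obtain ⟨hq₀3, hodd₀⟩ := q0_facts h5 hodd hr3 hq₀
    have ha' : 2 * a = Fintype.card F₀ * (Fintype.card F₀ ^ 2 - 1) := by
      have := Nat.card_congr f.toEquiv
      rw [hcM, card_PG] at this
      exact this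
    rcases hZtype with hZ1 | ⟨-, k, hk, ⟨g⟩⟩ | ⟨-, -, k, hk, ⟨g⟩⟩ | ⟨F₁, _, _, hq₁, ⟨g⟩⟩ |
      ⟨F₁, _, _, s, hs, hso, hq₁, ⟨g⟩⟩ | ⟨h10, hqp', ⟨g⟩⟩ | ⟨hqp', h8, -, ⟨g⟩⟩ | ⟨hqp', h8, ⟨g⟩⟩
    · exact m5z1 h5 hq₀3 hro hq₀ ha' hab hZ1
    · have : b = q - 1 := by
        rw [hb, Nat.card_congr g.toEquiv, DihedralGroup.nat_card]; exact hk
      exact m5z23 hq₀3 (by omega) hq₀ hodd₀ ha' (Or.inl (this ▸ hab))
    · have : b = q + 1 := by
        rw [hb, Nat.card_congr g.toEquiv, DihedralGroup.nat_card]; exact hk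
      exact m5z23 hq₀3 (by omega) hq₀ hodd₀ ha' (Or.inr (this ▸ hab))
    · have : b = Fintype.card F₁ * (Fintype.card F₁ ^ 2 - 1) := by
        rw [hb, Nat.card_congr g.toEquiv, card_PG]
      exact m5z4 h5 hq₀3 hro hq₀ hq₁ ha' (this ▸ hab)
    · have hodd₁ : Odd (Fintype.card F₁) := by
        rw [hq₁] at hodd
        exact (Nat.odd_pow_iff hs.ne_zero).mp hodd
      have : 2 * b = Fintype.card F₁ * (Fintype.card F₁ ^ 2 - 1) := by
        rw [hb, Nat.card_congr g.toEquiv]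
        exact two_mul_card_PSL (two_ne_zero_of_odd_card hodd₁)
      exact m5z5 hpp hq₀3 hr hs hq₀ hq₁ hqp ha' this hab hneq
    · apply m5z678 hpp hq₀3 hr3 hq₀
      rcases hqp' with h | ⟨h, -⟩
      · exact Or.inl h
      · exact Or.inr h
    · exact m5z678 hpp hq₀3 hr3 hq₀ (Or.inl hqp')
    · exact m5z678 hpp hq₀3 hr3 hq₀ (Or.inl hqp')

end Cfsg.Agent.helper4.Mz
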