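import Mathlib

set_option autoImplicit false
open DihedralGroup

namespace Cfsg.Agent.helper4.O168

/-- Elementwise form of "Klein four-group". -/
def K4 {X : Type*} [Group X] (U : Subgroup X) : Prop := Nat.card U = 4 ∧ ∀ x ∈ U, x * x = 1

theorem isKleinFour_iff_K4 {X : Type*} [Group X] (U : Subgroup X) : IsKleinFour U ↔ K4 U := by
  constructor
  · intro h
    refine ⟨h.card_four, fun x hx => ?_⟩
    have h1 := Monoid.pow_exponent_eq_one (⟨x, hx⟩ : U)
    rw [h.exponent_two] at h1
    have h2 := congrArg Subtype.val h1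
    simpa [pow_two] using h2
  · intro h
    refine ⟨h.1, ?_⟩
    have h1 : Monoid.exponent U ∣ 2 := Monoid.exponent_dvd_of_forall_pow_eq_one (fun g => by
      apply Subtype.ext
      simp [pow_two, h.2 g.1 g.2])
    rcases (Nat.dvd_prime Nat.prime_two).mp h1 with h2 | h2
    · exfalso
      rw [Monoid.exp_eq_one_iff] at h2
      have h3 := h.1
      rw [Nat.card_of_subsingleton (1 : U)] at h3
      omega
    · exact h2

theorem K4.comm {X : Type*} [Group X] {U : Subgroup X} (h : K4 U) {x y : X} (hx : x ∈ U)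
    (hy : y ∈ U) : x * y = y * x := by
  have h1 := h.2 x hx
  have h2 := h.2 y hy
  have h3 := h.2 (x * y) (U.mul_mem hx hy)
  have hx' : x⁻¹ = x := inv_eq_of_mul_eq_one_left h1
  have hy' : y⁻¹ = y := inv_eq_of_mul_eq_one_left h2
  have h4 : (x * y)⁻¹ = x * y := inv_eq_of_mul_eq_one_left h3
  rw [mul_inv_rev, hx', hy'] at h4
  exact h4.symm

theorem K4_map {A B : Type*} [Group A] [Group B] (f : A →* B) (hf : Function.Injective f)
    (V : Subgroup A) : K4 (V.map f) ↔ K4 V := by
  unfold K4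
  rw [Subgroup.card_map_of_injective hf]
  constructor
  · rintro ⟨h1, h2⟩
    refine ⟨h1, fun y hy => ?_⟩
    have := h2 (f y) (Subgroup.mem_map_of_mem f hy)
    apply hf
    rw [map_mul, map_one]; exact this
  · rintro ⟨h1, h2⟩
    refine ⟨h1, ?_⟩
    rintro x ⟨y, hy, rfl⟩
    rw [← map_mul, h2 y hy, map_one]

/-! ### The dihedral group of order 8 -/

def s1 : Finset (DihedralGroup 4) := {1, r 2, sr 0, sr 2}
def s2 : Finset (DihedralGroup 4) := {1, r 2, sr 1, sr 3}

theorem d4_klein_finset : ∀ s : Finset (DihedralGroup 4), s.card = 4 → (∀ a ∈ s, a * a = 1) →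
    (∀ a ∈ s, ∀ b ∈ s, a * b ∈ s) → s = s1 ∨ s = s2 := by
  decide +kernel

theorem s1_mul : ∀ a b : DihedralGroup 4, a ∈ s1 → b ∈ s1 → a * b ∈ s1 := by decide
theorem s2_mul : ∀ a b : DihedralGroup 4, a ∈ s2 → b ∈ s2 → a * b ∈ s2 := by decide
theorem s1_inv : ∀ a : DihedralGroup 4, a ∈ s1 → a⁻¹ ∈ s1 := by decide
theorem s2_inv : ∀ a : DihedralGroup 4, a ∈ s2 → a⁻¹ ∈ s2 := by decide
theorem s1_sq : ∀ a : DihedralGroup 4, a ∈ s1 → a * a = 1 := by decide
theorem s2_sq : ∀ a : DihedralGroup 4, a ∈ s2 → a * a = 1 := by decide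

def V1 : Subgroup (DihedralGroup 4) where
  carrier := {x | x ∈ s1}
  mul_mem' := fun {a b} ha hb => s1_mul a b ha hb
  one_mem' := by decide
  inv_mem' := fun {a} ha => s1_inv a ha

def V2 : Subgroup (DihedralGroup 4) where
  carrier := {x | x ∈ s2}
  mul_mem' := fun {a b} ha hb => s2_mul a b ha hb
  one_mem' := by decide
  inv_mem' := fun {a} ha => s2_inv a ha

theorem mem_V1 {x : DihedralGroup 4} : x ∈ V1 ↔ x ∈ s1 := Iff.rfl
theorem mem_V2 {x : DihedralGroup 4} : x ∈ V2 ↔ x ∈ s2 := Iff.rfl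

theorem V1_ne_V2 : V1 ≠ V2 := by
  intro h
  have h1 : (sr 0 : DihedralGroup 4) ∈ V1 := by rw [mem_V1]; decide
  rw [h, mem_V2] at h1
  revert h1; decide

theorem K4_V1 : K4 V1 := by
  refine ⟨?_, fun x hx => s1_sq x hx⟩
  have : Nat.card V1 = Nat.card s1 := Nat.card_congr (Equiv.subtypeEquivRight (fun x => Iff.rfl))
  rw [this, Nat.card_eq_fintype_card, Fintype.card_coe]; decide

theorem K4_V2 : K4 V2 := by
  refine ⟨?_, fun x hx => s2_sq x hx⟩
  have : Nat.card V2 = Nat.card s2 := Nat.card_congr (Equiv.subtypeEquivRight (fun x => Iff.rfl))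
  rw [this, Nat.card_eq_fintype_card, Fintype.card_coe]; decide

theorem d4_K4 (V : Subgroup (DihedralGroup 4)) : K4 V ↔ V = V1 ∨ V = V2 := by
  classical
  constructor
  · intro h
    let s : Finset (DihedralGroup 4) := Finset.univ.filter (fun x => x ∈ V)
    have hs : ∀ x, x ∈ s ↔ x ∈ V := fun x => by simp [s]
    have hcard : s.card = 4 := by
      have h0 := h.1
      rw [Nat.card_eq_fintype_card, Fintype.card_subtype] at h0
      exact h0
    have := d4_klein_finset s hcard (fun a ha => h.2 a ((hs a).mp ha))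
      (fun a ha b hb => (hs _).mpr (V.mul_mem ((hs a).mp ha) ((hs b).mp hb)))
    rcases this with h1 | h1
    · left; ext x; rw [← hs, h1, mem_V1]
    · right; ext x; rw [← hs, h1, mem_V2]
  · rintro (rfl | rfl)
    · exact K4_V1
    · exact K4_V2

theorem r2_mem_of_K4 {V : Subgroup (DihedralGroup 4)} (h : K4 V) : (r 2 : DihedralGroup 4) ∈ V := by
  rcases (d4_K4 V).mp h with rfl | rfl
  · rw [mem_V1]; decide
  · rw [mem_V2]; decide

theorem d4_center : ∀ d : DihedralGroup 4, (∀ x : DihedralGroup 4, x * d = d * x) →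
    d = 1 ∨ d = r 2 := by decide

theorem d4_r2_central : ∀ x : DihedralGroup 4, x * r 2 = r 2 * x := by decide

theorem d4_r2_ne_one : (r 2 : DihedralGroup 4) ≠ 1 := by decide

/-- Transport: Klein four-subgroups of the image of an injective map from `D₄`. -/
theorem klein_of_d4 {G : Type*} [Group G] (f : DihedralGroup 4 →* G) (hf : Function.Injective f)
    (U : Subgroup G) (hU : U ≤ f.range) : K4 U ↔ U = V1.map f ∨ U = V2.map f := by
  constructor
  · intro h
    have h1 : (U.comap f).map f = U := by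
      rw [Subgroup.map_comap_eq]; exact inf_eq_right.mpr hU
    have h2 : K4 (U.comap f) := by rw [← K4_map f hf, h1]; exact h
    rcases (d4_K4 _).mp h2 with h3 | h3
    · left; rw [← h1, h3]
    · right; rw [← h1, h3]
  · rintro (rfl | rfl)
    · exact (K4_map f hf V1).mpr K4_V1
    · exact (K4_map f hf V2).mpr K4_V2

theorem map_V1_ne_map_V2 {G : Type*} [Group G] (f : DihedralGroup 4 →* G)
    (hf : Function.Injective f) : V1.map f ≠ V2.map f := fun h =>
  V1_ne_V2 (Subgroup.map_injective hf h)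

end Cfsg.Agent.helper4.O168
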