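import Mathlib
import Cfsg.Agent.Lib_helper5_Sylow
import Cfsg.Agent.Lib_helper5_Simple
import Cfsg.Agent.S0991

set_option autoImplicit false

/-! Simple groups of order 168: basic local structure (helper5). -/

namespace Cfsg.Agent.helper5.O168

open Cfsg.Agent.helper5

/-- An element of prime order `p` normalizing a subgroup whose order is not `1` mod `p`
centralizes a nontrivial element of it. -/
theorem exists_fixed_of_normalizes {G : Type*} [Group G] [Finite G] {p : ℕ} [Fact p.Prime]
    (T : Subgroup G) (y : G) (hy : y ∈ Subgroup.normalizer (T : Set G)) (hyp : y ^ p = 1)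
    (hT : ¬ p ∣ Nat.card T - 1) : ∃ t ∈ T, t ≠ 1 ∧ y * t * y⁻¹ = t := by
  classical
  haveI : Fintype G := Fintype.ofFinite _
  let α := {t : G // t ∈ T ∧ t ≠ 1}
  have hmem : ∀ (k : ℤ) (t : G), t ∈ T → y ^ k * t * (y ^ k)⁻¹ ∈ T := by
    intro k t ht
    have hk : y ^ k ∈ Subgroup.normalizer (T : Set G) := Subgroup.zpow_mem _ hy k
    exact (Subgroup.mem_normalizer_iff.mp hk t).mp ht
  have hne : ∀ (g t : G), t ≠ 1 → g * t * g⁻¹ ≠ 1 := by
    intro g t ht h
    apply ht
    have : t = g⁻¹ * (g * t * g⁻¹) * g := by group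
    rw [this, h]; group
  let σ : Equiv.Perm α :=
    { toFun := fun t => ⟨y * t.1 * y⁻¹, by simpa using hmem 1 t.1 t.2.1, hne _ _ t.2.2⟩
      invFun := fun t => ⟨y⁻¹ * t.1 * y, by simpa using hmem (-1) t.1 t.2.1, by
        have := hne y⁻¹ t.1 t.2.2
        simpa using this⟩
      left_inv := fun t => by apply Subtype.ext; simp [mul_assoc]
      right_inv := fun t => by apply Subtype.ext; simp [mul_assoc] }
  have hpow : ∀ (k : ℕ) (t : α), ((σ ^ k) t : G) = y ^ k * t.1 * (y ^ k)⁻¹ := by
    intro k
    induction k with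
    | zero => intro t; simp
    | succ n ih =>
      intro t
      rw [pow_succ', Equiv.Perm.mul_apply]
      change y * ((σ ^ n) t : G) * y⁻¹ = _
      rw [ih t, pow_succ']
      group
  have hσ : σ ^ p ^ 1 = 1 := by
    rw [pow_one]
    apply Equiv.ext
    intro t
    apply Subtype.ext
    rw [hpow p t, hyp]
    simp
  have hcard : Fintype.card α = Nat.card T - 1 := by
    have h1 : Fintype.card α = (Finset.univ.filter (fun t : G => t ∈ T ∧ t ≠ 1)).card :=
      Fintype.card_subtype _
    have h2 : Finset.univ.filter (fun t : G => t ∈ T ∧ t ≠ 1) =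
        (Finset.univ.filter (fun t : G => t ∈ T)).erase 1 := by
      ext t
      simp only [Finset.mem_filter, Finset.mem_univ, true_and, Finset.mem_erase]
      tauto
    rw [h1, h2, Finset.card_erase_of_mem (by simp [T.one_mem]), ← Fintype.card_subtype,
      ← Nat.card_eq_fintype_card]
  obtain ⟨t, ht⟩ := Equiv.Perm.exists_fixed_point_of_prime (p := p) (n := 1)
    (by rw [hcard]; exact hT) hσ
  exact ⟨t.1, t.2.1, t.2.2, congrArg Subtype.val ht⟩

variable {G : Type*} [Group G] [Finite G] [IsSimpleGroup G]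

theorem nonab (h : Nat.card G = 168) : ∃ a b : G, a * b ≠ b * a :=
  nonabelian_of_card_not_prime (by rw [h]; norm_num)

theorem not_comm (h : Nat.card G = 168) : ¬ IsMulCommutative G := by
  intro hc
  obtain ⟨a, b, hab⟩ := nonab h
  exact hab (hc.is_comm.comm a b)

theorem no_small_index (h : Nat.card G = 168) (H : Subgroup G) (hH : H ≠ ⊤) : 7 ≤ H.index := by
  classical
  by_contra hlt
  push Not at hlt
  have hidx : H.index ≤ 6 := by omega
  obtain ⟨f, hf⟩ := Cfsg.Agent.S0991.result (not_comm h) H hH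
  have h1 : Nat.card G ∣ Nat.card (alternatingGroup (Fin H.index)) :=
    Subgroup.card_dvd_of_injective f hf
  have h2 : Nat.card (alternatingGroup (Fin H.index)) ∣ Nat.card (Equiv.Perm (Fin H.index)) :=
    Subgroup.card_subgroup_dvd_card _
  have h3 : Nat.card (Equiv.Perm (Fin H.index)) = (H.index).factorial := by
    rw [Nat.card_eq_fintype_card, Fintype.card_perm, Fintype.card_fin]
  have h4 : (H.index).factorial ∣ (6).factorial := Nat.factorial_dvd_factorial hidx
  have h5 : 168 ∣ (6).factorial := by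
    rw [← h]
    exact h1.trans (h2.trans (h3 ▸ h4))
  have : ¬ (168 ∣ (6).factorial) := by decide
  exact this h5

theorem card_le_of_ne_top (h : Nat.card G = 168) (H : Subgroup G) (hH : H ≠ ⊤) :
    Nat.card H ≤ 24 := by
  have h1 := no_small_index h H hH
  have h2 := H.card_mul_index
  rw [h] at h2
  by_contra hlt
  push Not at hlt
  have : 25 * 7 ≤ Nat.card H * H.index := Nat.mul_le_mul hlt h1
  omega

theorem ne_top_of_card (h : Nat.card G = 168) (H : Subgroup G) (hH : Nat.card H ≠ 168) :
    H ≠ ⊤ := by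
  intro h1
  apply hH
  rw [h1, Subgroup.card_top, h]

instance fact7 : Fact (Nat.Prime 7) := ⟨by norm_num⟩

theorem sylow7 (h : Nat.card G = 168) (P : Sylow 7 G) :
    Nat.card P = 7 ∧ (P : Subgroup G).index = 24 := by
  have := sylow_card_of_card_eq P 1 24 (by rw [h]; norm_num) (by norm_num)
  simpa using this

theorem sylow3 (h : Nat.card G = 168) (P : Sylow 3 G) :
    Nat.card P = 3 ∧ (P : Subgroup G).index = 56 := by
  have := sylow_card_of_card_eq P 1 56 (by rw [h]; norm_num) (by norm_num)
  simpa using this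

theorem sylow2 (h : Nat.card G = 168) (P : Sylow 2 G) :
    Nat.card P = 8 ∧ (P : Subgroup G).index = 21 := by
  have := sylow_card_of_card_eq P 3 21 (by rw [h]; norm_num) (by norm_num)
  simpa using this

theorem sylow_ne (h : Nat.card G = 168) {p : ℕ} [Fact p.Prime] (P : Sylow p G)
    (hc : Nat.card P ≠ 1) (hc' : Nat.card P ≠ 168) :
    (P : Subgroup G) ≠ ⊥ ∧ (P : Subgroup G) ≠ ⊤ := by
  constructor
  · intro h1
    apply hc
    rw [h1, Subgroup.card_bot]
  · exact ne_top_of_card h _ hc'

theorem n7 (h : Nat.card G = 168) : Nat.card (Sylow 7 G) = 8 := by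
  obtain ⟨P⟩ : Nonempty (Sylow 7 G) := inferInstance
  obtain ⟨hmod, hdvd, _⟩ := sylow_count_facts P
  rw [(sylow7 h P).2] at hdvd
  obtain ⟨hb, ht⟩ := sylow_ne h P (by rw [(sylow7 h P).1]; norm_num)
    (by rw [(sylow7 h P).1]; norm_num)
  have hn1 := sylow_count_ne_one P hb ht
  set n := Nat.card (Sylow 7 G) with hn
  have hnle : n ≤ 24 := Nat.le_of_dvd (by norm_num) hdvd
  interval_cases n <;> omega

theorem card_normalizer7 (h : Nat.card G = 168) (P : Sylow 7 G) :
    Nat.card (Subgroup.normalizer ((P : Subgroup G) : Set G)) = 21 := by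
  have := (sylow_count_facts P).2.2
  rw [n7 h, h] at this
  omega

/-- An element of order `p` lies in a Sylow subgroup; if Sylow subgroups have order `p`, it
generates it. -/
theorem exists_sylow_eq_zpowers {p : ℕ} [Fact p.Prime] (hS : ∀ P : Sylow p G, Nat.card P = p)
    (y : G) (hy : orderOf y = p) : ∃ R : Sylow p G, (R : Subgroup G) = Subgroup.zpowers y := by
  have hgp : IsPGroup p (Subgroup.zpowers y) :=
    IsPGroup.of_card (n := 1) (by rw [Nat.card_zpowers, hy, pow_one])
  obtain ⟨R, hR⟩ := hgp.exists_le_sylow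
  refine ⟨R, (Subgroup.eq_of_le_of_card_ge hR ?_).symm⟩
  rw [hS R, Nat.card_zpowers, hy]

theorem n3 (h : Nat.card G = 168) : Nat.card (Sylow 3 G) = 28 := by
  classical
  obtain ⟨P⟩ : Nonempty (Sylow 3 G) := inferInstance
  obtain ⟨hmod, hdvd, hN⟩ := sylow_count_facts P
  rw [(sylow3 h P).2] at hdvd
  obtain ⟨hb, ht⟩ := sylow_ne h P (by rw [(sylow3 h P).1]; norm_num)
    (by rw [(sylow3 h P).1]; norm_num)
  have hn1 := sylow_count_ne_one P hb ht
  set n := Nat.card (Sylow 3 G) with hn
  have hnle : n ≤ 56 := Nat.le_of_dvd (by norm_num) hdvd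
  have hcases : n = 4 ∨ n = 7 ∨ n = 28 := by
    interval_cases n <;> omega
  rcases hcases with h4 | h7 | h28
  · exfalso
    rw [h4, h] at hN
    have hidx := (Subgroup.normalizer ((P : Subgroup G) : Set G)).card_mul_index
    rw [h] at hidx
    have hcard : Nat.card (Subgroup.normalizer ((P : Subgroup G) : Set G)) = 42 := by omega
    have := no_small_index h _ (ne_top_of_card h _ (by rw [hcard]; norm_num))
    rw [hcard] at hidx
    omega
  · exfalso
    -- all Sylow 3-subgroups lie in the normalizer of a Sylow 7-subgroup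
    have hN3 : ∀ R : Sylow 3 G, Nat.card (Subgroup.normalizer ((R : Subgroup G) : Set G)) = 24 := by
      intro R
      have := (sylow_count_facts R).2.2
      rw [← hn, h7, h] at this
      omega
    obtain ⟨P7⟩ : Nonempty (Sylow 7 G) := inferInstance
    set K := Subgroup.normalizer ((P7 : Subgroup G) : Set G) with hK
    have hKcard : Nat.card K = 21 := card_normalizer7 h P7
    obtain ⟨y0, hy0⟩ := exists_prime_orderOf_dvd_card' (G := K) 3 (by rw [hKcard]; norm_num)
    have hy : orderOf (y0 : G) = 3 := by rw [Subgroup.orderOf_coe]; exact hy0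
    obtain ⟨x0, hx0⟩ := exists_prime_orderOf_dvd_card' (G := P7) 7 (by rw [(sylow7 h P7).1])
    have hx : orderOf (x0 : G) = 7 := by rw [Subgroup.orderOf_coe]; exact hx0
    have hxK : (x0 : G) ∈ K := Subgroup.le_normalizer x0.2
    obtain ⟨R, hR⟩ := exists_sylow_eq_zpowers (fun Q => (sylow3 h Q).1) (y0 : G) hy
    have hRK : (R : Subgroup G) ≤ K := by
      rw [hR, Subgroup.zpowers_le]; exact y0.2
    let f : Fin 7 → Sylow 3 G := fun i => (x0 : G) ^ (i : ℕ) • R
    have hfK : ∀ i, (f i : Subgroup G) ≤ K := by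
      intro i g hg
      have h1 := (mem_smul_sylow_iff ((x0 : G) ^ (i : ℕ)) g R).mp hg
      have h2 : ((x0 : G) ^ (i : ℕ))⁻¹ * g * (x0 : G) ^ (i : ℕ) ∈ K := hRK h1
      have h3 : (x0 : G) ^ (i : ℕ) ∈ K := K.pow_mem hxK _
      have h4 : g = (x0 : G) ^ (i : ℕ) * (((x0 : G) ^ (i : ℕ))⁻¹ * g * (x0 : G) ^ (i : ℕ)) *
          ((x0 : G) ^ (i : ℕ))⁻¹ := by group
      rw [h4]
      exact K.mul_mem (K.mul_mem h3 h2) (K.inv_mem h3)
    have hfinj : Function.Injective f := by
      intro i j hij
      by_contra hne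
      -- x^(j-i) or x^(i-j) normalizes R
      have key : ∀ a b : Fin 7, a < b → f a = f b → False := by
        intro a b hab hfab
        have h1 : ((x0 : G) ^ (a : ℕ))⁻¹ • ((x0 : G) ^ (b : ℕ) • R) = R := by
          have : (x0 : G) ^ (a : ℕ) • R = (x0 : G) ^ (b : ℕ) • R := hfab
          rw [← this, inv_smul_smul]
        rw [smul_smul] at h1
        have h2 : ((x0 : G) ^ (a : ℕ))⁻¹ * (x0 : G) ^ (b : ℕ) = (x0 : G) ^ ((b : ℕ) - (a : ℕ)) := by
          have hle : (a : ℕ) ≤ (b : ℕ) := le_of_lt hab
          rw [pow_sub _ hle]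
          have hc : Commute ((x0 : G) ^ (a : ℕ))⁻¹ ((x0 : G) ^ (b : ℕ)) :=
            ((Commute.refl (x0 : G)).pow_pow _ _).inv_left
          exact hc.eq
        rw [h2] at h1
        have h3 : (x0 : G) ^ ((b : ℕ) - (a : ℕ)) ∈
            Subgroup.normalizer ((R : Subgroup G) : Set G) :=
          Sylow.smul_eq_iff_mem_normalizer.mp h1
        have hd : 0 < (b : ℕ) - (a : ℕ) ∧ (b : ℕ) - (a : ℕ) < 7 := by
          have := b.2
          have : (a : ℕ) < (b : ℕ) := hab
          omega
        -- then x itself normalizes R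
        have hcop : Nat.Coprime 7 ((b : ℕ) - (a : ℕ)) :=
          (Nat.Prime.coprime_iff_not_dvd (by norm_num)).mpr
            (fun hdv => by have := Nat.le_of_dvd hd.1 hdv; omega)
        have h4 : (x0 : G) ∈ Subgroup.zpowers ((x0 : G) ^ ((b : ℕ) - (a : ℕ))) := by
          have h5 : orderOf ((x0 : G) ^ ((b : ℕ) - (a : ℕ))) = 7 := by
            rw [orderOf_pow' _ (by omega), hx, hcop.gcd_eq_one, Nat.div_one]
          have h6 : Subgroup.zpowers ((x0 : G) ^ ((b : ℕ) - (a : ℕ))) = Subgroup.zpowers (x0 : G) := by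
            apply Subgroup.eq_of_le_of_card_ge
            · rw [Subgroup.zpowers_le]
              exact Subgroup.pow_mem _ (Subgroup.mem_zpowers _) _
            · rw [Nat.card_zpowers, Nat.card_zpowers, h5, hx]
          rw [h6]
          exact Subgroup.mem_zpowers _
        have h5 : (x0 : G) ∈ Subgroup.normalizer ((R : Subgroup G) : Set G) :=
          (Subgroup.zpowers_le.mpr h3) h4
        have h6 : orderOf (x0 : G) ∣ Nat.card (Subgroup.normalizer ((R : Subgroup G) : Set G)) := by
          have := orderOf_dvd_natCard (⟨(x0 : G), h5⟩ :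
            Subgroup.normalizer ((R : Subgroup G) : Set G))
          rwa [Subgroup.orderOf_mk] at this
        rw [hx, hN3 R] at h6
        omega
      rcases lt_or_gt_of_ne hne with hlt | hgt
      · exact key i j hlt hij
      · exact key j i hgt hij.symm
    haveI : Fintype (Sylow 3 G) := Fintype.ofFinite _
    have hfbij : Function.Bijective f := by
      rw [Fintype.bijective_iff_injective_and_card]
      refine ⟨hfinj, ?_⟩
      rw [Fintype.card_fin, ← Nat.card_eq_fintype_card, ← hn, h7]
    have hall : ∀ R' : Sylow 3 G, (R' : Subgroup G) ≤ K := by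
      intro R'
      obtain ⟨i, rfl⟩ := hfbij.2 R'
      exact hfK i
    have hycore : (y0 : G) ∈ K.normalCore := by
      intro b
      have h1 : b * (y0 : G) * b⁻¹ ∈ ((b • R : Sylow 3 G) : Subgroup G) := by
        rw [mem_smul_sylow_iff]
        have : b⁻¹ * (b * (y0 : G) * b⁻¹) * b = (y0 : G) := by group
        rw [this, hR]
        exact Subgroup.mem_zpowers _
      exact hall _ h1
    have hy1 : (y0 : G) ≠ 1 := by
      intro h1
      rw [h1, orderOf_one] at hy
      omega
    rcases (K.normalCore_normal).eq_bot_or_eq_top with hc | hc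
    · rw [hc, Subgroup.mem_bot] at hycore
      exact hy1 hycore
    · have : K = ⊤ := top_le_iff.mp (hc ▸ K.normalCore_le)
      exact ne_top_of_card h K (by rw [hKcard]; norm_num) this
  · exact h28

theorem card_normalizer3 (h : Nat.card G = 168) (P : Sylow 3 G) :
    Nat.card (Subgroup.normalizer ((P : Subgroup G) : Set G)) = 6 := by
  have := (sylow_count_facts P).2.2
  rw [n3 h, h] at this
  omega

/-- A Sylow subgroup of prime order is abelian, so lies in its centralizer. -/
theorem le_centralizer_of_prime_card {p : ℕ} [Fact p.Prime] (P : Sylow p G)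
    (hP : Nat.card P = p) : (P : Subgroup G) ≤ Subgroup.centralizer ((P : Subgroup G) : Set G) := by
  haveI : IsCyclic (P : Subgroup G) := isCyclic_of_prime_card hP
  intro a ha
  rw [Subgroup.mem_centralizer_iff]
  intro b hb
  obtain ⟨g, hg⟩ := IsCyclic.exists_generator (α := (P : Subgroup G))
  obtain ⟨i, hi⟩ := Subgroup.mem_zpowers_iff.mp (hg ⟨a, ha⟩)
  obtain ⟨j, hj⟩ := Subgroup.mem_zpowers_iff.mp (hg ⟨b, hb⟩)
  have ha' : a = ((g ^ i : (P : Subgroup G)) : G) := by rw [hi]
  have hb' : b = ((g ^ j : (P : Subgroup G)) : G) := by rw [hj]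
  rw [ha', hb', ← Subgroup.coe_mul, ← Subgroup.coe_mul, ← zpow_add, ← zpow_add, add_comm]

/-- If the automizer has order `|N|/p`, the Sylow subgroup of order `p` is self-centralizing. -/
theorem centralizer_eq_of_relIndex {p : ℕ} [Fact p.Prime] (P : Sylow p G)
    (hP : Nat.card P = p) (r : ℕ)
    (hr : r = (Subgroup.centralizer ((P : Subgroup G) : Set G)).relIndex
        (Subgroup.normalizer ((P : Subgroup G) : Set G)))
    (hN : Nat.card (Subgroup.normalizer ((P : Subgroup G) : Set G)) = p * r) :
    Subgroup.centralizer ((P : Subgroup G) : Set G) = P := by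
  have hp : p.Prime := Fact.out
  have hCN : Subgroup.centralizer ((P : Subgroup G) : Set G) ≤
      Subgroup.normalizer ((P : Subgroup G) : Set G) := Subgroup.centralizer_le_normalizer _
  have h1 := Subgroup.card_mul_index ((Subgroup.centralizer ((P : Subgroup G) : Set G)).subgroupOf
    (Subgroup.normalizer ((P : Subgroup G) : Set G)))
  rw [card_subgroupOf_of_le hCN, ← Subgroup.relIndex, ← hr, hN] at h1
  have hr0 : 0 < r := by
    rcases Nat.eq_zero_or_pos r with h0 | h0
    · rw [h0, mul_zero] at hN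
      have := Nat.card_pos (α := Subgroup.normalizer ((P : Subgroup G) : Set G))
      omega
    · exact h0
  have hC : Nat.card (Subgroup.centralizer ((P : Subgroup G) : Set G)) = p :=
    Nat.eq_of_mul_eq_mul_right hr0 h1
  exact (Subgroup.eq_of_le_of_card_ge (le_centralizer_of_prime_card P hP) (by rw [hC, hP])).symm

theorem cent3 (h : Nat.card G = 168) (P : Sylow 3 G) :
    Subgroup.centralizer ((P : Subgroup G) : Set G) = P := by
  have hP := (sylow3 h P).1
  haveI : IsCyclic (P : Subgroup G) := isCyclic_of_prime_card hP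
  obtain ⟨hb, _⟩ := sylow_ne h P (by rw [hP]; norm_num) (by rw [hP]; norm_num)
  obtain ⟨r, hr, hr1, hrdvd, _⟩ := automizer_facts (nonab h) P hb inferInstance
  rw [hP] at hrdvd
  have h2 : Nat.totient 3 = 2 := by decide
  rw [h2] at hrdvd
  have hr2 : r = 2 := by
    rcases (Nat.dvd_prime (by norm_num : Nat.Prime 2)).mp hrdvd with h3 | h3
    · exact absurd h3 hr1
    · exact h3
  exact centralizer_eq_of_relIndex P hP r hr (by rw [card_normalizer3 h P, hr2])

theorem cent7 (h : Nat.card G = 168) (P : Sylow 7 G) :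
    Subgroup.centralizer ((P : Subgroup G) : Set G) = P := by
  have hP := (sylow7 h P).1
  haveI : IsCyclic (P : Subgroup G) := isCyclic_of_prime_card hP
  obtain ⟨hb, _⟩ := sylow_ne h P (by rw [hP]; norm_num) (by rw [hP]; norm_num)
  obtain ⟨r, hr, hr1, hrdvd, _⟩ := automizer_facts (nonab h) P hb inferInstance
  rw [hP] at hrdvd
  have h2 : Nat.totient 7 = 6 := by decide
  rw [h2] at hrdvd
  have hr21 : r ∣ 21 := by
    rw [hr, ← card_normalizer7 h P]
    exact Subgroup.relIndex_dvd_card _ _
  have hr3 : r = 3 := by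
    have hle : r ≤ 6 := Nat.le_of_dvd (by norm_num) hrdvd
    interval_cases r <;> omega
  exact centralizer_eq_of_relIndex P hP r hr (by rw [card_normalizer7 h P, hr3])

/-- An element commuting with an element of order 3 is a power of it. -/
theorem mem_zpowers_of_commute3 (h : Nat.card G = 168) (y t : G) (hy : orderOf y = 3)
    (hc : t * y = y * t) : t ∈ Subgroup.zpowers y := by
  obtain ⟨R, hR⟩ := exists_sylow_eq_zpowers (fun Q => (sylow3 h Q).1) y hy
  rw [← hR, ← cent3 h R, Subgroup.mem_centralizer_iff]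
  intro b hb
  rw [hR] at hb
  obtain ⟨k, rfl⟩ := Subgroup.mem_zpowers_iff.mp hb
  have hcomm : Commute y t := hc.symm
  exact (hcomm.zpow_left k).eq

/-- An element commuting with an element of order 7 is a power of it. -/
theorem mem_zpowers_of_commute7 (h : Nat.card G = 168) (y t : G) (hy : orderOf y = 7)
    (hc : t * y = y * t) : t ∈ Subgroup.zpowers y := by
  obtain ⟨R, hR⟩ := exists_sylow_eq_zpowers (fun Q => (sylow7 h Q).1) y hy
  rw [← hR, ← cent7 h R, Subgroup.mem_centralizer_iff]
  intro b hb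
  rw [hR] at hb
  obtain ⟨k, rfl⟩ := Subgroup.mem_zpowers_iff.mp hb
  have hcomm : Commute y t := hc.symm
  exact (hcomm.zpow_left k).eq

theorem n2 (h : Nat.card G = 168) : Nat.card (Sylow 2 G) = 21 := by
  classical
  obtain ⟨T⟩ : Nonempty (Sylow 2 G) := inferInstance
  obtain ⟨hmod, hdvd, hN⟩ := sylow_count_facts T
  rw [(sylow2 h T).2] at hdvd
  obtain ⟨hb, ht⟩ := sylow_ne h T (by rw [(sylow2 h T).1]; norm_num)
    (by rw [(sylow2 h T).1]; norm_num)
  have hn1 := sylow_count_ne_one T hb ht
  set n := Nat.card (Sylow 2 G) with hn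
  have hnle : n ≤ 21 := Nat.le_of_dvd (by norm_num) hdvd
  have hcases : n = 3 ∨ n = 7 ∨ n = 21 := by
    interval_cases n <;> omega
  rcases hcases with h3 | h7 | h21
  · exfalso
    rw [h3, h] at hN
    have hidx := (Subgroup.normalizer ((T : Subgroup G) : Set G)).card_mul_index
    rw [h] at hidx
    have hcard : Nat.card (Subgroup.normalizer ((T : Subgroup G) : Set G)) = 56 := by omega
    have := no_small_index h _ (ne_top_of_card h _ (by rw [hcard]; norm_num))
    rw [hcard] at hidx
    omega
  · exfalso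
    rw [h7, h] at hN
    have hcard : Nat.card (Subgroup.normalizer ((T : Subgroup G) : Set G)) = 24 := by omega
    obtain ⟨y0, hy0⟩ := exists_prime_orderOf_dvd_card'
      (G := Subgroup.normalizer ((T : Subgroup G) : Set G)) 3 (by rw [hcard]; norm_num)
    have hy : orderOf (y0 : G) = 3 := by rw [Subgroup.orderOf_coe]; exact hy0
    obtain ⟨t, htT, ht1, hfix⟩ := exists_fixed_of_normalizes (p := 3) (T : Subgroup G) (y0 : G) y0.2
      (by rw [← hy]; exact pow_orderOf_eq_one _) (by rw [(sylow2 h T).1]; norm_num)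
    have hc : t * (y0 : G) = (y0 : G) * t := by
      calc t * (y0 : G) = ((y0 : G) * t * (y0 : G)⁻¹) * (y0 : G) := by rw [hfix]
        _ = (y0 : G) * t := by group
    have h1 := mem_zpowers_of_commute3 h (y0 : G) t hy hc
    -- t has order dividing both 3 and 8
    have h2 : orderOf t ∣ 3 := by
      have := orderOf_dvd_natCard (⟨t, h1⟩ : Subgroup.zpowers (y0 : G))
      rwa [Subgroup.orderOf_mk, Nat.card_zpowers, hy] at this
    have h3 : orderOf t ∣ 8 := by
      have := orderOf_dvd_natCard (⟨t, htT⟩ : (T : Subgroup G))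
      rwa [Subgroup.orderOf_mk, (sylow2 h T).1] at this
    have h4 : orderOf t ∣ Nat.gcd 3 8 := Nat.dvd_gcd h2 h3
    have h5 : Nat.gcd 3 8 = 1 := by decide
    rw [h5, Nat.dvd_one, orderOf_eq_one_iff] at h4
    exact ht1 h4
  · exact h21

theorem normalizer2 (h : Nat.card G = 168) (T : Sylow 2 G) :
    Subgroup.normalizer ((T : Subgroup G) : Set G) = T := by
  have := (sylow_count_facts T).2.2
  rw [n2 h, h] at this
  have hcard : Nat.card (Subgroup.normalizer ((T : Subgroup G) : Set G)) = 8 := by omega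
  exact (Subgroup.eq_of_le_of_card_ge Subgroup.le_normalizer
    (by rw [hcard, (sylow2 h T).1])).symm

end Cfsg.Agent.helper5.O168
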