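import Mathlib
import Cfsg.Agent.Lib_helper5_O168

set_option autoImplicit false

/-! Simple groups of order 168: element orders and classes (helper5). -/

namespace Cfsg.Agent.helper5.O168

open Cfsg.Agent.helper5

section general

variable {G : Type*} [Group G]

theorem orderOf_conj' (h g : G) : orderOf (h * g * h⁻¹) = orderOf g :=
  orderOf_injective (MulAut.conj h).toMonoidHom (MulAut.conj h).injective g

/-- The size of the conjugacy class of `g` is the index of its centralizer. -/
theorem card_conj_eq_index (g : G) :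
    Nat.card {x : G // IsConj x g} = (Subgroup.centralizer ({g} : Set G)).index := by
  have h1 : (Subgroup.centralizer ({g} : Set G)).index =
      (MulAction.stabilizer (ConjAct G) g).index := by
    rw [Subgroup.centralizer_eq_comap_stabilizer]
    exact Subgroup.index_comap_of_surjective (MulAction.stabilizer (ConjAct G) g)
      (f := (ConjAct.toConjAct (G := G)).toMonoidHom) (ConjAct.toConjAct (G := G)).surjective
  rw [h1, MulAction.index_stabilizer, ← Nat.card_coe_set_eq]
  apply Nat.card_congr
  exact Equiv.subtypeEquivRight (fun x => by rw [ConjAct.mem_orbit_conjAct])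

theorem card_conj_mul_card_centralizer [Finite G] (g : G) :
    Nat.card {x : G // IsConj x g} * Nat.card (Subgroup.centralizer ({g} : Set G)) =
      Nat.card G := by
  rw [card_conj_eq_index, mul_comm, Subgroup.card_mul_index]

/-- Number of elements of prime order `p` when the Sylow `p`-subgroups have order `p`. -/
theorem card_orderOf_eq_prime [Fintype G] [DecidableEq G] {p : ℕ} [Fact p.Prime]
    (hQcard : ∀ Q : Sylow p G, Nat.card Q = p) :
    (Finset.univ.filter (fun g : G => orderOf g = p)).card = Nat.card (Sylow p G) * (p - 1) := by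
  classical
  have hp : p.Prime := Fact.out
  obtain ⟨S⟩ : Nonempty (Sylow p G) := inferInstance
  have hgen : ∀ g : G, orderOf g = p → ∀ Q : Sylow p G, g ∈ (Q : Subgroup G) →
      Subgroup.zpowers g = Q := by
    intro g hg Q hgQ
    apply Subgroup.eq_of_le_of_card_ge
    · rw [Subgroup.zpowers_le]; exact hgQ
    · rw [hQcard Q, Nat.card_zpowers, hg]
  have hord : ∀ Q : Sylow p G, ∀ g ∈ (Q : Subgroup G), g ≠ 1 → orderOf g = p := by
    intro Q g hg hg1
    have h1 : orderOf (⟨g, hg⟩ : (Q : Subgroup G)) ∣ Nat.card Q := orderOf_dvd_natCard _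
    rw [hQcard Q, Subgroup.orderOf_mk] at h1
    rcases (Nat.dvd_prime hp).mp h1 with h2 | h2
    · exact absurd (orderOf_eq_one_iff.mp h2) hg1
    · exact h2
  let X : Finset G := Finset.univ.filter (fun g => orderOf g = p)
  have hex : ∀ g : G, orderOf g = p → ∃ Q : Sylow p G, g ∈ (Q : Subgroup G) := by
    intro g hg
    have hgp : IsPGroup p (Subgroup.zpowers g) :=
      IsPGroup.of_card (n := 1) (by rw [Nat.card_zpowers, hg, pow_one])
    obtain ⟨Q, hQ⟩ := hgp.exists_le_sylow
    exact ⟨Q, hQ (Subgroup.mem_zpowers g)⟩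
  let f : G → Sylow p G := fun g => if h : orderOf g = p then Classical.choose (hex g h) else S
  have hf : ∀ g : G, orderOf g = p → g ∈ (f g : Subgroup G) := by
    intro g hg
    simp only [f, dif_pos hg]
    exact Classical.choose_spec (hex g hg)
  have hfib : ∀ Q : Sylow p G, X.filter (fun g => f g = Q) =
      (Finset.univ.filter (fun g => g ∈ (Q : Subgroup G))).erase 1 := by
    intro Q
    ext g
    simp only [X, Finset.mem_filter, Finset.mem_univ, true_and, Finset.mem_erase]
    constructor
    · rintro ⟨hg, hfg⟩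
      refine ⟨?_, ?_⟩
      · intro h1
        rw [h1, orderOf_one] at hg
        exact hp.one_lt.ne hg
      · rw [← hfg]; exact hf g hg
    · rintro ⟨hg1, hgQ⟩
      have hg := hord Q g hgQ hg1
      refine ⟨hg, ?_⟩
      apply Sylow.ext
      rw [← hgen g hg Q hgQ, ← hgen g hg (f g) (hf g hg)]
  have hfibcard : ∀ Q : Sylow p G, (X.filter (fun g => f g = Q)).card = p - 1 := by
    intro Q
    have h1 : (Finset.univ.filter (fun g => g ∈ (Q : Subgroup G))).card = p := by
      rw [← Fintype.card_subtype, ← Nat.card_eq_fintype_card]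
      exact hQcard Q
    rw [hfib Q, Finset.card_erase_of_mem (by simp [(Q : Subgroup G).one_mem]), h1]
  haveI : Fintype (Sylow p G) := Fintype.ofFinite _
  have hX : X = Finset.univ.filter (fun g : G => orderOf g = p) := by
    ext g; simp [X]
  rw [← hX]
  rw [Finset.card_eq_sum_card_fiberwise (f := f) (t := Finset.univ) (fun g _ => Finset.mem_univ _),
    Finset.sum_congr rfl (fun Q _ => hfibcard Q), Finset.sum_const, Finset.card_univ,
    Nat.card_eq_fintype_card, smul_eq_mul]

end general

variable {G : Type*} [Group G] [Finite G] [IsSimpleGroup G]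

/-- Sylow 2-subgroups are nonabelian. -/
theorem sylow2_nonabelian (h : Nat.card G = 168) (T : Sylow 2 G) :
    ∃ a ∈ (T : Subgroup G), ∃ b ∈ (T : Subgroup G), a * b ≠ b * a := by
  by_contra hcon
  push Not at hcon
  obtain ⟨hb, _⟩ := sylow_ne h T (by rw [(sylow2 h T).1]; norm_num)
    (by rw [(sylow2 h T).1]; norm_num)
  apply burnside_simple (nonab h) T hb
  rw [normalizer2 h T]
  intro a ha
  rw [Subgroup.mem_centralizer_iff]
  intro b hb'
  exact hcon b hb' a ha

/-- Every element has order 1, 2, 3, 4 or 7. -/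
theorem orders (h : Nat.card G = 168) (g : G) :
    orderOf g = 1 ∨ orderOf g = 2 ∨ orderOf g = 3 ∨ orderOf g = 4 ∨ orderOf g = 7 := by
  have hdvd : orderOf g ∣ 168 := h ▸ orderOf_dvd_natCard g
  have hpos : orderOf g ≠ 0 := (orderOf_pos g).ne'
  have key : ∀ q : ℕ, q.Prime → (∀ y t : G, orderOf y = q → t * y = y * t → t ∈ Subgroup.zpowers y) →
      q ∣ orderOf g → orderOf g = q := by
    intro q hq hmem hqd
    have hy : orderOf (g ^ (orderOf g / q)) = q := orderOf_pow_orderOf_div hpos hqd
    have hc : g * g ^ (orderOf g / q) = g ^ (orderOf g / q) * g :=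
      ((Commute.refl g).pow_right _).eq
    have h1 := hmem _ g hy hc
    have h2 : orderOf g ∣ q := by
      have := orderOf_dvd_natCard (⟨g, h1⟩ : Subgroup.zpowers (g ^ (orderOf g / q)))
      rwa [Subgroup.orderOf_mk, Nat.card_zpowers, hy] at this
    exact Nat.dvd_antisymm h2 hqd
  by_cases h7 : 7 ∣ orderOf g
  · right; right; right; right
    exact key 7 (by norm_num) (fun y t hy hc => mem_zpowers_of_commute7 h y t hy hc) h7
  by_cases h3 : 3 ∣ orderOf g
  · right; right; left
    exact key 3 (by norm_num) (fun y t hy hc => mem_zpowers_of_commute3 h y t hy hc) h3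
  have h8 : orderOf g ∣ 8 := by
    have hcop : Nat.Coprime (orderOf g) 21 := by
      have h21 : (21 : ℕ) = 3 * 7 := by norm_num
      rw [h21]
      apply Nat.Coprime.mul_right
      · exact ((Nat.Prime.coprime_iff_not_dvd (by norm_num)).mpr h3).symm
      · exact ((Nat.Prime.coprime_iff_not_dvd (by norm_num)).mpr h7).symm
    have : orderOf g ∣ 8 * 21 := by norm_num; exact hdvd
    exact hcop.dvd_of_dvd_mul_right this
  have hle : orderOf g ≤ 8 := Nat.le_of_dvd (by norm_num) h8
  have hcases : orderOf g = 1 ∨ orderOf g = 2 ∨ orderOf g = 4 ∨ orderOf g = 8 := by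
    interval_cases (orderOf g) <;> omega
  rcases hcases with h1 | h1 | h1 | h1
  · exact Or.inl h1
  · exact Or.inr (Or.inl h1)
  · exact Or.inr (Or.inr (Or.inr (Or.inl h1)))
  · exfalso
    have hgp : IsPGroup 2 (Subgroup.zpowers g) :=
      IsPGroup.of_card (n := 3) (by rw [Nat.card_zpowers, h1]; norm_num)
    obtain ⟨T, hT⟩ := hgp.exists_le_sylow
    have hTeq : Subgroup.zpowers g = T :=
      Subgroup.eq_of_le_of_card_ge hT (by rw [(sylow2 h T).1, Nat.card_zpowers, h1])
    obtain ⟨a, ha, b, hb, hab⟩ := sylow2_nonabelian h T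
    rw [← hTeq] at ha hb
    obtain ⟨i, rfl⟩ := Subgroup.mem_zpowers_iff.mp ha
    obtain ⟨j, rfl⟩ := Subgroup.mem_zpowers_iff.mp hb
    apply hab
    rw [← zpow_add, ← zpow_add, add_comm]

/-- The centralizer of a nontrivial 2-element is a 2-group. -/
theorem card_centralizer_two_elt (h : Nat.card G = 168) (t : G) (ht1 : t ≠ 1)
    (ht : orderOf t ∣ 8) : Nat.card (Subgroup.centralizer ({t} : Set G)) ∣ 8 := by
  set C := Subgroup.centralizer ({t} : Set G) with hC
  have hdvd : Nat.card C ∣ 168 := h ▸ Subgroup.card_subgroup_dvd_card C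
  have key : ∀ q : ℕ, [Fact q.Prime] → Nat.Coprime q 8 →
      (∀ y t : G, orderOf y = q → t * y = y * t → t ∈ Subgroup.zpowers y) →
      ¬ q ∣ Nat.card C := by
    intro q _ hq8 hmem hqd
    obtain ⟨y0, hy0⟩ := exists_prime_orderOf_dvd_card' (G := C) q hqd
    have hy : orderOf (y0 : G) = q := by rw [Subgroup.orderOf_coe]; exact hy0
    have hc : t * (y0 : G) = (y0 : G) * t :=
      (Subgroup.mem_centralizer_iff.mp y0.2) t (Set.mem_singleton _)
    have h1 := hmem _ t hy hc
    have h2 : orderOf t ∣ q := by
      have := orderOf_dvd_natCard (⟨t, h1⟩ : Subgroup.zpowers (y0 : G))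
      rwa [Subgroup.orderOf_mk, Nat.card_zpowers, hy] at this
    have h3 : orderOf t ∣ Nat.gcd q 8 := Nat.dvd_gcd h2 ht
    rw [hq8.gcd_eq_one, Nat.dvd_one, orderOf_eq_one_iff] at h3
    exact ht1 h3
  have h3 := key 3 (by norm_num) (fun y t hy hc => mem_zpowers_of_commute3 h y t hy hc)
  have h7 := key 7 (by norm_num) (fun y t hy hc => mem_zpowers_of_commute7 h y t hy hc)
  have hcop : Nat.Coprime (Nat.card C) 21 := by
    have h21 : (21 : ℕ) = 3 * 7 := by norm_num
    rw [h21]
    apply Nat.Coprime.mul_right
    · exact ((Nat.Prime.coprime_iff_not_dvd (by norm_num)).mpr h3).symm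
    · exact ((Nat.Prime.coprime_iff_not_dvd (by norm_num)).mpr h7).symm
  have : Nat.card C ∣ 8 * 21 := by norm_num; exact hdvd
  exact hcop.dvd_of_dvd_mul_right this

/-- A central involution of a Sylow 2-subgroup. -/
theorem exists_central_invol (h : Nat.card G = 168) (T : Sylow 2 G) :
    ∃ z ∈ (T : Subgroup G), orderOf z = 2 ∧ ∀ t ∈ (T : Subgroup G), t * z = z * t := by
  haveI : Nontrivial (T : Subgroup G) := by
    rw [← Finite.one_lt_card_iff_nontrivial, (sylow2 h T).1]; norm_num
  haveI := T.isPGroup'.center_nontrivial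
  have hZp : IsPGroup 2 (Subgroup.center (T : Subgroup G)) := T.isPGroup'.to_subgroup _
  obtain ⟨k, hk⟩ := IsPGroup.iff_card.mp hZp
  have hk0 : k ≠ 0 := by
    intro h0
    rw [h0, pow_zero] at hk
    have := Finite.one_lt_card_iff_nontrivial.mpr ‹Nontrivial (Subgroup.center (T : Subgroup G))›
    omega
  have h2 : 2 ∣ Nat.card (Subgroup.center (T : Subgroup G)) := by
    rw [hk]; exact dvd_pow_self 2 hk0
  obtain ⟨c, hc⟩ := exists_prime_orderOf_dvd_card' (G := Subgroup.center (T : Subgroup G)) 2 h2
  refine ⟨((c : (T : Subgroup G)) : G), (c : (T : Subgroup G)).2, ?_, ?_⟩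
  · rw [Subgroup.orderOf_coe, Subgroup.orderOf_coe]; exact hc
  · intro t ht
    have := Subgroup.mem_center_iff.mp c.2 ⟨t, ht⟩
    exact congrArg Subtype.val this

theorem centralizer_central_invol (h : Nat.card G = 168) (T : Sylow 2 G) (z : G)
    (hzT : z ∈ (T : Subgroup G)) (hz1 : z ≠ 1) (hzc : ∀ t ∈ (T : Subgroup G), t * z = z * t) :
    Subgroup.centralizer ({z} : Set G) = T := by
  have hord : orderOf z ∣ 8 := by
    have := orderOf_dvd_natCard (⟨z, hzT⟩ : (T : Subgroup G))
    rwa [Subgroup.orderOf_mk, (sylow2 h T).1] at this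
  have h1 := card_centralizer_two_elt h z hz1 hord
  have hle : (T : Subgroup G) ≤ Subgroup.centralizer ({z} : Set G) := by
    intro t ht
    rw [Subgroup.mem_centralizer_iff]
    intro y hy
    rw [Set.mem_singleton_iff] at hy
    subst hy
    exact (hzc t ht).symm
  exact (Subgroup.eq_of_le_of_card_ge hle
    (by rw [(sylow2 h T).1]; exact Nat.le_of_dvd (by norm_num) h1)).symm

/-- The centralizer of an element of order 4 has order 4. -/
theorem card_centralizer_order4 (h : Nat.card G = 168) (y : G) (hy : orderOf y = 4) :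
    Nat.card (Subgroup.centralizer ({y} : Set G)) = 4 := by
  have hy1 : y ≠ 1 := by
    intro h1
    rw [h1, orderOf_one] at hy
    omega
  set C := Subgroup.centralizer ({y} : Set G) with hC
  have h8 : Nat.card C ∣ 8 := card_centralizer_two_elt h y hy1 (by rw [hy]; norm_num)
  have hyC : Subgroup.zpowers y ≤ C := by
    rw [Subgroup.zpowers_le, hC, Subgroup.mem_centralizer_iff]
    intro t ht
    rw [Set.mem_singleton_iff] at ht
    rw [ht]
  have h4 : 4 ∣ Nat.card C := by
    have := Subgroup.card_dvd_of_le hyC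
    rwa [Nat.card_zpowers, hy] at this
  have hle : Nat.card C ≤ 8 := Nat.le_of_dvd (by norm_num) h8
  have hcases : Nat.card C = 4 ∨ Nat.card C = 8 := by
    obtain ⟨k, hk⟩ := h4
    have : k = 1 ∨ k = 2 := by
      have hpos : 0 < Nat.card C := Nat.card_pos
      omega
    rcases this with h1 | h1 <;> [left; right] <;> omega
  rcases hcases with h1 | h1
  · exact h1
  · exfalso
    have hCp : IsPGroup 2 C := IsPGroup.of_card (n := 3) (by rw [h1]; norm_num)
    obtain ⟨T, hT⟩ := hCp.exists_le_sylow
    have hTeq : C = T := Subgroup.eq_of_le_of_card_ge hT (by rw [(sylow2 h T).1, h1])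
    obtain ⟨a, ha, b, hb, hab⟩ := sylow2_nonabelian h T
    have hyT : y ∈ (T : Subgroup G) := hTeq ▸ hyC (Subgroup.mem_zpowers y)
    -- y is central in T
    have hycent : (⟨y, hyT⟩ : (T : Subgroup G)) ∈ Subgroup.center (T : Subgroup G) := by
      rw [Subgroup.mem_center_iff]
      intro t
      have ht : (t : G) ∈ C := by rw [hTeq]; exact t.2
      have := (Subgroup.mem_centralizer_iff.mp ht) y (Set.mem_singleton _)
      apply Subtype.ext
      exact this.symm
    have hZ4 : 4 ∣ Nat.card (Subgroup.center (T : Subgroup G)) := by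
      have h2 : Subgroup.zpowers (⟨y, hyT⟩ : (T : Subgroup G)) ≤ Subgroup.center (T : Subgroup G) :=
        Subgroup.zpowers_le.mpr hycent
      have := Subgroup.card_dvd_of_le h2
      rwa [Nat.card_zpowers, Subgroup.orderOf_mk, hy] at this
    have hidx := (Subgroup.center (T : Subgroup G)).card_mul_index
    rw [(sylow2 h T).1] at hidx
    have hq : (Subgroup.center (T : Subgroup G)).index = 1 ∨
        (Subgroup.center (T : Subgroup G)).index = 2 := by
      obtain ⟨k, hk⟩ := hZ4
      rw [hk] at hidx
      have hk0 : k ≠ 0 := by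
        intro h0; rw [h0] at hidx; omega
      have : k * (Subgroup.center (T : Subgroup G)).index = 2 := by
        have : 4 * (k * (Subgroup.center (T : Subgroup G)).index) = 8 := by rw [← hidx]; ring
        omega
      have hd : (Subgroup.center (T : Subgroup G)).index ∣ 2 := Dvd.intro_left k this
      rcases (Nat.dvd_prime (by norm_num : Nat.Prime 2)).mp hd with h3 | h3
      · exact Or.inl h3
      · exact Or.inr h3
    have hcyc : IsCyclic ((T : Subgroup G) ⧸ Subgroup.center (T : Subgroup G)) := by
      rcases hq with h3 | h3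
      · have : Nat.card ((T : Subgroup G) ⧸ Subgroup.center (T : Subgroup G)) = 1 := h3
        haveI : Subsingleton ((T : Subgroup G) ⧸ Subgroup.center (T : Subgroup G)) :=
          (Nat.card_eq_one_iff_unique.mp this).1
        exact isCyclic_of_subsingleton
      · have : Nat.card ((T : Subgroup G) ⧸ Subgroup.center (T : Subgroup G)) = 2 := h3
        exact isCyclic_of_prime_card this
    have hcomm := MonoidHom.isMulCommutative_of_isCyclic_of_ker_le_center
      (QuotientGroup.mk' (Subgroup.center (T : Subgroup G)))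
      (by rw [QuotientGroup.ker_mk'])
    apply hab
    have := hcomm.is_comm.comm (⟨a, ha⟩ : (T : Subgroup G)) ⟨b, hb⟩
    exact congrArg Subtype.val this

/-- A Sylow 2-subgroup contains an element of order 4. -/
theorem exists_order4 (h : Nat.card G = 168) (T : Sylow 2 G) :
    ∃ y ∈ (T : Subgroup G), orderOf y = 4 := by
  by_contra hcon
  push Not at hcon
  have hsq : ∀ a ∈ (T : Subgroup G), a * a = 1 := by
    intro a ha
    have h8 : orderOf a ∣ 8 := by
      have := orderOf_dvd_natCard (⟨a, ha⟩ : (T : Subgroup G))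
      rwa [Subgroup.orderOf_mk, (sylow2 h T).1] at this
    have h2 : orderOf a = 1 ∨ orderOf a = 2 := by
      rcases orders h a with h1 | h1 | h1 | h1 | h1
      · exact Or.inl h1
      · exact Or.inr h1
      · rw [h1] at h8; omega
      · exact absurd h1 (hcon a ha)
      · rw [h1] at h8; omega
    rcases h2 with h1 | h1
    · rw [orderOf_eq_one_iff.mp h1, one_mul]
    · rw [← pow_two, ← h1, pow_orderOf_eq_one]
  obtain ⟨a, ha, b, hb, hab⟩ := sylow2_nonabelian h T
  apply hab
  have h1 := hsq (a * b) ((T : Subgroup G).mul_mem ha hb)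
  have h2 := hsq a ha
  have h3 := hsq b hb
  calc a * b = a * (a * b * (a * b)) * b := by rw [h1, mul_one]
    _ = (a * a) * b * a * (b * b) := by group
    _ = b * a := by rw [h2, h3, one_mul, mul_one]

/-- The conjugacy classes of 2-elements, and the numbers of elements of each order. -/
theorem class_facts (h : Nat.card G = 168) :
    ∃ z y : G, orderOf z = 2 ∧ orderOf y = 4 ∧
      Nat.card {g : G // orderOf g = 2} = 21 ∧ Nat.card {g : G // orderOf g = 4} = 42 ∧
      Nat.card {g : G // orderOf g = 3} = 56 ∧ Nat.card {g : G // orderOf g = 7} = 48 ∧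
      (∀ s : G, orderOf s = 2 → IsConj s z) ∧ (∀ s : G, orderOf s = 4 → IsConj s y) := by
  classical
  haveI : Fintype G := Fintype.ofFinite _
  let O : ℕ → Finset G := fun n => Finset.univ.filter (fun g => orderOf g = n)
  have hOcard : ∀ n : ℕ, Nat.card {g : G // orderOf g = n} = (O n).card := by
    intro n
    rw [Nat.card_eq_fintype_card, Fintype.card_subtype]
  have h7 : (O 7).card = 48 := by
    have := card_orderOf_eq_prime (G := G) (p := 7) (fun Q => (sylow7 h Q).1)
    rw [n7 h] at this
    exact this
  have h3 : (O 3).card = 56 := by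
    have := card_orderOf_eq_prime (G := G) (p := 3) (fun Q => (sylow3 h Q).1)
    rw [n3 h] at this
    exact this
  have h1 : (O 1).card = 1 := by
    have : O 1 = {1} := by
      ext g
      simp [O, orderOf_eq_one_iff]
    rw [this, Finset.card_singleton]
  have hpart : (Finset.univ : Finset G).card =
      ∑ n ∈ ({1, 2, 3, 4, 7} : Finset ℕ), (O n).card := by
    apply Finset.card_eq_sum_card_fiberwise
    intro g _
    rw [Finset.mem_coe]
    simp only [Finset.mem_insert, Finset.mem_singleton]
    exact orders h g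
  have hsum : (O 2).card + (O 4).card = 63 := by
    rw [Finset.card_univ, ← Nat.card_eq_fintype_card, h] at hpart
    rw [Finset.sum_insert (by decide), Finset.sum_insert (by decide), Finset.sum_insert (by decide),
      Finset.sum_insert (by decide), Finset.sum_singleton, h1, h3, h7] at hpart
    omega
  obtain ⟨T⟩ : Nonempty (Sylow 2 G) := inferInstance
  obtain ⟨z, hzT, hz2, hzc⟩ := exists_central_invol h T
  obtain ⟨y, hyT, hy4⟩ := exists_order4 h T
  have hz1 : z ≠ 1 := by
    intro h0
    rw [h0, orderOf_one] at hz2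
    omega
  have hCz : Nat.card (Subgroup.centralizer ({z} : Set G)) = 8 := by
    rw [centralizer_central_invol h T z hzT hz1 hzc, (sylow2 h T).1]
  have hCy := card_centralizer_order4 h y hy4
  have hclz : Nat.card {x : G // IsConj x z} = 21 := by
    have := card_conj_mul_card_centralizer z
    rw [hCz, h] at this
    omega
  have hcly : Nat.card {x : G // IsConj x y} = 42 := by
    have := card_conj_mul_card_centralizer y
    rw [hCy, h] at this
    omega
  let Kz : Finset G := Finset.univ.filter (fun x => IsConj x z)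
  let Ky : Finset G := Finset.univ.filter (fun x => IsConj x y)
  have hKz : Kz.card = 21 := by
    rw [← hclz, Nat.card_eq_fintype_card, Fintype.card_subtype]
  have hKy : Ky.card = 42 := by
    rw [← hcly, Nat.card_eq_fintype_card, Fintype.card_subtype]
  have hordconj : ∀ a b : G, IsConj a b → orderOf a = orderOf b := by
    intro a b hab
    obtain ⟨c, hc⟩ := isConj_iff.mp hab
    rw [← hc, orderOf_conj']
  have hKzsub : Kz ⊆ O 2 := by
    intro x hx
    simp only [Kz, O, Finset.mem_filter, Finset.mem_univ, true_and] at hx ⊢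
    rw [hordconj x z hx, hz2]
  have hKysub : Ky ⊆ O 4 := by
    intro x hx
    simp only [Ky, O, Finset.mem_filter, Finset.mem_univ, true_and] at hx ⊢
    rw [hordconj x y hx, hy4]
  have hle2 := Finset.card_le_card hKzsub
  have hle4 := Finset.card_le_card hKysub
  have hO2 : (O 2).card = 21 := by omega
  have hO4 : (O 4).card = 42 := by omega
  have hKzeq : Kz = O 2 := Finset.eq_of_subset_of_card_le hKzsub (by rw [hO2, hKz])
  have hKyeq : Ky = O 4 := Finset.eq_of_subset_of_card_le hKysub (by rw [hO4, hKy])
  refine ⟨z, y, hz2, hy4, ?_, ?_, ?_, ?_, ?_, ?_⟩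
  · rw [hOcard, hO2]
  · rw [hOcard, hO4]
  · rw [hOcard, h3]
  · rw [hOcard, h7]
  · intro s hs
    have : s ∈ O 2 := by simp [O, hs]
    rw [← hKzeq] at this
    exact (Finset.mem_filter.mp this).2
  · intro s hs
    have : s ∈ O 4 := by simp [O, hs]
    rw [← hKyeq] at this
    exact (Finset.mem_filter.mp this).2

end Cfsg.Agent.helper5.O168
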