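import Mathlib
import Cfsg.Statements.S1004
import Cfsg.Agent.Lib_helper5_O168b
import Cfsg.Agent.Lib_helper1_Dihedral

set_option autoImplicit false
open Cfsg

namespace Cfsg.Agent.S1004

open Cfsg.Agent.helper5 Cfsg.Agent.helper5.O168

/-- Every involution has exactly two square roots. -/
theorem card_sqrt_invol {G : Type*} [Group G] [Fintype G] [DecidableEq G] [IsSimpleGroup G]
    (h : Nat.card G = 168) (u : G) (hu : orderOf u = 2) :
    (Finset.univ.filter (fun w : G => w ^ 2 = u)).card = 2 := by
  classical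
  obtain ⟨z, y, hz, hy, h2, h4, h3, h7, hcz, hcy⟩ := class_facts h
  let A : Finset G := Finset.univ.filter (fun g => orderOf g = 2)
  let B : Finset G := Finset.univ.filter (fun g => orderOf g = 4)
  have hA : A.card = 21 := by
    rw [← h2, Nat.card_eq_fintype_card, Fintype.card_subtype]
  have hB : B.card = 42 := by
    rw [← h4, Nat.card_eq_fintype_card, Fintype.card_subtype]
  have hmaps : ∀ w ∈ B, w ^ 2 ∈ A := by
    intro w hw
    simp only [A, B, Finset.mem_filter, Finset.mem_univ, true_and] at hw ⊢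
    rw [orderOf_pow' _ (by norm_num), hw]
    rfl
  have hfiber := Finset.card_eq_sum_card_fiberwise (f := fun w : G => w ^ 2) (s := B) (t := A)
    (fun w hw => hmaps w hw)
  have hfib_eq : ∀ v ∈ A, B.filter (fun w => w ^ 2 = v) =
      Finset.univ.filter (fun w : G => w ^ 2 = v) := by
    intro v hv
    have hv2 : orderOf v = 2 := (Finset.mem_filter.mp hv).2
    ext w
    simp only [B, Finset.mem_filter, Finset.mem_univ, true_and, and_iff_right_iff_imp]
    intro hw
    have hv1 : v ≠ 1 := by
      intro h0; rw [h0, orderOf_one] at hv2; omega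
    have hw4 : w ^ 4 = 1 := by
      have : w ^ 4 = (w ^ 2) ^ 2 := by rw [← pow_mul]
      rw [this, hw, ← hv2, pow_orderOf_eq_one]
    have hd : orderOf w ∣ 4 := orderOf_dvd_of_pow_eq_one hw4
    have hle : orderOf w ≤ 4 := Nat.le_of_dvd (by norm_num) hd
    have hpos := orderOf_pos w
    have hcases : orderOf w = 1 ∨ orderOf w = 2 ∨ orderOf w = 4 := by
      interval_cases (orderOf w) <;> omega
    rcases hcases with h1 | h1 | h1
    · exfalso
      apply hv1
      rw [← hw, orderOf_eq_one_iff.mp h1, one_pow]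
    · exfalso
      apply hv1
      rw [← hw, ← h1, pow_orderOf_eq_one]
    · exact h1
  have hconj_card : ∀ v ∈ A, (Finset.univ.filter (fun w : G => w ^ 2 = v)).card =
      (Finset.univ.filter (fun w : G => w ^ 2 = u)).card := by
    intro v hv
    have hv2 : orderOf v = 2 := (Finset.mem_filter.mp hv).2
    have hvu : IsConj v u := (hcz v hv2).trans (hcz u hu).symm
    obtain ⟨c, hc⟩ := isConj_iff.mp hvu
    apply Finset.card_nbij' (fun w => c * w * c⁻¹) (fun w => c⁻¹ * w * c)
    · intro w hw
      simp only [Finset.coe_filter, Finset.mem_univ, true_and, Set.mem_setOf_eq] at hw ⊢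
      rw [conj_pow, hw, hc]
    · intro w hw
      simp only [Finset.coe_filter, Finset.mem_univ, true_and, Set.mem_setOf_eq] at hw ⊢
      have : c⁻¹ * w * c = c⁻¹ * w * c⁻¹⁻¹ := by rw [inv_inv]
      rw [this, conj_pow, hw, ← hc]
      group
    · intro w _
      group
    · intro w _
      group
  rw [Finset.sum_congr rfl (fun v hv => by rw [hfib_eq v hv, hconj_card v hv]), Finset.sum_const,
    hA, hB, smul_eq_mul] at hfiber
  omega

/-- A Sylow 2-subgroup has an involution different from any given one. -/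
theorem exists_other_invol {G : Type*} [Group G] [Finite G] [IsSimpleGroup G]
    (h : Nat.card G = 168) (T : Sylow 2 G) (v : G) :
    ∃ s ∈ (T : Subgroup G), orderOf s = 2 ∧ s ≠ v := by
  classical
  haveI : Fintype G := Fintype.ofFinite _
  obtain ⟨z, hzT, hz2, hzc⟩ := exists_central_invol h T
  by_contra hcon
  push Not at hcon
  -- z is the only involution of T
  have hz_eq : z = v := hcon z hzT hz2
  have huniq : ∀ s ∈ (T : Subgroup G), orderOf s = 2 → s = z := by
    intro s hs hs2
    rw [hz_eq]; exact hcon s hs hs2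
  have hsub : ((Finset.univ.filter (fun g : G => g ∈ (T : Subgroup G))).erase 1).erase z ⊆
      Finset.univ.filter (fun w : G => w ^ 2 = z) := by
    intro w hw
    simp only [Finset.mem_erase, Finset.mem_filter, Finset.mem_univ, true_and] at hw ⊢
    obtain ⟨hwz, hw1, hwT⟩ := hw
    have h8 : orderOf w ∣ 8 := by
      have := orderOf_dvd_natCard (⟨w, hwT⟩ : (T : Subgroup G))
      rwa [Subgroup.orderOf_mk, (sylow2 h T).1] at this
    have hw4 : orderOf w = 4 := by
      rcases orders h w with h1 | h1 | h1 | h1 | h1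
      · exact absurd (orderOf_eq_one_iff.mp h1) hw1
      · exact absurd (huniq w hwT h1) hwz
      · rw [h1] at h8; omega
      · exact h1
      · rw [h1] at h8; omega
    apply huniq (w ^ 2) ((T : Subgroup G).pow_mem hwT 2)
    rw [orderOf_pow' _ (by norm_num), hw4]
    rfl
  have hcard : (((Finset.univ.filter (fun g : G => g ∈ (T : Subgroup G))).erase 1).erase z).card
      = 6 := by
    have hz1 : z ≠ 1 := by
      intro h0; rw [h0, orderOf_one] at hz2; omega
    have hTc : (Finset.univ.filter (fun g : G => g ∈ (T : Subgroup G))).card = 8 := by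
      rw [← Fintype.card_subtype, ← Nat.card_eq_fintype_card]
      exact (sylow2 h T).1
    rw [Finset.card_erase_of_mem, Finset.card_erase_of_mem, hTc]
    · simp [(T : Subgroup G).one_mem]
    · simp [hzT, hz1]
  have := Finset.card_le_card hsub
  rw [hcard, card_sqrt_invol h z hz2] at this
  omega

/-- elements of `zpowers y` for `y` of order 4 -/
theorem zpowers_order4_cases {G : Type*} [Group G] (y t : G) (hy : orderOf y = 4)
    (ht : t ∈ Subgroup.zpowers y) : t = 1 ∨ t = y ∨ t = y ^ 2 ∨ t = y⁻¹ := by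
  obtain ⟨k, rfl⟩ := Subgroup.mem_zpowers_iff.mp ht
  rw [← zpow_mod_orderOf, hy]
  have h1 : 0 ≤ k % 4 := Int.emod_nonneg _ (by norm_num)
  have h2 : k % 4 < 4 := Int.emod_lt_of_pos _ (by norm_num)
  have hy4 : y ^ 4 = 1 := by rw [← hy, pow_orderOf_eq_one]
  have hcases : k % ((4 : ℕ) : ℤ) = 0 ∨ k % ((4 : ℕ) : ℤ) = 1 ∨ k % ((4 : ℕ) : ℤ) = 2 ∨
      k % ((4 : ℕ) : ℤ) = 3 := by
    push_cast
    omega
  rcases hcases with h3 | h3 | h3 | h3
  · left; rw [h3, zpow_zero]
  · right; left; rw [h3, zpow_one]
  · right; right; left; rw [h3]; norm_cast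
  · right; right; right
    rw [h3]
    have : y ^ (3 : ℤ) = y ^ 3 := by norm_cast
    rw [this, eq_inv_iff_mul_eq_one, ← pow_succ, hy4]

theorem result {G : Type*} [Group G] [Finite G] [IsSimpleGroup G] (h : Nat.card G = 168) (T : Sylow 2 G) : Nonempty (↥(T : Subgroup G) ≃* DihedralGroup 4) ∧ Subgroup.normalizer ((T : Subgroup G) : Set G) = T ∧ ∀ z : G, z ∈ (T : Subgroup G) → z ≠ 1 → (∀ t ∈ (T : Subgroup G), t * z = z * t) → Subgroup.centralizer ({z} : Set G) = T := by
  refine ⟨?_, normalizer2 h T, fun z hzT hz1 hzc => centralizer_central_invol h T z hzT hz1 hzc⟩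
  obtain ⟨y, hyT, hy4⟩ := exists_order4 h T
  obtain ⟨s, hsT, hs2, hsy⟩ := exists_other_invol h T (y ^ 2)
  have hy1 : y ≠ 1 := by
    intro h0; rw [h0, orderOf_one] at hy4; omega
  have hs1 : s ≠ 1 := by
    intro h0; rw [h0, orderOf_one] at hs2; omega
  have hss : s * s = 1 := by rw [← pow_two, ← hs2, pow_orderOf_eq_one]
  have hsnot : s ∉ Subgroup.zpowers y := by
    intro hmem
    rcases zpowers_order4_cases y s hy4 hmem with h1 | h1 | h1 | h1
    · exact hs1 h1
    · rw [h1, hy4] at hs2; omega
    · exact hsy h1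
    · rw [h1, orderOf_inv, hy4] at hs2; omega
  have hidx : (Subgroup.zpowers (⟨y, hyT⟩ : (T : Subgroup G))).index = 2 := by
    have := (Subgroup.zpowers (⟨y, hyT⟩ : (T : Subgroup G))).card_mul_index
    rw [Nat.card_zpowers, Subgroup.orderOf_mk, hy4, (sylow2 h T).1] at this
    omega
  have hnorm : (Subgroup.zpowers (⟨y, hyT⟩ : (T : Subgroup G))).Normal :=
    Subgroup.normal_of_index_eq_two hidx
  have hconj : s * y * s⁻¹ ∈ Subgroup.zpowers y := by
    have h1 := hnorm.conj_mem ⟨y, hyT⟩ (Subgroup.mem_zpowers _) ⟨s, hsT⟩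
    obtain ⟨k, hk⟩ := Subgroup.mem_zpowers_iff.mp h1
    rw [Subgroup.mem_zpowers_iff]
    refine ⟨k, ?_⟩
    have := congrArg Subtype.val hk
    simpa using this
  have hconj_ord : orderOf (s * y * s⁻¹) = 4 := by rw [orderOf_conj', hy4]
  have hCy : Subgroup.zpowers y = Subgroup.centralizer ({y} : Set G) := by
    apply Subgroup.eq_of_le_of_card_ge
    · rw [Subgroup.zpowers_le, Subgroup.mem_centralizer_iff]
      intro t ht
      rw [Set.mem_singleton_iff] at ht
      rw [ht]
    · rw [card_centralizer_order4 h y hy4, Nat.card_zpowers, hy4]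
  have hinvert : s * y * s⁻¹ = y⁻¹ := by
    rcases zpowers_order4_cases y _ hy4 hconj with h1 | h1 | h1 | h1
    · rw [h1, orderOf_one] at hconj_ord; omega
    · exfalso
      apply hsnot
      rw [hCy, Subgroup.mem_centralizer_iff]
      intro t ht
      rw [Set.mem_singleton_iff] at ht
      subst ht
      calc t * s = (s * t * s⁻¹) * s := by rw [h1]
        _ = s * t := by group
    · rw [h1, orderOf_pow' _ (by norm_num), hy4] at hconj_ord
      norm_num at hconj_ord
    · exact h1
  have hx2 : (s * y) * (s * y) = 1 := by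
    calc s * y * (s * y) = (s * y * s⁻¹) * (s * s) * y := by group
      _ = 1 := by rw [hinvert, hss, mul_one, inv_mul_cancel]
  have hx2ne : s * y ≠ 1 := by
    intro h1
    have h2 : y = s⁻¹ := eq_inv_of_mul_eq_one_right h1
    rw [h2, orderOf_inv, hs2] at hy4
    omega
  have hprod : s * (s * y) = y := by rw [← mul_assoc, hss, one_mul]
  have e := Cfsg.Agent.helper1.dihedralEquiv s (s * y) hss hx2 hs1 hx2ne
  rw [hprod, hy4] at e
  have hcl : Subgroup.closure ({s, s * y} : Set G) = T := by
    have hle : Subgroup.closure ({s, s * y} : Set G) ≤ T := by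
      rw [Subgroup.closure_le]
      intro t ht
      rcases ht with rfl | ht
      · exact hsT
      · rw [Set.mem_singleton_iff] at ht
        rw [ht]
        exact (T : Subgroup G).mul_mem hsT hyT
    apply Subgroup.eq_of_le_of_card_ge hle
    have hsc : s ∈ Subgroup.closure ({s, s * y} : Set G) := Subgroup.subset_closure (by simp)
    have hyc : y ∈ Subgroup.closure ({s, s * y} : Set G) := by
      have h1 : s * (s * y) ∈ Subgroup.closure ({s, s * y} : Set G) :=
        Subgroup.mul_mem _ hsc (Subgroup.subset_closure (by simp))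
      rwa [hprod] at h1
    have hlt : Subgroup.zpowers y < Subgroup.closure ({s, s * y} : Set G) := by
      refine lt_of_le_of_ne (Subgroup.zpowers_le.mpr hyc) ?_
      intro heq
      apply hsnot
      rw [heq]
      exact hsc
    have h4 := card_lt_of_lt hlt
    rw [Nat.card_zpowers, hy4] at h4
    have hd := Subgroup.card_dvd_of_le hle
    rw [(sylow2 h T).1] at hd ⊢
    have hle8 := Nat.le_of_dvd (by norm_num) hd
    obtain ⟨k, hk⟩ := hd
    interval_cases (Nat.card (Subgroup.closure ({s, s * y} : Set G))) <;> omega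
  exact ⟨(MulEquiv.subgroupCongr hcl.symm).trans e.symm⟩

end Cfsg.Agent.S1004
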