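import Mathlib
import Cfsg.Statements.S1005
import Cfsg.Agent.Lib_helper5_O168b

set_option autoImplicit false
open Cfsg

namespace Cfsg.Agent.S1005

open Cfsg.Agent.helper5.O168

theorem result {G : Type*} [Group G] [Finite G] [IsSimpleGroup G] (h : Nat.card G = 168) : (∀ g : G, orderOf g = 1 ∨ orderOf g = 2 ∨ orderOf g = 3 ∨ orderOf g = 4 ∨ orderOf g = 7) ∧ Nat.card {g : G // orderOf g = 2} = 21 ∧ ∀ s t : G, orderOf s = 2 → orderOf t = 2 → IsConj s t := by
  obtain ⟨z, y, hz, hy, h2, h4, h3, h7, hcz, hcy⟩ := class_facts h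
  exact ⟨orders h, h2, fun s t hs ht => (hcz s hs).trans (hcz t ht).symm⟩

end Cfsg.Agent.S1005
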