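import Mathlib
import Cfsg.Statements.S1012
import Cfsg.Agent.Lib_helper5_Sylow
import Cfsg.Agent.Lib_helper5_Simple

set_option autoImplicit false
open Cfsg

namespace Cfsg.Agent.S1012

open Cfsg.Agent.helper5

/-- commuting elements of orders 2 and 3 give an element of order 6 -/
theorem order_six {G : Type*} [Group G] (u x : G) (hu : orderOf u = 2) (hx : orderOf x = 3)
    (hc : u * x = x * u) : orderOf (u * x) = 6 := by
  have h : Commute u x := hc
  rw [h.orderOf_mul_eq_mul_orderOf_of_coprime (by rw [hu, hx]; decide), hu, hx]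

theorem result {G : Type*} [Group G] [Finite G] (h : Nat.card G = 24) (h6 : ∀ g : G, orderOf g ≠ 6) : Nonempty (G ≃* Equiv.Perm (Fin 4)) := by
  classical
  haveI : Fact (Nat.Prime 3) := ⟨by decide⟩
  haveI : Fact (Nat.Prime 2) := ⟨by decide⟩
  let P : Sylow 3 G := default
  have hP := sylow_card_of_card_eq P 1 8 (by rw [h]; norm_num) (by decide)
  have hPcard : Nat.card P = 3 := by simpa using hP.1
  have hcount := sylow_count_facts P
  -- an element of order 3 in P
  obtain ⟨x0, hx0⟩ := exists_prime_orderOf_dvd_card' (G := P) 3 (by rw [hPcard])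
  have hx : orderOf (x0 : G) = 3 := by rw [Subgroup.orderOf_coe]; exact hx0
  have hn : Nat.card (Sylow 3 G) = 1 ∨ Nat.card (Sylow 3 G) = 4 := by
    have h1 := hcount.2.1
    rw [hP.2] at h1
    have h2 := hcount.1
    have h3 : Nat.card (Sylow 3 G) ∈ Nat.divisors 8 := Nat.mem_divisors.mpr ⟨h1, by decide⟩
    have h4 : Nat.divisors 8 = {1, 2, 4, 8} := by decide
    rw [h4] at h3
    simp only [Finset.mem_insert, Finset.mem_singleton] at h3
    rcases h3 with h3 | h3 | h3 | h3
    · exact Or.inl h3
    · rw [h3] at h2; omega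
    · exact Or.inr h3
    · rw [h3] at h2; omega
  rcases hn with hn | hn
  · -- normal Sylow 3-subgroup: an involution centralizes it
    exfalso
    have hnorm : Subgroup.normalizer ((P : Subgroup G) : Set G) = ⊤ := by
      have h1 := hcount.2.2
      rw [hn, one_mul] at h1
      exact Subgroup.eq_top_of_card_eq _ h1
    have key := Subgroup.card_dvd_of_injective _
      (QuotientGroup.kerLift_injective (P : Subgroup G).normalizerMonoidHom)
    rw [Subgroup.normalizerMonoidHom_ker, ← Subgroup.index, ← Subgroup.relIndex] at key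
    haveI : IsCyclic (P : Subgroup G) := isCyclic_of_prime_card hPcard
    rw [IsCyclic.card_mulAut, hPcard, hnorm, Subgroup.relIndex_top_right] at key
    have h2 : Nat.totient 3 = 2 := by decide
    rw [h2] at key
    have h3 := (Subgroup.centralizer ((P : Subgroup G) : Set G)).card_mul_index
    rw [h] at h3
    have h4 : 2 ∣ Nat.card (Subgroup.centralizer ((P : Subgroup G) : Set G)) := by
      rcases (Nat.dvd_prime (by decide : Nat.Prime 2)).mp key with h5 | h5
      · rw [h5] at h3; omega
      · rw [h5] at h3; omega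
    obtain ⟨u0, hu0⟩ := exists_prime_orderOf_dvd_card'
      (G := Subgroup.centralizer ((P : Subgroup G) : Set G)) 2 h4
    have hu : orderOf (u0 : G) = 2 := by rw [Subgroup.orderOf_coe]; exact hu0
    have hc : (u0 : G) * (x0 : G) = (x0 : G) * (u0 : G) :=
      ((Subgroup.mem_centralizer_iff.mp u0.2) (x0 : G) x0.2).symm
    exact h6 _ (order_six _ _ hu hx hc)
  · -- four Sylow 3-subgroups: the action on them is faithful
    let φ : G →* Equiv.Perm (Sylow 3 G) := MulAction.toPermHom G (Sylow 3 G)
    have hker_mem : ∀ g : G, g ∈ φ.ker ↔ ∀ Q : Sylow 3 G, g • Q = Q := by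
      intro g
      rw [MonoidHom.mem_ker]
      constructor
      · intro hg Q
        have := congrArg (fun σ : Equiv.Perm (Sylow 3 G) => σ Q) hg
        simpa [φ] using this
      · intro hg
        apply Equiv.ext
        intro Q
        exact hg Q
    have hNcard : ∀ Q : Sylow 3 G, Nat.card (Subgroup.normalizer ((Q : Subgroup G) : Set G)) = 6 := by
      intro Q
      have h1 := (sylow_count_facts Q).2.2
      rw [hn, h] at h1
      omega
    have hker_le : ∀ Q : Sylow 3 G, φ.ker ≤ Subgroup.normalizer ((Q : Subgroup G) : Set G) := by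
      intro Q g hg
      exact Sylow.smul_eq_iff_mem_normalizer.mp ((hker_mem g).mp hg Q)
    have hdvd : Nat.card φ.ker ∣ 6 := by
      rw [← hNcard P]
      exact Subgroup.card_dvd_of_le (hker_le P)
    have hQcard : ∀ Q : Sylow 3 G, Nat.card Q = 3 := by
      intro Q
      have := (sylow_card_of_card_eq Q 1 8 (by rw [h]; norm_num) (by decide)).1
      simpa using this
    have h3 : ¬ 3 ∣ Nat.card φ.ker := by
      intro h3
      obtain ⟨y0, hy0⟩ := exists_prime_orderOf_dvd_card' (G := φ.ker) 3 h3
      have hy : orderOf (y0 : G) = 3 := by rw [Subgroup.orderOf_coe]; exact hy0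
      have hZp : IsPGroup 3 (Subgroup.zpowers (y0 : G)) :=
        IsPGroup.of_card (n := 1) (by rw [Nat.card_zpowers, hy, pow_one])
      have hfix : ∀ Q : Sylow 3 G, Subgroup.zpowers (y0 : G) = Q := by
        intro Q
        have h1 : Q ∈ MulAction.fixedPoints (Subgroup.zpowers (y0 : G)) (Sylow 3 G) := by
          intro ⟨g, hg⟩
          have hgk : g ∈ φ.ker := by
            obtain ⟨k, rfl⟩ := Subgroup.mem_zpowers_iff.mp hg
            exact φ.ker.zpow_mem y0.2 k
          exact (hker_mem g).mp hgk Q
        have h2 := hZp.sylow_mem_fixedPoints_iff.mp h1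
        exact Subgroup.eq_of_le_of_card_ge h2 (by rw [hQcard Q, Nat.card_zpowers, hy])
      have hsub : Subsingleton (Sylow 3 G) := by
        constructor
        intro Q1 Q2
        apply Sylow.ext
        rw [← hfix Q1, ← hfix Q2]
      have := Nat.card_eq_one_iff_unique.mpr ⟨hsub, ⟨P⟩⟩
      omega
    have h2 : ¬ 2 ∣ Nat.card φ.ker := by
      intro h2
      have hk2 : Nat.card φ.ker = 2 := by
        have h3' : Nat.card φ.ker ∈ Nat.divisors 6 := Nat.mem_divisors.mpr ⟨hdvd, by decide⟩
        have h4 : Nat.divisors 6 = {1, 2, 3, 6} := by decide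
        rw [h4] at h3'
        simp only [Finset.mem_insert, Finset.mem_singleton] at h3'
        rcases h3' with h5 | h5 | h5 | h5
        · rw [h5] at h2; omega
        · exact h5
        · rw [h5] at h3; omega
        · rw [h5] at h3; omega
      obtain ⟨u0, hu0⟩ := exists_prime_orderOf_dvd_card' (G := φ.ker) 2 h2
      have hu : orderOf (u0 : G) = 2 := by rw [Subgroup.orderOf_coe]; exact hu0
      -- u0 is central
      have hcent : ∀ g : G, g * (u0 : G) * g⁻¹ = (u0 : G) := by
        intro g
        have hmem : g * (u0 : G) * g⁻¹ ∈ φ.ker := (inferInstance : φ.ker.Normal).conj_mem _ u0.2 g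
        have hne : (⟨g * (u0 : G) * g⁻¹, hmem⟩ : φ.ker) ≠ 1 := by
          intro h1
          have h2' : g * (u0 : G) * g⁻¹ = 1 := congrArg Subtype.val h1
          have h3' : (u0 : G) = 1 := by
            have : (u0 : G) = g⁻¹ * (g * (u0 : G) * g⁻¹) * g := by group
            rw [this, h2']; group
          rw [h3', orderOf_one] at hu
          omega
        have hu0ne : u0 ≠ 1 := by
          intro h1
          rw [h1, orderOf_one] at hu0
          omega
        -- a group of order 2 has a unique nonidentity element
        have hcard2 : Nat.card φ.ker = 2 := hk2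
        haveI : Fintype φ.ker := Fintype.ofFinite _
        have hF : Fintype.card φ.ker = 2 := by rw [← Nat.card_eq_fintype_card]; exact hcard2
        by_contra hne2
        have hne3 : (⟨g * (u0 : G) * g⁻¹, hmem⟩ : φ.ker) ≠ u0 := fun h1 => hne2 (congrArg Subtype.val h1)
        have : 3 ≤ Fintype.card φ.ker := by
          have hs : ({1, u0, ⟨g * (u0 : G) * g⁻¹, hmem⟩} : Finset φ.ker).card = 3 := by
            rw [Finset.card_insert_of_notMem, Finset.card_insert_of_notMem, Finset.card_singleton]
            · simpa using hne3.symm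
            · simp only [Finset.mem_insert, Finset.mem_singleton, not_or]
              exact ⟨hu0ne.symm, hne.symm⟩
          calc 3 = ({1, u0, ⟨g * (u0 : G) * g⁻¹, hmem⟩} : Finset φ.ker).card := hs.symm
            _ ≤ Fintype.card φ.ker := Finset.card_le_univ _
        omega
      have hc : (u0 : G) * (x0 : G) = (x0 : G) * (u0 : G) := by
        have := hcent (x0 : G)
        calc (u0 : G) * (x0 : G) = ((x0 : G) * (u0 : G) * (x0 : G)⁻¹) * (x0 : G) := by rw [this]
          _ = (x0 : G) * (u0 : G) := by group
      exact h6 _ (order_six _ _ hu hx hc)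
    have hk1 : Nat.card φ.ker = 1 := by
      have h3' : Nat.card φ.ker ∈ Nat.divisors 6 := Nat.mem_divisors.mpr ⟨hdvd, by decide⟩
      have h4 : Nat.divisors 6 = {1, 2, 3, 6} := by decide
      rw [h4] at h3'
      simp only [Finset.mem_insert, Finset.mem_singleton] at h3'
      rcases h3' with h5 | h5 | h5 | h5
      · exact h5
      · rw [h5] at h2; omega
      · rw [h5] at h3; omega
      · rw [h5] at h3; omega
    have hinj : Function.Injective φ := by
      rw [← MonoidHom.ker_eq_bot_iff]
      exact Subgroup.card_eq_one.mp hk1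
    haveI : Fintype (Sylow 3 G) := Fintype.ofFinite _
    haveI : Fintype G := Fintype.ofFinite _
    have hcardS : Fintype.card (Sylow 3 G) = 4 := by rw [← Nat.card_eq_fintype_card]; exact hn
    have hbij : Function.Bijective φ := by
      rw [Fintype.bijective_iff_injective_and_card]
      refine ⟨hinj, ?_⟩
      rw [Fintype.card_perm, hcardS, ← Nat.card_eq_fintype_card, h]
      rfl
    let e1 : G ≃* Equiv.Perm (Sylow 3 G) := MulEquiv.ofBijective φ hbij
    let e2 : Sylow 3 G ≃ Fin 4 := Fintype.equivFinOfCardEq hcardS
    exact ⟨e1.trans e2.permCongrHom⟩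

end Cfsg.Agent.S1012
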