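import Mathlib
import Cfsg.Agent.Lib_helper4_O168a
import Cfsg.Agent.S1004
import Cfsg.Agent.S1005
import Cfsg.Agent.S1012

set_option autoImplicit false
open DihedralGroup

namespace Cfsg.Agent.helper4.O168

/-- Burnside-type lemma: two subgroups normalized by a self-normalizing Sylow subgroup which are
conjugate in `G` are equal. -/
theorem eq_of_conj_of_le_normalizer {G : Type*} [Group G] [Finite G] {p : ℕ} [Fact p.Prime]
    (T : Sylow p G)
    (hNT : Subgroup.normalizer ((T : Subgroup G) : Set G) = T) {U W : Subgroup G}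
    (hU : (T : Subgroup G) ≤ Subgroup.normalizer (U : Set G))
    (hW : (T : Subgroup G) ≤ Subgroup.normalizer (W : Set G)) (g : G)
    (hg : U.map (MulAut.conj g).toMonoidHom = W) : U = W := by
  have hmemW : ∀ x, x ∈ W ↔ g⁻¹ * x * g ∈ U := by
    intro x
    rw [← hg, Subgroup.mem_map_equiv, MulAut.conj_symm_apply]
  have h2 : ((g • T : Sylow p G) : Subgroup G) ≤ Subgroup.normalizer (W : Set G) := by
    intro x hx
    rw [Sylow.coe_subgroup_smul, Subgroup.mem_pointwise_smul_iff_inv_smul_mem, MulAut.smul_def,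
      MulAut.conj_inv_apply] at hx
    have ht := Subgroup.mem_normalizer_iff.mp (hU hx)
    rw [Subgroup.mem_normalizer_iff]
    intro w
    rw [hmemW, hmemW, ht (g⁻¹ * w * g)]
    have : g⁻¹ * x * g * (g⁻¹ * w * g) * (g⁻¹ * x * g)⁻¹ = g⁻¹ * (x * w * x⁻¹) * g := by group
    rw [this]
  obtain ⟨n, hn⟩ := MulAction.exists_smul_eq (Subgroup.normalizer (W : Set G))
    ((g • T).subtype h2) (T.subtype hW)
  simp_rw [Sylow.smul_subtype, Subgroup.smul_def, smul_smul] at hn
  have h3 : (n : G) * g ∈ Subgroup.normalizer ((T : Subgroup G) : Set G) :=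
    Sylow.smul_eq_iff_mem_normalizer.mp (Sylow.subtype_injective hn)
  rw [hNT] at h3
  have h4 := Subgroup.mem_normalizer_iff.mp (hU h3)
  have h5 := Subgroup.mem_normalizer_iff.mp n.2
  ext x
  have a := h4 (((n : G) * g)⁻¹ * x * ((n : G) * g))
  have b := hmemW (g * (((n : G) * g)⁻¹ * x * ((n : G) * g)) * g⁻¹)
  have c := h5 (g * (((n : G) * g)⁻¹ * x * ((n : G) * g)) * g⁻¹)
  have e1 : (n : G) * g * (((n : G) * g)⁻¹ * x * ((n : G) * g)) * ((n : G) * g)⁻¹ = x := by group
  have e2 : g⁻¹ * (g * (((n : G) * g)⁻¹ * x * ((n : G) * g)) * g⁻¹) * g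
      = ((n : G) * g)⁻¹ * x * ((n : G) * g) := by group
  have e3 : (n : G) * (g * (((n : G) * g)⁻¹ * x * ((n : G) * g)) * g⁻¹) * (n : G)⁻¹ = x := by group
  rw [e1] at a
  rw [e2] at b
  rw [e3] at c
  rw [← a, ← b, c]

section
variable {G : Type*} [Group G] [Finite G] [IsSimpleGroup G]

theorem exists_d4_hom (h : Nat.card G = 168) (T : Sylow 2 G) :
    ∃ f : DihedralGroup 4 →* G, Function.Injective f ∧ f.range = (T : Subgroup G) := by
  obtain ⟨⟨e⟩, -, -⟩ := Cfsg.Agent.S1004.result h T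
  refine ⟨(T : Subgroup G).subtype.comp e.symm.toMonoidHom, ?_, ?_⟩
  · exact (Subgroup.subtype_injective _).comp e.symm.injective
  · ext x
    constructor
    · rintro ⟨d, rfl⟩; exact (e.symm d).2
    · intro hx; exact ⟨e ⟨x, hx⟩, by simp⟩

theorem card_sylow2 (h : Nat.card G = 168) (T : Sylow 2 G) : Nat.card (T : Subgroup G) = 8 := by
  obtain ⟨⟨e⟩, -, -⟩ := Cfsg.Agent.S1004.result h T
  rw [Nat.card_congr e.toEquiv, DihedralGroup.nat_card]

theorem le_normalizer_of_K4 (h : Nat.card G = 168) (T : Sylow 2 G) {U : Subgroup G} (hU : K4 U)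
    (hUT : U ≤ (T : Subgroup G)) : (T : Subgroup G) ≤ Subgroup.normalizer (U : Set G) := by
  have h2 : (U.subgroupOf (T : Subgroup G)).index = 2 := by
    have h1 := (U.subgroupOf (T : Subgroup G)).card_mul_index
    rw [Nat.card_congr (Subgroup.subgroupOfEquivOfLe hUT).toEquiv, hU.1, card_sylow2 h T] at h1
    omega
  have := Subgroup.normal_of_index_eq_two h2
  exact (Subgroup.normal_subgroupOf_iff_le_normalizer hUT).mp this

theorem klein_not_conj (h : Nat.card G = 168) (T : Sylow 2 G) {U W : Subgroup G} (hU : K4 U)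
    (hW : K4 W) (hUT : U ≤ (T : Subgroup G)) (hWT : W ≤ (T : Subgroup G)) (g : G)
    (hg : U.map (MulAut.conj g).toMonoidHom = W) : U = W := by
  haveI : Fact (Nat.Prime 2) := ⟨Nat.prime_two⟩
  obtain ⟨-, hNT, -⟩ := Cfsg.Agent.S1004.result h T
  exact eq_of_conj_of_le_normalizer T hNT (le_normalizer_of_K4 h T hU hUT)
    (le_normalizer_of_K4 h T hW hWT) g hg

theorem card_normalizer_K4 (h : Nat.card G = 168) {U : Subgroup G} (hU : K4 U) :
    Nat.card (Subgroup.normalizer (U : Set G)) = 24 := by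
  classical
  haveI : Fact (Nat.Prime 2) := ⟨Nat.prime_two⟩
  have hUp : IsPGroup 2 U := IsPGroup.of_card (n := 2) (by rw [hU.1]; norm_num)
  obtain ⟨T, hUT⟩ := hUp.exists_le_sylow
  obtain ⟨f, hf, hfr⟩ := exists_d4_hom h T
  obtain ⟨-, hNT, hCT⟩ := Cfsg.Agent.S1004.result h T
  set z : G := f (r 2) with hz
  have hzT : z ∈ (T : Subgroup G) := by rw [← hfr]; exact ⟨_, rfl⟩
  have hz1 : z ≠ 1 := fun h0 => d4_r2_ne_one (hf (by rw [← hz, h0, map_one]))
  have hzc : ∀ t ∈ (T : Subgroup G), t * z = z * t := by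
    intro t ht; rw [← hfr] at ht; obtain ⟨d, rfl⟩ := ht
    rw [hz, ← map_mul, ← map_mul, d4_r2_central]
  have hCz : Subgroup.centralizer ({z} : Set G) = T := hCT z hzT hz1 hzc
  have hzU : z ∈ U := by
    rcases (klein_of_d4 f hf U (hfr ▸ hUT)).mp hU with h1 | h1
    · rw [h1]; exact Subgroup.mem_map_of_mem f (by rw [mem_V1]; decide)
    · rw [h1]; exact Subgroup.mem_map_of_mem f (by rw [mem_V2]; decide)
  obtain ⟨u, huU, hu1, huz⟩ : ∃ u ∈ U, u ≠ 1 ∧ u ≠ z := by
    by_contra hcon
    push Not at hcon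
    have hsub : (U : Set G) ⊆ {1, z} := by
      intro u hu
      by_cases h1 : u = 1
      · simp [h1]
      · simp [hcon u hu h1]
    have h1 : Nat.card U ≤ 2 := by
      calc Nat.card U = (U : Set G).ncard := (Nat.card_coe_set_eq _)
        _ ≤ ({1, z} : Set G).ncard := Set.ncard_le_ncard hsub (Set.toFinite _)
        _ = 2 := Set.ncard_pair hz1.symm
    rw [hU.1] at h1; omega
  have hu2 : orderOf u = 2 := orderOf_eq_prime (by rw [pow_two]; exact hU.2 u huU) hu1
  have hz2 : orderOf z = 2 := orderOf_eq_prime (by rw [pow_two]; exact hU.2 z hzU) hz1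
  obtain ⟨-, -, hconj⟩ := Cfsg.Agent.S1005.result h
  obtain ⟨g, hg⟩ := isConj_iff.mp (hconj z u hz2 hu2)
  set T1 : Sylow 2 G := g • T with hT1
  have hmemT1 : ∀ x, x ∈ (T1 : Subgroup G) ↔ g⁻¹ * x * g ∈ (T : Subgroup G) := by
    intro x
    rw [hT1, Sylow.coe_subgroup_smul, Subgroup.mem_pointwise_smul_iff_inv_smul_mem,
      MulAut.smul_def, MulAut.conj_inv_apply]
  obtain ⟨-, -, hCT1⟩ := Cfsg.Agent.S1004.result h T1
  have huT1 : u ∈ (T1 : Subgroup G) := by
    rw [hmemT1, ← hg]
    have : g⁻¹ * (g * z * g⁻¹) * g = z := by group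
    rw [this]; exact hzT
  have huc : ∀ t ∈ (T1 : Subgroup G), t * u = u * t := by
    intro t ht
    have h1 := hzc _ ((hmemT1 t).mp ht)
    rw [← hg]
    calc t * (g * z * g⁻¹) = g * ((g⁻¹ * t * g) * z) * g⁻¹ := by group
      _ = g * (z * (g⁻¹ * t * g)) * g⁻¹ := by rw [h1]
      _ = (g * z * g⁻¹) * t := by group
  have hCu : Subgroup.centralizer ({u} : Set G) = T1 := hCT1 u huT1 hu1 huc
  have hUT1 : U ≤ (T1 : Subgroup G) := by
    rw [← hCu]
    intro x hx
    rw [Subgroup.mem_centralizer_iff]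
    intro y hy
    rw [Set.mem_singleton_iff] at hy
    subst hy
    exact hU.comm huU hx
  have hT1N := le_normalizer_of_K4 h T1 hU hUT1
  have hTN := le_normalizer_of_K4 h T hU hUT
  have hcardT := card_sylow2 h T
  have hcardT1 := card_sylow2 h T1
  have hne : Nat.card (Subgroup.normalizer (U : Set G)) ≠ 8 := by
    intro h8
    have e1 : (T : Subgroup G) = Subgroup.normalizer (U : Set G) :=
      Subgroup.eq_of_le_of_card_ge hTN (by rw [h8, hcardT])
    have e2 : (T1 : Subgroup G) = Subgroup.normalizer (U : Set G) :=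
      Subgroup.eq_of_le_of_card_ge hT1N (by rw [h8, hcardT1])
    have huT : u ∈ (T : Subgroup G) := hUT huU
    rw [← hfr] at huT
    obtain ⟨d, hd⟩ := huT
    have hdc : ∀ x : DihedralGroup 4, x * d = d * x := by
      intro x
      apply hf
      rw [map_mul, map_mul, hd]
      exact huc (f x) (by rw [e2, ← e1, ← hfr]; exact ⟨x, rfl⟩)
    rcases d4_center d hdc with rfl | rfl
    · exact hu1 (by rw [← hd, map_one])
    · exact huz hd.symm
  have hdvd1 : Nat.card (Subgroup.normalizer (U : Set G)) ∣ 168 :=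
    h ▸ Subgroup.card_subgroup_dvd_card _
  have h8dvd : 8 ∣ Nat.card (Subgroup.normalizer (U : Set G)) :=
    hcardT ▸ Subgroup.card_dvd_of_le hTN
  have key := Subgroup.card_dvd_of_injective _
    (QuotientGroup.kerLift_injective U.normalizerMonoidHom)
  rw [Subgroup.normalizerMonoidHom_ker, ← Subgroup.index, ← Subgroup.relIndex] at key
  have hAut : Nat.card (MulAut U) ∣ 24 := by
    have h1 := Subgroup.card_dvd_of_injective (MulAut.toPerm U)
      (fun a b hab => MulEquiv.ext (fun x => by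
        have := congrArg (fun p : Equiv.Perm U => p x) hab
        exact this))
    rw [Nat.card_perm, hU.1] at h1
    exact h1
  have hC : Subgroup.centralizer (U : Set G) ≤ (T : Subgroup G) := by
    rw [← hCz]; exact Subgroup.centralizer_le (Set.singleton_subset_iff.mpr hzU)
  have hCN : Subgroup.centralizer (U : Set G) ≤ Subgroup.normalizer (U : Set G) :=
    Subgroup.centralizer_le_normalizer _
  have hCcard : Nat.card (Subgroup.centralizer (U : Set G)) ∣ 8 :=
    hcardT ▸ Subgroup.card_dvd_of_le hC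
  have hmul := ((Subgroup.centralizer (U : Set G)).subgroupOf
    (Subgroup.normalizer (U : Set G))).card_mul_index
  rw [Nat.card_congr (Subgroup.subgroupOfEquivOfLe hCN).toEquiv] at hmul
  have h192 : Nat.card (Subgroup.normalizer (U : Set G)) ∣ 192 := by
    rw [← hmul]
    exact (Nat.mul_dvd_mul hCcard (key.trans hAut))
  have h24 : Nat.card (Subgroup.normalizer (U : Set G)) ∣ 24 := Nat.dvd_gcd hdvd1 h192
  have hmem : Nat.card (Subgroup.normalizer (U : Set G)) ∈ Nat.divisors 24 :=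
    Nat.mem_divisors.mpr ⟨h24, by norm_num⟩
  have hdiv : Nat.divisors 24 = {1, 2, 3, 4, 6, 8, 12, 24} := by decide
  rw [hdiv] at hmem
  simp only [Finset.mem_insert, Finset.mem_singleton] at hmem
  rcases hmem with h0 | h0 | h0 | h0 | h0 | h0 | h0 | h0 <;> first | exact h0 | (rw [h0] at h8dvd hne; omega)

theorem normalizer_K4_iso (h : Nat.card G = 168) {U : Subgroup G} (hU : K4 U) :
    Nonempty (↥(Subgroup.normalizer (U : Set G)) ≃* Equiv.Perm (Fin 4)) := by
  apply Cfsg.Agent.S1012.result (card_normalizer_K4 h hU)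
  intro g hg
  have := (Cfsg.Agent.S1005.result h).1 (g : G)
  rw [Subgroup.orderOf_coe] at this
  omega

end

end Cfsg.Agent.helper4.O168
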