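import Mathlib
import Cfsg.Agent.Lib_helper4_O168b
import Cfsg.Agent.Lib_helper5_O168b

set_option autoImplicit false
open DihedralGroup

namespace Cfsg.Agent.helper4.O168

open Cfsg.Agent.helper5 Cfsg.Agent.helper5.O168

/-! ### generalities -/

theorem map_conj_eq_of_mem_normalizer {G : Type*} [Group G] {U : Subgroup G} {g : G}
    (hg : g ∈ Subgroup.normalizer (U : Set G)) : U.map (MulAut.conj g).toMonoidHom = U := by
  ext x
  rw [Subgroup.mem_map_equiv, MulAut.conj_symm_apply]
  have := (Subgroup.mem_normalizer_iff.mp hg) (g⁻¹ * x * g)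
  rw [this]
  have e : g * (g⁻¹ * x * g) * g⁻¹ = x := by group
  rw [e]

theorem mem_normalizer_of_map_conj_eq {G : Type*} [Group G] {U : Subgroup G} {g : G}
    (hg : U.map (MulAut.conj g).toMonoidHom = U) : g ∈ Subgroup.normalizer (U : Set G) := by
  rw [Subgroup.mem_normalizer_iff]
  intro h
  constructor
  · intro hh
    rw [← hg]
    exact ⟨h, hh, rfl⟩
  · intro hh
    rw [← hg] at hh
    obtain ⟨n, hn, hne⟩ := hh
    have : n = h := (MulAut.conj g).injective hne
    exact this ▸ hn

theorem normalizer_map_conj {G : Type*} [Group G] (U : Subgroup G) (g : G) :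
    (Subgroup.normalizer (U : Set G)).map (MulAut.conj g).toMonoidHom =
      Subgroup.normalizer ((U.map (MulAut.conj g).toMonoidHom : Subgroup G) : Set G) := by
  ext x
  rw [Subgroup.mem_map_equiv, MulAut.conj_symm_apply, Subgroup.mem_normalizer_iff,
    Subgroup.mem_normalizer_iff]
  constructor
  · intro hx h
    rw [Subgroup.mem_map_equiv, Subgroup.mem_map_equiv, MulAut.conj_symm_apply,
      MulAut.conj_symm_apply, hx (g⁻¹ * h * g)]
    have e : g⁻¹ * x * g * (g⁻¹ * h * g) * (g⁻¹ * x * g)⁻¹ = g⁻¹ * (x * h * x⁻¹) * g := by group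
    rw [e]
  · intro hx h
    have := hx (g * h * g⁻¹)
    rw [Subgroup.mem_map_equiv, Subgroup.mem_map_equiv, MulAut.conj_symm_apply,
      MulAut.conj_symm_apply] at this
    have e1 : g⁻¹ * (g * h * g⁻¹) * g = h := by group
    have e2 : g⁻¹ * (x * (g * h * g⁻¹) * x⁻¹) * g = g⁻¹ * x * g * h * (g⁻¹ * x * g)⁻¹ := by group
    rw [e1, e2] at this
    exact this

/-- A subgroup normalizes the image of any of its normal subgroups. -/
theorem le_normalizer_map_subtype {G : Type*} [Group G] (M : Subgroup G) (Q : Subgroup M)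
    [hQ : Q.Normal] : M ≤ Subgroup.normalizer ((Q.map M.subtype : Subgroup G) : Set G) := by
  intro g hg
  apply mem_normalizer_of_map_conj_eq
  ext x
  rw [Subgroup.mem_map_equiv, MulAut.conj_symm_apply]
  constructor
  · rintro ⟨q, hq, hqx⟩
    have h1 : (⟨g, hg⟩ : M) * q * (⟨g, hg⟩ : M)⁻¹ ∈ Q := hQ.conj_mem q hq _
    refine ⟨_, h1, ?_⟩
    simp only [Subgroup.coe_subtype, Subgroup.coe_mul, Subgroup.coe_inv] at hqx ⊢
    rw [hqx]; group
  · rintro ⟨q, hq, hqx⟩
    have h1 : (⟨g, hg⟩ : M)⁻¹ * q * ((⟨g, hg⟩ : M)⁻¹)⁻¹ ∈ Q := hQ.conj_mem q hq _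
    refine ⟨_, h1, ?_⟩
    simp only [Subgroup.coe_subtype, Subgroup.coe_mul, Subgroup.coe_inv] at hqx ⊢
    rw [hqx]; group

/-- An element of prime order `p` with `p² > |M|` generates a normal subgroup of `M`. -/
theorem le_normalizer_zpowers_of_sq_gt {G : Type*} [Group G] [Finite G] (M : Subgroup G) (x : G)
    (hx : x ∈ M) (p : ℕ) [hp : Fact p.Prime] (hox : orderOf x = p) (hlt : Nat.card M < p * p) :
    M ≤ Subgroup.normalizer ((Subgroup.zpowers x : Subgroup G) : Set G) := by
  intro g hg
  apply mem_normalizer_of_map_conj_eq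
  set P : Subgroup G := Subgroup.zpowers x with hP
  set P' : Subgroup G := P.map (MulAut.conj g).toMonoidHom with hP'
  have hPcard : Nat.card P = p := by rw [hP, Nat.card_zpowers, hox]
  have hP'card : Nat.card P' = p := by
    rw [hP', Subgroup.card_map_of_injective (MulAut.conj g).injective, hPcard]
  have hPM : P ≤ M := by rw [hP, Subgroup.zpowers_le]; exact hx
  have hP'M : P' ≤ M := by
    rintro _ ⟨a, ha, rfl⟩
    exact M.mul_mem (M.mul_mem hg (hPM ha)) (M.inv_mem hg)
  by_contra hne
  have hdisj : P ⊓ P' = ⊥ := by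
    have h1 : Nat.card (P ⊓ P' : Subgroup G) ∣ p := hPcard ▸ Subgroup.card_dvd_of_le inf_le_left
    rcases (Nat.dvd_prime hp.out).mp h1 with h2 | h2
    · exact Subgroup.card_eq_one.mp h2
    · exfalso
      have e1 : (P ⊓ P' : Subgroup G) = P :=
        Subgroup.eq_of_le_of_card_ge inf_le_left (by rw [h2, hPcard])
      have e2 : (P ⊓ P' : Subgroup G) = P' :=
        Subgroup.eq_of_le_of_card_ge inf_le_right (by rw [h2, hP'card])
      exact hne (e2.symm.trans e1)
  have hinj := Subgroup.mul_injective_of_disjoint (disjoint_iff.mpr hdisj)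
  let φ : P × P' → M := fun ab => ⟨(ab.1 : G) * (ab.2 : G), M.mul_mem (hPM ab.1.2) (hP'M ab.2.2)⟩
  have hφ : Function.Injective φ := by
    intro a b hab
    apply hinj
    exact congrArg Subtype.val hab
  have := Nat.card_le_card_of_injective φ hφ
  rw [Nat.card_prod, hPcard, hP'card] at this
  omega

/-- A group of order 12 without elements of order 6 has a normal subgroup of order 4. -/
theorem normal_four_of_card_twelve {X : Type*} [Group X] [Finite X] (h12 : Nat.card X = 12)
    (h6 : ∀ g : X, orderOf g ≠ 6) : ∃ Q : Subgroup X, Q.Normal ∧ Nat.card Q = 4 := by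
  classical
  haveI : Fact (Nat.Prime 3) := ⟨Nat.prime_three⟩
  haveI : Fact (Nat.Prime 2) := ⟨Nat.prime_two⟩
  let P : Sylow 3 X := default
  have hP := sylow_card_of_card_eq P 1 4 (by rw [h12]; norm_num) (by decide)
  have hPcard : Nat.card P = 3 := by simpa using hP.1
  obtain ⟨hmod, hdvd, hmul⟩ := sylow_count_facts P
  rw [hP.2] at hdvd
  rw [h12] at hmul
  have hn : Nat.card (Sylow 3 X) = 1 ∨ Nat.card (Sylow 3 X) = 4 := by
    have hle : Nat.card (Sylow 3 X) ≤ 4 := Nat.le_of_dvd (by norm_num) hdvd
    have hpos : 0 < Nat.card (Sylow 3 X) := Nat.card_pos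
    interval_cases (Nat.card (Sylow 3 X)) <;> simp_all
  have : IsCyclic (P : Subgroup X) := isCyclic_of_prime_card hPcard
  have hPle : (P : Subgroup X) ≤ Subgroup.centralizer ((P : Subgroup X) : Set X) := by
    intro a ha
    rw [Subgroup.mem_centralizer_iff]
    intro b hb
    have := (IsCyclic.isMulCommutative (α := (P : Subgroup X))).is_comm.comm ⟨b, hb⟩ ⟨a, ha⟩
    exact congrArg Subtype.val this
  rcases hn with hn | hn
  · exfalso
    rw [hn, one_mul] at hmul
    have key := Subgroup.card_dvd_of_injective _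
      (QuotientGroup.kerLift_injective (P : Subgroup X).normalizerMonoidHom)
    rw [Subgroup.normalizerMonoidHom_ker, ← Subgroup.index, ← Subgroup.relIndex] at key
    rw [IsCyclic.card_mulAut, hPcard] at key
    have h2 : Nat.totient 3 = 2 := by decide
    rw [h2] at key
    have hCN : Subgroup.centralizer ((P : Subgroup X) : Set X) ≤
        Subgroup.normalizer ((P : Subgroup X) : Set X) := Subgroup.centralizer_le_normalizer _
    have h3 := ((Subgroup.centralizer ((P : Subgroup X) : Set X)).subgroupOf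
      (Subgroup.normalizer ((P : Subgroup X) : Set X))).card_mul_index
    rw [Nat.card_congr (Subgroup.subgroupOfEquivOfLe hCN).toEquiv, hmul] at h3
    change _ * (Subgroup.centralizer ((P : Subgroup X) : Set X)).relIndex _ = 12 at h3
    have h4 : 2 ∣ Nat.card (Subgroup.centralizer ((P : Subgroup X) : Set X)) := by
      rcases (Nat.dvd_prime Nat.prime_two).mp key with h5 | h5
      · rw [h5] at h3; omega
      · rw [h5] at h3; omega
    obtain ⟨u0, hu0⟩ := exists_prime_orderOf_dvd_card'
      (G := Subgroup.centralizer ((P : Subgroup X) : Set X)) 2 h4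
    obtain ⟨x0, hx0⟩ := exists_prime_orderOf_dvd_card' (G := (P : Subgroup X)) 3 (by rw [hPcard])
    have hu : orderOf (u0 : X) = 2 := by rw [Subgroup.orderOf_coe]; exact hu0
    have hx : orderOf (x0 : X) = 3 := by rw [Subgroup.orderOf_coe]; exact hx0
    have hc : Commute (u0 : X) (x0 : X) :=
      ((Subgroup.mem_centralizer_iff.mp u0.2) (x0 : X) x0.2).symm
    have := hc.orderOf_mul_eq_mul_orderOf_of_coprime (by rw [hu, hx]; decide)
    rw [hu, hx] at this
    exact h6 _ this
  · rw [hn] at hmul
    have hNcard : Nat.card (Subgroup.normalizer ((P : Subgroup X) : Set X)) = 3 := by omega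
    have hNP : Subgroup.normalizer ((P : Subgroup X) : Set X) = P :=
      (Subgroup.eq_of_le_of_card_ge Subgroup.le_normalizer (by rw [hNcard, hPcard])).symm
    have hNC : Subgroup.normalizer ((P : Subgroup X) : Set X) ≤
        Subgroup.centralizer ((P : Subgroup X) : Set X) := by rw [hNP]; exact hPle
    have hcomp := MonoidHom.ker_transferSylow_isComplement' P hNC
    refine ⟨(MonoidHom.transferSylow P hNC).ker, inferInstance, ?_⟩
    have := hcomp.card_mul
    rw [hPcard, h12] at this
    omega

end Cfsg.Agent.helper4.O168
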