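import Mathlib
import Cfsg.Agent.Lib_helper4_O168c

set_option autoImplicit false
open DihedralGroup

namespace Cfsg.Agent.helper4.O168

open Cfsg.Agent.helper5 Cfsg.Agent.helper5.O168

/-! ### the normal Klein four-subgroup of `S₄` -/

def s4v : Finset (Equiv.Perm (Fin 4)) :=
  {1, Equiv.swap 0 1 * Equiv.swap 2 3, Equiv.swap 0 2 * Equiv.swap 1 3,
    Equiv.swap 0 3 * Equiv.swap 1 2}

theorem s4v_mul : ∀ a b : Equiv.Perm (Fin 4), a ∈ s4v → b ∈ s4v → a * b ∈ s4v := by decide +kernel
theorem s4v_inv : ∀ a : Equiv.Perm (Fin 4), a ∈ s4v → a⁻¹ ∈ s4v := by decide +kernel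
theorem s4v_sq : ∀ a : Equiv.Perm (Fin 4), a ∈ s4v → a * a = 1 := by decide +kernel
theorem s4v_conj : ∀ g a : Equiv.Perm (Fin 4), a ∈ s4v → g * a * g⁻¹ ∈ s4v := by decide +kernel
theorem s4v_card : s4v.card = 4 := by decide +kernel

def V4S : Subgroup (Equiv.Perm (Fin 4)) where
  carrier := {x | x ∈ s4v}
  mul_mem' := fun {a b} ha hb => s4v_mul a b ha hb
  one_mem' := by decide
  inv_mem' := fun {a} ha => s4v_inv a ha

instance V4S_normal : V4S.Normal := ⟨fun a ha g => s4v_conj g a ha⟩

theorem K4_V4S : K4 V4S := by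
  refine ⟨?_, fun x hx => s4v_sq x hx⟩
  have : Nat.card V4S = Nat.card s4v := Nat.card_congr (Equiv.subtypeEquivRight (fun x => Iff.rfl))
  rw [this, Nat.card_eq_fintype_card, Fintype.card_coe, s4v_card]

theorem s4_invert : ∃ y s : Equiv.Perm (Fin 4), orderOf y = 3 ∧ orderOf s = 2 ∧
    s * y * s⁻¹ = y⁻¹ := by
  refine ⟨Equiv.swap 0 1 * Equiv.swap 1 2, Equiv.swap 0 1, ?_, ?_, ?_⟩
  · haveI : Fact (Nat.Prime 3) := ⟨Nat.prime_three⟩
    exact orderOf_eq_prime (by decide +kernel) (by decide +kernel)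
  · haveI : Fact (Nat.Prime 2) := ⟨Nat.prime_two⟩
    exact orderOf_eq_prime (by decide +kernel) (by decide +kernel)
  · decide +kernel

section
variable {G : Type*} [Group G] [Finite G] [IsSimpleGroup G]

theorem isCoatom_of_card24 (h : Nat.card G = 168) (K : Subgroup G) (hK : Nat.card K = 24) :
    IsCoatom K := by
  refine ⟨ne_top_of_card h K (by rw [hK]; norm_num), fun b hb => ?_⟩
  by_contra hne
  have h1 := card_le_of_ne_top h b hne
  have h2 := card_lt_of_lt hb
  omega

/-- Every 2-subgroup lies in a subgroup of order 24. -/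
theorem exists_card24_ge_of_two_group (h : Nat.card G = 168) (M : Subgroup G)
    (hM : IsPGroup 2 M) : ∃ K : Subgroup G, Nat.card K = 24 ∧ M ≤ K := by
  haveI : Fact (Nat.Prime 2) := ⟨Nat.prime_two⟩
  obtain ⟨T, hMT⟩ := hM.exists_le_sylow
  obtain ⟨f, hf, hfr⟩ := exists_d4_hom h T
  have hU : K4 (V1.map f) := (K4_map f hf V1).mpr K4_V1
  have hUT : V1.map f ≤ (T : Subgroup G) := by rw [← hfr]; exact Subgroup.map_le_range _ _
  exact ⟨_, card_normalizer_K4 h hU, hMT.trans (le_normalizer_of_K4 h T hU hUT)⟩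

/-- A subgroup of order 12 lies in a subgroup of order 24. -/
theorem exists_card24_ge_of_card12 (h : Nat.card G = 168) (M : Subgroup G)
    (hM : Nat.card M = 12) : ∃ K : Subgroup G, Nat.card K = 24 ∧ M ≤ K := by
  classical
  have h6 : ∀ g : M, orderOf g ≠ 6 := by
    intro g hg
    have := orders h (g : G)
    rw [Subgroup.orderOf_coe] at this
    omega
  obtain ⟨Q, hQn, hQ4⟩ := normal_four_of_card_twelve hM h6
  set Q' : Subgroup G := Q.map M.subtype with hQ'
  have hQ'card : Nat.card Q' = 4 := by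
    rw [hQ', Subgroup.card_map_of_injective (Subgroup.subtype_injective M), hQ4]
  have hMN : M ≤ Subgroup.normalizer (Q' : Set G) := le_normalizer_map_subtype M Q
  have hK4 : K4 Q' := by
    refine ⟨hQ'card, ?_⟩
    by_contra hcon
    push Not at hcon
    obtain ⟨c, hcQ, hcc⟩ := hcon
    have hc1 : c ≠ 1 := by rintro rfl; exact hcc (mul_one 1)
    have hord4 : orderOf c ∣ 4 := by
      have := orderOf_dvd_natCard (⟨c, hcQ⟩ : Q')
      rwa [hQ'card, ← Subgroup.orderOf_coe] at this
    have hord : orderOf c = 4 := by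
      have h1 : orderOf c ≠ 1 := by rwa [Ne, orderOf_eq_one_iff]
      have h2 : orderOf c ≠ 2 := by
        intro h2
        apply hcc
        rw [← pow_two, ← h2, pow_orderOf_eq_one]
      have hle : orderOf c ≤ 4 := Nat.le_of_dvd (by norm_num) hord4
      have hpos := orderOf_pos c
      interval_cases (orderOf c) <;> simp_all
    have hzp : Subgroup.zpowers c = Q' :=
      Subgroup.eq_of_le_of_card_ge (by rw [Subgroup.zpowers_le]; exact hcQ)
        (by rw [Nat.card_zpowers, hord, hQ'card])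
    have hcyc : IsCyclic Q' := by rw [← hzp]; infer_instance
    have key := Subgroup.card_dvd_of_injective _
      (QuotientGroup.kerLift_injective Q'.normalizerMonoidHom)
    rw [Subgroup.normalizerMonoidHom_ker, ← Subgroup.index, ← Subgroup.relIndex,
      IsCyclic.card_mulAut, hQ'card] at key
    have h2 : Nat.totient 4 = 2 := by decide
    rw [h2] at key
    have hCc : Subgroup.centralizer (Q' : Set G) ≤ Subgroup.centralizer ({c} : Set G) :=
      Subgroup.centralizer_le (Set.singleton_subset_iff.mpr hcQ)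
    have h8 : Nat.card (Subgroup.centralizer ({c} : Set G)) ∣ 8 :=
      card_centralizer_two_elt h c hc1 (hord ▸ (by norm_num : 4 ∣ 8))
    have hC8 : Nat.card (Subgroup.centralizer (Q' : Set G)) ∣ 8 :=
      (Subgroup.card_dvd_of_le hCc).trans h8
    have hCN : Subgroup.centralizer (Q' : Set G) ≤ Subgroup.normalizer (Q' : Set G) :=
      Subgroup.centralizer_le_normalizer _
    have hmul := ((Subgroup.centralizer (Q' : Set G)).subgroupOf
      (Subgroup.normalizer (Q' : Set G))).card_mul_index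
    rw [Nat.card_congr (Subgroup.subgroupOfEquivOfLe hCN).toEquiv] at hmul
    have h16 : Nat.card (Subgroup.normalizer (Q' : Set G)) ∣ 16 := by
      rw [← hmul]; exact Nat.mul_dvd_mul hC8 key
    have h12 : 12 ∣ Nat.card (Subgroup.normalizer (Q' : Set G)) :=
      hM ▸ Subgroup.card_dvd_of_le hMN
    have := h12.trans h16
    omega
  exact ⟨_, card_normalizer_K4 h hK4, hMN⟩

end

end Cfsg.Agent.helper4.O168
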