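import Mathlib
import Cfsg.Agent.Lib_helper4_O168d

set_option autoImplicit false
open DihedralGroup

namespace Cfsg.Agent.helper4.O168

open Cfsg.Agent.helper5 Cfsg.Agent.helper5.O168

theorem sylow_coe_smul_eq_map {G : Type*} [Group G] {p : ℕ} (g : G) (P : Sylow p G) :
    ((g • P : Sylow p G) : Subgroup G) = (P : Subgroup G).map (MulAut.conj g).toMonoidHom := by
  rw [Sylow.coe_subgroup_smul]
  rfl

section
variable {G : Type*} [Group G] [Finite G] [IsSimpleGroup G]

/-- The normalizer of a Sylow 3-subgroup lies in a subgroup of order 24. -/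
theorem exists_card24_ge_normalizer3 (h : Nat.card G = 168) (P : Sylow 3 G) :
    ∃ K : Subgroup G, Nat.card K = 24 ∧ Subgroup.normalizer ((P : Subgroup G) : Set G) ≤ K := by
  have : Fact (Nat.Prime 2) := ⟨Nat.prime_two⟩
  have : Fact (Nat.Prime 3) := ⟨Nat.prime_three⟩
  obtain ⟨T⟩ : Nonempty (Sylow 2 G) := inferInstance
  obtain ⟨f, hf, hfr⟩ := exists_d4_hom h T
  have hU : K4 (V1.map f) := (K4_map f hf V1).mpr K4_V1
  set N := Subgroup.normalizer ((V1.map f : Subgroup G) : Set G) with hN
  have hNcard : Nat.card N = 24 := card_normalizer_K4 h hU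
  obtain ⟨e⟩ := normalizer_K4_iso h hU
  obtain ⟨y, s, hy, hs, hys⟩ := s4_invert
  have hoy : orderOf ((e.symm y : N) : G) = 3 := by
    rw [Subgroup.orderOf_coe, MulEquiv.orderOf_eq, hy]
  have hos : orderOf ((e.symm s : N) : G) = 2 := by
    rw [Subgroup.orderOf_coe, MulEquiv.orderOf_eq, hs]
  have hrel : ((e.symm s : N) : G) * ((e.symm y : N) : G) * ((e.symm s : N) : G)⁻¹ =
      ((e.symm y : N) : G)⁻¹ := by
    have := congrArg (fun z => ((e.symm z : N) : G)) hys
    simp only [map_mul, map_inv, Subgroup.coe_mul, Subgroup.coe_inv] at this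
    exact this
  set y' : G := ((e.symm y : N) : G) with hy'
  set s' : G := ((e.symm s : N) : G) with hs'
  have hy'N : y' ∈ N := (e.symm y).2
  have hs'N : s' ∈ N := (e.symm s).2
  obtain ⟨R, hR⟩ := exists_sylow_eq_zpowers (fun P => (sylow3 h P).1) y' hoy
  have hy'R : y' ∈ Subgroup.normalizer ((R : Subgroup G) : Set G) :=
    Subgroup.le_normalizer (by rw [hR]; exact Subgroup.mem_zpowers y')
  have hs'R : s' ∈ Subgroup.normalizer ((R : Subgroup G) : Set G) := by
    apply mem_normalizer_of_map_conj_eq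
    rw [hR, MonoidHom.map_zpowers]
    have : (MulAut.conj s').toMonoidHom y' = y'⁻¹ := by
      simp only [MulEquiv.toMonoidHom_eq_coe, MonoidHom.coe_coe, MulAut.conj_apply]
      exact hrel
    rw [this, Subgroup.zpowers_inv]
  set J : Subgroup G := Subgroup.normalizer ((R : Subgroup G) : Set G) ⊓ N with hJ
  have hy'J : y' ∈ J := ⟨hy'R, hy'N⟩
  have hs'J : s' ∈ J := ⟨hs'R, hs'N⟩
  have h3 : 3 ∣ Nat.card J := by
    have := orderOf_dvd_natCard (⟨y', hy'J⟩ : J)
    rwa [Subgroup.orderOf_mk, hoy] at this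
  have h2 : 2 ∣ Nat.card J := by
    have := orderOf_dvd_natCard (⟨s', hs'J⟩ : J)
    rwa [Subgroup.orderOf_mk, hos] at this
  have h6 : 6 ∣ Nat.card J := Nat.Coprime.mul_dvd_of_dvd_of_dvd (by norm_num) h2 h3
  have hJR : J = Subgroup.normalizer ((R : Subgroup G) : Set G) := by
    apply Subgroup.eq_of_le_of_card_ge inf_le_left
    rw [card_normalizer3 h R]
    exact Nat.le_of_dvd Nat.card_pos h6
  have hRN : Subgroup.normalizer ((R : Subgroup G) : Set G) ≤ N := by
    rw [← hJR]; exact inf_le_right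
  obtain ⟨g, hg⟩ := MulAction.exists_smul_eq G R P
  refine ⟨N.map (MulAut.conj g).toMonoidHom, ?_, ?_⟩
  · rw [Subgroup.card_map_of_injective (MulAut.conj g).injective, hNcard]
  · rw [← hg, sylow_coe_smul_eq_map, ← normalizer_map_conj]
    exact Subgroup.map_mono hRN

/-- A subgroup isomorphic to `S₄` is the normalizer of a Klein four-subgroup. -/
theorem eq_normalizer_of_iso_s4 (h : Nat.card G = 168) (M : Subgroup G)
    (e : M ≃* Equiv.Perm (Fin 4)) :
    ∃ U : Subgroup G, K4 U ∧ M = Subgroup.normalizer (U : Set G) := by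
  set Q : Subgroup M := V4S.comap e.toMonoidHom with hQ
  haveI : Q.Normal := V4S_normal.comap _
  have hQK : K4 Q := by
    have : Q = V4S.map e.symm.toMonoidHom := by
      rw [hQ]; exact Subgroup.comap_equiv_eq_map_symm e V4S
    rw [this, K4_map _ e.symm.injective]
    exact K4_V4S
  have hUK : K4 (Q.map M.subtype) := (K4_map _ (Subgroup.subtype_injective M) Q).mpr hQK
  refine ⟨Q.map M.subtype, hUK, ?_⟩
  apply Subgroup.eq_of_le_of_card_ge (le_normalizer_map_subtype M Q)
  rw [card_normalizer_K4 h hUK, Nat.card_congr e.toEquiv, Nat.card_perm]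
  simp [Nat.factorial]

/-- A Klein four-subgroup is determined by its normalizer. -/
theorem K4_eq_of_normalizer_eq (h : Nat.card G = 168) {U W : Subgroup G} (hU : K4 U) (hW : K4 W)
    (hN : Subgroup.normalizer (W : Set G) = Subgroup.normalizer (U : Set G)) : W = U := by
  have : Fact (Nat.Prime 2) := ⟨Nat.prime_two⟩
  by_contra hne
  have hUp : IsPGroup 2 U := IsPGroup.of_card (n := 2) (by rw [hU.1]; norm_num)
  have hWp : IsPGroup 2 W := IsPGroup.of_card (n := 2) (by rw [hW.1]; norm_num)
  have hUW : U ≤ Subgroup.normalizer (W : Set G) := by rw [hN]; exact Subgroup.le_normalizer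
  have hS : IsPGroup 2 (U ⊔ W : Subgroup G) := IsPGroup.to_sup_of_normal_right' hUp hWp hUW
  obtain ⟨T, hST⟩ := hS.exists_le_sylow
  have hcardS : Nat.card (U ⊔ W : Subgroup G) = 8 := by
    have h1 : Nat.card (U ⊔ W : Subgroup G) ∣ 8 := by
      rw [← card_sylow2 h T]; exact Subgroup.card_dvd_of_le hST
    have h2 : 4 < Nat.card (U ⊔ W : Subgroup G) := by
      by_contra hle
      push Not at hle
      have e1 : U = U ⊔ W := Subgroup.eq_of_le_of_card_ge le_sup_left (by rw [hU.1]; exact hle)
      have e2 : W = U ⊔ W := Subgroup.eq_of_le_of_card_ge le_sup_right (by rw [hW.1]; exact hle)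
      exact hne (e2.trans e1.symm)
    have h3 : Nat.card (U ⊔ W : Subgroup G) ≤ 8 := Nat.le_of_dvd (by norm_num) h1
    interval_cases (Nat.card (U ⊔ W : Subgroup G)) <;> simp_all
  have hST' : (U ⊔ W : Subgroup G) = T :=
    Subgroup.eq_of_le_of_card_ge hST (by rw [hcardS, card_sylow2 h T])
  have hNT : Subgroup.normalizer (U : Set G) ≤ Subgroup.normalizer ((T : Subgroup G) : Set G) := by
    intro n hn
    apply mem_normalizer_of_map_conj_eq
    rw [← hST', Subgroup.map_sup, map_conj_eq_of_mem_normalizer hn,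
      map_conj_eq_of_mem_normalizer (hN ▸ hn)]
  rw [normalizer2 h T] at hNT
  have := Subgroup.card_le_of_le hNT
  rw [card_normalizer_K4 h hU, card_sylow2 h T] at this
  omega

/-- A proper subgroup of order divisible by 7 containing... : a subgroup of order `< 49`
containing an element of order 7 lies in the normalizer of a Sylow 7-subgroup. -/
theorem le_normalizer7 (h : Nat.card G = 168) (M : Subgroup G) (hM : Nat.card M < 49)
    (h7 : 7 ∣ Nat.card M) :
    ∃ P : Sylow 7 G, (P : Subgroup G) ≤ M ∧ M ≤ Subgroup.normalizer ((P : Subgroup G) : Set G) := by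
  obtain ⟨x, hx⟩ := exists_prime_orderOf_dvd_card' (G := M) 7 h7
  have hox : orderOf (x : G) = 7 := by rw [Subgroup.orderOf_coe, hx]
  obtain ⟨P, hP⟩ := exists_sylow_eq_zpowers (fun P => (sylow7 h P).1) (x : G) hox
  refine ⟨P, ?_, ?_⟩
  · rw [hP, Subgroup.zpowers_le]; exact x.2
  · rw [hP]
    exact le_normalizer_zpowers_of_sq_gt M (x : G) x.2 7 hox (by omega)

theorem le_normalizer3 (h : Nat.card G = 168) (M : Subgroup G) (hM : Nat.card M < 9)
    (h3 : 3 ∣ Nat.card M) :
    ∃ P : Sylow 3 G, M ≤ Subgroup.normalizer ((P : Subgroup G) : Set G) := by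
  have : Fact (Nat.Prime 3) := ⟨Nat.prime_three⟩
  obtain ⟨x, hx⟩ := exists_prime_orderOf_dvd_card' (G := M) 3 h3
  have hox : orderOf (x : G) = 3 := by rw [Subgroup.orderOf_coe, hx]
  obtain ⟨P, hP⟩ := exists_sylow_eq_zpowers (fun P => (sylow3 h P).1) (x : G) hox
  refine ⟨P, ?_⟩
  rw [hP]
  exact le_normalizer_zpowers_of_sq_gt M (x : G) x.2 3 hox (by omega)

theorem coatom_eq_of_le (h : Nat.card G = 168) {M K : Subgroup G} (hM : IsCoatom M)
    (hMK : M ≤ K) (hK : Nat.card K ≠ 168) : M = K := by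
  by_contra hne
  exact ne_top_of_card h K hK (hM.2 K (lt_of_le_of_ne hMK hne))

/-- Every maximal subgroup has order 21 or 24. -/
theorem coatom_card (h : Nat.card G = 168) (M : Subgroup G) (hM : IsCoatom M) :
    Nat.card M = 24 ∨ (Nat.card M = 21 ∧
      ∃ P : Sylow 7 G, M = Subgroup.normalizer ((P : Subgroup G) : Set G)) := by
  have : Fact (Nat.Prime 2) := ⟨Nat.prime_two⟩
  have hle := card_le_of_ne_top h M hM.1
  have hdvd : Nat.card M ∣ 168 := h ▸ Subgroup.card_subgroup_dvd_card M
  by_cases h7 : 7 ∣ Nat.card M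
  · right
    obtain ⟨P, hPM, hMP⟩ := le_normalizer7 h M (by omega) h7
    have := coatom_eq_of_le h hM hMP (by rw [card_normalizer7 h P]; norm_num)
    exact ⟨by rw [this, card_normalizer7 h P], P, this⟩
  · left
    by_contra h24
    have key : ∀ K : Subgroup G, Nat.card K = 24 → M ≤ K → False := by
      intro K hK hMK
      have := coatom_eq_of_le h hM hMK (by rw [hK]; norm_num)
      exact h24 (this ▸ hK)
    have hmem : Nat.card M ∈ Nat.divisors 168 := Nat.mem_divisors.mpr ⟨hdvd, by norm_num⟩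
    have hdiv : Nat.divisors 168 = {1, 2, 3, 4, 6, 7, 8, 12, 14, 21, 24, 28, 42, 56, 84, 168} := by
      decide +kernel
    rw [hdiv] at hmem
    simp only [Finset.mem_insert, Finset.mem_singleton] at hmem
    have h2grp : ∀ k : ℕ, Nat.card M = 2 ^ k → False := by
      intro k hk
      obtain ⟨K, hK, hMK⟩ := exists_card24_ge_of_two_group h M (IsPGroup.of_card hk)
      exact key K hK hMK
    have h3grp : Nat.card M < 9 → 3 ∣ Nat.card M → False := by
      intro h9 h3
      obtain ⟨P, hP⟩ := le_normalizer3 h M h9 h3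
      obtain ⟨K, hK, hPK⟩ := exists_card24_ge_normalizer3 h P
      exact key K hK (hP.trans hPK)
    rcases hmem with h0 | h0 | h0 | h0 | h0 | h0 | h0 | h0 | h0 | h0 | h0 | h0 | h0 | h0 | h0 | h0
    · exact h2grp 0 (by rw [h0]; norm_num)
    · exact h2grp 1 (by rw [h0]; norm_num)
    · exact h3grp (by rw [h0]; norm_num) (by rw [h0])
    · exact h2grp 2 (by rw [h0]; norm_num)
    · exact h3grp (by rw [h0]; norm_num) (by rw [h0]; norm_num)
    · rw [h0] at h7; exact h7 (dvd_refl 7)
    · exact h2grp 3 (by rw [h0]; norm_num)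
    · obtain ⟨K, hK, hMK⟩ := exists_card24_ge_of_card12 h M h0
      exact key K hK hMK
    · rw [h0] at h7; exact h7 (by norm_num)
    · rw [h0] at h7; exact h7 (by norm_num)
    · exact h24 h0
    all_goals omega

/-- The normalizer of a Sylow 7-subgroup is non-abelian. -/
theorem normalizer7_not_comm (h : Nat.card G = 168) (P : Sylow 7 G) :
    ¬ IsMulCommutative (Subgroup.normalizer ((P : Subgroup G) : Set G)) := by
  have : Fact (Nat.Prime 3) := ⟨Nat.prime_three⟩
  intro hc
  set N := Subgroup.normalizer ((P : Subgroup G) : Set G) with hN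
  have hcard : Nat.card N = 21 := card_normalizer7 h P
  obtain ⟨x, hx⟩ := exists_prime_orderOf_dvd_card' (G := N) 7 (by rw [hcard]; norm_num)
  obtain ⟨t, ht⟩ := exists_prime_orderOf_dvd_card' (G := N) 3 (by rw [hcard]; norm_num)
  have hcomm : (t : G) * (x : G) = (x : G) * (t : G) := by
    have := hc.is_comm.comm t x
    exact congrArg Subtype.val this
  have hmem := mem_zpowers_of_commute7 h (x : G) (t : G) (by rw [Subgroup.orderOf_coe, hx]) hcomm
  have h1 : orderOf (t : G) ∣ orderOf (x : G) := by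
    have := orderOf_dvd_natCard (⟨(t : G), hmem⟩ : Subgroup.zpowers (x : G))
    rwa [Subgroup.orderOf_mk, Nat.card_zpowers] at this
  rw [Subgroup.orderOf_coe, Subgroup.orderOf_coe, hx, ht] at h1
  omega

end

end Cfsg.Agent.helper4.O168
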