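import Mathlib
import Cfsg.Agent.Lib_helper23_PSolv

set_option autoImplicit false
set_option linter.style.haveILetI false
open Cfsg

/-!
# The dual of Hall–Higman Lemma 1.2.3

In a `p`-solvable group with `O_p(G) = 1`, `C_G(O_{p'}(G)) ≤ O_{p'}(G)`.
-/

namespace Cfsg.Agent.helper4.PS

open Cfsg.Agent.helper23

variable {G : Type*} [Group G]

/-- If `O_p(G) = 1`, a normal subgroup `L` with a central normal `p'`-subgroup `L₀` of `p`-power
index equals `L₀`. -/
theorem central_pprime_split [Finite G] {p : ℕ} [hp : Fact p.Prime]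
    (hO : Cfsg.pCore p G = ⊥)
    {L L₀ : Subgroup G} (hL : L.Normal) (hL₀ : L₀.Normal) (hle : L₀ ≤ L)
    (hcop : (Nat.card L₀).Coprime p)
    (hcent : ∀ a ∈ L₀, ∀ b ∈ L, a * b = b * a) {m : ℕ} (hidx : L₀.relIndex L = p ^ m) :
    L ≤ L₀ := by
  haveI hNn : (L₀.subgroupOf L).Normal := hL₀.subgroupOf L
  have hNcard : Nat.card (L₀.subgroupOf L) = Nat.card L₀ :=
    Nat.card_congr (Subgroup.subgroupOfEquivOfLe hle).toEquiv
  have hNidx : (L₀.subgroupOf L).index = L₀.relIndex L := rfl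
  have hcop' : (Nat.card (L₀.subgroupOf L)).Coprime (L₀.subgroupOf L).index := by
    rw [hNcard, hNidx, hidx]
    exact Nat.Coprime.pow_right m hcop
  obtain ⟨K', hK'⟩ := Subgroup.exists_right_complement'_of_coprime hcop'
  have hcardK' : Nat.card K' = p ^ m := by
    have h1 := hK'.card_mul_card
    have h2 := (L₀.subgroupOf L).card_mul_index
    rw [← hidx, ← hNidx]
    exact Nat.eq_of_mul_eq_mul_left Nat.card_pos (h1.trans h2.symm)
  have hKcL : K'.map L.subtype ≤ L := Subgroup.map_subtype_le K'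
  have hKccard : Nat.card (K'.map L.subtype) = p ^ m := by
    rw [Subgroup.card_subtype L K', hcardK']
  have hpow : ∀ b ∈ K'.map L.subtype, b ^ (p ^ m) = 1 := by
    intro b hb
    have := pow_card_eq_one' (G := ↥(K'.map L.subtype)) (x := ⟨b, hb⟩)
    rw [hKccard] at this
    exact congrArg Subtype.val this
  -- `p`-elements of `L` lie in the complement
  have hi : ∀ x ∈ L, ∀ j : ℕ, x ^ (p ^ j) = 1 → x ∈ K'.map L.subtype := by
    intro x hx j hxj
    obtain ⟨⟨⟨⟨a, haL⟩, haN⟩, ⟨⟨b, hbL⟩, hbK⟩⟩, hnk⟩ := hK'.2 (⟨x, hx⟩ : L)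
    have hab : a * b = x := congrArg Subtype.val hnk
    have haL₀ : a ∈ L₀ := haN
    have hbKc : b ∈ K'.map L.subtype := ⟨⟨b, hbL⟩, hbK, rfl⟩
    have hcomm : Commute a b := hcent a haL₀ b hbL
    have hbm : b ^ (p ^ m) = 1 := hpow b hbKc
    have ha1 : a ^ (p ^ j * p ^ m) = 1 := by
      have hax : a = x * b⁻¹ := by rw [← hab]; group
      have hxb : Commute x b⁻¹ := by
        rw [← hab]
        exact (hcomm.mul_left (Commute.refl b)).inv_right
      have e1 : x ^ (p ^ j * p ^ m) = 1 := by rw [pow_mul, hxj, one_pow]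
      have e2 : b⁻¹ ^ (p ^ j * p ^ m) = 1 := by
        rw [mul_comm, pow_mul, inv_pow, hbm, inv_one, one_pow]
      rw [hax, hxb.mul_pow, e1, e2, one_mul]
    have ha2 : a ^ (Nat.card L₀) = 1 := by
      have := pow_card_eq_one' (G := ↥L₀) (x := ⟨a, haL₀⟩)
      exact congrArg Subtype.val this
    have hcop2 : Nat.Coprime (p ^ j * p ^ m) (Nat.card L₀) := by
      rw [← pow_add]
      exact (Nat.Coprime.pow_right (j + m) hcop).symm
    have ha : a = 1 := by
      have h1 : orderOf a ∣ p ^ j * p ^ m := orderOf_dvd_of_pow_eq_one ha1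
      have h2 : orderOf a ∣ Nat.card L₀ := orderOf_dvd_of_pow_eq_one ha2
      have h3 : orderOf a ∣ 1 := by
        have h4 := Nat.dvd_gcd h1 h2
        rwa [Nat.Coprime.gcd_eq_one hcop2] at h4
      exact orderOf_eq_one_iff.1 (Nat.dvd_one.1 h3)
    have hxb : x = b := by rw [← hab, ha, one_mul]
    rw [hxb]
    exact hbKc
  have hKcn : (K'.map L.subtype).Normal := by
    constructor
    intro x hx g
    apply hi _ (hL.conj_mem x (hKcL hx) g) m
    rw [conj_pow, hpow x hx]
    group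
  have hKcbot : K'.map L.subtype = ⊥ := by
    have h1 := helper1.le_pCore hKcn (IsPGroup.of_card hKccard)
    rwa [hO, le_bot_iff] at h1
  intro y hy
  obtain ⟨⟨⟨⟨a, haL⟩, haN⟩, ⟨⟨b, hbL⟩, hbK⟩⟩, hnk⟩ := hK'.2 (⟨y, hy⟩ : L)
  have hab : a * b = y := congrArg Subtype.val hnk
  have hbKc : b ∈ K'.map L.subtype := ⟨⟨b, hbL⟩, hbK, rfl⟩
  rw [hKcbot, Subgroup.mem_bot] at hbKc
  rw [← hab, hbKc, mul_one]
  exact haN

/-- Dual of Hall–Higman Lemma 1.2.3: in a `p`-solvable group with `O_p(G) = 1`,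
`C_G(O_{p'}(G)) ≤ O_{p'}(G)`. -/
theorem hall_higman_123' [Finite G] {p : ℕ} [hp : Fact p.Prime] (hps : PSReach p (⊤ : Subgroup G))
    (hO : Cfsg.pCore p G = ⊥) :
    Subgroup.centralizer ((Cfsg.pPrimeCore p G : Subgroup G) : Set G) ≤ Cfsg.pPrimeCore p G := by
  haveI hVn : (Cfsg.pPrimeCore p G).Normal := helper1.pPrimeCore_normal p
  obtain ⟨D, hD⟩ : ∃ D : Subgroup G,
      D = Subgroup.centralizer ((Cfsg.pPrimeCore p G : Subgroup G) : Set G) := ⟨_, rfl⟩
  rw [← hD]
  have hDn : D.Normal := by rw [hD]; exact Subgroup.normal_centralizer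
  have hDc : ∀ b ∈ D, ∀ a ∈ Cfsg.pPrimeCore p G, a * b = b * a := by
    intro b hb a ha
    rw [hD, Subgroup.mem_centralizer_iff] at hb
    exact hb a ha
  have key : ∀ X : Subgroup G, PSReach p X → X ⊓ D ≤ Cfsg.pPrimeCore p G := by
    intro X hX
    induction hX with
    | bot => rw [bot_inf_eq]; exact bot_le
    | step K L hK hKL hLn hfac ih =>
      have hKn := hK.normal
      have hL'n : (L ⊓ D).Normal := @Subgroup.normal_inf_normal _ _ L D hLn hDn
      have hL₀n : (K ⊓ D).Normal := @Subgroup.normal_inf_normal _ _ K D hKn hDn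
      have hle : K ⊓ D ≤ L ⊓ D := inf_le_inf_right _ hKL
      have hd := relIndex_inf_dvd (D := D) hKn hKL
      have hcop₀ : (Nat.card (K ⊓ D : Subgroup G)).Coprime p :=
        Nat.Coprime.coprime_dvd_left (Subgroup.card_dvd_of_le ih) (helper1.pPrimeCore_coprime p)
      rcases hfac with ⟨m, hm⟩ | hc
      · rw [hm] at hd
        obtain ⟨j, _, hj⟩ := (Nat.dvd_prime_pow hp.out).1 hd
        have h1 : L ⊓ D ≤ K ⊓ D := by
          refine central_pprime_split hO hL'n hL₀n hle hcop₀ ?_ hj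
          intro a ha b hb
          exact hDc b (Subgroup.mem_inf.1 hb).2 a (ih ha)
        exact h1.trans ih
      · have hcop : ((K ⊓ D).relIndex (L ⊓ D)).Coprime p := Nat.Coprime.coprime_dvd_left hd hc
        apply helper1.le_pPrimeCore hL'n
        have h1 := Subgroup.relIndex_mul_relIndex ⊥ (K ⊓ D) (L ⊓ D) bot_le hle
        rw [Subgroup.relIndex_bot_left, Subgroup.relIndex_bot_left] at h1
        rw [← h1]
        exact Nat.Coprime.mul_left hcop₀ hcop
  have h2 := key ⊤ hps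
  rwa [top_inf_eq] at h2

end Cfsg.Agent.helper4.PS
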