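import Mathlib
import Cfsg.Agent.Lib_lead_Coprime4
import Cfsg.Agent.Lib_helper15_Gen5

set_option autoImplicit false

namespace Cfsg.Agent.lead.CopFac

open Cfsg.Agent.helper7 Cfsg.Agent.lead
open scoped Pointwise

universe u

/-- `|HK| · |H ∩ K| = |H| · |K|`. -/
theorem card_mul_set {G : Type*} [Group G] [Finite G] (H K : Subgroup G) :
    Nat.card ((H : Set G) * (K : Set G) : Set G) * Nat.card (H ⊓ K : Subgroup G)
      = Nat.card H * Nat.card K := by
  rw [← Nat.card_prod, ← Nat.card_prod]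
  have hsec : ∀ g : ((H : Set G) * (K : Set G) : Set G),
      ∃ p : H × K, (p.1 : G) * (p.2 : G) = g := by
    rintro ⟨g, h, hh, k, hk, rfl⟩
    exact ⟨(⟨h, hh⟩, ⟨k, hk⟩), rfl⟩
  choose s hs using hsec
  have hmem : ∀ q : H × K, (q.1 : G) * (q.2 : G) ∈ ((H : Set G) * (K : Set G) : Set G) :=
    fun q => Set.mul_mem_mul q.1.2 q.2.2
  have hd : ∀ q : H × K, ((s ⟨_, hmem q⟩).1 : G)⁻¹ * (q.1 : G) ∈ H ⊓ K := by
    intro q
    have h1 := hs ⟨_, hmem q⟩
    simp only at h1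
    refine Subgroup.mem_inf.mpr ⟨H.mul_mem (H.inv_mem (s ⟨_, hmem q⟩).1.2) q.1.2, ?_⟩
    have h2 : ((s ⟨_, hmem q⟩).1 : G)⁻¹ * (q.1 : G) = ((s ⟨_, hmem q⟩).2 : G) * (q.2 : G)⁻¹ := by
      rw [inv_mul_eq_iff_eq_mul, ← mul_assoc, h1]; group
    rw [h2]
    exact K.mul_mem (s ⟨_, hmem q⟩).2.2 (K.inv_mem q.2.2)
  refine Nat.card_congr
    ⟨fun p => (⟨((s p.1).1 : G) * (p.2 : G), H.mul_mem (s p.1).1.2 (Subgroup.mem_inf.mp p.2.2).1⟩,
        ⟨(p.2 : G)⁻¹ * ((s p.1).2 : G),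
          K.mul_mem (K.inv_mem (Subgroup.mem_inf.mp p.2.2).2) (s p.1).2.2⟩),
      fun q => (⟨(q.1 : G) * (q.2 : G), hmem q⟩, ⟨_, hd q⟩), ?_, ?_⟩
  · rintro ⟨g, d⟩
    have h1 := hs g
    have e1 : (((s g).1 : G) * (d : G)) * ((d : G)⁻¹ * ((s g).2 : G)) = (g : G) := by
      rw [← h1]; group
    apply Prod.ext
    · apply Subtype.ext
      simp only
      exact e1
    · apply Subtype.ext
      simp only
      have e2 : (⟨(((s g).1 : G) * (d : G)) * ((d : G)⁻¹ * ((s g).2 : G)), hmem (⟨((s g).1 : G) * (d : G), H.mul_mem (s g).1.2 (Subgroup.mem_inf.mp d.2).1⟩, ⟨(d : G)⁻¹ * ((s g).2 : G), K.mul_mem (K.inv_mem (Subgroup.mem_inf.mp d.2).2) (s g).2.2⟩)⟩ : ((H : Set G) * (K : Set G) : Set G)) = g := Subtype.ext e1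
      rw [e2]
      group
  · rintro ⟨h, k⟩
    have h1 := hs ⟨_, hmem (h, k)⟩
    simp only at h1
    apply Prod.ext
    · apply Subtype.ext
      simp only
      group
    · apply Subtype.ext
      simp only
      rw [_root_.mul_inv_rev, inv_inv, mul_assoc, h1]
      group

/-- A `q`-subgroup of `L` containing a subgroup of Sylow order has Sylow order. -/
theorem card_eq_of_sylow_le {G : Type*} [Group G] [Finite G] (q : ℕ) [hq : Fact q.Prime]
    (L U R : Subgroup G) (hUL : U ≤ L) (hU : IsPGroup q U) (hRU : R ≤ U)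
    (hR : Nat.card R = q ^ (Nat.card L).factorization q) :
    Nat.card U = q ^ (Nat.card L).factorization q := by
  obtain ⟨j, hj⟩ := IsPGroup.iff_card.mp hU
  have h1 : q ^ j ∣ Nat.card L := hj ▸ Subgroup.card_dvd_of_le hUL
  have h2 : j ≤ (Nat.card L).factorization q :=
    (hq.out.pow_dvd_iff_le_factorization Nat.card_pos.ne').mp h1
  have h3 : q ^ (Nat.card L).factorization q ∣ q ^ j := by
    rw [← hR, ← hj]; exact Subgroup.card_dvd_of_le hRU
  have h4 : (Nat.card L).factorization q ≤ j :=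
    (Nat.pow_dvd_pow_iff_le_right hq.out.one_lt).mp h3
  rw [hj, le_antisymm h2 h4]

/-- Two subgroups of `L` of Sylow `q`-order are conjugate in `L`. -/
theorem sylow_card_conj {G : Type*} [Group G] [Finite G] (q : ℕ) [hq : Fact q.Prime]
    (L Q V : Subgroup G) (hQ : Q ≤ L) (hV : V ≤ L)
    (hQc : Nat.card Q = q ^ (Nat.card L).factorization q)
    (hVc : Nat.card V = q ^ (Nat.card L).factorization q) : ∃ k ∈ L, cj k V = Q := by
  obtain ⟨g, hg⟩ := MulAction.exists_smul_eq L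
    (Sylow.ofCard (V.subgroupOf L) (by rw [card_subgroupOf_of_le hV, hVc]))
    (Sylow.ofCard (Q.subgroupOf L) (by rw [card_subgroupOf_of_le hQ, hQc]))
  refine ⟨g, g.2, ?_⟩
  have h1 := congrArg (fun S : Sylow q L => (S : Subgroup L)) hg
  simp only [Sylow.coe_subgroup_smul, Sylow.coe_ofCard] at h1
  have := congrArg (Subgroup.map L.subtype) h1
  rw [smul_eq_cj, map_subtype_cj, Subgroup.map_subgroupOf_eq_of_le hV,
    Subgroup.map_subgroupOf_eq_of_le hQ] at this
  exact this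

theorem le_normalizer_inf' {G : Type*} [Group G] (A U V : Subgroup G)
    (hU : A ≤ Subgroup.normalizer (U : Set G)) (hV : A ≤ Subgroup.normalizer (V : Set G)) :
    A ≤ Subgroup.normalizer ((U ⊓ V : Subgroup G) : Set G) :=
  (le_inf hU hV).trans Subgroup.inf_normalizer_le_normalizer_inf

theorem le_normalizer_inf_centralizer {G : Type*} [Group G] (A U : Subgroup G)
    (hAcomm : ∀ x ∈ A, ∀ y ∈ A, x * y = y * x)
    (hU : A ≤ Subgroup.normalizer (U : Set G)) (a : G) (ha : a ∈ A) :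
    A ≤ Subgroup.normalizer ((U ⊓ Subgroup.centralizer {a} : Subgroup G) : Set G) := by
  refine le_normalizer_inf' A U _ hU ?_
  intro b hb
  apply Subgroup.le_normalizer
  rw [Subgroup.mem_centralizer_singleton_iff]
  exact hAcomm b hb a ha

/-- `C_Q(a)` is a Sylow `q`-subgroup of `C_L(a)` when `Q` is an `A`-invariant Sylow `q`-subgroup
of `L` and `a ∈ A`, `A` abelian acting coprimely. -/
theorem card_inf_centralizer {G : Type u} [Group G] [Finite G] (A L : Subgroup G)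
    (hAcomm : ∀ x ∈ A, ∀ y ∈ A, x * y = y * x)
    (hAL : A ≤ Subgroup.normalizer (L : Set G)) (hcop : (Nat.card A).Coprime (Nat.card L))
    (q : ℕ) [hq : Fact q.Prime] (Q : Subgroup G) (hQL : Q ≤ L)
    (hQc : Nat.card Q = q ^ (Nat.card L).factorization q)
    (hAQ : A ≤ Subgroup.normalizer (Q : Set G)) (a : G) (ha : a ∈ A) :
    Nat.card (Q ⊓ Subgroup.centralizer {a} : Subgroup G)
      = q ^ (Nat.card (L ⊓ Subgroup.centralizer {a} : Subgroup G)).factorization q := by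
  have hsolv : Group.IsSolvable A :=
    Group.isSolvable_of_comm (fun x y => Subtype.ext (hAcomm x x.2 y y.2))
  set C : Subgroup G := L ⊓ Subgroup.centralizer {a} with hC
  have hCL : C ≤ L := inf_le_left
  have hAC : A ≤ Subgroup.normalizer (C : Set G) := le_normalizer_inf_centralizer A L hAcomm hAL a ha
  have hcopC : (Nat.card A).Coprime (Nat.card C) :=
    Nat.Coprime.coprime_dvd_right (Subgroup.card_dvd_of_le hCL) hcop
  obtain ⟨R, hRC, hRc, hAR⟩ := exists_invariant_sylow A C hAC hcopC (Or.inl hsolv) q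
  obtain ⟨V, hRV, hVL, hVc, hAV⟩ := invariant_pgroup_le_invariant_sylow A L hAL hcop (Or.inl hsolv) q
    R (hRC.trans hCL) (IsPGroup.of_card hRc) hAR
  obtain ⟨k, hk, hkV⟩ := sylow_card_conj q L Q V hQL hVL hQc hVc
  obtain ⟨c, hc, hcV⟩ := invariant_sylow_conj A L hAL hcop (Or.inl hsolv) V Q k hk hkV hAV hAQ
  have hca : c * a = a * c := by
    have := (Subgroup.mem_centralizer_iff.mp (Subgroup.mem_inf.mp hc).2) a ha
    exact this.symm
  have h1 : cj c R ≤ Q ⊓ Subgroup.centralizer {a} := by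
    apply le_inf
    · rw [← hcV]; exact cj_mono hRV
    · intro x hx
      rw [mem_cj] at hx
      have h2 := (Subgroup.mem_inf.mp (hRC hx)).2
      rw [Subgroup.mem_centralizer_singleton_iff] at h2 ⊢
      have hca2 : c * a * c⁻¹ = a := by rw [hca]; group
      calc x * a = x * (c * a * c⁻¹) := by rw [hca2]
        _ = c * ((c⁻¹ * x * c) * a) * c⁻¹ := by group
        _ = c * (a * (c⁻¹ * x * c)) * c⁻¹ := by rw [h2]
        _ = (c * a * c⁻¹) * x := by group
        _ = a * x := by rw [hca2]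
  have hUC : Q ⊓ Subgroup.centralizer {a} ≤ C := inf_le_inf_right _ hQL
  have hUp : IsPGroup q (Q ⊓ Subgroup.centralizer {a} : Subgroup G) :=
    (IsPGroup.of_card hQc).to_le inf_le_left
  exact card_eq_of_sylow_le q C _ (cj c R) hUC hUp h1 (by rw [card_cj, hRc])

/-- The nilpotent case: no hypothesis on `C_K(A)`. -/
theorem fac_pgroup {G : Type u} [Group G] [Finite G] (A : Subgroup G) [IsMulCommutative A]
    (hA : ¬ IsCyclic A) (q : ℕ) [hq : Fact q.Prime] :
    ∀ (n : ℕ) (K X Y : Subgroup G), Nat.card K - Nat.card X = n → IsPGroup q K →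
      A ≤ Subgroup.normalizer (K : Set G) → (Nat.card A).Coprime (Nat.card K) →
      X ≤ K → Y ≤ K → A ≤ Subgroup.normalizer (X : Set G) →
      A ≤ Subgroup.normalizer (Y : Set G) →
      (∀ a ∈ A, a ≠ 1 → ∀ g ∈ K ⊓ Subgroup.centralizer {a},
        ∃ x ∈ X ⊓ Subgroup.centralizer {a}, ∃ y ∈ Y ⊓ Subgroup.centralizer {a}, g = x * y) →
      ∀ g ∈ K, ∃ x ∈ X, ∃ y ∈ Y, g = x * y := by
  intro n
  induction n using Nat.strong_induction_on with
  | _ n ih =>
  intro K X Y hn hKq hAK hcop hXK hYK hAX hAY hfac g hg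
  by_cases hXeq : X = K
  · exact ⟨g, hXeq ▸ hg, 1, Y.one_mem, (mul_one g).symm⟩
  have hlt : X < K := lt_of_le_of_ne hXK hXeq
  have hlt1 := Cfsg.Agent.helper10.lt_inf_normalizer_of_lt hKq hlt
  set X₁ : Subgroup G := K ⊓ Subgroup.normalizer (X : Set G) with hX₁
  have hX₁K : X₁ ≤ K := inf_le_left
  have hAX₁ : A ≤ Subgroup.normalizer (X₁ : Set G) := le_normalizer_inf_normalizer A K X hAK hAX
  have hcop1 : (Nat.card A).Coprime (Nat.card X₁) :=
    Nat.Coprime.coprime_dvd_right (Subgroup.card_dvd_of_le hX₁K) hcop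
  by_cases hcase : X₁ ⊓ Y ≤ X
  · exfalso
    have hgen := Cfsg.Agent.helper15.iSup_centralizer_eq_of_not_isCyclic A X₁ hA hAX₁ hcop1
    have hle : X₁ ≤ X := by
      rw [← hgen]
      refine iSup₂_le ?_
      rintro a ⟨haA, ha1⟩
      intro w hw
      have hwX₁ := (Subgroup.mem_inf.mp hw).1
      have hwa := (Subgroup.mem_inf.mp hw).2
      obtain ⟨x, hx, y, hy, hxy⟩ := hfac a haA ha1 w (Subgroup.mem_inf.mpr ⟨hX₁K hwX₁, hwa⟩)
      have hxX := (Subgroup.mem_inf.mp hx).1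
      have hyY := (Subgroup.mem_inf.mp hy).1
      have hy' : y = x⁻¹ * w := by rw [hxy]; group
      have hyX₁ : y ∈ X₁ := by
        rw [hy']; exact X₁.mul_mem (X₁.inv_mem (hlt1.le hxX)) hwX₁
      have hyX : y ∈ X := hcase (Subgroup.mem_inf.mpr ⟨hyX₁, hyY⟩)
      rw [hxy]; exact X.mul_mem hxX hyX
    exact (lt_of_lt_of_le hlt1 hle).false
  · set W : Subgroup G := X₁ ⊓ Y with hW
    have hWN : W ≤ Subgroup.normalizer (X : Set G) := inf_le_left.trans inf_le_right
    set X' : Subgroup G := X ⊔ W with hX'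
    have hXX' : X < X' := by
      refine lt_of_le_of_ne le_sup_left ?_
      intro h
      apply hcase
      rw [h]; exact le_sup_right
    have hX'K : X' ≤ K := sup_le hXK (inf_le_left.trans hX₁K)
    have hAW : A ≤ Subgroup.normalizer (W : Set G) := le_normalizer_inf' A X₁ Y hAX₁ hAY
    have hAX' : A ≤ Subgroup.normalizer (X' : Set G) :=
      (le_inf hAX hAW).trans (Subgroup.normalizer_inf_normalizer_le_normalizer_sup X W)
    have hcard1 : Nat.card X < Nat.card X' := by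
      by_contra hcon
      exact hXX'.ne (Subgroup.eq_of_le_of_card_ge hXX'.le (not_lt.mp hcon))
    have hcard2 : Nat.card X' ≤ Nat.card K := Subgroup.card_le_of_le hX'K
    have hfac' : ∀ a ∈ A, a ≠ 1 → ∀ g ∈ K ⊓ Subgroup.centralizer {a},
        ∃ x ∈ X' ⊓ Subgroup.centralizer {a}, ∃ y ∈ Y ⊓ Subgroup.centralizer {a}, g = x * y := by
      intro a haA ha1 w hw
      obtain ⟨x, hx, y, hy, hxy⟩ := hfac a haA ha1 w hw
      exact ⟨x, inf_le_inf_right _ hXX'.le hx, y, hy, hxy⟩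
    obtain ⟨x', hx', y, hy, hxy⟩ := ih (Nat.card K - Nat.card X') (by omega) K X' Y rfl hKq hAK hcop
      hX'K hYK hAX' hAY hfac' g hg
    have hset : ((X ⊔ W : Subgroup G) : Set G) = (X : Set G) * (W : Set G) :=
      Subgroup.coe_mul_of_right_le_normalizer_left X W hWN
    have hx'' : x' ∈ (X : Set G) * (W : Set G) := by
      rw [← hset]; exact hx'
    obtain ⟨x, hx, w, hw, rfl⟩ := hx''
    exact ⟨x, hx, w * y, Y.mul_mem (Subgroup.mem_inf.mp hw).2 hy, by rw [hxy, mul_assoc]⟩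


theorem set_eq_of_subset_card {G : Type*} [Finite G] (S T : Set G) (h : S ⊆ T)
    (hc : Nat.card T ≤ Nat.card S) : S = T := by
  apply Set.eq_of_subset_of_ncard_le h _ (Set.toFinite _)
  rw [← Nat.card_coe_set_eq, ← Nat.card_coe_set_eq]
  exact hc

/-- Coprime factorization from centralizers. -/
theorem fac_main {G : Type u} [Group G] [Finite G] (A K X Y : Subgroup G) [IsMulCommutative A]
    (hA : ¬ IsCyclic A) (hAK : A ≤ Subgroup.normalizer (K : Set G))
    (hcop : (Nat.card A).Coprime (Nat.card K)) (hX : X ≤ K) (hY : Y ≤ K)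
    (hAX : A ≤ Subgroup.normalizer (X : Set G)) (hAY : A ≤ Subgroup.normalizer (Y : Set G))
    (hCX : K ⊓ Subgroup.centralizer (A : Set G) ≤ Subgroup.normalizer (X : Set G))
    (hfac : ∀ a ∈ A, a ≠ 1 → ((K ⊓ Subgroup.centralizer {a} : Subgroup G) : Set G)
      = ((X ⊓ Subgroup.centralizer {a} : Subgroup G) : Set G)
        * ((Y ⊓ Subgroup.centralizer {a} : Subgroup G) : Set G)) :
    (K : Set G) = (X : Set G) * (Y : Set G) := by
  have hAcomm : ∀ x ∈ A, ∀ y ∈ A, x * y = y * x := fun x hx y hy =>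
    setLike_mul_comm hx hy
  have hsolv : Group.IsSolvable A :=
    Group.isSolvable_of_comm (fun x y => Subtype.ext (hAcomm x x.2 y y.2))
  have hXYK : X ⊓ Y ≤ K := inf_le_left.trans hX
  have hcopX : (Nat.card A).Coprime (Nat.card X) :=
    Nat.Coprime.coprime_dvd_right (Subgroup.card_dvd_of_le hX) hcop
  have hcopY : (Nat.card A).Coprime (Nat.card Y) :=
    Nat.Coprime.coprime_dvd_right (Subgroup.card_dvd_of_le hY) hcop
  have hcopXY : (Nat.card A).Coprime (Nat.card (X ⊓ Y : Subgroup G)) :=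
    Nat.Coprime.coprime_dvd_right (Subgroup.card_dvd_of_le hXYK) hcop
  have hAXY : A ≤ Subgroup.normalizer ((X ⊓ Y : Subgroup G) : Set G) :=
    le_normalizer_inf' A X Y hAX hAY
  have key : ∀ q : ℕ, q.Prime → (Nat.card K).factorization q
      + (Nat.card (X ⊓ Y : Subgroup G)).factorization q
      = (Nat.card X).factorization q + (Nat.card Y).factorization q := by
    intro q hqp
    have : Fact q.Prime := ⟨hqp⟩
    obtain ⟨R₀, hR₀le, hR₀c, hAR₀⟩ := exists_invariant_sylow A (X ⊓ Y) hAXY hcopXY (Or.inl hsolv) q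
    obtain ⟨QY, hR₀QY, hQYY, hQYc, hAQY⟩ := invariant_pgroup_le_invariant_sylow A Y hAY hcopY
      (Or.inl hsolv) q R₀ (hR₀le.trans inf_le_right) (IsPGroup.of_card hR₀c) hAR₀
    obtain ⟨Q, hQYQ, hQK, hQc, hAQ⟩ := invariant_pgroup_le_invariant_sylow A K hAK hcop
      (Or.inl hsolv) q QY (hQYY.trans hY) (IsPGroup.of_card hQYc) hAQY
    obtain ⟨QX, hQXX, hQXc, hAQX⟩ := exists_invariant_sylow A X hAX hcopX (Or.inl hsolv) q
    obtain ⟨Q', hQXQ', hQ'K, hQ'c, hAQ'⟩ := invariant_pgroup_le_invariant_sylow A K hAK hcop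
      (Or.inl hsolv) q QX (hQXX.trans hX) (IsPGroup.of_card hQXc) hAQX
    obtain ⟨k, hk, hkQ⟩ := sylow_card_conj q K Q Q' hQK hQ'K hQc hQ'c
    obtain ⟨c, hc, hcQ⟩ := invariant_sylow_conj A K hAK hcop (Or.inl hsolv) Q' Q k hk hkQ hAQ' hAQ
    have hQq : IsPGroup q Q := IsPGroup.of_card hQc
    have hcX : cj c X = X := cj_eq_of_mem_normalizer (hCX hc)
    have h1 : cj c QX ≤ Q ⊓ X := le_inf (hcQ ▸ cj_mono hQXQ') (hcX ▸ cj_mono hQXX)
    have cQX : Nat.card (Q ⊓ X : Subgroup G) = q ^ (Nat.card X).factorization q :=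
      card_eq_of_sylow_le q X _ (cj c QX) inf_le_right (hQq.to_le inf_le_left) h1
        (by rw [card_cj, hQXc])
    have cQY : Nat.card (Q ⊓ Y : Subgroup G) = q ^ (Nat.card Y).factorization q :=
      card_eq_of_sylow_le q Y _ QY inf_le_right (hQq.to_le inf_le_left) (le_inf hQYQ hQYY) hQYc
    have cQXY : Nat.card (Q ⊓ (X ⊓ Y) : Subgroup G)
        = q ^ (Nat.card (X ⊓ Y : Subgroup G)).factorization q :=
      card_eq_of_sylow_le q (X ⊓ Y) _ R₀ inf_le_right (hQq.to_le inf_le_left)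
        (le_inf (hR₀QY.trans hQYQ) hR₀le) hR₀c
    have hAQX' : A ≤ Subgroup.normalizer ((Q ⊓ X : Subgroup G) : Set G) :=
      le_normalizer_inf' A Q X hAQ hAX
    have hAQY' : A ≤ Subgroup.normalizer ((Q ⊓ Y : Subgroup G) : Set G) :=
      le_normalizer_inf' A Q Y hAQ hAY
    have hAQXY' : A ≤ Subgroup.normalizer ((Q ⊓ (X ⊓ Y) : Subgroup G) : Set G) :=
      le_normalizer_inf' A Q (X ⊓ Y) hAQ hAXY
    have hcopQ : (Nat.card A).Coprime (Nat.card Q) :=
      Nat.Coprime.coprime_dvd_right (Subgroup.card_dvd_of_le hQK) hcop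
    have hfacQ : ∀ a ∈ A, a ≠ 1 → ∀ g ∈ Q ⊓ Subgroup.centralizer {a},
        ∃ x ∈ (Q ⊓ X) ⊓ Subgroup.centralizer {a}, ∃ y ∈ (Q ⊓ Y) ⊓ Subgroup.centralizer {a},
          g = x * y := by
      intro a haA ha1 g hg
      have e1 := card_inf_centralizer A K hAcomm hAK hcop q Q hQK hQc hAQ a haA
      have e2 := card_inf_centralizer A X hAcomm hAX hcopX q (Q ⊓ X) inf_le_right cQX hAQX' a haA
      have e3 := card_inf_centralizer A Y hAcomm hAY hcopY q (Q ⊓ Y) inf_le_right cQY hAQY' a haA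
      have e4 := card_inf_centralizer A (X ⊓ Y) hAcomm hAXY hcopXY q (Q ⊓ (X ⊓ Y)) inf_le_right
        cQXY hAQXY' a haA
      set C : Subgroup G := Subgroup.centralizer {a} with hC
      have f1 := card_mul_set (X ⊓ C) (Y ⊓ C)
      rw [← hfac a haA ha1] at f1
      have f1' : Nat.card (K ⊓ C : Subgroup G) * Nat.card ((X ⊓ C) ⊓ (Y ⊓ C) : Subgroup G)
          = Nat.card (X ⊓ C : Subgroup G) * Nat.card (Y ⊓ C : Subgroup G) := f1
      have i1 : (X ⊓ C) ⊓ (Y ⊓ C) = (X ⊓ Y) ⊓ C := (inf_inf_distrib_right X Y C).symm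
      rw [i1] at f1'
      have g1 := congrArg (fun n : ℕ => n.factorization q) f1'
      simp only [Nat.factorization_mul Nat.card_pos.ne' Nat.card_pos.ne', Finsupp.add_apply] at g1
      have f2 := card_mul_set ((Q ⊓ X) ⊓ C) ((Q ⊓ Y) ⊓ C)
      have i2 : ((Q ⊓ X) ⊓ C) ⊓ ((Q ⊓ Y) ⊓ C) = (Q ⊓ (X ⊓ Y)) ⊓ C := by
        rw [← inf_inf_distrib_right, ← inf_inf_distrib_left]
      rw [i2, e2, e3, e4, ← pow_add, ← g1, pow_add] at f2
      have f2' := Nat.eq_of_mul_eq_mul_right (pow_pos hqp.pos _) f2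
      have hsub : (((Q ⊓ X) ⊓ C : Subgroup G) : Set G) * (((Q ⊓ Y) ⊓ C : Subgroup G) : Set G)
          ⊆ ((Q ⊓ C : Subgroup G) : Set G) := by
        rintro _ ⟨x, hx, y, hy, rfl⟩
        exact (Q ⊓ C).mul_mem (inf_le_inf_right C inf_le_left hx) (inf_le_inf_right C inf_le_left hy)
      have hSeq := set_eq_of_subset_card _ _ hsub (by
        rw [f2']
        exact le_of_eq e1)
      have hg' : g ∈ ((Q ⊓ C : Subgroup G) : Set G) := hg
      rw [← hSeq] at hg'
      obtain ⟨x, hx, y, hy, rfl⟩ := hg'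
      exact ⟨x, hx, y, hy, rfl⟩
    have hQfac := fac_pgroup A hA q _ Q (Q ⊓ X) (Q ⊓ Y) rfl hQq hAQ hcopQ inf_le_left inf_le_left
      hAQX' hAQY' hfacQ
    have hQset : (Q : Set G) = ((Q ⊓ X : Subgroup G) : Set G) * ((Q ⊓ Y : Subgroup G) : Set G) := by
      ext g
      constructor
      · intro hg
        obtain ⟨x, hx, y, hy, rfl⟩ := hQfac g hg
        exact Set.mul_mem_mul hx hy
      · rintro ⟨x, hx, y, hy, rfl⟩
        exact Q.mul_mem (Subgroup.mem_inf.mp hx).1 (Subgroup.mem_inf.mp hy).1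
    have f3 := card_mul_set (Q ⊓ X) (Q ⊓ Y)
    rw [← hQset] at f3
    have f3' : Nat.card Q * Nat.card ((Q ⊓ X) ⊓ (Q ⊓ Y) : Subgroup G)
        = Nat.card (Q ⊓ X : Subgroup G) * Nat.card (Q ⊓ Y : Subgroup G) := f3
    have i3 : (Q ⊓ X) ⊓ (Q ⊓ Y) = Q ⊓ (X ⊓ Y) := (inf_inf_distrib_left Q X Y).symm
    rw [i3, hQc, cQX, cQY, cQXY, ← pow_add, ← pow_add] at f3'
    exact Nat.pow_right_injective hqp.two_le f3'
  have hcard : Nat.card K * Nat.card (X ⊓ Y : Subgroup G) = Nat.card X * Nat.card Y := by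
    apply Nat.eq_of_factorization_eq (mul_ne_zero Nat.card_pos.ne' Nat.card_pos.ne')
      (mul_ne_zero Nat.card_pos.ne' Nat.card_pos.ne')
    intro q
    rw [Nat.factorization_mul Nat.card_pos.ne' Nat.card_pos.ne',
      Nat.factorization_mul Nat.card_pos.ne' Nat.card_pos.ne', Finsupp.add_apply, Finsupp.add_apply]
    by_cases hq : q.Prime
    · exact key q hq
    · simp [Nat.factorization_eq_zero_of_not_prime _ hq]
  have f := card_mul_set X Y
  have hsub : (X : Set G) * (Y : Set G) ⊆ (K : Set G) := by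
    rintro _ ⟨x, hx, y, hy, rfl⟩
    exact K.mul_mem (hX hx) (hY hy)
  have hc : Nat.card ((X : Set G) * (Y : Set G) : Set G) = Nat.card K :=
    Nat.eq_of_mul_eq_mul_right Nat.card_pos (f.trans hcard.symm)
  exact (set_eq_of_subset_card _ _ hsub (le_of_eq hc.symm)).symm

end Cfsg.Agent.lead.CopFac
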