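import Mathlib
import Cfsg.Prelude.Def_PLocal
import Cfsg.Agent.Lib_helper1_Core
import Cfsg.Agent.Lib_helper7_Coprime
import Cfsg.Agent.Lib_helper15_Gen6
import Cfsg.Agent.Lib_lead_CopFac

set_option autoImplicit false
set_option linter.style.haveILetI false
set_option linter.unusedSectionVars false

/-! Best offenders in a faithful group with self-centralizing `p'`-core (Kurzweil–Stellmacher 9.3). -/

namespace Cfsg.Agent.helper9.Off

open Cfsg
open scoped commutatorElement

variable {G : Type*} [Group G]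

/-- `O_{p'}(H)` viewed in `G`. -/
def Qof (p : ℕ) (H : Subgroup G) : Subgroup G := (Cfsg.pPrimeCore p ↥H).map H.subtype

/-- the offender measure `|B| · |C_V(B)|` -/
noncomputable def mV (V B : Subgroup G) : ℕ := Nat.card B * Nat.card ↥(V ⊓ Subgroup.centralizer (B : Set G))

/-- The standing hypotheses. -/
structure Setup (p : ℕ) (V H : Subgroup G) : Prop where
  hV : Cfsg.IsElementaryAbelian p V
  hHV : H ≤ Subgroup.normalizer (V : Set G)
  hf : H ⊓ Subgroup.centralizer (V : Set G) = ⊥
  hS1 : Subgroup.centralizer (Cfsg.pPrimeCore p ↥H : Set ↥H) ≤ Cfsg.pPrimeCore p ↥H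

theorem Qof_le (p : ℕ) (H : Subgroup G) : Qof p H ≤ H := Subgroup.map_subtype_le _

variable [Finite G]

theorem Qof_normalizer (p : ℕ) (H : Subgroup G) :
    H ≤ Subgroup.normalizer (Qof p H : Set G) := by
  haveI := Cfsg.Agent.helper1.pPrimeCore_normal (G := ↥H) p
  have h1 := Subgroup.le_normalizer_map (H := Cfsg.pPrimeCore p ↥H) H.subtype
  rw [Subgroup.normalizer_eq_top, ← MonoidHom.range_eq_map, Subgroup.range_subtype] at h1
  exact h1

variable {p : ℕ} [Fact p.Prime]

theorem Qof_coprime (H : Subgroup G) : ¬ p ∣ Nat.card (Qof p H) := by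
  have hp : p.Prime := Fact.out
  have h1 : Nat.card (Qof p H) = Nat.card (Cfsg.pPrimeCore p ↥H) :=
    Subgroup.card_map_of_injective H.subtype_injective
  rw [h1]
  intro h
  have h2 := Cfsg.Agent.helper1.pPrimeCore_coprime (G := ↥H) p
  have h3 := Nat.Coprime.eq_one_of_dvd h2.symm h
  exact hp.one_lt.ne' h3

theorem mem_Qof_of_centralizes {V H : Subgroup G} (S : Setup p V H) {g : G} (hg : g ∈ H)
    (hc : g ∈ Subgroup.centralizer (Qof p H : Set G)) : g ∈ Qof p H := by
  have h1 : (⟨g, hg⟩ : ↥H) ∈ Subgroup.centralizer (Cfsg.pPrimeCore p ↥H : Set ↥H) := by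
    rw [Subgroup.mem_centralizer_iff]
    intro y hy
    apply Subtype.ext
    rw [Subgroup.mem_centralizer_iff] at hc
    exact hc y.1 ⟨y, hy, rfl⟩
  exact ⟨⟨g, hg⟩, S.hS1 h1, rfl⟩

theorem eq_one_of_mem_of_centralizes {V H : Subgroup G} (S : Setup p V H) {g : G} (hg : g ∈ H)
    (hc : g ∈ Subgroup.centralizer (V : Set G)) : g = 1 := by
  have h1 : g ∈ H ⊓ Subgroup.centralizer (V : Set G) := ⟨hg, hc⟩
  rw [S.hf] at h1
  exact h1

theorem best_elemAb {V H : Subgroup G} (S : Setup p V H) {A : Subgroup G} (hAH : A ≤ H)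
    (hA : Cfsg.IsBestOffenderOn p V A) : Cfsg.IsElementaryAbelian p A := by
  obtain ⟨-, hcomm, hpow⟩ := hA
  refine ⟨⟨⟨?_⟩⟩, ?_⟩
  · intro a b
    apply Subtype.ext
    have h1 : ⁅(a : G), (b : G)⁆ ∈ ⁅A, A⁆ := Subgroup.commutator_mem_commutator a.2 b.2
    have h2 : ⁅(a : G), (b : G)⁆ = 1 :=
      eq_one_of_mem_of_centralizes S
        (H.mul_mem (H.mul_mem (H.mul_mem (hAH a.2) (hAH b.2)) (H.inv_mem (hAH a.2)))
          (H.inv_mem (hAH b.2))) (hcomm h1)
    exact commutatorElement_eq_one_iff_mul_comm.mp h2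
  · intro a ha
    exact eq_one_of_mem_of_centralizes S (H.pow_mem (hAH ha) p) (hpow a ha)

theorem isPGroup_of_elemAb {A : Subgroup G} (hA : Cfsg.IsElementaryAbelian p A) :
    IsPGroup p ↥A := by
  intro a
  refine ⟨1, ?_⟩
  rw [pow_one]
  apply Subtype.ext
  rw [Subgroup.coe_pow]
  exact hA.2 a.1 a.2

theorem centralizer_bot_eq_top :
    Subgroup.centralizer (((⊥ : Subgroup G) : Subgroup G) : Set G) = ⊤ := by
  rw [Subgroup.eq_top_iff']
  intro g
  rw [Subgroup.mem_centralizer_iff]
  intro h hh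
  have : h = 1 := hh
  rw [this, one_mul, mul_one]

theorem eq_bot_of_le_Qof {H T : Subgroup G} (hT : IsPGroup p ↥T) (hTQ : T ≤ Qof p H) :
    T = ⊥ := by
  obtain ⟨k, hk⟩ := (IsPGroup.iff_card).mp hT
  have h1 : Nat.card T ∣ Nat.card (Qof p H) := Subgroup.card_dvd_of_le hTQ
  have hk0 : k = 0 := by
    by_contra hne
    apply Qof_coprime (p := p) H
    refine dvd_trans ?_ h1
    rw [hk]
    exact dvd_pow_self p hne
  rw [hk0, pow_zero] at hk
  exact Subgroup.card_eq_one.mp hk

/-- Hyperplane generation: some hyperplane centralizer in `O_{p'}(H)` fails to centralize `T`. -/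
theorem exists_hyperplane {V H : Subgroup G} (S : Setup p V H) {A T : Subgroup G} (hAH : A ≤ H)
    (hAe : Cfsg.IsElementaryAbelian p A) (hTA : T ≤ A) (hT : T ≠ ⊥) :
    ∃ B : Subgroup G, B ≤ A ∧ B.relIndex A ≤ p ∧
      ¬ (Qof p H ⊓ Subgroup.centralizer (B : Set G) ≤ Subgroup.centralizer (T : Set G)) := by
  by_contra h
  push Not at h
  have h1 := Cfsg.Agent.helper15.inf_centralizer_le_of_elementaryAbelian A (Qof p H) hAe
    (Qof_coprime H) (hAH.trans (Qof_normalizer p H)) (Subgroup.centralizer (T : Set G)) h ⊥ bot_le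
  rw [centralizer_bot_eq_top, inf_top_eq] at h1
  have h2 : T ≤ Subgroup.centralizer (Qof p H : Set G) := Subgroup.le_centralizer_iff.mp h1
  have h3 : T ≤ Qof p H := fun t ht =>
    mem_Qof_of_centralizes S (hAH (hTA ht)) (h2 ht)
  have hTp : IsPGroup p ↥T := by
    have := isPGroup_of_elemAb hAe
    exact IsPGroup.to_le this hTA
  exact hT (eq_bot_of_le_Qof hTp h3)

theorem normalizer_le_normalizer_centralizer' (W : Subgroup G) {y c : G}
    (hy : y ∈ Subgroup.normalizer (W : Set G)) (hc : c ∈ Subgroup.centralizer (W : Set G)) :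
    y * c * y⁻¹ ∈ Subgroup.centralizer (W : Set G) := by
  rw [Subgroup.mem_centralizer_iff] at hc ⊢
  intro w hw
  have h1 : y⁻¹ * w * y ∈ W := by
    have := (Subgroup.mem_normalizer_iff'.mp hy (y⁻¹ * w)).mpr (by
      rw [mul_inv_cancel_left]; exact hw)
    exact this
  have h2 := hc _ h1
  calc w * (y * c * y⁻¹) = y * ((y⁻¹ * w * y) * c) * y⁻¹ := by group
    _ = y * (c * (y⁻¹ * w * y)) * y⁻¹ := by rw [h2]
    _ = y * c * y⁻¹ * w := by group

theorem card_relIndex {A B : Subgroup G} (h : B ≤ A) : Nat.card B * B.relIndex A = Nat.card A := by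
  have := Subgroup.relIndex_mul_relIndex (⊥ : Subgroup G) B A bot_le h
  rwa [Subgroup.relIndex_bot_left, Subgroup.relIndex_bot_left] at this

/-- A `p'`-subgroup of `H` all of whose prime-power-order elements centralize `V` is trivial;
elementwise form. -/
theorem eq_one_of_primePow {V H : Subgroup G} (S : Setup p V H) {X : Subgroup G}
    (hXQ : X ≤ Qof p H)
    (hX : ∀ (q : ℕ), q.Prime → q ≠ p → ∀ x ∈ X, ∀ k : ℕ, x ^ q ^ k = 1 →
      x ∈ Subgroup.centralizer (V : Set G)) {u : G} (hu : u ∈ X) : u = 1 := by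
  by_contra hu1
  have ho : orderOf u ≠ 1 := fun h => hu1 (orderOf_eq_one_iff.mp h)
  obtain ⟨q, hq, hqd⟩ := Nat.exists_prime_and_dvd ho
  obtain ⟨m, hm⟩ := hqd
  have hmpos : 0 < m := by
    rcases Nat.eq_zero_or_pos m with h | h
    · rw [h, mul_zero] at hm
      exact absurd hm (orderOf_pos u).ne'
    · exact h
  have hord : orderOf (u ^ m) = q := by
    rw [orderOf_pow_of_dvd hmpos.ne' ⟨q, by rw [hm]; ring⟩, hm]
    exact Nat.mul_div_cancel _ hmpos
  have hqp : q ≠ p := by
    rintro rfl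
    apply Qof_coprime (p := q) H
    have h1 : orderOf u ∣ Nat.card (Qof q H) := Subgroup.orderOf_dvd_natCard _ (hXQ hu)
    exact dvd_trans ⟨m, hm⟩ h1
  have hxX : u ^ m ∈ X := X.pow_mem hu m
  have h1 := hX q hq hqp (u ^ m) hxX 1 (by rw [pow_one, ← hord]; exact pow_orderOf_eq_one _)
  have h2 := eq_one_of_mem_of_centralizes S (Qof_le p H (hXQ hxX)) h1
  rw [h2, orderOf_one] at hord
  exact hq.one_lt.ne' hord.symm

/-- A hyperplane `B` of a best offender `A` whose centralizer in `O_{p'}(H)` is moved by `A`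
has the same offender measure. -/
theorem hyperplane_mV {V H : Subgroup G} (S : Setup p V H) {A B : Subgroup G} (hAH : A ≤ H)
    (hA : Cfsg.IsBestOffenderOn p V A) (hBA : B ≤ A) (hidx : B.relIndex A = p)
    (hB : ¬ (Qof p H ⊓ Subgroup.centralizer (B : Set G) ≤ Subgroup.centralizer (A : Set G))) :
    mV V B = mV V A := by
  have hp : p.Prime := Fact.out
  have hAe := best_elemAb S hAH hA
  obtain ⟨y, hy, hyA⟩ := SetLike.not_le_iff_exists.mp hB
  obtain ⟨hyQ, hyB⟩ := Subgroup.mem_inf.mp hy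
  have hex : ∃ a ∈ A, a * y ≠ y * a := by
    by_contra h
    push Not at h
    apply hyA
    rw [Subgroup.mem_centralizer_iff]
    exact h
  obtain ⟨a, haA, hay⟩ := hex
  have hAcomm : ∀ x ∈ A, ∀ z ∈ A, x * z = z * x := fun x hx z hz =>
    congrArg Subtype.val (hAe.1.is_comm.comm ⟨x, hx⟩ ⟨z, hz⟩)
  have haB : a ∈ Subgroup.centralizer (B : Set G) := by
    rw [Subgroup.mem_centralizer_iff]
    intro b hb
    exact hAcomm b (hBA hb) a haA
  have hCle : V ⊓ Subgroup.centralizer (A : Set G) ≤ V ⊓ Subgroup.centralizer (B : Set G) :=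
    inf_le_inf_left _ (Subgroup.centralizer_le hBA)
  -- A does not centralize W = C_V(B)
  have hW : ¬ (V ⊓ Subgroup.centralizer (B : Set G) ≤ Subgroup.centralizer (A : Set G)) := by
    intro hW
    have haW : a ∈ Subgroup.centralizer
        ((V ⊓ Subgroup.centralizer (B : Set G) : Subgroup G) : Set G) :=
      (Subgroup.le_centralizer_iff.mp hW) haA
    have hyN : y ∈ Subgroup.normalizer
        ((V ⊓ Subgroup.centralizer (B : Set G) : Subgroup G) : Set G) := by
      have h1 : y ∈ Subgroup.normalizer (V : Set G) := S.hHV (Qof_le p H hyQ)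
      rw [Subgroup.mem_normalizer_iff] at h1 ⊢
      intro w
      rw [Subgroup.mem_inf, Subgroup.mem_inf, ← h1 w]
      have h2 : w ∈ Subgroup.centralizer (B : Set G) ↔
          y * w * y⁻¹ ∈ Subgroup.centralizer (B : Set G) := by
        constructor
        · intro hw
          exact Subgroup.mul_mem _ (Subgroup.mul_mem _ hyB hw) (Subgroup.inv_mem _ hyB)
        · intro hw
          have : w = y⁻¹ * (y * w * y⁻¹) * y := by group
          rw [this]
          exact Subgroup.mul_mem _ (Subgroup.mul_mem _ (Subgroup.inv_mem _ hyB) hw) hyB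
      rw [h2]
    set u : G := y * a * y⁻¹ * a⁻¹ with hu
    have huW : u ∈ Subgroup.centralizer
        ((V ⊓ Subgroup.centralizer (B : Set G) : Subgroup G) : Set G) :=
      Subgroup.mul_mem _ (normalizer_le_normalizer_centralizer' _ hyN haW)
        (Subgroup.inv_mem _ haW)
    have huB : u ∈ Subgroup.centralizer (B : Set G) :=
      Subgroup.mul_mem _ (Subgroup.mul_mem _ (Subgroup.mul_mem _ hyB haB) (Subgroup.inv_mem _ hyB))
        (Subgroup.inv_mem _ haB)
    have huQ : u ∈ Qof p H := by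
      have h1 : a ∈ Subgroup.normalizer (Qof p H : Set G) := Qof_normalizer p H (hAH haA)
      have h2 : a * y⁻¹ * a⁻¹ ∈ Qof p H :=
        (Subgroup.mem_normalizer_iff.mp h1 y⁻¹).mp (Subgroup.inv_mem _ hyQ)
      have : u = y * (a * y⁻¹ * a⁻¹) := by rw [hu]; group
      rw [this]
      exact Subgroup.mul_mem _ hyQ h2
    have hu1 : u ≠ 1 := by
      intro h
      apply hay
      have : y * a = a * y := by
        have h2 : y * a * y⁻¹ * a⁻¹ = 1 := h
        calc y * a = (y * a * y⁻¹ * a⁻¹) * (a * y) := by group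
          _ = a * y := by rw [h2, one_mul]
      exact this.symm
    -- Thompson P × Q
    apply hu1
    have hBp : IsPGroup p ↥B := IsPGroup.to_le (isPGroup_of_elemAb hAe) hBA
    have hVp : IsPGroup p ↥V := isPGroup_of_elemAb S.hV
    have key := eq_one_of_primePow S
      (X := Qof p H ⊓ Subgroup.centralizer (B : Set G) ⊓
        Subgroup.centralizer ((V ⊓ Subgroup.centralizer (B : Set G) : Subgroup G) : Set G))
      (inf_le_left.trans inf_le_left)
      (fun q hq hqp x hx k hk =>
        Cfsg.Agent.helper7.thompson_PxQ_elt (P := B)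
          (X := Qof p H ⊓ Subgroup.centralizer (B : Set G) ⊓
            Subgroup.centralizer ((V ⊓ Subgroup.centralizer (B : Set G) : Subgroup G) : Set G))
          (U := V) hBp hVp
          (Subgroup.le_centralizer_iff.mp (inf_le_left.trans inf_le_right))
          (hBA.trans (hAH.trans S.hHV))
          ((inf_le_left.trans inf_le_left).trans ((Qof_le p H).trans S.hHV))
          (Subgroup.le_centralizer_iff.mp inf_le_right)
          hq hqp hx hk)
      (u := u) ⟨⟨huQ, huB⟩, huW⟩
    exact key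
  -- cardinalities
  have hlt : V ⊓ Subgroup.centralizer (A : Set G) < V ⊓ Subgroup.centralizer (B : Set G) := by
    refine lt_of_le_of_ne hCle ?_
    intro h
    apply hW
    rw [← h]
    exact inf_le_right
  have hVBp : IsPGroup p ↥(V ⊓ Subgroup.centralizer (B : Set G)) :=
    IsPGroup.to_le (isPGroup_of_elemAb S.hV) inf_le_left
  have hcardB := card_relIndex hCle
  have hrel : p ∣ (V ⊓ Subgroup.centralizer (A : Set G)).relIndex
      (V ⊓ Subgroup.centralizer (B : Set G)) := by
    have h1 : ∃ n, ((V ⊓ Subgroup.centralizer (A : Set G)).subgroupOf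
        (V ⊓ Subgroup.centralizer (B : Set G))).index = p ^ n :=
      IsPGroup.index hVBp _
    obtain ⟨n, hn⟩ := h1
    have hn0 : n ≠ 0 := by
      rintro rfl
      rw [pow_zero] at hn
      have h2 : (V ⊓ Subgroup.centralizer (A : Set G)).relIndex
          (V ⊓ Subgroup.centralizer (B : Set G)) = 1 := hn
      rw [Subgroup.relIndex_eq_one] at h2
      exact absurd (le_antisymm hCle h2) hlt.ne
    show p ∣ ((V ⊓ Subgroup.centralizer (A : Set G)).subgroupOf
        (V ⊓ Subgroup.centralizer (B : Set G))).index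
    rw [hn]
    exact dvd_pow_self p hn0
  obtain ⟨r, hr⟩ := hrel
  have hcardA := card_relIndex hBA
  rw [hidx] at hcardA
  rw [hr] at hcardB
  have hbest := hA.1 B hBA
  unfold mV
  have hBpos : 0 < Nat.card B := Nat.card_pos
  have hCpos : 0 < Nat.card ↥(V ⊓ Subgroup.centralizer (A : Set G)) := Nat.card_pos
  have hrpos : 0 < r := by
    rcases Nat.eq_zero_or_pos r with h | h
    · rw [h, mul_zero, mul_zero] at hcardB
      exact absurd hcardB.symm Nat.card_pos.ne'
    · exact h
  -- |B| * (cA * (p * r)) ≤ (|B| * p) * cA  ⇒ r ≤ 1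
  rw [← hcardB, ← hcardA] at hbest
  have hr1 : r = 1 := by
    by_contra hne
    have hr2 : 2 ≤ r := by omega
    have h1 : Nat.card B * (Nat.card ↥(V ⊓ Subgroup.centralizer (A : Set G)) * (p * 2)) ≤
        Nat.card B * (Nat.card ↥(V ⊓ Subgroup.centralizer (A : Set G)) * (p * r)) :=
      Nat.mul_le_mul_left _ (Nat.mul_le_mul_left _ (Nat.mul_le_mul_left _ hr2))
    have h2 := le_trans h1 hbest
    have h3 : 0 < Nat.card B * Nat.card ↥(V ⊓ Subgroup.centralizer (A : Set G)) * p :=
      Nat.mul_pos (Nat.mul_pos hBpos hCpos) hp.pos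
    nlinarith
  rw [hr1, mul_one] at hcardB
  rw [← hcardB, ← hcardA]
  ring

theorem best_of_mV_eq {V A B : Subgroup G} (hA : Cfsg.IsBestOffenderOn p V A) (hBA : B ≤ A)
    (h : mV V B = mV V A) : Cfsg.IsBestOffenderOn p V B := by
  refine ⟨?_, ?_, ?_⟩
  · intro B' hB'
    have h1 := hA.1 B' (hB'.trans hBA)
    unfold mV at h
    rw [h]
    exact h1
  · exact (Subgroup.commutator_mono hBA hBA).trans hA.2.1
  · intro b hb
    exact hA.2.2 b (hBA hb)

theorem relIndex_eq_p {A B : Subgroup G} (hAp : IsPGroup p ↥A) (hBA : B ≤ A) (hne : B ≠ A)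
    (hle : B.relIndex A ≤ p) : B.relIndex A = p := by
  have hp : p.Prime := Fact.out
  obtain ⟨n, hn⟩ : ∃ n, (B.subgroupOf A).index = p ^ n := IsPGroup.index hAp _
  have hn' : B.relIndex A = p ^ n := hn
  rw [hn'] at hle ⊢
  have hn0 : n ≠ 0 := by
    rintro rfl
    rw [pow_zero] at hn'
    rw [Subgroup.relIndex_eq_one] at hn'
    exact hne (le_antisymm hBA hn')
  have hn1 : n ≤ 1 := by
    by_contra h
    push Not at h
    have h2 : p ^ 2 ≤ p ^ n := Nat.pow_le_pow_right hp.pos h
    have h3 : p ^ 2 ≤ p := le_trans h2 hle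
    have h4 : 2 ≤ p := hp.two_le
    nlinarith
  have : n = 1 := by omega
  rw [this, pow_one]

/-- Every best offender `A ≠ 1` has a hyperplane which is a best offender of the same measure;
moreover one can avoid any given nontrivial proper subgroup... (general form). -/
theorem exists_best_hyperplane {V H : Subgroup G} (S : Setup p V H) {A T : Subgroup G}
    (hAH : A ≤ H) (hA : Cfsg.IsBestOffenderOn p V A) (hTA : T ≤ A) (hT : T ≠ ⊥) :
    ∃ B : Subgroup G, B ≤ A ∧ B.relIndex A = p ∧ Cfsg.IsBestOffenderOn p V B ∧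
      mV V B = mV V A ∧ ¬ (T ≤ B) := by
  have hAe := best_elemAb S hAH hA
  obtain ⟨B, hBA, hidx, hB⟩ := exists_hyperplane S hAH hAe hTA hT
  have hAcomm : A ≤ Subgroup.centralizer (A : Set G) := by
    intro x hx
    rw [Subgroup.mem_centralizer_iff]
    intro z hz
    exact congrArg Subtype.val (hAe.1.is_comm.comm ⟨z, hz⟩ ⟨x, hx⟩)
  have hTB : ¬ (T ≤ B) := by
    intro hTB
    apply hB
    -- C(B) ≤ C(T)
    exact inf_le_right.trans (Subgroup.centralizer_le hTB)
  have hne : B ≠ A := by
    rintro rfl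
    exact hTB hTA
  have hidx' := relIndex_eq_p (isPGroup_of_elemAb hAe) hBA hne hidx
  have hB' : ¬ (Qof p H ⊓ Subgroup.centralizer (B : Set G) ≤ Subgroup.centralizer (A : Set G)) :=
    fun h => hB (h.trans (Subgroup.centralizer_le hTA))
  have hm := hyperplane_mV S hAH hA hBA hidx' hB'
  exact ⟨B, hBA, hidx', best_of_mV_eq hA hBA hm, hm, hTB⟩

/-- KS 9.3.1: best offenders have measure `|V|`. -/
theorem best_card {V H : Subgroup G} (S : Setup p V H) :
    ∀ (n : ℕ) (A : Subgroup G), Nat.card A = n → A ≤ H → Cfsg.IsBestOffenderOn p V A →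
      mV V A = Nat.card V := by
  intro n
  induction n using Nat.strong_induction_on with
  | _ n ih =>
  intro A hn hAH hA
  by_cases hA1 : A = ⊥
  · subst hA1
    unfold mV
    rw [centralizer_bot_eq_top, inf_top_eq, Subgroup.card_bot, one_mul]
  obtain ⟨B, hBA, hidx, hBbest, hm, -⟩ := exists_best_hyperplane S hAH hA le_rfl hA1
  have hp : p.Prime := Fact.out
  have hcard := card_relIndex hBA
  rw [hidx] at hcard
  have hlt : Nat.card B < n := by
    rw [← hn, ← hcard]
    have : 0 < Nat.card B := Nat.card_pos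
    have := hp.two_le
    nlinarith
  rw [← hm]
  exact ih _ hlt B rfl (hBA.trans hAH) hBbest

end Cfsg.Agent.helper9.Off
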