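import Mathlib
import Cfsg.Agent.Lib_helper4_PS1
import Cfsg.Agent.Lib_helper9_Offender
import Cfsg.Agent.Lib_helper15_AG2

set_option autoImplicit false
set_option linter.style.haveILetI false
open Cfsg

/-!
# No over-offenders in `p`-solvable groups

If `V` is a normal elementary abelian `p`-subgroup of the `p`-solvable group `G` with
`O_p(G/C_G(V)) = 1`, then `|A C_G(V)/C_G(V)| · |C_V(A)| ≤ |V|` for every elementary abelian
`p`-subgroup `A` of `G`.
-/

namespace Cfsg.Agent.helper4.PS

open Cfsg.Agent.helper23 Cfsg.Agent.helper9.Off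

/-- In the faithful setting: no elementary abelian subgroup is an over-offender. -/
theorem mV_le_card {𝔾 : Type*} [Group 𝔾] [Finite 𝔾] {p : ℕ} [Fact p.Prime] {V H : Subgroup 𝔾}
    (S : Setup p V H) (A : Subgroup 𝔾) (hAH : A ≤ H) (hA : Cfsg.IsElementaryAbelian p A) :
    mV V A ≤ Nat.card V := by
  classical
  let T := {B : Subgroup 𝔾 // B ≤ A}
  haveI : Nonempty T := ⟨⟨A, le_rfl⟩⟩
  haveI : Finite T := Subtype.finite
  obtain ⟨⟨B, hBA⟩, hmax⟩ := Finite.exists_max (fun B : T => mV V B.1)
  have hBbest : Cfsg.IsBestOffenderOn p V B := by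
    refine ⟨fun B' hB' => hmax ⟨B', hB'.trans hBA⟩, ?_, ?_⟩
    · have hcomm : ⁅B, B⁆ = ⊥ := by
        rw [Subgroup.commutator_eq_bot_iff_le_centralizer]
        intro x hx
        rw [Subgroup.mem_centralizer_iff]
        intro y hy
        have := hA.1
        exact congrArg Subtype.val
          (this.is_comm.comm (⟨y, hBA hy⟩ : A) ⟨x, hBA hx⟩)
      rw [hcomm]
      exact bot_le
    · intro b hb
      rw [hA.2 b (hBA hb)]
      exact Subgroup.one_mem _
  have h1 := best_card S _ B rfl (hBA.trans hAH) hBbest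
  rw [← h1]
  exact hmax ⟨A, le_rfl⟩


section model

variable {G : Type*} [Group G] (V : Subgroup G) [V.Normal]

/-- the action of `G / C_G(V)` on `V` -/
noncomputable def actQ : (G ⧸ Subgroup.centralizer (V : Set G)) →* MulAut ↥V :=
  QuotientGroup.lift _ (MulAut.conjNormal (H := V)) (by
    intro c hc
    rw [MonoidHom.mem_ker]
    ext v
    rw [MulAut.conjNormal_apply, MulAut.one_apply]
    rw [Subgroup.mem_centralizer_iff] at hc
    rw [← hc v v.2, mul_inv_cancel_right])

theorem actQ_mk (g : G) (v : V) :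
    ((actQ V (QuotientGroup.mk g) v : V) : G) = g * v * g⁻¹ := by
  unfold actQ
  rw [QuotientGroup.lift_mk, MulAut.conjNormal_apply]

theorem actQ_injective : Function.Injective (actQ V) := by
  rw [injective_iff_map_eq_one]
  intro q hq
  obtain ⟨g, rfl⟩ := QuotientGroup.mk_surjective q
  rw [QuotientGroup.eq_one_iff, Subgroup.mem_centralizer_iff]
  intro v hv
  have := actQ_mk V g ⟨v, hv⟩
  rw [hq, MulAut.one_apply] at this
  simp only at this
  calc v * g = (g * v * g⁻¹) * g := by rw [← this]
    _ = g * v := by group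

/-- the model group `V ⋊ G/C_G(V)` -/
abbrev Model : Type _ := ↥V ⋊[actQ V] (G ⧸ Subgroup.centralizer (V : Set G))

instance [Finite G] : Finite (Model V) :=
  Finite.of_equiv _ SemidirectProduct.equivProd.symm

/-- the copy of `V` in the model -/
noncomputable def mV' : Subgroup (Model V) := (SemidirectProduct.inl : ↥V →* Model V).range

/-- the copy of `G/C_G(V)` in the model -/
noncomputable def mH' : Subgroup (Model V) :=
  (SemidirectProduct.inr : (G ⧸ Subgroup.centralizer (V : Set G)) →* Model V).range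

theorem inr_mul_inl (q : G ⧸ Subgroup.centralizer (V : Set G)) (v : V) :
    (SemidirectProduct.inr q : Model V) * SemidirectProduct.inl v =
      SemidirectProduct.inl (actQ V q v) * SemidirectProduct.inr q := by
  rw [SemidirectProduct.inl_aut, map_inv, inv_mul_cancel_right]

theorem setup_model [Finite G] {p : ℕ} [Fact p.Prime] (hsep : Cfsg.IsPSolvable p G)
    (hV : Cfsg.IsElementaryAbelian p V)
    (hO : Cfsg.pCore p (G ⧸ Subgroup.centralizer (V : Set G)) = ⊥) :
    Setup p (mV' V) (mH' V) := by
  have hp : p.Prime := Fact.out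
  refine ⟨⟨?_, ?_⟩, ?_, ?_, ?_⟩
  · refine ⟨⟨?_⟩⟩
    rintro ⟨_, ⟨a, rfl⟩⟩ ⟨_, ⟨b, rfl⟩⟩
    apply Subtype.ext
    show (SemidirectProduct.inl a : Model V) * SemidirectProduct.inl b =
      SemidirectProduct.inl b * SemidirectProduct.inl a
    rw [← map_mul, ← map_mul]
    congr 1
    have := hV.1
    exact this.is_comm.comm a b
  · rintro _ ⟨a, rfl⟩
    rw [← map_pow]
    have : a ^ p = 1 := Subtype.ext (by simpa using hV.2 a a.2)
    rw [this, map_one]
  · have : (mV' V).Normal := by
      unfold mV'
      rw [SemidirectProduct.range_inl_eq_ker_rightHom]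
      infer_instance
    rw [Subgroup.normalizer_eq_top]
    exact le_top
  · rw [eq_bot_iff]
    rintro x ⟨⟨q, rfl⟩, hx⟩
    rw [Subgroup.mem_bot]
    have hx : (SemidirectProduct.inr q : Model V) ∈ Subgroup.centralizer ((mV' V : Subgroup (Model V)) : Set (Model V)) := hx
    rw [Subgroup.mem_centralizer_iff] at hx
    have hq : actQ V q = 1 := by
      ext v
      have h1 := hx (SemidirectProduct.inl v) ⟨v, rfl⟩
      rw [inr_mul_inl] at h1
      have h2 := mul_right_cancel h1
      have h3 := SemidirectProduct.inl_injective h2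
      rw [MulAut.one_apply, ← h3]
    have : q = 1 := actQ_injective V (by rw [hq, map_one])
    rw [this, map_one]
  · -- the `p'`-core is self-centralizing
    have hps : PSReach p (⊤ : Subgroup (G ⧸ Subgroup.centralizer (V : Set G))) := by
      rw [← isPSolvable_iff_psreach]
      exact isPSolvable_of_surjective hp (QuotientGroup.mk' _) (QuotientGroup.mk'_surjective _) hsep
    have hQ := hall_higman_123' hps hO
    let e : (G ⧸ Subgroup.centralizer (V : Set G)) ≃* ↥(mH' V) :=
      MonoidHom.ofInjective SemidirectProduct.inr_injective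
    have hmap := Cfsg.Agent.helper15.pPrimeCore_map_equiv p e
    intro y hy
    rw [← hmap]
    refine ⟨e.symm y, hQ ?_, by simp⟩
    rw [Subgroup.mem_centralizer_iff]
    intro x hx
    have hex : e x ∈ Cfsg.pPrimeCore p ↥(mH' V) := by
      rw [← hmap]
      exact ⟨x, hx, rfl⟩
    rw [Subgroup.mem_centralizer_iff] at hy
    have h1 := hy (e x) hex
    apply e.injective
    rw [map_mul, map_mul, MulEquiv.apply_symm_apply]
    exact h1


/-- **No over-offenders**: `|A C/C| · |C_V(A)| ≤ |V|`. -/
theorem no_over_offender [Finite G] {p : ℕ} [Fact p.Prime] (hsep : Cfsg.IsPSolvable p G)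
    (hV : Cfsg.IsElementaryAbelian p V)
    (hO : Cfsg.pCore p (G ⧸ Subgroup.centralizer (V : Set G)) = ⊥)
    (A : Subgroup G) (hA : Cfsg.IsElementaryAbelian p A) :
    Nat.card (A.map (QuotientGroup.mk' (Subgroup.centralizer (V : Set G)))) *
      Nat.card ↥(V ⊓ Subgroup.centralizer (A : Set G)) ≤ Nat.card V := by
  have S := setup_model V hsep hV hO
  let Ā : Subgroup (Model V) :=
    (A.map (QuotientGroup.mk' (Subgroup.centralizer (V : Set G)))).map SemidirectProduct.inr
  have hĀH : Ā ≤ mH' V := by
    rintro _ ⟨q, _, rfl⟩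
    exact ⟨q, rfl⟩
  have hĀe : Cfsg.IsElementaryAbelian p Ā := by
    refine ⟨⟨⟨?_⟩⟩, ?_⟩
    · rintro ⟨_, ⟨_, ⟨a, ha, rfl⟩, rfl⟩⟩ ⟨_, ⟨_, ⟨b, hb, rfl⟩, rfl⟩⟩
      apply Subtype.ext
      show (SemidirectProduct.inr (QuotientGroup.mk' _ a) : Model V) *
          SemidirectProduct.inr (QuotientGroup.mk' _ b) =
        SemidirectProduct.inr (QuotientGroup.mk' _ b) * SemidirectProduct.inr (QuotientGroup.mk' _ a)
      rw [← map_mul, ← map_mul, ← map_mul, ← map_mul]
      have := hA.1
      have hab : a * b = b * a := congrArg Subtype.val (this.is_comm.comm (⟨a, ha⟩ : A) ⟨b, hb⟩)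
      rw [hab]
    · rintro _ ⟨_, ⟨a, ha, rfl⟩, rfl⟩
      rw [← map_pow, ← map_pow, hA.2 a ha, map_one, map_one]
  have hmain := mV_le_card S Ā hĀH hĀe
  unfold mV at hmain
  have hcardĀ : Nat.card Ā =
      Nat.card (A.map (QuotientGroup.mk' (Subgroup.centralizer (V : Set G)))) :=
    Subgroup.card_map_of_injective SemidirectProduct.inr_injective
  have hcardV : Nat.card (mV' V) = Nat.card V := by
    unfold mV'
    rw [← Subgroup.card_top (G := ↥V), ← Subgroup.card_map_of_injective
      (SemidirectProduct.inl_injective (φ := actQ V)) (K := (⊤ : Subgroup ↥V)),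
      MonoidHom.range_eq_map]
  have hfix : mV' V ⊓ Subgroup.centralizer (Ā : Set (Model V)) =
      ((V ⊓ Subgroup.centralizer (A : Set G)).subgroupOf V).map SemidirectProduct.inl := by
    ext x
    constructor
    · rintro ⟨⟨v, rfl⟩, hx⟩
      refine ⟨v, ?_, rfl⟩
      rw [SetLike.mem_coe, Subgroup.mem_subgroupOf]
      refine ⟨v.2, ?_⟩
      show (v : G) ∈ Subgroup.centralizer (A : Set G)
      rw [Subgroup.mem_centralizer_iff]
      intro a ha
      have hx' : (SemidirectProduct.inl v : Model V) ∈
          Subgroup.centralizer ((Ā : Subgroup (Model V)) : Set (Model V)) := hx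
      rw [Subgroup.mem_centralizer_iff] at hx'
      have h1 := hx' (SemidirectProduct.inr (QuotientGroup.mk' _ a)) ⟨_, ⟨a, ha, rfl⟩, rfl⟩
      rw [inr_mul_inl] at h1
      have h2 := SemidirectProduct.inl_injective (mul_right_cancel h1)
      have h3 := congrArg Subtype.val h2
      rw [QuotientGroup.mk'_apply, actQ_mk] at h3
      calc a * (v : G) = (a * v * a⁻¹) * a := by group
        _ = v * a := by rw [h3]
    · rintro ⟨v, hv, rfl⟩
      rw [SetLike.mem_coe, Subgroup.mem_subgroupOf] at hv
      refine ⟨⟨v, rfl⟩, ?_⟩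
      show (SemidirectProduct.inl v : Model V) ∈
          Subgroup.centralizer ((Ā : Subgroup (Model V)) : Set (Model V))
      rw [Subgroup.mem_centralizer_iff]
      rintro _ ⟨_, ⟨a, ha, rfl⟩, rfl⟩
      rw [inr_mul_inl]
      congr 2
      apply Subtype.ext
      rw [QuotientGroup.mk'_apply, actQ_mk]
      have := (Subgroup.mem_centralizer_iff.mp hv.2) a ha
      calc a * (v : G) * a⁻¹ = (v * a) * a⁻¹ := by rw [this]
        _ = v := by group
  have hcardfix : Nat.card ↥(mV' V ⊓ Subgroup.centralizer (Ā : Set (Model V))) =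
      Nat.card ↥(V ⊓ Subgroup.centralizer (A : Set G)) := by
    rw [hfix, Subgroup.card_map_of_injective SemidirectProduct.inl_injective]
    exact Nat.card_congr (Subgroup.subgroupOfEquivOfLe inf_le_left).toEquiv
  rw [hcardĀ, hcardV, hcardfix] at hmain
  exact hmain

end model

end Cfsg.Agent.helper4.PS
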