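import Mathlib
import Cfsg.Agent.Lib_helper25_PrimeIdx4
import Cfsg.Agent.Lib_helper25_PPRes2
import Cfsg.Agent.Lib_helper25_Saturated

set_option autoImplicit false
set_option linter.unusedSectionVars false
set_option linter.unusedVariables false
set_option linter.style.haveILetI false
set_option maxHeartbeats 1600000

/-!
# A group-theoretic criterion for the simplicity of the fusion system of a finite group
-/

namespace Cfsg.Agent.helper4.Pf

open Cfsg Cfsg.FusionSystem Cfsg.Agent.helper25

variable {G : Type*} [Group G]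

/-- no proper nontrivial subgroup of `S` is closed under `G`-fusion in `S` -/
def GoodA (S : Subgroup G) : Prop :=
  ∀ T : Subgroup G, T ≤ S → (∀ x ∈ T, ∀ g : G, g * x * g⁻¹ ∈ S → g * x * g⁻¹ ∈ T) → T = ⊥ ∨ T = S

/-- the generating set for the normalizer: elements of `N_G(S)` lying in the subgroup generated by
the `p`-elements of `N_G(R)` for some `R ≤ S` with `C_G(R) ≤ R` -/
def genSet (p : ℕ) (S : Subgroup G) : Set G :=
  {h : G | h ∈ Subgroup.normalizer (S : Set G) ∧ ∃ R : Subgroup G, R ≤ S ∧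
    Subgroup.centralizer (R : Set G) ≤ R ∧
    h ∈ Subgroup.closure {k : G | k ∈ Subgroup.normalizer (R : Set G) ∧ ∃ j : ℕ, orderOf k = p ^ j}}

def GoodB (p : ℕ) (S : Subgroup G) : Prop :=
  ∀ g ∈ Subgroup.normalizer (S : Set G), g ∈ Subgroup.closure (genSet p S)

theorem normAut_mul' (R : Subgroup G) (a b : G) (ha : a ∈ Subgroup.normalizer (R : Set G))
    (hb : b ∈ Subgroup.normalizer (R : Set G)) :
    normAut R (a * b) (Subgroup.mul_mem _ ha hb) = normAut R a ha * normAut R b hb := by
  ext x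
  rw [MulAut.mul_apply, normAut_coe, normAut_coe, normAut_coe]
  group

theorem normAut_one' (R : Subgroup G) :
    normAut R 1 (Subgroup.one_mem _) = 1 := by
  ext x
  rw [normAut_coe]
  simp

theorem normAut_inv' (R : Subgroup G) (a : G) (ha : a ∈ Subgroup.normalizer (R : Set G)) :
    normAut R a⁻¹ (Subgroup.inv_mem _ ha) = (normAut R a ha)⁻¹ := by
  rw [eq_inv_iff_mul_eq_one]
  ext x
  rw [MulAut.mul_apply, normAut_coe, normAut_coe]
  simp only [inv_inv, MulAut.one_apply]
  group

/-- elements generated by `p`-elements of `N_G(R)` induce automorphisms in `O^{p'}(Aut_F(R))` -/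
theorem normAut_mem_oppSub {p : ℕ} [Fact p.Prime] {S : Subgroup G} (F : FusionSystem S)
    (hF : ∀ (R : Subgroup G) (h : G), R ≤ S → h ∈ Subgroup.normalizer (R : Set G) →
      conjHom R h ∈ F.Hom R)
    {R : Subgroup G} (hRS : R ≤ S) :
    ∀ g' ∈ Subgroup.closure {g : G | g ∈ Subgroup.normalizer (R : Set G) ∧
        ∃ k : ℕ, orderOf g = p ^ k}, ∃ hgN : g' ∈ Subgroup.normalizer (R : Set G),
        normAut R g' hgN ∈ oppSub p (F.autGroup R) := by
  intro g' hg'
  induction hg' using Subgroup.closure_induction with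
  | mem h hh =>
    obtain ⟨hN, k, hk⟩ := hh
    refine ⟨hN, ?_⟩
    have hmemF : normAut R h hN ∈ F.autGroup R := by
      rw [mem_autGroup_iff _ hRS]
      have e : R.subtype.comp (normAut R h hN).toMonoidHom = conjHom R h := by
        ext x; rfl
      unfold IsFIso
      rw [e]
      exact hF R h hRS hN
    have hdvd : orderOf (normAut R h hN) ∣ p ^ k := by
      have h1 : orderOf (normAut R h hN) ∣ orderOf (⟨h, hN⟩ : Subgroup.normalizer (R : Set G)) :=
        orderOf_map_dvd _ _
      rw [Subgroup.orderOf_mk, hk] at h1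
      exact h1
    obtain ⟨j, -, hj⟩ := (Nat.dvd_prime_pow (Fact.out : p.Prime)).mp hdvd
    exact mem_oppSub_of_orderOf hmemF hj
  | one =>
    refine ⟨Subgroup.one_mem _, ?_⟩
    rw [normAut_one']
    exact Subgroup.one_mem _
  | mul a b _ _ iha ihb =>
    obtain ⟨haN, ha'⟩ := iha
    obtain ⟨hbN, hb'⟩ := ihb
    refine ⟨Subgroup.mul_mem _ haN hbN, ?_⟩
    rw [normAut_mul' R a b haN hbN]
    exact Subgroup.mul_mem _ ha' hb'
  | inv a _ iha =>
    obtain ⟨haN, ha'⟩ := iha
    refine ⟨Subgroup.inv_mem _ haN, ?_⟩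
    rw [normAut_inv' R a haN]
    exact Subgroup.inv_mem _ ha'

theorem simple_of_good [Finite G] (p : ℕ) [Fact p.Prime] (S : Sylow p G)
    (hS1 : (S : Subgroup G) ≠ ⊥) (hA : GoodA (S : Subgroup G)) (hB : GoodB p (S : Subgroup G)) :
    (groupFusionSystem (S : Subgroup G)).IsSimple p := by
  classical
  have hSp : IsPGroup p (S : Subgroup G) := S.isPGroup'
  have hFsat : (groupFusionSystem (S : Subgroup G)).IsSaturated p := groupFS_isSaturated S
  have hFconj : ∀ (R : Subgroup G) (h : G), R ≤ (S : Subgroup G) →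
      h ∈ Subgroup.normalizer (R : Set G) →
      conjHom R h ∈ (groupFusionSystem (S : Subgroup G)).Hom R := by
    intro R h hRS hN
    refine ⟨hRS, fun x => hRS ?_, h, fun x => rfl⟩
    exact (Subgroup.mem_normalizer_iff.mp hN x).mp x.2
  refine ⟨hFsat, hS1, ?_⟩
  intro T E hE
  obtain ⟨⟨hEsat, -, hinv⟩, -⟩ := hE
  have hsc := hinv.2.1
  have hTcases : T = ⊥ ∨ T = (S : Subgroup G) := by
    apply hA T hsc.1
    intro x hx g hgx
    have hR : Subgroup.zpowers x ≤ T := by
      rw [Subgroup.zpowers_le]; exact hx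
    have hφ : conjHom (Subgroup.zpowers x) g ∈
        (groupFusionSystem (S : Subgroup G)).Hom (Subgroup.zpowers x) := by
      refine ⟨hR.trans hsc.1, ?_, g, fun y => rfl⟩
      rintro ⟨y, hy⟩
      obtain ⟨i, rfl⟩ := Subgroup.mem_zpowers_iff.mp hy
      show g * x ^ i * g⁻¹ ∈ (S : Subgroup G)
      have : g * x ^ i * g⁻¹ = (g * x * g⁻¹) ^ i := by rw [conj_zpow]
      rw [this]
      exact Subgroup.zpow_mem _ hgx i
    exact hsc.2 _ hR _ hφ ⟨x, Subgroup.mem_zpowers _⟩
  rcases hTcases with hT | hT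
  · exact Or.inl hT
  right
  subst hT
  refine ⟨rfl, fun P => Set.Subset.antisymm (hinv.1 P) ?_⟩
  have hopp := opp_le_of_invariant hSp (groupFusionSystem (S : Subgroup G)) hFsat E hinv
  -- every element of the closure of the generating set induces an automorphism in `E`
  have hgen : ∀ g ∈ Subgroup.closure (genSet p (S : Subgroup G)),
      ∃ hg : g ∈ Subgroup.normalizer ((S : Subgroup G) : Set G),
        normAut (S : Subgroup G) g hg ∈ E.autGroup (S : Subgroup G) := by
    intro g hg
    induction hg using Subgroup.closure_induction with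
    | mem h hh =>
      obtain ⟨hN, R, hRS, hRc, hcl⟩ := hh
      refine ⟨hN, ?_⟩
      rw [mem_autGroup_iff E le_rfl]
      unfold IsFIso
      have hψF : (S : Subgroup G).subtype.comp (normAut (S : Subgroup G) h hN).toMonoidHom ∈
          (groupFusionSystem (S : Subgroup G)).Hom (S : Subgroup G) :=
        ⟨le_rfl, fun x => (normAut (S : Subgroup G) h hN x).2, h, fun x => rfl⟩
      have hRcent : (groupFusionSystem (S : Subgroup G)).IsCentric R := by
        refine ⟨hRS, ?_⟩
        rintro Q ⟨φ, hφ, rfl⟩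
        obtain ⟨-, -, g, hg⟩ := hφ
        intro c hc
        have hcC : c ∈ Subgroup.centralizer (φ.range : Set G) := hc.2
        have h1 : g⁻¹ * c * g ∈ Subgroup.centralizer (R : Set G) := by
          rw [Subgroup.mem_centralizer_iff]
          intro r hr
          have h2 := Subgroup.mem_centralizer_iff.mp hcC (φ ⟨r, hr⟩) ⟨⟨r, hr⟩, rfl⟩
          rw [hg] at h2
          have h3 : g * r * g⁻¹ * c = c * (g * r * g⁻¹) := h2
          calc r * (g⁻¹ * c * g) = g⁻¹ * (g * r * g⁻¹ * c) * g := by group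
            _ = g⁻¹ * (c * (g * r * g⁻¹)) * g := by rw [h3]
            _ = g⁻¹ * c * g * r := by group
        have h4 := hRc h1
        refine ⟨⟨g⁻¹ * c * g, h4⟩, ?_⟩
        rw [hg]
        show g * (g⁻¹ * c * g) * g⁻¹ = c
        group
      obtain ⟨hgN, hmem⟩ := normAut_mem_oppSub (groupFusionSystem (S : Subgroup G)) hFconj hRS h hcl
      have hE' := hopp R hRS hmem
      rw [mem_autGroup_iff E hRS] at hE'
      apply mem_of_restrict_centric hSp (groupFusionSystem (S : Subgroup G)) hFsat E hEsat hinv.1 hψF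
        (Nat.card (S : Subgroup G)) R hRcent hRS (Nat.sub_le _ _)
      have e : ((S : Subgroup G).subtype.comp (normAut (S : Subgroup G) h hN).toMonoidHom).comp
          (Subgroup.inclusion hRS) = R.subtype.comp (normAut R h hgN).toMonoidHom := by
        ext x
        rfl
      rw [e]
      exact hE'
    | one =>
      refine ⟨Subgroup.one_mem _, ?_⟩
      rw [normAut_one']
      exact Subgroup.one_mem _
    | mul a b _ _ iha ihb =>
      obtain ⟨haN, ha'⟩ := iha
      obtain ⟨hbN, hb'⟩ := ihb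
      refine ⟨Subgroup.mul_mem _ haN hbN, ?_⟩
      rw [normAut_mul' _ a b haN hbN]
      exact Subgroup.mul_mem _ ha' hb'
    | inv a _ iha =>
      obtain ⟨haN, ha'⟩ := iha
      refine ⟨Subgroup.inv_mem _ haN, ?_⟩
      rw [normAut_inv' _ a haN]
      exact Subgroup.inv_mem _ ha'
  have key : ∀ α ∈ (groupFusionSystem (S : Subgroup G)).autGroup (S : Subgroup G),
      (S : Subgroup G).subtype.comp α.toMonoidHom ∈ E.Hom (S : Subgroup G) := by
    intro α hα
    rw [mem_autGroup_iff _ le_rfl] at hα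
    obtain ⟨-, -, g, hg⟩ := hα
    have hg' : ∀ x : (S : Subgroup G), ((α x : (S : Subgroup G)) : G) = g * x * g⁻¹ := fun x => hg x
    have hgN : g ∈ Subgroup.normalizer ((S : Subgroup G) : Set G) := by
      apply mem_normalizer_of_surj
      · intro y hy
        rw [← hg' ⟨y, hy⟩]
        exact (α ⟨y, hy⟩).2
      · intro y hy
        refine ⟨α.symm ⟨y, hy⟩, (α.symm ⟨y, hy⟩).2, ?_⟩
        rw [← hg', MulEquiv.apply_symm_apply]
    obtain ⟨hgN', hmem⟩ := hgen g (hB g hgN)
    rw [mem_autGroup_iff E le_rfl] at hmem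
    have e : (S : Subgroup G).subtype.comp α.toMonoidHom =
        (S : Subgroup G).subtype.comp (normAut (S : Subgroup G) g hgN').toMonoidHom := by
      ext x
      exact hg' x
    rw [e]
    exact hmem
  intro φ hφ
  have hPS : P ≤ (S : Subgroup G) := hφ.1
  obtain ⟨α, hα, φ₀, hφ₀, hfac⟩ := hinv.2.2.2 P hPS φ hφ
  have h₀S : ∀ x : P, φ₀ x ∈ (S : Subgroup G) := (E.le_of_mem hφ₀).2
  have hcomp := E.comp_mem hφ₀ (key α hα) h₀S
  have heq : φ = ((S : Subgroup G).subtype.comp α.toMonoidHom).comp
      (φ₀.codRestrict (S : Subgroup G) h₀S) := by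
    ext x
    rw [hfac x (h₀S x)]
    rfl
  rw [heq]
  exact hcomp

end Cfsg.Agent.helper4.Pf
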