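import Mathlib
import Cfsg.Agent.Lib_helper4_PfA

set_option autoImplicit false
set_option linter.unusedSectionVars false
set_option linter.unusedVariables false
set_option linter.style.haveILetI false
set_option maxHeartbeats 1600000

/-!
# Transport of the simplicity criterion along automorphisms of the group
-/

namespace Cfsg.Agent.helper4.Pf

variable {G : Type*} [Group G]

theorem mem_normalizer_map (θ : G ≃* G) (H : Subgroup G) {g : G}
    (hg : g ∈ Subgroup.normalizer (H : Set G)) :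
    θ g ∈ Subgroup.normalizer ((H.map θ.toMonoidHom : Subgroup G) : Set G) := by
  rw [← Subgroup.map_equiv_normalizer_eq]
  exact ⟨g, hg, rfl⟩

theorem goodA_map (θ : G ≃* G) (S : Subgroup G) (h : GoodA S) :
    GoodA (S.map θ.toMonoidHom) := by
  intro T' hT' hcl
  have hT : T'.comap θ.toMonoidHom ≤ S := by
    intro x hx
    have h1 : θ x ∈ S.map θ.toMonoidHom := hT' hx
    rw [Subgroup.mem_map_equiv] at h1
    simpa using h1
  have hclT : ∀ x ∈ T'.comap θ.toMonoidHom, ∀ g : G, g * x * g⁻¹ ∈ S →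
      g * x * g⁻¹ ∈ T'.comap θ.toMonoidHom := by
    intro x hx g hg
    show θ (g * x * g⁻¹) ∈ T'
    rw [map_mul, map_mul, map_inv]
    apply hcl (θ x) hx (θ g)
    rw [← map_inv, ← map_mul, ← map_mul, Subgroup.mem_map_equiv]
    simpa using hg
  have hsurj : Function.Surjective θ.toMonoidHom := θ.surjective
  have hmap : (T'.comap θ.toMonoidHom).map θ.toMonoidHom = T' :=
    Subgroup.map_comap_eq_self_of_surjective hsurj T'
  rcases h _ hT hclT with h0 | h0
  · left
    rw [← hmap, h0, Subgroup.map_bot]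
  · right
    rw [← hmap, h0]

theorem goodB_map (p : ℕ) (θ : G ≃* G) (S : Subgroup G) (h : GoodB p S) :
    GoodB p (S.map θ.toMonoidHom) := by
  intro g' hg'
  rw [← Subgroup.map_equiv_normalizer_eq] at hg'
  obtain ⟨g, hg, rfl⟩ := hg'
  have h1 := h g hg
  have h2 : θ.toMonoidHom g ∈ (Subgroup.closure (genSet p S)).map θ.toMonoidHom := ⟨g, h1, rfl⟩
  rw [MonoidHom.map_closure] at h2
  refine (Subgroup.closure_mono ?_) h2
  rintro _ ⟨k, ⟨hkN, R, hRS, hRc, hkcl⟩, rfl⟩
  refine ⟨mem_normalizer_map θ S hkN, R.map θ.toMonoidHom, Subgroup.map_mono hRS, ?_, ?_⟩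
  · intro c' hc'
    rw [Subgroup.mem_map_equiv]
    apply hRc
    rw [Subgroup.mem_centralizer_iff]
    intro r hr
    have h3 := Subgroup.mem_centralizer_iff.mp hc' (θ r) ⟨r, hr, rfl⟩
    have h4 := congrArg θ.symm h3
    simpa using h4
  · have h3 : θ.toMonoidHom k ∈ (Subgroup.closure {k : G | k ∈ Subgroup.normalizer (R : Set G) ∧
        ∃ j : ℕ, orderOf k = p ^ j}).map θ.toMonoidHom := ⟨k, hkcl, rfl⟩
    rw [MonoidHom.map_closure] at h3
    refine (Subgroup.closure_mono ?_) h3
    rintro _ ⟨m, ⟨hmN, j, hj⟩, rfl⟩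
    refine ⟨mem_normalizer_map θ R hmN, j, ?_⟩
    rw [← hj]
    exact MulEquiv.orderOf_eq θ m

end Cfsg.Agent.helper4.Pf
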