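import Mathlib
import Cfsg.Agent.Lib_helper14_AutPslG

set_option autoImplicit false
set_option linter.unusedSectionVars false
set_option linter.unusedVariables false
set_option linter.style.haveILetI false
set_option maxHeartbeats 1600000

/-!
# The unitriangular subgroup of `SL_n(F)`: generation by transvections
-/

namespace Cfsg.Agent.helper4.Pf

open Matrix Cfsg.Agent.helper14

variable {n : ℕ} {F : Type*} [Field F]

theorem transvection_mem_UU [Finite F] {i j : Fin n} (hij : i < j) (s : F) :
    SpecialLinearGroup.transvection (ne_of_lt hij) s ∈ UU n F := by
  rw [mem_UU]
  intro a b hba
  rw [SpecialLinearGroup.transvection_coe, add_sub_cancel_left, Matrix.single_apply]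
  rw [if_neg]
  rintro ⟨rfl, rfl⟩
  exact absurd hij (not_lt.mpr hba)

theorem transvection_pow {i j : Fin n} (hij : i ≠ j) (s : F) (m : ℕ) :
    (SpecialLinearGroup.transvection hij s) ^ m = SpecialLinearGroup.transvection hij (m • s) := by
  induction m with
  | zero => simp
  | succ m ih =>
    rw [pow_succ, ih, ← SpecialLinearGroup.transvection_add, succ_nsmul]

theorem transvection_pow_char {i j : Fin n} (hij : i ≠ j) (s : F) (p : ℕ) [CharP F p] :
    (SpecialLinearGroup.transvection hij s) ^ p = 1 := by
  rw [transvection_pow]
  have : (p • s : F) = 0 := by
    rw [nsmul_eq_mul, CharP.cast_eq_zero, zero_mul]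
  rw [this, SpecialLinearGroup.transvection_coeff_zero]

/-- positions `(i, j)`, `i < j`, with index below `t` are cleared -/
def Cleared (t : ℕ) (u : SpecialLinearGroup (Fin n) F) : Prop :=
  ∀ i j : Fin n, i < j → (j.val - i.val) * n + i.val < t → u i j = 0

theorem UU_le_of_transvections [Finite F] (H : Subgroup (SpecialLinearGroup (Fin n) F))
    (hH : ∀ (i j : Fin n) (hij : i < j) (s : F),
      SpecialLinearGroup.transvection (ne_of_lt hij) s ∈ H) : UU n F ≤ H := by
  have main : ∀ d t : ℕ, d + t = n * n → ∀ u ∈ UU n F, Cleared t u → u ∈ H := by
    intro d
    induction d with
    | zero =>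
      intro t ht u hu hcl
      have hone : u = 1 := by
        apply Subtype.ext
        ext i j
        rw [Matrix.SpecialLinearGroup.coe_one]
        rcases lt_trichotomy i j with h | h | h
        · rw [Matrix.one_apply_ne (ne_of_lt h)]
          apply hcl i j h
          have h1 : j.val - i.val < n := by have := j.2; omega
          have h2 : i.val < n := i.2
          have : (j.val - i.val) * n + i.val < n * n := by
            calc (j.val - i.val) * n + i.val < (j.val - i.val) * n + n := by omega
              _ = (j.val - i.val + 1) * n := by ring
              _ ≤ n * n := Nat.mul_le_mul_right n (by omega)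
          omega
        · subst h
          rw [Matrix.one_apply_eq]
          exact UU_entry_diag hu i
        · rw [Matrix.one_apply_ne (ne_of_gt h)]
          exact UU_entry_lt hu h
      rw [hone]
      exact H.one_mem
    | succ d ih =>
      intro t ht u hu hcl
      by_cases hpos : 1 ≤ t / n ∧ t % n + t / n < n
      · obtain ⟨hk1, hmk⟩ := hpos
        have hn0 : 0 < n := by omega
        set i0 : Fin n := ⟨t % n, by omega⟩ with hi0
        set j0 : Fin n := ⟨t % n + t / n, hmk⟩ with hj0
        have hij0 : i0 < j0 := by
          rw [Fin.lt_def]; show t % n < t % n + t / n; omega
        have hidx : (j0.val - i0.val) * n + i0.val = t := by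
          show (t % n + t / n - t % n) * n + t % n = t
          rw [Nat.add_sub_cancel_left]
          have := Nat.div_add_mod t n
          linarith [Nat.mul_comm n (t / n)]
        set s := u i0 j0 with hs
        set u' := u * SpecialLinearGroup.transvection (ne_of_lt hij0) (-s) with hu'
        have hu'U : u' ∈ UU n F := (UU n F).mul_mem hu (transvection_mem_UU hij0 _)
        have hentry_same : ∀ a : Fin n, u' a j0 = u a j0 + (-s) * u a i0 := by
          intro a
          show ((u : Matrix (Fin n) (Fin n) F) * Matrix.transvection i0 j0 (-s)) a j0 = _
          rw [Matrix.mul_transvection_apply_same]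
        have hentry_ne : ∀ a b : Fin n, b ≠ j0 → u' a b = u a b := by
          intro a b hb
          show ((u : Matrix (Fin n) (Fin n) F) * Matrix.transvection i0 j0 (-s)) a b = _
          rw [Matrix.mul_transvection_apply_of_ne _ _ _ _ hb]
        have hcl' : Cleared (t + 1) u' := by
          intro i j hij hlt
          by_cases hj : j = j0
          · subst hj
            rw [hentry_same]
            rcases lt_trichotomy i i0 with hi | hi | hi
            · exfalso
              have h1 : i.val < i0.val := hi
              have h2 : i0.val < j0.val := hij0
              have h3 : (j0.val - i0.val + 1) * n ≤ (j0.val - i.val) * n :=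
                Nat.mul_le_mul_right n (by omega)
              have h4 : i0.val < n := i0.2
              have : (j0.val - i0.val + 1) * n = (j0.val - i0.val) * n + n := by ring
              omega
            · subst hi
              rw [UU_entry_diag hu i0]
              ring
            · rw [UU_entry_lt hu hi, mul_zero, add_zero]
              apply hcl i j0 hij
              have h1 : i0.val < i.val := hi
              have h2 : i.val < j0.val := hij
              have h3 : (j0.val - i.val + 1) * n ≤ (j0.val - i0.val) * n :=
                Nat.mul_le_mul_right n (by omega)
              have h4 : i.val < n := i.2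
              have : (j0.val - i.val + 1) * n = (j0.val - i.val) * n + n := by ring
              omega
          · rw [hentry_ne i j hj]
            apply hcl i j hij
            rcases Nat.lt_succ_iff_lt_or_eq.mp hlt with h | h
            · exact h
            · exfalso
              apply hj
              have h1 : (j.val - i.val) * n + i.val = (j0.val - i0.val) * n + i0.val := by
                rw [h, hidx]
              have h2 : i.val < n := i.2
              have h3 : i0.val < n := i0.2
              have h4 : i.val = i0.val := by
                have e1 : ((j.val - i.val) * n + i.val) % n = i.val := by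
                  rw [Nat.mul_comm, Nat.mul_add_mod, Nat.mod_eq_of_lt h2]
                have e2 : ((j0.val - i0.val) * n + i0.val) % n = i0.val := by
                  rw [Nat.mul_comm, Nat.mul_add_mod, Nat.mod_eq_of_lt h3]
                rw [← e1, ← e2, h1]
              have h5 : (j.val - i.val) * n = (j0.val - i0.val) * n := by omega
              have h6 : j.val - i.val = j0.val - i0.val := Nat.eq_of_mul_eq_mul_right hn0 h5
              have h7 : i.val < j.val := hij
              have h8 : i0.val < j0.val := hij0
              apply Fin.ext
              omega
        have h1 := ih (t + 1) (by omega) u' hu'U hcl'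
        have h2 : u = u' * SpecialLinearGroup.transvection (ne_of_lt hij0) s := by
          rw [hu', mul_assoc, ← SpecialLinearGroup.transvection_add, neg_add_cancel,
            SpecialLinearGroup.transvection_coeff_zero, mul_one]
        rw [h2]
        exact H.mul_mem h1 (hH i0 j0 hij0 s)
      · apply ih (t + 1) (by omega) u hu
        intro i j hij hlt
        apply hcl i j hij
        rcases Nat.lt_succ_iff_lt_or_eq.mp hlt with h | h
        · exact h
        · exfalso
          apply hpos
          have h2 : i.val < n := i.2
          have h7 : i.val < j.val := hij
          have hj2 : j.val < n := j.2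
          have e1 : t % n = i.val := by
            rw [← h, Nat.mul_comm, Nat.mul_add_mod, Nat.mod_eq_of_lt h2]
          have e2 : t / n = j.val - i.val := by
            rw [← h, Nat.mul_comm, Nat.mul_add_div (by omega), Nat.div_eq_of_lt h2, add_zero]
          rw [e1, e2]
          omega
  intro u hu
  apply main (n * n) 0 (by omega) u hu
  intro i j _ h
  omega

end Cfsg.Agent.helper4.Pf
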