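import Mathlib
import Cfsg.Agent.Lib_helper14_AutPslH
import Cfsg.Agent.Lib_helper4_PfC

set_option autoImplicit false
set_option linter.unusedSectionVars false
set_option linter.unusedVariables false
set_option linter.style.haveILetI false
set_option maxHeartbeats 1600000

/-!
# Transvections in `SL_n(F)`: conjugacy; diagonal elements; the normalizer of the unitriangular group
-/

namespace Cfsg.Agent.helper4.Pf

open Matrix Cfsg.Agent.helper14

variable {n : ℕ} {F : Type*} [Field F]

theorem tS_single_eq {i j : Fin n} (hij : i ≠ j) (s : F) :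
    tS (Pi.single i 1) (Pi.single j s) = SpecialLinearGroup.transvection hij s := by
  apply Subtype.ext
  rw [tS_val _ _ (xr_dot hij s), vmv_single]
  rfl

/-- a diagonal element of `SL_n` -/
def dg (d : Fin n → F) (hd : ∏ i, d i = 1) : SpecialLinearGroup (Fin n) F :=
  ⟨Matrix.diagonal d, by rw [Matrix.det_diagonal]; exact hd⟩

theorem dg_val (d : Fin n → F) (hd : ∏ i, d i = 1) :
    ((dg d hd : SpecialLinearGroup (Fin n) F) : Matrix (Fin n) (Fin n) F) = Matrix.diagonal d := rfl

theorem dg_ne_zero (d : Fin n → F) (hd : ∏ i, d i = 1) (i : Fin n) : d i ≠ 0 := by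
  intro h
  have : ∏ i, d i = 0 := Finset.prod_eq_zero (Finset.mem_univ i) h
  rw [hd] at this
  exact one_ne_zero this

theorem dg_mul (d e : Fin n → F) (hd : ∏ i, d i = 1) (he : ∏ i, e i = 1) :
    dg d hd * dg e he = dg (fun i => d i * e i) (by rw [Finset.prod_mul_distrib, hd, he, mul_one]) := by
  apply Subtype.ext
  rw [Matrix.SpecialLinearGroup.coe_mul, dg_val, dg_val, dg_val, Matrix.diagonal_mul_diagonal]

theorem dg_one : dg (fun _ : Fin n => (1 : F)) (by simp) = 1 := by
  apply Subtype.ext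
  rw [dg_val, Matrix.SpecialLinearGroup.coe_one]
  exact Matrix.diagonal_one

theorem dg_inv (d : Fin n → F) (hd : ∏ i, d i = 1) :
    (dg d hd)⁻¹ = dg (fun i => (d i)⁻¹) (by rw [Finset.prod_inv_distrib, hd, inv_one]) := by
  rw [inv_eq_iff_mul_eq_one, dg_mul]
  have : (fun i => d i * (d i)⁻¹) = fun _ : Fin n => (1 : F) := by
    funext i
    exact mul_inv_cancel₀ (dg_ne_zero d hd i)
  simp only [this]
  exact dg_one

theorem dg_mul_entry (d : Fin n → F) (hd : ∏ i, d i = 1) (g : SpecialLinearGroup (Fin n) F)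
    (i j : Fin n) : (dg d hd * g) i j = d i * g i j := by
  show ((dg d hd * g : SpecialLinearGroup (Fin n) F) : Matrix (Fin n) (Fin n) F) i j = _
  rw [Matrix.SpecialLinearGroup.coe_mul, dg_val, Matrix.diagonal_mul]

theorem mul_dg_entry (d : Fin n → F) (hd : ∏ i, d i = 1) (g : SpecialLinearGroup (Fin n) F)
    (i j : Fin n) : (g * dg d hd) i j = g i j * d j := by
  show ((g * dg d hd : SpecialLinearGroup (Fin n) F) : Matrix (Fin n) (Fin n) F) i j = _
  rw [Matrix.SpecialLinearGroup.coe_mul, dg_val, Matrix.mul_diagonal]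

theorem dg_conj_entry (d : Fin n → F) (hd : ∏ i, d i = 1) (g : SpecialLinearGroup (Fin n) F)
    (i j : Fin n) : (dg d hd * g * (dg d hd)⁻¹) i j = d i * g i j * (d j)⁻¹ := by
  rw [dg_inv, mul_dg_entry, dg_mul_entry]

theorem dg_conj_transvection (d : Fin n → F) (hd : ∏ i, d i = 1) {i j : Fin n} (hij : i ≠ j)
    (c : F) : dg d hd * SpecialLinearGroup.transvection hij c * (dg d hd)⁻¹ =
      SpecialLinearGroup.transvection hij (d i * c * (d j)⁻¹) := by
  apply Subtype.ext
  ext a b
  have h1 := dg_conj_entry d hd (SpecialLinearGroup.transvection hij c) a b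
  rw [h1]
  show d a * (Matrix.transvection i j c) a b * (d b)⁻¹ = (Matrix.transvection i j _) a b
  simp only [Matrix.transvection, Matrix.add_apply, Matrix.one_apply, Matrix.single_apply]
  by_cases hab : a = b
  · subst hab
    have hne : ¬ (i = a ∧ j = a) := by
      rintro ⟨rfl, h2⟩; exact hij h2.symm
    rw [if_pos rfl, if_neg hne, if_neg hne, add_zero, mul_one,
      mul_inv_cancel₀ (dg_ne_zero d hd a)]
  · rw [if_neg hab, zero_add, zero_add]
    by_cases h2 : i = a ∧ j = b
    · obtain ⟨rfl, rfl⟩ := h2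
      rw [if_pos ⟨rfl, rfl⟩, if_pos ⟨rfl, rfl⟩]
    · rw [if_neg h2, if_neg h2, mul_zero, zero_mul]

theorem dg_mem_normalizes_UU [Finite F] (d : Fin n → F) (hd : ∏ i, d i = 1)
    (u : SpecialLinearGroup (Fin n) F) (hu : u ∈ UU n F) :
    dg d hd * u * (dg d hd)⁻¹ ∈ UU n F := by
  rw [mem_UU]
  intro a b hba
  rw [Matrix.sub_apply]
  have h1 := dg_conj_entry d hd u a b
  have h1' : ((dg d hd * u * (dg d hd)⁻¹ : SpecialLinearGroup (Fin n) F) :
      Matrix (Fin n) (Fin n) F) a b = d a * u a b * (d b)⁻¹ := h1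
  rw [h1']
  rcases lt_or_eq_of_le hba with h | h
  · rw [UU_entry_lt hu h, Matrix.one_apply_ne (ne_of_gt h)]
    ring
  · subst h
    rw [UU_entry_diag hu, Matrix.one_apply_eq, mul_one, mul_inv_cancel₀ (dg_ne_zero d hd b), sub_self]

/-- scaling a transvection by conjugation with a diagonal element (needs a third index) -/
theorem transv_scale (hn : 3 ≤ n) {i j : Fin n} (hij : i ≠ j) (c s : F) (hc : c ≠ 0) (hs : s ≠ 0) :
    ∃ D : SpecialLinearGroup (Fin n) F,
      D * SpecialLinearGroup.transvection hij c * D⁻¹ = SpecialLinearGroup.transvection hij s := by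
  obtain ⟨k, hki, hkj⟩ := exists_third' hn i j
  set a : F := s / c with ha
  have ha0 : a ≠ 0 := div_ne_zero hs hc
  have hprod : ∏ m : Fin n, (if m = i then a else if m = k then a⁻¹ else 1 : F) = 1 := by
    have := (SpecialLinearGroup.diag2n (Ne.symm hki) a ha0).2
    rw [SpecialLinearGroup.diag2n_coe, Matrix.det_diagonal] at this
    exact this
  refine ⟨dg _ hprod, ?_⟩
  rw [dg_conj_transvection]
  congr 1
  rw [if_pos rfl, if_neg (Ne.symm hij), if_neg (Ne.symm hkj), inv_one, mul_one, ha]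
  field_simp

/-- any two nontrivial transvections of `SL_n(F)`, `n ≥ 3`, are conjugate -/
theorem transv_conj (hn : 3 ≤ n) {i j i' j' : Fin n} (hij : i ≠ j) (hij' : i' ≠ j') (s s' : F)
    (hs : s ≠ 0) (hs' : s' ≠ 0) :
    ∃ g : SpecialLinearGroup (Fin n) F,
      g * SpecialLinearGroup.transvection hij' s' * g⁻¹ = SpecialLinearGroup.transvection hij s := by
  have ha : (Pi.single i (1 : F) : Fin n → F) ≠ 0 := by
    intro h
    have := congrFun h i
    rw [Pi.single_eq_same] at this
    exact one_ne_zero this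
  have hφ : (Pi.single j s : Fin n → F) ≠ 0 := by
    intro h
    have := congrFun h j
    rw [Pi.single_eq_same] at this
    exact hs this
  obtain ⟨g, c, hc, hga, hφg⟩ := flag_conj_std (by omega) i' j' hij' (Pi.single i 1) (Pi.single j s)
    ha hφ (xr_dot hij s)
  have hflag : (c • (Pi.single j' (1 : F) : Fin n → F)) ⬝ᵥ (Pi.single i' 1) = 0 := by
    rw [single_smul_one]
    exact xr_dot hij' c
  have h1 := sl_conj_tS g (Pi.single i' 1) (c • (Pi.single j' (1 : F) : Fin n → F)) hflag
  have h2 : (c • (Pi.single j' (1 : F) : Fin n → F)) ᵥ*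
      ((g⁻¹ : SpecialLinearGroup (Fin n) F) : Matrix (Fin n) (Fin n) F) = Pi.single j s := by
    rw [← hφg, Matrix.vecMul_vecMul, sl_mul_inv, Matrix.vecMul_one]
  rw [hga, h2, single_smul_one, tS_single_eq hij', tS_single_eq hij] at h1
  obtain ⟨D, hD⟩ := transv_scale hn hij' s' c hs' hc
  refine ⟨g * D, ?_⟩
  rw [← h1, ← hD]
  group

end Cfsg.Agent.helper4.Pf
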