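import Mathlib
import Cfsg.Agent.Lib_helper4_PfD

set_option autoImplicit false
set_option linter.unusedSectionVars false
set_option linter.unusedVariables false
set_option linter.style.haveILetI false
set_option maxHeartbeats 1600000

/-!
# The normalizer of the unitriangular group is the Borel subgroup
-/

namespace Cfsg.Agent.helper4.Pf

open Matrix Cfsg.Agent.helper14

variable {n : ℕ} {F : Type*} [Field F]

/-- vectors supported on the first `k` coordinates -/
def Vk (k : ℕ) (v : Fin n → F) : Prop := ∀ j : Fin n, k ≤ j.val → v j = 0

theorem upper_of_normalizes [Finite F] (g : SpecialLinearGroup (Fin n) F)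
    (h' : ∀ u ∈ UU n F, g⁻¹ * u * g ∈ UU n F) : ∀ i j : Fin n, j < i → g i j = 0 := by
  have key : ∀ k : ℕ, ∀ v : Fin n → F, Vk k v →
      Vk k ((g : Matrix (Fin n) (Fin n) F) *ᵥ v) := by
    intro k
    induction k with
    | zero =>
      intro v hv
      have : v = 0 := funext (fun j => hv j (Nat.zero_le _))
      rw [this, Matrix.mulVec_zero]
      intro j _
      rfl
    | succ k ih =>
      intro v hv j hj
      have hk : k < n := by have := j.2; omega
      set i0 : Fin n := ⟨k, hk⟩ with hi0
      have hi0j : i0 < j := by rw [Fin.lt_def]; show k < j.val; omega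
      set u := SpecialLinearGroup.transvection (ne_of_lt hi0j) (1 : F) with hudef
      have hu : u ∈ UU n F := transvection_mem_UU hi0j 1
      set u'' := g⁻¹ * u * g with hu''def
      have hu'' : u'' ∈ UU n F := h' u hu
      have hrel : u * g = g * u'' := by rw [hu''def]; group
      set w := (g : Matrix (Fin n) (Fin n) F) *ᵥ v with hw
      have hv'' : Vk k ((u'' : Matrix (Fin n) (Fin n) F) *ᵥ v - v) := by
        intro a ha
        rw [Pi.sub_apply]
        have : ((u'' : Matrix (Fin n) (Fin n) F) *ᵥ v) a = v a := by
          show ∑ b, u'' a b * v b = v a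
          rw [Finset.sum_eq_single a]
          · rw [UU_entry_diag hu'' a, one_mul]
          · intro b _ hba
            rcases lt_or_gt_of_ne hba with h | h
            · rw [UU_entry_lt hu'' h, zero_mul]
            · have hb : k + 1 ≤ b.val := by
                have : a.val < b.val := h
                omega
              rw [hv b hb, mul_zero]
          · intro h; exact absurd (Finset.mem_univ a) h
        rw [this, sub_self]
      have h1 := ih _ hv''
      have h2 : (u : Matrix (Fin n) (Fin n) F) *ᵥ w =
          w + (g : Matrix (Fin n) (Fin n) F) *ᵥ ((u'' : Matrix (Fin n) (Fin n) F) *ᵥ v - v) := by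
        rw [Matrix.mulVec_sub, ← hw, add_sub_cancel, hw, Matrix.mulVec_mulVec, Matrix.mulVec_mulVec,
          ← Matrix.SpecialLinearGroup.coe_mul, ← Matrix.SpecialLinearGroup.coe_mul, hrel]
      have h3 := congrFun h2 i0
      rw [Pi.add_apply, h1 i0 le_rfl, add_zero] at h3
      have h4 : ((u : Matrix (Fin n) (Fin n) F) *ᵥ w) i0 = w i0 + w j := by
        rw [hudef, SpecialLinearGroup.transvection_coe, Matrix.add_mulVec, Matrix.one_mulVec,
          Pi.add_apply, Matrix.single_mulVec_eq]
        simp
      rw [h4] at h3
      have : w i0 + w j = w i0 + 0 := by rw [h3, add_zero]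
      exact add_left_cancel this
  intro i j hji
  have hV : Vk (j.val + 1) (Pi.single j (1 : F) : Fin n → F) := by
    intro b hb
    rw [Pi.single_eq_of_ne]
    intro h
    rw [h] at hb
    omega
  have h1 := key (j.val + 1) (Pi.single j 1) hV i (by rw [Fin.lt_def] at hji; omega)
  rw [Matrix.mulVec_single_one] at h1
  exact h1

theorem exists_dg_mul_UU [Finite F] (g : SpecialLinearGroup (Fin n) F)
    (hup : ∀ i j : Fin n, j < i → g i j = 0) :
    ∃ (d : Fin n → F) (hd : ∏ i, d i = 1) (u : SpecialLinearGroup (Fin n) F),
      u ∈ UU n F ∧ g = dg d hd * u := by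
  have hdet : ∏ i, g i i = 1 := by
    have h1 : (g : Matrix (Fin n) (Fin n) F).det = ∏ i, g i i := by
      apply Matrix.det_of_upperTriangular
      intro i j hij
      exact hup i j hij
    rw [← h1]
    exact g.2
  refine ⟨fun i => g i i, hdet, (dg (fun i => g i i) hdet)⁻¹ * g, ?_, by group⟩
  rw [mem_UU]
  intro a b hba
  rw [Matrix.sub_apply, dg_inv]
  have h1 := dg_mul_entry (fun i => (g i i)⁻¹)
    (by rw [Finset.prod_inv_distrib, hdet, inv_one]) g a b
  have h1' : ((dg (fun i => (g i i)⁻¹) (by rw [Finset.prod_inv_distrib, hdet, inv_one]) * g :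
      SpecialLinearGroup (Fin n) F) : Matrix (Fin n) (Fin n) F) a b = (g a a)⁻¹ * g a b := h1
  rw [h1']
  rcases lt_or_eq_of_le hba with h | h
  · rw [hup a b h, mul_zero, Matrix.one_apply_ne (ne_of_gt h), sub_zero]
  · subst h
    rw [Matrix.one_apply_eq, inv_mul_cancel₀ (dg_ne_zero _ hdet b), sub_self]

/-- the rank one tori `h_k(t)` -/
def torusGen (n : ℕ) (F : Type*) [Field F] : Set (SpecialLinearGroup (Fin n) F) :=
  {x | ∃ (k k' : Fin n) (hkk : k ≠ k') (_ : k'.val = k.val + 1) (t : F) (ht : t ≠ 0),
    x = SpecialLinearGroup.diag2n hkk t ht}

theorem dg_mem_closure (d : Fin n → F) (hd : ∏ i, d i = 1) :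
    dg d hd ∈ Subgroup.closure (torusGen n F) := by
  have main : ∀ r m : ℕ, r + m = n → ∀ (d : Fin n → F) (hd : ∏ i, d i = 1),
      (∀ i : Fin n, i.val < m → d i = 1) → dg d hd ∈ Subgroup.closure (torusGen n F) := by
    intro r
    induction r with
    | zero =>
      intro m hm d hd hone
      have : d = fun _ => (1 : F) := funext (fun i => hone i (by have := i.2; omega))
      subst this
      rw [dg_one]
      exact Subgroup.one_mem _
    | succ r ih =>
      intro m hm d hd hone
      have hmn : m < n := by omega
      by_cases hlast : m + 1 = n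
      · -- only the last entry can differ from 1
        apply ih (m + 1) (by omega) d hd
        intro i hi
        rcases Nat.lt_succ_iff_lt_or_eq.mp hi with h | h
        · exact hone i h
        · have h1 : ∏ j, d j = d i := by
            apply Finset.prod_eq_single i
            · intro b _ hb
              apply hone b
              have : b.val ≠ i.val := fun h' => hb (Fin.ext h')
              have := b.2
              omega
            · intro h'; exact absurd (Finset.mem_univ i) h'
          rw [← h1, hd]
      · have hm1 : m + 1 < n := by omega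
        set k : Fin n := ⟨m, hmn⟩ with hk
        set k' : Fin n := ⟨m + 1, hm1⟩ with hk'
        have hkk : k ≠ k' := by
          intro h
          have := congrArg Fin.val h
          simp only [hk, hk'] at this
          omega
        have ht : d k ≠ 0 := dg_ne_zero d hd k
        set e : Fin n → F := fun i => if i = k then d k else if i = k' then (d k)⁻¹ else 1 with he
        have hprod : ∏ i, e i = 1 := by
          have := (SpecialLinearGroup.diag2n hkk (d k) ht).2
          rw [SpecialLinearGroup.diag2n_coe, Matrix.det_diagonal] at this
          exact this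
        have hdiag : SpecialLinearGroup.diag2n hkk (d k) ht = dg e hprod := by
          apply Subtype.ext
          rw [SpecialLinearGroup.diag2n_coe, dg_val]
        have he0 : ∀ i, e i ≠ 0 := dg_ne_zero e hprod
        set d' : Fin n → F := fun i => (e i)⁻¹ * d i with hd'
        have hd'prod : ∏ i, d' i = 1 := by
          rw [hd', Finset.prod_mul_distrib, Finset.prod_inv_distrib, hprod, hd, inv_one, one_mul]
        have hsplit : dg d hd = dg e hprod * dg d' hd'prod := by
          rw [dg_mul]
          congr 1
          funext i
          rw [hd']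
          field_simp [he0 i]
        rw [hsplit]
        apply Subgroup.mul_mem
        · apply Subgroup.subset_closure
          exact ⟨k, k', hkk, rfl, d k, ht, hdiag.symm⟩
        · apply ih (m + 1) (by omega) d' hd'prod
          intro i hi
          rw [hd', he]
          rcases Nat.lt_succ_iff_lt_or_eq.mp hi with h | h
          · have h1 : i ≠ k := fun h' => by rw [h'] at h; simp [hk] at h
            have h2 : i ≠ k' := fun h' => by rw [h'] at h; simp [hk'] at h
            simp only [if_neg h1, if_neg h2, inv_one, one_mul]
            exact hone i h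
          · have h1 : i = k := Fin.ext h
            rw [h1]
            simp only [if_pos rfl]
            exact inv_mul_cancel₀ ht
  exact main n 0 (by omega) d hd (fun i hi => absurd hi (Nat.not_lt_zero _))

end Cfsg.Agent.helper4.Pf
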