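import Mathlib
import Cfsg.Agent.Lib_helper4_PfE
import Cfsg.Agent.Lib_helper14_AutPslK

set_option autoImplicit false
set_option linter.unusedSectionVars false
set_option linter.unusedVariables false
set_option linter.style.haveILetI false
set_option maxHeartbeats 1600000

/-!
# The transvection subgroups `TC a`, `TA φ` of `PSL_n` are self-centralizing
-/

namespace Cfsg.Agent.helper4.Pf

open Matrix Cfsg.Agent.helper14

theorem mem_normalizer_of_conj2 {G : Type*} [Group G] {H : Subgroup G} {g : G}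
    (h1 : ∀ h ∈ H, g * h * g⁻¹ ∈ H) (h2 : ∀ h ∈ H, g⁻¹ * h * g ∈ H) :
    g ∈ Subgroup.normalizer (H : Set G) := by
  rw [Subgroup.mem_normalizer_iff]
  intro y
  constructor
  · exact h1 y
  · intro hy
    have := h2 _ hy
    have e : g⁻¹ * (g * y * g⁻¹) * g = y := by group
    rwa [e] at this

variable {n : ℕ} {F : Type*} [Field F]

theorem conj_mem_TA (s : SpecialLinearGroup (Fin n) F) (φ : Fin n → F)
    (x : ProjectiveSpecialLinearGroup (Fin n) F) (hx : x ∈ TA φ) :
    (QuotientGroup.mk s : ProjectiveSpecialLinearGroup (Fin n) F) * x * (QuotientGroup.mk s)⁻¹ ∈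
      TA (φ ᵥ* ((s⁻¹ : SpecialLinearGroup (Fin n) F) : Matrix (Fin n) (Fin n) F)) := by
  obtain ⟨a, ha, rfl⟩ := hx
  refine ⟨(s : Matrix (Fin n) (Fin n) F) *ᵥ a, ?_, ?_⟩
  · rw [conj_flag _ _ (sl_inv_mul s), ha]
  · unfold tb
    rw [← sl_conj_tS s a φ ha]
    rfl

theorem mk_mem_normalizer_TC (s : SpecialLinearGroup (Fin n) F) (a : Fin n → F)
    (h : (s : Matrix (Fin n) (Fin n) F) *ᵥ a = a) :
    (QuotientGroup.mk s : ProjectiveSpecialLinearGroup (Fin n) F) ∈
      Subgroup.normalizer (TC a : Set (ProjectiveSpecialLinearGroup (Fin n) F)) := by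
  have h' : ((s⁻¹ : SpecialLinearGroup (Fin n) F) : Matrix (Fin n) (Fin n) F) *ᵥ a = a := by
    conv_lhs => rw [← h]
    rw [Matrix.mulVec_mulVec, sl_inv_mul, Matrix.one_mulVec]
  apply mem_normalizer_of_conj2
  · intro x hx
    have := conj_mem_TC s a x hx
    rwa [h] at this
  · intro x hx
    have := conj_mem_TC s⁻¹ a x hx
    rw [h', QuotientGroup.mk_inv, inv_inv] at this
    exact this

theorem mk_mem_normalizer_TA (s : SpecialLinearGroup (Fin n) F) (φ : Fin n → F)
    (h : φ ᵥ* (s : Matrix (Fin n) (Fin n) F) = φ) :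
    (QuotientGroup.mk s : ProjectiveSpecialLinearGroup (Fin n) F) ∈
      Subgroup.normalizer (TA φ : Set (ProjectiveSpecialLinearGroup (Fin n) F)) := by
  have h' : φ ᵥ* ((s⁻¹ : SpecialLinearGroup (Fin n) F) : Matrix (Fin n) (Fin n) F) = φ := by
    conv_lhs => rw [← h]
    rw [Matrix.vecMul_vecMul, sl_mul_inv, Matrix.vecMul_one]
  apply mem_normalizer_of_conj2
  · intro x hx
    have := conj_mem_TA s φ x hx
    rwa [h'] at this
  · intro x hx
    have := conj_mem_TA s⁻¹ φ x hx
    rw [inv_inv, h, QuotientGroup.mk_inv, inv_inv] at this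
    exact this

theorem centric_TC (hn : 2 ≤ n) (i0 : Fin n) :
    Subgroup.centralizer
      (TC (Pi.single i0 (1 : F)) : Set (ProjectiveSpecialLinearGroup (Fin n) F)) ≤
      TC (Pi.single i0 (1 : F)) := by
  intro x hx
  obtain ⟨s, rfl⟩ := QuotientGroup.mk_surjective x
  set e : Fin n → F := Pi.single i0 1 with he
  have key : ∀ j : Fin n, j ≠ i0 → ∀ k l : Fin n,
      ((s⁻¹ : SpecialLinearGroup (Fin n) F) : Matrix (Fin n) (Fin n) F) k i0 *
        (s : Matrix (Fin n) (Fin n) F) j l =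
      (if k = i0 then 1 else 0) * (if l = j then 1 else 0) := by
    intro j hj k l
    have hφ : (Pi.single j (1 : F) : Fin n → F) ⬝ᵥ e = 0 := xr_dot (Ne.symm hj) 1
    have hmem : tb e (Pi.single j 1) ∈ TC e := ⟨_, hφ, rfl⟩
    have hc := Subgroup.mem_centralizer_iff.1 hx _ hmem
    have h1 : (QuotientGroup.mk s⁻¹ : ProjectiveSpecialLinearGroup (Fin n) F) *
        tb e (Pi.single j 1) * (QuotientGroup.mk s⁻¹)⁻¹ = tb e (Pi.single j 1) := by
      rw [QuotientGroup.mk_inv, inv_inv, mul_assoc, hc, ← mul_assoc, inv_mul_cancel, one_mul]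
    have h2 : (QuotientGroup.mk s⁻¹ : ProjectiveSpecialLinearGroup (Fin n) F) *
        tb e (Pi.single j 1) * (QuotientGroup.mk s⁻¹)⁻¹ =
        tb (((s⁻¹ : SpecialLinearGroup (Fin n) F) : Matrix (Fin n) (Fin n) F) *ᵥ e)
          (Pi.single j 1 ᵥ* (((s⁻¹)⁻¹ : SpecialLinearGroup (Fin n) F) :
            Matrix (Fin n) (Fin n) F)) := by
      unfold tb
      rw [← sl_conj_tS s⁻¹ e _ hφ]
      rfl
    rw [h2] at h1
    have h3 := vmv_eq_of_tb_eq hn _ _ _ _ (by rw [conj_flag _ _ (sl_inv_mul s⁻¹), hφ]) hφ h1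
    have h4 := congrFun (congrFun h3 k) l
    rw [vecMulVec_apply, vecMulVec_apply, inv_inv, he, Matrix.mulVec_single_one,
      Matrix.single_one_vecMul] at h4
    rw [Pi.single_apply, Pi.single_apply] at h4
    exact h4
  obtain ⟨j0, hj0⟩ : ∃ j : Fin n, j ≠ i0 := by
    by_cases h : i0.val = 0
    · exact ⟨⟨1, by omega⟩, fun h' => by have := congrArg Fin.val h'; simp at this; omega⟩
    · exact ⟨⟨0, by omega⟩, fun h' => by have := congrArg Fin.val h'; simp at this; omega⟩
  set c' : F := ((s⁻¹ : SpecialLinearGroup (Fin n) F) : Matrix (Fin n) (Fin n) F) i0 i0 with hc'def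
  have h5 := key j0 hj0 i0 j0
  rw [if_pos rfl, if_pos rfl, mul_one] at h5
  have hc' : c' ≠ 0 := left_ne_zero_of_mul_eq_one h5
  have hrow : ∀ j : Fin n, j ≠ i0 → ∀ l : Fin n,
      (s : Matrix (Fin n) (Fin n) F) j l = if l = j then c'⁻¹ else 0 := by
    intro j hj l
    have := key j hj i0 l
    rw [if_pos rfl, one_mul] at this
    by_cases hl : l = j
    · rw [if_pos hl] at this ⊢
      exact eq_inv_of_mul_eq_one_right this
    · rw [if_neg hl] at this ⊢
      exact (mul_eq_zero.1 this).resolve_left hc'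
  have hcol : ∀ k : Fin n, k ≠ i0 →
      ((s⁻¹ : SpecialLinearGroup (Fin n) F) : Matrix (Fin n) (Fin n) F) k i0 = 0 := by
    intro k hk
    have := key j0 hj0 k j0
    rw [if_neg hk, zero_mul, hrow j0 hj0 j0, if_pos rfl] at this
    exact (mul_eq_zero.1 this).resolve_right (inv_ne_zero hc')
  have h00 : (s : Matrix (Fin n) (Fin n) F) i0 i0 * c' = 1 := by
    have := congrFun (congrFun (sl_mul_inv s) i0) i0
    rw [Matrix.mul_apply, Matrix.one_apply_eq, Finset.sum_eq_single i0] at this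
    · exact this
    · intro k _ hk
      rw [hcol k hk, mul_zero]
    · intro h
      exact absurd (Finset.mem_univ i0) h
  have hs00 : (s : Matrix (Fin n) (Fin n) F) i0 i0 = c'⁻¹ := eq_inv_of_mul_eq_one_left h00
  set ψ : Fin n → F := fun l => if l = i0 then 0 else c' * (s : Matrix (Fin n) (Fin n) F) i0 l
    with hψdef
  have hψ : ψ ⬝ᵥ e = 0 := by
    rw [he, dotProduct_single, mul_one, hψdef]
    simp
  refine ⟨ψ, hψ, ?_⟩
  unfold tb
  symm
  rw [mk_eq_iff]
  refine ⟨c'⁻¹, ?_⟩
  rw [tS_val e ψ hψ]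
  ext k l
  rw [Matrix.smul_apply, Matrix.add_apply, vecMulVec_apply, smul_eq_mul, he, Pi.single_apply]
  by_cases hk : k = i0
  · subst hk
    rw [if_pos rfl, one_mul, hψdef]
    by_cases hl : l = k
    · subst hl
      simp only [if_true, add_zero, Matrix.one_apply_eq, mul_one]
      exact hs00
    · simp only [if_neg hl, Matrix.one_apply_ne (Ne.symm hl), zero_add]
      rw [← mul_assoc, inv_mul_cancel₀ hc', one_mul]
  · rw [if_neg hk, zero_mul, add_zero, hrow k hk l, Matrix.one_apply]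
    by_cases hl : l = k
    · rw [if_pos hl, if_pos hl.symm, mul_one]
    · rw [if_neg hl, if_neg (Ne.symm hl), mul_zero]

theorem centric_TA (hn : 2 ≤ n) (i0 : Fin n) :
    Subgroup.centralizer
      (TA (Pi.single i0 (1 : F)) : Set (ProjectiveSpecialLinearGroup (Fin n) F)) ≤
      TA (Pi.single i0 (1 : F)) := by
  intro x hx
  rw [← iota0_mem_TC_iff]
  apply centric_TC hn i0
  rw [Subgroup.mem_centralizer_iff]
  intro y hy
  have hy' : (iota0 : MulAut (ProjectiveSpecialLinearGroup (Fin n) F)) y ∈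
      TA (Pi.single i0 (1 : F)) := iota0_mem_TA _ y hy
  have := Subgroup.mem_centralizer_iff.1 hx _ hy'
  have h2 := congrArg (iota0 : MulAut (ProjectiveSpecialLinearGroup (Fin n) F)) this
  rw [map_mul, map_mul, iota0_iota0] at h2
  exact h2

end Cfsg.Agent.helper4.Pf
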