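import Mathlib
import Cfsg.Agent.Lib_helper4_PfF
import Cfsg.Agent.Lib_helper4_PfA
import Cfsg.Agent.Lib_helper19_Pairing

set_option autoImplicit false
set_option linter.unusedSectionVars false
set_option linter.unusedVariables false
set_option linter.style.haveILetI false
set_option maxHeartbeats 1600000

/-!
# The image of the unitriangular group in `PSL_n` has no proper strongly closed subgroups
-/

namespace Cfsg.Agent.helper4.Pf

open Matrix Cfsg.Agent.helper14

variable {n : ℕ} {F : Type*} [Field F] [Finite F]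

/-- the image of the unitriangular group in `PSL_n` -/
noncomputable def BP (n : ℕ) (F : Type*) [Field F] [Finite F] :
    Subgroup (ProjectiveSpecialLinearGroup (Fin n) F) :=
  (UU n F).map (QuotientGroup.mk' (Subgroup.center (SpecialLinearGroup (Fin n) F)))

theorem mem_BP_iff (x : ProjectiveSpecialLinearGroup (Fin n) F) :
    x ∈ BP n F ↔ ∃ u ∈ UU n F, (QuotientGroup.mk u : ProjectiveSpecialLinearGroup (Fin n) F) = x :=
  Subgroup.mem_map

theorem mk_mem_BP {u : SpecialLinearGroup (Fin n) F} (hu : u ∈ UU n F) :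
    (QuotientGroup.mk u : ProjectiveSpecialLinearGroup (Fin n) F) ∈ BP n F :=
  (mem_BP_iff _).2 ⟨u, hu, rfl⟩

theorem exists_of_mk_mem_BP (s : SpecialLinearGroup (Fin n) F)
    (h : (QuotientGroup.mk s : ProjectiveSpecialLinearGroup (Fin n) F) ∈ BP n F) :
    ∃ u ∈ UU n F, ∃ r : F, (s : Matrix (Fin n) (Fin n) F) = r • (u : Matrix (Fin n) (Fin n) F) := by
  obtain ⟨u, hu, he⟩ := (mem_BP_iff _).1 h
  exact ⟨u, hu, (mk_eq_iff u s).1 he⟩

theorem UU_mk_inj (hn : 1 ≤ n) {u v : SpecialLinearGroup (Fin n) F} (hu : u ∈ UU n F)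
    (hv : v ∈ UU n F)
    (h : (QuotientGroup.mk u : ProjectiveSpecialLinearGroup (Fin n) F) = QuotientGroup.mk v) :
    u = v := by
  obtain ⟨r, hr⟩ := (mk_eq_iff u v).1 h
  have h0 := congrFun (congrFun hr ⟨0, hn⟩) ⟨0, hn⟩
  rw [Matrix.smul_apply, UU_entry_diag hu, UU_entry_diag hv, smul_eq_mul, mul_one] at h0
  apply Subtype.ext
  rw [hr, ← h0, one_smul]

theorem goodA_BP [Fintype F] {p f : ℕ} [hp : Fact p.Prime] (hF : Fintype.card F = p ^ f)
    (hn : 3 ≤ n) : GoodA (BP n F) := by
  intro T hT hclosed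
  by_cases hTbot : T = ⊥
  · exact Or.inl hTbot
  right
  apply le_antisymm hT
  have hP : IsPGroup p ↥(BP n F) := (isPGroup_UU hF).map _
  let N : Subgroup ↥(BP n F) := T.subgroupOf (BP n F)
  have hNn : N.Normal := by
    constructor
    intro x hx g
    rw [Subgroup.mem_subgroupOf] at hx ⊢
    have e : ((g * x * g⁻¹ : ↥(BP n F)) : ProjectiveSpecialLinearGroup (Fin n) F) =
        (g : ProjectiveSpecialLinearGroup (Fin n) F) * x *
          (g : ProjectiveSpecialLinearGroup (Fin n) F)⁻¹ := by simp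
    rw [e]
    apply hclosed _ hx
    rw [← e]
    exact (g * x * g⁻¹).2
  have hNbot : N ≠ ⊥ := by
    intro h
    apply hTbot
    rw [Subgroup.subgroupOf_eq_bot] at h
    exact disjoint_self.1 (h.mono_right hT)
  have hne := Cfsg.Agent.helper19.inf_center_ne_bot_of_normal hP N hNbot
  obtain ⟨a, ha⟩ := (Subgroup.ne_bot_iff_exists_ne_one).1 hne
  obtain ⟨hzN, hzc⟩ := Subgroup.mem_inf.1 a.2
  set z : ↥(BP n F) := a.1 with hz
  have hz1 : z ≠ 1 := by
    intro h
    apply ha
    apply Subtype.ext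
    exact h
  rw [Subgroup.mem_subgroupOf] at hzN
  rw [Subgroup.mem_center_iff] at hzc
  obtain ⟨u₀, hu₀, hzu⟩ := (mem_BP_iff _).1 z.2
  have hn1 : 1 ≤ n := by omega
  have hcent : ∀ v ∈ UU n F, v * u₀ = u₀ * v := by
    intro v hv
    apply UU_mk_inj hn1 (mul_mem hv hu₀) (mul_mem hu₀ hv)
    have h1 := congrArg Subtype.val (hzc ⟨QuotientGroup.mk v, mk_mem_BP hv⟩)
    rw [Subgroup.coe_mul, Subgroup.coe_mul] at h1
    rw [QuotientGroup.mk_mul, QuotientGroup.mk_mul, hzu]
    exact h1
  set i0 : Fin n := ⟨0, by omega⟩ with hi0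
  set il : Fin n := ⟨n - 1, by omega⟩ with hil
  obtain ⟨c, hc⟩ := UU_centre i0 il rfl rfl u₀ hu₀ hcent
  have h0l : i0 < il := by
    rw [Fin.lt_def]
    simp only [hi0, hil]
    omega
  have hu₀t : u₀ = SpecialLinearGroup.transvection (ne_of_lt h0l) c := by
    apply Subtype.ext
    rw [hc]
    rfl
  have hc0 : c ≠ 0 := by
    intro h
    apply hz1
    apply Subtype.ext
    rw [← hzu, hu₀t, h, SpecialLinearGroup.transvection_coeff_zero]
    rfl
  -- all transvections lie in the preimage of `T`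
  have hall : ∀ (i j : Fin n) (hij : i < j) (s : F),
      SpecialLinearGroup.transvection (ne_of_lt hij) s ∈
        T.comap (QuotientGroup.mk' (Subgroup.center (SpecialLinearGroup (Fin n) F))) := by
    intro i j hij s
    rw [Subgroup.mem_comap]
    by_cases hs : s = 0
    · rw [hs, SpecialLinearGroup.transvection_coeff_zero, map_one]
      exact T.one_mem
    · obtain ⟨g, hg⟩ := transv_conj hn (ne_of_lt hij) (ne_of_lt h0l) s c hs hc0
      have h1 := hclosed _ hzN (QuotientGroup.mk g) (by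
        rw [← hzu, hu₀t, ← QuotientGroup.mk_mul, ← QuotientGroup.mk_inv, ← QuotientGroup.mk_mul, hg]
        exact mk_mem_BP (transvection_mem_UU hij s))
      rw [← hzu, hu₀t, ← QuotientGroup.mk_mul, ← QuotientGroup.mk_inv, ← QuotientGroup.mk_mul, hg]
        at h1
      exact h1
  have hle := UU_le_of_transvections _ hall
  intro x hx
  obtain ⟨u, hu, rfl⟩ := (mem_BP_iff _).1 hx
  exact hle hu

end Cfsg.Agent.helper4.Pf
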