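import Mathlib
import Cfsg.Agent.Lib_helper4_PfG
import Cfsg.Agent.Lib_helper2_SLn

set_option autoImplicit false
set_option linter.unusedSectionVars false
set_option linter.unusedVariables false
set_option linter.style.haveILetI false
set_option maxHeartbeats 1600000

/-!
# The normalizer of the unitriangular group in `PSL_n` is generated by `p`-elements of
normalizers of centric subgroups
-/

namespace Cfsg.Agent.helper4.Pf

open Matrix Cfsg.Agent.helper14

variable {n : ℕ} {F : Type*} [Field F] [Fintype F]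

theorem pElt_of_mem_BP {p f : ℕ} [hp : Fact p.Prime] (hF : Fintype.card F = p ^ f)
    {x : ProjectiveSpecialLinearGroup (Fin n) F} (hx : x ∈ BP n F) : ∃ j : ℕ, orderOf x = p ^ j := by
  have hP : IsPGroup p ↥(BP n F) := (isPGroup_UU hF).map _
  obtain ⟨k, hk⟩ := hP ⟨x, hx⟩
  have h1 : x ^ (p ^ k) = 1 := by
    have := congrArg Subtype.val hk
    simpa using this
  obtain ⟨j, -, hj⟩ := (Nat.dvd_prime_pow hp.out).1 (orderOf_dvd_of_pow_eq_one h1)
  exact ⟨j, hj⟩

theorem sl_coe_pow (a : SpecialLinearGroup (Fin n) F) (k : ℕ) :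
    ((a ^ k : SpecialLinearGroup (Fin n) F) : Matrix (Fin n) (Fin n) F) =
      (a : Matrix (Fin n) (Fin n) F) ^ k := by
  induction k with
  | zero =>
    rw [pow_zero, pow_zero]
    rfl
  | succ k ih => rw [pow_succ, pow_succ, Matrix.SpecialLinearGroup.coe_mul, ih]

theorem conj_mem_UU_of_normalizer {p f : ℕ} [hp : Fact p.Prime] [CharP F p]
    (hF : Fintype.card F = p ^ f) (hn : 1 ≤ n) (g : SpecialLinearGroup (Fin n) F)
    (hg : (QuotientGroup.mk g : ProjectiveSpecialLinearGroup (Fin n) F) ∈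
      Subgroup.normalizer (BP n F : Set (ProjectiveSpecialLinearGroup (Fin n) F))) :
    ∀ u ∈ UU n F, g⁻¹ * u * g ∈ UU n F := by
  intro u hu
  have hg' := inv_mem hg
  have h1 := (Subgroup.mem_normalizer_iff.1 hg' _).1 (mk_mem_BP hu)
  rw [inv_inv, ← QuotientGroup.mk_inv, ← QuotientGroup.mk_mul, ← QuotientGroup.mk_mul] at h1
  obtain ⟨u', hu', r, hr⟩ := exists_of_mk_mem_BP _ h1
  have hP := isPGroup_UU (n := n) hF
  obtain ⟨m, hm⟩ := hP ⟨u, hu⟩
  have hum : u ^ (p ^ m) = 1 := by
    have := congrArg Subtype.val hm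
    simpa using this
  have hconj : (g⁻¹ * u * g) ^ (p ^ m) = 1 := by
    have e : g⁻¹ * u * g = g⁻¹ * u * (g⁻¹)⁻¹ := by rw [inv_inv]
    rw [e, conj_pow, hum, mul_one, mul_inv_cancel]
  have h2 : (((g⁻¹ * u * g) ^ (p ^ m) : SpecialLinearGroup (Fin n) F) :
      Matrix (Fin n) (Fin n) F) =
      r ^ (p ^ m) • ((u' ^ (p ^ m) : SpecialLinearGroup (Fin n) F) :
        Matrix (Fin n) (Fin n) F) := by
    rw [sl_coe_pow, hr, smul_pow, sl_coe_pow]
  rw [hconj] at h2
  have h3 : (1 : F) = r ^ (p ^ m) := by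
    have h3' := congrFun (congrFun h2 ⟨0, hn⟩) ⟨0, hn⟩
    rw [Matrix.smul_apply, UU_entry_diag (Subgroup.pow_mem _ hu' _), smul_eq_mul, mul_one] at h3'
    rw [← h3']
    exact (Matrix.one_apply_eq _).symm
  have h4 : (r - 1) ^ (p ^ m) = 0 := by
    rw [sub_pow_char_pow, one_pow, ← h3, sub_self]
  have hr1 : r = 1 := by
    have := pow_eq_zero_iff (pow_ne_zero m hp.out.ne_zero) |>.1 h4
    exact sub_eq_zero.1 this
  rw [hr1, one_smul] at hr
  have : g⁻¹ * u * g = u' := Subtype.ext hr
  rw [this]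
  exact hu'

theorem TC_le_BP (i0 : Fin n) (h0 : i0.val = 0) : TC (Pi.single i0 (1 : F)) ≤ BP n F := by
  rintro x ⟨φ, hφ, rfl⟩
  unfold tb
  apply mk_mem_BP
  rw [mem_UU, tS_val _ _ hφ, add_sub_cancel_left]
  intro i j hji
  rw [vecMulVec_apply, Pi.single_apply]
  by_cases hi : i = i0
  · have hj : j = i0 := by
      apply Fin.ext
      have := Fin.le_def.1 hji
      rw [hi, h0] at this
      omega
    rw [dotProduct_single, mul_one] at hφ
    rw [hj, hφ, mul_zero]
  · rw [if_neg hi, zero_mul]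

theorem TA_le_BP (il : Fin n) (hl : il.val = n - 1) : TA (Pi.single il (1 : F)) ≤ BP n F := by
  rintro x ⟨a, ha, rfl⟩
  unfold tb
  apply mk_mem_BP
  rw [mem_UU, tS_val _ _ ha, add_sub_cancel_left]
  intro i j hji
  rw [vecMulVec_apply, Pi.single_apply]
  by_cases hj : j = il
  · have hi : i = il := by
      apply Fin.ext
      have := Fin.le_def.1 hji
      have h2 := i.2
      rw [hj, hl] at this
      omega
    rw [single_dotProduct, one_mul] at ha
    rw [hi, ha, zero_mul]
  · rw [if_neg hj, mul_zero]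

theorem UU_mulVec_e0 {u : SpecialLinearGroup (Fin n) F} (hu : u ∈ UU n F) (i0 : Fin n)
    (h0 : i0.val = 0) :
    (u : Matrix (Fin n) (Fin n) F) *ᵥ Pi.single i0 1 = Pi.single i0 1 := by
  rw [Matrix.mulVec_single_one]
  funext k
  rw [Pi.single_apply]
  by_cases hk : k = i0
  · rw [if_pos hk, hk]
    exact UU_entry_diag hu i0
  · rw [if_neg hk]
    apply UU_entry_lt hu
    rw [Fin.lt_def, h0]
    have : k.val ≠ i0.val := fun h => hk (Fin.ext h)
    omega

theorem mk_UU_mem_genSet {p f : ℕ} [hp : Fact p.Prime] (hF : Fintype.card F = p ^ f)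
    (hn : 2 ≤ n) {u : SpecialLinearGroup (Fin n) F} (hu : u ∈ UU n F) :
    (QuotientGroup.mk u : ProjectiveSpecialLinearGroup (Fin n) F) ∈ genSet p (BP n F) := by
  set i0 : Fin n := ⟨0, by omega⟩ with hi0
  refine ⟨Subgroup.le_normalizer (mk_mem_BP hu), TC (Pi.single i0 (1 : F)), TC_le_BP i0 rfl,
    centric_TC hn i0, Subgroup.subset_closure
      ⟨mk_mem_normalizer_TC u _ (UU_mulVec_e0 hu i0 rfl), pElt_of_mem_BP hF (mk_mem_BP hu)⟩⟩

theorem mk_dg_mem_normalizer (d : Fin n → F) (hd : ∏ i, d i = 1) :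
    (QuotientGroup.mk (dg d hd) : ProjectiveSpecialLinearGroup (Fin n) F) ∈
      Subgroup.normalizer (BP n F : Set (ProjectiveSpecialLinearGroup (Fin n) F)) := by
  apply mem_normalizer_of_conj2
  · intro y hy
    obtain ⟨u, hu, rfl⟩ := (mem_BP_iff _).1 hy
    rw [← QuotientGroup.mk_inv, ← QuotientGroup.mk_mul, ← QuotientGroup.mk_mul]
    exact mk_mem_BP (dg_mem_normalizes_UU d hd u hu)
  · intro y hy
    obtain ⟨u, hu, rfl⟩ := (mem_BP_iff _).1 hy
    rw [← QuotientGroup.mk_inv, ← QuotientGroup.mk_mul, ← QuotientGroup.mk_mul]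
    have := dg_mem_normalizes_UU _ (by rw [Finset.prod_inv_distrib, hd, inv_one] :
      ∏ i, (fun i => (d i)⁻¹) i = 1) u hu
    rw [← dg_inv d hd, inv_inv] at this
    exact mk_mem_BP this

theorem mk_transv_pElt {p : ℕ} [hp : Fact p.Prime] [CharP F p] {i j : Fin n} (hij : i ≠ j)
    (c : F) :
    ∃ m : ℕ, orderOf (QuotientGroup.mk (SpecialLinearGroup.transvection hij c) :
      ProjectiveSpecialLinearGroup (Fin n) F) = p ^ m := by
  have h1 : (QuotientGroup.mk (SpecialLinearGroup.transvection hij c) :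
      ProjectiveSpecialLinearGroup (Fin n) F) ^ p = 1 := by
    rw [← QuotientGroup.mk_pow, transvection_pow_char hij c p]
    rfl
  have h2 := orderOf_dvd_of_pow_eq_one h1
  rcases (Nat.dvd_prime hp.out).1 h2 with h | h
  · exact ⟨0, by rw [h, pow_zero]⟩
  · exact ⟨1, by rw [h, pow_one]⟩

theorem transv_mulVec_single {i j : Fin n} (hij : i ≠ j) (c : F) (i0 : Fin n) (h : j ≠ i0) :
    ((SpecialLinearGroup.transvection hij c : SpecialLinearGroup (Fin n) F) :
      Matrix (Fin n) (Fin n) F) *ᵥ Pi.single i0 1 = Pi.single i0 1 := by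
  rw [Matrix.mulVec_single_one]
  funext k
  rw [SpecialLinearGroup.transvection_coe]
  have hc : ¬ (i = k ∧ j = i0) := fun hh => h hh.2
  simp only [Matrix.col_apply, Matrix.add_apply, Matrix.one_apply, Matrix.single_apply,
    Pi.single_apply, if_neg hc, add_zero]

theorem single_vecMul_transv {i j : Fin n} (hij : i ≠ j) (c : F) (il : Fin n) (h : i ≠ il) :
    Pi.single il 1 ᵥ* ((SpecialLinearGroup.transvection hij c : SpecialLinearGroup (Fin n) F) :
      Matrix (Fin n) (Fin n) F) = Pi.single il 1 := by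
  rw [Matrix.single_one_vecMul]
  funext k
  rw [SpecialLinearGroup.transvection_coe]
  have hc : ¬ (i = il ∧ j = k) := fun hh => h hh.1
  simp only [Matrix.row_apply, Matrix.add_apply, Matrix.one_apply, Matrix.single_apply,
    Pi.single_apply, if_neg hc, add_zero]
  by_cases hk : k = il
  · rw [if_pos hk, if_pos hk.symm]
  · rw [if_neg hk, if_neg (Ne.symm hk)]

theorem diag2n_eq_dg {k k' : Fin n} (hkk : k ≠ k') (t : F) (ht : t ≠ 0) :
    ∃ (e : Fin n → F) (he : ∏ i, e i = 1), SpecialLinearGroup.diag2n hkk t ht = dg e he := by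
  have hprod : ∏ i : Fin n, (if i = k then t else if i = k' then t⁻¹ else 1 : F) = 1 := by
    have := (SpecialLinearGroup.diag2n hkk t ht).2
    rw [SpecialLinearGroup.diag2n_coe, Matrix.det_diagonal] at this
    exact this
  refine ⟨_, hprod, ?_⟩
  apply Subtype.ext
  rw [SpecialLinearGroup.diag2n_coe, dg_val]

theorem mk_torusGen_mem_genSet {p f : ℕ} [hp : Fact p.Prime] [CharP F p]
    (hF : Fintype.card F = p ^ f) (hn : 3 ≤ n) {x : SpecialLinearGroup (Fin n) F}
    (hx : x ∈ torusGen n F) :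
    (QuotientGroup.mk x : ProjectiveSpecialLinearGroup (Fin n) F) ∈ genSet p (BP n F) := by
  obtain ⟨k, k', hkk, hk1, t, ht, rfl⟩ := hx
  obtain ⟨e, he, hdg⟩ := diag2n_eq_dg hkk t ht
  refine ⟨by rw [hdg]; exact mk_dg_mem_normalizer e he, ?_⟩
  by_cases hk0 : k.val = 0
  · -- use the axis subgroup of the last coordinate
    set il : Fin n := ⟨n - 1, by omega⟩ with hil
    have hkl : k ≠ il := fun h => by
      have := congrArg Fin.val h
      simp only [hil] at this
      omega
    have hkl' : k' ≠ il := fun h => by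
      have := congrArg Fin.val h
      simp only [hil] at this
      omega
    have hmem : ∀ {i j : Fin n} (hij : i ≠ j) (c : F), i ≠ il →
        (QuotientGroup.mk (SpecialLinearGroup.transvection hij c) :
          ProjectiveSpecialLinearGroup (Fin n) F) ∈
        Subgroup.closure {y : ProjectiveSpecialLinearGroup (Fin n) F |
          y ∈ Subgroup.normalizer (TA (Pi.single il (1 : F)) :
            Set (ProjectiveSpecialLinearGroup (Fin n) F)) ∧ ∃ m : ℕ, orderOf y = p ^ m} :=
      fun hij c hi => Subgroup.subset_closure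
        ⟨mk_mem_normalizer_TA _ _ (single_vecMul_transv hij c il hi), mk_transv_pElt hij c⟩
    refine ⟨TA (Pi.single il (1 : F)), TA_le_BP il rfl, centric_TA (by omega) il, ?_⟩
    rw [Cfsg.Agent.helper2.diag2n_eq_prod hkk t ht]
    simp only [QuotientGroup.mk_mul]
    exact mul_mem (mul_mem (mul_mem (mul_mem (mul_mem (hmem hkk _ hkl) (hmem hkk.symm _ hkl'))
      (hmem hkk _ hkl)) (hmem hkk _ hkl)) (hmem hkk.symm _ hkl')) (hmem hkk _ hkl)
  · set i0 : Fin n := ⟨0, by omega⟩ with hi0
    have hk0' : k ≠ i0 := fun h => hk0 (by rw [h])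
    have hk0'' : k' ≠ i0 := fun h => by
      have := congrArg Fin.val h
      simp only [hi0] at this
      omega
    have hmem : ∀ {i j : Fin n} (hij : i ≠ j) (c : F), j ≠ i0 →
        (QuotientGroup.mk (SpecialLinearGroup.transvection hij c) :
          ProjectiveSpecialLinearGroup (Fin n) F) ∈
        Subgroup.closure {y : ProjectiveSpecialLinearGroup (Fin n) F |
          y ∈ Subgroup.normalizer (TC (Pi.single i0 (1 : F)) :
            Set (ProjectiveSpecialLinearGroup (Fin n) F)) ∧ ∃ m : ℕ, orderOf y = p ^ m} :=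
      fun hij c hj => Subgroup.subset_closure
        ⟨mk_mem_normalizer_TC _ _ (transv_mulVec_single hij c i0 hj), mk_transv_pElt hij c⟩
    refine ⟨TC (Pi.single i0 (1 : F)), TC_le_BP i0 rfl, centric_TC (by omega) i0, ?_⟩
    rw [Cfsg.Agent.helper2.diag2n_eq_prod hkk t ht]
    simp only [QuotientGroup.mk_mul]
    exact mul_mem (mul_mem (mul_mem (mul_mem (mul_mem (hmem hkk _ hk0'') (hmem hkk.symm _ hk0'))
      (hmem hkk _ hk0'')) (hmem hkk _ hk0'')) (hmem hkk.symm _ hk0')) (hmem hkk _ hk0'')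

theorem goodB_BP {p f : ℕ} [hp : Fact p.Prime] [CharP F p]
    (hF : Fintype.card F = p ^ f) (hn : 3 ≤ n) : GoodB p (BP n F) := by
  intro x hx
  obtain ⟨g, rfl⟩ := QuotientGroup.mk_surjective x
  have h1 := conj_mem_UU_of_normalizer hF (by omega) g hx
  have hup := upper_of_normalizes g h1
  obtain ⟨d, hd, u, hu, hg⟩ := exists_dg_mul_UU g hup
  rw [hg, QuotientGroup.mk_mul]
  apply mul_mem
  · have hle : Subgroup.closure (torusGen n F) ≤
        (Subgroup.closure (genSet p (BP n F))).comap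
          (QuotientGroup.mk' (Subgroup.center (SpecialLinearGroup (Fin n) F))) := by
      rw [Subgroup.closure_le]
      intro y hy
      exact Subgroup.subset_closure (mk_torusGen_mem_genSet hF hn hy)
    exact hle (dg_mem_closure d hd)
  · exact Subgroup.subset_closure (mk_UU_mem_genSet hF (by omega) hu)

end Cfsg.Agent.helper4.Pf
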