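import Mathlib
import Cfsg.Agent.Lib_helper4_PfH
import Cfsg.Agent.Lib_helper4_PfB

set_option autoImplicit false
set_option linter.unusedSectionVars false
set_option linter.unusedVariables false
set_option linter.style.haveILetI false
set_option maxHeartbeats 1600000

/-!
# The `p`-fusion system of `PSL_n(K)`, `n ≥ 3`, in characteristic `p` is simple
-/

namespace Cfsg.Agent.helper4.Pf

open Matrix Cfsg Cfsg.Agent.helper14

theorem psl_fusion_simple {K : Type*} [Field K] [Fintype K] (p : ℕ) [hp : Fact p.Prime] [CharP K p]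
    (n : ℕ) (hn : 3 ≤ n) (S : Sylow p (Matrix.ProjectiveSpecialLinearGroup (Fin n) K)) :
    (Cfsg.groupFusionSystem
      (S : Subgroup (Matrix.ProjectiveSpecialLinearGroup (Fin n) K))).IsSimple p := by
  classical
  obtain ⟨f, hF⟩ : ∃ f : ℕ, Fintype.card K = p ^ f := by
    obtain ⟨⟨f, hf⟩, hF⟩ := FiniteField.card K p
    exact ⟨f, hF.2⟩
  have hf : 1 ≤ f := by
    by_contra h
    have h0 : f = 0 := by omega
    rw [h0, pow_zero] at hF
    have := Fintype.one_lt_card (α := K)
    omega
  have hπs : Function.Surjective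
      (QuotientGroup.mk' (Subgroup.center (SpecialLinearGroup (Fin n) K))) :=
    QuotientGroup.mk'_surjective _
  set P₀ : Sylow p (ProjectiveSpecialLinearGroup (Fin n) K) :=
    (sylUU hF hf (by omega : 1 ≤ n)).mapSurjective hπs with hP₀def
  have hP₀ : (P₀ : Subgroup (ProjectiveSpecialLinearGroup (Fin n) K)) = BP n K := by
    rw [hP₀def, Sylow.coe_mapSurjective, sylUU_coe]
    rfl
  obtain ⟨a, ha⟩ := MulAction.exists_smul_eq (ProjectiveSpecialLinearGroup (Fin n) K) P₀ S
  have hS : (S : Subgroup (ProjectiveSpecialLinearGroup (Fin n) K)) =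
      (BP n K).map (MulAut.conj a).toMonoidHom := by
    rw [← ha, Sylow.coe_subgroup_smul, hP₀]
    rfl
  have hA : GoodA (S : Subgroup (ProjectiveSpecialLinearGroup (Fin n) K)) := by
    rw [hS]
    exact goodA_map _ _ (goodA_BP hF hn)
  have hB : GoodB p (S : Subgroup (ProjectiveSpecialLinearGroup (Fin n) K)) := by
    rw [hS]
    exact goodB_map p _ _ (goodB_BP hF hn)
  have hS1 : (S : Subgroup (ProjectiveSpecialLinearGroup (Fin n) K)) ≠ ⊥ := by
    rw [hS]
    intro h
    rw [Subgroup.map_eq_bot_iff_of_injective _ (MulEquiv.injective _)] at h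
    set i0 : Fin n := ⟨0, by omega⟩ with hi0
    set i1 : Fin n := ⟨1, by omega⟩ with hi1
    have hlt : i0 < i1 := by
      rw [Fin.lt_def]
      simp [hi0, hi1]
    have hmem : xr i0 i1 (1 : K) ∈ BP n K := by
      rw [xr_eq_mk (ne_of_lt hlt)]
      exact mk_mem_BP (transvection_mem_UU hlt 1)
    rw [h, Subgroup.mem_bot] at hmem
    exact xr_ne_one (by omega) (ne_of_lt hlt) one_ne_zero hmem
  exact simple_of_good p S hS1 hA hB

end Cfsg.Agent.helper4.Pf
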