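import Mathlib
import Cfsg.Agent.Lib_helper4_Burnside2

/-!
# Permutation groups of prime degree: subgroups of index `p` (helper4)

Working inside `Equiv.Perm (ZMod p)` with a group `Γ` containing the shift `j ↦ j + 1`.
-/

set_option autoImplicit false

namespace Cfsg.Agent.helper4.PrimeDeg

open Cfsg Cfsg.Agent.helper4

variable {p : ℕ} [Fact p.Prime]

/-- a subgroup of the affine group of order prime to `p` fixes a point (the centroid of an orbit). -/
theorem fixed_of_affine (H : Subgroup (Equiv.Perm (ZMod p)))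
    (hH : H ≤ Cfsg.affineGroup (ZMod p)) (hcop : ¬ p ∣ Nat.card H) :
    ∃ j, ∀ h ∈ H, h j = j := by
  classical
  have hp : p.Prime := Fact.out
  haveI : NeZero p := ⟨hp.ne_zero⟩
  haveI : Fintype H := Fintype.ofFinite H
  have hm : ((Nat.card H : ℕ) : ZMod p) ≠ 0 := by
    rwa [Ne, ZMod.natCast_eq_zero_iff]
  refine ⟨(∑ h : H, (h : Equiv.Perm (ZMod p)) 0) * ((Nat.card H : ℕ) : ZMod p)⁻¹, ?_⟩
  intro g hg
  obtain ⟨a, b, hab⟩ := hH hg
  rw [hab]
  have hsum : ∑ h : H, (h : Equiv.Perm (ZMod p)) 0 =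
      ∑ h : H, (((⟨g, hg⟩ : H) * h : H) : Equiv.Perm (ZMod p)) 0 :=
    (Equiv.sum_comp (Equiv.mulLeft (⟨g, hg⟩ : H)) (fun h : H => (h : Equiv.Perm (ZMod p)) 0)).symm
  have hsum2 : ∑ h : H, (((⟨g, hg⟩ : H) * h : H) : Equiv.Perm (ZMod p)) 0 =
      (a : ZMod p) * ∑ h : H, (h : Equiv.Perm (ZMod p)) 0 + ((Nat.card H : ℕ) : ZMod p) * b := by
    simp only [Subgroup.coe_mul, Equiv.Perm.mul_apply, hab]
    rw [Finset.sum_add_distrib, ← Finset.mul_sum, Finset.sum_const, Finset.card_univ, nsmul_eq_mul,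
      Nat.card_eq_fintype_card]
  rw [hsum2] at hsum
  calc (a : ZMod p) * ((∑ h : H, (h : Equiv.Perm (ZMod p)) 0) * ((Nat.card H : ℕ) : ZMod p)⁻¹) + b
      = ((a : ZMod p) * (∑ h : H, (h : Equiv.Perm (ZMod p)) 0) + ((Nat.card H : ℕ) : ZMod p) * b) *
          ((Nat.card H : ℕ) : ZMod p)⁻¹ := by
        rw [add_mul, mul_assoc, mul_comm ((Nat.card H : ℕ) : ZMod p) b, mul_assoc,
          mul_inv_cancel₀ hm, mul_one]
    _ = (∑ h : H, (h : Equiv.Perm (ZMod p)) 0) * ((Nat.card H : ℕ) : ZMod p)⁻¹ := by rw [← hsum]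

theorem addRight_pow_apply (t : ZMod p) (n : ℕ) (x : ZMod p) :
    ((Equiv.addRight t) ^ n) x = x + n • t := by
  induction n generalizing x with
  | zero => simp
  | succ n ih =>
    rw [pow_succ, Equiv.Perm.mul_apply, ih, Equiv.coe_addRight, succ_nsmul]
    ring

theorem orderOf_addRight {t : ZMod p} (ht : t ≠ 0) : orderOf (Equiv.addRight t) = p := by
  apply orderOf_eq_prime
  · apply Equiv.ext
    intro x
    rw [addRight_pow_apply, nsmul_eq_mul, ZMod.natCast_self, zero_mul, add_zero]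
    rfl
  · intro h
    have := congrArg (fun f : Equiv.Perm (ZMod p) => f 0) h
    simp only [Equiv.coe_addRight, zero_add, Equiv.Perm.coe_one, id_eq] at this
    exact ht this

/-- `Γ = T · H₀` where `T` is the translation group. -/
theorem exists_decomp (Γ H₀ : Subgroup (Equiv.Perm (ZMod p))) (hH : H₀ ≤ Γ)
    (hs : ∃ s ∈ Γ, ∀ j, s j = j + 1) (hcard : Nat.card Γ = p * Nat.card H₀)
    (hcop : ¬ p ∣ Nat.card H₀) :
    ∀ g ∈ Γ, ∃ i : ZMod p, ∃ h ∈ H₀, g = Equiv.addRight i * h := by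
  have hp : p.Prime := Fact.out
  haveI : NeZero p := ⟨hp.ne_zero⟩
  let φ : ZMod p × H₀ → Γ := fun x =>
    ⟨Equiv.addRight x.1 * x.2.1, Γ.mul_mem (addRight_mem hs _) (hH x.2.2)⟩
  have hinj : Function.Injective φ := by
    rintro ⟨i, h⟩ ⟨i', h'⟩ heq
    have h1 : Equiv.addRight i * (h : Equiv.Perm (ZMod p)) =
        Equiv.addRight i' * (h' : Equiv.Perm (ZMod p)) := congrArg Subtype.val heq
    have h2 : Equiv.addRight (i - i') * (h : Equiv.Perm (ZMod p)) = h' := by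
      apply Equiv.ext
      intro x
      have := congrArg (fun f : Equiv.Perm (ZMod p) => f x) h1
      simp only [Equiv.Perm.mul_apply, Equiv.coe_addRight] at this ⊢
      linear_combination this
    have h3 : i - i' = 0 := by
      by_contra hne
      have hmem : Equiv.addRight (i - i') ∈ H₀ := by
        rw [eq_mul_inv_of_mul_eq h2]
        exact H₀.mul_mem h'.2 (H₀.inv_mem h.2)
      have := H₀.orderOf_dvd_natCard hmem
      rw [orderOf_addRight hne] at this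
      exact hcop this
    have hi : i = i' := sub_eq_zero.mp h3
    subst hi
    have : (h : Equiv.Perm (ZMod p)) = h' := mul_left_cancel h1
    exact Prod.ext rfl (Subtype.ext this)
  have hbij := hinj.bijective_of_nat_card_le (by rw [Nat.card_prod, Nat.card_zmod, hcard])
  intro g hg
  obtain ⟨⟨i, h⟩, hx⟩ := hbij.2 ⟨g, hg⟩
  exact ⟨i, h.1, h.2, (congrArg Subtype.val hx).symm⟩

/-- a nonempty set invariant under a nonzero translation is everything -/
theorem periodic_eq (D : Finset (ZMod p)) (m : ZMod p) (hm : m ≠ 0)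
    (hper : ∀ y, y ∈ D ↔ y + m ∈ D) (a : ZMod p) (ha : a ∈ D) : ∀ y, y ∈ D := by
  have hp : p.Prime := Fact.out
  haveI : NeZero p := ⟨hp.ne_zero⟩
  have key : ∀ n : ℕ, a + n • m ∈ D := by
    intro n
    induction n with
    | zero => simpa using ha
    | succ n ih => rw [succ_nsmul, ← add_assoc]; exact (hper _).mp ih
  intro y
  have := key ((y - a) * m⁻¹).val
  rw [nsmul_eq_mul, ZMod.natCast_zmod_val, mul_assoc, inv_mul_cancel₀ hm, mul_one] at this
  simpa using this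

/-- the difference-set argument: in the doubly transitive case a subgroup of index `p` fixes a point -/
theorem fixed_of_twoTrans (hp2 : p ≠ 2) (Γ H₀ : Subgroup (Equiv.Perm (ZMod p))) (hH : H₀ ≤ Γ)
    (hs : ∃ s ∈ Γ, ∀ j, s j = j + 1) (hu : ∃ u ∈ Γ, ∃ c : ZMod p, ∀ j, u j = c - j)
    (h2 : TwoTrans Γ) (hcard : Nat.card Γ = p * Nat.card H₀) (hcop : ¬ p ∣ Nat.card H₀) :
    ∃ j, ∀ h ∈ H₀, h j = j := by
  classical
  by_contra hno
  push Not at hno
  have hp : p.Prime := Fact.out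
  haveI : NeZero p := ⟨hp.ne_zero⟩
  have h2ne : (2 : ZMod p) ≠ 0 := by
    intro h
    have h' : ((2 : ℕ) : ZMod p) = 0 := by exact_mod_cast h
    rw [ZMod.natCast_eq_zero_iff] at h'
    exact hp2 ((Nat.prime_dvd_prime_iff_eq hp Nat.prime_two).mp h')
  obtain ⟨D, hD⟩ : ∃ D : Finset (ZMod p), D = Finset.univ.filter (fun y => ∃ h ∈ H₀, h 0 = y) :=
    ⟨_, rfl⟩
  have hmemD : ∀ y, y ∈ D ↔ ∃ h ∈ H₀, h 0 = y := by
    intro y; rw [hD]; simp
  have hD0 : (0 : ZMod p) ∈ D := (hmemD 0).mpr ⟨1, H₀.one_mem, rfl⟩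
  have hDinv : ∀ h ∈ H₀, ∀ y, y ∈ D ↔ h y ∈ D := by
    intro h hh y
    rw [hmemD, hmemD]
    constructor
    · rintro ⟨g, hg, rfl⟩; exact ⟨h * g, H₀.mul_mem hh hg, rfl⟩
    · rintro ⟨g, hg, hgy⟩
      refine ⟨h⁻¹ * g, H₀.mul_mem (H₀.inv_mem hh) hg, ?_⟩
      rw [Equiv.Perm.mul_apply, hgy]; simp
  have hDne : ∃ z, z ∉ D := by
    by_contra hall
    push Not at hall
    apply hcop
    haveI : MulAction.IsPretransitive H₀ (ZMod p) := by
      constructor
      intro x y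
      obtain ⟨h₁, hh₁, rfl⟩ := (hmemD x).mp (hall x)
      obtain ⟨h₂, hh₂, rfl⟩ := (hmemD y).mp (hall y)
      refine ⟨⟨h₂ * h₁⁻¹, H₀.mul_mem hh₂ (H₀.inv_mem hh₁)⟩, ?_⟩
      show (h₂ * h₁⁻¹) (h₁ 0) = h₂ 0
      simp
    have h1 := MulAction.index_stabilizer_of_transitive H₀ (0 : ZMod p)
    have h2' := Subgroup.index_dvd_card (MulAction.stabilizer H₀ (0 : ZMod p))
    rw [h1, Nat.card_zmod] at h2'
    exact h2'
  have hdec := exists_decomp Γ H₀ hH hs hcard hcop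
  have hBP : ∀ g ∈ Γ, ∃ i, ∀ y, y ∈ D ↔ g y - i ∈ D := by
    intro g hg
    obtain ⟨i, h, hh, rfl⟩ := hdec g hg
    refine ⟨i, fun y => ?_⟩
    rw [Equiv.Perm.mul_apply, Equiv.coe_addRight, add_sub_cancel_right]
    exact hDinv h hh y
  obtain ⟨u, huΓ, c, huc⟩ := hu
  obtain ⟨i₀, hi₀⟩ := hBP u huΓ
  obtain ⟨t, ht⟩ : ∃ t : ZMod p, t = (c - i₀) * 2⁻¹ := ⟨_, rfl⟩
  have h2t : 2 * t = c - i₀ := by
    rw [ht, mul_comm, mul_assoc, inv_mul_cancel₀ h2ne, mul_one]
  have hsymD : ∀ z, z ∈ D ↔ 2 * t - z ∈ D := by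
    intro z
    rw [hi₀ z, huc, h2t]
    have : c - z - i₀ = c - i₀ - z := by ring
    rw [this]
  obtain ⟨D', hD'⟩ : ∃ D' : Finset (ZMod p), D' = Finset.univ.filter (fun y => y + t ∈ D) :=
    ⟨_, rfl⟩
  have hmemD' : ∀ y, y ∈ D' ↔ y + t ∈ D := by intro y; rw [hD']; simp
  have hsym : ∀ y, y ∈ D' ↔ -y ∈ D' := by
    intro y
    rw [hmemD', hmemD', hsymD (y + t)]
    have : 2 * t - (y + t) = -y + t := by ring
    rw [this]
  have hBP' : ∀ g ∈ Γ, ∃ i, ∀ x, x ∈ D' ↔ g x - i ∈ D' := by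
    intro g hg
    obtain ⟨i, hi⟩ := hBP (g * Equiv.addRight (-t)) (Γ.mul_mem hg (addRight_mem hs _))
    refine ⟨i + t, fun x => ?_⟩
    rw [hmemD', hmemD', hi (x + t)]
    simp only [Equiv.Perm.mul_apply, Equiv.coe_addRight]
    have e1 : x + t + -t = x := by ring
    have e2 : g x - (i + t) + t = g x - i := by ring
    rw [e1, e2]
  have hD'ne : ∃ z, z ∉ D' := by
    obtain ⟨z, hz⟩ := hDne
    refine ⟨z - t, ?_⟩
    rw [hmemD', sub_add_cancel]
    exact hz
  have hD'0 : -t ∈ D' := by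
    rw [hmemD', neg_add_cancel]
    exact hD0
  have hdist : ∀ i₁ i₂ : ZMod p, (∀ x, x - i₁ ∈ D' ↔ x - i₂ ∈ D') → i₁ = i₂ := by
    intro i₁ i₂ h
    by_contra hne
    obtain ⟨z, hz⟩ := hD'ne
    apply hz
    apply periodic_eq D' (i₁ - i₂) (sub_ne_zero.mpr hne) _ (-t) hD'0
    intro y
    have := h (y + i₁)
    have e1 : y + i₁ - i₁ = y := by ring
    have e2 : y + i₁ - i₂ = y + (i₁ - i₂) := by ring
    rwa [e1, e2] at this
  obtain ⟨T, hT⟩ : ∃ T : ZMod p → Finset (ZMod p),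
      T = fun d => Finset.univ.filter (fun i => 0 - i ∈ D' ∧ d - i ∈ D') := ⟨_, rfl⟩
  have hmemT : ∀ d i, i ∈ T d ↔ (0 - i ∈ D' ∧ d - i ∈ D') := by
    intro d i; rw [hT]; simp
  have hTle : ∀ d d' : ZMod p, d ≠ 0 → d' ≠ 0 → (T d).card ≤ (T d').card := by
    intro d d' hd hd'
    obtain ⟨g, hg, hg0, hgd⟩ := h2 0 d 0 d' (Ne.symm hd) (Ne.symm hd')
    have hφ : ∀ i : ZMod p, ∃ j, ∀ x, x - i ∈ D' ↔ g x - j ∈ D' := by
      intro i
      obtain ⟨j, hj⟩ := hBP' (g * Equiv.addRight i) (Γ.mul_mem hg (addRight_mem hs _))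
      refine ⟨j, fun x => ?_⟩
      have := hj (x - i)
      simp only [Equiv.Perm.mul_apply, Equiv.coe_addRight, sub_add_cancel] at this
      exact this
    choose φ hφ using hφ
    apply Finset.card_le_card_of_injOn φ
    · intro i hi
      rw [Finset.mem_coe, hmemT] at hi ⊢
      constructor
      · have := (hφ i 0).mp hi.1; rwa [hg0] at this
      · have := (hφ i d).mp hi.2; rwa [hgd] at this
    · intro i₁ _ i₂ _ heq
      apply hdist
      intro x
      rw [hφ i₁ x, hφ i₂ x, heq]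
  have hTeq : ∀ d d' : ZMod p, d ≠ 0 → d' ≠ 0 → (T d).card = (T d').card :=
    fun d d' hd hd' => le_antisymm (hTle d d' hd hd') (hTle d' d hd' hd)
  have hhalf : ∀ d i : ZMod p, d - i = i → i = d * 2⁻¹ := by
    intro d i h
    have : d = 2 * i := by linear_combination h
    rw [this, mul_comm 2 i, mul_assoc, mul_inv_cancel₀ h2ne, mul_one]
  have hhalf' : ∀ d : ZMod p, d - d * 2⁻¹ = d * 2⁻¹ := by
    intro d
    have h : d * 2⁻¹ * 2 = d := by rw [mul_assoc, inv_mul_cancel₀ h2ne, mul_one]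
    linear_combination (-1 : ZMod p) * h
  have hpar : ∀ d : ZMod p, Even (((T d).erase (d * 2⁻¹)).card) := by
    intro d
    have hsum : ∑ _i ∈ (T d).erase (d * 2⁻¹), (1 : ZMod 2) = 0 := by
      apply Finset.sum_involution (fun i _ => d - i)
      · intro i _; decide
      · intro i hi _ hfix
        exact (Finset.mem_erase.mp hi).1 (hhalf d i hfix)
      · intro i hi
        rw [Finset.mem_erase] at hi ⊢
        obtain ⟨hne, hiT⟩ := hi
        rw [hmemT] at hiT ⊢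
        refine ⟨?_, ?_, ?_⟩
        · intro h
          apply hne
          have h3 : d - d * 2⁻¹ = d * 2⁻¹ := hhalf' d
          have : i = d - d * 2⁻¹ := by rw [← h]; ring
          rw [this, h3]
        · have := (hsym (d - i)).mp hiT.2
          have e : 0 - (d - i) = -(d - i) := by ring
          rw [e]; exact this
        · have := (hsym (0 - i)).mp hiT.1
          have e : d - (d - i) = -(0 - i) := by ring
          rw [e]; exact this
      · intro i _; ring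
    rw [Finset.sum_const, nsmul_eq_mul, mul_one] at hsum
    exact (ZMod.natCast_eq_zero_iff_even).mp hsum
  have hmemT' : ∀ d : ZMod p, d * 2⁻¹ ∈ T d ↔ d * 2⁻¹ ∈ D' := by
    intro d
    rw [hmemT, hhalf' d, zero_sub, ← hsym]
    tauto
  have hkey : ∀ d d' : ZMod p, d ≠ 0 → d' ≠ 0 → (d * 2⁻¹ ∈ D' ↔ d' * 2⁻¹ ∈ D') := by
    intro d d' hd hd'
    have h1 := hTeq d d' hd hd'
    have hc : ∀ d : ZMod p, (T d).card =
        ((T d).erase (d * 2⁻¹)).card + (if d * 2⁻¹ ∈ D' then 1 else 0) := by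
      intro d
      by_cases hin : d * 2⁻¹ ∈ D'
      · rw [if_pos hin, Finset.card_erase_of_mem ((hmemT' d).mpr hin)]
        have : 0 < (T d).card := Finset.card_pos.mpr ⟨_, (hmemT' d).mpr hin⟩
        omega
      · rw [if_neg hin, Finset.erase_eq_of_notMem (fun h => hin ((hmemT' d).mp h))]; rfl
    rw [hc d, hc d'] at h1
    obtain ⟨a, ha⟩ := hpar d
    obtain ⟨b, hb⟩ := hpar d'
    by_cases hin : d * 2⁻¹ ∈ D' <;> by_cases hin' : d' * 2⁻¹ ∈ D' <;>
      simp only [hin, hin', if_true, if_false] at h1 ⊢ <;> omega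
  have hall : ∀ e e' : ZMod p, e ≠ 0 → e' ≠ 0 → (e ∈ D' ↔ e' ∈ D') := by
    intro e e' he he'
    have := hkey (2 * e) (2 * e') (mul_ne_zero h2ne he) (mul_ne_zero h2ne he')
    have e1 : ∀ x : ZMod p, 2 * x * 2⁻¹ = x := by
      intro x
      rw [mul_comm 2 x, mul_assoc, mul_inv_cancel₀ h2ne, mul_one]
    rwa [e1, e1] at this
  obtain ⟨h₁, hh₁, hh₁0⟩ := hno 0
  have hy₁ : h₁ 0 ∈ D := (hDinv h₁ hh₁ 0).mp hD0
  have hex : ∃ e, e ≠ 0 ∧ e ∈ D' := by
    by_cases h0t : (0 : ZMod p) = t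
    · refine ⟨h₁ 0 - t, ?_, ?_⟩
      · rw [← h0t, sub_zero]; exact hh₁0
      · rw [hmemD', sub_add_cancel]; exact hy₁
    · refine ⟨0 - t, ?_, ?_⟩
      · rw [zero_sub]; exact neg_ne_zero.mpr (Ne.symm h0t)
      · rw [hmemD', sub_add_cancel]; exact hD0
  obtain ⟨e, he0, heD⟩ := hex
  have hbig : ∀ y, y ≠ t → y ∈ D := by
    intro y hy
    have := (hall e (y - t) he0 (sub_ne_zero.mpr hy)).mp heD
    rwa [hmemD', sub_add_cancel] at this
  obtain ⟨z, hz⟩ := hDne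
  have hzt : z = t := by
    by_contra h
    exact hz (hbig z h)
  rw [hzt] at hz
  obtain ⟨h₃, hh₃, hne₃⟩ := hno t
  have : h₃ t ∈ D := hbig _ hne₃
  exact hz ((hDinv h₃ hh₃ t).mpr this)

end Cfsg.Agent.helper4.PrimeDeg
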