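import Mathlib
import Cfsg.Prelude.Def_PLocal
import Cfsg.Agent.Lib_helper4_QdS1
import Cfsg.Agent.Lib_helper4_QdS2
import Cfsg.Agent.Lib_helper4_QdS3

set_option autoImplicit false

/-!
# `Qd(p)`: nontrivial characteristic subgroups of a Sylow `p`-subgroup have the Sylow normalizer
-/

namespace Cfsg.Agent.helper4.QdS

open Matrix

variable {p : ℕ}

theorem main0 [hp : Fact p.Prime] (T0 : Subgroup ↥(S0 p)) (hne : T0 ≠ ⊥) (hc : T0.Characteristic) :
    Subgroup.normalizer ((T0.map (S0 p).subtype : Subgroup ↥(Cfsg.qd p)) : Set ↥(Cfsg.qd p))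
      = Subgroup.normalizer ((S0 p : Subgroup ↥(Cfsg.qd p)) : Set ↥(Cfsg.qd p)) := by
  have : NeZero p := ⟨hp.out.ne_zero⟩
  set T : Subgroup ↥(Cfsg.qd p) := T0.map (S0 p).subtype with hT
  have hTle : T ≤ S0 p := by
    rintro x ⟨y, _, rfl⟩
    exact y.2
  have hNle : Subgroup.normalizer ((S0 p : Subgroup ↥(Cfsg.qd p)) : Set ↥(Cfsg.qd p))
      ≤ Subgroup.normalizer ((T : Subgroup ↥(Cfsg.qd p)) : Set ↥(Cfsg.qd p)) :=
    le_normalizer_map_char (S0 p) T0 hc
  have hmemT : ∀ a b c : ZMod p,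
      mkS a b c ∈ T ↔ (⟨mkS a b c, mkS_mem a b c⟩ : ↥(S0 p)) ∈ T0 := by
    intro a b c
    constructor
    · rintro ⟨y, hy, hyx⟩
      have : y = ⟨mkS a b c, mkS_mem a b c⟩ := Subtype.ext hyx
      rw [← this]; exact hy
    · intro h; exact ⟨_, h, rfl⟩
  have hnorm : ∀ s ∈ S0 p, ∀ t ∈ T, s * t * s⁻¹ ∈ T := by
    intro s hs t ht
    have hsN : s ∈ Subgroup.normalizer ((T : Subgroup ↥(Cfsg.qd p)) : Set ↥(Cfsg.qd p)) :=
      hNle (Subgroup.le_normalizer hs)
    exact (Subgroup.mem_normalizer_iff.1 hsN t).1 ht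
  have hpsi : ∀ a b c : ZMod p, mkS a b c ∈ T → mkS b a (a * b - c) ∈ T := by
    intro a b c h
    rw [hmemT] at h ⊢
    have h1 : T0.comap (psi p).toMonoidHom = T0 := hc.fixed (psi p)
    have h2 : (⟨mkS a b c, mkS_mem a b c⟩ : ↥(S0 p)) ∈ T0.comap (psi p).toMonoidHom := by
      rw [h1]; exact h
    have h3 : psi p ⟨mkS a b c, mkS_mem a b c⟩ ∈ T0 := h2
    rw [psi_mkS] at h3
    exact h3
  have hsmul : ∀ (b c r : ZMod p), mkS 0 b c ∈ T → mkS 0 (r * b) (r * c) ∈ T := by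
    intro b c r h
    have := T.pow_mem h r.val
    rw [mkS_pow, ZMod.natCast_zmod_val] at this
    exact this
  -- a nontrivial central element
  have hZ : ∃ k : ZMod p, k ≠ 0 ∧ mkS 0 0 k ∈ T := by
    obtain ⟨t0, ht0, hne1⟩ : ∃ t ∈ T0, t ≠ 1 := by
      by_contra hcon
      push Not at hcon
      exact hne ((Subgroup.eq_bot_iff_forall _).2 hcon)
    have htT : t0.1 ∈ T := ⟨t0, ht0, rfl⟩
    have hrep := eq_mkS t0.2
    by_cases ha : ent t0.1 0 1 = 0
    · by_cases hb : ent t0.1 1 2 = 0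
      · refine ⟨ent t0.1 0 2, ?_, ?_⟩
        · intro hc0
          apply hne1
          apply Subtype.ext
          rw [hrep, ha, hb, hc0]
          exact mkS_zero
        · rw [hrep, ha, hb] at htT
          exact htT
      · refine ⟨- ent t0.1 1 2, neg_ne_zero.2 hb, ?_⟩
        have h1 := hnorm (mkS 1 0 0) (mkS_mem _ _ _) _ (T.inv_mem htT)
        have h2 := T.mul_mem htT h1
        rw [hrep, ha] at h2
        rw [mkS_inv, mkS_inv, mkS_mul, mkS_mul, mkS_mul] at h2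
        convert h2 using 2 <;> ring
    · refine ⟨ent t0.1 0 1, ha, ?_⟩
      have h1 := hnorm (mkS 0 1 0) (mkS_mem _ _ _) _ (T.inv_mem htT)
      have h2 := T.mul_mem htT h1
      rw [hrep] at h2
      rw [mkS_inv, mkS_inv, mkS_mul, mkS_mul, mkS_mul] at h2
      convert h2 using 2 <;> ring
  obtain ⟨k, hk0, hkT⟩ := hZ
  have hZall : ∀ m : ZMod p, mkS 0 0 m ∈ T := by
    intro m
    have := hsmul 0 k (m * k⁻¹) hkT
    rw [mul_zero, mul_assoc, inv_mul_cancel₀ hk0, mul_one] at this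
    exact this
  -- a translation outside the centre gives everything
  have hVall : ∀ b c : ZMod p, b ≠ 0 → mkS 0 b c ∈ T → ∀ b' c' : ZMod p, mkS 0 b' c' ∈ T := by
    intro b c hb h b' c'
    have h1 := hsmul b c (b' * b⁻¹) h
    rw [mul_assoc, inv_mul_cancel₀ hb, mul_one] at h1
    have h2 := T.mul_mem h1 (hZall (c' - b' * b⁻¹ * c))
    rw [mkS_mul] at h2
    convert h2 using 2 <;> ring
  have htop : (∀ b' c' : ZMod p, mkS 0 b' c' ∈ T) → T = S0 p := by
    intro hV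
    apply le_antisymm hTle
    intro s hs
    rw [eq_mkS hs]
    have h1 := hpsi _ _ _ (hV (ent s 0 1) 0)
    have h2 := T.mul_mem h1 (hV (ent s 1 2) (ent s 0 2 - ent s 0 1 * ent s 1 2))
    rw [mkS_mul] at h2
    convert h2 using 2 <;> ring
  apply le_antisymm _ hNle
  intro g hg
  have h1 := (Subgroup.mem_normalizer_iff.1 hg (mkS 0 0 1)).1 (hZall 1)
  rw [conj_mkS_001] at h1
  by_cases h10 : ent g 1 0 = 0
  · exact B0_le_normalizer h10
  · have := htop (hVall _ _ h10 h1)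
    rw [← this]
    exact hg

end Cfsg.Agent.helper4.QdS
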