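import Mathlib
import Cfsg.Agent.Lib_helper4_RedB
import Cfsg.Agent.Lib_helper4_DkI

set_option autoImplicit false
set_option linter.unusedSectionVars false

/-!
# Quadratic pairs over a finite field: a homomorphism to `SL₂` of the same field
-/

namespace Cfsg.Agent.helper4.Red

open Matrix Cfsg.Agent.helper4.Dk

universe u v w

/-- quadratic pairs map to `SL₂` of the algebraic closure (any characteristic) -/
theorem comb0 {k : Type u} [Field k] {p : ℕ} [Fact p.Prime] [CharP k p]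
    {Γ : Type v} [Group Γ] {a b : Γ} (hgen : Subgroup.closure {a, b} = ⊤)
    {M : Type w} [AddCommGroup M] [Module k M] [FiniteDimensional k M]
    (ρ₀ : Γ →* Module.End k M) (ha2 : (ρ₀ a - 1) * (ρ₀ a - 1) = 0)
    (hb2 : (ρ₀ b - 1) * (ρ₀ b - 1) = 0) (hnu : ∃ g : Γ, ∀ j : ℕ, ρ₀ (g ^ p ^ j) ≠ 1) :
    ∃ (φ : Γ →* SpecialLinearGroup (Fin 2) (AlgebraicClosure k)) (μ : AlgebraicClosure k),
      μ ≠ 0 ∧ φ a = uS μ ∧ φ b = lS 1 := by
  haveI : CharP (AlgebraicClosure k) p :=
    charP_of_injective_algebraMap (algebraMap k (AlgebraicClosure k)).injective p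
  have hp : ((p : ℕ) : AlgebraicClosure k) = 0 := CharP.cast_eq_zero _ p
  set n := Module.finrank k M with hn
  set B := Module.finBasis k M with hB
  set R := bcHom (AlgebraicClosure k) B with hR
  have hRinj := bcHom_injective (AlgebraicClosure k) B
  set ρ : Γ →* Module.End (AlgebraicClosure k) (Fin n → AlgebraicClosure k) :=
    (R : Module.End k M →* _).comp ρ₀ with hρ
  have hρ_apply : ∀ g, ρ g = R (ρ₀ g) := fun g => rfl
  have ha2' : (ρ a - 1) * (ρ a - 1) = 0 := by
    rw [hρ_apply, ← map_one R, ← map_sub, ← map_mul, ha2, map_zero]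
  have hb2' : (ρ b - 1) * (ρ b - 1) = 0 := by
    rw [hρ_apply, ← map_one R, ← map_sub, ← map_mul, hb2, map_zero]
  have hnu' : ∃ g : Γ, ∀ j : ℕ, ρ (g ^ p ^ j) ≠ 1 := by
    obtain ⟨g, hg⟩ := hnu
    refine ⟨g, fun j h => hg j ?_⟩
    apply hRinj
    rw [map_one, ← hρ_apply, h]
  exact red_main (K := AlgebraicClosure k) hp hgen n
    (Fin n → AlgebraicClosure k) ρ (Module.finrank_fin_fun _) ha2' hb2' hnu'

/-- the embedding of `SL₂` of a field in `SL₂` of an extension -/
noncomputable def slMap (k L : Type*) [Field k] [Field L] [Algebra k L] :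
    SpecialLinearGroup (Fin 2) k →* SpecialLinearGroup (Fin 2) L :=
  Matrix.SpecialLinearGroup.map (algebraMap k L)

theorem slMap_apply (k L : Type*) [Field k] [Field L] [Algebra k L]
    (g : SpecialLinearGroup (Fin 2) k) (i j : Fin 2) :
    (slMap k L g) i j = algebraMap k L (g i j) := by
  simp [slMap, Matrix.map_apply]

theorem slMap_injective (k L : Type*) [Field k] [Field L] [Algebra k L] :
    Function.Injective (slMap k L) := by
  intro g h hgh
  apply sl_ext'
  all_goals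
    apply (algebraMap k L).injective
    rw [← slMap_apply, ← slMap_apply, hgh]

theorem slMap_uS (k L : Type*) [Field k] [Field L] [Algebra k L] (a : k) :
    slMap k L (uS a) = uS (algebraMap k L a) := by
  apply sl_ext' <;> simp [slMap, Matrix.map_apply]

theorem slMap_lS (k L : Type*) [Field k] [Field L] [Algebra k L] (a : k) :
    slMap k L (lS a) = lS (algebraMap k L a) := by
  apply sl_ext' <;> simp [slMap, Matrix.map_apply]

/-- **quadratic pairs over a finite field**, with the eigenvalue condition on `a * b` -/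
theorem comb_finite {k : Type u} [Field k] [Fintype k] {p : ℕ} [Fact p.Prime] [CharP k p]
    {Γ : Type v} [Group Γ] {a b : Γ} (hgen : Subgroup.closure {a, b} = ⊤)
    {M : Type w} [AddCommGroup M] [Module k M] [FiniteDimensional k M]
    (ρ₀ : Γ →* Module.End k M) (ha2 : (ρ₀ a - 1) * (ρ₀ a - 1) = 0)
    (hb2 : (ρ₀ b - 1) * (ρ₀ b - 1) = 0) (hnu : ∃ g : Γ, ∀ j : ℕ, ρ₀ (g ^ p ^ j) ≠ 1)
    (hk : ∃ e m : ℕ, (a * b) ^ (p ^ e * m) = 1 ∧ m ∣ Fintype.card k - 1) :
    ∃ φ : Γ →* SpecialLinearGroup (Fin 2) k, ¬ IsPGroup p φ.range := by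
  haveI : CharP (AlgebraicClosure k) p :=
    charP_of_injective_algebraMap (algebraMap k (AlgebraicClosure k)).injective p
  obtain ⟨φ, μ, hμ, hφa, hφb⟩ := comb0 hgen ρ₀ ha2 hb2 hnu
  set g := φ (a * b) with hg
  have hg' : g = uS μ * lS 1 := by rw [hg, map_mul, hφa, hφb]
  have htr : tr g = 2 + μ := by rw [hg', tr_uS_mul_lS, mul_one]
  -- μ lies in k
  obtain ⟨σ, hσ0, hσtr, hσpow⟩ := exists_eigen' g
  obtain ⟨e, m, hord, hm⟩ := hk
  have hgpow : g ^ (p ^ e * m) = 1 := by rw [hg, ← map_pow, hord, map_one]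
  have hσ1 := hσpow _ hgpow
  have hσm : σ ^ m = 1 := by
    have h3 : (σ ^ m - 1) ^ p ^ e = 0 := by
      rw [sub_pow_char_pow, ← pow_mul, mul_comm, hσ1, one_pow, sub_self]
    exact sub_eq_zero.mp
      (pow_eq_zero_iff (pow_ne_zero e (Fact.out : p.Prime).ne_zero) |>.mp h3)
  have hq : 1 ≤ Fintype.card k := Fintype.card_pos
  have hσq : σ ^ Fintype.card k = σ := by
    obtain ⟨c, hc⟩ := hm
    have : Fintype.card k = m * c + 1 := by omega
    rw [this, pow_succ, pow_mul, hσm, one_pow, one_mul]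
  obtain ⟨σ₀, hσ₀⟩ := mem_range_of_pow_card σ hσq
  have hμk : μ = algebraMap k (AlgebraicClosure k) (σ₀ + σ₀⁻¹ - 2) := by
    have h1 : algebraMap k (AlgebraicClosure k) (σ₀ + σ₀⁻¹ - 2) = σ + σ⁻¹ - 2 := by
      rw [map_sub, map_add, map_inv₀, hσ₀, map_ofNat]
    rw [h1, ← hσtr, htr]
    ring
  set μ₀ := σ₀ + σ₀⁻¹ - 2 with hμ₀
  -- the range lies in SL₂(k)
  have hrange : φ.range ≤ (slMap k (AlgebraicClosure k)).range := by
    rw [MonoidHom.range_eq_map, ← hgen, MonoidHom.map_closure, Subgroup.closure_le]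
    rintro _ ⟨z, (rfl | rfl), rfl⟩
    · exact ⟨uS μ₀, by rw [slMap_uS, ← hμk, hφa]⟩
    · exact ⟨lS 1, by rw [slMap_lS, map_one, hφb]⟩
  let ι := MonoidHom.ofInjective (slMap_injective k (AlgebraicClosure k))
  let φ₁ : Γ →* (slMap k (AlgebraicClosure k)).range :=
    φ.codRestrict _ (fun z => hrange ⟨z, rfl⟩)
  refine ⟨ι.symm.toMonoidHom.comp φ₁, ?_⟩
  intro hP
  obtain ⟨j, hj⟩ := hP ⟨_, ⟨a * b, rfl⟩⟩
  have hj' : (ι.symm (φ₁ (a * b))) ^ p ^ j = 1 := by
    have := congrArg Subtype.val hj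
    simp only [Subgroup.coe_pow, Subgroup.coe_one] at this
    exact this
  have hj2 : g ^ p ^ j = 1 := by
    have h1 : ι (ι.symm (φ₁ (a * b)) ^ p ^ j) = 1 := by rw [hj', map_one]
    rw [map_pow, MulEquiv.apply_symm_apply] at h1
    have := congrArg Subtype.val h1
    simpa [φ₁, hg] using this
  have := tr_eq_two_of_pow' g j hj2
  rw [htr] at this
  apply hμ
  linear_combination this

end Cfsg.Agent.helper4.Red
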