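import Mathlib

set_option autoImplicit false

namespace Cfsg.Agent.helper4

open MulAction

section
variable {α : Type*}

/-- transitivity of a permutation group, stated elementwise -/
def PTrans (A : Subgroup (Equiv.Perm α)) : Prop := ∀ a b : α, ∃ x ∈ A, x a = b

theorem eq_one_of_centralizer_fix {A : Subgroup (Equiv.Perm α)} (hA : PTrans A)
    {c : Equiv.Perm α} (hc : c ∈ Subgroup.centralizer (A : Set (Equiv.Perm α))) {a : α}
    (hca : c a = a) : c = 1 := by
  apply Equiv.ext
  intro b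
  obtain ⟨x, hx, rfl⟩ := hA a b
  have hcomm : x * c = c * x := Subgroup.mem_centralizer_iff.mp hc x hx
  have h1 : (c * x) a = (x * c) a := by rw [hcomm]
  rw [Equiv.Perm.mul_apply, Equiv.Perm.mul_apply, hca] at h1
  rw [Equiv.Perm.one_apply]
  exact h1

theorem centralizer_eq_of_ptrans {A B : Subgroup (Equiv.Perm α)} (hA : PTrans A) (hB : PTrans B)
    (hBA : B ≤ Subgroup.centralizer (A : Set (Equiv.Perm α))) :
    Subgroup.centralizer (A : Set (Equiv.Perm α)) = B := by
  apply le_antisymm _ hBA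
  intro c hc
  rcases isEmpty_or_nonempty α with hα | ⟨⟨a⟩⟩
  · have : c = 1 := Equiv.ext (fun x => (hα.false x).elim)
    rw [this]; exact B.one_mem
  · obtain ⟨n, hn, hna⟩ := hB a (c a)
    have h1 : n⁻¹ * c ∈ Subgroup.centralizer (A : Set (Equiv.Perm α)) :=
      Subgroup.mul_mem _ (Subgroup.inv_mem _ (hBA hn)) hc
    have h2 : (n⁻¹ * c) a = a := by
      rw [Equiv.Perm.mul_apply, ← hna, Equiv.Perm.inv_def, Equiv.symm_apply_apply]
    have h3 := eq_one_of_centralizer_fix hA h1 h2
    have : c = n := by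
      have := congrArg (fun z => n * z) h3
      simpa using this
    rw [this]; exact hn

variable (G : Subgroup (Equiv.Perm α))

theorem ptrans_map (M : Subgroup G) (hM : IsPretransitive M α) : PTrans (M.map G.subtype) := by
  intro a b
  obtain ⟨m, hm⟩ := hM.exists_smul_eq a b
  exact ⟨((m : G) : Equiv.Perm α), ⟨(m : G), m.2, rfl⟩, hm⟩

theorem mem_map_subtype_iff (M : Subgroup G) (x : Equiv.Perm α) :
    x ∈ M.map G.subtype ↔ ∃ hx : x ∈ G, (⟨x, hx⟩ : G) ∈ M := by
  constructor
  · rintro ⟨y, hy, rfl⟩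
    exact ⟨y.2, hy⟩
  · rintro ⟨hx, hy⟩
    exact ⟨⟨x, hx⟩, hy, rfl⟩

theorem map_subtype_le_iff (L M : Subgroup G) : L.map G.subtype ≤ M.map G.subtype ↔ L ≤ M :=
  Subgroup.map_le_map_iff_of_injective (Subgroup.subtype_injective G)

/-- two normal subgroups with trivial intersection centralize each other (image form) -/
theorem map_le_centralizer_of_disjoint (L M : Subgroup G) (hL : L.Normal) (hM : M.Normal)
    (hd : L ⊓ M = ⊥) :
    L.map G.subtype ≤ Subgroup.centralizer ((M.map G.subtype : Subgroup (Equiv.Perm α)) : Set (Equiv.Perm α)) := by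
  rintro x ⟨l, hl, rfl⟩
  rw [Subgroup.mem_centralizer_iff]
  rintro y ⟨m, hm, rfl⟩
  have hc := Subgroup.commute_of_normal_of_disjoint L M hL hM (disjoint_iff.mpr hd) l m hl hm
  have : m * l = l * m := hc.eq.symm
  exact congrArg Subtype.val this

/-- distinct minimal normal subgroups meet trivially -/
theorem inf_eq_bot_of_minimal (L M : Subgroup G) (hL : L.Normal) (hM : M.Normal)
    (hL0 : L ≠ ⊥)
    (hLmin : ∀ L' : Subgroup G, L'.Normal → L' ≤ L → L' = ⊥ ∨ L' = L)
    (hMmin : ∀ L' : Subgroup G, L'.Normal → L' ≤ M → L' = ⊥ ∨ L' = M)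
    (hne : L ≠ M) : L ⊓ M = ⊥ := by
  have hn : (L ⊓ M).Normal := Subgroup.normal_inf_normal L M
  rcases hLmin (L ⊓ M) hn inf_le_left with h | h
  · exact h
  · exfalso
    have hLM : L ≤ M := inf_eq_left.mp h
    rcases hMmin L hL hLM with h1 | h1
    · exact hL0 h1
    · exact hne h1

end

end Cfsg.Agent.helper4
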