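import Mathlib

set_option autoImplicit false

namespace Cfsg.Agent.helper4.S1774x

variable {G : Type*} [Group G]

/-- (A) The subgroup generated by two commuting involutions is `{1, z, t, z*t}`. -/
theorem closure_pair_cases (z t : G) (hz : z * z = 1) (ht : t * t = 1) (hc : z * t = t * z) :
    ∀ u ∈ Subgroup.closure ({z, t} : Set G), u = 1 ∨ u = z ∨ u = t ∨ u = z * t := by
  have hz' : ∀ x : G, z * (z * x) = x := fun x => by rw [← mul_assoc, hz, one_mul]
  have htz : t * z = z * t := hc.symm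
  have htz' : ∀ x : G, t * (z * x) = z * (t * x) := fun x => by
    rw [← mul_assoc, htz, mul_assoc]
  have hzi : z⁻¹ = z := inv_eq_of_mul_eq_one_left hz
  have hti : t⁻¹ = t := inv_eq_of_mul_eq_one_left ht
  intro u hu
  induction hu using Subgroup.closure_induction with
  | mem x hx =>
    rcases hx with rfl | rfl
    · exact Or.inr (Or.inl rfl)
    · exact Or.inr (Or.inr (Or.inl rfl))
  | one => exact Or.inl rfl
  | mul a b _ _ iha ihb =>
    rcases iha with rfl | rfl | rfl | rfl <;> rcases ihb with rfl | rfl | rfl | rfl <;>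
      simp [mul_assoc, hz, ht, hz', htz, htz']
  | inv a _ iha =>
    rcases iha with rfl | rfl | rfl | rfl
    · simp
    · simp [hzi]
    · simp [hti]
    · right; right; right
      rw [mul_inv_rev, hzi, hti, htz]

theorem conj_mul_eq (a b g : G) : (a * b) * g * (a * b)⁻¹ = a * (b * g * b⁻¹) * a⁻¹ := by group

theorem conj_prod_eq (a x y : G) : a * (x * y) * a⁻¹ = (a * x * a⁻¹) * (a * y * a⁻¹) := by group

/-- (D) `w = q0 * y * q0` swaps `z` and `t`. -/
theorem swap_of_two (z t q0 y : G) (hz : z * z = 1) (ht : t * t = 1)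
    (hq0z : q0 * z * q0⁻¹ = z) (hq0t : q0 * t * q0⁻¹ = z * t)
    (hyz : y * z * y⁻¹ = z * t) (hyt : y * t * y⁻¹ = t) :
    (q0 * y * q0) * z * (q0 * y * q0)⁻¹ = t ∧ (q0 * y * q0) * t * (q0 * y * q0)⁻¹ = z := by
  have hz' : ∀ x : G, z * (z * x) = x := fun x => by rw [← mul_assoc, hz, one_mul]
  constructor
  · rw [conj_mul_eq, hq0z, conj_mul_eq, hyz, conj_prod_eq, hq0z, hq0t, hz']
  · rw [conj_mul_eq, hq0t, conj_mul_eq, conj_prod_eq y, hyz, hyt, mul_assoc z t t, ht, mul_one,
      hq0z]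

/-- (E) All six "automorphisms" of the four-group are induced, given `q0` (fixing `z`, moving `t`
to `z*t`) and `p` (fixing `t`, moving `z` to `z*t`) in a subgroup `X`. -/
theorem all_pairs (X : Subgroup G) (z t q0 p : G) (hz : z * z = 1) (ht : t * t = 1)
    (hc : z * t = t * z) (hq0 : q0 ∈ X) (hp : p ∈ X)
    (hq0z : q0 * z * q0⁻¹ = z) (hq0t : q0 * t * q0⁻¹ = z * t)
    (hpz : p * z * p⁻¹ = z * t) (hpt : p * t * p⁻¹ = t) :
    ∀ u ∈ Subgroup.closure ({z, t} : Set G), ∀ v ∈ Subgroup.closure ({z, t} : Set G),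
      u ≠ 1 → v ≠ 1 → u ≠ v → ∃ x ∈ X, x * z * x⁻¹ = u ∧ x * t * x⁻¹ = v := by
  have hz' : ∀ x : G, z * (z * x) = x := fun x => by rw [← mul_assoc, hz, one_mul]
  have hztt : z * t * t = z := by rw [mul_assoc, ht, mul_one]
  have hsw := swap_of_two z t q0 p hz ht hq0z hq0t hpz hpt
  intro u hu v hv hu1 hv1 huv
  rcases closure_pair_cases z t hz ht hc u hu with h | h | h | h
  · exact absurd h hu1
  · -- u = z
    rcases closure_pair_cases z t hz ht hc v hv with h' | h' | h' | h'
    · exact absurd h' hv1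
    · exact absurd (h.trans h'.symm) huv
    · rw [h, h']; exact ⟨1, X.one_mem, by simp, by simp⟩
    · rw [h, h']; exact ⟨q0, hq0, hq0z, hq0t⟩
  · -- u = t
    rcases closure_pair_cases z t hz ht hc v hv with h' | h' | h' | h'
    · exact absurd h' hv1
    · rw [h, h']; exact ⟨q0 * p * q0, X.mul_mem (X.mul_mem hq0 hp) hq0, hsw.1, hsw.2⟩
    · exact absurd (h.trans h'.symm) huv
    · rw [h, h']
      refine ⟨q0 * p, X.mul_mem hq0 hp, ?_, ?_⟩
      · rw [conj_mul_eq, hpz, conj_prod_eq, hq0z, hq0t, hz']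
      · rw [conj_mul_eq, hpt, hq0t]
  · -- u = z * t
    rcases closure_pair_cases z t hz ht hc v hv with h' | h' | h' | h'
    · exact absurd h' hv1
    · rw [h, h']
      refine ⟨p * q0, X.mul_mem hp hq0, ?_, ?_⟩
      · rw [conj_mul_eq, hq0z, hpz]
      · rw [conj_mul_eq, hq0t, conj_prod_eq, hpz, hpt, hztt]
    · rw [h, h']; exact ⟨p, hp, hpz, hpt⟩
    · exact absurd (h.trans h'.symm) huv

end Cfsg.Agent.helper4.S1774x
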