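import Mathlib

set_option autoImplicit false

namespace Cfsg.Agent.helper4.S1774x

open Subgroup

/-- Normalizers grow in `p`-groups (subgroup form). -/
theorem exists_mem_normalizer_not_mem_of_lt {G : Type*} [Group G] [Finite G] (p : ℕ) [Fact p.Prime]
    (P D : Subgroup G) (hP : IsPGroup p P) (hDP : D < P) :
    ∃ x ∈ P, x ∉ D ∧ x ∈ Subgroup.normalizer (D : Set G) := by
  have : Group.IsNilpotent P := hP.isNilpotent
  have nc := Group.normalizerCondition_of_isNilpotent (G := P)
  have hlt : D.subgroupOf P < ⊤ := by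
    rw [lt_top_iff_ne_top]
    intro h
    rw [Subgroup.subgroupOf_eq_top] at h
    exact (not_le_of_gt hDP) h
  have h1 := nc _ hlt
  rw [← Subgroup.subgroupOf_normalizer_eq hDP.le] at h1
  obtain ⟨x, hx, hx'⟩ := SetLike.exists_of_lt h1
  exact ⟨x, x.2, hx', hx⟩

/-- A normal `p`-subgroup lies in every Sylow `p`-subgroup. -/
theorem normal_pgroup_le_sylow {G : Type*} [Group G] (p : ℕ) [Fact p.Prime] (D : Subgroup G)
    [D.Normal] (hD : IsPGroup p D) (S : Sylow p G) : D ≤ S := by
  have h1 : IsPGroup p (D ⊔ (S : Subgroup G) : Subgroup G) := hD.to_sup_of_normal_left S.isPGroup'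
  have h2 := S.is_maximal' h1 le_sup_right
  rw [← h2]; exact le_sup_left

/-- Conjugate elements have centralizers of the same order. -/
theorem card_centralizer_conj {G : Type*} [Group G] (z g : G) :
    Nat.card ↥(centralizer ({g * z * g⁻¹} : Set G)) = Nat.card ↥(centralizer ({z} : Set G)) := by
  refine Nat.card_congr
    { toFun := fun y => ⟨g⁻¹ * y.1 * g, ?_⟩
      invFun := fun x => ⟨g * x.1 * g⁻¹, ?_⟩
      left_inv := fun y => by ext; simp [mul_assoc]
      right_inv := fun x => by ext; simp [mul_assoc] }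
  · have hy := mem_centralizer_singleton_iff.1 y.2
    rw [mem_centralizer_singleton_iff]
    have : g⁻¹ * y.1 * g * z = g⁻¹ * (y.1 * (g * z * g⁻¹)) * g := by group
    rw [this, hy]; group
  · have hx := mem_centralizer_singleton_iff.1 x.2
    rw [mem_centralizer_singleton_iff]
    have : g * x.1 * g⁻¹ * (g * z * g⁻¹) = g * (x.1 * z) * g⁻¹ := by group
    rw [this, hx]; group

/-- (B) The element `y` fixing `t` and moving `z`. -/
theorem exists_y {G : Type*} [Group G] [Finite G] (z t g : G) (hgt : t = g * z * g⁻¹)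
    (Q : Subgroup G) (hQz : Q ≤ centralizer ({z} : Set G)) (hQ2 : IsPGroup 2 Q)
    (hQn : ∀ h ∈ centralizer ({z} : Set G), ∀ q ∈ Q, h * q * h⁻¹ ∈ Q)
    (q0 : G) (hq0 : q0 ∈ Q) (hq0t : q0 * t * q0⁻¹ ≠ t)
    (S : Subgroup G) (hSle : S ≤ centralizer ({z} : Set G) ⊓ centralizer ({t} : Set G))
    (hS2 : IsPGroup 2 S)
    (hSmax : ∀ S' : Subgroup G, S' ≤ centralizer ({z} : Set G) ⊓ centralizer ({t} : Set G) →
      IsPGroup 2 S' → S ≤ S' → S' = S) :
    ∃ y ∈ normalizer (S : Set G), y * t * y⁻¹ = t ∧ y * z * y⁻¹ ≠ z := by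
  have : Fact (Nat.Prime 2) := ⟨Nat.prime_two⟩
  set Cz := centralizer ({z} : Set G) with hCz
  set Ct := centralizer ({t} : Set G) with hCt
  have hSz : S ≤ Cz := hSle.trans inf_le_left
  have hSt : S ≤ Ct := hSle.trans inf_le_right
  -- a Sylow 2-subgroup of Ct containing S
  have hS't : IsPGroup 2 (S.subgroupOf Ct) := hS2.comap_subtype
  obtain ⟨P, hP⟩ := hS't.exists_le_sylow
  set T' : Subgroup G := (P : Subgroup Ct).map Ct.subtype with hT'
  have hT'2 : IsPGroup 2 T' := P.isPGroup'.map _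
  have hT'le : T' ≤ Ct := map_subtype_le _
  have hST' : S ≤ T' := by
    intro s hs
    exact ⟨⟨s, hSt hs⟩, hP (by rw [mem_subgroupOf]; exact hs), rfl⟩
  have hcardT' : Nat.card T' = 2 ^ (Nat.card Ct).factorization 2 := by
    rw [← P.card_eq_multiplicity]
    exact Nat.card_congr ((P : Subgroup Ct).equivMapOfInjective Ct.subtype
      (subtype_injective _)).symm.toEquiv
  have hcardCt : Nat.card Ct = Nat.card Cz := by
    rw [hCt, hgt]; exact card_centralizer_conj z g
  -- S ≠ T'
  have hne : S ≠ T' := by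
    intro hEq
    have hS'z : IsPGroup 2 (S.subgroupOf Cz) := hS2.comap_subtype
    obtain ⟨P', hP'⟩ := hS'z.exists_le_sylow
    have hcardP' : Nat.card P' = 2 ^ (Nat.card Cz).factorization 2 := P'.card_eq_multiplicity
    have hcardS : Nat.card (S.subgroupOf Cz) = Nat.card S :=
      Nat.card_congr (subgroupOfEquivOfLe hSz).toEquiv
    have hEqP' : S.subgroupOf Cz = (P' : Subgroup Cz) := by
      apply eq_of_le_of_card_ge hP'
      rw [hcardP', hcardS, hEq, hcardT', hcardCt]
    have hQnorm : (Q.subgroupOf Cz).Normal := by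
      constructor
      intro n hn h
      rw [mem_subgroupOf] at hn ⊢
      exact hQn h.1 h.2 n.1 hn
    have hQ'2 : IsPGroup 2 (Q.subgroupOf Cz) := hQ2.comap_subtype
    have hQle := normal_pgroup_le_sylow 2 (Q.subgroupOf Cz) hQ'2 P'
    rw [← hEqP'] at hQle
    have hq0S : q0 ∈ S := by
      have : (⟨q0, hQz hq0⟩ : Cz) ∈ S.subgroupOf Cz := hQle (by rw [mem_subgroupOf]; exact hq0)
      rw [mem_subgroupOf] at this
      exact this
    have hq0c := mem_centralizer_singleton_iff.1 (hSt hq0S)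
    apply hq0t
    rw [hq0c]; group
  have hlt : S < T' := lt_of_le_of_ne hST' hne
  obtain ⟨y, hyT', hyS, hyN⟩ := exists_mem_normalizer_not_mem_of_lt 2 T' S hT'2 hlt
  refine ⟨y, hyN, ?_, ?_⟩
  · have := mem_centralizer_singleton_iff.1 (hT'le hyT')
    rw [this]; group
  · intro hyz
    have hyCz : y ∈ Cz := by
      rw [hCz, mem_centralizer_singleton_iff]
      have : y * z = (y * z * y⁻¹) * y := by group
      rw [this, hyz]
    have hS' : T' ⊓ Cz = S := by
      apply hSmax
      · exact le_inf inf_le_right (inf_le_left.trans hT'le)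
      · exact hT'2.to_le inf_le_left
      · exact le_inf hST' hSz
    apply hyS
    rw [← hS']
    exact ⟨hyT', hyCz⟩

end Cfsg.Agent.helper4.S1774x
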