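import Mathlib
import Cfsg.Agent.Lib_helper4_S1774a

set_option autoImplicit false

namespace Cfsg.Agent.helper4.S1774x

open Subgroup

/-- Inside a subgroup `C` of a finite group, every `p`-subgroup `R0 ≤ C` lies in a maximal
`p`-subgroup `S` of `C` (all as subgroups of `G`). -/
theorem exists_maximal_pgroup_in {G : Type*} [Group G] [Finite G] (p : ℕ) [Fact p.Prime]
    (C R0 : Subgroup G) (hR0C : R0 ≤ C) (hR0 : IsPGroup p R0) :
    ∃ S : Subgroup G, R0 ≤ S ∧ S ≤ C ∧ IsPGroup p S ∧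
      ∀ S' : Subgroup G, S' ≤ C → IsPGroup p S' → S ≤ S' → S' = S := by
  have h1 : IsPGroup p (R0.subgroupOf C) := hR0.comap_subtype
  obtain ⟨P, hP⟩ := h1.exists_le_sylow
  refine ⟨(P : Subgroup C).map C.subtype, ?_, map_subtype_le _, P.isPGroup'.map _, ?_⟩
  · intro r hr
    exact ⟨⟨r, hR0C hr⟩, hP (by rw [mem_subgroupOf]; exact hr), rfl⟩
  · intro S' hS'C hS'p hle
    have h2 : IsPGroup p (S'.subgroupOf C) := hS'p.comap_subtype
    have h3 : (P : Subgroup C) ≤ S'.subgroupOf C := by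
      intro x hx
      rw [mem_subgroupOf]
      exact hle ⟨x, hx, rfl⟩
    have h4 : S'.subgroupOf C = (P : Subgroup C) := P.is_maximal' h2 h3
    have h5 : ∀ x : C, x ∈ (P : Subgroup C) ↔ (x : G) ∈ S' := fun x => by
      rw [← h4, mem_subgroupOf]
    ext x
    constructor
    · intro hx
      exact ⟨⟨x, hS'C hx⟩, (h5 _).2 hx, rfl⟩
    · rintro ⟨y, hy, rfl⟩
      exact (h5 y).1 hy

/-- (F) Transport to `P = g Q g⁻¹` along a swap `w`. -/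
theorem transport_swap {G : Type*} [Group G] (z t g w q0 : G) (Q : Subgroup G)
    (hgt : t = g * z * g⁻¹) (hc : z * t = t * z)
    (hQn : ∀ h ∈ centralizer ({z} : Set G), ∀ q ∈ Q, h * q * h⁻¹ ∈ Q)
    (htQ : t ∈ Q) (hq0 : q0 ∈ Q)
    (hq0z : q0 * z * q0⁻¹ = z) (hq0t : q0 * t * q0⁻¹ = z * t)
    (hwz : w * z * w⁻¹ = t) (hwt : w * t * w⁻¹ = z) :
    z ∈ Q.map (MulAut.conj g).toMonoidHom ∧
      ∃ p ∈ Q.map (MulAut.conj g).toMonoidHom, p * z * p⁻¹ = z * t ∧ p * t * p⁻¹ = t := by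
  -- (w g)⁻¹ centralizes z
  have hwg : (w * g)⁻¹ ∈ centralizer ({z} : Set G) := by
    apply Subgroup.inv_mem
    rw [mem_centralizer_singleton_iff]
    have h1 : (w * g) * z * (w * g)⁻¹ = z := by
      rw [conj_mul_eq, ← hgt, hwt]
    calc w * g * z = ((w * g) * z * (w * g)⁻¹) * (w * g) := by group
      _ = z * (w * g) := by rw [h1]
  have hw'z : w⁻¹ * z * w = t := by rw [← hwt]; group
  have hw't : w⁻¹ * t * w = z := by rw [← hwz]; group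
  have key : ∀ q ∈ Q, w⁻¹ * q * w ∈ Q.map (MulAut.conj g).toMonoidHom := by
    intro q hq
    refine ⟨(w * g)⁻¹ * q * (w * g)⁻¹⁻¹, hQn _ hwg q hq, ?_⟩
    simp only [MulEquiv.coe_toMonoidHom, MulAut.conj_apply]
    group
  refine ⟨?_, w⁻¹ * q0 * w, key q0 hq0, ?_, ?_⟩
  · rw [← hw't]; exact key t htQ
  · have : w⁻¹ * q0 * w * z * (w⁻¹ * q0 * w)⁻¹ = w⁻¹ * (q0 * (w * z * w⁻¹) * q0⁻¹) * w := by group
    rw [this, hwz, hq0t]
    have : w⁻¹ * (z * t) * w = (w⁻¹ * z * w) * (w⁻¹ * t * w) := by group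
    rw [this, hw'z, hw't, hc]
  · have : w⁻¹ * q0 * w * t * (w⁻¹ * q0 * w)⁻¹ = w⁻¹ * (q0 * (w * t * w⁻¹) * q0⁻¹) * w := by group
    rw [this, hwt, hq0z, hw'z]

/-- (G) Glue: from `q0 ∈ Q` (fixing `z`, `t ↦ z t`) and any `y` (fixing `t`, `z ↦ z t`) to the
conclusion of S1774 (with `t = g z g⁻¹`). -/
theorem main_of_q0_y {G : Type*} [Group G] (z g : G) (Q : Subgroup G)
    (hz : z * z = 1) (hc : z * (g * z * g⁻¹) = (g * z * g⁻¹) * z)
    (hQn : ∀ h ∈ centralizer ({z} : Set G), ∀ q ∈ Q, h * q * h⁻¹ ∈ Q)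
    (htQ : g * z * g⁻¹ ∈ Q) (q0 : G) (hq0 : q0 ∈ Q)
    (hq0z : q0 * z * q0⁻¹ = z) (hq0t : q0 * (g * z * g⁻¹) * q0⁻¹ = z * (g * z * g⁻¹))
    (y : G) (hyz : y * z * y⁻¹ = z * (g * z * g⁻¹)) (hyt : y * (g * z * g⁻¹) * y⁻¹ = g * z * g⁻¹) :
    z ∈ Q.map (MulAut.conj g).toMonoidHom ∧
      ∀ u ∈ Subgroup.closure ({z, g * z * g⁻¹} : Set G),
        ∀ v ∈ Subgroup.closure ({z, g * z * g⁻¹} : Set G), u ≠ 1 → v ≠ 1 → u ≠ v →
          ∃ x ∈ Q ⊔ Q.map (MulAut.conj g).toMonoidHom,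
            x * z * x⁻¹ = u ∧ x * (g * z * g⁻¹) * x⁻¹ = v := by
  have ht : (g * z * g⁻¹) * (g * z * g⁻¹) = 1 := by
    have : (g * z * g⁻¹) * (g * z * g⁻¹) = g * (z * z) * g⁻¹ := by group
    rw [this, hz]; group
  obtain ⟨hsw1, hsw2⟩ := swap_of_two z (g * z * g⁻¹) q0 y hz ht hq0z hq0t hyz hyt
  obtain ⟨h1, p, hpP, hpz, hpt⟩ := transport_swap z (g * z * g⁻¹) g (q0 * y * q0) q0 Q rfl hc hQn
    htQ hq0 hq0z hq0t hsw1 hsw2
  refine ⟨h1, ?_⟩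
  exact all_pairs (Q ⊔ Q.map (MulAut.conj g).toMonoidHom) z (g * z * g⁻¹) q0 p hz ht hc
    (le_sup_left (a := Q) hq0) (le_sup_right (a := Q) hpP) hq0z hq0t hpz hpt

end Cfsg.Agent.helper4.S1774x
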