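import Mathlib
import Cfsg.Prelude.Def_CaseTheorems

set_option autoImplicit false

namespace Cfsg.Agent.helper4.S1774x

/-- A group of exponent dividing 4 is not dihedral of order `≥ 16`. -/
theorem not_dihedral_of_pow_four {R : Type*} [Group R] (h4 : ∀ r : R, r ^ 4 = 1)
    (h16 : 16 ≤ Nat.card R) (m : ℕ) : ¬ Nonempty (R ≃* DihedralGroup m) := by
  rintro ⟨e⟩
  have hcard : Nat.card R = 2 * m := by
    rw [Nat.card_congr e.toEquiv, DihedralGroup.nat_card]
  have h1 : (DihedralGroup.r (1 : ZMod m)) ^ 4 = 1 := by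
    have := h4 (e.symm (DihedralGroup.r 1))
    rw [← map_pow] at this
    have h2 := congrArg e this
    simpa using h2
  have h2 : orderOf (DihedralGroup.r (1 : ZMod m)) ∣ 4 := orderOf_dvd_of_pow_eq_one h1
  rw [DihedralGroup.orderOf_r_one] at h2
  have h3 : m ≤ 4 := Nat.le_of_dvd (by norm_num) h2
  omega

/-- A group of exponent dividing 4 is not generalized quaternion of order `≥ 16`. -/
theorem not_quaternion_of_pow_four {R : Type*} [Group R] (h4 : ∀ r : R, r ^ 4 = 1)
    (h16 : 16 ≤ Nat.card R) (m : ℕ) : ¬ Nonempty (R ≃* QuaternionGroup m) := by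
  rintro ⟨e⟩
  have h1 : (QuaternionGroup.a (1 : ZMod (2 * m))) ^ 4 = 1 := by
    have := h4 (e.symm (QuaternionGroup.a 1))
    rw [← map_pow] at this
    have h2 := congrArg e this
    simpa using h2
  have h2 : orderOf (QuaternionGroup.a (1 : ZMod (2 * m))) ∣ 4 := orderOf_dvd_of_pow_eq_one h1
  rw [QuaternionGroup.orderOf_a_one] at h2
  have h3 : 2 * m ≤ 4 := Nat.le_of_dvd (by norm_num) h2
  have hm0 : m ≠ 0 := by
    rintro rfl
    simp at h2
  have : NeZero m := ⟨hm0⟩
  have hcard : Nat.card R = 4 * m := by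
    rw [Nat.card_congr e.toEquiv, Nat.card_eq_fintype_card, QuaternionGroup.card]
  omega

/-- A group of exponent dividing 4 is not quasi-dihedral. -/
theorem not_quasiDihedral_of_pow_four {R : Type*} [Group R] (h4 : ∀ r : R, r ^ 4 = 1) :
    ¬ Cfsg.IsQuasiDihedral R := by
  rintro ⟨n, hn, -, x, -, hx, -, -⟩
  have h2 : orderOf x ∣ 4 := orderOf_dvd_of_pow_eq_one (h4 x)
  rw [hx] at h2
  have h3 : 2 ^ n ≤ 4 := Nat.le_of_dvd (by norm_num) h2
  have h4' : 2 ^ 3 ≤ 2 ^ n := Nat.pow_le_pow_right (by norm_num) hn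
  omega

/-- With exponent dividing 4, the `R`-alternative of the symplectic-type structure theorem
(`Sym8.final`) collapses to `IsCyclic R`. -/
theorem cyclic_of_pow_four {R : Type*} [Group R] (h4 : ∀ r : R, r ^ 4 = 1) {p : ℕ}
    (h : IsCyclic R ∨ (p = 2 ∧ 16 ≤ Nat.card R ∧
      ((∃ m : ℕ, Nonempty (R ≃* DihedralGroup m)) ∨ (∃ m : ℕ, Nonempty (R ≃* QuaternionGroup m))
        ∨ Cfsg.IsQuasiDihedral R))) : IsCyclic R := by
  rcases h with h | ⟨-, h16, ⟨m, hm⟩ | ⟨m, hm⟩ | hq⟩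
  · exact h
  · exact absurd hm (not_dihedral_of_pow_four h4 h16 m)
  · exact absurd hm (not_quaternion_of_pow_four h4 h16 m)
  · exact absurd hq (not_quasiDihedral_of_pow_four h4)

end Cfsg.Agent.helper4.S1774x
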