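import Mathlib
import Cfsg.Agent.Lib_helper4_S1774a
import Cfsg.Agent.Lib_helper4_S1774b
import Cfsg.Agent.Lib_helper4_S1774c
import Cfsg.Agent.Lib_helper19_S1774c

set_option autoImplicit false

namespace Cfsg.Agent.helper4.S1774x

open Subgroup

/-- The abstract form of S1774 (same hypotheses as in helper3's note 876). -/
theorem main_abstract_h4 {G : Type*} [Group G] [Finite G] (z : G) (hz : orderOf z = 2)
    (Q : Subgroup G) (hQH : Q ≤ Subgroup.centralizer ({z} : Set G)) (hQ2 : IsPGroup 2 Q)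
    (hQn : ∀ h ∈ Subgroup.centralizer ({z} : Set G), ∀ q ∈ Q, h * q * h⁻¹ ∈ Q)
    (hself : ∀ h ∈ Subgroup.centralizer ({z} : Set G), (∀ q ∈ Q, h * q = q * h) → h ∈ Q)
    (hS1 : ∀ c ∈ Q, (∀ q ∈ Q, c * q = q * c) → c ^ 2 = 1 → c = 1 ∨ c = z)
    (hS3 : ∀ a ∈ Q, ∀ b ∈ Q, a * b = b * a ∨ a * b = z * (b * a))
    (g : G) (hne : g * z * g⁻¹ ≠ z) (hin : g * z * g⁻¹ ∈ Q) :
    z ∈ Q.map (MulAut.conj g).toMonoidHom ∧
      ∀ u ∈ Subgroup.closure ({z, g * z * g⁻¹} : Set G),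
        ∀ v ∈ Subgroup.closure ({z, g * z * g⁻¹} : Set G), u ≠ 1 → v ≠ 1 → u ≠ v →
          ∃ x ∈ Q ⊔ Q.map (MulAut.conj g).toMonoidHom,
            x * z * x⁻¹ = u ∧ x * (g * z * g⁻¹) * x⁻¹ = v := by
  have hz2 : z * z = 1 := by
    have := pow_orderOf_eq_one z
    rw [hz, pow_two] at this
    exact this
  have hz1 : z ≠ 1 := by
    intro h
    rw [h, orderOf_one] at hz
    norm_num at hz
  set t := g * z * g⁻¹ with ht
  have ht2 : t * t = 1 := by
    have : t * t = g * (z * z) * g⁻¹ := by rw [ht]; group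
    rw [this, hz2]; group
  have ht1 : t ≠ 1 := by
    intro h
    apply hz1
    have : z = g⁻¹ * t * g := by rw [ht]; group
    rw [this, h]; group
  have hQH' : ∀ q ∈ Q, q * z = z * q := fun q hq => mem_centralizer_singleton_iff.1 (hQH hq)
  have hc : z * t = t * z := (hQH' t hin).symm
  -- t is not central in Q
  have hnc : ∃ q0 ∈ Q, q0 * t ≠ t * q0 := by
    by_contra hcon
    push Not at hcon
    rcases hS1 t hin (fun q hq => (hcon q hq).symm) (by rw [pow_two]; exact ht2) with h | h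
    · exact ht1 h
    · exact hne h
  obtain ⟨q0, hq0, hq0nc⟩ := hnc
  have hq0t : q0 * t * q0⁻¹ = z * t := by
    rcases hS3 q0 hq0 t hin with h | h
    · exact absurd h hq0nc
    · rw [h]; group
  have hq0z : q0 * z * q0⁻¹ = z := by
    rw [hQH' q0 hq0]; group
  have hq0t' : q0 * t * q0⁻¹ ≠ t := by
    rw [hq0t]
    intro h
    apply hz1
    calc z = z * t * t⁻¹ := by group
      _ = t * t⁻¹ := by rw [h]
      _ = 1 := by group
  -- the maximal 2-subgroup S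
  have : Fact (Nat.Prime 2) := ⟨Nat.prime_two⟩
  have hR0le : Q ⊓ centralizer ({t} : Set G) ≤ centralizer ({z} : Set G) ⊓ centralizer ({t} : Set G) :=
    inf_le_inf_right _ hQH
  have hR02 : IsPGroup 2 (Q ⊓ centralizer ({t} : Set G) : Subgroup G) := hQ2.to_le inf_le_left
  obtain ⟨S, hR0S, hSle, hS2, hSmax⟩ := exists_maximal_pgroup_in 2
    (centralizer ({z} : Set G) ⊓ centralizer ({t} : Set G)) (Q ⊓ centralizer ({t} : Set G)) hR0le hR02
  obtain ⟨y, hyN, hyt, hyz⟩ := exists_y z t g rfl Q hQH hQ2 hQn q0 hq0 hq0t' S hSle hS2 hSmax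
  -- upgrade via helper19's step (c)
  have hnorm' : ∀ h : G, h * z = z * h → ∀ q ∈ Q, h * q * h⁻¹ ∈ Q := fun h hh q hq =>
    hQn h (mem_centralizer_singleton_iff.2 hh) q hq
  have hself' : ∀ h : G, h * z = z * h → (∀ q ∈ Q, h * q = q * h) → h ∈ Q := fun h hh hq =>
    hself h (mem_centralizer_singleton_iff.2 hh) hq
  have hcomm : ∀ a ∈ Q, ∀ b ∈ Q, a * b * a⁻¹ * b⁻¹ = 1 ∨ a * b * a⁻¹ * b⁻¹ = z := by
    intro a ha b hb
    rcases hS3 a ha b hb with h | h
    · left; rw [h]; group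
    · right; rw [h]; group
  have hinv : ∀ c ∈ Q, (∀ q ∈ Q, c * q = q * c) → c * c = 1 → c = 1 ∨ c = z := fun c hc hcc h2 =>
    hS1 c hc hcc (by rw [pow_two]; exact h2)
  have hRS : ∀ r ∈ Q, r * t = t * r → r ∈ S := fun r hr hrt =>
    hR0S ⟨hr, mem_centralizer_singleton_iff.2 hrt⟩
  have hSz : ∀ s ∈ S, s * z = z * s := fun s hs =>
    mem_centralizer_singleton_iff.1 (hSle hs).1
  have hyz' : y * z * y⁻¹ = z * t :=
    Cfsg.Agent.helper19.S1774c.conj_eq_zt z t q0 Q hz2 ht2 hQH' hnorm' hself' hcomm hinv hin hq0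
      hq0t' S hRS hSz y hyN hyt hyz
  exact main_of_q0_y z g Q hz2 hc hQn hin q0 hq0 hq0z hq0t y hyz' hyt

end Cfsg.Agent.helper4.S1774x
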