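import Mathlib
import Cfsg.Prelude.Def_Transfer
import Cfsg.Prelude.Def_Solvable
import Cfsg.Agent.Lib_helper17_S3739x
import Cfsg.Agent.Lib_helper3_S3739x

set_option autoImplicit false
set_option linter.style.haveILetI false

namespace Cfsg.Agent.helper4.S3739x

open Subgroup

variable {G : Type*} [Group G]

/-- `Ω₁(Z(Q))` as a subgroup of `G`. -/
def omegaZ (Q : Subgroup G) : Subgroup G where
  carrier := {z | z ∈ Q ∧ (∀ q ∈ Q, z * q = q * z) ∧ z * z = 1}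
  one_mem' := ⟨Q.one_mem, fun q _ => by simp, by simp⟩
  mul_mem' := by
    rintro a b ⟨haQ, hac, ha2⟩ ⟨hbQ, hbc, hb2⟩
    refine ⟨Q.mul_mem haQ hbQ, fun q hq => ?_, ?_⟩
    · rw [mul_assoc, hbc q hq, ← mul_assoc, hac q hq, mul_assoc]
    · have h1 : a * b * (a * b) = a * (b * a) * b := by group
      rw [h1, ← hac b hbQ]
      have h2 : a * (a * b) * b = (a * a) * (b * b) := by group
      rw [h2, ha2, hb2, one_mul]
  inv_mem' := by
    rintro a ⟨haQ, hac, ha2⟩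
    have hai : a⁻¹ = a := inv_eq_of_mul_eq_one_left ha2
    rw [hai]
    exact ⟨haQ, hac, ha2⟩

theorem mem_omegaZ {Q : Subgroup G} {z : G} :
    z ∈ omegaZ Q ↔ z ∈ Q ∧ (∀ q ∈ Q, z * q = q * z) ∧ z * z = 1 := Iff.rfl

theorem omegaZ_conj (Q : Subgroup G) (hQn : ∀ g : G, ∀ q ∈ Q, g * q * g⁻¹ ∈ Q) (g : G) (z : G)
    (hz : z ∈ omegaZ Q) : g * z * g⁻¹ ∈ omegaZ Q := by
  obtain ⟨hzQ, hzc, hz2⟩ := hz
  refine ⟨hQn g z hzQ, fun q hq => ?_, ?_⟩
  · have hq' : g⁻¹ * q * g ∈ Q := by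
      have := hQn g⁻¹ q hq
      rwa [inv_inv] at this
    have h1 : g * z * g⁻¹ * q = g * (z * (g⁻¹ * q * g)) * g⁻¹ := by group
    rw [h1, hzc _ hq']
    group
  · have h1 : g * z * g⁻¹ * (g * z * g⁻¹) = g * (z * z) * g⁻¹ := by group
    rw [h1, hz2]; group

theorem omegaZ_ne_bot [Finite G] (Q : Subgroup G) (hQ2 : IsPGroup 2 Q) (hQ1 : Q ≠ ⊥) :
    ∃ z ∈ omegaZ Q, z ≠ 1 := by
  haveI : Fact (Nat.Prime 2) := ⟨Nat.prime_two⟩
  haveI : Nontrivial ↥Q := (Subgroup.nontrivial_iff_ne_bot Q).2 hQ1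
  haveI : Nontrivial ↥(center ↥Q) := hQ2.center_nontrivial
  have hZ2 : IsPGroup 2 ↥(center ↥Q) := hQ2.to_subgroup _
  obtain ⟨n, hn0, hn⟩ := hZ2.nontrivial_iff_card.mp inferInstance
  have hdvd : 2 ∣ Nat.card ↥(center ↥Q) := hn.symm ▸ dvd_pow_self _ (ne_of_gt hn0)
  obtain ⟨c, hc⟩ := exists_prime_orderOf_dvd_card' 2 hdvd
  refine ⟨((c : ↥Q) : G), ⟨(c : ↥Q).2, fun q hq => ?_, ?_⟩, ?_⟩
  · have := mem_center_iff.1 c.2 ⟨q, hq⟩
    have h2 := congrArg (Subtype.val) this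
    simpa using h2.symm
  · have h1 : c ^ 2 = 1 := by rw [← hc]; exact pow_orderOf_eq_one c
    have h2 : (((c ^ 2 : ↥(center ↥Q)) : ↥Q) : G) = 1 := by rw [h1]; rfl
    simpa [pow_two] using h2
  · intro h
    have : c = 1 := by
      ext
      simpa using h
    rw [this, orderOf_one] at hc
    norm_num at hc

/-- PIECE B of the S3739 swarm, for an abstract normal self-centralising 2-subgroup `Q`. -/
theorem pieceB_abstract [Finite G]
    (hno : ¬ ∃ E : Subgroup G, Cfsg.IsElementaryAbelian 2 E ∧ Nat.card E = 8)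
    (Q : Subgroup G) (hQn : ∀ g : G, ∀ q ∈ Q, g * q * g⁻¹ ∈ Q) (hQ2 : IsPGroup 2 Q)
    (hchar : Subgroup.centralizer (Q : Set G) ≤ Q)
    (d : G) (W : Subgroup G) (hW : Cfsg.IsElementaryAbelian 2 W) (hW1 : W ≠ ⊥)
    (hdW : d ∈ Subgroup.normalizer (W : Set G))
    (hfpf : W ⊓ Subgroup.centralizer {d} = ⊥) :
    W ≤ Q ∧ (∀ w ∈ W, ∀ q ∈ Q, w * q = q * w) ∧ (∀ i ∈ Q, i * i = 1 → i ∈ W) ∧
      (∀ g : G, ∀ w ∈ W, g * w * g⁻¹ ∈ W) := by
  haveI : Fact (Nat.Prime 2) := ⟨Nat.prime_two⟩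
  have hW4 : Nat.card W = 4 :=
    Cfsg.Agent.helper3.S3739x.card_eq_four hno d W hW hW1 hdW hfpf
  have hirr := Cfsg.Agent.helper3.S3739x.invariant_eq_bot_or hno d W hW hW1 hdW hfpf
  have hWsq : ∀ w ∈ W, w * w = 1 := fun w hw => by
    have := hW.2 w hw
    rwa [pow_two] at this
  -- key: an involution centralising W lies in W
  have key : ∀ t : G, t * t = 1 → (∀ w ∈ W, t * w = w * t) → t ∈ W := by
    intro t ht2 htc
    by_contra htW
    apply hno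
    refine ⟨Cfsg.Agent.helper17.S3739x.adj W t ht2 htc,
      Cfsg.Agent.helper17.S3739x.elemAb_adj W hW t ht2 htc, ?_⟩
    rw [Cfsg.Agent.helper17.S3739x.card_adj W t ht2 htc htW, hW4]
  -- Q ≠ ⊥
  have hQ1 : Q ≠ ⊥ := by
    intro hQ
    apply hW1
    rw [eq_bot_iff]
    intro w _
    have hw : w ∈ Subgroup.centralizer (Q : Set G) := by
      rw [hQ]
      intro q hq
      have hq1 : q = 1 := by simpa using hq
      rw [hq1]; simp
    have := hchar hw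
    rwa [hQ] at this
  obtain ⟨z0, hz0, hz01⟩ := omegaZ_ne_bot Q hQ2 hQ1
  have hZn := omegaZ_conj Q hQn
  -- d-invariance helpers
  have hdWc : ∀ w ∈ W, d * w * d⁻¹ ∈ W := fun w hw =>
    (Subgroup.mem_normalizer_iff.1 hdW w).1 hw
  -- B1
  have hB1 : W ≤ Q := by
    have hinv : ∀ y ∈ W ⊓ Q, d * y * d⁻¹ ∈ W ⊓ Q := fun y hy =>
      ⟨hdWc y hy.1, hQn d y hy.2⟩
    rcases hirr (W ⊓ Q) inf_le_left hinv with h | h
    · exfalso
      -- W acts on omegaZ Q by conjugation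
      letI : MulAction ↥W ↥(omegaZ Q) :=
        { smul := fun w z => ⟨(w : G) * z * (w : G)⁻¹, hZn w z z.2⟩
          one_smul := fun z => by
            apply Subtype.ext
            show ((1 : ↥W) : G) * z * ((1 : ↥W) : G)⁻¹ = z
            simp
          mul_smul := fun a b z => by
            apply Subtype.ext
            show ((a * b : ↥W) : G) * z * ((a * b : ↥W) : G)⁻¹ =
              (a : G) * ((b : G) * z * (b : G)⁻¹) * (a : G)⁻¹
            simp [mul_assoc] }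
      have hWp : IsPGroup 2 ↥W := by
        intro w
        refine ⟨1, ?_⟩
        apply Subtype.ext
        have := hW.2 w w.2
        simpa using this
      have hZp : IsPGroup 2 ↥(omegaZ Q) := hQ2.to_le (fun z hz => hz.1)
      haveI : Nontrivial ↥(omegaZ Q) := ⟨⟨⟨z0, hz0⟩, 1, fun h => hz01 (congrArg Subtype.val h)⟩⟩
      obtain ⟨n, hn0, hn⟩ := hZp.nontrivial_iff_card.mp inferInstance
      have hdvd : 2 ∣ Nat.card ↥(omegaZ Q) := hn.symm ▸ dvd_pow_self _ (ne_of_gt hn0)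
      have hfix1 : (1 : ↥(omegaZ Q)) ∈ MulAction.fixedPoints ↥W ↥(omegaZ Q) := by
        intro w
        apply Subtype.ext
        show (w : G) * ((1 : ↥(omegaZ Q)) : G) * (w : G)⁻¹ = ((1 : ↥(omegaZ Q)) : G)
        simp
      obtain ⟨b, hb, hb1⟩ := hWp.exists_fixed_point_of_prime_dvd_card_of_fixed_point
        (α := ↥(omegaZ Q)) hdvd hfix1
      have hbc : ∀ w ∈ W, (b : G) * w = w * (b : G) := by
        intro w hw
        have h1 := hb ⟨w, hw⟩
        have h2 : w * (b : G) * w⁻¹ = (b : G) := congrArg Subtype.val h1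
        calc (b : G) * w = (w * (b : G) * w⁻¹) * w := by rw [h2]
          _ = w * (b : G) := by group
      have hbW : (b : G) ∈ W := key b b.2.2.2 hbc
      have hbQ : (b : G) ∈ W ⊓ Q := ⟨hbW, b.2.1⟩
      rw [h] at hbQ
      have : (b : G) = 1 := by simpa using hbQ
      exact hb1 (Subtype.ext this.symm)
    · rw [← h]; exact inf_le_right
  -- omegaZ Q ≤ W
  have hZW : omegaZ Q ≤ W := by
    intro z hz
    exact key z hz.2.2 (fun w hw => hz.2.1 w (hB1 hw))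
  have hZeq : omegaZ Q = W := by
    rcases hirr (omegaZ Q) hZW (fun y hy => hZn d y hy) with h | h
    · exfalso
      rw [h] at hz0
      exact hz01 (by simpa using hz0)
    · exact h
  refine ⟨hB1, ?_, ?_, ?_⟩
  · intro w hw q hq
    rw [← hZeq] at hw
    exact hw.2.1 q hq
  · intro i hi hi2
    refine key i hi2 (fun w hw => ?_)
    rw [← hZeq] at hw
    exact (hw.2.1 i hi).symm
  · intro g w hw
    rw [← hZeq] at hw ⊢
    exact hZn g w hw

theorem pCore_two_conj (g : G) (q : G) (hq : q ∈ Cfsg.pCore 2 G) :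
    g * q * g⁻¹ ∈ Cfsg.pCore 2 G := by
  have hn : (Cfsg.pCore 2 G).Normal := Subgroup.sSup_normal _ (fun _ h => h.1)
  exact hn.conj_mem q hq g

theorem pCore_two_isPGroup : IsPGroup 2 ↥(Cfsg.pCore 2 G) :=
  Sylow.sSup_of_normal _ (fun _ h => h.2) (fun _ h => h.1)

/-- PIECE B, all four facts, with `Q = O₂(G)` (signature of lead's note 916; `hsix`, `hd` unused). -/
theorem pieceB [Finite G]
    (hno : ¬ ∃ E : Subgroup G, Cfsg.IsElementaryAbelian 2 E ∧ Nat.card E = 8)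
    (hchar : Subgroup.centralizer (Cfsg.pCore 2 G : Set G) ≤ Cfsg.pCore 2 G)
    (d : G) (W : Subgroup G) (hW : Cfsg.IsElementaryAbelian 2 W) (hW1 : W ≠ ⊥)
    (hdW : d ∈ Subgroup.normalizer (W : Set G))
    (hfpf : W ⊓ Subgroup.centralizer {d} = ⊥) :
    W ≤ Cfsg.pCore 2 G ∧ (∀ w ∈ W, ∀ q ∈ Cfsg.pCore 2 G, w * q = q * w) ∧
      (∀ i ∈ Cfsg.pCore 2 G, i * i = 1 → i ∈ W) ∧ (∀ g : G, ∀ w ∈ W, g * w * g⁻¹ ∈ W) :=
  pieceB_abstract hno (Cfsg.pCore 2 G) pCore_two_conj pCore_two_isPGroup hchar d W hW hW1 hdW hfpf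

theorem B1 [Finite G]
    (hno : ¬ ∃ E : Subgroup G, Cfsg.IsElementaryAbelian 2 E ∧ Nat.card E = 8)
    (hchar : Subgroup.centralizer (Cfsg.pCore 2 G : Set G) ≤ Cfsg.pCore 2 G)
    (hsix : ∃ g : G, orderOf g = 6) (d : G) (hd : IsPGroup 3 ↥(Subgroup.zpowers d))
    (W : Subgroup G) (hW : Cfsg.IsElementaryAbelian 2 W) (hW1 : W ≠ ⊥)
    (hdW : d ∈ Subgroup.normalizer (W : Set G))
    (hfpf : W ⊓ Subgroup.centralizer {d} = ⊥) : W ≤ Cfsg.pCore 2 G :=
  (pieceB hno hchar d W hW hW1 hdW hfpf).1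

theorem B2 [Finite G]
    (hno : ¬ ∃ E : Subgroup G, Cfsg.IsElementaryAbelian 2 E ∧ Nat.card E = 8)
    (hchar : Subgroup.centralizer (Cfsg.pCore 2 G : Set G) ≤ Cfsg.pCore 2 G)
    (hsix : ∃ g : G, orderOf g = 6) (d : G) (hd : IsPGroup 3 ↥(Subgroup.zpowers d))
    (W : Subgroup G) (hW : Cfsg.IsElementaryAbelian 2 W) (hW1 : W ≠ ⊥)
    (hdW : d ∈ Subgroup.normalizer (W : Set G))
    (hfpf : W ⊓ Subgroup.centralizer {d} = ⊥) :
    (∀ w ∈ W, ∀ q ∈ Cfsg.pCore 2 G, w * q = q * w) ∧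
      (∀ i ∈ Cfsg.pCore 2 G, i * i = 1 → i ∈ W) ∧ (∀ g : G, ∀ w ∈ W, g * w * g⁻¹ ∈ W) :=
  (pieceB hno hchar d W hW hW1 hdW hfpf).2

end Cfsg.Agent.helper4.S3739x
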