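import Mathlib
import Cfsg.Agent.Lib_helper4_F4
import Cfsg.Agent.Lib_helper4_G72
import Cfsg.Agent.Lib_helper11_Unitary4
import Cfsg.Agent.S0282

set_option autoImplicit false
set_option linter.unusedSectionVars false

namespace Cfsg.Agent.helper4.SU32

open Cfsg Matrix F4
open Cfsg.Agent.helper11.Unitary

/-! ### explicit matrices over the concrete `F4` -/

def D0 : Matrix (Fin 3) (Fin 3) F4 := !![w, z, z; z, v, z; z, z, o]
def C0 : Matrix (Fin 3) (Fin 3) F4 := !![z, z, o; o, z, z; z, o, z]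
def A0 : Matrix (Fin 3) (Fin 3) F4 := !![o, o, o; o, w, v; o, v, w]
def B0 : Matrix (Fin 3) (Fin 3) F4 := !![o, w, w; v, w, v; v, v, w]
def Z0 : Matrix (Fin 3) (Fin 3) F4 := !![w, z, z; z, w, z; z, z, w]

/-- Unitary matrices of determinant one over `F4`. -/
def IsU (M : Matrix (Fin 3) (Fin 3) F4) : Prop := M.det = 1 ∧ Mᵀ * M.map (fun x => x ^ 2) = 1

theorem isU_D0 : IsU D0 := by unfold IsU; decide +kernel
theorem isU_C0 : IsU C0 := by unfold IsU; decide +kernel
theorem isU_A0 : IsU A0 := by unfold IsU; decide +kernel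
theorem isU_B0 : IsU B0 := by unfold IsU; decide +kernel
theorem isU_Z0 : IsU Z0 := by unfold IsU; decide +kernel

theorem rel_D3 : D0 * D0 * D0 = 1 := by decide +kernel
theorem rel_C3 : C0 * C0 * C0 = 1 := by decide +kernel
theorem rel_DC : D0 * C0 = Z0 * C0 * D0 := by decide +kernel
theorem rel_AD : A0 * D0 = Z0 * C0 * C0 * A0 := by decide +kernel
theorem rel_AC : A0 * C0 = Z0 * Z0 * D0 * A0 := by decide +kernel
theorem rel_BD : B0 * D0 = D0 * D0 * C0 * C0 * B0 := by decide +kernel
theorem rel_BC : B0 * C0 = D0 * D0 * C0 * B0 := by decide +kernel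
theorem rel_A4 : A0 * A0 * A0 * A0 = 1 := by decide +kernel
theorem rel_B2 : B0 * B0 = A0 * A0 := by decide +kernel
theorem rel_BA : B0 * A0 = A0 * A0 * A0 * B0 := by decide +kernel
theorem Z0_eq : Z0 = Matrix.diagonal (fun _ => w) := by decide +kernel
theorem A2_12 : (A0 * A0) 1 2 = o := by decide +kernel
theorem D0_00 : D0 0 0 = w := by decide +kernel
theorem D0_22 : D0 2 2 = o := by decide +kernel

/-! ### transfer to an abstract field with four elements -/

section
variable {F : Type*} [Field F] [Fintype F]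

theorem preserves_of_gram {n q : ℕ} (hFq : Fintype.card F = q ^ 2) (M : Matrix (Fin n) (Fin n) F)
    (hM : Mᵀ * M.map (frobQ hFq) = 1) (u v : Fin n → F) :
    hermForm n F q (M *ᵥ u) (M *ᵥ v) = hermForm n F q u v := by
  have hform : ∀ x y : Fin n → F, hermForm n F q x y = x ⬝ᵥ (frobQ hFq ∘ y) := by
    intro x y; rfl
  rw [hform, hform]
  have h1 : (frobQ hFq ∘ (M *ᵥ v)) = (M.map (frobQ hFq)) *ᵥ (frobQ hFq ∘ v) := by
    funext i
    exact (RingHom.map_mulVec (frobQ hFq) M v i)
  rw [h1, Matrix.dotProduct_mulVec, ← Matrix.vecMul_transpose, Matrix.vecMul_vecMul, hM,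
    Matrix.vecMul_one]

theorem hF2 (hF : Fintype.card F = 4) : Fintype.card F = 2 ^ 2 := by rw [hF]; norm_num

variable (hF : Fintype.card F = 4)

/-- the ring homomorphism from the concrete model -/
noncomputable def sig : F4 →+* F :=
  (FiniteField.ringEquivOfCardEq (by rw [card_F4, hF] : Fintype.card F4 = Fintype.card F)).toRingHom

theorem sig_inj : Function.Injective (sig hF) := (sig hF).injective

theorem map_det_eq (M : Matrix (Fin 3) (Fin 3) F4) : (M.map (sig hF)).det = sig hF M.det := by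
  rw [RingHom.map_det, RingHom.mapMatrix_apply]

theorem gram_map (M : Matrix (Fin 3) (Fin 3) F4) (hM : Mᵀ * M.map (fun x => x ^ 2) = 1) :
    (M.map (sig hF))ᵀ * (M.map (sig hF)).map (frobQ (hF2 hF)) = 1 := by
  have h1 : (M.map (sig hF)).map (frobQ (hF2 hF)) = (M.map (fun x => x ^ 2)).map (sig hF) := by
    ext i j
    simp [frobQ_apply, map_pow]
  rw [h1, ← Matrix.transpose_map, ← Matrix.map_mul, hM, Matrix.map_one _ (map_zero _) (map_one _)]

/-- the element of `SU₃(2)` attached to a unitary matrix over `F4` -/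
noncomputable def toSU (M : Matrix (Fin 3) (Fin 3) F4) (hM : IsU M) : SU 3 F 2 :=
  mkSU (M.map (sig hF)) (by rw [map_det_eq, hM.1, map_one])
    (preserves_of_gram (hF2 hF) _ (gram_map hF M hM.2))

/-- the matrix of an element of `SU` -/
def mat (s : SU 3 F 2) : Matrix (Fin 3) (Fin 3) F :=
  ((s : Matrix.SpecialLinearGroup (Fin 3) F) : Matrix (Fin 3) (Fin 3) F)

theorem mat_injective : Function.Injective (mat (F := F)) := by
  intro s t h
  exact Subtype.ext (Subtype.ext h)

theorem mat_mul (s t : SU 3 F 2) : mat (s * t) = mat s * mat t := rfl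

theorem mat_one : mat (1 : SU 3 F 2) = 1 := rfl

theorem mat_toSU (M : Matrix (Fin 3) (Fin 3) F4) (hM : IsU M) :
    mat (toSU hF M hM) = (sig hF).mapMatrix M := rfl


noncomputable def sD : SU 3 F 2 := toSU hF D0 isU_D0
noncomputable def sC : SU 3 F 2 := toSU hF C0 isU_C0
noncomputable def sA : SU 3 F 2 := toSU hF A0 isU_A0
noncomputable def sB : SU 3 F 2 := toSU hF B0 isU_B0
noncomputable def sZ : SU 3 F 2 := toSU hF Z0 isU_Z0

theorem sZ_central : sZ hF ∈ Subgroup.center (SU 3 F 2) := by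
  rw [Subgroup.mem_center_iff]
  intro s
  apply mat_injective
  rw [mat_mul, mat_mul]
  have h1 : mat (sZ hF) = Matrix.diagonal (fun _ => sig hF w) := by
    rw [sZ, mat_toSU, RingHom.mapMatrix_apply, Z0_eq, Matrix.diagonal_map (map_zero _)]
  rw [h1]
  ext i j
  rw [Matrix.mul_diagonal, Matrix.diagonal_mul]
  exact mul_comm _ _

theorem sD3 : sD hF * sD hF * sD hF = 1 := by
  apply mat_injective
  simp only [mat_mul, mat_one, sD, mat_toSU, ← map_mul]
  rw [rel_D3, map_one]

theorem sC3 : sC hF * sC hF * sC hF = 1 := by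
  apply mat_injective
  simp only [mat_mul, mat_one, sC, mat_toSU, ← map_mul]
  rw [rel_C3, map_one]

theorem sDC : sD hF * sC hF = sZ hF * sC hF * sD hF := by
  apply mat_injective
  simp only [mat_mul, sD, sC, sZ, mat_toSU, ← map_mul]
  rw [rel_DC]

theorem sAD : sA hF * sD hF = sZ hF * sC hF * sC hF * sA hF := by
  apply mat_injective
  simp only [mat_mul, sA, sD, sC, sZ, mat_toSU, ← map_mul]
  rw [rel_AD]

theorem sAC : sA hF * sC hF = sZ hF * sZ hF * sD hF * sA hF := by
  apply mat_injective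
  simp only [mat_mul, sA, sD, sC, sZ, mat_toSU, ← map_mul]
  rw [rel_AC]

theorem sBD : sB hF * sD hF = sD hF * sD hF * sC hF * sC hF * sB hF := by
  apply mat_injective
  simp only [mat_mul, sB, sD, sC, mat_toSU, ← map_mul]
  rw [rel_BD]

theorem sBC : sB hF * sC hF = sD hF * sD hF * sC hF * sB hF := by
  apply mat_injective
  simp only [mat_mul, sB, sD, sC, mat_toSU, ← map_mul]
  rw [rel_BC]

theorem sA4 : sA hF * sA hF * sA hF * sA hF = 1 := by
  apply mat_injective
  simp only [mat_mul, mat_one, sA, mat_toSU, ← map_mul]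
  rw [rel_A4, map_one]

theorem sB2 : sB hF * sB hF = sA hF * sA hF := by
  apply mat_injective
  simp only [mat_mul, sA, sB, mat_toSU, ← map_mul]
  rw [rel_B2]

theorem sBA : sB hF * sA hF = sA hF * sA hF * sA hF * sB hF := by
  apply mat_injective
  simp only [mat_mul, sA, sB, mat_toSU, ← map_mul]
  rw [rel_BA]

theorem sD_not_central : sD hF ∉ Subgroup.center (SU 3 F 2) := by
  intro h
  have h1 := center_diag (hF2 hF) (by norm_num) (sD hF) h 0 2 (by decide)
  change mat (sD hF) 0 0 = mat (sD hF) 2 2 at h1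
  rw [sD, mat_toSU, RingHom.mapMatrix_apply, Matrix.map_apply, Matrix.map_apply, D0_00, D0_22]
    at h1
  have := sig_inj hF h1
  revert this; decide

theorem sA2_not_central : sA hF * sA hF ∉ Subgroup.center (SU 3 F 2) := by
  intro h
  have h1 := center_offdiag (hF2 hF) (by norm_num) (sA hF * sA hF) h 1 2 (by decide)
  change mat (sA hF * sA hF) 1 2 = 0 at h1
  rw [mat_mul, sA, mat_toSU, ← map_mul, RingHom.mapMatrix_apply, Matrix.map_apply, A2_12] at h1
  have h2 : sig hF o = 1 := map_one (sig hF)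
  rw [h2] at h1
  exact one_ne_zero h1

include hF in
theorem main : ∃ (N : Subgroup (PSU 3 F 2)) (_ : N.Normal), Nat.card N = 9 ∧
    (∀ x ∈ N, x ^ 3 = 1) ∧ Nonempty (PSU 3 F 2 ⧸ N ≃* QuaternionGroup 2) := by
  have hcard : Nat.card (PSU 3 F 2) = 72 := (Cfsg.Agent.S0282.result hF).1
  have : Finite (PSU 3 F 2) := Nat.finite_of_card_ne_zero (by omega)
  let π : SU 3 F 2 →* PSU 3 F 2 := QuotientGroup.mk' (Subgroup.center (SU 3 F 2))
  have hπZ : π (sZ hF) = 1 := (QuotientGroup.eq_one_iff _).mpr (sZ_central hF)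
  have hπ1 : ∀ s : SU 3 F 2, π s = 1 → s ∈ Subgroup.center (SU 3 F 2) :=
    fun s hs => (QuotientGroup.eq_one_iff _).mp hs
  have e1 := congrArg π (sD3 hF)
  have e2 := congrArg π (sC3 hF)
  have e3 := congrArg π (sDC hF)
  have e4 := congrArg π (sAD hF)
  have e5 := congrArg π (sAC hF)
  have e6 := congrArg π (sBD hF)
  have e7 := congrArg π (sBC hF)
  have e8 := congrArg π (sA4 hF)
  have e9 := congrArg π (sB2 hF)
  have e10 := congrArg π (sBA hF)
  simp only [map_mul, map_one, hπZ, one_mul] at e1 e2 e3 e4 e5 e6 e7 e8 e9 e10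
  refine g72 hcard (π (sA hF)) (π (sB hF)) (π (sC hF)) (π (sD hF)) ?_ ?_ e3 ?_ ?_ ?_ ?_ ?_ ?_ ?_ ?_ ?_
  · rw [pow_three', e1]
  · rw [pow_three', e2]
  · intro h; exact sD_not_central hF (hπ1 _ h)
  · rw [e4]; group
  · rw [e5]; group
  · rw [e6]; group
  · rw [e7]; group
  · rw [show (4 : ℕ) = 3 + 1 from rfl, pow_succ, pow_three', e8]
  · intro h
    rw [pow_two, ← map_mul] at h
    exact sA2_not_central hF (hπ1 _ h)
  · rw [pow_two, pow_two, e9]
  · rw [e10]
    have : π (sA hF) * π (sA hF) * π (sA hF) = (π (sA hF))⁻¹ := eq_inv_of_mul_eq_one_left e8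
    rw [← this]; group

end

end Cfsg.Agent.helper4.SU32
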