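import Mathlib
import Cfsg.Agent.Lib_helper4_SharpA

set_option autoImplicit false

namespace Cfsg.Agent.helper4.Sharp

variable {G : Type*} {Ω : Type*} [Group G] [MulAction G Ω]

/-- pointwise stabilizer of a list of points -/
def fixL (l₀ : List Ω) : Subgroup G where
  carrier := {g | ∀ x ∈ l₀, g • x = x}
  mul_mem' := fun {a b} ha hb x hx => by rw [mul_smul, hb x hx, ha x hx]
  one_mem' := fun x _ => one_smul _ _
  inv_mem' := fun {a} ha x hx => by rw [inv_smul_eq_iff, ha x hx]

theorem mem_fixL {l₀ : List Ω} {g : G} : g ∈ fixL (G := G) l₀ ↔ ∀ x ∈ l₀, g • x = x := Iff.rfl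

/-- the complement of the list, as a set acted on by the pointwise stabilizer -/
def compl (l₀ : List Ω) : SubMulAction (fixL (G := G) l₀) Ω where
  carrier := {x | x ∉ l₀}
  smul_mem' := fun g x hx hgx => by
    apply hx
    have h1 : (g : G)⁻¹ • ((g : G) • x) = (g : G) • x :=
      (fixL (G := G) l₀).inv_mem g.2 _ hgx
    rw [inv_smul_smul] at h1
    rw [h1]; exact hgx

theorem mem_compl {l₀ : List Ω} {x : Ω} : x ∈ compl (G := G) l₀ ↔ x ∉ l₀ := Iff.rfl

theorem transfer {j K : ℕ} (S : SharpK G Ω (j + K)) (l₀ : List Ω) (hl₀ : l₀.Nodup)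
    (hj : l₀.length = j) : SharpK (fixL (G := G) l₀) (compl (G := G) l₀) K := by
  have hnd : ∀ l : List (compl (G := G) l₀), l.Nodup → l.length = K →
      (l₀ ++ l.map Subtype.val).Nodup ∧ (l₀ ++ l.map Subtype.val).length = j + K := by
    intro l hl hK
    refine ⟨List.Nodup.append hl₀ (hl.map Subtype.val_injective) ?_, by simp [hj, hK]⟩
    intro x hx hx'
    obtain ⟨y, -, rfl⟩ := List.mem_map.mp hx'
    exact y.2 hx
  constructor
  · intro l l' hl hl' hK hK'
    obtain ⟨h1, h2⟩ := hnd l hl hK
    obtain ⟨h1', h2'⟩ := hnd l' hl' hK'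
    obtain ⟨g, hg⟩ := S.ex _ _ h1 h1' h2 h2'
    rw [List.map_append] at hg
    obtain ⟨hg1, hg2⟩ := List.append_inj hg (by simp)
    have hgm : g ∈ fixL (G := G) l₀ := by
      intro x hx
      have := (List.map_inj_left (g := id)).mp (by simpa using hg1) x hx
      simpa using this
    refine ⟨⟨g, hgm⟩, ?_⟩
    apply List.map_injective_iff.mpr Subtype.val_injective
    rw [← hg2, List.map_map, List.map_map]
    rfl
  · intro g l hl hK hfix
    obtain ⟨h1, h2⟩ := hnd l hl hK
    have := S.uniq (g : G) _ h1 h2 (by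
      intro x hx
      rcases List.mem_append.mp hx with hx | hx
      · exact g.2 x hx
      · obtain ⟨y, hy, rfl⟩ := List.mem_map.mp hx
        have := hfix y hy
        exact congrArg Subtype.val this)
    exact Subtype.ext this

end Cfsg.Agent.helper4.Sharp
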