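import Mathlib
import Cfsg.Agent.Lib_helper4_SharpB

set_option autoImplicit false

namespace Cfsg.Agent.helper4.Sharp

variable {G : Type*} {Ω : Type*} [Group G] [MulAction G Ω]

theorem fresh_of_embedding {n : ℕ} (e : Fin (n + 1) ↪ Ω) (s : Finset Ω) (hs : s.card ≤ n) :
    ∃ x, x ∉ s := by
  classical
  have : s.card < (Finset.univ.map e).card := by simp; omega
  obtain ⟨x, -, hx⟩ := Finset.exists_mem_notMem_of_card_lt_card this
  exact ⟨x, hx⟩

/-- The regular-action bijections for an involution `t = (p1)(p2)(p3 p4)…` in a sharply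
4-transitive group. -/
theorem card_moved_eq (S : SharpK G Ω 4) (t : G) (p1 p2 p3 p4 k₀ : Ω)
    (h12 : p1 ≠ p2) (ht1 : t • p1 = p1) (ht2 : t • p2 = p2) (ht3 : t • p3 = p4)
    (ht4 : t • p4 = p3) (h34 : p3 ≠ p4) (htt : ∀ x : Ω, t • t • x = x)
    (hk0 : t • k₀ ≠ k₀) (hk3 : k₀ ≠ p3) (hk4 : k₀ ≠ p4) :
    Nonempty ({k : Ω // t • k ≠ k ∧ k ≠ p3 ∧ k ≠ p4} ≃
      {ab : Ω × Ω // t • ab.1 = ab.1 ∧ t • ab.2 = ab.2 ∧ ab.1 ≠ ab.2}) := by
  let D := {g : G // g * t = t * g ∧ g • p3 = p3}
  have hcomm : ∀ g : D, ∀ x : Ω, (g : G) • t • x = t • (g : G) • x := by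
    intro g x
    rw [← mul_smul, ← mul_smul, g.2.1]
  have hD4 : ∀ g : D, (g : G) • p4 = p4 := by
    intro g
    rw [← ht3, hcomm g, g.2.2]
  have h13 : p1 ≠ p3 := fun h => h34 (by rw [← ht3, ← h, ht1, h])
  have h14 : p1 ≠ p4 := fun h => h34 (by rw [← ht4, ← h, ht1, h])
  have h23 : p2 ≠ p3 := fun h => h34 (by rw [← ht3, ← h, ht2, h])
  have h24 : p2 ≠ p4 := fun h => h34 (by rw [← ht4, ← h, ht2, h])
  have hk0' : t • k₀ ≠ p3 := fun h => hk4 (by rw [← ht3, ← h, htt])
  have hk0'' : t • k₀ ≠ p4 := fun h => hk3 (by rw [← ht4, ← h, htt])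
  -- first bijection
  let φA : D → {k : Ω // t • k ≠ k ∧ k ≠ p3 ∧ k ≠ p4} := fun g => ⟨(g : G) • k₀, by
    refine ⟨?_, ?_, ?_⟩
    · rw [← hcomm g]
      exact fun h => hk0 (MulAction.injective (g : G) h)
    · intro h
      exact hk3 (MulAction.injective (g : G) (h.trans g.2.2.symm))
    · intro h
      exact hk4 (MulAction.injective (g : G) (h.trans (hD4 g).symm))⟩
  have hφA : Function.Bijective φA := by
    constructor
    · intro g g' hgg
      have hgg' : (g : G) • k₀ = (g' : G) • k₀ := congrArg Subtype.val hgg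
      apply Subtype.ext
      apply S.eq_of_agree _ _ [p3, p4, k₀, t • k₀]
        (by simp [h34, hk3.symm, hk4.symm, hk0'.symm, hk0''.symm, hk0.symm]) rfl
      intro x hx
      simp only [List.mem_cons, List.not_mem_nil, or_false] at hx
      rcases hx with rfl | rfl | rfl | rfl
      · rw [g.2.2, g'.2.2]
      · rw [hD4, hD4]
      · exact hgg'
      · rw [hcomm, hcomm, hgg']
    · rintro ⟨k, hk, hk3', hk4'⟩
      have hk' : t • k ≠ p3 := fun h => hk4' (by rw [← ht3, ← h, htt])
      have hk'' : t • k ≠ p4 := fun h => hk3' (by rw [← ht4, ← h, htt])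
      obtain ⟨g, hg⟩ := S.ex [p3, p4, k₀, t • k₀] [p3, p4, k, t • k]
        (by simp [h34, hk3.symm, hk4.symm, hk0'.symm, hk0''.symm, hk0.symm])
        (by simp [h34, hk3'.symm, hk4'.symm, hk'.symm, hk''.symm, hk.symm]) rfl rfl
      simp only [List.map_cons, List.map_nil, List.cons.injEq, and_true] at hg
      obtain ⟨hg3, hg4, hgk, hgtk⟩ := hg
      have hgt : g * t = t * g := by
        apply S.comm_of_agree g t [p3, p4, k₀, t • k₀]
          (by simp [h34, hk3.symm, hk4.symm, hk0'.symm, hk0''.symm, hk0.symm]) rfl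
        intro x hx
        simp only [List.mem_cons, List.not_mem_nil, or_false] at hx
        rcases hx with rfl | rfl | rfl | rfl
        · rw [ht3, hg4, hg3, ht3]
        · rw [ht4, hg3, hg4, ht4]
        · rw [hgtk, hgk]
        · rw [htt, hgk, hgtk, htt]
      exact ⟨⟨g, hgt, hg3⟩, Subtype.ext hgk⟩
  -- second bijection
  let φB : D → {ab : Ω × Ω // t • ab.1 = ab.1 ∧ t • ab.2 = ab.2 ∧ ab.1 ≠ ab.2} :=
    fun g => ⟨((g : G) • p1, (g : G) • p2), by
      refine ⟨?_, ?_, ?_⟩
      · change t • (g : G) • p1 = (g : G) • p1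
        rw [← hcomm g, ht1]
      · change t • (g : G) • p2 = (g : G) • p2
        rw [← hcomm g, ht2]
      · exact fun h => h12 (MulAction.injective (g : G) h)⟩
  have hφB : Function.Bijective φB := by
    constructor
    · intro g g' hgg
      have hgg1 : (g : G) • p1 = (g' : G) • p1 := congrArg (fun z => z.1.1) hgg
      have hgg2 : (g : G) • p2 = (g' : G) • p2 := congrArg (fun z => z.1.2) hgg
      apply Subtype.ext
      apply S.eq_of_agree _ _ [p3, p4, p1, p2]
        (by simp [h34, h13.symm, h14.symm, h23.symm, h24.symm, h12]) rfl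
      intro x hx
      simp only [List.mem_cons, List.not_mem_nil, or_false] at hx
      rcases hx with rfl | rfl | rfl | rfl
      · rw [g.2.2, g'.2.2]
      · rw [hD4, hD4]
      · exact hgg1
      · exact hgg2
    · rintro ⟨⟨α, β⟩, hα, hβ, hαβ⟩
      simp only at hα hβ hαβ
      have hα3 : α ≠ p3 := fun h => h34 (by rw [← ht3, ← h, hα])
      have hα4 : α ≠ p4 := fun h => h34 (by rw [← ht4, ← h, hα, h])
      have hβ3 : β ≠ p3 := fun h => h34 (by rw [← ht3, ← h, hβ])
      have hβ4 : β ≠ p4 := fun h => h34 (by rw [← ht4, ← h, hβ, h])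
      obtain ⟨g, hg⟩ := S.ex [p3, p4, p1, p2] [p3, p4, α, β]
        (by simp [h34, h13.symm, h14.symm, h23.symm, h24.symm, h12])
        (by simp [h34, hα3.symm, hα4.symm, hβ3.symm, hβ4.symm, hαβ]) rfl rfl
      simp only [List.map_cons, List.map_nil, List.cons.injEq, and_true] at hg
      obtain ⟨hg3, hg4, hg1, hg2⟩ := hg
      have hgt : g * t = t * g := by
        apply S.comm_of_agree g t [p3, p4, p1, p2]
          (by simp [h34, h13.symm, h14.symm, h23.symm, h24.symm, h12]) rfl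
        intro x hx
        simp only [List.mem_cons, List.not_mem_nil, or_false] at hx
        rcases hx with rfl | rfl | rfl | rfl
        · rw [ht3, hg4, hg3, ht3]
        · rw [ht4, hg3, hg4, ht4]
        · rw [ht1, hg1, hα]
        · rw [ht2, hg2, hβ]
      exact ⟨⟨g, hgt, hg3⟩, Subtype.ext (Prod.ext hg1 hg2)⟩
  exact ⟨(Equiv.ofBijective φA hφA).symm.trans (Equiv.ofBijective φB hφB)⟩

end Cfsg.Agent.helper4.Sharp
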