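import Mathlib
import Cfsg.Agent.Lib_helper4_SharpC

set_option autoImplicit false

namespace Cfsg.Agent.helper4.Sharp

variable {G : Type*} {Ω : Type*} [Group G] [MulAction G Ω]

/-- A sharply 4-transitive group on at least 7 points has degree 11. -/
theorem core4 (S : SharpK G Ω 4) (e : Fin 7 ↪ Ω) : Finite Ω ∧ Nat.card Ω = 11 := by
  classical
  have fresh := fresh_of_embedding e
  have h12 : e 0 ≠ e 1 := e.injective.ne (by decide)
  have h13 : e 0 ≠ e 2 := e.injective.ne (by decide)
  have h14 : e 0 ≠ e 3 := e.injective.ne (by decide)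
  have h23 : e 1 ≠ e 2 := e.injective.ne (by decide)
  have h24 : e 1 ≠ e 3 := e.injective.ne (by decide)
  have h34 : e 2 ≠ e 3 := e.injective.ne (by decide)
  obtain ⟨t, ht⟩ := S.ex [e 0, e 1, e 2, e 3] [e 0, e 1, e 3, e 2]
    (by simp [h12, h13, h14, h23, h24, h34]) (by simp [h12, h13, h14, h23, h24, h34.symm]) rfl rfl
  simp only [List.map_cons, List.map_nil, List.cons.injEq, and_true] at ht
  obtain ⟨ht1, ht2, ht3, ht4⟩ := ht
  have htt1 : t * t = 1 := by
    apply S.uniq (t * t) [e 0, e 1, e 2, e 3] (by simp [h12, h13, h14, h23, h24, h34]) rfl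
    intro x hx
    simp only [List.mem_cons, List.not_mem_nil, or_false] at hx
    rcases hx with rfl | rfl | rfl | rfl
    · rw [mul_smul, ht1, ht1]
    · rw [mul_smul, ht2, ht2]
    · rw [mul_smul, ht3, ht4]
    · rw [mul_smul, ht4, ht3]
  have htt : ∀ x : Ω, t • t • x = x := fun x => by rw [← mul_smul, htt1, one_smul]
  have ht_ne : t ≠ 1 := by
    intro h
    rw [h, one_smul] at ht3
    exact h34 ht3
  -- the set of fixed points as a finset
  obtain ⟨Fs, hF, hFc⟩ : ∃ Fs : Finset Ω, (∀ x, t • x = x ↔ x ∈ Fs) ∧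
      (Fs.card = 2 ∨ Fs.card = 3) := by
    by_cases hq : ∃ q, q ≠ e 0 ∧ q ≠ e 1 ∧ t • q = q
    · obtain ⟨q, hq1, hq2, hq⟩ := hq
      refine ⟨{e 0, e 1, q}, ?_, Or.inr ?_⟩
      · intro x
        simp only [Finset.mem_insert, Finset.mem_singleton]
        constructor
        · intro hx
          by_contra hcon
          push Not at hcon
          apply ht_ne
          exact S.uniq t [e 0, e 1, q, x]
            (by simp [h12, hq1.symm, hq2.symm, hcon.1.symm, hcon.2.1.symm, hcon.2.2.symm]) rfl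
            (by
              intro y hy
              simp only [List.mem_cons, List.not_mem_nil, or_false] at hy
              rcases hy with rfl | rfl | rfl | rfl <;> assumption)
        · rintro (rfl | rfl | rfl) <;> assumption
      · rw [Finset.card_eq_three]
        exact ⟨e 0, e 1, q, h12, hq1.symm, hq2.symm, rfl⟩
    · push Not at hq
      refine ⟨{e 0, e 1}, ?_, Or.inl ?_⟩
      · intro x
        simp only [Finset.mem_insert, Finset.mem_singleton]
        constructor
        · intro hx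
          by_contra hcon
          push Not at hcon
          exact hq x hcon.1 hcon.2 hx
        · rintro (rfl | rfl) <;> assumption
      · rw [Finset.card_eq_two]
        exact ⟨e 0, e 1, h12, rfl⟩
  have h3F : e 2 ∉ Fs := by rw [← hF, ht3]; exact h34.symm
  have h4F : e 3 ∉ Fs := by rw [← hF, ht4]; exact h34
  obtain ⟨k₀, hk₀⟩ := fresh (Fs ∪ {e 2, e 3}) (by
    have := Finset.card_union_le Fs {e 2, e 3}
    have h2 : ({e 2, e 3} : Finset Ω).card ≤ 2 := Finset.card_le_two
    rcases hFc with h | h <;> omega)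
  simp only [Finset.mem_union, Finset.mem_insert, Finset.mem_singleton, not_or] at hk₀
  obtain ⟨hk0F, hk3, hk4⟩ := hk₀
  rw [← hF] at hk0F
  obtain ⟨φ⟩ := card_moved_eq S t (e 0) (e 1) (e 2) (e 3) k₀ h12 ht1 ht2 ht3 ht4 h34 htt hk0F hk3 hk4
  -- the set B
  have hB : {ab : Ω × Ω | t • ab.1 = ab.1 ∧ t • ab.2 = ab.2 ∧ ab.1 ≠ ab.2} = ↑Fs.offDiag := by
    ext ⟨a, b⟩
    simp only [Set.mem_setOf_eq, Finset.coe_offDiag, Set.mem_offDiag, Finset.mem_coe, hF]
  have hBfin : Finite {ab : Ω × Ω // t • ab.1 = ab.1 ∧ t • ab.2 = ab.2 ∧ ab.1 ≠ ab.2} := by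
    have : {ab : Ω × Ω | t • ab.1 = ab.1 ∧ t • ab.2 = ab.2 ∧ ab.1 ≠ ab.2}.Finite := by
      rw [hB]; exact Finset.finite_toSet _
    exact this.to_subtype
  have hBcard : Nat.card {ab : Ω × Ω // t • ab.1 = ab.1 ∧ t • ab.2 = ab.2 ∧ ab.1 ≠ ab.2} =
      Fs.card * Fs.card - Fs.card := by
    have : Nat.card {ab : Ω × Ω // t • ab.1 = ab.1 ∧ t • ab.2 = ab.2 ∧ ab.1 ≠ ab.2} =
        Set.ncard {ab : Ω × Ω | t • ab.1 = ab.1 ∧ t • ab.2 = ab.2 ∧ ab.1 ≠ ab.2} := rfl
    rw [this, hB, Set.ncard_coe_finset, Finset.offDiag_card]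
  set A : Set Ω := {k : Ω | t • k ≠ k ∧ k ≠ e 2 ∧ k ≠ e 3} with hA
  have hAfin : A.Finite := by
    have : Finite A := Finite.of_equiv _ φ.symm
    exact Set.toFinite A
  have hAcard : A.ncard = Fs.card * Fs.card - Fs.card := by
    rw [← hBcard]
    exact Nat.card_congr φ
  have huniv : (Set.univ : Set Ω) = ↑Fs ∪ ({e 2, e 3} ∪ A) := by
    ext x
    simp only [Set.mem_univ, Set.mem_union, Finset.mem_coe, Set.mem_insert_iff,
      Set.mem_singleton_iff, true_iff, hA, Set.mem_setOf_eq]
    by_cases h1 : t • x = x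
    · left; exact (hF x).mp h1
    · right
      by_cases h2 : x = e 2
      · left; left; exact h2
      · by_cases h3 : x = e 3
        · left; right; exact h3
        · right; exact ⟨h1, h2, h3⟩
  have hfin : (Set.univ : Set Ω).Finite := by
    rw [huniv]
    exact (Finset.finite_toSet _).union ((Set.toFinite _).union hAfin)
  have hΩ : Finite Ω := Set.finite_univ_iff.mp hfin
  refine ⟨hΩ, ?_⟩
  have hd1 : Disjoint ({e 2, e 3} : Set Ω) A := by
    rw [Set.disjoint_left]
    intro x hx hxA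
    rcases hx with rfl | rfl
    · exact hxA.2.1 rfl
    · exact hxA.2.2 rfl
  have hd2 : Disjoint (↑Fs : Set Ω) ({e 2, e 3} ∪ A) := by
    rw [Set.disjoint_left]
    intro x hx hx'
    rcases hx' with (rfl | rfl) | hxA
    · exact h3F hx
    · exact h4F hx
    · exact hxA.1 ((hF x).mpr hx)
  have hcard : Nat.card Ω = Fs.card + (2 + (Fs.card * Fs.card - Fs.card)) := by
    rw [← Set.ncard_univ, huniv, Set.ncard_union_eq hd2 (Finset.finite_toSet _)
      ((Set.toFinite _).union hAfin), Set.ncard_union_eq hd1 (Set.toFinite _) hAfin,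
      Set.ncard_coe_finset, Set.ncard_pair h34, hAcard]
  rcases hFc with h | h
  · exfalso
    rw [h] at hcard
    have h7 : Nat.card (Fin 7) ≤ Nat.card Ω := Nat.card_le_card_of_injective e e.injective
    rw [Nat.card_fin] at h7
    omega
  · rw [h] at hcard
    omega

end Cfsg.Agent.helper4.Sharp
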