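import Mathlib
import Cfsg.Agent.Lib_helper4_SharpD

set_option autoImplicit false

namespace Cfsg.Agent.helper4.Sharp

variable {G : Type*} {Ω : Type*} [Group G] [MulAction G Ω]

/-- The two regular actions for an involution `t = (p1)(p2)(p3)(p4)(p5 p6)…` in a sharply
6-transitive group. -/
theorem card_eq6 (S : SharpK G Ω 6) (t : G) (p1 p2 p5 p6 k₀ l₀ : Ω)
    (h12 : p1 ≠ p2) (ht1 : t • p1 = p1) (ht2 : t • p2 = p2) (ht5 : t • p5 = p6)
    (ht6 : t • p6 = p5) (h56 : p5 ≠ p6) (htt : ∀ x : Ω, t • t • x = x)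
    (hk0 : t • k₀ ≠ k₀) (hk5 : k₀ ≠ p5) (hk6 : k₀ ≠ p6)
    (hl0 : t • l₀ ≠ l₀) (hl5 : l₀ ≠ p5) (hl6 : l₀ ≠ p6) (hlk : l₀ ≠ k₀) (hlk' : l₀ ≠ t • k₀) :
    Nonempty ({x : Ω × Ω × Ω // t • x.1 = x.1 ∧ t • x.2.1 = x.2.1 ∧ x.1 ≠ x.2.1 ∧
        t • x.2.2 ≠ x.2.2 ∧ x.2.2 ≠ p5 ∧ x.2.2 ≠ p6} ≃
      {y : Ω × Ω // (t • y.1 ≠ y.1 ∧ y.1 ≠ p5 ∧ y.1 ≠ p6) ∧ (t • y.2 ≠ y.2 ∧ y.2 ≠ p5 ∧ y.2 ≠ p6) ∧
        y.2 ≠ y.1 ∧ y.2 ≠ t • y.1}) := by
  let D := {g : G // g * t = t * g ∧ g • p5 = p5}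
  have hcomm : ∀ g : D, ∀ x : Ω, (g : G) • t • x = t • (g : G) • x := by
    intro g x
    rw [← mul_smul, ← mul_smul, g.2.1]
  have hD6 : ∀ g : D, (g : G) • p6 = p6 := by
    intro g
    rw [← ht5, hcomm g, g.2.2]
  have tne : ∀ {a b : Ω}, a ≠ b → t • a ≠ t • b := fun h h' => h (MulAction.injective t h')
  -- facts about fixed / moved points
  have fix5 : ∀ {a : Ω}, t • a = a → a ≠ p5 := fun ha h => h56 (by rw [← ht5, ← h, ha])
  have fix6 : ∀ {a : Ω}, t • a = a → a ≠ p6 := fun ha h => h56 (by rw [← ht6, ← h, ha, h])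
  have mv5 : ∀ {k : Ω}, k ≠ p6 → t • k ≠ p5 := fun hk h => hk (by rw [← ht5, ← h, htt])
  have mv6 : ∀ {k : Ω}, k ≠ p5 → t • k ≠ p6 := fun hk h => hk (by rw [← ht6, ← h, htt])
  have fm : ∀ {a k : Ω}, t • a = a → t • k ≠ k → a ≠ k := fun ha hk h => hk (by rw [← h, ha])
  have fm' : ∀ {a k : Ω}, t • a = a → t • k ≠ k → a ≠ t • k := by
    intro a k ha hk h
    apply hk
    have : t • a = t • t • k := congrArg (fun z => t • z) h
    rw [htt, ha] at this
    rw [← this, ha]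
  have nd1 : ∀ {α β k : Ω}, t • α = α → t • β = β → α ≠ β → t • k ≠ k → k ≠ p5 → k ≠ p6 →
      [p5, p6, α, β, k, t • k].Nodup := by
    intro α β k hα hβ hαβ hk hk5 hk6
    simp [h56, (fix5 hα).symm, (fix6 hα).symm, (fix5 hβ).symm, (fix6 hβ).symm, hk5.symm, hk6.symm,
      (mv5 hk6).symm, (mv6 hk5).symm, hαβ, fm hα hk, fm hβ hk, fm' hα hk, fm' hβ hk, hk.symm]
  have nd2 : ∀ {k l : Ω}, t • k ≠ k → k ≠ p5 → k ≠ p6 → t • l ≠ l → l ≠ p5 → l ≠ p6 → l ≠ k →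
      l ≠ t • k → [p5, p6, k, t • k, l, t • l].Nodup := by
    intro k l hk hk5 hk6 hl hl5 hl6 hlk hlk'
    have h1 : t • l ≠ k := fun h => hlk' (by rw [← h, htt])
    have h2 : t • l ≠ t • k := tne hlk
    simp [h56, hk5.symm, hk6.symm, (mv5 hk6).symm, (mv6 hk5).symm, hl5.symm, hl6.symm,
      (mv5 hl6).symm, (mv6 hl5).symm, hk.symm, hlk.symm, hlk'.symm, h1.symm, h2.symm, hl.symm]
  -- first bijection
  let φ1 : D → {x : Ω × Ω × Ω // t • x.1 = x.1 ∧ t • x.2.1 = x.2.1 ∧ x.1 ≠ x.2.1 ∧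
        t • x.2.2 ≠ x.2.2 ∧ x.2.2 ≠ p5 ∧ x.2.2 ≠ p6} :=
    fun g => ⟨((g : G) • p1, (g : G) • p2, (g : G) • k₀), by
      refine ⟨?_, ?_, ?_, ?_, ?_, ?_⟩
      · change t • (g : G) • p1 = (g : G) • p1
        rw [← hcomm g, ht1]
      · change t • (g : G) • p2 = (g : G) • p2
        rw [← hcomm g, ht2]
      · exact fun h => h12 (MulAction.injective (g : G) h)
      · change t • (g : G) • k₀ ≠ (g : G) • k₀
        rw [← hcomm g]
        exact fun h => hk0 (MulAction.injective (g : G) h)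
      · exact fun h => hk5 (MulAction.injective (g : G) (h.trans g.2.2.symm))
      · exact fun h => hk6 (MulAction.injective (g : G) (h.trans (hD6 g).symm))⟩
  have hφ1 : Function.Bijective φ1 := by
    constructor
    · intro g g' hgg
      have hgg1 : (g : G) • p1 = (g' : G) • p1 := congrArg (fun z => z.1.1) hgg
      have hgg2 : (g : G) • p2 = (g' : G) • p2 := congrArg (fun z => z.1.2.1) hgg
      have hgg3 : (g : G) • k₀ = (g' : G) • k₀ := congrArg (fun z => z.1.2.2) hgg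
      apply Subtype.ext
      apply S.eq_of_agree _ _ [p5, p6, p1, p2, k₀, t • k₀] (nd1 ht1 ht2 h12 hk0 hk5 hk6) rfl
      intro x hx
      simp only [List.mem_cons, List.not_mem_nil, or_false] at hx
      rcases hx with rfl | rfl | rfl | rfl | rfl | rfl
      · rw [g.2.2, g'.2.2]
      · rw [hD6, hD6]
      · exact hgg1
      · exact hgg2
      · exact hgg3
      · rw [hcomm, hcomm, hgg3]
    · rintro ⟨⟨α, β, k⟩, hα, hβ, hαβ, hk, hk5', hk6'⟩
      simp only at hα hβ hαβ hk hk5' hk6'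
      obtain ⟨g, hg⟩ := S.ex [p5, p6, p1, p2, k₀, t • k₀] [p5, p6, α, β, k, t • k]
        (nd1 ht1 ht2 h12 hk0 hk5 hk6) (nd1 hα hβ hαβ hk hk5' hk6') rfl rfl
      simp only [List.map_cons, List.map_nil, List.cons.injEq, and_true] at hg
      obtain ⟨hg5, hg6, hg1, hg2, hgk, hgtk⟩ := hg
      have hgt : g * t = t * g := by
        apply S.comm_of_agree g t [p5, p6, p1, p2, k₀, t • k₀] (nd1 ht1 ht2 h12 hk0 hk5 hk6) rfl
        intro x hx
        simp only [List.mem_cons, List.not_mem_nil, or_false] at hx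
        rcases hx with rfl | rfl | rfl | rfl | rfl | rfl
        · rw [ht5, hg6, hg5, ht5]
        · rw [ht6, hg5, hg6, ht6]
        · rw [ht1, hg1, hα]
        · rw [ht2, hg2, hβ]
        · rw [hgtk, hgk]
        · rw [htt, hgk, hgtk, htt]
      exact ⟨⟨g, hgt, hg5⟩, Subtype.ext (Prod.ext hg1 (Prod.ext hg2 hgk))⟩
  -- second bijection
  let φ2 : D → {y : Ω × Ω // (t • y.1 ≠ y.1 ∧ y.1 ≠ p5 ∧ y.1 ≠ p6) ∧
        (t • y.2 ≠ y.2 ∧ y.2 ≠ p5 ∧ y.2 ≠ p6) ∧ y.2 ≠ y.1 ∧ y.2 ≠ t • y.1} :=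
    fun g => ⟨((g : G) • k₀, (g : G) • l₀), by
      refine ⟨⟨?_, ?_, ?_⟩, ⟨?_, ?_, ?_⟩, ?_, ?_⟩
      · change t • (g : G) • k₀ ≠ (g : G) • k₀
        rw [← hcomm g]
        exact fun h => hk0 (MulAction.injective (g : G) h)
      · exact fun h => hk5 (MulAction.injective (g : G) (h.trans g.2.2.symm))
      · exact fun h => hk6 (MulAction.injective (g : G) (h.trans (hD6 g).symm))
      · change t • (g : G) • l₀ ≠ (g : G) • l₀
        rw [← hcomm g]
        exact fun h => hl0 (MulAction.injective (g : G) h)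
      · exact fun h => hl5 (MulAction.injective (g : G) (h.trans g.2.2.symm))
      · exact fun h => hl6 (MulAction.injective (g : G) (h.trans (hD6 g).symm))
      · exact fun h => hlk (MulAction.injective (g : G) h)
      · change (g : G) • l₀ ≠ t • (g : G) • k₀
        rw [← hcomm g]
        exact fun h => hlk' (MulAction.injective (g : G) h)⟩
  have hφ2 : Function.Bijective φ2 := by
    constructor
    · intro g g' hgg
      have hgg1 : (g : G) • k₀ = (g' : G) • k₀ := congrArg (fun z => z.1.1) hgg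
      have hgg2 : (g : G) • l₀ = (g' : G) • l₀ := congrArg (fun z => z.1.2) hgg
      apply Subtype.ext
      apply S.eq_of_agree _ _ [p5, p6, k₀, t • k₀, l₀, t • l₀]
        (nd2 hk0 hk5 hk6 hl0 hl5 hl6 hlk hlk') rfl
      intro x hx
      simp only [List.mem_cons, List.not_mem_nil, or_false] at hx
      rcases hx with rfl | rfl | rfl | rfl | rfl | rfl
      · rw [g.2.2, g'.2.2]
      · rw [hD6, hD6]
      · exact hgg1
      · rw [hcomm, hcomm, hgg1]
      · exact hgg2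
      · rw [hcomm, hcomm, hgg2]
    · rintro ⟨⟨k, l⟩, ⟨hk, hk5', hk6'⟩, ⟨hl, hl5', hl6'⟩, hlk1, hlk2⟩
      simp only at hk hk5' hk6' hl hl5' hl6' hlk1 hlk2
      obtain ⟨g, hg⟩ := S.ex [p5, p6, k₀, t • k₀, l₀, t • l₀] [p5, p6, k, t • k, l, t • l]
        (nd2 hk0 hk5 hk6 hl0 hl5 hl6 hlk hlk') (nd2 hk hk5' hk6' hl hl5' hl6' hlk1 hlk2) rfl rfl
      simp only [List.map_cons, List.map_nil, List.cons.injEq, and_true] at hg
      obtain ⟨hg5, hg6, hgk, hgtk, hgl, hgtl⟩ := hg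
      have hgt : g * t = t * g := by
        apply S.comm_of_agree g t [p5, p6, k₀, t • k₀, l₀, t • l₀]
          (nd2 hk0 hk5 hk6 hl0 hl5 hl6 hlk hlk') rfl
        intro x hx
        simp only [List.mem_cons, List.not_mem_nil, or_false] at hx
        rcases hx with rfl | rfl | rfl | rfl | rfl | rfl
        · rw [ht5, hg6, hg5, ht5]
        · rw [ht6, hg5, hg6, ht6]
        · rw [hgtk, hgk]
        · rw [htt, hgk, hgtk, htt]
        · rw [hgtl, hgl]
        · rw [htt, hgl, hgtl, htt]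
      exact ⟨⟨g, hgt, hg5⟩, Subtype.ext (Prod.ext hgk hgl)⟩
  exact ⟨(Equiv.ofBijective φ1 hφ1).symm.trans (Equiv.ofBijective φ2 hφ2)⟩

end Cfsg.Agent.helper4.Sharp
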