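import Mathlib
import Cfsg.Agent.Lib_helper4_SharpE

set_option autoImplicit false

namespace Cfsg.Agent.helper4.Sharp

variable {G : Type*} {Ω : Type*} [Group G] [MulAction G Ω]

/-- There is no sharply 6-transitive group of degree 13. -/
theorem core6 (S : SharpK G Ω 6) [Finite Ω] (h13 : Nat.card Ω = 13) : False := by
  classical
  have := Fintype.ofFinite Ω
  have hcard : Fintype.card Ω = 13 := by rw [← Nat.card_eq_fintype_card, h13]
  let ε : Ω ≃ Fin 13 := Finite.equivFinOfCardEq h13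
  have hne : ∀ {i j : Fin 13}, i ≠ j → ε.symm i ≠ ε.symm j := fun h => ε.symm.injective.ne h
  have nd : [ε.symm 0, ε.symm 1, ε.symm 2, ε.symm 3, ε.symm 4, ε.symm 5].Nodup := by
    have : [ε.symm 0, ε.symm 1, ε.symm 2, ε.symm 3, ε.symm 4, ε.symm 5] =
      ([0, 1, 2, 3, 4, 5] : List (Fin 13)).map ε.symm := rfl
    rw [this]
    exact List.Nodup.map ε.symm.injective (by decide)
  have nd' : [ε.symm 0, ε.symm 1, ε.symm 2, ε.symm 3, ε.symm 5, ε.symm 4].Nodup := by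
    have : [ε.symm 0, ε.symm 1, ε.symm 2, ε.symm 3, ε.symm 5, ε.symm 4] =
      ([0, 1, 2, 3, 5, 4] : List (Fin 13)).map ε.symm := rfl
    rw [this]
    exact List.Nodup.map ε.symm.injective (by decide)
  obtain ⟨t, ht⟩ := S.ex _ _ nd nd' rfl rfl
  simp only [List.map_cons, List.map_nil, List.cons.injEq, and_true] at ht
  obtain ⟨ht1, ht2, ht3, ht4, ht5, ht6⟩ := ht
  have htt1 : t * t = 1 := by
    apply S.uniq (t * t) _ nd rfl
    intro x hx
    simp only [List.mem_cons, List.not_mem_nil, or_false] at hx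
    rcases hx with rfl | rfl | rfl | rfl | rfl | rfl
    · rw [mul_smul, ht1, ht1]
    · rw [mul_smul, ht2, ht2]
    · rw [mul_smul, ht3, ht3]
    · rw [mul_smul, ht4, ht4]
    · rw [mul_smul, ht5, ht6]
    · rw [mul_smul, ht6, ht5]
  have htt : ∀ x : Ω, t • t • x = x := fun x => by rw [← mul_smul, htt1, one_smul]
  have h56 : ε.symm 4 ≠ ε.symm 5 := hne (by decide)
  have ht_ne : t ≠ 1 := by
    intro h
    rw [h, one_smul] at ht5
    exact h56 ht5
  set Fs : Finset Ω := Finset.univ.filter (fun x => t • x = x) with hFs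
  have hFc : Fs.card ≤ 5 := by
    by_contra hcon
    push Not at hcon
    obtain ⟨s, hs, hsc⟩ := Finset.exists_subset_card_eq (Nat.succ_le_of_lt hcon)
    apply ht_ne
    refine S.uniq t s.toList (Finset.nodup_toList s) (by simp [hsc]) (fun x hx => ?_)
    have := hs (Finset.mem_toList.mp hx)
    simpa [hFs] using this
  have h5F : ε.symm 4 ∉ Fs := by simp [hFs, ht5, h56.symm]
  have h6F : ε.symm 5 ∉ Fs := by simp [hFs, ht6, h56]
  -- k₀
  obtain ⟨k₀, hk₀⟩ : ∃ k₀, k₀ ∉ Fs ∪ {ε.symm 4, ε.symm 5} := by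
    by_contra hcon
    push Not at hcon
    have h1 : (Fs ∪ {ε.symm 4, ε.symm 5}) = Finset.univ := Finset.eq_univ_iff_forall.mpr hcon
    have h2 := Finset.card_union_le Fs {ε.symm 4, ε.symm 5}
    have h3 : ({ε.symm 4, ε.symm 5} : Finset Ω).card ≤ 2 := Finset.card_le_two
    rw [h1, Finset.card_univ, hcard] at h2
    omega
  simp only [Finset.mem_union, Finset.mem_insert, Finset.mem_singleton, not_or] at hk₀
  obtain ⟨hk0F, hk5, hk6⟩ := hk₀
  have hk0 : t • k₀ ≠ k₀ := by simpa [hFs] using hk0F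
  obtain ⟨l₀, hl₀⟩ : ∃ l₀, l₀ ∉ Fs ∪ {ε.symm 4, ε.symm 5, k₀, t • k₀} := by
    by_contra hcon
    push Not at hcon
    have h1 : (Fs ∪ {ε.symm 4, ε.symm 5, k₀, t • k₀}) = Finset.univ :=
      Finset.eq_univ_iff_forall.mpr hcon
    have h2 := Finset.card_union_le Fs {ε.symm 4, ε.symm 5, k₀, t • k₀}
    have h3 : ({ε.symm 4, ε.symm 5, k₀, t • k₀} : Finset Ω).card ≤ 4 := Finset.card_le_four
    rw [h1, Finset.card_univ, hcard] at h2
    omega
  simp only [Finset.mem_union, Finset.mem_insert, Finset.mem_singleton, not_or] at hl₀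
  obtain ⟨hl0F, hl5, hl6, hlk, hlk'⟩ := hl₀
  have hl0 : t • l₀ ≠ l₀ := by simpa [hFs] using hl0F
  obtain ⟨φ⟩ := card_eq6 S t (ε.symm 0) (ε.symm 1) (ε.symm 4) (ε.symm 5) k₀ l₀ (hne (by decide))
    ht1 ht2 ht5 ht6 h56 htt hk0 hk5 hk6 hl0 hl5 hl6 hlk hlk'
  -- cardinalities
  set A : Finset Ω := Finset.univ.filter (fun k => t • k ≠ k ∧ k ≠ ε.symm 4 ∧ k ≠ ε.symm 5) with hA
  have hA1 : 1 ≤ A.card := Finset.card_pos.mpr ⟨k₀, by simp [hA, hk0, hk5, hk6]⟩
  set s6 : Finset Ω := Finset.image ε.symm {0, 1, 2, 3, 4, 5} with hs6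
  have hs6c : s6.card = 6 := by
    rw [hs6, Finset.card_image_of_injective _ ε.symm.injective]; decide
  have hA7 : A.card ≤ 7 := by
    have hdisj : Disjoint A s6 := by
      rw [Finset.disjoint_left]
      intro x hxA hx6
      simp only [hA, Finset.mem_filter, Finset.mem_univ, true_and] at hxA
      simp only [hs6, Finset.mem_image, Finset.mem_insert, Finset.mem_singleton] at hx6
      obtain ⟨i, hi, rfl⟩ := hx6
      rcases hi with rfl | rfl | rfl | rfl | rfl | rfl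
      · exact hxA.1 ht1
      · exact hxA.1 ht2
      · exact hxA.1 ht3
      · exact hxA.1 ht4
      · exact hxA.2.1 rfl
      · exact hxA.2.2 rfl
    have := Finset.card_le_univ (A ∪ s6)
    rw [Finset.card_union_of_disjoint hdisj, hs6c, hcard] at this
    omega
  set s4 : Finset Ω := Finset.image ε.symm {0, 1, 2, 3} with hs4
  have hs4c : s4.card = 4 := by
    rw [hs4, Finset.card_image_of_injective _ ε.symm.injective]; decide
  have hs4fix : ∀ x ∈ s4, t • x = x := by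
    intro x hx
    simp only [hs4, Finset.mem_image, Finset.mem_insert, Finset.mem_singleton] at hx
    obtain ⟨i, hi, rfl⟩ := hx
    rcases hi with rfl | rfl | rfl | rfl <;> assumption
  -- injection into X1
  let ι1 : ↥(s4.offDiag) × ↥A → {x : Ω × Ω × Ω // t • x.1 = x.1 ∧ t • x.2.1 = x.2.1 ∧ x.1 ≠ x.2.1 ∧
        t • x.2.2 ≠ x.2.2 ∧ x.2.2 ≠ ε.symm 4 ∧ x.2.2 ≠ ε.symm 5} :=
    fun z => ⟨(z.1.1.1, z.1.1.2, z.2.1), by
      have h1 := Finset.mem_offDiag.mp z.1.2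
      have h2 := z.2.2
      simp only [hA, Finset.mem_filter, Finset.mem_univ, true_and] at h2
      exact ⟨hs4fix _ h1.1, hs4fix _ h1.2.1, h1.2.2, h2⟩⟩
  have hι1 : Function.Injective ι1 := by
    rintro ⟨⟨⟨a, b⟩, hab⟩, ⟨k, hk⟩⟩ ⟨⟨⟨a', b'⟩, hab'⟩, ⟨k', hk'⟩⟩ h
    have h' := congrArg Subtype.val h
    simp only [ι1, Prod.mk.injEq] at h'
    obtain ⟨rfl, rfl, rfl⟩ := h'
    rfl
  let ι2 : {y : Ω × Ω // (t • y.1 ≠ y.1 ∧ y.1 ≠ ε.symm 4 ∧ y.1 ≠ ε.symm 5) ∧
        (t • y.2 ≠ y.2 ∧ y.2 ≠ ε.symm 4 ∧ y.2 ≠ ε.symm 5) ∧ y.2 ≠ y.1 ∧ y.2 ≠ t • y.1} → ↥A × ↥A :=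
    fun y => (⟨y.1.1, by simp only [hA, Finset.mem_filter, Finset.mem_univ, true_and]; exact y.2.1⟩,
      ⟨y.1.2, by simp only [hA, Finset.mem_filter, Finset.mem_univ, true_and]; exact y.2.2.1⟩)
  have hι2 : Function.Injective ι2 := by
    rintro ⟨⟨a, b⟩, h1⟩ ⟨⟨a', b'⟩, h1'⟩ h
    simp only [ι2, Prod.mk.injEq, Subtype.mk.injEq] at h
    obtain ⟨rfl, rfl⟩ := h
    rfl
  have c1 := Nat.card_le_card_of_injective ι1 hι1
  have c2 := Nat.card_le_card_of_injective ι2 hι2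
  have c3 := Nat.card_congr φ
  have hAc : Nat.card ↥A = A.card := by rw [Nat.card_eq_fintype_card, Fintype.card_coe]
  have hOc : Nat.card ↥(s4.offDiag) = 4 * 4 - 4 := by
    rw [Nat.card_eq_fintype_card, Fintype.card_coe, Finset.offDiag_card, hs4c]
  rw [Nat.card_prod, hAc, hOc] at c1
  rw [Nat.card_prod, hAc] at c2
  rw [c3] at c1
  have c4 : 12 * A.card ≤ A.card * A.card := by
    have : 4 * 4 - 4 = 12 := rfl
    rw [this] at c1
    exact c1.trans c2
  have c5 : 12 ≤ A.card := Nat.le_of_mul_le_mul_right c4 hA1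
  omega

end Cfsg.Agent.helper4.Sharp
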