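import Mathlib
import Cfsg.Agent.Lib_helper4_SharpF

set_option autoImplicit false

namespace Cfsg.Agent.helper4.Sharp

variable {G : Type*} {Ω : Type*} [Group G] [MulAction G Ω]

theorem card_compl [Finite Ω] (l₀ : List Ω) (hl₀ : l₀.Nodup) :
    Nat.card (compl (G := G) l₀) + l₀.length = Nat.card Ω := by
  classical
  have := Fintype.ofFinite Ω
  have h1 : Nat.card (compl (G := G) l₀) = Nat.card {x : Ω // ¬ (x ∈ l₀.toFinset)} :=
    Nat.card_congr (Equiv.subtypeEquivRight (fun x => by rw [List.mem_toFinset]; exact mem_compl))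
  rw [h1, Nat.card_eq_fintype_card, Fintype.card_subtype_compl, Fintype.card_coe,
    List.toFinset_card_of_nodup hl₀, Nat.card_eq_fintype_card]
  have : l₀.length ≤ Fintype.card Ω := by
    rw [← List.toFinset_card_of_nodup hl₀]; exact Finset.card_le_univ _
  omega

theorem exists_list [Finite Ω] (j : ℕ) (hj : j ≤ Nat.card Ω) :
    ∃ l₀ : List Ω, l₀.Nodup ∧ l₀.length = j := by
  classical
  have := Fintype.ofFinite Ω
  rw [Nat.card_eq_fintype_card] at hj
  obtain ⟨s, -, hs⟩ := Finset.exists_subset_card_eq (s := (Finset.univ : Finset Ω)) (by simpa using hj)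
  exact ⟨s.toList, Finset.nodup_toList s, by simp [hs]⟩

/-- A finite sharply `K`-transitive group (`K ≥ 4`) has degree at most `K + 2`, or `K + 7`. -/
theorem sharp_degree {K : ℕ} (hK : 4 ≤ K) (S : SharpK G Ω K) [Finite Ω] (hn : K ≤ Nat.card Ω) :
    Nat.card Ω ≤ K + 2 ∨ Nat.card Ω = K + 7 := by
  obtain ⟨l₀, hl₀, hj⟩ := exists_list (Ω := Ω) (K - 4) (by omega)
  have hK' : K = (K - 4) + 4 := by omega
  rw [hK'] at S
  have S' := transfer S l₀ hl₀ hj
  have hc := card_compl (G := G) l₀ hl₀
  by_cases h7 : 7 ≤ Nat.card (compl (G := G) l₀)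
  · right
    have : Nonempty (Fin 7 ↪ compl (G := G) l₀) := by
      have := Fintype.ofFinite (compl (G := G) l₀)
      apply Function.Embedding.nonempty_of_card_le
      rw [Fintype.card_fin, ← Nat.card_eq_fintype_card]
      exact h7
    obtain ⟨e⟩ := this
    have := (core4 S' e).2
    omega
  · left
    omega

/-- There is no sharply `K`-transitive group of degree `K + 7` for `K ≥ 6`. -/
theorem sharp6_degree {K : ℕ} (hK : 6 ≤ K) (S : SharpK G Ω K) [Finite Ω] :
    Nat.card Ω ≠ K + 7 := by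
  intro hn
  obtain ⟨l₀, hl₀, hj⟩ := exists_list (Ω := Ω) (K - 6) (by omega)
  have hK' : K = (K - 6) + 6 := by omega
  rw [hK'] at S
  have S' := transfer S l₀ hl₀ hj
  have hc := card_compl (G := G) l₀ hl₀
  exact core6 S' (by omega)

end Cfsg.Agent.helper4.Sharp
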