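import Cfsg.Statements.S0623
-- import your own Cfsg.Agent.* helpers here
import Mathlib
import Cfsg.Agent.Lib_helper4_StableW
import Cfsg.Agent.Lib_helper3_PLocal

set_option autoImplicit false
open Cfsg

open scoped commutatorElement
set_option linter.style.haveILetI false
namespace Cfsg.Agent.S0623

open Cfsg.Agent.helper4.StableW

universe u

section gen
variable {H : Type*} [Group H]

/-- adjoining a normal subgroup centralizing `X` does not change `[X, A]`. -/
theorem comm_sup_centralizing (X A C : Subgroup H) (hC : C.Normal)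
    (hXC : C ≤ Subgroup.centralizer (X : Set H)) : ⁅X, A ⊔ C⁆ = ⁅X, A⁆ := by
  apply le_antisymm
  · rw [Subgroup.commutator_le]
    intro x hx g hg
    haveI := hC
    obtain ⟨a, ha, c, hc, rfl⟩ := Subgroup.mem_sup_of_normal_right.mp hg
    have hcx : x⁻¹ * c = c * x⁻¹ :=
      Subgroup.mem_centralizer_iff.mp (hXC hc) x⁻¹ (X.inv_mem hx)
    have e : ⁅x, a * c⁆ = ⁅x, a⁆ := by
      rw [commutatorElement_def, commutatorElement_def]
      have : x * (a * c) * x⁻¹ * (a * c)⁻¹ = x * a * (c * x⁻¹) * c⁻¹ * a⁻¹ := by group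
      rw [this, ← hcx]
      group
    rw [e]
    exact Subgroup.commutator_mem_commutator hx ha
  · exact Subgroup.commutator_mono le_rfl le_sup_left

/-- quadratic action only depends on the element modulo the centralizer. -/
theorem quad_congr (V : Subgroup H) (hV : V.Normal) (a s : H)
    (hc : s⁻¹ * a ∈ Subgroup.centralizer (V : Set H)) :
    ⁅⁅V, Subgroup.zpowers a⁆, Subgroup.zpowers a⁆ = ⁅⁅V, Subgroup.zpowers s⁆, Subgroup.zpowers s⁆ := by
  haveI := hV
  have hCn : (Subgroup.centralizer (V : Set H)).Normal := inferInstance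
  have hsup : Subgroup.zpowers a ⊔ Subgroup.centralizer (V : Set H) =
      Subgroup.zpowers s ⊔ Subgroup.centralizer (V : Set H) := by
    apply le_antisymm
    · apply sup_le _ le_sup_right
      rw [Subgroup.zpowers_le]
      have : a = s * (s⁻¹ * a) := by group
      rw [this]
      exact Subgroup.mul_mem_sup (Subgroup.mem_zpowers s) hc
    · apply sup_le _ le_sup_right
      rw [Subgroup.zpowers_le]
      have : s = a * (s⁻¹ * a)⁻¹ := by group
      rw [this]
      exact Subgroup.mul_mem_sup (Subgroup.mem_zpowers a) (Subgroup.inv_mem _ hc)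
  have h1 : ∀ g : H, ⁅V, Subgroup.zpowers g⁆ ≤ V := fun g => Subgroup.commutator_le_left V _
  have h2 : ∀ g : H, Subgroup.centralizer (V : Set H) ≤
      Subgroup.centralizer ((⁅V, Subgroup.zpowers g⁆ : Subgroup H) : Set H) := fun g =>
    Subgroup.centralizer_le (h1 g)
  rw [← comm_sup_centralizing _ (Subgroup.zpowers a) _ hCn (h2 a),
    ← comm_sup_centralizing V (Subgroup.zpowers a) _ hCn le_rfl,
    ← comm_sup_centralizing _ (Subgroup.zpowers s) _ hCn (h2 s),
    ← comm_sup_centralizing V (Subgroup.zpowers s) _ hCn le_rfl, hsup]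

end gen

section main
variable {S : Type u} [Group S] [Finite S] {p : ℕ} [Fact p.Prime]

/-- quadratically acting elements -/
def quadSet (p : ℕ) (S : Type u) [Group S] : Set S :=
  {y | ⁅⁅stableNormalClosure p S, Subgroup.zpowers y⁆, Subgroup.zpowers y⁆ = ⊥}

omit [Finite S] [Fact p.Prime] in
theorem map_quad {H : Type u} [Group H] (τ : S →* H) (hτ : Function.Injective τ) (W : Subgroup S)
    (t : S) :
    ⁅⁅W.map τ, Subgroup.zpowers (τ t)⁆, Subgroup.zpowers (τ t)⁆ = ⊥ ↔
      ⁅⁅W, Subgroup.zpowers t⁆, Subgroup.zpowers t⁆ = ⊥ := by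
  rw [← MonoidHom.map_zpowers, ← Subgroup.map_commutator, ← Subgroup.map_commutator]
  exact (Subgroup.map_eq_bot_iff_of_injective _ hτ)

theorem wstar_mem_fam (hS : IsPGroup p S) :
    stableNormalClosure p S ⊓ Subgroup.centralizer (quadSet p S) ∈ fam p S := by
  refine ⟨le_inf (omegaOne_center_le_stableNormalClosure p S)
    ((omegaOne_le p _).trans (Subgroup.center_le_centralizer _)), ?_⟩
  intro H _ τ hτ
  have hinj := hτ.1
  haveI : Finite H := hτ.2.1
  obtain ⟨P, hP⟩ := hτ.2.2.1
  have hVn : ((stableNormalClosure p S).map τ).Normal :=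
    (stableNormalClosure_mem_fam hS).2 H τ hτ
  have hVle : (stableNormalClosure p S).map τ ≤ (omegaCenterThompson p S).map τ :=
    Subgroup.map_mono (stableNormalClosure_le_omegaCenterThompson hS)
  haveI := hVn
  have hstab : IsPStableOn p ((stableNormalClosure p S).map τ) :=
    hτ.2.2.2.2.2 ((stableNormalClosure p S).map τ) hVle
  have hkey : (stableNormalClosure p S ⊓ Subgroup.centralizer (quadSet p S)).map τ =
      (stableNormalClosure p S).map τ ⊓ Subgroup.centralizer
        {a : H | ⁅⁅(stableNormalClosure p S).map τ, Subgroup.zpowers a⁆, Subgroup.zpowers a⁆ = ⊥} := by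
    ext y
    constructor
    · intro hy
      obtain ⟨w, hw, rfl⟩ := Subgroup.mem_map.mp hy
      obtain ⟨hwW, hwC⟩ := Subgroup.mem_inf.mp hw
      refine Subgroup.mem_inf.mpr ⟨Subgroup.mem_map_of_mem τ hwW, ?_⟩
      rw [Subgroup.mem_centralizer_iff]
      intro a ha
      have hmk := hstab a ha
      obtain ⟨s, hs, hsa⟩ := helper3.exists_sylow_mul_of_mem_pCore _ hmk P
      rw [hP] at hs
      obtain ⟨t, rfl⟩ := hs
      have hq : ⁅⁅(stableNormalClosure p S).map τ, Subgroup.zpowers (τ t)⁆,
          Subgroup.zpowers (τ t)⁆ = ⊥ := by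
        rw [← quad_congr _ hVn a (τ t) hsa]; exact ha
      have ht : t ∈ quadSet p S := (map_quad τ hinj _ t).mp hq
      have h1 : t * w = w * t := Subgroup.mem_centralizer_iff.mp hwC t ht
      have h2 : τ t * τ w = τ w * τ t := by rw [← map_mul, ← map_mul, h1]
      have h3 : τ w * ((τ t)⁻¹ * a) = ((τ t)⁻¹ * a) * τ w :=
        Subgroup.mem_centralizer_iff.mp hsa (τ w) (Subgroup.mem_map_of_mem τ hwW)
      calc a * τ w = τ t * (((τ t)⁻¹ * a) * τ w) := by group
        _ = τ t * (τ w * ((τ t)⁻¹ * a)) := by rw [h3]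
        _ = (τ t * τ w) * ((τ t)⁻¹ * a) := by group
        _ = (τ w * τ t) * ((τ t)⁻¹ * a) := by rw [h2]
        _ = τ w * a := by group
    · intro hy
      obtain ⟨hy1, hyC⟩ := Subgroup.mem_inf.mp hy
      obtain ⟨w, hwW, rfl⟩ := Subgroup.mem_map.mp hy1
      refine Subgroup.mem_map.mpr ⟨w, Subgroup.mem_inf.mpr ⟨hwW, ?_⟩, rfl⟩
      rw [Subgroup.mem_centralizer_iff]
      intro t ht
      have hq : τ t ∈ {a : H | ⁅⁅(stableNormalClosure p S).map τ, Subgroup.zpowers a⁆,
          Subgroup.zpowers a⁆ = ⊥} := (map_quad τ hinj _ t).mpr ht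
      have := Subgroup.mem_centralizer_iff.mp hyC (τ t) hq
      apply hinj
      rw [map_mul, map_mul]
      exact this
  rw [hkey]
  constructor
  intro n hn g
  obtain ⟨hn1, hn2⟩ := Subgroup.mem_inf.mp hn
  refine Subgroup.mem_inf.mpr ⟨hVn.conj_mem n hn1 g, ?_⟩
  rw [Subgroup.mem_centralizer_iff]
  intro a ha
  have ha' : g⁻¹ * a * g ∈ {a : H | ⁅⁅(stableNormalClosure p S).map τ, Subgroup.zpowers a⁆,
      Subgroup.zpowers a⁆ = ⊥} := by
    show ⁅⁅(stableNormalClosure p S).map τ, Subgroup.zpowers (g⁻¹ * a * g)⁆,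
      Subgroup.zpowers (g⁻¹ * a * g)⁆ = ⊥
    have hconj : (MulAut.conj g⁻¹).toMonoidHom a = g⁻¹ * a * g := by simp
    have hV' : ((stableNormalClosure p S).map τ).map (MulAut.conj g⁻¹).toMonoidHom =
        (stableNormalClosure p S).map τ := by
      ext z
      constructor
      · intro hz
        obtain ⟨v, hv, rfl⟩ := Subgroup.mem_map.mp hz
        have := hVn.conj_mem v hv g⁻¹
        simpa using this
      · intro hz
        refine Subgroup.mem_map.mpr ⟨g * z * g⁻¹, hVn.conj_mem z hz g, ?_⟩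
        simp [mul_assoc]
    rw [← hconj, ← MonoidHom.map_zpowers]
    calc ⁅⁅(stableNormalClosure p S).map τ,
          (Subgroup.zpowers a).map (MulAut.conj g⁻¹).toMonoidHom⁆,
          (Subgroup.zpowers a).map (MulAut.conj g⁻¹).toMonoidHom⁆
        = ⁅⁅((stableNormalClosure p S).map τ).map (MulAut.conj g⁻¹).toMonoidHom,
          (Subgroup.zpowers a).map (MulAut.conj g⁻¹).toMonoidHom⁆,
          (Subgroup.zpowers a).map (MulAut.conj g⁻¹).toMonoidHom⁆ := by rw [hV']
      _ = (⁅⁅(stableNormalClosure p S).map τ, Subgroup.zpowers a⁆,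
          Subgroup.zpowers a⁆).map (MulAut.conj g⁻¹).toMonoidHom := by
        rw [Subgroup.map_commutator, Subgroup.map_commutator]
      _ = ⊥ := by rw [ha, Subgroup.map_bot]
  have h := Subgroup.mem_centralizer_iff.mp hn2 (g⁻¹ * a * g) ha'
  calc a * (g * n * g⁻¹) = g * ((g⁻¹ * a * g) * n) * g⁻¹ := by group
    _ = g * (n * (g⁻¹ * a * g)) * g⁻¹ := by rw [h]
    _ = g * n * g⁻¹ * a := by group

end main


/-- No element of a finite p-group acts quadratically and nontrivially on the stable normal closure W(S). -/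
theorem result {S : Type*} [Group S] [Finite S] {p : ℕ} [Fact p.Prime] (hS : IsPGroup p S) (x : S) (hq : ⁅⁅Cfsg.stableNormalClosure p S, Subgroup.zpowers x⁆, Subgroup.zpowers x⁆ = ⊥) : ⁅Cfsg.stableNormalClosure p S, Subgroup.zpowers x⁆ = ⊥ := by
  have hmem := wstar_mem_fam hS
  have hle : stableNormalClosure p S ≤
      stableNormalClosure p S ⊓ Subgroup.centralizer (quadSet p S) := by
    conv_lhs => rw [stableNormalClosure_eq]
    exact sInf_le hmem
  have hx : x ∈ quadSet p S := hq
  rw [Subgroup.commutator_eq_bot_iff_le_centralizer]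
  intro w hw
  have hwc := (Subgroup.mem_inf.mp (hle hw)).2
  have hcomm : x * w = w * x := Subgroup.mem_centralizer_iff.mp hwc x hx
  rw [Subgroup.mem_centralizer_iff]
  intro h hh
  obtain ⟨k, rfl⟩ := Subgroup.mem_zpowers_iff.mp hh
  exact ((show Commute x w from hcomm).zpow_left k).eq

end Cfsg.Agent.S0623
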