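import Mathlib
import Cfsg.Agent.Lib_helper4_ZJ2
import Cfsg.Agent.Lib_helper4_StableW
import Cfsg.Agent.S0623
import Cfsg.Agent.Lib_helper7_HH123

set_option autoImplicit false
set_option linter.style.haveILetI false
open scoped commutatorElement

namespace Cfsg.Agent.helper4.Glaub

variable {S : Type*} [Group S]

namespace GSetup

variable {B A : Subgroup S} {b : S} (h : GSetup B A b)
include h

/-- when `A` and `B` have exponent `p`, so does `A*`. -/
theorem Astar_pow_of_EA (p : ℕ) (hX : ∀ x ∈ XX A b, ∀ y ∈ XX A b, x * y = y * x)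
    (hAp : ∀ a ∈ A, a ^ p = 1) (hBp : ∀ v ∈ B, v ^ p = 1) {y : S} (hy : y ∈ Astar A b) :
    y ^ p = 1 := by
  let T : Subgroup S :=
    { carrier := {y | y ∈ Astar A b ∧ y ^ p = 1}
      mul_mem' := by
        rintro x y ⟨hx1, hx2⟩ ⟨hy1, hy2⟩
        refine ⟨mul_mem hx1 hy1, ?_⟩
        have hc : Commute x y := h.Astar_comm hX hx1 hy1
        rw [hc.mul_pow, hx2, hy2, one_mul]
      one_mem' := ⟨one_mem _, one_pow _⟩
      inv_mem' := by
        rintro x ⟨hx1, hx2⟩
        exact ⟨inv_mem hx1, by rw [inv_pow, hx2, inv_one]⟩ }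
  have hle : Astar A b ≤ T := by
    refine sup_le ?_ ?_
    · intro d hd
      exact ⟨DD_le_Astar hd, hAp d (mem_DD.mp hd).1⟩
    · intro x hx
      exact ⟨XX_le_Astar hx, hBp x (h.XX_le_B hx)⟩
  exact (hle hy).2

end GSetup

end Cfsg.Agent.helper4.Glaub

namespace Cfsg.Agent.helper4.WS

open Cfsg Cfsg.Agent.helper4.Glaub Cfsg.Agent.helper4.ZJ

universe u

section T
variable {S : Type u} [Group S] [Finite S] {p : ℕ} [Fact p.Prime]

/-- Thompson replacement, quadratic form: if some elementary abelian subgroup of largest order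
does not centralize the normal elementary abelian subgroup `B`, then one of them does not
centralize `B` and is normalized by `B` (so acts quadratically on `B`). -/
theorem thompson_quadratic (hS : IsPGroup p S) (B : Subgroup S) [B.Normal]
    (hB : IsElementaryAbelian p B) (A : Subgroup S) (hA : A ∈ maxElementaryAbelianSubgroups p S)
    (hAB : ¬ A ≤ Subgroup.centralizer (B : Set S)) :
    ∃ A' ∈ maxElementaryAbelianSubgroups p S, ¬ A' ≤ Subgroup.centralizer (B : Set S) ∧
      B ≤ Subgroup.normalizer (A' : Set S) := by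
  let TT := {A' : Subgroup S // A' ∈ maxElementaryAbelianSubgroups p S ∧
    ¬ A' ≤ Subgroup.centralizer (B : Set S)}
  haveI : Nonempty TT := ⟨⟨A, hA, hAB⟩⟩
  haveI : Finite TT := Subtype.finite
  obtain ⟨⟨A', hA', hA'B⟩, hmax⟩ := Finite.exists_max (fun A' : TT => Nat.card ↥(A'.1 ⊓ B))
  refine ⟨A', hA', hA'B, ?_⟩
  by_contra hnot
  have hBc : ∀ x ∈ B, ∀ y ∈ B, x * y = y * x := fun x hx y hy =>
    congrArg Subtype.val (hB.1.is_comm.comm (⟨x, hx⟩ : B) ⟨y, hy⟩)
  have hBB : ⁅B, B⁆ ≤ A' := by
    have : ⁅B, B⁆ = ⊥ := by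
      rw [Subgroup.commutator_eq_bot_iff_le_centralizer]
      intro x hx
      rw [Subgroup.mem_centralizer_iff]
      intro y hy
      exact hBc y hy x hx
    rw [this]; exact bot_le
  obtain ⟨b, hb, hbN, hbA⟩ :=
    Cfsg.Agent.S0649.result hS B (fun _ => hB.1) A' hA'.1.1 hBB hnot
  have hcomm : ∀ x ∈ A', ∀ y ∈ A', x * y = y * x := fun x hx y hy =>
    congrArg Subtype.val (hA'.1.1.is_comm.comm (⟨x, hx⟩ : A') ⟨y, hy⟩)
  have h : GSetup B A' b := ⟨inferInstance, hcomm, hBB, hb, hbN⟩
  have hX : ∀ x ∈ XX A' b, ∀ y ∈ XX A' b, x * y = y * x := fun x hx y hy =>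
    h.XX_comm_of_B hB.1 hx hy
  have c1 := h.card_Astar hX
  have c4 := h.lt1 hbA
  have c7 := h.Astar_le_N
  have hAsEA : IsElementaryAbelian p (Astar A' b) :=
    ⟨⟨⟨fun x y => Subtype.ext (h.Astar_comm hX x.2 y.2)⟩⟩,
      fun y hy => h.Astar_pow_of_EA p hX hA'.1.2 hB.2 hy⟩
  have hAsmem : Astar A' b ∈ maxElementaryAbelianSubgroups p S :=
    ⟨hAsEA, fun B' hB' => by rw [c1]; exact hA'.2 B' hB'⟩
  -- by maximality `A*` centralizes `B`
  have hcent : Astar A' b ≤ Subgroup.centralizer (B : Set S) := by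
    by_contra hn
    have := hmax ⟨Astar A' b, hAsmem, hn⟩
    exact absurd this (not_le.mpr (card_lt_of_lt c4))
  -- so `B ≤ A*`
  have hBAs : B ≤ Astar A' b := by
    have hsupEA : IsElementaryAbelian p (Astar A' b ⊔ B) := by
      have hc1 : ∀ x ∈ Astar A' b ⊔ B, ∀ y ∈ Astar A' b ⊔ B, x * y = y * x := by
        have h1 : Astar A' b ⊔ B ≤ Subgroup.centralizer (B : Set S) := by
          refine sup_le hcent ?_
          intro x hx
          rw [Subgroup.mem_centralizer_iff]
          intro y hy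
          exact hBc y hy x hx
        have h2 : Astar A' b ⊔ B ≤ Subgroup.centralizer (Astar A' b : Set S) := by
          refine sup_le ?_ ?_
          · intro x hx
            rw [Subgroup.mem_centralizer_iff]
            intro y hy
            exact h.Astar_comm hX hy hx
          · intro x hx
            rw [Subgroup.mem_centralizer_iff]
            intro y hy
            exact (Subgroup.mem_centralizer_iff.mp (hcent hy) x hx).symm
        intro x hx y hy
        have h3 : Astar A' b ⊔ B ≤ Subgroup.centralizer ({y} : Set S) := by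
          refine sup_le ?_ ?_
          · intro z hz
            rw [Subgroup.mem_centralizer_iff]
            intro y' hy'
            rw [Set.mem_singleton_iff] at hy'
            rw [hy']
            exact (Subgroup.mem_centralizer_iff.mp (h2 hy) z hz).symm
          · intro z hz
            rw [Subgroup.mem_centralizer_iff]
            intro y' hy'
            rw [Set.mem_singleton_iff] at hy'
            rw [hy']
            exact (Subgroup.mem_centralizer_iff.mp (h1 hy) z hz).symm
        exact (Subgroup.mem_centralizer_iff.mp (h3 hx) y rfl).symm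
      refine ⟨⟨⟨fun x y => Subtype.ext (hc1 x x.2 y y.2)⟩⟩, ?_⟩
      let T : Subgroup S :=
        { carrier := {y | y ∈ Astar A' b ⊔ B ∧ y ^ p = 1}
          mul_mem' := by
            rintro x y ⟨hx1, hx2⟩ ⟨hy1, hy2⟩
            refine ⟨mul_mem hx1 hy1, ?_⟩
            have hc : Commute x y := hc1 x hx1 y hy1
            rw [hc.mul_pow, hx2, hy2, one_mul]
          one_mem' := ⟨one_mem _, one_pow _⟩
          inv_mem' := by
            rintro x ⟨hx1, hx2⟩
            exact ⟨inv_mem hx1, by rw [inv_pow, hx2, inv_one]⟩ }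
      have hle : Astar A' b ⊔ B ≤ T := by
        refine sup_le ?_ ?_
        · intro x hx
          exact ⟨Subgroup.mem_sup_left hx, hAsEA.2 x hx⟩
        · intro x hx
          exact ⟨Subgroup.mem_sup_right hx, hB.2 x hx⟩
      intro y hy
      exact (hle hy).2
    have hcard := hAsmem.2 _ hsupEA
    have heq : Astar A' b = Astar A' b ⊔ B :=
      Subgroup.eq_of_le_of_card_ge le_sup_left hcard
    rw [heq]; exact le_sup_right
  exact hnot (hBAs.trans c7)

end T


section amb
variable {G : Type u} [Group G] [Finite G] {p : ℕ} [Fact p.Prime]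

theorem thompson_quadratic_ambient (P V : Subgroup G) (hP : IsPGroup p P) (hVP : V ≤ P)
    (hPV : P ≤ Subgroup.normalizer (V : Set G)) (hV : IsElementaryAbelian p V)
    (A : Subgroup G) (hA : A ∈ fam (fun A : Subgroup G => IsElementaryAbelian p A) P)
    (hAV : ¬ A ≤ Subgroup.centralizer (V : Set G)) :
    ∃ A' ∈ fam (fun A : Subgroup G => IsElementaryAbelian p A) P,
      ¬ A' ≤ Subgroup.centralizer (V : Set G) ∧ V ≤ Subgroup.normalizer (A' : Set G) := by
  rw [fam_EA_eq] at hA ⊢
  obtain ⟨A₀, hA₀, rfl⟩ := hA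
  haveI hBn : (V.subgroupOf P).Normal :=
    (Subgroup.normal_subgroupOf_iff_le_normalizer hVP).mpr hPV
  have hinj : Function.Injective P.subtype := Subgroup.subtype_injective P
  have hB : IsElementaryAbelian p (V.subgroupOf P) := isEA_subgroupOf P hV
  have hA₀B : ¬ A₀ ≤ Subgroup.centralizer ((V.subgroupOf P : Subgroup ↥P) : Set ↥P) := by
    intro hle
    apply hAV
    intro a ha
    obtain ⟨a₀, ha₀, rfl⟩ := Subgroup.mem_map.mp ha
    rw [Subgroup.mem_centralizer_iff]
    intro v hv
    have := Subgroup.mem_centralizer_iff.mp (hle ha₀) ⟨v, hVP hv⟩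
      (Subgroup.mem_subgroupOf.mpr hv)
    exact congrArg Subtype.val this
  obtain ⟨A₁, hA₁, hA₁B, hBA₁⟩ := thompson_quadratic hP (V.subgroupOf P) hB A₀ hA₀ hA₀B
  refine ⟨A₁.map P.subtype, ⟨A₁, hA₁, rfl⟩, ?_, ?_⟩
  · intro hle
    apply hA₁B
    intro a₀ ha₀
    rw [Subgroup.mem_centralizer_iff]
    intro v hv
    have := Subgroup.mem_centralizer_iff.mp (hle (Subgroup.mem_map_of_mem _ ha₀)) (v : G)
      (Subgroup.mem_subgroupOf.mp hv)
    apply hinj
    rw [map_mul, map_mul]
    exact this
  · apply le_normalizer_of_conj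
    intro t ht k hk
    obtain ⟨k₀, hk₀, rfl⟩ := Subgroup.mem_map.mp hk
    have ht₀ : (⟨t, hVP ht⟩ : ↥P) ∈ V.subgroupOf P := Subgroup.mem_subgroupOf.mpr ht
    have := (Subgroup.mem_normalizer_iff.mp (hBA₁ ht₀) k₀).mp hk₀
    exact Subgroup.mem_map.mpr ⟨_, this, by simp⟩

end amb


section stepA
variable {G : Type u} [Group G] [Finite G] {p : ℕ} [Fact p.Prime]

theorem sylow_le_normalizer_thompson (S : Sylow p G) :
    (S : Subgroup G) ≤ Subgroup.normalizer (thompsonSubgroupOf p (S : Subgroup G) : Set G) := by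
  apply le_normalizer_of_conj
  intro t ht k hk
  obtain ⟨k₀, hk₀, rfl⟩ := Subgroup.mem_map.mp hk
  haveI : (thompsonSubgroup p ↥(S : Subgroup G)).Characteristic :=
    Subgroup.characteristic_iff_map_eq.mpr
      (fun φ => Cfsg.Agent.helper4.StableW.thompson_map_equiv p φ)
  have hn : (thompsonSubgroup p ↥(S : Subgroup G)).Normal := Subgroup.normal_of_characteristic _
  have := hn.conj_mem k₀ hk₀ ⟨t, ht⟩
  exact Subgroup.mem_map.mpr ⟨_, this, by simp⟩

/-- the inclusion of a Sylow subgroup into `N_G(J(S))` is a stable embedding. -/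
theorem isStableEmbedding_inclusion (hst : IsActionPStable p G)
    (hc : Subgroup.centralizer (pCore p G : Set G) ≤ pCore p G) (S : Sylow p G) :
    IsStableEmbedding p (Subgroup.inclusion (sylow_le_normalizer_thompson S)) := by
  obtain ⟨N, hN⟩ : ∃ N : Subgroup G,
    N = Subgroup.normalizer (thompsonSubgroupOf p (S : Subgroup G) : Set G) := ⟨_, rfl⟩
  have hPN := sylow_le_normalizer_thompson S
  refine ⟨Subgroup.inclusion_injective _, inferInstance, ⟨S.subtype hPN, ?_⟩, ?_, ?_, ?_⟩
  · rw [Sylow.coe_subtype, Subgroup.inclusion_range]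
  · -- centralizer of the p-core
    haveI hQn : (pCore p G).Normal := helper1.pCore_normal p
    have hQN : (pCore p G).subgroupOf
        (Subgroup.normalizer (thompsonSubgroupOf p (S : Subgroup G) : Set G)) ≤
        pCore p ↥(Subgroup.normalizer (thompsonSubgroupOf p (S : Subgroup G) : Set G)) := by
      apply helper1.le_pCore Subgroup.normal_subgroupOf
      exact (helper1.pCore_isPGroup p).comap_of_injective _ (Subgroup.subtype_injective _)
    intro x hx
    apply hQN
    rw [Subgroup.mem_subgroupOf]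
    apply hc
    rw [Subgroup.mem_centralizer_iff]
    intro q hq
    have hqN : q ∈ Subgroup.normalizer (thompsonSubgroupOf p (S : Subgroup G) : Set G) :=
      hPN (helper1.pCore_le_sylow S hq)
    have := Subgroup.mem_centralizer_iff.mp hx ⟨q, hqN⟩ (hQN (Subgroup.mem_subgroupOf.mpr hq))
    exact congrArg Subtype.val this
  · -- the image of `J(S)` is normal
    have heq : (thompsonSubgroup p ↥(S : Subgroup G)).map (Subgroup.inclusion hPN)
        = (thompsonSubgroupOf p (S : Subgroup G)).subgroupOf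
          (Subgroup.normalizer (thompsonSubgroupOf p (S : Subgroup G) : Set G)) := by
      ext y
      rw [Subgroup.mem_subgroupOf]
      constructor
      · intro hy
        obtain ⟨k₀, hk₀, rfl⟩ := Subgroup.mem_map.mp hy
        exact Subgroup.mem_map.mpr ⟨k₀, hk₀, rfl⟩
      · intro hy
        obtain ⟨k₀, hk₀, hk⟩ := Subgroup.mem_map.mp hy
        exact Subgroup.mem_map.mpr ⟨k₀, hk₀, Subtype.ext hk⟩
    rw [heq]
    exact Subgroup.normal_in_normalizer
  · intro V hVn hV
    apply hst.2.2 S V
    have := Subgroup.map_mono (f := (Subgroup.normalizer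
      (thompsonSubgroupOf p (S : Subgroup G) : Set G)).subtype) hV
    rwa [Subgroup.map_map, Subgroup.subtype_comp_inclusion] at this

/-- `N_G(J(S))` normalizes `W(S)`. -/
theorem normalizer_thompson_le (hst : IsActionPStable p G)
    (hc : Subgroup.centralizer (pCore p G : Set G) ≤ pCore p G) (S : Sylow p G) :
    Subgroup.normalizer (thompsonSubgroupOf p (S : Subgroup G) : Set G) ≤
      Subgroup.normalizer
        (((stableNormalClosure p ↥(S : Subgroup G)).map (S : Subgroup G).subtype : Subgroup G) :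
          Set G) := by
  have hτ := isStableEmbedding_inclusion hst hc S
  have hWn := (Cfsg.Agent.helper4.StableW.stableNormalClosure_mem_fam S.isPGroup').2 _ _ hτ
  apply le_normalizer_of_conj
  intro t ht k hk
  obtain ⟨w₀, hw₀, rfl⟩ := Subgroup.mem_map.mp hk
  have := hWn.conj_mem _ (Subgroup.mem_map_of_mem _ hw₀) ⟨t, ht⟩
  obtain ⟨w₁, hw₁, hw₁e⟩ := Subgroup.mem_map.mp this
  refine Subgroup.mem_map.mpr ⟨w₁, hw₁, ?_⟩
  have := congrArg Subtype.val hw₁e
  simpa using this

end stepA


section stepB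
variable {G : Type u} [Group G] [Finite G] {p : ℕ} [Fact p.Prime]

/-- `W(S)` (in `G`) is elementary abelian. -/
theorem isEA_W (S : Sylow p G) :
    IsElementaryAbelian p
      ((stableNormalClosure p ↥(S : Subgroup G)).map (S : Subgroup G).subtype) := by
  obtain ⟨A₁, hA₁⟩ := maxEA_nonempty (T := ↥(S : Subgroup G)) p
  have hle : stableNormalClosure p ↥(S : Subgroup G) ≤ A₁ := by
    refine (Cfsg.Agent.helper4.StableW.stableNormalClosure_le_omegaCenterThompson
      S.isPGroup').trans ?_
    rw [omegaCenterThompson_eq_sInf]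
    exact sInf_le hA₁
  have h1 : IsElementaryAbelian p (A₁.map (S : Subgroup G).subtype) := isEA_map_subtype _ hA₁.1
  have hle' : (stableNormalClosure p ↥(S : Subgroup G)).map (S : Subgroup G).subtype
      ≤ A₁.map (S : Subgroup G).subtype := Subgroup.map_mono hle
  refine ⟨⟨⟨fun x y => ?_⟩⟩, fun a ha => h1.2 a (hle' ha)⟩
  apply Subtype.ext
  have := congrArg Subtype.val
    (h1.1.is_comm.comm (⟨x, hle' x.2⟩ : A₁.map (S : Subgroup G).subtype) ⟨y, hle' y.2⟩)
  simpa using this

omit [Finite G] in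
theorem mem_sectionKernel {K N : Subgroup G} [N.Normal] {g : G} (hg : g ∈ sectionKernel K N)
    {k : G} (hk : k ∈ K) : ⁅k, g⁆ ∈ N := by
  rw [sectionKernel, Subgroup.mem_comap, Subgroup.mem_centralizer_iff] at hg
  have h1 := hg (QuotientGroup.mk' N k⁻¹) (Subgroup.mem_map_of_mem _ (inv_mem hk))
  rw [← map_mul, ← map_mul, QuotientGroup.mk'_apply, QuotientGroup.mk'_apply,
    QuotientGroup.eq] at h1
  have e : ⁅k, g⁆ = g * ((k⁻¹ * g)⁻¹ * (g * k⁻¹)) * g⁻¹ := by
    rw [commutatorElement_def]; group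
  rw [e]
  exact Subgroup.Normal.conj_mem inferInstance _ h1 g

/-- with `C_G(O_p(G)) ≤ O_p(G)`, the kernel of the action on `O_p(G)/Φ(O_p(G))` is a `p`-group. -/
theorem isPGroup_sectionKernel
    (hc : Subgroup.centralizer (pCore p G : Set G) ≤ pCore p G)
    [hΦ : ((frattini ↥(pCore p G)).map (pCore p G).subtype).Normal] :
    IsPGroup p (sectionKernel (pCore p G)
      ((frattini ↥(pCore p G)).map (pCore p G).subtype)) := by
  have hp : p.Prime := Fact.out
  haveI hQn : (pCore p G).Normal := helper1.pCore_normal p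
  have hQp : IsPGroup p (pCore p G) := helper1.pCore_isPGroup p
  have hcop : ∀ x ∈ sectionKernel (pCore p G)
      ((frattini ↥(pCore p G)).map (pCore p G).subtype), (orderOf x).Coprime p → x = 1 := by
    intro x hx hxc
    have h1 : Subgroup.zpowers x ≤ Subgroup.centralizer (pCore p G : Set G) := by
      apply Cfsg.Agent.helper7.centralizes_of_commutator_le_frattini (pCore p G)
        (Subgroup.zpowers x) hQp
      · rw [Nat.card_zpowers]; exact hxc
      · rw [Subgroup.normalizer_eq_top]; exact le_top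
      · rw [Subgroup.commutator_le]
        intro q hq y hy
        have hy' : y ∈ sectionKernel (pCore p G)
            ((frattini ↥(pCore p G)).map (pCore p G).subtype) := by
          have : Subgroup.zpowers x ≤ sectionKernel (pCore p G)
              ((frattini ↥(pCore p G)).map (pCore p G).subtype) := by
            rw [Subgroup.zpowers_le]; exact hx
          exact this hy
        exact mem_sectionKernel hy' hq
    have hxQ : x ∈ pCore p G := hc (h1 (Subgroup.mem_zpowers x))
    obtain ⟨k, hk⟩ := hQp ⟨x, hxQ⟩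
    have hk' : x ^ (p ^ k) = 1 := by
      have := congrArg Subtype.val hk
      simpa using this
    have h2 : orderOf x ∣ p ^ k := orderOf_dvd_of_pow_eq_one hk'
    have h3 : orderOf x = 1 := (Nat.Coprime.pow_right k hxc).eq_one_of_dvd h2
    exact orderOf_eq_one_iff.mp h3
  intro g
  have hn0 : orderOf (g : G) ≠ 0 := (orderOf_pos (g : G)).ne'
  obtain ⟨e, m, hm, hnm⟩ := Nat.exists_eq_pow_mul_and_not_dvd hn0 p hp.ne_one
  refine ⟨e, ?_⟩
  have hpe : p ^ e ≠ 0 := pow_ne_zero _ hp.ne_zero
  have hord : orderOf ((g : G) ^ (p ^ e)) = m := by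
    rw [orderOf_pow_of_dvd hpe ⟨m, hnm⟩, hnm, Nat.mul_div_cancel_left _ (Nat.pos_of_ne_zero hpe)]
  have h1 := hcop ((g : G) ^ (p ^ e)) (pow_mem g.2 _) (by
    rw [hord]
    exact ((Nat.Prime.coprime_iff_not_dvd hp).mpr hm).symm)
  apply Subtype.ext
  rw [Subgroup.coe_pow, Subgroup.coe_one]
  exact h1

end stepB


section stepBC
variable {G : Type u} [Group G] [Finite G] {p : ℕ} [Fact p.Prime]

theorem sylow_le_normalizer_W (hst : IsActionPStable p G)
    (hc : Subgroup.centralizer (pCore p G : Set G) ≤ pCore p G) (S : Sylow p G) :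
    (S : Subgroup G) ≤ Subgroup.normalizer
      (((stableNormalClosure p ↥(S : Subgroup G)).map (S : Subgroup G).subtype : Subgroup G) :
        Set G) :=
  (sylow_le_normalizer_thompson S).trans (normalizer_thompson_le hst hc S)

/-- `W(S) ≤ O_p(G)`. -/
theorem W_le_pCore (hst : IsActionPStable p G)
    (hc : Subgroup.centralizer (pCore p G : Set G) ≤ pCore p G) (S : Sylow p G) :
    (stableNormalClosure p ↥(S : Subgroup G)).map (S : Subgroup G).subtype ≤ pCore p G := by
  intro a ha
  have hQW := (helper1.pCore_le_sylow S).trans (sylow_le_normalizer_W hst hc S)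
  have hquad := quad_of_normalizes (isEA_W S).1 hQW ha
  obtain ⟨D, hDn, hker, ⟨k, hk⟩, haD⟩ := hst.2.1 a (by rw [hquad]; exact bot_le)
  have hkerp := isPGroup_sectionKernel (G := G) (p := p) hc
  obtain ⟨m, hm⟩ := hkerp.exists_card_eq
  have hcard : Nat.card D = p ^ (m + k) := by
    rw [pow_add, ← hm, ← hk, ← Subgroup.relIndex_bot_left, ← Subgroup.relIndex_bot_left,
      Subgroup.relIndex_mul_relIndex _ _ _ bot_le hker]
  exact helper1.le_pCore hDn (IsPGroup.of_card hcard) haD

/-- conjugates of `W(S)` commute elementwise with `W(S)`. -/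
theorem conj_W_comm (hst : IsActionPStable p G)
    (hc : Subgroup.centralizer (pCore p G : Set G) ≤ pCore p G) (S : Sylow p G) (g : G)
    {w w' : G}
    (hw : w ∈ (stableNormalClosure p ↥(S : Subgroup G)).map (S : Subgroup G).subtype)
    (hw' : w' ∈ (stableNormalClosure p ↥(S : Subgroup G)).map (S : Subgroup G).subtype) :
    (g * w' * g⁻¹) * w = w * (g * w' * g⁻¹) := by
  obtain ⟨W, hW⟩ : ∃ W : Subgroup G,
    W = (stableNormalClosure p ↥(S : Subgroup G)).map (S : Subgroup G).subtype := ⟨_, rfl⟩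
  rw [← hW] at hw hw'
  haveI hQn : (pCore p G).Normal := helper1.pCore_normal p
  have hWQ : W ≤ pCore p G := by rw [hW]; exact W_le_pCore hst hc S
  have hQS : pCore p G ≤ (S : Subgroup G) := helper1.pCore_le_sylow S
  have hSW : (S : Subgroup G) ≤ Subgroup.normalizer (W : Set G) := by
    rw [hW]; exact sylow_le_normalizer_W hst hc S
  have hEA : IsElementaryAbelian p W := by rw [hW]; exact isEA_W S
  have hWc : ∀ x ∈ W, ∀ y ∈ W, x * y = y * x := fun x hx y hy =>
    congrArg Subtype.val (hEA.1.is_comm.comm (⟨x, hx⟩ : W) ⟨y, hy⟩)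
  obtain ⟨u, hu⟩ : ∃ u, u = g * w' * g⁻¹ := ⟨_, rfl⟩
  rw [← hu]
  have huQ : u ∈ pCore p G := by rw [hu]; exact hQn.conj_mem _ (hWQ hw') g
  have huS : u ∈ (S : Subgroup G) := hQS huQ
  -- the conjugate `Wg`
  let Wg : Subgroup G := W.map (MulAut.conj g).toMonoidHom
  have huWg : u ∈ Wg := Subgroup.mem_map.mpr ⟨w', hw', by simp [hu]⟩
  have hWgc : ∀ x ∈ Wg, ∀ y ∈ Wg, x * y = y * x := by
    intro x hx y hy
    obtain ⟨x', hx', rfl⟩ := Subgroup.mem_map.mp hx
    obtain ⟨y', hy', rfl⟩ := Subgroup.mem_map.mp hy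
    rw [← map_mul, ← map_mul, hWc x' hx' y' hy']
  have hQWg : ∀ q ∈ pCore p G, ∀ x ∈ Wg, q * x * q⁻¹ ∈ Wg := by
    intro q hq x hx
    obtain ⟨x', hx', rfl⟩ := Subgroup.mem_map.mp hx
    have hq' : g⁻¹ * q * g ∈ pCore p G := by
      have := hQn.conj_mem q hq g⁻¹
      rwa [inv_inv] at this
    have h1 := (Subgroup.mem_normalizer_iff.mp (hSW (hQS hq')) x').mp hx'
    refine Subgroup.mem_map.mpr ⟨_, h1, ?_⟩
    simp only [MulEquiv.toMonoidHom_eq_coe, MonoidHom.coe_coe, MulAut.conj_apply]
    group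
  -- quadratic action of `u` on `W`
  have hquad : ⁅⁅W, Subgroup.zpowers u⁆, Subgroup.zpowers u⁆ = ⊥ := by
    have hzu : Subgroup.zpowers u ≤ Wg := by rw [Subgroup.zpowers_le]; exact huWg
    have h1 : ⁅W, Subgroup.zpowers u⁆ ≤ Wg := by
      rw [Subgroup.commutator_le]
      intro x hx y hy
      rw [commutatorElement_def]
      exact mul_mem (hQWg x (hWQ hx) y (hzu hy)) (inv_mem (hzu hy))
    rw [eq_bot_iff]
    have h2 : ⁅Wg, Wg⁆ = ⊥ := by
      rw [Subgroup.commutator_eq_bot_iff_le_centralizer]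
      intro x hx
      rw [Subgroup.mem_centralizer_iff]
      intro y hy
      exact hWgc y hy x hx
    rw [← h2]
    exact Subgroup.commutator_mono h1 hzu
  -- pull back to `S` and use S0623
  have hinj : Function.Injective (S : Subgroup G).subtype := Subgroup.subtype_injective _
  have hmapz : (Subgroup.zpowers (⟨u, huS⟩ : ↥(S : Subgroup G))).map (S : Subgroup G).subtype
      = Subgroup.zpowers u := by
    rw [MonoidHom.map_zpowers]; rfl
  have hq₀ : ⁅⁅stableNormalClosure p ↥(S : Subgroup G),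
      Subgroup.zpowers (⟨u, huS⟩ : ↥(S : Subgroup G))⁆,
      Subgroup.zpowers (⟨u, huS⟩ : ↥(S : Subgroup G))⁆ = ⊥ := by
    apply (Subgroup.map_eq_bot_iff_of_injective _ hinj).mp
    rw [Subgroup.map_commutator, Subgroup.map_commutator, hmapz, ← hW]
    exact hquad
  have h₀ := Cfsg.Agent.S0623.result S.isPGroup' ⟨u, huS⟩ hq₀
  have h1 : ⁅W, Subgroup.zpowers u⁆ = ⊥ := by
    rw [hW, ← hmapz, ← Subgroup.map_commutator, h₀, Subgroup.map_bot]
  rw [Subgroup.commutator_eq_bot_iff_le_centralizer] at h1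
  have := Subgroup.mem_centralizer_iff.mp (h1 hw) u (Subgroup.mem_zpowers u)
  exact this

end stepBC


section stepCD
variable {G : Type u} [Group G]

theorem closure_comm_pow (p : ℕ) (T : Set G) (hc : ∀ x ∈ T, ∀ y ∈ T, x * y = y * x)
    (hp : ∀ x ∈ T, x ^ p = 1) :
    (∀ u ∈ Subgroup.closure T, ∀ v ∈ Subgroup.closure T, u * v = v * u) ∧
      ∀ u ∈ Subgroup.closure T, u ^ p = 1 := by
  have h1 : Subgroup.closure T ≤ Subgroup.centralizer T := by
    rw [Subgroup.closure_le]
    intro x hx
    rw [SetLike.mem_coe, Subgroup.mem_centralizer_iff]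
    intro y hy
    exact hc y hy x hx
  have hcomm : ∀ u ∈ Subgroup.closure T, ∀ v ∈ Subgroup.closure T, u * v = v * u := by
    intro u hu v hv
    have h2 : Subgroup.closure T ≤ Subgroup.centralizer ({v} : Set G) := by
      rw [Subgroup.closure_le]
      intro x hx
      rw [SetLike.mem_coe, Subgroup.mem_centralizer_iff]
      intro y hy
      rw [Set.mem_singleton_iff] at hy
      rw [hy]
      exact (Subgroup.mem_centralizer_iff.mp (h1 hv) x hx).symm
    exact (Subgroup.mem_centralizer_iff.mp (h2 hu) v rfl).symm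
  refine ⟨hcomm, ?_⟩
  let T' : Subgroup G :=
    { carrier := {y | y ∈ Subgroup.closure T ∧ y ^ p = 1}
      mul_mem' := by
        rintro x y ⟨hx1, hx2⟩ ⟨hy1, hy2⟩
        refine ⟨mul_mem hx1 hy1, ?_⟩
        have hcm : Commute x y := hcomm x hx1 y hy1
        rw [hcm.mul_pow, hx2, hy2, one_mul]
      one_mem' := ⟨one_mem _, one_pow _⟩
      inv_mem' := by
        rintro x ⟨hx1, hx2⟩
        exact ⟨inv_mem hx1, by rw [inv_pow, hx2, inv_one]⟩ }
  have hle : Subgroup.closure T ≤ T' := by
    rw [Subgroup.closure_le]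
    intro x hx
    exact ⟨Subgroup.subset_closure hx, hp x hx⟩
  intro u hu
  exact (hle hu).2

theorem thompsonSubgroupOf_eq_sSup (p : ℕ) (P : Subgroup G) :
    thompsonSubgroupOf p P = sSup (fam (fun A : Subgroup G => IsElementaryAbelian p A) P) := by
  rw [fam_EA_eq, thompsonSubgroupOf, thompsonSubgroup, sSup_image,
    (Subgroup.gc_map_comap P.subtype).l_sSup]

variable [Finite G] {p : ℕ} [Fact p.Prime]

/-- the normal closure of `W(S)` is elementary abelian. -/
theorem isEA_normalClosure_W (hst : IsActionPStable p G)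
    (hc : Subgroup.centralizer (pCore p G : Set G) ≤ pCore p G) (S : Sylow p G) :
    IsElementaryAbelian p (Subgroup.normalClosure
      (((stableNormalClosure p ↥(S : Subgroup G)).map (S : Subgroup G).subtype : Subgroup G) :
        Set G)) := by
  have hEA := isEA_W S
  have key := closure_comm_pow p (Group.conjugatesOfSet
    (((stableNormalClosure p ↥(S : Subgroup G)).map (S : Subgroup G).subtype : Subgroup G) :
        Set G)) ?_ ?_
  · exact ⟨⟨⟨fun x y => Subtype.ext (key.1 x x.2 y y.2)⟩⟩, key.2⟩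
  · intro x hx y hy
    obtain ⟨w, hw, hwx⟩ := Group.mem_conjugatesOfSet_iff.mp hx
    obtain ⟨w', hw', hwy⟩ := Group.mem_conjugatesOfSet_iff.mp hy
    obtain ⟨c, rfl⟩ := isConj_iff.mp hwx
    obtain ⟨d, rfl⟩ := isConj_iff.mp hwy
    have h1 := conj_W_comm hst hc S (d⁻¹ * c) hw' hw
    have e1 : c * w * c⁻¹ * (d * w' * d⁻¹)
        = d * ((d⁻¹ * c) * w * (d⁻¹ * c)⁻¹ * w') * d⁻¹ := by group
    have e2 : d * w' * d⁻¹ * (c * w * c⁻¹)
        = d * (w' * ((d⁻¹ * c) * w * (d⁻¹ * c)⁻¹)) * d⁻¹ := by group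
    rw [e1, e2, h1]
  · intro x hx
    obtain ⟨w, hw, hwx⟩ := Group.mem_conjugatesOfSet_iff.mp hx
    obtain ⟨c, rfl⟩ := isConj_iff.mp hwx
    have : (c * w * c⁻¹) ^ p = c * w ^ p * c⁻¹ := by
      have := map_pow (MulAut.conj c) w p
      simpa using this.symm
    rw [this, hEA.2 w hw]; group

end stepCD


section stepD
variable {G : Type u} [Group G]

theorem quad_conj (V : Subgroup G) [hV : V.Normal] (a g : G)
    (h : ⁅⁅V, Subgroup.zpowers a⁆, Subgroup.zpowers a⁆ = ⊥) :
    ⁅⁅V, Subgroup.zpowers (g⁻¹ * a * g)⁆, Subgroup.zpowers (g⁻¹ * a * g)⁆ = ⊥ := by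
  have hconj : (MulAut.conj g⁻¹).toMonoidHom a = g⁻¹ * a * g := by simp
  have hV' : V.map (MulAut.conj g⁻¹).toMonoidHom = V := by
    apply map_conj_eq_of_mem_normalizer
    rw [Subgroup.normalizer_eq_top]; exact Subgroup.mem_top _
  rw [← hconj, ← MonoidHom.map_zpowers]
  calc ⁅⁅V, (Subgroup.zpowers a).map (MulAut.conj g⁻¹).toMonoidHom⁆,
        (Subgroup.zpowers a).map (MulAut.conj g⁻¹).toMonoidHom⁆
      = ⁅⁅V.map (MulAut.conj g⁻¹).toMonoidHom,
        (Subgroup.zpowers a).map (MulAut.conj g⁻¹).toMonoidHom⁆,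
        (Subgroup.zpowers a).map (MulAut.conj g⁻¹).toMonoidHom⁆ := by rw [hV']
    _ = (⁅⁅V, Subgroup.zpowers a⁆, Subgroup.zpowers a⁆).map (MulAut.conj g⁻¹).toMonoidHom := by
      rw [Subgroup.map_commutator, Subgroup.map_commutator]
    _ = ⊥ := by rw [h, Subgroup.map_bot]

variable [Finite G] {p : ℕ} [Fact p.Prime]

/-- an element of `S` acting quadratically on `W(S)` centralizes it (S0623 in ambient form). -/
theorem centralizes_W_of_quad (S : Sylow p G) {s : G} (hs : s ∈ (S : Subgroup G))
    (hq : ⁅⁅(stableNormalClosure p ↥(S : Subgroup G)).map (S : Subgroup G).subtype,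
      Subgroup.zpowers s⁆, Subgroup.zpowers s⁆ = ⊥) {w : G}
    (hw : w ∈ (stableNormalClosure p ↥(S : Subgroup G)).map (S : Subgroup G).subtype) :
    s * w = w * s := by
  have hinj : Function.Injective (S : Subgroup G).subtype := Subgroup.subtype_injective _
  have hmapz : (Subgroup.zpowers (⟨s, hs⟩ : ↥(S : Subgroup G))).map (S : Subgroup G).subtype
      = Subgroup.zpowers s := by
    rw [MonoidHom.map_zpowers]; rfl
  have hq₀ : ⁅⁅stableNormalClosure p ↥(S : Subgroup G),
      Subgroup.zpowers (⟨s, hs⟩ : ↥(S : Subgroup G))⁆,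
      Subgroup.zpowers (⟨s, hs⟩ : ↥(S : Subgroup G))⁆ = ⊥ := by
    apply (Subgroup.map_eq_bot_iff_of_injective _ hinj).mp
    rw [Subgroup.map_commutator, Subgroup.map_commutator, hmapz]
    exact hq
  have h₀ := Cfsg.Agent.S0623.result S.isPGroup' ⟨s, hs⟩ hq₀
  have h1 : ⁅(stableNormalClosure p ↥(S : Subgroup G)).map (S : Subgroup G).subtype,
      Subgroup.zpowers s⁆ = ⊥ := by
    rw [← hmapz, ← Subgroup.map_commutator, h₀, Subgroup.map_bot]
  rw [Subgroup.commutator_eq_bot_iff_le_centralizer] at h1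
  exact Subgroup.mem_centralizer_iff.mp (h1 hw) s (Subgroup.mem_zpowers s)

/-- the analogue of the ZJ-theorem for `W(S)`. -/
theorem W_normal (hst : IsActionPStable p G)
    (hc : Subgroup.centralizer (pCore p G : Set G) ≤ pCore p G) (S : Sylow p G) :
    ((stableNormalClosure p ↥(S : Subgroup G)).map (S : Subgroup G).subtype).Normal := by
  have hEAV := isEA_normalClosure_W hst hc S
  have hNW := normalizer_thompson_le hst hc S
  have hSW := sylow_le_normalizer_W hst hc S
  have hWQ := W_le_pCore hst hc S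
  obtain ⟨W, hW⟩ : ∃ W : Subgroup G,
    W = (stableNormalClosure p ↥(S : Subgroup G)).map (S : Subgroup G).subtype := ⟨_, rfl⟩
  rw [← hW] at hEAV hNW hSW hWQ ⊢
  obtain ⟨V, hV⟩ : ∃ V : Subgroup G, V = Subgroup.normalClosure (W : Set G) := ⟨_, rfl⟩
  rw [← hV] at hEAV
  haveI hVn : V.Normal := by rw [hV]; exact Subgroup.normalClosure_normal
  haveI hQn : (pCore p G).Normal := helper1.pCore_normal p
  have hWV : W ≤ V := by rw [hV]; exact Subgroup.le_normalClosure
  have hVQ : V ≤ pCore p G := by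
    rw [hV]; exact Subgroup.normalClosure_le_normal hWQ
  have hVS : V ≤ (S : Subgroup G) := hVQ.trans (helper1.pCore_le_sylow S)
  have hSV : (S : Subgroup G) ≤ Subgroup.normalizer (V : Set G) := by
    rw [Subgroup.normalizer_eq_top]; exact le_top
  have hstab : IsPStableOn p V := hst.1 V hEAV
  haveI hCn : (Subgroup.centralizer (V : Set G)).Normal := inferInstance
  -- conjugation invariance suffices
  suffices hconj : ∀ g : G, ∀ w ∈ W, g * w * g⁻¹ ∈ W from ⟨fun w hw g => hconj g w hw⟩
  by_cases hall : ∀ A ∈ fam (fun A : Subgroup G => IsElementaryAbelian p A) (S : Subgroup G),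
      A ≤ Subgroup.centralizer (V : Set G)
  · -- case 1: `J(S)` centralizes `V`
    have hQp : IsPGroup p (((S : Subgroup G) ⊓ Subgroup.centralizer (V : Set G)).subgroupOf
        (Subgroup.centralizer (V : Set G))) :=
      (S.isPGroup'.to_le inf_le_left).comap_of_injective _ (Subgroup.subtype_injective _)
    have hfr := Sylow.normalizer_sup_eq_top
      (hQp.toSylow (not_dvd_relIndex_inf_normal S (Subgroup.centralizer (V : Set G))))
    have hQ0 : ((hQp.toSylow (not_dvd_relIndex_inf_normal S (Subgroup.centralizer (V : Set G))) :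
        Sylow p (Subgroup.centralizer (V : Set G))) :
          Subgroup (Subgroup.centralizer (V : Set G)))
        = ((S : Subgroup G) ⊓ Subgroup.centralizer (V : Set G)).subgroupOf
          (Subgroup.centralizer (V : Set G)) := rfl
    rw [hQ0, Subgroup.map_subgroupOf_eq_of_le inf_le_right] at hfr
    have hfamEq : fam (fun A : Subgroup G => IsElementaryAbelian p A)
        ((S : Subgroup G) ⊓ Subgroup.centralizer (V : Set G))
        = fam (fun A : Subgroup G => IsElementaryAbelian p A) (S : Subgroup G) := by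
      obtain ⟨A₁, hA₁⟩ := fam_nonempty (goodClass_EA (G := G) p) (S : Subgroup G)
      apply Set.Subset.antisymm
      · exact (fam_mono inf_le_left hA₁ (le_inf hA₁.1 (hall A₁ hA₁))).2
      · intro A hA
        exact (fam_mono inf_le_left hA (le_inf hA.1 (hall A hA))).1
    have hN0 : Subgroup.normalizer
        ((((S : Subgroup G) ⊓ Subgroup.centralizer (V : Set G) : Subgroup G)) : Set G) ≤
        Subgroup.normalizer (thompsonSubgroupOf p (S : Subgroup G) : Set G) := by
      apply le_normalizer_of_conj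
      intro t ht k hk
      rw [thompsonSubgroupOf_eq_sSup, ← hfamEq] at hk ⊢
      have hle : sSup (fam (fun A : Subgroup G => IsElementaryAbelian p A)
          ((S : Subgroup G) ⊓ Subgroup.centralizer (V : Set G))) ≤
          (sSup (fam (fun A : Subgroup G => IsElementaryAbelian p A)
          ((S : Subgroup G) ⊓ Subgroup.centralizer (V : Set G)))).comap
            (MulAut.conj t).toMonoidHom := by
        apply sSup_le
        intro A hA
        rw [← Subgroup.map_le_iff_le_comap]
        apply le_sSup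
        have := fam_map (goodClass_EA (G := G) p) (MulAut.conj t) hA
        rwa [map_conj_eq_of_mem_normalizer ht] at this
      have := hle hk
      rw [Subgroup.mem_comap] at this
      simpa using this
    intro g w hw
    have hg : g ∈ Subgroup.normalizer
        ((((S : Subgroup G) ⊓ Subgroup.centralizer (V : Set G) : Subgroup G)) : Set G) ⊔
        Subgroup.centralizer (V : Set G) := by
      rw [hfr]; exact Subgroup.mem_top g
    obtain ⟨n, hn, c, hc', rfl⟩ := Subgroup.mem_sup_of_normal_right.mp hg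
    have hcw : c * w * c⁻¹ = w := by
      have := Subgroup.mem_centralizer_iff.mp hc' w (hWV hw)
      rw [← this]; group
    have e : n * c * w * (n * c)⁻¹ = n * (c * w * c⁻¹) * n⁻¹ := by group
    rw [e, hcw]
    exact (Subgroup.mem_normalizer_iff.mp (hNW (hN0 hn)) w).mp hw
  · -- case 2: some `A` does not centralize `V`: impossible
    exfalso
    push Not at hall
    obtain ⟨A, hA, hAC⟩ := hall
    obtain ⟨A', hA', hA'C, hVA'⟩ :=
      thompson_quadratic_ambient (S : Subgroup G) V S.isPGroup' hVS hSV hEAV A hA hAC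
    apply hA'C
    intro a ha
    have hquad := quad_of_normalizes hA'.2.1.1 hVA' ha
    have hmk := hstab a hquad
    haveI hpn : (pCore p (G ⧸ Subgroup.centralizer (V : Set G))).Normal := helper1.pCore_normal p
    -- `a` commutes with every conjugate of `W`
    have hkey : ∀ g : G, ∀ w ∈ W, (g * w * g⁻¹) * a = a * (g * w * g⁻¹) := by
      intro g w hw
      have hmkb : ((g⁻¹ * a * g : G) : G ⧸ Subgroup.centralizer (V : Set G)) ∈
          pCore p (G ⧸ Subgroup.centralizer (V : Set G)) := by
        have := hpn.conj_mem _ hmk ((g : G ⧸ Subgroup.centralizer (V : Set G)))⁻¹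
        rw [inv_inv] at this
        rw [QuotientGroup.mk_mul, QuotientGroup.mk_mul, QuotientGroup.mk_inv]
        exact this
      obtain ⟨s, hs, hsc⟩ := helper3.exists_sylow_mul_of_mem_pCore _ hmkb S
      have hqb := quad_conj V a g hquad
      have hqs : ⁅⁅V, Subgroup.zpowers s⁆, Subgroup.zpowers s⁆ = ⊥ := by
        rw [← Cfsg.Agent.S0623.quad_congr V hVn (g⁻¹ * a * g) s hsc]; exact hqb
      have hqW : ⁅⁅W, Subgroup.zpowers s⁆, Subgroup.zpowers s⁆ = ⊥ := by
        rw [eq_bot_iff, ← hqs]
        exact Subgroup.commutator_mono (Subgroup.commutator_mono hWV le_rfl) le_rfl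
      rw [hW] at hqW hw
      have h1 := centralizes_W_of_quad S hs hqW hw
      rw [← hW] at hw
      have h2 : w * (s⁻¹ * (g⁻¹ * a * g)) = (s⁻¹ * (g⁻¹ * a * g)) * w :=
        Subgroup.mem_centralizer_iff.mp hsc w (hWV hw)
      have h3 : w * (g⁻¹ * a * g) = (g⁻¹ * a * g) * w := by
        calc w * (g⁻¹ * a * g) = w * s * (s⁻¹ * (g⁻¹ * a * g)) := by group
          _ = s * (w * (s⁻¹ * (g⁻¹ * a * g))) := by rw [← h1]; group
          _ = s * ((s⁻¹ * (g⁻¹ * a * g)) * w) := by rw [h2]
          _ = (g⁻¹ * a * g) * w := by group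
      calc g * w * g⁻¹ * a = g * (w * (g⁻¹ * a * g)) * g⁻¹ := by group
        _ = g * ((g⁻¹ * a * g) * w) * g⁻¹ := by rw [h3]
        _ = a * (g * w * g⁻¹) := by group
    have hVle : V ≤ Subgroup.centralizer ({a} : Set G) := by
      rw [hV, Subgroup.normalClosure, Subgroup.closure_le]
      intro x hx
      obtain ⟨w, hw, hwx⟩ := Group.mem_conjugatesOfSet_iff.mp hx
      obtain ⟨c, rfl⟩ := isConj_iff.mp hwx
      rw [SetLike.mem_coe, Subgroup.mem_centralizer_iff]
      intro y hy
      rw [Set.mem_singleton_iff] at hy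
      rw [hy]
      exact (hkey c w hw).symm
    rw [Subgroup.mem_centralizer_iff]
    intro v hv
    exact (Subgroup.mem_centralizer_iff.mp (hVle hv) a rfl).symm

end stepD

end Cfsg.Agent.helper4.WS
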