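import Mathlib
import Cfsg.Prelude.Def_ChevStructure

set_option autoImplicit false

/-!
A small verified calculator for the matrices `x_r(t)` of a Chevalley datum (helper5):
Laurent polynomials in two variables with integer coefficients, sparse vectors of such
polynomials indexed by the coordinate codes, and the action of `x_r(p)` on sparse vectors,
with soundness theorems relating them to `ChevalleyDatum.xMat`.
-/

namespace Cfsg.Agent.helper5.Chev

open Cfsg.Lie

/-- Laurent monomials `c x^a y^b`, stored as `(a, b, c)`. -/
abbrev Mono := ℤ × ℤ × ℤ
/-- Laurent polynomials: lists of monomials (kept sorted by the calculator). -/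
abbrev Poly := List Mono

/-- insert a monomial into a sorted polynomial -/
def pins (m : Mono) : Poly → Poly
  | [] => if m.2.2 = 0 then [] else [m]
  | n :: q =>
    if m.1 < n.1 ∨ (m.1 = n.1 ∧ m.2.1 < n.2.1) then (if m.2.2 = 0 then n :: q else m :: n :: q)
    else if m.1 = n.1 ∧ m.2.1 = n.2.1 then
      (if m.2.2 + n.2.2 = 0 then q else (m.1, m.2.1, m.2.2 + n.2.2) :: q)
    else n :: pins m q

def padd (p q : Poly) : Poly := p.foldr pins q

def pmulMono (m : Mono) (p : Poly) : Poly :=
  p.map fun n => (m.1 + n.1, m.2.1 + n.2.1, m.2.2 * n.2.2)

def pmul (p q : Poly) : Poly := p.foldr (fun m acc => padd (pmulMono m q) acc) []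

def pconst (c : ℤ) : Poly := if c = 0 then [] else [(0, 0, c)]
def pX : Poly := [(1, 0, 1)]
def pY : Poly := [(0, 1, 1)]
def pneg (p : Poly) : Poly := p.map fun n => (n.1, n.2.1, -n.2.2)
def ppow (p : Poly) : ℕ → Poly
  | 0 => pconst 1
  | k + 1 => pmul p (ppow p k)

section eval

variable {F : Type*} [Field F]

def mEval (x y : F) (m : Mono) : F := (m.2.2 : F) * x ^ m.1 * y ^ m.2.1

def pEval (x y : F) (p : Poly) : F := (p.map (mEval x y)).sum

@[simp] theorem pEval_nil (x y : F) : pEval x y [] = 0 := rfl

@[simp] theorem pEval_cons (x y : F) (m : Mono) (p : Poly) :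
    pEval x y (m :: p) = mEval x y m + pEval x y p := by
  simp [pEval]

theorem mEval_zero_coeff (x y : F) (m : Mono) (h : m.2.2 = 0) : mEval x y m = 0 := by
  simp [mEval, h]

theorem pEval_pins (x y : F) (m : Mono) (p : Poly) :
    pEval x y (pins m p) = mEval x y m + pEval x y p := by
  induction p with
  | nil =>
    unfold pins
    by_cases h : m.2.2 = 0
    · simp [h, mEval_zero_coeff x y m h]
    · simp [h]
  | cons n q ih =>
    unfold pins
    by_cases h1 : m.1 < n.1 ∨ (m.1 = n.1 ∧ m.2.1 < n.2.1)
    · rw [if_pos h1]
      by_cases h : m.2.2 = 0
      · simp [h, mEval_zero_coeff x y m h]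
      · simp [h]
    · rw [if_neg h1]
      by_cases h2 : m.1 = n.1 ∧ m.2.1 = n.2.1
      · rw [if_pos h2]
        have hsum : mEval x y m + mEval x y n = mEval x y (m.1, m.2.1, m.2.2 + n.2.2) := by
          simp only [mEval]
          rw [← h2.1, ← h2.2]
          push_cast
          ring
        by_cases h3 : m.2.2 + n.2.2 = 0
        · rw [if_pos h3]
          have : mEval x y m + mEval x y n = 0 := by
            rw [hsum]; exact mEval_zero_coeff x y _ h3
          rw [pEval_cons, ← add_assoc, this, zero_add]
        · rw [if_neg h3, pEval_cons, pEval_cons, ← add_assoc, hsum]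
      · rw [if_neg h2, pEval_cons, ih, pEval_cons]
        ring

theorem pEval_padd (x y : F) (p q : Poly) :
    pEval x y (padd p q) = pEval x y p + pEval x y q := by
  unfold padd
  induction p with
  | nil => simp
  | cons m p ih => rw [List.foldr_cons, pEval_pins, ih, pEval_cons, add_assoc]

theorem mEval_mul (x y : F) (hx : x ≠ 0) (hy : y ≠ 0) (m n : Mono) :
    mEval x y (m.1 + n.1, m.2.1 + n.2.1, m.2.2 * n.2.2) = mEval x y m * mEval x y n := by
  simp only [mEval]
  rw [zpow_add₀ hx, zpow_add₀ hy]
  push_cast
  ring

theorem pEval_pmulMono (x y : F) (hx : x ≠ 0) (hy : y ≠ 0) (m : Mono) (p : Poly) :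
    pEval x y (pmulMono m p) = mEval x y m * pEval x y p := by
  unfold pmulMono
  induction p with
  | nil => simp
  | cons n p ih =>
    rw [List.map_cons, pEval_cons, ih, pEval_cons, mEval_mul x y hx hy, mul_add]

theorem pEval_pmul (x y : F) (hx : x ≠ 0) (hy : y ≠ 0) (p q : Poly) :
    pEval x y (pmul p q) = pEval x y p * pEval x y q := by
  unfold pmul
  induction p with
  | nil => simp
  | cons m p ih =>
    rw [List.foldr_cons, pEval_padd, ih, pEval_pmulMono x y hx hy, pEval_cons, add_mul]

theorem pEval_pconst (x y : F) (c : ℤ) : pEval x y (pconst c) = (c : F) := by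
  unfold pconst
  by_cases h : c = 0
  · simp [h]
  · simp [h, mEval]

theorem pEval_pX (x y : F) : pEval x y pX = x := by
  simp [pX, mEval]

theorem pEval_pY (x y : F) : pEval x y pY = y := by
  simp [pY, mEval]

theorem pEval_pneg (x y : F) (p : Poly) : pEval x y (pneg p) = - pEval x y p := by
  unfold pneg
  induction p with
  | nil => simp
  | cons n p ih =>
    rw [List.map_cons, pEval_cons, ih, pEval_cons]
    simp only [mEval]
    push_cast
    ring

theorem pEval_ppow (x y : F) (hx : x ≠ 0) (hy : y ≠ 0) (p : Poly) (k : ℕ) :
    pEval x y (ppow p k) = pEval x y p ^ k := by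
  induction k with
  | zero => simp [ppow, pEval_pconst]
  | succ k ih => rw [ppow, pEval_pmul x y hx hy, ih, pow_succ']

end eval

/-! ### Sparse vectors -/

/-- sparse vectors: lists of (coordinate code, polynomial), kept sorted -/
abbrev SVec := List (ℕ × Poly)

def vins (a : ℕ × Poly) : SVec → SVec
  | [] => (match a.2 with | [] => [] | _ :: _ => [a])
  | b :: w =>
    if a.1 < b.1 then (match a.2 with | [] => b :: w | _ :: _ => a :: b :: w)
    else if a.1 = b.1 then
      (match padd a.2 b.2 with
       | [] => w
       | m :: s => (a.1, m :: s) :: w)
    else b :: vins a w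

def vadd (v w : SVec) : SVec := v.foldr vins w

def vscale (p : Poly) (v : SVec) : SVec :=
  v.foldr (fun a acc => vins (a.1, pmul p a.2) acc) []

def vsingle (i : ℕ) (p : Poly) : SVec := vins (i, p) []

/-- the code of a coordinate -/
def code (D : ChevalleyDatum) : D.Idx → ℕ
  | Sum.inl i => i.val
  | Sum.inr u => D.rank + u.val

theorem code_injective (D : ChevalleyDatum) : Function.Injective (code D) := by
  rintro (i | u) (j | v) h
  · simp only [code] at h
    rw [Fin.ext h]
  · simp only [code] at h
    have := i.2
    omega
  · simp only [code] at h
    have := j.2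
    omega
  · simp only [code] at h
    congr 1
    apply Fin.ext
    omega

section veval

variable {F : Type*} [Field F]

/-- value of a sparse vector at a coordinate -/
def vEval (D : ChevalleyDatum) (x y : F) (v : SVec) (idx : D.Idx) : F :=
  (v.map fun a => if a.1 = code D idx then pEval x y a.2 else 0).sum

@[simp] theorem vEval_nil (D : ChevalleyDatum) (x y : F) (idx : D.Idx) :
    vEval D x y [] idx = 0 := rfl

theorem vEval_cons (D : ChevalleyDatum) (x y : F) (a : ℕ × Poly) (v : SVec) (idx : D.Idx) :
    vEval D x y (a :: v) idx =
      (if a.1 = code D idx then pEval x y a.2 else 0) + vEval D x y v idx := by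
  simp [vEval]

theorem vEval_vins (D : ChevalleyDatum) (x y : F) (a : ℕ × Poly) (v : SVec) (idx : D.Idx) :
    vEval D x y (vins a v) idx =
      (if a.1 = code D idx then pEval x y a.2 else 0) + vEval D x y v idx := by
  induction v with
  | nil =>
    unfold vins
    obtain ⟨i, p⟩ := a
    cases p with
    | nil => simp
    | cons m s => simp [vEval_cons]
  | cons b w ih =>
    unfold vins
    by_cases h1 : a.1 < b.1
    · rw [if_pos h1]
      obtain ⟨i, p⟩ := a
      cases p with
      | nil => simp
      | cons m s => simp only [vEval_cons]
    · rw [if_neg h1]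
      by_cases h2 : a.1 = b.1
      · rw [if_pos h2]
        have hadd := pEval_padd x y a.2 b.2
        have key : vEval D x y (match padd a.2 b.2 with
            | [] => w
            | m :: s => (a.1, m :: s) :: w) idx =
            (if a.1 = code D idx then pEval x y (padd a.2 b.2) else 0) + vEval D x y w idx := by
          cases hp : padd a.2 b.2 with
          | nil => simp
          | cons m s => simp only [vEval_cons]
        rw [key, hadd, vEval_cons, ← h2]
        by_cases h3 : a.1 = code D idx
        · simp only [h3, if_true]; ring
        · simp only [h3, if_false]; ring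
      · rw [if_neg h2, vEval_cons, ih, vEval_cons]
        ring

theorem vEval_vadd (D : ChevalleyDatum) (x y : F) (v w : SVec) (idx : D.Idx) :
    vEval D x y (vadd v w) idx = vEval D x y v idx + vEval D x y w idx := by
  unfold vadd
  induction v with
  | nil => simp
  | cons a v ih => rw [List.foldr_cons, vEval_vins, ih, vEval_cons, add_assoc]

theorem vEval_vscale (D : ChevalleyDatum) (x y : F) (hx : x ≠ 0) (hy : y ≠ 0) (p : Poly)
    (v : SVec) (idx : D.Idx) :
    vEval D x y (vscale p v) idx = pEval x y p * vEval D x y v idx := by
  unfold vscale
  induction v with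
  | nil => simp
  | cons a v ih =>
    rw [List.foldr_cons, vEval_vins, ih, vEval_cons, mul_add]
    congr 1
    by_cases h : a.1 = code D idx
    · simp only [h, if_true]
      exact pEval_pmul x y hx hy p a.2
    · simp only [h, if_false, mul_zero]

theorem vEval_vsingle (D : ChevalleyDatum) (x y : F) (i : ℕ) (p : Poly) (idx : D.Idx) :
    vEval D x y (vsingle i p) idx = if i = code D idx then pEval x y p else 0 := by
  unfold vsingle
  rw [vEval_vins, vEval_nil, add_zero]

theorem vEval_foldr_vins (D : ChevalleyDatum) (x y : F) (l : List (ℕ × Poly)) (v : SVec)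
    (idx : D.Idx) :
    vEval D x y (l.foldr vins v) idx = vEval D x y l idx + vEval D x y v idx := by
  induction l with
  | nil => simp
  | cons a l ih => rw [List.foldr_cons, vEval_vins, ih, vEval_cons, add_assoc]

end veval

/-! ### The columns of `x_r(p)` -/

/-- column of `x_r(param)` at the coordinate with code `b` -/
def col (D : ChevalleyDatum) (r : ℕ) (param : Poly) (b : ℕ) : SVec :=
  if b < D.rank then
    vins (b, pconst 1)
      (vsingle (D.rank + r) (pmul (pconst (-((D.cartanSR.getD b #[]).getD r 0))) param))
  else if b - D.rank = r then vsingle b (pconst 1)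
  else if b - D.rank = D.negIdx.getD r 0 then
    (List.range D.rank).foldr (fun i acc =>
        vins (i, pmul (pconst ((D.coroot.getD r #[]).getD i 0)) param) acc)
      (vins (b, pconst 1) (vsingle (D.rank + r) (pneg (pmul param param))))
  else
    ((((D.chain.getD r #[]).toList.filter (fun e => e.1 = b - D.rank)).flatMap fun e =>
        e.2.toList.zipIdx.map fun q =>
          (D.rank + q.1.1, pmul (pconst q.1.2) (ppow param (q.2 + 1)))).foldr
          vins (vsingle b (pconst 1)))

section colsound

variable {F : Type*} [Field F]

theorem sum_map_filter' {α : Type*} (l : List α) (p : α → Bool) (f : α → F) :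
    ((l.filter p).map f).sum = (l.map fun a => if p a then f a else 0).sum := by
  induction l with
  | nil => simp
  | cons a l ih =>
    by_cases h : p a
    · simp [List.filter_cons, h, ih]
    · simp [List.filter_cons, h, ih]

theorem sum_map_flatMap' {α β : Type*} (l : List α) (g : α → List β) (f : β → F) :
    ((l.flatMap g).map f).sum = (l.map fun e => ((g e).map f).sum).sum := by
  induction l with
  | nil => simp
  | cons a l ih => simp [List.flatMap_cons, ih]

theorem vEval_range_foldr (D : ChevalleyDatum) (x y : F) (f : ℕ → Poly)
    (n : ℕ) (row : D.Idx) (base : SVec) :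
    vEval D x y ((List.range n).foldr (fun i acc => vins (i, f i) acc) base) row =
      (if code D row < n then pEval x y (f (code D row)) else 0) + vEval D x y base row := by
  induction n generalizing base with
  | zero => simp
  | succ m ihm =>
    rw [List.range_succ, List.foldr_append, List.foldr_cons, List.foldr_nil, ihm, vEval_vins]
    by_cases h1 : code D row < m
    · have h2 : code D row < m + 1 := by omega
      have h3 : m ≠ code D row := by omega
      simp [h1, h2, h3]
    · by_cases h4 : m = code D row
      · have h2 : code D row < m + 1 := by omega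
        simp [h2, ← h4]
      · have h2 : ¬ code D row < m + 1 := by omega
        simp [h1, h2, h4]

/-- **Soundness of `col`.** -/
theorem vEval_col (D : ChevalleyDatum) (x y : F) (hx : x ≠ 0) (hy : y ≠ 0) (r : Fin D.nroots)
    (param : Poly) (idx row : D.Idx) :
    vEval D x y (col D r.val param (code D idx)) row = D.xMat F r (pEval x y param) row idx := by
  have hne : ∀ a b : Fin D.nroots, a ≠ b → ¬ D.rank + a.val = D.rank + b.val := by
    intro a b hab h
    apply hab
    apply Fin.ext
    omega
  rcases idx with i | s
  · -- a coroot coordinate
    unfold ChevalleyDatum.xMat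
    simp only [Matrix.of_apply]
    have hi : code D (Sum.inl i) = i.val := rfl
    have hlt : i.val < D.rank := i.2
    unfold col
    rw [hi, if_pos hlt, vEval_vins, vEval_vsingle, pEval_pconst, pEval_pmul x y hx hy, pEval_pconst]
    rcases row with i' | u
    · dsimp only
      have h1 : code D (Sum.inl i') = i'.val := rfl
      have h2 : ¬ D.rank + r.val = i'.val := by have := i'.2; omega
      rw [h1, if_neg h2, add_zero]
      by_cases h3 : i' = i
      · subst h3; simp
      · have h4 : ¬ i.val = i'.val := fun h => h3 (Fin.ext h.symm)
        rw [if_neg h4, if_neg h3]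
    · dsimp only
      have h1 : code D (Sum.inr u) = D.rank + u.val := rfl
      have h2 : ¬ i.val = D.rank + u.val := by omega
      rw [h1, if_neg h2, zero_add]
      by_cases h3 : u = r
      · subst h3
        rw [if_pos rfl, if_pos rfl]
        push_cast
        ring
      · rw [if_neg (hne r u (Ne.symm h3)), if_neg h3]
  · unfold ChevalleyDatum.xMat
    simp only [Matrix.of_apply]
    have hs : code D (Sum.inr s) = D.rank + s.val := rfl
    have hnlt : ¬ D.rank + s.val < D.rank := by omega
    have hsub : D.rank + s.val - D.rank = s.val := by omega
    unfold col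
    rw [hs, if_neg hnlt, hsub]
    by_cases hsr : s = r
    · -- the root vector e_r itself
      have hsr' : s.val = r.val := by rw [hsr]
      rw [if_pos hsr', if_pos hsr, vEval_vsingle, pEval_pconst]
      rcases row with i' | u
      · dsimp only
        have h1 : code D (Sum.inl i') = i'.val := rfl
        have h2 : ¬ D.rank + s.val = i'.val := by have := i'.2; omega
        rw [h1, if_neg h2]
      · dsimp only
        have h1 : code D (Sum.inr u) = D.rank + u.val := rfl
        rw [h1]
        by_cases h3 : u = r
        · subst h3; subst hsr
          rw [if_pos rfl, if_pos rfl]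
          simp
        · have h4 : s ≠ u := fun h => h3 (h ▸ hsr)
          rw [if_neg (hne s u h4)]
          simp [h3]
    · have hsr' : ¬ s.val = r.val := fun h => hsr (Fin.ext h)
      rw [if_neg hsr', if_neg hsr]
      by_cases hneg : s.val = D.negIdx.getD r.val 0
      · -- the root vector e_{-r}
        rw [if_pos hneg, if_pos hneg, vEval_range_foldr, vEval_vins, vEval_vsingle, pEval_pconst,
          pEval_pneg, pEval_pmul x y hx hy]
        rcases row with i' | u
        · dsimp only
          have h1 : code D (Sum.inl i') = i'.val := rfl
          have h2 : ¬ D.rank + s.val = i'.val := by have := i'.2; omega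
          have h3 : ¬ D.rank + r.val = i'.val := by have := i'.2; omega
          rw [h1, if_pos i'.2, if_neg h2, if_neg h3, pEval_pconst]
          simp
        · dsimp only
          have h1 : code D (Sum.inr u) = D.rank + u.val := rfl
          have h2 : ¬ D.rank + u.val < D.rank := by omega
          rw [h1, if_neg h2, zero_add]
          by_cases h3 : u = s
          · subst h3
            rw [if_pos rfl, if_neg (hne r u (Ne.symm hsr))]
            simp
          · rw [if_neg (hne s u (Ne.symm h3))]
            by_cases h5 : u = r
            · subst h5
              rw [if_pos rfl, pEval_pmul x y hx hy]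
              simp [h3, pow_two]
            · rw [if_neg (hne r u (Ne.symm h5))]
              simp [h3, h5]
      · -- a root vector on an r-chain
        rw [if_neg hneg, if_neg hneg, vEval_foldr_vins, vEval_vsingle, pEval_pconst]
        rcases row with i' | u
        · dsimp only
          have h1 : code D (Sum.inl i') = i'.val := rfl
          have h2 : ¬ D.rank + s.val = i'.val := by have := i'.2; omega
          rw [h1, if_neg h2, add_zero]
          unfold vEval
          rw [sum_map_flatMap']
          apply List.sum_eq_zero
          intro z hz
          rw [List.mem_map] at hz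
          obtain ⟨e, _, rfl⟩ := hz
          apply List.sum_eq_zero
          intro z hz
          rw [List.mem_map] at hz
          obtain ⟨a, ha, rfl⟩ := hz
          rw [List.mem_map] at ha
          obtain ⟨q, _, rfl⟩ := ha
          have h3 : ¬ D.rank + q.1.1 = code D (Sum.inl i') := by
            rw [h1]; have := i'.2; omega
          simp only [h3, if_false]
        · dsimp only
          have h1 : code D (Sum.inr u) = D.rank + u.val := rfl
          rw [h1, add_comm]
          congr 1
          · by_cases h3 : u = s
            · subst h3; simp
            · rw [if_neg (hne s u (Ne.symm h3))]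
              simp [h3]
          · unfold vEval ChevalleyDatum.chainCoeff
            rw [sum_map_flatMap', sum_map_flatMap']
            congr 1
            apply List.map_congr_left
            intro e _
            rw [List.map_map, List.map_map, sum_map_filter']
            congr 1
            apply List.map_congr_left
            intro q _
            simp only [Function.comp]
            have h5 : code D (Sum.inr u) = D.rank + u.val := rfl
            by_cases h6 : q.1.1 = u.val
            · have h7 : D.rank + q.1.1 = code D (Sum.inr u) := by rw [h5, h6]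
              rw [if_pos h7, pEval_pmul x y hx hy, pEval_pconst, pEval_ppow x y hx hy]
              simp [h6]
            · have h7 : ¬ D.rank + q.1.1 = code D (Sum.inr u) := by rw [h5]; omega
              rw [if_neg h7]
              simp [h6]

end colsound

/-! ### Applying `x_r(p)` to a sparse vector -/

def app (D : ChevalleyDatum) (r : ℕ) (param : Poly) (v : SVec) : SVec :=
  v.foldr (fun a acc =>
    if a.1 < D.rank + D.nroots then vadd (vscale a.2 (col D r param a.1)) acc else acc) []

/-- apply a word `x_{r₁}(p₁) x_{r₂}(p₂) ⋯` (product in this order) to a sparse vector -/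
def appWord (D : ChevalleyDatum) (w : List (ℕ × Poly)) (v : SVec) : SVec :=
  w.foldr (fun a acc => app D a.1 a.2 acc) v

section appsound

variable {F : Type*} [Field F]

theorem exists_code (D : ChevalleyDatum) (b : ℕ) (hb : b < D.rank + D.nroots) :
    ∃ idx : D.Idx, code D idx = b := by
  by_cases h : b < D.rank
  · exact ⟨Sum.inl ⟨b, h⟩, rfl⟩
  · refine ⟨Sum.inr ⟨b - D.rank, by omega⟩, ?_⟩
    simp only [code]
    omega

theorem code_lt (D : ChevalleyDatum) (idx : D.Idx) : code D idx < D.rank + D.nroots := by
  rcases idx with i | u
  · have := i.2
    simp only [code]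
    omega
  · have := u.2
    simp only [code]
    omega

theorem mulVec_indicator (D : ChevalleyDatum) (M : Matrix D.Idx D.Idx F) (b : ℕ) (c : F)
    (row : D.Idx) :
    M.mulVec (fun j => if b = code D j then c else 0) row =
      if h : b < D.rank + D.nroots then M row (exists_code D b h).choose * c else 0 := by
  classical
  change ∑ j, M row j * (if b = code D j then c else 0) = _
  by_cases h : b < D.rank + D.nroots
  · rw [dif_pos h]
    have hc := (exists_code D b h).choose_spec
    rw [Finset.sum_eq_single (exists_code D b h).choose]
    · rw [if_pos hc.symm]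
    · intro j _ hj
      have : ¬ b = code D j := by
        intro hb
        apply hj
        apply code_injective D
        rw [hc, hb]
      rw [if_neg this, mul_zero]
    · intro hn
      exact absurd (Finset.mem_univ _) hn
  · rw [dif_neg h]
    apply Finset.sum_eq_zero
    intro j _
    have : ¬ b = code D j := by
      intro hb
      apply h
      rw [hb]
      exact code_lt D j
    rw [if_neg this, mul_zero]

/-- **Soundness of `app`.** -/
theorem vEval_app (D : ChevalleyDatum) (x y : F) (hx : x ≠ 0) (hy : y ≠ 0) (r : Fin D.nroots)
    (param : Poly) (v : SVec) (row : D.Idx) :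
    vEval D x y (app D r.val param v) row =
      (D.xMat F r (pEval x y param)).mulVec (vEval D x y v) row := by
  induction v generalizing row with
  | nil =>
    have : vEval D x y ([] : SVec) = 0 := by funext j; rfl
    rw [this, Matrix.mulVec_zero]
    rfl
  | cons a v ih =>
    have hsplit : vEval D x y (a :: v) =
        (fun j => if a.1 = code D j then pEval x y a.2 else 0) + vEval D x y v := by
      funext j
      rw [Pi.add_apply, vEval_cons]
    rw [hsplit, Matrix.mulVec_add, Pi.add_apply, mulVec_indicator]
    unfold app
    rw [List.foldr_cons]
    by_cases h : a.1 < D.rank + D.nroots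
    · rw [if_pos h, dif_pos h, vEval_vadd, vEval_vscale D x y hx hy]
      have hc := (exists_code D a.1 h).choose_spec
      have h1 := vEval_col D x y hx hy r param (exists_code D a.1 h).choose row
      rw [hc] at h1
      rw [h1]
      have h2 := ih row
      unfold app at h2
      rw [h2]
      ring
    · rw [if_neg h, dif_neg h, zero_add]
      have h2 := ih row
      unfold app at h2
      exact h2

/-- the root element with a natural-number index -/
theorem x_eq_xMat (D : ChevalleyDatum) (r : ℕ) (hr : r < D.nroots) (t : F) :
    D.x F r t = D.xMat F ⟨r, hr⟩ t := by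
  unfold ChevalleyDatum.x
  rw [dif_pos hr]

/-- **Soundness of `appWord`** for words all of whose roots are in range. -/
theorem vEval_appWord (D : ChevalleyDatum) (x y : F) (hx : x ≠ 0) (hy : y ≠ 0)
    (w : List (ℕ × Poly)) (hw : ∀ a ∈ w, a.1 < D.nroots) (v : SVec) (row : D.Idx) :
    vEval D x y (appWord D w v) row =
      (D.wordMat F (w.map fun a => (a.1, pEval x y a.2))).mulVec (vEval D x y v) row := by
  induction w generalizing row with
  | nil =>
    unfold appWord ChevalleyDatum.wordMat
    simp
  | cons a w ih =>
    have ha : a.1 < D.nroots := hw a (List.mem_cons_self)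
    have hw' : ∀ b ∈ w, b.1 < D.nroots := fun b hb => hw b (List.mem_cons_of_mem _ hb)
    have h1 : appWord D (a :: w) v = app D a.1 a.2 (appWord D w v) := rfl
    have h2 : D.wordMat F ((a :: w).map fun a => (a.1, pEval x y a.2)) =
        D.x F a.1 (pEval x y a.2) * D.wordMat F (w.map fun a => (a.1, pEval x y a.2)) := by
      unfold ChevalleyDatum.wordMat
      simp
    rw [h1, h2, ← Matrix.mulVec_mulVec, x_eq_xMat D a.1 ha]
    have h3 := vEval_app D x y hx hy ⟨a.1, ha⟩ a.2 (appWord D w v) row
    rw [h3]
    congr 1
    funext j
    exact ih hw' j

/-- the coordinate vector as a sparse vector -/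
theorem vEval_unit (D : ChevalleyDatum) (x y : F) (idx : D.Idx) :
    vEval D x y (vsingle (code D idx) (pconst 1)) = fun j => if code D idx = code D j then 1 else 0 := by
  funext j
  rw [vEval_vsingle, pEval_pconst]
  simp

theorem mulVec_unit (D : ChevalleyDatum) (M : Matrix D.Idx D.Idx F) (idx row : D.Idx) :
    M.mulVec (fun j => if code D idx = code D j then (1 : F) else 0) row = M row idx := by
  classical
  change ∑ j, M row j * (if code D idx = code D j then (1 : F) else 0) = _
  rw [Finset.sum_eq_single idx]
  · simp
  · intro j _ hj
    have : ¬ code D idx = code D j := fun h => hj (code_injective D h.symm)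
    rw [if_neg this, mul_zero]
  · intro hn
    exact absurd (Finset.mem_univ _) hn

/-- Two matrices agreeing on all coordinate vectors (as evaluated sparse vectors) are equal. -/
theorem matrix_eq_of_units (D : ChevalleyDatum) (x y : F) (M N : Matrix D.Idx D.Idx F)
    (h : ∀ idx row : D.Idx, M.mulVec (vEval D x y (vsingle (code D idx) (pconst 1))) row =
      N.mulVec (vEval D x y (vsingle (code D idx) (pconst 1))) row) : M = N := by
  ext row idx
  have := h idx row
  rw [vEval_unit, mulVec_unit, mulVec_unit] at this
  exact this

end appsound

end Cfsg.Agent.helper5.Chev
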