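import Mathlib
import Cfsg.Agent.Lib_helper5_ChevCalc

set_option autoImplicit false

/-! Additivity of root elements from a table check (helper5). -/

namespace Cfsg.Agent.helper5.Chev

open Cfsg.Lie

/-- the coordinates possibly moved by `x_r(t)` -/
def relevant (D : ChevalleyDatum) (r : ℕ) : List ℕ :=
  List.range D.rank ++ [D.rank + r, D.rank + D.negIdx.getD r 0] ++
    (D.chain.getD r #[]).toList.map fun e => D.rank + e.1

/-- the table check for `x_r(X) x_r(Y) = x_r(X + Y)`, for one root -/
def addCheckR (D : ChevalleyDatum) (r : ℕ) : Bool :=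
  (relevant D r).all fun b =>
    app D r pX (app D r pY (vsingle b (pconst 1))) == app D r (padd pX pY) (vsingle b (pconst 1))

/-- the table check for the roots `lo, lo + 1, …, lo + n - 1` -/
def addCheckRange (D : ChevalleyDatum) (lo n : ℕ) : Bool :=
  (List.range n).all fun k => addCheckR D (lo + k)

theorem addCheckR_of_range (D : ChevalleyDatum) (lo n : ℕ) (h : addCheckRange D lo n = true)
    (r : ℕ) (h1 : lo ≤ r) (h2 : r < lo + n) : addCheckR D r = true := by
  unfold addCheckRange at h
  rw [List.all_eq_true] at h
  have := h (r - lo) (List.mem_range.mpr (by omega))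
  rwa [Nat.add_sub_cancel' h1] at this

/-- the table check for all roots -/
def addCheck (D : ChevalleyDatum) : Prop := ∀ r < D.nroots, addCheckR D r = true

/-- Outside the relevant coordinates, the column of `x_r(p)` is the coordinate vector. -/
theorem col_of_not_relevant (D : ChevalleyDatum) (r : ℕ) (param : Poly) (b : ℕ)
    (hb : b ∉ relevant D r) : col D r param b = vsingle b (pconst 1) := by
  unfold relevant at hb
  simp only [List.mem_append, List.mem_range, List.mem_cons, List.not_mem_nil, or_false,
    List.mem_map, not_or, not_exists, not_and] at hb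
  obtain ⟨⟨h1, h2, h3⟩, h4⟩ := hb
  unfold col
  rw [if_neg h1]
  have hge : D.rank ≤ b := by omega
  have h2' : ¬ b - D.rank = r := by omega
  have h3' : ¬ b - D.rank = D.negIdx.getD r 0 := by omega
  rw [if_neg h2', if_neg h3']
  have hfilter : (D.chain.getD r #[]).toList.filter (fun e => e.1 = b - D.rank) = [] := by
    rw [List.filter_eq_nil_iff]
    intro e he
    have := h4 e he
    simp only [decide_eq_true_eq]
    omega
  rw [hfilter]
  rfl

section
variable {F : Type*} [Field F]

theorem chainCoeff_pos (D : ChevalleyDatum) (r s u : ℕ) (km : ℕ × ℤ)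
    (h : km ∈ D.chainCoeff r s u) : 1 ≤ km.1 := by
  unfold ChevalleyDatum.chainCoeff at h
  rw [List.mem_flatMap] at h
  obtain ⟨e, _, he⟩ := h
  rw [List.mem_map] at he
  obtain ⟨q, _, rfl⟩ := he
  simp

theorem xMat_zero (D : ChevalleyDatum) (r : Fin D.nroots) : D.xMat F r 0 = 1 := by
  ext row col
  rw [Matrix.one_apply]
  unfold ChevalleyDatum.xMat
  simp only [Matrix.of_apply]
  rcases col with i | s
  · rcases row with i' | u
    · simp
    · simp
  · by_cases hsr : s = r
    · subst hsr
      rcases row with i' | u
      · simp
      · simp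
    · simp only [hsr, if_false]
      by_cases hneg : s.val = D.negIdx.getD r.val 0
      · simp only [hneg, if_true]
        rcases row with i' | u
        · simp
        · by_cases hus : u = s
          · subst hus; simp
          · have : (Sum.inr u : D.Idx) ≠ Sum.inr s := fun h => hus (Sum.inr.inj h)
            simp [hus, this]
      · simp only [hneg, if_false]
        rcases row with i' | u
        · simp
        · have hsum : ((D.chainCoeff r.val s.val u.val).map
              fun km => ((km.2 : ℤ) : F) * (0 : F) ^ km.1).sum = 0 := by
            apply List.sum_eq_zero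
            intro x hx
            rw [List.mem_map] at hx
            obtain ⟨km, hkm, rfl⟩ := hx
            have := chainCoeff_pos D _ _ _ km hkm
            rw [zero_pow (by omega), mul_zero]
          show (if u = s then (1 : F) else 0) + ((D.chainCoeff r.val s.val u.val).map
              fun km => ((km.2 : ℤ) : F) * (0 : F) ^ km.1).sum = _
          rw [hsum, add_zero]
          by_cases hus : u = s
          · subst hus; simp
          · have : (Sum.inr u : D.Idx) ≠ Sum.inr s := fun h => hus (Sum.inr.inj h)
            simp [hus, this]

/-- Outside the relevant coordinates, the column of `x_r(t)` is the coordinate vector. -/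
theorem xMat_col_of_not_relevant (D : ChevalleyDatum) (r : Fin D.nroots) (t : F) (idx row : D.Idx)
    (hb : code D idx ∉ relevant D r.val) :
    D.xMat F r t row idx = if code D idx = code D row then 1 else 0 := by
  by_cases ht : t = 0
  · rw [ht, xMat_zero, Matrix.one_apply]
    by_cases h : row = idx
    · subst h; simp
    · have : ¬ code D idx = code D row := fun h' => h (code_injective D h'.symm)
      rw [if_neg h, if_neg this]
  · have h1 := vEval_col D t 1 ht one_ne_zero r pX idx row
    rw [pEval_pX, col_of_not_relevant D r.val pX _ hb, vEval_vsingle, pEval_pconst] at h1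
    rw [← h1]
    simp

theorem mulVec_unit_of_not_relevant (D : ChevalleyDatum) (r : Fin D.nroots) (t : F) (idx : D.Idx)
    (hb : code D idx ∉ relevant D r.val) :
    (D.xMat F r t).mulVec (fun j => if code D idx = code D j then (1 : F) else 0) =
      fun j => if code D idx = code D j then (1 : F) else 0 := by
  funext row
  rw [mulVec_unit, xMat_col_of_not_relevant D r t idx row hb]

/-- **Additivity from the table check.** -/
theorem xMat_add_of_check (D : ChevalleyDatum) (h : addCheck D) (r : Fin D.nroots)
    (t₁ t₂ : F) : D.xMat F r t₁ * D.xMat F r t₂ = D.xMat F r (t₁ + t₂) := by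
  by_cases h1 : t₁ = 0
  · rw [h1, xMat_zero, one_mul, zero_add]
  by_cases h2 : t₂ = 0
  · rw [h2, xMat_zero, mul_one, add_zero]
  apply matrix_eq_of_units D t₁ t₂
  intro idx row
  rw [← Matrix.mulVec_mulVec]
  by_cases hrel : code D idx ∈ relevant D r.val
  · have h3 := h r.val r.2
    unfold addCheckR at h3
    rw [List.all_eq_true] at h3
    have h4 := h3 _ hrel
    rw [beq_iff_eq] at h4
    have e1 : (D.xMat F r t₂).mulVec (vEval D t₁ t₂ (vsingle (code D idx) (pconst 1))) =
        vEval D t₁ t₂ (app D r.val pY (vsingle (code D idx) (pconst 1))) := by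
      funext j
      rw [vEval_app D t₁ t₂ h1 h2 r pY, pEval_pY]
    rw [e1]
    have e2 := vEval_app D t₁ t₂ h1 h2 r pX (app D r.val pY (vsingle (code D idx) (pconst 1))) row
    rw [pEval_pX] at e2
    rw [← e2, h4, vEval_app D t₁ t₂ h1 h2 r, pEval_padd, pEval_pX, pEval_pY]
  · rw [vEval_unit, mulVec_unit_of_not_relevant D r t₂ idx hrel,
      mulVec_unit_of_not_relevant D r t₁ idx hrel, mulVec_unit_of_not_relevant D r (t₁ + t₂) idx hrel]

end

end Cfsg.Agent.helper5.Chev
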