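import Mathlib
import Cfsg.Agent.Lib_helper5_ChevAdd
import Cfsg.Prelude.Def_ChevE7

set_option autoImplicit false

namespace Cfsg.Agent.helper5.Chev

open Cfsg.Lie

set_option maxRecDepth 1000000 in
set_option maxHeartbeats 0 in
theorem addCheck_E7_0 : addCheckRange chevE7 0 42 = true := by decide +kernel

set_option maxRecDepth 1000000 in
set_option maxHeartbeats 0 in
theorem addCheck_E7_42 : addCheckRange chevE7 42 42 = true := by decide +kernel

set_option maxRecDepth 1000000 in
set_option maxHeartbeats 0 in
theorem addCheck_E7_84 : addCheckRange chevE7 84 42 = true := by decide +kernel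

theorem addCheck_E7 : addCheck chevE7 := by
  intro r hr
  have hn : chevE7.nroots = 126 := rfl
  rw [hn] at hr
  by_cases h0 : r < 42
  · exact addCheckR_of_range _ 0 42 addCheck_E7_0 r (by omega) (by omega)
  by_cases h42 : r < 84
  · exact addCheckR_of_range _ 42 42 addCheck_E7_42 r (by omega) (by omega)
  by_cases h84 : r < 126
  · exact addCheckR_of_range _ 84 42 addCheck_E7_84 r (by omega) (by omega)
  omega

end Cfsg.Agent.helper5.Chev
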