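import Mathlib
import Cfsg.Agent.Lib_helper5_ChevAdd
import Cfsg.Prelude.Def_ChevE8

set_option autoImplicit false

namespace Cfsg.Agent.helper5.Chev

open Cfsg.Lie

set_option maxRecDepth 1000000 in
set_option maxHeartbeats 0 in
theorem addCheck_E8_0 : addCheckRange chevE8 0 20 = true := by decide +kernel

set_option maxRecDepth 1000000 in
set_option maxHeartbeats 0 in
theorem addCheck_E8_20 : addCheckRange chevE8 20 20 = true := by decide +kernel

set_option maxRecDepth 1000000 in
set_option maxHeartbeats 0 in
theorem addCheck_E8_40 : addCheckRange chevE8 40 20 = true := by decide +kernel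

set_option maxRecDepth 1000000 in
set_option maxHeartbeats 0 in
theorem addCheck_E8_60 : addCheckRange chevE8 60 20 = true := by decide +kernel

set_option maxRecDepth 1000000 in
set_option maxHeartbeats 0 in
theorem addCheck_E8_80 : addCheckRange chevE8 80 20 = true := by decide +kernel

set_option maxRecDepth 1000000 in
set_option maxHeartbeats 0 in
theorem addCheck_E8_100 : addCheckRange chevE8 100 20 = true := by decide +kernel

set_option maxRecDepth 1000000 in
set_option maxHeartbeats 0 in
theorem addCheck_E8_120 : addCheckRange chevE8 120 20 = true := by decide +kernel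

set_option maxRecDepth 1000000 in
set_option maxHeartbeats 0 in
theorem addCheck_E8_140 : addCheckRange chevE8 140 20 = true := by decide +kernel

set_option maxRecDepth 1000000 in
set_option maxHeartbeats 0 in
theorem addCheck_E8_160 : addCheckRange chevE8 160 20 = true := by decide +kernel

set_option maxRecDepth 1000000 in
set_option maxHeartbeats 0 in
theorem addCheck_E8_180 : addCheckRange chevE8 180 20 = true := by decide +kernel

set_option maxRecDepth 1000000 in
set_option maxHeartbeats 0 in
theorem addCheck_E8_200 : addCheckRange chevE8 200 20 = true := by decide +kernel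

set_option maxRecDepth 1000000 in
set_option maxHeartbeats 0 in
theorem addCheck_E8_220 : addCheckRange chevE8 220 20 = true := by decide +kernel

theorem addCheck_E8 : addCheck chevE8 := by
  intro r hr
  have hn : chevE8.nroots = 240 := rfl
  rw [hn] at hr
  by_cases h0 : r < 20
  · exact addCheckR_of_range _ 0 20 addCheck_E8_0 r (by omega) (by omega)
  by_cases h20 : r < 40
  · exact addCheckR_of_range _ 20 20 addCheck_E8_20 r (by omega) (by omega)
  by_cases h40 : r < 60
  · exact addCheckR_of_range _ 40 20 addCheck_E8_40 r (by omega) (by omega)
  by_cases h60 : r < 80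
  · exact addCheckR_of_range _ 60 20 addCheck_E8_60 r (by omega) (by omega)
  by_cases h80 : r < 100
  · exact addCheckR_of_range _ 80 20 addCheck_E8_80 r (by omega) (by omega)
  by_cases h100 : r < 120
  · exact addCheckR_of_range _ 100 20 addCheck_E8_100 r (by omega) (by omega)
  by_cases h120 : r < 140
  · exact addCheckR_of_range _ 120 20 addCheck_E8_120 r (by omega) (by omega)
  by_cases h140 : r < 160
  · exact addCheckR_of_range _ 140 20 addCheck_E8_140 r (by omega) (by omega)
  by_cases h160 : r < 180
  · exact addCheckR_of_range _ 160 20 addCheck_E8_160 r (by omega) (by omega)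
  by_cases h180 : r < 200
  · exact addCheckR_of_range _ 180 20 addCheck_E8_180 r (by omega) (by omega)
  by_cases h200 : r < 220
  · exact addCheckR_of_range _ 200 20 addCheck_E8_200 r (by omega) (by omega)
  by_cases h220 : r < 240
  · exact addCheckR_of_range _ 220 20 addCheck_E8_220 r (by omega) (by omega)
  omega

end Cfsg.Agent.helper5.Chev
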