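import Mathlib
import Cfsg.Agent.Lib_helper5_ChevAdd
import Cfsg.Prelude.Def_ChevG2
import Cfsg.Prelude.Def_ChevB2
import Cfsg.Prelude.Def_ChevD4
import Cfsg.Prelude.Def_ChevF4
import Cfsg.Prelude.Def_ChevE6

set_option autoImplicit false

namespace Cfsg.Agent.helper5.Chev

open Cfsg.Lie

set_option maxRecDepth 1000000 in
set_option maxHeartbeats 0 in
theorem addCheck_G2_0 : addCheckRange chevG2 0 12 = true := by decide +kernel

theorem addCheck_G2 : addCheck chevG2 := by
  intro r hr
  have hn : chevG2.nroots = 12 := rfl
  rw [hn] at hr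
  exact addCheckR_of_range _ 0 12 addCheck_G2_0 r (by omega) (by omega)

set_option maxRecDepth 1000000 in
set_option maxHeartbeats 0 in
theorem addCheck_B2_0 : addCheckRange chevB2 0 8 = true := by decide +kernel

theorem addCheck_B2 : addCheck chevB2 := by
  intro r hr
  have hn : chevB2.nroots = 8 := rfl
  rw [hn] at hr
  exact addCheckR_of_range _ 0 8 addCheck_B2_0 r (by omega) (by omega)

set_option maxRecDepth 1000000 in
set_option maxHeartbeats 0 in
theorem addCheck_D4_0 : addCheckRange chevD4 0 24 = true := by decide +kernel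

theorem addCheck_D4 : addCheck chevD4 := by
  intro r hr
  have hn : chevD4.nroots = 24 := rfl
  rw [hn] at hr
  exact addCheckR_of_range _ 0 24 addCheck_D4_0 r (by omega) (by omega)

set_option maxRecDepth 1000000 in
set_option maxHeartbeats 0 in
theorem addCheck_F4_0 : addCheckRange chevF4 0 48 = true := by decide +kernel

theorem addCheck_F4 : addCheck chevF4 := by
  intro r hr
  have hn : chevF4.nroots = 48 := rfl
  rw [hn] at hr
  exact addCheckR_of_range _ 0 48 addCheck_F4_0 r (by omega) (by omega)

set_option maxRecDepth 1000000 in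
set_option maxHeartbeats 0 in
theorem addCheck_E6_0 : addCheckRange chevE6 0 72 = true := by decide +kernel

theorem addCheck_E6 : addCheck chevE6 := by
  intro r hr
  have hn : chevE6.nroots = 72 := rfl
  rw [hn] at hr
  exact addCheckR_of_range _ 0 72 addCheck_E6_0 r (by omega) (by omega)

end Cfsg.Agent.helper5.Chev
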