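import Mathlib
import Cfsg.Agent.Lib_helper5_ChevCalc

set_option autoImplicit false

/-! The elements `h_p(c)` for fundamental roots are diagonal: table check (helper5). -/

namespace Cfsg.Agent.helper5.Chev

open Cfsg.Lie

/-- `X⁻¹` -/
def pXinv : Poly := [(-1, 0, 1)]

/-- the word of `h_r(X)` in the calculator -/
def hWordP (D : ChevalleyDatum) (r : ℕ) : List (ℕ × Poly) :=
  [(r, pX), (D.neg r, pneg pXinv), (r, pX), (r, pconst (-1)), (D.neg r, pconst 1), (r, pconst (-1))]

/-- the expected image of the coordinate `b` under `h_{p_i}(X)` -/
def hExpected (D : ChevalleyDatum) (i b : ℕ) : SVec :=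
  if b < D.rank then vsingle b (pconst 1) else [(b, [(D.cartan i (b - D.rank), 0, 1)])]

def hCheckI (D : ChevalleyDatum) (i : ℕ) : Bool :=
  (List.range (D.rank + D.nroots)).all fun b =>
    appWord D (hWordP D (D.simple i)) (vsingle b (pconst 1)) == hExpected D i b

def hCheck (D : ChevalleyDatum) : Prop := ∀ i < D.rank, hCheckI D i = true

/-- simple roots and their negatives are in range -/
def simpleCheck (D : ChevalleyDatum) : Bool :=
  (List.range D.rank).all fun i => decide (D.simple i < D.nroots) &&
    decide (D.neg (D.simple i) < D.nroots)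

section
variable {F : Type*} [Field F]

theorem pEval_pXinv (x y : F) : pEval x y pXinv = x⁻¹ := by
  simp [pXinv, mEval]

theorem hWord_eval (D : ChevalleyDatum) (r : ℕ) (c : F) :
    (hWordP D r).map (fun a => (a.1, pEval c (1 : F) a.2)) = D.hWord r c := by
  unfold hWordP ChevalleyDatum.hWord ChevalleyDatum.nWord
  simp only [List.map_cons, List.map_nil, pEval_pX, pEval_pneg, pEval_pXinv, pEval_pconst,
    List.cons_append, List.nil_append]
  norm_num

/-- **`h_p(c)` is diagonal**, from the table checks. -/
theorem hMat_diag_of_check (D : ChevalleyDatum) (h : hCheck D) (hs : simpleCheck D = true)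
    (i : ℕ) (hi : i < D.rank) (c : F) (hc : c ≠ 0) :
    D.hMat F (D.simple i) c =
      Matrix.diagonal (Sum.elim (fun _ => (1 : F)) (fun s : Fin D.nroots => c ^ (D.cartan i s))) := by
  have hsimple : D.simple i < D.nroots ∧ D.neg (D.simple i) < D.nroots := by
    unfold simpleCheck at hs
    rw [List.all_eq_true] at hs
    have := hs i (List.mem_range.mpr hi)
    simpa using this
  apply matrix_eq_of_units D c 1
  intro idx row
  have h3 := h i hi
  unfold hCheckI at h3
  rw [List.all_eq_true] at h3
  have h4 := h3 (code D idx) (List.mem_range.mpr (code_lt D idx))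
  rw [beq_iff_eq] at h4
  have hw : ∀ a ∈ hWordP D (D.simple i), a.1 < D.nroots := by
    intro a ha
    unfold hWordP at ha
    simp only [List.mem_cons, List.not_mem_nil, or_false] at ha
    rcases ha with rfl | rfl | rfl | rfl | rfl | rfl
    · exact hsimple.1
    · exact hsimple.2
    · exact hsimple.1
    · exact hsimple.1
    · exact hsimple.2
    · exact hsimple.1
  have e1 := vEval_appWord D c 1 hc one_ne_zero (hWordP D (D.simple i)) hw
    (vsingle (code D idx) (pconst 1)) row
  rw [hWord_eval, h4] at e1
  unfold ChevalleyDatum.hMat
  rw [← e1, vEval_unit, mulVec_unit]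
  -- evaluate the expected vector
  unfold hExpected
  rcases idx with j | s
  · have hj : code D (Sum.inl j) = j.val := rfl
    rw [hj, if_pos j.2, vEval_vsingle, pEval_pconst]
    rw [Matrix.diagonal_apply]
    by_cases hrow : row = Sum.inl j
    · subst hrow
      simp [code]
    · have : ¬ j.val = code D row := by
        intro h'
        apply hrow
        apply code_injective D
        rw [hj, h']
      rw [if_neg this, if_neg hrow]
  · have hs' : code D (Sum.inr s) = D.rank + s.val := rfl
    have hnlt : ¬ D.rank + s.val < D.rank := by omega
    have hsub : D.rank + s.val - D.rank = s.val := by omega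
    rw [hs', if_neg hnlt, hsub, vEval_cons, vEval_nil, add_zero, Matrix.diagonal_apply]
    by_cases hrow : row = Sum.inr s
    · subst hrow
      simp [code, mEval]
    · have : ¬ D.rank + s.val = code D row := by
        intro h'
        apply hrow
        apply code_injective D
        rw [hs', h']
      simp only [this, if_false]
      rw [if_neg hrow]

end

end Cfsg.Agent.helper5.Chev
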