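import Mathlib
import Cfsg.Agent.Lib_helper5_ChevH

set_option autoImplicit false

/-! The elements `n_p = n_p(1)` for fundamental roots are signed monomial matrices: table check
(helper5). -/

namespace Cfsg.Agent.helper5.Chev

open Cfsg.Lie

/-- the word of `n_r(1)` in the calculator -/
def nWordP (D : ChevalleyDatum) (r : ℕ) : List (ℕ × Poly) :=
  [(r, pconst 1), (D.neg r, pconst (-1)), (r, pconst 1)]

/-- the column of `n_{p_i}` at the coordinate with code `b` -/
def nCol (D : ChevalleyDatum) (i b : ℕ) : SVec :=
  appWord D (nWordP D (D.simple i)) (vsingle b (pconst 1))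

/-- the sign `η_s` read off the column of `e_s` -/
def etaOf (D : ChevalleyDatum) (i s : ℕ) : ℤ :=
  match nCol D i (D.rank + s) with
  | [(_, [(_, _, c)])] => c
  | _ => 0

/-- the expected column -/
def nExpected (D : ChevalleyDatum) (i b : ℕ) : SVec :=
  if b < D.rank then
    vadd (vsingle b (pconst 1)) (vsingle i (pconst (- D.cartan b (D.simple i))))
  else vsingle (D.rank + D.reflectRoot i (b - D.rank)) (pconst (etaOf D i (b - D.rank)))

def nCheckCols (D : ChevalleyDatum) (i lo n : ℕ) : Bool :=
  (List.range n).all fun k => nCol D i (lo + k) == nExpected D i (lo + k)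

def etaCheckS (D : ChevalleyDatum) (i s : ℕ) : Bool :=
  (etaOf D i s == 1 || etaOf D i s == -1) &&
    (etaOf D i s * etaOf D i (D.reflectRoot i s) == (-1) ^ (D.cartan i s).natAbs) &&
    (etaOf D i s * etaOf D i (D.neg s) == 1)

def etaCheckRange (D : ChevalleyDatum) (i lo n : ℕ) : Bool :=
  (List.range n).all fun k => etaCheckS D i (lo + k)

def etaCheckP (D : ChevalleyDatum) (i : ℕ) : Bool :=
  (etaOf D i (D.simple i) == -1) && (etaOf D i (D.neg (D.simple i)) == -1)

/-- all checks for the fundamental root `p_i` -/
structure NCheck (D : ChevalleyDatum) (i : ℕ) : Prop where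
  cols : ∀ b < D.rank + D.nroots, (nCol D i b == nExpected D i b) = true
  eta : ∀ s < D.nroots, etaCheckS D i s = true
  etaP : etaCheckP D i = true

theorem nCheck_of_chunks (D : ChevalleyDatum) (i n m n' m' : ℕ) (hn : 0 < n)
    (hm : D.rank + D.nroots ≤ m * n) (h : ∀ k < m, nCheckCols D i (k * n) n = true)
    (hn' : 0 < n') (hm' : D.nroots ≤ m' * n')
    (h' : ∀ k < m', etaCheckRange D i (k * n') n' = true) (hP : etaCheckP D i = true) :
    NCheck D i := by
  refine ⟨?_, ?_, hP⟩
  · intro b hb
    have hk : b / n < m := by
      apply Nat.div_lt_of_lt_mul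
      rw [Nat.mul_comm]
      omega
    have h1 : b / n * n ≤ b := Nat.div_mul_le_self b n
    have h2 : b - b / n * n < n := by
      have := Nat.div_add_mod b n
      have := Nat.mod_lt b hn
      rw [Nat.mul_comm]
      omega
    have h3 := h (b / n) hk
    unfold nCheckCols at h3
    rw [List.all_eq_true] at h3
    have h4 := h3 (b - b / n * n) (List.mem_range.mpr h2)
    rwa [Nat.add_sub_cancel' h1] at h4
  · intro s hs
    have hk : s / n' < m' := by
      apply Nat.div_lt_of_lt_mul
      rw [Nat.mul_comm]
      omega
    have h1 : s / n' * n' ≤ s := Nat.div_mul_le_self s n'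
    have h2 : s - s / n' * n' < n' := by
      have := Nat.div_add_mod s n'
      have := Nat.mod_lt s hn'
      rw [Nat.mul_comm]
      omega
    have h3 := h' (s / n') hk
    unfold etaCheckRange at h3
    rw [List.all_eq_true] at h3
    have h4 := h3 (s - s / n' * n') (List.mem_range.mpr h2)
    rwa [Nat.add_sub_cancel' h1] at h4

section
variable {F : Type*} [Field F]

theorem nWord_eval (D : ChevalleyDatum) (r : ℕ) :
    (nWordP D r).map (fun a => (a.1, pEval (1 : F) (1 : F) a.2)) = D.nWord r (1 : F) := by
  unfold nWordP ChevalleyDatum.nWord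
  simp only [List.map_cons, List.map_nil, pEval_pconst]
  norm_num

/-- the signed monomial matrix -/
def nMono (D : ChevalleyDatum) (i : ℕ) (η : ℕ → ℤ) : Matrix D.Idx D.Idx F :=
  Matrix.of (fun (row col : D.Idx) =>
        Sum.elim
          (fun j' : Fin D.rank => Sum.elim
            (fun j : Fin D.rank => (if j' = j then (1 : F) else 0) - (if (j' : ℕ) = i then ((D.cartan j (D.simple i) : ℤ) : F) else 0))
            (fun _ => (0 : F)) col)
          (fun s' : Fin D.nroots => Sum.elim
            (fun _ => (0 : F))
            (fun s : Fin D.nroots => if (s' : ℕ) = D.reflectRoot i s then ((η s : ℤ) : F) else 0) col)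
          row)

/-- **`n_p` is a signed monomial matrix**, from the table checks. -/
theorem nMat_eq_of_check (D : ChevalleyDatum) (hs : simpleCheck D = true) (i : ℕ) (hi : i < D.rank)
    (h : NCheck D i) : D.nMat F (D.simple i) 1 = nMono D i (etaOf D i) := by
  have hsimple : D.simple i < D.nroots ∧ D.neg (D.simple i) < D.nroots := by
    unfold simpleCheck at hs
    rw [List.all_eq_true] at hs
    have := hs i (List.mem_range.mpr hi)
    simpa using this
  apply matrix_eq_of_units D (1 : F) 1
  intro idx row
  have h4 := h.cols (code D idx) (code_lt D idx)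
  rw [beq_iff_eq] at h4
  have hw : ∀ a ∈ nWordP D (D.simple i), a.1 < D.nroots := by
    intro a ha
    unfold nWordP at ha
    simp only [List.mem_cons, List.not_mem_nil, or_false] at ha
    rcases ha with rfl | rfl | rfl
    · exact hsimple.1
    · exact hsimple.2
    · exact hsimple.1
  have e1 := vEval_appWord D (1 : F) 1 one_ne_zero one_ne_zero (nWordP D (D.simple i)) hw
    (vsingle (code D idx) (pconst 1)) row
  rw [nWord_eval] at e1
  have h5 : appWord D (nWordP D (D.simple i)) (vsingle (code D idx) (pconst 1)) =
      nExpected D i (code D idx) := h4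
  rw [h5] at e1
  unfold ChevalleyDatum.nMat
  rw [← e1, vEval_unit, mulVec_unit]
  unfold nExpected nMono
  rcases idx with j | s
  · have hj : code D (Sum.inl j) = j.val := rfl
    rw [hj, if_pos j.2, vEval_vadd, vEval_vsingle, vEval_vsingle, pEval_pconst, pEval_pconst]
    rcases row with j' | s'
    · have hj' : code D (Sum.inl j') = j'.val := rfl
      rw [hj']
      simp only [Matrix.of_apply, Sum.elim_inl]
      have e2 : (j.val = j'.val) ↔ (j' = j) := by
        constructor
        · intro h'; exact (Fin.ext h').symm
        · intro h'; rw [h']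
      have e3 : (i = j'.val) ↔ (j'.val = i) := eq_comm
      simp only [e2, e3]
      push_cast
      by_cases h2 : j'.val = i
      · rw [if_pos h2, if_pos h2]
        ring
      · rw [if_neg h2, if_neg h2]
        ring
    · have hs' : code D (Sum.inr s') = D.rank + s'.val := rfl
      rw [hs']
      simp only [Matrix.of_apply, Sum.elim_inl, Sum.elim_inr]
      have e2 : ¬ j.val = D.rank + s'.val := by have := j.2; omega
      have e3 : ¬ i = D.rank + s'.val := by omega
      rw [if_neg e2, if_neg e3, add_zero]
  · have hs0 : code D (Sum.inr s) = D.rank + s.val := rfl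
    have hnlt : ¬ D.rank + s.val < D.rank := by omega
    have hsub : D.rank + s.val - D.rank = s.val := by omega
    rw [hs0, if_neg hnlt, hsub, vEval_vsingle, pEval_pconst]
    rcases row with j' | s'
    · have hj' : code D (Sum.inl j') = j'.val := rfl
      rw [hj']
      simp only [Matrix.of_apply, Sum.elim_inl, Sum.elim_inr]
      have e2 : ¬ D.rank + D.reflectRoot i s.val = j'.val := by have := j'.2; omega
      rw [if_neg e2]
    · have hs' : code D (Sum.inr s') = D.rank + s'.val := rfl
      rw [hs']
      simp only [Matrix.of_apply, Sum.elim_inr]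
      by_cases h1 : s'.val = D.reflectRoot i s.val
      · have e2 : D.rank + D.reflectRoot i s.val = D.rank + s'.val := by rw [h1]
        rw [if_pos e2, if_pos h1]
      · have e2 : ¬ D.rank + D.reflectRoot i s.val = D.rank + s'.val := by omega
        rw [if_neg e2, if_neg h1]

end

end Cfsg.Agent.helper5.Chev
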