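import Mathlib
import Cfsg.Agent.Lib_helper5_ChevN
import Cfsg.Agent.Lib_helper5_ChevAdd

set_option autoImplicit false

/-! `n_p x_s(t) = x_{w_p s}(η t) n_p` for fundamental roots `p`: table check (helper5). -/

namespace Cfsg.Agent.helper5.Chev

open Cfsg.Lie

/-- the expected column of `n_{p_i}` from literal tables -/
def nExpT (D : ChevalleyDatum) (ca : List ℤ) (rt : List ℕ) (η : List ℤ) (i b : ℕ) : SVec :=
  if b < D.rank then vadd (vsingle b (pconst 1)) (vsingle i (pconst (- ca.getD b 0)))
  else vsingle (D.rank + rt.getD (b - D.rank) 0) (pconst (η.getD (b - D.rank) 0))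

def tabCheckS (D : ChevalleyDatum) (rt : List ℕ) (η : List ℤ) (i s : ℕ) : Bool :=
  rt.getD s 0 == D.reflectRoot i s && decide (rt.getD s 0 < D.nroots) &&
    rt.getD (rt.getD s 0) 0 == s && η.getD s 0 == etaOf D i s

def tabCheckRange (D : ChevalleyDatum) (rt : List ℕ) (η : List ℤ) (i lo n : ℕ) : Bool :=
  (List.range n).all fun k => tabCheckS D rt η i (lo + k)

def caCheck (D : ChevalleyDatum) (ca : List ℤ) (i : ℕ) : Bool :=
  (List.range D.rank).all fun b => ca.getD b 0 == D.cartan b (D.simple i)

/-- the literal tables are those of the datum -/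
structure NXTab (D : ChevalleyDatum) (i : ℕ) (ca : List ℤ) (rt : List ℕ) (η : List ℤ) : Prop where
  hca : ∀ b < D.rank, ca.getD b 0 = D.cartan b (D.simple i)
  hrt : ∀ s < D.nroots, rt.getD s 0 = D.reflectRoot i s
  hlt : ∀ s < D.nroots, rt.getD s 0 < D.nroots
  hinv : ∀ s < D.nroots, rt.getD (rt.getD s 0) 0 = s
  heta : ∀ s < D.nroots, η.getD s 0 = etaOf D i s

theorem range_of_chunks (P : ℕ → Prop) (N n m : ℕ) (hn : 0 < n) (hm : N ≤ m * n)
    (h : ∀ k < m, ∀ j < n, P (k * n + j)) : ∀ s < N, P s := by
  intro s hs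
  have hk : s / n < m := by
    apply Nat.div_lt_of_lt_mul
    rw [Nat.mul_comm]
    omega
  have h1 : s / n * n ≤ s := Nat.div_mul_le_self s n
  have h2 : s - s / n * n < n := by
    have := Nat.div_add_mod s n
    have := Nat.mod_lt s hn
    rw [Nat.mul_comm]
    omega
  have := h (s / n) hk (s - s / n * n) h2
  rwa [Nat.add_sub_cancel' h1] at this

theorem nxTab_of_chunks (D : ChevalleyDatum) (i : ℕ) (ca : List ℤ) (rt : List ℕ) (η : List ℤ)
    (hca : caCheck D ca i = true) (n m : ℕ) (hn : 0 < n) (hm : D.nroots ≤ m * n)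
    (h : ∀ k < m, tabCheckRange D rt η i (k * n) n = true) : NXTab D i ca rt η := by
  have key : ∀ s < D.nroots, tabCheckS D rt η i s = true := by
    refine range_of_chunks (fun s => tabCheckS D rt η i s = true) D.nroots n m hn hm ?_
    intro k hk j hj
    have h3 := h k hk
    unfold tabCheckRange at h3
    rw [List.all_eq_true] at h3
    exact h3 j (List.mem_range.mpr hj)
  refine ⟨?_, ?_, ?_, ?_, ?_⟩
  · intro b hb
    unfold caCheck at hca
    rw [List.all_eq_true] at hca
    have := hca b (List.mem_range.mpr hb)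
    rwa [beq_iff_eq] at this
  all_goals
    intro s hs
    have h1 := key s hs
    unfold tabCheckS at h1
    simp only [Bool.and_eq_true, beq_iff_eq, decide_eq_true_eq] at h1
  · exact h1.1.1.1
  · exact h1.1.1.2
  · exact h1.1.2
  · exact h1.2

theorem nExpT_eq (D : ChevalleyDatum) (i : ℕ) (ca : List ℤ) (rt : List ℕ) (η : List ℤ)
    (h : NXTab D i ca rt η) (b : ℕ) (hb : b < D.rank + D.nroots) :
    nExpT D ca rt η i b = nExpected D i b := by
  unfold nExpT nExpected
  by_cases hb' : b < D.rank
  · rw [if_pos hb', if_pos hb', h.hca b hb']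
  · rw [if_neg hb', if_neg hb', h.hrt _ (by omega), h.heta _ (by omega)]

/-- apply the expected matrix of `n_{p_i}` to a sparse vector -/
def nApplyT (D : ChevalleyDatum) (ca : List ℤ) (rt : List ℕ) (η : List ℤ) (i : ℕ) (v : SVec) : SVec :=
  v.foldr (fun a acc =>
    if a.1 < D.rank + D.nroots then vadd (vscale a.2 (nExpT D ca rt η i a.1)) acc else acc) []

/-- the polynomial `c X` -/
def pXc (c : ℤ) : Poly := [(1, 0, c)]

/-- the relevant columns of `w_p s` are the images of those of `s` -/
def nxSub (D : ChevalleyDatum) (rt : List ℕ) (s : ℕ) : Bool :=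
  (relevant D (rt.getD s 0)).all fun b =>
    (relevant D s).contains (if b < D.rank then b else D.rank + rt.getD (b - D.rank) 0)

def nxCheckB (D : ChevalleyDatum) (ca : List ℤ) (rt : List ℕ) (η : List ℤ) (i s b : ℕ) : Bool :=
  nApplyT D ca rt η i (col D s pX b) ==
    app D (rt.getD s 0) (pXc (η.getD s 0)) (nExpT D ca rt η i b)

def nxCheckS (D : ChevalleyDatum) (ca : List ℤ) (rt : List ℕ) (η : List ℤ) (i s : ℕ) : Bool :=
  nxSub D rt s && (relevant D s).all fun b => nxCheckB D ca rt η i s b

def nxCheckRange (D : ChevalleyDatum) (ca : List ℤ) (rt : List ℕ) (η : List ℤ) (i lo n : ℕ) : Bool :=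
  (List.range n).all fun k => nxCheckS D ca rt η i (lo + k)

theorem nxCheckS_of_chunks (D : ChevalleyDatum) (i : ℕ) (ca : List ℤ) (rt : List ℕ) (η : List ℤ)
    (n m : ℕ) (hn : 0 < n) (hm : D.nroots ≤ m * n)
    (h : ∀ k < m, nxCheckRange D ca rt η i (k * n) n = true) :
    ∀ s < D.nroots, nxCheckS D ca rt η i s = true := by
  refine range_of_chunks (fun s => nxCheckS D ca rt η i s = true) D.nroots n m hn hm ?_
  intro k hk j hj
  have h3 := h k hk
  unfold nxCheckRange at h3
  rw [List.all_eq_true] at h3
  exact h3 j (List.mem_range.mpr hj)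

/-- all the checks for a datum -/
def NXAll (D : ChevalleyDatum) : Prop :=
  ∀ i < D.rank, ∃ (ca : List ℤ) (rt : List ℕ) (η : List ℤ), NXTab D i ca rt η ∧
    ∀ s < D.nroots, nxCheckS D ca rt η i s = true

section
variable {F : Type*} [Field F]

theorem pEval_pXc (x y : F) (c : ℤ) : pEval x y (pXc c) = (c : F) * x := by
  simp [pXc, pEval, mEval]

theorem nMono_apply_inr (D : ChevalleyDatum) (i : ℕ) (η : ℕ → ℤ) (k : D.Idx) (b : Fin D.nroots) :
    (nMono D i η : Matrix D.Idx D.Idx F) k (Sum.inr b) =
      if code D k = D.rank + D.reflectRoot i b then ((η b : ℤ) : F) else 0 := by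
  unfold nMono
  rcases k with j' | s'
  · have hj' : code D (Sum.inl j') = j'.val := rfl
    rw [hj']
    simp only [Matrix.of_apply, Sum.elim_inl, Sum.elim_inr]
    have e2 : ¬ j'.val = D.rank + D.reflectRoot i b.val := by have := j'.2; omega
    rw [if_neg e2]
  · have hs' : code D (Sum.inr s') = D.rank + s'.val := rfl
    rw [hs']
    simp only [Matrix.of_apply, Sum.elim_inr]
    by_cases h1 : s'.val = D.reflectRoot i b.val
    · have e2 : D.rank + s'.val = D.rank + D.reflectRoot i b.val := by rw [h1]
      rw [if_pos e2, if_pos h1]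
    · have e2 : ¬ D.rank + s'.val = D.rank + D.reflectRoot i b.val := by omega
      rw [if_neg e2, if_neg h1]

theorem vEval_nExpected (D : ChevalleyDatum) (x y : F) (i : ℕ) (hi : i < D.rank) (idx row : D.Idx) :
    vEval D x y (nExpected D i (code D idx)) row = nMono D i (etaOf D i) row idx := by
  rcases idx with j | s
  · unfold nExpected nMono
    have hj : code D (Sum.inl j) = j.val := rfl
    rw [hj, if_pos j.2, vEval_vadd, vEval_vsingle, vEval_vsingle, pEval_pconst, pEval_pconst]
    rcases row with j' | s'
    · have hj' : code D (Sum.inl j') = j'.val := rfl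
      rw [hj']
      simp only [Matrix.of_apply, Sum.elim_inl]
      have e2 : (j.val = j'.val) ↔ (j' = j) := by
        constructor
        · intro h'; exact (Fin.ext h').symm
        · intro h'; rw [h']
      have e3 : (i = j'.val) ↔ (j'.val = i) := eq_comm
      simp only [e2, e3]
      push_cast
      by_cases h2 : j'.val = i
      · rw [if_pos h2, if_pos h2]
        ring
      · rw [if_neg h2, if_neg h2]
        ring
    · have hs' : code D (Sum.inr s') = D.rank + s'.val := rfl
      rw [hs']
      simp only [Matrix.of_apply, Sum.elim_inl, Sum.elim_inr]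
      have e2 : ¬ j.val = D.rank + s'.val := by have := j.2; omega
      have e3 : ¬ i = D.rank + s'.val := by omega
      rw [if_neg e2, if_neg e3, add_zero]
  · rw [nMono_apply_inr]
    unfold nExpected
    have hs0 : code D (Sum.inr s) = D.rank + s.val := rfl
    have hnlt : ¬ D.rank + s.val < D.rank := by omega
    have hsub : D.rank + s.val - D.rank = s.val := by omega
    rw [hs0, if_neg hnlt, hsub, vEval_vsingle, pEval_pconst]
    by_cases h1 : code D row = D.rank + D.reflectRoot i s.val
    · rw [if_pos h1, if_pos h1.symm]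
    · rw [if_neg h1, if_neg (fun h' => h1 h'.symm)]

theorem vEval_nApplyT (D : ChevalleyDatum) (x y : F) (hx : x ≠ 0) (hy : y ≠ 0) (i : ℕ)
    (hi : i < D.rank) (ca : List ℤ) (rt : List ℕ) (η : List ℤ) (h : NXTab D i ca rt η)
    (v : SVec) (row : D.Idx) :
    vEval D x y (nApplyT D ca rt η i v) row =
      (nMono D i (etaOf D i) : Matrix D.Idx D.Idx F).mulVec (vEval D x y v) row := by
  induction v generalizing row with
  | nil =>
    have : vEval D x y ([] : SVec) = 0 := by funext j; rfl
    rw [this, Matrix.mulVec_zero]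
    rfl
  | cons a v ih =>
    have hsplit : vEval D x y (a :: v) =
        (fun j => if a.1 = code D j then pEval x y a.2 else 0) + vEval D x y v := by
      funext j
      rw [Pi.add_apply, vEval_cons]
    rw [hsplit, Matrix.mulVec_add, Pi.add_apply, mulVec_indicator]
    unfold nApplyT
    rw [List.foldr_cons]
    by_cases hlt : a.1 < D.rank + D.nroots
    · rw [if_pos hlt, dif_pos hlt, vEval_vadd, vEval_vscale D x y hx hy]
      have hc := (exists_code D a.1 hlt).choose_spec
      have h1 := vEval_nExpected D x y i hi (exists_code D a.1 hlt).choose row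
      rw [hc] at h1
      rw [nExpT_eq D i ca rt η h a.1 hlt, h1]
      have h2 := ih row
      unfold nApplyT at h2
      rw [h2]
      ring
    · rw [if_neg hlt, dif_neg hlt, zero_add]
      have h2 := ih row
      unfold nApplyT at h2
      exact h2

/-- **`n_p x_s(t) = x_{w_p s}(η_s t) n_p`** at the level of the monomial matrix, from the checks. -/
theorem nMono_mul_xMat (D : ChevalleyDatum) (i : ℕ) (hi : i < D.rank)
    (ca : List ℤ) (rt : List ℕ) (η : List ℤ) (h : NXTab D i ca rt η) (s : Fin D.nroots)
    (hs' : D.reflectRoot i s < D.nroots)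
    (hchk : nxCheckS D ca rt η i s = true) (t : F) :
    (nMono D i (etaOf D i) : Matrix D.Idx D.Idx F) * D.xMat F s t =
      D.xMat F ⟨D.reflectRoot i s, hs'⟩ (((etaOf D i s : ℤ) : F) * t) * nMono D i (etaOf D i) := by
  by_cases ht : t = 0
  · rw [ht, mul_zero, xMat_zero, xMat_zero, mul_one, one_mul]
  apply matrix_eq_of_units D t 1
  intro idx row
  rw [← Matrix.mulVec_mulVec, ← Matrix.mulVec_mulVec]
  have e2 : (nMono D i (etaOf D i) : Matrix D.Idx D.Idx F).mulVec
      (vEval D t 1 (vsingle (code D idx) (pconst 1))) =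
      vEval D t 1 (nExpT D ca rt η i (code D idx)) := by
    funext j
    rw [vEval_unit, mulVec_unit, nExpT_eq D i ca rt η h _ (code_lt D idx),
      vEval_nExpected D t 1 i hi]
  unfold nxCheckS at hchk
  rw [Bool.and_eq_true, List.all_eq_true] at hchk
  obtain ⟨hsub, hchk⟩ := hchk
  by_cases hrel : code D idx ∈ relevant D s
  · have h4 := hchk _ hrel
    unfold nxCheckB at h4
    rw [beq_iff_eq, h.hrt s s.2, h.heta s s.2] at h4
    have e1 : (D.xMat F s t).mulVec (vEval D t 1 (vsingle (code D idx) (pconst 1))) =
        vEval D t 1 (col D s pX (code D idx)) := by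
      funext j
      rw [vEval_unit, mulVec_unit, vEval_col D t 1 ht one_ne_zero s pX idx j, pEval_pX]
    rw [e1, e2, ← vEval_nApplyT D t 1 ht one_ne_zero i hi ca rt η h, h4]
    have e3 := vEval_app D t 1 ht one_ne_zero ⟨D.reflectRoot i s, hs'⟩ (pXc (etaOf D i s))
      (nExpT D ca rt η i (code D idx)) row
    rw [pEval_pXc] at e3
    exact e3
  · rcases idx with j | b
    · exfalso
      apply hrel
      unfold relevant
      apply List.mem_append_left
      apply List.mem_append_left
      rw [List.mem_range]
      exact j.2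
    · have hnr : code D (Sum.inr b) ∉ relevant D s.val := hrel
      have hb' : D.reflectRoot i b < D.nroots := by
        rw [← h.hrt b b.2]; exact h.hlt b b.2
      have hnr' : code D (Sum.inr (⟨D.reflectRoot i b, hb'⟩ : Fin D.nroots)) ∉
          relevant D (D.reflectRoot i s) := by
        intro hm
        apply hrel
        unfold nxSub at hsub
        rw [List.all_eq_true] at hsub
        rw [← h.hrt s s.2] at hm
        have h6 := hsub _ hm
        rw [List.contains_iff_mem] at h6
        have hc : code D (Sum.inr (⟨D.reflectRoot i b, hb'⟩ : Fin D.nroots)) =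
            D.rank + D.reflectRoot i b := rfl
        have hc2 : code D (Sum.inr b) = D.rank + b.val := rfl
        rw [hc] at h6
        have hnlt : ¬ D.rank + D.reflectRoot i b < D.rank := by omega
        rw [if_neg hnlt] at h6
        have hsub' : D.rank + D.reflectRoot i b - D.rank = D.reflectRoot i b := by omega
        rw [hsub', ← h.hrt b b.2, h.hinv b b.2] at h6
        rw [hc2]
        exact h6
      rw [e2]
      rw [vEval_unit, mulVec_unit_of_not_relevant D s t _ hnr, mulVec_unit]
      -- the column of `n` at `b`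
      have e5 : vEval D t 1 (nExpT D ca rt η i (code D (Sum.inr b))) =
          ((etaOf D i b : ℤ) : F) • (fun j : D.Idx =>
            if code D (Sum.inr (⟨D.reflectRoot i b, hb'⟩ : Fin D.nroots)) = code D j
              then (1 : F) else 0) := by
        funext j
        rw [nExpT_eq D i ca rt η h _ (code_lt D _), vEval_nExpected D t 1 i hi, nMono_apply_inr,
          Pi.smul_apply, smul_eq_mul]
        have hc : code D (Sum.inr (⟨D.reflectRoot i b, hb'⟩ : Fin D.nroots)) =
            D.rank + D.reflectRoot i b := rfl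
        rw [hc]
        by_cases h1 : code D j = D.rank + D.reflectRoot i b
        · rw [if_pos h1, if_pos h1.symm, mul_one]
        · rw [if_neg h1, if_neg (fun h' => h1 h'.symm), mul_zero]
      rw [e5, Matrix.mulVec_smul,
        mulVec_unit_of_not_relevant D ⟨D.reflectRoot i s, hs'⟩ _ _ hnr', Pi.smul_apply,
        smul_eq_mul, nMono_apply_inr]
      have hc : code D (Sum.inr (⟨D.reflectRoot i b, hb'⟩ : Fin D.nroots)) =
          D.rank + D.reflectRoot i b := rfl
      rw [hc]
      by_cases h1 : code D row = D.rank + D.reflectRoot i b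
      · rw [if_pos h1, if_pos h1.symm, mul_one]
      · rw [if_neg h1, if_neg (fun h' => h1 h'.symm), mul_zero]

/-- the same for all fundamental roots, from `NXAll` -/
theorem nMono_mul_xMat_all (D : ChevalleyDatum) (hall : NXAll D) (i : ℕ) (hi : i < D.rank)
    (s : Fin D.nroots) :
    ∃ hs' : D.reflectRoot i s < D.nroots, ∀ t : F,
      (nMono D i (etaOf D i) : Matrix D.Idx D.Idx F) * D.xMat F s t =
        D.xMat F ⟨D.reflectRoot i s, hs'⟩ (((etaOf D i s : ℤ) : F) * t) *
          nMono D i (etaOf D i) := by
  obtain ⟨ca, rt, η, htab, hchk⟩ := hall i hi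
  have hs' : D.reflectRoot i s < D.nroots := by
    rw [← htab.hrt s s.2]; exact htab.hlt s s.2
  exact ⟨hs', fun t => nMono_mul_xMat D i hi ca rt η htab s hs' (hchk s s.2) t⟩

end

end Cfsg.Agent.helper5.Chev
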