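import Mathlib
import Cfsg.Prelude.Def_ChevStructure
import Cfsg.Agent.Lib_helper5_ChevNX

set_option autoImplicit false

/-! Root system combinatorics of a Chevalley datum from table checks (helper5). -/

namespace Cfsg.Agent.helper5.Chev

open Cfsg.Lie

/-- a measure on roots that simple reflections can decrease down to the fundamental roots -/
def muR (D : ChevalleyDatum) (s : ℕ) : ℕ :=
  if decide (D.IsPosRoot s) then 2 * s else 2 * D.neg s + 1

/-- the per-root checks -/
def rootsCheckS (D : ChevalleyDatum) (s : ℕ) : Bool :=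
  decide (D.neg s < D.nroots) && (D.neg (D.neg s) == s) &&
  ((decide (D.IsPosRoot s) && !decide (D.IsNegRoot s) && decide (D.IsNegRoot (D.neg s))) ||
   (decide (D.IsNegRoot s) && !decide (D.IsPosRoot s) && decide (D.IsPosRoot (D.neg s)))) &&
  ((List.range D.rank).all fun i =>
    decide (D.reflectRoot i s < D.nroots) && (D.reflectRoot i (D.reflectRoot i s) == s) &&
    (D.reflectRoot i (D.neg s) == D.neg (D.reflectRoot i s)) &&
    (!decide (D.IsPosRoot s) || (s == D.simple i) || decide (D.IsPosRoot (D.reflectRoot i s)))) &&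
  (((List.range D.rank).any fun i => s == D.simple i) ||
   ((List.range D.rank).any fun i => decide (muR D (D.reflectRoot i s) < muR D s)))

/-- the per-fundamental-root checks -/
def rootsCheckI (D : ChevalleyDatum) (i : ℕ) : Bool :=
  decide (D.simple i < D.nroots) && decide (D.IsPosRoot (D.simple i)) &&
  (D.reflectRoot i (D.simple i) == D.neg (D.simple i)) &&
  ((List.range D.rank).all fun j => !(D.simple i == D.simple j) || (i == j))

def rootsCheckRange (D : ChevalleyDatum) (lo n : ℕ) : Bool :=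
  (List.range n).all fun k => rootsCheckS D (lo + k)

structure RootsOK (D : ChevalleyDatum) : Prop where
  neg_lt : ∀ s < D.nroots, D.neg s < D.nroots
  neg_neg : ∀ s < D.nroots, D.neg (D.neg s) = s
  pos_or_neg : ∀ s < D.nroots, (D.IsPosRoot s ∧ ¬ D.IsNegRoot s ∧ D.IsNegRoot (D.neg s)) ∨
    (D.IsNegRoot s ∧ ¬ D.IsPosRoot s ∧ D.IsPosRoot (D.neg s))
  simple_lt : ∀ i < D.rank, D.simple i < D.nroots
  simple_pos : ∀ i < D.rank, D.IsPosRoot (D.simple i)
  simple_inj : ∀ i < D.rank, ∀ j < D.rank, D.simple i = D.simple j → i = j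
  refl_lt : ∀ i < D.rank, ∀ s < D.nroots, D.reflectRoot i s < D.nroots
  refl_refl : ∀ i < D.rank, ∀ s < D.nroots, D.reflectRoot i (D.reflectRoot i s) = s
  refl_neg : ∀ i < D.rank, ∀ s < D.nroots, D.reflectRoot i (D.neg s) = D.neg (D.reflectRoot i s)
  refl_simple : ∀ i < D.rank, D.reflectRoot i (D.simple i) = D.neg (D.simple i)
  refl_pos : ∀ i < D.rank, ∀ s < D.nroots, D.IsPosRoot s → s ≠ D.simple i →
    D.IsPosRoot (D.reflectRoot i s)
  step : ∀ s < D.nroots, (∃ i < D.rank, s = D.simple i) ∨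
    ∃ i < D.rank, muR D (D.reflectRoot i s) < muR D s

theorem rootsOK_of_chunks (D : ChevalleyDatum) (n m : ℕ) (hn : 0 < n) (hm : D.nroots ≤ m * n)
    (h : ∀ k < m, rootsCheckRange D (k * n) n = true)
    (hI : ∀ i < D.rank, rootsCheckI D i = true) : RootsOK D := by
  have key : ∀ s < D.nroots, rootsCheckS D s = true := by
    refine range_of_chunks (fun s => rootsCheckS D s = true) D.nroots n m hn hm ?_
    intro k hk j hj
    have h3 := h k hk
    unfold rootsCheckRange at h3
    rw [List.all_eq_true] at h3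
    exact h3 j (List.mem_range.mpr hj)
  have keyS : ∀ s < D.nroots, (D.neg s < D.nroots ∧ D.neg (D.neg s) = s) ∧
      ((D.IsPosRoot s ∧ ¬ D.IsNegRoot s ∧ D.IsNegRoot (D.neg s)) ∨
        (D.IsNegRoot s ∧ ¬ D.IsPosRoot s ∧ D.IsPosRoot (D.neg s))) ∧
      (∀ i < D.rank, D.reflectRoot i s < D.nroots ∧ D.reflectRoot i (D.reflectRoot i s) = s ∧
        D.reflectRoot i (D.neg s) = D.neg (D.reflectRoot i s) ∧
        (D.IsPosRoot s → s ≠ D.simple i → D.IsPosRoot (D.reflectRoot i s))) ∧
      ((∃ i < D.rank, s = D.simple i) ∨ ∃ i < D.rank, muR D (D.reflectRoot i s) < muR D s) := by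
    intro s hs
    have h1 := key s hs
    unfold rootsCheckS at h1
    simp only [Bool.and_eq_true, Bool.or_eq_true, decide_eq_true_eq, beq_iff_eq, List.all_eq_true,
      List.any_eq_true, List.mem_range, Bool.not_eq_true', decide_eq_false_iff_not] at h1
    obtain ⟨⟨⟨⟨h11, h12⟩, h2⟩, h3⟩, h4⟩ := h1
    refine ⟨⟨h11, h12⟩, ?_, ?_, ?_⟩
    · rcases h2 with ⟨⟨a, b⟩, c⟩ | ⟨⟨a, b⟩, c⟩
      · exact Or.inl ⟨a, b, c⟩
      · exact Or.inr ⟨a, b, c⟩
    · intro i hi
      obtain ⟨⟨⟨a, b⟩, c⟩, d⟩ := h3 i hi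
      refine ⟨a, b, c, ?_⟩
      intro hp hne
      rcases d with (d | d) | d
      · exact absurd hp d
      · exact absurd d hne
      · exact d
    · rcases h4 with ⟨i, hi, h5⟩ | ⟨i, hi, h5⟩
      · exact Or.inl ⟨i, hi, h5⟩
      · exact Or.inr ⟨i, hi, h5⟩
  have keyI : ∀ i < D.rank, D.simple i < D.nroots ∧ D.IsPosRoot (D.simple i) ∧
      D.reflectRoot i (D.simple i) = D.neg (D.simple i) ∧
      ∀ j < D.rank, D.simple i = D.simple j → i = j := by
    intro i hi
    have h1 := hI i hi
    unfold rootsCheckI at h1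
    simp only [Bool.and_eq_true, Bool.or_eq_true, decide_eq_true_eq, beq_iff_eq, List.all_eq_true,
      List.mem_range, Bool.not_eq_true', beq_eq_false_iff_ne] at h1
    obtain ⟨⟨⟨a, b⟩, c⟩, d⟩ := h1
    refine ⟨a, b, c, ?_⟩
    intro j hj hij
    rcases d j hj with d | d
    · exact absurd hij d
    · exact d
  exact
    { neg_lt := fun s hs => (keyS s hs).1.1
      neg_neg := fun s hs => (keyS s hs).1.2
      pos_or_neg := fun s hs => (keyS s hs).2.1
      simple_lt := fun i hi => (keyI i hi).1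
      simple_pos := fun i hi => (keyI i hi).2.1
      simple_inj := fun i hi => (keyI i hi).2.2.2
      refl_lt := fun i hi s hs => ((keyS s hs).2.2.1 i hi).1
      refl_refl := fun i hi s hs => ((keyS s hs).2.2.1 i hi).2.1
      refl_neg := fun i hi s hs => ((keyS s hs).2.2.1 i hi).2.2.1
      refl_simple := fun i hi => (keyI i hi).2.2.1
      refl_pos := fun i hi s hs => ((keyS s hs).2.2.1 i hi).2.2.2
      step := fun s hs => (keyS s hs).2.2.2 }

/-- **Root induction**: a property of roots that holds for the fundamental roots and is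
preserved by the fundamental reflections holds for all roots. -/
theorem RootsOK.induction {D : ChevalleyDatum} (h : RootsOK D) (P : ℕ → Prop)
    (hsimple : ∀ i < D.rank, P (D.simple i))
    (hstep : ∀ i < D.rank, ∀ s < D.nroots, P s → P (D.reflectRoot i s)) :
    ∀ s < D.nroots, P s := by
  have key : ∀ n : ℕ, ∀ s < D.nroots, muR D s = n → P s := by
    intro n
    induction n using Nat.strong_induction_on with
    | _ n ih =>
      intro s hs hn
      rcases h.step s hs with ⟨i, hi, rfl⟩ | ⟨i, hi, hlt⟩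
      · exact hsimple i hi
      · have h1 := ih (muR D (D.reflectRoot i s)) (by omega) (D.reflectRoot i s)
          (h.refl_lt i hi s hs) rfl
        have h2 := hstep i hi _ (h.refl_lt i hi s hs) h1
        rwa [h.refl_refl i hi s hs] at h2
  intro s hs
  exact key _ s hs rfl

theorem RootsOK.pos_of_not_neg {D : ChevalleyDatum} (h : RootsOK D) (s : ℕ) (hs : s < D.nroots)
    (hn : ¬ D.IsNegRoot s) : D.IsPosRoot s := by
  rcases h.pos_or_neg s hs with h1 | h1
  · exact h1.1
  · exact absurd h1.1 hn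

theorem RootsOK.neg_of_not_pos {D : ChevalleyDatum} (h : RootsOK D) (s : ℕ) (hs : s < D.nroots)
    (hn : ¬ D.IsPosRoot s) : D.IsNegRoot s := by
  rcases h.pos_or_neg s hs with h1 | h1
  · exact absurd h1.1 hn
  · exact h1.1

theorem RootsOK.neg_pos {D : ChevalleyDatum} (h : RootsOK D) (s : ℕ) (hs : D.IsPosRoot s) :
    D.IsNegRoot (D.neg s) := by
  rcases h.pos_or_neg s hs.1 with h1 | h1
  · exact h1.2.2
  · exact absurd hs h1.2.1

theorem RootsOK.neg_neg' {D : ChevalleyDatum} (h : RootsOK D) (s : ℕ) (hs : D.IsNegRoot s) :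
    D.IsPosRoot (D.neg s) := by
  rcases h.pos_or_neg s hs.1 with h1 | h1
  · exact absurd hs h1.2.1
  · exact h1.2.2

theorem RootsOK.not_pos_and_neg {D : ChevalleyDatum} (h : RootsOK D) (s : ℕ)
    (hp : D.IsPosRoot s) (hn : D.IsNegRoot s) : False := by
  rcases h.pos_or_neg s hp.1 with h1 | h1
  · exact h1.2.1 hn
  · exact h1.2.1 hp

/-- a fundamental reflection maps a negative root other than `-p` to a negative root -/
theorem RootsOK.refl_negRoot {D : ChevalleyDatum} (h : RootsOK D) (i : ℕ) (hi : i < D.rank)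
    (s : ℕ) (hs : D.IsNegRoot s) (hne : s ≠ D.neg (D.simple i)) :
    D.IsNegRoot (D.reflectRoot i s) := by
  have h1 := h.neg_neg' s hs
  have h2 : D.neg s ≠ D.simple i := by
    intro h3
    apply hne
    rw [← h3, h.neg_neg s hs.1]
  have h3 := h.refl_pos i hi _ h1.1 h1 h2
  rw [h.refl_neg i hi s hs.1] at h3
  have h4 := h.neg_pos _ h3
  rwa [h.neg_neg _ (h.refl_lt i hi s hs.1)] at h4

end Cfsg.Agent.helper5.Chev
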