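import Mathlib
import Cfsg.Agent.Lib_helper5_ChevRoots
import Cfsg.Prelude.Def_ChevE7

set_option autoImplicit false

namespace Cfsg.Agent.helper5.Chev

open Cfsg.Lie

set_option maxRecDepth 1000000 in
set_option maxHeartbeats 0 in
theorem rootsC_E7_0 : rootsCheckRange chevE7 0 42 = true := by decide +kernel

set_option maxRecDepth 1000000 in
set_option maxHeartbeats 0 in
theorem rootsC_E7_1 : rootsCheckRange chevE7 42 42 = true := by decide +kernel

set_option maxRecDepth 1000000 in
set_option maxHeartbeats 0 in
theorem rootsC_E7_2 : rootsCheckRange chevE7 84 42 = true := by decide +kernel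

set_option maxRecDepth 1000000 in
set_option maxHeartbeats 0 in
theorem rootsI_E7 : ∀ i < chevE7.rank, rootsCheckI chevE7 i = true := by decide +kernel

theorem rootsOK_E7 : RootsOK chevE7 := by
  apply rootsOK_of_chunks chevE7 42 3 (by decide +kernel) (by decide +kernel) ?_ rootsI_E7
  intro k hk
  interval_cases k
  · exact rootsC_E7_0
  · exact rootsC_E7_1
  · exact rootsC_E7_2

end Cfsg.Agent.helper5.Chev
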