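import Mathlib
import Cfsg.Agent.Lib_helper5_ChevRoots
import Cfsg.Prelude.Def_ChevE8

set_option autoImplicit false

namespace Cfsg.Agent.helper5.Chev

open Cfsg.Lie

set_option maxRecDepth 1000000 in
set_option maxHeartbeats 0 in
theorem rootsC_E8_0 : rootsCheckRange chevE8 0 30 = true := by decide +kernel

set_option maxRecDepth 1000000 in
set_option maxHeartbeats 0 in
theorem rootsC_E8_1 : rootsCheckRange chevE8 30 30 = true := by decide +kernel

set_option maxRecDepth 1000000 in
set_option maxHeartbeats 0 in
theorem rootsC_E8_2 : rootsCheckRange chevE8 60 30 = true := by decide +kernel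

set_option maxRecDepth 1000000 in
set_option maxHeartbeats 0 in
theorem rootsC_E8_3 : rootsCheckRange chevE8 90 30 = true := by decide +kernel

set_option maxRecDepth 1000000 in
set_option maxHeartbeats 0 in
theorem rootsC_E8_4 : rootsCheckRange chevE8 120 30 = true := by decide +kernel

set_option maxRecDepth 1000000 in
set_option maxHeartbeats 0 in
theorem rootsC_E8_5 : rootsCheckRange chevE8 150 30 = true := by decide +kernel

set_option maxRecDepth 1000000 in
set_option maxHeartbeats 0 in
theorem rootsC_E8_6 : rootsCheckRange chevE8 180 30 = true := by decide +kernel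

set_option maxRecDepth 1000000 in
set_option maxHeartbeats 0 in
theorem rootsC_E8_7 : rootsCheckRange chevE8 210 30 = true := by decide +kernel

set_option maxRecDepth 1000000 in
set_option maxHeartbeats 0 in
theorem rootsI_E8 : ∀ i < chevE8.rank, rootsCheckI chevE8 i = true := by decide +kernel

theorem rootsOK_E8 : RootsOK chevE8 := by
  apply rootsOK_of_chunks chevE8 30 8 (by decide +kernel) (by decide +kernel) ?_ rootsI_E8
  intro k hk
  interval_cases k
  · exact rootsC_E8_0
  · exact rootsC_E8_1
  · exact rootsC_E8_2
  · exact rootsC_E8_3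
  · exact rootsC_E8_4
  · exact rootsC_E8_5
  · exact rootsC_E8_6
  · exact rootsC_E8_7

end Cfsg.Agent.helper5.Chev
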