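import Mathlib
import Cfsg.Agent.Lib_helper5_ChevRoots
import Cfsg.Prelude.Def_ChevG2
import Cfsg.Prelude.Def_ChevB2
import Cfsg.Prelude.Def_ChevD4
import Cfsg.Prelude.Def_ChevF4
import Cfsg.Prelude.Def_ChevE6

set_option autoImplicit false

namespace Cfsg.Agent.helper5.Chev

open Cfsg.Lie

set_option maxRecDepth 1000000 in
set_option maxHeartbeats 0 in
theorem rootsC_G2_0 : rootsCheckRange chevG2 0 12 = true := by decide +kernel

set_option maxRecDepth 1000000 in
set_option maxHeartbeats 0 in
theorem rootsI_G2 : ∀ i < chevG2.rank, rootsCheckI chevG2 i = true := by decide +kernel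

theorem rootsOK_G2 : RootsOK chevG2 := by
  apply rootsOK_of_chunks chevG2 12 1 (by decide +kernel) (by decide +kernel) ?_ rootsI_G2
  intro k hk
  interval_cases k
  · exact rootsC_G2_0

set_option maxRecDepth 1000000 in
set_option maxHeartbeats 0 in
theorem rootsC_B2_0 : rootsCheckRange chevB2 0 8 = true := by decide +kernel

set_option maxRecDepth 1000000 in
set_option maxHeartbeats 0 in
theorem rootsI_B2 : ∀ i < chevB2.rank, rootsCheckI chevB2 i = true := by decide +kernel

theorem rootsOK_B2 : RootsOK chevB2 := by
  apply rootsOK_of_chunks chevB2 8 1 (by decide +kernel) (by decide +kernel) ?_ rootsI_B2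
  intro k hk
  interval_cases k
  · exact rootsC_B2_0

set_option maxRecDepth 1000000 in
set_option maxHeartbeats 0 in
theorem rootsC_D4_0 : rootsCheckRange chevD4 0 24 = true := by decide +kernel

set_option maxRecDepth 1000000 in
set_option maxHeartbeats 0 in
theorem rootsI_D4 : ∀ i < chevD4.rank, rootsCheckI chevD4 i = true := by decide +kernel

theorem rootsOK_D4 : RootsOK chevD4 := by
  apply rootsOK_of_chunks chevD4 24 1 (by decide +kernel) (by decide +kernel) ?_ rootsI_D4
  intro k hk
  interval_cases k
  · exact rootsC_D4_0

set_option maxRecDepth 1000000 in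
set_option maxHeartbeats 0 in
theorem rootsC_F4_0 : rootsCheckRange chevF4 0 24 = true := by decide +kernel

set_option maxRecDepth 1000000 in
set_option maxHeartbeats 0 in
theorem rootsC_F4_1 : rootsCheckRange chevF4 24 24 = true := by decide +kernel

set_option maxRecDepth 1000000 in
set_option maxHeartbeats 0 in
theorem rootsI_F4 : ∀ i < chevF4.rank, rootsCheckI chevF4 i = true := by decide +kernel

theorem rootsOK_F4 : RootsOK chevF4 := by
  apply rootsOK_of_chunks chevF4 24 2 (by decide +kernel) (by decide +kernel) ?_ rootsI_F4
  intro k hk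
  interval_cases k
  · exact rootsC_F4_0
  · exact rootsC_F4_1

set_option maxRecDepth 1000000 in
set_option maxHeartbeats 0 in
theorem rootsC_E6_0 : rootsCheckRange chevE6 0 24 = true := by decide +kernel

set_option maxRecDepth 1000000 in
set_option maxHeartbeats 0 in
theorem rootsC_E6_1 : rootsCheckRange chevE6 24 24 = true := by decide +kernel

set_option maxRecDepth 1000000 in
set_option maxHeartbeats 0 in
theorem rootsC_E6_2 : rootsCheckRange chevE6 48 24 = true := by decide +kernel

set_option maxRecDepth 1000000 in
set_option maxHeartbeats 0 in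
theorem rootsI_E6 : ∀ i < chevE6.rank, rootsCheckI chevE6 i = true := by decide +kernel

theorem rootsOK_E6 : RootsOK chevE6 := by
  apply rootsOK_of_chunks chevE6 24 3 (by decide +kernel) (by decide +kernel) ?_ rootsI_E6
  intro k hk
  interval_cases k
  · exact rootsC_E6_0
  · exact rootsC_E6_1
  · exact rootsC_E6_2

end Cfsg.Agent.helper5.Chev
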