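import Mathlib
import Cfsg.Prelude.Def_ChevStructure

set_option autoImplicit false

/-! Conjugating root elements by a diagonal matrix of the shape of `h_p(c)` (helper5). -/

namespace Cfsg.Agent.helper5.Chev

open Cfsg.Lie

/-- table check: the Cartan integers `A_{p_i, ·}` are additive along chains and odd under `r ↦ -r` -/
def cartanCheckIS (D : ChevalleyDatum) (i s : ℕ) : Bool :=
    decide (D.cartan i (D.negIdx.getD s 0) = - D.cartan i s) &&
      (D.chain.getD s #[]).toList.all fun e => e.2.toList.zipIdx.all fun q =>
        decide (D.cartan i q.1.1 = ((q.2 + 1 : ℕ) : ℤ) * D.cartan i s + D.cartan i e.1)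

/-- the check for the roots `lo, …, lo + n - 1` -/
def cartanCheckRange (D : ChevalleyDatum) (i lo n : ℕ) : Bool :=
  (List.range n).all fun k => cartanCheckIS D i (lo + k)

theorem cartanCheckIS_of_range (D : ChevalleyDatum) (i lo n : ℕ)
    (h : cartanCheckRange D i lo n = true) (s : ℕ) (h1 : lo ≤ s) (h2 : s < lo + n) :
    cartanCheckIS D i s = true := by
  unfold cartanCheckRange at h
  rw [List.all_eq_true] at h
  have := h (s - lo) (List.mem_range.mpr (by omega))
  rwa [Nat.add_sub_cancel' h1] at this

def cartanCheckI (D : ChevalleyDatum) (i : ℕ) : Prop := ∀ s < D.nroots, cartanCheckIS D i s = true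

theorem array_getD_eq {α : Type*} (a : Array α) (i : ℕ) (d : α) :
    a.getD i d = a.toList.getD i d := by
  simp [Array.getD, List.getD]
  split_ifs with h <;> simp [h]

/-- list-based lookup of the Cartan integers (cheap in the kernel) -/
def cartanL (D : ChevalleyDatum) (i s : ℕ) : ℤ :=
  (D.cartanSR.toList.getD i #[]).toList.getD s 0

theorem cartanL_eq (D : ChevalleyDatum) (i s : ℕ) : cartanL D i s = D.cartan i s := by
  unfold cartanL ChevalleyDatum.cartan
  rw [array_getD_eq D.cartanSR i #[], array_getD_eq (D.cartanSR.toList.getD i #[]) s 0]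

/-- the same check as `cartanCheckIS`, with list-based lookups -/
def cartanCheckISL (D : ChevalleyDatum) (i s : ℕ) : Bool :=
    decide (cartanL D i (D.negIdx.toList.getD s 0) = - cartanL D i s) &&
      (D.chain.toList.getD s #[]).toList.all fun e => e.2.toList.zipIdx.all fun q =>
        decide (cartanL D i q.1.1 = ((q.2 + 1 : ℕ) : ℤ) * cartanL D i s + cartanL D i e.1)

theorem cartanCheckISL_eq (D : ChevalleyDatum) (i s : ℕ) :
    cartanCheckISL D i s = cartanCheckIS D i s := by
  unfold cartanCheckISL cartanCheckIS
  simp only [cartanL_eq, ← array_getD_eq]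

/-- the fast check for the roots `lo, …, lo + n - 1` -/
def cartanCheckRangeL (D : ChevalleyDatum) (i lo n : ℕ) : Bool :=
  (List.range n).all fun k => cartanCheckISL D i (lo + k)

theorem cartanCheckRange_of_L (D : ChevalleyDatum) (i lo n : ℕ)
    (h : cartanCheckRangeL D i lo n = true) : cartanCheckRange D i lo n = true := by
  unfold cartanCheckRangeL at h
  unfold cartanCheckRange
  simpa only [cartanCheckISL_eq] using h

section
variable {F : Type*} [Field F]

theorem chainCoeff_mem' (D : ChevalleyDatum) (r s u : ℕ) (km : ℕ × ℤ)
    (h : km ∈ D.chainCoeff r s u) :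
    ∃ e ∈ (D.chain.getD r #[]).toList, e.1 = s ∧ ∃ q ∈ e.2.toList.zipIdx, q.1.1 = u ∧
      km.1 = q.2 + 1 := by
  unfold ChevalleyDatum.chainCoeff at h
  rw [List.mem_flatMap] at h
  obtain ⟨e, he, hkm⟩ := h
  rw [List.mem_filter] at he
  rw [List.mem_map] at hkm
  obtain ⟨q, hq, rfl⟩ := hkm
  rw [List.mem_filter] at hq
  exact ⟨e, he.1, by simpa using he.2, q, hq.1, by simpa using hq.2, rfl⟩

/-- **Conjugation of `x_s(t)` by the diagonal matrix `diag(1, c^{A_{p_i,u}})`.** -/
theorem diag_mul_xMat (D : ChevalleyDatum) (i : ℕ) (h : cartanCheckI D i)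
    (s : Fin D.nroots) (c : F) (hc : c ≠ 0) (t : F) :
    Matrix.diagonal (Sum.elim (fun _ => (1 : F)) (fun u : Fin D.nroots => c ^ (D.cartan i u))) *
        D.xMat F s t =
      D.xMat F s (c ^ (D.cartan i s) * t) *
        Matrix.diagonal (Sum.elim (fun _ => (1 : F)) (fun u : Fin D.nroots => c ^ (D.cartan i u))) := by
  have h1 := h s.val s.2
  unfold cartanCheckIS at h1
  simp only [Bool.and_eq_true, decide_eq_true_eq, List.all_eq_true] at h1
  obtain ⟨hneg, hchain⟩ := h1
  ext row col
  rw [Matrix.diagonal_mul, Matrix.mul_diagonal]
  unfold ChevalleyDatum.xMat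
  simp only [Matrix.of_apply]
  rcases col with j | v
  · dsimp only
    rcases row with j' | u
    · dsimp only [Sum.elim_inl]
      ring
    · dsimp only [Sum.elim_inl, Sum.elim_inr]
      by_cases hu : u = s
      · subst hu
        rw [if_pos rfl, if_pos rfl]
        ring
      · rw [if_neg hu, if_neg hu]
        ring
  · dsimp only
    by_cases hvs : v = s
    · rw [if_pos hvs, if_pos hvs]
      rcases row with j' | u
      · dsimp only [Sum.elim_inl]
        ring
      · dsimp only [Sum.elim_inr]
        by_cases hu : u = s
        · rw [if_pos hu, hu, hvs]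
          ring
        · rw [if_neg hu]
          ring
    · rw [if_neg hvs, if_neg hvs]
      by_cases hvn : v.val = D.negIdx.getD s.val 0
      · rw [if_pos hvn, if_pos hvn]
        have hAv : D.cartan i v.val = - D.cartan i s.val := by rw [hvn]; exact hneg
        have hcv : c ^ (D.cartan i v.val) * c ^ (D.cartan i s.val) = 1 := by
          rw [hAv, ← zpow_add₀ hc]
          simp
        rcases row with j' | u
        · dsimp only [Sum.elim_inl, Sum.elim_inr]
          rw [one_mul]
          calc ((D.coroot.getD s.val #[]).getD j'.val 0 : ℤ) * t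
              = ((D.coroot.getD s.val #[]).getD j'.val 0 : ℤ) * t *
                (c ^ (D.cartan i v.val) * c ^ (D.cartan i s.val)) := by rw [hcv, mul_one]
            _ = _ := by ring
        · dsimp only [Sum.elim_inr]
          by_cases huv : u = v
          · rw [if_pos huv, if_pos huv, huv]
            ring
          · rw [if_neg huv, if_neg huv]
            by_cases hus : u = s
            · rw [if_pos hus, if_pos hus, hus]
              calc c ^ (D.cartan i s.val) * -(t ^ 2)
                  = c ^ (D.cartan i s.val) * -(t ^ 2) *
                    (c ^ (D.cartan i v.val) * c ^ (D.cartan i s.val)) := by rw [hcv, mul_one]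
                _ = _ := by ring
            · rw [if_neg hus, if_neg hus]
              ring
      · rw [if_neg hvn, if_neg hvn]
        rcases row with j' | u
        · dsimp only [Sum.elim_inl]
          ring
        · dsimp only [Sum.elim_inr]
          rw [mul_add, add_mul]
          congr 1
          · by_cases huv : u = v
            · rw [if_pos huv, huv]
              ring
            · rw [if_neg huv]
              ring
          · rw [← List.sum_map_mul_left, ← List.sum_map_mul_right]
            congr 1
            apply List.map_congr_left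
            intro km hkm
            obtain ⟨e, he, hev, q, hq, hqu, hk⟩ := chainCoeff_mem' D _ _ _ km hkm
            have hA := hchain e he q hq
            rw [hqu, hev, ← hk] at hA
            have hpow : c ^ (D.cartan i u.val) =
                (c ^ (D.cartan i s.val)) ^ km.1 * c ^ (D.cartan i v.val) := by
              rw [hA, zpow_add₀ hc, mul_comm ((km.1 : ℕ) : ℤ), zpow_mul, zpow_natCast]
            rw [hpow, mul_pow]
            ring

end

end Cfsg.Agent.helper5.Chev
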