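import Mathlib
import Cfsg.Agent.Lib_helper5_ChevH
import Cfsg.Agent.Lib_helper5_ChevHConj

set_option autoImplicit false

/-! The elements `h_r(c)` for arbitrary roots `r` are diagonal: table check (helper5). -/

namespace Cfsg.Agent.helper5.Chev

open Cfsg.Lie

/-- the integer `A_{r,s} = Σ_i c_i(r) A_{p_i,s}` (list-based lookups, cheap in the kernel) -/
def cartanRS (D : ChevalleyDatum) (r s : ℕ) : ℤ :=
  ((List.range D.rank).map fun i =>
    (D.coroot.getD r #[]).toList.getD i 0 * (D.cartanSR.toList.getD i #[]).toList.getD s 0).sum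

theorem cartanRS_eq (D : ChevalleyDatum) (r s : ℕ) :
    cartanRS D r s =
      ((List.range D.rank).map fun i => (D.coroot.getD r #[]).getD i 0 * D.cartan i s).sum := by
  unfold cartanRS ChevalleyDatum.cartan
  congr 1
  apply List.map_congr_left
  intro i _
  rw [array_getD_eq (D.coroot.getD r #[]) i 0, array_getD_eq D.cartanSR i #[],
    array_getD_eq (D.cartanSR.toList.getD i #[]) s 0]

/-- the expected image of the coordinate `b` under `h_r(X)` -/
def hExpectedR (D : ChevalleyDatum) (r b : ℕ) : SVec :=
  if b < D.rank then vsingle b (pconst 1) else [(b, [(cartanRS D r (b - D.rank), 0, 1)])]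

def hCheckRB (D : ChevalleyDatum) (r b : ℕ) : Bool :=
  appWord D (hWordP D r) (vsingle b (pconst 1)) == hExpectedR D r b

def hCheckR (D : ChevalleyDatum) (r : ℕ) : Bool :=
  decide (D.neg r < D.nroots) && (List.range (D.rank + D.nroots)).all fun b => hCheckRB D r b

/-- the check for the roots `lo, …, lo + n - 1` -/
def hCheckRange (D : ChevalleyDatum) (lo n : ℕ) : Bool :=
  (List.range n).all fun k => hCheckR D (lo + k)

theorem hCheckR_of_range (D : ChevalleyDatum) (lo n : ℕ)
    (h : hCheckRange D lo n = true) (r : ℕ) (h1 : lo ≤ r) (h2 : r < lo + n) :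
    hCheckR D r = true := by
  unfold hCheckRange at h
  rw [List.all_eq_true] at h
  have := h (r - lo) (List.mem_range.mpr (by omega))
  rwa [Nat.add_sub_cancel' h1] at this

/-- the check of `h_r` on the columns `lo, …, lo + n - 1` -/
def hCheckRCols (D : ChevalleyDatum) (r lo n : ℕ) : Bool :=
  (List.range n).all fun k => hCheckRB D r (lo + k)

theorem hCheckR_of_cols (D : ChevalleyDatum) (r n m : ℕ) (hneg : D.neg r < D.nroots)
    (hn : 0 < n) (hm : D.rank + D.nroots ≤ m * n)
    (h : ∀ k < m, hCheckRCols D r (k * n) n = true) : hCheckR D r = true := by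
  unfold hCheckR
  rw [Bool.and_eq_true, decide_eq_true_eq, List.all_eq_true]
  refine ⟨hneg, ?_⟩
  intro b hb
  rw [List.mem_range] at hb
  have hk : b / n < m := by
    apply Nat.div_lt_of_lt_mul
    rw [Nat.mul_comm]
    omega
  have h1 : b / n * n ≤ b := Nat.div_mul_le_self b n
  have h2 : b - b / n * n < n := by
    have := Nat.div_add_mod b n
    have := Nat.mod_lt b hn
    rw [Nat.mul_comm]
    omega
  have h3 := h (b / n) hk
  unfold hCheckRCols at h3
  rw [List.all_eq_true] at h3
  have h4 := h3 (b - b / n * n) (List.mem_range.mpr h2)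
  rwa [Nat.add_sub_cancel' h1] at h4

theorem hCheckRange_one (D : ChevalleyDatum) (r : ℕ) (h : hCheckR D r = true) :
    hCheckRange D r 1 = true := by
  unfold hCheckRange
  rw [List.all_eq_true]
  intro k hk
  rw [List.mem_range] at hk
  have : k = 0 := by omega
  subst this
  exact h

def hCheckAll (D : ChevalleyDatum) : Prop := ∀ r < D.nroots, hCheckR D r = true

theorem hCheckAll_of_chunks (D : ChevalleyDatum) (n m : ℕ) (hn : 0 < n) (hm : D.nroots ≤ m * n)
    (h : ∀ k < m, hCheckRange D (k * n) n = true) : hCheckAll D := by
  intro r hr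
  have hk : r / n < m := by
    apply Nat.div_lt_of_lt_mul
    rw [Nat.mul_comm]
    omega
  have h1 : r / n * n ≤ r := Nat.div_mul_le_self r n
  have h2 : r < r / n * n + n := by
    have := Nat.div_add_mod r n
    have := Nat.mod_lt r hn
    rw [Nat.mul_comm]
    omega
  exact hCheckR_of_range D (r / n * n) n (h (r / n) hk) r h1 h2

section
variable {F : Type*} [Field F]

/-- **`h_r(c)` is diagonal** for every root `r`, from the table checks. -/
theorem hMat_diag_of_checkR (D : ChevalleyDatum) (r : ℕ) (hr : r < D.nroots)
    (h : hCheckR D r = true) (c : F) (hc : c ≠ 0) :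
    D.hMat F r c =
      Matrix.diagonal (Sum.elim (fun _ => (1 : F)) (fun s : Fin D.nroots => c ^ (cartanRS D r s))) := by
  unfold hCheckR at h
  rw [Bool.and_eq_true, decide_eq_true_eq, List.all_eq_true] at h
  obtain ⟨hneg, h3⟩ := h
  apply matrix_eq_of_units D c 1
  intro idx row
  have h4 := h3 (code D idx) (List.mem_range.mpr (code_lt D idx))
  unfold hCheckRB at h4
  rw [beq_iff_eq] at h4
  have hw : ∀ a ∈ hWordP D r, a.1 < D.nroots := by
    intro a ha
    unfold hWordP at ha
    simp only [List.mem_cons, List.not_mem_nil, or_false] at ha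
    rcases ha with rfl | rfl | rfl | rfl | rfl | rfl
    · exact hr
    · exact hneg
    · exact hr
    · exact hr
    · exact hneg
    · exact hr
  have e1 := vEval_appWord D c 1 hc one_ne_zero (hWordP D r) hw
    (vsingle (code D idx) (pconst 1)) row
  rw [hWord_eval, h4] at e1
  unfold ChevalleyDatum.hMat
  rw [← e1, vEval_unit, mulVec_unit]
  -- evaluate the expected vector
  unfold hExpectedR
  rcases idx with j | s
  · have hj : code D (Sum.inl j) = j.val := rfl
    rw [hj, if_pos j.2, vEval_vsingle, pEval_pconst]
    rw [Matrix.diagonal_apply]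
    by_cases hrow : row = Sum.inl j
    · subst hrow
      simp [code]
    · have : ¬ j.val = code D row := by
        intro h'
        apply hrow
        apply code_injective D
        rw [hj, h']
      rw [if_neg this, if_neg hrow]
  · have hs' : code D (Sum.inr s) = D.rank + s.val := rfl
    have hnlt : ¬ D.rank + s.val < D.rank := by omega
    have hsub : D.rank + s.val - D.rank = s.val := by omega
    rw [hs', if_neg hnlt, hsub, vEval_cons, vEval_nil, add_zero, Matrix.diagonal_apply]
    by_cases hrow : row = Sum.inr s
    · subst hrow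
      simp [code, mEval]
    · have : ¬ D.rank + s.val = code D row := by
        intro h'
        apply hrow
        apply code_injective D
        rw [hs', h']
      simp only [this, if_false]
      rw [if_neg hrow]

end

end Cfsg.Agent.helper5.Chev
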