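import Mathlib
import Cfsg.Agent.Lib_helper5_ChevHR

set_option autoImplicit false

/-! The torus `{∏ h_{p_i}(c_i)}` of a Chevalley datum as diagonal matrices (helper5). -/

namespace Cfsg.Agent.helper5.Chev

open Cfsg.Lie

section
variable {F : Type*} [Field F]

/-- the character value `∏_i c_i^{A_{p_i,s}}` -/
def torusChar (D : ChevalleyDatum) (c : ℕ → F) (s : ℕ) : F :=
  ((List.range D.rank).map fun i => (c i) ^ (D.cartan i s)).prod

/-- the diagonal matrix `∏_i h_{p_i}(c_i)` -/
def torusMat (D : ChevalleyDatum) (c : ℕ → F) : Matrix D.Idx D.Idx F :=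
  Matrix.diagonal (Sum.elim (fun _ => (1 : F)) (fun s : Fin D.nroots => torusChar D c s))

theorem wordMat_append (D : ChevalleyDatum) (w₁ w₂ : List (ℕ × F)) :
    D.wordMat F (w₁ ++ w₂) = D.wordMat F w₁ * D.wordMat F w₂ := by
  unfold ChevalleyDatum.wordMat
  rw [List.map_append, List.prod_append]

theorem wordMat_nil (D : ChevalleyDatum) : D.wordMat F ([] : List (ℕ × F)) = 1 := by
  unfold ChevalleyDatum.wordMat
  simp

theorem diag_mul_diag (D : ChevalleyDatum) (f g : Fin D.nroots → F) :
    Matrix.diagonal (Sum.elim (fun _ : Fin D.rank => (1 : F)) f) *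
      Matrix.diagonal (Sum.elim (fun _ : Fin D.rank => (1 : F)) g) =
      Matrix.diagonal (Sum.elim (fun _ : Fin D.rank => (1 : F)) (fun s => f s * g s)) := by
  rw [Matrix.diagonal_mul_diagonal]
  congr 1
  funext x
  rcases x with j | s
  · simp
  · simp

theorem diag_one (D : ChevalleyDatum) :
    Matrix.diagonal (Sum.elim (fun _ : Fin D.rank => (1 : F)) (fun _ : Fin D.nroots => (1 : F))) =
      (1 : Matrix D.Idx D.Idx F) := by
  rw [← Matrix.diagonal_one]
  congr 1
  funext x
  rcases x with j | s <;> rfl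

/-- the word `∏_{i ∈ L} h_{p_i}(c_i)` is diagonal -/
theorem wordMat_flatMap_hWord (D : ChevalleyDatum)
    (hsimple : ∀ i < D.rank, ∀ c : F, c ≠ 0 → D.hMat F (D.simple i) c =
      Matrix.diagonal (Sum.elim (fun _ => (1 : F)) (fun s : Fin D.nroots => c ^ (D.cartan i s))))
    (c : ℕ → F) (L : List ℕ) (hL : ∀ i ∈ L, i < D.rank ∧ c i ≠ 0) :
    D.wordMat F (L.flatMap fun i => D.hWord (D.simple i) (c i)) =
      Matrix.diagonal (Sum.elim (fun _ => (1 : F))
        (fun s : Fin D.nroots => (L.map fun i => (c i) ^ (D.cartan i s)).prod)) := by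
  induction L with
  | nil =>
    rw [List.flatMap_nil, wordMat_nil]
    simp only [List.map_nil, List.prod_nil]
    exact (diag_one D).symm
  | cons i L ih =>
    rw [List.flatMap_cons, wordMat_append, ih (fun j hj => hL j (List.mem_cons_of_mem _ hj))]
    have h1 := hL i List.mem_cons_self
    have h2 : D.wordMat F (D.hWord (D.simple i) (c i)) = D.hMat F (D.simple i) (c i) := rfl
    rw [h2, hsimple i h1.1 (c i) h1.2, diag_mul_diag]
    simp only [List.map_cons, List.prod_cons]

theorem wordMat_torus (D : ChevalleyDatum)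
    (hsimple : ∀ i < D.rank, ∀ c : F, c ≠ 0 → D.hMat F (D.simple i) c =
      Matrix.diagonal (Sum.elim (fun _ => (1 : F)) (fun s : Fin D.nroots => c ^ (D.cartan i s))))
    (c : ℕ → F) (hc : ∀ i < D.rank, c i ≠ 0) :
    D.wordMat F ((List.range D.rank).flatMap fun i => D.hWord (D.simple i) (c i)) =
      torusMat D c :=
  wordMat_flatMap_hWord D hsimple c (List.range D.rank)
    (fun i hi => ⟨List.mem_range.mp hi, hc i (List.mem_range.mp hi)⟩)

theorem torusMat_mul (D : ChevalleyDatum) (c c' : ℕ → F) :
    torusMat D c * torusMat D c' = torusMat D (fun i => c i * c' i) := by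
  unfold torusMat
  rw [diag_mul_diag]
  congr 2
  funext s
  unfold torusChar
  rw [← List.prod_map_mul]
  congr 1
  apply List.map_congr_left
  intro i _
  rw [mul_zpow]

theorem torusMat_one (D : ChevalleyDatum) : torusMat D (fun _ => (1 : F)) = 1 := by
  unfold torusMat
  rw [← diag_one D]
  congr 2
  funext s
  unfold torusChar
  apply List.prod_eq_one
  intro x hx
  rw [List.mem_map] at hx
  obtain ⟨i, _, rfl⟩ := hx
  rw [one_zpow]

theorem zpow_list_sum (t : F) (ht : t ≠ 0) (L : List ℤ) :
    t ^ L.sum = (L.map fun a => t ^ a).prod := by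
  induction L with
  | nil => simp
  | cons a L ih => rw [List.sum_cons, zpow_add₀ ht, ih, List.map_cons, List.prod_cons]

/-- `h_r(t)` as a torus element -/
theorem hMat_eq_torusMat (D : ChevalleyDatum) (r : ℕ) (hr : r < D.nroots)
    (h : hCheckR D r = true) (t : F) (ht : t ≠ 0) :
    D.hMat F r t = torusMat D (fun i => t ^ ((D.coroot.getD r #[]).getD i 0)) := by
  rw [hMat_diag_of_checkR D r hr h t ht]
  unfold torusMat
  congr 2
  funext s
  unfold torusChar
  rw [cartanRS_eq, zpow_list_sum t ht, List.map_map]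
  congr 1
  apply List.map_congr_left
  intro i _
  simp only [Function.comp]
  rw [zpow_mul]

end

end Cfsg.Agent.helper5.Chev
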