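import Mathlib
import Cfsg.Agent.Lib_helper5_ChevNXTabB2_0
import Cfsg.Agent.Lib_helper5_ChevNXB2_00

set_option autoImplicit false

namespace Cfsg.Agent.helper5.Chev

open Cfsg.Lie

theorem nxAll_B2 : NXAll chevB2 := by
  intro i hi
  have hn : chevB2.rank = 2 := rfl
  rw [hn] at hi
  interval_cases i
  · refine ⟨nxca_B2_0, nxrt_B2_0, nxeta_B2_0, nxTab_B2_0, ?_⟩
    apply nxCheckS_of_chunks chevB2 0 nxca_B2_0 nxrt_B2_0 nxeta_B2_0 8 1 (by decide +kernel) (by decide +kernel)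
    intro k hk
    interval_cases k
    · exact nxC_B2_0_0
  · refine ⟨nxca_B2_1, nxrt_B2_1, nxeta_B2_1, nxTab_B2_1, ?_⟩
    apply nxCheckS_of_chunks chevB2 1 nxca_B2_1 nxrt_B2_1 nxeta_B2_1 8 1 (by decide +kernel) (by decide +kernel)
    intro k hk
    interval_cases k
    · exact nxC_B2_1_0

end Cfsg.Agent.helper5.Chev
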