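import Mathlib
import Cfsg.Agent.Lib_helper5_ChevNX
import Cfsg.Prelude.Def_ChevD4

set_option autoImplicit false

namespace Cfsg.Agent.helper5.Chev

open Cfsg.Lie

def nxca_D4_0 : List ℤ := [2, -1, 0, 0]
def nxrt_D4_0 : List ℕ := [0, 6, 7, 8, 9, 18, 1, 2, 3, 4, 10, 11, 12, 13, 19, 20, 21, 22, 5, 14, 15, 16, 17, 23]
def nxeta_D4_0 : List ℤ := [1, 1, 1, 1, 1, -1, -1, -1, -1, -1, 1, 1, 1, 1, -1, -1, -1, -1, -1, 1, 1, 1, 1, 1]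

def nxca_D4_1 : List ℤ := [-1, 2, -1, -1]
def nxrt_D4_1 : List ℕ := [1, 0, 2, 3, 5, 4, 6, 10, 11, 14, 7, 8, 15, 16, 9, 12, 13, 17, 19, 18, 20, 21, 23, 22]
def nxeta_D4_1 : List ℤ := [-1, 1, 1, 1, -1, 1, 1, 1, 1, -1, -1, -1, -1, -1, -1, 1, 1, 1, 1, -1, 1, 1, 1, -1]

def nxca_D4_2 : List ℤ := [0, -1, 2, 0]
def nxrt_D4_2 : List ℕ := [0, 3, 4, 1, 2, 5, 8, 9, 6, 7, 13, 11, 12, 10, 16, 17, 14, 15, 18, 21, 22, 19, 20, 23]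
def nxeta_D4_2 : List ℤ := [1, -1, -1, 1, 1, 1, -1, -1, 1, 1, -1, 1, 1, -1, 1, 1, -1, -1, 1, 1, 1, -1, -1, 1]

def nxca_D4_3 : List ℤ := [0, -1, 0, 2]
def nxrt_D4_3 : List ℕ := [0, 2, 1, 4, 3, 5, 7, 6, 9, 8, 10, 12, 11, 13, 15, 14, 17, 16, 18, 20, 19, 22, 21, 23]
def nxeta_D4_3 : List ℤ := [1, -1, 1, -1, 1, 1, -1, 1, -1, 1, 1, -1, -1, 1, 1, -1, 1, -1, 1, 1, -1, 1, -1, 1]

end Cfsg.Agent.helper5.Chev
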