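import Mathlib
import Cfsg.Agent.Lib_helper5_ChevNXDefsD4

set_option autoImplicit false

namespace Cfsg.Agent.helper5.Chev

open Cfsg.Lie

set_option maxRecDepth 1000000 in
set_option maxHeartbeats 0 in
theorem nxC_D4_0_0 : nxCheckRange chevD4 nxca_D4_0 nxrt_D4_0 nxeta_D4_0 0 0 24 = true := by decide +kernel

set_option maxRecDepth 1000000 in
set_option maxHeartbeats 0 in
theorem nxC_D4_1_0 : nxCheckRange chevD4 nxca_D4_1 nxrt_D4_1 nxeta_D4_1 1 0 24 = true := by decide +kernel

set_option maxRecDepth 1000000 in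
set_option maxHeartbeats 0 in
theorem nxC_D4_2_0 : nxCheckRange chevD4 nxca_D4_2 nxrt_D4_2 nxeta_D4_2 2 0 24 = true := by decide +kernel

set_option maxRecDepth 1000000 in
set_option maxHeartbeats 0 in
theorem nxC_D4_3_0 : nxCheckRange chevD4 nxca_D4_3 nxrt_D4_3 nxeta_D4_3 3 0 24 = true := by decide +kernel

end Cfsg.Agent.helper5.Chev
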