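import Mathlib
import Cfsg.Agent.Lib_helper5_ChevNXTabD4_0
import Cfsg.Agent.Lib_helper5_ChevNXD4_00

set_option autoImplicit false

namespace Cfsg.Agent.helper5.Chev

open Cfsg.Lie

theorem nxAll_D4 : NXAll chevD4 := by
  intro i hi
  have hn : chevD4.rank = 4 := rfl
  rw [hn] at hi
  interval_cases i
  · refine ⟨nxca_D4_0, nxrt_D4_0, nxeta_D4_0, nxTab_D4_0, ?_⟩
    apply nxCheckS_of_chunks chevD4 0 nxca_D4_0 nxrt_D4_0 nxeta_D4_0 24 1 (by decide +kernel) (by decide +kernel)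
    intro k hk
    interval_cases k
    · exact nxC_D4_0_0
  · refine ⟨nxca_D4_1, nxrt_D4_1, nxeta_D4_1, nxTab_D4_1, ?_⟩
    apply nxCheckS_of_chunks chevD4 1 nxca_D4_1 nxrt_D4_1 nxeta_D4_1 24 1 (by decide +kernel) (by decide +kernel)
    intro k hk
    interval_cases k
    · exact nxC_D4_1_0
  · refine ⟨nxca_D4_2, nxrt_D4_2, nxeta_D4_2, nxTab_D4_2, ?_⟩
    apply nxCheckS_of_chunks chevD4 2 nxca_D4_2 nxrt_D4_2 nxeta_D4_2 24 1 (by decide +kernel) (by decide +kernel)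
    intro k hk
    interval_cases k
    · exact nxC_D4_2_0
  · refine ⟨nxca_D4_3, nxrt_D4_3, nxeta_D4_3, nxTab_D4_3, ?_⟩
    apply nxCheckS_of_chunks chevD4 3 nxca_D4_3 nxrt_D4_3 nxeta_D4_3 24 1 (by decide +kernel) (by decide +kernel)
    intro k hk
    interval_cases k
    · exact nxC_D4_3_0

end Cfsg.Agent.helper5.Chev
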