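import Mathlib
import Cfsg.Agent.Lib_helper5_ChevNXDefsE6

set_option autoImplicit false

namespace Cfsg.Agent.helper5.Chev

open Cfsg.Lie

set_option maxRecDepth 1000000 in
set_option maxHeartbeats 0 in
theorem nxC_E6_0_0 : nxCheckRange chevE6 nxca_E6_0 nxrt_E6_0 nxeta_E6_0 0 0 12 = true := by decide +kernel

set_option maxRecDepth 1000000 in
set_option maxHeartbeats 0 in
theorem nxC_E6_0_1 : nxCheckRange chevE6 nxca_E6_0 nxrt_E6_0 nxeta_E6_0 0 12 12 = true := by decide +kernel

set_option maxRecDepth 1000000 in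
set_option maxHeartbeats 0 in
theorem nxC_E6_0_2 : nxCheckRange chevE6 nxca_E6_0 nxrt_E6_0 nxeta_E6_0 0 24 12 = true := by decide +kernel

set_option maxRecDepth 1000000 in
set_option maxHeartbeats 0 in
theorem nxC_E6_0_3 : nxCheckRange chevE6 nxca_E6_0 nxrt_E6_0 nxeta_E6_0 0 36 12 = true := by decide +kernel

set_option maxRecDepth 1000000 in
set_option maxHeartbeats 0 in
theorem nxC_E6_0_4 : nxCheckRange chevE6 nxca_E6_0 nxrt_E6_0 nxeta_E6_0 0 48 12 = true := by decide +kernel

set_option maxRecDepth 1000000 in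
set_option maxHeartbeats 0 in
theorem nxC_E6_0_5 : nxCheckRange chevE6 nxca_E6_0 nxrt_E6_0 nxeta_E6_0 0 60 12 = true := by decide +kernel

set_option maxRecDepth 1000000 in
set_option maxHeartbeats 0 in
theorem nxC_E6_1_0 : nxCheckRange chevE6 nxca_E6_1 nxrt_E6_1 nxeta_E6_1 1 0 12 = true := by decide +kernel

set_option maxRecDepth 1000000 in
set_option maxHeartbeats 0 in
theorem nxC_E6_1_1 : nxCheckRange chevE6 nxca_E6_1 nxrt_E6_1 nxeta_E6_1 1 12 12 = true := by decide +kernel

set_option maxRecDepth 1000000 in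
set_option maxHeartbeats 0 in
theorem nxC_E6_1_2 : nxCheckRange chevE6 nxca_E6_1 nxrt_E6_1 nxeta_E6_1 1 24 12 = true := by decide +kernel

set_option maxRecDepth 1000000 in
set_option maxHeartbeats 0 in
theorem nxC_E6_1_3 : nxCheckRange chevE6 nxca_E6_1 nxrt_E6_1 nxeta_E6_1 1 36 12 = true := by decide +kernel

set_option maxRecDepth 1000000 in
set_option maxHeartbeats 0 in
theorem nxC_E6_1_4 : nxCheckRange chevE6 nxca_E6_1 nxrt_E6_1 nxeta_E6_1 1 48 12 = true := by decide +kernel

set_option maxRecDepth 1000000 in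
set_option maxHeartbeats 0 in
theorem nxC_E6_1_5 : nxCheckRange chevE6 nxca_E6_1 nxrt_E6_1 nxeta_E6_1 1 60 12 = true := by decide +kernel

set_option maxRecDepth 1000000 in
set_option maxHeartbeats 0 in
theorem nxC_E6_2_0 : nxCheckRange chevE6 nxca_E6_2 nxrt_E6_2 nxeta_E6_2 2 0 12 = true := by decide +kernel

set_option maxRecDepth 1000000 in
set_option maxHeartbeats 0 in
theorem nxC_E6_2_1 : nxCheckRange chevE6 nxca_E6_2 nxrt_E6_2 nxeta_E6_2 2 12 12 = true := by decide +kernel

set_option maxRecDepth 1000000 in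
set_option maxHeartbeats 0 in
theorem nxC_E6_2_2 : nxCheckRange chevE6 nxca_E6_2 nxrt_E6_2 nxeta_E6_2 2 24 12 = true := by decide +kernel

set_option maxRecDepth 1000000 in
set_option maxHeartbeats 0 in
theorem nxC_E6_2_3 : nxCheckRange chevE6 nxca_E6_2 nxrt_E6_2 nxeta_E6_2 2 36 12 = true := by decide +kernel

set_option maxRecDepth 1000000 in
set_option maxHeartbeats 0 in
theorem nxC_E6_2_4 : nxCheckRange chevE6 nxca_E6_2 nxrt_E6_2 nxeta_E6_2 2 48 12 = true := by decide +kernel

set_option maxRecDepth 1000000 in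
set_option maxHeartbeats 0 in
theorem nxC_E6_2_5 : nxCheckRange chevE6 nxca_E6_2 nxrt_E6_2 nxeta_E6_2 2 60 12 = true := by decide +kernel

end Cfsg.Agent.helper5.Chev
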