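import Mathlib
import Cfsg.Agent.Lib_helper5_ChevNXDefsE6

set_option autoImplicit false

namespace Cfsg.Agent.helper5.Chev

open Cfsg.Lie

set_option maxRecDepth 1000000 in
set_option maxHeartbeats 0 in
theorem nxC_E6_3_0 : nxCheckRange chevE6 nxca_E6_3 nxrt_E6_3 nxeta_E6_3 3 0 12 = true := by decide +kernel

set_option maxRecDepth 1000000 in
set_option maxHeartbeats 0 in
theorem nxC_E6_3_1 : nxCheckRange chevE6 nxca_E6_3 nxrt_E6_3 nxeta_E6_3 3 12 12 = true := by decide +kernel

set_option maxRecDepth 1000000 in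
set_option maxHeartbeats 0 in
theorem nxC_E6_3_2 : nxCheckRange chevE6 nxca_E6_3 nxrt_E6_3 nxeta_E6_3 3 24 12 = true := by decide +kernel

set_option maxRecDepth 1000000 in
set_option maxHeartbeats 0 in
theorem nxC_E6_3_3 : nxCheckRange chevE6 nxca_E6_3 nxrt_E6_3 nxeta_E6_3 3 36 12 = true := by decide +kernel

set_option maxRecDepth 1000000 in
set_option maxHeartbeats 0 in
theorem nxC_E6_3_4 : nxCheckRange chevE6 nxca_E6_3 nxrt_E6_3 nxeta_E6_3 3 48 12 = true := by decide +kernel

set_option maxRecDepth 1000000 in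
set_option maxHeartbeats 0 in
theorem nxC_E6_3_5 : nxCheckRange chevE6 nxca_E6_3 nxrt_E6_3 nxeta_E6_3 3 60 12 = true := by decide +kernel

set_option maxRecDepth 1000000 in
set_option maxHeartbeats 0 in
theorem nxC_E6_4_0 : nxCheckRange chevE6 nxca_E6_4 nxrt_E6_4 nxeta_E6_4 4 0 12 = true := by decide +kernel

set_option maxRecDepth 1000000 in
set_option maxHeartbeats 0 in
theorem nxC_E6_4_1 : nxCheckRange chevE6 nxca_E6_4 nxrt_E6_4 nxeta_E6_4 4 12 12 = true := by decide +kernel

set_option maxRecDepth 1000000 in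
set_option maxHeartbeats 0 in
theorem nxC_E6_4_2 : nxCheckRange chevE6 nxca_E6_4 nxrt_E6_4 nxeta_E6_4 4 24 12 = true := by decide +kernel

set_option maxRecDepth 1000000 in
set_option maxHeartbeats 0 in
theorem nxC_E6_4_3 : nxCheckRange chevE6 nxca_E6_4 nxrt_E6_4 nxeta_E6_4 4 36 12 = true := by decide +kernel

set_option maxRecDepth 1000000 in
set_option maxHeartbeats 0 in
theorem nxC_E6_4_4 : nxCheckRange chevE6 nxca_E6_4 nxrt_E6_4 nxeta_E6_4 4 48 12 = true := by decide +kernel

set_option maxRecDepth 1000000 in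
set_option maxHeartbeats 0 in
theorem nxC_E6_4_5 : nxCheckRange chevE6 nxca_E6_4 nxrt_E6_4 nxeta_E6_4 4 60 12 = true := by decide +kernel

set_option maxRecDepth 1000000 in
set_option maxHeartbeats 0 in
theorem nxC_E6_5_0 : nxCheckRange chevE6 nxca_E6_5 nxrt_E6_5 nxeta_E6_5 5 0 12 = true := by decide +kernel

set_option maxRecDepth 1000000 in
set_option maxHeartbeats 0 in
theorem nxC_E6_5_1 : nxCheckRange chevE6 nxca_E6_5 nxrt_E6_5 nxeta_E6_5 5 12 12 = true := by decide +kernel

set_option maxRecDepth 1000000 in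
set_option maxHeartbeats 0 in
theorem nxC_E6_5_2 : nxCheckRange chevE6 nxca_E6_5 nxrt_E6_5 nxeta_E6_5 5 24 12 = true := by decide +kernel

set_option maxRecDepth 1000000 in
set_option maxHeartbeats 0 in
theorem nxC_E6_5_3 : nxCheckRange chevE6 nxca_E6_5 nxrt_E6_5 nxeta_E6_5 5 36 12 = true := by decide +kernel

set_option maxRecDepth 1000000 in
set_option maxHeartbeats 0 in
theorem nxC_E6_5_4 : nxCheckRange chevE6 nxca_E6_5 nxrt_E6_5 nxeta_E6_5 5 48 12 = true := by decide +kernel

set_option maxRecDepth 1000000 in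
set_option maxHeartbeats 0 in
theorem nxC_E6_5_5 : nxCheckRange chevE6 nxca_E6_5 nxrt_E6_5 nxeta_E6_5 5 60 12 = true := by decide +kernel

end Cfsg.Agent.helper5.Chev
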