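import Mathlib
import Cfsg.Agent.Lib_helper5_ChevNXDefsE6

set_option autoImplicit false

namespace Cfsg.Agent.helper5.Chev

open Cfsg.Lie

set_option maxRecDepth 1000000 in
set_option maxHeartbeats 0 in
theorem nxT_E6_0_0 : tabCheckRange chevE6 nxrt_E6_0 nxeta_E6_0 0 0 72 = true := by decide +kernel

theorem nxTab_E6_0 : NXTab chevE6 0 nxca_E6_0 nxrt_E6_0 nxeta_E6_0 := by
  apply nxTab_of_chunks chevE6 0 nxca_E6_0 nxrt_E6_0 nxeta_E6_0 (by decide +kernel) 72 1 (by decide +kernel) (by decide +kernel)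
  intro k hk
  interval_cases k
  · exact nxT_E6_0_0

set_option maxRecDepth 1000000 in
set_option maxHeartbeats 0 in
theorem nxT_E6_1_0 : tabCheckRange chevE6 nxrt_E6_1 nxeta_E6_1 1 0 72 = true := by decide +kernel

theorem nxTab_E6_1 : NXTab chevE6 1 nxca_E6_1 nxrt_E6_1 nxeta_E6_1 := by
  apply nxTab_of_chunks chevE6 1 nxca_E6_1 nxrt_E6_1 nxeta_E6_1 (by decide +kernel) 72 1 (by decide +kernel) (by decide +kernel)
  intro k hk
  interval_cases k
  · exact nxT_E6_1_0

set_option maxRecDepth 1000000 in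
set_option maxHeartbeats 0 in
theorem nxT_E6_2_0 : tabCheckRange chevE6 nxrt_E6_2 nxeta_E6_2 2 0 72 = true := by decide +kernel

theorem nxTab_E6_2 : NXTab chevE6 2 nxca_E6_2 nxrt_E6_2 nxeta_E6_2 := by
  apply nxTab_of_chunks chevE6 2 nxca_E6_2 nxrt_E6_2 nxeta_E6_2 (by decide +kernel) 72 1 (by decide +kernel) (by decide +kernel)
  intro k hk
  interval_cases k
  · exact nxT_E6_2_0

set_option maxRecDepth 1000000 in
set_option maxHeartbeats 0 in
theorem nxT_E6_3_0 : tabCheckRange chevE6 nxrt_E6_3 nxeta_E6_3 3 0 72 = true := by decide +kernel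

theorem nxTab_E6_3 : NXTab chevE6 3 nxca_E6_3 nxrt_E6_3 nxeta_E6_3 := by
  apply nxTab_of_chunks chevE6 3 nxca_E6_3 nxrt_E6_3 nxeta_E6_3 (by decide +kernel) 72 1 (by decide +kernel) (by decide +kernel)
  intro k hk
  interval_cases k
  · exact nxT_E6_3_0

set_option maxRecDepth 1000000 in
set_option maxHeartbeats 0 in
theorem nxT_E6_4_0 : tabCheckRange chevE6 nxrt_E6_4 nxeta_E6_4 4 0 72 = true := by decide +kernel

theorem nxTab_E6_4 : NXTab chevE6 4 nxca_E6_4 nxrt_E6_4 nxeta_E6_4 := by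
  apply nxTab_of_chunks chevE6 4 nxca_E6_4 nxrt_E6_4 nxeta_E6_4 (by decide +kernel) 72 1 (by decide +kernel) (by decide +kernel)
  intro k hk
  interval_cases k
  · exact nxT_E6_4_0

set_option maxRecDepth 1000000 in
set_option maxHeartbeats 0 in
theorem nxT_E6_5_0 : tabCheckRange chevE6 nxrt_E6_5 nxeta_E6_5 5 0 72 = true := by decide +kernel

theorem nxTab_E6_5 : NXTab chevE6 5 nxca_E6_5 nxrt_E6_5 nxeta_E6_5 := by
  apply nxTab_of_chunks chevE6 5 nxca_E6_5 nxrt_E6_5 nxeta_E6_5 (by decide +kernel) 72 1 (by decide +kernel) (by decide +kernel)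
  intro k hk
  interval_cases k
  · exact nxT_E6_5_0

end Cfsg.Agent.helper5.Chev
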