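import Mathlib
import Cfsg.Agent.Lib_helper5_ChevNXTabE6_0
import Cfsg.Agent.Lib_helper5_ChevNXE6_00
import Cfsg.Agent.Lib_helper5_ChevNXE6_01

set_option autoImplicit false

namespace Cfsg.Agent.helper5.Chev

open Cfsg.Lie

theorem nxAll_E6 : NXAll chevE6 := by
  intro i hi
  have hn : chevE6.rank = 6 := rfl
  rw [hn] at hi
  interval_cases i
  · refine ⟨nxca_E6_0, nxrt_E6_0, nxeta_E6_0, nxTab_E6_0, ?_⟩
    apply nxCheckS_of_chunks chevE6 0 nxca_E6_0 nxrt_E6_0 nxeta_E6_0 12 6 (by decide +kernel) (by decide +kernel)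
    intro k hk
    interval_cases k
    · exact nxC_E6_0_0
    · exact nxC_E6_0_1
    · exact nxC_E6_0_2
    · exact nxC_E6_0_3
    · exact nxC_E6_0_4
    · exact nxC_E6_0_5
  · refine ⟨nxca_E6_1, nxrt_E6_1, nxeta_E6_1, nxTab_E6_1, ?_⟩
    apply nxCheckS_of_chunks chevE6 1 nxca_E6_1 nxrt_E6_1 nxeta_E6_1 12 6 (by decide +kernel) (by decide +kernel)
    intro k hk
    interval_cases k
    · exact nxC_E6_1_0
    · exact nxC_E6_1_1
    · exact nxC_E6_1_2
    · exact nxC_E6_1_3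
    · exact nxC_E6_1_4
    · exact nxC_E6_1_5
  · refine ⟨nxca_E6_2, nxrt_E6_2, nxeta_E6_2, nxTab_E6_2, ?_⟩
    apply nxCheckS_of_chunks chevE6 2 nxca_E6_2 nxrt_E6_2 nxeta_E6_2 12 6 (by decide +kernel) (by decide +kernel)
    intro k hk
    interval_cases k
    · exact nxC_E6_2_0
    · exact nxC_E6_2_1
    · exact nxC_E6_2_2
    · exact nxC_E6_2_3
    · exact nxC_E6_2_4
    · exact nxC_E6_2_5
  · refine ⟨nxca_E6_3, nxrt_E6_3, nxeta_E6_3, nxTab_E6_3, ?_⟩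
    apply nxCheckS_of_chunks chevE6 3 nxca_E6_3 nxrt_E6_3 nxeta_E6_3 12 6 (by decide +kernel) (by decide +kernel)
    intro k hk
    interval_cases k
    · exact nxC_E6_3_0
    · exact nxC_E6_3_1
    · exact nxC_E6_3_2
    · exact nxC_E6_3_3
    · exact nxC_E6_3_4
    · exact nxC_E6_3_5
  · refine ⟨nxca_E6_4, nxrt_E6_4, nxeta_E6_4, nxTab_E6_4, ?_⟩
    apply nxCheckS_of_chunks chevE6 4 nxca_E6_4 nxrt_E6_4 nxeta_E6_4 12 6 (by decide +kernel) (by decide +kernel)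
    intro k hk
    interval_cases k
    · exact nxC_E6_4_0
    · exact nxC_E6_4_1
    · exact nxC_E6_4_2
    · exact nxC_E6_4_3
    · exact nxC_E6_4_4
    · exact nxC_E6_4_5
  · refine ⟨nxca_E6_5, nxrt_E6_5, nxeta_E6_5, nxTab_E6_5, ?_⟩
    apply nxCheckS_of_chunks chevE6 5 nxca_E6_5 nxrt_E6_5 nxeta_E6_5 12 6 (by decide +kernel) (by decide +kernel)
    intro k hk
    interval_cases k
    · exact nxC_E6_5_0
    · exact nxC_E6_5_1
    · exact nxC_E6_5_2
    · exact nxC_E6_5_3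
    · exact nxC_E6_5_4
    · exact nxC_E6_5_5

end Cfsg.Agent.helper5.Chev
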