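import Mathlib
import Cfsg.Agent.Lib_helper5_ChevNXDefsE7

set_option autoImplicit false

namespace Cfsg.Agent.helper5.Chev

open Cfsg.Lie

set_option maxRecDepth 1000000 in
set_option maxHeartbeats 0 in
theorem nxC_E7_0_0 : nxCheckRange chevE7 nxca_E7_0 nxrt_E7_0 nxeta_E7_0 0 0 7 = true := by decide +kernel

set_option maxRecDepth 1000000 in
set_option maxHeartbeats 0 in
theorem nxC_E7_0_1 : nxCheckRange chevE7 nxca_E7_0 nxrt_E7_0 nxeta_E7_0 0 7 7 = true := by decide +kernel

set_option maxRecDepth 1000000 in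
set_option maxHeartbeats 0 in
theorem nxC_E7_0_2 : nxCheckRange chevE7 nxca_E7_0 nxrt_E7_0 nxeta_E7_0 0 14 7 = true := by decide +kernel

set_option maxRecDepth 1000000 in
set_option maxHeartbeats 0 in
theorem nxC_E7_0_3 : nxCheckRange chevE7 nxca_E7_0 nxrt_E7_0 nxeta_E7_0 0 21 7 = true := by decide +kernel

set_option maxRecDepth 1000000 in
set_option maxHeartbeats 0 in
theorem nxC_E7_0_4 : nxCheckRange chevE7 nxca_E7_0 nxrt_E7_0 nxeta_E7_0 0 28 7 = true := by decide +kernel

set_option maxRecDepth 1000000 in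
set_option maxHeartbeats 0 in
theorem nxC_E7_0_5 : nxCheckRange chevE7 nxca_E7_0 nxrt_E7_0 nxeta_E7_0 0 35 7 = true := by decide +kernel

set_option maxRecDepth 1000000 in
set_option maxHeartbeats 0 in
theorem nxC_E7_0_6 : nxCheckRange chevE7 nxca_E7_0 nxrt_E7_0 nxeta_E7_0 0 42 7 = true := by decide +kernel

set_option maxRecDepth 1000000 in
set_option maxHeartbeats 0 in
theorem nxC_E7_0_7 : nxCheckRange chevE7 nxca_E7_0 nxrt_E7_0 nxeta_E7_0 0 49 7 = true := by decide +kernel

set_option maxRecDepth 1000000 in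
set_option maxHeartbeats 0 in
theorem nxC_E7_0_8 : nxCheckRange chevE7 nxca_E7_0 nxrt_E7_0 nxeta_E7_0 0 56 7 = true := by decide +kernel

set_option maxRecDepth 1000000 in
set_option maxHeartbeats 0 in
theorem nxC_E7_0_9 : nxCheckRange chevE7 nxca_E7_0 nxrt_E7_0 nxeta_E7_0 0 63 7 = true := by decide +kernel

set_option maxRecDepth 1000000 in
set_option maxHeartbeats 0 in
theorem nxC_E7_0_10 : nxCheckRange chevE7 nxca_E7_0 nxrt_E7_0 nxeta_E7_0 0 70 7 = true := by decide +kernel

set_option maxRecDepth 1000000 in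
set_option maxHeartbeats 0 in
theorem nxC_E7_0_11 : nxCheckRange chevE7 nxca_E7_0 nxrt_E7_0 nxeta_E7_0 0 77 7 = true := by decide +kernel

set_option maxRecDepth 1000000 in
set_option maxHeartbeats 0 in
theorem nxC_E7_0_12 : nxCheckRange chevE7 nxca_E7_0 nxrt_E7_0 nxeta_E7_0 0 84 7 = true := by decide +kernel

set_option maxRecDepth 1000000 in
set_option maxHeartbeats 0 in
theorem nxC_E7_0_13 : nxCheckRange chevE7 nxca_E7_0 nxrt_E7_0 nxeta_E7_0 0 91 7 = true := by decide +kernel

set_option maxRecDepth 1000000 in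
set_option maxHeartbeats 0 in
theorem nxC_E7_0_14 : nxCheckRange chevE7 nxca_E7_0 nxrt_E7_0 nxeta_E7_0 0 98 7 = true := by decide +kernel

set_option maxRecDepth 1000000 in
set_option maxHeartbeats 0 in
theorem nxC_E7_0_15 : nxCheckRange chevE7 nxca_E7_0 nxrt_E7_0 nxeta_E7_0 0 105 7 = true := by decide +kernel

set_option maxRecDepth 1000000 in
set_option maxHeartbeats 0 in
theorem nxC_E7_0_16 : nxCheckRange chevE7 nxca_E7_0 nxrt_E7_0 nxeta_E7_0 0 112 7 = true := by decide +kernel

set_option maxRecDepth 1000000 in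
set_option maxHeartbeats 0 in
theorem nxC_E7_0_17 : nxCheckRange chevE7 nxca_E7_0 nxrt_E7_0 nxeta_E7_0 0 119 7 = true := by decide +kernel

set_option maxRecDepth 1000000 in
set_option maxHeartbeats 0 in
theorem nxC_E7_1_0 : nxCheckRange chevE7 nxca_E7_1 nxrt_E7_1 nxeta_E7_1 1 0 7 = true := by decide +kernel

set_option maxRecDepth 1000000 in
set_option maxHeartbeats 0 in
theorem nxC_E7_1_1 : nxCheckRange chevE7 nxca_E7_1 nxrt_E7_1 nxeta_E7_1 1 7 7 = true := by decide +kernel

set_option maxRecDepth 1000000 in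
set_option maxHeartbeats 0 in
theorem nxC_E7_1_2 : nxCheckRange chevE7 nxca_E7_1 nxrt_E7_1 nxeta_E7_1 1 14 7 = true := by decide +kernel

set_option maxRecDepth 1000000 in
set_option maxHeartbeats 0 in
theorem nxC_E7_1_3 : nxCheckRange chevE7 nxca_E7_1 nxrt_E7_1 nxeta_E7_1 1 21 7 = true := by decide +kernel

set_option maxRecDepth 1000000 in
set_option maxHeartbeats 0 in
theorem nxC_E7_1_4 : nxCheckRange chevE7 nxca_E7_1 nxrt_E7_1 nxeta_E7_1 1 28 7 = true := by decide +kernel

set_option maxRecDepth 1000000 in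
set_option maxHeartbeats 0 in
theorem nxC_E7_1_5 : nxCheckRange chevE7 nxca_E7_1 nxrt_E7_1 nxeta_E7_1 1 35 7 = true := by decide +kernel

set_option maxRecDepth 1000000 in
set_option maxHeartbeats 0 in
theorem nxC_E7_1_6 : nxCheckRange chevE7 nxca_E7_1 nxrt_E7_1 nxeta_E7_1 1 42 7 = true := by decide +kernel

set_option maxRecDepth 1000000 in
set_option maxHeartbeats 0 in
theorem nxC_E7_1_7 : nxCheckRange chevE7 nxca_E7_1 nxrt_E7_1 nxeta_E7_1 1 49 7 = true := by decide +kernel

set_option maxRecDepth 1000000 in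
set_option maxHeartbeats 0 in
theorem nxC_E7_1_8 : nxCheckRange chevE7 nxca_E7_1 nxrt_E7_1 nxeta_E7_1 1 56 7 = true := by decide +kernel

set_option maxRecDepth 1000000 in
set_option maxHeartbeats 0 in
theorem nxC_E7_1_9 : nxCheckRange chevE7 nxca_E7_1 nxrt_E7_1 nxeta_E7_1 1 63 7 = true := by decide +kernel

set_option maxRecDepth 1000000 in
set_option maxHeartbeats 0 in
theorem nxC_E7_1_10 : nxCheckRange chevE7 nxca_E7_1 nxrt_E7_1 nxeta_E7_1 1 70 7 = true := by decide +kernel

set_option maxRecDepth 1000000 in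
set_option maxHeartbeats 0 in
theorem nxC_E7_1_11 : nxCheckRange chevE7 nxca_E7_1 nxrt_E7_1 nxeta_E7_1 1 77 7 = true := by decide +kernel

set_option maxRecDepth 1000000 in
set_option maxHeartbeats 0 in
theorem nxC_E7_1_12 : nxCheckRange chevE7 nxca_E7_1 nxrt_E7_1 nxeta_E7_1 1 84 7 = true := by decide +kernel

set_option maxRecDepth 1000000 in
set_option maxHeartbeats 0 in
theorem nxC_E7_1_13 : nxCheckRange chevE7 nxca_E7_1 nxrt_E7_1 nxeta_E7_1 1 91 7 = true := by decide +kernel

end Cfsg.Agent.helper5.Chev
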