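import Mathlib
import Cfsg.Agent.Lib_helper5_ChevNXDefsE7

set_option autoImplicit false

namespace Cfsg.Agent.helper5.Chev

open Cfsg.Lie

set_option maxRecDepth 1000000 in
set_option maxHeartbeats 0 in
theorem nxC_E7_1_14 : nxCheckRange chevE7 nxca_E7_1 nxrt_E7_1 nxeta_E7_1 1 98 7 = true := by decide +kernel

set_option maxRecDepth 1000000 in
set_option maxHeartbeats 0 in
theorem nxC_E7_1_15 : nxCheckRange chevE7 nxca_E7_1 nxrt_E7_1 nxeta_E7_1 1 105 7 = true := by decide +kernel

set_option maxRecDepth 1000000 in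
set_option maxHeartbeats 0 in
theorem nxC_E7_1_16 : nxCheckRange chevE7 nxca_E7_1 nxrt_E7_1 nxeta_E7_1 1 112 7 = true := by decide +kernel

set_option maxRecDepth 1000000 in
set_option maxHeartbeats 0 in
theorem nxC_E7_1_17 : nxCheckRange chevE7 nxca_E7_1 nxrt_E7_1 nxeta_E7_1 1 119 7 = true := by decide +kernel

set_option maxRecDepth 1000000 in
set_option maxHeartbeats 0 in
theorem nxC_E7_2_0 : nxCheckRange chevE7 nxca_E7_2 nxrt_E7_2 nxeta_E7_2 2 0 7 = true := by decide +kernel

set_option maxRecDepth 1000000 in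
set_option maxHeartbeats 0 in
theorem nxC_E7_2_1 : nxCheckRange chevE7 nxca_E7_2 nxrt_E7_2 nxeta_E7_2 2 7 7 = true := by decide +kernel

set_option maxRecDepth 1000000 in
set_option maxHeartbeats 0 in
theorem nxC_E7_2_2 : nxCheckRange chevE7 nxca_E7_2 nxrt_E7_2 nxeta_E7_2 2 14 7 = true := by decide +kernel

set_option maxRecDepth 1000000 in
set_option maxHeartbeats 0 in
theorem nxC_E7_2_3 : nxCheckRange chevE7 nxca_E7_2 nxrt_E7_2 nxeta_E7_2 2 21 7 = true := by decide +kernel

set_option maxRecDepth 1000000 in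
set_option maxHeartbeats 0 in
theorem nxC_E7_2_4 : nxCheckRange chevE7 nxca_E7_2 nxrt_E7_2 nxeta_E7_2 2 28 7 = true := by decide +kernel

set_option maxRecDepth 1000000 in
set_option maxHeartbeats 0 in
theorem nxC_E7_2_5 : nxCheckRange chevE7 nxca_E7_2 nxrt_E7_2 nxeta_E7_2 2 35 7 = true := by decide +kernel

set_option maxRecDepth 1000000 in
set_option maxHeartbeats 0 in
theorem nxC_E7_2_6 : nxCheckRange chevE7 nxca_E7_2 nxrt_E7_2 nxeta_E7_2 2 42 7 = true := by decide +kernel

set_option maxRecDepth 1000000 in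
set_option maxHeartbeats 0 in
theorem nxC_E7_2_7 : nxCheckRange chevE7 nxca_E7_2 nxrt_E7_2 nxeta_E7_2 2 49 7 = true := by decide +kernel

set_option maxRecDepth 1000000 in
set_option maxHeartbeats 0 in
theorem nxC_E7_2_8 : nxCheckRange chevE7 nxca_E7_2 nxrt_E7_2 nxeta_E7_2 2 56 7 = true := by decide +kernel

set_option maxRecDepth 1000000 in
set_option maxHeartbeats 0 in
theorem nxC_E7_2_9 : nxCheckRange chevE7 nxca_E7_2 nxrt_E7_2 nxeta_E7_2 2 63 7 = true := by decide +kernel

set_option maxRecDepth 1000000 in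
set_option maxHeartbeats 0 in
theorem nxC_E7_2_10 : nxCheckRange chevE7 nxca_E7_2 nxrt_E7_2 nxeta_E7_2 2 70 7 = true := by decide +kernel

set_option maxRecDepth 1000000 in
set_option maxHeartbeats 0 in
theorem nxC_E7_2_11 : nxCheckRange chevE7 nxca_E7_2 nxrt_E7_2 nxeta_E7_2 2 77 7 = true := by decide +kernel

set_option maxRecDepth 1000000 in
set_option maxHeartbeats 0 in
theorem nxC_E7_2_12 : nxCheckRange chevE7 nxca_E7_2 nxrt_E7_2 nxeta_E7_2 2 84 7 = true := by decide +kernel

set_option maxRecDepth 1000000 in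
set_option maxHeartbeats 0 in
theorem nxC_E7_2_13 : nxCheckRange chevE7 nxca_E7_2 nxrt_E7_2 nxeta_E7_2 2 91 7 = true := by decide +kernel

set_option maxRecDepth 1000000 in
set_option maxHeartbeats 0 in
theorem nxC_E7_2_14 : nxCheckRange chevE7 nxca_E7_2 nxrt_E7_2 nxeta_E7_2 2 98 7 = true := by decide +kernel

set_option maxRecDepth 1000000 in
set_option maxHeartbeats 0 in
theorem nxC_E7_2_15 : nxCheckRange chevE7 nxca_E7_2 nxrt_E7_2 nxeta_E7_2 2 105 7 = true := by decide +kernel

set_option maxRecDepth 1000000 in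
set_option maxHeartbeats 0 in
theorem nxC_E7_2_16 : nxCheckRange chevE7 nxca_E7_2 nxrt_E7_2 nxeta_E7_2 2 112 7 = true := by decide +kernel

set_option maxRecDepth 1000000 in
set_option maxHeartbeats 0 in
theorem nxC_E7_2_17 : nxCheckRange chevE7 nxca_E7_2 nxrt_E7_2 nxeta_E7_2 2 119 7 = true := by decide +kernel

set_option maxRecDepth 1000000 in
set_option maxHeartbeats 0 in
theorem nxC_E7_3_0 : nxCheckRange chevE7 nxca_E7_3 nxrt_E7_3 nxeta_E7_3 3 0 7 = true := by decide +kernel

set_option maxRecDepth 1000000 in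
set_option maxHeartbeats 0 in
theorem nxC_E7_3_1 : nxCheckRange chevE7 nxca_E7_3 nxrt_E7_3 nxeta_E7_3 3 7 7 = true := by decide +kernel

set_option maxRecDepth 1000000 in
set_option maxHeartbeats 0 in
theorem nxC_E7_3_2 : nxCheckRange chevE7 nxca_E7_3 nxrt_E7_3 nxeta_E7_3 3 14 7 = true := by decide +kernel

set_option maxRecDepth 1000000 in
set_option maxHeartbeats 0 in
theorem nxC_E7_3_3 : nxCheckRange chevE7 nxca_E7_3 nxrt_E7_3 nxeta_E7_3 3 21 7 = true := by decide +kernel

set_option maxRecDepth 1000000 in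
set_option maxHeartbeats 0 in
theorem nxC_E7_3_4 : nxCheckRange chevE7 nxca_E7_3 nxrt_E7_3 nxeta_E7_3 3 28 7 = true := by decide +kernel

set_option maxRecDepth 1000000 in
set_option maxHeartbeats 0 in
theorem nxC_E7_3_5 : nxCheckRange chevE7 nxca_E7_3 nxrt_E7_3 nxeta_E7_3 3 35 7 = true := by decide +kernel

set_option maxRecDepth 1000000 in
set_option maxHeartbeats 0 in
theorem nxC_E7_3_6 : nxCheckRange chevE7 nxca_E7_3 nxrt_E7_3 nxeta_E7_3 3 42 7 = true := by decide +kernel

set_option maxRecDepth 1000000 in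
set_option maxHeartbeats 0 in
theorem nxC_E7_3_7 : nxCheckRange chevE7 nxca_E7_3 nxrt_E7_3 nxeta_E7_3 3 49 7 = true := by decide +kernel

set_option maxRecDepth 1000000 in
set_option maxHeartbeats 0 in
theorem nxC_E7_3_8 : nxCheckRange chevE7 nxca_E7_3 nxrt_E7_3 nxeta_E7_3 3 56 7 = true := by decide +kernel

set_option maxRecDepth 1000000 in
set_option maxHeartbeats 0 in
theorem nxC_E7_3_9 : nxCheckRange chevE7 nxca_E7_3 nxrt_E7_3 nxeta_E7_3 3 63 7 = true := by decide +kernel

end Cfsg.Agent.helper5.Chev
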