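import Mathlib
import Cfsg.Agent.Lib_helper5_ChevNXDefsE7

set_option autoImplicit false

namespace Cfsg.Agent.helper5.Chev

open Cfsg.Lie

set_option maxRecDepth 1000000 in
set_option maxHeartbeats 0 in
theorem nxC_E7_3_10 : nxCheckRange chevE7 nxca_E7_3 nxrt_E7_3 nxeta_E7_3 3 70 7 = true := by decide +kernel

set_option maxRecDepth 1000000 in
set_option maxHeartbeats 0 in
theorem nxC_E7_3_11 : nxCheckRange chevE7 nxca_E7_3 nxrt_E7_3 nxeta_E7_3 3 77 7 = true := by decide +kernel

set_option maxRecDepth 1000000 in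
set_option maxHeartbeats 0 in
theorem nxC_E7_3_12 : nxCheckRange chevE7 nxca_E7_3 nxrt_E7_3 nxeta_E7_3 3 84 7 = true := by decide +kernel

set_option maxRecDepth 1000000 in
set_option maxHeartbeats 0 in
theorem nxC_E7_3_13 : nxCheckRange chevE7 nxca_E7_3 nxrt_E7_3 nxeta_E7_3 3 91 7 = true := by decide +kernel

set_option maxRecDepth 1000000 in
set_option maxHeartbeats 0 in
theorem nxC_E7_3_14 : nxCheckRange chevE7 nxca_E7_3 nxrt_E7_3 nxeta_E7_3 3 98 7 = true := by decide +kernel

set_option maxRecDepth 1000000 in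
set_option maxHeartbeats 0 in
theorem nxC_E7_3_15 : nxCheckRange chevE7 nxca_E7_3 nxrt_E7_3 nxeta_E7_3 3 105 7 = true := by decide +kernel

set_option maxRecDepth 1000000 in
set_option maxHeartbeats 0 in
theorem nxC_E7_3_16 : nxCheckRange chevE7 nxca_E7_3 nxrt_E7_3 nxeta_E7_3 3 112 7 = true := by decide +kernel

set_option maxRecDepth 1000000 in
set_option maxHeartbeats 0 in
theorem nxC_E7_3_17 : nxCheckRange chevE7 nxca_E7_3 nxrt_E7_3 nxeta_E7_3 3 119 7 = true := by decide +kernel

set_option maxRecDepth 1000000 in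
set_option maxHeartbeats 0 in
theorem nxC_E7_4_0 : nxCheckRange chevE7 nxca_E7_4 nxrt_E7_4 nxeta_E7_4 4 0 7 = true := by decide +kernel

set_option maxRecDepth 1000000 in
set_option maxHeartbeats 0 in
theorem nxC_E7_4_1 : nxCheckRange chevE7 nxca_E7_4 nxrt_E7_4 nxeta_E7_4 4 7 7 = true := by decide +kernel

set_option maxRecDepth 1000000 in
set_option maxHeartbeats 0 in
theorem nxC_E7_4_2 : nxCheckRange chevE7 nxca_E7_4 nxrt_E7_4 nxeta_E7_4 4 14 7 = true := by decide +kernel

set_option maxRecDepth 1000000 in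
set_option maxHeartbeats 0 in
theorem nxC_E7_4_3 : nxCheckRange chevE7 nxca_E7_4 nxrt_E7_4 nxeta_E7_4 4 21 7 = true := by decide +kernel

set_option maxRecDepth 1000000 in
set_option maxHeartbeats 0 in
theorem nxC_E7_4_4 : nxCheckRange chevE7 nxca_E7_4 nxrt_E7_4 nxeta_E7_4 4 28 7 = true := by decide +kernel

set_option maxRecDepth 1000000 in
set_option maxHeartbeats 0 in
theorem nxC_E7_4_5 : nxCheckRange chevE7 nxca_E7_4 nxrt_E7_4 nxeta_E7_4 4 35 7 = true := by decide +kernel

set_option maxRecDepth 1000000 in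
set_option maxHeartbeats 0 in
theorem nxC_E7_4_6 : nxCheckRange chevE7 nxca_E7_4 nxrt_E7_4 nxeta_E7_4 4 42 7 = true := by decide +kernel

set_option maxRecDepth 1000000 in
set_option maxHeartbeats 0 in
theorem nxC_E7_4_7 : nxCheckRange chevE7 nxca_E7_4 nxrt_E7_4 nxeta_E7_4 4 49 7 = true := by decide +kernel

set_option maxRecDepth 1000000 in
set_option maxHeartbeats 0 in
theorem nxC_E7_4_8 : nxCheckRange chevE7 nxca_E7_4 nxrt_E7_4 nxeta_E7_4 4 56 7 = true := by decide +kernel

set_option maxRecDepth 1000000 in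
set_option maxHeartbeats 0 in
theorem nxC_E7_4_9 : nxCheckRange chevE7 nxca_E7_4 nxrt_E7_4 nxeta_E7_4 4 63 7 = true := by decide +kernel

set_option maxRecDepth 1000000 in
set_option maxHeartbeats 0 in
theorem nxC_E7_4_10 : nxCheckRange chevE7 nxca_E7_4 nxrt_E7_4 nxeta_E7_4 4 70 7 = true := by decide +kernel

set_option maxRecDepth 1000000 in
set_option maxHeartbeats 0 in
theorem nxC_E7_4_11 : nxCheckRange chevE7 nxca_E7_4 nxrt_E7_4 nxeta_E7_4 4 77 7 = true := by decide +kernel

set_option maxRecDepth 1000000 in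
set_option maxHeartbeats 0 in
theorem nxC_E7_4_12 : nxCheckRange chevE7 nxca_E7_4 nxrt_E7_4 nxeta_E7_4 4 84 7 = true := by decide +kernel

set_option maxRecDepth 1000000 in
set_option maxHeartbeats 0 in
theorem nxC_E7_4_13 : nxCheckRange chevE7 nxca_E7_4 nxrt_E7_4 nxeta_E7_4 4 91 7 = true := by decide +kernel

set_option maxRecDepth 1000000 in
set_option maxHeartbeats 0 in
theorem nxC_E7_4_14 : nxCheckRange chevE7 nxca_E7_4 nxrt_E7_4 nxeta_E7_4 4 98 7 = true := by decide +kernel

set_option maxRecDepth 1000000 in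
set_option maxHeartbeats 0 in
theorem nxC_E7_4_15 : nxCheckRange chevE7 nxca_E7_4 nxrt_E7_4 nxeta_E7_4 4 105 7 = true := by decide +kernel

set_option maxRecDepth 1000000 in
set_option maxHeartbeats 0 in
theorem nxC_E7_4_16 : nxCheckRange chevE7 nxca_E7_4 nxrt_E7_4 nxeta_E7_4 4 112 7 = true := by decide +kernel

set_option maxRecDepth 1000000 in
set_option maxHeartbeats 0 in
theorem nxC_E7_4_17 : nxCheckRange chevE7 nxca_E7_4 nxrt_E7_4 nxeta_E7_4 4 119 7 = true := by decide +kernel

set_option maxRecDepth 1000000 in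
set_option maxHeartbeats 0 in
theorem nxC_E7_5_0 : nxCheckRange chevE7 nxca_E7_5 nxrt_E7_5 nxeta_E7_5 5 0 7 = true := by decide +kernel

set_option maxRecDepth 1000000 in
set_option maxHeartbeats 0 in
theorem nxC_E7_5_1 : nxCheckRange chevE7 nxca_E7_5 nxrt_E7_5 nxeta_E7_5 5 7 7 = true := by decide +kernel

set_option maxRecDepth 1000000 in
set_option maxHeartbeats 0 in
theorem nxC_E7_5_2 : nxCheckRange chevE7 nxca_E7_5 nxrt_E7_5 nxeta_E7_5 5 14 7 = true := by decide +kernel

set_option maxRecDepth 1000000 in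
set_option maxHeartbeats 0 in
theorem nxC_E7_5_3 : nxCheckRange chevE7 nxca_E7_5 nxrt_E7_5 nxeta_E7_5 5 21 7 = true := by decide +kernel

set_option maxRecDepth 1000000 in
set_option maxHeartbeats 0 in
theorem nxC_E7_5_4 : nxCheckRange chevE7 nxca_E7_5 nxrt_E7_5 nxeta_E7_5 5 28 7 = true := by decide +kernel

set_option maxRecDepth 1000000 in
set_option maxHeartbeats 0 in
theorem nxC_E7_5_5 : nxCheckRange chevE7 nxca_E7_5 nxrt_E7_5 nxeta_E7_5 5 35 7 = true := by decide +kernel

end Cfsg.Agent.helper5.Chev
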