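import Mathlib
import Cfsg.Agent.Lib_helper5_ChevNXDefsE7

set_option autoImplicit false

namespace Cfsg.Agent.helper5.Chev

open Cfsg.Lie

set_option maxRecDepth 1000000 in
set_option maxHeartbeats 0 in
theorem nxC_E7_5_6 : nxCheckRange chevE7 nxca_E7_5 nxrt_E7_5 nxeta_E7_5 5 42 7 = true := by decide +kernel

set_option maxRecDepth 1000000 in
set_option maxHeartbeats 0 in
theorem nxC_E7_5_7 : nxCheckRange chevE7 nxca_E7_5 nxrt_E7_5 nxeta_E7_5 5 49 7 = true := by decide +kernel

set_option maxRecDepth 1000000 in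
set_option maxHeartbeats 0 in
theorem nxC_E7_5_8 : nxCheckRange chevE7 nxca_E7_5 nxrt_E7_5 nxeta_E7_5 5 56 7 = true := by decide +kernel

set_option maxRecDepth 1000000 in
set_option maxHeartbeats 0 in
theorem nxC_E7_5_9 : nxCheckRange chevE7 nxca_E7_5 nxrt_E7_5 nxeta_E7_5 5 63 7 = true := by decide +kernel

set_option maxRecDepth 1000000 in
set_option maxHeartbeats 0 in
theorem nxC_E7_5_10 : nxCheckRange chevE7 nxca_E7_5 nxrt_E7_5 nxeta_E7_5 5 70 7 = true := by decide +kernel

set_option maxRecDepth 1000000 in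
set_option maxHeartbeats 0 in
theorem nxC_E7_5_11 : nxCheckRange chevE7 nxca_E7_5 nxrt_E7_5 nxeta_E7_5 5 77 7 = true := by decide +kernel

set_option maxRecDepth 1000000 in
set_option maxHeartbeats 0 in
theorem nxC_E7_5_12 : nxCheckRange chevE7 nxca_E7_5 nxrt_E7_5 nxeta_E7_5 5 84 7 = true := by decide +kernel

set_option maxRecDepth 1000000 in
set_option maxHeartbeats 0 in
theorem nxC_E7_5_13 : nxCheckRange chevE7 nxca_E7_5 nxrt_E7_5 nxeta_E7_5 5 91 7 = true := by decide +kernel

set_option maxRecDepth 1000000 in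
set_option maxHeartbeats 0 in
theorem nxC_E7_5_14 : nxCheckRange chevE7 nxca_E7_5 nxrt_E7_5 nxeta_E7_5 5 98 7 = true := by decide +kernel

set_option maxRecDepth 1000000 in
set_option maxHeartbeats 0 in
theorem nxC_E7_5_15 : nxCheckRange chevE7 nxca_E7_5 nxrt_E7_5 nxeta_E7_5 5 105 7 = true := by decide +kernel

set_option maxRecDepth 1000000 in
set_option maxHeartbeats 0 in
theorem nxC_E7_5_16 : nxCheckRange chevE7 nxca_E7_5 nxrt_E7_5 nxeta_E7_5 5 112 7 = true := by decide +kernel

set_option maxRecDepth 1000000 in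
set_option maxHeartbeats 0 in
theorem nxC_E7_5_17 : nxCheckRange chevE7 nxca_E7_5 nxrt_E7_5 nxeta_E7_5 5 119 7 = true := by decide +kernel

set_option maxRecDepth 1000000 in
set_option maxHeartbeats 0 in
theorem nxC_E7_6_0 : nxCheckRange chevE7 nxca_E7_6 nxrt_E7_6 nxeta_E7_6 6 0 7 = true := by decide +kernel

set_option maxRecDepth 1000000 in
set_option maxHeartbeats 0 in
theorem nxC_E7_6_1 : nxCheckRange chevE7 nxca_E7_6 nxrt_E7_6 nxeta_E7_6 6 7 7 = true := by decide +kernel

set_option maxRecDepth 1000000 in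
set_option maxHeartbeats 0 in
theorem nxC_E7_6_2 : nxCheckRange chevE7 nxca_E7_6 nxrt_E7_6 nxeta_E7_6 6 14 7 = true := by decide +kernel

set_option maxRecDepth 1000000 in
set_option maxHeartbeats 0 in
theorem nxC_E7_6_3 : nxCheckRange chevE7 nxca_E7_6 nxrt_E7_6 nxeta_E7_6 6 21 7 = true := by decide +kernel

set_option maxRecDepth 1000000 in
set_option maxHeartbeats 0 in
theorem nxC_E7_6_4 : nxCheckRange chevE7 nxca_E7_6 nxrt_E7_6 nxeta_E7_6 6 28 7 = true := by decide +kernel

set_option maxRecDepth 1000000 in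
set_option maxHeartbeats 0 in
theorem nxC_E7_6_5 : nxCheckRange chevE7 nxca_E7_6 nxrt_E7_6 nxeta_E7_6 6 35 7 = true := by decide +kernel

set_option maxRecDepth 1000000 in
set_option maxHeartbeats 0 in
theorem nxC_E7_6_6 : nxCheckRange chevE7 nxca_E7_6 nxrt_E7_6 nxeta_E7_6 6 42 7 = true := by decide +kernel

set_option maxRecDepth 1000000 in
set_option maxHeartbeats 0 in
theorem nxC_E7_6_7 : nxCheckRange chevE7 nxca_E7_6 nxrt_E7_6 nxeta_E7_6 6 49 7 = true := by decide +kernel

set_option maxRecDepth 1000000 in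
set_option maxHeartbeats 0 in
theorem nxC_E7_6_8 : nxCheckRange chevE7 nxca_E7_6 nxrt_E7_6 nxeta_E7_6 6 56 7 = true := by decide +kernel

set_option maxRecDepth 1000000 in
set_option maxHeartbeats 0 in
theorem nxC_E7_6_9 : nxCheckRange chevE7 nxca_E7_6 nxrt_E7_6 nxeta_E7_6 6 63 7 = true := by decide +kernel

set_option maxRecDepth 1000000 in
set_option maxHeartbeats 0 in
theorem nxC_E7_6_10 : nxCheckRange chevE7 nxca_E7_6 nxrt_E7_6 nxeta_E7_6 6 70 7 = true := by decide +kernel

set_option maxRecDepth 1000000 in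
set_option maxHeartbeats 0 in
theorem nxC_E7_6_11 : nxCheckRange chevE7 nxca_E7_6 nxrt_E7_6 nxeta_E7_6 6 77 7 = true := by decide +kernel

set_option maxRecDepth 1000000 in
set_option maxHeartbeats 0 in
theorem nxC_E7_6_12 : nxCheckRange chevE7 nxca_E7_6 nxrt_E7_6 nxeta_E7_6 6 84 7 = true := by decide +kernel

set_option maxRecDepth 1000000 in
set_option maxHeartbeats 0 in
theorem nxC_E7_6_13 : nxCheckRange chevE7 nxca_E7_6 nxrt_E7_6 nxeta_E7_6 6 91 7 = true := by decide +kernel

set_option maxRecDepth 1000000 in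
set_option maxHeartbeats 0 in
theorem nxC_E7_6_14 : nxCheckRange chevE7 nxca_E7_6 nxrt_E7_6 nxeta_E7_6 6 98 7 = true := by decide +kernel

set_option maxRecDepth 1000000 in
set_option maxHeartbeats 0 in
theorem nxC_E7_6_15 : nxCheckRange chevE7 nxca_E7_6 nxrt_E7_6 nxeta_E7_6 6 105 7 = true := by decide +kernel

set_option maxRecDepth 1000000 in
set_option maxHeartbeats 0 in
theorem nxC_E7_6_16 : nxCheckRange chevE7 nxca_E7_6 nxrt_E7_6 nxeta_E7_6 6 112 7 = true := by decide +kernel

set_option maxRecDepth 1000000 in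
set_option maxHeartbeats 0 in
theorem nxC_E7_6_17 : nxCheckRange chevE7 nxca_E7_6 nxrt_E7_6 nxeta_E7_6 6 119 7 = true := by decide +kernel

end Cfsg.Agent.helper5.Chev
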