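import Mathlib
import Cfsg.Agent.Lib_helper5_ChevNXDefsE7

set_option autoImplicit false

namespace Cfsg.Agent.helper5.Chev

open Cfsg.Lie

set_option maxRecDepth 1000000 in
set_option maxHeartbeats 0 in
theorem nxT_E7_0_0 : tabCheckRange chevE7 nxrt_E7_0 nxeta_E7_0 0 0 63 = true := by decide +kernel

set_option maxRecDepth 1000000 in
set_option maxHeartbeats 0 in
theorem nxT_E7_0_1 : tabCheckRange chevE7 nxrt_E7_0 nxeta_E7_0 0 63 63 = true := by decide +kernel

theorem nxTab_E7_0 : NXTab chevE7 0 nxca_E7_0 nxrt_E7_0 nxeta_E7_0 := by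
  apply nxTab_of_chunks chevE7 0 nxca_E7_0 nxrt_E7_0 nxeta_E7_0 (by decide +kernel) 63 2 (by decide +kernel) (by decide +kernel)
  intro k hk
  interval_cases k
  · exact nxT_E7_0_0
  · exact nxT_E7_0_1

set_option maxRecDepth 1000000 in
set_option maxHeartbeats 0 in
theorem nxT_E7_1_0 : tabCheckRange chevE7 nxrt_E7_1 nxeta_E7_1 1 0 63 = true := by decide +kernel

set_option maxRecDepth 1000000 in
set_option maxHeartbeats 0 in
theorem nxT_E7_1_1 : tabCheckRange chevE7 nxrt_E7_1 nxeta_E7_1 1 63 63 = true := by decide +kernel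

theorem nxTab_E7_1 : NXTab chevE7 1 nxca_E7_1 nxrt_E7_1 nxeta_E7_1 := by
  apply nxTab_of_chunks chevE7 1 nxca_E7_1 nxrt_E7_1 nxeta_E7_1 (by decide +kernel) 63 2 (by decide +kernel) (by decide +kernel)
  intro k hk
  interval_cases k
  · exact nxT_E7_1_0
  · exact nxT_E7_1_1

set_option maxRecDepth 1000000 in
set_option maxHeartbeats 0 in
theorem nxT_E7_2_0 : tabCheckRange chevE7 nxrt_E7_2 nxeta_E7_2 2 0 63 = true := by decide +kernel

set_option maxRecDepth 1000000 in
set_option maxHeartbeats 0 in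
theorem nxT_E7_2_1 : tabCheckRange chevE7 nxrt_E7_2 nxeta_E7_2 2 63 63 = true := by decide +kernel

theorem nxTab_E7_2 : NXTab chevE7 2 nxca_E7_2 nxrt_E7_2 nxeta_E7_2 := by
  apply nxTab_of_chunks chevE7 2 nxca_E7_2 nxrt_E7_2 nxeta_E7_2 (by decide +kernel) 63 2 (by decide +kernel) (by decide +kernel)
  intro k hk
  interval_cases k
  · exact nxT_E7_2_0
  · exact nxT_E7_2_1

set_option maxRecDepth 1000000 in
set_option maxHeartbeats 0 in
theorem nxT_E7_3_0 : tabCheckRange chevE7 nxrt_E7_3 nxeta_E7_3 3 0 63 = true := by decide +kernel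

set_option maxRecDepth 1000000 in
set_option maxHeartbeats 0 in
theorem nxT_E7_3_1 : tabCheckRange chevE7 nxrt_E7_3 nxeta_E7_3 3 63 63 = true := by decide +kernel

theorem nxTab_E7_3 : NXTab chevE7 3 nxca_E7_3 nxrt_E7_3 nxeta_E7_3 := by
  apply nxTab_of_chunks chevE7 3 nxca_E7_3 nxrt_E7_3 nxeta_E7_3 (by decide +kernel) 63 2 (by decide +kernel) (by decide +kernel)
  intro k hk
  interval_cases k
  · exact nxT_E7_3_0
  · exact nxT_E7_3_1

set_option maxRecDepth 1000000 in
set_option maxHeartbeats 0 in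
theorem nxT_E7_4_0 : tabCheckRange chevE7 nxrt_E7_4 nxeta_E7_4 4 0 63 = true := by decide +kernel

set_option maxRecDepth 1000000 in
set_option maxHeartbeats 0 in
theorem nxT_E7_4_1 : tabCheckRange chevE7 nxrt_E7_4 nxeta_E7_4 4 63 63 = true := by decide +kernel

theorem nxTab_E7_4 : NXTab chevE7 4 nxca_E7_4 nxrt_E7_4 nxeta_E7_4 := by
  apply nxTab_of_chunks chevE7 4 nxca_E7_4 nxrt_E7_4 nxeta_E7_4 (by decide +kernel) 63 2 (by decide +kernel) (by decide +kernel)
  intro k hk
  interval_cases k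
  · exact nxT_E7_4_0
  · exact nxT_E7_4_1

set_option maxRecDepth 1000000 in
set_option maxHeartbeats 0 in
theorem nxT_E7_5_0 : tabCheckRange chevE7 nxrt_E7_5 nxeta_E7_5 5 0 63 = true := by decide +kernel

set_option maxRecDepth 1000000 in
set_option maxHeartbeats 0 in
theorem nxT_E7_5_1 : tabCheckRange chevE7 nxrt_E7_5 nxeta_E7_5 5 63 63 = true := by decide +kernel

theorem nxTab_E7_5 : NXTab chevE7 5 nxca_E7_5 nxrt_E7_5 nxeta_E7_5 := by
  apply nxTab_of_chunks chevE7 5 nxca_E7_5 nxrt_E7_5 nxeta_E7_5 (by decide +kernel) 63 2 (by decide +kernel) (by decide +kernel)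
  intro k hk
  interval_cases k
  · exact nxT_E7_5_0
  · exact nxT_E7_5_1

set_option maxRecDepth 1000000 in
set_option maxHeartbeats 0 in
theorem nxT_E7_6_0 : tabCheckRange chevE7 nxrt_E7_6 nxeta_E7_6 6 0 63 = true := by decide +kernel

set_option maxRecDepth 1000000 in
set_option maxHeartbeats 0 in
theorem nxT_E7_6_1 : tabCheckRange chevE7 nxrt_E7_6 nxeta_E7_6 6 63 63 = true := by decide +kernel

theorem nxTab_E7_6 : NXTab chevE7 6 nxca_E7_6 nxrt_E7_6 nxeta_E7_6 := by
  apply nxTab_of_chunks chevE7 6 nxca_E7_6 nxrt_E7_6 nxeta_E7_6 (by decide +kernel) 63 2 (by decide +kernel) (by decide +kernel)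
  intro k hk
  interval_cases k
  · exact nxT_E7_6_0
  · exact nxT_E7_6_1

end Cfsg.Agent.helper5.Chev
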