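import Mathlib
import Cfsg.Agent.Lib_helper5_ChevNXTabE7_0
import Cfsg.Agent.Lib_helper5_ChevNXE7_00
import Cfsg.Agent.Lib_helper5_ChevNXE7_01
import Cfsg.Agent.Lib_helper5_ChevNXE7_02
import Cfsg.Agent.Lib_helper5_ChevNXE7_03

set_option autoImplicit false

namespace Cfsg.Agent.helper5.Chev

open Cfsg.Lie

theorem nxAll_E7 : NXAll chevE7 := by
  intro i hi
  have hn : chevE7.rank = 7 := rfl
  rw [hn] at hi
  interval_cases i
  · refine ⟨nxca_E7_0, nxrt_E7_0, nxeta_E7_0, nxTab_E7_0, ?_⟩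
    apply nxCheckS_of_chunks chevE7 0 nxca_E7_0 nxrt_E7_0 nxeta_E7_0 7 18 (by decide +kernel) (by decide +kernel)
    intro k hk
    interval_cases k
    · exact nxC_E7_0_0
    · exact nxC_E7_0_1
    · exact nxC_E7_0_2
    · exact nxC_E7_0_3
    · exact nxC_E7_0_4
    · exact nxC_E7_0_5
    · exact nxC_E7_0_6
    · exact nxC_E7_0_7
    · exact nxC_E7_0_8
    · exact nxC_E7_0_9
    · exact nxC_E7_0_10
    · exact nxC_E7_0_11
    · exact nxC_E7_0_12
    · exact nxC_E7_0_13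
    · exact nxC_E7_0_14
    · exact nxC_E7_0_15
    · exact nxC_E7_0_16
    · exact nxC_E7_0_17
  · refine ⟨nxca_E7_1, nxrt_E7_1, nxeta_E7_1, nxTab_E7_1, ?_⟩
    apply nxCheckS_of_chunks chevE7 1 nxca_E7_1 nxrt_E7_1 nxeta_E7_1 7 18 (by decide +kernel) (by decide +kernel)
    intro k hk
    interval_cases k
    · exact nxC_E7_1_0
    · exact nxC_E7_1_1
    · exact nxC_E7_1_2
    · exact nxC_E7_1_3
    · exact nxC_E7_1_4
    · exact nxC_E7_1_5
    · exact nxC_E7_1_6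
    · exact nxC_E7_1_7
    · exact nxC_E7_1_8
    · exact nxC_E7_1_9
    · exact nxC_E7_1_10
    · exact nxC_E7_1_11
    · exact nxC_E7_1_12
    · exact nxC_E7_1_13
    · exact nxC_E7_1_14
    · exact nxC_E7_1_15
    · exact nxC_E7_1_16
    · exact nxC_E7_1_17
  · refine ⟨nxca_E7_2, nxrt_E7_2, nxeta_E7_2, nxTab_E7_2, ?_⟩
    apply nxCheckS_of_chunks chevE7 2 nxca_E7_2 nxrt_E7_2 nxeta_E7_2 7 18 (by decide +kernel) (by decide +kernel)
    intro k hk
    interval_cases k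
    · exact nxC_E7_2_0
    · exact nxC_E7_2_1
    · exact nxC_E7_2_2
    · exact nxC_E7_2_3
    · exact nxC_E7_2_4
    · exact nxC_E7_2_5
    · exact nxC_E7_2_6
    · exact nxC_E7_2_7
    · exact nxC_E7_2_8
    · exact nxC_E7_2_9
    · exact nxC_E7_2_10
    · exact nxC_E7_2_11
    · exact nxC_E7_2_12
    · exact nxC_E7_2_13
    · exact nxC_E7_2_14
    · exact nxC_E7_2_15
    · exact nxC_E7_2_16
    · exact nxC_E7_2_17
  · refine ⟨nxca_E7_3, nxrt_E7_3, nxeta_E7_3, nxTab_E7_3, ?_⟩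
    apply nxCheckS_of_chunks chevE7 3 nxca_E7_3 nxrt_E7_3 nxeta_E7_3 7 18 (by decide +kernel) (by decide +kernel)
    intro k hk
    interval_cases k
    · exact nxC_E7_3_0
    · exact nxC_E7_3_1
    · exact nxC_E7_3_2
    · exact nxC_E7_3_3
    · exact nxC_E7_3_4
    · exact nxC_E7_3_5
    · exact nxC_E7_3_6
    · exact nxC_E7_3_7
    · exact nxC_E7_3_8
    · exact nxC_E7_3_9
    · exact nxC_E7_3_10
    · exact nxC_E7_3_11
    · exact nxC_E7_3_12
    · exact nxC_E7_3_13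
    · exact nxC_E7_3_14
    · exact nxC_E7_3_15
    · exact nxC_E7_3_16
    · exact nxC_E7_3_17
  · refine ⟨nxca_E7_4, nxrt_E7_4, nxeta_E7_4, nxTab_E7_4, ?_⟩
    apply nxCheckS_of_chunks chevE7 4 nxca_E7_4 nxrt_E7_4 nxeta_E7_4 7 18 (by decide +kernel) (by decide +kernel)
    intro k hk
    interval_cases k
    · exact nxC_E7_4_0
    · exact nxC_E7_4_1
    · exact nxC_E7_4_2
    · exact nxC_E7_4_3
    · exact nxC_E7_4_4
    · exact nxC_E7_4_5
    · exact nxC_E7_4_6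
    · exact nxC_E7_4_7
    · exact nxC_E7_4_8
    · exact nxC_E7_4_9
    · exact nxC_E7_4_10
    · exact nxC_E7_4_11
    · exact nxC_E7_4_12
    · exact nxC_E7_4_13
    · exact nxC_E7_4_14
    · exact nxC_E7_4_15
    · exact nxC_E7_4_16
    · exact nxC_E7_4_17
  · refine ⟨nxca_E7_5, nxrt_E7_5, nxeta_E7_5, nxTab_E7_5, ?_⟩
    apply nxCheckS_of_chunks chevE7 5 nxca_E7_5 nxrt_E7_5 nxeta_E7_5 7 18 (by decide +kernel) (by decide +kernel)
    intro k hk
    interval_cases k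
    · exact nxC_E7_5_0
    · exact nxC_E7_5_1
    · exact nxC_E7_5_2
    · exact nxC_E7_5_3
    · exact nxC_E7_5_4
    · exact nxC_E7_5_5
    · exact nxC_E7_5_6
    · exact nxC_E7_5_7
    · exact nxC_E7_5_8
    · exact nxC_E7_5_9
    · exact nxC_E7_5_10
    · exact nxC_E7_5_11
    · exact nxC_E7_5_12
    · exact nxC_E7_5_13
    · exact nxC_E7_5_14
    · exact nxC_E7_5_15
    · exact nxC_E7_5_16
    · exact nxC_E7_5_17
  · refine ⟨nxca_E7_6, nxrt_E7_6, nxeta_E7_6, nxTab_E7_6, ?_⟩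
    apply nxCheckS_of_chunks chevE7 6 nxca_E7_6 nxrt_E7_6 nxeta_E7_6 7 18 (by decide +kernel) (by decide +kernel)
    intro k hk
    interval_cases k
    · exact nxC_E7_6_0
    · exact nxC_E7_6_1
    · exact nxC_E7_6_2
    · exact nxC_E7_6_3
    · exact nxC_E7_6_4
    · exact nxC_E7_6_5
    · exact nxC_E7_6_6
    · exact nxC_E7_6_7
    · exact nxC_E7_6_8
    · exact nxC_E7_6_9
    · exact nxC_E7_6_10
    · exact nxC_E7_6_11
    · exact nxC_E7_6_12
    · exact nxC_E7_6_13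
    · exact nxC_E7_6_14
    · exact nxC_E7_6_15
    · exact nxC_E7_6_16
    · exact nxC_E7_6_17

end Cfsg.Agent.helper5.Chev
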