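import Mathlib
import Cfsg.Agent.Lib_helper5_ChevNXDefsE8

set_option autoImplicit false

namespace Cfsg.Agent.helper5.Chev

open Cfsg.Lie

set_option maxRecDepth 1000000 in
set_option maxHeartbeats 0 in
theorem nxC_E8_0_0 : nxCheckRange chevE8 nxca_E8_0 nxrt_E8_0 nxeta_E8_0 0 0 4 = true := by decide +kernel

set_option maxRecDepth 1000000 in
set_option maxHeartbeats 0 in
theorem nxC_E8_0_1 : nxCheckRange chevE8 nxca_E8_0 nxrt_E8_0 nxeta_E8_0 0 4 4 = true := by decide +kernel

set_option maxRecDepth 1000000 in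
set_option maxHeartbeats 0 in
theorem nxC_E8_0_2 : nxCheckRange chevE8 nxca_E8_0 nxrt_E8_0 nxeta_E8_0 0 8 4 = true := by decide +kernel

set_option maxRecDepth 1000000 in
set_option maxHeartbeats 0 in
theorem nxC_E8_0_3 : nxCheckRange chevE8 nxca_E8_0 nxrt_E8_0 nxeta_E8_0 0 12 4 = true := by decide +kernel

set_option maxRecDepth 1000000 in
set_option maxHeartbeats 0 in
theorem nxC_E8_0_4 : nxCheckRange chevE8 nxca_E8_0 nxrt_E8_0 nxeta_E8_0 0 16 4 = true := by decide +kernel

set_option maxRecDepth 1000000 in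
set_option maxHeartbeats 0 in
theorem nxC_E8_0_5 : nxCheckRange chevE8 nxca_E8_0 nxrt_E8_0 nxeta_E8_0 0 20 4 = true := by decide +kernel

set_option maxRecDepth 1000000 in
set_option maxHeartbeats 0 in
theorem nxC_E8_0_6 : nxCheckRange chevE8 nxca_E8_0 nxrt_E8_0 nxeta_E8_0 0 24 4 = true := by decide +kernel

set_option maxRecDepth 1000000 in
set_option maxHeartbeats 0 in
theorem nxC_E8_0_7 : nxCheckRange chevE8 nxca_E8_0 nxrt_E8_0 nxeta_E8_0 0 28 4 = true := by decide +kernel

set_option maxRecDepth 1000000 in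
set_option maxHeartbeats 0 in
theorem nxC_E8_0_8 : nxCheckRange chevE8 nxca_E8_0 nxrt_E8_0 nxeta_E8_0 0 32 4 = true := by decide +kernel

set_option maxRecDepth 1000000 in
set_option maxHeartbeats 0 in
theorem nxC_E8_0_9 : nxCheckRange chevE8 nxca_E8_0 nxrt_E8_0 nxeta_E8_0 0 36 4 = true := by decide +kernel

set_option maxRecDepth 1000000 in
set_option maxHeartbeats 0 in
theorem nxC_E8_0_10 : nxCheckRange chevE8 nxca_E8_0 nxrt_E8_0 nxeta_E8_0 0 40 4 = true := by decide +kernel

set_option maxRecDepth 1000000 in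
set_option maxHeartbeats 0 in
theorem nxC_E8_0_11 : nxCheckRange chevE8 nxca_E8_0 nxrt_E8_0 nxeta_E8_0 0 44 4 = true := by decide +kernel

set_option maxRecDepth 1000000 in
set_option maxHeartbeats 0 in
theorem nxC_E8_0_12 : nxCheckRange chevE8 nxca_E8_0 nxrt_E8_0 nxeta_E8_0 0 48 4 = true := by decide +kernel

set_option maxRecDepth 1000000 in
set_option maxHeartbeats 0 in
theorem nxC_E8_0_13 : nxCheckRange chevE8 nxca_E8_0 nxrt_E8_0 nxeta_E8_0 0 52 4 = true := by decide +kernel

set_option maxRecDepth 1000000 in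
set_option maxHeartbeats 0 in
theorem nxC_E8_0_14 : nxCheckRange chevE8 nxca_E8_0 nxrt_E8_0 nxeta_E8_0 0 56 4 = true := by decide +kernel

set_option maxRecDepth 1000000 in
set_option maxHeartbeats 0 in
theorem nxC_E8_0_15 : nxCheckRange chevE8 nxca_E8_0 nxrt_E8_0 nxeta_E8_0 0 60 4 = true := by decide +kernel

set_option maxRecDepth 1000000 in
set_option maxHeartbeats 0 in
theorem nxC_E8_0_16 : nxCheckRange chevE8 nxca_E8_0 nxrt_E8_0 nxeta_E8_0 0 64 4 = true := by decide +kernel

set_option maxRecDepth 1000000 in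
set_option maxHeartbeats 0 in
theorem nxC_E8_0_17 : nxCheckRange chevE8 nxca_E8_0 nxrt_E8_0 nxeta_E8_0 0 68 4 = true := by decide +kernel

set_option maxRecDepth 1000000 in
set_option maxHeartbeats 0 in
theorem nxC_E8_0_18 : nxCheckRange chevE8 nxca_E8_0 nxrt_E8_0 nxeta_E8_0 0 72 4 = true := by decide +kernel

set_option maxRecDepth 1000000 in
set_option maxHeartbeats 0 in
theorem nxC_E8_0_19 : nxCheckRange chevE8 nxca_E8_0 nxrt_E8_0 nxeta_E8_0 0 76 4 = true := by decide +kernel

set_option maxRecDepth 1000000 in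
set_option maxHeartbeats 0 in
theorem nxC_E8_0_20 : nxCheckRange chevE8 nxca_E8_0 nxrt_E8_0 nxeta_E8_0 0 80 4 = true := by decide +kernel

set_option maxRecDepth 1000000 in
set_option maxHeartbeats 0 in
theorem nxC_E8_0_21 : nxCheckRange chevE8 nxca_E8_0 nxrt_E8_0 nxeta_E8_0 0 84 4 = true := by decide +kernel

set_option maxRecDepth 1000000 in
set_option maxHeartbeats 0 in
theorem nxC_E8_0_22 : nxCheckRange chevE8 nxca_E8_0 nxrt_E8_0 nxeta_E8_0 0 88 4 = true := by decide +kernel

set_option maxRecDepth 1000000 in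
set_option maxHeartbeats 0 in
theorem nxC_E8_0_23 : nxCheckRange chevE8 nxca_E8_0 nxrt_E8_0 nxeta_E8_0 0 92 4 = true := by decide +kernel

set_option maxRecDepth 1000000 in
set_option maxHeartbeats 0 in
theorem nxC_E8_0_24 : nxCheckRange chevE8 nxca_E8_0 nxrt_E8_0 nxeta_E8_0 0 96 4 = true := by decide +kernel

set_option maxRecDepth 1000000 in
set_option maxHeartbeats 0 in
theorem nxC_E8_0_25 : nxCheckRange chevE8 nxca_E8_0 nxrt_E8_0 nxeta_E8_0 0 100 4 = true := by decide +kernel

set_option maxRecDepth 1000000 in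
set_option maxHeartbeats 0 in
theorem nxC_E8_0_26 : nxCheckRange chevE8 nxca_E8_0 nxrt_E8_0 nxeta_E8_0 0 104 4 = true := by decide +kernel

set_option maxRecDepth 1000000 in
set_option maxHeartbeats 0 in
theorem nxC_E8_0_27 : nxCheckRange chevE8 nxca_E8_0 nxrt_E8_0 nxeta_E8_0 0 108 4 = true := by decide +kernel

set_option maxRecDepth 1000000 in
set_option maxHeartbeats 0 in
theorem nxC_E8_0_28 : nxCheckRange chevE8 nxca_E8_0 nxrt_E8_0 nxeta_E8_0 0 112 4 = true := by decide +kernel

set_option maxRecDepth 1000000 in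
set_option maxHeartbeats 0 in
theorem nxC_E8_0_29 : nxCheckRange chevE8 nxca_E8_0 nxrt_E8_0 nxeta_E8_0 0 116 4 = true := by decide +kernel

end Cfsg.Agent.helper5.Chev
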