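import Mathlib
import Cfsg.Agent.Lib_helper5_ChevNXDefsE8

set_option autoImplicit false

namespace Cfsg.Agent.helper5.Chev

open Cfsg.Lie

set_option maxRecDepth 1000000 in
set_option maxHeartbeats 0 in
theorem nxC_E8_0_30 : nxCheckRange chevE8 nxca_E8_0 nxrt_E8_0 nxeta_E8_0 0 120 4 = true := by decide +kernel

set_option maxRecDepth 1000000 in
set_option maxHeartbeats 0 in
theorem nxC_E8_0_31 : nxCheckRange chevE8 nxca_E8_0 nxrt_E8_0 nxeta_E8_0 0 124 4 = true := by decide +kernel

set_option maxRecDepth 1000000 in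
set_option maxHeartbeats 0 in
theorem nxC_E8_0_32 : nxCheckRange chevE8 nxca_E8_0 nxrt_E8_0 nxeta_E8_0 0 128 4 = true := by decide +kernel

set_option maxRecDepth 1000000 in
set_option maxHeartbeats 0 in
theorem nxC_E8_0_33 : nxCheckRange chevE8 nxca_E8_0 nxrt_E8_0 nxeta_E8_0 0 132 4 = true := by decide +kernel

set_option maxRecDepth 1000000 in
set_option maxHeartbeats 0 in
theorem nxC_E8_0_34 : nxCheckRange chevE8 nxca_E8_0 nxrt_E8_0 nxeta_E8_0 0 136 4 = true := by decide +kernel

set_option maxRecDepth 1000000 in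
set_option maxHeartbeats 0 in
theorem nxC_E8_0_35 : nxCheckRange chevE8 nxca_E8_0 nxrt_E8_0 nxeta_E8_0 0 140 4 = true := by decide +kernel

set_option maxRecDepth 1000000 in
set_option maxHeartbeats 0 in
theorem nxC_E8_0_36 : nxCheckRange chevE8 nxca_E8_0 nxrt_E8_0 nxeta_E8_0 0 144 4 = true := by decide +kernel

set_option maxRecDepth 1000000 in
set_option maxHeartbeats 0 in
theorem nxC_E8_0_37 : nxCheckRange chevE8 nxca_E8_0 nxrt_E8_0 nxeta_E8_0 0 148 4 = true := by decide +kernel

set_option maxRecDepth 1000000 in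
set_option maxHeartbeats 0 in
theorem nxC_E8_0_38 : nxCheckRange chevE8 nxca_E8_0 nxrt_E8_0 nxeta_E8_0 0 152 4 = true := by decide +kernel

set_option maxRecDepth 1000000 in
set_option maxHeartbeats 0 in
theorem nxC_E8_0_39 : nxCheckRange chevE8 nxca_E8_0 nxrt_E8_0 nxeta_E8_0 0 156 4 = true := by decide +kernel

set_option maxRecDepth 1000000 in
set_option maxHeartbeats 0 in
theorem nxC_E8_0_40 : nxCheckRange chevE8 nxca_E8_0 nxrt_E8_0 nxeta_E8_0 0 160 4 = true := by decide +kernel

set_option maxRecDepth 1000000 in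
set_option maxHeartbeats 0 in
theorem nxC_E8_0_41 : nxCheckRange chevE8 nxca_E8_0 nxrt_E8_0 nxeta_E8_0 0 164 4 = true := by decide +kernel

set_option maxRecDepth 1000000 in
set_option maxHeartbeats 0 in
theorem nxC_E8_0_42 : nxCheckRange chevE8 nxca_E8_0 nxrt_E8_0 nxeta_E8_0 0 168 4 = true := by decide +kernel

set_option maxRecDepth 1000000 in
set_option maxHeartbeats 0 in
theorem nxC_E8_0_43 : nxCheckRange chevE8 nxca_E8_0 nxrt_E8_0 nxeta_E8_0 0 172 4 = true := by decide +kernel

set_option maxRecDepth 1000000 in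
set_option maxHeartbeats 0 in
theorem nxC_E8_0_44 : nxCheckRange chevE8 nxca_E8_0 nxrt_E8_0 nxeta_E8_0 0 176 4 = true := by decide +kernel

set_option maxRecDepth 1000000 in
set_option maxHeartbeats 0 in
theorem nxC_E8_0_45 : nxCheckRange chevE8 nxca_E8_0 nxrt_E8_0 nxeta_E8_0 0 180 4 = true := by decide +kernel

set_option maxRecDepth 1000000 in
set_option maxHeartbeats 0 in
theorem nxC_E8_0_46 : nxCheckRange chevE8 nxca_E8_0 nxrt_E8_0 nxeta_E8_0 0 184 4 = true := by decide +kernel

set_option maxRecDepth 1000000 in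
set_option maxHeartbeats 0 in
theorem nxC_E8_0_47 : nxCheckRange chevE8 nxca_E8_0 nxrt_E8_0 nxeta_E8_0 0 188 4 = true := by decide +kernel

set_option maxRecDepth 1000000 in
set_option maxHeartbeats 0 in
theorem nxC_E8_0_48 : nxCheckRange chevE8 nxca_E8_0 nxrt_E8_0 nxeta_E8_0 0 192 4 = true := by decide +kernel

set_option maxRecDepth 1000000 in
set_option maxHeartbeats 0 in
theorem nxC_E8_0_49 : nxCheckRange chevE8 nxca_E8_0 nxrt_E8_0 nxeta_E8_0 0 196 4 = true := by decide +kernel

set_option maxRecDepth 1000000 in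
set_option maxHeartbeats 0 in
theorem nxC_E8_0_50 : nxCheckRange chevE8 nxca_E8_0 nxrt_E8_0 nxeta_E8_0 0 200 4 = true := by decide +kernel

set_option maxRecDepth 1000000 in
set_option maxHeartbeats 0 in
theorem nxC_E8_0_51 : nxCheckRange chevE8 nxca_E8_0 nxrt_E8_0 nxeta_E8_0 0 204 4 = true := by decide +kernel

set_option maxRecDepth 1000000 in
set_option maxHeartbeats 0 in
theorem nxC_E8_0_52 : nxCheckRange chevE8 nxca_E8_0 nxrt_E8_0 nxeta_E8_0 0 208 4 = true := by decide +kernel

set_option maxRecDepth 1000000 in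
set_option maxHeartbeats 0 in
theorem nxC_E8_0_53 : nxCheckRange chevE8 nxca_E8_0 nxrt_E8_0 nxeta_E8_0 0 212 4 = true := by decide +kernel

set_option maxRecDepth 1000000 in
set_option maxHeartbeats 0 in
theorem nxC_E8_0_54 : nxCheckRange chevE8 nxca_E8_0 nxrt_E8_0 nxeta_E8_0 0 216 4 = true := by decide +kernel

set_option maxRecDepth 1000000 in
set_option maxHeartbeats 0 in
theorem nxC_E8_0_55 : nxCheckRange chevE8 nxca_E8_0 nxrt_E8_0 nxeta_E8_0 0 220 4 = true := by decide +kernel

set_option maxRecDepth 1000000 in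
set_option maxHeartbeats 0 in
theorem nxC_E8_0_56 : nxCheckRange chevE8 nxca_E8_0 nxrt_E8_0 nxeta_E8_0 0 224 4 = true := by decide +kernel

set_option maxRecDepth 1000000 in
set_option maxHeartbeats 0 in
theorem nxC_E8_0_57 : nxCheckRange chevE8 nxca_E8_0 nxrt_E8_0 nxeta_E8_0 0 228 4 = true := by decide +kernel

set_option maxRecDepth 1000000 in
set_option maxHeartbeats 0 in
theorem nxC_E8_0_58 : nxCheckRange chevE8 nxca_E8_0 nxrt_E8_0 nxeta_E8_0 0 232 4 = true := by decide +kernel

set_option maxRecDepth 1000000 in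
set_option maxHeartbeats 0 in
theorem nxC_E8_0_59 : nxCheckRange chevE8 nxca_E8_0 nxrt_E8_0 nxeta_E8_0 0 236 4 = true := by decide +kernel

end Cfsg.Agent.helper5.Chev
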