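import Mathlib
import Cfsg.Agent.Lib_helper5_ChevNXDefsE8

set_option autoImplicit false

namespace Cfsg.Agent.helper5.Chev

open Cfsg.Lie

set_option maxRecDepth 1000000 in
set_option maxHeartbeats 0 in
theorem nxC_E8_1_0 : nxCheckRange chevE8 nxca_E8_1 nxrt_E8_1 nxeta_E8_1 1 0 4 = true := by decide +kernel

set_option maxRecDepth 1000000 in
set_option maxHeartbeats 0 in
theorem nxC_E8_1_1 : nxCheckRange chevE8 nxca_E8_1 nxrt_E8_1 nxeta_E8_1 1 4 4 = true := by decide +kernel

set_option maxRecDepth 1000000 in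
set_option maxHeartbeats 0 in
theorem nxC_E8_1_2 : nxCheckRange chevE8 nxca_E8_1 nxrt_E8_1 nxeta_E8_1 1 8 4 = true := by decide +kernel

set_option maxRecDepth 1000000 in
set_option maxHeartbeats 0 in
theorem nxC_E8_1_3 : nxCheckRange chevE8 nxca_E8_1 nxrt_E8_1 nxeta_E8_1 1 12 4 = true := by decide +kernel

set_option maxRecDepth 1000000 in
set_option maxHeartbeats 0 in
theorem nxC_E8_1_4 : nxCheckRange chevE8 nxca_E8_1 nxrt_E8_1 nxeta_E8_1 1 16 4 = true := by decide +kernel

set_option maxRecDepth 1000000 in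
set_option maxHeartbeats 0 in
theorem nxC_E8_1_5 : nxCheckRange chevE8 nxca_E8_1 nxrt_E8_1 nxeta_E8_1 1 20 4 = true := by decide +kernel

set_option maxRecDepth 1000000 in
set_option maxHeartbeats 0 in
theorem nxC_E8_1_6 : nxCheckRange chevE8 nxca_E8_1 nxrt_E8_1 nxeta_E8_1 1 24 4 = true := by decide +kernel

set_option maxRecDepth 1000000 in
set_option maxHeartbeats 0 in
theorem nxC_E8_1_7 : nxCheckRange chevE8 nxca_E8_1 nxrt_E8_1 nxeta_E8_1 1 28 4 = true := by decide +kernel

set_option maxRecDepth 1000000 in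
set_option maxHeartbeats 0 in
theorem nxC_E8_1_8 : nxCheckRange chevE8 nxca_E8_1 nxrt_E8_1 nxeta_E8_1 1 32 4 = true := by decide +kernel

set_option maxRecDepth 1000000 in
set_option maxHeartbeats 0 in
theorem nxC_E8_1_9 : nxCheckRange chevE8 nxca_E8_1 nxrt_E8_1 nxeta_E8_1 1 36 4 = true := by decide +kernel

set_option maxRecDepth 1000000 in
set_option maxHeartbeats 0 in
theorem nxC_E8_1_10 : nxCheckRange chevE8 nxca_E8_1 nxrt_E8_1 nxeta_E8_1 1 40 4 = true := by decide +kernel

set_option maxRecDepth 1000000 in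
set_option maxHeartbeats 0 in
theorem nxC_E8_1_11 : nxCheckRange chevE8 nxca_E8_1 nxrt_E8_1 nxeta_E8_1 1 44 4 = true := by decide +kernel

set_option maxRecDepth 1000000 in
set_option maxHeartbeats 0 in
theorem nxC_E8_1_12 : nxCheckRange chevE8 nxca_E8_1 nxrt_E8_1 nxeta_E8_1 1 48 4 = true := by decide +kernel

set_option maxRecDepth 1000000 in
set_option maxHeartbeats 0 in
theorem nxC_E8_1_13 : nxCheckRange chevE8 nxca_E8_1 nxrt_E8_1 nxeta_E8_1 1 52 4 = true := by decide +kernel

set_option maxRecDepth 1000000 in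
set_option maxHeartbeats 0 in
theorem nxC_E8_1_14 : nxCheckRange chevE8 nxca_E8_1 nxrt_E8_1 nxeta_E8_1 1 56 4 = true := by decide +kernel

set_option maxRecDepth 1000000 in
set_option maxHeartbeats 0 in
theorem nxC_E8_1_15 : nxCheckRange chevE8 nxca_E8_1 nxrt_E8_1 nxeta_E8_1 1 60 4 = true := by decide +kernel

set_option maxRecDepth 1000000 in
set_option maxHeartbeats 0 in
theorem nxC_E8_1_16 : nxCheckRange chevE8 nxca_E8_1 nxrt_E8_1 nxeta_E8_1 1 64 4 = true := by decide +kernel

set_option maxRecDepth 1000000 in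
set_option maxHeartbeats 0 in
theorem nxC_E8_1_17 : nxCheckRange chevE8 nxca_E8_1 nxrt_E8_1 nxeta_E8_1 1 68 4 = true := by decide +kernel

set_option maxRecDepth 1000000 in
set_option maxHeartbeats 0 in
theorem nxC_E8_1_18 : nxCheckRange chevE8 nxca_E8_1 nxrt_E8_1 nxeta_E8_1 1 72 4 = true := by decide +kernel

set_option maxRecDepth 1000000 in
set_option maxHeartbeats 0 in
theorem nxC_E8_1_19 : nxCheckRange chevE8 nxca_E8_1 nxrt_E8_1 nxeta_E8_1 1 76 4 = true := by decide +kernel

set_option maxRecDepth 1000000 in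
set_option maxHeartbeats 0 in
theorem nxC_E8_1_20 : nxCheckRange chevE8 nxca_E8_1 nxrt_E8_1 nxeta_E8_1 1 80 4 = true := by decide +kernel

set_option maxRecDepth 1000000 in
set_option maxHeartbeats 0 in
theorem nxC_E8_1_21 : nxCheckRange chevE8 nxca_E8_1 nxrt_E8_1 nxeta_E8_1 1 84 4 = true := by decide +kernel

set_option maxRecDepth 1000000 in
set_option maxHeartbeats 0 in
theorem nxC_E8_1_22 : nxCheckRange chevE8 nxca_E8_1 nxrt_E8_1 nxeta_E8_1 1 88 4 = true := by decide +kernel

set_option maxRecDepth 1000000 in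
set_option maxHeartbeats 0 in
theorem nxC_E8_1_23 : nxCheckRange chevE8 nxca_E8_1 nxrt_E8_1 nxeta_E8_1 1 92 4 = true := by decide +kernel

set_option maxRecDepth 1000000 in
set_option maxHeartbeats 0 in
theorem nxC_E8_1_24 : nxCheckRange chevE8 nxca_E8_1 nxrt_E8_1 nxeta_E8_1 1 96 4 = true := by decide +kernel

set_option maxRecDepth 1000000 in
set_option maxHeartbeats 0 in
theorem nxC_E8_1_25 : nxCheckRange chevE8 nxca_E8_1 nxrt_E8_1 nxeta_E8_1 1 100 4 = true := by decide +kernel

set_option maxRecDepth 1000000 in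
set_option maxHeartbeats 0 in
theorem nxC_E8_1_26 : nxCheckRange chevE8 nxca_E8_1 nxrt_E8_1 nxeta_E8_1 1 104 4 = true := by decide +kernel

set_option maxRecDepth 1000000 in
set_option maxHeartbeats 0 in
theorem nxC_E8_1_27 : nxCheckRange chevE8 nxca_E8_1 nxrt_E8_1 nxeta_E8_1 1 108 4 = true := by decide +kernel

set_option maxRecDepth 1000000 in
set_option maxHeartbeats 0 in
theorem nxC_E8_1_28 : nxCheckRange chevE8 nxca_E8_1 nxrt_E8_1 nxeta_E8_1 1 112 4 = true := by decide +kernel

set_option maxRecDepth 1000000 in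
set_option maxHeartbeats 0 in
theorem nxC_E8_1_29 : nxCheckRange chevE8 nxca_E8_1 nxrt_E8_1 nxeta_E8_1 1 116 4 = true := by decide +kernel

end Cfsg.Agent.helper5.Chev
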