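import Mathlib
import Cfsg.Agent.Lib_helper5_ChevNXDefsE8

set_option autoImplicit false

namespace Cfsg.Agent.helper5.Chev

open Cfsg.Lie

set_option maxRecDepth 1000000 in
set_option maxHeartbeats 0 in
theorem nxC_E8_1_30 : nxCheckRange chevE8 nxca_E8_1 nxrt_E8_1 nxeta_E8_1 1 120 4 = true := by decide +kernel

set_option maxRecDepth 1000000 in
set_option maxHeartbeats 0 in
theorem nxC_E8_1_31 : nxCheckRange chevE8 nxca_E8_1 nxrt_E8_1 nxeta_E8_1 1 124 4 = true := by decide +kernel

set_option maxRecDepth 1000000 in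
set_option maxHeartbeats 0 in
theorem nxC_E8_1_32 : nxCheckRange chevE8 nxca_E8_1 nxrt_E8_1 nxeta_E8_1 1 128 4 = true := by decide +kernel

set_option maxRecDepth 1000000 in
set_option maxHeartbeats 0 in
theorem nxC_E8_1_33 : nxCheckRange chevE8 nxca_E8_1 nxrt_E8_1 nxeta_E8_1 1 132 4 = true := by decide +kernel

set_option maxRecDepth 1000000 in
set_option maxHeartbeats 0 in
theorem nxC_E8_1_34 : nxCheckRange chevE8 nxca_E8_1 nxrt_E8_1 nxeta_E8_1 1 136 4 = true := by decide +kernel

set_option maxRecDepth 1000000 in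
set_option maxHeartbeats 0 in
theorem nxC_E8_1_35 : nxCheckRange chevE8 nxca_E8_1 nxrt_E8_1 nxeta_E8_1 1 140 4 = true := by decide +kernel

set_option maxRecDepth 1000000 in
set_option maxHeartbeats 0 in
theorem nxC_E8_1_36 : nxCheckRange chevE8 nxca_E8_1 nxrt_E8_1 nxeta_E8_1 1 144 4 = true := by decide +kernel

set_option maxRecDepth 1000000 in
set_option maxHeartbeats 0 in
theorem nxC_E8_1_37 : nxCheckRange chevE8 nxca_E8_1 nxrt_E8_1 nxeta_E8_1 1 148 4 = true := by decide +kernel

set_option maxRecDepth 1000000 in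
set_option maxHeartbeats 0 in
theorem nxC_E8_1_38 : nxCheckRange chevE8 nxca_E8_1 nxrt_E8_1 nxeta_E8_1 1 152 4 = true := by decide +kernel

set_option maxRecDepth 1000000 in
set_option maxHeartbeats 0 in
theorem nxC_E8_1_39 : nxCheckRange chevE8 nxca_E8_1 nxrt_E8_1 nxeta_E8_1 1 156 4 = true := by decide +kernel

set_option maxRecDepth 1000000 in
set_option maxHeartbeats 0 in
theorem nxC_E8_1_40 : nxCheckRange chevE8 nxca_E8_1 nxrt_E8_1 nxeta_E8_1 1 160 4 = true := by decide +kernel

set_option maxRecDepth 1000000 in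
set_option maxHeartbeats 0 in
theorem nxC_E8_1_41 : nxCheckRange chevE8 nxca_E8_1 nxrt_E8_1 nxeta_E8_1 1 164 4 = true := by decide +kernel

set_option maxRecDepth 1000000 in
set_option maxHeartbeats 0 in
theorem nxC_E8_1_42 : nxCheckRange chevE8 nxca_E8_1 nxrt_E8_1 nxeta_E8_1 1 168 4 = true := by decide +kernel

set_option maxRecDepth 1000000 in
set_option maxHeartbeats 0 in
theorem nxC_E8_1_43 : nxCheckRange chevE8 nxca_E8_1 nxrt_E8_1 nxeta_E8_1 1 172 4 = true := by decide +kernel

set_option maxRecDepth 1000000 in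
set_option maxHeartbeats 0 in
theorem nxC_E8_1_44 : nxCheckRange chevE8 nxca_E8_1 nxrt_E8_1 nxeta_E8_1 1 176 4 = true := by decide +kernel

set_option maxRecDepth 1000000 in
set_option maxHeartbeats 0 in
theorem nxC_E8_1_45 : nxCheckRange chevE8 nxca_E8_1 nxrt_E8_1 nxeta_E8_1 1 180 4 = true := by decide +kernel

set_option maxRecDepth 1000000 in
set_option maxHeartbeats 0 in
theorem nxC_E8_1_46 : nxCheckRange chevE8 nxca_E8_1 nxrt_E8_1 nxeta_E8_1 1 184 4 = true := by decide +kernel

set_option maxRecDepth 1000000 in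
set_option maxHeartbeats 0 in
theorem nxC_E8_1_47 : nxCheckRange chevE8 nxca_E8_1 nxrt_E8_1 nxeta_E8_1 1 188 4 = true := by decide +kernel

set_option maxRecDepth 1000000 in
set_option maxHeartbeats 0 in
theorem nxC_E8_1_48 : nxCheckRange chevE8 nxca_E8_1 nxrt_E8_1 nxeta_E8_1 1 192 4 = true := by decide +kernel

set_option maxRecDepth 1000000 in
set_option maxHeartbeats 0 in
theorem nxC_E8_1_49 : nxCheckRange chevE8 nxca_E8_1 nxrt_E8_1 nxeta_E8_1 1 196 4 = true := by decide +kernel

set_option maxRecDepth 1000000 in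
set_option maxHeartbeats 0 in
theorem nxC_E8_1_50 : nxCheckRange chevE8 nxca_E8_1 nxrt_E8_1 nxeta_E8_1 1 200 4 = true := by decide +kernel

set_option maxRecDepth 1000000 in
set_option maxHeartbeats 0 in
theorem nxC_E8_1_51 : nxCheckRange chevE8 nxca_E8_1 nxrt_E8_1 nxeta_E8_1 1 204 4 = true := by decide +kernel

set_option maxRecDepth 1000000 in
set_option maxHeartbeats 0 in
theorem nxC_E8_1_52 : nxCheckRange chevE8 nxca_E8_1 nxrt_E8_1 nxeta_E8_1 1 208 4 = true := by decide +kernel

set_option maxRecDepth 1000000 in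
set_option maxHeartbeats 0 in
theorem nxC_E8_1_53 : nxCheckRange chevE8 nxca_E8_1 nxrt_E8_1 nxeta_E8_1 1 212 4 = true := by decide +kernel

set_option maxRecDepth 1000000 in
set_option maxHeartbeats 0 in
theorem nxC_E8_1_54 : nxCheckRange chevE8 nxca_E8_1 nxrt_E8_1 nxeta_E8_1 1 216 4 = true := by decide +kernel

set_option maxRecDepth 1000000 in
set_option maxHeartbeats 0 in
theorem nxC_E8_1_55 : nxCheckRange chevE8 nxca_E8_1 nxrt_E8_1 nxeta_E8_1 1 220 4 = true := by decide +kernel

set_option maxRecDepth 1000000 in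
set_option maxHeartbeats 0 in
theorem nxC_E8_1_56 : nxCheckRange chevE8 nxca_E8_1 nxrt_E8_1 nxeta_E8_1 1 224 4 = true := by decide +kernel

set_option maxRecDepth 1000000 in
set_option maxHeartbeats 0 in
theorem nxC_E8_1_57 : nxCheckRange chevE8 nxca_E8_1 nxrt_E8_1 nxeta_E8_1 1 228 4 = true := by decide +kernel

set_option maxRecDepth 1000000 in
set_option maxHeartbeats 0 in
theorem nxC_E8_1_58 : nxCheckRange chevE8 nxca_E8_1 nxrt_E8_1 nxeta_E8_1 1 232 4 = true := by decide +kernel

set_option maxRecDepth 1000000 in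
set_option maxHeartbeats 0 in
theorem nxC_E8_1_59 : nxCheckRange chevE8 nxca_E8_1 nxrt_E8_1 nxeta_E8_1 1 236 4 = true := by decide +kernel

end Cfsg.Agent.helper5.Chev
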