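import Mathlib
import Cfsg.Agent.Lib_helper5_ChevNXDefsE8

set_option autoImplicit false

namespace Cfsg.Agent.helper5.Chev

open Cfsg.Lie

set_option maxRecDepth 1000000 in
set_option maxHeartbeats 0 in
theorem nxC_E8_2_0 : nxCheckRange chevE8 nxca_E8_2 nxrt_E8_2 nxeta_E8_2 2 0 4 = true := by decide +kernel

set_option maxRecDepth 1000000 in
set_option maxHeartbeats 0 in
theorem nxC_E8_2_1 : nxCheckRange chevE8 nxca_E8_2 nxrt_E8_2 nxeta_E8_2 2 4 4 = true := by decide +kernel

set_option maxRecDepth 1000000 in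
set_option maxHeartbeats 0 in
theorem nxC_E8_2_2 : nxCheckRange chevE8 nxca_E8_2 nxrt_E8_2 nxeta_E8_2 2 8 4 = true := by decide +kernel

set_option maxRecDepth 1000000 in
set_option maxHeartbeats 0 in
theorem nxC_E8_2_3 : nxCheckRange chevE8 nxca_E8_2 nxrt_E8_2 nxeta_E8_2 2 12 4 = true := by decide +kernel

set_option maxRecDepth 1000000 in
set_option maxHeartbeats 0 in
theorem nxC_E8_2_4 : nxCheckRange chevE8 nxca_E8_2 nxrt_E8_2 nxeta_E8_2 2 16 4 = true := by decide +kernel

set_option maxRecDepth 1000000 in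
set_option maxHeartbeats 0 in
theorem nxC_E8_2_5 : nxCheckRange chevE8 nxca_E8_2 nxrt_E8_2 nxeta_E8_2 2 20 4 = true := by decide +kernel

set_option maxRecDepth 1000000 in
set_option maxHeartbeats 0 in
theorem nxC_E8_2_6 : nxCheckRange chevE8 nxca_E8_2 nxrt_E8_2 nxeta_E8_2 2 24 4 = true := by decide +kernel

set_option maxRecDepth 1000000 in
set_option maxHeartbeats 0 in
theorem nxC_E8_2_7 : nxCheckRange chevE8 nxca_E8_2 nxrt_E8_2 nxeta_E8_2 2 28 4 = true := by decide +kernel

set_option maxRecDepth 1000000 in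
set_option maxHeartbeats 0 in
theorem nxC_E8_2_8 : nxCheckRange chevE8 nxca_E8_2 nxrt_E8_2 nxeta_E8_2 2 32 4 = true := by decide +kernel

set_option maxRecDepth 1000000 in
set_option maxHeartbeats 0 in
theorem nxC_E8_2_9 : nxCheckRange chevE8 nxca_E8_2 nxrt_E8_2 nxeta_E8_2 2 36 4 = true := by decide +kernel

set_option maxRecDepth 1000000 in
set_option maxHeartbeats 0 in
theorem nxC_E8_2_10 : nxCheckRange chevE8 nxca_E8_2 nxrt_E8_2 nxeta_E8_2 2 40 4 = true := by decide +kernel

set_option maxRecDepth 1000000 in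
set_option maxHeartbeats 0 in
theorem nxC_E8_2_11 : nxCheckRange chevE8 nxca_E8_2 nxrt_E8_2 nxeta_E8_2 2 44 4 = true := by decide +kernel

set_option maxRecDepth 1000000 in
set_option maxHeartbeats 0 in
theorem nxC_E8_2_12 : nxCheckRange chevE8 nxca_E8_2 nxrt_E8_2 nxeta_E8_2 2 48 4 = true := by decide +kernel

set_option maxRecDepth 1000000 in
set_option maxHeartbeats 0 in
theorem nxC_E8_2_13 : nxCheckRange chevE8 nxca_E8_2 nxrt_E8_2 nxeta_E8_2 2 52 4 = true := by decide +kernel

set_option maxRecDepth 1000000 in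
set_option maxHeartbeats 0 in
theorem nxC_E8_2_14 : nxCheckRange chevE8 nxca_E8_2 nxrt_E8_2 nxeta_E8_2 2 56 4 = true := by decide +kernel

set_option maxRecDepth 1000000 in
set_option maxHeartbeats 0 in
theorem nxC_E8_2_15 : nxCheckRange chevE8 nxca_E8_2 nxrt_E8_2 nxeta_E8_2 2 60 4 = true := by decide +kernel

set_option maxRecDepth 1000000 in
set_option maxHeartbeats 0 in
theorem nxC_E8_2_16 : nxCheckRange chevE8 nxca_E8_2 nxrt_E8_2 nxeta_E8_2 2 64 4 = true := by decide +kernel

set_option maxRecDepth 1000000 in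
set_option maxHeartbeats 0 in
theorem nxC_E8_2_17 : nxCheckRange chevE8 nxca_E8_2 nxrt_E8_2 nxeta_E8_2 2 68 4 = true := by decide +kernel

set_option maxRecDepth 1000000 in
set_option maxHeartbeats 0 in
theorem nxC_E8_2_18 : nxCheckRange chevE8 nxca_E8_2 nxrt_E8_2 nxeta_E8_2 2 72 4 = true := by decide +kernel

set_option maxRecDepth 1000000 in
set_option maxHeartbeats 0 in
theorem nxC_E8_2_19 : nxCheckRange chevE8 nxca_E8_2 nxrt_E8_2 nxeta_E8_2 2 76 4 = true := by decide +kernel

set_option maxRecDepth 1000000 in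
set_option maxHeartbeats 0 in
theorem nxC_E8_2_20 : nxCheckRange chevE8 nxca_E8_2 nxrt_E8_2 nxeta_E8_2 2 80 4 = true := by decide +kernel

set_option maxRecDepth 1000000 in
set_option maxHeartbeats 0 in
theorem nxC_E8_2_21 : nxCheckRange chevE8 nxca_E8_2 nxrt_E8_2 nxeta_E8_2 2 84 4 = true := by decide +kernel

set_option maxRecDepth 1000000 in
set_option maxHeartbeats 0 in
theorem nxC_E8_2_22 : nxCheckRange chevE8 nxca_E8_2 nxrt_E8_2 nxeta_E8_2 2 88 4 = true := by decide +kernel

set_option maxRecDepth 1000000 in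
set_option maxHeartbeats 0 in
theorem nxC_E8_2_23 : nxCheckRange chevE8 nxca_E8_2 nxrt_E8_2 nxeta_E8_2 2 92 4 = true := by decide +kernel

set_option maxRecDepth 1000000 in
set_option maxHeartbeats 0 in
theorem nxC_E8_2_24 : nxCheckRange chevE8 nxca_E8_2 nxrt_E8_2 nxeta_E8_2 2 96 4 = true := by decide +kernel

set_option maxRecDepth 1000000 in
set_option maxHeartbeats 0 in
theorem nxC_E8_2_25 : nxCheckRange chevE8 nxca_E8_2 nxrt_E8_2 nxeta_E8_2 2 100 4 = true := by decide +kernel

set_option maxRecDepth 1000000 in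
set_option maxHeartbeats 0 in
theorem nxC_E8_2_26 : nxCheckRange chevE8 nxca_E8_2 nxrt_E8_2 nxeta_E8_2 2 104 4 = true := by decide +kernel

set_option maxRecDepth 1000000 in
set_option maxHeartbeats 0 in
theorem nxC_E8_2_27 : nxCheckRange chevE8 nxca_E8_2 nxrt_E8_2 nxeta_E8_2 2 108 4 = true := by decide +kernel

set_option maxRecDepth 1000000 in
set_option maxHeartbeats 0 in
theorem nxC_E8_2_28 : nxCheckRange chevE8 nxca_E8_2 nxrt_E8_2 nxeta_E8_2 2 112 4 = true := by decide +kernel

set_option maxRecDepth 1000000 in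
set_option maxHeartbeats 0 in
theorem nxC_E8_2_29 : nxCheckRange chevE8 nxca_E8_2 nxrt_E8_2 nxeta_E8_2 2 116 4 = true := by decide +kernel

end Cfsg.Agent.helper5.Chev
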