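import Mathlib
import Cfsg.Agent.Lib_helper5_ChevNXDefsE8

set_option autoImplicit false

namespace Cfsg.Agent.helper5.Chev

open Cfsg.Lie

set_option maxRecDepth 1000000 in
set_option maxHeartbeats 0 in
theorem nxC_E8_2_30 : nxCheckRange chevE8 nxca_E8_2 nxrt_E8_2 nxeta_E8_2 2 120 4 = true := by decide +kernel

set_option maxRecDepth 1000000 in
set_option maxHeartbeats 0 in
theorem nxC_E8_2_31 : nxCheckRange chevE8 nxca_E8_2 nxrt_E8_2 nxeta_E8_2 2 124 4 = true := by decide +kernel

set_option maxRecDepth 1000000 in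
set_option maxHeartbeats 0 in
theorem nxC_E8_2_32 : nxCheckRange chevE8 nxca_E8_2 nxrt_E8_2 nxeta_E8_2 2 128 4 = true := by decide +kernel

set_option maxRecDepth 1000000 in
set_option maxHeartbeats 0 in
theorem nxC_E8_2_33 : nxCheckRange chevE8 nxca_E8_2 nxrt_E8_2 nxeta_E8_2 2 132 4 = true := by decide +kernel

set_option maxRecDepth 1000000 in
set_option maxHeartbeats 0 in
theorem nxC_E8_2_34 : nxCheckRange chevE8 nxca_E8_2 nxrt_E8_2 nxeta_E8_2 2 136 4 = true := by decide +kernel

set_option maxRecDepth 1000000 in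
set_option maxHeartbeats 0 in
theorem nxC_E8_2_35 : nxCheckRange chevE8 nxca_E8_2 nxrt_E8_2 nxeta_E8_2 2 140 4 = true := by decide +kernel

set_option maxRecDepth 1000000 in
set_option maxHeartbeats 0 in
theorem nxC_E8_2_36 : nxCheckRange chevE8 nxca_E8_2 nxrt_E8_2 nxeta_E8_2 2 144 4 = true := by decide +kernel

set_option maxRecDepth 1000000 in
set_option maxHeartbeats 0 in
theorem nxC_E8_2_37 : nxCheckRange chevE8 nxca_E8_2 nxrt_E8_2 nxeta_E8_2 2 148 4 = true := by decide +kernel

set_option maxRecDepth 1000000 in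
set_option maxHeartbeats 0 in
theorem nxC_E8_2_38 : nxCheckRange chevE8 nxca_E8_2 nxrt_E8_2 nxeta_E8_2 2 152 4 = true := by decide +kernel

set_option maxRecDepth 1000000 in
set_option maxHeartbeats 0 in
theorem nxC_E8_2_39 : nxCheckRange chevE8 nxca_E8_2 nxrt_E8_2 nxeta_E8_2 2 156 4 = true := by decide +kernel

set_option maxRecDepth 1000000 in
set_option maxHeartbeats 0 in
theorem nxC_E8_2_40 : nxCheckRange chevE8 nxca_E8_2 nxrt_E8_2 nxeta_E8_2 2 160 4 = true := by decide +kernel

set_option maxRecDepth 1000000 in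
set_option maxHeartbeats 0 in
theorem nxC_E8_2_41 : nxCheckRange chevE8 nxca_E8_2 nxrt_E8_2 nxeta_E8_2 2 164 4 = true := by decide +kernel

set_option maxRecDepth 1000000 in
set_option maxHeartbeats 0 in
theorem nxC_E8_2_42 : nxCheckRange chevE8 nxca_E8_2 nxrt_E8_2 nxeta_E8_2 2 168 4 = true := by decide +kernel

set_option maxRecDepth 1000000 in
set_option maxHeartbeats 0 in
theorem nxC_E8_2_43 : nxCheckRange chevE8 nxca_E8_2 nxrt_E8_2 nxeta_E8_2 2 172 4 = true := by decide +kernel

set_option maxRecDepth 1000000 in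
set_option maxHeartbeats 0 in
theorem nxC_E8_2_44 : nxCheckRange chevE8 nxca_E8_2 nxrt_E8_2 nxeta_E8_2 2 176 4 = true := by decide +kernel

set_option maxRecDepth 1000000 in
set_option maxHeartbeats 0 in
theorem nxC_E8_2_45 : nxCheckRange chevE8 nxca_E8_2 nxrt_E8_2 nxeta_E8_2 2 180 4 = true := by decide +kernel

set_option maxRecDepth 1000000 in
set_option maxHeartbeats 0 in
theorem nxC_E8_2_46 : nxCheckRange chevE8 nxca_E8_2 nxrt_E8_2 nxeta_E8_2 2 184 4 = true := by decide +kernel

set_option maxRecDepth 1000000 in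
set_option maxHeartbeats 0 in
theorem nxC_E8_2_47 : nxCheckRange chevE8 nxca_E8_2 nxrt_E8_2 nxeta_E8_2 2 188 4 = true := by decide +kernel

set_option maxRecDepth 1000000 in
set_option maxHeartbeats 0 in
theorem nxC_E8_2_48 : nxCheckRange chevE8 nxca_E8_2 nxrt_E8_2 nxeta_E8_2 2 192 4 = true := by decide +kernel

set_option maxRecDepth 1000000 in
set_option maxHeartbeats 0 in
theorem nxC_E8_2_49 : nxCheckRange chevE8 nxca_E8_2 nxrt_E8_2 nxeta_E8_2 2 196 4 = true := by decide +kernel

set_option maxRecDepth 1000000 in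
set_option maxHeartbeats 0 in
theorem nxC_E8_2_50 : nxCheckRange chevE8 nxca_E8_2 nxrt_E8_2 nxeta_E8_2 2 200 4 = true := by decide +kernel

set_option maxRecDepth 1000000 in
set_option maxHeartbeats 0 in
theorem nxC_E8_2_51 : nxCheckRange chevE8 nxca_E8_2 nxrt_E8_2 nxeta_E8_2 2 204 4 = true := by decide +kernel

set_option maxRecDepth 1000000 in
set_option maxHeartbeats 0 in
theorem nxC_E8_2_52 : nxCheckRange chevE8 nxca_E8_2 nxrt_E8_2 nxeta_E8_2 2 208 4 = true := by decide +kernel

set_option maxRecDepth 1000000 in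
set_option maxHeartbeats 0 in
theorem nxC_E8_2_53 : nxCheckRange chevE8 nxca_E8_2 nxrt_E8_2 nxeta_E8_2 2 212 4 = true := by decide +kernel

set_option maxRecDepth 1000000 in
set_option maxHeartbeats 0 in
theorem nxC_E8_2_54 : nxCheckRange chevE8 nxca_E8_2 nxrt_E8_2 nxeta_E8_2 2 216 4 = true := by decide +kernel

set_option maxRecDepth 1000000 in
set_option maxHeartbeats 0 in
theorem nxC_E8_2_55 : nxCheckRange chevE8 nxca_E8_2 nxrt_E8_2 nxeta_E8_2 2 220 4 = true := by decide +kernel

set_option maxRecDepth 1000000 in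
set_option maxHeartbeats 0 in
theorem nxC_E8_2_56 : nxCheckRange chevE8 nxca_E8_2 nxrt_E8_2 nxeta_E8_2 2 224 4 = true := by decide +kernel

set_option maxRecDepth 1000000 in
set_option maxHeartbeats 0 in
theorem nxC_E8_2_57 : nxCheckRange chevE8 nxca_E8_2 nxrt_E8_2 nxeta_E8_2 2 228 4 = true := by decide +kernel

set_option maxRecDepth 1000000 in
set_option maxHeartbeats 0 in
theorem nxC_E8_2_58 : nxCheckRange chevE8 nxca_E8_2 nxrt_E8_2 nxeta_E8_2 2 232 4 = true := by decide +kernel

set_option maxRecDepth 1000000 in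
set_option maxHeartbeats 0 in
theorem nxC_E8_2_59 : nxCheckRange chevE8 nxca_E8_2 nxrt_E8_2 nxeta_E8_2 2 236 4 = true := by decide +kernel

end Cfsg.Agent.helper5.Chev
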