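import Mathlib
import Cfsg.Agent.Lib_helper5_ChevNXDefsE8

set_option autoImplicit false

namespace Cfsg.Agent.helper5.Chev

open Cfsg.Lie

set_option maxRecDepth 1000000 in
set_option maxHeartbeats 0 in
theorem nxC_E8_3_0 : nxCheckRange chevE8 nxca_E8_3 nxrt_E8_3 nxeta_E8_3 3 0 4 = true := by decide +kernel

set_option maxRecDepth 1000000 in
set_option maxHeartbeats 0 in
theorem nxC_E8_3_1 : nxCheckRange chevE8 nxca_E8_3 nxrt_E8_3 nxeta_E8_3 3 4 4 = true := by decide +kernel

set_option maxRecDepth 1000000 in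
set_option maxHeartbeats 0 in
theorem nxC_E8_3_2 : nxCheckRange chevE8 nxca_E8_3 nxrt_E8_3 nxeta_E8_3 3 8 4 = true := by decide +kernel

set_option maxRecDepth 1000000 in
set_option maxHeartbeats 0 in
theorem nxC_E8_3_3 : nxCheckRange chevE8 nxca_E8_3 nxrt_E8_3 nxeta_E8_3 3 12 4 = true := by decide +kernel

set_option maxRecDepth 1000000 in
set_option maxHeartbeats 0 in
theorem nxC_E8_3_4 : nxCheckRange chevE8 nxca_E8_3 nxrt_E8_3 nxeta_E8_3 3 16 4 = true := by decide +kernel

set_option maxRecDepth 1000000 in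
set_option maxHeartbeats 0 in
theorem nxC_E8_3_5 : nxCheckRange chevE8 nxca_E8_3 nxrt_E8_3 nxeta_E8_3 3 20 4 = true := by decide +kernel

set_option maxRecDepth 1000000 in
set_option maxHeartbeats 0 in
theorem nxC_E8_3_6 : nxCheckRange chevE8 nxca_E8_3 nxrt_E8_3 nxeta_E8_3 3 24 4 = true := by decide +kernel

set_option maxRecDepth 1000000 in
set_option maxHeartbeats 0 in
theorem nxC_E8_3_7 : nxCheckRange chevE8 nxca_E8_3 nxrt_E8_3 nxeta_E8_3 3 28 4 = true := by decide +kernel

set_option maxRecDepth 1000000 in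
set_option maxHeartbeats 0 in
theorem nxC_E8_3_8 : nxCheckRange chevE8 nxca_E8_3 nxrt_E8_3 nxeta_E8_3 3 32 4 = true := by decide +kernel

set_option maxRecDepth 1000000 in
set_option maxHeartbeats 0 in
theorem nxC_E8_3_9 : nxCheckRange chevE8 nxca_E8_3 nxrt_E8_3 nxeta_E8_3 3 36 4 = true := by decide +kernel

set_option maxRecDepth 1000000 in
set_option maxHeartbeats 0 in
theorem nxC_E8_3_10 : nxCheckRange chevE8 nxca_E8_3 nxrt_E8_3 nxeta_E8_3 3 40 4 = true := by decide +kernel

set_option maxRecDepth 1000000 in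
set_option maxHeartbeats 0 in
theorem nxC_E8_3_11 : nxCheckRange chevE8 nxca_E8_3 nxrt_E8_3 nxeta_E8_3 3 44 4 = true := by decide +kernel

set_option maxRecDepth 1000000 in
set_option maxHeartbeats 0 in
theorem nxC_E8_3_12 : nxCheckRange chevE8 nxca_E8_3 nxrt_E8_3 nxeta_E8_3 3 48 4 = true := by decide +kernel

set_option maxRecDepth 1000000 in
set_option maxHeartbeats 0 in
theorem nxC_E8_3_13 : nxCheckRange chevE8 nxca_E8_3 nxrt_E8_3 nxeta_E8_3 3 52 4 = true := by decide +kernel

set_option maxRecDepth 1000000 in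
set_option maxHeartbeats 0 in
theorem nxC_E8_3_14 : nxCheckRange chevE8 nxca_E8_3 nxrt_E8_3 nxeta_E8_3 3 56 4 = true := by decide +kernel

set_option maxRecDepth 1000000 in
set_option maxHeartbeats 0 in
theorem nxC_E8_3_15 : nxCheckRange chevE8 nxca_E8_3 nxrt_E8_3 nxeta_E8_3 3 60 4 = true := by decide +kernel

set_option maxRecDepth 1000000 in
set_option maxHeartbeats 0 in
theorem nxC_E8_3_16 : nxCheckRange chevE8 nxca_E8_3 nxrt_E8_3 nxeta_E8_3 3 64 4 = true := by decide +kernel

set_option maxRecDepth 1000000 in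
set_option maxHeartbeats 0 in
theorem nxC_E8_3_17 : nxCheckRange chevE8 nxca_E8_3 nxrt_E8_3 nxeta_E8_3 3 68 4 = true := by decide +kernel

set_option maxRecDepth 1000000 in
set_option maxHeartbeats 0 in
theorem nxC_E8_3_18 : nxCheckRange chevE8 nxca_E8_3 nxrt_E8_3 nxeta_E8_3 3 72 4 = true := by decide +kernel

set_option maxRecDepth 1000000 in
set_option maxHeartbeats 0 in
theorem nxC_E8_3_19 : nxCheckRange chevE8 nxca_E8_3 nxrt_E8_3 nxeta_E8_3 3 76 4 = true := by decide +kernel

set_option maxRecDepth 1000000 in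
set_option maxHeartbeats 0 in
theorem nxC_E8_3_20 : nxCheckRange chevE8 nxca_E8_3 nxrt_E8_3 nxeta_E8_3 3 80 4 = true := by decide +kernel

set_option maxRecDepth 1000000 in
set_option maxHeartbeats 0 in
theorem nxC_E8_3_21 : nxCheckRange chevE8 nxca_E8_3 nxrt_E8_3 nxeta_E8_3 3 84 4 = true := by decide +kernel

set_option maxRecDepth 1000000 in
set_option maxHeartbeats 0 in
theorem nxC_E8_3_22 : nxCheckRange chevE8 nxca_E8_3 nxrt_E8_3 nxeta_E8_3 3 88 4 = true := by decide +kernel

set_option maxRecDepth 1000000 in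
set_option maxHeartbeats 0 in
theorem nxC_E8_3_23 : nxCheckRange chevE8 nxca_E8_3 nxrt_E8_3 nxeta_E8_3 3 92 4 = true := by decide +kernel

set_option maxRecDepth 1000000 in
set_option maxHeartbeats 0 in
theorem nxC_E8_3_24 : nxCheckRange chevE8 nxca_E8_3 nxrt_E8_3 nxeta_E8_3 3 96 4 = true := by decide +kernel

set_option maxRecDepth 1000000 in
set_option maxHeartbeats 0 in
theorem nxC_E8_3_25 : nxCheckRange chevE8 nxca_E8_3 nxrt_E8_3 nxeta_E8_3 3 100 4 = true := by decide +kernel

set_option maxRecDepth 1000000 in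
set_option maxHeartbeats 0 in
theorem nxC_E8_3_26 : nxCheckRange chevE8 nxca_E8_3 nxrt_E8_3 nxeta_E8_3 3 104 4 = true := by decide +kernel

set_option maxRecDepth 1000000 in
set_option maxHeartbeats 0 in
theorem nxC_E8_3_27 : nxCheckRange chevE8 nxca_E8_3 nxrt_E8_3 nxeta_E8_3 3 108 4 = true := by decide +kernel

set_option maxRecDepth 1000000 in
set_option maxHeartbeats 0 in
theorem nxC_E8_3_28 : nxCheckRange chevE8 nxca_E8_3 nxrt_E8_3 nxeta_E8_3 3 112 4 = true := by decide +kernel

set_option maxRecDepth 1000000 in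
set_option maxHeartbeats 0 in
theorem nxC_E8_3_29 : nxCheckRange chevE8 nxca_E8_3 nxrt_E8_3 nxeta_E8_3 3 116 4 = true := by decide +kernel

end Cfsg.Agent.helper5.Chev
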