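import Mathlib
import Cfsg.Agent.Lib_helper5_ChevNXDefsE8

set_option autoImplicit false

namespace Cfsg.Agent.helper5.Chev

open Cfsg.Lie

set_option maxRecDepth 1000000 in
set_option maxHeartbeats 0 in
theorem nxC_E8_3_30 : nxCheckRange chevE8 nxca_E8_3 nxrt_E8_3 nxeta_E8_3 3 120 4 = true := by decide +kernel

set_option maxRecDepth 1000000 in
set_option maxHeartbeats 0 in
theorem nxC_E8_3_31 : nxCheckRange chevE8 nxca_E8_3 nxrt_E8_3 nxeta_E8_3 3 124 4 = true := by decide +kernel

set_option maxRecDepth 1000000 in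
set_option maxHeartbeats 0 in
theorem nxC_E8_3_32 : nxCheckRange chevE8 nxca_E8_3 nxrt_E8_3 nxeta_E8_3 3 128 4 = true := by decide +kernel

set_option maxRecDepth 1000000 in
set_option maxHeartbeats 0 in
theorem nxC_E8_3_33 : nxCheckRange chevE8 nxca_E8_3 nxrt_E8_3 nxeta_E8_3 3 132 4 = true := by decide +kernel

set_option maxRecDepth 1000000 in
set_option maxHeartbeats 0 in
theorem nxC_E8_3_34 : nxCheckRange chevE8 nxca_E8_3 nxrt_E8_3 nxeta_E8_3 3 136 4 = true := by decide +kernel

set_option maxRecDepth 1000000 in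
set_option maxHeartbeats 0 in
theorem nxC_E8_3_35 : nxCheckRange chevE8 nxca_E8_3 nxrt_E8_3 nxeta_E8_3 3 140 4 = true := by decide +kernel

set_option maxRecDepth 1000000 in
set_option maxHeartbeats 0 in
theorem nxC_E8_3_36 : nxCheckRange chevE8 nxca_E8_3 nxrt_E8_3 nxeta_E8_3 3 144 4 = true := by decide +kernel

set_option maxRecDepth 1000000 in
set_option maxHeartbeats 0 in
theorem nxC_E8_3_37 : nxCheckRange chevE8 nxca_E8_3 nxrt_E8_3 nxeta_E8_3 3 148 4 = true := by decide +kernel

set_option maxRecDepth 1000000 in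
set_option maxHeartbeats 0 in
theorem nxC_E8_3_38 : nxCheckRange chevE8 nxca_E8_3 nxrt_E8_3 nxeta_E8_3 3 152 4 = true := by decide +kernel

set_option maxRecDepth 1000000 in
set_option maxHeartbeats 0 in
theorem nxC_E8_3_39 : nxCheckRange chevE8 nxca_E8_3 nxrt_E8_3 nxeta_E8_3 3 156 4 = true := by decide +kernel

set_option maxRecDepth 1000000 in
set_option maxHeartbeats 0 in
theorem nxC_E8_3_40 : nxCheckRange chevE8 nxca_E8_3 nxrt_E8_3 nxeta_E8_3 3 160 4 = true := by decide +kernel

set_option maxRecDepth 1000000 in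
set_option maxHeartbeats 0 in
theorem nxC_E8_3_41 : nxCheckRange chevE8 nxca_E8_3 nxrt_E8_3 nxeta_E8_3 3 164 4 = true := by decide +kernel

set_option maxRecDepth 1000000 in
set_option maxHeartbeats 0 in
theorem nxC_E8_3_42 : nxCheckRange chevE8 nxca_E8_3 nxrt_E8_3 nxeta_E8_3 3 168 4 = true := by decide +kernel

set_option maxRecDepth 1000000 in
set_option maxHeartbeats 0 in
theorem nxC_E8_3_43 : nxCheckRange chevE8 nxca_E8_3 nxrt_E8_3 nxeta_E8_3 3 172 4 = true := by decide +kernel

set_option maxRecDepth 1000000 in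
set_option maxHeartbeats 0 in
theorem nxC_E8_3_44 : nxCheckRange chevE8 nxca_E8_3 nxrt_E8_3 nxeta_E8_3 3 176 4 = true := by decide +kernel

set_option maxRecDepth 1000000 in
set_option maxHeartbeats 0 in
theorem nxC_E8_3_45 : nxCheckRange chevE8 nxca_E8_3 nxrt_E8_3 nxeta_E8_3 3 180 4 = true := by decide +kernel

set_option maxRecDepth 1000000 in
set_option maxHeartbeats 0 in
theorem nxC_E8_3_46 : nxCheckRange chevE8 nxca_E8_3 nxrt_E8_3 nxeta_E8_3 3 184 4 = true := by decide +kernel

set_option maxRecDepth 1000000 in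
set_option maxHeartbeats 0 in
theorem nxC_E8_3_47 : nxCheckRange chevE8 nxca_E8_3 nxrt_E8_3 nxeta_E8_3 3 188 4 = true := by decide +kernel

set_option maxRecDepth 1000000 in
set_option maxHeartbeats 0 in
theorem nxC_E8_3_48 : nxCheckRange chevE8 nxca_E8_3 nxrt_E8_3 nxeta_E8_3 3 192 4 = true := by decide +kernel

set_option maxRecDepth 1000000 in
set_option maxHeartbeats 0 in
theorem nxC_E8_3_49 : nxCheckRange chevE8 nxca_E8_3 nxrt_E8_3 nxeta_E8_3 3 196 4 = true := by decide +kernel

set_option maxRecDepth 1000000 in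
set_option maxHeartbeats 0 in
theorem nxC_E8_3_50 : nxCheckRange chevE8 nxca_E8_3 nxrt_E8_3 nxeta_E8_3 3 200 4 = true := by decide +kernel

set_option maxRecDepth 1000000 in
set_option maxHeartbeats 0 in
theorem nxC_E8_3_51 : nxCheckRange chevE8 nxca_E8_3 nxrt_E8_3 nxeta_E8_3 3 204 4 = true := by decide +kernel

set_option maxRecDepth 1000000 in
set_option maxHeartbeats 0 in
theorem nxC_E8_3_52 : nxCheckRange chevE8 nxca_E8_3 nxrt_E8_3 nxeta_E8_3 3 208 4 = true := by decide +kernel

set_option maxRecDepth 1000000 in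
set_option maxHeartbeats 0 in
theorem nxC_E8_3_53 : nxCheckRange chevE8 nxca_E8_3 nxrt_E8_3 nxeta_E8_3 3 212 4 = true := by decide +kernel

set_option maxRecDepth 1000000 in
set_option maxHeartbeats 0 in
theorem nxC_E8_3_54 : nxCheckRange chevE8 nxca_E8_3 nxrt_E8_3 nxeta_E8_3 3 216 4 = true := by decide +kernel

set_option maxRecDepth 1000000 in
set_option maxHeartbeats 0 in
theorem nxC_E8_3_55 : nxCheckRange chevE8 nxca_E8_3 nxrt_E8_3 nxeta_E8_3 3 220 4 = true := by decide +kernel

set_option maxRecDepth 1000000 in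
set_option maxHeartbeats 0 in
theorem nxC_E8_3_56 : nxCheckRange chevE8 nxca_E8_3 nxrt_E8_3 nxeta_E8_3 3 224 4 = true := by decide +kernel

set_option maxRecDepth 1000000 in
set_option maxHeartbeats 0 in
theorem nxC_E8_3_57 : nxCheckRange chevE8 nxca_E8_3 nxrt_E8_3 nxeta_E8_3 3 228 4 = true := by decide +kernel

set_option maxRecDepth 1000000 in
set_option maxHeartbeats 0 in
theorem nxC_E8_3_58 : nxCheckRange chevE8 nxca_E8_3 nxrt_E8_3 nxeta_E8_3 3 232 4 = true := by decide +kernel

set_option maxRecDepth 1000000 in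
set_option maxHeartbeats 0 in
theorem nxC_E8_3_59 : nxCheckRange chevE8 nxca_E8_3 nxrt_E8_3 nxeta_E8_3 3 236 4 = true := by decide +kernel

end Cfsg.Agent.helper5.Chev
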