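import Mathlib
import Cfsg.Agent.Lib_helper5_ChevNXDefsE8

set_option autoImplicit false

namespace Cfsg.Agent.helper5.Chev

open Cfsg.Lie

set_option maxRecDepth 1000000 in
set_option maxHeartbeats 0 in
theorem nxC_E8_4_30 : nxCheckRange chevE8 nxca_E8_4 nxrt_E8_4 nxeta_E8_4 4 120 4 = true := by decide +kernel

set_option maxRecDepth 1000000 in
set_option maxHeartbeats 0 in
theorem nxC_E8_4_31 : nxCheckRange chevE8 nxca_E8_4 nxrt_E8_4 nxeta_E8_4 4 124 4 = true := by decide +kernel

set_option maxRecDepth 1000000 in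
set_option maxHeartbeats 0 in
theorem nxC_E8_4_32 : nxCheckRange chevE8 nxca_E8_4 nxrt_E8_4 nxeta_E8_4 4 128 4 = true := by decide +kernel

set_option maxRecDepth 1000000 in
set_option maxHeartbeats 0 in
theorem nxC_E8_4_33 : nxCheckRange chevE8 nxca_E8_4 nxrt_E8_4 nxeta_E8_4 4 132 4 = true := by decide +kernel

set_option maxRecDepth 1000000 in
set_option maxHeartbeats 0 in
theorem nxC_E8_4_34 : nxCheckRange chevE8 nxca_E8_4 nxrt_E8_4 nxeta_E8_4 4 136 4 = true := by decide +kernel

set_option maxRecDepth 1000000 in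
set_option maxHeartbeats 0 in
theorem nxC_E8_4_35 : nxCheckRange chevE8 nxca_E8_4 nxrt_E8_4 nxeta_E8_4 4 140 4 = true := by decide +kernel

set_option maxRecDepth 1000000 in
set_option maxHeartbeats 0 in
theorem nxC_E8_4_36 : nxCheckRange chevE8 nxca_E8_4 nxrt_E8_4 nxeta_E8_4 4 144 4 = true := by decide +kernel

set_option maxRecDepth 1000000 in
set_option maxHeartbeats 0 in
theorem nxC_E8_4_37 : nxCheckRange chevE8 nxca_E8_4 nxrt_E8_4 nxeta_E8_4 4 148 4 = true := by decide +kernel

set_option maxRecDepth 1000000 in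
set_option maxHeartbeats 0 in
theorem nxC_E8_4_38 : nxCheckRange chevE8 nxca_E8_4 nxrt_E8_4 nxeta_E8_4 4 152 4 = true := by decide +kernel

set_option maxRecDepth 1000000 in
set_option maxHeartbeats 0 in
theorem nxC_E8_4_39 : nxCheckRange chevE8 nxca_E8_4 nxrt_E8_4 nxeta_E8_4 4 156 4 = true := by decide +kernel

set_option maxRecDepth 1000000 in
set_option maxHeartbeats 0 in
theorem nxC_E8_4_40 : nxCheckRange chevE8 nxca_E8_4 nxrt_E8_4 nxeta_E8_4 4 160 4 = true := by decide +kernel

set_option maxRecDepth 1000000 in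
set_option maxHeartbeats 0 in
theorem nxC_E8_4_41 : nxCheckRange chevE8 nxca_E8_4 nxrt_E8_4 nxeta_E8_4 4 164 4 = true := by decide +kernel

set_option maxRecDepth 1000000 in
set_option maxHeartbeats 0 in
theorem nxC_E8_4_42 : nxCheckRange chevE8 nxca_E8_4 nxrt_E8_4 nxeta_E8_4 4 168 4 = true := by decide +kernel

set_option maxRecDepth 1000000 in
set_option maxHeartbeats 0 in
theorem nxC_E8_4_43 : nxCheckRange chevE8 nxca_E8_4 nxrt_E8_4 nxeta_E8_4 4 172 4 = true := by decide +kernel

set_option maxRecDepth 1000000 in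
set_option maxHeartbeats 0 in
theorem nxC_E8_4_44 : nxCheckRange chevE8 nxca_E8_4 nxrt_E8_4 nxeta_E8_4 4 176 4 = true := by decide +kernel

set_option maxRecDepth 1000000 in
set_option maxHeartbeats 0 in
theorem nxC_E8_4_45 : nxCheckRange chevE8 nxca_E8_4 nxrt_E8_4 nxeta_E8_4 4 180 4 = true := by decide +kernel

set_option maxRecDepth 1000000 in
set_option maxHeartbeats 0 in
theorem nxC_E8_4_46 : nxCheckRange chevE8 nxca_E8_4 nxrt_E8_4 nxeta_E8_4 4 184 4 = true := by decide +kernel

set_option maxRecDepth 1000000 in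
set_option maxHeartbeats 0 in
theorem nxC_E8_4_47 : nxCheckRange chevE8 nxca_E8_4 nxrt_E8_4 nxeta_E8_4 4 188 4 = true := by decide +kernel

set_option maxRecDepth 1000000 in
set_option maxHeartbeats 0 in
theorem nxC_E8_4_48 : nxCheckRange chevE8 nxca_E8_4 nxrt_E8_4 nxeta_E8_4 4 192 4 = true := by decide +kernel

set_option maxRecDepth 1000000 in
set_option maxHeartbeats 0 in
theorem nxC_E8_4_49 : nxCheckRange chevE8 nxca_E8_4 nxrt_E8_4 nxeta_E8_4 4 196 4 = true := by decide +kernel

set_option maxRecDepth 1000000 in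
set_option maxHeartbeats 0 in
theorem nxC_E8_4_50 : nxCheckRange chevE8 nxca_E8_4 nxrt_E8_4 nxeta_E8_4 4 200 4 = true := by decide +kernel

set_option maxRecDepth 1000000 in
set_option maxHeartbeats 0 in
theorem nxC_E8_4_51 : nxCheckRange chevE8 nxca_E8_4 nxrt_E8_4 nxeta_E8_4 4 204 4 = true := by decide +kernel

set_option maxRecDepth 1000000 in
set_option maxHeartbeats 0 in
theorem nxC_E8_4_52 : nxCheckRange chevE8 nxca_E8_4 nxrt_E8_4 nxeta_E8_4 4 208 4 = true := by decide +kernel

set_option maxRecDepth 1000000 in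
set_option maxHeartbeats 0 in
theorem nxC_E8_4_53 : nxCheckRange chevE8 nxca_E8_4 nxrt_E8_4 nxeta_E8_4 4 212 4 = true := by decide +kernel

set_option maxRecDepth 1000000 in
set_option maxHeartbeats 0 in
theorem nxC_E8_4_54 : nxCheckRange chevE8 nxca_E8_4 nxrt_E8_4 nxeta_E8_4 4 216 4 = true := by decide +kernel

set_option maxRecDepth 1000000 in
set_option maxHeartbeats 0 in
theorem nxC_E8_4_55 : nxCheckRange chevE8 nxca_E8_4 nxrt_E8_4 nxeta_E8_4 4 220 4 = true := by decide +kernel

set_option maxRecDepth 1000000 in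
set_option maxHeartbeats 0 in
theorem nxC_E8_4_56 : nxCheckRange chevE8 nxca_E8_4 nxrt_E8_4 nxeta_E8_4 4 224 4 = true := by decide +kernel

set_option maxRecDepth 1000000 in
set_option maxHeartbeats 0 in
theorem nxC_E8_4_57 : nxCheckRange chevE8 nxca_E8_4 nxrt_E8_4 nxeta_E8_4 4 228 4 = true := by decide +kernel

set_option maxRecDepth 1000000 in
set_option maxHeartbeats 0 in
theorem nxC_E8_4_58 : nxCheckRange chevE8 nxca_E8_4 nxrt_E8_4 nxeta_E8_4 4 232 4 = true := by decide +kernel

set_option maxRecDepth 1000000 in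
set_option maxHeartbeats 0 in
theorem nxC_E8_4_59 : nxCheckRange chevE8 nxca_E8_4 nxrt_E8_4 nxeta_E8_4 4 236 4 = true := by decide +kernel

end Cfsg.Agent.helper5.Chev
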