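import Mathlib
import Cfsg.Agent.Lib_helper5_ChevNXDefsE8

set_option autoImplicit false

namespace Cfsg.Agent.helper5.Chev

open Cfsg.Lie

set_option maxRecDepth 1000000 in
set_option maxHeartbeats 0 in
theorem nxC_E8_5_0 : nxCheckRange chevE8 nxca_E8_5 nxrt_E8_5 nxeta_E8_5 5 0 4 = true := by decide +kernel

set_option maxRecDepth 1000000 in
set_option maxHeartbeats 0 in
theorem nxC_E8_5_1 : nxCheckRange chevE8 nxca_E8_5 nxrt_E8_5 nxeta_E8_5 5 4 4 = true := by decide +kernel

set_option maxRecDepth 1000000 in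
set_option maxHeartbeats 0 in
theorem nxC_E8_5_2 : nxCheckRange chevE8 nxca_E8_5 nxrt_E8_5 nxeta_E8_5 5 8 4 = true := by decide +kernel

set_option maxRecDepth 1000000 in
set_option maxHeartbeats 0 in
theorem nxC_E8_5_3 : nxCheckRange chevE8 nxca_E8_5 nxrt_E8_5 nxeta_E8_5 5 12 4 = true := by decide +kernel

set_option maxRecDepth 1000000 in
set_option maxHeartbeats 0 in
theorem nxC_E8_5_4 : nxCheckRange chevE8 nxca_E8_5 nxrt_E8_5 nxeta_E8_5 5 16 4 = true := by decide +kernel

set_option maxRecDepth 1000000 in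
set_option maxHeartbeats 0 in
theorem nxC_E8_5_5 : nxCheckRange chevE8 nxca_E8_5 nxrt_E8_5 nxeta_E8_5 5 20 4 = true := by decide +kernel

set_option maxRecDepth 1000000 in
set_option maxHeartbeats 0 in
theorem nxC_E8_5_6 : nxCheckRange chevE8 nxca_E8_5 nxrt_E8_5 nxeta_E8_5 5 24 4 = true := by decide +kernel

set_option maxRecDepth 1000000 in
set_option maxHeartbeats 0 in
theorem nxC_E8_5_7 : nxCheckRange chevE8 nxca_E8_5 nxrt_E8_5 nxeta_E8_5 5 28 4 = true := by decide +kernel

set_option maxRecDepth 1000000 in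
set_option maxHeartbeats 0 in
theorem nxC_E8_5_8 : nxCheckRange chevE8 nxca_E8_5 nxrt_E8_5 nxeta_E8_5 5 32 4 = true := by decide +kernel

set_option maxRecDepth 1000000 in
set_option maxHeartbeats 0 in
theorem nxC_E8_5_9 : nxCheckRange chevE8 nxca_E8_5 nxrt_E8_5 nxeta_E8_5 5 36 4 = true := by decide +kernel

set_option maxRecDepth 1000000 in
set_option maxHeartbeats 0 in
theorem nxC_E8_5_10 : nxCheckRange chevE8 nxca_E8_5 nxrt_E8_5 nxeta_E8_5 5 40 4 = true := by decide +kernel

set_option maxRecDepth 1000000 in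
set_option maxHeartbeats 0 in
theorem nxC_E8_5_11 : nxCheckRange chevE8 nxca_E8_5 nxrt_E8_5 nxeta_E8_5 5 44 4 = true := by decide +kernel

set_option maxRecDepth 1000000 in
set_option maxHeartbeats 0 in
theorem nxC_E8_5_12 : nxCheckRange chevE8 nxca_E8_5 nxrt_E8_5 nxeta_E8_5 5 48 4 = true := by decide +kernel

set_option maxRecDepth 1000000 in
set_option maxHeartbeats 0 in
theorem nxC_E8_5_13 : nxCheckRange chevE8 nxca_E8_5 nxrt_E8_5 nxeta_E8_5 5 52 4 = true := by decide +kernel

set_option maxRecDepth 1000000 in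
set_option maxHeartbeats 0 in
theorem nxC_E8_5_14 : nxCheckRange chevE8 nxca_E8_5 nxrt_E8_5 nxeta_E8_5 5 56 4 = true := by decide +kernel

set_option maxRecDepth 1000000 in
set_option maxHeartbeats 0 in
theorem nxC_E8_5_15 : nxCheckRange chevE8 nxca_E8_5 nxrt_E8_5 nxeta_E8_5 5 60 4 = true := by decide +kernel

set_option maxRecDepth 1000000 in
set_option maxHeartbeats 0 in
theorem nxC_E8_5_16 : nxCheckRange chevE8 nxca_E8_5 nxrt_E8_5 nxeta_E8_5 5 64 4 = true := by decide +kernel

set_option maxRecDepth 1000000 in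
set_option maxHeartbeats 0 in
theorem nxC_E8_5_17 : nxCheckRange chevE8 nxca_E8_5 nxrt_E8_5 nxeta_E8_5 5 68 4 = true := by decide +kernel

set_option maxRecDepth 1000000 in
set_option maxHeartbeats 0 in
theorem nxC_E8_5_18 : nxCheckRange chevE8 nxca_E8_5 nxrt_E8_5 nxeta_E8_5 5 72 4 = true := by decide +kernel

set_option maxRecDepth 1000000 in
set_option maxHeartbeats 0 in
theorem nxC_E8_5_19 : nxCheckRange chevE8 nxca_E8_5 nxrt_E8_5 nxeta_E8_5 5 76 4 = true := by decide +kernel

set_option maxRecDepth 1000000 in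
set_option maxHeartbeats 0 in
theorem nxC_E8_5_20 : nxCheckRange chevE8 nxca_E8_5 nxrt_E8_5 nxeta_E8_5 5 80 4 = true := by decide +kernel

set_option maxRecDepth 1000000 in
set_option maxHeartbeats 0 in
theorem nxC_E8_5_21 : nxCheckRange chevE8 nxca_E8_5 nxrt_E8_5 nxeta_E8_5 5 84 4 = true := by decide +kernel

set_option maxRecDepth 1000000 in
set_option maxHeartbeats 0 in
theorem nxC_E8_5_22 : nxCheckRange chevE8 nxca_E8_5 nxrt_E8_5 nxeta_E8_5 5 88 4 = true := by decide +kernel

set_option maxRecDepth 1000000 in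
set_option maxHeartbeats 0 in
theorem nxC_E8_5_23 : nxCheckRange chevE8 nxca_E8_5 nxrt_E8_5 nxeta_E8_5 5 92 4 = true := by decide +kernel

set_option maxRecDepth 1000000 in
set_option maxHeartbeats 0 in
theorem nxC_E8_5_24 : nxCheckRange chevE8 nxca_E8_5 nxrt_E8_5 nxeta_E8_5 5 96 4 = true := by decide +kernel

set_option maxRecDepth 1000000 in
set_option maxHeartbeats 0 in
theorem nxC_E8_5_25 : nxCheckRange chevE8 nxca_E8_5 nxrt_E8_5 nxeta_E8_5 5 100 4 = true := by decide +kernel

set_option maxRecDepth 1000000 in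
set_option maxHeartbeats 0 in
theorem nxC_E8_5_26 : nxCheckRange chevE8 nxca_E8_5 nxrt_E8_5 nxeta_E8_5 5 104 4 = true := by decide +kernel

set_option maxRecDepth 1000000 in
set_option maxHeartbeats 0 in
theorem nxC_E8_5_27 : nxCheckRange chevE8 nxca_E8_5 nxrt_E8_5 nxeta_E8_5 5 108 4 = true := by decide +kernel

set_option maxRecDepth 1000000 in
set_option maxHeartbeats 0 in
theorem nxC_E8_5_28 : nxCheckRange chevE8 nxca_E8_5 nxrt_E8_5 nxeta_E8_5 5 112 4 = true := by decide +kernel

set_option maxRecDepth 1000000 in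
set_option maxHeartbeats 0 in
theorem nxC_E8_5_29 : nxCheckRange chevE8 nxca_E8_5 nxrt_E8_5 nxeta_E8_5 5 116 4 = true := by decide +kernel

end Cfsg.Agent.helper5.Chev
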