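import Mathlib
import Cfsg.Agent.Lib_helper5_ChevNXDefsE8

set_option autoImplicit false

namespace Cfsg.Agent.helper5.Chev

open Cfsg.Lie

set_option maxRecDepth 1000000 in
set_option maxHeartbeats 0 in
theorem nxC_E8_5_30 : nxCheckRange chevE8 nxca_E8_5 nxrt_E8_5 nxeta_E8_5 5 120 4 = true := by decide +kernel

set_option maxRecDepth 1000000 in
set_option maxHeartbeats 0 in
theorem nxC_E8_5_31 : nxCheckRange chevE8 nxca_E8_5 nxrt_E8_5 nxeta_E8_5 5 124 4 = true := by decide +kernel

set_option maxRecDepth 1000000 in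
set_option maxHeartbeats 0 in
theorem nxC_E8_5_32 : nxCheckRange chevE8 nxca_E8_5 nxrt_E8_5 nxeta_E8_5 5 128 4 = true := by decide +kernel

set_option maxRecDepth 1000000 in
set_option maxHeartbeats 0 in
theorem nxC_E8_5_33 : nxCheckRange chevE8 nxca_E8_5 nxrt_E8_5 nxeta_E8_5 5 132 4 = true := by decide +kernel

set_option maxRecDepth 1000000 in
set_option maxHeartbeats 0 in
theorem nxC_E8_5_34 : nxCheckRange chevE8 nxca_E8_5 nxrt_E8_5 nxeta_E8_5 5 136 4 = true := by decide +kernel

set_option maxRecDepth 1000000 in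
set_option maxHeartbeats 0 in
theorem nxC_E8_5_35 : nxCheckRange chevE8 nxca_E8_5 nxrt_E8_5 nxeta_E8_5 5 140 4 = true := by decide +kernel

set_option maxRecDepth 1000000 in
set_option maxHeartbeats 0 in
theorem nxC_E8_5_36 : nxCheckRange chevE8 nxca_E8_5 nxrt_E8_5 nxeta_E8_5 5 144 4 = true := by decide +kernel

set_option maxRecDepth 1000000 in
set_option maxHeartbeats 0 in
theorem nxC_E8_5_37 : nxCheckRange chevE8 nxca_E8_5 nxrt_E8_5 nxeta_E8_5 5 148 4 = true := by decide +kernel

set_option maxRecDepth 1000000 in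
set_option maxHeartbeats 0 in
theorem nxC_E8_5_38 : nxCheckRange chevE8 nxca_E8_5 nxrt_E8_5 nxeta_E8_5 5 152 4 = true := by decide +kernel

set_option maxRecDepth 1000000 in
set_option maxHeartbeats 0 in
theorem nxC_E8_5_39 : nxCheckRange chevE8 nxca_E8_5 nxrt_E8_5 nxeta_E8_5 5 156 4 = true := by decide +kernel

set_option maxRecDepth 1000000 in
set_option maxHeartbeats 0 in
theorem nxC_E8_5_40 : nxCheckRange chevE8 nxca_E8_5 nxrt_E8_5 nxeta_E8_5 5 160 4 = true := by decide +kernel

set_option maxRecDepth 1000000 in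
set_option maxHeartbeats 0 in
theorem nxC_E8_5_41 : nxCheckRange chevE8 nxca_E8_5 nxrt_E8_5 nxeta_E8_5 5 164 4 = true := by decide +kernel

set_option maxRecDepth 1000000 in
set_option maxHeartbeats 0 in
theorem nxC_E8_5_42 : nxCheckRange chevE8 nxca_E8_5 nxrt_E8_5 nxeta_E8_5 5 168 4 = true := by decide +kernel

set_option maxRecDepth 1000000 in
set_option maxHeartbeats 0 in
theorem nxC_E8_5_43 : nxCheckRange chevE8 nxca_E8_5 nxrt_E8_5 nxeta_E8_5 5 172 4 = true := by decide +kernel

set_option maxRecDepth 1000000 in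
set_option maxHeartbeats 0 in
theorem nxC_E8_5_44 : nxCheckRange chevE8 nxca_E8_5 nxrt_E8_5 nxeta_E8_5 5 176 4 = true := by decide +kernel

set_option maxRecDepth 1000000 in
set_option maxHeartbeats 0 in
theorem nxC_E8_5_45 : nxCheckRange chevE8 nxca_E8_5 nxrt_E8_5 nxeta_E8_5 5 180 4 = true := by decide +kernel

set_option maxRecDepth 1000000 in
set_option maxHeartbeats 0 in
theorem nxC_E8_5_46 : nxCheckRange chevE8 nxca_E8_5 nxrt_E8_5 nxeta_E8_5 5 184 4 = true := by decide +kernel

set_option maxRecDepth 1000000 in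
set_option maxHeartbeats 0 in
theorem nxC_E8_5_47 : nxCheckRange chevE8 nxca_E8_5 nxrt_E8_5 nxeta_E8_5 5 188 4 = true := by decide +kernel

set_option maxRecDepth 1000000 in
set_option maxHeartbeats 0 in
theorem nxC_E8_5_48 : nxCheckRange chevE8 nxca_E8_5 nxrt_E8_5 nxeta_E8_5 5 192 4 = true := by decide +kernel

set_option maxRecDepth 1000000 in
set_option maxHeartbeats 0 in
theorem nxC_E8_5_49 : nxCheckRange chevE8 nxca_E8_5 nxrt_E8_5 nxeta_E8_5 5 196 4 = true := by decide +kernel

set_option maxRecDepth 1000000 in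
set_option maxHeartbeats 0 in
theorem nxC_E8_5_50 : nxCheckRange chevE8 nxca_E8_5 nxrt_E8_5 nxeta_E8_5 5 200 4 = true := by decide +kernel

set_option maxRecDepth 1000000 in
set_option maxHeartbeats 0 in
theorem nxC_E8_5_51 : nxCheckRange chevE8 nxca_E8_5 nxrt_E8_5 nxeta_E8_5 5 204 4 = true := by decide +kernel

set_option maxRecDepth 1000000 in
set_option maxHeartbeats 0 in
theorem nxC_E8_5_52 : nxCheckRange chevE8 nxca_E8_5 nxrt_E8_5 nxeta_E8_5 5 208 4 = true := by decide +kernel

set_option maxRecDepth 1000000 in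
set_option maxHeartbeats 0 in
theorem nxC_E8_5_53 : nxCheckRange chevE8 nxca_E8_5 nxrt_E8_5 nxeta_E8_5 5 212 4 = true := by decide +kernel

set_option maxRecDepth 1000000 in
set_option maxHeartbeats 0 in
theorem nxC_E8_5_54 : nxCheckRange chevE8 nxca_E8_5 nxrt_E8_5 nxeta_E8_5 5 216 4 = true := by decide +kernel

set_option maxRecDepth 1000000 in
set_option maxHeartbeats 0 in
theorem nxC_E8_5_55 : nxCheckRange chevE8 nxca_E8_5 nxrt_E8_5 nxeta_E8_5 5 220 4 = true := by decide +kernel

set_option maxRecDepth 1000000 in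
set_option maxHeartbeats 0 in
theorem nxC_E8_5_56 : nxCheckRange chevE8 nxca_E8_5 nxrt_E8_5 nxeta_E8_5 5 224 4 = true := by decide +kernel

set_option maxRecDepth 1000000 in
set_option maxHeartbeats 0 in
theorem nxC_E8_5_57 : nxCheckRange chevE8 nxca_E8_5 nxrt_E8_5 nxeta_E8_5 5 228 4 = true := by decide +kernel

set_option maxRecDepth 1000000 in
set_option maxHeartbeats 0 in
theorem nxC_E8_5_58 : nxCheckRange chevE8 nxca_E8_5 nxrt_E8_5 nxeta_E8_5 5 232 4 = true := by decide +kernel

set_option maxRecDepth 1000000 in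
set_option maxHeartbeats 0 in
theorem nxC_E8_5_59 : nxCheckRange chevE8 nxca_E8_5 nxrt_E8_5 nxeta_E8_5 5 236 4 = true := by decide +kernel

end Cfsg.Agent.helper5.Chev
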