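import Mathlib
import Cfsg.Agent.Lib_helper5_ChevNXDefsE8

set_option autoImplicit false

namespace Cfsg.Agent.helper5.Chev

open Cfsg.Lie

set_option maxRecDepth 1000000 in
set_option maxHeartbeats 0 in
theorem nxC_E8_6_0 : nxCheckRange chevE8 nxca_E8_6 nxrt_E8_6 nxeta_E8_6 6 0 4 = true := by decide +kernel

set_option maxRecDepth 1000000 in
set_option maxHeartbeats 0 in
theorem nxC_E8_6_1 : nxCheckRange chevE8 nxca_E8_6 nxrt_E8_6 nxeta_E8_6 6 4 4 = true := by decide +kernel

set_option maxRecDepth 1000000 in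
set_option maxHeartbeats 0 in
theorem nxC_E8_6_2 : nxCheckRange chevE8 nxca_E8_6 nxrt_E8_6 nxeta_E8_6 6 8 4 = true := by decide +kernel

set_option maxRecDepth 1000000 in
set_option maxHeartbeats 0 in
theorem nxC_E8_6_3 : nxCheckRange chevE8 nxca_E8_6 nxrt_E8_6 nxeta_E8_6 6 12 4 = true := by decide +kernel

set_option maxRecDepth 1000000 in
set_option maxHeartbeats 0 in
theorem nxC_E8_6_4 : nxCheckRange chevE8 nxca_E8_6 nxrt_E8_6 nxeta_E8_6 6 16 4 = true := by decide +kernel

set_option maxRecDepth 1000000 in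
set_option maxHeartbeats 0 in
theorem nxC_E8_6_5 : nxCheckRange chevE8 nxca_E8_6 nxrt_E8_6 nxeta_E8_6 6 20 4 = true := by decide +kernel

set_option maxRecDepth 1000000 in
set_option maxHeartbeats 0 in
theorem nxC_E8_6_6 : nxCheckRange chevE8 nxca_E8_6 nxrt_E8_6 nxeta_E8_6 6 24 4 = true := by decide +kernel

set_option maxRecDepth 1000000 in
set_option maxHeartbeats 0 in
theorem nxC_E8_6_7 : nxCheckRange chevE8 nxca_E8_6 nxrt_E8_6 nxeta_E8_6 6 28 4 = true := by decide +kernel

set_option maxRecDepth 1000000 in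
set_option maxHeartbeats 0 in
theorem nxC_E8_6_8 : nxCheckRange chevE8 nxca_E8_6 nxrt_E8_6 nxeta_E8_6 6 32 4 = true := by decide +kernel

set_option maxRecDepth 1000000 in
set_option maxHeartbeats 0 in
theorem nxC_E8_6_9 : nxCheckRange chevE8 nxca_E8_6 nxrt_E8_6 nxeta_E8_6 6 36 4 = true := by decide +kernel

set_option maxRecDepth 1000000 in
set_option maxHeartbeats 0 in
theorem nxC_E8_6_10 : nxCheckRange chevE8 nxca_E8_6 nxrt_E8_6 nxeta_E8_6 6 40 4 = true := by decide +kernel

set_option maxRecDepth 1000000 in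
set_option maxHeartbeats 0 in
theorem nxC_E8_6_11 : nxCheckRange chevE8 nxca_E8_6 nxrt_E8_6 nxeta_E8_6 6 44 4 = true := by decide +kernel

set_option maxRecDepth 1000000 in
set_option maxHeartbeats 0 in
theorem nxC_E8_6_12 : nxCheckRange chevE8 nxca_E8_6 nxrt_E8_6 nxeta_E8_6 6 48 4 = true := by decide +kernel

set_option maxRecDepth 1000000 in
set_option maxHeartbeats 0 in
theorem nxC_E8_6_13 : nxCheckRange chevE8 nxca_E8_6 nxrt_E8_6 nxeta_E8_6 6 52 4 = true := by decide +kernel

set_option maxRecDepth 1000000 in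
set_option maxHeartbeats 0 in
theorem nxC_E8_6_14 : nxCheckRange chevE8 nxca_E8_6 nxrt_E8_6 nxeta_E8_6 6 56 4 = true := by decide +kernel

set_option maxRecDepth 1000000 in
set_option maxHeartbeats 0 in
theorem nxC_E8_6_15 : nxCheckRange chevE8 nxca_E8_6 nxrt_E8_6 nxeta_E8_6 6 60 4 = true := by decide +kernel

set_option maxRecDepth 1000000 in
set_option maxHeartbeats 0 in
theorem nxC_E8_6_16 : nxCheckRange chevE8 nxca_E8_6 nxrt_E8_6 nxeta_E8_6 6 64 4 = true := by decide +kernel

set_option maxRecDepth 1000000 in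
set_option maxHeartbeats 0 in
theorem nxC_E8_6_17 : nxCheckRange chevE8 nxca_E8_6 nxrt_E8_6 nxeta_E8_6 6 68 4 = true := by decide +kernel

set_option maxRecDepth 1000000 in
set_option maxHeartbeats 0 in
theorem nxC_E8_6_18 : nxCheckRange chevE8 nxca_E8_6 nxrt_E8_6 nxeta_E8_6 6 72 4 = true := by decide +kernel

set_option maxRecDepth 1000000 in
set_option maxHeartbeats 0 in
theorem nxC_E8_6_19 : nxCheckRange chevE8 nxca_E8_6 nxrt_E8_6 nxeta_E8_6 6 76 4 = true := by decide +kernel

set_option maxRecDepth 1000000 in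
set_option maxHeartbeats 0 in
theorem nxC_E8_6_20 : nxCheckRange chevE8 nxca_E8_6 nxrt_E8_6 nxeta_E8_6 6 80 4 = true := by decide +kernel

set_option maxRecDepth 1000000 in
set_option maxHeartbeats 0 in
theorem nxC_E8_6_21 : nxCheckRange chevE8 nxca_E8_6 nxrt_E8_6 nxeta_E8_6 6 84 4 = true := by decide +kernel

set_option maxRecDepth 1000000 in
set_option maxHeartbeats 0 in
theorem nxC_E8_6_22 : nxCheckRange chevE8 nxca_E8_6 nxrt_E8_6 nxeta_E8_6 6 88 4 = true := by decide +kernel

set_option maxRecDepth 1000000 in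
set_option maxHeartbeats 0 in
theorem nxC_E8_6_23 : nxCheckRange chevE8 nxca_E8_6 nxrt_E8_6 nxeta_E8_6 6 92 4 = true := by decide +kernel

set_option maxRecDepth 1000000 in
set_option maxHeartbeats 0 in
theorem nxC_E8_6_24 : nxCheckRange chevE8 nxca_E8_6 nxrt_E8_6 nxeta_E8_6 6 96 4 = true := by decide +kernel

set_option maxRecDepth 1000000 in
set_option maxHeartbeats 0 in
theorem nxC_E8_6_25 : nxCheckRange chevE8 nxca_E8_6 nxrt_E8_6 nxeta_E8_6 6 100 4 = true := by decide +kernel

set_option maxRecDepth 1000000 in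
set_option maxHeartbeats 0 in
theorem nxC_E8_6_26 : nxCheckRange chevE8 nxca_E8_6 nxrt_E8_6 nxeta_E8_6 6 104 4 = true := by decide +kernel

set_option maxRecDepth 1000000 in
set_option maxHeartbeats 0 in
theorem nxC_E8_6_27 : nxCheckRange chevE8 nxca_E8_6 nxrt_E8_6 nxeta_E8_6 6 108 4 = true := by decide +kernel

set_option maxRecDepth 1000000 in
set_option maxHeartbeats 0 in
theorem nxC_E8_6_28 : nxCheckRange chevE8 nxca_E8_6 nxrt_E8_6 nxeta_E8_6 6 112 4 = true := by decide +kernel

set_option maxRecDepth 1000000 in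
set_option maxHeartbeats 0 in
theorem nxC_E8_6_29 : nxCheckRange chevE8 nxca_E8_6 nxrt_E8_6 nxeta_E8_6 6 116 4 = true := by decide +kernel

end Cfsg.Agent.helper5.Chev
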