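import Mathlib
import Cfsg.Agent.Lib_helper5_ChevNXDefsE8

set_option autoImplicit false

namespace Cfsg.Agent.helper5.Chev

open Cfsg.Lie

set_option maxRecDepth 1000000 in
set_option maxHeartbeats 0 in
theorem nxC_E8_6_30 : nxCheckRange chevE8 nxca_E8_6 nxrt_E8_6 nxeta_E8_6 6 120 4 = true := by decide +kernel

set_option maxRecDepth 1000000 in
set_option maxHeartbeats 0 in
theorem nxC_E8_6_31 : nxCheckRange chevE8 nxca_E8_6 nxrt_E8_6 nxeta_E8_6 6 124 4 = true := by decide +kernel

set_option maxRecDepth 1000000 in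
set_option maxHeartbeats 0 in
theorem nxC_E8_6_32 : nxCheckRange chevE8 nxca_E8_6 nxrt_E8_6 nxeta_E8_6 6 128 4 = true := by decide +kernel

set_option maxRecDepth 1000000 in
set_option maxHeartbeats 0 in
theorem nxC_E8_6_33 : nxCheckRange chevE8 nxca_E8_6 nxrt_E8_6 nxeta_E8_6 6 132 4 = true := by decide +kernel

set_option maxRecDepth 1000000 in
set_option maxHeartbeats 0 in
theorem nxC_E8_6_34 : nxCheckRange chevE8 nxca_E8_6 nxrt_E8_6 nxeta_E8_6 6 136 4 = true := by decide +kernel

set_option maxRecDepth 1000000 in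
set_option maxHeartbeats 0 in
theorem nxC_E8_6_35 : nxCheckRange chevE8 nxca_E8_6 nxrt_E8_6 nxeta_E8_6 6 140 4 = true := by decide +kernel

set_option maxRecDepth 1000000 in
set_option maxHeartbeats 0 in
theorem nxC_E8_6_36 : nxCheckRange chevE8 nxca_E8_6 nxrt_E8_6 nxeta_E8_6 6 144 4 = true := by decide +kernel

set_option maxRecDepth 1000000 in
set_option maxHeartbeats 0 in
theorem nxC_E8_6_37 : nxCheckRange chevE8 nxca_E8_6 nxrt_E8_6 nxeta_E8_6 6 148 4 = true := by decide +kernel

set_option maxRecDepth 1000000 in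
set_option maxHeartbeats 0 in
theorem nxC_E8_6_38 : nxCheckRange chevE8 nxca_E8_6 nxrt_E8_6 nxeta_E8_6 6 152 4 = true := by decide +kernel

set_option maxRecDepth 1000000 in
set_option maxHeartbeats 0 in
theorem nxC_E8_6_39 : nxCheckRange chevE8 nxca_E8_6 nxrt_E8_6 nxeta_E8_6 6 156 4 = true := by decide +kernel

set_option maxRecDepth 1000000 in
set_option maxHeartbeats 0 in
theorem nxC_E8_6_40 : nxCheckRange chevE8 nxca_E8_6 nxrt_E8_6 nxeta_E8_6 6 160 4 = true := by decide +kernel

set_option maxRecDepth 1000000 in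
set_option maxHeartbeats 0 in
theorem nxC_E8_6_41 : nxCheckRange chevE8 nxca_E8_6 nxrt_E8_6 nxeta_E8_6 6 164 4 = true := by decide +kernel

set_option maxRecDepth 1000000 in
set_option maxHeartbeats 0 in
theorem nxC_E8_6_42 : nxCheckRange chevE8 nxca_E8_6 nxrt_E8_6 nxeta_E8_6 6 168 4 = true := by decide +kernel

set_option maxRecDepth 1000000 in
set_option maxHeartbeats 0 in
theorem nxC_E8_6_43 : nxCheckRange chevE8 nxca_E8_6 nxrt_E8_6 nxeta_E8_6 6 172 4 = true := by decide +kernel

set_option maxRecDepth 1000000 in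
set_option maxHeartbeats 0 in
theorem nxC_E8_6_44 : nxCheckRange chevE8 nxca_E8_6 nxrt_E8_6 nxeta_E8_6 6 176 4 = true := by decide +kernel

set_option maxRecDepth 1000000 in
set_option maxHeartbeats 0 in
theorem nxC_E8_6_45 : nxCheckRange chevE8 nxca_E8_6 nxrt_E8_6 nxeta_E8_6 6 180 4 = true := by decide +kernel

set_option maxRecDepth 1000000 in
set_option maxHeartbeats 0 in
theorem nxC_E8_6_46 : nxCheckRange chevE8 nxca_E8_6 nxrt_E8_6 nxeta_E8_6 6 184 4 = true := by decide +kernel

set_option maxRecDepth 1000000 in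
set_option maxHeartbeats 0 in
theorem nxC_E8_6_47 : nxCheckRange chevE8 nxca_E8_6 nxrt_E8_6 nxeta_E8_6 6 188 4 = true := by decide +kernel

set_option maxRecDepth 1000000 in
set_option maxHeartbeats 0 in
theorem nxC_E8_6_48 : nxCheckRange chevE8 nxca_E8_6 nxrt_E8_6 nxeta_E8_6 6 192 4 = true := by decide +kernel

set_option maxRecDepth 1000000 in
set_option maxHeartbeats 0 in
theorem nxC_E8_6_49 : nxCheckRange chevE8 nxca_E8_6 nxrt_E8_6 nxeta_E8_6 6 196 4 = true := by decide +kernel

set_option maxRecDepth 1000000 in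
set_option maxHeartbeats 0 in
theorem nxC_E8_6_50 : nxCheckRange chevE8 nxca_E8_6 nxrt_E8_6 nxeta_E8_6 6 200 4 = true := by decide +kernel

set_option maxRecDepth 1000000 in
set_option maxHeartbeats 0 in
theorem nxC_E8_6_51 : nxCheckRange chevE8 nxca_E8_6 nxrt_E8_6 nxeta_E8_6 6 204 4 = true := by decide +kernel

set_option maxRecDepth 1000000 in
set_option maxHeartbeats 0 in
theorem nxC_E8_6_52 : nxCheckRange chevE8 nxca_E8_6 nxrt_E8_6 nxeta_E8_6 6 208 4 = true := by decide +kernel

set_option maxRecDepth 1000000 in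
set_option maxHeartbeats 0 in
theorem nxC_E8_6_53 : nxCheckRange chevE8 nxca_E8_6 nxrt_E8_6 nxeta_E8_6 6 212 4 = true := by decide +kernel

set_option maxRecDepth 1000000 in
set_option maxHeartbeats 0 in
theorem nxC_E8_6_54 : nxCheckRange chevE8 nxca_E8_6 nxrt_E8_6 nxeta_E8_6 6 216 4 = true := by decide +kernel

set_option maxRecDepth 1000000 in
set_option maxHeartbeats 0 in
theorem nxC_E8_6_55 : nxCheckRange chevE8 nxca_E8_6 nxrt_E8_6 nxeta_E8_6 6 220 4 = true := by decide +kernel

set_option maxRecDepth 1000000 in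
set_option maxHeartbeats 0 in
theorem nxC_E8_6_56 : nxCheckRange chevE8 nxca_E8_6 nxrt_E8_6 nxeta_E8_6 6 224 4 = true := by decide +kernel

set_option maxRecDepth 1000000 in
set_option maxHeartbeats 0 in
theorem nxC_E8_6_57 : nxCheckRange chevE8 nxca_E8_6 nxrt_E8_6 nxeta_E8_6 6 228 4 = true := by decide +kernel

set_option maxRecDepth 1000000 in
set_option maxHeartbeats 0 in
theorem nxC_E8_6_58 : nxCheckRange chevE8 nxca_E8_6 nxrt_E8_6 nxeta_E8_6 6 232 4 = true := by decide +kernel

set_option maxRecDepth 1000000 in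
set_option maxHeartbeats 0 in
theorem nxC_E8_6_59 : nxCheckRange chevE8 nxca_E8_6 nxrt_E8_6 nxeta_E8_6 6 236 4 = true := by decide +kernel

end Cfsg.Agent.helper5.Chev
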