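import Mathlib
import Cfsg.Agent.Lib_helper5_ChevNXDefsE8

set_option autoImplicit false

namespace Cfsg.Agent.helper5.Chev

open Cfsg.Lie

set_option maxRecDepth 1000000 in
set_option maxHeartbeats 0 in
theorem nxC_E8_7_0 : nxCheckRange chevE8 nxca_E8_7 nxrt_E8_7 nxeta_E8_7 7 0 4 = true := by decide +kernel

set_option maxRecDepth 1000000 in
set_option maxHeartbeats 0 in
theorem nxC_E8_7_1 : nxCheckRange chevE8 nxca_E8_7 nxrt_E8_7 nxeta_E8_7 7 4 4 = true := by decide +kernel

set_option maxRecDepth 1000000 in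
set_option maxHeartbeats 0 in
theorem nxC_E8_7_2 : nxCheckRange chevE8 nxca_E8_7 nxrt_E8_7 nxeta_E8_7 7 8 4 = true := by decide +kernel

set_option maxRecDepth 1000000 in
set_option maxHeartbeats 0 in
theorem nxC_E8_7_3 : nxCheckRange chevE8 nxca_E8_7 nxrt_E8_7 nxeta_E8_7 7 12 4 = true := by decide +kernel

set_option maxRecDepth 1000000 in
set_option maxHeartbeats 0 in
theorem nxC_E8_7_4 : nxCheckRange chevE8 nxca_E8_7 nxrt_E8_7 nxeta_E8_7 7 16 4 = true := by decide +kernel

set_option maxRecDepth 1000000 in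
set_option maxHeartbeats 0 in
theorem nxC_E8_7_5 : nxCheckRange chevE8 nxca_E8_7 nxrt_E8_7 nxeta_E8_7 7 20 4 = true := by decide +kernel

set_option maxRecDepth 1000000 in
set_option maxHeartbeats 0 in
theorem nxC_E8_7_6 : nxCheckRange chevE8 nxca_E8_7 nxrt_E8_7 nxeta_E8_7 7 24 4 = true := by decide +kernel

set_option maxRecDepth 1000000 in
set_option maxHeartbeats 0 in
theorem nxC_E8_7_7 : nxCheckRange chevE8 nxca_E8_7 nxrt_E8_7 nxeta_E8_7 7 28 4 = true := by decide +kernel

set_option maxRecDepth 1000000 in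
set_option maxHeartbeats 0 in
theorem nxC_E8_7_8 : nxCheckRange chevE8 nxca_E8_7 nxrt_E8_7 nxeta_E8_7 7 32 4 = true := by decide +kernel

set_option maxRecDepth 1000000 in
set_option maxHeartbeats 0 in
theorem nxC_E8_7_9 : nxCheckRange chevE8 nxca_E8_7 nxrt_E8_7 nxeta_E8_7 7 36 4 = true := by decide +kernel

set_option maxRecDepth 1000000 in
set_option maxHeartbeats 0 in
theorem nxC_E8_7_10 : nxCheckRange chevE8 nxca_E8_7 nxrt_E8_7 nxeta_E8_7 7 40 4 = true := by decide +kernel

set_option maxRecDepth 1000000 in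
set_option maxHeartbeats 0 in
theorem nxC_E8_7_11 : nxCheckRange chevE8 nxca_E8_7 nxrt_E8_7 nxeta_E8_7 7 44 4 = true := by decide +kernel

set_option maxRecDepth 1000000 in
set_option maxHeartbeats 0 in
theorem nxC_E8_7_12 : nxCheckRange chevE8 nxca_E8_7 nxrt_E8_7 nxeta_E8_7 7 48 4 = true := by decide +kernel

set_option maxRecDepth 1000000 in
set_option maxHeartbeats 0 in
theorem nxC_E8_7_13 : nxCheckRange chevE8 nxca_E8_7 nxrt_E8_7 nxeta_E8_7 7 52 4 = true := by decide +kernel

set_option maxRecDepth 1000000 in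
set_option maxHeartbeats 0 in
theorem nxC_E8_7_14 : nxCheckRange chevE8 nxca_E8_7 nxrt_E8_7 nxeta_E8_7 7 56 4 = true := by decide +kernel

set_option maxRecDepth 1000000 in
set_option maxHeartbeats 0 in
theorem nxC_E8_7_15 : nxCheckRange chevE8 nxca_E8_7 nxrt_E8_7 nxeta_E8_7 7 60 4 = true := by decide +kernel

set_option maxRecDepth 1000000 in
set_option maxHeartbeats 0 in
theorem nxC_E8_7_16 : nxCheckRange chevE8 nxca_E8_7 nxrt_E8_7 nxeta_E8_7 7 64 4 = true := by decide +kernel

set_option maxRecDepth 1000000 in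
set_option maxHeartbeats 0 in
theorem nxC_E8_7_17 : nxCheckRange chevE8 nxca_E8_7 nxrt_E8_7 nxeta_E8_7 7 68 4 = true := by decide +kernel

set_option maxRecDepth 1000000 in
set_option maxHeartbeats 0 in
theorem nxC_E8_7_18 : nxCheckRange chevE8 nxca_E8_7 nxrt_E8_7 nxeta_E8_7 7 72 4 = true := by decide +kernel

set_option maxRecDepth 1000000 in
set_option maxHeartbeats 0 in
theorem nxC_E8_7_19 : nxCheckRange chevE8 nxca_E8_7 nxrt_E8_7 nxeta_E8_7 7 76 4 = true := by decide +kernel

set_option maxRecDepth 1000000 in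
set_option maxHeartbeats 0 in
theorem nxC_E8_7_20 : nxCheckRange chevE8 nxca_E8_7 nxrt_E8_7 nxeta_E8_7 7 80 4 = true := by decide +kernel

set_option maxRecDepth 1000000 in
set_option maxHeartbeats 0 in
theorem nxC_E8_7_21 : nxCheckRange chevE8 nxca_E8_7 nxrt_E8_7 nxeta_E8_7 7 84 4 = true := by decide +kernel

set_option maxRecDepth 1000000 in
set_option maxHeartbeats 0 in
theorem nxC_E8_7_22 : nxCheckRange chevE8 nxca_E8_7 nxrt_E8_7 nxeta_E8_7 7 88 4 = true := by decide +kernel

set_option maxRecDepth 1000000 in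
set_option maxHeartbeats 0 in
theorem nxC_E8_7_23 : nxCheckRange chevE8 nxca_E8_7 nxrt_E8_7 nxeta_E8_7 7 92 4 = true := by decide +kernel

set_option maxRecDepth 1000000 in
set_option maxHeartbeats 0 in
theorem nxC_E8_7_24 : nxCheckRange chevE8 nxca_E8_7 nxrt_E8_7 nxeta_E8_7 7 96 4 = true := by decide +kernel

set_option maxRecDepth 1000000 in
set_option maxHeartbeats 0 in
theorem nxC_E8_7_25 : nxCheckRange chevE8 nxca_E8_7 nxrt_E8_7 nxeta_E8_7 7 100 4 = true := by decide +kernel

set_option maxRecDepth 1000000 in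
set_option maxHeartbeats 0 in
theorem nxC_E8_7_26 : nxCheckRange chevE8 nxca_E8_7 nxrt_E8_7 nxeta_E8_7 7 104 4 = true := by decide +kernel

set_option maxRecDepth 1000000 in
set_option maxHeartbeats 0 in
theorem nxC_E8_7_27 : nxCheckRange chevE8 nxca_E8_7 nxrt_E8_7 nxeta_E8_7 7 108 4 = true := by decide +kernel

set_option maxRecDepth 1000000 in
set_option maxHeartbeats 0 in
theorem nxC_E8_7_28 : nxCheckRange chevE8 nxca_E8_7 nxrt_E8_7 nxeta_E8_7 7 112 4 = true := by decide +kernel

set_option maxRecDepth 1000000 in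
set_option maxHeartbeats 0 in
theorem nxC_E8_7_29 : nxCheckRange chevE8 nxca_E8_7 nxrt_E8_7 nxeta_E8_7 7 116 4 = true := by decide +kernel

end Cfsg.Agent.helper5.Chev
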