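import Mathlib
import Cfsg.Agent.Lib_helper5_ChevNXDefsE8

set_option autoImplicit false

namespace Cfsg.Agent.helper5.Chev

open Cfsg.Lie

set_option maxRecDepth 1000000 in
set_option maxHeartbeats 0 in
theorem nxC_E8_7_30 : nxCheckRange chevE8 nxca_E8_7 nxrt_E8_7 nxeta_E8_7 7 120 4 = true := by decide +kernel

set_option maxRecDepth 1000000 in
set_option maxHeartbeats 0 in
theorem nxC_E8_7_31 : nxCheckRange chevE8 nxca_E8_7 nxrt_E8_7 nxeta_E8_7 7 124 4 = true := by decide +kernel

set_option maxRecDepth 1000000 in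
set_option maxHeartbeats 0 in
theorem nxC_E8_7_32 : nxCheckRange chevE8 nxca_E8_7 nxrt_E8_7 nxeta_E8_7 7 128 4 = true := by decide +kernel

set_option maxRecDepth 1000000 in
set_option maxHeartbeats 0 in
theorem nxC_E8_7_33 : nxCheckRange chevE8 nxca_E8_7 nxrt_E8_7 nxeta_E8_7 7 132 4 = true := by decide +kernel

set_option maxRecDepth 1000000 in
set_option maxHeartbeats 0 in
theorem nxC_E8_7_34 : nxCheckRange chevE8 nxca_E8_7 nxrt_E8_7 nxeta_E8_7 7 136 4 = true := by decide +kernel

set_option maxRecDepth 1000000 in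
set_option maxHeartbeats 0 in
theorem nxC_E8_7_35 : nxCheckRange chevE8 nxca_E8_7 nxrt_E8_7 nxeta_E8_7 7 140 4 = true := by decide +kernel

set_option maxRecDepth 1000000 in
set_option maxHeartbeats 0 in
theorem nxC_E8_7_36 : nxCheckRange chevE8 nxca_E8_7 nxrt_E8_7 nxeta_E8_7 7 144 4 = true := by decide +kernel

set_option maxRecDepth 1000000 in
set_option maxHeartbeats 0 in
theorem nxC_E8_7_37 : nxCheckRange chevE8 nxca_E8_7 nxrt_E8_7 nxeta_E8_7 7 148 4 = true := by decide +kernel

set_option maxRecDepth 1000000 in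
set_option maxHeartbeats 0 in
theorem nxC_E8_7_38 : nxCheckRange chevE8 nxca_E8_7 nxrt_E8_7 nxeta_E8_7 7 152 4 = true := by decide +kernel

set_option maxRecDepth 1000000 in
set_option maxHeartbeats 0 in
theorem nxC_E8_7_39 : nxCheckRange chevE8 nxca_E8_7 nxrt_E8_7 nxeta_E8_7 7 156 4 = true := by decide +kernel

set_option maxRecDepth 1000000 in
set_option maxHeartbeats 0 in
theorem nxC_E8_7_40 : nxCheckRange chevE8 nxca_E8_7 nxrt_E8_7 nxeta_E8_7 7 160 4 = true := by decide +kernel

set_option maxRecDepth 1000000 in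
set_option maxHeartbeats 0 in
theorem nxC_E8_7_41 : nxCheckRange chevE8 nxca_E8_7 nxrt_E8_7 nxeta_E8_7 7 164 4 = true := by decide +kernel

set_option maxRecDepth 1000000 in
set_option maxHeartbeats 0 in
theorem nxC_E8_7_42 : nxCheckRange chevE8 nxca_E8_7 nxrt_E8_7 nxeta_E8_7 7 168 4 = true := by decide +kernel

set_option maxRecDepth 1000000 in
set_option maxHeartbeats 0 in
theorem nxC_E8_7_43 : nxCheckRange chevE8 nxca_E8_7 nxrt_E8_7 nxeta_E8_7 7 172 4 = true := by decide +kernel

set_option maxRecDepth 1000000 in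
set_option maxHeartbeats 0 in
theorem nxC_E8_7_44 : nxCheckRange chevE8 nxca_E8_7 nxrt_E8_7 nxeta_E8_7 7 176 4 = true := by decide +kernel

set_option maxRecDepth 1000000 in
set_option maxHeartbeats 0 in
theorem nxC_E8_7_45 : nxCheckRange chevE8 nxca_E8_7 nxrt_E8_7 nxeta_E8_7 7 180 4 = true := by decide +kernel

set_option maxRecDepth 1000000 in
set_option maxHeartbeats 0 in
theorem nxC_E8_7_46 : nxCheckRange chevE8 nxca_E8_7 nxrt_E8_7 nxeta_E8_7 7 184 4 = true := by decide +kernel

set_option maxRecDepth 1000000 in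
set_option maxHeartbeats 0 in
theorem nxC_E8_7_47 : nxCheckRange chevE8 nxca_E8_7 nxrt_E8_7 nxeta_E8_7 7 188 4 = true := by decide +kernel

set_option maxRecDepth 1000000 in
set_option maxHeartbeats 0 in
theorem nxC_E8_7_48 : nxCheckRange chevE8 nxca_E8_7 nxrt_E8_7 nxeta_E8_7 7 192 4 = true := by decide +kernel

set_option maxRecDepth 1000000 in
set_option maxHeartbeats 0 in
theorem nxC_E8_7_49 : nxCheckRange chevE8 nxca_E8_7 nxrt_E8_7 nxeta_E8_7 7 196 4 = true := by decide +kernel

set_option maxRecDepth 1000000 in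
set_option maxHeartbeats 0 in
theorem nxC_E8_7_50 : nxCheckRange chevE8 nxca_E8_7 nxrt_E8_7 nxeta_E8_7 7 200 4 = true := by decide +kernel

set_option maxRecDepth 1000000 in
set_option maxHeartbeats 0 in
theorem nxC_E8_7_51 : nxCheckRange chevE8 nxca_E8_7 nxrt_E8_7 nxeta_E8_7 7 204 4 = true := by decide +kernel

set_option maxRecDepth 1000000 in
set_option maxHeartbeats 0 in
theorem nxC_E8_7_52 : nxCheckRange chevE8 nxca_E8_7 nxrt_E8_7 nxeta_E8_7 7 208 4 = true := by decide +kernel

set_option maxRecDepth 1000000 in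
set_option maxHeartbeats 0 in
theorem nxC_E8_7_53 : nxCheckRange chevE8 nxca_E8_7 nxrt_E8_7 nxeta_E8_7 7 212 4 = true := by decide +kernel

set_option maxRecDepth 1000000 in
set_option maxHeartbeats 0 in
theorem nxC_E8_7_54 : nxCheckRange chevE8 nxca_E8_7 nxrt_E8_7 nxeta_E8_7 7 216 4 = true := by decide +kernel

set_option maxRecDepth 1000000 in
set_option maxHeartbeats 0 in
theorem nxC_E8_7_55 : nxCheckRange chevE8 nxca_E8_7 nxrt_E8_7 nxeta_E8_7 7 220 4 = true := by decide +kernel

set_option maxRecDepth 1000000 in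
set_option maxHeartbeats 0 in
theorem nxC_E8_7_56 : nxCheckRange chevE8 nxca_E8_7 nxrt_E8_7 nxeta_E8_7 7 224 4 = true := by decide +kernel

set_option maxRecDepth 1000000 in
set_option maxHeartbeats 0 in
theorem nxC_E8_7_57 : nxCheckRange chevE8 nxca_E8_7 nxrt_E8_7 nxeta_E8_7 7 228 4 = true := by decide +kernel

set_option maxRecDepth 1000000 in
set_option maxHeartbeats 0 in
theorem nxC_E8_7_58 : nxCheckRange chevE8 nxca_E8_7 nxrt_E8_7 nxeta_E8_7 7 232 4 = true := by decide +kernel

set_option maxRecDepth 1000000 in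
set_option maxHeartbeats 0 in
theorem nxC_E8_7_59 : nxCheckRange chevE8 nxca_E8_7 nxrt_E8_7 nxeta_E8_7 7 236 4 = true := by decide +kernel

end Cfsg.Agent.helper5.Chev
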