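import Mathlib
import Cfsg.Agent.Lib_helper5_ChevNXDefsE8

set_option autoImplicit false

namespace Cfsg.Agent.helper5.Chev

open Cfsg.Lie

set_option maxRecDepth 1000000 in
set_option maxHeartbeats 0 in
theorem nxT_E8_0_0 : tabCheckRange chevE8 nxrt_E8_0 nxeta_E8_0 0 0 30 = true := by decide +kernel

set_option maxRecDepth 1000000 in
set_option maxHeartbeats 0 in
theorem nxT_E8_0_1 : tabCheckRange chevE8 nxrt_E8_0 nxeta_E8_0 0 30 30 = true := by decide +kernel

set_option maxRecDepth 1000000 in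
set_option maxHeartbeats 0 in
theorem nxT_E8_0_2 : tabCheckRange chevE8 nxrt_E8_0 nxeta_E8_0 0 60 30 = true := by decide +kernel

set_option maxRecDepth 1000000 in
set_option maxHeartbeats 0 in
theorem nxT_E8_0_3 : tabCheckRange chevE8 nxrt_E8_0 nxeta_E8_0 0 90 30 = true := by decide +kernel

set_option maxRecDepth 1000000 in
set_option maxHeartbeats 0 in
theorem nxT_E8_0_4 : tabCheckRange chevE8 nxrt_E8_0 nxeta_E8_0 0 120 30 = true := by decide +kernel

set_option maxRecDepth 1000000 in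
set_option maxHeartbeats 0 in
theorem nxT_E8_0_5 : tabCheckRange chevE8 nxrt_E8_0 nxeta_E8_0 0 150 30 = true := by decide +kernel

set_option maxRecDepth 1000000 in
set_option maxHeartbeats 0 in
theorem nxT_E8_0_6 : tabCheckRange chevE8 nxrt_E8_0 nxeta_E8_0 0 180 30 = true := by decide +kernel

set_option maxRecDepth 1000000 in
set_option maxHeartbeats 0 in
theorem nxT_E8_0_7 : tabCheckRange chevE8 nxrt_E8_0 nxeta_E8_0 0 210 30 = true := by decide +kernel

theorem nxTab_E8_0 : NXTab chevE8 0 nxca_E8_0 nxrt_E8_0 nxeta_E8_0 := by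
  apply nxTab_of_chunks chevE8 0 nxca_E8_0 nxrt_E8_0 nxeta_E8_0 (by decide +kernel) 30 8 (by decide +kernel) (by decide +kernel)
  intro k hk
  interval_cases k
  · exact nxT_E8_0_0
  · exact nxT_E8_0_1
  · exact nxT_E8_0_2
  · exact nxT_E8_0_3
  · exact nxT_E8_0_4
  · exact nxT_E8_0_5
  · exact nxT_E8_0_6
  · exact nxT_E8_0_7

set_option maxRecDepth 1000000 in
set_option maxHeartbeats 0 in
theorem nxT_E8_1_0 : tabCheckRange chevE8 nxrt_E8_1 nxeta_E8_1 1 0 30 = true := by decide +kernel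

set_option maxRecDepth 1000000 in
set_option maxHeartbeats 0 in
theorem nxT_E8_1_1 : tabCheckRange chevE8 nxrt_E8_1 nxeta_E8_1 1 30 30 = true := by decide +kernel

set_option maxRecDepth 1000000 in
set_option maxHeartbeats 0 in
theorem nxT_E8_1_2 : tabCheckRange chevE8 nxrt_E8_1 nxeta_E8_1 1 60 30 = true := by decide +kernel

set_option maxRecDepth 1000000 in
set_option maxHeartbeats 0 in
theorem nxT_E8_1_3 : tabCheckRange chevE8 nxrt_E8_1 nxeta_E8_1 1 90 30 = true := by decide +kernel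

set_option maxRecDepth 1000000 in
set_option maxHeartbeats 0 in
theorem nxT_E8_1_4 : tabCheckRange chevE8 nxrt_E8_1 nxeta_E8_1 1 120 30 = true := by decide +kernel

set_option maxRecDepth 1000000 in
set_option maxHeartbeats 0 in
theorem nxT_E8_1_5 : tabCheckRange chevE8 nxrt_E8_1 nxeta_E8_1 1 150 30 = true := by decide +kernel

set_option maxRecDepth 1000000 in
set_option maxHeartbeats 0 in
theorem nxT_E8_1_6 : tabCheckRange chevE8 nxrt_E8_1 nxeta_E8_1 1 180 30 = true := by decide +kernel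

set_option maxRecDepth 1000000 in
set_option maxHeartbeats 0 in
theorem nxT_E8_1_7 : tabCheckRange chevE8 nxrt_E8_1 nxeta_E8_1 1 210 30 = true := by decide +kernel

theorem nxTab_E8_1 : NXTab chevE8 1 nxca_E8_1 nxrt_E8_1 nxeta_E8_1 := by
  apply nxTab_of_chunks chevE8 1 nxca_E8_1 nxrt_E8_1 nxeta_E8_1 (by decide +kernel) 30 8 (by decide +kernel) (by decide +kernel)
  intro k hk
  interval_cases k
  · exact nxT_E8_1_0
  · exact nxT_E8_1_1
  · exact nxT_E8_1_2
  · exact nxT_E8_1_3
  · exact nxT_E8_1_4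
  · exact nxT_E8_1_5
  · exact nxT_E8_1_6
  · exact nxT_E8_1_7

set_option maxRecDepth 1000000 in
set_option maxHeartbeats 0 in
theorem nxT_E8_2_0 : tabCheckRange chevE8 nxrt_E8_2 nxeta_E8_2 2 0 30 = true := by decide +kernel

set_option maxRecDepth 1000000 in
set_option maxHeartbeats 0 in
theorem nxT_E8_2_1 : tabCheckRange chevE8 nxrt_E8_2 nxeta_E8_2 2 30 30 = true := by decide +kernel

set_option maxRecDepth 1000000 in
set_option maxHeartbeats 0 in
theorem nxT_E8_2_2 : tabCheckRange chevE8 nxrt_E8_2 nxeta_E8_2 2 60 30 = true := by decide +kernel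

set_option maxRecDepth 1000000 in
set_option maxHeartbeats 0 in
theorem nxT_E8_2_3 : tabCheckRange chevE8 nxrt_E8_2 nxeta_E8_2 2 90 30 = true := by decide +kernel

set_option maxRecDepth 1000000 in
set_option maxHeartbeats 0 in
theorem nxT_E8_2_4 : tabCheckRange chevE8 nxrt_E8_2 nxeta_E8_2 2 120 30 = true := by decide +kernel

set_option maxRecDepth 1000000 in
set_option maxHeartbeats 0 in
theorem nxT_E8_2_5 : tabCheckRange chevE8 nxrt_E8_2 nxeta_E8_2 2 150 30 = true := by decide +kernel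

set_option maxRecDepth 1000000 in
set_option maxHeartbeats 0 in
theorem nxT_E8_2_6 : tabCheckRange chevE8 nxrt_E8_2 nxeta_E8_2 2 180 30 = true := by decide +kernel

set_option maxRecDepth 1000000 in
set_option maxHeartbeats 0 in
theorem nxT_E8_2_7 : tabCheckRange chevE8 nxrt_E8_2 nxeta_E8_2 2 210 30 = true := by decide +kernel

theorem nxTab_E8_2 : NXTab chevE8 2 nxca_E8_2 nxrt_E8_2 nxeta_E8_2 := by
  apply nxTab_of_chunks chevE8 2 nxca_E8_2 nxrt_E8_2 nxeta_E8_2 (by decide +kernel) 30 8 (by decide +kernel) (by decide +kernel)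
  intro k hk
  interval_cases k
  · exact nxT_E8_2_0
  · exact nxT_E8_2_1
  · exact nxT_E8_2_2
  · exact nxT_E8_2_3
  · exact nxT_E8_2_4
  · exact nxT_E8_2_5
  · exact nxT_E8_2_6
  · exact nxT_E8_2_7

set_option maxRecDepth 1000000 in
set_option maxHeartbeats 0 in
theorem nxT_E8_3_0 : tabCheckRange chevE8 nxrt_E8_3 nxeta_E8_3 3 0 30 = true := by decide +kernel

set_option maxRecDepth 1000000 in
set_option maxHeartbeats 0 in
theorem nxT_E8_3_1 : tabCheckRange chevE8 nxrt_E8_3 nxeta_E8_3 3 30 30 = true := by decide +kernel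

set_option maxRecDepth 1000000 in
set_option maxHeartbeats 0 in
theorem nxT_E8_3_2 : tabCheckRange chevE8 nxrt_E8_3 nxeta_E8_3 3 60 30 = true := by decide +kernel

set_option maxRecDepth 1000000 in
set_option maxHeartbeats 0 in
theorem nxT_E8_3_3 : tabCheckRange chevE8 nxrt_E8_3 nxeta_E8_3 3 90 30 = true := by decide +kernel

set_option maxRecDepth 1000000 in
set_option maxHeartbeats 0 in
theorem nxT_E8_3_4 : tabCheckRange chevE8 nxrt_E8_3 nxeta_E8_3 3 120 30 = true := by decide +kernel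

set_option maxRecDepth 1000000 in
set_option maxHeartbeats 0 in
theorem nxT_E8_3_5 : tabCheckRange chevE8 nxrt_E8_3 nxeta_E8_3 3 150 30 = true := by decide +kernel

set_option maxRecDepth 1000000 in
set_option maxHeartbeats 0 in
theorem nxT_E8_3_6 : tabCheckRange chevE8 nxrt_E8_3 nxeta_E8_3 3 180 30 = true := by decide +kernel

set_option maxRecDepth 1000000 in
set_option maxHeartbeats 0 in
theorem nxT_E8_3_7 : tabCheckRange chevE8 nxrt_E8_3 nxeta_E8_3 3 210 30 = true := by decide +kernel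

theorem nxTab_E8_3 : NXTab chevE8 3 nxca_E8_3 nxrt_E8_3 nxeta_E8_3 := by
  apply nxTab_of_chunks chevE8 3 nxca_E8_3 nxrt_E8_3 nxeta_E8_3 (by decide +kernel) 30 8 (by decide +kernel) (by decide +kernel)
  intro k hk
  interval_cases k
  · exact nxT_E8_3_0
  · exact nxT_E8_3_1
  · exact nxT_E8_3_2
  · exact nxT_E8_3_3
  · exact nxT_E8_3_4
  · exact nxT_E8_3_5
  · exact nxT_E8_3_6
  · exact nxT_E8_3_7

end Cfsg.Agent.helper5.Chev
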