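import Mathlib
import Cfsg.Agent.Lib_helper5_ChevNXDefsE8

set_option autoImplicit false

namespace Cfsg.Agent.helper5.Chev

open Cfsg.Lie

set_option maxRecDepth 1000000 in
set_option maxHeartbeats 0 in
theorem nxT_E8_4_0 : tabCheckRange chevE8 nxrt_E8_4 nxeta_E8_4 4 0 30 = true := by decide +kernel

set_option maxRecDepth 1000000 in
set_option maxHeartbeats 0 in
theorem nxT_E8_4_1 : tabCheckRange chevE8 nxrt_E8_4 nxeta_E8_4 4 30 30 = true := by decide +kernel

set_option maxRecDepth 1000000 in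
set_option maxHeartbeats 0 in
theorem nxT_E8_4_2 : tabCheckRange chevE8 nxrt_E8_4 nxeta_E8_4 4 60 30 = true := by decide +kernel

set_option maxRecDepth 1000000 in
set_option maxHeartbeats 0 in
theorem nxT_E8_4_3 : tabCheckRange chevE8 nxrt_E8_4 nxeta_E8_4 4 90 30 = true := by decide +kernel

set_option maxRecDepth 1000000 in
set_option maxHeartbeats 0 in
theorem nxT_E8_4_4 : tabCheckRange chevE8 nxrt_E8_4 nxeta_E8_4 4 120 30 = true := by decide +kernel

set_option maxRecDepth 1000000 in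
set_option maxHeartbeats 0 in
theorem nxT_E8_4_5 : tabCheckRange chevE8 nxrt_E8_4 nxeta_E8_4 4 150 30 = true := by decide +kernel

set_option maxRecDepth 1000000 in
set_option maxHeartbeats 0 in
theorem nxT_E8_4_6 : tabCheckRange chevE8 nxrt_E8_4 nxeta_E8_4 4 180 30 = true := by decide +kernel

set_option maxRecDepth 1000000 in
set_option maxHeartbeats 0 in
theorem nxT_E8_4_7 : tabCheckRange chevE8 nxrt_E8_4 nxeta_E8_4 4 210 30 = true := by decide +kernel

theorem nxTab_E8_4 : NXTab chevE8 4 nxca_E8_4 nxrt_E8_4 nxeta_E8_4 := by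
  apply nxTab_of_chunks chevE8 4 nxca_E8_4 nxrt_E8_4 nxeta_E8_4 (by decide +kernel) 30 8 (by decide +kernel) (by decide +kernel)
  intro k hk
  interval_cases k
  · exact nxT_E8_4_0
  · exact nxT_E8_4_1
  · exact nxT_E8_4_2
  · exact nxT_E8_4_3
  · exact nxT_E8_4_4
  · exact nxT_E8_4_5
  · exact nxT_E8_4_6
  · exact nxT_E8_4_7

set_option maxRecDepth 1000000 in
set_option maxHeartbeats 0 in
theorem nxT_E8_5_0 : tabCheckRange chevE8 nxrt_E8_5 nxeta_E8_5 5 0 30 = true := by decide +kernel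

set_option maxRecDepth 1000000 in
set_option maxHeartbeats 0 in
theorem nxT_E8_5_1 : tabCheckRange chevE8 nxrt_E8_5 nxeta_E8_5 5 30 30 = true := by decide +kernel

set_option maxRecDepth 1000000 in
set_option maxHeartbeats 0 in
theorem nxT_E8_5_2 : tabCheckRange chevE8 nxrt_E8_5 nxeta_E8_5 5 60 30 = true := by decide +kernel

set_option maxRecDepth 1000000 in
set_option maxHeartbeats 0 in
theorem nxT_E8_5_3 : tabCheckRange chevE8 nxrt_E8_5 nxeta_E8_5 5 90 30 = true := by decide +kernel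

set_option maxRecDepth 1000000 in
set_option maxHeartbeats 0 in
theorem nxT_E8_5_4 : tabCheckRange chevE8 nxrt_E8_5 nxeta_E8_5 5 120 30 = true := by decide +kernel

set_option maxRecDepth 1000000 in
set_option maxHeartbeats 0 in
theorem nxT_E8_5_5 : tabCheckRange chevE8 nxrt_E8_5 nxeta_E8_5 5 150 30 = true := by decide +kernel

set_option maxRecDepth 1000000 in
set_option maxHeartbeats 0 in
theorem nxT_E8_5_6 : tabCheckRange chevE8 nxrt_E8_5 nxeta_E8_5 5 180 30 = true := by decide +kernel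

set_option maxRecDepth 1000000 in
set_option maxHeartbeats 0 in
theorem nxT_E8_5_7 : tabCheckRange chevE8 nxrt_E8_5 nxeta_E8_5 5 210 30 = true := by decide +kernel

theorem nxTab_E8_5 : NXTab chevE8 5 nxca_E8_5 nxrt_E8_5 nxeta_E8_5 := by
  apply nxTab_of_chunks chevE8 5 nxca_E8_5 nxrt_E8_5 nxeta_E8_5 (by decide +kernel) 30 8 (by decide +kernel) (by decide +kernel)
  intro k hk
  interval_cases k
  · exact nxT_E8_5_0
  · exact nxT_E8_5_1
  · exact nxT_E8_5_2
  · exact nxT_E8_5_3
  · exact nxT_E8_5_4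
  · exact nxT_E8_5_5
  · exact nxT_E8_5_6
  · exact nxT_E8_5_7

set_option maxRecDepth 1000000 in
set_option maxHeartbeats 0 in
theorem nxT_E8_6_0 : tabCheckRange chevE8 nxrt_E8_6 nxeta_E8_6 6 0 30 = true := by decide +kernel

set_option maxRecDepth 1000000 in
set_option maxHeartbeats 0 in
theorem nxT_E8_6_1 : tabCheckRange chevE8 nxrt_E8_6 nxeta_E8_6 6 30 30 = true := by decide +kernel

set_option maxRecDepth 1000000 in
set_option maxHeartbeats 0 in
theorem nxT_E8_6_2 : tabCheckRange chevE8 nxrt_E8_6 nxeta_E8_6 6 60 30 = true := by decide +kernel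

set_option maxRecDepth 1000000 in
set_option maxHeartbeats 0 in
theorem nxT_E8_6_3 : tabCheckRange chevE8 nxrt_E8_6 nxeta_E8_6 6 90 30 = true := by decide +kernel

set_option maxRecDepth 1000000 in
set_option maxHeartbeats 0 in
theorem nxT_E8_6_4 : tabCheckRange chevE8 nxrt_E8_6 nxeta_E8_6 6 120 30 = true := by decide +kernel

set_option maxRecDepth 1000000 in
set_option maxHeartbeats 0 in
theorem nxT_E8_6_5 : tabCheckRange chevE8 nxrt_E8_6 nxeta_E8_6 6 150 30 = true := by decide +kernel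

set_option maxRecDepth 1000000 in
set_option maxHeartbeats 0 in
theorem nxT_E8_6_6 : tabCheckRange chevE8 nxrt_E8_6 nxeta_E8_6 6 180 30 = true := by decide +kernel

set_option maxRecDepth 1000000 in
set_option maxHeartbeats 0 in
theorem nxT_E8_6_7 : tabCheckRange chevE8 nxrt_E8_6 nxeta_E8_6 6 210 30 = true := by decide +kernel

theorem nxTab_E8_6 : NXTab chevE8 6 nxca_E8_6 nxrt_E8_6 nxeta_E8_6 := by
  apply nxTab_of_chunks chevE8 6 nxca_E8_6 nxrt_E8_6 nxeta_E8_6 (by decide +kernel) 30 8 (by decide +kernel) (by decide +kernel)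
  intro k hk
  interval_cases k
  · exact nxT_E8_6_0
  · exact nxT_E8_6_1
  · exact nxT_E8_6_2
  · exact nxT_E8_6_3
  · exact nxT_E8_6_4
  · exact nxT_E8_6_5
  · exact nxT_E8_6_6
  · exact nxT_E8_6_7

set_option maxRecDepth 1000000 in
set_option maxHeartbeats 0 in
theorem nxT_E8_7_0 : tabCheckRange chevE8 nxrt_E8_7 nxeta_E8_7 7 0 30 = true := by decide +kernel

set_option maxRecDepth 1000000 in
set_option maxHeartbeats 0 in
theorem nxT_E8_7_1 : tabCheckRange chevE8 nxrt_E8_7 nxeta_E8_7 7 30 30 = true := by decide +kernel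

set_option maxRecDepth 1000000 in
set_option maxHeartbeats 0 in
theorem nxT_E8_7_2 : tabCheckRange chevE8 nxrt_E8_7 nxeta_E8_7 7 60 30 = true := by decide +kernel

set_option maxRecDepth 1000000 in
set_option maxHeartbeats 0 in
theorem nxT_E8_7_3 : tabCheckRange chevE8 nxrt_E8_7 nxeta_E8_7 7 90 30 = true := by decide +kernel

set_option maxRecDepth 1000000 in
set_option maxHeartbeats 0 in
theorem nxT_E8_7_4 : tabCheckRange chevE8 nxrt_E8_7 nxeta_E8_7 7 120 30 = true := by decide +kernel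

set_option maxRecDepth 1000000 in
set_option maxHeartbeats 0 in
theorem nxT_E8_7_5 : tabCheckRange chevE8 nxrt_E8_7 nxeta_E8_7 7 150 30 = true := by decide +kernel

set_option maxRecDepth 1000000 in
set_option maxHeartbeats 0 in
theorem nxT_E8_7_6 : tabCheckRange chevE8 nxrt_E8_7 nxeta_E8_7 7 180 30 = true := by decide +kernel

set_option maxRecDepth 1000000 in
set_option maxHeartbeats 0 in
theorem nxT_E8_7_7 : tabCheckRange chevE8 nxrt_E8_7 nxeta_E8_7 7 210 30 = true := by decide +kernel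

theorem nxTab_E8_7 : NXTab chevE8 7 nxca_E8_7 nxrt_E8_7 nxeta_E8_7 := by
  apply nxTab_of_chunks chevE8 7 nxca_E8_7 nxrt_E8_7 nxeta_E8_7 (by decide +kernel) 30 8 (by decide +kernel) (by decide +kernel)
  intro k hk
  interval_cases k
  · exact nxT_E8_7_0
  · exact nxT_E8_7_1
  · exact nxT_E8_7_2
  · exact nxT_E8_7_3
  · exact nxT_E8_7_4
  · exact nxT_E8_7_5
  · exact nxT_E8_7_6
  · exact nxT_E8_7_7

end Cfsg.Agent.helper5.Chev
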