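import Mathlib
import Cfsg.Agent.Lib_helper5_ChevNXTabE8_0
import Cfsg.Agent.Lib_helper5_ChevNXTabE8_1
import Cfsg.Agent.Lib_helper5_ChevNXE8_00
import Cfsg.Agent.Lib_helper5_ChevNXE8_01
import Cfsg.Agent.Lib_helper5_ChevNXE8_02
import Cfsg.Agent.Lib_helper5_ChevNXE8_03
import Cfsg.Agent.Lib_helper5_ChevNXE8_04
import Cfsg.Agent.Lib_helper5_ChevNXE8_05
import Cfsg.Agent.Lib_helper5_ChevNXE8_06
import Cfsg.Agent.Lib_helper5_ChevNXE8_07
import Cfsg.Agent.Lib_helper5_ChevNXE8_08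
import Cfsg.Agent.Lib_helper5_ChevNXE8_09
import Cfsg.Agent.Lib_helper5_ChevNXE8_10
import Cfsg.Agent.Lib_helper5_ChevNXE8_11
import Cfsg.Agent.Lib_helper5_ChevNXE8_12
import Cfsg.Agent.Lib_helper5_ChevNXE8_13
import Cfsg.Agent.Lib_helper5_ChevNXE8_14
import Cfsg.Agent.Lib_helper5_ChevNXE8_15

set_option autoImplicit false

namespace Cfsg.Agent.helper5.Chev

open Cfsg.Lie

theorem nxAll_E8 : NXAll chevE8 := by
  intro i hi
  have hn : chevE8.rank = 8 := rfl
  rw [hn] at hi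
  interval_cases i
  · refine ⟨nxca_E8_0, nxrt_E8_0, nxeta_E8_0, nxTab_E8_0, ?_⟩
    apply nxCheckS_of_chunks chevE8 0 nxca_E8_0 nxrt_E8_0 nxeta_E8_0 4 60 (by decide +kernel) (by decide +kernel)
    intro k hk
    interval_cases k
    · exact nxC_E8_0_0
    · exact nxC_E8_0_1
    · exact nxC_E8_0_2
    · exact nxC_E8_0_3
    · exact nxC_E8_0_4
    · exact nxC_E8_0_5
    · exact nxC_E8_0_6
    · exact nxC_E8_0_7
    · exact nxC_E8_0_8
    · exact nxC_E8_0_9
    · exact nxC_E8_0_10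
    · exact nxC_E8_0_11
    · exact nxC_E8_0_12
    · exact nxC_E8_0_13
    · exact nxC_E8_0_14
    · exact nxC_E8_0_15
    · exact nxC_E8_0_16
    · exact nxC_E8_0_17
    · exact nxC_E8_0_18
    · exact nxC_E8_0_19
    · exact nxC_E8_0_20
    · exact nxC_E8_0_21
    · exact nxC_E8_0_22
    · exact nxC_E8_0_23
    · exact nxC_E8_0_24
    · exact nxC_E8_0_25
    · exact nxC_E8_0_26
    · exact nxC_E8_0_27
    · exact nxC_E8_0_28
    · exact nxC_E8_0_29
    · exact nxC_E8_0_30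
    · exact nxC_E8_0_31
    · exact nxC_E8_0_32
    · exact nxC_E8_0_33
    · exact nxC_E8_0_34
    · exact nxC_E8_0_35
    · exact nxC_E8_0_36
    · exact nxC_E8_0_37
    · exact nxC_E8_0_38
    · exact nxC_E8_0_39
    · exact nxC_E8_0_40
    · exact nxC_E8_0_41
    · exact nxC_E8_0_42
    · exact nxC_E8_0_43
    · exact nxC_E8_0_44
    · exact nxC_E8_0_45
    · exact nxC_E8_0_46
    · exact nxC_E8_0_47
    · exact nxC_E8_0_48
    · exact nxC_E8_0_49
    · exact nxC_E8_0_50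
    · exact nxC_E8_0_51
    · exact nxC_E8_0_52
    · exact nxC_E8_0_53
    · exact nxC_E8_0_54
    · exact nxC_E8_0_55
    · exact nxC_E8_0_56
    · exact nxC_E8_0_57
    · exact nxC_E8_0_58
    · exact nxC_E8_0_59
  · refine ⟨nxca_E8_1, nxrt_E8_1, nxeta_E8_1, nxTab_E8_1, ?_⟩
    apply nxCheckS_of_chunks chevE8 1 nxca_E8_1 nxrt_E8_1 nxeta_E8_1 4 60 (by decide +kernel) (by decide +kernel)
    intro k hk
    interval_cases k
    · exact nxC_E8_1_0
    · exact nxC_E8_1_1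
    · exact nxC_E8_1_2
    · exact nxC_E8_1_3
    · exact nxC_E8_1_4
    · exact nxC_E8_1_5
    · exact nxC_E8_1_6
    · exact nxC_E8_1_7
    · exact nxC_E8_1_8
    · exact nxC_E8_1_9
    · exact nxC_E8_1_10
    · exact nxC_E8_1_11
    · exact nxC_E8_1_12
    · exact nxC_E8_1_13
    · exact nxC_E8_1_14
    · exact nxC_E8_1_15
    · exact nxC_E8_1_16
    · exact nxC_E8_1_17
    · exact nxC_E8_1_18
    · exact nxC_E8_1_19
    · exact nxC_E8_1_20
    · exact nxC_E8_1_21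
    · exact nxC_E8_1_22
    · exact nxC_E8_1_23
    · exact nxC_E8_1_24
    · exact nxC_E8_1_25
    · exact nxC_E8_1_26
    · exact nxC_E8_1_27
    · exact nxC_E8_1_28
    · exact nxC_E8_1_29
    · exact nxC_E8_1_30
    · exact nxC_E8_1_31
    · exact nxC_E8_1_32
    · exact nxC_E8_1_33
    · exact nxC_E8_1_34
    · exact nxC_E8_1_35
    · exact nxC_E8_1_36
    · exact nxC_E8_1_37
    · exact nxC_E8_1_38
    · exact nxC_E8_1_39
    · exact nxC_E8_1_40
    · exact nxC_E8_1_41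
    · exact nxC_E8_1_42
    · exact nxC_E8_1_43
    · exact nxC_E8_1_44
    · exact nxC_E8_1_45
    · exact nxC_E8_1_46
    · exact nxC_E8_1_47
    · exact nxC_E8_1_48
    · exact nxC_E8_1_49
    · exact nxC_E8_1_50
    · exact nxC_E8_1_51
    · exact nxC_E8_1_52
    · exact nxC_E8_1_53
    · exact nxC_E8_1_54
    · exact nxC_E8_1_55
    · exact nxC_E8_1_56
    · exact nxC_E8_1_57
    · exact nxC_E8_1_58
    · exact nxC_E8_1_59
  · refine ⟨nxca_E8_2, nxrt_E8_2, nxeta_E8_2, nxTab_E8_2, ?_⟩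
    apply nxCheckS_of_chunks chevE8 2 nxca_E8_2 nxrt_E8_2 nxeta_E8_2 4 60 (by decide +kernel) (by decide +kernel)
    intro k hk
    interval_cases k
    · exact nxC_E8_2_0
    · exact nxC_E8_2_1
    · exact nxC_E8_2_2
    · exact nxC_E8_2_3
    · exact nxC_E8_2_4
    · exact nxC_E8_2_5
    · exact nxC_E8_2_6
    · exact nxC_E8_2_7
    · exact nxC_E8_2_8
    · exact nxC_E8_2_9
    · exact nxC_E8_2_10
    · exact nxC_E8_2_11
    · exact nxC_E8_2_12
    · exact nxC_E8_2_13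
    · exact nxC_E8_2_14
    · exact nxC_E8_2_15
    · exact nxC_E8_2_16
    · exact nxC_E8_2_17
    · exact nxC_E8_2_18
    · exact nxC_E8_2_19
    · exact nxC_E8_2_20
    · exact nxC_E8_2_21
    · exact nxC_E8_2_22
    · exact nxC_E8_2_23
    · exact nxC_E8_2_24
    · exact nxC_E8_2_25
    · exact nxC_E8_2_26
    · exact nxC_E8_2_27
    · exact nxC_E8_2_28
    · exact nxC_E8_2_29
    · exact nxC_E8_2_30
    · exact nxC_E8_2_31
    · exact nxC_E8_2_32
    · exact nxC_E8_2_33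
    · exact nxC_E8_2_34
    · exact nxC_E8_2_35
    · exact nxC_E8_2_36
    · exact nxC_E8_2_37
    · exact nxC_E8_2_38
    · exact nxC_E8_2_39
    · exact nxC_E8_2_40
    · exact nxC_E8_2_41
    · exact nxC_E8_2_42
    · exact nxC_E8_2_43
    · exact nxC_E8_2_44
    · exact nxC_E8_2_45
    · exact nxC_E8_2_46
    · exact nxC_E8_2_47
    · exact nxC_E8_2_48
    · exact nxC_E8_2_49
    · exact nxC_E8_2_50
    · exact nxC_E8_2_51
    · exact nxC_E8_2_52
    · exact nxC_E8_2_53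
    · exact nxC_E8_2_54
    · exact nxC_E8_2_55
    · exact nxC_E8_2_56
    · exact nxC_E8_2_57
    · exact nxC_E8_2_58
    · exact nxC_E8_2_59
  · refine ⟨nxca_E8_3, nxrt_E8_3, nxeta_E8_3, nxTab_E8_3, ?_⟩
    apply nxCheckS_of_chunks chevE8 3 nxca_E8_3 nxrt_E8_3 nxeta_E8_3 4 60 (by decide +kernel) (by decide +kernel)
    intro k hk
    interval_cases k
    · exact nxC_E8_3_0
    · exact nxC_E8_3_1
    · exact nxC_E8_3_2
    · exact nxC_E8_3_3
    · exact nxC_E8_3_4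
    · exact nxC_E8_3_5
    · exact nxC_E8_3_6
    · exact nxC_E8_3_7
    · exact nxC_E8_3_8
    · exact nxC_E8_3_9
    · exact nxC_E8_3_10
    · exact nxC_E8_3_11
    · exact nxC_E8_3_12
    · exact nxC_E8_3_13
    · exact nxC_E8_3_14
    · exact nxC_E8_3_15
    · exact nxC_E8_3_16
    · exact nxC_E8_3_17
    · exact nxC_E8_3_18
    · exact nxC_E8_3_19
    · exact nxC_E8_3_20
    · exact nxC_E8_3_21
    · exact nxC_E8_3_22
    · exact nxC_E8_3_23
    · exact nxC_E8_3_24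
    · exact nxC_E8_3_25
    · exact nxC_E8_3_26
    · exact nxC_E8_3_27
    · exact nxC_E8_3_28
    · exact nxC_E8_3_29
    · exact nxC_E8_3_30
    · exact nxC_E8_3_31
    · exact nxC_E8_3_32
    · exact nxC_E8_3_33
    · exact nxC_E8_3_34
    · exact nxC_E8_3_35
    · exact nxC_E8_3_36
    · exact nxC_E8_3_37
    · exact nxC_E8_3_38
    · exact nxC_E8_3_39
    · exact nxC_E8_3_40
    · exact nxC_E8_3_41
    · exact nxC_E8_3_42
    · exact nxC_E8_3_43
    · exact nxC_E8_3_44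
    · exact nxC_E8_3_45
    · exact nxC_E8_3_46
    · exact nxC_E8_3_47
    · exact nxC_E8_3_48
    · exact nxC_E8_3_49
    · exact nxC_E8_3_50
    · exact nxC_E8_3_51
    · exact nxC_E8_3_52
    · exact nxC_E8_3_53
    · exact nxC_E8_3_54
    · exact nxC_E8_3_55
    · exact nxC_E8_3_56
    · exact nxC_E8_3_57
    · exact nxC_E8_3_58
    · exact nxC_E8_3_59
  · refine ⟨nxca_E8_4, nxrt_E8_4, nxeta_E8_4, nxTab_E8_4, ?_⟩
    apply nxCheckS_of_chunks chevE8 4 nxca_E8_4 nxrt_E8_4 nxeta_E8_4 4 60 (by decide +kernel) (by decide +kernel)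
    intro k hk
    interval_cases k
    · exact nxC_E8_4_0
    · exact nxC_E8_4_1
    · exact nxC_E8_4_2
    · exact nxC_E8_4_3
    · exact nxC_E8_4_4
    · exact nxC_E8_4_5
    · exact nxC_E8_4_6
    · exact nxC_E8_4_7
    · exact nxC_E8_4_8
    · exact nxC_E8_4_9
    · exact nxC_E8_4_10
    · exact nxC_E8_4_11
    · exact nxC_E8_4_12
    · exact nxC_E8_4_13
    · exact nxC_E8_4_14
    · exact nxC_E8_4_15
    · exact nxC_E8_4_16
    · exact nxC_E8_4_17
    · exact nxC_E8_4_18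
    · exact nxC_E8_4_19
    · exact nxC_E8_4_20
    · exact nxC_E8_4_21
    · exact nxC_E8_4_22
    · exact nxC_E8_4_23
    · exact nxC_E8_4_24
    · exact nxC_E8_4_25
    · exact nxC_E8_4_26
    · exact nxC_E8_4_27
    · exact nxC_E8_4_28
    · exact nxC_E8_4_29
    · exact nxC_E8_4_30
    · exact nxC_E8_4_31
    · exact nxC_E8_4_32
    · exact nxC_E8_4_33
    · exact nxC_E8_4_34
    · exact nxC_E8_4_35
    · exact nxC_E8_4_36
    · exact nxC_E8_4_37
    · exact nxC_E8_4_38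
    · exact nxC_E8_4_39
    · exact nxC_E8_4_40
    · exact nxC_E8_4_41
    · exact nxC_E8_4_42
    · exact nxC_E8_4_43
    · exact nxC_E8_4_44
    · exact nxC_E8_4_45
    · exact nxC_E8_4_46
    · exact nxC_E8_4_47
    · exact nxC_E8_4_48
    · exact nxC_E8_4_49
    · exact nxC_E8_4_50
    · exact nxC_E8_4_51
    · exact nxC_E8_4_52
    · exact nxC_E8_4_53
    · exact nxC_E8_4_54
    · exact nxC_E8_4_55
    · exact nxC_E8_4_56
    · exact nxC_E8_4_57
    · exact nxC_E8_4_58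
    · exact nxC_E8_4_59
  · refine ⟨nxca_E8_5, nxrt_E8_5, nxeta_E8_5, nxTab_E8_5, ?_⟩
    apply nxCheckS_of_chunks chevE8 5 nxca_E8_5 nxrt_E8_5 nxeta_E8_5 4 60 (by decide +kernel) (by decide +kernel)
    intro k hk
    interval_cases k
    · exact nxC_E8_5_0
    · exact nxC_E8_5_1
    · exact nxC_E8_5_2
    · exact nxC_E8_5_3
    · exact nxC_E8_5_4
    · exact nxC_E8_5_5
    · exact nxC_E8_5_6
    · exact nxC_E8_5_7
    · exact nxC_E8_5_8
    · exact nxC_E8_5_9
    · exact nxC_E8_5_10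
    · exact nxC_E8_5_11
    · exact nxC_E8_5_12
    · exact nxC_E8_5_13
    · exact nxC_E8_5_14
    · exact nxC_E8_5_15
    · exact nxC_E8_5_16
    · exact nxC_E8_5_17
    · exact nxC_E8_5_18
    · exact nxC_E8_5_19
    · exact nxC_E8_5_20
    · exact nxC_E8_5_21
    · exact nxC_E8_5_22
    · exact nxC_E8_5_23
    · exact nxC_E8_5_24
    · exact nxC_E8_5_25
    · exact nxC_E8_5_26
    · exact nxC_E8_5_27
    · exact nxC_E8_5_28
    · exact nxC_E8_5_29
    · exact nxC_E8_5_30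
    · exact nxC_E8_5_31
    · exact nxC_E8_5_32
    · exact nxC_E8_5_33
    · exact nxC_E8_5_34
    · exact nxC_E8_5_35
    · exact nxC_E8_5_36
    · exact nxC_E8_5_37
    · exact nxC_E8_5_38
    · exact nxC_E8_5_39
    · exact nxC_E8_5_40
    · exact nxC_E8_5_41
    · exact nxC_E8_5_42
    · exact nxC_E8_5_43
    · exact nxC_E8_5_44
    · exact nxC_E8_5_45
    · exact nxC_E8_5_46
    · exact nxC_E8_5_47
    · exact nxC_E8_5_48
    · exact nxC_E8_5_49
    · exact nxC_E8_5_50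
    · exact nxC_E8_5_51
    · exact nxC_E8_5_52
    · exact nxC_E8_5_53
    · exact nxC_E8_5_54
    · exact nxC_E8_5_55
    · exact nxC_E8_5_56
    · exact nxC_E8_5_57
    · exact nxC_E8_5_58
    · exact nxC_E8_5_59
  · refine ⟨nxca_E8_6, nxrt_E8_6, nxeta_E8_6, nxTab_E8_6, ?_⟩
    apply nxCheckS_of_chunks chevE8 6 nxca_E8_6 nxrt_E8_6 nxeta_E8_6 4 60 (by decide +kernel) (by decide +kernel)
    intro k hk
    interval_cases k
    · exact nxC_E8_6_0
    · exact nxC_E8_6_1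
    · exact nxC_E8_6_2
    · exact nxC_E8_6_3
    · exact nxC_E8_6_4
    · exact nxC_E8_6_5
    · exact nxC_E8_6_6
    · exact nxC_E8_6_7
    · exact nxC_E8_6_8
    · exact nxC_E8_6_9
    · exact nxC_E8_6_10
    · exact nxC_E8_6_11
    · exact nxC_E8_6_12
    · exact nxC_E8_6_13
    · exact nxC_E8_6_14
    · exact nxC_E8_6_15
    · exact nxC_E8_6_16
    · exact nxC_E8_6_17
    · exact nxC_E8_6_18
    · exact nxC_E8_6_19
    · exact nxC_E8_6_20
    · exact nxC_E8_6_21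
    · exact nxC_E8_6_22
    · exact nxC_E8_6_23
    · exact nxC_E8_6_24
    · exact nxC_E8_6_25
    · exact nxC_E8_6_26
    · exact nxC_E8_6_27
    · exact nxC_E8_6_28
    · exact nxC_E8_6_29
    · exact nxC_E8_6_30
    · exact nxC_E8_6_31
    · exact nxC_E8_6_32
    · exact nxC_E8_6_33
    · exact nxC_E8_6_34
    · exact nxC_E8_6_35
    · exact nxC_E8_6_36
    · exact nxC_E8_6_37
    · exact nxC_E8_6_38
    · exact nxC_E8_6_39
    · exact nxC_E8_6_40
    · exact nxC_E8_6_41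
    · exact nxC_E8_6_42
    · exact nxC_E8_6_43
    · exact nxC_E8_6_44
    · exact nxC_E8_6_45
    · exact nxC_E8_6_46
    · exact nxC_E8_6_47
    · exact nxC_E8_6_48
    · exact nxC_E8_6_49
    · exact nxC_E8_6_50
    · exact nxC_E8_6_51
    · exact nxC_E8_6_52
    · exact nxC_E8_6_53
    · exact nxC_E8_6_54
    · exact nxC_E8_6_55
    · exact nxC_E8_6_56
    · exact nxC_E8_6_57
    · exact nxC_E8_6_58
    · exact nxC_E8_6_59
  · refine ⟨nxca_E8_7, nxrt_E8_7, nxeta_E8_7, nxTab_E8_7, ?_⟩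
    apply nxCheckS_of_chunks chevE8 7 nxca_E8_7 nxrt_E8_7 nxeta_E8_7 4 60 (by decide +kernel) (by decide +kernel)
    intro k hk
    interval_cases k
    · exact nxC_E8_7_0
    · exact nxC_E8_7_1
    · exact nxC_E8_7_2
    · exact nxC_E8_7_3
    · exact nxC_E8_7_4
    · exact nxC_E8_7_5
    · exact nxC_E8_7_6
    · exact nxC_E8_7_7
    · exact nxC_E8_7_8
    · exact nxC_E8_7_9
    · exact nxC_E8_7_10
    · exact nxC_E8_7_11
    · exact nxC_E8_7_12
    · exact nxC_E8_7_13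
    · exact nxC_E8_7_14
    · exact nxC_E8_7_15
    · exact nxC_E8_7_16
    · exact nxC_E8_7_17
    · exact nxC_E8_7_18
    · exact nxC_E8_7_19
    · exact nxC_E8_7_20
    · exact nxC_E8_7_21
    · exact nxC_E8_7_22
    · exact nxC_E8_7_23
    · exact nxC_E8_7_24
    · exact nxC_E8_7_25
    · exact nxC_E8_7_26
    · exact nxC_E8_7_27
    · exact nxC_E8_7_28
    · exact nxC_E8_7_29
    · exact nxC_E8_7_30
    · exact nxC_E8_7_31
    · exact nxC_E8_7_32
    · exact nxC_E8_7_33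
    · exact nxC_E8_7_34
    · exact nxC_E8_7_35
    · exact nxC_E8_7_36
    · exact nxC_E8_7_37
    · exact nxC_E8_7_38
    · exact nxC_E8_7_39
    · exact nxC_E8_7_40
    · exact nxC_E8_7_41
    · exact nxC_E8_7_42
    · exact nxC_E8_7_43
    · exact nxC_E8_7_44
    · exact nxC_E8_7_45
    · exact nxC_E8_7_46
    · exact nxC_E8_7_47
    · exact nxC_E8_7_48
    · exact nxC_E8_7_49
    · exact nxC_E8_7_50
    · exact nxC_E8_7_51
    · exact nxC_E8_7_52
    · exact nxC_E8_7_53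
    · exact nxC_E8_7_54
    · exact nxC_E8_7_55
    · exact nxC_E8_7_56
    · exact nxC_E8_7_57
    · exact nxC_E8_7_58
    · exact nxC_E8_7_59

end Cfsg.Agent.helper5.Chev
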