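import Mathlib
import Cfsg.Agent.Lib_helper5_ChevNXDefsF4

set_option autoImplicit false

namespace Cfsg.Agent.helper5.Chev

open Cfsg.Lie

set_option maxRecDepth 1000000 in
set_option maxHeartbeats 0 in
theorem nxC_F4_0_0 : nxCheckRange chevF4 nxca_F4_0 nxrt_F4_0 nxeta_F4_0 0 0 16 = true := by decide +kernel

set_option maxRecDepth 1000000 in
set_option maxHeartbeats 0 in
theorem nxC_F4_0_1 : nxCheckRange chevF4 nxca_F4_0 nxrt_F4_0 nxeta_F4_0 0 16 16 = true := by decide +kernel

set_option maxRecDepth 1000000 in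
set_option maxHeartbeats 0 in
theorem nxC_F4_0_2 : nxCheckRange chevF4 nxca_F4_0 nxrt_F4_0 nxeta_F4_0 0 32 16 = true := by decide +kernel

set_option maxRecDepth 1000000 in
set_option maxHeartbeats 0 in
theorem nxC_F4_1_0 : nxCheckRange chevF4 nxca_F4_1 nxrt_F4_1 nxeta_F4_1 1 0 16 = true := by decide +kernel

set_option maxRecDepth 1000000 in
set_option maxHeartbeats 0 in
theorem nxC_F4_1_1 : nxCheckRange chevF4 nxca_F4_1 nxrt_F4_1 nxeta_F4_1 1 16 16 = true := by decide +kernel

set_option maxRecDepth 1000000 in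
set_option maxHeartbeats 0 in
theorem nxC_F4_1_2 : nxCheckRange chevF4 nxca_F4_1 nxrt_F4_1 nxeta_F4_1 1 32 16 = true := by decide +kernel

set_option maxRecDepth 1000000 in
set_option maxHeartbeats 0 in
theorem nxC_F4_2_0 : nxCheckRange chevF4 nxca_F4_2 nxrt_F4_2 nxeta_F4_2 2 0 16 = true := by decide +kernel

set_option maxRecDepth 1000000 in
set_option maxHeartbeats 0 in
theorem nxC_F4_2_1 : nxCheckRange chevF4 nxca_F4_2 nxrt_F4_2 nxeta_F4_2 2 16 16 = true := by decide +kernel

set_option maxRecDepth 1000000 in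
set_option maxHeartbeats 0 in
theorem nxC_F4_2_2 : nxCheckRange chevF4 nxca_F4_2 nxrt_F4_2 nxeta_F4_2 2 32 16 = true := by decide +kernel

set_option maxRecDepth 1000000 in
set_option maxHeartbeats 0 in
theorem nxC_F4_3_0 : nxCheckRange chevF4 nxca_F4_3 nxrt_F4_3 nxeta_F4_3 3 0 16 = true := by decide +kernel

set_option maxRecDepth 1000000 in
set_option maxHeartbeats 0 in
theorem nxC_F4_3_1 : nxCheckRange chevF4 nxca_F4_3 nxrt_F4_3 nxeta_F4_3 3 16 16 = true := by decide +kernel

set_option maxRecDepth 1000000 in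
set_option maxHeartbeats 0 in
theorem nxC_F4_3_2 : nxCheckRange chevF4 nxca_F4_3 nxrt_F4_3 nxeta_F4_3 3 32 16 = true := by decide +kernel

end Cfsg.Agent.helper5.Chev
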