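import Mathlib
import Cfsg.Agent.Lib_helper5_ChevNXDefsF4

set_option autoImplicit false

namespace Cfsg.Agent.helper5.Chev

open Cfsg.Lie

set_option maxRecDepth 1000000 in
set_option maxHeartbeats 0 in
theorem nxT_F4_0_0 : tabCheckRange chevF4 nxrt_F4_0 nxeta_F4_0 0 0 48 = true := by decide +kernel

theorem nxTab_F4_0 : NXTab chevF4 0 nxca_F4_0 nxrt_F4_0 nxeta_F4_0 := by
  apply nxTab_of_chunks chevF4 0 nxca_F4_0 nxrt_F4_0 nxeta_F4_0 (by decide +kernel) 48 1 (by decide +kernel) (by decide +kernel)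
  intro k hk
  interval_cases k
  · exact nxT_F4_0_0

set_option maxRecDepth 1000000 in
set_option maxHeartbeats 0 in
theorem nxT_F4_1_0 : tabCheckRange chevF4 nxrt_F4_1 nxeta_F4_1 1 0 48 = true := by decide +kernel

theorem nxTab_F4_1 : NXTab chevF4 1 nxca_F4_1 nxrt_F4_1 nxeta_F4_1 := by
  apply nxTab_of_chunks chevF4 1 nxca_F4_1 nxrt_F4_1 nxeta_F4_1 (by decide +kernel) 48 1 (by decide +kernel) (by decide +kernel)
  intro k hk
  interval_cases k
  · exact nxT_F4_1_0

set_option maxRecDepth 1000000 in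
set_option maxHeartbeats 0 in
theorem nxT_F4_2_0 : tabCheckRange chevF4 nxrt_F4_2 nxeta_F4_2 2 0 48 = true := by decide +kernel

theorem nxTab_F4_2 : NXTab chevF4 2 nxca_F4_2 nxrt_F4_2 nxeta_F4_2 := by
  apply nxTab_of_chunks chevF4 2 nxca_F4_2 nxrt_F4_2 nxeta_F4_2 (by decide +kernel) 48 1 (by decide +kernel) (by decide +kernel)
  intro k hk
  interval_cases k
  · exact nxT_F4_2_0

set_option maxRecDepth 1000000 in
set_option maxHeartbeats 0 in
theorem nxT_F4_3_0 : tabCheckRange chevF4 nxrt_F4_3 nxeta_F4_3 3 0 48 = true := by decide +kernel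

theorem nxTab_F4_3 : NXTab chevF4 3 nxca_F4_3 nxrt_F4_3 nxeta_F4_3 := by
  apply nxTab_of_chunks chevF4 3 nxca_F4_3 nxrt_F4_3 nxeta_F4_3 (by decide +kernel) 48 1 (by decide +kernel) (by decide +kernel)
  intro k hk
  interval_cases k
  · exact nxT_F4_3_0

end Cfsg.Agent.helper5.Chev
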