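import Mathlib
import Cfsg.Agent.Lib_helper5_ChevNXTabF4_0
import Cfsg.Agent.Lib_helper5_ChevNXF4_00

set_option autoImplicit false

namespace Cfsg.Agent.helper5.Chev

open Cfsg.Lie

theorem nxAll_F4 : NXAll chevF4 := by
  intro i hi
  have hn : chevF4.rank = 4 := rfl
  rw [hn] at hi
  interval_cases i
  · refine ⟨nxca_F4_0, nxrt_F4_0, nxeta_F4_0, nxTab_F4_0, ?_⟩
    apply nxCheckS_of_chunks chevF4 0 nxca_F4_0 nxrt_F4_0 nxeta_F4_0 16 3 (by decide +kernel) (by decide +kernel)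
    intro k hk
    interval_cases k
    · exact nxC_F4_0_0
    · exact nxC_F4_0_1
    · exact nxC_F4_0_2
  · refine ⟨nxca_F4_1, nxrt_F4_1, nxeta_F4_1, nxTab_F4_1, ?_⟩
    apply nxCheckS_of_chunks chevF4 1 nxca_F4_1 nxrt_F4_1 nxeta_F4_1 16 3 (by decide +kernel) (by decide +kernel)
    intro k hk
    interval_cases k
    · exact nxC_F4_1_0
    · exact nxC_F4_1_1
    · exact nxC_F4_1_2
  · refine ⟨nxca_F4_2, nxrt_F4_2, nxeta_F4_2, nxTab_F4_2, ?_⟩
    apply nxCheckS_of_chunks chevF4 2 nxca_F4_2 nxrt_F4_2 nxeta_F4_2 16 3 (by decide +kernel) (by decide +kernel)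
    intro k hk
    interval_cases k
    · exact nxC_F4_2_0
    · exact nxC_F4_2_1
    · exact nxC_F4_2_2
  · refine ⟨nxca_F4_3, nxrt_F4_3, nxeta_F4_3, nxTab_F4_3, ?_⟩
    apply nxCheckS_of_chunks chevF4 3 nxca_F4_3 nxrt_F4_3 nxeta_F4_3 16 3 (by decide +kernel) (by decide +kernel)
    intro k hk
    interval_cases k
    · exact nxC_F4_3_0
    · exact nxC_F4_3_1
    · exact nxC_F4_3_2

end Cfsg.Agent.helper5.Chev
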