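import Mathlib
import Cfsg.Agent.Lib_helper5_ChevNX
import Cfsg.Prelude.Def_ChevG2

set_option autoImplicit false

namespace Cfsg.Agent.helper5.Chev

open Cfsg.Lie

def nxca_G2_0 : List ℤ := [2, -1]
def nxrt_G2_0 : List ℕ := [0, 5, 3, 2, 7, 1, 10, 4, 9, 8, 6, 11]
def nxeta_G2_0 : List ℤ := [1, -1, -1, 1, -1, 1, 1, -1, 1, -1, -1, 1]

def nxca_G2_1 : List ℤ := [-3, 2]
def nxrt_G2_1 : List ℕ := [1, 0, 2, 4, 3, 6, 5, 8, 7, 9, 11, 10]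
def nxeta_G2_1 : List ℤ := [-1, 1, 1, -1, 1, -1, -1, 1, -1, 1, 1, -1]

end Cfsg.Agent.helper5.Chev
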