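import Mathlib
import Cfsg.Agent.Lib_helper5_ChevNXDefsG2

set_option autoImplicit false

namespace Cfsg.Agent.helper5.Chev

open Cfsg.Lie

set_option maxRecDepth 1000000 in
set_option maxHeartbeats 0 in
theorem nxT_G2_0_0 : tabCheckRange chevG2 nxrt_G2_0 nxeta_G2_0 0 0 12 = true := by decide +kernel

theorem nxTab_G2_0 : NXTab chevG2 0 nxca_G2_0 nxrt_G2_0 nxeta_G2_0 := by
  apply nxTab_of_chunks chevG2 0 nxca_G2_0 nxrt_G2_0 nxeta_G2_0 (by decide +kernel) 12 1 (by decide +kernel) (by decide +kernel)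
  intro k hk
  interval_cases k
  · exact nxT_G2_0_0

set_option maxRecDepth 1000000 in
set_option maxHeartbeats 0 in
theorem nxT_G2_1_0 : tabCheckRange chevG2 nxrt_G2_1 nxeta_G2_1 1 0 12 = true := by decide +kernel

theorem nxTab_G2_1 : NXTab chevG2 1 nxca_G2_1 nxrt_G2_1 nxeta_G2_1 := by
  apply nxTab_of_chunks chevG2 1 nxca_G2_1 nxrt_G2_1 nxeta_G2_1 (by decide +kernel) 12 1 (by decide +kernel) (by decide +kernel)
  intro k hk
  interval_cases k
  · exact nxT_G2_1_0

end Cfsg.Agent.helper5.Chev
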