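import Mathlib
import Cfsg.Agent.Lib_helper5_ChevNXTabG2_0
import Cfsg.Agent.Lib_helper5_ChevNXG2_00

set_option autoImplicit false

namespace Cfsg.Agent.helper5.Chev

open Cfsg.Lie

theorem nxAll_G2 : NXAll chevG2 := by
  intro i hi
  have hn : chevG2.rank = 2 := rfl
  rw [hn] at hi
  interval_cases i
  · refine ⟨nxca_G2_0, nxrt_G2_0, nxeta_G2_0, nxTab_G2_0, ?_⟩
    apply nxCheckS_of_chunks chevG2 0 nxca_G2_0 nxrt_G2_0 nxeta_G2_0 12 1 (by decide +kernel) (by decide +kernel)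
    intro k hk
    interval_cases k
    · exact nxC_G2_0_0
  · refine ⟨nxca_G2_1, nxrt_G2_1, nxeta_G2_1, nxTab_G2_1, ?_⟩
    apply nxCheckS_of_chunks chevG2 1 nxca_G2_1 nxrt_G2_1 nxeta_G2_1 12 1 (by decide +kernel) (by decide +kernel)
    intro k hk
    interval_cases k
    · exact nxC_G2_1_0

end Cfsg.Agent.helper5.Chev
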