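import Mathlib
import Cfsg.Agent.Lib_helper5_ChevN
import Cfsg.Prelude.Def_ChevE7

set_option autoImplicit false

namespace Cfsg.Agent.helper5.Chev

open Cfsg.Lie

set_option maxRecDepth 1000000 in
set_option maxHeartbeats 0 in
theorem nC_E7_0_0 : nCheckCols chevE7 0 0 67 = true := by decide +kernel

set_option maxRecDepth 1000000 in
set_option maxHeartbeats 0 in
theorem nC_E7_0_1 : nCheckCols chevE7 0 67 67 = true := by decide +kernel

set_option maxRecDepth 1000000 in
set_option maxHeartbeats 0 in
theorem nE_E7_0_0 : etaCheckRange chevE7 0 0 63 = true := by decide +kernel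

set_option maxRecDepth 1000000 in
set_option maxHeartbeats 0 in
theorem nE_E7_0_1 : etaCheckRange chevE7 0 63 63 = true := by decide +kernel

set_option maxRecDepth 1000000 in
set_option maxHeartbeats 0 in
theorem nP_E7_0 : etaCheckP chevE7 0 = true := by decide +kernel

theorem nCheck_E7_0 : NCheck chevE7 0 := by
  apply nCheck_of_chunks chevE7 0 67 2 63 2 (by decide +kernel) (by decide +kernel) ?_
    (by decide +kernel) (by decide +kernel) ?_ nP_E7_0
  · intro k hk
    interval_cases k
    · exact nC_E7_0_0
    · exact nC_E7_0_1
  · intro k hk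
    interval_cases k
    · exact nE_E7_0_0
    · exact nE_E7_0_1

set_option maxRecDepth 1000000 in
set_option maxHeartbeats 0 in
theorem nC_E7_1_0 : nCheckCols chevE7 1 0 67 = true := by decide +kernel

set_option maxRecDepth 1000000 in
set_option maxHeartbeats 0 in
theorem nC_E7_1_1 : nCheckCols chevE7 1 67 67 = true := by decide +kernel

set_option maxRecDepth 1000000 in
set_option maxHeartbeats 0 in
theorem nE_E7_1_0 : etaCheckRange chevE7 1 0 63 = true := by decide +kernel

set_option maxRecDepth 1000000 in
set_option maxHeartbeats 0 in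
theorem nE_E7_1_1 : etaCheckRange chevE7 1 63 63 = true := by decide +kernel

set_option maxRecDepth 1000000 in
set_option maxHeartbeats 0 in
theorem nP_E7_1 : etaCheckP chevE7 1 = true := by decide +kernel

theorem nCheck_E7_1 : NCheck chevE7 1 := by
  apply nCheck_of_chunks chevE7 1 67 2 63 2 (by decide +kernel) (by decide +kernel) ?_
    (by decide +kernel) (by decide +kernel) ?_ nP_E7_1
  · intro k hk
    interval_cases k
    · exact nC_E7_1_0
    · exact nC_E7_1_1
  · intro k hk
    interval_cases k
    · exact nE_E7_1_0
    · exact nE_E7_1_1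

set_option maxRecDepth 1000000 in
set_option maxHeartbeats 0 in
theorem nC_E7_2_0 : nCheckCols chevE7 2 0 67 = true := by decide +kernel

set_option maxRecDepth 1000000 in
set_option maxHeartbeats 0 in
theorem nC_E7_2_1 : nCheckCols chevE7 2 67 67 = true := by decide +kernel

set_option maxRecDepth 1000000 in
set_option maxHeartbeats 0 in
theorem nE_E7_2_0 : etaCheckRange chevE7 2 0 63 = true := by decide +kernel

set_option maxRecDepth 1000000 in
set_option maxHeartbeats 0 in
theorem nE_E7_2_1 : etaCheckRange chevE7 2 63 63 = true := by decide +kernel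

set_option maxRecDepth 1000000 in
set_option maxHeartbeats 0 in
theorem nP_E7_2 : etaCheckP chevE7 2 = true := by decide +kernel

theorem nCheck_E7_2 : NCheck chevE7 2 := by
  apply nCheck_of_chunks chevE7 2 67 2 63 2 (by decide +kernel) (by decide +kernel) ?_
    (by decide +kernel) (by decide +kernel) ?_ nP_E7_2
  · intro k hk
    interval_cases k
    · exact nC_E7_2_0
    · exact nC_E7_2_1
  · intro k hk
    interval_cases k
    · exact nE_E7_2_0
    · exact nE_E7_2_1

set_option maxRecDepth 1000000 in
set_option maxHeartbeats 0 in
theorem nC_E7_3_0 : nCheckCols chevE7 3 0 67 = true := by decide +kernel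

set_option maxRecDepth 1000000 in
set_option maxHeartbeats 0 in
theorem nC_E7_3_1 : nCheckCols chevE7 3 67 67 = true := by decide +kernel

set_option maxRecDepth 1000000 in
set_option maxHeartbeats 0 in
theorem nE_E7_3_0 : etaCheckRange chevE7 3 0 63 = true := by decide +kernel

set_option maxRecDepth 1000000 in
set_option maxHeartbeats 0 in
theorem nE_E7_3_1 : etaCheckRange chevE7 3 63 63 = true := by decide +kernel

set_option maxRecDepth 1000000 in
set_option maxHeartbeats 0 in
theorem nP_E7_3 : etaCheckP chevE7 3 = true := by decide +kernel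

theorem nCheck_E7_3 : NCheck chevE7 3 := by
  apply nCheck_of_chunks chevE7 3 67 2 63 2 (by decide +kernel) (by decide +kernel) ?_
    (by decide +kernel) (by decide +kernel) ?_ nP_E7_3
  · intro k hk
    interval_cases k
    · exact nC_E7_3_0
    · exact nC_E7_3_1
  · intro k hk
    interval_cases k
    · exact nE_E7_3_0
    · exact nE_E7_3_1

set_option maxRecDepth 1000000 in
set_option maxHeartbeats 0 in
theorem nC_E7_4_0 : nCheckCols chevE7 4 0 67 = true := by decide +kernel

set_option maxRecDepth 1000000 in
set_option maxHeartbeats 0 in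
theorem nC_E7_4_1 : nCheckCols chevE7 4 67 67 = true := by decide +kernel

set_option maxRecDepth 1000000 in
set_option maxHeartbeats 0 in
theorem nE_E7_4_0 : etaCheckRange chevE7 4 0 63 = true := by decide +kernel

set_option maxRecDepth 1000000 in
set_option maxHeartbeats 0 in
theorem nE_E7_4_1 : etaCheckRange chevE7 4 63 63 = true := by decide +kernel

set_option maxRecDepth 1000000 in
set_option maxHeartbeats 0 in
theorem nP_E7_4 : etaCheckP chevE7 4 = true := by decide +kernel

theorem nCheck_E7_4 : NCheck chevE7 4 := by
  apply nCheck_of_chunks chevE7 4 67 2 63 2 (by decide +kernel) (by decide +kernel) ?_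
    (by decide +kernel) (by decide +kernel) ?_ nP_E7_4
  · intro k hk
    interval_cases k
    · exact nC_E7_4_0
    · exact nC_E7_4_1
  · intro k hk
    interval_cases k
    · exact nE_E7_4_0
    · exact nE_E7_4_1

set_option maxRecDepth 1000000 in
set_option maxHeartbeats 0 in
theorem nC_E7_5_0 : nCheckCols chevE7 5 0 67 = true := by decide +kernel

set_option maxRecDepth 1000000 in
set_option maxHeartbeats 0 in
theorem nC_E7_5_1 : nCheckCols chevE7 5 67 67 = true := by decide +kernel

set_option maxRecDepth 1000000 in
set_option maxHeartbeats 0 in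
theorem nE_E7_5_0 : etaCheckRange chevE7 5 0 63 = true := by decide +kernel

set_option maxRecDepth 1000000 in
set_option maxHeartbeats 0 in
theorem nE_E7_5_1 : etaCheckRange chevE7 5 63 63 = true := by decide +kernel

set_option maxRecDepth 1000000 in
set_option maxHeartbeats 0 in
theorem nP_E7_5 : etaCheckP chevE7 5 = true := by decide +kernel

theorem nCheck_E7_5 : NCheck chevE7 5 := by
  apply nCheck_of_chunks chevE7 5 67 2 63 2 (by decide +kernel) (by decide +kernel) ?_
    (by decide +kernel) (by decide +kernel) ?_ nP_E7_5
  · intro k hk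
    interval_cases k
    · exact nC_E7_5_0
    · exact nC_E7_5_1
  · intro k hk
    interval_cases k
    · exact nE_E7_5_0
    · exact nE_E7_5_1

set_option maxRecDepth 1000000 in
set_option maxHeartbeats 0 in
theorem nC_E7_6_0 : nCheckCols chevE7 6 0 67 = true := by decide +kernel

set_option maxRecDepth 1000000 in
set_option maxHeartbeats 0 in
theorem nC_E7_6_1 : nCheckCols chevE7 6 67 67 = true := by decide +kernel

set_option maxRecDepth 1000000 in
set_option maxHeartbeats 0 in
theorem nE_E7_6_0 : etaCheckRange chevE7 6 0 63 = true := by decide +kernel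

set_option maxRecDepth 1000000 in
set_option maxHeartbeats 0 in
theorem nE_E7_6_1 : etaCheckRange chevE7 6 63 63 = true := by decide +kernel

set_option maxRecDepth 1000000 in
set_option maxHeartbeats 0 in
theorem nP_E7_6 : etaCheckP chevE7 6 = true := by decide +kernel

theorem nCheck_E7_6 : NCheck chevE7 6 := by
  apply nCheck_of_chunks chevE7 6 67 2 63 2 (by decide +kernel) (by decide +kernel) ?_
    (by decide +kernel) (by decide +kernel) ?_ nP_E7_6
  · intro k hk
    interval_cases k
    · exact nC_E7_6_0
    · exact nC_E7_6_1
  · intro k hk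
    interval_cases k
    · exact nE_E7_6_0
    · exact nE_E7_6_1

theorem nCheck_E7 : ∀ i < chevE7.rank, NCheck chevE7 i := by
  intro i hi
  have hn : chevE7.rank = 7 := rfl
  rw [hn] at hi
  interval_cases i
  · exact nCheck_E7_0
  · exact nCheck_E7_1
  · exact nCheck_E7_2
  · exact nCheck_E7_3
  · exact nCheck_E7_4
  · exact nCheck_E7_5
  · exact nCheck_E7_6

end Cfsg.Agent.helper5.Chev
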