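import Mathlib
import Cfsg.Agent.Lib_helper5_ChevN
import Cfsg.Prelude.Def_ChevE8

set_option autoImplicit false

namespace Cfsg.Agent.helper5.Chev

open Cfsg.Lie

set_option maxRecDepth 1000000 in
set_option maxHeartbeats 0 in
theorem nC_E8_0_0 : nCheckCols chevE8 0 0 62 = true := by decide +kernel

set_option maxRecDepth 1000000 in
set_option maxHeartbeats 0 in
theorem nC_E8_0_1 : nCheckCols chevE8 0 62 62 = true := by decide +kernel

set_option maxRecDepth 1000000 in
set_option maxHeartbeats 0 in
theorem nC_E8_0_2 : nCheckCols chevE8 0 124 62 = true := by decide +kernel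

set_option maxRecDepth 1000000 in
set_option maxHeartbeats 0 in
theorem nC_E8_0_3 : nCheckCols chevE8 0 186 62 = true := by decide +kernel

set_option maxRecDepth 1000000 in
set_option maxHeartbeats 0 in
theorem nE_E8_0_0 : etaCheckRange chevE8 0 0 60 = true := by decide +kernel

set_option maxRecDepth 1000000 in
set_option maxHeartbeats 0 in
theorem nE_E8_0_1 : etaCheckRange chevE8 0 60 60 = true := by decide +kernel

set_option maxRecDepth 1000000 in
set_option maxHeartbeats 0 in
theorem nE_E8_0_2 : etaCheckRange chevE8 0 120 60 = true := by decide +kernel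

set_option maxRecDepth 1000000 in
set_option maxHeartbeats 0 in
theorem nE_E8_0_3 : etaCheckRange chevE8 0 180 60 = true := by decide +kernel

set_option maxRecDepth 1000000 in
set_option maxHeartbeats 0 in
theorem nP_E8_0 : etaCheckP chevE8 0 = true := by decide +kernel

theorem nCheck_E8_0 : NCheck chevE8 0 := by
  apply nCheck_of_chunks chevE8 0 62 4 60 4 (by decide +kernel) (by decide +kernel) ?_
    (by decide +kernel) (by decide +kernel) ?_ nP_E8_0
  · intro k hk
    interval_cases k
    · exact nC_E8_0_0
    · exact nC_E8_0_1
    · exact nC_E8_0_2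
    · exact nC_E8_0_3
  · intro k hk
    interval_cases k
    · exact nE_E8_0_0
    · exact nE_E8_0_1
    · exact nE_E8_0_2
    · exact nE_E8_0_3

set_option maxRecDepth 1000000 in
set_option maxHeartbeats 0 in
theorem nC_E8_1_0 : nCheckCols chevE8 1 0 62 = true := by decide +kernel

set_option maxRecDepth 1000000 in
set_option maxHeartbeats 0 in
theorem nC_E8_1_1 : nCheckCols chevE8 1 62 62 = true := by decide +kernel

set_option maxRecDepth 1000000 in
set_option maxHeartbeats 0 in
theorem nC_E8_1_2 : nCheckCols chevE8 1 124 62 = true := by decide +kernel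

set_option maxRecDepth 1000000 in
set_option maxHeartbeats 0 in
theorem nC_E8_1_3 : nCheckCols chevE8 1 186 62 = true := by decide +kernel

set_option maxRecDepth 1000000 in
set_option maxHeartbeats 0 in
theorem nE_E8_1_0 : etaCheckRange chevE8 1 0 60 = true := by decide +kernel

set_option maxRecDepth 1000000 in
set_option maxHeartbeats 0 in
theorem nE_E8_1_1 : etaCheckRange chevE8 1 60 60 = true := by decide +kernel

set_option maxRecDepth 1000000 in
set_option maxHeartbeats 0 in
theorem nE_E8_1_2 : etaCheckRange chevE8 1 120 60 = true := by decide +kernel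

set_option maxRecDepth 1000000 in
set_option maxHeartbeats 0 in
theorem nE_E8_1_3 : etaCheckRange chevE8 1 180 60 = true := by decide +kernel

set_option maxRecDepth 1000000 in
set_option maxHeartbeats 0 in
theorem nP_E8_1 : etaCheckP chevE8 1 = true := by decide +kernel

theorem nCheck_E8_1 : NCheck chevE8 1 := by
  apply nCheck_of_chunks chevE8 1 62 4 60 4 (by decide +kernel) (by decide +kernel) ?_
    (by decide +kernel) (by decide +kernel) ?_ nP_E8_1
  · intro k hk
    interval_cases k
    · exact nC_E8_1_0
    · exact nC_E8_1_1
    · exact nC_E8_1_2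
    · exact nC_E8_1_3
  · intro k hk
    interval_cases k
    · exact nE_E8_1_0
    · exact nE_E8_1_1
    · exact nE_E8_1_2
    · exact nE_E8_1_3

set_option maxRecDepth 1000000 in
set_option maxHeartbeats 0 in
theorem nC_E8_2_0 : nCheckCols chevE8 2 0 62 = true := by decide +kernel

set_option maxRecDepth 1000000 in
set_option maxHeartbeats 0 in
theorem nC_E8_2_1 : nCheckCols chevE8 2 62 62 = true := by decide +kernel

set_option maxRecDepth 1000000 in
set_option maxHeartbeats 0 in
theorem nC_E8_2_2 : nCheckCols chevE8 2 124 62 = true := by decide +kernel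

set_option maxRecDepth 1000000 in
set_option maxHeartbeats 0 in
theorem nC_E8_2_3 : nCheckCols chevE8 2 186 62 = true := by decide +kernel

set_option maxRecDepth 1000000 in
set_option maxHeartbeats 0 in
theorem nE_E8_2_0 : etaCheckRange chevE8 2 0 60 = true := by decide +kernel

set_option maxRecDepth 1000000 in
set_option maxHeartbeats 0 in
theorem nE_E8_2_1 : etaCheckRange chevE8 2 60 60 = true := by decide +kernel

set_option maxRecDepth 1000000 in
set_option maxHeartbeats 0 in
theorem nE_E8_2_2 : etaCheckRange chevE8 2 120 60 = true := by decide +kernel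

set_option maxRecDepth 1000000 in
set_option maxHeartbeats 0 in
theorem nE_E8_2_3 : etaCheckRange chevE8 2 180 60 = true := by decide +kernel

set_option maxRecDepth 1000000 in
set_option maxHeartbeats 0 in
theorem nP_E8_2 : etaCheckP chevE8 2 = true := by decide +kernel

theorem nCheck_E8_2 : NCheck chevE8 2 := by
  apply nCheck_of_chunks chevE8 2 62 4 60 4 (by decide +kernel) (by decide +kernel) ?_
    (by decide +kernel) (by decide +kernel) ?_ nP_E8_2
  · intro k hk
    interval_cases k
    · exact nC_E8_2_0
    · exact nC_E8_2_1
    · exact nC_E8_2_2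
    · exact nC_E8_2_3
  · intro k hk
    interval_cases k
    · exact nE_E8_2_0
    · exact nE_E8_2_1
    · exact nE_E8_2_2
    · exact nE_E8_2_3

set_option maxRecDepth 1000000 in
set_option maxHeartbeats 0 in
theorem nC_E8_3_0 : nCheckCols chevE8 3 0 62 = true := by decide +kernel

set_option maxRecDepth 1000000 in
set_option maxHeartbeats 0 in
theorem nC_E8_3_1 : nCheckCols chevE8 3 62 62 = true := by decide +kernel

set_option maxRecDepth 1000000 in
set_option maxHeartbeats 0 in
theorem nC_E8_3_2 : nCheckCols chevE8 3 124 62 = true := by decide +kernel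

set_option maxRecDepth 1000000 in
set_option maxHeartbeats 0 in
theorem nC_E8_3_3 : nCheckCols chevE8 3 186 62 = true := by decide +kernel

set_option maxRecDepth 1000000 in
set_option maxHeartbeats 0 in
theorem nE_E8_3_0 : etaCheckRange chevE8 3 0 60 = true := by decide +kernel

set_option maxRecDepth 1000000 in
set_option maxHeartbeats 0 in
theorem nE_E8_3_1 : etaCheckRange chevE8 3 60 60 = true := by decide +kernel

set_option maxRecDepth 1000000 in
set_option maxHeartbeats 0 in
theorem nE_E8_3_2 : etaCheckRange chevE8 3 120 60 = true := by decide +kernel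

set_option maxRecDepth 1000000 in
set_option maxHeartbeats 0 in
theorem nE_E8_3_3 : etaCheckRange chevE8 3 180 60 = true := by decide +kernel

set_option maxRecDepth 1000000 in
set_option maxHeartbeats 0 in
theorem nP_E8_3 : etaCheckP chevE8 3 = true := by decide +kernel

theorem nCheck_E8_3 : NCheck chevE8 3 := by
  apply nCheck_of_chunks chevE8 3 62 4 60 4 (by decide +kernel) (by decide +kernel) ?_
    (by decide +kernel) (by decide +kernel) ?_ nP_E8_3
  · intro k hk
    interval_cases k
    · exact nC_E8_3_0
    · exact nC_E8_3_1
    · exact nC_E8_3_2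
    · exact nC_E8_3_3
  · intro k hk
    interval_cases k
    · exact nE_E8_3_0
    · exact nE_E8_3_1
    · exact nE_E8_3_2
    · exact nE_E8_3_3

end Cfsg.Agent.helper5.Chev
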