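import Mathlib
import Cfsg.Agent.Lib_helper5_ChevN
import Cfsg.Prelude.Def_ChevE8

set_option autoImplicit false

namespace Cfsg.Agent.helper5.Chev

open Cfsg.Lie

set_option maxRecDepth 1000000 in
set_option maxHeartbeats 0 in
theorem nC_E8_4_0 : nCheckCols chevE8 4 0 62 = true := by decide +kernel

set_option maxRecDepth 1000000 in
set_option maxHeartbeats 0 in
theorem nC_E8_4_1 : nCheckCols chevE8 4 62 62 = true := by decide +kernel

set_option maxRecDepth 1000000 in
set_option maxHeartbeats 0 in
theorem nC_E8_4_2 : nCheckCols chevE8 4 124 62 = true := by decide +kernel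

set_option maxRecDepth 1000000 in
set_option maxHeartbeats 0 in
theorem nC_E8_4_3 : nCheckCols chevE8 4 186 62 = true := by decide +kernel

set_option maxRecDepth 1000000 in
set_option maxHeartbeats 0 in
theorem nE_E8_4_0 : etaCheckRange chevE8 4 0 60 = true := by decide +kernel

set_option maxRecDepth 1000000 in
set_option maxHeartbeats 0 in
theorem nE_E8_4_1 : etaCheckRange chevE8 4 60 60 = true := by decide +kernel

set_option maxRecDepth 1000000 in
set_option maxHeartbeats 0 in
theorem nE_E8_4_2 : etaCheckRange chevE8 4 120 60 = true := by decide +kernel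

set_option maxRecDepth 1000000 in
set_option maxHeartbeats 0 in
theorem nE_E8_4_3 : etaCheckRange chevE8 4 180 60 = true := by decide +kernel

set_option maxRecDepth 1000000 in
set_option maxHeartbeats 0 in
theorem nP_E8_4 : etaCheckP chevE8 4 = true := by decide +kernel

theorem nCheck_E8_4 : NCheck chevE8 4 := by
  apply nCheck_of_chunks chevE8 4 62 4 60 4 (by decide +kernel) (by decide +kernel) ?_
    (by decide +kernel) (by decide +kernel) ?_ nP_E8_4
  · intro k hk
    interval_cases k
    · exact nC_E8_4_0
    · exact nC_E8_4_1
    · exact nC_E8_4_2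
    · exact nC_E8_4_3
  · intro k hk
    interval_cases k
    · exact nE_E8_4_0
    · exact nE_E8_4_1
    · exact nE_E8_4_2
    · exact nE_E8_4_3

set_option maxRecDepth 1000000 in
set_option maxHeartbeats 0 in
theorem nC_E8_5_0 : nCheckCols chevE8 5 0 62 = true := by decide +kernel

set_option maxRecDepth 1000000 in
set_option maxHeartbeats 0 in
theorem nC_E8_5_1 : nCheckCols chevE8 5 62 62 = true := by decide +kernel

set_option maxRecDepth 1000000 in
set_option maxHeartbeats 0 in
theorem nC_E8_5_2 : nCheckCols chevE8 5 124 62 = true := by decide +kernel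

set_option maxRecDepth 1000000 in
set_option maxHeartbeats 0 in
theorem nC_E8_5_3 : nCheckCols chevE8 5 186 62 = true := by decide +kernel

set_option maxRecDepth 1000000 in
set_option maxHeartbeats 0 in
theorem nE_E8_5_0 : etaCheckRange chevE8 5 0 60 = true := by decide +kernel

set_option maxRecDepth 1000000 in
set_option maxHeartbeats 0 in
theorem nE_E8_5_1 : etaCheckRange chevE8 5 60 60 = true := by decide +kernel

set_option maxRecDepth 1000000 in
set_option maxHeartbeats 0 in
theorem nE_E8_5_2 : etaCheckRange chevE8 5 120 60 = true := by decide +kernel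

set_option maxRecDepth 1000000 in
set_option maxHeartbeats 0 in
theorem nE_E8_5_3 : etaCheckRange chevE8 5 180 60 = true := by decide +kernel

set_option maxRecDepth 1000000 in
set_option maxHeartbeats 0 in
theorem nP_E8_5 : etaCheckP chevE8 5 = true := by decide +kernel

theorem nCheck_E8_5 : NCheck chevE8 5 := by
  apply nCheck_of_chunks chevE8 5 62 4 60 4 (by decide +kernel) (by decide +kernel) ?_
    (by decide +kernel) (by decide +kernel) ?_ nP_E8_5
  · intro k hk
    interval_cases k
    · exact nC_E8_5_0
    · exact nC_E8_5_1
    · exact nC_E8_5_2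
    · exact nC_E8_5_3
  · intro k hk
    interval_cases k
    · exact nE_E8_5_0
    · exact nE_E8_5_1
    · exact nE_E8_5_2
    · exact nE_E8_5_3

set_option maxRecDepth 1000000 in
set_option maxHeartbeats 0 in
theorem nC_E8_6_0 : nCheckCols chevE8 6 0 62 = true := by decide +kernel

set_option maxRecDepth 1000000 in
set_option maxHeartbeats 0 in
theorem nC_E8_6_1 : nCheckCols chevE8 6 62 62 = true := by decide +kernel

set_option maxRecDepth 1000000 in
set_option maxHeartbeats 0 in
theorem nC_E8_6_2 : nCheckCols chevE8 6 124 62 = true := by decide +kernel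

set_option maxRecDepth 1000000 in
set_option maxHeartbeats 0 in
theorem nC_E8_6_3 : nCheckCols chevE8 6 186 62 = true := by decide +kernel

set_option maxRecDepth 1000000 in
set_option maxHeartbeats 0 in
theorem nE_E8_6_0 : etaCheckRange chevE8 6 0 60 = true := by decide +kernel

set_option maxRecDepth 1000000 in
set_option maxHeartbeats 0 in
theorem nE_E8_6_1 : etaCheckRange chevE8 6 60 60 = true := by decide +kernel

set_option maxRecDepth 1000000 in
set_option maxHeartbeats 0 in
theorem nE_E8_6_2 : etaCheckRange chevE8 6 120 60 = true := by decide +kernel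

set_option maxRecDepth 1000000 in
set_option maxHeartbeats 0 in
theorem nE_E8_6_3 : etaCheckRange chevE8 6 180 60 = true := by decide +kernel

set_option maxRecDepth 1000000 in
set_option maxHeartbeats 0 in
theorem nP_E8_6 : etaCheckP chevE8 6 = true := by decide +kernel

theorem nCheck_E8_6 : NCheck chevE8 6 := by
  apply nCheck_of_chunks chevE8 6 62 4 60 4 (by decide +kernel) (by decide +kernel) ?_
    (by decide +kernel) (by decide +kernel) ?_ nP_E8_6
  · intro k hk
    interval_cases k
    · exact nC_E8_6_0
    · exact nC_E8_6_1
    · exact nC_E8_6_2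
    · exact nC_E8_6_3
  · intro k hk
    interval_cases k
    · exact nE_E8_6_0
    · exact nE_E8_6_1
    · exact nE_E8_6_2
    · exact nE_E8_6_3

set_option maxRecDepth 1000000 in
set_option maxHeartbeats 0 in
theorem nC_E8_7_0 : nCheckCols chevE8 7 0 62 = true := by decide +kernel

set_option maxRecDepth 1000000 in
set_option maxHeartbeats 0 in
theorem nC_E8_7_1 : nCheckCols chevE8 7 62 62 = true := by decide +kernel

set_option maxRecDepth 1000000 in
set_option maxHeartbeats 0 in
theorem nC_E8_7_2 : nCheckCols chevE8 7 124 62 = true := by decide +kernel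

set_option maxRecDepth 1000000 in
set_option maxHeartbeats 0 in
theorem nC_E8_7_3 : nCheckCols chevE8 7 186 62 = true := by decide +kernel

set_option maxRecDepth 1000000 in
set_option maxHeartbeats 0 in
theorem nE_E8_7_0 : etaCheckRange chevE8 7 0 60 = true := by decide +kernel

set_option maxRecDepth 1000000 in
set_option maxHeartbeats 0 in
theorem nE_E8_7_1 : etaCheckRange chevE8 7 60 60 = true := by decide +kernel

set_option maxRecDepth 1000000 in
set_option maxHeartbeats 0 in
theorem nE_E8_7_2 : etaCheckRange chevE8 7 120 60 = true := by decide +kernel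

set_option maxRecDepth 1000000 in
set_option maxHeartbeats 0 in
theorem nE_E8_7_3 : etaCheckRange chevE8 7 180 60 = true := by decide +kernel

set_option maxRecDepth 1000000 in
set_option maxHeartbeats 0 in
theorem nP_E8_7 : etaCheckP chevE8 7 = true := by decide +kernel

theorem nCheck_E8_7 : NCheck chevE8 7 := by
  apply nCheck_of_chunks chevE8 7 62 4 60 4 (by decide +kernel) (by decide +kernel) ?_
    (by decide +kernel) (by decide +kernel) ?_ nP_E8_7
  · intro k hk
    interval_cases k
    · exact nC_E8_7_0
    · exact nC_E8_7_1
    · exact nC_E8_7_2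
    · exact nC_E8_7_3
  · intro k hk
    interval_cases k
    · exact nE_E8_7_0
    · exact nE_E8_7_1
    · exact nE_E8_7_2
    · exact nE_E8_7_3

end Cfsg.Agent.helper5.Chev
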