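import Mathlib
import Cfsg.Agent.Lib_helper5_ChevN
import Cfsg.Agent.Lib_helper5_ChevNE8_0
import Cfsg.Agent.Lib_helper5_ChevNE8_1

set_option autoImplicit false

namespace Cfsg.Agent.helper5.Chev

open Cfsg.Lie

theorem nCheck_E8 : ∀ i < chevE8.rank, NCheck chevE8 i := by
  intro i hi
  have hn : chevE8.rank = 8 := rfl
  rw [hn] at hi
  interval_cases i
  · exact nCheck_E8_0
  · exact nCheck_E8_1
  · exact nCheck_E8_2
  · exact nCheck_E8_3
  · exact nCheck_E8_4
  · exact nCheck_E8_5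
  · exact nCheck_E8_6
  · exact nCheck_E8_7

end Cfsg.Agent.helper5.Chev
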