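import Mathlib
import Cfsg.Agent.Lib_helper5_ChevN
import Cfsg.Prelude.Def_ChevG2
import Cfsg.Prelude.Def_ChevB2
import Cfsg.Prelude.Def_ChevD4
import Cfsg.Prelude.Def_ChevF4
import Cfsg.Prelude.Def_ChevE6

set_option autoImplicit false

namespace Cfsg.Agent.helper5.Chev

open Cfsg.Lie

set_option maxRecDepth 1000000 in
set_option maxHeartbeats 0 in
theorem nC_G2_0_0 : nCheckCols chevG2 0 0 14 = true := by decide +kernel

set_option maxRecDepth 1000000 in
set_option maxHeartbeats 0 in
theorem nE_G2_0_0 : etaCheckRange chevG2 0 0 12 = true := by decide +kernel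

set_option maxRecDepth 1000000 in
set_option maxHeartbeats 0 in
theorem nP_G2_0 : etaCheckP chevG2 0 = true := by decide +kernel

theorem nCheck_G2_0 : NCheck chevG2 0 := by
  apply nCheck_of_chunks chevG2 0 14 1 12 1 (by decide +kernel) (by decide +kernel) ?_
    (by decide +kernel) (by decide +kernel) ?_ nP_G2_0
  · intro k hk
    interval_cases k
    · exact nC_G2_0_0
  · intro k hk
    interval_cases k
    · exact nE_G2_0_0

set_option maxRecDepth 1000000 in
set_option maxHeartbeats 0 in
theorem nC_G2_1_0 : nCheckCols chevG2 1 0 14 = true := by decide +kernel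

set_option maxRecDepth 1000000 in
set_option maxHeartbeats 0 in
theorem nE_G2_1_0 : etaCheckRange chevG2 1 0 12 = true := by decide +kernel

set_option maxRecDepth 1000000 in
set_option maxHeartbeats 0 in
theorem nP_G2_1 : etaCheckP chevG2 1 = true := by decide +kernel

theorem nCheck_G2_1 : NCheck chevG2 1 := by
  apply nCheck_of_chunks chevG2 1 14 1 12 1 (by decide +kernel) (by decide +kernel) ?_
    (by decide +kernel) (by decide +kernel) ?_ nP_G2_1
  · intro k hk
    interval_cases k
    · exact nC_G2_1_0
  · intro k hk
    interval_cases k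
    · exact nE_G2_1_0

theorem nCheck_G2 : ∀ i < chevG2.rank, NCheck chevG2 i := by
  intro i hi
  have hn : chevG2.rank = 2 := rfl
  rw [hn] at hi
  interval_cases i
  · exact nCheck_G2_0
  · exact nCheck_G2_1

set_option maxRecDepth 1000000 in
set_option maxHeartbeats 0 in
theorem nC_B2_0_0 : nCheckCols chevB2 0 0 10 = true := by decide +kernel

set_option maxRecDepth 1000000 in
set_option maxHeartbeats 0 in
theorem nE_B2_0_0 : etaCheckRange chevB2 0 0 8 = true := by decide +kernel

set_option maxRecDepth 1000000 in
set_option maxHeartbeats 0 in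
theorem nP_B2_0 : etaCheckP chevB2 0 = true := by decide +kernel

theorem nCheck_B2_0 : NCheck chevB2 0 := by
  apply nCheck_of_chunks chevB2 0 10 1 8 1 (by decide +kernel) (by decide +kernel) ?_
    (by decide +kernel) (by decide +kernel) ?_ nP_B2_0
  · intro k hk
    interval_cases k
    · exact nC_B2_0_0
  · intro k hk
    interval_cases k
    · exact nE_B2_0_0

set_option maxRecDepth 1000000 in
set_option maxHeartbeats 0 in
theorem nC_B2_1_0 : nCheckCols chevB2 1 0 10 = true := by decide +kernel

set_option maxRecDepth 1000000 in
set_option maxHeartbeats 0 in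
theorem nE_B2_1_0 : etaCheckRange chevB2 1 0 8 = true := by decide +kernel

set_option maxRecDepth 1000000 in
set_option maxHeartbeats 0 in
theorem nP_B2_1 : etaCheckP chevB2 1 = true := by decide +kernel

theorem nCheck_B2_1 : NCheck chevB2 1 := by
  apply nCheck_of_chunks chevB2 1 10 1 8 1 (by decide +kernel) (by decide +kernel) ?_
    (by decide +kernel) (by decide +kernel) ?_ nP_B2_1
  · intro k hk
    interval_cases k
    · exact nC_B2_1_0
  · intro k hk
    interval_cases k
    · exact nE_B2_1_0

theorem nCheck_B2 : ∀ i < chevB2.rank, NCheck chevB2 i := by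
  intro i hi
  have hn : chevB2.rank = 2 := rfl
  rw [hn] at hi
  interval_cases i
  · exact nCheck_B2_0
  · exact nCheck_B2_1

set_option maxRecDepth 1000000 in
set_option maxHeartbeats 0 in
theorem nC_D4_0_0 : nCheckCols chevD4 0 0 28 = true := by decide +kernel

set_option maxRecDepth 1000000 in
set_option maxHeartbeats 0 in
theorem nE_D4_0_0 : etaCheckRange chevD4 0 0 24 = true := by decide +kernel

set_option maxRecDepth 1000000 in
set_option maxHeartbeats 0 in
theorem nP_D4_0 : etaCheckP chevD4 0 = true := by decide +kernel

theorem nCheck_D4_0 : NCheck chevD4 0 := by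
  apply nCheck_of_chunks chevD4 0 28 1 24 1 (by decide +kernel) (by decide +kernel) ?_
    (by decide +kernel) (by decide +kernel) ?_ nP_D4_0
  · intro k hk
    interval_cases k
    · exact nC_D4_0_0
  · intro k hk
    interval_cases k
    · exact nE_D4_0_0

set_option maxRecDepth 1000000 in
set_option maxHeartbeats 0 in
theorem nC_D4_1_0 : nCheckCols chevD4 1 0 28 = true := by decide +kernel

set_option maxRecDepth 1000000 in
set_option maxHeartbeats 0 in
theorem nE_D4_1_0 : etaCheckRange chevD4 1 0 24 = true := by decide +kernel

set_option maxRecDepth 1000000 in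
set_option maxHeartbeats 0 in
theorem nP_D4_1 : etaCheckP chevD4 1 = true := by decide +kernel

theorem nCheck_D4_1 : NCheck chevD4 1 := by
  apply nCheck_of_chunks chevD4 1 28 1 24 1 (by decide +kernel) (by decide +kernel) ?_
    (by decide +kernel) (by decide +kernel) ?_ nP_D4_1
  · intro k hk
    interval_cases k
    · exact nC_D4_1_0
  · intro k hk
    interval_cases k
    · exact nE_D4_1_0

set_option maxRecDepth 1000000 in
set_option maxHeartbeats 0 in
theorem nC_D4_2_0 : nCheckCols chevD4 2 0 28 = true := by decide +kernel

set_option maxRecDepth 1000000 in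
set_option maxHeartbeats 0 in
theorem nE_D4_2_0 : etaCheckRange chevD4 2 0 24 = true := by decide +kernel

set_option maxRecDepth 1000000 in
set_option maxHeartbeats 0 in
theorem nP_D4_2 : etaCheckP chevD4 2 = true := by decide +kernel

theorem nCheck_D4_2 : NCheck chevD4 2 := by
  apply nCheck_of_chunks chevD4 2 28 1 24 1 (by decide +kernel) (by decide +kernel) ?_
    (by decide +kernel) (by decide +kernel) ?_ nP_D4_2
  · intro k hk
    interval_cases k
    · exact nC_D4_2_0
  · intro k hk
    interval_cases k
    · exact nE_D4_2_0

set_option maxRecDepth 1000000 in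
set_option maxHeartbeats 0 in
theorem nC_D4_3_0 : nCheckCols chevD4 3 0 28 = true := by decide +kernel

set_option maxRecDepth 1000000 in
set_option maxHeartbeats 0 in
theorem nE_D4_3_0 : etaCheckRange chevD4 3 0 24 = true := by decide +kernel

set_option maxRecDepth 1000000 in
set_option maxHeartbeats 0 in
theorem nP_D4_3 : etaCheckP chevD4 3 = true := by decide +kernel

theorem nCheck_D4_3 : NCheck chevD4 3 := by
  apply nCheck_of_chunks chevD4 3 28 1 24 1 (by decide +kernel) (by decide +kernel) ?_
    (by decide +kernel) (by decide +kernel) ?_ nP_D4_3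
  · intro k hk
    interval_cases k
    · exact nC_D4_3_0
  · intro k hk
    interval_cases k
    · exact nE_D4_3_0

theorem nCheck_D4 : ∀ i < chevD4.rank, NCheck chevD4 i := by
  intro i hi
  have hn : chevD4.rank = 4 := rfl
  rw [hn] at hi
  interval_cases i
  · exact nCheck_D4_0
  · exact nCheck_D4_1
  · exact nCheck_D4_2
  · exact nCheck_D4_3

set_option maxRecDepth 1000000 in
set_option maxHeartbeats 0 in
theorem nC_F4_0_0 : nCheckCols chevF4 0 0 52 = true := by decide +kernel

set_option maxRecDepth 1000000 in
set_option maxHeartbeats 0 in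
theorem nE_F4_0_0 : etaCheckRange chevF4 0 0 48 = true := by decide +kernel

set_option maxRecDepth 1000000 in
set_option maxHeartbeats 0 in
theorem nP_F4_0 : etaCheckP chevF4 0 = true := by decide +kernel

theorem nCheck_F4_0 : NCheck chevF4 0 := by
  apply nCheck_of_chunks chevF4 0 52 1 48 1 (by decide +kernel) (by decide +kernel) ?_
    (by decide +kernel) (by decide +kernel) ?_ nP_F4_0
  · intro k hk
    interval_cases k
    · exact nC_F4_0_0
  · intro k hk
    interval_cases k
    · exact nE_F4_0_0

set_option maxRecDepth 1000000 in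
set_option maxHeartbeats 0 in
theorem nC_F4_1_0 : nCheckCols chevF4 1 0 52 = true := by decide +kernel

set_option maxRecDepth 1000000 in
set_option maxHeartbeats 0 in
theorem nE_F4_1_0 : etaCheckRange chevF4 1 0 48 = true := by decide +kernel

set_option maxRecDepth 1000000 in
set_option maxHeartbeats 0 in
theorem nP_F4_1 : etaCheckP chevF4 1 = true := by decide +kernel

theorem nCheck_F4_1 : NCheck chevF4 1 := by
  apply nCheck_of_chunks chevF4 1 52 1 48 1 (by decide +kernel) (by decide +kernel) ?_
    (by decide +kernel) (by decide +kernel) ?_ nP_F4_1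
  · intro k hk
    interval_cases k
    · exact nC_F4_1_0
  · intro k hk
    interval_cases k
    · exact nE_F4_1_0

set_option maxRecDepth 1000000 in
set_option maxHeartbeats 0 in
theorem nC_F4_2_0 : nCheckCols chevF4 2 0 52 = true := by decide +kernel

set_option maxRecDepth 1000000 in
set_option maxHeartbeats 0 in
theorem nE_F4_2_0 : etaCheckRange chevF4 2 0 48 = true := by decide +kernel

set_option maxRecDepth 1000000 in
set_option maxHeartbeats 0 in
theorem nP_F4_2 : etaCheckP chevF4 2 = true := by decide +kernel

theorem nCheck_F4_2 : NCheck chevF4 2 := by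
  apply nCheck_of_chunks chevF4 2 52 1 48 1 (by decide +kernel) (by decide +kernel) ?_
    (by decide +kernel) (by decide +kernel) ?_ nP_F4_2
  · intro k hk
    interval_cases k
    · exact nC_F4_2_0
  · intro k hk
    interval_cases k
    · exact nE_F4_2_0

set_option maxRecDepth 1000000 in
set_option maxHeartbeats 0 in
theorem nC_F4_3_0 : nCheckCols chevF4 3 0 52 = true := by decide +kernel

set_option maxRecDepth 1000000 in
set_option maxHeartbeats 0 in
theorem nE_F4_3_0 : etaCheckRange chevF4 3 0 48 = true := by decide +kernel

set_option maxRecDepth 1000000 in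
set_option maxHeartbeats 0 in
theorem nP_F4_3 : etaCheckP chevF4 3 = true := by decide +kernel

theorem nCheck_F4_3 : NCheck chevF4 3 := by
  apply nCheck_of_chunks chevF4 3 52 1 48 1 (by decide +kernel) (by decide +kernel) ?_
    (by decide +kernel) (by decide +kernel) ?_ nP_F4_3
  · intro k hk
    interval_cases k
    · exact nC_F4_3_0
  · intro k hk
    interval_cases k
    · exact nE_F4_3_0

theorem nCheck_F4 : ∀ i < chevF4.rank, NCheck chevF4 i := by
  intro i hi
  have hn : chevF4.rank = 4 := rfl
  rw [hn] at hi
  interval_cases i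
  · exact nCheck_F4_0
  · exact nCheck_F4_1
  · exact nCheck_F4_2
  · exact nCheck_F4_3

set_option maxRecDepth 1000000 in
set_option maxHeartbeats 0 in
theorem nC_E6_0_0 : nCheckCols chevE6 0 0 78 = true := by decide +kernel

set_option maxRecDepth 1000000 in
set_option maxHeartbeats 0 in
theorem nE_E6_0_0 : etaCheckRange chevE6 0 0 72 = true := by decide +kernel

set_option maxRecDepth 1000000 in
set_option maxHeartbeats 0 in
theorem nP_E6_0 : etaCheckP chevE6 0 = true := by decide +kernel

theorem nCheck_E6_0 : NCheck chevE6 0 := by
  apply nCheck_of_chunks chevE6 0 78 1 72 1 (by decide +kernel) (by decide +kernel) ?_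
    (by decide +kernel) (by decide +kernel) ?_ nP_E6_0
  · intro k hk
    interval_cases k
    · exact nC_E6_0_0
  · intro k hk
    interval_cases k
    · exact nE_E6_0_0

set_option maxRecDepth 1000000 in
set_option maxHeartbeats 0 in
theorem nC_E6_1_0 : nCheckCols chevE6 1 0 78 = true := by decide +kernel

set_option maxRecDepth 1000000 in
set_option maxHeartbeats 0 in
theorem nE_E6_1_0 : etaCheckRange chevE6 1 0 72 = true := by decide +kernel

set_option maxRecDepth 1000000 in
set_option maxHeartbeats 0 in
theorem nP_E6_1 : etaCheckP chevE6 1 = true := by decide +kernel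

theorem nCheck_E6_1 : NCheck chevE6 1 := by
  apply nCheck_of_chunks chevE6 1 78 1 72 1 (by decide +kernel) (by decide +kernel) ?_
    (by decide +kernel) (by decide +kernel) ?_ nP_E6_1
  · intro k hk
    interval_cases k
    · exact nC_E6_1_0
  · intro k hk
    interval_cases k
    · exact nE_E6_1_0

set_option maxRecDepth 1000000 in
set_option maxHeartbeats 0 in
theorem nC_E6_2_0 : nCheckCols chevE6 2 0 78 = true := by decide +kernel

set_option maxRecDepth 1000000 in
set_option maxHeartbeats 0 in
theorem nE_E6_2_0 : etaCheckRange chevE6 2 0 72 = true := by decide +kernel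

set_option maxRecDepth 1000000 in
set_option maxHeartbeats 0 in
theorem nP_E6_2 : etaCheckP chevE6 2 = true := by decide +kernel

theorem nCheck_E6_2 : NCheck chevE6 2 := by
  apply nCheck_of_chunks chevE6 2 78 1 72 1 (by decide +kernel) (by decide +kernel) ?_
    (by decide +kernel) (by decide +kernel) ?_ nP_E6_2
  · intro k hk
    interval_cases k
    · exact nC_E6_2_0
  · intro k hk
    interval_cases k
    · exact nE_E6_2_0

set_option maxRecDepth 1000000 in
set_option maxHeartbeats 0 in
theorem nC_E6_3_0 : nCheckCols chevE6 3 0 78 = true := by decide +kernel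

set_option maxRecDepth 1000000 in
set_option maxHeartbeats 0 in
theorem nE_E6_3_0 : etaCheckRange chevE6 3 0 72 = true := by decide +kernel

set_option maxRecDepth 1000000 in
set_option maxHeartbeats 0 in
theorem nP_E6_3 : etaCheckP chevE6 3 = true := by decide +kernel

theorem nCheck_E6_3 : NCheck chevE6 3 := by
  apply nCheck_of_chunks chevE6 3 78 1 72 1 (by decide +kernel) (by decide +kernel) ?_
    (by decide +kernel) (by decide +kernel) ?_ nP_E6_3
  · intro k hk
    interval_cases k
    · exact nC_E6_3_0
  · intro k hk
    interval_cases k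
    · exact nE_E6_3_0

set_option maxRecDepth 1000000 in
set_option maxHeartbeats 0 in
theorem nC_E6_4_0 : nCheckCols chevE6 4 0 78 = true := by decide +kernel

set_option maxRecDepth 1000000 in
set_option maxHeartbeats 0 in
theorem nE_E6_4_0 : etaCheckRange chevE6 4 0 72 = true := by decide +kernel

set_option maxRecDepth 1000000 in
set_option maxHeartbeats 0 in
theorem nP_E6_4 : etaCheckP chevE6 4 = true := by decide +kernel

theorem nCheck_E6_4 : NCheck chevE6 4 := by
  apply nCheck_of_chunks chevE6 4 78 1 72 1 (by decide +kernel) (by decide +kernel) ?_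
    (by decide +kernel) (by decide +kernel) ?_ nP_E6_4
  · intro k hk
    interval_cases k
    · exact nC_E6_4_0
  · intro k hk
    interval_cases k
    · exact nE_E6_4_0

set_option maxRecDepth 1000000 in
set_option maxHeartbeats 0 in
theorem nC_E6_5_0 : nCheckCols chevE6 5 0 78 = true := by decide +kernel

set_option maxRecDepth 1000000 in
set_option maxHeartbeats 0 in
theorem nE_E6_5_0 : etaCheckRange chevE6 5 0 72 = true := by decide +kernel

set_option maxRecDepth 1000000 in
set_option maxHeartbeats 0 in
theorem nP_E6_5 : etaCheckP chevE6 5 = true := by decide +kernel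

theorem nCheck_E6_5 : NCheck chevE6 5 := by
  apply nCheck_of_chunks chevE6 5 78 1 72 1 (by decide +kernel) (by decide +kernel) ?_
    (by decide +kernel) (by decide +kernel) ?_ nP_E6_5
  · intro k hk
    interval_cases k
    · exact nC_E6_5_0
  · intro k hk
    interval_cases k
    · exact nE_E6_5_0

theorem nCheck_E6 : ∀ i < chevE6.rank, NCheck chevE6 i := by
  intro i hi
  have hn : chevE6.rank = 6 := rfl
  rw [hn] at hi
  interval_cases i
  · exact nCheck_E6_0
  · exact nCheck_E6_1
  · exact nCheck_E6_2
  · exact nCheck_E6_3
  · exact nCheck_E6_4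
  · exact nCheck_E6_5

end Cfsg.Agent.helper5.Chev
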