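import Mathlib
import Cfsg.Agent.Lib_helper5_ChevH
import Cfsg.Prelude.Def_ChevB2

set_option autoImplicit false

namespace Cfsg.Agent.helper5.Chev

open Cfsg.Lie

set_option maxRecDepth 1000000 in
set_option maxHeartbeats 0 in
theorem hCheck_B2_0 : hCheckI chevB2 0 = true := by decide +kernel

set_option maxRecDepth 1000000 in
set_option maxHeartbeats 0 in
theorem hCheck_B2_1 : hCheckI chevB2 1 = true := by decide +kernel

theorem hCheck_B2 : hCheck chevB2 := by
  intro i hi
  have hn : chevB2.rank = 2 := rfl
  rw [hn] at hi
  interval_cases i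
  · exact hCheck_B2_0
  · exact hCheck_B2_1

theorem simpleCheck_B2 : simpleCheck chevB2 = true := by decide +kernel

end Cfsg.Agent.helper5.Chev
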