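import Mathlib
import Cfsg.Agent.Lib_helper5_ChevH
import Cfsg.Prelude.Def_ChevE6

set_option autoImplicit false

namespace Cfsg.Agent.helper5.Chev

open Cfsg.Lie

set_option maxRecDepth 1000000 in
set_option maxHeartbeats 0 in
theorem hCheck_E6_0 : hCheckI chevE6 0 = true := by decide +kernel

set_option maxRecDepth 1000000 in
set_option maxHeartbeats 0 in
theorem hCheck_E6_1 : hCheckI chevE6 1 = true := by decide +kernel

set_option maxRecDepth 1000000 in
set_option maxHeartbeats 0 in
theorem hCheck_E6_2 : hCheckI chevE6 2 = true := by decide +kernel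

set_option maxRecDepth 1000000 in
set_option maxHeartbeats 0 in
theorem hCheck_E6_3 : hCheckI chevE6 3 = true := by decide +kernel

set_option maxRecDepth 1000000 in
set_option maxHeartbeats 0 in
theorem hCheck_E6_4 : hCheckI chevE6 4 = true := by decide +kernel

set_option maxRecDepth 1000000 in
set_option maxHeartbeats 0 in
theorem hCheck_E6_5 : hCheckI chevE6 5 = true := by decide +kernel

theorem hCheck_E6 : hCheck chevE6 := by
  intro i hi
  have hn : chevE6.rank = 6 := rfl
  rw [hn] at hi
  interval_cases i
  · exact hCheck_E6_0
  · exact hCheck_E6_1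
  · exact hCheck_E6_2
  · exact hCheck_E6_3
  · exact hCheck_E6_4
  · exact hCheck_E6_5

theorem simpleCheck_E6 : simpleCheck chevE6 = true := by decide +kernel

end Cfsg.Agent.helper5.Chev
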