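import Mathlib
import Cfsg.Agent.Lib_helper5_ChevH
import Cfsg.Prelude.Def_ChevE7

set_option autoImplicit false

namespace Cfsg.Agent.helper5.Chev

open Cfsg.Lie

set_option maxRecDepth 1000000 in
set_option maxHeartbeats 0 in
theorem hCheck_E7_0 : hCheckI chevE7 0 = true := by decide +kernel

set_option maxRecDepth 1000000 in
set_option maxHeartbeats 0 in
theorem hCheck_E7_1 : hCheckI chevE7 1 = true := by decide +kernel

set_option maxRecDepth 1000000 in
set_option maxHeartbeats 0 in
theorem hCheck_E7_2 : hCheckI chevE7 2 = true := by decide +kernel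

set_option maxRecDepth 1000000 in
set_option maxHeartbeats 0 in
theorem hCheck_E7_3 : hCheckI chevE7 3 = true := by decide +kernel

set_option maxRecDepth 1000000 in
set_option maxHeartbeats 0 in
theorem hCheck_E7_4 : hCheckI chevE7 4 = true := by decide +kernel

set_option maxRecDepth 1000000 in
set_option maxHeartbeats 0 in
theorem hCheck_E7_5 : hCheckI chevE7 5 = true := by decide +kernel

set_option maxRecDepth 1000000 in
set_option maxHeartbeats 0 in
theorem hCheck_E7_6 : hCheckI chevE7 6 = true := by decide +kernel

theorem hCheck_E7 : hCheck chevE7 := by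
  intro i hi
  have hn : chevE7.rank = 7 := rfl
  rw [hn] at hi
  interval_cases i
  · exact hCheck_E7_0
  · exact hCheck_E7_1
  · exact hCheck_E7_2
  · exact hCheck_E7_3
  · exact hCheck_E7_4
  · exact hCheck_E7_5
  · exact hCheck_E7_6

theorem simpleCheck_E7 : simpleCheck chevE7 = true := by decide +kernel

end Cfsg.Agent.helper5.Chev
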