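import Mathlib
import Cfsg.Agent.Lib_helper5_ChevH
import Cfsg.Prelude.Def_ChevE8

set_option autoImplicit false

namespace Cfsg.Agent.helper5.Chev

open Cfsg.Lie

set_option maxRecDepth 1000000 in
set_option maxHeartbeats 0 in
theorem hCheck_E8_0 : hCheckI chevE8 0 = true := by decide +kernel

set_option maxRecDepth 1000000 in
set_option maxHeartbeats 0 in
theorem hCheck_E8_1 : hCheckI chevE8 1 = true := by decide +kernel

set_option maxRecDepth 1000000 in
set_option maxHeartbeats 0 in
theorem hCheck_E8_2 : hCheckI chevE8 2 = true := by decide +kernel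

set_option maxRecDepth 1000000 in
set_option maxHeartbeats 0 in
theorem hCheck_E8_3 : hCheckI chevE8 3 = true := by decide +kernel

set_option maxRecDepth 1000000 in
set_option maxHeartbeats 0 in
theorem hCheck_E8_4 : hCheckI chevE8 4 = true := by decide +kernel

set_option maxRecDepth 1000000 in
set_option maxHeartbeats 0 in
theorem hCheck_E8_5 : hCheckI chevE8 5 = true := by decide +kernel

set_option maxRecDepth 1000000 in
set_option maxHeartbeats 0 in
theorem hCheck_E8_6 : hCheckI chevE8 6 = true := by decide +kernel

set_option maxRecDepth 1000000 in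
set_option maxHeartbeats 0 in
theorem hCheck_E8_7 : hCheckI chevE8 7 = true := by decide +kernel

theorem hCheck_E8 : hCheck chevE8 := by
  intro i hi
  have hn : chevE8.rank = 8 := rfl
  rw [hn] at hi
  interval_cases i
  · exact hCheck_E8_0
  · exact hCheck_E8_1
  · exact hCheck_E8_2
  · exact hCheck_E8_3
  · exact hCheck_E8_4
  · exact hCheck_E8_5
  · exact hCheck_E8_6
  · exact hCheck_E8_7

theorem simpleCheck_E8 : simpleCheck chevE8 = true := by decide +kernel

end Cfsg.Agent.helper5.Chev
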