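import Mathlib
import Cfsg.Agent.Lib_helper5_ChevH
import Cfsg.Prelude.Def_ChevF4

set_option autoImplicit false

namespace Cfsg.Agent.helper5.Chev

open Cfsg.Lie

set_option maxRecDepth 1000000 in
set_option maxHeartbeats 0 in
theorem hCheck_F4_0 : hCheckI chevF4 0 = true := by decide +kernel

set_option maxRecDepth 1000000 in
set_option maxHeartbeats 0 in
theorem hCheck_F4_1 : hCheckI chevF4 1 = true := by decide +kernel

set_option maxRecDepth 1000000 in
set_option maxHeartbeats 0 in
theorem hCheck_F4_2 : hCheckI chevF4 2 = true := by decide +kernel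

set_option maxRecDepth 1000000 in
set_option maxHeartbeats 0 in
theorem hCheck_F4_3 : hCheckI chevF4 3 = true := by decide +kernel

theorem hCheck_F4 : hCheck chevF4 := by
  intro i hi
  have hn : chevF4.rank = 4 := rfl
  rw [hn] at hi
  interval_cases i
  · exact hCheck_F4_0
  · exact hCheck_F4_1
  · exact hCheck_F4_2
  · exact hCheck_F4_3

theorem simpleCheck_F4 : simpleCheck chevF4 = true := by decide +kernel

end Cfsg.Agent.helper5.Chev
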