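import Mathlib
import Cfsg.Statements.S1033
import Cfsg.Agent.Lib_helper5_ChevHG2
import Cfsg.Agent.Lib_helper5_ChevHB2
import Cfsg.Agent.Lib_helper5_ChevHD4
import Cfsg.Agent.Lib_helper5_ChevHF4
import Cfsg.Agent.Lib_helper5_ChevHE6
import Cfsg.Agent.Lib_helper5_ChevHE7
import Cfsg.Agent.Lib_helper5_ChevHE8

set_option autoImplicit false
open Cfsg

namespace Cfsg.Agent.S1033

open Cfsg.Lie Cfsg.Agent.helper5.Chev

theorem hCheck_of_mem (D : Cfsg.Lie.ChevalleyDatum) (hD : D ∈ [Cfsg.Lie.chevG2, Cfsg.Lie.chevB2, Cfsg.Lie.chevD4, Cfsg.Lie.chevF4, Cfsg.Lie.chevE6, Cfsg.Lie.chevE7, Cfsg.Lie.chevE8]) :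
    hCheck D ∧ simpleCheck D = true := by
  simp only [List.mem_cons, List.not_mem_nil, or_false] at hD
  rcases hD with rfl | rfl | rfl | rfl | rfl | rfl | rfl
  · exact ⟨hCheck_G2, simpleCheck_G2⟩
  · exact ⟨hCheck_B2, simpleCheck_B2⟩
  · exact ⟨hCheck_D4, simpleCheck_D4⟩
  · exact ⟨hCheck_F4, simpleCheck_F4⟩
  · exact ⟨hCheck_E6, simpleCheck_E6⟩
  · exact ⟨hCheck_E7, simpleCheck_E7⟩
  · exact ⟨hCheck_E8, simpleCheck_E8⟩

/-- `h_p(c)` (for a fundamental root `p = p_{i+1}` and `c ≠ 0`) is diagonal: it fixes each `h_{p_j}` and scales `e_s` by `c^{A_{p,s}}`. -/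
theorem result {F : Type*} [Field F] (D : Cfsg.Lie.ChevalleyDatum) (hD : D ∈ [Cfsg.Lie.chevG2, Cfsg.Lie.chevB2, Cfsg.Lie.chevD4, Cfsg.Lie.chevF4, Cfsg.Lie.chevE6, Cfsg.Lie.chevE7, Cfsg.Lie.chevE8]) (i : ℕ) (hi : i < D.rank) (c : F) (hc : c ≠ 0) :
    D.hMat F (D.simple i) c = Matrix.diagonal (Sum.elim (fun _ => (1 : F)) (fun s : Fin D.nroots => c ^ (D.cartan i s))) := by
  obtain ⟨h1, h2⟩ := hCheck_of_mem D hD
  exact hMat_diag_of_check D h1 h2 i hi c hc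

end Cfsg.Agent.S1033
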