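import Mathlib
import Cfsg.Statements.S1095
import Cfsg.Agent.S1033
import Cfsg.Agent.Lib_helper5_ChevNSmall
import Cfsg.Agent.Lib_helper5_ChevNE7
import Cfsg.Agent.Lib_helper5_ChevNE8

set_option autoImplicit false
open Cfsg

namespace Cfsg.Agent.S1095

open Cfsg.Lie Cfsg.Agent.helper5.Chev

theorem nCheck_of_mem (D : ChevalleyDatum)
    (hD : D ∈ [chevG2, chevB2, chevD4, chevF4, chevE6, chevE7, chevE8]) :
    ∀ i < D.rank, NCheck D i := by
  simp only [List.mem_cons, List.not_mem_nil, or_false] at hD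
  rcases hD with rfl | rfl | rfl | rfl | rfl | rfl | rfl
  · exact nCheck_G2
  · exact nCheck_B2
  · exact nCheck_D4
  · exact nCheck_F4
  · exact nCheck_E6
  · exact nCheck_E7
  · exact nCheck_E8

/-- `n_p` as an explicit monomial matrix -/
theorem nMat_eq {F : Type*} [Field F] (D : ChevalleyDatum)
    (hD : D ∈ [chevG2, chevB2, chevD4, chevF4, chevE6, chevE7, chevE8]) (i : ℕ) (hi : i < D.rank) :
    D.nMat F (D.simple i) 1 = nMono D i (etaOf D i) :=
  nMat_eq_of_check D (Cfsg.Agent.S1033.hCheck_of_mem D hD).2 i hi (nCheck_of_mem D hD i hi)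

/-- `n_p` (p = p_{i+1} fundamental) is the signed monomial matrix `h_{p_j} ↦ h_{p_j} - A_{p_j,p} h_p`, `e_s ↦ η_s e_{w_p(s)}`, with `η_s = ±1`, `η_p = η_{-p} = -1`, `η_s η_{w_p(s)} = (-1)^{A_{p,s}}`, `η_s η_{-s} = 1`. -/
theorem result {F : Type*} [Field F] (D : Cfsg.Lie.ChevalleyDatum) (hD : D ∈ [Cfsg.Lie.chevG2, Cfsg.Lie.chevB2, Cfsg.Lie.chevD4, Cfsg.Lie.chevF4, Cfsg.Lie.chevE6, Cfsg.Lie.chevE7, Cfsg.Lie.chevE8]) (i : ℕ) (hi : i < D.rank) :
    ∃ η : ℕ → ℤ, (∀ s < D.nroots, η s = 1 ∨ η s = -1) ∧ η (D.simple i) = -1 ∧ η (D.neg (D.simple i)) = -1 ∧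
      (∀ s < D.nroots, η s * η (D.reflectRoot i s) = (-1) ^ (D.cartan i s).natAbs ∧ η s * η (D.neg s) = 1) ∧
      D.nMat F (D.simple i) 1 = Matrix.of (fun (row col : D.Idx) =>
        Sum.elim
          (fun j' : Fin D.rank => Sum.elim
            (fun j : Fin D.rank => (if j' = j then (1 : F) else 0) - (if (j' : ℕ) = i then ((D.cartan j (D.simple i) : ℤ) : F) else 0))
            (fun _ => (0 : F)) col)
          (fun s' : Fin D.nroots => Sum.elim
            (fun _ => (0 : F))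
            (fun s : Fin D.nroots => if (s' : ℕ) = D.reflectRoot i s then ((η s : ℤ) : F) else 0) col)
          row) := by
  have hN := nCheck_of_mem D hD i hi
  have heta : ∀ s < D.nroots, (etaOf D i s = 1 ∨ etaOf D i s = -1) ∧
      etaOf D i s * etaOf D i (D.reflectRoot i s) = (-1) ^ (D.cartan i s).natAbs ∧
      etaOf D i s * etaOf D i (D.neg s) = 1 := by
    intro s hs
    have h1 := hN.eta s hs
    unfold etaCheckS at h1
    simp only [Bool.and_eq_true, Bool.or_eq_true, beq_iff_eq] at h1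
    exact ⟨h1.1.1, h1.1.2, h1.2⟩
  have hP := hN.etaP
  unfold etaCheckP at hP
  simp only [Bool.and_eq_true, beq_iff_eq] at hP
  refine ⟨etaOf D i, fun s hs => (heta s hs).1, hP.1, hP.2,
    fun s hs => ⟨(heta s hs).2.1, (heta s hs).2.2⟩, ?_⟩
  exact nMat_eq D hD i hi

end Cfsg.Agent.S1095
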