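import Mathlib
import Cfsg.Statements.S1031
import Cfsg.Agent.S1095
import Cfsg.Agent.Lib_helper5_ChevNX
import Cfsg.Agent.Lib_helper5_ChevNXG2
import Cfsg.Agent.Lib_helper5_ChevNXB2
import Cfsg.Agent.Lib_helper5_ChevNXD4
import Cfsg.Agent.Lib_helper5_ChevNXF4
import Cfsg.Agent.Lib_helper5_ChevNXE6
import Cfsg.Agent.Lib_helper5_ChevNXE7
import Cfsg.Agent.Lib_helper5_ChevNXE8

set_option autoImplicit false
open Cfsg

namespace Cfsg.Agent.S1031

open Cfsg.Lie Cfsg.Agent.helper5.Chev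

theorem nxAll_of_mem (D : ChevalleyDatum)
    (hD : D ∈ [chevG2, chevB2, chevD4, chevF4, chevE6, chevE7, chevE8]) : NXAll D := by
  simp only [List.mem_cons, List.not_mem_nil, or_false] at hD
  rcases hD with rfl | rfl | rfl | rfl | rfl | rfl | rfl
  · exact nxAll_G2
  · exact nxAll_B2
  · exact nxAll_D4
  · exact nxAll_F4
  · exact nxAll_E6
  · exact nxAll_E7
  · exact nxAll_E8

/-- the sign is `±1` -/
theorem eta_sq (D : ChevalleyDatum)
    (hD : D ∈ [chevG2, chevB2, chevD4, chevF4, chevE6, chevE7, chevE8]) (i s : ℕ) (hi : i < D.rank)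
    (hs : s < D.nroots) : etaOf D i s = 1 ∨ etaOf D i s = -1 := by
  have h1 := (Cfsg.Agent.S1095.nCheck_of_mem D hD i hi).eta s hs
  unfold etaCheckS at h1
  simp only [Bool.and_eq_true, Bool.or_eq_true, beq_iff_eq] at h1
  exact h1.1.1

/-- the conjugation formula with the explicit sign `etaOf` -/
theorem conj_formula {F : Type*} [Field F] (D : ChevalleyDatum)
    (hD : D ∈ [chevG2, chevB2, chevD4, chevF4, chevE6, chevE7, chevE8]) (i s : ℕ) (hi : i < D.rank)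
    (hs : s < D.nroots) :
    D.reflectRoot i s < D.nroots ∧ ∀ t : F, D.nMat F (D.simple i) 1 * D.x F s t =
      D.x F (D.reflectRoot i s) (((etaOf D i s : ℤ) : F) * t) * D.nMat F (D.simple i) 1 := by
  obtain ⟨hs', h⟩ := nMono_mul_xMat_all (F := F) D (nxAll_of_mem D hD) i hi ⟨s, hs⟩
  refine ⟨hs', fun t => ?_⟩
  rw [Cfsg.Agent.S1095.nMat_eq D hD i hi, x_eq_xMat D s hs, x_eq_xMat D _ hs']
  exact h t

/-- For a fundamental root `p = p_{i+1}` and any root `s`: `n_p x_s(t) n_p⁻¹ = x_{w_p(s)}(η t)` with a sign `η = ±1` independent of `t`, where `w_p(s)` is the reflected root (`reflectRoot`). Stated as `n_p x_s(t) = x_{w_p(s)}(η t) n_p`. -/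
theorem result {F : Type*} [Field F] (D : Cfsg.Lie.ChevalleyDatum) (hD : D ∈ [Cfsg.Lie.chevG2, Cfsg.Lie.chevB2, Cfsg.Lie.chevD4, Cfsg.Lie.chevF4, Cfsg.Lie.chevE6, Cfsg.Lie.chevE7, Cfsg.Lie.chevE8]) (i s : ℕ) (hi : i < D.rank) (hs : s < D.nroots) :
    ∃ η : ℤ, (η = 1 ∨ η = -1) ∧
      ∀ t : F, D.nMat F (D.simple i) 1 * D.x F s t = D.x F (D.reflectRoot i s) ((η : F) * t) * D.nMat F (D.simple i) 1 := by
  exact ⟨etaOf D i s, eta_sq D hD i s hi hs, (conj_formula D hD i s hi hs).2⟩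

end Cfsg.Agent.S1031
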