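import Mathlib
import Cfsg.Agent.S1023
import Cfsg.Agent.S1031
import Cfsg.Agent.Lib_helper5_ChevTorus
import Cfsg.Agent.Lib_helper5_ChevRootsSmall
import Cfsg.Agent.Lib_helper5_ChevRootsE7
import Cfsg.Agent.Lib_helper5_ChevRootsE8

set_option autoImplicit false

/-! Group-level relations in Chevalley groups: root elements `xG`, the elements `nGt`, `hGt`,
conjugation by `n_p`, normality of `H` in `N`, generation (helper5). -/

namespace Cfsg.Agent.helper5.Chev

open Cfsg.Lie

theorem rootsOK_of_mem (D : ChevalleyDatum)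
    (hD : D ∈ [chevG2, chevB2, chevD4, chevF4, chevE6, chevE7, chevE8]) : RootsOK D := by
  simp only [List.mem_cons, List.not_mem_nil, or_false] at hD
  rcases hD with rfl | rfl | rfl | rfl | rfl | rfl | rfl
  · exact rootsOK_G2
  · exact rootsOK_B2
  · exact rootsOK_D4
  · exact rootsOK_F4
  · exact rootsOK_E6
  · exact rootsOK_E7
  · exact rootsOK_E8

section
variable {F : Type*} [Field F] (D : ChevalleyDatum)
  (hD : D ∈ [chevG2, chevB2, chevD4, chevF4, chevE6, chevE7, chevE8])

theorem x_zero_nat (r : ℕ) : D.x F r 0 = 1 := by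
  unfold ChevalleyDatum.x
  split_ifs with h
  · exact xMat_zero D ⟨r, h⟩
  · rfl

include hD in
theorem x_add_nat (r : ℕ) (t u : F) : D.x F r t * D.x F r u = D.x F r (t + u) := by
  by_cases h : r < D.nroots
  · exact Cfsg.Agent.S1023.result D hD r h t u
  · have e : ∀ v : F, D.x F r v = 1 := by
      intro v
      unfold ChevalleyDatum.x
      rw [dif_neg h]
    rw [e, e, e, one_mul]

/-- the root element as an element of the general linear group -/
def xG (r : ℕ) (t : F) : GL D.Idx F :=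
  ⟨D.x F r t, D.x F r (-t), by rw [x_add_nat D hD, add_neg_cancel, x_zero_nat],
    by rw [x_add_nat D hD, neg_add_cancel, x_zero_nat]⟩

@[simp] theorem xG_val (r : ℕ) (t : F) : ((xG D hD r t : GL D.Idx F) : Matrix D.Idx D.Idx F) = D.x F r t := rfl

theorem eq_xG (g : GL D.Idx F) (r : ℕ) (t : F) (h : (g : Matrix D.Idx D.Idx F) = D.x F r t) :
    g = xG D hD r t := Units.ext h

theorem xG_mul (r : ℕ) (t u : F) : xG D hD r t * xG D hD r u = xG D hD r (t + u) := by
  apply Units.ext
  rw [Units.val_mul, xG_val, xG_val, xG_val, x_add_nat D hD]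

theorem xG_zero (r : ℕ) : xG D hD r (0 : F) = 1 := by
  apply Units.ext
  rw [xG_val, x_zero_nat, Units.val_one]

theorem xG_inv (r : ℕ) (t : F) : (xG D hD r t)⁻¹ = xG D hD r (-t) := by
  rw [inv_eq_iff_mul_eq_one, xG_mul, add_neg_cancel, xG_zero]

/-- `n_r(t) = x_r(t) x_{-r}(-t⁻¹) x_r(t)` -/
def nGt (r : ℕ) (t : F) : GL D.Idx F :=
  xG D hD r t * xG D hD (D.neg r) (-t⁻¹) * xG D hD r t

theorem nGt_val (r : ℕ) (t : F) :
    ((nGt D hD r t : GL D.Idx F) : Matrix D.Idx D.Idx F) = D.nMat F r t := by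
  unfold nGt ChevalleyDatum.nMat ChevalleyDatum.nWord ChevalleyDatum.wordMat
  simp [mul_assoc]

theorem nGt_neg_one (r : ℕ) : nGt D hD r (-1 : F) = (nGt D hD r 1)⁻¹ := by
  unfold nGt
  rw [mul_inv_rev, mul_inv_rev, xG_inv, xG_inv, mul_assoc]
  norm_num

/-- `h_r(t) = n_r(t) n_r(-1)` -/
def hGt (r : ℕ) (t : F) : GL D.Idx F := nGt D hD r t * nGt D hD r (-1)

theorem hGt_val (r : ℕ) (t : F) :
    ((hGt D hD r t : GL D.Idx F) : Matrix D.Idx D.Idx F) = D.hMat F r t := by
  unfold hGt ChevalleyDatum.hMat ChevalleyDatum.hWord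
  rw [Units.val_mul, nGt_val, nGt_val, wordMat_append]
  rfl

theorem hGt_mem (r : ℕ) (hr : r < D.nroots) (t : F) (ht : t ≠ 0) :
    hGt D hD r t ∈ D.diagonalSubgroup F := by
  unfold ChevalleyDatum.diagonalSubgroup
  apply Subgroup.subset_closure
  exact ⟨r, t, hr, ht, hGt_val D hD r t⟩

theorem nGt_one_mem (r : ℕ) (hr : r < D.nroots) : nGt D hD r (1 : F) ∈ D.monomialSubgroup F := by
  unfold ChevalleyDatum.monomialSubgroup
  apply Subgroup.mem_sup_right
  apply Subgroup.subset_closure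
  exact ⟨r, hr, nGt_val D hD r 1⟩

theorem H_le_N : D.diagonalSubgroup F ≤ D.monomialSubgroup F := by
  unfold ChevalleyDatum.monomialSubgroup
  exact le_sup_left

/-- the square of `n_r` lies in `H` -/
theorem nGt_sq_mem (r : ℕ) (hr : r < D.nroots) :
    nGt D hD r (1 : F) * nGt D hD r 1 ∈ D.diagonalSubgroup F := by
  have h1 := hGt_mem D hD r hr (-1 : F) (by norm_num)
  unfold hGt at h1
  rw [nGt_neg_one] at h1
  have h2 := Subgroup.inv_mem _ h1
  rwa [mul_inv_rev, inv_inv] at h2

/-- **conjugation of a root element by `n_p`**, `p` fundamental -/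
theorem nG_conj (i : ℕ) (hi : i < D.rank) (s : ℕ) (hs : s < D.nroots) (t : F) :
    nGt D hD (D.simple i) 1 * xG D hD s t * (nGt D hD (D.simple i) 1)⁻¹ =
      xG D hD (D.reflectRoot i s) (((etaOf D i s : ℤ) : F) * t) := by
  rw [mul_inv_eq_iff_eq_mul]
  apply Units.ext
  rw [Units.val_mul, Units.val_mul, xG_val, xG_val, nGt_val]
  exact (Cfsg.Agent.S1031.conj_formula D hD i s hi hs).2 t

include hD in
theorem eta_cast_sq (i s : ℕ) (hi : i < D.rank) (hs : s < D.nroots) :
    (((etaOf D i s : ℤ) : F)) * ((etaOf D i s : ℤ) : F) = 1 := by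
  rcases Cfsg.Agent.S1031.eta_sq D hD i s hi hs with h | h <;> rw [h] <;> norm_num

include hD in
theorem eta_neg (i s : ℕ) (hi : i < D.rank) (hs : s < D.nroots) :
    etaOf D i (D.neg s) = etaOf D i s := by
  have h1 := (Cfsg.Agent.S1095.nCheck_of_mem D hD i hi).eta s hs
  unfold etaCheckS at h1
  simp only [Bool.and_eq_true, Bool.or_eq_true, beq_iff_eq] at h1
  have h2 := h1.2
  rcases h1.1.1 with h | h
  · rw [h, one_mul] at h2
    rw [h2, h]
  · rw [h] at h2 ⊢
    omega

/-- conjugation of `n_r(t)` by `n_p` -/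
theorem nG_conj_nGt (i : ℕ) (hi : i < D.rank) (r : ℕ) (hr : r < D.nroots) (t : F) :
    nGt D hD (D.simple i) 1 * nGt D hD r t * (nGt D hD (D.simple i) 1)⁻¹ =
      nGt D hD (D.reflectRoot i r) (((etaOf D i r : ℤ) : F) * t) := by
  have hR := rootsOK_of_mem D hD
  set n := nGt D hD (D.simple i) (1 : F) with hn
  have e1 : n * nGt D hD r t * n⁻¹ =
      (n * xG D hD r t * n⁻¹) * (n * xG D hD (D.neg r) (-t⁻¹) * n⁻¹) * (n * xG D hD r t * n⁻¹) := by
    unfold nGt
    group
  rw [e1, nG_conj D hD i hi r hr, nG_conj D hD i hi _ (hR.neg_lt r hr), hR.refl_neg i hi r hr,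
    eta_neg D hD i r hi hr]
  unfold nGt
  congr 3
  rcases Cfsg.Agent.S1031.eta_sq D hD i r hi hr with h | h <;> rw [h] <;> simp

/-- `n_p` normalises `H` (one direction) -/
theorem nG_conj_H (i : ℕ) (hi : i < D.rank) (h : GL D.Idx F) (hh : h ∈ D.diagonalSubgroup F) :
    nGt D hD (D.simple i) 1 * h * (nGt D hD (D.simple i) 1)⁻¹ ∈ D.diagonalSubgroup F := by
  have hR := rootsOK_of_mem D hD
  set n := nGt D hD (D.simple i) (1 : F) with hn
  have hH : ∀ g : GL D.Idx F, g ∈ D.diagonalSubgroup F ↔ g ∈ D.diagonalSubgroup F := fun _ => Iff.rfl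
  unfold ChevalleyDatum.diagonalSubgroup at hh
  induction hh using Subgroup.closure_induction with
  | mem x hx =>
    obtain ⟨r, t, hr, ht, hx⟩ := hx
    have hx' : x = hGt D hD r t := Units.ext (by rw [hx, hGt_val])
    rw [hx']
    have e1 : n * hGt D hD r t * n⁻¹ =
        (n * nGt D hD r t * n⁻¹) * (n * nGt D hD r (-1) * n⁻¹) := by
      unfold hGt
      group
    rw [e1, nG_conj_nGt D hD i hi r hr, nG_conj_nGt D hD i hi r hr]
    have hr' := hR.refl_lt i hi r hr
    rcases Cfsg.Agent.S1031.eta_sq D hD i r hi hr with h | h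
    · rw [h]
      simp only [Int.cast_one, one_mul]
      exact hGt_mem D hD _ hr' t ht
    · rw [h]
      simp only [Int.cast_neg, Int.cast_one, neg_mul, one_mul, neg_neg]
      -- n_{r'}(-t) n_{r'}(1) = h_{r'}(-t) * (n_{r'}(-1))⁻¹ n_{r'}(1) = h_{r'}(-t) n_{r'}(1)^2
      have e2 : nGt D hD (D.reflectRoot i r) (-t) * nGt D hD (D.reflectRoot i r) 1 =
          hGt D hD (D.reflectRoot i r) (-t) *
            (nGt D hD (D.reflectRoot i r) 1 * nGt D hD (D.reflectRoot i r) 1) := by
        unfold hGt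
        rw [nGt_neg_one]
        group
      rw [e2]
      exact Subgroup.mul_mem _ (hGt_mem D hD _ hr' (-t) (neg_ne_zero.mpr ht))
        (nGt_sq_mem D hD _ hr')
  | one =>
    rw [mul_one, mul_inv_cancel]
    exact Subgroup.one_mem _
  | mul a b _ _ ha hb =>
    have : n * (a * b) * n⁻¹ = (n * a * n⁻¹) * (n * b * n⁻¹) := by group
    rw [this]
    exact Subgroup.mul_mem _ ha hb
  | inv a _ ha =>
    have : n * a⁻¹ * n⁻¹ = (n * a * n⁻¹)⁻¹ := by group
    rw [this]
    exact Subgroup.inv_mem _ ha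

/-- `n_p` lies in the normaliser of `H` -/
theorem nG_mem_normalizer (i : ℕ) (hi : i < D.rank) :
    nGt D hD (D.simple i) (1 : F) ∈ Subgroup.normalizer (D.diagonalSubgroup F : Set (GL D.Idx F)) := by
  have hR := rootsOK_of_mem D hD
  rw [Subgroup.mem_normalizer_iff]
  intro h
  constructor
  · exact nG_conj_H D hD i hi h
  · intro hh
    set n := nGt D hD (D.simple i) (1 : F) with hn
    have h2 := nG_conj_H D hD i hi _ hh
    have h3 := nGt_sq_mem (F := F) D hD (D.simple i) (hR.simple_lt i hi)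
    rw [← hn] at h2 h3
    have e : h = (n * n)⁻¹ * (n * (n * h * n⁻¹) * n⁻¹) * (n * n) := by group
    rw [e]
    exact Subgroup.mul_mem _ (Subgroup.mul_mem _ (Subgroup.inv_mem _ h3) h2) h3

/-- every `n_r` normalises `H` -/
theorem nGt_mem_normalizer (r : ℕ) (hr : r < D.nroots) :
    nGt D hD r (1 : F) ∈ Subgroup.normalizer (D.diagonalSubgroup F : Set (GL D.Idx F)) := by
  have hR := rootsOK_of_mem D hD
  refine hR.induction (fun r => nGt D hD r (1 : F) ∈
    Subgroup.normalizer (D.diagonalSubgroup F : Set (GL D.Idx F))) ?_ ?_ r hr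
  · intro i hi
    exact nG_mem_normalizer D hD i hi
  · intro i hi s hs hP
    have h1 := nG_mem_normalizer (F := F) D hD i hi
    have h2 : nGt D hD (D.simple i) 1 * nGt D hD s (1 : F) * (nGt D hD (D.simple i) 1)⁻¹ ∈
        Subgroup.normalizer (D.diagonalSubgroup F : Set (GL D.Idx F)) :=
      Subgroup.mul_mem _ (Subgroup.mul_mem _ h1 hP) (Subgroup.inv_mem _ h1)
    rw [nG_conj_nGt D hD i hi s hs] at h2
    rcases Cfsg.Agent.S1031.eta_sq D hD i s hi hs with h | h
    · rw [h] at h2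
      simpa using h2
    · rw [h] at h2
      simp only [Int.cast_neg, Int.cast_one, neg_mul, one_mul] at h2
      rw [nGt_neg_one] at h2
      have := Subgroup.inv_mem _ h2
      rwa [inv_inv] at this

include hD in
/-- **`N` normalises `H`.** -/
theorem N_le_normalizer_H :
    D.monomialSubgroup F ≤ Subgroup.normalizer (D.diagonalSubgroup F : Set (GL D.Idx F)) := by
  unfold ChevalleyDatum.monomialSubgroup
  apply sup_le
  · exact Subgroup.le_normalizer
  · rw [Subgroup.closure_le]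
    rintro g ⟨r, hr, hg⟩
    have : g = nGt D hD r 1 := Units.ext (by rw [hg, nGt_val])
    rw [this]
    exact nGt_mem_normalizer D hD r hr

/-- every root element lies in `⟨B, N⟩` -/
theorem xG_mem_B_sup_N (r : ℕ) (hr : r < D.nroots) :
    ∀ t : F, xG D hD r t ∈ D.borelSubgroup F ⊔ D.monomialSubgroup F := by
  have hR := rootsOK_of_mem D hD
  refine hR.induction (fun r => ∀ t : F, xG D hD r t ∈ D.borelSubgroup F ⊔ D.monomialSubgroup F)
    ?_ ?_ r hr
  · intro i hi t
    apply Subgroup.mem_sup_left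
    unfold ChevalleyDatum.borelSubgroup
    apply Subgroup.mem_sup_left
    unfold ChevalleyDatum.posUnipotent
    apply Subgroup.subset_closure
    exact ⟨D.simple i, t, hR.simple_pos i hi, rfl⟩
  · intro i hi s hs hP t
    have h1 : nGt D hD (D.simple i) (1 : F) ∈ D.borelSubgroup F ⊔ D.monomialSubgroup F :=
      Subgroup.mem_sup_right (nGt_one_mem D hD _ (hR.simple_lt i hi))
    have h2 := Subgroup.mul_mem _ (Subgroup.mul_mem _ h1 (hP (((etaOf D i s : ℤ) : F) * t)))
      (Subgroup.inv_mem _ h1)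
    rw [nG_conj D hD i hi s hs, ← mul_assoc, eta_cast_sq D hD i s hi hs, one_mul] at h2
    exact h2

end

end Cfsg.Agent.helper5.Chev
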