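import Mathlib
import Cfsg.Prelude.Def_ChevStructure
import Cfsg.Agent.Lib_helper5_ChevNX

set_option autoImplicit false

/-! Check functions for a word of the longest Weyl group element (helper5). -/

namespace Cfsg.Agent.helper5.Chev

open Cfsg.Lie

/-- the action of a word in the fundamental reflections on a root index -/
def applyW (D : ChevalleyDatum) (w : List ℕ) (r : ℕ) : ℕ :=
  w.foldr (fun i acc => D.reflectRoot i acc) r

def w0CheckR (D : ChevalleyDatum) (w : List ℕ) (r : ℕ) : Bool :=
  (!decide (D.IsPosRoot r) || decide (D.IsNegRoot (applyW D w r))) &&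
    (!decide (D.IsNegRoot r) || decide (D.IsPosRoot (applyW D w.reverse r)))

def w0CheckRange (D : ChevalleyDatum) (w : List ℕ) (lo n : ℕ) : Bool :=
  (List.range n).all fun k => w0CheckR D w (lo + k)

/-- `w` is a word for the longest element -/
structure W0OK (D : ChevalleyDatum) (w : List ℕ) : Prop where
  lt : ∀ i ∈ w, i < D.rank
  pos : ∀ r < D.nroots, D.IsPosRoot r → D.IsNegRoot (applyW D w r)
  neg : ∀ r < D.nroots, D.IsNegRoot r → D.IsPosRoot (applyW D w.reverse r)

theorem w0OK_of_chunks (D : ChevalleyDatum) (w : List ℕ) (hw : (w.all fun i => decide (i < D.rank)) = true)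
    (n m : ℕ) (hn : 0 < n) (hm : D.nroots ≤ m * n)
    (h : ∀ k < m, w0CheckRange D w (k * n) n = true) : W0OK D w := by
  have key : ∀ r < D.nroots, w0CheckR D w r = true := by
    refine range_of_chunks (fun r => w0CheckR D w r = true) D.nroots n m hn hm ?_
    intro k hk j hj
    have h3 := h k hk
    unfold w0CheckRange at h3
    rw [List.all_eq_true] at h3
    exact h3 j (List.mem_range.mpr hj)
  refine ⟨?_, ?_, ?_⟩
  · intro i hi
    rw [List.all_eq_true] at hw
    simpa using hw i hi
  · intro r hr hp
    have h1 := key r hr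
    unfold w0CheckR at h1
    simp only [Bool.and_eq_true, Bool.or_eq_true, Bool.not_eq_true', decide_eq_false_iff_not,
      decide_eq_true_eq] at h1
    rcases h1.1 with h2 | h2
    · exact absurd hp h2
    · exact h2
  · intro r hr hp
    have h1 := key r hr
    unfold w0CheckR at h1
    simp only [Bool.and_eq_true, Bool.or_eq_true, Bool.not_eq_true', decide_eq_false_iff_not,
      decide_eq_true_eq] at h1
    rcases h1.2 with h2 | h2
    · exact absurd hp h2
    · exact h2

def W0Ex (D : ChevalleyDatum) : Prop := ∃ w : List ℕ, W0OK D w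

end Cfsg.Agent.helper5.Chev
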