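import Mathlib
import Cfsg.Agent.Lib_helper5_ChevW0Chk
import Cfsg.Prelude.Def_ChevE7

set_option autoImplicit false

namespace Cfsg.Agent.helper5.Chev

open Cfsg.Lie

def w0_E7 : List ℕ := [0, 1, 2, 0, 3, 1, 2, 0, 3, 2, 4, 3, 1, 2, 0, 3, 2, 4, 3, 1, 5, 4, 3, 1, 2, 0, 3, 2, 4, 3, 1, 5, 4, 3, 2, 0, 6, 5, 4, 3, 1, 2, 0, 3, 2, 4, 3, 1, 5, 4, 3, 2, 0, 6, 5, 4, 3, 1, 2, 3, 4, 5, 6]

set_option maxRecDepth 1000000 in
set_option maxHeartbeats 0 in
theorem w0C_E7_0 : w0CheckRange chevE7 w0_E7 0 14 = true := by decide +kernel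

set_option maxRecDepth 1000000 in
set_option maxHeartbeats 0 in
theorem w0C_E7_1 : w0CheckRange chevE7 w0_E7 14 14 = true := by decide +kernel

set_option maxRecDepth 1000000 in
set_option maxHeartbeats 0 in
theorem w0C_E7_2 : w0CheckRange chevE7 w0_E7 28 14 = true := by decide +kernel

set_option maxRecDepth 1000000 in
set_option maxHeartbeats 0 in
theorem w0C_E7_3 : w0CheckRange chevE7 w0_E7 42 14 = true := by decide +kernel

set_option maxRecDepth 1000000 in
set_option maxHeartbeats 0 in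
theorem w0C_E7_4 : w0CheckRange chevE7 w0_E7 56 14 = true := by decide +kernel

set_option maxRecDepth 1000000 in
set_option maxHeartbeats 0 in
theorem w0C_E7_5 : w0CheckRange chevE7 w0_E7 70 14 = true := by decide +kernel

set_option maxRecDepth 1000000 in
set_option maxHeartbeats 0 in
theorem w0C_E7_6 : w0CheckRange chevE7 w0_E7 84 14 = true := by decide +kernel

set_option maxRecDepth 1000000 in
set_option maxHeartbeats 0 in
theorem w0C_E7_7 : w0CheckRange chevE7 w0_E7 98 14 = true := by decide +kernel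

set_option maxRecDepth 1000000 in
set_option maxHeartbeats 0 in
theorem w0C_E7_8 : w0CheckRange chevE7 w0_E7 112 14 = true := by decide +kernel

theorem w0OK_E7 : W0Ex chevE7 := by
  refine ⟨w0_E7, ?_⟩
  apply w0OK_of_chunks chevE7 w0_E7 (by decide +kernel) 14 9 (by decide +kernel) (by decide +kernel)
  intro k hk
  interval_cases k
  · exact w0C_E7_0
  · exact w0C_E7_1
  · exact w0C_E7_2
  · exact w0C_E7_3
  · exact w0C_E7_4
  · exact w0C_E7_5
  · exact w0C_E7_6
  · exact w0C_E7_7
  · exact w0C_E7_8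

end Cfsg.Agent.helper5.Chev
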