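import Mathlib
import Cfsg.Agent.Lib_helper5_ChevW0Chk
import Cfsg.Prelude.Def_ChevE8

set_option autoImplicit false

namespace Cfsg.Agent.helper5.Chev

open Cfsg.Lie

def w0_E8 : List ℕ := [0, 1, 2, 0, 3, 1, 2, 0, 3, 2, 4, 3, 1, 2, 0, 3, 2, 4, 3, 1, 5, 4, 3, 1, 2, 0, 3, 2, 4, 3, 1, 5, 4, 3, 2, 0, 6, 5, 4, 3, 1, 2, 0, 3, 2, 4, 3, 1, 5, 4, 3, 2, 0, 6, 5, 4, 3, 1, 2, 3, 4, 5, 6, 7, 6, 5, 4, 3, 1, 2, 0, 3, 2, 4, 3, 1, 5, 4, 3, 2, 0, 6, 5, 4, 3, 1, 2, 3, 4, 5, 6, 7, 6, 5, 4, 3, 1, 2, 0, 3, 2, 4, 3, 1, 5, 4, 3, 2, 0, 6, 5, 4, 3, 1, 2, 3, 4, 5, 6, 7]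

set_option maxRecDepth 1000000 in
set_option maxHeartbeats 0 in
theorem w0C_E8_0 : w0CheckRange chevE8 w0_E8 0 8 = true := by decide +kernel

set_option maxRecDepth 1000000 in
set_option maxHeartbeats 0 in
theorem w0C_E8_1 : w0CheckRange chevE8 w0_E8 8 8 = true := by decide +kernel

set_option maxRecDepth 1000000 in
set_option maxHeartbeats 0 in
theorem w0C_E8_2 : w0CheckRange chevE8 w0_E8 16 8 = true := by decide +kernel

set_option maxRecDepth 1000000 in
set_option maxHeartbeats 0 in
theorem w0C_E8_3 : w0CheckRange chevE8 w0_E8 24 8 = true := by decide +kernel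

set_option maxRecDepth 1000000 in
set_option maxHeartbeats 0 in
theorem w0C_E8_4 : w0CheckRange chevE8 w0_E8 32 8 = true := by decide +kernel

set_option maxRecDepth 1000000 in
set_option maxHeartbeats 0 in
theorem w0C_E8_5 : w0CheckRange chevE8 w0_E8 40 8 = true := by decide +kernel

set_option maxRecDepth 1000000 in
set_option maxHeartbeats 0 in
theorem w0C_E8_6 : w0CheckRange chevE8 w0_E8 48 8 = true := by decide +kernel

set_option maxRecDepth 1000000 in
set_option maxHeartbeats 0 in
theorem w0C_E8_7 : w0CheckRange chevE8 w0_E8 56 8 = true := by decide +kernel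

set_option maxRecDepth 1000000 in
set_option maxHeartbeats 0 in
theorem w0C_E8_8 : w0CheckRange chevE8 w0_E8 64 8 = true := by decide +kernel

set_option maxRecDepth 1000000 in
set_option maxHeartbeats 0 in
theorem w0C_E8_9 : w0CheckRange chevE8 w0_E8 72 8 = true := by decide +kernel

set_option maxRecDepth 1000000 in
set_option maxHeartbeats 0 in
theorem w0C_E8_10 : w0CheckRange chevE8 w0_E8 80 8 = true := by decide +kernel

set_option maxRecDepth 1000000 in
set_option maxHeartbeats 0 in
theorem w0C_E8_11 : w0CheckRange chevE8 w0_E8 88 8 = true := by decide +kernel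

set_option maxRecDepth 1000000 in
set_option maxHeartbeats 0 in
theorem w0C_E8_12 : w0CheckRange chevE8 w0_E8 96 8 = true := by decide +kernel

set_option maxRecDepth 1000000 in
set_option maxHeartbeats 0 in
theorem w0C_E8_13 : w0CheckRange chevE8 w0_E8 104 8 = true := by decide +kernel

set_option maxRecDepth 1000000 in
set_option maxHeartbeats 0 in
theorem w0C_E8_14 : w0CheckRange chevE8 w0_E8 112 8 = true := by decide +kernel

set_option maxRecDepth 1000000 in
set_option maxHeartbeats 0 in
theorem w0C_E8_15 : w0CheckRange chevE8 w0_E8 120 8 = true := by decide +kernel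

set_option maxRecDepth 1000000 in
set_option maxHeartbeats 0 in
theorem w0C_E8_16 : w0CheckRange chevE8 w0_E8 128 8 = true := by decide +kernel

set_option maxRecDepth 1000000 in
set_option maxHeartbeats 0 in
theorem w0C_E8_17 : w0CheckRange chevE8 w0_E8 136 8 = true := by decide +kernel

set_option maxRecDepth 1000000 in
set_option maxHeartbeats 0 in
theorem w0C_E8_18 : w0CheckRange chevE8 w0_E8 144 8 = true := by decide +kernel

set_option maxRecDepth 1000000 in
set_option maxHeartbeats 0 in
theorem w0C_E8_19 : w0CheckRange chevE8 w0_E8 152 8 = true := by decide +kernel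

set_option maxRecDepth 1000000 in
set_option maxHeartbeats 0 in
theorem w0C_E8_20 : w0CheckRange chevE8 w0_E8 160 8 = true := by decide +kernel

set_option maxRecDepth 1000000 in
set_option maxHeartbeats 0 in
theorem w0C_E8_21 : w0CheckRange chevE8 w0_E8 168 8 = true := by decide +kernel

set_option maxRecDepth 1000000 in
set_option maxHeartbeats 0 in
theorem w0C_E8_22 : w0CheckRange chevE8 w0_E8 176 8 = true := by decide +kernel

set_option maxRecDepth 1000000 in
set_option maxHeartbeats 0 in
theorem w0C_E8_23 : w0CheckRange chevE8 w0_E8 184 8 = true := by decide +kernel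

set_option maxRecDepth 1000000 in
set_option maxHeartbeats 0 in
theorem w0C_E8_24 : w0CheckRange chevE8 w0_E8 192 8 = true := by decide +kernel

set_option maxRecDepth 1000000 in
set_option maxHeartbeats 0 in
theorem w0C_E8_25 : w0CheckRange chevE8 w0_E8 200 8 = true := by decide +kernel

set_option maxRecDepth 1000000 in
set_option maxHeartbeats 0 in
theorem w0C_E8_26 : w0CheckRange chevE8 w0_E8 208 8 = true := by decide +kernel

set_option maxRecDepth 1000000 in
set_option maxHeartbeats 0 in
theorem w0C_E8_27 : w0CheckRange chevE8 w0_E8 216 8 = true := by decide +kernel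

set_option maxRecDepth 1000000 in
set_option maxHeartbeats 0 in
theorem w0C_E8_28 : w0CheckRange chevE8 w0_E8 224 8 = true := by decide +kernel

set_option maxRecDepth 1000000 in
set_option maxHeartbeats 0 in
theorem w0C_E8_29 : w0CheckRange chevE8 w0_E8 232 8 = true := by decide +kernel

theorem w0OK_E8 : W0Ex chevE8 := by
  refine ⟨w0_E8, ?_⟩
  apply w0OK_of_chunks chevE8 w0_E8 (by decide +kernel) 8 30 (by decide +kernel) (by decide +kernel)
  intro k hk
  interval_cases k
  · exact w0C_E8_0
  · exact w0C_E8_1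
  · exact w0C_E8_2
  · exact w0C_E8_3
  · exact w0C_E8_4
  · exact w0C_E8_5
  · exact w0C_E8_6
  · exact w0C_E8_7
  · exact w0C_E8_8
  · exact w0C_E8_9
  · exact w0C_E8_10
  · exact w0C_E8_11
  · exact w0C_E8_12
  · exact w0C_E8_13
  · exact w0C_E8_14
  · exact w0C_E8_15
  · exact w0C_E8_16
  · exact w0C_E8_17
  · exact w0C_E8_18
  · exact w0C_E8_19
  · exact w0C_E8_20
  · exact w0C_E8_21
  · exact w0C_E8_22
  · exact w0C_E8_23
  · exact w0C_E8_24
  · exact w0C_E8_25
  · exact w0C_E8_26
  · exact w0C_E8_27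
  · exact w0C_E8_28
  · exact w0C_E8_29

end Cfsg.Agent.helper5.Chev
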