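import Mathlib
import Cfsg.Agent.Lib_helper5_ChevW0Chk
import Cfsg.Prelude.Def_ChevG2
import Cfsg.Prelude.Def_ChevB2
import Cfsg.Prelude.Def_ChevD4
import Cfsg.Prelude.Def_ChevF4
import Cfsg.Prelude.Def_ChevE6

set_option autoImplicit false

namespace Cfsg.Agent.helper5.Chev

open Cfsg.Lie

def w0_G2 : List ℕ := [0, 1, 0, 1, 0, 1]

set_option maxRecDepth 1000000 in
set_option maxHeartbeats 0 in
theorem w0C_G2_0 : w0CheckRange chevG2 w0_G2 0 12 = true := by decide +kernel

theorem w0OK_G2 : W0Ex chevG2 := by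
  refine ⟨w0_G2, ?_⟩
  apply w0OK_of_chunks chevG2 w0_G2 (by decide +kernel) 12 1 (by decide +kernel) (by decide +kernel)
  intro k hk
  interval_cases k
  · exact w0C_G2_0

def w0_B2 : List ℕ := [0, 1, 0, 1]

set_option maxRecDepth 1000000 in
set_option maxHeartbeats 0 in
theorem w0C_B2_0 : w0CheckRange chevB2 w0_B2 0 8 = true := by decide +kernel

theorem w0OK_B2 : W0Ex chevB2 := by
  refine ⟨w0_B2, ?_⟩
  apply w0OK_of_chunks chevB2 w0_B2 (by decide +kernel) 8 1 (by decide +kernel) (by decide +kernel)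
  intro k hk
  interval_cases k
  · exact w0C_B2_0

def w0_D4 : List ℕ := [0, 1, 0, 2, 1, 0, 3, 1, 0, 2, 1, 3]

set_option maxRecDepth 1000000 in
set_option maxHeartbeats 0 in
theorem w0C_D4_0 : w0CheckRange chevD4 w0_D4 0 24 = true := by decide +kernel

theorem w0OK_D4 : W0Ex chevD4 := by
  refine ⟨w0_D4, ?_⟩
  apply w0OK_of_chunks chevD4 w0_D4 (by decide +kernel) 24 1 (by decide +kernel) (by decide +kernel)
  intro k hk
  interval_cases k
  · exact w0C_D4_0

def w0_F4 : List ℕ := [0, 1, 0, 2, 1, 0, 2, 1, 2, 3, 2, 1, 0, 2, 1, 2, 3, 2, 1, 0, 2, 1, 2, 3]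

set_option maxRecDepth 1000000 in
set_option maxHeartbeats 0 in
theorem w0C_F4_0 : w0CheckRange chevF4 w0_F4 0 24 = true := by decide +kernel

set_option maxRecDepth 1000000 in
set_option maxHeartbeats 0 in
theorem w0C_F4_1 : w0CheckRange chevF4 w0_F4 24 24 = true := by decide +kernel

theorem w0OK_F4 : W0Ex chevF4 := by
  refine ⟨w0_F4, ?_⟩
  apply w0OK_of_chunks chevF4 w0_F4 (by decide +kernel) 24 2 (by decide +kernel) (by decide +kernel)
  intro k hk
  interval_cases k
  · exact w0C_F4_0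
  · exact w0C_F4_1

def w0_E6 : List ℕ := [0, 1, 2, 0, 3, 1, 2, 0, 3, 2, 4, 3, 1, 2, 0, 3, 2, 4, 3, 1, 5, 4, 3, 1, 2, 0, 3, 2, 4, 3, 1, 5, 4, 3, 2, 0]

set_option maxRecDepth 1000000 in
set_option maxHeartbeats 0 in
theorem w0C_E6_0 : w0CheckRange chevE6 w0_E6 0 12 = true := by decide +kernel

set_option maxRecDepth 1000000 in
set_option maxHeartbeats 0 in
theorem w0C_E6_1 : w0CheckRange chevE6 w0_E6 12 12 = true := by decide +kernel

set_option maxRecDepth 1000000 in
set_option maxHeartbeats 0 in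
theorem w0C_E6_2 : w0CheckRange chevE6 w0_E6 24 12 = true := by decide +kernel

set_option maxRecDepth 1000000 in
set_option maxHeartbeats 0 in
theorem w0C_E6_3 : w0CheckRange chevE6 w0_E6 36 12 = true := by decide +kernel

set_option maxRecDepth 1000000 in
set_option maxHeartbeats 0 in
theorem w0C_E6_4 : w0CheckRange chevE6 w0_E6 48 12 = true := by decide +kernel

set_option maxRecDepth 1000000 in
set_option maxHeartbeats 0 in
theorem w0C_E6_5 : w0CheckRange chevE6 w0_E6 60 12 = true := by decide +kernel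

theorem w0OK_E6 : W0Ex chevE6 := by
  refine ⟨w0_E6, ?_⟩
  apply w0OK_of_chunks chevE6 w0_E6 (by decide +kernel) 12 6 (by decide +kernel) (by decide +kernel)
  intro k hk
  interval_cases k
  · exact w0C_E6_0
  · exact w0C_E6_1
  · exact w0C_E6_2
  · exact w0C_E6_3
  · exact w0C_E6_4
  · exact w0C_E6_5

end Cfsg.Agent.helper5.Chev
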