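import Mathlib
import Cfsg.Agent.Lib_helper5_ChevBN1
import Cfsg.Agent.Lib_helper5_ChevW0Small
import Cfsg.Agent.Lib_helper5_ChevW0E7
import Cfsg.Agent.Lib_helper5_ChevW0E8

set_option autoImplicit false

/-! Words in the elements `n_p`: conjugation of root elements, the longest element (helper5). -/

namespace Cfsg.Agent.helper5.Chev

open Cfsg.Lie

theorem w0Ex_of_mem (D : ChevalleyDatum)
    (hD : D ∈ [chevG2, chevB2, chevD4, chevF4, chevE6, chevE7, chevE8]) : W0Ex D := by
  simp only [List.mem_cons, List.not_mem_nil, or_false] at hD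
  rcases hD with rfl | rfl | rfl | rfl | rfl | rfl | rfl
  · exact w0OK_G2
  · exact w0OK_B2
  · exact w0OK_D4
  · exact w0OK_F4
  · exact w0OK_E6
  · exact w0OK_E7
  · exact w0OK_E8

section
variable {F : Type*} [Field F] (D : ChevalleyDatum)
  (hD : D ∈ [chevG2, chevB2, chevD4, chevF4, chevE6, chevE7, chevE8])

/-- the product of the `n_p` along a word -/
def nW (w : List ℕ) : GL D.Idx F := (w.map fun i => nGt D hD (D.simple i) (1 : F)).prod

theorem nW_cons (i : ℕ) (w : List ℕ) :
    nW D hD (i :: w) = nGt D hD (D.simple i) (1 : F) * nW D hD w := by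
  unfold nW
  rw [List.map_cons, List.prod_cons]

theorem nW_mem (w : List ℕ) (hw : ∀ i ∈ w, i < D.rank) :
    nW D hD w ∈ D.monomialSubgroup F := by
  have hR := rootsOK_of_mem D hD
  induction w with
  | nil => exact Subgroup.one_mem _
  | cons i w ih =>
    rw [nW_cons]
    exact Subgroup.mul_mem _ (nGt_one_mem D hD _ (hR.simple_lt i (hw i List.mem_cons_self)))
      (ih fun j hj => hw j (List.mem_cons_of_mem _ hj))

include hD in
theorem applyW_lt (w : List ℕ) (hw : ∀ i ∈ w, i < D.rank) (r : ℕ) (hr : r < D.nroots) :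
    applyW D w r < D.nroots := by
  have hR := rootsOK_of_mem D hD
  induction w with
  | nil => exact hr
  | cons i w ih =>
    have : applyW D (i :: w) r = D.reflectRoot i (applyW D w r) := rfl
    rw [this]
    exact hR.refl_lt i (hw i List.mem_cons_self) _ (ih fun j hj => hw j (List.mem_cons_of_mem _ hj))

theorem applyW_append (w₁ w₂ : List ℕ) (r : ℕ) :
    applyW D (w₁ ++ w₂) r = applyW D w₁ (applyW D w₂ r) := by
  unfold applyW
  rw [List.foldr_append]

include hD in
theorem applyW_rev (w : List ℕ) (hw : ∀ i ∈ w, i < D.rank) :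
    ∀ s < D.nroots, applyW D w (applyW D w.reverse s) = s := by
  have hR := rootsOK_of_mem D hD
  induction w with
  | nil => intro s _; rfl
  | cons i w ih =>
    intro s hs
    have hi := hw i List.mem_cons_self
    have hw' : ∀ j ∈ w, j < D.rank := fun j hj => hw j (List.mem_cons_of_mem _ hj)
    rw [List.reverse_cons, applyW_append]
    have e1 : applyW D [i] s = D.reflectRoot i s := rfl
    have e2 : ∀ x, applyW D (i :: w) x = D.reflectRoot i (applyW D w x) := fun _ => rfl
    rw [e1, e2, ih hw' _ (hR.refl_lt i hi s hs), hR.refl_refl i hi s hs]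

/-- **conjugation of a root element by a word in the `n_p`** -/
theorem nW_conj (w : List ℕ) (hw : ∀ i ∈ w, i < D.rank) (r : ℕ) (hr : r < D.nroots) :
    ∃ ε : F, ε * ε = 1 ∧ ∀ t : F,
      nW D hD w * xG D hD r t * (nW D hD w)⁻¹ = xG D hD (applyW D w r) (ε * t) := by
  induction w with
  | nil =>
    refine ⟨1, one_mul 1, fun t => ?_⟩
    unfold nW
    simp [applyW]
  | cons i w ih =>
    have hi := hw i List.mem_cons_self
    have hw' : ∀ j ∈ w, j < D.rank := fun j hj => hw j (List.mem_cons_of_mem _ hj)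
    obtain ⟨ε, hε, hc⟩ := ih hw'
    have hlt := applyW_lt D hD w hw' r hr
    refine ⟨((etaOf D i (applyW D w r) : ℤ) : F) * ε, ?_, fun t => ?_⟩
    · have := eta_cast_sq (F := F) D hD i (applyW D w r) hi hlt
      calc ((etaOf D i (applyW D w r) : ℤ) : F) * ε * (((etaOf D i (applyW D w r) : ℤ) : F) * ε)
          = (((etaOf D i (applyW D w r) : ℤ) : F) * ((etaOf D i (applyW D w r) : ℤ) : F)) *
              (ε * ε) := by ring
        _ = 1 := by rw [this, hε, one_mul]
    · rw [nW_cons]
      have e : nGt D hD (D.simple i) 1 * nW D hD w * xG D hD r t *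
          (nGt D hD (D.simple i) 1 * nW D hD w)⁻¹ =
          nGt D hD (D.simple i) 1 * (nW D hD w * xG D hD r t * (nW D hD w)⁻¹) *
            (nGt D hD (D.simple i) 1)⁻¹ := by group
      rw [e, hc t, nG_conj D hD i hi _ hlt, mul_assoc]
      rfl

end

end Cfsg.Agent.helper5.Chev
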