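import Mathlib
import Cfsg.Prelude.Def_ChevStructure
import Cfsg.Agent.Lib_helper5_ChevNX

set_option autoImplicit false

/-! Check functions for Chevalley's commutator formula by transport (helper5). -/

namespace Cfsg.Agent.helper5.Chev

open Cfsg.Lie

/-- the commutator word in the calculator (`X = t`, `Y = u`) -/
def commWordP (D : ChevalleyDatum) (r s : ℕ) : List (ℕ × Poly) :=
  (D.commTerms r s).map fun c =>
    (c.1, pmul (pconst c.2.1) (pmul (ppow (pneg pX) c.2.2.1) (ppow pY c.2.2.2)))

def commBaseCheckB (D : ChevalleyDatum) (r s b : ℕ) : Bool :=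
  appWord D [(s, pY), (r, pX)] (vsingle b (pconst 1)) ==
    appWord D ([(r, pX), (s, pY)] ++ commWordP D r s) (vsingle b (pconst 1))

def commBaseCheck (D : ChevalleyDatum) (r s : ℕ) : Bool :=
  decide (r < D.nroots) && decide (s < D.nroots) &&
  ((D.commTerms r s).all fun c => decide (c.1 < D.nroots)) &&
  (List.range (D.rank + D.nroots)).all fun b => commBaseCheckB D r s b

def commBaseColsRange (D : ChevalleyDatum) (r s lo n : ℕ) : Bool :=
  (List.range n).all fun k => commBaseCheckB D r s (lo + k)

theorem commBaseCheck_of_chunks (D : ChevalleyDatum) (r s n m : ℕ) (hn : 0 < n)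
    (hm : D.rank + D.nroots ≤ m * n) (hr : r < D.nroots) (hs : s < D.nroots)
    (hq : ((D.commTerms r s).all fun c => decide (c.1 < D.nroots)) = true)
    (h : ∀ k < m, commBaseColsRange D r s (k * n) n = true) : commBaseCheck D r s = true := by
  unfold commBaseCheck
  rw [Bool.and_eq_true, Bool.and_eq_true, Bool.and_eq_true, decide_eq_true_eq, decide_eq_true_eq]
  refine ⟨⟨⟨hr, hs⟩, hq⟩, ?_⟩
  rw [List.all_eq_true]
  intro b hb
  rw [List.mem_range] at hb
  refine range_of_chunks (fun b => commBaseCheckB D r s b = true) (D.rank + D.nroots) n m hn hm ?_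
    b hb
  intro k hk j hj
  have h3 := h k hk
  unfold commBaseColsRange at h3
  rw [List.all_eq_true] at h3
  exact h3 j (List.mem_range.mpr hj)

/-- the certificate check for one pair of roots -/
def pairCheck (D : ChevalleyDatum) (rts : List (List ℕ)) (etas : List (List ℤ))
    (tab : List (List ℕ)) (base : List (ℕ × ℕ)) (r s : ℕ) : Bool :=
  (s == r) || (s + r + 1 == D.nroots) ||
  (if (tab.getD r []).getD s 0 / 16 == 0 then base.contains (r, s) else
    decide ((tab.getD r []).getD s 0 % 16 < D.rank) &&
    decide ((rts.getD ((tab.getD r []).getD s 0 % 16) []).getD r 0 < D.nroots) &&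
    decide ((rts.getD ((tab.getD r []).getD s 0 % 16) []).getD s 0 < D.nroots) &&
    !((rts.getD ((tab.getD r []).getD s 0 % 16) []).getD s 0 ==
        (rts.getD ((tab.getD r []).getD s 0 % 16) []).getD r 0) &&
    !((rts.getD ((tab.getD r []).getD s 0 % 16) []).getD s 0 +
        (rts.getD ((tab.getD r []).getD s 0 % 16) []).getD r 0 + 1 == D.nroots) &&
    decide ((tab.getD ((rts.getD ((tab.getD r []).getD s 0 % 16) []).getD r 0) []).getD
        ((rts.getD ((tab.getD r []).getD s 0 % 16) []).getD s 0) 0 / 16 <
          (tab.getD r []).getD s 0 / 16) &&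
    ((D.commTerms ((rts.getD ((tab.getD r []).getD s 0 % 16) []).getD r 0)
        ((rts.getD ((tab.getD r []).getD s 0 % 16) []).getD s 0)).all fun c =>
          decide (c.1 < D.nroots)) &&
    (D.commTerms r s ==
      (D.commTerms ((rts.getD ((tab.getD r []).getD s 0 % 16) []).getD r 0)
        ((rts.getD ((tab.getD r []).getD s 0 % 16) []).getD s 0)).map fun c =>
          ((rts.getD ((tab.getD r []).getD s 0 % 16) []).getD c.1 0,
            (etas.getD ((tab.getD r []).getD s 0 % 16) []).getD c.1 0 * c.2.1 *
              (etas.getD ((tab.getD r []).getD s 0 % 16) []).getD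
                ((rts.getD ((tab.getD r []).getD s 0 % 16) []).getD r 0) 0 ^ c.2.2.1 *
              (etas.getD ((tab.getD r []).getD s 0 % 16) []).getD
                ((rts.getD ((tab.getD r []).getD s 0 % 16) []).getD s 0) 0 ^ c.2.2.2,
            c.2.2.1, c.2.2.2)))

def pairCheckRange (D : ChevalleyDatum) (rts : List (List ℕ)) (etas : List (List ℤ))
    (tab : List (List ℕ)) (base : List (ℕ × ℕ)) (r lo n : ℕ) : Bool :=
  (List.range n).all fun k => pairCheck D rts etas tab base r (lo + k)

theorem pairCheck_of_chunks (D : ChevalleyDatum) (rts : List (List ℕ)) (etas : List (List ℤ))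
    (tab : List (List ℕ)) (base : List (ℕ × ℕ)) (r n m : ℕ) (hn : 0 < n)
    (hm : D.nroots ≤ m * n)
    (h : ∀ k < m, pairCheckRange D rts etas tab base r (k * n) n = true) :
    ∀ s < D.nroots, pairCheck D rts etas tab base r s = true := by
  refine range_of_chunks (fun s => pairCheck D rts etas tab base r s = true) D.nroots n m hn hm ?_
  intro k hk j hj
  have h3 := h k hk
  unfold pairCheckRange at h3
  rw [List.all_eq_true] at h3
  exact h3 j (List.mem_range.mpr hj)

/-- the whole certificate for a datum -/
structure CommCert (D : ChevalleyDatum) (rts : List (List ℕ)) (etas : List (List ℤ))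
    (tab : List (List ℕ)) (base : List (ℕ × ℕ)) : Prop where
  hneg : ∀ r < D.nroots, D.neg r + r + 1 = D.nroots
  htabs : ∀ i < D.rank, ∃ ca : List ℤ, NXTab D i ca (rts.getD i []) (etas.getD i [])
  hbase : ∀ p ∈ base, commBaseCheck D p.1 p.2 = true
  hchk : ∀ r < D.nroots, ∀ s < D.nroots, pairCheck D rts etas tab base r s = true

def CommOK (D : ChevalleyDatum) : Prop :=
  ∃ (rts : List (List ℕ)) (etas : List (List ℤ)) (tab : List (List ℕ)) (base : List (ℕ × ℕ)),
    CommCert D rts etas tab base

end Cfsg.Agent.helper5.Chev
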