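import Mathlib
import Cfsg.Agent.Lib_helper5_ChevBN1
import Cfsg.Agent.Lib_helper5_ChevCommChk

set_option autoImplicit false

/-! Chevalley's commutator formula by transport along fundamental reflections (helper5). -/

namespace Cfsg.Agent.helper5.Chev

open Cfsg.Lie

theorem commTerms_exp_pos (D : ChevalleyDatum) (r s : ℕ) :
    ∀ c ∈ D.commTerms r s, 1 ≤ c.2.2.1 ∧ 1 ≤ c.2.2.2 := by
  intro c hc
  unfold ChevalleyDatum.commTerms at hc
  simp only [List.mem_filterMap, List.mem_cons, List.not_mem_nil, or_false] at hc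
  obtain ⟨a, ha, hac⟩ := hc
  rcases ha with rfl | rfl | rfl | rfl | rfl | rfl | rfl <;>
  · simp only [Option.map_eq_some_iff] at hac
    obtain ⟨k, _, rfl⟩ := hac
    simp

section
variable {F : Type*} [Field F] (D : ChevalleyDatum)
  (hD : D ∈ [chevG2, chevB2, chevD4, chevF4, chevE6, chevE7, chevE8])

/-- the right-hand side of the commutator formula as a group element -/
def cwG (r s : ℕ) (t u : F) : GL D.Idx F :=
  ((D.commTerms r s).map fun c =>
    xG D hD c.1 (((c.2.1 : ℤ) : F) * (-t) ^ c.2.2.1 * u ^ c.2.2.2)).prod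

theorem cwG_val (r s : ℕ) (t u : F) :
    ((cwG D hD r s t u : GL D.Idx F) : Matrix D.Idx D.Idx F) =
      D.wordMat F (D.commWord F r s t u) := by
  unfold cwG ChevalleyDatum.wordMat ChevalleyDatum.commWord
  rw [← Units.coeHom_apply, map_list_prod, List.map_map, List.map_map]
  rfl

/-- the commutator formula for the pair `(r, s)` at the group level -/
def CommF (r s : ℕ) : Prop :=
  ∀ t u : F, xG D hD s u * xG D hD r t = xG D hD r t * xG D hD s u * cwG D hD r s t u

theorem cwG_zero_left (r s : ℕ) (u : F) : cwG D hD r s (0 : F) u = 1 := by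
  unfold cwG
  apply List.prod_eq_one
  intro g hg
  rw [List.mem_map] at hg
  obtain ⟨c, hc, rfl⟩ := hg
  have h1 := (commTerms_exp_pos D r s c hc).1
  have : (-(0 : F)) ^ c.2.2.1 = 0 := by
    rw [neg_zero]
    exact zero_pow (by omega)
  rw [this, mul_zero, zero_mul, xG_zero]

theorem cwG_zero_right (r s : ℕ) (t : F) : cwG D hD r s t (0 : F) = 1 := by
  unfold cwG
  apply List.prod_eq_one
  intro g hg
  rw [List.mem_map] at hg
  obtain ⟨c, hc, rfl⟩ := hg
  have h1 := (commTerms_exp_pos D r s c hc).2
  have : (0 : F) ^ c.2.2.2 = 0 := zero_pow (by omega)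
  rw [this, mul_zero, xG_zero]

theorem commWordP_eval (r s : ℕ) (t u : F) (ht : t ≠ 0) (hu : u ≠ 0) :
    (commWordP D r s).map (fun a => (a.1, pEval t u a.2)) = D.commWord F r s t u := by
  unfold commWordP ChevalleyDatum.commWord
  rw [List.map_map]
  apply List.map_congr_left
  intro c _
  simp only [Function.comp]
  rw [pEval_pmul t u ht hu, pEval_pmul t u ht hu, pEval_pconst, pEval_ppow t u ht hu,
    pEval_ppow t u ht hu, pEval_pneg, pEval_pX, pEval_pY, mul_assoc]

/-- the commutator formula for a pair from the direct check -/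
theorem commF_of_base (r s : ℕ) (h : commBaseCheck D r s = true) : CommF D hD r s (F := F) := by
  unfold commBaseCheck at h
  simp only [Bool.and_eq_true, decide_eq_true_eq, List.all_eq_true, List.mem_range] at h
  obtain ⟨⟨⟨hr, hs⟩, hq⟩, hcols⟩ := h
  intro t u
  by_cases ht : t = 0
  · rw [ht, xG_zero, cwG_zero_left, mul_one, one_mul, mul_one]
  by_cases hu : u = 0
  · rw [hu, xG_zero, cwG_zero_right, mul_one, one_mul, mul_one]
  apply Units.ext
  rw [Units.val_mul, Units.val_mul, Units.val_mul, xG_val, xG_val, cwG_val]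
  apply matrix_eq_of_units D t u
  intro idx row
  have h4 := hcols (code D idx) (code_lt D idx)
  unfold commBaseCheckB at h4
  rw [beq_iff_eq] at h4
  have hw1 : ∀ a ∈ [(s, pY), (r, pX)], a.1 < D.nroots := by
    intro a ha
    simp only [List.mem_cons, List.not_mem_nil, or_false] at ha
    rcases ha with rfl | rfl
    · exact hs
    · exact hr
  have hw2 : ∀ a ∈ [(r, pX), (s, pY)] ++ commWordP D r s, a.1 < D.nroots := by
    intro a ha
    rw [List.mem_append] at ha
    rcases ha with ha | ha
    · simp only [List.mem_cons, List.not_mem_nil, or_false] at ha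
      rcases ha with rfl | rfl
      · exact hr
      · exact hs
    · unfold commWordP at ha
      rw [List.mem_map] at ha
      obtain ⟨c, hc, rfl⟩ := ha
      exact hq c hc
  have e1 := vEval_appWord D t u ht hu [(s, pY), (r, pX)] hw1 (vsingle (code D idx) (pconst 1)) row
  have e2 := vEval_appWord D t u ht hu ([(r, pX), (s, pY)] ++ commWordP D r s) hw2
    (vsingle (code D idx) (pconst 1)) row
  rw [h4, e2] at e1
  have m1 : D.wordMat F (([(s, pY), (r, pX)] : List (ℕ × Poly)).map fun a => (a.1, pEval t u a.2)) =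
      D.x F s u * D.x F r t := by
    unfold ChevalleyDatum.wordMat
    simp [pEval_pX, pEval_pY]
  have m2 : D.wordMat F (([(r, pX), (s, pY)] ++ commWordP D r s).map fun a => (a.1, pEval t u a.2)) =
      D.x F r t * D.x F s u * D.wordMat F (D.commWord F r s t u) := by
    rw [List.map_append, wordMat_append, commWordP_eval D r s t u ht hu]
    congr 1
    unfold ChevalleyDatum.wordMat
    simp [pEval_pX, pEval_pY]
  rw [m1, m2] at e1
  exact e1.symm

theorem scal_id (a b e c t u : F) (ha : a * a = 1) (hb : b * b = 1) (j k : ℕ) :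
    e * (c * (-t) ^ j * u ^ k) = (e * c * a ^ j * b ^ k) * (-(a * t)) ^ j * (b * u) ^ k := by
  have h0 : (-(a * t)) ^ j = a ^ j * (-t) ^ j := by
    rw [← mul_pow]
    congr 1
    ring
  have h1 : a ^ j * a ^ j = 1 := by rw [← mul_pow, ha, one_pow]
  have h2 : b ^ k * b ^ k = 1 := by rw [← mul_pow, hb, one_pow]
  rw [h0, mul_pow b u k]
  have : e * c * a ^ j * b ^ k * (a ^ j * (-t) ^ j) * (b ^ k * u ^ k) =
      e * c * (a ^ j * a ^ j) * (b ^ k * b ^ k) * (-t) ^ j * u ^ k := by ring
  rw [this, h1, h2]
  ring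

/-- **transport of the commutator formula along a fundamental reflection** -/
theorem commF_transport (i : ℕ) (hi : i < D.rank) (r s : ℕ) (hr : r < D.nroots)
    (hs : s < D.nroots) (hq : ∀ c ∈ D.commTerms r s, c.1 < D.nroots)
    (hcons : D.commTerms (D.reflectRoot i r) (D.reflectRoot i s) =
      (D.commTerms r s).map fun c => (D.reflectRoot i c.1,
        etaOf D i c.1 * c.2.1 * etaOf D i r ^ c.2.2.1 * etaOf D i s ^ c.2.2.2, c.2.2.1, c.2.2.2))
    (h : CommF D hD r s (F := F)) : CommF D hD (D.reflectRoot i r) (D.reflectRoot i s) (F := F) := by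
  intro t' u'
  set n := nGt D hD (D.simple i) (1 : F) with hn
  set a : F := ((etaOf D i r : ℤ) : F) with ha
  set b : F := ((etaOf D i s : ℤ) : F) with hb
  have haa : a * a = 1 := eta_cast_sq D hD i r hi hr
  have hbb : b * b = 1 := eta_cast_sq D hD i s hi hs
  have h1 := h (a * t') (b * u')
  have h2 : n * (xG D hD s (b * u') * xG D hD r (a * t')) * n⁻¹ =
      n * (xG D hD r (a * t') * xG D hD s (b * u') * cwG D hD r s (a * t') (b * u')) * n⁻¹ := by
    rw [h1]
  have e1 : n * (xG D hD s (b * u') * xG D hD r (a * t')) * n⁻¹ =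
      (n * xG D hD s (b * u') * n⁻¹) * (n * xG D hD r (a * t') * n⁻¹) := by group
  have e2 : n * (xG D hD r (a * t') * xG D hD s (b * u') * cwG D hD r s (a * t') (b * u')) * n⁻¹ =
      (n * xG D hD r (a * t') * n⁻¹) * (n * xG D hD s (b * u') * n⁻¹) *
        (n * cwG D hD r s (a * t') (b * u') * n⁻¹) := by group
  rw [e1, e2, nG_conj D hD i hi s hs, nG_conj D hD i hi r hr, ← ha, ← hb, ← mul_assoc, ← mul_assoc,
    haa, hbb, one_mul, one_mul] at h2
  rw [h2]
  congr 1
  -- the conjugate of the commutator word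
  have e3 : n * cwG D hD r s (a * t') (b * u') * n⁻¹ =
      MulAut.conj n (cwG D hD r s (a * t') (b * u')) := by
    rw [MulAut.conj_apply]
  rw [e3]
  unfold cwG
  rw [map_list_prod, List.map_map, hcons, List.map_map]
  congr 1
  apply List.map_congr_left
  intro c hc
  simp only [Function.comp, MulAut.conj_apply]
  rw [nG_conj D hD i hi c.1 (hq c hc)]
  congr 1
  push_cast
  rw [← ha, ← hb]
  have := scal_id a b (((etaOf D i c.1 : ℤ) : F)) ((c.2.1 : ℤ) : F) (a * t') (b * u') haa hbb
    c.2.2.1 c.2.2.2
  rw [this, ← mul_assoc a a t', haa, one_mul, ← mul_assoc b b u', hbb, one_mul]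

/-- **the commutator formula for all pairs from the certificate** -/
theorem commF_all (rts : List (List ℕ)) (etas : List (List ℤ)) (tab : List (List ℕ))
    (base : List (ℕ × ℕ))
    (hneg : ∀ r < D.nroots, D.neg r + r + 1 = D.nroots)
    (htabs : ∀ i < D.rank, ∃ ca : List ℤ, NXTab D i ca (rts.getD i []) (etas.getD i []))
    (hbase : ∀ p ∈ base, CommF D hD p.1 p.2 (F := F))
    (hchk : ∀ r < D.nroots, ∀ s < D.nroots, pairCheck D rts etas tab base r s = true) :
    ∀ r < D.nroots, ∀ s < D.nroots, s ≠ r → s ≠ D.neg r → CommF D hD r s (F := F) := by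
  have key : ∀ d : ℕ, ∀ r < D.nroots, ∀ s < D.nroots, s ≠ r → s ≠ D.neg r →
      (tab.getD r []).getD s 0 / 16 = d → CommF D hD r s (F := F) := by
    intro d
    induction d using Nat.strong_induction_on with
    | _ d ih =>
      intro r hr s hs hsr hsn hd
      have h1 := hchk r hr s hs
      unfold pairCheck at h1
      have hf1 : (s == r) = false := by simpa using hsr
      have hf2 : (s + r + 1 == D.nroots) = false := by
        rw [beq_eq_false_iff_ne]
        intro h'
        apply hsn
        have := hneg r hr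
        omega
      rw [hf1, hf2, Bool.false_or, Bool.false_or] at h1
      by_cases hd0 : (tab.getD r []).getD s 0 / 16 = 0
      · have : ((tab.getD r []).getD s 0 / 16 == 0) = true := by rw [hd0]; rfl
        rw [if_pos this, List.contains_iff_mem] at h1
        exact hbase _ h1
      · have : ¬ ((tab.getD r []).getD s 0 / 16 == 0) = true := by
          rw [beq_iff_eq]; exact hd0
        rw [if_neg this] at h1
        simp only [Bool.and_eq_true, decide_eq_true_eq, Bool.not_eq_true', beq_eq_false_iff_ne,
          List.all_eq_true, beq_iff_eq] at h1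
        obtain ⟨⟨⟨⟨⟨⟨⟨hi, hr0⟩, hs0⟩, hne⟩, hnn⟩, hdep⟩, hq⟩, hcons⟩ := h1
        set i := (tab.getD r []).getD s 0 % 16 with hidef
        obtain ⟨ca, htab⟩ := htabs i hi
        have er : (rts.getD i []).getD r 0 = D.reflectRoot i r := htab.hrt r hr
        have es : (rts.getD i []).getD s 0 = D.reflectRoot i s := htab.hrt s hs
        rw [er] at hr0 hne hnn hdep hq hcons
        rw [es] at hs0 hne hnn hdep hq hcons
        have hR := rootsOK_of_mem D hD
        have hsn0 : D.reflectRoot i s ≠ D.neg (D.reflectRoot i r) := by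
          intro h'
          apply hnn
          rw [h']
          exact hneg _ hr0
        have h5 := ih _ (by rw [← hd]; exact hdep) _ hr0 _ hs0 hne hsn0 rfl
        have h6 := commF_transport D hD i hi _ _ hr0 hs0 hq ?_ h5
        · rwa [hR.refl_refl i hi r hr, hR.refl_refl i hi s hs] at h6
        · rw [hR.refl_refl i hi r hr, hR.refl_refl i hi s hs, hcons]
          apply List.map_congr_left
          intro c hc
          have hc1 := hq c hc
          rw [htab.hrt c.1 hc1, htab.heta c.1 hc1, htab.heta _ hr0, htab.heta _ hs0]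
  intro r hr s hs hsr hsn
  exact key _ r hr s hs hsr hsn rfl

end

theorem commF_of_ok {F : Type*} [Field F] (D : ChevalleyDatum)
    (hD : D ∈ [chevG2, chevB2, chevD4, chevF4, chevE6, chevE7, chevE8]) (h : CommOK D) :
    ∀ r < D.nroots, ∀ s < D.nroots, s ≠ r → s ≠ D.neg r → CommF D hD r s (F := F) := by
  obtain ⟨rts, etas, tab, base, hc⟩ := h
  exact commF_all D hD rts etas tab base hc.hneg hc.htabs
    (fun p hp => commF_of_base D hD p.1 p.2 (hc.hbase p hp)) hc.hchk

end Cfsg.Agent.helper5.Chev
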