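import Mathlib
import Cfsg.Prelude.Def_ChevStructure
import Cfsg.Agent.Lib_helper5_ChevNX

set_option autoImplicit false

/-! Positivity of the roots occurring in commutators with `x_{±p}`, `p` fundamental (helper5). -/

namespace Cfsg.Agent.helper5.Chev

open Cfsg.Lie

def posCommCheckS (D : ChevalleyDatum) (i s : ℕ) : Bool :=
  !decide (D.IsPosRoot s) || (s == D.simple i) ||
    (((D.commTerms (D.simple i) s).all fun c =>
        decide (D.IsPosRoot c.1) && !(c.1 == D.simple i)) &&
     ((D.commTerms (D.neg (D.simple i)) s).all fun c =>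
        decide (D.IsPosRoot c.1) && !(c.1 == D.simple i)))

def posCommCheckRange (D : ChevalleyDatum) (i lo n : ℕ) : Bool :=
  (List.range n).all fun k => posCommCheckS D i (lo + k)

/-- all roots in the commutators of `x_{±p_i}` with `x_s`, `s > 0`, `s ≠ p_i`, are positive and
different from `p_i` -/
def PosCommOK (D : ChevalleyDatum) : Prop :=
  ∀ i < D.rank, ∀ s < D.nroots, D.IsPosRoot s → s ≠ D.simple i →
    (∀ c ∈ D.commTerms (D.simple i) s, D.IsPosRoot c.1 ∧ c.1 ≠ D.simple i) ∧
    (∀ c ∈ D.commTerms (D.neg (D.simple i)) s, D.IsPosRoot c.1 ∧ c.1 ≠ D.simple i)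

theorem posCommOK_of_chunks (D : ChevalleyDatum) (n m : ℕ) (hn : 0 < n) (hm : D.nroots ≤ m * n)
    (h : ∀ i < D.rank, ∀ k < m, posCommCheckRange D i (k * n) n = true) : PosCommOK D := by
  intro i hi
  have key : ∀ s < D.nroots, posCommCheckS D i s = true := by
    refine range_of_chunks (fun s => posCommCheckS D i s = true) D.nroots n m hn hm ?_
    intro k hk j hj
    have h3 := h i hi k hk
    unfold posCommCheckRange at h3
    rw [List.all_eq_true] at h3
    exact h3 j (List.mem_range.mpr hj)
  intro s hs hp hne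
  have h1 := key s hs
  unfold posCommCheckS at h1
  simp only [Bool.or_eq_true, Bool.and_eq_true, Bool.not_eq_true', decide_eq_false_iff_not,
    decide_eq_true_eq, beq_iff_eq, List.all_eq_true, beq_eq_false_iff_ne] at h1
  rcases h1 with (h1 | h1) | h1
  · exact absurd hp h1
  · exact absurd h1 hne
  · exact ⟨fun c hc => h1.1 c hc, fun c hc => h1.2 c hc⟩

end Cfsg.Agent.helper5.Chev
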