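import Mathlib
import Cfsg.Agent.Lib_helper5_ChevTorus

set_option autoImplicit false

/-! Conjugation of root elements by torus elements (helper5). -/

namespace Cfsg.Agent.helper5.Chev

open Cfsg.Lie

section
variable {F : Type*} [Field F]

theorem diagL_mul_xMat (D : ChevalleyDatum) (hcart : ∀ i < D.rank, cartanCheckI D i)
    (c : ℕ → F) (L : List ℕ) (hL : ∀ i ∈ L, i < D.rank ∧ c i ≠ 0) (s : Fin D.nroots) (t : F) :
    Matrix.diagonal (Sum.elim (fun _ => (1 : F))
        (fun u : Fin D.nroots => (L.map fun i => (c i) ^ (D.cartan i u)).prod)) * D.xMat F s t =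
      D.xMat F s ((L.map fun i => (c i) ^ (D.cartan i s)).prod * t) *
        Matrix.diagonal (Sum.elim (fun _ => (1 : F))
          (fun u : Fin D.nroots => (L.map fun i => (c i) ^ (D.cartan i u)).prod)) := by
  induction L generalizing t with
  | nil =>
    simp only [List.map_nil, List.prod_nil, one_mul]
    rw [diag_one, one_mul, mul_one]
  | cons i L ih =>
    have h1 := hL i List.mem_cons_self
    have hL' : ∀ j ∈ L, j < D.rank ∧ c j ≠ 0 := fun j hj => hL j (List.mem_cons_of_mem _ hj)
    simp only [List.map_cons, List.prod_cons]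
    rw [← diag_mul_diag, mul_assoc, ih hL' t, ← mul_assoc,
      diag_mul_xMat D i (hcart i h1.1) s (c i) h1.2, mul_assoc, mul_assoc]

/-- **`h x_s(t) h⁻¹ = x_s(χ(s) t)` for torus elements `h`.** -/
theorem torusMat_mul_xMat (D : ChevalleyDatum) (hcart : ∀ i < D.rank, cartanCheckI D i)
    (c : ℕ → F) (hc : ∀ i < D.rank, c i ≠ 0) (s : Fin D.nroots) (t : F) :
    torusMat D c * D.xMat F s t = D.xMat F s (torusChar D c s * t) * torusMat D c :=
  diagL_mul_xMat D hcart c (List.range D.rank)
    (fun i hi => ⟨List.mem_range.mp hi, hc i (List.mem_range.mp hi)⟩) s t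

end

end Cfsg.Agent.helper5.Chev
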