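import Mathlib
import Cfsg.Statements.S1028

set_option autoImplicit false
open Cfsg

namespace Cfsg.Agent.S1028

open Cfsg.Lie

/-- position of a root index in the triangular ordering -/
def posN (D : ChevalleyDatum) (u : ℕ) : ℕ :=
  if D.IsPosRoot u then 2 * (D.nroots + D.rank) + u else u

/-- position of a coordinate: negative roots, then coroots, then positive roots -/
def pos (D : ChevalleyDatum) : D.Idx → ℕ
  | Sum.inl i => D.nroots + i.val
  | Sum.inr u => posN D u.val

theorem pos_injective (D : ChevalleyDatum) : Function.Injective (pos D) := by
  rintro (i | u) (j | v) h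
  · simp only [pos] at h
    congr 1
    apply Fin.ext
    omega
  · simp only [pos, posN] at h
    have := i.2; have := v.2
    split_ifs at h <;> omega
  · simp only [pos, posN] at h
    have := j.2; have := u.2
    split_ifs at h <;> omega
  · simp only [pos, posN] at h
    have := u.2; have := v.2
    congr 1
    apply Fin.ext
    split_ifs at h <;> omega

/-- the table check: for positive `r`, `-r` is not positive and `r`-chains go up -/
def triCheck (D : ChevalleyDatum) : Bool :=
  (List.range D.nroots).all fun r =>
    !decide (D.IsPosRoot r) ||
      (!decide (D.IsPosRoot (D.negIdx.getD r 0)) &&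
        (D.chain.getD r #[]).toList.all fun e => e.2.toList.all fun q =>
          decide (posN D e.1 < posN D q.1))

set_option maxRecDepth 1000000 in
set_option maxHeartbeats 0 in
theorem triCheck_all (D : ChevalleyDatum)
    (hD : D ∈ [chevG2, chevB2, chevD4, chevF4, chevE6, chevE7, chevE8]) : triCheck D = true := by
  simp only [List.mem_cons, List.not_mem_nil, or_false] at hD
  rcases hD with rfl | rfl | rfl | rfl | rfl | rfl | rfl <;> decide +kernel

/-- unit lower triangular with respect to `pos` -/
def UL {F : Type*} [Field F] (D : ChevalleyDatum) (M : Matrix D.Idx D.Idx F) : Prop :=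
  ∀ row col : D.Idx, pos D row ≤ pos D col → M row col = if row = col then 1 else 0

section
variable {F : Type*} [Field F]

theorem chainCoeff_mem (D : ChevalleyDatum) (r s u : ℕ) (km : ℕ × ℤ)
    (h : km ∈ D.chainCoeff r s u) :
    ∃ e ∈ (D.chain.getD r #[]).toList, e.1 = s ∧ ∃ q ∈ e.2.toList, q.1 = u := by
  unfold ChevalleyDatum.chainCoeff at h
  rw [List.mem_flatMap] at h
  obtain ⟨e, he, hkm⟩ := h
  rw [List.mem_filter] at he
  rw [List.mem_map] at hkm
  obtain ⟨q, hq, _⟩ := hkm
  rw [List.mem_filter] at hq
  refine ⟨e, he.1, by simpa using he.2, q.1, ?_, by simpa using hq.2⟩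
  have := hq.1
  rw [List.mem_zipIdx_iff_getElem?] at this
  exact List.mem_of_getElem? this

theorem UL_xMat (D : ChevalleyDatum) (h : triCheck D = true) (r : Fin D.nroots)
    (hr : D.IsPosRoot r.val) (t : F) : UL D (D.xMat F r t) := by
  unfold triCheck at h
  rw [List.all_eq_true] at h
  have h1 := h r.val (List.mem_range.mpr r.2)
  simp only [hr, decide_true, Bool.not_true, Bool.false_or, Bool.and_eq_true, Bool.not_eq_eq_eq_not,
    decide_eq_false_iff_not, List.all_eq_true, decide_eq_true_eq] at h1
  obtain ⟨hnegr, hchain⟩ := h1
  have hposr : posN D r.val = 2 * (D.nroots + D.rank) + r.val := by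
    unfold posN; rw [if_pos hr]
  intro row col hle
  unfold ChevalleyDatum.xMat
  simp only [Matrix.of_apply]
  rcases col with i | s
  · dsimp only
    rcases row with i' | u
    · dsimp only
      by_cases hi : i' = i
      · subst hi; simp
      · have : (Sum.inl i' : D.Idx) ≠ Sum.inl i := fun h' => hi (Sum.inl.inj h')
        rw [if_neg hi, if_neg this]
    · dsimp only
      have hne : (Sum.inr u : D.Idx) ≠ Sum.inl i := by simp
      rw [if_neg hne]
      by_cases hu : u = r
      · exfalso
        subst hu
        simp only [pos] at hle
        rw [hposr] at hle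
        have := i.2
        omega
      · rw [if_neg hu]
  · dsimp only
    by_cases hsr : s = r
    · rw [if_pos hsr]
      rcases row with i' | u
      · dsimp only
        have hne : (Sum.inl i' : D.Idx) ≠ Sum.inr s := by simp
        rw [if_neg hne]
      · dsimp only
        by_cases hu : u = r
        · rw [if_pos hu, if_pos (by rw [hu, hsr])]
        · have hne : (Sum.inr u : D.Idx) ≠ Sum.inr s := by
            intro h'
            apply hu
            rw [← hsr]
            exact Sum.inr.inj h'
          rw [if_neg hu, if_neg hne]
    · rw [if_neg hsr]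
      by_cases hneg : s.val = D.negIdx.getD r.val 0
      · rw [if_pos hneg]
        have hsnp : ¬ D.IsPosRoot s.val := by rw [hneg]; exact hnegr
        have hposs : pos D (Sum.inr s) = s.val := by
          simp only [pos, posN]; rw [if_neg hsnp]
        rcases row with i' | u
        · exfalso
          rw [hposs] at hle
          simp only [pos] at hle
          have := s.2
          omega
        · dsimp only
          by_cases hu : u = s
          · subst hu; simp
          · have hne : (Sum.inr u : D.Idx) ≠ Sum.inr s := fun h' => hu (Sum.inr.inj h')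
            rw [if_neg hu, if_neg hne]
            by_cases hur : u = r
            · exfalso
              subst hur
              rw [hposs] at hle
              simp only [pos] at hle
              rw [hposr] at hle
              have := s.2
              omega
            · rw [if_neg hur]
      · rw [if_neg hneg]
        rcases row with i' | u
        · dsimp only
          have hne : (Sum.inl i' : D.Idx) ≠ Sum.inr s := by simp
          rw [if_neg hne]
        · dsimp only
          have hsum : ((D.chainCoeff r.val s.val u.val).map
              fun km => ((km.2 : ℤ) : F) * t ^ km.1).sum = 0 := by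
            by_cases hnil : D.chainCoeff r.val s.val u.val = []
            · rw [hnil]; rfl
            · exfalso
              obtain ⟨km, hkm⟩ := List.exists_mem_of_ne_nil _ hnil
              obtain ⟨e, he, hes, q, hq, hqu⟩ := chainCoeff_mem D _ _ _ km hkm
              have := hchain e he q hq
              rw [hes, hqu] at this
              simp only [pos] at hle
              omega
          rw [hsum, add_zero]
          by_cases hu : u = s
          · subst hu; simp
          · have hne : (Sum.inr u : D.Idx) ≠ Sum.inr s := fun h' => hu (Sum.inr.inj h')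
            rw [if_neg hu, if_neg hne]

theorem UL_one (D : ChevalleyDatum) : UL D (1 : Matrix D.Idx D.Idx F) := by
  intro row col _
  rw [Matrix.one_apply]

theorem UL_mul (D : ChevalleyDatum) {M N : Matrix D.Idx D.Idx F} (hM : UL D M) (hN : UL D N) :
    UL D (M * N) := by
  classical
  intro row col hle
  rw [Matrix.mul_apply]
  by_cases hrc : row = col
  · subst hrc
    rw [if_pos rfl, Finset.sum_eq_single row]
    · rw [hM row row le_rfl, hN row row le_rfl, if_pos rfl, mul_one]
    · intro m _ hm
      rcases Nat.lt_or_ge (pos D m) (pos D row) with h1 | h1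
      · rw [hN m row h1.le, if_neg hm, mul_zero]
      · rw [hM row m h1, if_neg (Ne.symm hm), zero_mul]
    · intro hn; exact absurd (Finset.mem_univ _) hn
  · rw [if_neg hrc]
    apply Finset.sum_eq_zero
    intro m _
    rcases Nat.lt_or_ge (pos D m) (pos D row) with h1 | h1
    · -- pos m < pos row ≤ pos col
      have hmc : m ≠ col := by
        intro h'; subst h'; omega
      rw [hN m col (by omega), if_neg hmc, mul_zero]
    · by_cases hmr : row = m
      · subst hmr
        rw [hN row col hle, if_neg hrc, mul_zero]
      · rw [hM row m h1, if_neg hmr, zero_mul]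

theorem UL_inv (D : ChevalleyDatum) (g : GL D.Idx F) (hg : UL D (g : Matrix D.Idx D.Idx F)) :
    UL D ((g⁻¹ : GL D.Idx F) : Matrix D.Idx D.Idx F) := by
  classical
  have hBT : Matrix.BlockTriangular (g : Matrix D.Idx D.Idx F) (fun i => OrderDual.toDual (pos D i)) := by
    intro i j hij
    have hlt : pos D i < pos D j := hij
    have hne : i ≠ j := by intro h'; subst h'; omega
    rw [hg i j hlt.le, if_neg hne]
  haveI : Invertible (g : Matrix D.Idx D.Idx F) := g.invertible
  have hBTinv := Matrix.blockTriangular_inv_of_blockTriangular hBT
  have hinv : ((g⁻¹ : GL D.Idx F) : Matrix D.Idx D.Idx F) = (g : Matrix D.Idx D.Idx F)⁻¹ :=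
    Matrix.coe_units_inv g
  rw [hinv]
  intro row col hle
  by_cases hrc : row = col
  · subst hrc
    rw [if_pos rfl]
    -- diagonal entry of the inverse
    have hmul : (g : Matrix D.Idx D.Idx F) * (g : Matrix D.Idx D.Idx F)⁻¹ = 1 :=
      Matrix.mul_inv_of_invertible _
    have h1 := congrFun (congrFun hmul row) row
    rw [Matrix.mul_apply, Matrix.one_apply, if_pos rfl, Finset.sum_eq_single row] at h1
    · rw [hg row row le_rfl, if_pos rfl, one_mul] at h1
      exact h1
    · intro m _ hm
      rcases Nat.lt_or_ge (pos D m) (pos D row) with h2 | h2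
      · have : (g : Matrix D.Idx D.Idx F)⁻¹ m row = 0 := hBTinv (by exact h2)
        rw [this, mul_zero]
      · rw [hg row m h2, if_neg (Ne.symm hm), zero_mul]
    · intro hn; exact absurd (Finset.mem_univ _) hn
  · rw [if_neg hrc]
    have hlt : pos D row < pos D col := by
      rcases Nat.lt_or_ge (pos D row) (pos D col) with h2 | h2
      · exact h2
      · exact absurd (pos_injective D (le_antisymm hle h2)) hrc
    exact hBTinv (by exact hlt)

/-- strictly lower triangular matrices are nilpotent -/
theorem pow_eq_zero_of_strict (D : ChevalleyDatum) (N : Matrix D.Idx D.Idx F)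
    (hN : ∀ row col : D.Idx, pos D row ≤ pos D col → N row col = 0) :
    N ^ (D.rank + D.nroots) = 0 := by
  classical
  -- rank function
  let ρ : D.Idx → ℕ := fun j => (Finset.univ.filter (fun i : D.Idx => pos D i < pos D j)).card
  have hρlt : ∀ i j : D.Idx, pos D i < pos D j → ρ i < ρ j := by
    intro i j hij
    apply Finset.card_lt_card
    rw [Finset.ssubset_iff_of_subset]
    · refine ⟨i, ?_, ?_⟩
      · simp [hij]
      · simp
    · intro m hm
      simp only [Finset.mem_filter, Finset.mem_univ, true_and] at hm ⊢
      omega
  have hρbound : ∀ j : D.Idx, ρ j < D.rank + D.nroots := by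
    intro j
    have h1 : (Finset.univ.filter (fun i : D.Idx => pos D i < pos D j)) ⊂ Finset.univ := by
      rw [Finset.ssubset_iff_of_subset (Finset.subset_univ _)]
      exact ⟨j, Finset.mem_univ _, by simp⟩
    have h2 := Finset.card_lt_card h1
    rw [Finset.card_univ] at h2
    have h3 : Fintype.card D.Idx = D.rank + D.nroots := by
      simp [ChevalleyDatum.Idx]
    rw [h3] at h2
    exact h2
  have key : ∀ k : ℕ, ∀ row col : D.Idx, (N ^ k) row col ≠ 0 → ρ col + k ≤ ρ row := by
    intro k
    induction k with
    | zero =>
      intro row col h
      rw [pow_zero, Matrix.one_apply] at h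
      by_cases hrc : row = col
      · subst hrc; omega
      · rw [if_neg hrc] at h; exact absurd rfl h
    | succ k ih =>
      intro row col h
      rw [pow_succ, Matrix.mul_apply] at h
      obtain ⟨m, _, hm⟩ := Finset.exists_ne_zero_of_sum_ne_zero h
      have h1 : (N ^ k) row m ≠ 0 := left_ne_zero_of_mul hm
      have h2 : N m col ≠ 0 := right_ne_zero_of_mul hm
      have h3 := ih row m h1
      have h4 : pos D col < pos D m := by
        by_contra hcon
        push Not at hcon
        exact h2 (hN m col hcon)
      have := hρlt col m h4
      omega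
  ext row col
  by_contra hne
  have := key (D.rank + D.nroots) row col hne
  have := hρbound row
  omega

end

/-- Elements of `U` (the subgroup generated by the root elements of the positive roots) are unipotent linear maps: `(u - 1)^n = 0` with `n = rank + nroots` the dimension of the module. -/
theorem result {F : Type*} [Field F] (D : Cfsg.Lie.ChevalleyDatum) (hD : D ∈ [Cfsg.Lie.chevG2, Cfsg.Lie.chevB2, Cfsg.Lie.chevD4, Cfsg.Lie.chevF4, Cfsg.Lie.chevE6, Cfsg.Lie.chevE7, Cfsg.Lie.chevE8]) (g : GL D.Idx F) (hg : g ∈ D.posUnipotent F) :
    ((g : Matrix D.Idx D.Idx F) - 1) ^ (D.rank + D.nroots) = 0 := by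
  have hcheck := triCheck_all D hD
  have hUL : UL D (g : Matrix D.Idx D.Idx F) := by
    unfold ChevalleyDatum.posUnipotent at hg
    induction hg using Subgroup.closure_induction with
    | mem x hx =>
      obtain ⟨r, t, hr, hx⟩ := hx
      rw [hx]
      unfold ChevalleyDatum.x
      rw [dif_pos hr.1]
      exact UL_xMat D hcheck ⟨r, hr.1⟩ hr t
    | one => exact UL_one D
    | mul x y _ _ hx hy =>
      rw [Units.val_mul]
      exact UL_mul D hx hy
    | inv x _ hx => exact UL_inv D x hx
  apply pow_eq_zero_of_strict
  intro row col hle
  rw [Matrix.sub_apply, hUL row col hle, Matrix.one_apply, sub_self]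

end Cfsg.Agent.S1028
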