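import Mathlib
import Cfsg.Statements.S1029
import Cfsg.Agent.S1028

set_option autoImplicit false
open Cfsg

namespace Cfsg.Agent.S1029

open Cfsg.Lie Cfsg.Agent.S1028
open scoped commutatorElement

section
variable {F : Type*} [Field F]

/-- every element of `U` is unit lower triangular -/
theorem UL_of_mem (D : ChevalleyDatum) (hcheck : triCheck D = true) (g : GL D.Idx F)
    (hg : g ∈ D.posUnipotent F) : UL D (g : Matrix D.Idx D.Idx F) := by
  unfold ChevalleyDatum.posUnipotent at hg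
  induction hg using Subgroup.closure_induction with
  | mem x hx =>
    obtain ⟨r, t, hr, hx⟩ := hx
    rw [hx]
    unfold ChevalleyDatum.x
    rw [dif_pos hr.1]
    exact UL_xMat D hcheck ⟨r, hr.1⟩ hr t
  | one => exact UL_one D
  | mul x y _ _ hx hy =>
    rw [Units.val_mul]
    exact UL_mul D hx hy
  | inv x _ hx => exact UL_inv D x hx

/-- matrices supported on entries at distance at least `k` below the diagonal -/
def Nk (D : ChevalleyDatum) (k : ℕ) (M : Matrix D.Idx D.Idx F) : Prop :=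
  ∀ row col : D.Idx, pos D row < pos D col + k → M row col = 0

theorem Nk_mono (D : ChevalleyDatum) {a b : ℕ} (hab : a ≤ b) {M : Matrix D.Idx D.Idx F}
    (h : Nk D b M) : Nk D a M := fun row col hlt => h row col (by omega)

theorem Nk_add (D : ChevalleyDatum) {k : ℕ} {M N : Matrix D.Idx D.Idx F} (hM : Nk D k M)
    (hN : Nk D k N) : Nk D k (M + N) := by
  intro row col hlt
  rw [Matrix.add_apply, hM row col hlt, hN row col hlt, add_zero]

theorem Nk_sub (D : ChevalleyDatum) {k : ℕ} {M N : Matrix D.Idx D.Idx F} (hM : Nk D k M)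
    (hN : Nk D k N) : Nk D k (M - N) := by
  intro row col hlt
  rw [Matrix.sub_apply, hM row col hlt, hN row col hlt, sub_zero]

theorem Nk_neg (D : ChevalleyDatum) {k : ℕ} {M : Matrix D.Idx D.Idx F} (hM : Nk D k M) :
    Nk D k (-M) := by
  intro row col hlt
  rw [Matrix.neg_apply, hM row col hlt, neg_zero]

theorem Nk_mul (D : ChevalleyDatum) {a b : ℕ} {M N : Matrix D.Idx D.Idx F} (hM : Nk D a M)
    (hN : Nk D b N) : Nk D (a + b) (M * N) := by
  intro row col hlt
  rw [Matrix.mul_apply]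
  apply Finset.sum_eq_zero
  intro m _
  by_cases h1 : pos D row < pos D m + a
  · rw [hM row m h1, zero_mul]
  · rw [hN m col (by omega), mul_zero]


theorem Nk_one_of_UL (D : ChevalleyDatum) {M : Matrix D.Idx D.Idx F} (hM : UL D M) :
    Nk D 1 (M - 1) := by
  intro row col hlt
  rw [Matrix.sub_apply, hM row col (by omega), Matrix.one_apply, sub_self]

theorem Nk_zero_of_UL (D : ChevalleyDatum) {M : Matrix D.Idx D.Idx F} (hM : UL D M) :
    Nk D 0 M := by
  intro row col hlt
  have hne : row ≠ col := by intro h; subst h; omega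
  rw [hM row col (by omega), if_neg hne]

theorem pos_lt_bound (D : ChevalleyDatum) (row : D.Idx) :
    pos D row < 3 * (D.nroots + D.rank) := by
  rcases row with i | u
  · simp only [pos]
    have := i.2
    omega
  · simp only [pos, posN]
    have := u.2
    split_ifs <;> omega

theorem eq_zero_of_Nk_big (D : ChevalleyDatum) {M : Matrix D.Idx D.Idx F}
    (hM : Nk D (3 * (D.nroots + D.rank)) M) : M = 0 := by
  ext row col
  rw [Matrix.zero_apply]
  apply hM row col
  have := pos_lt_bound D row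
  omega

/-- the `n`-th term of the central series -/
def Hn (D : ChevalleyDatum) (hcheck : triCheck D = true) (n : ℕ) :
    Subgroup (D.posUnipotent F) where
  carrier := {g | Nk D (n + 1) (((g : GL D.Idx F) : Matrix D.Idx D.Idx F) - 1)}
  one_mem' := by
    show Nk D (n + 1) (((1 : GL D.Idx F) : Matrix D.Idx D.Idx F) - 1)
    rw [Units.val_one, sub_self]
    intro row col _
    rfl
  mul_mem' := by
    intro a b ha hb
    show Nk D (n + 1) ((((a : GL D.Idx F) * (b : GL D.Idx F) : GL D.Idx F) :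
      Matrix D.Idx D.Idx F) - 1)
    have ha' : Nk D (n + 1) (((a : GL D.Idx F) : Matrix D.Idx D.Idx F) - 1) := ha
    have hb' : Nk D (n + 1) (((b : GL D.Idx F) : Matrix D.Idx D.Idx F) - 1) := hb
    have heq : (((a : GL D.Idx F) * (b : GL D.Idx F) : GL D.Idx F) : Matrix D.Idx D.Idx F) - 1
        = (((a : GL D.Idx F) : Matrix D.Idx D.Idx F) - 1) *
            (((b : GL D.Idx F) : Matrix D.Idx D.Idx F) - 1)
          + (((a : GL D.Idx F) : Matrix D.Idx D.Idx F) - 1)
          + (((b : GL D.Idx F) : Matrix D.Idx D.Idx F) - 1) := by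
      rw [Units.val_mul]
      noncomm_ring
    rw [heq]
    refine Nk_add D (Nk_add D ?_ ha') hb'
    exact Nk_mono D (by omega) (Nk_mul D ha' hb')
  inv_mem' := by
    intro a ha
    show Nk D (n + 1) ((((a : GL D.Idx F)⁻¹ : GL D.Idx F) : Matrix D.Idx D.Idx F) - 1)
    have ha' : Nk D (n + 1) (((a : GL D.Idx F) : Matrix D.Idx D.Idx F) - 1) := ha
    have hUL := UL_inv D (a : GL D.Idx F) (UL_of_mem D hcheck _ a.2)
    have heq : (((a : GL D.Idx F)⁻¹ : GL D.Idx F) : Matrix D.Idx D.Idx F) - 1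
        = - ((((a : GL D.Idx F)⁻¹ : GL D.Idx F) : Matrix D.Idx D.Idx F) *
            (((a : GL D.Idx F) : Matrix D.Idx D.Idx F) - 1)) := by
      have h1 : (((a : GL D.Idx F)⁻¹ : GL D.Idx F) : Matrix D.Idx D.Idx F) *
          ((a : GL D.Idx F) : Matrix D.Idx D.Idx F) = 1 := by
        rw [← Units.val_mul, inv_mul_cancel, Units.val_one]
      rw [mul_sub, h1, mul_one, neg_sub]
    rw [heq]
    have := Nk_mul D (Nk_zero_of_UL D hUL) ha'
    rw [zero_add] at this
    exact Nk_neg D this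

theorem mem_Hn (D : ChevalleyDatum) (hcheck : triCheck D = true) (n : ℕ)
    (g : D.posUnipotent F) :
    g ∈ Hn (F := F) D hcheck n ↔
      Nk D (n + 1) (((g : GL D.Idx F) : Matrix D.Idx D.Idx F) - 1) := Iff.rfl

theorem Hn_zero (D : ChevalleyDatum) (hcheck : triCheck D = true) :
    Hn (F := F) D hcheck 0 = ⊤ := by
  rw [eq_top_iff]
  intro g _
  rw [mem_Hn]
  exact Nk_one_of_UL D (UL_of_mem D hcheck _ g.2)

theorem Hn_big (D : ChevalleyDatum) (hcheck : triCheck D = true) :
    Hn (F := F) D hcheck (3 * (D.nroots + D.rank)) = ⊥ := by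
  rw [eq_bot_iff]
  intro g hg
  rw [mem_Hn] at hg
  have h0 := eq_zero_of_Nk_big D (Nk_mono D (by omega) hg)
  rw [Subgroup.mem_bot]
  apply Subtype.ext
  apply Units.ext
  rw [Subgroup.coe_one, Units.val_one]
  exact sub_eq_zero.mp h0

theorem Hn_comm (D : ChevalleyDatum) (hcheck : triCheck D = true) (n : ℕ)
    (x : D.posUnipotent F) (hx : x ∈ Hn (F := F) D hcheck n) (g : D.posUnipotent F) :
    ⁅x, g⁆ ∈ Hn (F := F) D hcheck (n + 1) := by
  rw [mem_Hn] at hx ⊢
  have hg : Nk D 1 (((g : GL D.Idx F) : Matrix D.Idx D.Idx F) - 1) :=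
    Nk_one_of_UL D (UL_of_mem D hcheck _ g.2)
  set X : Matrix D.Idx D.Idx F := ((x : GL D.Idx F) : Matrix D.Idx D.Idx F) with hX
  set Y : Matrix D.Idx D.Idx F := ((g : GL D.Idx F) : Matrix D.Idx D.Idx F) with hY
  set Xi : Matrix D.Idx D.Idx F := (((x : GL D.Idx F)⁻¹ : GL D.Idx F) : Matrix D.Idx D.Idx F)
    with hXi
  set Yi : Matrix D.Idx D.Idx F := (((g : GL D.Idx F)⁻¹ : GL D.Idx F) : Matrix D.Idx D.Idx F)
    with hYi
  have hXXi : X * Xi = 1 := by
    rw [hX, hXi, ← Units.val_mul, mul_inv_cancel, Units.val_one]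
  have hYYi : Y * Yi = 1 := by
    rw [hY, hYi, ← Units.val_mul, mul_inv_cancel, Units.val_one]
  have hcomm : (((⁅x, g⁆ : D.posUnipotent F) : GL D.Idx F) : Matrix D.Idx D.Idx F)
      = X * Y * Xi * Yi := by
    rw [commutatorElement_def]
    simp only [Subgroup.coe_mul, Subgroup.coe_inv, Units.val_mul]
    rfl
  rw [hcomm]
  have heq : X * Y * Xi * Yi - 1 = ((X - 1) * (Y - 1) - (Y - 1) * (X - 1)) * (Xi * Yi) := by
    have h1 : (X - 1) * (Y - 1) - (Y - 1) * (X - 1) = X * Y - Y * X := by noncomm_ring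
    rw [h1, sub_mul]
    have h2 : Y * X * (Xi * Yi) = 1 := by
      calc Y * X * (Xi * Yi) = Y * (X * Xi) * Yi := by noncomm_ring
        _ = 1 := by rw [hXXi, mul_one, hYYi]
    rw [h2]
    noncomm_ring
  rw [heq]
  have hULXi : UL D Xi := UL_inv D (x : GL D.Idx F) (UL_of_mem D hcheck _ x.2)
  have hULYi : UL D Yi := UL_inv D (g : GL D.Idx F) (UL_of_mem D hcheck _ g.2)
  have h0 : Nk D 0 (Xi * Yi) := Nk_zero_of_UL D (UL_mul D hULXi hULYi)
  have h1 : Nk D (n + 1 + 1) ((X - 1) * (Y - 1)) := Nk_mul D hx hg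
  have h2 : Nk D (n + 1 + 1) ((Y - 1) * (X - 1)) := by
    have := Nk_mul D hg hx
    rwa [show 1 + (n + 1) = n + 1 + 1 by omega] at this
  have h3 := Nk_mul D (Nk_sub D h1 h2) h0
  rwa [add_zero] at h3

end

/-- `U` is a nilpotent group (the subgroups generated by root subgroups of height at least `m` form a central series). -/
theorem result {F : Type*} [Field F] (D : Cfsg.Lie.ChevalleyDatum) (hD : D ∈ [Cfsg.Lie.chevG2, Cfsg.Lie.chevB2, Cfsg.Lie.chevD4, Cfsg.Lie.chevF4, Cfsg.Lie.chevE6, Cfsg.Lie.chevE7, Cfsg.Lie.chevE8]) : Group.IsNilpotent (D.posUnipotent F) := by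
  have hcheck := triCheck_all D hD
  rw [nilpotent_iff_finite_descending_central_series]
  refine ⟨3 * (D.nroots + D.rank), fun n => Hn (F := F) D hcheck n, ⟨Hn_zero D hcheck, ?_⟩,
    Hn_big D hcheck⟩
  intro x n hx g
  exact Hn_comm D hcheck n x hx g

end Cfsg.Agent.S1029
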