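import Mathlib
import Cfsg.Agent.Lib_helper5_ChevHConj
import Cfsg.Prelude.Def_ChevE7

set_option autoImplicit false

namespace Cfsg.Agent.helper5.Chev

open Cfsg.Lie

set_option maxRecDepth 1000000 in
set_option maxHeartbeats 0 in
theorem cartanCheck_E7_0_0 : cartanCheckRange chevE7 0 0 63 = true :=
  cartanCheckRange_of_L _ _ _ _ (by decide +kernel)

set_option maxRecDepth 1000000 in
set_option maxHeartbeats 0 in
theorem cartanCheck_E7_0_63 : cartanCheckRange chevE7 0 63 63 = true :=
  cartanCheckRange_of_L _ _ _ _ (by decide +kernel)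

theorem cartanCheck_E7_0 : cartanCheckI chevE7 0 := by
  intro s hs
  have hn : chevE7.nroots = 126 := rfl
  rw [hn] at hs
  by_cases h0 : s < 63
  · exact cartanCheckIS_of_range _ 0 0 63 cartanCheck_E7_0_0 s (by omega) (by omega)
  by_cases h63 : s < 126
  · exact cartanCheckIS_of_range _ 0 63 63 cartanCheck_E7_0_63 s (by omega) (by omega)
  omega

set_option maxRecDepth 1000000 in
set_option maxHeartbeats 0 in
theorem cartanCheck_E7_1_0 : cartanCheckRange chevE7 1 0 63 = true :=
  cartanCheckRange_of_L _ _ _ _ (by decide +kernel)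

set_option maxRecDepth 1000000 in
set_option maxHeartbeats 0 in
theorem cartanCheck_E7_1_63 : cartanCheckRange chevE7 1 63 63 = true :=
  cartanCheckRange_of_L _ _ _ _ (by decide +kernel)

theorem cartanCheck_E7_1 : cartanCheckI chevE7 1 := by
  intro s hs
  have hn : chevE7.nroots = 126 := rfl
  rw [hn] at hs
  by_cases h0 : s < 63
  · exact cartanCheckIS_of_range _ 1 0 63 cartanCheck_E7_1_0 s (by omega) (by omega)
  by_cases h63 : s < 126
  · exact cartanCheckIS_of_range _ 1 63 63 cartanCheck_E7_1_63 s (by omega) (by omega)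
  omega

set_option maxRecDepth 1000000 in
set_option maxHeartbeats 0 in
theorem cartanCheck_E7_2_0 : cartanCheckRange chevE7 2 0 63 = true :=
  cartanCheckRange_of_L _ _ _ _ (by decide +kernel)

set_option maxRecDepth 1000000 in
set_option maxHeartbeats 0 in
theorem cartanCheck_E7_2_63 : cartanCheckRange chevE7 2 63 63 = true :=
  cartanCheckRange_of_L _ _ _ _ (by decide +kernel)

theorem cartanCheck_E7_2 : cartanCheckI chevE7 2 := by
  intro s hs
  have hn : chevE7.nroots = 126 := rfl
  rw [hn] at hs
  by_cases h0 : s < 63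
  · exact cartanCheckIS_of_range _ 2 0 63 cartanCheck_E7_2_0 s (by omega) (by omega)
  by_cases h63 : s < 126
  · exact cartanCheckIS_of_range _ 2 63 63 cartanCheck_E7_2_63 s (by omega) (by omega)
  omega

set_option maxRecDepth 1000000 in
set_option maxHeartbeats 0 in
theorem cartanCheck_E7_3_0 : cartanCheckRange chevE7 3 0 63 = true :=
  cartanCheckRange_of_L _ _ _ _ (by decide +kernel)

set_option maxRecDepth 1000000 in
set_option maxHeartbeats 0 in
theorem cartanCheck_E7_3_63 : cartanCheckRange chevE7 3 63 63 = true :=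
  cartanCheckRange_of_L _ _ _ _ (by decide +kernel)

theorem cartanCheck_E7_3 : cartanCheckI chevE7 3 := by
  intro s hs
  have hn : chevE7.nroots = 126 := rfl
  rw [hn] at hs
  by_cases h0 : s < 63
  · exact cartanCheckIS_of_range _ 3 0 63 cartanCheck_E7_3_0 s (by omega) (by omega)
  by_cases h63 : s < 126
  · exact cartanCheckIS_of_range _ 3 63 63 cartanCheck_E7_3_63 s (by omega) (by omega)
  omega

set_option maxRecDepth 1000000 in
set_option maxHeartbeats 0 in
theorem cartanCheck_E7_4_0 : cartanCheckRange chevE7 4 0 63 = true :=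
  cartanCheckRange_of_L _ _ _ _ (by decide +kernel)

set_option maxRecDepth 1000000 in
set_option maxHeartbeats 0 in
theorem cartanCheck_E7_4_63 : cartanCheckRange chevE7 4 63 63 = true :=
  cartanCheckRange_of_L _ _ _ _ (by decide +kernel)

theorem cartanCheck_E7_4 : cartanCheckI chevE7 4 := by
  intro s hs
  have hn : chevE7.nroots = 126 := rfl
  rw [hn] at hs
  by_cases h0 : s < 63
  · exact cartanCheckIS_of_range _ 4 0 63 cartanCheck_E7_4_0 s (by omega) (by omega)
  by_cases h63 : s < 126
  · exact cartanCheckIS_of_range _ 4 63 63 cartanCheck_E7_4_63 s (by omega) (by omega)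
  omega

set_option maxRecDepth 1000000 in
set_option maxHeartbeats 0 in
theorem cartanCheck_E7_5_0 : cartanCheckRange chevE7 5 0 63 = true :=
  cartanCheckRange_of_L _ _ _ _ (by decide +kernel)

set_option maxRecDepth 1000000 in
set_option maxHeartbeats 0 in
theorem cartanCheck_E7_5_63 : cartanCheckRange chevE7 5 63 63 = true :=
  cartanCheckRange_of_L _ _ _ _ (by decide +kernel)

theorem cartanCheck_E7_5 : cartanCheckI chevE7 5 := by
  intro s hs
  have hn : chevE7.nroots = 126 := rfl
  rw [hn] at hs
  by_cases h0 : s < 63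
  · exact cartanCheckIS_of_range _ 5 0 63 cartanCheck_E7_5_0 s (by omega) (by omega)
  by_cases h63 : s < 126
  · exact cartanCheckIS_of_range _ 5 63 63 cartanCheck_E7_5_63 s (by omega) (by omega)
  omega

set_option maxRecDepth 1000000 in
set_option maxHeartbeats 0 in
theorem cartanCheck_E7_6_0 : cartanCheckRange chevE7 6 0 63 = true :=
  cartanCheckRange_of_L _ _ _ _ (by decide +kernel)

set_option maxRecDepth 1000000 in
set_option maxHeartbeats 0 in
theorem cartanCheck_E7_6_63 : cartanCheckRange chevE7 6 63 63 = true :=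
  cartanCheckRange_of_L _ _ _ _ (by decide +kernel)

theorem cartanCheck_E7_6 : cartanCheckI chevE7 6 := by
  intro s hs
  have hn : chevE7.nroots = 126 := rfl
  rw [hn] at hs
  by_cases h0 : s < 63
  · exact cartanCheckIS_of_range _ 6 0 63 cartanCheck_E7_6_0 s (by omega) (by omega)
  by_cases h63 : s < 126
  · exact cartanCheckIS_of_range _ 6 63 63 cartanCheck_E7_6_63 s (by omega) (by omega)
  omega

theorem cartanCheck_E7 : ∀ i < chevE7.rank, cartanCheckI chevE7 i := by
  intro i hi
  have hn : chevE7.rank = 7 := rfl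
  rw [hn] at hi
  interval_cases i
  · exact cartanCheck_E7_0
  · exact cartanCheck_E7_1
  · exact cartanCheck_E7_2
  · exact cartanCheck_E7_3
  · exact cartanCheck_E7_4
  · exact cartanCheck_E7_5
  · exact cartanCheck_E7_6

end Cfsg.Agent.helper5.Chev
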