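import Mathlib
import Cfsg.Agent.Lib_helper5_ChevHConj
import Cfsg.Prelude.Def_ChevE8

set_option autoImplicit false

namespace Cfsg.Agent.helper5.Chev

open Cfsg.Lie

set_option maxRecDepth 1000000 in
set_option maxHeartbeats 0 in
theorem cartanCheck_E8_0_0 : cartanCheckRange chevE8 0 0 40 = true :=
  cartanCheckRange_of_L _ _ _ _ (by decide +kernel)

set_option maxRecDepth 1000000 in
set_option maxHeartbeats 0 in
theorem cartanCheck_E8_0_40 : cartanCheckRange chevE8 0 40 40 = true :=
  cartanCheckRange_of_L _ _ _ _ (by decide +kernel)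

set_option maxRecDepth 1000000 in
set_option maxHeartbeats 0 in
theorem cartanCheck_E8_0_80 : cartanCheckRange chevE8 0 80 40 = true :=
  cartanCheckRange_of_L _ _ _ _ (by decide +kernel)

set_option maxRecDepth 1000000 in
set_option maxHeartbeats 0 in
theorem cartanCheck_E8_0_120 : cartanCheckRange chevE8 0 120 40 = true :=
  cartanCheckRange_of_L _ _ _ _ (by decide +kernel)

set_option maxRecDepth 1000000 in
set_option maxHeartbeats 0 in
theorem cartanCheck_E8_0_160 : cartanCheckRange chevE8 0 160 40 = true :=
  cartanCheckRange_of_L _ _ _ _ (by decide +kernel)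

set_option maxRecDepth 1000000 in
set_option maxHeartbeats 0 in
theorem cartanCheck_E8_0_200 : cartanCheckRange chevE8 0 200 40 = true :=
  cartanCheckRange_of_L _ _ _ _ (by decide +kernel)

theorem cartanCheck_E8_0 : cartanCheckI chevE8 0 := by
  intro s hs
  have hn : chevE8.nroots = 240 := rfl
  rw [hn] at hs
  by_cases h0 : s < 40
  · exact cartanCheckIS_of_range _ 0 0 40 cartanCheck_E8_0_0 s (by omega) (by omega)
  by_cases h40 : s < 80
  · exact cartanCheckIS_of_range _ 0 40 40 cartanCheck_E8_0_40 s (by omega) (by omega)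
  by_cases h80 : s < 120
  · exact cartanCheckIS_of_range _ 0 80 40 cartanCheck_E8_0_80 s (by omega) (by omega)
  by_cases h120 : s < 160
  · exact cartanCheckIS_of_range _ 0 120 40 cartanCheck_E8_0_120 s (by omega) (by omega)
  by_cases h160 : s < 200
  · exact cartanCheckIS_of_range _ 0 160 40 cartanCheck_E8_0_160 s (by omega) (by omega)
  by_cases h200 : s < 240
  · exact cartanCheckIS_of_range _ 0 200 40 cartanCheck_E8_0_200 s (by omega) (by omega)
  omega

set_option maxRecDepth 1000000 in
set_option maxHeartbeats 0 in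
theorem cartanCheck_E8_1_0 : cartanCheckRange chevE8 1 0 40 = true :=
  cartanCheckRange_of_L _ _ _ _ (by decide +kernel)

set_option maxRecDepth 1000000 in
set_option maxHeartbeats 0 in
theorem cartanCheck_E8_1_40 : cartanCheckRange chevE8 1 40 40 = true :=
  cartanCheckRange_of_L _ _ _ _ (by decide +kernel)

set_option maxRecDepth 1000000 in
set_option maxHeartbeats 0 in
theorem cartanCheck_E8_1_80 : cartanCheckRange chevE8 1 80 40 = true :=
  cartanCheckRange_of_L _ _ _ _ (by decide +kernel)

set_option maxRecDepth 1000000 in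
set_option maxHeartbeats 0 in
theorem cartanCheck_E8_1_120 : cartanCheckRange chevE8 1 120 40 = true :=
  cartanCheckRange_of_L _ _ _ _ (by decide +kernel)

set_option maxRecDepth 1000000 in
set_option maxHeartbeats 0 in
theorem cartanCheck_E8_1_160 : cartanCheckRange chevE8 1 160 40 = true :=
  cartanCheckRange_of_L _ _ _ _ (by decide +kernel)

set_option maxRecDepth 1000000 in
set_option maxHeartbeats 0 in
theorem cartanCheck_E8_1_200 : cartanCheckRange chevE8 1 200 40 = true :=
  cartanCheckRange_of_L _ _ _ _ (by decide +kernel)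

theorem cartanCheck_E8_1 : cartanCheckI chevE8 1 := by
  intro s hs
  have hn : chevE8.nroots = 240 := rfl
  rw [hn] at hs
  by_cases h0 : s < 40
  · exact cartanCheckIS_of_range _ 1 0 40 cartanCheck_E8_1_0 s (by omega) (by omega)
  by_cases h40 : s < 80
  · exact cartanCheckIS_of_range _ 1 40 40 cartanCheck_E8_1_40 s (by omega) (by omega)
  by_cases h80 : s < 120
  · exact cartanCheckIS_of_range _ 1 80 40 cartanCheck_E8_1_80 s (by omega) (by omega)
  by_cases h120 : s < 160
  · exact cartanCheckIS_of_range _ 1 120 40 cartanCheck_E8_1_120 s (by omega) (by omega)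
  by_cases h160 : s < 200
  · exact cartanCheckIS_of_range _ 1 160 40 cartanCheck_E8_1_160 s (by omega) (by omega)
  by_cases h200 : s < 240
  · exact cartanCheckIS_of_range _ 1 200 40 cartanCheck_E8_1_200 s (by omega) (by omega)
  omega

set_option maxRecDepth 1000000 in
set_option maxHeartbeats 0 in
theorem cartanCheck_E8_2_0 : cartanCheckRange chevE8 2 0 40 = true :=
  cartanCheckRange_of_L _ _ _ _ (by decide +kernel)

set_option maxRecDepth 1000000 in
set_option maxHeartbeats 0 in
theorem cartanCheck_E8_2_40 : cartanCheckRange chevE8 2 40 40 = true :=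
  cartanCheckRange_of_L _ _ _ _ (by decide +kernel)

set_option maxRecDepth 1000000 in
set_option maxHeartbeats 0 in
theorem cartanCheck_E8_2_80 : cartanCheckRange chevE8 2 80 40 = true :=
  cartanCheckRange_of_L _ _ _ _ (by decide +kernel)

set_option maxRecDepth 1000000 in
set_option maxHeartbeats 0 in
theorem cartanCheck_E8_2_120 : cartanCheckRange chevE8 2 120 40 = true :=
  cartanCheckRange_of_L _ _ _ _ (by decide +kernel)

set_option maxRecDepth 1000000 in
set_option maxHeartbeats 0 in
theorem cartanCheck_E8_2_160 : cartanCheckRange chevE8 2 160 40 = true :=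
  cartanCheckRange_of_L _ _ _ _ (by decide +kernel)

set_option maxRecDepth 1000000 in
set_option maxHeartbeats 0 in
theorem cartanCheck_E8_2_200 : cartanCheckRange chevE8 2 200 40 = true :=
  cartanCheckRange_of_L _ _ _ _ (by decide +kernel)

theorem cartanCheck_E8_2 : cartanCheckI chevE8 2 := by
  intro s hs
  have hn : chevE8.nroots = 240 := rfl
  rw [hn] at hs
  by_cases h0 : s < 40
  · exact cartanCheckIS_of_range _ 2 0 40 cartanCheck_E8_2_0 s (by omega) (by omega)
  by_cases h40 : s < 80
  · exact cartanCheckIS_of_range _ 2 40 40 cartanCheck_E8_2_40 s (by omega) (by omega)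
  by_cases h80 : s < 120
  · exact cartanCheckIS_of_range _ 2 80 40 cartanCheck_E8_2_80 s (by omega) (by omega)
  by_cases h120 : s < 160
  · exact cartanCheckIS_of_range _ 2 120 40 cartanCheck_E8_2_120 s (by omega) (by omega)
  by_cases h160 : s < 200
  · exact cartanCheckIS_of_range _ 2 160 40 cartanCheck_E8_2_160 s (by omega) (by omega)
  by_cases h200 : s < 240
  · exact cartanCheckIS_of_range _ 2 200 40 cartanCheck_E8_2_200 s (by omega) (by omega)
  omega

set_option maxRecDepth 1000000 in
set_option maxHeartbeats 0 in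
theorem cartanCheck_E8_3_0 : cartanCheckRange chevE8 3 0 40 = true :=
  cartanCheckRange_of_L _ _ _ _ (by decide +kernel)

set_option maxRecDepth 1000000 in
set_option maxHeartbeats 0 in
theorem cartanCheck_E8_3_40 : cartanCheckRange chevE8 3 40 40 = true :=
  cartanCheckRange_of_L _ _ _ _ (by decide +kernel)

set_option maxRecDepth 1000000 in
set_option maxHeartbeats 0 in
theorem cartanCheck_E8_3_80 : cartanCheckRange chevE8 3 80 40 = true :=
  cartanCheckRange_of_L _ _ _ _ (by decide +kernel)

set_option maxRecDepth 1000000 in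
set_option maxHeartbeats 0 in
theorem cartanCheck_E8_3_120 : cartanCheckRange chevE8 3 120 40 = true :=
  cartanCheckRange_of_L _ _ _ _ (by decide +kernel)

set_option maxRecDepth 1000000 in
set_option maxHeartbeats 0 in
theorem cartanCheck_E8_3_160 : cartanCheckRange chevE8 3 160 40 = true :=
  cartanCheckRange_of_L _ _ _ _ (by decide +kernel)

set_option maxRecDepth 1000000 in
set_option maxHeartbeats 0 in
theorem cartanCheck_E8_3_200 : cartanCheckRange chevE8 3 200 40 = true :=
  cartanCheckRange_of_L _ _ _ _ (by decide +kernel)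

theorem cartanCheck_E8_3 : cartanCheckI chevE8 3 := by
  intro s hs
  have hn : chevE8.nroots = 240 := rfl
  rw [hn] at hs
  by_cases h0 : s < 40
  · exact cartanCheckIS_of_range _ 3 0 40 cartanCheck_E8_3_0 s (by omega) (by omega)
  by_cases h40 : s < 80
  · exact cartanCheckIS_of_range _ 3 40 40 cartanCheck_E8_3_40 s (by omega) (by omega)
  by_cases h80 : s < 120
  · exact cartanCheckIS_of_range _ 3 80 40 cartanCheck_E8_3_80 s (by omega) (by omega)
  by_cases h120 : s < 160
  · exact cartanCheckIS_of_range _ 3 120 40 cartanCheck_E8_3_120 s (by omega) (by omega)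
  by_cases h160 : s < 200
  · exact cartanCheckIS_of_range _ 3 160 40 cartanCheck_E8_3_160 s (by omega) (by omega)
  by_cases h200 : s < 240
  · exact cartanCheckIS_of_range _ 3 200 40 cartanCheck_E8_3_200 s (by omega) (by omega)
  omega

set_option maxRecDepth 1000000 in
set_option maxHeartbeats 0 in
theorem cartanCheck_E8_4_0 : cartanCheckRange chevE8 4 0 40 = true :=
  cartanCheckRange_of_L _ _ _ _ (by decide +kernel)

set_option maxRecDepth 1000000 in
set_option maxHeartbeats 0 in
theorem cartanCheck_E8_4_40 : cartanCheckRange chevE8 4 40 40 = true :=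
  cartanCheckRange_of_L _ _ _ _ (by decide +kernel)

set_option maxRecDepth 1000000 in
set_option maxHeartbeats 0 in
theorem cartanCheck_E8_4_80 : cartanCheckRange chevE8 4 80 40 = true :=
  cartanCheckRange_of_L _ _ _ _ (by decide +kernel)

set_option maxRecDepth 1000000 in
set_option maxHeartbeats 0 in
theorem cartanCheck_E8_4_120 : cartanCheckRange chevE8 4 120 40 = true :=
  cartanCheckRange_of_L _ _ _ _ (by decide +kernel)

set_option maxRecDepth 1000000 in
set_option maxHeartbeats 0 in
theorem cartanCheck_E8_4_160 : cartanCheckRange chevE8 4 160 40 = true :=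
  cartanCheckRange_of_L _ _ _ _ (by decide +kernel)

set_option maxRecDepth 1000000 in
set_option maxHeartbeats 0 in
theorem cartanCheck_E8_4_200 : cartanCheckRange chevE8 4 200 40 = true :=
  cartanCheckRange_of_L _ _ _ _ (by decide +kernel)

theorem cartanCheck_E8_4 : cartanCheckI chevE8 4 := by
  intro s hs
  have hn : chevE8.nroots = 240 := rfl
  rw [hn] at hs
  by_cases h0 : s < 40
  · exact cartanCheckIS_of_range _ 4 0 40 cartanCheck_E8_4_0 s (by omega) (by omega)
  by_cases h40 : s < 80
  · exact cartanCheckIS_of_range _ 4 40 40 cartanCheck_E8_4_40 s (by omega) (by omega)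
  by_cases h80 : s < 120
  · exact cartanCheckIS_of_range _ 4 80 40 cartanCheck_E8_4_80 s (by omega) (by omega)
  by_cases h120 : s < 160
  · exact cartanCheckIS_of_range _ 4 120 40 cartanCheck_E8_4_120 s (by omega) (by omega)
  by_cases h160 : s < 200
  · exact cartanCheckIS_of_range _ 4 160 40 cartanCheck_E8_4_160 s (by omega) (by omega)
  by_cases h200 : s < 240
  · exact cartanCheckIS_of_range _ 4 200 40 cartanCheck_E8_4_200 s (by omega) (by omega)
  omega

set_option maxRecDepth 1000000 in
set_option maxHeartbeats 0 in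
theorem cartanCheck_E8_5_0 : cartanCheckRange chevE8 5 0 40 = true :=
  cartanCheckRange_of_L _ _ _ _ (by decide +kernel)

set_option maxRecDepth 1000000 in
set_option maxHeartbeats 0 in
theorem cartanCheck_E8_5_40 : cartanCheckRange chevE8 5 40 40 = true :=
  cartanCheckRange_of_L _ _ _ _ (by decide +kernel)

set_option maxRecDepth 1000000 in
set_option maxHeartbeats 0 in
theorem cartanCheck_E8_5_80 : cartanCheckRange chevE8 5 80 40 = true :=
  cartanCheckRange_of_L _ _ _ _ (by decide +kernel)

set_option maxRecDepth 1000000 in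
set_option maxHeartbeats 0 in
theorem cartanCheck_E8_5_120 : cartanCheckRange chevE8 5 120 40 = true :=
  cartanCheckRange_of_L _ _ _ _ (by decide +kernel)

set_option maxRecDepth 1000000 in
set_option maxHeartbeats 0 in
theorem cartanCheck_E8_5_160 : cartanCheckRange chevE8 5 160 40 = true :=
  cartanCheckRange_of_L _ _ _ _ (by decide +kernel)

set_option maxRecDepth 1000000 in
set_option maxHeartbeats 0 in
theorem cartanCheck_E8_5_200 : cartanCheckRange chevE8 5 200 40 = true :=
  cartanCheckRange_of_L _ _ _ _ (by decide +kernel)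

theorem cartanCheck_E8_5 : cartanCheckI chevE8 5 := by
  intro s hs
  have hn : chevE8.nroots = 240 := rfl
  rw [hn] at hs
  by_cases h0 : s < 40
  · exact cartanCheckIS_of_range _ 5 0 40 cartanCheck_E8_5_0 s (by omega) (by omega)
  by_cases h40 : s < 80
  · exact cartanCheckIS_of_range _ 5 40 40 cartanCheck_E8_5_40 s (by omega) (by omega)
  by_cases h80 : s < 120
  · exact cartanCheckIS_of_range _ 5 80 40 cartanCheck_E8_5_80 s (by omega) (by omega)
  by_cases h120 : s < 160
  · exact cartanCheckIS_of_range _ 5 120 40 cartanCheck_E8_5_120 s (by omega) (by omega)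
  by_cases h160 : s < 200
  · exact cartanCheckIS_of_range _ 5 160 40 cartanCheck_E8_5_160 s (by omega) (by omega)
  by_cases h200 : s < 240
  · exact cartanCheckIS_of_range _ 5 200 40 cartanCheck_E8_5_200 s (by omega) (by omega)
  omega

set_option maxRecDepth 1000000 in
set_option maxHeartbeats 0 in
theorem cartanCheck_E8_6_0 : cartanCheckRange chevE8 6 0 40 = true :=
  cartanCheckRange_of_L _ _ _ _ (by decide +kernel)

set_option maxRecDepth 1000000 in
set_option maxHeartbeats 0 in
theorem cartanCheck_E8_6_40 : cartanCheckRange chevE8 6 40 40 = true :=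
  cartanCheckRange_of_L _ _ _ _ (by decide +kernel)

set_option maxRecDepth 1000000 in
set_option maxHeartbeats 0 in
theorem cartanCheck_E8_6_80 : cartanCheckRange chevE8 6 80 40 = true :=
  cartanCheckRange_of_L _ _ _ _ (by decide +kernel)

set_option maxRecDepth 1000000 in
set_option maxHeartbeats 0 in
theorem cartanCheck_E8_6_120 : cartanCheckRange chevE8 6 120 40 = true :=
  cartanCheckRange_of_L _ _ _ _ (by decide +kernel)

set_option maxRecDepth 1000000 in
set_option maxHeartbeats 0 in
theorem cartanCheck_E8_6_160 : cartanCheckRange chevE8 6 160 40 = true :=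
  cartanCheckRange_of_L _ _ _ _ (by decide +kernel)

set_option maxRecDepth 1000000 in
set_option maxHeartbeats 0 in
theorem cartanCheck_E8_6_200 : cartanCheckRange chevE8 6 200 40 = true :=
  cartanCheckRange_of_L _ _ _ _ (by decide +kernel)

theorem cartanCheck_E8_6 : cartanCheckI chevE8 6 := by
  intro s hs
  have hn : chevE8.nroots = 240 := rfl
  rw [hn] at hs
  by_cases h0 : s < 40
  · exact cartanCheckIS_of_range _ 6 0 40 cartanCheck_E8_6_0 s (by omega) (by omega)
  by_cases h40 : s < 80
  · exact cartanCheckIS_of_range _ 6 40 40 cartanCheck_E8_6_40 s (by omega) (by omega)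
  by_cases h80 : s < 120
  · exact cartanCheckIS_of_range _ 6 80 40 cartanCheck_E8_6_80 s (by omega) (by omega)
  by_cases h120 : s < 160
  · exact cartanCheckIS_of_range _ 6 120 40 cartanCheck_E8_6_120 s (by omega) (by omega)
  by_cases h160 : s < 200
  · exact cartanCheckIS_of_range _ 6 160 40 cartanCheck_E8_6_160 s (by omega) (by omega)
  by_cases h200 : s < 240
  · exact cartanCheckIS_of_range _ 6 200 40 cartanCheck_E8_6_200 s (by omega) (by omega)
  omega

set_option maxRecDepth 1000000 in
set_option maxHeartbeats 0 in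
theorem cartanCheck_E8_7_0 : cartanCheckRange chevE8 7 0 40 = true :=
  cartanCheckRange_of_L _ _ _ _ (by decide +kernel)

set_option maxRecDepth 1000000 in
set_option maxHeartbeats 0 in
theorem cartanCheck_E8_7_40 : cartanCheckRange chevE8 7 40 40 = true :=
  cartanCheckRange_of_L _ _ _ _ (by decide +kernel)

set_option maxRecDepth 1000000 in
set_option maxHeartbeats 0 in
theorem cartanCheck_E8_7_80 : cartanCheckRange chevE8 7 80 40 = true :=
  cartanCheckRange_of_L _ _ _ _ (by decide +kernel)

set_option maxRecDepth 1000000 in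
set_option maxHeartbeats 0 in
theorem cartanCheck_E8_7_120 : cartanCheckRange chevE8 7 120 40 = true :=
  cartanCheckRange_of_L _ _ _ _ (by decide +kernel)

set_option maxRecDepth 1000000 in
set_option maxHeartbeats 0 in
theorem cartanCheck_E8_7_160 : cartanCheckRange chevE8 7 160 40 = true :=
  cartanCheckRange_of_L _ _ _ _ (by decide +kernel)

set_option maxRecDepth 1000000 in
set_option maxHeartbeats 0 in
theorem cartanCheck_E8_7_200 : cartanCheckRange chevE8 7 200 40 = true :=
  cartanCheckRange_of_L _ _ _ _ (by decide +kernel)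

theorem cartanCheck_E8_7 : cartanCheckI chevE8 7 := by
  intro s hs
  have hn : chevE8.nroots = 240 := rfl
  rw [hn] at hs
  by_cases h0 : s < 40
  · exact cartanCheckIS_of_range _ 7 0 40 cartanCheck_E8_7_0 s (by omega) (by omega)
  by_cases h40 : s < 80
  · exact cartanCheckIS_of_range _ 7 40 40 cartanCheck_E8_7_40 s (by omega) (by omega)
  by_cases h80 : s < 120
  · exact cartanCheckIS_of_range _ 7 80 40 cartanCheck_E8_7_80 s (by omega) (by omega)
  by_cases h120 : s < 160
  · exact cartanCheckIS_of_range _ 7 120 40 cartanCheck_E8_7_120 s (by omega) (by omega)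
  by_cases h160 : s < 200
  · exact cartanCheckIS_of_range _ 7 160 40 cartanCheck_E8_7_160 s (by omega) (by omega)
  by_cases h200 : s < 240
  · exact cartanCheckIS_of_range _ 7 200 40 cartanCheck_E8_7_200 s (by omega) (by omega)
  omega

theorem cartanCheck_E8 : ∀ i < chevE8.rank, cartanCheckI chevE8 i := by
  intro i hi
  have hn : chevE8.rank = 8 := rfl
  rw [hn] at hi
  interval_cases i
  · exact cartanCheck_E8_0
  · exact cartanCheck_E8_1
  · exact cartanCheck_E8_2
  · exact cartanCheck_E8_3
  · exact cartanCheck_E8_4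
  · exact cartanCheck_E8_5
  · exact cartanCheck_E8_6
  · exact cartanCheck_E8_7

end Cfsg.Agent.helper5.Chev
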