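import Mathlib
import Cfsg.Agent.Lib_helper5_ChevHConj
import Cfsg.Prelude.Def_ChevB2
import Cfsg.Prelude.Def_ChevD4
import Cfsg.Prelude.Def_ChevE6
import Cfsg.Prelude.Def_ChevF4
import Cfsg.Prelude.Def_ChevG2

set_option autoImplicit false

namespace Cfsg.Agent.helper5.Chev

open Cfsg.Lie

set_option maxRecDepth 1000000 in
set_option maxHeartbeats 0 in
theorem cartanCheck_G2_0_0 : cartanCheckRange chevG2 0 0 12 = true := by decide +kernel

theorem cartanCheck_G2_0 : cartanCheckI chevG2 0 := by
  intro s hs
  have hn : chevG2.nroots = 12 := rfl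
  rw [hn] at hs
  by_cases h0 : s < 12
  · exact cartanCheckIS_of_range _ 0 0 12 cartanCheck_G2_0_0 s (by omega) (by omega)
  omega

set_option maxRecDepth 1000000 in
set_option maxHeartbeats 0 in
theorem cartanCheck_G2_1_0 : cartanCheckRange chevG2 1 0 12 = true := by decide +kernel

theorem cartanCheck_G2_1 : cartanCheckI chevG2 1 := by
  intro s hs
  have hn : chevG2.nroots = 12 := rfl
  rw [hn] at hs
  by_cases h0 : s < 12
  · exact cartanCheckIS_of_range _ 1 0 12 cartanCheck_G2_1_0 s (by omega) (by omega)
  omega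

theorem cartanCheck_G2 : ∀ i < chevG2.rank, cartanCheckI chevG2 i := by
  intro i hi
  have hn : chevG2.rank = 2 := rfl
  rw [hn] at hi
  interval_cases i
  · exact cartanCheck_G2_0
  · exact cartanCheck_G2_1

set_option maxRecDepth 1000000 in
set_option maxHeartbeats 0 in
theorem cartanCheck_B2_0_0 : cartanCheckRange chevB2 0 0 8 = true := by decide +kernel

theorem cartanCheck_B2_0 : cartanCheckI chevB2 0 := by
  intro s hs
  have hn : chevB2.nroots = 8 := rfl
  rw [hn] at hs
  by_cases h0 : s < 8
  · exact cartanCheckIS_of_range _ 0 0 8 cartanCheck_B2_0_0 s (by omega) (by omega)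
  omega

set_option maxRecDepth 1000000 in
set_option maxHeartbeats 0 in
theorem cartanCheck_B2_1_0 : cartanCheckRange chevB2 1 0 8 = true := by decide +kernel

theorem cartanCheck_B2_1 : cartanCheckI chevB2 1 := by
  intro s hs
  have hn : chevB2.nroots = 8 := rfl
  rw [hn] at hs
  by_cases h0 : s < 8
  · exact cartanCheckIS_of_range _ 1 0 8 cartanCheck_B2_1_0 s (by omega) (by omega)
  omega

theorem cartanCheck_B2 : ∀ i < chevB2.rank, cartanCheckI chevB2 i := by
  intro i hi
  have hn : chevB2.rank = 2 := rfl
  rw [hn] at hi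
  interval_cases i
  · exact cartanCheck_B2_0
  · exact cartanCheck_B2_1

set_option maxRecDepth 1000000 in
set_option maxHeartbeats 0 in
theorem cartanCheck_D4_0_0 : cartanCheckRange chevD4 0 0 24 = true := by decide +kernel

theorem cartanCheck_D4_0 : cartanCheckI chevD4 0 := by
  intro s hs
  have hn : chevD4.nroots = 24 := rfl
  rw [hn] at hs
  by_cases h0 : s < 24
  · exact cartanCheckIS_of_range _ 0 0 24 cartanCheck_D4_0_0 s (by omega) (by omega)
  omega

set_option maxRecDepth 1000000 in
set_option maxHeartbeats 0 in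
theorem cartanCheck_D4_1_0 : cartanCheckRange chevD4 1 0 24 = true := by decide +kernel

theorem cartanCheck_D4_1 : cartanCheckI chevD4 1 := by
  intro s hs
  have hn : chevD4.nroots = 24 := rfl
  rw [hn] at hs
  by_cases h0 : s < 24
  · exact cartanCheckIS_of_range _ 1 0 24 cartanCheck_D4_1_0 s (by omega) (by omega)
  omega

set_option maxRecDepth 1000000 in
set_option maxHeartbeats 0 in
theorem cartanCheck_D4_2_0 : cartanCheckRange chevD4 2 0 24 = true := by decide +kernel

theorem cartanCheck_D4_2 : cartanCheckI chevD4 2 := by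
  intro s hs
  have hn : chevD4.nroots = 24 := rfl
  rw [hn] at hs
  by_cases h0 : s < 24
  · exact cartanCheckIS_of_range _ 2 0 24 cartanCheck_D4_2_0 s (by omega) (by omega)
  omega

set_option maxRecDepth 1000000 in
set_option maxHeartbeats 0 in
theorem cartanCheck_D4_3_0 : cartanCheckRange chevD4 3 0 24 = true := by decide +kernel

theorem cartanCheck_D4_3 : cartanCheckI chevD4 3 := by
  intro s hs
  have hn : chevD4.nroots = 24 := rfl
  rw [hn] at hs
  by_cases h0 : s < 24
  · exact cartanCheckIS_of_range _ 3 0 24 cartanCheck_D4_3_0 s (by omega) (by omega)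
  omega

theorem cartanCheck_D4 : ∀ i < chevD4.rank, cartanCheckI chevD4 i := by
  intro i hi
  have hn : chevD4.rank = 4 := rfl
  rw [hn] at hi
  interval_cases i
  · exact cartanCheck_D4_0
  · exact cartanCheck_D4_1
  · exact cartanCheck_D4_2
  · exact cartanCheck_D4_3

set_option maxRecDepth 1000000 in
set_option maxHeartbeats 0 in
theorem cartanCheck_F4_0_0 : cartanCheckRange chevF4 0 0 48 = true := by decide +kernel

theorem cartanCheck_F4_0 : cartanCheckI chevF4 0 := by
  intro s hs
  have hn : chevF4.nroots = 48 := rfl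
  rw [hn] at hs
  by_cases h0 : s < 48
  · exact cartanCheckIS_of_range _ 0 0 48 cartanCheck_F4_0_0 s (by omega) (by omega)
  omega

set_option maxRecDepth 1000000 in
set_option maxHeartbeats 0 in
theorem cartanCheck_F4_1_0 : cartanCheckRange chevF4 1 0 48 = true := by decide +kernel

theorem cartanCheck_F4_1 : cartanCheckI chevF4 1 := by
  intro s hs
  have hn : chevF4.nroots = 48 := rfl
  rw [hn] at hs
  by_cases h0 : s < 48
  · exact cartanCheckIS_of_range _ 1 0 48 cartanCheck_F4_1_0 s (by omega) (by omega)
  omega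

set_option maxRecDepth 1000000 in
set_option maxHeartbeats 0 in
theorem cartanCheck_F4_2_0 : cartanCheckRange chevF4 2 0 48 = true := by decide +kernel

theorem cartanCheck_F4_2 : cartanCheckI chevF4 2 := by
  intro s hs
  have hn : chevF4.nroots = 48 := rfl
  rw [hn] at hs
  by_cases h0 : s < 48
  · exact cartanCheckIS_of_range _ 2 0 48 cartanCheck_F4_2_0 s (by omega) (by omega)
  omega

set_option maxRecDepth 1000000 in
set_option maxHeartbeats 0 in
theorem cartanCheck_F4_3_0 : cartanCheckRange chevF4 3 0 48 = true := by decide +kernel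

theorem cartanCheck_F4_3 : cartanCheckI chevF4 3 := by
  intro s hs
  have hn : chevF4.nroots = 48 := rfl
  rw [hn] at hs
  by_cases h0 : s < 48
  · exact cartanCheckIS_of_range _ 3 0 48 cartanCheck_F4_3_0 s (by omega) (by omega)
  omega

theorem cartanCheck_F4 : ∀ i < chevF4.rank, cartanCheckI chevF4 i := by
  intro i hi
  have hn : chevF4.rank = 4 := rfl
  rw [hn] at hi
  interval_cases i
  · exact cartanCheck_F4_0
  · exact cartanCheck_F4_1
  · exact cartanCheck_F4_2
  · exact cartanCheck_F4_3

set_option maxRecDepth 1000000 in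
set_option maxHeartbeats 0 in
theorem cartanCheck_E6_0_0 : cartanCheckRange chevE6 0 0 72 = true := by decide +kernel

theorem cartanCheck_E6_0 : cartanCheckI chevE6 0 := by
  intro s hs
  have hn : chevE6.nroots = 72 := rfl
  rw [hn] at hs
  by_cases h0 : s < 72
  · exact cartanCheckIS_of_range _ 0 0 72 cartanCheck_E6_0_0 s (by omega) (by omega)
  omega

set_option maxRecDepth 1000000 in
set_option maxHeartbeats 0 in
theorem cartanCheck_E6_1_0 : cartanCheckRange chevE6 1 0 72 = true := by decide +kernel

theorem cartanCheck_E6_1 : cartanCheckI chevE6 1 := by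
  intro s hs
  have hn : chevE6.nroots = 72 := rfl
  rw [hn] at hs
  by_cases h0 : s < 72
  · exact cartanCheckIS_of_range _ 1 0 72 cartanCheck_E6_1_0 s (by omega) (by omega)
  omega

set_option maxRecDepth 1000000 in
set_option maxHeartbeats 0 in
theorem cartanCheck_E6_2_0 : cartanCheckRange chevE6 2 0 72 = true := by decide +kernel

theorem cartanCheck_E6_2 : cartanCheckI chevE6 2 := by
  intro s hs
  have hn : chevE6.nroots = 72 := rfl
  rw [hn] at hs
  by_cases h0 : s < 72
  · exact cartanCheckIS_of_range _ 2 0 72 cartanCheck_E6_2_0 s (by omega) (by omega)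
  omega

set_option maxRecDepth 1000000 in
set_option maxHeartbeats 0 in
theorem cartanCheck_E6_3_0 : cartanCheckRange chevE6 3 0 72 = true := by decide +kernel

theorem cartanCheck_E6_3 : cartanCheckI chevE6 3 := by
  intro s hs
  have hn : chevE6.nroots = 72 := rfl
  rw [hn] at hs
  by_cases h0 : s < 72
  · exact cartanCheckIS_of_range _ 3 0 72 cartanCheck_E6_3_0 s (by omega) (by omega)
  omega

set_option maxRecDepth 1000000 in
set_option maxHeartbeats 0 in
theorem cartanCheck_E6_4_0 : cartanCheckRange chevE6 4 0 72 = true := by decide +kernel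

theorem cartanCheck_E6_4 : cartanCheckI chevE6 4 := by
  intro s hs
  have hn : chevE6.nroots = 72 := rfl
  rw [hn] at hs
  by_cases h0 : s < 72
  · exact cartanCheckIS_of_range _ 4 0 72 cartanCheck_E6_4_0 s (by omega) (by omega)
  omega

set_option maxRecDepth 1000000 in
set_option maxHeartbeats 0 in
theorem cartanCheck_E6_5_0 : cartanCheckRange chevE6 5 0 72 = true := by decide +kernel

theorem cartanCheck_E6_5 : cartanCheckI chevE6 5 := by
  intro s hs
  have hn : chevE6.nroots = 72 := rfl
  rw [hn] at hs
  by_cases h0 : s < 72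
  · exact cartanCheckIS_of_range _ 5 0 72 cartanCheck_E6_5_0 s (by omega) (by omega)
  omega

theorem cartanCheck_E6 : ∀ i < chevE6.rank, cartanCheckI chevE6 i := by
  intro i hi
  have hn : chevE6.rank = 6 := rfl
  rw [hn] at hi
  interval_cases i
  · exact cartanCheck_E6_0
  · exact cartanCheck_E6_1
  · exact cartanCheck_E6_2
  · exact cartanCheck_E6_3
  · exact cartanCheck_E6_4
  · exact cartanCheck_E6_5

end Cfsg.Agent.helper5.Chev
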