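import Mathlib
import Cfsg.Statements.S1032
import Cfsg.Agent.S1033
import Cfsg.Agent.Lib_helper5_ChevCartanSmall
import Cfsg.Agent.Lib_helper5_ChevCartanE7
import Cfsg.Agent.Lib_helper5_ChevCartanE8

set_option autoImplicit false
open Cfsg

namespace Cfsg.Agent.S1032

open Cfsg.Lie Cfsg.Agent.helper5.Chev

theorem cartanCheck_of_mem (D : Cfsg.Lie.ChevalleyDatum) (hD : D ∈ [Cfsg.Lie.chevG2, Cfsg.Lie.chevB2, Cfsg.Lie.chevD4, Cfsg.Lie.chevF4, Cfsg.Lie.chevE6, Cfsg.Lie.chevE7, Cfsg.Lie.chevE8]) :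
    ∀ i < D.rank, cartanCheckI D i := by
  simp only [List.mem_cons, List.not_mem_nil, or_false] at hD
  rcases hD with rfl | rfl | rfl | rfl | rfl | rfl | rfl
  · exact cartanCheck_G2
  · exact cartanCheck_B2
  · exact cartanCheck_D4
  · exact cartanCheck_F4
  · exact cartanCheck_E6
  · exact cartanCheck_E7
  · exact cartanCheck_E8

/-- For a fundamental root `p`, a root `s` and `c ≠ 0`: `h_p(c) x_s(t) h_p(c)⁻¹ = x_s(c^{A_{p,s}} t)`, stated as `h_p(c) x_s(t) = x_s(c^{A_{p,s}} t) h_p(c)`. -/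
theorem result {F : Type*} [Field F] (D : Cfsg.Lie.ChevalleyDatum) (hD : D ∈ [Cfsg.Lie.chevG2, Cfsg.Lie.chevB2, Cfsg.Lie.chevD4, Cfsg.Lie.chevF4, Cfsg.Lie.chevE6, Cfsg.Lie.chevE7, Cfsg.Lie.chevE8]) (i s : ℕ) (hi : i < D.rank) (hs : s < D.nroots) (c : F) (hc : c ≠ 0) (t : F) :
    D.hMat F (D.simple i) c * D.x F s t = D.x F s (c ^ (D.cartan i s) * t) * D.hMat F (D.simple i) c := by
  rw [Cfsg.Agent.S1033.result D hD i hi c hc, x_eq_xMat D s hs, x_eq_xMat D s hs]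
  exact diag_mul_xMat D i (cartanCheck_of_mem D hD i hi) ⟨s, hs⟩ c hc t

end Cfsg.Agent.S1032
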