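import Mathlib
import Cfsg.Agent.Lib_helper5_ChevHR
import Cfsg.Prelude.Def_ChevD4

set_option autoImplicit false

namespace Cfsg.Agent.helper5.Chev

open Cfsg.Lie

set_option maxRecDepth 1000000 in
set_option maxHeartbeats 0 in
theorem hR_D4_0 : hCheckRange chevD4 0 8 = true := by decide +kernel

set_option maxRecDepth 1000000 in
set_option maxHeartbeats 0 in
theorem hR_D4_1 : hCheckRange chevD4 8 8 = true := by decide +kernel

set_option maxRecDepth 1000000 in
set_option maxHeartbeats 0 in
theorem hR_D4_2 : hCheckRange chevD4 16 8 = true := by decide +kernel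

end Cfsg.Agent.helper5.Chev
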