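import Mathlib
import Cfsg.Agent.Lib_helper5_ChevHR
import Cfsg.Agent.Lib_helper5_ChevHRD4_00

set_option autoImplicit false

namespace Cfsg.Agent.helper5.Chev

open Cfsg.Lie

theorem hCheckAll_D4 : hCheckAll chevD4 := by
  apply hCheckAll_of_chunks chevD4 8 3 (by decide +kernel) (by decide +kernel)
  intro k hk
  interval_cases k
  · exact hR_D4_0
  · exact hR_D4_1
  · exact hR_D4_2

end Cfsg.Agent.helper5.Chev
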