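import Mathlib
import Cfsg.Agent.Lib_helper5_ChevHR
import Cfsg.Prelude.Def_ChevE6

set_option autoImplicit false

namespace Cfsg.Agent.helper5.Chev

open Cfsg.Lie

set_option maxRecDepth 1000000 in
set_option maxHeartbeats 0 in
theorem hR_E6_0 : hCheckRange chevE6 0 3 = true := by decide +kernel

set_option maxRecDepth 1000000 in
set_option maxHeartbeats 0 in
theorem hR_E6_1 : hCheckRange chevE6 3 3 = true := by decide +kernel

set_option maxRecDepth 1000000 in
set_option maxHeartbeats 0 in
theorem hR_E6_2 : hCheckRange chevE6 6 3 = true := by decide +kernel

set_option maxRecDepth 1000000 in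
set_option maxHeartbeats 0 in
theorem hR_E6_3 : hCheckRange chevE6 9 3 = true := by decide +kernel

set_option maxRecDepth 1000000 in
set_option maxHeartbeats 0 in
theorem hR_E6_4 : hCheckRange chevE6 12 3 = true := by decide +kernel

set_option maxRecDepth 1000000 in
set_option maxHeartbeats 0 in
theorem hR_E6_5 : hCheckRange chevE6 15 3 = true := by decide +kernel

set_option maxRecDepth 1000000 in
set_option maxHeartbeats 0 in
theorem hR_E6_6 : hCheckRange chevE6 18 3 = true := by decide +kernel

set_option maxRecDepth 1000000 in
set_option maxHeartbeats 0 in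
theorem hR_E6_7 : hCheckRange chevE6 21 3 = true := by decide +kernel

set_option maxRecDepth 1000000 in
set_option maxHeartbeats 0 in
theorem hR_E6_8 : hCheckRange chevE6 24 3 = true := by decide +kernel

set_option maxRecDepth 1000000 in
set_option maxHeartbeats 0 in
theorem hR_E6_9 : hCheckRange chevE6 27 3 = true := by decide +kernel

set_option maxRecDepth 1000000 in
set_option maxHeartbeats 0 in
theorem hR_E6_10 : hCheckRange chevE6 30 3 = true := by decide +kernel

set_option maxRecDepth 1000000 in
set_option maxHeartbeats 0 in
theorem hR_E6_11 : hCheckRange chevE6 33 3 = true := by decide +kernel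

set_option maxRecDepth 1000000 in
set_option maxHeartbeats 0 in
theorem hR_E6_12 : hCheckRange chevE6 36 3 = true := by decide +kernel

set_option maxRecDepth 1000000 in
set_option maxHeartbeats 0 in
theorem hR_E6_13 : hCheckRange chevE6 39 3 = true := by decide +kernel

set_option maxRecDepth 1000000 in
set_option maxHeartbeats 0 in
theorem hR_E6_14 : hCheckRange chevE6 42 3 = true := by decide +kernel

set_option maxRecDepth 1000000 in
set_option maxHeartbeats 0 in
theorem hR_E6_15 : hCheckRange chevE6 45 3 = true := by decide +kernel

set_option maxRecDepth 1000000 in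
set_option maxHeartbeats 0 in
theorem hR_E6_16 : hCheckRange chevE6 48 3 = true := by decide +kernel

set_option maxRecDepth 1000000 in
set_option maxHeartbeats 0 in
theorem hR_E6_17 : hCheckRange chevE6 51 3 = true := by decide +kernel

set_option maxRecDepth 1000000 in
set_option maxHeartbeats 0 in
theorem hR_E6_18 : hCheckRange chevE6 54 3 = true := by decide +kernel

set_option maxRecDepth 1000000 in
set_option maxHeartbeats 0 in
theorem hR_E6_19 : hCheckRange chevE6 57 3 = true := by decide +kernel

set_option maxRecDepth 1000000 in
set_option maxHeartbeats 0 in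
theorem hR_E6_20 : hCheckRange chevE6 60 3 = true := by decide +kernel

set_option maxRecDepth 1000000 in
set_option maxHeartbeats 0 in
theorem hR_E6_21 : hCheckRange chevE6 63 3 = true := by decide +kernel

set_option maxRecDepth 1000000 in
set_option maxHeartbeats 0 in
theorem hR_E6_22 : hCheckRange chevE6 66 3 = true := by decide +kernel

set_option maxRecDepth 1000000 in
set_option maxHeartbeats 0 in
theorem hR_E6_23 : hCheckRange chevE6 69 3 = true := by decide +kernel

end Cfsg.Agent.helper5.Chev
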