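import Mathlib
import Cfsg.Agent.Lib_helper5_ChevHR
import Cfsg.Agent.Lib_helper5_ChevHRE6_00

set_option autoImplicit false

namespace Cfsg.Agent.helper5.Chev

open Cfsg.Lie

theorem hCheckAll_E6 : hCheckAll chevE6 := by
  apply hCheckAll_of_chunks chevE6 3 24 (by decide +kernel) (by decide +kernel)
  intro k hk
  interval_cases k
  · exact hR_E6_0
  · exact hR_E6_1
  · exact hR_E6_2
  · exact hR_E6_3
  · exact hR_E6_4
  · exact hR_E6_5
  · exact hR_E6_6
  · exact hR_E6_7
  · exact hR_E6_8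
  · exact hR_E6_9
  · exact hR_E6_10
  · exact hR_E6_11
  · exact hR_E6_12
  · exact hR_E6_13
  · exact hR_E6_14
  · exact hR_E6_15
  · exact hR_E6_16
  · exact hR_E6_17
  · exact hR_E6_18
  · exact hR_E6_19
  · exact hR_E6_20
  · exact hR_E6_21
  · exact hR_E6_22
  · exact hR_E6_23

end Cfsg.Agent.helper5.Chev
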