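import Mathlib
import Cfsg.Agent.Lib_helper5_ChevHR
import Cfsg.Agent.Lib_helper5_ChevHRE7_00
import Cfsg.Agent.Lib_helper5_ChevHRE7_01
import Cfsg.Agent.Lib_helper5_ChevHRE7_02

set_option autoImplicit false

namespace Cfsg.Agent.helper5.Chev

open Cfsg.Lie

theorem hCheckAll_E7 : hCheckAll chevE7 := by
  apply hCheckAll_of_chunks chevE7 1 126 (by decide +kernel) (by decide +kernel)
  intro k hk
  interval_cases k
  · exact hR_E7_0
  · exact hR_E7_1
  · exact hR_E7_2
  · exact hR_E7_3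
  · exact hR_E7_4
  · exact hR_E7_5
  · exact hR_E7_6
  · exact hR_E7_7
  · exact hR_E7_8
  · exact hR_E7_9
  · exact hR_E7_10
  · exact hR_E7_11
  · exact hR_E7_12
  · exact hR_E7_13
  · exact hR_E7_14
  · exact hR_E7_15
  · exact hR_E7_16
  · exact hR_E7_17
  · exact hR_E7_18
  · exact hR_E7_19
  · exact hR_E7_20
  · exact hR_E7_21
  · exact hR_E7_22
  · exact hR_E7_23
  · exact hR_E7_24
  · exact hR_E7_25
  · exact hR_E7_26
  · exact hR_E7_27
  · exact hR_E7_28
  · exact hR_E7_29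
  · exact hR_E7_30
  · exact hR_E7_31
  · exact hR_E7_32
  · exact hR_E7_33
  · exact hR_E7_34
  · exact hR_E7_35
  · exact hR_E7_36
  · exact hR_E7_37
  · exact hR_E7_38
  · exact hR_E7_39
  · exact hR_E7_40
  · exact hR_E7_41
  · exact hR_E7_42
  · exact hR_E7_43
  · exact hR_E7_44
  · exact hR_E7_45
  · exact hR_E7_46
  · exact hR_E7_47
  · exact hR_E7_48
  · exact hR_E7_49
  · exact hR_E7_50
  · exact hR_E7_51
  · exact hR_E7_52
  · exact hR_E7_53
  · exact hR_E7_54
  · exact hR_E7_55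
  · exact hR_E7_56
  · exact hR_E7_57
  · exact hR_E7_58
  · exact hR_E7_59
  · exact hR_E7_60
  · exact hR_E7_61
  · exact hR_E7_62
  · exact hR_E7_63
  · exact hR_E7_64
  · exact hR_E7_65
  · exact hR_E7_66
  · exact hR_E7_67
  · exact hR_E7_68
  · exact hR_E7_69
  · exact hR_E7_70
  · exact hR_E7_71
  · exact hR_E7_72
  · exact hR_E7_73
  · exact hR_E7_74
  · exact hR_E7_75
  · exact hR_E7_76
  · exact hR_E7_77
  · exact hR_E7_78
  · exact hR_E7_79
  · exact hR_E7_80
  · exact hR_E7_81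
  · exact hR_E7_82
  · exact hR_E7_83
  · exact hR_E7_84
  · exact hR_E7_85
  · exact hR_E7_86
  · exact hR_E7_87
  · exact hR_E7_88
  · exact hR_E7_89
  · exact hR_E7_90
  · exact hR_E7_91
  · exact hR_E7_92
  · exact hR_E7_93
  · exact hR_E7_94
  · exact hR_E7_95
  · exact hR_E7_96
  · exact hR_E7_97
  · exact hR_E7_98
  · exact hR_E7_99
  · exact hR_E7_100
  · exact hR_E7_101
  · exact hR_E7_102
  · exact hR_E7_103
  · exact hR_E7_104
  · exact hR_E7_105
  · exact hR_E7_106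
  · exact hR_E7_107
  · exact hR_E7_108
  · exact hR_E7_109
  · exact hR_E7_110
  · exact hR_E7_111
  · exact hR_E7_112
  · exact hR_E7_113
  · exact hR_E7_114
  · exact hR_E7_115
  · exact hR_E7_116
  · exact hR_E7_117
  · exact hR_E7_118
  · exact hR_E7_119
  · exact hR_E7_120
  · exact hR_E7_121
  · exact hR_E7_122
  · exact hR_E7_123
  · exact hR_E7_124
  · exact hR_E7_125

end Cfsg.Agent.helper5.Chev
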