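import Mathlib
import Cfsg.Agent.Lib_helper5_ChevHR
import Cfsg.Prelude.Def_ChevE8

set_option autoImplicit false

namespace Cfsg.Agent.helper5.Chev

open Cfsg.Lie

set_option maxRecDepth 1000000 in
set_option maxHeartbeats 0 in
theorem hRC_E8_0_0 : hCheckRCols chevE8 0 0 62 = true := by decide +kernel

set_option maxRecDepth 1000000 in
set_option maxHeartbeats 0 in
theorem hRC_E8_0_1 : hCheckRCols chevE8 0 62 62 = true := by decide +kernel

set_option maxRecDepth 1000000 in
set_option maxHeartbeats 0 in
theorem hRC_E8_0_2 : hCheckRCols chevE8 0 124 62 = true := by decide +kernel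

set_option maxRecDepth 1000000 in
set_option maxHeartbeats 0 in
theorem hRC_E8_0_3 : hCheckRCols chevE8 0 186 62 = true := by decide +kernel

theorem hR_E8_0 : hCheckRange chevE8 0 1 = true := by
  apply hCheckRange_one
  apply hCheckR_of_cols chevE8 0 62 4 (by decide +kernel) (by decide +kernel) (by decide +kernel)
  intro k hk
  interval_cases k
  · exact hRC_E8_0_0
  · exact hRC_E8_0_1
  · exact hRC_E8_0_2
  · exact hRC_E8_0_3

set_option maxRecDepth 1000000 in
set_option maxHeartbeats 0 in
theorem hRC_E8_1_0 : hCheckRCols chevE8 1 0 62 = true := by decide +kernel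

set_option maxRecDepth 1000000 in
set_option maxHeartbeats 0 in
theorem hRC_E8_1_1 : hCheckRCols chevE8 1 62 62 = true := by decide +kernel

set_option maxRecDepth 1000000 in
set_option maxHeartbeats 0 in
theorem hRC_E8_1_2 : hCheckRCols chevE8 1 124 62 = true := by decide +kernel

set_option maxRecDepth 1000000 in
set_option maxHeartbeats 0 in
theorem hRC_E8_1_3 : hCheckRCols chevE8 1 186 62 = true := by decide +kernel

theorem hR_E8_1 : hCheckRange chevE8 1 1 = true := by
  apply hCheckRange_one
  apply hCheckR_of_cols chevE8 1 62 4 (by decide +kernel) (by decide +kernel) (by decide +kernel)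
  intro k hk
  interval_cases k
  · exact hRC_E8_1_0
  · exact hRC_E8_1_1
  · exact hRC_E8_1_2
  · exact hRC_E8_1_3

set_option maxRecDepth 1000000 in
set_option maxHeartbeats 0 in
theorem hRC_E8_2_0 : hCheckRCols chevE8 2 0 62 = true := by decide +kernel

set_option maxRecDepth 1000000 in
set_option maxHeartbeats 0 in
theorem hRC_E8_2_1 : hCheckRCols chevE8 2 62 62 = true := by decide +kernel

set_option maxRecDepth 1000000 in
set_option maxHeartbeats 0 in
theorem hRC_E8_2_2 : hCheckRCols chevE8 2 124 62 = true := by decide +kernel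

set_option maxRecDepth 1000000 in
set_option maxHeartbeats 0 in
theorem hRC_E8_2_3 : hCheckRCols chevE8 2 186 62 = true := by decide +kernel

theorem hR_E8_2 : hCheckRange chevE8 2 1 = true := by
  apply hCheckRange_one
  apply hCheckR_of_cols chevE8 2 62 4 (by decide +kernel) (by decide +kernel) (by decide +kernel)
  intro k hk
  interval_cases k
  · exact hRC_E8_2_0
  · exact hRC_E8_2_1
  · exact hRC_E8_2_2
  · exact hRC_E8_2_3

set_option maxRecDepth 1000000 in
set_option maxHeartbeats 0 in
theorem hRC_E8_3_0 : hCheckRCols chevE8 3 0 62 = true := by decide +kernel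

set_option maxRecDepth 1000000 in
set_option maxHeartbeats 0 in
theorem hRC_E8_3_1 : hCheckRCols chevE8 3 62 62 = true := by decide +kernel

set_option maxRecDepth 1000000 in
set_option maxHeartbeats 0 in
theorem hRC_E8_3_2 : hCheckRCols chevE8 3 124 62 = true := by decide +kernel

set_option maxRecDepth 1000000 in
set_option maxHeartbeats 0 in
theorem hRC_E8_3_3 : hCheckRCols chevE8 3 186 62 = true := by decide +kernel

theorem hR_E8_3 : hCheckRange chevE8 3 1 = true := by
  apply hCheckRange_one
  apply hCheckR_of_cols chevE8 3 62 4 (by decide +kernel) (by decide +kernel) (by decide +kernel)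
  intro k hk
  interval_cases k
  · exact hRC_E8_3_0
  · exact hRC_E8_3_1
  · exact hRC_E8_3_2
  · exact hRC_E8_3_3

set_option maxRecDepth 1000000 in
set_option maxHeartbeats 0 in
theorem hRC_E8_4_0 : hCheckRCols chevE8 4 0 62 = true := by decide +kernel

set_option maxRecDepth 1000000 in
set_option maxHeartbeats 0 in
theorem hRC_E8_4_1 : hCheckRCols chevE8 4 62 62 = true := by decide +kernel

set_option maxRecDepth 1000000 in
set_option maxHeartbeats 0 in
theorem hRC_E8_4_2 : hCheckRCols chevE8 4 124 62 = true := by decide +kernel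

set_option maxRecDepth 1000000 in
set_option maxHeartbeats 0 in
theorem hRC_E8_4_3 : hCheckRCols chevE8 4 186 62 = true := by decide +kernel

theorem hR_E8_4 : hCheckRange chevE8 4 1 = true := by
  apply hCheckRange_one
  apply hCheckR_of_cols chevE8 4 62 4 (by decide +kernel) (by decide +kernel) (by decide +kernel)
  intro k hk
  interval_cases k
  · exact hRC_E8_4_0
  · exact hRC_E8_4_1
  · exact hRC_E8_4_2
  · exact hRC_E8_4_3

set_option maxRecDepth 1000000 in
set_option maxHeartbeats 0 in
theorem hRC_E8_5_0 : hCheckRCols chevE8 5 0 62 = true := by decide +kernel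

set_option maxRecDepth 1000000 in
set_option maxHeartbeats 0 in
theorem hRC_E8_5_1 : hCheckRCols chevE8 5 62 62 = true := by decide +kernel

set_option maxRecDepth 1000000 in
set_option maxHeartbeats 0 in
theorem hRC_E8_5_2 : hCheckRCols chevE8 5 124 62 = true := by decide +kernel

set_option maxRecDepth 1000000 in
set_option maxHeartbeats 0 in
theorem hRC_E8_5_3 : hCheckRCols chevE8 5 186 62 = true := by decide +kernel

theorem hR_E8_5 : hCheckRange chevE8 5 1 = true := by
  apply hCheckRange_one
  apply hCheckR_of_cols chevE8 5 62 4 (by decide +kernel) (by decide +kernel) (by decide +kernel)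
  intro k hk
  interval_cases k
  · exact hRC_E8_5_0
  · exact hRC_E8_5_1
  · exact hRC_E8_5_2
  · exact hRC_E8_5_3

set_option maxRecDepth 1000000 in
set_option maxHeartbeats 0 in
theorem hRC_E8_6_0 : hCheckRCols chevE8 6 0 62 = true := by decide +kernel

set_option maxRecDepth 1000000 in
set_option maxHeartbeats 0 in
theorem hRC_E8_6_1 : hCheckRCols chevE8 6 62 62 = true := by decide +kernel

set_option maxRecDepth 1000000 in
set_option maxHeartbeats 0 in
theorem hRC_E8_6_2 : hCheckRCols chevE8 6 124 62 = true := by decide +kernel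

set_option maxRecDepth 1000000 in
set_option maxHeartbeats 0 in
theorem hRC_E8_6_3 : hCheckRCols chevE8 6 186 62 = true := by decide +kernel

theorem hR_E8_6 : hCheckRange chevE8 6 1 = true := by
  apply hCheckRange_one
  apply hCheckR_of_cols chevE8 6 62 4 (by decide +kernel) (by decide +kernel) (by decide +kernel)
  intro k hk
  interval_cases k
  · exact hRC_E8_6_0
  · exact hRC_E8_6_1
  · exact hRC_E8_6_2
  · exact hRC_E8_6_3

set_option maxRecDepth 1000000 in
set_option maxHeartbeats 0 in
theorem hRC_E8_7_0 : hCheckRCols chevE8 7 0 62 = true := by decide +kernel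

set_option maxRecDepth 1000000 in
set_option maxHeartbeats 0 in
theorem hRC_E8_7_1 : hCheckRCols chevE8 7 62 62 = true := by decide +kernel

set_option maxRecDepth 1000000 in
set_option maxHeartbeats 0 in
theorem hRC_E8_7_2 : hCheckRCols chevE8 7 124 62 = true := by decide +kernel

set_option maxRecDepth 1000000 in
set_option maxHeartbeats 0 in
theorem hRC_E8_7_3 : hCheckRCols chevE8 7 186 62 = true := by decide +kernel

theorem hR_E8_7 : hCheckRange chevE8 7 1 = true := by
  apply hCheckRange_one
  apply hCheckR_of_cols chevE8 7 62 4 (by decide +kernel) (by decide +kernel) (by decide +kernel)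
  intro k hk
  interval_cases k
  · exact hRC_E8_7_0
  · exact hRC_E8_7_1
  · exact hRC_E8_7_2
  · exact hRC_E8_7_3

set_option maxRecDepth 1000000 in
set_option maxHeartbeats 0 in
theorem hRC_E8_8_0 : hCheckRCols chevE8 8 0 62 = true := by decide +kernel

set_option maxRecDepth 1000000 in
set_option maxHeartbeats 0 in
theorem hRC_E8_8_1 : hCheckRCols chevE8 8 62 62 = true := by decide +kernel

set_option maxRecDepth 1000000 in
set_option maxHeartbeats 0 in
theorem hRC_E8_8_2 : hCheckRCols chevE8 8 124 62 = true := by decide +kernel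

set_option maxRecDepth 1000000 in
set_option maxHeartbeats 0 in
theorem hRC_E8_8_3 : hCheckRCols chevE8 8 186 62 = true := by decide +kernel

theorem hR_E8_8 : hCheckRange chevE8 8 1 = true := by
  apply hCheckRange_one
  apply hCheckR_of_cols chevE8 8 62 4 (by decide +kernel) (by decide +kernel) (by decide +kernel)
  intro k hk
  interval_cases k
  · exact hRC_E8_8_0
  · exact hRC_E8_8_1
  · exact hRC_E8_8_2
  · exact hRC_E8_8_3

set_option maxRecDepth 1000000 in
set_option maxHeartbeats 0 in
theorem hRC_E8_9_0 : hCheckRCols chevE8 9 0 62 = true := by decide +kernel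

set_option maxRecDepth 1000000 in
set_option maxHeartbeats 0 in
theorem hRC_E8_9_1 : hCheckRCols chevE8 9 62 62 = true := by decide +kernel

set_option maxRecDepth 1000000 in
set_option maxHeartbeats 0 in
theorem hRC_E8_9_2 : hCheckRCols chevE8 9 124 62 = true := by decide +kernel

set_option maxRecDepth 1000000 in
set_option maxHeartbeats 0 in
theorem hRC_E8_9_3 : hCheckRCols chevE8 9 186 62 = true := by decide +kernel

theorem hR_E8_9 : hCheckRange chevE8 9 1 = true := by
  apply hCheckRange_one
  apply hCheckR_of_cols chevE8 9 62 4 (by decide +kernel) (by decide +kernel) (by decide +kernel)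
  intro k hk
  interval_cases k
  · exact hRC_E8_9_0
  · exact hRC_E8_9_1
  · exact hRC_E8_9_2
  · exact hRC_E8_9_3

end Cfsg.Agent.helper5.Chev
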