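import Mathlib
import Cfsg.Agent.Lib_helper5_ChevHR
import Cfsg.Prelude.Def_ChevE8

set_option autoImplicit false

namespace Cfsg.Agent.helper5.Chev

open Cfsg.Lie

set_option maxRecDepth 1000000 in
set_option maxHeartbeats 0 in
theorem hRC_E8_10_0 : hCheckRCols chevE8 10 0 62 = true := by decide +kernel

set_option maxRecDepth 1000000 in
set_option maxHeartbeats 0 in
theorem hRC_E8_10_1 : hCheckRCols chevE8 10 62 62 = true := by decide +kernel

set_option maxRecDepth 1000000 in
set_option maxHeartbeats 0 in
theorem hRC_E8_10_2 : hCheckRCols chevE8 10 124 62 = true := by decide +kernel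

set_option maxRecDepth 1000000 in
set_option maxHeartbeats 0 in
theorem hRC_E8_10_3 : hCheckRCols chevE8 10 186 62 = true := by decide +kernel

theorem hR_E8_10 : hCheckRange chevE8 10 1 = true := by
  apply hCheckRange_one
  apply hCheckR_of_cols chevE8 10 62 4 (by decide +kernel) (by decide +kernel) (by decide +kernel)
  intro k hk
  interval_cases k
  · exact hRC_E8_10_0
  · exact hRC_E8_10_1
  · exact hRC_E8_10_2
  · exact hRC_E8_10_3

set_option maxRecDepth 1000000 in
set_option maxHeartbeats 0 in
theorem hRC_E8_11_0 : hCheckRCols chevE8 11 0 62 = true := by decide +kernel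

set_option maxRecDepth 1000000 in
set_option maxHeartbeats 0 in
theorem hRC_E8_11_1 : hCheckRCols chevE8 11 62 62 = true := by decide +kernel

set_option maxRecDepth 1000000 in
set_option maxHeartbeats 0 in
theorem hRC_E8_11_2 : hCheckRCols chevE8 11 124 62 = true := by decide +kernel

set_option maxRecDepth 1000000 in
set_option maxHeartbeats 0 in
theorem hRC_E8_11_3 : hCheckRCols chevE8 11 186 62 = true := by decide +kernel

theorem hR_E8_11 : hCheckRange chevE8 11 1 = true := by
  apply hCheckRange_one
  apply hCheckR_of_cols chevE8 11 62 4 (by decide +kernel) (by decide +kernel) (by decide +kernel)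
  intro k hk
  interval_cases k
  · exact hRC_E8_11_0
  · exact hRC_E8_11_1
  · exact hRC_E8_11_2
  · exact hRC_E8_11_3

set_option maxRecDepth 1000000 in
set_option maxHeartbeats 0 in
theorem hRC_E8_12_0 : hCheckRCols chevE8 12 0 62 = true := by decide +kernel

set_option maxRecDepth 1000000 in
set_option maxHeartbeats 0 in
theorem hRC_E8_12_1 : hCheckRCols chevE8 12 62 62 = true := by decide +kernel

set_option maxRecDepth 1000000 in
set_option maxHeartbeats 0 in
theorem hRC_E8_12_2 : hCheckRCols chevE8 12 124 62 = true := by decide +kernel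

set_option maxRecDepth 1000000 in
set_option maxHeartbeats 0 in
theorem hRC_E8_12_3 : hCheckRCols chevE8 12 186 62 = true := by decide +kernel

theorem hR_E8_12 : hCheckRange chevE8 12 1 = true := by
  apply hCheckRange_one
  apply hCheckR_of_cols chevE8 12 62 4 (by decide +kernel) (by decide +kernel) (by decide +kernel)
  intro k hk
  interval_cases k
  · exact hRC_E8_12_0
  · exact hRC_E8_12_1
  · exact hRC_E8_12_2
  · exact hRC_E8_12_3

set_option maxRecDepth 1000000 in
set_option maxHeartbeats 0 in
theorem hRC_E8_13_0 : hCheckRCols chevE8 13 0 62 = true := by decide +kernel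

set_option maxRecDepth 1000000 in
set_option maxHeartbeats 0 in
theorem hRC_E8_13_1 : hCheckRCols chevE8 13 62 62 = true := by decide +kernel

set_option maxRecDepth 1000000 in
set_option maxHeartbeats 0 in
theorem hRC_E8_13_2 : hCheckRCols chevE8 13 124 62 = true := by decide +kernel

set_option maxRecDepth 1000000 in
set_option maxHeartbeats 0 in
theorem hRC_E8_13_3 : hCheckRCols chevE8 13 186 62 = true := by decide +kernel

theorem hR_E8_13 : hCheckRange chevE8 13 1 = true := by
  apply hCheckRange_one
  apply hCheckR_of_cols chevE8 13 62 4 (by decide +kernel) (by decide +kernel) (by decide +kernel)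
  intro k hk
  interval_cases k
  · exact hRC_E8_13_0
  · exact hRC_E8_13_1
  · exact hRC_E8_13_2
  · exact hRC_E8_13_3

set_option maxRecDepth 1000000 in
set_option maxHeartbeats 0 in
theorem hRC_E8_14_0 : hCheckRCols chevE8 14 0 62 = true := by decide +kernel

set_option maxRecDepth 1000000 in
set_option maxHeartbeats 0 in
theorem hRC_E8_14_1 : hCheckRCols chevE8 14 62 62 = true := by decide +kernel

set_option maxRecDepth 1000000 in
set_option maxHeartbeats 0 in
theorem hRC_E8_14_2 : hCheckRCols chevE8 14 124 62 = true := by decide +kernel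

set_option maxRecDepth 1000000 in
set_option maxHeartbeats 0 in
theorem hRC_E8_14_3 : hCheckRCols chevE8 14 186 62 = true := by decide +kernel

theorem hR_E8_14 : hCheckRange chevE8 14 1 = true := by
  apply hCheckRange_one
  apply hCheckR_of_cols chevE8 14 62 4 (by decide +kernel) (by decide +kernel) (by decide +kernel)
  intro k hk
  interval_cases k
  · exact hRC_E8_14_0
  · exact hRC_E8_14_1
  · exact hRC_E8_14_2
  · exact hRC_E8_14_3

set_option maxRecDepth 1000000 in
set_option maxHeartbeats 0 in
theorem hRC_E8_15_0 : hCheckRCols chevE8 15 0 62 = true := by decide +kernel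

set_option maxRecDepth 1000000 in
set_option maxHeartbeats 0 in
theorem hRC_E8_15_1 : hCheckRCols chevE8 15 62 62 = true := by decide +kernel

set_option maxRecDepth 1000000 in
set_option maxHeartbeats 0 in
theorem hRC_E8_15_2 : hCheckRCols chevE8 15 124 62 = true := by decide +kernel

set_option maxRecDepth 1000000 in
set_option maxHeartbeats 0 in
theorem hRC_E8_15_3 : hCheckRCols chevE8 15 186 62 = true := by decide +kernel

theorem hR_E8_15 : hCheckRange chevE8 15 1 = true := by
  apply hCheckRange_one
  apply hCheckR_of_cols chevE8 15 62 4 (by decide +kernel) (by decide +kernel) (by decide +kernel)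
  intro k hk
  interval_cases k
  · exact hRC_E8_15_0
  · exact hRC_E8_15_1
  · exact hRC_E8_15_2
  · exact hRC_E8_15_3

set_option maxRecDepth 1000000 in
set_option maxHeartbeats 0 in
theorem hRC_E8_16_0 : hCheckRCols chevE8 16 0 62 = true := by decide +kernel

set_option maxRecDepth 1000000 in
set_option maxHeartbeats 0 in
theorem hRC_E8_16_1 : hCheckRCols chevE8 16 62 62 = true := by decide +kernel

set_option maxRecDepth 1000000 in
set_option maxHeartbeats 0 in
theorem hRC_E8_16_2 : hCheckRCols chevE8 16 124 62 = true := by decide +kernel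

set_option maxRecDepth 1000000 in
set_option maxHeartbeats 0 in
theorem hRC_E8_16_3 : hCheckRCols chevE8 16 186 62 = true := by decide +kernel

theorem hR_E8_16 : hCheckRange chevE8 16 1 = true := by
  apply hCheckRange_one
  apply hCheckR_of_cols chevE8 16 62 4 (by decide +kernel) (by decide +kernel) (by decide +kernel)
  intro k hk
  interval_cases k
  · exact hRC_E8_16_0
  · exact hRC_E8_16_1
  · exact hRC_E8_16_2
  · exact hRC_E8_16_3

set_option maxRecDepth 1000000 in
set_option maxHeartbeats 0 in
theorem hRC_E8_17_0 : hCheckRCols chevE8 17 0 62 = true := by decide +kernel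

set_option maxRecDepth 1000000 in
set_option maxHeartbeats 0 in
theorem hRC_E8_17_1 : hCheckRCols chevE8 17 62 62 = true := by decide +kernel

set_option maxRecDepth 1000000 in
set_option maxHeartbeats 0 in
theorem hRC_E8_17_2 : hCheckRCols chevE8 17 124 62 = true := by decide +kernel

set_option maxRecDepth 1000000 in
set_option maxHeartbeats 0 in
theorem hRC_E8_17_3 : hCheckRCols chevE8 17 186 62 = true := by decide +kernel

theorem hR_E8_17 : hCheckRange chevE8 17 1 = true := by
  apply hCheckRange_one
  apply hCheckR_of_cols chevE8 17 62 4 (by decide +kernel) (by decide +kernel) (by decide +kernel)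
  intro k hk
  interval_cases k
  · exact hRC_E8_17_0
  · exact hRC_E8_17_1
  · exact hRC_E8_17_2
  · exact hRC_E8_17_3

set_option maxRecDepth 1000000 in
set_option maxHeartbeats 0 in
theorem hRC_E8_18_0 : hCheckRCols chevE8 18 0 62 = true := by decide +kernel

set_option maxRecDepth 1000000 in
set_option maxHeartbeats 0 in
theorem hRC_E8_18_1 : hCheckRCols chevE8 18 62 62 = true := by decide +kernel

set_option maxRecDepth 1000000 in
set_option maxHeartbeats 0 in
theorem hRC_E8_18_2 : hCheckRCols chevE8 18 124 62 = true := by decide +kernel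

set_option maxRecDepth 1000000 in
set_option maxHeartbeats 0 in
theorem hRC_E8_18_3 : hCheckRCols chevE8 18 186 62 = true := by decide +kernel

theorem hR_E8_18 : hCheckRange chevE8 18 1 = true := by
  apply hCheckRange_one
  apply hCheckR_of_cols chevE8 18 62 4 (by decide +kernel) (by decide +kernel) (by decide +kernel)
  intro k hk
  interval_cases k
  · exact hRC_E8_18_0
  · exact hRC_E8_18_1
  · exact hRC_E8_18_2
  · exact hRC_E8_18_3

set_option maxRecDepth 1000000 in
set_option maxHeartbeats 0 in
theorem hRC_E8_19_0 : hCheckRCols chevE8 19 0 62 = true := by decide +kernel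

set_option maxRecDepth 1000000 in
set_option maxHeartbeats 0 in
theorem hRC_E8_19_1 : hCheckRCols chevE8 19 62 62 = true := by decide +kernel

set_option maxRecDepth 1000000 in
set_option maxHeartbeats 0 in
theorem hRC_E8_19_2 : hCheckRCols chevE8 19 124 62 = true := by decide +kernel

set_option maxRecDepth 1000000 in
set_option maxHeartbeats 0 in
theorem hRC_E8_19_3 : hCheckRCols chevE8 19 186 62 = true := by decide +kernel

theorem hR_E8_19 : hCheckRange chevE8 19 1 = true := by
  apply hCheckRange_one
  apply hCheckR_of_cols chevE8 19 62 4 (by decide +kernel) (by decide +kernel) (by decide +kernel)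
  intro k hk
  interval_cases k
  · exact hRC_E8_19_0
  · exact hRC_E8_19_1
  · exact hRC_E8_19_2
  · exact hRC_E8_19_3

end Cfsg.Agent.helper5.Chev
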