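import Mathlib
import Cfsg.Agent.Lib_helper5_ChevHR
import Cfsg.Prelude.Def_ChevE8

set_option autoImplicit false

namespace Cfsg.Agent.helper5.Chev

open Cfsg.Lie

set_option maxRecDepth 1000000 in
set_option maxHeartbeats 0 in
theorem hRC_E8_20_0 : hCheckRCols chevE8 20 0 62 = true := by decide +kernel

set_option maxRecDepth 1000000 in
set_option maxHeartbeats 0 in
theorem hRC_E8_20_1 : hCheckRCols chevE8 20 62 62 = true := by decide +kernel

set_option maxRecDepth 1000000 in
set_option maxHeartbeats 0 in
theorem hRC_E8_20_2 : hCheckRCols chevE8 20 124 62 = true := by decide +kernel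

set_option maxRecDepth 1000000 in
set_option maxHeartbeats 0 in
theorem hRC_E8_20_3 : hCheckRCols chevE8 20 186 62 = true := by decide +kernel

theorem hR_E8_20 : hCheckRange chevE8 20 1 = true := by
  apply hCheckRange_one
  apply hCheckR_of_cols chevE8 20 62 4 (by decide +kernel) (by decide +kernel) (by decide +kernel)
  intro k hk
  interval_cases k
  · exact hRC_E8_20_0
  · exact hRC_E8_20_1
  · exact hRC_E8_20_2
  · exact hRC_E8_20_3

set_option maxRecDepth 1000000 in
set_option maxHeartbeats 0 in
theorem hRC_E8_21_0 : hCheckRCols chevE8 21 0 62 = true := by decide +kernel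

set_option maxRecDepth 1000000 in
set_option maxHeartbeats 0 in
theorem hRC_E8_21_1 : hCheckRCols chevE8 21 62 62 = true := by decide +kernel

set_option maxRecDepth 1000000 in
set_option maxHeartbeats 0 in
theorem hRC_E8_21_2 : hCheckRCols chevE8 21 124 62 = true := by decide +kernel

set_option maxRecDepth 1000000 in
set_option maxHeartbeats 0 in
theorem hRC_E8_21_3 : hCheckRCols chevE8 21 186 62 = true := by decide +kernel

theorem hR_E8_21 : hCheckRange chevE8 21 1 = true := by
  apply hCheckRange_one
  apply hCheckR_of_cols chevE8 21 62 4 (by decide +kernel) (by decide +kernel) (by decide +kernel)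
  intro k hk
  interval_cases k
  · exact hRC_E8_21_0
  · exact hRC_E8_21_1
  · exact hRC_E8_21_2
  · exact hRC_E8_21_3

set_option maxRecDepth 1000000 in
set_option maxHeartbeats 0 in
theorem hRC_E8_22_0 : hCheckRCols chevE8 22 0 62 = true := by decide +kernel

set_option maxRecDepth 1000000 in
set_option maxHeartbeats 0 in
theorem hRC_E8_22_1 : hCheckRCols chevE8 22 62 62 = true := by decide +kernel

set_option maxRecDepth 1000000 in
set_option maxHeartbeats 0 in
theorem hRC_E8_22_2 : hCheckRCols chevE8 22 124 62 = true := by decide +kernel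

set_option maxRecDepth 1000000 in
set_option maxHeartbeats 0 in
theorem hRC_E8_22_3 : hCheckRCols chevE8 22 186 62 = true := by decide +kernel

theorem hR_E8_22 : hCheckRange chevE8 22 1 = true := by
  apply hCheckRange_one
  apply hCheckR_of_cols chevE8 22 62 4 (by decide +kernel) (by decide +kernel) (by decide +kernel)
  intro k hk
  interval_cases k
  · exact hRC_E8_22_0
  · exact hRC_E8_22_1
  · exact hRC_E8_22_2
  · exact hRC_E8_22_3

set_option maxRecDepth 1000000 in
set_option maxHeartbeats 0 in
theorem hRC_E8_23_0 : hCheckRCols chevE8 23 0 62 = true := by decide +kernel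

set_option maxRecDepth 1000000 in
set_option maxHeartbeats 0 in
theorem hRC_E8_23_1 : hCheckRCols chevE8 23 62 62 = true := by decide +kernel

set_option maxRecDepth 1000000 in
set_option maxHeartbeats 0 in
theorem hRC_E8_23_2 : hCheckRCols chevE8 23 124 62 = true := by decide +kernel

set_option maxRecDepth 1000000 in
set_option maxHeartbeats 0 in
theorem hRC_E8_23_3 : hCheckRCols chevE8 23 186 62 = true := by decide +kernel

theorem hR_E8_23 : hCheckRange chevE8 23 1 = true := by
  apply hCheckRange_one
  apply hCheckR_of_cols chevE8 23 62 4 (by decide +kernel) (by decide +kernel) (by decide +kernel)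
  intro k hk
  interval_cases k
  · exact hRC_E8_23_0
  · exact hRC_E8_23_1
  · exact hRC_E8_23_2
  · exact hRC_E8_23_3

set_option maxRecDepth 1000000 in
set_option maxHeartbeats 0 in
theorem hRC_E8_24_0 : hCheckRCols chevE8 24 0 62 = true := by decide +kernel

set_option maxRecDepth 1000000 in
set_option maxHeartbeats 0 in
theorem hRC_E8_24_1 : hCheckRCols chevE8 24 62 62 = true := by decide +kernel

set_option maxRecDepth 1000000 in
set_option maxHeartbeats 0 in
theorem hRC_E8_24_2 : hCheckRCols chevE8 24 124 62 = true := by decide +kernel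

set_option maxRecDepth 1000000 in
set_option maxHeartbeats 0 in
theorem hRC_E8_24_3 : hCheckRCols chevE8 24 186 62 = true := by decide +kernel

theorem hR_E8_24 : hCheckRange chevE8 24 1 = true := by
  apply hCheckRange_one
  apply hCheckR_of_cols chevE8 24 62 4 (by decide +kernel) (by decide +kernel) (by decide +kernel)
  intro k hk
  interval_cases k
  · exact hRC_E8_24_0
  · exact hRC_E8_24_1
  · exact hRC_E8_24_2
  · exact hRC_E8_24_3

set_option maxRecDepth 1000000 in
set_option maxHeartbeats 0 in
theorem hRC_E8_25_0 : hCheckRCols chevE8 25 0 62 = true := by decide +kernel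

set_option maxRecDepth 1000000 in
set_option maxHeartbeats 0 in
theorem hRC_E8_25_1 : hCheckRCols chevE8 25 62 62 = true := by decide +kernel

set_option maxRecDepth 1000000 in
set_option maxHeartbeats 0 in
theorem hRC_E8_25_2 : hCheckRCols chevE8 25 124 62 = true := by decide +kernel

set_option maxRecDepth 1000000 in
set_option maxHeartbeats 0 in
theorem hRC_E8_25_3 : hCheckRCols chevE8 25 186 62 = true := by decide +kernel

theorem hR_E8_25 : hCheckRange chevE8 25 1 = true := by
  apply hCheckRange_one
  apply hCheckR_of_cols chevE8 25 62 4 (by decide +kernel) (by decide +kernel) (by decide +kernel)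
  intro k hk
  interval_cases k
  · exact hRC_E8_25_0
  · exact hRC_E8_25_1
  · exact hRC_E8_25_2
  · exact hRC_E8_25_3

set_option maxRecDepth 1000000 in
set_option maxHeartbeats 0 in
theorem hRC_E8_26_0 : hCheckRCols chevE8 26 0 62 = true := by decide +kernel

set_option maxRecDepth 1000000 in
set_option maxHeartbeats 0 in
theorem hRC_E8_26_1 : hCheckRCols chevE8 26 62 62 = true := by decide +kernel

set_option maxRecDepth 1000000 in
set_option maxHeartbeats 0 in
theorem hRC_E8_26_2 : hCheckRCols chevE8 26 124 62 = true := by decide +kernel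

set_option maxRecDepth 1000000 in
set_option maxHeartbeats 0 in
theorem hRC_E8_26_3 : hCheckRCols chevE8 26 186 62 = true := by decide +kernel

theorem hR_E8_26 : hCheckRange chevE8 26 1 = true := by
  apply hCheckRange_one
  apply hCheckR_of_cols chevE8 26 62 4 (by decide +kernel) (by decide +kernel) (by decide +kernel)
  intro k hk
  interval_cases k
  · exact hRC_E8_26_0
  · exact hRC_E8_26_1
  · exact hRC_E8_26_2
  · exact hRC_E8_26_3

set_option maxRecDepth 1000000 in
set_option maxHeartbeats 0 in
theorem hRC_E8_27_0 : hCheckRCols chevE8 27 0 62 = true := by decide +kernel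

set_option maxRecDepth 1000000 in
set_option maxHeartbeats 0 in
theorem hRC_E8_27_1 : hCheckRCols chevE8 27 62 62 = true := by decide +kernel

set_option maxRecDepth 1000000 in
set_option maxHeartbeats 0 in
theorem hRC_E8_27_2 : hCheckRCols chevE8 27 124 62 = true := by decide +kernel

set_option maxRecDepth 1000000 in
set_option maxHeartbeats 0 in
theorem hRC_E8_27_3 : hCheckRCols chevE8 27 186 62 = true := by decide +kernel

theorem hR_E8_27 : hCheckRange chevE8 27 1 = true := by
  apply hCheckRange_one
  apply hCheckR_of_cols chevE8 27 62 4 (by decide +kernel) (by decide +kernel) (by decide +kernel)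
  intro k hk
  interval_cases k
  · exact hRC_E8_27_0
  · exact hRC_E8_27_1
  · exact hRC_E8_27_2
  · exact hRC_E8_27_3

set_option maxRecDepth 1000000 in
set_option maxHeartbeats 0 in
theorem hRC_E8_28_0 : hCheckRCols chevE8 28 0 62 = true := by decide +kernel

set_option maxRecDepth 1000000 in
set_option maxHeartbeats 0 in
theorem hRC_E8_28_1 : hCheckRCols chevE8 28 62 62 = true := by decide +kernel

set_option maxRecDepth 1000000 in
set_option maxHeartbeats 0 in
theorem hRC_E8_28_2 : hCheckRCols chevE8 28 124 62 = true := by decide +kernel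

set_option maxRecDepth 1000000 in
set_option maxHeartbeats 0 in
theorem hRC_E8_28_3 : hCheckRCols chevE8 28 186 62 = true := by decide +kernel

theorem hR_E8_28 : hCheckRange chevE8 28 1 = true := by
  apply hCheckRange_one
  apply hCheckR_of_cols chevE8 28 62 4 (by decide +kernel) (by decide +kernel) (by decide +kernel)
  intro k hk
  interval_cases k
  · exact hRC_E8_28_0
  · exact hRC_E8_28_1
  · exact hRC_E8_28_2
  · exact hRC_E8_28_3

set_option maxRecDepth 1000000 in
set_option maxHeartbeats 0 in
theorem hRC_E8_29_0 : hCheckRCols chevE8 29 0 62 = true := by decide +kernel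

set_option maxRecDepth 1000000 in
set_option maxHeartbeats 0 in
theorem hRC_E8_29_1 : hCheckRCols chevE8 29 62 62 = true := by decide +kernel

set_option maxRecDepth 1000000 in
set_option maxHeartbeats 0 in
theorem hRC_E8_29_2 : hCheckRCols chevE8 29 124 62 = true := by decide +kernel

set_option maxRecDepth 1000000 in
set_option maxHeartbeats 0 in
theorem hRC_E8_29_3 : hCheckRCols chevE8 29 186 62 = true := by decide +kernel

theorem hR_E8_29 : hCheckRange chevE8 29 1 = true := by
  apply hCheckRange_one
  apply hCheckR_of_cols chevE8 29 62 4 (by decide +kernel) (by decide +kernel) (by decide +kernel)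
  intro k hk
  interval_cases k
  · exact hRC_E8_29_0
  · exact hRC_E8_29_1
  · exact hRC_E8_29_2
  · exact hRC_E8_29_3

end Cfsg.Agent.helper5.Chev
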