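import Mathlib
import Cfsg.Agent.Lib_helper5_ChevHR
import Cfsg.Prelude.Def_ChevE8

set_option autoImplicit false

namespace Cfsg.Agent.helper5.Chev

open Cfsg.Lie

set_option maxRecDepth 1000000 in
set_option maxHeartbeats 0 in
theorem hRC_E8_30_0 : hCheckRCols chevE8 30 0 62 = true := by decide +kernel

set_option maxRecDepth 1000000 in
set_option maxHeartbeats 0 in
theorem hRC_E8_30_1 : hCheckRCols chevE8 30 62 62 = true := by decide +kernel

set_option maxRecDepth 1000000 in
set_option maxHeartbeats 0 in
theorem hRC_E8_30_2 : hCheckRCols chevE8 30 124 62 = true := by decide +kernel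

set_option maxRecDepth 1000000 in
set_option maxHeartbeats 0 in
theorem hRC_E8_30_3 : hCheckRCols chevE8 30 186 62 = true := by decide +kernel

theorem hR_E8_30 : hCheckRange chevE8 30 1 = true := by
  apply hCheckRange_one
  apply hCheckR_of_cols chevE8 30 62 4 (by decide +kernel) (by decide +kernel) (by decide +kernel)
  intro k hk
  interval_cases k
  · exact hRC_E8_30_0
  · exact hRC_E8_30_1
  · exact hRC_E8_30_2
  · exact hRC_E8_30_3

set_option maxRecDepth 1000000 in
set_option maxHeartbeats 0 in
theorem hRC_E8_31_0 : hCheckRCols chevE8 31 0 62 = true := by decide +kernel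

set_option maxRecDepth 1000000 in
set_option maxHeartbeats 0 in
theorem hRC_E8_31_1 : hCheckRCols chevE8 31 62 62 = true := by decide +kernel

set_option maxRecDepth 1000000 in
set_option maxHeartbeats 0 in
theorem hRC_E8_31_2 : hCheckRCols chevE8 31 124 62 = true := by decide +kernel

set_option maxRecDepth 1000000 in
set_option maxHeartbeats 0 in
theorem hRC_E8_31_3 : hCheckRCols chevE8 31 186 62 = true := by decide +kernel

theorem hR_E8_31 : hCheckRange chevE8 31 1 = true := by
  apply hCheckRange_one
  apply hCheckR_of_cols chevE8 31 62 4 (by decide +kernel) (by decide +kernel) (by decide +kernel)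
  intro k hk
  interval_cases k
  · exact hRC_E8_31_0
  · exact hRC_E8_31_1
  · exact hRC_E8_31_2
  · exact hRC_E8_31_3

set_option maxRecDepth 1000000 in
set_option maxHeartbeats 0 in
theorem hRC_E8_32_0 : hCheckRCols chevE8 32 0 62 = true := by decide +kernel

set_option maxRecDepth 1000000 in
set_option maxHeartbeats 0 in
theorem hRC_E8_32_1 : hCheckRCols chevE8 32 62 62 = true := by decide +kernel

set_option maxRecDepth 1000000 in
set_option maxHeartbeats 0 in
theorem hRC_E8_32_2 : hCheckRCols chevE8 32 124 62 = true := by decide +kernel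

set_option maxRecDepth 1000000 in
set_option maxHeartbeats 0 in
theorem hRC_E8_32_3 : hCheckRCols chevE8 32 186 62 = true := by decide +kernel

theorem hR_E8_32 : hCheckRange chevE8 32 1 = true := by
  apply hCheckRange_one
  apply hCheckR_of_cols chevE8 32 62 4 (by decide +kernel) (by decide +kernel) (by decide +kernel)
  intro k hk
  interval_cases k
  · exact hRC_E8_32_0
  · exact hRC_E8_32_1
  · exact hRC_E8_32_2
  · exact hRC_E8_32_3

set_option maxRecDepth 1000000 in
set_option maxHeartbeats 0 in
theorem hRC_E8_33_0 : hCheckRCols chevE8 33 0 62 = true := by decide +kernel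

set_option maxRecDepth 1000000 in
set_option maxHeartbeats 0 in
theorem hRC_E8_33_1 : hCheckRCols chevE8 33 62 62 = true := by decide +kernel

set_option maxRecDepth 1000000 in
set_option maxHeartbeats 0 in
theorem hRC_E8_33_2 : hCheckRCols chevE8 33 124 62 = true := by decide +kernel

set_option maxRecDepth 1000000 in
set_option maxHeartbeats 0 in
theorem hRC_E8_33_3 : hCheckRCols chevE8 33 186 62 = true := by decide +kernel

theorem hR_E8_33 : hCheckRange chevE8 33 1 = true := by
  apply hCheckRange_one
  apply hCheckR_of_cols chevE8 33 62 4 (by decide +kernel) (by decide +kernel) (by decide +kernel)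
  intro k hk
  interval_cases k
  · exact hRC_E8_33_0
  · exact hRC_E8_33_1
  · exact hRC_E8_33_2
  · exact hRC_E8_33_3

set_option maxRecDepth 1000000 in
set_option maxHeartbeats 0 in
theorem hRC_E8_34_0 : hCheckRCols chevE8 34 0 62 = true := by decide +kernel

set_option maxRecDepth 1000000 in
set_option maxHeartbeats 0 in
theorem hRC_E8_34_1 : hCheckRCols chevE8 34 62 62 = true := by decide +kernel

set_option maxRecDepth 1000000 in
set_option maxHeartbeats 0 in
theorem hRC_E8_34_2 : hCheckRCols chevE8 34 124 62 = true := by decide +kernel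

set_option maxRecDepth 1000000 in
set_option maxHeartbeats 0 in
theorem hRC_E8_34_3 : hCheckRCols chevE8 34 186 62 = true := by decide +kernel

theorem hR_E8_34 : hCheckRange chevE8 34 1 = true := by
  apply hCheckRange_one
  apply hCheckR_of_cols chevE8 34 62 4 (by decide +kernel) (by decide +kernel) (by decide +kernel)
  intro k hk
  interval_cases k
  · exact hRC_E8_34_0
  · exact hRC_E8_34_1
  · exact hRC_E8_34_2
  · exact hRC_E8_34_3

set_option maxRecDepth 1000000 in
set_option maxHeartbeats 0 in
theorem hRC_E8_35_0 : hCheckRCols chevE8 35 0 62 = true := by decide +kernel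

set_option maxRecDepth 1000000 in
set_option maxHeartbeats 0 in
theorem hRC_E8_35_1 : hCheckRCols chevE8 35 62 62 = true := by decide +kernel

set_option maxRecDepth 1000000 in
set_option maxHeartbeats 0 in
theorem hRC_E8_35_2 : hCheckRCols chevE8 35 124 62 = true := by decide +kernel

set_option maxRecDepth 1000000 in
set_option maxHeartbeats 0 in
theorem hRC_E8_35_3 : hCheckRCols chevE8 35 186 62 = true := by decide +kernel

theorem hR_E8_35 : hCheckRange chevE8 35 1 = true := by
  apply hCheckRange_one
  apply hCheckR_of_cols chevE8 35 62 4 (by decide +kernel) (by decide +kernel) (by decide +kernel)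
  intro k hk
  interval_cases k
  · exact hRC_E8_35_0
  · exact hRC_E8_35_1
  · exact hRC_E8_35_2
  · exact hRC_E8_35_3

set_option maxRecDepth 1000000 in
set_option maxHeartbeats 0 in
theorem hRC_E8_36_0 : hCheckRCols chevE8 36 0 62 = true := by decide +kernel

set_option maxRecDepth 1000000 in
set_option maxHeartbeats 0 in
theorem hRC_E8_36_1 : hCheckRCols chevE8 36 62 62 = true := by decide +kernel

set_option maxRecDepth 1000000 in
set_option maxHeartbeats 0 in
theorem hRC_E8_36_2 : hCheckRCols chevE8 36 124 62 = true := by decide +kernel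

set_option maxRecDepth 1000000 in
set_option maxHeartbeats 0 in
theorem hRC_E8_36_3 : hCheckRCols chevE8 36 186 62 = true := by decide +kernel

theorem hR_E8_36 : hCheckRange chevE8 36 1 = true := by
  apply hCheckRange_one
  apply hCheckR_of_cols chevE8 36 62 4 (by decide +kernel) (by decide +kernel) (by decide +kernel)
  intro k hk
  interval_cases k
  · exact hRC_E8_36_0
  · exact hRC_E8_36_1
  · exact hRC_E8_36_2
  · exact hRC_E8_36_3

set_option maxRecDepth 1000000 in
set_option maxHeartbeats 0 in
theorem hRC_E8_37_0 : hCheckRCols chevE8 37 0 62 = true := by decide +kernel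

set_option maxRecDepth 1000000 in
set_option maxHeartbeats 0 in
theorem hRC_E8_37_1 : hCheckRCols chevE8 37 62 62 = true := by decide +kernel

set_option maxRecDepth 1000000 in
set_option maxHeartbeats 0 in
theorem hRC_E8_37_2 : hCheckRCols chevE8 37 124 62 = true := by decide +kernel

set_option maxRecDepth 1000000 in
set_option maxHeartbeats 0 in
theorem hRC_E8_37_3 : hCheckRCols chevE8 37 186 62 = true := by decide +kernel

theorem hR_E8_37 : hCheckRange chevE8 37 1 = true := by
  apply hCheckRange_one
  apply hCheckR_of_cols chevE8 37 62 4 (by decide +kernel) (by decide +kernel) (by decide +kernel)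
  intro k hk
  interval_cases k
  · exact hRC_E8_37_0
  · exact hRC_E8_37_1
  · exact hRC_E8_37_2
  · exact hRC_E8_37_3

set_option maxRecDepth 1000000 in
set_option maxHeartbeats 0 in
theorem hRC_E8_38_0 : hCheckRCols chevE8 38 0 62 = true := by decide +kernel

set_option maxRecDepth 1000000 in
set_option maxHeartbeats 0 in
theorem hRC_E8_38_1 : hCheckRCols chevE8 38 62 62 = true := by decide +kernel

set_option maxRecDepth 1000000 in
set_option maxHeartbeats 0 in
theorem hRC_E8_38_2 : hCheckRCols chevE8 38 124 62 = true := by decide +kernel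

set_option maxRecDepth 1000000 in
set_option maxHeartbeats 0 in
theorem hRC_E8_38_3 : hCheckRCols chevE8 38 186 62 = true := by decide +kernel

theorem hR_E8_38 : hCheckRange chevE8 38 1 = true := by
  apply hCheckRange_one
  apply hCheckR_of_cols chevE8 38 62 4 (by decide +kernel) (by decide +kernel) (by decide +kernel)
  intro k hk
  interval_cases k
  · exact hRC_E8_38_0
  · exact hRC_E8_38_1
  · exact hRC_E8_38_2
  · exact hRC_E8_38_3

set_option maxRecDepth 1000000 in
set_option maxHeartbeats 0 in
theorem hRC_E8_39_0 : hCheckRCols chevE8 39 0 62 = true := by decide +kernel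

set_option maxRecDepth 1000000 in
set_option maxHeartbeats 0 in
theorem hRC_E8_39_1 : hCheckRCols chevE8 39 62 62 = true := by decide +kernel

set_option maxRecDepth 1000000 in
set_option maxHeartbeats 0 in
theorem hRC_E8_39_2 : hCheckRCols chevE8 39 124 62 = true := by decide +kernel

set_option maxRecDepth 1000000 in
set_option maxHeartbeats 0 in
theorem hRC_E8_39_3 : hCheckRCols chevE8 39 186 62 = true := by decide +kernel

theorem hR_E8_39 : hCheckRange chevE8 39 1 = true := by
  apply hCheckRange_one
  apply hCheckR_of_cols chevE8 39 62 4 (by decide +kernel) (by decide +kernel) (by decide +kernel)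
  intro k hk
  interval_cases k
  · exact hRC_E8_39_0
  · exact hRC_E8_39_1
  · exact hRC_E8_39_2
  · exact hRC_E8_39_3

end Cfsg.Agent.helper5.Chev
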