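import Mathlib
import Cfsg.Agent.Lib_helper5_ChevHR
import Cfsg.Prelude.Def_ChevE8

set_option autoImplicit false

namespace Cfsg.Agent.helper5.Chev

open Cfsg.Lie

set_option maxRecDepth 1000000 in
set_option maxHeartbeats 0 in
theorem hRC_E8_40_0 : hCheckRCols chevE8 40 0 62 = true := by decide +kernel

set_option maxRecDepth 1000000 in
set_option maxHeartbeats 0 in
theorem hRC_E8_40_1 : hCheckRCols chevE8 40 62 62 = true := by decide +kernel

set_option maxRecDepth 1000000 in
set_option maxHeartbeats 0 in
theorem hRC_E8_40_2 : hCheckRCols chevE8 40 124 62 = true := by decide +kernel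

set_option maxRecDepth 1000000 in
set_option maxHeartbeats 0 in
theorem hRC_E8_40_3 : hCheckRCols chevE8 40 186 62 = true := by decide +kernel

theorem hR_E8_40 : hCheckRange chevE8 40 1 = true := by
  apply hCheckRange_one
  apply hCheckR_of_cols chevE8 40 62 4 (by decide +kernel) (by decide +kernel) (by decide +kernel)
  intro k hk
  interval_cases k
  · exact hRC_E8_40_0
  · exact hRC_E8_40_1
  · exact hRC_E8_40_2
  · exact hRC_E8_40_3

set_option maxRecDepth 1000000 in
set_option maxHeartbeats 0 in
theorem hRC_E8_41_0 : hCheckRCols chevE8 41 0 62 = true := by decide +kernel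

set_option maxRecDepth 1000000 in
set_option maxHeartbeats 0 in
theorem hRC_E8_41_1 : hCheckRCols chevE8 41 62 62 = true := by decide +kernel

set_option maxRecDepth 1000000 in
set_option maxHeartbeats 0 in
theorem hRC_E8_41_2 : hCheckRCols chevE8 41 124 62 = true := by decide +kernel

set_option maxRecDepth 1000000 in
set_option maxHeartbeats 0 in
theorem hRC_E8_41_3 : hCheckRCols chevE8 41 186 62 = true := by decide +kernel

theorem hR_E8_41 : hCheckRange chevE8 41 1 = true := by
  apply hCheckRange_one
  apply hCheckR_of_cols chevE8 41 62 4 (by decide +kernel) (by decide +kernel) (by decide +kernel)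
  intro k hk
  interval_cases k
  · exact hRC_E8_41_0
  · exact hRC_E8_41_1
  · exact hRC_E8_41_2
  · exact hRC_E8_41_3

set_option maxRecDepth 1000000 in
set_option maxHeartbeats 0 in
theorem hRC_E8_42_0 : hCheckRCols chevE8 42 0 62 = true := by decide +kernel

set_option maxRecDepth 1000000 in
set_option maxHeartbeats 0 in
theorem hRC_E8_42_1 : hCheckRCols chevE8 42 62 62 = true := by decide +kernel

set_option maxRecDepth 1000000 in
set_option maxHeartbeats 0 in
theorem hRC_E8_42_2 : hCheckRCols chevE8 42 124 62 = true := by decide +kernel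

set_option maxRecDepth 1000000 in
set_option maxHeartbeats 0 in
theorem hRC_E8_42_3 : hCheckRCols chevE8 42 186 62 = true := by decide +kernel

theorem hR_E8_42 : hCheckRange chevE8 42 1 = true := by
  apply hCheckRange_one
  apply hCheckR_of_cols chevE8 42 62 4 (by decide +kernel) (by decide +kernel) (by decide +kernel)
  intro k hk
  interval_cases k
  · exact hRC_E8_42_0
  · exact hRC_E8_42_1
  · exact hRC_E8_42_2
  · exact hRC_E8_42_3

set_option maxRecDepth 1000000 in
set_option maxHeartbeats 0 in
theorem hRC_E8_43_0 : hCheckRCols chevE8 43 0 62 = true := by decide +kernel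

set_option maxRecDepth 1000000 in
set_option maxHeartbeats 0 in
theorem hRC_E8_43_1 : hCheckRCols chevE8 43 62 62 = true := by decide +kernel

set_option maxRecDepth 1000000 in
set_option maxHeartbeats 0 in
theorem hRC_E8_43_2 : hCheckRCols chevE8 43 124 62 = true := by decide +kernel

set_option maxRecDepth 1000000 in
set_option maxHeartbeats 0 in
theorem hRC_E8_43_3 : hCheckRCols chevE8 43 186 62 = true := by decide +kernel

theorem hR_E8_43 : hCheckRange chevE8 43 1 = true := by
  apply hCheckRange_one
  apply hCheckR_of_cols chevE8 43 62 4 (by decide +kernel) (by decide +kernel) (by decide +kernel)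
  intro k hk
  interval_cases k
  · exact hRC_E8_43_0
  · exact hRC_E8_43_1
  · exact hRC_E8_43_2
  · exact hRC_E8_43_3

set_option maxRecDepth 1000000 in
set_option maxHeartbeats 0 in
theorem hRC_E8_44_0 : hCheckRCols chevE8 44 0 62 = true := by decide +kernel

set_option maxRecDepth 1000000 in
set_option maxHeartbeats 0 in
theorem hRC_E8_44_1 : hCheckRCols chevE8 44 62 62 = true := by decide +kernel

set_option maxRecDepth 1000000 in
set_option maxHeartbeats 0 in
theorem hRC_E8_44_2 : hCheckRCols chevE8 44 124 62 = true := by decide +kernel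

set_option maxRecDepth 1000000 in
set_option maxHeartbeats 0 in
theorem hRC_E8_44_3 : hCheckRCols chevE8 44 186 62 = true := by decide +kernel

theorem hR_E8_44 : hCheckRange chevE8 44 1 = true := by
  apply hCheckRange_one
  apply hCheckR_of_cols chevE8 44 62 4 (by decide +kernel) (by decide +kernel) (by decide +kernel)
  intro k hk
  interval_cases k
  · exact hRC_E8_44_0
  · exact hRC_E8_44_1
  · exact hRC_E8_44_2
  · exact hRC_E8_44_3

set_option maxRecDepth 1000000 in
set_option maxHeartbeats 0 in
theorem hRC_E8_45_0 : hCheckRCols chevE8 45 0 62 = true := by decide +kernel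

set_option maxRecDepth 1000000 in
set_option maxHeartbeats 0 in
theorem hRC_E8_45_1 : hCheckRCols chevE8 45 62 62 = true := by decide +kernel

set_option maxRecDepth 1000000 in
set_option maxHeartbeats 0 in
theorem hRC_E8_45_2 : hCheckRCols chevE8 45 124 62 = true := by decide +kernel

set_option maxRecDepth 1000000 in
set_option maxHeartbeats 0 in
theorem hRC_E8_45_3 : hCheckRCols chevE8 45 186 62 = true := by decide +kernel

theorem hR_E8_45 : hCheckRange chevE8 45 1 = true := by
  apply hCheckRange_one
  apply hCheckR_of_cols chevE8 45 62 4 (by decide +kernel) (by decide +kernel) (by decide +kernel)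
  intro k hk
  interval_cases k
  · exact hRC_E8_45_0
  · exact hRC_E8_45_1
  · exact hRC_E8_45_2
  · exact hRC_E8_45_3

set_option maxRecDepth 1000000 in
set_option maxHeartbeats 0 in
theorem hRC_E8_46_0 : hCheckRCols chevE8 46 0 62 = true := by decide +kernel

set_option maxRecDepth 1000000 in
set_option maxHeartbeats 0 in
theorem hRC_E8_46_1 : hCheckRCols chevE8 46 62 62 = true := by decide +kernel

set_option maxRecDepth 1000000 in
set_option maxHeartbeats 0 in
theorem hRC_E8_46_2 : hCheckRCols chevE8 46 124 62 = true := by decide +kernel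

set_option maxRecDepth 1000000 in
set_option maxHeartbeats 0 in
theorem hRC_E8_46_3 : hCheckRCols chevE8 46 186 62 = true := by decide +kernel

theorem hR_E8_46 : hCheckRange chevE8 46 1 = true := by
  apply hCheckRange_one
  apply hCheckR_of_cols chevE8 46 62 4 (by decide +kernel) (by decide +kernel) (by decide +kernel)
  intro k hk
  interval_cases k
  · exact hRC_E8_46_0
  · exact hRC_E8_46_1
  · exact hRC_E8_46_2
  · exact hRC_E8_46_3

set_option maxRecDepth 1000000 in
set_option maxHeartbeats 0 in
theorem hRC_E8_47_0 : hCheckRCols chevE8 47 0 62 = true := by decide +kernel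

set_option maxRecDepth 1000000 in
set_option maxHeartbeats 0 in
theorem hRC_E8_47_1 : hCheckRCols chevE8 47 62 62 = true := by decide +kernel

set_option maxRecDepth 1000000 in
set_option maxHeartbeats 0 in
theorem hRC_E8_47_2 : hCheckRCols chevE8 47 124 62 = true := by decide +kernel

set_option maxRecDepth 1000000 in
set_option maxHeartbeats 0 in
theorem hRC_E8_47_3 : hCheckRCols chevE8 47 186 62 = true := by decide +kernel

theorem hR_E8_47 : hCheckRange chevE8 47 1 = true := by
  apply hCheckRange_one
  apply hCheckR_of_cols chevE8 47 62 4 (by decide +kernel) (by decide +kernel) (by decide +kernel)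
  intro k hk
  interval_cases k
  · exact hRC_E8_47_0
  · exact hRC_E8_47_1
  · exact hRC_E8_47_2
  · exact hRC_E8_47_3

set_option maxRecDepth 1000000 in
set_option maxHeartbeats 0 in
theorem hRC_E8_48_0 : hCheckRCols chevE8 48 0 62 = true := by decide +kernel

set_option maxRecDepth 1000000 in
set_option maxHeartbeats 0 in
theorem hRC_E8_48_1 : hCheckRCols chevE8 48 62 62 = true := by decide +kernel

set_option maxRecDepth 1000000 in
set_option maxHeartbeats 0 in
theorem hRC_E8_48_2 : hCheckRCols chevE8 48 124 62 = true := by decide +kernel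

set_option maxRecDepth 1000000 in
set_option maxHeartbeats 0 in
theorem hRC_E8_48_3 : hCheckRCols chevE8 48 186 62 = true := by decide +kernel

theorem hR_E8_48 : hCheckRange chevE8 48 1 = true := by
  apply hCheckRange_one
  apply hCheckR_of_cols chevE8 48 62 4 (by decide +kernel) (by decide +kernel) (by decide +kernel)
  intro k hk
  interval_cases k
  · exact hRC_E8_48_0
  · exact hRC_E8_48_1
  · exact hRC_E8_48_2
  · exact hRC_E8_48_3

set_option maxRecDepth 1000000 in
set_option maxHeartbeats 0 in
theorem hRC_E8_49_0 : hCheckRCols chevE8 49 0 62 = true := by decide +kernel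

set_option maxRecDepth 1000000 in
set_option maxHeartbeats 0 in
theorem hRC_E8_49_1 : hCheckRCols chevE8 49 62 62 = true := by decide +kernel

set_option maxRecDepth 1000000 in
set_option maxHeartbeats 0 in
theorem hRC_E8_49_2 : hCheckRCols chevE8 49 124 62 = true := by decide +kernel

set_option maxRecDepth 1000000 in
set_option maxHeartbeats 0 in
theorem hRC_E8_49_3 : hCheckRCols chevE8 49 186 62 = true := by decide +kernel

theorem hR_E8_49 : hCheckRange chevE8 49 1 = true := by
  apply hCheckRange_one
  apply hCheckR_of_cols chevE8 49 62 4 (by decide +kernel) (by decide +kernel) (by decide +kernel)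
  intro k hk
  interval_cases k
  · exact hRC_E8_49_0
  · exact hRC_E8_49_1
  · exact hRC_E8_49_2
  · exact hRC_E8_49_3

end Cfsg.Agent.helper5.Chev
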