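import Mathlib
import Cfsg.Agent.Lib_helper5_ChevHR
import Cfsg.Prelude.Def_ChevE8

set_option autoImplicit false

namespace Cfsg.Agent.helper5.Chev

open Cfsg.Lie

set_option maxRecDepth 1000000 in
set_option maxHeartbeats 0 in
theorem hRC_E8_50_0 : hCheckRCols chevE8 50 0 62 = true := by decide +kernel

set_option maxRecDepth 1000000 in
set_option maxHeartbeats 0 in
theorem hRC_E8_50_1 : hCheckRCols chevE8 50 62 62 = true := by decide +kernel

set_option maxRecDepth 1000000 in
set_option maxHeartbeats 0 in
theorem hRC_E8_50_2 : hCheckRCols chevE8 50 124 62 = true := by decide +kernel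

set_option maxRecDepth 1000000 in
set_option maxHeartbeats 0 in
theorem hRC_E8_50_3 : hCheckRCols chevE8 50 186 62 = true := by decide +kernel

theorem hR_E8_50 : hCheckRange chevE8 50 1 = true := by
  apply hCheckRange_one
  apply hCheckR_of_cols chevE8 50 62 4 (by decide +kernel) (by decide +kernel) (by decide +kernel)
  intro k hk
  interval_cases k
  · exact hRC_E8_50_0
  · exact hRC_E8_50_1
  · exact hRC_E8_50_2
  · exact hRC_E8_50_3

set_option maxRecDepth 1000000 in
set_option maxHeartbeats 0 in
theorem hRC_E8_51_0 : hCheckRCols chevE8 51 0 62 = true := by decide +kernel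

set_option maxRecDepth 1000000 in
set_option maxHeartbeats 0 in
theorem hRC_E8_51_1 : hCheckRCols chevE8 51 62 62 = true := by decide +kernel

set_option maxRecDepth 1000000 in
set_option maxHeartbeats 0 in
theorem hRC_E8_51_2 : hCheckRCols chevE8 51 124 62 = true := by decide +kernel

set_option maxRecDepth 1000000 in
set_option maxHeartbeats 0 in
theorem hRC_E8_51_3 : hCheckRCols chevE8 51 186 62 = true := by decide +kernel

theorem hR_E8_51 : hCheckRange chevE8 51 1 = true := by
  apply hCheckRange_one
  apply hCheckR_of_cols chevE8 51 62 4 (by decide +kernel) (by decide +kernel) (by decide +kernel)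
  intro k hk
  interval_cases k
  · exact hRC_E8_51_0
  · exact hRC_E8_51_1
  · exact hRC_E8_51_2
  · exact hRC_E8_51_3

set_option maxRecDepth 1000000 in
set_option maxHeartbeats 0 in
theorem hRC_E8_52_0 : hCheckRCols chevE8 52 0 62 = true := by decide +kernel

set_option maxRecDepth 1000000 in
set_option maxHeartbeats 0 in
theorem hRC_E8_52_1 : hCheckRCols chevE8 52 62 62 = true := by decide +kernel

set_option maxRecDepth 1000000 in
set_option maxHeartbeats 0 in
theorem hRC_E8_52_2 : hCheckRCols chevE8 52 124 62 = true := by decide +kernel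

set_option maxRecDepth 1000000 in
set_option maxHeartbeats 0 in
theorem hRC_E8_52_3 : hCheckRCols chevE8 52 186 62 = true := by decide +kernel

theorem hR_E8_52 : hCheckRange chevE8 52 1 = true := by
  apply hCheckRange_one
  apply hCheckR_of_cols chevE8 52 62 4 (by decide +kernel) (by decide +kernel) (by decide +kernel)
  intro k hk
  interval_cases k
  · exact hRC_E8_52_0
  · exact hRC_E8_52_1
  · exact hRC_E8_52_2
  · exact hRC_E8_52_3

set_option maxRecDepth 1000000 in
set_option maxHeartbeats 0 in
theorem hRC_E8_53_0 : hCheckRCols chevE8 53 0 62 = true := by decide +kernel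

set_option maxRecDepth 1000000 in
set_option maxHeartbeats 0 in
theorem hRC_E8_53_1 : hCheckRCols chevE8 53 62 62 = true := by decide +kernel

set_option maxRecDepth 1000000 in
set_option maxHeartbeats 0 in
theorem hRC_E8_53_2 : hCheckRCols chevE8 53 124 62 = true := by decide +kernel

set_option maxRecDepth 1000000 in
set_option maxHeartbeats 0 in
theorem hRC_E8_53_3 : hCheckRCols chevE8 53 186 62 = true := by decide +kernel

theorem hR_E8_53 : hCheckRange chevE8 53 1 = true := by
  apply hCheckRange_one
  apply hCheckR_of_cols chevE8 53 62 4 (by decide +kernel) (by decide +kernel) (by decide +kernel)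
  intro k hk
  interval_cases k
  · exact hRC_E8_53_0
  · exact hRC_E8_53_1
  · exact hRC_E8_53_2
  · exact hRC_E8_53_3

set_option maxRecDepth 1000000 in
set_option maxHeartbeats 0 in
theorem hRC_E8_54_0 : hCheckRCols chevE8 54 0 62 = true := by decide +kernel

set_option maxRecDepth 1000000 in
set_option maxHeartbeats 0 in
theorem hRC_E8_54_1 : hCheckRCols chevE8 54 62 62 = true := by decide +kernel

set_option maxRecDepth 1000000 in
set_option maxHeartbeats 0 in
theorem hRC_E8_54_2 : hCheckRCols chevE8 54 124 62 = true := by decide +kernel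

set_option maxRecDepth 1000000 in
set_option maxHeartbeats 0 in
theorem hRC_E8_54_3 : hCheckRCols chevE8 54 186 62 = true := by decide +kernel

theorem hR_E8_54 : hCheckRange chevE8 54 1 = true := by
  apply hCheckRange_one
  apply hCheckR_of_cols chevE8 54 62 4 (by decide +kernel) (by decide +kernel) (by decide +kernel)
  intro k hk
  interval_cases k
  · exact hRC_E8_54_0
  · exact hRC_E8_54_1
  · exact hRC_E8_54_2
  · exact hRC_E8_54_3

set_option maxRecDepth 1000000 in
set_option maxHeartbeats 0 in
theorem hRC_E8_55_0 : hCheckRCols chevE8 55 0 62 = true := by decide +kernel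

set_option maxRecDepth 1000000 in
set_option maxHeartbeats 0 in
theorem hRC_E8_55_1 : hCheckRCols chevE8 55 62 62 = true := by decide +kernel

set_option maxRecDepth 1000000 in
set_option maxHeartbeats 0 in
theorem hRC_E8_55_2 : hCheckRCols chevE8 55 124 62 = true := by decide +kernel

set_option maxRecDepth 1000000 in
set_option maxHeartbeats 0 in
theorem hRC_E8_55_3 : hCheckRCols chevE8 55 186 62 = true := by decide +kernel

theorem hR_E8_55 : hCheckRange chevE8 55 1 = true := by
  apply hCheckRange_one
  apply hCheckR_of_cols chevE8 55 62 4 (by decide +kernel) (by decide +kernel) (by decide +kernel)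
  intro k hk
  interval_cases k
  · exact hRC_E8_55_0
  · exact hRC_E8_55_1
  · exact hRC_E8_55_2
  · exact hRC_E8_55_3

set_option maxRecDepth 1000000 in
set_option maxHeartbeats 0 in
theorem hRC_E8_56_0 : hCheckRCols chevE8 56 0 62 = true := by decide +kernel

set_option maxRecDepth 1000000 in
set_option maxHeartbeats 0 in
theorem hRC_E8_56_1 : hCheckRCols chevE8 56 62 62 = true := by decide +kernel

set_option maxRecDepth 1000000 in
set_option maxHeartbeats 0 in
theorem hRC_E8_56_2 : hCheckRCols chevE8 56 124 62 = true := by decide +kernel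

set_option maxRecDepth 1000000 in
set_option maxHeartbeats 0 in
theorem hRC_E8_56_3 : hCheckRCols chevE8 56 186 62 = true := by decide +kernel

theorem hR_E8_56 : hCheckRange chevE8 56 1 = true := by
  apply hCheckRange_one
  apply hCheckR_of_cols chevE8 56 62 4 (by decide +kernel) (by decide +kernel) (by decide +kernel)
  intro k hk
  interval_cases k
  · exact hRC_E8_56_0
  · exact hRC_E8_56_1
  · exact hRC_E8_56_2
  · exact hRC_E8_56_3

set_option maxRecDepth 1000000 in
set_option maxHeartbeats 0 in
theorem hRC_E8_57_0 : hCheckRCols chevE8 57 0 62 = true := by decide +kernel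

set_option maxRecDepth 1000000 in
set_option maxHeartbeats 0 in
theorem hRC_E8_57_1 : hCheckRCols chevE8 57 62 62 = true := by decide +kernel

set_option maxRecDepth 1000000 in
set_option maxHeartbeats 0 in
theorem hRC_E8_57_2 : hCheckRCols chevE8 57 124 62 = true := by decide +kernel

set_option maxRecDepth 1000000 in
set_option maxHeartbeats 0 in
theorem hRC_E8_57_3 : hCheckRCols chevE8 57 186 62 = true := by decide +kernel

theorem hR_E8_57 : hCheckRange chevE8 57 1 = true := by
  apply hCheckRange_one
  apply hCheckR_of_cols chevE8 57 62 4 (by decide +kernel) (by decide +kernel) (by decide +kernel)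
  intro k hk
  interval_cases k
  · exact hRC_E8_57_0
  · exact hRC_E8_57_1
  · exact hRC_E8_57_2
  · exact hRC_E8_57_3

set_option maxRecDepth 1000000 in
set_option maxHeartbeats 0 in
theorem hRC_E8_58_0 : hCheckRCols chevE8 58 0 62 = true := by decide +kernel

set_option maxRecDepth 1000000 in
set_option maxHeartbeats 0 in
theorem hRC_E8_58_1 : hCheckRCols chevE8 58 62 62 = true := by decide +kernel

set_option maxRecDepth 1000000 in
set_option maxHeartbeats 0 in
theorem hRC_E8_58_2 : hCheckRCols chevE8 58 124 62 = true := by decide +kernel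

set_option maxRecDepth 1000000 in
set_option maxHeartbeats 0 in
theorem hRC_E8_58_3 : hCheckRCols chevE8 58 186 62 = true := by decide +kernel

theorem hR_E8_58 : hCheckRange chevE8 58 1 = true := by
  apply hCheckRange_one
  apply hCheckR_of_cols chevE8 58 62 4 (by decide +kernel) (by decide +kernel) (by decide +kernel)
  intro k hk
  interval_cases k
  · exact hRC_E8_58_0
  · exact hRC_E8_58_1
  · exact hRC_E8_58_2
  · exact hRC_E8_58_3

set_option maxRecDepth 1000000 in
set_option maxHeartbeats 0 in
theorem hRC_E8_59_0 : hCheckRCols chevE8 59 0 62 = true := by decide +kernel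

set_option maxRecDepth 1000000 in
set_option maxHeartbeats 0 in
theorem hRC_E8_59_1 : hCheckRCols chevE8 59 62 62 = true := by decide +kernel

set_option maxRecDepth 1000000 in
set_option maxHeartbeats 0 in
theorem hRC_E8_59_2 : hCheckRCols chevE8 59 124 62 = true := by decide +kernel

set_option maxRecDepth 1000000 in
set_option maxHeartbeats 0 in
theorem hRC_E8_59_3 : hCheckRCols chevE8 59 186 62 = true := by decide +kernel

theorem hR_E8_59 : hCheckRange chevE8 59 1 = true := by
  apply hCheckRange_one
  apply hCheckR_of_cols chevE8 59 62 4 (by decide +kernel) (by decide +kernel) (by decide +kernel)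
  intro k hk
  interval_cases k
  · exact hRC_E8_59_0
  · exact hRC_E8_59_1
  · exact hRC_E8_59_2
  · exact hRC_E8_59_3

end Cfsg.Agent.helper5.Chev
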