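import Mathlib
import Cfsg.Agent.Lib_helper5_ChevHR
import Cfsg.Prelude.Def_ChevE8

set_option autoImplicit false

namespace Cfsg.Agent.helper5.Chev

open Cfsg.Lie

set_option maxRecDepth 1000000 in
set_option maxHeartbeats 0 in
theorem hRC_E8_60_0 : hCheckRCols chevE8 60 0 62 = true := by decide +kernel

set_option maxRecDepth 1000000 in
set_option maxHeartbeats 0 in
theorem hRC_E8_60_1 : hCheckRCols chevE8 60 62 62 = true := by decide +kernel

set_option maxRecDepth 1000000 in
set_option maxHeartbeats 0 in
theorem hRC_E8_60_2 : hCheckRCols chevE8 60 124 62 = true := by decide +kernel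

set_option maxRecDepth 1000000 in
set_option maxHeartbeats 0 in
theorem hRC_E8_60_3 : hCheckRCols chevE8 60 186 62 = true := by decide +kernel

theorem hR_E8_60 : hCheckRange chevE8 60 1 = true := by
  apply hCheckRange_one
  apply hCheckR_of_cols chevE8 60 62 4 (by decide +kernel) (by decide +kernel) (by decide +kernel)
  intro k hk
  interval_cases k
  · exact hRC_E8_60_0
  · exact hRC_E8_60_1
  · exact hRC_E8_60_2
  · exact hRC_E8_60_3

set_option maxRecDepth 1000000 in
set_option maxHeartbeats 0 in
theorem hRC_E8_61_0 : hCheckRCols chevE8 61 0 62 = true := by decide +kernel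

set_option maxRecDepth 1000000 in
set_option maxHeartbeats 0 in
theorem hRC_E8_61_1 : hCheckRCols chevE8 61 62 62 = true := by decide +kernel

set_option maxRecDepth 1000000 in
set_option maxHeartbeats 0 in
theorem hRC_E8_61_2 : hCheckRCols chevE8 61 124 62 = true := by decide +kernel

set_option maxRecDepth 1000000 in
set_option maxHeartbeats 0 in
theorem hRC_E8_61_3 : hCheckRCols chevE8 61 186 62 = true := by decide +kernel

theorem hR_E8_61 : hCheckRange chevE8 61 1 = true := by
  apply hCheckRange_one
  apply hCheckR_of_cols chevE8 61 62 4 (by decide +kernel) (by decide +kernel) (by decide +kernel)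
  intro k hk
  interval_cases k
  · exact hRC_E8_61_0
  · exact hRC_E8_61_1
  · exact hRC_E8_61_2
  · exact hRC_E8_61_3

set_option maxRecDepth 1000000 in
set_option maxHeartbeats 0 in
theorem hRC_E8_62_0 : hCheckRCols chevE8 62 0 62 = true := by decide +kernel

set_option maxRecDepth 1000000 in
set_option maxHeartbeats 0 in
theorem hRC_E8_62_1 : hCheckRCols chevE8 62 62 62 = true := by decide +kernel

set_option maxRecDepth 1000000 in
set_option maxHeartbeats 0 in
theorem hRC_E8_62_2 : hCheckRCols chevE8 62 124 62 = true := by decide +kernel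

set_option maxRecDepth 1000000 in
set_option maxHeartbeats 0 in
theorem hRC_E8_62_3 : hCheckRCols chevE8 62 186 62 = true := by decide +kernel

theorem hR_E8_62 : hCheckRange chevE8 62 1 = true := by
  apply hCheckRange_one
  apply hCheckR_of_cols chevE8 62 62 4 (by decide +kernel) (by decide +kernel) (by decide +kernel)
  intro k hk
  interval_cases k
  · exact hRC_E8_62_0
  · exact hRC_E8_62_1
  · exact hRC_E8_62_2
  · exact hRC_E8_62_3

set_option maxRecDepth 1000000 in
set_option maxHeartbeats 0 in
theorem hRC_E8_63_0 : hCheckRCols chevE8 63 0 62 = true := by decide +kernel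

set_option maxRecDepth 1000000 in
set_option maxHeartbeats 0 in
theorem hRC_E8_63_1 : hCheckRCols chevE8 63 62 62 = true := by decide +kernel

set_option maxRecDepth 1000000 in
set_option maxHeartbeats 0 in
theorem hRC_E8_63_2 : hCheckRCols chevE8 63 124 62 = true := by decide +kernel

set_option maxRecDepth 1000000 in
set_option maxHeartbeats 0 in
theorem hRC_E8_63_3 : hCheckRCols chevE8 63 186 62 = true := by decide +kernel

theorem hR_E8_63 : hCheckRange chevE8 63 1 = true := by
  apply hCheckRange_one
  apply hCheckR_of_cols chevE8 63 62 4 (by decide +kernel) (by decide +kernel) (by decide +kernel)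
  intro k hk
  interval_cases k
  · exact hRC_E8_63_0
  · exact hRC_E8_63_1
  · exact hRC_E8_63_2
  · exact hRC_E8_63_3

set_option maxRecDepth 1000000 in
set_option maxHeartbeats 0 in
theorem hRC_E8_64_0 : hCheckRCols chevE8 64 0 62 = true := by decide +kernel

set_option maxRecDepth 1000000 in
set_option maxHeartbeats 0 in
theorem hRC_E8_64_1 : hCheckRCols chevE8 64 62 62 = true := by decide +kernel

set_option maxRecDepth 1000000 in
set_option maxHeartbeats 0 in
theorem hRC_E8_64_2 : hCheckRCols chevE8 64 124 62 = true := by decide +kernel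

set_option maxRecDepth 1000000 in
set_option maxHeartbeats 0 in
theorem hRC_E8_64_3 : hCheckRCols chevE8 64 186 62 = true := by decide +kernel

theorem hR_E8_64 : hCheckRange chevE8 64 1 = true := by
  apply hCheckRange_one
  apply hCheckR_of_cols chevE8 64 62 4 (by decide +kernel) (by decide +kernel) (by decide +kernel)
  intro k hk
  interval_cases k
  · exact hRC_E8_64_0
  · exact hRC_E8_64_1
  · exact hRC_E8_64_2
  · exact hRC_E8_64_3

set_option maxRecDepth 1000000 in
set_option maxHeartbeats 0 in
theorem hRC_E8_65_0 : hCheckRCols chevE8 65 0 62 = true := by decide +kernel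

set_option maxRecDepth 1000000 in
set_option maxHeartbeats 0 in
theorem hRC_E8_65_1 : hCheckRCols chevE8 65 62 62 = true := by decide +kernel

set_option maxRecDepth 1000000 in
set_option maxHeartbeats 0 in
theorem hRC_E8_65_2 : hCheckRCols chevE8 65 124 62 = true := by decide +kernel

set_option maxRecDepth 1000000 in
set_option maxHeartbeats 0 in
theorem hRC_E8_65_3 : hCheckRCols chevE8 65 186 62 = true := by decide +kernel

theorem hR_E8_65 : hCheckRange chevE8 65 1 = true := by
  apply hCheckRange_one
  apply hCheckR_of_cols chevE8 65 62 4 (by decide +kernel) (by decide +kernel) (by decide +kernel)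
  intro k hk
  interval_cases k
  · exact hRC_E8_65_0
  · exact hRC_E8_65_1
  · exact hRC_E8_65_2
  · exact hRC_E8_65_3

set_option maxRecDepth 1000000 in
set_option maxHeartbeats 0 in
theorem hRC_E8_66_0 : hCheckRCols chevE8 66 0 62 = true := by decide +kernel

set_option maxRecDepth 1000000 in
set_option maxHeartbeats 0 in
theorem hRC_E8_66_1 : hCheckRCols chevE8 66 62 62 = true := by decide +kernel

set_option maxRecDepth 1000000 in
set_option maxHeartbeats 0 in
theorem hRC_E8_66_2 : hCheckRCols chevE8 66 124 62 = true := by decide +kernel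

set_option maxRecDepth 1000000 in
set_option maxHeartbeats 0 in
theorem hRC_E8_66_3 : hCheckRCols chevE8 66 186 62 = true := by decide +kernel

theorem hR_E8_66 : hCheckRange chevE8 66 1 = true := by
  apply hCheckRange_one
  apply hCheckR_of_cols chevE8 66 62 4 (by decide +kernel) (by decide +kernel) (by decide +kernel)
  intro k hk
  interval_cases k
  · exact hRC_E8_66_0
  · exact hRC_E8_66_1
  · exact hRC_E8_66_2
  · exact hRC_E8_66_3

set_option maxRecDepth 1000000 in
set_option maxHeartbeats 0 in
theorem hRC_E8_67_0 : hCheckRCols chevE8 67 0 62 = true := by decide +kernel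

set_option maxRecDepth 1000000 in
set_option maxHeartbeats 0 in
theorem hRC_E8_67_1 : hCheckRCols chevE8 67 62 62 = true := by decide +kernel

set_option maxRecDepth 1000000 in
set_option maxHeartbeats 0 in
theorem hRC_E8_67_2 : hCheckRCols chevE8 67 124 62 = true := by decide +kernel

set_option maxRecDepth 1000000 in
set_option maxHeartbeats 0 in
theorem hRC_E8_67_3 : hCheckRCols chevE8 67 186 62 = true := by decide +kernel

theorem hR_E8_67 : hCheckRange chevE8 67 1 = true := by
  apply hCheckRange_one
  apply hCheckR_of_cols chevE8 67 62 4 (by decide +kernel) (by decide +kernel) (by decide +kernel)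
  intro k hk
  interval_cases k
  · exact hRC_E8_67_0
  · exact hRC_E8_67_1
  · exact hRC_E8_67_2
  · exact hRC_E8_67_3

set_option maxRecDepth 1000000 in
set_option maxHeartbeats 0 in
theorem hRC_E8_68_0 : hCheckRCols chevE8 68 0 62 = true := by decide +kernel

set_option maxRecDepth 1000000 in
set_option maxHeartbeats 0 in
theorem hRC_E8_68_1 : hCheckRCols chevE8 68 62 62 = true := by decide +kernel

set_option maxRecDepth 1000000 in
set_option maxHeartbeats 0 in
theorem hRC_E8_68_2 : hCheckRCols chevE8 68 124 62 = true := by decide +kernel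

set_option maxRecDepth 1000000 in
set_option maxHeartbeats 0 in
theorem hRC_E8_68_3 : hCheckRCols chevE8 68 186 62 = true := by decide +kernel

theorem hR_E8_68 : hCheckRange chevE8 68 1 = true := by
  apply hCheckRange_one
  apply hCheckR_of_cols chevE8 68 62 4 (by decide +kernel) (by decide +kernel) (by decide +kernel)
  intro k hk
  interval_cases k
  · exact hRC_E8_68_0
  · exact hRC_E8_68_1
  · exact hRC_E8_68_2
  · exact hRC_E8_68_3

set_option maxRecDepth 1000000 in
set_option maxHeartbeats 0 in
theorem hRC_E8_69_0 : hCheckRCols chevE8 69 0 62 = true := by decide +kernel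

set_option maxRecDepth 1000000 in
set_option maxHeartbeats 0 in
theorem hRC_E8_69_1 : hCheckRCols chevE8 69 62 62 = true := by decide +kernel

set_option maxRecDepth 1000000 in
set_option maxHeartbeats 0 in
theorem hRC_E8_69_2 : hCheckRCols chevE8 69 124 62 = true := by decide +kernel

set_option maxRecDepth 1000000 in
set_option maxHeartbeats 0 in
theorem hRC_E8_69_3 : hCheckRCols chevE8 69 186 62 = true := by decide +kernel

theorem hR_E8_69 : hCheckRange chevE8 69 1 = true := by
  apply hCheckRange_one
  apply hCheckR_of_cols chevE8 69 62 4 (by decide +kernel) (by decide +kernel) (by decide +kernel)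
  intro k hk
  interval_cases k
  · exact hRC_E8_69_0
  · exact hRC_E8_69_1
  · exact hRC_E8_69_2
  · exact hRC_E8_69_3

end Cfsg.Agent.helper5.Chev
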