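import Mathlib
import Cfsg.Agent.Lib_helper5_ChevHR
import Cfsg.Prelude.Def_ChevE8

set_option autoImplicit false

namespace Cfsg.Agent.helper5.Chev

open Cfsg.Lie

set_option maxRecDepth 1000000 in
set_option maxHeartbeats 0 in
theorem hRC_E8_70_0 : hCheckRCols chevE8 70 0 62 = true := by decide +kernel

set_option maxRecDepth 1000000 in
set_option maxHeartbeats 0 in
theorem hRC_E8_70_1 : hCheckRCols chevE8 70 62 62 = true := by decide +kernel

set_option maxRecDepth 1000000 in
set_option maxHeartbeats 0 in
theorem hRC_E8_70_2 : hCheckRCols chevE8 70 124 62 = true := by decide +kernel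

set_option maxRecDepth 1000000 in
set_option maxHeartbeats 0 in
theorem hRC_E8_70_3 : hCheckRCols chevE8 70 186 62 = true := by decide +kernel

theorem hR_E8_70 : hCheckRange chevE8 70 1 = true := by
  apply hCheckRange_one
  apply hCheckR_of_cols chevE8 70 62 4 (by decide +kernel) (by decide +kernel) (by decide +kernel)
  intro k hk
  interval_cases k
  · exact hRC_E8_70_0
  · exact hRC_E8_70_1
  · exact hRC_E8_70_2
  · exact hRC_E8_70_3

set_option maxRecDepth 1000000 in
set_option maxHeartbeats 0 in
theorem hRC_E8_71_0 : hCheckRCols chevE8 71 0 62 = true := by decide +kernel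

set_option maxRecDepth 1000000 in
set_option maxHeartbeats 0 in
theorem hRC_E8_71_1 : hCheckRCols chevE8 71 62 62 = true := by decide +kernel

set_option maxRecDepth 1000000 in
set_option maxHeartbeats 0 in
theorem hRC_E8_71_2 : hCheckRCols chevE8 71 124 62 = true := by decide +kernel

set_option maxRecDepth 1000000 in
set_option maxHeartbeats 0 in
theorem hRC_E8_71_3 : hCheckRCols chevE8 71 186 62 = true := by decide +kernel

theorem hR_E8_71 : hCheckRange chevE8 71 1 = true := by
  apply hCheckRange_one
  apply hCheckR_of_cols chevE8 71 62 4 (by decide +kernel) (by decide +kernel) (by decide +kernel)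
  intro k hk
  interval_cases k
  · exact hRC_E8_71_0
  · exact hRC_E8_71_1
  · exact hRC_E8_71_2
  · exact hRC_E8_71_3

set_option maxRecDepth 1000000 in
set_option maxHeartbeats 0 in
theorem hRC_E8_72_0 : hCheckRCols chevE8 72 0 62 = true := by decide +kernel

set_option maxRecDepth 1000000 in
set_option maxHeartbeats 0 in
theorem hRC_E8_72_1 : hCheckRCols chevE8 72 62 62 = true := by decide +kernel

set_option maxRecDepth 1000000 in
set_option maxHeartbeats 0 in
theorem hRC_E8_72_2 : hCheckRCols chevE8 72 124 62 = true := by decide +kernel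

set_option maxRecDepth 1000000 in
set_option maxHeartbeats 0 in
theorem hRC_E8_72_3 : hCheckRCols chevE8 72 186 62 = true := by decide +kernel

theorem hR_E8_72 : hCheckRange chevE8 72 1 = true := by
  apply hCheckRange_one
  apply hCheckR_of_cols chevE8 72 62 4 (by decide +kernel) (by decide +kernel) (by decide +kernel)
  intro k hk
  interval_cases k
  · exact hRC_E8_72_0
  · exact hRC_E8_72_1
  · exact hRC_E8_72_2
  · exact hRC_E8_72_3

set_option maxRecDepth 1000000 in
set_option maxHeartbeats 0 in
theorem hRC_E8_73_0 : hCheckRCols chevE8 73 0 62 = true := by decide +kernel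

set_option maxRecDepth 1000000 in
set_option maxHeartbeats 0 in
theorem hRC_E8_73_1 : hCheckRCols chevE8 73 62 62 = true := by decide +kernel

set_option maxRecDepth 1000000 in
set_option maxHeartbeats 0 in
theorem hRC_E8_73_2 : hCheckRCols chevE8 73 124 62 = true := by decide +kernel

set_option maxRecDepth 1000000 in
set_option maxHeartbeats 0 in
theorem hRC_E8_73_3 : hCheckRCols chevE8 73 186 62 = true := by decide +kernel

theorem hR_E8_73 : hCheckRange chevE8 73 1 = true := by
  apply hCheckRange_one
  apply hCheckR_of_cols chevE8 73 62 4 (by decide +kernel) (by decide +kernel) (by decide +kernel)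
  intro k hk
  interval_cases k
  · exact hRC_E8_73_0
  · exact hRC_E8_73_1
  · exact hRC_E8_73_2
  · exact hRC_E8_73_3

set_option maxRecDepth 1000000 in
set_option maxHeartbeats 0 in
theorem hRC_E8_74_0 : hCheckRCols chevE8 74 0 62 = true := by decide +kernel

set_option maxRecDepth 1000000 in
set_option maxHeartbeats 0 in
theorem hRC_E8_74_1 : hCheckRCols chevE8 74 62 62 = true := by decide +kernel

set_option maxRecDepth 1000000 in
set_option maxHeartbeats 0 in
theorem hRC_E8_74_2 : hCheckRCols chevE8 74 124 62 = true := by decide +kernel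

set_option maxRecDepth 1000000 in
set_option maxHeartbeats 0 in
theorem hRC_E8_74_3 : hCheckRCols chevE8 74 186 62 = true := by decide +kernel

theorem hR_E8_74 : hCheckRange chevE8 74 1 = true := by
  apply hCheckRange_one
  apply hCheckR_of_cols chevE8 74 62 4 (by decide +kernel) (by decide +kernel) (by decide +kernel)
  intro k hk
  interval_cases k
  · exact hRC_E8_74_0
  · exact hRC_E8_74_1
  · exact hRC_E8_74_2
  · exact hRC_E8_74_3

set_option maxRecDepth 1000000 in
set_option maxHeartbeats 0 in
theorem hRC_E8_75_0 : hCheckRCols chevE8 75 0 62 = true := by decide +kernel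

set_option maxRecDepth 1000000 in
set_option maxHeartbeats 0 in
theorem hRC_E8_75_1 : hCheckRCols chevE8 75 62 62 = true := by decide +kernel

set_option maxRecDepth 1000000 in
set_option maxHeartbeats 0 in
theorem hRC_E8_75_2 : hCheckRCols chevE8 75 124 62 = true := by decide +kernel

set_option maxRecDepth 1000000 in
set_option maxHeartbeats 0 in
theorem hRC_E8_75_3 : hCheckRCols chevE8 75 186 62 = true := by decide +kernel

theorem hR_E8_75 : hCheckRange chevE8 75 1 = true := by
  apply hCheckRange_one
  apply hCheckR_of_cols chevE8 75 62 4 (by decide +kernel) (by decide +kernel) (by decide +kernel)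
  intro k hk
  interval_cases k
  · exact hRC_E8_75_0
  · exact hRC_E8_75_1
  · exact hRC_E8_75_2
  · exact hRC_E8_75_3

set_option maxRecDepth 1000000 in
set_option maxHeartbeats 0 in
theorem hRC_E8_76_0 : hCheckRCols chevE8 76 0 62 = true := by decide +kernel

set_option maxRecDepth 1000000 in
set_option maxHeartbeats 0 in
theorem hRC_E8_76_1 : hCheckRCols chevE8 76 62 62 = true := by decide +kernel

set_option maxRecDepth 1000000 in
set_option maxHeartbeats 0 in
theorem hRC_E8_76_2 : hCheckRCols chevE8 76 124 62 = true := by decide +kernel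

set_option maxRecDepth 1000000 in
set_option maxHeartbeats 0 in
theorem hRC_E8_76_3 : hCheckRCols chevE8 76 186 62 = true := by decide +kernel

theorem hR_E8_76 : hCheckRange chevE8 76 1 = true := by
  apply hCheckRange_one
  apply hCheckR_of_cols chevE8 76 62 4 (by decide +kernel) (by decide +kernel) (by decide +kernel)
  intro k hk
  interval_cases k
  · exact hRC_E8_76_0
  · exact hRC_E8_76_1
  · exact hRC_E8_76_2
  · exact hRC_E8_76_3

set_option maxRecDepth 1000000 in
set_option maxHeartbeats 0 in
theorem hRC_E8_77_0 : hCheckRCols chevE8 77 0 62 = true := by decide +kernel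

set_option maxRecDepth 1000000 in
set_option maxHeartbeats 0 in
theorem hRC_E8_77_1 : hCheckRCols chevE8 77 62 62 = true := by decide +kernel

set_option maxRecDepth 1000000 in
set_option maxHeartbeats 0 in
theorem hRC_E8_77_2 : hCheckRCols chevE8 77 124 62 = true := by decide +kernel

set_option maxRecDepth 1000000 in
set_option maxHeartbeats 0 in
theorem hRC_E8_77_3 : hCheckRCols chevE8 77 186 62 = true := by decide +kernel

theorem hR_E8_77 : hCheckRange chevE8 77 1 = true := by
  apply hCheckRange_one
  apply hCheckR_of_cols chevE8 77 62 4 (by decide +kernel) (by decide +kernel) (by decide +kernel)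
  intro k hk
  interval_cases k
  · exact hRC_E8_77_0
  · exact hRC_E8_77_1
  · exact hRC_E8_77_2
  · exact hRC_E8_77_3

set_option maxRecDepth 1000000 in
set_option maxHeartbeats 0 in
theorem hRC_E8_78_0 : hCheckRCols chevE8 78 0 62 = true := by decide +kernel

set_option maxRecDepth 1000000 in
set_option maxHeartbeats 0 in
theorem hRC_E8_78_1 : hCheckRCols chevE8 78 62 62 = true := by decide +kernel

set_option maxRecDepth 1000000 in
set_option maxHeartbeats 0 in
theorem hRC_E8_78_2 : hCheckRCols chevE8 78 124 62 = true := by decide +kernel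

set_option maxRecDepth 1000000 in
set_option maxHeartbeats 0 in
theorem hRC_E8_78_3 : hCheckRCols chevE8 78 186 62 = true := by decide +kernel

theorem hR_E8_78 : hCheckRange chevE8 78 1 = true := by
  apply hCheckRange_one
  apply hCheckR_of_cols chevE8 78 62 4 (by decide +kernel) (by decide +kernel) (by decide +kernel)
  intro k hk
  interval_cases k
  · exact hRC_E8_78_0
  · exact hRC_E8_78_1
  · exact hRC_E8_78_2
  · exact hRC_E8_78_3

set_option maxRecDepth 1000000 in
set_option maxHeartbeats 0 in
theorem hRC_E8_79_0 : hCheckRCols chevE8 79 0 62 = true := by decide +kernel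

set_option maxRecDepth 1000000 in
set_option maxHeartbeats 0 in
theorem hRC_E8_79_1 : hCheckRCols chevE8 79 62 62 = true := by decide +kernel

set_option maxRecDepth 1000000 in
set_option maxHeartbeats 0 in
theorem hRC_E8_79_2 : hCheckRCols chevE8 79 124 62 = true := by decide +kernel

set_option maxRecDepth 1000000 in
set_option maxHeartbeats 0 in
theorem hRC_E8_79_3 : hCheckRCols chevE8 79 186 62 = true := by decide +kernel

theorem hR_E8_79 : hCheckRange chevE8 79 1 = true := by
  apply hCheckRange_one
  apply hCheckR_of_cols chevE8 79 62 4 (by decide +kernel) (by decide +kernel) (by decide +kernel)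
  intro k hk
  interval_cases k
  · exact hRC_E8_79_0
  · exact hRC_E8_79_1
  · exact hRC_E8_79_2
  · exact hRC_E8_79_3

end Cfsg.Agent.helper5.Chev
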