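import Mathlib
import Cfsg.Agent.Lib_helper5_ChevHR
import Cfsg.Prelude.Def_ChevE8

set_option autoImplicit false

namespace Cfsg.Agent.helper5.Chev

open Cfsg.Lie

set_option maxRecDepth 1000000 in
set_option maxHeartbeats 0 in
theorem hRC_E8_80_0 : hCheckRCols chevE8 80 0 62 = true := by decide +kernel

set_option maxRecDepth 1000000 in
set_option maxHeartbeats 0 in
theorem hRC_E8_80_1 : hCheckRCols chevE8 80 62 62 = true := by decide +kernel

set_option maxRecDepth 1000000 in
set_option maxHeartbeats 0 in
theorem hRC_E8_80_2 : hCheckRCols chevE8 80 124 62 = true := by decide +kernel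

set_option maxRecDepth 1000000 in
set_option maxHeartbeats 0 in
theorem hRC_E8_80_3 : hCheckRCols chevE8 80 186 62 = true := by decide +kernel

theorem hR_E8_80 : hCheckRange chevE8 80 1 = true := by
  apply hCheckRange_one
  apply hCheckR_of_cols chevE8 80 62 4 (by decide +kernel) (by decide +kernel) (by decide +kernel)
  intro k hk
  interval_cases k
  · exact hRC_E8_80_0
  · exact hRC_E8_80_1
  · exact hRC_E8_80_2
  · exact hRC_E8_80_3

set_option maxRecDepth 1000000 in
set_option maxHeartbeats 0 in
theorem hRC_E8_81_0 : hCheckRCols chevE8 81 0 62 = true := by decide +kernel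

set_option maxRecDepth 1000000 in
set_option maxHeartbeats 0 in
theorem hRC_E8_81_1 : hCheckRCols chevE8 81 62 62 = true := by decide +kernel

set_option maxRecDepth 1000000 in
set_option maxHeartbeats 0 in
theorem hRC_E8_81_2 : hCheckRCols chevE8 81 124 62 = true := by decide +kernel

set_option maxRecDepth 1000000 in
set_option maxHeartbeats 0 in
theorem hRC_E8_81_3 : hCheckRCols chevE8 81 186 62 = true := by decide +kernel

theorem hR_E8_81 : hCheckRange chevE8 81 1 = true := by
  apply hCheckRange_one
  apply hCheckR_of_cols chevE8 81 62 4 (by decide +kernel) (by decide +kernel) (by decide +kernel)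
  intro k hk
  interval_cases k
  · exact hRC_E8_81_0
  · exact hRC_E8_81_1
  · exact hRC_E8_81_2
  · exact hRC_E8_81_3

set_option maxRecDepth 1000000 in
set_option maxHeartbeats 0 in
theorem hRC_E8_82_0 : hCheckRCols chevE8 82 0 62 = true := by decide +kernel

set_option maxRecDepth 1000000 in
set_option maxHeartbeats 0 in
theorem hRC_E8_82_1 : hCheckRCols chevE8 82 62 62 = true := by decide +kernel

set_option maxRecDepth 1000000 in
set_option maxHeartbeats 0 in
theorem hRC_E8_82_2 : hCheckRCols chevE8 82 124 62 = true := by decide +kernel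

set_option maxRecDepth 1000000 in
set_option maxHeartbeats 0 in
theorem hRC_E8_82_3 : hCheckRCols chevE8 82 186 62 = true := by decide +kernel

theorem hR_E8_82 : hCheckRange chevE8 82 1 = true := by
  apply hCheckRange_one
  apply hCheckR_of_cols chevE8 82 62 4 (by decide +kernel) (by decide +kernel) (by decide +kernel)
  intro k hk
  interval_cases k
  · exact hRC_E8_82_0
  · exact hRC_E8_82_1
  · exact hRC_E8_82_2
  · exact hRC_E8_82_3

set_option maxRecDepth 1000000 in
set_option maxHeartbeats 0 in
theorem hRC_E8_83_0 : hCheckRCols chevE8 83 0 62 = true := by decide +kernel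

set_option maxRecDepth 1000000 in
set_option maxHeartbeats 0 in
theorem hRC_E8_83_1 : hCheckRCols chevE8 83 62 62 = true := by decide +kernel

set_option maxRecDepth 1000000 in
set_option maxHeartbeats 0 in
theorem hRC_E8_83_2 : hCheckRCols chevE8 83 124 62 = true := by decide +kernel

set_option maxRecDepth 1000000 in
set_option maxHeartbeats 0 in
theorem hRC_E8_83_3 : hCheckRCols chevE8 83 186 62 = true := by decide +kernel

theorem hR_E8_83 : hCheckRange chevE8 83 1 = true := by
  apply hCheckRange_one
  apply hCheckR_of_cols chevE8 83 62 4 (by decide +kernel) (by decide +kernel) (by decide +kernel)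
  intro k hk
  interval_cases k
  · exact hRC_E8_83_0
  · exact hRC_E8_83_1
  · exact hRC_E8_83_2
  · exact hRC_E8_83_3

set_option maxRecDepth 1000000 in
set_option maxHeartbeats 0 in
theorem hRC_E8_84_0 : hCheckRCols chevE8 84 0 62 = true := by decide +kernel

set_option maxRecDepth 1000000 in
set_option maxHeartbeats 0 in
theorem hRC_E8_84_1 : hCheckRCols chevE8 84 62 62 = true := by decide +kernel

set_option maxRecDepth 1000000 in
set_option maxHeartbeats 0 in
theorem hRC_E8_84_2 : hCheckRCols chevE8 84 124 62 = true := by decide +kernel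

set_option maxRecDepth 1000000 in
set_option maxHeartbeats 0 in
theorem hRC_E8_84_3 : hCheckRCols chevE8 84 186 62 = true := by decide +kernel

theorem hR_E8_84 : hCheckRange chevE8 84 1 = true := by
  apply hCheckRange_one
  apply hCheckR_of_cols chevE8 84 62 4 (by decide +kernel) (by decide +kernel) (by decide +kernel)
  intro k hk
  interval_cases k
  · exact hRC_E8_84_0
  · exact hRC_E8_84_1
  · exact hRC_E8_84_2
  · exact hRC_E8_84_3

set_option maxRecDepth 1000000 in
set_option maxHeartbeats 0 in
theorem hRC_E8_85_0 : hCheckRCols chevE8 85 0 62 = true := by decide +kernel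

set_option maxRecDepth 1000000 in
set_option maxHeartbeats 0 in
theorem hRC_E8_85_1 : hCheckRCols chevE8 85 62 62 = true := by decide +kernel

set_option maxRecDepth 1000000 in
set_option maxHeartbeats 0 in
theorem hRC_E8_85_2 : hCheckRCols chevE8 85 124 62 = true := by decide +kernel

set_option maxRecDepth 1000000 in
set_option maxHeartbeats 0 in
theorem hRC_E8_85_3 : hCheckRCols chevE8 85 186 62 = true := by decide +kernel

theorem hR_E8_85 : hCheckRange chevE8 85 1 = true := by
  apply hCheckRange_one
  apply hCheckR_of_cols chevE8 85 62 4 (by decide +kernel) (by decide +kernel) (by decide +kernel)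
  intro k hk
  interval_cases k
  · exact hRC_E8_85_0
  · exact hRC_E8_85_1
  · exact hRC_E8_85_2
  · exact hRC_E8_85_3

set_option maxRecDepth 1000000 in
set_option maxHeartbeats 0 in
theorem hRC_E8_86_0 : hCheckRCols chevE8 86 0 62 = true := by decide +kernel

set_option maxRecDepth 1000000 in
set_option maxHeartbeats 0 in
theorem hRC_E8_86_1 : hCheckRCols chevE8 86 62 62 = true := by decide +kernel

set_option maxRecDepth 1000000 in
set_option maxHeartbeats 0 in
theorem hRC_E8_86_2 : hCheckRCols chevE8 86 124 62 = true := by decide +kernel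

set_option maxRecDepth 1000000 in
set_option maxHeartbeats 0 in
theorem hRC_E8_86_3 : hCheckRCols chevE8 86 186 62 = true := by decide +kernel

theorem hR_E8_86 : hCheckRange chevE8 86 1 = true := by
  apply hCheckRange_one
  apply hCheckR_of_cols chevE8 86 62 4 (by decide +kernel) (by decide +kernel) (by decide +kernel)
  intro k hk
  interval_cases k
  · exact hRC_E8_86_0
  · exact hRC_E8_86_1
  · exact hRC_E8_86_2
  · exact hRC_E8_86_3

set_option maxRecDepth 1000000 in
set_option maxHeartbeats 0 in
theorem hRC_E8_87_0 : hCheckRCols chevE8 87 0 62 = true := by decide +kernel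

set_option maxRecDepth 1000000 in
set_option maxHeartbeats 0 in
theorem hRC_E8_87_1 : hCheckRCols chevE8 87 62 62 = true := by decide +kernel

set_option maxRecDepth 1000000 in
set_option maxHeartbeats 0 in
theorem hRC_E8_87_2 : hCheckRCols chevE8 87 124 62 = true := by decide +kernel

set_option maxRecDepth 1000000 in
set_option maxHeartbeats 0 in
theorem hRC_E8_87_3 : hCheckRCols chevE8 87 186 62 = true := by decide +kernel

theorem hR_E8_87 : hCheckRange chevE8 87 1 = true := by
  apply hCheckRange_one
  apply hCheckR_of_cols chevE8 87 62 4 (by decide +kernel) (by decide +kernel) (by decide +kernel)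
  intro k hk
  interval_cases k
  · exact hRC_E8_87_0
  · exact hRC_E8_87_1
  · exact hRC_E8_87_2
  · exact hRC_E8_87_3

set_option maxRecDepth 1000000 in
set_option maxHeartbeats 0 in
theorem hRC_E8_88_0 : hCheckRCols chevE8 88 0 62 = true := by decide +kernel

set_option maxRecDepth 1000000 in
set_option maxHeartbeats 0 in
theorem hRC_E8_88_1 : hCheckRCols chevE8 88 62 62 = true := by decide +kernel

set_option maxRecDepth 1000000 in
set_option maxHeartbeats 0 in
theorem hRC_E8_88_2 : hCheckRCols chevE8 88 124 62 = true := by decide +kernel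

set_option maxRecDepth 1000000 in
set_option maxHeartbeats 0 in
theorem hRC_E8_88_3 : hCheckRCols chevE8 88 186 62 = true := by decide +kernel

theorem hR_E8_88 : hCheckRange chevE8 88 1 = true := by
  apply hCheckRange_one
  apply hCheckR_of_cols chevE8 88 62 4 (by decide +kernel) (by decide +kernel) (by decide +kernel)
  intro k hk
  interval_cases k
  · exact hRC_E8_88_0
  · exact hRC_E8_88_1
  · exact hRC_E8_88_2
  · exact hRC_E8_88_3

set_option maxRecDepth 1000000 in
set_option maxHeartbeats 0 in
theorem hRC_E8_89_0 : hCheckRCols chevE8 89 0 62 = true := by decide +kernel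

set_option maxRecDepth 1000000 in
set_option maxHeartbeats 0 in
theorem hRC_E8_89_1 : hCheckRCols chevE8 89 62 62 = true := by decide +kernel

set_option maxRecDepth 1000000 in
set_option maxHeartbeats 0 in
theorem hRC_E8_89_2 : hCheckRCols chevE8 89 124 62 = true := by decide +kernel

set_option maxRecDepth 1000000 in
set_option maxHeartbeats 0 in
theorem hRC_E8_89_3 : hCheckRCols chevE8 89 186 62 = true := by decide +kernel

theorem hR_E8_89 : hCheckRange chevE8 89 1 = true := by
  apply hCheckRange_one
  apply hCheckR_of_cols chevE8 89 62 4 (by decide +kernel) (by decide +kernel) (by decide +kernel)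
  intro k hk
  interval_cases k
  · exact hRC_E8_89_0
  · exact hRC_E8_89_1
  · exact hRC_E8_89_2
  · exact hRC_E8_89_3

end Cfsg.Agent.helper5.Chev
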