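import Mathlib
import Cfsg.Agent.Lib_helper5_ChevHR
import Cfsg.Prelude.Def_ChevE8

set_option autoImplicit false

namespace Cfsg.Agent.helper5.Chev

open Cfsg.Lie

set_option maxRecDepth 1000000 in
set_option maxHeartbeats 0 in
theorem hRC_E8_90_0 : hCheckRCols chevE8 90 0 62 = true := by decide +kernel

set_option maxRecDepth 1000000 in
set_option maxHeartbeats 0 in
theorem hRC_E8_90_1 : hCheckRCols chevE8 90 62 62 = true := by decide +kernel

set_option maxRecDepth 1000000 in
set_option maxHeartbeats 0 in
theorem hRC_E8_90_2 : hCheckRCols chevE8 90 124 62 = true := by decide +kernel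

set_option maxRecDepth 1000000 in
set_option maxHeartbeats 0 in
theorem hRC_E8_90_3 : hCheckRCols chevE8 90 186 62 = true := by decide +kernel

theorem hR_E8_90 : hCheckRange chevE8 90 1 = true := by
  apply hCheckRange_one
  apply hCheckR_of_cols chevE8 90 62 4 (by decide +kernel) (by decide +kernel) (by decide +kernel)
  intro k hk
  interval_cases k
  · exact hRC_E8_90_0
  · exact hRC_E8_90_1
  · exact hRC_E8_90_2
  · exact hRC_E8_90_3

set_option maxRecDepth 1000000 in
set_option maxHeartbeats 0 in
theorem hRC_E8_91_0 : hCheckRCols chevE8 91 0 62 = true := by decide +kernel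

set_option maxRecDepth 1000000 in
set_option maxHeartbeats 0 in
theorem hRC_E8_91_1 : hCheckRCols chevE8 91 62 62 = true := by decide +kernel

set_option maxRecDepth 1000000 in
set_option maxHeartbeats 0 in
theorem hRC_E8_91_2 : hCheckRCols chevE8 91 124 62 = true := by decide +kernel

set_option maxRecDepth 1000000 in
set_option maxHeartbeats 0 in
theorem hRC_E8_91_3 : hCheckRCols chevE8 91 186 62 = true := by decide +kernel

theorem hR_E8_91 : hCheckRange chevE8 91 1 = true := by
  apply hCheckRange_one
  apply hCheckR_of_cols chevE8 91 62 4 (by decide +kernel) (by decide +kernel) (by decide +kernel)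
  intro k hk
  interval_cases k
  · exact hRC_E8_91_0
  · exact hRC_E8_91_1
  · exact hRC_E8_91_2
  · exact hRC_E8_91_3

set_option maxRecDepth 1000000 in
set_option maxHeartbeats 0 in
theorem hRC_E8_92_0 : hCheckRCols chevE8 92 0 62 = true := by decide +kernel

set_option maxRecDepth 1000000 in
set_option maxHeartbeats 0 in
theorem hRC_E8_92_1 : hCheckRCols chevE8 92 62 62 = true := by decide +kernel

set_option maxRecDepth 1000000 in
set_option maxHeartbeats 0 in
theorem hRC_E8_92_2 : hCheckRCols chevE8 92 124 62 = true := by decide +kernel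

set_option maxRecDepth 1000000 in
set_option maxHeartbeats 0 in
theorem hRC_E8_92_3 : hCheckRCols chevE8 92 186 62 = true := by decide +kernel

theorem hR_E8_92 : hCheckRange chevE8 92 1 = true := by
  apply hCheckRange_one
  apply hCheckR_of_cols chevE8 92 62 4 (by decide +kernel) (by decide +kernel) (by decide +kernel)
  intro k hk
  interval_cases k
  · exact hRC_E8_92_0
  · exact hRC_E8_92_1
  · exact hRC_E8_92_2
  · exact hRC_E8_92_3

set_option maxRecDepth 1000000 in
set_option maxHeartbeats 0 in
theorem hRC_E8_93_0 : hCheckRCols chevE8 93 0 62 = true := by decide +kernel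

set_option maxRecDepth 1000000 in
set_option maxHeartbeats 0 in
theorem hRC_E8_93_1 : hCheckRCols chevE8 93 62 62 = true := by decide +kernel

set_option maxRecDepth 1000000 in
set_option maxHeartbeats 0 in
theorem hRC_E8_93_2 : hCheckRCols chevE8 93 124 62 = true := by decide +kernel

set_option maxRecDepth 1000000 in
set_option maxHeartbeats 0 in
theorem hRC_E8_93_3 : hCheckRCols chevE8 93 186 62 = true := by decide +kernel

theorem hR_E8_93 : hCheckRange chevE8 93 1 = true := by
  apply hCheckRange_one
  apply hCheckR_of_cols chevE8 93 62 4 (by decide +kernel) (by decide +kernel) (by decide +kernel)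
  intro k hk
  interval_cases k
  · exact hRC_E8_93_0
  · exact hRC_E8_93_1
  · exact hRC_E8_93_2
  · exact hRC_E8_93_3

set_option maxRecDepth 1000000 in
set_option maxHeartbeats 0 in
theorem hRC_E8_94_0 : hCheckRCols chevE8 94 0 62 = true := by decide +kernel

set_option maxRecDepth 1000000 in
set_option maxHeartbeats 0 in
theorem hRC_E8_94_1 : hCheckRCols chevE8 94 62 62 = true := by decide +kernel

set_option maxRecDepth 1000000 in
set_option maxHeartbeats 0 in
theorem hRC_E8_94_2 : hCheckRCols chevE8 94 124 62 = true := by decide +kernel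

set_option maxRecDepth 1000000 in
set_option maxHeartbeats 0 in
theorem hRC_E8_94_3 : hCheckRCols chevE8 94 186 62 = true := by decide +kernel

theorem hR_E8_94 : hCheckRange chevE8 94 1 = true := by
  apply hCheckRange_one
  apply hCheckR_of_cols chevE8 94 62 4 (by decide +kernel) (by decide +kernel) (by decide +kernel)
  intro k hk
  interval_cases k
  · exact hRC_E8_94_0
  · exact hRC_E8_94_1
  · exact hRC_E8_94_2
  · exact hRC_E8_94_3

set_option maxRecDepth 1000000 in
set_option maxHeartbeats 0 in
theorem hRC_E8_95_0 : hCheckRCols chevE8 95 0 62 = true := by decide +kernel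

set_option maxRecDepth 1000000 in
set_option maxHeartbeats 0 in
theorem hRC_E8_95_1 : hCheckRCols chevE8 95 62 62 = true := by decide +kernel

set_option maxRecDepth 1000000 in
set_option maxHeartbeats 0 in
theorem hRC_E8_95_2 : hCheckRCols chevE8 95 124 62 = true := by decide +kernel

set_option maxRecDepth 1000000 in
set_option maxHeartbeats 0 in
theorem hRC_E8_95_3 : hCheckRCols chevE8 95 186 62 = true := by decide +kernel

theorem hR_E8_95 : hCheckRange chevE8 95 1 = true := by
  apply hCheckRange_one
  apply hCheckR_of_cols chevE8 95 62 4 (by decide +kernel) (by decide +kernel) (by decide +kernel)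
  intro k hk
  interval_cases k
  · exact hRC_E8_95_0
  · exact hRC_E8_95_1
  · exact hRC_E8_95_2
  · exact hRC_E8_95_3

set_option maxRecDepth 1000000 in
set_option maxHeartbeats 0 in
theorem hRC_E8_96_0 : hCheckRCols chevE8 96 0 62 = true := by decide +kernel

set_option maxRecDepth 1000000 in
set_option maxHeartbeats 0 in
theorem hRC_E8_96_1 : hCheckRCols chevE8 96 62 62 = true := by decide +kernel

set_option maxRecDepth 1000000 in
set_option maxHeartbeats 0 in
theorem hRC_E8_96_2 : hCheckRCols chevE8 96 124 62 = true := by decide +kernel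

set_option maxRecDepth 1000000 in
set_option maxHeartbeats 0 in
theorem hRC_E8_96_3 : hCheckRCols chevE8 96 186 62 = true := by decide +kernel

theorem hR_E8_96 : hCheckRange chevE8 96 1 = true := by
  apply hCheckRange_one
  apply hCheckR_of_cols chevE8 96 62 4 (by decide +kernel) (by decide +kernel) (by decide +kernel)
  intro k hk
  interval_cases k
  · exact hRC_E8_96_0
  · exact hRC_E8_96_1
  · exact hRC_E8_96_2
  · exact hRC_E8_96_3

set_option maxRecDepth 1000000 in
set_option maxHeartbeats 0 in
theorem hRC_E8_97_0 : hCheckRCols chevE8 97 0 62 = true := by decide +kernel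

set_option maxRecDepth 1000000 in
set_option maxHeartbeats 0 in
theorem hRC_E8_97_1 : hCheckRCols chevE8 97 62 62 = true := by decide +kernel

set_option maxRecDepth 1000000 in
set_option maxHeartbeats 0 in
theorem hRC_E8_97_2 : hCheckRCols chevE8 97 124 62 = true := by decide +kernel

set_option maxRecDepth 1000000 in
set_option maxHeartbeats 0 in
theorem hRC_E8_97_3 : hCheckRCols chevE8 97 186 62 = true := by decide +kernel

theorem hR_E8_97 : hCheckRange chevE8 97 1 = true := by
  apply hCheckRange_one
  apply hCheckR_of_cols chevE8 97 62 4 (by decide +kernel) (by decide +kernel) (by decide +kernel)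
  intro k hk
  interval_cases k
  · exact hRC_E8_97_0
  · exact hRC_E8_97_1
  · exact hRC_E8_97_2
  · exact hRC_E8_97_3

set_option maxRecDepth 1000000 in
set_option maxHeartbeats 0 in
theorem hRC_E8_98_0 : hCheckRCols chevE8 98 0 62 = true := by decide +kernel

set_option maxRecDepth 1000000 in
set_option maxHeartbeats 0 in
theorem hRC_E8_98_1 : hCheckRCols chevE8 98 62 62 = true := by decide +kernel

set_option maxRecDepth 1000000 in
set_option maxHeartbeats 0 in
theorem hRC_E8_98_2 : hCheckRCols chevE8 98 124 62 = true := by decide +kernel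

set_option maxRecDepth 1000000 in
set_option maxHeartbeats 0 in
theorem hRC_E8_98_3 : hCheckRCols chevE8 98 186 62 = true := by decide +kernel

theorem hR_E8_98 : hCheckRange chevE8 98 1 = true := by
  apply hCheckRange_one
  apply hCheckR_of_cols chevE8 98 62 4 (by decide +kernel) (by decide +kernel) (by decide +kernel)
  intro k hk
  interval_cases k
  · exact hRC_E8_98_0
  · exact hRC_E8_98_1
  · exact hRC_E8_98_2
  · exact hRC_E8_98_3

set_option maxRecDepth 1000000 in
set_option maxHeartbeats 0 in
theorem hRC_E8_99_0 : hCheckRCols chevE8 99 0 62 = true := by decide +kernel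

set_option maxRecDepth 1000000 in
set_option maxHeartbeats 0 in
theorem hRC_E8_99_1 : hCheckRCols chevE8 99 62 62 = true := by decide +kernel

set_option maxRecDepth 1000000 in
set_option maxHeartbeats 0 in
theorem hRC_E8_99_2 : hCheckRCols chevE8 99 124 62 = true := by decide +kernel

set_option maxRecDepth 1000000 in
set_option maxHeartbeats 0 in
theorem hRC_E8_99_3 : hCheckRCols chevE8 99 186 62 = true := by decide +kernel

theorem hR_E8_99 : hCheckRange chevE8 99 1 = true := by
  apply hCheckRange_one
  apply hCheckR_of_cols chevE8 99 62 4 (by decide +kernel) (by decide +kernel) (by decide +kernel)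
  intro k hk
  interval_cases k
  · exact hRC_E8_99_0
  · exact hRC_E8_99_1
  · exact hRC_E8_99_2
  · exact hRC_E8_99_3

end Cfsg.Agent.helper5.Chev
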