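import Mathlib
import Cfsg.Agent.Lib_helper5_ChevHR
import Cfsg.Prelude.Def_ChevE8

set_option autoImplicit false

namespace Cfsg.Agent.helper5.Chev

open Cfsg.Lie

set_option maxRecDepth 1000000 in
set_option maxHeartbeats 0 in
theorem hRC_E8_110_0 : hCheckRCols chevE8 110 0 62 = true := by decide +kernel

set_option maxRecDepth 1000000 in
set_option maxHeartbeats 0 in
theorem hRC_E8_110_1 : hCheckRCols chevE8 110 62 62 = true := by decide +kernel

set_option maxRecDepth 1000000 in
set_option maxHeartbeats 0 in
theorem hRC_E8_110_2 : hCheckRCols chevE8 110 124 62 = true := by decide +kernel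

set_option maxRecDepth 1000000 in
set_option maxHeartbeats 0 in
theorem hRC_E8_110_3 : hCheckRCols chevE8 110 186 62 = true := by decide +kernel

theorem hR_E8_110 : hCheckRange chevE8 110 1 = true := by
  apply hCheckRange_one
  apply hCheckR_of_cols chevE8 110 62 4 (by decide +kernel) (by decide +kernel) (by decide +kernel)
  intro k hk
  interval_cases k
  · exact hRC_E8_110_0
  · exact hRC_E8_110_1
  · exact hRC_E8_110_2
  · exact hRC_E8_110_3

set_option maxRecDepth 1000000 in
set_option maxHeartbeats 0 in
theorem hRC_E8_111_0 : hCheckRCols chevE8 111 0 62 = true := by decide +kernel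

set_option maxRecDepth 1000000 in
set_option maxHeartbeats 0 in
theorem hRC_E8_111_1 : hCheckRCols chevE8 111 62 62 = true := by decide +kernel

set_option maxRecDepth 1000000 in
set_option maxHeartbeats 0 in
theorem hRC_E8_111_2 : hCheckRCols chevE8 111 124 62 = true := by decide +kernel

set_option maxRecDepth 1000000 in
set_option maxHeartbeats 0 in
theorem hRC_E8_111_3 : hCheckRCols chevE8 111 186 62 = true := by decide +kernel

theorem hR_E8_111 : hCheckRange chevE8 111 1 = true := by
  apply hCheckRange_one
  apply hCheckR_of_cols chevE8 111 62 4 (by decide +kernel) (by decide +kernel) (by decide +kernel)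
  intro k hk
  interval_cases k
  · exact hRC_E8_111_0
  · exact hRC_E8_111_1
  · exact hRC_E8_111_2
  · exact hRC_E8_111_3

set_option maxRecDepth 1000000 in
set_option maxHeartbeats 0 in
theorem hRC_E8_112_0 : hCheckRCols chevE8 112 0 62 = true := by decide +kernel

set_option maxRecDepth 1000000 in
set_option maxHeartbeats 0 in
theorem hRC_E8_112_1 : hCheckRCols chevE8 112 62 62 = true := by decide +kernel

set_option maxRecDepth 1000000 in
set_option maxHeartbeats 0 in
theorem hRC_E8_112_2 : hCheckRCols chevE8 112 124 62 = true := by decide +kernel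

set_option maxRecDepth 1000000 in
set_option maxHeartbeats 0 in
theorem hRC_E8_112_3 : hCheckRCols chevE8 112 186 62 = true := by decide +kernel

theorem hR_E8_112 : hCheckRange chevE8 112 1 = true := by
  apply hCheckRange_one
  apply hCheckR_of_cols chevE8 112 62 4 (by decide +kernel) (by decide +kernel) (by decide +kernel)
  intro k hk
  interval_cases k
  · exact hRC_E8_112_0
  · exact hRC_E8_112_1
  · exact hRC_E8_112_2
  · exact hRC_E8_112_3

set_option maxRecDepth 1000000 in
set_option maxHeartbeats 0 in
theorem hRC_E8_113_0 : hCheckRCols chevE8 113 0 62 = true := by decide +kernel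

set_option maxRecDepth 1000000 in
set_option maxHeartbeats 0 in
theorem hRC_E8_113_1 : hCheckRCols chevE8 113 62 62 = true := by decide +kernel

set_option maxRecDepth 1000000 in
set_option maxHeartbeats 0 in
theorem hRC_E8_113_2 : hCheckRCols chevE8 113 124 62 = true := by decide +kernel

set_option maxRecDepth 1000000 in
set_option maxHeartbeats 0 in
theorem hRC_E8_113_3 : hCheckRCols chevE8 113 186 62 = true := by decide +kernel

theorem hR_E8_113 : hCheckRange chevE8 113 1 = true := by
  apply hCheckRange_one
  apply hCheckR_of_cols chevE8 113 62 4 (by decide +kernel) (by decide +kernel) (by decide +kernel)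
  intro k hk
  interval_cases k
  · exact hRC_E8_113_0
  · exact hRC_E8_113_1
  · exact hRC_E8_113_2
  · exact hRC_E8_113_3

set_option maxRecDepth 1000000 in
set_option maxHeartbeats 0 in
theorem hRC_E8_114_0 : hCheckRCols chevE8 114 0 62 = true := by decide +kernel

set_option maxRecDepth 1000000 in
set_option maxHeartbeats 0 in
theorem hRC_E8_114_1 : hCheckRCols chevE8 114 62 62 = true := by decide +kernel

set_option maxRecDepth 1000000 in
set_option maxHeartbeats 0 in
theorem hRC_E8_114_2 : hCheckRCols chevE8 114 124 62 = true := by decide +kernel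

set_option maxRecDepth 1000000 in
set_option maxHeartbeats 0 in
theorem hRC_E8_114_3 : hCheckRCols chevE8 114 186 62 = true := by decide +kernel

theorem hR_E8_114 : hCheckRange chevE8 114 1 = true := by
  apply hCheckRange_one
  apply hCheckR_of_cols chevE8 114 62 4 (by decide +kernel) (by decide +kernel) (by decide +kernel)
  intro k hk
  interval_cases k
  · exact hRC_E8_114_0
  · exact hRC_E8_114_1
  · exact hRC_E8_114_2
  · exact hRC_E8_114_3

set_option maxRecDepth 1000000 in
set_option maxHeartbeats 0 in
theorem hRC_E8_115_0 : hCheckRCols chevE8 115 0 62 = true := by decide +kernel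

set_option maxRecDepth 1000000 in
set_option maxHeartbeats 0 in
theorem hRC_E8_115_1 : hCheckRCols chevE8 115 62 62 = true := by decide +kernel

set_option maxRecDepth 1000000 in
set_option maxHeartbeats 0 in
theorem hRC_E8_115_2 : hCheckRCols chevE8 115 124 62 = true := by decide +kernel

set_option maxRecDepth 1000000 in
set_option maxHeartbeats 0 in
theorem hRC_E8_115_3 : hCheckRCols chevE8 115 186 62 = true := by decide +kernel

theorem hR_E8_115 : hCheckRange chevE8 115 1 = true := by
  apply hCheckRange_one
  apply hCheckR_of_cols chevE8 115 62 4 (by decide +kernel) (by decide +kernel) (by decide +kernel)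
  intro k hk
  interval_cases k
  · exact hRC_E8_115_0
  · exact hRC_E8_115_1
  · exact hRC_E8_115_2
  · exact hRC_E8_115_3

set_option maxRecDepth 1000000 in
set_option maxHeartbeats 0 in
theorem hRC_E8_116_0 : hCheckRCols chevE8 116 0 62 = true := by decide +kernel

set_option maxRecDepth 1000000 in
set_option maxHeartbeats 0 in
theorem hRC_E8_116_1 : hCheckRCols chevE8 116 62 62 = true := by decide +kernel

set_option maxRecDepth 1000000 in
set_option maxHeartbeats 0 in
theorem hRC_E8_116_2 : hCheckRCols chevE8 116 124 62 = true := by decide +kernel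

set_option maxRecDepth 1000000 in
set_option maxHeartbeats 0 in
theorem hRC_E8_116_3 : hCheckRCols chevE8 116 186 62 = true := by decide +kernel

theorem hR_E8_116 : hCheckRange chevE8 116 1 = true := by
  apply hCheckRange_one
  apply hCheckR_of_cols chevE8 116 62 4 (by decide +kernel) (by decide +kernel) (by decide +kernel)
  intro k hk
  interval_cases k
  · exact hRC_E8_116_0
  · exact hRC_E8_116_1
  · exact hRC_E8_116_2
  · exact hRC_E8_116_3

set_option maxRecDepth 1000000 in
set_option maxHeartbeats 0 in
theorem hRC_E8_117_0 : hCheckRCols chevE8 117 0 62 = true := by decide +kernel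

set_option maxRecDepth 1000000 in
set_option maxHeartbeats 0 in
theorem hRC_E8_117_1 : hCheckRCols chevE8 117 62 62 = true := by decide +kernel

set_option maxRecDepth 1000000 in
set_option maxHeartbeats 0 in
theorem hRC_E8_117_2 : hCheckRCols chevE8 117 124 62 = true := by decide +kernel

set_option maxRecDepth 1000000 in
set_option maxHeartbeats 0 in
theorem hRC_E8_117_3 : hCheckRCols chevE8 117 186 62 = true := by decide +kernel

theorem hR_E8_117 : hCheckRange chevE8 117 1 = true := by
  apply hCheckRange_one
  apply hCheckR_of_cols chevE8 117 62 4 (by decide +kernel) (by decide +kernel) (by decide +kernel)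
  intro k hk
  interval_cases k
  · exact hRC_E8_117_0
  · exact hRC_E8_117_1
  · exact hRC_E8_117_2
  · exact hRC_E8_117_3

set_option maxRecDepth 1000000 in
set_option maxHeartbeats 0 in
theorem hRC_E8_118_0 : hCheckRCols chevE8 118 0 62 = true := by decide +kernel

set_option maxRecDepth 1000000 in
set_option maxHeartbeats 0 in
theorem hRC_E8_118_1 : hCheckRCols chevE8 118 62 62 = true := by decide +kernel

set_option maxRecDepth 1000000 in
set_option maxHeartbeats 0 in
theorem hRC_E8_118_2 : hCheckRCols chevE8 118 124 62 = true := by decide +kernel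

set_option maxRecDepth 1000000 in
set_option maxHeartbeats 0 in
theorem hRC_E8_118_3 : hCheckRCols chevE8 118 186 62 = true := by decide +kernel

theorem hR_E8_118 : hCheckRange chevE8 118 1 = true := by
  apply hCheckRange_one
  apply hCheckR_of_cols chevE8 118 62 4 (by decide +kernel) (by decide +kernel) (by decide +kernel)
  intro k hk
  interval_cases k
  · exact hRC_E8_118_0
  · exact hRC_E8_118_1
  · exact hRC_E8_118_2
  · exact hRC_E8_118_3

set_option maxRecDepth 1000000 in
set_option maxHeartbeats 0 in
theorem hRC_E8_119_0 : hCheckRCols chevE8 119 0 62 = true := by decide +kernel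

set_option maxRecDepth 1000000 in
set_option maxHeartbeats 0 in
theorem hRC_E8_119_1 : hCheckRCols chevE8 119 62 62 = true := by decide +kernel

set_option maxRecDepth 1000000 in
set_option maxHeartbeats 0 in
theorem hRC_E8_119_2 : hCheckRCols chevE8 119 124 62 = true := by decide +kernel

set_option maxRecDepth 1000000 in
set_option maxHeartbeats 0 in
theorem hRC_E8_119_3 : hCheckRCols chevE8 119 186 62 = true := by decide +kernel

theorem hR_E8_119 : hCheckRange chevE8 119 1 = true := by
  apply hCheckRange_one
  apply hCheckR_of_cols chevE8 119 62 4 (by decide +kernel) (by decide +kernel) (by decide +kernel)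
  intro k hk
  interval_cases k
  · exact hRC_E8_119_0
  · exact hRC_E8_119_1
  · exact hRC_E8_119_2
  · exact hRC_E8_119_3

end Cfsg.Agent.helper5.Chev
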