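import Mathlib
import Cfsg.Agent.Lib_helper5_ChevHR
import Cfsg.Prelude.Def_ChevE8

set_option autoImplicit false

namespace Cfsg.Agent.helper5.Chev

open Cfsg.Lie

set_option maxRecDepth 1000000 in
set_option maxHeartbeats 0 in
theorem hRC_E8_120_0 : hCheckRCols chevE8 120 0 62 = true := by decide +kernel

set_option maxRecDepth 1000000 in
set_option maxHeartbeats 0 in
theorem hRC_E8_120_1 : hCheckRCols chevE8 120 62 62 = true := by decide +kernel

set_option maxRecDepth 1000000 in
set_option maxHeartbeats 0 in
theorem hRC_E8_120_2 : hCheckRCols chevE8 120 124 62 = true := by decide +kernel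

set_option maxRecDepth 1000000 in
set_option maxHeartbeats 0 in
theorem hRC_E8_120_3 : hCheckRCols chevE8 120 186 62 = true := by decide +kernel

theorem hR_E8_120 : hCheckRange chevE8 120 1 = true := by
  apply hCheckRange_one
  apply hCheckR_of_cols chevE8 120 62 4 (by decide +kernel) (by decide +kernel) (by decide +kernel)
  intro k hk
  interval_cases k
  · exact hRC_E8_120_0
  · exact hRC_E8_120_1
  · exact hRC_E8_120_2
  · exact hRC_E8_120_3

set_option maxRecDepth 1000000 in
set_option maxHeartbeats 0 in
theorem hRC_E8_121_0 : hCheckRCols chevE8 121 0 62 = true := by decide +kernel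

set_option maxRecDepth 1000000 in
set_option maxHeartbeats 0 in
theorem hRC_E8_121_1 : hCheckRCols chevE8 121 62 62 = true := by decide +kernel

set_option maxRecDepth 1000000 in
set_option maxHeartbeats 0 in
theorem hRC_E8_121_2 : hCheckRCols chevE8 121 124 62 = true := by decide +kernel

set_option maxRecDepth 1000000 in
set_option maxHeartbeats 0 in
theorem hRC_E8_121_3 : hCheckRCols chevE8 121 186 62 = true := by decide +kernel

theorem hR_E8_121 : hCheckRange chevE8 121 1 = true := by
  apply hCheckRange_one
  apply hCheckR_of_cols chevE8 121 62 4 (by decide +kernel) (by decide +kernel) (by decide +kernel)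
  intro k hk
  interval_cases k
  · exact hRC_E8_121_0
  · exact hRC_E8_121_1
  · exact hRC_E8_121_2
  · exact hRC_E8_121_3

set_option maxRecDepth 1000000 in
set_option maxHeartbeats 0 in
theorem hRC_E8_122_0 : hCheckRCols chevE8 122 0 62 = true := by decide +kernel

set_option maxRecDepth 1000000 in
set_option maxHeartbeats 0 in
theorem hRC_E8_122_1 : hCheckRCols chevE8 122 62 62 = true := by decide +kernel

set_option maxRecDepth 1000000 in
set_option maxHeartbeats 0 in
theorem hRC_E8_122_2 : hCheckRCols chevE8 122 124 62 = true := by decide +kernel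

set_option maxRecDepth 1000000 in
set_option maxHeartbeats 0 in
theorem hRC_E8_122_3 : hCheckRCols chevE8 122 186 62 = true := by decide +kernel

theorem hR_E8_122 : hCheckRange chevE8 122 1 = true := by
  apply hCheckRange_one
  apply hCheckR_of_cols chevE8 122 62 4 (by decide +kernel) (by decide +kernel) (by decide +kernel)
  intro k hk
  interval_cases k
  · exact hRC_E8_122_0
  · exact hRC_E8_122_1
  · exact hRC_E8_122_2
  · exact hRC_E8_122_3

set_option maxRecDepth 1000000 in
set_option maxHeartbeats 0 in
theorem hRC_E8_123_0 : hCheckRCols chevE8 123 0 62 = true := by decide +kernel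

set_option maxRecDepth 1000000 in
set_option maxHeartbeats 0 in
theorem hRC_E8_123_1 : hCheckRCols chevE8 123 62 62 = true := by decide +kernel

set_option maxRecDepth 1000000 in
set_option maxHeartbeats 0 in
theorem hRC_E8_123_2 : hCheckRCols chevE8 123 124 62 = true := by decide +kernel

set_option maxRecDepth 1000000 in
set_option maxHeartbeats 0 in
theorem hRC_E8_123_3 : hCheckRCols chevE8 123 186 62 = true := by decide +kernel

theorem hR_E8_123 : hCheckRange chevE8 123 1 = true := by
  apply hCheckRange_one
  apply hCheckR_of_cols chevE8 123 62 4 (by decide +kernel) (by decide +kernel) (by decide +kernel)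
  intro k hk
  interval_cases k
  · exact hRC_E8_123_0
  · exact hRC_E8_123_1
  · exact hRC_E8_123_2
  · exact hRC_E8_123_3

set_option maxRecDepth 1000000 in
set_option maxHeartbeats 0 in
theorem hRC_E8_124_0 : hCheckRCols chevE8 124 0 62 = true := by decide +kernel

set_option maxRecDepth 1000000 in
set_option maxHeartbeats 0 in
theorem hRC_E8_124_1 : hCheckRCols chevE8 124 62 62 = true := by decide +kernel

set_option maxRecDepth 1000000 in
set_option maxHeartbeats 0 in
theorem hRC_E8_124_2 : hCheckRCols chevE8 124 124 62 = true := by decide +kernel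

set_option maxRecDepth 1000000 in
set_option maxHeartbeats 0 in
theorem hRC_E8_124_3 : hCheckRCols chevE8 124 186 62 = true := by decide +kernel

theorem hR_E8_124 : hCheckRange chevE8 124 1 = true := by
  apply hCheckRange_one
  apply hCheckR_of_cols chevE8 124 62 4 (by decide +kernel) (by decide +kernel) (by decide +kernel)
  intro k hk
  interval_cases k
  · exact hRC_E8_124_0
  · exact hRC_E8_124_1
  · exact hRC_E8_124_2
  · exact hRC_E8_124_3

set_option maxRecDepth 1000000 in
set_option maxHeartbeats 0 in
theorem hRC_E8_125_0 : hCheckRCols chevE8 125 0 62 = true := by decide +kernel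

set_option maxRecDepth 1000000 in
set_option maxHeartbeats 0 in
theorem hRC_E8_125_1 : hCheckRCols chevE8 125 62 62 = true := by decide +kernel

set_option maxRecDepth 1000000 in
set_option maxHeartbeats 0 in
theorem hRC_E8_125_2 : hCheckRCols chevE8 125 124 62 = true := by decide +kernel

set_option maxRecDepth 1000000 in
set_option maxHeartbeats 0 in
theorem hRC_E8_125_3 : hCheckRCols chevE8 125 186 62 = true := by decide +kernel

theorem hR_E8_125 : hCheckRange chevE8 125 1 = true := by
  apply hCheckRange_one
  apply hCheckR_of_cols chevE8 125 62 4 (by decide +kernel) (by decide +kernel) (by decide +kernel)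
  intro k hk
  interval_cases k
  · exact hRC_E8_125_0
  · exact hRC_E8_125_1
  · exact hRC_E8_125_2
  · exact hRC_E8_125_3

set_option maxRecDepth 1000000 in
set_option maxHeartbeats 0 in
theorem hRC_E8_126_0 : hCheckRCols chevE8 126 0 62 = true := by decide +kernel

set_option maxRecDepth 1000000 in
set_option maxHeartbeats 0 in
theorem hRC_E8_126_1 : hCheckRCols chevE8 126 62 62 = true := by decide +kernel

set_option maxRecDepth 1000000 in
set_option maxHeartbeats 0 in
theorem hRC_E8_126_2 : hCheckRCols chevE8 126 124 62 = true := by decide +kernel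

set_option maxRecDepth 1000000 in
set_option maxHeartbeats 0 in
theorem hRC_E8_126_3 : hCheckRCols chevE8 126 186 62 = true := by decide +kernel

theorem hR_E8_126 : hCheckRange chevE8 126 1 = true := by
  apply hCheckRange_one
  apply hCheckR_of_cols chevE8 126 62 4 (by decide +kernel) (by decide +kernel) (by decide +kernel)
  intro k hk
  interval_cases k
  · exact hRC_E8_126_0
  · exact hRC_E8_126_1
  · exact hRC_E8_126_2
  · exact hRC_E8_126_3

set_option maxRecDepth 1000000 in
set_option maxHeartbeats 0 in
theorem hRC_E8_127_0 : hCheckRCols chevE8 127 0 62 = true := by decide +kernel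

set_option maxRecDepth 1000000 in
set_option maxHeartbeats 0 in
theorem hRC_E8_127_1 : hCheckRCols chevE8 127 62 62 = true := by decide +kernel

set_option maxRecDepth 1000000 in
set_option maxHeartbeats 0 in
theorem hRC_E8_127_2 : hCheckRCols chevE8 127 124 62 = true := by decide +kernel

set_option maxRecDepth 1000000 in
set_option maxHeartbeats 0 in
theorem hRC_E8_127_3 : hCheckRCols chevE8 127 186 62 = true := by decide +kernel

theorem hR_E8_127 : hCheckRange chevE8 127 1 = true := by
  apply hCheckRange_one
  apply hCheckR_of_cols chevE8 127 62 4 (by decide +kernel) (by decide +kernel) (by decide +kernel)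
  intro k hk
  interval_cases k
  · exact hRC_E8_127_0
  · exact hRC_E8_127_1
  · exact hRC_E8_127_2
  · exact hRC_E8_127_3

set_option maxRecDepth 1000000 in
set_option maxHeartbeats 0 in
theorem hRC_E8_128_0 : hCheckRCols chevE8 128 0 62 = true := by decide +kernel

set_option maxRecDepth 1000000 in
set_option maxHeartbeats 0 in
theorem hRC_E8_128_1 : hCheckRCols chevE8 128 62 62 = true := by decide +kernel

set_option maxRecDepth 1000000 in
set_option maxHeartbeats 0 in
theorem hRC_E8_128_2 : hCheckRCols chevE8 128 124 62 = true := by decide +kernel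

set_option maxRecDepth 1000000 in
set_option maxHeartbeats 0 in
theorem hRC_E8_128_3 : hCheckRCols chevE8 128 186 62 = true := by decide +kernel

theorem hR_E8_128 : hCheckRange chevE8 128 1 = true := by
  apply hCheckRange_one
  apply hCheckR_of_cols chevE8 128 62 4 (by decide +kernel) (by decide +kernel) (by decide +kernel)
  intro k hk
  interval_cases k
  · exact hRC_E8_128_0
  · exact hRC_E8_128_1
  · exact hRC_E8_128_2
  · exact hRC_E8_128_3

set_option maxRecDepth 1000000 in
set_option maxHeartbeats 0 in
theorem hRC_E8_129_0 : hCheckRCols chevE8 129 0 62 = true := by decide +kernel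

set_option maxRecDepth 1000000 in
set_option maxHeartbeats 0 in
theorem hRC_E8_129_1 : hCheckRCols chevE8 129 62 62 = true := by decide +kernel

set_option maxRecDepth 1000000 in
set_option maxHeartbeats 0 in
theorem hRC_E8_129_2 : hCheckRCols chevE8 129 124 62 = true := by decide +kernel

set_option maxRecDepth 1000000 in
set_option maxHeartbeats 0 in
theorem hRC_E8_129_3 : hCheckRCols chevE8 129 186 62 = true := by decide +kernel

theorem hR_E8_129 : hCheckRange chevE8 129 1 = true := by
  apply hCheckRange_one
  apply hCheckR_of_cols chevE8 129 62 4 (by decide +kernel) (by decide +kernel) (by decide +kernel)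
  intro k hk
  interval_cases k
  · exact hRC_E8_129_0
  · exact hRC_E8_129_1
  · exact hRC_E8_129_2
  · exact hRC_E8_129_3

end Cfsg.Agent.helper5.Chev
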