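import Mathlib
import Cfsg.Agent.Lib_helper5_ChevHR
import Cfsg.Prelude.Def_ChevE8

set_option autoImplicit false

namespace Cfsg.Agent.helper5.Chev

open Cfsg.Lie

set_option maxRecDepth 1000000 in
set_option maxHeartbeats 0 in
theorem hRC_E8_130_0 : hCheckRCols chevE8 130 0 62 = true := by decide +kernel

set_option maxRecDepth 1000000 in
set_option maxHeartbeats 0 in
theorem hRC_E8_130_1 : hCheckRCols chevE8 130 62 62 = true := by decide +kernel

set_option maxRecDepth 1000000 in
set_option maxHeartbeats 0 in
theorem hRC_E8_130_2 : hCheckRCols chevE8 130 124 62 = true := by decide +kernel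

set_option maxRecDepth 1000000 in
set_option maxHeartbeats 0 in
theorem hRC_E8_130_3 : hCheckRCols chevE8 130 186 62 = true := by decide +kernel

theorem hR_E8_130 : hCheckRange chevE8 130 1 = true := by
  apply hCheckRange_one
  apply hCheckR_of_cols chevE8 130 62 4 (by decide +kernel) (by decide +kernel) (by decide +kernel)
  intro k hk
  interval_cases k
  · exact hRC_E8_130_0
  · exact hRC_E8_130_1
  · exact hRC_E8_130_2
  · exact hRC_E8_130_3

set_option maxRecDepth 1000000 in
set_option maxHeartbeats 0 in
theorem hRC_E8_131_0 : hCheckRCols chevE8 131 0 62 = true := by decide +kernel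

set_option maxRecDepth 1000000 in
set_option maxHeartbeats 0 in
theorem hRC_E8_131_1 : hCheckRCols chevE8 131 62 62 = true := by decide +kernel

set_option maxRecDepth 1000000 in
set_option maxHeartbeats 0 in
theorem hRC_E8_131_2 : hCheckRCols chevE8 131 124 62 = true := by decide +kernel

set_option maxRecDepth 1000000 in
set_option maxHeartbeats 0 in
theorem hRC_E8_131_3 : hCheckRCols chevE8 131 186 62 = true := by decide +kernel

theorem hR_E8_131 : hCheckRange chevE8 131 1 = true := by
  apply hCheckRange_one
  apply hCheckR_of_cols chevE8 131 62 4 (by decide +kernel) (by decide +kernel) (by decide +kernel)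
  intro k hk
  interval_cases k
  · exact hRC_E8_131_0
  · exact hRC_E8_131_1
  · exact hRC_E8_131_2
  · exact hRC_E8_131_3

set_option maxRecDepth 1000000 in
set_option maxHeartbeats 0 in
theorem hRC_E8_132_0 : hCheckRCols chevE8 132 0 62 = true := by decide +kernel

set_option maxRecDepth 1000000 in
set_option maxHeartbeats 0 in
theorem hRC_E8_132_1 : hCheckRCols chevE8 132 62 62 = true := by decide +kernel

set_option maxRecDepth 1000000 in
set_option maxHeartbeats 0 in
theorem hRC_E8_132_2 : hCheckRCols chevE8 132 124 62 = true := by decide +kernel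

set_option maxRecDepth 1000000 in
set_option maxHeartbeats 0 in
theorem hRC_E8_132_3 : hCheckRCols chevE8 132 186 62 = true := by decide +kernel

theorem hR_E8_132 : hCheckRange chevE8 132 1 = true := by
  apply hCheckRange_one
  apply hCheckR_of_cols chevE8 132 62 4 (by decide +kernel) (by decide +kernel) (by decide +kernel)
  intro k hk
  interval_cases k
  · exact hRC_E8_132_0
  · exact hRC_E8_132_1
  · exact hRC_E8_132_2
  · exact hRC_E8_132_3

set_option maxRecDepth 1000000 in
set_option maxHeartbeats 0 in
theorem hRC_E8_133_0 : hCheckRCols chevE8 133 0 62 = true := by decide +kernel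

set_option maxRecDepth 1000000 in
set_option maxHeartbeats 0 in
theorem hRC_E8_133_1 : hCheckRCols chevE8 133 62 62 = true := by decide +kernel

set_option maxRecDepth 1000000 in
set_option maxHeartbeats 0 in
theorem hRC_E8_133_2 : hCheckRCols chevE8 133 124 62 = true := by decide +kernel

set_option maxRecDepth 1000000 in
set_option maxHeartbeats 0 in
theorem hRC_E8_133_3 : hCheckRCols chevE8 133 186 62 = true := by decide +kernel

theorem hR_E8_133 : hCheckRange chevE8 133 1 = true := by
  apply hCheckRange_one
  apply hCheckR_of_cols chevE8 133 62 4 (by decide +kernel) (by decide +kernel) (by decide +kernel)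
  intro k hk
  interval_cases k
  · exact hRC_E8_133_0
  · exact hRC_E8_133_1
  · exact hRC_E8_133_2
  · exact hRC_E8_133_3

set_option maxRecDepth 1000000 in
set_option maxHeartbeats 0 in
theorem hRC_E8_134_0 : hCheckRCols chevE8 134 0 62 = true := by decide +kernel

set_option maxRecDepth 1000000 in
set_option maxHeartbeats 0 in
theorem hRC_E8_134_1 : hCheckRCols chevE8 134 62 62 = true := by decide +kernel

set_option maxRecDepth 1000000 in
set_option maxHeartbeats 0 in
theorem hRC_E8_134_2 : hCheckRCols chevE8 134 124 62 = true := by decide +kernel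

set_option maxRecDepth 1000000 in
set_option maxHeartbeats 0 in
theorem hRC_E8_134_3 : hCheckRCols chevE8 134 186 62 = true := by decide +kernel

theorem hR_E8_134 : hCheckRange chevE8 134 1 = true := by
  apply hCheckRange_one
  apply hCheckR_of_cols chevE8 134 62 4 (by decide +kernel) (by decide +kernel) (by decide +kernel)
  intro k hk
  interval_cases k
  · exact hRC_E8_134_0
  · exact hRC_E8_134_1
  · exact hRC_E8_134_2
  · exact hRC_E8_134_3

set_option maxRecDepth 1000000 in
set_option maxHeartbeats 0 in
theorem hRC_E8_135_0 : hCheckRCols chevE8 135 0 62 = true := by decide +kernel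

set_option maxRecDepth 1000000 in
set_option maxHeartbeats 0 in
theorem hRC_E8_135_1 : hCheckRCols chevE8 135 62 62 = true := by decide +kernel

set_option maxRecDepth 1000000 in
set_option maxHeartbeats 0 in
theorem hRC_E8_135_2 : hCheckRCols chevE8 135 124 62 = true := by decide +kernel

set_option maxRecDepth 1000000 in
set_option maxHeartbeats 0 in
theorem hRC_E8_135_3 : hCheckRCols chevE8 135 186 62 = true := by decide +kernel

theorem hR_E8_135 : hCheckRange chevE8 135 1 = true := by
  apply hCheckRange_one
  apply hCheckR_of_cols chevE8 135 62 4 (by decide +kernel) (by decide +kernel) (by decide +kernel)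
  intro k hk
  interval_cases k
  · exact hRC_E8_135_0
  · exact hRC_E8_135_1
  · exact hRC_E8_135_2
  · exact hRC_E8_135_3

set_option maxRecDepth 1000000 in
set_option maxHeartbeats 0 in
theorem hRC_E8_136_0 : hCheckRCols chevE8 136 0 62 = true := by decide +kernel

set_option maxRecDepth 1000000 in
set_option maxHeartbeats 0 in
theorem hRC_E8_136_1 : hCheckRCols chevE8 136 62 62 = true := by decide +kernel

set_option maxRecDepth 1000000 in
set_option maxHeartbeats 0 in
theorem hRC_E8_136_2 : hCheckRCols chevE8 136 124 62 = true := by decide +kernel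

set_option maxRecDepth 1000000 in
set_option maxHeartbeats 0 in
theorem hRC_E8_136_3 : hCheckRCols chevE8 136 186 62 = true := by decide +kernel

theorem hR_E8_136 : hCheckRange chevE8 136 1 = true := by
  apply hCheckRange_one
  apply hCheckR_of_cols chevE8 136 62 4 (by decide +kernel) (by decide +kernel) (by decide +kernel)
  intro k hk
  interval_cases k
  · exact hRC_E8_136_0
  · exact hRC_E8_136_1
  · exact hRC_E8_136_2
  · exact hRC_E8_136_3

set_option maxRecDepth 1000000 in
set_option maxHeartbeats 0 in
theorem hRC_E8_137_0 : hCheckRCols chevE8 137 0 62 = true := by decide +kernel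

set_option maxRecDepth 1000000 in
set_option maxHeartbeats 0 in
theorem hRC_E8_137_1 : hCheckRCols chevE8 137 62 62 = true := by decide +kernel

set_option maxRecDepth 1000000 in
set_option maxHeartbeats 0 in
theorem hRC_E8_137_2 : hCheckRCols chevE8 137 124 62 = true := by decide +kernel

set_option maxRecDepth 1000000 in
set_option maxHeartbeats 0 in
theorem hRC_E8_137_3 : hCheckRCols chevE8 137 186 62 = true := by decide +kernel

theorem hR_E8_137 : hCheckRange chevE8 137 1 = true := by
  apply hCheckRange_one
  apply hCheckR_of_cols chevE8 137 62 4 (by decide +kernel) (by decide +kernel) (by decide +kernel)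
  intro k hk
  interval_cases k
  · exact hRC_E8_137_0
  · exact hRC_E8_137_1
  · exact hRC_E8_137_2
  · exact hRC_E8_137_3

set_option maxRecDepth 1000000 in
set_option maxHeartbeats 0 in
theorem hRC_E8_138_0 : hCheckRCols chevE8 138 0 62 = true := by decide +kernel

set_option maxRecDepth 1000000 in
set_option maxHeartbeats 0 in
theorem hRC_E8_138_1 : hCheckRCols chevE8 138 62 62 = true := by decide +kernel

set_option maxRecDepth 1000000 in
set_option maxHeartbeats 0 in
theorem hRC_E8_138_2 : hCheckRCols chevE8 138 124 62 = true := by decide +kernel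

set_option maxRecDepth 1000000 in
set_option maxHeartbeats 0 in
theorem hRC_E8_138_3 : hCheckRCols chevE8 138 186 62 = true := by decide +kernel

theorem hR_E8_138 : hCheckRange chevE8 138 1 = true := by
  apply hCheckRange_one
  apply hCheckR_of_cols chevE8 138 62 4 (by decide +kernel) (by decide +kernel) (by decide +kernel)
  intro k hk
  interval_cases k
  · exact hRC_E8_138_0
  · exact hRC_E8_138_1
  · exact hRC_E8_138_2
  · exact hRC_E8_138_3

set_option maxRecDepth 1000000 in
set_option maxHeartbeats 0 in
theorem hRC_E8_139_0 : hCheckRCols chevE8 139 0 62 = true := by decide +kernel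

set_option maxRecDepth 1000000 in
set_option maxHeartbeats 0 in
theorem hRC_E8_139_1 : hCheckRCols chevE8 139 62 62 = true := by decide +kernel

set_option maxRecDepth 1000000 in
set_option maxHeartbeats 0 in
theorem hRC_E8_139_2 : hCheckRCols chevE8 139 124 62 = true := by decide +kernel

set_option maxRecDepth 1000000 in
set_option maxHeartbeats 0 in
theorem hRC_E8_139_3 : hCheckRCols chevE8 139 186 62 = true := by decide +kernel

theorem hR_E8_139 : hCheckRange chevE8 139 1 = true := by
  apply hCheckRange_one
  apply hCheckR_of_cols chevE8 139 62 4 (by decide +kernel) (by decide +kernel) (by decide +kernel)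
  intro k hk
  interval_cases k
  · exact hRC_E8_139_0
  · exact hRC_E8_139_1
  · exact hRC_E8_139_2
  · exact hRC_E8_139_3

end Cfsg.Agent.helper5.Chev
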