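import Mathlib
import Cfsg.Agent.Lib_helper5_ChevHR
import Cfsg.Prelude.Def_ChevE8

set_option autoImplicit false

namespace Cfsg.Agent.helper5.Chev

open Cfsg.Lie

set_option maxRecDepth 1000000 in
set_option maxHeartbeats 0 in
theorem hRC_E8_140_0 : hCheckRCols chevE8 140 0 62 = true := by decide +kernel

set_option maxRecDepth 1000000 in
set_option maxHeartbeats 0 in
theorem hRC_E8_140_1 : hCheckRCols chevE8 140 62 62 = true := by decide +kernel

set_option maxRecDepth 1000000 in
set_option maxHeartbeats 0 in
theorem hRC_E8_140_2 : hCheckRCols chevE8 140 124 62 = true := by decide +kernel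

set_option maxRecDepth 1000000 in
set_option maxHeartbeats 0 in
theorem hRC_E8_140_3 : hCheckRCols chevE8 140 186 62 = true := by decide +kernel

theorem hR_E8_140 : hCheckRange chevE8 140 1 = true := by
  apply hCheckRange_one
  apply hCheckR_of_cols chevE8 140 62 4 (by decide +kernel) (by decide +kernel) (by decide +kernel)
  intro k hk
  interval_cases k
  · exact hRC_E8_140_0
  · exact hRC_E8_140_1
  · exact hRC_E8_140_2
  · exact hRC_E8_140_3

set_option maxRecDepth 1000000 in
set_option maxHeartbeats 0 in
theorem hRC_E8_141_0 : hCheckRCols chevE8 141 0 62 = true := by decide +kernel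

set_option maxRecDepth 1000000 in
set_option maxHeartbeats 0 in
theorem hRC_E8_141_1 : hCheckRCols chevE8 141 62 62 = true := by decide +kernel

set_option maxRecDepth 1000000 in
set_option maxHeartbeats 0 in
theorem hRC_E8_141_2 : hCheckRCols chevE8 141 124 62 = true := by decide +kernel

set_option maxRecDepth 1000000 in
set_option maxHeartbeats 0 in
theorem hRC_E8_141_3 : hCheckRCols chevE8 141 186 62 = true := by decide +kernel

theorem hR_E8_141 : hCheckRange chevE8 141 1 = true := by
  apply hCheckRange_one
  apply hCheckR_of_cols chevE8 141 62 4 (by decide +kernel) (by decide +kernel) (by decide +kernel)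
  intro k hk
  interval_cases k
  · exact hRC_E8_141_0
  · exact hRC_E8_141_1
  · exact hRC_E8_141_2
  · exact hRC_E8_141_3

set_option maxRecDepth 1000000 in
set_option maxHeartbeats 0 in
theorem hRC_E8_142_0 : hCheckRCols chevE8 142 0 62 = true := by decide +kernel

set_option maxRecDepth 1000000 in
set_option maxHeartbeats 0 in
theorem hRC_E8_142_1 : hCheckRCols chevE8 142 62 62 = true := by decide +kernel

set_option maxRecDepth 1000000 in
set_option maxHeartbeats 0 in
theorem hRC_E8_142_2 : hCheckRCols chevE8 142 124 62 = true := by decide +kernel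

set_option maxRecDepth 1000000 in
set_option maxHeartbeats 0 in
theorem hRC_E8_142_3 : hCheckRCols chevE8 142 186 62 = true := by decide +kernel

theorem hR_E8_142 : hCheckRange chevE8 142 1 = true := by
  apply hCheckRange_one
  apply hCheckR_of_cols chevE8 142 62 4 (by decide +kernel) (by decide +kernel) (by decide +kernel)
  intro k hk
  interval_cases k
  · exact hRC_E8_142_0
  · exact hRC_E8_142_1
  · exact hRC_E8_142_2
  · exact hRC_E8_142_3

set_option maxRecDepth 1000000 in
set_option maxHeartbeats 0 in
theorem hRC_E8_143_0 : hCheckRCols chevE8 143 0 62 = true := by decide +kernel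

set_option maxRecDepth 1000000 in
set_option maxHeartbeats 0 in
theorem hRC_E8_143_1 : hCheckRCols chevE8 143 62 62 = true := by decide +kernel

set_option maxRecDepth 1000000 in
set_option maxHeartbeats 0 in
theorem hRC_E8_143_2 : hCheckRCols chevE8 143 124 62 = true := by decide +kernel

set_option maxRecDepth 1000000 in
set_option maxHeartbeats 0 in
theorem hRC_E8_143_3 : hCheckRCols chevE8 143 186 62 = true := by decide +kernel

theorem hR_E8_143 : hCheckRange chevE8 143 1 = true := by
  apply hCheckRange_one
  apply hCheckR_of_cols chevE8 143 62 4 (by decide +kernel) (by decide +kernel) (by decide +kernel)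
  intro k hk
  interval_cases k
  · exact hRC_E8_143_0
  · exact hRC_E8_143_1
  · exact hRC_E8_143_2
  · exact hRC_E8_143_3

set_option maxRecDepth 1000000 in
set_option maxHeartbeats 0 in
theorem hRC_E8_144_0 : hCheckRCols chevE8 144 0 62 = true := by decide +kernel

set_option maxRecDepth 1000000 in
set_option maxHeartbeats 0 in
theorem hRC_E8_144_1 : hCheckRCols chevE8 144 62 62 = true := by decide +kernel

set_option maxRecDepth 1000000 in
set_option maxHeartbeats 0 in
theorem hRC_E8_144_2 : hCheckRCols chevE8 144 124 62 = true := by decide +kernel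

set_option maxRecDepth 1000000 in
set_option maxHeartbeats 0 in
theorem hRC_E8_144_3 : hCheckRCols chevE8 144 186 62 = true := by decide +kernel

theorem hR_E8_144 : hCheckRange chevE8 144 1 = true := by
  apply hCheckRange_one
  apply hCheckR_of_cols chevE8 144 62 4 (by decide +kernel) (by decide +kernel) (by decide +kernel)
  intro k hk
  interval_cases k
  · exact hRC_E8_144_0
  · exact hRC_E8_144_1
  · exact hRC_E8_144_2
  · exact hRC_E8_144_3

set_option maxRecDepth 1000000 in
set_option maxHeartbeats 0 in
theorem hRC_E8_145_0 : hCheckRCols chevE8 145 0 62 = true := by decide +kernel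

set_option maxRecDepth 1000000 in
set_option maxHeartbeats 0 in
theorem hRC_E8_145_1 : hCheckRCols chevE8 145 62 62 = true := by decide +kernel

set_option maxRecDepth 1000000 in
set_option maxHeartbeats 0 in
theorem hRC_E8_145_2 : hCheckRCols chevE8 145 124 62 = true := by decide +kernel

set_option maxRecDepth 1000000 in
set_option maxHeartbeats 0 in
theorem hRC_E8_145_3 : hCheckRCols chevE8 145 186 62 = true := by decide +kernel

theorem hR_E8_145 : hCheckRange chevE8 145 1 = true := by
  apply hCheckRange_one
  apply hCheckR_of_cols chevE8 145 62 4 (by decide +kernel) (by decide +kernel) (by decide +kernel)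
  intro k hk
  interval_cases k
  · exact hRC_E8_145_0
  · exact hRC_E8_145_1
  · exact hRC_E8_145_2
  · exact hRC_E8_145_3

set_option maxRecDepth 1000000 in
set_option maxHeartbeats 0 in
theorem hRC_E8_146_0 : hCheckRCols chevE8 146 0 62 = true := by decide +kernel

set_option maxRecDepth 1000000 in
set_option maxHeartbeats 0 in
theorem hRC_E8_146_1 : hCheckRCols chevE8 146 62 62 = true := by decide +kernel

set_option maxRecDepth 1000000 in
set_option maxHeartbeats 0 in
theorem hRC_E8_146_2 : hCheckRCols chevE8 146 124 62 = true := by decide +kernel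

set_option maxRecDepth 1000000 in
set_option maxHeartbeats 0 in
theorem hRC_E8_146_3 : hCheckRCols chevE8 146 186 62 = true := by decide +kernel

theorem hR_E8_146 : hCheckRange chevE8 146 1 = true := by
  apply hCheckRange_one
  apply hCheckR_of_cols chevE8 146 62 4 (by decide +kernel) (by decide +kernel) (by decide +kernel)
  intro k hk
  interval_cases k
  · exact hRC_E8_146_0
  · exact hRC_E8_146_1
  · exact hRC_E8_146_2
  · exact hRC_E8_146_3

set_option maxRecDepth 1000000 in
set_option maxHeartbeats 0 in
theorem hRC_E8_147_0 : hCheckRCols chevE8 147 0 62 = true := by decide +kernel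

set_option maxRecDepth 1000000 in
set_option maxHeartbeats 0 in
theorem hRC_E8_147_1 : hCheckRCols chevE8 147 62 62 = true := by decide +kernel

set_option maxRecDepth 1000000 in
set_option maxHeartbeats 0 in
theorem hRC_E8_147_2 : hCheckRCols chevE8 147 124 62 = true := by decide +kernel

set_option maxRecDepth 1000000 in
set_option maxHeartbeats 0 in
theorem hRC_E8_147_3 : hCheckRCols chevE8 147 186 62 = true := by decide +kernel

theorem hR_E8_147 : hCheckRange chevE8 147 1 = true := by
  apply hCheckRange_one
  apply hCheckR_of_cols chevE8 147 62 4 (by decide +kernel) (by decide +kernel) (by decide +kernel)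
  intro k hk
  interval_cases k
  · exact hRC_E8_147_0
  · exact hRC_E8_147_1
  · exact hRC_E8_147_2
  · exact hRC_E8_147_3

set_option maxRecDepth 1000000 in
set_option maxHeartbeats 0 in
theorem hRC_E8_148_0 : hCheckRCols chevE8 148 0 62 = true := by decide +kernel

set_option maxRecDepth 1000000 in
set_option maxHeartbeats 0 in
theorem hRC_E8_148_1 : hCheckRCols chevE8 148 62 62 = true := by decide +kernel

set_option maxRecDepth 1000000 in
set_option maxHeartbeats 0 in
theorem hRC_E8_148_2 : hCheckRCols chevE8 148 124 62 = true := by decide +kernel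

set_option maxRecDepth 1000000 in
set_option maxHeartbeats 0 in
theorem hRC_E8_148_3 : hCheckRCols chevE8 148 186 62 = true := by decide +kernel

theorem hR_E8_148 : hCheckRange chevE8 148 1 = true := by
  apply hCheckRange_one
  apply hCheckR_of_cols chevE8 148 62 4 (by decide +kernel) (by decide +kernel) (by decide +kernel)
  intro k hk
  interval_cases k
  · exact hRC_E8_148_0
  · exact hRC_E8_148_1
  · exact hRC_E8_148_2
  · exact hRC_E8_148_3

set_option maxRecDepth 1000000 in
set_option maxHeartbeats 0 in
theorem hRC_E8_149_0 : hCheckRCols chevE8 149 0 62 = true := by decide +kernel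

set_option maxRecDepth 1000000 in
set_option maxHeartbeats 0 in
theorem hRC_E8_149_1 : hCheckRCols chevE8 149 62 62 = true := by decide +kernel

set_option maxRecDepth 1000000 in
set_option maxHeartbeats 0 in
theorem hRC_E8_149_2 : hCheckRCols chevE8 149 124 62 = true := by decide +kernel

set_option maxRecDepth 1000000 in
set_option maxHeartbeats 0 in
theorem hRC_E8_149_3 : hCheckRCols chevE8 149 186 62 = true := by decide +kernel

theorem hR_E8_149 : hCheckRange chevE8 149 1 = true := by
  apply hCheckRange_one
  apply hCheckR_of_cols chevE8 149 62 4 (by decide +kernel) (by decide +kernel) (by decide +kernel)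
  intro k hk
  interval_cases k
  · exact hRC_E8_149_0
  · exact hRC_E8_149_1
  · exact hRC_E8_149_2
  · exact hRC_E8_149_3

end Cfsg.Agent.helper5.Chev
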