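import Mathlib
import Cfsg.Agent.Lib_helper5_ChevHR
import Cfsg.Prelude.Def_ChevE8

set_option autoImplicit false

namespace Cfsg.Agent.helper5.Chev

open Cfsg.Lie

set_option maxRecDepth 1000000 in
set_option maxHeartbeats 0 in
theorem hRC_E8_150_0 : hCheckRCols chevE8 150 0 62 = true := by decide +kernel

set_option maxRecDepth 1000000 in
set_option maxHeartbeats 0 in
theorem hRC_E8_150_1 : hCheckRCols chevE8 150 62 62 = true := by decide +kernel

set_option maxRecDepth 1000000 in
set_option maxHeartbeats 0 in
theorem hRC_E8_150_2 : hCheckRCols chevE8 150 124 62 = true := by decide +kernel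

set_option maxRecDepth 1000000 in
set_option maxHeartbeats 0 in
theorem hRC_E8_150_3 : hCheckRCols chevE8 150 186 62 = true := by decide +kernel

theorem hR_E8_150 : hCheckRange chevE8 150 1 = true := by
  apply hCheckRange_one
  apply hCheckR_of_cols chevE8 150 62 4 (by decide +kernel) (by decide +kernel) (by decide +kernel)
  intro k hk
  interval_cases k
  · exact hRC_E8_150_0
  · exact hRC_E8_150_1
  · exact hRC_E8_150_2
  · exact hRC_E8_150_3

set_option maxRecDepth 1000000 in
set_option maxHeartbeats 0 in
theorem hRC_E8_151_0 : hCheckRCols chevE8 151 0 62 = true := by decide +kernel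

set_option maxRecDepth 1000000 in
set_option maxHeartbeats 0 in
theorem hRC_E8_151_1 : hCheckRCols chevE8 151 62 62 = true := by decide +kernel

set_option maxRecDepth 1000000 in
set_option maxHeartbeats 0 in
theorem hRC_E8_151_2 : hCheckRCols chevE8 151 124 62 = true := by decide +kernel

set_option maxRecDepth 1000000 in
set_option maxHeartbeats 0 in
theorem hRC_E8_151_3 : hCheckRCols chevE8 151 186 62 = true := by decide +kernel

theorem hR_E8_151 : hCheckRange chevE8 151 1 = true := by
  apply hCheckRange_one
  apply hCheckR_of_cols chevE8 151 62 4 (by decide +kernel) (by decide +kernel) (by decide +kernel)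
  intro k hk
  interval_cases k
  · exact hRC_E8_151_0
  · exact hRC_E8_151_1
  · exact hRC_E8_151_2
  · exact hRC_E8_151_3

set_option maxRecDepth 1000000 in
set_option maxHeartbeats 0 in
theorem hRC_E8_152_0 : hCheckRCols chevE8 152 0 62 = true := by decide +kernel

set_option maxRecDepth 1000000 in
set_option maxHeartbeats 0 in
theorem hRC_E8_152_1 : hCheckRCols chevE8 152 62 62 = true := by decide +kernel

set_option maxRecDepth 1000000 in
set_option maxHeartbeats 0 in
theorem hRC_E8_152_2 : hCheckRCols chevE8 152 124 62 = true := by decide +kernel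

set_option maxRecDepth 1000000 in
set_option maxHeartbeats 0 in
theorem hRC_E8_152_3 : hCheckRCols chevE8 152 186 62 = true := by decide +kernel

theorem hR_E8_152 : hCheckRange chevE8 152 1 = true := by
  apply hCheckRange_one
  apply hCheckR_of_cols chevE8 152 62 4 (by decide +kernel) (by decide +kernel) (by decide +kernel)
  intro k hk
  interval_cases k
  · exact hRC_E8_152_0
  · exact hRC_E8_152_1
  · exact hRC_E8_152_2
  · exact hRC_E8_152_3

set_option maxRecDepth 1000000 in
set_option maxHeartbeats 0 in
theorem hRC_E8_153_0 : hCheckRCols chevE8 153 0 62 = true := by decide +kernel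

set_option maxRecDepth 1000000 in
set_option maxHeartbeats 0 in
theorem hRC_E8_153_1 : hCheckRCols chevE8 153 62 62 = true := by decide +kernel

set_option maxRecDepth 1000000 in
set_option maxHeartbeats 0 in
theorem hRC_E8_153_2 : hCheckRCols chevE8 153 124 62 = true := by decide +kernel

set_option maxRecDepth 1000000 in
set_option maxHeartbeats 0 in
theorem hRC_E8_153_3 : hCheckRCols chevE8 153 186 62 = true := by decide +kernel

theorem hR_E8_153 : hCheckRange chevE8 153 1 = true := by
  apply hCheckRange_one
  apply hCheckR_of_cols chevE8 153 62 4 (by decide +kernel) (by decide +kernel) (by decide +kernel)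
  intro k hk
  interval_cases k
  · exact hRC_E8_153_0
  · exact hRC_E8_153_1
  · exact hRC_E8_153_2
  · exact hRC_E8_153_3

set_option maxRecDepth 1000000 in
set_option maxHeartbeats 0 in
theorem hRC_E8_154_0 : hCheckRCols chevE8 154 0 62 = true := by decide +kernel

set_option maxRecDepth 1000000 in
set_option maxHeartbeats 0 in
theorem hRC_E8_154_1 : hCheckRCols chevE8 154 62 62 = true := by decide +kernel

set_option maxRecDepth 1000000 in
set_option maxHeartbeats 0 in
theorem hRC_E8_154_2 : hCheckRCols chevE8 154 124 62 = true := by decide +kernel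

set_option maxRecDepth 1000000 in
set_option maxHeartbeats 0 in
theorem hRC_E8_154_3 : hCheckRCols chevE8 154 186 62 = true := by decide +kernel

theorem hR_E8_154 : hCheckRange chevE8 154 1 = true := by
  apply hCheckRange_one
  apply hCheckR_of_cols chevE8 154 62 4 (by decide +kernel) (by decide +kernel) (by decide +kernel)
  intro k hk
  interval_cases k
  · exact hRC_E8_154_0
  · exact hRC_E8_154_1
  · exact hRC_E8_154_2
  · exact hRC_E8_154_3

set_option maxRecDepth 1000000 in
set_option maxHeartbeats 0 in
theorem hRC_E8_155_0 : hCheckRCols chevE8 155 0 62 = true := by decide +kernel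

set_option maxRecDepth 1000000 in
set_option maxHeartbeats 0 in
theorem hRC_E8_155_1 : hCheckRCols chevE8 155 62 62 = true := by decide +kernel

set_option maxRecDepth 1000000 in
set_option maxHeartbeats 0 in
theorem hRC_E8_155_2 : hCheckRCols chevE8 155 124 62 = true := by decide +kernel

set_option maxRecDepth 1000000 in
set_option maxHeartbeats 0 in
theorem hRC_E8_155_3 : hCheckRCols chevE8 155 186 62 = true := by decide +kernel

theorem hR_E8_155 : hCheckRange chevE8 155 1 = true := by
  apply hCheckRange_one
  apply hCheckR_of_cols chevE8 155 62 4 (by decide +kernel) (by decide +kernel) (by decide +kernel)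
  intro k hk
  interval_cases k
  · exact hRC_E8_155_0
  · exact hRC_E8_155_1
  · exact hRC_E8_155_2
  · exact hRC_E8_155_3

set_option maxRecDepth 1000000 in
set_option maxHeartbeats 0 in
theorem hRC_E8_156_0 : hCheckRCols chevE8 156 0 62 = true := by decide +kernel

set_option maxRecDepth 1000000 in
set_option maxHeartbeats 0 in
theorem hRC_E8_156_1 : hCheckRCols chevE8 156 62 62 = true := by decide +kernel

set_option maxRecDepth 1000000 in
set_option maxHeartbeats 0 in
theorem hRC_E8_156_2 : hCheckRCols chevE8 156 124 62 = true := by decide +kernel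

set_option maxRecDepth 1000000 in
set_option maxHeartbeats 0 in
theorem hRC_E8_156_3 : hCheckRCols chevE8 156 186 62 = true := by decide +kernel

theorem hR_E8_156 : hCheckRange chevE8 156 1 = true := by
  apply hCheckRange_one
  apply hCheckR_of_cols chevE8 156 62 4 (by decide +kernel) (by decide +kernel) (by decide +kernel)
  intro k hk
  interval_cases k
  · exact hRC_E8_156_0
  · exact hRC_E8_156_1
  · exact hRC_E8_156_2
  · exact hRC_E8_156_3

set_option maxRecDepth 1000000 in
set_option maxHeartbeats 0 in
theorem hRC_E8_157_0 : hCheckRCols chevE8 157 0 62 = true := by decide +kernel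

set_option maxRecDepth 1000000 in
set_option maxHeartbeats 0 in
theorem hRC_E8_157_1 : hCheckRCols chevE8 157 62 62 = true := by decide +kernel

set_option maxRecDepth 1000000 in
set_option maxHeartbeats 0 in
theorem hRC_E8_157_2 : hCheckRCols chevE8 157 124 62 = true := by decide +kernel

set_option maxRecDepth 1000000 in
set_option maxHeartbeats 0 in
theorem hRC_E8_157_3 : hCheckRCols chevE8 157 186 62 = true := by decide +kernel

theorem hR_E8_157 : hCheckRange chevE8 157 1 = true := by
  apply hCheckRange_one
  apply hCheckR_of_cols chevE8 157 62 4 (by decide +kernel) (by decide +kernel) (by decide +kernel)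
  intro k hk
  interval_cases k
  · exact hRC_E8_157_0
  · exact hRC_E8_157_1
  · exact hRC_E8_157_2
  · exact hRC_E8_157_3

set_option maxRecDepth 1000000 in
set_option maxHeartbeats 0 in
theorem hRC_E8_158_0 : hCheckRCols chevE8 158 0 62 = true := by decide +kernel

set_option maxRecDepth 1000000 in
set_option maxHeartbeats 0 in
theorem hRC_E8_158_1 : hCheckRCols chevE8 158 62 62 = true := by decide +kernel

set_option maxRecDepth 1000000 in
set_option maxHeartbeats 0 in
theorem hRC_E8_158_2 : hCheckRCols chevE8 158 124 62 = true := by decide +kernel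

set_option maxRecDepth 1000000 in
set_option maxHeartbeats 0 in
theorem hRC_E8_158_3 : hCheckRCols chevE8 158 186 62 = true := by decide +kernel

theorem hR_E8_158 : hCheckRange chevE8 158 1 = true := by
  apply hCheckRange_one
  apply hCheckR_of_cols chevE8 158 62 4 (by decide +kernel) (by decide +kernel) (by decide +kernel)
  intro k hk
  interval_cases k
  · exact hRC_E8_158_0
  · exact hRC_E8_158_1
  · exact hRC_E8_158_2
  · exact hRC_E8_158_3

set_option maxRecDepth 1000000 in
set_option maxHeartbeats 0 in
theorem hRC_E8_159_0 : hCheckRCols chevE8 159 0 62 = true := by decide +kernel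

set_option maxRecDepth 1000000 in
set_option maxHeartbeats 0 in
theorem hRC_E8_159_1 : hCheckRCols chevE8 159 62 62 = true := by decide +kernel

set_option maxRecDepth 1000000 in
set_option maxHeartbeats 0 in
theorem hRC_E8_159_2 : hCheckRCols chevE8 159 124 62 = true := by decide +kernel

set_option maxRecDepth 1000000 in
set_option maxHeartbeats 0 in
theorem hRC_E8_159_3 : hCheckRCols chevE8 159 186 62 = true := by decide +kernel

theorem hR_E8_159 : hCheckRange chevE8 159 1 = true := by
  apply hCheckRange_one
  apply hCheckR_of_cols chevE8 159 62 4 (by decide +kernel) (by decide +kernel) (by decide +kernel)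
  intro k hk
  interval_cases k
  · exact hRC_E8_159_0
  · exact hRC_E8_159_1
  · exact hRC_E8_159_2
  · exact hRC_E8_159_3

end Cfsg.Agent.helper5.Chev
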