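import Mathlib
import Cfsg.Agent.Lib_helper5_ChevHR
import Cfsg.Prelude.Def_ChevE8

set_option autoImplicit false

namespace Cfsg.Agent.helper5.Chev

open Cfsg.Lie

set_option maxRecDepth 1000000 in
set_option maxHeartbeats 0 in
theorem hRC_E8_160_0 : hCheckRCols chevE8 160 0 62 = true := by decide +kernel

set_option maxRecDepth 1000000 in
set_option maxHeartbeats 0 in
theorem hRC_E8_160_1 : hCheckRCols chevE8 160 62 62 = true := by decide +kernel

set_option maxRecDepth 1000000 in
set_option maxHeartbeats 0 in
theorem hRC_E8_160_2 : hCheckRCols chevE8 160 124 62 = true := by decide +kernel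

set_option maxRecDepth 1000000 in
set_option maxHeartbeats 0 in
theorem hRC_E8_160_3 : hCheckRCols chevE8 160 186 62 = true := by decide +kernel

theorem hR_E8_160 : hCheckRange chevE8 160 1 = true := by
  apply hCheckRange_one
  apply hCheckR_of_cols chevE8 160 62 4 (by decide +kernel) (by decide +kernel) (by decide +kernel)
  intro k hk
  interval_cases k
  · exact hRC_E8_160_0
  · exact hRC_E8_160_1
  · exact hRC_E8_160_2
  · exact hRC_E8_160_3

set_option maxRecDepth 1000000 in
set_option maxHeartbeats 0 in
theorem hRC_E8_161_0 : hCheckRCols chevE8 161 0 62 = true := by decide +kernel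

set_option maxRecDepth 1000000 in
set_option maxHeartbeats 0 in
theorem hRC_E8_161_1 : hCheckRCols chevE8 161 62 62 = true := by decide +kernel

set_option maxRecDepth 1000000 in
set_option maxHeartbeats 0 in
theorem hRC_E8_161_2 : hCheckRCols chevE8 161 124 62 = true := by decide +kernel

set_option maxRecDepth 1000000 in
set_option maxHeartbeats 0 in
theorem hRC_E8_161_3 : hCheckRCols chevE8 161 186 62 = true := by decide +kernel

theorem hR_E8_161 : hCheckRange chevE8 161 1 = true := by
  apply hCheckRange_one
  apply hCheckR_of_cols chevE8 161 62 4 (by decide +kernel) (by decide +kernel) (by decide +kernel)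
  intro k hk
  interval_cases k
  · exact hRC_E8_161_0
  · exact hRC_E8_161_1
  · exact hRC_E8_161_2
  · exact hRC_E8_161_3

set_option maxRecDepth 1000000 in
set_option maxHeartbeats 0 in
theorem hRC_E8_162_0 : hCheckRCols chevE8 162 0 62 = true := by decide +kernel

set_option maxRecDepth 1000000 in
set_option maxHeartbeats 0 in
theorem hRC_E8_162_1 : hCheckRCols chevE8 162 62 62 = true := by decide +kernel

set_option maxRecDepth 1000000 in
set_option maxHeartbeats 0 in
theorem hRC_E8_162_2 : hCheckRCols chevE8 162 124 62 = true := by decide +kernel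

set_option maxRecDepth 1000000 in
set_option maxHeartbeats 0 in
theorem hRC_E8_162_3 : hCheckRCols chevE8 162 186 62 = true := by decide +kernel

theorem hR_E8_162 : hCheckRange chevE8 162 1 = true := by
  apply hCheckRange_one
  apply hCheckR_of_cols chevE8 162 62 4 (by decide +kernel) (by decide +kernel) (by decide +kernel)
  intro k hk
  interval_cases k
  · exact hRC_E8_162_0
  · exact hRC_E8_162_1
  · exact hRC_E8_162_2
  · exact hRC_E8_162_3

set_option maxRecDepth 1000000 in
set_option maxHeartbeats 0 in
theorem hRC_E8_163_0 : hCheckRCols chevE8 163 0 62 = true := by decide +kernel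

set_option maxRecDepth 1000000 in
set_option maxHeartbeats 0 in
theorem hRC_E8_163_1 : hCheckRCols chevE8 163 62 62 = true := by decide +kernel

set_option maxRecDepth 1000000 in
set_option maxHeartbeats 0 in
theorem hRC_E8_163_2 : hCheckRCols chevE8 163 124 62 = true := by decide +kernel

set_option maxRecDepth 1000000 in
set_option maxHeartbeats 0 in
theorem hRC_E8_163_3 : hCheckRCols chevE8 163 186 62 = true := by decide +kernel

theorem hR_E8_163 : hCheckRange chevE8 163 1 = true := by
  apply hCheckRange_one
  apply hCheckR_of_cols chevE8 163 62 4 (by decide +kernel) (by decide +kernel) (by decide +kernel)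
  intro k hk
  interval_cases k
  · exact hRC_E8_163_0
  · exact hRC_E8_163_1
  · exact hRC_E8_163_2
  · exact hRC_E8_163_3

set_option maxRecDepth 1000000 in
set_option maxHeartbeats 0 in
theorem hRC_E8_164_0 : hCheckRCols chevE8 164 0 62 = true := by decide +kernel

set_option maxRecDepth 1000000 in
set_option maxHeartbeats 0 in
theorem hRC_E8_164_1 : hCheckRCols chevE8 164 62 62 = true := by decide +kernel

set_option maxRecDepth 1000000 in
set_option maxHeartbeats 0 in
theorem hRC_E8_164_2 : hCheckRCols chevE8 164 124 62 = true := by decide +kernel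

set_option maxRecDepth 1000000 in
set_option maxHeartbeats 0 in
theorem hRC_E8_164_3 : hCheckRCols chevE8 164 186 62 = true := by decide +kernel

theorem hR_E8_164 : hCheckRange chevE8 164 1 = true := by
  apply hCheckRange_one
  apply hCheckR_of_cols chevE8 164 62 4 (by decide +kernel) (by decide +kernel) (by decide +kernel)
  intro k hk
  interval_cases k
  · exact hRC_E8_164_0
  · exact hRC_E8_164_1
  · exact hRC_E8_164_2
  · exact hRC_E8_164_3

set_option maxRecDepth 1000000 in
set_option maxHeartbeats 0 in
theorem hRC_E8_165_0 : hCheckRCols chevE8 165 0 62 = true := by decide +kernel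

set_option maxRecDepth 1000000 in
set_option maxHeartbeats 0 in
theorem hRC_E8_165_1 : hCheckRCols chevE8 165 62 62 = true := by decide +kernel

set_option maxRecDepth 1000000 in
set_option maxHeartbeats 0 in
theorem hRC_E8_165_2 : hCheckRCols chevE8 165 124 62 = true := by decide +kernel

set_option maxRecDepth 1000000 in
set_option maxHeartbeats 0 in
theorem hRC_E8_165_3 : hCheckRCols chevE8 165 186 62 = true := by decide +kernel

theorem hR_E8_165 : hCheckRange chevE8 165 1 = true := by
  apply hCheckRange_one
  apply hCheckR_of_cols chevE8 165 62 4 (by decide +kernel) (by decide +kernel) (by decide +kernel)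
  intro k hk
  interval_cases k
  · exact hRC_E8_165_0
  · exact hRC_E8_165_1
  · exact hRC_E8_165_2
  · exact hRC_E8_165_3

set_option maxRecDepth 1000000 in
set_option maxHeartbeats 0 in
theorem hRC_E8_166_0 : hCheckRCols chevE8 166 0 62 = true := by decide +kernel

set_option maxRecDepth 1000000 in
set_option maxHeartbeats 0 in
theorem hRC_E8_166_1 : hCheckRCols chevE8 166 62 62 = true := by decide +kernel

set_option maxRecDepth 1000000 in
set_option maxHeartbeats 0 in
theorem hRC_E8_166_2 : hCheckRCols chevE8 166 124 62 = true := by decide +kernel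

set_option maxRecDepth 1000000 in
set_option maxHeartbeats 0 in
theorem hRC_E8_166_3 : hCheckRCols chevE8 166 186 62 = true := by decide +kernel

theorem hR_E8_166 : hCheckRange chevE8 166 1 = true := by
  apply hCheckRange_one
  apply hCheckR_of_cols chevE8 166 62 4 (by decide +kernel) (by decide +kernel) (by decide +kernel)
  intro k hk
  interval_cases k
  · exact hRC_E8_166_0
  · exact hRC_E8_166_1
  · exact hRC_E8_166_2
  · exact hRC_E8_166_3

set_option maxRecDepth 1000000 in
set_option maxHeartbeats 0 in
theorem hRC_E8_167_0 : hCheckRCols chevE8 167 0 62 = true := by decide +kernel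

set_option maxRecDepth 1000000 in
set_option maxHeartbeats 0 in
theorem hRC_E8_167_1 : hCheckRCols chevE8 167 62 62 = true := by decide +kernel

set_option maxRecDepth 1000000 in
set_option maxHeartbeats 0 in
theorem hRC_E8_167_2 : hCheckRCols chevE8 167 124 62 = true := by decide +kernel

set_option maxRecDepth 1000000 in
set_option maxHeartbeats 0 in
theorem hRC_E8_167_3 : hCheckRCols chevE8 167 186 62 = true := by decide +kernel

theorem hR_E8_167 : hCheckRange chevE8 167 1 = true := by
  apply hCheckRange_one
  apply hCheckR_of_cols chevE8 167 62 4 (by decide +kernel) (by decide +kernel) (by decide +kernel)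
  intro k hk
  interval_cases k
  · exact hRC_E8_167_0
  · exact hRC_E8_167_1
  · exact hRC_E8_167_2
  · exact hRC_E8_167_3

set_option maxRecDepth 1000000 in
set_option maxHeartbeats 0 in
theorem hRC_E8_168_0 : hCheckRCols chevE8 168 0 62 = true := by decide +kernel

set_option maxRecDepth 1000000 in
set_option maxHeartbeats 0 in
theorem hRC_E8_168_1 : hCheckRCols chevE8 168 62 62 = true := by decide +kernel

set_option maxRecDepth 1000000 in
set_option maxHeartbeats 0 in
theorem hRC_E8_168_2 : hCheckRCols chevE8 168 124 62 = true := by decide +kernel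

set_option maxRecDepth 1000000 in
set_option maxHeartbeats 0 in
theorem hRC_E8_168_3 : hCheckRCols chevE8 168 186 62 = true := by decide +kernel

theorem hR_E8_168 : hCheckRange chevE8 168 1 = true := by
  apply hCheckRange_one
  apply hCheckR_of_cols chevE8 168 62 4 (by decide +kernel) (by decide +kernel) (by decide +kernel)
  intro k hk
  interval_cases k
  · exact hRC_E8_168_0
  · exact hRC_E8_168_1
  · exact hRC_E8_168_2
  · exact hRC_E8_168_3

set_option maxRecDepth 1000000 in
set_option maxHeartbeats 0 in
theorem hRC_E8_169_0 : hCheckRCols chevE8 169 0 62 = true := by decide +kernel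

set_option maxRecDepth 1000000 in
set_option maxHeartbeats 0 in
theorem hRC_E8_169_1 : hCheckRCols chevE8 169 62 62 = true := by decide +kernel

set_option maxRecDepth 1000000 in
set_option maxHeartbeats 0 in
theorem hRC_E8_169_2 : hCheckRCols chevE8 169 124 62 = true := by decide +kernel

set_option maxRecDepth 1000000 in
set_option maxHeartbeats 0 in
theorem hRC_E8_169_3 : hCheckRCols chevE8 169 186 62 = true := by decide +kernel

theorem hR_E8_169 : hCheckRange chevE8 169 1 = true := by
  apply hCheckRange_one
  apply hCheckR_of_cols chevE8 169 62 4 (by decide +kernel) (by decide +kernel) (by decide +kernel)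
  intro k hk
  interval_cases k
  · exact hRC_E8_169_0
  · exact hRC_E8_169_1
  · exact hRC_E8_169_2
  · exact hRC_E8_169_3

end Cfsg.Agent.helper5.Chev
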