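import Mathlib
import Cfsg.Agent.Lib_helper5_ChevHR
import Cfsg.Prelude.Def_ChevE8

set_option autoImplicit false

namespace Cfsg.Agent.helper5.Chev

open Cfsg.Lie

set_option maxRecDepth 1000000 in
set_option maxHeartbeats 0 in
theorem hRC_E8_170_0 : hCheckRCols chevE8 170 0 62 = true := by decide +kernel

set_option maxRecDepth 1000000 in
set_option maxHeartbeats 0 in
theorem hRC_E8_170_1 : hCheckRCols chevE8 170 62 62 = true := by decide +kernel

set_option maxRecDepth 1000000 in
set_option maxHeartbeats 0 in
theorem hRC_E8_170_2 : hCheckRCols chevE8 170 124 62 = true := by decide +kernel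

set_option maxRecDepth 1000000 in
set_option maxHeartbeats 0 in
theorem hRC_E8_170_3 : hCheckRCols chevE8 170 186 62 = true := by decide +kernel

theorem hR_E8_170 : hCheckRange chevE8 170 1 = true := by
  apply hCheckRange_one
  apply hCheckR_of_cols chevE8 170 62 4 (by decide +kernel) (by decide +kernel) (by decide +kernel)
  intro k hk
  interval_cases k
  · exact hRC_E8_170_0
  · exact hRC_E8_170_1
  · exact hRC_E8_170_2
  · exact hRC_E8_170_3

set_option maxRecDepth 1000000 in
set_option maxHeartbeats 0 in
theorem hRC_E8_171_0 : hCheckRCols chevE8 171 0 62 = true := by decide +kernel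

set_option maxRecDepth 1000000 in
set_option maxHeartbeats 0 in
theorem hRC_E8_171_1 : hCheckRCols chevE8 171 62 62 = true := by decide +kernel

set_option maxRecDepth 1000000 in
set_option maxHeartbeats 0 in
theorem hRC_E8_171_2 : hCheckRCols chevE8 171 124 62 = true := by decide +kernel

set_option maxRecDepth 1000000 in
set_option maxHeartbeats 0 in
theorem hRC_E8_171_3 : hCheckRCols chevE8 171 186 62 = true := by decide +kernel

theorem hR_E8_171 : hCheckRange chevE8 171 1 = true := by
  apply hCheckRange_one
  apply hCheckR_of_cols chevE8 171 62 4 (by decide +kernel) (by decide +kernel) (by decide +kernel)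
  intro k hk
  interval_cases k
  · exact hRC_E8_171_0
  · exact hRC_E8_171_1
  · exact hRC_E8_171_2
  · exact hRC_E8_171_3

set_option maxRecDepth 1000000 in
set_option maxHeartbeats 0 in
theorem hRC_E8_172_0 : hCheckRCols chevE8 172 0 62 = true := by decide +kernel

set_option maxRecDepth 1000000 in
set_option maxHeartbeats 0 in
theorem hRC_E8_172_1 : hCheckRCols chevE8 172 62 62 = true := by decide +kernel

set_option maxRecDepth 1000000 in
set_option maxHeartbeats 0 in
theorem hRC_E8_172_2 : hCheckRCols chevE8 172 124 62 = true := by decide +kernel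

set_option maxRecDepth 1000000 in
set_option maxHeartbeats 0 in
theorem hRC_E8_172_3 : hCheckRCols chevE8 172 186 62 = true := by decide +kernel

theorem hR_E8_172 : hCheckRange chevE8 172 1 = true := by
  apply hCheckRange_one
  apply hCheckR_of_cols chevE8 172 62 4 (by decide +kernel) (by decide +kernel) (by decide +kernel)
  intro k hk
  interval_cases k
  · exact hRC_E8_172_0
  · exact hRC_E8_172_1
  · exact hRC_E8_172_2
  · exact hRC_E8_172_3

set_option maxRecDepth 1000000 in
set_option maxHeartbeats 0 in
theorem hRC_E8_173_0 : hCheckRCols chevE8 173 0 62 = true := by decide +kernel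

set_option maxRecDepth 1000000 in
set_option maxHeartbeats 0 in
theorem hRC_E8_173_1 : hCheckRCols chevE8 173 62 62 = true := by decide +kernel

set_option maxRecDepth 1000000 in
set_option maxHeartbeats 0 in
theorem hRC_E8_173_2 : hCheckRCols chevE8 173 124 62 = true := by decide +kernel

set_option maxRecDepth 1000000 in
set_option maxHeartbeats 0 in
theorem hRC_E8_173_3 : hCheckRCols chevE8 173 186 62 = true := by decide +kernel

theorem hR_E8_173 : hCheckRange chevE8 173 1 = true := by
  apply hCheckRange_one
  apply hCheckR_of_cols chevE8 173 62 4 (by decide +kernel) (by decide +kernel) (by decide +kernel)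
  intro k hk
  interval_cases k
  · exact hRC_E8_173_0
  · exact hRC_E8_173_1
  · exact hRC_E8_173_2
  · exact hRC_E8_173_3

set_option maxRecDepth 1000000 in
set_option maxHeartbeats 0 in
theorem hRC_E8_174_0 : hCheckRCols chevE8 174 0 62 = true := by decide +kernel

set_option maxRecDepth 1000000 in
set_option maxHeartbeats 0 in
theorem hRC_E8_174_1 : hCheckRCols chevE8 174 62 62 = true := by decide +kernel

set_option maxRecDepth 1000000 in
set_option maxHeartbeats 0 in
theorem hRC_E8_174_2 : hCheckRCols chevE8 174 124 62 = true := by decide +kernel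

set_option maxRecDepth 1000000 in
set_option maxHeartbeats 0 in
theorem hRC_E8_174_3 : hCheckRCols chevE8 174 186 62 = true := by decide +kernel

theorem hR_E8_174 : hCheckRange chevE8 174 1 = true := by
  apply hCheckRange_one
  apply hCheckR_of_cols chevE8 174 62 4 (by decide +kernel) (by decide +kernel) (by decide +kernel)
  intro k hk
  interval_cases k
  · exact hRC_E8_174_0
  · exact hRC_E8_174_1
  · exact hRC_E8_174_2
  · exact hRC_E8_174_3

set_option maxRecDepth 1000000 in
set_option maxHeartbeats 0 in
theorem hRC_E8_175_0 : hCheckRCols chevE8 175 0 62 = true := by decide +kernel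

set_option maxRecDepth 1000000 in
set_option maxHeartbeats 0 in
theorem hRC_E8_175_1 : hCheckRCols chevE8 175 62 62 = true := by decide +kernel

set_option maxRecDepth 1000000 in
set_option maxHeartbeats 0 in
theorem hRC_E8_175_2 : hCheckRCols chevE8 175 124 62 = true := by decide +kernel

set_option maxRecDepth 1000000 in
set_option maxHeartbeats 0 in
theorem hRC_E8_175_3 : hCheckRCols chevE8 175 186 62 = true := by decide +kernel

theorem hR_E8_175 : hCheckRange chevE8 175 1 = true := by
  apply hCheckRange_one
  apply hCheckR_of_cols chevE8 175 62 4 (by decide +kernel) (by decide +kernel) (by decide +kernel)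
  intro k hk
  interval_cases k
  · exact hRC_E8_175_0
  · exact hRC_E8_175_1
  · exact hRC_E8_175_2
  · exact hRC_E8_175_3

set_option maxRecDepth 1000000 in
set_option maxHeartbeats 0 in
theorem hRC_E8_176_0 : hCheckRCols chevE8 176 0 62 = true := by decide +kernel

set_option maxRecDepth 1000000 in
set_option maxHeartbeats 0 in
theorem hRC_E8_176_1 : hCheckRCols chevE8 176 62 62 = true := by decide +kernel

set_option maxRecDepth 1000000 in
set_option maxHeartbeats 0 in
theorem hRC_E8_176_2 : hCheckRCols chevE8 176 124 62 = true := by decide +kernel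

set_option maxRecDepth 1000000 in
set_option maxHeartbeats 0 in
theorem hRC_E8_176_3 : hCheckRCols chevE8 176 186 62 = true := by decide +kernel

theorem hR_E8_176 : hCheckRange chevE8 176 1 = true := by
  apply hCheckRange_one
  apply hCheckR_of_cols chevE8 176 62 4 (by decide +kernel) (by decide +kernel) (by decide +kernel)
  intro k hk
  interval_cases k
  · exact hRC_E8_176_0
  · exact hRC_E8_176_1
  · exact hRC_E8_176_2
  · exact hRC_E8_176_3

set_option maxRecDepth 1000000 in
set_option maxHeartbeats 0 in
theorem hRC_E8_177_0 : hCheckRCols chevE8 177 0 62 = true := by decide +kernel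

set_option maxRecDepth 1000000 in
set_option maxHeartbeats 0 in
theorem hRC_E8_177_1 : hCheckRCols chevE8 177 62 62 = true := by decide +kernel

set_option maxRecDepth 1000000 in
set_option maxHeartbeats 0 in
theorem hRC_E8_177_2 : hCheckRCols chevE8 177 124 62 = true := by decide +kernel

set_option maxRecDepth 1000000 in
set_option maxHeartbeats 0 in
theorem hRC_E8_177_3 : hCheckRCols chevE8 177 186 62 = true := by decide +kernel

theorem hR_E8_177 : hCheckRange chevE8 177 1 = true := by
  apply hCheckRange_one
  apply hCheckR_of_cols chevE8 177 62 4 (by decide +kernel) (by decide +kernel) (by decide +kernel)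
  intro k hk
  interval_cases k
  · exact hRC_E8_177_0
  · exact hRC_E8_177_1
  · exact hRC_E8_177_2
  · exact hRC_E8_177_3

set_option maxRecDepth 1000000 in
set_option maxHeartbeats 0 in
theorem hRC_E8_178_0 : hCheckRCols chevE8 178 0 62 = true := by decide +kernel

set_option maxRecDepth 1000000 in
set_option maxHeartbeats 0 in
theorem hRC_E8_178_1 : hCheckRCols chevE8 178 62 62 = true := by decide +kernel

set_option maxRecDepth 1000000 in
set_option maxHeartbeats 0 in
theorem hRC_E8_178_2 : hCheckRCols chevE8 178 124 62 = true := by decide +kernel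

set_option maxRecDepth 1000000 in
set_option maxHeartbeats 0 in
theorem hRC_E8_178_3 : hCheckRCols chevE8 178 186 62 = true := by decide +kernel

theorem hR_E8_178 : hCheckRange chevE8 178 1 = true := by
  apply hCheckRange_one
  apply hCheckR_of_cols chevE8 178 62 4 (by decide +kernel) (by decide +kernel) (by decide +kernel)
  intro k hk
  interval_cases k
  · exact hRC_E8_178_0
  · exact hRC_E8_178_1
  · exact hRC_E8_178_2
  · exact hRC_E8_178_3

set_option maxRecDepth 1000000 in
set_option maxHeartbeats 0 in
theorem hRC_E8_179_0 : hCheckRCols chevE8 179 0 62 = true := by decide +kernel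

set_option maxRecDepth 1000000 in
set_option maxHeartbeats 0 in
theorem hRC_E8_179_1 : hCheckRCols chevE8 179 62 62 = true := by decide +kernel

set_option maxRecDepth 1000000 in
set_option maxHeartbeats 0 in
theorem hRC_E8_179_2 : hCheckRCols chevE8 179 124 62 = true := by decide +kernel

set_option maxRecDepth 1000000 in
set_option maxHeartbeats 0 in
theorem hRC_E8_179_3 : hCheckRCols chevE8 179 186 62 = true := by decide +kernel

theorem hR_E8_179 : hCheckRange chevE8 179 1 = true := by
  apply hCheckRange_one
  apply hCheckR_of_cols chevE8 179 62 4 (by decide +kernel) (by decide +kernel) (by decide +kernel)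
  intro k hk
  interval_cases k
  · exact hRC_E8_179_0
  · exact hRC_E8_179_1
  · exact hRC_E8_179_2
  · exact hRC_E8_179_3

end Cfsg.Agent.helper5.Chev
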