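import Mathlib
import Cfsg.Agent.Lib_helper5_ChevHR
import Cfsg.Prelude.Def_ChevE8

set_option autoImplicit false

namespace Cfsg.Agent.helper5.Chev

open Cfsg.Lie

set_option maxRecDepth 1000000 in
set_option maxHeartbeats 0 in
theorem hRC_E8_180_0 : hCheckRCols chevE8 180 0 62 = true := by decide +kernel

set_option maxRecDepth 1000000 in
set_option maxHeartbeats 0 in
theorem hRC_E8_180_1 : hCheckRCols chevE8 180 62 62 = true := by decide +kernel

set_option maxRecDepth 1000000 in
set_option maxHeartbeats 0 in
theorem hRC_E8_180_2 : hCheckRCols chevE8 180 124 62 = true := by decide +kernel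

set_option maxRecDepth 1000000 in
set_option maxHeartbeats 0 in
theorem hRC_E8_180_3 : hCheckRCols chevE8 180 186 62 = true := by decide +kernel

theorem hR_E8_180 : hCheckRange chevE8 180 1 = true := by
  apply hCheckRange_one
  apply hCheckR_of_cols chevE8 180 62 4 (by decide +kernel) (by decide +kernel) (by decide +kernel)
  intro k hk
  interval_cases k
  · exact hRC_E8_180_0
  · exact hRC_E8_180_1
  · exact hRC_E8_180_2
  · exact hRC_E8_180_3

set_option maxRecDepth 1000000 in
set_option maxHeartbeats 0 in
theorem hRC_E8_181_0 : hCheckRCols chevE8 181 0 62 = true := by decide +kernel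

set_option maxRecDepth 1000000 in
set_option maxHeartbeats 0 in
theorem hRC_E8_181_1 : hCheckRCols chevE8 181 62 62 = true := by decide +kernel

set_option maxRecDepth 1000000 in
set_option maxHeartbeats 0 in
theorem hRC_E8_181_2 : hCheckRCols chevE8 181 124 62 = true := by decide +kernel

set_option maxRecDepth 1000000 in
set_option maxHeartbeats 0 in
theorem hRC_E8_181_3 : hCheckRCols chevE8 181 186 62 = true := by decide +kernel

theorem hR_E8_181 : hCheckRange chevE8 181 1 = true := by
  apply hCheckRange_one
  apply hCheckR_of_cols chevE8 181 62 4 (by decide +kernel) (by decide +kernel) (by decide +kernel)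
  intro k hk
  interval_cases k
  · exact hRC_E8_181_0
  · exact hRC_E8_181_1
  · exact hRC_E8_181_2
  · exact hRC_E8_181_3

set_option maxRecDepth 1000000 in
set_option maxHeartbeats 0 in
theorem hRC_E8_182_0 : hCheckRCols chevE8 182 0 62 = true := by decide +kernel

set_option maxRecDepth 1000000 in
set_option maxHeartbeats 0 in
theorem hRC_E8_182_1 : hCheckRCols chevE8 182 62 62 = true := by decide +kernel

set_option maxRecDepth 1000000 in
set_option maxHeartbeats 0 in
theorem hRC_E8_182_2 : hCheckRCols chevE8 182 124 62 = true := by decide +kernel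

set_option maxRecDepth 1000000 in
set_option maxHeartbeats 0 in
theorem hRC_E8_182_3 : hCheckRCols chevE8 182 186 62 = true := by decide +kernel

theorem hR_E8_182 : hCheckRange chevE8 182 1 = true := by
  apply hCheckRange_one
  apply hCheckR_of_cols chevE8 182 62 4 (by decide +kernel) (by decide +kernel) (by decide +kernel)
  intro k hk
  interval_cases k
  · exact hRC_E8_182_0
  · exact hRC_E8_182_1
  · exact hRC_E8_182_2
  · exact hRC_E8_182_3

set_option maxRecDepth 1000000 in
set_option maxHeartbeats 0 in
theorem hRC_E8_183_0 : hCheckRCols chevE8 183 0 62 = true := by decide +kernel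

set_option maxRecDepth 1000000 in
set_option maxHeartbeats 0 in
theorem hRC_E8_183_1 : hCheckRCols chevE8 183 62 62 = true := by decide +kernel

set_option maxRecDepth 1000000 in
set_option maxHeartbeats 0 in
theorem hRC_E8_183_2 : hCheckRCols chevE8 183 124 62 = true := by decide +kernel

set_option maxRecDepth 1000000 in
set_option maxHeartbeats 0 in
theorem hRC_E8_183_3 : hCheckRCols chevE8 183 186 62 = true := by decide +kernel

theorem hR_E8_183 : hCheckRange chevE8 183 1 = true := by
  apply hCheckRange_one
  apply hCheckR_of_cols chevE8 183 62 4 (by decide +kernel) (by decide +kernel) (by decide +kernel)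
  intro k hk
  interval_cases k
  · exact hRC_E8_183_0
  · exact hRC_E8_183_1
  · exact hRC_E8_183_2
  · exact hRC_E8_183_3

set_option maxRecDepth 1000000 in
set_option maxHeartbeats 0 in
theorem hRC_E8_184_0 : hCheckRCols chevE8 184 0 62 = true := by decide +kernel

set_option maxRecDepth 1000000 in
set_option maxHeartbeats 0 in
theorem hRC_E8_184_1 : hCheckRCols chevE8 184 62 62 = true := by decide +kernel

set_option maxRecDepth 1000000 in
set_option maxHeartbeats 0 in
theorem hRC_E8_184_2 : hCheckRCols chevE8 184 124 62 = true := by decide +kernel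

set_option maxRecDepth 1000000 in
set_option maxHeartbeats 0 in
theorem hRC_E8_184_3 : hCheckRCols chevE8 184 186 62 = true := by decide +kernel

theorem hR_E8_184 : hCheckRange chevE8 184 1 = true := by
  apply hCheckRange_one
  apply hCheckR_of_cols chevE8 184 62 4 (by decide +kernel) (by decide +kernel) (by decide +kernel)
  intro k hk
  interval_cases k
  · exact hRC_E8_184_0
  · exact hRC_E8_184_1
  · exact hRC_E8_184_2
  · exact hRC_E8_184_3

set_option maxRecDepth 1000000 in
set_option maxHeartbeats 0 in
theorem hRC_E8_185_0 : hCheckRCols chevE8 185 0 62 = true := by decide +kernel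

set_option maxRecDepth 1000000 in
set_option maxHeartbeats 0 in
theorem hRC_E8_185_1 : hCheckRCols chevE8 185 62 62 = true := by decide +kernel

set_option maxRecDepth 1000000 in
set_option maxHeartbeats 0 in
theorem hRC_E8_185_2 : hCheckRCols chevE8 185 124 62 = true := by decide +kernel

set_option maxRecDepth 1000000 in
set_option maxHeartbeats 0 in
theorem hRC_E8_185_3 : hCheckRCols chevE8 185 186 62 = true := by decide +kernel

theorem hR_E8_185 : hCheckRange chevE8 185 1 = true := by
  apply hCheckRange_one
  apply hCheckR_of_cols chevE8 185 62 4 (by decide +kernel) (by decide +kernel) (by decide +kernel)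
  intro k hk
  interval_cases k
  · exact hRC_E8_185_0
  · exact hRC_E8_185_1
  · exact hRC_E8_185_2
  · exact hRC_E8_185_3

set_option maxRecDepth 1000000 in
set_option maxHeartbeats 0 in
theorem hRC_E8_186_0 : hCheckRCols chevE8 186 0 62 = true := by decide +kernel

set_option maxRecDepth 1000000 in
set_option maxHeartbeats 0 in
theorem hRC_E8_186_1 : hCheckRCols chevE8 186 62 62 = true := by decide +kernel

set_option maxRecDepth 1000000 in
set_option maxHeartbeats 0 in
theorem hRC_E8_186_2 : hCheckRCols chevE8 186 124 62 = true := by decide +kernel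

set_option maxRecDepth 1000000 in
set_option maxHeartbeats 0 in
theorem hRC_E8_186_3 : hCheckRCols chevE8 186 186 62 = true := by decide +kernel

theorem hR_E8_186 : hCheckRange chevE8 186 1 = true := by
  apply hCheckRange_one
  apply hCheckR_of_cols chevE8 186 62 4 (by decide +kernel) (by decide +kernel) (by decide +kernel)
  intro k hk
  interval_cases k
  · exact hRC_E8_186_0
  · exact hRC_E8_186_1
  · exact hRC_E8_186_2
  · exact hRC_E8_186_3

set_option maxRecDepth 1000000 in
set_option maxHeartbeats 0 in
theorem hRC_E8_187_0 : hCheckRCols chevE8 187 0 62 = true := by decide +kernel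

set_option maxRecDepth 1000000 in
set_option maxHeartbeats 0 in
theorem hRC_E8_187_1 : hCheckRCols chevE8 187 62 62 = true := by decide +kernel

set_option maxRecDepth 1000000 in
set_option maxHeartbeats 0 in
theorem hRC_E8_187_2 : hCheckRCols chevE8 187 124 62 = true := by decide +kernel

set_option maxRecDepth 1000000 in
set_option maxHeartbeats 0 in
theorem hRC_E8_187_3 : hCheckRCols chevE8 187 186 62 = true := by decide +kernel

theorem hR_E8_187 : hCheckRange chevE8 187 1 = true := by
  apply hCheckRange_one
  apply hCheckR_of_cols chevE8 187 62 4 (by decide +kernel) (by decide +kernel) (by decide +kernel)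
  intro k hk
  interval_cases k
  · exact hRC_E8_187_0
  · exact hRC_E8_187_1
  · exact hRC_E8_187_2
  · exact hRC_E8_187_3

set_option maxRecDepth 1000000 in
set_option maxHeartbeats 0 in
theorem hRC_E8_188_0 : hCheckRCols chevE8 188 0 62 = true := by decide +kernel

set_option maxRecDepth 1000000 in
set_option maxHeartbeats 0 in
theorem hRC_E8_188_1 : hCheckRCols chevE8 188 62 62 = true := by decide +kernel

set_option maxRecDepth 1000000 in
set_option maxHeartbeats 0 in
theorem hRC_E8_188_2 : hCheckRCols chevE8 188 124 62 = true := by decide +kernel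

set_option maxRecDepth 1000000 in
set_option maxHeartbeats 0 in
theorem hRC_E8_188_3 : hCheckRCols chevE8 188 186 62 = true := by decide +kernel

theorem hR_E8_188 : hCheckRange chevE8 188 1 = true := by
  apply hCheckRange_one
  apply hCheckR_of_cols chevE8 188 62 4 (by decide +kernel) (by decide +kernel) (by decide +kernel)
  intro k hk
  interval_cases k
  · exact hRC_E8_188_0
  · exact hRC_E8_188_1
  · exact hRC_E8_188_2
  · exact hRC_E8_188_3

set_option maxRecDepth 1000000 in
set_option maxHeartbeats 0 in
theorem hRC_E8_189_0 : hCheckRCols chevE8 189 0 62 = true := by decide +kernel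

set_option maxRecDepth 1000000 in
set_option maxHeartbeats 0 in
theorem hRC_E8_189_1 : hCheckRCols chevE8 189 62 62 = true := by decide +kernel

set_option maxRecDepth 1000000 in
set_option maxHeartbeats 0 in
theorem hRC_E8_189_2 : hCheckRCols chevE8 189 124 62 = true := by decide +kernel

set_option maxRecDepth 1000000 in
set_option maxHeartbeats 0 in
theorem hRC_E8_189_3 : hCheckRCols chevE8 189 186 62 = true := by decide +kernel

theorem hR_E8_189 : hCheckRange chevE8 189 1 = true := by
  apply hCheckRange_one
  apply hCheckR_of_cols chevE8 189 62 4 (by decide +kernel) (by decide +kernel) (by decide +kernel)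
  intro k hk
  interval_cases k
  · exact hRC_E8_189_0
  · exact hRC_E8_189_1
  · exact hRC_E8_189_2
  · exact hRC_E8_189_3

end Cfsg.Agent.helper5.Chev
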