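import Mathlib
import Cfsg.Agent.Lib_helper5_ChevHR
import Cfsg.Prelude.Def_ChevE8

set_option autoImplicit false

namespace Cfsg.Agent.helper5.Chev

open Cfsg.Lie

set_option maxRecDepth 1000000 in
set_option maxHeartbeats 0 in
theorem hRC_E8_190_0 : hCheckRCols chevE8 190 0 62 = true := by decide +kernel

set_option maxRecDepth 1000000 in
set_option maxHeartbeats 0 in
theorem hRC_E8_190_1 : hCheckRCols chevE8 190 62 62 = true := by decide +kernel

set_option maxRecDepth 1000000 in
set_option maxHeartbeats 0 in
theorem hRC_E8_190_2 : hCheckRCols chevE8 190 124 62 = true := by decide +kernel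

set_option maxRecDepth 1000000 in
set_option maxHeartbeats 0 in
theorem hRC_E8_190_3 : hCheckRCols chevE8 190 186 62 = true := by decide +kernel

theorem hR_E8_190 : hCheckRange chevE8 190 1 = true := by
  apply hCheckRange_one
  apply hCheckR_of_cols chevE8 190 62 4 (by decide +kernel) (by decide +kernel) (by decide +kernel)
  intro k hk
  interval_cases k
  · exact hRC_E8_190_0
  · exact hRC_E8_190_1
  · exact hRC_E8_190_2
  · exact hRC_E8_190_3

set_option maxRecDepth 1000000 in
set_option maxHeartbeats 0 in
theorem hRC_E8_191_0 : hCheckRCols chevE8 191 0 62 = true := by decide +kernel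

set_option maxRecDepth 1000000 in
set_option maxHeartbeats 0 in
theorem hRC_E8_191_1 : hCheckRCols chevE8 191 62 62 = true := by decide +kernel

set_option maxRecDepth 1000000 in
set_option maxHeartbeats 0 in
theorem hRC_E8_191_2 : hCheckRCols chevE8 191 124 62 = true := by decide +kernel

set_option maxRecDepth 1000000 in
set_option maxHeartbeats 0 in
theorem hRC_E8_191_3 : hCheckRCols chevE8 191 186 62 = true := by decide +kernel

theorem hR_E8_191 : hCheckRange chevE8 191 1 = true := by
  apply hCheckRange_one
  apply hCheckR_of_cols chevE8 191 62 4 (by decide +kernel) (by decide +kernel) (by decide +kernel)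
  intro k hk
  interval_cases k
  · exact hRC_E8_191_0
  · exact hRC_E8_191_1
  · exact hRC_E8_191_2
  · exact hRC_E8_191_3

set_option maxRecDepth 1000000 in
set_option maxHeartbeats 0 in
theorem hRC_E8_192_0 : hCheckRCols chevE8 192 0 62 = true := by decide +kernel

set_option maxRecDepth 1000000 in
set_option maxHeartbeats 0 in
theorem hRC_E8_192_1 : hCheckRCols chevE8 192 62 62 = true := by decide +kernel

set_option maxRecDepth 1000000 in
set_option maxHeartbeats 0 in
theorem hRC_E8_192_2 : hCheckRCols chevE8 192 124 62 = true := by decide +kernel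

set_option maxRecDepth 1000000 in
set_option maxHeartbeats 0 in
theorem hRC_E8_192_3 : hCheckRCols chevE8 192 186 62 = true := by decide +kernel

theorem hR_E8_192 : hCheckRange chevE8 192 1 = true := by
  apply hCheckRange_one
  apply hCheckR_of_cols chevE8 192 62 4 (by decide +kernel) (by decide +kernel) (by decide +kernel)
  intro k hk
  interval_cases k
  · exact hRC_E8_192_0
  · exact hRC_E8_192_1
  · exact hRC_E8_192_2
  · exact hRC_E8_192_3

set_option maxRecDepth 1000000 in
set_option maxHeartbeats 0 in
theorem hRC_E8_193_0 : hCheckRCols chevE8 193 0 62 = true := by decide +kernel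

set_option maxRecDepth 1000000 in
set_option maxHeartbeats 0 in
theorem hRC_E8_193_1 : hCheckRCols chevE8 193 62 62 = true := by decide +kernel

set_option maxRecDepth 1000000 in
set_option maxHeartbeats 0 in
theorem hRC_E8_193_2 : hCheckRCols chevE8 193 124 62 = true := by decide +kernel

set_option maxRecDepth 1000000 in
set_option maxHeartbeats 0 in
theorem hRC_E8_193_3 : hCheckRCols chevE8 193 186 62 = true := by decide +kernel

theorem hR_E8_193 : hCheckRange chevE8 193 1 = true := by
  apply hCheckRange_one
  apply hCheckR_of_cols chevE8 193 62 4 (by decide +kernel) (by decide +kernel) (by decide +kernel)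
  intro k hk
  interval_cases k
  · exact hRC_E8_193_0
  · exact hRC_E8_193_1
  · exact hRC_E8_193_2
  · exact hRC_E8_193_3

set_option maxRecDepth 1000000 in
set_option maxHeartbeats 0 in
theorem hRC_E8_194_0 : hCheckRCols chevE8 194 0 62 = true := by decide +kernel

set_option maxRecDepth 1000000 in
set_option maxHeartbeats 0 in
theorem hRC_E8_194_1 : hCheckRCols chevE8 194 62 62 = true := by decide +kernel

set_option maxRecDepth 1000000 in
set_option maxHeartbeats 0 in
theorem hRC_E8_194_2 : hCheckRCols chevE8 194 124 62 = true := by decide +kernel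

set_option maxRecDepth 1000000 in
set_option maxHeartbeats 0 in
theorem hRC_E8_194_3 : hCheckRCols chevE8 194 186 62 = true := by decide +kernel

theorem hR_E8_194 : hCheckRange chevE8 194 1 = true := by
  apply hCheckRange_one
  apply hCheckR_of_cols chevE8 194 62 4 (by decide +kernel) (by decide +kernel) (by decide +kernel)
  intro k hk
  interval_cases k
  · exact hRC_E8_194_0
  · exact hRC_E8_194_1
  · exact hRC_E8_194_2
  · exact hRC_E8_194_3

set_option maxRecDepth 1000000 in
set_option maxHeartbeats 0 in
theorem hRC_E8_195_0 : hCheckRCols chevE8 195 0 62 = true := by decide +kernel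

set_option maxRecDepth 1000000 in
set_option maxHeartbeats 0 in
theorem hRC_E8_195_1 : hCheckRCols chevE8 195 62 62 = true := by decide +kernel

set_option maxRecDepth 1000000 in
set_option maxHeartbeats 0 in
theorem hRC_E8_195_2 : hCheckRCols chevE8 195 124 62 = true := by decide +kernel

set_option maxRecDepth 1000000 in
set_option maxHeartbeats 0 in
theorem hRC_E8_195_3 : hCheckRCols chevE8 195 186 62 = true := by decide +kernel

theorem hR_E8_195 : hCheckRange chevE8 195 1 = true := by
  apply hCheckRange_one
  apply hCheckR_of_cols chevE8 195 62 4 (by decide +kernel) (by decide +kernel) (by decide +kernel)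
  intro k hk
  interval_cases k
  · exact hRC_E8_195_0
  · exact hRC_E8_195_1
  · exact hRC_E8_195_2
  · exact hRC_E8_195_3

set_option maxRecDepth 1000000 in
set_option maxHeartbeats 0 in
theorem hRC_E8_196_0 : hCheckRCols chevE8 196 0 62 = true := by decide +kernel

set_option maxRecDepth 1000000 in
set_option maxHeartbeats 0 in
theorem hRC_E8_196_1 : hCheckRCols chevE8 196 62 62 = true := by decide +kernel

set_option maxRecDepth 1000000 in
set_option maxHeartbeats 0 in
theorem hRC_E8_196_2 : hCheckRCols chevE8 196 124 62 = true := by decide +kernel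

set_option maxRecDepth 1000000 in
set_option maxHeartbeats 0 in
theorem hRC_E8_196_3 : hCheckRCols chevE8 196 186 62 = true := by decide +kernel

theorem hR_E8_196 : hCheckRange chevE8 196 1 = true := by
  apply hCheckRange_one
  apply hCheckR_of_cols chevE8 196 62 4 (by decide +kernel) (by decide +kernel) (by decide +kernel)
  intro k hk
  interval_cases k
  · exact hRC_E8_196_0
  · exact hRC_E8_196_1
  · exact hRC_E8_196_2
  · exact hRC_E8_196_3

set_option maxRecDepth 1000000 in
set_option maxHeartbeats 0 in
theorem hRC_E8_197_0 : hCheckRCols chevE8 197 0 62 = true := by decide +kernel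

set_option maxRecDepth 1000000 in
set_option maxHeartbeats 0 in
theorem hRC_E8_197_1 : hCheckRCols chevE8 197 62 62 = true := by decide +kernel

set_option maxRecDepth 1000000 in
set_option maxHeartbeats 0 in
theorem hRC_E8_197_2 : hCheckRCols chevE8 197 124 62 = true := by decide +kernel

set_option maxRecDepth 1000000 in
set_option maxHeartbeats 0 in
theorem hRC_E8_197_3 : hCheckRCols chevE8 197 186 62 = true := by decide +kernel

theorem hR_E8_197 : hCheckRange chevE8 197 1 = true := by
  apply hCheckRange_one
  apply hCheckR_of_cols chevE8 197 62 4 (by decide +kernel) (by decide +kernel) (by decide +kernel)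
  intro k hk
  interval_cases k
  · exact hRC_E8_197_0
  · exact hRC_E8_197_1
  · exact hRC_E8_197_2
  · exact hRC_E8_197_3

set_option maxRecDepth 1000000 in
set_option maxHeartbeats 0 in
theorem hRC_E8_198_0 : hCheckRCols chevE8 198 0 62 = true := by decide +kernel

set_option maxRecDepth 1000000 in
set_option maxHeartbeats 0 in
theorem hRC_E8_198_1 : hCheckRCols chevE8 198 62 62 = true := by decide +kernel

set_option maxRecDepth 1000000 in
set_option maxHeartbeats 0 in
theorem hRC_E8_198_2 : hCheckRCols chevE8 198 124 62 = true := by decide +kernel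

set_option maxRecDepth 1000000 in
set_option maxHeartbeats 0 in
theorem hRC_E8_198_3 : hCheckRCols chevE8 198 186 62 = true := by decide +kernel

theorem hR_E8_198 : hCheckRange chevE8 198 1 = true := by
  apply hCheckRange_one
  apply hCheckR_of_cols chevE8 198 62 4 (by decide +kernel) (by decide +kernel) (by decide +kernel)
  intro k hk
  interval_cases k
  · exact hRC_E8_198_0
  · exact hRC_E8_198_1
  · exact hRC_E8_198_2
  · exact hRC_E8_198_3

set_option maxRecDepth 1000000 in
set_option maxHeartbeats 0 in
theorem hRC_E8_199_0 : hCheckRCols chevE8 199 0 62 = true := by decide +kernel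

set_option maxRecDepth 1000000 in
set_option maxHeartbeats 0 in
theorem hRC_E8_199_1 : hCheckRCols chevE8 199 62 62 = true := by decide +kernel

set_option maxRecDepth 1000000 in
set_option maxHeartbeats 0 in
theorem hRC_E8_199_2 : hCheckRCols chevE8 199 124 62 = true := by decide +kernel

set_option maxRecDepth 1000000 in
set_option maxHeartbeats 0 in
theorem hRC_E8_199_3 : hCheckRCols chevE8 199 186 62 = true := by decide +kernel

theorem hR_E8_199 : hCheckRange chevE8 199 1 = true := by
  apply hCheckRange_one
  apply hCheckR_of_cols chevE8 199 62 4 (by decide +kernel) (by decide +kernel) (by decide +kernel)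
  intro k hk
  interval_cases k
  · exact hRC_E8_199_0
  · exact hRC_E8_199_1
  · exact hRC_E8_199_2
  · exact hRC_E8_199_3

end Cfsg.Agent.helper5.Chev
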