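import Mathlib
import Cfsg.Agent.Lib_helper5_ChevHR
import Cfsg.Prelude.Def_ChevE8

set_option autoImplicit false

namespace Cfsg.Agent.helper5.Chev

open Cfsg.Lie

set_option maxRecDepth 1000000 in
set_option maxHeartbeats 0 in
theorem hRC_E8_200_0 : hCheckRCols chevE8 200 0 62 = true := by decide +kernel

set_option maxRecDepth 1000000 in
set_option maxHeartbeats 0 in
theorem hRC_E8_200_1 : hCheckRCols chevE8 200 62 62 = true := by decide +kernel

set_option maxRecDepth 1000000 in
set_option maxHeartbeats 0 in
theorem hRC_E8_200_2 : hCheckRCols chevE8 200 124 62 = true := by decide +kernel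

set_option maxRecDepth 1000000 in
set_option maxHeartbeats 0 in
theorem hRC_E8_200_3 : hCheckRCols chevE8 200 186 62 = true := by decide +kernel

theorem hR_E8_200 : hCheckRange chevE8 200 1 = true := by
  apply hCheckRange_one
  apply hCheckR_of_cols chevE8 200 62 4 (by decide +kernel) (by decide +kernel) (by decide +kernel)
  intro k hk
  interval_cases k
  · exact hRC_E8_200_0
  · exact hRC_E8_200_1
  · exact hRC_E8_200_2
  · exact hRC_E8_200_3

set_option maxRecDepth 1000000 in
set_option maxHeartbeats 0 in
theorem hRC_E8_201_0 : hCheckRCols chevE8 201 0 62 = true := by decide +kernel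

set_option maxRecDepth 1000000 in
set_option maxHeartbeats 0 in
theorem hRC_E8_201_1 : hCheckRCols chevE8 201 62 62 = true := by decide +kernel

set_option maxRecDepth 1000000 in
set_option maxHeartbeats 0 in
theorem hRC_E8_201_2 : hCheckRCols chevE8 201 124 62 = true := by decide +kernel

set_option maxRecDepth 1000000 in
set_option maxHeartbeats 0 in
theorem hRC_E8_201_3 : hCheckRCols chevE8 201 186 62 = true := by decide +kernel

theorem hR_E8_201 : hCheckRange chevE8 201 1 = true := by
  apply hCheckRange_one
  apply hCheckR_of_cols chevE8 201 62 4 (by decide +kernel) (by decide +kernel) (by decide +kernel)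
  intro k hk
  interval_cases k
  · exact hRC_E8_201_0
  · exact hRC_E8_201_1
  · exact hRC_E8_201_2
  · exact hRC_E8_201_3

set_option maxRecDepth 1000000 in
set_option maxHeartbeats 0 in
theorem hRC_E8_202_0 : hCheckRCols chevE8 202 0 62 = true := by decide +kernel

set_option maxRecDepth 1000000 in
set_option maxHeartbeats 0 in
theorem hRC_E8_202_1 : hCheckRCols chevE8 202 62 62 = true := by decide +kernel

set_option maxRecDepth 1000000 in
set_option maxHeartbeats 0 in
theorem hRC_E8_202_2 : hCheckRCols chevE8 202 124 62 = true := by decide +kernel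

set_option maxRecDepth 1000000 in
set_option maxHeartbeats 0 in
theorem hRC_E8_202_3 : hCheckRCols chevE8 202 186 62 = true := by decide +kernel

theorem hR_E8_202 : hCheckRange chevE8 202 1 = true := by
  apply hCheckRange_one
  apply hCheckR_of_cols chevE8 202 62 4 (by decide +kernel) (by decide +kernel) (by decide +kernel)
  intro k hk
  interval_cases k
  · exact hRC_E8_202_0
  · exact hRC_E8_202_1
  · exact hRC_E8_202_2
  · exact hRC_E8_202_3

set_option maxRecDepth 1000000 in
set_option maxHeartbeats 0 in
theorem hRC_E8_203_0 : hCheckRCols chevE8 203 0 62 = true := by decide +kernel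

set_option maxRecDepth 1000000 in
set_option maxHeartbeats 0 in
theorem hRC_E8_203_1 : hCheckRCols chevE8 203 62 62 = true := by decide +kernel

set_option maxRecDepth 1000000 in
set_option maxHeartbeats 0 in
theorem hRC_E8_203_2 : hCheckRCols chevE8 203 124 62 = true := by decide +kernel

set_option maxRecDepth 1000000 in
set_option maxHeartbeats 0 in
theorem hRC_E8_203_3 : hCheckRCols chevE8 203 186 62 = true := by decide +kernel

theorem hR_E8_203 : hCheckRange chevE8 203 1 = true := by
  apply hCheckRange_one
  apply hCheckR_of_cols chevE8 203 62 4 (by decide +kernel) (by decide +kernel) (by decide +kernel)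
  intro k hk
  interval_cases k
  · exact hRC_E8_203_0
  · exact hRC_E8_203_1
  · exact hRC_E8_203_2
  · exact hRC_E8_203_3

set_option maxRecDepth 1000000 in
set_option maxHeartbeats 0 in
theorem hRC_E8_204_0 : hCheckRCols chevE8 204 0 62 = true := by decide +kernel

set_option maxRecDepth 1000000 in
set_option maxHeartbeats 0 in
theorem hRC_E8_204_1 : hCheckRCols chevE8 204 62 62 = true := by decide +kernel

set_option maxRecDepth 1000000 in
set_option maxHeartbeats 0 in
theorem hRC_E8_204_2 : hCheckRCols chevE8 204 124 62 = true := by decide +kernel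

set_option maxRecDepth 1000000 in
set_option maxHeartbeats 0 in
theorem hRC_E8_204_3 : hCheckRCols chevE8 204 186 62 = true := by decide +kernel

theorem hR_E8_204 : hCheckRange chevE8 204 1 = true := by
  apply hCheckRange_one
  apply hCheckR_of_cols chevE8 204 62 4 (by decide +kernel) (by decide +kernel) (by decide +kernel)
  intro k hk
  interval_cases k
  · exact hRC_E8_204_0
  · exact hRC_E8_204_1
  · exact hRC_E8_204_2
  · exact hRC_E8_204_3

set_option maxRecDepth 1000000 in
set_option maxHeartbeats 0 in
theorem hRC_E8_205_0 : hCheckRCols chevE8 205 0 62 = true := by decide +kernel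

set_option maxRecDepth 1000000 in
set_option maxHeartbeats 0 in
theorem hRC_E8_205_1 : hCheckRCols chevE8 205 62 62 = true := by decide +kernel

set_option maxRecDepth 1000000 in
set_option maxHeartbeats 0 in
theorem hRC_E8_205_2 : hCheckRCols chevE8 205 124 62 = true := by decide +kernel

set_option maxRecDepth 1000000 in
set_option maxHeartbeats 0 in
theorem hRC_E8_205_3 : hCheckRCols chevE8 205 186 62 = true := by decide +kernel

theorem hR_E8_205 : hCheckRange chevE8 205 1 = true := by
  apply hCheckRange_one
  apply hCheckR_of_cols chevE8 205 62 4 (by decide +kernel) (by decide +kernel) (by decide +kernel)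
  intro k hk
  interval_cases k
  · exact hRC_E8_205_0
  · exact hRC_E8_205_1
  · exact hRC_E8_205_2
  · exact hRC_E8_205_3

set_option maxRecDepth 1000000 in
set_option maxHeartbeats 0 in
theorem hRC_E8_206_0 : hCheckRCols chevE8 206 0 62 = true := by decide +kernel

set_option maxRecDepth 1000000 in
set_option maxHeartbeats 0 in
theorem hRC_E8_206_1 : hCheckRCols chevE8 206 62 62 = true := by decide +kernel

set_option maxRecDepth 1000000 in
set_option maxHeartbeats 0 in
theorem hRC_E8_206_2 : hCheckRCols chevE8 206 124 62 = true := by decide +kernel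

set_option maxRecDepth 1000000 in
set_option maxHeartbeats 0 in
theorem hRC_E8_206_3 : hCheckRCols chevE8 206 186 62 = true := by decide +kernel

theorem hR_E8_206 : hCheckRange chevE8 206 1 = true := by
  apply hCheckRange_one
  apply hCheckR_of_cols chevE8 206 62 4 (by decide +kernel) (by decide +kernel) (by decide +kernel)
  intro k hk
  interval_cases k
  · exact hRC_E8_206_0
  · exact hRC_E8_206_1
  · exact hRC_E8_206_2
  · exact hRC_E8_206_3

set_option maxRecDepth 1000000 in
set_option maxHeartbeats 0 in
theorem hRC_E8_207_0 : hCheckRCols chevE8 207 0 62 = true := by decide +kernel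

set_option maxRecDepth 1000000 in
set_option maxHeartbeats 0 in
theorem hRC_E8_207_1 : hCheckRCols chevE8 207 62 62 = true := by decide +kernel

set_option maxRecDepth 1000000 in
set_option maxHeartbeats 0 in
theorem hRC_E8_207_2 : hCheckRCols chevE8 207 124 62 = true := by decide +kernel

set_option maxRecDepth 1000000 in
set_option maxHeartbeats 0 in
theorem hRC_E8_207_3 : hCheckRCols chevE8 207 186 62 = true := by decide +kernel

theorem hR_E8_207 : hCheckRange chevE8 207 1 = true := by
  apply hCheckRange_one
  apply hCheckR_of_cols chevE8 207 62 4 (by decide +kernel) (by decide +kernel) (by decide +kernel)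
  intro k hk
  interval_cases k
  · exact hRC_E8_207_0
  · exact hRC_E8_207_1
  · exact hRC_E8_207_2
  · exact hRC_E8_207_3

set_option maxRecDepth 1000000 in
set_option maxHeartbeats 0 in
theorem hRC_E8_208_0 : hCheckRCols chevE8 208 0 62 = true := by decide +kernel

set_option maxRecDepth 1000000 in
set_option maxHeartbeats 0 in
theorem hRC_E8_208_1 : hCheckRCols chevE8 208 62 62 = true := by decide +kernel

set_option maxRecDepth 1000000 in
set_option maxHeartbeats 0 in
theorem hRC_E8_208_2 : hCheckRCols chevE8 208 124 62 = true := by decide +kernel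

set_option maxRecDepth 1000000 in
set_option maxHeartbeats 0 in
theorem hRC_E8_208_3 : hCheckRCols chevE8 208 186 62 = true := by decide +kernel

theorem hR_E8_208 : hCheckRange chevE8 208 1 = true := by
  apply hCheckRange_one
  apply hCheckR_of_cols chevE8 208 62 4 (by decide +kernel) (by decide +kernel) (by decide +kernel)
  intro k hk
  interval_cases k
  · exact hRC_E8_208_0
  · exact hRC_E8_208_1
  · exact hRC_E8_208_2
  · exact hRC_E8_208_3

set_option maxRecDepth 1000000 in
set_option maxHeartbeats 0 in
theorem hRC_E8_209_0 : hCheckRCols chevE8 209 0 62 = true := by decide +kernel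

set_option maxRecDepth 1000000 in
set_option maxHeartbeats 0 in
theorem hRC_E8_209_1 : hCheckRCols chevE8 209 62 62 = true := by decide +kernel

set_option maxRecDepth 1000000 in
set_option maxHeartbeats 0 in
theorem hRC_E8_209_2 : hCheckRCols chevE8 209 124 62 = true := by decide +kernel

set_option maxRecDepth 1000000 in
set_option maxHeartbeats 0 in
theorem hRC_E8_209_3 : hCheckRCols chevE8 209 186 62 = true := by decide +kernel

theorem hR_E8_209 : hCheckRange chevE8 209 1 = true := by
  apply hCheckRange_one
  apply hCheckR_of_cols chevE8 209 62 4 (by decide +kernel) (by decide +kernel) (by decide +kernel)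
  intro k hk
  interval_cases k
  · exact hRC_E8_209_0
  · exact hRC_E8_209_1
  · exact hRC_E8_209_2
  · exact hRC_E8_209_3

end Cfsg.Agent.helper5.Chev
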