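import Mathlib
import Cfsg.Agent.Lib_helper5_ChevHR
import Cfsg.Prelude.Def_ChevE8

set_option autoImplicit false

namespace Cfsg.Agent.helper5.Chev

open Cfsg.Lie

set_option maxRecDepth 1000000 in
set_option maxHeartbeats 0 in
theorem hRC_E8_210_0 : hCheckRCols chevE8 210 0 62 = true := by decide +kernel

set_option maxRecDepth 1000000 in
set_option maxHeartbeats 0 in
theorem hRC_E8_210_1 : hCheckRCols chevE8 210 62 62 = true := by decide +kernel

set_option maxRecDepth 1000000 in
set_option maxHeartbeats 0 in
theorem hRC_E8_210_2 : hCheckRCols chevE8 210 124 62 = true := by decide +kernel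

set_option maxRecDepth 1000000 in
set_option maxHeartbeats 0 in
theorem hRC_E8_210_3 : hCheckRCols chevE8 210 186 62 = true := by decide +kernel

theorem hR_E8_210 : hCheckRange chevE8 210 1 = true := by
  apply hCheckRange_one
  apply hCheckR_of_cols chevE8 210 62 4 (by decide +kernel) (by decide +kernel) (by decide +kernel)
  intro k hk
  interval_cases k
  · exact hRC_E8_210_0
  · exact hRC_E8_210_1
  · exact hRC_E8_210_2
  · exact hRC_E8_210_3

set_option maxRecDepth 1000000 in
set_option maxHeartbeats 0 in
theorem hRC_E8_211_0 : hCheckRCols chevE8 211 0 62 = true := by decide +kernel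

set_option maxRecDepth 1000000 in
set_option maxHeartbeats 0 in
theorem hRC_E8_211_1 : hCheckRCols chevE8 211 62 62 = true := by decide +kernel

set_option maxRecDepth 1000000 in
set_option maxHeartbeats 0 in
theorem hRC_E8_211_2 : hCheckRCols chevE8 211 124 62 = true := by decide +kernel

set_option maxRecDepth 1000000 in
set_option maxHeartbeats 0 in
theorem hRC_E8_211_3 : hCheckRCols chevE8 211 186 62 = true := by decide +kernel

theorem hR_E8_211 : hCheckRange chevE8 211 1 = true := by
  apply hCheckRange_one
  apply hCheckR_of_cols chevE8 211 62 4 (by decide +kernel) (by decide +kernel) (by decide +kernel)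
  intro k hk
  interval_cases k
  · exact hRC_E8_211_0
  · exact hRC_E8_211_1
  · exact hRC_E8_211_2
  · exact hRC_E8_211_3

set_option maxRecDepth 1000000 in
set_option maxHeartbeats 0 in
theorem hRC_E8_212_0 : hCheckRCols chevE8 212 0 62 = true := by decide +kernel

set_option maxRecDepth 1000000 in
set_option maxHeartbeats 0 in
theorem hRC_E8_212_1 : hCheckRCols chevE8 212 62 62 = true := by decide +kernel

set_option maxRecDepth 1000000 in
set_option maxHeartbeats 0 in
theorem hRC_E8_212_2 : hCheckRCols chevE8 212 124 62 = true := by decide +kernel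

set_option maxRecDepth 1000000 in
set_option maxHeartbeats 0 in
theorem hRC_E8_212_3 : hCheckRCols chevE8 212 186 62 = true := by decide +kernel

theorem hR_E8_212 : hCheckRange chevE8 212 1 = true := by
  apply hCheckRange_one
  apply hCheckR_of_cols chevE8 212 62 4 (by decide +kernel) (by decide +kernel) (by decide +kernel)
  intro k hk
  interval_cases k
  · exact hRC_E8_212_0
  · exact hRC_E8_212_1
  · exact hRC_E8_212_2
  · exact hRC_E8_212_3

set_option maxRecDepth 1000000 in
set_option maxHeartbeats 0 in
theorem hRC_E8_213_0 : hCheckRCols chevE8 213 0 62 = true := by decide +kernel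

set_option maxRecDepth 1000000 in
set_option maxHeartbeats 0 in
theorem hRC_E8_213_1 : hCheckRCols chevE8 213 62 62 = true := by decide +kernel

set_option maxRecDepth 1000000 in
set_option maxHeartbeats 0 in
theorem hRC_E8_213_2 : hCheckRCols chevE8 213 124 62 = true := by decide +kernel

set_option maxRecDepth 1000000 in
set_option maxHeartbeats 0 in
theorem hRC_E8_213_3 : hCheckRCols chevE8 213 186 62 = true := by decide +kernel

theorem hR_E8_213 : hCheckRange chevE8 213 1 = true := by
  apply hCheckRange_one
  apply hCheckR_of_cols chevE8 213 62 4 (by decide +kernel) (by decide +kernel) (by decide +kernel)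
  intro k hk
  interval_cases k
  · exact hRC_E8_213_0
  · exact hRC_E8_213_1
  · exact hRC_E8_213_2
  · exact hRC_E8_213_3

set_option maxRecDepth 1000000 in
set_option maxHeartbeats 0 in
theorem hRC_E8_214_0 : hCheckRCols chevE8 214 0 62 = true := by decide +kernel

set_option maxRecDepth 1000000 in
set_option maxHeartbeats 0 in
theorem hRC_E8_214_1 : hCheckRCols chevE8 214 62 62 = true := by decide +kernel

set_option maxRecDepth 1000000 in
set_option maxHeartbeats 0 in
theorem hRC_E8_214_2 : hCheckRCols chevE8 214 124 62 = true := by decide +kernel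

set_option maxRecDepth 1000000 in
set_option maxHeartbeats 0 in
theorem hRC_E8_214_3 : hCheckRCols chevE8 214 186 62 = true := by decide +kernel

theorem hR_E8_214 : hCheckRange chevE8 214 1 = true := by
  apply hCheckRange_one
  apply hCheckR_of_cols chevE8 214 62 4 (by decide +kernel) (by decide +kernel) (by decide +kernel)
  intro k hk
  interval_cases k
  · exact hRC_E8_214_0
  · exact hRC_E8_214_1
  · exact hRC_E8_214_2
  · exact hRC_E8_214_3

set_option maxRecDepth 1000000 in
set_option maxHeartbeats 0 in
theorem hRC_E8_215_0 : hCheckRCols chevE8 215 0 62 = true := by decide +kernel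

set_option maxRecDepth 1000000 in
set_option maxHeartbeats 0 in
theorem hRC_E8_215_1 : hCheckRCols chevE8 215 62 62 = true := by decide +kernel

set_option maxRecDepth 1000000 in
set_option maxHeartbeats 0 in
theorem hRC_E8_215_2 : hCheckRCols chevE8 215 124 62 = true := by decide +kernel

set_option maxRecDepth 1000000 in
set_option maxHeartbeats 0 in
theorem hRC_E8_215_3 : hCheckRCols chevE8 215 186 62 = true := by decide +kernel

theorem hR_E8_215 : hCheckRange chevE8 215 1 = true := by
  apply hCheckRange_one
  apply hCheckR_of_cols chevE8 215 62 4 (by decide +kernel) (by decide +kernel) (by decide +kernel)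
  intro k hk
  interval_cases k
  · exact hRC_E8_215_0
  · exact hRC_E8_215_1
  · exact hRC_E8_215_2
  · exact hRC_E8_215_3

set_option maxRecDepth 1000000 in
set_option maxHeartbeats 0 in
theorem hRC_E8_216_0 : hCheckRCols chevE8 216 0 62 = true := by decide +kernel

set_option maxRecDepth 1000000 in
set_option maxHeartbeats 0 in
theorem hRC_E8_216_1 : hCheckRCols chevE8 216 62 62 = true := by decide +kernel

set_option maxRecDepth 1000000 in
set_option maxHeartbeats 0 in
theorem hRC_E8_216_2 : hCheckRCols chevE8 216 124 62 = true := by decide +kernel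

set_option maxRecDepth 1000000 in
set_option maxHeartbeats 0 in
theorem hRC_E8_216_3 : hCheckRCols chevE8 216 186 62 = true := by decide +kernel

theorem hR_E8_216 : hCheckRange chevE8 216 1 = true := by
  apply hCheckRange_one
  apply hCheckR_of_cols chevE8 216 62 4 (by decide +kernel) (by decide +kernel) (by decide +kernel)
  intro k hk
  interval_cases k
  · exact hRC_E8_216_0
  · exact hRC_E8_216_1
  · exact hRC_E8_216_2
  · exact hRC_E8_216_3

set_option maxRecDepth 1000000 in
set_option maxHeartbeats 0 in
theorem hRC_E8_217_0 : hCheckRCols chevE8 217 0 62 = true := by decide +kernel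

set_option maxRecDepth 1000000 in
set_option maxHeartbeats 0 in
theorem hRC_E8_217_1 : hCheckRCols chevE8 217 62 62 = true := by decide +kernel

set_option maxRecDepth 1000000 in
set_option maxHeartbeats 0 in
theorem hRC_E8_217_2 : hCheckRCols chevE8 217 124 62 = true := by decide +kernel

set_option maxRecDepth 1000000 in
set_option maxHeartbeats 0 in
theorem hRC_E8_217_3 : hCheckRCols chevE8 217 186 62 = true := by decide +kernel

theorem hR_E8_217 : hCheckRange chevE8 217 1 = true := by
  apply hCheckRange_one
  apply hCheckR_of_cols chevE8 217 62 4 (by decide +kernel) (by decide +kernel) (by decide +kernel)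
  intro k hk
  interval_cases k
  · exact hRC_E8_217_0
  · exact hRC_E8_217_1
  · exact hRC_E8_217_2
  · exact hRC_E8_217_3

set_option maxRecDepth 1000000 in
set_option maxHeartbeats 0 in
theorem hRC_E8_218_0 : hCheckRCols chevE8 218 0 62 = true := by decide +kernel

set_option maxRecDepth 1000000 in
set_option maxHeartbeats 0 in
theorem hRC_E8_218_1 : hCheckRCols chevE8 218 62 62 = true := by decide +kernel

set_option maxRecDepth 1000000 in
set_option maxHeartbeats 0 in
theorem hRC_E8_218_2 : hCheckRCols chevE8 218 124 62 = true := by decide +kernel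

set_option maxRecDepth 1000000 in
set_option maxHeartbeats 0 in
theorem hRC_E8_218_3 : hCheckRCols chevE8 218 186 62 = true := by decide +kernel

theorem hR_E8_218 : hCheckRange chevE8 218 1 = true := by
  apply hCheckRange_one
  apply hCheckR_of_cols chevE8 218 62 4 (by decide +kernel) (by decide +kernel) (by decide +kernel)
  intro k hk
  interval_cases k
  · exact hRC_E8_218_0
  · exact hRC_E8_218_1
  · exact hRC_E8_218_2
  · exact hRC_E8_218_3

set_option maxRecDepth 1000000 in
set_option maxHeartbeats 0 in
theorem hRC_E8_219_0 : hCheckRCols chevE8 219 0 62 = true := by decide +kernel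

set_option maxRecDepth 1000000 in
set_option maxHeartbeats 0 in
theorem hRC_E8_219_1 : hCheckRCols chevE8 219 62 62 = true := by decide +kernel

set_option maxRecDepth 1000000 in
set_option maxHeartbeats 0 in
theorem hRC_E8_219_2 : hCheckRCols chevE8 219 124 62 = true := by decide +kernel

set_option maxRecDepth 1000000 in
set_option maxHeartbeats 0 in
theorem hRC_E8_219_3 : hCheckRCols chevE8 219 186 62 = true := by decide +kernel

theorem hR_E8_219 : hCheckRange chevE8 219 1 = true := by
  apply hCheckRange_one
  apply hCheckR_of_cols chevE8 219 62 4 (by decide +kernel) (by decide +kernel) (by decide +kernel)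
  intro k hk
  interval_cases k
  · exact hRC_E8_219_0
  · exact hRC_E8_219_1
  · exact hRC_E8_219_2
  · exact hRC_E8_219_3

end Cfsg.Agent.helper5.Chev
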