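import Mathlib
import Cfsg.Agent.Lib_helper5_ChevHR
import Cfsg.Prelude.Def_ChevE8

set_option autoImplicit false

namespace Cfsg.Agent.helper5.Chev

open Cfsg.Lie

set_option maxRecDepth 1000000 in
set_option maxHeartbeats 0 in
theorem hRC_E8_230_0 : hCheckRCols chevE8 230 0 62 = true := by decide +kernel

set_option maxRecDepth 1000000 in
set_option maxHeartbeats 0 in
theorem hRC_E8_230_1 : hCheckRCols chevE8 230 62 62 = true := by decide +kernel

set_option maxRecDepth 1000000 in
set_option maxHeartbeats 0 in
theorem hRC_E8_230_2 : hCheckRCols chevE8 230 124 62 = true := by decide +kernel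

set_option maxRecDepth 1000000 in
set_option maxHeartbeats 0 in
theorem hRC_E8_230_3 : hCheckRCols chevE8 230 186 62 = true := by decide +kernel

theorem hR_E8_230 : hCheckRange chevE8 230 1 = true := by
  apply hCheckRange_one
  apply hCheckR_of_cols chevE8 230 62 4 (by decide +kernel) (by decide +kernel) (by decide +kernel)
  intro k hk
  interval_cases k
  · exact hRC_E8_230_0
  · exact hRC_E8_230_1
  · exact hRC_E8_230_2
  · exact hRC_E8_230_3

set_option maxRecDepth 1000000 in
set_option maxHeartbeats 0 in
theorem hRC_E8_231_0 : hCheckRCols chevE8 231 0 62 = true := by decide +kernel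

set_option maxRecDepth 1000000 in
set_option maxHeartbeats 0 in
theorem hRC_E8_231_1 : hCheckRCols chevE8 231 62 62 = true := by decide +kernel

set_option maxRecDepth 1000000 in
set_option maxHeartbeats 0 in
theorem hRC_E8_231_2 : hCheckRCols chevE8 231 124 62 = true := by decide +kernel

set_option maxRecDepth 1000000 in
set_option maxHeartbeats 0 in
theorem hRC_E8_231_3 : hCheckRCols chevE8 231 186 62 = true := by decide +kernel

theorem hR_E8_231 : hCheckRange chevE8 231 1 = true := by
  apply hCheckRange_one
  apply hCheckR_of_cols chevE8 231 62 4 (by decide +kernel) (by decide +kernel) (by decide +kernel)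
  intro k hk
  interval_cases k
  · exact hRC_E8_231_0
  · exact hRC_E8_231_1
  · exact hRC_E8_231_2
  · exact hRC_E8_231_3

set_option maxRecDepth 1000000 in
set_option maxHeartbeats 0 in
theorem hRC_E8_232_0 : hCheckRCols chevE8 232 0 62 = true := by decide +kernel

set_option maxRecDepth 1000000 in
set_option maxHeartbeats 0 in
theorem hRC_E8_232_1 : hCheckRCols chevE8 232 62 62 = true := by decide +kernel

set_option maxRecDepth 1000000 in
set_option maxHeartbeats 0 in
theorem hRC_E8_232_2 : hCheckRCols chevE8 232 124 62 = true := by decide +kernel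

set_option maxRecDepth 1000000 in
set_option maxHeartbeats 0 in
theorem hRC_E8_232_3 : hCheckRCols chevE8 232 186 62 = true := by decide +kernel

theorem hR_E8_232 : hCheckRange chevE8 232 1 = true := by
  apply hCheckRange_one
  apply hCheckR_of_cols chevE8 232 62 4 (by decide +kernel) (by decide +kernel) (by decide +kernel)
  intro k hk
  interval_cases k
  · exact hRC_E8_232_0
  · exact hRC_E8_232_1
  · exact hRC_E8_232_2
  · exact hRC_E8_232_3

set_option maxRecDepth 1000000 in
set_option maxHeartbeats 0 in
theorem hRC_E8_233_0 : hCheckRCols chevE8 233 0 62 = true := by decide +kernel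

set_option maxRecDepth 1000000 in
set_option maxHeartbeats 0 in
theorem hRC_E8_233_1 : hCheckRCols chevE8 233 62 62 = true := by decide +kernel

set_option maxRecDepth 1000000 in
set_option maxHeartbeats 0 in
theorem hRC_E8_233_2 : hCheckRCols chevE8 233 124 62 = true := by decide +kernel

set_option maxRecDepth 1000000 in
set_option maxHeartbeats 0 in
theorem hRC_E8_233_3 : hCheckRCols chevE8 233 186 62 = true := by decide +kernel

theorem hR_E8_233 : hCheckRange chevE8 233 1 = true := by
  apply hCheckRange_one
  apply hCheckR_of_cols chevE8 233 62 4 (by decide +kernel) (by decide +kernel) (by decide +kernel)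
  intro k hk
  interval_cases k
  · exact hRC_E8_233_0
  · exact hRC_E8_233_1
  · exact hRC_E8_233_2
  · exact hRC_E8_233_3

set_option maxRecDepth 1000000 in
set_option maxHeartbeats 0 in
theorem hRC_E8_234_0 : hCheckRCols chevE8 234 0 62 = true := by decide +kernel

set_option maxRecDepth 1000000 in
set_option maxHeartbeats 0 in
theorem hRC_E8_234_1 : hCheckRCols chevE8 234 62 62 = true := by decide +kernel

set_option maxRecDepth 1000000 in
set_option maxHeartbeats 0 in
theorem hRC_E8_234_2 : hCheckRCols chevE8 234 124 62 = true := by decide +kernel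

set_option maxRecDepth 1000000 in
set_option maxHeartbeats 0 in
theorem hRC_E8_234_3 : hCheckRCols chevE8 234 186 62 = true := by decide +kernel

theorem hR_E8_234 : hCheckRange chevE8 234 1 = true := by
  apply hCheckRange_one
  apply hCheckR_of_cols chevE8 234 62 4 (by decide +kernel) (by decide +kernel) (by decide +kernel)
  intro k hk
  interval_cases k
  · exact hRC_E8_234_0
  · exact hRC_E8_234_1
  · exact hRC_E8_234_2
  · exact hRC_E8_234_3

set_option maxRecDepth 1000000 in
set_option maxHeartbeats 0 in
theorem hRC_E8_235_0 : hCheckRCols chevE8 235 0 62 = true := by decide +kernel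

set_option maxRecDepth 1000000 in
set_option maxHeartbeats 0 in
theorem hRC_E8_235_1 : hCheckRCols chevE8 235 62 62 = true := by decide +kernel

set_option maxRecDepth 1000000 in
set_option maxHeartbeats 0 in
theorem hRC_E8_235_2 : hCheckRCols chevE8 235 124 62 = true := by decide +kernel

set_option maxRecDepth 1000000 in
set_option maxHeartbeats 0 in
theorem hRC_E8_235_3 : hCheckRCols chevE8 235 186 62 = true := by decide +kernel

theorem hR_E8_235 : hCheckRange chevE8 235 1 = true := by
  apply hCheckRange_one
  apply hCheckR_of_cols chevE8 235 62 4 (by decide +kernel) (by decide +kernel) (by decide +kernel)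
  intro k hk
  interval_cases k
  · exact hRC_E8_235_0
  · exact hRC_E8_235_1
  · exact hRC_E8_235_2
  · exact hRC_E8_235_3

set_option maxRecDepth 1000000 in
set_option maxHeartbeats 0 in
theorem hRC_E8_236_0 : hCheckRCols chevE8 236 0 62 = true := by decide +kernel

set_option maxRecDepth 1000000 in
set_option maxHeartbeats 0 in
theorem hRC_E8_236_1 : hCheckRCols chevE8 236 62 62 = true := by decide +kernel

set_option maxRecDepth 1000000 in
set_option maxHeartbeats 0 in
theorem hRC_E8_236_2 : hCheckRCols chevE8 236 124 62 = true := by decide +kernel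

set_option maxRecDepth 1000000 in
set_option maxHeartbeats 0 in
theorem hRC_E8_236_3 : hCheckRCols chevE8 236 186 62 = true := by decide +kernel

theorem hR_E8_236 : hCheckRange chevE8 236 1 = true := by
  apply hCheckRange_one
  apply hCheckR_of_cols chevE8 236 62 4 (by decide +kernel) (by decide +kernel) (by decide +kernel)
  intro k hk
  interval_cases k
  · exact hRC_E8_236_0
  · exact hRC_E8_236_1
  · exact hRC_E8_236_2
  · exact hRC_E8_236_3

set_option maxRecDepth 1000000 in
set_option maxHeartbeats 0 in
theorem hRC_E8_237_0 : hCheckRCols chevE8 237 0 62 = true := by decide +kernel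

set_option maxRecDepth 1000000 in
set_option maxHeartbeats 0 in
theorem hRC_E8_237_1 : hCheckRCols chevE8 237 62 62 = true := by decide +kernel

set_option maxRecDepth 1000000 in
set_option maxHeartbeats 0 in
theorem hRC_E8_237_2 : hCheckRCols chevE8 237 124 62 = true := by decide +kernel

set_option maxRecDepth 1000000 in
set_option maxHeartbeats 0 in
theorem hRC_E8_237_3 : hCheckRCols chevE8 237 186 62 = true := by decide +kernel

theorem hR_E8_237 : hCheckRange chevE8 237 1 = true := by
  apply hCheckRange_one
  apply hCheckR_of_cols chevE8 237 62 4 (by decide +kernel) (by decide +kernel) (by decide +kernel)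
  intro k hk
  interval_cases k
  · exact hRC_E8_237_0
  · exact hRC_E8_237_1
  · exact hRC_E8_237_2
  · exact hRC_E8_237_3

set_option maxRecDepth 1000000 in
set_option maxHeartbeats 0 in
theorem hRC_E8_238_0 : hCheckRCols chevE8 238 0 62 = true := by decide +kernel

set_option maxRecDepth 1000000 in
set_option maxHeartbeats 0 in
theorem hRC_E8_238_1 : hCheckRCols chevE8 238 62 62 = true := by decide +kernel

set_option maxRecDepth 1000000 in
set_option maxHeartbeats 0 in
theorem hRC_E8_238_2 : hCheckRCols chevE8 238 124 62 = true := by decide +kernel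

set_option maxRecDepth 1000000 in
set_option maxHeartbeats 0 in
theorem hRC_E8_238_3 : hCheckRCols chevE8 238 186 62 = true := by decide +kernel

theorem hR_E8_238 : hCheckRange chevE8 238 1 = true := by
  apply hCheckRange_one
  apply hCheckR_of_cols chevE8 238 62 4 (by decide +kernel) (by decide +kernel) (by decide +kernel)
  intro k hk
  interval_cases k
  · exact hRC_E8_238_0
  · exact hRC_E8_238_1
  · exact hRC_E8_238_2
  · exact hRC_E8_238_3

set_option maxRecDepth 1000000 in
set_option maxHeartbeats 0 in
theorem hRC_E8_239_0 : hCheckRCols chevE8 239 0 62 = true := by decide +kernel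

set_option maxRecDepth 1000000 in
set_option maxHeartbeats 0 in
theorem hRC_E8_239_1 : hCheckRCols chevE8 239 62 62 = true := by decide +kernel

set_option maxRecDepth 1000000 in
set_option maxHeartbeats 0 in
theorem hRC_E8_239_2 : hCheckRCols chevE8 239 124 62 = true := by decide +kernel

set_option maxRecDepth 1000000 in
set_option maxHeartbeats 0 in
theorem hRC_E8_239_3 : hCheckRCols chevE8 239 186 62 = true := by decide +kernel

theorem hR_E8_239 : hCheckRange chevE8 239 1 = true := by
  apply hCheckRange_one
  apply hCheckR_of_cols chevE8 239 62 4 (by decide +kernel) (by decide +kernel) (by decide +kernel)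
  intro k hk
  interval_cases k
  · exact hRC_E8_239_0
  · exact hRC_E8_239_1
  · exact hRC_E8_239_2
  · exact hRC_E8_239_3

end Cfsg.Agent.helper5.Chev
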