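import Mathlib
import Cfsg.Agent.Lib_helper5_ChevHR
import Cfsg.Agent.Lib_helper5_ChevHRE8_00
import Cfsg.Agent.Lib_helper5_ChevHRE8_01
import Cfsg.Agent.Lib_helper5_ChevHRE8_02
import Cfsg.Agent.Lib_helper5_ChevHRE8_03
import Cfsg.Agent.Lib_helper5_ChevHRE8_04
import Cfsg.Agent.Lib_helper5_ChevHRE8_05
import Cfsg.Agent.Lib_helper5_ChevHRE8_06
import Cfsg.Agent.Lib_helper5_ChevHRE8_07
import Cfsg.Agent.Lib_helper5_ChevHRE8_08
import Cfsg.Agent.Lib_helper5_ChevHRE8_09
import Cfsg.Agent.Lib_helper5_ChevHRE8_10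
import Cfsg.Agent.Lib_helper5_ChevHRE8_11
import Cfsg.Agent.Lib_helper5_ChevHRE8_12
import Cfsg.Agent.Lib_helper5_ChevHRE8_13
import Cfsg.Agent.Lib_helper5_ChevHRE8_14
import Cfsg.Agent.Lib_helper5_ChevHRE8_15
import Cfsg.Agent.Lib_helper5_ChevHRE8_16
import Cfsg.Agent.Lib_helper5_ChevHRE8_17
import Cfsg.Agent.Lib_helper5_ChevHRE8_18
import Cfsg.Agent.Lib_helper5_ChevHRE8_19
import Cfsg.Agent.Lib_helper5_ChevHRE8_20
import Cfsg.Agent.Lib_helper5_ChevHRE8_21
import Cfsg.Agent.Lib_helper5_ChevHRE8_22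
import Cfsg.Agent.Lib_helper5_ChevHRE8_23

set_option autoImplicit false

namespace Cfsg.Agent.helper5.Chev

open Cfsg.Lie

theorem hCheckAll_E8 : hCheckAll chevE8 := by
  apply hCheckAll_of_chunks chevE8 1 240 (by decide +kernel) (by decide +kernel)
  intro k hk
  interval_cases k
  · exact hR_E8_0
  · exact hR_E8_1
  · exact hR_E8_2
  · exact hR_E8_3
  · exact hR_E8_4
  · exact hR_E8_5
  · exact hR_E8_6
  · exact hR_E8_7
  · exact hR_E8_8
  · exact hR_E8_9
  · exact hR_E8_10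
  · exact hR_E8_11
  · exact hR_E8_12
  · exact hR_E8_13
  · exact hR_E8_14
  · exact hR_E8_15
  · exact hR_E8_16
  · exact hR_E8_17
  · exact hR_E8_18
  · exact hR_E8_19
  · exact hR_E8_20
  · exact hR_E8_21
  · exact hR_E8_22
  · exact hR_E8_23
  · exact hR_E8_24
  · exact hR_E8_25
  · exact hR_E8_26
  · exact hR_E8_27
  · exact hR_E8_28
  · exact hR_E8_29
  · exact hR_E8_30
  · exact hR_E8_31
  · exact hR_E8_32
  · exact hR_E8_33
  · exact hR_E8_34
  · exact hR_E8_35
  · exact hR_E8_36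
  · exact hR_E8_37
  · exact hR_E8_38
  · exact hR_E8_39
  · exact hR_E8_40
  · exact hR_E8_41
  · exact hR_E8_42
  · exact hR_E8_43
  · exact hR_E8_44
  · exact hR_E8_45
  · exact hR_E8_46
  · exact hR_E8_47
  · exact hR_E8_48
  · exact hR_E8_49
  · exact hR_E8_50
  · exact hR_E8_51
  · exact hR_E8_52
  · exact hR_E8_53
  · exact hR_E8_54
  · exact hR_E8_55
  · exact hR_E8_56
  · exact hR_E8_57
  · exact hR_E8_58
  · exact hR_E8_59
  · exact hR_E8_60
  · exact hR_E8_61
  · exact hR_E8_62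
  · exact hR_E8_63
  · exact hR_E8_64
  · exact hR_E8_65
  · exact hR_E8_66
  · exact hR_E8_67
  · exact hR_E8_68
  · exact hR_E8_69
  · exact hR_E8_70
  · exact hR_E8_71
  · exact hR_E8_72
  · exact hR_E8_73
  · exact hR_E8_74
  · exact hR_E8_75
  · exact hR_E8_76
  · exact hR_E8_77
  · exact hR_E8_78
  · exact hR_E8_79
  · exact hR_E8_80
  · exact hR_E8_81
  · exact hR_E8_82
  · exact hR_E8_83
  · exact hR_E8_84
  · exact hR_E8_85
  · exact hR_E8_86
  · exact hR_E8_87
  · exact hR_E8_88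
  · exact hR_E8_89
  · exact hR_E8_90
  · exact hR_E8_91
  · exact hR_E8_92
  · exact hR_E8_93
  · exact hR_E8_94
  · exact hR_E8_95
  · exact hR_E8_96
  · exact hR_E8_97
  · exact hR_E8_98
  · exact hR_E8_99
  · exact hR_E8_100
  · exact hR_E8_101
  · exact hR_E8_102
  · exact hR_E8_103
  · exact hR_E8_104
  · exact hR_E8_105
  · exact hR_E8_106
  · exact hR_E8_107
  · exact hR_E8_108
  · exact hR_E8_109
  · exact hR_E8_110
  · exact hR_E8_111
  · exact hR_E8_112
  · exact hR_E8_113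
  · exact hR_E8_114
  · exact hR_E8_115
  · exact hR_E8_116
  · exact hR_E8_117
  · exact hR_E8_118
  · exact hR_E8_119
  · exact hR_E8_120
  · exact hR_E8_121
  · exact hR_E8_122
  · exact hR_E8_123
  · exact hR_E8_124
  · exact hR_E8_125
  · exact hR_E8_126
  · exact hR_E8_127
  · exact hR_E8_128
  · exact hR_E8_129
  · exact hR_E8_130
  · exact hR_E8_131
  · exact hR_E8_132
  · exact hR_E8_133
  · exact hR_E8_134
  · exact hR_E8_135
  · exact hR_E8_136
  · exact hR_E8_137
  · exact hR_E8_138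
  · exact hR_E8_139
  · exact hR_E8_140
  · exact hR_E8_141
  · exact hR_E8_142
  · exact hR_E8_143
  · exact hR_E8_144
  · exact hR_E8_145
  · exact hR_E8_146
  · exact hR_E8_147
  · exact hR_E8_148
  · exact hR_E8_149
  · exact hR_E8_150
  · exact hR_E8_151
  · exact hR_E8_152
  · exact hR_E8_153
  · exact hR_E8_154
  · exact hR_E8_155
  · exact hR_E8_156
  · exact hR_E8_157
  · exact hR_E8_158
  · exact hR_E8_159
  · exact hR_E8_160
  · exact hR_E8_161
  · exact hR_E8_162
  · exact hR_E8_163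
  · exact hR_E8_164
  · exact hR_E8_165
  · exact hR_E8_166
  · exact hR_E8_167
  · exact hR_E8_168
  · exact hR_E8_169
  · exact hR_E8_170
  · exact hR_E8_171
  · exact hR_E8_172
  · exact hR_E8_173
  · exact hR_E8_174
  · exact hR_E8_175
  · exact hR_E8_176
  · exact hR_E8_177
  · exact hR_E8_178
  · exact hR_E8_179
  · exact hR_E8_180
  · exact hR_E8_181
  · exact hR_E8_182
  · exact hR_E8_183
  · exact hR_E8_184
  · exact hR_E8_185
  · exact hR_E8_186
  · exact hR_E8_187
  · exact hR_E8_188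
  · exact hR_E8_189
  · exact hR_E8_190
  · exact hR_E8_191
  · exact hR_E8_192
  · exact hR_E8_193
  · exact hR_E8_194
  · exact hR_E8_195
  · exact hR_E8_196
  · exact hR_E8_197
  · exact hR_E8_198
  · exact hR_E8_199
  · exact hR_E8_200
  · exact hR_E8_201
  · exact hR_E8_202
  · exact hR_E8_203
  · exact hR_E8_204
  · exact hR_E8_205
  · exact hR_E8_206
  · exact hR_E8_207
  · exact hR_E8_208
  · exact hR_E8_209
  · exact hR_E8_210
  · exact hR_E8_211
  · exact hR_E8_212
  · exact hR_E8_213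
  · exact hR_E8_214
  · exact hR_E8_215
  · exact hR_E8_216
  · exact hR_E8_217
  · exact hR_E8_218
  · exact hR_E8_219
  · exact hR_E8_220
  · exact hR_E8_221
  · exact hR_E8_222
  · exact hR_E8_223
  · exact hR_E8_224
  · exact hR_E8_225
  · exact hR_E8_226
  · exact hR_E8_227
  · exact hR_E8_228
  · exact hR_E8_229
  · exact hR_E8_230
  · exact hR_E8_231
  · exact hR_E8_232
  · exact hR_E8_233
  · exact hR_E8_234
  · exact hR_E8_235
  · exact hR_E8_236
  · exact hR_E8_237
  · exact hR_E8_238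
  · exact hR_E8_239

end Cfsg.Agent.helper5.Chev
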