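import Mathlib
import Cfsg.Agent.Lib_helper5_ChevHR
import Cfsg.Prelude.Def_ChevG2

set_option autoImplicit false

namespace Cfsg.Agent.helper5.Chev

open Cfsg.Lie

set_option maxRecDepth 1000000 in
set_option maxHeartbeats 0 in
theorem hRC_G2_0_0 : hCheckRCols chevG2 0 0 7 = true := by decide +kernel

set_option maxRecDepth 1000000 in
set_option maxHeartbeats 0 in
theorem hRC_G2_0_1 : hCheckRCols chevG2 0 7 7 = true := by decide +kernel

theorem hR_G2_0 : hCheckRange chevG2 0 1 = true := by
  apply hCheckRange_one
  apply hCheckR_of_cols chevG2 0 7 2 (by decide +kernel) (by decide +kernel) (by decide +kernel)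
  intro k hk
  interval_cases k
  · exact hRC_G2_0_0
  · exact hRC_G2_0_1

set_option maxRecDepth 1000000 in
set_option maxHeartbeats 0 in
theorem hRC_G2_1_0 : hCheckRCols chevG2 1 0 7 = true := by decide +kernel

set_option maxRecDepth 1000000 in
set_option maxHeartbeats 0 in
theorem hRC_G2_1_1 : hCheckRCols chevG2 1 7 7 = true := by decide +kernel

theorem hR_G2_1 : hCheckRange chevG2 1 1 = true := by
  apply hCheckRange_one
  apply hCheckR_of_cols chevG2 1 7 2 (by decide +kernel) (by decide +kernel) (by decide +kernel)
  intro k hk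
  interval_cases k
  · exact hRC_G2_1_0
  · exact hRC_G2_1_1

set_option maxRecDepth 1000000 in
set_option maxHeartbeats 0 in
theorem hRC_G2_2_0 : hCheckRCols chevG2 2 0 7 = true := by decide +kernel

set_option maxRecDepth 1000000 in
set_option maxHeartbeats 0 in
theorem hRC_G2_2_1 : hCheckRCols chevG2 2 7 7 = true := by decide +kernel

theorem hR_G2_2 : hCheckRange chevG2 2 1 = true := by
  apply hCheckRange_one
  apply hCheckR_of_cols chevG2 2 7 2 (by decide +kernel) (by decide +kernel) (by decide +kernel)
  intro k hk
  interval_cases k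
  · exact hRC_G2_2_0
  · exact hRC_G2_2_1

set_option maxRecDepth 1000000 in
set_option maxHeartbeats 0 in
theorem hRC_G2_3_0 : hCheckRCols chevG2 3 0 7 = true := by decide +kernel

set_option maxRecDepth 1000000 in
set_option maxHeartbeats 0 in
theorem hRC_G2_3_1 : hCheckRCols chevG2 3 7 7 = true := by decide +kernel

theorem hR_G2_3 : hCheckRange chevG2 3 1 = true := by
  apply hCheckRange_one
  apply hCheckR_of_cols chevG2 3 7 2 (by decide +kernel) (by decide +kernel) (by decide +kernel)
  intro k hk
  interval_cases k
  · exact hRC_G2_3_0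
  · exact hRC_G2_3_1

set_option maxRecDepth 1000000 in
set_option maxHeartbeats 0 in
theorem hRC_G2_4_0 : hCheckRCols chevG2 4 0 7 = true := by decide +kernel

set_option maxRecDepth 1000000 in
set_option maxHeartbeats 0 in
theorem hRC_G2_4_1 : hCheckRCols chevG2 4 7 7 = true := by decide +kernel

theorem hR_G2_4 : hCheckRange chevG2 4 1 = true := by
  apply hCheckRange_one
  apply hCheckR_of_cols chevG2 4 7 2 (by decide +kernel) (by decide +kernel) (by decide +kernel)
  intro k hk
  interval_cases k
  · exact hRC_G2_4_0
  · exact hRC_G2_4_1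

set_option maxRecDepth 1000000 in
set_option maxHeartbeats 0 in
theorem hRC_G2_5_0 : hCheckRCols chevG2 5 0 7 = true := by decide +kernel

set_option maxRecDepth 1000000 in
set_option maxHeartbeats 0 in
theorem hRC_G2_5_1 : hCheckRCols chevG2 5 7 7 = true := by decide +kernel

theorem hR_G2_5 : hCheckRange chevG2 5 1 = true := by
  apply hCheckRange_one
  apply hCheckR_of_cols chevG2 5 7 2 (by decide +kernel) (by decide +kernel) (by decide +kernel)
  intro k hk
  interval_cases k
  · exact hRC_G2_5_0
  · exact hRC_G2_5_1

set_option maxRecDepth 1000000 in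
set_option maxHeartbeats 0 in
theorem hRC_G2_6_0 : hCheckRCols chevG2 6 0 7 = true := by decide +kernel

set_option maxRecDepth 1000000 in
set_option maxHeartbeats 0 in
theorem hRC_G2_6_1 : hCheckRCols chevG2 6 7 7 = true := by decide +kernel

theorem hR_G2_6 : hCheckRange chevG2 6 1 = true := by
  apply hCheckRange_one
  apply hCheckR_of_cols chevG2 6 7 2 (by decide +kernel) (by decide +kernel) (by decide +kernel)
  intro k hk
  interval_cases k
  · exact hRC_G2_6_0
  · exact hRC_G2_6_1

set_option maxRecDepth 1000000 in
set_option maxHeartbeats 0 in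
theorem hRC_G2_7_0 : hCheckRCols chevG2 7 0 7 = true := by decide +kernel

set_option maxRecDepth 1000000 in
set_option maxHeartbeats 0 in
theorem hRC_G2_7_1 : hCheckRCols chevG2 7 7 7 = true := by decide +kernel

theorem hR_G2_7 : hCheckRange chevG2 7 1 = true := by
  apply hCheckRange_one
  apply hCheckR_of_cols chevG2 7 7 2 (by decide +kernel) (by decide +kernel) (by decide +kernel)
  intro k hk
  interval_cases k
  · exact hRC_G2_7_0
  · exact hRC_G2_7_1

set_option maxRecDepth 1000000 in
set_option maxHeartbeats 0 in
theorem hRC_G2_8_0 : hCheckRCols chevG2 8 0 7 = true := by decide +kernel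

set_option maxRecDepth 1000000 in
set_option maxHeartbeats 0 in
theorem hRC_G2_8_1 : hCheckRCols chevG2 8 7 7 = true := by decide +kernel

theorem hR_G2_8 : hCheckRange chevG2 8 1 = true := by
  apply hCheckRange_one
  apply hCheckR_of_cols chevG2 8 7 2 (by decide +kernel) (by decide +kernel) (by decide +kernel)
  intro k hk
  interval_cases k
  · exact hRC_G2_8_0
  · exact hRC_G2_8_1

set_option maxRecDepth 1000000 in
set_option maxHeartbeats 0 in
theorem hRC_G2_9_0 : hCheckRCols chevG2 9 0 7 = true := by decide +kernel

set_option maxRecDepth 1000000 in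
set_option maxHeartbeats 0 in
theorem hRC_G2_9_1 : hCheckRCols chevG2 9 7 7 = true := by decide +kernel

theorem hR_G2_9 : hCheckRange chevG2 9 1 = true := by
  apply hCheckRange_one
  apply hCheckR_of_cols chevG2 9 7 2 (by decide +kernel) (by decide +kernel) (by decide +kernel)
  intro k hk
  interval_cases k
  · exact hRC_G2_9_0
  · exact hRC_G2_9_1

set_option maxRecDepth 1000000 in
set_option maxHeartbeats 0 in
theorem hRC_G2_10_0 : hCheckRCols chevG2 10 0 7 = true := by decide +kernel

set_option maxRecDepth 1000000 in
set_option maxHeartbeats 0 in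
theorem hRC_G2_10_1 : hCheckRCols chevG2 10 7 7 = true := by decide +kernel

theorem hR_G2_10 : hCheckRange chevG2 10 1 = true := by
  apply hCheckRange_one
  apply hCheckR_of_cols chevG2 10 7 2 (by decide +kernel) (by decide +kernel) (by decide +kernel)
  intro k hk
  interval_cases k
  · exact hRC_G2_10_0
  · exact hRC_G2_10_1

set_option maxRecDepth 1000000 in
set_option maxHeartbeats 0 in
theorem hRC_G2_11_0 : hCheckRCols chevG2 11 0 7 = true := by decide +kernel

set_option maxRecDepth 1000000 in
set_option maxHeartbeats 0 in
theorem hRC_G2_11_1 : hCheckRCols chevG2 11 7 7 = true := by decide +kernel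

theorem hR_G2_11 : hCheckRange chevG2 11 1 = true := by
  apply hCheckRange_one
  apply hCheckR_of_cols chevG2 11 7 2 (by decide +kernel) (by decide +kernel) (by decide +kernel)
  intro k hk
  interval_cases k
  · exact hRC_G2_11_0
  · exact hRC_G2_11_1

end Cfsg.Agent.helper5.Chev
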