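import Mathlib
import Cfsg.Agent.Lib_helper5_ChevHR
import Cfsg.Agent.Lib_helper5_ChevHRG2_00

set_option autoImplicit false

namespace Cfsg.Agent.helper5.Chev

open Cfsg.Lie

theorem hCheckAll_G2 : hCheckAll chevG2 := by
  apply hCheckAll_of_chunks chevG2 1 12 (by decide +kernel) (by decide +kernel)
  intro k hk
  interval_cases k
  · exact hR_G2_0
  · exact hR_G2_1
  · exact hR_G2_2
  · exact hR_G2_3
  · exact hR_G2_4
  · exact hR_G2_5
  · exact hR_G2_6
  · exact hR_G2_7
  · exact hR_G2_8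
  · exact hR_G2_9
  · exact hR_G2_10
  · exact hR_G2_11

end Cfsg.Agent.helper5.Chev
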