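import Mathlib
import Cfsg.Statements.S1034
import Cfsg.Agent.S1033
import Cfsg.Agent.Lib_helper5_ChevTorus
import Cfsg.Agent.Lib_helper5_ChevHRG2
import Cfsg.Agent.Lib_helper5_ChevHRB2
import Cfsg.Agent.Lib_helper5_ChevHRD4
import Cfsg.Agent.Lib_helper5_ChevHRF4
import Cfsg.Agent.Lib_helper5_ChevHRE6
import Cfsg.Agent.Lib_helper5_ChevHRE7
import Cfsg.Agent.Lib_helper5_ChevHRE8

set_option autoImplicit false
open Cfsg

namespace Cfsg.Agent.S1034

open Cfsg.Lie Cfsg.Agent.helper5.Chev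

theorem hCheckAll_of_mem (D : ChevalleyDatum)
    (hD : D ∈ [chevG2, chevB2, chevD4, chevF4, chevE6, chevE7, chevE8]) : hCheckAll D := by
  simp only [List.mem_cons, List.not_mem_nil, or_false] at hD
  rcases hD with rfl | rfl | rfl | rfl | rfl | rfl | rfl
  · exact hCheckAll_G2
  · exact hCheckAll_B2
  · exact hCheckAll_D4
  · exact hCheckAll_F4
  · exact hCheckAll_E6
  · exact hCheckAll_E7
  · exact hCheckAll_E8

/-- every element of `H` is a torus element `∏ h_{p_i}(c_i)` -/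
theorem mem_torus {F : Type*} [Field F] (D : ChevalleyDatum)
    (hD : D ∈ [chevG2, chevB2, chevD4, chevF4, chevE6, chevE7, chevE8]) (g : GL D.Idx F)
    (hg : g ∈ D.diagonalSubgroup F) :
    ∃ c : ℕ → F, (∀ i, c i ≠ 0) ∧ (g : Matrix D.Idx D.Idx F) = torusMat D c := by
  have hall := hCheckAll_of_mem D hD
  unfold ChevalleyDatum.diagonalSubgroup at hg
  induction hg using Subgroup.closure_induction with
  | mem x hx =>
    obtain ⟨r, t, hr, ht, hx⟩ := hx
    refine ⟨fun i => t ^ ((D.coroot.getD r #[]).getD i 0), fun i => zpow_ne_zero _ ht, ?_⟩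
    rw [hx]
    exact hMat_eq_torusMat D r hr (hall r hr) t ht
  | one =>
    refine ⟨fun _ => 1, fun _ => one_ne_zero, ?_⟩
    rw [torusMat_one, Units.val_one]
  | mul x y _ _ hx hy =>
    obtain ⟨c, hc, hxc⟩ := hx
    obtain ⟨c', hc', hyc⟩ := hy
    refine ⟨fun i => c i * c' i, fun i => mul_ne_zero (hc i) (hc' i), ?_⟩
    rw [Units.val_mul, hxc, hyc, torusMat_mul]
  | inv x _ hx =>
    obtain ⟨c, hc, hxc⟩ := hx
    refine ⟨fun i => (c i)⁻¹, fun i => inv_ne_zero (hc i), ?_⟩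
    have h1 : (x : Matrix D.Idx D.Idx F) * torusMat D (fun i => (c i)⁻¹) = 1 := by
      rw [hxc, torusMat_mul]
      have : (fun i => c i * (c i)⁻¹) = fun _ => (1 : F) := by
        funext i
        exact mul_inv_cancel₀ (hc i)
      rw [this, torusMat_one]
    exact Units.inv_eq_of_mul_eq_one_right h1

/-- Every element of `H` is a product `h_{p_1}(c_1) ⋯ h_{p_l}(c_l)` over the fundamental roots, with non-zero `c_i`. -/
theorem result {F : Type*} [Field F] (D : Cfsg.Lie.ChevalleyDatum) (hD : D ∈ [Cfsg.Lie.chevG2, Cfsg.Lie.chevB2, Cfsg.Lie.chevD4, Cfsg.Lie.chevF4, Cfsg.Lie.chevE6, Cfsg.Lie.chevE7, Cfsg.Lie.chevE8]) (g : GL D.Idx F) (hg : g ∈ D.diagonalSubgroup F) :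
    ∃ c : ℕ → F, (∀ i < D.rank, c i ≠ 0) ∧
      (g : Matrix D.Idx D.Idx F) = D.wordMat F ((List.range D.rank).flatMap fun i => D.hWord (D.simple i) (c i)) := by
  obtain ⟨c, hc, hgc⟩ := mem_torus D hD g hg
  refine ⟨c, fun i _ => hc i, ?_⟩
  rw [hgc]
  exact (wordMat_torus D (fun i hi c hc => Cfsg.Agent.S1033.result D hD i hi c hc) c
    (fun i _ => hc i)).symm

end Cfsg.Agent.S1034
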