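import Mathlib
import Cfsg.Statements.S1036
import Cfsg.Agent.S1029
import Cfsg.Agent.S1032
import Cfsg.Agent.S1034
import Cfsg.Agent.Lib_helper5_ChevTorusConj

set_option autoImplicit false
open Cfsg

namespace Cfsg.Agent.S1036

open Cfsg.Lie Cfsg.Agent.helper5.Chev

section
variable {F : Type*} [Field F]

/-- conjugation by a torus element maps `U` into itself -/
theorem conj_mem (D : ChevalleyDatum) (hcart : ∀ i < D.rank, cartanCheckI D i)
    (h : GL D.Idx F) (c : ℕ → F) (hc : ∀ i, c i ≠ 0)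
    (hh : (h : Matrix D.Idx D.Idx F) = torusMat D c) (u : GL D.Idx F)
    (hu : u ∈ D.posUnipotent F) : h * u * h⁻¹ ∈ D.posUnipotent F := by
  unfold ChevalleyDatum.posUnipotent at hu ⊢
  induction hu using Subgroup.closure_induction with
  | mem x hx =>
    obtain ⟨r, t, hr, hx⟩ := hx
    apply Subgroup.subset_closure
    refine ⟨r, torusChar D c r * t, hr, ?_⟩
    have hr' : r < D.nroots := hr.1
    have h1 : (h : Matrix D.Idx D.Idx F) * (x : Matrix D.Idx D.Idx F) =
        D.x F r (torusChar D c r * t) * (h : Matrix D.Idx D.Idx F) := by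
      rw [hx, hh, x_eq_xMat D r hr', x_eq_xMat D r hr']
      exact torusMat_mul_xMat D hcart c (fun i _ => hc i) ⟨r, hr'⟩ t
    rw [Units.val_mul, Units.val_mul, h1, mul_assoc, ← Units.val_mul, mul_inv_cancel,
      Units.val_one, mul_one]
  | one =>
    rw [mul_one, mul_inv_cancel]
    exact Subgroup.one_mem _
  | mul a b _ _ ha hb =>
    have : h * (a * b) * h⁻¹ = (h * a * h⁻¹) * (h * b * h⁻¹) := by group
    rw [this]
    exact Subgroup.mul_mem _ ha hb
  | inv a _ ha =>
    have : h * a⁻¹ * h⁻¹ = (h * a * h⁻¹)⁻¹ := by group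
    rw [this]
    exact Subgroup.inv_mem _ ha

end

/-- `H` normalises `U` and `U ∩ H = 1`; thus `B = UH` is the semidirect product of `U` by `H`. -/
theorem result {F : Type*} [Field F] (D : Cfsg.Lie.ChevalleyDatum) (hD : D ∈ [Cfsg.Lie.chevG2, Cfsg.Lie.chevB2, Cfsg.Lie.chevD4, Cfsg.Lie.chevF4, Cfsg.Lie.chevE6, Cfsg.Lie.chevE7, Cfsg.Lie.chevE8]) :
    D.diagonalSubgroup F ≤ Subgroup.normalizer (D.posUnipotent F : Set (GL D.Idx F)) ∧
      D.posUnipotent F ⊓ D.diagonalSubgroup F = ⊥ := by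
  have hcart := Cfsg.Agent.S1032.cartanCheck_of_mem D hD
  constructor
  · intro h hh
    obtain ⟨c, hc, hhc⟩ := Cfsg.Agent.S1034.mem_torus D hD h hh
    obtain ⟨c', hc', hhc'⟩ := Cfsg.Agent.S1034.mem_torus D hD h⁻¹
      (Subgroup.inv_mem _ hh)
    rw [Subgroup.mem_normalizer_iff]
    intro u
    constructor
    · intro hu
      exact conj_mem D hcart h c hc hhc u hu
    · intro hu
      have := conj_mem D hcart h⁻¹ c' hc' hhc' _ hu
      rw [inv_inv] at this
      have h2 : h⁻¹ * (h * u * h⁻¹) * h = u := by group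
      rwa [h2] at this
  · rw [eq_bot_iff]
    intro g hg
    rw [Subgroup.mem_inf] at hg
    obtain ⟨hgU, hgH⟩ := hg
    have hUL := Cfsg.Agent.S1029.UL_of_mem D (Cfsg.Agent.S1028.triCheck_all D hD) g hgU
    obtain ⟨c, hc, hgc⟩ := Cfsg.Agent.S1034.mem_torus D hD g hgH
    rw [Subgroup.mem_bot]
    apply Units.ext
    rw [Units.val_one]
    ext row col
    by_cases hrc : row = col
    · subst hrc
      rw [hUL row row le_rfl, if_pos rfl, Matrix.one_apply_eq]
    · rw [hgc, Matrix.one_apply_ne hrc]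
      unfold torusMat
      rw [Matrix.diagonal_apply_ne _ hrc]

end Cfsg.Agent.S1036
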