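import Mathlib
import Cfsg.Agent.Lib_helper5_ChevBN2
import Cfsg.Agent.Lib_helper5_ChevComm
import Cfsg.Agent.Lib_helper5_ChevPosChk
import Cfsg.Agent.S1036

set_option autoImplicit false

/-! Structure of `B = UH` and `N` in Chevalley groups (helper5). -/

namespace Cfsg.Agent.helper5.Chev

open Cfsg.Lie

theorem conj_closure_mem {G : Type*} [Group G] (S : Set G) (a : G)
    (h : ∀ g ∈ S, a * g * a⁻¹ ∈ Subgroup.closure S) :
    ∀ g ∈ Subgroup.closure S, a * g * a⁻¹ ∈ Subgroup.closure S := by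
  intro g hg
  induction hg using Subgroup.closure_induction with
  | mem x hx => exact h x hx
  | one =>
    rw [mul_one, mul_inv_cancel]
    exact Subgroup.one_mem _
  | mul x y _ _ hx hy =>
    have : a * (x * y) * a⁻¹ = (a * x * a⁻¹) * (a * y * a⁻¹) := by group
    rw [this]
    exact Subgroup.mul_mem _ hx hy
  | inv x _ hx =>
    have : a * x⁻¹ * a⁻¹ = (a * x * a⁻¹)⁻¹ := by group
    rw [this]
    exact Subgroup.inv_mem _ hx

theorem mem_normalizer_closure {G : Type*} [Group G] (S : Set G) (a : G)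
    (h1 : ∀ g ∈ S, a * g * a⁻¹ ∈ Subgroup.closure S)
    (h2 : ∀ g ∈ S, a⁻¹ * g * a ∈ Subgroup.closure S) :
    a ∈ Subgroup.normalizer (Subgroup.closure S : Set G) := by
  rw [Subgroup.mem_normalizer_iff]
  intro g
  constructor
  · exact conj_closure_mem S a h1 g
  · intro hg
    have h3 : ∀ g ∈ S, a⁻¹ * g * a⁻¹⁻¹ ∈ Subgroup.closure S := by
      intro g hg
      rw [inv_inv]
      exact h2 g hg
    have := conj_closure_mem S a⁻¹ h3 _ hg
    rw [inv_inv] at this
    have e : a⁻¹ * (a * g * a⁻¹) * a = g := by group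
    rwa [e] at this

section
variable {F : Type*} [Field F] (D : ChevalleyDatum)
  (hD : D ∈ [chevG2, chevB2, chevD4, chevF4, chevE6, chevE7, chevE8])

theorem torusChar_ne_zero (c : ℕ → F) (hc : ∀ i, c i ≠ 0) (s : ℕ) : torusChar D c s ≠ 0 := by
  unfold torusChar
  apply List.prod_ne_zero
  intro h0
  rw [List.mem_map] at h0
  obtain ⟨i, _, hi⟩ := h0
  exact zpow_ne_zero _ (hc i) hi

/-- conjugation of a root element by an element of `H` -/
theorem H_conj (h : GL D.Idx F) (hh : h ∈ D.diagonalSubgroup F) (r : ℕ) (hr : r < D.nroots) :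
    ∃ χ : F, χ ≠ 0 ∧ ∀ t : F, h * xG D hD r t * h⁻¹ = xG D hD r (χ * t) := by
  obtain ⟨c, hc, hhc⟩ := Cfsg.Agent.S1034.mem_torus D hD h hh
  refine ⟨torusChar D c r, torusChar_ne_zero D c hc r, fun t => ?_⟩
  rw [mul_inv_eq_iff_eq_mul]
  apply Units.ext
  rw [Units.val_mul, Units.val_mul, xG_val, xG_val, hhc, x_eq_xMat D r hr, x_eq_xMat D r hr]
  exact torusMat_mul_xMat D (Cfsg.Agent.S1032.cartanCheck_of_mem D hD) c (fun i _ => hc i) ⟨r, hr⟩ t

include hD in
theorem U_le_B : D.posUnipotent F ≤ D.borelSubgroup F := by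
  unfold ChevalleyDatum.borelSubgroup
  exact le_sup_left

include hD in
theorem H_le_B : D.diagonalSubgroup F ≤ D.borelSubgroup F := by
  unfold ChevalleyDatum.borelSubgroup
  exact le_sup_right

include hD in
/-- `B = U H` elementwise -/
theorem mem_borel (b : GL D.Idx F) (hb : b ∈ D.borelSubgroup F) :
    ∃ u ∈ D.posUnipotent F, ∃ h ∈ D.diagonalSubgroup F, b = u * h := by
  have hnorm := (Cfsg.Agent.S1036.result (F := F) D hD).1
  let S : Subgroup (GL D.Idx F) :=
    { carrier := {b | ∃ u ∈ D.posUnipotent F, ∃ h ∈ D.diagonalSubgroup F, b = u * h}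
      mul_mem' := by
        rintro _ _ ⟨u1, hu1, h1, hh1, rfl⟩ ⟨u2, hu2, h2, hh2, rfl⟩
        refine ⟨u1 * (h1 * u2 * h1⁻¹), Subgroup.mul_mem _ hu1 ?_, h1 * h2,
          Subgroup.mul_mem _ hh1 hh2, by group⟩
        exact (Subgroup.mem_normalizer_iff.mp (hnorm hh1) u2).mp hu2
      one_mem' := ⟨1, Subgroup.one_mem _, 1, Subgroup.one_mem _, by group⟩
      inv_mem' := by
        rintro _ ⟨u, hu, h, hh, rfl⟩
        refine ⟨h⁻¹ * u⁻¹ * h⁻¹⁻¹, ?_, h⁻¹, Subgroup.inv_mem _ hh, by group⟩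
        exact (Subgroup.mem_normalizer_iff.mp (hnorm (Subgroup.inv_mem _ hh)) u⁻¹).mp
          (Subgroup.inv_mem _ hu) }
  have hle : D.borelSubgroup F ≤ S := by
    unfold ChevalleyDatum.borelSubgroup
    apply sup_le
    · intro u hu
      exact ⟨u, hu, 1, Subgroup.one_mem _, by group⟩
    · intro h hh
      exact ⟨1, Subgroup.one_mem _, h, hh, by group⟩
  exact hle hb

/-- the subgroup `U_p` generated by the positive root subgroups other than `X_p` -/
def Ui (i : ℕ) : Subgroup (GL D.Idx F) :=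
  Subgroup.closure {g : GL D.Idx F | ∃ (s : ℕ) (t : F), D.IsPosRoot s ∧ s ≠ D.simple i ∧
    (g : Matrix D.Idx D.Idx F) = D.x F s t}

theorem Ui_le_U (i : ℕ) : Ui (F := F) D i ≤ D.posUnipotent F := by
  unfold Ui ChevalleyDatum.posUnipotent
  apply Subgroup.closure_mono
  rintro g ⟨s, t, hs, _, hg⟩
  exact ⟨s, t, hs, hg⟩

theorem xG_mem_Ui (i s : ℕ) (hs : D.IsPosRoot s) (hne : s ≠ D.simple i) (t : F) :
    xG D hD s t ∈ Ui (F := F) D i := by
  unfold Ui
  apply Subgroup.subset_closure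
  exact ⟨s, t, hs, hne, rfl⟩

/-- the commutator word lies in `U_p` when all its roots do -/
theorem cwG_mem_Ui (i r s : ℕ) (t u : F)
    (h : ∀ c ∈ D.commTerms r s, D.IsPosRoot c.1 ∧ c.1 ≠ D.simple i) :
    cwG D hD r s t u ∈ Ui (F := F) D i := by
  unfold cwG
  apply Subgroup.list_prod_mem
  intro g hg
  rw [List.mem_map] at hg
  obtain ⟨c, hc, rfl⟩ := hg
  exact xG_mem_Ui D hD i c.1 (h c hc).1 (h c hc).2 _

/-- conjugating a generator of `U_p` by `x_r(t)`, when the commutator stays in `U_p` -/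
theorem xG_conj_mem_Ui (i r s : ℕ) (hs : D.IsPosRoot s) (hne : s ≠ D.simple i)
    (hcomm : CommF D hD r s (F := F))
    (h : ∀ c ∈ D.commTerms r s, D.IsPosRoot c.1 ∧ c.1 ≠ D.simple i) (t u : F) :
    xG D hD r t * xG D hD s u * (xG D hD r t)⁻¹ ∈ Ui (F := F) D i := by
  have h1 := hcomm (-t) u
  have e : xG D hD r t * xG D hD s u * (xG D hD r t)⁻¹ =
      xG D hD s u * cwG D hD r s (-t) u := by
    rw [xG_inv, mul_assoc, h1, ← mul_assoc, ← mul_assoc, xG_mul, add_neg_cancel, xG_zero, one_mul]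
  rw [e]
  exact Subgroup.mul_mem _ (xG_mem_Ui D hD i s hs hne u) (cwG_mem_Ui D hD i r s (-t) u h)

/-- `x_p(t)` normalises `U_p` -/
theorem xG_simple_mem_normalizer (hC : CommOK D) (hP : PosCommOK D) (i : ℕ) (hi : i < D.rank)
    (t : F) : xG D hD (D.simple i) t ∈ Subgroup.normalizer (Ui (F := F) D i : Set (GL D.Idx F)) := by
  have hR := rootsOK_of_mem D hD
  have key : ∀ t : F, ∀ g ∈ {g : GL D.Idx F | ∃ (s : ℕ) (t : F), D.IsPosRoot s ∧ s ≠ D.simple i ∧
      (g : Matrix D.Idx D.Idx F) = D.x F s t},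
      xG D hD (D.simple i) t * g * (xG D hD (D.simple i) t)⁻¹ ∈ Ui (F := F) D i := by
    rintro t g ⟨s, u, hs, hne, hg⟩
    rw [eq_xG D hD g s u hg]
    have hsn : s ≠ D.neg (D.simple i) := by
      intro h'
      rw [h'] at hs
      exact hR.not_pos_and_neg _ hs (hR.neg_pos _ (hR.simple_pos i hi))
    exact xG_conj_mem_Ui D hD i (D.simple i) s hs hne
      (commF_of_ok D hD hC _ (hR.simple_lt i hi) s hs.1 hne hsn)
      (hP i hi s hs.1 hs hne).1 t u
  unfold Ui
  apply mem_normalizer_closure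
  · exact key t
  · intro g hg
    have := key (-t) g hg
    rwa [← xG_inv, inv_inv] at this

/-- `x_{-p}(t)` normalises `U_p` -/
theorem xG_negsimple_mem_normalizer (hC : CommOK D) (hP : PosCommOK D) (i : ℕ) (hi : i < D.rank)
    (t : F) :
    xG D hD (D.neg (D.simple i)) t ∈ Subgroup.normalizer (Ui (F := F) D i : Set (GL D.Idx F)) := by
  have hR := rootsOK_of_mem D hD
  have hsl := hR.simple_lt i hi
  have key : ∀ t : F, ∀ g ∈ {g : GL D.Idx F | ∃ (s : ℕ) (t : F), D.IsPosRoot s ∧ s ≠ D.simple i ∧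
      (g : Matrix D.Idx D.Idx F) = D.x F s t},
      xG D hD (D.neg (D.simple i)) t * g * (xG D hD (D.neg (D.simple i)) t)⁻¹ ∈
        Ui (F := F) D i := by
    rintro t g ⟨s, u, hs, hne, hg⟩
    rw [eq_xG D hD g s u hg]
    have hsn : s ≠ D.neg (D.simple i) := by
      intro h'
      rw [h'] at hs
      exact hR.not_pos_and_neg _ hs (hR.neg_pos _ (hR.simple_pos i hi))
    have hsn2 : s ≠ D.neg (D.neg (D.simple i)) := by
      rw [hR.neg_neg _ hsl]
      exact hne
    exact xG_conj_mem_Ui D hD i (D.neg (D.simple i)) s hs hne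
      (commF_of_ok D hD hC _ (hR.neg_lt _ hsl) s hs.1 hsn hsn2)
      (hP i hi s hs.1 hs hne).2 t u
  unfold Ui
  apply mem_normalizer_closure
  · exact key t
  · intro g hg
    have := key (-t) g hg
    rwa [← xG_inv, inv_inv] at this

/-- `n_p⁻¹ x_s(t) n_p` -/
theorem nG_conj_inv (i : ℕ) (hi : i < D.rank) (s : ℕ) (hs : s < D.nroots) (t : F) :
    (nGt D hD (D.simple i) 1)⁻¹ * xG D hD s t * nGt D hD (D.simple i) 1 =
      xG D hD (D.reflectRoot i s) (((etaOf D i (D.reflectRoot i s) : ℤ) : F) * t) := by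
  have hR := rootsOK_of_mem D hD
  have hs' := hR.refl_lt i hi s hs
  have h1 := nG_conj D hD i hi _ hs' (((etaOf D i (D.reflectRoot i s) : ℤ) : F) * t)
  rw [hR.refl_refl i hi s hs, ← mul_assoc, eta_cast_sq D hD i _ hi hs', one_mul] at h1
  rw [← h1]
  group

/-- `n_p` normalises `U_p` -/
theorem nG_mem_normalizer_Ui (i : ℕ) (hi : i < D.rank) :
    nGt D hD (D.simple i) (1 : F) ∈ Subgroup.normalizer (Ui (F := F) D i : Set (GL D.Idx F)) := by
  have hR := rootsOK_of_mem D hD
  have hpos : ∀ s, D.IsPosRoot s → s ≠ D.simple i →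
      D.IsPosRoot (D.reflectRoot i s) ∧ D.reflectRoot i s ≠ D.simple i := by
    intro s hs hne
    refine ⟨hR.refl_pos i hi s hs.1 hs hne, ?_⟩
    intro h'
    have h2 := hR.refl_refl i hi s hs.1
    rw [h', hR.refl_simple i hi] at h2
    rw [← h2] at hs
    exact hR.not_pos_and_neg _ hs (hR.neg_pos _ (hR.simple_pos i hi))
  unfold Ui
  apply mem_normalizer_closure
  · rintro g ⟨s, u, hs, hne, hg⟩
    rw [eq_xG D hD g s u hg, nG_conj D hD i hi s hs.1]
    exact xG_mem_Ui D hD i _ (hpos s hs hne).1 (hpos s hs hne).2 _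
  · rintro g ⟨s, u, hs, hne, hg⟩
    rw [eq_xG D hD g s u hg, nG_conj_inv D hD i hi s hs.1]
    exact xG_mem_Ui D hD i _ (hpos s hs hne).1 (hpos s hs hne).2 _

/-- `U = U_p X_p` elementwise -/
theorem mem_U_decomp (hC : CommOK D) (hP : PosCommOK D) (i : ℕ) (hi : i < D.rank)
    (u : GL D.Idx F) (hu : u ∈ D.posUnipotent F) :
    ∃ u' ∈ Ui (F := F) D i, ∃ t : F, u = u' * xG D hD (D.simple i) t := by
  have hnorm := xG_simple_mem_normalizer (F := F) D hD hC hP i hi
  let S : Subgroup (GL D.Idx F) :=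
    { carrier := {u | ∃ u' ∈ Ui (F := F) D i, ∃ t : F, u = u' * xG D hD (D.simple i) t}
      mul_mem' := by
        rintro _ _ ⟨u1, hu1, t1, rfl⟩ ⟨u2, hu2, t2, rfl⟩
        refine ⟨u1 * (xG D hD (D.simple i) t1 * u2 * (xG D hD (D.simple i) t1)⁻¹),
          Subgroup.mul_mem _ hu1 ?_, t1 + t2, ?_⟩
        · exact (Subgroup.mem_normalizer_iff.mp (hnorm t1) u2).mp hu2
        · rw [← xG_mul]
          group
      one_mem' := ⟨1, Subgroup.one_mem _, 0, by rw [xG_zero, one_mul]⟩
      inv_mem' := by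
        rintro _ ⟨u1, hu1, t1, rfl⟩
        refine ⟨xG D hD (D.simple i) (-t1) * u1⁻¹ * (xG D hD (D.simple i) (-t1))⁻¹, ?_, -t1, ?_⟩
        · exact (Subgroup.mem_normalizer_iff.mp (hnorm (-t1)) u1⁻¹).mp (Subgroup.inv_mem _ hu1)
        · rw [mul_inv_rev, xG_inv]
          group }
  have hle : D.posUnipotent F ≤ S := by
    unfold ChevalleyDatum.posUnipotent
    rw [Subgroup.closure_le]
    rintro g ⟨s, t, hs, hg⟩
    rw [eq_xG D hD g s t hg]
    by_cases hne : s = D.simple i
    · exact ⟨1, Subgroup.one_mem _, t, by rw [hne, one_mul]⟩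
    · exact ⟨xG D hD s t, xG_mem_Ui D hD i s hs hne t, 0, by rw [xG_zero, mul_one]⟩
  exact hle hu

/-- the rank one identity `x_{-r}(t) = x_r(t⁻¹) h_r(-t⁻¹) n_r x_r(t⁻¹)` -/
theorem xG_neg_eq (r : ℕ) (t : F) (ht : t ≠ 0) :
    xG D hD (D.neg r) t =
      xG D hD r t⁻¹ * hGt D hD r (-t⁻¹) * nGt D hD r 1 * xG D hD r t⁻¹ := by
  have e1 : hGt D hD r (-t⁻¹) * nGt D hD r 1 = nGt D hD r (-t⁻¹) := by
    unfold hGt
    rw [nGt_neg_one]
    group
  rw [mul_assoc (xG D hD r t⁻¹), e1]
  unfold nGt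
  have e2 : -(-t⁻¹)⁻¹ = t := by
    rw [inv_neg, inv_inv, neg_neg]
  rw [e2]
  have e3 : xG D hD r t⁻¹ * (xG D hD r (-t⁻¹) * xG D hD (D.neg r) t * xG D hD r (-t⁻¹)) *
      xG D hD r t⁻¹ = (xG D hD r t⁻¹ * xG D hD r (-t⁻¹)) * xG D hD (D.neg r) t *
        (xG D hD r (-t⁻¹) * xG D hD r t⁻¹) := by group
  rw [e3, xG_mul, xG_mul, add_neg_cancel, neg_add_cancel, xG_zero, one_mul, mul_one]

theorem nW_append (w₁ w₂ : List ℕ) : nW D hD (w₁ ++ w₂) = nW D hD w₁ * nW (F := F) D hD w₂ := by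
  unfold nW
  rw [List.map_append, List.prod_append]

/-- `N = H · {n_w}` elementwise -/
theorem mem_N_decomp (n : GL D.Idx F) (hn : n ∈ D.monomialSubgroup F) :
    ∃ h ∈ D.diagonalSubgroup F, ∃ w : List ℕ, (∀ i ∈ w, i < D.rank) ∧ n = h * nW D hD w := by
  have hR := rootsOK_of_mem D hD
  have hNH := N_le_normalizer_H (F := F) D hD
  -- the inverse of `n_p` is of this form
  have hinv1 : ∀ i < D.rank, ∃ h ∈ D.diagonalSubgroup F,
      (nGt D hD (D.simple i) (1 : F))⁻¹ = h * nW D hD [i] := by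
    intro i hi
    refine ⟨(nGt D hD (D.simple i) 1 * nGt D hD (D.simple i) 1)⁻¹,
      Subgroup.inv_mem _ (nGt_sq_mem D hD _ (hR.simple_lt i hi)), ?_⟩
    unfold nW
    simp only [List.map_cons, List.map_nil, List.prod_cons, List.prod_nil, mul_one]
    group
  let S : Subgroup (GL D.Idx F) :=
    { carrier := {n | ∃ h ∈ D.diagonalSubgroup F, ∃ w : List ℕ, (∀ i ∈ w, i < D.rank) ∧
        n = h * nW D hD w}
      mul_mem' := by
        rintro _ _ ⟨h1, hh1, w1, hw1, rfl⟩ ⟨h2, hh2, w2, hw2, rfl⟩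
        refine ⟨h1 * (nW D hD w1 * h2 * (nW D hD w1)⁻¹), Subgroup.mul_mem _ hh1 ?_, w1 ++ w2,
          ?_, ?_⟩
        · exact (Subgroup.mem_normalizer_iff.mp (hNH (nW_mem D hD w1 hw1)) h2).mp hh2
        · intro i hi
          rw [List.mem_append] at hi
          rcases hi with hi | hi
          · exact hw1 i hi
          · exact hw2 i hi
        · rw [nW_append]
          group
      one_mem' := ⟨1, Subgroup.one_mem _, [], by simp, by simp [nW]⟩
      inv_mem' := by
        -- first for words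
        have hword : ∀ w : List ℕ, (∀ i ∈ w, i < D.rank) →
            ∃ h ∈ D.diagonalSubgroup F, ∃ w' : List ℕ, (∀ i ∈ w', i < D.rank) ∧
              (nW D hD w)⁻¹ = h * nW D hD w' := by
          intro w
          induction w with
          | nil =>
            intro _
            exact ⟨1, Subgroup.one_mem _, [], by simp, by simp [nW]⟩
          | cons i w ih =>
            intro hw
            have hi := hw i List.mem_cons_self
            obtain ⟨h1, hh1, w1, hw1, e1⟩ := ih fun j hj => hw j (List.mem_cons_of_mem _ hj)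
            obtain ⟨h2, hh2, e2⟩ := hinv1 i hi
            refine ⟨h1 * (nW D hD w1 * h2 * (nW D hD w1)⁻¹), Subgroup.mul_mem _ hh1 ?_,
              w1 ++ [i], ?_, ?_⟩
            · exact (Subgroup.mem_normalizer_iff.mp (hNH (nW_mem D hD w1 hw1)) h2).mp hh2
            · intro j hj
              rw [List.mem_append] at hj
              rcases hj with hj | hj
              · exact hw1 j hj
              · simp only [List.mem_cons, List.not_mem_nil, or_false] at hj
                rw [hj]; exact hi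
            · rw [nW_cons, mul_inv_rev, e1, e2, nW_append]
              group
        rintro _ ⟨h1, hh1, w1, hw1, rfl⟩
        obtain ⟨h2, hh2, w2, hw2, e2⟩ := hword w1 hw1
        refine ⟨h2 * (nW D hD w2 * h1⁻¹ * (nW D hD w2)⁻¹), Subgroup.mul_mem _ hh2 ?_, w2, hw2, ?_⟩
        · exact (Subgroup.mem_normalizer_iff.mp (hNH (nW_mem D hD w2 hw2)) h1⁻¹).mp
            (Subgroup.inv_mem _ hh1)
        · rw [mul_inv_rev, e2]
          group }
  have hsimple : ∀ i < D.rank, nGt D hD (D.simple i) (1 : F) ∈ S := by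
    intro i hi
    refine ⟨1, Subgroup.one_mem _, [i], ?_, ?_⟩
    · intro j hj
      simp only [List.mem_cons, List.not_mem_nil, or_false] at hj
      rw [hj]; exact hi
    · simp [nW]
  have hall : ∀ r < D.nroots, nGt D hD r (1 : F) ∈ S := by
    refine hR.induction (fun r => nGt D hD r (1 : F) ∈ S) hsimple ?_
    intro i hi s hs hP
    have h1 := hsimple i hi
    have h2 : nGt D hD (D.simple i) 1 * nGt D hD s (1 : F) * (nGt D hD (D.simple i) 1)⁻¹ ∈ S :=
      Subgroup.mul_mem _ (Subgroup.mul_mem _ h1 hP) (Subgroup.inv_mem _ h1)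
    rw [nG_conj_nGt D hD i hi s hs] at h2
    rcases Cfsg.Agent.S1031.eta_sq D hD i s hi hs with h | h
    · rw [h] at h2
      simpa using h2
    · rw [h] at h2
      simp only [Int.cast_neg, Int.cast_one, neg_mul, one_mul] at h2
      rw [nGt_neg_one] at h2
      have := Subgroup.inv_mem _ h2
      rwa [inv_inv] at this
  have hle : D.monomialSubgroup F ≤ S := by
    unfold ChevalleyDatum.monomialSubgroup
    apply sup_le
    · intro h hh
      exact ⟨h, hh, [], by simp, by simp [nW]⟩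
    · rw [Subgroup.closure_le]
      rintro g ⟨r, hr, hg⟩
      have : g = nGt D hD r 1 := Units.ext (by rw [hg, nGt_val])
      rw [this]
      exact hall r hr
  exact hle hn

end

end Cfsg.Agent.helper5.Chev
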