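import Mathlib
import Cfsg.Agent.Lib_helper5_ChevBN3
import Cfsg.Agent.S1029

set_option autoImplicit false

/-! Monomial matrices of the elements `n_w`, the kernel of `N → W`, `B ∩ N = H` (helper5). -/

namespace Cfsg.Agent.helper5.Chev

open Cfsg.Lie

section
variable {F : Type*} [Field F] (D : ChevalleyDatum)
  (hD : D ∈ [chevG2, chevB2, chevD4, chevF4, chevE6, chevE7, chevE8])

/-- the matrix of `n_w` is monomial on the root coordinates, with permutation `applyW w` -/
theorem nW_matrix (w : List ℕ) (hw : ∀ i ∈ w, i < D.rank) :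
    ∃ c : Fin D.nroots → F, (∀ s, c s ≠ 0) ∧ ∀ (row : D.Idx) (s : Fin D.nroots),
      ((nW D hD w : GL D.Idx F) : Matrix D.Idx D.Idx F) row (Sum.inr s) =
        if code D row = D.rank + applyW D w s then c s else 0 := by
  classical
  induction w with
  | nil =>
    refine ⟨fun _ => 1, fun _ => one_ne_zero, fun row s => ?_⟩
    have : nW D hD ([] : List ℕ) = (1 : GL D.Idx F) := by simp [nW]
    rw [this, Units.val_one, Matrix.one_apply]
    have hc : code D (Sum.inr s) = D.rank + s.val := rfl
    by_cases h : row = Sum.inr s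
    · rw [if_pos h, h, hc]
      simp [applyW]
    · rw [if_neg h]
      have : ¬ code D row = D.rank + applyW D [] s.val := by
        intro h'
        apply h
        apply code_injective D
        rw [h', hc]
        rfl
      rw [if_neg this]
  | cons i w ih =>
    have hi := hw i List.mem_cons_self
    have hw' : ∀ j ∈ w, j < D.rank := fun j hj => hw j (List.mem_cons_of_mem _ hj)
    obtain ⟨c, hc, hM⟩ := ih hw'
    refine ⟨fun s => ((etaOf D i (applyW D w s) : ℤ) : F) * c s, ?_, ?_⟩
    · intro s
      apply mul_ne_zero _ (hc s)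
      intro h0
      have := eta_cast_sq (F := F) D hD i (applyW D w s) hi (applyW_lt D hD w hw' s s.2)
      rw [h0, mul_zero] at this
      exact zero_ne_one this
    · intro row s
      have hlt := applyW_lt D hD w hw' s s.2
      rw [nW_cons, Units.val_mul, nGt_val, Cfsg.Agent.S1095.nMat_eq D hD i hi, Matrix.mul_apply,
        Finset.sum_eq_single (Sum.inr (⟨applyW D w s, hlt⟩ : Fin D.nroots))]
      · rw [hM, nMono_apply_inr]
        have hc1 : code D (Sum.inr (⟨applyW D w s, hlt⟩ : Fin D.nroots)) =
            D.rank + applyW D w s := rfl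
        rw [if_pos hc1]
        have e : applyW D (i :: w) s = D.reflectRoot i (applyW D w s) := rfl
        rw [e]
        by_cases h : code D row = D.rank + D.reflectRoot i (applyW D w s)
        · rw [if_pos h, if_pos h]
        · rw [if_neg h, if_neg h, zero_mul]
      · intro k _ hk
        rw [hM]
        have : ¬ code D k = D.rank + applyW D w s := by
          intro h'
          apply hk
          apply code_injective D
          rw [h']
          rfl
        rw [if_neg this, mul_zero]
      · intro hn
        exact absurd (Finset.mem_univ _) hn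

include hD in
/-- elements of `B` are lower triangular -/
theorem B_lower (b : GL D.Idx F) (hb : b ∈ D.borelSubgroup F) (row col : D.Idx)
    (hlt : Cfsg.Agent.S1028.pos D row < Cfsg.Agent.S1028.pos D col) :
    (b : Matrix D.Idx D.Idx F) row col = 0 := by
  classical
  obtain ⟨u, hu, h, hh, rfl⟩ := mem_borel D hD b hb
  have hUL := Cfsg.Agent.S1029.UL_of_mem D (Cfsg.Agent.S1028.triCheck_all D hD) u hu
  obtain ⟨c, _, hhc⟩ := Cfsg.Agent.S1034.mem_torus D hD h hh
  rw [Units.val_mul, hhc]
  unfold torusMat
  rw [Matrix.mul_diagonal, hUL row col hlt.le]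
  have : row ≠ col := by
    intro h'
    rw [h'] at hlt
    exact lt_irrefl _ hlt
  rw [if_neg this, zero_mul]

/-- the entries of `h n_w` on root coordinates -/
theorem hnW_entry (h : GL D.Idx F) (hh : h ∈ D.diagonalSubgroup F) (w : List ℕ)
    (hw : ∀ i ∈ w, i < D.rank) :
    ∃ c : D.Idx → Fin D.nroots → F, (∀ row s, c row s ≠ 0) ∧ ∀ (row : D.Idx) (s : Fin D.nroots),
      ((h * nW D hD w : GL D.Idx F) : Matrix D.Idx D.Idx F) row (Sum.inr s) =
        if code D row = D.rank + applyW D w s then c row s else 0 := by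
  obtain ⟨c, hc, hM⟩ := nW_matrix (F := F) D hD w hw
  obtain ⟨a, ha, hha⟩ := Cfsg.Agent.S1034.mem_torus D hD h hh
  refine ⟨fun row s => (Sum.elim (fun _ => (1 : F)) (fun u : Fin D.nroots => torusChar D a u) row) *
    c s, ?_, ?_⟩
  · intro row s
    apply mul_ne_zero _ (hc s)
    rcases row with j | u
    · exact one_ne_zero
    · exact torusChar_ne_zero D a ha u
  · intro row s
    rw [Units.val_mul, hha]
    unfold torusMat
    rw [Matrix.diagonal_mul, hM]
    by_cases h' : code D row = D.rank + applyW D w s
    · rw [if_pos h', if_pos h']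
    · rw [if_neg h', if_neg h', mul_zero]

/-- an element `h n_w` of `B` has trivial permutation -/
theorem applyW_eq_of_mem_B (h : GL D.Idx F) (hh : h ∈ D.diagonalSubgroup F) (w : List ℕ)
    (hw : ∀ i ∈ w, i < D.rank) (hB : h * nW D hD w ∈ D.borelSubgroup F) :
    ∀ s < D.nroots, applyW D w s = s := by
  classical
  obtain ⟨c, hc, hM⟩ := hnW_entry D hD h hh w hw
  have hlt : ∀ s : Fin D.nroots, applyW D w s < D.nroots := fun s => applyW_lt D hD w hw s s.2
  let π : Fin D.nroots → Fin D.nroots := fun s => ⟨applyW D w s, hlt s⟩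
  let f : Fin D.nroots → ℕ := fun s => Cfsg.Agent.S1028.pos D (Sum.inr s)
  have hle : ∀ s, f s ≤ f (π s) := by
    intro s
    by_contra hlt'
    push Not at hlt'
    have h0 := B_lower D hD _ hB (Sum.inr (π s)) (Sum.inr s) hlt'
    rw [hM] at h0
    have hcode : code D (Sum.inr (π s)) = D.rank + applyW D w s := rfl
    rw [if_pos hcode] at h0
    exact hc _ _ h0
  have hinj : Function.Injective π := by
    intro s t hst
    have h1 : applyW D w s = applyW D w t := congrArg Fin.val hst
    have hrev : ∀ x < D.nroots, applyW D w.reverse (applyW D w x) = x := by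
      intro x hx
      have := applyW_rev D hD w.reverse (fun i hi => hw i (List.mem_reverse.mp hi)) x hx
      rwa [List.reverse_reverse] at this
    apply Fin.ext
    rw [← hrev s s.2, ← hrev t t.2, h1]
  have hbij : Function.Bijective π := Finite.injective_iff_bijective.mp hinj
  have hsum : ∑ s, f (π s) = ∑ s, f s :=
    Fintype.sum_bijective π hbij _ _ (fun _ => rfl)
  have heq : ∀ s ∈ Finset.univ, f s = f (π s) := by
    rw [← Finset.sum_eq_sum_iff_of_le (fun s _ => hle s)]
    exact hsum.symm
  intro s hs
  have h1 := heq ⟨s, hs⟩ (Finset.mem_univ _)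
  have h2 := Cfsg.Agent.S1028.pos_injective D h1
  have h3 : (⟨s, hs⟩ : Fin D.nroots) = π ⟨s, hs⟩ := Sum.inr.inj h2
  exact (congrArg Fin.val h3).symm

/-- comparison of permutations: `n_w = h n_{w₁}` forces the same permutation -/
theorem applyW_eq_of_eq (h : GL D.Idx F) (hh : h ∈ D.diagonalSubgroup F) (w w₁ : List ℕ)
    (hw : ∀ i ∈ w, i < D.rank) (hw₁ : ∀ i ∈ w₁, i < D.rank)
    (he : nW D hD w = h * nW D hD w₁) : ∀ s < D.nroots, applyW D w s = applyW D w₁ s := by
  obtain ⟨c, hc, hM⟩ := nW_matrix (F := F) D hD w hw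
  obtain ⟨c₁, hc₁, hM₁⟩ := hnW_entry D hD h hh w₁ hw₁
  intro s hs
  have hlt₁ := applyW_lt D hD w₁ hw₁ s hs
  have h1 := hM (Sum.inr (⟨applyW D w₁ s, hlt₁⟩ : Fin D.nroots)) ⟨s, hs⟩
  have h2 := hM₁ (Sum.inr (⟨applyW D w₁ s, hlt₁⟩ : Fin D.nroots)) ⟨s, hs⟩
  rw [he, h2] at h1
  have hcode : code D (Sum.inr (⟨applyW D w₁ s, hlt₁⟩ : Fin D.nroots)) =
      D.rank + applyW D w₁ s := rfl
  rw [hcode, if_pos rfl] at h1
  by_contra hne
  have : ¬ D.rank + applyW D w₁ s = D.rank + applyW D w s := by
    intro h'
    apply hne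
    omega
  rw [if_neg this] at h1
  exact hc₁ _ _ h1

include hD in
theorem applyW_neg (w : List ℕ) (hw : ∀ i ∈ w, i < D.rank) (r : ℕ) (hr : r < D.nroots) :
    applyW D w (D.neg r) = D.neg (applyW D w r) := by
  have hR := rootsOK_of_mem D hD
  induction w with
  | nil => rfl
  | cons i w ih =>
    have hi := hw i List.mem_cons_self
    have hw' : ∀ j ∈ w, j < D.rank := fun j hj => hw j (List.mem_cons_of_mem _ hj)
    have e : ∀ x, applyW D (i :: w) x = D.reflectRoot i (applyW D w x) := fun _ => rfl
    rw [e, e, ih hw', hR.refl_neg i hi _ (applyW_lt D hD w hw' r hr)]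

/-- conjugation of `n_r(t)` by a word -/
theorem nW_conj_nGt (w : List ℕ) (hw : ∀ i ∈ w, i < D.rank) (r : ℕ) (hr : r < D.nroots) :
    ∃ ε : F, (ε = 1 ∨ ε = -1) ∧ ∀ t : F,
      nW D hD w * nGt D hD r t * (nW D hD w)⁻¹ = nGt D hD (applyW D w r) (ε * t) := by
  induction w with
  | nil =>
    refine ⟨1, Or.inl rfl, fun t => ?_⟩
    unfold nW
    simp [applyW]
  | cons i w ih =>
    have hi := hw i List.mem_cons_self
    have hw' : ∀ j ∈ w, j < D.rank := fun j hj => hw j (List.mem_cons_of_mem _ hj)
    obtain ⟨ε, hε, hc⟩ := ih hw'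
    have hlt := applyW_lt D hD w hw' r hr
    refine ⟨((etaOf D i (applyW D w r) : ℤ) : F) * ε, ?_, fun t => ?_⟩
    · rcases Cfsg.Agent.S1031.eta_sq D hD i (applyW D w r) hi hlt with h | h <;>
        rcases hε with h' | h' <;> rw [h, h'] <;> simp
    · rw [nW_cons]
      have e : nGt D hD (D.simple i) 1 * nW D hD w * nGt D hD r t *
          (nGt D hD (D.simple i) 1 * nW D hD w)⁻¹ =
          nGt D hD (D.simple i) 1 * (nW D hD w * nGt D hD r t * (nW D hD w)⁻¹) *
            (nGt D hD (D.simple i) 1)⁻¹ := by group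
      rw [e, hc t, nG_conj_nGt D hD i hi _ hlt, mul_assoc]
      rfl

include hD in
/-- the exchange lemma: a word mapping a negative root to a positive one passes through `-p_j` -/
theorem exchange (v : List ℕ) (hv : ∀ i ∈ v, i < D.rank) (γ : ℕ) (hγ : D.IsNegRoot γ)
    (hpos : D.IsPosRoot (applyW D v γ)) :
    ∃ (v₀ : List ℕ) (j : ℕ) (v' : List ℕ), v = v₀ ++ j :: v' ∧
      applyW D v' γ = D.neg (D.simple j) := by
  have hR := rootsOK_of_mem D hD
  induction v with
  | nil => exact absurd hγ (fun h => hR.not_pos_and_neg _ hpos h)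
  | cons i v ih =>
    have hi := hv i List.mem_cons_self
    have hv' : ∀ j ∈ v, j < D.rank := fun j hj => hv j (List.mem_cons_of_mem _ hj)
    have hlt := applyW_lt D hD v hv' γ hγ.1
    by_cases hp : D.IsPosRoot (applyW D v γ)
    · obtain ⟨v₀, j, v', hvv, happ⟩ := ih hv' hp
      exact ⟨i :: v₀, j, v', by rw [hvv]; rfl, happ⟩
    · have hn := hR.neg_of_not_pos _ hlt hp
      refine ⟨[], i, v, rfl, ?_⟩
      by_contra hne
      have h2 := hR.refl_negRoot i hi _ hn hne
      have e : applyW D (i :: v) γ = D.reflectRoot i (applyW D v γ) := rfl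
      rw [e] at hpos
      exact hR.not_pos_and_neg _ hpos h2

/-- **the kernel of `N → W`**: a word acting trivially on the roots gives an element of `H` -/
theorem nW_mem_H (w : List ℕ) (hw : ∀ i ∈ w, i < D.rank)
    (hid : ∀ s < D.nroots, applyW D w s = s) : nW D hD w ∈ D.diagonalSubgroup F := by
  have hR := rootsOK_of_mem D hD
  have hNH := N_le_normalizer_H (F := F) D hD
  have key : ∀ k : ℕ, ∀ w : List ℕ, w.length = k → (∀ i ∈ w, i < D.rank) →
      (∀ s < D.nroots, applyW D w s = s) → nW D hD w ∈ D.diagonalSubgroup F := by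
    intro k
    induction k using Nat.strong_induction_on with
    | _ k ih =>
      intro w hlen hw hid
      rcases List.eq_nil_or_concat w with rfl | ⟨v, i, rfl⟩
      · have : nW D hD ([] : List ℕ) = (1 : GL D.Idx F) := by simp [nW]
        rw [this]
        exact Subgroup.one_mem _
      · have hi : i < D.rank := hw i (by simp)
        have hv : ∀ j ∈ v, j < D.rank := fun j hj => hw j (by simp [hj])
        have hsl := hR.simple_lt i hi
        -- the word `v` maps `-p_i` to `p_i`
        have h1 : applyW D v (D.neg (D.simple i)) = D.simple i := by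
          have := hid (D.simple i) hsl
          rw [List.concat_eq_append, applyW_append] at this
          have e : applyW D [i] (D.simple i) = D.reflectRoot i (D.simple i) := rfl
          rwa [e, hR.refl_simple i hi] at this
        have hneg : D.IsNegRoot (D.neg (D.simple i)) := hR.neg_pos _ (hR.simple_pos i hi)
        obtain ⟨v₀, j, v', hvv, happ⟩ := exchange D hD v hv _ hneg
          (by rw [h1]; exact hR.simple_pos i hi)
        have hj : j < D.rank := hv j (by rw [hvv]; simp)
        have hv₀ : ∀ a ∈ v₀, a < D.rank := fun a ha => hv a (by rw [hvv]; simp [ha])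
        have hv' : ∀ a ∈ v', a < D.rank := fun a ha => hv a (by rw [hvv]; simp [ha])
        -- `v'` maps `p_i` to `p_j`
        have h2 : applyW D v' (D.simple i) = D.simple j := by
          rw [applyW_neg D hD v' hv' _ hsl] at happ
          have h3 := congrArg D.neg happ
          rwa [hR.neg_neg _ (applyW_lt D hD v' hv' _ hsl), hR.neg_neg _ (hR.simple_lt j hj)] at h3
        obtain ⟨ε, hε, hc⟩ := nW_conj_nGt (F := F) D hD v' hv' (D.simple i) hsl
        have h4 := hc 1
        rw [h2, mul_one] at h4
        -- rewrite the word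
        have e1 : nW D hD (v₀ ++ j :: v' ++ [i]) =
            nW D hD v₀ * (nGt D hD (D.simple j) 1 * nGt D hD (D.simple j) ε) * nW D hD v' := by
          rw [nW_append, nW_append, nW_cons, ← h4]
          have : nW D hD [i] = nGt D hD (D.simple i) (1 : F) := by simp [nW]
          rw [this]
          group
        have h5 : nGt D hD (D.simple j) 1 * nGt D hD (D.simple j) ε ∈ D.diagonalSubgroup F := by
          rcases hε with h | h
          · rw [h]
            exact nGt_sq_mem D hD _ (hR.simple_lt j hj)
          · rw [h, nGt_neg_one, mul_inv_cancel]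
            exact Subgroup.one_mem _
        set h₀ := nGt D hD (D.simple j) 1 * nGt D hD (D.simple j) ε with hh₀
        have h6 : nW D hD v₀ * h₀ * (nW D hD v₀)⁻¹ ∈ D.diagonalSubgroup F :=
          (Subgroup.mem_normalizer_iff.mp (hNH (nW_mem D hD v₀ hv₀)) h₀).mp h5
        have e2 : nW D hD (v₀ ++ j :: v' ++ [i]) =
            (nW D hD v₀ * h₀ * (nW D hD v₀)⁻¹) * nW D hD (v₀ ++ v') := by
          rw [e1, nW_append]
          group
        have hw₁ : ∀ a ∈ v₀ ++ v', a < D.rank := by
          intro a ha
          rw [List.mem_append] at ha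
          rcases ha with ha | ha
          · exact hv₀ a ha
          · exact hv' a ha
        rw [List.concat_eq_append, hvv] at hid hlen hw ⊢
        have hsame := applyW_eq_of_eq D hD _ h6 _ _ hw hw₁ e2
        have hid₁ : ∀ s < D.nroots, applyW D (v₀ ++ v') s = s := by
          intro s hs
          rw [← hsame s hs]
          exact hid s hs
        have hlen₁ : (v₀ ++ v').length < k := by
          rw [← hlen]
          simp only [List.length_append, List.length_cons, List.length_nil]
          omega
        rw [e2]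
        exact Subgroup.mul_mem _ h6 (ih _ hlen₁ _ rfl hw₁ hid₁)
  exact key _ w rfl hw hid

include hD in
/-- **`B ∩ N = H`** -/
theorem B_inf_N : D.borelSubgroup F ⊓ D.monomialSubgroup F = D.diagonalSubgroup F := by
  apply le_antisymm
  · intro n hn
    rw [Subgroup.mem_inf] at hn
    obtain ⟨h, hh, w, hw, rfl⟩ := mem_N_decomp D hD n hn.2
    have hid := applyW_eq_of_mem_B D hD h hh w hw hn.1
    exact Subgroup.mul_mem _ hh (nW_mem_H D hD w hw hid)
  · exact le_inf (H_le_B D hD) (H_le_N D)

end

end Cfsg.Agent.helper5.Chev
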