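import Mathlib
import Cfsg.Agent.Lib_helper5_ChevBN4
import Cfsg.Prelude.Def_LieExceptional

set_option autoImplicit false

/-! The (B,N)-pair axioms for Chevalley groups (helper5). -/

namespace Cfsg.Agent.helper5.Chev

open Cfsg.Lie

/-- a (B,N)-pair on a subgroup `K` from the axioms checked in the ambient group -/
theorem bnpair_of_axioms {G : Type*} [Group G] (K B N : Subgroup G) (S : Set G)
    (hBK : B ≤ K) (hNK : N ≤ K) (hsup : B ⊔ N = K)
    (hconj : ∀ n ∈ N, ∀ t ∈ B ⊓ N, n * t * n⁻¹ ∈ B)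
    (hS : S ⊆ (N : Set G)) (hsq : ∀ s ∈ S, s * s ∈ B)
    (hinj : ∀ s ∈ S, ∀ s' ∈ S, s⁻¹ * s' ∈ B → s = s')
    (hcl : Subgroup.closure S ⊔ (B ⊓ N) = N)
    (hmul : ∀ s ∈ S, ∀ n ∈ N, ∀ b ∈ B, s * b * n ∈
      DoubleCoset.doubleCoset (s * n) (B : Set G) B ∪ DoubleCoset.doubleCoset n (B : Set G) B)
    (hne : ∀ s ∈ S, ∃ b ∈ B, s * b * s ∉ B) :
    ∃ P : Cfsg.BNPair ↥K, P.B = B.subgroupOf K ∧ P.N = N.subgroupOf K ∧
      P.S = {k : ↥K | (k : G) ∈ S} := by
  refine ⟨{ B := B.subgroupOf K
            N := N.subgroupOf K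
            S := {k : ↥K | (k : G) ∈ S}
            sup_eq_top := ?_
            conj_mem := ?_
            subset := ?_
            sq_mem := ?_
            inj := ?_
            closure_sup := ?_
            mul_mem_union := ?_
            conj_ne := ?_ }, rfl, rfl, rfl⟩
  · rw [← Subgroup.subgroupOf_sup hBK hNK, hsup, Subgroup.subgroupOf_self]
  · intro n hn t ht
    rw [Subgroup.mem_inf, Subgroup.mem_subgroupOf, Subgroup.mem_subgroupOf] at ht
    rw [Subgroup.mem_subgroupOf] at hn ⊢
    exact hconj _ hn _ (Subgroup.mem_inf.mpr ht)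
  · intro k hk
    exact Subgroup.mem_subgroupOf.mpr (hS hk)
  · intro s hs
    exact Subgroup.mem_subgroupOf.mpr (hsq _ hs)
  · intro s hs s' hs' h
    rw [Subgroup.mem_subgroupOf] at h
    exact Subtype.ext (hinj _ hs _ hs' h)
  · apply Subgroup.map_injective K.subtype_injective
    rw [Subgroup.map_sup, MonoidHom.map_closure, Subgroup.map_inf _ _ _ K.subtype_injective,
      Subgroup.map_subgroupOf_eq_of_le hBK, Subgroup.map_subgroupOf_eq_of_le hNK]
    have : (K.subtype '' {k : ↥K | (k : G) ∈ S}) = S := by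
      ext g
      constructor
      · rintro ⟨k, hk, rfl⟩
        exact hk
      · intro hg
        exact ⟨⟨g, hNK (hS hg)⟩, hg, rfl⟩
    rw [this, hcl]
  · intro s hs n hn b hb
    rw [Subgroup.mem_subgroupOf] at hn hb
    rcases hmul _ hs _ hn _ hb with h | h
    · left
      obtain ⟨x, hx, y, hy, e⟩ := DoubleCoset.mem_doubleCoset.mp h
      exact DoubleCoset.mem_doubleCoset.mpr ⟨⟨x, hBK hx⟩, Subgroup.mem_subgroupOf.mpr hx,
        ⟨y, hBK hy⟩, Subgroup.mem_subgroupOf.mpr hy, Subtype.ext e⟩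
    · right
      obtain ⟨x, hx, y, hy, e⟩ := DoubleCoset.mem_doubleCoset.mp h
      exact DoubleCoset.mem_doubleCoset.mpr ⟨⟨x, hBK hx⟩, Subgroup.mem_subgroupOf.mpr hx,
        ⟨y, hBK hy⟩, Subgroup.mem_subgroupOf.mpr hy, Subtype.ext e⟩
  · intro s hs heq
    obtain ⟨b, hb, hnb⟩ := hne _ hs
    have h1 : s * ⟨b, hBK hb⟩ * s ∈ (fun b : ↥K => s * b * s) '' (B.subgroupOf K : Set ↥K) :=
      ⟨⟨b, hBK hb⟩, Subgroup.mem_subgroupOf.mpr hb, rfl⟩
    rw [heq] at h1
    exact hnb (Subgroup.mem_subgroupOf.mp h1)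

section
variable {F : Type*} [Field F] (D : ChevalleyDatum)
  (hD : D ∈ [chevG2, chevB2, chevD4, chevF4, chevE6, chevE7, chevE8])

/-- moving `x_p(t)` past an element `h n_w` of `N` -/
theorem xG_mul_N (i : ℕ) (hi : i < D.rank) (h : GL D.Idx F) (hh : h ∈ D.diagonalSubgroup F)
    (w : List ℕ) (hw : ∀ j ∈ w, j < D.rank) (t : F) :
    ∃ t' : F, xG D hD (D.simple i) t * (h * nW D hD w) =
      (h * nW D hD w) * xG D hD (applyW D w.reverse (D.simple i)) t' := by
  have hR := rootsOK_of_mem D hD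
  have hsl := hR.simple_lt i hi
  have hwr : ∀ j ∈ w.reverse, j < D.rank := fun j hj => hw j (List.mem_reverse.mp hj)
  have hβ := applyW_lt D hD w.reverse hwr _ hsl
  obtain ⟨ε, hε, hc⟩ := nW_conj (F := F) D hD w hw _ hβ
  rw [applyW_rev D hD w hw _ hsl] at hc
  obtain ⟨χ, hχ, hχc⟩ := H_conj D hD h hh _ hsl
  refine ⟨ε * χ⁻¹ * t, ?_⟩
  have h1 := hc (ε * χ⁻¹ * t)
  have h2 := hχc (ε * (ε * χ⁻¹ * t))
  have e : χ * (ε * (ε * χ⁻¹ * t)) = t := by
    calc χ * (ε * (ε * χ⁻¹ * t)) = (ε * ε) * (χ * χ⁻¹) * t := by ring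
      _ = t := by rw [hε, mul_inv_cancel₀ hχ, one_mul, one_mul]
  rw [e, ← h1] at h2
  rw [← h2]
  group

/-- **the main axiom** `s B n ⊆ B s n B ∪ B n B` -/
theorem bn_axiom (hC : CommOK D) (hP : PosCommOK D) (i : ℕ) (hi : i < D.rank)
    (n : GL D.Idx F) (hn : n ∈ D.monomialSubgroup F) (b : GL D.Idx F)
    (hb : b ∈ D.borelSubgroup F) :
    nGt D hD (D.simple i) 1 * b * n ∈
      DoubleCoset.doubleCoset (nGt D hD (D.simple i) 1 * n) (D.borelSubgroup F : Set (GL D.Idx F))
        (D.borelSubgroup F) ∪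
      DoubleCoset.doubleCoset n (D.borelSubgroup F : Set (GL D.Idx F)) (D.borelSubgroup F) := by
  have hR := rootsOK_of_mem D hD
  have hsl := hR.simple_lt i hi
  have hNH := N_le_normalizer_H (F := F) D hD
  obtain ⟨s, hs⟩ : ∃ s, s = nGt D hD (D.simple i) (1 : F) := ⟨_, rfl⟩
  rw [← hs]
  have hsN : s ∈ D.monomialSubgroup F := by rw [hs]; exact nGt_one_mem D hD _ hsl
  have hss : s * s ∈ D.borelSubgroup F := by
    rw [hs]; exact H_le_B D hD (nGt_sq_mem D hD _ hsl)
  obtain ⟨u, hu, h₁, hh₁, rfl⟩ := mem_borel D hD b hb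
  obtain ⟨u', hu', t, rfl⟩ := mem_U_decomp D hD hC hP i hi u hu
  obtain ⟨h, hh, w, hw, hndef⟩ := mem_N_decomp D hD n hn
  -- the outer factors
  have hb₁ : s * u' * s⁻¹ ∈ D.borelSubgroup F := by
    rw [hs]
    exact U_le_B D hD (Ui_le_U D i ((Subgroup.mem_normalizer_iff.mp
      (nG_mem_normalizer_Ui D hD i hi) u').mp hu'))
  have hh₂ : n⁻¹ * h₁ * n ∈ D.borelSubgroup F := by
    have := (Subgroup.mem_normalizer_iff.mp (hNH (Subgroup.inv_mem _ hn)) h₁).mp hh₁
    rw [inv_inv] at this
    exact H_le_B D hD this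
  have e0 : s * (u' * xG D hD (D.simple i) t * h₁) * n =
      (s * u' * s⁻¹) * (s * xG D hD (D.simple i) t * n) * (n⁻¹ * h₁ * n) := by group
  -- the middle factor
  have key : (∃ x ∈ D.borelSubgroup F, ∃ y ∈ D.borelSubgroup F,
        s * xG D hD (D.simple i) t * n = x * (s * n) * y) ∨
      (∃ x ∈ D.borelSubgroup F, ∃ y ∈ D.borelSubgroup F,
        s * xG D hD (D.simple i) t * n = x * n * y) := by
    have hwr : ∀ j ∈ w.reverse, j < D.rank := fun j hj => hw j (List.mem_reverse.mp hj)
    have hβlt := applyW_lt D hD w.reverse hwr _ hsl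
    obtain ⟨t', ht'⟩ := xG_mul_N D hD i hi h hh w hw t
    rw [← hndef] at ht'
    by_cases hβ : D.IsPosRoot (applyW D w.reverse (D.simple i))
    · left
      refine ⟨1, Subgroup.one_mem _, xG D hD (applyW D w.reverse (D.simple i)) t', ?_, ?_⟩
      · apply U_le_B D hD
        unfold ChevalleyDatum.posUnipotent
        apply Subgroup.subset_closure
        exact ⟨_, t', hβ, rfl⟩
      · rw [mul_assoc, ht']
        group
    · by_cases ht : t = 0
      · left
        refine ⟨1, Subgroup.one_mem _, 1, Subgroup.one_mem _, ?_⟩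
        rw [ht, xG_zero]
        group
      · right
        have hβn := hR.neg_of_not_pos _ hβlt hβ
        set c : F := ((etaOf D i (D.simple i) : ℤ) : F) * t with hc
        have hc0 : c ≠ 0 := by
          apply mul_ne_zero _ ht
          intro h0
          have := eta_cast_sq (F := F) D hD i (D.simple i) hi hsl
          rw [h0, mul_zero] at this
          exact zero_ne_one this
        have e1 : s * xG D hD (D.simple i) t * s⁻¹ = xG D hD (D.neg (D.simple i)) c := by
          rw [hs, nG_conj D hD i hi _ hsl, hR.refl_simple i hi]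
        have e2 := xG_neg_eq D hD (D.simple i) c hc0
        -- the element `s n`
        have hh'' : s * h * s⁻¹ ∈ D.diagonalSubgroup F := by
          rw [hs]; exact nG_conj_H D hD i hi h hh
        have hw'' : ∀ j ∈ i :: w, j < D.rank := by
          intro j hj
          rw [List.mem_cons] at hj
          rcases hj with rfl | hj
          · exact hi
          · exact hw j hj
        obtain ⟨t'', ht''⟩ := xG_mul_N D hD i hi _ hh'' (i :: w) hw'' c⁻¹
        have e3 : (s * h * s⁻¹) * nW D hD (i :: w) = s * n := by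
          rw [nW_cons, hndef, ← hs]
          group
        rw [e3] at ht''
        have e4 : applyW D (i :: w).reverse (D.simple i) =
            D.neg (applyW D w.reverse (D.simple i)) := by
          rw [List.reverse_cons, applyW_append]
          have : applyW D [i] (D.simple i) = D.reflectRoot i (D.simple i) := rfl
          rw [this, hR.refl_simple i hi, applyW_neg D hD w.reverse hwr _ hsl]
        rw [e4] at ht''
        refine ⟨xG D hD (D.simple i) c⁻¹ * hGt D hD (D.simple i) (-c⁻¹) * (s * s), ?_,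
          xG D hD (D.neg (applyW D w.reverse (D.simple i))) t'', ?_, ?_⟩
        · apply Subgroup.mul_mem _ (Subgroup.mul_mem _ _ _) hss
          · apply U_le_B D hD
            unfold ChevalleyDatum.posUnipotent
            apply Subgroup.subset_closure
            exact ⟨_, c⁻¹, hR.simple_pos i hi, rfl⟩
          · exact H_le_B D hD (hGt_mem D hD _ hsl _ (neg_ne_zero.mpr (inv_ne_zero hc0)))
        · apply U_le_B D hD
          unfold ChevalleyDatum.posUnipotent
          apply Subgroup.subset_closure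
          exact ⟨_, t'', hR.neg_neg' _ hβn, rfl⟩
        · have e5 : s * xG D hD (D.simple i) t * n =
              (s * xG D hD (D.simple i) t * s⁻¹) * (s * n) := by group
          rw [e5, e1, e2]
          have e6 : xG D hD (D.simple i) c⁻¹ * hGt D hD (D.simple i) (-c⁻¹) *
              nGt D hD (D.simple i) 1 * xG D hD (D.simple i) c⁻¹ * (s * n) =
              xG D hD (D.simple i) c⁻¹ * hGt D hD (D.simple i) (-c⁻¹) * s *
                (xG D hD (D.simple i) c⁻¹ * (s * n)) := by
            rw [← hs]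
            group
          rw [e6, ht'']
          group
  rw [e0]
  rcases key with ⟨x, hx, y, hy, e⟩ | ⟨x, hx, y, hy, e⟩
  · left
    refine DoubleCoset.mem_doubleCoset.mpr ⟨(s * u' * s⁻¹) * x, Subgroup.mul_mem _ hb₁ hx,
      y * (n⁻¹ * h₁ * n), Subgroup.mul_mem _ hy hh₂, ?_⟩
    rw [e]
    group
  · right
    refine DoubleCoset.mem_doubleCoset.mpr ⟨(s * u' * s⁻¹) * x, Subgroup.mul_mem _ hb₁ hx,
      y * (n⁻¹ * h₁ * n), Subgroup.mul_mem _ hy hh₂, ?_⟩
    rw [e]
    group

/-- `n_p ∉ B` -/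
theorem nG_not_mem_B (i : ℕ) (hi : i < D.rank) :
    nGt D hD (D.simple i) (1 : F) ∉ D.borelSubgroup F := by
  have hR := rootsOK_of_mem D hD
  intro hB
  have hw : ∀ j ∈ [i], j < D.rank := by
    intro j hj
    simp only [List.mem_cons, List.not_mem_nil, or_false] at hj
    rw [hj]; exact hi
  have e : (1 : GL D.Idx F) * nW D hD [i] = nGt D hD (D.simple i) 1 := by simp [nW]
  rw [← e] at hB
  have h1 := applyW_eq_of_mem_B (F := F) D hD 1 (Subgroup.one_mem _) [i] hw hB _ (hR.simple_lt i hi)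
  have e2 : applyW D [i] (D.simple i) = D.reflectRoot i (D.simple i) := rfl
  rw [e2, hR.refl_simple i hi] at h1
  have hp := hR.simple_pos i hi
  have hn := hR.neg_pos _ hp
  rw [h1] at hn
  exact hR.not_pos_and_neg _ hp hn

/-- `x_{-p}(c) ∉ B` for `c ≠ 0` -/
theorem xG_neg_not_mem_B (i : ℕ) (hi : i < D.rank) (c : F) (hc : c ≠ 0) :
    xG D hD (D.neg (D.simple i)) c ∉ D.borelSubgroup F := by
  have hR := rootsOK_of_mem D hD
  have hsl := hR.simple_lt i hi
  intro hB
  apply nG_not_mem_B (F := F) D hD i hi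
  have e2 := xG_neg_eq D hD (D.simple i) c hc
  have hx : xG D hD (D.simple i) c⁻¹ ∈ D.borelSubgroup F := by
    apply U_le_B D hD
    unfold ChevalleyDatum.posUnipotent
    apply Subgroup.subset_closure
    exact ⟨_, c⁻¹, hR.simple_pos i hi, rfl⟩
  have hh : hGt D hD (D.simple i) (-c⁻¹) ∈ D.borelSubgroup F :=
    H_le_B D hD (hGt_mem D hD _ hsl _ (neg_ne_zero.mpr (inv_ne_zero hc)))
  have e3 : nGt D hD (D.simple i) (1 : F) =
      (xG D hD (D.simple i) c⁻¹ * hGt D hD (D.simple i) (-c⁻¹))⁻¹ *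
        xG D hD (D.neg (D.simple i)) c * (xG D hD (D.simple i) c⁻¹)⁻¹ := by
    rw [e2]
    group
  rw [e3]
  exact Subgroup.mul_mem _ (Subgroup.mul_mem _ (Subgroup.inv_mem _ (Subgroup.mul_mem _ hx hh)) hB)
    (Subgroup.inv_mem _ hx)

include hD in
/-- **the (B,N)-pair of a Chevalley group** -/
theorem chev_bnpair (hC : CommOK D) (hP : PosCommOK D) (K : Subgroup (GL D.Idx F))
    (hBK : D.borelSubgroup F ≤ K) (hNK : D.monomialSubgroup F ≤ K)
    (hsup : D.borelSubgroup F ⊔ D.monomialSubgroup F = K) :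
    ∃ P : Cfsg.BNPair ↥K, P.B = (D.borelSubgroup F).subgroupOf K ∧
      P.N = (D.monomialSubgroup F).subgroupOf K ∧
      P.S = {k : ↥K | (k : GL D.Idx F) ∈ {g : GL D.Idx F | ∃ i < D.rank,
        (g : Matrix D.Idx D.Idx F) = D.nMat F (D.simple i) 1}} := by
  have hR := rootsOK_of_mem D hD
  have hBN := B_inf_N (F := F) D hD
  have hNH := N_le_normalizer_H (F := F) D hD
  have hSeq : ∀ g ∈ {g : GL D.Idx F | ∃ i < D.rank,
      (g : Matrix D.Idx D.Idx F) = D.nMat F (D.simple i) 1},
      ∃ i < D.rank, g = nGt D hD (D.simple i) 1 := by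
    rintro g ⟨i, hi, hg⟩
    exact ⟨i, hi, Units.ext (by rw [hg, nGt_val])⟩
  apply bnpair_of_axioms K _ _ _ hBK hNK hsup
  · intro n hn t ht
    rw [hBN] at ht
    exact H_le_B D hD ((Subgroup.mem_normalizer_iff.mp (hNH hn) t).mp ht)
  · intro g hg
    obtain ⟨i, hi, rfl⟩ := hSeq g hg
    exact nGt_one_mem D hD _ (hR.simple_lt i hi)
  · intro g hg
    obtain ⟨i, hi, rfl⟩ := hSeq g hg
    exact H_le_B D hD (nGt_sq_mem D hD _ (hR.simple_lt i hi))
  · intro g hg g' hg' hB
    obtain ⟨i, hi, rfl⟩ := hSeq g hg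
    obtain ⟨j, hj, rfl⟩ := hSeq g' hg'
    by_cases hij : i = j
    · rw [hij]
    · exfalso
      have hw : ∀ a ∈ [i, j], a < D.rank := by
        intro a ha
        simp only [List.mem_cons, List.not_mem_nil, or_false] at ha
        rcases ha with rfl | rfl
        · exact hi
        · exact hj
      have hh : (nGt D hD (D.simple i) (1 : F) * nGt D hD (D.simple i) 1)⁻¹ ∈
          D.diagonalSubgroup F := Subgroup.inv_mem _ (nGt_sq_mem D hD _ (hR.simple_lt i hi))
      have e : (nGt D hD (D.simple i) (1 : F))⁻¹ * nGt D hD (D.simple j) 1 =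
          (nGt D hD (D.simple i) 1 * nGt D hD (D.simple i) 1)⁻¹ * nW D hD [i, j] := by
        simp only [nW, List.map_cons, List.map_nil, List.prod_cons, List.prod_nil, mul_one]
        group
      rw [e] at hB
      have h1 := applyW_eq_of_mem_B D hD _ hh [i, j] hw hB _ (hR.simple_lt j hj)
      have e2 : applyW D [i, j] (D.simple j) =
          D.reflectRoot i (D.reflectRoot j (D.simple j)) := rfl
      rw [e2, hR.refl_simple j hj, hR.refl_neg i hi _ (hR.simple_lt j hj)] at h1
      have hne : D.simple j ≠ D.simple i := fun h' => hij (hR.simple_inj j hj i hi h').symm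
      have hp := hR.refl_pos i hi _ (hR.simple_lt j hj) (hR.simple_pos j hj) hne
      have hn := hR.neg_pos _ hp
      rw [h1] at hn
      exact hR.not_pos_and_neg _ (hR.simple_pos j hj) hn
  · rw [hBN]
    apply le_antisymm
    · apply sup_le _ (H_le_N D)
      rw [Subgroup.closure_le]
      intro g hg
      obtain ⟨i, hi, rfl⟩ := hSeq g hg
      exact nGt_one_mem D hD _ (hR.simple_lt i hi)
    · intro n hn
      obtain ⟨h, hh, w, hw, rfl⟩ := mem_N_decomp D hD n hn
      apply Subgroup.mul_mem _ (Subgroup.mem_sup_right hh)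
      apply Subgroup.mem_sup_left
      unfold nW
      apply Subgroup.list_prod_mem
      intro g hg
      rw [List.mem_map] at hg
      obtain ⟨i, hi, rfl⟩ := hg
      apply Subgroup.subset_closure
      exact ⟨i, hw i hi, nGt_val D hD _ _⟩
  · intro g hg n hn b hb
    obtain ⟨i, hi, rfl⟩ := hSeq g hg
    exact bn_axiom D hD hC hP i hi n hn b hb
  · intro g hg
    obtain ⟨i, hi, rfl⟩ := hSeq g hg
    have hsl := hR.simple_lt i hi
    refine ⟨xG D hD (D.simple i) 1, ?_, ?_⟩
    · apply U_le_B D hD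
      unfold ChevalleyDatum.posUnipotent
      apply Subgroup.subset_closure
      exact ⟨_, 1, hR.simple_pos i hi, rfl⟩
    · intro hB
      set s := nGt D hD (D.simple i) (1 : F) with hs
      have hss : s * s ∈ D.borelSubgroup F := H_le_B D hD (nGt_sq_mem D hD _ hsl)
      have e : s * xG D hD (D.simple i) 1 * s⁻¹ =
          (s * xG D hD (D.simple i) 1 * s) * (s * s)⁻¹ := by group
      have h1 : s * xG D hD (D.simple i) 1 * s⁻¹ ∈ D.borelSubgroup F := by
        rw [e]
        exact Subgroup.mul_mem _ hB (Subgroup.inv_mem _ hss)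
      rw [nG_conj D hD i hi _ hsl, hR.refl_simple i hi, mul_one] at h1
      refine xG_neg_not_mem_B D hD i hi _ ?_ h1
      intro h0
      have := eta_cast_sq (F := F) D hD i (D.simple i) hi hsl
      rw [h0, mul_zero] at this
      exact zero_ne_one this

end

end Cfsg.Agent.helper5.Chev
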