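import Mathlib
import Cfsg.Agent.S1028

set_option autoImplicit false

/-! Negative root elements are unit upper triangular with respect to `S1028.pos` (helper6). -/

namespace Cfsg.Agent.helper6.ChevNeg

open Cfsg.Lie Cfsg.Agent.S1028

/-- the table check: for negative `r`, `r` is not positive, `-r` is positive and `r`-chains go down -/
def triCheckNeg (D : ChevalleyDatum) : Bool :=
  (List.range D.nroots).all fun r =>
    !decide (D.IsNegRoot r) ||
      (!decide (D.IsPosRoot r) && decide (D.IsPosRoot (D.negIdx.getD r 0)) &&
        (D.chain.getD r #[]).toList.all fun e => e.2.toList.all fun q =>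
          decide (posN D q.1 < posN D e.1))

set_option maxRecDepth 1000000 in
set_option maxHeartbeats 0 in
theorem triCheckNeg_all (D : ChevalleyDatum)
    (hD : D ∈ [chevG2, chevB2, chevD4, chevF4, chevE6, chevE7, chevE8]) : triCheckNeg D = true := by
  simp only [List.mem_cons, List.not_mem_nil, or_false] at hD
  rcases hD with rfl | rfl | rfl | rfl | rfl | rfl | rfl <;> decide +kernel

/-- unit upper triangular with respect to `pos` -/
def UU {F : Type*} [Field F] (D : ChevalleyDatum) (M : Matrix D.Idx D.Idx F) : Prop :=
  ∀ row col : D.Idx, pos D col ≤ pos D row → M row col = if row = col then 1 else 0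

section
variable {F : Type*} [Field F]

theorem UU_xMat (D : ChevalleyDatum) (h : triCheckNeg D = true) (r : Fin D.nroots)
    (hr : D.IsNegRoot r.val) (t : F) : UU D (D.xMat F r t) := by
  unfold triCheckNeg at h
  rw [List.all_eq_true] at h
  have h1 := h r.val (List.mem_range.mpr r.2)
  simp only [hr, decide_true, Bool.not_true, Bool.false_or, Bool.and_eq_true, Bool.not_eq_eq_eq_not,
    decide_eq_false_iff_not, List.all_eq_true, decide_eq_true_eq] at h1
  obtain ⟨⟨hnp, hnegr⟩, hchain⟩ := h1
  have hposr : posN D r.val = r.val := by
    unfold posN; rw [if_neg hnp]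
  intro row col hle
  unfold ChevalleyDatum.xMat
  simp only [Matrix.of_apply]
  rcases col with i | s
  · dsimp only
    rcases row with i' | u
    · dsimp only
      by_cases hi : i' = i
      · subst hi; simp
      · have : (Sum.inl i' : D.Idx) ≠ Sum.inl i := fun h' => hi (Sum.inl.inj h')
        rw [if_neg hi, if_neg this]
    · dsimp only
      have hne : (Sum.inr u : D.Idx) ≠ Sum.inl i := by simp
      rw [if_neg hne]
      by_cases hu : u = r
      · exfalso
        subst hu
        simp only [pos] at hle
        rw [hposr] at hle
        have := u.2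
        omega
      · rw [if_neg hu]
  · dsimp only
    by_cases hsr : s = r
    · rw [if_pos hsr]
      rcases row with i' | u
      · dsimp only
        have hne : (Sum.inl i' : D.Idx) ≠ Sum.inr s := by simp
        rw [if_neg hne]
      · dsimp only
        by_cases hu : u = r
        · rw [if_pos hu, if_pos (by rw [hu, hsr])]
        · have hne : (Sum.inr u : D.Idx) ≠ Sum.inr s := by
            intro h'
            apply hu
            rw [← hsr]
            exact Sum.inr.inj h'
          rw [if_neg hu, if_neg hne]
    · rw [if_neg hsr]
      by_cases hneg : s.val = D.negIdx.getD r.val 0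
      · rw [if_pos hneg]
        have hsp : D.IsPosRoot s.val := by rw [hneg]; exact hnegr
        have hposs : pos D (Sum.inr s) = 2 * (D.nroots + D.rank) + s.val := by
          simp only [pos, posN]; rw [if_pos hsp]
        rcases row with i' | u
        · exfalso
          rw [hposs] at hle
          simp only [pos] at hle
          have := i'.2
          omega
        · dsimp only
          by_cases hu : u = s
          · subst hu; simp
          · have hne : (Sum.inr u : D.Idx) ≠ Sum.inr s := fun h' => hu (Sum.inr.inj h')
            rw [if_neg hu, if_neg hne]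
            by_cases hur : u = r
            · exfalso
              subst hur
              rw [hposs] at hle
              simp only [pos] at hle
              rw [hposr] at hle
              have := u.2
              omega
            · rw [if_neg hur]
      · rw [if_neg hneg]
        rcases row with i' | u
        · dsimp only
          have hne : (Sum.inl i' : D.Idx) ≠ Sum.inr s := by simp
          rw [if_neg hne]
        · dsimp only
          have hsum : ((D.chainCoeff r.val s.val u.val).map
              fun km => ((km.2 : ℤ) : F) * t ^ km.1).sum = 0 := by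
            by_cases hnil : D.chainCoeff r.val s.val u.val = []
            · rw [hnil]; rfl
            · exfalso
              obtain ⟨km, hkm⟩ := List.exists_mem_of_ne_nil _ hnil
              obtain ⟨e, he, hes, q, hq, hqu⟩ := chainCoeff_mem D _ _ _ km hkm
              have := hchain e he q hq
              rw [hes, hqu] at this
              simp only [pos] at hle
              omega
          rw [hsum, add_zero]
          by_cases hu : u = s
          · subst hu; simp
          · have hne : (Sum.inr u : D.Idx) ≠ Sum.inr s := fun h' => hu (Sum.inr.inj h')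
            rw [if_neg hu, if_neg hne]

theorem UU_one (D : ChevalleyDatum) : UU D (1 : Matrix D.Idx D.Idx F) := by
  intro row col _
  rw [Matrix.one_apply]

theorem UU_mul (D : ChevalleyDatum) {M N : Matrix D.Idx D.Idx F} (hM : UU D M) (hN : UU D N) :
    UU D (M * N) := by
  classical
  intro row col hle
  rw [Matrix.mul_apply]
  by_cases hrc : row = col
  · subst hrc
    rw [if_pos rfl, Finset.sum_eq_single row]
    · rw [hM row row le_rfl, hN row row le_rfl, if_pos rfl, mul_one]
    · intro m _ hm
      rcases Nat.lt_or_ge (pos D row) (pos D m) with h1 | h1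
      · rw [hN m row h1.le, if_neg hm, mul_zero]
      · rw [hM row m h1, if_neg (Ne.symm hm), zero_mul]
    · intro hn; exact absurd (Finset.mem_univ _) hn
  · rw [if_neg hrc]
    apply Finset.sum_eq_zero
    intro m _
    rcases Nat.lt_or_ge (pos D row) (pos D m) with h1 | h1
    · -- pos col ≤ pos row < pos m
      have hmc : m ≠ col := by
        intro h'; subst h'; omega
      rw [hN m col (by omega), if_neg hmc, mul_zero]
    · by_cases hmr : row = m
      · subst hmr
        rw [hN row col hle, if_neg hrc, mul_zero]
      · rw [hM row m h1, if_neg hmr, zero_mul]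

theorem UU_inv (D : ChevalleyDatum) (g : GL D.Idx F) (hg : UU D (g : Matrix D.Idx D.Idx F)) :
    UU D ((g⁻¹ : GL D.Idx F) : Matrix D.Idx D.Idx F) := by
  classical
  have hBT : Matrix.BlockTriangular (g : Matrix D.Idx D.Idx F) (fun i => pos D i) := by
    intro i j hij
    have hlt : pos D j < pos D i := hij
    have hne : i ≠ j := by intro h'; subst h'; omega
    rw [hg i j hlt.le, if_neg hne]
  have hinvt : Invertible (g : Matrix D.Idx D.Idx F) := g.invertible
  have hBTinv := Matrix.blockTriangular_inv_of_blockTriangular hBT
  have hinv : ((g⁻¹ : GL D.Idx F) : Matrix D.Idx D.Idx F) = (g : Matrix D.Idx D.Idx F)⁻¹ :=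
    Matrix.coe_units_inv g
  rw [hinv]
  intro row col hle
  by_cases hrc : row = col
  · subst hrc
    rw [if_pos rfl]
    have hmul : (g : Matrix D.Idx D.Idx F) * (g : Matrix D.Idx D.Idx F)⁻¹ = 1 :=
      Matrix.mul_inv_of_invertible _
    have h1 := congrFun (congrFun hmul row) row
    rw [Matrix.mul_apply, Matrix.one_apply, if_pos rfl, Finset.sum_eq_single row] at h1
    · rw [hg row row le_rfl, if_pos rfl, one_mul] at h1
      exact h1
    · intro m _ hm
      rcases Nat.lt_or_ge (pos D row) (pos D m) with h2 | h2
      · have : (g : Matrix D.Idx D.Idx F)⁻¹ m row = 0 := hBTinv (by exact h2)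
        rw [this, mul_zero]
      · rw [hg row m h2, if_neg (Ne.symm hm), zero_mul]
    · intro hn; exact absurd (Finset.mem_univ _) hn
  · rw [if_neg hrc]
    have hlt : pos D col < pos D row := by
      rcases Nat.lt_or_ge (pos D col) (pos D row) with h2 | h2
      · exact h2
      · exact absurd (pos_injective D (le_antisymm h2 hle)) hrc
    exact hBTinv (by exact hlt)

/-- every element of `V` is unit upper triangular -/
theorem UU_of_mem_negUnipotent (D : ChevalleyDatum)
    (hD : D ∈ [chevG2, chevB2, chevD4, chevF4, chevE6, chevE7, chevE8]) (g : GL D.Idx F)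
    (hg : g ∈ D.negUnipotent F) : UU D (g : Matrix D.Idx D.Idx F) := by
  have hcheck := triCheckNeg_all D hD
  unfold ChevalleyDatum.negUnipotent at hg
  induction hg using Subgroup.closure_induction with
  | mem x hx =>
    obtain ⟨r, t, hr, hx⟩ := hx
    rw [hx]
    unfold ChevalleyDatum.x
    rw [dif_pos hr.1]
    exact UU_xMat D hcheck ⟨r, hr.1⟩ hr t
  | one => exact UU_one D
  | mul x y _ _ hx hy =>
    rw [Units.val_mul]
    exact UU_mul D hx hy
  | inv x _ hx => exact UU_inv D x hx

/-- every element of `U` is unit lower triangular -/
theorem UL_of_mem_posUnipotent (D : ChevalleyDatum)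
    (hD : D ∈ [chevG2, chevB2, chevD4, chevF4, chevE6, chevE7, chevE8]) (g : GL D.Idx F)
    (hg : g ∈ D.posUnipotent F) : UL D (g : Matrix D.Idx D.Idx F) := by
  have hcheck := triCheck_all D hD
  unfold ChevalleyDatum.posUnipotent at hg
  induction hg using Subgroup.closure_induction with
  | mem x hx =>
    obtain ⟨r, t, hr, hx⟩ := hx
    rw [hx]
    unfold ChevalleyDatum.x
    rw [dif_pos hr.1]
    exact UL_xMat D hcheck ⟨r, hr.1⟩ hr t
  | one => exact UL_one D
  | mul x y _ _ hx hy =>
    rw [Units.val_mul]
    exact UL_mul D hx hy
  | inv x _ hx => exact UL_inv D x hx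

end

end Cfsg.Agent.helper6.ChevNeg
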