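import Cfsg.Statements.S1037
import Mathlib
import Cfsg.Agent.S1034
import Cfsg.Agent.S1032
import Cfsg.Agent.Lib_helper5_ChevTorusConj
import Cfsg.Agent.Lib_helper6_ChevNeg
-- import your own Cfsg.Agent.* helpers here

set_option autoImplicit false
open Cfsg

namespace Cfsg.Agent.S1037

open Cfsg.Lie Cfsg.Agent.helper5.Chev

section
variable {F : Type*} [Field F]

/-- conjugation by a torus element maps `V` into itself -/
theorem conj_mem_neg (D : ChevalleyDatum) (hcart : ∀ i < D.rank, cartanCheckI D i)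
    (h : GL D.Idx F) (c : ℕ → F) (hc : ∀ i, c i ≠ 0)
    (hh : (h : Matrix D.Idx D.Idx F) = torusMat D c) (u : GL D.Idx F)
    (hu : u ∈ D.negUnipotent F) : h * u * h⁻¹ ∈ D.negUnipotent F := by
  unfold ChevalleyDatum.negUnipotent at hu ⊢
  induction hu using Subgroup.closure_induction with
  | mem x hx =>
    obtain ⟨r, t, hr, hx⟩ := hx
    apply Subgroup.subset_closure
    refine ⟨r, torusChar D c r * t, hr, ?_⟩
    have hr' : r < D.nroots := hr.1
    have h1 : (h : Matrix D.Idx D.Idx F) * (x : Matrix D.Idx D.Idx F) =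
        D.x F r (torusChar D c r * t) * (h : Matrix D.Idx D.Idx F) := by
      rw [hx, hh, x_eq_xMat D r hr', x_eq_xMat D r hr']
      exact torusMat_mul_xMat D hcart c (fun i _ => hc i) ⟨r, hr'⟩ t
    rw [Units.val_mul, Units.val_mul, h1, mul_assoc, ← Units.val_mul, mul_inv_cancel,
      Units.val_one, mul_one]
  | one =>
    rw [mul_one, mul_inv_cancel]
    exact Subgroup.one_mem _
  | mul a b _ _ ha hb =>
    have : h * (a * b) * h⁻¹ = (h * a * h⁻¹) * (h * b * h⁻¹) := by group
    rw [this]
    exact Subgroup.mul_mem _ ha hb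
  | inv a _ ha =>
    have : h * a⁻¹ * h⁻¹ = (h * a * h⁻¹)⁻¹ := by group
    rw [this]
    exact Subgroup.inv_mem _ ha

theorem diagonal_le_normalizer_neg (D : ChevalleyDatum)
    (hD : D ∈ [chevG2, chevB2, chevD4, chevF4, chevE6, chevE7, chevE8]) :
    D.diagonalSubgroup F ≤ Subgroup.normalizer (D.negUnipotent F : Set (GL D.Idx F)) := by
  have hcart := Cfsg.Agent.S1032.cartanCheck_of_mem D hD
  intro h hh
  obtain ⟨c, hc, hhc⟩ := Cfsg.Agent.S1034.mem_torus D hD h hh
  obtain ⟨c', hc', hhc'⟩ := Cfsg.Agent.S1034.mem_torus D hD h⁻¹ (Subgroup.inv_mem _ hh)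
  rw [Subgroup.mem_normalizer_iff]
  intro u
  constructor
  · intro hu
    exact conj_mem_neg D hcart h c hc hhc u hu
  · intro hu
    have := conj_mem_neg D hcart h⁻¹ c' hc' hhc' _ hu
    rw [inv_inv] at this
    have h2 : h⁻¹ * (h * u * h⁻¹) * h = u := by group
    rwa [h2] at this

/-- elements of `B` are lower triangular -/
theorem borel_lower (D : ChevalleyDatum)
    (hD : D ∈ [chevG2, chevB2, chevD4, chevF4, chevE6, chevE7, chevE8]) (g : GL D.Idx F)
    (hg : g ∈ D.borelSubgroup F) (i j : D.Idx)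
    (hij : Cfsg.Agent.S1028.pos D i < Cfsg.Agent.S1028.pos D j) :
    (g : Matrix D.Idx D.Idx F) i j = 0 := by
  let T : Subgroup (GL D.Idx F) :=
    { carrier := {g | ∀ i j : D.Idx, Cfsg.Agent.S1028.pos D i < Cfsg.Agent.S1028.pos D j →
        (g : Matrix D.Idx D.Idx F) i j = 0}
      one_mem' := by
        intro i j hij
        have hne : i ≠ j := by intro h; subst h; omega
        rw [Units.val_one, Matrix.one_apply_ne hne]
      mul_mem' := by
        intro a b ha hb i j hij
        rw [Units.val_mul, Matrix.mul_apply]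
        apply Finset.sum_eq_zero
        intro m _
        by_cases h1 : Cfsg.Agent.S1028.pos D i < Cfsg.Agent.S1028.pos D m
        · rw [ha i m h1, zero_mul]
        · rw [hb m j (by omega), mul_zero]
      inv_mem' := by
        intro a ha i j hij
        have hBT : Matrix.BlockTriangular (a : Matrix D.Idx D.Idx F)
            (fun i => OrderDual.toDual (Cfsg.Agent.S1028.pos D i)) := by
          intro i j hij
          exact ha i j hij
        have hinvt : Invertible (a : Matrix D.Idx D.Idx F) := a.invertible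
        have hBTinv := Matrix.blockTriangular_inv_of_blockTriangular hBT
        have hinv : ((a⁻¹ : GL D.Idx F) : Matrix D.Idx D.Idx F) = (a : Matrix D.Idx D.Idx F)⁻¹ :=
          Matrix.coe_units_inv a
        rw [hinv]
        exact hBTinv (by exact hij) }
  have hle : D.borelSubgroup F ≤ T := by
    unfold ChevalleyDatum.borelSubgroup
    apply sup_le
    · intro g hg i j hij
      have hUL := Cfsg.Agent.helper6.ChevNeg.UL_of_mem_posUnipotent D hD g hg
      have hne : i ≠ j := by intro h; subst h; omega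
      rw [hUL i j (by omega), if_neg hne]
    · intro g hg i j hij
      obtain ⟨c, _, hgc⟩ := Cfsg.Agent.S1034.mem_torus D hD g hg
      have hne : i ≠ j := by intro h; subst h; omega
      rw [hgc]
      unfold torusMat
      rw [Matrix.diagonal_apply_ne _ hne]
  exact hle hg i j hij

theorem borel_inf_neg (D : ChevalleyDatum)
    (hD : D ∈ [chevG2, chevB2, chevD4, chevF4, chevE6, chevE7, chevE8]) :
    D.borelSubgroup F ⊓ D.negUnipotent F = ⊥ := by
  rw [eq_bot_iff]
  intro g hg
  rw [Subgroup.mem_inf] at hg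
  obtain ⟨hgB, hgV⟩ := hg
  have hUU := Cfsg.Agent.helper6.ChevNeg.UU_of_mem_negUnipotent D hD g hgV
  rw [Subgroup.mem_bot]
  apply Units.ext
  rw [Units.val_one]
  ext row col
  rcases Nat.lt_or_ge (Cfsg.Agent.S1028.pos D row) (Cfsg.Agent.S1028.pos D col) with h1 | h1
  · have hne : row ≠ col := by intro h; subst h; omega
    rw [borel_lower D hD g hgB row col h1, Matrix.one_apply_ne hne]
  · rw [hUU row col h1, Matrix.one_apply]

end

/-- `UH ∩ V = 1` and `UH ∩ VH = H`. -/
theorem result {F : Type*} [Field F] (D : Cfsg.Lie.ChevalleyDatum) (hD : D ∈ [Cfsg.Lie.chevG2, Cfsg.Lie.chevB2, Cfsg.Lie.chevD4, Cfsg.Lie.chevF4, Cfsg.Lie.chevE6, Cfsg.Lie.chevE7, Cfsg.Lie.chevE8]) :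
    D.borelSubgroup F ⊓ D.negUnipotent F = ⊥ ∧
      D.borelSubgroup F ⊓ (D.negUnipotent F ⊔ D.diagonalSubgroup F) = D.diagonalSubgroup F := by
  have h1 := borel_inf_neg (F := F) D hD
  refine ⟨h1, ?_⟩
  apply le_antisymm
  · intro g hg
    rw [Subgroup.mem_inf] at hg
    obtain ⟨hgB, hgVH⟩ := hg
    have hset := Subgroup.coe_mul_of_right_le_normalizer_left (D.negUnipotent F) (D.diagonalSubgroup F)
      (diagonal_le_normalizer_neg D hD)
    have hg' : g ∈ ((D.negUnipotent F ⊔ D.diagonalSubgroup F : Subgroup (GL D.Idx F)) : Set (GL D.Idx F)) :=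
      hgVH
    rw [hset] at hg'
    obtain ⟨v, hv, h, hh, rfl⟩ := Set.mem_mul.mp hg'
    have hhB : h ∈ D.borelSubgroup F := by
      unfold Cfsg.Lie.ChevalleyDatum.borelSubgroup
      exact Subgroup.mem_sup_right hh
    have hvB : v ∈ D.borelSubgroup F := by
      have : v = (v * h) * h⁻¹ := by group
      rw [this]
      exact Subgroup.mul_mem _ hgB (Subgroup.inv_mem _ hhB)
    have hv1 : v ∈ D.borelSubgroup F ⊓ D.negUnipotent F := ⟨hvB, hv⟩
    rw [h1, Subgroup.mem_bot] at hv1
    rw [hv1, one_mul]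
    exact hh
  · apply le_inf
    · unfold Cfsg.Lie.ChevalleyDatum.borelSubgroup
      exact le_sup_right
    · exact le_sup_right

end Cfsg.Agent.S1037
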