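import Mathlib
import Cfsg.Agent.Lib_helper5_ChevBN5
import Cfsg.Agent.S1037

set_option autoImplicit false
open Cfsg

/-! `B ∩ V = 1` (from helper6's S1037). -/

namespace Cfsg.Agent.helper5.Chev

open Cfsg.Lie

theorem B_inf_V {F : Type*} [Field F] (D : ChevalleyDatum)
    (hD : D ∈ [chevG2, chevB2, chevD4, chevF4, chevE6, chevE7, chevE8]) :
    D.borelSubgroup F ⊓ D.negUnipotent F = ⊥ :=
  (Cfsg.Agent.S1037.result (F := F) D hD).1

end Cfsg.Agent.helper5.Chev
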