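import Mathlib
import Cfsg.Agent.Lib_helper5_ChevBN5

set_option autoImplicit false
open Cfsg

/-! Bruhat normal form for Chevalley groups: existence (helper5). -/

namespace Cfsg.Agent.helper5.Chev

open Cfsg.Lie

theorem conj_closure_le {G : Type*} [Group G] (S : Set G) (T : Subgroup G) (a : G)
    (h : ∀ g ∈ S, a * g * a⁻¹ ∈ T) : ∀ g ∈ Subgroup.closure S, a * g * a⁻¹ ∈ T := by
  intro g hg
  induction hg using Subgroup.closure_induction with
  | mem x hx => exact h x hx
  | one => simp
  | mul x y _ _ hx hy =>
    have e : a * (x * y) * a⁻¹ = (a * x * a⁻¹) * (a * y * a⁻¹) := by group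
    rw [e]
    exact Subgroup.mul_mem _ hx hy
  | inv x _ hx =>
    have e : a * x⁻¹ * a⁻¹ = (a * x * a⁻¹)⁻¹ := by group
    rw [e]
    exact Subgroup.inv_mem _ hx

section
variable {F : Type*} [Field F] (D : ChevalleyDatum)
  (hD : D ∈ [chevG2, chevB2, chevD4, chevF4, chevE6, chevE7, chevE8])

/-- `U_w⁻`, generated by the positive root subgroups made negative by the word `w` -/
def Uneg (w : List ℕ) : Subgroup (GL D.Idx F) :=
  Subgroup.closure {g : GL D.Idx F | ∃ (r : ℕ) (t : F), D.IsPosRoot r ∧
    D.IsNegRoot (applyW D w r) ∧ g = xG D hD r t}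

theorem xG_mem_Uneg (w : List ℕ) (r : ℕ) (hr : D.IsPosRoot r) (hn : D.IsNegRoot (applyW D w r))
    (t : F) : xG D hD r t ∈ Uneg (F := F) D hD w :=
  Subgroup.subset_closure ⟨r, t, hr, hn, rfl⟩

theorem Uneg_le_U (w : List ℕ) : Uneg (F := F) D hD w ≤ D.posUnipotent F := by
  unfold Uneg ChevalleyDatum.posUnipotent
  rw [Subgroup.closure_le]
  rintro g ⟨r, t, hr, -, rfl⟩
  exact Subgroup.subset_closure ⟨r, t, hr, xG_val D hD r t⟩

theorem Uneg_congr (w w₂ : List ℕ) (h : ∀ s < D.nroots, applyW D w s = applyW D w₂ s) :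
    Uneg (F := F) D hD w = Uneg D hD w₂ := by
  unfold Uneg
  congr 1
  ext g
  constructor
  · rintro ⟨r, t, hr, hn, rfl⟩
    exact ⟨r, t, hr, by rwa [← h r hr.1], rfl⟩
  · rintro ⟨r, t, hr, hn, rfl⟩
    exact ⟨r, t, hr, by rwa [h r hr.1], rfl⟩

/-- the key step: `n_w u ∈ B n_w U_w⁻` for every word `w` and every `u ∈ U` -/
theorem bruhat_word (hC : CommOK D) (hP : PosCommOK D) :
    ∀ k : ℕ, ∀ w : List ℕ, w.length = k → (∀ i ∈ w, i < D.rank) → ∀ u ∈ D.posUnipotent F,
      ∃ b ∈ D.borelSubgroup F, ∃ u' ∈ Uneg (F := F) D hD w,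
        nW D hD w * u = b * nW D hD w * u' := by
  have hR := rootsOK_of_mem D hD
  have hNH := N_le_normalizer_H (F := F) D hD
  intro k
  induction k using Nat.strong_induction_on with
  | _ k ih =>
    intro w hlen hw u hu
    rcases List.eq_nil_or_concat w with rfl | ⟨w', i, hwi⟩
    · exact ⟨u, U_le_B D hD hu, 1, Subgroup.one_mem _, by simp [nW]⟩
    · rw [List.concat_eq_append] at hwi
      subst hwi
      have hi : i < D.rank := hw i (by simp)
      have hw' : ∀ j ∈ w', j < D.rank := fun j hj => hw j (by simp [hj])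
      have hlen' : w'.length + 1 = k := by simpa using hlen
      have hsl := hR.simple_lt i hi
      have hlt := applyW_lt D hD w' hw' _ hsl
      have hnWi : nW (F := F) D hD [i] = nGt D hD (D.simple i) 1 := by simp [nW]
      have happ : ∀ r, applyW D (w' ++ [i]) r = applyW D w' (D.reflectRoot i r) := by
        intro r
        rw [applyW_append]
        rfl
      by_cases hpos : D.IsPosRoot (applyW D w' (D.simple i))
      · -- the word stays reduced
        obtain ⟨a, ha, t, rfl⟩ := mem_U_decomp D hD hC hP i hi u hu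
        obtain ⟨ni, hni⟩ : ∃ n, n = nGt D hD (D.simple i) (1 : F) := ⟨_, rfl⟩
        have ha' : ni * a * ni⁻¹ ∈ Ui (F := F) D i := by
          rw [hni]
          exact (Subgroup.mem_normalizer_iff.mp (nG_mem_normalizer_Ui D hD i hi) a).mp ha
        obtain ⟨b, hb, u'', hu'', e⟩ := ih w'.length (by omega) w' rfl hw' _ (Ui_le_U D i ha')
        refine ⟨b, hb, ni⁻¹ * u'' * ni⁻¹⁻¹ * xG D hD (D.simple i) t, ?_, ?_⟩
        · apply Subgroup.mul_mem
          · revert hu''
            unfold Uneg
            apply conj_closure_le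
            rintro g ⟨r, t', hr, hn, rfl⟩
            have hne : r ≠ D.simple i := by
              intro h'
              rw [h'] at hn
              exact hR.not_pos_and_neg _ hpos hn
            rw [inv_inv, hni, nG_conj_inv D hD i hi r hr.1]
            apply Subgroup.subset_closure
            refine ⟨_, _, hR.refl_pos i hi r hr.1 hr hne, ?_, rfl⟩
            rw [happ, hR.refl_refl i hi r hr.1]
            exact hn
          · apply xG_mem_Uneg D hD _ _ (hR.simple_pos i hi)
            rw [happ, hR.refl_simple i hi, applyW_neg D hD w' hw' _ hsl]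
            exact hR.neg_pos _ hpos
        · rw [nW_append, hnWi, ← hni]
          have e1 : nW D hD w' * ni * (a * xG D hD (D.simple i) t) =
              (nW D hD w' * (ni * a * ni⁻¹)) * ni * xG D hD (D.simple i) t := by group
          rw [e1, e]
          group
      · -- the word is not reduced: shorten it
        have hneg := hR.neg_of_not_pos _ hlt hpos
        have hγ : D.IsNegRoot (D.neg (D.simple i)) := hR.neg_pos _ (hR.simple_pos i hi)
        have hpos2 : D.IsPosRoot (applyW D w' (D.neg (D.simple i))) := by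
          rw [applyW_neg D hD w' hw' _ hsl]
          exact hR.neg_neg' _ hneg
        obtain ⟨v₀, j, v', hvv, hap⟩ := exchange D hD w' hw' _ hγ hpos2
        have hv₀ : ∀ a ∈ v₀, a < D.rank := fun a ha => hw' a (by rw [hvv]; simp [ha])
        have hj : j < D.rank := hw' j (by rw [hvv]; simp)
        have hv' : ∀ a ∈ v', a < D.rank := fun a ha => hw' a (by rw [hvv]; simp [ha])
        have hap2 : applyW D v' (D.simple i) = D.simple j := by
          rw [applyW_neg D hD v' hv' _ hsl] at hap
          have := congrArg D.neg hap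
          rwa [hR.neg_neg _ (applyW_lt D hD v' hv' _ hsl),
            hR.neg_neg _ (hR.simple_lt j hj)] at this
        obtain ⟨ε, hε, hconj⟩ := nW_conj_nGt (F := F) D hD v' hv' _ hsl
        have hc1 := hconj 1
        rw [hap2, mul_one] at hc1
        -- `n_j n_{p_j}(ε) ∈ H`
        have hh1 : nGt D hD (D.simple j) (1 : F) * nGt D hD (D.simple j) ε ∈
            D.diagonalSubgroup F := by
          rcases hε with rfl | rfl
          · exact nGt_sq_mem D hD _ (hR.simple_lt j hj)
          · rw [nGt_neg_one, mul_inv_cancel]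
            exact Subgroup.one_mem _
        have hh2 : nW D hD v₀ * (nGt D hD (D.simple j) (1 : F) * nGt D hD (D.simple j) ε) *
            (nW D hD v₀)⁻¹ ∈ D.diagonalSubgroup F :=
          (Subgroup.mem_normalizer_iff.mp (hNH (nW_mem D hD v₀ hv₀)) _).mp hh1
        obtain ⟨h₂, hh₂⟩ : ∃ h, h = nW D hD v₀ * (nGt D hD (D.simple j) (1 : F) *
            nGt D hD (D.simple j) ε) * (nW D hD v₀)⁻¹ := ⟨_, rfl⟩
        rw [← hh₂] at hh2
        have hw₂ : ∀ a ∈ v₀ ++ v', a < D.rank := by
          intro a ha
          rcases List.mem_append.mp ha with ha | ha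
          · exact hv₀ a ha
          · exact hv' a ha
        have enw : nW (F := F) D hD (w' ++ [i]) = h₂ * nW D hD (v₀ ++ v') := by
          have e0 : w' ++ [i] = v₀ ++ ([j] ++ (v' ++ [i])) := by rw [hvv]; simp
          rw [e0, nW_append, nW_append, nW_append, nW_append, hnWi, hh₂]
          have hnWj : nW (F := F) D hD [j] = nGt D hD (D.simple j) 1 := by simp [nW]
          rw [hnWj]
          have e2 : nW D hD v' * nGt D hD (D.simple i) (1 : F) =
              nGt D hD (D.simple j) ε * nW D hD v' := by
            rw [← hc1]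
            group
          rw [e2]
          group
        have hcongr := Uneg_congr (F := F) D hD (w' ++ [i]) (v₀ ++ v')
          (applyW_eq_of_eq D hD h₂ hh2 _ _ hw hw₂ enw)
        have hlen2 : (v₀ ++ v').length < k := by
          have : w'.length = v₀.length + (v'.length + 1) := by rw [hvv]; simp
          rw [List.length_append]
          omega
        obtain ⟨b, hb, u', hu', e⟩ := ih _ hlen2 (v₀ ++ v') rfl hw₂ u hu
        refine ⟨h₂ * b * h₂⁻¹, ?_, u', by rw [hcongr]; exact hu', ?_⟩
        · exact Subgroup.mul_mem _ (Subgroup.mul_mem _ (H_le_B D hD hh2) hb)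
            (Subgroup.inv_mem _ (H_le_B D hD hh2))
        · rw [enw, mul_assoc, e]
          group

end

end Cfsg.Agent.helper5.Chev
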