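import Mathlib
import Cfsg.Statements.S0309
import Cfsg.Agent.Lib_helper2_BN3

set_option autoImplicit false
open Cfsg

namespace Cfsg.Agent.S0309

open Cfsg.Agent.helper2

theorem result {G : Type*} [Group G] (P : Cfsg.BNPair G) {n n' : G}
    (hn : n ∈ P.N) (hn' : n' ∈ P.N) :
    DoubleCoset.doubleCoset n (P.B : Set G) P.B = DoubleCoset.doubleCoset n' (P.B : Set G) P.B ↔ n⁻¹ * n' ∈ P.B := by
  exact BN.C_eq_iff P hn hn'

end Cfsg.Agent.S0309
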