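import Mathlib
import Cfsg.Agent.S1023

set_option autoImplicit false

/-! Root elements, `n_r(t)`, `h_r(t)` as elements of `GL`, from additivity `x_r(t)x_r(u) = x_r(t+u)` (helper6). -/

namespace Cfsg.Agent.helper6.ChevGL

open Cfsg.Lie Cfsg.Agent.helper5.Chev

/-- the hypothesis "D is one of the seven tabulated types" -/
abbrev Tab (D : ChevalleyDatum) : Prop :=
  D ∈ [Cfsg.Lie.chevG2, Cfsg.Lie.chevB2, Cfsg.Lie.chevD4, Cfsg.Lie.chevF4, Cfsg.Lie.chevE6,
    Cfsg.Lie.chevE7, Cfsg.Lie.chevE8]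

section
variable {F : Type*} [Field F] (D : ChevalleyDatum)

theorem x_zero (r : ℕ) : D.x F r 0 = 1 := by
  unfold ChevalleyDatum.x
  split_ifs with h
  · exact xMat_zero D ⟨r, h⟩
  · rfl

theorem x_of_not_lt (r : ℕ) (hr : ¬ r < D.nroots) (t : F) : D.x F r t = 1 := by
  unfold ChevalleyDatum.x
  rw [dif_neg hr]

theorem x_add (hD : Tab D) (r : ℕ) (t u : F) : D.x F r t * D.x F r u = D.x F r (t + u) := by
  by_cases hr : r < D.nroots
  · exact Cfsg.Agent.S1023.result D hD r hr t u
  · rw [x_of_not_lt D r hr, x_of_not_lt D r hr, x_of_not_lt D r hr, mul_one]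

theorem x_mul_neg (hD : Tab D) (r : ℕ) (t : F) : D.x F r t * D.x F r (-t) = 1 := by
  rw [x_add D hD, add_neg_cancel, x_zero]

theorem x_neg_mul (hD : Tab D) (r : ℕ) (t : F) : D.x F r (-t) * D.x F r t = 1 := by
  rw [x_add D hD, neg_add_cancel, x_zero]

/-- `x_r(t)` as an element of `GL` -/
def xG (hD : Tab D) (r : ℕ) (t : F) : GL D.Idx F :=
  ⟨D.x F r t, D.x F r (-t), x_mul_neg D hD r t, x_neg_mul D hD r t⟩

@[simp] theorem xG_val (hD : Tab D) (r : ℕ) (t : F) :
    ((xG D hD r t : GL D.Idx F) : Matrix D.Idx D.Idx F) = D.x F r t := rfl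

theorem xG_mul (hD : Tab D) (r : ℕ) (t u : F) : xG D hD r t * xG D hD r u = xG D hD r (t + u) := by
  apply Units.ext
  rw [Units.val_mul, xG_val, xG_val, xG_val, x_add D hD]

theorem xG_zero (hD : Tab D) (r : ℕ) : xG (F := F) D hD r 0 = 1 := by
  apply Units.ext
  rw [xG_val, x_zero, Units.val_one]

theorem xG_inv (hD : Tab D) (r : ℕ) (t : F) : (xG D hD r t)⁻¹ = xG D hD r (-t) := by
  rw [inv_eq_iff_mul_eq_one, xG_mul, add_neg_cancel, xG_zero]

/-- the product in `GL` of a word in root elements -/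
def wordG (hD : Tab D) (w : List (ℕ × F)) : GL D.Idx F := (w.map fun p => xG D hD p.1 p.2).prod

theorem wordG_val (hD : Tab D) (w : List (ℕ × F)) :
    ((wordG D hD w : GL D.Idx F) : Matrix D.Idx D.Idx F) = D.wordMat F w := by
  unfold wordG ChevalleyDatum.wordMat
  induction w with
  | nil => simp
  | cons p w ih =>
    rw [List.map_cons, List.prod_cons, Units.val_mul, ih, List.map_cons, List.prod_cons, xG_val]

theorem wordG_append (hD : Tab D) (w₁ w₂ : List (ℕ × F)) :
    wordG D hD (w₁ ++ w₂) = wordG D hD w₁ * wordG D hD w₂ := by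
  unfold wordG
  rw [List.map_append, List.prod_append]

theorem eq_wordG (hD : Tab D) (g : GL D.Idx F) (w : List (ℕ × F))
    (hg : (g : Matrix D.Idx D.Idx F) = D.wordMat F w) : g = wordG D hD w := by
  apply Units.ext
  rw [hg, wordG_val]

theorem wordG_mem (hD : Tab D) (K : Subgroup (GL D.Idx F)) (w : List (ℕ × F))
    (h : ∀ p ∈ w, xG D hD p.1 p.2 ∈ K) : wordG D hD w ∈ K := by
  unfold wordG
  apply Subgroup.list_prod_mem
  intro g hg
  rw [List.mem_map] at hg
  obtain ⟨p, hp, rfl⟩ := hg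
  exact h p hp

/-- `n_r(t)` in `GL` -/
def nG (hD : Tab D) (r : ℕ) (t : F) : GL D.Idx F := wordG D hD (D.nWord r t)

/-- `h_r(t)` in `GL` -/
def hG (hD : Tab D) (r : ℕ) (t : F) : GL D.Idx F := wordG D hD (D.hWord r t)

theorem nG_val (hD : Tab D) (r : ℕ) (t : F) :
    ((nG D hD r t : GL D.Idx F) : Matrix D.Idx D.Idx F) = D.nMat F r t := wordG_val D hD _

theorem hG_val (hD : Tab D) (r : ℕ) (t : F) :
    ((hG D hD r t : GL D.Idx F) : Matrix D.Idx D.Idx F) = D.hMat F r t := wordG_val D hD _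

theorem nG_eq (hD : Tab D) (r : ℕ) (t : F) :
    nG D hD r t = xG D hD r t * xG D hD (D.neg r) (-t⁻¹) * xG D hD r t := by
  unfold nG wordG ChevalleyDatum.nWord
  simp only [List.map_cons, List.map_nil, List.prod_cons, List.prod_nil, mul_one, mul_assoc]

theorem hG_eq (hD : Tab D) (r : ℕ) (t : F) :
    hG D hD r t = nG D hD r t * nG D hD r (-1 : F) := by
  unfold hG nG ChevalleyDatum.hWord
  rw [wordG_append]

theorem nG_mul_nG_neg (hD : Tab D) (r : ℕ) (t : F) : nG D hD r t * nG D hD r (-t) = 1 := by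
  rw [nG_eq, nG_eq]
  have e1 : -(-t)⁻¹ = -(-t⁻¹) := by rw [inv_neg]
  rw [e1]
  have h1 : ∀ (s : ℕ) (a : F), xG D hD s a * xG D hD s (-a) = 1 := by
    intro s a; rw [xG_mul, add_neg_cancel, xG_zero]
  calc xG D hD r t * xG D hD (D.neg r) (-t⁻¹) * xG D hD r t *
        (xG D hD r (-t) * xG D hD (D.neg r) (-(-t⁻¹)) * xG D hD r (-t))
      = xG D hD r t * (xG D hD (D.neg r) (-t⁻¹) * ((xG D hD r t * xG D hD r (-t)) *
          xG D hD (D.neg r) (-(-t⁻¹)))) * xG D hD r (-t) := by simp only [mul_assoc]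
    _ = 1 := by rw [h1, one_mul, h1, mul_one, h1]

theorem nG_inv (hD : Tab D) (r : ℕ) (t : F) : (nG D hD r t)⁻¹ = nG D hD r (-t) := by
  rw [inv_eq_iff_mul_eq_one]; exact nG_mul_nG_neg D hD r t

/-- `n_r(t) = h_r(t) n_r(1)` -/
theorem nG_eq_hG_mul (hD : Tab D) (r : ℕ) (t : F) :
    nG D hD r t = hG D hD r t * nG D hD r (1 : F) := by
  rw [hG_eq, mul_assoc]
  have : nG D hD r (-1 : F) * nG D hD r (1 : F) = 1 := by
    have := nG_mul_nG_neg D hD r (-1 : F)
    rwa [neg_neg] at this
  rw [this, mul_one]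

theorem xG_mem_group (hD : Tab D) (r : ℕ) (t : F) : xG D hD r t ∈ D.group F := by
  by_cases hr : r < D.nroots
  · apply Subgroup.subset_closure
    refine ⟨⟨r, hr⟩, t, ?_⟩
    rw [xG_val]
    unfold ChevalleyDatum.x
    rw [dif_pos hr]
  · have : xG D hD r t = 1 := by
      apply Units.ext
      rw [xG_val, x_of_not_lt D r hr, Units.val_one]
    rw [this]
    exact Subgroup.one_mem _

theorem wordG_mem_group (hD : Tab D) (w : List (ℕ × F)) : wordG D hD w ∈ D.group F :=
  wordG_mem D hD _ w (fun p _ => xG_mem_group D hD p.1 p.2)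

theorem xG_mem_posUnipotent (hD : Tab D) (r : ℕ) (hr : D.IsPosRoot r) (t : F) :
    xG D hD r t ∈ D.posUnipotent F :=
  Subgroup.subset_closure ⟨r, t, hr, rfl⟩

theorem xG_mem_negUnipotent (hD : Tab D) (r : ℕ) (hr : D.IsNegRoot r) (t : F) :
    xG D hD r t ∈ D.negUnipotent F :=
  Subgroup.subset_closure ⟨r, t, hr, rfl⟩

theorem hG_mem_diagonal (hD : Tab D) (r : ℕ) (hr : r < D.nroots) (t : F) (ht : t ≠ 0) :
    hG D hD r t ∈ D.diagonalSubgroup F :=
  Subgroup.subset_closure ⟨r, t, hr, ht, hG_val D hD r t⟩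

theorem nG_one_mem_monomial (hD : Tab D) (r : ℕ) (hr : r < D.nroots) :
    nG D hD r (1 : F) ∈ D.monomialSubgroup F := by
  apply Subgroup.mem_sup_right
  exact Subgroup.subset_closure ⟨r, hr, nG_val D hD r 1⟩

theorem diagonal_le_monomial : D.diagonalSubgroup F ≤ D.monomialSubgroup F := le_sup_left

theorem nG_mem_monomial (hD : Tab D) (r : ℕ) (hr : r < D.nroots) (t : F) (ht : t ≠ 0) :
    nG D hD r t ∈ D.monomialSubgroup F := by
  rw [nG_eq_hG_mul]
  exact Subgroup.mul_mem _ (diagonal_le_monomial D (hG_mem_diagonal D hD r hr t ht))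
    (nG_one_mem_monomial D hD r hr)

theorem posUnipotent_le_group : D.posUnipotent F ≤ D.group F := by
  unfold ChevalleyDatum.posUnipotent
  rw [Subgroup.closure_le]
  rintro g ⟨r, t, hr, hg⟩
  apply Subgroup.subset_closure
  refine ⟨⟨r, hr.1⟩, t, ?_⟩
  rw [hg]
  unfold ChevalleyDatum.x
  rw [dif_pos hr.1]

theorem negUnipotent_le_group : D.negUnipotent F ≤ D.group F := by
  unfold ChevalleyDatum.negUnipotent
  rw [Subgroup.closure_le]
  rintro g ⟨r, t, hr, hg⟩
  apply Subgroup.subset_closure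
  refine ⟨⟨r, hr.1⟩, t, ?_⟩
  rw [hg]
  unfold ChevalleyDatum.x
  rw [dif_pos hr.1]

theorem diagonal_le_group (hD : Tab D) : D.diagonalSubgroup F ≤ D.group F := by
  unfold ChevalleyDatum.diagonalSubgroup
  rw [Subgroup.closure_le]
  rintro g ⟨r, t, _, _, hg⟩
  have : g = hG D hD r t := eq_wordG D hD g _ hg
  rw [this]
  exact wordG_mem_group D hD _

theorem monomial_le_group (hD : Tab D) : D.monomialSubgroup F ≤ D.group F := by
  unfold ChevalleyDatum.monomialSubgroup
  apply sup_le (diagonal_le_group D hD)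
  rw [Subgroup.closure_le]
  rintro g ⟨r, _, hg⟩
  have : g = nG D hD r 1 := eq_wordG D hD g _ hg
  rw [this]
  exact wordG_mem_group D hD _

theorem borel_le_group (hD : Tab D) : D.borelSubgroup F ≤ D.group F :=
  sup_le (posUnipotent_le_group D) (diagonal_le_group D hD)

end

/-- table check: every root is positive or the negative of a positive root -/
def negCheck (D : ChevalleyDatum) : Bool :=
  (List.range D.nroots).all fun r =>
    decide (D.IsPosRoot r) || (decide (D.IsPosRoot (D.neg r)) && decide (D.neg (D.neg r) = r))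

set_option maxRecDepth 1000000 in
set_option maxHeartbeats 0 in
theorem negCheck_all (D : ChevalleyDatum) (hD : Tab D) : negCheck D = true := by
  simp only [List.mem_cons, List.not_mem_nil, or_false] at hD
  rcases hD with rfl | rfl | rfl | rfl | rfl | rfl | rfl <;> decide +kernel

theorem pos_or_neg (D : ChevalleyDatum) (hD : Tab D) (r : ℕ) (hr : r < D.nroots) :
    D.IsPosRoot r ∨ (D.IsPosRoot (D.neg r) ∧ D.neg (D.neg r) = r) := by
  have h := negCheck_all D hD
  unfold negCheck at h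
  rw [List.all_eq_true] at h
  have h1 := h r (List.mem_range.mpr hr)
  simp only [Bool.or_eq_true, Bool.and_eq_true, decide_eq_true_eq] at h1
  exact h1

section
variable {F : Type*} [Field F] (D : ChevalleyDatum)

/-- every root element lies in `⟨U, N⟩` -/
theorem xG_mem_sup (hD : Tab D) (r : ℕ) (t : F) :
    xG D hD r t ∈ D.borelSubgroup F ⊔ D.monomialSubgroup F := by
  by_cases hr : r < D.nroots
  · rcases pos_or_neg D hD r hr with hp | ⟨hp, hnn⟩
    · apply Subgroup.mem_sup_left
      apply Subgroup.mem_sup_left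
      exact xG_mem_posUnipotent D hD r hp t
    · by_cases ht : t = 0
      · rw [ht, xG_zero]; exact Subgroup.one_mem _
      · -- s = -r positive, u = -t⁻¹
        set s := D.neg r with hs
        have hu : (-t⁻¹ : F) ≠ 0 := neg_ne_zero.mpr (inv_ne_zero ht)
        have hn := nG_eq D hD s (-t⁻¹ : F)
        have e1 : -(-t⁻¹ : F)⁻¹ = t := by rw [inv_neg, inv_inv, neg_neg]
        rw [e1, hnn] at hn
        have hx : xG D hD r t = (xG D hD s (-t⁻¹))⁻¹ * nG D hD s (-t⁻¹) * (xG D hD s (-t⁻¹))⁻¹ := by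
          rw [hn]; group
        rw [hx]
        have hU : xG D hD s (-t⁻¹ : F) ∈ D.borelSubgroup F ⊔ D.monomialSubgroup F := by
          apply Subgroup.mem_sup_left
          apply Subgroup.mem_sup_left
          exact xG_mem_posUnipotent D hD s hp _
        have hN : nG D hD s (-t⁻¹ : F) ∈ D.borelSubgroup F ⊔ D.monomialSubgroup F := by
          apply Subgroup.mem_sup_right
          exact nG_mem_monomial D hD s hp.1 _ hu
        exact Subgroup.mul_mem _ (Subgroup.mul_mem _ (Subgroup.inv_mem _ hU) hN) (Subgroup.inv_mem _ hU)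
  · have : xG D hD r t = 1 := by
      apply Units.ext
      rw [xG_val, x_of_not_lt D r hr, Units.val_one]
    rw [this]
    exact Subgroup.one_mem _

theorem borel_sup_monomial (hD : Tab D) :
    D.borelSubgroup F ⊔ D.monomialSubgroup F = D.group F := by
  apply le_antisymm (sup_le (borel_le_group D hD) (monomial_le_group D hD))
  unfold ChevalleyDatum.group
  rw [Subgroup.closure_le]
  rintro g ⟨r, t, hg⟩
  have : g = xG D hD r.val t := by
    apply Units.ext
    rw [hg, xG_val]
    unfold ChevalleyDatum.x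
    rw [dif_pos r.2]
  rw [this]
  exact xG_mem_sup D hD r.val t

end

end Cfsg.Agent.helper6.ChevGL
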