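import Mathlib
import Cfsg.Agent.Lib_helper5_ChevBruhat
import Cfsg.Agent.Lib_helper5_ChevBV
import Cfsg.Agent.S1043
import Cfsg.Agent.S0308
import Cfsg.Agent.S0309

set_option autoImplicit false
open Cfsg

/-! Bruhat normal form for Chevalley groups: existence and uniqueness (helper5). -/

namespace Cfsg.Agent.helper5.Chev

open Cfsg.Lie

section
variable {F : Type*} [Field F] (D : ChevalleyDatum)
  (hD : D ∈ [chevG2, chevB2, chevD4, chevF4, chevE6, chevE7, chevE8])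

/-- the subgroup `U_n⁻` of the statement -/
def UnegOf (n : GL D.Idx F) : Subgroup (GL D.Idx F) :=
  Subgroup.closure {x : GL D.Idx F | ∃ (r : ℕ) (t : F), D.IsPosRoot r ∧
    (D.rootSubgroup F r).map (MulAut.conj n).toMonoidHom ≤ D.negUnipotent F ∧
      (x : Matrix D.Idx D.Idx F) = D.x F r t}

theorem UnegOf_le_U (n : GL D.Idx F) : UnegOf D n ≤ D.posUnipotent F := by
  unfold UnegOf ChevalleyDatum.posUnipotent
  apply Subgroup.closure_mono
  rintro x ⟨r, t, hr, -, hx⟩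
  exact ⟨r, t, hr, hx⟩

theorem conj_UnegOf_mem_V (n : GL D.Idx F) : ∀ u ∈ UnegOf D n, n * u * n⁻¹ ∈ D.negUnipotent F := by
  unfold UnegOf
  apply conj_closure_le
  rintro x ⟨r, t, -, hle, hx⟩
  have hxm : x ∈ D.rootSubgroup F r := Subgroup.subset_closure ⟨t, hx⟩
  have := hle (Subgroup.mem_map_of_mem _ hxm)
  simpa [MulAut.conj_apply] using this

theorem Uneg_le_UnegOf (w : List ℕ) (hw : ∀ i ∈ w, i < D.rank) :
    Uneg (F := F) D hD w ≤ UnegOf D (nW D hD w) := by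
  unfold Uneg UnegOf
  rw [Subgroup.closure_le]
  rintro g ⟨r, t, hr, hn, rfl⟩
  apply Subgroup.subset_closure
  refine ⟨r, t, hr, ?_, xG_val D hD r t⟩
  obtain ⟨ε, -, hconj⟩ := nW_conj (F := F) D hD w hw r hr.1
  rw [Subgroup.map_le_iff_le_comap]
  unfold ChevalleyDatum.rootSubgroup
  rw [Subgroup.closure_le]
  rintro y ⟨t', hy⟩
  rw [eq_xG D hD y r t' hy]
  simp only [SetLike.mem_coe, Subgroup.mem_comap, MulEquiv.coe_toMonoidHom, MulAut.conj_apply]
  rw [hconj]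
  unfold ChevalleyDatum.negUnipotent
  apply Subgroup.subset_closure
  exact ⟨_, _, hn, xG_val D hD _ _⟩

include hD in
/-- existence of the normal form -/
theorem exists_form (hC : CommOK D) (hP : PosCommOK D) (g : GL D.Idx F) (hg : g ∈ D.group F) :
    ∃ b ∈ D.borelSubgroup F, ∃ n ∈ D.monomialSubgroup F, ∃ u ∈ UnegOf D n, g = b * n * u := by
  have hNH := N_le_normalizer_H (F := F) D hD
  obtain ⟨hB, hN, hsup⟩ := Cfsg.Agent.S1043.result (F := F) D hD
  obtain ⟨P, hPB, hPN, -⟩ := chev_bnpair D hD hC hP (D.group F) hB hN hsup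
  obtain ⟨n, hn, hmem⟩ := Cfsg.Agent.S0308.result P ⟨g, hg⟩
  obtain ⟨x, hx, y, hy, e⟩ := DoubleCoset.mem_doubleCoset.mp hmem
  rw [SetLike.mem_coe, hPB, Subgroup.mem_subgroupOf] at hx hy
  rw [hPN, Subgroup.mem_subgroupOf] at hn
  have e' : g = (x : GL D.Idx F) * n * y := by
    have := congrArg Subtype.val e
    simpa using this
  obtain ⟨h, hh, w, hw, hnw⟩ := mem_N_decomp D hD _ hn
  obtain ⟨u₂, hu₂, h₂, hh₂, ey⟩ := mem_borel D hD _ (Subgroup.inv_mem _ hy)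
  have ey' : (y : GL D.Idx F) = h₂⁻¹ * u₂⁻¹ := by
    rw [← inv_inv (y : GL D.Idx F), ey, mul_inv_rev]
  obtain ⟨b, hb, u', hu', e2⟩ := bruhat_word D hD hC hP _ w rfl hw u₂⁻¹ (Subgroup.inv_mem _ hu₂)
  have hh3 : nW D hD w * h₂⁻¹ * (nW D hD w)⁻¹ ∈ D.diagonalSubgroup F :=
    (Subgroup.mem_normalizer_iff.mp (hNH (nW_mem D hD w hw)) _).mp (Subgroup.inv_mem _ hh₂)
  refine ⟨(x : GL D.Idx F) * h * (nW D hD w * h₂⁻¹ * (nW D hD w)⁻¹) * b, ?_, nW D hD w,
    nW_mem D hD w hw, u', Uneg_le_UnegOf D hD w hw hu', ?_⟩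
  · exact Subgroup.mul_mem _ (Subgroup.mul_mem _ (Subgroup.mul_mem _ hx (H_le_B D hD hh))
      (H_le_B D hD hh3)) hb
  · rw [e', hnw, ey']
    have e3 : (x : GL D.Idx F) * (h * nW D hD w) * (h₂⁻¹ * u₂⁻¹) =
        (x : GL D.Idx F) * h * (nW D hD w * h₂⁻¹ * (nW D hD w)⁻¹) * (nW D hD w * u₂⁻¹) := by group
    rw [e3, e2]
    group

include hD in
/-- uniqueness of the normal form -/
theorem unique_form (hC : CommOK D) (hP : PosCommOK D) (b b' n n' u u' : GL D.Idx F)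
    (hb : b ∈ D.borelSubgroup F) (hb' : b' ∈ D.borelSubgroup F)
    (hn : n ∈ D.monomialSubgroup F) (hn' : n' ∈ D.monomialSubgroup F)
    (hu : u ∈ UnegOf D n) (hu' : u' ∈ UnegOf D n') (e : b * n * u = b' * n' * u') :
    n⁻¹ * n' ∈ D.diagonalSubgroup F ∧ (n = n' → b = b' ∧ u = u') := by
  obtain ⟨hB, hN, hsup⟩ := Cfsg.Agent.S1043.result (F := F) D hD
  obtain ⟨P, hPB, hPN, -⟩ := chev_bnpair D hD hC hP (D.group F) hB hN hsup
  have huB := U_le_B D hD (UnegOf_le_U D n hu)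
  have hu'B := U_le_B D hD (UnegOf_le_U D n' hu')
  constructor
  · have hnP : (⟨n, hN hn⟩ : ↥(D.group F)) ∈ P.N := by
      rw [hPN, Subgroup.mem_subgroupOf]; exact hn
    have hn'P : (⟨n', hN hn'⟩ : ↥(D.group F)) ∈ P.N := by
      rw [hPN, Subgroup.mem_subgroupOf]; exact hn'
    have hmem : (⟨n', hN hn'⟩ : ↥(D.group F)) ∈
        DoubleCoset.doubleCoset (⟨n, hN hn⟩ : ↥(D.group F)) (P.B : Set ↥(D.group F)) P.B := by
      rw [DoubleCoset.mem_doubleCoset]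
      refine ⟨⟨b'⁻¹ * b, hB (Subgroup.mul_mem _ (Subgroup.inv_mem _ hb') hb)⟩, ?_,
        ⟨u * u'⁻¹, hB (Subgroup.mul_mem _ huB (Subgroup.inv_mem _ hu'B))⟩, ?_, ?_⟩
      · rw [SetLike.mem_coe, hPB, Subgroup.mem_subgroupOf]
        exact Subgroup.mul_mem _ (Subgroup.inv_mem _ hb') hb
      · rw [SetLike.mem_coe, hPB, Subgroup.mem_subgroupOf]
        exact Subgroup.mul_mem _ huB (Subgroup.inv_mem _ hu'B)
      · apply Subtype.ext
        simp only [Subgroup.coe_mul]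
        have e2 : b'⁻¹ * b * n * (u * u'⁻¹) = b'⁻¹ * (b * n * u) * u'⁻¹ := by group
        rw [e2, e]
        group
    have heq := DoubleCoset.doubleCoset_eq_of_mem hmem
    have h1 := (Cfsg.Agent.S0309.result P hnP hn'P).mp heq.symm
    rw [hPB, Subgroup.mem_subgroupOf] at h1
    have h2 : n⁻¹ * n' ∈ D.borelSubgroup F ⊓ D.monomialSubgroup F :=
      ⟨by simpa using h1, Subgroup.mul_mem _ (Subgroup.inv_mem _ hn) hn'⟩
    rwa [B_inf_N D hD] at h2
  · intro hnn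
    subst hnn
    have hV : n * (u * u'⁻¹) * n⁻¹ ∈ D.negUnipotent F :=
      conj_UnegOf_mem_V D n _ (Subgroup.mul_mem _ hu (Subgroup.inv_mem _ hu'))
    have e2 : n * (u * u'⁻¹) * n⁻¹ = b⁻¹ * b' := by
      have : n * u = b⁻¹ * b' * n * u' := by
        calc n * u = b⁻¹ * (b * n * u) := by group
          _ = b⁻¹ * (b' * n * u') := by rw [e]
          _ = b⁻¹ * b' * n * u' := by group
      calc n * (u * u'⁻¹) * n⁻¹ = (n * u) * u'⁻¹ * n⁻¹ := by group
        _ = b⁻¹ * b' := by rw [this]; group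
    have hBm : n * (u * u'⁻¹) * n⁻¹ ∈ D.borelSubgroup F := by
      rw [e2]
      exact Subgroup.mul_mem _ (Subgroup.inv_mem _ hb) hb'
    have h1 : n * (u * u'⁻¹) * n⁻¹ ∈ D.borelSubgroup F ⊓ D.negUnipotent F := ⟨hBm, hV⟩
    rw [B_inf_V D hD, Subgroup.mem_bot] at h1
    have hbb : b = b' := by
      rw [e2] at h1
      exact inv_mul_eq_one.mp h1
    refine ⟨hbb, ?_⟩
    rw [hbb] at e
    exact mul_left_cancel e

end


section
variable {F : Type*} [Field F] (D : ChevalleyDatum)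
  (hD : D ∈ [chevG2, chevB2, chevD4, chevF4, chevE6, chevE7, chevE8])

include hD in
/-- `H` normalises `U_n⁻` -/
theorem H_conj_UnegOf (n h : GL D.Idx F) (hh : h ∈ D.diagonalSubgroup F) :
    ∀ u ∈ UnegOf D n, h * u * h⁻¹ ∈ UnegOf D n := by
  unfold UnegOf
  apply conj_closure_le
  rintro x ⟨r, t, hr, hle, hx⟩
  obtain ⟨χ, -, hχ⟩ := H_conj D hD h hh r hr.1
  rw [eq_xG D hD x r t hx, hχ]
  apply Subgroup.subset_closure
  exact ⟨r, χ * t, hr, hle, xG_val D hD r _⟩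

end

end Cfsg.Agent.helper5.Chev
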