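import Mathlib
import Cfsg.Agent.Lib_helper5_ChevCommChk
import Cfsg.Agent.Lib_helper5_ChevNXDefsB2

set_option autoImplicit false

namespace Cfsg.Agent.helper5.Chev

open Cfsg.Lie

def cm_rts_B2 : List (List ℕ) := [nxrt_B2_0, nxrt_B2_1]
def cm_etas_B2 : List (List ℤ) := [nxeta_B2_0, nxeta_B2_1]
def cm_tab_B2 : List (List ℕ) := [
  [0, 0, 17, 0, 17, 0, 17, 0],
  [0, 0, 0, 16, 0, 16, 0, 16],
  [17, 17, 0, 17, 33, 0, 33, 33],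
  [16, 16, 16, 0, 0, 32, 32, 32],
  [33, 33, 33, 0, 0, 49, 49, 49],
  [32, 32, 0, 32, 48, 0, 48, 48],
  [49, 0, 49, 65, 49, 65, 0, 65],
  [0, 48, 65, 48, 65, 48, 65, 0]]
def cm_base_B2 : List (ℕ × ℕ) := [(0, 1), (0, 3), (0, 5), (1, 0), (1, 2), (1, 4)]

end Cfsg.Agent.helper5.Chev
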