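import Mathlib
import Cfsg.Agent.Lib_helper5_ChevCommDefsB2

set_option autoImplicit false

namespace Cfsg.Agent.helper5.Chev

open Cfsg.Lie

set_option maxRecDepth 1000000 in
set_option maxHeartbeats 0 in
theorem cmB_B2_0_0 : commBaseColsRange chevB2 0 1 0 10 = true := by decide +kernel

theorem cmB_B2_0 : commBaseCheck chevB2 0 1 = true := by
  apply commBaseCheck_of_chunks chevB2 0 1 10 1 (by decide +kernel) (by decide +kernel) (by decide +kernel) (by decide +kernel) (by decide +kernel)
  intro k hk
  interval_cases k
  · exact cmB_B2_0_0

set_option maxRecDepth 1000000 in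
set_option maxHeartbeats 0 in
theorem cmB_B2_1_0 : commBaseColsRange chevB2 0 3 0 10 = true := by decide +kernel

theorem cmB_B2_1 : commBaseCheck chevB2 0 3 = true := by
  apply commBaseCheck_of_chunks chevB2 0 3 10 1 (by decide +kernel) (by decide +kernel) (by decide +kernel) (by decide +kernel) (by decide +kernel)
  intro k hk
  interval_cases k
  · exact cmB_B2_1_0

set_option maxRecDepth 1000000 in
set_option maxHeartbeats 0 in
theorem cmB_B2_2_0 : commBaseColsRange chevB2 0 5 0 10 = true := by decide +kernel

theorem cmB_B2_2 : commBaseCheck chevB2 0 5 = true := by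
  apply commBaseCheck_of_chunks chevB2 0 5 10 1 (by decide +kernel) (by decide +kernel) (by decide +kernel) (by decide +kernel) (by decide +kernel)
  intro k hk
  interval_cases k
  · exact cmB_B2_2_0

set_option maxRecDepth 1000000 in
set_option maxHeartbeats 0 in
theorem cmB_B2_3_0 : commBaseColsRange chevB2 1 0 0 10 = true := by decide +kernel

theorem cmB_B2_3 : commBaseCheck chevB2 1 0 = true := by
  apply commBaseCheck_of_chunks chevB2 1 0 10 1 (by decide +kernel) (by decide +kernel) (by decide +kernel) (by decide +kernel) (by decide +kernel)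
  intro k hk
  interval_cases k
  · exact cmB_B2_3_0

set_option maxRecDepth 1000000 in
set_option maxHeartbeats 0 in
theorem cmB_B2_4_0 : commBaseColsRange chevB2 1 2 0 10 = true := by decide +kernel

theorem cmB_B2_4 : commBaseCheck chevB2 1 2 = true := by
  apply commBaseCheck_of_chunks chevB2 1 2 10 1 (by decide +kernel) (by decide +kernel) (by decide +kernel) (by decide +kernel) (by decide +kernel)
  intro k hk
  interval_cases k
  · exact cmB_B2_4_0

set_option maxRecDepth 1000000 in
set_option maxHeartbeats 0 in
theorem cmB_B2_5_0 : commBaseColsRange chevB2 1 4 0 10 = true := by decide +kernel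

theorem cmB_B2_5 : commBaseCheck chevB2 1 4 = true := by
  apply commBaseCheck_of_chunks chevB2 1 4 10 1 (by decide +kernel) (by decide +kernel) (by decide +kernel) (by decide +kernel) (by decide +kernel)
  intro k hk
  interval_cases k
  · exact cmB_B2_5_0

end Cfsg.Agent.helper5.Chev
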