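import Mathlib
import Cfsg.Agent.Lib_helper5_ChevCommDefsB2

set_option autoImplicit false

namespace Cfsg.Agent.helper5.Chev

open Cfsg.Lie

set_option maxRecDepth 1000000 in
set_option maxHeartbeats 0 in
theorem cmP_B2_0_0 : pairCheckRange chevB2 cm_rts_B2 cm_etas_B2 cm_tab_B2 cm_base_B2 0 0 8 = true := by decide +kernel

set_option maxRecDepth 1000000 in
set_option maxHeartbeats 0 in
theorem cmP_B2_1_0 : pairCheckRange chevB2 cm_rts_B2 cm_etas_B2 cm_tab_B2 cm_base_B2 1 0 8 = true := by decide +kernel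

set_option maxRecDepth 1000000 in
set_option maxHeartbeats 0 in
theorem cmP_B2_2_0 : pairCheckRange chevB2 cm_rts_B2 cm_etas_B2 cm_tab_B2 cm_base_B2 2 0 8 = true := by decide +kernel

set_option maxRecDepth 1000000 in
set_option maxHeartbeats 0 in
theorem cmP_B2_3_0 : pairCheckRange chevB2 cm_rts_B2 cm_etas_B2 cm_tab_B2 cm_base_B2 3 0 8 = true := by decide +kernel

set_option maxRecDepth 1000000 in
set_option maxHeartbeats 0 in
theorem cmP_B2_4_0 : pairCheckRange chevB2 cm_rts_B2 cm_etas_B2 cm_tab_B2 cm_base_B2 4 0 8 = true := by decide +kernel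

set_option maxRecDepth 1000000 in
set_option maxHeartbeats 0 in
theorem cmP_B2_5_0 : pairCheckRange chevB2 cm_rts_B2 cm_etas_B2 cm_tab_B2 cm_base_B2 5 0 8 = true := by decide +kernel

set_option maxRecDepth 1000000 in
set_option maxHeartbeats 0 in
theorem cmP_B2_6_0 : pairCheckRange chevB2 cm_rts_B2 cm_etas_B2 cm_tab_B2 cm_base_B2 6 0 8 = true := by decide +kernel

set_option maxRecDepth 1000000 in
set_option maxHeartbeats 0 in
theorem cmP_B2_7_0 : pairCheckRange chevB2 cm_rts_B2 cm_etas_B2 cm_tab_B2 cm_base_B2 7 0 8 = true := by decide +kernel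

end Cfsg.Agent.helper5.Chev
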