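import Mathlib
import Cfsg.Agent.Lib_helper5_ChevCommBaseB2_0
import Cfsg.Agent.Lib_helper5_ChevCommPB2_00
import Cfsg.Agent.Lib_helper5_ChevNXB2

set_option autoImplicit false

namespace Cfsg.Agent.helper5.Chev

open Cfsg.Lie

set_option maxRecDepth 1000000 in
set_option maxHeartbeats 0 in
theorem cm_neg_B2 : ∀ r < chevB2.nroots, chevB2.neg r + r + 1 = chevB2.nroots := by decide +kernel

theorem commOK_B2 : CommOK chevB2 := by
  refine ⟨cm_rts_B2, cm_etas_B2, cm_tab_B2, cm_base_B2, cm_neg_B2, ?_, ?_, ?_⟩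
  · intro i hi
    have hn : chevB2.rank = 2 := rfl
    rw [hn] at hi
    interval_cases i
    · exact ⟨nxca_B2_0, nxTab_B2_0⟩
    · exact ⟨nxca_B2_1, nxTab_B2_1⟩
  · intro p hp
    simp only [cm_base_B2, List.mem_cons, List.not_mem_nil, or_false] at hp
    rcases hp with rfl | rfl | rfl | rfl | rfl | rfl
    · exact cmB_B2_0
    · exact cmB_B2_1
    · exact cmB_B2_2
    · exact cmB_B2_3
    · exact cmB_B2_4
    · exact cmB_B2_5
  · intro r hr
    have hn : chevB2.nroots = 8 := rfl
    rw [hn] at hr
    interval_cases r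
    · apply pairCheck_of_chunks chevB2 cm_rts_B2 cm_etas_B2 cm_tab_B2 cm_base_B2 0 8 1 (by decide +kernel) (by decide +kernel)
      intro k hk
      interval_cases k
      · exact cmP_B2_0_0
    · apply pairCheck_of_chunks chevB2 cm_rts_B2 cm_etas_B2 cm_tab_B2 cm_base_B2 1 8 1 (by decide +kernel) (by decide +kernel)
      intro k hk
      interval_cases k
      · exact cmP_B2_1_0
    · apply pairCheck_of_chunks chevB2 cm_rts_B2 cm_etas_B2 cm_tab_B2 cm_base_B2 2 8 1 (by decide +kernel) (by decide +kernel)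
      intro k hk
      interval_cases k
      · exact cmP_B2_2_0
    · apply pairCheck_of_chunks chevB2 cm_rts_B2 cm_etas_B2 cm_tab_B2 cm_base_B2 3 8 1 (by decide +kernel) (by decide +kernel)
      intro k hk
      interval_cases k
      · exact cmP_B2_3_0
    · apply pairCheck_of_chunks chevB2 cm_rts_B2 cm_etas_B2 cm_tab_B2 cm_base_B2 4 8 1 (by decide +kernel) (by decide +kernel)
      intro k hk
      interval_cases k
      · exact cmP_B2_4_0
    · apply pairCheck_of_chunks chevB2 cm_rts_B2 cm_etas_B2 cm_tab_B2 cm_base_B2 5 8 1 (by decide +kernel) (by decide +kernel)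
      intro k hk
      interval_cases k
      · exact cmP_B2_5_0
    · apply pairCheck_of_chunks chevB2 cm_rts_B2 cm_etas_B2 cm_tab_B2 cm_base_B2 6 8 1 (by decide +kernel) (by decide +kernel)
      intro k hk
      interval_cases k
      · exact cmP_B2_6_0
    · apply pairCheck_of_chunks chevB2 cm_rts_B2 cm_etas_B2 cm_tab_B2 cm_base_B2 7 8 1 (by decide +kernel) (by decide +kernel)
      intro k hk
      interval_cases k
      · exact cmP_B2_7_0

end Cfsg.Agent.helper5.Chev
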