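import Mathlib
import Cfsg.Agent.Lib_helper5_ChevCommChk
import Cfsg.Agent.Lib_helper5_ChevNXDefsD4

set_option autoImplicit false

namespace Cfsg.Agent.helper5.Chev

open Cfsg.Lie

def cm_rts_D4 : List (List ℕ) := [nxrt_D4_0, nxrt_D4_1, nxrt_D4_2, nxrt_D4_3]
def cm_etas_D4 : List (List ℤ) := [nxeta_D4_0, nxeta_D4_1, nxeta_D4_2, nxeta_D4_3]
def cm_tab_D4 : List (List ℕ) := [
  [0, 0, 19, 18, 35, 0, 16, 35, 34, 51, 0, 0, 19, 18, 0, 19, 18, 35, 16, 16, 35, 34, 51, 0],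
  [17, 0, 33, 33, 17, 49, 33, 17, 17, 17, 49, 49, 33, 33, 65, 33, 33, 49, 33, 33, 49, 49, 0, 65],
  [35, 49, 0, 35, 51, 65, 35, 51, 35, 35, 65, 49, 67, 51, 49, 81, 65, 51, 51, 65, 51, 0, 67, 81],
  [34, 49, 34, 0, 50, 66, 34, 34, 50, 34, 49, 65, 50, 66, 49, 66, 82, 50, 50, 65, 0, 50, 66, 82],
  [51, 51, 67, 66, 0, 82, 51, 51, 51, 67, 67, 66, 83, 82, 82, 67, 66, 98, 67, 0, 83, 82, 67, 98],
  [65, 65, 81, 82, 98, 0, 65, 81, 82, 98, 65, 65, 81, 82, 81, 97, 98, 114, 0, 81, 97, 98, 114, 81],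
  [32, 48, 32, 32, 32, 48, 0, 48, 48, 32, 64, 64, 48, 48, 48, 64, 64, 0, 64, 80, 48, 48, 64, 80],
  [51, 51, 67, 51, 51, 67, 64, 0, 51, 67, 80, 64, 83, 67, 80, 67, 0, 83, 80, 64, 96, 80, 67, 96],
  [50, 50, 50, 66, 50, 66, 64, 50, 0, 66, 64, 80, 66, 82, 80, 0, 66, 82, 82, 64, 82, 98, 66, 98],
  [67, 67, 67, 67, 83, 83, 67, 83, 82, 0, 83, 82, 99, 98, 0, 99, 98, 83, 98, 98, 83, 82, 114, 114],
  [65, 65, 81, 65, 81, 65, 80, 96, 80, 96, 0, 65, 81, 0, 81, 97, 81, 97, 80, 96, 112, 96, 112, 81],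
  [65, 65, 65, 81, 81, 65, 80, 80, 96, 96, 65, 0, 0, 81, 81, 81, 97, 97, 80, 97, 97, 113, 113, 81],
  [83, 83, 83, 99, 99, 83, 99, 99, 115, 115, 83, 0, 0, 99, 99, 99, 115, 115, 99, 115, 115, 131, 131, 99],
  [82, 82, 98, 82, 98, 82, 98, 114, 98, 114, 0, 82, 98, 0, 98, 114, 98, 114, 98, 114, 130, 114, 130, 98],
  [81, 81, 81, 81, 97, 97, 81, 97, 97, 0, 97, 97, 113, 113, 0, 113, 113, 97, 113, 113, 97, 97, 129, 129],
  [97, 97, 97, 113, 97, 113, 113, 97, 0, 115, 113, 129, 115, 131, 129, 0, 113, 131, 131, 113, 131, 147, 115, 147],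
  [98, 98, 114, 98, 98, 114, 113, 0, 98, 114, 129, 113, 130, 114, 129, 114, 0, 130, 129, 113, 145, 129, 114, 145],
  [114, 130, 114, 114, 114, 130, 0, 131, 130, 114, 147, 146, 131, 130, 130, 147, 146, 0, 147, 163, 131, 130, 147, 163],
  [80, 80, 96, 98, 114, 0, 80, 96, 98, 114, 80, 80, 96, 98, 96, 112, 114, 130, 0, 96, 112, 114, 130, 96],
  [96, 96, 112, 113, 0, 129, 96, 96, 96, 112, 112, 113, 128, 129, 129, 112, 113, 145, 112, 0, 128, 129, 112, 145],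
  [112, 128, 112, 0, 131, 147, 112, 112, 128, 112, 128, 144, 131, 147, 128, 147, 163, 131, 128, 144, 0, 128, 147, 163],
  [114, 129, 0, 114, 130, 145, 114, 130, 114, 114, 145, 129, 146, 130, 129, 161, 145, 130, 130, 145, 130, 0, 146, 161],
  [130, 0, 147, 146, 130, 163, 146, 130, 130, 130, 163, 162, 147, 146, 179, 147, 146, 163, 146, 146, 163, 162, 0, 179],
  [0, 145, 163, 161, 179, 145, 161, 179, 177, 195, 145, 145, 163, 161, 145, 163, 161, 179, 161, 161, 179, 177, 195, 0]]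
def cm_base_D4 : List (ℕ × ℕ) := [(0, 1), (0, 5), (0, 10), (0, 11), (0, 14)]

end Cfsg.Agent.helper5.Chev
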