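import Mathlib
import Cfsg.Agent.Lib_helper5_ChevCommDefsD4

set_option autoImplicit false

namespace Cfsg.Agent.helper5.Chev

open Cfsg.Lie

set_option maxRecDepth 1000000 in
set_option maxHeartbeats 0 in
theorem cmB_D4_0_0 : commBaseColsRange chevD4 0 1 0 28 = true := by decide +kernel

theorem cmB_D4_0 : commBaseCheck chevD4 0 1 = true := by
  apply commBaseCheck_of_chunks chevD4 0 1 28 1 (by decide +kernel) (by decide +kernel) (by decide +kernel) (by decide +kernel) (by decide +kernel)
  intro k hk
  interval_cases k
  · exact cmB_D4_0_0

set_option maxRecDepth 1000000 in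
set_option maxHeartbeats 0 in
theorem cmB_D4_1_0 : commBaseColsRange chevD4 0 5 0 28 = true := by decide +kernel

theorem cmB_D4_1 : commBaseCheck chevD4 0 5 = true := by
  apply commBaseCheck_of_chunks chevD4 0 5 28 1 (by decide +kernel) (by decide +kernel) (by decide +kernel) (by decide +kernel) (by decide +kernel)
  intro k hk
  interval_cases k
  · exact cmB_D4_1_0

set_option maxRecDepth 1000000 in
set_option maxHeartbeats 0 in
theorem cmB_D4_2_0 : commBaseColsRange chevD4 0 10 0 28 = true := by decide +kernel

theorem cmB_D4_2 : commBaseCheck chevD4 0 10 = true := by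
  apply commBaseCheck_of_chunks chevD4 0 10 28 1 (by decide +kernel) (by decide +kernel) (by decide +kernel) (by decide +kernel) (by decide +kernel)
  intro k hk
  interval_cases k
  · exact cmB_D4_2_0

set_option maxRecDepth 1000000 in
set_option maxHeartbeats 0 in
theorem cmB_D4_3_0 : commBaseColsRange chevD4 0 11 0 28 = true := by decide +kernel

theorem cmB_D4_3 : commBaseCheck chevD4 0 11 = true := by
  apply commBaseCheck_of_chunks chevD4 0 11 28 1 (by decide +kernel) (by decide +kernel) (by decide +kernel) (by decide +kernel) (by decide +kernel)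
  intro k hk
  interval_cases k
  · exact cmB_D4_3_0

set_option maxRecDepth 1000000 in
set_option maxHeartbeats 0 in
theorem cmB_D4_4_0 : commBaseColsRange chevD4 0 14 0 28 = true := by decide +kernel

theorem cmB_D4_4 : commBaseCheck chevD4 0 14 = true := by
  apply commBaseCheck_of_chunks chevD4 0 14 28 1 (by decide +kernel) (by decide +kernel) (by decide +kernel) (by decide +kernel) (by decide +kernel)
  intro k hk
  interval_cases k
  · exact cmB_D4_4_0

end Cfsg.Agent.helper5.Chev
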