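import Mathlib
import Cfsg.Agent.Lib_helper5_ChevCommDefsD4

set_option autoImplicit false

namespace Cfsg.Agent.helper5.Chev

open Cfsg.Lie

set_option maxRecDepth 1000000 in
set_option maxHeartbeats 0 in
theorem cmP_D4_0_0 : pairCheckRange chevD4 cm_rts_D4 cm_etas_D4 cm_tab_D4 cm_base_D4 0 0 24 = true := by decide +kernel

set_option maxRecDepth 1000000 in
set_option maxHeartbeats 0 in
theorem cmP_D4_1_0 : pairCheckRange chevD4 cm_rts_D4 cm_etas_D4 cm_tab_D4 cm_base_D4 1 0 24 = true := by decide +kernel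

set_option maxRecDepth 1000000 in
set_option maxHeartbeats 0 in
theorem cmP_D4_2_0 : pairCheckRange chevD4 cm_rts_D4 cm_etas_D4 cm_tab_D4 cm_base_D4 2 0 24 = true := by decide +kernel

set_option maxRecDepth 1000000 in
set_option maxHeartbeats 0 in
theorem cmP_D4_3_0 : pairCheckRange chevD4 cm_rts_D4 cm_etas_D4 cm_tab_D4 cm_base_D4 3 0 24 = true := by decide +kernel

set_option maxRecDepth 1000000 in
set_option maxHeartbeats 0 in
theorem cmP_D4_4_0 : pairCheckRange chevD4 cm_rts_D4 cm_etas_D4 cm_tab_D4 cm_base_D4 4 0 24 = true := by decide +kernel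

set_option maxRecDepth 1000000 in
set_option maxHeartbeats 0 in
theorem cmP_D4_5_0 : pairCheckRange chevD4 cm_rts_D4 cm_etas_D4 cm_tab_D4 cm_base_D4 5 0 24 = true := by decide +kernel

set_option maxRecDepth 1000000 in
set_option maxHeartbeats 0 in
theorem cmP_D4_6_0 : pairCheckRange chevD4 cm_rts_D4 cm_etas_D4 cm_tab_D4 cm_base_D4 6 0 24 = true := by decide +kernel

set_option maxRecDepth 1000000 in
set_option maxHeartbeats 0 in
theorem cmP_D4_7_0 : pairCheckRange chevD4 cm_rts_D4 cm_etas_D4 cm_tab_D4 cm_base_D4 7 0 24 = true := by decide +kernel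

set_option maxRecDepth 1000000 in
set_option maxHeartbeats 0 in
theorem cmP_D4_8_0 : pairCheckRange chevD4 cm_rts_D4 cm_etas_D4 cm_tab_D4 cm_base_D4 8 0 24 = true := by decide +kernel

set_option maxRecDepth 1000000 in
set_option maxHeartbeats 0 in
theorem cmP_D4_9_0 : pairCheckRange chevD4 cm_rts_D4 cm_etas_D4 cm_tab_D4 cm_base_D4 9 0 24 = true := by decide +kernel

set_option maxRecDepth 1000000 in
set_option maxHeartbeats 0 in
theorem cmP_D4_10_0 : pairCheckRange chevD4 cm_rts_D4 cm_etas_D4 cm_tab_D4 cm_base_D4 10 0 24 = true := by decide +kernel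

set_option maxRecDepth 1000000 in
set_option maxHeartbeats 0 in
theorem cmP_D4_11_0 : pairCheckRange chevD4 cm_rts_D4 cm_etas_D4 cm_tab_D4 cm_base_D4 11 0 24 = true := by decide +kernel

set_option maxRecDepth 1000000 in
set_option maxHeartbeats 0 in
theorem cmP_D4_12_0 : pairCheckRange chevD4 cm_rts_D4 cm_etas_D4 cm_tab_D4 cm_base_D4 12 0 24 = true := by decide +kernel

set_option maxRecDepth 1000000 in
set_option maxHeartbeats 0 in
theorem cmP_D4_13_0 : pairCheckRange chevD4 cm_rts_D4 cm_etas_D4 cm_tab_D4 cm_base_D4 13 0 24 = true := by decide +kernel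

set_option maxRecDepth 1000000 in
set_option maxHeartbeats 0 in
theorem cmP_D4_14_0 : pairCheckRange chevD4 cm_rts_D4 cm_etas_D4 cm_tab_D4 cm_base_D4 14 0 24 = true := by decide +kernel

set_option maxRecDepth 1000000 in
set_option maxHeartbeats 0 in
theorem cmP_D4_15_0 : pairCheckRange chevD4 cm_rts_D4 cm_etas_D4 cm_tab_D4 cm_base_D4 15 0 24 = true := by decide +kernel

set_option maxRecDepth 1000000 in
set_option maxHeartbeats 0 in
theorem cmP_D4_16_0 : pairCheckRange chevD4 cm_rts_D4 cm_etas_D4 cm_tab_D4 cm_base_D4 16 0 24 = true := by decide +kernel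

set_option maxRecDepth 1000000 in
set_option maxHeartbeats 0 in
theorem cmP_D4_17_0 : pairCheckRange chevD4 cm_rts_D4 cm_etas_D4 cm_tab_D4 cm_base_D4 17 0 24 = true := by decide +kernel

set_option maxRecDepth 1000000 in
set_option maxHeartbeats 0 in
theorem cmP_D4_18_0 : pairCheckRange chevD4 cm_rts_D4 cm_etas_D4 cm_tab_D4 cm_base_D4 18 0 24 = true := by decide +kernel

set_option maxRecDepth 1000000 in
set_option maxHeartbeats 0 in
theorem cmP_D4_19_0 : pairCheckRange chevD4 cm_rts_D4 cm_etas_D4 cm_tab_D4 cm_base_D4 19 0 24 = true := by decide +kernel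

set_option maxRecDepth 1000000 in
set_option maxHeartbeats 0 in
theorem cmP_D4_20_0 : pairCheckRange chevD4 cm_rts_D4 cm_etas_D4 cm_tab_D4 cm_base_D4 20 0 24 = true := by decide +kernel

set_option maxRecDepth 1000000 in
set_option maxHeartbeats 0 in
theorem cmP_D4_21_0 : pairCheckRange chevD4 cm_rts_D4 cm_etas_D4 cm_tab_D4 cm_base_D4 21 0 24 = true := by decide +kernel

set_option maxRecDepth 1000000 in
set_option maxHeartbeats 0 in
theorem cmP_D4_22_0 : pairCheckRange chevD4 cm_rts_D4 cm_etas_D4 cm_tab_D4 cm_base_D4 22 0 24 = true := by decide +kernel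

set_option maxRecDepth 1000000 in
set_option maxHeartbeats 0 in
theorem cmP_D4_23_0 : pairCheckRange chevD4 cm_rts_D4 cm_etas_D4 cm_tab_D4 cm_base_D4 23 0 24 = true := by decide +kernel

end Cfsg.Agent.helper5.Chev
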