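import Mathlib
import Cfsg.Agent.Lib_helper5_ChevCommBaseD4_0
import Cfsg.Agent.Lib_helper5_ChevCommPD4_00
import Cfsg.Agent.Lib_helper5_ChevNXD4

set_option autoImplicit false

namespace Cfsg.Agent.helper5.Chev

open Cfsg.Lie

set_option maxRecDepth 1000000 in
set_option maxHeartbeats 0 in
theorem cm_neg_D4 : ∀ r < chevD4.nroots, chevD4.neg r + r + 1 = chevD4.nroots := by decide +kernel

theorem commOK_D4 : CommOK chevD4 := by
  refine ⟨cm_rts_D4, cm_etas_D4, cm_tab_D4, cm_base_D4, cm_neg_D4, ?_, ?_, ?_⟩
  · intro i hi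
    have hn : chevD4.rank = 4 := rfl
    rw [hn] at hi
    interval_cases i
    · exact ⟨nxca_D4_0, nxTab_D4_0⟩
    · exact ⟨nxca_D4_1, nxTab_D4_1⟩
    · exact ⟨nxca_D4_2, nxTab_D4_2⟩
    · exact ⟨nxca_D4_3, nxTab_D4_3⟩
  · intro p hp
    simp only [cm_base_D4, List.mem_cons, List.not_mem_nil, or_false] at hp
    rcases hp with rfl | rfl | rfl | rfl | rfl
    · exact cmB_D4_0
    · exact cmB_D4_1
    · exact cmB_D4_2
    · exact cmB_D4_3
    · exact cmB_D4_4
  · intro r hr
    have hn : chevD4.nroots = 24 := rfl
    rw [hn] at hr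
    interval_cases r
    · apply pairCheck_of_chunks chevD4 cm_rts_D4 cm_etas_D4 cm_tab_D4 cm_base_D4 0 24 1 (by decide +kernel) (by decide +kernel)
      intro k hk
      interval_cases k
      · exact cmP_D4_0_0
    · apply pairCheck_of_chunks chevD4 cm_rts_D4 cm_etas_D4 cm_tab_D4 cm_base_D4 1 24 1 (by decide +kernel) (by decide +kernel)
      intro k hk
      interval_cases k
      · exact cmP_D4_1_0
    · apply pairCheck_of_chunks chevD4 cm_rts_D4 cm_etas_D4 cm_tab_D4 cm_base_D4 2 24 1 (by decide +kernel) (by decide +kernel)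
      intro k hk
      interval_cases k
      · exact cmP_D4_2_0
    · apply pairCheck_of_chunks chevD4 cm_rts_D4 cm_etas_D4 cm_tab_D4 cm_base_D4 3 24 1 (by decide +kernel) (by decide +kernel)
      intro k hk
      interval_cases k
      · exact cmP_D4_3_0
    · apply pairCheck_of_chunks chevD4 cm_rts_D4 cm_etas_D4 cm_tab_D4 cm_base_D4 4 24 1 (by decide +kernel) (by decide +kernel)
      intro k hk
      interval_cases k
      · exact cmP_D4_4_0
    · apply pairCheck_of_chunks chevD4 cm_rts_D4 cm_etas_D4 cm_tab_D4 cm_base_D4 5 24 1 (by decide +kernel) (by decide +kernel)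
      intro k hk
      interval_cases k
      · exact cmP_D4_5_0
    · apply pairCheck_of_chunks chevD4 cm_rts_D4 cm_etas_D4 cm_tab_D4 cm_base_D4 6 24 1 (by decide +kernel) (by decide +kernel)
      intro k hk
      interval_cases k
      · exact cmP_D4_6_0
    · apply pairCheck_of_chunks chevD4 cm_rts_D4 cm_etas_D4 cm_tab_D4 cm_base_D4 7 24 1 (by decide +kernel) (by decide +kernel)
      intro k hk
      interval_cases k
      · exact cmP_D4_7_0
    · apply pairCheck_of_chunks chevD4 cm_rts_D4 cm_etas_D4 cm_tab_D4 cm_base_D4 8 24 1 (by decide +kernel) (by decide +kernel)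
      intro k hk
      interval_cases k
      · exact cmP_D4_8_0
    · apply pairCheck_of_chunks chevD4 cm_rts_D4 cm_etas_D4 cm_tab_D4 cm_base_D4 9 24 1 (by decide +kernel) (by decide +kernel)
      intro k hk
      interval_cases k
      · exact cmP_D4_9_0
    · apply pairCheck_of_chunks chevD4 cm_rts_D4 cm_etas_D4 cm_tab_D4 cm_base_D4 10 24 1 (by decide +kernel) (by decide +kernel)
      intro k hk
      interval_cases k
      · exact cmP_D4_10_0
    · apply pairCheck_of_chunks chevD4 cm_rts_D4 cm_etas_D4 cm_tab_D4 cm_base_D4 11 24 1 (by decide +kernel) (by decide +kernel)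
      intro k hk
      interval_cases k
      · exact cmP_D4_11_0
    · apply pairCheck_of_chunks chevD4 cm_rts_D4 cm_etas_D4 cm_tab_D4 cm_base_D4 12 24 1 (by decide +kernel) (by decide +kernel)
      intro k hk
      interval_cases k
      · exact cmP_D4_12_0
    · apply pairCheck_of_chunks chevD4 cm_rts_D4 cm_etas_D4 cm_tab_D4 cm_base_D4 13 24 1 (by decide +kernel) (by decide +kernel)
      intro k hk
      interval_cases k
      · exact cmP_D4_13_0
    · apply pairCheck_of_chunks chevD4 cm_rts_D4 cm_etas_D4 cm_tab_D4 cm_base_D4 14 24 1 (by decide +kernel) (by decide +kernel)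
      intro k hk
      interval_cases k
      · exact cmP_D4_14_0
    · apply pairCheck_of_chunks chevD4 cm_rts_D4 cm_etas_D4 cm_tab_D4 cm_base_D4 15 24 1 (by decide +kernel) (by decide +kernel)
      intro k hk
      interval_cases k
      · exact cmP_D4_15_0
    · apply pairCheck_of_chunks chevD4 cm_rts_D4 cm_etas_D4 cm_tab_D4 cm_base_D4 16 24 1 (by decide +kernel) (by decide +kernel)
      intro k hk
      interval_cases k
      · exact cmP_D4_16_0
    · apply pairCheck_of_chunks chevD4 cm_rts_D4 cm_etas_D4 cm_tab_D4 cm_base_D4 17 24 1 (by decide +kernel) (by decide +kernel)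
      intro k hk
      interval_cases k
      · exact cmP_D4_17_0
    · apply pairCheck_of_chunks chevD4 cm_rts_D4 cm_etas_D4 cm_tab_D4 cm_base_D4 18 24 1 (by decide +kernel) (by decide +kernel)
      intro k hk
      interval_cases k
      · exact cmP_D4_18_0
    · apply pairCheck_of_chunks chevD4 cm_rts_D4 cm_etas_D4 cm_tab_D4 cm_base_D4 19 24 1 (by decide +kernel) (by decide +kernel)
      intro k hk
      interval_cases k
      · exact cmP_D4_19_0
    · apply pairCheck_of_chunks chevD4 cm_rts_D4 cm_etas_D4 cm_tab_D4 cm_base_D4 20 24 1 (by decide +kernel) (by decide +kernel)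
      intro k hk
      interval_cases k
      · exact cmP_D4_20_0
    · apply pairCheck_of_chunks chevD4 cm_rts_D4 cm_etas_D4 cm_tab_D4 cm_base_D4 21 24 1 (by decide +kernel) (by decide +kernel)
      intro k hk
      interval_cases k
      · exact cmP_D4_21_0
    · apply pairCheck_of_chunks chevD4 cm_rts_D4 cm_etas_D4 cm_tab_D4 cm_base_D4 22 24 1 (by decide +kernel) (by decide +kernel)
      intro k hk
      interval_cases k
      · exact cmP_D4_22_0
    · apply pairCheck_of_chunks chevD4 cm_rts_D4 cm_etas_D4 cm_tab_D4 cm_base_D4 23 24 1 (by decide +kernel) (by decide +kernel)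
      intro k hk
      interval_cases k
      · exact cmP_D4_23_0

end Cfsg.Agent.helper5.Chev
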