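import Mathlib
import Cfsg.Agent.Lib_helper5_ChevCommDefsE6

set_option autoImplicit false

namespace Cfsg.Agent.helper5.Chev

open Cfsg.Lie

set_option maxRecDepth 1000000 in
set_option maxHeartbeats 0 in
theorem cmB_E6_0_0 : commBaseColsRange chevE6 0 1 0 78 = true := by decide +kernel

theorem cmB_E6_0 : commBaseCheck chevE6 0 1 = true := by
  apply commBaseCheck_of_chunks chevE6 0 1 78 1 (by decide +kernel) (by decide +kernel) (by decide +kernel) (by decide +kernel) (by decide +kernel)
  intro k hk
  interval_cases k
  · exact cmB_E6_0_0

set_option maxRecDepth 1000000 in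
set_option maxHeartbeats 0 in
theorem cmB_E6_1_0 : commBaseColsRange chevE6 0 11 0 78 = true := by decide +kernel

theorem cmB_E6_1 : commBaseCheck chevE6 0 11 = true := by
  apply commBaseCheck_of_chunks chevE6 0 11 78 1 (by decide +kernel) (by decide +kernel) (by decide +kernel) (by decide +kernel) (by decide +kernel)
  intro k hk
  interval_cases k
  · exact cmB_E6_1_0

set_option maxRecDepth 1000000 in
set_option maxHeartbeats 0 in
theorem cmB_E6_2_0 : commBaseColsRange chevE6 0 46 0 78 = true := by decide +kernel

theorem cmB_E6_2 : commBaseCheck chevE6 0 46 = true := by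
  apply commBaseCheck_of_chunks chevE6 0 46 78 1 (by decide +kernel) (by decide +kernel) (by decide +kernel) (by decide +kernel) (by decide +kernel)
  intro k hk
  interval_cases k
  · exact cmB_E6_2_0

end Cfsg.Agent.helper5.Chev
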