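import Mathlib
import Cfsg.Agent.Lib_helper5_ChevCommDefsE6

set_option autoImplicit false

namespace Cfsg.Agent.helper5.Chev

open Cfsg.Lie

set_option maxRecDepth 1000000 in
set_option maxHeartbeats 0 in
theorem cmP_E6_0_0 : pairCheckRange chevE6 cm_rts_E6 cm_etas_E6 cm_tab_E6 cm_base_E6 0 0 72 = true := by decide +kernel

set_option maxRecDepth 1000000 in
set_option maxHeartbeats 0 in
theorem cmP_E6_1_0 : pairCheckRange chevE6 cm_rts_E6 cm_etas_E6 cm_tab_E6 cm_base_E6 1 0 72 = true := by decide +kernel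

set_option maxRecDepth 1000000 in
set_option maxHeartbeats 0 in
theorem cmP_E6_2_0 : pairCheckRange chevE6 cm_rts_E6 cm_etas_E6 cm_tab_E6 cm_base_E6 2 0 72 = true := by decide +kernel

set_option maxRecDepth 1000000 in
set_option maxHeartbeats 0 in
theorem cmP_E6_3_0 : pairCheckRange chevE6 cm_rts_E6 cm_etas_E6 cm_tab_E6 cm_base_E6 3 0 72 = true := by decide +kernel

set_option maxRecDepth 1000000 in
set_option maxHeartbeats 0 in
theorem cmP_E6_4_0 : pairCheckRange chevE6 cm_rts_E6 cm_etas_E6 cm_tab_E6 cm_base_E6 4 0 72 = true := by decide +kernel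

set_option maxRecDepth 1000000 in
set_option maxHeartbeats 0 in
theorem cmP_E6_5_0 : pairCheckRange chevE6 cm_rts_E6 cm_etas_E6 cm_tab_E6 cm_base_E6 5 0 72 = true := by decide +kernel

set_option maxRecDepth 1000000 in
set_option maxHeartbeats 0 in
theorem cmP_E6_6_0 : pairCheckRange chevE6 cm_rts_E6 cm_etas_E6 cm_tab_E6 cm_base_E6 6 0 72 = true := by decide +kernel

set_option maxRecDepth 1000000 in
set_option maxHeartbeats 0 in
theorem cmP_E6_7_0 : pairCheckRange chevE6 cm_rts_E6 cm_etas_E6 cm_tab_E6 cm_base_E6 7 0 72 = true := by decide +kernel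

set_option maxRecDepth 1000000 in
set_option maxHeartbeats 0 in
theorem cmP_E6_8_0 : pairCheckRange chevE6 cm_rts_E6 cm_etas_E6 cm_tab_E6 cm_base_E6 8 0 72 = true := by decide +kernel

set_option maxRecDepth 1000000 in
set_option maxHeartbeats 0 in
theorem cmP_E6_9_0 : pairCheckRange chevE6 cm_rts_E6 cm_etas_E6 cm_tab_E6 cm_base_E6 9 0 72 = true := by decide +kernel

set_option maxRecDepth 1000000 in
set_option maxHeartbeats 0 in
theorem cmP_E6_10_0 : pairCheckRange chevE6 cm_rts_E6 cm_etas_E6 cm_tab_E6 cm_base_E6 10 0 72 = true := by decide +kernel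

set_option maxRecDepth 1000000 in
set_option maxHeartbeats 0 in
theorem cmP_E6_11_0 : pairCheckRange chevE6 cm_rts_E6 cm_etas_E6 cm_tab_E6 cm_base_E6 11 0 72 = true := by decide +kernel

set_option maxRecDepth 1000000 in
set_option maxHeartbeats 0 in
theorem cmP_E6_12_0 : pairCheckRange chevE6 cm_rts_E6 cm_etas_E6 cm_tab_E6 cm_base_E6 12 0 72 = true := by decide +kernel

set_option maxRecDepth 1000000 in
set_option maxHeartbeats 0 in
theorem cmP_E6_13_0 : pairCheckRange chevE6 cm_rts_E6 cm_etas_E6 cm_tab_E6 cm_base_E6 13 0 72 = true := by decide +kernel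

set_option maxRecDepth 1000000 in
set_option maxHeartbeats 0 in
theorem cmP_E6_14_0 : pairCheckRange chevE6 cm_rts_E6 cm_etas_E6 cm_tab_E6 cm_base_E6 14 0 72 = true := by decide +kernel

set_option maxRecDepth 1000000 in
set_option maxHeartbeats 0 in
theorem cmP_E6_15_0 : pairCheckRange chevE6 cm_rts_E6 cm_etas_E6 cm_tab_E6 cm_base_E6 15 0 72 = true := by decide +kernel

set_option maxRecDepth 1000000 in
set_option maxHeartbeats 0 in
theorem cmP_E6_16_0 : pairCheckRange chevE6 cm_rts_E6 cm_etas_E6 cm_tab_E6 cm_base_E6 16 0 72 = true := by decide +kernel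

set_option maxRecDepth 1000000 in
set_option maxHeartbeats 0 in
theorem cmP_E6_17_0 : pairCheckRange chevE6 cm_rts_E6 cm_etas_E6 cm_tab_E6 cm_base_E6 17 0 72 = true := by decide +kernel

set_option maxRecDepth 1000000 in
set_option maxHeartbeats 0 in
theorem cmP_E6_18_0 : pairCheckRange chevE6 cm_rts_E6 cm_etas_E6 cm_tab_E6 cm_base_E6 18 0 72 = true := by decide +kernel

set_option maxRecDepth 1000000 in
set_option maxHeartbeats 0 in
theorem cmP_E6_19_0 : pairCheckRange chevE6 cm_rts_E6 cm_etas_E6 cm_tab_E6 cm_base_E6 19 0 72 = true := by decide +kernel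

set_option maxRecDepth 1000000 in
set_option maxHeartbeats 0 in
theorem cmP_E6_20_0 : pairCheckRange chevE6 cm_rts_E6 cm_etas_E6 cm_tab_E6 cm_base_E6 20 0 72 = true := by decide +kernel

set_option maxRecDepth 1000000 in
set_option maxHeartbeats 0 in
theorem cmP_E6_21_0 : pairCheckRange chevE6 cm_rts_E6 cm_etas_E6 cm_tab_E6 cm_base_E6 21 0 72 = true := by decide +kernel

set_option maxRecDepth 1000000 in
set_option maxHeartbeats 0 in
theorem cmP_E6_22_0 : pairCheckRange chevE6 cm_rts_E6 cm_etas_E6 cm_tab_E6 cm_base_E6 22 0 72 = true := by decide +kernel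

set_option maxRecDepth 1000000 in
set_option maxHeartbeats 0 in
theorem cmP_E6_23_0 : pairCheckRange chevE6 cm_rts_E6 cm_etas_E6 cm_tab_E6 cm_base_E6 23 0 72 = true := by decide +kernel

set_option maxRecDepth 1000000 in
set_option maxHeartbeats 0 in
theorem cmP_E6_24_0 : pairCheckRange chevE6 cm_rts_E6 cm_etas_E6 cm_tab_E6 cm_base_E6 24 0 72 = true := by decide +kernel

set_option maxRecDepth 1000000 in
set_option maxHeartbeats 0 in
theorem cmP_E6_25_0 : pairCheckRange chevE6 cm_rts_E6 cm_etas_E6 cm_tab_E6 cm_base_E6 25 0 72 = true := by decide +kernel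

set_option maxRecDepth 1000000 in
set_option maxHeartbeats 0 in
theorem cmP_E6_26_0 : pairCheckRange chevE6 cm_rts_E6 cm_etas_E6 cm_tab_E6 cm_base_E6 26 0 72 = true := by decide +kernel

set_option maxRecDepth 1000000 in
set_option maxHeartbeats 0 in
theorem cmP_E6_27_0 : pairCheckRange chevE6 cm_rts_E6 cm_etas_E6 cm_tab_E6 cm_base_E6 27 0 72 = true := by decide +kernel

set_option maxRecDepth 1000000 in
set_option maxHeartbeats 0 in
theorem cmP_E6_28_0 : pairCheckRange chevE6 cm_rts_E6 cm_etas_E6 cm_tab_E6 cm_base_E6 28 0 72 = true := by decide +kernel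

set_option maxRecDepth 1000000 in
set_option maxHeartbeats 0 in
theorem cmP_E6_29_0 : pairCheckRange chevE6 cm_rts_E6 cm_etas_E6 cm_tab_E6 cm_base_E6 29 0 72 = true := by decide +kernel

set_option maxRecDepth 1000000 in
set_option maxHeartbeats 0 in
theorem cmP_E6_30_0 : pairCheckRange chevE6 cm_rts_E6 cm_etas_E6 cm_tab_E6 cm_base_E6 30 0 72 = true := by decide +kernel

set_option maxRecDepth 1000000 in
set_option maxHeartbeats 0 in
theorem cmP_E6_31_0 : pairCheckRange chevE6 cm_rts_E6 cm_etas_E6 cm_tab_E6 cm_base_E6 31 0 72 = true := by decide +kernel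

set_option maxRecDepth 1000000 in
set_option maxHeartbeats 0 in
theorem cmP_E6_32_0 : pairCheckRange chevE6 cm_rts_E6 cm_etas_E6 cm_tab_E6 cm_base_E6 32 0 72 = true := by decide +kernel

set_option maxRecDepth 1000000 in
set_option maxHeartbeats 0 in
theorem cmP_E6_33_0 : pairCheckRange chevE6 cm_rts_E6 cm_etas_E6 cm_tab_E6 cm_base_E6 33 0 72 = true := by decide +kernel

set_option maxRecDepth 1000000 in
set_option maxHeartbeats 0 in
theorem cmP_E6_34_0 : pairCheckRange chevE6 cm_rts_E6 cm_etas_E6 cm_tab_E6 cm_base_E6 34 0 72 = true := by decide +kernel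

set_option maxRecDepth 1000000 in
set_option maxHeartbeats 0 in
theorem cmP_E6_35_0 : pairCheckRange chevE6 cm_rts_E6 cm_etas_E6 cm_tab_E6 cm_base_E6 35 0 72 = true := by decide +kernel

end Cfsg.Agent.helper5.Chev
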