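import Mathlib
import Cfsg.Agent.Lib_helper5_ChevCommDefsE6

set_option autoImplicit false

namespace Cfsg.Agent.helper5.Chev

open Cfsg.Lie

set_option maxRecDepth 1000000 in
set_option maxHeartbeats 0 in
theorem cmP_E6_36_0 : pairCheckRange chevE6 cm_rts_E6 cm_etas_E6 cm_tab_E6 cm_base_E6 36 0 72 = true := by decide +kernel

set_option maxRecDepth 1000000 in
set_option maxHeartbeats 0 in
theorem cmP_E6_37_0 : pairCheckRange chevE6 cm_rts_E6 cm_etas_E6 cm_tab_E6 cm_base_E6 37 0 72 = true := by decide +kernel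

set_option maxRecDepth 1000000 in
set_option maxHeartbeats 0 in
theorem cmP_E6_38_0 : pairCheckRange chevE6 cm_rts_E6 cm_etas_E6 cm_tab_E6 cm_base_E6 38 0 72 = true := by decide +kernel

set_option maxRecDepth 1000000 in
set_option maxHeartbeats 0 in
theorem cmP_E6_39_0 : pairCheckRange chevE6 cm_rts_E6 cm_etas_E6 cm_tab_E6 cm_base_E6 39 0 72 = true := by decide +kernel

set_option maxRecDepth 1000000 in
set_option maxHeartbeats 0 in
theorem cmP_E6_40_0 : pairCheckRange chevE6 cm_rts_E6 cm_etas_E6 cm_tab_E6 cm_base_E6 40 0 72 = true := by decide +kernel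

set_option maxRecDepth 1000000 in
set_option maxHeartbeats 0 in
theorem cmP_E6_41_0 : pairCheckRange chevE6 cm_rts_E6 cm_etas_E6 cm_tab_E6 cm_base_E6 41 0 72 = true := by decide +kernel

set_option maxRecDepth 1000000 in
set_option maxHeartbeats 0 in
theorem cmP_E6_42_0 : pairCheckRange chevE6 cm_rts_E6 cm_etas_E6 cm_tab_E6 cm_base_E6 42 0 72 = true := by decide +kernel

set_option maxRecDepth 1000000 in
set_option maxHeartbeats 0 in
theorem cmP_E6_43_0 : pairCheckRange chevE6 cm_rts_E6 cm_etas_E6 cm_tab_E6 cm_base_E6 43 0 72 = true := by decide +kernel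

set_option maxRecDepth 1000000 in
set_option maxHeartbeats 0 in
theorem cmP_E6_44_0 : pairCheckRange chevE6 cm_rts_E6 cm_etas_E6 cm_tab_E6 cm_base_E6 44 0 72 = true := by decide +kernel

set_option maxRecDepth 1000000 in
set_option maxHeartbeats 0 in
theorem cmP_E6_45_0 : pairCheckRange chevE6 cm_rts_E6 cm_etas_E6 cm_tab_E6 cm_base_E6 45 0 72 = true := by decide +kernel

set_option maxRecDepth 1000000 in
set_option maxHeartbeats 0 in
theorem cmP_E6_46_0 : pairCheckRange chevE6 cm_rts_E6 cm_etas_E6 cm_tab_E6 cm_base_E6 46 0 72 = true := by decide +kernel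

set_option maxRecDepth 1000000 in
set_option maxHeartbeats 0 in
theorem cmP_E6_47_0 : pairCheckRange chevE6 cm_rts_E6 cm_etas_E6 cm_tab_E6 cm_base_E6 47 0 72 = true := by decide +kernel

set_option maxRecDepth 1000000 in
set_option maxHeartbeats 0 in
theorem cmP_E6_48_0 : pairCheckRange chevE6 cm_rts_E6 cm_etas_E6 cm_tab_E6 cm_base_E6 48 0 72 = true := by decide +kernel

set_option maxRecDepth 1000000 in
set_option maxHeartbeats 0 in
theorem cmP_E6_49_0 : pairCheckRange chevE6 cm_rts_E6 cm_etas_E6 cm_tab_E6 cm_base_E6 49 0 72 = true := by decide +kernel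

set_option maxRecDepth 1000000 in
set_option maxHeartbeats 0 in
theorem cmP_E6_50_0 : pairCheckRange chevE6 cm_rts_E6 cm_etas_E6 cm_tab_E6 cm_base_E6 50 0 72 = true := by decide +kernel

set_option maxRecDepth 1000000 in
set_option maxHeartbeats 0 in
theorem cmP_E6_51_0 : pairCheckRange chevE6 cm_rts_E6 cm_etas_E6 cm_tab_E6 cm_base_E6 51 0 72 = true := by decide +kernel

set_option maxRecDepth 1000000 in
set_option maxHeartbeats 0 in
theorem cmP_E6_52_0 : pairCheckRange chevE6 cm_rts_E6 cm_etas_E6 cm_tab_E6 cm_base_E6 52 0 72 = true := by decide +kernel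

set_option maxRecDepth 1000000 in
set_option maxHeartbeats 0 in
theorem cmP_E6_53_0 : pairCheckRange chevE6 cm_rts_E6 cm_etas_E6 cm_tab_E6 cm_base_E6 53 0 72 = true := by decide +kernel

set_option maxRecDepth 1000000 in
set_option maxHeartbeats 0 in
theorem cmP_E6_54_0 : pairCheckRange chevE6 cm_rts_E6 cm_etas_E6 cm_tab_E6 cm_base_E6 54 0 72 = true := by decide +kernel

set_option maxRecDepth 1000000 in
set_option maxHeartbeats 0 in
theorem cmP_E6_55_0 : pairCheckRange chevE6 cm_rts_E6 cm_etas_E6 cm_tab_E6 cm_base_E6 55 0 72 = true := by decide +kernel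

set_option maxRecDepth 1000000 in
set_option maxHeartbeats 0 in
theorem cmP_E6_56_0 : pairCheckRange chevE6 cm_rts_E6 cm_etas_E6 cm_tab_E6 cm_base_E6 56 0 72 = true := by decide +kernel

set_option maxRecDepth 1000000 in
set_option maxHeartbeats 0 in
theorem cmP_E6_57_0 : pairCheckRange chevE6 cm_rts_E6 cm_etas_E6 cm_tab_E6 cm_base_E6 57 0 72 = true := by decide +kernel

set_option maxRecDepth 1000000 in
set_option maxHeartbeats 0 in
theorem cmP_E6_58_0 : pairCheckRange chevE6 cm_rts_E6 cm_etas_E6 cm_tab_E6 cm_base_E6 58 0 72 = true := by decide +kernel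

set_option maxRecDepth 1000000 in
set_option maxHeartbeats 0 in
theorem cmP_E6_59_0 : pairCheckRange chevE6 cm_rts_E6 cm_etas_E6 cm_tab_E6 cm_base_E6 59 0 72 = true := by decide +kernel

set_option maxRecDepth 1000000 in
set_option maxHeartbeats 0 in
theorem cmP_E6_60_0 : pairCheckRange chevE6 cm_rts_E6 cm_etas_E6 cm_tab_E6 cm_base_E6 60 0 72 = true := by decide +kernel

set_option maxRecDepth 1000000 in
set_option maxHeartbeats 0 in
theorem cmP_E6_61_0 : pairCheckRange chevE6 cm_rts_E6 cm_etas_E6 cm_tab_E6 cm_base_E6 61 0 72 = true := by decide +kernel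

set_option maxRecDepth 1000000 in
set_option maxHeartbeats 0 in
theorem cmP_E6_62_0 : pairCheckRange chevE6 cm_rts_E6 cm_etas_E6 cm_tab_E6 cm_base_E6 62 0 72 = true := by decide +kernel

set_option maxRecDepth 1000000 in
set_option maxHeartbeats 0 in
theorem cmP_E6_63_0 : pairCheckRange chevE6 cm_rts_E6 cm_etas_E6 cm_tab_E6 cm_base_E6 63 0 72 = true := by decide +kernel

set_option maxRecDepth 1000000 in
set_option maxHeartbeats 0 in
theorem cmP_E6_64_0 : pairCheckRange chevE6 cm_rts_E6 cm_etas_E6 cm_tab_E6 cm_base_E6 64 0 72 = true := by decide +kernel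

set_option maxRecDepth 1000000 in
set_option maxHeartbeats 0 in
theorem cmP_E6_65_0 : pairCheckRange chevE6 cm_rts_E6 cm_etas_E6 cm_tab_E6 cm_base_E6 65 0 72 = true := by decide +kernel

set_option maxRecDepth 1000000 in
set_option maxHeartbeats 0 in
theorem cmP_E6_66_0 : pairCheckRange chevE6 cm_rts_E6 cm_etas_E6 cm_tab_E6 cm_base_E6 66 0 72 = true := by decide +kernel

set_option maxRecDepth 1000000 in
set_option maxHeartbeats 0 in
theorem cmP_E6_67_0 : pairCheckRange chevE6 cm_rts_E6 cm_etas_E6 cm_tab_E6 cm_base_E6 67 0 72 = true := by decide +kernel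

set_option maxRecDepth 1000000 in
set_option maxHeartbeats 0 in
theorem cmP_E6_68_0 : pairCheckRange chevE6 cm_rts_E6 cm_etas_E6 cm_tab_E6 cm_base_E6 68 0 72 = true := by decide +kernel

set_option maxRecDepth 1000000 in
set_option maxHeartbeats 0 in
theorem cmP_E6_69_0 : pairCheckRange chevE6 cm_rts_E6 cm_etas_E6 cm_tab_E6 cm_base_E6 69 0 72 = true := by decide +kernel

set_option maxRecDepth 1000000 in
set_option maxHeartbeats 0 in
theorem cmP_E6_70_0 : pairCheckRange chevE6 cm_rts_E6 cm_etas_E6 cm_tab_E6 cm_base_E6 70 0 72 = true := by decide +kernel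

set_option maxRecDepth 1000000 in
set_option maxHeartbeats 0 in
theorem cmP_E6_71_0 : pairCheckRange chevE6 cm_rts_E6 cm_etas_E6 cm_tab_E6 cm_base_E6 71 0 72 = true := by decide +kernel

end Cfsg.Agent.helper5.Chev
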