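import Mathlib
import Cfsg.Agent.Lib_helper5_ChevCommBaseE6_0
import Cfsg.Agent.Lib_helper5_ChevCommPE6_00
import Cfsg.Agent.Lib_helper5_ChevCommPE6_01
import Cfsg.Agent.Lib_helper5_ChevNXE6

set_option autoImplicit false

namespace Cfsg.Agent.helper5.Chev

open Cfsg.Lie

set_option maxRecDepth 1000000 in
set_option maxHeartbeats 0 in
theorem cm_neg_E6 : ∀ r < chevE6.nroots, chevE6.neg r + r + 1 = chevE6.nroots := by decide +kernel

theorem commOK_E6 : CommOK chevE6 := by
  refine ⟨cm_rts_E6, cm_etas_E6, cm_tab_E6, cm_base_E6, cm_neg_E6, ?_, ?_, ?_⟩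
  · intro i hi
    have hn : chevE6.rank = 6 := rfl
    rw [hn] at hi
    interval_cases i
    · exact ⟨nxca_E6_0, nxTab_E6_0⟩
    · exact ⟨nxca_E6_1, nxTab_E6_1⟩
    · exact ⟨nxca_E6_2, nxTab_E6_2⟩
    · exact ⟨nxca_E6_3, nxTab_E6_3⟩
    · exact ⟨nxca_E6_4, nxTab_E6_4⟩
    · exact ⟨nxca_E6_5, nxTab_E6_5⟩
  · intro p hp
    simp only [cm_base_E6, List.mem_cons, List.not_mem_nil, or_false] at hp
    rcases hp with rfl | rfl | rfl
    · exact cmB_E6_0
    · exact cmB_E6_1
    · exact cmB_E6_2
  · intro r hr
    have hn : chevE6.nroots = 72 := rfl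
    rw [hn] at hr
    interval_cases r
    · apply pairCheck_of_chunks chevE6 cm_rts_E6 cm_etas_E6 cm_tab_E6 cm_base_E6 0 72 1 (by decide +kernel) (by decide +kernel)
      intro k hk
      interval_cases k
      · exact cmP_E6_0_0
    · apply pairCheck_of_chunks chevE6 cm_rts_E6 cm_etas_E6 cm_tab_E6 cm_base_E6 1 72 1 (by decide +kernel) (by decide +kernel)
      intro k hk
      interval_cases k
      · exact cmP_E6_1_0
    · apply pairCheck_of_chunks chevE6 cm_rts_E6 cm_etas_E6 cm_tab_E6 cm_base_E6 2 72 1 (by decide +kernel) (by decide +kernel)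
      intro k hk
      interval_cases k
      · exact cmP_E6_2_0
    · apply pairCheck_of_chunks chevE6 cm_rts_E6 cm_etas_E6 cm_tab_E6 cm_base_E6 3 72 1 (by decide +kernel) (by decide +kernel)
      intro k hk
      interval_cases k
      · exact cmP_E6_3_0
    · apply pairCheck_of_chunks chevE6 cm_rts_E6 cm_etas_E6 cm_tab_E6 cm_base_E6 4 72 1 (by decide +kernel) (by decide +kernel)
      intro k hk
      interval_cases k
      · exact cmP_E6_4_0
    · apply pairCheck_of_chunks chevE6 cm_rts_E6 cm_etas_E6 cm_tab_E6 cm_base_E6 5 72 1 (by decide +kernel) (by decide +kernel)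
      intro k hk
      interval_cases k
      · exact cmP_E6_5_0
    · apply pairCheck_of_chunks chevE6 cm_rts_E6 cm_etas_E6 cm_tab_E6 cm_base_E6 6 72 1 (by decide +kernel) (by decide +kernel)
      intro k hk
      interval_cases k
      · exact cmP_E6_6_0
    · apply pairCheck_of_chunks chevE6 cm_rts_E6 cm_etas_E6 cm_tab_E6 cm_base_E6 7 72 1 (by decide +kernel) (by decide +kernel)
      intro k hk
      interval_cases k
      · exact cmP_E6_7_0
    · apply pairCheck_of_chunks chevE6 cm_rts_E6 cm_etas_E6 cm_tab_E6 cm_base_E6 8 72 1 (by decide +kernel) (by decide +kernel)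
      intro k hk
      interval_cases k
      · exact cmP_E6_8_0
    · apply pairCheck_of_chunks chevE6 cm_rts_E6 cm_etas_E6 cm_tab_E6 cm_base_E6 9 72 1 (by decide +kernel) (by decide +kernel)
      intro k hk
      interval_cases k
      · exact cmP_E6_9_0
    · apply pairCheck_of_chunks chevE6 cm_rts_E6 cm_etas_E6 cm_tab_E6 cm_base_E6 10 72 1 (by decide +kernel) (by decide +kernel)
      intro k hk
      interval_cases k
      · exact cmP_E6_10_0
    · apply pairCheck_of_chunks chevE6 cm_rts_E6 cm_etas_E6 cm_tab_E6 cm_base_E6 11 72 1 (by decide +kernel) (by decide +kernel)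
      intro k hk
      interval_cases k
      · exact cmP_E6_11_0
    · apply pairCheck_of_chunks chevE6 cm_rts_E6 cm_etas_E6 cm_tab_E6 cm_base_E6 12 72 1 (by decide +kernel) (by decide +kernel)
      intro k hk
      interval_cases k
      · exact cmP_E6_12_0
    · apply pairCheck_of_chunks chevE6 cm_rts_E6 cm_etas_E6 cm_tab_E6 cm_base_E6 13 72 1 (by decide +kernel) (by decide +kernel)
      intro k hk
      interval_cases k
      · exact cmP_E6_13_0
    · apply pairCheck_of_chunks chevE6 cm_rts_E6 cm_etas_E6 cm_tab_E6 cm_base_E6 14 72 1 (by decide +kernel) (by decide +kernel)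
      intro k hk
      interval_cases k
      · exact cmP_E6_14_0
    · apply pairCheck_of_chunks chevE6 cm_rts_E6 cm_etas_E6 cm_tab_E6 cm_base_E6 15 72 1 (by decide +kernel) (by decide +kernel)
      intro k hk
      interval_cases k
      · exact cmP_E6_15_0
    · apply pairCheck_of_chunks chevE6 cm_rts_E6 cm_etas_E6 cm_tab_E6 cm_base_E6 16 72 1 (by decide +kernel) (by decide +kernel)
      intro k hk
      interval_cases k
      · exact cmP_E6_16_0
    · apply pairCheck_of_chunks chevE6 cm_rts_E6 cm_etas_E6 cm_tab_E6 cm_base_E6 17 72 1 (by decide +kernel) (by decide +kernel)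
      intro k hk
      interval_cases k
      · exact cmP_E6_17_0
    · apply pairCheck_of_chunks chevE6 cm_rts_E6 cm_etas_E6 cm_tab_E6 cm_base_E6 18 72 1 (by decide +kernel) (by decide +kernel)
      intro k hk
      interval_cases k
      · exact cmP_E6_18_0
    · apply pairCheck_of_chunks chevE6 cm_rts_E6 cm_etas_E6 cm_tab_E6 cm_base_E6 19 72 1 (by decide +kernel) (by decide +kernel)
      intro k hk
      interval_cases k
      · exact cmP_E6_19_0
    · apply pairCheck_of_chunks chevE6 cm_rts_E6 cm_etas_E6 cm_tab_E6 cm_base_E6 20 72 1 (by decide +kernel) (by decide +kernel)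
      intro k hk
      interval_cases k
      · exact cmP_E6_20_0
    · apply pairCheck_of_chunks chevE6 cm_rts_E6 cm_etas_E6 cm_tab_E6 cm_base_E6 21 72 1 (by decide +kernel) (by decide +kernel)
      intro k hk
      interval_cases k
      · exact cmP_E6_21_0
    · apply pairCheck_of_chunks chevE6 cm_rts_E6 cm_etas_E6 cm_tab_E6 cm_base_E6 22 72 1 (by decide +kernel) (by decide +kernel)
      intro k hk
      interval_cases k
      · exact cmP_E6_22_0
    · apply pairCheck_of_chunks chevE6 cm_rts_E6 cm_etas_E6 cm_tab_E6 cm_base_E6 23 72 1 (by decide +kernel) (by decide +kernel)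
      intro k hk
      interval_cases k
      · exact cmP_E6_23_0
    · apply pairCheck_of_chunks chevE6 cm_rts_E6 cm_etas_E6 cm_tab_E6 cm_base_E6 24 72 1 (by decide +kernel) (by decide +kernel)
      intro k hk
      interval_cases k
      · exact cmP_E6_24_0
    · apply pairCheck_of_chunks chevE6 cm_rts_E6 cm_etas_E6 cm_tab_E6 cm_base_E6 25 72 1 (by decide +kernel) (by decide +kernel)
      intro k hk
      interval_cases k
      · exact cmP_E6_25_0
    · apply pairCheck_of_chunks chevE6 cm_rts_E6 cm_etas_E6 cm_tab_E6 cm_base_E6 26 72 1 (by decide +kernel) (by decide +kernel)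
      intro k hk
      interval_cases k
      · exact cmP_E6_26_0
    · apply pairCheck_of_chunks chevE6 cm_rts_E6 cm_etas_E6 cm_tab_E6 cm_base_E6 27 72 1 (by decide +kernel) (by decide +kernel)
      intro k hk
      interval_cases k
      · exact cmP_E6_27_0
    · apply pairCheck_of_chunks chevE6 cm_rts_E6 cm_etas_E6 cm_tab_E6 cm_base_E6 28 72 1 (by decide +kernel) (by decide +kernel)
      intro k hk
      interval_cases k
      · exact cmP_E6_28_0
    · apply pairCheck_of_chunks chevE6 cm_rts_E6 cm_etas_E6 cm_tab_E6 cm_base_E6 29 72 1 (by decide +kernel) (by decide +kernel)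
      intro k hk
      interval_cases k
      · exact cmP_E6_29_0
    · apply pairCheck_of_chunks chevE6 cm_rts_E6 cm_etas_E6 cm_tab_E6 cm_base_E6 30 72 1 (by decide +kernel) (by decide +kernel)
      intro k hk
      interval_cases k
      · exact cmP_E6_30_0
    · apply pairCheck_of_chunks chevE6 cm_rts_E6 cm_etas_E6 cm_tab_E6 cm_base_E6 31 72 1 (by decide +kernel) (by decide +kernel)
      intro k hk
      interval_cases k
      · exact cmP_E6_31_0
    · apply pairCheck_of_chunks chevE6 cm_rts_E6 cm_etas_E6 cm_tab_E6 cm_base_E6 32 72 1 (by decide +kernel) (by decide +kernel)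
      intro k hk
      interval_cases k
      · exact cmP_E6_32_0
    · apply pairCheck_of_chunks chevE6 cm_rts_E6 cm_etas_E6 cm_tab_E6 cm_base_E6 33 72 1 (by decide +kernel) (by decide +kernel)
      intro k hk
      interval_cases k
      · exact cmP_E6_33_0
    · apply pairCheck_of_chunks chevE6 cm_rts_E6 cm_etas_E6 cm_tab_E6 cm_base_E6 34 72 1 (by decide +kernel) (by decide +kernel)
      intro k hk
      interval_cases k
      · exact cmP_E6_34_0
    · apply pairCheck_of_chunks chevE6 cm_rts_E6 cm_etas_E6 cm_tab_E6 cm_base_E6 35 72 1 (by decide +kernel) (by decide +kernel)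
      intro k hk
      interval_cases k
      · exact cmP_E6_35_0
    · apply pairCheck_of_chunks chevE6 cm_rts_E6 cm_etas_E6 cm_tab_E6 cm_base_E6 36 72 1 (by decide +kernel) (by decide +kernel)
      intro k hk
      interval_cases k
      · exact cmP_E6_36_0
    · apply pairCheck_of_chunks chevE6 cm_rts_E6 cm_etas_E6 cm_tab_E6 cm_base_E6 37 72 1 (by decide +kernel) (by decide +kernel)
      intro k hk
      interval_cases k
      · exact cmP_E6_37_0
    · apply pairCheck_of_chunks chevE6 cm_rts_E6 cm_etas_E6 cm_tab_E6 cm_base_E6 38 72 1 (by decide +kernel) (by decide +kernel)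
      intro k hk
      interval_cases k
      · exact cmP_E6_38_0
    · apply pairCheck_of_chunks chevE6 cm_rts_E6 cm_etas_E6 cm_tab_E6 cm_base_E6 39 72 1 (by decide +kernel) (by decide +kernel)
      intro k hk
      interval_cases k
      · exact cmP_E6_39_0
    · apply pairCheck_of_chunks chevE6 cm_rts_E6 cm_etas_E6 cm_tab_E6 cm_base_E6 40 72 1 (by decide +kernel) (by decide +kernel)
      intro k hk
      interval_cases k
      · exact cmP_E6_40_0
    · apply pairCheck_of_chunks chevE6 cm_rts_E6 cm_etas_E6 cm_tab_E6 cm_base_E6 41 72 1 (by decide +kernel) (by decide +kernel)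
      intro k hk
      interval_cases k
      · exact cmP_E6_41_0
    · apply pairCheck_of_chunks chevE6 cm_rts_E6 cm_etas_E6 cm_tab_E6 cm_base_E6 42 72 1 (by decide +kernel) (by decide +kernel)
      intro k hk
      interval_cases k
      · exact cmP_E6_42_0
    · apply pairCheck_of_chunks chevE6 cm_rts_E6 cm_etas_E6 cm_tab_E6 cm_base_E6 43 72 1 (by decide +kernel) (by decide +kernel)
      intro k hk
      interval_cases k
      · exact cmP_E6_43_0
    · apply pairCheck_of_chunks chevE6 cm_rts_E6 cm_etas_E6 cm_tab_E6 cm_base_E6 44 72 1 (by decide +kernel) (by decide +kernel)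
      intro k hk
      interval_cases k
      · exact cmP_E6_44_0
    · apply pairCheck_of_chunks chevE6 cm_rts_E6 cm_etas_E6 cm_tab_E6 cm_base_E6 45 72 1 (by decide +kernel) (by decide +kernel)
      intro k hk
      interval_cases k
      · exact cmP_E6_45_0
    · apply pairCheck_of_chunks chevE6 cm_rts_E6 cm_etas_E6 cm_tab_E6 cm_base_E6 46 72 1 (by decide +kernel) (by decide +kernel)
      intro k hk
      interval_cases k
      · exact cmP_E6_46_0
    · apply pairCheck_of_chunks chevE6 cm_rts_E6 cm_etas_E6 cm_tab_E6 cm_base_E6 47 72 1 (by decide +kernel) (by decide +kernel)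
      intro k hk
      interval_cases k
      · exact cmP_E6_47_0
    · apply pairCheck_of_chunks chevE6 cm_rts_E6 cm_etas_E6 cm_tab_E6 cm_base_E6 48 72 1 (by decide +kernel) (by decide +kernel)
      intro k hk
      interval_cases k
      · exact cmP_E6_48_0
    · apply pairCheck_of_chunks chevE6 cm_rts_E6 cm_etas_E6 cm_tab_E6 cm_base_E6 49 72 1 (by decide +kernel) (by decide +kernel)
      intro k hk
      interval_cases k
      · exact cmP_E6_49_0
    · apply pairCheck_of_chunks chevE6 cm_rts_E6 cm_etas_E6 cm_tab_E6 cm_base_E6 50 72 1 (by decide +kernel) (by decide +kernel)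
      intro k hk
      interval_cases k
      · exact cmP_E6_50_0
    · apply pairCheck_of_chunks chevE6 cm_rts_E6 cm_etas_E6 cm_tab_E6 cm_base_E6 51 72 1 (by decide +kernel) (by decide +kernel)
      intro k hk
      interval_cases k
      · exact cmP_E6_51_0
    · apply pairCheck_of_chunks chevE6 cm_rts_E6 cm_etas_E6 cm_tab_E6 cm_base_E6 52 72 1 (by decide +kernel) (by decide +kernel)
      intro k hk
      interval_cases k
      · exact cmP_E6_52_0
    · apply pairCheck_of_chunks chevE6 cm_rts_E6 cm_etas_E6 cm_tab_E6 cm_base_E6 53 72 1 (by decide +kernel) (by decide +kernel)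
      intro k hk
      interval_cases k
      · exact cmP_E6_53_0
    · apply pairCheck_of_chunks chevE6 cm_rts_E6 cm_etas_E6 cm_tab_E6 cm_base_E6 54 72 1 (by decide +kernel) (by decide +kernel)
      intro k hk
      interval_cases k
      · exact cmP_E6_54_0
    · apply pairCheck_of_chunks chevE6 cm_rts_E6 cm_etas_E6 cm_tab_E6 cm_base_E6 55 72 1 (by decide +kernel) (by decide +kernel)
      intro k hk
      interval_cases k
      · exact cmP_E6_55_0
    · apply pairCheck_of_chunks chevE6 cm_rts_E6 cm_etas_E6 cm_tab_E6 cm_base_E6 56 72 1 (by decide +kernel) (by decide +kernel)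
      intro k hk
      interval_cases k
      · exact cmP_E6_56_0
    · apply pairCheck_of_chunks chevE6 cm_rts_E6 cm_etas_E6 cm_tab_E6 cm_base_E6 57 72 1 (by decide +kernel) (by decide +kernel)
      intro k hk
      interval_cases k
      · exact cmP_E6_57_0
    · apply pairCheck_of_chunks chevE6 cm_rts_E6 cm_etas_E6 cm_tab_E6 cm_base_E6 58 72 1 (by decide +kernel) (by decide +kernel)
      intro k hk
      interval_cases k
      · exact cmP_E6_58_0
    · apply pairCheck_of_chunks chevE6 cm_rts_E6 cm_etas_E6 cm_tab_E6 cm_base_E6 59 72 1 (by decide +kernel) (by decide +kernel)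
      intro k hk
      interval_cases k
      · exact cmP_E6_59_0
    · apply pairCheck_of_chunks chevE6 cm_rts_E6 cm_etas_E6 cm_tab_E6 cm_base_E6 60 72 1 (by decide +kernel) (by decide +kernel)
      intro k hk
      interval_cases k
      · exact cmP_E6_60_0
    · apply pairCheck_of_chunks chevE6 cm_rts_E6 cm_etas_E6 cm_tab_E6 cm_base_E6 61 72 1 (by decide +kernel) (by decide +kernel)
      intro k hk
      interval_cases k
      · exact cmP_E6_61_0
    · apply pairCheck_of_chunks chevE6 cm_rts_E6 cm_etas_E6 cm_tab_E6 cm_base_E6 62 72 1 (by decide +kernel) (by decide +kernel)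
      intro k hk
      interval_cases k
      · exact cmP_E6_62_0
    · apply pairCheck_of_chunks chevE6 cm_rts_E6 cm_etas_E6 cm_tab_E6 cm_base_E6 63 72 1 (by decide +kernel) (by decide +kernel)
      intro k hk
      interval_cases k
      · exact cmP_E6_63_0
    · apply pairCheck_of_chunks chevE6 cm_rts_E6 cm_etas_E6 cm_tab_E6 cm_base_E6 64 72 1 (by decide +kernel) (by decide +kernel)
      intro k hk
      interval_cases k
      · exact cmP_E6_64_0
    · apply pairCheck_of_chunks chevE6 cm_rts_E6 cm_etas_E6 cm_tab_E6 cm_base_E6 65 72 1 (by decide +kernel) (by decide +kernel)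
      intro k hk
      interval_cases k
      · exact cmP_E6_65_0
    · apply pairCheck_of_chunks chevE6 cm_rts_E6 cm_etas_E6 cm_tab_E6 cm_base_E6 66 72 1 (by decide +kernel) (by decide +kernel)
      intro k hk
      interval_cases k
      · exact cmP_E6_66_0
    · apply pairCheck_of_chunks chevE6 cm_rts_E6 cm_etas_E6 cm_tab_E6 cm_base_E6 67 72 1 (by decide +kernel) (by decide +kernel)
      intro k hk
      interval_cases k
      · exact cmP_E6_67_0
    · apply pairCheck_of_chunks chevE6 cm_rts_E6 cm_etas_E6 cm_tab_E6 cm_base_E6 68 72 1 (by decide +kernel) (by decide +kernel)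
      intro k hk
      interval_cases k
      · exact cmP_E6_68_0
    · apply pairCheck_of_chunks chevE6 cm_rts_E6 cm_etas_E6 cm_tab_E6 cm_base_E6 69 72 1 (by decide +kernel) (by decide +kernel)
      intro k hk
      interval_cases k
      · exact cmP_E6_69_0
    · apply pairCheck_of_chunks chevE6 cm_rts_E6 cm_etas_E6 cm_tab_E6 cm_base_E6 70 72 1 (by decide +kernel) (by decide +kernel)
      intro k hk
      interval_cases k
      · exact cmP_E6_70_0
    · apply pairCheck_of_chunks chevE6 cm_rts_E6 cm_etas_E6 cm_tab_E6 cm_base_E6 71 72 1 (by decide +kernel) (by decide +kernel)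
      intro k hk
      interval_cases k
      · exact cmP_E6_71_0

end Cfsg.Agent.helper5.Chev
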