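import Mathlib
import Cfsg.Agent.Lib_helper5_ChevCommDefsE7

set_option autoImplicit false

namespace Cfsg.Agent.helper5.Chev

open Cfsg.Lie

set_option maxRecDepth 1000000 in
set_option maxHeartbeats 0 in
theorem cmB_E7_0_0 : commBaseColsRange chevE7 0 1 0 67 = true := by decide +kernel

set_option maxRecDepth 1000000 in
set_option maxHeartbeats 0 in
theorem cmB_E7_0_1 : commBaseColsRange chevE7 0 1 67 67 = true := by decide +kernel

theorem cmB_E7_0 : commBaseCheck chevE7 0 1 = true := by
  apply commBaseCheck_of_chunks chevE7 0 1 67 2 (by decide +kernel) (by decide +kernel) (by decide +kernel) (by decide +kernel) (by decide +kernel)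
  intro k hk
  interval_cases k
  · exact cmB_E7_0_0
  · exact cmB_E7_0_1

set_option maxRecDepth 1000000 in
set_option maxHeartbeats 0 in
theorem cmB_E7_1_0 : commBaseColsRange chevE7 0 33 0 67 = true := by decide +kernel

set_option maxRecDepth 1000000 in
set_option maxHeartbeats 0 in
theorem cmB_E7_1_1 : commBaseColsRange chevE7 0 33 67 67 = true := by decide +kernel

theorem cmB_E7_1 : commBaseCheck chevE7 0 33 = true := by
  apply commBaseCheck_of_chunks chevE7 0 33 67 2 (by decide +kernel) (by decide +kernel) (by decide +kernel) (by decide +kernel) (by decide +kernel)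
  intro k hk
  interval_cases k
  · exact cmB_E7_1_0
  · exact cmB_E7_1_1

set_option maxRecDepth 1000000 in
set_option maxHeartbeats 0 in
theorem cmB_E7_2_0 : commBaseColsRange chevE7 0 93 0 67 = true := by decide +kernel

set_option maxRecDepth 1000000 in
set_option maxHeartbeats 0 in
theorem cmB_E7_2_1 : commBaseColsRange chevE7 0 93 67 67 = true := by decide +kernel

theorem cmB_E7_2 : commBaseCheck chevE7 0 93 = true := by
  apply commBaseCheck_of_chunks chevE7 0 93 67 2 (by decide +kernel) (by decide +kernel) (by decide +kernel) (by decide +kernel) (by decide +kernel)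
  intro k hk
  interval_cases k
  · exact cmB_E7_2_0
  · exact cmB_E7_2_1

end Cfsg.Agent.helper5.Chev
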