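import Mathlib
import Cfsg.Agent.Lib_helper5_ChevCommDefsE7

set_option autoImplicit false

namespace Cfsg.Agent.helper5.Chev

open Cfsg.Lie

set_option maxRecDepth 1000000 in
set_option maxHeartbeats 0 in
theorem cmP_E7_0_0 : pairCheckRange chevE7 cm_rts_E7 cm_etas_E7 cm_tab_E7 cm_base_E7 0 0 126 = true := by decide +kernel

set_option maxRecDepth 1000000 in
set_option maxHeartbeats 0 in
theorem cmP_E7_1_0 : pairCheckRange chevE7 cm_rts_E7 cm_etas_E7 cm_tab_E7 cm_base_E7 1 0 126 = true := by decide +kernel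

set_option maxRecDepth 1000000 in
set_option maxHeartbeats 0 in
theorem cmP_E7_2_0 : pairCheckRange chevE7 cm_rts_E7 cm_etas_E7 cm_tab_E7 cm_base_E7 2 0 126 = true := by decide +kernel

set_option maxRecDepth 1000000 in
set_option maxHeartbeats 0 in
theorem cmP_E7_3_0 : pairCheckRange chevE7 cm_rts_E7 cm_etas_E7 cm_tab_E7 cm_base_E7 3 0 126 = true := by decide +kernel

set_option maxRecDepth 1000000 in
set_option maxHeartbeats 0 in
theorem cmP_E7_4_0 : pairCheckRange chevE7 cm_rts_E7 cm_etas_E7 cm_tab_E7 cm_base_E7 4 0 126 = true := by decide +kernel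

set_option maxRecDepth 1000000 in
set_option maxHeartbeats 0 in
theorem cmP_E7_5_0 : pairCheckRange chevE7 cm_rts_E7 cm_etas_E7 cm_tab_E7 cm_base_E7 5 0 126 = true := by decide +kernel

set_option maxRecDepth 1000000 in
set_option maxHeartbeats 0 in
theorem cmP_E7_6_0 : pairCheckRange chevE7 cm_rts_E7 cm_etas_E7 cm_tab_E7 cm_base_E7 6 0 126 = true := by decide +kernel

set_option maxRecDepth 1000000 in
set_option maxHeartbeats 0 in
theorem cmP_E7_7_0 : pairCheckRange chevE7 cm_rts_E7 cm_etas_E7 cm_tab_E7 cm_base_E7 7 0 126 = true := by decide +kernel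

set_option maxRecDepth 1000000 in
set_option maxHeartbeats 0 in
theorem cmP_E7_8_0 : pairCheckRange chevE7 cm_rts_E7 cm_etas_E7 cm_tab_E7 cm_base_E7 8 0 126 = true := by decide +kernel

set_option maxRecDepth 1000000 in
set_option maxHeartbeats 0 in
theorem cmP_E7_9_0 : pairCheckRange chevE7 cm_rts_E7 cm_etas_E7 cm_tab_E7 cm_base_E7 9 0 126 = true := by decide +kernel

set_option maxRecDepth 1000000 in
set_option maxHeartbeats 0 in
theorem cmP_E7_10_0 : pairCheckRange chevE7 cm_rts_E7 cm_etas_E7 cm_tab_E7 cm_base_E7 10 0 126 = true := by decide +kernel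

set_option maxRecDepth 1000000 in
set_option maxHeartbeats 0 in
theorem cmP_E7_11_0 : pairCheckRange chevE7 cm_rts_E7 cm_etas_E7 cm_tab_E7 cm_base_E7 11 0 126 = true := by decide +kernel

set_option maxRecDepth 1000000 in
set_option maxHeartbeats 0 in
theorem cmP_E7_12_0 : pairCheckRange chevE7 cm_rts_E7 cm_etas_E7 cm_tab_E7 cm_base_E7 12 0 126 = true := by decide +kernel

set_option maxRecDepth 1000000 in
set_option maxHeartbeats 0 in
theorem cmP_E7_13_0 : pairCheckRange chevE7 cm_rts_E7 cm_etas_E7 cm_tab_E7 cm_base_E7 13 0 126 = true := by decide +kernel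

set_option maxRecDepth 1000000 in
set_option maxHeartbeats 0 in
theorem cmP_E7_14_0 : pairCheckRange chevE7 cm_rts_E7 cm_etas_E7 cm_tab_E7 cm_base_E7 14 0 126 = true := by decide +kernel

set_option maxRecDepth 1000000 in
set_option maxHeartbeats 0 in
theorem cmP_E7_15_0 : pairCheckRange chevE7 cm_rts_E7 cm_etas_E7 cm_tab_E7 cm_base_E7 15 0 126 = true := by decide +kernel

set_option maxRecDepth 1000000 in
set_option maxHeartbeats 0 in
theorem cmP_E7_16_0 : pairCheckRange chevE7 cm_rts_E7 cm_etas_E7 cm_tab_E7 cm_base_E7 16 0 126 = true := by decide +kernel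

set_option maxRecDepth 1000000 in
set_option maxHeartbeats 0 in
theorem cmP_E7_17_0 : pairCheckRange chevE7 cm_rts_E7 cm_etas_E7 cm_tab_E7 cm_base_E7 17 0 126 = true := by decide +kernel

set_option maxRecDepth 1000000 in
set_option maxHeartbeats 0 in
theorem cmP_E7_18_0 : pairCheckRange chevE7 cm_rts_E7 cm_etas_E7 cm_tab_E7 cm_base_E7 18 0 126 = true := by decide +kernel

set_option maxRecDepth 1000000 in
set_option maxHeartbeats 0 in
theorem cmP_E7_19_0 : pairCheckRange chevE7 cm_rts_E7 cm_etas_E7 cm_tab_E7 cm_base_E7 19 0 126 = true := by decide +kernel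

set_option maxRecDepth 1000000 in
set_option maxHeartbeats 0 in
theorem cmP_E7_20_0 : pairCheckRange chevE7 cm_rts_E7 cm_etas_E7 cm_tab_E7 cm_base_E7 20 0 126 = true := by decide +kernel

set_option maxRecDepth 1000000 in
set_option maxHeartbeats 0 in
theorem cmP_E7_21_0 : pairCheckRange chevE7 cm_rts_E7 cm_etas_E7 cm_tab_E7 cm_base_E7 21 0 126 = true := by decide +kernel

set_option maxRecDepth 1000000 in
set_option maxHeartbeats 0 in
theorem cmP_E7_22_0 : pairCheckRange chevE7 cm_rts_E7 cm_etas_E7 cm_tab_E7 cm_base_E7 22 0 126 = true := by decide +kernel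

set_option maxRecDepth 1000000 in
set_option maxHeartbeats 0 in
theorem cmP_E7_23_0 : pairCheckRange chevE7 cm_rts_E7 cm_etas_E7 cm_tab_E7 cm_base_E7 23 0 126 = true := by decide +kernel

set_option maxRecDepth 1000000 in
set_option maxHeartbeats 0 in
theorem cmP_E7_24_0 : pairCheckRange chevE7 cm_rts_E7 cm_etas_E7 cm_tab_E7 cm_base_E7 24 0 126 = true := by decide +kernel

set_option maxRecDepth 1000000 in
set_option maxHeartbeats 0 in
theorem cmP_E7_25_0 : pairCheckRange chevE7 cm_rts_E7 cm_etas_E7 cm_tab_E7 cm_base_E7 25 0 126 = true := by decide +kernel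

set_option maxRecDepth 1000000 in
set_option maxHeartbeats 0 in
theorem cmP_E7_26_0 : pairCheckRange chevE7 cm_rts_E7 cm_etas_E7 cm_tab_E7 cm_base_E7 26 0 126 = true := by decide +kernel

set_option maxRecDepth 1000000 in
set_option maxHeartbeats 0 in
theorem cmP_E7_27_0 : pairCheckRange chevE7 cm_rts_E7 cm_etas_E7 cm_tab_E7 cm_base_E7 27 0 126 = true := by decide +kernel

set_option maxRecDepth 1000000 in
set_option maxHeartbeats 0 in
theorem cmP_E7_28_0 : pairCheckRange chevE7 cm_rts_E7 cm_etas_E7 cm_tab_E7 cm_base_E7 28 0 126 = true := by decide +kernel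

set_option maxRecDepth 1000000 in
set_option maxHeartbeats 0 in
theorem cmP_E7_29_0 : pairCheckRange chevE7 cm_rts_E7 cm_etas_E7 cm_tab_E7 cm_base_E7 29 0 126 = true := by decide +kernel

set_option maxRecDepth 1000000 in
set_option maxHeartbeats 0 in
theorem cmP_E7_30_0 : pairCheckRange chevE7 cm_rts_E7 cm_etas_E7 cm_tab_E7 cm_base_E7 30 0 126 = true := by decide +kernel

set_option maxRecDepth 1000000 in
set_option maxHeartbeats 0 in
theorem cmP_E7_31_0 : pairCheckRange chevE7 cm_rts_E7 cm_etas_E7 cm_tab_E7 cm_base_E7 31 0 126 = true := by decide +kernel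

end Cfsg.Agent.helper5.Chev
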