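import Mathlib
import Cfsg.Agent.Lib_helper5_ChevCommDefsE7

set_option autoImplicit false

namespace Cfsg.Agent.helper5.Chev

open Cfsg.Lie

set_option maxRecDepth 1000000 in
set_option maxHeartbeats 0 in
theorem cmP_E7_32_0 : pairCheckRange chevE7 cm_rts_E7 cm_etas_E7 cm_tab_E7 cm_base_E7 32 0 126 = true := by decide +kernel

set_option maxRecDepth 1000000 in
set_option maxHeartbeats 0 in
theorem cmP_E7_33_0 : pairCheckRange chevE7 cm_rts_E7 cm_etas_E7 cm_tab_E7 cm_base_E7 33 0 126 = true := by decide +kernel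

set_option maxRecDepth 1000000 in
set_option maxHeartbeats 0 in
theorem cmP_E7_34_0 : pairCheckRange chevE7 cm_rts_E7 cm_etas_E7 cm_tab_E7 cm_base_E7 34 0 126 = true := by decide +kernel

set_option maxRecDepth 1000000 in
set_option maxHeartbeats 0 in
theorem cmP_E7_35_0 : pairCheckRange chevE7 cm_rts_E7 cm_etas_E7 cm_tab_E7 cm_base_E7 35 0 126 = true := by decide +kernel

set_option maxRecDepth 1000000 in
set_option maxHeartbeats 0 in
theorem cmP_E7_36_0 : pairCheckRange chevE7 cm_rts_E7 cm_etas_E7 cm_tab_E7 cm_base_E7 36 0 126 = true := by decide +kernel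

set_option maxRecDepth 1000000 in
set_option maxHeartbeats 0 in
theorem cmP_E7_37_0 : pairCheckRange chevE7 cm_rts_E7 cm_etas_E7 cm_tab_E7 cm_base_E7 37 0 126 = true := by decide +kernel

set_option maxRecDepth 1000000 in
set_option maxHeartbeats 0 in
theorem cmP_E7_38_0 : pairCheckRange chevE7 cm_rts_E7 cm_etas_E7 cm_tab_E7 cm_base_E7 38 0 126 = true := by decide +kernel

set_option maxRecDepth 1000000 in
set_option maxHeartbeats 0 in
theorem cmP_E7_39_0 : pairCheckRange chevE7 cm_rts_E7 cm_etas_E7 cm_tab_E7 cm_base_E7 39 0 126 = true := by decide +kernel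

set_option maxRecDepth 1000000 in
set_option maxHeartbeats 0 in
theorem cmP_E7_40_0 : pairCheckRange chevE7 cm_rts_E7 cm_etas_E7 cm_tab_E7 cm_base_E7 40 0 126 = true := by decide +kernel

set_option maxRecDepth 1000000 in
set_option maxHeartbeats 0 in
theorem cmP_E7_41_0 : pairCheckRange chevE7 cm_rts_E7 cm_etas_E7 cm_tab_E7 cm_base_E7 41 0 126 = true := by decide +kernel

set_option maxRecDepth 1000000 in
set_option maxHeartbeats 0 in
theorem cmP_E7_42_0 : pairCheckRange chevE7 cm_rts_E7 cm_etas_E7 cm_tab_E7 cm_base_E7 42 0 126 = true := by decide +kernel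

set_option maxRecDepth 1000000 in
set_option maxHeartbeats 0 in
theorem cmP_E7_43_0 : pairCheckRange chevE7 cm_rts_E7 cm_etas_E7 cm_tab_E7 cm_base_E7 43 0 126 = true := by decide +kernel

set_option maxRecDepth 1000000 in
set_option maxHeartbeats 0 in
theorem cmP_E7_44_0 : pairCheckRange chevE7 cm_rts_E7 cm_etas_E7 cm_tab_E7 cm_base_E7 44 0 126 = true := by decide +kernel

set_option maxRecDepth 1000000 in
set_option maxHeartbeats 0 in
theorem cmP_E7_45_0 : pairCheckRange chevE7 cm_rts_E7 cm_etas_E7 cm_tab_E7 cm_base_E7 45 0 126 = true := by decide +kernel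

set_option maxRecDepth 1000000 in
set_option maxHeartbeats 0 in
theorem cmP_E7_46_0 : pairCheckRange chevE7 cm_rts_E7 cm_etas_E7 cm_tab_E7 cm_base_E7 46 0 126 = true := by decide +kernel

set_option maxRecDepth 1000000 in
set_option maxHeartbeats 0 in
theorem cmP_E7_47_0 : pairCheckRange chevE7 cm_rts_E7 cm_etas_E7 cm_tab_E7 cm_base_E7 47 0 126 = true := by decide +kernel

set_option maxRecDepth 1000000 in
set_option maxHeartbeats 0 in
theorem cmP_E7_48_0 : pairCheckRange chevE7 cm_rts_E7 cm_etas_E7 cm_tab_E7 cm_base_E7 48 0 126 = true := by decide +kernel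

set_option maxRecDepth 1000000 in
set_option maxHeartbeats 0 in
theorem cmP_E7_49_0 : pairCheckRange chevE7 cm_rts_E7 cm_etas_E7 cm_tab_E7 cm_base_E7 49 0 126 = true := by decide +kernel

set_option maxRecDepth 1000000 in
set_option maxHeartbeats 0 in
theorem cmP_E7_50_0 : pairCheckRange chevE7 cm_rts_E7 cm_etas_E7 cm_tab_E7 cm_base_E7 50 0 126 = true := by decide +kernel

set_option maxRecDepth 1000000 in
set_option maxHeartbeats 0 in
theorem cmP_E7_51_0 : pairCheckRange chevE7 cm_rts_E7 cm_etas_E7 cm_tab_E7 cm_base_E7 51 0 126 = true := by decide +kernel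

set_option maxRecDepth 1000000 in
set_option maxHeartbeats 0 in
theorem cmP_E7_52_0 : pairCheckRange chevE7 cm_rts_E7 cm_etas_E7 cm_tab_E7 cm_base_E7 52 0 126 = true := by decide +kernel

set_option maxRecDepth 1000000 in
set_option maxHeartbeats 0 in
theorem cmP_E7_53_0 : pairCheckRange chevE7 cm_rts_E7 cm_etas_E7 cm_tab_E7 cm_base_E7 53 0 126 = true := by decide +kernel

set_option maxRecDepth 1000000 in
set_option maxHeartbeats 0 in
theorem cmP_E7_54_0 : pairCheckRange chevE7 cm_rts_E7 cm_etas_E7 cm_tab_E7 cm_base_E7 54 0 126 = true := by decide +kernel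

set_option maxRecDepth 1000000 in
set_option maxHeartbeats 0 in
theorem cmP_E7_55_0 : pairCheckRange chevE7 cm_rts_E7 cm_etas_E7 cm_tab_E7 cm_base_E7 55 0 126 = true := by decide +kernel

set_option maxRecDepth 1000000 in
set_option maxHeartbeats 0 in
theorem cmP_E7_56_0 : pairCheckRange chevE7 cm_rts_E7 cm_etas_E7 cm_tab_E7 cm_base_E7 56 0 126 = true := by decide +kernel

set_option maxRecDepth 1000000 in
set_option maxHeartbeats 0 in
theorem cmP_E7_57_0 : pairCheckRange chevE7 cm_rts_E7 cm_etas_E7 cm_tab_E7 cm_base_E7 57 0 126 = true := by decide +kernel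

set_option maxRecDepth 1000000 in
set_option maxHeartbeats 0 in
theorem cmP_E7_58_0 : pairCheckRange chevE7 cm_rts_E7 cm_etas_E7 cm_tab_E7 cm_base_E7 58 0 126 = true := by decide +kernel

set_option maxRecDepth 1000000 in
set_option maxHeartbeats 0 in
theorem cmP_E7_59_0 : pairCheckRange chevE7 cm_rts_E7 cm_etas_E7 cm_tab_E7 cm_base_E7 59 0 126 = true := by decide +kernel

set_option maxRecDepth 1000000 in
set_option maxHeartbeats 0 in
theorem cmP_E7_60_0 : pairCheckRange chevE7 cm_rts_E7 cm_etas_E7 cm_tab_E7 cm_base_E7 60 0 126 = true := by decide +kernel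

set_option maxRecDepth 1000000 in
set_option maxHeartbeats 0 in
theorem cmP_E7_61_0 : pairCheckRange chevE7 cm_rts_E7 cm_etas_E7 cm_tab_E7 cm_base_E7 61 0 126 = true := by decide +kernel

set_option maxRecDepth 1000000 in
set_option maxHeartbeats 0 in
theorem cmP_E7_62_0 : pairCheckRange chevE7 cm_rts_E7 cm_etas_E7 cm_tab_E7 cm_base_E7 62 0 126 = true := by decide +kernel

set_option maxRecDepth 1000000 in
set_option maxHeartbeats 0 in
theorem cmP_E7_63_0 : pairCheckRange chevE7 cm_rts_E7 cm_etas_E7 cm_tab_E7 cm_base_E7 63 0 126 = true := by decide +kernel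

end Cfsg.Agent.helper5.Chev
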