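import Mathlib
import Cfsg.Agent.Lib_helper5_ChevCommDefsE7

set_option autoImplicit false

namespace Cfsg.Agent.helper5.Chev

open Cfsg.Lie

set_option maxRecDepth 1000000 in
set_option maxHeartbeats 0 in
theorem cmP_E7_64_0 : pairCheckRange chevE7 cm_rts_E7 cm_etas_E7 cm_tab_E7 cm_base_E7 64 0 126 = true := by decide +kernel

set_option maxRecDepth 1000000 in
set_option maxHeartbeats 0 in
theorem cmP_E7_65_0 : pairCheckRange chevE7 cm_rts_E7 cm_etas_E7 cm_tab_E7 cm_base_E7 65 0 126 = true := by decide +kernel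

set_option maxRecDepth 1000000 in
set_option maxHeartbeats 0 in
theorem cmP_E7_66_0 : pairCheckRange chevE7 cm_rts_E7 cm_etas_E7 cm_tab_E7 cm_base_E7 66 0 126 = true := by decide +kernel

set_option maxRecDepth 1000000 in
set_option maxHeartbeats 0 in
theorem cmP_E7_67_0 : pairCheckRange chevE7 cm_rts_E7 cm_etas_E7 cm_tab_E7 cm_base_E7 67 0 126 = true := by decide +kernel

set_option maxRecDepth 1000000 in
set_option maxHeartbeats 0 in
theorem cmP_E7_68_0 : pairCheckRange chevE7 cm_rts_E7 cm_etas_E7 cm_tab_E7 cm_base_E7 68 0 126 = true := by decide +kernel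

set_option maxRecDepth 1000000 in
set_option maxHeartbeats 0 in
theorem cmP_E7_69_0 : pairCheckRange chevE7 cm_rts_E7 cm_etas_E7 cm_tab_E7 cm_base_E7 69 0 126 = true := by decide +kernel

set_option maxRecDepth 1000000 in
set_option maxHeartbeats 0 in
theorem cmP_E7_70_0 : pairCheckRange chevE7 cm_rts_E7 cm_etas_E7 cm_tab_E7 cm_base_E7 70 0 126 = true := by decide +kernel

set_option maxRecDepth 1000000 in
set_option maxHeartbeats 0 in
theorem cmP_E7_71_0 : pairCheckRange chevE7 cm_rts_E7 cm_etas_E7 cm_tab_E7 cm_base_E7 71 0 126 = true := by decide +kernel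

set_option maxRecDepth 1000000 in
set_option maxHeartbeats 0 in
theorem cmP_E7_72_0 : pairCheckRange chevE7 cm_rts_E7 cm_etas_E7 cm_tab_E7 cm_base_E7 72 0 126 = true := by decide +kernel

set_option maxRecDepth 1000000 in
set_option maxHeartbeats 0 in
theorem cmP_E7_73_0 : pairCheckRange chevE7 cm_rts_E7 cm_etas_E7 cm_tab_E7 cm_base_E7 73 0 126 = true := by decide +kernel

set_option maxRecDepth 1000000 in
set_option maxHeartbeats 0 in
theorem cmP_E7_74_0 : pairCheckRange chevE7 cm_rts_E7 cm_etas_E7 cm_tab_E7 cm_base_E7 74 0 126 = true := by decide +kernel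

set_option maxRecDepth 1000000 in
set_option maxHeartbeats 0 in
theorem cmP_E7_75_0 : pairCheckRange chevE7 cm_rts_E7 cm_etas_E7 cm_tab_E7 cm_base_E7 75 0 126 = true := by decide +kernel

set_option maxRecDepth 1000000 in
set_option maxHeartbeats 0 in
theorem cmP_E7_76_0 : pairCheckRange chevE7 cm_rts_E7 cm_etas_E7 cm_tab_E7 cm_base_E7 76 0 126 = true := by decide +kernel

set_option maxRecDepth 1000000 in
set_option maxHeartbeats 0 in
theorem cmP_E7_77_0 : pairCheckRange chevE7 cm_rts_E7 cm_etas_E7 cm_tab_E7 cm_base_E7 77 0 126 = true := by decide +kernel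

set_option maxRecDepth 1000000 in
set_option maxHeartbeats 0 in
theorem cmP_E7_78_0 : pairCheckRange chevE7 cm_rts_E7 cm_etas_E7 cm_tab_E7 cm_base_E7 78 0 126 = true := by decide +kernel

set_option maxRecDepth 1000000 in
set_option maxHeartbeats 0 in
theorem cmP_E7_79_0 : pairCheckRange chevE7 cm_rts_E7 cm_etas_E7 cm_tab_E7 cm_base_E7 79 0 126 = true := by decide +kernel

set_option maxRecDepth 1000000 in
set_option maxHeartbeats 0 in
theorem cmP_E7_80_0 : pairCheckRange chevE7 cm_rts_E7 cm_etas_E7 cm_tab_E7 cm_base_E7 80 0 126 = true := by decide +kernel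

set_option maxRecDepth 1000000 in
set_option maxHeartbeats 0 in
theorem cmP_E7_81_0 : pairCheckRange chevE7 cm_rts_E7 cm_etas_E7 cm_tab_E7 cm_base_E7 81 0 126 = true := by decide +kernel

set_option maxRecDepth 1000000 in
set_option maxHeartbeats 0 in
theorem cmP_E7_82_0 : pairCheckRange chevE7 cm_rts_E7 cm_etas_E7 cm_tab_E7 cm_base_E7 82 0 126 = true := by decide +kernel

set_option maxRecDepth 1000000 in
set_option maxHeartbeats 0 in
theorem cmP_E7_83_0 : pairCheckRange chevE7 cm_rts_E7 cm_etas_E7 cm_tab_E7 cm_base_E7 83 0 126 = true := by decide +kernel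

set_option maxRecDepth 1000000 in
set_option maxHeartbeats 0 in
theorem cmP_E7_84_0 : pairCheckRange chevE7 cm_rts_E7 cm_etas_E7 cm_tab_E7 cm_base_E7 84 0 126 = true := by decide +kernel

set_option maxRecDepth 1000000 in
set_option maxHeartbeats 0 in
theorem cmP_E7_85_0 : pairCheckRange chevE7 cm_rts_E7 cm_etas_E7 cm_tab_E7 cm_base_E7 85 0 126 = true := by decide +kernel

set_option maxRecDepth 1000000 in
set_option maxHeartbeats 0 in
theorem cmP_E7_86_0 : pairCheckRange chevE7 cm_rts_E7 cm_etas_E7 cm_tab_E7 cm_base_E7 86 0 126 = true := by decide +kernel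

set_option maxRecDepth 1000000 in
set_option maxHeartbeats 0 in
theorem cmP_E7_87_0 : pairCheckRange chevE7 cm_rts_E7 cm_etas_E7 cm_tab_E7 cm_base_E7 87 0 126 = true := by decide +kernel

set_option maxRecDepth 1000000 in
set_option maxHeartbeats 0 in
theorem cmP_E7_88_0 : pairCheckRange chevE7 cm_rts_E7 cm_etas_E7 cm_tab_E7 cm_base_E7 88 0 126 = true := by decide +kernel

set_option maxRecDepth 1000000 in
set_option maxHeartbeats 0 in
theorem cmP_E7_89_0 : pairCheckRange chevE7 cm_rts_E7 cm_etas_E7 cm_tab_E7 cm_base_E7 89 0 126 = true := by decide +kernel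

set_option maxRecDepth 1000000 in
set_option maxHeartbeats 0 in
theorem cmP_E7_90_0 : pairCheckRange chevE7 cm_rts_E7 cm_etas_E7 cm_tab_E7 cm_base_E7 90 0 126 = true := by decide +kernel

set_option maxRecDepth 1000000 in
set_option maxHeartbeats 0 in
theorem cmP_E7_91_0 : pairCheckRange chevE7 cm_rts_E7 cm_etas_E7 cm_tab_E7 cm_base_E7 91 0 126 = true := by decide +kernel

set_option maxRecDepth 1000000 in
set_option maxHeartbeats 0 in
theorem cmP_E7_92_0 : pairCheckRange chevE7 cm_rts_E7 cm_etas_E7 cm_tab_E7 cm_base_E7 92 0 126 = true := by decide +kernel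

set_option maxRecDepth 1000000 in
set_option maxHeartbeats 0 in
theorem cmP_E7_93_0 : pairCheckRange chevE7 cm_rts_E7 cm_etas_E7 cm_tab_E7 cm_base_E7 93 0 126 = true := by decide +kernel

set_option maxRecDepth 1000000 in
set_option maxHeartbeats 0 in
theorem cmP_E7_94_0 : pairCheckRange chevE7 cm_rts_E7 cm_etas_E7 cm_tab_E7 cm_base_E7 94 0 126 = true := by decide +kernel

set_option maxRecDepth 1000000 in
set_option maxHeartbeats 0 in
theorem cmP_E7_95_0 : pairCheckRange chevE7 cm_rts_E7 cm_etas_E7 cm_tab_E7 cm_base_E7 95 0 126 = true := by decide +kernel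

end Cfsg.Agent.helper5.Chev
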