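import Mathlib
import Cfsg.Agent.Lib_helper5_ChevCommDefsE7

set_option autoImplicit false

namespace Cfsg.Agent.helper5.Chev

open Cfsg.Lie

set_option maxRecDepth 1000000 in
set_option maxHeartbeats 0 in
theorem cmP_E7_96_0 : pairCheckRange chevE7 cm_rts_E7 cm_etas_E7 cm_tab_E7 cm_base_E7 96 0 126 = true := by decide +kernel

set_option maxRecDepth 1000000 in
set_option maxHeartbeats 0 in
theorem cmP_E7_97_0 : pairCheckRange chevE7 cm_rts_E7 cm_etas_E7 cm_tab_E7 cm_base_E7 97 0 126 = true := by decide +kernel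

set_option maxRecDepth 1000000 in
set_option maxHeartbeats 0 in
theorem cmP_E7_98_0 : pairCheckRange chevE7 cm_rts_E7 cm_etas_E7 cm_tab_E7 cm_base_E7 98 0 126 = true := by decide +kernel

set_option maxRecDepth 1000000 in
set_option maxHeartbeats 0 in
theorem cmP_E7_99_0 : pairCheckRange chevE7 cm_rts_E7 cm_etas_E7 cm_tab_E7 cm_base_E7 99 0 126 = true := by decide +kernel

set_option maxRecDepth 1000000 in
set_option maxHeartbeats 0 in
theorem cmP_E7_100_0 : pairCheckRange chevE7 cm_rts_E7 cm_etas_E7 cm_tab_E7 cm_base_E7 100 0 126 = true := by decide +kernel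

set_option maxRecDepth 1000000 in
set_option maxHeartbeats 0 in
theorem cmP_E7_101_0 : pairCheckRange chevE7 cm_rts_E7 cm_etas_E7 cm_tab_E7 cm_base_E7 101 0 126 = true := by decide +kernel

set_option maxRecDepth 1000000 in
set_option maxHeartbeats 0 in
theorem cmP_E7_102_0 : pairCheckRange chevE7 cm_rts_E7 cm_etas_E7 cm_tab_E7 cm_base_E7 102 0 126 = true := by decide +kernel

set_option maxRecDepth 1000000 in
set_option maxHeartbeats 0 in
theorem cmP_E7_103_0 : pairCheckRange chevE7 cm_rts_E7 cm_etas_E7 cm_tab_E7 cm_base_E7 103 0 126 = true := by decide +kernel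

set_option maxRecDepth 1000000 in
set_option maxHeartbeats 0 in
theorem cmP_E7_104_0 : pairCheckRange chevE7 cm_rts_E7 cm_etas_E7 cm_tab_E7 cm_base_E7 104 0 126 = true := by decide +kernel

set_option maxRecDepth 1000000 in
set_option maxHeartbeats 0 in
theorem cmP_E7_105_0 : pairCheckRange chevE7 cm_rts_E7 cm_etas_E7 cm_tab_E7 cm_base_E7 105 0 126 = true := by decide +kernel

set_option maxRecDepth 1000000 in
set_option maxHeartbeats 0 in
theorem cmP_E7_106_0 : pairCheckRange chevE7 cm_rts_E7 cm_etas_E7 cm_tab_E7 cm_base_E7 106 0 126 = true := by decide +kernel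

set_option maxRecDepth 1000000 in
set_option maxHeartbeats 0 in
theorem cmP_E7_107_0 : pairCheckRange chevE7 cm_rts_E7 cm_etas_E7 cm_tab_E7 cm_base_E7 107 0 126 = true := by decide +kernel

set_option maxRecDepth 1000000 in
set_option maxHeartbeats 0 in
theorem cmP_E7_108_0 : pairCheckRange chevE7 cm_rts_E7 cm_etas_E7 cm_tab_E7 cm_base_E7 108 0 126 = true := by decide +kernel

set_option maxRecDepth 1000000 in
set_option maxHeartbeats 0 in
theorem cmP_E7_109_0 : pairCheckRange chevE7 cm_rts_E7 cm_etas_E7 cm_tab_E7 cm_base_E7 109 0 126 = true := by decide +kernel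

set_option maxRecDepth 1000000 in
set_option maxHeartbeats 0 in
theorem cmP_E7_110_0 : pairCheckRange chevE7 cm_rts_E7 cm_etas_E7 cm_tab_E7 cm_base_E7 110 0 126 = true := by decide +kernel

set_option maxRecDepth 1000000 in
set_option maxHeartbeats 0 in
theorem cmP_E7_111_0 : pairCheckRange chevE7 cm_rts_E7 cm_etas_E7 cm_tab_E7 cm_base_E7 111 0 126 = true := by decide +kernel

set_option maxRecDepth 1000000 in
set_option maxHeartbeats 0 in
theorem cmP_E7_112_0 : pairCheckRange chevE7 cm_rts_E7 cm_etas_E7 cm_tab_E7 cm_base_E7 112 0 126 = true := by decide +kernel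

set_option maxRecDepth 1000000 in
set_option maxHeartbeats 0 in
theorem cmP_E7_113_0 : pairCheckRange chevE7 cm_rts_E7 cm_etas_E7 cm_tab_E7 cm_base_E7 113 0 126 = true := by decide +kernel

set_option maxRecDepth 1000000 in
set_option maxHeartbeats 0 in
theorem cmP_E7_114_0 : pairCheckRange chevE7 cm_rts_E7 cm_etas_E7 cm_tab_E7 cm_base_E7 114 0 126 = true := by decide +kernel

set_option maxRecDepth 1000000 in
set_option maxHeartbeats 0 in
theorem cmP_E7_115_0 : pairCheckRange chevE7 cm_rts_E7 cm_etas_E7 cm_tab_E7 cm_base_E7 115 0 126 = true := by decide +kernel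

set_option maxRecDepth 1000000 in
set_option maxHeartbeats 0 in
theorem cmP_E7_116_0 : pairCheckRange chevE7 cm_rts_E7 cm_etas_E7 cm_tab_E7 cm_base_E7 116 0 126 = true := by decide +kernel

set_option maxRecDepth 1000000 in
set_option maxHeartbeats 0 in
theorem cmP_E7_117_0 : pairCheckRange chevE7 cm_rts_E7 cm_etas_E7 cm_tab_E7 cm_base_E7 117 0 126 = true := by decide +kernel

set_option maxRecDepth 1000000 in
set_option maxHeartbeats 0 in
theorem cmP_E7_118_0 : pairCheckRange chevE7 cm_rts_E7 cm_etas_E7 cm_tab_E7 cm_base_E7 118 0 126 = true := by decide +kernel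

set_option maxRecDepth 1000000 in
set_option maxHeartbeats 0 in
theorem cmP_E7_119_0 : pairCheckRange chevE7 cm_rts_E7 cm_etas_E7 cm_tab_E7 cm_base_E7 119 0 126 = true := by decide +kernel

set_option maxRecDepth 1000000 in
set_option maxHeartbeats 0 in
theorem cmP_E7_120_0 : pairCheckRange chevE7 cm_rts_E7 cm_etas_E7 cm_tab_E7 cm_base_E7 120 0 126 = true := by decide +kernel

set_option maxRecDepth 1000000 in
set_option maxHeartbeats 0 in
theorem cmP_E7_121_0 : pairCheckRange chevE7 cm_rts_E7 cm_etas_E7 cm_tab_E7 cm_base_E7 121 0 126 = true := by decide +kernel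

set_option maxRecDepth 1000000 in
set_option maxHeartbeats 0 in
theorem cmP_E7_122_0 : pairCheckRange chevE7 cm_rts_E7 cm_etas_E7 cm_tab_E7 cm_base_E7 122 0 126 = true := by decide +kernel

set_option maxRecDepth 1000000 in
set_option maxHeartbeats 0 in
theorem cmP_E7_123_0 : pairCheckRange chevE7 cm_rts_E7 cm_etas_E7 cm_tab_E7 cm_base_E7 123 0 126 = true := by decide +kernel

set_option maxRecDepth 1000000 in
set_option maxHeartbeats 0 in
theorem cmP_E7_124_0 : pairCheckRange chevE7 cm_rts_E7 cm_etas_E7 cm_tab_E7 cm_base_E7 124 0 126 = true := by decide +kernel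

set_option maxRecDepth 1000000 in
set_option maxHeartbeats 0 in
theorem cmP_E7_125_0 : pairCheckRange chevE7 cm_rts_E7 cm_etas_E7 cm_tab_E7 cm_base_E7 125 0 126 = true := by decide +kernel

end Cfsg.Agent.helper5.Chev
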