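import Mathlib
import Cfsg.Agent.Lib_helper5_ChevCommBaseE7_0
import Cfsg.Agent.Lib_helper5_ChevCommPE7_00
import Cfsg.Agent.Lib_helper5_ChevCommPE7_01
import Cfsg.Agent.Lib_helper5_ChevCommPE7_02
import Cfsg.Agent.Lib_helper5_ChevCommPE7_03
import Cfsg.Agent.Lib_helper5_ChevNXE7

set_option autoImplicit false

namespace Cfsg.Agent.helper5.Chev

open Cfsg.Lie

set_option maxRecDepth 1000000 in
set_option maxHeartbeats 0 in
theorem cm_neg_E7 : ∀ r < chevE7.nroots, chevE7.neg r + r + 1 = chevE7.nroots := by decide +kernel

theorem commOK_E7 : CommOK chevE7 := by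
  refine ⟨cm_rts_E7, cm_etas_E7, cm_tab_E7, cm_base_E7, cm_neg_E7, ?_, ?_, ?_⟩
  · intro i hi
    have hn : chevE7.rank = 7 := rfl
    rw [hn] at hi
    interval_cases i
    · exact ⟨nxca_E7_0, nxTab_E7_0⟩
    · exact ⟨nxca_E7_1, nxTab_E7_1⟩
    · exact ⟨nxca_E7_2, nxTab_E7_2⟩
    · exact ⟨nxca_E7_3, nxTab_E7_3⟩
    · exact ⟨nxca_E7_4, nxTab_E7_4⟩
    · exact ⟨nxca_E7_5, nxTab_E7_5⟩
    · exact ⟨nxca_E7_6, nxTab_E7_6⟩
  · intro p hp
    simp only [cm_base_E7, List.mem_cons, List.not_mem_nil, or_false] at hp
    rcases hp with rfl | rfl | rfl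
    · exact cmB_E7_0
    · exact cmB_E7_1
    · exact cmB_E7_2
  · intro r hr
    have hn : chevE7.nroots = 126 := rfl
    rw [hn] at hr
    interval_cases r
    · apply pairCheck_of_chunks chevE7 cm_rts_E7 cm_etas_E7 cm_tab_E7 cm_base_E7 0 126 1 (by decide +kernel) (by decide +kernel)
      intro k hk
      interval_cases k
      · exact cmP_E7_0_0
    · apply pairCheck_of_chunks chevE7 cm_rts_E7 cm_etas_E7 cm_tab_E7 cm_base_E7 1 126 1 (by decide +kernel) (by decide +kernel)
      intro k hk
      interval_cases k
      · exact cmP_E7_1_0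
    · apply pairCheck_of_chunks chevE7 cm_rts_E7 cm_etas_E7 cm_tab_E7 cm_base_E7 2 126 1 (by decide +kernel) (by decide +kernel)
      intro k hk
      interval_cases k
      · exact cmP_E7_2_0
    · apply pairCheck_of_chunks chevE7 cm_rts_E7 cm_etas_E7 cm_tab_E7 cm_base_E7 3 126 1 (by decide +kernel) (by decide +kernel)
      intro k hk
      interval_cases k
      · exact cmP_E7_3_0
    · apply pairCheck_of_chunks chevE7 cm_rts_E7 cm_etas_E7 cm_tab_E7 cm_base_E7 4 126 1 (by decide +kernel) (by decide +kernel)
      intro k hk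
      interval_cases k
      · exact cmP_E7_4_0
    · apply pairCheck_of_chunks chevE7 cm_rts_E7 cm_etas_E7 cm_tab_E7 cm_base_E7 5 126 1 (by decide +kernel) (by decide +kernel)
      intro k hk
      interval_cases k
      · exact cmP_E7_5_0
    · apply pairCheck_of_chunks chevE7 cm_rts_E7 cm_etas_E7 cm_tab_E7 cm_base_E7 6 126 1 (by decide +kernel) (by decide +kernel)
      intro k hk
      interval_cases k
      · exact cmP_E7_6_0
    · apply pairCheck_of_chunks chevE7 cm_rts_E7 cm_etas_E7 cm_tab_E7 cm_base_E7 7 126 1 (by decide +kernel) (by decide +kernel)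
      intro k hk
      interval_cases k
      · exact cmP_E7_7_0
    · apply pairCheck_of_chunks chevE7 cm_rts_E7 cm_etas_E7 cm_tab_E7 cm_base_E7 8 126 1 (by decide +kernel) (by decide +kernel)
      intro k hk
      interval_cases k
      · exact cmP_E7_8_0
    · apply pairCheck_of_chunks chevE7 cm_rts_E7 cm_etas_E7 cm_tab_E7 cm_base_E7 9 126 1 (by decide +kernel) (by decide +kernel)
      intro k hk
      interval_cases k
      · exact cmP_E7_9_0
    · apply pairCheck_of_chunks chevE7 cm_rts_E7 cm_etas_E7 cm_tab_E7 cm_base_E7 10 126 1 (by decide +kernel) (by decide +kernel)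
      intro k hk
      interval_cases k
      · exact cmP_E7_10_0
    · apply pairCheck_of_chunks chevE7 cm_rts_E7 cm_etas_E7 cm_tab_E7 cm_base_E7 11 126 1 (by decide +kernel) (by decide +kernel)
      intro k hk
      interval_cases k
      · exact cmP_E7_11_0
    · apply pairCheck_of_chunks chevE7 cm_rts_E7 cm_etas_E7 cm_tab_E7 cm_base_E7 12 126 1 (by decide +kernel) (by decide +kernel)
      intro k hk
      interval_cases k
      · exact cmP_E7_12_0
    · apply pairCheck_of_chunks chevE7 cm_rts_E7 cm_etas_E7 cm_tab_E7 cm_base_E7 13 126 1 (by decide +kernel) (by decide +kernel)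
      intro k hk
      interval_cases k
      · exact cmP_E7_13_0
    · apply pairCheck_of_chunks chevE7 cm_rts_E7 cm_etas_E7 cm_tab_E7 cm_base_E7 14 126 1 (by decide +kernel) (by decide +kernel)
      intro k hk
      interval_cases k
      · exact cmP_E7_14_0
    · apply pairCheck_of_chunks chevE7 cm_rts_E7 cm_etas_E7 cm_tab_E7 cm_base_E7 15 126 1 (by decide +kernel) (by decide +kernel)
      intro k hk
      interval_cases k
      · exact cmP_E7_15_0
    · apply pairCheck_of_chunks chevE7 cm_rts_E7 cm_etas_E7 cm_tab_E7 cm_base_E7 16 126 1 (by decide +kernel) (by decide +kernel)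
      intro k hk
      interval_cases k
      · exact cmP_E7_16_0
    · apply pairCheck_of_chunks chevE7 cm_rts_E7 cm_etas_E7 cm_tab_E7 cm_base_E7 17 126 1 (by decide +kernel) (by decide +kernel)
      intro k hk
      interval_cases k
      · exact cmP_E7_17_0
    · apply pairCheck_of_chunks chevE7 cm_rts_E7 cm_etas_E7 cm_tab_E7 cm_base_E7 18 126 1 (by decide +kernel) (by decide +kernel)
      intro k hk
      interval_cases k
      · exact cmP_E7_18_0
    · apply pairCheck_of_chunks chevE7 cm_rts_E7 cm_etas_E7 cm_tab_E7 cm_base_E7 19 126 1 (by decide +kernel) (by decide +kernel)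
      intro k hk
      interval_cases k
      · exact cmP_E7_19_0
    · apply pairCheck_of_chunks chevE7 cm_rts_E7 cm_etas_E7 cm_tab_E7 cm_base_E7 20 126 1 (by decide +kernel) (by decide +kernel)
      intro k hk
      interval_cases k
      · exact cmP_E7_20_0
    · apply pairCheck_of_chunks chevE7 cm_rts_E7 cm_etas_E7 cm_tab_E7 cm_base_E7 21 126 1 (by decide +kernel) (by decide +kernel)
      intro k hk
      interval_cases k
      · exact cmP_E7_21_0
    · apply pairCheck_of_chunks chevE7 cm_rts_E7 cm_etas_E7 cm_tab_E7 cm_base_E7 22 126 1 (by decide +kernel) (by decide +kernel)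
      intro k hk
      interval_cases k
      · exact cmP_E7_22_0
    · apply pairCheck_of_chunks chevE7 cm_rts_E7 cm_etas_E7 cm_tab_E7 cm_base_E7 23 126 1 (by decide +kernel) (by decide +kernel)
      intro k hk
      interval_cases k
      · exact cmP_E7_23_0
    · apply pairCheck_of_chunks chevE7 cm_rts_E7 cm_etas_E7 cm_tab_E7 cm_base_E7 24 126 1 (by decide +kernel) (by decide +kernel)
      intro k hk
      interval_cases k
      · exact cmP_E7_24_0
    · apply pairCheck_of_chunks chevE7 cm_rts_E7 cm_etas_E7 cm_tab_E7 cm_base_E7 25 126 1 (by decide +kernel) (by decide +kernel)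
      intro k hk
      interval_cases k
      · exact cmP_E7_25_0
    · apply pairCheck_of_chunks chevE7 cm_rts_E7 cm_etas_E7 cm_tab_E7 cm_base_E7 26 126 1 (by decide +kernel) (by decide +kernel)
      intro k hk
      interval_cases k
      · exact cmP_E7_26_0
    · apply pairCheck_of_chunks chevE7 cm_rts_E7 cm_etas_E7 cm_tab_E7 cm_base_E7 27 126 1 (by decide +kernel) (by decide +kernel)
      intro k hk
      interval_cases k
      · exact cmP_E7_27_0
    · apply pairCheck_of_chunks chevE7 cm_rts_E7 cm_etas_E7 cm_tab_E7 cm_base_E7 28 126 1 (by decide +kernel) (by decide +kernel)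
      intro k hk
      interval_cases k
      · exact cmP_E7_28_0
    · apply pairCheck_of_chunks chevE7 cm_rts_E7 cm_etas_E7 cm_tab_E7 cm_base_E7 29 126 1 (by decide +kernel) (by decide +kernel)
      intro k hk
      interval_cases k
      · exact cmP_E7_29_0
    · apply pairCheck_of_chunks chevE7 cm_rts_E7 cm_etas_E7 cm_tab_E7 cm_base_E7 30 126 1 (by decide +kernel) (by decide +kernel)
      intro k hk
      interval_cases k
      · exact cmP_E7_30_0
    · apply pairCheck_of_chunks chevE7 cm_rts_E7 cm_etas_E7 cm_tab_E7 cm_base_E7 31 126 1 (by decide +kernel) (by decide +kernel)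
      intro k hk
      interval_cases k
      · exact cmP_E7_31_0
    · apply pairCheck_of_chunks chevE7 cm_rts_E7 cm_etas_E7 cm_tab_E7 cm_base_E7 32 126 1 (by decide +kernel) (by decide +kernel)
      intro k hk
      interval_cases k
      · exact cmP_E7_32_0
    · apply pairCheck_of_chunks chevE7 cm_rts_E7 cm_etas_E7 cm_tab_E7 cm_base_E7 33 126 1 (by decide +kernel) (by decide +kernel)
      intro k hk
      interval_cases k
      · exact cmP_E7_33_0
    · apply pairCheck_of_chunks chevE7 cm_rts_E7 cm_etas_E7 cm_tab_E7 cm_base_E7 34 126 1 (by decide +kernel) (by decide +kernel)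
      intro k hk
      interval_cases k
      · exact cmP_E7_34_0
    · apply pairCheck_of_chunks chevE7 cm_rts_E7 cm_etas_E7 cm_tab_E7 cm_base_E7 35 126 1 (by decide +kernel) (by decide +kernel)
      intro k hk
      interval_cases k
      · exact cmP_E7_35_0
    · apply pairCheck_of_chunks chevE7 cm_rts_E7 cm_etas_E7 cm_tab_E7 cm_base_E7 36 126 1 (by decide +kernel) (by decide +kernel)
      intro k hk
      interval_cases k
      · exact cmP_E7_36_0
    · apply pairCheck_of_chunks chevE7 cm_rts_E7 cm_etas_E7 cm_tab_E7 cm_base_E7 37 126 1 (by decide +kernel) (by decide +kernel)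
      intro k hk
      interval_cases k
      · exact cmP_E7_37_0
    · apply pairCheck_of_chunks chevE7 cm_rts_E7 cm_etas_E7 cm_tab_E7 cm_base_E7 38 126 1 (by decide +kernel) (by decide +kernel)
      intro k hk
      interval_cases k
      · exact cmP_E7_38_0
    · apply pairCheck_of_chunks chevE7 cm_rts_E7 cm_etas_E7 cm_tab_E7 cm_base_E7 39 126 1 (by decide +kernel) (by decide +kernel)
      intro k hk
      interval_cases k
      · exact cmP_E7_39_0
    · apply pairCheck_of_chunks chevE7 cm_rts_E7 cm_etas_E7 cm_tab_E7 cm_base_E7 40 126 1 (by decide +kernel) (by decide +kernel)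
      intro k hk
      interval_cases k
      · exact cmP_E7_40_0
    · apply pairCheck_of_chunks chevE7 cm_rts_E7 cm_etas_E7 cm_tab_E7 cm_base_E7 41 126 1 (by decide +kernel) (by decide +kernel)
      intro k hk
      interval_cases k
      · exact cmP_E7_41_0
    · apply pairCheck_of_chunks chevE7 cm_rts_E7 cm_etas_E7 cm_tab_E7 cm_base_E7 42 126 1 (by decide +kernel) (by decide +kernel)
      intro k hk
      interval_cases k
      · exact cmP_E7_42_0
    · apply pairCheck_of_chunks chevE7 cm_rts_E7 cm_etas_E7 cm_tab_E7 cm_base_E7 43 126 1 (by decide +kernel) (by decide +kernel)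
      intro k hk
      interval_cases k
      · exact cmP_E7_43_0
    · apply pairCheck_of_chunks chevE7 cm_rts_E7 cm_etas_E7 cm_tab_E7 cm_base_E7 44 126 1 (by decide +kernel) (by decide +kernel)
      intro k hk
      interval_cases k
      · exact cmP_E7_44_0
    · apply pairCheck_of_chunks chevE7 cm_rts_E7 cm_etas_E7 cm_tab_E7 cm_base_E7 45 126 1 (by decide +kernel) (by decide +kernel)
      intro k hk
      interval_cases k
      · exact cmP_E7_45_0
    · apply pairCheck_of_chunks chevE7 cm_rts_E7 cm_etas_E7 cm_tab_E7 cm_base_E7 46 126 1 (by decide +kernel) (by decide +kernel)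
      intro k hk
      interval_cases k
      · exact cmP_E7_46_0
    · apply pairCheck_of_chunks chevE7 cm_rts_E7 cm_etas_E7 cm_tab_E7 cm_base_E7 47 126 1 (by decide +kernel) (by decide +kernel)
      intro k hk
      interval_cases k
      · exact cmP_E7_47_0
    · apply pairCheck_of_chunks chevE7 cm_rts_E7 cm_etas_E7 cm_tab_E7 cm_base_E7 48 126 1 (by decide +kernel) (by decide +kernel)
      intro k hk
      interval_cases k
      · exact cmP_E7_48_0
    · apply pairCheck_of_chunks chevE7 cm_rts_E7 cm_etas_E7 cm_tab_E7 cm_base_E7 49 126 1 (by decide +kernel) (by decide +kernel)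
      intro k hk
      interval_cases k
      · exact cmP_E7_49_0
    · apply pairCheck_of_chunks chevE7 cm_rts_E7 cm_etas_E7 cm_tab_E7 cm_base_E7 50 126 1 (by decide +kernel) (by decide +kernel)
      intro k hk
      interval_cases k
      · exact cmP_E7_50_0
    · apply pairCheck_of_chunks chevE7 cm_rts_E7 cm_etas_E7 cm_tab_E7 cm_base_E7 51 126 1 (by decide +kernel) (by decide +kernel)
      intro k hk
      interval_cases k
      · exact cmP_E7_51_0
    · apply pairCheck_of_chunks chevE7 cm_rts_E7 cm_etas_E7 cm_tab_E7 cm_base_E7 52 126 1 (by decide +kernel) (by decide +kernel)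
      intro k hk
      interval_cases k
      · exact cmP_E7_52_0
    · apply pairCheck_of_chunks chevE7 cm_rts_E7 cm_etas_E7 cm_tab_E7 cm_base_E7 53 126 1 (by decide +kernel) (by decide +kernel)
      intro k hk
      interval_cases k
      · exact cmP_E7_53_0
    · apply pairCheck_of_chunks chevE7 cm_rts_E7 cm_etas_E7 cm_tab_E7 cm_base_E7 54 126 1 (by decide +kernel) (by decide +kernel)
      intro k hk
      interval_cases k
      · exact cmP_E7_54_0
    · apply pairCheck_of_chunks chevE7 cm_rts_E7 cm_etas_E7 cm_tab_E7 cm_base_E7 55 126 1 (by decide +kernel) (by decide +kernel)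
      intro k hk
      interval_cases k
      · exact cmP_E7_55_0
    · apply pairCheck_of_chunks chevE7 cm_rts_E7 cm_etas_E7 cm_tab_E7 cm_base_E7 56 126 1 (by decide +kernel) (by decide +kernel)
      intro k hk
      interval_cases k
      · exact cmP_E7_56_0
    · apply pairCheck_of_chunks chevE7 cm_rts_E7 cm_etas_E7 cm_tab_E7 cm_base_E7 57 126 1 (by decide +kernel) (by decide +kernel)
      intro k hk
      interval_cases k
      · exact cmP_E7_57_0
    · apply pairCheck_of_chunks chevE7 cm_rts_E7 cm_etas_E7 cm_tab_E7 cm_base_E7 58 126 1 (by decide +kernel) (by decide +kernel)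
      intro k hk
      interval_cases k
      · exact cmP_E7_58_0
    · apply pairCheck_of_chunks chevE7 cm_rts_E7 cm_etas_E7 cm_tab_E7 cm_base_E7 59 126 1 (by decide +kernel) (by decide +kernel)
      intro k hk
      interval_cases k
      · exact cmP_E7_59_0
    · apply pairCheck_of_chunks chevE7 cm_rts_E7 cm_etas_E7 cm_tab_E7 cm_base_E7 60 126 1 (by decide +kernel) (by decide +kernel)
      intro k hk
      interval_cases k
      · exact cmP_E7_60_0
    · apply pairCheck_of_chunks chevE7 cm_rts_E7 cm_etas_E7 cm_tab_E7 cm_base_E7 61 126 1 (by decide +kernel) (by decide +kernel)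
      intro k hk
      interval_cases k
      · exact cmP_E7_61_0
    · apply pairCheck_of_chunks chevE7 cm_rts_E7 cm_etas_E7 cm_tab_E7 cm_base_E7 62 126 1 (by decide +kernel) (by decide +kernel)
      intro k hk
      interval_cases k
      · exact cmP_E7_62_0
    · apply pairCheck_of_chunks chevE7 cm_rts_E7 cm_etas_E7 cm_tab_E7 cm_base_E7 63 126 1 (by decide +kernel) (by decide +kernel)
      intro k hk
      interval_cases k
      · exact cmP_E7_63_0
    · apply pairCheck_of_chunks chevE7 cm_rts_E7 cm_etas_E7 cm_tab_E7 cm_base_E7 64 126 1 (by decide +kernel) (by decide +kernel)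
      intro k hk
      interval_cases k
      · exact cmP_E7_64_0
    · apply pairCheck_of_chunks chevE7 cm_rts_E7 cm_etas_E7 cm_tab_E7 cm_base_E7 65 126 1 (by decide +kernel) (by decide +kernel)
      intro k hk
      interval_cases k
      · exact cmP_E7_65_0
    · apply pairCheck_of_chunks chevE7 cm_rts_E7 cm_etas_E7 cm_tab_E7 cm_base_E7 66 126 1 (by decide +kernel) (by decide +kernel)
      intro k hk
      interval_cases k
      · exact cmP_E7_66_0
    · apply pairCheck_of_chunks chevE7 cm_rts_E7 cm_etas_E7 cm_tab_E7 cm_base_E7 67 126 1 (by decide +kernel) (by decide +kernel)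
      intro k hk
      interval_cases k
      · exact cmP_E7_67_0
    · apply pairCheck_of_chunks chevE7 cm_rts_E7 cm_etas_E7 cm_tab_E7 cm_base_E7 68 126 1 (by decide +kernel) (by decide +kernel)
      intro k hk
      interval_cases k
      · exact cmP_E7_68_0
    · apply pairCheck_of_chunks chevE7 cm_rts_E7 cm_etas_E7 cm_tab_E7 cm_base_E7 69 126 1 (by decide +kernel) (by decide +kernel)
      intro k hk
      interval_cases k
      · exact cmP_E7_69_0
    · apply pairCheck_of_chunks chevE7 cm_rts_E7 cm_etas_E7 cm_tab_E7 cm_base_E7 70 126 1 (by decide +kernel) (by decide +kernel)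
      intro k hk
      interval_cases k
      · exact cmP_E7_70_0
    · apply pairCheck_of_chunks chevE7 cm_rts_E7 cm_etas_E7 cm_tab_E7 cm_base_E7 71 126 1 (by decide +kernel) (by decide +kernel)
      intro k hk
      interval_cases k
      · exact cmP_E7_71_0
    · apply pairCheck_of_chunks chevE7 cm_rts_E7 cm_etas_E7 cm_tab_E7 cm_base_E7 72 126 1 (by decide +kernel) (by decide +kernel)
      intro k hk
      interval_cases k
      · exact cmP_E7_72_0
    · apply pairCheck_of_chunks chevE7 cm_rts_E7 cm_etas_E7 cm_tab_E7 cm_base_E7 73 126 1 (by decide +kernel) (by decide +kernel)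
      intro k hk
      interval_cases k
      · exact cmP_E7_73_0
    · apply pairCheck_of_chunks chevE7 cm_rts_E7 cm_etas_E7 cm_tab_E7 cm_base_E7 74 126 1 (by decide +kernel) (by decide +kernel)
      intro k hk
      interval_cases k
      · exact cmP_E7_74_0
    · apply pairCheck_of_chunks chevE7 cm_rts_E7 cm_etas_E7 cm_tab_E7 cm_base_E7 75 126 1 (by decide +kernel) (by decide +kernel)
      intro k hk
      interval_cases k
      · exact cmP_E7_75_0
    · apply pairCheck_of_chunks chevE7 cm_rts_E7 cm_etas_E7 cm_tab_E7 cm_base_E7 76 126 1 (by decide +kernel) (by decide +kernel)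
      intro k hk
      interval_cases k
      · exact cmP_E7_76_0
    · apply pairCheck_of_chunks chevE7 cm_rts_E7 cm_etas_E7 cm_tab_E7 cm_base_E7 77 126 1 (by decide +kernel) (by decide +kernel)
      intro k hk
      interval_cases k
      · exact cmP_E7_77_0
    · apply pairCheck_of_chunks chevE7 cm_rts_E7 cm_etas_E7 cm_tab_E7 cm_base_E7 78 126 1 (by decide +kernel) (by decide +kernel)
      intro k hk
      interval_cases k
      · exact cmP_E7_78_0
    · apply pairCheck_of_chunks chevE7 cm_rts_E7 cm_etas_E7 cm_tab_E7 cm_base_E7 79 126 1 (by decide +kernel) (by decide +kernel)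
      intro k hk
      interval_cases k
      · exact cmP_E7_79_0
    · apply pairCheck_of_chunks chevE7 cm_rts_E7 cm_etas_E7 cm_tab_E7 cm_base_E7 80 126 1 (by decide +kernel) (by decide +kernel)
      intro k hk
      interval_cases k
      · exact cmP_E7_80_0
    · apply pairCheck_of_chunks chevE7 cm_rts_E7 cm_etas_E7 cm_tab_E7 cm_base_E7 81 126 1 (by decide +kernel) (by decide +kernel)
      intro k hk
      interval_cases k
      · exact cmP_E7_81_0
    · apply pairCheck_of_chunks chevE7 cm_rts_E7 cm_etas_E7 cm_tab_E7 cm_base_E7 82 126 1 (by decide +kernel) (by decide +kernel)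
      intro k hk
      interval_cases k
      · exact cmP_E7_82_0
    · apply pairCheck_of_chunks chevE7 cm_rts_E7 cm_etas_E7 cm_tab_E7 cm_base_E7 83 126 1 (by decide +kernel) (by decide +kernel)
      intro k hk
      interval_cases k
      · exact cmP_E7_83_0
    · apply pairCheck_of_chunks chevE7 cm_rts_E7 cm_etas_E7 cm_tab_E7 cm_base_E7 84 126 1 (by decide +kernel) (by decide +kernel)
      intro k hk
      interval_cases k
      · exact cmP_E7_84_0
    · apply pairCheck_of_chunks chevE7 cm_rts_E7 cm_etas_E7 cm_tab_E7 cm_base_E7 85 126 1 (by decide +kernel) (by decide +kernel)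
      intro k hk
      interval_cases k
      · exact cmP_E7_85_0
    · apply pairCheck_of_chunks chevE7 cm_rts_E7 cm_etas_E7 cm_tab_E7 cm_base_E7 86 126 1 (by decide +kernel) (by decide +kernel)
      intro k hk
      interval_cases k
      · exact cmP_E7_86_0
    · apply pairCheck_of_chunks chevE7 cm_rts_E7 cm_etas_E7 cm_tab_E7 cm_base_E7 87 126 1 (by decide +kernel) (by decide +kernel)
      intro k hk
      interval_cases k
      · exact cmP_E7_87_0
    · apply pairCheck_of_chunks chevE7 cm_rts_E7 cm_etas_E7 cm_tab_E7 cm_base_E7 88 126 1 (by decide +kernel) (by decide +kernel)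
      intro k hk
      interval_cases k
      · exact cmP_E7_88_0
    · apply pairCheck_of_chunks chevE7 cm_rts_E7 cm_etas_E7 cm_tab_E7 cm_base_E7 89 126 1 (by decide +kernel) (by decide +kernel)
      intro k hk
      interval_cases k
      · exact cmP_E7_89_0
    · apply pairCheck_of_chunks chevE7 cm_rts_E7 cm_etas_E7 cm_tab_E7 cm_base_E7 90 126 1 (by decide +kernel) (by decide +kernel)
      intro k hk
      interval_cases k
      · exact cmP_E7_90_0
    · apply pairCheck_of_chunks chevE7 cm_rts_E7 cm_etas_E7 cm_tab_E7 cm_base_E7 91 126 1 (by decide +kernel) (by decide +kernel)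
      intro k hk
      interval_cases k
      · exact cmP_E7_91_0
    · apply pairCheck_of_chunks chevE7 cm_rts_E7 cm_etas_E7 cm_tab_E7 cm_base_E7 92 126 1 (by decide +kernel) (by decide +kernel)
      intro k hk
      interval_cases k
      · exact cmP_E7_92_0
    · apply pairCheck_of_chunks chevE7 cm_rts_E7 cm_etas_E7 cm_tab_E7 cm_base_E7 93 126 1 (by decide +kernel) (by decide +kernel)
      intro k hk
      interval_cases k
      · exact cmP_E7_93_0
    · apply pairCheck_of_chunks chevE7 cm_rts_E7 cm_etas_E7 cm_tab_E7 cm_base_E7 94 126 1 (by decide +kernel) (by decide +kernel)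
      intro k hk
      interval_cases k
      · exact cmP_E7_94_0
    · apply pairCheck_of_chunks chevE7 cm_rts_E7 cm_etas_E7 cm_tab_E7 cm_base_E7 95 126 1 (by decide +kernel) (by decide +kernel)
      intro k hk
      interval_cases k
      · exact cmP_E7_95_0
    · apply pairCheck_of_chunks chevE7 cm_rts_E7 cm_etas_E7 cm_tab_E7 cm_base_E7 96 126 1 (by decide +kernel) (by decide +kernel)
      intro k hk
      interval_cases k
      · exact cmP_E7_96_0
    · apply pairCheck_of_chunks chevE7 cm_rts_E7 cm_etas_E7 cm_tab_E7 cm_base_E7 97 126 1 (by decide +kernel) (by decide +kernel)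
      intro k hk
      interval_cases k
      · exact cmP_E7_97_0
    · apply pairCheck_of_chunks chevE7 cm_rts_E7 cm_etas_E7 cm_tab_E7 cm_base_E7 98 126 1 (by decide +kernel) (by decide +kernel)
      intro k hk
      interval_cases k
      · exact cmP_E7_98_0
    · apply pairCheck_of_chunks chevE7 cm_rts_E7 cm_etas_E7 cm_tab_E7 cm_base_E7 99 126 1 (by decide +kernel) (by decide +kernel)
      intro k hk
      interval_cases k
      · exact cmP_E7_99_0
    · apply pairCheck_of_chunks chevE7 cm_rts_E7 cm_etas_E7 cm_tab_E7 cm_base_E7 100 126 1 (by decide +kernel) (by decide +kernel)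
      intro k hk
      interval_cases k
      · exact cmP_E7_100_0
    · apply pairCheck_of_chunks chevE7 cm_rts_E7 cm_etas_E7 cm_tab_E7 cm_base_E7 101 126 1 (by decide +kernel) (by decide +kernel)
      intro k hk
      interval_cases k
      · exact cmP_E7_101_0
    · apply pairCheck_of_chunks chevE7 cm_rts_E7 cm_etas_E7 cm_tab_E7 cm_base_E7 102 126 1 (by decide +kernel) (by decide +kernel)
      intro k hk
      interval_cases k
      · exact cmP_E7_102_0
    · apply pairCheck_of_chunks chevE7 cm_rts_E7 cm_etas_E7 cm_tab_E7 cm_base_E7 103 126 1 (by decide +kernel) (by decide +kernel)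
      intro k hk
      interval_cases k
      · exact cmP_E7_103_0
    · apply pairCheck_of_chunks chevE7 cm_rts_E7 cm_etas_E7 cm_tab_E7 cm_base_E7 104 126 1 (by decide +kernel) (by decide +kernel)
      intro k hk
      interval_cases k
      · exact cmP_E7_104_0
    · apply pairCheck_of_chunks chevE7 cm_rts_E7 cm_etas_E7 cm_tab_E7 cm_base_E7 105 126 1 (by decide +kernel) (by decide +kernel)
      intro k hk
      interval_cases k
      · exact cmP_E7_105_0
    · apply pairCheck_of_chunks chevE7 cm_rts_E7 cm_etas_E7 cm_tab_E7 cm_base_E7 106 126 1 (by decide +kernel) (by decide +kernel)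
      intro k hk
      interval_cases k
      · exact cmP_E7_106_0
    · apply pairCheck_of_chunks chevE7 cm_rts_E7 cm_etas_E7 cm_tab_E7 cm_base_E7 107 126 1 (by decide +kernel) (by decide +kernel)
      intro k hk
      interval_cases k
      · exact cmP_E7_107_0
    · apply pairCheck_of_chunks chevE7 cm_rts_E7 cm_etas_E7 cm_tab_E7 cm_base_E7 108 126 1 (by decide +kernel) (by decide +kernel)
      intro k hk
      interval_cases k
      · exact cmP_E7_108_0
    · apply pairCheck_of_chunks chevE7 cm_rts_E7 cm_etas_E7 cm_tab_E7 cm_base_E7 109 126 1 (by decide +kernel) (by decide +kernel)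
      intro k hk
      interval_cases k
      · exact cmP_E7_109_0
    · apply pairCheck_of_chunks chevE7 cm_rts_E7 cm_etas_E7 cm_tab_E7 cm_base_E7 110 126 1 (by decide +kernel) (by decide +kernel)
      intro k hk
      interval_cases k
      · exact cmP_E7_110_0
    · apply pairCheck_of_chunks chevE7 cm_rts_E7 cm_etas_E7 cm_tab_E7 cm_base_E7 111 126 1 (by decide +kernel) (by decide +kernel)
      intro k hk
      interval_cases k
      · exact cmP_E7_111_0
    · apply pairCheck_of_chunks chevE7 cm_rts_E7 cm_etas_E7 cm_tab_E7 cm_base_E7 112 126 1 (by decide +kernel) (by decide +kernel)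
      intro k hk
      interval_cases k
      · exact cmP_E7_112_0
    · apply pairCheck_of_chunks chevE7 cm_rts_E7 cm_etas_E7 cm_tab_E7 cm_base_E7 113 126 1 (by decide +kernel) (by decide +kernel)
      intro k hk
      interval_cases k
      · exact cmP_E7_113_0
    · apply pairCheck_of_chunks chevE7 cm_rts_E7 cm_etas_E7 cm_tab_E7 cm_base_E7 114 126 1 (by decide +kernel) (by decide +kernel)
      intro k hk
      interval_cases k
      · exact cmP_E7_114_0
    · apply pairCheck_of_chunks chevE7 cm_rts_E7 cm_etas_E7 cm_tab_E7 cm_base_E7 115 126 1 (by decide +kernel) (by decide +kernel)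
      intro k hk
      interval_cases k
      · exact cmP_E7_115_0
    · apply pairCheck_of_chunks chevE7 cm_rts_E7 cm_etas_E7 cm_tab_E7 cm_base_E7 116 126 1 (by decide +kernel) (by decide +kernel)
      intro k hk
      interval_cases k
      · exact cmP_E7_116_0
    · apply pairCheck_of_chunks chevE7 cm_rts_E7 cm_etas_E7 cm_tab_E7 cm_base_E7 117 126 1 (by decide +kernel) (by decide +kernel)
      intro k hk
      interval_cases k
      · exact cmP_E7_117_0
    · apply pairCheck_of_chunks chevE7 cm_rts_E7 cm_etas_E7 cm_tab_E7 cm_base_E7 118 126 1 (by decide +kernel) (by decide +kernel)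
      intro k hk
      interval_cases k
      · exact cmP_E7_118_0
    · apply pairCheck_of_chunks chevE7 cm_rts_E7 cm_etas_E7 cm_tab_E7 cm_base_E7 119 126 1 (by decide +kernel) (by decide +kernel)
      intro k hk
      interval_cases k
      · exact cmP_E7_119_0
    · apply pairCheck_of_chunks chevE7 cm_rts_E7 cm_etas_E7 cm_tab_E7 cm_base_E7 120 126 1 (by decide +kernel) (by decide +kernel)
      intro k hk
      interval_cases k
      · exact cmP_E7_120_0
    · apply pairCheck_of_chunks chevE7 cm_rts_E7 cm_etas_E7 cm_tab_E7 cm_base_E7 121 126 1 (by decide +kernel) (by decide +kernel)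
      intro k hk
      interval_cases k
      · exact cmP_E7_121_0
    · apply pairCheck_of_chunks chevE7 cm_rts_E7 cm_etas_E7 cm_tab_E7 cm_base_E7 122 126 1 (by decide +kernel) (by decide +kernel)
      intro k hk
      interval_cases k
      · exact cmP_E7_122_0
    · apply pairCheck_of_chunks chevE7 cm_rts_E7 cm_etas_E7 cm_tab_E7 cm_base_E7 123 126 1 (by decide +kernel) (by decide +kernel)
      intro k hk
      interval_cases k
      · exact cmP_E7_123_0
    · apply pairCheck_of_chunks chevE7 cm_rts_E7 cm_etas_E7 cm_tab_E7 cm_base_E7 124 126 1 (by decide +kernel) (by decide +kernel)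
      intro k hk
      interval_cases k
      · exact cmP_E7_124_0
    · apply pairCheck_of_chunks chevE7 cm_rts_E7 cm_etas_E7 cm_tab_E7 cm_base_E7 125 126 1 (by decide +kernel) (by decide +kernel)
      intro k hk
      interval_cases k
      · exact cmP_E7_125_0

end Cfsg.Agent.helper5.Chev
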