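import Mathlib
import Cfsg.Agent.Lib_helper5_ChevCommDefsE8

set_option autoImplicit false

namespace Cfsg.Agent.helper5.Chev

open Cfsg.Lie

set_option maxRecDepth 1000000 in
set_option maxHeartbeats 0 in
theorem cmB_E8_0_0 : commBaseColsRange chevE8 0 1 0 62 = true := by decide +kernel

set_option maxRecDepth 1000000 in
set_option maxHeartbeats 0 in
theorem cmB_E8_0_1 : commBaseColsRange chevE8 0 1 62 62 = true := by decide +kernel

set_option maxRecDepth 1000000 in
set_option maxHeartbeats 0 in
theorem cmB_E8_0_2 : commBaseColsRange chevE8 0 1 124 62 = true := by decide +kernel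

set_option maxRecDepth 1000000 in
set_option maxHeartbeats 0 in
theorem cmB_E8_0_3 : commBaseColsRange chevE8 0 1 186 62 = true := by decide +kernel

theorem cmB_E8_0 : commBaseCheck chevE8 0 1 = true := by
  apply commBaseCheck_of_chunks chevE8 0 1 62 4 (by decide +kernel) (by decide +kernel) (by decide +kernel) (by decide +kernel) (by decide +kernel)
  intro k hk
  interval_cases k
  · exact cmB_E8_0_0
  · exact cmB_E8_0_1
  · exact cmB_E8_0_2
  · exact cmB_E8_0_3

set_option maxRecDepth 1000000 in
set_option maxHeartbeats 0 in
theorem cmB_E8_1_0 : commBaseColsRange chevE8 0 13 0 62 = true := by decide +kernel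

set_option maxRecDepth 1000000 in
set_option maxHeartbeats 0 in
theorem cmB_E8_1_1 : commBaseColsRange chevE8 0 13 62 62 = true := by decide +kernel

set_option maxRecDepth 1000000 in
set_option maxHeartbeats 0 in
theorem cmB_E8_1_2 : commBaseColsRange chevE8 0 13 124 62 = true := by decide +kernel

set_option maxRecDepth 1000000 in
set_option maxHeartbeats 0 in
theorem cmB_E8_1_3 : commBaseColsRange chevE8 0 13 186 62 = true := by decide +kernel

theorem cmB_E8_1 : commBaseCheck chevE8 0 13 = true := by
  apply commBaseCheck_of_chunks chevE8 0 13 62 4 (by decide +kernel) (by decide +kernel) (by decide +kernel) (by decide +kernel) (by decide +kernel)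
  intro k hk
  interval_cases k
  · exact cmB_E8_1_0
  · exact cmB_E8_1_1
  · exact cmB_E8_1_2
  · exact cmB_E8_1_3

end Cfsg.Agent.helper5.Chev
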