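import Mathlib
import Cfsg.Agent.Lib_helper5_ChevCommDefsE8

set_option autoImplicit false

namespace Cfsg.Agent.helper5.Chev

open Cfsg.Lie

set_option maxRecDepth 1000000 in
set_option maxHeartbeats 0 in
theorem cmP_E8_0_0 : pairCheckRange chevE8 cm_rts_E8 cm_etas_E8 cm_tab_E8 cm_base_E8 0 0 120 = true := by decide +kernel

set_option maxRecDepth 1000000 in
set_option maxHeartbeats 0 in
theorem cmP_E8_0_1 : pairCheckRange chevE8 cm_rts_E8 cm_etas_E8 cm_tab_E8 cm_base_E8 0 120 120 = true := by decide +kernel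

set_option maxRecDepth 1000000 in
set_option maxHeartbeats 0 in
theorem cmP_E8_1_0 : pairCheckRange chevE8 cm_rts_E8 cm_etas_E8 cm_tab_E8 cm_base_E8 1 0 120 = true := by decide +kernel

set_option maxRecDepth 1000000 in
set_option maxHeartbeats 0 in
theorem cmP_E8_1_1 : pairCheckRange chevE8 cm_rts_E8 cm_etas_E8 cm_tab_E8 cm_base_E8 1 120 120 = true := by decide +kernel

set_option maxRecDepth 1000000 in
set_option maxHeartbeats 0 in
theorem cmP_E8_2_0 : pairCheckRange chevE8 cm_rts_E8 cm_etas_E8 cm_tab_E8 cm_base_E8 2 0 120 = true := by decide +kernel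

set_option maxRecDepth 1000000 in
set_option maxHeartbeats 0 in
theorem cmP_E8_2_1 : pairCheckRange chevE8 cm_rts_E8 cm_etas_E8 cm_tab_E8 cm_base_E8 2 120 120 = true := by decide +kernel

set_option maxRecDepth 1000000 in
set_option maxHeartbeats 0 in
theorem cmP_E8_3_0 : pairCheckRange chevE8 cm_rts_E8 cm_etas_E8 cm_tab_E8 cm_base_E8 3 0 120 = true := by decide +kernel

set_option maxRecDepth 1000000 in
set_option maxHeartbeats 0 in
theorem cmP_E8_3_1 : pairCheckRange chevE8 cm_rts_E8 cm_etas_E8 cm_tab_E8 cm_base_E8 3 120 120 = true := by decide +kernel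

set_option maxRecDepth 1000000 in
set_option maxHeartbeats 0 in
theorem cmP_E8_4_0 : pairCheckRange chevE8 cm_rts_E8 cm_etas_E8 cm_tab_E8 cm_base_E8 4 0 120 = true := by decide +kernel

set_option maxRecDepth 1000000 in
set_option maxHeartbeats 0 in
theorem cmP_E8_4_1 : pairCheckRange chevE8 cm_rts_E8 cm_etas_E8 cm_tab_E8 cm_base_E8 4 120 120 = true := by decide +kernel

set_option maxRecDepth 1000000 in
set_option maxHeartbeats 0 in
theorem cmP_E8_5_0 : pairCheckRange chevE8 cm_rts_E8 cm_etas_E8 cm_tab_E8 cm_base_E8 5 0 120 = true := by decide +kernel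

set_option maxRecDepth 1000000 in
set_option maxHeartbeats 0 in
theorem cmP_E8_5_1 : pairCheckRange chevE8 cm_rts_E8 cm_etas_E8 cm_tab_E8 cm_base_E8 5 120 120 = true := by decide +kernel

set_option maxRecDepth 1000000 in
set_option maxHeartbeats 0 in
theorem cmP_E8_6_0 : pairCheckRange chevE8 cm_rts_E8 cm_etas_E8 cm_tab_E8 cm_base_E8 6 0 120 = true := by decide +kernel

set_option maxRecDepth 1000000 in
set_option maxHeartbeats 0 in
theorem cmP_E8_6_1 : pairCheckRange chevE8 cm_rts_E8 cm_etas_E8 cm_tab_E8 cm_base_E8 6 120 120 = true := by decide +kernel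

set_option maxRecDepth 1000000 in
set_option maxHeartbeats 0 in
theorem cmP_E8_7_0 : pairCheckRange chevE8 cm_rts_E8 cm_etas_E8 cm_tab_E8 cm_base_E8 7 0 120 = true := by decide +kernel

set_option maxRecDepth 1000000 in
set_option maxHeartbeats 0 in
theorem cmP_E8_7_1 : pairCheckRange chevE8 cm_rts_E8 cm_etas_E8 cm_tab_E8 cm_base_E8 7 120 120 = true := by decide +kernel

set_option maxRecDepth 1000000 in
set_option maxHeartbeats 0 in
theorem cmP_E8_8_0 : pairCheckRange chevE8 cm_rts_E8 cm_etas_E8 cm_tab_E8 cm_base_E8 8 0 120 = true := by decide +kernel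

set_option maxRecDepth 1000000 in
set_option maxHeartbeats 0 in
theorem cmP_E8_8_1 : pairCheckRange chevE8 cm_rts_E8 cm_etas_E8 cm_tab_E8 cm_base_E8 8 120 120 = true := by decide +kernel

set_option maxRecDepth 1000000 in
set_option maxHeartbeats 0 in
theorem cmP_E8_9_0 : pairCheckRange chevE8 cm_rts_E8 cm_etas_E8 cm_tab_E8 cm_base_E8 9 0 120 = true := by decide +kernel

set_option maxRecDepth 1000000 in
set_option maxHeartbeats 0 in
theorem cmP_E8_9_1 : pairCheckRange chevE8 cm_rts_E8 cm_etas_E8 cm_tab_E8 cm_base_E8 9 120 120 = true := by decide +kernel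

set_option maxRecDepth 1000000 in
set_option maxHeartbeats 0 in
theorem cmP_E8_10_0 : pairCheckRange chevE8 cm_rts_E8 cm_etas_E8 cm_tab_E8 cm_base_E8 10 0 120 = true := by decide +kernel

set_option maxRecDepth 1000000 in
set_option maxHeartbeats 0 in
theorem cmP_E8_10_1 : pairCheckRange chevE8 cm_rts_E8 cm_etas_E8 cm_tab_E8 cm_base_E8 10 120 120 = true := by decide +kernel

set_option maxRecDepth 1000000 in
set_option maxHeartbeats 0 in
theorem cmP_E8_11_0 : pairCheckRange chevE8 cm_rts_E8 cm_etas_E8 cm_tab_E8 cm_base_E8 11 0 120 = true := by decide +kernel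

set_option maxRecDepth 1000000 in
set_option maxHeartbeats 0 in
theorem cmP_E8_11_1 : pairCheckRange chevE8 cm_rts_E8 cm_etas_E8 cm_tab_E8 cm_base_E8 11 120 120 = true := by decide +kernel

set_option maxRecDepth 1000000 in
set_option maxHeartbeats 0 in
theorem cmP_E8_12_0 : pairCheckRange chevE8 cm_rts_E8 cm_etas_E8 cm_tab_E8 cm_base_E8 12 0 120 = true := by decide +kernel

set_option maxRecDepth 1000000 in
set_option maxHeartbeats 0 in
theorem cmP_E8_12_1 : pairCheckRange chevE8 cm_rts_E8 cm_etas_E8 cm_tab_E8 cm_base_E8 12 120 120 = true := by decide +kernel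

set_option maxRecDepth 1000000 in
set_option maxHeartbeats 0 in
theorem cmP_E8_13_0 : pairCheckRange chevE8 cm_rts_E8 cm_etas_E8 cm_tab_E8 cm_base_E8 13 0 120 = true := by decide +kernel

set_option maxRecDepth 1000000 in
set_option maxHeartbeats 0 in
theorem cmP_E8_13_1 : pairCheckRange chevE8 cm_rts_E8 cm_etas_E8 cm_tab_E8 cm_base_E8 13 120 120 = true := by decide +kernel

set_option maxRecDepth 1000000 in
set_option maxHeartbeats 0 in
theorem cmP_E8_14_0 : pairCheckRange chevE8 cm_rts_E8 cm_etas_E8 cm_tab_E8 cm_base_E8 14 0 120 = true := by decide +kernel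

set_option maxRecDepth 1000000 in
set_option maxHeartbeats 0 in
theorem cmP_E8_14_1 : pairCheckRange chevE8 cm_rts_E8 cm_etas_E8 cm_tab_E8 cm_base_E8 14 120 120 = true := by decide +kernel

end Cfsg.Agent.helper5.Chev
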