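import Mathlib
import Cfsg.Agent.Lib_helper5_ChevCommDefsE8

set_option autoImplicit false

namespace Cfsg.Agent.helper5.Chev

open Cfsg.Lie

set_option maxRecDepth 1000000 in
set_option maxHeartbeats 0 in
theorem cmP_E8_15_0 : pairCheckRange chevE8 cm_rts_E8 cm_etas_E8 cm_tab_E8 cm_base_E8 15 0 120 = true := by decide +kernel

set_option maxRecDepth 1000000 in
set_option maxHeartbeats 0 in
theorem cmP_E8_15_1 : pairCheckRange chevE8 cm_rts_E8 cm_etas_E8 cm_tab_E8 cm_base_E8 15 120 120 = true := by decide +kernel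

set_option maxRecDepth 1000000 in
set_option maxHeartbeats 0 in
theorem cmP_E8_16_0 : pairCheckRange chevE8 cm_rts_E8 cm_etas_E8 cm_tab_E8 cm_base_E8 16 0 120 = true := by decide +kernel

set_option maxRecDepth 1000000 in
set_option maxHeartbeats 0 in
theorem cmP_E8_16_1 : pairCheckRange chevE8 cm_rts_E8 cm_etas_E8 cm_tab_E8 cm_base_E8 16 120 120 = true := by decide +kernel

set_option maxRecDepth 1000000 in
set_option maxHeartbeats 0 in
theorem cmP_E8_17_0 : pairCheckRange chevE8 cm_rts_E8 cm_etas_E8 cm_tab_E8 cm_base_E8 17 0 120 = true := by decide +kernel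

set_option maxRecDepth 1000000 in
set_option maxHeartbeats 0 in
theorem cmP_E8_17_1 : pairCheckRange chevE8 cm_rts_E8 cm_etas_E8 cm_tab_E8 cm_base_E8 17 120 120 = true := by decide +kernel

set_option maxRecDepth 1000000 in
set_option maxHeartbeats 0 in
theorem cmP_E8_18_0 : pairCheckRange chevE8 cm_rts_E8 cm_etas_E8 cm_tab_E8 cm_base_E8 18 0 120 = true := by decide +kernel

set_option maxRecDepth 1000000 in
set_option maxHeartbeats 0 in
theorem cmP_E8_18_1 : pairCheckRange chevE8 cm_rts_E8 cm_etas_E8 cm_tab_E8 cm_base_E8 18 120 120 = true := by decide +kernel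

set_option maxRecDepth 1000000 in
set_option maxHeartbeats 0 in
theorem cmP_E8_19_0 : pairCheckRange chevE8 cm_rts_E8 cm_etas_E8 cm_tab_E8 cm_base_E8 19 0 120 = true := by decide +kernel

set_option maxRecDepth 1000000 in
set_option maxHeartbeats 0 in
theorem cmP_E8_19_1 : pairCheckRange chevE8 cm_rts_E8 cm_etas_E8 cm_tab_E8 cm_base_E8 19 120 120 = true := by decide +kernel

set_option maxRecDepth 1000000 in
set_option maxHeartbeats 0 in
theorem cmP_E8_20_0 : pairCheckRange chevE8 cm_rts_E8 cm_etas_E8 cm_tab_E8 cm_base_E8 20 0 120 = true := by decide +kernel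

set_option maxRecDepth 1000000 in
set_option maxHeartbeats 0 in
theorem cmP_E8_20_1 : pairCheckRange chevE8 cm_rts_E8 cm_etas_E8 cm_tab_E8 cm_base_E8 20 120 120 = true := by decide +kernel

set_option maxRecDepth 1000000 in
set_option maxHeartbeats 0 in
theorem cmP_E8_21_0 : pairCheckRange chevE8 cm_rts_E8 cm_etas_E8 cm_tab_E8 cm_base_E8 21 0 120 = true := by decide +kernel

set_option maxRecDepth 1000000 in
set_option maxHeartbeats 0 in
theorem cmP_E8_21_1 : pairCheckRange chevE8 cm_rts_E8 cm_etas_E8 cm_tab_E8 cm_base_E8 21 120 120 = true := by decide +kernel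

set_option maxRecDepth 1000000 in
set_option maxHeartbeats 0 in
theorem cmP_E8_22_0 : pairCheckRange chevE8 cm_rts_E8 cm_etas_E8 cm_tab_E8 cm_base_E8 22 0 120 = true := by decide +kernel

set_option maxRecDepth 1000000 in
set_option maxHeartbeats 0 in
theorem cmP_E8_22_1 : pairCheckRange chevE8 cm_rts_E8 cm_etas_E8 cm_tab_E8 cm_base_E8 22 120 120 = true := by decide +kernel

set_option maxRecDepth 1000000 in
set_option maxHeartbeats 0 in
theorem cmP_E8_23_0 : pairCheckRange chevE8 cm_rts_E8 cm_etas_E8 cm_tab_E8 cm_base_E8 23 0 120 = true := by decide +kernel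

set_option maxRecDepth 1000000 in
set_option maxHeartbeats 0 in
theorem cmP_E8_23_1 : pairCheckRange chevE8 cm_rts_E8 cm_etas_E8 cm_tab_E8 cm_base_E8 23 120 120 = true := by decide +kernel

set_option maxRecDepth 1000000 in
set_option maxHeartbeats 0 in
theorem cmP_E8_24_0 : pairCheckRange chevE8 cm_rts_E8 cm_etas_E8 cm_tab_E8 cm_base_E8 24 0 120 = true := by decide +kernel

set_option maxRecDepth 1000000 in
set_option maxHeartbeats 0 in
theorem cmP_E8_24_1 : pairCheckRange chevE8 cm_rts_E8 cm_etas_E8 cm_tab_E8 cm_base_E8 24 120 120 = true := by decide +kernel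

set_option maxRecDepth 1000000 in
set_option maxHeartbeats 0 in
theorem cmP_E8_25_0 : pairCheckRange chevE8 cm_rts_E8 cm_etas_E8 cm_tab_E8 cm_base_E8 25 0 120 = true := by decide +kernel

set_option maxRecDepth 1000000 in
set_option maxHeartbeats 0 in
theorem cmP_E8_25_1 : pairCheckRange chevE8 cm_rts_E8 cm_etas_E8 cm_tab_E8 cm_base_E8 25 120 120 = true := by decide +kernel

set_option maxRecDepth 1000000 in
set_option maxHeartbeats 0 in
theorem cmP_E8_26_0 : pairCheckRange chevE8 cm_rts_E8 cm_etas_E8 cm_tab_E8 cm_base_E8 26 0 120 = true := by decide +kernel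

set_option maxRecDepth 1000000 in
set_option maxHeartbeats 0 in
theorem cmP_E8_26_1 : pairCheckRange chevE8 cm_rts_E8 cm_etas_E8 cm_tab_E8 cm_base_E8 26 120 120 = true := by decide +kernel

set_option maxRecDepth 1000000 in
set_option maxHeartbeats 0 in
theorem cmP_E8_27_0 : pairCheckRange chevE8 cm_rts_E8 cm_etas_E8 cm_tab_E8 cm_base_E8 27 0 120 = true := by decide +kernel

set_option maxRecDepth 1000000 in
set_option maxHeartbeats 0 in
theorem cmP_E8_27_1 : pairCheckRange chevE8 cm_rts_E8 cm_etas_E8 cm_tab_E8 cm_base_E8 27 120 120 = true := by decide +kernel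

set_option maxRecDepth 1000000 in
set_option maxHeartbeats 0 in
theorem cmP_E8_28_0 : pairCheckRange chevE8 cm_rts_E8 cm_etas_E8 cm_tab_E8 cm_base_E8 28 0 120 = true := by decide +kernel

set_option maxRecDepth 1000000 in
set_option maxHeartbeats 0 in
theorem cmP_E8_28_1 : pairCheckRange chevE8 cm_rts_E8 cm_etas_E8 cm_tab_E8 cm_base_E8 28 120 120 = true := by decide +kernel

set_option maxRecDepth 1000000 in
set_option maxHeartbeats 0 in
theorem cmP_E8_29_0 : pairCheckRange chevE8 cm_rts_E8 cm_etas_E8 cm_tab_E8 cm_base_E8 29 0 120 = true := by decide +kernel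

set_option maxRecDepth 1000000 in
set_option maxHeartbeats 0 in
theorem cmP_E8_29_1 : pairCheckRange chevE8 cm_rts_E8 cm_etas_E8 cm_tab_E8 cm_base_E8 29 120 120 = true := by decide +kernel

end Cfsg.Agent.helper5.Chev
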