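import Mathlib
import Cfsg.Agent.Lib_helper5_ChevCommDefsE8

set_option autoImplicit false

namespace Cfsg.Agent.helper5.Chev

open Cfsg.Lie

set_option maxRecDepth 1000000 in
set_option maxHeartbeats 0 in
theorem cmP_E8_30_0 : pairCheckRange chevE8 cm_rts_E8 cm_etas_E8 cm_tab_E8 cm_base_E8 30 0 120 = true := by decide +kernel

set_option maxRecDepth 1000000 in
set_option maxHeartbeats 0 in
theorem cmP_E8_30_1 : pairCheckRange chevE8 cm_rts_E8 cm_etas_E8 cm_tab_E8 cm_base_E8 30 120 120 = true := by decide +kernel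

set_option maxRecDepth 1000000 in
set_option maxHeartbeats 0 in
theorem cmP_E8_31_0 : pairCheckRange chevE8 cm_rts_E8 cm_etas_E8 cm_tab_E8 cm_base_E8 31 0 120 = true := by decide +kernel

set_option maxRecDepth 1000000 in
set_option maxHeartbeats 0 in
theorem cmP_E8_31_1 : pairCheckRange chevE8 cm_rts_E8 cm_etas_E8 cm_tab_E8 cm_base_E8 31 120 120 = true := by decide +kernel

set_option maxRecDepth 1000000 in
set_option maxHeartbeats 0 in
theorem cmP_E8_32_0 : pairCheckRange chevE8 cm_rts_E8 cm_etas_E8 cm_tab_E8 cm_base_E8 32 0 120 = true := by decide +kernel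

set_option maxRecDepth 1000000 in
set_option maxHeartbeats 0 in
theorem cmP_E8_32_1 : pairCheckRange chevE8 cm_rts_E8 cm_etas_E8 cm_tab_E8 cm_base_E8 32 120 120 = true := by decide +kernel

set_option maxRecDepth 1000000 in
set_option maxHeartbeats 0 in
theorem cmP_E8_33_0 : pairCheckRange chevE8 cm_rts_E8 cm_etas_E8 cm_tab_E8 cm_base_E8 33 0 120 = true := by decide +kernel

set_option maxRecDepth 1000000 in
set_option maxHeartbeats 0 in
theorem cmP_E8_33_1 : pairCheckRange chevE8 cm_rts_E8 cm_etas_E8 cm_tab_E8 cm_base_E8 33 120 120 = true := by decide +kernel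

set_option maxRecDepth 1000000 in
set_option maxHeartbeats 0 in
theorem cmP_E8_34_0 : pairCheckRange chevE8 cm_rts_E8 cm_etas_E8 cm_tab_E8 cm_base_E8 34 0 120 = true := by decide +kernel

set_option maxRecDepth 1000000 in
set_option maxHeartbeats 0 in
theorem cmP_E8_34_1 : pairCheckRange chevE8 cm_rts_E8 cm_etas_E8 cm_tab_E8 cm_base_E8 34 120 120 = true := by decide +kernel

set_option maxRecDepth 1000000 in
set_option maxHeartbeats 0 in
theorem cmP_E8_35_0 : pairCheckRange chevE8 cm_rts_E8 cm_etas_E8 cm_tab_E8 cm_base_E8 35 0 120 = true := by decide +kernel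

set_option maxRecDepth 1000000 in
set_option maxHeartbeats 0 in
theorem cmP_E8_35_1 : pairCheckRange chevE8 cm_rts_E8 cm_etas_E8 cm_tab_E8 cm_base_E8 35 120 120 = true := by decide +kernel

set_option maxRecDepth 1000000 in
set_option maxHeartbeats 0 in
theorem cmP_E8_36_0 : pairCheckRange chevE8 cm_rts_E8 cm_etas_E8 cm_tab_E8 cm_base_E8 36 0 120 = true := by decide +kernel

set_option maxRecDepth 1000000 in
set_option maxHeartbeats 0 in
theorem cmP_E8_36_1 : pairCheckRange chevE8 cm_rts_E8 cm_etas_E8 cm_tab_E8 cm_base_E8 36 120 120 = true := by decide +kernel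

set_option maxRecDepth 1000000 in
set_option maxHeartbeats 0 in
theorem cmP_E8_37_0 : pairCheckRange chevE8 cm_rts_E8 cm_etas_E8 cm_tab_E8 cm_base_E8 37 0 120 = true := by decide +kernel

set_option maxRecDepth 1000000 in
set_option maxHeartbeats 0 in
theorem cmP_E8_37_1 : pairCheckRange chevE8 cm_rts_E8 cm_etas_E8 cm_tab_E8 cm_base_E8 37 120 120 = true := by decide +kernel

set_option maxRecDepth 1000000 in
set_option maxHeartbeats 0 in
theorem cmP_E8_38_0 : pairCheckRange chevE8 cm_rts_E8 cm_etas_E8 cm_tab_E8 cm_base_E8 38 0 120 = true := by decide +kernel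

set_option maxRecDepth 1000000 in
set_option maxHeartbeats 0 in
theorem cmP_E8_38_1 : pairCheckRange chevE8 cm_rts_E8 cm_etas_E8 cm_tab_E8 cm_base_E8 38 120 120 = true := by decide +kernel

set_option maxRecDepth 1000000 in
set_option maxHeartbeats 0 in
theorem cmP_E8_39_0 : pairCheckRange chevE8 cm_rts_E8 cm_etas_E8 cm_tab_E8 cm_base_E8 39 0 120 = true := by decide +kernel

set_option maxRecDepth 1000000 in
set_option maxHeartbeats 0 in
theorem cmP_E8_39_1 : pairCheckRange chevE8 cm_rts_E8 cm_etas_E8 cm_tab_E8 cm_base_E8 39 120 120 = true := by decide +kernel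

set_option maxRecDepth 1000000 in
set_option maxHeartbeats 0 in
theorem cmP_E8_40_0 : pairCheckRange chevE8 cm_rts_E8 cm_etas_E8 cm_tab_E8 cm_base_E8 40 0 120 = true := by decide +kernel

set_option maxRecDepth 1000000 in
set_option maxHeartbeats 0 in
theorem cmP_E8_40_1 : pairCheckRange chevE8 cm_rts_E8 cm_etas_E8 cm_tab_E8 cm_base_E8 40 120 120 = true := by decide +kernel

set_option maxRecDepth 1000000 in
set_option maxHeartbeats 0 in
theorem cmP_E8_41_0 : pairCheckRange chevE8 cm_rts_E8 cm_etas_E8 cm_tab_E8 cm_base_E8 41 0 120 = true := by decide +kernel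

set_option maxRecDepth 1000000 in
set_option maxHeartbeats 0 in
theorem cmP_E8_41_1 : pairCheckRange chevE8 cm_rts_E8 cm_etas_E8 cm_tab_E8 cm_base_E8 41 120 120 = true := by decide +kernel

set_option maxRecDepth 1000000 in
set_option maxHeartbeats 0 in
theorem cmP_E8_42_0 : pairCheckRange chevE8 cm_rts_E8 cm_etas_E8 cm_tab_E8 cm_base_E8 42 0 120 = true := by decide +kernel

set_option maxRecDepth 1000000 in
set_option maxHeartbeats 0 in
theorem cmP_E8_42_1 : pairCheckRange chevE8 cm_rts_E8 cm_etas_E8 cm_tab_E8 cm_base_E8 42 120 120 = true := by decide +kernel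

set_option maxRecDepth 1000000 in
set_option maxHeartbeats 0 in
theorem cmP_E8_43_0 : pairCheckRange chevE8 cm_rts_E8 cm_etas_E8 cm_tab_E8 cm_base_E8 43 0 120 = true := by decide +kernel

set_option maxRecDepth 1000000 in
set_option maxHeartbeats 0 in
theorem cmP_E8_43_1 : pairCheckRange chevE8 cm_rts_E8 cm_etas_E8 cm_tab_E8 cm_base_E8 43 120 120 = true := by decide +kernel

set_option maxRecDepth 1000000 in
set_option maxHeartbeats 0 in
theorem cmP_E8_44_0 : pairCheckRange chevE8 cm_rts_E8 cm_etas_E8 cm_tab_E8 cm_base_E8 44 0 120 = true := by decide +kernel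

set_option maxRecDepth 1000000 in
set_option maxHeartbeats 0 in
theorem cmP_E8_44_1 : pairCheckRange chevE8 cm_rts_E8 cm_etas_E8 cm_tab_E8 cm_base_E8 44 120 120 = true := by decide +kernel

end Cfsg.Agent.helper5.Chev
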