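import Mathlib
import Cfsg.Agent.Lib_helper5_ChevCommDefsE8

set_option autoImplicit false

namespace Cfsg.Agent.helper5.Chev

open Cfsg.Lie

set_option maxRecDepth 1000000 in
set_option maxHeartbeats 0 in
theorem cmP_E8_45_0 : pairCheckRange chevE8 cm_rts_E8 cm_etas_E8 cm_tab_E8 cm_base_E8 45 0 120 = true := by decide +kernel

set_option maxRecDepth 1000000 in
set_option maxHeartbeats 0 in
theorem cmP_E8_45_1 : pairCheckRange chevE8 cm_rts_E8 cm_etas_E8 cm_tab_E8 cm_base_E8 45 120 120 = true := by decide +kernel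

set_option maxRecDepth 1000000 in
set_option maxHeartbeats 0 in
theorem cmP_E8_46_0 : pairCheckRange chevE8 cm_rts_E8 cm_etas_E8 cm_tab_E8 cm_base_E8 46 0 120 = true := by decide +kernel

set_option maxRecDepth 1000000 in
set_option maxHeartbeats 0 in
theorem cmP_E8_46_1 : pairCheckRange chevE8 cm_rts_E8 cm_etas_E8 cm_tab_E8 cm_base_E8 46 120 120 = true := by decide +kernel

set_option maxRecDepth 1000000 in
set_option maxHeartbeats 0 in
theorem cmP_E8_47_0 : pairCheckRange chevE8 cm_rts_E8 cm_etas_E8 cm_tab_E8 cm_base_E8 47 0 120 = true := by decide +kernel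

set_option maxRecDepth 1000000 in
set_option maxHeartbeats 0 in
theorem cmP_E8_47_1 : pairCheckRange chevE8 cm_rts_E8 cm_etas_E8 cm_tab_E8 cm_base_E8 47 120 120 = true := by decide +kernel

set_option maxRecDepth 1000000 in
set_option maxHeartbeats 0 in
theorem cmP_E8_48_0 : pairCheckRange chevE8 cm_rts_E8 cm_etas_E8 cm_tab_E8 cm_base_E8 48 0 120 = true := by decide +kernel

set_option maxRecDepth 1000000 in
set_option maxHeartbeats 0 in
theorem cmP_E8_48_1 : pairCheckRange chevE8 cm_rts_E8 cm_etas_E8 cm_tab_E8 cm_base_E8 48 120 120 = true := by decide +kernel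

set_option maxRecDepth 1000000 in
set_option maxHeartbeats 0 in
theorem cmP_E8_49_0 : pairCheckRange chevE8 cm_rts_E8 cm_etas_E8 cm_tab_E8 cm_base_E8 49 0 120 = true := by decide +kernel

set_option maxRecDepth 1000000 in
set_option maxHeartbeats 0 in
theorem cmP_E8_49_1 : pairCheckRange chevE8 cm_rts_E8 cm_etas_E8 cm_tab_E8 cm_base_E8 49 120 120 = true := by decide +kernel

set_option maxRecDepth 1000000 in
set_option maxHeartbeats 0 in
theorem cmP_E8_50_0 : pairCheckRange chevE8 cm_rts_E8 cm_etas_E8 cm_tab_E8 cm_base_E8 50 0 120 = true := by decide +kernel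

set_option maxRecDepth 1000000 in
set_option maxHeartbeats 0 in
theorem cmP_E8_50_1 : pairCheckRange chevE8 cm_rts_E8 cm_etas_E8 cm_tab_E8 cm_base_E8 50 120 120 = true := by decide +kernel

set_option maxRecDepth 1000000 in
set_option maxHeartbeats 0 in
theorem cmP_E8_51_0 : pairCheckRange chevE8 cm_rts_E8 cm_etas_E8 cm_tab_E8 cm_base_E8 51 0 120 = true := by decide +kernel

set_option maxRecDepth 1000000 in
set_option maxHeartbeats 0 in
theorem cmP_E8_51_1 : pairCheckRange chevE8 cm_rts_E8 cm_etas_E8 cm_tab_E8 cm_base_E8 51 120 120 = true := by decide +kernel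

set_option maxRecDepth 1000000 in
set_option maxHeartbeats 0 in
theorem cmP_E8_52_0 : pairCheckRange chevE8 cm_rts_E8 cm_etas_E8 cm_tab_E8 cm_base_E8 52 0 120 = true := by decide +kernel

set_option maxRecDepth 1000000 in
set_option maxHeartbeats 0 in
theorem cmP_E8_52_1 : pairCheckRange chevE8 cm_rts_E8 cm_etas_E8 cm_tab_E8 cm_base_E8 52 120 120 = true := by decide +kernel

set_option maxRecDepth 1000000 in
set_option maxHeartbeats 0 in
theorem cmP_E8_53_0 : pairCheckRange chevE8 cm_rts_E8 cm_etas_E8 cm_tab_E8 cm_base_E8 53 0 120 = true := by decide +kernel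

set_option maxRecDepth 1000000 in
set_option maxHeartbeats 0 in
theorem cmP_E8_53_1 : pairCheckRange chevE8 cm_rts_E8 cm_etas_E8 cm_tab_E8 cm_base_E8 53 120 120 = true := by decide +kernel

set_option maxRecDepth 1000000 in
set_option maxHeartbeats 0 in
theorem cmP_E8_54_0 : pairCheckRange chevE8 cm_rts_E8 cm_etas_E8 cm_tab_E8 cm_base_E8 54 0 120 = true := by decide +kernel

set_option maxRecDepth 1000000 in
set_option maxHeartbeats 0 in
theorem cmP_E8_54_1 : pairCheckRange chevE8 cm_rts_E8 cm_etas_E8 cm_tab_E8 cm_base_E8 54 120 120 = true := by decide +kernel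

set_option maxRecDepth 1000000 in
set_option maxHeartbeats 0 in
theorem cmP_E8_55_0 : pairCheckRange chevE8 cm_rts_E8 cm_etas_E8 cm_tab_E8 cm_base_E8 55 0 120 = true := by decide +kernel

set_option maxRecDepth 1000000 in
set_option maxHeartbeats 0 in
theorem cmP_E8_55_1 : pairCheckRange chevE8 cm_rts_E8 cm_etas_E8 cm_tab_E8 cm_base_E8 55 120 120 = true := by decide +kernel

set_option maxRecDepth 1000000 in
set_option maxHeartbeats 0 in
theorem cmP_E8_56_0 : pairCheckRange chevE8 cm_rts_E8 cm_etas_E8 cm_tab_E8 cm_base_E8 56 0 120 = true := by decide +kernel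

set_option maxRecDepth 1000000 in
set_option maxHeartbeats 0 in
theorem cmP_E8_56_1 : pairCheckRange chevE8 cm_rts_E8 cm_etas_E8 cm_tab_E8 cm_base_E8 56 120 120 = true := by decide +kernel

set_option maxRecDepth 1000000 in
set_option maxHeartbeats 0 in
theorem cmP_E8_57_0 : pairCheckRange chevE8 cm_rts_E8 cm_etas_E8 cm_tab_E8 cm_base_E8 57 0 120 = true := by decide +kernel

set_option maxRecDepth 1000000 in
set_option maxHeartbeats 0 in
theorem cmP_E8_57_1 : pairCheckRange chevE8 cm_rts_E8 cm_etas_E8 cm_tab_E8 cm_base_E8 57 120 120 = true := by decide +kernel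

set_option maxRecDepth 1000000 in
set_option maxHeartbeats 0 in
theorem cmP_E8_58_0 : pairCheckRange chevE8 cm_rts_E8 cm_etas_E8 cm_tab_E8 cm_base_E8 58 0 120 = true := by decide +kernel

set_option maxRecDepth 1000000 in
set_option maxHeartbeats 0 in
theorem cmP_E8_58_1 : pairCheckRange chevE8 cm_rts_E8 cm_etas_E8 cm_tab_E8 cm_base_E8 58 120 120 = true := by decide +kernel

set_option maxRecDepth 1000000 in
set_option maxHeartbeats 0 in
theorem cmP_E8_59_0 : pairCheckRange chevE8 cm_rts_E8 cm_etas_E8 cm_tab_E8 cm_base_E8 59 0 120 = true := by decide +kernel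

set_option maxRecDepth 1000000 in
set_option maxHeartbeats 0 in
theorem cmP_E8_59_1 : pairCheckRange chevE8 cm_rts_E8 cm_etas_E8 cm_tab_E8 cm_base_E8 59 120 120 = true := by decide +kernel

end Cfsg.Agent.helper5.Chev
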