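import Mathlib
import Cfsg.Agent.Lib_helper5_ChevCommDefsE8

set_option autoImplicit false

namespace Cfsg.Agent.helper5.Chev

open Cfsg.Lie

set_option maxRecDepth 1000000 in
set_option maxHeartbeats 0 in
theorem cmP_E8_60_0 : pairCheckRange chevE8 cm_rts_E8 cm_etas_E8 cm_tab_E8 cm_base_E8 60 0 120 = true := by decide +kernel

set_option maxRecDepth 1000000 in
set_option maxHeartbeats 0 in
theorem cmP_E8_60_1 : pairCheckRange chevE8 cm_rts_E8 cm_etas_E8 cm_tab_E8 cm_base_E8 60 120 120 = true := by decide +kernel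

set_option maxRecDepth 1000000 in
set_option maxHeartbeats 0 in
theorem cmP_E8_61_0 : pairCheckRange chevE8 cm_rts_E8 cm_etas_E8 cm_tab_E8 cm_base_E8 61 0 120 = true := by decide +kernel

set_option maxRecDepth 1000000 in
set_option maxHeartbeats 0 in
theorem cmP_E8_61_1 : pairCheckRange chevE8 cm_rts_E8 cm_etas_E8 cm_tab_E8 cm_base_E8 61 120 120 = true := by decide +kernel

set_option maxRecDepth 1000000 in
set_option maxHeartbeats 0 in
theorem cmP_E8_62_0 : pairCheckRange chevE8 cm_rts_E8 cm_etas_E8 cm_tab_E8 cm_base_E8 62 0 120 = true := by decide +kernel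

set_option maxRecDepth 1000000 in
set_option maxHeartbeats 0 in
theorem cmP_E8_62_1 : pairCheckRange chevE8 cm_rts_E8 cm_etas_E8 cm_tab_E8 cm_base_E8 62 120 120 = true := by decide +kernel

set_option maxRecDepth 1000000 in
set_option maxHeartbeats 0 in
theorem cmP_E8_63_0 : pairCheckRange chevE8 cm_rts_E8 cm_etas_E8 cm_tab_E8 cm_base_E8 63 0 120 = true := by decide +kernel

set_option maxRecDepth 1000000 in
set_option maxHeartbeats 0 in
theorem cmP_E8_63_1 : pairCheckRange chevE8 cm_rts_E8 cm_etas_E8 cm_tab_E8 cm_base_E8 63 120 120 = true := by decide +kernel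

set_option maxRecDepth 1000000 in
set_option maxHeartbeats 0 in
theorem cmP_E8_64_0 : pairCheckRange chevE8 cm_rts_E8 cm_etas_E8 cm_tab_E8 cm_base_E8 64 0 120 = true := by decide +kernel

set_option maxRecDepth 1000000 in
set_option maxHeartbeats 0 in
theorem cmP_E8_64_1 : pairCheckRange chevE8 cm_rts_E8 cm_etas_E8 cm_tab_E8 cm_base_E8 64 120 120 = true := by decide +kernel

set_option maxRecDepth 1000000 in
set_option maxHeartbeats 0 in
theorem cmP_E8_65_0 : pairCheckRange chevE8 cm_rts_E8 cm_etas_E8 cm_tab_E8 cm_base_E8 65 0 120 = true := by decide +kernel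

set_option maxRecDepth 1000000 in
set_option maxHeartbeats 0 in
theorem cmP_E8_65_1 : pairCheckRange chevE8 cm_rts_E8 cm_etas_E8 cm_tab_E8 cm_base_E8 65 120 120 = true := by decide +kernel

set_option maxRecDepth 1000000 in
set_option maxHeartbeats 0 in
theorem cmP_E8_66_0 : pairCheckRange chevE8 cm_rts_E8 cm_etas_E8 cm_tab_E8 cm_base_E8 66 0 120 = true := by decide +kernel

set_option maxRecDepth 1000000 in
set_option maxHeartbeats 0 in
theorem cmP_E8_66_1 : pairCheckRange chevE8 cm_rts_E8 cm_etas_E8 cm_tab_E8 cm_base_E8 66 120 120 = true := by decide +kernel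

set_option maxRecDepth 1000000 in
set_option maxHeartbeats 0 in
theorem cmP_E8_67_0 : pairCheckRange chevE8 cm_rts_E8 cm_etas_E8 cm_tab_E8 cm_base_E8 67 0 120 = true := by decide +kernel

set_option maxRecDepth 1000000 in
set_option maxHeartbeats 0 in
theorem cmP_E8_67_1 : pairCheckRange chevE8 cm_rts_E8 cm_etas_E8 cm_tab_E8 cm_base_E8 67 120 120 = true := by decide +kernel

set_option maxRecDepth 1000000 in
set_option maxHeartbeats 0 in
theorem cmP_E8_68_0 : pairCheckRange chevE8 cm_rts_E8 cm_etas_E8 cm_tab_E8 cm_base_E8 68 0 120 = true := by decide +kernel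

set_option maxRecDepth 1000000 in
set_option maxHeartbeats 0 in
theorem cmP_E8_68_1 : pairCheckRange chevE8 cm_rts_E8 cm_etas_E8 cm_tab_E8 cm_base_E8 68 120 120 = true := by decide +kernel

set_option maxRecDepth 1000000 in
set_option maxHeartbeats 0 in
theorem cmP_E8_69_0 : pairCheckRange chevE8 cm_rts_E8 cm_etas_E8 cm_tab_E8 cm_base_E8 69 0 120 = true := by decide +kernel

set_option maxRecDepth 1000000 in
set_option maxHeartbeats 0 in
theorem cmP_E8_69_1 : pairCheckRange chevE8 cm_rts_E8 cm_etas_E8 cm_tab_E8 cm_base_E8 69 120 120 = true := by decide +kernel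

set_option maxRecDepth 1000000 in
set_option maxHeartbeats 0 in
theorem cmP_E8_70_0 : pairCheckRange chevE8 cm_rts_E8 cm_etas_E8 cm_tab_E8 cm_base_E8 70 0 120 = true := by decide +kernel

set_option maxRecDepth 1000000 in
set_option maxHeartbeats 0 in
theorem cmP_E8_70_1 : pairCheckRange chevE8 cm_rts_E8 cm_etas_E8 cm_tab_E8 cm_base_E8 70 120 120 = true := by decide +kernel

set_option maxRecDepth 1000000 in
set_option maxHeartbeats 0 in
theorem cmP_E8_71_0 : pairCheckRange chevE8 cm_rts_E8 cm_etas_E8 cm_tab_E8 cm_base_E8 71 0 120 = true := by decide +kernel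

set_option maxRecDepth 1000000 in
set_option maxHeartbeats 0 in
theorem cmP_E8_71_1 : pairCheckRange chevE8 cm_rts_E8 cm_etas_E8 cm_tab_E8 cm_base_E8 71 120 120 = true := by decide +kernel

set_option maxRecDepth 1000000 in
set_option maxHeartbeats 0 in
theorem cmP_E8_72_0 : pairCheckRange chevE8 cm_rts_E8 cm_etas_E8 cm_tab_E8 cm_base_E8 72 0 120 = true := by decide +kernel

set_option maxRecDepth 1000000 in
set_option maxHeartbeats 0 in
theorem cmP_E8_72_1 : pairCheckRange chevE8 cm_rts_E8 cm_etas_E8 cm_tab_E8 cm_base_E8 72 120 120 = true := by decide +kernel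

set_option maxRecDepth 1000000 in
set_option maxHeartbeats 0 in
theorem cmP_E8_73_0 : pairCheckRange chevE8 cm_rts_E8 cm_etas_E8 cm_tab_E8 cm_base_E8 73 0 120 = true := by decide +kernel

set_option maxRecDepth 1000000 in
set_option maxHeartbeats 0 in
theorem cmP_E8_73_1 : pairCheckRange chevE8 cm_rts_E8 cm_etas_E8 cm_tab_E8 cm_base_E8 73 120 120 = true := by decide +kernel

set_option maxRecDepth 1000000 in
set_option maxHeartbeats 0 in
theorem cmP_E8_74_0 : pairCheckRange chevE8 cm_rts_E8 cm_etas_E8 cm_tab_E8 cm_base_E8 74 0 120 = true := by decide +kernel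

set_option maxRecDepth 1000000 in
set_option maxHeartbeats 0 in
theorem cmP_E8_74_1 : pairCheckRange chevE8 cm_rts_E8 cm_etas_E8 cm_tab_E8 cm_base_E8 74 120 120 = true := by decide +kernel

end Cfsg.Agent.helper5.Chev
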