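import Mathlib
import Cfsg.Agent.Lib_helper5_ChevCommBaseE8_0
import Cfsg.Agent.Lib_helper5_ChevCommBaseE8_1
import Cfsg.Agent.Lib_helper5_ChevCommPE8_00
import Cfsg.Agent.Lib_helper5_ChevCommPE8_01
import Cfsg.Agent.Lib_helper5_ChevCommPE8_02
import Cfsg.Agent.Lib_helper5_ChevCommPE8_03
import Cfsg.Agent.Lib_helper5_ChevCommPE8_04
import Cfsg.Agent.Lib_helper5_ChevCommPE8_05
import Cfsg.Agent.Lib_helper5_ChevCommPE8_06
import Cfsg.Agent.Lib_helper5_ChevCommPE8_07
import Cfsg.Agent.Lib_helper5_ChevCommPE8_08
import Cfsg.Agent.Lib_helper5_ChevCommPE8_09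
import Cfsg.Agent.Lib_helper5_ChevCommPE8_10
import Cfsg.Agent.Lib_helper5_ChevCommPE8_11
import Cfsg.Agent.Lib_helper5_ChevCommPE8_12
import Cfsg.Agent.Lib_helper5_ChevCommPE8_13
import Cfsg.Agent.Lib_helper5_ChevCommPE8_14
import Cfsg.Agent.Lib_helper5_ChevCommPE8_15
import Cfsg.Agent.Lib_helper5_ChevNXE8

set_option autoImplicit false

namespace Cfsg.Agent.helper5.Chev

open Cfsg.Lie

set_option maxRecDepth 1000000 in
set_option maxHeartbeats 0 in
theorem cm_neg_E8 : ∀ r < chevE8.nroots, chevE8.neg r + r + 1 = chevE8.nroots := by decide +kernel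

theorem commOK_E8 : CommOK chevE8 := by
  refine ⟨cm_rts_E8, cm_etas_E8, cm_tab_E8, cm_base_E8, cm_neg_E8, ?_, ?_, ?_⟩
  · intro i hi
    have hn : chevE8.rank = 8 := rfl
    rw [hn] at hi
    interval_cases i
    · exact ⟨nxca_E8_0, nxTab_E8_0⟩
    · exact ⟨nxca_E8_1, nxTab_E8_1⟩
    · exact ⟨nxca_E8_2, nxTab_E8_2⟩
    · exact ⟨nxca_E8_3, nxTab_E8_3⟩
    · exact ⟨nxca_E8_4, nxTab_E8_4⟩
    · exact ⟨nxca_E8_5, nxTab_E8_5⟩
    · exact ⟨nxca_E8_6, nxTab_E8_6⟩
    · exact ⟨nxca_E8_7, nxTab_E8_7⟩
  · intro p hp
    simp only [cm_base_E8, List.mem_cons, List.not_mem_nil, or_false] at hp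
    rcases hp with rfl | rfl | rfl
    · exact cmB_E8_0
    · exact cmB_E8_1
    · exact cmB_E8_2
  · intro r hr
    have hn : chevE8.nroots = 240 := rfl
    rw [hn] at hr
    interval_cases r
    · apply pairCheck_of_chunks chevE8 cm_rts_E8 cm_etas_E8 cm_tab_E8 cm_base_E8 0 120 2 (by decide +kernel) (by decide +kernel)
      intro k hk
      interval_cases k
      · exact cmP_E8_0_0
      · exact cmP_E8_0_1
    · apply pairCheck_of_chunks chevE8 cm_rts_E8 cm_etas_E8 cm_tab_E8 cm_base_E8 1 120 2 (by decide +kernel) (by decide +kernel)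
      intro k hk
      interval_cases k
      · exact cmP_E8_1_0
      · exact cmP_E8_1_1
    · apply pairCheck_of_chunks chevE8 cm_rts_E8 cm_etas_E8 cm_tab_E8 cm_base_E8 2 120 2 (by decide +kernel) (by decide +kernel)
      intro k hk
      interval_cases k
      · exact cmP_E8_2_0
      · exact cmP_E8_2_1
    · apply pairCheck_of_chunks chevE8 cm_rts_E8 cm_etas_E8 cm_tab_E8 cm_base_E8 3 120 2 (by decide +kernel) (by decide +kernel)
      intro k hk
      interval_cases k
      · exact cmP_E8_3_0
      · exact cmP_E8_3_1
    · apply pairCheck_of_chunks chevE8 cm_rts_E8 cm_etas_E8 cm_tab_E8 cm_base_E8 4 120 2 (by decide +kernel) (by decide +kernel)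
      intro k hk
      interval_cases k
      · exact cmP_E8_4_0
      · exact cmP_E8_4_1
    · apply pairCheck_of_chunks chevE8 cm_rts_E8 cm_etas_E8 cm_tab_E8 cm_base_E8 5 120 2 (by decide +kernel) (by decide +kernel)
      intro k hk
      interval_cases k
      · exact cmP_E8_5_0
      · exact cmP_E8_5_1
    · apply pairCheck_of_chunks chevE8 cm_rts_E8 cm_etas_E8 cm_tab_E8 cm_base_E8 6 120 2 (by decide +kernel) (by decide +kernel)
      intro k hk
      interval_cases k
      · exact cmP_E8_6_0
      · exact cmP_E8_6_1
    · apply pairCheck_of_chunks chevE8 cm_rts_E8 cm_etas_E8 cm_tab_E8 cm_base_E8 7 120 2 (by decide +kernel) (by decide +kernel)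
      intro k hk
      interval_cases k
      · exact cmP_E8_7_0
      · exact cmP_E8_7_1
    · apply pairCheck_of_chunks chevE8 cm_rts_E8 cm_etas_E8 cm_tab_E8 cm_base_E8 8 120 2 (by decide +kernel) (by decide +kernel)
      intro k hk
      interval_cases k
      · exact cmP_E8_8_0
      · exact cmP_E8_8_1
    · apply pairCheck_of_chunks chevE8 cm_rts_E8 cm_etas_E8 cm_tab_E8 cm_base_E8 9 120 2 (by decide +kernel) (by decide +kernel)
      intro k hk
      interval_cases k
      · exact cmP_E8_9_0
      · exact cmP_E8_9_1
    · apply pairCheck_of_chunks chevE8 cm_rts_E8 cm_etas_E8 cm_tab_E8 cm_base_E8 10 120 2 (by decide +kernel) (by decide +kernel)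
      intro k hk
      interval_cases k
      · exact cmP_E8_10_0
      · exact cmP_E8_10_1
    · apply pairCheck_of_chunks chevE8 cm_rts_E8 cm_etas_E8 cm_tab_E8 cm_base_E8 11 120 2 (by decide +kernel) (by decide +kernel)
      intro k hk
      interval_cases k
      · exact cmP_E8_11_0
      · exact cmP_E8_11_1
    · apply pairCheck_of_chunks chevE8 cm_rts_E8 cm_etas_E8 cm_tab_E8 cm_base_E8 12 120 2 (by decide +kernel) (by decide +kernel)
      intro k hk
      interval_cases k
      · exact cmP_E8_12_0
      · exact cmP_E8_12_1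
    · apply pairCheck_of_chunks chevE8 cm_rts_E8 cm_etas_E8 cm_tab_E8 cm_base_E8 13 120 2 (by decide +kernel) (by decide +kernel)
      intro k hk
      interval_cases k
      · exact cmP_E8_13_0
      · exact cmP_E8_13_1
    · apply pairCheck_of_chunks chevE8 cm_rts_E8 cm_etas_E8 cm_tab_E8 cm_base_E8 14 120 2 (by decide +kernel) (by decide +kernel)
      intro k hk
      interval_cases k
      · exact cmP_E8_14_0
      · exact cmP_E8_14_1
    · apply pairCheck_of_chunks chevE8 cm_rts_E8 cm_etas_E8 cm_tab_E8 cm_base_E8 15 120 2 (by decide +kernel) (by decide +kernel)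
      intro k hk
      interval_cases k
      · exact cmP_E8_15_0
      · exact cmP_E8_15_1
    · apply pairCheck_of_chunks chevE8 cm_rts_E8 cm_etas_E8 cm_tab_E8 cm_base_E8 16 120 2 (by decide +kernel) (by decide +kernel)
      intro k hk
      interval_cases k
      · exact cmP_E8_16_0
      · exact cmP_E8_16_1
    · apply pairCheck_of_chunks chevE8 cm_rts_E8 cm_etas_E8 cm_tab_E8 cm_base_E8 17 120 2 (by decide +kernel) (by decide +kernel)
      intro k hk
      interval_cases k
      · exact cmP_E8_17_0
      · exact cmP_E8_17_1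
    · apply pairCheck_of_chunks chevE8 cm_rts_E8 cm_etas_E8 cm_tab_E8 cm_base_E8 18 120 2 (by decide +kernel) (by decide +kernel)
      intro k hk
      interval_cases k
      · exact cmP_E8_18_0
      · exact cmP_E8_18_1
    · apply pairCheck_of_chunks chevE8 cm_rts_E8 cm_etas_E8 cm_tab_E8 cm_base_E8 19 120 2 (by decide +kernel) (by decide +kernel)
      intro k hk
      interval_cases k
      · exact cmP_E8_19_0
      · exact cmP_E8_19_1
    · apply pairCheck_of_chunks chevE8 cm_rts_E8 cm_etas_E8 cm_tab_E8 cm_base_E8 20 120 2 (by decide +kernel) (by decide +kernel)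
      intro k hk
      interval_cases k
      · exact cmP_E8_20_0
      · exact cmP_E8_20_1
    · apply pairCheck_of_chunks chevE8 cm_rts_E8 cm_etas_E8 cm_tab_E8 cm_base_E8 21 120 2 (by decide +kernel) (by decide +kernel)
      intro k hk
      interval_cases k
      · exact cmP_E8_21_0
      · exact cmP_E8_21_1
    · apply pairCheck_of_chunks chevE8 cm_rts_E8 cm_etas_E8 cm_tab_E8 cm_base_E8 22 120 2 (by decide +kernel) (by decide +kernel)
      intro k hk
      interval_cases k
      · exact cmP_E8_22_0
      · exact cmP_E8_22_1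
    · apply pairCheck_of_chunks chevE8 cm_rts_E8 cm_etas_E8 cm_tab_E8 cm_base_E8 23 120 2 (by decide +kernel) (by decide +kernel)
      intro k hk
      interval_cases k
      · exact cmP_E8_23_0
      · exact cmP_E8_23_1
    · apply pairCheck_of_chunks chevE8 cm_rts_E8 cm_etas_E8 cm_tab_E8 cm_base_E8 24 120 2 (by decide +kernel) (by decide +kernel)
      intro k hk
      interval_cases k
      · exact cmP_E8_24_0
      · exact cmP_E8_24_1
    · apply pairCheck_of_chunks chevE8 cm_rts_E8 cm_etas_E8 cm_tab_E8 cm_base_E8 25 120 2 (by decide +kernel) (by decide +kernel)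
      intro k hk
      interval_cases k
      · exact cmP_E8_25_0
      · exact cmP_E8_25_1
    · apply pairCheck_of_chunks chevE8 cm_rts_E8 cm_etas_E8 cm_tab_E8 cm_base_E8 26 120 2 (by decide +kernel) (by decide +kernel)
      intro k hk
      interval_cases k
      · exact cmP_E8_26_0
      · exact cmP_E8_26_1
    · apply pairCheck_of_chunks chevE8 cm_rts_E8 cm_etas_E8 cm_tab_E8 cm_base_E8 27 120 2 (by decide +kernel) (by decide +kernel)
      intro k hk
      interval_cases k
      · exact cmP_E8_27_0
      · exact cmP_E8_27_1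
    · apply pairCheck_of_chunks chevE8 cm_rts_E8 cm_etas_E8 cm_tab_E8 cm_base_E8 28 120 2 (by decide +kernel) (by decide +kernel)
      intro k hk
      interval_cases k
      · exact cmP_E8_28_0
      · exact cmP_E8_28_1
    · apply pairCheck_of_chunks chevE8 cm_rts_E8 cm_etas_E8 cm_tab_E8 cm_base_E8 29 120 2 (by decide +kernel) (by decide +kernel)
      intro k hk
      interval_cases k
      · exact cmP_E8_29_0
      · exact cmP_E8_29_1
    · apply pairCheck_of_chunks chevE8 cm_rts_E8 cm_etas_E8 cm_tab_E8 cm_base_E8 30 120 2 (by decide +kernel) (by decide +kernel)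
      intro k hk
      interval_cases k
      · exact cmP_E8_30_0
      · exact cmP_E8_30_1
    · apply pairCheck_of_chunks chevE8 cm_rts_E8 cm_etas_E8 cm_tab_E8 cm_base_E8 31 120 2 (by decide +kernel) (by decide +kernel)
      intro k hk
      interval_cases k
      · exact cmP_E8_31_0
      · exact cmP_E8_31_1
    · apply pairCheck_of_chunks chevE8 cm_rts_E8 cm_etas_E8 cm_tab_E8 cm_base_E8 32 120 2 (by decide +kernel) (by decide +kernel)
      intro k hk
      interval_cases k
      · exact cmP_E8_32_0
      · exact cmP_E8_32_1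
    · apply pairCheck_of_chunks chevE8 cm_rts_E8 cm_etas_E8 cm_tab_E8 cm_base_E8 33 120 2 (by decide +kernel) (by decide +kernel)
      intro k hk
      interval_cases k
      · exact cmP_E8_33_0
      · exact cmP_E8_33_1
    · apply pairCheck_of_chunks chevE8 cm_rts_E8 cm_etas_E8 cm_tab_E8 cm_base_E8 34 120 2 (by decide +kernel) (by decide +kernel)
      intro k hk
      interval_cases k
      · exact cmP_E8_34_0
      · exact cmP_E8_34_1
    · apply pairCheck_of_chunks chevE8 cm_rts_E8 cm_etas_E8 cm_tab_E8 cm_base_E8 35 120 2 (by decide +kernel) (by decide +kernel)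
      intro k hk
      interval_cases k
      · exact cmP_E8_35_0
      · exact cmP_E8_35_1
    · apply pairCheck_of_chunks chevE8 cm_rts_E8 cm_etas_E8 cm_tab_E8 cm_base_E8 36 120 2 (by decide +kernel) (by decide +kernel)
      intro k hk
      interval_cases k
      · exact cmP_E8_36_0
      · exact cmP_E8_36_1
    · apply pairCheck_of_chunks chevE8 cm_rts_E8 cm_etas_E8 cm_tab_E8 cm_base_E8 37 120 2 (by decide +kernel) (by decide +kernel)
      intro k hk
      interval_cases k
      · exact cmP_E8_37_0
      · exact cmP_E8_37_1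
    · apply pairCheck_of_chunks chevE8 cm_rts_E8 cm_etas_E8 cm_tab_E8 cm_base_E8 38 120 2 (by decide +kernel) (by decide +kernel)
      intro k hk
      interval_cases k
      · exact cmP_E8_38_0
      · exact cmP_E8_38_1
    · apply pairCheck_of_chunks chevE8 cm_rts_E8 cm_etas_E8 cm_tab_E8 cm_base_E8 39 120 2 (by decide +kernel) (by decide +kernel)
      intro k hk
      interval_cases k
      · exact cmP_E8_39_0
      · exact cmP_E8_39_1
    · apply pairCheck_of_chunks chevE8 cm_rts_E8 cm_etas_E8 cm_tab_E8 cm_base_E8 40 120 2 (by decide +kernel) (by decide +kernel)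
      intro k hk
      interval_cases k
      · exact cmP_E8_40_0
      · exact cmP_E8_40_1
    · apply pairCheck_of_chunks chevE8 cm_rts_E8 cm_etas_E8 cm_tab_E8 cm_base_E8 41 120 2 (by decide +kernel) (by decide +kernel)
      intro k hk
      interval_cases k
      · exact cmP_E8_41_0
      · exact cmP_E8_41_1
    · apply pairCheck_of_chunks chevE8 cm_rts_E8 cm_etas_E8 cm_tab_E8 cm_base_E8 42 120 2 (by decide +kernel) (by decide +kernel)
      intro k hk
      interval_cases k
      · exact cmP_E8_42_0
      · exact cmP_E8_42_1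
    · apply pairCheck_of_chunks chevE8 cm_rts_E8 cm_etas_E8 cm_tab_E8 cm_base_E8 43 120 2 (by decide +kernel) (by decide +kernel)
      intro k hk
      interval_cases k
      · exact cmP_E8_43_0
      · exact cmP_E8_43_1
    · apply pairCheck_of_chunks chevE8 cm_rts_E8 cm_etas_E8 cm_tab_E8 cm_base_E8 44 120 2 (by decide +kernel) (by decide +kernel)
      intro k hk
      interval_cases k
      · exact cmP_E8_44_0
      · exact cmP_E8_44_1
    · apply pairCheck_of_chunks chevE8 cm_rts_E8 cm_etas_E8 cm_tab_E8 cm_base_E8 45 120 2 (by decide +kernel) (by decide +kernel)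
      intro k hk
      interval_cases k
      · exact cmP_E8_45_0
      · exact cmP_E8_45_1
    · apply pairCheck_of_chunks chevE8 cm_rts_E8 cm_etas_E8 cm_tab_E8 cm_base_E8 46 120 2 (by decide +kernel) (by decide +kernel)
      intro k hk
      interval_cases k
      · exact cmP_E8_46_0
      · exact cmP_E8_46_1
    · apply pairCheck_of_chunks chevE8 cm_rts_E8 cm_etas_E8 cm_tab_E8 cm_base_E8 47 120 2 (by decide +kernel) (by decide +kernel)
      intro k hk
      interval_cases k
      · exact cmP_E8_47_0
      · exact cmP_E8_47_1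
    · apply pairCheck_of_chunks chevE8 cm_rts_E8 cm_etas_E8 cm_tab_E8 cm_base_E8 48 120 2 (by decide +kernel) (by decide +kernel)
      intro k hk
      interval_cases k
      · exact cmP_E8_48_0
      · exact cmP_E8_48_1
    · apply pairCheck_of_chunks chevE8 cm_rts_E8 cm_etas_E8 cm_tab_E8 cm_base_E8 49 120 2 (by decide +kernel) (by decide +kernel)
      intro k hk
      interval_cases k
      · exact cmP_E8_49_0
      · exact cmP_E8_49_1
    · apply pairCheck_of_chunks chevE8 cm_rts_E8 cm_etas_E8 cm_tab_E8 cm_base_E8 50 120 2 (by decide +kernel) (by decide +kernel)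
      intro k hk
      interval_cases k
      · exact cmP_E8_50_0
      · exact cmP_E8_50_1
    · apply pairCheck_of_chunks chevE8 cm_rts_E8 cm_etas_E8 cm_tab_E8 cm_base_E8 51 120 2 (by decide +kernel) (by decide +kernel)
      intro k hk
      interval_cases k
      · exact cmP_E8_51_0
      · exact cmP_E8_51_1
    · apply pairCheck_of_chunks chevE8 cm_rts_E8 cm_etas_E8 cm_tab_E8 cm_base_E8 52 120 2 (by decide +kernel) (by decide +kernel)
      intro k hk
      interval_cases k
      · exact cmP_E8_52_0
      · exact cmP_E8_52_1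
    · apply pairCheck_of_chunks chevE8 cm_rts_E8 cm_etas_E8 cm_tab_E8 cm_base_E8 53 120 2 (by decide +kernel) (by decide +kernel)
      intro k hk
      interval_cases k
      · exact cmP_E8_53_0
      · exact cmP_E8_53_1
    · apply pairCheck_of_chunks chevE8 cm_rts_E8 cm_etas_E8 cm_tab_E8 cm_base_E8 54 120 2 (by decide +kernel) (by decide +kernel)
      intro k hk
      interval_cases k
      · exact cmP_E8_54_0
      · exact cmP_E8_54_1
    · apply pairCheck_of_chunks chevE8 cm_rts_E8 cm_etas_E8 cm_tab_E8 cm_base_E8 55 120 2 (by decide +kernel) (by decide +kernel)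
      intro k hk
      interval_cases k
      · exact cmP_E8_55_0
      · exact cmP_E8_55_1
    · apply pairCheck_of_chunks chevE8 cm_rts_E8 cm_etas_E8 cm_tab_E8 cm_base_E8 56 120 2 (by decide +kernel) (by decide +kernel)
      intro k hk
      interval_cases k
      · exact cmP_E8_56_0
      · exact cmP_E8_56_1
    · apply pairCheck_of_chunks chevE8 cm_rts_E8 cm_etas_E8 cm_tab_E8 cm_base_E8 57 120 2 (by decide +kernel) (by decide +kernel)
      intro k hk
      interval_cases k
      · exact cmP_E8_57_0
      · exact cmP_E8_57_1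
    · apply pairCheck_of_chunks chevE8 cm_rts_E8 cm_etas_E8 cm_tab_E8 cm_base_E8 58 120 2 (by decide +kernel) (by decide +kernel)
      intro k hk
      interval_cases k
      · exact cmP_E8_58_0
      · exact cmP_E8_58_1
    · apply pairCheck_of_chunks chevE8 cm_rts_E8 cm_etas_E8 cm_tab_E8 cm_base_E8 59 120 2 (by decide +kernel) (by decide +kernel)
      intro k hk
      interval_cases k
      · exact cmP_E8_59_0
      · exact cmP_E8_59_1
    · apply pairCheck_of_chunks chevE8 cm_rts_E8 cm_etas_E8 cm_tab_E8 cm_base_E8 60 120 2 (by decide +kernel) (by decide +kernel)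
      intro k hk
      interval_cases k
      · exact cmP_E8_60_0
      · exact cmP_E8_60_1
    · apply pairCheck_of_chunks chevE8 cm_rts_E8 cm_etas_E8 cm_tab_E8 cm_base_E8 61 120 2 (by decide +kernel) (by decide +kernel)
      intro k hk
      interval_cases k
      · exact cmP_E8_61_0
      · exact cmP_E8_61_1
    · apply pairCheck_of_chunks chevE8 cm_rts_E8 cm_etas_E8 cm_tab_E8 cm_base_E8 62 120 2 (by decide +kernel) (by decide +kernel)
      intro k hk
      interval_cases k
      · exact cmP_E8_62_0
      · exact cmP_E8_62_1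
    · apply pairCheck_of_chunks chevE8 cm_rts_E8 cm_etas_E8 cm_tab_E8 cm_base_E8 63 120 2 (by decide +kernel) (by decide +kernel)
      intro k hk
      interval_cases k
      · exact cmP_E8_63_0
      · exact cmP_E8_63_1
    · apply pairCheck_of_chunks chevE8 cm_rts_E8 cm_etas_E8 cm_tab_E8 cm_base_E8 64 120 2 (by decide +kernel) (by decide +kernel)
      intro k hk
      interval_cases k
      · exact cmP_E8_64_0
      · exact cmP_E8_64_1
    · apply pairCheck_of_chunks chevE8 cm_rts_E8 cm_etas_E8 cm_tab_E8 cm_base_E8 65 120 2 (by decide +kernel) (by decide +kernel)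
      intro k hk
      interval_cases k
      · exact cmP_E8_65_0
      · exact cmP_E8_65_1
    · apply pairCheck_of_chunks chevE8 cm_rts_E8 cm_etas_E8 cm_tab_E8 cm_base_E8 66 120 2 (by decide +kernel) (by decide +kernel)
      intro k hk
      interval_cases k
      · exact cmP_E8_66_0
      · exact cmP_E8_66_1
    · apply pairCheck_of_chunks chevE8 cm_rts_E8 cm_etas_E8 cm_tab_E8 cm_base_E8 67 120 2 (by decide +kernel) (by decide +kernel)
      intro k hk
      interval_cases k
      · exact cmP_E8_67_0
      · exact cmP_E8_67_1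
    · apply pairCheck_of_chunks chevE8 cm_rts_E8 cm_etas_E8 cm_tab_E8 cm_base_E8 68 120 2 (by decide +kernel) (by decide +kernel)
      intro k hk
      interval_cases k
      · exact cmP_E8_68_0
      · exact cmP_E8_68_1
    · apply pairCheck_of_chunks chevE8 cm_rts_E8 cm_etas_E8 cm_tab_E8 cm_base_E8 69 120 2 (by decide +kernel) (by decide +kernel)
      intro k hk
      interval_cases k
      · exact cmP_E8_69_0
      · exact cmP_E8_69_1
    · apply pairCheck_of_chunks chevE8 cm_rts_E8 cm_etas_E8 cm_tab_E8 cm_base_E8 70 120 2 (by decide +kernel) (by decide +kernel)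
      intro k hk
      interval_cases k
      · exact cmP_E8_70_0
      · exact cmP_E8_70_1
    · apply pairCheck_of_chunks chevE8 cm_rts_E8 cm_etas_E8 cm_tab_E8 cm_base_E8 71 120 2 (by decide +kernel) (by decide +kernel)
      intro k hk
      interval_cases k
      · exact cmP_E8_71_0
      · exact cmP_E8_71_1
    · apply pairCheck_of_chunks chevE8 cm_rts_E8 cm_etas_E8 cm_tab_E8 cm_base_E8 72 120 2 (by decide +kernel) (by decide +kernel)
      intro k hk
      interval_cases k
      · exact cmP_E8_72_0
      · exact cmP_E8_72_1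
    · apply pairCheck_of_chunks chevE8 cm_rts_E8 cm_etas_E8 cm_tab_E8 cm_base_E8 73 120 2 (by decide +kernel) (by decide +kernel)
      intro k hk
      interval_cases k
      · exact cmP_E8_73_0
      · exact cmP_E8_73_1
    · apply pairCheck_of_chunks chevE8 cm_rts_E8 cm_etas_E8 cm_tab_E8 cm_base_E8 74 120 2 (by decide +kernel) (by decide +kernel)
      intro k hk
      interval_cases k
      · exact cmP_E8_74_0
      · exact cmP_E8_74_1
    · apply pairCheck_of_chunks chevE8 cm_rts_E8 cm_etas_E8 cm_tab_E8 cm_base_E8 75 120 2 (by decide +kernel) (by decide +kernel)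
      intro k hk
      interval_cases k
      · exact cmP_E8_75_0
      · exact cmP_E8_75_1
    · apply pairCheck_of_chunks chevE8 cm_rts_E8 cm_etas_E8 cm_tab_E8 cm_base_E8 76 120 2 (by decide +kernel) (by decide +kernel)
      intro k hk
      interval_cases k
      · exact cmP_E8_76_0
      · exact cmP_E8_76_1
    · apply pairCheck_of_chunks chevE8 cm_rts_E8 cm_etas_E8 cm_tab_E8 cm_base_E8 77 120 2 (by decide +kernel) (by decide +kernel)
      intro k hk
      interval_cases k
      · exact cmP_E8_77_0
      · exact cmP_E8_77_1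
    · apply pairCheck_of_chunks chevE8 cm_rts_E8 cm_etas_E8 cm_tab_E8 cm_base_E8 78 120 2 (by decide +kernel) (by decide +kernel)
      intro k hk
      interval_cases k
      · exact cmP_E8_78_0
      · exact cmP_E8_78_1
    · apply pairCheck_of_chunks chevE8 cm_rts_E8 cm_etas_E8 cm_tab_E8 cm_base_E8 79 120 2 (by decide +kernel) (by decide +kernel)
      intro k hk
      interval_cases k
      · exact cmP_E8_79_0
      · exact cmP_E8_79_1
    · apply pairCheck_of_chunks chevE8 cm_rts_E8 cm_etas_E8 cm_tab_E8 cm_base_E8 80 120 2 (by decide +kernel) (by decide +kernel)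
      intro k hk
      interval_cases k
      · exact cmP_E8_80_0
      · exact cmP_E8_80_1
    · apply pairCheck_of_chunks chevE8 cm_rts_E8 cm_etas_E8 cm_tab_E8 cm_base_E8 81 120 2 (by decide +kernel) (by decide +kernel)
      intro k hk
      interval_cases k
      · exact cmP_E8_81_0
      · exact cmP_E8_81_1
    · apply pairCheck_of_chunks chevE8 cm_rts_E8 cm_etas_E8 cm_tab_E8 cm_base_E8 82 120 2 (by decide +kernel) (by decide +kernel)
      intro k hk
      interval_cases k
      · exact cmP_E8_82_0
      · exact cmP_E8_82_1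
    · apply pairCheck_of_chunks chevE8 cm_rts_E8 cm_etas_E8 cm_tab_E8 cm_base_E8 83 120 2 (by decide +kernel) (by decide +kernel)
      intro k hk
      interval_cases k
      · exact cmP_E8_83_0
      · exact cmP_E8_83_1
    · apply pairCheck_of_chunks chevE8 cm_rts_E8 cm_etas_E8 cm_tab_E8 cm_base_E8 84 120 2 (by decide +kernel) (by decide +kernel)
      intro k hk
      interval_cases k
      · exact cmP_E8_84_0
      · exact cmP_E8_84_1
    · apply pairCheck_of_chunks chevE8 cm_rts_E8 cm_etas_E8 cm_tab_E8 cm_base_E8 85 120 2 (by decide +kernel) (by decide +kernel)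
      intro k hk
      interval_cases k
      · exact cmP_E8_85_0
      · exact cmP_E8_85_1
    · apply pairCheck_of_chunks chevE8 cm_rts_E8 cm_etas_E8 cm_tab_E8 cm_base_E8 86 120 2 (by decide +kernel) (by decide +kernel)
      intro k hk
      interval_cases k
      · exact cmP_E8_86_0
      · exact cmP_E8_86_1
    · apply pairCheck_of_chunks chevE8 cm_rts_E8 cm_etas_E8 cm_tab_E8 cm_base_E8 87 120 2 (by decide +kernel) (by decide +kernel)
      intro k hk
      interval_cases k
      · exact cmP_E8_87_0
      · exact cmP_E8_87_1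
    · apply pairCheck_of_chunks chevE8 cm_rts_E8 cm_etas_E8 cm_tab_E8 cm_base_E8 88 120 2 (by decide +kernel) (by decide +kernel)
      intro k hk
      interval_cases k
      · exact cmP_E8_88_0
      · exact cmP_E8_88_1
    · apply pairCheck_of_chunks chevE8 cm_rts_E8 cm_etas_E8 cm_tab_E8 cm_base_E8 89 120 2 (by decide +kernel) (by decide +kernel)
      intro k hk
      interval_cases k
      · exact cmP_E8_89_0
      · exact cmP_E8_89_1
    · apply pairCheck_of_chunks chevE8 cm_rts_E8 cm_etas_E8 cm_tab_E8 cm_base_E8 90 120 2 (by decide +kernel) (by decide +kernel)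
      intro k hk
      interval_cases k
      · exact cmP_E8_90_0
      · exact cmP_E8_90_1
    · apply pairCheck_of_chunks chevE8 cm_rts_E8 cm_etas_E8 cm_tab_E8 cm_base_E8 91 120 2 (by decide +kernel) (by decide +kernel)
      intro k hk
      interval_cases k
      · exact cmP_E8_91_0
      · exact cmP_E8_91_1
    · apply pairCheck_of_chunks chevE8 cm_rts_E8 cm_etas_E8 cm_tab_E8 cm_base_E8 92 120 2 (by decide +kernel) (by decide +kernel)
      intro k hk
      interval_cases k
      · exact cmP_E8_92_0
      · exact cmP_E8_92_1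
    · apply pairCheck_of_chunks chevE8 cm_rts_E8 cm_etas_E8 cm_tab_E8 cm_base_E8 93 120 2 (by decide +kernel) (by decide +kernel)
      intro k hk
      interval_cases k
      · exact cmP_E8_93_0
      · exact cmP_E8_93_1
    · apply pairCheck_of_chunks chevE8 cm_rts_E8 cm_etas_E8 cm_tab_E8 cm_base_E8 94 120 2 (by decide +kernel) (by decide +kernel)
      intro k hk
      interval_cases k
      · exact cmP_E8_94_0
      · exact cmP_E8_94_1
    · apply pairCheck_of_chunks chevE8 cm_rts_E8 cm_etas_E8 cm_tab_E8 cm_base_E8 95 120 2 (by decide +kernel) (by decide +kernel)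
      intro k hk
      interval_cases k
      · exact cmP_E8_95_0
      · exact cmP_E8_95_1
    · apply pairCheck_of_chunks chevE8 cm_rts_E8 cm_etas_E8 cm_tab_E8 cm_base_E8 96 120 2 (by decide +kernel) (by decide +kernel)
      intro k hk
      interval_cases k
      · exact cmP_E8_96_0
      · exact cmP_E8_96_1
    · apply pairCheck_of_chunks chevE8 cm_rts_E8 cm_etas_E8 cm_tab_E8 cm_base_E8 97 120 2 (by decide +kernel) (by decide +kernel)
      intro k hk
      interval_cases k
      · exact cmP_E8_97_0
      · exact cmP_E8_97_1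
    · apply pairCheck_of_chunks chevE8 cm_rts_E8 cm_etas_E8 cm_tab_E8 cm_base_E8 98 120 2 (by decide +kernel) (by decide +kernel)
      intro k hk
      interval_cases k
      · exact cmP_E8_98_0
      · exact cmP_E8_98_1
    · apply pairCheck_of_chunks chevE8 cm_rts_E8 cm_etas_E8 cm_tab_E8 cm_base_E8 99 120 2 (by decide +kernel) (by decide +kernel)
      intro k hk
      interval_cases k
      · exact cmP_E8_99_0
      · exact cmP_E8_99_1
    · apply pairCheck_of_chunks chevE8 cm_rts_E8 cm_etas_E8 cm_tab_E8 cm_base_E8 100 120 2 (by decide +kernel) (by decide +kernel)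
      intro k hk
      interval_cases k
      · exact cmP_E8_100_0
      · exact cmP_E8_100_1
    · apply pairCheck_of_chunks chevE8 cm_rts_E8 cm_etas_E8 cm_tab_E8 cm_base_E8 101 120 2 (by decide +kernel) (by decide +kernel)
      intro k hk
      interval_cases k
      · exact cmP_E8_101_0
      · exact cmP_E8_101_1
    · apply pairCheck_of_chunks chevE8 cm_rts_E8 cm_etas_E8 cm_tab_E8 cm_base_E8 102 120 2 (by decide +kernel) (by decide +kernel)
      intro k hk
      interval_cases k
      · exact cmP_E8_102_0
      · exact cmP_E8_102_1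
    · apply pairCheck_of_chunks chevE8 cm_rts_E8 cm_etas_E8 cm_tab_E8 cm_base_E8 103 120 2 (by decide +kernel) (by decide +kernel)
      intro k hk
      interval_cases k
      · exact cmP_E8_103_0
      · exact cmP_E8_103_1
    · apply pairCheck_of_chunks chevE8 cm_rts_E8 cm_etas_E8 cm_tab_E8 cm_base_E8 104 120 2 (by decide +kernel) (by decide +kernel)
      intro k hk
      interval_cases k
      · exact cmP_E8_104_0
      · exact cmP_E8_104_1
    · apply pairCheck_of_chunks chevE8 cm_rts_E8 cm_etas_E8 cm_tab_E8 cm_base_E8 105 120 2 (by decide +kernel) (by decide +kernel)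
      intro k hk
      interval_cases k
      · exact cmP_E8_105_0
      · exact cmP_E8_105_1
    · apply pairCheck_of_chunks chevE8 cm_rts_E8 cm_etas_E8 cm_tab_E8 cm_base_E8 106 120 2 (by decide +kernel) (by decide +kernel)
      intro k hk
      interval_cases k
      · exact cmP_E8_106_0
      · exact cmP_E8_106_1
    · apply pairCheck_of_chunks chevE8 cm_rts_E8 cm_etas_E8 cm_tab_E8 cm_base_E8 107 120 2 (by decide +kernel) (by decide +kernel)
      intro k hk
      interval_cases k
      · exact cmP_E8_107_0
      · exact cmP_E8_107_1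
    · apply pairCheck_of_chunks chevE8 cm_rts_E8 cm_etas_E8 cm_tab_E8 cm_base_E8 108 120 2 (by decide +kernel) (by decide +kernel)
      intro k hk
      interval_cases k
      · exact cmP_E8_108_0
      · exact cmP_E8_108_1
    · apply pairCheck_of_chunks chevE8 cm_rts_E8 cm_etas_E8 cm_tab_E8 cm_base_E8 109 120 2 (by decide +kernel) (by decide +kernel)
      intro k hk
      interval_cases k
      · exact cmP_E8_109_0
      · exact cmP_E8_109_1
    · apply pairCheck_of_chunks chevE8 cm_rts_E8 cm_etas_E8 cm_tab_E8 cm_base_E8 110 120 2 (by decide +kernel) (by decide +kernel)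
      intro k hk
      interval_cases k
      · exact cmP_E8_110_0
      · exact cmP_E8_110_1
    · apply pairCheck_of_chunks chevE8 cm_rts_E8 cm_etas_E8 cm_tab_E8 cm_base_E8 111 120 2 (by decide +kernel) (by decide +kernel)
      intro k hk
      interval_cases k
      · exact cmP_E8_111_0
      · exact cmP_E8_111_1
    · apply pairCheck_of_chunks chevE8 cm_rts_E8 cm_etas_E8 cm_tab_E8 cm_base_E8 112 120 2 (by decide +kernel) (by decide +kernel)
      intro k hk
      interval_cases k
      · exact cmP_E8_112_0
      · exact cmP_E8_112_1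
    · apply pairCheck_of_chunks chevE8 cm_rts_E8 cm_etas_E8 cm_tab_E8 cm_base_E8 113 120 2 (by decide +kernel) (by decide +kernel)
      intro k hk
      interval_cases k
      · exact cmP_E8_113_0
      · exact cmP_E8_113_1
    · apply pairCheck_of_chunks chevE8 cm_rts_E8 cm_etas_E8 cm_tab_E8 cm_base_E8 114 120 2 (by decide +kernel) (by decide +kernel)
      intro k hk
      interval_cases k
      · exact cmP_E8_114_0
      · exact cmP_E8_114_1
    · apply pairCheck_of_chunks chevE8 cm_rts_E8 cm_etas_E8 cm_tab_E8 cm_base_E8 115 120 2 (by decide +kernel) (by decide +kernel)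
      intro k hk
      interval_cases k
      · exact cmP_E8_115_0
      · exact cmP_E8_115_1
    · apply pairCheck_of_chunks chevE8 cm_rts_E8 cm_etas_E8 cm_tab_E8 cm_base_E8 116 120 2 (by decide +kernel) (by decide +kernel)
      intro k hk
      interval_cases k
      · exact cmP_E8_116_0
      · exact cmP_E8_116_1
    · apply pairCheck_of_chunks chevE8 cm_rts_E8 cm_etas_E8 cm_tab_E8 cm_base_E8 117 120 2 (by decide +kernel) (by decide +kernel)
      intro k hk
      interval_cases k
      · exact cmP_E8_117_0
      · exact cmP_E8_117_1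
    · apply pairCheck_of_chunks chevE8 cm_rts_E8 cm_etas_E8 cm_tab_E8 cm_base_E8 118 120 2 (by decide +kernel) (by decide +kernel)
      intro k hk
      interval_cases k
      · exact cmP_E8_118_0
      · exact cmP_E8_118_1
    · apply pairCheck_of_chunks chevE8 cm_rts_E8 cm_etas_E8 cm_tab_E8 cm_base_E8 119 120 2 (by decide +kernel) (by decide +kernel)
      intro k hk
      interval_cases k
      · exact cmP_E8_119_0
      · exact cmP_E8_119_1
    · apply pairCheck_of_chunks chevE8 cm_rts_E8 cm_etas_E8 cm_tab_E8 cm_base_E8 120 120 2 (by decide +kernel) (by decide +kernel)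
      intro k hk
      interval_cases k
      · exact cmP_E8_120_0
      · exact cmP_E8_120_1
    · apply pairCheck_of_chunks chevE8 cm_rts_E8 cm_etas_E8 cm_tab_E8 cm_base_E8 121 120 2 (by decide +kernel) (by decide +kernel)
      intro k hk
      interval_cases k
      · exact cmP_E8_121_0
      · exact cmP_E8_121_1
    · apply pairCheck_of_chunks chevE8 cm_rts_E8 cm_etas_E8 cm_tab_E8 cm_base_E8 122 120 2 (by decide +kernel) (by decide +kernel)
      intro k hk
      interval_cases k
      · exact cmP_E8_122_0
      · exact cmP_E8_122_1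
    · apply pairCheck_of_chunks chevE8 cm_rts_E8 cm_etas_E8 cm_tab_E8 cm_base_E8 123 120 2 (by decide +kernel) (by decide +kernel)
      intro k hk
      interval_cases k
      · exact cmP_E8_123_0
      · exact cmP_E8_123_1
    · apply pairCheck_of_chunks chevE8 cm_rts_E8 cm_etas_E8 cm_tab_E8 cm_base_E8 124 120 2 (by decide +kernel) (by decide +kernel)
      intro k hk
      interval_cases k
      · exact cmP_E8_124_0
      · exact cmP_E8_124_1
    · apply pairCheck_of_chunks chevE8 cm_rts_E8 cm_etas_E8 cm_tab_E8 cm_base_E8 125 120 2 (by decide +kernel) (by decide +kernel)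
      intro k hk
      interval_cases k
      · exact cmP_E8_125_0
      · exact cmP_E8_125_1
    · apply pairCheck_of_chunks chevE8 cm_rts_E8 cm_etas_E8 cm_tab_E8 cm_base_E8 126 120 2 (by decide +kernel) (by decide +kernel)
      intro k hk
      interval_cases k
      · exact cmP_E8_126_0
      · exact cmP_E8_126_1
    · apply pairCheck_of_chunks chevE8 cm_rts_E8 cm_etas_E8 cm_tab_E8 cm_base_E8 127 120 2 (by decide +kernel) (by decide +kernel)
      intro k hk
      interval_cases k
      · exact cmP_E8_127_0
      · exact cmP_E8_127_1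
    · apply pairCheck_of_chunks chevE8 cm_rts_E8 cm_etas_E8 cm_tab_E8 cm_base_E8 128 120 2 (by decide +kernel) (by decide +kernel)
      intro k hk
      interval_cases k
      · exact cmP_E8_128_0
      · exact cmP_E8_128_1
    · apply pairCheck_of_chunks chevE8 cm_rts_E8 cm_etas_E8 cm_tab_E8 cm_base_E8 129 120 2 (by decide +kernel) (by decide +kernel)
      intro k hk
      interval_cases k
      · exact cmP_E8_129_0
      · exact cmP_E8_129_1
    · apply pairCheck_of_chunks chevE8 cm_rts_E8 cm_etas_E8 cm_tab_E8 cm_base_E8 130 120 2 (by decide +kernel) (by decide +kernel)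
      intro k hk
      interval_cases k
      · exact cmP_E8_130_0
      · exact cmP_E8_130_1
    · apply pairCheck_of_chunks chevE8 cm_rts_E8 cm_etas_E8 cm_tab_E8 cm_base_E8 131 120 2 (by decide +kernel) (by decide +kernel)
      intro k hk
      interval_cases k
      · exact cmP_E8_131_0
      · exact cmP_E8_131_1
    · apply pairCheck_of_chunks chevE8 cm_rts_E8 cm_etas_E8 cm_tab_E8 cm_base_E8 132 120 2 (by decide +kernel) (by decide +kernel)
      intro k hk
      interval_cases k
      · exact cmP_E8_132_0
      · exact cmP_E8_132_1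
    · apply pairCheck_of_chunks chevE8 cm_rts_E8 cm_etas_E8 cm_tab_E8 cm_base_E8 133 120 2 (by decide +kernel) (by decide +kernel)
      intro k hk
      interval_cases k
      · exact cmP_E8_133_0
      · exact cmP_E8_133_1
    · apply pairCheck_of_chunks chevE8 cm_rts_E8 cm_etas_E8 cm_tab_E8 cm_base_E8 134 120 2 (by decide +kernel) (by decide +kernel)
      intro k hk
      interval_cases k
      · exact cmP_E8_134_0
      · exact cmP_E8_134_1
    · apply pairCheck_of_chunks chevE8 cm_rts_E8 cm_etas_E8 cm_tab_E8 cm_base_E8 135 120 2 (by decide +kernel) (by decide +kernel)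
      intro k hk
      interval_cases k
      · exact cmP_E8_135_0
      · exact cmP_E8_135_1
    · apply pairCheck_of_chunks chevE8 cm_rts_E8 cm_etas_E8 cm_tab_E8 cm_base_E8 136 120 2 (by decide +kernel) (by decide +kernel)
      intro k hk
      interval_cases k
      · exact cmP_E8_136_0
      · exact cmP_E8_136_1
    · apply pairCheck_of_chunks chevE8 cm_rts_E8 cm_etas_E8 cm_tab_E8 cm_base_E8 137 120 2 (by decide +kernel) (by decide +kernel)
      intro k hk
      interval_cases k
      · exact cmP_E8_137_0
      · exact cmP_E8_137_1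
    · apply pairCheck_of_chunks chevE8 cm_rts_E8 cm_etas_E8 cm_tab_E8 cm_base_E8 138 120 2 (by decide +kernel) (by decide +kernel)
      intro k hk
      interval_cases k
      · exact cmP_E8_138_0
      · exact cmP_E8_138_1
    · apply pairCheck_of_chunks chevE8 cm_rts_E8 cm_etas_E8 cm_tab_E8 cm_base_E8 139 120 2 (by decide +kernel) (by decide +kernel)
      intro k hk
      interval_cases k
      · exact cmP_E8_139_0
      · exact cmP_E8_139_1
    · apply pairCheck_of_chunks chevE8 cm_rts_E8 cm_etas_E8 cm_tab_E8 cm_base_E8 140 120 2 (by decide +kernel) (by decide +kernel)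
      intro k hk
      interval_cases k
      · exact cmP_E8_140_0
      · exact cmP_E8_140_1
    · apply pairCheck_of_chunks chevE8 cm_rts_E8 cm_etas_E8 cm_tab_E8 cm_base_E8 141 120 2 (by decide +kernel) (by decide +kernel)
      intro k hk
      interval_cases k
      · exact cmP_E8_141_0
      · exact cmP_E8_141_1
    · apply pairCheck_of_chunks chevE8 cm_rts_E8 cm_etas_E8 cm_tab_E8 cm_base_E8 142 120 2 (by decide +kernel) (by decide +kernel)
      intro k hk
      interval_cases k
      · exact cmP_E8_142_0
      · exact cmP_E8_142_1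
    · apply pairCheck_of_chunks chevE8 cm_rts_E8 cm_etas_E8 cm_tab_E8 cm_base_E8 143 120 2 (by decide +kernel) (by decide +kernel)
      intro k hk
      interval_cases k
      · exact cmP_E8_143_0
      · exact cmP_E8_143_1
    · apply pairCheck_of_chunks chevE8 cm_rts_E8 cm_etas_E8 cm_tab_E8 cm_base_E8 144 120 2 (by decide +kernel) (by decide +kernel)
      intro k hk
      interval_cases k
      · exact cmP_E8_144_0
      · exact cmP_E8_144_1
    · apply pairCheck_of_chunks chevE8 cm_rts_E8 cm_etas_E8 cm_tab_E8 cm_base_E8 145 120 2 (by decide +kernel) (by decide +kernel)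
      intro k hk
      interval_cases k
      · exact cmP_E8_145_0
      · exact cmP_E8_145_1
    · apply pairCheck_of_chunks chevE8 cm_rts_E8 cm_etas_E8 cm_tab_E8 cm_base_E8 146 120 2 (by decide +kernel) (by decide +kernel)
      intro k hk
      interval_cases k
      · exact cmP_E8_146_0
      · exact cmP_E8_146_1
    · apply pairCheck_of_chunks chevE8 cm_rts_E8 cm_etas_E8 cm_tab_E8 cm_base_E8 147 120 2 (by decide +kernel) (by decide +kernel)
      intro k hk
      interval_cases k
      · exact cmP_E8_147_0
      · exact cmP_E8_147_1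
    · apply pairCheck_of_chunks chevE8 cm_rts_E8 cm_etas_E8 cm_tab_E8 cm_base_E8 148 120 2 (by decide +kernel) (by decide +kernel)
      intro k hk
      interval_cases k
      · exact cmP_E8_148_0
      · exact cmP_E8_148_1
    · apply pairCheck_of_chunks chevE8 cm_rts_E8 cm_etas_E8 cm_tab_E8 cm_base_E8 149 120 2 (by decide +kernel) (by decide +kernel)
      intro k hk
      interval_cases k
      · exact cmP_E8_149_0
      · exact cmP_E8_149_1
    · apply pairCheck_of_chunks chevE8 cm_rts_E8 cm_etas_E8 cm_tab_E8 cm_base_E8 150 120 2 (by decide +kernel) (by decide +kernel)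
      intro k hk
      interval_cases k
      · exact cmP_E8_150_0
      · exact cmP_E8_150_1
    · apply pairCheck_of_chunks chevE8 cm_rts_E8 cm_etas_E8 cm_tab_E8 cm_base_E8 151 120 2 (by decide +kernel) (by decide +kernel)
      intro k hk
      interval_cases k
      · exact cmP_E8_151_0
      · exact cmP_E8_151_1
    · apply pairCheck_of_chunks chevE8 cm_rts_E8 cm_etas_E8 cm_tab_E8 cm_base_E8 152 120 2 (by decide +kernel) (by decide +kernel)
      intro k hk
      interval_cases k
      · exact cmP_E8_152_0
      · exact cmP_E8_152_1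
    · apply pairCheck_of_chunks chevE8 cm_rts_E8 cm_etas_E8 cm_tab_E8 cm_base_E8 153 120 2 (by decide +kernel) (by decide +kernel)
      intro k hk
      interval_cases k
      · exact cmP_E8_153_0
      · exact cmP_E8_153_1
    · apply pairCheck_of_chunks chevE8 cm_rts_E8 cm_etas_E8 cm_tab_E8 cm_base_E8 154 120 2 (by decide +kernel) (by decide +kernel)
      intro k hk
      interval_cases k
      · exact cmP_E8_154_0
      · exact cmP_E8_154_1
    · apply pairCheck_of_chunks chevE8 cm_rts_E8 cm_etas_E8 cm_tab_E8 cm_base_E8 155 120 2 (by decide +kernel) (by decide +kernel)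
      intro k hk
      interval_cases k
      · exact cmP_E8_155_0
      · exact cmP_E8_155_1
    · apply pairCheck_of_chunks chevE8 cm_rts_E8 cm_etas_E8 cm_tab_E8 cm_base_E8 156 120 2 (by decide +kernel) (by decide +kernel)
      intro k hk
      interval_cases k
      · exact cmP_E8_156_0
      · exact cmP_E8_156_1
    · apply pairCheck_of_chunks chevE8 cm_rts_E8 cm_etas_E8 cm_tab_E8 cm_base_E8 157 120 2 (by decide +kernel) (by decide +kernel)
      intro k hk
      interval_cases k
      · exact cmP_E8_157_0
      · exact cmP_E8_157_1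
    · apply pairCheck_of_chunks chevE8 cm_rts_E8 cm_etas_E8 cm_tab_E8 cm_base_E8 158 120 2 (by decide +kernel) (by decide +kernel)
      intro k hk
      interval_cases k
      · exact cmP_E8_158_0
      · exact cmP_E8_158_1
    · apply pairCheck_of_chunks chevE8 cm_rts_E8 cm_etas_E8 cm_tab_E8 cm_base_E8 159 120 2 (by decide +kernel) (by decide +kernel)
      intro k hk
      interval_cases k
      · exact cmP_E8_159_0
      · exact cmP_E8_159_1
    · apply pairCheck_of_chunks chevE8 cm_rts_E8 cm_etas_E8 cm_tab_E8 cm_base_E8 160 120 2 (by decide +kernel) (by decide +kernel)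
      intro k hk
      interval_cases k
      · exact cmP_E8_160_0
      · exact cmP_E8_160_1
    · apply pairCheck_of_chunks chevE8 cm_rts_E8 cm_etas_E8 cm_tab_E8 cm_base_E8 161 120 2 (by decide +kernel) (by decide +kernel)
      intro k hk
      interval_cases k
      · exact cmP_E8_161_0
      · exact cmP_E8_161_1
    · apply pairCheck_of_chunks chevE8 cm_rts_E8 cm_etas_E8 cm_tab_E8 cm_base_E8 162 120 2 (by decide +kernel) (by decide +kernel)
      intro k hk
      interval_cases k
      · exact cmP_E8_162_0
      · exact cmP_E8_162_1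
    · apply pairCheck_of_chunks chevE8 cm_rts_E8 cm_etas_E8 cm_tab_E8 cm_base_E8 163 120 2 (by decide +kernel) (by decide +kernel)
      intro k hk
      interval_cases k
      · exact cmP_E8_163_0
      · exact cmP_E8_163_1
    · apply pairCheck_of_chunks chevE8 cm_rts_E8 cm_etas_E8 cm_tab_E8 cm_base_E8 164 120 2 (by decide +kernel) (by decide +kernel)
      intro k hk
      interval_cases k
      · exact cmP_E8_164_0
      · exact cmP_E8_164_1
    · apply pairCheck_of_chunks chevE8 cm_rts_E8 cm_etas_E8 cm_tab_E8 cm_base_E8 165 120 2 (by decide +kernel) (by decide +kernel)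
      intro k hk
      interval_cases k
      · exact cmP_E8_165_0
      · exact cmP_E8_165_1
    · apply pairCheck_of_chunks chevE8 cm_rts_E8 cm_etas_E8 cm_tab_E8 cm_base_E8 166 120 2 (by decide +kernel) (by decide +kernel)
      intro k hk
      interval_cases k
      · exact cmP_E8_166_0
      · exact cmP_E8_166_1
    · apply pairCheck_of_chunks chevE8 cm_rts_E8 cm_etas_E8 cm_tab_E8 cm_base_E8 167 120 2 (by decide +kernel) (by decide +kernel)
      intro k hk
      interval_cases k
      · exact cmP_E8_167_0
      · exact cmP_E8_167_1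
    · apply pairCheck_of_chunks chevE8 cm_rts_E8 cm_etas_E8 cm_tab_E8 cm_base_E8 168 120 2 (by decide +kernel) (by decide +kernel)
      intro k hk
      interval_cases k
      · exact cmP_E8_168_0
      · exact cmP_E8_168_1
    · apply pairCheck_of_chunks chevE8 cm_rts_E8 cm_etas_E8 cm_tab_E8 cm_base_E8 169 120 2 (by decide +kernel) (by decide +kernel)
      intro k hk
      interval_cases k
      · exact cmP_E8_169_0
      · exact cmP_E8_169_1
    · apply pairCheck_of_chunks chevE8 cm_rts_E8 cm_etas_E8 cm_tab_E8 cm_base_E8 170 120 2 (by decide +kernel) (by decide +kernel)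
      intro k hk
      interval_cases k
      · exact cmP_E8_170_0
      · exact cmP_E8_170_1
    · apply pairCheck_of_chunks chevE8 cm_rts_E8 cm_etas_E8 cm_tab_E8 cm_base_E8 171 120 2 (by decide +kernel) (by decide +kernel)
      intro k hk
      interval_cases k
      · exact cmP_E8_171_0
      · exact cmP_E8_171_1
    · apply pairCheck_of_chunks chevE8 cm_rts_E8 cm_etas_E8 cm_tab_E8 cm_base_E8 172 120 2 (by decide +kernel) (by decide +kernel)
      intro k hk
      interval_cases k
      · exact cmP_E8_172_0
      · exact cmP_E8_172_1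
    · apply pairCheck_of_chunks chevE8 cm_rts_E8 cm_etas_E8 cm_tab_E8 cm_base_E8 173 120 2 (by decide +kernel) (by decide +kernel)
      intro k hk
      interval_cases k
      · exact cmP_E8_173_0
      · exact cmP_E8_173_1
    · apply pairCheck_of_chunks chevE8 cm_rts_E8 cm_etas_E8 cm_tab_E8 cm_base_E8 174 120 2 (by decide +kernel) (by decide +kernel)
      intro k hk
      interval_cases k
      · exact cmP_E8_174_0
      · exact cmP_E8_174_1
    · apply pairCheck_of_chunks chevE8 cm_rts_E8 cm_etas_E8 cm_tab_E8 cm_base_E8 175 120 2 (by decide +kernel) (by decide +kernel)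
      intro k hk
      interval_cases k
      · exact cmP_E8_175_0
      · exact cmP_E8_175_1
    · apply pairCheck_of_chunks chevE8 cm_rts_E8 cm_etas_E8 cm_tab_E8 cm_base_E8 176 120 2 (by decide +kernel) (by decide +kernel)
      intro k hk
      interval_cases k
      · exact cmP_E8_176_0
      · exact cmP_E8_176_1
    · apply pairCheck_of_chunks chevE8 cm_rts_E8 cm_etas_E8 cm_tab_E8 cm_base_E8 177 120 2 (by decide +kernel) (by decide +kernel)
      intro k hk
      interval_cases k
      · exact cmP_E8_177_0
      · exact cmP_E8_177_1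
    · apply pairCheck_of_chunks chevE8 cm_rts_E8 cm_etas_E8 cm_tab_E8 cm_base_E8 178 120 2 (by decide +kernel) (by decide +kernel)
      intro k hk
      interval_cases k
      · exact cmP_E8_178_0
      · exact cmP_E8_178_1
    · apply pairCheck_of_chunks chevE8 cm_rts_E8 cm_etas_E8 cm_tab_E8 cm_base_E8 179 120 2 (by decide +kernel) (by decide +kernel)
      intro k hk
      interval_cases k
      · exact cmP_E8_179_0
      · exact cmP_E8_179_1
    · apply pairCheck_of_chunks chevE8 cm_rts_E8 cm_etas_E8 cm_tab_E8 cm_base_E8 180 120 2 (by decide +kernel) (by decide +kernel)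
      intro k hk
      interval_cases k
      · exact cmP_E8_180_0
      · exact cmP_E8_180_1
    · apply pairCheck_of_chunks chevE8 cm_rts_E8 cm_etas_E8 cm_tab_E8 cm_base_E8 181 120 2 (by decide +kernel) (by decide +kernel)
      intro k hk
      interval_cases k
      · exact cmP_E8_181_0
      · exact cmP_E8_181_1
    · apply pairCheck_of_chunks chevE8 cm_rts_E8 cm_etas_E8 cm_tab_E8 cm_base_E8 182 120 2 (by decide +kernel) (by decide +kernel)
      intro k hk
      interval_cases k
      · exact cmP_E8_182_0
      · exact cmP_E8_182_1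
    · apply pairCheck_of_chunks chevE8 cm_rts_E8 cm_etas_E8 cm_tab_E8 cm_base_E8 183 120 2 (by decide +kernel) (by decide +kernel)
      intro k hk
      interval_cases k
      · exact cmP_E8_183_0
      · exact cmP_E8_183_1
    · apply pairCheck_of_chunks chevE8 cm_rts_E8 cm_etas_E8 cm_tab_E8 cm_base_E8 184 120 2 (by decide +kernel) (by decide +kernel)
      intro k hk
      interval_cases k
      · exact cmP_E8_184_0
      · exact cmP_E8_184_1
    · apply pairCheck_of_chunks chevE8 cm_rts_E8 cm_etas_E8 cm_tab_E8 cm_base_E8 185 120 2 (by decide +kernel) (by decide +kernel)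
      intro k hk
      interval_cases k
      · exact cmP_E8_185_0
      · exact cmP_E8_185_1
    · apply pairCheck_of_chunks chevE8 cm_rts_E8 cm_etas_E8 cm_tab_E8 cm_base_E8 186 120 2 (by decide +kernel) (by decide +kernel)
      intro k hk
      interval_cases k
      · exact cmP_E8_186_0
      · exact cmP_E8_186_1
    · apply pairCheck_of_chunks chevE8 cm_rts_E8 cm_etas_E8 cm_tab_E8 cm_base_E8 187 120 2 (by decide +kernel) (by decide +kernel)
      intro k hk
      interval_cases k
      · exact cmP_E8_187_0
      · exact cmP_E8_187_1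
    · apply pairCheck_of_chunks chevE8 cm_rts_E8 cm_etas_E8 cm_tab_E8 cm_base_E8 188 120 2 (by decide +kernel) (by decide +kernel)
      intro k hk
      interval_cases k
      · exact cmP_E8_188_0
      · exact cmP_E8_188_1
    · apply pairCheck_of_chunks chevE8 cm_rts_E8 cm_etas_E8 cm_tab_E8 cm_base_E8 189 120 2 (by decide +kernel) (by decide +kernel)
      intro k hk
      interval_cases k
      · exact cmP_E8_189_0
      · exact cmP_E8_189_1
    · apply pairCheck_of_chunks chevE8 cm_rts_E8 cm_etas_E8 cm_tab_E8 cm_base_E8 190 120 2 (by decide +kernel) (by decide +kernel)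
      intro k hk
      interval_cases k
      · exact cmP_E8_190_0
      · exact cmP_E8_190_1
    · apply pairCheck_of_chunks chevE8 cm_rts_E8 cm_etas_E8 cm_tab_E8 cm_base_E8 191 120 2 (by decide +kernel) (by decide +kernel)
      intro k hk
      interval_cases k
      · exact cmP_E8_191_0
      · exact cmP_E8_191_1
    · apply pairCheck_of_chunks chevE8 cm_rts_E8 cm_etas_E8 cm_tab_E8 cm_base_E8 192 120 2 (by decide +kernel) (by decide +kernel)
      intro k hk
      interval_cases k
      · exact cmP_E8_192_0
      · exact cmP_E8_192_1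
    · apply pairCheck_of_chunks chevE8 cm_rts_E8 cm_etas_E8 cm_tab_E8 cm_base_E8 193 120 2 (by decide +kernel) (by decide +kernel)
      intro k hk
      interval_cases k
      · exact cmP_E8_193_0
      · exact cmP_E8_193_1
    · apply pairCheck_of_chunks chevE8 cm_rts_E8 cm_etas_E8 cm_tab_E8 cm_base_E8 194 120 2 (by decide +kernel) (by decide +kernel)
      intro k hk
      interval_cases k
      · exact cmP_E8_194_0
      · exact cmP_E8_194_1
    · apply pairCheck_of_chunks chevE8 cm_rts_E8 cm_etas_E8 cm_tab_E8 cm_base_E8 195 120 2 (by decide +kernel) (by decide +kernel)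
      intro k hk
      interval_cases k
      · exact cmP_E8_195_0
      · exact cmP_E8_195_1
    · apply pairCheck_of_chunks chevE8 cm_rts_E8 cm_etas_E8 cm_tab_E8 cm_base_E8 196 120 2 (by decide +kernel) (by decide +kernel)
      intro k hk
      interval_cases k
      · exact cmP_E8_196_0
      · exact cmP_E8_196_1
    · apply pairCheck_of_chunks chevE8 cm_rts_E8 cm_etas_E8 cm_tab_E8 cm_base_E8 197 120 2 (by decide +kernel) (by decide +kernel)
      intro k hk
      interval_cases k
      · exact cmP_E8_197_0
      · exact cmP_E8_197_1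
    · apply pairCheck_of_chunks chevE8 cm_rts_E8 cm_etas_E8 cm_tab_E8 cm_base_E8 198 120 2 (by decide +kernel) (by decide +kernel)
      intro k hk
      interval_cases k
      · exact cmP_E8_198_0
      · exact cmP_E8_198_1
    · apply pairCheck_of_chunks chevE8 cm_rts_E8 cm_etas_E8 cm_tab_E8 cm_base_E8 199 120 2 (by decide +kernel) (by decide +kernel)
      intro k hk
      interval_cases k
      · exact cmP_E8_199_0
      · exact cmP_E8_199_1
    · apply pairCheck_of_chunks chevE8 cm_rts_E8 cm_etas_E8 cm_tab_E8 cm_base_E8 200 120 2 (by decide +kernel) (by decide +kernel)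
      intro k hk
      interval_cases k
      · exact cmP_E8_200_0
      · exact cmP_E8_200_1
    · apply pairCheck_of_chunks chevE8 cm_rts_E8 cm_etas_E8 cm_tab_E8 cm_base_E8 201 120 2 (by decide +kernel) (by decide +kernel)
      intro k hk
      interval_cases k
      · exact cmP_E8_201_0
      · exact cmP_E8_201_1
    · apply pairCheck_of_chunks chevE8 cm_rts_E8 cm_etas_E8 cm_tab_E8 cm_base_E8 202 120 2 (by decide +kernel) (by decide +kernel)
      intro k hk
      interval_cases k
      · exact cmP_E8_202_0
      · exact cmP_E8_202_1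
    · apply pairCheck_of_chunks chevE8 cm_rts_E8 cm_etas_E8 cm_tab_E8 cm_base_E8 203 120 2 (by decide +kernel) (by decide +kernel)
      intro k hk
      interval_cases k
      · exact cmP_E8_203_0
      · exact cmP_E8_203_1
    · apply pairCheck_of_chunks chevE8 cm_rts_E8 cm_etas_E8 cm_tab_E8 cm_base_E8 204 120 2 (by decide +kernel) (by decide +kernel)
      intro k hk
      interval_cases k
      · exact cmP_E8_204_0
      · exact cmP_E8_204_1
    · apply pairCheck_of_chunks chevE8 cm_rts_E8 cm_etas_E8 cm_tab_E8 cm_base_E8 205 120 2 (by decide +kernel) (by decide +kernel)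
      intro k hk
      interval_cases k
      · exact cmP_E8_205_0
      · exact cmP_E8_205_1
    · apply pairCheck_of_chunks chevE8 cm_rts_E8 cm_etas_E8 cm_tab_E8 cm_base_E8 206 120 2 (by decide +kernel) (by decide +kernel)
      intro k hk
      interval_cases k
      · exact cmP_E8_206_0
      · exact cmP_E8_206_1
    · apply pairCheck_of_chunks chevE8 cm_rts_E8 cm_etas_E8 cm_tab_E8 cm_base_E8 207 120 2 (by decide +kernel) (by decide +kernel)
      intro k hk
      interval_cases k
      · exact cmP_E8_207_0
      · exact cmP_E8_207_1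
    · apply pairCheck_of_chunks chevE8 cm_rts_E8 cm_etas_E8 cm_tab_E8 cm_base_E8 208 120 2 (by decide +kernel) (by decide +kernel)
      intro k hk
      interval_cases k
      · exact cmP_E8_208_0
      · exact cmP_E8_208_1
    · apply pairCheck_of_chunks chevE8 cm_rts_E8 cm_etas_E8 cm_tab_E8 cm_base_E8 209 120 2 (by decide +kernel) (by decide +kernel)
      intro k hk
      interval_cases k
      · exact cmP_E8_209_0
      · exact cmP_E8_209_1
    · apply pairCheck_of_chunks chevE8 cm_rts_E8 cm_etas_E8 cm_tab_E8 cm_base_E8 210 120 2 (by decide +kernel) (by decide +kernel)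
      intro k hk
      interval_cases k
      · exact cmP_E8_210_0
      · exact cmP_E8_210_1
    · apply pairCheck_of_chunks chevE8 cm_rts_E8 cm_etas_E8 cm_tab_E8 cm_base_E8 211 120 2 (by decide +kernel) (by decide +kernel)
      intro k hk
      interval_cases k
      · exact cmP_E8_211_0
      · exact cmP_E8_211_1
    · apply pairCheck_of_chunks chevE8 cm_rts_E8 cm_etas_E8 cm_tab_E8 cm_base_E8 212 120 2 (by decide +kernel) (by decide +kernel)
      intro k hk
      interval_cases k
      · exact cmP_E8_212_0
      · exact cmP_E8_212_1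
    · apply pairCheck_of_chunks chevE8 cm_rts_E8 cm_etas_E8 cm_tab_E8 cm_base_E8 213 120 2 (by decide +kernel) (by decide +kernel)
      intro k hk
      interval_cases k
      · exact cmP_E8_213_0
      · exact cmP_E8_213_1
    · apply pairCheck_of_chunks chevE8 cm_rts_E8 cm_etas_E8 cm_tab_E8 cm_base_E8 214 120 2 (by decide +kernel) (by decide +kernel)
      intro k hk
      interval_cases k
      · exact cmP_E8_214_0
      · exact cmP_E8_214_1
    · apply pairCheck_of_chunks chevE8 cm_rts_E8 cm_etas_E8 cm_tab_E8 cm_base_E8 215 120 2 (by decide +kernel) (by decide +kernel)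
      intro k hk
      interval_cases k
      · exact cmP_E8_215_0
      · exact cmP_E8_215_1
    · apply pairCheck_of_chunks chevE8 cm_rts_E8 cm_etas_E8 cm_tab_E8 cm_base_E8 216 120 2 (by decide +kernel) (by decide +kernel)
      intro k hk
      interval_cases k
      · exact cmP_E8_216_0
      · exact cmP_E8_216_1
    · apply pairCheck_of_chunks chevE8 cm_rts_E8 cm_etas_E8 cm_tab_E8 cm_base_E8 217 120 2 (by decide +kernel) (by decide +kernel)
      intro k hk
      interval_cases k
      · exact cmP_E8_217_0
      · exact cmP_E8_217_1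
    · apply pairCheck_of_chunks chevE8 cm_rts_E8 cm_etas_E8 cm_tab_E8 cm_base_E8 218 120 2 (by decide +kernel) (by decide +kernel)
      intro k hk
      interval_cases k
      · exact cmP_E8_218_0
      · exact cmP_E8_218_1
    · apply pairCheck_of_chunks chevE8 cm_rts_E8 cm_etas_E8 cm_tab_E8 cm_base_E8 219 120 2 (by decide +kernel) (by decide +kernel)
      intro k hk
      interval_cases k
      · exact cmP_E8_219_0
      · exact cmP_E8_219_1
    · apply pairCheck_of_chunks chevE8 cm_rts_E8 cm_etas_E8 cm_tab_E8 cm_base_E8 220 120 2 (by decide +kernel) (by decide +kernel)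
      intro k hk
      interval_cases k
      · exact cmP_E8_220_0
      · exact cmP_E8_220_1
    · apply pairCheck_of_chunks chevE8 cm_rts_E8 cm_etas_E8 cm_tab_E8 cm_base_E8 221 120 2 (by decide +kernel) (by decide +kernel)
      intro k hk
      interval_cases k
      · exact cmP_E8_221_0
      · exact cmP_E8_221_1
    · apply pairCheck_of_chunks chevE8 cm_rts_E8 cm_etas_E8 cm_tab_E8 cm_base_E8 222 120 2 (by decide +kernel) (by decide +kernel)
      intro k hk
      interval_cases k
      · exact cmP_E8_222_0
      · exact cmP_E8_222_1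
    · apply pairCheck_of_chunks chevE8 cm_rts_E8 cm_etas_E8 cm_tab_E8 cm_base_E8 223 120 2 (by decide +kernel) (by decide +kernel)
      intro k hk
      interval_cases k
      · exact cmP_E8_223_0
      · exact cmP_E8_223_1
    · apply pairCheck_of_chunks chevE8 cm_rts_E8 cm_etas_E8 cm_tab_E8 cm_base_E8 224 120 2 (by decide +kernel) (by decide +kernel)
      intro k hk
      interval_cases k
      · exact cmP_E8_224_0
      · exact cmP_E8_224_1
    · apply pairCheck_of_chunks chevE8 cm_rts_E8 cm_etas_E8 cm_tab_E8 cm_base_E8 225 120 2 (by decide +kernel) (by decide +kernel)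
      intro k hk
      interval_cases k
      · exact cmP_E8_225_0
      · exact cmP_E8_225_1
    · apply pairCheck_of_chunks chevE8 cm_rts_E8 cm_etas_E8 cm_tab_E8 cm_base_E8 226 120 2 (by decide +kernel) (by decide +kernel)
      intro k hk
      interval_cases k
      · exact cmP_E8_226_0
      · exact cmP_E8_226_1
    · apply pairCheck_of_chunks chevE8 cm_rts_E8 cm_etas_E8 cm_tab_E8 cm_base_E8 227 120 2 (by decide +kernel) (by decide +kernel)
      intro k hk
      interval_cases k
      · exact cmP_E8_227_0
      · exact cmP_E8_227_1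
    · apply pairCheck_of_chunks chevE8 cm_rts_E8 cm_etas_E8 cm_tab_E8 cm_base_E8 228 120 2 (by decide +kernel) (by decide +kernel)
      intro k hk
      interval_cases k
      · exact cmP_E8_228_0
      · exact cmP_E8_228_1
    · apply pairCheck_of_chunks chevE8 cm_rts_E8 cm_etas_E8 cm_tab_E8 cm_base_E8 229 120 2 (by decide +kernel) (by decide +kernel)
      intro k hk
      interval_cases k
      · exact cmP_E8_229_0
      · exact cmP_E8_229_1
    · apply pairCheck_of_chunks chevE8 cm_rts_E8 cm_etas_E8 cm_tab_E8 cm_base_E8 230 120 2 (by decide +kernel) (by decide +kernel)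
      intro k hk
      interval_cases k
      · exact cmP_E8_230_0
      · exact cmP_E8_230_1
    · apply pairCheck_of_chunks chevE8 cm_rts_E8 cm_etas_E8 cm_tab_E8 cm_base_E8 231 120 2 (by decide +kernel) (by decide +kernel)
      intro k hk
      interval_cases k
      · exact cmP_E8_231_0
      · exact cmP_E8_231_1
    · apply pairCheck_of_chunks chevE8 cm_rts_E8 cm_etas_E8 cm_tab_E8 cm_base_E8 232 120 2 (by decide +kernel) (by decide +kernel)
      intro k hk
      interval_cases k
      · exact cmP_E8_232_0
      · exact cmP_E8_232_1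
    · apply pairCheck_of_chunks chevE8 cm_rts_E8 cm_etas_E8 cm_tab_E8 cm_base_E8 233 120 2 (by decide +kernel) (by decide +kernel)
      intro k hk
      interval_cases k
      · exact cmP_E8_233_0
      · exact cmP_E8_233_1
    · apply pairCheck_of_chunks chevE8 cm_rts_E8 cm_etas_E8 cm_tab_E8 cm_base_E8 234 120 2 (by decide +kernel) (by decide +kernel)
      intro k hk
      interval_cases k
      · exact cmP_E8_234_0
      · exact cmP_E8_234_1
    · apply pairCheck_of_chunks chevE8 cm_rts_E8 cm_etas_E8 cm_tab_E8 cm_base_E8 235 120 2 (by decide +kernel) (by decide +kernel)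
      intro k hk
      interval_cases k
      · exact cmP_E8_235_0
      · exact cmP_E8_235_1
    · apply pairCheck_of_chunks chevE8 cm_rts_E8 cm_etas_E8 cm_tab_E8 cm_base_E8 236 120 2 (by decide +kernel) (by decide +kernel)
      intro k hk
      interval_cases k
      · exact cmP_E8_236_0
      · exact cmP_E8_236_1
    · apply pairCheck_of_chunks chevE8 cm_rts_E8 cm_etas_E8 cm_tab_E8 cm_base_E8 237 120 2 (by decide +kernel) (by decide +kernel)
      intro k hk
      interval_cases k
      · exact cmP_E8_237_0
      · exact cmP_E8_237_1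
    · apply pairCheck_of_chunks chevE8 cm_rts_E8 cm_etas_E8 cm_tab_E8 cm_base_E8 238 120 2 (by decide +kernel) (by decide +kernel)
      intro k hk
      interval_cases k
      · exact cmP_E8_238_0
      · exact cmP_E8_238_1
    · apply pairCheck_of_chunks chevE8 cm_rts_E8 cm_etas_E8 cm_tab_E8 cm_base_E8 239 120 2 (by decide +kernel) (by decide +kernel)
      intro k hk
      interval_cases k
      · exact cmP_E8_239_0
      · exact cmP_E8_239_1

end Cfsg.Agent.helper5.Chev
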