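import Mathlib
import Cfsg.Agent.Lib_helper5_ChevCommDefsF4

set_option autoImplicit false

namespace Cfsg.Agent.helper5.Chev

open Cfsg.Lie

set_option maxRecDepth 1000000 in
set_option maxHeartbeats 0 in
theorem cmB_F4_0_0 : commBaseColsRange chevF4 0 1 0 52 = true := by decide +kernel

theorem cmB_F4_0 : commBaseCheck chevF4 0 1 = true := by
  apply commBaseCheck_of_chunks chevF4 0 1 52 1 (by decide +kernel) (by decide +kernel) (by decide +kernel) (by decide +kernel) (by decide +kernel)
  intro k hk
  interval_cases k
  · exact cmB_F4_0_0

set_option maxRecDepth 1000000 in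
set_option maxHeartbeats 0 in
theorem cmB_F4_1_0 : commBaseColsRange chevF4 0 3 0 52 = true := by decide +kernel

theorem cmB_F4_1 : commBaseCheck chevF4 0 3 = true := by
  apply commBaseCheck_of_chunks chevF4 0 3 52 1 (by decide +kernel) (by decide +kernel) (by decide +kernel) (by decide +kernel) (by decide +kernel)
  intro k hk
  interval_cases k
  · exact cmB_F4_1_0

set_option maxRecDepth 1000000 in
set_option maxHeartbeats 0 in
theorem cmB_F4_2_0 : commBaseColsRange chevF4 0 6 0 52 = true := by decide +kernel

theorem cmB_F4_2 : commBaseCheck chevF4 0 6 = true := by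
  apply commBaseCheck_of_chunks chevF4 0 6 52 1 (by decide +kernel) (by decide +kernel) (by decide +kernel) (by decide +kernel) (by decide +kernel)
  intro k hk
  interval_cases k
  · exact cmB_F4_2_0

set_option maxRecDepth 1000000 in
set_option maxHeartbeats 0 in
theorem cmB_F4_3_0 : commBaseColsRange chevF4 0 10 0 52 = true := by decide +kernel

theorem cmB_F4_3 : commBaseCheck chevF4 0 10 = true := by
  apply commBaseCheck_of_chunks chevF4 0 10 52 1 (by decide +kernel) (by decide +kernel) (by decide +kernel) (by decide +kernel) (by decide +kernel)
  intro k hk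
  interval_cases k
  · exact cmB_F4_3_0

set_option maxRecDepth 1000000 in
set_option maxHeartbeats 0 in
theorem cmB_F4_4_0 : commBaseColsRange chevF4 0 24 0 52 = true := by decide +kernel

theorem cmB_F4_4 : commBaseCheck chevF4 0 24 = true := by
  apply commBaseCheck_of_chunks chevF4 0 24 52 1 (by decide +kernel) (by decide +kernel) (by decide +kernel) (by decide +kernel) (by decide +kernel)
  intro k hk
  interval_cases k
  · exact cmB_F4_4_0

set_option maxRecDepth 1000000 in
set_option maxHeartbeats 0 in
theorem cmB_F4_5_0 : commBaseColsRange chevF4 0 29 0 52 = true := by decide +kernel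

theorem cmB_F4_5 : commBaseCheck chevF4 0 29 = true := by
  apply commBaseCheck_of_chunks chevF4 0 29 52 1 (by decide +kernel) (by decide +kernel) (by decide +kernel) (by decide +kernel) (by decide +kernel)
  intro k hk
  interval_cases k
  · exact cmB_F4_5_0

set_option maxRecDepth 1000000 in
set_option maxHeartbeats 0 in
theorem cmB_F4_6_0 : commBaseColsRange chevF4 3 0 0 52 = true := by decide +kernel

theorem cmB_F4_6 : commBaseCheck chevF4 3 0 = true := by
  apply commBaseCheck_of_chunks chevF4 3 0 52 1 (by decide +kernel) (by decide +kernel) (by decide +kernel) (by decide +kernel) (by decide +kernel)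
  intro k hk
  interval_cases k
  · exact cmB_F4_6_0

set_option maxRecDepth 1000000 in
set_option maxHeartbeats 0 in
theorem cmB_F4_7_0 : commBaseColsRange chevF4 3 7 0 52 = true := by decide +kernel

theorem cmB_F4_7 : commBaseCheck chevF4 3 7 = true := by
  apply commBaseCheck_of_chunks chevF4 3 7 52 1 (by decide +kernel) (by decide +kernel) (by decide +kernel) (by decide +kernel) (by decide +kernel)
  intro k hk
  interval_cases k
  · exact cmB_F4_7_0

set_option maxRecDepth 1000000 in
set_option maxHeartbeats 0 in
theorem cmB_F4_8_0 : commBaseColsRange chevF4 3 15 0 52 = true := by decide +kernel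

theorem cmB_F4_8 : commBaseCheck chevF4 3 15 = true := by
  apply commBaseCheck_of_chunks chevF4 3 15 52 1 (by decide +kernel) (by decide +kernel) (by decide +kernel) (by decide +kernel) (by decide +kernel)
  intro k hk
  interval_cases k
  · exact cmB_F4_8_0

set_option maxRecDepth 1000000 in
set_option maxHeartbeats 0 in
theorem cmB_F4_9_0 : commBaseColsRange chevF4 3 18 0 52 = true := by decide +kernel

theorem cmB_F4_9 : commBaseCheck chevF4 3 18 = true := by
  apply commBaseCheck_of_chunks chevF4 3 18 52 1 (by decide +kernel) (by decide +kernel) (by decide +kernel) (by decide +kernel) (by decide +kernel)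
  intro k hk
  interval_cases k
  · exact cmB_F4_9_0

set_option maxRecDepth 1000000 in
set_option maxHeartbeats 0 in
theorem cmB_F4_10_0 : commBaseColsRange chevF4 3 33 0 52 = true := by decide +kernel

theorem cmB_F4_10 : commBaseCheck chevF4 3 33 = true := by
  apply commBaseCheck_of_chunks chevF4 3 33 52 1 (by decide +kernel) (by decide +kernel) (by decide +kernel) (by decide +kernel) (by decide +kernel)
  intro k hk
  interval_cases k
  · exact cmB_F4_10_0

set_option maxRecDepth 1000000 in
set_option maxHeartbeats 0 in
theorem cmB_F4_11_0 : commBaseColsRange chevF4 3 41 0 52 = true := by decide +kernel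

theorem cmB_F4_11 : commBaseCheck chevF4 3 41 = true := by
  apply commBaseCheck_of_chunks chevF4 3 41 52 1 (by decide +kernel) (by decide +kernel) (by decide +kernel) (by decide +kernel) (by decide +kernel)
  intro k hk
  interval_cases k
  · exact cmB_F4_11_0

end Cfsg.Agent.helper5.Chev
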