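import Mathlib
import Cfsg.Agent.Lib_helper5_ChevCommDefsF4

set_option autoImplicit false

namespace Cfsg.Agent.helper5.Chev

open Cfsg.Lie

set_option maxRecDepth 1000000 in
set_option maxHeartbeats 0 in
theorem cmP_F4_0_0 : pairCheckRange chevF4 cm_rts_F4 cm_etas_F4 cm_tab_F4 cm_base_F4 0 0 48 = true := by decide +kernel

set_option maxRecDepth 1000000 in
set_option maxHeartbeats 0 in
theorem cmP_F4_1_0 : pairCheckRange chevF4 cm_rts_F4 cm_etas_F4 cm_tab_F4 cm_base_F4 1 0 48 = true := by decide +kernel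

set_option maxRecDepth 1000000 in
set_option maxHeartbeats 0 in
theorem cmP_F4_2_0 : pairCheckRange chevF4 cm_rts_F4 cm_etas_F4 cm_tab_F4 cm_base_F4 2 0 48 = true := by decide +kernel

set_option maxRecDepth 1000000 in
set_option maxHeartbeats 0 in
theorem cmP_F4_3_0 : pairCheckRange chevF4 cm_rts_F4 cm_etas_F4 cm_tab_F4 cm_base_F4 3 0 48 = true := by decide +kernel

set_option maxRecDepth 1000000 in
set_option maxHeartbeats 0 in
theorem cmP_F4_4_0 : pairCheckRange chevF4 cm_rts_F4 cm_etas_F4 cm_tab_F4 cm_base_F4 4 0 48 = true := by decide +kernel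

set_option maxRecDepth 1000000 in
set_option maxHeartbeats 0 in
theorem cmP_F4_5_0 : pairCheckRange chevF4 cm_rts_F4 cm_etas_F4 cm_tab_F4 cm_base_F4 5 0 48 = true := by decide +kernel

set_option maxRecDepth 1000000 in
set_option maxHeartbeats 0 in
theorem cmP_F4_6_0 : pairCheckRange chevF4 cm_rts_F4 cm_etas_F4 cm_tab_F4 cm_base_F4 6 0 48 = true := by decide +kernel

set_option maxRecDepth 1000000 in
set_option maxHeartbeats 0 in
theorem cmP_F4_7_0 : pairCheckRange chevF4 cm_rts_F4 cm_etas_F4 cm_tab_F4 cm_base_F4 7 0 48 = true := by decide +kernel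

set_option maxRecDepth 1000000 in
set_option maxHeartbeats 0 in
theorem cmP_F4_8_0 : pairCheckRange chevF4 cm_rts_F4 cm_etas_F4 cm_tab_F4 cm_base_F4 8 0 48 = true := by decide +kernel

set_option maxRecDepth 1000000 in
set_option maxHeartbeats 0 in
theorem cmP_F4_9_0 : pairCheckRange chevF4 cm_rts_F4 cm_etas_F4 cm_tab_F4 cm_base_F4 9 0 48 = true := by decide +kernel

set_option maxRecDepth 1000000 in
set_option maxHeartbeats 0 in
theorem cmP_F4_10_0 : pairCheckRange chevF4 cm_rts_F4 cm_etas_F4 cm_tab_F4 cm_base_F4 10 0 48 = true := by decide +kernel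

set_option maxRecDepth 1000000 in
set_option maxHeartbeats 0 in
theorem cmP_F4_11_0 : pairCheckRange chevF4 cm_rts_F4 cm_etas_F4 cm_tab_F4 cm_base_F4 11 0 48 = true := by decide +kernel

set_option maxRecDepth 1000000 in
set_option maxHeartbeats 0 in
theorem cmP_F4_12_0 : pairCheckRange chevF4 cm_rts_F4 cm_etas_F4 cm_tab_F4 cm_base_F4 12 0 48 = true := by decide +kernel

set_option maxRecDepth 1000000 in
set_option maxHeartbeats 0 in
theorem cmP_F4_13_0 : pairCheckRange chevF4 cm_rts_F4 cm_etas_F4 cm_tab_F4 cm_base_F4 13 0 48 = true := by decide +kernel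

set_option maxRecDepth 1000000 in
set_option maxHeartbeats 0 in
theorem cmP_F4_14_0 : pairCheckRange chevF4 cm_rts_F4 cm_etas_F4 cm_tab_F4 cm_base_F4 14 0 48 = true := by decide +kernel

set_option maxRecDepth 1000000 in
set_option maxHeartbeats 0 in
theorem cmP_F4_15_0 : pairCheckRange chevF4 cm_rts_F4 cm_etas_F4 cm_tab_F4 cm_base_F4 15 0 48 = true := by decide +kernel

set_option maxRecDepth 1000000 in
set_option maxHeartbeats 0 in
theorem cmP_F4_16_0 : pairCheckRange chevF4 cm_rts_F4 cm_etas_F4 cm_tab_F4 cm_base_F4 16 0 48 = true := by decide +kernel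

set_option maxRecDepth 1000000 in
set_option maxHeartbeats 0 in
theorem cmP_F4_17_0 : pairCheckRange chevF4 cm_rts_F4 cm_etas_F4 cm_tab_F4 cm_base_F4 17 0 48 = true := by decide +kernel

set_option maxRecDepth 1000000 in
set_option maxHeartbeats 0 in
theorem cmP_F4_18_0 : pairCheckRange chevF4 cm_rts_F4 cm_etas_F4 cm_tab_F4 cm_base_F4 18 0 48 = true := by decide +kernel

set_option maxRecDepth 1000000 in
set_option maxHeartbeats 0 in
theorem cmP_F4_19_0 : pairCheckRange chevF4 cm_rts_F4 cm_etas_F4 cm_tab_F4 cm_base_F4 19 0 48 = true := by decide +kernel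

set_option maxRecDepth 1000000 in
set_option maxHeartbeats 0 in
theorem cmP_F4_20_0 : pairCheckRange chevF4 cm_rts_F4 cm_etas_F4 cm_tab_F4 cm_base_F4 20 0 48 = true := by decide +kernel

set_option maxRecDepth 1000000 in
set_option maxHeartbeats 0 in
theorem cmP_F4_21_0 : pairCheckRange chevF4 cm_rts_F4 cm_etas_F4 cm_tab_F4 cm_base_F4 21 0 48 = true := by decide +kernel

set_option maxRecDepth 1000000 in
set_option maxHeartbeats 0 in
theorem cmP_F4_22_0 : pairCheckRange chevF4 cm_rts_F4 cm_etas_F4 cm_tab_F4 cm_base_F4 22 0 48 = true := by decide +kernel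

set_option maxRecDepth 1000000 in
set_option maxHeartbeats 0 in
theorem cmP_F4_23_0 : pairCheckRange chevF4 cm_rts_F4 cm_etas_F4 cm_tab_F4 cm_base_F4 23 0 48 = true := by decide +kernel

end Cfsg.Agent.helper5.Chev
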