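import Mathlib
import Cfsg.Agent.Lib_helper5_ChevCommDefsF4

set_option autoImplicit false

namespace Cfsg.Agent.helper5.Chev

open Cfsg.Lie

set_option maxRecDepth 1000000 in
set_option maxHeartbeats 0 in
theorem cmP_F4_24_0 : pairCheckRange chevF4 cm_rts_F4 cm_etas_F4 cm_tab_F4 cm_base_F4 24 0 48 = true := by decide +kernel

set_option maxRecDepth 1000000 in
set_option maxHeartbeats 0 in
theorem cmP_F4_25_0 : pairCheckRange chevF4 cm_rts_F4 cm_etas_F4 cm_tab_F4 cm_base_F4 25 0 48 = true := by decide +kernel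

set_option maxRecDepth 1000000 in
set_option maxHeartbeats 0 in
theorem cmP_F4_26_0 : pairCheckRange chevF4 cm_rts_F4 cm_etas_F4 cm_tab_F4 cm_base_F4 26 0 48 = true := by decide +kernel

set_option maxRecDepth 1000000 in
set_option maxHeartbeats 0 in
theorem cmP_F4_27_0 : pairCheckRange chevF4 cm_rts_F4 cm_etas_F4 cm_tab_F4 cm_base_F4 27 0 48 = true := by decide +kernel

set_option maxRecDepth 1000000 in
set_option maxHeartbeats 0 in
theorem cmP_F4_28_0 : pairCheckRange chevF4 cm_rts_F4 cm_etas_F4 cm_tab_F4 cm_base_F4 28 0 48 = true := by decide +kernel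

set_option maxRecDepth 1000000 in
set_option maxHeartbeats 0 in
theorem cmP_F4_29_0 : pairCheckRange chevF4 cm_rts_F4 cm_etas_F4 cm_tab_F4 cm_base_F4 29 0 48 = true := by decide +kernel

set_option maxRecDepth 1000000 in
set_option maxHeartbeats 0 in
theorem cmP_F4_30_0 : pairCheckRange chevF4 cm_rts_F4 cm_etas_F4 cm_tab_F4 cm_base_F4 30 0 48 = true := by decide +kernel

set_option maxRecDepth 1000000 in
set_option maxHeartbeats 0 in
theorem cmP_F4_31_0 : pairCheckRange chevF4 cm_rts_F4 cm_etas_F4 cm_tab_F4 cm_base_F4 31 0 48 = true := by decide +kernel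

set_option maxRecDepth 1000000 in
set_option maxHeartbeats 0 in
theorem cmP_F4_32_0 : pairCheckRange chevF4 cm_rts_F4 cm_etas_F4 cm_tab_F4 cm_base_F4 32 0 48 = true := by decide +kernel

set_option maxRecDepth 1000000 in
set_option maxHeartbeats 0 in
theorem cmP_F4_33_0 : pairCheckRange chevF4 cm_rts_F4 cm_etas_F4 cm_tab_F4 cm_base_F4 33 0 48 = true := by decide +kernel

set_option maxRecDepth 1000000 in
set_option maxHeartbeats 0 in
theorem cmP_F4_34_0 : pairCheckRange chevF4 cm_rts_F4 cm_etas_F4 cm_tab_F4 cm_base_F4 34 0 48 = true := by decide +kernel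

set_option maxRecDepth 1000000 in
set_option maxHeartbeats 0 in
theorem cmP_F4_35_0 : pairCheckRange chevF4 cm_rts_F4 cm_etas_F4 cm_tab_F4 cm_base_F4 35 0 48 = true := by decide +kernel

set_option maxRecDepth 1000000 in
set_option maxHeartbeats 0 in
theorem cmP_F4_36_0 : pairCheckRange chevF4 cm_rts_F4 cm_etas_F4 cm_tab_F4 cm_base_F4 36 0 48 = true := by decide +kernel

set_option maxRecDepth 1000000 in
set_option maxHeartbeats 0 in
theorem cmP_F4_37_0 : pairCheckRange chevF4 cm_rts_F4 cm_etas_F4 cm_tab_F4 cm_base_F4 37 0 48 = true := by decide +kernel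

set_option maxRecDepth 1000000 in
set_option maxHeartbeats 0 in
theorem cmP_F4_38_0 : pairCheckRange chevF4 cm_rts_F4 cm_etas_F4 cm_tab_F4 cm_base_F4 38 0 48 = true := by decide +kernel

set_option maxRecDepth 1000000 in
set_option maxHeartbeats 0 in
theorem cmP_F4_39_0 : pairCheckRange chevF4 cm_rts_F4 cm_etas_F4 cm_tab_F4 cm_base_F4 39 0 48 = true := by decide +kernel

set_option maxRecDepth 1000000 in
set_option maxHeartbeats 0 in
theorem cmP_F4_40_0 : pairCheckRange chevF4 cm_rts_F4 cm_etas_F4 cm_tab_F4 cm_base_F4 40 0 48 = true := by decide +kernel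

set_option maxRecDepth 1000000 in
set_option maxHeartbeats 0 in
theorem cmP_F4_41_0 : pairCheckRange chevF4 cm_rts_F4 cm_etas_F4 cm_tab_F4 cm_base_F4 41 0 48 = true := by decide +kernel

set_option maxRecDepth 1000000 in
set_option maxHeartbeats 0 in
theorem cmP_F4_42_0 : pairCheckRange chevF4 cm_rts_F4 cm_etas_F4 cm_tab_F4 cm_base_F4 42 0 48 = true := by decide +kernel

set_option maxRecDepth 1000000 in
set_option maxHeartbeats 0 in
theorem cmP_F4_43_0 : pairCheckRange chevF4 cm_rts_F4 cm_etas_F4 cm_tab_F4 cm_base_F4 43 0 48 = true := by decide +kernel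

set_option maxRecDepth 1000000 in
set_option maxHeartbeats 0 in
theorem cmP_F4_44_0 : pairCheckRange chevF4 cm_rts_F4 cm_etas_F4 cm_tab_F4 cm_base_F4 44 0 48 = true := by decide +kernel

set_option maxRecDepth 1000000 in
set_option maxHeartbeats 0 in
theorem cmP_F4_45_0 : pairCheckRange chevF4 cm_rts_F4 cm_etas_F4 cm_tab_F4 cm_base_F4 45 0 48 = true := by decide +kernel

set_option maxRecDepth 1000000 in
set_option maxHeartbeats 0 in
theorem cmP_F4_46_0 : pairCheckRange chevF4 cm_rts_F4 cm_etas_F4 cm_tab_F4 cm_base_F4 46 0 48 = true := by decide +kernel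

set_option maxRecDepth 1000000 in
set_option maxHeartbeats 0 in
theorem cmP_F4_47_0 : pairCheckRange chevF4 cm_rts_F4 cm_etas_F4 cm_tab_F4 cm_base_F4 47 0 48 = true := by decide +kernel

end Cfsg.Agent.helper5.Chev
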