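import Mathlib
import Cfsg.Agent.Lib_helper5_ChevCommBaseF4_0
import Cfsg.Agent.Lib_helper5_ChevCommPF4_00
import Cfsg.Agent.Lib_helper5_ChevCommPF4_01
import Cfsg.Agent.Lib_helper5_ChevNXF4

set_option autoImplicit false

namespace Cfsg.Agent.helper5.Chev

open Cfsg.Lie

set_option maxRecDepth 1000000 in
set_option maxHeartbeats 0 in
theorem cm_neg_F4 : ∀ r < chevF4.nroots, chevF4.neg r + r + 1 = chevF4.nroots := by decide +kernel

theorem commOK_F4 : CommOK chevF4 := by
  refine ⟨cm_rts_F4, cm_etas_F4, cm_tab_F4, cm_base_F4, cm_neg_F4, ?_, ?_, ?_⟩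
  · intro i hi
    have hn : chevF4.rank = 4 := rfl
    rw [hn] at hi
    interval_cases i
    · exact ⟨nxca_F4_0, nxTab_F4_0⟩
    · exact ⟨nxca_F4_1, nxTab_F4_1⟩
    · exact ⟨nxca_F4_2, nxTab_F4_2⟩
    · exact ⟨nxca_F4_3, nxTab_F4_3⟩
  · intro p hp
    simp only [cm_base_F4, List.mem_cons, List.not_mem_nil, or_false] at hp
    rcases hp with rfl | rfl | rfl | rfl | rfl | rfl | rfl | rfl | rfl | rfl | rfl | rfl
    · exact cmB_F4_0
    · exact cmB_F4_1
    · exact cmB_F4_2
    · exact cmB_F4_3
    · exact cmB_F4_4
    · exact cmB_F4_5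
    · exact cmB_F4_6
    · exact cmB_F4_7
    · exact cmB_F4_8
    · exact cmB_F4_9
    · exact cmB_F4_10
    · exact cmB_F4_11
  · intro r hr
    have hn : chevF4.nroots = 48 := rfl
    rw [hn] at hr
    interval_cases r
    · apply pairCheck_of_chunks chevF4 cm_rts_F4 cm_etas_F4 cm_tab_F4 cm_base_F4 0 48 1 (by decide +kernel) (by decide +kernel)
      intro k hk
      interval_cases k
      · exact cmP_F4_0_0
    · apply pairCheck_of_chunks chevF4 cm_rts_F4 cm_etas_F4 cm_tab_F4 cm_base_F4 1 48 1 (by decide +kernel) (by decide +kernel)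
      intro k hk
      interval_cases k
      · exact cmP_F4_1_0
    · apply pairCheck_of_chunks chevF4 cm_rts_F4 cm_etas_F4 cm_tab_F4 cm_base_F4 2 48 1 (by decide +kernel) (by decide +kernel)
      intro k hk
      interval_cases k
      · exact cmP_F4_2_0
    · apply pairCheck_of_chunks chevF4 cm_rts_F4 cm_etas_F4 cm_tab_F4 cm_base_F4 3 48 1 (by decide +kernel) (by decide +kernel)
      intro k hk
      interval_cases k
      · exact cmP_F4_3_0
    · apply pairCheck_of_chunks chevF4 cm_rts_F4 cm_etas_F4 cm_tab_F4 cm_base_F4 4 48 1 (by decide +kernel) (by decide +kernel)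
      intro k hk
      interval_cases k
      · exact cmP_F4_4_0
    · apply pairCheck_of_chunks chevF4 cm_rts_F4 cm_etas_F4 cm_tab_F4 cm_base_F4 5 48 1 (by decide +kernel) (by decide +kernel)
      intro k hk
      interval_cases k
      · exact cmP_F4_5_0
    · apply pairCheck_of_chunks chevF4 cm_rts_F4 cm_etas_F4 cm_tab_F4 cm_base_F4 6 48 1 (by decide +kernel) (by decide +kernel)
      intro k hk
      interval_cases k
      · exact cmP_F4_6_0
    · apply pairCheck_of_chunks chevF4 cm_rts_F4 cm_etas_F4 cm_tab_F4 cm_base_F4 7 48 1 (by decide +kernel) (by decide +kernel)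
      intro k hk
      interval_cases k
      · exact cmP_F4_7_0
    · apply pairCheck_of_chunks chevF4 cm_rts_F4 cm_etas_F4 cm_tab_F4 cm_base_F4 8 48 1 (by decide +kernel) (by decide +kernel)
      intro k hk
      interval_cases k
      · exact cmP_F4_8_0
    · apply pairCheck_of_chunks chevF4 cm_rts_F4 cm_etas_F4 cm_tab_F4 cm_base_F4 9 48 1 (by decide +kernel) (by decide +kernel)
      intro k hk
      interval_cases k
      · exact cmP_F4_9_0
    · apply pairCheck_of_chunks chevF4 cm_rts_F4 cm_etas_F4 cm_tab_F4 cm_base_F4 10 48 1 (by decide +kernel) (by decide +kernel)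
      intro k hk
      interval_cases k
      · exact cmP_F4_10_0
    · apply pairCheck_of_chunks chevF4 cm_rts_F4 cm_etas_F4 cm_tab_F4 cm_base_F4 11 48 1 (by decide +kernel) (by decide +kernel)
      intro k hk
      interval_cases k
      · exact cmP_F4_11_0
    · apply pairCheck_of_chunks chevF4 cm_rts_F4 cm_etas_F4 cm_tab_F4 cm_base_F4 12 48 1 (by decide +kernel) (by decide +kernel)
      intro k hk
      interval_cases k
      · exact cmP_F4_12_0
    · apply pairCheck_of_chunks chevF4 cm_rts_F4 cm_etas_F4 cm_tab_F4 cm_base_F4 13 48 1 (by decide +kernel) (by decide +kernel)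
      intro k hk
      interval_cases k
      · exact cmP_F4_13_0
    · apply pairCheck_of_chunks chevF4 cm_rts_F4 cm_etas_F4 cm_tab_F4 cm_base_F4 14 48 1 (by decide +kernel) (by decide +kernel)
      intro k hk
      interval_cases k
      · exact cmP_F4_14_0
    · apply pairCheck_of_chunks chevF4 cm_rts_F4 cm_etas_F4 cm_tab_F4 cm_base_F4 15 48 1 (by decide +kernel) (by decide +kernel)
      intro k hk
      interval_cases k
      · exact cmP_F4_15_0
    · apply pairCheck_of_chunks chevF4 cm_rts_F4 cm_etas_F4 cm_tab_F4 cm_base_F4 16 48 1 (by decide +kernel) (by decide +kernel)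
      intro k hk
      interval_cases k
      · exact cmP_F4_16_0
    · apply pairCheck_of_chunks chevF4 cm_rts_F4 cm_etas_F4 cm_tab_F4 cm_base_F4 17 48 1 (by decide +kernel) (by decide +kernel)
      intro k hk
      interval_cases k
      · exact cmP_F4_17_0
    · apply pairCheck_of_chunks chevF4 cm_rts_F4 cm_etas_F4 cm_tab_F4 cm_base_F4 18 48 1 (by decide +kernel) (by decide +kernel)
      intro k hk
      interval_cases k
      · exact cmP_F4_18_0
    · apply pairCheck_of_chunks chevF4 cm_rts_F4 cm_etas_F4 cm_tab_F4 cm_base_F4 19 48 1 (by decide +kernel) (by decide +kernel)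
      intro k hk
      interval_cases k
      · exact cmP_F4_19_0
    · apply pairCheck_of_chunks chevF4 cm_rts_F4 cm_etas_F4 cm_tab_F4 cm_base_F4 20 48 1 (by decide +kernel) (by decide +kernel)
      intro k hk
      interval_cases k
      · exact cmP_F4_20_0
    · apply pairCheck_of_chunks chevF4 cm_rts_F4 cm_etas_F4 cm_tab_F4 cm_base_F4 21 48 1 (by decide +kernel) (by decide +kernel)
      intro k hk
      interval_cases k
      · exact cmP_F4_21_0
    · apply pairCheck_of_chunks chevF4 cm_rts_F4 cm_etas_F4 cm_tab_F4 cm_base_F4 22 48 1 (by decide +kernel) (by decide +kernel)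
      intro k hk
      interval_cases k
      · exact cmP_F4_22_0
    · apply pairCheck_of_chunks chevF4 cm_rts_F4 cm_etas_F4 cm_tab_F4 cm_base_F4 23 48 1 (by decide +kernel) (by decide +kernel)
      intro k hk
      interval_cases k
      · exact cmP_F4_23_0
    · apply pairCheck_of_chunks chevF4 cm_rts_F4 cm_etas_F4 cm_tab_F4 cm_base_F4 24 48 1 (by decide +kernel) (by decide +kernel)
      intro k hk
      interval_cases k
      · exact cmP_F4_24_0
    · apply pairCheck_of_chunks chevF4 cm_rts_F4 cm_etas_F4 cm_tab_F4 cm_base_F4 25 48 1 (by decide +kernel) (by decide +kernel)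
      intro k hk
      interval_cases k
      · exact cmP_F4_25_0
    · apply pairCheck_of_chunks chevF4 cm_rts_F4 cm_etas_F4 cm_tab_F4 cm_base_F4 26 48 1 (by decide +kernel) (by decide +kernel)
      intro k hk
      interval_cases k
      · exact cmP_F4_26_0
    · apply pairCheck_of_chunks chevF4 cm_rts_F4 cm_etas_F4 cm_tab_F4 cm_base_F4 27 48 1 (by decide +kernel) (by decide +kernel)
      intro k hk
      interval_cases k
      · exact cmP_F4_27_0
    · apply pairCheck_of_chunks chevF4 cm_rts_F4 cm_etas_F4 cm_tab_F4 cm_base_F4 28 48 1 (by decide +kernel) (by decide +kernel)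
      intro k hk
      interval_cases k
      · exact cmP_F4_28_0
    · apply pairCheck_of_chunks chevF4 cm_rts_F4 cm_etas_F4 cm_tab_F4 cm_base_F4 29 48 1 (by decide +kernel) (by decide +kernel)
      intro k hk
      interval_cases k
      · exact cmP_F4_29_0
    · apply pairCheck_of_chunks chevF4 cm_rts_F4 cm_etas_F4 cm_tab_F4 cm_base_F4 30 48 1 (by decide +kernel) (by decide +kernel)
      intro k hk
      interval_cases k
      · exact cmP_F4_30_0
    · apply pairCheck_of_chunks chevF4 cm_rts_F4 cm_etas_F4 cm_tab_F4 cm_base_F4 31 48 1 (by decide +kernel) (by decide +kernel)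
      intro k hk
      interval_cases k
      · exact cmP_F4_31_0
    · apply pairCheck_of_chunks chevF4 cm_rts_F4 cm_etas_F4 cm_tab_F4 cm_base_F4 32 48 1 (by decide +kernel) (by decide +kernel)
      intro k hk
      interval_cases k
      · exact cmP_F4_32_0
    · apply pairCheck_of_chunks chevF4 cm_rts_F4 cm_etas_F4 cm_tab_F4 cm_base_F4 33 48 1 (by decide +kernel) (by decide +kernel)
      intro k hk
      interval_cases k
      · exact cmP_F4_33_0
    · apply pairCheck_of_chunks chevF4 cm_rts_F4 cm_etas_F4 cm_tab_F4 cm_base_F4 34 48 1 (by decide +kernel) (by decide +kernel)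
      intro k hk
      interval_cases k
      · exact cmP_F4_34_0
    · apply pairCheck_of_chunks chevF4 cm_rts_F4 cm_etas_F4 cm_tab_F4 cm_base_F4 35 48 1 (by decide +kernel) (by decide +kernel)
      intro k hk
      interval_cases k
      · exact cmP_F4_35_0
    · apply pairCheck_of_chunks chevF4 cm_rts_F4 cm_etas_F4 cm_tab_F4 cm_base_F4 36 48 1 (by decide +kernel) (by decide +kernel)
      intro k hk
      interval_cases k
      · exact cmP_F4_36_0
    · apply pairCheck_of_chunks chevF4 cm_rts_F4 cm_etas_F4 cm_tab_F4 cm_base_F4 37 48 1 (by decide +kernel) (by decide +kernel)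
      intro k hk
      interval_cases k
      · exact cmP_F4_37_0
    · apply pairCheck_of_chunks chevF4 cm_rts_F4 cm_etas_F4 cm_tab_F4 cm_base_F4 38 48 1 (by decide +kernel) (by decide +kernel)
      intro k hk
      interval_cases k
      · exact cmP_F4_38_0
    · apply pairCheck_of_chunks chevF4 cm_rts_F4 cm_etas_F4 cm_tab_F4 cm_base_F4 39 48 1 (by decide +kernel) (by decide +kernel)
      intro k hk
      interval_cases k
      · exact cmP_F4_39_0
    · apply pairCheck_of_chunks chevF4 cm_rts_F4 cm_etas_F4 cm_tab_F4 cm_base_F4 40 48 1 (by decide +kernel) (by decide +kernel)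
      intro k hk
      interval_cases k
      · exact cmP_F4_40_0
    · apply pairCheck_of_chunks chevF4 cm_rts_F4 cm_etas_F4 cm_tab_F4 cm_base_F4 41 48 1 (by decide +kernel) (by decide +kernel)
      intro k hk
      interval_cases k
      · exact cmP_F4_41_0
    · apply pairCheck_of_chunks chevF4 cm_rts_F4 cm_etas_F4 cm_tab_F4 cm_base_F4 42 48 1 (by decide +kernel) (by decide +kernel)
      intro k hk
      interval_cases k
      · exact cmP_F4_42_0
    · apply pairCheck_of_chunks chevF4 cm_rts_F4 cm_etas_F4 cm_tab_F4 cm_base_F4 43 48 1 (by decide +kernel) (by decide +kernel)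
      intro k hk
      interval_cases k
      · exact cmP_F4_43_0
    · apply pairCheck_of_chunks chevF4 cm_rts_F4 cm_etas_F4 cm_tab_F4 cm_base_F4 44 48 1 (by decide +kernel) (by decide +kernel)
      intro k hk
      interval_cases k
      · exact cmP_F4_44_0
    · apply pairCheck_of_chunks chevF4 cm_rts_F4 cm_etas_F4 cm_tab_F4 cm_base_F4 45 48 1 (by decide +kernel) (by decide +kernel)
      intro k hk
      interval_cases k
      · exact cmP_F4_45_0
    · apply pairCheck_of_chunks chevF4 cm_rts_F4 cm_etas_F4 cm_tab_F4 cm_base_F4 46 48 1 (by decide +kernel) (by decide +kernel)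
      intro k hk
      interval_cases k
      · exact cmP_F4_46_0
    · apply pairCheck_of_chunks chevF4 cm_rts_F4 cm_etas_F4 cm_tab_F4 cm_base_F4 47 48 1 (by decide +kernel) (by decide +kernel)
      intro k hk
      interval_cases k
      · exact cmP_F4_47_0

end Cfsg.Agent.helper5.Chev
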