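import Mathlib
import Cfsg.Agent.Lib_helper5_ChevCommChk
import Cfsg.Agent.Lib_helper5_ChevNXDefsG2

set_option autoImplicit false

namespace Cfsg.Agent.helper5.Chev

open Cfsg.Lie

def cm_rts_G2 : List (List ℕ) := [nxrt_G2_0, nxrt_G2_1]
def cm_etas_G2 : List (List ℤ) := [nxeta_G2_0, nxeta_G2_1]
def cm_tab_G2 : List (List ℕ) := [
  [0, 0, 0, 16, 0, 16, 0, 16, 0, 16, 16, 0],
  [17, 0, 17, 17, 33, 17, 33, 17, 33, 33, 0, 33],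
  [0, 17, 0, 0, 17, 0, 17, 0, 17, 0, 0, 17],
  [16, 16, 16, 0, 16, 32, 16, 32, 0, 32, 32, 32],
  [33, 33, 33, 33, 0, 33, 49, 0, 49, 49, 49, 49],
  [32, 32, 32, 32, 32, 0, 0, 48, 48, 48, 48, 48],
  [49, 49, 49, 49, 49, 0, 0, 65, 65, 65, 65, 65],
  [48, 48, 48, 48, 0, 48, 64, 0, 64, 64, 64, 64],
  [65, 65, 65, 0, 65, 81, 65, 81, 0, 81, 81, 81],
  [80, 97, 0, 80, 97, 80, 97, 80, 97, 0, 80, 97],
  [64, 0, 64, 64, 80, 64, 80, 64, 80, 80, 0, 80],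
  [0, 81, 81, 97, 81, 97, 81, 97, 81, 97, 97, 0]]
def cm_base_G2 : List (ℕ × ℕ) := [(0, 1), (0, 2), (0, 4), (0, 6), (0, 8), (2, 0), (2, 3), (2, 5), (2, 7), (2, 10)]

end Cfsg.Agent.helper5.Chev
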