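import Mathlib
import Cfsg.Agent.Lib_helper5_ChevCommDefsG2

set_option autoImplicit false

namespace Cfsg.Agent.helper5.Chev

open Cfsg.Lie

set_option maxRecDepth 1000000 in
set_option maxHeartbeats 0 in
theorem cmB_G2_0_0 : commBaseColsRange chevG2 0 1 0 14 = true := by decide +kernel

theorem cmB_G2_0 : commBaseCheck chevG2 0 1 = true := by
  apply commBaseCheck_of_chunks chevG2 0 1 14 1 (by decide +kernel) (by decide +kernel) (by decide +kernel) (by decide +kernel) (by decide +kernel)
  intro k hk
  interval_cases k
  · exact cmB_G2_0_0

set_option maxRecDepth 1000000 in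
set_option maxHeartbeats 0 in
theorem cmB_G2_1_0 : commBaseColsRange chevG2 0 2 0 14 = true := by decide +kernel

theorem cmB_G2_1 : commBaseCheck chevG2 0 2 = true := by
  apply commBaseCheck_of_chunks chevG2 0 2 14 1 (by decide +kernel) (by decide +kernel) (by decide +kernel) (by decide +kernel) (by decide +kernel)
  intro k hk
  interval_cases k
  · exact cmB_G2_1_0

set_option maxRecDepth 1000000 in
set_option maxHeartbeats 0 in
theorem cmB_G2_2_0 : commBaseColsRange chevG2 0 4 0 14 = true := by decide +kernel

theorem cmB_G2_2 : commBaseCheck chevG2 0 4 = true := by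
  apply commBaseCheck_of_chunks chevG2 0 4 14 1 (by decide +kernel) (by decide +kernel) (by decide +kernel) (by decide +kernel) (by decide +kernel)
  intro k hk
  interval_cases k
  · exact cmB_G2_2_0

set_option maxRecDepth 1000000 in
set_option maxHeartbeats 0 in
theorem cmB_G2_3_0 : commBaseColsRange chevG2 0 6 0 14 = true := by decide +kernel

theorem cmB_G2_3 : commBaseCheck chevG2 0 6 = true := by
  apply commBaseCheck_of_chunks chevG2 0 6 14 1 (by decide +kernel) (by decide +kernel) (by decide +kernel) (by decide +kernel) (by decide +kernel)
  intro k hk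
  interval_cases k
  · exact cmB_G2_3_0

set_option maxRecDepth 1000000 in
set_option maxHeartbeats 0 in
theorem cmB_G2_4_0 : commBaseColsRange chevG2 0 8 0 14 = true := by decide +kernel

theorem cmB_G2_4 : commBaseCheck chevG2 0 8 = true := by
  apply commBaseCheck_of_chunks chevG2 0 8 14 1 (by decide +kernel) (by decide +kernel) (by decide +kernel) (by decide +kernel) (by decide +kernel)
  intro k hk
  interval_cases k
  · exact cmB_G2_4_0

set_option maxRecDepth 1000000 in
set_option maxHeartbeats 0 in
theorem cmB_G2_5_0 : commBaseColsRange chevG2 2 0 0 14 = true := by decide +kernel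

theorem cmB_G2_5 : commBaseCheck chevG2 2 0 = true := by
  apply commBaseCheck_of_chunks chevG2 2 0 14 1 (by decide +kernel) (by decide +kernel) (by decide +kernel) (by decide +kernel) (by decide +kernel)
  intro k hk
  interval_cases k
  · exact cmB_G2_5_0

set_option maxRecDepth 1000000 in
set_option maxHeartbeats 0 in
theorem cmB_G2_6_0 : commBaseColsRange chevG2 2 3 0 14 = true := by decide +kernel

theorem cmB_G2_6 : commBaseCheck chevG2 2 3 = true := by
  apply commBaseCheck_of_chunks chevG2 2 3 14 1 (by decide +kernel) (by decide +kernel) (by decide +kernel) (by decide +kernel) (by decide +kernel)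
  intro k hk
  interval_cases k
  · exact cmB_G2_6_0

set_option maxRecDepth 1000000 in
set_option maxHeartbeats 0 in
theorem cmB_G2_7_0 : commBaseColsRange chevG2 2 5 0 14 = true := by decide +kernel

theorem cmB_G2_7 : commBaseCheck chevG2 2 5 = true := by
  apply commBaseCheck_of_chunks chevG2 2 5 14 1 (by decide +kernel) (by decide +kernel) (by decide +kernel) (by decide +kernel) (by decide +kernel)
  intro k hk
  interval_cases k
  · exact cmB_G2_7_0

set_option maxRecDepth 1000000 in
set_option maxHeartbeats 0 in
theorem cmB_G2_8_0 : commBaseColsRange chevG2 2 7 0 14 = true := by decide +kernel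

theorem cmB_G2_8 : commBaseCheck chevG2 2 7 = true := by
  apply commBaseCheck_of_chunks chevG2 2 7 14 1 (by decide +kernel) (by decide +kernel) (by decide +kernel) (by decide +kernel) (by decide +kernel)
  intro k hk
  interval_cases k
  · exact cmB_G2_8_0

set_option maxRecDepth 1000000 in
set_option maxHeartbeats 0 in
theorem cmB_G2_9_0 : commBaseColsRange chevG2 2 10 0 14 = true := by decide +kernel

theorem cmB_G2_9 : commBaseCheck chevG2 2 10 = true := by
  apply commBaseCheck_of_chunks chevG2 2 10 14 1 (by decide +kernel) (by decide +kernel) (by decide +kernel) (by decide +kernel) (by decide +kernel)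
  intro k hk
  interval_cases k
  · exact cmB_G2_9_0

end Cfsg.Agent.helper5.Chev
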