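import Mathlib
import Cfsg.Agent.Lib_helper5_ChevCommDefsG2

set_option autoImplicit false

namespace Cfsg.Agent.helper5.Chev

open Cfsg.Lie

set_option maxRecDepth 1000000 in
set_option maxHeartbeats 0 in
theorem cmP_G2_0_0 : pairCheckRange chevG2 cm_rts_G2 cm_etas_G2 cm_tab_G2 cm_base_G2 0 0 12 = true := by decide +kernel

set_option maxRecDepth 1000000 in
set_option maxHeartbeats 0 in
theorem cmP_G2_1_0 : pairCheckRange chevG2 cm_rts_G2 cm_etas_G2 cm_tab_G2 cm_base_G2 1 0 12 = true := by decide +kernel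

set_option maxRecDepth 1000000 in
set_option maxHeartbeats 0 in
theorem cmP_G2_2_0 : pairCheckRange chevG2 cm_rts_G2 cm_etas_G2 cm_tab_G2 cm_base_G2 2 0 12 = true := by decide +kernel

set_option maxRecDepth 1000000 in
set_option maxHeartbeats 0 in
theorem cmP_G2_3_0 : pairCheckRange chevG2 cm_rts_G2 cm_etas_G2 cm_tab_G2 cm_base_G2 3 0 12 = true := by decide +kernel

set_option maxRecDepth 1000000 in
set_option maxHeartbeats 0 in
theorem cmP_G2_4_0 : pairCheckRange chevG2 cm_rts_G2 cm_etas_G2 cm_tab_G2 cm_base_G2 4 0 12 = true := by decide +kernel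

set_option maxRecDepth 1000000 in
set_option maxHeartbeats 0 in
theorem cmP_G2_5_0 : pairCheckRange chevG2 cm_rts_G2 cm_etas_G2 cm_tab_G2 cm_base_G2 5 0 12 = true := by decide +kernel

set_option maxRecDepth 1000000 in
set_option maxHeartbeats 0 in
theorem cmP_G2_6_0 : pairCheckRange chevG2 cm_rts_G2 cm_etas_G2 cm_tab_G2 cm_base_G2 6 0 12 = true := by decide +kernel

set_option maxRecDepth 1000000 in
set_option maxHeartbeats 0 in
theorem cmP_G2_7_0 : pairCheckRange chevG2 cm_rts_G2 cm_etas_G2 cm_tab_G2 cm_base_G2 7 0 12 = true := by decide +kernel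

set_option maxRecDepth 1000000 in
set_option maxHeartbeats 0 in
theorem cmP_G2_8_0 : pairCheckRange chevG2 cm_rts_G2 cm_etas_G2 cm_tab_G2 cm_base_G2 8 0 12 = true := by decide +kernel

set_option maxRecDepth 1000000 in
set_option maxHeartbeats 0 in
theorem cmP_G2_9_0 : pairCheckRange chevG2 cm_rts_G2 cm_etas_G2 cm_tab_G2 cm_base_G2 9 0 12 = true := by decide +kernel

set_option maxRecDepth 1000000 in
set_option maxHeartbeats 0 in
theorem cmP_G2_10_0 : pairCheckRange chevG2 cm_rts_G2 cm_etas_G2 cm_tab_G2 cm_base_G2 10 0 12 = true := by decide +kernel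

set_option maxRecDepth 1000000 in
set_option maxHeartbeats 0 in
theorem cmP_G2_11_0 : pairCheckRange chevG2 cm_rts_G2 cm_etas_G2 cm_tab_G2 cm_base_G2 11 0 12 = true := by decide +kernel

end Cfsg.Agent.helper5.Chev
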