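import Mathlib
import Cfsg.Agent.Lib_helper5_ChevCommBaseG2_0
import Cfsg.Agent.Lib_helper5_ChevCommPG2_00
import Cfsg.Agent.Lib_helper5_ChevNXG2

set_option autoImplicit false

namespace Cfsg.Agent.helper5.Chev

open Cfsg.Lie

set_option maxRecDepth 1000000 in
set_option maxHeartbeats 0 in
theorem cm_neg_G2 : ∀ r < chevG2.nroots, chevG2.neg r + r + 1 = chevG2.nroots := by decide +kernel

theorem commOK_G2 : CommOK chevG2 := by
  refine ⟨cm_rts_G2, cm_etas_G2, cm_tab_G2, cm_base_G2, cm_neg_G2, ?_, ?_, ?_⟩
  · intro i hi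
    have hn : chevG2.rank = 2 := rfl
    rw [hn] at hi
    interval_cases i
    · exact ⟨nxca_G2_0, nxTab_G2_0⟩
    · exact ⟨nxca_G2_1, nxTab_G2_1⟩
  · intro p hp
    simp only [cm_base_G2, List.mem_cons, List.not_mem_nil, or_false] at hp
    rcases hp with rfl | rfl | rfl | rfl | rfl | rfl | rfl | rfl | rfl | rfl
    · exact cmB_G2_0
    · exact cmB_G2_1
    · exact cmB_G2_2
    · exact cmB_G2_3
    · exact cmB_G2_4
    · exact cmB_G2_5
    · exact cmB_G2_6
    · exact cmB_G2_7
    · exact cmB_G2_8
    · exact cmB_G2_9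
  · intro r hr
    have hn : chevG2.nroots = 12 := rfl
    rw [hn] at hr
    interval_cases r
    · apply pairCheck_of_chunks chevG2 cm_rts_G2 cm_etas_G2 cm_tab_G2 cm_base_G2 0 12 1 (by decide +kernel) (by decide +kernel)
      intro k hk
      interval_cases k
      · exact cmP_G2_0_0
    · apply pairCheck_of_chunks chevG2 cm_rts_G2 cm_etas_G2 cm_tab_G2 cm_base_G2 1 12 1 (by decide +kernel) (by decide +kernel)
      intro k hk
      interval_cases k
      · exact cmP_G2_1_0
    · apply pairCheck_of_chunks chevG2 cm_rts_G2 cm_etas_G2 cm_tab_G2 cm_base_G2 2 12 1 (by decide +kernel) (by decide +kernel)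
      intro k hk
      interval_cases k
      · exact cmP_G2_2_0
    · apply pairCheck_of_chunks chevG2 cm_rts_G2 cm_etas_G2 cm_tab_G2 cm_base_G2 3 12 1 (by decide +kernel) (by decide +kernel)
      intro k hk
      interval_cases k
      · exact cmP_G2_3_0
    · apply pairCheck_of_chunks chevG2 cm_rts_G2 cm_etas_G2 cm_tab_G2 cm_base_G2 4 12 1 (by decide +kernel) (by decide +kernel)
      intro k hk
      interval_cases k
      · exact cmP_G2_4_0
    · apply pairCheck_of_chunks chevG2 cm_rts_G2 cm_etas_G2 cm_tab_G2 cm_base_G2 5 12 1 (by decide +kernel) (by decide +kernel)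
      intro k hk
      interval_cases k
      · exact cmP_G2_5_0
    · apply pairCheck_of_chunks chevG2 cm_rts_G2 cm_etas_G2 cm_tab_G2 cm_base_G2 6 12 1 (by decide +kernel) (by decide +kernel)
      intro k hk
      interval_cases k
      · exact cmP_G2_6_0
    · apply pairCheck_of_chunks chevG2 cm_rts_G2 cm_etas_G2 cm_tab_G2 cm_base_G2 7 12 1 (by decide +kernel) (by decide +kernel)
      intro k hk
      interval_cases k
      · exact cmP_G2_7_0
    · apply pairCheck_of_chunks chevG2 cm_rts_G2 cm_etas_G2 cm_tab_G2 cm_base_G2 8 12 1 (by decide +kernel) (by decide +kernel)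
      intro k hk
      interval_cases k
      · exact cmP_G2_8_0
    · apply pairCheck_of_chunks chevG2 cm_rts_G2 cm_etas_G2 cm_tab_G2 cm_base_G2 9 12 1 (by decide +kernel) (by decide +kernel)
      intro k hk
      interval_cases k
      · exact cmP_G2_9_0
    · apply pairCheck_of_chunks chevG2 cm_rts_G2 cm_etas_G2 cm_tab_G2 cm_base_G2 10 12 1 (by decide +kernel) (by decide +kernel)
      intro k hk
      interval_cases k
      · exact cmP_G2_10_0
    · apply pairCheck_of_chunks chevG2 cm_rts_G2 cm_etas_G2 cm_tab_G2 cm_base_G2 11 12 1 (by decide +kernel) (by decide +kernel)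
      intro k hk
      interval_cases k
      · exact cmP_G2_11_0

end Cfsg.Agent.helper5.Chev
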