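import Mathlib
import Cfsg.Agent.Lib_helper5_ChevPosChk
import Cfsg.Prelude.Def_ChevE7

set_option autoImplicit false

namespace Cfsg.Agent.helper5.Chev

open Cfsg.Lie

set_option maxRecDepth 1000000 in
set_option maxHeartbeats 0 in
theorem posC_E7_0_0 : posCommCheckRange chevE7 0 0 126 = true := by decide +kernel

set_option maxRecDepth 1000000 in
set_option maxHeartbeats 0 in
theorem posC_E7_1_0 : posCommCheckRange chevE7 1 0 126 = true := by decide +kernel

set_option maxRecDepth 1000000 in
set_option maxHeartbeats 0 in
theorem posC_E7_2_0 : posCommCheckRange chevE7 2 0 126 = true := by decide +kernel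

set_option maxRecDepth 1000000 in
set_option maxHeartbeats 0 in
theorem posC_E7_3_0 : posCommCheckRange chevE7 3 0 126 = true := by decide +kernel

set_option maxRecDepth 1000000 in
set_option maxHeartbeats 0 in
theorem posC_E7_4_0 : posCommCheckRange chevE7 4 0 126 = true := by decide +kernel

set_option maxRecDepth 1000000 in
set_option maxHeartbeats 0 in
theorem posC_E7_5_0 : posCommCheckRange chevE7 5 0 126 = true := by decide +kernel

set_option maxRecDepth 1000000 in
set_option maxHeartbeats 0 in
theorem posC_E7_6_0 : posCommCheckRange chevE7 6 0 126 = true := by decide +kernel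

theorem posCommOK_E7 : PosCommOK chevE7 := by
  apply posCommOK_of_chunks chevE7 126 1 (by decide +kernel) (by decide +kernel)
  intro i hi
  have hn : chevE7.rank = 7 := rfl
  rw [hn] at hi
  interval_cases i
  · intro k hk
    interval_cases k
    · exact posC_E7_0_0
  · intro k hk
    interval_cases k
    · exact posC_E7_1_0
  · intro k hk
    interval_cases k
    · exact posC_E7_2_0
  · intro k hk
    interval_cases k
    · exact posC_E7_3_0
  · intro k hk
    interval_cases k
    · exact posC_E7_4_0
  · intro k hk
    interval_cases k
    · exact posC_E7_5_0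
  · intro k hk
    interval_cases k
    · exact posC_E7_6_0

end Cfsg.Agent.helper5.Chev
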