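import Mathlib
import Cfsg.Agent.Lib_helper5_ChevPosChk
import Cfsg.Prelude.Def_ChevE8

set_option autoImplicit false

namespace Cfsg.Agent.helper5.Chev

open Cfsg.Lie

set_option maxRecDepth 1000000 in
set_option maxHeartbeats 0 in
theorem posC_E8_0_0 : posCommCheckRange chevE8 0 0 240 = true := by decide +kernel

set_option maxRecDepth 1000000 in
set_option maxHeartbeats 0 in
theorem posC_E8_1_0 : posCommCheckRange chevE8 1 0 240 = true := by decide +kernel

set_option maxRecDepth 1000000 in
set_option maxHeartbeats 0 in
theorem posC_E8_2_0 : posCommCheckRange chevE8 2 0 240 = true := by decide +kernel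

set_option maxRecDepth 1000000 in
set_option maxHeartbeats 0 in
theorem posC_E8_3_0 : posCommCheckRange chevE8 3 0 240 = true := by decide +kernel

set_option maxRecDepth 1000000 in
set_option maxHeartbeats 0 in
theorem posC_E8_4_0 : posCommCheckRange chevE8 4 0 240 = true := by decide +kernel

set_option maxRecDepth 1000000 in
set_option maxHeartbeats 0 in
theorem posC_E8_5_0 : posCommCheckRange chevE8 5 0 240 = true := by decide +kernel

set_option maxRecDepth 1000000 in
set_option maxHeartbeats 0 in
theorem posC_E8_6_0 : posCommCheckRange chevE8 6 0 240 = true := by decide +kernel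

set_option maxRecDepth 1000000 in
set_option maxHeartbeats 0 in
theorem posC_E8_7_0 : posCommCheckRange chevE8 7 0 240 = true := by decide +kernel

theorem posCommOK_E8 : PosCommOK chevE8 := by
  apply posCommOK_of_chunks chevE8 240 1 (by decide +kernel) (by decide +kernel)
  intro i hi
  have hn : chevE8.rank = 8 := rfl
  rw [hn] at hi
  interval_cases i
  · intro k hk
    interval_cases k
    · exact posC_E8_0_0
  · intro k hk
    interval_cases k
    · exact posC_E8_1_0
  · intro k hk
    interval_cases k
    · exact posC_E8_2_0
  · intro k hk
    interval_cases k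
    · exact posC_E8_3_0
  · intro k hk
    interval_cases k
    · exact posC_E8_4_0
  · intro k hk
    interval_cases k
    · exact posC_E8_5_0
  · intro k hk
    interval_cases k
    · exact posC_E8_6_0
  · intro k hk
    interval_cases k
    · exact posC_E8_7_0

end Cfsg.Agent.helper5.Chev
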