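import Mathlib
import Cfsg.Agent.Lib_helper5_ChevPosChk
import Cfsg.Prelude.Def_ChevG2
import Cfsg.Prelude.Def_ChevB2
import Cfsg.Prelude.Def_ChevD4
import Cfsg.Prelude.Def_ChevF4
import Cfsg.Prelude.Def_ChevE6

set_option autoImplicit false

namespace Cfsg.Agent.helper5.Chev

open Cfsg.Lie

set_option maxRecDepth 1000000 in
set_option maxHeartbeats 0 in
theorem posC_G2_0_0 : posCommCheckRange chevG2 0 0 12 = true := by decide +kernel

set_option maxRecDepth 1000000 in
set_option maxHeartbeats 0 in
theorem posC_G2_1_0 : posCommCheckRange chevG2 1 0 12 = true := by decide +kernel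

theorem posCommOK_G2 : PosCommOK chevG2 := by
  apply posCommOK_of_chunks chevG2 12 1 (by decide +kernel) (by decide +kernel)
  intro i hi
  have hn : chevG2.rank = 2 := rfl
  rw [hn] at hi
  interval_cases i
  · intro k hk
    interval_cases k
    · exact posC_G2_0_0
  · intro k hk
    interval_cases k
    · exact posC_G2_1_0

set_option maxRecDepth 1000000 in
set_option maxHeartbeats 0 in
theorem posC_B2_0_0 : posCommCheckRange chevB2 0 0 8 = true := by decide +kernel

set_option maxRecDepth 1000000 in
set_option maxHeartbeats 0 in
theorem posC_B2_1_0 : posCommCheckRange chevB2 1 0 8 = true := by decide +kernel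

theorem posCommOK_B2 : PosCommOK chevB2 := by
  apply posCommOK_of_chunks chevB2 8 1 (by decide +kernel) (by decide +kernel)
  intro i hi
  have hn : chevB2.rank = 2 := rfl
  rw [hn] at hi
  interval_cases i
  · intro k hk
    interval_cases k
    · exact posC_B2_0_0
  · intro k hk
    interval_cases k
    · exact posC_B2_1_0

set_option maxRecDepth 1000000 in
set_option maxHeartbeats 0 in
theorem posC_D4_0_0 : posCommCheckRange chevD4 0 0 24 = true := by decide +kernel

set_option maxRecDepth 1000000 in
set_option maxHeartbeats 0 in
theorem posC_D4_1_0 : posCommCheckRange chevD4 1 0 24 = true := by decide +kernel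

set_option maxRecDepth 1000000 in
set_option maxHeartbeats 0 in
theorem posC_D4_2_0 : posCommCheckRange chevD4 2 0 24 = true := by decide +kernel

set_option maxRecDepth 1000000 in
set_option maxHeartbeats 0 in
theorem posC_D4_3_0 : posCommCheckRange chevD4 3 0 24 = true := by decide +kernel

theorem posCommOK_D4 : PosCommOK chevD4 := by
  apply posCommOK_of_chunks chevD4 24 1 (by decide +kernel) (by decide +kernel)
  intro i hi
  have hn : chevD4.rank = 4 := rfl
  rw [hn] at hi
  interval_cases i
  · intro k hk
    interval_cases k
    · exact posC_D4_0_0
  · intro k hk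
    interval_cases k
    · exact posC_D4_1_0
  · intro k hk
    interval_cases k
    · exact posC_D4_2_0
  · intro k hk
    interval_cases k
    · exact posC_D4_3_0

set_option maxRecDepth 1000000 in
set_option maxHeartbeats 0 in
theorem posC_F4_0_0 : posCommCheckRange chevF4 0 0 48 = true := by decide +kernel

set_option maxRecDepth 1000000 in
set_option maxHeartbeats 0 in
theorem posC_F4_1_0 : posCommCheckRange chevF4 1 0 48 = true := by decide +kernel

set_option maxRecDepth 1000000 in
set_option maxHeartbeats 0 in
theorem posC_F4_2_0 : posCommCheckRange chevF4 2 0 48 = true := by decide +kernel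

set_option maxRecDepth 1000000 in
set_option maxHeartbeats 0 in
theorem posC_F4_3_0 : posCommCheckRange chevF4 3 0 48 = true := by decide +kernel

theorem posCommOK_F4 : PosCommOK chevF4 := by
  apply posCommOK_of_chunks chevF4 48 1 (by decide +kernel) (by decide +kernel)
  intro i hi
  have hn : chevF4.rank = 4 := rfl
  rw [hn] at hi
  interval_cases i
  · intro k hk
    interval_cases k
    · exact posC_F4_0_0
  · intro k hk
    interval_cases k
    · exact posC_F4_1_0
  · intro k hk
    interval_cases k
    · exact posC_F4_2_0
  · intro k hk
    interval_cases k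
    · exact posC_F4_3_0

set_option maxRecDepth 1000000 in
set_option maxHeartbeats 0 in
theorem posC_E6_0_0 : posCommCheckRange chevE6 0 0 72 = true := by decide +kernel

set_option maxRecDepth 1000000 in
set_option maxHeartbeats 0 in
theorem posC_E6_1_0 : posCommCheckRange chevE6 1 0 72 = true := by decide +kernel

set_option maxRecDepth 1000000 in
set_option maxHeartbeats 0 in
theorem posC_E6_2_0 : posCommCheckRange chevE6 2 0 72 = true := by decide +kernel

set_option maxRecDepth 1000000 in
set_option maxHeartbeats 0 in
theorem posC_E6_3_0 : posCommCheckRange chevE6 3 0 72 = true := by decide +kernel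

set_option maxRecDepth 1000000 in
set_option maxHeartbeats 0 in
theorem posC_E6_4_0 : posCommCheckRange chevE6 4 0 72 = true := by decide +kernel

set_option maxRecDepth 1000000 in
set_option maxHeartbeats 0 in
theorem posC_E6_5_0 : posCommCheckRange chevE6 5 0 72 = true := by decide +kernel

theorem posCommOK_E6 : PosCommOK chevE6 := by
  apply posCommOK_of_chunks chevE6 72 1 (by decide +kernel) (by decide +kernel)
  intro i hi
  have hn : chevE6.rank = 6 := rfl
  rw [hn] at hi
  interval_cases i
  · intro k hk
    interval_cases k
    · exact posC_E6_0_0
  · intro k hk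
    interval_cases k
    · exact posC_E6_1_0
  · intro k hk
    interval_cases k
    · exact posC_E6_2_0
  · intro k hk
    interval_cases k
    · exact posC_E6_3_0
  · intro k hk
    interval_cases k
    · exact posC_E6_4_0
  · intro k hk
    interval_cases k
    · exact posC_E6_5_0

end Cfsg.Agent.helper5.Chev
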