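import Mathlib
import Cfsg.Agent.Lib_helper5_ChevCommAllG2
import Cfsg.Agent.Lib_helper5_ChevCommAllB2
import Cfsg.Agent.Lib_helper5_ChevCommAllD4
import Cfsg.Agent.Lib_helper5_ChevCommAllF4
import Cfsg.Agent.Lib_helper5_ChevCommAllE6
import Cfsg.Agent.Lib_helper5_ChevCommAllE7
import Cfsg.Agent.Lib_helper5_ChevCommAllE8
import Cfsg.Agent.Lib_helper5_ChevPosSmall
import Cfsg.Agent.Lib_helper5_ChevPosE7
import Cfsg.Agent.Lib_helper5_ChevPosE8

set_option autoImplicit false

/-! The certificates for the commutator formula, for all seven data (helper5). -/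

namespace Cfsg.Agent.helper5.Chev

open Cfsg.Lie

theorem commOK_of_mem (D : ChevalleyDatum)
    (hD : D ∈ [chevG2, chevB2, chevD4, chevF4, chevE6, chevE7, chevE8]) : CommOK D := by
  simp only [List.mem_cons, List.not_mem_nil, or_false] at hD
  rcases hD with rfl | rfl | rfl | rfl | rfl | rfl | rfl
  · exact commOK_G2
  · exact commOK_B2
  · exact commOK_D4
  · exact commOK_F4
  · exact commOK_E6
  · exact commOK_E7
  · exact commOK_E8

theorem posCommOK_of_mem (D : ChevalleyDatum)
    (hD : D ∈ [chevG2, chevB2, chevD4, chevF4, chevE6, chevE7, chevE8]) : PosCommOK D := by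
  simp only [List.mem_cons, List.not_mem_nil, or_false] at hD
  rcases hD with rfl | rfl | rfl | rfl | rfl | rfl | rfl
  · exact posCommOK_G2
  · exact posCommOK_B2
  · exact posCommOK_D4
  · exact posCommOK_F4
  · exact posCommOK_E6
  · exact posCommOK_E7
  · exact posCommOK_E8

end Cfsg.Agent.helper5.Chev
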