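import Mathlib
import Cfsg.Agent.Lib_helper5_ChevCerts
import Cfsg.Agent.Lib_helper5_ChevBruhat2

set_option autoImplicit false

/-! Pairs of long root subgroups in characteristic 2 (helper5). -/

namespace Cfsg.Agent.helper5.Chev

open Cfsg.Lie

/-- a group generated by two commuting-up-to-centre one-parameter subgroups over a field of
characteristic 2 has exponent dividing 4 -/
theorem heis_pow_four {G : Type*} [Group G] {F : Type*} [Field F] [CharP F 2]
    (xr xs z : F → G) (c : F)
    (hr : ∀ a b, xr a * xr b = xr (a + b)) (hs : ∀ a b, xs a * xs b = xs (a + b))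
    (hz : ∀ a b, z a * z b = z (a + b))
    (hrz : ∀ a b, xr a * z b = z b * xr a) (hsz : ∀ a b, xs a * z b = z b * xs a)
    (hcomm : ∀ t u, xs u * xr t = xr t * xs u * z (c * t * u)) :
    ∀ g ∈ Subgroup.closure (Set.range xr ∪ Set.range xs), g ^ 4 = 1 := by
  have hr0 : xr 0 = 1 := by
    have := hr 0 0
    rw [add_zero] at this
    exact mul_eq_left.mp this
  have hs0 : xs 0 = 1 := by
    have := hs 0 0
    rw [add_zero] at this
    exact mul_eq_left.mp this
  have hz0 : z 0 = 1 := by
    have := hz 0 0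
    rw [add_zero] at this
    exact mul_eq_left.mp this
  have hmul : ∀ a b e a' b' e', xr a * xs b * z e * (xr a' * xs b' * z e') =
      xr (a + a') * xs (b + b') * z (c * a' * b + e + e') := by
    intro a b e a' b' e'
    calc xr a * xs b * z e * (xr a' * xs b' * z e')
        = xr a * xs b * (z e * xr a') * xs b' * z e' := by group
      _ = xr a * xs b * (xr a' * z e) * xs b' * z e' := by rw [hrz]
      _ = xr a * (xs b * xr a') * (z e * xs b') * z e' := by group
      _ = xr a * (xr a' * xs b * z (c * a' * b)) * (xs b' * z e) * z e' := by rw [hcomm, hsz]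
      _ = (xr a * xr a') * xs b * (z (c * a' * b) * xs b') * (z e * z e') := by group
      _ = (xr a * xr a') * xs b * (xs b' * z (c * a' * b)) * (z e * z e') := by rw [hsz]
      _ = (xr a * xr a') * (xs b * xs b') * (z (c * a' * b) * (z e * z e')) := by group
      _ = _ := by rw [hr, hs, hz, hz, add_assoc]
  have key : ∀ g ∈ Subgroup.closure (Set.range xr ∪ Set.range xs),
      ∃ a b e, g = xr a * xs b * z e := by
    intro g hg
    induction hg using Subgroup.closure_induction with
    | mem x hx =>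
      rcases hx with ⟨a, rfl⟩ | ⟨b, rfl⟩
      · exact ⟨a, 0, 0, by rw [hs0, hz0, mul_one, mul_one]⟩
      · exact ⟨0, b, 0, by rw [hr0, hz0, one_mul, mul_one]⟩
    | one => exact ⟨0, 0, 0, by rw [hr0, hs0, hz0, mul_one, mul_one]⟩
    | mul x y _ _ hx hy =>
      obtain ⟨a, b, e, rfl⟩ := hx
      obtain ⟨a', b', e', rfl⟩ := hy
      exact ⟨a + a', b + b', c * a' * b + e + e', hmul a b e a' b' e'⟩
    | inv x _ hx =>
      obtain ⟨a, b, e, rfl⟩ := hx
      refine ⟨-a, -b, c * a * b - e, ?_⟩
      apply inv_eq_of_mul_eq_one_right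
      rw [hmul, add_neg_cancel, add_neg_cancel, hr0, hs0, one_mul, one_mul]
      have : c * -a * b + e + (c * a * b - e) = 0 := by ring
      rw [this, hz0]
  intro g hg
  obtain ⟨a, b, e, rfl⟩ := key g hg
  have h2 : (xr a * xs b * z e) ^ 2 = z (c * a * b) := by
    rw [pow_two, hmul, CharTwo.add_self_eq_zero, CharTwo.add_self_eq_zero, hr0, hs0, one_mul,
      one_mul, add_assoc, CharTwo.add_self_eq_zero, add_zero]
  rw [show 4 = 2 * 2 from rfl, pow_mul, h2, pow_two, hz, CharTwo.add_self_eq_zero, hz0]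

section
variable {F : Type*} [Field F] (D : ChevalleyDatum)
  (hD : D ∈ [chevG2, chevB2, chevD4, chevF4, chevE6, chevE7, chevE8])

theorem rootSubgroup_eq_range (r : ℕ) :
    D.rootSubgroup F r = Subgroup.closure (Set.range (xG (F := F) D hD r)) := by
  unfold ChevalleyDatum.rootSubgroup
  congr 1
  ext g
  constructor
  · rintro ⟨t, ht⟩
    exact ⟨t, (eq_xG D hD g r t ht).symm⟩
  · rintro ⟨t, rfl⟩
    exact ⟨t, xG_val D hD r t⟩

theorem map_conj_rootSubgroup (a : GL D.Idx F) (r s : ℕ) (φ : F → F)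
    (hφ : Function.Surjective φ)
    (h : ∀ t, a * xG D hD r t * a⁻¹ = xG D hD s (φ t)) :
    (D.rootSubgroup F r).map (MulAut.conj a).toMonoidHom = D.rootSubgroup F s := by
  rw [rootSubgroup_eq_range D hD, rootSubgroup_eq_range D hD, MonoidHom.map_closure]
  congr 1
  ext g
  constructor
  · rintro ⟨_, ⟨t, rfl⟩, rfl⟩
    exact ⟨φ t, (h t).symm⟩
  · rintro ⟨t, rfl⟩
    obtain ⟨t0, rfl⟩ := hφ t
    exact ⟨xG D hD r t0, ⟨t0, rfl⟩, h t0⟩

end

/-- the commutator of `X_r` and `X_s` is trivial or a single central root subgroup -/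
def lrQ (D : ChevalleyDatum) (r s : ℕ) : Bool :=
  match D.commTerms r s with
  | [] => true
  | [c] => decide (c.1 < D.nroots) && (c.2.2.1 == 1) && (c.2.2.2 == 1) && (c.1 != r) &&
      (c.1 != D.neg r) && (c.1 != s) && (c.1 != D.neg s) && (D.commTerms r c.1).isEmpty &&
      (D.commTerms s c.1).isEmpty
  | _ => false

theorem lrQ_spec (D : ChevalleyDatum) (r s : ℕ) (h : lrQ D r s = true) :
    D.commTerms r s = [] ∨ ∃ (k : ℕ) (c : ℤ), D.commTerms r s = [(k, c, 1, 1)] ∧ k < D.nroots ∧
      k ≠ r ∧ k ≠ D.neg r ∧ k ≠ s ∧ k ≠ D.neg s ∧ D.commTerms r k = [] ∧ D.commTerms s k = [] := by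
  unfold lrQ at h
  split at h
  · rename_i heq
    exact Or.inl heq
  · rename_i c heq
    simp only [Bool.and_eq_true, decide_eq_true_eq, beq_iff_eq, bne_iff_ne, ne_eq,
      List.isEmpty_iff] at h
    obtain ⟨⟨⟨⟨⟨⟨⟨⟨h1, h2⟩, h3⟩, h4⟩, h5⟩, h6⟩, h7⟩, h8⟩, h9⟩ := h
    refine Or.inr ⟨c.1, c.2.1, ?_, h1, h4, h5, h6, h7, h8, h9⟩
    rw [heq]
    congr 1
    obtain ⟨k, c1, i, j⟩ := c
    simp only at h2 h3
    rw [h2, h3]
  · exact absurd h (by simp)

structure LROK (D : ChevalleyDatum) (orb : List ℕ) : Prop where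
  npos : 0 < D.nroots
  neg0 : D.neg (D.nroots - 1) = 0
  mem : D.nroots - 1 ∈ orb
  lt : ∀ s ∈ orb, s < D.nroots
  refl : ∀ s ∈ orb, ∀ i < D.rank, D.reflectRoot i s ∈ orb
  q : ∀ s ∈ orb, s = D.nroots - 1 ∨ s = D.neg (D.nroots - 1) ∨ lrQ D (D.nroots - 1) s = true
  pos : ∀ p < D.nroots, D.IsPosRoot p → p ≠ D.nroots - 1 →
    p ≠ D.neg (D.nroots - 1) ∧ D.commTerms (D.nroots - 1) p = []

def lrChk (D : ChevalleyDatum) (orb : List ℕ) : Bool :=
  decide (0 < D.nroots) && (D.neg (D.nroots - 1) == 0) && orb.contains (D.nroots - 1) &&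
  (orb.all fun s => decide (s < D.nroots) &&
    (List.range D.rank).all fun i => orb.contains (D.reflectRoot i s)) &&
  (orb.all fun s => s == D.nroots - 1 || s == D.neg (D.nroots - 1) || lrQ D (D.nroots - 1) s) &&
  ((List.range D.nroots).all fun p => !(decide (D.IsPosRoot p)) || p == D.nroots - 1 ||
    (p != D.neg (D.nroots - 1) && (D.commTerms (D.nroots - 1) p).isEmpty))

theorem lrOK_of_chk (D : ChevalleyDatum) (orb : List ℕ) (h : lrChk D orb = true) : LROK D orb := by
  unfold lrChk at h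
  simp only [Bool.and_eq_true, decide_eq_true_eq, beq_iff_eq, List.all_eq_true,
    List.contains_iff_mem, List.mem_range, Bool.or_eq_true, Bool.not_eq_true',
    decide_eq_false_iff_not, bne_iff_ne, ne_eq, List.isEmpty_iff] at h
  obtain ⟨⟨⟨⟨⟨h1, h2⟩, h3⟩, h4⟩, h5⟩, h6⟩ := h
  refine ⟨h1, h2, h3, fun s hs => (h4 s hs).1, fun s hs i hi => (h4 s hs).2 i hi, ?_, ?_⟩
  · intro s hs
    rcases h5 s hs with (h | h) | h
    · exact Or.inl h
    · exact Or.inr (Or.inl h)
    · exact Or.inr (Or.inr h)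
  · intro p hp hpos hne
    rcases h6 p hp with (h | h) | h
    · exact absurd hpos h
    · exact absurd h hne
    · exact h

set_option maxRecDepth 1000000 in
set_option maxHeartbeats 0 in
theorem lrOK_G2 : LROK chevG2 [0, 1, 5, 6, 10, 11] := lrOK_of_chk _ _ (by decide +kernel)

set_option maxRecDepth 1000000 in
set_option maxHeartbeats 0 in
theorem lrOK_D4 : LROK chevD4 (List.range 24) := lrOK_of_chk _ _ (by decide +kernel)

set_option maxRecDepth 1000000 in
set_option maxHeartbeats 0 in
theorem lrOK_E6 : LROK chevE6 (List.range 72) := lrOK_of_chk _ _ (by decide +kernel)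

set_option maxRecDepth 1000000 in
set_option maxHeartbeats 0 in
theorem lrOK_E7 : LROK chevE7 (List.range 126) := lrOK_of_chk _ _ (by decide +kernel)

set_option maxRecDepth 1000000 in
set_option maxHeartbeats 0 in
theorem lrOK_E8 : LROK chevE8 (List.range 240) := lrOK_of_chk _ _ (by decide +kernel)

section
variable {F : Type*} [Field F] (D : ChevalleyDatum)
  (hD : D ∈ [chevG2, chevB2, chevD4, chevF4, chevE6, chevE7, chevE8])

include hD in
theorem lr_U_comm (orb : List ℕ) (hL : LROK D orb) (hC : CommOK D) (u : GL D.Idx F)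
    (hu : u ∈ D.posUnipotent F) (t : F) :
    u * xG D hD (D.nroots - 1) t = xG D hD (D.nroots - 1) t * u := by
  have hr : D.nroots - 1 < D.nroots := by have := hL.npos; omega
  have hle : D.posUnipotent F ≤ Subgroup.centralizer {xG D hD (D.nroots - 1) t} := by
    unfold ChevalleyDatum.posUnipotent
    rw [Subgroup.closure_le]
    rintro g ⟨p, c, hp, hg⟩
    rw [eq_xG D hD g p c hg, SetLike.mem_coe, Subgroup.mem_centralizer_iff]
    intro y hy
    rw [Set.mem_singleton_iff] at hy
    subst hy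
    by_cases hpr : p = D.nroots - 1
    · rw [hpr, xG_mul, xG_mul, add_comm]
    · obtain ⟨hpn, hct⟩ := hL.pos p hp.1 hp hpr
      have hcf := commF_of_ok D hD hC (D.nroots - 1) hr p hp.1 hpr hpn t c
      have hcw : cwG D hD (D.nroots - 1) p t c = 1 := by
        unfold cwG
        rw [hct]
        rfl
      rw [hcw, mul_one] at hcf
      exact hcf.symm
  have := hle hu
  rw [Subgroup.mem_centralizer_iff] at this
  exact (this _ rfl).symm

include hD in
theorem lr_B_conj (orb : List ℕ) (hL : LROK D orb) (hC : CommOK D) (b : GL D.Idx F)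
    (hb : b ∈ D.borelSubgroup F) :
    (D.rootSubgroup F (D.nroots - 1)).map (MulAut.conj b).toMonoidHom =
      D.rootSubgroup F (D.nroots - 1) := by
  have hr : D.nroots - 1 < D.nroots := by have := hL.npos; omega
  obtain ⟨u, hu, h, hh, rfl⟩ := mem_borel D hD b hb
  obtain ⟨χ, hχ, hc⟩ := H_conj D hD h hh (D.nroots - 1) hr
  refine map_conj_rootSubgroup D hD (u * h) _ _ (fun t => χ * t) ?_ ?_
  · intro y
    exact ⟨χ⁻¹ * y, mul_inv_cancel_left₀ hχ y⟩
  · intro t
    calc u * h * xG D hD (D.nroots - 1) t * (u * h)⁻¹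
        = u * (h * xG D hD (D.nroots - 1) t * h⁻¹) * u⁻¹ := by group
      _ = u * xG D hD (D.nroots - 1) (χ * t) * u⁻¹ := by rw [hc]
      _ = xG D hD (D.nroots - 1) (χ * t) := by
          rw [lr_U_comm D hD orb hL hC u hu, mul_inv_cancel_right]

include hD in
theorem lr_N_conj (n : GL D.Idx F) (hn : n ∈ D.monomialSubgroup F) (r : ℕ) (hr : r < D.nroots) :
    ∃ w : List ℕ, (∀ i ∈ w, i < D.rank) ∧
      (D.rootSubgroup F r).map (MulAut.conj n).toMonoidHom = D.rootSubgroup F (applyW D w r) := by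
  obtain ⟨h, hh, w, hw, rfl⟩ := mem_N_decomp D hD n hn
  obtain ⟨ε, hε, hc⟩ := nW_conj (F := F) D hD w hw r hr
  obtain ⟨χ, hχ, hc2⟩ := H_conj D hD h hh (applyW D w r) (applyW_lt D hD w hw r hr)
  have hε0 : ε ≠ 0 := by
    rintro rfl
    simp at hε
  refine ⟨w, hw, map_conj_rootSubgroup D hD _ _ _ (fun t => χ * (ε * t)) ?_ ?_⟩
  · intro y
    refine ⟨ε⁻¹ * (χ⁻¹ * y), ?_⟩
    show χ * (ε * (ε⁻¹ * (χ⁻¹ * y))) = y
    rw [mul_inv_cancel_left₀ hε0, mul_inv_cancel_left₀ hχ]
  · intro t
    calc h * nW D hD w * xG D hD r t * (h * nW D hD w)⁻¹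
        = h * (nW D hD w * xG D hD r t * (nW D hD w)⁻¹) * h⁻¹ := by group
      _ = _ := by rw [hc, hc2]

theorem lr_orb (orb : List ℕ) (hL : LROK D orb) (w : List ℕ) (hw : ∀ i ∈ w, i < D.rank) :
    applyW D w (D.nroots - 1) ∈ orb := by
  induction w with
  | nil => exact hL.mem
  | cons i w ih =>
    have : applyW D (i :: w) (D.nroots - 1) = D.reflectRoot i (applyW D w (D.nroots - 1)) := rfl
    rw [this]
    exact hL.refl _ (ih fun j hj => hw j (List.mem_cons_of_mem _ hj)) i (hw i List.mem_cons_self)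

theorem isPGroup_of_pow_four {G : Type*} [Group G] (K : Subgroup G) (h : ∀ g ∈ K, g ^ 4 = 1) :
    IsPGroup 2 ↥K := by
  intro g
  refine ⟨2, ?_⟩
  apply Subtype.ext
  rw [Subgroup.coe_pow]
  exact h g.1 g.2

include hD in
theorem lr_same_pgroup [CharP F 2] (r : ℕ) :
    IsPGroup 2 ↥(D.rootSubgroup F r ⊔ D.rootSubgroup F r) := by
  apply isPGroup_of_pow_four
  rw [rootSubgroup_eq_range D hD, ← Subgroup.closure_union]
  refine heis_pow_four (xG D hD r) (xG D hD r) (fun _ => 1) 0 (xG_mul D hD r) (xG_mul D hD r)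
    (fun _ _ => one_mul 1) (fun _ _ => by rw [mul_one, one_mul])
    (fun _ _ => by rw [mul_one, one_mul]) ?_
  intro t u
  rw [mul_one, xG_mul, xG_mul, add_comm]

include hD in
theorem lr_pair_pgroup [CharP F 2] (hC : CommOK D) (r s : ℕ) (hr : r < D.nroots)
    (hs : s < D.nroots) (hsr : s ≠ r) (hsn : s ≠ D.neg r) (hq : lrQ D r s = true) :
    IsPGroup 2 ↥(D.rootSubgroup F r ⊔ D.rootSubgroup F s) := by
  have hcf := commF_of_ok (F := F) D hD hC
  apply isPGroup_of_pow_four
  rw [rootSubgroup_eq_range D hD, rootSubgroup_eq_range D hD, ← Subgroup.closure_union]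
  rcases lrQ_spec D r s hq with h0 | ⟨k, c, hk, hklt, hkr, hknr, hks, hkns, hrk, hsk⟩
  · refine heis_pow_four (xG D hD r) (xG D hD s) (fun _ => 1) 0 (xG_mul D hD r) (xG_mul D hD s)
      (fun _ _ => one_mul 1) (fun _ _ => by rw [mul_one, one_mul])
      (fun _ _ => by rw [mul_one, one_mul]) ?_
    intro t u
    have := hcf r hr s hs hsr hsn t u
    have hcw : cwG D hD r s t u = 1 := by
      unfold cwG
      rw [h0]
      rfl
    rw [hcw] at this
    exact this
  · refine heis_pow_four (xG D hD r) (xG D hD s) (xG D hD k) (-(c : F)) (xG_mul D hD r)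
      (xG_mul D hD s) (xG_mul D hD k) ?_ ?_ ?_
    · intro a b
      have := hcf r hr k hklt hkr hknr a b
      have hcw : cwG D hD r k a b = 1 := by
        unfold cwG
        rw [hrk]
        rfl
      rw [hcw, mul_one] at this
      exact this.symm
    · intro a b
      have := hcf s hs k hklt hks hkns a b
      have hcw : cwG D hD s k a b = 1 := by
        unfold cwG
        rw [hsk]
        rfl
      rw [hcw, mul_one] at this
      exact this.symm
    · intro t u
      have := hcf r hr s hs hsr hsn t u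
      have hcw : cwG D hD r s t u = xG D hD k (-(c : F) * t * u) := by
        unfold cwG
        rw [hk]
        simp only [List.map_cons, List.map_nil, List.prod_cons, List.prod_nil, mul_one, pow_one]
        congr 1
        ring
      rw [hcw] at this
      exact this

include hD in
/-- two conjugates of the long root subgroup `X_r`, `r` the highest root, in characteristic 2 -/
theorem lr_main [CharP F 2] (orb : List ℕ) (hL : LROK D orb) (g : GL D.Idx F)
    (hg : g ∈ D.group F) :
    IsPGroup 2 ↥(D.rootSubgroup F (D.nroots - 1) ⊔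
        (D.rootSubgroup F (D.nroots - 1)).map (MulAut.conj g).toMonoidHom) ∨
    ∃ h ∈ D.group F, (D.rootSubgroup F (D.nroots - 1) ⊔
        (D.rootSubgroup F (D.nroots - 1)).map (MulAut.conj g).toMonoidHom).map
          (MulAut.conj h).toMonoidHom = D.rootSubgroup F (D.nroots - 1) ⊔ D.rootSubgroup F 0 := by
  have hC := commOK_of_mem D hD
  have hP := posCommOK_of_mem D hD
  have hr : D.nroots - 1 < D.nroots := by have := hL.npos; omega
  obtain ⟨hBG, -, -⟩ := Cfsg.Agent.S1043.result (F := F) D hD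
  obtain ⟨b, hb, n, hn, u, hu, rfl⟩ := exists_form D hD hC hP g hg
  obtain ⟨w, hw, hnw⟩ := lr_N_conj D hD n hn _ hr
  have hu' : u ∈ D.borelSubgroup F := U_le_B D hD (UnegOf_le_U D n hu)
  have hs_orb := lr_orb D orb hL w hw
  have hs_lt := hL.lt _ hs_orb
  have hcomp : (MulAut.conj (b * n * u)).toMonoidHom =
      (MulAut.conj b).toMonoidHom.comp
        ((MulAut.conj n).toMonoidHom.comp (MulAut.conj u).toMonoidHom) := by
    ext x
    simp [mul_assoc]
  have e1 : (D.rootSubgroup F (D.nroots - 1)).map (MulAut.conj (b * n * u)).toMonoidHom =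
      (D.rootSubgroup F (applyW D w (D.nroots - 1))).map (MulAut.conj b).toMonoidHom := by
    rw [hcomp, ← Subgroup.map_map, ← Subgroup.map_map, lr_B_conj D hD orb hL hC u hu', hnw]
  have e2 : D.rootSubgroup F (D.nroots - 1) ⊔
      (D.rootSubgroup F (D.nroots - 1)).map (MulAut.conj (b * n * u)).toMonoidHom =
      (D.rootSubgroup F (D.nroots - 1) ⊔ D.rootSubgroup F (applyW D w (D.nroots - 1))).map
        (MulAut.conj b).toMonoidHom := by
    rw [Subgroup.map_sup, lr_B_conj D hD orb hL hC b hb, e1]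
  rw [e2]
  by_cases h1 : applyW D w (D.nroots - 1) = D.nroots - 1
  · left
    rw [h1]
    exact (lr_same_pgroup D hD _).map _
  by_cases h2 : applyW D w (D.nroots - 1) = D.neg (D.nroots - 1)
  · right
    refine ⟨b⁻¹, Subgroup.inv_mem _ (hBG hb), ?_⟩
    rw [Subgroup.map_map, h2, hL.neg0]
    have : (MulAut.conj b⁻¹).toMonoidHom.comp (MulAut.conj b).toMonoidHom =
        MonoidHom.id (GL D.Idx F) := by
      ext x
      simp [mul_assoc]
    rw [this, Subgroup.map_id]
  · left
    rcases hL.q _ hs_orb with h | h | h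
    · exact absurd h h1
    · exact absurd h h2
    · exact (lr_pair_pgroup D hD hC _ _ hr hs_lt h1 h2 h).map _

end

end Cfsg.Agent.helper5.Chev
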