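import Mathlib
import Cfsg.Agent.Lib_helper5_ChevBN3
import Cfsg.Agent.S1029

set_option autoImplicit false
open Cfsg

/-! Uniqueness of the ordered product expression in `U` (helper5). -/

namespace Cfsg.Agent.helper5.Chev

open Cfsg.Lie Cfsg.Agent.S1028

/-- table check: for positive roots `m < s`, the `s`-chain through `-m` consists of positive roots -/
def negColCheck (D : ChevalleyDatum) : Bool :=
  (List.range D.nroots).all fun s =>
    !decide (D.IsPosRoot s) ||
      (D.chain.getD s #[]).toList.all fun e =>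
        !(decide (D.IsNegRoot e.1) && decide (D.neg e.1 < s)) ||
          e.2.toList.all fun q => decide (D.IsPosRoot q.1)

set_option maxRecDepth 1000000 in
set_option maxHeartbeats 0 in
theorem negColCheck_all (D : ChevalleyDatum)
    (hD : D ∈ [chevG2, chevB2, chevD4, chevF4, chevE6, chevE7, chevE8]) : negColCheck D = true := by
  simp only [List.mem_cons, List.not_mem_nil, or_false] at hD
  rcases hD with rfl | rfl | rfl | rfl | rfl | rfl | rfl <;> decide +kernel

section
variable {F : Type*} [Field F] (D : ChevalleyDatum)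

/-- rows that are not positive root vectors -/
def NP (row : D.Idx) : Prop := ∀ u : Fin D.nroots, row = Sum.inr u → ¬ D.IsPosRoot u.val

/-- the column of `e_c` is the unit vector, as far as the non-positive rows are concerned -/
def ColE (M : Matrix D.Idx D.Idx F) (c : Fin D.nroots) : Prop :=
  ∀ row, NP D row → M row (Sum.inr c) = if row = Sum.inr c then 1 else 0

theorem UL_zero_of_NP {M : Matrix D.Idx D.Idx F} (hM : UL D M) (row : D.Idx) (hrow : NP D row)
    (k : Fin D.nroots) (hk : D.IsPosRoot k.val) : M row (Sum.inr k) = 0 := by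
  have hne : row ≠ Sum.inr k := fun h => hrow k h hk
  have hle : pos D row ≤ pos D (Sum.inr k) := by
    have hk' : pos D (Sum.inr k) = 2 * (D.nroots + D.rank) + k.val := by
      simp only [pos, posN]; rw [if_pos hk]
    rw [hk']
    rcases row with i | u
    · simp only [pos]
      have := i.2
      omega
    · have hu : ¬ D.IsPosRoot u.val := hrow u rfl
      simp only [pos, posN]
      rw [if_neg hu]
      have := u.2
      omega
  rw [hM row _ hle, if_neg hne]

theorem ColE_mul {M M' : Matrix D.Idx D.Idx F} (hM : UL D M) (c : Fin D.nroots)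
    (hc : ¬ D.IsPosRoot c.val) (h1 : ColE D M c) (h2 : ColE D M' c) : ColE D (M * M') c := by
  classical
  intro row hrow
  rw [Matrix.mul_apply, Finset.sum_eq_single (Sum.inr c)]
  · have hcNP : NP D (Sum.inr c) := by
      intro u hu
      rw [← Sum.inr.inj hu]
      exact hc
    rw [h2 _ hcNP, if_pos rfl, mul_one, h1 row hrow]
  · intro k _ hk
    by_cases hkNP : NP D k
    · rw [h2 k hkNP, if_neg hk, mul_zero]
    · unfold NP at hkNP
      push Not at hkNP
      obtain ⟨u, rfl, hu⟩ := hkNP
      rw [UL_zero_of_NP D hM row hrow u hu, zero_mul]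
  · intro h
    exact absurd (Finset.mem_univ _) h

theorem ColE_one (c : Fin D.nroots) : ColE D (1 : Matrix D.Idx D.Idx F) c := by
  intro row _
  rw [Matrix.one_apply]

end

section
variable {F : Type*} [Field F] (D : ChevalleyDatum)
  (hD : D ∈ [chevG2, chevB2, chevD4, chevF4, chevE6, chevE7, chevE8])

include hD in
/-- (F1): for positive roots `m < s` the matrix `x_s(u)` has the unit column at `e_{-m}`, modulo
positive root vectors -/
theorem ColE_xMat (s : Fin D.nroots) (hs : D.IsPosRoot s.val) (m : ℕ) (hm : D.IsPosRoot m)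
    (hms : m < s.val) (c : Fin D.nroots) (hc : c.val = D.neg m) (u : F) :
    ColE D (D.xMat F s u) c := by
  have hR := rootsOK_of_mem D hD
  have hchk := negColCheck_all D hD
  unfold negColCheck at hchk
  rw [List.all_eq_true] at hchk
  have h1 := hchk s.val (List.mem_range.mpr s.2)
  simp only [hs, decide_true, Bool.not_true, Bool.false_or, List.all_eq_true, Bool.or_eq_true,
    Bool.not_eq_eq_eq_not, Bool.and_eq_true, decide_eq_true_eq, Bool.not_eq_true',
    Bool.and_eq_false_imp, decide_eq_false_iff_not] at h1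
  have hcneg : D.IsNegRoot c.val := by rw [hc]; exact hR.neg_pos _ hm
  have hcs : c ≠ s := by
    intro h
    rw [h] at hcneg
    exact hR.not_pos_and_neg _ hs hcneg
  have hcns : ¬ c.val = D.negIdx.getD s.val 0 := by
    intro h
    have h2 : D.neg m = D.neg s.val := by rw [← hc, h]; rfl
    have h3 := congrArg D.neg h2
    rw [hR.neg_neg _ hm.1, hR.neg_neg _ s.2] at h3
    omega
  intro row hrow
  unfold ChevalleyDatum.xMat
  simp only [Matrix.of_apply]
  rw [if_neg hcs, if_neg hcns]
  rcases row with i | v
  · dsimp only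
    have hne : (Sum.inl i : D.Idx) ≠ Sum.inr c := by simp
    rw [if_neg hne]
  · dsimp only
    have hv : ¬ D.IsPosRoot v.val := hrow v rfl
    have hsum : ((D.chainCoeff s.val c.val v.val).map
        fun km => ((km.2 : ℤ) : F) * u ^ km.1).sum = 0 := by
      by_cases hnil : D.chainCoeff s.val c.val v.val = []
      · rw [hnil]; rfl
      · exfalso
        obtain ⟨km, hkm⟩ := List.exists_mem_of_ne_nil _ hnil
        obtain ⟨e, he, hes, q, hq, hqu⟩ := chainCoeff_mem D _ _ _ km hkm
        have h2 := h1 e he
        have h3 : D.IsPosRoot q.1 := by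
          rcases h2 with h2 | h2
          · exfalso
            apply h2
            · rw [hes]; exact hcneg
            · rw [hes, hc, hR.neg_neg _ hm.1]; exact hms
          · exact h2 q hq
        rw [hqu] at h3
        exact hv h3
    rw [hsum, add_zero]
    by_cases hvc : v = c
    · rw [if_pos hvc, if_pos (by rw [hvc])]
    · have hne : (Sum.inr v : D.Idx) ≠ Sum.inr c := fun h' => hvc (Sum.inr.inj h')
      rw [if_neg hvc, if_neg hne]

/-- the ordered product over a list of roots -/
def prodL (t : ℕ → F) (l : List ℕ) : GL D.Idx F := (l.map fun r => xG D hD r (t r)).prod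

theorem prodL_val (t : ℕ → F) (l : List ℕ) :
    ((prodL D hD t l : GL D.Idx F) : Matrix D.Idx D.Idx F) =
      D.wordMat F (l.map fun r => (r, t r)) := by
  unfold prodL ChevalleyDatum.wordMat
  rw [← Units.coeHom_apply, map_list_prod, List.map_map, List.map_map]
  rfl

theorem prodL_cons (t : ℕ → F) (m : ℕ) (l : List ℕ) :
    prodL D hD t (m :: l) = xG D hD m (t m) * prodL D hD t l := by
  unfold prodL
  rw [List.map_cons, List.prod_cons]

theorem prodL_congr (t t' : ℕ → F) (l : List ℕ) (h : ∀ r ∈ l, t r = t' r) :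
    prodL D hD t l = prodL D hD t' l := by
  unfold prodL
  congr 1
  apply List.map_congr_left
  intro r hr
  rw [h r hr]

theorem prodL_mem_U (t : ℕ → F) (l : List ℕ) (hl : ∀ r ∈ l, D.IsPosRoot r) :
    prodL D hD t l ∈ D.posUnipotent F := by
  unfold prodL
  apply Subgroup.list_prod_mem
  intro g hg
  rw [List.mem_map] at hg
  obtain ⟨r, hr, rfl⟩ := hg
  exact Subgroup.subset_closure ⟨r, t r, hl r hr, xG_val D hD r _⟩

/-- the ordered product over positive roots `> m` has the unit column at `e_{-m}` -/
theorem ColE_prodL (t : ℕ → F) (m : ℕ) (hm : D.IsPosRoot m) (c : Fin D.nroots)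
    (hc : c.val = D.neg m) (l : List ℕ) (hl : ∀ r ∈ l, D.IsPosRoot r ∧ m < r) :
    ColE D ((prodL D hD t l : GL D.Idx F) : Matrix D.Idx D.Idx F) c := by
  have hR := rootsOK_of_mem D hD
  have hcneg : ¬ D.IsPosRoot c.val := by
    rw [hc]
    intro h
    exact hR.not_pos_and_neg _ h (hR.neg_pos _ hm)
  induction l with
  | nil =>
    unfold prodL
    simp only [List.map_nil, List.prod_nil, Units.val_one]
    exact ColE_one D c
  | cons s l ih =>
    rw [prodL_cons, Units.val_mul]
    have hs := hl s List.mem_cons_self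
    have hx : ((xG D hD s (t s) : GL D.Idx F) : Matrix D.Idx D.Idx F) =
        D.xMat F ⟨s, hs.1.1⟩ (t s) := by
      rw [xG_val, x_eq_xMat D s hs.1.1]
    apply ColE_mul D _ c hcneg
    · rw [hx]
      exact ColE_xMat D hD ⟨s, hs.1.1⟩ hs.1 m hm hs.2 c hc _
    · exact ih fun r hr => hl r (List.mem_cons_of_mem _ hr)
    · rw [hx]
      exact UL_xMat D (triCheck_all D hD) ⟨s, hs.1.1⟩ hs.1 _

/-- the Cartan entries of the column `e_{-m}` of `x_m(a) · C` -/
theorem entry_prodL (t : ℕ → F) (m : ℕ) (hm : D.IsPosRoot m) (c : Fin D.nroots)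
    (hc : c.val = D.neg m) (l : List ℕ) (hl : ∀ r ∈ l, D.IsPosRoot r ∧ m < r) (i : Fin D.rank) :
    ((prodL D hD t (m :: l) : GL D.Idx F) : Matrix D.Idx D.Idx F) (Sum.inl i) (Sum.inr c) =
      (((D.coroot.getD m #[]).getD i.val 0 : ℤ) : F) * t m := by
  classical
  have hR := rootsOK_of_mem D hD
  have hcol := ColE_prodL D hD t m hm c hc l hl
  have hcneg : D.IsNegRoot c.val := by rw [hc]; exact hR.neg_pos _ hm
  have hcm : c ≠ ⟨m, hm.1⟩ := by
    intro h
    rw [h] at hcneg
    exact hR.not_pos_and_neg _ hm hcneg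
  have hx : ((xG D hD m (t m) : GL D.Idx F) : Matrix D.Idx D.Idx F) =
      D.xMat F ⟨m, hm.1⟩ (t m) := by
    rw [xG_val, x_eq_xMat D m hm.1]
  have hUL := UL_xMat (F := F) D (triCheck_all D hD) ⟨m, hm.1⟩ hm (t m)
  have hNPi : NP D (Sum.inl i : D.Idx) := by
    intro u hu
    exact absurd hu (by simp)
  rw [prodL_cons, Units.val_mul, hx, Matrix.mul_apply, Finset.sum_eq_single (Sum.inr c)]
  · have hcNP : NP D (Sum.inr c) := by
      intro u hu
      rw [← Sum.inr.inj hu]
      intro h
      exact hR.not_pos_and_neg _ h hcneg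
    rw [hcol _ hcNP, if_pos rfl, mul_one]
    unfold ChevalleyDatum.xMat
    simp only [Matrix.of_apply]
    rw [if_neg hcm, if_pos (by rw [hc]; rfl)]
  · intro k _ hk
    by_cases hkNP : NP D k
    · rw [hcol k hkNP, if_neg hk, mul_zero]
    · unfold NP at hkNP
      push Not at hkNP
      obtain ⟨u, rfl, hu⟩ := hkNP
      rw [UL_zero_of_NP D hUL _ hNPi u hu, zero_mul]
  · intro h
    exact absurd (Finset.mem_univ _) h

end

end Cfsg.Agent.helper5.Chev
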