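import Mathlib
import Cfsg.Agent.Lib_helper5_ChevUniq

set_option autoImplicit false
open Cfsg

/-! Uniqueness of the ordered product expression in `U`: main lemma (helper5). -/

namespace Cfsg.Agent.helper5.Chev

open Cfsg.Lie Cfsg.Agent.S1028

/-- Bezout check: the coroot vector of every positive root is primitive -/
def bezCheck (D : ChevalleyDatum) (tab : List (List ℤ)) : Bool :=
  (List.range D.nroots).all fun r =>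
    !decide (D.IsPosRoot r) ||
      (((List.range D.rank).map fun i =>
        (tab.getD r []).getD i 0 * (D.coroot.getD r #[]).getD i 0).sum == 1)

def bezTabG2 : List (List ℤ) :=
  [[], [], [], [], [], [], [0, 1], [1, 0], [1, 0], [-1, 1], [1, 0], [1, 0]]

def bezTabB2 : List (List ℤ) :=
  [[], [], [], [], [0, 1], [1, 0], [1, 0], [1, 0]]

def bezTabD4 : List (List ℤ) :=
  [[], [], [], [], [], [], [], [], [], [], [], [], [0, 0, 0, 1], [0, 0, 1, 0], [0, 1, 0, 0], [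
    0, 1, 0, 0], [0, 1, 0, 0], [0, 1, 0, 0], [1, 0, 0, 0], [1, 0, 0, 0], [1, 0, 0, 0], [
    1, 0, 0, 0], [1, 0, 0, 0], [1, 0, 0, 0]]

def bezTabF4 : List (List ℤ) :=
  [[], [], [], [], [], [], [], [], [], [], [], [], [], [], [], [], [], [], [], [], [], [], [], [
    ], [0, 0, 0, 1], [0, 0, 1, 0], [0, 0, 1, 0], [0, 1, 0, 0], [0, 1, 0, 0], [0, 1, 0, 0], [
    0, 1, 0, 0], [0, 1, 0, 0], [0, 1, 0, 0], [1, 0, 0, 0], [1, 0, 0, 0], [1, 0, 0, 0], [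
    1, 0, 0, 0], [1, 0, 0, 0], [1, 0, 0, 0], [1, 0, 0, 0], [1, 0, 0, 0], [1, 0, 0, 0], [
    1, 0, 0, 0], [1, 0, 0, 0], [0, 1, 0, -1], [1, 0, 0, 0], [1, 0, 0, 0], [1, 0, 0, 0]]

def bezTabE6 : List (List ℤ) :=
  [[], [], [], [], [], [], [], [], [], [], [], [], [], [], [], [], [], [], [], [], [], [], [], [
    ], [], [], [], [], [], [], [], [], [], [], [], [], [0, 0, 0, 0, 0, 1], [0, 0, 0, 0, 1, 0], [
    0, 0, 0, 0, 1, 0], [0, 0, 0, 1, 0, 0], [0, 0, 0, 1, 0, 0], [0, 0, 0, 1, 0, 0], [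
    0, 0, 1, 0, 0, 0], [0, 0, 1, 0, 0, 0], [0, 0, 1, 0, 0, 0], [0, 0, 1, 0, 0, 0], [
    0, 1, 0, 0, 0, 0], [0, 1, 0, 0, 0, 0], [0, 1, 0, 0, 0, 0], [0, 1, 0, 0, 0, 0], [
    0, 1, 0, 0, 0, 0], [0, 1, 0, 0, 0, 0], [0, 1, 0, 0, 0, 0], [0, 1, 0, 0, 0, 0], [
    0, 1, 0, 0, 0, 0], [0, 1, 0, 0, 0, 0], [1, 0, 0, 0, 0, 0], [1, 0, 0, 0, 0, 0], [
    1, 0, 0, 0, 0, 0], [1, 0, 0, 0, 0, 0], [1, 0, 0, 0, 0, 0], [1, 0, 0, 0, 0, 0], [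
    1, 0, 0, 0, 0, 0], [1, 0, 0, 0, 0, 0], [1, 0, 0, 0, 0, 0], [1, 0, 0, 0, 0, 0], [
    1, 0, 0, 0, 0, 0], [1, 0, 0, 0, 0, 0], [1, 0, 0, 0, 0, 0], [1, 0, 0, 0, 0, 0], [
    1, 0, 0, 0, 0, 0], [1, 0, 0, 0, 0, 0]]

def bezTabE7 : List (List ℤ) :=
  [[], [], [], [], [], [], [], [], [], [], [], [], [], [], [], [], [], [], [], [], [], [], [], [
    ], [], [], [], [], [], [], [], [], [], [], [], [], [], [], [], [], [], [], [], [], [], [], [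
    ], [], [], [], [], [], [], [], [], [], [], [], [], [], [], [], [], [0, 0, 0, 0, 0, 0, 1], [
    0, 0, 0, 0, 0, 1, 0], [0, 0, 0, 0, 0, 1, 0], [0, 0, 0, 0, 1, 0, 0], [0, 0, 0, 0, 1, 0, 0], [
    0, 0, 0, 0, 1, 0, 0], [0, 0, 0, 1, 0, 0, 0], [0, 0, 0, 1, 0, 0, 0], [0, 0, 0, 1, 0, 0, 0], [
    0, 0, 0, 1, 0, 0, 0], [0, 0, 1, 0, 0, 0, 0], [0, 0, 1, 0, 0, 0, 0], [0, 0, 1, 0, 0, 0, 0], [
    0, 0, 1, 0, 0, 0, 0], [0, 0, 1, 0, 0, 0, 0], [0, 1, 0, 0, 0, 0, 0], [0, 1, 0, 0, 0, 0, 0], [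
    0, 1, 0, 0, 0, 0, 0], [0, 1, 0, 0, 0, 0, 0], [0, 1, 0, 0, 0, 0, 0], [0, 1, 0, 0, 0, 0, 0], [
    0, 1, 0, 0, 0, 0, 0], [0, 1, 0, 0, 0, 0, 0], [0, 1, 0, 0, 0, 0, 0], [0, 1, 0, 0, 0, 0, 0], [
    0, 1, 0, 0, 0, 0, 0], [0, 1, 0, 0, 0, 0, 0], [0, 1, 0, 0, 0, 0, 0], [0, 1, 0, 0, 0, 0, 0], [
    0, 1, 0, 0, 0, 0, 0], [1, 0, 0, 0, 0, 0, 0], [1, 0, 0, 0, 0, 0, 0], [1, 0, 0, 0, 0, 0, 0], [
    1, 0, 0, 0, 0, 0, 0], [1, 0, 0, 0, 0, 0, 0], [1, 0, 0, 0, 0, 0, 0], [1, 0, 0, 0, 0, 0, 0], [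
    1, 0, 0, 0, 0, 0, 0], [1, 0, 0, 0, 0, 0, 0], [1, 0, 0, 0, 0, 0, 0], [1, 0, 0, 0, 0, 0, 0], [
    1, 0, 0, 0, 0, 0, 0], [1, 0, 0, 0, 0, 0, 0], [1, 0, 0, 0, 0, 0, 0], [1, 0, 0, 0, 0, 0, 0], [
    1, 0, 0, 0, 0, 0, 0], [1, 0, 0, 0, 0, 0, 0], [1, 0, 0, 0, 0, 0, 0], [1, 0, 0, 0, 0, 0, 0], [
    1, 0, 0, 0, 0, 0, 0], [1, 0, 0, 0, 0, 0, 0], [1, 0, 0, 0, 0, 0, 0], [1, 0, 0, 0, 0, 0, 0], [
    1, 0, 0, 0, 0, 0, 0], [1, 0, 0, 0, 0, 0, 0], [1, 0, 0, 0, 0, 0, 0], [1, 0, 0, 0, 0, 0, 0], [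
    1, 0, 0, 0, 0, 0, 0], [1, 0, 0, 0, 0, 0, 0], [1, 0, 0, 0, 0, 0, 0], [1, 0, 0, 0, 0, 0, 0], [
    1, 0, 0, 0, 0, 0, 0], [0, 0, 0, 0, 0, 0, 1]]

def bezTabE8 : List (List ℤ) :=
  [[], [], [], [], [], [], [], [], [], [], [], [], [], [], [], [], [], [], [], [], [], [], [], [
    ], [], [], [], [], [], [], [], [], [], [], [], [], [], [], [], [], [], [], [], [], [], [], [
    ], [], [], [], [], [], [], [], [], [], [], [], [], [], [], [], [], [], [], [], [], [], [], [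
    ], [], [], [], [], [], [], [], [], [], [], [], [], [], [], [], [], [], [], [], [], [], [], [
    ], [], [], [], [], [], [], [], [], [], [], [], [], [], [], [], [], [], [], [], [], [], [], [
    ], [], [], [], [], [0, 0, 0, 0, 0, 0, 0, 1], [0, 0, 0, 0, 0, 0, 1, 0], [
    0, 0, 0, 0, 0, 0, 1, 0], [0, 0, 0, 0, 0, 1, 0, 0], [0, 0, 0, 0, 0, 1, 0, 0], [
    0, 0, 0, 0, 0, 1, 0, 0], [0, 0, 0, 0, 1, 0, 0, 0], [0, 0, 0, 0, 1, 0, 0, 0], [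
    0, 0, 0, 0, 1, 0, 0, 0], [0, 0, 0, 0, 1, 0, 0, 0], [0, 0, 0, 1, 0, 0, 0, 0], [
    0, 0, 0, 1, 0, 0, 0, 0], [0, 0, 0, 1, 0, 0, 0, 0], [0, 0, 0, 1, 0, 0, 0, 0], [
    0, 0, 0, 1, 0, 0, 0, 0], [0, 0, 1, 0, 0, 0, 0, 0], [0, 0, 1, 0, 0, 0, 0, 0], [
    0, 0, 1, 0, 0, 0, 0, 0], [0, 0, 1, 0, 0, 0, 0, 0], [0, 0, 1, 0, 0, 0, 0, 0], [
    0, 0, 1, 0, 0, 0, 0, 0], [0, 1, 0, 0, 0, 0, 0, 0], [0, 1, 0, 0, 0, 0, 0, 0], [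
    0, 1, 0, 0, 0, 0, 0, 0], [0, 1, 0, 0, 0, 0, 0, 0], [0, 1, 0, 0, 0, 0, 0, 0], [
    0, 1, 0, 0, 0, 0, 0, 0], [0, 1, 0, 0, 0, 0, 0, 0], [0, 1, 0, 0, 0, 0, 0, 0], [
    0, 1, 0, 0, 0, 0, 0, 0], [0, 1, 0, 0, 0, 0, 0, 0], [0, 1, 0, 0, 0, 0, 0, 0], [
    0, 1, 0, 0, 0, 0, 0, 0], [0, 1, 0, 0, 0, 0, 0, 0], [0, 1, 0, 0, 0, 0, 0, 0], [
    0, 1, 0, 0, 0, 0, 0, 0], [0, 1, 0, 0, 0, 0, 0, 0], [0, 1, 0, 0, 0, 0, 0, 0], [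
    0, 1, 0, 0, 0, 0, 0, 0], [0, 1, 0, 0, 0, 0, 0, 0], [0, 1, 0, 0, 0, 0, 0, 0], [
    0, 1, 0, 0, 0, 0, 0, 0], [1, 0, 0, 0, 0, 0, 0, 0], [1, 0, 0, 0, 0, 0, 0, 0], [
    1, 0, 0, 0, 0, 0, 0, 0], [1, 0, 0, 0, 0, 0, 0, 0], [1, 0, 0, 0, 0, 0, 0, 0], [
    1, 0, 0, 0, 0, 0, 0, 0], [1, 0, 0, 0, 0, 0, 0, 0], [1, 0, 0, 0, 0, 0, 0, 0], [
    1, 0, 0, 0, 0, 0, 0, 0], [1, 0, 0, 0, 0, 0, 0, 0], [1, 0, 0, 0, 0, 0, 0, 0], [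
    1, 0, 0, 0, 0, 0, 0, 0], [1, 0, 0, 0, 0, 0, 0, 0], [1, 0, 0, 0, 0, 0, 0, 0], [
    1, 0, 0, 0, 0, 0, 0, 0], [1, 0, 0, 0, 0, 0, 0, 0], [1, 0, 0, 0, 0, 0, 0, 0], [
    1, 0, 0, 0, 0, 0, 0, 0], [1, 0, 0, 0, 0, 0, 0, 0], [1, 0, 0, 0, 0, 0, 0, 0], [
    1, 0, 0, 0, 0, 0, 0, 0], [1, 0, 0, 0, 0, 0, 0, 0], [1, 0, 0, 0, 0, 0, 0, 0], [
    1, 0, 0, 0, 0, 0, 0, 0], [1, 0, 0, 0, 0, 0, 0, 0], [1, 0, 0, 0, 0, 0, 0, 0], [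
    1, 0, 0, 0, 0, 0, 0, 0], [1, 0, 0, 0, 0, 0, 0, 0], [1, 0, 0, 0, 0, 0, 0, 0], [
    1, 0, 0, 0, 0, 0, 0, 0], [1, 0, 0, 0, 0, 0, 0, 0], [1, 0, 0, 0, 0, 0, 0, 0], [
    1, 0, 0, 0, 0, 0, 0, 0], [1, 0, 0, 0, 0, 0, 0, 0], [1, 0, 0, 0, 0, 0, 0, 0], [
    1, 0, 0, 0, 0, 0, 0, 0], [1, 0, 0, 0, 0, 0, 0, 0], [1, 0, 0, 0, 0, 0, 0, 0], [
    1, 0, 0, 0, 0, 0, 0, 0], [1, 0, 0, 0, 0, 0, 0, 0], [1, 0, 0, 0, 0, 0, 0, 0], [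
    1, 0, 0, 0, 0, 0, 0, 0], [1, 0, 0, 0, 0, 0, 0, 0], [1, 0, 0, 0, 0, 0, 0, 0], [
    1, 0, 0, 0, 0, 0, 0, 0], [1, 0, 0, 0, 0, 0, 0, 0], [1, 0, 0, 0, 0, 0, 0, 0], [
    1, 0, 0, 0, 0, 0, 0, 0], [1, 0, 0, 0, 0, 0, 0, 0], [1, 0, 0, 0, 0, 0, 0, 0], [
    1, 0, 0, 0, 0, 0, 0, 0], [1, 0, 0, 0, 0, 0, 0, 0], [1, 0, 0, 0, 0, 0, 0, 0], [
    1, 0, 0, 0, 0, 0, 0, 0], [1, 0, 0, 0, 0, 0, 0, 0], [1, 0, 0, 0, 0, 0, 0, 0], [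
    1, 0, 0, 0, 0, 0, 0, 0], [1, 0, 0, 0, 0, 0, 0, 0], [1, 0, 0, 0, 0, 0, 0, 0], [
    1, 0, 0, 0, 0, 0, 0, 0], [1, 0, 0, 0, 0, 0, 0, 0], [1, 0, 0, 0, 0, 0, 0, 0], [
    1, 0, 0, 0, 0, 0, 0, 0], [1, 0, 0, 0, 0, 0, 0, 0], [0, 0, 0, 0, 0, 0, 1, 0], [
    0, 0, 0, 0, 0, 0, 1, 0], [0, 0, 0, 0, 0, 0, 0, 1], [0, 0, 0, 0, 0, 0, 0, 1], [
    0, 0, 0, 0, 0, 0, 0, 1], [0, 0, 0, 0, 0, 0, 0, 1], [0, 0, 0, 0, 0, 0, 0, 1], [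
    0, 0, 0, 0, 0, 0, 0, 1], [0, 0, 0, 0, 0, 0, 0, 1], [0, 0, 0, 0, 0, 0, 0, 1], [
    0, 0, 0, 0, 0, 0, 0, 1], [0, 0, 0, 0, 0, 0, 0, 1], [0, 0, 0, 0, 0, 0, 0, 1], [
    0, 0, 0, 0, 0, 0, 1, -1]]

set_option maxRecDepth 1000000 in
set_option maxHeartbeats 0 in
theorem bez_of_mem (D : ChevalleyDatum)
    (hD : D ∈ [chevG2, chevB2, chevD4, chevF4, chevE6, chevE7, chevE8]) :
    ∃ tab, bezCheck D tab = true := by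
  simp only [List.mem_cons, List.not_mem_nil, or_false] at hD
  rcases hD with rfl | rfl | rfl | rfl | rfl | rfl | rfl
  · exact ⟨bezTabG2, by decide +kernel⟩
  · exact ⟨bezTabB2, by decide +kernel⟩
  · exact ⟨bezTabD4, by decide +kernel⟩
  · exact ⟨bezTabF4, by decide +kernel⟩
  · exact ⟨bezTabE6, by decide +kernel⟩
  · exact ⟨bezTabE7, by decide +kernel⟩
  · exact ⟨bezTabE8, by decide +kernel⟩

section
variable {F : Type*} [Field F] (D : ChevalleyDatum)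
  (hD : D ∈ [chevG2, chevB2, chevD4, chevF4, chevE6, chevE7, chevE8])

include hD in
/-- the coroot vector of a positive root is non-zero in every characteristic -/
theorem coroot_cancel (m : ℕ) (hm : D.IsPosRoot m) (a b : F)
    (h : ∀ i : Fin D.rank, (((D.coroot.getD m #[]).getD i.val 0 : ℤ) : F) * a =
      (((D.coroot.getD m #[]).getD i.val 0 : ℤ) : F) * b) : a = b := by
  obtain ⟨tab, htab⟩ := bez_of_mem D hD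
  unfold bezCheck at htab
  rw [List.all_eq_true] at htab
  have h1 := htab m (List.mem_range.mpr hm.1)
  simp only [hm, decide_true, Bool.not_true, Bool.false_or, beq_iff_eq] at h1
  have key : ∀ x : F, ((List.range D.rank).map fun i =>
      (((tab.getD m []).getD i 0 : ℤ) : F) * ((((D.coroot.getD m #[]).getD i 0 : ℤ) : F) * x)).sum
        = x := by
    intro x
    have h2 : ((List.range D.rank).map fun i =>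
        (((tab.getD m []).getD i 0 : ℤ) : F) * ((((D.coroot.getD m #[]).getD i 0 : ℤ) : F) * x)).sum
        = (((((List.range D.rank).map fun i =>
          (tab.getD m []).getD i 0 * (D.coroot.getD m #[]).getD i 0).sum : ℤ)) : F) * x := by
      rw [Int.cast_list_sum, List.map_map, ← List.sum_map_mul_right]
      congr 1
      apply List.map_congr_left
      intro i _
      simp only [Function.comp, Int.cast_mul]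
      ring
    rw [h2, h1, Int.cast_one, one_mul]
  rw [← key a, ← key b]
  congr 1
  apply List.map_congr_left
  intro i hi
  rw [h ⟨i, List.mem_range.mp hi⟩]

/-- **uniqueness of the ordered product** over an increasing list of positive roots -/
theorem prodL_inj (t t' : ℕ → F) (l : List ℕ) (hl : l.Pairwise (· < ·))
    (hpos : ∀ r ∈ l, D.IsPosRoot r) (h : prodL D hD t l = prodL D hD t' l) :
    ∀ r ∈ l, t r = t' r := by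
  have hR := rootsOK_of_mem D hD
  induction l with
  | nil => intro r hr; exact absurd hr (by simp)
  | cons m l ih =>
    rw [List.pairwise_cons] at hl
    have hm := hpos m List.mem_cons_self
    have hl' : ∀ r ∈ l, D.IsPosRoot r ∧ m < r := fun r hr =>
      ⟨hpos r (List.mem_cons_of_mem _ hr), hl.1 r hr⟩
    have hcl : D.neg m < D.nroots := hR.neg_lt m hm.1
    have htm : t m = t' m := by
      apply coroot_cancel D hD m hm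
      intro i
      rw [← entry_prodL D hD t m hm ⟨D.neg m, hcl⟩ rfl l hl' i,
        ← entry_prodL D hD t' m hm ⟨D.neg m, hcl⟩ rfl l hl' i, h]
    have h2 : prodL D hD t l = prodL D hD t' l := by
      rw [prodL_cons, prodL_cons, htm] at h
      exact mul_left_cancel h
    intro r hr
    rcases List.mem_cons.mp hr with rfl | hr'
    · exact htm
    · exact ih hl.2 (fun r hr => hpos r (List.mem_cons_of_mem _ hr)) h2 r hr'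

theorem posRoots_pairwise : D.posRoots.Pairwise (· < ·) := by
  unfold ChevalleyDatum.posRoots
  exact List.Pairwise.filter _ List.pairwise_lt_range

theorem mem_posRoots (r : ℕ) : r ∈ D.posRoots ↔ D.IsPosRoot r := by
  unfold ChevalleyDatum.posRoots
  rw [List.mem_filter, List.mem_range, decide_eq_true_eq]
  exact ⟨fun h => h.2, fun h => ⟨h.1, h⟩⟩

end

end Cfsg.Agent.helper5.Chev
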