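import Mathlib
import Cfsg.Agent.Lib_helper5_ChevBN2

set_option autoImplicit false
open Cfsg

/-! Reversed words in the fundamental reflections and reducedness (helper5). -/

namespace Cfsg.Agent.helper5.Chev

open Cfsg.Lie

section
variable (D : ChevalleyDatum)

/-- the action of the reversed word -/
def applyR (v : List ℕ) (r : ℕ) : ℕ := applyW D v.reverse r

theorem applyR_cons (i : ℕ) (v : List ℕ) (r : ℕ) :
    applyR D (i :: v) r = applyR D v (D.reflectRoot i r) := by
  unfold applyR
  rw [List.reverse_cons, applyW_append]
  rfl

/-- reduced (reversed) words -/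
def redRB : List ℕ → Bool
  | [] => true
  | i :: v => redRB v && decide (i < D.rank) && decide (D.IsPosRoot (applyR D v (D.simple i)))

theorem redRB_lt (v : List ℕ) (h : redRB D v = true) : ∀ i ∈ v, i < D.rank := by
  induction v with
  | nil => intro i hi; exact absurd hi (by simp)
  | cons j v ih =>
    simp only [redRB, Bool.and_eq_true, decide_eq_true_eq] at h
    intro i hi
    rcases List.mem_cons.mp hi with rfl | hi
    · exact h.1.2
    · exact ih h.1.1 i hi

end

end Cfsg.Agent.helper5.Chev
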