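import Mathlib
import Cfsg.Agent.Lib_helper5_ChevBruhat2
import Cfsg.Agent.Lib_helper5_ChevUniq2
import Cfsg.Agent.Lib_helper5_ChevRed

set_option autoImplicit false
open Cfsg

/-! Bruhat cells along reduced words and their cardinalities (helper5). -/

namespace Cfsg.Agent.helper5.Chev

open Cfsg.Lie Cfsg.Agent.S1028

/-- table check: for a fundamental root `p` and a positive root `s ≠ p`, the `s`-chain through
`-p` consists of positive roots -/
def negColCheck2 (D : ChevalleyDatum) : Bool :=
  (List.range D.rank).all fun i =>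
    (List.range D.nroots).all fun s =>
      !decide (D.IsPosRoot s) || decide (s = D.simple i) ||
        (D.chain.getD s #[]).toList.all fun e =>
          !decide (e.1 = D.neg (D.simple i)) ||
            e.2.toList.all fun q => decide (D.IsPosRoot q.1)

set_option maxRecDepth 1000000 in
set_option maxHeartbeats 0 in
theorem negColCheck2_all (D : ChevalleyDatum)
    (hD : D ∈ [chevG2, chevB2, chevD4, chevF4, chevE6, chevE7, chevE8]) :
    negColCheck2 D = true := by
  simp only [List.mem_cons, List.not_mem_nil, or_false] at hD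
  rcases hD with rfl | rfl | rfl | rfl | rfl | rfl | rfl <;> decide +kernel

section
variable {F : Type*} [Field F] (D : ChevalleyDatum)
  (hD : D ∈ [chevG2, chevB2, chevD4, chevF4, chevE6, chevE7, chevE8])

include hD in
/-- for a positive root `s ≠ p_i` the matrix `x_s(u)` has the unit column at `e_{-p_i}`, modulo
positive root vectors -/
theorem ColE_xMat_simple (i : ℕ) (hi : i < D.rank) (s : Fin D.nroots) (hs : D.IsPosRoot s.val)
    (hne : s.val ≠ D.simple i) (c : Fin D.nroots) (hc : c.val = D.neg (D.simple i)) (u : F) :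
    ColE D (D.xMat F s u) c := by
  have hR := rootsOK_of_mem D hD
  have hchk := negColCheck2_all D hD
  unfold negColCheck2 at hchk
  rw [List.all_eq_true] at hchk
  have h0 := hchk i (List.mem_range.mpr hi)
  rw [List.all_eq_true] at h0
  have h1 := h0 s.val (List.mem_range.mpr s.2)
  simp only [hs, hne, decide_true, decide_false, Bool.not_true, Bool.false_or, List.all_eq_true,
    Bool.or_eq_true, Bool.not_eq_eq_eq_not, decide_eq_true_eq, Bool.not_eq_true',
    decide_eq_false_iff_not] at h1
  have hm := hR.simple_pos i hi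
  have hcneg : D.IsNegRoot c.val := by rw [hc]; exact hR.neg_pos _ hm
  have hcs : c ≠ s := by
    intro h
    rw [h] at hcneg
    exact hR.not_pos_and_neg _ hs hcneg
  have hcns : ¬ c.val = D.negIdx.getD s.val 0 := by
    intro h
    have h2 : D.neg (D.simple i) = D.neg s.val := by rw [← hc, h]; rfl
    have h3 := congrArg D.neg h2
    rw [hR.neg_neg _ hm.1, hR.neg_neg _ s.2] at h3
    exact hne h3.symm
  intro row hrow
  unfold ChevalleyDatum.xMat
  simp only [Matrix.of_apply]
  rw [if_neg hcs, if_neg hcns]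
  rcases row with j | v
  · dsimp only
    have hne' : (Sum.inl j : D.Idx) ≠ Sum.inr c := by simp
    rw [if_neg hne']
  · dsimp only
    have hv : ¬ D.IsPosRoot v.val := hrow v rfl
    have hsum : ((D.chainCoeff s.val c.val v.val).map
        fun km => ((km.2 : ℤ) : F) * u ^ km.1).sum = 0 := by
      by_cases hnil : D.chainCoeff s.val c.val v.val = []
      · rw [hnil]; rfl
      · exfalso
        obtain ⟨km, hkm⟩ := List.exists_mem_of_ne_nil _ hnil
        obtain ⟨e, he, hes, q, hq, hqu⟩ := chainCoeff_mem D _ _ _ km hkm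
        have h2 := h1 e he
        have h3 : D.IsPosRoot q.1 := by
          rcases h2 with h2 | h2
          · exact absurd (hes.trans hc) h2
          · exact h2 q hq
        rw [hqu] at h3
        exact hv h3
    rw [hsum, add_zero]
    by_cases hvc : v = c
    · rw [if_pos hvc, if_pos (by rw [hvc])]
    · have hne' : (Sum.inr v : D.Idx) ≠ Sum.inr c := fun h' => hvc (Sum.inr.inj h')
      rw [if_neg hvc, if_neg hne']

include hD in
/-- elements of `U_p` have the unit column at `e_{-p}` modulo positive root vectors -/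
theorem ColE_of_mem_Ui (i : ℕ) (hi : i < D.rank) (c : Fin D.nroots)
    (hc : c.val = D.neg (D.simple i)) (g : GL D.Idx F) (hg : g ∈ Ui (F := F) D i) :
    UL D (g : Matrix D.Idx D.Idx F) ∧ ColE D (g : Matrix D.Idx D.Idx F) c := by
  classical
  have hR := rootsOK_of_mem D hD
  have hcnp : ¬ D.IsPosRoot c.val := by
    rw [hc]
    intro h
    exact hR.not_pos_and_neg _ h (hR.neg_pos _ (hR.simple_pos i hi))
  have hcNP : NP D (Sum.inr c) := by
    intro u hu
    rw [← Sum.inr.inj hu]
    exact hcnp
  unfold Ui at hg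
  induction hg using Subgroup.closure_induction with
  | mem x hx =>
    obtain ⟨s, t, hs, hne, hx⟩ := hx
    rw [hx, x_eq_xMat D s hs.1]
    exact ⟨UL_xMat D (triCheck_all D hD) ⟨s, hs.1⟩ hs t,
      ColE_xMat_simple D hD i hi ⟨s, hs.1⟩ hs hne c hc t⟩
  | one =>
    rw [Units.val_one]
    exact ⟨UL_one D, ColE_one D c⟩
  | mul x y _ _ hx hy =>
    rw [Units.val_mul]
    exact ⟨UL_mul D hx.1 hy.1, ColE_mul D hx.1 c hcnp hx.2 hy.2⟩
  | inv x _ hx =>
    have hULi := UL_inv D x hx.1
    refine ⟨hULi, ?_⟩
    intro row hrow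
    have h1 : ((x⁻¹ * x : GL D.Idx F) : Matrix D.Idx D.Idx F) row (Sum.inr c) =
        if row = Sum.inr c then 1 else 0 := by
      rw [inv_mul_cancel, Units.val_one, Matrix.one_apply]
    rw [Units.val_mul, Matrix.mul_apply, Finset.sum_eq_single (Sum.inr c)] at h1
    · rwa [hx.2 _ hcNP, if_pos rfl, mul_one] at h1
    · intro k _ hk
      by_cases hkNP : NP D k
      · rw [hx.2 k hkNP, if_neg hk, mul_zero]
      · unfold NP at hkNP
        push Not at hkNP
        obtain ⟨u, rfl, hu⟩ := hkNP
        rw [UL_zero_of_NP D hULi row hrow u hu, zero_mul]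
    · intro h
      exact absurd (Finset.mem_univ _) h

include hD in
/-- `U_p ∩ X_p = 1` -/
theorem xG_simple_mem_Ui (i : ℕ) (hi : i < D.rank) (a : F)
    (h : xG D hD (D.simple i) a ∈ Ui (F := F) D i) : a = 0 := by
  have hR := rootsOK_of_mem D hD
  have hm := hR.simple_pos i hi
  have hcl : D.neg (D.simple i) < D.nroots := hR.neg_lt _ hm.1
  have hcol := (ColE_of_mem_Ui D hD i hi ⟨_, hcl⟩ rfl _ h).2
  apply coroot_cancel D hD (D.simple i) hm a 0
  intro j
  rw [mul_zero]
  have h1 := entry_prodL D hD (fun _ => a) (D.simple i) hm ⟨_, hcl⟩ rfl [] (by simp) j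
  have e : prodL D hD (fun _ => a) [D.simple i] = xG D hD (D.simple i) a := by
    simp [prodL]
  rw [e] at h1
  rw [← h1]
  have hNPj : NP D (Sum.inl j : D.Idx) := by
    intro u hu
    exact absurd hu (by simp)
  rw [hcol _ hNPj, if_neg (by simp)]

/-- reversed words: `nR v = n_{v.reverse}` -/
def nR (v : List ℕ) : GL D.Idx F := nW D hD v.reverse

theorem nR_cons (i : ℕ) (v : List ℕ) :
    nR D hD (i :: v) = nR D hD v * nGt D hD (D.simple i) (1 : F) := by
  unfold nR
  rw [List.reverse_cons, nW_append]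
  simp [nW]

/-- the cell representatives `S(v) ⊆ U_w⁻` along a reduced word -/
def SR : List ℕ → Set (GL D.Idx F)
  | [] => {1}
  | i :: v => {g | ∃ a ∈ SR v, ∃ t : F,
      g = (nGt D hD (D.simple i) 1)⁻¹ * a * nGt D hD (D.simple i) 1 * xG D hD (D.simple i) t}

include hD in
theorem Uneg_le_Ui (w : List ℕ) (i : ℕ) (hpos : D.IsPosRoot (applyW D w (D.simple i))) :
    Uneg (F := F) D hD w ≤ Ui D i := by
  have hR := rootsOK_of_mem D hD
  unfold Uneg
  rw [Subgroup.closure_le]
  rintro g ⟨r, t, hr, hn, rfl⟩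
  apply xG_mem_Ui D hD i r hr _ t
  intro h
  rw [h] at hn
  exact hR.not_pos_and_neg _ hpos hn

theorem SR_sub_Uneg (v : List ℕ) (h : redRB D v = true) :
    SR (F := F) D hD v ⊆ (Uneg (F := F) D hD v.reverse : Set (GL D.Idx F)) := by
  have hR := rootsOK_of_mem D hD
  induction v with
  | nil =>
    intro g hg
    simp only [SR, Set.mem_singleton_iff] at hg
    rw [hg]
    exact Subgroup.one_mem _
  | cons i v ih =>
    simp only [redRB, Bool.and_eq_true, decide_eq_true_eq] at h
    obtain ⟨⟨hv, hi⟩, hpos⟩ := h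
    have hw' := redRB_lt D v hv
    have hwr : ∀ j ∈ v.reverse, j < D.rank := fun j hj => hw' j (List.mem_reverse.mp hj)
    have hsl := hR.simple_lt i hi
    have happ : ∀ r, applyW D (v.reverse ++ [i]) r = applyW D v.reverse (D.reflectRoot i r) := by
      intro r
      rw [applyW_append]
      rfl
    rintro g ⟨a, ha, t, rfl⟩
    rw [List.reverse_cons]
    apply Subgroup.mul_mem
    · have ha' := ih hv ha
      revert ha'
      generalize a = a'
      have key : ∀ g ∈ Uneg (F := F) D hD v.reverse,
          (nGt D hD (D.simple i) 1)⁻¹ * g * (nGt D hD (D.simple i) 1)⁻¹⁻¹ ∈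
            Uneg (F := F) D hD (v.reverse ++ [i]) := by
        unfold Uneg
        apply conj_closure_le
        rintro g ⟨r, t', hr, hn, rfl⟩
        have hne : r ≠ D.simple i := by
          intro h'
          rw [h'] at hn
          exact hR.not_pos_and_neg _ hpos hn
        rw [inv_inv, nG_conj_inv D hD i hi r hr.1]
        apply Subgroup.subset_closure
        refine ⟨_, _, hR.refl_pos i hi r hr.1 hr hne, ?_, rfl⟩
        rw [happ, hR.refl_refl i hi r hr.1]
        exact hn
      intro ha'
      have := key a' ha'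
      rwa [inv_inv] at this
    · apply xG_mem_Uneg D hD _ _ (hR.simple_pos i hi)
      rw [happ, hR.refl_simple i hi, applyW_neg D hD v.reverse hwr _ hsl]
      exact hR.neg_pos _ hpos

/-- existence of the cell decomposition along a reduced word -/
theorem cell_exists (hC : CommOK D) (hP : PosCommOK D) (v : List ℕ) (h : redRB D v = true) :
    ∀ u ∈ D.posUnipotent F, ∃ b ∈ D.borelSubgroup F, ∃ s ∈ SR (F := F) D hD v,
      nR D hD v * u = b * nR D hD v * s := by
  induction v with
  | nil =>
    intro u hu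
    exact ⟨u, U_le_B D hD hu, 1, by simp [SR], by simp [nR, nW]⟩
  | cons i v ih =>
    simp only [redRB, Bool.and_eq_true, decide_eq_true_eq] at h
    obtain ⟨⟨hv, hi⟩, hpos⟩ := h
    intro u hu
    obtain ⟨a, ha, t, rfl⟩ := mem_U_decomp D hD hC hP i hi u hu
    obtain ⟨ni, hni⟩ : ∃ n, n = nGt D hD (D.simple i) (1 : F) := ⟨_, rfl⟩
    have ha' : ni * a * ni⁻¹ ∈ Ui (F := F) D i := by
      rw [hni]
      exact (Subgroup.mem_normalizer_iff.mp (nG_mem_normalizer_Ui D hD i hi) a).mp ha
    obtain ⟨b, hb, s', hs', e⟩ := ih hv _ (Ui_le_U D i ha')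
    refine ⟨b, hb, ni⁻¹ * s' * ni * xG D hD (D.simple i) t, ⟨s', hs', t, by rw [hni]⟩, ?_⟩
    rw [nR_cons, ← hni]
    have e1 : nR D hD v * ni * (a * xG D hD (D.simple i) t) =
        (nR D hD v * (ni * a * ni⁻¹)) * ni * xG D hD (D.simple i) t := by group
    rw [e1, e]
    group

/-- the cardinality of a cell representative set -/
theorem SR_card [Finite F] (v : List ℕ) (h : redRB D v = true) :
    Nat.card ↥(SR (F := F) D hD v) = Nat.card F ^ v.length := by
  have hR := rootsOK_of_mem D hD
  induction v with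
  | nil =>
    simp only [SR, List.length_nil, pow_zero]
    exact Nat.card_unique
  | cons i v ih =>
    have h' := h
    simp only [redRB, Bool.and_eq_true, decide_eq_true_eq] at h'
    obtain ⟨⟨hv, hi⟩, hpos⟩ := h'
    have hsub : SR (F := F) D hD v ⊆ Ui (F := F) D i := fun g hg =>
      Uneg_le_Ui D hD v.reverse i hpos (SR_sub_Uneg D hD v hv hg)
    obtain ⟨ni, hni⟩ : ∃ n, n = nGt D hD (D.simple i) (1 : F) := ⟨_, rfl⟩
    have hnorm : ∀ g ∈ Ui (F := F) D i, ni⁻¹ * g * ni ∈ Ui (F := F) D i := by
      intro g hg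
      have h1 := nG_mem_normalizer_Ui (F := F) D hD i hi
      rw [← hni] at h1
      have h2 := (Subgroup.mem_normalizer_iff.mp h1 (ni⁻¹ * g * ni)).mpr
      apply h2
      have e : ni * (ni⁻¹ * g * ni) * ni⁻¹ = g := by group
      rw [e]
      exact hg
    let ψ : ↥(SR (F := F) D hD v) × F → ↥(SR (F := F) D hD (i :: v)) := fun p =>
      ⟨ni⁻¹ * p.1.1 * ni * xG D hD (D.simple i) p.2, ⟨p.1.1, p.1.2, p.2, by rw [hni]⟩⟩
    have hinj : Function.Injective ψ := by
      rintro ⟨⟨a, ha⟩, t⟩ ⟨⟨a', ha'⟩, t'⟩ hpp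
      have h1 : ni⁻¹ * a * ni * xG D hD (D.simple i) t =
          ni⁻¹ * a' * ni * xG D hD (D.simple i) t' := congrArg Subtype.val hpp
      have h2 : ni⁻¹ * (a'⁻¹ * a) * ni = xG D hD (D.simple i) (t' - t) := by
        have e1 : ni⁻¹ * (a'⁻¹ * a) * ni =
            (ni⁻¹ * a' * ni)⁻¹ * (ni⁻¹ * a * ni * xG D hD (D.simple i) t) *
              (xG D hD (D.simple i) t)⁻¹ := by group
        rw [e1, h1, xG_inv, sub_eq_add_neg, ← xG_mul]
        group
      have h3 : xG D hD (D.simple i) (t' - t) ∈ Ui (F := F) D i := by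
        rw [← h2]
        exact hnorm _ (Subgroup.mul_mem _ (Subgroup.inv_mem _ (hsub ha')) (hsub ha))
      have h4 := xG_simple_mem_Ui D hD i hi _ h3
      have htt : t = t' := (sub_eq_zero.mp h4).symm
      subst htt
      have h5 : a = a' := by
        have := mul_right_cancel h1
        have h6 := mul_right_cancel this
        exact mul_left_cancel h6
      subst h5
      rfl
    have hsurj : Function.Surjective ψ := by
      rintro ⟨g, a, ha, t, rfl⟩
      exact ⟨(⟨a, ha⟩, t), Subtype.ext (by simp only [ψ]; rw [hni])⟩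
    rw [← Nat.card_eq_of_bijective ψ ⟨hinj, hsurj⟩, Nat.card_prod, ih hv, List.length_cons,
      pow_succ]

end

end Cfsg.Agent.helper5.Chev
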