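import Mathlib
import Cfsg.Agent.Lib_helper5_ChevRed

set_option autoImplicit false
open Cfsg

/-! Weyl group enumeration certificates: definitions (helper5). -/

namespace Cfsg.Agent.helper5.Chev

open Cfsg.Lie

/-- the permutation of the root indices induced by a reversed word, as a list -/
def keyOf (D : ChevalleyDatum) (v : List ℕ) : List ℕ := (List.range D.nroots).map (applyR D v)

/-- the check for the `k`-th entry of a Weyl group enumeration certificate -/
def wenumK (D : ChevalleyDatum) (vs perms nxt : List (List ℕ)) (k : ℕ) : Bool :=
  redRB D (vs.getD k []) && (perms.getD k [] == keyOf D (vs.getD k [])) &&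
    (List.range D.rank).all fun i =>
      decide ((nxt.getD k []).getD i 0 < vs.length) &&
      ((perms.getD k []).map (D.reflectRoot i) == perms.getD ((nxt.getD k []).getD i 0) [])

def wenumRange (D : ChevalleyDatum) (vs perms nxt : List (List ℕ)) (lo n : ℕ) : Bool :=
  (List.range n).all fun k => wenumK D vs perms nxt (lo + k)

/-- a Weyl group enumeration certificate: reduced words `vs`, their permutations `perms`, and the
table `nxt` of left multiplication by the fundamental reflections -/
structure WEnum (D : ChevalleyDatum) (vs perms nxt : List (List ℕ)) : Prop where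
  hlenP : perms.length = vs.length
  h0 : vs.getD 0 [1] = []
  hk : ∀ k < vs.length, wenumK D vs perms nxt k = true
  hnd : perms.Nodup

theorem wenum_of_chunks (D : ChevalleyDatum) (vs perms nxt : List (List ℕ)) (n m : ℕ)
    (hn : 0 < n) (hm : vs.length ≤ m * n)
    (h : ∀ k < m, wenumRange D vs perms nxt (k * n) n = true) :
    ∀ k < vs.length, wenumK D vs perms nxt k = true := by
  refine range_of_chunks (fun k => wenumK D vs perms nxt k = true) vs.length n m hn hm ?_
  intro k hk j hj
  have h3 := h k hk
  unfold wenumRange at h3
  rw [List.all_eq_true] at h3
  exact h3 j (List.mem_range.mpr hj)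

end Cfsg.Agent.helper5.Chev
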