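import Mathlib
import Cfsg.Agent.Lib_helper5_ChevCell
import Cfsg.Agent.Lib_helper5_ChevOrdDefs

set_option autoImplicit false
open Cfsg

/-! The order of a Chevalley group from an enumeration of its Weyl group (helper5). -/

namespace Cfsg.Agent.helper5.Chev

open Cfsg.Lie

section
variable (D : ChevalleyDatum) (vs perms nxt : List (List ℕ)) (hE : WEnum D vs perms nxt)

include hE in
theorem WEnum.red (k : ℕ) (hk : k < vs.length) : redRB D (vs.getD k []) = true := by
  have h := hE.hk k hk
  unfold wenumK at h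
  simp only [Bool.and_eq_true] at h
  exact h.1.1

include hE in
theorem WEnum.perm_eq (k : ℕ) (hk : k < vs.length) (r : ℕ) (hr : r < D.nroots) :
    (perms.getD k []).getD r 0 = applyR D (vs.getD k []) r := by
  have h := hE.hk k hk
  unfold wenumK at h
  simp only [Bool.and_eq_true, beq_iff_eq] at h
  rw [h.1.2]
  unfold keyOf
  rw [List.getD_eq_getElem _ _ (by simpa using hr)]
  simp

include hE in
theorem WEnum.nxt_lt (k : ℕ) (hk : k < vs.length) (i : ℕ) (hi : i < D.rank) :
    (nxt.getD k []).getD i 0 < vs.length := by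
  have h := hE.hk k hk
  unfold wenumK at h
  simp only [Bool.and_eq_true, List.all_eq_true, List.mem_range, decide_eq_true_eq] at h
  exact (h.2 i hi).1

include hE in
theorem WEnum.nxt_perm (k : ℕ) (hk : k < vs.length) (i : ℕ) (hi : i < D.rank) (r : ℕ)
    (hr : r < D.nroots) :
    (perms.getD ((nxt.getD k []).getD i 0) []).getD r 0 =
      D.reflectRoot i ((perms.getD k []).getD r 0) := by
  have h := hE.hk k hk
  unfold wenumK at h
  simp only [Bool.and_eq_true, List.all_eq_true, List.mem_range, decide_eq_true_eq,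
    beq_iff_eq] at h
  rw [← (h.2 i hi).2]
  have hlen : (perms.getD k []).length = D.nroots := by
    rw [h.1.2]
    unfold keyOf
    simp
  have hr1 : r < (perms.getD k []).length := by rw [hlen]; exact hr
  have hr2 : r < ((perms.getD k []).map (D.reflectRoot i)).length := by
    rw [List.length_map]; exact hr1
  rw [List.getD_eq_getElem _ _ hr2, List.getD_eq_getElem _ _ hr1, List.getElem_map]

include hE in
/-- completeness: every word acts as one of the enumerated words -/
theorem WEnum.complete (w : List ℕ) (hw : ∀ i ∈ w, i < D.rank) :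
    ∃ k < vs.length, ∀ r < D.nroots, applyW D w r = applyR D (vs.getD k []) r := by
  induction w with
  | nil =>
    have h0 := hE.h0
    have hlen : 0 < vs.length := by
      by_contra hlen
      have : vs = [] := List.eq_nil_of_length_eq_zero (by omega)
      rw [this] at h0
      simp at h0
    refine ⟨0, hlen, fun r _ => ?_⟩
    have : vs.getD 0 [] = [] := by
      rw [List.getD_eq_getElem _ _ hlen] at h0 ⊢
      exact h0
    rw [this]
    rfl
  | cons i w ih =>
    have hi := hw i List.mem_cons_self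
    obtain ⟨k, hk, hperm⟩ := ih fun j hj => hw j (List.mem_cons_of_mem _ hj)
    refine ⟨_, hE.nxt_lt D vs perms nxt k hk i hi, fun r hr => ?_⟩
    rw [← hE.perm_eq D vs perms nxt _ (hE.nxt_lt D vs perms nxt k hk i hi) r hr,
      hE.nxt_perm D vs perms nxt k hk i hi r hr, hE.perm_eq D vs perms nxt k hk r hr, ← hperm r hr]
    rfl

include hE in
/-- distinctness: enumerated words with the same action coincide -/
theorem WEnum.distinct (k k' : ℕ) (hk : k < vs.length) (hk' : k' < vs.length)
    (h : ∀ r < D.nroots, applyR D (vs.getD k []) r = applyR D (vs.getD k' []) r) : k = k' := by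
  have h1 := hE.hk k hk
  have h2 := hE.hk k' hk'
  unfold wenumK at h1 h2
  simp only [Bool.and_eq_true, beq_iff_eq] at h1 h2
  have h3 : perms.getD k [] = perms.getD k' [] := by
    rw [h1.1.2, h2.1.2]
    unfold keyOf
    apply List.map_congr_left
    intro r hr
    exact h r (List.mem_range.mp hr)
  have hkP : k < perms.length := by rw [hE.hlenP]; exact hk
  have hkP' : k' < perms.length := by rw [hE.hlenP]; exact hk'
  rw [List.getD_eq_getElem _ _ hkP, List.getD_eq_getElem _ _ hkP'] at h3
  exact (List.Nodup.getElem_inj_iff hE.hnd).mp h3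

end

section
variable {F : Type*} [Field F] (D : ChevalleyDatum)
  (hD : D ∈ [chevG2, chevB2, chevD4, chevF4, chevE6, chevE7, chevE8])

/-- words with the same action on the roots give the same element of `N` modulo `H` -/
theorem nW_eq_of_applyW_eq (w w₂ : List ℕ) (hw : ∀ i ∈ w, i < D.rank)
    (hw₂ : ∀ i ∈ w₂, i < D.rank) (h : ∀ s < D.nroots, applyW D w s = applyW D w₂ s) :
    ∃ h ∈ D.diagonalSubgroup F, nW D hD w = h * nW (F := F) D hD w₂ := by
  have hNH := N_le_normalizer_H (F := F) D hD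
  have hwr : ∀ i ∈ w₂.reverse, i < D.rank := fun i hi => hw₂ i (List.mem_reverse.mp hi)
  have hA : nW (F := F) D hD (w ++ w₂.reverse) ∈ D.diagonalSubgroup F := by
    apply nW_mem_H D hD
    · intro i hi
      rcases List.mem_append.mp hi with hi | hi
      · exact hw i hi
      · exact hwr i hi
    · intro s hs
      rw [applyW_append, h _ (applyW_lt D hD _ hwr s hs), applyW_rev D hD w₂ hw₂ s hs]
  have hB : nW (F := F) D hD (w₂.reverse ++ w₂) ∈ D.diagonalSubgroup F := by
    apply nW_mem_H D hD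
    · intro i hi
      rcases List.mem_append.mp hi with hi | hi
      · exact hwr i hi
      · exact hw₂ i hi
    · intro s hs
      rw [applyW_append]
      have := applyW_rev D hD w₂.reverse hwr s hs
      rwa [List.reverse_reverse] at this
  rw [nW_append] at hA hB
  have hB' : nW D hD w₂ * (nW D hD w₂.reverse * nW D hD w₂)⁻¹ * (nW (F := F) D hD w₂)⁻¹ ∈
      D.diagonalSubgroup F :=
    (Subgroup.mem_normalizer_iff.mp (hNH (nW_mem D hD w₂ hw₂)) _).mp (Subgroup.inv_mem _ hB)
  refine ⟨_, Subgroup.mul_mem _ hA hB', ?_⟩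
  group

end

section
variable {F : Type*} [Field F] [Fintype F] (D : ChevalleyDatum)
  (hD : D ∈ [chevG2, chevB2, chevD4, chevF4, chevE6, chevE7, chevE8])

include hD in
/-- **the order formula** `|G| = |B| Σ_w q^{ℓ(w)}` from a Weyl group enumeration -/
theorem chev_card_of_enum (hC : CommOK D) (hP : PosCommOK D) (vs perms nxt : List (List ℕ))
    (hE : WEnum D vs perms nxt) :
    Nat.card ↥(D.group F) = Nat.card ↥(D.borelSubgroup F) *
      ∑ k : Fin vs.length, Nat.card F ^ (vs.getD k.val []).length := by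
  classical
  have hR := rootsOK_of_mem D hD
  have hNH := N_le_normalizer_H (F := F) D hD
  obtain ⟨hB, hN, hsup⟩ := Cfsg.Agent.S1043.result (F := F) D hD
  obtain ⟨P, hPB, hPN, -⟩ := chev_bnpair D hD hC hP (D.group F) hB hN hsup
  have hred : ∀ k : Fin vs.length, redRB D (vs.getD k.val []) = true := fun k =>
    hE.red D vs perms nxt k.val k.2
  have hlt : ∀ k : Fin vs.length, ∀ i ∈ (vs.getD k.val []).reverse, i < D.rank := fun k i hi =>
    redRB_lt D _ (hred k) i (List.mem_reverse.mp hi)
  have hnRN : ∀ k : Fin vs.length, nR (F := F) D hD (vs.getD k.val []) ∈ D.monomialSubgroup F :=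
    fun k => nW_mem D hD _ (hlt k)
  have hSU : ∀ k : Fin vs.length, ∀ s ∈ SR (F := F) D hD (vs.getD k.val []),
      s ∈ UnegOf D (nR (F := F) D hD (vs.getD k.val [])) := fun k s hs =>
    Uneg_le_UnegOf D hD _ (hlt k) (SR_sub_Uneg D hD _ (hred k) hs)
  have hmemG : ∀ (k : Fin vs.length) (b : ↥(D.borelSubgroup F))
      (s : ↥(SR (F := F) D hD (vs.getD k.val []))),
      b.1 * nR D hD (vs.getD k.val []) * s.1 ∈ D.group F := fun k b s =>
    Subgroup.mul_mem _ (Subgroup.mul_mem _ (hB b.2) (hN (hnRN k)))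
      (hB (U_le_B D hD (UnegOf_le_U D _ (hSU k s.1 s.2))))
  let Φ : (Σ k : Fin vs.length, ↥(D.borelSubgroup F) × ↥(SR (F := F) D hD (vs.getD k.val []))) →
      ↥(D.group F) := fun x => ⟨_, hmemG x.1 x.2.1 x.2.2⟩
  have hinj : Function.Injective Φ := by
    rintro ⟨k, b, s⟩ ⟨k', b', s'⟩ hxy
    have e : b.1 * nR D hD (vs.getD k.val []) * s.1 = b'.1 * nR D hD (vs.getD k'.val []) * s'.1 :=
      congrArg Subtype.val hxy
    have hu := unique_form D hD hC hP _ _ _ _ _ _ b.2 b'.2 (hnRN k) (hnRN k')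
      (hSU k s.1 s.2) (hSU k' s'.1 s'.2) e
    have hkk : k = k' := by
      apply Fin.ext
      apply hE.distinct D vs perms nxt k.val k'.val k.2 k'.2
      have hh := hu.1
      have hh2 : nR D hD (vs.getD k.val []) * ((nR D hD (vs.getD k.val []))⁻¹ *
          nR D hD (vs.getD k'.val [])) * (nR (F := F) D hD (vs.getD k.val []))⁻¹ ∈
            D.diagonalSubgroup F :=
        (Subgroup.mem_normalizer_iff.mp (hNH (hnRN k)) _).mp hh
      have e2 : nW (F := F) D hD (vs.getD k'.val []).reverse =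
          (nR D hD (vs.getD k.val []) * ((nR D hD (vs.getD k.val []))⁻¹ *
          nR D hD (vs.getD k'.val [])) * (nR (F := F) D hD (vs.getD k.val []))⁻¹) *
            nW D hD (vs.getD k.val []).reverse := by
        unfold nR
        group
      intro r hr
      exact (applyW_eq_of_eq D hD _ hh2 _ _ (hlt k') (hlt k) e2 r hr).symm
    subst hkk
    obtain ⟨hbb, hss⟩ := hu.2 rfl
    have hb : b = b' := Subtype.ext hbb
    have hs : s = s' := Subtype.ext hss
    rw [hb, hs]
  have hsurj : Function.Surjective Φ := by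
    rintro ⟨g, hg⟩
    obtain ⟨n, hn, hmem⟩ := Cfsg.Agent.S0308.result P ⟨g, hg⟩
    obtain ⟨x, hx, y, hy, e⟩ := DoubleCoset.mem_doubleCoset.mp hmem
    rw [SetLike.mem_coe, hPB, Subgroup.mem_subgroupOf] at hx hy
    rw [hPN, Subgroup.mem_subgroupOf] at hn
    have e' : g = (x : GL D.Idx F) * n * y := by
      have := congrArg Subtype.val e
      simpa using this
    obtain ⟨h, hh, w, hw, hnw⟩ := mem_N_decomp D hD _ hn
    obtain ⟨k, hk, hperm⟩ := hE.complete D vs perms nxt w hw
    obtain ⟨h', hh', hnw'⟩ := nW_eq_of_applyW_eq (F := F) D hD w (vs.getD k []).reverse hw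
      (hlt ⟨k, hk⟩) hperm
    obtain ⟨u₂, hu₂, h₂, hh₂, ey⟩ := mem_borel D hD _ (Subgroup.inv_mem _ hy)
    have ey' : (y : GL D.Idx F) = h₂⁻¹ * u₂⁻¹ := by
      rw [← inv_inv (y : GL D.Idx F), ey, mul_inv_rev]
    obtain ⟨b, hb, s, hs, e2⟩ := cell_exists D hD hC hP _ (hred ⟨k, hk⟩) u₂⁻¹
      (Subgroup.inv_mem _ hu₂)
    have hh3 : nR D hD (vs.getD k []) * h₂⁻¹ * (nR (F := F) D hD (vs.getD k []))⁻¹ ∈
        D.diagonalSubgroup F :=
      (Subgroup.mem_normalizer_iff.mp (hNH (hnRN ⟨k, hk⟩)) _).mp (Subgroup.inv_mem _ hh₂)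
    have hb' : (x : GL D.Idx F) * h * h' * (nR D hD (vs.getD k []) * h₂⁻¹ *
        (nR (F := F) D hD (vs.getD k []))⁻¹) * b ∈ D.borelSubgroup F :=
      Subgroup.mul_mem _ (Subgroup.mul_mem _ (Subgroup.mul_mem _ (Subgroup.mul_mem _ hx
        (H_le_B D hD hh)) (H_le_B D hD hh')) (H_le_B D hD hh3)) hb
    refine ⟨⟨⟨k, hk⟩, ⟨_, hb'⟩, ⟨s, hs⟩⟩, ?_⟩
    apply Subtype.ext
    show (x : GL D.Idx F) * h * h' * (nR D hD (vs.getD k []) * h₂⁻¹ *
        (nR (F := F) D hD (vs.getD k []))⁻¹) * b * nR D hD (vs.getD k []) * s = g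
    rw [e', hnw, ey', hnw']
    have e3 : (x : GL D.Idx F) * (h * (h' * nW D hD (vs.getD k []).reverse)) * (h₂⁻¹ * u₂⁻¹) =
        (x : GL D.Idx F) * h * h' * (nR D hD (vs.getD k []) * h₂⁻¹ *
          (nR (F := F) D hD (vs.getD k []))⁻¹) * (nR D hD (vs.getD k []) * u₂⁻¹) := by
      unfold nR
      group
    rw [e3, e2]
    group
  rw [← Nat.card_eq_of_bijective Φ ⟨hinj, hsurj⟩, Nat.card_sigma, Finset.mul_sum]
  apply Finset.sum_congr rfl
  intro k _
  rw [Nat.card_prod, SR_card D hD _ (hred k)]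

end

end Cfsg.Agent.helper5.Chev
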