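import Mathlib

set_option autoImplicit false

/-! Auxiliary counting lemmas for the order formulas (helper5). -/

namespace Cfsg.Agent.helper5.Chev

theorem sum_fin_getD (l : List (List ℕ)) (g : List ℕ → ℕ) :
    ∑ k : Fin l.length, g (l.getD k.val []) = (l.map g).sum := by
  rw [← List.sum_ofFn]
  congr 1
  apply List.ext_getElem
  · simp
  · intro i h1 h2
    simp only [List.getElem_ofFn, List.getElem_map]
    rw [List.getD_eq_getElem]

theorem sum_pow_eq_count (q : ℕ) (L : List ℕ) (m : ℕ) (h : ∀ x ∈ L, x < m) :
    (L.map fun x => q ^ x).sum =
      (List.zipWith (fun c j => c * q ^ j) ((List.range m).map fun j => L.count j)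
        (List.range m)).sum := by
  have key : ∀ f : ℕ → ℕ, (List.zipWith (fun c j => c * q ^ j) ((List.range m).map f)
      (List.range m)).sum = ((List.range m).map fun j => f j * q ^ j).sum := by
    intro f
    congr 1
    rw [List.zipWith_map_left, List.zipWith_self]
  rw [key]
  induction L with
  | nil => simp
  | cons x L ih =>
    rw [List.map_cons, List.sum_cons, ih fun y hy => h y (List.mem_cons_of_mem _ hy)]
    have hx := h x List.mem_cons_self
    have e : ∀ j, (x :: L).count j = L.count j + if j = x then 1 else 0 := by
      intro j
      rw [List.count_cons]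
      by_cases hjx : j = x
      · subst hjx
        simp
      · have : ¬ x = j := fun h' => hjx h'.symm
        simp [hjx, this]
    simp only [e, add_mul]
    rw [List.sum_map_add]
    have h1 : ((List.range m).map fun j => (if j = x then 1 else 0) * q ^ j).sum = q ^ x := by
      rw [List.sum_map_eq_nsmul_single x]
      · simp [List.count_range, hx]
      · intro j hj _
        rw [if_neg hj, zero_mul]
    rw [h1, add_comm]

/-- the length generating function of a list of words, by counting -/
theorem sum_pow_length_eq (q : ℕ) (ds : List (List ℕ)) (m : ℕ) (cs : List ℕ)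
    (hb : ∀ x ∈ ds.map List.length, x < m)
    (hc : ((List.range m).map fun j => (ds.map List.length).count j) = cs) :
    (ds.map fun d => q ^ d.length).sum =
      (List.zipWith (fun c j => c * q ^ j) cs (List.range m)).sum := by
  have e1 : (ds.map fun v => q ^ v.length) = (ds.map List.length).map fun x => q ^ x := by
    rw [List.map_map]; rfl
  rw [e1, sum_pow_eq_count q _ m hb, hc]

end Cfsg.Agent.helper5.Chev
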