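import Mathlib
import Cfsg.Agent.Lib_helper5_ChevOrd
import Cfsg.Agent.Lib_helper5_ChevSum

set_option autoImplicit false
open Cfsg

/-! Auxiliary counting lemmas for the order formulas (helper5). -/

namespace Cfsg.Agent.helper5.Chev

open Cfsg.Lie

section
variable {F : Type*} [Field F] (D : ChevalleyDatum)
  (hD : D ∈ [chevG2, chevB2, chevD4, chevF4, chevE6, chevE7, chevE8])

include hD in
/-- `|B| = |U| |H|` -/
theorem card_borel : Nat.card ↥(D.borelSubgroup F) =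
    Nat.card ↥(D.posUnipotent F) * Nat.card ↥(D.diagonalSubgroup F) := by
  obtain ⟨-, hUH⟩ := Cfsg.Agent.S1036.result (F := F) D hD
  let ψ : ↥(D.posUnipotent F) × ↥(D.diagonalSubgroup F) → ↥(D.borelSubgroup F) := fun p =>
    ⟨p.1.1 * p.2.1, Subgroup.mul_mem _ (U_le_B D hD p.1.2) (H_le_B D hD p.2.2)⟩
  have hinj : Function.Injective ψ := by
    rintro ⟨⟨u, hu⟩, ⟨h, hh⟩⟩ ⟨⟨u', hu'⟩, ⟨h', hh'⟩⟩ hpp
    have h1 : u * h = u' * h' := congrArg Subtype.val hpp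
    have h2 : u'⁻¹ * u = h' * h⁻¹ := by
      calc u'⁻¹ * u = u'⁻¹ * (u * h) * h⁻¹ := by group
        _ = h' * h⁻¹ := by rw [h1]; group
    have h3 : u'⁻¹ * u ∈ D.posUnipotent F ⊓ D.diagonalSubgroup F :=
      ⟨Subgroup.mul_mem _ (Subgroup.inv_mem _ hu') hu,
        by rw [h2]; exact Subgroup.mul_mem _ hh' (Subgroup.inv_mem _ hh)⟩
    rw [hUH, Subgroup.mem_bot] at h3
    have huu : u = u' := (inv_mul_eq_one.mp h3).symm
    subst huu
    have hhh : h = h' := mul_left_cancel h1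
    subst hhh
    rfl
  have hsurj : Function.Surjective ψ := by
    rintro ⟨b, hb⟩
    obtain ⟨u, hu, h, hh, rfl⟩ := mem_borel D hD b hb
    exact ⟨(⟨u, hu⟩, ⟨h, hh⟩), rfl⟩
  rw [← Nat.card_eq_of_bijective ψ ⟨hinj, hsurj⟩, Nat.card_prod]

end

end Cfsg.Agent.helper5.Chev
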