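import Mathlib
import Cfsg.Agent.Lib_helper5_ChevRed

set_option autoImplicit false
open Cfsg

/-! Parabolic chains of minimal coset representatives in the Weyl group: definitions of the
certificate checkers (helper5). -/

namespace Cfsg.Agent.helper5.Chev

open Cfsg.Lie

/-- byte lookup in a table encoded as a natural number -/
def lkB (T r : ℕ) : ℕ := Nat.land (Nat.shiftRight T (Nat.mul 8 r)) 255

/-- the `c`-th entry of a list, passed to a continuation -/
def withNth {α : Type} (f : α → Bool) : List α → ℕ → Bool
  | [], _ => false
  | x :: _, 0 => f x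
  | _ :: l, c + 1 => withNth f l c

theorem withNth_spec {α : Type} (f : α → Bool) (d : α) :
    ∀ (l : List α) (c : ℕ), withNth f l c = true → c < l.length ∧ f (l.getD c d) = true := by
  intro l
  induction l with
  | nil => intro c h; simp [withNth] at h
  | cons x l ih =>
    intro c h
    cases c with
    | zero => exact ⟨by simp, by simpa [withNth] using h⟩
    | succ c =>
      have := ih c (by simpa [withNth] using h)
      exact ⟨by simpa using this.1, by simpa using this.2⟩

/-- simultaneous check along two lists -/
def all2 {α β : Type} (f : α → β → Bool) : List α → List β → Bool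
  | a :: as, b :: bs => f a b && all2 f as bs
  | [], _ => true
  | _ :: _, [] => false

theorem all2_spec {α β : Type} (f : α → β → Bool) (da : α) (db : β) :
    ∀ (as : List α) (bs : List β), all2 f as bs = true →
      ∀ k < as.length, f (as.getD k da) (bs.getD k db) = true := by
  intro as
  induction as with
  | nil => intro bs _ k hk; simp at hk
  | cons a as ih =>
    intro bs h k hk
    cases bs with
    | nil => simp [all2] at h
    | cons b bs =>
      simp only [all2, Bool.and_eq_true] at h
      cases k with
      | zero => simpa using h.1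
      | succ k =>
        have := ih bs h.2 k (by simpa using hk)
        simpa using this

/-- the chunk `[lo, lo + cnt)` of a simultaneous check -/
def all2R {α β : Type} (f : α → β → Bool) (as : List α) (bs : List β) (lo cnt : ℕ) : Bool :=
  all2 f ((as.drop lo).take cnt) (bs.drop lo)

theorem all2R_spec {α β : Type} (f : α → β → Bool) (da : α) (db : β) (as : List α) (bs : List β)
    (lo cnt : ℕ) (h : all2R f as bs lo cnt = true) (k : ℕ) (h1 : lo ≤ k) (h2 : k < lo + cnt)
    (h3 : k < as.length) : f (as.getD k da) (bs.getD k db) = true := by
  have h4 := all2_spec f da db _ _ h (k - lo) (by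
    rw [List.length_take, List.length_drop]
    omega)
  have e1 : ((as.drop lo).take cnt).getD (k - lo) da = as.getD k da := by
    rw [List.getD_eq_getElem?_getD, List.getD_eq_getElem?_getD, List.getElem?_take,
      if_pos (by omega), List.getElem?_drop]
    congr 2
    omega
  have e2 : (bs.drop lo).getD (k - lo) db = bs.getD k db := by
    rw [List.getD_eq_getElem?_getD, List.getD_eq_getElem?_getD, List.getElem?_drop]
    congr 2
    omega
  rwa [e1, e2] at h4

theorem all2_of_chunks {α β : Type} (f : α → β → Bool) (da : α) (db : β) (as : List α)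
    (bs : List β) (n m : ℕ) (hn : 0 < n) (hm : as.length ≤ m * n)
    (h : ∀ c < m, all2R f as bs (c * n) n = true) :
    ∀ k < as.length, f (as.getD k da) (bs.getD k db) = true := by
  intro k hk
  have hc : k / n < m := by
    apply Nat.div_lt_of_lt_mul
    rw [Nat.mul_comm]
    omega
  have h1 : k / n * n ≤ k := Nat.div_mul_le_self k n
  have h2 : k < k / n * n + n := by
    have e1 := Nat.div_add_mod k n
    have e2 := Nat.mod_lt k hn
    rw [Nat.mul_comm] at e1
    omega
  exact all2R_spec f da db as bs _ _ (h _ hc) k h1 h2 hk

/-! ### reflection tables -/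

def rtabCheck (D : ChevalleyDatum) (T : List ℕ) : Bool :=
  (List.range D.rank).all fun i => (List.range D.nroots).all fun r =>
    lkB (T.getD i 0) r == D.reflectRoot i r

/-- the tables `T` encode the fundamental reflections; `half` is the first positive root -/
structure RTabOK (D : ChevalleyDatum) (T : List ℕ) (n rank half : ℕ) (simp : List ℕ) : Prop where
  hn : n = D.nroots
  hrank : rank = D.rank
  hT : ∀ i < D.rank, ∀ r < D.nroots, lkB (T.getD i 0) r = D.reflectRoot i r
  hpos : ∀ r < D.nroots, (D.IsPosRoot r ↔ half ≤ r)
  hsimp : ∀ i < D.rank, simp.getD i 0 = D.simple i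

def rtabCheckAll (D : ChevalleyDatum) (T : List ℕ) (n rank half : ℕ) (simp : List ℕ) : Bool :=
  decide (n = D.nroots) && decide (rank = D.rank) && rtabCheck D T &&
    ((List.range D.nroots).all fun r => decide (D.IsPosRoot r) == decide (half ≤ r)) &&
    ((List.range D.rank).all fun i => simp.getD i 0 == D.simple i)

theorem rtabOK_of_check (D : ChevalleyDatum) (T : List ℕ) (n rank half : ℕ) (simp : List ℕ)
    (h : rtabCheckAll D T n rank half simp = true) : RTabOK D T n rank half simp := by
  unfold rtabCheckAll rtabCheck at h
  simp only [Bool.and_eq_true, decide_eq_true_eq, List.all_eq_true, List.mem_range, beq_iff_eq,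
    decide_eq_decide] at h
  obtain ⟨⟨⟨⟨h1, h2⟩, h3⟩, h4⟩, h5⟩ := h
  exact ⟨h1, h2, h3, h4, h5⟩

/-- the action of a reversed word, computed with the tables -/
def applyRT (T : List ℕ) (v : List ℕ) (r : ℕ) : ℕ := v.foldl (fun acc i => lkB (T.getD i 0) acc) r

/-- reducedness of a reversed word, computed with the tables -/
def redRT (T : List ℕ) (rank half : ℕ) (simp : List ℕ) : List ℕ → Bool
  | [] => true
  | i :: v => redRT T rank half simp v && Nat.blt i rank &&
      Nat.ble half (applyRT T v (simp.getD i 0))

/-- phase 1: the word `d` has letters in `J'`, is reduced, and `Pa` is its permutation table -/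
def pcChk1 (T : List ℕ) (n rank half : ℕ) (simp J' : List ℕ) (d : List ℕ) (Pa : ℕ) : Bool :=
  (d.all fun i => J'.contains i) && redRT T rank half simp d &&
    (List.range n).all fun r => Nat.beq (lkB Pa r) (applyRT T d r)

/-- phase 2: positivity on `Φ_J⁺` and the closure property, on the permutation tables -/
def pcChk2 (T : List ℕ) (n half N : ℕ) (J' J Phi : List ℕ) (P : List ℕ) (Pa : ℕ)
    (tra : List ℕ) : Bool :=
  (Phi.all fun r => Nat.ble half (lkB Pa r)) &&
    all2 (fun i c =>
      if Nat.blt c N then
        withNth (fun Pc => (List.range n).all fun r =>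
          Nat.beq (lkB (T.getD i 0) (lkB Pa r)) (lkB Pc r)) P c
      else
        J.contains (c - N) && (List.range n).all fun r =>
          Nat.beq (lkB (T.getD i 0) (lkB Pa r)) (lkB Pa (lkB (T.getD (c - N) 0) r))) J' tra

end Cfsg.Agent.helper5.Chev
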