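import Mathlib
import Cfsg.Agent.Lib_helper5_ChevPC
import Cfsg.Agent.Lib_helper5_ChevBN4

set_option autoImplicit false
open Cfsg

/-! Parabolic chains of minimal coset representatives in the Weyl group: soundness of the
certificate checkers (helper5). -/

namespace Cfsg.Agent.helper5.Chev

open Cfsg.Lie

section
variable (D : ChevalleyDatum)
  (hD : D ∈ [chevG2, chevB2, chevD4, chevF4, chevE6, chevE7, chevE8])
  {T : List ℕ} {n rank half : ℕ} {simp : List ℕ} (hT : RTabOK D T n rank half simp)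

theorem applyR_nil (r : ℕ) : applyR D [] r = r := rfl

include hD in
theorem applyR_lt (v : List ℕ) (hv : ∀ i ∈ v, i < D.rank) (r : ℕ) (hr : r < D.nroots) :
    applyR D v r < D.nroots :=
  applyW_lt D hD v.reverse (fun i hi => hv i (List.mem_reverse.mp hi)) r hr

theorem applyR_append (v d : List ℕ) (r : ℕ) :
    applyR D (v ++ d) r = applyR D d (applyR D v r) := by
  unfold applyR
  rw [List.reverse_append, applyW_append]

include hD hT in
theorem applyRT_eq (v : List ℕ) (hv : ∀ i ∈ v, i < D.rank) :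
    ∀ r < D.nroots, applyRT T v r = applyR D v r := by
  have hR := rootsOK_of_mem D hD
  induction v with
  | nil => intro r _; rfl
  | cons i v ih =>
    intro r hr
    have hi := hv i List.mem_cons_self
    have e : applyRT T (i :: v) r = applyRT T v (lkB (T.getD i 0) r) := rfl
    rw [e, hT.hT i hi r hr, applyR_cons,
      ih (fun j hj => hv j (List.mem_cons_of_mem _ hj)) _ (hR.refl_lt i hi r hr)]

include hD hT in
theorem redRB_of_redRT (v : List ℕ) (h : redRT T rank half simp v = true) :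
    redRB D v = true := by
  have hR := rootsOK_of_mem D hD
  induction v with
  | nil => rfl
  | cons i v ih =>
    simp only [redRT, Bool.and_eq_true, Nat.blt_eq, Nat.ble_eq] at h
    obtain ⟨⟨h1, h2⟩, h3⟩ := h
    have hv := ih h1
    have hi : i < D.rank := by rw [← hT.hrank]; exact h2
    have hlt := redRB_lt D v hv
    have hs := hR.simple_lt i hi
    rw [hT.hsimp i hi, applyRT_eq D hD hT v hlt _ hs] at h3
    simp only [redRB, Bool.and_eq_true, decide_eq_true_eq]
    exact ⟨⟨hv, hi⟩, (hT.hpos _ (applyR_lt D hD v hlt _ hs)).mpr h3⟩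

include hD hT in
theorem pcChk1_spec (J' d : List ℕ) (Pa : ℕ)
    (h : pcChk1 T n rank half simp J' d Pa = true) :
    (∀ i ∈ d, i ∈ J') ∧ redRB D d = true ∧ ∀ r < D.nroots, lkB Pa r = applyR D d r := by
  unfold pcChk1 at h
  simp only [Bool.and_eq_true, List.all_eq_true, List.contains_iff_mem, List.mem_range] at h
  obtain ⟨⟨h1, h2⟩, h3⟩ := h
  have hred := redRB_of_redRT D hD hT d h2
  refine ⟨h1, hred, ?_⟩
  intro r hr
  rw [Nat.eq_of_beq_eq_true (h3 r (by rw [hT.hn]; exact hr)),
    applyRT_eq D hD hT d (redRB_lt D d hred) r hr]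

end

/-- the positive roots `Φ_J⁺` of a parabolic subsystem, as a list closed under the reflections -/
structure PhiOK (D : ChevalleyDatum) (J Phi : List ℕ) : Prop where
  jlt : ∀ j ∈ J, j < D.rank
  pos : ∀ r ∈ Phi, D.IsPosRoot r
  simple_mem : ∀ j ∈ J, D.simple j ∈ Phi
  refl_mem : ∀ j ∈ J, ∀ r ∈ Phi, r = D.simple j ∨ D.reflectRoot j r ∈ Phi

def phiChk (T : List ℕ) (n rank half : ℕ) (simp J Phi : List ℕ) : Bool :=
  (Phi.all fun r => Nat.blt r n && Nat.ble half r) &&
  (J.all fun j => Nat.blt j rank && Phi.contains (simp.getD j 0)) &&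
  (J.all fun j => Phi.all fun r => Nat.beq r (simp.getD j 0) || Phi.contains (lkB (T.getD j 0) r))

theorem phiOK_of_check (D : ChevalleyDatum) {T : List ℕ} {n rank half : ℕ} {simp : List ℕ}
    (hT : RTabOK D T n rank half simp) (J Phi : List ℕ)
    (h : phiChk T n rank half simp J Phi = true) : PhiOK D J Phi := by
  unfold phiChk at h
  simp only [Bool.and_eq_true, List.all_eq_true, Nat.blt_eq, Nat.ble_eq, List.contains_iff_mem,
    Bool.or_eq_true] at h
  obtain ⟨⟨h1, h2⟩, h3⟩ := h
  have hlt : ∀ r ∈ Phi, r < D.nroots := fun r hr => by rw [← hT.hn]; exact (h1 r hr).1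
  have hj : ∀ j ∈ J, j < D.rank := fun j hj => by rw [← hT.hrank]; exact (h2 j hj).1
  refine ⟨hj, ?_, ?_, ?_⟩
  · intro r hr
    exact (hT.hpos r (hlt r hr)).mpr (h1 r hr).2
  · intro j hjJ
    rw [← hT.hsimp j (hj j hjJ)]
    exact (h2 j hjJ).2
  · intro j hjJ r hr
    rw [← hT.hsimp j (hj j hjJ), ← hT.hT j (hj j hjJ) r (hlt r hr)]
    rcases h3 j hjJ r hr with h4 | h4
    · exact Or.inl (Nat.eq_of_beq_eq_true h4)
    · exact Or.inr h4

end Cfsg.Agent.helper5.Chev
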