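import Mathlib
import Cfsg.Agent.Lib_helper5_ChevPC2

set_option autoImplicit false
open Cfsg

/-! Parabolic chains of minimal coset representatives in the Weyl group: the induction step
(helper5). -/

namespace Cfsg.Agent.helper5.Chev

open Cfsg.Lie

/-- a family of reduced words representing every element of the parabolic subgroup `W_J`
exactly once -/
structure LevFam (D : ChevalleyDatum) (J : List ℕ) {ι : Type} (v : ι → List ℕ) : Prop where
  jword : ∀ k, ∀ i ∈ v k, i ∈ J
  red : ∀ k, redRB D (v k) = true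
  complete : ∀ w : List ℕ, (∀ i ∈ w, i ∈ J) →
    ∃ k, ∀ r < D.nroots, applyW D w r = applyR D (v k) r
  distinct : ∀ k k', (∀ r < D.nroots, applyR D (v k) r = applyR D (v k') r) → k = k'

/-- certificate for the minimal coset representatives of `W_J` in `W_{J'}` -/
structure LevCert (D : ChevalleyDatum) (J' J Phi : List ℕ) (ds : List (List ℕ)) : Prop where
  sub : ∀ j ∈ J, j ∈ J'
  j'lt : ∀ i ∈ J', i < D.rank
  nil_mem : [] ∈ ds
  letters : ∀ d ∈ ds, ∀ i ∈ d, i ∈ J'
  red : ∀ d ∈ ds, redRB D d = true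
  posJ : ∀ d ∈ ds, ∀ r ∈ Phi, D.IsPosRoot (applyR D d r)
  closure : ∀ d ∈ ds, ∀ i ∈ J',
    (∃ d' ∈ ds, ∀ r < D.nroots, D.reflectRoot i (applyR D d r) = applyR D d' r) ∨
    (∃ j ∈ J, ∀ r < D.nroots, D.reflectRoot i (applyR D d r) = applyR D d (D.reflectRoot j r))
  distinct : ∀ a < ds.length, ∀ a' < ds.length,
    (∀ r < D.nroots, applyR D (ds.getD a []) r = applyR D (ds.getD a' []) r) → a = a'

/-- the family of the next level -/
def stepV {ι : Type} (v : ι → List ℕ) (ds : List (List ℕ)) : Fin ds.length × ι → List ℕ :=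
  fun p => v p.2 ++ ds.getD p.1.val []

theorem levFam_base (D : ChevalleyDatum) : LevFam D [] (fun _ : Unit => ([] : List ℕ)) := by
  refine ⟨fun _ i hi => by simp at hi, fun _ => rfl, ?_, fun _ _ _ => rfl⟩
  intro w hw
  refine ⟨(), ?_⟩
  have : w = [] := by
    cases w with
    | nil => rfl
    | cons i w => exact absurd (hw i List.mem_cons_self) (by simp)
  subst this
  intro r _
  rfl

section
variable (D : ChevalleyDatum)
  (hD : D ∈ [chevG2, chevB2, chevD4, chevF4, chevE6, chevE7, chevE8])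
  (J Phi : List ℕ) (hPhi : PhiOK D J Phi)

/-- `r ∈ Φ_J` -/
def InPhi (r : ℕ) : Prop := r ∈ Phi ∨ (r < D.nroots ∧ D.neg r ∈ Phi)

include hD hPhi in
theorem inPhi_refl (j : ℕ) (hj : j ∈ J) (r : ℕ) (h : InPhi D Phi r) :
    InPhi D Phi (D.reflectRoot j r) := by
  have hR := rootsOK_of_mem D hD
  have hjr := hPhi.jlt j hj
  have hs := hR.simple_lt j hjr
  rcases h with h | ⟨hr, h⟩
  · rcases hPhi.refl_mem j hj r h with e | h2
    · right
      rw [e, hR.refl_simple j hjr, hR.neg_neg _ hs]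
      exact ⟨hR.neg_lt _ hs, hPhi.simple_mem j hj⟩
    · exact Or.inl h2
  · have hnr := hR.neg_lt r hr
    have e0 : D.reflectRoot j r = D.neg (D.reflectRoot j (D.neg r)) := by
      rw [hR.refl_neg j hjr _ hr, hR.neg_neg _ (hR.refl_lt j hjr r hr)]
    rcases hPhi.refl_mem j hj _ h with e | h2
    · left
      rw [e0, e, hR.refl_simple j hjr, hR.neg_neg _ hs]
      exact hPhi.simple_mem j hj
    · right
      refine ⟨hR.refl_lt j hjr r hr, ?_⟩
      rw [e0, hR.neg_neg _ (hR.refl_lt j hjr _ hnr)]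
      exact h2

include hD hPhi in
theorem inPhi_applyR (v : List ℕ) (hv : ∀ i ∈ v, i ∈ J) :
    ∀ r, InPhi D Phi r → InPhi D Phi (applyR D v r) := by
  induction v with
  | nil => intro r h; exact h
  | cons i v ih =>
    intro r h
    rw [applyR_cons]
    exact ih (fun j hj => hv j (List.mem_cons_of_mem _ hj)) _
      (inPhi_refl D hD J Phi hPhi i (hv i List.mem_cons_self) r h)

include hD hPhi in
theorem mem_Phi_of_inPhi_pos (r : ℕ) (h : InPhi D Phi r) (hp : D.IsPosRoot r) : r ∈ Phi := by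
  have hR := rootsOK_of_mem D hD
  rcases h with h | ⟨hr, h⟩
  · exact h
  · exfalso
    have hp2 := hPhi.pos _ h
    rcases hR.pos_or_neg r hr with ⟨_, _, hn⟩ | ⟨_, hnp, _⟩
    · rcases hR.pos_or_neg _ hp2.1 with ⟨_, hnn, _⟩ | ⟨_, hnp, _⟩
      · exact hnn hn
      · exact hnp hp2
    · exact hnp hp

include hD hPhi in
theorem redRB_append (v d : List ℕ) (hv : redRB D v = true) (hvJ : ∀ i ∈ v, i ∈ J)
    (hd : redRB D d = true) (hposJ : ∀ r ∈ Phi, D.IsPosRoot (applyR D d r)) :
    redRB D (v ++ d) = true := by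
  induction v with
  | nil => exact hd
  | cons i v ih =>
    simp only [redRB, Bool.and_eq_true, decide_eq_true_eq] at hv
    obtain ⟨⟨h1, h2⟩, h3⟩ := hv
    have hvJ' : ∀ j ∈ v, j ∈ J := fun j hj => hvJ j (List.mem_cons_of_mem _ hj)
    have hiJ := hvJ i List.mem_cons_self
    rw [List.cons_append]
    simp only [redRB, Bool.and_eq_true, decide_eq_true_eq]
    refine ⟨⟨ih h1 hvJ', h2⟩, ?_⟩
    rw [applyR_append]
    apply hposJ
    exact mem_Phi_of_inPhi_pos D hD J Phi hPhi _
      (inPhi_applyR D hD J Phi hPhi v hvJ' _ (Or.inl (hPhi.simple_mem i hiJ))) h3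

end

end Cfsg.Agent.helper5.Chev
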