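import Mathlib
import Cfsg.Agent.Lib_helper5_ChevPC3

set_option autoImplicit false
open Cfsg

/-! Parabolic chains of minimal coset representatives in the Weyl group: the induction step,
continued (helper5). -/

namespace Cfsg.Agent.helper5.Chev

open Cfsg.Lie

section
variable (D : ChevalleyDatum)
  (hD : D ∈ [chevG2, chevB2, chevD4, chevF4, chevE6, chevE7, chevE8])
  (J' J Phi : List ℕ) (hPhi : PhiOK D J Phi) (ds : List (List ℕ))
  (hC : LevCert D J' J Phi ds) {ι : Type} (v : ι → List ℕ) (hF : LevFam D J v)

include hD hPhi hC hF in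
theorem levFam_step : LevFam D J' (stepV v ds) := by
  have hR := rootsOK_of_mem D hD
  have hdmem : ∀ a : Fin ds.length, ds.getD a.val [] ∈ ds := by
    intro a
    rw [List.getD_eq_getElem _ _ a.2]
    exact List.getElem_mem _
  have hvlt : ∀ k, ∀ i ∈ v k, i < D.rank := fun k i hi => hPhi.jlt i (hF.jword k i hi)
  have hdlt : ∀ d ∈ ds, ∀ i ∈ d, i < D.rank :=
    fun d hd i hi => hC.j'lt i (hC.letters d hd i hi)
  refine ⟨?_, ?_, ?_, ?_⟩
  · rintro ⟨a, k⟩ i hi
    rcases List.mem_append.mp hi with h | h
    · exact hC.sub i (hF.jword k i h)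
    · exact hC.letters _ (hdmem a) i h
  · rintro ⟨a, k⟩
    exact redRB_append D hD J Phi hPhi (v k) _ (hF.red k) (hF.jword k) (hC.red _ (hdmem a))
      (hC.posJ _ (hdmem a))
  · intro w hw
    induction w with
    | nil =>
      obtain ⟨k, hk⟩ := hF.complete [] (by simp)
      obtain ⟨a, ha, e⟩ := List.getElem_of_mem hC.nil_mem
      refine ⟨(⟨a, ha⟩, k), fun r hr => ?_⟩
      show applyW D [] r = applyR D (v k ++ ds.getD a []) r
      rw [List.getD_eq_getElem _ _ ha, e, List.append_nil]
      exact hk r hr
    | cons i w ih =>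
      obtain ⟨⟨a, k⟩, hak⟩ := ih (fun j hj => hw j (List.mem_cons_of_mem _ hj))
      have hi := hw i List.mem_cons_self
      have hak' : ∀ r < D.nroots, applyW D w r =
          applyR D (ds.getD a.val []) (applyR D (v k) r) := by
        intro r hr
        rw [hak r hr]
        show applyR D (v k ++ ds.getD a.val []) r = _
        rw [applyR_append]
      rcases hC.closure _ (hdmem a) i hi with ⟨d', hd', h1⟩ | ⟨j, hj, h1⟩
      · obtain ⟨a', ha', e⟩ := List.getElem_of_mem hd'
        refine ⟨(⟨a', ha'⟩, k), fun r hr => ?_⟩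
        show D.reflectRoot i (applyW D w r) = applyR D (v k ++ ds.getD a' []) r
        rw [hak' r hr, applyR_append, h1 _ (applyR_lt D hD (v k) (hvlt k) r hr),
          List.getD_eq_getElem _ _ ha', e]
      · obtain ⟨k', hk'⟩ := hF.complete (j :: (v k).reverse) (by
          intro x hx
          rcases List.mem_cons.mp hx with rfl | hx
          · exact hj
          · exact hF.jword k x (List.mem_reverse.mp hx))
        refine ⟨(a, k'), fun r hr => ?_⟩
        show D.reflectRoot i (applyW D w r) = applyR D (v k' ++ ds.getD a.val []) r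
        rw [hak' r hr, applyR_append, h1 _ (applyR_lt D hD (v k) (hvlt k) r hr), ← hk' r hr]
        rfl
  · rintro ⟨a, k⟩ ⟨a', k'⟩ h
    have h' : ∀ r < D.nroots, applyR D (ds.getD a.val []) (applyR D (v k) r) =
        applyR D (ds.getD a'.val []) (applyR D (v k') r) := by
      intro r hr
      have := h r hr
      simpa only [stepV, applyR_append] using this
    have hyJ : ∀ i ∈ (v k').reverse ++ v k, i ∈ J := by
      intro i hi
      rcases List.mem_append.mp hi with h1 | h1
      · exact hF.jword k' i (List.mem_reverse.mp h1)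
      · exact hF.jword k i h1
    obtain ⟨k'', hk''⟩ := hF.complete _ hyJ
    have hstar : ∀ r < D.nroots, applyR D (ds.getD a.val []) r =
        applyR D (ds.getD a'.val []) (applyR D (v k'') r) := by
      intro r hr
      have hr' : applyW D (v k) r < D.nroots := applyW_lt D hD (v k) (hvlt k) r hr
      have e1 : applyR D (v k) (applyW D (v k) r) = r := by
        have := applyW_rev D hD (v k).reverse
          (fun i hi => hvlt k i (List.mem_reverse.mp hi)) r hr
        rwa [List.reverse_reverse] at this
      have h2 := h' _ hr'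
      rw [e1] at h2
      rw [h2, ← hk'' r hr, applyW_append]
      rfl
    cases hvk : v k'' with
    | cons i v' =>
      exfalso
      have hredk := hF.red k''
      rw [hvk] at hredk
      simp only [redRB, Bool.and_eq_true, decide_eq_true_eq] at hredk
      obtain ⟨⟨hv'red, hi⟩, hpos⟩ := hredk
      have hjw := hF.jword k''
      rw [hvk] at hjw
      have hiJ : i ∈ J := hjw i List.mem_cons_self
      have hv'J : ∀ x ∈ v', x ∈ J := fun x hx => hjw x (List.mem_cons_of_mem _ hx)
      have hv'lt : ∀ x ∈ v', x < D.rank := fun x hx => hPhi.jlt x (hv'J x hx)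
      have hs0 := hR.simple_lt i hi
      have hβ : applyR D v' (D.simple i) ∈ Phi :=
        mem_Phi_of_inPhi_pos D hD J Phi hPhi _
          (inPhi_applyR D hD J Phi hPhi v' hv'J _ (Or.inl (hPhi.simple_mem i hiJ))) hpos
      have hs := hstar (D.simple i) hs0
      rw [hvk, applyR_cons, hR.refl_simple i hi] at hs
      have e2 : applyR D v' (D.neg (D.simple i)) = D.neg (applyR D v' (D.simple i)) :=
        applyW_neg D hD _ (fun x hx => hv'lt x (List.mem_reverse.mp hx)) _ hs0
      rw [e2] at hs
      have e3 : applyR D (ds.getD a'.val []) (D.neg (applyR D v' (D.simple i))) =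
          D.neg (applyR D (ds.getD a'.val []) (applyR D v' (D.simple i))) :=
        applyW_neg D hD _ (fun x hx => hdlt _ (hdmem a') x (List.mem_reverse.mp hx)) _ hpos.1
      rw [e3] at hs
      have hp1 : D.IsPosRoot (applyR D (ds.getD a.val []) (D.simple i)) :=
        hC.posJ _ (hdmem a) _ (hPhi.simple_mem i hiJ)
      have hp2 : D.IsPosRoot (applyR D (ds.getD a'.val []) (applyR D v' (D.simple i))) :=
        hC.posJ _ (hdmem a') _ hβ
      rcases hR.pos_or_neg _ hp2.1 with ⟨_, _, hn⟩ | ⟨_, hnp, _⟩
      · rw [← hs] at hn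
        rcases hR.pos_or_neg _ hp1.1 with ⟨_, hnn, _⟩ | ⟨_, hnp, _⟩
        · exact hnn hn
        · exact hnp hp1
      · exact hnp hp2
    | nil =>
      rw [hvk] at hstar hk''
      have haa : a.val = a'.val := hC.distinct a a.2 a' a'.2 (fun r hr => hstar r hr)
      have hkk : k = k' := by
        apply hF.distinct
        intro r hr
        have hs : applyR D (v k) r < D.nroots := applyR_lt D hD (v k) (hvlt k) r hr
        have e1 : applyW D (v k) (applyR D (v k) r) = r := applyW_rev D hD (v k) (hvlt k) r hr
        have h3 := hk'' _ hs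
        rw [applyW_append, e1] at h3
        exact h3.symm
      exact Prod.ext (Fin.ext haa) hkk

end

/-- the length generating function of the next level factorises -/
theorem sum_stepV {ι : Type} [Fintype ι] (v : ι → List ℕ) (ds : List (List ℕ)) (q : ℕ) :
    ∑ p : Fin ds.length × ι, q ^ (stepV v ds p).length =
      (ds.map fun d => q ^ d.length).sum * ∑ k : ι, q ^ (v k).length := by
  rw [Fintype.sum_prod_type]
  have e : ∀ a : Fin ds.length, ∑ k : ι, q ^ (stepV v ds (a, k)).length =
      q ^ (ds.getD a.val []).length * ∑ k : ι, q ^ (v k).length := by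
    intro a
    rw [Finset.mul_sum]
    apply Finset.sum_congr rfl
    intro k _
    show q ^ (v k ++ ds.getD a.val []).length = _
    rw [List.length_append, pow_add, mul_comm]
  simp only [e]
  rw [← Finset.sum_mul]
  congr 1
  rw [← List.sum_ofFn]
  congr 1
  apply List.ext_getElem
  · simp
  · intro i h1 h2
    simp only [List.getElem_ofFn, List.getElem_map]
    rw [List.getD_eq_getElem]

end Cfsg.Agent.helper5.Chev
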