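import Mathlib
import Cfsg.Agent.Lib_helper5_ChevPC4

set_option autoImplicit false
open Cfsg

/-! Parabolic chains of minimal coset representatives in the Weyl group: the level certificate
from the checkers (helper5). -/

namespace Cfsg.Agent.helper5.Chev

open Cfsg.Lie

/-- boolean duplicate-freeness -/
def nodupB : List (List ℕ) → Bool
  | [] => true
  | x :: l => !(l.contains x) && nodupB l

theorem nodup_of_nodupB : ∀ l : List (List ℕ), nodupB l = true → l.Nodup := by
  intro l
  induction l with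
  | nil => intro _; exact List.nodup_nil
  | cons x l ih =>
    intro h
    simp only [nodupB, Bool.and_eq_true, Bool.not_eq_true', List.contains_eq_mem,
      decide_eq_false_iff_not] at h
    exact List.nodup_cons.mpr ⟨h.1, ih h.2⟩

/-- the permutation tables are pairwise different on the probe roots -/
def keysChk (n : ℕ) (simp P : List ℕ) : Bool :=
  (simp.all fun s => Nat.blt s n) && nodupB (P.map fun Pa => simp.map (lkB Pa))

theorem keysChk_spec (n : ℕ) (simp P : List ℕ) (h : keysChk n simp P = true) :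
    ∀ a < P.length, ∀ a' < P.length,
      (∀ r < n, lkB (P.getD a 0) r = lkB (P.getD a' 0) r) → a = a' := by
  unfold keysChk at h
  simp only [Bool.and_eq_true, List.all_eq_true, Nat.blt_eq] at h
  obtain ⟨h1, h2⟩ := h
  have hnd := nodup_of_nodupB _ h2
  intro a ha a' ha' heq
  have ha2 : a < (P.map fun Pa => simp.map (lkB Pa)).length := by simpa using ha
  have ha2' : a' < (P.map fun Pa => simp.map (lkB Pa)).length := by simpa using ha'
  apply (List.Nodup.getElem_inj_iff hnd (hi := ha2) (hj := ha2')).mp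
  rw [List.getElem_map, List.getElem_map]
  apply List.map_congr_left
  intro s hs
  have := heq s (h1 s hs)
  rwa [List.getD_eq_getElem _ _ ha, List.getD_eq_getElem _ _ ha'] at this

section
variable (D : ChevalleyDatum)
  (hD : D ∈ [chevG2, chevB2, chevD4, chevF4, chevE6, chevE7, chevE8])
  {T : List ℕ} {n rank half : ℕ} {simp : List ℕ} (hT : RTabOK D T n rank half simp)

include hD hT in
theorem pcChk2_spec (N : ℕ) (J' J Phi : List ℕ) (ds : List (List ℕ)) (P : List ℕ)
    (hP : ∀ a < N, ∀ r < D.nroots, lkB (P.getD a 0) r = applyR D (ds.getD a []) r)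
    (hdlt : ∀ a < N, ∀ i ∈ ds.getD a [], i < D.rank)
    (hJ'lt : ∀ i ∈ J', i < D.rank) (hJlt : ∀ j ∈ J, j < D.rank)
    (hPhilt : ∀ r ∈ Phi, r < D.nroots)
    (a : ℕ) (ha : a < N) (tra : List ℕ)
    (h : pcChk2 T n half N J' J Phi P (P.getD a 0) tra = true) :
    (∀ r ∈ Phi, D.IsPosRoot (applyR D (ds.getD a []) r)) ∧
    ∀ i ∈ J',
      (∃ c < N, ∀ r < D.nroots,
        D.reflectRoot i (applyR D (ds.getD a []) r) = applyR D (ds.getD c []) r) ∨
      (∃ j ∈ J, ∀ r < D.nroots,
        D.reflectRoot i (applyR D (ds.getD a []) r) =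
          applyR D (ds.getD a []) (D.reflectRoot j r)) := by
  have hR := rootsOK_of_mem D hD
  unfold pcChk2 at h
  simp only [Bool.and_eq_true, List.all_eq_true, Nat.ble_eq] at h
  obtain ⟨h1, h2⟩ := h
  have hlt : ∀ r < D.nroots, applyR D (ds.getD a []) r < D.nroots :=
    fun r hr => applyR_lt D hD _ (hdlt a ha) r hr
  refine ⟨?_, ?_⟩
  · intro r hr
    have h3 := h1 r hr
    rw [hP a ha r (hPhilt r hr)] at h3
    exact (hT.hpos _ (hlt r (hPhilt r hr))).mpr h3
  · intro i hi
    obtain ⟨k, hk, e⟩ := List.getElem_of_mem hi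
    have h3 := all2_spec _ 0 0 _ _ h2 k hk
    rw [List.getD_eq_getElem _ _ hk, e] at h3
    have hir := hJ'lt i hi
    have key : ∀ r < D.nroots, D.reflectRoot i (applyR D (ds.getD a []) r) =
        lkB (T.getD i 0) (lkB (P.getD a 0) r) := by
      intro r hr
      rw [hP a ha r hr, hT.hT i hir _ (hlt r hr)]
    by_cases hc : Nat.blt (tra.getD k 0) N = true
    · rw [if_pos hc] at h3
      obtain ⟨-, h4⟩ := withNth_spec _ 0 _ _ h3
      simp only [List.all_eq_true, List.mem_range] at h4
      have hcN : tra.getD k 0 < N := by simpa using hc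
      left
      refine ⟨_, hcN, fun r hr => ?_⟩
      rw [key r hr, Nat.eq_of_beq_eq_true (h4 r (by rw [hT.hn]; exact hr)), hP _ hcN r hr]
    · rw [if_neg hc] at h3
      simp only [Bool.and_eq_true, List.contains_iff_mem, List.all_eq_true, List.mem_range] at h3
      obtain ⟨hj, h4⟩ := h3
      right
      refine ⟨_, hj, fun r hr => ?_⟩
      have hjr := hJlt _ hj
      rw [key r hr, Nat.eq_of_beq_eq_true (h4 r (by rw [hT.hn]; exact hr)),
        hT.hT _ hjr r hr, hP a ha _ (hR.refl_lt _ hjr r hr)]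

include hD hT in
/-- the level certificate from the two phases of checks -/
theorem levCert_of_checks (J' J Phi : List ℕ) (ds : List (List ℕ)) (P : List ℕ)
    (tr : List (List ℕ)) (N : ℕ) (hPhi : PhiOK D J Phi)
    (hsub : (J.all fun j => J'.contains j) = true)
    (hJ'lt : (J'.all fun i => Nat.blt i rank) = true)
    (hnil : ds.contains [] = true)
    (hNds : ds.length = N) (hNP : P.length = N)
    (h1 : ∀ a < ds.length, pcChk1 T n rank half simp J' (ds.getD a []) (P.getD a 0) = true)
    (h2 : ∀ a < P.length, pcChk2 T n half N J' J Phi P (P.getD a 0) (tr.getD a []) = true)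
    (hkeys : keysChk n simp P = true) : LevCert D J' J Phi ds := by
  simp only [List.all_eq_true, List.contains_iff_mem, Nat.blt_eq] at hsub hJ'lt
  have hJ'lt' : ∀ i ∈ J', i < D.rank := fun i hi => by rw [← hT.hrank]; exact hJ'lt i hi
  have hs1 : ∀ a < N, (∀ i ∈ ds.getD a [], i ∈ J') ∧ redRB D (ds.getD a []) = true ∧
      ∀ r < D.nroots, lkB (P.getD a 0) r = applyR D (ds.getD a []) r :=
    fun a ha => pcChk1_spec D hD hT J' _ _ (h1 a (by rw [hNds]; exact ha))
  have hdlt : ∀ a < N, ∀ i ∈ ds.getD a [], i < D.rank :=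
    fun a ha => redRB_lt D _ (hs1 a ha).2.1
  have hs2 := fun a (ha : a < N) => pcChk2_spec D hD hT N J' J Phi ds P
    (fun a ha => (hs1 a ha).2.2) hdlt hJ'lt' hPhi.jlt (fun r hr => (hPhi.pos r hr).1) a ha _
    (h2 a (by rw [hNP]; exact ha))
  have hidx : ∀ d ∈ ds, ∃ a < N, ds.getD a [] = d := by
    intro d hd
    obtain ⟨a, ha, e⟩ := List.getElem_of_mem hd
    exact ⟨a, by rw [← hNds]; exact ha, by rw [List.getD_eq_getElem _ _ ha, e]⟩
  have hmem : ∀ a < N, ds.getD a [] ∈ ds := by
    intro a ha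
    rw [List.getD_eq_getElem _ _ (by rw [hNds]; exact ha)]
    exact List.getElem_mem _
  refine ⟨hsub, hJ'lt', by simpa using hnil, ?_, ?_, ?_, ?_, ?_⟩
  · intro d hd
    obtain ⟨a, ha, rfl⟩ := hidx d hd
    exact (hs1 a ha).1
  · intro d hd
    obtain ⟨a, ha, rfl⟩ := hidx d hd
    exact (hs1 a ha).2.1
  · intro d hd
    obtain ⟨a, ha, rfl⟩ := hidx d hd
    exact (hs2 a ha).1
  · intro d hd i hi
    obtain ⟨a, ha, rfl⟩ := hidx d hd
    rcases (hs2 a ha).2 i hi with ⟨c, hc, h3⟩ | h3
    · exact Or.inl ⟨_, hmem c hc, h3⟩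
    · exact Or.inr h3
  · intro a ha a' ha' heq
    rw [hNds] at ha ha'
    apply keysChk_spec n simp P hkeys a (by rw [hNP]; exact ha) a' (by rw [hNP]; exact ha')
    intro r hr
    rw [hT.hn] at hr
    rw [(hs1 a ha).2.2 r hr, (hs1 a' ha').2.2 r hr]
    exact heq r hr

end

end Cfsg.Agent.helper5.Chev
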