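import Mathlib

set_option autoImplicit false

/-! A verified coset-table (Todd–Coxeter) certificate checker for groups generated by involutions
(helper5). -/

namespace Cfsg.Agent.helper5.TC

/-- entry of a table -/
def tget (t : List (List ℕ)) (a i : ℕ) : ℕ := (t.getD a []).getD i 0

/-- the end of a walk in the coset table -/
def walkEnd (tab : List (List ℕ)) : ℕ → List ℕ → ℕ
  | cur, [] => cur
  | cur, i :: w => walkEnd tab (tget tab cur i) w

/-- all edges of a walk are table entries of rank `< ρ` -/
def walkOK (tab rk : List (List ℕ)) (N : ℕ) (J' : List ℕ) (ρ : ℕ) : ℕ → List ℕ → Bool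
  | _, [] => true
  | cur, i :: w => Nat.blt cur N && J'.contains i && Nat.blt (tget rk cur i) ρ &&
      walkOK tab rk N J' ρ (tget tab cur i) w

/-- the relator word `(i j)^m` -/
def relWord (i j m : ℕ) : List ℕ := (List.replicate m [i, j]).flatten

/-- the justification of a table entry -/
def justOK (mt tab rk : List (List ℕ)) (N : ℕ) (J' : List ℕ) (ds : List (List ℕ)) (J : List ℕ)
    (a i : ℕ) (jl : List ℕ) : Bool :=
  match jl with
  | [0] => ds.getD (tget tab a i) [] == ds.getD a [] ++ [i]
  | [1] => ds.getD a [] == ds.getD (tget tab a i) [] ++ [i]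
  | [2] => a == 0 && tget tab a i == 0 && J.contains i
  | [4] => tget tab (tget tab a i) i == a && Nat.blt (tget rk (tget tab a i) i) (tget rk a i)
  | [3, x, y, a0, p] =>
      ((relWord x y (tget mt x y))[p]? == some i) &&
      walkOK tab rk N J' (tget rk a i) a0 ((relWord x y (tget mt x y)).take p) &&
      (walkEnd tab a0 ((relWord x y (tget mt x y)).take p) == a) &&
      walkOK tab rk N J' (tget rk a i) (tget tab a i) ((relWord x y (tget mt x y)).drop (p + 1)) &&
      (walkEnd tab (tget tab a i) ((relWord x y (tget mt x y)).drop (p + 1)) == a0)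
  | _ => false

/-- the check of row `a` of the table -/
def rowOK (mt tab rk : List (List ℕ)) (N : ℕ) (J' : List ℕ) (ds : List (List ℕ)) (J : List ℕ)
    (js : List (List (List ℕ))) (a : ℕ) : Bool :=
  J'.all fun i => Nat.blt (tget tab a i) N &&
    justOK mt tab rk N J' ds J a i ((js.getD a []).getD i [])

section
variable {G : Type*} [Group G] (s : ℕ → G)

/-- product of a word in the generators -/
def wprod (w : List ℕ) : G := (w.map s).prod

theorem wprod_nil : wprod s [] = 1 := rfl

theorem wprod_cons (i : ℕ) (w : List ℕ) : wprod s (i :: w) = s i * wprod s w := by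
  simp [wprod]

theorem wprod_append (w w' : List ℕ) : wprod s (w ++ w') = wprod s w * wprod s w' := by
  simp [wprod]

theorem wprod_relWord (i j m : ℕ) : wprod s (relWord i j m) = (s i * s j) ^ m := by
  induction m with
  | zero => simp [relWord, wprod]
  | succ m ih =>
    have e : relWord i j (m + 1) = [i, j] ++ relWord i j m := by
      unfold relWord
      rw [List.replicate_succ, List.flatten_cons]
    rw [e, wprod_append, ih, pow_succ']
    simp [wprod, mul_assoc]

variable (mt tab rk : List (List ℕ)) (N : ℕ) (J' : List ℕ) (ds : List (List ℕ)) (J : List ℕ)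
  (js : List (List (List ℕ))) (H : Subgroup G)

theorem walk_mem (ρ : ℕ)
    (hgood : ∀ a < N, ∀ i ∈ J', tget rk a i < ρ →
      wprod s (ds.getD a []) * s i * (wprod s (ds.getD (tget tab a i) []))⁻¹ ∈ H) :
    ∀ (w : List ℕ) (cur : ℕ), walkOK tab rk N J' ρ cur w = true →
      wprod s (ds.getD cur []) * wprod s w *
        (wprod s (ds.getD (walkEnd tab cur w) []))⁻¹ ∈ H := by
  intro w
  induction w with
  | nil =>
    intro cur _
    simp only [walkEnd, wprod_nil, mul_one, mul_inv_cancel]
    exact H.one_mem
  | cons i w ih =>
    intro cur h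
    simp only [walkOK, Bool.and_eq_true, Nat.blt_eq, List.contains_iff_mem] at h
    obtain ⟨⟨⟨h1, h2⟩, h3⟩, h4⟩ := h
    have hA := hgood cur h1 i h2 h3
    have hB := ih _ h4
    have e : wprod s (ds.getD cur []) * wprod s (i :: w) *
        (wprod s (ds.getD (walkEnd tab cur (i :: w)) []))⁻¹ =
        (wprod s (ds.getD cur []) * s i * (wprod s (ds.getD (tget tab cur i) []))⁻¹) *
        (wprod s (ds.getD (tget tab cur i) []) * wprod s w *
          (wprod s (ds.getD (walkEnd tab (tget tab cur i) w) []))⁻¹) := by
      rw [wprod_cons]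
      simp only [walkEnd]
      group
    rw [e]
    exact H.mul_mem hA hB

include J js in
/-- soundness of the table certificate -/
theorem table_sound (hinv : ∀ i, s i * s i = 1)
    (hrel : ∀ x y, (s x * s y) ^ (tget mt x y) = 1)
    (hJ : ∀ j ∈ J, s j ∈ H) (h0 : ds.getD 0 [] = [])
    (hchk : ∀ a < N, rowOK mt tab rk N J' ds J js a = true) :
    ∀ a < N, ∀ i ∈ J', tget tab a i < N ∧
      wprod s (ds.getD a []) * s i * (wprod s (ds.getD (tget tab a i) []))⁻¹ ∈ H := by
  have hsi : ∀ i, (s i)⁻¹ = s i := fun i => inv_eq_of_mul_eq_one_right (hinv i)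
  have hrow : ∀ a < N, ∀ i ∈ J', tget tab a i < N ∧
      justOK mt tab rk N J' ds J a i ((js.getD a []).getD i []) = true := by
    intro a ha i hi
    have := hchk a ha
    unfold rowOK at this
    simp only [List.all_eq_true, Bool.and_eq_true, Nat.blt_eq] at this
    exact this i hi
  have key : ∀ ρ, ∀ a < N, ∀ i ∈ J', tget rk a i = ρ →
      wprod s (ds.getD a []) * s i * (wprod s (ds.getD (tget tab a i) []))⁻¹ ∈ H := by
    intro ρ
    induction ρ using Nat.strong_induction_on with
    | _ ρ ih =>
      intro a ha i hi hρ
      have hgood : ∀ a' < N, ∀ i' ∈ J', tget rk a' i' < ρ →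
          wprod s (ds.getD a' []) * s i' * (wprod s (ds.getD (tget tab a' i') []))⁻¹ ∈ H :=
        fun a' ha' i' hi' hlt => ih _ hlt a' ha' i' hi' rfl
      obtain ⟨hb, hj⟩ := hrow a ha i hi
      generalize (js.getD a []).getD i [] = jl at hj
      unfold justOK at hj
      split at hj
      · -- tree edge forward
        rw [beq_iff_eq] at hj
        rw [hj, wprod_append]
        simp only [wprod, List.map_cons, List.map_nil, List.prod_cons, List.prod_nil, mul_one]
        rw [mul_inv_cancel]
        exact H.one_mem
      · -- tree edge backward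
        rw [beq_iff_eq] at hj
        rw [hj, wprod_append]
        simp only [wprod, List.map_cons, List.map_nil, List.prod_cons, List.prod_nil, mul_one]
        rw [mul_assoc, mul_assoc, ← mul_assoc (s i), hinv i, one_mul, mul_inv_cancel]
        exact H.one_mem
      · -- subgroup generator at the base coset
        simp only [Bool.and_eq_true, beq_iff_eq, List.contains_iff_mem] at hj
        obtain ⟨⟨ha0, hb0⟩, hiJ⟩ := hj
        rw [hb0, ha0, h0]
        simp only [wprod_nil, one_mul, inv_one, mul_one]
        exact hJ i hiJ
      · -- the reverse of an earlier entry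
        simp only [Bool.and_eq_true, beq_iff_eq, Nat.blt_eq] at hj
        obtain ⟨hba, hlt⟩ := hj
        rw [hρ] at hlt
        have h1 := hgood _ hb i hi hlt
        rw [hba] at h1
        have h2 := H.inv_mem h1
        have e : (wprod s (ds.getD (tget tab a i) []) * s i * (wprod s (ds.getD a []))⁻¹)⁻¹ =
            wprod s (ds.getD a []) * s i * (wprod s (ds.getD (tget tab a i) []))⁻¹ := by
          rw [mul_inv_rev, mul_inv_rev, inv_inv, hsi i, mul_assoc]
        rwa [e] at h2
      · -- a relator scan
        rename_i x y a0 p
        simp only [Bool.and_eq_true, beq_iff_eq] at hj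
        obtain ⟨⟨⟨⟨hp, hw1⟩, he1⟩, hw2⟩, he2⟩ := hj
        rw [hρ] at hw1 hw2
        have hA := walk_mem s tab rk N J' ds H ρ hgood _ _ hw1
        have hB := walk_mem s tab rk N J' ds H ρ hgood _ _ hw2
        rw [he1] at hA
        rw [he2] at hB
        obtain ⟨hplt, hpi⟩ := List.getElem?_eq_some_iff.mp hp
        have hsplit : relWord x y (tget mt x y) =
            (relWord x y (tget mt x y)).take p ++ i :: (relWord x y (tget mt x y)).drop (p + 1) := by
          rw [← hpi, List.getElem_cons_drop, List.take_append_drop]
        have hone : wprod s ((relWord x y (tget mt x y)).take p) * s i *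
            wprod s ((relWord x y (tget mt x y)).drop (p + 1)) = 1 := by
          rw [mul_assoc, ← wprod_cons, ← wprod_append, ← hsplit, wprod_relWord, hrel]
        have hsi' : s i = (wprod s ((relWord x y (tget mt x y)).take p))⁻¹ *
            (wprod s ((relWord x y (tget mt x y)).drop (p + 1)))⁻¹ := by
          have h3 := hone
          rw [mul_assoc, mul_eq_one_iff_eq_inv'] at h3
          rw [mul_eq_one_iff_eq_inv] at hone
          calc s i = (wprod s ((relWord x y (tget mt x y)).take p))⁻¹ *
              (wprod s ((relWord x y (tget mt x y)).take p) * s i) := by group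
            _ = _ := by rw [hone]
        have e : wprod s (ds.getD a []) * s i * (wprod s (ds.getD (tget tab a i) []))⁻¹ =
            (wprod s (ds.getD a0 []) * wprod s ((relWord x y (tget mt x y)).take p) *
              (wprod s (ds.getD a []))⁻¹)⁻¹ *
            (wprod s (ds.getD (tget tab a i) []) *
              wprod s ((relWord x y (tget mt x y)).drop (p + 1)) *
              (wprod s (ds.getD a0 []))⁻¹)⁻¹ := by
          rw [hsi']
          group
        rw [e]
        exact H.mul_mem (H.inv_mem hA) (H.inv_mem hB)
      · exact absurd hj (by simp)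
  intro a ha i hi
  exact ⟨(hrow a ha i hi).1, key _ a ha i hi rfl⟩

end

end Cfsg.Agent.helper5.TC
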