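import Mathlib
import Cfsg.Agent.Lib_helper5_TC

set_option autoImplicit false

/-! Coset tables bound the index of a subgroup generated by involutions (helper5). -/

namespace Cfsg.Agent.helper5.TC

section
variable {G : Type*} [Group G] (s : ℕ → G)

/-- the set of generators with labels in a list -/
def gset (J : List ℕ) : Set G := {x | ∃ i ∈ J, x = s i}

variable (tab : List (List ℕ)) (N : ℕ) (J' : List ℕ) (ds : List (List ℕ)) (H : Subgroup G)

theorem closure_cosets (hinv : ∀ i, s i * s i = 1) (h0 : ds.getD 0 [] = []) (hN : 0 < N)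
    (hall : ∀ a < N, ∀ i ∈ J', tget tab a i < N ∧
      wprod s (ds.getD a []) * s i * (wprod s (ds.getD (tget tab a i) []))⁻¹ ∈ H) :
    ∀ g ∈ Subgroup.closure (gset s J'), ∃ a < N, g * (wprod s (ds.getD a []))⁻¹ ∈ H := by
  have hsi : ∀ i, (s i)⁻¹ = s i := fun i => inv_eq_of_mul_eq_one_right (hinv i)
  have step : ∀ g : G, (∃ a < N, g * (wprod s (ds.getD a []))⁻¹ ∈ H) → ∀ i ∈ J',
      ∃ a < N, g * s i * (wprod s (ds.getD a []))⁻¹ ∈ H := by
    rintro g ⟨a, ha, hg⟩ i hi
    obtain ⟨hb, hE⟩ := hall a ha i hi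
    refine ⟨_, hb, ?_⟩
    have e : g * s i * (wprod s (ds.getD (tget tab a i) []))⁻¹ =
        (g * (wprod s (ds.getD a []))⁻¹) *
          (wprod s (ds.getD a []) * s i * (wprod s (ds.getD (tget tab a i) []))⁻¹) := by group
    rw [e]
    exact H.mul_mem hg hE
  intro g hg
  induction hg using Subgroup.closure_induction_right with
  | one =>
    refine ⟨0, hN, ?_⟩
    rw [h0, wprod_nil, inv_one, mul_one]
    exact H.one_mem
  | mul_right x hx y hy ih =>
    obtain ⟨i, hi, rfl⟩ := hy
    exact step x ih i hi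
  | mul_inv_cancel x hx y hy ih =>
    obtain ⟨i, hi, rfl⟩ := hy
    rw [hsi i]
    exact step x ih i hi

theorem card_closure_le [Finite H] (hinv : ∀ i, s i * s i = 1) (h0 : ds.getD 0 [] = [])
    (hN : 0 < N)
    (hall : ∀ a < N, ∀ i ∈ J', tget tab a i < N ∧
      wprod s (ds.getD a []) * s i * (wprod s (ds.getD (tget tab a i) []))⁻¹ ∈ H) :
    Finite (Subgroup.closure (gset s J')) ∧
      Nat.card (Subgroup.closure (gset s J')) ≤ N * Nat.card H := by
  classical
  have key := closure_cosets s tab N J' ds H hinv h0 hN hall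
  choose f hf1 hf2 using key
  let φ : Subgroup.closure (gset s J') → Fin N × H := fun g =>
    (⟨f g.1 g.2, hf1 g.1 g.2⟩, ⟨_, hf2 g.1 g.2⟩)
  have hφ : Function.Injective φ := by
    intro g g' h
    have h1 : f g.1 g.2 = f g'.1 g'.2 := congrArg (fun p => p.1.val) h
    have h2 : g.1 * (wprod s (ds.getD (f g.1 g.2) []))⁻¹ =
        g'.1 * (wprod s (ds.getD (f g'.1 g'.2) []))⁻¹ := congrArg (fun p => p.2.val) h
    rw [h1] at h2
    exact Subtype.ext (mul_right_cancel h2)
  have hfin : Finite (Subgroup.closure (gset s J')) := Finite.of_injective φ hφ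
  refine ⟨hfin, ?_⟩
  have := Nat.card_le_card_of_injective φ hφ
  rwa [Nat.card_prod, Nat.card_fin] at this

theorem gset_nil : Subgroup.closure (gset s []) = ⊥ := by
  have : gset s [] = ∅ := by
    ext x
    simp [gset]
  rw [this, Subgroup.closure_empty]

end

end Cfsg.Agent.helper5.TC
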