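import Mathlib
import Cfsg.Agent.Lib_helper5_TC2
import Cfsg.Agent.Lib_helper5_ChevPC5

set_option autoImplicit false
open Cfsg

/-! The order of a finite Coxeter group from coset tables along a parabolic chain (upper bound)
and a family of reduced words acting on the roots (lower bound) (helper5). -/

namespace Cfsg.Agent.helper5.Chev

open Cfsg.Lie Cfsg.Agent.helper5.TC

section
variable {n : ℕ} (M : CoxeterMatrix (Fin n))

/-- generators of the Coxeter group, indexed by `ℕ` -/
noncomputable def sgen (i : ℕ) : M.Group := if h : i < n then M.simple ⟨i, h⟩ else 1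

theorem sgen_lt (i : ℕ) (h : i < n) : sgen M i = M.simple ⟨i, h⟩ := dif_pos h

theorem sgen_inv (i : ℕ) : sgen M i * sgen M i = 1 := by
  unfold sgen
  split_ifs with h
  · have := M.toCoxeterSystem.simple_mul_simple_self ⟨i, h⟩
    rwa [CoxeterMatrix.toCoxeterSystem_simple] at this
  · simp

/-- the literal table of the Coxeter matrix -/
structure MtOK (mt : List (List ℕ)) : Prop where
  len : mt.length = n
  rows : ∀ row ∈ mt, row.length = n
  val : ∀ x y : Fin n, tget mt x.val y.val = M x y

theorem sgen_rel (mt : List (List ℕ)) (h : MtOK M mt) :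
    ∀ x y, (sgen M x * sgen M y) ^ (tget mt x y) = 1 := by
  intro x y
  by_cases hx : x < n
  · by_cases hy : y < n
    · rw [sgen_lt M x hx, sgen_lt M y hy, h.val ⟨x, hx⟩ ⟨y, hy⟩]
      have := M.toCoxeterSystem.simple_mul_simple_pow ⟨x, hx⟩ ⟨y, hy⟩
      rwa [CoxeterMatrix.toCoxeterSystem_simple] at this
    · have : tget mt x y = 0 := by
        unfold tget
        have hx' : x < mt.length := by rw [h.len]; exact hx
        rw [List.getD_eq_getElem _ _ hx']
        apply List.getD_eq_default
        rw [h.rows _ (List.getElem_mem hx')]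
        omega
      rw [this, pow_zero]
  · have : tget mt x y = 0 := by
      unfold tget
      have e : mt.getD x [] = [] := List.getD_eq_default _ _ (by rw [h.len]; omega)
      rw [e]
      rfl
    rw [this, pow_zero]

theorem tc_step (mt : List (List ℕ)) (hmt : MtOK M mt) (tab rk : List (List ℕ)) (N : ℕ)
    (J' J : List ℕ) (ds : List (List ℕ)) (js : List (List (List ℕ)))
    (h0 : ds.getD 0 [] = []) (hN : 0 < N)
    (hrows : ∀ a < N, rowOK mt tab rk N J' ds J js a = true)
    (hfin : Finite (Subgroup.closure (gset (sgen M) J))) :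
    Finite (Subgroup.closure (gset (sgen M) J')) ∧
      Nat.card (Subgroup.closure (gset (sgen M) J')) ≤
        N * Nat.card (Subgroup.closure (gset (sgen M) J)) := by
  have hall := table_sound (sgen M) mt tab rk N J' ds J js (Subgroup.closure (gset (sgen M) J))
    (sgen_inv M) (sgen_rel M mt hmt)
    (fun j hj => Subgroup.subset_closure ⟨j, hj, rfl⟩) h0 hrows
  exact card_closure_le (sgen M) tab N J' ds _ (sgen_inv M) h0 hN hall

theorem tc_base : Finite (Subgroup.closure (gset (sgen M) [])) ∧
    Nat.card (Subgroup.closure (gset (sgen M) [])) = 1 := by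
  rw [gset_nil]
  exact ⟨inferInstance, Subgroup.card_bot⟩

theorem closure_top (Jtop : List ℕ) (hall : ∀ i < n, i ∈ Jtop) :
    Subgroup.closure (gset (sgen M) Jtop) = ⊤ := by
  rw [eq_top_iff, ← M.toCoxeterSystem.subgroup_closure_range_simple]
  apply Subgroup.closure_mono
  rintro x ⟨i, rfl⟩
  refine ⟨i.val, hall _ i.2, ?_⟩
  rw [CoxeterMatrix.toCoxeterSystem_simple, sgen_lt M _ i.2]

end

section
variable (D : ChevalleyDatum)
  (hD : D ∈ [chevG2, chevB2, chevD4, chevF4, chevE6, chevE7, chevE8])

/-- the fundamental reflections as permutations of the root indices -/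
noncomputable def sigmaP (i : ℕ) : Equiv.Perm (Fin D.nroots) := by
  classical
  exact if h : i < D.rank ∧ RootsOK D then
    Function.Involutive.toPerm
      (fun r : Fin D.nroots => (⟨D.reflectRoot i r.val, h.2.refl_lt i h.1 r.val r.2⟩ : Fin D.nroots))
      (fun r => Fin.ext (h.2.refl_refl i h.1 r.val r.2))
  else 1

include hD in
theorem sigmaP_apply (i : ℕ) (hi : i < D.rank) (r : Fin D.nroots) :
    (sigmaP D i r).val = D.reflectRoot i r.val := by
  have hR := rootsOK_of_mem D hD
  unfold sigmaP
  rw [dif_pos ⟨hi, hR⟩]
  rfl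

include hD in
theorem wprod_sigmaP_apply (w : List ℕ) (hw : ∀ i ∈ w, i < D.rank) (r : Fin D.nroots) :
    (wprod (sigmaP D) w r).val = applyW D w r.val := by
  induction w with
  | nil => rfl
  | cons i w ih =>
    rw [wprod_cons, Equiv.Perm.mul_apply, sigmaP_apply D hD i (hw i List.mem_cons_self),
      ih fun j hj => hw j (List.mem_cons_of_mem _ hj)]
    rfl

/-- the Coxeter relations hold for the reflections, checked with the tables -/
def relChk (T : List ℕ) (nr rank : ℕ) (mt : List (List ℕ)) : Bool :=
  (List.range rank).all fun i => (List.range rank).all fun j => (List.range nr).all fun r =>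
    Nat.beq (applyRT T (relWord i j (tget mt i j)).reverse r) r

include hD in
theorem card_ge_of_family {n : ℕ} (M : CoxeterMatrix (Fin n)) [Finite M.Group]
    (mt : List (List ℕ)) (hmt : MtOK M mt) (hrank : D.rank = n)
    {T : List ℕ} {nr rank half : ℕ} {simp : List ℕ} (hT : RTabOK D T nr rank half simp)
    (hrel : relChk T nr rank mt = true)
    {ι : Type} [Fintype ι] (J : List ℕ) (v : ι → List ℕ) (hF : LevFam D J v) :
    Fintype.card ι ≤ Nat.card M.Group := by
  classical
  have hR := rootsOK_of_mem D hD
  have hrelW : ∀ i < D.rank, ∀ j < D.rank, ∀ r < D.nroots,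
      applyW D (relWord i j (tget mt i j)) r = r := by
    intro i hi j hj r hr
    unfold relChk at hrel
    simp only [List.all_eq_true, List.mem_range] at hrel
    have h1 := Nat.eq_of_beq_eq_true (hrel i (by rw [hT.hrank]; exact hi) j
      (by rw [hT.hrank]; exact hj) r (by rw [hT.hn]; exact hr))
    have hlt : ∀ x ∈ (relWord i j (tget mt i j)).reverse, x < D.rank := by
      intro x hx
      rw [List.mem_reverse] at hx
      unfold relWord at hx
      rw [List.mem_flatten] at hx
      obtain ⟨l, hl, hxl⟩ := hx
      rw [List.eq_of_mem_replicate hl] at hxl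
      simp only [List.mem_cons, List.not_mem_nil, or_false] at hxl
      rcases hxl with rfl | rfl
      · exact hi
      · exact hj
    rw [applyRT_eq D hD hT _ hlt r hr] at h1
    unfold applyR at h1
    rwa [List.reverse_reverse] at h1
  let f : Fin n → Equiv.Perm (Fin D.nroots) := fun i => sigmaP D i.val
  have hf : M.IsLiftable f := by
    intro i i'
    have hi : i.val < D.rank := by rw [hrank]; exact i.2
    have hi' : i'.val < D.rank := by rw [hrank]; exact i'.2
    show (sigmaP D i.val * sigmaP D i'.val) ^ M i i' = 1
    rw [← hmt.val i i', ← wprod_relWord]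
    ext r
    rw [wprod_sigmaP_apply D hD _ ?_ r, hrelW _ hi _ hi' _ r.2]
    · rfl
    · intro x hx
      unfold relWord at hx
      rw [List.mem_flatten] at hx
      obtain ⟨l, hl, hxl⟩ := hx
      rw [List.eq_of_mem_replicate hl] at hxl
      simp only [List.mem_cons, List.not_mem_nil, or_false] at hxl
      rcases hxl with rfl | rfl
      · exact hi
      · exact hi'
  let π : M.Group →* Equiv.Perm (Fin D.nroots) := M.toCoxeterSystem.lift ⟨f, hf⟩
  have hπs : ∀ i < D.rank, π (sgen M i) = sigmaP D i := by
    intro i hi
    have hin : i < n := by rw [← hrank]; exact hi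
    rw [sgen_lt M i hin]
    have := M.toCoxeterSystem.lift_apply_simple hf ⟨i, hin⟩
    rwa [CoxeterMatrix.toCoxeterSystem_simple] at this
  have hπw : ∀ w : List ℕ, (∀ i ∈ w, i < D.rank) → π (wprod (sgen M) w) = wprod (sigmaP D) w := by
    intro w
    induction w with
    | nil => intro _; exact map_one π
    | cons i w ih =>
      intro hw
      rw [wprod_cons, wprod_cons, map_mul, hπs i (hw i List.mem_cons_self),
        ih fun j hj => hw j (List.mem_cons_of_mem _ hj)]
  let g : ι → M.Group := fun k => wprod (sgen M) (v k).reverse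
  have hg : Function.Injective g := by
    intro k k' h
    apply hF.distinct
    intro r hr
    have hlt : ∀ k, ∀ i ∈ (v k).reverse, i < D.rank := fun k i hi =>
      redRB_lt D _ (hF.red k) i (List.mem_reverse.mp hi)
    have h1 := congrArg π h
    rw [hπw _ (hlt k), hπw _ (hlt k')] at h1
    have h2 := congrArg (fun p => (p ⟨r, hr⟩).val) h1
    simp only [wprod_sigmaP_apply D hD _ (hlt k), wprod_sigmaP_apply D hD _ (hlt k')] at h2
    exact h2
  have := Nat.card_le_card_of_injective g hg
  rwa [Nat.card_eq_fintype_card] at this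

end

end Cfsg.Agent.helper5.Chev
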