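import Mathlib
import Cfsg.Agent.Lib_helper5_ChevCell
import Cfsg.Agent.Lib_helper5_ChevCerts
import Cfsg.Agent.Lib_helper5_ChevTorusConj
import Cfsg.Agent.S1032
import Cfsg.Agent.S1034
import Cfsg.Agent.S1036
import Cfsg.Agent.S1037

set_option autoImplicit false
open Cfsg

/-! The normal core of `B ∩ G¹` in a subgroup `G¹` generated by unipotent elements (helper5). -/

namespace Cfsg.Agent.helper5.Chev

open Cfsg.Lie

/-- the Cartan integers transform linearly under the fundamental reflections -/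
def cartanReflChk (D : ChevalleyDatum) : Bool :=
  (List.range D.rank).all fun i => (List.range D.rank).all fun j => (List.range D.nroots).all fun s =>
    D.cartan j (D.reflectRoot i s) == D.cartan j s - D.cartan i s * D.cartan j (D.simple i)

section
variable {F : Type*} [Field F] (D : ChevalleyDatum)
  (hD : D ∈ [chevG2, chevB2, chevD4, chevF4, chevE6, chevE7, chevE8])

include hD in
/-- conjugation by a representative of the longest element maps `U` onto `V` -/
theorem conj_U_eq_V (w : List ℕ) (hw : W0OK D w) :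
    (D.posUnipotent F).map (MulAut.conj (nW D hD w)).toMonoidHom = D.negUnipotent F := by
  have hR := rootsOK_of_mem D hD
  refine le_antisymm ?_ ?_
  · rw [Subgroup.map_le_iff_le_comap]
    unfold Cfsg.Lie.ChevalleyDatum.posUnipotent
    rw [Subgroup.closure_le]
    rintro g ⟨r, t, hr, hg⟩
    rw [eq_xG D hD g r t hg]
    obtain ⟨ε, _, hc⟩ := nW_conj (F := F) D hD w hw.lt r hr.1
    rw [SetLike.mem_coe, Subgroup.mem_comap, MulEquiv.coe_toMonoidHom, MulAut.conj_apply, hc t]
    unfold Cfsg.Lie.ChevalleyDatum.negUnipotent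
    apply Subgroup.subset_closure
    exact ⟨applyW D w r, ε * t, hw.pos r hr.1 hr, rfl⟩
  · unfold Cfsg.Lie.ChevalleyDatum.negUnipotent
    rw [Subgroup.closure_le]
    rintro g ⟨s, t, hs, hg⟩
    rw [eq_xG D hD g s t hg, SetLike.mem_coe, Subgroup.mem_map]
    have hpos := hw.neg s hs.1 hs
    obtain ⟨ε, hε, hc⟩ := nW_conj (F := F) D hD w hw.lt (applyW D w.reverse s) hpos.1
    refine ⟨xG D hD (applyW D w.reverse s) (ε * t), ?_, ?_⟩
    · unfold Cfsg.Lie.ChevalleyDatum.posUnipotent
      apply Subgroup.subset_closure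
      exact ⟨applyW D w.reverse s, ε * t, hpos, rfl⟩
    · rw [MulEquiv.coe_toMonoidHom, MulAut.conj_apply, hc (ε * t), ← mul_assoc, hε, one_mul,
        applyW_rev D hD w hw.lt s hs.1]

include hD in
/-- `H` acts on the root elements by characters -/
theorem torus_conj_xG (k : GL D.Idx F) (c : ℕ → F) (hc : ∀ i, c i ≠ 0)
    (hk : (k : Matrix D.Idx D.Idx F) = torusMat D c) (r : ℕ) (hr : r < D.nroots) (t : F) :
    k * xG D hD r t * k⁻¹ = xG D hD r (torusChar D c r * t) := by
  have hcart := Cfsg.Agent.S1032.cartanCheck_of_mem D hD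
  have h1 : (k : Matrix D.Idx D.Idx F) * ((xG D hD r t : GL D.Idx F) : Matrix D.Idx D.Idx F) =
      D.x F r (torusChar D c r * t) * (k : Matrix D.Idx D.Idx F) := by
    rw [xG_val, hk, x_eq_xMat D r hr, x_eq_xMat D r hr]
    exact torusMat_mul_xMat D hcart c (fun i _ => hc i) ⟨r, hr⟩ t
  apply Units.ext
  rw [Units.val_mul, Units.val_mul, h1, mul_assoc, ← Units.val_mul, mul_inv_cancel,
    Units.val_one, mul_one]
  rfl

include hD in
theorem H_conj_Ui (i : ℕ) (k : GL D.Idx F) (hk : k ∈ D.diagonalSubgroup F) :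
    ∀ y ∈ Ui (F := F) D i, k * y * k⁻¹ ∈ Ui (F := F) D i := by
  obtain ⟨c, hc, hkc⟩ := Cfsg.Agent.S1034.mem_torus D hD k hk
  intro y hy
  unfold Ui at hy
  induction hy using Subgroup.closure_induction with
  | mem x hx =>
    obtain ⟨s, t, hs, hne, hx⟩ := hx
    rw [eq_xG D hD x s t hx, torus_conj_xG D hD k c hc hkc s hs.1 t]
    exact xG_mem_Ui D hD i s hs hne _
  | one =>
    rw [mul_one, mul_inv_cancel]
    exact Subgroup.one_mem _
  | mul x y _ _ hx hy =>
    have e : k * (x * y) * k⁻¹ = (k * x * k⁻¹) * (k * y * k⁻¹) := by group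
    rw [e]
    exact Subgroup.mul_mem _ hx hy
  | inv x _ hx =>
    have e : k * x⁻¹ * k⁻¹ = (k * x * k⁻¹)⁻¹ := by group
    rw [e]
    exact Subgroup.inv_mem _ hx

theorem prod_zpow_sub_mul (c : ℕ → F) (hc : ∀ i, c i ≠ 0) (a b : ℕ → ℤ) (m : ℤ) (L : List ℕ) :
    (L.map fun j => c j ^ (a j - m * b j)).prod =
      (L.map fun j => c j ^ a j).prod * (((L.map fun j => c j ^ b j).prod) ^ m)⁻¹ := by
  induction L with
  | nil => simp
  | cons x L ih =>
    simp only [List.map_cons, List.prod_cons]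
    rw [ih, zpow_sub₀ (hc x), mul_comm m (b x), zpow_mul, mul_zpow]
    field_simp

include hD in
theorem torusChar_refl (hCR : cartanReflChk D = true) (c : ℕ → F) (hc : ∀ i, c i ≠ 0)
    (i : ℕ) (hi : i < D.rank) (s : ℕ) (hs : s < D.nroots) :
    torusChar D c (D.reflectRoot i s) =
      torusChar D c s * ((torusChar D c (D.simple i)) ^ (D.cartan i s))⁻¹ := by
  unfold cartanReflChk at hCR
  simp only [List.all_eq_true, List.mem_range, beq_iff_eq] at hCR
  unfold torusChar
  rw [← prod_zpow_sub_mul c hc]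
  congr 1
  apply List.map_congr_left
  intro j hj
  rw [hCR i hi j (List.mem_range.mp hj) s hs]

include hD in
theorem torusChar_eq_one (hCR : cartanReflChk D = true) (c : ℕ → F) (hc : ∀ i, c i ≠ 0)
    (hsimple : ∀ i < D.rank, torusChar D c (D.simple i) = 1) :
    ∀ s < D.nroots, torusChar D c s = 1 := by
  have hR := rootsOK_of_mem D hD
  have key : ∀ n : ℕ, ∀ s < D.nroots, muR D s = n → torusChar D c s = 1 := by
    intro n
    induction n using Nat.strong_induction_on with
    | _ n ih =>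
      intro s hs hn
      rcases hR.step s hs with ⟨i, hi, rfl⟩ | ⟨i, hi, hlt⟩
      · exact hsimple i hi
      · have h1 := ih _ (by rw [← hn]; exact hlt) _ (hR.refl_lt i hi s hs) rfl
        rw [torusChar_refl D hD hCR c hc i hi s hs, hsimple i hi, one_zpow, inv_one, mul_one] at h1
        exact h1
  intro s hs
  exact key _ s hs rfl

include hD in
/-- the normal core of `B ∩ G¹` in `G¹` is trivial -/
theorem tw_core_trivial (hCR : cartanReflChk D = true) (G1 : Subgroup (GL D.Idx F))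
    (w : List ℕ) (hw : W0OK D w) (hn0 : nW D hD w ∈ G1)
    (hgen : ∀ i < D.rank, ∃ t : F, t ≠ 0 ∧ ∃ y1 ∈ Ui (F := F) D i, ∃ y2 ∈ Ui (F := F) D i,
      y1 * xG D hD (D.simple i) t * y2 ∈ G1) :
    ((D.borelSubgroup F ⊓ G1).subgroupOf G1).normalCore = ⊥ := by
  have hR := rootsOK_of_mem D hD
  have hC := commOK_of_mem D hD
  have hP := posCommOK_of_mem D hD
  have hNH := N_le_normalizer_H (F := F) D hD
  have hHU := Cfsg.Agent.S1036.result (F := F) D hD
  set n := nW (F := F) D hD w with hn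
  have hnN : n ∈ D.monomialSubgroup F := nW_mem D hD w hw.lt
  -- an element all of whose `G¹`-conjugates lie in `B` lies in `H`
  have memH : ∀ k : GL D.Idx F, (∀ g ∈ G1, g * k * g⁻¹ ∈ D.borelSubgroup F) →
      k ∈ D.diagonalSubgroup F := by
    intro k hk
    have hkB : k ∈ D.borelSubgroup F := by
      have := hk 1 (Subgroup.one_mem _)
      simpa using this
    have h1 := hk n⁻¹ (Subgroup.inv_mem _ hn0)
    have h2 : k ∈ (D.borelSubgroup F).map (MulAut.conj n).toMonoidHom := by
      refine ⟨n⁻¹ * k * n⁻¹⁻¹, h1, ?_⟩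
      show n * (n⁻¹ * k * n⁻¹⁻¹) * n⁻¹ = k
      group
    have hmapH : (D.diagonalSubgroup F).map (MulAut.conj n).toMonoidHom =
        D.diagonalSubgroup F := by
      apply le_antisymm
      · rintro _ ⟨h, hh, rfl⟩
        exact (Subgroup.mem_normalizer_iff.mp (hNH hnN) h).mp hh
      · intro h hh
        refine ⟨n⁻¹ * h * n⁻¹⁻¹,
          (Subgroup.mem_normalizer_iff.mp (hNH (Subgroup.inv_mem _ hnN)) h).mp hh, ?_⟩
        show n * (n⁻¹ * h * n⁻¹⁻¹) * n⁻¹ = h
        group
    have h3 : (D.borelSubgroup F).map (MulAut.conj n).toMonoidHom =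
        D.negUnipotent F ⊔ D.diagonalSubgroup F := by
      unfold ChevalleyDatum.borelSubgroup
      rw [Subgroup.map_sup, conj_U_eq_V D hD w hw, hmapH]
    rw [h3] at h2
    have h4 := (Cfsg.Agent.S1037.result (F := F) D hD).2
    rw [← h4]
    exact ⟨hkB, h2⟩
  have coreComm : ∀ k x : GL D.Idx F, x ∈ G1 →
      (∀ g ∈ G1, g * k * g⁻¹ ∈ D.borelSubgroup F) →
      ∀ g ∈ G1, g * (k * x * k⁻¹ * x⁻¹) * g⁻¹ ∈ D.borelSubgroup F := by
    intro k x hx hk g hg
    have h1 := hk g hg
    have h2 := hk (g * x) (Subgroup.mul_mem _ hg hx)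
    have h3 : g * (k * x * k⁻¹ * x⁻¹) * g⁻¹ = (g * k * g⁻¹) * (g * x * k * (g * x)⁻¹)⁻¹ := by
      group
    rw [h3]
    exact Subgroup.mul_mem _ h1 (Subgroup.inv_mem _ h2)
  rw [eq_bot_iff]
  intro k hk
  rw [Subgroup.mem_bot]
  have hk' : ∀ g ∈ G1, g * (k : GL D.Idx F) * g⁻¹ ∈ D.borelSubgroup F := by
    intro g hg
    have h1 := hk ⟨g, hg⟩
    have h2 := Subgroup.mem_subgroupOf.mp h1
    exact h2.1
  have hkH := memH _ hk'
  obtain ⟨c, hc, hkc⟩ := Cfsg.Agent.S1034.mem_torus D hD _ hkH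
  have hsimple : ∀ i < D.rank, torusChar D c (D.simple i) = 1 := by
    intro i hi
    obtain ⟨t, ht, y1, hy1, y2, hy2, hg⟩ := hgen i hi
    set g := y1 * xG D hD (D.simple i) t * y2 with hgdef
    have hgU : g ∈ D.posUnipotent F :=
      Subgroup.mul_mem _ (Subgroup.mul_mem _ (Ui_le_U D i hy1)
        (Subgroup.subset_closure ⟨_, t, hR.simple_pos i hi, rfl⟩)) (Ui_le_U D i hy2)
    have hcH := memH _ (coreComm _ g hg hk')
    have hcU : (k : GL D.Idx F) * g * (k : GL D.Idx F)⁻¹ * g⁻¹ ∈ D.posUnipotent F := by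
      apply Subgroup.mul_mem _ _ (Subgroup.inv_mem _ hgU)
      exact (Subgroup.mem_normalizer_iff.mp (hHU.1 hkH) g).mp hgU
    have hone : (k : GL D.Idx F) * g * (k : GL D.Idx F)⁻¹ * g⁻¹ = 1 := by
      have : (k : GL D.Idx F) * g * (k : GL D.Idx F)⁻¹ * g⁻¹ ∈
          D.posUnipotent F ⊓ D.diagonalSubgroup F := ⟨hcU, hcH⟩
      rw [hHU.2, Subgroup.mem_bot] at this
      exact this
    have hfix : (k : GL D.Idx F) * g * (k : GL D.Idx F)⁻¹ = g := by
      rw [mul_inv_eq_one] at hone
      exact hone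
    -- compare the `X_p`-components modulo `U_p`
    have hy1' := H_conj_Ui D hD i _ hkH y1 hy1
    have hy2' := H_conj_Ui D hD i _ hkH y2 hy2
    have hx' := torus_conj_xG D hD _ c hc hkc (D.simple i) (hR.simple_lt i hi) t
    set χ := torusChar D c (D.simple i) with hχ
    have e1 : (k : GL D.Idx F) * g * (k : GL D.Idx F)⁻¹ =
        ((k : GL D.Idx F) * y1 * (k : GL D.Idx F)⁻¹) * xG D hD (D.simple i) (χ * t) *
          ((k : GL D.Idx F) * y2 * (k : GL D.Idx F)⁻¹) := by
      rw [← hx', hgdef]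
      group
    rw [e1, hgdef] at hfix
    -- `x_p(t - χ t) ∈ U_p`
    have hnorm := xG_simple_mem_normalizer (F := F) D hD hC hP i hi (χ * t)
    set a := y1⁻¹ * ((k : GL D.Idx F) * y1 * (k : GL D.Idx F)⁻¹) with ha
    set b := ((k : GL D.Idx F) * y2 * (k : GL D.Idx F)⁻¹) * y2⁻¹ with hb
    have haU : a ∈ Ui (F := F) D i := Subgroup.mul_mem _ (Subgroup.inv_mem _ hy1) hy1'
    have hbU : b ∈ Ui (F := F) D i := Subgroup.mul_mem _ hy2' (Subgroup.inv_mem _ hy2)
    have e2 : xG D hD (D.simple i) t = a * xG D hD (D.simple i) (χ * t) * b := by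
      rw [ha, hb]
      calc xG D hD (D.simple i) t = y1⁻¹ * (y1 * xG D hD (D.simple i) t * y2) * y2⁻¹ := by group
        _ = _ := by rw [← hfix]; group
    have ha' : (xG D hD (D.simple i) (χ * t))⁻¹ * a * xG D hD (D.simple i) (χ * t) ∈
        Ui (F := F) D i := by
      have h5 := (Subgroup.mem_normalizer_iff.mp (Subgroup.inv_mem _ hnorm) a).mp haU
      rwa [inv_inv] at h5
    have e3 : xG D hD (D.simple i) (t + -(χ * t)) =
        ((xG D hD (D.simple i) (χ * t))⁻¹ * a * xG D hD (D.simple i) (χ * t)) * b := by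
      rw [← xG_mul, ← xG_inv]
      calc xG D hD (D.simple i) t * (xG D hD (D.simple i) (χ * t))⁻¹
          = (xG D hD (D.simple i) (χ * t))⁻¹ * xG D hD (D.simple i) t := by
            rw [xG_inv, xG_mul, xG_mul, add_comm]
        _ = _ := by rw [e2]; group
    have h6 : xG D hD (D.simple i) (t + -(χ * t)) ∈ Ui (F := F) D i := by
      rw [e3]
      exact Subgroup.mul_mem _ ha' hbU
    have h7 := xG_simple_mem_Ui D hD i hi _ h6
    have h8 : (1 - χ) * t = 0 := by
      rw [← h7]; ring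
    rcases mul_eq_zero.mp h8 with h9 | h9
    · exact (sub_eq_zero.mp h9).symm
    · exact absurd h9 ht
  have hall := torusChar_eq_one D hD hCR c hc hsimple
  apply Subtype.ext
  apply Units.ext
  rw [hkc]
  show torusMat D c = _
  unfold torusMat
  have : (fun s : Fin D.nroots => torusChar D c s) = fun _ => (1 : F) :=
    funext fun s => hall s.val s.2
  rw [this]
  exact diag_one D

end

end Cfsg.Agent.helper5.Chev
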