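import Mathlib
import Cfsg.Agent.Lib_helper5_TwCore
import Cfsg.Agent.Lib_helper5_ChevComm
import Cfsg.Prelude.Def_LieTwisted

set_option autoImplicit false

open Cfsg

/-! Helper lemmas for the core of `B¹` in the twisted groups `²E₆`, `³D₄` (helper5). -/

namespace Cfsg.Agent.helper5.Chev

open Cfsg.Lie

/-- in a finite field of order `q ^ m`, `(-1) ^ (q ^ k) = -1` -/
theorem neg_one_pow_q {K : Type*} [Field K] [Fintype K] {q m : ℕ} (hK : Fintype.card K = q ^ m)
    (k : ℕ) : (-1 : K) ^ (q ^ k) = -1 := by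
  rcases Nat.even_or_odd q with hq | hq
  · have hm : m ≠ 0 := by
      rintro rfl
      have := Fintype.one_lt_card (α := K)
      rw [pow_zero] at hK
      omega
    have h2 : Fintype.card K % 2 = 0 := by
      rw [hK]
      exact Nat.even_iff.mp ((Nat.even_pow' hm).mpr hq)
    have hc : ringChar K = 2 := FiniteField.even_card_iff_char_two.mpr h2
    have : CharP K 2 := by
      rw [← hc]
      exact ringChar.charP K
    have h1 : (-1 : K) = 1 := CharTwo.neg_eq 1
    rw [h1, one_pow]
  · exact (hq.pow).neg_one_pow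

theorem neg_one_pow_q1 {K : Type*} [Field K] [Fintype K] {q m : ℕ} (hK : Fintype.card K = q ^ m) :
    (-1 : K) ^ q = -1 := by
  have := neg_one_pow_q hK 1
  rwa [pow_one] at this

/-- a rearrangement of commuting elements -/
theorem nnn_rearrange {G : Type*} [Group G] (a a' b b' : G) (h1 : Commute a b) (h2 : Commute a b')
    (h3 : Commute a' b) (_h4 : Commute a' b') :
    a * a' * a * (b * b' * b) = (a * b) * (a' * b') * (a * b) := by
  have e1 : a * (b * b' * b) = b * b' * a * b := by
    rw [← mul_assoc, ← mul_assoc, h1.eq, mul_assoc b a b', h2.eq, ← mul_assoc]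
  have e2 : a' * (b * b' * a * b) = b * a' * b' * a * b := by
    rw [← mul_assoc, ← mul_assoc, ← mul_assoc, h3.eq]
  calc a * a' * a * (b * b' * b) = a * (a' * (a * (b * b' * b))) := by group
    _ = a * (a' * (b * b' * a * b)) := by rw [e1]
    _ = a * (b * a' * b' * a * b) := by rw [e2]
    _ = (a * b) * (a' * b') * (a * b) := by group

section
variable {F : Type*} [Field F] (D : ChevalleyDatum)
  (hD : D ∈ [chevG2, chevB2, chevD4, chevF4, chevE6, chevE7, chevE8])

include hD in
/-- root elements with no commutator terms commute -/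
theorem xG_commute (r s : ℕ) (hr : r < D.nroots) (hs : s < D.nroots) (hne : s ≠ r)
    (hne' : s ≠ D.neg r) (hct : D.commTerms r s = []) (t u : F) :
    Commute (xG D hD r t) (xG D hD s u) := by
  have h := commF_of_ok (F := F) D hD (commOK_of_mem D hD) r hr s hs hne hne' t u
  unfold cwG at h
  rw [hct, List.map_nil, List.prod_nil, mul_one] at h
  exact h.symm

/-- the four commutation conditions between `±r` and `±s` -/
def orthChk (D : ChevalleyDatum) (r s : ℕ) : Bool :=
  decide (r < D.nroots) && decide (s < D.nroots) && decide (D.neg r < D.nroots) &&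
  decide (D.neg s < D.nroots) && decide (s ≠ r) && decide (s ≠ D.neg r) &&
  decide (D.neg s ≠ r) && decide (D.neg s ≠ D.neg r) && decide (D.neg (D.neg r) = r) &&
  decide (D.commTerms r s = []) && decide (D.commTerms r (D.neg s) = []) &&
  decide (D.commTerms (D.neg r) s = []) && decide (D.commTerms (D.neg r) (D.neg s) = [])

include hD in
theorem orth_commute (r s : ℕ) (h : orthChk D r s = true) (t u : F) :
    Commute (xG D hD r t) (xG D hD s u) ∧ Commute (xG D hD r t) (xG D hD (D.neg s) u) ∧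
    Commute (xG D hD (D.neg r) t) (xG D hD s u) ∧
    Commute (xG D hD (D.neg r) t) (xG D hD (D.neg s) u) := by
  unfold orthChk at h
  simp only [Bool.and_eq_true, decide_eq_true_eq] at h
  obtain ⟨⟨⟨⟨⟨⟨⟨⟨⟨⟨⟨⟨hr, hs⟩, hnr⟩, hns⟩, h1⟩, h2⟩, h3⟩, h4⟩, h5⟩, c1⟩, c2⟩, c3⟩, c4⟩ := h
  refine ⟨xG_commute D hD r s hr hs h1 h2 c1 t u, xG_commute D hD r _ hr hns h3 h4 c2 t u,
    xG_commute D hD _ s hnr hs h2 ?_ c3 t u, xG_commute D hD _ _ hnr hns h4 ?_ c4 t u⟩
  · rw [h5]
    exact h1
  · rw [h5]
    exact h3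

include hD in
/-- `n_r n_s` for orthogonal `r`, `s` as a product of three paired root elements -/
theorem nGt_pair (r s : ℕ) (h : orthChk D r s = true) :
    nGt (F := F) D hD r 1 * nGt D hD s 1 =
      (xG D hD r 1 * xG D hD s 1) * (xG D hD (D.neg r) (-1) * xG D hD (D.neg s) (-1)) *
        (xG D hD r 1 * xG D hD s 1) := by
  unfold nGt
  rw [inv_one]
  have h1 := orth_commute (F := F) D hD r s h
  exact nnn_rearrange _ _ _ _ (h1 1 1).1 (h1 1 (-1)).2.1 (h1 (-1) 1).2.2.1 (h1 (-1) (-1)).2.2.2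

include hD in
/-- `n_r n_s n_u` for mutually orthogonal `r`, `s`, `u` -/
theorem nGt_triple (r s u : ℕ) (h1 : orthChk D r s = true) (h2 : orthChk D r u = true)
    (h3 : orthChk D s u = true) :
    nGt (F := F) D hD r 1 * nGt D hD s 1 * nGt D hD u 1 =
      (xG D hD r 1 * xG D hD s 1 * xG D hD u 1) *
      (xG D hD (D.neg r) (-1) * xG D hD (D.neg s) (-1) * xG D hD (D.neg u) (-1)) *
        (xG D hD r 1 * xG D hD s 1 * xG D hD u 1) := by
  rw [nGt_pair D hD r s h1]
  have c2 := orth_commute (F := F) D hD r u h2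
  have c3 := orth_commute (F := F) D hD s u h3
  have e : nGt (F := F) D hD u 1 = xG D hD u 1 * xG D hD (D.neg u) (-1) * xG D hD u 1 := by
    unfold nGt
    rw [inv_one]
  rw [e]
  exact nnn_rearrange _ _ _ _ ((c2 1 1).1.mul_left (c3 1 1).1)
    ((c2 1 (-1)).2.1.mul_left (c3 1 (-1)).2.1)
    ((c2 (-1) 1).2.2.1.mul_left (c3 (-1) 1).2.2.1)
    ((c2 (-1) (-1)).2.2.2.mul_left (c3 (-1) (-1)).2.2.2)

include hD in
theorem nGt_single (r : ℕ) :
    nGt (F := F) D hD r 1 = xG D hD r 1 * xG D hD (D.neg r) (-1) * xG D hD r 1 := by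
  unfold nGt
  rw [inv_one]

/-- membership in a subgroup generated by words -/
theorem mem_genSubgroup (S : Set (List (ℕ × F))) (g : GL D.Idx F) (w : List (ℕ × F)) (hw : w ∈ S)
    (hg : (g : Matrix D.Idx D.Idx F) = D.wordMat F w) : g ∈ D.genSubgroup F S := by
  unfold ChevalleyDatum.genSubgroup
  exact Subgroup.subset_closure ⟨w, hw, hg⟩

theorem wordMat_one (r : ℕ) (t : F) : D.wordMat F [(r, t)] = D.x F r t := by
  unfold ChevalleyDatum.wordMat
  simp

theorem wordMat_two (r s : ℕ) (t u : F) : D.wordMat F [(r, t), (s, u)] = D.x F r t * D.x F s u := by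
  unfold ChevalleyDatum.wordMat
  simp

theorem wordMat_three (r s v : ℕ) (t u z : F) :
    D.wordMat F [(r, t), (s, u), (v, z)] = D.x F r t * D.x F s u * D.x F v z := by
  unfold ChevalleyDatum.wordMat
  simp [mul_assoc]

end

end Cfsg.Agent.helper5.Chev

namespace Cfsg.Agent.helper5.Chev

open Cfsg.Lie

section
variable {F : Type*} [Field F] (D : ChevalleyDatum)
  (hD : D ∈ [chevG2, chevB2, chevD4, chevF4, chevE6, chevE7, chevE8])

theorem nW_nil' : nW (F := F) D hD [] = 1 := by
  unfold nW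
  rw [List.map_nil, List.prod_nil]

end

end Cfsg.Agent.helper5.Chev
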