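import Mathlib
import Cfsg.Agent.Lib_helper5_TwCore2

set_option autoImplicit false

open Cfsg

/-! Tools for showing that the twisted groups `²E₆`, `³D₄` are perfect (helper5). -/

namespace Cfsg.Agent.helper5.Chev

open Cfsg.Lie

open scoped commutatorElement

theorem comm_le_self' {G : Type*} [Group G] (H : Subgroup G) : ⁅H, H⁆ ≤ H := by
  rw [Subgroup.commutator_le]
  intro a ha b hb
  rw [commutatorElement_def]
  exact H.mul_mem (H.mul_mem (H.mul_mem ha hb) (H.inv_mem ha)) (H.inv_mem hb)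

theorem conj_mem_comm {G : Type*} [Group G] (H : Subgroup G) (g c : G) (hg : g ∈ H)
    (hc : c ∈ ⁅H, H⁆) : g * c * g⁻¹ ∈ ⁅H, H⁆ := by
  have h1 : ⁅g, c⁆ ∈ ⁅H, H⁆ := Subgroup.commutator_mem_commutator hg (comm_le_self' H hc)
  have e : g * c * g⁻¹ = ⁅g, c⁆ * c := by
    rw [commutatorElement_def]
    group
  rw [e]
  exact Subgroup.mul_mem _ h1 hc

/-- a one parameter subgroup on which an element of `H` acts by a non trivial scalar lies in the
derived group -/
theorem torus_trick {G : Type*} [Group G] {F : Type*} [Field F] (H : Subgroup G) (g : F → G)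
    (h : G) (χ : F) (hh : h ∈ H) (hg : ∀ t, g t ∈ H) (hconj : ∀ t, h * g t * h⁻¹ = g (χ * t))
    (hadd : ∀ t u, g t * g u = g (t + u)) (hχ : χ ≠ 1) (t : F) : g t ∈ ⁅H, H⁆ := by
  have h0 : g 0 = 1 := by
    have := hadd 0 0
    rw [add_zero] at this
    simpa using this
  have hinv : ∀ t, (g t)⁻¹ = g (-t) := by
    intro t
    rw [inv_eq_iff_mul_eq_one, hadd, add_neg_cancel, h0]
  have hχ' : χ - 1 ≠ 0 := sub_ne_zero.mpr hχ
  have e : g t = ⁅h, g (t / (χ - 1))⁆ := by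
    rw [commutatorElement_def, hconj, hinv, hadd]
    congr 1
    field_simp
    ring
  rw [e]
  exact Subgroup.commutator_mem_commutator hh (hg _)

/-- additivity of the power maps `t ↦ t ^ (q ^ k)` in a finite field of order a power of `q` -/
theorem frob_add {K : Type*} [Field K] [Fintype K] {q m : ℕ} (hq : IsPrimePow q)
    (hK : Fintype.card K = q ^ m) (k : ℕ) (a b : K) :
    (a + b) ^ (q ^ k) = a ^ (q ^ k) + b ^ (q ^ k) := by
  obtain ⟨p, n, hp, hn, rfl⟩ := (isPrimePow_def q).mp hq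
  have hp' : p.Prime := Nat.prime_iff.mpr hp
  obtain ⟨p', hchar, j, hp'', hcard⟩ := FiniteField.card' K
  have hm : m ≠ 0 := by
    rintro rfl
    have := Fintype.one_lt_card (α := K)
    rw [pow_zero] at hK
    omega
  have hpp : p' = p := by
    have h1 : p' ∣ (p ^ n) ^ m := by
      rw [← hK, hcard]
      exact dvd_pow_self p' j.ne_zero
    have h2 : p' ∣ p := hp''.dvd_of_dvd_pow (hp''.dvd_of_dvd_pow h1)
    exact (Nat.prime_dvd_prime_iff_eq hp'' hp').mp h2
  subst hpp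
  have : Fact p'.Prime := ⟨hp'⟩
  rw [← pow_mul]
  exact add_pow_char_pow a b p' (n * k)

/-- a field with at least four elements has an element `a ≠ 0` with `a ^ 2 ≠ 1` -/
theorem exists_sq_ne_one {K : Type*} [Field K] [Fintype K] (h4 : 4 ≤ Fintype.card K) :
    ∃ a : K, a ≠ 0 ∧ a ^ 2 ≠ 1 := by
  classical
  by_contra hcon
  push Not at hcon
  have hsub : (Finset.univ : Finset K) ⊆ {0, 1, -1} := by
    intro a _
    by_cases h0 : a = 0
    · simp [h0]
    · have h1 := hcon a h0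
      have h2 : a * a = 1 := by rw [← sq]; exact h1
      rcases mul_self_eq_one_iff.mp h2 with h3 | h3
      · simp [h3]
      · simp [h3]
  have hc := Finset.card_le_card hsub
  have h3 : ({0, 1, -1} : Finset K).card ≤ 3 := Finset.card_le_three
  rw [Finset.card_univ] at hc
  omega

section
variable {F : Type*} [Field F] (D : ChevalleyDatum)
  (hD : D ∈ [chevG2, chevB2, chevD4, chevF4, chevE6, chevE7, chevE8])

include hD in
/-- a root element which is a commutator of two root elements of `G¹` -/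
theorem comm_trick (G1 : Subgroup (GL D.Idx F)) (r s rs : ℕ) (c : ℤ) (hr : r < D.nroots)
    (hs : s < D.nroots) (hne : s ≠ r) (hne' : s ≠ D.neg r)
    (hct : D.commTerms r s = [(rs, c, 1, 1)]) (hc : c * c = 1) (t : F)
    (hxr : xG D hD r (-((c : ℤ) : F) * t) ∈ G1) (hxs : xG D hD s 1 ∈ G1) :
    xG D hD rs t ∈ ⁅G1, G1⁆ := by
  have h := commF_of_ok (F := F) D hD (commOK_of_mem D hD) r hr s hs hne hne'
    (-((c : ℤ) : F) * t) 1
  unfold cwG at h
  rw [hct] at h
  simp only [List.map_cons, List.map_nil, List.prod_cons, List.prod_nil, mul_one, pow_one,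
    one_pow] at h
  have hcc : ((c : ℤ) : F) * -(-((c : ℤ) : F) * t) = t := by
    have h1 : ((c : ℤ) : F) * ((c : ℤ) : F) = 1 := by
      rw [← Int.cast_mul, hc, Int.cast_one]
    calc ((c : ℤ) : F) * -(-((c : ℤ) : F) * t) = (((c : ℤ) : F) * ((c : ℤ) : F)) * t := by ring
      _ = t := by rw [h1, one_mul]
  rw [hcc] at h
  have e : xG D hD rs t = ⁅(xG D hD s (1 : F))⁻¹, (xG D hD r (-((c : ℤ) : F) * t))⁻¹⁆ := by
    rw [commutatorElement_def, inv_inv, inv_inv]
    have e1 : (xG D hD s 1)⁻¹ * (xG D hD r (-((c : ℤ) : F) * t))⁻¹ * xG D hD s 1 *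
        xG D hD r (-((c : ℤ) : F) * t) = (xG D hD s 1)⁻¹ * (xG D hD r (-((c : ℤ) : F) * t))⁻¹ *
          (xG D hD s 1 * xG D hD r (-((c : ℤ) : F) * t)) := by group
    rw [e1, h]
    group
  rw [e]
  exact Subgroup.commutator_mem_commutator (G1.inv_mem hxs) (G1.inv_mem hxr)

include hD in
/-- transport of root elements by a Weyl group representative -/
theorem weyl_trick (C : Subgroup (GL D.Idx F)) (w : List ℕ) (hw : ∀ i ∈ w, i < D.rank)
    (hnorm : ∀ c ∈ C, nW D hD w * c * (nW D hD w)⁻¹ ∈ C) (r : ℕ) (hr : r < D.nroots)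
    (T : Set F) (hT : ∀ t ∈ T, -t ∈ T) (h : ∀ t ∈ T, xG D hD r t ∈ C) :
    ∀ t ∈ T, xG D hD (applyW D w r) t ∈ C := by
  obtain ⟨ε, hε, hc⟩ := nW_conj (F := F) D hD w hw r hr
  intro t ht
  have e : xG D hD (applyW D w r) t = nW D hD w * xG D hD r (ε * t) * (nW D hD w)⁻¹ := by
    rw [hc, ← mul_assoc, hε, one_mul]
  rw [e]
  apply hnorm
  apply h
  rcases mul_self_eq_one_iff.mp hε with rfl | rfl
  · simpa using ht
  · simpa using hT t ht

include hD in
/-- transport of root elements by the inverse of a Weyl group representative -/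
theorem weyl_trick_inv (C : Subgroup (GL D.Idx F)) (w : List ℕ) (hw : ∀ i ∈ w, i < D.rank)
    (hnorm : ∀ c ∈ C, (nW D hD w)⁻¹ * c * nW D hD w ∈ C) (r : ℕ) (hr : r < D.nroots)
    (T : Set F) (hT : ∀ t ∈ T, -t ∈ T) (h : ∀ t ∈ T, xG D hD (applyW D w r) t ∈ C) :
    ∀ t ∈ T, xG D hD r t ∈ C := by
  obtain ⟨ε, hε, hc⟩ := nW_conj (F := F) D hD w hw r hr
  intro t ht
  have e : xG D hD r t = (nW D hD w)⁻¹ * xG D hD (applyW D w r) (ε * t) * nW D hD w := by
    rw [← hc]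
    group
  rw [e]
  apply hnorm
  apply h
  rcases mul_self_eq_one_iff.mp hε with rfl | rfl
  · simpa using ht
  · simpa using hT t ht

include hD in
/-- the action of `h_r(a)` on a root element -/
theorem hGt_conj_xG (r s : ℕ) (hr : r < D.nroots) (hs : s < D.nroots) (a : F) (ha : a ≠ 0)
    (t : F) :
    hGt D hD r a * xG D hD s t * (hGt D hD r a)⁻¹ = xG D hD s (a ^ cartanRS D r s * t) := by
  have hall := Cfsg.Agent.S1034.hCheckAll_of_mem D hD
  have hk : ((hGt D hD r a : GL D.Idx F) : Matrix D.Idx D.Idx F) =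
      torusMat D (fun i => a ^ ((D.coroot.getD r #[]).getD i 0)) := by
    rw [hGt_val]
    exact hMat_eq_torusMat D r hr (hall r hr) a ha
  rw [torus_conj_xG D hD _ _ (fun i => zpow_ne_zero _ ha) hk s hs t]
  congr 2
  unfold torusChar
  rw [cartanRS_eq, zpow_list_sum a ha, List.map_map]
  congr 1
  apply List.map_congr_left
  intro i _
  simp only [Function.comp]
  rw [zpow_mul]

include hD in
theorem nGt_pair' (r s : ℕ) (h : orthChk D r s = true) (a b : F) :
    nGt (F := F) D hD r a * nGt D hD s b =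
      (xG D hD r a * xG D hD s b) * (xG D hD (D.neg r) (-a⁻¹) * xG D hD (D.neg s) (-b⁻¹)) *
        (xG D hD r a * xG D hD s b) := by
  unfold nGt
  have h1 := orth_commute (F := F) D hD r s h
  exact nnn_rearrange _ _ _ _ (h1 a b).1 (h1 a (-b⁻¹)).2.1 (h1 (-a⁻¹) b).2.2.1
    (h1 (-a⁻¹) (-b⁻¹)).2.2.2

include hD in
theorem nGt_commute (r s : ℕ) (h : orthChk D r s = true) (a b : F) :
    Commute (nGt (F := F) D hD r a) (nGt D hD s b) := by
  unfold nGt
  have h1 := orth_commute (F := F) D hD r s h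
  have k1 : ∀ (y : F), Commute (xG D hD r a * xG D hD (D.neg r) (-a⁻¹) * xG D hD r a)
      (xG D hD s y) := fun y =>
    (((h1 a y).1.mul_left (h1 (-a⁻¹) y).2.2.1)).mul_left (h1 a y).1
  have k2 : ∀ (y : F), Commute (xG D hD r a * xG D hD (D.neg r) (-a⁻¹) * xG D hD r a)
      (xG D hD (D.neg s) y) := fun y =>
    (((h1 a y).2.1.mul_left (h1 (-a⁻¹) y).2.2.2)).mul_left (h1 a y).2.1
  exact ((k1 b).mul_right (k2 _)).mul_right (k1 b)

include hD in
/-- the torus element `h_r(a) h_s(a^q)` of a class `{r, s}` lies in `G¹` -/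
theorem hpair_mem (G1 : Subgroup (GL D.Idx F)) (q : ℕ) (hq1 : (-1 : F) ^ q = -1) (r s : ℕ)
    (horth : orthChk D r s = true)
    (hpos : ∀ t : F, xG D hD r t * xG D hD s (t ^ q) ∈ G1)
    (hneg : ∀ t : F, xG D hD (D.neg r) t * xG D hD (D.neg s) (t ^ q) ∈ G1) (a : F) :
    hGt D hD r a * hGt D hD s (a ^ q) ∈ G1 := by
  have e : hGt D hD r a * hGt D hD s (a ^ q) =
      (nGt D hD r a * nGt D hD s (a ^ q)) * (nGt D hD r (-1) * nGt D hD s (-1)) := by
    unfold hGt
    have c := nGt_commute (F := F) D hD r s horth (-1) (a ^ q)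
    calc nGt D hD r a * nGt D hD r (-1) * (nGt D hD s (a ^ q) * nGt D hD s (-1))
        = nGt D hD r a * (nGt D hD r (-1) * nGt D hD s (a ^ q)) * nGt D hD s (-1) := by group
      _ = nGt D hD r a * (nGt D hD s (a ^ q) * nGt D hD r (-1)) * nGt D hD s (-1) := by rw [c.eq]
      _ = _ := by group
  rw [e, nGt_pair' D hD r s horth, nGt_pair' D hD r s horth]
  have e1 : -(a ^ q)⁻¹ = (-a⁻¹) ^ q := by
    rw [neg_pow, hq1, inv_pow]
    ring
  have e2 : (-1 : F) = (-1) ^ q := hq1.symm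
  have e3 : (-(-1 : F)⁻¹) = 1 := by norm_num
  have e4 : (1 : F) = 1 ^ q := (one_pow q).symm
  have m1 := hpos a
  have m2 := hneg (-a⁻¹)
  rw [← e1] at m2
  have m3 := hpos (-1)
  rw [← e2] at m3
  have m4 := hneg 1
  rw [← e4] at m4
  rw [e3]
  exact G1.mul_mem (G1.mul_mem (G1.mul_mem m1 m2) m1) (G1.mul_mem (G1.mul_mem m3 m4) m3)

include hD in
/-- the elements of a class `{r, s}` of two orthogonal roots lie in the derived group of `G¹` -/
theorem pair_class_comm (G1 : Subgroup (GL D.Idx F)) (q : ℕ)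
    (hfrob : ∀ a b : F, (a + b) ^ q = a ^ q + b ^ q) (hq1 : (-1 : F) ^ q = -1)
    (lam : F) (h0 : lam ≠ 0) (h2 : lam ^ 2 ≠ 1) (r s : ℕ) (hr : r < D.nroots) (hs : s < D.nroots)
    (horth : orthChk D r s = true)
    (hrr : cartanRS D r r = 2) (hss : cartanRS D s s = 2) (hrs : cartanRS D r s = 0)
    (hsr : cartanRS D s r = 0)
    (hpos : ∀ t : F, xG D hD r t * xG D hD s (t ^ q) ∈ G1)
    (hneg : ∀ t : F, xG D hD (D.neg r) t * xG D hD (D.neg s) (t ^ q) ∈ G1) (t : F) :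
    xG D hD r t * xG D hD s (t ^ q) ∈ ⁅G1, G1⁆ := by
  have hl0 : lam ^ q ≠ 0 := pow_ne_zero _ h0
  refine torus_trick G1 (fun t => xG D hD r t * xG D hD s (t ^ q))
    (hGt D hD r lam * hGt D hD s (lam ^ q)) (lam ^ 2)
    (hpair_mem D hD G1 q hq1 r s horth hpos hneg lam) hpos ?_ ?_ h2 t
  · intro t
    have e : hGt D hD r lam * hGt D hD s (lam ^ q) * (xG D hD r t * xG D hD s (t ^ q)) *
        (hGt D hD r lam * hGt D hD s (lam ^ q))⁻¹ =
        (hGt D hD r lam * (hGt D hD s (lam ^ q) * xG D hD r t * (hGt D hD s (lam ^ q))⁻¹) *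
          (hGt D hD r lam)⁻¹) *
        (hGt D hD r lam * (hGt D hD s (lam ^ q) * xG D hD s (t ^ q) * (hGt D hD s (lam ^ q))⁻¹) *
          (hGt D hD r lam)⁻¹) := by group
    beta_reduce
    rw [e, hGt_conj_xG D hD s r hs hr _ hl0, hGt_conj_xG D hD s s hs hs _ hl0,
      hGt_conj_xG D hD r r hr hr _ h0, hGt_conj_xG D hD r s hr hs _ h0, hrr, hss, hrs, hsr]
    congr 2
    · rw [zpow_zero, one_mul]
      norm_cast
    · rw [zpow_zero, one_mul, mul_pow]
      norm_cast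
      ring
  · intro t u
    have c := (orth_commute (F := F) D hD r s horth u (t ^ q)).1
    beta_reduce
    calc xG D hD r t * xG D hD s (t ^ q) * (xG D hD r u * xG D hD s (u ^ q))
        = xG D hD r t * (xG D hD s (t ^ q) * xG D hD r u) * xG D hD s (u ^ q) := by group
      _ = xG D hD r t * (xG D hD r u * xG D hD s (t ^ q)) * xG D hD s (u ^ q) := by rw [c.eq]
      _ = (xG D hD r t * xG D hD r u) * (xG D hD s (t ^ q) * xG D hD s (u ^ q)) := by group
      _ = _ := by rw [xG_mul, xG_mul, hfrob]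

end

end Cfsg.Agent.helper5.Chev

namespace Cfsg.Agent.helper5.Chev

open scoped commutatorElement

theorem perfect_of_le {G : Type*} [Group G] (H : Subgroup G) (h : H ≤ ⁅H, H⁆) :
    commutator ↥H = ⊤ := by
  rw [eq_top_iff]
  intro x _
  have hx : (x : G) ∈ ⁅H, H⁆ := h x.2
  rw [← Subgroup.map_subtype_commutator H] at hx
  obtain ⟨y, hy, hyx⟩ := hx
  have : y = x := Subtype.ext hyx
  rwa [this] at hy

/-- the elements of the prime field type are stable under negation -/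
theorem fixed_neg {K : Type*} [Field K] {q : ℕ} (hq1 : (-1 : K) ^ q = -1) :
    ∀ t ∈ {t : K | t ^ q = t}, -t ∈ {t : K | t ^ q = t} := by
  intro t ht
  simp only [Set.mem_setOf_eq] at ht ⊢
  rw [neg_pow, hq1, ht]
  ring

theorem fixed_int_mul {K : Type*} [Field K] {q : ℕ} (hq1 : (-1 : K) ^ q = -1) (c : ℤ)
    (hc : c * c = 1) (t : K) (ht : t ^ q = t) : (-((c : ℤ) : K) * t) ^ q = -((c : ℤ) : K) * t := by
  rcases Int.isUnit_iff.mp (IsUnit.of_mul_eq_one c hc) with rfl | rfl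
  · rw [Int.cast_one, neg_one_mul, neg_pow, hq1, ht]
    ring
  · rw [Int.cast_neg, Int.cast_one, neg_neg, one_mul, ht]

end Cfsg.Agent.helper5.Chev

namespace Cfsg.Agent.helper5.Chev

open Cfsg.Lie

open scoped commutatorElement

section
variable {F : Type*} [Field F] (D : ChevalleyDatum)
  (hD : D ∈ [chevG2, chevB2, chevD4, chevF4, chevE6, chevE7, chevE8])

include hD in
theorem nGt_triple' (r s u : ℕ) (h1 : orthChk D r s = true) (h2 : orthChk D r u = true)
    (h3 : orthChk D s u = true) (a b c : F) :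
    nGt (F := F) D hD r a * nGt D hD s b * nGt D hD u c =
      (xG D hD r a * xG D hD s b * xG D hD u c) *
      (xG D hD (D.neg r) (-a⁻¹) * xG D hD (D.neg s) (-b⁻¹) * xG D hD (D.neg u) (-c⁻¹)) *
        (xG D hD r a * xG D hD s b * xG D hD u c) := by
  rw [nGt_pair' D hD r s h1]
  have c2 := orth_commute (F := F) D hD r u h2
  have c3 := orth_commute (F := F) D hD s u h3
  have e : nGt (F := F) D hD u c = xG D hD u c * xG D hD (D.neg u) (-c⁻¹) * xG D hD u c := rfl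
  rw [e]
  exact nnn_rearrange _ _ _ _ ((c2 a c).1.mul_left (c3 b c).1)
    ((c2 a (-c⁻¹)).2.1.mul_left (c3 b (-c⁻¹)).2.1)
    ((c2 (-a⁻¹) c).2.2.1.mul_left (c3 (-b⁻¹) c).2.2.1)
    ((c2 (-a⁻¹) (-c⁻¹)).2.2.2.mul_left (c3 (-b⁻¹) (-c⁻¹)).2.2.2)

include hD in
/-- the torus element `h_r(a) h_s(a^q) h_u(a^(q^2))` of a class `{r, s, u}` lies in `G¹` -/
theorem htriple_mem (G1 : Subgroup (GL D.Idx F)) (q : ℕ) (hq1 : (-1 : F) ^ q = -1)
    (hq2 : (-1 : F) ^ (q ^ 2) = -1) (r s u : ℕ)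
    (h1 : orthChk D r s = true) (h2 : orthChk D r u = true) (h3 : orthChk D s u = true)
    (hpos : ∀ t : F, xG D hD r t * xG D hD s (t ^ q) * xG D hD u (t ^ (q ^ 2)) ∈ G1)
    (hneg : ∀ t : F, xG D hD (D.neg r) t * xG D hD (D.neg s) (t ^ q) *
      xG D hD (D.neg u) (t ^ (q ^ 2)) ∈ G1) (a : F) :
    hGt D hD r a * hGt D hD s (a ^ q) * hGt D hD u (a ^ (q ^ 2)) ∈ G1 := by
  have e : hGt D hD r a * hGt D hD s (a ^ q) * hGt D hD u (a ^ (q ^ 2)) =
      (nGt D hD r a * nGt D hD s (a ^ q) * nGt D hD u (a ^ (q ^ 2))) *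
        (nGt D hD r (-1) * nGt D hD s (-1) * nGt D hD u (-1)) := by
    unfold hGt
    have c1 := nGt_commute (F := F) D hD r s h1 (-1) (a ^ q)
    have c2 := nGt_commute (F := F) D hD r u h2 (-1) (a ^ (q ^ 2))
    have c3 := nGt_commute (F := F) D hD s u h3 (-1) (a ^ (q ^ 2))
    calc nGt D hD r a * nGt D hD r (-1) * (nGt D hD s (a ^ q) * nGt D hD s (-1)) *
          (nGt D hD u (a ^ (q ^ 2)) * nGt D hD u (-1))
        = nGt D hD r a * (nGt D hD r (-1) * nGt D hD s (a ^ q)) *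
            (nGt D hD s (-1) * nGt D hD u (a ^ (q ^ 2))) * nGt D hD u (-1) := by group
      _ = nGt D hD r a * (nGt D hD s (a ^ q) * nGt D hD r (-1)) *
            (nGt D hD u (a ^ (q ^ 2)) * nGt D hD s (-1)) * nGt D hD u (-1) := by
          rw [c1.eq, c3.eq]
      _ = nGt D hD r a * nGt D hD s (a ^ q) * (nGt D hD r (-1) * nGt D hD u (a ^ (q ^ 2))) *
            nGt D hD s (-1) * nGt D hD u (-1) := by group
      _ = nGt D hD r a * nGt D hD s (a ^ q) * (nGt D hD u (a ^ (q ^ 2)) * nGt D hD r (-1)) *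
            nGt D hD s (-1) * nGt D hD u (-1) := by rw [c2.eq]
      _ = _ := by group
  rw [e, nGt_triple' D hD r s u h1 h2 h3, nGt_triple' D hD r s u h1 h2 h3]
  have e1 : -(a ^ q)⁻¹ = (-a⁻¹) ^ q := by
    rw [neg_pow, hq1, inv_pow]
    ring
  have e1' : -(a ^ (q ^ 2))⁻¹ = (-a⁻¹) ^ (q ^ 2) := by
    rw [neg_pow, hq2, inv_pow]
    ring
  have e3 : (-(-1 : F)⁻¹) = 1 := by norm_num
  have m1 := hpos a
  have m2 := hneg (-a⁻¹)
  rw [← e1, ← e1'] at m2
  have m3 := hpos (-1)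
  rw [hq1, hq2] at m3
  have m4 := hneg 1
  rw [one_pow, one_pow] at m4
  rw [e3]
  exact G1.mul_mem (G1.mul_mem (G1.mul_mem m1 m2) m1) (G1.mul_mem (G1.mul_mem m3 m4) m3)

include hD in
/-- the elements of a class `{r, s, u}` of three mutually orthogonal roots lie in the derived
group of `G¹` -/
theorem triple_class_comm (G1 : Subgroup (GL D.Idx F)) (q : ℕ)
    (hfrob : ∀ a b : F, (a + b) ^ q = a ^ q + b ^ q)
    (hfrob2 : ∀ a b : F, (a + b) ^ (q ^ 2) = a ^ (q ^ 2) + b ^ (q ^ 2))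
    (hq1 : (-1 : F) ^ q = -1) (hq2 : (-1 : F) ^ (q ^ 2) = -1)
    (lam : F) (h0 : lam ≠ 0) (h2 : lam ^ 2 ≠ 1) (r s u : ℕ) (hr : r < D.nroots)
    (hs : s < D.nroots) (hu : u < D.nroots)
    (o1 : orthChk D r s = true) (o2 : orthChk D r u = true) (o3 : orthChk D s u = true)
    (hrr : cartanRS D r r = 2) (hss : cartanRS D s s = 2) (huu : cartanRS D u u = 2)
    (hrs : cartanRS D r s = 0) (hsr : cartanRS D s r = 0) (hru : cartanRS D r u = 0)
    (hur : cartanRS D u r = 0) (hsu : cartanRS D s u = 0) (hus : cartanRS D u s = 0)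
    (hpos : ∀ t : F, xG D hD r t * xG D hD s (t ^ q) * xG D hD u (t ^ (q ^ 2)) ∈ G1)
    (hneg : ∀ t : F, xG D hD (D.neg r) t * xG D hD (D.neg s) (t ^ q) *
      xG D hD (D.neg u) (t ^ (q ^ 2)) ∈ G1) (t : F) :
    xG D hD r t * xG D hD s (t ^ q) * xG D hD u (t ^ (q ^ 2)) ∈ ⁅G1, G1⁆ := by
  have hl1 : lam ^ q ≠ 0 := pow_ne_zero _ h0
  have hl2 : lam ^ (q ^ 2) ≠ 0 := pow_ne_zero _ h0
  refine torus_trick G1 (fun t => xG D hD r t * xG D hD s (t ^ q) * xG D hD u (t ^ (q ^ 2)))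
    (hGt D hD r lam * hGt D hD s (lam ^ q) * hGt D hD u (lam ^ (q ^ 2))) (lam ^ 2)
    (htriple_mem D hD G1 q hq1 hq2 r s u o1 o2 o3 hpos hneg lam) hpos ?_ ?_ h2 t
  · intro t
    have key : ∀ (v : ℕ) (z : F), v < D.nroots →
        hGt D hD r lam * hGt D hD s (lam ^ q) * hGt D hD u (lam ^ (q ^ 2)) * xG D hD v z *
          (hGt D hD r lam * hGt D hD s (lam ^ q) * hGt D hD u (lam ^ (q ^ 2)))⁻¹ =
        xG D hD v (lam ^ cartanRS D r v * ((lam ^ q) ^ cartanRS D s v *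
          ((lam ^ (q ^ 2)) ^ cartanRS D u v * z))) := by
      intro v z hv
      rw [← hGt_conj_xG D hD r v hr hv _ h0, ← hGt_conj_xG D hD s v hs hv _ hl1,
        ← hGt_conj_xG D hD u v hu hv _ hl2]
      group
    have e : hGt D hD r lam * hGt D hD s (lam ^ q) * hGt D hD u (lam ^ (q ^ 2)) *
        (xG D hD r t * xG D hD s (t ^ q) * xG D hD u (t ^ (q ^ 2))) *
        (hGt D hD r lam * hGt D hD s (lam ^ q) * hGt D hD u (lam ^ (q ^ 2)))⁻¹ =
        (hGt D hD r lam * hGt D hD s (lam ^ q) * hGt D hD u (lam ^ (q ^ 2)) * xG D hD r t *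
          (hGt D hD r lam * hGt D hD s (lam ^ q) * hGt D hD u (lam ^ (q ^ 2)))⁻¹) *
        (hGt D hD r lam * hGt D hD s (lam ^ q) * hGt D hD u (lam ^ (q ^ 2)) * xG D hD s (t ^ q) *
          (hGt D hD r lam * hGt D hD s (lam ^ q) * hGt D hD u (lam ^ (q ^ 2)))⁻¹) *
        (hGt D hD r lam * hGt D hD s (lam ^ q) * hGt D hD u (lam ^ (q ^ 2)) *
          xG D hD u (t ^ (q ^ 2)) *
          (hGt D hD r lam * hGt D hD s (lam ^ q) * hGt D hD u (lam ^ (q ^ 2)))⁻¹) := by group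
    beta_reduce
    rw [e, key r _ hr, key s _ hs, key u _ hu, hrr, hss, huu, hrs, hsr, hru, hur, hsu, hus]
    have a1 : lam ^ (2 : ℤ) * ((lam ^ q) ^ (0 : ℤ) * ((lam ^ (q ^ 2)) ^ (0 : ℤ) * t)) =
        lam ^ 2 * t := by
      rw [zpow_zero, zpow_zero, one_mul, one_mul, zpow_ofNat]
    have a2 : lam ^ (0 : ℤ) * ((lam ^ q) ^ (2 : ℤ) * ((lam ^ (q ^ 2)) ^ (0 : ℤ) * t ^ q)) =
        (lam ^ 2 * t) ^ q := by
      rw [zpow_zero, zpow_zero, one_mul, one_mul, zpow_ofNat, mul_pow]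
      ring
    have a3 : lam ^ (0 : ℤ) * ((lam ^ q) ^ (0 : ℤ) * ((lam ^ (q ^ 2)) ^ (2 : ℤ) * t ^ (q ^ 2))) =
        (lam ^ 2 * t) ^ (q ^ 2) := by
      rw [zpow_zero, zpow_zero, one_mul, one_mul, zpow_ofNat, mul_pow]
      ring
    rw [a1, a2, a3]
  · intro t v
    have c1 := fun a b => (orth_commute (F := F) D hD r s o1 a b).1
    have c2 := fun a b => (orth_commute (F := F) D hD r u o2 a b).1
    have c3 := fun a b => (orth_commute (F := F) D hD s u o3 a b).1
    beta_reduce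
    have k1 : Commute (xG D hD s (t ^ q) * xG D hD u (t ^ (q ^ 2))) (xG D hD r v) :=
      ((c1 v (t ^ q)).symm.mul_left (c2 v (t ^ (q ^ 2))).symm)
    have k2 : Commute (xG D hD u (t ^ (q ^ 2))) (xG D hD s (v ^ q)) := (c3 _ _).symm
    calc xG D hD r t * xG D hD s (t ^ q) * xG D hD u (t ^ (q ^ 2)) *
          (xG D hD r v * xG D hD s (v ^ q) * xG D hD u (v ^ (q ^ 2)))
        = xG D hD r t * ((xG D hD s (t ^ q) * xG D hD u (t ^ (q ^ 2))) * xG D hD r v) *
            xG D hD s (v ^ q) * xG D hD u (v ^ (q ^ 2)) := by group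
      _ = xG D hD r t * (xG D hD r v * (xG D hD s (t ^ q) * xG D hD u (t ^ (q ^ 2)))) *
            xG D hD s (v ^ q) * xG D hD u (v ^ (q ^ 2)) := by rw [k1.eq]
      _ = xG D hD r t * xG D hD r v * xG D hD s (t ^ q) *
            (xG D hD u (t ^ (q ^ 2)) * xG D hD s (v ^ q)) * xG D hD u (v ^ (q ^ 2)) := by group
      _ = xG D hD r t * xG D hD r v * xG D hD s (t ^ q) *
            (xG D hD s (v ^ q) * xG D hD u (t ^ (q ^ 2))) * xG D hD u (v ^ (q ^ 2)) := by
          rw [k2.eq]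
      _ = (xG D hD r t * xG D hD r v) * (xG D hD s (t ^ q) * xG D hD s (v ^ q)) *
            (xG D hD u (t ^ (q ^ 2)) * xG D hD u (v ^ (q ^ 2))) := by group
      _ = _ := by rw [xG_mul, xG_mul, xG_mul, hfrob, hfrob2]

end

end Cfsg.Agent.helper5.Chev
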