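import Mathlib
import Cfsg.Prelude.Def_ChevStructure

set_option autoImplicit false

/-! Signed permutation matrices realising graph automorphisms of Chevalley groups: table checks
and the conjugation formula for fundamental root elements (helper6). -/

namespace Cfsg.Agent.helper6.Graph

open Cfsg.Lie

/-- certificate: the permutation `rho` of the fundamental roots, the induced permutation `pi` of
the roots, their inverses, and the signs `eps` -/
structure Cert where
  rho : List ℕ
  rhoInv : List ℕ
  pi : List ℕ
  piInv : List ℕ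
  eps : List ℤ

def gi (l : List ℕ) (i : ℕ) : ℕ := l.getD i 0

def ge (l : List ℤ) (i : ℕ) : ℤ := l.getD i 0

/-- the permutations are mutually inverse, `pi` extends `rho`, the signs are `±1` -/
def permCheck (D : ChevalleyDatum) (C : Cert) : Bool :=
  ((List.range D.rank).all fun i =>
    decide (gi C.rho i < D.rank) && decide (gi C.rhoInv i < D.rank) &&
    (gi C.rhoInv (gi C.rho i) == i) && (gi C.rho (gi C.rhoInv i) == i) &&
    (gi C.pi (D.simple i) == D.simple (gi C.rho i))) &&
  ((List.range D.nroots).all fun r =>
    decide (gi C.pi r < D.nroots) && decide (gi C.piInv r < D.nroots) &&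
    (gi C.piInv (gi C.pi r) == r) && (gi C.pi (gi C.piInv r) == r) &&
    ((ge C.eps r == 1) || (ge C.eps r == -1)))

/-- the check for a generator root `g` -/
def genCheck (D : ChevalleyDatum) (C : Cert) (g : ℕ) : Bool :=
  decide (g < D.nroots) && decide (D.neg g < D.nroots) &&
  (ge C.eps g == 1) && (ge C.eps (D.neg g) == 1) &&
  (gi C.pi (D.neg g) == D.neg (gi C.pi g)) && !(D.neg g == g) &&
  ((List.range D.rank).all fun j =>
    ((D.cartanSR.getD (gi C.rho j) #[]).getD (gi C.pi g) 0 == (D.cartanSR.getD j #[]).getD g 0) &&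
    ((D.coroot.getD (gi C.pi g) #[]).getD (gi C.rho j) 0 == (D.coroot.getD g #[]).getD j 0)) &&
  ((List.range D.nroots).all fun s => (List.range D.nroots).all fun u =>
    (D.chainCoeff (gi C.pi g) (gi C.pi s) (gi C.pi u) ==
      (D.chainCoeff g s u).map fun km => (km.1, km.2 * ge C.eps s * ge C.eps u)))

structure PermOK (D : ChevalleyDatum) (C : Cert) : Prop where
  rho_lt : ∀ i < D.rank, gi C.rho i < D.rank
  rhoInv_lt : ∀ i < D.rank, gi C.rhoInv i < D.rank
  rho_left : ∀ i < D.rank, gi C.rhoInv (gi C.rho i) = i
  rho_right : ∀ i < D.rank, gi C.rho (gi C.rhoInv i) = i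
  pi_simple : ∀ i < D.rank, gi C.pi (D.simple i) = D.simple (gi C.rho i)
  pi_lt : ∀ r < D.nroots, gi C.pi r < D.nroots
  piInv_lt : ∀ r < D.nroots, gi C.piInv r < D.nroots
  pi_left : ∀ r < D.nroots, gi C.piInv (gi C.pi r) = r
  pi_right : ∀ r < D.nroots, gi C.pi (gi C.piInv r) = r
  eps_pm : ∀ r < D.nroots, ge C.eps r = 1 ∨ ge C.eps r = -1

theorem permOK_of_check (D : ChevalleyDatum) (C : Cert) (h : permCheck D C = true) :
    PermOK D C := by
  unfold permCheck at h
  simp only [Bool.and_eq_true, Bool.or_eq_true, decide_eq_true_eq, beq_iff_eq, List.all_eq_true,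
    List.mem_range] at h
  obtain ⟨h1, h2⟩ := h
  exact
    { rho_lt := fun i hi => (h1 i hi).1.1.1.1
      rhoInv_lt := fun i hi => (h1 i hi).1.1.1.2
      rho_left := fun i hi => (h1 i hi).1.1.2
      rho_right := fun i hi => (h1 i hi).1.2
      pi_simple := fun i hi => (h1 i hi).2
      pi_lt := fun r hr => (h2 r hr).1.1.1.1
      piInv_lt := fun r hr => (h2 r hr).1.1.1.2
      pi_left := fun r hr => (h2 r hr).1.1.2
      pi_right := fun r hr => (h2 r hr).1.2
      eps_pm := fun r hr => (h2 r hr).2 }

structure GenOK (D : ChevalleyDatum) (C : Cert) (g : ℕ) : Prop where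
  g_lt : g < D.nroots
  neg_lt : D.neg g < D.nroots
  eps_g : ge C.eps g = 1
  eps_neg : ge C.eps (D.neg g) = 1
  pi_neg : gi C.pi (D.neg g) = D.neg (gi C.pi g)
  neg_ne : D.neg g ≠ g
  cartan : ∀ j < D.rank, (D.cartanSR.getD (gi C.rho j) #[]).getD (gi C.pi g) 0 =
    (D.cartanSR.getD j #[]).getD g 0
  coroot : ∀ j < D.rank, (D.coroot.getD (gi C.pi g) #[]).getD (gi C.rho j) 0 =
    (D.coroot.getD g #[]).getD j 0
  chain : ∀ s < D.nroots, ∀ u < D.nroots,
    D.chainCoeff (gi C.pi g) (gi C.pi s) (gi C.pi u) =
      (D.chainCoeff g s u).map fun km => (km.1, km.2 * ge C.eps s * ge C.eps u)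

theorem genOK_of_check (D : ChevalleyDatum) (C : Cert) (g : ℕ) (h : genCheck D C g = true) :
    GenOK D C g := by
  unfold genCheck at h
  simp only [Bool.and_eq_true, decide_eq_true_eq, beq_iff_eq, List.all_eq_true,
    List.mem_range, Bool.not_eq_true', beq_eq_false_iff_ne, ne_eq] at h
  obtain ⟨⟨⟨⟨⟨⟨⟨a1, a2⟩, a3⟩, a4⟩, a5⟩, a6⟩, a7⟩, a8⟩ := h
  exact
    { g_lt := a1
      neg_lt := a2
      eps_g := a3
      eps_neg := a4
      pi_neg := a5
      neg_ne := a6
      cartan := fun j hj => (a7 j hj).1
      coroot := fun j hj => (a7 j hj).2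
      chain := fun s hs u hu => a8 s hs u hu }

section
variable {D : ChevalleyDatum} {C : Cert}

/-- the permutation of the coordinates -/
def sigmaFun (D : ChevalleyDatum) (C : Cert) (h : PermOK D C) : D.Idx → D.Idx
  | Sum.inl i => Sum.inl ⟨gi C.rho i.val, h.rho_lt i.val i.2⟩
  | Sum.inr s => Sum.inr ⟨gi C.pi s.val, h.pi_lt s.val s.2⟩

def sigmaInv (D : ChevalleyDatum) (C : Cert) (h : PermOK D C) : D.Idx → D.Idx
  | Sum.inl i => Sum.inl ⟨gi C.rhoInv i.val, h.rhoInv_lt i.val i.2⟩
  | Sum.inr s => Sum.inr ⟨gi C.piInv s.val, h.piInv_lt s.val s.2⟩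

def sigma (D : ChevalleyDatum) (C : Cert) (h : PermOK D C) : D.Idx ≃ D.Idx where
  toFun := sigmaFun D C h
  invFun := sigmaInv D C h
  left_inv := by
    rintro (i | s)
    · simp only [sigmaFun, sigmaInv]
      congr 1
      exact Fin.ext (h.rho_left i.val i.2)
    · simp only [sigmaFun, sigmaInv]
      congr 1
      exact Fin.ext (h.pi_left s.val s.2)
  right_inv := by
    rintro (i | s)
    · simp only [sigmaFun, sigmaInv]
      congr 1
      exact Fin.ext (h.rho_right i.val i.2)
    · simp only [sigmaFun, sigmaInv]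
      congr 1
      exact Fin.ext (h.pi_right s.val s.2)

/-- the sign of a coordinate -/
def epsI (D : ChevalleyDatum) (C : Cert) : D.Idx → ℤ
  | Sum.inl _ => 1
  | Sum.inr s => ge C.eps s.val

theorem pi_inj (h : PermOK D C) (r s : ℕ) (hr : r < D.nroots) (hs : s < D.nroots)
    (he : gi C.pi r = gi C.pi s) : r = s := by
  rw [← h.pi_left r hr, ← h.pi_left s hs, he]

theorem rho_inj (h : PermOK D C) (i j : ℕ) (hi : i < D.rank) (hj : j < D.rank)
    (he : gi C.rho i = gi C.rho j) : i = j := by
  rw [← h.rho_left i hi, ← h.rho_left j hj, he]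

variable {F : Type*} [Field F]

theorem eps_sq (h : PermOK D C) (r : ℕ) (hr : r < D.nroots) :
    ((ge C.eps r : ℤ) : F) * ((ge C.eps r : ℤ) : F) = 1 := by
  rcases h.eps_pm r hr with h1 | h1 <;> rw [h1] <;> norm_num

theorem epsI_sq (h : PermOK D C) (a : D.Idx) :
    ((epsI D C a : ℤ) : F) * ((epsI D C a : ℤ) : F) = 1 := by
  rcases a with i | s
  · simp [epsI]
  · exact eps_sq h s.val s.2

/-- **the entrywise transformation rule** of a fundamental root element under the signed
permutation -/
theorem xMat_sigma (h : PermOK D C) (g : ℕ) (hg : GenOK D C g) (t : F) (c b : D.Idx) :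
    D.xMat F ⟨gi C.pi g, h.pi_lt g hg.g_lt⟩ t (sigma D C h c) (sigma D C h b) =
      ((epsI D C c : ℤ) : F) * ((epsI D C b : ℤ) : F) * D.xMat F ⟨g, hg.g_lt⟩ t c b := by
  have hsig : ∀ a : D.Idx, sigma D C h a = sigmaFun D C h a := fun _ => rfl
  rw [hsig, hsig]
  unfold ChevalleyDatum.xMat
  simp only [Matrix.of_apply]
  rcases b with i | s
  · -- column `h_i`
    rcases c with i' | u
    · simp only [sigmaFun, epsI]
      by_cases hi : i' = i
      · subst hi
        simp
      · have hne : (⟨gi C.rho i'.val, h.rho_lt i'.val i'.2⟩ : Fin D.rank) ≠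
            ⟨gi C.rho i.val, h.rho_lt i.val i.2⟩ := by
          intro he
          apply hi
          exact Fin.ext (rho_inj h _ _ i'.2 i.2 (Fin.mk.inj he))
        rw [if_neg hne, if_neg hi]
        simp
    · simp only [sigmaFun, epsI]
      by_cases hu : u = ⟨g, hg.g_lt⟩
      · subst hu
        rw [if_pos rfl, if_pos rfl]
        simp only [hg.eps_g, Int.cast_one, one_mul]
        rw [hg.cartan i.val i.2]
      · have hne : (⟨gi C.pi u.val, h.pi_lt u.val u.2⟩ : Fin D.nroots) ≠
            ⟨gi C.pi g, h.pi_lt g hg.g_lt⟩ := by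
          intro he
          apply hu
          exact Fin.ext (pi_inj h _ _ u.2 hg.g_lt (Fin.mk.inj he))
        rw [if_neg hne, if_neg hu]
        simp
  · -- column `e_s`
    simp only [sigmaFun]
    by_cases hsg : s = ⟨g, hg.g_lt⟩
    · subst hsg
      rw [if_pos rfl, if_pos rfl]
      rcases c with i' | u
      · simp
      · simp only [epsI]
        by_cases hu : u = ⟨g, hg.g_lt⟩
        · subst hu
          rw [if_pos rfl, if_pos rfl]
          simp [hg.eps_g]
        · have hne : (⟨gi C.pi u.val, h.pi_lt u.val u.2⟩ : Fin D.nroots) ≠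
              ⟨gi C.pi g, h.pi_lt g hg.g_lt⟩ := by
            intro he
            apply hu
            exact Fin.ext (pi_inj h _ _ u.2 hg.g_lt (Fin.mk.inj he))
          rw [if_neg hne, if_neg hu]
          simp
    · have hne1 : (⟨gi C.pi s.val, h.pi_lt s.val s.2⟩ : Fin D.nroots) ≠
          ⟨gi C.pi g, h.pi_lt g hg.g_lt⟩ := by
        intro he
        apply hsg
        exact Fin.ext (pi_inj h _ _ s.2 hg.g_lt (Fin.mk.inj he))
      rw [if_neg hne1, if_neg hsg]
      by_cases hneg : s.val = D.negIdx.getD g 0
      · -- `s = -g`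
        have hneg' : gi C.pi s.val = D.negIdx.getD (gi C.pi g) 0 := by
          rw [hneg]
          exact hg.pi_neg
        have hes : ge C.eps s.val = 1 := by
          rw [hneg]
          exact hg.eps_neg
        rw [if_pos hneg', if_pos hneg]
        rcases c with i' | u
        · simp only [epsI, hes, Int.cast_one, one_mul]
          rw [hg.coroot i'.val i'.2]
        · simp only [epsI, hes, Int.cast_one, mul_one]
          by_cases hu : u = s
          · subst hu
            rw [if_pos rfl, if_pos rfl]
            simp [hes]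
          · have hne : (⟨gi C.pi u.val, h.pi_lt u.val u.2⟩ : Fin D.nroots) ≠
                ⟨gi C.pi s.val, h.pi_lt s.val s.2⟩ := by
              intro he
              apply hu
              exact Fin.ext (pi_inj h _ _ u.2 s.2 (Fin.mk.inj he))
            rw [if_neg hne, if_neg hu]
            by_cases hug : u = ⟨g, hg.g_lt⟩
            · subst hug
              rw [if_pos rfl, if_pos rfl]
              simp [hg.eps_g]
            · have hne2 : (⟨gi C.pi u.val, h.pi_lt u.val u.2⟩ : Fin D.nroots) ≠
                  ⟨gi C.pi g, h.pi_lt g hg.g_lt⟩ := by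
                intro he
                apply hug
                exact Fin.ext (pi_inj h _ _ u.2 hg.g_lt (Fin.mk.inj he))
              rw [if_neg hne2, if_neg hug]
              simp
      · -- generic column
        have hneg' : gi C.pi s.val ≠ D.negIdx.getD (gi C.pi g) 0 := by
          intro he
          apply hneg
          have h1 : gi C.pi s.val = gi C.pi (D.neg g) := by
            rw [he]
            exact hg.pi_neg.symm
          exact pi_inj h _ _ s.2 hg.neg_lt h1
        rw [if_neg hneg', if_neg hneg]
        rcases c with i' | u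
        · simp
        · simp only [epsI]
          rw [hg.chain s.val s.2 u.val u.2, List.map_map]
          have hsum : ((D.chainCoeff g s.val u.val).map
              ((fun km : ℕ × ℤ => ((km.2 : ℤ) : F) * t ^ km.1) ∘
                fun km : ℕ × ℤ => (km.1, km.2 * ge C.eps s.val * ge C.eps u.val))).sum =
              ((ge C.eps u.val : ℤ) : F) * ((ge C.eps s.val : ℤ) : F) *
                ((D.chainCoeff g s.val u.val).map
                  fun km : ℕ × ℤ => ((km.2 : ℤ) : F) * t ^ km.1).sum := by
            rw [← List.sum_map_mul_left]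
            congr 1
            apply List.map_congr_left
            intro km _
            simp only [Function.comp]
            push_cast
            ring
          rw [hsum]
          by_cases hu : u = s
          · subst hu
            rw [if_pos rfl, if_pos rfl, mul_add, mul_one, eps_sq h u.val u.2]
          · have hne : (⟨gi C.pi u.val, h.pi_lt u.val u.2⟩ : Fin D.nroots) ≠
                ⟨gi C.pi s.val, h.pi_lt s.val s.2⟩ := by
              intro he
              apply hu
              exact Fin.ext (pi_inj h _ _ u.2 s.2 (Fin.mk.inj he))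
            rw [if_neg hne, if_neg hu, zero_add, zero_add]

/-- the signed permutation matrix -/
def PMat (D : ChevalleyDatum) (C : Cert) (h : PermOK D C) (F : Type*) [Field F] :
    Matrix D.Idx D.Idx F :=
  Matrix.of fun a b => if a = sigma D C h b then ((epsI D C b : ℤ) : F) else 0

theorem PMat_mul_transpose (h : PermOK D C) :
    PMat D C h F * (PMat D C h F).transpose = 1 := by
  classical
  ext a a'
  rw [Matrix.mul_apply, Matrix.one_apply]
  simp only [PMat, Matrix.transpose_apply, Matrix.of_apply]
  rw [Finset.sum_eq_single ((sigma D C h).symm a)]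
  · rw [if_pos (by simp)]
    by_cases haa : a = a'
    · subst haa
      rw [if_pos (by simp), if_pos rfl]
      exact epsI_sq h _
    · rw [if_neg haa, if_neg, mul_zero]
      intro he
      apply haa
      rw [he]
      simp
  · intro b _ hb
    rw [if_neg, zero_mul]
    intro he
    apply hb
    rw [he]
    simp
  · intro hn
    exact absurd (Finset.mem_univ _) hn

theorem PMat_transpose_mul (h : PermOK D C) :
    (PMat D C h F).transpose * PMat D C h F = 1 := by
  classical
  ext b b'
  rw [Matrix.mul_apply, Matrix.one_apply]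
  simp only [PMat, Matrix.transpose_apply, Matrix.of_apply]
  rw [Finset.sum_eq_single (sigma D C h b)]
  · rw [if_pos rfl]
    by_cases hbb : b = b'
    · subst hbb
      rw [if_pos rfl, if_pos rfl]
      exact epsI_sq h _
    · rw [if_neg hbb, if_neg, mul_zero]
      intro he
      exact hbb ((sigma D C h).injective he)
  · intro a _ ha
    rw [if_neg ha, zero_mul]
  · intro hn
    exact absurd (Finset.mem_univ _) hn

/-- **conjugation of a fundamental root element by the signed permutation matrix** -/
theorem PMat_mul_xMat (h : PermOK D C) (g : ℕ) (hg : GenOK D C g) (t : F) :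
    PMat D C h F * D.xMat F ⟨g, hg.g_lt⟩ t =
      D.xMat F ⟨gi C.pi g, h.pi_lt g hg.g_lt⟩ t * PMat D C h F := by
  classical
  ext a b
  rw [Matrix.mul_apply, Matrix.mul_apply]
  simp only [PMat, Matrix.of_apply]
  rw [Finset.sum_eq_single ((sigma D C h).symm a), Finset.sum_eq_single (sigma D C h b)]
  · rw [if_pos (by simp), if_pos rfl]
    have h1 := xMat_sigma h g hg t ((sigma D C h).symm a) b
    rw [Equiv.apply_symm_apply] at h1
    rw [h1]
    have h2 := epsI_sq (F := F) h b
    calc ((epsI D C ((sigma D C h).symm a) : ℤ) : F) *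
          D.xMat F ⟨g, hg.g_lt⟩ t ((sigma D C h).symm a) b
        = ((epsI D C ((sigma D C h).symm a) : ℤ) : F) *
          D.xMat F ⟨g, hg.g_lt⟩ t ((sigma D C h).symm a) b *
            (((epsI D C b : ℤ) : F) * ((epsI D C b : ℤ) : F)) := by rw [h2, mul_one]
      _ = _ := by ring
  · intro c _ hc
    rw [if_neg hc, mul_zero]
  · intro hn
    exact absurd (Finset.mem_univ _) hn
  · intro c _ hc
    rw [if_neg, zero_mul]
    intro he
    apply hc
    rw [he]
    simp
  · intro hn
    exact absurd (Finset.mem_univ _) hn

end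

end Cfsg.Agent.helper6.Graph
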