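import Mathlib
import Cfsg.Agent.Lib_helper5_ChevBN1
import Cfsg.Agent.Lib_helper6_GraphChk

set_option autoImplicit false

/-! Graph automorphisms of Chevalley groups as conjugation by a signed permutation matrix
(helper6). -/

namespace Cfsg.Agent.helper6.Graph

open Cfsg.Lie Cfsg.Agent.helper5.Chev

theorem conj_mem_closure {G : Type*} [Group G] (S : Set G) (a : G)
    (h : ∀ g ∈ S, a * g * a⁻¹ ∈ Subgroup.closure S) :
    ∀ g ∈ Subgroup.closure S, a * g * a⁻¹ ∈ Subgroup.closure S := by
  intro g hg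
  induction hg using Subgroup.closure_induction with
  | mem x hx => exact h x hx
  | one =>
    rw [mul_one, mul_inv_cancel]
    exact Subgroup.one_mem _
  | mul x y _ _ hx hy =>
    have : a * (x * y) * a⁻¹ = (a * x * a⁻¹) * (a * y * a⁻¹) := by group
    rw [this]
    exact Subgroup.mul_mem _ hx hy
  | inv x _ hx =>
    have : a * x⁻¹ * a⁻¹ = (a * x * a⁻¹)⁻¹ := by group
    rw [this]
    exact Subgroup.inv_mem _ hx

/-- conjugation by `P` as an automorphism of a subgroup it normalises -/
def conjEquiv {G : Type*} [Group G] (K : Subgroup G) (P : G)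
    (h1 : ∀ g ∈ K, P * g * P⁻¹ ∈ K) (h2 : ∀ g ∈ K, P⁻¹ * g * P ∈ K) : ↥K ≃* ↥K where
  toFun g := ⟨P * g.1 * P⁻¹, h1 g.1 g.2⟩
  invFun g := ⟨P⁻¹ * g.1 * P, h2 g.1 g.2⟩
  left_inv g := by
    apply Subtype.ext
    show P⁻¹ * (P * g.1 * P⁻¹) * P = g.1
    group
  right_inv g := by
    apply Subtype.ext
    show P * (P⁻¹ * g.1 * P) * P⁻¹ = g.1
    group
  map_mul' a b := by
    apply Subtype.ext
    show P * (a.1 * b.1) * P⁻¹ = (P * a.1 * P⁻¹) * (P * b.1 * P⁻¹)
    group

section
variable {F : Type*} [Field F] (D : ChevalleyDatum)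
  (hD : D ∈ [chevG2, chevB2, chevD4, chevF4, chevE6, chevE7, chevE8])

/-- the set of fundamental root elements and their opposites -/
def fundSet : Set (GL D.Idx F) :=
  {g | ∃ i < D.rank, ∃ t : F, g = xG D hD (D.simple i) t ∨ g = xG D hD (D.neg (D.simple i)) t}

theorem xG_simple_mem_fund (i : ℕ) (hi : i < D.rank) (t : F) :
    xG D hD (D.simple i) t ∈ Subgroup.closure (fundSet (F := F) D hD) :=
  Subgroup.subset_closure ⟨i, hi, t, Or.inl rfl⟩

theorem xG_negsimple_mem_fund (i : ℕ) (hi : i < D.rank) (t : F) :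
    xG D hD (D.neg (D.simple i)) t ∈ Subgroup.closure (fundSet (F := F) D hD) :=
  Subgroup.subset_closure ⟨i, hi, t, Or.inr rfl⟩

/-- every root element is a product of fundamental root elements and their opposites -/
theorem xG_mem_fund (r : ℕ) (hr : r < D.nroots) :
    ∀ t : F, xG D hD r t ∈ Subgroup.closure (fundSet (F := F) D hD) := by
  have hR := rootsOK_of_mem D hD
  refine hR.induction (fun r => ∀ t : F, xG D hD r t ∈ Subgroup.closure (fundSet (F := F) D hD))
    ?_ ?_ r hr
  · intro i hi t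
    exact xG_simple_mem_fund D hD i hi t
  · intro i hi s hs hP t
    have h1 : nGt D hD (D.simple i) (1 : F) ∈ Subgroup.closure (fundSet (F := F) D hD) := by
      unfold nGt
      exact Subgroup.mul_mem _ (Subgroup.mul_mem _ (xG_simple_mem_fund D hD i hi _)
        (xG_negsimple_mem_fund D hD i hi _)) (xG_simple_mem_fund D hD i hi _)
    have h2 := Subgroup.mul_mem _ (Subgroup.mul_mem _ h1 (hP (((etaOf D i s : ℤ) : F) * t)))
      (Subgroup.inv_mem _ h1)
    rw [nG_conj D hD i hi s hs, ← mul_assoc, eta_cast_sq D hD i s hi hs, one_mul] at h2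
    exact h2

theorem group_eq_fund : D.group F = Subgroup.closure (fundSet (F := F) D hD) := by
  have hR := rootsOK_of_mem D hD
  apply le_antisymm
  · unfold ChevalleyDatum.group
    rw [Subgroup.closure_le]
    rintro g ⟨r, t, hg⟩
    have hg' : g = xG D hD r.val t := by
      apply Units.ext
      rw [hg, xG_val, x_eq_xMat D r.val r.2]
    rw [hg']
    exact xG_mem_fund D hD r.val r.2 t
  · rw [Subgroup.closure_le]
    have hmem : ∀ r < D.nroots, ∀ t : F, xG D hD r t ∈ D.group F := by
      intro r hr t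
      unfold ChevalleyDatum.group
      apply Subgroup.subset_closure
      exact ⟨⟨r, hr⟩, t, by rw [xG_val, x_eq_xMat D r hr]⟩
    rintro g ⟨i, hi, t, hg | hg⟩
    · rw [hg]
      exact hmem _ (hR.simple_lt i hi) t
    · rw [hg]
      exact hmem _ (hR.neg_lt _ (hR.simple_lt i hi)) t

variable {C : Cert}

/-- the signed permutation matrix as an element of `GL` -/
def PG (h : PermOK D C) : GL D.Idx F :=
  ⟨PMat D C h F, (PMat D C h F).transpose, PMat_mul_transpose h, PMat_transpose_mul h⟩

theorem PG_conj (h : PermOK D C) (g : ℕ) (hg : GenOK D C g) (t : F) :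
    PG (F := F) D h * xG D hD g t * (PG (F := F) D h)⁻¹ = xG D hD (gi C.pi g) t := by
  rw [mul_inv_eq_iff_eq_mul]
  apply Units.ext
  rw [Units.val_mul, Units.val_mul, xG_val, xG_val, x_eq_xMat D g hg.g_lt,
    x_eq_xMat D _ (h.pi_lt g hg.g_lt)]
  exact PMat_mul_xMat h g hg t

theorem PG_conj_inv (h : PermOK D C) (g : ℕ) (hg : GenOK D C g) (t : F) :
    (PG (F := F) D h)⁻¹ * xG D hD (gi C.pi g) t * PG (F := F) D h = xG D hD g t := by
  rw [← PG_conj D hD h g hg t]
  group

include hD in
/-- **the graph automorphism** -/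
theorem graph_aut (hperm : permCheck D C = true)
    (hgen : ∀ i < D.rank, genCheck D C (D.simple i) = true ∧
      genCheck D C (D.neg (D.simple i)) = true) :
    ∃ α : ↥(D.group F) ≃* ↥(D.group F), ∀ (g : ↥(D.group F)) (i : ℕ) (t : F), i < D.rank →
      (((g : GL D.Idx F) : Matrix D.Idx D.Idx F) = D.x F (D.simple i) t →
        ((α g : GL D.Idx F) : Matrix D.Idx D.Idx F) = D.x F (D.simple (C.rho.getD i 0)) t) ∧
      (((g : GL D.Idx F) : Matrix D.Idx D.Idx F) = D.x F (D.neg (D.simple i)) t →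
        ((α g : GL D.Idx F) : Matrix D.Idx D.Idx F) =
          D.x F (D.neg (D.simple (C.rho.getD i 0))) t) := by
  have h := permOK_of_check D C hperm
  have hP : ∀ i < D.rank, GenOK D C (D.simple i) := fun i hi => genOK_of_check D C _ (hgen i hi).1
  have hN : ∀ i < D.rank, GenOK D C (D.neg (D.simple i)) :=
    fun i hi => genOK_of_check D C _ (hgen i hi).2
  have hpiP : ∀ i < D.rank, gi C.pi (D.simple i) = D.simple (gi C.rho i) := h.pi_simple
  have hpiN : ∀ i < D.rank, gi C.pi (D.neg (D.simple i)) = D.neg (D.simple (gi C.rho i)) := by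
    intro i hi
    rw [(hP i hi).pi_neg, hpiP i hi]
  have h1 : ∀ g ∈ D.group F, PG (F := F) D h * g * (PG (F := F) D h)⁻¹ ∈ D.group F := by
    rw [group_eq_fund D hD]
    apply conj_mem_closure
    rintro g ⟨i, hi, t, hg | hg⟩
    · rw [hg, PG_conj D hD h _ (hP i hi), hpiP i hi]
      exact xG_simple_mem_fund D hD _ (h.rho_lt i hi) t
    · rw [hg, PG_conj D hD h _ (hN i hi), hpiN i hi]
      exact xG_negsimple_mem_fund D hD _ (h.rho_lt i hi) t
  have h2 : ∀ g ∈ D.group F, (PG (F := F) D h)⁻¹ * g * PG (F := F) D h ∈ D.group F := by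
    rw [group_eq_fund D hD]
    have h3 := conj_mem_closure (fundSet (F := F) D hD) (PG (F := F) D h)⁻¹ ?_
    · intro g hg
      have := h3 g hg
      rwa [inv_inv] at this
    · rintro g ⟨i, hi, t, hg | hg⟩
      · have hi' := h.rhoInv_lt i hi
        have e := PG_conj_inv (F := F) D hD h _ (hP _ hi') t
        rw [hpiP _ hi', h.rho_right i hi] at e
        rw [hg, inv_inv, e]
        exact xG_simple_mem_fund D hD _ hi' t
      · have hi' := h.rhoInv_lt i hi
        have e := PG_conj_inv (F := F) D hD h _ (hN _ hi') t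
        rw [hpiN _ hi', h.rho_right i hi] at e
        rw [hg, inv_inv, e]
        exact xG_negsimple_mem_fund D hD _ hi' t
  refine ⟨conjEquiv (D.group F) (PG (F := F) D h) h1 h2, ?_⟩
  intro g i t hi
  constructor
  · intro hg
    have hg' : (g : GL D.Idx F) = xG D hD (D.simple i) t := eq_xG D hD _ _ _ hg
    show ((PG (F := F) D h * (g : GL D.Idx F) * (PG (F := F) D h)⁻¹ : GL D.Idx F) :
      Matrix D.Idx D.Idx F) = _
    rw [hg', PG_conj D hD h _ (hP i hi), hpiP i hi, xG_val]
    rfl
  · intro hg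
    have hg' : (g : GL D.Idx F) = xG D hD (D.neg (D.simple i)) t := eq_xG D hD _ _ _ hg
    show ((PG (F := F) D h * (g : GL D.Idx F) * (PG (F := F) D h)⁻¹ : GL D.Idx F) :
      Matrix D.Idx D.Idx F) = _
    rw [hg', PG_conj D hD h _ (hN i hi), hpiN i hi, xG_val]
    rfl

end

end Cfsg.Agent.helper6.Graph
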