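import Mathlib
import Cfsg.Agent.Lib_helper6_Graph
import Cfsg.Agent.Lib_helper5_TwCore2

set_option autoImplicit false

open Cfsg

/-! The twisting endomorphism `σ` (graph automorphism composed with a field endomorphism) of
`GL` (helper5). -/

namespace Cfsg.Agent.helper5.Chev

open Cfsg.Lie Cfsg.Agent.helper6.Graph

section
variable {K : Type*} [Field K] (D : ChevalleyDatum)

/-- the root elements are compatible with ring endomorphisms -/
theorem xMat_map (φ : K →+* K) (r : Fin D.nroots) (t : K) :
    (D.xMat K r t).map φ = D.xMat K r (φ t) := by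
  ext row col
  rw [Matrix.map_apply]
  unfold ChevalleyDatum.xMat
  simp only [Matrix.of_apply]
  rcases col with i | s
  · rcases row with i' | u
    · simp only
      split_ifs <;> simp
    · simp only
      split_ifs <;> simp
  · simp only
    split_ifs
    · rcases row with i' | u
      · simp
      · simp only
        split_ifs <;> simp
    · rcases row with i' | u
      · simp
      · simp only
        split_ifs <;> simp
    · rcases row with i' | u
      · simp
      · simp only [map_add, map_list_sum, List.map_map]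
        congr 1
        · split_ifs <;> simp
        · congr 1
          apply List.map_congr_left
          intro km _
          simp

end

section
variable {K : Type*} [Field K] (D : ChevalleyDatum)
  (hD : D ∈ [chevG2, chevB2, chevD4, chevF4, chevE6, chevE7, chevE8])
  {C : Cert} (hperm : PermOK D C)

/-- the field endomorphism on `GL` -/
def frobGL (φ : K →+* K) : GL D.Idx K →* GL D.Idx K := Matrix.GeneralLinearGroup.map φ

theorem frobGL_xG (φ : K →+* K) (r : ℕ) (t : K) :
    frobGL D φ (xG D hD r t) = xG D hD r (φ t) := by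
  apply Units.ext
  ext i j
  unfold frobGL
  rw [Matrix.GeneralLinearGroup.map_apply, xG_val, xG_val]
  by_cases hr : r < D.nroots
  · rw [x_eq_xMat D r hr, x_eq_xMat D r hr, ← xMat_map D φ ⟨r, hr⟩ t, Matrix.map_apply]
  · unfold ChevalleyDatum.x
    rw [dif_neg hr, dif_neg hr]
    by_cases hij : i = j
    · rw [hij, Matrix.one_apply_eq, map_one]
    · rw [Matrix.one_apply_ne hij, map_zero]

/-- the twisting endomorphism `σ` -/
def sigmaHom (φ : K →+* K) : GL D.Idx K →* GL D.Idx K :=
  (MulAut.conj (PG (F := K) D hperm)).toMonoidHom.comp (frobGL D φ)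

theorem sigmaHom_apply (φ : K →+* K) (g : GL D.Idx K) :
    sigmaHom D hperm φ g = PG (F := K) D hperm * frobGL D φ g * (PG (F := K) D hperm)⁻¹ := rfl

theorem sigma_xG_gen (φ : K →+* K) (g : ℕ) (hg : GenOK D C g) (t : K) :
    sigmaHom D hperm φ (xG D hD g t) = xG D hD (gi C.pi g) (φ t) := by
  rw [sigmaHom_apply, frobGL_xG, PG_conj D hD hperm g hg]

end

/-- the data of a twisting: a certified graph automorphism and a field endomorphism -/
structure TwData (K : Type*) [Field K] (D : ChevalleyDatum) (C : Cert) : Prop where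
  perm : PermOK D C
  genP : ∀ i < D.rank, GenOK D C (D.simple i)
  genN : ∀ i < D.rank, GenOK D C (D.neg (D.simple i))

section
variable {K : Type*} [Field K] (D : ChevalleyDatum)
  (hD : D ∈ [chevG2, chevB2, chevD4, chevF4, chevE6, chevE7, chevE8])
  {C : Cert} (T : TwData K D C) (φ : K →+* K)

/-- the permutation of the fundamental roots -/
def rhoOf (C : Cert) (i : ℕ) : ℕ := gi C.rho i

theorem sigma_simple (i : ℕ) (hi : i < D.rank) (t : K) :
    sigmaHom D T.perm φ (xG D hD (D.simple i) t) = xG D hD (D.simple (rhoOf C i)) (φ t) := by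
  rw [sigma_xG_gen D hD T.perm φ _ (T.genP i hi), T.perm.pi_simple i hi]
  rfl

theorem sigma_negsimple (i : ℕ) (hi : i < D.rank) (t : K) :
    sigmaHom D T.perm φ (xG D hD (D.neg (D.simple i)) t) =
      xG D hD (D.neg (D.simple (rhoOf C i))) (φ t) := by
  rw [sigma_xG_gen D hD T.perm φ _ (T.genN i hi), (T.genP i hi).pi_neg, T.perm.pi_simple i hi]
  rfl

theorem sigma_nGt (i : ℕ) (hi : i < D.rank) (a : K) :
    sigmaHom D T.perm φ (nGt D hD (D.simple i) a) = nGt D hD (D.simple (rhoOf C i)) (φ a) := by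
  unfold nGt
  rw [map_mul, map_mul, sigma_simple D hD T φ i hi, sigma_negsimple D hD T φ i hi, map_neg,
    map_inv₀]

theorem sigma_hGt (i : ℕ) (hi : i < D.rank) (a : K) :
    sigmaHom D T.perm φ (hGt D hD (D.simple i) a) = hGt D hD (D.simple (rhoOf C i)) (φ a) := by
  unfold hGt
  rw [map_mul, sigma_nGt D hD T φ i hi, sigma_nGt D hD T φ i hi, map_neg, map_one]

theorem sigma_nW (w : List ℕ) (hw : ∀ i ∈ w, i < D.rank) :
    sigmaHom D T.perm φ (nW D hD w) = nW D hD (w.map (rhoOf C)) := by
  induction w with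
  | nil => rw [nW_nil', List.map_nil, nW_nil', map_one]
  | cons i w ih =>
    rw [nW_cons, map_mul, sigma_nGt D hD T φ i (hw i List.mem_cons_self), map_one, List.map_cons,
      nW_cons, ih (fun j hj => hw j (List.mem_cons_of_mem _ hj))]

end

end Cfsg.Agent.helper5.Chev

namespace Cfsg.Agent.helper5.Chev

open Cfsg.Lie Cfsg.Agent.helper6.Graph

/-- `π` commutes with the fundamental reflections and preserves signs of roots -/
def piReflChk (D : ChevalleyDatum) (C : Cert) : Bool :=
  ((List.range D.rank).all fun i => (List.range D.nroots).all fun r =>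
    gi C.pi (D.reflectRoot i r) == D.reflectRoot (gi C.rho i) (gi C.pi r)) &&
  ((List.range D.nroots).all fun r =>
    (!decide (D.IsPosRoot r) || decide (D.IsPosRoot (gi C.pi r))) &&
    (!decide (D.IsNegRoot r) || decide (D.IsNegRoot (gi C.pi r))))

structure PiOK (D : ChevalleyDatum) (C : Cert) : Prop where
  refl : ∀ i < D.rank, ∀ r < D.nroots,
    gi C.pi (D.reflectRoot i r) = D.reflectRoot (gi C.rho i) (gi C.pi r)
  pos : ∀ r < D.nroots, D.IsPosRoot r → D.IsPosRoot (gi C.pi r)
  neg : ∀ r < D.nroots, D.IsNegRoot r → D.IsNegRoot (gi C.pi r)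

theorem piOK_of_check (D : ChevalleyDatum) (C : Cert) (h : piReflChk D C = true) : PiOK D C := by
  unfold piReflChk at h
  simp only [Bool.and_eq_true, Bool.or_eq_true, decide_eq_true_eq, beq_iff_eq, List.all_eq_true,
    List.mem_range, Bool.not_eq_true', decide_eq_false_iff_not] at h
  obtain ⟨h1, h2⟩ := h
  refine ⟨fun i hi r hr => h1 i hi r hr, ?_, ?_⟩
  · intro r hr hp
    rcases (h2 r hr).1 with h3 | h3
    · exact absurd hp h3
    · exact h3
  · intro r hr hp
    rcases (h2 r hr).2 with h3 | h3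
    · exact absurd hp h3
    · exact h3

section
variable {K : Type*} [Field K] (D : ChevalleyDatum)
  (hD : D ∈ [chevG2, chevB2, chevD4, chevF4, chevE6, chevE7, chevE8])
  {C : Cert} (T : TwData K D C) (P : PiOK D C) (φ : K →+* K)

include hD T P in
theorem applyW_map_rho (w : List ℕ) (hw : ∀ i ∈ w, i < D.rank) (r : ℕ) (hr : r < D.nroots) :
    applyW D (w.map (rhoOf C)) (gi C.pi r) = gi C.pi (applyW D w r) := by
  induction w with
  | nil => rfl
  | cons i w ih =>
    have hi := hw i List.mem_cons_self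
    have hw' : ∀ j ∈ w, j < D.rank := fun j hj => hw j (List.mem_cons_of_mem _ hj)
    have e1 : applyW D (i :: w) r = D.reflectRoot i (applyW D w r) := rfl
    have e2 : applyW D ((i :: w).map (rhoOf C)) (gi C.pi r) =
        D.reflectRoot (rhoOf C i) (applyW D (w.map (rhoOf C)) (gi C.pi r)) := rfl
    rw [e1, e2, ih hw', P.refl i hi _ (applyW_lt D hD w hw' r hr)]
    rfl

include P in
/-- the general root elements under `σ` -/
theorem sigma_xG_all : ∀ s < D.nroots, ∃ ε : K, ε * ε = 1 ∧ ∀ t : K,
    sigmaHom D T.perm φ (xG D hD s t) = xG D hD (gi C.pi s) (ε * φ t) := by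
  have hR := rootsOK_of_mem D hD
  have key : ∀ n : ℕ, ∀ s < D.nroots, muR D s = n → ∃ ε : K, ε * ε = 1 ∧ ∀ t : K,
      sigmaHom D T.perm φ (xG D hD s t) = xG D hD (gi C.pi s) (ε * φ t) := by
    intro n
    induction n using Nat.strong_induction_on with
    | _ n ih =>
      intro s hs hn
      rcases hR.step s hs with ⟨i, hi, rfl⟩ | ⟨i, hi, hlt⟩
      · refine ⟨1, one_mul 1, fun t => ?_⟩
        rw [sigma_simple D hD T φ i hi, one_mul, T.perm.pi_simple i hi]
        rfl
      · have hs' := hR.refl_lt i hi s hs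
        obtain ⟨ε, hε, hc⟩ := ih _ (by rw [← hn]; exact hlt) _ hs' rfl
        -- x_s(t) = n_i x_{s'}(η t) n_i⁻¹
        have h1 := fun t : K => nG_conj (F := K) D hD i hi _ hs' t
        rw [hR.refl_refl i hi s hs] at h1
        have hη := eta_cast_sq (F := K) D hD i _ hi hs'
        set η : K := ((etaOf D i (D.reflectRoot i s) : ℤ) : K) with hηdef
        have hρi := T.perm.rho_lt i hi
        have hπs' := T.perm.pi_lt _ hs'
        have h2 := fun t : K => nG_conj (F := K) D hD (rhoOf C i) hρi _ hπs' t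
        have hη2 := eta_cast_sq (F := K) D hD (rhoOf C i) _ hρi hπs'
        set η2 : K := ((etaOf D (rhoOf C i) (gi C.pi (D.reflectRoot i s)) : ℤ) : K) with hη2def
        have e3 : D.reflectRoot (rhoOf C i) (gi C.pi (D.reflectRoot i s)) = gi C.pi s := by
          have := P.refl i hi _ hs'
          rw [hR.refl_refl i hi s hs] at this
          exact this.symm
        rw [e3] at h2
        refine ⟨η2 * (ε * φ η), ?_, fun t => ?_⟩
        · have : φ η * φ η = 1 := by rw [← map_mul, hη, map_one]
          calc η2 * (ε * φ η) * (η2 * (ε * φ η)) = (η2 * η2) * (ε * ε) * (φ η * φ η) := by ring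
            _ = 1 := by rw [hη2, hε, this]; ring
        · have e4 : xG D hD s t = nGt D hD (D.simple i) 1 * xG D hD (D.reflectRoot i s) (η * t) *
              (nGt D hD (D.simple i) 1)⁻¹ := by
            rw [h1, ← mul_assoc, hη, one_mul]
          rw [e4, map_mul, map_mul, map_inv, sigma_nGt D hD T φ i hi, map_one, hc, h2, map_mul]
          congr 1
          ring
  intro s hs
  exact key _ s hs rfl

end

end Cfsg.Agent.helper5.Chev

namespace Cfsg.Agent.helper5.Chev

open Cfsg.Lie Cfsg.Agent.helper6.Graph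

section
variable {K : Type*} [Field K] (D : ChevalleyDatum)
  (hD : D ∈ [chevG2, chevB2, chevD4, chevF4, chevE6, chevE7, chevE8])
  {C : Cert} (T : TwData K D C) (P : PiOK D C) (φ : K →+* K)

include hD P in
theorem sigma_U : ∀ u ∈ D.posUnipotent K, sigmaHom D T.perm φ u ∈ D.posUnipotent K := by
  have h : D.posUnipotent K ≤ (D.posUnipotent K).comap (sigmaHom D T.perm φ) := by
    unfold ChevalleyDatum.posUnipotent
    rw [Subgroup.closure_le]
    rintro g ⟨r, t, hr, hg⟩
    rw [eq_xG D hD g r t hg, SetLike.mem_coe, Subgroup.mem_comap]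
    obtain ⟨ε, -, hc⟩ := sigma_xG_all D hD T P φ r hr.1
    rw [hc]
    exact Subgroup.subset_closure ⟨_, _, P.pos r hr.1 hr, xG_val D hD _ _⟩
  exact fun u hu => h hu

include hD P in
theorem sigma_V : ∀ u ∈ D.negUnipotent K, sigmaHom D T.perm φ u ∈ D.negUnipotent K := by
  have h : D.negUnipotent K ≤ (D.negUnipotent K).comap (sigmaHom D T.perm φ) := by
    unfold ChevalleyDatum.negUnipotent
    rw [Subgroup.closure_le]
    rintro g ⟨r, t, hr, hg⟩
    rw [eq_xG D hD g r t hg, SetLike.mem_coe, Subgroup.mem_comap]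
    obtain ⟨ε, -, hc⟩ := sigma_xG_all D hD T P φ r hr.1
    rw [hc]
    exact Subgroup.subset_closure ⟨_, _, P.neg r hr.1 hr, xG_val D hD _ _⟩
  exact fun u hu => h hu

/-- an element of `H` as a product of fundamental torus elements -/
theorem mem_H_prod (g : GL D.Idx K) (hg : g ∈ D.diagonalSubgroup K) :
    ∃ c : ℕ → K, (∀ i < D.rank, c i ≠ 0) ∧
      g = ((List.range D.rank).map fun i => hGt D hD (D.simple i) (c i)).prod := by
  obtain ⟨c, hc, hgc⟩ := Cfsg.Agent.S1034.result D hD g hg
  refine ⟨c, hc, ?_⟩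
  apply Units.ext
  rw [hgc]
  generalize List.range D.rank = L
  induction L with
  | nil => simp [wordMat_nil]
  | cons i L ih =>
    rw [List.flatMap_cons, wordMat_append, ih, List.map_cons, List.prod_cons, Units.val_mul,
      hGt_val]
    rfl

include hD in
theorem sigma_H : ∀ h ∈ D.diagonalSubgroup K, sigmaHom D T.perm φ h ∈ D.diagonalSubgroup K := by
  have hR := rootsOK_of_mem D hD
  intro h hh
  obtain ⟨c, hc, rfl⟩ := mem_H_prod D hD h hh
  rw [map_list_prod, List.map_map]
  apply Subgroup.list_prod_mem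
  intro x hx
  obtain ⟨i, hi, rfl⟩ := List.mem_map.mp hx
  have hi' := List.mem_range.mp hi
  simp only [Function.comp]
  rw [sigma_hGt D hD T φ i hi']
  apply hGt_mem D hD _ (hR.simple_lt _ (T.perm.rho_lt i hi'))
  intro h0
  exact hc i hi' ((map_eq_zero φ).mp h0)

include hD in
theorem sigma_N : ∀ n ∈ D.monomialSubgroup K, sigmaHom D T.perm φ n ∈ D.monomialSubgroup K := by
  intro n hn
  obtain ⟨h, hh, w, hw, rfl⟩ := mem_N_decomp D hD n hn
  rw [map_mul, sigma_nW D hD T φ w hw]
  apply Subgroup.mul_mem _ (H_le_N D (sigma_H D hD T φ h hh))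
  apply nW_mem D hD
  intro j hj
  obtain ⟨i, hi, rfl⟩ := List.mem_map.mp hj
  exact T.perm.rho_lt i (hw i hi)

include hD P in
theorem sigma_B : ∀ b ∈ D.borelSubgroup K, sigmaHom D T.perm φ b ∈ D.borelSubgroup K := by
  intro b hb
  obtain ⟨u, hu, h, hh, rfl⟩ := mem_borel D hD b hb
  rw [map_mul]
  exact Subgroup.mul_mem _ (U_le_B D hD (sigma_U D hD T P φ u hu))
    (H_le_B D hD (sigma_H D hD T φ h hh))

include hD P in
theorem sigma_Uneg (w : List ℕ) (hw : ∀ i ∈ w, i < D.rank) :
    ∀ u ∈ Uneg (F := K) D hD w, sigmaHom D T.perm φ u ∈ Uneg (F := K) D hD (w.map (rhoOf C)) := by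
  have h : Uneg (F := K) D hD w ≤
      (Uneg (F := K) D hD (w.map (rhoOf C))).comap (sigmaHom D T.perm φ) := by
    unfold Uneg
    rw [Subgroup.closure_le]
    rintro g ⟨r, t, hr, hn, rfl⟩
    rw [SetLike.mem_coe, Subgroup.mem_comap]
    obtain ⟨ε, -, hc⟩ := sigma_xG_all D hD T P φ r hr.1
    rw [hc]
    refine Subgroup.subset_closure ⟨_, _, P.pos r hr.1 hr, ?_, rfl⟩
    rw [applyW_map_rho D hD T P w hw r hr.1]
    exact P.neg _ (applyW_lt D hD w hw r hr.1) hn
  exact fun u hu => h hu

end

end Cfsg.Agent.helper5.Chev
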