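import Mathlib
import Cfsg.Agent.Lib_helper5_TwSigma
import Cfsg.Agent.Lib_helper5_ChevCell
import Cfsg.Agent.Lib_helper5_TwPerf

set_option autoImplicit false

open Cfsg

/-! The `σ`-fixed elements of `U` lie in the twisted group: cell representatives along a word
made of `ρ`-orbits of fundamental reflections (helper5). -/

namespace Cfsg.Agent.helper5.Chev

open Cfsg.Lie Cfsg.Agent.helper6.Graph

section
variable {F : Type*} [Field F] (D : ChevalleyDatum)
  (hD : D ∈ [chevG2, chevB2, chevD4, chevF4, chevE6, chevE7, chevE8])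

/-- the one step form of an element of `S(i :: v)` -/
def srStep (i : ℕ) (a : GL D.Idx F) (t : F) : GL D.Idx F :=
  (nGt D hD (D.simple i) 1)⁻¹ * a * nGt D hD (D.simple i) 1 * xG D hD (D.simple i) t

theorem srStep_mem (i : ℕ) (v : List ℕ) (a : GL D.Idx F) (ha : a ∈ SR (F := F) D hD v) (t : F) :
    srStep D hD i a t ∈ SR (F := F) D hD (i :: v) := ⟨a, ha, t, rfl⟩

theorem exists_srStep (i : ℕ) (v : List ℕ) (u : GL D.Idx F) (hu : u ∈ SR (F := F) D hD (i :: v)) :
    ∃ a ∈ SR (F := F) D hD v, ∃ t : F, u = srStep D hD i a t := hu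

/-- uniqueness of the one step form -/
theorem srStep_inj (i : ℕ) (v : List ℕ) (h : redRB D (i :: v) = true) (a a' : GL D.Idx F)
    (ha : a ∈ SR (F := F) D hD v) (ha' : a' ∈ SR (F := F) D hD v) (t t' : F)
    (e : srStep D hD i a t = srStep D hD i a' t') : a = a' ∧ t = t' := by
  have h' := h
  simp only [redRB, Bool.and_eq_true, decide_eq_true_eq] at h'
  obtain ⟨⟨hv, hi⟩, hpos⟩ := h'
  have hsub : SR (F := F) D hD v ⊆ Ui (F := F) D i := fun g hg =>
    Uneg_le_Ui D hD v.reverse i hpos (SR_sub_Uneg D hD v hv hg)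
  obtain ⟨ni, hni⟩ : ∃ n, n = nGt D hD (D.simple i) (1 : F) := ⟨_, rfl⟩
  have hnorm : ∀ g ∈ Ui (F := F) D i, ni⁻¹ * g * ni ∈ Ui (F := F) D i := by
    intro g hg
    have h1 := nG_mem_normalizer_Ui (F := F) D hD i hi
    rw [← hni] at h1
    have h2 := (Subgroup.mem_normalizer_iff.mp h1 (ni⁻¹ * g * ni)).mpr
    apply h2
    have e : ni * (ni⁻¹ * g * ni) * ni⁻¹ = g := by group
    rw [e]
    exact hg
  unfold srStep at e
  rw [← hni] at e
  have h2 : ni⁻¹ * (a'⁻¹ * a) * ni = xG D hD (D.simple i) (t' - t) := by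
    have e1 : ni⁻¹ * (a'⁻¹ * a) * ni =
        (ni⁻¹ * a' * ni)⁻¹ * (ni⁻¹ * a * ni * xG D hD (D.simple i) t) *
          (xG D hD (D.simple i) t)⁻¹ := by group
    rw [e1, e, xG_inv, sub_eq_add_neg, ← xG_mul]
    group
  have h3 : xG D hD (D.simple i) (t' - t) ∈ Ui (F := F) D i := by
    rw [← h2]
    exact hnorm _ (Subgroup.mul_mem _ (Subgroup.inv_mem _ (hsub ha')) (hsub ha))
  have h4 := xG_simple_mem_Ui D hD i hi _ h3
  have htt : t = t' := (sub_eq_zero.mp h4).symm
  subst htt
  refine ⟨?_, rfl⟩
  have := mul_right_cancel e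
  have h6 := mul_right_cancel this
  exact mul_left_cancel h6

theorem redRB_append_right (c v : List ℕ) (h : redRB D (c ++ v) = true) : redRB D v = true := by
  induction c with
  | nil => exact h
  | cons i c ih =>
    have h' : redRB D (i :: (c ++ v)) = true := h
    simp only [redRB, Bool.and_eq_true, decide_eq_true_eq] at h'
    exact ih h'.1.1

/-- the product of the root elements of a chunk -/
def chunkX (c : List ℕ) (t : ℕ → F) : GL D.Idx F :=
  (c.reverse.map fun i => xG D hD (D.simple i) (t i)).prod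

/-- the chunk form of an element of `S(c ++ v)` -/
def chunkForm (c : List ℕ) (a : GL D.Idx F) (t : ℕ → F) : GL D.Idx F :=
  (nR D hD c)⁻¹ * a * nR D hD c * chunkX D hD c t

/-- the letters of a chunk are mutually orthogonal -/
def ChunkOrth (c : List ℕ) : Prop :=
  c.Pairwise fun i j => orthChk D (D.simple i) (D.simple j) = true

theorem chunkX_cons (i : ℕ) (c : List ℕ) (t : ℕ → F) :
    chunkX D hD (i :: c) t = chunkX D hD c t * xG D hD (D.simple i) (t i) := by
  unfold chunkX
  rw [List.reverse_cons, List.map_append, List.prod_append]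
  simp

include hD in
theorem nGt_commute_chunkX (i : ℕ) (c : List ℕ)
    (h : ∀ j ∈ c, orthChk D (D.simple i) (D.simple j) = true) (t : ℕ → F) :
    Commute (nGt D hD (D.simple i) (1 : F)) (chunkX D hD c t) := by
  unfold chunkX
  apply Commute.list_prod_right
  intro x hx
  obtain ⟨j, hj, rfl⟩ := List.mem_map.mp hx
  have hj' := h j (List.mem_reverse.mp hj)
  have h1 := orth_commute (F := F) D hD _ _ hj'
  unfold nGt
  exact (((h1 1 (t j)).1.mul_left (h1 (-(1 : F)⁻¹) (t j)).2.2.1)).mul_left (h1 1 (t j)).1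

include hD in
theorem chunkForm_cons (i : ℕ) (c : List ℕ)
    (h : ∀ j ∈ c, orthChk D (D.simple i) (D.simple j) = true) (a : GL D.Idx F) (t : ℕ → F) :
    chunkForm D hD (i :: c) a t = srStep D hD i (chunkForm D hD c a t) (t i) := by
  unfold chunkForm srStep
  rw [nR_cons, chunkX_cons]
  have hc := (nGt_commute_chunkX D hD i c h t).eq
  obtain ⟨ni, hni⟩ : ∃ n, n = nGt D hD (D.simple i) (1 : F) := ⟨_, rfl⟩
  rw [← hni] at hc ⊢
  have e : ni⁻¹ * ((nR D hD c)⁻¹ * a * nR D hD c * chunkX D hD c t) * ni =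
      ni⁻¹ * ((nR D hD c)⁻¹ * a * nR D hD c) * (chunkX D hD c t * ni) := by group
  rw [e, ← hc]
  group

theorem chunkForm_nil (a : GL D.Idx F) (t : ℕ → F) : chunkForm D hD [] a t = a := by
  unfold chunkForm chunkX nR nW
  simp

include hD in
theorem chunkForm_mem (c v : List ℕ) (hc : ChunkOrth D c) (a : GL D.Idx F)
    (ha : a ∈ SR (F := F) D hD v) (t : ℕ → F) :
    chunkForm D hD c a t ∈ SR (F := F) D hD (c ++ v) := by
  induction c with
  | nil => rw [chunkForm_nil]; exact ha
  | cons i c ih =>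
    have hc' := List.pairwise_cons.mp hc
    rw [chunkForm_cons D hD i c hc'.1]
    exact srStep_mem D hD i (c ++ v) _ (ih hc'.2) _

include hD in
theorem exists_chunkForm (c v : List ℕ) (hc : ChunkOrth D c) (u : GL D.Idx F)
    (hu : u ∈ SR (F := F) D hD (c ++ v)) :
    ∃ a ∈ SR (F := F) D hD v, ∃ t : ℕ → F, u = chunkForm D hD c a t := by
  induction c generalizing u with
  | nil => exact ⟨u, hu, fun _ => 0, (chunkForm_nil D hD u _).symm⟩
  | cons i c ih =>
    have hc' := List.pairwise_cons.mp hc
    obtain ⟨b, hb, s, rfl⟩ := exists_srStep D hD i (c ++ v) u hu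
    obtain ⟨a, ha, t, rfl⟩ := ih hc'.2 b hb
    have hi : i ∉ c := by
      intro hic
      have h1 := hc'.1 i hic
      unfold orthChk at h1
      simp only [Bool.and_eq_true, decide_eq_true_eq] at h1
      exact h1.1.1.1.1.1.1.1.1.2 rfl
    refine ⟨a, ha, Function.update t i s, ?_⟩
    rw [chunkForm_cons D hD i c hc'.1, Function.update_self]
    congr 1
    unfold chunkForm chunkX
    congr 2
    apply List.map_congr_left
    intro j hj
    have : j ≠ i := fun e => hi (e ▸ List.mem_reverse.mp hj)
    rw [Function.update_of_ne this]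

include hD in
theorem chunkForm_inj (c v : List ℕ) (hc : ChunkOrth D c) (hred : redRB D (c ++ v) = true)
    (a a' : GL D.Idx F) (ha : a ∈ SR (F := F) D hD v) (ha' : a' ∈ SR (F := F) D hD v)
    (t t' : ℕ → F) (e : chunkForm D hD c a t = chunkForm D hD c a' t') :
    a = a' ∧ ∀ j ∈ c, t j = t' j := by
  induction c with
  | nil =>
    rw [chunkForm_nil, chunkForm_nil] at e
    exact ⟨e, fun j hj => absurd hj (by simp)⟩
  | cons i c ih =>
    have hc' := List.pairwise_cons.mp hc
    rw [chunkForm_cons D hD i c hc'.1, chunkForm_cons D hD i c hc'.1] at e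
    have hred' : redRB D (c ++ v) = true := by
      have h' : redRB D (i :: (c ++ v)) = true := hred
      simp only [redRB, Bool.and_eq_true, decide_eq_true_eq] at h'
      exact h'.1.1
    obtain ⟨h1, h2⟩ := srStep_inj D hD i (c ++ v) hred _ _
      (chunkForm_mem D hD c v hc'.2 a ha t) (chunkForm_mem D hD c v hc'.2 a' ha' t') _ _ e
    obtain ⟨h3, h4⟩ := ih hc'.2 hred' h1
    refine ⟨h3, ?_⟩
    intro j hj
    rcases List.mem_cons.mp hj with rfl | hj
    · exact h2
    · exact h4 j hj

end

end Cfsg.Agent.helper5.Chev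

namespace Cfsg.Agent.helper5.Chev

open Cfsg.Lie Cfsg.Agent.helper6.Graph

section
variable {K : Type*} [Field K] (D : ChevalleyDatum)
  (hD : D ∈ [chevG2, chevB2, chevD4, chevF4, chevE6, chevE7, chevE8])
  {C : Cert} (T : TwData K D C) (φ : K →+* K)

/-- the inverse permutation of the fundamental roots -/
def rhoInvOf (C : Cert) (i : ℕ) : ℕ := gi C.rhoInv i

/-- the chunk is a union of `ρ`-orbits of mutually orthogonal fundamental roots -/
structure ChunkOK (C : Cert) (c : List ℕ) : Prop where
  orth : ChunkOrth D c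
  lt : ∀ i ∈ c, i < D.rank
  perm : (c.map (rhoOf C)).Perm c

include hD in
theorem chunk_commute_n (c : List ℕ) (hc : ChunkOrth D c) :
    (c.reverse.map fun i => nGt D hD (D.simple i) (1 : K)).Pairwise Commute := by
  rw [List.pairwise_map, List.pairwise_reverse]
  refine hc.imp ?_
  intro i j hij
  exact (nGt_commute D hD _ _ hij 1 1).symm

include hD in
theorem chunk_commute_x (c : List ℕ) (hc : ChunkOrth D c) (t : ℕ → K) :
    (c.reverse.map fun i => xG D hD (D.simple i) (t i)).Pairwise Commute := by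
  rw [List.pairwise_map, List.pairwise_reverse]
  refine hc.imp ?_
  intro i j hij
  exact ((orth_commute (F := K) D hD _ _ hij (t i) (t j)).1).symm

include hD in
theorem sigma_nR_chunk (c : List ℕ) (hc : ChunkOK D C c) :
    sigmaHom D T.perm φ (nR D hD c) = nR D hD c := by
  unfold nR
  rw [sigma_nW D hD T φ c.reverse (fun i hi => hc.lt i (List.mem_reverse.mp hi))]
  unfold nW
  apply List.Perm.prod_eq'
  · apply List.Perm.map
    exact ((List.reverse_perm c).map _).trans (hc.perm.trans (List.reverse_perm c).symm)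
  · have h1 := chunk_commute_n (K := K) D hD c hc.orth
    have h2 : ((c.reverse.map (rhoOf C)).map fun i => nGt D hD (D.simple i) (1 : K)).Perm
        (c.reverse.map fun i => nGt D hD (D.simple i) (1 : K)) := by
      apply List.Perm.map
      exact ((List.reverse_perm c).map _).trans (hc.perm.trans (List.reverse_perm c).symm)
    exact h2.symm.pairwise h1 Commute.symm

include hD in
theorem sigma_chunkX (c : List ℕ) (hc : ChunkOK D C c) (t : ℕ → K) :
    sigmaHom D T.perm φ (chunkX D hD c t) =
      chunkX D hD c (fun j => φ (t (rhoInvOf C j))) := by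
  unfold chunkX
  rw [map_list_prod, List.map_map]
  have e1 : (c.reverse.map ((sigmaHom D T.perm φ) ∘ fun i => xG D hD (D.simple i) (t i))) =
      ((c.map (rhoOf C)).reverse.map fun j => xG D hD (D.simple j) (φ (t (rhoInvOf C j)))) := by
    rw [← List.map_reverse, List.map_map]
    apply List.map_congr_left
    intro i hi
    have hi' := hc.lt i (List.mem_reverse.mp hi)
    simp only [Function.comp]
    rw [sigma_simple D hD T φ i hi']
    congr 2
    show t i = t (gi C.rhoInv (gi C.rho i))
    rw [T.perm.rho_left i hi']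
  rw [e1]
  have hp : ((c.map (rhoOf C)).reverse.map fun j =>
      xG D hD (D.simple j) (φ (t (rhoInvOf C j)))).Perm
      (c.reverse.map fun j => xG D hD (D.simple j) (φ (t (rhoInvOf C j)))) := by
    apply List.Perm.map
    exact (List.reverse_perm _).trans (hc.perm.trans (List.reverse_perm _).symm)
  apply List.Perm.prod_eq' hp
  exact hp.symm.pairwise (chunk_commute_x D hD c hc.orth _) Commute.symm

include hD in
theorem sigma_chunkForm (c : List ℕ) (hc : ChunkOK D C c) (a : GL D.Idx K) (t : ℕ → K) :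
    sigmaHom D T.perm φ (chunkForm D hD c a t) =
      chunkForm D hD c (sigmaHom D T.perm φ a) (fun j => φ (t (rhoInvOf C j))) := by
  unfold chunkForm
  rw [map_mul, map_mul, map_mul, map_inv, sigma_nR_chunk D hD T φ c hc,
    sigma_chunkX D hD T φ c hc]

include hD in
/-- `σ` preserves the cell representatives along a word made of chunks -/
theorem sigma_SR_chunks (cs : List (List ℕ)) (hcs : ∀ c ∈ cs, ChunkOK D C c) :
    ∀ u ∈ SR (F := K) D hD cs.flatten, sigmaHom D T.perm φ u ∈ SR (F := K) D hD cs.flatten := by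
  induction cs with
  | nil =>
    intro u hu
    simp only [List.flatten_nil, SR, Set.mem_singleton_iff] at hu ⊢
    rw [hu, map_one]
  | cons c cs ih =>
    intro u hu
    rw [List.flatten_cons] at hu ⊢
    have hc := hcs c List.mem_cons_self
    obtain ⟨a, ha, t, rfl⟩ := exists_chunkForm D hD c cs.flatten hc.orth u hu
    rw [sigma_chunkForm D hD T φ c hc]
    exact chunkForm_mem D hD c cs.flatten hc.orth _
      (ih (fun c' hc' => hcs c' (List.mem_cons_of_mem _ hc')) a ha) _

include hD in
/-- the `σ`-fixed cell representatives lie in `G¹` -/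
theorem fix_SR_mem (G1 : Subgroup (GL D.Idx K)) (cs : List (List ℕ))
    (hred : redRB D cs.flatten = true) (hcs : ∀ c ∈ cs, ChunkOK D C c)
    (hn : ∀ c ∈ cs, nR (F := K) D hD c ∈ G1)
    (hx : ∀ c ∈ cs, ∀ t : ℕ → K, (∀ j ∈ c, φ (t (rhoInvOf C j)) = t j) →
      chunkX D hD c t ∈ G1) :
    ∀ u ∈ SR (F := K) D hD cs.flatten, sigmaHom D T.perm φ u = u → u ∈ G1 := by
  induction cs with
  | nil =>
    intro u hu _
    simp only [List.flatten_nil, SR, Set.mem_singleton_iff] at hu
    rw [hu]
    exact Subgroup.one_mem _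
  | cons c cs ih =>
    intro u hu hfix
    rw [List.flatten_cons] at hu hred
    have hc := hcs c List.mem_cons_self
    have hcs' : ∀ c' ∈ cs, ChunkOK D C c' := fun c' hc' => hcs c' (List.mem_cons_of_mem _ hc')
    have hred' : redRB D cs.flatten = true := redRB_append_right D c cs.flatten hred
    obtain ⟨a, ha, t, rfl⟩ := exists_chunkForm D hD c cs.flatten hc.orth u hu
    rw [sigma_chunkForm D hD T φ c hc] at hfix
    obtain ⟨h1, h2⟩ := chunkForm_inj D hD c cs.flatten hc.orth hred _ _
      (sigma_SR_chunks D hD T φ cs hcs' a ha) ha _ _ hfix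
    have ha1 : a ∈ G1 := ih hred' hcs' (fun c' hc' => hn c' (List.mem_cons_of_mem _ hc'))
      (fun c' hc' => hx c' (List.mem_cons_of_mem _ hc')) a ha h1
    unfold chunkForm
    have hnc := hn c List.mem_cons_self
    exact G1.mul_mem (G1.mul_mem (G1.mul_mem (G1.inv_mem hnc) ha1) hnc)
      (hx c List.mem_cons_self t h2)

end

end Cfsg.Agent.helper5.Chev

namespace Cfsg.Agent.helper5.Chev

open Cfsg.Lie Cfsg.Agent.helper6.Graph

section
variable {K : Type*} [Field K] (D : ChevalleyDatum)
  (hD : D ∈ [chevG2, chevB2, chevD4, chevF4, chevE6, chevE7, chevE8])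

include hD in
/-- `U` consists of the cell representatives along a reduced word of the longest element -/
theorem U_sub_SR (w : List ℕ) (hw : W0OK D w) (hred : redRB D w.reverse = true) :
    ∀ u ∈ D.posUnipotent K, u ∈ SR (F := K) D hD w.reverse := by
  intro u hu
  obtain ⟨b, hb, s, hs, e⟩ := cell_exists D hD (commOK_of_mem D hD) (posCommOK_of_mem D hD)
    w.reverse hred u hu
  have hsU : s ∈ D.posUnipotent K :=
    Uneg_le_U D hD _ (SR_sub_Uneg D hD w.reverse hred hs)
  have en : nR (F := K) D hD w.reverse = nW D hD w := by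
    unfold nR
    rw [List.reverse_reverse]
  rw [en] at e
  have hV : nW D hD w * (u * s⁻¹) * (nW D hD w)⁻¹ ∈ D.negUnipotent K := by
    rw [← conj_U_eq_V (F := K) D hD w hw]
    exact ⟨u * s⁻¹, Subgroup.mul_mem _ hu (Subgroup.inv_mem _ hsU), rfl⟩
  have eb : nW D hD w * (u * s⁻¹) * (nW D hD w)⁻¹ = b := by
    calc nW D hD w * (u * s⁻¹) * (nW D hD w)⁻¹ = (nW D hD w * u) * s⁻¹ * (nW D hD w)⁻¹ := by group
      _ = b := by rw [e]; group
  rw [eb] at hV
  have h1 : b ∈ D.borelSubgroup K ⊓ D.negUnipotent K := ⟨hb, hV⟩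
  rw [B_inf_V D hD, Subgroup.mem_bot] at h1
  rw [h1, one_mul] at e
  have := mul_left_cancel e
  rw [this]
  exact hs

variable {C : Cert} (T : TwData K D C) (φ : K →+* K)

include hD in
/-- the `σ`-fixed elements of `U` lie in `G¹` -/
theorem fix_U_mem (G1 : Subgroup (GL D.Idx K)) (cs : List (List ℕ)) (w : List ℕ)
    (hw : W0OK D w) (hwcs : w.reverse = cs.flatten)
    (hred : redRB D cs.flatten = true) (hcs : ∀ c ∈ cs, ChunkOK D C c)
    (hn : ∀ c ∈ cs, nR (F := K) D hD c ∈ G1)
    (hx : ∀ c ∈ cs, ∀ t : ℕ → K, (∀ j ∈ c, φ (t (rhoInvOf C j)) = t j) →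
      chunkX D hD c t ∈ G1) :
    ∀ u ∈ D.posUnipotent K, sigmaHom D T.perm φ u = u → u ∈ G1 := by
  intro u hu hfix
  have h1 := U_sub_SR (K := K) D hD w hw (by rw [hwcs]; exact hred) u hu
  rw [hwcs] at h1
  exact fix_SR_mem D hD T φ G1 cs hred hcs hn hx u h1 hfix

end

end Cfsg.Agent.helper5.Chev

namespace Cfsg.Agent.helper5.Chev

open Cfsg.Lie Cfsg.Agent.helper6.Graph

/-- the `q`-th power endomorphism of a field on which it is additive -/
def frobHom (K : Type*) [Field K] (q : ℕ) (hq0 : q ≠ 0)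
    (hfrob : ∀ a b : K, (a + b) ^ q = a ^ q + b ^ q) : K →+* K where
  toFun t := t ^ q
  map_one' := one_pow q
  map_mul' a b := mul_pow a b q
  map_zero' := zero_pow hq0
  map_add' := hfrob

theorem frobHom_apply (K : Type*) [Field K] (q : ℕ) (hq0 : q ≠ 0)
    (hfrob : ∀ a b : K, (a + b) ^ q = a ^ q + b ^ q) (t : K) :
    frobHom K q hq0 hfrob t = t ^ q := rfl

section
variable {K : Type*} [Field K] (D : ChevalleyDatum)
  (hD : D ∈ [chevG2, chevB2, chevD4, chevF4, chevE6, chevE7, chevE8])
  {C : Cert} (T : TwData K D C) (φ : K →+* K)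

theorem chunkX_congr (c : List ℕ) (t t' : ℕ → K) (h : ∀ j ∈ c, t j = t' j) :
    chunkX D hD c t = chunkX D hD c t' := by
  unfold chunkX
  congr 1
  apply List.map_congr_left
  intro j hj
  rw [h j (List.mem_reverse.mp hj)]

/-- the parametrisation of the `σ`-fixed coefficient families on a chunk -/
structure ChunkCount (C : Cert) (φ : K →+* K) (q : ℕ) (c : List ℕ) (S : Set K)
    (τ : K → ℕ → K) : Prop where
  card : Nat.card S = q ^ c.length
  fix : ∀ s ∈ S, ∀ j ∈ c, φ (τ s (rhoInvOf C j)) = τ s j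
  surj : ∀ t : ℕ → K, (∀ j ∈ c, φ (t (rhoInvOf C j)) = t j) → ∃ s ∈ S, ∀ j ∈ c, t j = τ s j
  inj : ∀ s ∈ S, ∀ s' ∈ S, (∀ j ∈ c, τ s j = τ s' j) → s = s'

include hD in
/-- the number of `σ`-fixed cell representatives -/
theorem card_fix_SR (q : ℕ) (cs : List (List ℕ)) (hred : redRB D cs.flatten = true)
    (hcs : ∀ c ∈ cs, ChunkOK D C c)
    (hcount : ∀ c ∈ cs, ∃ (S : Set K) (τ : K → ℕ → K), ChunkCount C φ q c S τ) :
    Nat.card {u : GL D.Idx K // u ∈ SR (F := K) D hD cs.flatten ∧ sigmaHom D T.perm φ u = u} =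
      q ^ cs.flatten.length := by
  induction cs with
  | nil =>
    simp only [List.flatten_nil, SR, Set.mem_singleton_iff, List.length_nil, pow_zero]
    have : Unique {u : GL D.Idx K // u = 1 ∧ sigmaHom D T.perm φ u = u} :=
      { default := ⟨1, rfl, map_one _⟩
        uniq := fun x => Subtype.ext x.2.1 }
    exact Nat.card_unique
  | cons c cs ih =>
    rw [List.flatten_cons] at hred ⊢
    have hc := hcs c List.mem_cons_self
    have hcs' : ∀ c' ∈ cs, ChunkOK D C c' := fun c' hc' => hcs c' (List.mem_cons_of_mem _ hc')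
    have hred' : redRB D cs.flatten = true := redRB_append_right D c cs.flatten hred
    obtain ⟨S, τ, hS⟩ := hcount c List.mem_cons_self
    have ih' := ih hred' hcs' (fun c' hc' => hcount c' (List.mem_cons_of_mem _ hc'))
    have hfixform : ∀ (a : GL D.Idx K), sigmaHom D T.perm φ a = a → ∀ s ∈ S,
        sigmaHom D T.perm φ (chunkForm D hD c a (τ s)) = chunkForm D hD c a (τ s) := by
      intro a ha s hs
      rw [sigma_chunkForm D hD T φ c hc, ha]
      unfold chunkForm
      rw [chunkX_congr D hD c _ (τ s) (fun j hj => hS.fix s hs j hj)]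
    let Φ : {a : GL D.Idx K // a ∈ SR (F := K) D hD cs.flatten ∧ sigmaHom D T.perm φ a = a} × ↥S →
        {u : GL D.Idx K // u ∈ SR (F := K) D hD (c ++ cs.flatten) ∧
          sigmaHom D T.perm φ u = u} := fun p =>
      ⟨chunkForm D hD c p.1.1 (τ p.2.1),
        chunkForm_mem D hD c cs.flatten hc.orth _ p.1.2.1 _,
        hfixform p.1.1 p.1.2.2 p.2.1 p.2.2⟩
    have hinj : Function.Injective Φ := by
      rintro ⟨⟨a, ha, hfa⟩, ⟨s, hs⟩⟩ ⟨⟨a', ha', hfa'⟩, ⟨s', hs'⟩⟩ hpp
      have e : chunkForm D hD c a (τ s) = chunkForm D hD c a' (τ s') := congrArg Subtype.val hpp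
      obtain ⟨h1, h2⟩ := chunkForm_inj D hD c cs.flatten hc.orth hred a a' ha ha' _ _ e
      have h3 := hS.inj s hs s' hs' h2
      subst h1
      subst h3
      rfl
    have hsurj : Function.Surjective Φ := by
      rintro ⟨u, hu, hfu⟩
      obtain ⟨a, ha, t, rfl⟩ := exists_chunkForm D hD c cs.flatten hc.orth u hu
      rw [sigma_chunkForm D hD T φ c hc] at hfu
      obtain ⟨h1, h2⟩ := chunkForm_inj D hD c cs.flatten hc.orth hred _ _
        (sigma_SR_chunks D hD T φ cs hcs' a ha) ha _ _ hfu
      obtain ⟨s, hs, hts⟩ := hS.surj t h2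
      refine ⟨⟨⟨a, ha, h1⟩, ⟨s, hs⟩⟩, ?_⟩
      apply Subtype.ext
      show chunkForm D hD c a (τ s) = chunkForm D hD c a t
      unfold chunkForm
      rw [chunkX_congr D hD c t (τ s) hts]
    rw [← Nat.card_eq_of_bijective Φ ⟨hinj, hsurj⟩, Nat.card_prod, ih', hS.card,
      List.length_append, pow_add, mul_comm]

end

end Cfsg.Agent.helper5.Chev


namespace Cfsg.Agent.helper5.Chev

open Cfsg.Lie Cfsg.Agent.helper6.Graph

/-- the number of elements of a finite field of order `q ^ m` fixed by `t ↦ t ^ q` -/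
theorem card_fixed_frob {K : Type*} [Field K] [Fintype K] {q m : ℕ} (hq : 1 ≤ q)
    (hK : Fintype.card K = q ^ m) : Nat.card {t : K // t ^ q = t} = q := by
  classical
  have hker := IsCyclic.card_powMonoidHom_ker Kˣ (q - 1)
  have hcu : Nat.card Kˣ = q ^ m - 1 := by
    rw [Nat.card_eq_fintype_card, Fintype.card_units, hK]
  have hdvd : q - 1 ∣ q ^ m - 1 := by
    simpa only [one_pow] using Nat.sub_dvd_pow_sub_pow q 1 m
  rw [hcu, Nat.gcd_eq_right hdvd] at hker
  have hpow : ∀ x : K, x ^ q = x ^ (q - 1) * x := by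
    intro x
    rw [← pow_succ, Nat.sub_add_cancel hq]
  let e : {t : K // t ^ q = t} ≃ Option ↥(powMonoidHom (q - 1) : Kˣ →* Kˣ).ker :=
    { toFun := fun t => if h : t.1 = 0 then none else some ⟨Units.mk0 t.1 h, by
          rw [MonoidHom.mem_ker, powMonoidHom_apply]
          apply Units.ext
          rw [Units.val_pow_eq_pow_val, Units.val_mk0, Units.val_one]
          have h1 := t.2
          rw [hpow] at h1
          exact mul_right_cancel₀ h (by rw [h1, one_mul])⟩
      invFun := fun o => match o with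
        | none => ⟨0, zero_pow (by omega)⟩
        | some u => ⟨(u.1 : K), by
            have h1 := u.2
            rw [MonoidHom.mem_ker, powMonoidHom_apply] at h1
            have h2 : ((u.1 : Kˣ) : K) ^ (q - 1) = 1 := by
              rw [← Units.val_pow_eq_pow_val, h1, Units.val_one]
            rw [hpow, h2, one_mul]⟩
      left_inv := by
        intro t
        by_cases h : t.1 = 0
        · simp only [h, dif_pos]
          exact Subtype.ext h.symm
        · simp only [h, dif_neg, not_false_eq_true]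
          rfl
      right_inv := by
        intro o
        rcases o with _ | u
        · simp
        · have : ((u.1 : Kˣ) : K) ≠ 0 := Units.ne_zero _
          simp only [this, dif_neg, not_false_eq_true]
          congr 1
          apply Subtype.ext
          apply Units.ext
          rfl }
  rw [Nat.card_congr e, Finite.card_option, hker]
  omega

section
variable {K : Type*} [Field K] {C : Cert} (φ : K →+* K) (q : ℕ)

theorem chunkCount_single (i : ℕ) (hi : rhoInvOf C i = i)
    (hcard : Nat.card {s : K // φ s = s} = q) :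
    ChunkCount C φ q [i] {s : K | φ s = s} (fun s _ => s) := by
  refine ⟨?_, ?_, ?_, ?_⟩
  · rw [List.length_singleton, pow_one]
    exact hcard
  · intro s hs j hj
    exact hs
  · intro t ht
    have h1 := ht i (by simp)
    rw [hi] at h1
    refine ⟨t i, h1, ?_⟩
    intro j hj
    rw [List.mem_singleton.mp hj]
  · intro s _ s' _ h
    exact h i (by simp)

theorem chunkCount_pair (i j : ℕ) (hij : j ≠ i) (h1 : rhoInvOf C j = i) (h2 : rhoInvOf C i = j)
    (hφ : ∀ s : K, φ (φ s) = s) (hcard : Nat.card K = q ^ 2) :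
    ChunkCount C φ q [j, i] (Set.univ : Set K) (fun s k => if k = i then s else φ s) := by
  refine ⟨?_, ?_, ?_, ?_⟩
  · rw [Nat.card_congr (Equiv.Set.univ K)]
    exact hcard
  · intro s _ k hk
    simp only [List.mem_cons, List.not_mem_nil, or_false] at hk
    rcases hk with rfl | rfl
    · rw [h1, if_pos rfl, if_neg hij]
    · rw [h2, if_neg hij, if_pos rfl, hφ]
  · intro t ht
    refine ⟨t i, Set.mem_univ _, ?_⟩
    intro k hk
    simp only [List.mem_cons, List.not_mem_nil, or_false] at hk
    rcases hk with rfl | rfl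
    · rw [if_neg hij]
      have := ht k (by simp)
      rw [h1] at this
      exact this.symm
    · rw [if_pos rfl]
  · intro s _ s' _ h
    have := h i (by simp)
    simpa using this

theorem chunkCount_triple (i j k : ℕ) (hji : j ≠ i) (hki : k ≠ i) (hkj : k ≠ j)
    (h1 : rhoInvOf C j = i) (h2 : rhoInvOf C k = j) (h3 : rhoInvOf C i = k)
    (hφ : ∀ s : K, φ (φ (φ s)) = s) (hcard : Nat.card K = q ^ 3) :
    ChunkCount C φ q [k, j, i] (Set.univ : Set K)
      (fun s n => if n = i then s else if n = j then φ s else φ (φ s)) := by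
  refine ⟨?_, ?_, ?_, ?_⟩
  · rw [Nat.card_congr (Equiv.Set.univ K)]
    exact hcard
  · intro s _ n hn
    simp only [List.mem_cons, List.not_mem_nil, or_false] at hn
    rcases hn with rfl | rfl | rfl
    · rw [h2, if_neg hji, if_pos rfl, if_neg hki, if_neg hkj]
    · rw [h1, if_pos rfl, if_neg hji, if_pos rfl]
    · rw [h3, if_neg hki, if_neg hkj, if_pos rfl, hφ]
  · intro t ht
    refine ⟨t i, Set.mem_univ _, ?_⟩
    have e1 := ht j (by simp)
    rw [h1] at e1
    have e2 := ht k (by simp)
    rw [h2] at e2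
    intro n hn
    simp only [List.mem_cons, List.not_mem_nil, or_false] at hn
    rcases hn with rfl | rfl | rfl
    · rw [if_neg hki, if_neg hkj, e1, e2]
    · rw [if_neg hji, if_pos rfl, e1]
    · rw [if_pos rfl]
  · intro s _ s' _ h
    have := h i (by simp)
    simpa using this

end

end Cfsg.Agent.helper5.Chev
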