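import Mathlib
import Cfsg.Agent.Lib_helper5_TwKL
import Cfsg.Agent.Lib_helper5_ChevBruhat2
import Cfsg.Agent.Lib_helper5_TwCore

set_option autoImplicit false

open Cfsg

/-! The (B,N)-pair of a twisted group `G¹`: generic part (helper5). -/

namespace Cfsg.Agent.helper5.Chev

open Cfsg.Lie Cfsg.Agent.helper6.Graph

section
variable {F : Type*} [Field F] (D : ChevalleyDatum)
  (hD : D ∈ [chevG2, chevB2, chevD4, chevF4, chevE6, chevE7, chevE8])

include hD in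
/-- disjointness of the Bruhat cells -/
theorem cell_unique (hC : CommOK D) (hP : PosCommOK D) (x y x' y' n n' : GL D.Idx F)
    (hx : x ∈ D.borelSubgroup F) (hy : y ∈ D.borelSubgroup F)
    (hx' : x' ∈ D.borelSubgroup F) (hy' : y' ∈ D.borelSubgroup F)
    (hn : n ∈ D.monomialSubgroup F) (hn' : n' ∈ D.monomialSubgroup F)
    (e : x * n * y = x' * n' * y') : n⁻¹ * n' ∈ D.diagonalSubgroup F := by
  obtain ⟨hB, hN, hsup⟩ := Cfsg.Agent.S1043.result (F := F) D hD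
  obtain ⟨P, hPB, hPN, -⟩ := chev_bnpair D hD hC hP (D.group F) hB hN hsup
  have hnP : (⟨n, hN hn⟩ : ↥(D.group F)) ∈ P.N := by
    rw [hPN, Subgroup.mem_subgroupOf]; exact hn
  have hn'P : (⟨n', hN hn'⟩ : ↥(D.group F)) ∈ P.N := by
    rw [hPN, Subgroup.mem_subgroupOf]; exact hn'
  have hmem : (⟨n', hN hn'⟩ : ↥(D.group F)) ∈
      DoubleCoset.doubleCoset (⟨n, hN hn⟩ : ↥(D.group F)) (P.B : Set ↥(D.group F)) P.B := by
    rw [DoubleCoset.mem_doubleCoset]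
    refine ⟨⟨x'⁻¹ * x, hB (Subgroup.mul_mem _ (Subgroup.inv_mem _ hx') hx)⟩, ?_,
      ⟨y * y'⁻¹, hB (Subgroup.mul_mem _ hy (Subgroup.inv_mem _ hy'))⟩, ?_, ?_⟩
    · rw [SetLike.mem_coe, hPB, Subgroup.mem_subgroupOf]
      exact Subgroup.mul_mem _ (Subgroup.inv_mem _ hx') hx
    · rw [SetLike.mem_coe, hPB, Subgroup.mem_subgroupOf]
      exact Subgroup.mul_mem _ hy (Subgroup.inv_mem _ hy')
    · apply Subtype.ext
      simp only [Subgroup.coe_mul]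
      have e2 : x'⁻¹ * x * n * (y * y'⁻¹) = x'⁻¹ * (x * n * y) * y'⁻¹ := by group
      rw [e2, e]
      group
  have heq := DoubleCoset.doubleCoset_eq_of_mem hmem
  have h1 := (Cfsg.Agent.S0309.result P hnP hn'P).mp heq.symm
  rw [hPB, Subgroup.mem_subgroupOf] at h1
  have h2 : n⁻¹ * n' ∈ D.borelSubgroup F ⊓ D.monomialSubgroup F :=
    ⟨by simpa using h1, Subgroup.mul_mem _ (Subgroup.inv_mem _ hn) hn'⟩
  rwa [B_inf_N D hD] at h2

include hD in
/-- the iterated (B,N)-axiom: `n_c B n ⊆ ⋃_T B n_T n B` over the sublists `T` of `c` -/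
theorem nW_mul_mem (hC : CommOK D) (hP : PosCommOK D) (c : List ℕ) (hc : ∀ i ∈ c, i < D.rank)
    (n : GL D.Idx F) (hn : n ∈ D.monomialSubgroup F) (b : GL D.Idx F)
    (hb : b ∈ D.borelSubgroup F) :
    ∃ T : List ℕ, T.Sublist c ∧ ∃ x ∈ D.borelSubgroup F, ∃ y ∈ D.borelSubgroup F,
      nW D hD c * b * n = x * (nW D hD T * n) * y := by
  induction c with
  | nil =>
    refine ⟨[], List.Sublist.refl _, b, hb, 1, Subgroup.one_mem _, ?_⟩
    rw [nW_nil']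
    group
  | cons i c ih =>
    have hi := hc i List.mem_cons_self
    have hc' : ∀ j ∈ c, j < D.rank := fun j hj => hc j (List.mem_cons_of_mem _ hj)
    obtain ⟨T, hT, x, hx, y, hy, e⟩ := ih hc'
    have hTlt : ∀ j ∈ T, j < D.rank := fun j hj => hc' j (hT.subset hj)
    have hmN : nW D hD T * n ∈ D.monomialSubgroup F :=
      Subgroup.mul_mem _ (nW_mem D hD T hTlt) hn
    have e1 : nW D hD (i :: c) * b * n =
        nGt D hD (D.simple i) 1 * x * (nW D hD T * n) * y := by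
      rw [nW_cons]
      calc nGt D hD (D.simple i) 1 * nW D hD c * b * n
          = nGt D hD (D.simple i) 1 * (nW D hD c * b * n) := by group
        _ = nGt D hD (D.simple i) 1 * (x * (nW D hD T * n) * y) := by rw [e]
        _ = nGt D hD (D.simple i) 1 * x * (nW D hD T * n) * y := by group
    rcases bn_axiom D hD hC hP i hi _ hmN x hx with h | h
    · obtain ⟨x₁, hx₁, y₁, hy₁, e2⟩ := DoubleCoset.mem_doubleCoset.mp h
      refine ⟨i :: T, hT.cons_cons i, x₁, hx₁, y₁ * y, Subgroup.mul_mem _ hy₁ hy, ?_⟩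
      rw [e1, e2, nW_cons]
      group
    · obtain ⟨x₁, hx₁, y₁, hy₁, e2⟩ := DoubleCoset.mem_doubleCoset.mp h
      refine ⟨T, hT.cons i, x₁, hx₁, y₁ * y, Subgroup.mul_mem _ hy₁ hy, ?_⟩
      rw [e1, e2]
      group

end

section
variable {K : Type*} [Field K] (D : ChevalleyDatum)
  (hD : D ∈ [chevG2, chevB2, chevD4, chevF4, chevE6, chevE7, chevE8])
  {C : Cert} (T : TwData K D C) (P : PiOK D C) (φ : K →+* K)

include hD P in
/-- a `σ`-fixed element of a Bruhat cell `B m B` with `m ∈ G¹` lies in `B¹ m U¹` -/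
theorem fix_cell (hC : CommOK D) (hP : PosCommOK D) (G1 : Subgroup (GL D.Idx K))
    (hfix : ∀ g ∈ G1, sigmaHom D T.perm φ g = g)
    (hKL : ∀ u ∈ D.posUnipotent K, sigmaHom D T.perm φ u = u → u ∈ G1)
    (g m x y : GL D.Idx K) (hg : g ∈ G1) (hm : m ∈ D.monomialSubgroup K) (hm1 : m ∈ G1)
    (hx : x ∈ D.borelSubgroup K) (hy : y ∈ D.borelSubgroup K) (e : g = x * m * y) :
    ∃ b ∈ D.borelSubgroup K ⊓ G1, ∃ u ∈ D.posUnipotent K ⊓ G1, g = b * m * u := by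
  have hNH := N_le_normalizer_H (F := K) D hD
  obtain ⟨h, hh, w, hw, hmw⟩ := mem_N_decomp D hD m hm
  obtain ⟨u₂, hu₂, h₂, hh₂, ey⟩ := mem_borel D hD _ (Subgroup.inv_mem _ hy)
  have ey' : y = h₂⁻¹ * u₂⁻¹ := by
    rw [← inv_inv y, ey, mul_inv_rev]
  obtain ⟨b₀, hb₀, u', hu', e2⟩ := bruhat_word D hD hC hP _ w rfl hw u₂⁻¹ (Subgroup.inv_mem _ hu₂)
  have hh3 : nW D hD w * h₂⁻¹ * (nW D hD w)⁻¹ ∈ D.diagonalSubgroup K :=
    (Subgroup.mem_normalizer_iff.mp (hNH (nW_mem D hD w hw)) _).mp (Subgroup.inv_mem _ hh₂)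
  obtain ⟨b₁, hb₁def⟩ : ∃ b₁, b₁ = x * h * (nW D hD w * h₂⁻¹ * (nW D hD w)⁻¹) * b₀ := ⟨_, rfl⟩
  have hb₁ : b₁ ∈ D.borelSubgroup K := by
    rw [hb₁def]
    exact Subgroup.mul_mem _ (Subgroup.mul_mem _ (Subgroup.mul_mem _ hx (H_le_B D hD hh))
      (H_le_B D hD hh3)) hb₀
  have eg : g = b₁ * nW D hD w * u' := by
    rw [e, hmw, ey', hb₁def]
    have e3 : x * (h * nW D hD w) * (h₂⁻¹ * u₂⁻¹) =
        x * h * (nW D hD w * h₂⁻¹ * (nW D hD w)⁻¹) * (nW D hD w * u₂⁻¹) := by group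
    rw [e3, e2]
    group
  -- apply σ
  have hwρ : ∀ j ∈ w.map (rhoOf C), j < D.rank := by
    intro j hj
    obtain ⟨i, hi, rfl⟩ := List.mem_map.mp hj
    exact T.perm.rho_lt i (hw i hi)
  have hσm := hfix m hm1
  rw [hmw, map_mul, sigma_nW D hD T φ w hw] at hσm
  obtain ⟨h', hh'def⟩ : ∃ h', h' = (sigmaHom D T.perm φ h)⁻¹ * h := ⟨_, rfl⟩
  have hh' : h' ∈ D.diagonalSubgroup K := by
    rw [hh'def]
    exact Subgroup.mul_mem _ (Subgroup.inv_mem _ (sigma_H D hD T φ h hh)) hh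
  have enw : nW D hD (w.map (rhoOf C)) = h' * nW D hD w := by
    rw [hh'def, mul_assoc, ← hσm]
    group
  have happ := applyW_eq_of_eq D hD h' hh' _ _ hwρ hw enw
  have hUn : Uneg (F := K) D hD (w.map (rhoOf C)) = Uneg D hD w := Uneg_congr D hD _ _ happ
  have hσu' : sigmaHom D T.perm φ u' ∈ Uneg (F := K) D hD w := by
    rw [← hUn]
    exact sigma_Uneg D hD T P φ w hw u' hu'
  have hσg := hfix g hg
  rw [eg, map_mul, map_mul, sigma_nW D hD T φ w hw, enw] at hσg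
  have e4 : (sigmaHom D T.perm φ b₁ * h') * nW D hD w * sigmaHom D T.perm φ u' =
      b₁ * nW D hD w * u' := by
    rw [← hσg]
    group
  have hnwN := nW_mem (F := K) D hD w hw
  obtain ⟨-, huniq⟩ := unique_form D hD hC hP _ _ _ _ _ _
    (Subgroup.mul_mem _ (sigma_B D hD T P φ b₁ hb₁) (H_le_B D hD hh')) hb₁ hnwN hnwN
    (Uneg_le_UnegOf D hD w hw hσu') (Uneg_le_UnegOf D hD w hw hu') e4
  obtain ⟨-, hu'fix⟩ := huniq rfl
  have hu'U : u' ∈ D.posUnipotent K := Uneg_le_U D hD w hu'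
  have hu'G : u' ∈ G1 := hKL u' hu'U hu'fix
  have eg2 : g = (b₁ * h⁻¹) * m * u' := by
    rw [eg, hmw]
    group
  refine ⟨b₁ * h⁻¹, ⟨Subgroup.mul_mem _ hb₁ (H_le_B D hD (Subgroup.inv_mem _ hh)), ?_⟩, u',
    ⟨hu'U, hu'G⟩, eg2⟩
  have e5 : b₁ * h⁻¹ = g * u'⁻¹ * m⁻¹ := by
    rw [eg2]
    group
  rw [e5]
  exact G1.mul_mem (G1.mul_mem hg (G1.inv_mem hu'G)) (G1.inv_mem hm1)

include hD P in
/-- the double coset axiom for the twisted group -/
theorem tw_mul_mem (hC : CommOK D) (hP : PosCommOK D) (G1 : Subgroup (GL D.Idx K))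
    (hfix : ∀ g ∈ G1, sigmaHom D T.perm φ g = g)
    (hKL : ∀ u ∈ D.posUnipotent K, sigmaHom D T.perm φ u = u → u ∈ G1)
    (c : List ℕ) (hc : ∀ i ∈ c, i < D.rank) (hcG : nW D hD c ∈ G1)
    (hsub : ∀ T' : List ℕ, T'.Sublist c →
      (∀ s < D.nroots, applyW D (T'.map (rhoOf C)) s = applyW D T' s) → T' = [] ∨ T' = c)
    (n : GL D.Idx K) (hn : n ∈ D.monomialSubgroup K ⊓ G1)
    (b : GL D.Idx K) (hb : b ∈ D.borelSubgroup K ⊓ G1) :
    nW D hD c * b * n ∈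
      DoubleCoset.doubleCoset (nW D hD c * n) ((D.borelSubgroup K ⊓ G1 : Subgroup _) : Set (GL D.Idx K))
        (D.borelSubgroup K ⊓ G1 : Subgroup _) ∪
      DoubleCoset.doubleCoset n ((D.borelSubgroup K ⊓ G1 : Subgroup _) : Set (GL D.Idx K))
        (D.borelSubgroup K ⊓ G1 : Subgroup _) := by
  have hNH := N_le_normalizer_H (F := K) D hD
  obtain ⟨T', hT', x, hx, y, hy, e⟩ := nW_mul_mem D hD hC hP c hc n hn.1 b hb.1
  have hTlt : ∀ j ∈ T', j < D.rank := fun j hj => hc j (hT'.subset hj)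
  have hTρ : ∀ j ∈ T'.map (rhoOf C), j < D.rank := by
    intro j hj
    obtain ⟨i, hi, rfl⟩ := List.mem_map.mp hj
    exact T.perm.rho_lt i (hTlt i hi)
  have hg : nW D hD c * b * n ∈ G1 := G1.mul_mem (G1.mul_mem hcG hb.2) hn.2
  have hσg := hfix _ hg
  have e' : nW D hD c * b * n = sigmaHom D T.perm φ x * (nW D hD (T'.map (rhoOf C)) * n) *
      sigmaHom D T.perm φ y := by
    conv_lhs => rw [← hσg, e]
    rw [map_mul, map_mul, map_mul, sigma_nW D hD T φ T' hTlt, hfix n hn.2]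
  have hcu := cell_unique D hD hC hP x y _ _ (nW D hD T' * n) (nW D hD (T'.map (rhoOf C)) * n)
    hx hy (sigma_B D hD T P φ x hx) (sigma_B D hD T P φ y hy)
    (Subgroup.mul_mem _ (nW_mem D hD T' hTlt) hn.1)
    (Subgroup.mul_mem _ (nW_mem D hD _ hTρ) hn.1) (e.symm.trans e')
  -- move to `n_T⁻¹ n_{ρT} ∈ H`
  have h1 : n * ((nW D hD T' * n)⁻¹ * (nW D hD (T'.map (rhoOf C)) * n)) * n⁻¹ ∈
      D.diagonalSubgroup K := (Subgroup.mem_normalizer_iff.mp (hNH hn.1) _).mp hcu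
  have e1 : n * ((nW D hD T' * n)⁻¹ * (nW D hD (T'.map (rhoOf C)) * n)) * n⁻¹ =
      (nW D hD T')⁻¹ * nW D hD (T'.map (rhoOf C)) := by group
  rw [e1] at h1
  have h2 : nW D hD T' * ((nW D hD T')⁻¹ * nW D hD (T'.map (rhoOf C))) * (nW D hD T')⁻¹ ∈
      D.diagonalSubgroup K :=
    (Subgroup.mem_normalizer_iff.mp (hNH (nW_mem D hD T' hTlt)) _).mp h1
  have e2 : nW (F := K) D hD (T'.map (rhoOf C)) =
      (nW D hD T' * ((nW D hD T')⁻¹ * nW D hD (T'.map (rhoOf C))) * (nW D hD T')⁻¹) *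
        nW D hD T' := by group
  have happ := applyW_eq_of_eq D hD _ h2 _ _ hTρ hTlt e2
  rcases hsub T' hT' happ with rfl | rfl
  · right
    rw [nW_nil', one_mul] at e
    obtain ⟨b', hb', u, hu, e3⟩ := fix_cell D hD T P φ hC hP G1 hfix hKL _ n x y hg hn.1 hn.2
      hx hy e
    exact DoubleCoset.mem_doubleCoset.mpr ⟨b', hb', u, ⟨U_le_B D hD hu.1, hu.2⟩, e3⟩
  · left
    obtain ⟨b', hb', u, hu, e3⟩ := fix_cell D hD T P φ hC hP G1 hfix hKL _ (nW D hD T' * n) x y hg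
      (Subgroup.mul_mem _ (nW_mem D hD T' hTlt) hn.1) (G1.mul_mem hcG hn.2) hx hy e
    exact DoubleCoset.mem_doubleCoset.mpr ⟨b', hb', u, ⟨U_le_B D hD hu.1, hu.2⟩, e3⟩

end

end Cfsg.Agent.helper5.Chev
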