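import Mathlib
import Cfsg.Agent.Lib_helper5_TwBN

set_option autoImplicit false

open Cfsg

/-! The (B,N)-pair of a twisted group `G¹`: assembly (helper5). -/

namespace Cfsg.Agent.helper5.Chev

open Cfsg.Lie Cfsg.Agent.helper6.Graph

/-- decidable conditions on a chunk of fundamental reflections: its element of `W` is an
involution, and the only `ρ`-stable sub-products are the trivial one and the whole chunk -/
def chunkBNChk (D : ChevalleyDatum) (C : Cert) (c : List ℕ) : Bool :=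
  ((List.range D.nroots).all fun s => applyW D (c ++ c) s == s) &&
  (c.sublists.all fun T => T == [] || T == c ||
    !((List.range D.nroots).all fun s => applyW D (T.map (rhoOf C)) s == applyW D T s))

/-- distinct chunks give distinct elements of `W` -/
def chunksInjChk (D : ChevalleyDatum) (cs : List (List ℕ)) : Bool :=
  cs.all fun c => cs.all fun c' => c == c' ||
    !((List.range D.nroots).all fun s => applyW D c s == applyW D c' s)

theorem chunkBNChk_sq (D : ChevalleyDatum) (C : Cert) (c : List ℕ) (h : chunkBNChk D C c = true) :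
    ∀ s < D.nroots, applyW D (c ++ c) s = s := by
  unfold chunkBNChk at h
  rw [Bool.and_eq_true] at h
  have h1 := h.1
  rw [List.all_eq_true] at h1
  intro s hs
  exact beq_iff_eq.mp (h1 s (List.mem_range.mpr hs))

theorem chunkBNChk_sub (D : ChevalleyDatum) (C : Cert) (c : List ℕ) (h : chunkBNChk D C c = true) :
    ∀ T : List ℕ, T.Sublist c →
      (∀ s < D.nroots, applyW D (T.map (rhoOf C)) s = applyW D T s) → T = [] ∨ T = c := by
  unfold chunkBNChk at h
  rw [Bool.and_eq_true] at h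
  have h2 := h.2
  rw [List.all_eq_true] at h2
  intro T hT happ
  have h3 := h2 T (List.mem_sublists.mpr hT)
  rw [Bool.or_eq_true, Bool.or_eq_true] at h3
  rcases h3 with (h3 | h3) | h3
  · left; exact beq_iff_eq.mp h3
  · right; exact beq_iff_eq.mp h3
  · exfalso
    rw [Bool.not_eq_true', ← Bool.not_eq_true] at h3
    apply h3
    rw [List.all_eq_true]
    intro s hs
    exact beq_iff_eq.mpr (happ s (List.mem_range.mp hs))

theorem chunksInjChk_inj (D : ChevalleyDatum) (cs : List (List ℕ)) (h : chunksInjChk D cs = true) :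
    ∀ c ∈ cs, ∀ c' ∈ cs, (∀ s < D.nroots, applyW D c s = applyW D c' s) → c = c' := by
  unfold chunksInjChk at h
  rw [List.all_eq_true] at h
  intro c hc c' hc' happ
  have h1 := h c hc
  rw [List.all_eq_true] at h1
  have h2 := h1 c' hc'
  rw [Bool.or_eq_true] at h2
  rcases h2 with h2 | h2
  · exact beq_iff_eq.mp h2
  · exfalso
    rw [Bool.not_eq_true', ← Bool.not_eq_true] at h2
    apply h2
    rw [List.all_eq_true]
    intro s hs
    exact beq_iff_eq.mpr (happ s (List.mem_range.mp hs))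

section
variable {K : Type*} [Field K] (D : ChevalleyDatum)
  (hD : D ∈ [chevG2, chevB2, chevD4, chevF4, chevE6, chevE7, chevE8])
  {C : Cert} (T : TwData K D C) (P : PiOK D C) (φ : K →+* K)

include hD P in
/-- **the (B,N)-pair of a twisted group** -/
theorem tw_bnpair (hC : CommOK D) (hP : PosCommOK D) (G1 : Subgroup (GL D.Idx K))
    (hfix : ∀ g ∈ G1, sigmaHom D T.perm φ g = g)
    (hKL : ∀ u ∈ D.posUnipotent K, sigmaHom D T.perm φ u = u → u ∈ G1)
    (cs0 : List (List ℕ)) (hlt : ∀ c ∈ cs0, ∀ i ∈ c, i < D.rank)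
    (hmem : ∀ c ∈ cs0, nW D hD c ∈ G1)
    (hchk : ∀ c ∈ cs0, chunkBNChk D C c = true)
    (hinjc : chunksInjChk D cs0 = true)
    (hgen : G1 ≤ Subgroup.closure
      (((D.borelSubgroup K ⊓ G1 : Subgroup (GL D.Idx K)) : Set (GL D.Idx K)) ∪
        {s | ∃ c ∈ cs0, s = nW D hD c}))
    (hne : ∀ c ∈ cs0, ∃ x ∈ D.borelSubgroup K ⊓ G1,
      nW D hD c * x * (nW D hD c)⁻¹ ∉ D.borelSubgroup K) :
    ∃ Q : Cfsg.BNPair ↥G1, Q.B = (D.borelSubgroup K ⊓ G1).subgroupOf G1 ∧
      Q.N = (D.monomialSubgroup K ⊓ G1).subgroupOf G1 ∧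
      Q.S = {k : ↥G1 | (k : GL D.Idx K) ∈ {s : GL D.Idx K | ∃ c ∈ cs0, s = nW D hD c}} := by
  have hNH := N_le_normalizer_H (F := K) D hD
  have hBN := B_inf_N (F := K) D hD
  obtain ⟨B1, hB1⟩ : ∃ B1, B1 = D.borelSubgroup K ⊓ G1 := ⟨_, rfl⟩
  obtain ⟨N1, hN1⟩ : ∃ N1, N1 = D.monomialSubgroup K ⊓ G1 := ⟨_, rfl⟩
  obtain ⟨S, hSdef⟩ : ∃ S : Set (GL D.Idx K), S = {s | ∃ c ∈ cs0, s = nW D hD c} := ⟨_, rfl⟩
  rw [← hB1, ← hSdef] at hgen
  rw [← hB1, ← hN1, ← hSdef]
  have hSN : S ⊆ (N1 : Set (GL D.Idx K)) := by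
    rw [hSdef, hN1]
    rintro s ⟨c, hc, rfl⟩
    exact ⟨nW_mem D hD c (hlt c hc), hmem c hc⟩
  have hsq : ∀ s ∈ S, s * s ∈ B1 := by
    rw [hSdef, hB1]
    rintro s ⟨c, hc, rfl⟩
    refine ⟨?_, G1.mul_mem (hmem c hc) (hmem c hc)⟩
    rw [← nW_append]
    apply H_le_B D hD
    apply nW_mem_H D hD
    · intro i hi
      rcases List.mem_append.mp hi with hi | hi <;> exact hlt c hc i hi
    · exact chunkBNChk_sq D C c (hchk c hc)
  have hHB1 : ∀ h ∈ D.diagonalSubgroup K, h ∈ G1 → h ∈ B1 ⊓ N1 := by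
    intro h hh hG
    rw [hB1, hN1]
    exact ⟨⟨H_le_B D hD hh, hG⟩, ⟨H_le_N D hh, hG⟩⟩
  have hmul : ∀ s ∈ S, ∀ n ∈ N1, ∀ b ∈ B1, s * b * n ∈
      DoubleCoset.doubleCoset (s * n) (B1 : Set (GL D.Idx K)) B1 ∪
        DoubleCoset.doubleCoset n (B1 : Set (GL D.Idx K)) B1 := by
    rw [hSdef, hB1, hN1]
    rintro s ⟨c, hc, rfl⟩ n hn b hb
    exact tw_mul_mem D hD T P φ hC hP G1 hfix hKL c (hlt c hc) (hmem c hc)
      (chunkBNChk_sub D C c (hchk c hc)) n hn b hb
  have hB1G : B1 ≤ G1 := by rw [hB1]; exact inf_le_right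
  have hN1G : N1 ≤ G1 := by rw [hN1]; exact inf_le_right
  have hB1B : B1 ≤ D.borelSubgroup K := by rw [hB1]; exact inf_le_left
  have hN1N : N1 ≤ D.monomialSubgroup K := by rw [hN1]; exact inf_le_left
  -- the closure axiom
  have hcl : Subgroup.closure S ⊔ (B1 ⊓ N1) = N1 := by
    apply le_antisymm
    · exact sup_le ((Subgroup.closure_le _).mpr hSN) inf_le_right
    · obtain ⟨N', hN'⟩ : ∃ N', N' = Subgroup.closure S ⊔ (B1 ⊓ N1) := ⟨_, rfl⟩
      rw [← hN']
      have hN'N1 : N' ≤ N1 := by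
        rw [hN']
        exact sup_le ((Subgroup.closure_le _).mpr hSN) inf_le_right
      have hSN' : ∀ s ∈ S, s ∈ N' := by
        intro s hs
        rw [hN']
        exact Subgroup.mem_sup_left (Subgroup.subset_closure hs)
      obtain ⟨X, hX⟩ : ∃ X : Set (GL D.Idx K),
        X = {g | ∃ b ∈ B1, ∃ n' ∈ N', ∃ b' ∈ B1, g = b * n' * b'} := ⟨_, rfl⟩
      have hBX : ∀ b₀ ∈ B1, ∀ z ∈ X, b₀ * z ∈ X := by
        rw [hX]
        rintro b₀ hb₀ z ⟨b, hb, n', hn', b', hb', rfl⟩
        exact ⟨b₀ * b, B1.mul_mem hb₀ hb, n', hn', b', hb', by group⟩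
      have hSX : ∀ s ∈ S, ∀ z ∈ X, s * z ∈ X := by
        intro s hs z hz
        rw [hX] at hz ⊢
        obtain ⟨b, hb, n', hn', b', hb', rfl⟩ := hz
        rcases hmul s hs n' (hN'N1 hn') b hb with h | h
        · obtain ⟨x, hx, y, hy, e⟩ := DoubleCoset.mem_doubleCoset.mp h
          refine ⟨x, hx, s * n', N'.mul_mem (hSN' s hs) hn', y * b', B1.mul_mem hy hb', ?_⟩
          calc s * (b * n' * b') = (s * b * n') * b' := by group
            _ = x * (s * n') * (y * b') := by rw [e]; group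
        · obtain ⟨x, hx, y, hy, e⟩ := DoubleCoset.mem_doubleCoset.mp h
          refine ⟨x, hx, n', hn', y * b', B1.mul_mem hy hb', ?_⟩
          calc s * (b * n' * b') = (s * b * n') * b' := by group
            _ = x * n' * (y * b') := by rw [e]; group
      have key : ∀ g ∈ Subgroup.closure ((B1 : Set (GL D.Idx K)) ∪ S),
          ∀ z ∈ X, g * z ∈ X ∧ g⁻¹ * z ∈ X := by
        intro g hg
        induction hg using Subgroup.closure_induction with
        | mem g hg =>
          intro z hz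
          rcases hg with hg | hg
          · exact ⟨hBX g hg z hz, hBX g⁻¹ (B1.inv_mem hg) z hz⟩
          · refine ⟨hSX g hg z hz, ?_⟩
            have e : g⁻¹ * z = (g * g)⁻¹ * (g * z) := by group
            rw [e]
            exact hBX _ (B1.inv_mem (hsq g hg)) _ (hSX g hg z hz)
        | one =>
          intro z hz
          simpa using hz
        | mul a b _ _ iha ihb =>
          intro z hz
          constructor
          · rw [mul_assoc]
            exact (iha _ (ihb z hz).1).1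
          · rw [mul_inv_rev, mul_assoc]
            exact (ihb _ (iha z hz).2).2
        | inv a _ iha =>
          intro z hz
          rw [inv_inv]
          exact ⟨(iha z hz).2, (iha z hz).1⟩
      have h1X : (1 : GL D.Idx K) ∈ X := by
        rw [hX]
        exact ⟨1, B1.one_mem, 1, N'.one_mem, 1, B1.one_mem, by group⟩
      intro n hn
      have hnX : n ∈ X := by
        have := (key n (hgen (hN1G hn)) 1 h1X).1
        rwa [mul_one] at this
      rw [hX] at hnX
      obtain ⟨b, hb, n', hn', b', hb', e⟩ := hnX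
      have hcu := cell_unique D hD hC hP 1 1 b b' n n' (Subgroup.one_mem _) (Subgroup.one_mem _)
        (hB1B hb) (hB1B hb') (hN1N hn) (hN1N (hN'N1 hn')) (by rw [one_mul, mul_one]; exact e)
      have hG : n⁻¹ * n' ∈ G1 := G1.mul_mem (G1.inv_mem (hN1G hn)) (hN1G (hN'N1 hn'))
      have h2 : n⁻¹ * n' ∈ N' := by
        rw [hN']
        exact Subgroup.mem_sup_right (hHB1 _ hcu hG)
      have e3 : n = n' * (n⁻¹ * n')⁻¹ := by group
      rw [e3]
      exact N'.mul_mem hn' (N'.inv_mem h2)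
  refine bnpair_of_axioms G1 B1 N1 S hB1G hN1G ?_ ?_ hSN hsq ?_ hcl hmul ?_
  · -- sup
    apply le_antisymm (sup_le hB1G hN1G)
    refine hgen.trans ((Subgroup.closure_le _).mpr ?_)
    rintro g (hg | hg)
    · exact Subgroup.mem_sup_left hg
    · exact Subgroup.mem_sup_right (hSN hg)
  · -- conj
    intro n hn t ht
    have htH : t ∈ D.diagonalSubgroup K := by
      rw [← hBN]
      exact ⟨hB1B ht.1, hN1N ht.2⟩
    have h1 : n * t * n⁻¹ ∈ D.diagonalSubgroup K :=
      (Subgroup.mem_normalizer_iff.mp (hNH (hN1N hn)) _).mp htH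
    exact (hHB1 _ h1 (G1.mul_mem (G1.mul_mem (hN1G hn) (hB1G ht.1)) (G1.inv_mem (hN1G hn)))).1
  · -- inj
    intro s hs s' hs' hmemB
    have hsN := hN1N (hSN hs)
    have hs'N := hN1N (hSN hs')
    rw [hSdef] at hs hs'
    obtain ⟨c, hc, rfl⟩ := hs
    obtain ⟨c', hc', rfl⟩ := hs'
    have hH : (nW D hD c)⁻¹ * nW D hD c' ∈ D.diagonalSubgroup K := by
      rw [← hBN]
      exact ⟨hB1B hmemB, Subgroup.mul_mem _ (Subgroup.inv_mem _ hsN) hs'N⟩
    have h2 : nW D hD c * ((nW D hD c)⁻¹ * nW D hD c') * (nW D hD c)⁻¹ ∈ D.diagonalSubgroup K :=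
      (Subgroup.mem_normalizer_iff.mp (hNH hsN) _).mp hH
    have e2 : nW (F := K) D hD c' =
        (nW D hD c * ((nW D hD c)⁻¹ * nW D hD c') * (nW D hD c)⁻¹) * nW D hD c := by group
    have happ := applyW_eq_of_eq D hD _ h2 _ _ (hlt c' hc') (hlt c hc) e2
    rw [chunksInjChk_inj D cs0 hinjc c' hc' c hc happ]
  · -- ne
    intro s hs
    have hss := hsq s hs
    rw [hSdef] at hs
    obtain ⟨c, hc, rfl⟩ := hs
    obtain ⟨x, hx, hnx⟩ := hne c hc
    rw [← hB1] at hx
    refine ⟨x, hx, ?_⟩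
    intro h
    apply hnx
    have e : nW D hD c * x * (nW D hD c)⁻¹ =
        (nW D hD c * x * nW D hD c) * (nW D hD c * nW D hD c)⁻¹ := by group
    rw [e]
    exact Subgroup.mul_mem _ (hB1B h) (Subgroup.inv_mem _ (hB1B hss))

end

end Cfsg.Agent.helper5.Chev
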