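import Mathlib
import Cfsg.Agent.Lib_helper5_TwBN2

set_option autoImplicit false

open Cfsg

/-! The (B,N)-pair of a twisted group `G¹`: generation and non-degeneracy (helper5). -/

namespace Cfsg.Agent.helper5.Chev

open Cfsg.Lie Cfsg.Agent.helper6.Graph

section
variable {F : Type*} [Field F] (D : ChevalleyDatum)
  (hD : D ∈ [chevG2, chevB2, chevD4, chevF4, chevE6, chevE7, chevE8])

include hD in
/-- the representative of a chunk does not normalise `B¹` -/
theorem chunk_conj_not_mem_B (c : List ℕ) (horth : ChunkOrth D c) (hred : redRB D c = true)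
    (hcne : c ≠ []) :
    nR D hD c * chunkX D hD c (fun _ => (1 : F)) * (nR D hD c)⁻¹ ∉ D.borelSubgroup F := by
  intro hB
  have hlt := redRB_lt D c hred
  have h1SR : (1 : GL D.Idx F) ∈ SR (F := F) D hD [] := by simp [SR]
  have hx : chunkX D hD c (fun _ => (1 : F)) ∈ SR (F := F) D hD c := by
    have := chunkForm_mem D hD c [] horth 1 h1SR (fun _ => (1 : F))
    rw [List.append_nil] at this
    unfold chunkForm at this
    simpa using this
  have hU := SR_sub_Uneg D hD c hred hx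
  have hV := conj_UnegOf_mem_V D (nW D hD c.reverse) _
    (Uneg_le_UnegOf D hD c.reverse (fun i hi => hlt i (List.mem_reverse.mp hi)) hU)
  have h1 : nR D hD c * chunkX D hD c (fun _ => (1 : F)) * (nR D hD c)⁻¹ ∈
      D.borelSubgroup F ⊓ D.negUnipotent F := ⟨hB, hV⟩
  rw [B_inf_V D hD, Subgroup.mem_bot] at h1
  have hx1 : chunkX D hD c (fun _ => (1 : F)) = 1 := by
    have e : chunkX D hD c (fun _ => (1 : F)) =
        (nR D hD c)⁻¹ * (nR D hD c * chunkX D hD c (fun _ => (1 : F)) * (nR D hD c)⁻¹) *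
          nR D hD c := by group
    rw [e, h1]
    group
  have h0 : chunkX D hD c (fun _ => (0 : F)) = 1 := by
    unfold chunkX
    apply List.prod_eq_one
    intro x hx
    obtain ⟨i, _, rfl⟩ := List.mem_map.mp hx
    exact xG_zero D hD _
  have e : chunkForm D hD c 1 (fun _ => (1 : F)) = chunkForm D hD c 1 (fun _ => (0 : F)) := by
    unfold chunkForm
    rw [hx1, h0]
  obtain ⟨-, h2⟩ := chunkForm_inj D hD c [] horth (by rwa [List.append_nil]) 1 1 h1SR h1SR _ _ e
  obtain ⟨j, hj⟩ := List.exists_mem_of_ne_nil c hcne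
  exact one_ne_zero (h2 j hj)

include hD in
/-- elements of `U ∩ G¹` and `V ∩ G¹` are generated by `B¹` and a representative of `w₀` -/
theorem tw_gen_of_UV (G1 : Subgroup (GL D.Idx F)) (S : Set (GL D.Idx F))
    (hSG : S ⊆ (G1 : Set (GL D.Idx F))) (w0 : List ℕ) (hw0 : W0OK D w0)
    (hn0 : nW D hD w0 ∈ Subgroup.closure S) (g : GL D.Idx F) (hg : g ∈ G1)
    (h : g ∈ D.posUnipotent F ∨ g ∈ D.negUnipotent F) :
    g ∈ Subgroup.closure
      (((D.borelSubgroup F ⊓ G1 : Subgroup (GL D.Idx F)) : Set (GL D.Idx F)) ∪ S) := by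
  rcases h with hU | hV
  · exact Subgroup.subset_closure (Or.inl ⟨U_le_B D hD hU, hg⟩)
  · rw [← conj_U_eq_V (F := F) D hD w0 hw0] at hV
    obtain ⟨u, hu, rfl⟩ := hV
    have hn0G : nW D hD w0 ∈ G1 := (Subgroup.closure_le _).mpr hSG hn0
    have hn0c : nW D hD w0 ∈ Subgroup.closure
        (((D.borelSubgroup F ⊓ G1 : Subgroup (GL D.Idx F)) : Set (GL D.Idx F)) ∪ S) :=
      Subgroup.closure_mono Set.subset_union_right hn0
    rw [MulEquiv.coe_toMonoidHom, MulAut.conj_apply] at hg ⊢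
    have huG : u ∈ G1 := by
      have e : u = (nW D hD w0)⁻¹ * (nW D hD w0 * u * (nW D hD w0)⁻¹) * nW D hD w0 := by group
      rw [e]
      exact G1.mul_mem (G1.mul_mem (G1.inv_mem hn0G) hg) hn0G
    have huc : u ∈ Subgroup.closure
        (((D.borelSubgroup F ⊓ G1 : Subgroup (GL D.Idx F)) : Set (GL D.Idx F)) ∪ S) :=
      Subgroup.subset_closure (Or.inl ⟨U_le_B D hD hu, huG⟩)
    exact Subgroup.mul_mem _ (Subgroup.mul_mem _ hn0c huc) (Subgroup.inv_mem _ hn0c)

end

end Cfsg.Agent.helper5.Chev
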