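import Mathlib
import Cfsg.Agent.Lib_helper5_ChevOrdDefs

set_option autoImplicit false
open Cfsg

/-! Enumeration certificates for the fixed subgroup `W¹` of a Weyl group, with words in chunks of
fundamental reflections: definitions (helper5). -/

namespace Cfsg.Agent.helper5.Chev

open Cfsg.Lie

/-- the check for the `k`-th entry of a chunk-word enumeration certificate -/
def twenumK (D : ChevalleyDatum) (csr : List (List ℕ)) (vs : List (List (List ℕ)))
    (perms nxt : List (List ℕ)) (k : ℕ) : Bool :=
  redRB D (vs.getD k []).flatten &&
  ((vs.getD k []).all fun c => csr.contains c) &&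
  (perms.getD k [] == keyOf D (vs.getD k []).flatten) &&
  (List.range csr.length).all fun j =>
    decide ((nxt.getD k []).getD j 0 < vs.length) &&
    ((perms.getD k []).map (applyR D (csr.getD j [])) ==
      perms.getD ((nxt.getD k []).getD j 0) [])

def twenumRange (D : ChevalleyDatum) (csr : List (List ℕ)) (vs : List (List (List ℕ)))
    (perms nxt : List (List ℕ)) (lo n : ℕ) : Bool :=
  (List.range n).all fun k => twenumK D csr vs perms nxt (lo + k)

/-- a chunk-word enumeration certificate -/
structure TwEnum (D : ChevalleyDatum) (csr : List (List ℕ)) (vs : List (List (List ℕ)))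
    (perms nxt : List (List ℕ)) : Prop where
  hlenP : perms.length = vs.length
  h0 : vs.getD 0 [[1]] = []
  hk : ∀ k < vs.length, twenumK D csr vs perms nxt k = true
  hnd : perms.Nodup

theorem twenum_of_chunks (D : ChevalleyDatum) (csr : List (List ℕ)) (vs : List (List (List ℕ)))
    (perms nxt : List (List ℕ)) (n m : ℕ)
    (hn : 0 < n) (hm : vs.length ≤ m * n)
    (h : ∀ k < m, twenumRange D csr vs perms nxt (k * n) n = true) :
    ∀ k < vs.length, twenumK D csr vs perms nxt k = true := by
  refine range_of_chunks (fun k => twenumK D csr vs perms nxt k = true) vs.length n m hn hm ?_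
  intro k hk j hj
  have h3 := h k hk
  unfold twenumRange at h3
  rw [List.all_eq_true] at h3
  exact h3 j (List.mem_range.mpr hj)

end Cfsg.Agent.helper5.Chev
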