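import Mathlib
import Cfsg.Agent.Lib_helper5_TwEnumDefs
import Cfsg.Agent.Lib_helper5_ChevOrd

set_option autoImplicit false
open Cfsg

/-! Chunk-word enumerations of `W¹`: completeness and distinctness (helper5). -/

namespace Cfsg.Agent.helper5.Chev

open Cfsg.Lie

/-- the word in fundamental reflections of a word in chunks -/
def chunkWord (csr : List (List ℕ)) (W : List ℕ) : List ℕ :=
  W.flatMap fun j => (csr.getD j []).reverse

section
variable (D : ChevalleyDatum) (csr : List (List ℕ)) (vs : List (List (List ℕ)))
  (perms nxt : List (List ℕ)) (hE : TwEnum D csr vs perms nxt)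

include hE in
theorem TwEnum.red (k : ℕ) (hk : k < vs.length) : redRB D (vs.getD k []).flatten = true := by
  have h := hE.hk k hk
  unfold twenumK at h
  simp only [Bool.and_eq_true] at h
  exact h.1.1.1

include hE in
theorem TwEnum.mem (k : ℕ) (hk : k < vs.length) : ∀ c ∈ vs.getD k [], c ∈ csr := by
  have h := hE.hk k hk
  unfold twenumK at h
  simp only [Bool.and_eq_true, List.all_eq_true] at h
  intro c hc
  have := h.1.1.2 c hc
  simpa using this

include hE in
theorem TwEnum.perm_eq (k : ℕ) (hk : k < vs.length) (r : ℕ) (hr : r < D.nroots) :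
    (perms.getD k []).getD r 0 = applyR D (vs.getD k []).flatten r := by
  have h := hE.hk k hk
  unfold twenumK at h
  simp only [Bool.and_eq_true, beq_iff_eq] at h
  rw [h.1.2]
  unfold keyOf
  rw [List.getD_eq_getElem _ _ (by simpa using hr)]
  simp

include hE in
theorem TwEnum.nxt_lt (k : ℕ) (hk : k < vs.length) (j : ℕ) (hj : j < csr.length) :
    (nxt.getD k []).getD j 0 < vs.length := by
  have h := hE.hk k hk
  unfold twenumK at h
  simp only [Bool.and_eq_true, List.all_eq_true, List.mem_range, decide_eq_true_eq] at h
  exact (h.2 j hj).1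

include hE in
theorem TwEnum.nxt_perm (k : ℕ) (hk : k < vs.length) (j : ℕ) (hj : j < csr.length) (r : ℕ)
    (hr : r < D.nroots) :
    (perms.getD ((nxt.getD k []).getD j 0) []).getD r 0 =
      applyR D (csr.getD j []) ((perms.getD k []).getD r 0) := by
  have h := hE.hk k hk
  unfold twenumK at h
  simp only [Bool.and_eq_true, List.all_eq_true, List.mem_range, decide_eq_true_eq,
    beq_iff_eq] at h
  rw [← (h.2 j hj).2]
  have hlen : (perms.getD k []).length = D.nroots := by
    rw [h.1.2]
    unfold keyOf
    simp
  have hr1 : r < (perms.getD k []).length := by rw [hlen]; exact hr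
  have hr2 : r < ((perms.getD k []).map (applyR D (csr.getD j []))).length := by
    rw [List.length_map]; exact hr1
  rw [List.getD_eq_getElem _ _ hr2, List.getD_eq_getElem _ _ hr1, List.getElem_map]

include hE in
/-- completeness: every word in the chunks acts as one of the enumerated words -/
theorem TwEnum.complete (W : List ℕ) (hW : ∀ j ∈ W, j < csr.length) :
    ∃ k < vs.length, ∀ r < D.nroots,
      applyW D (chunkWord csr W) r = applyR D (vs.getD k []).flatten r := by
  induction W with
  | nil =>
    have h0 := hE.h0
    have hlen : 0 < vs.length := by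
      by_contra hlen
      have : vs = [] := List.eq_nil_of_length_eq_zero (by omega)
      rw [this] at h0
      simp at h0
    refine ⟨0, hlen, fun r _ => ?_⟩
    have : vs.getD 0 [] = [] := by
      rw [List.getD_eq_getElem _ _ hlen] at h0 ⊢
      exact h0
    rw [this]
    rfl
  | cons j W ih =>
    have hj := hW j List.mem_cons_self
    obtain ⟨k, hk, hperm⟩ := ih fun j' hj' => hW j' (List.mem_cons_of_mem _ hj')
    refine ⟨_, hE.nxt_lt D csr vs perms nxt k hk j hj, fun r hr => ?_⟩
    rw [← hE.perm_eq D csr vs perms nxt _ (hE.nxt_lt D csr vs perms nxt k hk j hj) r hr,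
      hE.nxt_perm D csr vs perms nxt k hk j hj r hr, hE.perm_eq D csr vs perms nxt k hk r hr,
      ← hperm r hr]
    unfold chunkWord applyR
    rw [List.flatMap_cons, applyW_append]

include hE in
/-- distinctness: enumerated words with the same action coincide -/
theorem TwEnum.distinct (k k' : ℕ) (hk : k < vs.length) (hk' : k' < vs.length)
    (h : ∀ r < D.nroots, applyR D (vs.getD k []).flatten r = applyR D (vs.getD k' []).flatten r) :
    k = k' := by
  have h1 := hE.hk k hk
  have h2 := hE.hk k' hk'
  unfold twenumK at h1 h2
  simp only [Bool.and_eq_true, beq_iff_eq] at h1 h2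
  have h3 : perms.getD k [] = perms.getD k' [] := by
    rw [h1.1.2, h2.1.2]
    unfold keyOf
    apply List.map_congr_left
    intro r hr
    exact h r (List.mem_range.mp hr)
  have hkP : k < perms.length := by rw [hE.hlenP]; exact hk
  have hkP' : k' < perms.length := by rw [hE.hlenP]; exact hk'
  rw [List.getD_eq_getElem _ _ hkP, List.getD_eq_getElem _ _ hkP'] at h3
  exact (List.Nodup.getElem_inj_iff hE.hnd).mp h3

end

end Cfsg.Agent.helper5.Chev
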