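import Mathlib
import Cfsg.Agent.Lib_helper5_TwEnum
import Cfsg.Agent.Lib_helper5_TwBN3
import Cfsg.Agent.Lib_helper5_CoxCard

set_option autoImplicit false
open Cfsg

/-! `N¹ / H¹` is a Coxeter group (helper5). -/

namespace Cfsg.Agent.helper5.Chev

open Cfsg.Lie Cfsg.Agent.helper6.Graph Cfsg.Agent.helper5.TC

/-- the Coxeter relations among the chunks -/
def twRelChk (D : ChevalleyDatum) (csr : List (List ℕ)) (mt : List (List ℕ)) : Bool :=
  (List.range csr.length).all fun i => (List.range csr.length).all fun j =>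
    (List.range D.nroots).all fun r =>
      applyW D (List.replicate (tget mt i j)
        ((csr.getD i []).reverse ++ (csr.getD j []).reverse)).flatten r == r

section
variable {K : Type*} [Field K] (D : ChevalleyDatum)
  (hD : D ∈ [chevG2, chevB2, chevD4, chevF4, chevE6, chevE7, chevE8])

theorem nW_replicate (w : List ℕ) (m : ℕ) :
    nW (F := K) D hD (List.replicate m w).flatten = (nW D hD w) ^ m := by
  induction m with
  | zero => simp [nW_nil']
  | succ m ih =>
    rw [List.replicate_succ, List.flatten_cons, nW_append, ih, pow_succ']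

theorem nR_append (v₁ v₂ : List ℕ) :
    nR (F := K) D hD (v₁ ++ v₂) = nR D hD v₂ * nR D hD v₁ := by
  unfold nR
  rw [List.reverse_append, nW_append]

/-- the representative of a word in chunks lies in `G¹` -/
theorem nR_flatten_mem (G1 : Subgroup (GL D.Idx K)) (csr : List (List ℕ))
    (hmem : ∀ c ∈ csr, nR D hD c ∈ G1) (v : List (List ℕ)) (hv : ∀ c ∈ v, c ∈ csr) :
    nR D hD v.flatten ∈ G1 := by
  induction v with
  | nil =>
    unfold nR
    simp only [List.flatten_nil, List.reverse_nil]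
    rw [nW_nil']
    exact G1.one_mem
  | cons c v ih =>
    rw [List.flatten_cons, nR_append]
    exact G1.mul_mem (ih fun c' hc' => hv c' (List.mem_cons_of_mem _ hc'))
      (hmem c (hv c List.mem_cons_self))

include hD in
/-- the generation of `N¹` read off the (B,N)-pair -/
theorem tw_N_gen (G1 : Subgroup (GL D.Idx K)) (S : Set (GL D.Idx K))
    (hSG : S ⊆ (G1 : Set (GL D.Idx K)))
    (Q : Cfsg.BNPair ↥G1) (hQB : Q.B = (D.borelSubgroup K ⊓ G1).subgroupOf G1)
    (hQN : Q.N = (D.monomialSubgroup K ⊓ G1).subgroupOf G1)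
    (hQS : Q.S = {k : ↥G1 | (k : GL D.Idx K) ∈ S}) :
    D.monomialSubgroup K ⊓ G1 ≤ Subgroup.closure S ⊔ (D.diagonalSubgroup K ⊓ G1) := by
  have h := Q.closure_sup
  have h2 := congrArg (Subgroup.map G1.subtype) h
  rw [Subgroup.map_sup, MonoidHom.map_closure, Subgroup.map_inf _ _ _ G1.subtype_injective,
    hQB, hQN, Subgroup.map_subgroupOf_eq_of_le inf_le_right,
    Subgroup.map_subgroupOf_eq_of_le inf_le_right, hQS] at h2
  have hS : (G1.subtype '' {k : ↥G1 | (k : GL D.Idx K) ∈ S}) = S := by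
    ext g
    constructor
    · rintro ⟨k, hk, rfl⟩
      exact hk
    · intro hg
      exact ⟨⟨g, hSG hg⟩, hg, rfl⟩
  rw [hS] at h2
  rw [← h2]
  apply sup_le_sup_left
  intro g hg
  have h3 : g ∈ D.borelSubgroup K ⊓ D.monomialSubgroup K := ⟨hg.1.1, hg.2.1⟩
  rw [B_inf_N D hD] at h3
  exact ⟨h3, hg.1.2⟩

include hD in
/-- **`N¹ / H¹` is the Coxeter group with the given matrix** -/
theorem tw_N_mod_H_cox [Finite K] {n : ℕ} (M : CoxeterMatrix (Fin n)) [Finite M.Group]
    (mt : List (List ℕ)) (hmt : MtOK M mt)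
    (G1 : Subgroup (GL D.Idx K)) (csr : List (List ℕ)) (hn : csr.length = n)
    (vs : List (List (List ℕ))) (perms nxt : List (List ℕ)) (hE : TwEnum D csr vs perms nxt)
    (hlt : ∀ c ∈ csr, ∀ i ∈ c, i < D.rank)
    (hmem : ∀ c ∈ csr, nR D hD c ∈ G1)
    (hrel : twRelChk D csr mt = true)
    (hgenN : D.monomialSubgroup K ⊓ G1 ≤
      Subgroup.closure {s : GL D.Idx K | ∃ c ∈ csr, s = nR D hD c} ⊔ (D.diagonalSubgroup K ⊓ G1))
    (hcard : Nat.card M.Group = vs.length) :
    ∃ φ : ↥(D.monomialSubgroup K ⊓ G1) →* M.Group, Function.Surjective φ ∧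
      φ.ker = (D.diagonalSubgroup K ⊓ G1).subgroupOf (D.monomialSubgroup K ⊓ G1) := by
  classical
  have hNH := N_le_normalizer_H (F := K) D hD
  obtain ⟨N1, hN1⟩ : ∃ N1, N1 = D.monomialSubgroup K ⊓ G1 := ⟨_, rfl⟩
  rw [← hN1] at hgenN ⊢
  have hN1N : N1 ≤ D.monomialSubgroup K := by rw [hN1]; exact inf_le_left
  have hN1G : N1 ≤ G1 := by rw [hN1]; exact inf_le_right
  have hH1N : D.diagonalSubgroup K ⊓ G1 ≤ N1 := by
    rw [hN1]
    exact inf_le_inf_right _ (H_le_N D)
  obtain ⟨H1, hH1⟩ : ∃ H1, H1 = (D.diagonalSubgroup K ⊓ G1).subgroupOf N1 := ⟨_, rfl⟩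
  rw [← hH1]
  haveI hnorm : H1.Normal := by
    constructor
    intro h hh g
    rw [hH1, Subgroup.mem_subgroupOf] at hh ⊢
    simp only [Subgroup.coe_mul, Subgroup.coe_inv]
    exact ⟨(Subgroup.mem_normalizer_iff.mp (hNH (hN1N g.2)) _).mp hh.1,
      G1.mul_mem (G1.mul_mem (hN1G g.2) hh.2) (G1.inv_mem (hN1G g.2))⟩
  have hget : ∀ j, j < csr.length → csr.getD j [] ∈ csr := by
    intro k hk
    rw [List.getD_eq_getElem _ _ hk]
    exact List.getElem_mem hk
  have hrevlt : ∀ c ∈ csr, ∀ i ∈ c.reverse, i < D.rank := fun c hc i hi =>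
    hlt c hc i (List.mem_reverse.mp hi)
  have hsN : ∀ c ∈ csr, nR D hD c ∈ N1 := by
    intro c hc
    rw [hN1]
    exact ⟨nW_mem D hD _ (hrevlt c hc), hmem c hc⟩
  -- the images of the generators
  let f : Fin n → ↥N1 ⧸ H1 := fun i =>
    QuotientGroup.mk ⟨nR D hD (csr.getD i.val []), hsN _ (hget _ (by rw [hn]; exact i.2))⟩
  have hf : M.IsLiftable f := by
    intro i j
    have hi : i.val < csr.length := by rw [hn]; exact i.2
    have hj : j.val < csr.length := by rw [hn]; exact j.2
    show ((QuotientGroup.mk ⟨nR D hD (csr.getD i.val []), _⟩ : ↥N1 ⧸ H1) *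
      QuotientGroup.mk ⟨nR D hD (csr.getD j.val []), _⟩) ^ M i j = 1
    rw [← QuotientGroup.mk_mul, ← QuotientGroup.mk_pow, QuotientGroup.eq_one_iff, hH1,
      Subgroup.mem_subgroupOf]
    simp only [Subgroup.coe_pow, Subgroup.coe_mul]
    have e : (nR D hD (csr.getD i.val []) * nR (F := K) D hD (csr.getD j.val [])) ^ M i j =
        nW D hD (List.replicate (M i j)
          ((csr.getD i.val []).reverse ++ (csr.getD j.val []).reverse)).flatten := by
      rw [nW_replicate, nW_append]
      rfl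
    rw [e]
    have hwlt : ∀ x ∈ (List.replicate (M i j)
        ((csr.getD i.val []).reverse ++ (csr.getD j.val []).reverse)).flatten, x < D.rank := by
      intro x hx
      rw [List.mem_flatten] at hx
      obtain ⟨l, hl, hxl⟩ := hx
      rw [List.eq_of_mem_replicate hl] at hxl
      rcases List.mem_append.mp hxl with hxl | hxl
      · exact hrevlt _ (hget _ hi) x hxl
      · exact hrevlt _ (hget _ hj) x hxl
    refine ⟨nW_mem_H D hD _ hwlt ?_, ?_⟩
    · intro r hr
      unfold twRelChk at hrel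
      simp only [List.all_eq_true, List.mem_range, beq_iff_eq] at hrel
      have := hrel i.val hi j.val hj r hr
      rwa [hmt.val i j] at this
    · rw [← e]
      exact G1.pow_mem (G1.mul_mem (hmem _ (hget _ hi)) (hmem _ (hget _ hj))) _
  let ψ : M.Group →* ↥N1 ⧸ H1 := M.toCoxeterSystem.lift ⟨f, hf⟩
  have hψs : ∀ i : Fin n, ψ (M.simple i) = f i := by
    intro i
    have := M.toCoxeterSystem.lift_apply_simple hf i
    rwa [CoxeterMatrix.toCoxeterSystem_simple] at this
  -- surjectivity
  have hsurj : Function.Surjective ψ := by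
    let R : Subgroup (GL D.Idx K) :=
      ((ψ.range).comap (QuotientGroup.mk' H1)).map N1.subtype
    have hSR : {s : GL D.Idx K | ∃ c ∈ csr, s = nR D hD c} ⊆ (R : Set (GL D.Idx K)) := by
      rintro s ⟨c, hc, rfl⟩
      obtain ⟨j, hj, hcj⟩ := List.getElem_of_mem hc
      refine ⟨⟨nR D hD c, hsN c hc⟩, ?_, rfl⟩
      rw [SetLike.mem_coe, Subgroup.mem_comap]
      refine ⟨M.simple ⟨j, by rw [← hn]; exact hj⟩, ?_⟩
      rw [hψs]
      show (QuotientGroup.mk _ : ↥N1 ⧸ H1) = QuotientGroup.mk _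
      congr 2
      show nR D hD (csr.getD j []) = nR D hD c
      rw [List.getD_eq_getElem _ _ hj, hcj]
    have hHR : D.diagonalSubgroup K ⊓ G1 ≤ R := by
      intro h hh
      refine ⟨⟨h, hH1N hh⟩, ?_, rfl⟩
      rw [SetLike.mem_coe, Subgroup.mem_comap]
      have : (QuotientGroup.mk' H1) ⟨h, hH1N hh⟩ = 1 := by
        rw [QuotientGroup.mk'_apply, QuotientGroup.eq_one_iff, hH1, Subgroup.mem_subgroupOf]
        exact hh
      rw [this]
      exact Subgroup.one_mem _
    have hN1R : N1 ≤ R := hgenN.trans (sup_le ((Subgroup.closure_le _).mpr hSR) hHR)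
    intro x
    obtain ⟨g, rfl⟩ := QuotientGroup.mk_surjective x
    obtain ⟨y, hy, hyg⟩ := hN1R g.2
    have : y = g := Subtype.ext hyg
    rw [this, SetLike.mem_coe, Subgroup.mem_comap] at hy
    exact hy
  -- the lower bound on the order
  haveI : Finite (GL D.Idx K) := Finite.of_injective _ Units.val_injective
  haveI : Finite ↥N1 := Subtype.finite
  haveI : Finite (↥N1 ⧸ H1) := Quotient.finite _
  have hvmem : ∀ k : Fin vs.length, nR D hD (vs.getD k.val []).flatten ∈ N1 := by
    intro k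
    have hred := hE.red D csr vs perms nxt k.val k.2
    rw [hN1]
    refine ⟨nW_mem D hD _ (fun i hi => redRB_lt D _ hred i (List.mem_reverse.mp hi)),
      nR_flatten_mem D hD G1 csr hmem _ (hE.mem D csr vs perms nxt k.val k.2)⟩
  let g : Fin vs.length → ↥N1 ⧸ H1 := fun k =>
    QuotientGroup.mk ⟨nR D hD (vs.getD k.val []).flatten, hvmem k⟩
  have hginj : Function.Injective g := by
    intro k k' hkk
    have h1 : (⟨nR D hD (vs.getD k.val []).flatten, hvmem k⟩ : ↥N1)⁻¹ *
        ⟨nR D hD (vs.getD k'.val []).flatten, hvmem k'⟩ ∈ H1 := QuotientGroup.eq.mp hkk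
    rw [hH1, Subgroup.mem_subgroupOf] at h1
    simp only [Subgroup.coe_mul, Subgroup.coe_inv] at h1
    have hh := h1.1
    have hredk := hE.red D csr vs perms nxt k.val k.2
    have hredk' := hE.red D csr vs perms nxt k'.val k'.2
    have hltk : ∀ i ∈ (vs.getD k.val []).flatten.reverse, i < D.rank := fun i hi =>
      redRB_lt D _ hredk i (List.mem_reverse.mp hi)
    have hltk' : ∀ i ∈ (vs.getD k'.val []).flatten.reverse, i < D.rank := fun i hi =>
      redRB_lt D _ hredk' i (List.mem_reverse.mp hi)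
    have hh2 : nR D hD (vs.getD k.val []).flatten * ((nR D hD (vs.getD k.val []).flatten)⁻¹ *
        nR D hD (vs.getD k'.val []).flatten) * (nR (F := K) D hD (vs.getD k.val []).flatten)⁻¹ ∈
          D.diagonalSubgroup K :=
      (Subgroup.mem_normalizer_iff.mp (hNH (hN1N (hvmem k))) _).mp hh
    have e2 : nW (F := K) D hD (vs.getD k'.val []).flatten.reverse =
        (nR D hD (vs.getD k.val []).flatten * ((nR D hD (vs.getD k.val []).flatten)⁻¹ *
        nR D hD (vs.getD k'.val []).flatten) * (nR (F := K) D hD (vs.getD k.val []).flatten)⁻¹) *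
          nW D hD (vs.getD k.val []).flatten.reverse := by
      unfold nR
      group
    apply Fin.ext
    apply hE.distinct D csr vs perms nxt k.val k'.val k.2 k'.2
    intro r hr
    exact (applyW_eq_of_eq D hD _ hh2 _ _ hltk' hltk e2 r hr).symm
  have hc1 : vs.length ≤ Nat.card (↥N1 ⧸ H1) := by
    have := Nat.card_le_card_of_injective g hginj
    rwa [Nat.card_eq_fintype_card, Fintype.card_fin] at this
  have hc2 : Nat.card (↥N1 ⧸ H1) ≤ Nat.card M.Group := Nat.card_le_card_of_surjective ψ hsurj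
  have hceq : Nat.card M.Group = Nat.card (↥N1 ⧸ H1) := by omega
  have hbij : Function.Bijective ψ :=
    (Nat.bijective_iff_surjective_and_card ψ).mpr ⟨hsurj, hceq⟩
  let e : M.Group ≃* ↥N1 ⧸ H1 := MulEquiv.ofBijective ψ hbij
  refine ⟨e.symm.toMonoidHom.comp (QuotientGroup.mk' H1), ?_, ?_⟩
  · exact e.symm.surjective.comp (QuotientGroup.mk'_surjective H1)
  · ext x
    rw [MonoidHom.mem_ker, MonoidHom.comp_apply]
    constructor
    · intro hx
      have : (QuotientGroup.mk' H1) x = 1 := by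
        have h2 := congrArg e hx
        simpa using h2
      rwa [QuotientGroup.mk'_apply, QuotientGroup.eq_one_iff] at this
    · intro hx
      have : (QuotientGroup.mk' H1) x = 1 := by
        rwa [QuotientGroup.mk'_apply, QuotientGroup.eq_one_iff]
      rw [this]
      exact map_one _

end

end Cfsg.Agent.helper5.Chev
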