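import Mathlib
import Cfsg.Agent.Lib_helper5_TwCox
import Cfsg.Agent.Lib_helper5_ChevOrd2

set_option autoImplicit false
open Cfsg

/-! The order of a twisted group from a chunk-word enumeration of `W¹` (helper5). -/

namespace Cfsg.Agent.helper5.Chev

open Cfsg.Lie Cfsg.Agent.helper6.Graph

section
variable {K : Type*} [Field K] (D : ChevalleyDatum)
  (hD : D ∈ [chevG2, chevB2, chevD4, chevF4, chevE6, chevE7, chevE8])
  {C : Cert} (T : TwData K D C) (P : PiOK D C) (φ : K →+* K)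

include hD in
/-- `σ` fixes the representative of a word in chunks -/
theorem sigma_nR_chunks (cs : List (List ℕ)) (hcs : ∀ c ∈ cs, ChunkOK D C c) :
    sigmaHom D T.perm φ (nR D hD cs.flatten) = nR D hD cs.flatten := by
  induction cs with
  | nil =>
    unfold nR
    simp only [List.flatten_nil, List.reverse_nil]
    rw [nW_nil', map_one]
  | cons c cs ih =>
    rw [List.flatten_cons, nR_append, map_mul,
      ih (fun c' hc' => hcs c' (List.mem_cons_of_mem _ hc')),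
      sigma_nR_chunk D hD T φ c (hcs c List.mem_cons_self)]

include hD P in
/-- `|B¹| = |U¹| |H¹|` -/
theorem tw_card_borel (G1 : Subgroup (GL D.Idx K))
    (hfix : ∀ g ∈ G1, sigmaHom D T.perm φ g = g)
    (hKL : ∀ u ∈ D.posUnipotent K, sigmaHom D T.perm φ u = u → u ∈ G1) :
    Nat.card ↥(D.borelSubgroup K ⊓ G1) =
      Nat.card ↥(D.posUnipotent K ⊓ G1) * Nat.card ↥(D.diagonalSubgroup K ⊓ G1) := by
  obtain ⟨-, hUH⟩ := Cfsg.Agent.S1036.result (F := K) D hD
  have huniq : ∀ u u' h h' : GL D.Idx K, u ∈ D.posUnipotent K → u' ∈ D.posUnipotent K →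
      h ∈ D.diagonalSubgroup K → h' ∈ D.diagonalSubgroup K → u * h = u' * h' →
      u = u' ∧ h = h' := by
    intro u u' h h' hu hu' hh hh' h1
    have h2 : u'⁻¹ * u = h' * h⁻¹ := by
      calc u'⁻¹ * u = u'⁻¹ * (u * h) * h⁻¹ := by group
        _ = h' * h⁻¹ := by rw [h1]; group
    have h3 : u'⁻¹ * u ∈ D.posUnipotent K ⊓ D.diagonalSubgroup K :=
      ⟨Subgroup.mul_mem _ (Subgroup.inv_mem _ hu') hu,
        by rw [h2]; exact Subgroup.mul_mem _ hh' (Subgroup.inv_mem _ hh)⟩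
    rw [hUH, Subgroup.mem_bot] at h3
    have huu : u = u' := (inv_mul_eq_one.mp h3).symm
    subst huu
    exact ⟨rfl, mul_left_cancel h1⟩
  let ψ : ↥(D.posUnipotent K ⊓ G1) × ↥(D.diagonalSubgroup K ⊓ G1) →
      ↥(D.borelSubgroup K ⊓ G1) := fun p =>
    ⟨p.1.1 * p.2.1, Subgroup.mul_mem _ (U_le_B D hD p.1.2.1) (H_le_B D hD p.2.2.1),
      G1.mul_mem p.1.2.2 p.2.2.2⟩
  have hinj : Function.Injective ψ := by
    rintro ⟨⟨u, hu⟩, ⟨h, hh⟩⟩ ⟨⟨u', hu'⟩, ⟨h', hh'⟩⟩ hpp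
    have h1 : u * h = u' * h' := congrArg Subtype.val hpp
    obtain ⟨rfl, rfl⟩ := huniq u u' h h' hu.1 hu'.1 hh.1 hh'.1 h1
    rfl
  have hsurj : Function.Surjective ψ := by
    rintro ⟨b, hb, hbG⟩
    obtain ⟨u, hu, h, hh, rfl⟩ := mem_borel D hD b hb
    have hσ := hfix _ hbG
    rw [map_mul] at hσ
    obtain ⟨hu1, -⟩ := huniq _ _ _ _ (sigma_U D hD T P φ u hu) hu (sigma_H D hD T φ h hh) hh hσ
    have huG : u ∈ G1 := hKL u hu hu1
    have hhG : h ∈ G1 := by
      have e : h = u⁻¹ * (u * h) := by group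
      rw [e]
      exact G1.mul_mem (G1.inv_mem huG) hbG
    exact ⟨(⟨u, hu, huG⟩, ⟨h, hh, hhG⟩), rfl⟩
  rw [← Nat.card_eq_of_bijective ψ ⟨hinj, hsurj⟩, Nat.card_prod]

include hD in
/-- the elements of `N¹` are words in the chunk representatives, modulo `H¹` -/
theorem tw_N_words (G1 : Subgroup (GL D.Idx K)) (csr : List (List ℕ))
    (hlt : ∀ c ∈ csr, ∀ i ∈ c, i < D.rank)
    (hmem : ∀ c ∈ csr, nR D hD c ∈ G1)
    (hsq : ∀ c ∈ csr, ∀ s < D.nroots, applyW D (c.reverse ++ c.reverse) s = s)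
    (hgenN : D.monomialSubgroup K ⊓ G1 ≤
      Subgroup.closure {s : GL D.Idx K | ∃ c ∈ csr, s = nR D hD c} ⊔ (D.diagonalSubgroup K ⊓ G1)) :
    ∀ n ∈ D.monomialSubgroup K ⊓ G1, ∃ h ∈ D.diagonalSubgroup K ⊓ G1, ∃ W : List ℕ,
      (∀ j ∈ W, j < csr.length) ∧ n = h * nW D hD (chunkWord csr W) := by
  have hNH := N_le_normalizer_H (F := K) D hD
  have hrevlt : ∀ c ∈ csr, ∀ i ∈ c.reverse, i < D.rank := fun c hc i hi =>
    hlt c hc i (List.mem_reverse.mp hi)
  obtain ⟨X, hX⟩ : ∃ X : Set (GL D.Idx K), X = {g | ∃ h ∈ D.diagonalSubgroup K ⊓ G1,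
      ∃ W : List ℕ, (∀ j ∈ W, j < csr.length) ∧ g = h * nW D hD (chunkWord csr W)} := ⟨_, rfl⟩
  have hHX : ∀ h₀ ∈ D.diagonalSubgroup K ⊓ G1, ∀ z ∈ X, h₀ * z ∈ X := by
    rw [hX]
    rintro h₀ hh₀ z ⟨h, hh, W, hW, rfl⟩
    exact ⟨h₀ * h, Subgroup.mul_mem _ hh₀ hh, W, hW, by group⟩
  have hSX : ∀ c ∈ csr, ∀ z ∈ X, nR D hD c * z ∈ X := by
    intro c hc z hz
    rw [hX] at hz ⊢
    obtain ⟨h, hh, W, hW, rfl⟩ := hz
    obtain ⟨j, hj, hcj⟩ := List.getElem_of_mem hc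
    have hcN : nR (F := K) D hD c ∈ D.monomialSubgroup K := nW_mem D hD _ (hrevlt c hc)
    refine ⟨nR D hD c * h * (nR D hD c)⁻¹, ⟨(Subgroup.mem_normalizer_iff.mp (hNH hcN) _).mp hh.1,
      G1.mul_mem (G1.mul_mem (hmem c hc) hh.2) (G1.inv_mem (hmem c hc))⟩, j :: W, ?_, ?_⟩
    · intro j' hj'
      rcases List.mem_cons.mp hj' with rfl | hj'
      · exact hj
      · exact hW j' hj'
    · have e : chunkWord csr (j :: W) = c.reverse ++ chunkWord csr W := by
        unfold chunkWord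
        rw [List.flatMap_cons, List.getD_eq_getElem _ _ hj, hcj]
      rw [e, nW_append]
      unfold nR
      group
  have hsqH : ∀ c ∈ csr, nR D hD c * nR D hD c ∈ D.diagonalSubgroup K ⊓ G1 := by
    intro c hc
    refine ⟨?_, G1.mul_mem (hmem c hc) (hmem c hc)⟩
    unfold nR
    rw [← nW_append]
    apply nW_mem_H D hD
    · intro i hi
      rcases List.mem_append.mp hi with hi | hi <;> exact hrevlt c hc i hi
    · exact hsq c hc
  have key : ∀ g ∈ Subgroup.closure ({s : GL D.Idx K | ∃ c ∈ csr, s = nR D hD c} ∪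
      ((D.diagonalSubgroup K ⊓ G1 : Subgroup (GL D.Idx K)) : Set (GL D.Idx K))),
      ∀ z ∈ X, g * z ∈ X ∧ g⁻¹ * z ∈ X := by
    intro g hg
    induction hg using Subgroup.closure_induction with
    | mem g hg =>
      intro z hz
      rcases hg with ⟨c, hc, rfl⟩ | hg
      · refine ⟨hSX c hc z hz, ?_⟩
        have e : (nR D hD c)⁻¹ * z = (nR D hD c * nR D hD c)⁻¹ * (nR D hD c * z) := by group
        rw [e]
        exact hHX _ (Subgroup.inv_mem _ (hsqH c hc)) _ (hSX c hc z hz)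
      · exact ⟨hHX g hg z hz, hHX g⁻¹ (Subgroup.inv_mem _ hg) z hz⟩
    | one =>
      intro z hz
      simpa using hz
    | mul a b _ _ iha ihb =>
      intro z hz
      constructor
      · rw [mul_assoc]
        exact (iha _ (ihb z hz).1).1
      · rw [mul_inv_rev, mul_assoc]
        exact (ihb _ (iha z hz).2).2
    | inv a _ iha =>
      intro z hz
      rw [inv_inv]
      exact ⟨(iha z hz).2, (iha z hz).1⟩
  have h1X : (1 : GL D.Idx K) ∈ X := by
    rw [hX]
    refine ⟨1, Subgroup.one_mem _, [], fun j hj => absurd hj (by simp), ?_⟩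
    unfold chunkWord
    simp only [List.flatMap_nil]
    rw [nW_nil', mul_one]
  intro n hn
  have hn2 := hgenN hn
  rw [← Subgroup.closure_eq (D.diagonalSubgroup K ⊓ G1), ← Subgroup.closure_union] at hn2
  have := (key n hn2 1 h1X).1
  rw [mul_one, hX] at this
  exact this

include hD P in
/-- **the order formula** `|G¹| = |B¹| Σ_w q^{ℓ(w)}` over a chunk-word enumeration of `W¹` -/
theorem tw_card_of_enum [Finite K] (hC : CommOK D) (hP : PosCommOK D)
    (G1 : Subgroup (GL D.Idx K))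
    (hfix : ∀ g ∈ G1, sigmaHom D T.perm φ g = g)
    (hKL : ∀ u ∈ D.posUnipotent K, sigmaHom D T.perm φ u = u → u ∈ G1)
    (csr : List (List ℕ)) (vs : List (List (List ℕ))) (perms nxt : List (List ℕ))
    (hE : TwEnum D csr vs perms nxt)
    (hcsr : ∀ c ∈ csr, ChunkOK D C c)
    (hmem : ∀ c ∈ csr, nR D hD c ∈ G1)
    (hsq : ∀ c ∈ csr, ∀ s < D.nroots, applyW D (c.reverse ++ c.reverse) s = s)
    (hgenN : D.monomialSubgroup K ⊓ G1 ≤
      Subgroup.closure {s : GL D.Idx K | ∃ c ∈ csr, s = nR D hD c} ⊔ (D.diagonalSubgroup K ⊓ G1))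
    (Q : Cfsg.BNPair ↥G1) (hQB : Q.B = (D.borelSubgroup K ⊓ G1).subgroupOf G1)
    (hQN : Q.N = (D.monomialSubgroup K ⊓ G1).subgroupOf G1)
    (q : ℕ) (hcount : ∀ c ∈ csr, ∃ (S : Set K) (τ : K → ℕ → K), ChunkCount C φ q c S τ) :
    Nat.card ↥G1 = Nat.card ↥(D.borelSubgroup K ⊓ G1) *
      ∑ k : Fin vs.length, q ^ (vs.getD k.val []).flatten.length := by
  classical
  haveI : Finite (GL D.Idx K) := Finite.of_injective _ Units.val_injective
  have hNH := N_le_normalizer_H (F := K) D hD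
  have hlt0 : ∀ c ∈ csr, ∀ i ∈ c, i < D.rank := fun c hc => (hcsr c hc).lt
  have hred : ∀ k : Fin vs.length, redRB D (vs.getD k.val []).flatten = true := fun k =>
    hE.red D csr vs perms nxt k.val k.2
  have hvcs : ∀ k : Fin vs.length, ∀ c ∈ vs.getD k.val [], ChunkOK D C c := fun k c hc =>
    hcsr c (hE.mem D csr vs perms nxt k.val k.2 c hc)
  have hlt : ∀ k : Fin vs.length, ∀ i ∈ (vs.getD k.val []).flatten.reverse, i < D.rank :=
    fun k i hi => redRB_lt D _ (hred k) i (List.mem_reverse.mp hi)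
  have hnRN : ∀ k : Fin vs.length,
      nR (F := K) D hD (vs.getD k.val []).flatten ∈ D.monomialSubgroup K :=
    fun k => nW_mem D hD _ (hlt k)
  have hnRG : ∀ k : Fin vs.length, nR (F := K) D hD (vs.getD k.val []).flatten ∈ G1 := fun k =>
    nR_flatten_mem D hD G1 csr hmem _ (hE.mem D csr vs perms nxt k.val k.2)
  have hSU : ∀ k : Fin vs.length, ∀ s ∈ SR (F := K) D hD (vs.getD k.val []).flatten,
      s ∈ UnegOf D (nR (F := K) D hD (vs.getD k.val []).flatten) := fun k s hs =>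
    Uneg_le_UnegOf D hD _ (hlt k) (SR_sub_Uneg D hD _ (hred k) hs)
  have hSG : ∀ k : Fin vs.length, ∀ s ∈ SR (F := K) D hD (vs.getD k.val []).flatten,
      sigmaHom D T.perm φ s = s → s ∈ G1 := fun k s hs hfs =>
    hKL s (UnegOf_le_U D _ (hSU k s hs)) hfs
  let Φ : (Σ k : Fin vs.length, ↥(D.borelSubgroup K ⊓ G1) ×
      {u : GL D.Idx K // u ∈ SR (F := K) D hD (vs.getD k.val []).flatten ∧
        sigmaHom D T.perm φ u = u}) → ↥G1 := fun x =>
    ⟨x.2.1.1 * nR D hD (vs.getD x.1.val []).flatten * x.2.2.1,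
      G1.mul_mem (G1.mul_mem x.2.1.2.2 (hnRG x.1)) (hSG x.1 _ x.2.2.2.1 x.2.2.2.2)⟩
  have hinj : Function.Injective Φ := by
    rintro ⟨k, b, s⟩ ⟨k', b', s'⟩ hxy
    have e : b.1 * nR D hD (vs.getD k.val []).flatten * s.1 =
        b'.1 * nR D hD (vs.getD k'.val []).flatten * s'.1 := congrArg Subtype.val hxy
    have hu := unique_form D hD hC hP _ _ _ _ _ _ b.2.1 b'.2.1 (hnRN k) (hnRN k')
      (hSU k s.1 s.2.1) (hSU k' s'.1 s'.2.1) e
    have hkk : k = k' := by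
      apply Fin.ext
      apply hE.distinct D csr vs perms nxt k.val k'.val k.2 k'.2
      have hh := hu.1
      have hh2 : nR D hD (vs.getD k.val []).flatten * ((nR D hD (vs.getD k.val []).flatten)⁻¹ *
          nR D hD (vs.getD k'.val []).flatten) *
          (nR (F := K) D hD (vs.getD k.val []).flatten)⁻¹ ∈ D.diagonalSubgroup K :=
        (Subgroup.mem_normalizer_iff.mp (hNH (hnRN k)) _).mp hh
      have e2 : nW (F := K) D hD (vs.getD k'.val []).flatten.reverse =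
          (nR D hD (vs.getD k.val []).flatten * ((nR D hD (vs.getD k.val []).flatten)⁻¹ *
          nR D hD (vs.getD k'.val []).flatten) *
          (nR (F := K) D hD (vs.getD k.val []).flatten)⁻¹) *
            nW D hD (vs.getD k.val []).flatten.reverse := by
        unfold nR
        group
      intro r hr
      exact (applyW_eq_of_eq D hD _ hh2 _ _ (hlt k') (hlt k) e2 r hr).symm
    subst hkk
    obtain ⟨hbb, hss⟩ := hu.2 rfl
    have hb : b = b' := Subtype.ext hbb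
    have hs : s = s' := Subtype.ext hss
    rw [hb, hs]
  have hsurj : Function.Surjective Φ := by
    rintro ⟨g, hg⟩
    obtain ⟨n, hn, hmemd⟩ := Cfsg.Agent.S0308.result Q ⟨g, hg⟩
    obtain ⟨x, hx, y, hy, e⟩ := DoubleCoset.mem_doubleCoset.mp hmemd
    rw [SetLike.mem_coe, hQB, Subgroup.mem_subgroupOf] at hx hy
    rw [hQN, Subgroup.mem_subgroupOf] at hn
    have e' : g = (x : GL D.Idx K) * n * y := by
      have := congrArg Subtype.val e
      simpa using this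
    obtain ⟨h, hh, W, hW, hnw⟩ := tw_N_words D hD G1 csr hlt0 hmem hsq hgenN _ hn
    have hWlt : ∀ i ∈ chunkWord csr W, i < D.rank := by
      intro i hi
      unfold chunkWord at hi
      rw [List.mem_flatMap] at hi
      obtain ⟨j, hj, hij⟩ := hi
      have hjl := hW j hj
      rw [List.getD_eq_getElem _ _ hjl, List.mem_reverse] at hij
      exact hlt0 _ (List.getElem_mem hjl) i hij
    obtain ⟨k, hk, hperm⟩ := hE.complete D csr vs perms nxt W hW
    obtain ⟨h', hh', hnw'⟩ := nW_eq_of_applyW_eq (F := K) D hD (chunkWord csr W)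
      (vs.getD k []).flatten.reverse hWlt (hlt ⟨k, hk⟩) hperm
    obtain ⟨u₂, hu₂, h₂, hh₂, ey⟩ := mem_borel D hD _ (Subgroup.inv_mem _ hy.1)
    have ey' : (y : GL D.Idx K) = h₂⁻¹ * u₂⁻¹ := by
      rw [← inv_inv (y : GL D.Idx K), ey, mul_inv_rev]
    obtain ⟨b, hb, s, hs, e2⟩ := cell_exists D hD hC hP _ (hred ⟨k, hk⟩) u₂⁻¹
      (Subgroup.inv_mem _ hu₂)
    have hh3 : nR D hD (vs.getD k []).flatten * h₂⁻¹ *
        (nR (F := K) D hD (vs.getD k []).flatten)⁻¹ ∈ D.diagonalSubgroup K :=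
      (Subgroup.mem_normalizer_iff.mp (hNH (hnRN ⟨k, hk⟩)) _).mp (Subgroup.inv_mem _ hh₂)
    obtain ⟨b₁, hb₁def⟩ : ∃ b₁, b₁ = (x : GL D.Idx K) * h * h' *
        (nR D hD (vs.getD k []).flatten * h₂⁻¹ *
          (nR (F := K) D hD (vs.getD k []).flatten)⁻¹) * b := ⟨_, rfl⟩
    have hb₁ : b₁ ∈ D.borelSubgroup K := by
      rw [hb₁def]
      exact Subgroup.mul_mem _ (Subgroup.mul_mem _ (Subgroup.mul_mem _ (Subgroup.mul_mem _ hx.1
        (H_le_B D hD hh.1)) (H_le_B D hD hh')) (H_le_B D hD hh3)) hb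
    have eg : g = b₁ * nR D hD (vs.getD k []).flatten * s := by
      rw [e', hnw, ey', hnw', hb₁def]
      have e3 : (x : GL D.Idx K) * (h * (h' * nW D hD (vs.getD k []).flatten.reverse)) *
          (h₂⁻¹ * u₂⁻¹) =
          (x : GL D.Idx K) * h * h' * (nR D hD (vs.getD k []).flatten * h₂⁻¹ *
            (nR (F := K) D hD (vs.getD k []).flatten)⁻¹) *
              (nR D hD (vs.getD k []).flatten * u₂⁻¹) := by
        unfold nR
        group
      rw [e3, e2]
      group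
    -- apply σ
    have hσg := hfix g hg
    rw [eg, map_mul, map_mul, sigma_nR_chunks D hD T φ _ (hvcs ⟨k, hk⟩)] at hσg
    have hσs : sigmaHom D T.perm φ s ∈ SR (F := K) D hD (vs.getD k []).flatten :=
      sigma_SR_chunks D hD T φ _ (hvcs ⟨k, hk⟩) s hs
    obtain ⟨-, huniq⟩ := unique_form D hD hC hP _ _ _ _ _ _
      (sigma_B D hD T P φ b₁ hb₁) hb₁ (hnRN ⟨k, hk⟩) (hnRN ⟨k, hk⟩)
      (hSU ⟨k, hk⟩ _ hσs) (hSU ⟨k, hk⟩ s hs) hσg
    obtain ⟨-, hsfix⟩ := huniq rfl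
    have hsG : s ∈ G1 := hSG ⟨k, hk⟩ s hs hsfix
    have hb₁G : b₁ ∈ G1 := by
      have e5 : b₁ = g * s⁻¹ * (nR D hD (vs.getD k []).flatten)⁻¹ := by
        rw [eg]
        group
      rw [e5]
      exact G1.mul_mem (G1.mul_mem hg (G1.inv_mem hsG)) (G1.inv_mem (hnRG ⟨k, hk⟩))
    refine ⟨⟨⟨k, hk⟩, ⟨b₁, hb₁, hb₁G⟩, ⟨s, hs, hsfix⟩⟩, ?_⟩
    apply Subtype.ext
    exact eg.symm
  rw [← Nat.card_eq_of_bijective Φ ⟨hinj, hsurj⟩, Nat.card_sigma, Finset.mul_sum]
  apply Finset.sum_congr rfl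
  intro k _
  rw [Nat.card_prod, card_fix_SR D hD T φ q _ (hred k) (hvcs k)
    (fun c hc => hcount c (hE.mem D csr vs perms nxt k.val k.2 c hc))]

end

end Cfsg.Agent.helper5.Chev
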