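import Mathlib
import Cfsg.Agent.Lib_helper5_TwOrd
import Cfsg.Agent.S1033

set_option autoImplicit false
open Cfsg

/-! Torus elements `∏ h_{p_i}(c_i)` and the twisting endomorphism (helper5). -/

namespace Cfsg.Agent.helper5.Chev

open Cfsg.Lie Cfsg.Agent.helper6.Graph

section
variable {F : Type*} [Field F] (D : ChevalleyDatum)
  (hD : D ∈ [chevG2, chevB2, chevD4, chevF4, chevE6, chevE7, chevE8])

/-- the torus element `∏ h_{p_i}(c_i)` -/
def torP (c : ℕ → F) : GL D.Idx F :=
  ((List.range D.rank).map fun i => hGt D hD (D.simple i) (c i)).prod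

theorem torP_val (c : ℕ → F) (hc : ∀ i < D.rank, c i ≠ 0) :
    ((torP D hD c : GL D.Idx F) : Matrix D.Idx D.Idx F) = torusMat D c := by
  rw [← wordMat_torus D (fun i hi c hc => Cfsg.Agent.S1033.result D hD i hi c hc) c hc]
  unfold torP
  generalize List.range D.rank = L
  induction L with
  | nil => simp [wordMat_nil]
  | cons i L ih =>
    rw [List.flatMap_cons, wordMat_append, ← ih, List.map_cons, List.prod_cons, Units.val_mul,
      hGt_val]
    rfl

theorem torP_mem (c : ℕ → F) (hc : ∀ i < D.rank, c i ≠ 0) :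
    torP D hD c ∈ D.diagonalSubgroup F := by
  have hR := rootsOK_of_mem D hD
  unfold torP
  apply Subgroup.list_prod_mem
  intro x hx
  obtain ⟨i, hi, rfl⟩ := List.mem_map.mp hx
  have hi' := List.mem_range.mp hi
  exact hGt_mem D hD _ (hR.simple_lt i hi') _ (hc i hi')

theorem torP_ext (c c' : ℕ → F) (h : ∀ i < D.rank, c i = c' i) : torP D hD c = torP D hD c' := by
  unfold torP
  congr 1
  apply List.map_congr_left
  intro i hi
  rw [h i (List.mem_range.mp hi)]

theorem torP_mul (c c' : ℕ → F) (hc : ∀ i < D.rank, c i ≠ 0) (hc' : ∀ i < D.rank, c' i ≠ 0) :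
    torP D hD c * torP D hD c' = torP D hD (fun i => c i * c' i) := by
  apply Units.ext
  rw [Units.val_mul, torP_val D hD c hc, torP_val D hD c' hc',
    torP_val D hD _ (fun i hi => mul_ne_zero (hc i hi) (hc' i hi)), torusMat_mul]

include hD in
theorem exists_torP (g : GL D.Idx F) (hg : g ∈ D.diagonalSubgroup F) :
    ∃ c : ℕ → F, (∀ i, c i ≠ 0) ∧ g = torP D hD c := by
  obtain ⟨c, hc, hgc⟩ := Cfsg.Agent.S1034.mem_torus D hD g hg
  refine ⟨c, hc, Units.ext ?_⟩
  rw [hgc, torP_val D hD c (fun i _ => hc i)]

theorem torP_eq_one_iff (hCR : cartanReflChk D = true) (c : ℕ → F) (hc : ∀ i, c i ≠ 0) :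
    torP D hD c = 1 ↔ ∀ i < D.rank, torusChar D c (D.simple i) = 1 := by
  have hR := rootsOK_of_mem D hD
  constructor
  · intro h i hi
    have h1 : torusMat D c = 1 := by
      rw [← torP_val D hD c (fun i _ => hc i), h, Units.val_one]
    unfold torusMat at h1
    rw [← diag_one D] at h1
    have h2 := Matrix.diagonal_injective h1
    have h3 := congrFun h2 (Sum.inr ⟨D.simple i, hR.simple_lt i hi⟩)
    exact h3
  · intro h
    have hall := torusChar_eq_one D hD hCR c hc h
    apply Units.ext
    rw [torP_val D hD c (fun i _ => hc i), Units.val_one]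
    unfold torusMat
    have : (fun s : Fin D.nroots => torusChar D c s) = fun _ => (1 : F) :=
      funext fun s => hall s.val s.2
    rw [this]
    exact diag_one D

theorem hGt_simple_commute (i j : ℕ) (hi : i < D.rank) (hj : j < D.rank) (a b : F) (ha : a ≠ 0)
    (hb : b ≠ 0) :
    Commute (hGt D hD (D.simple i) a) (hGt D hD (D.simple j) b) := by
  apply Units.ext
  rw [Units.val_mul, Units.val_mul, hGt_val, hGt_val, Cfsg.Agent.S1033.result D hD i hi a ha,
    Cfsg.Agent.S1033.result D hD j hj b hb, Matrix.diagonal_mul_diagonal,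
    Matrix.diagonal_mul_diagonal]
  congr 1
  funext x
  exact mul_comm _ _

end

section
variable {K : Type*} [Field K] (D : ChevalleyDatum)
  (hD : D ∈ [chevG2, chevB2, chevD4, chevF4, chevE6, chevE7, chevE8])
  {C : Cert} (T : TwData K D C) (φ : K →+* K)

/-- the action of `σ` on torus elements -/
theorem sigma_torP (hperm : ((List.range D.rank).map (rhoOf C)).Perm (List.range D.rank))
    (c : ℕ → K) (hc : ∀ i < D.rank, c i ≠ 0) :
    sigmaHom D T.perm φ (torP D hD c) = torP D hD (fun j => φ (c (rhoInvOf C j))) := by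
  unfold torP
  rw [map_list_prod, List.map_map]
  have e1 : ((List.range D.rank).map
      ((sigmaHom D T.perm φ) ∘ fun i => hGt D hD (D.simple i) (c i))) =
      (((List.range D.rank).map (rhoOf C)).map fun j =>
        hGt D hD (D.simple j) (φ (c (rhoInvOf C j)))) := by
    rw [List.map_map]
    apply List.map_congr_left
    intro i hi
    have hi' := List.mem_range.mp hi
    simp only [Function.comp]
    rw [sigma_hGt D hD T φ i hi']
    congr 2
    show c i = c (gi C.rhoInv (gi C.rho i))
    rw [T.perm.rho_left i hi']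
  rw [e1]
  have hp := hperm.map (fun j => hGt D hD (D.simple j) (φ (c (rhoInvOf C j))))
  apply List.Perm.prod_eq' hp
  have hcomm : ((List.range D.rank).map fun j =>
      hGt D hD (D.simple j) (φ (c (rhoInvOf C j)))).Pairwise Commute := by
    rw [List.pairwise_map]
    apply List.Pairwise.imp_of_mem _ (List.pairwise_lt_range (n := D.rank))
    intro i j hi hj _
    have hi' := List.mem_range.mp hi
    have hj' := List.mem_range.mp hj
    apply hGt_simple_commute D hD i j hi' hj'
    · intro h0
      exact hc _ (T.perm.rhoInv_lt i hi') ((map_eq_zero φ).mp h0)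
    · intro h0
      exact hc _ (T.perm.rhoInv_lt j hj') ((map_eq_zero φ).mp h0)
  exact hp.symm.pairwise hcomm Commute.symm

end

end Cfsg.Agent.helper5.Chev
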