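import Mathlib
import Cfsg.Statements.S0310
import Cfsg.Agent.Lib_helper2_BN

set_option autoImplicit false
open Cfsg

namespace Cfsg.Agent.S0310

open Cfsg.Agent.helper2

theorem result {G : Type*} [Group G] (P : Cfsg.BNPair G) {J : Set G}
    (hJ : J ⊆ P.S) (g : G) :
    g ∈ P.parabolic J ↔ ∃ n ∈ Subgroup.closure J, g ∈ DoubleCoset.doubleCoset n (P.B : Set G) P.B :=
  BN.mem_parabolic_iff P hJ

end Cfsg.Agent.S0310
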