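import Mathlib
import Cfsg.Agent.Lib_helper5_ChevLR
import Cfsg.Agent.Lib_helper5_ChevUniq2
import Cfsg.Agent.Lib_helper5_TwTorus
import Cfsg.Agent.S0309
import Cfsg.Agent.S0310
import Cfsg.Agent.S0311

set_option autoImplicit false

/-! Centralisers of root elements in Chevalley groups: general tools and the centraliser of a
long root element in `E₆`, `E₇`, `E₈` (helper5). -/

namespace Cfsg.Agent.helper5.Chev

open Cfsg.Lie

theorem mem_normalizer_of_map_eq {G : Type*} [Group G] (X : Subgroup G) (b : G)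
    (h : X.map (MulAut.conj b).toMonoidHom = X) : b ∈ Subgroup.normalizer (X : Set G) := by
  rw [Subgroup.mem_normalizer_iff]
  intro x
  constructor
  · intro hx
    rw [← h]
    exact ⟨x, hx, rfl⟩
  · intro hx
    rw [← h] at hx
    obtain ⟨y, hy, e⟩ := hx
    have e' : b * y * b⁻¹ = b * x * b⁻¹ := e
    have : y = x := mul_left_cancel (mul_right_cancel e')
    rw [← this]
    exact hy

theorem map_eq_of_mem_normalizer {G : Type*} [Group G] (X : Subgroup G) (b : G)
    (h : b ∈ Subgroup.normalizer (X : Set G)) : X.map (MulAut.conj b).toMonoidHom = X := by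
  rw [Subgroup.mem_normalizer_iff] at h
  apply le_antisymm
  · rintro _ ⟨x, hx, rfl⟩
    exact (h x).mp hx
  · intro x hx
    refine ⟨b⁻¹ * x * b, ?_, ?_⟩
    · rw [SetLike.mem_coe, h]
      have : b * (b⁻¹ * x * b) * b⁻¹ = x := by group
      rw [this]
      exact hx
    · show b * (b⁻¹ * x * b) * b⁻¹ = x
      group

section
variable {F : Type*} [Field F] (D : ChevalleyDatum)
  (hD : D ∈ [chevG2, chevB2, chevD4, chevF4, chevE6, chevE7, chevE8])

theorem mem_rootSubgroup (r : ℕ) (g : GL D.Idx F) (hg : g ∈ D.rootSubgroup F r) :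
    ∃ a : F, g = xG D hD r a := by
  rw [rootSubgroup_eq_range D hD] at hg
  induction hg using Subgroup.closure_induction with
  | mem x hx =>
    obtain ⟨a, rfl⟩ := hx
    exact ⟨a, rfl⟩
  | one => exact ⟨0, (xG_zero D hD r).symm⟩
  | mul x y _ _ hx hy =>
    obtain ⟨a, rfl⟩ := hx
    obtain ⟨b, rfl⟩ := hy
    exact ⟨a + b, xG_mul D hD r a b⟩
  | inv x _ hx =>
    obtain ⟨a, rfl⟩ := hx
    exact ⟨-a, xG_inv D hD r a⟩

theorem xG_mem_rootSubgroup (r : ℕ) (a : F) : xG D hD r a ∈ D.rootSubgroup F r :=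
  Subgroup.subset_closure ⟨a, xG_val D hD r a⟩

theorem xG_mem_grp (r : ℕ) (hr : r < D.nroots) (t : F) : xG D hD r t ∈ D.group F := by
  unfold ChevalleyDatum.group
  apply Subgroup.subset_closure
  refine ⟨⟨r, hr⟩, t, ?_⟩
  rw [xG_val, x_eq_xMat D r hr]

theorem xG_pos_inj (r : ℕ) (hr : D.IsPosRoot r) (a b : F) (h : xG D hD r a = xG D hD r b) :
    a = b := by
  have e0 : ∀ t : ℕ → F, prodL D hD t [] = 1 := fun _ => rfl
  have h1 : prodL D hD (fun _ => a) [r] = prodL D hD (fun _ => b) [r] := by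
    rw [prodL_cons, prodL_cons, e0, e0, h]
  exact prodL_inj D hD _ _ [r] (List.pairwise_singleton _ _)
    (fun s hs => by rw [List.mem_singleton] at hs; rw [hs]; exact hr) h1 r
    (List.mem_singleton.mpr rfl)

/-- a root element equal to `x_r(1)`, `r` positive, belongs to the root `r` -/
theorem xG_eq_xG_pos (r : ℕ) (hr : D.IsPosRoot r) (s : ℕ) (a : F)
    (h : xG D hD s a = xG D hD r 1) : s = r := by
  have hR := rootsOK_of_mem D hD
  have hne1 : xG D hD r (1 : F) ≠ 1 := by
    intro h1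
    rw [← xG_zero D hD r] at h1
    exact one_ne_zero (xG_pos_inj D hD r hr 1 0 h1)
  have e0 : ∀ t : ℕ → F, prodL D hD t [] = 1 := fun _ => rfl
  by_cases hs : s < D.nroots
  · rcases hR.pos_or_neg s hs with ⟨hsp, -, -⟩ | ⟨hsn, -, -⟩
    · by_contra hne
      have hne' : r ≠ s := Ne.symm hne
      rcases Nat.lt_or_gt_of_ne hne with hlt | hgt
      · have h1 : prodL D hD (fun k => if k = s then a else 0) [s, r] =
            prodL D hD (fun k => if k = r then (1 : F) else 0) [s, r] := by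
          rw [prodL_cons, prodL_cons, prodL_cons, prodL_cons, e0, e0]
          simp only [if_neg hne, if_neg hne', ↓reduceIte]
          rw [xG_zero, xG_zero, mul_one, mul_one, one_mul, mul_one]
          exact h
        have h2 := prodL_inj D hD _ _ [s, r] (by simp [hlt])
          (by
            intro k hk
            simp only [List.mem_cons, List.not_mem_nil, or_false] at hk
            rcases hk with rfl | rfl <;> assumption) h1 r (by simp)
        simp only [if_neg hne', ↓reduceIte] at h2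
        exact zero_ne_one h2
      · have h1 : prodL D hD (fun k => if k = s then a else 0) [r, s] =
            prodL D hD (fun k => if k = r then (1 : F) else 0) [r, s] := by
          rw [prodL_cons, prodL_cons, prodL_cons, prodL_cons, e0, e0]
          simp only [if_neg hne, if_neg hne', ↓reduceIte]
          rw [xG_zero, xG_zero, mul_one, mul_one, one_mul, mul_one]
          exact h
        have h2 := prodL_inj D hD _ _ [r, s] (by simp [hgt])
          (by
            intro k hk
            simp only [List.mem_cons, List.not_mem_nil, or_false] at hk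
            rcases hk with rfl | rfl <;> assumption) h1 r (by simp)
        simp only [if_neg hne', ↓reduceIte] at h2
        exact zero_ne_one h2
    · exfalso
      have h1 : xG D hD s a ∈ D.negUnipotent F := Subgroup.subset_closure ⟨s, a, hsn, rfl⟩
      have h2 : xG D hD r (1 : F) ∈ D.borelSubgroup F :=
        U_le_B D hD (Subgroup.subset_closure ⟨r, 1, hr, rfl⟩)
      have h3 : xG D hD r (1 : F) ∈ D.borelSubgroup F ⊓ D.negUnipotent F := ⟨h2, h ▸ h1⟩
      rw [B_inf_V D hD, Subgroup.mem_bot] at h3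
      exact hne1 h3
  · exfalso
    have : xG D hD s a = 1 := by
      apply Units.ext
      rw [xG_val, Units.val_one]
      unfold ChevalleyDatum.x
      rw [dif_neg hs]
    rw [this] at h
    exact hne1 h.symm

/-- conjugation of a root element by a torus element, explicitly -/
theorem H_conj_torus (h : GL D.Idx F) (c : ℕ → F) (hc : ∀ i, c i ≠ 0)
    (hhc : (h : Matrix D.Idx D.Idx F) = torusMat D c) (r : ℕ) (hr : r < D.nroots) (t : F) :
    h * xG D hD r t * h⁻¹ = xG D hD r (torusChar D c r * t) := by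
  rw [mul_inv_eq_iff_eq_mul]
  apply Units.ext
  rw [Units.val_mul, Units.val_mul, xG_val, xG_val, hhc, x_eq_xMat D r hr, x_eq_xMat D r hr]
  exact torusMat_mul_xMat D (Cfsg.Agent.S1032.cartanCheck_of_mem D hD) c (fun i _ => hc i) ⟨r, hr⟩ t

theorem nGt_mem_of (Q : Subgroup (GL D.Idx F)) (r : ℕ) (h1 : ∀ t : F, xG D hD r t ∈ Q)
    (h2 : ∀ t : F, xG D hD (D.neg r) t ∈ Q) (t : F) : nGt D hD r t ∈ Q := by
  unfold nGt
  exact Q.mul_mem (Q.mul_mem (h1 t) (h2 _)) (h1 t)

theorem hGt_mem_of (Q : Subgroup (GL D.Idx F)) (r : ℕ) (h1 : ∀ t : F, xG D hD r t ∈ Q)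
    (h2 : ∀ t : F, xG D hD (D.neg r) t ∈ Q) (t : F) : hGt D hD r t ∈ Q := by
  unfold hGt
  exact Q.mul_mem (nGt_mem_of D hD Q r h1 h2 t) (nGt_mem_of D hD Q r h1 h2 _)

include hD in
/-- an element of `N` in a subgroup `T ⊇ B` is a product of fundamental `n_p ∈ T` times an
element of `H` (every overgroup of `B` is parabolic) -/
theorem N_decomp_of_B_le (hC : CommOK D) (hP : PosCommOK D) (T : Subgroup (GL D.Idx F))
    (hBT : D.borelSubgroup F ≤ T) (m : GL D.Idx F) (hmN : m ∈ D.monomialSubgroup F)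
    (hmT : m ∈ T) :
    ∃ n' ∈ Subgroup.closure {g : GL D.Idx F | ∃ i < D.rank,
        g = nGt D hD (D.simple i) 1 ∧ g ∈ T},
      ∃ h ∈ D.diagonalSubgroup F, m = n' * h := by
  obtain ⟨hB, hN, hsup⟩ := Cfsg.Agent.S1043.result (F := F) D hD
  obtain ⟨P, hPB, hPN, hPS⟩ := chev_bnpair D hD hC hP (D.group F) hB hN hsup
  have hBM : P.B ≤ T.subgroupOf (D.group F) := by
    rw [hPB]
    intro x hx
    rw [Subgroup.mem_subgroupOf] at hx ⊢
    exact hBT hx
  obtain ⟨J, hJ, hMJ⟩ := Cfsg.Agent.S0311.result P (T.subgroupOf (D.group F)) hBM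
  have hmG : m ∈ D.group F := hN hmN
  have hm' : (⟨m, hmG⟩ : ↥(D.group F)) ∈ P.parabolic J := by
    rw [← hMJ, Subgroup.mem_subgroupOf]
    exact hmT
  obtain ⟨n', hn', hdc⟩ := (Cfsg.Agent.S0310.result P hJ _).mp hm'
  have hn'N : n' ∈ P.N := (Subgroup.closure_le _).mpr (fun x hx => P.subset (hJ hx)) hn'
  have hmPN : (⟨m, hmG⟩ : ↥(D.group F)) ∈ P.N := by
    rw [hPN, Subgroup.mem_subgroupOf]
    exact hmN
  have heq := DoubleCoset.doubleCoset_eq_of_mem hdc
  have h1 := (Cfsg.Agent.S0309.result P hmPN hn'N).mp heq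
  have h2 : m⁻¹ * (n' : GL D.Idx F) ∈ D.diagonalSubgroup F := by
    rw [← B_inf_N D hD, Subgroup.mem_inf]
    constructor
    · rw [hPB, Subgroup.mem_subgroupOf] at h1
      simpa using h1
    · have h3 := P.N.mul_mem (P.N.inv_mem hmPN) hn'N
      rw [hPN, Subgroup.mem_subgroupOf] at h3
      simpa using h3
  have hcl : Subgroup.closure J ≤ (Subgroup.closure {g : GL D.Idx F | ∃ i < D.rank,
      g = nGt D hD (D.simple i) 1 ∧ g ∈ T}).subgroupOf (D.group F) := by
    rw [Subgroup.closure_le]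
    intro x hx
    rw [SetLike.mem_coe, Subgroup.mem_subgroupOf]
    apply Subgroup.subset_closure
    have hxS := hJ hx
    rw [hPS] at hxS
    obtain ⟨i, hi, hxi⟩ := hxS
    refine ⟨i, hi, Units.ext (by rw [hxi, nGt_val]), ?_⟩
    have hxp : x ∈ P.parabolic J :=
      (le_sup_right : Subgroup.closure J ≤ P.parabolic J) (Subgroup.subset_closure hx)
    rw [← hMJ, Subgroup.mem_subgroupOf] at hxp
    exact hxp
  have hn'c := hcl hn'
  rw [Subgroup.mem_subgroupOf] at hn'c
  exact ⟨(n' : GL D.Idx F), hn'c, (m⁻¹ * (n' : GL D.Idx F))⁻¹, Subgroup.inv_mem _ h2, by group⟩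

end

/-- the data for the centraliser of the long root element `x_r(1)`, `r` the highest root -/
structure CZOK (D : ChevalleyDatum) (L : List ℕ) (i0 : ℕ) : Prop where
  rpos : D.IsPosRoot (D.nroots - 1)
  i0lt : i0 < D.rank
  c1 : D.cartan i0 (D.nroots - 1) = 1
  c0 : ∀ j < D.rank, j ≠ i0 → D.cartan j (D.nroots - 1) = 0 ∧ D.neg (D.simple j) ∈ L
  rne : D.reflectRoot i0 (D.nroots - 1) ≠ D.nroots - 1
  Lok : ∀ s ∈ L, s < D.nroots ∧ s ≠ D.nroots - 1 ∧ s ≠ D.neg (D.nroots - 1) ∧
    D.commTerms (D.nroots - 1) s = []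

def czChk (D : ChevalleyDatum) (L : List ℕ) (i0 : ℕ) : Bool :=
  decide (D.IsPosRoot (D.nroots - 1)) && decide (i0 < D.rank) &&
  (D.cartan i0 (D.nroots - 1) == 1) &&
  ((List.range D.rank).all fun j => j == i0 ||
    ((D.cartan j (D.nroots - 1) == 0) && L.contains (D.neg (D.simple j)))) &&
  (D.reflectRoot i0 (D.nroots - 1) != D.nroots - 1) &&
  (L.all fun s => decide (s < D.nroots) && (s != D.nroots - 1) && (s != D.neg (D.nroots - 1)) &&
    (D.commTerms (D.nroots - 1) s).isEmpty)

theorem czOK_of_chk (D : ChevalleyDatum) (L : List ℕ) (i0 : ℕ) (h : czChk D L i0 = true) :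
    CZOK D L i0 := by
  unfold czChk at h
  simp only [Bool.and_eq_true, decide_eq_true_eq, beq_iff_eq, List.all_eq_true,
    List.contains_iff_mem, List.mem_range, Bool.or_eq_true, bne_iff_ne, ne_eq,
    List.isEmpty_iff] at h
  obtain ⟨⟨⟨⟨⟨h1, h2⟩, h3⟩, h4⟩, h5⟩, h6⟩ := h
  refine ⟨h1, h2, h3, ?_, h5, ?_⟩
  · intro j hj hne
    rcases h4 j hj with h | h
    · exact absurd h hne
    · exact h
  · intro s hs
    obtain ⟨⟨⟨a, b⟩, c⟩, d⟩ := h6 s hs
    exact ⟨a, b, c, d⟩

set_option maxRecDepth 1000000 in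
set_option maxHeartbeats 0 in
theorem czOK_E6 : CZOK chevE6 [15, 29, 32, 34, 35] 1 := czOK_of_chk _ _ _ (by decide +kernel)

set_option maxRecDepth 1000000 in
set_option maxHeartbeats 0 in
theorem czOK_E7 : CZOK chevE7 [47, 52, 56, 59, 61, 62] 0 := czOK_of_chk _ _ _ (by decide +kernel)

set_option maxRecDepth 1000000 in
set_option maxHeartbeats 0 in
theorem czOK_E8 : CZOK chevE8 [77, 98, 104, 109, 113, 116, 118] 7 :=
  czOK_of_chk _ _ _ (by decide +kernel)

section
variable {F : Type*} [Field F] (D : ChevalleyDatum)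
  (hD : D ∈ [chevG2, chevB2, chevD4, chevF4, chevE6, chevE7, chevE8])

include hD in
/-- **the centraliser of the long root element `x_r(1)`** -/
theorem cz_main (orb : List ℕ) (hL : LROK D orb) (L : List ℕ) (i0 : ℕ) (hZ : CZOK D L i0)
    (t : GL D.Idx F) (ht : (t : Matrix D.Idx D.Idx F) = D.x F (D.nroots - 1) 1) :
    D.group F ⊓ Subgroup.centralizer {t} = D.posUnipotent F ⊔
      Subgroup.closure {g : GL D.Idx F | ∃ s ∈ L, ∃ c : F,
        (g : Matrix D.Idx D.Idx F) = D.x F s c} := by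
  have hC := commOK_of_mem D hD
  have hP := posCommOK_of_mem D hD
  have hR := rootsOK_of_mem D hD
  have hr : D.nroots - 1 < D.nroots := by have := hL.npos; omega
  obtain ⟨hBG, hNG, -⟩ := Cfsg.Agent.S1043.result (F := F) D hD
  have htx : t = xG D hD (D.nroots - 1) 1 := eq_xG D hD t _ _ ht
  subst htx
  obtain ⟨Q, hQ⟩ : ∃ Q : Subgroup (GL D.Idx F), Q = D.posUnipotent F ⊔
      Subgroup.closure {g : GL D.Idx F | ∃ s ∈ L, ∃ c : F,
        (g : Matrix D.Idx D.Idx F) = D.x F s c} := ⟨_, rfl⟩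
  obtain ⟨C, hCdef⟩ : ∃ C : Subgroup (GL D.Idx F),
      C = Subgroup.centralizer {xG D hD (D.nroots - 1) (1 : F)} := ⟨_, rfl⟩
  rw [← hQ, ← hCdef]
  have hUQ : D.posUnipotent F ≤ Q := by rw [hQ]; exact le_sup_left
  have hxL : ∀ s ∈ L, ∀ c : F, xG D hD s c ∈ Q := by
    intro s hs c
    rw [hQ]
    exact Subgroup.mem_sup_right (Subgroup.subset_closure ⟨s, hs, c, rfl⟩)
  have hUC : D.posUnipotent F ≤ C := by
    intro u hu
    rw [hCdef, Subgroup.mem_centralizer_iff]
    intro y hy
    rw [Set.mem_singleton_iff] at hy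
    subst hy
    exact (lr_U_comm D hD orb hL hC u hu 1).symm
  have hLC : ∀ s ∈ L, ∀ c : F, xG D hD s c ∈ C := by
    intro s hs c
    obtain ⟨hslt, hsr, hsn, hct⟩ := hZ.Lok s hs
    rw [hCdef, Subgroup.mem_centralizer_iff]
    intro y hy
    rw [Set.mem_singleton_iff] at hy
    subst hy
    have hcf := commF_of_ok D hD hC (D.nroots - 1) hr s hslt hsr hsn 1 c
    have hcw : cwG D hD (D.nroots - 1) s 1 c = 1 := by
      unfold cwG
      rw [hct]
      rfl
    rw [hcw, mul_one] at hcf
    exact hcf.symm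
  have hxC : ∀ g ∈ C, xG D hD (D.nroots - 1) (1 : F) * g = g * xG D hD (D.nroots - 1) (1 : F) := by
    intro g hg
    rw [hCdef, Subgroup.mem_centralizer_iff] at hg
    exact hg _ rfl
  apply le_antisymm
  swap
  · rw [hQ]
    apply sup_le
    · exact le_inf (fun u hu => hBG (U_le_B D hD hu)) hUC
    · rw [Subgroup.closure_le]
      rintro g ⟨s, hs, c, hg⟩
      rw [eq_xG D hD g s c hg]
      exact ⟨xG_mem_grp D hD s (hZ.Lok s hs).1 c, hLC s hs c⟩
  · rintro g ⟨hgG, hgC⟩
    obtain ⟨b, hb, n, hn, u, hu, rfl⟩ := exists_form D hD hC hP g hgG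
    obtain ⟨u₁, hu₁, h₁, hh₁, rfl⟩ := mem_borel D hD b hb
    have huU : u ∈ D.posUnipotent F := UnegOf_le_U D n hu
    have hmC : h₁ * n ∈ C := by
      have : h₁ * n = u₁⁻¹ * (u₁ * h₁ * n * u) * u⁻¹ := by group
      rw [this]
      exact C.mul_mem (C.mul_mem (C.inv_mem (hUC hu₁)) hgC) (C.inv_mem (hUC huU))
    have hmN : h₁ * n ∈ D.monomialSubgroup F := Subgroup.mul_mem _ (H_le_N D hh₁) hn
    have hmX : h₁ * n ∈ Subgroup.normalizer
        (D.rootSubgroup F (D.nroots - 1) : Set (GL D.Idx F)) := by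
      obtain ⟨w, hw, hmap⟩ := lr_N_conj D hD (h₁ * n) hmN _ hr
      have hx : xG D hD (D.nroots - 1) (1 : F) ∈
          D.rootSubgroup F (applyW D w (D.nroots - 1)) := by
        rw [← hmap]
        refine ⟨xG D hD (D.nroots - 1) 1, xG_mem_rootSubgroup D hD _ _, ?_⟩
        show h₁ * n * xG D hD (D.nroots - 1) 1 * (h₁ * n)⁻¹ = xG D hD (D.nroots - 1) 1
        rw [← hxC _ hmC, mul_inv_cancel_right]
      obtain ⟨a, ha⟩ := mem_rootSubgroup D hD _ _ hx
      have hwr : applyW D w (D.nroots - 1) = D.nroots - 1 :=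
        xG_eq_xG_pos D hD _ hZ.rpos _ a ha.symm
      rw [hwr] at hmap
      exact mem_normalizer_of_map_eq _ _ hmap
    have hBT : D.borelSubgroup F ≤ Subgroup.normalizer
        (D.rootSubgroup F (D.nroots - 1) : Set (GL D.Idx F)) :=
      fun b hb => mem_normalizer_of_map_eq _ _ (lr_B_conj D hD orb hL hC b hb)
    obtain ⟨n', hn', h', hh', hm⟩ := N_decomp_of_B_le D hD hC hP _ hBT _ hmN hmX
    have hcl : Subgroup.closure {g : GL D.Idx F | ∃ i < D.rank,
        g = nGt D hD (D.simple i) 1 ∧ g ∈ Subgroup.normalizer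
          (D.rootSubgroup F (D.nroots - 1) : Set (GL D.Idx F))} ≤ Q ⊓ C := by
      rw [Subgroup.closure_le]
      rintro g ⟨i, hi, rfl, hgT⟩
      have hmap := map_eq_of_mem_normalizer _ _ hgT
      have hmap2 : (D.rootSubgroup F (D.nroots - 1)).map
          (MulAut.conj (nGt D hD (D.simple i) 1)).toMonoidHom =
          D.rootSubgroup F (D.reflectRoot i (D.nroots - 1)) := by
        refine map_conj_rootSubgroup D hD _ _ _
          (fun t => ((etaOf D i (D.nroots - 1) : ℤ) : F) * t) ?_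
          (fun t => nG_conj D hD i hi _ hr t)
        intro y
        refine ⟨((etaOf D i (D.nroots - 1) : ℤ) : F) * y, ?_⟩
        show ((etaOf D i (D.nroots - 1) : ℤ) : F) * (((etaOf D i (D.nroots - 1) : ℤ) : F) * y) = y
        rw [← mul_assoc, eta_cast_sq D hD i _ hi hr, one_mul]
      rw [hmap] at hmap2
      have hx : xG D hD (D.nroots - 1) (1 : F) ∈
          D.rootSubgroup F (D.reflectRoot i (D.nroots - 1)) := by
        rw [← hmap2]
        exact xG_mem_rootSubgroup D hD _ _
      obtain ⟨a, ha⟩ := mem_rootSubgroup D hD _ _ hx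
      have hrr : D.reflectRoot i (D.nroots - 1) = D.nroots - 1 :=
        xG_eq_xG_pos D hD _ hZ.rpos _ a ha.symm
      have hii0 : i ≠ i0 := by
        rintro rfl
        exact hZ.rne hrr
      obtain ⟨-, hnegL⟩ := hZ.c0 i hi hii0
      have hpos := hR.simple_pos i hi
      constructor
      · exact nGt_mem_of D hD Q _
          (fun t => hUQ (Subgroup.subset_closure ⟨_, t, hpos, rfl⟩)) (fun t => hxL _ hnegL t) 1
      · exact nGt_mem_of D hD C _
          (fun t => hUC (Subgroup.subset_closure ⟨_, t, hpos, rfl⟩)) (fun t => hLC _ hnegL t) 1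
    have hn'QC := hcl hn'
    have hh'C : h' ∈ C := by
      have : h' = n'⁻¹ * (h₁ * n) := by rw [hm]; group
      rw [this]
      exact C.mul_mem (C.inv_mem hn'QC.2) hmC
    have hh'Q : h' ∈ Q := by
      obtain ⟨c, hc, hhc⟩ := Cfsg.Agent.S1034.mem_torus D hD h' hh'
      have hconj := H_conj_torus D hD h' c hc hhc _ hr 1
      rw [← hxC _ hh'C, mul_inv_cancel_right, mul_one] at hconj
      have h3 : torusChar D c (D.nroots - 1) = 1 :=
        (xG_pos_inj D hD _ hZ.rpos _ _ hconj).symm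
      have h4 : torusChar D c (D.nroots - 1) = c i0 := by
        unfold torusChar
        rw [List.prod_map_eq_pow_single i0]
        · rw [List.count_eq_one_of_mem List.nodup_range (List.mem_range.mpr hZ.i0lt), pow_one,
            hZ.c1, zpow_one]
        · intro j hj hjm
          rw [(hZ.c0 j (List.mem_range.mp hjm) hj).1, zpow_zero]
      have hci0 : c i0 = 1 := by rw [← h4, h3]
      have h5 : h' = torP D hD c :=
        Units.ext (by rw [hhc, torP_val D hD c (fun i _ => hc i)])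
      rw [h5]
      unfold torP
      apply Subgroup.list_prod_mem
      intro x hx
      obtain ⟨j, hj, rfl⟩ := List.mem_map.mp hx
      have hjr := List.mem_range.mp hj
      by_cases hji : j = i0
      · rw [hji, hci0]
        have : hGt D hD (D.simple i0) (1 : F) = 1 := by
          unfold hGt
          rw [nGt_neg_one, mul_inv_cancel]
        rw [this]
        exact Q.one_mem
      · obtain ⟨-, hnegL⟩ := hZ.c0 j hjr hji
        have hpos := hR.simple_pos j hjr
        exact hGt_mem_of D hD Q _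
          (fun t => hUQ (Subgroup.subset_closure ⟨_, t, hpos, rfl⟩)) (fun t => hxL _ hnegL t) _
    have : u₁ * h₁ * n * u = u₁ * (h₁ * n) * u := by group
    rw [this, hm]
    exact Q.mul_mem (Q.mul_mem (hUQ hu₁) (Q.mul_mem hn'QC.1 hh'Q)) (hUQ huU)

end

end Cfsg.Agent.helper5.Chev
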