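import Mathlib
import Cfsg.Agent.Lib_helper5_ChevCZ

set_option autoImplicit false

/-! Centralisers of root involutions in characteristic 2, general root (helper5). -/

namespace Cfsg.Agent.helper5.Chev

open Cfsg.Lie

/-- the data for the centraliser of the root involution `x_r(1)` in characteristic 2 -/
structure CZ2OK (D : ChevalleyDatum) (r : ℕ) (L : List ℕ) (i0 : ℕ) : Prop where
  rlt : r < D.nroots
  rpos : D.IsPosRoot r
  pos : ∀ p < D.nroots, D.IsPosRoot p → p ≠ r →
    p ≠ D.neg r ∧ ∀ c ∈ D.commTerms r p, (2 : ℤ) ∣ c.2.1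
  i0lt : i0 < D.rank
  c1 : D.cartan i0 r = 1
  c0 : ∀ j < D.rank, j ≠ i0 → D.cartan j r = 0 ∧ D.neg (D.simple j) ∈ L
  rne : D.reflectRoot i0 r ≠ r
  Lok : ∀ s ∈ L, s < D.nroots ∧ s ≠ r ∧ s ≠ D.neg r ∧ ∀ c ∈ D.commTerms r s, (2 : ℤ) ∣ c.2.1

def cz2Chk (D : ChevalleyDatum) (r : ℕ) (L : List ℕ) (i0 : ℕ) : Bool :=
  decide (r < D.nroots) && decide (D.IsPosRoot r) &&
  ((List.range D.nroots).all fun p => !(decide (D.IsPosRoot p)) || p == r ||
    (p != D.neg r && (D.commTerms r p).all fun c => c.2.1 % 2 == 0)) &&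
  decide (i0 < D.rank) && (D.cartan i0 r == 1) &&
  ((List.range D.rank).all fun j => j == i0 ||
    ((D.cartan j r == 0) && L.contains (D.neg (D.simple j)))) &&
  (D.reflectRoot i0 r != r) &&
  (L.all fun s => decide (s < D.nroots) && (s != r) && (s != D.neg r) &&
    (D.commTerms r s).all fun c => c.2.1 % 2 == 0)

theorem cz2OK_of_chk (D : ChevalleyDatum) (r : ℕ) (L : List ℕ) (i0 : ℕ)
    (h : cz2Chk D r L i0 = true) : CZ2OK D r L i0 := by
  unfold cz2Chk at h
  simp only [Bool.and_eq_true, decide_eq_true_eq, beq_iff_eq, List.all_eq_true,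
    List.contains_iff_mem, List.mem_range, Bool.or_eq_true, bne_iff_ne, ne_eq,
    Bool.not_eq_true', decide_eq_false_iff_not] at h
  obtain ⟨⟨⟨⟨⟨⟨⟨h1, h2⟩, h3⟩, h4⟩, h5⟩, h6⟩, h7⟩, h8⟩ := h
  refine ⟨h1, h2, ?_, h4, h5, ?_, h7, ?_⟩
  · intro p hp hpos hne
    rcases h3 p hp with (h | h) | h
    · exact absurd hpos h
    · exact absurd h hne
    · exact ⟨h.1, fun c hc => Int.dvd_of_emod_eq_zero (h.2 c hc)⟩
  · intro j hj hne
    rcases h6 j hj with h | h
    · exact absurd h hne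
    · exact h
  · intro s hs
    obtain ⟨⟨⟨a, b⟩, c⟩, d⟩ := h8 s hs
    exact ⟨a, b, c, fun c hc => Int.dvd_of_emod_eq_zero (d c hc)⟩

section
variable {F : Type*} [Field F] (D : ChevalleyDatum)
  (hD : D ∈ [chevG2, chevB2, chevD4, chevF4, chevE6, chevE7, chevE8])

theorem cwG_eq_one_of_even [CharP F 2] (r s : ℕ)
    (h : ∀ c ∈ D.commTerms r s, (2 : ℤ) ∣ c.2.1) (t u : F) : cwG D hD r s t u = 1 := by
  unfold cwG
  apply List.prod_eq_one
  intro x hx
  obtain ⟨c, hc, rfl⟩ := List.mem_map.mp hx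
  have h0 : ((c.2.1 : ℤ) : F) = 0 := by
    rw [CharP.intCast_eq_zero_iff F 2]
    exact_mod_cast h c hc
  rw [h0, zero_mul, zero_mul, xG_zero]

include hD in
theorem cz2_U_comm [CharP F 2] (r : ℕ) (L : List ℕ) (i0 : ℕ) (hZ : CZ2OK D r L i0)
    (hC : CommOK D) (u : GL D.Idx F) (hu : u ∈ D.posUnipotent F) (t : F) :
    u * xG D hD r t = xG D hD r t * u := by
  have hr := hZ.rlt
  have hle : D.posUnipotent F ≤ Subgroup.centralizer {xG D hD r t} := by
    unfold ChevalleyDatum.posUnipotent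
    rw [Subgroup.closure_le]
    rintro g ⟨p, c, hp, hg⟩
    rw [eq_xG D hD g p c hg, SetLike.mem_coe, Subgroup.mem_centralizer_iff]
    intro y hy
    rw [Set.mem_singleton_iff] at hy
    subst hy
    by_cases hpr : p = r
    · rw [hpr, xG_mul, xG_mul, add_comm]
    · obtain ⟨hpn, hct⟩ := hZ.pos p hp.1 hp hpr
      have hcf := commF_of_ok D hD hC r hr p hp.1 hpr hpn t c
      rw [cwG_eq_one_of_even D hD _ _ hct, mul_one] at hcf
      exact hcf.symm
  have := hle hu
  rw [Subgroup.mem_centralizer_iff] at this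
  exact (this _ rfl).symm

include hD in
theorem cz2_B_conj [CharP F 2] (r : ℕ) (L : List ℕ) (i0 : ℕ) (hZ : CZ2OK D r L i0)
    (hC : CommOK D) (b : GL D.Idx F) (hb : b ∈ D.borelSubgroup F) :
    (D.rootSubgroup F r).map (MulAut.conj b).toMonoidHom = D.rootSubgroup F r := by
  have hr := hZ.rlt
  obtain ⟨u, hu, h, hh, rfl⟩ := mem_borel D hD b hb
  obtain ⟨χ, hχ, hc⟩ := H_conj D hD h hh r hr
  refine map_conj_rootSubgroup D hD (u * h) _ _ (fun t => χ * t) ?_ ?_
  · intro y
    exact ⟨χ⁻¹ * y, mul_inv_cancel_left₀ hχ y⟩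
  · intro t
    calc u * h * xG D hD r t * (u * h)⁻¹
        = u * (h * xG D hD r t * h⁻¹) * u⁻¹ := by group
      _ = u * xG D hD r (χ * t) * u⁻¹ := by rw [hc]
      _ = xG D hD r (χ * t) := by
          rw [cz2_U_comm D hD r L i0 hZ hC u hu, mul_inv_cancel_right]

include hD in
/-- **the centraliser of a root involution `x_r(1)` centralised by `U`**, characteristic 2 -/
theorem cz2_main [CharP F 2] (r : ℕ) (L : List ℕ) (i0 : ℕ) (hZ : CZ2OK D r L i0)
    (t : GL D.Idx F) (ht : (t : Matrix D.Idx D.Idx F) = D.x F (r) 1) :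
    D.group F ⊓ Subgroup.centralizer {t} = D.posUnipotent F ⊔
      Subgroup.closure {g : GL D.Idx F | ∃ s ∈ L, ∃ c : F,
        (g : Matrix D.Idx D.Idx F) = D.x F s c} := by
  have hC := commOK_of_mem D hD
  have hP := posCommOK_of_mem D hD
  have hR := rootsOK_of_mem D hD
  have hr : r < D.nroots := hZ.rlt
  obtain ⟨hBG, hNG, -⟩ := Cfsg.Agent.S1043.result (F := F) D hD
  have htx : t = xG D hD (r) 1 := eq_xG D hD t _ _ ht
  subst htx
  obtain ⟨Q, hQ⟩ : ∃ Q : Subgroup (GL D.Idx F), Q = D.posUnipotent F ⊔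
      Subgroup.closure {g : GL D.Idx F | ∃ s ∈ L, ∃ c : F,
        (g : Matrix D.Idx D.Idx F) = D.x F s c} := ⟨_, rfl⟩
  obtain ⟨C, hCdef⟩ : ∃ C : Subgroup (GL D.Idx F),
      C = Subgroup.centralizer {xG D hD (r) (1 : F)} := ⟨_, rfl⟩
  rw [← hQ, ← hCdef]
  have hUQ : D.posUnipotent F ≤ Q := by rw [hQ]; exact le_sup_left
  have hxL : ∀ s ∈ L, ∀ c : F, xG D hD s c ∈ Q := by
    intro s hs c
    rw [hQ]
    exact Subgroup.mem_sup_right (Subgroup.subset_closure ⟨s, hs, c, rfl⟩)
  have hUC : D.posUnipotent F ≤ C := by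
    intro u hu
    rw [hCdef, Subgroup.mem_centralizer_iff]
    intro y hy
    rw [Set.mem_singleton_iff] at hy
    subst hy
    exact (cz2_U_comm D hD r L i0 hZ hC u hu 1).symm
  have hLC : ∀ s ∈ L, ∀ c : F, xG D hD s c ∈ C := by
    intro s hs c
    obtain ⟨hslt, hsr, hsn, hct⟩ := hZ.Lok s hs
    rw [hCdef, Subgroup.mem_centralizer_iff]
    intro y hy
    rw [Set.mem_singleton_iff] at hy
    subst hy
    have hcf := commF_of_ok D hD hC (r) hr s hslt hsr hsn 1 c
    have hcw : cwG D hD (r) s 1 c = 1 := cwG_eq_one_of_even D hD _ _ hct _ _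
    rw [hcw, mul_one] at hcf
    exact hcf.symm
  have hxC : ∀ g ∈ C, xG D hD (r) (1 : F) * g = g * xG D hD (r) (1 : F) := by
    intro g hg
    rw [hCdef, Subgroup.mem_centralizer_iff] at hg
    exact hg _ rfl
  apply le_antisymm
  swap
  · rw [hQ]
    apply sup_le
    · exact le_inf (fun u hu => hBG (U_le_B D hD hu)) hUC
    · rw [Subgroup.closure_le]
      rintro g ⟨s, hs, c, hg⟩
      rw [eq_xG D hD g s c hg]
      exact ⟨xG_mem_grp D hD s (hZ.Lok s hs).1 c, hLC s hs c⟩
  · rintro g ⟨hgG, hgC⟩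
    obtain ⟨b, hb, n, hn, u, hu, rfl⟩ := exists_form D hD hC hP g hgG
    obtain ⟨u₁, hu₁, h₁, hh₁, rfl⟩ := mem_borel D hD b hb
    have huU : u ∈ D.posUnipotent F := UnegOf_le_U D n hu
    have hmC : h₁ * n ∈ C := by
      have : h₁ * n = u₁⁻¹ * (u₁ * h₁ * n * u) * u⁻¹ := by group
      rw [this]
      exact C.mul_mem (C.mul_mem (C.inv_mem (hUC hu₁)) hgC) (C.inv_mem (hUC huU))
    have hmN : h₁ * n ∈ D.monomialSubgroup F := Subgroup.mul_mem _ (H_le_N D hh₁) hn
    have hmX : h₁ * n ∈ Subgroup.normalizer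
        (D.rootSubgroup F (r) : Set (GL D.Idx F)) := by
      obtain ⟨w, hw, hmap⟩ := lr_N_conj D hD (h₁ * n) hmN _ hr
      have hx : xG D hD (r) (1 : F) ∈
          D.rootSubgroup F (applyW D w (r)) := by
        rw [← hmap]
        refine ⟨xG D hD (r) 1, xG_mem_rootSubgroup D hD _ _, ?_⟩
        show h₁ * n * xG D hD (r) 1 * (h₁ * n)⁻¹ = xG D hD (r) 1
        rw [← hxC _ hmC, mul_inv_cancel_right]
      obtain ⟨a, ha⟩ := mem_rootSubgroup D hD _ _ hx
      have hwr : applyW D w (r) = r :=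
        xG_eq_xG_pos D hD _ hZ.rpos _ a ha.symm
      rw [hwr] at hmap
      exact mem_normalizer_of_map_eq _ _ hmap
    have hBT : D.borelSubgroup F ≤ Subgroup.normalizer
        (D.rootSubgroup F (r) : Set (GL D.Idx F)) :=
      fun b hb => mem_normalizer_of_map_eq _ _ (cz2_B_conj D hD r L i0 hZ hC b hb)
    obtain ⟨n', hn', h', hh', hm⟩ := N_decomp_of_B_le D hD hC hP _ hBT _ hmN hmX
    have hcl : Subgroup.closure {g : GL D.Idx F | ∃ i < D.rank,
        g = nGt D hD (D.simple i) 1 ∧ g ∈ Subgroup.normalizer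
          (D.rootSubgroup F (r) : Set (GL D.Idx F))} ≤ Q ⊓ C := by
      rw [Subgroup.closure_le]
      rintro g ⟨i, hi, rfl, hgT⟩
      have hmap := map_eq_of_mem_normalizer _ _ hgT
      have hmap2 : (D.rootSubgroup F (r)).map
          (MulAut.conj (nGt D hD (D.simple i) 1)).toMonoidHom =
          D.rootSubgroup F (D.reflectRoot i (r)) := by
        refine map_conj_rootSubgroup D hD _ _ _
          (fun t => ((etaOf D i (r) : ℤ) : F) * t) ?_
          (fun t => nG_conj D hD i hi _ hr t)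
        intro y
        refine ⟨((etaOf D i (r) : ℤ) : F) * y, ?_⟩
        show ((etaOf D i (r) : ℤ) : F) * (((etaOf D i (r) : ℤ) : F) * y) = y
        rw [← mul_assoc, eta_cast_sq D hD i _ hi hr, one_mul]
      rw [hmap] at hmap2
      have hx : xG D hD (r) (1 : F) ∈
          D.rootSubgroup F (D.reflectRoot i (r)) := by
        rw [← hmap2]
        exact xG_mem_rootSubgroup D hD _ _
      obtain ⟨a, ha⟩ := mem_rootSubgroup D hD _ _ hx
      have hrr : D.reflectRoot i (r) = r :=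
        xG_eq_xG_pos D hD _ hZ.rpos _ a ha.symm
      have hii0 : i ≠ i0 := by
        rintro rfl
        exact hZ.rne hrr
      obtain ⟨-, hnegL⟩ := hZ.c0 i hi hii0
      have hpos := hR.simple_pos i hi
      constructor
      · exact nGt_mem_of D hD Q _
          (fun t => hUQ (Subgroup.subset_closure ⟨_, t, hpos, rfl⟩)) (fun t => hxL _ hnegL t) 1
      · exact nGt_mem_of D hD C _
          (fun t => hUC (Subgroup.subset_closure ⟨_, t, hpos, rfl⟩)) (fun t => hLC _ hnegL t) 1
    have hn'QC := hcl hn'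
    have hh'C : h' ∈ C := by
      have : h' = n'⁻¹ * (h₁ * n) := by rw [hm]; group
      rw [this]
      exact C.mul_mem (C.inv_mem hn'QC.2) hmC
    have hh'Q : h' ∈ Q := by
      obtain ⟨c, hc, hhc⟩ := Cfsg.Agent.S1034.mem_torus D hD h' hh'
      have hconj := H_conj_torus D hD h' c hc hhc _ hr 1
      rw [← hxC _ hh'C, mul_inv_cancel_right, mul_one] at hconj
      have h3 : torusChar D c (r) = 1 :=
        (xG_pos_inj D hD _ hZ.rpos _ _ hconj).symm
      have h4 : torusChar D c (r) = c i0 := by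
        unfold torusChar
        rw [List.prod_map_eq_pow_single i0]
        · rw [List.count_eq_one_of_mem List.nodup_range (List.mem_range.mpr hZ.i0lt), pow_one,
            hZ.c1, zpow_one]
        · intro j hj hjm
          rw [(hZ.c0 j (List.mem_range.mp hjm) hj).1, zpow_zero]
      have hci0 : c i0 = 1 := by rw [← h4, h3]
      have h5 : h' = torP D hD c :=
        Units.ext (by rw [hhc, torP_val D hD c (fun i _ => hc i)])
      rw [h5]
      unfold torP
      apply Subgroup.list_prod_mem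
      intro x hx
      obtain ⟨j, hj, rfl⟩ := List.mem_map.mp hx
      have hjr := List.mem_range.mp hj
      by_cases hji : j = i0
      · rw [hji, hci0]
        have : hGt D hD (D.simple i0) (1 : F) = 1 := by
          unfold hGt
          rw [nGt_neg_one, mul_inv_cancel]
        rw [this]
        exact Q.one_mem
      · obtain ⟨-, hnegL⟩ := hZ.c0 j hjr hji
        have hpos := hR.simple_pos j hjr
        exact hGt_mem_of D hD Q _
          (fun t => hUQ (Subgroup.subset_closure ⟨_, t, hpos, rfl⟩)) (fun t => hxL _ hnegL t) _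
    have : u₁ * h₁ * n * u = u₁ * (h₁ * n) * u := by group
    rw [this, hm]
    exact Q.mul_mem (Q.mul_mem (hUQ hu₁) (Q.mul_mem hn'QC.1 hh'Q)) (hUQ huU)


/-- the subgroup generated by the root elements of three roots -/
theorem closure_three (a b c : ℕ) :
    Subgroup.closure {g : GL D.Idx F | ∃ s ∈ [a, b, c], ∃ t : F,
      (g : Matrix D.Idx D.Idx F) = D.x F s t} =
    D.rootSubgroup F a ⊔ D.rootSubgroup F b ⊔ D.rootSubgroup F c := by
  apply le_antisymm
  · rw [Subgroup.closure_le]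
    rintro g ⟨s, hs, t, hg⟩
    simp only [List.mem_cons, List.not_mem_nil, or_false] at hs
    rcases hs with rfl | rfl | rfl
    · exact Subgroup.mem_sup_left (Subgroup.mem_sup_left (Subgroup.subset_closure ⟨t, hg⟩))
    · exact Subgroup.mem_sup_left (Subgroup.mem_sup_right (Subgroup.subset_closure ⟨t, hg⟩))
    · exact Subgroup.mem_sup_right (Subgroup.subset_closure ⟨t, hg⟩)
  · refine sup_le (sup_le ?_ ?_) ?_
    · exact Subgroup.closure_mono (fun g ⟨t, ht⟩ => ⟨a, by simp, t, ht⟩)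
    · exact Subgroup.closure_mono (fun g ⟨t, ht⟩ => ⟨b, by simp, t, ht⟩)
    · exact Subgroup.closure_mono (fun g ⟨t, ht⟩ => ⟨c, by simp, t, ht⟩)

end

set_option maxRecDepth 1000000 in
set_option maxHeartbeats 0 in
theorem cz2OK_F4_long : CZ2OK chevF4 47 [14, 20, 22] 3 := cz2OK_of_chk _ _ _ _ (by decide +kernel)

set_option maxRecDepth 1000000 in
set_option maxHeartbeats 0 in
theorem cz2OK_F4_short : CZ2OK chevF4 44 [20, 22, 23] 0 := cz2OK_of_chk _ _ _ _ (by decide +kernel)

end Cfsg.Agent.helper5.Chev
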