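import Mathlib
import Cfsg.Agent.Lib_helper5_ChevCZ2

set_option autoImplicit false

/-! Centralisers of a product of two commuting root involutions centralised by `U`,
characteristic 2 (helper5). -/

namespace Cfsg.Agent.helper5.Chev

open Cfsg.Lie

section
variable {F : Type*} [Field F] (D : ChevalleyDatum)
  (hD : D ∈ [chevG2, chevB2, chevD4, chevF4, chevE6, chevE7, chevE8])

include hD in
/-- conjugation by an element of `N`, uniformly in the root -/
theorem N_conj_uniform (n : GL D.Idx F) (hn : n ∈ D.monomialSubgroup F) :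
    ∃ w : List ℕ, (∀ i ∈ w, i < D.rank) ∧ ∀ r < D.nroots, ∃ κ : F, κ ≠ 0 ∧
      ∀ t : F, n * xG D hD r t * n⁻¹ = xG D hD (applyW D w r) (κ * t) := by
  obtain ⟨h, hh, w, hw, rfl⟩ := mem_N_decomp D hD n hn
  refine ⟨w, hw, fun r hr => ?_⟩
  obtain ⟨ε, hε, hc⟩ := nW_conj (F := F) D hD w hw r hr
  obtain ⟨χ, hχ, hc2⟩ := H_conj D hD h hh (applyW D w r) (applyW_lt D hD w hw r hr)
  have hε0 : ε ≠ 0 := by
    rintro rfl
    simp at hε
  refine ⟨χ * ε, mul_ne_zero hχ hε0, fun t => ?_⟩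
  calc h * nW D hD w * xG D hD r t * (h * nW D hD w)⁻¹
      = h * (nW D hD w * xG D hD r t * (nW D hD w)⁻¹) * h⁻¹ := by group
    _ = _ := by rw [hc, hc2, mul_assoc]

theorem prodL_zero (l : List ℕ) : prodL D hD (fun _ => (0 : F)) l = 1 := by
  induction l with
  | nil => rfl
  | cons r l ih => rw [prodL_cons, ih, xG_zero, mul_one]

/-- inserting a root element into an ordered product -/
theorem prodL_update (l : List ℕ) (hl : l.Pairwise (· < ·)) (f : ℕ → F) (s : ℕ) (a : F)
    (hs : s ∈ l) (hf : f s = 0)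
    (hcomm : ∀ r ∈ l, r < s → xG D hD s a * xG D hD r (f r) = xG D hD r (f r) * xG D hD s a) :
    xG D hD s a * prodL D hD f l = prodL D hD (Function.update f s a) l := by
  induction l with
  | nil => exact absurd hs (by simp)
  | cons r l ih =>
    rw [List.pairwise_cons] at hl
    by_cases hsr : s = r
    · subst hsr
      rw [prodL_cons, prodL_cons, hf, xG_zero, one_mul, Function.update_self]
      congr 1
      apply prodL_congr
      intro k hk
      have := hl.1 k hk
      rw [Function.update_of_ne (by omega)]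
    · have hsl : s ∈ l := by
        rcases List.mem_cons.mp hs with h | h
        · exact absurd h hsr
        · exact h
      have hrs : r < s := hl.1 s hsl
      rw [prodL_cons, prodL_cons, Function.update_of_ne (Ne.symm hsr), ← mul_assoc,
        hcomm r List.mem_cons_self hrs, mul_assoc,
        ih hl.2 hsl (fun k hk hks => hcomm k (List.mem_cons_of_mem _ hk) hks)]

theorem xG_ne_one_of_pos (r : ℕ) (hr : D.IsPosRoot r) (a : F) (ha : a ≠ 0) :
    xG D hD r a ≠ 1 := by
  intro h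
  rw [← xG_zero D hD r] at h
  exact ha (xG_pos_inj D hD r hr a 0 h)

/-- a product of two commuting positive root elements as an ordered product -/
theorem pair_eq_prodL (s₁ s₂ : ℕ) (h1 : D.IsPosRoot s₁) (h2 : D.IsPosRoot s₂) (hne : s₁ ≠ s₂)
    (a₁ a₂ : F) (hc : xG D hD s₁ a₁ * xG D hD s₂ a₂ = xG D hD s₂ a₂ * xG D hD s₁ a₁) :
    xG D hD s₁ a₁ * xG D hD s₂ a₂ =
      prodL D hD (Function.update (Function.update (fun _ => (0 : F)) s₂ a₂) s₁ a₁) D.posRoots := by
  have hp := posRoots_pairwise D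
  have e1 : xG D hD s₂ a₂ = prodL D hD (Function.update (fun _ => (0 : F)) s₂ a₂) D.posRoots := by
    rw [← prodL_update D hD D.posRoots hp (fun _ => 0) s₂ a₂ ((mem_posRoots D s₂).mpr h2) rfl,
      prodL_zero, mul_one]
    intro r _ _
    rw [xG_zero, mul_one, one_mul]
  rw [e1]
  apply prodL_update D hD D.posRoots hp _ s₁ a₁ ((mem_posRoots D s₁).mpr h1)
  · rw [Function.update_of_ne hne]
  · intro r _ _
    by_cases hr : r = s₂
    · subst hr
      rw [Function.update_self]
      exact hc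
    · rw [Function.update_of_ne hr, xG_zero, mul_one, one_mul]

include hD in
/-- uniqueness of the expression `x_{r₁}(1) x_{r₂}(1)` as a product of two commuting root elements -/
theorem pair_unique (r₁ r₂ : ℕ) (h1 : D.IsPosRoot r₁) (h2 : D.IsPosRoot r₂) (hne : r₁ ≠ r₂)
    (b₁ b₂ : F)
    (hc : xG D hD r₁ b₁ * xG D hD r₂ b₂ = xG D hD r₂ b₂ * xG D hD r₁ b₁)
    (s₁ s₂ : ℕ) (hs1 : s₁ < D.nroots) (hs2 : s₂ < D.nroots) (hss : s₁ ≠ s₂) (a₁ a₂ : F)
    (hy1 : xG D hD s₁ a₁ ≠ 1) (hy2 : xG D hD s₂ a₂ ≠ 1)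
    (hb : xG D hD r₁ b₁ * xG D hD r₂ b₂ ≠ 1)
    (hcs : xG D hD s₁ a₁ * xG D hD s₂ a₂ = xG D hD s₂ a₂ * xG D hD s₁ a₁)
    (h : xG D hD s₁ a₁ * xG D hD s₂ a₂ = xG D hD r₁ b₁ * xG D hD r₂ b₂) :
    ((s₁ = r₁ ∧ a₁ = b₁) ∨ (s₁ = r₂ ∧ a₁ = b₂)) ∧ ((s₂ = r₁ ∧ a₂ = b₁) ∨ (s₂ = r₂ ∧ a₂ = b₂)) := by
  have hR := rootsOK_of_mem D hD
  have hU1 : xG D hD r₁ b₁ ∈ D.posUnipotent F := Subgroup.subset_closure ⟨r₁, b₁, h1, rfl⟩
  have hU2 : xG D hD r₂ b₂ ∈ D.posUnipotent F := Subgroup.subset_closure ⟨r₂, b₂, h2, rfl⟩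
  have hU12 := (D.posUnipotent F).mul_mem hU1 hU2
  have hBV := B_inf_V (F := F) D hD
  have a1ne : a₁ ≠ 0 := by
    rintro rfl
    exact hy1 (xG_zero D hD s₁)
  have a2ne : a₂ ≠ 0 := by
    rintro rfl
    exact hy2 (xG_zero D hD s₂)
  rcases hR.pos_or_neg s₁ hs1 with ⟨hp1, -, -⟩ | ⟨hn1, -, -⟩
  · rcases hR.pos_or_neg s₂ hs2 with ⟨hp2, -, -⟩ | ⟨hn2, -, -⟩
    · rw [pair_eq_prodL D hD s₁ s₂ hp1 hp2 hss a₁ a₂ hcs,
        pair_eq_prodL D hD r₁ r₂ h1 h2 hne b₁ b₂ hc] at h
      have hinj := prodL_inj D hD _ _ D.posRoots (posRoots_pairwise D)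
        (fun r hr => (mem_posRoots D r).mp hr) h
      have e1 := hinj s₁ ((mem_posRoots D s₁).mpr hp1)
      have e2 := hinj s₂ ((mem_posRoots D s₂).mpr hp2)
      rw [Function.update_self] at e1
      rw [Function.update_of_ne (Ne.symm hss), Function.update_self] at e2
      constructor
      · by_cases c1 : s₁ = r₁
        · left
          rw [c1, Function.update_self] at e1
          exact ⟨c1, e1⟩
        · rw [Function.update_of_ne c1] at e1
          by_cases c2 : s₁ = r₂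
          · right
            rw [c2, Function.update_self] at e1
            exact ⟨c2, e1⟩
          · rw [Function.update_of_ne c2] at e1
            exact absurd e1 a1ne
      · by_cases c1 : s₂ = r₁
        · left
          rw [c1, Function.update_self] at e2
          exact ⟨c1, e2⟩
        · rw [Function.update_of_ne c1] at e2
          by_cases c2 : s₂ = r₂
          · right
            rw [c2, Function.update_self] at e2
            exact ⟨c2, e2⟩
          · rw [Function.update_of_ne c2] at e2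
            exact absurd e2 a2ne
    · exfalso
      have hV : xG D hD s₂ a₂ ∈ D.negUnipotent F := Subgroup.subset_closure ⟨s₂, a₂, hn2, rfl⟩
      have hU : xG D hD s₂ a₂ ∈ D.posUnipotent F := by
        have : xG D hD s₂ a₂ = (xG D hD s₁ a₁)⁻¹ * (xG D hD r₁ b₁ * xG D hD r₂ b₂) := by
          rw [← h]; group
        rw [this]
        exact (D.posUnipotent F).mul_mem ((D.posUnipotent F).inv_mem
          (Subgroup.subset_closure ⟨s₁, a₁, hp1, rfl⟩)) hU12
      have : xG D hD s₂ a₂ ∈ D.borelSubgroup F ⊓ D.negUnipotent F := ⟨U_le_B D hD hU, hV⟩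
      rw [hBV, Subgroup.mem_bot] at this
      exact hy2 this
  · exfalso
    have hV1 : xG D hD s₁ a₁ ∈ D.negUnipotent F := Subgroup.subset_closure ⟨s₁, a₁, hn1, rfl⟩
    rcases hR.pos_or_neg s₂ hs2 with ⟨hp2, -, -⟩ | ⟨hn2, -, -⟩
    · have hU : xG D hD s₁ a₁ ∈ D.posUnipotent F := by
        have : xG D hD s₁ a₁ = (xG D hD r₁ b₁ * xG D hD r₂ b₂) * (xG D hD s₂ a₂)⁻¹ := by
          rw [← h]; group
        rw [this]
        exact (D.posUnipotent F).mul_mem hU12 ((D.posUnipotent F).inv_mem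
          (Subgroup.subset_closure ⟨s₂, a₂, hp2, rfl⟩))
      have : xG D hD s₁ a₁ ∈ D.borelSubgroup F ⊓ D.negUnipotent F := ⟨U_le_B D hD hU, hV1⟩
      rw [hBV, Subgroup.mem_bot] at this
      exact hy1 this
    · have hV2 : xG D hD s₂ a₂ ∈ D.negUnipotent F := Subgroup.subset_closure ⟨s₂, a₂, hn2, rfl⟩
      have : xG D hD r₁ b₁ * xG D hD r₂ b₂ ∈ D.borelSubgroup F ⊓ D.negUnipotent F := by
        refine ⟨U_le_B D hD hU12, ?_⟩
        rw [← h]
        exact (D.negUnipotent F).mul_mem hV1 hV2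
      rw [hBV, Subgroup.mem_bot] at this
      exact hb this

theorem applyW_orb (orb : List ℕ) (horbr : ∀ s ∈ orb, ∀ i < D.rank, D.reflectRoot i s ∈ orb)
    (r : ℕ) (hr : r ∈ orb) (w : List ℕ) (hw : ∀ i ∈ w, i < D.rank) : applyW D w r ∈ orb := by
  induction w with
  | nil => exact hr
  | cons i w ih =>
    have : applyW D (i :: w) r = D.reflectRoot i (applyW D w r) := rfl
    rw [this]
    exact horbr _ (ih fun j hj => hw j (List.mem_cons_of_mem _ hj)) i (hw i List.mem_cons_self)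

end

end Cfsg.Agent.helper5.Chev
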