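import Mathlib
import Cfsg.Agent.Lib_helper5_ChevCZ3

set_option autoImplicit false

/-! Centraliser of `x_{r₁}(1) x_{r₂}(1)` for two root involutions centralised by `U`,
characteristic 2 (helper5). -/

namespace Cfsg.Agent.helper5.Chev

open Cfsg.Lie

section
variable {F : Type*} [Field F] (D : ChevalleyDatum)
  (hD : D ∈ [chevG2, chevB2, chevD4, chevF4, chevE6, chevE7, chevE8])

include hD in
/-- **the centraliser of `x_{r₁}(1) x_{r₂}(1)`**, both factors centralised by `U`, characteristic 2 -/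
theorem cz2_pair_main [CharP F 2] (r₁ r₂ : ℕ) (L₁ L₂ L : List ℕ) (i₁ i₂ : ℕ) (orb : List ℕ)
    (hZ₁ : CZ2OK D r₁ L₁ i₁) (hZ₂ : CZ2OK D r₂ L₂ i₂) (hne : r₁ ≠ r₂)
    (hL1 : ∀ s ∈ L, s ∈ L₁) (hL2 : ∀ s ∈ L, s ∈ L₂)
    (hLc : ∀ j < D.rank, j ≠ i₁ → j ≠ i₂ → D.neg (D.simple j) ∈ L)
    (horb1 : r₁ ∈ orb) (horb2 : r₂ ∉ orb)
    (horbr : ∀ s ∈ orb, ∀ i < D.rank, D.reflectRoot i s ∈ orb)
    (t : GL D.Idx F) (ht : (t : Matrix D.Idx D.Idx F) = D.x F r₁ 1 * D.x F r₂ 1) :
    D.group F ⊓ Subgroup.centralizer {t} = D.posUnipotent F ⊔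
      Subgroup.closure {g : GL D.Idx F | ∃ s ∈ L, ∃ c : F,
        (g : Matrix D.Idx D.Idx F) = D.x F s c} := by
  have hC := commOK_of_mem D hD
  have hP := posCommOK_of_mem D hD
  have hR := rootsOK_of_mem D hD
  have hr1 : r₁ < D.nroots := hZ₁.rlt
  have hr2 : r₂ < D.nroots := hZ₂.rlt
  obtain ⟨hBG, hNG, -⟩ := Cfsg.Agent.S1043.result (F := F) D hD
  have htx : t = xG D hD r₁ 1 * xG D hD r₂ 1 :=
    Units.ext (by rw [ht, Units.val_mul, xG_val, xG_val])
  subst htx
  obtain ⟨Q, hQ⟩ : ∃ Q : Subgroup (GL D.Idx F), Q = D.posUnipotent F ⊔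
      Subgroup.closure {g : GL D.Idx F | ∃ s ∈ L, ∃ c : F,
        (g : Matrix D.Idx D.Idx F) = D.x F s c} := ⟨_, rfl⟩
  obtain ⟨C, hCdef⟩ : ∃ C : Subgroup (GL D.Idx F),
      C = Subgroup.centralizer {xG D hD r₁ (1 : F) * xG D hD r₂ (1 : F)} := ⟨_, rfl⟩
  rw [← hQ, ← hCdef]
  have hUQ : D.posUnipotent F ≤ Q := by rw [hQ]; exact le_sup_left
  have hxL : ∀ s ∈ L, ∀ c : F, xG D hD s c ∈ Q := by
    intro s hs c
    rw [hQ]
    exact Subgroup.mem_sup_right (Subgroup.subset_closure ⟨s, hs, c, rfl⟩)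
  have hmemC : ∀ g : GL D.Idx F, (∀ a : F, g * xG D hD r₁ a = xG D hD r₁ a * g) →
      (∀ a : F, g * xG D hD r₂ a = xG D hD r₂ a * g) → g ∈ C := by
    intro g h1 h2
    rw [hCdef, Subgroup.mem_centralizer_iff]
    intro y hy
    rw [Set.mem_singleton_iff] at hy
    subst hy
    rw [mul_assoc, ← h2, ← mul_assoc, ← h1, mul_assoc]
  have hUC : D.posUnipotent F ≤ C := fun u hu =>
    hmemC u (fun a => cz2_U_comm D hD r₁ L₁ i₁ hZ₁ hC u hu a)
      (fun a => cz2_U_comm D hD r₂ L₂ i₂ hZ₂ hC u hu a)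
  have hLC : ∀ s ∈ L, ∀ c : F, xG D hD s c ∈ C := by
    intro s hs c
    apply hmemC
    · intro a
      obtain ⟨hslt, hsr, hsn, hct⟩ := hZ₁.Lok s (hL1 s hs)
      have hcf := commF_of_ok D hD hC r₁ hr1 s hslt hsr hsn a c
      rw [cwG_eq_one_of_even D hD _ _ hct, mul_one] at hcf
      exact hcf
    · intro a
      obtain ⟨hslt, hsr, hsn, hct⟩ := hZ₂.Lok s (hL2 s hs)
      have hcf := commF_of_ok D hD hC r₂ hr2 s hslt hsr hsn a c
      rw [cwG_eq_one_of_even D hD _ _ hct, mul_one] at hcf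
      exact hcf
  have hxC : ∀ g ∈ C, (xG D hD r₁ (1 : F) * xG D hD r₂ (1 : F)) * g =
      g * (xG D hD r₁ (1 : F) * xG D hD r₂ (1 : F)) := by
    intro g hg
    rw [hCdef, Subgroup.mem_centralizer_iff] at hg
    exact hg _ rfl
  have hcomm12 : ∀ a b : F, xG D hD r₁ a * xG D hD r₂ b = xG D hD r₂ b * xG D hD r₁ a := by
    intro a b
    exact (cz2_U_comm D hD r₂ L₂ i₂ hZ₂ hC _
      (Subgroup.subset_closure ⟨r₁, a, hZ₁.rpos, rfl⟩) b)
  have hne1 : ∀ a : F, a ≠ 0 → xG D hD r₁ a ≠ 1 := fun a ha =>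
    xG_ne_one_of_pos D hD r₁ hZ₁.rpos a ha
  have hne2 : ∀ a : F, a ≠ 0 → xG D hD r₂ a ≠ 1 := fun a ha =>
    xG_ne_one_of_pos D hD r₂ hZ₂.rpos a ha
  have hne12 : ∀ a b : F, a ≠ 0 → xG D hD r₁ a * xG D hD r₂ b ≠ 1 := by
    intro a b ha h
    have h2 : xG D hD r₂ (-b) = xG D hD r₁ a := by
      rw [← xG_inv, eq_comm, ← mul_eq_one_iff_eq_inv]
      exact h
    have h3 : xG D hD r₂ (-b * a⁻¹ * a) = xG D hD r₁ (1 * a) := by
      rw [inv_mul_cancel_right₀ ha, one_mul]
      exact h2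
    -- scale: use uniqueness of ordered products instead
    have h4 := pair_eq_prodL D hD r₁ r₂ hZ₁.rpos hZ₂.rpos hne a b (hcomm12 a b)
    rw [h] at h4
    have h5 : (1 : GL D.Idx F) = prodL D hD (fun _ => (0 : F)) D.posRoots :=
      (prodL_zero D hD _).symm
    rw [h5] at h4
    have h6 := prodL_inj D hD _ _ D.posRoots (posRoots_pairwise D)
      (fun r hr => (mem_posRoots D r).mp hr) h4 r₁ ((mem_posRoots D r₁).mpr hZ₁.rpos)
    rw [Function.update_self] at h6
    exact ha h6.symm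
  apply le_antisymm
  swap
  · rw [hQ]
    apply sup_le
    · exact le_inf (fun u hu => hBG (U_le_B D hD hu)) hUC
    · rw [Subgroup.closure_le]
      rintro g ⟨s, hs, c, hg⟩
      rw [eq_xG D hD g s c hg]
      exact ⟨xG_mem_grp D hD s (hZ₁.Lok s (hL1 s hs)).1 c, hLC s hs c⟩
  · rintro g ⟨hgG, hgC⟩
    obtain ⟨b, hb, n, hn, u, hu, rfl⟩ := exists_form D hD hC hP g hgG
    obtain ⟨u₁, hu₁, h₁, hh₁, rfl⟩ := mem_borel D hD b hb
    have huU : u ∈ D.posUnipotent F := UnegOf_le_U D n hu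
    have hmC : h₁ * n ∈ C := by
      have : h₁ * n = u₁⁻¹ * (u₁ * h₁ * n * u) * u⁻¹ := by group
      rw [this]
      exact C.mul_mem (C.mul_mem (C.inv_mem (hUC hu₁)) hgC) (C.inv_mem (hUC huU))
    have hmN : h₁ * n ∈ D.monomialSubgroup F := Subgroup.mul_mem _ (H_le_N D hh₁) hn
    obtain ⟨T, hT⟩ : ∃ T : Subgroup (GL D.Idx F),
        T = Subgroup.normalizer (D.rootSubgroup F r₁ : Set (GL D.Idx F)) ⊓
          Subgroup.normalizer (D.rootSubgroup F r₂ : Set (GL D.Idx F)) := ⟨_, rfl⟩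
    have hmX : h₁ * n ∈ T := by
      obtain ⟨w, hw, hall⟩ := N_conj_uniform D hD (h₁ * n) hmN
      obtain ⟨κ₁, hκ₁, hc1⟩ := hall r₁ hr1
      obtain ⟨κ₂, hκ₂, hc2⟩ := hall r₂ hr2
      have hs1 := applyW_lt D hD w hw r₁ hr1
      have hs2 := applyW_lt D hD w hw r₂ hr2
      have hprod : xG D hD (applyW D w r₁) (κ₁ * 1) * xG D hD (applyW D w r₂) (κ₂ * 1) =
          xG D hD r₁ 1 * xG D hD r₂ 1 := by
        rw [← hc1, ← hc2]
        have : h₁ * n * xG D hD r₁ 1 * (h₁ * n)⁻¹ * (h₁ * n * xG D hD r₂ 1 * (h₁ * n)⁻¹) =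
            h₁ * n * (xG D hD r₁ 1 * xG D hD r₂ 1) * (h₁ * n)⁻¹ := by group
        rw [this, ← hxC _ hmC, mul_inv_cancel_right]
      have hy1 : xG D hD (applyW D w r₁) (κ₁ * 1) ≠ 1 := by
        rw [← hc1]
        intro h
        rw [mul_inv_eq_one, mul_eq_left] at h
        exact hne1 1 one_ne_zero h
      have hy2 : xG D hD (applyW D w r₂) (κ₂ * 1) ≠ 1 := by
        rw [← hc2]
        intro h
        rw [mul_inv_eq_one, mul_eq_left] at h
        exact hne2 1 one_ne_zero h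
      have hss : applyW D w r₁ ≠ applyW D w r₂ := by
        intro h
        have e1 := hc1 (κ₂ * κ₁⁻¹)
        have e2 := hc2 1
        have hk : κ₁ * (κ₂ * κ₁⁻¹) = κ₂ * 1 := by field_simp
        rw [h, hk] at e1
        rw [← e2] at e1
        have e3 : xG D hD r₁ (κ₂ * κ₁⁻¹) = xG D hD r₂ 1 := by
          have := congrArg (fun z => (h₁ * n)⁻¹ * z * (h₁ * n)) e1
          simpa [mul_assoc] using this
        exact hne (xG_eq_xG_pos D hD r₂ hZ₂.rpos r₁ _ e3)
      have hcs : xG D hD (applyW D w r₁) (κ₁ * 1) * xG D hD (applyW D w r₂) (κ₂ * 1) =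
          xG D hD (applyW D w r₂) (κ₂ * 1) * xG D hD (applyW D w r₁) (κ₁ * 1) := by
        rw [← hc1, ← hc2]
        have e1 : h₁ * n * xG D hD r₁ 1 * (h₁ * n)⁻¹ * (h₁ * n * xG D hD r₂ 1 * (h₁ * n)⁻¹) =
            h₁ * n * (xG D hD r₁ 1 * xG D hD r₂ 1) * (h₁ * n)⁻¹ := by group
        have e2 : h₁ * n * xG D hD r₂ 1 * (h₁ * n)⁻¹ * (h₁ * n * xG D hD r₁ 1 * (h₁ * n)⁻¹) =
            h₁ * n * (xG D hD r₂ 1 * xG D hD r₁ 1) * (h₁ * n)⁻¹ := by group
        rw [e1, e2, hcomm12]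
      obtain ⟨hA, hB⟩ := pair_unique D hD r₁ r₂ hZ₁.rpos hZ₂.rpos hne 1 1 (hcomm12 1 1)
        _ _ hs1 hs2 hss _ _ hy1 hy2 (hne12 1 1 one_ne_zero) hcs hprod
      have hin := applyW_orb D orb horbr r₁ horb1 w hw
      have hw1 : applyW D w r₁ = r₁ := by
        rcases hA with ⟨h, -⟩ | ⟨h, -⟩
        · exact h
        · rw [h] at hin
          exact absurd hin horb2
      have hw2 : applyW D w r₂ = r₂ := by
        rcases hB with ⟨h, -⟩ | ⟨h, -⟩
        · rw [hw1, h] at hss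
          exact absurd rfl hss
        · exact h
      rw [hT]
      constructor
      · apply mem_normalizer_of_map_eq
        rw [← hw1]
        conv_lhs => rw [hw1]
        refine map_conj_rootSubgroup D hD _ _ _ (fun t => κ₁ * t) ?_ hc1
        intro y
        exact ⟨κ₁⁻¹ * y, mul_inv_cancel_left₀ hκ₁ y⟩
      · apply mem_normalizer_of_map_eq
        rw [← hw2]
        conv_lhs => rw [hw2]
        refine map_conj_rootSubgroup D hD _ _ _ (fun t => κ₂ * t) ?_ hc2
        intro y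
        exact ⟨κ₂⁻¹ * y, mul_inv_cancel_left₀ hκ₂ y⟩
    have hBT : D.borelSubgroup F ≤ T := by
      intro b hb
      rw [hT]
      exact ⟨mem_normalizer_of_map_eq _ _ (cz2_B_conj D hD r₁ L₁ i₁ hZ₁ hC b hb),
        mem_normalizer_of_map_eq _ _ (cz2_B_conj D hD r₂ L₂ i₂ hZ₂ hC b hb)⟩
    obtain ⟨n', hn', h', hh', hm⟩ := N_decomp_of_B_le D hD hC hP T hBT _ hmN hmX
    have hfix : ∀ (r : ℕ) (hr : r < D.nroots) (hrp : D.IsPosRoot r) (i : ℕ) (hi : i < D.rank),
        nGt D hD (D.simple i) (1 : F) ∈ Subgroup.normalizer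
          (D.rootSubgroup F r : Set (GL D.Idx F)) → D.reflectRoot i r = r := by
      intro r hr hrp i hi hgT
      have hmap := map_eq_of_mem_normalizer _ _ hgT
      have hmap2 : (D.rootSubgroup F r).map
          (MulAut.conj (nGt D hD (D.simple i) 1)).toMonoidHom =
          D.rootSubgroup F (D.reflectRoot i r) := by
        refine map_conj_rootSubgroup D hD _ _ _
          (fun t => ((etaOf D i r : ℤ) : F) * t) ?_
          (fun t => nG_conj D hD i hi _ hr t)
        intro y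
        refine ⟨((etaOf D i r : ℤ) : F) * y, ?_⟩
        show ((etaOf D i r : ℤ) : F) * (((etaOf D i r : ℤ) : F) * y) = y
        rw [← mul_assoc, eta_cast_sq D hD i _ hi hr, one_mul]
      rw [hmap] at hmap2
      have hx : xG D hD r (1 : F) ∈ D.rootSubgroup F (D.reflectRoot i r) := by
        rw [← hmap2]
        exact xG_mem_rootSubgroup D hD _ _
      obtain ⟨a, ha⟩ := mem_rootSubgroup D hD _ _ hx
      exact xG_eq_xG_pos D hD _ hrp _ a ha.symm
    have hcl : Subgroup.closure {g : GL D.Idx F | ∃ i < D.rank,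
        g = nGt D hD (D.simple i) 1 ∧ g ∈ T} ≤ Q ⊓ C := by
      rw [Subgroup.closure_le]
      rintro g ⟨i, hi, rfl, hgT⟩
      rw [hT] at hgT
      have hii1 : i ≠ i₁ := by
        rintro rfl
        exact hZ₁.rne (hfix r₁ hr1 hZ₁.rpos _ hi hgT.1)
      have hii2 : i ≠ i₂ := by
        rintro rfl
        exact hZ₂.rne (hfix r₂ hr2 hZ₂.rpos _ hi hgT.2)
      have hnegL := hLc i hi hii1 hii2
      have hpos := hR.simple_pos i hi
      constructor
      · exact nGt_mem_of D hD Q _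
          (fun t => hUQ (Subgroup.subset_closure ⟨_, t, hpos, rfl⟩)) (fun t => hxL _ hnegL t) 1
      · exact nGt_mem_of D hD C _
          (fun t => hUC (Subgroup.subset_closure ⟨_, t, hpos, rfl⟩)) (fun t => hLC _ hnegL t) 1
    have hn'QC := hcl hn'
    have hh'C : h' ∈ C := by
      have : h' = n'⁻¹ * (h₁ * n) := by rw [hm]; group
      rw [this]
      exact C.mul_mem (C.inv_mem hn'QC.2) hmC
    have hh'Q : h' ∈ Q := by
      obtain ⟨c, hc, hhc⟩ := Cfsg.Agent.S1034.mem_torus D hD h' hh'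
      have hconj1 := H_conj_torus D hD h' c hc hhc _ hr1 1
      have hconj2 := H_conj_torus D hD h' c hc hhc _ hr2 1
      have hprod : xG D hD r₁ (torusChar D c r₁ * 1) * xG D hD r₂ (torusChar D c r₂ * 1) =
          xG D hD r₁ 1 * xG D hD r₂ 1 := by
        rw [← hconj1, ← hconj2]
        have : h' * xG D hD r₁ 1 * h'⁻¹ * (h' * xG D hD r₂ 1 * h'⁻¹) =
            h' * (xG D hD r₁ 1 * xG D hD r₂ 1) * h'⁻¹ := by group
        rw [this, ← hxC _ hh'C, mul_inv_cancel_right]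
      rw [pair_eq_prodL D hD r₁ r₂ hZ₁.rpos hZ₂.rpos hne _ _ (hcomm12 _ _),
        pair_eq_prodL D hD r₁ r₂ hZ₁.rpos hZ₂.rpos hne _ _ (hcomm12 _ _)] at hprod
      have hinj := prodL_inj D hD _ _ D.posRoots (posRoots_pairwise D)
        (fun r hr => (mem_posRoots D r).mp hr) hprod
      have e1 := hinj r₁ ((mem_posRoots D r₁).mpr hZ₁.rpos)
      have e2 := hinj r₂ ((mem_posRoots D r₂).mpr hZ₂.rpos)
      rw [Function.update_self, Function.update_self, mul_one] at e1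
      rw [Function.update_of_ne (Ne.symm hne), Function.update_self,
        Function.update_of_ne (Ne.symm hne), Function.update_self, mul_one] at e2
      have h4 : ∀ (r i0 : ℕ) (L0 : List ℕ) (hZ : CZ2OK D r L0 i0), torusChar D c r = c i0 := by
        intro r i0 L0 hZ
        unfold torusChar
        rw [List.prod_map_eq_pow_single i0]
        · rw [List.count_eq_one_of_mem List.nodup_range (List.mem_range.mpr hZ.i0lt), pow_one,
            hZ.c1, zpow_one]
        · intro j hj hjm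
          rw [(hZ.c0 j (List.mem_range.mp hjm) hj).1, zpow_zero]
      have hci1 : c i₁ = 1 := by rw [← h4 r₁ i₁ L₁ hZ₁, e1]
      have hci2 : c i₂ = 1 := by rw [← h4 r₂ i₂ L₂ hZ₂, e2]
      have h5 : h' = torP D hD c :=
        Units.ext (by rw [hhc, torP_val D hD c (fun i _ => hc i)])
      rw [h5]
      unfold torP
      apply Subgroup.list_prod_mem
      intro x hx
      obtain ⟨j, hj, rfl⟩ := List.mem_map.mp hx
      have hjr := List.mem_range.mp hj
      have hone : ∀ i0 : ℕ, hGt D hD (D.simple i0) (1 : F) = 1 := by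
        intro i0
        unfold hGt
        rw [nGt_neg_one, mul_inv_cancel]
      by_cases hji1 : j = i₁
      · rw [hji1, hci1, hone]
        exact Q.one_mem
      · by_cases hji2 : j = i₂
        · rw [hji2, hci2, hone]
          exact Q.one_mem
        · have hnegL := hLc j hjr hji1 hji2
          have hpos := hR.simple_pos j hjr
          exact hGt_mem_of D hD Q _
            (fun t => hUQ (Subgroup.subset_closure ⟨_, t, hpos, rfl⟩)) (fun t => hxL _ hnegL t) _
    have : u₁ * h₁ * n * u = u₁ * (h₁ * n) * u := by group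
    rw [this, hm]
    exact Q.mul_mem (Q.mul_mem (hUQ hu₁) (Q.mul_mem hn'QC.1 hh'Q)) (hUQ huU)

/-- the subgroup generated by the root elements of two roots -/
theorem closure_two (a b : ℕ) :
    Subgroup.closure {g : GL D.Idx F | ∃ s ∈ [a, b], ∃ t : F,
      (g : Matrix D.Idx D.Idx F) = D.x F s t} =
    D.rootSubgroup F a ⊔ D.rootSubgroup F b := by
  apply le_antisymm
  · rw [Subgroup.closure_le]
    rintro g ⟨s, hs, t, hg⟩
    simp only [List.mem_cons, List.not_mem_nil, or_false] at hs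
    rcases hs with rfl | rfl
    · exact Subgroup.mem_sup_left (Subgroup.subset_closure ⟨t, hg⟩)
    · exact Subgroup.mem_sup_right (Subgroup.subset_closure ⟨t, hg⟩)
  · refine sup_le ?_ ?_
    · exact Subgroup.closure_mono (fun g ⟨t, ht⟩ => ⟨a, by simp, t, ht⟩)
    · exact Subgroup.closure_mono (fun g ⟨t, ht⟩ => ⟨b, by simp, t, ht⟩)

end

/-- the long roots of `F₄` (the Weyl orbit of the highest root) -/
def f4LongOrb : List ℕ :=
  [47, 46, 45, 43, 42, 41, 32, 31, 30, 26, 25, 24, 23, 22, 21, 17, 16, 15, 6, 5, 4, 2, 1, 0]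

set_option maxRecDepth 1000000 in
set_option maxHeartbeats 0 in
theorem f4LongOrb_refl : ∀ s ∈ f4LongOrb, ∀ i < chevF4.rank,
    chevF4.reflectRoot i s ∈ f4LongOrb := by decide +kernel

/-- **centraliser of `x₄₇(1) x₄₄(1)` in `F₄`, characteristic 2** (part 1 of S2179) -/
theorem cz2_pair_F4 {F : Type*} [Field F] [CharP F 2] (w : GL chevF4.Idx F)
    (hw : (w : Matrix chevF4.Idx chevF4.Idx F) = chevF4.x F 47 1 * chevF4.x F 44 1) :
    chevF4.group F ⊓ Subgroup.centralizer {w} =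
      chevF4.posUnipotent F ⊔ chevF4.rootSubgroup F 20 ⊔ chevF4.rootSubgroup F 22 := by
  have hD : chevF4 ∈ [chevG2, chevB2, chevD4, chevF4, chevE6, chevE7, chevE8] := by simp
  rw [cz2_pair_main chevF4 hD 47 44 [14, 20, 22] [20, 22, 23] [20, 22] 3 0 f4LongOrb
    cz2OK_F4_long cz2OK_F4_short (by decide) (by decide) (by decide)
    (by decide +kernel) (by decide) (by decide) f4LongOrb_refl w hw,
    closure_two, sup_assoc]

end Cfsg.Agent.helper5.Chev
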