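import Mathlib
import Cfsg.Prelude.Def_ChevStructure
import Cfsg.Prelude.Def_ChevG2
import Cfsg.Prelude.Def_ChevB2
import Cfsg.Prelude.Def_ChevD4
import Cfsg.Prelude.Def_ChevF4
import Cfsg.Prelude.Def_ChevE6
import Cfsg.Prelude.Def_ChevE7
import Cfsg.Prelude.Def_ChevE8

set_option autoImplicit false

/-! Table check for the collection process in `U` (helper5). -/

namespace Cfsg.Agent.helper5.Chev

open Cfsg.Lie

/-- for positive roots `r < s` all terms of the commutator formula are positive roots of index `> s` -/
def collCheckR (D : ChevalleyDatum) (r : ℕ) : Bool :=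
  !decide (D.IsPosRoot r) || (List.range D.nroots).all fun s =>
    !decide (D.IsPosRoot s) || !decide (r < s) ||
      (D.commTerms r s).all fun c => decide (D.IsPosRoot c.1) && decide (s < c.1)

def collCheck (D : ChevalleyDatum) : Bool := (List.range D.nroots).all fun r => collCheckR D r

set_option maxRecDepth 1000000 in
set_option maxHeartbeats 0 in
theorem collCheck_small (D : ChevalleyDatum)
    (hD : D ∈ [chevG2, chevB2, chevD4, chevF4, chevE6]) : collCheck D = true := by
  simp only [List.mem_cons, List.not_mem_nil, or_false] at hD
  rcases hD with rfl | rfl | rfl | rfl | rfl <;> decide +kernel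

end Cfsg.Agent.helper5.Chev
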