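import Mathlib
import Cfsg.Agent.Lib_helper5_ChevCollChk

set_option autoImplicit false

namespace Cfsg.Agent.helper5.Chev

open Cfsg.Lie

set_option maxRecDepth 1000000 in
set_option maxHeartbeats 0 in
theorem collCheck_E8 : collCheck chevE8 = true := by decide +kernel

end Cfsg.Agent.helper5.Chev
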