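import Mathlib
import Cfsg.Agent.Lib_helper5_ChevCollChk
import Cfsg.Agent.Lib_helper5_ChevCollE7
import Cfsg.Agent.Lib_helper5_ChevCollE8
import Cfsg.Agent.Lib_helper5_ChevUniq2

set_option autoImplicit false
open Cfsg

/-! The collection process: every element of `U` is an ordered product (helper5). -/

namespace Cfsg.Agent.helper5.Chev

open Cfsg.Lie

theorem collCheck_of_mem (D : ChevalleyDatum)
    (hD : D ∈ [chevG2, chevB2, chevD4, chevF4, chevE6, chevE7, chevE8]) : collCheck D = true := by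
  simp only [List.mem_cons, List.not_mem_nil, or_false] at hD
  rcases hD with rfl | rfl | rfl | rfl | rfl | rfl | rfl
  · exact collCheck_small _ (by simp)
  · exact collCheck_small _ (by simp)
  · exact collCheck_small _ (by simp)
  · exact collCheck_small _ (by simp)
  · exact collCheck_small _ (by simp)
  · exact collCheck_E7
  · exact collCheck_E8

theorem coll_terms (D : ChevalleyDatum)
    (hD : D ∈ [chevG2, chevB2, chevD4, chevF4, chevE6, chevE7, chevE8]) (r s : ℕ)
    (hr : D.IsPosRoot r) (hs : D.IsPosRoot s) (hrs : r < s) :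
    ∀ c ∈ D.commTerms r s, D.IsPosRoot c.1 ∧ s < c.1 := by
  have h := collCheck_of_mem D hD
  unfold collCheck at h
  rw [List.all_eq_true] at h
  have h1 := h r (List.mem_range.mpr hr.1)
  unfold collCheckR at h1
  simp only [hr, decide_true, Bool.not_true, Bool.false_or, List.all_eq_true] at h1
  have h2 := h1 s (List.mem_range.mpr hs.1)
  simp only [hs, hrs, decide_true, Bool.not_true, Bool.false_or, List.all_eq_true,
    Bool.and_eq_true, decide_eq_true_eq] at h2
  exact h2

section
variable {F : Type*} [Field F] (D : ChevalleyDatum)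
  (hD : D ∈ [chevG2, chevB2, chevD4, chevF4, chevE6, chevE7, chevE8])

/-- the subgroup generated by the positive root subgroups of index `≥ m` -/
def Pge (m : ℕ) : Subgroup (GL D.Idx F) :=
  Subgroup.closure {g : GL D.Idx F | ∃ (r : ℕ) (t : F), D.IsPosRoot r ∧ m ≤ r ∧ g = xG D hD r t}

theorem xG_mem_Pge (m r : ℕ) (hr : D.IsPosRoot r) (hmr : m ≤ r) (t : F) :
    xG D hD r t ∈ Pge (F := F) D hD m :=
  Subgroup.subset_closure ⟨r, t, hr, hmr, rfl⟩

theorem Pge_zero : Pge (F := F) D hD 0 = D.posUnipotent F := by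
  unfold Pge ChevalleyDatum.posUnipotent
  congr 1
  ext g
  constructor
  · rintro ⟨r, t, hr, -, rfl⟩
    exact ⟨r, t, hr, xG_val D hD r t⟩
  · rintro ⟨r, t, hr, hg⟩
    exact ⟨r, t, hr, Nat.zero_le _, eq_xG D hD g r t hg⟩

theorem Pge_le_succ_of_not_pos (m : ℕ) (hm : ¬ D.IsPosRoot m) :
    Pge (F := F) D hD m ≤ Pge D hD (m + 1) := by
  unfold Pge
  apply Subgroup.closure_mono
  rintro g ⟨r, t, hr, hmr, rfl⟩
  refine ⟨r, t, hr, ?_, rfl⟩
  rcases Nat.lt_or_ge m r with h | h
  · exact h
  · have : r = m := le_antisymm h hmr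
    rw [this] at hr
    exact absurd hr hm

theorem cwG_mem_Pge (m r s : ℕ) (t u : F)
    (h : ∀ c ∈ D.commTerms r s, D.IsPosRoot c.1 ∧ m ≤ c.1) :
    cwG D hD r s t u ∈ Pge (F := F) D hD m := by
  unfold cwG
  apply Subgroup.list_prod_mem
  intro g hg
  rw [List.mem_map] at hg
  obtain ⟨c, hc, rfl⟩ := hg
  exact xG_mem_Pge D hD m c.1 (h c hc).1 (h c hc).2 _

/-- `x_m(t)` normalises `P_{m+1}` -/
theorem xG_mem_normalizer_Pge (hC : CommOK D) (m : ℕ) (hm : D.IsPosRoot m) (t : F) :
    xG D hD m t ∈ Subgroup.normalizer (Pge (F := F) D hD (m + 1) : Set (GL D.Idx F)) := by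
  have hR := rootsOK_of_mem D hD
  have key : ∀ t : F, ∀ g ∈ {g : GL D.Idx F | ∃ (r : ℕ) (t : F), D.IsPosRoot r ∧ m + 1 ≤ r ∧
      g = xG D hD r t}, xG D hD m t * g * (xG D hD m t)⁻¹ ∈ Pge (F := F) D hD (m + 1) := by
    rintro t g ⟨s, u, hs, hms, rfl⟩
    have hsm : s ≠ m := by omega
    have hsn : s ≠ D.neg m := by
      intro h'
      rw [h'] at hs
      exact hR.not_pos_and_neg _ hs (hR.neg_pos _ hm)
    have h1 := commF_of_ok (F := F) D hD hC m hm.1 s hs.1 hsm hsn (-t) u
    have e : xG D hD m t * xG D hD s u * (xG D hD m t)⁻¹ =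
        xG D hD s u * cwG D hD m s (-t) u := by
      rw [xG_inv, mul_assoc, h1, ← mul_assoc, ← mul_assoc, xG_mul, add_neg_cancel, xG_zero,
        one_mul]
    rw [e]
    apply Subgroup.mul_mem _ (xG_mem_Pge D hD _ s hs hms u)
    apply cwG_mem_Pge
    intro c hc
    have := coll_terms D hD m s hm hs (by omega) c hc
    exact ⟨this.1, by omega⟩
  unfold Pge
  apply mem_normalizer_closure
  · exact key t
  · intro g hg
    have := key (-t) g hg
    rwa [← xG_inv, inv_inv] at this

/-- `P_m = X_m P_{m+1}` elementwise -/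
theorem mem_Pge_decomp (hC : CommOK D) (m : ℕ) (hm : D.IsPosRoot m) (g : GL D.Idx F)
    (hg : g ∈ Pge (F := F) D hD m) :
    ∃ c : F, ∃ p ∈ Pge (F := F) D hD (m + 1), g = xG D hD m c * p := by
  have hnorm := xG_mem_normalizer_Pge (F := F) D hD hC m hm
  let S : Subgroup (GL D.Idx F) :=
    { carrier := {g | ∃ c : F, ∃ p ∈ Pge (F := F) D hD (m + 1), g = xG D hD m c * p}
      mul_mem' := by
        rintro _ _ ⟨c1, p1, hp1, rfl⟩ ⟨c2, p2, hp2, rfl⟩
        refine ⟨c1 + c2, (xG D hD m c2)⁻¹ * p1 * (xG D hD m c2)⁻¹⁻¹ * p2, ?_, ?_⟩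
        · apply Subgroup.mul_mem _ _ hp2
          have h1 := hnorm (-c2)
          rw [← xG_inv] at h1
          exact (Subgroup.mem_normalizer_iff.mp h1 p1).mp hp1
        · rw [← xG_mul]
          group
      one_mem' := ⟨0, 1, Subgroup.one_mem _, by rw [xG_zero, one_mul]⟩
      inv_mem' := by
        rintro _ ⟨c1, p1, hp1, rfl⟩
        refine ⟨-c1, xG D hD m c1 * p1⁻¹ * (xG D hD m c1)⁻¹, ?_, ?_⟩
        · exact (Subgroup.mem_normalizer_iff.mp (hnorm c1) p1⁻¹).mp (Subgroup.inv_mem _ hp1)
        · rw [mul_inv_rev, ← xG_inv]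
          group }
  have hle : Pge (F := F) D hD m ≤ S := by
    unfold Pge
    rw [Subgroup.closure_le]
    rintro g ⟨r, t, hr, hmr, rfl⟩
    by_cases hrm : r = m
    · exact ⟨t, 1, Subgroup.one_mem _, by rw [hrm, mul_one]⟩
    · exact ⟨0, xG D hD r t, xG_mem_Pge D hD _ r hr (by omega) t, by rw [xG_zero, one_mul]⟩
  exact hle hg

/-- every element of `P_m` is an ordered product over the positive roots of index `≥ m` -/
theorem exists_prodL (hC : CommOK D) : ∀ k m : ℕ, m + k = D.nroots → ∀ g ∈ Pge (F := F) D hD m,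
    ∃ t : ℕ → F, (∀ r, ¬ D.IsPosRoot r → t r = 0) ∧
      g = prodL D hD t ((List.range' m k).filter fun r => decide (D.IsPosRoot r)) := by
  intro k
  induction k with
  | zero =>
    intro m hm g hg
    refine ⟨fun _ => 0, fun _ _ => rfl, ?_⟩
    have : Pge (F := F) D hD m = ⊥ := by
      unfold Pge
      rw [Subgroup.closure_eq_bot_iff]
      rintro g ⟨r, t, hr, hmr, rfl⟩
      have := hr.1
      omega
    rw [this, Subgroup.mem_bot] at hg
    rw [hg]
    simp [prodL]
  | succ k ih =>
    intro m hm g hg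
    rw [List.range'_succ]
    by_cases hpos : D.IsPosRoot m
    · obtain ⟨c, p, hp, rfl⟩ := mem_Pge_decomp D hD hC m hpos g hg
      obtain ⟨t, ht0, rfl⟩ := ih (m + 1) (by omega) p hp
      refine ⟨Function.update t m c, ?_, ?_⟩
      · intro r hr
        have : r ≠ m := fun h => hr (h ▸ hpos)
        rw [Function.update_of_ne this]
        exact ht0 r hr
      · rw [List.filter_cons_of_pos (by simpa using hpos), prodL_cons, Function.update_self]
        congr 1
        apply prodL_congr
        intro r hr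
        rw [List.mem_filter, List.mem_range'_1] at hr
        have : r ≠ m := by omega
        rw [Function.update_of_ne this]
    · rw [List.filter_cons_of_neg (by simpa using hpos)]
      exact ih (m + 1) (by omega) g (Pge_le_succ_of_not_pos D hD m hpos hg)

/-- **every element of `U` is an ordered product over the positive roots** -/
theorem exists_prodL_U (hC : CommOK D) (g : GL D.Idx F) (hg : g ∈ D.posUnipotent F) :
    ∃ t : ℕ → F, (∀ r, ¬ D.IsPosRoot r → t r = 0) ∧ g = prodL D hD t D.posRoots := by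
  rw [← Pge_zero D hD] at hg
  obtain ⟨t, ht, e⟩ := exists_prodL D hD hC D.nroots 0 (by omega) g hg
  refine ⟨t, ht, ?_⟩
  rw [e]
  unfold ChevalleyDatum.posRoots
  rw [List.range_eq_range']

end

end Cfsg.Agent.helper5.Chev
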