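import Mathlib
import Cfsg.Agent.Lib_helper5_ChevCZ
import Cfsg.Agent.Lib_helper5_ChevColl

set_option autoImplicit false

/-! Base change of Chevalley groups along a field homomorphism and the fixed points of a field
automorphism, for the types with unimodular Cartan matrix (helper5). -/

namespace Cfsg.Agent.helper5.Chev

open Cfsg.Lie

theorem zpow_finset_sum_eq {G : Type*} [CommGroup G] {ι : Type*} (u : G) (s : Finset ι)
    (m : ι → ℤ) : u ^ (∑ j ∈ s, m j) = ∏ j ∈ s, u ^ m j := by
  classical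
  induction s using Finset.induction_on with
  | empty => simp
  | insert a s ha ih => rw [Finset.sum_insert ha, Finset.prod_insert ha, zpow_add, ih]

/-- cancellation with a unimodular integer matrix -/
theorem unimod_cancel {G : Type*} [CommGroup G] (n : ℕ) (A B : ℕ → ℕ → ℤ)
    (hAB : ∀ i < n, ∀ k < n, ∑ j ∈ Finset.range n, A i j * B j k = if i = k then 1 else 0)
    (w : ℕ → G) (h : ∀ j < n, ∏ i ∈ Finset.range n, w i ^ A i j = 1) :
    ∀ k < n, w k = 1 := by
  intro k hk
  have h1 : w k = ∏ i ∈ Finset.range n, w i ^ (if i = k then (1 : ℤ) else 0) := by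
    rw [Finset.prod_eq_single k]
    · rw [if_pos rfl, zpow_one]
    · intro i _ hik
      rw [if_neg hik, zpow_zero]
    · intro hk'
      exact absurd (Finset.mem_range.mpr hk) hk'
  rw [h1]
  have h2 : ∀ i ∈ Finset.range n, w i ^ (if i = k then (1 : ℤ) else 0) =
      ∏ j ∈ Finset.range n, (w i ^ A i j) ^ B j k := by
    intro i hi
    rw [← hAB i (Finset.mem_range.mp hi) k hk, zpow_finset_sum_eq]
    apply Finset.prod_congr rfl
    intro j _
    rw [zpow_mul]
  rw [Finset.prod_congr rfl h2, Finset.prod_comm]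
  apply Finset.prod_eq_one
  intro j hj
  rw [Finset.prod_zpow, h j (Finset.mem_range.mp hj), one_zpow]

/-- the fixed field of a field automorphism of prime order, as a field in `Type` -/
theorem exists_fixed_field {F : Type*} [Field F] [Fintype F] (σ : F ≃+* F) (r : ℕ)
    (ho : orderOf σ = r) :
    ∃ (F₀ : Type) (_ : Field F₀) (_ : Fintype F₀) (ι : F₀ →+* F),
      Fintype.card F = Fintype.card F₀ ^ r ∧ ∀ x : F, σ x = x ↔ x ∈ Set.range ι := by
  classical
  have : Finite (RingAut F) :=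
    Finite.of_injective (fun e : F ≃+* F => (e : F → F)) DFunLike.coe_injective
  let G : Subgroup (RingAut F) := Subgroup.zpowers (σ : RingAut F)
  letI : Fintype G := Fintype.ofFinite G
  have hcardG : Fintype.card G = r := by
    rw [← ho, Fintype.card_eq_nat_card]
    exact Nat.card_zpowers σ
  let K₀ : Subfield F := FixedPoints.subfield G F
  have hK₀ : ∀ x : F, x ∈ K₀ ↔ σ x = x := by
    intro x
    constructor
    · intro hx
      exact hx ⟨σ, Subgroup.mem_zpowers _⟩
    · intro hx g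
      obtain ⟨g, hg⟩ := g
      have hs : (σ : RingAut F) ∈ MulAction.stabilizer (RingAut F) x := hx
      exact (Subgroup.zpowers_le.mpr hs) hg
  have hrank : Module.finrank K₀ F = r := by
    rw [← hcardG]
    exact FixedPoints.finrank_eq_card G F
  letI : Fintype K₀ := Fintype.ofFinite K₀
  have hcard : Fintype.card F = Fintype.card K₀ ^ r := by
    rw [← hrank]
    exact Module.card_eq_pow_finrank
  obtain ⟨p, hp⟩ := CharP.exists K₀
  obtain ⟨n, hpp, hn⟩ := FiniteField.card K₀ p
  haveI : Fact p.Prime := ⟨hpp⟩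
  letI : Fintype (GaloisField p n) := Fintype.ofFinite _
  have hcg : Fintype.card (GaloisField p n) = Fintype.card K₀ := by
    rw [hn, Fintype.card_eq_nat_card, GaloisField.card p n n.ne_zero]
  let e : GaloisField p n ≃+* K₀ := FiniteField.ringEquivOfCardEq hcg
  refine ⟨GaloisField p n, inferInstance, inferInstance, K₀.subtype.comp e.toRingHom, ?_, ?_⟩
  · rw [hcard, hcg]
  · intro x
    rw [← hK₀]
    constructor
    · intro hx
      exact ⟨e.symm ⟨x, hx⟩, by simp⟩
    · rintro ⟨y, rfl⟩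
      exact (e y).2

theorem xMat_bc {F₀ F : Type*} [Field F₀] [Field F] (D : ChevalleyDatum) (ι : F₀ →+* F)
    (r : Fin D.nroots) (t : F₀) : (D.xMat F₀ r t).map ι = D.xMat F r (ι t) := by
  ext row col
  rw [Matrix.map_apply]
  unfold ChevalleyDatum.xMat
  simp only [Matrix.of_apply]
  rcases col with i | s
  · rcases row with i' | u
    · simp only []
      split_ifs <;> simp
    · simp only []
      split_ifs <;> simp
  · rcases row with i' | u
    · simp only []
      split_ifs <;> simp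
    · simp only []
      split_ifs <;> simp [map_list_sum, List.map_map, Function.comp_def]

section
variable {F₀ F : Type*} [Field F₀] [Field F] (D : ChevalleyDatum)
  (hD : D ∈ [chevG2, chevB2, chevD4, chevF4, chevE6, chevE7, chevE8]) (ι : F₀ →+* F)

theorem x_map (r : ℕ) (t : F₀) : (D.x F₀ r t).map ι = D.x F r (ι t) := by
  unfold ChevalleyDatum.x
  split_ifs with h
  · exact xMat_bc D ι ⟨r, h⟩ t
  · exact Matrix.map_one ι (map_zero ι) (map_one ι)

/-- base change of matrices -/
def bc : GL D.Idx F₀ →* GL D.Idx F := Matrix.GeneralLinearGroup.map ι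

theorem bc_val (g : GL D.Idx F₀) :
    ((bc D ι g : GL D.Idx F) : Matrix D.Idx D.Idx F) = (g : Matrix D.Idx D.Idx F₀).map ι := rfl

theorem bc_xG (r : ℕ) (t : F₀) : bc D ι (xG D hD r t) = xG D hD r (ι t) := by
  apply Units.ext
  rw [bc_val, xG_val, xG_val, x_map]

theorem bc_nGt (r : ℕ) (t : F₀) : bc D ι (nGt D hD r t) = nGt D hD r (ι t) := by
  unfold nGt
  rw [map_mul, map_mul, bc_xG, bc_xG, map_neg, map_inv₀]

theorem bc_hGt (r : ℕ) (t : F₀) : bc D ι (hGt D hD r t) = hGt D hD r (ι t) := by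
  unfold hGt
  rw [map_mul, bc_nGt, bc_nGt, map_neg, map_one]

theorem bc_nW (w : List ℕ) : bc D ι (nW D hD w) = nW D hD w := by
  unfold nW
  rw [map_list_prod, List.map_map]
  congr 1
  apply List.map_congr_left
  intro i _
  rw [Function.comp_apply, bc_nGt, map_one]

theorem bc_torP (c : ℕ → F₀) : bc D ι (torP D hD c) = torP D hD (fun i => ι (c i)) := by
  unfold torP
  rw [map_list_prod, List.map_map]
  congr 1
  apply List.map_congr_left
  intro i _
  rw [Function.comp_apply, bc_hGt]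

theorem bc_prodL (t : ℕ → F₀) (l : List ℕ) :
    bc D ι (prodL D hD t l) = prodL D hD (fun r => ι (t r)) l := by
  unfold prodL
  rw [map_list_prod, List.map_map]
  congr 1
  apply List.map_congr_left
  intro r _
  rw [Function.comp_apply, bc_xG]

theorem bc_injective : Function.Injective (bc D ι) := by
  intro g g' h
  apply Units.ext
  ext i j
  have h1 := congrArg (fun m : GL D.Idx F => (m : Matrix D.Idx D.Idx F) i j) h
  simp only [bc_val, Matrix.map_apply] at h1
  exact ι.injective h1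

include hD in
theorem bc_U (u : GL D.Idx F₀) (hu : u ∈ D.posUnipotent F₀) : bc D ι u ∈ D.posUnipotent F := by
  have hle : D.posUnipotent F₀ ≤ (D.posUnipotent F).comap (bc D ι) := by
    unfold ChevalleyDatum.posUnipotent
    rw [Subgroup.closure_le]
    rintro g ⟨r, t, hr, hg⟩
    rw [SetLike.mem_coe, Subgroup.mem_comap, eq_xG D hD g r t hg, bc_xG]
    exact Subgroup.subset_closure ⟨r, ι t, hr, rfl⟩
  exact hle hu

include hD in
theorem bc_H (h : GL D.Idx F₀) (hh : h ∈ D.diagonalSubgroup F₀) :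
    bc D ι h ∈ D.diagonalSubgroup F := by
  have hle : D.diagonalSubgroup F₀ ≤ (D.diagonalSubgroup F).comap (bc D ι) := by
    unfold ChevalleyDatum.diagonalSubgroup
    rw [Subgroup.closure_le]
    rintro g ⟨r, t, hr, ht, hg⟩
    have e : g = hGt D hD r t := Units.ext (by rw [hg, hGt_val])
    rw [SetLike.mem_coe, Subgroup.mem_comap, e, bc_hGt]
    exact hGt_mem D hD r hr (ι t) ((map_ne_zero ι).mpr ht)
  exact hle hh

include hD in
theorem bc_B (b : GL D.Idx F₀) (hb : b ∈ D.borelSubgroup F₀) : bc D ι b ∈ D.borelSubgroup F := by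
  obtain ⟨u, hu, h, hh, rfl⟩ := mem_borel D hD b hb
  rw [map_mul]
  exact Subgroup.mul_mem _ (U_le_B D hD (bc_U D hD ι u hu)) (H_le_B D hD (bc_H D hD ι h hh))

include hD in
theorem bc_G (g : GL D.Idx F₀) (hg : g ∈ D.group F₀) : bc D ι g ∈ D.group F := by
  have hle : D.group F₀ ≤ (D.group F).comap (bc D ι) := by
    unfold ChevalleyDatum.group
    rw [Subgroup.closure_le]
    rintro g ⟨r, t, hg⟩
    rw [SetLike.mem_coe, Subgroup.mem_comap]
    apply Subgroup.subset_closure
    refine ⟨r, ι t, ?_⟩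
    rw [bc_val, hg, xMat_bc]
  exact hle hg

end

section
variable {F : Type*} [Field F] (D : ChevalleyDatum)
  (hD : D ∈ [chevG2, chevB2, chevD4, chevF4, chevE6, chevE7, chevE8])

include hD in
/-- the Bruhat normal form with an explicit Weyl word -/
theorem exists_form_w (hC : CommOK D) (hP : PosCommOK D) (g : GL D.Idx F) (hg : g ∈ D.group F) :
    ∃ b ∈ D.borelSubgroup F, ∃ w : List ℕ, (∀ i ∈ w, i < D.rank) ∧
      ∃ u ∈ UnegOf D (nW (F := F) D hD w), g = b * nW D hD w * u := by
  have hNH := N_le_normalizer_H (F := F) D hD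
  obtain ⟨hB, hN, hsup⟩ := Cfsg.Agent.S1043.result (F := F) D hD
  obtain ⟨P, hPB, hPN, -⟩ := chev_bnpair D hD hC hP (D.group F) hB hN hsup
  obtain ⟨n, hn, hmem⟩ := Cfsg.Agent.S0308.result P ⟨g, hg⟩
  obtain ⟨x, hx, y, hy, e⟩ := DoubleCoset.mem_doubleCoset.mp hmem
  rw [SetLike.mem_coe, hPB, Subgroup.mem_subgroupOf] at hx hy
  rw [hPN, Subgroup.mem_subgroupOf] at hn
  have e' : g = (x : GL D.Idx F) * n * y := by
    have := congrArg Subtype.val e
    simpa using this
  obtain ⟨h, hh, w, hw, hnw⟩ := mem_N_decomp D hD _ hn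
  obtain ⟨u₂, hu₂, h₂, hh₂, ey⟩ := mem_borel D hD _ (Subgroup.inv_mem _ hy)
  have ey' : (y : GL D.Idx F) = h₂⁻¹ * u₂⁻¹ := by
    rw [← inv_inv (y : GL D.Idx F), ey, mul_inv_rev]
  obtain ⟨b, hb, u', hu', e2⟩ := bruhat_word D hD hC hP _ w rfl hw u₂⁻¹ (Subgroup.inv_mem _ hu₂)
  have hh3 : nW D hD w * h₂⁻¹ * (nW D hD w)⁻¹ ∈ D.diagonalSubgroup F :=
    (Subgroup.mem_normalizer_iff.mp (hNH (nW_mem D hD w hw)) _).mp (Subgroup.inv_mem _ hh₂)
  refine ⟨(x : GL D.Idx F) * h * (nW D hD w * h₂⁻¹ * (nW D hD w)⁻¹) * b, ?_, w, hw, u',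
    Uneg_le_UnegOf D hD w hw hu', ?_⟩
  · exact Subgroup.mul_mem _ (Subgroup.mul_mem _ (Subgroup.mul_mem _ hx (H_le_B D hD hh))
      (H_le_B D hD hh3)) hb
  · rw [e', hnw, ey']
    have e3 : (x : GL D.Idx F) * (h * nW D hD w) * (h₂⁻¹ * u₂⁻¹) =
        (x : GL D.Idx F) * h * (nW D hD w * h₂⁻¹ * (nW D hD w)⁻¹) * (nW D hD w * u₂⁻¹) := by group
    rw [e3, e2]
    group

include hD in
theorem bc_UnegOf (σ : F →+* F) (n u : GL D.Idx F) (hu : u ∈ UnegOf D n) :
    bc D σ u ∈ UnegOf D n := by
  have hle : UnegOf D n ≤ (UnegOf D n).comap (bc D σ) := by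
    unfold UnegOf
    rw [Subgroup.closure_le]
    rintro g ⟨r, t, hr, hle, hg⟩
    rw [SetLike.mem_coe, Subgroup.mem_comap, eq_xG D hD g r t hg, bc_xG]
    exact Subgroup.subset_closure ⟨r, σ t, hr, hle, rfl⟩
  exact hle hu

end

/-- the Cartan matrix is unimodular, with inverse `tab` -/
def unimodChk (D : ChevalleyDatum) (tab : List (List ℤ)) : Bool :=
  (List.range D.rank).all fun i => (List.range D.rank).all fun k =>
    ((List.range D.rank).map fun j => D.cartan i (D.simple j) * (tab.getD j []).getD k 0).sum ==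
      (if i = k then 1 else 0)

theorem unimod_of_chk (D : ChevalleyDatum) (tab : List (List ℤ)) (h : unimodChk D tab = true) :
    ∀ i < D.rank, ∀ k < D.rank, ∑ j ∈ Finset.range D.rank,
      D.cartan i (D.simple j) * (tab.getD j []).getD k 0 = if i = k then 1 else 0 := by
  intro i hi k hk
  unfold unimodChk at h
  simp only [List.all_eq_true, List.mem_range, beq_iff_eq] at h
  rw [← h i hi k hk, ← List.sum_toFinset _ List.nodup_range, List.toFinset_range]

theorem unimod_G2 : unimodChk chevG2 [[2, 3], [1, 2]] = true := by decide +kernel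

theorem unimod_F4 :
    unimodChk chevF4 [[2, 3, 4, 2], [3, 6, 8, 4], [2, 4, 6, 3], [1, 2, 3, 2]] = true := by
  decide +kernel

theorem unimod_E8 : unimodChk chevE8 [[4, 5, 7, 10, 8, 6, 4, 2], [5, 8, 10, 15, 12, 9, 6, 3],
    [7, 10, 14, 20, 16, 12, 8, 4], [10, 15, 20, 30, 24, 18, 12, 6], [8, 12, 16, 24, 20, 15, 10, 5],
    [6, 9, 12, 18, 15, 12, 8, 4], [4, 6, 8, 12, 10, 8, 6, 3], [2, 3, 4, 6, 5, 4, 3, 2]] = true := by
  decide +kernel

end Cfsg.Agent.helper5.Chev
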