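import Mathlib
import Cfsg.Agent.Lib_helper5_ChevFld

set_option autoImplicit false

/-! Fixed points of field automorphisms of Chevalley groups with unimodular Cartan matrix
(helper5). -/

namespace Cfsg.Agent.helper5.Chev

open Cfsg.Lie

section
variable {F : Type*} [Field F] (D : ChevalleyDatum)
  (hD : D ∈ [chevG2, chevB2, chevD4, chevF4, chevE6, chevE7, chevE8])

theorem torusChar_eq_finprod (c : ℕ → F) (s : ℕ) :
    torusChar D c s = ∏ i ∈ Finset.range D.rank, c i ^ D.cartan i s := by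
  unfold torusChar
  rw [← List.prod_toFinset _ List.nodup_range, List.toFinset_range]

include hD in
/-- the parametrisation of the torus is injective when the Cartan matrix is unimodular -/
theorem torP_inj_unimod (tab : List (List ℤ)) (hU : unimodChk D tab = true) (c c' : ℕ → F)
    (hc : ∀ i, c i ≠ 0) (hc' : ∀ i, c' i ≠ 0) (h : torP D hD c = torP D hD c') :
    ∀ k < D.rank, c k = c' k := by
  have hR := rootsOK_of_mem D hD
  have h1 : torusMat D c = torusMat D c' := by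
    rw [← torP_val D hD c (fun i _ => hc i), ← torP_val D hD c' (fun i _ => hc' i), h]
  have h2 : ∀ s : Fin D.nroots, torusChar D c s = torusChar D c' s := by
    intro s
    unfold torusMat at h1
    have := congrFun (Matrix.diagonal_injective h1) (Sum.inr s)
    simpa using this
  have h3 : ∀ j < D.rank, ∏ i ∈ Finset.range D.rank,
      (Units.mk0 (c i) (hc i) / Units.mk0 (c' i) (hc' i)) ^ D.cartan i (D.simple j) = 1 := by
    intro j hj
    apply Units.ext
    have h4 := h2 ⟨D.simple j, hR.simple_lt j hj⟩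
    rw [torusChar_eq_finprod, torusChar_eq_finprod] at h4
    simp only [Units.val_one, Units.coe_prod, Units.val_zpow_eq_zpow_val, Units.val_div_eq_div_val,
      Units.val_mk0]
    rw [Finset.prod_congr rfl (fun i _ => div_zpow (c i) (c' i) _), Finset.prod_div_distrib, h4]
    apply div_self
    rw [Finset.prod_ne_zero_iff]
    intro i _
    exact zpow_ne_zero _ (hc' i)
  intro k hk
  have h5 := unimod_cancel D.rank (fun i j => D.cartan i (D.simple j))
    (fun j k => (tab.getD j []).getD k 0) (unimod_of_chk D tab hU)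
    (fun i => Units.mk0 (c i) (hc i) / Units.mk0 (c' i) (hc' i)) h3 k hk
  rw [div_eq_one] at h5
  exact congrArg Units.val h5

end

section
variable {F₀ F : Type*} [Field F₀] [Field F] (D : ChevalleyDatum)
  (hD : D ∈ [chevG2, chevB2, chevD4, chevF4, chevE6, chevE7, chevE8])

include hD in
/-- a fixed element of `U` comes from the fixed field -/
theorem fixedU (hC : CommOK D) (σ : F ≃+* F) (ι : F₀ →+* F)
    (hfix : ∀ x : F, σ x = x ↔ x ∈ Set.range ι) (u : GL D.Idx F) (hu : u ∈ D.posUnipotent F)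
    (hσ : bc D (σ : F →+* F) u = u) : ∃ u₀ ∈ D.posUnipotent F₀, bc D ι u₀ = u := by
  obtain ⟨t, -, rfl⟩ := exists_prodL_U D hD hC u hu
  rw [bc_prodL] at hσ
  have h1 := prodL_inj D hD _ _ D.posRoots (posRoots_pairwise D)
    (fun r hr => (mem_posRoots D r).mp hr) hσ
  have h2 : ∀ r : ℕ, ∃ y : F₀, r ∈ D.posRoots → ι y = t r := by
    intro r
    by_cases hr : r ∈ D.posRoots
    · obtain ⟨y, hy⟩ := (hfix (t r)).mp (h1 r hr)
      exact ⟨y, fun _ => hy⟩
    · exact ⟨0, fun h => absurd h hr⟩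
  choose t₀ ht₀ using h2
  refine ⟨prodL D hD t₀ D.posRoots, prodL_mem_U D hD t₀ _ (fun r hr => (mem_posRoots D r).mp hr), ?_⟩
  rw [bc_prodL]
  exact prodL_congr D hD _ _ _ (fun r hr => ht₀ r hr)

include hD in
/-- a fixed element of `H` comes from the fixed field -/
theorem fixedH (tab : List (List ℤ)) (hU : unimodChk D tab = true) (σ : F ≃+* F) (ι : F₀ →+* F)
    (hfix : ∀ x : F, σ x = x ↔ x ∈ Set.range ι) (h : GL D.Idx F) (hh : h ∈ D.diagonalSubgroup F)
    (hσ : bc D (σ : F →+* F) h = h) : ∃ h₀ ∈ D.diagonalSubgroup F₀, bc D ι h₀ = h := by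
  obtain ⟨c, hc, hhc⟩ := Cfsg.Agent.S1034.mem_torus D hD h hh
  have e : h = torP D hD c := Units.ext (by rw [hhc, torP_val D hD c (fun i _ => hc i)])
  rw [e, bc_torP] at hσ
  have h1 := torP_inj_unimod D hD tab hU _ _ (fun i => (map_ne_zero _).mpr (hc i)) hc hσ
  have h2 : ∀ i : ℕ, ∃ y : F₀, y ≠ 0 ∧ (i < D.rank → ι y = c i) := by
    intro i
    by_cases hi : i < D.rank
    · obtain ⟨y, hy⟩ := (hfix (c i)).mp (h1 i hi)
      refine ⟨y, ?_, fun _ => hy⟩
      intro h0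
      rw [h0, map_zero] at hy
      exact hc i hy.symm
    · exact ⟨1, one_ne_zero, fun h => absurd h hi⟩
  choose c₀ hc₀ using h2
  refine ⟨torP D hD c₀, torP_mem D hD c₀ (fun i _ => (hc₀ i).1), ?_⟩
  rw [bc_torP, e]
  exact torP_ext D hD _ _ (fun i hi => (hc₀ i).2 hi)

include hD in
/-- **the fixed points of a field automorphism are the points over the fixed field** -/
theorem fixed_mem_image (tab : List (List ℤ)) (hU : unimodChk D tab = true) (σ : F ≃+* F)
    (ι : F₀ →+* F) (hfix : ∀ x : F, σ x = x ↔ x ∈ Set.range ι) (g : GL D.Idx F)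
    (hg : g ∈ D.group F) (hσ : bc D (σ : F →+* F) g = g) :
    ∃ g₀ ∈ D.group F₀, bc D ι g₀ = g := by
  have hC := commOK_of_mem D hD
  have hP := posCommOK_of_mem D hD
  obtain ⟨hBG, hNG, -⟩ := Cfsg.Agent.S1043.result (F := F₀) D hD
  obtain ⟨b, hb, w, hw, u, hu, rfl⟩ := exists_form_w D hD hC hP g hg
  rw [map_mul, map_mul, bc_nW] at hσ
  obtain ⟨-, huniq⟩ := unique_form D hD hC hP _ _ _ _ _ _ (bc_B D hD _ b hb) hb
    (nW_mem D hD w hw) (nW_mem D hD w hw) (bc_UnegOf D hD _ _ u hu) hu hσ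
  obtain ⟨hb2, hu2⟩ := huniq rfl
  obtain ⟨u₁, hu₁, h, hh, rfl⟩ := mem_borel D hD b hb
  rw [map_mul] at hb2
  have h3 : u₁⁻¹ * bc D (σ : F →+* F) u₁ = h * (bc D (σ : F →+* F) h)⁻¹ := by
    rw [inv_mul_eq_iff_eq_mul, ← mul_assoc, eq_mul_inv_iff_mul_eq]
    exact hb2
  have h4 : u₁⁻¹ * bc D (σ : F →+* F) u₁ ∈ D.posUnipotent F ⊓ D.diagonalSubgroup F := by
    refine ⟨Subgroup.mul_mem _ (Subgroup.inv_mem _ hu₁) (bc_U D hD _ u₁ hu₁), ?_⟩
    rw [h3]
    exact Subgroup.mul_mem _ hh (Subgroup.inv_mem _ (bc_H D hD _ h hh))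
  rw [(Cfsg.Agent.S1036.result (F := F) D hD).2, Subgroup.mem_bot] at h4
  have hu₁σ : bc D (σ : F →+* F) u₁ = u₁ := (inv_mul_eq_one.mp h4).symm
  have hhσ : bc D (σ : F →+* F) h = h := by
    rw [h4] at h3
    exact (mul_inv_eq_one.mp h3.symm).symm
  obtain ⟨u₁₀, hu₁₀, e1⟩ := fixedU D hD hC σ ι hfix u₁ hu₁ hu₁σ
  obtain ⟨h₀, hh₀, e2⟩ := fixedH D hD tab hU σ ι hfix h hh hhσ
  obtain ⟨u₀, hu₀, e3⟩ := fixedU D hD hC σ ι hfix u (UnegOf_le_U D _ hu) hu2
  refine ⟨u₁₀ * h₀ * nW D hD w * u₀, ?_, ?_⟩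
  · exact Subgroup.mul_mem _ (Subgroup.mul_mem _ (Subgroup.mul_mem _
      (hBG (U_le_B D hD hu₁₀)) (hBG (H_le_B D hD hh₀))) (hNG (nW_mem D hD w hw)))
      (hBG (U_le_B D hD hu₀))
  · rw [map_mul, map_mul, map_mul, e1, e2, e3, bc_nW]

end

end Cfsg.Agent.helper5.Chev
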