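import Mathlib
import Cfsg.Agent.Lib_helper5_ChevFld2
import Cfsg.Prelude.Def_ChevAutomorphisms

set_option autoImplicit false

/-! Fixed points of field automorphisms of prime order of `G₂`, `F₄`, `E₈` (helper5). -/

namespace Cfsg.Agent.helper5.Chev

open Cfsg.Lie

section
variable {F : Type*} [Field F] (D : ChevalleyDatum)
  (hD : D ∈ [chevG2, chevB2, chevD4, chevF4, chevE6, chevE7, chevE8])

include hD in
/-- a field automorphism of the group is entrywise application of the field automorphism -/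
theorem fieldAut_eq_bc (φ : ↥(D.group F) ≃* ↥(D.group F)) (σ : F ≃+* F)
    (hφ : ∀ (g : ↥(D.group F)) (r : ℕ) (t : F), r < D.nroots →
      ((g : GL D.Idx F) : Matrix D.Idx D.Idx F) = D.x F r t →
        ((φ g : GL D.Idx F) : Matrix D.Idx D.Idx F) = D.x F r (σ t)) :
    ∀ g : ↥(D.group F), ((φ g : ↥(D.group F)) : GL D.Idx F) =
      bc D (σ : F →+* F) (g : GL D.Idx F) := by
  have hdense : Subgroup.closure ((Subtype.val : ↥(D.group F) → GL D.Idx F) ⁻¹'
      {g : GL D.Idx F | ∃ (r : Fin D.nroots) (t : F),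
        (g : Matrix D.Idx D.Idx F) = D.xMat F r t}) = ⊤ :=
    Subgroup.closure_closure_coe_preimage
  have hEq : (D.group F).subtype.comp φ.toMonoidHom =
      (bc D (σ : F →+* F)).comp (D.group F).subtype := by
    apply MonoidHom.eq_of_eqOn_dense hdense
    rintro ⟨x, hx⟩ ⟨r, t, hxr⟩
    have hxr' : (x : Matrix D.Idx D.Idx F) = D.x F r.val t := by
      rw [hxr, x_eq_xMat D r.val r.isLt]
    show ((φ ⟨x, hx⟩ : ↥(D.group F)) : GL D.Idx F) = bc D (σ : F →+* F) x
    apply Units.ext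
    rw [hφ ⟨x, hx⟩ r.val t r.isLt hxr', eq_xG D hD x r.val t hxr', bc_xG, xG_val]
    rfl
  intro g
  exact DFunLike.congr_fun hEq g

end

section
variable {F : Type*} [Field F] [Fintype F] (D : ChevalleyDatum)
  (hD : D ∈ [chevG2, chevB2, chevD4, chevF4, chevE6, chevE7, chevE8])

include hD in
/-- **fixed points of a field automorphism of prime order**, unimodular Cartan matrix -/
theorem fld_main (hrk : 0 < D.rank) (tab : List (List ℤ)) (hU : unimodChk D tab = true)
    (φ : MulAut ↥(D.group F)) (hφ : D.IsFieldAut φ) (r : ℕ) (hr : r.Prime) (ho : orderOf φ = r) :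
    ∃ (F₀ : Type) (_ : Field F₀) (_ : Fintype F₀), Fintype.card F = Fintype.card F₀ ^ r ∧
      Nonempty (↥((MulEquiv.toMonoidHom φ).eqLocus (MonoidHom.id ↥(D.group F))) ≃*
        ↥(D.group F₀)) := by
  have hR := rootsOK_of_mem D hD
  obtain ⟨σ, hσ⟩ := hφ
  have hbc := fieldAut_eq_bc D hD φ σ hσ
  haveI : Fact r.Prime := ⟨hr⟩
  -- the order of `σ`
  have hρ := hR.simple_pos 0 hrk
  have hpow : ∀ (k : ℕ) (t : F), (((φ ^ k) ⟨xG D hD (D.simple 0) t,
      xG_mem_grp D hD _ hρ.1 t⟩ : ↥(D.group F)) : GL D.Idx F) =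
      xG D hD (D.simple 0) (((σ : RingAut F) ^ k) t) := by
    intro k
    induction k with
    | zero => intro t; rfl
    | succ k ih =>
      intro t
      rw [pow_succ', MulAut.mul_apply, hbc, ih, bc_xG, pow_succ']
      rfl
  have hσr : (σ : RingAut F) ^ r = 1 := by
    ext t
    have h1 := hpow r t
    rw [← ho, pow_orderOf_eq_one] at h1
    have h2 := xG_pos_inj D hD _ hρ _ _ h1
    rw [ho] at h2
    exact h2.symm
  have hσ1 : (σ : RingAut F) ≠ 1 := by
    intro h1
    have : φ = 1 := by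
      apply MulEquiv.ext
      intro g
      rw [MulAut.one_apply]
      apply Subtype.ext
      rw [hbc g]
      apply Units.ext
      ext i j
      rw [bc_val, Matrix.map_apply]
      have : (σ : RingAut F) ((g : GL D.Idx F) i j) = (g : GL D.Idx F) i j := by rw [h1]; rfl
      exact this
    rw [this, orderOf_one] at ho
    exact hr.one_lt.ne' ho.symm
  have hoσ : orderOf (σ : RingAut F) = r := orderOf_eq_prime hσr hσ1
  obtain ⟨F₀, iF, iFt, ι, hcard, hfix⟩ := exists_fixed_field σ r hoσ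
  refine ⟨F₀, iF, iFt, hcard, ?_⟩
  -- the map from the group over the fixed field
  have hσι : ∀ x : GL D.Idx F₀, bc D (σ : F →+* F) (bc D ι x) = bc D ι x := by
    intro x
    apply Units.ext
    ext i j
    rw [bc_val, bc_val, Matrix.map_apply, Matrix.map_apply]
    exact (hfix _).mpr ⟨_, rfl⟩
  let f₁ : ↥(D.group F₀) →* GL D.Idx F := (bc D ι).comp (D.group F₀).subtype
  let f₂ : ↥(D.group F₀) →* ↥(D.group F) :=
    f₁.codRestrict (D.group F) (fun g₀ => bc_G D hD ι _ g₀.2)
  have hf₂ : ∀ g₀, f₂ g₀ ∈ (MulEquiv.toMonoidHom φ).eqLocus (MonoidHom.id ↥(D.group F)) := by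
    intro g₀
    show φ (f₂ g₀) = f₂ g₀
    apply Subtype.ext
    rw [hbc]
    exact hσι _
  let f₃ : ↥(D.group F₀) →* ↥((MulEquiv.toMonoidHom φ).eqLocus (MonoidHom.id ↥(D.group F))) :=
    f₂.codRestrict _ hf₂
  have hinj : Function.Injective f₃ := by
    intro a b hab
    have h1 : (((f₃ a : ↥(D.group F)) : GL D.Idx F)) = (((f₃ b : ↥(D.group F)) : GL D.Idx F)) := by
      rw [hab]
    exact Subtype.ext (bc_injective D ι h1)
  have hsurj : Function.Surjective f₃ := by
    rintro ⟨g, hg⟩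
    have hg' : φ g = g := hg
    have h1 : bc D (σ : F →+* F) (g : GL D.Idx F) = g := by
      rw [← hbc, hg']
    obtain ⟨g₀, hg₀, e⟩ := fixed_mem_image D hD tab hU σ ι hfix _ g.2 h1
    refine ⟨⟨g₀, hg₀⟩, ?_⟩
    apply Subtype.ext
    apply Subtype.ext
    exact e
  exact ⟨(MulEquiv.ofBijective f₃ ⟨hinj, hsurj⟩).symm⟩

end

end Cfsg.Agent.helper5.Chev
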