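import Mathlib
import Cfsg.Agent.Lib_helper5_ChevHR
import Cfsg.Prelude.Def_ChevE8

set_option autoImplicit false

namespace Cfsg.Agent.helper5.Chev

open Cfsg.Lie

set_option maxRecDepth 1000000 in
set_option maxHeartbeats 0 in
theorem hRC_E8_100_0 : hCheckRCols chevE8 100 0 62 = true := by decide +kernel

set_option maxRecDepth 1000000 in
set_option maxHeartbeats 0 in
theorem hRC_E8_100_1 : hCheckRCols chevE8 100 62 62 = true := by decide +kernel

set_option maxRecDepth 1000000 in
set_option maxHeartbeats 0 in
theorem hRC_E8_100_2 : hCheckRCols chevE8 100 124 62 = true := by decide +kernel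

set_option maxRecDepth 1000000 in
set_option maxHeartbeats 0 in
theorem hRC_E8_100_3 : hCheckRCols chevE8 100 186 62 = true := by decide +kernel

theorem hR_E8_100 : hCheckRange chevE8 100 1 = true := by
  apply hCheckRange_one
  apply hCheckR_of_cols chevE8 100 62 4 (by decide +kernel) (by decide +kernel) (by decide +kernel)
  intro k hk
  interval_cases k
  · exact hRC_E8_100_0
  · exact hRC_E8_100_1
  · exact hRC_E8_100_2
  · exact hRC_E8_100_3

set_option maxRecDepth 1000000 in
set_option maxHeartbeats 0 in
theorem hRC_E8_101_0 : hCheckRCols chevE8 101 0 62 = true := by decide +kernel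

set_option maxRecDepth 1000000 in
set_option maxHeartbeats 0 in
theorem hRC_E8_101_1 : hCheckRCols chevE8 101 62 62 = true := by decide +kernel

set_option maxRecDepth 1000000 in
set_option maxHeartbeats 0 in
theorem hRC_E8_101_2 : hCheckRCols chevE8 101 124 62 = true := by decide +kernel

set_option maxRecDepth 1000000 in
set_option maxHeartbeats 0 in
theorem hRC_E8_101_3 : hCheckRCols chevE8 101 186 62 = true := by decide +kernel

theorem hR_E8_101 : hCheckRange chevE8 101 1 = true := by
  apply hCheckRange_one
  apply hCheckR_of_cols chevE8 101 62 4 (by decide +kernel) (by decide +kernel) (by decide +kernel)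
  intro k hk
  interval_cases k
  · exact hRC_E8_101_0
  · exact hRC_E8_101_1
  · exact hRC_E8_101_2
  · exact hRC_E8_101_3

set_option maxRecDepth 1000000 in
set_option maxHeartbeats 0 in
theorem hRC_E8_102_0 : hCheckRCols chevE8 102 0 62 = true := by decide +kernel

set_option maxRecDepth 1000000 in
set_option maxHeartbeats 0 in
theorem hRC_E8_102_1 : hCheckRCols chevE8 102 62 62 = true := by decide +kernel

set_option maxRecDepth 1000000 in
set_option maxHeartbeats 0 in
theorem hRC_E8_102_2 : hCheckRCols chevE8 102 124 62 = true := by decide +kernel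

set_option maxRecDepth 1000000 in
set_option maxHeartbeats 0 in
theorem hRC_E8_102_3 : hCheckRCols chevE8 102 186 62 = true := by decide +kernel

theorem hR_E8_102 : hCheckRange chevE8 102 1 = true := by
  apply hCheckRange_one
  apply hCheckR_of_cols chevE8 102 62 4 (by decide +kernel) (by decide +kernel) (by decide +kernel)
  intro k hk
  interval_cases k
  · exact hRC_E8_102_0
  · exact hRC_E8_102_1
  · exact hRC_E8_102_2
  · exact hRC_E8_102_3

set_option maxRecDepth 1000000 in
set_option maxHeartbeats 0 in
theorem hRC_E8_103_0 : hCheckRCols chevE8 103 0 62 = true := by decide +kernel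

set_option maxRecDepth 1000000 in
set_option maxHeartbeats 0 in
theorem hRC_E8_103_1 : hCheckRCols chevE8 103 62 62 = true := by decide +kernel

set_option maxRecDepth 1000000 in
set_option maxHeartbeats 0 in
theorem hRC_E8_103_2 : hCheckRCols chevE8 103 124 62 = true := by decide +kernel

set_option maxRecDepth 1000000 in
set_option maxHeartbeats 0 in
theorem hRC_E8_103_3 : hCheckRCols chevE8 103 186 62 = true := by decide +kernel

theorem hR_E8_103 : hCheckRange chevE8 103 1 = true := by
  apply hCheckRange_one
  apply hCheckR_of_cols chevE8 103 62 4 (by decide +kernel) (by decide +kernel) (by decide +kernel)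
  intro k hk
  interval_cases k
  · exact hRC_E8_103_0
  · exact hRC_E8_103_1
  · exact hRC_E8_103_2
  · exact hRC_E8_103_3

set_option maxRecDepth 1000000 in
set_option maxHeartbeats 0 in
theorem hRC_E8_104_0 : hCheckRCols chevE8 104 0 62 = true := by decide +kernel

set_option maxRecDepth 1000000 in
set_option maxHeartbeats 0 in
theorem hRC_E8_104_1 : hCheckRCols chevE8 104 62 62 = true := by decide +kernel

set_option maxRecDepth 1000000 in
set_option maxHeartbeats 0 in
theorem hRC_E8_104_2 : hCheckRCols chevE8 104 124 62 = true := by decide +kernel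

set_option maxRecDepth 1000000 in
set_option maxHeartbeats 0 in
theorem hRC_E8_104_3 : hCheckRCols chevE8 104 186 62 = true := by decide +kernel

theorem hR_E8_104 : hCheckRange chevE8 104 1 = true := by
  apply hCheckRange_one
  apply hCheckR_of_cols chevE8 104 62 4 (by decide +kernel) (by decide +kernel) (by decide +kernel)
  intro k hk
  interval_cases k
  · exact hRC_E8_104_0
  · exact hRC_E8_104_1
  · exact hRC_E8_104_2
  · exact hRC_E8_104_3

set_option maxRecDepth 1000000 in
set_option maxHeartbeats 0 in
theorem hRC_E8_105_0 : hCheckRCols chevE8 105 0 62 = true := by decide +kernel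

set_option maxRecDepth 1000000 in
set_option maxHeartbeats 0 in
theorem hRC_E8_105_1 : hCheckRCols chevE8 105 62 62 = true := by decide +kernel

set_option maxRecDepth 1000000 in
set_option maxHeartbeats 0 in
theorem hRC_E8_105_2 : hCheckRCols chevE8 105 124 62 = true := by decide +kernel

set_option maxRecDepth 1000000 in
set_option maxHeartbeats 0 in
theorem hRC_E8_105_3 : hCheckRCols chevE8 105 186 62 = true := by decide +kernel

theorem hR_E8_105 : hCheckRange chevE8 105 1 = true := by
  apply hCheckRange_one
  apply hCheckR_of_cols chevE8 105 62 4 (by decide +kernel) (by decide +kernel) (by decide +kernel)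
  intro k hk
  interval_cases k
  · exact hRC_E8_105_0
  · exact hRC_E8_105_1
  · exact hRC_E8_105_2
  · exact hRC_E8_105_3

set_option maxRecDepth 1000000 in
set_option maxHeartbeats 0 in
theorem hRC_E8_106_0 : hCheckRCols chevE8 106 0 62 = true := by decide +kernel

set_option maxRecDepth 1000000 in
set_option maxHeartbeats 0 in
theorem hRC_E8_106_1 : hCheckRCols chevE8 106 62 62 = true := by decide +kernel

set_option maxRecDepth 1000000 in
set_option maxHeartbeats 0 in
theorem hRC_E8_106_2 : hCheckRCols chevE8 106 124 62 = true := by decide +kernel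

set_option maxRecDepth 1000000 in
set_option maxHeartbeats 0 in
theorem hRC_E8_106_3 : hCheckRCols chevE8 106 186 62 = true := by decide +kernel

theorem hR_E8_106 : hCheckRange chevE8 106 1 = true := by
  apply hCheckRange_one
  apply hCheckR_of_cols chevE8 106 62 4 (by decide +kernel) (by decide +kernel) (by decide +kernel)
  intro k hk
  interval_cases k
  · exact hRC_E8_106_0
  · exact hRC_E8_106_1
  · exact hRC_E8_106_2
  · exact hRC_E8_106_3

set_option maxRecDepth 1000000 in
set_option maxHeartbeats 0 in
theorem hRC_E8_107_0 : hCheckRCols chevE8 107 0 62 = true := by decide +kernel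

set_option maxRecDepth 1000000 in
set_option maxHeartbeats 0 in
theorem hRC_E8_107_1 : hCheckRCols chevE8 107 62 62 = true := by decide +kernel

set_option maxRecDepth 1000000 in
set_option maxHeartbeats 0 in
theorem hRC_E8_107_2 : hCheckRCols chevE8 107 124 62 = true := by decide +kernel

set_option maxRecDepth 1000000 in
set_option maxHeartbeats 0 in
theorem hRC_E8_107_3 : hCheckRCols chevE8 107 186 62 = true := by decide +kernel

theorem hR_E8_107 : hCheckRange chevE8 107 1 = true := by
  apply hCheckRange_one
  apply hCheckR_of_cols chevE8 107 62 4 (by decide +kernel) (by decide +kernel) (by decide +kernel)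
  intro k hk
  interval_cases k
  · exact hRC_E8_107_0
  · exact hRC_E8_107_1
  · exact hRC_E8_107_2
  · exact hRC_E8_107_3

set_option maxRecDepth 1000000 in
set_option maxHeartbeats 0 in
theorem hRC_E8_108_0 : hCheckRCols chevE8 108 0 62 = true := by decide +kernel

set_option maxRecDepth 1000000 in
set_option maxHeartbeats 0 in
theorem hRC_E8_108_1 : hCheckRCols chevE8 108 62 62 = true := by decide +kernel

set_option maxRecDepth 1000000 in
set_option maxHeartbeats 0 in
theorem hRC_E8_108_2 : hCheckRCols chevE8 108 124 62 = true := by decide +kernel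

set_option maxRecDepth 1000000 in
set_option maxHeartbeats 0 in
theorem hRC_E8_108_3 : hCheckRCols chevE8 108 186 62 = true := by decide +kernel

theorem hR_E8_108 : hCheckRange chevE8 108 1 = true := by
  apply hCheckRange_one
  apply hCheckR_of_cols chevE8 108 62 4 (by decide +kernel) (by decide +kernel) (by decide +kernel)
  intro k hk
  interval_cases k
  · exact hRC_E8_108_0
  · exact hRC_E8_108_1
  · exact hRC_E8_108_2
  · exact hRC_E8_108_3

set_option maxRecDepth 1000000 in
set_option maxHeartbeats 0 in
theorem hRC_E8_109_0 : hCheckRCols chevE8 109 0 62 = true := by decide +kernel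

set_option maxRecDepth 1000000 in
set_option maxHeartbeats 0 in
theorem hRC_E8_109_1 : hCheckRCols chevE8 109 62 62 = true := by decide +kernel

set_option maxRecDepth 1000000 in
set_option maxHeartbeats 0 in
theorem hRC_E8_109_2 : hCheckRCols chevE8 109 124 62 = true := by decide +kernel

set_option maxRecDepth 1000000 in
set_option maxHeartbeats 0 in
theorem hRC_E8_109_3 : hCheckRCols chevE8 109 186 62 = true := by decide +kernel

theorem hR_E8_109 : hCheckRange chevE8 109 1 = true := by
  apply hCheckRange_one
  apply hCheckR_of_cols chevE8 109 62 4 (by decide +kernel) (by decide +kernel) (by decide +kernel)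
  intro k hk
  interval_cases k
  · exact hRC_E8_109_0
  · exact hRC_E8_109_1
  · exact hRC_E8_109_2
  · exact hRC_E8_109_3

end Cfsg.Agent.helper5.Chev
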