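import Mathlib
import Cfsg.Agent.Lib_helper5_ChevHR
import Cfsg.Prelude.Def_ChevE8

set_option autoImplicit false

namespace Cfsg.Agent.helper5.Chev

open Cfsg.Lie

set_option maxRecDepth 1000000 in
set_option maxHeartbeats 0 in
theorem hRC_E8_220_0 : hCheckRCols chevE8 220 0 62 = true := by decide +kernel

set_option maxRecDepth 1000000 in
set_option maxHeartbeats 0 in
theorem hRC_E8_220_1 : hCheckRCols chevE8 220 62 62 = true := by decide +kernel

set_option maxRecDepth 1000000 in
set_option maxHeartbeats 0 in
theorem hRC_E8_220_2 : hCheckRCols chevE8 220 124 62 = true := by decide +kernel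

set_option maxRecDepth 1000000 in
set_option maxHeartbeats 0 in
theorem hRC_E8_220_3 : hCheckRCols chevE8 220 186 62 = true := by decide +kernel

theorem hR_E8_220 : hCheckRange chevE8 220 1 = true := by
  apply hCheckRange_one
  apply hCheckR_of_cols chevE8 220 62 4 (by decide +kernel) (by decide +kernel) (by decide +kernel)
  intro k hk
  interval_cases k
  · exact hRC_E8_220_0
  · exact hRC_E8_220_1
  · exact hRC_E8_220_2
  · exact hRC_E8_220_3

set_option maxRecDepth 1000000 in
set_option maxHeartbeats 0 in
theorem hRC_E8_221_0 : hCheckRCols chevE8 221 0 62 = true := by decide +kernel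

set_option maxRecDepth 1000000 in
set_option maxHeartbeats 0 in
theorem hRC_E8_221_1 : hCheckRCols chevE8 221 62 62 = true := by decide +kernel

set_option maxRecDepth 1000000 in
set_option maxHeartbeats 0 in
theorem hRC_E8_221_2 : hCheckRCols chevE8 221 124 62 = true := by decide +kernel

set_option maxRecDepth 1000000 in
set_option maxHeartbeats 0 in
theorem hRC_E8_221_3 : hCheckRCols chevE8 221 186 62 = true := by decide +kernel

theorem hR_E8_221 : hCheckRange chevE8 221 1 = true := by
  apply hCheckRange_one
  apply hCheckR_of_cols chevE8 221 62 4 (by decide +kernel) (by decide +kernel) (by decide +kernel)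
  intro k hk
  interval_cases k
  · exact hRC_E8_221_0
  · exact hRC_E8_221_1
  · exact hRC_E8_221_2
  · exact hRC_E8_221_3

set_option maxRecDepth 1000000 in
set_option maxHeartbeats 0 in
theorem hRC_E8_222_0 : hCheckRCols chevE8 222 0 62 = true := by decide +kernel

set_option maxRecDepth 1000000 in
set_option maxHeartbeats 0 in
theorem hRC_E8_222_1 : hCheckRCols chevE8 222 62 62 = true := by decide +kernel

set_option maxRecDepth 1000000 in
set_option maxHeartbeats 0 in
theorem hRC_E8_222_2 : hCheckRCols chevE8 222 124 62 = true := by decide +kernel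

set_option maxRecDepth 1000000 in
set_option maxHeartbeats 0 in
theorem hRC_E8_222_3 : hCheckRCols chevE8 222 186 62 = true := by decide +kernel

theorem hR_E8_222 : hCheckRange chevE8 222 1 = true := by
  apply hCheckRange_one
  apply hCheckR_of_cols chevE8 222 62 4 (by decide +kernel) (by decide +kernel) (by decide +kernel)
  intro k hk
  interval_cases k
  · exact hRC_E8_222_0
  · exact hRC_E8_222_1
  · exact hRC_E8_222_2
  · exact hRC_E8_222_3

set_option maxRecDepth 1000000 in
set_option maxHeartbeats 0 in
theorem hRC_E8_223_0 : hCheckRCols chevE8 223 0 62 = true := by decide +kernel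

set_option maxRecDepth 1000000 in
set_option maxHeartbeats 0 in
theorem hRC_E8_223_1 : hCheckRCols chevE8 223 62 62 = true := by decide +kernel

set_option maxRecDepth 1000000 in
set_option maxHeartbeats 0 in
theorem hRC_E8_223_2 : hCheckRCols chevE8 223 124 62 = true := by decide +kernel

set_option maxRecDepth 1000000 in
set_option maxHeartbeats 0 in
theorem hRC_E8_223_3 : hCheckRCols chevE8 223 186 62 = true := by decide +kernel

theorem hR_E8_223 : hCheckRange chevE8 223 1 = true := by
  apply hCheckRange_one
  apply hCheckR_of_cols chevE8 223 62 4 (by decide +kernel) (by decide +kernel) (by decide +kernel)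
  intro k hk
  interval_cases k
  · exact hRC_E8_223_0
  · exact hRC_E8_223_1
  · exact hRC_E8_223_2
  · exact hRC_E8_223_3

set_option maxRecDepth 1000000 in
set_option maxHeartbeats 0 in
theorem hRC_E8_224_0 : hCheckRCols chevE8 224 0 62 = true := by decide +kernel

set_option maxRecDepth 1000000 in
set_option maxHeartbeats 0 in
theorem hRC_E8_224_1 : hCheckRCols chevE8 224 62 62 = true := by decide +kernel

set_option maxRecDepth 1000000 in
set_option maxHeartbeats 0 in
theorem hRC_E8_224_2 : hCheckRCols chevE8 224 124 62 = true := by decide +kernel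

set_option maxRecDepth 1000000 in
set_option maxHeartbeats 0 in
theorem hRC_E8_224_3 : hCheckRCols chevE8 224 186 62 = true := by decide +kernel

theorem hR_E8_224 : hCheckRange chevE8 224 1 = true := by
  apply hCheckRange_one
  apply hCheckR_of_cols chevE8 224 62 4 (by decide +kernel) (by decide +kernel) (by decide +kernel)
  intro k hk
  interval_cases k
  · exact hRC_E8_224_0
  · exact hRC_E8_224_1
  · exact hRC_E8_224_2
  · exact hRC_E8_224_3

set_option maxRecDepth 1000000 in
set_option maxHeartbeats 0 in
theorem hRC_E8_225_0 : hCheckRCols chevE8 225 0 62 = true := by decide +kernel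

set_option maxRecDepth 1000000 in
set_option maxHeartbeats 0 in
theorem hRC_E8_225_1 : hCheckRCols chevE8 225 62 62 = true := by decide +kernel

set_option maxRecDepth 1000000 in
set_option maxHeartbeats 0 in
theorem hRC_E8_225_2 : hCheckRCols chevE8 225 124 62 = true := by decide +kernel

set_option maxRecDepth 1000000 in
set_option maxHeartbeats 0 in
theorem hRC_E8_225_3 : hCheckRCols chevE8 225 186 62 = true := by decide +kernel

theorem hR_E8_225 : hCheckRange chevE8 225 1 = true := by
  apply hCheckRange_one
  apply hCheckR_of_cols chevE8 225 62 4 (by decide +kernel) (by decide +kernel) (by decide +kernel)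
  intro k hk
  interval_cases k
  · exact hRC_E8_225_0
  · exact hRC_E8_225_1
  · exact hRC_E8_225_2
  · exact hRC_E8_225_3

set_option maxRecDepth 1000000 in
set_option maxHeartbeats 0 in
theorem hRC_E8_226_0 : hCheckRCols chevE8 226 0 62 = true := by decide +kernel

set_option maxRecDepth 1000000 in
set_option maxHeartbeats 0 in
theorem hRC_E8_226_1 : hCheckRCols chevE8 226 62 62 = true := by decide +kernel

set_option maxRecDepth 1000000 in
set_option maxHeartbeats 0 in
theorem hRC_E8_226_2 : hCheckRCols chevE8 226 124 62 = true := by decide +kernel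

set_option maxRecDepth 1000000 in
set_option maxHeartbeats 0 in
theorem hRC_E8_226_3 : hCheckRCols chevE8 226 186 62 = true := by decide +kernel

theorem hR_E8_226 : hCheckRange chevE8 226 1 = true := by
  apply hCheckRange_one
  apply hCheckR_of_cols chevE8 226 62 4 (by decide +kernel) (by decide +kernel) (by decide +kernel)
  intro k hk
  interval_cases k
  · exact hRC_E8_226_0
  · exact hRC_E8_226_1
  · exact hRC_E8_226_2
  · exact hRC_E8_226_3

set_option maxRecDepth 1000000 in
set_option maxHeartbeats 0 in
theorem hRC_E8_227_0 : hCheckRCols chevE8 227 0 62 = true := by decide +kernel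

set_option maxRecDepth 1000000 in
set_option maxHeartbeats 0 in
theorem hRC_E8_227_1 : hCheckRCols chevE8 227 62 62 = true := by decide +kernel

set_option maxRecDepth 1000000 in
set_option maxHeartbeats 0 in
theorem hRC_E8_227_2 : hCheckRCols chevE8 227 124 62 = true := by decide +kernel

set_option maxRecDepth 1000000 in
set_option maxHeartbeats 0 in
theorem hRC_E8_227_3 : hCheckRCols chevE8 227 186 62 = true := by decide +kernel

theorem hR_E8_227 : hCheckRange chevE8 227 1 = true := by
  apply hCheckRange_one
  apply hCheckR_of_cols chevE8 227 62 4 (by decide +kernel) (by decide +kernel) (by decide +kernel)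
  intro k hk
  interval_cases k
  · exact hRC_E8_227_0
  · exact hRC_E8_227_1
  · exact hRC_E8_227_2
  · exact hRC_E8_227_3

set_option maxRecDepth 1000000 in
set_option maxHeartbeats 0 in
theorem hRC_E8_228_0 : hCheckRCols chevE8 228 0 62 = true := by decide +kernel

set_option maxRecDepth 1000000 in
set_option maxHeartbeats 0 in
theorem hRC_E8_228_1 : hCheckRCols chevE8 228 62 62 = true := by decide +kernel

set_option maxRecDepth 1000000 in
set_option maxHeartbeats 0 in
theorem hRC_E8_228_2 : hCheckRCols chevE8 228 124 62 = true := by decide +kernel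

set_option maxRecDepth 1000000 in
set_option maxHeartbeats 0 in
theorem hRC_E8_228_3 : hCheckRCols chevE8 228 186 62 = true := by decide +kernel

theorem hR_E8_228 : hCheckRange chevE8 228 1 = true := by
  apply hCheckRange_one
  apply hCheckR_of_cols chevE8 228 62 4 (by decide +kernel) (by decide +kernel) (by decide +kernel)
  intro k hk
  interval_cases k
  · exact hRC_E8_228_0
  · exact hRC_E8_228_1
  · exact hRC_E8_228_2
  · exact hRC_E8_228_3

set_option maxRecDepth 1000000 in
set_option maxHeartbeats 0 in
theorem hRC_E8_229_0 : hCheckRCols chevE8 229 0 62 = true := by decide +kernel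

set_option maxRecDepth 1000000 in
set_option maxHeartbeats 0 in
theorem hRC_E8_229_1 : hCheckRCols chevE8 229 62 62 = true := by decide +kernel

set_option maxRecDepth 1000000 in
set_option maxHeartbeats 0 in
theorem hRC_E8_229_2 : hCheckRCols chevE8 229 124 62 = true := by decide +kernel

set_option maxRecDepth 1000000 in
set_option maxHeartbeats 0 in
theorem hRC_E8_229_3 : hCheckRCols chevE8 229 186 62 = true := by decide +kernel

theorem hR_E8_229 : hCheckRange chevE8 229 1 = true := by
  apply hCheckRange_one
  apply hCheckR_of_cols chevE8 229 62 4 (by decide +kernel) (by decide +kernel) (by decide +kernel)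
  intro k hk
  interval_cases k
  · exact hRC_E8_229_0
  · exact hRC_E8_229_1
  · exact hRC_E8_229_2
  · exact hRC_E8_229_3

end Cfsg.Agent.helper5.Chev
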