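import Mathlib
import Cfsg.Agent.Lib_helper5_ChevCalc

set_option autoImplicit false
set_option linter.unusedSectionVars false
set_option linter.unusedVariables false

/-! Heights: the elements of `U` are unipotent of bounded nilpotency degree (helper5). -/

namespace Cfsg.Agent.helper5.Chev

open Cfsg.Lie

/-- `M` raises the height by at least `d` -/
def UpM {ι K : Type*} [Zero K] (H : ι → ℤ) (d : ℤ) (M : Matrix ι ι K) : Prop :=
  ∀ i j, M i j ≠ 0 → H j + d ≤ H i

section
variable {ι K : Type*} [Fintype ι] [DecidableEq ι] [Field K] (H : ι → ℤ)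

theorem UpM_add (d : ℤ) (A B : Matrix ι ι K) (hA : UpM H d A) (hB : UpM H d B) :
    UpM H d (A + B) := by
  intro i j h
  rw [Matrix.add_apply] at h
  by_cases h1 : A i j = 0
  · rw [h1, zero_add] at h
    exact hB i j h
  · exact hA i j h1

theorem UpM_mono (d d' : ℤ) (hd : d' ≤ d) (A : Matrix ι ι K) (hA : UpM H d A) : UpM H d' A := by
  intro i j h
  have := hA i j h
  omega

theorem UpM_mul (d d' : ℤ) (A B : Matrix ι ι K) (hA : UpM H d A) (hB : UpM H d' B) :
    UpM H (d + d') (A * B) := by
  intro i j h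
  rw [Matrix.mul_apply] at h
  obtain ⟨k, -, hk⟩ := Finset.exists_ne_zero_of_sum_ne_zero h
  have h1 : A i k ≠ 0 := left_ne_zero_of_mul hk
  have h2 : B k j ≠ 0 := right_ne_zero_of_mul hk
  have := hA i k h1
  have := hB k j h2
  omega

theorem UpM_one : UpM H 0 (1 : Matrix ι ι K) := by
  intro i j h
  rw [Matrix.one_apply] at h
  by_cases hij : i = j
  · rw [hij]; omega
  · rw [if_neg hij] at h
    exact absurd rfl h

theorem UpM_pow (N : Matrix ι ι K) (hN : UpM H 1 N) (k : ℕ) : UpM H (k : ℤ) (N ^ k) := by
  induction k with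
  | zero =>
    rw [pow_zero]
    exact UpM_one H
  | succ k ih =>
    rw [pow_succ]
    have := UpM_mul H _ _ _ _ ih hN
    push_cast
    exact this

theorem UpM_pow_eq_zero (N : Matrix ι ι K) (hN : UpM H 1 N) (B : ℤ)
    (hB : ∀ i, -B ≤ H i ∧ H i ≤ B) (k : ℕ) (hk : 2 * B + 1 ≤ (k : ℤ)) : N ^ k = 0 := by
  ext i j
  rw [Matrix.zero_apply]
  by_contra h
  have h1 := UpM_pow H N hN k i j h
  have h2 := hB i
  have h3 := hB j
  omega

/-- unipotent elements of bounded nilpotency degree in characteristic `2` -/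
theorem unip_pow_eq_one [CharP K 2] [Nonempty ι] (g : Matrix ι ι K) (hg : UpM H 1 (g - 1)) (B : ℤ)
    (hB : ∀ i, -B ≤ H i ∧ H i ≤ B) (k : ℕ) (hk : 2 * B + 1 ≤ ((2 ^ k : ℕ) : ℤ)) :
    g ^ 2 ^ k = 1 := by
  have : Fact (Nat.Prime 2) := ⟨Nat.prime_two⟩
  have h0 := UpM_pow_eq_zero H (g - 1) hg B hB (2 ^ k) hk
  have e : g = (g - 1) + 1 := by abel
  rw [e, add_pow_char_pow_of_commute 2 k (Commute.one_right _), h0, one_pow, zero_add]

theorem UpM_mul_unip (g g' : Matrix ι ι K) (hg : UpM H 1 (g - 1)) (hg' : UpM H 1 (g' - 1)) :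
    UpM H 1 (g * g' - 1) := by
  have e : g * g' - 1 = (g - 1) * (g' - 1) + ((g - 1) + (g' - 1)) := by noncomm_ring
  rw [e]
  refine UpM_add H 1 _ _ ?_ (UpM_add H 1 _ _ hg hg')
  exact UpM_mono H (1 + 1) 1 (by norm_num) _ (UpM_mul H 1 1 _ _ hg hg')

theorem UpM_pow_unip (g : Matrix ι ι K) (hg : UpM H 1 (g - 1)) (k : ℕ) : UpM H 1 (g ^ k - 1) := by
  induction k with
  | zero =>
    rw [pow_zero, sub_self]
    intro i j h
    exact absurd rfl h
  | succ k ih =>
    rw [pow_succ]
    exact UpM_mul_unip H _ _ ih hg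

end

/-- the checker: `ht` is additive along the root strings of the positive roots -/
def htChk (D : ChevalleyDatum) (ht : List ℤ) : Bool :=
  (List.range D.nroots).all fun r =>
    (!decide (D.IsPosRoot r)) ||
      (decide (1 ≤ ht.getD r 0) && decide (ht.getD (D.neg r) 0 = -ht.getD r 0) &&
        (List.range D.nroots).all fun s => (List.range D.nroots).all fun u =>
          (D.chainCoeff r s u).isEmpty || decide (ht.getD s 0 + 1 ≤ ht.getD u 0))

theorem htChk_spec (D : ChevalleyDatum) (ht : List ℤ) (h : htChk D ht = true) (r : ℕ)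
    (hr : D.IsPosRoot r) :
    1 ≤ ht.getD r 0 ∧ ht.getD (D.neg r) 0 = -ht.getD r 0 ∧
      ∀ s < D.nroots, ∀ u < D.nroots, D.chainCoeff r s u ≠ [] → ht.getD s 0 + 1 ≤ ht.getD u 0 := by
  unfold htChk at h
  rw [List.all_eq_true] at h
  have h1 := h r (List.mem_range.mpr hr.1)
  simp only [Bool.or_eq_true, Bool.not_eq_true', decide_eq_false_iff_not, Bool.and_eq_true,
    decide_eq_true_eq, List.all_eq_true, List.mem_range, List.isEmpty_iff] at h1
  rcases h1 with h1 | ⟨⟨a, b⟩, c⟩
  · exact absurd hr h1
  · refine ⟨a, b, ?_⟩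
    intro s hs u hu hne
    rcases c s hs u hu with h2 | h2
    · exact absurd h2 hne
    · exact h2

/-- the height on the coordinates -/
def hIdx (D : ChevalleyDatum) (ht : List ℤ) : D.Idx → ℤ :=
  Sum.elim (fun _ => 0) (fun r => ht.getD r.val 0)

section
variable {K : Type*} [Field K] (D : ChevalleyDatum) (ht : List ℤ) (hchk : htChk D ht = true)

include hchk in
theorem xMat_up (r : ℕ) (hr : D.IsPosRoot r) (t : K) :
    UpM (hIdx D ht) 1 (D.xMat K ⟨r, hr.1⟩ t - 1) := by
  obtain ⟨h1, h2, h3⟩ := htChk_spec D ht hchk r hr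
  intro row col hne
  rw [Matrix.sub_apply, Matrix.one_apply] at hne
  unfold ChevalleyDatum.xMat at hne
  rw [Matrix.of_apply] at hne
  rcases col with i | s
  · rcases row with i' | u
    · exfalso
      apply hne
      simp only [Sum.inl.injEq]
      split_ifs <;> simp
    · simp only [reduceCtorEq, if_false, sub_zero] at hne
      have hu : u = ⟨r, hr.1⟩ := by
        by_contra hcon
        rw [if_neg hcon] at hne
        exact hne rfl
      show 0 + 1 ≤ ht.getD u.val 0
      rw [hu]
      simpa using h1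
  · simp only at hne
    by_cases hs : s = ⟨r, hr.1⟩
    · exfalso
      apply hne
      rw [if_pos hs]
      rcases row with i' | u
      · simp
      · simp only [Sum.inr.injEq]
        rw [hs]
        split_ifs <;> simp
    · rw [if_neg hs] at hne
      by_cases hs2 : s.val = D.negIdx.getD r 0
      · rw [if_pos hs2] at hne
        have hts : ht.getD s.val 0 = -ht.getD r 0 := by
          rw [hs2]
          exact h2
        rcases row with i' | u
        · show ht.getD s.val 0 + 1 ≤ 0
          omega
        · show ht.getD s.val 0 + 1 ≤ ht.getD u.val 0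
          simp only [Sum.inr.injEq] at hne
          by_cases hus : u = s
          · exfalso
            apply hne
            rw [if_pos hus, if_pos hus, sub_self]
          · rw [if_neg hus, if_neg hus] at hne
            have hu : u = ⟨r, hr.1⟩ := by
              by_contra hcon
              rw [if_neg hcon] at hne
              apply hne
              simp
            rw [hu]
            show ht.getD s.val 0 + 1 ≤ ht.getD r 0
            omega
      · rw [if_neg hs2] at hne
        rcases row with i' | u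
        · exfalso
          apply hne
          simp
        · show ht.getD s.val 0 + 1 ≤ ht.getD u.val 0
          simp only [Sum.inr.injEq] at hne
          apply h3 s.val s.2 u.val u.2
          intro hcon
          apply hne
          rw [hcon]
          simp

end

section
variable {K : Type*} [Field K] [CharP K 2] (D : ChevalleyDatum) (ht : List ℤ)
  (hchk : htChk D ht = true)

include hchk in
/-- **in characteristic `2` the elements of `U` have bounded `2`-power order** -/
theorem U_pow_eq_one (hne : Nonempty D.Idx) (B : ℤ) (hB0 : 0 ≤ B)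
    (hB : ∀ r < D.nroots, -B ≤ ht.getD r 0 ∧ ht.getD r 0 ≤ B) (k : ℕ)
    (hk : 2 * B + 1 ≤ ((2 ^ k : ℕ) : ℤ)) (u : GL D.Idx K) (hu : u ∈ D.posUnipotent K) :
    u ^ 2 ^ k = 1 := by
  have hI : ∀ i : D.Idx, -B ≤ hIdx D ht i ∧ hIdx D ht i ≤ B := by
    intro i
    rcases i with i | r
    · exact ⟨by show -B ≤ 0; omega, hB0⟩
    · exact hB r.val r.2
  have hpow : ∀ g : GL D.Idx K, UpM (hIdx D ht) 1 ((g : Matrix D.Idx D.Idx K) - 1) →
      g ^ 2 ^ k = 1 := by
    intro g hg
    apply Units.ext
    rw [Units.val_pow_eq_pow_val, Units.val_one]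
    exact unip_pow_eq_one (hIdx D ht) _ hg B hI k hk
  have key : UpM (hIdx D ht) 1 ((u : Matrix D.Idx D.Idx K) - 1) := by
    unfold ChevalleyDatum.posUnipotent at hu
    induction hu using Subgroup.closure_induction with
    | mem x hx =>
      obtain ⟨r, t, hr, hx⟩ := hx
      rw [hx, x_eq_xMat D r hr.1]
      exact xMat_up D ht hchk r hr t
    | one =>
      rw [Units.val_one, sub_self]
      intro i j h
      exact absurd rfl h
    | mul x y _ _ hx hy =>
      rw [Units.val_mul]
      exact UpM_mul_unip _ _ _ hx hy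
    | inv x _ hx =>
      have h1 := hpow x hx
      have h2 : x⁻¹ = x ^ (2 ^ k - 1) := by
        apply inv_eq_of_mul_eq_one_left
        rw [← pow_succ]
        have : 2 ^ k - 1 + 1 = 2 ^ k := Nat.sub_add_cancel Nat.one_le_two_pow
        rw [this, h1]
      rw [h2, Units.val_pow_eq_pow_val]
      exact UpM_pow_unip _ _ hx _
  exact hpow u key

end

end Cfsg.Agent.helper5.Chev
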