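import Mathlib
import Cfsg.Agent.Lib_helper5_ChevBN4
import Cfsg.Prelude.Def_LieExceptional

set_option autoImplicit false
open Cfsg

namespace Cfsg.Agent.helper5.Chev

open Cfsg.Lie

/-- adjacency in the Dynkin diagram, read off the action of `(w_a w_b)²` on the root `p_b` -/
def dynAdj (D : ChevalleyDatum) (a b : ℕ) : Bool :=
  decide (applyW D [a, b, a, b] (D.simple b) ≠ D.simple b)

/-- checker for a spanning tree of the Dynkin diagram rooted at node `0` -/
def treeCheck (D : ChevalleyDatum) (par depth : List ℕ) : Bool :=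
  (List.range D.rank).all fun i =>
    decide (i = 0) ||
      (decide (par.getD i 0 < D.rank) && decide (depth.getD (par.getD i 0) 0 < depth.getD i 0) &&
        dynAdj D (par.getD i 0) i && dynAdj D i (par.getD i 0))

/-- connectivity of the Dynkin diagram -/
def DynConn (D : ChevalleyDatum) : Prop :=
  ∀ p : ℕ → Prop, (∃ i < D.rank, p i) → (∃ j < D.rank, ¬ p j) →
    ∃ a < D.rank, ∃ b < D.rank, p a ∧ ¬ p b ∧ dynAdj D a b = true

theorem dynConn_of_tree (D : ChevalleyDatum) (par depth : List ℕ)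
    (h : treeCheck D par depth = true) : DynConn D := by
  intro p ⟨i, hi, hpi⟩ ⟨j, hj, hpj⟩
  by_contra hcon
  push Not at hcon
  unfold treeCheck at h
  rw [List.all_eq_true] at h
  have key : ∀ n : ℕ, ∀ k < D.rank, depth.getD k 0 = n → (p k ↔ p 0) := by
    intro n
    induction n using Nat.strong_induction_on with
    | _ n ih =>
      intro k hk hn
      have h1 := h k (List.mem_range.mpr hk)
      simp only [Bool.or_eq_true, Bool.and_eq_true, decide_eq_true_eq] at h1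
      rcases h1 with h1 | ⟨⟨⟨hpar, hdep⟩, hadj1⟩, hadj2⟩
      · rw [h1]
      · have h2 := ih _ (by omega) (par.getD k 0) hpar rfl
        rw [← h2]
        constructor
        · intro hpk
          by_contra hnp
          have := hcon k hk _ hpar hpk hnp
          rw [hadj2] at this
          exact this rfl
        · intro hpp
          by_contra hnp
          have := hcon _ hpar k hk hpp hnp
          rw [hadj1] at this
          exact this rfl
  have h1 := (key _ i hi rfl).mp hpi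
  have h2 := (key _ j hj rfl).mpr h1
  exact hpj h2

theorem dynConn_G2 : DynConn chevG2 := dynConn_of_tree _ [0, 0] [0, 1] (by decide +kernel)
theorem dynConn_B2 : DynConn chevB2 := dynConn_of_tree _ [0, 0] [0, 1] (by decide +kernel)
theorem dynConn_D4 : DynConn chevD4 :=
  dynConn_of_tree _ [0, 0, 1, 1] [0, 1, 2, 2] (by decide +kernel)
theorem dynConn_F4 : DynConn chevF4 :=
  dynConn_of_tree _ [0, 0, 1, 2] [0, 1, 2, 3] (by decide +kernel)
theorem dynConn_E6 : DynConn chevE6 :=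
  dynConn_of_tree _ [0, 3, 0, 2, 3, 4] [0, 3, 1, 2, 3, 4] (by decide +kernel)
theorem dynConn_E7 : DynConn chevE7 :=
  dynConn_of_tree _ [0, 3, 0, 2, 3, 4, 5] [0, 3, 1, 2, 3, 4, 5] (by decide +kernel)
theorem dynConn_E8 : DynConn chevE8 :=
  dynConn_of_tree _ [0, 3, 0, 2, 3, 4, 5, 6] [0, 3, 1, 2, 3, 4, 5, 6] (by decide +kernel)

theorem dynConn_of_mem (D : ChevalleyDatum)
    (hD : D ∈ [chevG2, chevB2, chevD4, chevF4, chevE6, chevE7, chevE8]) : DynConn D := by
  simp only [List.mem_cons, List.not_mem_nil, or_false] at hD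
  rcases hD with rfl | rfl | rfl | rfl | rfl | rfl | rfl
  · exact dynConn_G2
  · exact dynConn_B2
  · exact dynConn_D4
  · exact dynConn_F4
  · exact dynConn_E6
  · exact dynConn_E7
  · exact dynConn_E8

section
variable {F : Type*} [Field F] (D : ChevalleyDatum)
  (hD : D ∈ [chevG2, chevB2, chevD4, chevF4, chevE6, chevE7, chevE8])

/-- for adjacent nodes `a`, `b` the commutator of `n_a` and `n_b` is not in `B` -/
theorem comm_nG_not_mem_B (a b : ℕ) (ha : a < D.rank) (hb : b < D.rank)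
    (hadj : dynAdj D a b = true) :
    nGt D hD (D.simple a) (1 : F) * nGt D hD (D.simple b) 1 * (nGt D hD (D.simple a) 1)⁻¹ *
      (nGt D hD (D.simple b) 1)⁻¹ ∉ D.borelSubgroup F := by
  have hR := rootsOK_of_mem D hD
  have hNH := N_le_normalizer_H (F := F) D hD
  intro hB
  obtain ⟨na, hna⟩ : ∃ n, n = nGt D hD (D.simple a) (1 : F) := ⟨_, rfl⟩
  obtain ⟨nb, hnb⟩ : ∃ n, n = nGt D hD (D.simple b) (1 : F) := ⟨_, rfl⟩
  rw [← hna, ← hnb] at hB
  have hnaN : na ∈ D.monomialSubgroup F := by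
    rw [hna]; exact nGt_one_mem D hD _ (hR.simple_lt a ha)
  have hnbN : nb ∈ D.monomialSubgroup F := by
    rw [hnb]; exact nGt_one_mem D hD _ (hR.simple_lt b hb)
  have ha2 : (na * na)⁻¹ ∈ D.diagonalSubgroup F := by
    rw [hna]; exact Subgroup.inv_mem _ (nGt_sq_mem D hD _ (hR.simple_lt a ha))
  have hb2 : (nb * nb)⁻¹ ∈ D.diagonalSubgroup F := by
    rw [hnb]; exact Subgroup.inv_mem _ (nGt_sq_mem D hD _ (hR.simple_lt b hb))
  have hconj : ∀ n ∈ D.monomialSubgroup F, ∀ h ∈ D.diagonalSubgroup F,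
      n * h * n⁻¹ ∈ D.diagonalSubgroup F := fun n hn h hh =>
    (Subgroup.mem_normalizer_iff.mp (hNH hn) h).mp hh
  have h1 := hconj _ (Subgroup.inv_mem _ hnaN) _ hb2
  have h2 := Subgroup.mul_mem _ h1 ha2
  have h3 := hconj _ hnbN _ h2
  have h4 := hconj _ hnaN _ h3
  have e : na * nb * na⁻¹ * nb⁻¹ =
      (na * (nb * (na⁻¹ * (nb * nb)⁻¹ * na⁻¹⁻¹ * (na * na)⁻¹) * nb⁻¹) * na⁻¹) *
        nW D hD [a, b, a, b] := by
    simp only [nW, List.map_cons, List.map_nil, List.prod_cons, List.prod_nil, mul_one]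
    rw [← hna, ← hnb]
    group
  rw [e] at hB
  have hw : ∀ i ∈ [a, b, a, b], i < D.rank := by
    intro i hi
    simp only [List.mem_cons, List.not_mem_nil, or_false] at hi
    rcases hi with rfl | rfl | rfl | rfl <;> assumption
  have h5 := applyW_eq_of_mem_B D hD _ h4 [a, b, a, b] hw hB _ (hR.simple_lt b hb)
  unfold dynAdj at hadj
  rw [decide_eq_true_eq] at hadj
  exact hadj h5

include hD in
/-- **irreducibility** of the (B,N)-pair of a Chevalley group -/
theorem chev_irreducible (K : Subgroup (GL D.Idx F)) (hNK : D.monomialSubgroup F ≤ K)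
    (P : Cfsg.BNPair ↥K) (hPB : P.B = (D.borelSubgroup F).subgroupOf K)
    (hPS : P.S = {k : ↥K | (k : GL D.Idx F) ∈ {g : GL D.Idx F | ∃ i < D.rank,
        (g : Matrix D.Idx D.Idx F) = D.nMat F (D.simple i) 1}}) : P.Irreducible := by
  have hR := rootsOK_of_mem D hD
  have hSeq : ∀ k : ↥K, k ∈ P.S ↔ ∃ i < D.rank, (k : GL D.Idx F) = nGt D hD (D.simple i) 1 := by
    intro k
    rw [hPS]
    constructor
    · rintro ⟨i, hi, hg⟩
      exact ⟨i, hi, Units.ext (by rw [hg, nGt_val])⟩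
    · rintro ⟨i, hi, hg⟩
      exact ⟨i, hi, by rw [hg, nGt_val]⟩
  intro J hJ ⟨k₁, hk₁⟩ ⟨k₂, hk₂, hk₂'⟩
  obtain ⟨i, hi, hki⟩ := (hSeq k₁).mp (hJ hk₁)
  obtain ⟨j, hj, hkj⟩ := (hSeq k₂).mp hk₂
  obtain ⟨a, ha, b, hb, ⟨ka, hkaJ, hka⟩, hpb, hadj⟩ := dynConn_of_mem D hD
    (fun i => ∃ k ∈ J, (k : GL D.Idx F) = nGt D hD (D.simple i) 1)
    ⟨i, hi, k₁, hk₁, hki⟩
    ⟨j, hj, by
      rintro ⟨k, hkJ, hk⟩
      have : k = k₂ := Subtype.ext (by rw [hk, hkj])
      rw [this] at hkJ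
      exact hk₂' hkJ⟩
  have hnb : nGt D hD (D.simple b) (1 : F) ∈ K := hNK (nGt_one_mem D hD _ (hR.simple_lt b hb))
  refine ⟨ka, hkaJ, ⟨_, hnb⟩, ⟨(hSeq _).mpr ⟨b, hb, rfl⟩, fun hmem => hpb ⟨_, hmem, rfl⟩⟩, ?_⟩
  rw [hPB, Subgroup.mem_subgroupOf]
  simp only [Subgroup.coe_mul, Subgroup.coe_inv, hka]
  exact comm_nG_not_mem_B D hD a b ha hb hadj

end

end Cfsg.Agent.helper5.Chev
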