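import Mathlib
import Cfsg.Agent.Lib_helper5_ChevN
import Cfsg.Agent.Lib_helper5_ChevHR

set_option autoImplicit false

/-! Conjugating the diagonal elements `h_r(t)` by the monomial elements `n_p` (helper5). -/

namespace Cfsg.Agent.helper5.Chev

open Cfsg.Lie

/-- the Cartan integers are invariant under the reflection `w_{p_i}` -/
def reflCheckIJ (D : ChevalleyDatum) (i j : ℕ) : Bool :=
  decide (D.reflectRoot i (D.simple j) < D.nroots) &&
    (List.range D.nroots).all fun s =>
      cartanRS D (D.reflectRoot i (D.simple j)) (D.reflectRoot i s) == cartanL D j s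

def reflCheckI (D : ChevalleyDatum) (i : ℕ) : Bool :=
  (List.range D.rank).all fun j => reflCheckIJ D i j

section
variable {F : Type*} [Field F]

theorem nMono_mul_diag (D : ChevalleyDatum) (i : ℕ) (η : ℕ → ℤ) (f g : Fin D.nroots → F)
    (hfg : ∀ s s' : Fin D.nroots, s'.val = D.reflectRoot i s.val → g s' = f s) :
    nMono D i η * Matrix.diagonal (Sum.elim (fun _ : Fin D.rank => (1 : F)) f) =
      Matrix.diagonal (Sum.elim (fun _ : Fin D.rank => (1 : F)) g) * nMono (F := F) D i η := by
  ext row col
  rw [Matrix.mul_diagonal, Matrix.diagonal_mul]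
  unfold nMono
  rcases row with j' | s' <;> rcases col with j | s
  · simp only [Matrix.of_apply, Sum.elim_inl]
    ring
  · simp only [Matrix.of_apply, Sum.elim_inl, Sum.elim_inr]
    ring
  · simp only [Matrix.of_apply, Sum.elim_inl, Sum.elim_inr]
    ring
  · simp only [Matrix.of_apply, Sum.elim_inr]
    by_cases h : s'.val = D.reflectRoot i s.val
    · rw [if_pos h, hfg s s' h]
      ring
    · rw [if_neg h]
      ring

/-- **`n_p h_{p_j}(t) = h_{w_p(p_j)}(t) n_p`** from the table checks. -/
theorem nMat_mul_hMat (D : ChevalleyDatum) (i j : ℕ) (hj : j < D.rank) (η : ℕ → ℤ)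
    (hn : D.nMat F (D.simple i) 1 = nMono D i η)
    (hsimple : ∀ c : F, c ≠ 0 → D.hMat F (D.simple j) c =
      Matrix.diagonal (Sum.elim (fun _ => (1 : F)) (fun s : Fin D.nroots => c ^ (D.cartan j s))))
    (hall : hCheckAll D) (hrefl : reflCheckI D i = true) (t : F) (ht : t ≠ 0) :
    D.nMat F (D.simple i) 1 * D.hMat F (D.simple j) t =
      D.hMat F (D.reflectRoot i (D.simple j)) t * D.nMat F (D.simple i) 1 := by
  unfold reflCheckI at hrefl
  rw [List.all_eq_true] at hrefl
  have h1 := hrefl j (List.mem_range.mpr hj)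
  unfold reflCheckIJ at h1
  rw [Bool.and_eq_true, decide_eq_true_eq, List.all_eq_true] at h1
  obtain ⟨hr, h2⟩ := h1
  rw [hn, hsimple t ht, hMat_diag_of_checkR D _ hr (hall _ hr) t ht]
  apply nMono_mul_diag
  intro s s' hs'
  have h3 := h2 s.val (List.mem_range.mpr s.2)
  rw [beq_iff_eq, cartanL_eq] at h3
  rw [hs', h3]

end

end Cfsg.Agent.helper5.Chev
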