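import Mathlib
import Cfsg.Agent.Lib_helper5_ChevNXDefsE8

set_option autoImplicit false

namespace Cfsg.Agent.helper5.Chev

open Cfsg.Lie

set_option maxRecDepth 1000000 in
set_option maxHeartbeats 0 in
theorem nxC_E8_4_0 : nxCheckRange chevE8 nxca_E8_4 nxrt_E8_4 nxeta_E8_4 4 0 4 = true := by decide +kernel

set_option maxRecDepth 1000000 in
set_option maxHeartbeats 0 in
theorem nxC_E8_4_1 : nxCheckRange chevE8 nxca_E8_4 nxrt_E8_4 nxeta_E8_4 4 4 4 = true := by decide +kernel

set_option maxRecDepth 1000000 in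
set_option maxHeartbeats 0 in
theorem nxC_E8_4_2 : nxCheckRange chevE8 nxca_E8_4 nxrt_E8_4 nxeta_E8_4 4 8 4 = true := by decide +kernel

set_option maxRecDepth 1000000 in
set_option maxHeartbeats 0 in
theorem nxC_E8_4_3 : nxCheckRange chevE8 nxca_E8_4 nxrt_E8_4 nxeta_E8_4 4 12 4 = true := by decide +kernel

set_option maxRecDepth 1000000 in
set_option maxHeartbeats 0 in
theorem nxC_E8_4_4 : nxCheckRange chevE8 nxca_E8_4 nxrt_E8_4 nxeta_E8_4 4 16 4 = true := by decide +kernel

set_option maxRecDepth 1000000 in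
set_option maxHeartbeats 0 in
theorem nxC_E8_4_5 : nxCheckRange chevE8 nxca_E8_4 nxrt_E8_4 nxeta_E8_4 4 20 4 = true := by decide +kernel

set_option maxRecDepth 1000000 in
set_option maxHeartbeats 0 in
theorem nxC_E8_4_6 : nxCheckRange chevE8 nxca_E8_4 nxrt_E8_4 nxeta_E8_4 4 24 4 = true := by decide +kernel

set_option maxRecDepth 1000000 in
set_option maxHeartbeats 0 in
theorem nxC_E8_4_7 : nxCheckRange chevE8 nxca_E8_4 nxrt_E8_4 nxeta_E8_4 4 28 4 = true := by decide +kernel

set_option maxRecDepth 1000000 in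
set_option maxHeartbeats 0 in
theorem nxC_E8_4_8 : nxCheckRange chevE8 nxca_E8_4 nxrt_E8_4 nxeta_E8_4 4 32 4 = true := by decide +kernel

set_option maxRecDepth 1000000 in
set_option maxHeartbeats 0 in
theorem nxC_E8_4_9 : nxCheckRange chevE8 nxca_E8_4 nxrt_E8_4 nxeta_E8_4 4 36 4 = true := by decide +kernel

set_option maxRecDepth 1000000 in
set_option maxHeartbeats 0 in
theorem nxC_E8_4_10 : nxCheckRange chevE8 nxca_E8_4 nxrt_E8_4 nxeta_E8_4 4 40 4 = true := by decide +kernel

set_option maxRecDepth 1000000 in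
set_option maxHeartbeats 0 in
theorem nxC_E8_4_11 : nxCheckRange chevE8 nxca_E8_4 nxrt_E8_4 nxeta_E8_4 4 44 4 = true := by decide +kernel

set_option maxRecDepth 1000000 in
set_option maxHeartbeats 0 in
theorem nxC_E8_4_12 : nxCheckRange chevE8 nxca_E8_4 nxrt_E8_4 nxeta_E8_4 4 48 4 = true := by decide +kernel

set_option maxRecDepth 1000000 in
set_option maxHeartbeats 0 in
theorem nxC_E8_4_13 : nxCheckRange chevE8 nxca_E8_4 nxrt_E8_4 nxeta_E8_4 4 52 4 = true := by decide +kernel

set_option maxRecDepth 1000000 in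
set_option maxHeartbeats 0 in
theorem nxC_E8_4_14 : nxCheckRange chevE8 nxca_E8_4 nxrt_E8_4 nxeta_E8_4 4 56 4 = true := by decide +kernel

set_option maxRecDepth 1000000 in
set_option maxHeartbeats 0 in
theorem nxC_E8_4_15 : nxCheckRange chevE8 nxca_E8_4 nxrt_E8_4 nxeta_E8_4 4 60 4 = true := by decide +kernel

set_option maxRecDepth 1000000 in
set_option maxHeartbeats 0 in
theorem nxC_E8_4_16 : nxCheckRange chevE8 nxca_E8_4 nxrt_E8_4 nxeta_E8_4 4 64 4 = true := by decide +kernel

set_option maxRecDepth 1000000 in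
set_option maxHeartbeats 0 in
theorem nxC_E8_4_17 : nxCheckRange chevE8 nxca_E8_4 nxrt_E8_4 nxeta_E8_4 4 68 4 = true := by decide +kernel

set_option maxRecDepth 1000000 in
set_option maxHeartbeats 0 in
theorem nxC_E8_4_18 : nxCheckRange chevE8 nxca_E8_4 nxrt_E8_4 nxeta_E8_4 4 72 4 = true := by decide +kernel

set_option maxRecDepth 1000000 in
set_option maxHeartbeats 0 in
theorem nxC_E8_4_19 : nxCheckRange chevE8 nxca_E8_4 nxrt_E8_4 nxeta_E8_4 4 76 4 = true := by decide +kernel

set_option maxRecDepth 1000000 in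
set_option maxHeartbeats 0 in
theorem nxC_E8_4_20 : nxCheckRange chevE8 nxca_E8_4 nxrt_E8_4 nxeta_E8_4 4 80 4 = true := by decide +kernel

set_option maxRecDepth 1000000 in
set_option maxHeartbeats 0 in
theorem nxC_E8_4_21 : nxCheckRange chevE8 nxca_E8_4 nxrt_E8_4 nxeta_E8_4 4 84 4 = true := by decide +kernel

set_option maxRecDepth 1000000 in
set_option maxHeartbeats 0 in
theorem nxC_E8_4_22 : nxCheckRange chevE8 nxca_E8_4 nxrt_E8_4 nxeta_E8_4 4 88 4 = true := by decide +kernel

set_option maxRecDepth 1000000 in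
set_option maxHeartbeats 0 in
theorem nxC_E8_4_23 : nxCheckRange chevE8 nxca_E8_4 nxrt_E8_4 nxeta_E8_4 4 92 4 = true := by decide +kernel

set_option maxRecDepth 1000000 in
set_option maxHeartbeats 0 in
theorem nxC_E8_4_24 : nxCheckRange chevE8 nxca_E8_4 nxrt_E8_4 nxeta_E8_4 4 96 4 = true := by decide +kernel

set_option maxRecDepth 1000000 in
set_option maxHeartbeats 0 in
theorem nxC_E8_4_25 : nxCheckRange chevE8 nxca_E8_4 nxrt_E8_4 nxeta_E8_4 4 100 4 = true := by decide +kernel

set_option maxRecDepth 1000000 in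
set_option maxHeartbeats 0 in
theorem nxC_E8_4_26 : nxCheckRange chevE8 nxca_E8_4 nxrt_E8_4 nxeta_E8_4 4 104 4 = true := by decide +kernel

set_option maxRecDepth 1000000 in
set_option maxHeartbeats 0 in
theorem nxC_E8_4_27 : nxCheckRange chevE8 nxca_E8_4 nxrt_E8_4 nxeta_E8_4 4 108 4 = true := by decide +kernel

set_option maxRecDepth 1000000 in
set_option maxHeartbeats 0 in
theorem nxC_E8_4_28 : nxCheckRange chevE8 nxca_E8_4 nxrt_E8_4 nxeta_E8_4 4 112 4 = true := by decide +kernel

set_option maxRecDepth 1000000 in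
set_option maxHeartbeats 0 in
theorem nxC_E8_4_29 : nxCheckRange chevE8 nxca_E8_4 nxrt_E8_4 nxeta_E8_4 4 116 4 = true := by decide +kernel

end Cfsg.Agent.helper5.Chev
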