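import Mathlib
import Cfsg.Agent.Lib_helper5_ChevOrd

set_option autoImplicit false
open Cfsg

/-! The order formula for a family of reduced words (helper5). -/

namespace Cfsg.Agent.helper5.Chev

open Cfsg.Lie

section
variable {F : Type*} [Field F] [Fintype F] (D : ChevalleyDatum)
  (hD : D ∈ [chevG2, chevB2, chevD4, chevF4, chevE6, chevE7, chevE8])

include hD in
/-- **the order formula** `|G| = |B| Σ_w q^{ℓ(w)}` from a family of reduced words representing
every element of the Weyl group exactly once -/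
theorem chev_card_of_family (hC : CommOK D) (hP : PosCommOK D) {ι : Type} [Fintype ι]
    (v : ι → List ℕ) (hredv : ∀ k, redRB D (v k) = true)
    (hcomplete : ∀ w : List ℕ, (∀ i ∈ w, i < D.rank) →
      ∃ k, ∀ r < D.nroots, applyW D w r = applyR D (v k) r)
    (hdistinct : ∀ k k', (∀ r < D.nroots, applyR D (v k) r = applyR D (v k') r) → k = k') :
    Nat.card ↥(D.group F) = Nat.card ↥(D.borelSubgroup F) *
      ∑ k : ι, Nat.card F ^ (v k).length := by
  classical
  have hR := rootsOK_of_mem D hD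
  have hNH := N_le_normalizer_H (F := F) D hD
  obtain ⟨hB, hN, hsup⟩ := Cfsg.Agent.S1043.result (F := F) D hD
  obtain ⟨P, hPB, hPN, -⟩ := chev_bnpair D hD hC hP (D.group F) hB hN hsup
  have hred : ∀ k : ι, redRB D (v k) = true := hredv
  have hlt : ∀ k : ι, ∀ i ∈ (v k).reverse, i < D.rank := fun k i hi =>
    redRB_lt D _ (hred k) i (List.mem_reverse.mp hi)
  have hnRN : ∀ k : ι, nR (F := F) D hD (v k) ∈ D.monomialSubgroup F :=
    fun k => nW_mem D hD _ (hlt k)
  have hSU : ∀ k : ι, ∀ s ∈ SR (F := F) D hD (v k),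
      s ∈ UnegOf D (nR (F := F) D hD (v k)) := fun k s hs =>
    Uneg_le_UnegOf D hD _ (hlt k) (SR_sub_Uneg D hD _ (hred k) hs)
  have hmemG : ∀ (k : ι) (b : ↥(D.borelSubgroup F))
      (s : ↥(SR (F := F) D hD (v k))),
      b.1 * nR D hD (v k) * s.1 ∈ D.group F := fun k b s =>
    Subgroup.mul_mem _ (Subgroup.mul_mem _ (hB b.2) (hN (hnRN k)))
      (hB (U_le_B D hD (UnegOf_le_U D _ (hSU k s.1 s.2))))
  let Φ : (Σ k : ι, ↥(D.borelSubgroup F) × ↥(SR (F := F) D hD (v k))) →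
      ↥(D.group F) := fun x => ⟨_, hmemG x.1 x.2.1 x.2.2⟩
  have hinj : Function.Injective Φ := by
    rintro ⟨k, b, s⟩ ⟨k', b', s'⟩ hxy
    have e : b.1 * nR D hD (v k) * s.1 = b'.1 * nR D hD (v k') * s'.1 :=
      congrArg Subtype.val hxy
    have hu := unique_form D hD hC hP _ _ _ _ _ _ b.2 b'.2 (hnRN k) (hnRN k')
      (hSU k s.1 s.2) (hSU k' s'.1 s'.2) e
    have hkk : k = k' := by
      apply hdistinct k k'
      have hh := hu.1
      have hh2 : nR D hD (v k) * ((nR D hD (v k))⁻¹ *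
          nR D hD (v k')) * (nR (F := F) D hD (v k))⁻¹ ∈
            D.diagonalSubgroup F :=
        (Subgroup.mem_normalizer_iff.mp (hNH (hnRN k)) _).mp hh
      have e2 : nW (F := F) D hD (v k').reverse =
          (nR D hD (v k) * ((nR D hD (v k))⁻¹ *
          nR D hD (v k')) * (nR (F := F) D hD (v k))⁻¹) *
            nW D hD (v k).reverse := by
        unfold nR
        group
      intro r hr
      exact (applyW_eq_of_eq D hD _ hh2 _ _ (hlt k') (hlt k) e2 r hr).symm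
    subst hkk
    obtain ⟨hbb, hss⟩ := hu.2 rfl
    have hb : b = b' := Subtype.ext hbb
    have hs : s = s' := Subtype.ext hss
    rw [hb, hs]
  have hsurj : Function.Surjective Φ := by
    rintro ⟨g, hg⟩
    obtain ⟨n, hn, hmem⟩ := Cfsg.Agent.S0308.result P ⟨g, hg⟩
    obtain ⟨x, hx, y, hy, e⟩ := DoubleCoset.mem_doubleCoset.mp hmem
    rw [SetLike.mem_coe, hPB, Subgroup.mem_subgroupOf] at hx hy
    rw [hPN, Subgroup.mem_subgroupOf] at hn
    have e' : g = (x : GL D.Idx F) * n * y := by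
      have := congrArg Subtype.val e
      simpa using this
    obtain ⟨h, hh, w, hw, hnw⟩ := mem_N_decomp D hD _ hn
    obtain ⟨k, hperm⟩ := hcomplete w hw
    obtain ⟨h', hh', hnw'⟩ := nW_eq_of_applyW_eq (F := F) D hD w (v k).reverse hw
      (hlt k) hperm
    obtain ⟨u₂, hu₂, h₂, hh₂, ey⟩ := mem_borel D hD _ (Subgroup.inv_mem _ hy)
    have ey' : (y : GL D.Idx F) = h₂⁻¹ * u₂⁻¹ := by
      rw [← inv_inv (y : GL D.Idx F), ey, mul_inv_rev]
    obtain ⟨b, hb, s, hs, e2⟩ := cell_exists D hD hC hP _ (hred k) u₂⁻¹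
      (Subgroup.inv_mem _ hu₂)
    have hh3 : nR D hD (v k) * h₂⁻¹ * (nR (F := F) D hD (v k))⁻¹ ∈
        D.diagonalSubgroup F :=
      (Subgroup.mem_normalizer_iff.mp (hNH (hnRN k)) _).mp (Subgroup.inv_mem _ hh₂)
    have hb' : (x : GL D.Idx F) * h * h' * (nR D hD (v k) * h₂⁻¹ *
        (nR (F := F) D hD (v k))⁻¹) * b ∈ D.borelSubgroup F :=
      Subgroup.mul_mem _ (Subgroup.mul_mem _ (Subgroup.mul_mem _ (Subgroup.mul_mem _ hx
        (H_le_B D hD hh)) (H_le_B D hD hh')) (H_le_B D hD hh3)) hb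
    refine ⟨⟨k, ⟨_, hb'⟩, ⟨s, hs⟩⟩, ?_⟩
    apply Subtype.ext
    show (x : GL D.Idx F) * h * h' * (nR D hD (v k) * h₂⁻¹ *
        (nR (F := F) D hD (v k))⁻¹) * b * nR D hD (v k) * s = g
    rw [e', hnw, ey', hnw']
    have e3 : (x : GL D.Idx F) * (h * (h' * nW D hD (v k).reverse)) * (h₂⁻¹ * u₂⁻¹) =
        (x : GL D.Idx F) * h * h' * (nR D hD (v k) * h₂⁻¹ *
          (nR (F := F) D hD (v k))⁻¹) * (nR D hD (v k) * u₂⁻¹) := by
      unfold nR
      group
    rw [e3, e2]
    group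
  rw [← Nat.card_eq_of_bijective Φ ⟨hinj, hsurj⟩, Nat.card_sigma, Finset.mul_sum]
  apply Finset.sum_congr rfl
  intro k _
  rw [Nat.card_prod, SR_card D hD _ (hred k)]

end


end Cfsg.Agent.helper5.Chev
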