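import Mathlib
import Cfsg.Agent.Lib_helper5_ChevPC

set_option autoImplicit false

/-! Parabolic chain certificate for type B2 (generated, helper5). -/

namespace Cfsg.Agent.helper5.Chev

open Cfsg.Lie

def pcT_B2 : List ℕ := [289921455100330243, 505817143170892288]

def pcSimp_B2 : List ℕ := [5, 4]

def pcJ_B2_1 : List ℕ := [0]

def pcPhi_B2_1 : List ℕ := []

set_option maxRecDepth 1000000 in
def pcds_B2_1 : List (List ℕ) := [[], [0]]

set_option maxRecDepth 1000000 in
def pcP_B2_1 : List ℕ := [506097522914230528, 289921455100330243]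

set_option maxRecDepth 1000000 in
def pctr_B2_1 : List (List ℕ) := [[1], [0]]

def pcJ_B2_2 : List ℕ := [0, 1]

def pcPhi_B2_2 : List ℕ := [5]

set_option maxRecDepth 1000000 in
def pcds_B2_2 : List (List ℕ) := [[], [1], [1, 0], [1, 0, 1]]

set_option maxRecDepth 1000000 in
def pcP_B2_2 : List ℕ := [506097522914230528, 505817143170892288, 288799923292407043, 216459754766206468]

set_option maxRecDepth 1000000 in
def pctr_B2_2 : List (List ℕ) := [[4, 1], [2, 0], [1, 3], [4, 2]]

end Cfsg.Agent.helper5.Chev
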