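import Mathlib
import Cfsg.Agent.Lib_helper5_ChevPC
import Cfsg.Agent.Lib_helper5_ChevPCDB2Defs
import Cfsg.Agent.Lib_helper5_ChevPCDB2_rt
import Cfsg.Agent.Lib_helper5_ChevPC5

set_option autoImplicit false

/-! Parabolic chain certificate for type B2 (generated, helper5). -/

namespace Cfsg.Agent.helper5.Chev

open Cfsg.Lie

theorem pcRTOK_B2 : RTabOK chevB2 pcT_B2 8 2 4 pcSimp_B2 :=
  rtabOK_of_check _ _ _ _ _ _ pcRT_B2

set_option maxRecDepth 1000000 in
set_option maxHeartbeats 0 in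
theorem pcPhiOK_B2_1 : PhiOK chevB2 [] pcPhi_B2_1 :=
  phiOK_of_check chevB2 pcRTOK_B2 _ _ (by decide +kernel)

set_option maxRecDepth 1000000 in
set_option maxHeartbeats 0 in
theorem pcKeys_B2_1 : keysChk 8 pcSimp_B2 pcP_B2_1 = true := by decide +kernel

set_option maxRecDepth 1000000 in
set_option maxHeartbeats 0 in
theorem pcPhiOK_B2_2 : PhiOK chevB2 pcJ_B2_1 pcPhi_B2_2 :=
  phiOK_of_check chevB2 pcRTOK_B2 _ _ (by decide +kernel)

set_option maxRecDepth 1000000 in
set_option maxHeartbeats 0 in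
theorem pcKeys_B2_2 : keysChk 8 pcSimp_B2 pcP_B2_2 = true := by decide +kernel

end Cfsg.Agent.helper5.Chev
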