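import Mathlib
import Cfsg.Agent.Lib_helper5_ChevPC
import Cfsg.Agent.Lib_helper5_ChevPCDB2_l1p1c00
import Cfsg.Agent.Lib_helper5_ChevPCDB2_l1p2c00
import Cfsg.Agent.Lib_helper5_ChevPCDB2_l2p1c00
import Cfsg.Agent.Lib_helper5_ChevPCDB2_l2p2c00
import Cfsg.Agent.Lib_helper5_ChevPCDB2_misc
import Cfsg.Agent.Lib_helper5_ChevSum

set_option autoImplicit false

/-! Parabolic chain certificate for type B2 (generated, helper5). -/

namespace Cfsg.Agent.helper5.Chev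

open Cfsg.Lie

theorem pcMem_B2 : chevB2 ∈ [chevG2, chevB2, chevD4, chevF4, chevE6, chevE7, chevE8] := by simp

abbrev pcI_B2_0 : Type := Unit

def pcV_B2_0 : pcI_B2_0 → List ℕ := fun _ => []

theorem pcFam_B2_0 : LevFam chevB2 [] pcV_B2_0 := levFam_base _

theorem pcSumL_B2_0 (q : ℕ) : ∑ k, q ^ (pcV_B2_0 k).length = 1 := by
  simp [pcV_B2_0]

abbrev pcI_B2_1 : Type := Fin pcds_B2_1.length × pcI_B2_0

def pcV_B2_1 : pcI_B2_1 → List ℕ := stepV pcV_B2_0 pcds_B2_1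

set_option maxRecDepth 1000000 in
set_option maxHeartbeats 0 in
theorem pcCert_B2_1 : LevCert chevB2 pcJ_B2_1 [] pcPhi_B2_1 pcds_B2_1 := by
  refine levCert_of_checks chevB2 pcMem_B2 pcRTOK_B2 pcJ_B2_1 [] pcPhi_B2_1 pcds_B2_1
    pcP_B2_1 pctr_B2_1 2 pcPhiOK_B2_1 (by decide +kernel) (by decide +kernel) (by decide +kernel)
    (by decide +kernel) (by decide +kernel) ?_ ?_ pcKeys_B2_1
  · apply all2_of_chunks _ [] 0 _ _ 40 1 (by norm_num) (by decide +kernel)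
    intro c hc
    interval_cases c
    · exact pcC_B2_1_1_0
  · apply all2_of_chunks _ 0 [] _ _ 40 1 (by norm_num) (by decide +kernel)
    intro c hc
    interval_cases c
    · exact pcC_B2_1_2_0

theorem pcFam_B2_1 : LevFam chevB2 pcJ_B2_1 pcV_B2_1 :=
  levFam_step chevB2 pcMem_B2 pcJ_B2_1 [] pcPhi_B2_1 pcPhiOK_B2_1 pcds_B2_1
    pcCert_B2_1 pcV_B2_0 pcFam_B2_0

set_option maxRecDepth 1000000 in
set_option maxHeartbeats 0 in
theorem pcS_B2_1 (q : ℕ) : (pcds_B2_1.map fun d => q ^ d.length).sum =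
    (List.zipWith (fun c j => c * q ^ j) [1, 1] (List.range 2)).sum :=
  sum_pow_length_eq q _ 2 _ (by decide +kernel) (by decide +kernel)

def pcPoly_B2_1 (q : ℕ) : ℕ :=
  (List.zipWith (fun c j => c * q ^ j) [1, 1] (List.range 2)).sum * 1

theorem pcSumL_B2_1 (q : ℕ) : ∑ k, q ^ (pcV_B2_1 k).length = pcPoly_B2_1 q := by
  refine (sum_stepV pcV_B2_0 pcds_B2_1 q).trans ?_
  rw [pcS_B2_1, pcSumL_B2_0 q]
  rfl

abbrev pcI_B2_2 : Type := Fin pcds_B2_2.length × pcI_B2_1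

def pcV_B2_2 : pcI_B2_2 → List ℕ := stepV pcV_B2_1 pcds_B2_2

set_option maxRecDepth 1000000 in
set_option maxHeartbeats 0 in
theorem pcCert_B2_2 : LevCert chevB2 pcJ_B2_2 pcJ_B2_1 pcPhi_B2_2 pcds_B2_2 := by
  refine levCert_of_checks chevB2 pcMem_B2 pcRTOK_B2 pcJ_B2_2 pcJ_B2_1 pcPhi_B2_2 pcds_B2_2
    pcP_B2_2 pctr_B2_2 4 pcPhiOK_B2_2 (by decide +kernel) (by decide +kernel) (by decide +kernel)
    (by decide +kernel) (by decide +kernel) ?_ ?_ pcKeys_B2_2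
  · apply all2_of_chunks _ [] 0 _ _ 40 1 (by norm_num) (by decide +kernel)
    intro c hc
    interval_cases c
    · exact pcC_B2_2_1_0
  · apply all2_of_chunks _ 0 [] _ _ 40 1 (by norm_num) (by decide +kernel)
    intro c hc
    interval_cases c
    · exact pcC_B2_2_2_0

theorem pcFam_B2_2 : LevFam chevB2 pcJ_B2_2 pcV_B2_2 :=
  levFam_step chevB2 pcMem_B2 pcJ_B2_2 pcJ_B2_1 pcPhi_B2_2 pcPhiOK_B2_2 pcds_B2_2
    pcCert_B2_2 pcV_B2_1 pcFam_B2_1

set_option maxRecDepth 1000000 in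
set_option maxHeartbeats 0 in
theorem pcS_B2_2 (q : ℕ) : (pcds_B2_2.map fun d => q ^ d.length).sum =
    (List.zipWith (fun c j => c * q ^ j) [1, 1, 1, 1] (List.range 4)).sum :=
  sum_pow_length_eq q _ 4 _ (by decide +kernel) (by decide +kernel)

def pcPoly_B2_2 (q : ℕ) : ℕ :=
  (List.zipWith (fun c j => c * q ^ j) [1, 1, 1, 1] (List.range 4)).sum * pcPoly_B2_1 q

theorem pcSumL_B2_2 (q : ℕ) : ∑ k, q ^ (pcV_B2_2 k).length = pcPoly_B2_2 q := by
  refine (sum_stepV pcV_B2_1 pcds_B2_2 q).trans ?_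
  rw [pcS_B2_2, pcSumL_B2_1 q]
  rfl

theorem pcTop_B2 : ∀ i < chevB2.rank, i ∈ pcJ_B2_2 := by decide +kernel

end Cfsg.Agent.helper5.Chev
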