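import Mathlib
import Cfsg.Agent.Lib_helper5_ChevPC

set_option autoImplicit false

/-! Parabolic chain certificate for type D4 (generated, helper5). -/

namespace Cfsg.Agent.helper5.Chev

open Cfsg.Lie

def pcT_D4 : List ℕ := [565592643864087472290204273757603651193062799363369534976, 541649279090809664310305499994679834166397163664360734721, 565881119482020990812274433957960368099339668429056770816, 565978018496368764364970633948976412520310965285293195776]

def pcSimp_D4 : List ℕ := [18, 14, 13, 12]

def pcJ_D4_1 : List ℕ := [0]

def pcPhi_D4_1 : List ℕ := []

set_option maxRecDepth 1000000 in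
def pcds_D4_1 : List (List ℕ) := [[], [0]]

set_option maxRecDepth 1000000 in
def pcP_D4_1 : List ℕ := [566073426779046459040877649791461066728553822781039575296, 565592643864087472290204273757603651193062799363369534976]

set_option maxRecDepth 1000000 in
def pctr_D4_1 : List (List ℕ) := [[1], [0]]

def pcJ_D4_2 : List ℕ := [0, 1]

def pcPhi_D4_2 : List ℕ := [18]

set_option maxRecDepth 1000000 in
def pcds_D4_2 : List (List ℕ) := [[], [1], [1, 0]]

set_option maxRecDepth 1000000 in
def pcP_D4_2 : List ℕ := [566073426779046459040877649791461066728553822781039575296, 541649279090809664310305499994679834166397163664360734721, 419047757717606637246089078280482453795135669039884861446]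

set_option maxRecDepth 1000000 in
def pctr_D4_2 : List (List ℕ) := [[3, 1], [2, 0], [1, 3]]

def pcJ_D4_3 : List ℕ := [0, 1, 2]

def pcPhi_D4_3 : List ℕ := [14, 18, 19]

set_option maxRecDepth 1000000 in
def pcds_D4_3 : List (List ℕ) := [[], [2], [2, 1], [2, 1, 0]]

set_option maxRecDepth 1000000 in
def pcP_D4_3 : List ℕ := [566073426779046459040877649791461066728553822781039575296, 565881119482020990812274433957960368099339668429056770816, 541360818145271287405210002820587615059322471851766383361, 418277406113374091948515828959365406828433413919657297926]

set_option maxRecDepth 1000000 in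
def pctr_D4_3 : List (List ℕ) := [[4, 5, 1], [4, 2, 0], [3, 1, 5], [2, 4, 5]]

def pcJ_D4_4 : List ℕ := [0, 1, 2, 3]

def pcPhi_D4_4 : List ℕ := [13, 14, 16, 18, 19, 21]

set_option maxRecDepth 1000000 in
def pcds_D4_4 : List (List ℕ) := [[], [3], [3, 1], [3, 1, 0], [3, 1, 2], [3, 1, 0, 2], [3, 1, 0, 2, 1], [3, 1, 0, 2, 1, 3]]

set_option maxRecDepth 1000000 in
def pcP_D4_4 : List ℕ := [566073426779046459040877649791461066728553822781039575296, 565978018496368764364970633948976412520310965285293195776, 541458462525454101413160302537574386157308128248975065601, 418379895371484661289171565178005280707162266177632208646, 492227043286599742850362118748279219857892897047837672451, 369148476132630302726373381388710114407747034976494815496, 295109409708559089642447931671592764948407385639469780491, 270493324471770877588290445702927215677076474864842444556]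

set_option maxRecDepth 1000000 in
def pctr_D4_4 : List (List ℕ) := [[8, 9, 10, 1], [8, 2, 10, 0], [3, 1, 4, 9], [2, 8, 5, 9], [5, 10, 2, 9], [4, 6, 3, 9], [10, 5, 8, 7], [10, 9, 8, 6]]

end Cfsg.Agent.helper5.Chev
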