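import Mathlib
import Cfsg.Agent.Lib_helper5_ChevPC
import Cfsg.Agent.Lib_helper5_ChevPCDD4Defs
import Cfsg.Agent.Lib_helper5_ChevPCDD4_rt
import Cfsg.Agent.Lib_helper5_ChevPC5

set_option autoImplicit false

/-! Parabolic chain certificate for type D4 (generated, helper5). -/

namespace Cfsg.Agent.helper5.Chev

open Cfsg.Lie

theorem pcRTOK_D4 : RTabOK chevD4 pcT_D4 24 4 12 pcSimp_D4 :=
  rtabOK_of_check _ _ _ _ _ _ pcRT_D4

set_option maxRecDepth 1000000 in
set_option maxHeartbeats 0 in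
theorem pcPhiOK_D4_1 : PhiOK chevD4 [] pcPhi_D4_1 :=
  phiOK_of_check chevD4 pcRTOK_D4 _ _ (by decide +kernel)

set_option maxRecDepth 1000000 in
set_option maxHeartbeats 0 in
theorem pcKeys_D4_1 : keysChk 24 pcSimp_D4 pcP_D4_1 = true := by decide +kernel

set_option maxRecDepth 1000000 in
set_option maxHeartbeats 0 in
theorem pcPhiOK_D4_2 : PhiOK chevD4 pcJ_D4_1 pcPhi_D4_2 :=
  phiOK_of_check chevD4 pcRTOK_D4 _ _ (by decide +kernel)

set_option maxRecDepth 1000000 in
set_option maxHeartbeats 0 in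
theorem pcKeys_D4_2 : keysChk 24 pcSimp_D4 pcP_D4_2 = true := by decide +kernel

set_option maxRecDepth 1000000 in
set_option maxHeartbeats 0 in
theorem pcPhiOK_D4_3 : PhiOK chevD4 pcJ_D4_2 pcPhi_D4_3 :=
  phiOK_of_check chevD4 pcRTOK_D4 _ _ (by decide +kernel)

set_option maxRecDepth 1000000 in
set_option maxHeartbeats 0 in
theorem pcKeys_D4_3 : keysChk 24 pcSimp_D4 pcP_D4_3 = true := by decide +kernel

set_option maxRecDepth 1000000 in
set_option maxHeartbeats 0 in
theorem pcPhiOK_D4_4 : PhiOK chevD4 pcJ_D4_3 pcPhi_D4_4 :=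
  phiOK_of_check chevD4 pcRTOK_D4 _ _ (by decide +kernel)

set_option maxRecDepth 1000000 in
set_option maxHeartbeats 0 in
theorem pcKeys_D4_4 : keysChk 24 pcSimp_D4 pcP_D4_4 = true := by decide +kernel

end Cfsg.Agent.helper5.Chev
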