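import Mathlib
import Cfsg.Agent.Lib_helper5_ChevPC
import Cfsg.Agent.Lib_helper5_ChevPCDE6Defs
import Cfsg.Agent.Lib_helper5_ChevPCDE6_rt
import Cfsg.Agent.Lib_helper5_ChevPC5

set_option autoImplicit false

/-! Parabolic chain certificate for type E6 (generated, helper5). -/

namespace Cfsg.Agent.helper5.Chev

open Cfsg.Lie

theorem pcRTOK_E6 : RTabOK chevE6 pcT_E6 72 6 36 pcSimp_E6 :=
  rtabOK_of_check _ _ _ _ _ _ pcRT_E6

set_option maxRecDepth 1000000 in
set_option maxHeartbeats 0 in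
theorem pcPhiOK_E6_1 : PhiOK chevE6 [] pcPhi_E6_1 :=
  phiOK_of_check chevE6 pcRTOK_E6 _ _ (by decide +kernel)

set_option maxRecDepth 1000000 in
set_option maxHeartbeats 0 in
theorem pcKeys_E6_1 : keysChk 72 pcSimp_E6 pcP_E6_1 = true := by decide +kernel

set_option maxRecDepth 1000000 in
set_option maxHeartbeats 0 in
theorem pcPhiOK_E6_2 : PhiOK chevE6 pcJ_E6_1 pcPhi_E6_2 :=
  phiOK_of_check chevE6 pcRTOK_E6 _ _ (by decide +kernel)

set_option maxRecDepth 1000000 in
set_option maxHeartbeats 0 in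
theorem pcKeys_E6_2 : keysChk 72 pcSimp_E6 pcP_E6_2 = true := by decide +kernel

set_option maxRecDepth 1000000 in
set_option maxHeartbeats 0 in
theorem pcPhiOK_E6_3 : PhiOK chevE6 pcJ_E6_2 pcPhi_E6_3 :=
  phiOK_of_check chevE6 pcRTOK_E6 _ _ (by decide +kernel)

set_option maxRecDepth 1000000 in
set_option maxHeartbeats 0 in
theorem pcKeys_E6_3 : keysChk 72 pcSimp_E6 pcP_E6_3 = true := by decide +kernel

set_option maxRecDepth 1000000 in
set_option maxHeartbeats 0 in
theorem pcPhiOK_E6_4 : PhiOK chevE6 pcJ_E6_3 pcPhi_E6_4 :=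
  phiOK_of_check chevE6 pcRTOK_E6 _ _ (by decide +kernel)

set_option maxRecDepth 1000000 in
set_option maxHeartbeats 0 in
theorem pcKeys_E6_4 : keysChk 72 pcSimp_E6 pcP_E6_4 = true := by decide +kernel

set_option maxRecDepth 1000000 in
set_option maxHeartbeats 0 in
theorem pcPhiOK_E6_5 : PhiOK chevE6 pcJ_E6_4 pcPhi_E6_5 :=
  phiOK_of_check chevE6 pcRTOK_E6 _ _ (by decide +kernel)

set_option maxRecDepth 1000000 in
set_option maxHeartbeats 0 in
theorem pcKeys_E6_5 : keysChk 72 pcSimp_E6 pcP_E6_5 = true := by decide +kernel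

set_option maxRecDepth 1000000 in
set_option maxHeartbeats 0 in
theorem pcPhiOK_E6_6 : PhiOK chevE6 pcJ_E6_5 pcPhi_E6_6 :=
  phiOK_of_check chevE6 pcRTOK_E6 _ _ (by decide +kernel)

set_option maxRecDepth 1000000 in
set_option maxHeartbeats 0 in
theorem pcKeys_E6_6 : keysChk 72 pcSimp_E6 pcP_E6_6 = true := by decide +kernel

end Cfsg.Agent.helper5.Chev
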