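import Mathlib
import Cfsg.Agent.Lib_helper5_ChevPC
import Cfsg.Agent.Lib_helper5_ChevPCDE7_l1p1c00
import Cfsg.Agent.Lib_helper5_ChevPCDE7_l1p2c00
import Cfsg.Agent.Lib_helper5_ChevPCDE7_l2p1c00
import Cfsg.Agent.Lib_helper5_ChevPCDE7_l2p2c00
import Cfsg.Agent.Lib_helper5_ChevPCDE7_l3p1c00
import Cfsg.Agent.Lib_helper5_ChevPCDE7_l3p2c00
import Cfsg.Agent.Lib_helper5_ChevPCDE7_l4p1c00
import Cfsg.Agent.Lib_helper5_ChevPCDE7_l4p2c00
import Cfsg.Agent.Lib_helper5_ChevPCDE7_l5p1c00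
import Cfsg.Agent.Lib_helper5_ChevPCDE7_l5p2c00
import Cfsg.Agent.Lib_helper5_ChevPCDE7_l6p1c00
import Cfsg.Agent.Lib_helper5_ChevPCDE7_l6p2c00
import Cfsg.Agent.Lib_helper5_ChevPCDE7_l7p1c00
import Cfsg.Agent.Lib_helper5_ChevPCDE7_l7p1c01
import Cfsg.Agent.Lib_helper5_ChevPCDE7_l7p2c00
import Cfsg.Agent.Lib_helper5_ChevPCDE7_l7p2c01
import Cfsg.Agent.Lib_helper5_ChevPCDE7_misc
import Cfsg.Agent.Lib_helper5_ChevSum

set_option autoImplicit false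

/-! Parabolic chain certificate for type E7 (generated, helper5). -/

namespace Cfsg.Agent.helper5.Chev

open Cfsg.Lie

theorem pcMem_E7 : chevE7 ∈ [chevG2, chevB2, chevD4, chevF4, chevE6, chevE7, chevE8] := by simp

abbrev pcI_E7_0 : Type := Unit

def pcV_E7_0 : pcI_E7_0 → List ℕ := fun _ => []

theorem pcFam_E7_0 : LevFam chevE7 [] pcV_E7_0 := levFam_base _

theorem pcSumL_E7_0 (q : ℕ) : ∑ k, q ^ (pcV_E7_0 k).length = 1 := by
  simp [pcV_E7_0]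

abbrev pcI_E7_1 : Type := Fin pcds_E7_1.length × pcI_E7_0

def pcV_E7_1 : pcI_E7_1 → List ℕ := stepV pcV_E7_0 pcds_E7_1

set_option maxRecDepth 1000000 in
set_option maxHeartbeats 0 in
theorem pcCert_E7_1 : LevCert chevE7 pcJ_E7_1 [] pcPhi_E7_1 pcds_E7_1 := by
  refine levCert_of_checks chevE7 pcMem_E7 pcRTOK_E7 pcJ_E7_1 [] pcPhi_E7_1 pcds_E7_1
    pcP_E7_1 pctr_E7_1 2 pcPhiOK_E7_1 (by decide +kernel) (by decide +kernel) (by decide +kernel)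
    (by decide +kernel) (by decide +kernel) ?_ ?_ pcKeys_E7_1
  · apply all2_of_chunks _ [] 0 _ _ 40 1 (by norm_num) (by decide +kernel)
    intro c hc
    interval_cases c
    · exact pcC_E7_1_1_0
  · apply all2_of_chunks _ 0 [] _ _ 40 1 (by norm_num) (by decide +kernel)
    intro c hc
    interval_cases c
    · exact pcC_E7_1_2_0

theorem pcFam_E7_1 : LevFam chevE7 pcJ_E7_1 pcV_E7_1 :=
  levFam_step chevE7 pcMem_E7 pcJ_E7_1 [] pcPhi_E7_1 pcPhiOK_E7_1 pcds_E7_1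
    pcCert_E7_1 pcV_E7_0 pcFam_E7_0

set_option maxRecDepth 1000000 in
set_option maxHeartbeats 0 in
theorem pcS_E7_1 (q : ℕ) : (pcds_E7_1.map fun d => q ^ d.length).sum =
    (List.zipWith (fun c j => c * q ^ j) [1, 1] (List.range 2)).sum :=
  sum_pow_length_eq q _ 2 _ (by decide +kernel) (by decide +kernel)

def pcPoly_E7_1 (q : ℕ) : ℕ :=
  (List.zipWith (fun c j => c * q ^ j) [1, 1] (List.range 2)).sum * 1

theorem pcSumL_E7_1 (q : ℕ) : ∑ k, q ^ (pcV_E7_1 k).length = pcPoly_E7_1 q := by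
  refine (sum_stepV pcV_E7_0 pcds_E7_1 q).trans ?_
  rw [pcS_E7_1, pcSumL_E7_0 q]
  rfl

abbrev pcI_E7_2 : Type := Fin pcds_E7_2.length × pcI_E7_1

def pcV_E7_2 : pcI_E7_2 → List ℕ := stepV pcV_E7_1 pcds_E7_2

set_option maxRecDepth 1000000 in
set_option maxHeartbeats 0 in
theorem pcCert_E7_2 : LevCert chevE7 pcJ_E7_2 pcJ_E7_1 pcPhi_E7_2 pcds_E7_2 := by
  refine levCert_of_checks chevE7 pcMem_E7 pcRTOK_E7 pcJ_E7_2 pcJ_E7_1 pcPhi_E7_2 pcds_E7_2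
    pcP_E7_2 pctr_E7_2 3 pcPhiOK_E7_2 (by decide +kernel) (by decide +kernel) (by decide +kernel)
    (by decide +kernel) (by decide +kernel) ?_ ?_ pcKeys_E7_2
  · apply all2_of_chunks _ [] 0 _ _ 40 1 (by norm_num) (by decide +kernel)
    intro c hc
    interval_cases c
    · exact pcC_E7_2_1_0
  · apply all2_of_chunks _ 0 [] _ _ 40 1 (by norm_num) (by decide +kernel)
    intro c hc
    interval_cases c
    · exact pcC_E7_2_2_0

theorem pcFam_E7_2 : LevFam chevE7 pcJ_E7_2 pcV_E7_2 :=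
  levFam_step chevE7 pcMem_E7 pcJ_E7_2 pcJ_E7_1 pcPhi_E7_2 pcPhiOK_E7_2 pcds_E7_2
    pcCert_E7_2 pcV_E7_1 pcFam_E7_1

set_option maxRecDepth 1000000 in
set_option maxHeartbeats 0 in
theorem pcS_E7_2 (q : ℕ) : (pcds_E7_2.map fun d => q ^ d.length).sum =
    (List.zipWith (fun c j => c * q ^ j) [1, 1, 1] (List.range 3)).sum :=
  sum_pow_length_eq q _ 3 _ (by decide +kernel) (by decide +kernel)

def pcPoly_E7_2 (q : ℕ) : ℕ :=
  (List.zipWith (fun c j => c * q ^ j) [1, 1, 1] (List.range 3)).sum * pcPoly_E7_1 q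

theorem pcSumL_E7_2 (q : ℕ) : ∑ k, q ^ (pcV_E7_2 k).length = pcPoly_E7_2 q := by
  refine (sum_stepV pcV_E7_1 pcds_E7_2 q).trans ?_
  rw [pcS_E7_2, pcSumL_E7_1 q]
  rfl

abbrev pcI_E7_3 : Type := Fin pcds_E7_3.length × pcI_E7_2

def pcV_E7_3 : pcI_E7_3 → List ℕ := stepV pcV_E7_2 pcds_E7_3

set_option maxRecDepth 1000000 in
set_option maxHeartbeats 0 in
theorem pcCert_E7_3 : LevCert chevE7 pcJ_E7_3 pcJ_E7_2 pcPhi_E7_3 pcds_E7_3 := by
  refine levCert_of_checks chevE7 pcMem_E7 pcRTOK_E7 pcJ_E7_3 pcJ_E7_2 pcPhi_E7_3 pcds_E7_3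
    pcP_E7_3 pctr_E7_3 4 pcPhiOK_E7_3 (by decide +kernel) (by decide +kernel) (by decide +kernel)
    (by decide +kernel) (by decide +kernel) ?_ ?_ pcKeys_E7_3
  · apply all2_of_chunks _ [] 0 _ _ 40 1 (by norm_num) (by decide +kernel)
    intro c hc
    interval_cases c
    · exact pcC_E7_3_1_0
  · apply all2_of_chunks _ 0 [] _ _ 40 1 (by norm_num) (by decide +kernel)
    intro c hc
    interval_cases c
    · exact pcC_E7_3_2_0

theorem pcFam_E7_3 : LevFam chevE7 pcJ_E7_3 pcV_E7_3 :=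
  levFam_step chevE7 pcMem_E7 pcJ_E7_3 pcJ_E7_2 pcPhi_E7_3 pcPhiOK_E7_3 pcds_E7_3
    pcCert_E7_3 pcV_E7_2 pcFam_E7_2

set_option maxRecDepth 1000000 in
set_option maxHeartbeats 0 in
theorem pcS_E7_3 (q : ℕ) : (pcds_E7_3.map fun d => q ^ d.length).sum =
    (List.zipWith (fun c j => c * q ^ j) [1, 1, 1, 1] (List.range 4)).sum :=
  sum_pow_length_eq q _ 4 _ (by decide +kernel) (by decide +kernel)

def pcPoly_E7_3 (q : ℕ) : ℕ :=
  (List.zipWith (fun c j => c * q ^ j) [1, 1, 1, 1] (List.range 4)).sum * pcPoly_E7_2 q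

theorem pcSumL_E7_3 (q : ℕ) : ∑ k, q ^ (pcV_E7_3 k).length = pcPoly_E7_3 q := by
  refine (sum_stepV pcV_E7_2 pcds_E7_3 q).trans ?_
  rw [pcS_E7_3, pcSumL_E7_2 q]
  rfl

abbrev pcI_E7_4 : Type := Fin pcds_E7_4.length × pcI_E7_3

def pcV_E7_4 : pcI_E7_4 → List ℕ := stepV pcV_E7_3 pcds_E7_4

set_option maxRecDepth 1000000 in
set_option maxHeartbeats 0 in
theorem pcCert_E7_4 : LevCert chevE7 pcJ_E7_4 pcJ_E7_3 pcPhi_E7_4 pcds_E7_4 := by
  refine levCert_of_checks chevE7 pcMem_E7 pcRTOK_E7 pcJ_E7_4 pcJ_E7_3 pcPhi_E7_4 pcds_E7_4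
    pcP_E7_4 pctr_E7_4 8 pcPhiOK_E7_4 (by decide +kernel) (by decide +kernel) (by decide +kernel)
    (by decide +kernel) (by decide +kernel) ?_ ?_ pcKeys_E7_4
  · apply all2_of_chunks _ [] 0 _ _ 40 1 (by norm_num) (by decide +kernel)
    intro c hc
    interval_cases c
    · exact pcC_E7_4_1_0
  · apply all2_of_chunks _ 0 [] _ _ 40 1 (by norm_num) (by decide +kernel)
    intro c hc
    interval_cases c
    · exact pcC_E7_4_2_0

theorem pcFam_E7_4 : LevFam chevE7 pcJ_E7_4 pcV_E7_4 :=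
  levFam_step chevE7 pcMem_E7 pcJ_E7_4 pcJ_E7_3 pcPhi_E7_4 pcPhiOK_E7_4 pcds_E7_4
    pcCert_E7_4 pcV_E7_3 pcFam_E7_3

set_option maxRecDepth 1000000 in
set_option maxHeartbeats 0 in
theorem pcS_E7_4 (q : ℕ) : (pcds_E7_4.map fun d => q ^ d.length).sum =
    (List.zipWith (fun c j => c * q ^ j) [1, 1, 1, 2, 1, 1, 1] (List.range 7)).sum :=
  sum_pow_length_eq q _ 7 _ (by decide +kernel) (by decide +kernel)

def pcPoly_E7_4 (q : ℕ) : ℕ :=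
  (List.zipWith (fun c j => c * q ^ j) [1, 1, 1, 2, 1, 1, 1] (List.range 7)).sum * pcPoly_E7_3 q

theorem pcSumL_E7_4 (q : ℕ) : ∑ k, q ^ (pcV_E7_4 k).length = pcPoly_E7_4 q := by
  refine (sum_stepV pcV_E7_3 pcds_E7_4 q).trans ?_
  rw [pcS_E7_4, pcSumL_E7_3 q]
  rfl

abbrev pcI_E7_5 : Type := Fin pcds_E7_5.length × pcI_E7_4

def pcV_E7_5 : pcI_E7_5 → List ℕ := stepV pcV_E7_4 pcds_E7_5

set_option maxRecDepth 1000000 in
set_option maxHeartbeats 0 in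
theorem pcCert_E7_5 : LevCert chevE7 pcJ_E7_5 pcJ_E7_4 pcPhi_E7_5 pcds_E7_5 := by
  refine levCert_of_checks chevE7 pcMem_E7 pcRTOK_E7 pcJ_E7_5 pcJ_E7_4 pcPhi_E7_5 pcds_E7_5
    pcP_E7_5 pctr_E7_5 10 pcPhiOK_E7_5 (by decide +kernel) (by decide +kernel) (by decide +kernel)
    (by decide +kernel) (by decide +kernel) ?_ ?_ pcKeys_E7_5
  · apply all2_of_chunks _ [] 0 _ _ 40 1 (by norm_num) (by decide +kernel)
    intro c hc
    interval_cases c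
    · exact pcC_E7_5_1_0
  · apply all2_of_chunks _ 0 [] _ _ 40 1 (by norm_num) (by decide +kernel)
    intro c hc
    interval_cases c
    · exact pcC_E7_5_2_0

theorem pcFam_E7_5 : LevFam chevE7 pcJ_E7_5 pcV_E7_5 :=
  levFam_step chevE7 pcMem_E7 pcJ_E7_5 pcJ_E7_4 pcPhi_E7_5 pcPhiOK_E7_5 pcds_E7_5
    pcCert_E7_5 pcV_E7_4 pcFam_E7_4

set_option maxRecDepth 1000000 in
set_option maxHeartbeats 0 in
theorem pcS_E7_5 (q : ℕ) : (pcds_E7_5.map fun d => q ^ d.length).sum =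
    (List.zipWith (fun c j => c * q ^ j) [1, 1, 1, 1, 2, 1, 1, 1, 1] (List.range 9)).sum :=
  sum_pow_length_eq q _ 9 _ (by decide +kernel) (by decide +kernel)

def pcPoly_E7_5 (q : ℕ) : ℕ :=
  (List.zipWith (fun c j => c * q ^ j) [1, 1, 1, 1, 2, 1, 1, 1, 1] (List.range 9)).sum * pcPoly_E7_4 q

theorem pcSumL_E7_5 (q : ℕ) : ∑ k, q ^ (pcV_E7_5 k).length = pcPoly_E7_5 q := by
  refine (sum_stepV pcV_E7_4 pcds_E7_5 q).trans ?_
  rw [pcS_E7_5, pcSumL_E7_4 q]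
  rfl

abbrev pcI_E7_6 : Type := Fin pcds_E7_6.length × pcI_E7_5

def pcV_E7_6 : pcI_E7_6 → List ℕ := stepV pcV_E7_5 pcds_E7_6

set_option maxRecDepth 1000000 in
set_option maxHeartbeats 0 in
theorem pcCert_E7_6 : LevCert chevE7 pcJ_E7_6 pcJ_E7_5 pcPhi_E7_6 pcds_E7_6 := by
  refine levCert_of_checks chevE7 pcMem_E7 pcRTOK_E7 pcJ_E7_6 pcJ_E7_5 pcPhi_E7_6 pcds_E7_6
    pcP_E7_6 pctr_E7_6 27 pcPhiOK_E7_6 (by decide +kernel) (by decide +kernel) (by decide +kernel)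
    (by decide +kernel) (by decide +kernel) ?_ ?_ pcKeys_E7_6
  · apply all2_of_chunks _ [] 0 _ _ 40 1 (by norm_num) (by decide +kernel)
    intro c hc
    interval_cases c
    · exact pcC_E7_6_1_0
  · apply all2_of_chunks _ 0 [] _ _ 40 1 (by norm_num) (by decide +kernel)
    intro c hc
    interval_cases c
    · exact pcC_E7_6_2_0

theorem pcFam_E7_6 : LevFam chevE7 pcJ_E7_6 pcV_E7_6 :=
  levFam_step chevE7 pcMem_E7 pcJ_E7_6 pcJ_E7_5 pcPhi_E7_6 pcPhiOK_E7_6 pcds_E7_6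
    pcCert_E7_6 pcV_E7_5 pcFam_E7_5

set_option maxRecDepth 1000000 in
set_option maxHeartbeats 0 in
theorem pcS_E7_6 (q : ℕ) : (pcds_E7_6.map fun d => q ^ d.length).sum =
    (List.zipWith (fun c j => c * q ^ j) [1, 1, 1, 1, 2, 2, 2, 2, 3, 2, 2, 2, 2, 1, 1, 1, 1] (List.range 17)).sum :=
  sum_pow_length_eq q _ 17 _ (by decide +kernel) (by decide +kernel)

def pcPoly_E7_6 (q : ℕ) : ℕ :=
  (List.zipWith (fun c j => c * q ^ j) [1, 1, 1, 1, 2, 2, 2, 2, 3, 2, 2, 2, 2, 1, 1, 1, 1] (List.range 17)).sum * pcPoly_E7_5 q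

theorem pcSumL_E7_6 (q : ℕ) : ∑ k, q ^ (pcV_E7_6 k).length = pcPoly_E7_6 q := by
  refine (sum_stepV pcV_E7_5 pcds_E7_6 q).trans ?_
  rw [pcS_E7_6, pcSumL_E7_5 q]
  rfl

abbrev pcI_E7_7 : Type := Fin pcds_E7_7.length × pcI_E7_6

def pcV_E7_7 : pcI_E7_7 → List ℕ := stepV pcV_E7_6 pcds_E7_7

set_option maxRecDepth 1000000 in
set_option maxHeartbeats 0 in
theorem pcCert_E7_7 : LevCert chevE7 pcJ_E7_7 pcJ_E7_6 pcPhi_E7_7 pcds_E7_7 := by
  refine levCert_of_checks chevE7 pcMem_E7 pcRTOK_E7 pcJ_E7_7 pcJ_E7_6 pcPhi_E7_7 pcds_E7_7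
    pcP_E7_7 pctr_E7_7 56 pcPhiOK_E7_7 (by decide +kernel) (by decide +kernel) (by decide +kernel)
    (by decide +kernel) (by decide +kernel) ?_ ?_ pcKeys_E7_7
  · apply all2_of_chunks _ [] 0 _ _ 40 2 (by norm_num) (by decide +kernel)
    intro c hc
    interval_cases c
    · exact pcC_E7_7_1_0
    · exact pcC_E7_7_1_1
  · apply all2_of_chunks _ 0 [] _ _ 40 2 (by norm_num) (by decide +kernel)
    intro c hc
    interval_cases c
    · exact pcC_E7_7_2_0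
    · exact pcC_E7_7_2_1

theorem pcFam_E7_7 : LevFam chevE7 pcJ_E7_7 pcV_E7_7 :=
  levFam_step chevE7 pcMem_E7 pcJ_E7_7 pcJ_E7_6 pcPhi_E7_7 pcPhiOK_E7_7 pcds_E7_7
    pcCert_E7_7 pcV_E7_6 pcFam_E7_6

set_option maxRecDepth 1000000 in
set_option maxHeartbeats 0 in
theorem pcS_E7_7 (q : ℕ) : (pcds_E7_7.map fun d => q ^ d.length).sum =
    (List.zipWith (fun c j => c * q ^ j) [1, 1, 1, 1, 1, 2, 2, 2, 2, 3, 3, 3, 3, 3, 3, 3, 3, 3, 3, 2, 2, 2, 2, 1, 1, 1, 1, 1] (List.range 28)).sum :=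
  sum_pow_length_eq q _ 28 _ (by decide +kernel) (by decide +kernel)

def pcPoly_E7_7 (q : ℕ) : ℕ :=
  (List.zipWith (fun c j => c * q ^ j) [1, 1, 1, 1, 1, 2, 2, 2, 2, 3, 3, 3, 3, 3, 3, 3, 3, 3, 3, 2, 2, 2, 2, 1, 1, 1, 1, 1] (List.range 28)).sum * pcPoly_E7_6 q

theorem pcSumL_E7_7 (q : ℕ) : ∑ k, q ^ (pcV_E7_7 k).length = pcPoly_E7_7 q := by
  refine (sum_stepV pcV_E7_6 pcds_E7_7 q).trans ?_
  rw [pcS_E7_7, pcSumL_E7_6 q]
  rfl

theorem pcTop_E7 : ∀ i < chevE7.rank, i ∈ pcJ_E7_7 := by decide +kernel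

end Cfsg.Agent.helper5.Chev
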