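import Mathlib
import Cfsg.Agent.Lib_helper5_ChevPC
import Cfsg.Agent.Lib_helper5_ChevPCDE8_l1p1c00
import Cfsg.Agent.Lib_helper5_ChevPCDE8_l1p2c00
import Cfsg.Agent.Lib_helper5_ChevPCDE8_l2p1c00
import Cfsg.Agent.Lib_helper5_ChevPCDE8_l2p2c00
import Cfsg.Agent.Lib_helper5_ChevPCDE8_l3p1c00
import Cfsg.Agent.Lib_helper5_ChevPCDE8_l3p2c00
import Cfsg.Agent.Lib_helper5_ChevPCDE8_l4p1c00
import Cfsg.Agent.Lib_helper5_ChevPCDE8_l4p2c00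
import Cfsg.Agent.Lib_helper5_ChevPCDE8_l5p1c00
import Cfsg.Agent.Lib_helper5_ChevPCDE8_l5p2c00
import Cfsg.Agent.Lib_helper5_ChevPCDE8_l6p1c00
import Cfsg.Agent.Lib_helper5_ChevPCDE8_l6p2c00
import Cfsg.Agent.Lib_helper5_ChevPCDE8_l7p1c00
import Cfsg.Agent.Lib_helper5_ChevPCDE8_l7p1c01
import Cfsg.Agent.Lib_helper5_ChevPCDE8_l7p2c00
import Cfsg.Agent.Lib_helper5_ChevPCDE8_l7p2c01
import Cfsg.Agent.Lib_helper5_ChevPCDE8_l8p1c00
import Cfsg.Agent.Lib_helper5_ChevPCDE8_l8p1c01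
import Cfsg.Agent.Lib_helper5_ChevPCDE8_l8p1c02
import Cfsg.Agent.Lib_helper5_ChevPCDE8_l8p1c03
import Cfsg.Agent.Lib_helper5_ChevPCDE8_l8p1c04
import Cfsg.Agent.Lib_helper5_ChevPCDE8_l8p1c05
import Cfsg.Agent.Lib_helper5_ChevPCDE8_l8p2c00
import Cfsg.Agent.Lib_helper5_ChevPCDE8_l8p2c01
import Cfsg.Agent.Lib_helper5_ChevPCDE8_l8p2c02
import Cfsg.Agent.Lib_helper5_ChevPCDE8_l8p2c03
import Cfsg.Agent.Lib_helper5_ChevPCDE8_l8p2c04
import Cfsg.Agent.Lib_helper5_ChevPCDE8_l8p2c05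
import Cfsg.Agent.Lib_helper5_ChevPCDE8_misc
import Cfsg.Agent.Lib_helper5_ChevSum

set_option autoImplicit false

/-! Parabolic chain certificate for type E8 (generated, helper5). -/

namespace Cfsg.Agent.helper5.Chev

open Cfsg.Lie

theorem pcMem_E8 : chevE8 ∈ [chevG2, chevB2, chevD4, chevF4, chevE6, chevE7, chevE8] := by simp

abbrev pcI_E8_0 : Type := Unit

def pcV_E8_0 : pcI_E8_0 → List ℕ := fun _ => []

theorem pcFam_E8_0 : LevFam chevE8 [] pcV_E8_0 := levFam_base _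

theorem pcSumL_E8_0 (q : ℕ) : ∑ k, q ^ (pcV_E8_0 k).length = 1 := by
  simp [pcV_E8_0]

abbrev pcI_E8_1 : Type := Fin pcds_E8_1.length × pcI_E8_0

def pcV_E8_1 : pcI_E8_1 → List ℕ := stepV pcV_E8_0 pcds_E8_1

set_option maxRecDepth 1000000 in
set_option maxHeartbeats 0 in
theorem pcCert_E8_1 : LevCert chevE8 pcJ_E8_1 [] pcPhi_E8_1 pcds_E8_1 := by
  refine levCert_of_checks chevE8 pcMem_E8 pcRTOK_E8 pcJ_E8_1 [] pcPhi_E8_1 pcds_E8_1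
    pcP_E8_1 pctr_E8_1 2 pcPhiOK_E8_1 (by decide +kernel) (by decide +kernel) (by decide +kernel)
    (by decide +kernel) (by decide +kernel) ?_ ?_ pcKeys_E8_1
  · apply all2_of_chunks _ [] 0 _ _ 40 1 (by norm_num) (by decide +kernel)
    intro c hc
    interval_cases c
    · exact pcC_E8_1_1_0
  · apply all2_of_chunks _ 0 [] _ _ 40 1 (by norm_num) (by decide +kernel)
    intro c hc
    interval_cases c
    · exact pcC_E8_1_2_0

theorem pcFam_E8_1 : LevFam chevE8 pcJ_E8_1 pcV_E8_1 :=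
  levFam_step chevE8 pcMem_E8 pcJ_E8_1 [] pcPhi_E8_1 pcPhiOK_E8_1 pcds_E8_1
    pcCert_E8_1 pcV_E8_0 pcFam_E8_0

set_option maxRecDepth 1000000 in
set_option maxHeartbeats 0 in
theorem pcS_E8_1 (q : ℕ) : (pcds_E8_1.map fun d => q ^ d.length).sum =
    (List.zipWith (fun c j => c * q ^ j) [1, 1] (List.range 2)).sum :=
  sum_pow_length_eq q _ 2 _ (by decide +kernel) (by decide +kernel)

def pcPoly_E8_1 (q : ℕ) : ℕ :=
  (List.zipWith (fun c j => c * q ^ j) [1, 1] (List.range 2)).sum * 1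

theorem pcSumL_E8_1 (q : ℕ) : ∑ k, q ^ (pcV_E8_1 k).length = pcPoly_E8_1 q := by
  refine (sum_stepV pcV_E8_0 pcds_E8_1 q).trans ?_
  rw [pcS_E8_1, pcSumL_E8_0 q]
  rfl

abbrev pcI_E8_2 : Type := Fin pcds_E8_2.length × pcI_E8_1

def pcV_E8_2 : pcI_E8_2 → List ℕ := stepV pcV_E8_1 pcds_E8_2

set_option maxRecDepth 1000000 in
set_option maxHeartbeats 0 in
theorem pcCert_E8_2 : LevCert chevE8 pcJ_E8_2 pcJ_E8_1 pcPhi_E8_2 pcds_E8_2 := by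
  refine levCert_of_checks chevE8 pcMem_E8 pcRTOK_E8 pcJ_E8_2 pcJ_E8_1 pcPhi_E8_2 pcds_E8_2
    pcP_E8_2 pctr_E8_2 3 pcPhiOK_E8_2 (by decide +kernel) (by decide +kernel) (by decide +kernel)
    (by decide +kernel) (by decide +kernel) ?_ ?_ pcKeys_E8_2
  · apply all2_of_chunks _ [] 0 _ _ 40 1 (by norm_num) (by decide +kernel)
    intro c hc
    interval_cases c
    · exact pcC_E8_2_1_0
  · apply all2_of_chunks _ 0 [] _ _ 40 1 (by norm_num) (by decide +kernel)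
    intro c hc
    interval_cases c
    · exact pcC_E8_2_2_0

theorem pcFam_E8_2 : LevFam chevE8 pcJ_E8_2 pcV_E8_2 :=
  levFam_step chevE8 pcMem_E8 pcJ_E8_2 pcJ_E8_1 pcPhi_E8_2 pcPhiOK_E8_2 pcds_E8_2
    pcCert_E8_2 pcV_E8_1 pcFam_E8_1

set_option maxRecDepth 1000000 in
set_option maxHeartbeats 0 in
theorem pcS_E8_2 (q : ℕ) : (pcds_E8_2.map fun d => q ^ d.length).sum =
    (List.zipWith (fun c j => c * q ^ j) [1, 1, 1] (List.range 3)).sum :=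
  sum_pow_length_eq q _ 3 _ (by decide +kernel) (by decide +kernel)

def pcPoly_E8_2 (q : ℕ) : ℕ :=
  (List.zipWith (fun c j => c * q ^ j) [1, 1, 1] (List.range 3)).sum * pcPoly_E8_1 q

theorem pcSumL_E8_2 (q : ℕ) : ∑ k, q ^ (pcV_E8_2 k).length = pcPoly_E8_2 q := by
  refine (sum_stepV pcV_E8_1 pcds_E8_2 q).trans ?_
  rw [pcS_E8_2, pcSumL_E8_1 q]
  rfl

abbrev pcI_E8_3 : Type := Fin pcds_E8_3.length × pcI_E8_2

def pcV_E8_3 : pcI_E8_3 → List ℕ := stepV pcV_E8_2 pcds_E8_3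

set_option maxRecDepth 1000000 in
set_option maxHeartbeats 0 in
theorem pcCert_E8_3 : LevCert chevE8 pcJ_E8_3 pcJ_E8_2 pcPhi_E8_3 pcds_E8_3 := by
  refine levCert_of_checks chevE8 pcMem_E8 pcRTOK_E8 pcJ_E8_3 pcJ_E8_2 pcPhi_E8_3 pcds_E8_3
    pcP_E8_3 pctr_E8_3 4 pcPhiOK_E8_3 (by decide +kernel) (by decide +kernel) (by decide +kernel)
    (by decide +kernel) (by decide +kernel) ?_ ?_ pcKeys_E8_3
  · apply all2_of_chunks _ [] 0 _ _ 40 1 (by norm_num) (by decide +kernel)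
    intro c hc
    interval_cases c
    · exact pcC_E8_3_1_0
  · apply all2_of_chunks _ 0 [] _ _ 40 1 (by norm_num) (by decide +kernel)
    intro c hc
    interval_cases c
    · exact pcC_E8_3_2_0

theorem pcFam_E8_3 : LevFam chevE8 pcJ_E8_3 pcV_E8_3 :=
  levFam_step chevE8 pcMem_E8 pcJ_E8_3 pcJ_E8_2 pcPhi_E8_3 pcPhiOK_E8_3 pcds_E8_3
    pcCert_E8_3 pcV_E8_2 pcFam_E8_2

set_option maxRecDepth 1000000 in
set_option maxHeartbeats 0 in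
theorem pcS_E8_3 (q : ℕ) : (pcds_E8_3.map fun d => q ^ d.length).sum =
    (List.zipWith (fun c j => c * q ^ j) [1, 1, 1, 1] (List.range 4)).sum :=
  sum_pow_length_eq q _ 4 _ (by decide +kernel) (by decide +kernel)

def pcPoly_E8_3 (q : ℕ) : ℕ :=
  (List.zipWith (fun c j => c * q ^ j) [1, 1, 1, 1] (List.range 4)).sum * pcPoly_E8_2 q

theorem pcSumL_E8_3 (q : ℕ) : ∑ k, q ^ (pcV_E8_3 k).length = pcPoly_E8_3 q := by
  refine (sum_stepV pcV_E8_2 pcds_E8_3 q).trans ?_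
  rw [pcS_E8_3, pcSumL_E8_2 q]
  rfl

abbrev pcI_E8_4 : Type := Fin pcds_E8_4.length × pcI_E8_3

def pcV_E8_4 : pcI_E8_4 → List ℕ := stepV pcV_E8_3 pcds_E8_4

set_option maxRecDepth 1000000 in
set_option maxHeartbeats 0 in
theorem pcCert_E8_4 : LevCert chevE8 pcJ_E8_4 pcJ_E8_3 pcPhi_E8_4 pcds_E8_4 := by
  refine levCert_of_checks chevE8 pcMem_E8 pcRTOK_E8 pcJ_E8_4 pcJ_E8_3 pcPhi_E8_4 pcds_E8_4
    pcP_E8_4 pctr_E8_4 8 pcPhiOK_E8_4 (by decide +kernel) (by decide +kernel) (by decide +kernel)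
    (by decide +kernel) (by decide +kernel) ?_ ?_ pcKeys_E8_4
  · apply all2_of_chunks _ [] 0 _ _ 40 1 (by norm_num) (by decide +kernel)
    intro c hc
    interval_cases c
    · exact pcC_E8_4_1_0
  · apply all2_of_chunks _ 0 [] _ _ 40 1 (by norm_num) (by decide +kernel)
    intro c hc
    interval_cases c
    · exact pcC_E8_4_2_0

theorem pcFam_E8_4 : LevFam chevE8 pcJ_E8_4 pcV_E8_4 :=
  levFam_step chevE8 pcMem_E8 pcJ_E8_4 pcJ_E8_3 pcPhi_E8_4 pcPhiOK_E8_4 pcds_E8_4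
    pcCert_E8_4 pcV_E8_3 pcFam_E8_3

set_option maxRecDepth 1000000 in
set_option maxHeartbeats 0 in
theorem pcS_E8_4 (q : ℕ) : (pcds_E8_4.map fun d => q ^ d.length).sum =
    (List.zipWith (fun c j => c * q ^ j) [1, 1, 1, 2, 1, 1, 1] (List.range 7)).sum :=
  sum_pow_length_eq q _ 7 _ (by decide +kernel) (by decide +kernel)

def pcPoly_E8_4 (q : ℕ) : ℕ :=
  (List.zipWith (fun c j => c * q ^ j) [1, 1, 1, 2, 1, 1, 1] (List.range 7)).sum * pcPoly_E8_3 q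

theorem pcSumL_E8_4 (q : ℕ) : ∑ k, q ^ (pcV_E8_4 k).length = pcPoly_E8_4 q := by
  refine (sum_stepV pcV_E8_3 pcds_E8_4 q).trans ?_
  rw [pcS_E8_4, pcSumL_E8_3 q]
  rfl

abbrev pcI_E8_5 : Type := Fin pcds_E8_5.length × pcI_E8_4

def pcV_E8_5 : pcI_E8_5 → List ℕ := stepV pcV_E8_4 pcds_E8_5

set_option maxRecDepth 1000000 in
set_option maxHeartbeats 0 in
theorem pcCert_E8_5 : LevCert chevE8 pcJ_E8_5 pcJ_E8_4 pcPhi_E8_5 pcds_E8_5 := by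
  refine levCert_of_checks chevE8 pcMem_E8 pcRTOK_E8 pcJ_E8_5 pcJ_E8_4 pcPhi_E8_5 pcds_E8_5
    pcP_E8_5 pctr_E8_5 10 pcPhiOK_E8_5 (by decide +kernel) (by decide +kernel) (by decide +kernel)
    (by decide +kernel) (by decide +kernel) ?_ ?_ pcKeys_E8_5
  · apply all2_of_chunks _ [] 0 _ _ 40 1 (by norm_num) (by decide +kernel)
    intro c hc
    interval_cases c
    · exact pcC_E8_5_1_0
  · apply all2_of_chunks _ 0 [] _ _ 40 1 (by norm_num) (by decide +kernel)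
    intro c hc
    interval_cases c
    · exact pcC_E8_5_2_0

theorem pcFam_E8_5 : LevFam chevE8 pcJ_E8_5 pcV_E8_5 :=
  levFam_step chevE8 pcMem_E8 pcJ_E8_5 pcJ_E8_4 pcPhi_E8_5 pcPhiOK_E8_5 pcds_E8_5
    pcCert_E8_5 pcV_E8_4 pcFam_E8_4

set_option maxRecDepth 1000000 in
set_option maxHeartbeats 0 in
theorem pcS_E8_5 (q : ℕ) : (pcds_E8_5.map fun d => q ^ d.length).sum =
    (List.zipWith (fun c j => c * q ^ j) [1, 1, 1, 1, 2, 1, 1, 1, 1] (List.range 9)).sum :=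
  sum_pow_length_eq q _ 9 _ (by decide +kernel) (by decide +kernel)

def pcPoly_E8_5 (q : ℕ) : ℕ :=
  (List.zipWith (fun c j => c * q ^ j) [1, 1, 1, 1, 2, 1, 1, 1, 1] (List.range 9)).sum * pcPoly_E8_4 q

theorem pcSumL_E8_5 (q : ℕ) : ∑ k, q ^ (pcV_E8_5 k).length = pcPoly_E8_5 q := by
  refine (sum_stepV pcV_E8_4 pcds_E8_5 q).trans ?_
  rw [pcS_E8_5, pcSumL_E8_4 q]
  rfl

abbrev pcI_E8_6 : Type := Fin pcds_E8_6.length × pcI_E8_5

def pcV_E8_6 : pcI_E8_6 → List ℕ := stepV pcV_E8_5 pcds_E8_6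

set_option maxRecDepth 1000000 in
set_option maxHeartbeats 0 in
theorem pcCert_E8_6 : LevCert chevE8 pcJ_E8_6 pcJ_E8_5 pcPhi_E8_6 pcds_E8_6 := by
  refine levCert_of_checks chevE8 pcMem_E8 pcRTOK_E8 pcJ_E8_6 pcJ_E8_5 pcPhi_E8_6 pcds_E8_6
    pcP_E8_6 pctr_E8_6 27 pcPhiOK_E8_6 (by decide +kernel) (by decide +kernel) (by decide +kernel)
    (by decide +kernel) (by decide +kernel) ?_ ?_ pcKeys_E8_6
  · apply all2_of_chunks _ [] 0 _ _ 40 1 (by norm_num) (by decide +kernel)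
    intro c hc
    interval_cases c
    · exact pcC_E8_6_1_0
  · apply all2_of_chunks _ 0 [] _ _ 40 1 (by norm_num) (by decide +kernel)
    intro c hc
    interval_cases c
    · exact pcC_E8_6_2_0

theorem pcFam_E8_6 : LevFam chevE8 pcJ_E8_6 pcV_E8_6 :=
  levFam_step chevE8 pcMem_E8 pcJ_E8_6 pcJ_E8_5 pcPhi_E8_6 pcPhiOK_E8_6 pcds_E8_6
    pcCert_E8_6 pcV_E8_5 pcFam_E8_5

set_option maxRecDepth 1000000 in
set_option maxHeartbeats 0 in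
theorem pcS_E8_6 (q : ℕ) : (pcds_E8_6.map fun d => q ^ d.length).sum =
    (List.zipWith (fun c j => c * q ^ j) [1, 1, 1, 1, 2, 2, 2, 2, 3, 2, 2, 2, 2, 1, 1, 1, 1] (List.range 17)).sum :=
  sum_pow_length_eq q _ 17 _ (by decide +kernel) (by decide +kernel)

def pcPoly_E8_6 (q : ℕ) : ℕ :=
  (List.zipWith (fun c j => c * q ^ j) [1, 1, 1, 1, 2, 2, 2, 2, 3, 2, 2, 2, 2, 1, 1, 1, 1] (List.range 17)).sum * pcPoly_E8_5 q

theorem pcSumL_E8_6 (q : ℕ) : ∑ k, q ^ (pcV_E8_6 k).length = pcPoly_E8_6 q := by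
  refine (sum_stepV pcV_E8_5 pcds_E8_6 q).trans ?_
  rw [pcS_E8_6, pcSumL_E8_5 q]
  rfl

abbrev pcI_E8_7 : Type := Fin pcds_E8_7.length × pcI_E8_6

def pcV_E8_7 : pcI_E8_7 → List ℕ := stepV pcV_E8_6 pcds_E8_7

set_option maxRecDepth 1000000 in
set_option maxHeartbeats 0 in
theorem pcCert_E8_7 : LevCert chevE8 pcJ_E8_7 pcJ_E8_6 pcPhi_E8_7 pcds_E8_7 := by
  refine levCert_of_checks chevE8 pcMem_E8 pcRTOK_E8 pcJ_E8_7 pcJ_E8_6 pcPhi_E8_7 pcds_E8_7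
    pcP_E8_7 pctr_E8_7 56 pcPhiOK_E8_7 (by decide +kernel) (by decide +kernel) (by decide +kernel)
    (by decide +kernel) (by decide +kernel) ?_ ?_ pcKeys_E8_7
  · apply all2_of_chunks _ [] 0 _ _ 40 2 (by norm_num) (by decide +kernel)
    intro c hc
    interval_cases c
    · exact pcC_E8_7_1_0
    · exact pcC_E8_7_1_1
  · apply all2_of_chunks _ 0 [] _ _ 40 2 (by norm_num) (by decide +kernel)
    intro c hc
    interval_cases c
    · exact pcC_E8_7_2_0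
    · exact pcC_E8_7_2_1

theorem pcFam_E8_7 : LevFam chevE8 pcJ_E8_7 pcV_E8_7 :=
  levFam_step chevE8 pcMem_E8 pcJ_E8_7 pcJ_E8_6 pcPhi_E8_7 pcPhiOK_E8_7 pcds_E8_7
    pcCert_E8_7 pcV_E8_6 pcFam_E8_6

set_option maxRecDepth 1000000 in
set_option maxHeartbeats 0 in
theorem pcS_E8_7 (q : ℕ) : (pcds_E8_7.map fun d => q ^ d.length).sum =
    (List.zipWith (fun c j => c * q ^ j) [1, 1, 1, 1, 1, 2, 2, 2, 2, 3, 3, 3, 3, 3, 3, 3, 3, 3, 3, 2, 2, 2, 2, 1, 1, 1, 1, 1] (List.range 28)).sum :=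
  sum_pow_length_eq q _ 28 _ (by decide +kernel) (by decide +kernel)

def pcPoly_E8_7 (q : ℕ) : ℕ :=
  (List.zipWith (fun c j => c * q ^ j) [1, 1, 1, 1, 1, 2, 2, 2, 2, 3, 3, 3, 3, 3, 3, 3, 3, 3, 3, 2, 2, 2, 2, 1, 1, 1, 1, 1] (List.range 28)).sum * pcPoly_E8_6 q

theorem pcSumL_E8_7 (q : ℕ) : ∑ k, q ^ (pcV_E8_7 k).length = pcPoly_E8_7 q := by
  refine (sum_stepV pcV_E8_6 pcds_E8_7 q).trans ?_
  rw [pcS_E8_7, pcSumL_E8_6 q]
  rfl

abbrev pcI_E8_8 : Type := Fin pcds_E8_8.length × pcI_E8_7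

def pcV_E8_8 : pcI_E8_8 → List ℕ := stepV pcV_E8_7 pcds_E8_8

set_option maxRecDepth 1000000 in
set_option maxHeartbeats 0 in
theorem pcCert_E8_8 : LevCert chevE8 pcJ_E8_8 pcJ_E8_7 pcPhi_E8_8 pcds_E8_8 := by
  refine levCert_of_checks chevE8 pcMem_E8 pcRTOK_E8 pcJ_E8_8 pcJ_E8_7 pcPhi_E8_8 pcds_E8_8
    pcP_E8_8 pctr_E8_8 240 pcPhiOK_E8_8 (by decide +kernel) (by decide +kernel) (by decide +kernel)
    (by decide +kernel) (by decide +kernel) ?_ ?_ pcKeys_E8_8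
  · apply all2_of_chunks _ [] 0 _ _ 40 6 (by norm_num) (by decide +kernel)
    intro c hc
    interval_cases c
    · exact pcC_E8_8_1_0
    · exact pcC_E8_8_1_1
    · exact pcC_E8_8_1_2
    · exact pcC_E8_8_1_3
    · exact pcC_E8_8_1_4
    · exact pcC_E8_8_1_5
  · apply all2_of_chunks _ 0 [] _ _ 40 6 (by norm_num) (by decide +kernel)
    intro c hc
    interval_cases c
    · exact pcC_E8_8_2_0
    · exact pcC_E8_8_2_1
    · exact pcC_E8_8_2_2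
    · exact pcC_E8_8_2_3
    · exact pcC_E8_8_2_4
    · exact pcC_E8_8_2_5

theorem pcFam_E8_8 : LevFam chevE8 pcJ_E8_8 pcV_E8_8 :=
  levFam_step chevE8 pcMem_E8 pcJ_E8_8 pcJ_E8_7 pcPhi_E8_8 pcPhiOK_E8_8 pcds_E8_8
    pcCert_E8_8 pcV_E8_7 pcFam_E8_7

set_option maxRecDepth 1000000 in
set_option maxHeartbeats 0 in
theorem pcS_E8_8 (q : ℕ) : (pcds_E8_8.map fun d => q ^ d.length).sum =
    (List.zipWith (fun c j => c * q ^ j) [1, 1, 1, 1, 1, 1, 2, 2, 2, 2, 3, 3, 4, 4, 4, 4, 5, 5, 6, 6, 6, 6, 7, 7, 7, 7, 7, 7, 8, 8, 7, 7, 7, 7, 7, 7, 6, 6, 6, 6, 5, 5, 4, 4, 4, 4, 3, 3, 2, 2, 2, 2, 1, 1, 1, 1, 1, 1] (List.range 58)).sum :=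
  sum_pow_length_eq q _ 58 _ (by decide +kernel) (by decide +kernel)

def pcPoly_E8_8 (q : ℕ) : ℕ :=
  (List.zipWith (fun c j => c * q ^ j) [1, 1, 1, 1, 1, 1, 2, 2, 2, 2, 3, 3, 4, 4, 4, 4, 5, 5, 6, 6, 6, 6, 7, 7, 7, 7, 7, 7, 8, 8, 7, 7, 7, 7, 7, 7, 6, 6, 6, 6, 5, 5, 4, 4, 4, 4, 3, 3, 2, 2, 2, 2, 1, 1, 1, 1, 1, 1] (List.range 58)).sum * pcPoly_E8_7 q

theorem pcSumL_E8_8 (q : ℕ) : ∑ k, q ^ (pcV_E8_8 k).length = pcPoly_E8_8 q := by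
  refine (sum_stepV pcV_E8_7 pcds_E8_8 q).trans ?_
  rw [pcS_E8_8, pcSumL_E8_7 q]
  rfl

theorem pcTop_E8 : ∀ i < chevE8.rank, i ∈ pcJ_E8_8 := by decide +kernel

end Cfsg.Agent.helper5.Chev
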