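import Mathlib
import Cfsg.Agent.Lib_helper5_ChevPC
import Cfsg.Agent.Lib_helper5_ChevPCDF4Defs

set_option autoImplicit false

/-! Parabolic chain certificate for type F4 (generated, helper5). -/

namespace Cfsg.Agent.helper5.Chev

open Cfsg.Lie

set_option maxRecDepth 1000000 in
set_option maxHeartbeats 0 in
theorem pcC_F4_1_1_0 : all2R (pcChk1 pcT_F4 48 4 24 pcSimp_F4 pcJ_F4_1) pcds_F4_1 pcP_F4_1 (0 * 40) 40 = true := by decide +kernel

end Cfsg.Agent.helper5.Chev
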