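import Mathlib
import Cfsg.Agent.Lib_helper5_ChevPC
import Cfsg.Agent.Lib_helper5_ChevPCDF4_l1p1c00
import Cfsg.Agent.Lib_helper5_ChevPCDF4_l1p2c00
import Cfsg.Agent.Lib_helper5_ChevPCDF4_l2p1c00
import Cfsg.Agent.Lib_helper5_ChevPCDF4_l2p2c00
import Cfsg.Agent.Lib_helper5_ChevPCDF4_l3p1c00
import Cfsg.Agent.Lib_helper5_ChevPCDF4_l3p2c00
import Cfsg.Agent.Lib_helper5_ChevPCDF4_l4p1c00
import Cfsg.Agent.Lib_helper5_ChevPCDF4_l4p2c00
import Cfsg.Agent.Lib_helper5_ChevPCDF4_misc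
import Cfsg.Agent.Lib_helper5_ChevSum

set_option autoImplicit false

/-! Parabolic chain certificate for type F4 (generated, helper5). -/

namespace Cfsg.Agent.helper5.Chev

open Cfsg.Lie

theorem pcMem_F4 : chevF4 ∈ [chevG2, chevB2, chevD4, chevF4, chevE6, chevE7, chevE8] := by simp

abbrev pcI_F4_0 : Type := Unit

def pcV_F4_0 : pcI_F4_0 → List ℕ := fun _ => []

theorem pcFam_F4_0 : LevFam chevF4 [] pcV_F4_0 := levFam_base _

theorem pcSumL_F4_0 (q : ℕ) : ∑ k, q ^ (pcV_F4_0 k).length = 1 := by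
  simp [pcV_F4_0]

abbrev pcI_F4_1 : Type := Fin pcds_F4_1.length × pcI_F4_0

def pcV_F4_1 : pcI_F4_1 → List ℕ := stepV pcV_F4_0 pcds_F4_1

set_option maxRecDepth 1000000 in
set_option maxHeartbeats 0 in
theorem pcCert_F4_1 : LevCert chevF4 pcJ_F4_1 [] pcPhi_F4_1 pcds_F4_1 := by
  refine levCert_of_checks chevF4 pcMem_F4 pcRTOK_F4 pcJ_F4_1 [] pcPhi_F4_1 pcds_F4_1
    pcP_F4_1 pctr_F4_1 2 pcPhiOK_F4_1 (by decide +kernel) (by decide +kernel) (by decide +kernel)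
    (by decide +kernel) (by decide +kernel) ?_ ?_ pcKeys_F4_1
  · apply all2_of_chunks _ [] 0 _ _ 40 1 (by norm_num) (by decide +kernel)
    intro c hc
    interval_cases c
    · exact pcC_F4_1_1_0
  · apply all2_of_chunks _ 0 [] _ _ 40 1 (by norm_num) (by decide +kernel)
    intro c hc
    interval_cases c
    · exact pcC_F4_1_2_0

theorem pcFam_F4_1 : LevFam chevF4 pcJ_F4_1 pcV_F4_1 :=
  levFam_step chevF4 pcMem_F4 pcJ_F4_1 [] pcPhi_F4_1 pcPhiOK_F4_1 pcds_F4_1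
    pcCert_F4_1 pcV_F4_0 pcFam_F4_0

set_option maxRecDepth 1000000 in
set_option maxHeartbeats 0 in
theorem pcS_F4_1 (q : ℕ) : (pcds_F4_1.map fun d => q ^ d.length).sum =
    (List.zipWith (fun c j => c * q ^ j) [1, 1] (List.range 2)).sum :=
  sum_pow_length_eq q _ 2 _ (by decide +kernel) (by decide +kernel)

def pcPoly_F4_1 (q : ℕ) : ℕ :=
  (List.zipWith (fun c j => c * q ^ j) [1, 1] (List.range 2)).sum * 1

theorem pcSumL_F4_1 (q : ℕ) : ∑ k, q ^ (pcV_F4_1 k).length = pcPoly_F4_1 q := by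
  refine (sum_stepV pcV_F4_0 pcds_F4_1 q).trans ?_
  rw [pcS_F4_1, pcSumL_F4_0 q]
  rfl

abbrev pcI_F4_2 : Type := Fin pcds_F4_2.length × pcI_F4_1

def pcV_F4_2 : pcI_F4_2 → List ℕ := stepV pcV_F4_1 pcds_F4_2

set_option maxRecDepth 1000000 in
set_option maxHeartbeats 0 in
theorem pcCert_F4_2 : LevCert chevF4 pcJ_F4_2 pcJ_F4_1 pcPhi_F4_2 pcds_F4_2 := by
  refine levCert_of_checks chevF4 pcMem_F4 pcRTOK_F4 pcJ_F4_2 pcJ_F4_1 pcPhi_F4_2 pcds_F4_2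
    pcP_F4_2 pctr_F4_2 3 pcPhiOK_F4_2 (by decide +kernel) (by decide +kernel) (by decide +kernel)
    (by decide +kernel) (by decide +kernel) ?_ ?_ pcKeys_F4_2
  · apply all2_of_chunks _ [] 0 _ _ 40 1 (by norm_num) (by decide +kernel)
    intro c hc
    interval_cases c
    · exact pcC_F4_2_1_0
  · apply all2_of_chunks _ 0 [] _ _ 40 1 (by norm_num) (by decide +kernel)
    intro c hc
    interval_cases c
    · exact pcC_F4_2_2_0

theorem pcFam_F4_2 : LevFam chevF4 pcJ_F4_2 pcV_F4_2 :=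
  levFam_step chevF4 pcMem_F4 pcJ_F4_2 pcJ_F4_1 pcPhi_F4_2 pcPhiOK_F4_2 pcds_F4_2
    pcCert_F4_2 pcV_F4_1 pcFam_F4_1

set_option maxRecDepth 1000000 in
set_option maxHeartbeats 0 in
theorem pcS_F4_2 (q : ℕ) : (pcds_F4_2.map fun d => q ^ d.length).sum =
    (List.zipWith (fun c j => c * q ^ j) [1, 1, 1] (List.range 3)).sum :=
  sum_pow_length_eq q _ 3 _ (by decide +kernel) (by decide +kernel)

def pcPoly_F4_2 (q : ℕ) : ℕ :=
  (List.zipWith (fun c j => c * q ^ j) [1, 1, 1] (List.range 3)).sum * pcPoly_F4_1 q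

theorem pcSumL_F4_2 (q : ℕ) : ∑ k, q ^ (pcV_F4_2 k).length = pcPoly_F4_2 q := by
  refine (sum_stepV pcV_F4_1 pcds_F4_2 q).trans ?_
  rw [pcS_F4_2, pcSumL_F4_1 q]
  rfl

abbrev pcI_F4_3 : Type := Fin pcds_F4_3.length × pcI_F4_2

def pcV_F4_3 : pcI_F4_3 → List ℕ := stepV pcV_F4_2 pcds_F4_3

set_option maxRecDepth 1000000 in
set_option maxHeartbeats 0 in
theorem pcCert_F4_3 : LevCert chevF4 pcJ_F4_3 pcJ_F4_2 pcPhi_F4_3 pcds_F4_3 := by
  refine levCert_of_checks chevF4 pcMem_F4 pcRTOK_F4 pcJ_F4_3 pcJ_F4_2 pcPhi_F4_3 pcds_F4_3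
    pcP_F4_3 pctr_F4_3 8 pcPhiOK_F4_3 (by decide +kernel) (by decide +kernel) (by decide +kernel)
    (by decide +kernel) (by decide +kernel) ?_ ?_ pcKeys_F4_3
  · apply all2_of_chunks _ [] 0 _ _ 40 1 (by norm_num) (by decide +kernel)
    intro c hc
    interval_cases c
    · exact pcC_F4_3_1_0
  · apply all2_of_chunks _ 0 [] _ _ 40 1 (by norm_num) (by decide +kernel)
    intro c hc
    interval_cases c
    · exact pcC_F4_3_2_0

theorem pcFam_F4_3 : LevFam chevF4 pcJ_F4_3 pcV_F4_3 :=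
  levFam_step chevF4 pcMem_F4 pcJ_F4_3 pcJ_F4_2 pcPhi_F4_3 pcPhiOK_F4_3 pcds_F4_3
    pcCert_F4_3 pcV_F4_2 pcFam_F4_2

set_option maxRecDepth 1000000 in
set_option maxHeartbeats 0 in
theorem pcS_F4_3 (q : ℕ) : (pcds_F4_3.map fun d => q ^ d.length).sum =
    (List.zipWith (fun c j => c * q ^ j) [1, 1, 1, 2, 1, 1, 1] (List.range 7)).sum :=
  sum_pow_length_eq q _ 7 _ (by decide +kernel) (by decide +kernel)

def pcPoly_F4_3 (q : ℕ) : ℕ :=
  (List.zipWith (fun c j => c * q ^ j) [1, 1, 1, 2, 1, 1, 1] (List.range 7)).sum * pcPoly_F4_2 q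

theorem pcSumL_F4_3 (q : ℕ) : ∑ k, q ^ (pcV_F4_3 k).length = pcPoly_F4_3 q := by
  refine (sum_stepV pcV_F4_2 pcds_F4_3 q).trans ?_
  rw [pcS_F4_3, pcSumL_F4_2 q]
  rfl

abbrev pcI_F4_4 : Type := Fin pcds_F4_4.length × pcI_F4_3

def pcV_F4_4 : pcI_F4_4 → List ℕ := stepV pcV_F4_3 pcds_F4_4

set_option maxRecDepth 1000000 in
set_option maxHeartbeats 0 in
theorem pcCert_F4_4 : LevCert chevF4 pcJ_F4_4 pcJ_F4_3 pcPhi_F4_4 pcds_F4_4 := by
  refine levCert_of_checks chevF4 pcMem_F4 pcRTOK_F4 pcJ_F4_4 pcJ_F4_3 pcPhi_F4_4 pcds_F4_4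
    pcP_F4_4 pctr_F4_4 24 pcPhiOK_F4_4 (by decide +kernel) (by decide +kernel) (by decide +kernel)
    (by decide +kernel) (by decide +kernel) ?_ ?_ pcKeys_F4_4
  · apply all2_of_chunks _ [] 0 _ _ 40 1 (by norm_num) (by decide +kernel)
    intro c hc
    interval_cases c
    · exact pcC_F4_4_1_0
  · apply all2_of_chunks _ 0 [] _ _ 40 1 (by norm_num) (by decide +kernel)
    intro c hc
    interval_cases c
    · exact pcC_F4_4_2_0

theorem pcFam_F4_4 : LevFam chevF4 pcJ_F4_4 pcV_F4_4 :=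
  levFam_step chevF4 pcMem_F4 pcJ_F4_4 pcJ_F4_3 pcPhi_F4_4 pcPhiOK_F4_4 pcds_F4_4
    pcCert_F4_4 pcV_F4_3 pcFam_F4_3

set_option maxRecDepth 1000000 in
set_option maxHeartbeats 0 in
theorem pcS_F4_4 (q : ℕ) : (pcds_F4_4.map fun d => q ^ d.length).sum =
    (List.zipWith (fun c j => c * q ^ j) [1, 1, 1, 1, 2, 2, 2, 2, 2, 2, 2, 2, 1, 1, 1, 1] (List.range 16)).sum :=
  sum_pow_length_eq q _ 16 _ (by decide +kernel) (by decide +kernel)

def pcPoly_F4_4 (q : ℕ) : ℕ :=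
  (List.zipWith (fun c j => c * q ^ j) [1, 1, 1, 1, 2, 2, 2, 2, 2, 2, 2, 2, 1, 1, 1, 1] (List.range 16)).sum * pcPoly_F4_3 q

theorem pcSumL_F4_4 (q : ℕ) : ∑ k, q ^ (pcV_F4_4 k).length = pcPoly_F4_4 q := by
  refine (sum_stepV pcV_F4_3 pcds_F4_4 q).trans ?_
  rw [pcS_F4_4, pcSumL_F4_3 q]
  rfl

theorem pcTop_F4 : ∀ i < chevF4.rank, i ∈ pcJ_F4_4 := by decide +kernel

end Cfsg.Agent.helper5.Chev
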