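import Mathlib
import Cfsg.Agent.Lib_helper5_ChevPC
import Cfsg.Agent.Lib_helper5_ChevPCDF4Defs
import Cfsg.Agent.Lib_helper5_ChevPCDF4_rt
import Cfsg.Agent.Lib_helper5_ChevPC5

set_option autoImplicit false

/-! Parabolic chain certificate for type F4 (generated, helper5). -/

namespace Cfsg.Agent.helper5.Chev

open Cfsg.Lie

theorem pcRTOK_F4 : RTabOK chevF4 pcT_F4 48 4 24 pcSimp_F4 :=
  rtabOK_of_check _ _ _ _ _ _ pcRT_F4

set_option maxRecDepth 1000000 in
set_option maxHeartbeats 0 in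
theorem pcPhiOK_F4_1 : PhiOK chevF4 [] pcPhi_F4_1 :=
  phiOK_of_check chevF4 pcRTOK_F4 _ _ (by decide +kernel)

set_option maxRecDepth 1000000 in
set_option maxHeartbeats 0 in
theorem pcKeys_F4_1 : keysChk 48 pcSimp_F4 pcP_F4_1 = true := by decide +kernel

set_option maxRecDepth 1000000 in
set_option maxHeartbeats 0 in
theorem pcPhiOK_F4_2 : PhiOK chevF4 pcJ_F4_1 pcPhi_F4_2 :=
  phiOK_of_check chevF4 pcRTOK_F4 _ _ (by decide +kernel)

set_option maxRecDepth 1000000 in
set_option maxHeartbeats 0 in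
theorem pcKeys_F4_2 : keysChk 48 pcSimp_F4 pcP_F4_2 = true := by decide +kernel

set_option maxRecDepth 1000000 in
set_option maxHeartbeats 0 in
theorem pcPhiOK_F4_3 : PhiOK chevF4 pcJ_F4_2 pcPhi_F4_3 :=
  phiOK_of_check chevF4 pcRTOK_F4 _ _ (by decide +kernel)

set_option maxRecDepth 1000000 in
set_option maxHeartbeats 0 in
theorem pcKeys_F4_3 : keysChk 48 pcSimp_F4 pcP_F4_3 = true := by decide +kernel

set_option maxRecDepth 1000000 in
set_option maxHeartbeats 0 in
theorem pcPhiOK_F4_4 : PhiOK chevF4 pcJ_F4_3 pcPhi_F4_4 :=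
  phiOK_of_check chevF4 pcRTOK_F4 _ _ (by decide +kernel)

set_option maxRecDepth 1000000 in
set_option maxHeartbeats 0 in
theorem pcKeys_F4_4 : keysChk 48 pcSimp_F4 pcP_F4_4 = true := by decide +kernel

end Cfsg.Agent.helper5.Chev
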