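import Mathlib
import Cfsg.Agent.Lib_helper5_ChevPC

set_option autoImplicit false

/-! Parabolic chain certificate for type G2 (generated, helper5). -/

namespace Cfsg.Agent.helper5.Chev

open Cfsg.Lie

def pcT_G2 : List ℕ := [3411626608196089407097472256, 3108190913232640688152248321]

def pcSimp_G2 : List ℕ := [7, 6]

def pcJ_G2_1 : List ℕ := [0]

def pcPhi_G2_1 : List ℕ := []

set_option maxRecDepth 1000000 in
def pcds_G2_1 : List (List ℕ) := [[], [0]]

set_option maxRecDepth 1000000 in
def pcP_G2_1 : List ℕ := [3416467015609337987117220096, 3411626608196089407097472256]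

set_option maxRecDepth 1000000 in
def pctr_G2_1 : List (List ℕ) := [[1], [0]]

def pcJ_G2_2 : List ℕ := [0, 1]

def pcPhi_G2_2 : List ℕ := [7]

set_option maxRecDepth 1000000 in
def pcds_G2_2 : List (List ℕ) := [[], [1], [1, 0], [1, 0, 1], [1, 0, 1, 0], [1, 0, 1, 0, 1]]

set_option maxRecDepth 1000000 in
def pcP_G2_2 : List ℕ := [3416467015609337987117220096, 3108190913232640688152248321, 1870246096311481410412281861, 1559547419857014393709789446, 316757491674925329740662026, 6058833595705547918149131]

set_option maxRecDepth 1000000 in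
def pctr_G2_2 : List (List ℕ) := [[6, 1], [2, 0], [1, 3], [4, 2], [3, 5], [6, 4]]

end Cfsg.Agent.helper5.Chev
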