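import Mathlib
import Cfsg.Agent.Lib_helper5_ChevPC
import Cfsg.Agent.Lib_helper5_ChevPCDG2Defs
import Cfsg.Agent.Lib_helper5_ChevPCDG2_rt
import Cfsg.Agent.Lib_helper5_ChevPC5

set_option autoImplicit false

/-! Parabolic chain certificate for type G2 (generated, helper5). -/

namespace Cfsg.Agent.helper5.Chev

open Cfsg.Lie

theorem pcRTOK_G2 : RTabOK chevG2 pcT_G2 12 2 6 pcSimp_G2 :=
  rtabOK_of_check _ _ _ _ _ _ pcRT_G2

set_option maxRecDepth 1000000 in
set_option maxHeartbeats 0 in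
theorem pcPhiOK_G2_1 : PhiOK chevG2 [] pcPhi_G2_1 :=
  phiOK_of_check chevG2 pcRTOK_G2 _ _ (by decide +kernel)

set_option maxRecDepth 1000000 in
set_option maxHeartbeats 0 in
theorem pcKeys_G2_1 : keysChk 12 pcSimp_G2 pcP_G2_1 = true := by decide +kernel

set_option maxRecDepth 1000000 in
set_option maxHeartbeats 0 in
theorem pcPhiOK_G2_2 : PhiOK chevG2 pcJ_G2_1 pcPhi_G2_2 :=
  phiOK_of_check chevG2 pcRTOK_G2 _ _ (by decide +kernel)

set_option maxRecDepth 1000000 in
set_option maxHeartbeats 0 in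
theorem pcKeys_G2_2 : keysChk 12 pcSimp_G2 pcP_G2_2 = true := by decide +kernel

end Cfsg.Agent.helper5.Chev
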