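import Mathlib
import Cfsg.Agent.Lib_helper5_ChevPC
import Cfsg.Agent.Lib_helper5_ChevPCDG2_l1p1c00
import Cfsg.Agent.Lib_helper5_ChevPCDG2_l1p2c00
import Cfsg.Agent.Lib_helper5_ChevPCDG2_l2p1c00
import Cfsg.Agent.Lib_helper5_ChevPCDG2_l2p2c00
import Cfsg.Agent.Lib_helper5_ChevPCDG2_misc
import Cfsg.Agent.Lib_helper5_ChevSum

set_option autoImplicit false

/-! Parabolic chain certificate for type G2 (generated, helper5). -/

namespace Cfsg.Agent.helper5.Chev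

open Cfsg.Lie

theorem pcMem_G2 : chevG2 ∈ [chevG2, chevB2, chevD4, chevF4, chevE6, chevE7, chevE8] := by simp

abbrev pcI_G2_0 : Type := Unit

def pcV_G2_0 : pcI_G2_0 → List ℕ := fun _ => []

theorem pcFam_G2_0 : LevFam chevG2 [] pcV_G2_0 := levFam_base _

theorem pcSumL_G2_0 (q : ℕ) : ∑ k, q ^ (pcV_G2_0 k).length = 1 := by
  simp [pcV_G2_0]

abbrev pcI_G2_1 : Type := Fin pcds_G2_1.length × pcI_G2_0

def pcV_G2_1 : pcI_G2_1 → List ℕ := stepV pcV_G2_0 pcds_G2_1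

set_option maxRecDepth 1000000 in
set_option maxHeartbeats 0 in
theorem pcCert_G2_1 : LevCert chevG2 pcJ_G2_1 [] pcPhi_G2_1 pcds_G2_1 := by
  refine levCert_of_checks chevG2 pcMem_G2 pcRTOK_G2 pcJ_G2_1 [] pcPhi_G2_1 pcds_G2_1
    pcP_G2_1 pctr_G2_1 2 pcPhiOK_G2_1 (by decide +kernel) (by decide +kernel) (by decide +kernel)
    (by decide +kernel) (by decide +kernel) ?_ ?_ pcKeys_G2_1
  · apply all2_of_chunks _ [] 0 _ _ 40 1 (by norm_num) (by decide +kernel)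
    intro c hc
    interval_cases c
    · exact pcC_G2_1_1_0
  · apply all2_of_chunks _ 0 [] _ _ 40 1 (by norm_num) (by decide +kernel)
    intro c hc
    interval_cases c
    · exact pcC_G2_1_2_0

theorem pcFam_G2_1 : LevFam chevG2 pcJ_G2_1 pcV_G2_1 :=
  levFam_step chevG2 pcMem_G2 pcJ_G2_1 [] pcPhi_G2_1 pcPhiOK_G2_1 pcds_G2_1
    pcCert_G2_1 pcV_G2_0 pcFam_G2_0

set_option maxRecDepth 1000000 in
set_option maxHeartbeats 0 in
theorem pcS_G2_1 (q : ℕ) : (pcds_G2_1.map fun d => q ^ d.length).sum =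
    (List.zipWith (fun c j => c * q ^ j) [1, 1] (List.range 2)).sum :=
  sum_pow_length_eq q _ 2 _ (by decide +kernel) (by decide +kernel)

def pcPoly_G2_1 (q : ℕ) : ℕ :=
  (List.zipWith (fun c j => c * q ^ j) [1, 1] (List.range 2)).sum * 1

theorem pcSumL_G2_1 (q : ℕ) : ∑ k, q ^ (pcV_G2_1 k).length = pcPoly_G2_1 q := by
  refine (sum_stepV pcV_G2_0 pcds_G2_1 q).trans ?_
  rw [pcS_G2_1, pcSumL_G2_0 q]
  rfl

abbrev pcI_G2_2 : Type := Fin pcds_G2_2.length × pcI_G2_1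

def pcV_G2_2 : pcI_G2_2 → List ℕ := stepV pcV_G2_1 pcds_G2_2

set_option maxRecDepth 1000000 in
set_option maxHeartbeats 0 in
theorem pcCert_G2_2 : LevCert chevG2 pcJ_G2_2 pcJ_G2_1 pcPhi_G2_2 pcds_G2_2 := by
  refine levCert_of_checks chevG2 pcMem_G2 pcRTOK_G2 pcJ_G2_2 pcJ_G2_1 pcPhi_G2_2 pcds_G2_2
    pcP_G2_2 pctr_G2_2 6 pcPhiOK_G2_2 (by decide +kernel) (by decide +kernel) (by decide +kernel)
    (by decide +kernel) (by decide +kernel) ?_ ?_ pcKeys_G2_2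
  · apply all2_of_chunks _ [] 0 _ _ 40 1 (by norm_num) (by decide +kernel)
    intro c hc
    interval_cases c
    · exact pcC_G2_2_1_0
  · apply all2_of_chunks _ 0 [] _ _ 40 1 (by norm_num) (by decide +kernel)
    intro c hc
    interval_cases c
    · exact pcC_G2_2_2_0

theorem pcFam_G2_2 : LevFam chevG2 pcJ_G2_2 pcV_G2_2 :=
  levFam_step chevG2 pcMem_G2 pcJ_G2_2 pcJ_G2_1 pcPhi_G2_2 pcPhiOK_G2_2 pcds_G2_2
    pcCert_G2_2 pcV_G2_1 pcFam_G2_1

set_option maxRecDepth 1000000 in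
set_option maxHeartbeats 0 in
theorem pcS_G2_2 (q : ℕ) : (pcds_G2_2.map fun d => q ^ d.length).sum =
    (List.zipWith (fun c j => c * q ^ j) [1, 1, 1, 1, 1, 1] (List.range 6)).sum :=
  sum_pow_length_eq q _ 6 _ (by decide +kernel) (by decide +kernel)

def pcPoly_G2_2 (q : ℕ) : ℕ :=
  (List.zipWith (fun c j => c * q ^ j) [1, 1, 1, 1, 1, 1] (List.range 6)).sum * pcPoly_G2_1 q

theorem pcSumL_G2_2 (q : ℕ) : ∑ k, q ^ (pcV_G2_2 k).length = pcPoly_G2_2 q := by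
  refine (sum_stepV pcV_G2_1 pcds_G2_2 q).trans ?_
  rw [pcS_G2_2, pcSumL_G2_1 q]
  rfl

theorem pcTop_G2 : ∀ i < chevG2.rank, i ∈ pcJ_G2_2 := by decide +kernel

end Cfsg.Agent.helper5.Chev
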