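import Mathlib
import Cfsg.Agent.Lib_helper5_ChevBN3
import Cfsg.Agent.S1043

set_option autoImplicit false
open Cfsg

namespace Cfsg.Agent.helper5.Chev

open Cfsg.Lie
open scoped commutatorElement

/-- the derived subgroup of a subgroup `K`, seen in the ambient group -/
def derK {G : Type*} [Group G] (K : Subgroup G) : Subgroup G := (commutator ↥K).map K.subtype

theorem comm_mem_derK {G : Type*} [Group G] (K : Subgroup G) (a b : G) (ha : a ∈ K) (hb : b ∈ K) :
    a * b * a⁻¹ * b⁻¹ ∈ derK K := by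
  unfold derK
  rw [Subgroup.mem_map]
  refine ⟨⁅(⟨a, ha⟩ : ↥K), ⟨b, hb⟩⁆, ?_, rfl⟩
  rw [commutator_def]
  exact Subgroup.commutator_mem_commutator (Subgroup.mem_top _) (Subgroup.mem_top _)

theorem conj_mem_derK {G : Type*} [Group G] (K : Subgroup G) (g c : G) (hg : g ∈ K)
    (hc : c ∈ derK K) : g * c * g⁻¹ ∈ derK K := by
  unfold derK at hc ⊢
  rw [Subgroup.mem_map] at hc ⊢
  obtain ⟨c', hc', rfl⟩ := hc
  have hn : (commutator ↥K).Normal := inferInstance
  exact ⟨⟨g, hg⟩ * c' * (⟨g, hg⟩ : ↥K)⁻¹, hn.conj_mem c' hc' _, rfl⟩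

theorem commutator_eq_top_of_le {G : Type*} [Group G] (K : Subgroup G) (h : K ≤ derK K) :
    commutator ↥K = ⊤ := by
  rw [eq_top_iff]
  intro x _
  have hx := h x.2
  unfold derK at hx
  rw [Subgroup.mem_map] at hx
  obtain ⟨y, hy, e⟩ := hx
  have : y = x := Subtype.ext e
  rwa [this] at hy

section
variable {F : Type*} [Field F] (D : ChevalleyDatum)
  (hD : D ∈ [chevG2, chevB2, chevD4, chevF4, chevE6, chevE7, chevE8])

theorem xG_mem_group (r : ℕ) (hr : r < D.nroots) (t : F) : xG D hD r t ∈ D.group F := by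
  unfold ChevalleyDatum.group
  apply Subgroup.subset_closure
  refine ⟨⟨r, hr⟩, t, ?_⟩
  rw [xG_val, x_eq_xMat D r hr]

/-- **torus witness**: if some `h_p(c)` acts non-trivially on `X_s`, then `X_s ≤ G'` -/
theorem xG_mem_derK_of_torus (i : ℕ) (hi : i < D.rank) (s : ℕ) (hs : s < D.nroots) (c : F)
    (hc : c ≠ 0) (hne : c ^ (D.cartan i s) ≠ 1) (u : F) : xG D hD s u ∈ derK (D.group F) := by
  have hR := rootsOK_of_mem D hD
  obtain ⟨hB, hN, -⟩ := Cfsg.Agent.S1043.result (F := F) D hD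
  have hsl := hR.simple_lt i hi
  have hh : hGt D hD (D.simple i) c ∈ D.group F :=
    hN (H_le_N D (hGt_mem D hD _ hsl c hc))
  have hd : c ^ (D.cartan i s) - 1 ≠ 0 := sub_ne_zero.mpr hne
  obtain ⟨t, ht⟩ : ∃ t, t = u / (c ^ (D.cartan i s) - 1) := ⟨_, rfl⟩
  have hcomm : hGt D hD (D.simple i) c * xG D hD s t =
      xG D hD s (c ^ (D.cartan i s) * t) * hGt D hD (D.simple i) c := by
    apply Units.ext
    rw [Units.val_mul, Units.val_mul, xG_val, xG_val, hGt_val]
    exact Cfsg.Agent.S1032.result D hD i s hi hs c hc t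
  have h1 := comm_mem_derK (D.group F) _ _ hh (xG_mem_group D hD s hs t)
  have e : hGt D hD (D.simple i) c * xG D hD s t * (hGt D hD (D.simple i) c)⁻¹ *
      (xG D hD s t)⁻¹ = xG D hD s u := by
    rw [hcomm, mul_inv_cancel_right, xG_inv, xG_mul]
    congr 1
    rw [ht]
    field_simp
    ring
  rwa [e] at h1

/-- **commutator witness**: if `[x_a, x_b]` is a single root element `x_s(k t u)` with `k`
invertible in `F`, then `X_s ≤ G'` -/
theorem xG_mem_derK_of_comm (hC : CommOK D) (a b s : ℕ) (k : ℤ) (ha : a < D.nroots)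
    (hb : b < D.nroots) (hba : b ≠ a) (hbn : b ≠ D.neg a)
    (hterms : D.commTerms a b = [(s, k, 1, 1)]) (hk : ((k : ℤ) : F) ≠ 0) (v : F) :
    xG D hD s v ∈ derK (D.group F) := by
  have hf := commF_of_ok (F := F) D hD hC a ha b hb hba hbn (-(v / ((k : ℤ) : F))) 1
  have hcw : cwG D hD a b (-(v / ((k : ℤ) : F))) (1 : F) = xG D hD s v := by
    unfold cwG
    rw [hterms]
    simp only [List.map_cons, List.map_nil, List.prod_cons, List.prod_nil, mul_one, pow_one,
      neg_neg]
    congr 1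
    field_simp
  rw [hcw] at hf
  have h1 := comm_mem_derK (D.group F) _ _
    (Subgroup.inv_mem _ (xG_mem_group D hD b hb (1 : F)))
    (Subgroup.inv_mem _ (xG_mem_group D hD a ha (-(v / ((k : ℤ) : F)))))
  have e : (xG D hD b (1 : F))⁻¹ * (xG D hD a (-(v / ((k : ℤ) : F))))⁻¹ * (xG D hD b (1 : F))⁻¹⁻¹ *
      (xG D hD a (-(v / ((k : ℤ) : F))))⁻¹⁻¹ = xG D hD s v := by
    rw [inv_inv, inv_inv, mul_assoc, mul_assoc, hf]
    group
  rwa [e] at h1

/-- if all fundamental root subgroups lie in `G'` then `G` is perfect -/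
theorem perfect_of_simple (h : ∀ i < D.rank, ∀ t : F, xG D hD (D.simple i) t ∈ derK (D.group F)) :
    commutator ↥(D.group F) = ⊤ := by
  have hR := rootsOK_of_mem D hD
  obtain ⟨hB, hN, -⟩ := Cfsg.Agent.S1043.result (F := F) D hD
  have hall : ∀ s < D.nroots, ∀ t : F, xG D hD s t ∈ derK (D.group F) := by
    apply hR.induction (fun s => ∀ t : F, xG D hD s t ∈ derK (D.group F)) h
    intro i hi s hs ih t
    have hn : nGt D hD (D.simple i) (1 : F) ∈ D.group F :=
      hN (nGt_one_mem D hD _ (hR.simple_lt i hi))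
    have h1 := conj_mem_derK (D.group F) _ _ hn (ih (((etaOf D i s : ℤ) : F) * t))
    rw [nG_conj D hD i hi s hs, ← mul_assoc, eta_cast_sq D hD i s hi hs, one_mul] at h1
    exact h1
  apply commutator_eq_top_of_le
  unfold ChevalleyDatum.group
  rw [Subgroup.closure_le]
  rintro g ⟨r, t, hg⟩
  have e : g = xG D hD r t := by
    apply Units.ext
    rw [hg, xG_val, x_eq_xMat D r r.2]
  rw [e]
  exact hall r r.2 t

end

end Cfsg.Agent.helper5.Chev
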