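import Mathlib
import Cfsg.Agent.Lib_helper5_ChevNH
import Cfsg.Prelude.Def_ChevE7

set_option autoImplicit false

namespace Cfsg.Agent.helper5.Chev

open Cfsg.Lie

set_option maxRecDepth 1000000 in
set_option maxHeartbeats 0 in
theorem refl_E7_0 : reflCheckI chevE7 0 = true := by decide +kernel

set_option maxRecDepth 1000000 in
set_option maxHeartbeats 0 in
theorem refl_E7_1 : reflCheckI chevE7 1 = true := by decide +kernel

set_option maxRecDepth 1000000 in
set_option maxHeartbeats 0 in
theorem refl_E7_2 : reflCheckI chevE7 2 = true := by decide +kernel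

set_option maxRecDepth 1000000 in
set_option maxHeartbeats 0 in
theorem refl_E7_3 : reflCheckI chevE7 3 = true := by decide +kernel

set_option maxRecDepth 1000000 in
set_option maxHeartbeats 0 in
theorem refl_E7_4 : reflCheckI chevE7 4 = true := by decide +kernel

set_option maxRecDepth 1000000 in
set_option maxHeartbeats 0 in
theorem refl_E7_5 : reflCheckI chevE7 5 = true := by decide +kernel

set_option maxRecDepth 1000000 in
set_option maxHeartbeats 0 in
theorem refl_E7_6 : reflCheckI chevE7 6 = true := by decide +kernel

theorem refl_E7 : ∀ i < chevE7.rank, reflCheckI chevE7 i = true := by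
  intro i hi
  have hn : chevE7.rank = 7 := rfl
  rw [hn] at hi
  interval_cases i
  · exact refl_E7_0
  · exact refl_E7_1
  · exact refl_E7_2
  · exact refl_E7_3
  · exact refl_E7_4
  · exact refl_E7_5
  · exact refl_E7_6

end Cfsg.Agent.helper5.Chev
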