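import Mathlib
import Cfsg.Agent.Lib_helper5_ChevNH
import Cfsg.Prelude.Def_ChevG2
import Cfsg.Prelude.Def_ChevB2
import Cfsg.Prelude.Def_ChevD4
import Cfsg.Prelude.Def_ChevF4
import Cfsg.Prelude.Def_ChevE6

set_option autoImplicit false

namespace Cfsg.Agent.helper5.Chev

open Cfsg.Lie

set_option maxRecDepth 1000000 in
set_option maxHeartbeats 0 in
theorem refl_G2_0 : reflCheckI chevG2 0 = true := by decide +kernel

set_option maxRecDepth 1000000 in
set_option maxHeartbeats 0 in
theorem refl_G2_1 : reflCheckI chevG2 1 = true := by decide +kernel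

theorem refl_G2 : ∀ i < chevG2.rank, reflCheckI chevG2 i = true := by
  intro i hi
  have hn : chevG2.rank = 2 := rfl
  rw [hn] at hi
  interval_cases i
  · exact refl_G2_0
  · exact refl_G2_1

set_option maxRecDepth 1000000 in
set_option maxHeartbeats 0 in
theorem refl_B2_0 : reflCheckI chevB2 0 = true := by decide +kernel

set_option maxRecDepth 1000000 in
set_option maxHeartbeats 0 in
theorem refl_B2_1 : reflCheckI chevB2 1 = true := by decide +kernel

theorem refl_B2 : ∀ i < chevB2.rank, reflCheckI chevB2 i = true := by
  intro i hi
  have hn : chevB2.rank = 2 := rfl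
  rw [hn] at hi
  interval_cases i
  · exact refl_B2_0
  · exact refl_B2_1

set_option maxRecDepth 1000000 in
set_option maxHeartbeats 0 in
theorem refl_D4_0 : reflCheckI chevD4 0 = true := by decide +kernel

set_option maxRecDepth 1000000 in
set_option maxHeartbeats 0 in
theorem refl_D4_1 : reflCheckI chevD4 1 = true := by decide +kernel

set_option maxRecDepth 1000000 in
set_option maxHeartbeats 0 in
theorem refl_D4_2 : reflCheckI chevD4 2 = true := by decide +kernel

set_option maxRecDepth 1000000 in
set_option maxHeartbeats 0 in
theorem refl_D4_3 : reflCheckI chevD4 3 = true := by decide +kernel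

theorem refl_D4 : ∀ i < chevD4.rank, reflCheckI chevD4 i = true := by
  intro i hi
  have hn : chevD4.rank = 4 := rfl
  rw [hn] at hi
  interval_cases i
  · exact refl_D4_0
  · exact refl_D4_1
  · exact refl_D4_2
  · exact refl_D4_3

set_option maxRecDepth 1000000 in
set_option maxHeartbeats 0 in
theorem refl_F4_0 : reflCheckI chevF4 0 = true := by decide +kernel

set_option maxRecDepth 1000000 in
set_option maxHeartbeats 0 in
theorem refl_F4_1 : reflCheckI chevF4 1 = true := by decide +kernel

set_option maxRecDepth 1000000 in
set_option maxHeartbeats 0 in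
theorem refl_F4_2 : reflCheckI chevF4 2 = true := by decide +kernel

set_option maxRecDepth 1000000 in
set_option maxHeartbeats 0 in
theorem refl_F4_3 : reflCheckI chevF4 3 = true := by decide +kernel

theorem refl_F4 : ∀ i < chevF4.rank, reflCheckI chevF4 i = true := by
  intro i hi
  have hn : chevF4.rank = 4 := rfl
  rw [hn] at hi
  interval_cases i
  · exact refl_F4_0
  · exact refl_F4_1
  · exact refl_F4_2
  · exact refl_F4_3

set_option maxRecDepth 1000000 in
set_option maxHeartbeats 0 in
theorem refl_E6_0 : reflCheckI chevE6 0 = true := by decide +kernel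

set_option maxRecDepth 1000000 in
set_option maxHeartbeats 0 in
theorem refl_E6_1 : reflCheckI chevE6 1 = true := by decide +kernel

set_option maxRecDepth 1000000 in
set_option maxHeartbeats 0 in
theorem refl_E6_2 : reflCheckI chevE6 2 = true := by decide +kernel

set_option maxRecDepth 1000000 in
set_option maxHeartbeats 0 in
theorem refl_E6_3 : reflCheckI chevE6 3 = true := by decide +kernel

set_option maxRecDepth 1000000 in
set_option maxHeartbeats 0 in
theorem refl_E6_4 : reflCheckI chevE6 4 = true := by decide +kernel

set_option maxRecDepth 1000000 in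
set_option maxHeartbeats 0 in
theorem refl_E6_5 : reflCheckI chevE6 5 = true := by decide +kernel

theorem refl_E6 : ∀ i < chevE6.rank, reflCheckI chevE6 i = true := by
  intro i hi
  have hn : chevE6.rank = 6 := rfl
  rw [hn] at hi
  interval_cases i
  · exact refl_E6_0
  · exact refl_E6_1
  · exact refl_E6_2
  · exact refl_E6_3
  · exact refl_E6_4
  · exact refl_E6_5

end Cfsg.Agent.helper5.Chev
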