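import Mathlib
import Cfsg.Agent.Lib_helper5_TwBN

set_option autoImplicit false

open Cfsg

/-! The rank one identity `n_c x_c(t) n = x_c(-t⁻¹) (h_c(t⁻¹) n_c² n) u` along a chunk of mutually
orthogonal fundamental roots (helper5). -/

namespace Cfsg.Agent.helper5.Chev

open Cfsg.Lie Cfsg.Agent.helper6.Graph

section
variable {F : Type*} [Field F] (D : ChevalleyDatum)
  (hD : D ∈ [chevG2, chevB2, chevD4, chevF4, chevE6, chevE7, chevE8])

/-- `n_p x_p(t) n_p⁻¹ = x_{-p}(-t)` -/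
theorem nG_conj_simple (i : ℕ) (hi : i < D.rank) (t : F) :
    nGt D hD (D.simple i) 1 * xG D hD (D.simple i) t * (nGt D hD (D.simple i) 1)⁻¹ =
      xG D hD (D.neg (D.simple i)) (-t) := by
  have hR := rootsOK_of_mem D hD
  have hP := (Cfsg.Agent.S1095.nCheck_of_mem D hD i hi).etaP
  unfold etaCheckP at hP
  simp only [Bool.and_eq_true, beq_iff_eq] at hP
  rw [nG_conj D hD i hi _ (hR.simple_lt i hi), hR.refl_simple i hi, hP.1]
  congr 1
  push_cast
  ring

/-- the rank one identity for a fundamental root -/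
theorem rank1_id (i : ℕ) (hi : i < D.rank) (t : F) (ht : t ≠ 0) :
    nGt D hD (D.simple i) 1 * xG D hD (D.simple i) t =
      xG D hD (D.simple i) (-t⁻¹) * hGt D hD (D.simple i) t⁻¹ * nGt D hD (D.simple i) 1 *
        xG D hD (D.simple i) (-t⁻¹) * nGt D hD (D.simple i) 1 := by
  have h1 := nG_conj_simple D hD i hi t
  have h2 := xG_neg_eq D hD (D.simple i) (-t) (neg_ne_zero.mpr ht)
  have e1 : (-t)⁻¹ = -t⁻¹ := by rw [inv_neg]
  have e2 : -(-t⁻¹) = t⁻¹ := neg_neg _
  rw [e1, e2] at h2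
  rw [← h2, ← h1]
  group

/-- one step of the rank one identity, against a monomial element `n` that sends `-p` into `U` -/
theorem rank1_step (i : ℕ) (hi : i < D.rank) (t : F) (ht : t ≠ 0) (n : GL D.Idx F)
    (hneg : ∀ s : F, n⁻¹ * xG D hD (D.neg (D.simple i)) s * n ∈ D.posUnipotent F) :
    ∃ u ∈ D.posUnipotent F, nGt D hD (D.simple i) 1 * xG D hD (D.simple i) t * n =
      xG D hD (D.simple i) (-t⁻¹) *
        (hGt D hD (D.simple i) t⁻¹ * nGt D hD (D.simple i) 1 * nGt D hD (D.simple i) 1 * n) *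
          u := by
  have hR := rootsOK_of_mem D hD
  refine ⟨n⁻¹ * ((nGt D hD (D.simple i) 1)⁻¹ * xG D hD (D.simple i) (-t⁻¹) *
    nGt D hD (D.simple i) 1) * n, ?_, ?_⟩
  · rw [nG_conj_inv D hD i hi _ (hR.simple_lt i hi), hR.refl_simple i hi]
    exact hneg _
  · rw [rank1_id D hD i hi t ht]
    group

include hD in
theorem orth_nGt_xG (r s : ℕ) (h : orthChk D r s = true) (a b : F) :
    Commute (nGt D hD r a) (xG D hD s b) ∧ Commute (nGt D hD r a) (xG D hD (D.neg s) b) := by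
  have h1 := orth_commute (F := F) D hD r s h
  unfold nGt
  exact ⟨((h1 a b).1.mul_left (h1 (-a⁻¹) b).2.2.1).mul_left (h1 a b).1,
    ((h1 a b).2.1.mul_left (h1 (-a⁻¹) b).2.2.2).mul_left (h1 a b).2.1⟩

include hD in
theorem orth_hGt_xG (r s : ℕ) (h : orthChk D r s = true) (a b : F) :
    Commute (hGt D hD r a) (xG D hD s b) ∧ Commute (hGt D hD r a) (xG D hD (D.neg s) b) := by
  unfold hGt
  exact ⟨(orth_nGt_xG D hD r s h a b).1.mul_left (orth_nGt_xG D hD r s h (-1) b).1,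
    (orth_nGt_xG D hD r s h a b).2.mul_left (orth_nGt_xG D hD r s h (-1) b).2⟩

include hD in
theorem orth_xG_nGt (r s : ℕ) (h : orthChk D r s = true) (a b : F) :
    Commute (xG D hD r a) (nGt D hD s b) := by
  have h1 := orth_commute (F := F) D hD r s h
  unfold nGt
  exact ((h1 a b).1.mul_right (h1 a (-b⁻¹)).2.1).mul_right (h1 a b).1

include hD in
theorem xG_commute_chunkX (i : ℕ) (c : List ℕ)
    (h : ∀ j ∈ c, orthChk D (D.simple i) (D.simple j) = true) (a : F) (t : ℕ → F) :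
    Commute (xG D hD (D.simple i) a) (chunkX D hD c t) := by
  unfold chunkX
  apply Commute.list_prod_right
  intro x hx
  obtain ⟨j, hj, rfl⟩ := List.mem_map.mp hx
  exact (orth_commute (F := F) D hD _ _ (h j (List.mem_reverse.mp hj)) a (t j)).1

include hD in
theorem xG_commute_nR (i : ℕ) (c : List ℕ)
    (h : ∀ j ∈ c, orthChk D (D.simple i) (D.simple j) = true) (a : F) :
    Commute (xG D hD (D.simple i) a) (nR (F := F) D hD c) := by
  unfold nR nW
  apply Commute.list_prod_right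
  intro x hx
  obtain ⟨j, hj, rfl⟩ := List.mem_map.mp hx
  exact orth_xG_nGt D hD _ _ (h j (List.mem_reverse.mp hj)) a 1

/-- the torus part of the rank one identity along a chunk -/
def chunkM (c : List ℕ) (t : ℕ → F) : GL D.Idx F :=
  (c.reverse.map fun i => hGt D hD (D.simple i) (t i)⁻¹ * nGt D hD (D.simple i) 1 *
    nGt D hD (D.simple i) 1).prod

theorem chunkM_cons (i : ℕ) (c : List ℕ) (t : ℕ → F) :
    chunkM D hD (i :: c) t = chunkM D hD c t *
      (hGt D hD (D.simple i) (t i)⁻¹ * nGt D hD (D.simple i) 1 * nGt D hD (D.simple i) 1) := by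
  unfold chunkM
  rw [List.reverse_cons, List.map_append, List.prod_append]
  simp

include hD in
/-- the rank one identity along a chunk -/
theorem chunk_rank1 (c : List ℕ) (hc : ChunkOrth D c) (hlt : ∀ i ∈ c, i < D.rank) (t : ℕ → F)
    (ht : ∀ i ∈ c, t i ≠ 0) :
    ∀ n : GL D.Idx F,
      (∀ i ∈ c, ∀ s : F, n⁻¹ * xG D hD (D.neg (D.simple i)) s * n ∈ D.posUnipotent F) →
      ∃ u ∈ D.posUnipotent F, nR D hD c * chunkX D hD c t * n =
        chunkX D hD c (fun i => -(t i)⁻¹) * (chunkM D hD c t * n) * u := by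
  induction c with
  | nil =>
    intro n _
    refine ⟨1, Subgroup.one_mem _, ?_⟩
    simp [nR, nW, chunkX, chunkM]
  | cons i c ih =>
    intro n hneg
    have hc' := List.pairwise_cons.mp hc
    have hi := hlt i List.mem_cons_self
    obtain ⟨u₁, hu₁, e₁⟩ := rank1_step D hD i hi (t i) (ht i List.mem_cons_self) n
      (hneg i List.mem_cons_self)
    obtain ⟨m, hm⟩ : ∃ m, m = hGt D hD (D.simple i) (t i)⁻¹ * nGt D hD (D.simple i) 1 *
      nGt D hD (D.simple i) (1 : F) := ⟨_, rfl⟩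
    rw [← hm] at e₁
    have hneg' : ∀ j ∈ c, ∀ s : F,
        (m * n)⁻¹ * xG D hD (D.neg (D.simple j)) s * (m * n) ∈ D.posUnipotent F := by
      intro j hj s
      have hcm : Commute m (xG D hD (D.neg (D.simple j)) s) := by
        rw [hm]
        exact (((orth_hGt_xG D hD _ _ (hc'.1 j hj) _ s).2.mul_left
          (orth_nGt_xG D hD _ _ (hc'.1 j hj) 1 s).2).mul_left
          (orth_nGt_xG D hD _ _ (hc'.1 j hj) 1 s).2)
      have e : (m * n)⁻¹ * xG D hD (D.neg (D.simple j)) s * (m * n) =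
          n⁻¹ * xG D hD (D.neg (D.simple j)) s * n := by
        calc (m * n)⁻¹ * xG D hD (D.neg (D.simple j)) s * (m * n)
            = n⁻¹ * (m⁻¹ * (xG D hD (D.neg (D.simple j)) s * m)) * n := by group
          _ = n⁻¹ * (m⁻¹ * (m * xG D hD (D.neg (D.simple j)) s)) * n := by rw [hcm.eq]
          _ = n⁻¹ * xG D hD (D.neg (D.simple j)) s * n := by group
      rw [e]
      exact hneg j (List.mem_cons_of_mem _ hj) s
    obtain ⟨u₂, hu₂, e₂⟩ := ih hc'.2 (fun j hj => hlt j (List.mem_cons_of_mem _ hj))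
      (fun j hj => ht j (List.mem_cons_of_mem _ hj)) (m * n) hneg'
    refine ⟨u₂ * u₁, Subgroup.mul_mem _ hu₂ hu₁, ?_⟩
    rw [nR_cons, chunkX_cons, chunkX_cons, chunkM_cons, ← hm]
    have c1 := (nGt_commute_chunkX D hD i c hc'.1 t).eq
    have c2 := (xG_commute_nR D hD i c hc'.1 (-(t i)⁻¹)).eq
    have c3 := (xG_commute_chunkX D hD i c hc'.1 (-(t i)⁻¹) t).eq
    have c4 := (xG_commute_chunkX D hD i c hc'.1 (-(t i)⁻¹) (fun i => -(t i)⁻¹)).eq
    obtain ⟨ni, hni⟩ : ∃ ni, ni = nGt D hD (D.simple i) (1 : F) := ⟨_, rfl⟩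
    obtain ⟨xa, hxa⟩ : ∃ xa, xa = xG D hD (D.simple i) (-(t i)⁻¹) := ⟨_, rfl⟩
    obtain ⟨xt, hxt⟩ : ∃ xt, xt = xG D hD (D.simple i) (t i) := ⟨_, rfl⟩
    obtain ⟨X, hX⟩ : ∃ X, X = chunkX D hD c t := ⟨_, rfl⟩
    obtain ⟨X', hX'⟩ : ∃ X', X' = chunkX D hD c (fun i => -(t i)⁻¹) := ⟨_, rfl⟩
    obtain ⟨R, hR'⟩ : ∃ R, R = nR (F := F) D hD c := ⟨_, rfl⟩
    obtain ⟨M, hM⟩ : ∃ M, M = chunkM D hD c t := ⟨_, rfl⟩
    rw [← hni, ← hxt, ← hxa] at e₁
    rw [← hX, ← hX', ← hR', ← hM] at e₂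
    rw [← hni, ← hX] at c1
    rw [← hxa, ← hR'] at c2
    rw [← hxa, ← hX] at c3
    rw [← hxa, ← hX'] at c4
    rw [← hR', ← hni, ← hX, ← hxt, ← hX', ← hxa, ← hM]
    calc R * ni * (X * xt) * n = R * (ni * X) * xt * n := by group
      _ = R * (X * ni) * xt * n := by rw [c1]
      _ = R * X * (ni * xt * n) := by group
      _ = R * X * (xa * (m * n) * u₁) := by rw [e₁]
      _ = R * (X * xa) * (m * n) * u₁ := by group
      _ = R * (xa * X) * (m * n) * u₁ := by rw [c3]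
      _ = (R * xa) * X * (m * n) * u₁ := by group
      _ = (xa * R) * X * (m * n) * u₁ := by rw [c2]
      _ = xa * (R * X * (m * n)) * u₁ := by group
      _ = xa * (X' * (M * (m * n)) * u₂) * u₁ := by rw [e₂]
      _ = (xa * X') * (M * m * n) * (u₂ * u₁) := by group
      _ = X' * xa * (M * m * n) * (u₂ * u₁) := by rw [c4]

end

end Cfsg.Agent.helper5.Chev
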