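import Mathlib
import Cfsg.Agent.Lib_helper5_TwFine1

set_option autoImplicit false

open Cfsg

/-! The fine Bruhat decomposition `G¹ = U¹ N⁰ U¹` of a twisted group, where `N⁰` is generated by
the chunk representatives and the rank one torus elements; hence `H ∩ G¹ ≤ N⁰` (helper5). -/

namespace Cfsg.Agent.helper5.Chev

open Cfsg.Lie Cfsg.Agent.helper6.Graph

section
variable {F : Type*} [Field F] (D : ChevalleyDatum)
  (hD : D ∈ [chevG2, chevB2, chevD4, chevF4, chevE6, chevE7, chevE8])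

theorem chunkX_eq_one (c : List ℕ) (t : ℕ → F) (h : ∀ j ∈ c, t j = 0) :
    chunkX D hD c t = 1 := by
  unfold chunkX
  apply List.prod_eq_one
  intro x hx
  obtain ⟨j, hj, rfl⟩ := List.mem_map.mp hx
  rw [h j (List.mem_reverse.mp hj), xG_zero]

include hD in
theorem chunkX_mem_posU (c : List ℕ) (hc : ∀ i ∈ c, i < D.rank) (t : ℕ → F) :
    chunkX D hD c t ∈ D.posUnipotent F := by
  have hR := rootsOK_of_mem D hD
  unfold chunkX
  apply Subgroup.list_prod_mem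
  intro x hx
  obtain ⟨i, hi, rfl⟩ := List.mem_map.mp hx
  unfold ChevalleyDatum.posUnipotent
  apply Subgroup.subset_closure
  exact ⟨_, _, hR.simple_pos i (hc i (List.mem_reverse.mp hi)), xG_val D hD _ _⟩

theorem conj_chunkX_mem (n : GL D.Idx F) (c : List ℕ) (t : ℕ → F)
    (h : ∀ i ∈ c, ∀ s : F, n⁻¹ * xG D hD (D.simple i) s * n ∈ D.posUnipotent F) :
    n⁻¹ * chunkX D hD c t * n ∈ D.posUnipotent F := by
  induction c with
  | nil =>
    have e : n⁻¹ * chunkX D hD [] t * n = 1 := by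
      unfold chunkX
      simp
    rw [e]
    exact Subgroup.one_mem _
  | cons i c ih =>
    rw [chunkX_cons]
    have e : n⁻¹ * (chunkX D hD c t * xG D hD (D.simple i) (t i)) * n =
        (n⁻¹ * chunkX D hD c t * n) * (n⁻¹ * xG D hD (D.simple i) (t i) * n) := by group
    rw [e]
    exact Subgroup.mul_mem _ (ih (fun j hj => h j (List.mem_cons_of_mem _ hj)))
      (h i List.mem_cons_self _)

include hD in
/-- conjugation by the inverse of `h n_w` maps `x_r` into `U` when `w r` is positive -/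
theorem conj_N_pos (h : GL D.Idx F) (hh : h ∈ D.diagonalSubgroup F) (w : List ℕ)
    (hw : ∀ i ∈ w, i < D.rank) (n : GL D.Idx F) (e : n⁻¹ = h * nW D hD w) (r : ℕ)
    (hr : r < D.nroots) (hpos : D.IsPosRoot (applyW D w r)) (s : F) :
    n⁻¹ * xG D hD r s * n ∈ D.posUnipotent F := by
  have hnorm := (Cfsg.Agent.S1036.result (F := F) D hD).1
  obtain ⟨ε, -, hconj⟩ := nW_conj (F := F) D hD w hw r hr
  have en : n = (h * nW D hD w)⁻¹ := by rw [← e, inv_inv]
  have e2 : n⁻¹ * xG D hD r s * n = h * (nW D hD w * xG D hD r s * (nW D hD w)⁻¹) * h⁻¹ := by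
    rw [e]
    conv_lhs => rw [en]
    group
  rw [e2, hconj]
  have hx : xG D hD (applyW D w r) (ε * s) ∈ D.posUnipotent F :=
    Subgroup.subset_closure ⟨_, _, hpos, xG_val D hD _ _⟩
  exact (Subgroup.mem_normalizer_iff.mp (hnorm hh) _).mp hx

end

section
variable {K : Type*} [Field K] (D : ChevalleyDatum)
  (hD : D ∈ [chevG2, chevB2, chevD4, chevF4, chevE6, chevE7, chevE8])
  {C : Cert} (T : TwData K D C) (P : PiOK D C) (φ : K →+* K)

include hD P in
/-- the sign dichotomy: a `σ`-fixed monomial element sends a `ρ`-orbit of fundamental roots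
either into `U` or into `V` -/
theorem tw_sign_dich (n : GL D.Idx K) (hn : n ∈ D.monomialSubgroup K)
    (hfix : sigmaHom D T.perm φ n = n) (c : List ℕ) (hlt : ∀ i ∈ c, i < D.rank)
    (htr : ∀ i ∈ c, ∀ j ∈ c, j = i ∨ j = rhoOf C i) :
    (∀ i ∈ c, ∀ s : K, n⁻¹ * xG D hD (D.simple i) s * n ∈ D.posUnipotent K) ∨
    (∀ i ∈ c, ∀ s : K, n⁻¹ * xG D hD (D.neg (D.simple i)) s * n ∈ D.posUnipotent K) := by
  have hR := rootsOK_of_mem D hD
  obtain ⟨h, hh, w, hw, e⟩ := mem_N_decomp D hD n⁻¹ (Subgroup.inv_mem _ hn)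
  have hwρ : ∀ j ∈ w.map (rhoOf C), j < D.rank := by
    intro j hj
    obtain ⟨i, hi, rfl⟩ := List.mem_map.mp hj
    exact T.perm.rho_lt i (hw i hi)
  -- `w` commutes with `ρ`
  have hσ : sigmaHom D T.perm φ n⁻¹ = n⁻¹ := by rw [map_inv, hfix]
  rw [e, map_mul, sigma_nW D hD T φ w hw] at hσ
  obtain ⟨h', hh'def⟩ : ∃ h', h' = (sigmaHom D T.perm φ h)⁻¹ * h := ⟨_, rfl⟩
  have hh' : h' ∈ D.diagonalSubgroup K := by
    rw [hh'def]
    exact Subgroup.mul_mem _ (Subgroup.inv_mem _ (sigma_H D hD T φ h hh)) hh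
  have enw : nW D hD (w.map (rhoOf C)) = h' * nW D hD w := by
    rw [hh'def, mul_assoc, ← hσ]
    group
  have happ := applyW_eq_of_eq D hD h' hh' _ _ hwρ hw enw
  have key2 : ∀ r < D.nroots, applyW D w (gi C.pi r) = gi C.pi (applyW D w r) := by
    intro r hr
    rw [← happ _ (T.perm.pi_lt r hr)]
    exact applyW_map_rho D hD T P w hw r hr
  rcases c with _ | ⟨i₀, c'⟩
  · left
    intro i hi
    exact absurd hi List.not_mem_nil
  · have hi₀ := hlt i₀ List.mem_cons_self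
    have hlt₀ := applyW_lt D hD w hw _ (hR.simple_lt i₀ hi₀)
    have hsimp : D.simple (rhoOf C i₀) = gi C.pi (D.simple i₀) :=
      (T.perm.pi_simple i₀ hi₀).symm
    rcases hR.pos_or_neg _ hlt₀ with ⟨hp, -, -⟩ | ⟨hng, -, -⟩
    · left
      intro j hj s
      have hpj : D.IsPosRoot (applyW D w (D.simple j)) := by
        rcases htr i₀ List.mem_cons_self j hj with rfl | rfl
        · exact hp
        · rw [hsimp, key2 _ (hR.simple_lt i₀ hi₀)]
          exact P.pos _ hlt₀ hp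
      exact conj_N_pos D hD h hh w hw n e _ (hR.simple_lt j (hlt j hj)) hpj s
    · right
      intro j hj s
      have hnj : D.IsNegRoot (applyW D w (D.simple j)) := by
        rcases htr i₀ List.mem_cons_self j hj with rfl | rfl
        · exact hng
        · rw [hsimp, key2 _ (hR.simple_lt i₀ hi₀)]
          exact P.neg _ hlt₀ hng
      have hjlt := hR.simple_lt j (hlt j hj)
      have hpj : D.IsPosRoot (applyW D w (D.neg (D.simple j))) := by
        rw [applyW_neg D hD w hw _ hjlt]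
        rcases hR.pos_or_neg _ (applyW_lt D hD w hw _ hjlt) with ⟨-, h2, -⟩ | ⟨-, -, h3⟩
        · exact absurd hnj h2
        · exact h3
      exact conj_N_pos D hD h hh w hw n e _ (hR.neg_lt _ hjlt) hpj s

include hD P in
/-- the set `U¹ N⁰ U¹` is stable under left multiplication by a chunk representative -/
theorem tw_fine_step (G1 : Subgroup (GL D.Idx K))
    (hfix : ∀ g ∈ G1, sigmaHom D T.perm φ g = g)
    (N0 : Subgroup (GL D.Idx K)) (hN0 : N0 ≤ D.monomialSubgroup K ⊓ G1)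
    (c : List ℕ) (hc : ChunkOK D C c) (htr : ∀ i ∈ c, ∀ j ∈ c, j = i ∨ j = rhoOf C i)
    (hcN : nR D hD c ∈ N0)
    (hM : ∀ t : ℕ → K, (∀ j ∈ c, φ (t (rhoInvOf C j)) = t j) → (∀ j ∈ c, t j ≠ 0) →
      chunkM D hD c t ∈ N0)
    (hx : ∀ t : ℕ → K, (∀ j ∈ c, φ (t (rhoInvOf C j)) = t j) → chunkX D hD c t ∈ G1)
    (hdec : ∀ u ∈ D.posUnipotent K ⊓ G1, ∃ a ∈ D.posUnipotent K ⊓ G1, ∃ t : ℕ → K,
      (∀ j ∈ c, φ (t (rhoInvOf C j)) = t j) ∧
        u = (nR D hD c)⁻¹ * a * nR D hD c * chunkX D hD c t)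
    (g : GL D.Idx K)
    (hg : ∃ u ∈ D.posUnipotent K ⊓ G1, ∃ n ∈ N0, ∃ v ∈ D.posUnipotent K ⊓ G1, g = u * n * v) :
    ∃ u ∈ D.posUnipotent K ⊓ G1, ∃ n ∈ N0, ∃ v ∈ D.posUnipotent K ⊓ G1,
      nR D hD c * g = u * n * v := by
  obtain ⟨u, hu, n, hn, v, hv, rfl⟩ := hg
  obtain ⟨a, ha, t, htc, rfl⟩ := hdec u hu
  have hnN := (hN0 hn).1
  have hnG := (hN0 hn).2
  have hcG : nR D hD c ∈ G1 := (hN0 hcN).2
  have hXU : chunkX D hD c t ∈ D.posUnipotent K := chunkX_mem_posU D hD c hc.lt t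
  have hXG : chunkX D hD c t ∈ G1 := hx t htc
  have e0 : nR D hD c * ((nR D hD c)⁻¹ * a * nR D hD c * chunkX D hD c t * n * v) =
      a * (nR D hD c * chunkX D hD c t * n) * v := by group
  rw [e0]
  rcases tw_sign_dich D hD T P φ n hnN (hfix n hnG) c hc.lt htr with hA | hB
  · -- the chunk stays positive
    refine ⟨a, ha, nR D hD c * n, N0.mul_mem hcN hn, (n⁻¹ * chunkX D hD c t * n) * v, ?_, ?_⟩
    · refine Subgroup.mul_mem _ ⟨conj_chunkX_mem D hD n c t hA, ?_⟩ hv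
      exact G1.mul_mem (G1.mul_mem (G1.inv_mem hnG) hXG) hnG
    · group
  · by_cases h0 : ∀ j ∈ c, t j ≠ 0
    · obtain ⟨u₂, hu₂, e₂⟩ := chunk_rank1 D hD c hc.orth hc.lt t h0 n hB
      have htc' : ∀ j ∈ c, φ ((fun i => -(t i)⁻¹) (rhoInvOf C j)) = (fun i => -(t i)⁻¹) j := by
        intro j hj
        show φ (-(t (rhoInvOf C j))⁻¹) = -(t j)⁻¹
        rw [map_neg, map_inv₀, htc j hj]
      have hX'U : chunkX D hD c (fun i => -(t i)⁻¹) ∈ D.posUnipotent K :=
        chunkX_mem_posU D hD c hc.lt _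
      have hX'G : chunkX D hD c (fun i => -(t i)⁻¹) ∈ G1 := hx _ htc'
      have hMN := hM t htc h0
      have hMG : chunkM D hD c t * n ∈ G1 := G1.mul_mem (hN0 hMN).2 hnG
      have hu₂G : u₂ ∈ G1 := by
        have e3 : u₂ = (chunkM D hD c t * n)⁻¹ * (chunkX D hD c (fun i => -(t i)⁻¹))⁻¹ *
            (nR D hD c * chunkX D hD c t * n) := by
          rw [e₂]
          group
        rw [e3]
        exact G1.mul_mem (G1.mul_mem (G1.inv_mem hMG) (G1.inv_mem hX'G))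
          (G1.mul_mem (G1.mul_mem hcG hXG) hnG)
      refine ⟨a * chunkX D hD c (fun i => -(t i)⁻¹), Subgroup.mul_mem _ ha ⟨hX'U, hX'G⟩,
        chunkM D hD c t * n, N0.mul_mem hMN hn, u₂ * v, Subgroup.mul_mem _ ⟨hu₂, hu₂G⟩ hv, ?_⟩
      rw [e₂]
      group
    · -- the chunk element is trivial
      push Not at h0
      obtain ⟨j₀, hj₀, h0⟩ := h0
      have hall : ∀ j ∈ c, t j = 0 := by
        intro j hj
        rcases htr j₀ hj₀ j hj with rfl | rfl
        · exact h0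
        · have := htc _ hj
          have e4 : rhoInvOf C (rhoOf C j₀) = j₀ := T.perm.rho_left j₀ (hc.lt j₀ hj₀)
          rw [e4, h0, map_zero] at this
          exact this.symm
      rw [chunkX_eq_one D hD c t hall, mul_one]
      exact ⟨a, ha, nR D hD c * n, N0.mul_mem hcN hn, v, hv, rfl⟩

include hD P in
/-- **the fine Bruhat decomposition**: `H ∩ G¹ ≤ N⁰` -/
theorem tw_fine (hC : CommOK D) (hP : PosCommOK D) (G1 : Subgroup (GL D.Idx K))
    (hfix : ∀ g ∈ G1, sigmaHom D T.perm φ g = g)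
    (N0 : Subgroup (GL D.Idx K)) (hN0 : N0 ≤ D.monomialSubgroup K ⊓ G1)
    (cs : List (List ℕ)) (hcs : ∀ c ∈ cs, ChunkOK D C c)
    (htr : ∀ c ∈ cs, ∀ i ∈ c, ∀ j ∈ c, j = i ∨ j = rhoOf C i)
    (hcN : ∀ c ∈ cs, nR D hD c ∈ N0)
    (hsq : ∀ c ∈ cs, nR D hD c * nR D hD c ∈ D.diagonalSubgroup K)
    (hM : ∀ c ∈ cs, ∀ t : ℕ → K, (∀ j ∈ c, φ (t (rhoInvOf C j)) = t j) → (∀ j ∈ c, t j ≠ 0) →
      chunkM D hD c t ∈ N0)
    (hx : ∀ c ∈ cs, ∀ t : ℕ → K, (∀ j ∈ c, φ (t (rhoInvOf C j)) = t j) →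
      chunkX D hD c t ∈ G1)
    (hdec : ∀ c ∈ cs, ∀ u ∈ D.posUnipotent K ⊓ G1, ∃ a ∈ D.posUnipotent K ⊓ G1, ∃ t : ℕ → K,
      (∀ j ∈ c, φ (t (rhoInvOf C j)) = t j) ∧
        u = (nR D hD c)⁻¹ * a * nR D hD c * chunkX D hD c t)
    (hgen : G1 ≤ Subgroup.closure
      (((D.posUnipotent K ⊓ G1 : Subgroup (GL D.Idx K)) : Set (GL D.Idx K)) ∪
        {s | ∃ c ∈ cs, s = nR D hD c})) :
    D.diagonalSubgroup K ⊓ G1 ≤ N0 := by
  have hnorm := (Cfsg.Agent.S1036.result (F := K) D hD).1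
  have hUH := (Cfsg.Agent.S1036.result (F := K) D hD).2
  -- every element of `G¹` lies in `U¹ N⁰ U¹`
  have hX : ∀ g ∈ Subgroup.closure
      (((D.posUnipotent K ⊓ G1 : Subgroup (GL D.Idx K)) : Set (GL D.Idx K)) ∪
        {s | ∃ c ∈ cs, s = nR D hD c}),
      ∃ u ∈ D.posUnipotent K ⊓ G1, ∃ n ∈ N0, ∃ v ∈ D.posUnipotent K ⊓ G1, g = u * n * v := by
    intro g hg
    induction hg using Subgroup.closure_induction_left with
    | one => exact ⟨1, Subgroup.one_mem _, 1, N0.one_mem, 1, Subgroup.one_mem _, by group⟩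
    | mul_left x hx y _ ih =>
      rcases hx with hxU | ⟨c, hc, rfl⟩
      · obtain ⟨u, hu, n, hn, v, hv, rfl⟩ := ih
        exact ⟨x * u, Subgroup.mul_mem _ hxU hu, n, hn, v, hv, by group⟩
      · exact tw_fine_step D hD T P φ G1 hfix N0 hN0 c (hcs c hc) (htr c hc) (hcN c hc)
          (hM c hc) (hx c hc) (hdec c hc) y ih
    | inv_mul_cancel x hx y _ ih =>
      rcases hx with hxU | ⟨c, hc, rfl⟩
      · obtain ⟨u, hu, n, hn, v, hv, rfl⟩ := ih
        exact ⟨x⁻¹ * u, Subgroup.mul_mem _ (Subgroup.inv_mem _ hxU) hu, n, hn, v, hv, by group⟩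
      · -- `n_c⁻¹ = n_c (n_c²)⁻¹`
        obtain ⟨u, hu, n, hn, v, hv, rfl⟩ := ih
        obtain ⟨z, hz⟩ : ∃ z, z = (nR (F := K) D hD c * nR D hD c)⁻¹ := ⟨_, rfl⟩
        have hzH : z ∈ D.diagonalSubgroup K := by
          rw [hz]; exact Subgroup.inv_mem _ (hsq c hc)
        have hzN : z ∈ N0 := by
          rw [hz]; exact N0.inv_mem (N0.mul_mem (hcN c hc) (hcN c hc))
        have hzu : z * u * z⁻¹ ∈ D.posUnipotent K ⊓ G1 :=
          ⟨(Subgroup.mem_normalizer_iff.mp (hnorm hzH) _).mp hu.1,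
            G1.mul_mem (G1.mul_mem (hN0 hzN).2 hu.2) (G1.inv_mem (hN0 hzN).2)⟩
        have e : (nR D hD c)⁻¹ * (u * n * v) = nR D hD c * ((z * u * z⁻¹) * (z * n) * v) := by
          rw [hz]
          group
        rw [e]
        exact tw_fine_step D hD T P φ G1 hfix N0 hN0 c (hcs c hc) (htr c hc) (hcN c hc)
          (hM c hc) (hx c hc) (hdec c hc) _
          ⟨z * u * z⁻¹, hzu, z * n, N0.mul_mem hzN hn, v, hv, rfl⟩
  intro y hy
  obtain ⟨u, hu, n, hn, v, hv, e⟩ := hX y (hgen hy.2)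
  have hnN := (hN0 hn).1
  have h1 := cell_unique D hD hC hP 1 1 u v y n (Subgroup.one_mem _) (Subgroup.one_mem _)
    (U_le_B D hD hu.1) (U_le_B D hD hv.1) (H_le_N D hy.1) hnN (by rw [one_mul, mul_one]; exact e)
  have hnH : n ∈ D.diagonalSubgroup K := by
    have e2 : n = y * (y⁻¹ * n) := by group
    rw [e2]
    exact Subgroup.mul_mem _ hy.1 h1
  have h2 : n⁻¹ * y ∈ D.posUnipotent K ⊓ D.diagonalSubgroup K := by
    refine ⟨?_, Subgroup.mul_mem _ (Subgroup.inv_mem _ hnH) hy.1⟩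
    have e3 : n⁻¹ * y = (n⁻¹ * u * n⁻¹⁻¹) * v := by
      rw [e]
      group
    rw [e3]
    exact Subgroup.mul_mem _
      ((Subgroup.mem_normalizer_iff.mp (hnorm (Subgroup.inv_mem _ hnH)) _).mp hu.1) hv.1
  rw [hUH, Subgroup.mem_bot] at h2
  have e4 : y = n := by
    have : n * (n⁻¹ * y) = n * 1 := by rw [h2]
    rw [mul_one] at this
    rw [← this]
    group
  rw [e4]
  exact hn

end

end Cfsg.Agent.helper5.Chev
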