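import Mathlib
import Cfsg.Agent.Lib_helper5_TwFine2
import Cfsg.Agent.Lib_helper5_TwTorus

set_option autoImplicit false

open Cfsg

/-! Torus lemmas for the fine Bruhat decomposition: `h_p` is multiplicative, `n_p⁴ = 1`,
`n_p h n_p⁻¹ = h_p(χ_p(h))⁻¹ h`, and the elements of `⟨n_p⟩ ∩ H` have order at most two
(helper5). -/

namespace Cfsg.Agent.helper5.Chev

open Cfsg.Lie Cfsg.Agent.helper6.Graph

section
variable {F : Type*} [Field F] (D : ChevalleyDatum)
  (hD : D ∈ [chevG2, chevB2, chevD4, chevF4, chevE6, chevE7, chevE8])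

theorem hGt_one' (r : ℕ) : hGt D hD r (1 : F) = 1 := by
  unfold hGt
  rw [nGt_neg_one, mul_inv_cancel]

theorem hGt_simple_mul (i : ℕ) (hi : i < D.rank) (a b : F) (ha : a ≠ 0) (hb : b ≠ 0) :
    hGt D hD (D.simple i) a * hGt D hD (D.simple i) b = hGt D hD (D.simple i) (a * b) := by
  apply Units.ext
  rw [Units.val_mul, hGt_val, hGt_val, hGt_val, Cfsg.Agent.S1033.result D hD i hi a ha,
    Cfsg.Agent.S1033.result D hD i hi b hb, Cfsg.Agent.S1033.result D hD i hi (a * b)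
      (mul_ne_zero ha hb), diag_mul_diag]
  congr 2
  funext s
  rw [mul_zpow]

/-- `n_p² = h_p(-1)` -/
theorem nGt_sq_eq (i : ℕ) (hi : i < D.rank) :
    nGt D hD (D.simple i) (1 : F) * nGt D hD (D.simple i) 1 = hGt D hD (D.simple i) (-1) := by
  have h1 : hGt D hD (D.simple i) (-1 : F) * hGt D hD (D.simple i) (-1) = 1 := by
    rw [hGt_simple_mul D hD i hi _ _ (by norm_num) (by norm_num)]
    have : (-1 : F) * -1 = 1 := by ring
    rw [this, hGt_one']
  have h2 : hGt D hD (D.simple i) (-1 : F) =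
      (nGt D hD (D.simple i) (1 : F) * nGt D hD (D.simple i) 1)⁻¹ := by
    unfold hGt
    rw [nGt_neg_one, mul_inv_rev]
  have h3 : hGt D hD (D.simple i) (-1 : F) = (hGt D hD (D.simple i) (-1 : F))⁻¹ :=
    eq_inv_of_mul_eq_one_left h1
  rw [h3, h2, inv_inv]

/-- `n_p⁻¹ = n_p³` -/
theorem nGt_inv_eq (i : ℕ) (hi : i < D.rank) :
    (nGt D hD (D.simple i) (1 : F))⁻¹ = nW D hD [i, i, i] := by
  have h1 : hGt D hD (D.simple i) (-1 : F) * hGt D hD (D.simple i) (-1) = 1 := by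
    rw [hGt_simple_mul D hD i hi _ _ (by norm_num) (by norm_num)]
    have : (-1 : F) * -1 = 1 := by ring
    rw [this, hGt_one']
  rw [← nGt_sq_eq D hD i hi] at h1
  unfold nW
  simp only [List.map_cons, List.map_nil, List.prod_cons, List.prod_nil, mul_one]
  rw [inv_eq_iff_mul_eq_one]
  rw [← h1]
  group

/-- the product of the torus elements of a chunk -/
def chunkH (c : List ℕ) (t : ℕ → F) : GL D.Idx F :=
  (c.reverse.map fun i => hGt D hD (D.simple i) (t i)).prod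

theorem chunkH_cons (i : ℕ) (c : List ℕ) (t : ℕ → F) :
    chunkH D hD (i :: c) t = chunkH D hD c t * hGt D hD (D.simple i) (t i) := by
  unfold chunkH
  rw [List.reverse_cons, List.map_append, List.prod_append]
  simp

theorem chunkM_eq_chunkH (c : List ℕ) (hlt : ∀ i ∈ c, i < D.rank) (t : ℕ → F)
    (ht : ∀ i ∈ c, t i ≠ 0) :
    chunkM D hD c t = chunkH D hD c (fun i => -(t i)⁻¹) := by
  unfold chunkM chunkH
  congr 1
  apply List.map_congr_left
  intro i hi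
  have hi' := List.mem_reverse.mp hi
  rw [mul_assoc, nGt_sq_eq D hD i (hlt i hi'), hGt_simple_mul D hD i (hlt i hi') _ _
    (inv_ne_zero (ht i hi')) (by norm_num)]
  congr 1
  ring

include hD in
/-- `H` is commutative -/
theorem H_comm (x y : GL D.Idx F) (hx : x ∈ D.diagonalSubgroup F)
    (hy : y ∈ D.diagonalSubgroup F) : x * y = y * x := by
  obtain ⟨c, hc, rfl⟩ := exists_torP D hD x hx
  obtain ⟨c', hc', rfl⟩ := exists_torP D hD y hy
  rw [torP_mul D hD c c' (fun i _ => hc i) (fun i _ => hc' i),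
    torP_mul D hD c' c (fun i _ => hc' i) (fun i _ => hc i)]
  apply torP_ext
  intro i _
  exact mul_comm _ _

theorem torP_conj_xG (d : ℕ → F) (hd : ∀ i, d i ≠ 0) (r : ℕ) (hr : r < D.nroots) (t : F) :
    torP D hD d * xG D hD r t * (torP D hD d)⁻¹ = xG D hD r (torusChar D d r * t) := by
  rw [mul_inv_eq_iff_eq_mul]
  apply Units.ext
  rw [Units.val_mul, Units.val_mul, xG_val, xG_val, torP_val D hD d (fun i _ => hd i),
    x_eq_xMat D r hr, x_eq_xMat D r hr]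
  exact torusMat_mul_xMat D (Cfsg.Agent.S1032.cartanCheck_of_mem D hD) d (fun i _ => hd i)
    ⟨r, hr⟩ t

include hD in
theorem torusChar_neg (d : ℕ → F) (r : ℕ) (hr : r < D.nroots) :
    torusChar D d (D.neg r) = (torusChar D d r)⁻¹ := by
  have hcc := Cfsg.Agent.S1032.cartanCheck_of_mem D hD
  unfold torusChar
  rw [List.prod_inv, List.map_map]
  congr 1
  apply List.map_congr_left
  intro i hi
  have h1 := hcc i (List.mem_range.mp hi) r hr
  unfold cartanCheckIS at h1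
  simp only [Bool.and_eq_true, decide_eq_true_eq] at h1
  have h2 : D.cartan i (D.neg r) = - D.cartan i r := h1.1
  simp only [Function.comp]
  rw [h2, zpow_neg]

/-- `h n_p h⁻¹ = h_p(χ_p(h)) n_p` for `h` in the torus -/
theorem torP_conj_nGt (d : ℕ → F) (hd : ∀ i, d i ≠ 0) (i : ℕ) (hi : i < D.rank) :
    torP D hD d * nGt D hD (D.simple i) 1 * (torP D hD d)⁻¹ =
      hGt D hD (D.simple i) (torusChar D d (D.simple i)) * nGt D hD (D.simple i) 1 := by
  have hR := rootsOK_of_mem D hD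
  have hr := hR.simple_lt i hi
  obtain ⟨h, hh⟩ : ∃ h, h = torP D hD d := ⟨_, rfl⟩
  obtain ⟨χ, hχ⟩ : ∃ χ, χ = torusChar D d (D.simple i) := ⟨_, rfl⟩
  have hχ0 : χ ≠ 0 := by rw [hχ]; exact torusChar_ne_zero D d hd _
  have e1 : hGt D hD (D.simple i) χ * nGt D hD (D.simple i) 1 = nGt D hD (D.simple i) χ := by
    unfold hGt
    rw [nGt_neg_one]
    group
  rw [← hh, ← hχ, e1]
  have c1 : ∀ t : F, h * xG D hD (D.simple i) t * h⁻¹ = xG D hD (D.simple i) (χ * t) := by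
    intro t
    rw [hh, hχ]
    exact torP_conj_xG D hD d hd _ hr t
  have c2 : ∀ t : F, h * xG D hD (D.neg (D.simple i)) t * h⁻¹ =
      xG D hD (D.neg (D.simple i)) (χ⁻¹ * t) := by
    intro t
    rw [hh, hχ, ← torusChar_neg D hD d _ hr]
    exact torP_conj_xG D hD d hd _ (hR.neg_lt _ hr) t
  unfold nGt
  have e2 : h * (xG D hD (D.simple i) 1 * xG D hD (D.neg (D.simple i)) (-(1 : F)⁻¹) *
      xG D hD (D.simple i) 1) * h⁻¹ =
      (h * xG D hD (D.simple i) 1 * h⁻¹) * (h * xG D hD (D.neg (D.simple i)) (-(1 : F)⁻¹) * h⁻¹) *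
        (h * xG D hD (D.simple i) 1 * h⁻¹) := by group
  rw [e2, c1, c2, mul_one]
  congr 3
  rw [inv_one, mul_neg, mul_one]

/-- **`n_p h n_p⁻¹ = h_p(χ_p(h))⁻¹ h`** -/
theorem nGt_conj_torP (d : ℕ → F) (hd : ∀ i, d i ≠ 0) (i : ℕ) (hi : i < D.rank) :
    nGt D hD (D.simple i) 1 * torP D hD d * (nGt D hD (D.simple i) 1)⁻¹ =
      (hGt D hD (D.simple i) (torusChar D d (D.simple i)))⁻¹ * torP D hD d := by
  have h1 := torP_conj_nGt D hD d hd i hi
  obtain ⟨h, hh⟩ : ∃ h, h = torP D hD d := ⟨_, rfl⟩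
  obtain ⟨n, hn⟩ : ∃ n, n = nGt D hD (D.simple i) (1 : F) := ⟨_, rfl⟩
  obtain ⟨k, hk⟩ : ∃ k, k = hGt D hD (D.simple i) (torusChar D d (D.simple i)) := ⟨_, rfl⟩
  rw [← hh, ← hn, ← hk] at h1 ⊢
  have e : n * h⁻¹ * n⁻¹ = h⁻¹ * k := by
    calc n * h⁻¹ * n⁻¹ = h⁻¹ * (h * n * h⁻¹) * n⁻¹ := by group
      _ = h⁻¹ * (k * n) * n⁻¹ := by rw [h1]
      _ = h⁻¹ * k := by group
  calc n * h * n⁻¹ = (n * h⁻¹ * n⁻¹)⁻¹ := by group
    _ = (h⁻¹ * k)⁻¹ := by rw [e]
    _ = k⁻¹ * h := by group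

end

end Cfsg.Agent.helper5.Chev
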