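import Mathlib
import Cfsg.Agent.Lib_helper5_SL2Hom
import Cfsg.Agent.Lib_helper5_TwFine3
import Cfsg.Agent.Lib_helper5_TwPerf

set_option autoImplicit false

/-! The homomorphisms `SL₂(F) → ⟨X_r, X_{-r}⟩` in a Chevalley group (helper5). -/

namespace Cfsg.Agent.helper5.Chev

open Cfsg.Lie Cfsg.Agent.helper5.SL2

/-- the Cartan integers `A_{p,p} = 2`, `A_{p,-p} = -2` for the fundamental roots -/
def cartanSimpleOK (D : ChevalleyDatum) : Prop :=
  ∀ i < D.rank, cartanRS D (D.simple i) (D.simple i) = 2 ∧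
    cartanRS D (D.simple i) (D.neg (D.simple i)) = -2

theorem cartanSimpleOK_G2 : cartanSimpleOK chevG2 := by
  unfold cartanSimpleOK; decide +kernel
theorem cartanSimpleOK_B2 : cartanSimpleOK chevB2 := by
  unfold cartanSimpleOK; decide +kernel
theorem cartanSimpleOK_D4 : cartanSimpleOK chevD4 := by
  unfold cartanSimpleOK; decide +kernel
theorem cartanSimpleOK_F4 : cartanSimpleOK chevF4 := by
  unfold cartanSimpleOK; decide +kernel
theorem cartanSimpleOK_E6 : cartanSimpleOK chevE6 := by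
  unfold cartanSimpleOK; decide +kernel
theorem cartanSimpleOK_E7 : cartanSimpleOK chevE7 := by
  unfold cartanSimpleOK; decide +kernel
theorem cartanSimpleOK_E8 : cartanSimpleOK chevE8 := by
  unfold cartanSimpleOK; decide +kernel

theorem cartanSimpleOK_of_mem (D : ChevalleyDatum)
    (hD : D ∈ [chevG2, chevB2, chevD4, chevF4, chevE6, chevE7, chevE8]) : cartanSimpleOK D := by
  simp only [List.mem_cons, List.not_mem_nil, or_false] at hD
  rcases hD with rfl | rfl | rfl | rfl | rfl | rfl | rfl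
  · exact cartanSimpleOK_G2
  · exact cartanSimpleOK_B2
  · exact cartanSimpleOK_D4
  · exact cartanSimpleOK_F4
  · exact cartanSimpleOK_E6
  · exact cartanSimpleOK_E7
  · exact cartanSimpleOK_E8

section
variable {F : Type*} [Field F] (D : ChevalleyDatum)
  (hD : D ∈ [chevG2, chevB2, chevD4, chevF4, chevE6, chevE7, chevE8])

theorem r1n_eq (r : ℕ) (t : F) :
    r1n (xG D hD r) (xG D hD (D.neg r)) t = nGt D hD r t := rfl

theorem r1h_eq (r : ℕ) (t : F) :
    r1h (xG D hD r) (xG D hD (D.neg r)) t = hGt D hD r t := by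
  unfold r1h hGt
  rw [nGt_neg_one]
  rfl

/-- `n_p x_{-p}(t) n_p⁻¹ = x_p(-t)` -/
theorem nG_conj_simple_neg (i : ℕ) (hi : i < D.rank) (t : F) :
    nGt D hD (D.simple i) 1 * xG D hD (D.neg (D.simple i)) t * (nGt D hD (D.simple i) 1)⁻¹ =
      xG D hD (D.simple i) (-t) := by
  have hR := rootsOK_of_mem D hD
  have hP := (Cfsg.Agent.S1095.nCheck_of_mem D hD i hi).etaP
  unfold etaCheckP at hP
  simp only [Bool.and_eq_true, beq_iff_eq] at hP
  have hs := hR.simple_lt i hi
  rw [nG_conj D hD i hi _ (hR.neg_lt _ hs), hR.refl_neg i hi _ hs, hR.refl_simple i hi,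
    hR.neg_neg _ hs, hP.2]
  congr 1
  push_cast
  ring

/-- the rank one relations at a fundamental root -/
theorem rank1Rel_simple (i : ℕ) (hi : i < D.rank) :
    Rank1Rel (xG D hD (D.simple i) (F := F)) (xG D hD (D.neg (D.simple i))) := by
  have hR := rootsOK_of_mem D hD
  have hs := hR.simple_lt i hi
  have hns := hR.neg_lt _ hs
  have hC := cartanSimpleOK_of_mem D hD i hi
  refine ⟨fun t u => xG_mul D hD _ t u, fun t u => xG_mul D hD _ t u, fun u => ?_, fun u => ?_,
    fun t u ht => ?_, fun t u ht => ?_, fun t u ht hu => ?_⟩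
  · rw [r1n_eq, ← nG_conj_simple D hD i hi u, inv_mul_cancel_right]
  · rw [r1n_eq, ← nG_conj_simple_neg D hD i hi u, inv_mul_cancel_right]
  · rw [r1h_eq, ← inv_mul_cancel_right (hGt D hD (D.simple i) t * xG D hD (D.simple i) u)
      (hGt D hD (D.simple i) t), hGt_conj_xG D hD _ _ hs hs t ht u, hC.1, zpow_ofNat]
  · rw [r1h_eq, ← inv_mul_cancel_right (hGt D hD (D.simple i) t * xG D hD (D.neg (D.simple i)) u)
      (hGt D hD (D.simple i) t), hGt_conj_xG D hD _ _ hs hns t ht u, hC.2]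
    congr 3
    rw [zpow_neg, zpow_ofNat]
  · rw [r1h_eq, r1h_eq, r1h_eq, hGt_simple_mul D hD i hi t u ht hu]

/-- **the rank one homomorphism** for every root -/
theorem sl2_hom_root (r : ℕ) (hr : r < D.nroots) :
    ∃ φ : Matrix.SpecialLinearGroup (Fin 2) F →* GL D.Idx F,
      (∀ t : F, φ (sU t) = xG D hD r t) ∧ (∀ t : F, φ (sL t) = xG D hD (D.neg r) t) := by
  have hR := rootsOK_of_mem D hD
  refine hR.induction (fun r => ∃ φ : Matrix.SpecialLinearGroup (Fin 2) F →* GL D.Idx F,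
      (∀ t : F, φ (sU t) = xG D hD r t) ∧ (∀ t : F, φ (sL t) = xG D hD (D.neg r) t)) ?_ ?_ r hr
  · intro i hi
    exact ⟨(rank1Rel_simple D hD i hi).psiHom, (rank1Rel_simple D hD i hi).psiHom_U,
      (rank1Rel_simple D hD i hi).psiHom_L⟩
  · rintro i hi s hs ⟨φ, h1, h2⟩
    have hε : (((etaOf D i s : ℤ) : F)) * ((etaOf D i s : ℤ) : F) = 1 := eta_cast_sq D hD i s hi hs
    refine ⟨(MulAut.conj (nGt D hD (D.simple i) (1 : F))).toMonoidHom.comp (φ.comp (tau _ hε)),
      fun t => ?_, fun t => ?_⟩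
    · have e : ((MulAut.conj (nGt D hD (D.simple i) (1 : F))).toMonoidHom.comp
          (φ.comp (tau _ hε))) (sU t) = nGt D hD (D.simple i) 1 * φ (tau _ hε (sU t)) *
            (nGt D hD (D.simple i) 1)⁻¹ := rfl
      rw [e, tau_U, h1, nG_conj D hD i hi s hs, ← mul_assoc, hε, one_mul]
    · have e : ((MulAut.conj (nGt D hD (D.simple i) (1 : F))).toMonoidHom.comp
          (φ.comp (tau _ hε))) (sL t) = nGt D hD (D.simple i) 1 * φ (tau _ hε (sL t)) *
            (nGt D hD (D.simple i) 1)⁻¹ := rfl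
      rw [e, tau_L, h2, nG_conj D hD i hi _ (hR.neg_lt s hs), hR.refl_neg i hi s hs,
        eta_neg D hD i s hi hs, ← mul_assoc, hε, one_mul]

theorem rootSubgroup_eq_closure (r : ℕ) :
    D.rootSubgroup F r = Subgroup.closure (Set.range (fun t : F => xG D hD r t)) := by
  unfold ChevalleyDatum.rootSubgroup
  congr 1
  ext g
  constructor
  · rintro ⟨t, ht⟩
    exact ⟨t, (eq_xG D hD g r t ht).symm⟩
  · rintro ⟨t, rfl⟩
    exact ⟨t, rfl⟩

include hD in
/-- the statement about `SL₂(F)` and a pair of opposite root subgroups -/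
theorem sl2_result (r : ℕ) (hr : r < D.nroots) :
    ∃ φ : Matrix.SpecialLinearGroup (Fin 2) F →* GL D.Idx F,
      φ.range = D.rootSubgroup F r ⊔ D.rootSubgroup F (D.neg r) ∧
      ∀ (g : Matrix.SpecialLinearGroup (Fin 2) F) (t : F),
        ((g : Matrix (Fin 2) (Fin 2) F) = !![1, t; 0, 1] →
          ((φ g : GL D.Idx F) : Matrix D.Idx D.Idx F) = D.x F r t) ∧
        ((g : Matrix (Fin 2) (Fin 2) F) = !![1, 0; t, 1] →
          ((φ g : GL D.Idx F) : Matrix D.Idx D.Idx F) = D.x F (D.neg r) t) := by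
  obtain ⟨φ, h1, h2⟩ := sl2_hom_root (F := F) D hD r hr
  refine ⟨φ, ?_, fun g t => ⟨fun hg => ?_, fun hg => ?_⟩⟩
  · rw [range_eq φ, rootSubgroup_eq_closure D hD, rootSubgroup_eq_closure D hD,
      ← Subgroup.closure_union]
    congr 2
    · ext x
      simp [h1]
    · ext x
      simp [h2]
  · have : g = sU t := Subtype.ext hg
    rw [this, h1]
    rfl
  · have : g = sL t := Subtype.ext hg
    rw [this, h2]
    rfl

end

end Cfsg.Agent.helper5.Chev
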