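import Mathlib
import Cfsg.Statements.S0319
import Cfsg.Agent.Lib_helper2_BN3

set_option autoImplicit false
open Cfsg

namespace Cfsg.Agent.S0319

open Cfsg.Agent.helper2 Cfsg.Agent.helper2.WL Cfsg.Agent.helper2.BN

theorem key_mem {G : Type*} [Group G] (P : Cfsg.BNPair G) {H : Subgroup G} (hH : H.Normal)
    {s' s'' : G} (hs' : s' ∈ P.S) (hs'' : s'' ∈ P.S)
    (hs'H : s' ∈ H ⊔ P.B) (hncomm : s' * s'' * s'⁻¹ * s''⁻¹ ∉ P.B) (hne : s' ≠ s'') :
    s'' ∈ H ⊔ P.B := by
  have hg := gen_A P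
  have hsaN : s' ∈ P.N := P.subset hs'
  have hscN : s'' ∈ P.N := P.subset hs''
  have hsa : ((⟨s', hsaN⟩ : P.N) : G) ∈ P.S := hs'
  have hsc : ((⟨s'', hscN⟩ : P.N) : G) ∈ P.S := hs''
  obtain ⟨sa, hsaE⟩ : ∃ sa : P.N, (sa : G) = s' := ⟨⟨s', hsaN⟩, rfl⟩
  obtain ⟨sc, hscE⟩ : ∃ sc : P.N, (sc : G) = s'' := ⟨⟨s'', hscN⟩, rfl⟩
  have hsaS : (sa : G) ∈ P.S := by rw [hsaE]; exact hs'
  have hscS : (sc : G) ∈ P.S := by rw [hscE]; exact hs''
  have haA : pr P sa ∈ A P := pr_mem_A P hsaS
  have hcA : pr P sc ∈ A P := pr_mem_A P hscS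
  have hac : pr P sa ≠ pr P sc := by
    intro h
    apply hne
    rw [← hsaE, ← hscE]
    exact P.inj _ hsaS _ hscS ((pr_eq_iff P).mp h)
  have hcomm : pr P sc * pr P sa ≠ pr P sa * pr P sc := by
    intro h
    apply hncomm
    have h1 : pr P (sa * sc * sa⁻¹ * sc⁻¹) = 1 := by
      rw [map_mul, map_mul, map_mul, map_inv, map_inv, ← h]
      group
    have h2 := (pr_eq_one_iff P).mp h1
    rw [← hsaE, ← hscE]
    simpa using h2
  have la : len (A P) (pr P sa) = 1 := by
    have h1 := len_mem_le_one haA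
    have h0 : len (A P) (pr P sa) ≠ 0 := fun h0 => pr_S_ne_one P hsaS (eq_one_of_len_eq_zero hg h0)
    omega
  have lc : len (A P) (pr P sc) = 1 := by
    have h1 := len_mem_le_one hcA
    have h0 : len (A P) (pr P sc) ≠ 0 := fun h0 => pr_S_ne_one P hscS (eq_one_of_len_eq_zero hg h0)
    omega
  have lac : len (A P) (pr P sa * pr P sc) = 2 := by
    have h1 := len_mul_le hg haA (pr P sc)
    have h2 := len_ne P hsaS (pr P sc)
    have h0 : len (A P) (pr P sa * pr P sc) ≠ 0 := by
      intro h0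
      have := eq_one_of_len_eq_zero hg h0
      apply hac
      rw [eq_inv_of_mul_eq_one_left this, pr_S_inv P hscS]
    omega
  have lca : len (A P) (pr P sc * pr P sa) = 2 := by
    have h1 := len_mul_le hg hcA (pr P sa)
    have h2 := len_ne P hscS (pr P sa)
    have h0 : len (A P) (pr P sc * pr P sa) ≠ 0 := by
      intro h0
      have := eq_one_of_len_eq_zero hg h0
      apply hac
      rw [eq_inv_of_mul_eq_one_left this, pr_S_inv P hsaS]
    omega
  have lcac : len (A P) (pr P sc * (pr P sa * pr P sc)) = 3 := by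
    have h1 := len_mul_le hg hcA (pr P sa * pr P sc)
    have h2 := len_ne P hscS (pr P sa * pr P sc)
    have h3 : ¬ len (A P) (pr P sc * pr P sa * pr P sc) < len (A P) (pr P sa * pr P sc) := by
      intro hlt
      exact hcomm ((exch_A P).fold (pr P sa) (pr P sc) (pr P sc) hcA hcA (by omega) hlt)
    rw [mul_assoc] at h3
    omega
  -- an element of `H` in the double coset of `s'`
  have hmem : s' ∈ ((H ⊔ P.B : Subgroup G) : Set G) := hs'H
  rw [Subgroup.normal_mul] at hmem
  obtain ⟨h0, hh0, b0, hb0, he⟩ := Set.mem_mul.mp hmem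
  have hh0C : h0 ∈ Cw P (pr P sa) := by
    have : h0 = (sa : G) * b0⁻¹ := by
      rw [hsaE, ← he]
      group
    rw [this]
    exact mul_mem_Cw_right P (P.B.inv_mem hb0) (coe_mem_Cw P sa)
  have h1 : h0⁻¹ ∈ Cw P (pr P sa) := by
    have := inv_mem_Cw P hh0C
    rwa [pr_S_inv P hsaS] at this
  have h2 : (sc : G) * h0⁻¹ ∈ Cw P (pr P sc * pr P sa) :=
    inc_of_le P _ (pr P sa) rfl sc hscS (by omega) _ h1
  have h3 : h0 * (sc : G)⁻¹ ∈ Cw P (pr P sa * pr P sc) := by
    have := inv_mem_Cw P h2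
    simp only [mul_inv_rev, inv_inv] at this
    rwa [pr_S_inv P hsaS, pr_S_inv P hscS] at this
  have h4 : (sc : G) * (h0 * (sc : G)⁻¹) ∈ Cw P (pr P sc * (pr P sa * pr P sc)) :=
    inc_of_le P _ (pr P sa * pr P sc) rfl sc hscS (by omega) _ h3
  have h5 : (sc : G) * (h0 * (sc : G)⁻¹) ∈ H := by
    have := hH.conj_mem h0 hh0 (sc : G)
    simpa [mul_assoc] using this
  have hprn : pr P (sc * (sa * sc)) = pr P sc * (pr P sa * pr P sc) := by
    rw [map_mul, map_mul]
  rw [← hprn, mem_Cw_pr] at h4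
  obtain ⟨b1, hb1, b2, hb2, he2⟩ := (mem_C P).mp h4
  have hBle : P.B ≤ H ⊔ P.B := le_sup_right
  have hHle : H ≤ H ⊔ P.B := le_sup_left
  have hn : ((sc * (sa * sc) : P.N) : G) ∈ H ⊔ P.B := by
    have e : ((sc * (sa * sc) : P.N) : G)
        = b1⁻¹ * ((sc : G) * (h0 * (sc : G)⁻¹)) * b2⁻¹ := by
      rw [he2]
      group
    rw [e]
    exact mul_mem (mul_mem (hBle (P.B.inv_mem hb1)) (hHle h5)) (hBle (P.B.inv_mem hb2))
  have hr : IsReduced (A P) [pr P sc, pr P sa, pr P sc] := by
    constructor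
    · intro x hx
      simp only [List.mem_cons, List.not_mem_nil, or_false] at hx
      rcases hx with rfl | rfl | rfl
      · exact hcA
      · exact haA
      · exact hcA
    · simp only [List.prod_cons, List.prod_nil, mul_one, List.length_cons, List.length_nil]
      exact lcac
  have hQ := letters_mem_Q P _ hr (sc * (sa * sc))
    (by simp only [List.prod_cons, List.prod_nil, mul_one]; exact hprn) sc hscS (by simp)
  have hQle : Q P ((sc * (sa * sc) : P.N) : G) ≤ H ⊔ P.B :=
    Q_le P hBle (fun b hb => mul_mem (mul_mem hn (hBle hb)) (inv_mem hn))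
  rw [← hscE]
  exact hQle hQ

theorem eq_top_of_sup_solvable {G : Type*} [Group G] (H B : Subgroup G) [hH : H.Normal]
    [hs : Group.IsSolvable B] (hperf : commutator G = ⊤) (htop : H ⊔ B = ⊤) : H = ⊤ := by
  let f : B →* G ⧸ H := (QuotientGroup.mk' H).comp B.subtype
  have hf : Function.Surjective f := by
    intro q
    obtain ⟨g, rfl⟩ := QuotientGroup.mk_surjective q
    have hg : g ∈ ((H ⊔ B : Subgroup G) : Set G) := by
      rw [htop]
      trivial
    rw [Subgroup.normal_mul] at hg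
    obtain ⟨h, hh, b, hb, rfl⟩ := Set.mem_mul.mp hg
    refine ⟨⟨b, hb⟩, ?_⟩
    show (QuotientGroup.mk b : G ⧸ H) = QuotientGroup.mk (h * b)
    rw [QuotientGroup.eq]
    have := hH.conj_mem h hh b⁻¹
    simpa [mul_assoc] using this
  have hsol : Group.IsSolvable (G ⧸ H) := Group.isSolvable_of_surjective hf
  have hperfQ : commutator (G ⧸ H) = ⊤ := by
    have h1 := Subgroup.map_commutator (⊤ : Subgroup G) ⊤ (QuotientGroup.mk' H)
    rw [Subgroup.map_top_of_surjective _ (QuotientGroup.mk'_surjective H)] at h1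
    rw [commutator_def] at hperf ⊢
    rw [← h1, hperf, Subgroup.map_top_of_surjective _ (QuotientGroup.mk'_surjective H)]
  rcases subsingleton_or_nontrivial (G ⧸ H) with hsub | hnt
  · rw [eq_top_iff]
    intro g _
    have := QuotientGroup.eq.mp
      (Subsingleton.elim (QuotientGroup.mk 1 : G ⧸ H) (QuotientGroup.mk g))
    simpa using this
  · exfalso
    have := Group.IsSolvable.commutator_lt_top_of_nontrivial (G ⧸ H)
    rw [hperfQ] at this
    exact lt_irrefl _ this

theorem result {G : Type*} [Group G] [Nontrivial G]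
    (P : Cfsg.BNPair G) (hirr : P.Irreducible) (hsolv : Group.IsSolvable P.B) (hperf : commutator G = ⊤)
    (hcore : P.B.normalCore = ⊥) : IsSimpleGroup G := by
  refine { eq_bot_or_eq_top_of_normal := ?_ }
  intro H hH
  have hBM : P.B ≤ H ⊔ P.B := le_sup_right
  have hM := eq_parabolic_of_B_le P hBM
  by_cases hJ1 : (P.S ∩ ((H ⊔ P.B : Subgroup G) : Set G)).Nonempty
  · by_cases hJ2 : (P.S \ (P.S ∩ ((H ⊔ P.B : Subgroup G) : Set G))).Nonempty
    · exfalso
      obtain ⟨s, hsJ, s', hs', hnc⟩ := hirr _ Set.inter_subset_left hJ1 hJ2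
      have hne : s ≠ s' := fun e => hs'.2 (e ▸ hsJ)
      have := key_mem P hH hsJ.1 hs'.1 hsJ.2 hnc hne
      exact hs'.2 ⟨hs'.1, this⟩
    · right
      have hSJ : P.S ⊆ P.S ∩ ((H ⊔ P.B : Subgroup G) : Set G) := by
        intro s hs
        by_contra hns
        exact hJ2 ⟨s, hs, hns⟩
      have htop : H ⊔ P.B = ⊤ := by
        rw [eq_top_iff, ← parabolic_S_eq_top P]
        intro g hg
        rw [hM]
        exact parabolic_mono P hSJ hg
      exact eq_top_of_sup_solvable H P.B hperf htop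
  · left
    rw [Set.not_nonempty_iff_eq_empty] at hJ1
    rw [hJ1, parabolic_empty] at hM
    have hHB : H ≤ P.B := by
      rw [← hM]
      exact le_sup_left
    have := (Subgroup.normal_le_normalCore (hN := hH)).mpr hHB
    rw [hcore] at this
    exact le_bot_iff.mp this

end Cfsg.Agent.S0319
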