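import Mathlib
import Cfsg.Agent.Lib_helper5_ChevIrr
import Cfsg.Agent.Lib_helper5_ChevBN5
import Cfsg.Agent.S0319

set_option autoImplicit false
open Cfsg

namespace Cfsg.Agent.helper5.Chev

open Cfsg.Lie

section
variable {F : Type*} [Field F] (D : ChevalleyDatum)
  (hD : D ∈ [chevG2, chevB2, chevD4, chevF4, chevE6, chevE7, chevE8])

include hD in
/-- the rank is positive -/
theorem rank_pos_of_mem : 0 < D.rank := by
  simp only [List.mem_cons, List.not_mem_nil, or_false] at hD
  rcases hD with rfl | rfl | rfl | rfl | rfl | rfl | rfl <;> decide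

include hD in
/-- **Tits' simplicity criterion applied to a Chevalley group**: given the (B,N)-pair,
perfectness, solvability of `B` and triviality of the core of `B`, the group is simple
and non-abelian. -/
theorem chev_simple_of (hNK : D.monomialSubgroup F ≤ D.group F)
    (P : Cfsg.BNPair ↥(D.group F)) (hPB : P.B = (D.borelSubgroup F).subgroupOf (D.group F))
    (hPS : P.S = {k : ↥(D.group F) | (k : GL D.Idx F) ∈ {g : GL D.Idx F | ∃ i < D.rank,
        (g : Matrix D.Idx D.Idx F) = D.nMat F (D.simple i) 1}})
    (hperf : commutator ↥(D.group F) = ⊤)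
    (hsolv : Group.IsSolvable ↥(D.borelSubgroup F))
    (hcore : ((D.borelSubgroup F).subgroupOf (D.group F)).normalCore = ⊥) :
    IsSimpleGroup ↥(D.group F) ∧ ¬ IsMulCommutative ↥(D.group F) := by
  have hR := rootsOK_of_mem D hD
  have h0 := rank_pos_of_mem D hD
  have hn0 : nGt D hD (D.simple 0) (1 : F) ∈ D.group F :=
    hNK (nGt_one_mem D hD _ (hR.simple_lt 0 h0))
  have hne : (⟨_, hn0⟩ : ↥(D.group F)) ≠ 1 := by
    intro h
    have h1 : nGt D hD (D.simple 0) (1 : F) = 1 := congrArg Subtype.val h
    apply nG_not_mem_B (F := F) D hD 0 h0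
    rw [h1]
    exact Subgroup.one_mem _
  haveI : Nontrivial ↥(D.group F) := ⟨⟨_, 1, hne⟩⟩
  have hirr := chev_irreducible D hD (D.group F) hNK P hPB hPS
  have hsolvB : Group.IsSolvable ↥P.B := by
    rw [hPB]
    exact solvable_of_solvable_injective
      (f := ((D.group F).subtype.comp ((D.borelSubgroup F).subgroupOf (D.group F)).subtype).codRestrict
        (D.borelSubgroup F) (fun x => Subgroup.mem_subgroupOf.mp x.2))
      (by
        intro x y hxy
        have := congrArg Subtype.val hxy
        exact Subtype.ext (Subtype.ext this))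
  have hcoreB : P.B.normalCore = ⊥ := by rw [hPB]; exact hcore
  refine ⟨Cfsg.Agent.S0319.result P hirr hsolvB hperf hcoreB, ?_⟩
  intro hcomm
  rw [isMulCommutative_iff] at hcomm
  have hbot : commutator ↥(D.group F) = ⊥ := by
    rw [commutator_def, Subgroup.commutator_def, eq_bot_iff, Subgroup.closure_le]
    rintro g ⟨a, -, b, -, rfl⟩
    rw [SetLike.mem_coe, Subgroup.mem_bot, commutatorElement_def, hcomm a b]
    group
  rw [hbot] at hperf
  exact bot_ne_top hperf

end

end Cfsg.Agent.helper5.Chev
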