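import Mathlib

set_option autoImplicit false

/-! A cheap duplicate-freeness check for lists of lists of naturals (helper5). -/

namespace Cfsg.Agent.helper5.Chev

/-- lexicographic comparison -/
def lexLtB : List ℕ → List ℕ → Bool
  | [], [] => false
  | [], _ :: _ => true
  | _ :: _, [] => false
  | a :: as, b :: bs => Nat.blt a b || (a == b && lexLtB as bs)

/-- adjacent entries strictly increase -/
def chainB : List (List ℕ) → Bool
  | [] => true
  | [_] => true
  | a :: b :: l => lexLtB a b && chainB (b :: l)

theorem lexLtB_irrefl : ∀ a : List ℕ, lexLtB a a = false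
  | [] => rfl
  | a :: as => by
    have h1 : Nat.blt a a = false := by
      rw [Bool.eq_false_iff]
      intro h
      rw [Nat.blt_eq] at h
      exact lt_irrefl _ h
    simp only [lexLtB, h1, beq_self_eq_true, Bool.true_and, Bool.false_or]
    exact lexLtB_irrefl as

theorem lexLtB_trans : ∀ a b c : List ℕ, lexLtB a b = true → lexLtB b c = true →
    lexLtB a c = true
  | [], [], _, h, _ => by simp [lexLtB] at h
  | [], _ :: _, [], _, h => by simp [lexLtB] at h
  | [], _ :: _, _ :: _, _, _ => by simp [lexLtB]
  | _ :: _, [], _, h, _ => by simp [lexLtB] at h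
  | _ :: _, _ :: _, [], _, h => by simp [lexLtB] at h
  | a :: as, b :: bs, c :: cs, h1, h2 => by
    simp only [lexLtB, Bool.or_eq_true, Nat.blt_eq, Bool.and_eq_true, beq_iff_eq,
      decide_eq_true_eq] at h1 h2 ⊢
    rcases h1 with h1 | ⟨h1, h1'⟩
    · rcases h2 with h2 | ⟨h2, _⟩
      · exact Or.inl (lt_trans h1 h2)
      · exact Or.inl (h2 ▸ h1)
    · rcases h2 with h2 | ⟨h2, h2'⟩
      · exact Or.inl (h1 ▸ h2)
      · exact Or.inr ⟨h1.trans h2, lexLtB_trans as bs cs h1' h2'⟩

theorem pairwise_of_chainB : ∀ l : List (List ℕ), chainB l = true →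
    l.Pairwise (fun a b => lexLtB a b = true)
  | [], _ => List.Pairwise.nil
  | [_], _ => List.pairwise_singleton _ _
  | a :: b :: l, h => by
    simp only [chainB, Bool.and_eq_true] at h
    have ih := pairwise_of_chainB (b :: l) h.2
    rw [List.pairwise_cons]
    refine ⟨?_, ih⟩
    intro c hc
    rcases List.mem_cons.mp hc with rfl | hc
    · exact h.1
    · exact lexLtB_trans a b c h.1 ((List.pairwise_cons.mp ih).1 c hc)

theorem nodup_of_chainB (l : List (List ℕ)) (h : chainB l = true) : l.Nodup := by
  have hp := pairwise_of_chainB l h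
  unfold List.Nodup
  apply hp.imp
  intro a b hab heq
  rw [heq, lexLtB_irrefl] at hab
  exact absurd hab (by simp)

end Cfsg.Agent.helper5.Chev
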