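import Mathlib

set_option autoImplicit false

/-! Monomial endomorphisms of `A^l` for a commutative group `A`, given by integer matrices,
and the size of their kernels via a diagonal form (helper5). -/

namespace Cfsg.Agent.helper5.TorusKer

section
variable {A : Type*} [CommGroup A]

theorem zpow_finset_sum {ι : Type*} (s : Finset ι) (b : A) (f : ι → ℤ) :
    b ^ (∑ i ∈ s, f i) = ∏ i ∈ s, b ^ f i := by
  classical
  induction s using Finset.induction_on with
  | empty => simp
  | insert a s ha ih => rw [Finset.sum_insert ha, Finset.prod_insert ha, zpow_add, ih]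

/-- product of integer matrices given as functions, over the index range `[0, l)` -/
def matMul (l : ℕ) (M N : ℕ → ℕ → ℤ) : ℕ → ℕ → ℤ :=
  fun i k => ∑ j ∈ Finset.range l, M i j * N j k

/-- the homomorphism `c ↦ (∏_j c_j^{M j k})_k` -/
def theta (l : ℕ) (M : ℕ → ℕ → ℤ) : (Fin l → A) →* (Fin l → A) where
  toFun c := fun k => ∏ j : Fin l, c j ^ M j.val k.val
  map_one' := by
    funext k
    simp
  map_mul' c c' := by
    funext k
    simp only [Pi.mul_apply, mul_zpow, Finset.prod_mul_distrib]

theorem theta_apply (l : ℕ) (M : ℕ → ℕ → ℤ) (c : Fin l → A) (k : Fin l) :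
    theta l M c k = ∏ j : Fin l, c j ^ M j.val k.val := rfl

theorem theta_comp (l : ℕ) (M N : ℕ → ℕ → ℤ) (c : Fin l → A) :
    theta l N (theta l M c) = theta l (matMul l M N) c := by
  funext k
  rw [theta_apply, theta_apply]
  have h1 : ∀ j : Fin l, (theta l M c j) ^ N j.val k.val =
      ∏ i : Fin l, c i ^ (M i.val j.val * N j.val k.val) := by
    intro j
    rw [theta_apply, ← Finset.prod_zpow]
    apply Finset.prod_congr rfl
    intro i _
    rw [zpow_mul]
  rw [Finset.prod_congr rfl (fun j _ => h1 j), Finset.prod_comm]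
  apply Finset.prod_congr rfl
  intro i _
  unfold matMul
  rw [zpow_finset_sum, Fin.prod_univ_eq_prod_range (fun j => c i ^ (M i.val j * N j k.val)) l]

theorem theta_congr (l : ℕ) (M M' : ℕ → ℕ → ℤ) (h : ∀ i < l, ∀ k < l, M i k = M' i k)
    (c : Fin l → A) : theta l M c = theta l M' c := by
  funext k
  rw [theta_apply, theta_apply]
  apply Finset.prod_congr rfl
  intro j _
  rw [h j.val j.2 k.val k.2]

theorem theta_id (l : ℕ) (I : ℕ → ℕ → ℤ) (h : ∀ i < l, ∀ k < l, I i k = if i = k then 1 else 0)
    (c : Fin l → A) : theta l I c = c := by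
  funext k
  rw [theta_apply, Finset.prod_eq_single k]
  · rw [h k.val k.2 k.val k.2, if_pos rfl, zpow_one]
  · intro j _ hj
    have : ¬ j.val = k.val := fun h' => hj (Fin.ext h')
    rw [h j.val j.2 k.val k.2, if_neg this, zpow_zero]
  · intro hk
    exact absurd (Finset.mem_univ _) hk

theorem theta_diag (l : ℕ) (Δ : ℕ → ℕ → ℤ) (d : ℕ → ℕ)
    (h : ∀ i < l, ∀ k < l, Δ i k = if i = k then (d i : ℤ) else 0)
    (c : Fin l → A) (k : Fin l) : theta l Δ c k = c k ^ d k.val := by
  rw [theta_apply, Finset.prod_eq_single k]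
  · rw [h k.val k.2 k.val k.2, if_pos rfl, zpow_natCast]
  · intro j _ hj
    have : ¬ j.val = k.val := fun h' => hj (Fin.ext h')
    rw [h j.val j.2 k.val k.2, if_neg this, zpow_zero]
  · intro hk
    exact absurd (Finset.mem_univ _) hk

/-- the data of a diagonal form `U B V = Δ` with `U`, `V` invertible -/
structure DiagForm (l : ℕ) (B : ℕ → ℕ → ℤ) (d : ℕ → ℕ) where
  U : ℕ → ℕ → ℤ
  Ui : ℕ → ℕ → ℤ
  V : ℕ → ℕ → ℤ
  Vi : ℕ → ℕ → ℤ
  hU : ∀ i < l, ∀ k < l, matMul l U Ui i k = if i = k then 1 else 0
  hU' : ∀ i < l, ∀ k < l, matMul l Ui U i k = if i = k then 1 else 0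
  hV : ∀ i < l, ∀ k < l, matMul l V Vi i k = if i = k then 1 else 0
  hD : ∀ i < l, ∀ k < l, matMul l U (matMul l B V) i k = if i = k then (d i : ℤ) else 0

/-- the kernel of `theta B` has as many elements as the kernel of the diagonal form -/
theorem card_ker_eq (l : ℕ) (B : ℕ → ℕ → ℤ) (d : ℕ → ℕ) (S : DiagForm l B d) :
    Nat.card ((theta l B : (Fin l → A) →* (Fin l → A)).ker) =
      Nat.card {c : Fin l → A // ∀ k : Fin l, c k ^ d k.val = 1} := by
  -- `theta U` is a bijection from the solutions `c` of `c_k^{d_k} = 1` to the kernel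
  have hUUi : ∀ c : Fin l → A, theta l S.Ui (theta l S.U c) = c := by
    intro c
    rw [theta_comp]
    exact theta_id l _ S.hU c
  have hUiU : ∀ c : Fin l → A, theta l S.U (theta l S.Ui c) = c := by
    intro c
    rw [theta_comp]
    exact theta_id l _ S.hU' c
  have hVVi : ∀ c : Fin l → A, theta l S.Vi (theta l S.V c) = c := by
    intro c
    rw [theta_comp]
    exact theta_id l _ S.hV c
  have hkey : ∀ c : Fin l → A, (∀ k : Fin l, c k ^ d k.val = 1) ↔
      theta l S.U c ∈ (theta l B : (Fin l → A) →* (Fin l → A)).ker := by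
    intro c
    rw [MonoidHom.mem_ker]
    have h1 : theta l S.V (theta l B (theta l S.U c)) = fun k => c k ^ d k.val := by
      rw [theta_comp, theta_comp]
      funext k
      exact theta_diag l _ d S.hD c k
    constructor
    · intro hc
      have h2 : theta l S.V (theta l B (theta l S.U c)) = 1 := by
        rw [h1]
        funext k
        exact hc k
      have h3 := congrArg (theta l S.Vi) h2
      rw [hVVi, map_one] at h3
      exact h3
    · intro hc k
      have h2 := congrFun h1 k
      rw [hc, map_one] at h2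
      exact h2.symm
  symm
  refine Nat.card_congr
    { toFun := fun c => ⟨theta l S.U c.1, (hkey c.1).mp c.2⟩
      invFun := fun c => ⟨theta l S.Ui c.1, (hkey _).mpr (by rw [hUiU]; exact c.2)⟩
      left_inv := fun c => Subtype.ext (hUUi c.1)
      right_inv := fun c => Subtype.ext (hUiU c.1) }

theorem card_solutions (l : ℕ) (d : ℕ → ℕ) [Finite A] [IsCyclic A] :
    Nat.card {c : Fin l → A // ∀ k : Fin l, c k ^ d k.val = 1} =
      ∏ k : Fin l, Nat.gcd (Nat.card A) (d k.val) := by
  rw [Nat.card_congr (Equiv.subtypePiEquivPi (p := fun (k : Fin l) (x : A) => x ^ d k.val = 1)),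
    Nat.card_pi]
  apply Finset.prod_congr rfl
  intro k _
  rw [← IsCyclic.card_powMonoidHom_ker (G := A) (d k.val)]
  apply Nat.card_congr
  exact Equiv.subtypeEquivRight (fun x => by rw [MonoidHom.mem_ker, powMonoidHom_apply])

/-- **The kernel count.** -/
theorem card_ker (l : ℕ) (B : ℕ → ℕ → ℤ) (d : ℕ → ℕ) (S : DiagForm l B d) [Finite A] [IsCyclic A] :
    Nat.card ((theta l B : (Fin l → A) →* (Fin l → A)).ker) =
      ∏ k : Fin l, Nat.gcd (Nat.card A) (d k.val) := by
  rw [card_ker_eq l B d S, card_solutions]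

end

end Cfsg.Agent.helper5.TorusKer
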