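import Mathlib
import Cfsg.Agent.Lib_helper5_ChevTorus
import Cfsg.Agent.Lib_helper5_TorusKer

set_option autoImplicit false

/-! The order of the diagonal subgroup `H` of a Chevalley datum over a finite field (helper5). -/

namespace Cfsg.Agent.helper5.Chev

open Cfsg.Lie Cfsg.Agent.helper5.TorusKer

section
variable {F : Type*} [Field F]

theorem list_range_prod {M : Type*} [CommMonoid M] (n : ℕ) (f : ℕ → M) :
    ((List.range n).map f).prod = ∏ i : Fin n, f i.val := by
  rw [Fin.prod_univ_eq_prod_range f n]
  induction n with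
  | zero => simp
  | succ n ih =>
    rw [List.range_succ, List.map_append, List.prod_append, ih, Finset.prod_range_succ]
    simp

/-- extension of a tuple of units to a function `ℕ → F` -/
def ext (D : ChevalleyDatum) (c : Fin D.rank → Fˣ) : ℕ → F :=
  fun i => if h : i < D.rank then ((c ⟨i, h⟩ : Fˣ) : F) else 1

theorem ext_val (D : ChevalleyDatum) (c : Fin D.rank → Fˣ) (i : Fin D.rank) :
    ext D c i.val = ((c i : Fˣ) : F) := by
  unfold ext
  rw [dif_pos i.2]

/-- the character `∏_i c_i^{A_{p_i,s}}` as a unit -/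
def chi (D : ChevalleyDatum) (s : ℕ) (c : Fin D.rank → Fˣ) : Fˣ :=
  ∏ i : Fin D.rank, c i ^ (D.cartan i.val s)

theorem torusChar_ext (D : ChevalleyDatum) (c : Fin D.rank → Fˣ) (s : ℕ) :
    torusChar D (ext D c) s = ((chi D s c : Fˣ) : F) := by
  unfold torusChar chi
  rw [list_range_prod, Units.coe_prod]
  apply Finset.prod_congr rfl
  intro i _
  rw [ext_val, Units.val_zpow_eq_zpow_val]

theorem torusMat_congr (D : ChevalleyDatum) (c c' : ℕ → F) (h : ∀ i < D.rank, c i = c' i) :
    torusMat D c = torusMat D c' := by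
  unfold torusMat
  congr 2
  funext s
  unfold torusChar
  congr 1
  apply List.map_congr_left
  intro i hi
  rw [h i (List.mem_range.mp hi)]

/-- the torus homomorphism `(Fˣ)^l → GL` -/
def tau (D : ChevalleyDatum) : (Fin D.rank → Fˣ) →* GL D.Idx F where
  toFun c :=
    { val := torusMat D (ext D c)
      inv := torusMat D (ext D c⁻¹)
      val_inv := by
        rw [torusMat_mul, ← torusMat_one D]
        apply torusMat_congr
        intro i hi
        unfold ext
        rw [dif_pos hi, dif_pos hi, Pi.inv_apply, Units.val_inv_eq_inv_val]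
        exact mul_inv_cancel₀ (Units.ne_zero _)
      inv_val := by
        rw [torusMat_mul, ← torusMat_one D]
        apply torusMat_congr
        intro i hi
        unfold ext
        rw [dif_pos hi, dif_pos hi, Pi.inv_apply, Units.val_inv_eq_inv_val]
        exact inv_mul_cancel₀ (Units.ne_zero _) }
  map_one' := by
    apply Units.ext
    show torusMat D (ext D 1) = 1
    rw [← torusMat_one D]
    apply torusMat_congr
    intro i hi
    unfold ext
    rw [dif_pos hi, Pi.one_apply, Units.val_one]
  map_mul' c c' := by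
    apply Units.ext
    show torusMat D (ext D (c * c')) = torusMat D (ext D c) * torusMat D (ext D c')
    rw [torusMat_mul]
    apply torusMat_congr
    intro i hi
    unfold ext
    rw [dif_pos hi, dif_pos hi, dif_pos hi, Pi.mul_apply, Units.val_mul]

theorem tau_val (D : ChevalleyDatum) (c : Fin D.rank → Fˣ) :
    ((tau D c : GL D.Idx F) : Matrix D.Idx D.Idx F) = torusMat D (ext D c) := rfl

theorem mem_ker_tau_iff (D : ChevalleyDatum) (c : Fin D.rank → Fˣ) :
    c ∈ (tau (F := F) D).ker ↔ ∀ s < D.nroots, chi D s c = 1 := by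
  rw [MonoidHom.mem_ker]
  constructor
  · intro h s hs
    have h1 : torusMat D (ext D c) = 1 := by
      rw [← tau_val, h, Units.val_one]
    have h2 := congrFun (congrFun h1 (Sum.inr ⟨s, hs⟩)) (Sum.inr ⟨s, hs⟩)
    unfold torusMat at h2
    rw [Matrix.diagonal_apply_eq, Matrix.one_apply_eq, Sum.elim_inr, torusChar_ext] at h2
    exact Units.ext h2
  · intro h
    apply Units.ext
    rw [tau_val, Units.val_one, ← diag_one D]
    unfold torusMat
    congr 2
    funext s
    rw [torusChar_ext, h s.val s.2, Units.val_one]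

/-- the Cartan matrix `A_{p_i, p_j}` -/
def cartanMat (D : ChevalleyDatum) : ℕ → ℕ → ℤ := fun i j => D.cartan i (D.simple j)

theorem theta_cartanMat (D : ChevalleyDatum) (c : Fin D.rank → Fˣ) (k : Fin D.rank) :
    theta D.rank (cartanMat D) c k = chi D (D.simple k.val) c := rfl

/-- the columns of the table of Cartan integers are integral combinations of the columns of
the fundamental roots -/
def ColRel (D : ChevalleyDatum) (n : ℕ → ℕ → ℤ) : Prop :=
  ∀ s < D.nroots, ∀ i < D.rank,
    D.cartan i s = ∑ j ∈ Finset.range D.rank, cartanMat D i j * n s j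

theorem chi_of_rel (D : ChevalleyDatum) (n : ℕ → ℕ → ℤ) (hrel : ColRel D n) (s : ℕ)
    (hs : s < D.nroots) (c : Fin D.rank → Fˣ) :
    chi D s c = ∏ j : Fin D.rank, (theta D.rank (cartanMat D) c j) ^ (n s j.val) := by
  have h1 : ∀ j : Fin D.rank, (theta D.rank (cartanMat D) c j) ^ (n s j.val) =
      ∏ i : Fin D.rank, c i ^ (cartanMat D i.val j.val * n s j.val) := by
    intro j
    rw [theta_apply, ← Finset.prod_zpow]
    apply Finset.prod_congr rfl
    intro i _
    rw [zpow_mul]
  rw [Finset.prod_congr rfl (fun j _ => h1 j), Finset.prod_comm]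
  unfold chi
  apply Finset.prod_congr rfl
  intro i _
  rw [hrel s hs i.val i.2, zpow_finset_sum,
    Fin.prod_univ_eq_prod_range (fun j => c i ^ (cartanMat D i.val j * n s j)) D.rank]

theorem ker_tau_eq (D : ChevalleyDatum) (hs : simpleCheck D = true) (n : ℕ → ℕ → ℤ)
    (hrel : ColRel D n) :
    (tau (F := F) D).ker = (theta D.rank (cartanMat D) : (Fin D.rank → Fˣ) →* _).ker := by
  have hsimple : ∀ i < D.rank, D.simple i < D.nroots := by
    intro i hi
    unfold simpleCheck at hs
    rw [List.all_eq_true] at hs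
    have := hs i (List.mem_range.mpr hi)
    simp only [Bool.and_eq_true, decide_eq_true_eq] at this
    exact this.1
  ext c
  rw [mem_ker_tau_iff, MonoidHom.mem_ker]
  constructor
  · intro h
    funext k
    rw [theta_cartanMat, h _ (hsimple k.val k.2)]
    rfl
  · intro h s hs'
    rw [chi_of_rel D n hrel s hs' c, h]
    simp

/-- the range of `tau` is the diagonal subgroup -/
theorem range_tau (D : ChevalleyDatum) (hs : simpleCheck D = true)
    (hsimple : ∀ i < D.rank, ∀ c : F, c ≠ 0 → D.hMat F (D.simple i) c =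
      Matrix.diagonal (Sum.elim (fun _ => (1 : F)) (fun s : Fin D.nroots => c ^ (D.cartan i s))))
    (hmem : ∀ g : GL D.Idx F, g ∈ D.diagonalSubgroup F →
      ∃ c : ℕ → F, (∀ i, c i ≠ 0) ∧ (g : Matrix D.Idx D.Idx F) = torusMat D c) :
    (tau (F := F) D).range = D.diagonalSubgroup F := by
  classical
  have hsimple' : ∀ i < D.rank, D.simple i < D.nroots := by
    intro i hi
    unfold simpleCheck at hs
    rw [List.all_eq_true] at hs
    have := hs i (List.mem_range.mpr hi)
    simp only [Bool.and_eq_true, decide_eq_true_eq] at this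
    exact this.1
  apply le_antisymm
  · rintro _ ⟨c, rfl⟩
    -- `c` is the product of its components
    have hc : c = ∏ i : Fin D.rank, Pi.mulSingle i (c i) := (Finset.univ_prod_mulSingle c).symm
    suffices hsuff : c ∈ (D.diagonalSubgroup F).comap (tau (F := F) D) from hsuff
    rw [hc]
    apply Subgroup.prod_mem
    intro i _
    show tau D (Pi.mulSingle i (c i)) ∈ D.diagonalSubgroup F
    unfold ChevalleyDatum.diagonalSubgroup
    apply Subgroup.subset_closure
    refine ⟨D.simple i.val, ((c i : Fˣ) : F), hsimple' i.val i.2, Units.ne_zero _, ?_⟩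
    rw [tau_val, hsimple i.val i.2 _ (Units.ne_zero _)]
    unfold torusMat
    congr 2
    funext s
    rw [torusChar_ext]
    unfold chi
    rw [Finset.prod_eq_single i]
    · rw [Pi.mulSingle_eq_same, Units.val_zpow_eq_zpow_val]
    · intro j _ hj
      rw [Pi.mulSingle_eq_of_ne hj, one_zpow]
    · intro hi
      exact absurd (Finset.mem_univ _) hi
  · intro g hg
    obtain ⟨c, hc, hgc⟩ := hmem g hg
    refine ⟨fun i => Units.mk0 (c i.val) (hc i.val), ?_⟩
    apply Units.ext
    rw [tau_val, hgc]
    apply torusMat_congr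
    intro i hi
    unfold ext
    rw [dif_pos hi]
    rfl

/-- **The order of `H`.** -/
theorem card_diagonalSubgroup [Fintype F] (D : ChevalleyDatum) (hs : simpleCheck D = true)
    (hsimple : ∀ i < D.rank, ∀ c : F, c ≠ 0 → D.hMat F (D.simple i) c =
      Matrix.diagonal (Sum.elim (fun _ => (1 : F)) (fun s : Fin D.nroots => c ^ (D.cartan i s))))
    (hmem : ∀ g : GL D.Idx F, g ∈ D.diagonalSubgroup F →
      ∃ c : ℕ → F, (∀ i, c i ≠ 0) ∧ (g : Matrix D.Idx D.Idx F) = torusMat D c)
    (n : ℕ → ℕ → ℤ) (hrel : ColRel D n) (d : ℕ → ℕ) (S : DiagForm D.rank (cartanMat D) d) :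
    (∏ k : Fin D.rank, Nat.gcd (Fintype.card F - 1) (d k.val)) *
      Nat.card (D.diagonalSubgroup F) = (Fintype.card F - 1) ^ D.rank := by
  have hcardU : Nat.card Fˣ = Fintype.card F - 1 := by
    rw [Nat.card_units, Nat.card_eq_fintype_card]
  have h1 := Subgroup.card_mul_index (tau (F := F) D).ker
  rw [Subgroup.index_ker, range_tau D hs hsimple hmem, ker_tau_eq D hs n hrel,
    card_ker D.rank (cartanMat D) d S, hcardU, Nat.card_fun, hcardU,
    Nat.card_eq_fintype_card (α := Fin D.rank), Fintype.card_fin] at h1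
  exact h1

end

end Cfsg.Agent.helper5.Chev
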