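import Mathlib
import Cfsg.Agent.Lib_helper5_ChevTorusCard

set_option autoImplicit false

/-! Checkable certificates for the order of the diagonal subgroup (helper5). -/

namespace Cfsg.Agent.helper5.Chev

open Cfsg.Lie Cfsg.Agent.helper5.TorusKer

/-- integer matrix from a table -/
def matOf (tbl : List (List ℤ)) : ℕ → ℕ → ℤ := fun i j => (tbl.getD i []).getD j 0

def dOf (l : List ℕ) : ℕ → ℕ := fun i => l.getD i 0

/-- list version of `matMul` -/
def matMulL (l : ℕ) (M N : ℕ → ℕ → ℤ) : ℕ → ℕ → ℤ :=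
  fun i k => ((List.range l).map fun j => M i j * N j k).sum

theorem list_range_sum (n : ℕ) (f : ℕ → ℤ) :
    ((List.range n).map f).sum = ∑ i ∈ Finset.range n, f i := by
  induction n with
  | zero => simp
  | succ n ih =>
    rw [List.range_succ, List.map_append, List.sum_append, ih, Finset.sum_range_succ]
    simp

theorem matMul_eq_L (l : ℕ) (M N : ℕ → ℕ → ℤ) : matMul l M N = matMulL l M N := by
  funext i k
  unfold matMul matMulL
  rw [list_range_sum]

def idCheck (l : ℕ) (M : ℕ → ℕ → ℤ) : Bool :=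
  (List.range l).all fun i => (List.range l).all fun k => M i k == if i = k then 1 else 0

def diagCheck (l : ℕ) (M : ℕ → ℕ → ℤ) (d : ℕ → ℕ) : Bool :=
  (List.range l).all fun i => (List.range l).all fun k => M i k == if i = k then (d i : ℤ) else 0

theorem of_idCheck (l : ℕ) (M : ℕ → ℕ → ℤ) (h : idCheck l M = true) :
    ∀ i < l, ∀ k < l, M i k = if i = k then 1 else 0 := by
  intro i hi k hk
  unfold idCheck at h
  rw [List.all_eq_true] at h
  have h1 := h i (List.mem_range.mpr hi)
  rw [List.all_eq_true] at h1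
  have h2 := h1 k (List.mem_range.mpr hk)
  exact beq_iff_eq.mp h2

theorem of_diagCheck (l : ℕ) (M : ℕ → ℕ → ℤ) (d : ℕ → ℕ) (h : diagCheck l M d = true) :
    ∀ i < l, ∀ k < l, M i k = if i = k then (d i : ℤ) else 0 := by
  intro i hi k hk
  unfold diagCheck at h
  rw [List.all_eq_true] at h
  have h1 := h i (List.mem_range.mpr hi)
  rw [List.all_eq_true] at h1
  have h2 := h1 k (List.mem_range.mpr hk)
  exact beq_iff_eq.mp h2

def snfCheck (l : ℕ) (B U Ui V Vi : ℕ → ℕ → ℤ) (d : ℕ → ℕ) : Bool :=
  idCheck l (matMulL l U Ui) && idCheck l (matMulL l Ui U) && idCheck l (matMulL l V Vi) &&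
    diagCheck l (matMulL l U (matMulL l B V)) d

def diagForm_of_check (l : ℕ) (B U Ui V Vi : ℕ → ℕ → ℤ) (d : ℕ → ℕ)
    (h : snfCheck l B U Ui V Vi d = true) : DiagForm l B d := by
  unfold snfCheck at h
  simp only [Bool.and_eq_true] at h
  obtain ⟨⟨⟨h1, h2⟩, h3⟩, h4⟩ := h
  exact
    { U := U, Ui := Ui, V := V, Vi := Vi
      hU := by rw [matMul_eq_L]; exact of_idCheck l _ h1
      hU' := by rw [matMul_eq_L]; exact of_idCheck l _ h2
      hV := by rw [matMul_eq_L]; exact of_idCheck l _ h3
      hD := by rw [matMul_eq_L, matMul_eq_L]; exact of_diagCheck l _ d h4 }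

/-- list-based lookups -/
def simpleL (D : ChevalleyDatum) (j : ℕ) : ℕ := D.simpleIdx.toList.getD j 0

theorem simpleL_eq (D : ChevalleyDatum) (j : ℕ) : simpleL D j = D.simple j := by
  unfold simpleL ChevalleyDatum.simple
  rw [array_getD_eq]

def cartanMatL (D : ChevalleyDatum) : ℕ → ℕ → ℤ := fun i j => cartanL D i (simpleL D j)

theorem cartanMatL_eq (D : ChevalleyDatum) : cartanMatL D = cartanMat D := by
  funext i j
  unfold cartanMatL cartanMat
  rw [cartanL_eq, simpleL_eq]

def colRelCheck (D : ChevalleyDatum) (n : ℕ → ℕ → ℤ) : Bool :=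
  (List.range D.nroots).all fun s => (List.range D.rank).all fun i =>
    cartanL D i s == ((List.range D.rank).map fun j => cartanMatL D i j * n s j).sum

theorem colRel_of_check (D : ChevalleyDatum) (n : ℕ → ℕ → ℤ) (h : colRelCheck D n = true) :
    ColRel D n := by
  intro s hs i hi
  unfold colRelCheck at h
  rw [List.all_eq_true] at h
  have h1 := h s (List.mem_range.mpr hs)
  rw [List.all_eq_true] at h1
  have h2 := beq_iff_eq.mp (h1 i (List.mem_range.mpr hi))
  rw [cartanL_eq, list_range_sum, cartanMatL_eq] at h2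
  exact h2

/-- a complete certificate -/
structure TorusCert (D : ChevalleyDatum) where
  n : List (List ℤ)
  U : List (List ℤ)
  Ui : List (List ℤ)
  V : List (List ℤ)
  Vi : List (List ℤ)
  d : List ℕ

def TorusCert.check (D : ChevalleyDatum) (c : TorusCert D) : Bool :=
  colRelCheck D (matOf c.n) &&
    snfCheck D.rank (cartanMatL D) (matOf c.U) (matOf c.Ui) (matOf c.V) (matOf c.Vi) (dOf c.d)

theorem card_of_cert {F : Type*} [Field F] [Fintype F] (D : ChevalleyDatum) (c : TorusCert D)
    (hc : c.check = true) (hs : simpleCheck D = true)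
    (hsimple : ∀ i < D.rank, ∀ c : F, c ≠ 0 → D.hMat F (D.simple i) c =
      Matrix.diagonal (Sum.elim (fun _ => (1 : F)) (fun s : Fin D.nroots => c ^ (D.cartan i s))))
    (hmem : ∀ g : GL D.Idx F, g ∈ D.diagonalSubgroup F →
      ∃ c : ℕ → F, (∀ i, c i ≠ 0) ∧ (g : Matrix D.Idx D.Idx F) = torusMat D c) :
    ((List.range D.rank).map fun k => Nat.gcd (Fintype.card F - 1) (dOf c.d k)).prod *
      Nat.card (D.diagonalSubgroup F) = (Fintype.card F - 1) ^ D.rank := by
  unfold TorusCert.check at hc
  rw [Bool.and_eq_true] at hc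
  have hrel := colRel_of_check D _ hc.1
  have S := diagForm_of_check D.rank _ _ _ _ _ _ hc.2
  rw [cartanMatL_eq] at S
  rw [list_range_prod]
  exact card_diagonalSubgroup D hs hsimple hmem _ hrel _ S

end Cfsg.Agent.helper5.Chev
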