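import Mathlib
import Cfsg.Agent.Lib_helper5_ChevOrdDefs

set_option autoImplicit false

/-! Weyl group enumeration certificate for type B2 (generated, helper5). -/

namespace Cfsg.Agent.helper5.Chev

open Cfsg.Lie

def wvsB2 : List (List ℕ) :=
  [[], [0], [1], [1, 0], [0, 1], [0, 1, 0], [1, 0, 1], [1, 0, 1, 0]]

def wpermsB2 : List (List ℕ) :=
  [[0, 1, 2, 3, 4, 5, 6, 7], [3, 1, 5, 0, 7, 2, 6, 4], [0, 2, 1, 4, 3, 6, 5, 7],
    [3, 5, 1, 7, 0, 6, 2, 4], [4, 2, 6, 0, 7, 1, 5, 3], [7, 5, 6, 3, 4, 1, 2, 0],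
    [4, 6, 2, 7, 0, 5, 1, 3], [7, 6, 5, 4, 3, 2, 1, 0]]

def wnxtB2 : List (List ℕ) :=
  [[1, 2], [0, 4], [3, 0], [2, 6], [5, 1], [4, 7], [7, 3], [6, 5]]

set_option maxRecDepth 1000000 in
set_option maxHeartbeats 0 in
theorem wenumB2_c0 : wenumRange chevB2 wvsB2 wpermsB2 wnxtB2 (0 * 8) 8 = true := by
  decide +kernel

set_option maxRecDepth 1000000 in
set_option maxHeartbeats 0 in
theorem wenumB2 : WEnum chevB2 wvsB2 wpermsB2 wnxtB2 where
  hlenP := by decide +kernel
  h0 := by decide +kernel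
  hk := by
    apply wenum_of_chunks chevB2 wvsB2 wpermsB2 wnxtB2 8 1 (by norm_num)
      (by decide +kernel)
    intro k hk
    interval_cases k
    · exact wenumB2_c0
  hnd := by decide +kernel

set_option maxRecDepth 1000000 in
set_option maxHeartbeats 0 in
theorem wlenB2 : wvsB2.length = 8 := by decide +kernel

set_option maxRecDepth 1000000 in
set_option maxHeartbeats 0 in
theorem wcountsB2 : (List.range 5).map (fun j => (wvsB2.map List.length).count j) =
    [1, 2, 2, 2, 1] := by decide +kernel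

set_option maxRecDepth 1000000 in
set_option maxHeartbeats 0 in
theorem wboundB2 : ∀ x ∈ wvsB2.map List.length, x < 5 := by decide +kernel

end Cfsg.Agent.helper5.Chev
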