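import Mathlib
import Cfsg.Agent.Lib_helper5_ChevOrdDefs

set_option autoImplicit false

/-! Weyl group enumeration certificate for type G2 (generated, helper5). -/

namespace Cfsg.Agent.helper5.Chev

open Cfsg.Lie

def wvsG2 : List (List ℕ) :=
  [[], [0], [1], [1, 0], [0, 1], [0, 1, 0], [1, 0, 1], [1, 0, 1, 0], [0, 1, 0, 1],
    [0, 1, 0, 1, 0], [1, 0, 1, 0, 1], [1, 0, 1, 0, 1, 0]]

def wpermsG2 : List (List ℕ) :=
  [[0, 1, 2, 3, 4, 5, 6, 7, 8, 9, 10, 11], [0, 5, 3, 2, 7, 1, 10, 4, 9, 8, 6, 11],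
    [1, 0, 2, 4, 3, 6, 5, 8, 7, 9, 11, 10], [5, 0, 3, 7, 2, 10, 1, 9, 4, 8, 11, 6],
    [1, 6, 4, 2, 8, 0, 11, 3, 9, 7, 5, 10], [5, 10, 7, 3, 9, 0, 11, 2, 8, 4, 1, 6],
    [6, 1, 4, 8, 2, 11, 0, 9, 3, 7, 10, 5], [10, 5, 7, 9, 3, 11, 0, 8, 2, 4, 6, 1],
    [6, 11, 8, 4, 9, 1, 10, 2, 7, 3, 0, 5], [10, 11, 9, 7, 8, 5, 6, 3, 4, 2, 0, 1],
    [11, 6, 8, 9, 4, 10, 1, 7, 2, 3, 5, 0], [11, 10, 9, 8, 7, 6, 5, 4, 3, 2, 1, 0]]

def wnxtG2 : List (List ℕ) :=
  [[1, 2], [0, 4], [3, 0], [2, 6], [5, 1], [4, 8], [7, 3], [6, 10], [9, 5], [8, 11], [11, 7],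
    [10, 9]]

set_option maxRecDepth 1000000 in
set_option maxHeartbeats 0 in
theorem wenumG2_c0 : wenumRange chevG2 wvsG2 wpermsG2 wnxtG2 (0 * 12) 12 = true := by
  decide +kernel

set_option maxRecDepth 1000000 in
set_option maxHeartbeats 0 in
theorem wenumG2 : WEnum chevG2 wvsG2 wpermsG2 wnxtG2 where
  hlenP := by decide +kernel
  h0 := by decide +kernel
  hk := by
    apply wenum_of_chunks chevG2 wvsG2 wpermsG2 wnxtG2 12 1 (by norm_num)
      (by decide +kernel)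
    intro k hk
    interval_cases k
    · exact wenumG2_c0
  hnd := by decide +kernel

set_option maxRecDepth 1000000 in
set_option maxHeartbeats 0 in
theorem wlenG2 : wvsG2.length = 12 := by decide +kernel

set_option maxRecDepth 1000000 in
set_option maxHeartbeats 0 in
theorem wcountsG2 : (List.range 7).map (fun j => (wvsG2.map List.length).count j) =
    [1, 2, 2, 2, 2, 2, 1] := by decide +kernel

set_option maxRecDepth 1000000 in
set_option maxHeartbeats 0 in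
theorem wboundG2 : ∀ x ∈ wvsG2.map List.length, x < 7 := by decide +kernel

end Cfsg.Agent.helper5.Chev
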