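import Mathlib
import Cfsg.Agent.Lib_helper5_TC2
import Cfsg.Agent.Lib_helper5_ChevPCDB2Defs

set_option autoImplicit false

/-! Coset table certificates for the Coxeter group of type B2 (generated, helper5). -/

namespace Cfsg.Agent.helper5.Chev

open Cfsg.Lie Cfsg.Agent.helper5.TC

def tcM_B2 : List (List ℕ) := [[1, 4], [4, 1]]

set_option maxRecDepth 1000000 in
def tcTab_B2_1 : List (List ℕ) := [[1, 0], [0, 0]]

set_option maxRecDepth 1000000 in
def tcRk_B2_1 : List (List ℕ) := [[0, 0], [0, 0]]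

set_option maxRecDepth 1000000 in
def tcJs_B2_1 : List (List (List ℕ)) := [[[0], []], [[1], []]]

set_option maxRecDepth 1000000 in
def tcTab_B2_2 : List (List ℕ) := [[0, 1], [2, 0], [1, 3], [3, 2]]

set_option maxRecDepth 1000000 in
def tcRk_B2_2 : List (List ℕ) := [[0, 0], [0, 0], [0, 0], [1, 0]]

set_option maxRecDepth 1000000 in
def tcJs_B2_2 : List (List (List ℕ)) := [[[2], [0]], [[0], [1]], [[1], [0]], [[3, 0, 1, 0, 4], [1]]]

end Cfsg.Agent.helper5.Chev
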