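import Mathlib
import Cfsg.Agent.Lib_helper5_TC2
import Cfsg.Agent.Lib_helper5_TCDB2Defs

set_option autoImplicit false

/-! Coset table certificates for the Coxeter group of type B2 (generated, helper5). -/

namespace Cfsg.Agent.helper5.Chev

open Cfsg.Lie Cfsg.Agent.helper5.TC

set_option maxRecDepth 1000000 in
set_option maxHeartbeats 0 in
theorem tcC_B2_1_0 : ((List.range 60).all fun k => Nat.ble 2 (0 * 60 + k) || rowOK tcM_B2 tcTab_B2_1 tcRk_B2_1 2 pcJ_B2_1 pcds_B2_1 [] tcJs_B2_1 (0 * 60 + k)) = true := by decide +kernel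

end Cfsg.Agent.helper5.Chev
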