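import Mathlib
import Cfsg.Agent.Lib_helper5_TCDB2
import Cfsg.Agent.Lib_helper5_ChevPCDB2
import Cfsg.Agent.Lib_helper5_CoxCard

set_option autoImplicit false

/-! The order of the Coxeter group of type B2 (generated, helper5). -/

namespace Cfsg.Agent.helper5.Chev

open Cfsg.Lie Cfsg.Agent.helper5.TC

theorem coxMt_B2 : MtOK (CoxeterMatrix.B 2) tcM_B2 := ⟨by decide, by decide, by intro x y; fin_cases x <;> fin_cases y <;> rfl⟩

set_option maxRecDepth 1000000 in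
set_option maxHeartbeats 0 in
theorem coxRel_B2 : relChk pcT_B2 8 2 tcM_B2 = true := by decide +kernel

set_option maxRecDepth 1000000 in
theorem pcLen_B2_1 : pcds_B2_1.length = 2 := by decide +kernel

set_option maxRecDepth 1000000 in
theorem pcLen_B2_2 : pcds_B2_2.length = 4 := by decide +kernel

theorem pcCard_B2_0 : Fintype.card pcI_B2_0 = 1 := Fintype.card_unit

theorem pcCard_B2_1 : Fintype.card pcI_B2_1 = 2 * 1 := by
  unfold pcI_B2_1
  rw [Fintype.card_prod, Fintype.card_fin, pcLen_B2_1, pcCard_B2_0]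

theorem pcCard_B2_2 : Fintype.card pcI_B2_2 = 4 * (2 * 1) := by
  unfold pcI_B2_2
  rw [Fintype.card_prod, Fintype.card_fin, pcLen_B2_2, pcCard_B2_1]

set_option maxRecDepth 1000000 in
set_option maxHeartbeats 0 in
theorem coxUpper_B2 : Finite ((CoxeterMatrix.B 2)).Group ∧ Nat.card ((CoxeterMatrix.B 2)).Group ≤ 4 * (2 * 1) := by
  have h0 := tc_base (CoxeterMatrix.B 2)
  have b0 : Nat.card (Subgroup.closure (gset (sgen (CoxeterMatrix.B 2)) [])) ≤ 1 := h0.2.le
  have h1 := tc_step (CoxeterMatrix.B 2) tcM_B2 coxMt_B2 tcTab_B2_1 tcRk_B2_1 2 pcJ_B2_1 []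
    pcds_B2_1 tcJs_B2_1 (by decide +kernel) (by norm_num) tcRows_B2_1 h0.1
  have b1 := h1.2.trans (Nat.mul_le_mul_left _ b0)
  have h2 := tc_step (CoxeterMatrix.B 2) tcM_B2 coxMt_B2 tcTab_B2_2 tcRk_B2_2 4 pcJ_B2_2 pcJ_B2_1
    pcds_B2_2 tcJs_B2_2 (by decide +kernel) (by norm_num) tcRows_B2_2 h1.1
  have b2 := h2.2.trans (Nat.mul_le_mul_left _ b1)
  have htop := closure_top (CoxeterMatrix.B 2) pcJ_B2_2 (by decide +kernel)
  rw [htop] at h2 b2
  haveI := h2.1
  have hfin : Finite ((CoxeterMatrix.B 2)).Group := Finite.of_equiv _ Subgroup.topEquiv.toEquiv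
  rw [Subgroup.card_top] at b2
  exact ⟨hfin, b2⟩

theorem coxCard_B2 : Nat.card ((CoxeterMatrix.B 2)).Group = 8 := by
  obtain ⟨hfin, hle⟩ := coxUpper_B2
  have hge := card_ge_of_family chevB2 pcMem_B2 (CoxeterMatrix.B 2) tcM_B2 coxMt_B2 (by decide)
    pcRTOK_B2 coxRel_B2 pcJ_B2_2 pcV_B2_2 pcFam_B2_2
  rw [pcCard_B2_2] at hge
  have e : 4 * (2 * 1) = 8 := by norm_num
  rw [e] at hle hge
  exact le_antisymm hle hge

theorem coxFinite_B2 : Finite ((CoxeterMatrix.B 2)).Group := coxUpper_B2.1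

end Cfsg.Agent.helper5.Chev
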