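import Mathlib
import Cfsg.Agent.Lib_helper5_TC2
import Cfsg.Agent.Lib_helper5_ChevPCDD4Defs

set_option autoImplicit false

/-! Coset table certificates for the Coxeter group of type D4 (generated, helper5). -/

namespace Cfsg.Agent.helper5.Chev

open Cfsg.Lie Cfsg.Agent.helper5.TC

def tcM_D4 : List (List ℕ) := [[1, 3, 2, 2], [3, 1, 3, 3], [2, 3, 1, 2], [2, 3, 2, 1]]

set_option maxRecDepth 1000000 in
def tcTab_D4_1 : List (List ℕ) := [[1, 0, 0, 0], [0, 0, 0, 0]]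

set_option maxRecDepth 1000000 in
def tcRk_D4_1 : List (List ℕ) := [[0, 0, 0, 0], [0, 0, 0, 0]]

set_option maxRecDepth 1000000 in
def tcJs_D4_1 : List (List (List ℕ)) := [[[0], [], [], []], [[1], [], [], []]]

set_option maxRecDepth 1000000 in
def tcTab_D4_2 : List (List ℕ) := [[0, 1, 0, 0], [2, 0, 0, 0], [1, 2, 0, 0]]

set_option maxRecDepth 1000000 in
def tcRk_D4_2 : List (List ℕ) := [[0, 0, 0, 0], [0, 0, 0, 0], [0, 1, 0, 0]]

set_option maxRecDepth 1000000 in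
def tcJs_D4_2 : List (List (List ℕ)) := [[[2], [0], [], []], [[0], [1], [], []], [[1], [3, 0, 1, 0, 3], [], []]]

set_option maxRecDepth 1000000 in
def tcTab_D4_3 : List (List ℕ) := [[0, 0, 1, 0], [1, 2, 0, 0], [3, 1, 2, 0], [2, 3, 3, 0]]

set_option maxRecDepth 1000000 in
def tcRk_D4_3 : List (List ℕ) := [[0, 0, 0, 0], [1, 0, 0, 0], [0, 0, 2, 0], [0, 3, 4, 0]]

set_option maxRecDepth 1000000 in
def tcJs_D4_3 : List (List (List ℕ)) := [[[2], [2], [0], []], [[3, 0, 2, 0, 2], [0], [1], []], [[0], [1], [3, 1, 2, 0, 3], []], [[1], [3, 0, 1, 1, 3], [3, 0, 2, 2, 1], []]]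

set_option maxRecDepth 1000000 in
def tcTab_D4_4 : List (List ℕ) := [[0, 0, 0, 1], [1, 2, 1, 0], [3, 1, 4, 2], [2, 3, 5, 3], [5, 4, 2, 4], [4, 6, 3, 5], [6, 5, 6, 7], [7, 7, 7, 6]]

set_option maxRecDepth 1000000 in
def tcRk_D4_4 : List (List ℕ) := [[0, 0, 0, 0], [1, 0, 3, 0], [0, 0, 0, 2], [0, 4, 0, 8], [7, 5, 0, 9], [6, 0, 0, 11], [12, 0, 10, 0], [14, 13, 15, 0]]

set_option maxRecDepth 1000000 in
def tcJs_D4_4 : List (List (List ℕ)) := [[[2], [2], [2], [0]], [[3, 0, 3, 0, 2], [0], [3, 2, 3, 0, 2], [1]], [[0], [1], [0], [3, 1, 3, 0, 3]], [[1], [3, 0, 1, 1, 3], [0], [3, 0, 3, 2, 1]], [[4], [3, 1, 2, 1, 2], [1], [3, 2, 3, 2, 1]], [[3, 0, 2, 2, 2], [0], [1], [3, 2, 3, 3, 1]], [[3, 0, 1, 4, 2], [1], [3, 1, 2, 3, 3], [0]], [[3, 0, 3, 6, 2], [3, 1, 3, 5, 2], [3, 2, 3, 6, 2], [1]]]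

end Cfsg.Agent.helper5.Chev
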