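import Mathlib
import Cfsg.Agent.Lib_helper5_TC2
import Cfsg.Agent.Lib_helper5_TCDD4Defs
import Cfsg.Agent.Lib_helper5_TCDD4_l1c00
import Cfsg.Agent.Lib_helper5_TCDD4_l2c00
import Cfsg.Agent.Lib_helper5_TCDD4_l3c00
import Cfsg.Agent.Lib_helper5_TCDD4_l4c00

set_option autoImplicit false

/-! Coset table certificates for the Coxeter group of type D4 (generated, helper5). -/

namespace Cfsg.Agent.helper5.Chev

open Cfsg.Lie Cfsg.Agent.helper5.TC

theorem tcRows_D4_1 : ∀ a < 2, rowOK tcM_D4 tcTab_D4_1 tcRk_D4_1 2 pcJ_D4_1 pcds_D4_1 [] tcJs_D4_1 a = true := by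
  intro a ha
  have hc : a / 60 < 1 := by omega
  have e : a = a / 60 * 60 + a % 60 := (Nat.div_add_mod' a 60).symm
  have hm : a % 60 < 60 := Nat.mod_lt _ (by norm_num)
  generalize a / 60 = c at hc e
  have key : (Nat.ble 2 a || rowOK tcM_D4 tcTab_D4_1 tcRk_D4_1 2 pcJ_D4_1 pcds_D4_1 [] tcJs_D4_1 a) = true := by
    rw [e]
    interval_cases c
    · exact (List.all_eq_true.mp tcC_D4_1_0) _ (List.mem_range.mpr hm)
  rw [Bool.or_eq_true] at key
  rcases key with h1 | h1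
  · rw [Nat.ble_eq] at h1
    omega
  · exact h1

theorem tcRows_D4_2 : ∀ a < 3, rowOK tcM_D4 tcTab_D4_2 tcRk_D4_2 3 pcJ_D4_2 pcds_D4_2 pcJ_D4_1 tcJs_D4_2 a = true := by
  intro a ha
  have hc : a / 60 < 1 := by omega
  have e : a = a / 60 * 60 + a % 60 := (Nat.div_add_mod' a 60).symm
  have hm : a % 60 < 60 := Nat.mod_lt _ (by norm_num)
  generalize a / 60 = c at hc e
  have key : (Nat.ble 3 a || rowOK tcM_D4 tcTab_D4_2 tcRk_D4_2 3 pcJ_D4_2 pcds_D4_2 pcJ_D4_1 tcJs_D4_2 a) = true := by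
    rw [e]
    interval_cases c
    · exact (List.all_eq_true.mp tcC_D4_2_0) _ (List.mem_range.mpr hm)
  rw [Bool.or_eq_true] at key
  rcases key with h1 | h1
  · rw [Nat.ble_eq] at h1
    omega
  · exact h1

theorem tcRows_D4_3 : ∀ a < 4, rowOK tcM_D4 tcTab_D4_3 tcRk_D4_3 4 pcJ_D4_3 pcds_D4_3 pcJ_D4_2 tcJs_D4_3 a = true := by
  intro a ha
  have hc : a / 60 < 1 := by omega
  have e : a = a / 60 * 60 + a % 60 := (Nat.div_add_mod' a 60).symm
  have hm : a % 60 < 60 := Nat.mod_lt _ (by norm_num)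
  generalize a / 60 = c at hc e
  have key : (Nat.ble 4 a || rowOK tcM_D4 tcTab_D4_3 tcRk_D4_3 4 pcJ_D4_3 pcds_D4_3 pcJ_D4_2 tcJs_D4_3 a) = true := by
    rw [e]
    interval_cases c
    · exact (List.all_eq_true.mp tcC_D4_3_0) _ (List.mem_range.mpr hm)
  rw [Bool.or_eq_true] at key
  rcases key with h1 | h1
  · rw [Nat.ble_eq] at h1
    omega
  · exact h1

theorem tcRows_D4_4 : ∀ a < 8, rowOK tcM_D4 tcTab_D4_4 tcRk_D4_4 8 pcJ_D4_4 pcds_D4_4 pcJ_D4_3 tcJs_D4_4 a = true := by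
  intro a ha
  have hc : a / 60 < 1 := by omega
  have e : a = a / 60 * 60 + a % 60 := (Nat.div_add_mod' a 60).symm
  have hm : a % 60 < 60 := Nat.mod_lt _ (by norm_num)
  generalize a / 60 = c at hc e
  have key : (Nat.ble 8 a || rowOK tcM_D4 tcTab_D4_4 tcRk_D4_4 8 pcJ_D4_4 pcds_D4_4 pcJ_D4_3 tcJs_D4_4 a) = true := by
    rw [e]
    interval_cases c
    · exact (List.all_eq_true.mp tcC_D4_4_0) _ (List.mem_range.mpr hm)
  rw [Bool.or_eq_true] at key
  rcases key with h1 | h1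
  · rw [Nat.ble_eq] at h1
    omega
  · exact h1

end Cfsg.Agent.helper5.Chev
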