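import Mathlib
import Cfsg.Agent.Lib_helper5_TCDD4
import Cfsg.Agent.Lib_helper5_ChevPCDD4
import Cfsg.Agent.Lib_helper5_CoxCard

set_option autoImplicit false

/-! The order of the Coxeter group of type D4 (generated, helper5). -/

namespace Cfsg.Agent.helper5.Chev

open Cfsg.Lie Cfsg.Agent.helper5.TC

theorem coxMt_D4 : MtOK Cfsg.Lie.coxeterD4 tcM_D4 := ⟨by decide, by decide, by intro x y; fin_cases x <;> fin_cases y <;> rfl⟩

set_option maxRecDepth 1000000 in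
set_option maxHeartbeats 0 in
theorem coxRel_D4 : relChk pcT_D4 24 4 tcM_D4 = true := by decide +kernel

set_option maxRecDepth 1000000 in
theorem pcLen_D4_1 : pcds_D4_1.length = 2 := by decide +kernel

set_option maxRecDepth 1000000 in
theorem pcLen_D4_2 : pcds_D4_2.length = 3 := by decide +kernel

set_option maxRecDepth 1000000 in
theorem pcLen_D4_3 : pcds_D4_3.length = 4 := by decide +kernel

set_option maxRecDepth 1000000 in
theorem pcLen_D4_4 : pcds_D4_4.length = 8 := by decide +kernel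

theorem pcCard_D4_0 : Fintype.card pcI_D4_0 = 1 := Fintype.card_unit

theorem pcCard_D4_1 : Fintype.card pcI_D4_1 = 2 * 1 := by
  unfold pcI_D4_1
  rw [Fintype.card_prod, Fintype.card_fin, pcLen_D4_1, pcCard_D4_0]

theorem pcCard_D4_2 : Fintype.card pcI_D4_2 = 3 * (2 * 1) := by
  unfold pcI_D4_2
  rw [Fintype.card_prod, Fintype.card_fin, pcLen_D4_2, pcCard_D4_1]

theorem pcCard_D4_3 : Fintype.card pcI_D4_3 = 4 * (3 * (2 * 1)) := by
  unfold pcI_D4_3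
  rw [Fintype.card_prod, Fintype.card_fin, pcLen_D4_3, pcCard_D4_2]

theorem pcCard_D4_4 : Fintype.card pcI_D4_4 = 8 * (4 * (3 * (2 * 1))) := by
  unfold pcI_D4_4
  rw [Fintype.card_prod, Fintype.card_fin, pcLen_D4_4, pcCard_D4_3]

set_option maxRecDepth 1000000 in
set_option maxHeartbeats 0 in
theorem coxUpper_D4 : Finite (Cfsg.Lie.coxeterD4).Group ∧ Nat.card (Cfsg.Lie.coxeterD4).Group ≤ 8 * (4 * (3 * (2 * 1))) := by
  have h0 := tc_base Cfsg.Lie.coxeterD4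
  have b0 : Nat.card (Subgroup.closure (gset (sgen Cfsg.Lie.coxeterD4) [])) ≤ 1 := h0.2.le
  have h1 := tc_step Cfsg.Lie.coxeterD4 tcM_D4 coxMt_D4 tcTab_D4_1 tcRk_D4_1 2 pcJ_D4_1 []
    pcds_D4_1 tcJs_D4_1 (by decide +kernel) (by norm_num) tcRows_D4_1 h0.1
  have b1 := h1.2.trans (Nat.mul_le_mul_left _ b0)
  have h2 := tc_step Cfsg.Lie.coxeterD4 tcM_D4 coxMt_D4 tcTab_D4_2 tcRk_D4_2 3 pcJ_D4_2 pcJ_D4_1
    pcds_D4_2 tcJs_D4_2 (by decide +kernel) (by norm_num) tcRows_D4_2 h1.1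
  have b2 := h2.2.trans (Nat.mul_le_mul_left _ b1)
  have h3 := tc_step Cfsg.Lie.coxeterD4 tcM_D4 coxMt_D4 tcTab_D4_3 tcRk_D4_3 4 pcJ_D4_3 pcJ_D4_2
    pcds_D4_3 tcJs_D4_3 (by decide +kernel) (by norm_num) tcRows_D4_3 h2.1
  have b3 := h3.2.trans (Nat.mul_le_mul_left _ b2)
  have h4 := tc_step Cfsg.Lie.coxeterD4 tcM_D4 coxMt_D4 tcTab_D4_4 tcRk_D4_4 8 pcJ_D4_4 pcJ_D4_3
    pcds_D4_4 tcJs_D4_4 (by decide +kernel) (by norm_num) tcRows_D4_4 h3.1
  have b4 := h4.2.trans (Nat.mul_le_mul_left _ b3)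
  have htop := closure_top Cfsg.Lie.coxeterD4 pcJ_D4_4 (by decide +kernel)
  rw [htop] at h4 b4
  haveI := h4.1
  have hfin : Finite (Cfsg.Lie.coxeterD4).Group := Finite.of_equiv _ Subgroup.topEquiv.toEquiv
  rw [Subgroup.card_top] at b4
  exact ⟨hfin, b4⟩

theorem coxCard_D4 : Nat.card (Cfsg.Lie.coxeterD4).Group = 192 := by
  obtain ⟨hfin, hle⟩ := coxUpper_D4
  have hge := card_ge_of_family chevD4 pcMem_D4 Cfsg.Lie.coxeterD4 tcM_D4 coxMt_D4 (by decide)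
    pcRTOK_D4 coxRel_D4 pcJ_D4_4 pcV_D4_4 pcFam_D4_4
  rw [pcCard_D4_4] at hge
  have e : 8 * (4 * (3 * (2 * 1))) = 192 := by norm_num
  rw [e] at hle hge
  exact le_antisymm hle hge

theorem coxFinite_D4 : Finite (Cfsg.Lie.coxeterD4).Group := coxUpper_D4.1

end Cfsg.Agent.helper5.Chev
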