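import Mathlib
import Cfsg.Agent.Lib_helper5_TC2
import Cfsg.Agent.Lib_helper5_ChevPCDE6Defs

set_option autoImplicit false

/-! Coset table certificates for the Coxeter group of type E6 (generated, helper5). -/

namespace Cfsg.Agent.helper5.Chev

open Cfsg.Lie Cfsg.Agent.helper5.TC

def tcM_E6 : List (List ℕ) := [[1, 2, 3, 2, 2, 2], [2, 1, 2, 3, 2, 2], [3, 2, 1, 3, 2, 2], [2, 3, 3, 1, 3, 2], [2, 2, 2, 3, 1, 3], [2, 2, 2, 2, 3, 1]]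

set_option maxRecDepth 1000000 in
def tcTab_E6_1 : List (List ℕ) := [[0, 0, 0, 0, 1, 0], [0, 0, 0, 0, 0, 0]]

set_option maxRecDepth 1000000 in
def tcRk_E6_1 : List (List ℕ) := [[0, 0, 0, 0, 0, 0], [0, 0, 0, 0, 0, 0]]

set_option maxRecDepth 1000000 in
def tcJs_E6_1 : List (List (List ℕ)) := [[[], [], [], [], [0], []], [[], [], [], [], [1], []]]

set_option maxRecDepth 1000000 in
def tcTab_E6_2 : List (List ℕ) := [[0, 0, 0, 1, 0, 0], [0, 0, 0, 0, 2, 0], [0, 0, 0, 2, 1, 0]]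

set_option maxRecDepth 1000000 in
def tcRk_E6_2 : List (List ℕ) := [[0, 0, 0, 0, 0, 0], [0, 0, 0, 0, 0, 0], [0, 0, 0, 1, 0, 0]]

set_option maxRecDepth 1000000 in
def tcJs_E6_2 : List (List (List ℕ)) := [[[], [], [], [0], [2], []], [[], [], [], [1], [0], []], [[], [], [], [3, 4, 3, 0, 3], [1], []]]

set_option maxRecDepth 1000000 in
def tcTab_E6_3 : List (List ℕ) := [[0, 1, 0, 0, 0, 0], [0, 0, 0, 2, 1, 0], [0, 2, 0, 1, 3, 0], [0, 3, 0, 3, 2, 0]]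

set_option maxRecDepth 1000000 in
def tcRk_E6_3 : List (List ℕ) := [[0, 0, 0, 0, 0, 0], [0, 0, 0, 0, 1, 0], [0, 2, 0, 0, 0, 0], [0, 4, 0, 3, 0, 0]]

set_option maxRecDepth 1000000 in
def tcJs_E6_3 : List (List (List ℕ)) := [[[], [0], [], [2], [2], []], [[], [1], [], [0], [3, 4, 1, 0, 2], []], [[], [3, 3, 1, 0, 3], [], [1], [0], []], [[], [3, 4, 1, 2, 1], [], [3, 4, 3, 1, 3], [1], []]]

set_option maxRecDepth 1000000 in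
def tcTab_E6_4 : List (List ℕ) := [[0, 0, 1, 0, 0, 0], [0, 1, 0, 2, 1, 0], [0, 4, 2, 1, 3, 0], [0, 5, 3, 3, 2, 0], [0, 2, 4, 4, 5, 0], [0, 3, 5, 6, 4, 0], [0, 6, 7, 5, 6, 0], [0, 7, 6, 7, 7, 0]]

set_option maxRecDepth 1000000 in
def tcRk_E6_4 : List (List ℕ) := [[0, 0, 0, 0, 0, 0], [0, 3, 0, 0, 1, 0], [0, 0, 2, 0, 0, 0], [0, 0, 8, 4, 0, 0], [0, 0, 9, 5, 7, 0], [0, 0, 11, 0, 6, 0], [0, 10, 0, 0, 12, 0], [0, 15, 0, 13, 14, 0]]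

set_option maxRecDepth 1000000 in
def tcJs_E6_4 : List (List (List ℕ)) := [[[], [2], [0], [2], [2], []], [[], [3, 1, 2, 0, 2], [1], [0], [3, 4, 2, 0, 2], []], [[], [0], [3, 3, 2, 0, 3], [1], [0], []], [[], [0], [3, 4, 2, 2, 1], [3, 4, 3, 1, 3], [1], []], [[], [1], [3, 1, 2, 2, 1], [3, 3, 1, 1, 2], [4], []], [[], [1], [3, 1, 2, 3, 1], [0], [3, 4, 1, 2, 2], []], [[], [3, 3, 1, 3, 3], [0], [1], [3, 4, 3, 4, 2], []], [[], [3, 1, 2, 6, 2], [1], [3, 3, 2, 5, 2], [3, 4, 2, 6, 2], []]]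

set_option maxRecDepth 1000000 in
def tcTab_E6_5 : List (List ℕ) := [[1, 0, 0, 0, 0, 0], [0, 1, 2, 1, 1, 0], [2, 2, 1, 3, 2, 0], [3, 5, 3, 2, 4, 0], [4, 6, 4, 4, 3, 0], [5, 3, 5, 5, 6, 0], [6, 4, 6, 7, 5, 0], [7, 7, 8, 6, 7, 0], [9, 8, 7, 8, 8, 0], [8, 9, 9, 9, 9, 0]]

set_option maxRecDepth 1000000 in
def tcRk_E6_5 : List (List ℕ) := [[0, 0, 0, 0, 0, 0], [0, 3, 0, 2, 1, 0], [4, 7, 0, 0, 5, 0], [10, 0, 6, 0, 0, 0], [14, 0, 13, 8, 0, 0], [16, 0, 15, 9, 12, 0], [19, 0, 18, 0, 11, 0], [22, 17, 0, 0, 20, 0], [0, 24, 0, 21, 23, 0], [0, 28, 25, 27, 26, 0]]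

set_option maxRecDepth 1000000 in
def tcJs_E6_5 : List (List (List ℕ)) := [[[0], [2], [2], [2], [2], []], [[1], [3, 1, 0, 0, 2], [0], [3, 3, 0, 0, 2], [3, 4, 0, 0, 2], []], [[3, 2, 0, 0, 3], [3, 1, 2, 1, 2], [1], [0], [3, 4, 2, 1, 2], []], [[3, 3, 0, 2, 1], [0], [3, 3, 2, 1, 3], [1], [0], []], [[3, 4, 0, 3, 1], [0], [3, 4, 2, 3, 1], [3, 4, 3, 2, 3], [1], []], [[3, 1, 0, 3, 1], [1], [3, 1, 2, 3, 1], [3, 3, 1, 2, 2], [4], []], [[3, 1, 0, 4, 1], [1], [3, 1, 2, 4, 1], [0], [3, 4, 1, 3, 2], []], [[3, 3, 0, 6, 1], [3, 3, 1, 4, 3], [0], [1], [3, 4, 3, 5, 2], []], [[0], [3, 1, 2, 7, 2], [1], [3, 3, 2, 6, 2], [3, 4, 2, 7, 2], []], [[1], [3, 1, 0, 8, 2], [3, 2, 0, 7, 2], [3, 3, 0, 8, 2], [3, 4, 0, 8, 2], []]]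

set_option maxRecDepth 1000000 in
def tcTab_E6_6 : List (List ℕ) := [[0, 0, 0, 0, 0, 1], [1, 1, 1, 1, 2, 0], [2, 2, 2, 3, 1, 2], [3, 4, 5, 2, 3, 3], [4, 3, 6, 4, 4, 4], [7, 6, 3, 5, 5, 5], [9, 5, 4, 8, 6, 6], [5, 9, 7, 7, 7, 7], [11, 8, 8, 6, 10, 8], [6, 7, 9, 11, 9, 9], [12, 10, 10, 10, 8, 13], [8, 11, 14, 9, 12, 11], [10, 12, 15, 12, 11, 16], [16, 13, 13, 13, 13, 10], [14, 14, 11, 14, 15, 14], [15, 15, 12, 17, 14, 18], [13, 16, 18, 16, 16, 12], [17, 19, 17, 15, 17, 20], [18, 18, 16, 20, 18, 15], [19, 17, 19, 19, 19, 21], [20, 21, 20, 18, 22, 17], [21, 20, 21, 21, 23, 19], [22, 23, 22, 22, 20, 22], [23, 22, 23, 24, 21, 23], [24, 24, 25, 23, 24, 24], [26, 25, 24, 25, 25, 25], [25, 26, 26, 26, 26, 26]]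

set_option maxRecDepth 1000000 in
def tcRk_E6_6 : List (List ℕ) := [[0, 0, 0, 0, 0, 0], [5, 3, 4, 2, 0, 0], [9, 7, 8, 0, 0, 1], [12, 0, 0, 0, 6, 13], [18, 0, 0, 10, 14, 19], [0, 17, 0, 11, 15, 21], [0, 16, 0, 0, 22, 25], [0, 30, 20, 28, 26, 31], [0, 27, 23, 0, 0, 36], [0, 29, 24, 35, 33, 37], [0, 39, 40, 32, 0, 0], [0, 38, 0, 34, 42, 45], [0, 49, 0, 46, 41, 0], [54, 50, 52, 48, 43, 0], [44, 58, 0, 47, 56, 59], [51, 62, 0, 0, 55, 0], [53, 63, 65, 61, 57, 0], [70, 0, 60, 0, 67, 0], [66, 73, 64, 72, 68, 0], [78, 0, 77, 69, 75, 0], [81, 80, 74, 71, 0, 0], [86, 79, 85, 83, 0, 0], [90, 87, 89, 82, 0, 76], [93, 88, 92, 0, 0, 84], [96, 94, 0, 0, 91, 97], [0, 99, 0, 95, 98, 101], [0, 104, 100, 103, 102, 105]]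

set_option maxRecDepth 1000000 in
def tcJs_E6_6 : List (List (List ℕ)) := [[[2], [2], [2], [2], [2], [0]], [[3, 0, 5, 0, 2], [3, 1, 5, 0, 2], [3, 2, 5, 0, 2], [3, 3, 5, 0, 2], [0], [1]], [[3, 4, 0, 1, 1], [3, 4, 1, 1, 1], [3, 4, 2, 1, 1], [0], [1], [3, 4, 5, 0, 3]], [[3, 3, 0, 2, 1], [0], [0], [1], [3, 4, 3, 1, 2], [3, 3, 5, 2, 1]], [[3, 1, 0, 3, 1], [1], [0], [3, 3, 1, 2, 2], [3, 4, 1, 3, 2], [3, 1, 5, 3, 1]], [[0], [4], [1], [3, 3, 2, 2, 2], [3, 4, 2, 3, 2], [3, 2, 5, 3, 1]], [[0], [3, 1, 2, 3, 2], [1], [0], [3, 4, 2, 4, 2], [3, 2, 5, 4, 1]], [[1], [4], [3, 2, 0, 3, 2], [3, 3, 0, 5, 2], [3, 4, 0, 5, 2], [3, 0, 5, 5, 1]], [[0], [3, 3, 1, 5, 3], [3, 3, 2, 4, 3], [1], [0], [3, 3, 5, 6, 1]], [[1], [3, 1, 0, 5, 2], [3, 2, 0, 4, 2], [4], [3, 4, 0, 6, 2], [3, 0, 5, 6, 1]], [[0], [3, 4, 1, 8,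 1], [3, 4, 2, 8, 1], [3, 4, 3, 6, 3], [1], [0]], [[1], [3, 3, 1, 7, 3], [0], [3, 3, 0, 6, 2], [4], [3, 0, 5, 8, 1]], [[1], [3, 1, 0, 10, 2], [0], [3, 4, 3, 9, 3], [3, 4, 0, 8, 2], [0]], [[4], [3, 1, 5, 10, 2], [3, 2, 5, 10, 2], [3, 3, 5, 10, 2], [3, 4, 5, 8, 2], [1]], [[3, 2, 0, 8, 3], [3, 1, 2, 11, 2], [1], [3, 3, 2, 9, 2], [4], [3, 2, 5, 11, 1]], [[3, 2, 0, 10, 3], [3, 1, 2, 12, 2], [1], [0], [3, 4, 2, 11, 2], [0]], [[3, 0, 5, 10, 2], [3, 1, 5, 12, 2], [4], [3, 3, 5, 12, 2], [3, 4, 5, 11, 2], [1]], [[3, 3, 0, 15, 1], [0], [3, 3, 2, 12, 3], [1], [3, 4, 3, 14, 2], [0]], [[3, 2, 0, 13, 3], [3, 1, 5, 15, 2], [3, 2, 5, 12, 2], [4], [3, 4, 5, 14, 2], [1]], [[3, 1, 0, 17, 1], [1], [3, 1, 2, 17, 1], [3, 3, 1, 15, 2], [3, 4, 1, 17, 2], [0]], [[3, 0, 5, 17, 2], [4], [3, 3, 2, 16, 3], [3, 3, 5, 15,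 2], [0], [1]], [[3, 0, 5, 19, 2], [3, 1, 5, 17, 2], [3, 2, 5, 19, 2], [3, 3, 1, 18, 2], [0], [1]], [[3, 4, 0, 20, 1], [3, 4, 1, 20, 1], [3, 4, 2, 20, 1], [3, 4, 3, 18, 3], [1], [3, 4, 5, 17, 3]], [[3, 4, 0, 21, 1], [4], [3, 4, 2, 21, 1], [0], [1], [3, 4, 5, 19, 3]], [[3, 3, 0, 23, 1], [3, 3, 1, 22, 3], [0], [1], [3, 4, 3, 21, 2], [3, 3, 5, 23, 1]], [[0], [3, 1, 2, 24, 2], [1], [3, 3, 2, 23, 2], [3, 4, 2, 24, 2], [3, 2, 5, 24, 1]], [[1], [3, 1, 0, 25, 2], [3, 2, 0, 24, 2], [3, 3, 0, 25, 2], [3, 4, 0, 25, 2], [3, 0, 5, 25, 1]]]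

end Cfsg.Agent.helper5.Chev
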