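import Mathlib
import Cfsg.Agent.Lib_helper5_TC2
import Cfsg.Agent.Lib_helper5_ChevPCDE7Defs

set_option autoImplicit false

/-! Coset table certificates for the Coxeter group of type E7 (generated, helper5). -/

namespace Cfsg.Agent.helper5.Chev

open Cfsg.Lie Cfsg.Agent.helper5.TC

def tcM_E7 : List (List ℕ) := [[1, 2, 3, 2, 2, 2, 2], [2, 1, 2, 3, 2, 2, 2], [3, 2, 1, 3, 2, 2, 2], [2, 3, 3, 1, 3, 2, 2], [2, 2, 2, 3, 1, 3, 2], [2, 2, 2, 2, 3, 1, 3], [2, 2, 2, 2, 2, 3, 1]]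

set_option maxRecDepth 1000000 in
def tcTab_E7_1 : List (List ℕ) := [[0, 0, 0, 0, 1, 0, 0], [0, 0, 0, 0, 0, 0, 0]]

set_option maxRecDepth 1000000 in
def tcRk_E7_1 : List (List ℕ) := [[0, 0, 0, 0, 0, 0, 0], [0, 0, 0, 0, 0, 0, 0]]

set_option maxRecDepth 1000000 in
def tcJs_E7_1 : List (List (List ℕ)) := [[[], [], [], [], [0], [], []], [[], [], [], [], [1], [], []]]

set_option maxRecDepth 1000000 in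
def tcTab_E7_2 : List (List ℕ) := [[0, 0, 0, 1, 0, 0, 0], [0, 0, 0, 0, 2, 0, 0], [0, 0, 0, 2, 1, 0, 0]]

set_option maxRecDepth 1000000 in
def tcRk_E7_2 : List (List ℕ) := [[0, 0, 0, 0, 0, 0, 0], [0, 0, 0, 0, 0, 0, 0], [0, 0, 0, 1, 0, 0, 0]]

set_option maxRecDepth 1000000 in
def tcJs_E7_2 : List (List (List ℕ)) := [[[], [], [], [0], [2], [], []], [[], [], [], [1], [0], [], []], [[], [], [], [3, 4, 3, 0, 3], [1], [], []]]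

set_option maxRecDepth 1000000 in
def tcTab_E7_3 : List (List ℕ) := [[0, 1, 0, 0, 0, 0, 0], [0, 0, 0, 2, 1, 0, 0], [0, 2, 0, 1, 3, 0, 0], [0, 3, 0, 3, 2, 0, 0]]

set_option maxRecDepth 1000000 in
def tcRk_E7_3 : List (List ℕ) := [[0, 0, 0, 0, 0, 0, 0], [0, 0, 0, 0, 1, 0, 0], [0, 2, 0, 0, 0, 0, 0], [0, 4, 0, 3, 0, 0, 0]]

set_option maxRecDepth 1000000 in
def tcJs_E7_3 : List (List (List ℕ)) := [[[], [0], [], [2], [2], [], []], [[], [1], [], [0], [3, 4, 1, 0, 2], [], []], [[], [3, 3, 1, 0, 3], [], [1], [0], [], []], [[], [3, 4, 1, 2, 1], [], [3, 4, 3, 1, 3], [1], [], []]]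

set_option maxRecDepth 1000000 in
def tcTab_E7_4 : List (List ℕ) := [[0, 0, 1, 0, 0, 0, 0], [0, 1, 0, 2, 1, 0, 0], [0, 4, 2, 1, 3, 0, 0], [0, 5, 3, 3, 2, 0, 0], [0, 2, 4, 4, 5, 0, 0], [0, 3, 5, 6, 4, 0, 0], [0, 6, 7, 5, 6, 0, 0], [0, 7, 6, 7, 7, 0, 0]]

set_option maxRecDepth 1000000 in
def tcRk_E7_4 : List (List ℕ) := [[0, 0, 0, 0, 0, 0, 0], [0, 3, 0, 0, 1, 0, 0], [0, 0, 2, 0, 0, 0, 0], [0, 0, 8, 4, 0, 0, 0], [0, 0, 9, 5, 7, 0, 0], [0, 0, 11, 0, 6, 0, 0], [0, 10, 0, 0, 12, 0, 0], [0, 15, 0, 13, 14, 0, 0]]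

set_option maxRecDepth 1000000 in
def tcJs_E7_4 : List (List (List ℕ)) := [[[], [2], [0], [2], [2], [], []], [[], [3, 1, 2, 0, 2], [1], [0], [3, 4, 2, 0, 2], [], []], [[], [0], [3, 3, 2, 0, 3], [1], [0], [], []], [[], [0], [3, 4, 2, 2, 1], [3, 4, 3, 1, 3], [1], [], []], [[], [1], [3, 1, 2, 2, 1], [3, 3, 1, 1, 2], [4], [], []], [[], [1], [3, 1, 2, 3, 1], [0], [3, 4, 1, 2, 2], [], []], [[], [3, 3, 1, 3, 3], [0], [1], [3, 4, 3, 4, 2], [], []], [[], [3, 1, 2, 6, 2], [1], [3, 3, 2, 5, 2], [3, 4, 2, 6, 2], [], []]]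

set_option maxRecDepth 1000000 in
def tcTab_E7_5 : List (List ℕ) := [[1, 0, 0, 0, 0, 0, 0], [0, 1, 2, 1, 1, 0, 0], [2, 2, 1, 3, 2, 0, 0], [3, 5, 3, 2, 4, 0, 0], [4, 6, 4, 4, 3, 0, 0], [5, 3, 5, 5, 6, 0, 0], [6, 4, 6, 7, 5, 0, 0], [7, 7, 8, 6, 7, 0, 0], [9, 8, 7, 8, 8, 0, 0], [8, 9, 9, 9, 9, 0, 0]]

set_option maxRecDepth 1000000 in
def tcRk_E7_5 : List (List ℕ) := [[0, 0, 0, 0, 0, 0, 0], [0, 3, 0, 2, 1, 0, 0], [4, 7, 0, 0, 5, 0, 0], [10, 0, 6, 0, 0, 0, 0], [14, 0, 13, 8, 0, 0, 0], [16, 0, 15, 9, 12, 0, 0], [19, 0, 18, 0, 11, 0, 0], [22, 17, 0, 0, 20, 0, 0], [0, 24, 0, 21, 23, 0, 0], [0, 28, 25, 27, 26, 0, 0]]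

set_option maxRecDepth 1000000 in
def tcJs_E7_5 : List (List (List ℕ)) := [[[0], [2], [2], [2], [2], [], []], [[1], [3, 1, 0, 0, 2], [0], [3, 3, 0, 0, 2], [3, 4, 0, 0, 2], [], []], [[3, 2, 0, 0, 3], [3, 1, 2, 1, 2], [1], [0], [3, 4, 2, 1, 2], [], []], [[3, 3, 0, 2, 1], [0], [3, 3, 2, 1, 3], [1], [0], [], []], [[3, 4, 0, 3, 1], [0], [3, 4, 2, 3, 1], [3, 4, 3, 2, 3], [1], [], []], [[3, 1, 0, 3, 1], [1], [3, 1, 2, 3, 1], [3, 3, 1, 2, 2], [4], [], []], [[3, 1, 0, 4, 1], [1], [3, 1, 2, 4, 1], [0], [3, 4, 1, 3, 2], [], []], [[3, 3, 0, 6, 1], [3, 3, 1, 4, 3], [0], [1], [3, 4, 3, 5, 2], [], []], [[0], [3, 1, 2, 7, 2], [1], [3, 3, 2, 6, 2], [3, 4, 2, 7, 2], [], []], [[1], [3, 1, 0, 8, 2], [3, 2, 0, 7, 2], [3, 3, 0, 8, 2], [3, 4, 0, 8, 2], [], []]]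

set_option maxRecDepth 1000000 in
def tcTab_E7_6 : List (List ℕ) := [[0, 0, 0, 0, 0, 1, 0], [1, 1, 1, 1, 2, 0, 0], [2, 2, 2, 3, 1, 2, 0], [3, 4, 5, 2, 3, 3, 0], [4, 3, 6, 4, 4, 4, 0], [7, 6, 3, 5, 5, 5, 0], [9, 5, 4, 8, 6, 6, 0], [5, 9, 7, 7, 7, 7, 0], [11, 8, 8, 6, 10, 8, 0], [6, 7, 9, 11, 9, 9, 0], [12, 10, 10, 10, 8, 13, 0], [8, 11, 14, 9, 12, 11, 0], [10, 12, 15, 12, 11, 16, 0], [16, 13, 13, 13, 13, 10, 0], [14, 14, 11, 14, 15, 14, 0], [15, 15, 12, 17, 14, 18, 0], [13, 16, 18, 16, 16, 12, 0], [17, 19, 17, 15, 17, 20, 0], [18, 18, 16, 20, 18, 15, 0], [19, 17, 19, 19, 19, 21, 0], [20, 21, 20, 18, 22, 17, 0], [21, 20, 21, 21, 23, 19, 0], [22, 23, 22, 22, 20, 22, 0], [23, 22, 23, 24, 21, 23, 0], [24, 24, 25, 23, 24, 24, 0], [26, 25, 24, 25, 25, 25, 0], [25, 26, 26, 26, 26, 26, 0]]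

set_option maxRecDepth 1000000 in
def tcRk_E7_6 : List (List ℕ) := [[0, 0, 0, 0, 0, 0, 0], [5, 3, 4, 2, 0, 0, 0], [9, 7, 8, 0, 0, 1, 0], [12, 0, 0, 0, 6, 13, 0], [18, 0, 0, 10, 14, 19, 0], [0, 17, 0, 11, 15, 21, 0], [0, 16, 0, 0, 22, 25, 0], [0, 30, 20, 28, 26, 31, 0], [0, 27, 23, 0, 0, 36, 0], [0, 29, 24, 35, 33, 37, 0], [0, 39, 40, 32, 0, 0, 0], [0, 38, 0, 34, 42, 45, 0], [0, 49, 0, 46, 41, 0, 0], [54, 50, 52, 48, 43, 0, 0], [44, 58, 0, 47, 56, 59, 0], [51, 62, 0, 0, 55, 0, 0], [53, 63, 65, 61, 57, 0, 0], [70, 0, 60, 0, 67, 0, 0], [66, 73, 64, 72, 68, 0, 0], [78, 0, 77, 69, 75, 0, 0], [81, 80, 74, 71, 0, 0, 0], [86, 79, 85, 83, 0, 0, 0], [90, 87, 89, 82, 0, 76, 0], [93, 88, 92, 0, 0, 84, 0], [96, 94, 0, 0, 91, 97, 0], [0, 99, 0, 95, 98, 101, 0], [0, 104, 100, 103, 102, 105, 0]]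

set_option maxRecDepth 1000000 in
def tcJs_E7_6 : List (List (List ℕ)) := [[[2], [2], [2], [2], [2], [0], []], [[3, 0, 5, 0, 2], [3, 1, 5, 0, 2], [3, 2, 5, 0, 2], [3, 3, 5, 0, 2], [0], [1], []], [[3, 4, 0, 1, 1], [3, 4, 1, 1, 1], [3, 4, 2, 1, 1], [0], [1], [3, 4, 5, 0, 3], []], [[3, 3, 0, 2, 1], [0], [0], [1], [3, 4, 3, 1, 2], [3, 3, 5, 2, 1], []], [[3, 1, 0, 3, 1], [1], [0], [3, 3, 1, 2, 2], [3, 4, 1, 3, 2], [3, 1, 5, 3, 1], []], [[0], [4], [1], [3, 3, 2, 2, 2], [3, 4, 2, 3, 2], [3, 2, 5, 3, 1], []], [[0], [3, 1, 2, 3, 2], [1], [0], [3, 4, 2, 4, 2], [3, 2, 5, 4, 1], []], [[1], [4], [3, 2, 0, 3, 2], [3, 3, 0, 5, 2], [3, 4, 0, 5, 2], [3, 0, 5, 5, 1], []], [[0], [3, 3, 1, 5, 3], [3, 3, 2, 4, 3], [1], [0], [3, 3, 5, 6, 1], []], [[1], [3, 1, 0, 5, 2], [3, 2, 0, 4, 2], [4], [3, 4, 0,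 6, 2], [3, 0, 5, 6, 1], []], [[0], [3, 4, 1, 8, 1], [3, 4, 2, 8, 1], [3, 4, 3, 6, 3], [1], [0], []], [[1], [3, 3, 1, 7, 3], [0], [3, 3, 0, 6, 2], [4], [3, 0, 5, 8, 1], []], [[1], [3, 1, 0, 10, 2], [0], [3, 4, 3, 9, 3], [3, 4, 0, 8, 2], [0], []], [[4], [3, 1, 5, 10, 2], [3, 2, 5, 10, 2], [3, 3, 5, 10, 2], [3, 4, 5, 8, 2], [1], []], [[3, 2, 0, 8, 3], [3, 1, 2, 11, 2], [1], [3, 3, 2, 9, 2], [4], [3, 2, 5, 11, 1], []], [[3, 2, 0, 10, 3], [3, 1, 2, 12, 2], [1], [0], [3, 4, 2, 11, 2], [0], []], [[3, 0, 5, 10, 2], [3, 1, 5, 12, 2], [4], [3, 3, 5, 12, 2], [3, 4, 5, 11, 2], [1], []], [[3, 3, 0, 15, 1], [0], [3, 3, 2, 12, 3], [1], [3, 4, 3, 14, 2], [0], []], [[3, 2, 0, 13, 3], [3, 1, 5, 15, 2], [3, 2, 5, 12, 2], [4], [3, 4, 5, 14, 2], [1], []], [[3, 1, 0, 17, 1], [1], [3, 1, 2, 17, 1], [3,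 3, 1, 15, 2], [3, 4, 1, 17, 2], [0], []], [[3, 0, 5, 17, 2], [4], [3, 3, 2, 16, 3], [3, 3, 5, 15, 2], [0], [1], []], [[3, 0, 5, 19, 2], [3, 1, 5, 17, 2], [3, 2, 5, 19, 2], [3, 3, 1, 18, 2], [0], [1], []], [[3, 4, 0, 20, 1], [3, 4, 1, 20, 1], [3, 4, 2, 20, 1], [3, 4, 3, 18, 3], [1], [3, 4, 5, 17, 3], []], [[3, 4, 0, 21, 1], [4], [3, 4, 2, 21, 1], [0], [1], [3, 4, 5, 19, 3], []], [[3, 3, 0, 23, 1], [3, 3, 1, 22, 3], [0], [1], [3, 4, 3, 21, 2], [3, 3, 5, 23, 1], []], [[0], [3, 1, 2, 24, 2], [1], [3, 3, 2, 23, 2], [3, 4, 2, 24, 2], [3, 2, 5, 24, 1], []], [[1], [3, 1, 0, 25, 2], [3, 2, 0, 24, 2], [3, 3, 0, 25, 2], [3, 4, 0, 25, 2], [3, 0, 5, 25, 1], []]]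

set_option maxRecDepth 1000000 in
def tcTab_E7_7 : List (List ℕ) := [[0, 0, 0, 0, 0, 0, 1], [1, 1, 1, 1, 1, 2, 0], [2, 2, 2, 2, 3, 1, 2], [3, 3, 3, 4, 2, 3, 3], [4, 5, 6, 3, 4, 4, 4], [5, 4, 7, 5, 5, 5, 5], [8, 7, 4, 6, 6, 6, 6], [10, 6, 5, 9, 7, 7, 7], [6, 10, 8, 8, 8, 8, 8], [12, 9, 9, 7, 11, 9, 9], [7, 8, 10, 12, 10, 10, 10], [13, 11, 11, 11, 9, 14, 11], [9, 12, 15, 10, 13, 12, 12], [11, 13, 16, 13, 12, 17, 13], [17, 14, 14, 14, 14, 11, 18], [15, 15, 12, 15, 16, 15, 15], [16, 16, 13, 19, 15, 20, 16], [14, 17, 20, 17, 17, 13, 21], [21, 18, 18, 18, 18, 18, 14], [19, 22, 19, 16, 19, 23, 19], [20, 20, 17, 23, 20, 16, 24], [18, 21, 24, 21, 21, 21, 17], [22, 19, 22, 22, 22, 25, 22], [23, 25, 23, 20, 26, 19, 27], [24, 24, 21, 27, 24, 24, 20], [25, 23, 25, 25, 28, 22, 29], [26, 28, 26,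 26, 23, 26, 30], [27, 29, 27, 24, 30, 27, 23], [28, 26, 28, 31, 25, 28, 32], [29, 27, 29, 29, 32, 29, 25], [30, 32, 30, 30, 27, 33, 26], [31, 31, 34, 28, 31, 31, 35], [32, 30, 32, 35, 29, 36, 28], [33, 36, 33, 33, 33, 30, 33], [37, 34, 31, 34, 34, 34, 38], [35, 35, 38, 32, 35, 39, 31], [36, 33, 36, 39, 36, 32, 36], [34, 37, 37, 37, 37, 37, 40], [40, 38, 35, 38, 38, 41, 34], [39, 39, 41, 36, 42, 35, 39], [38, 40, 40, 40, 40, 43, 37], [43, 41, 39, 41, 44, 38, 41], [42, 42, 44, 42, 39, 42, 42], [41, 43, 43, 43, 45, 40, 43], [45, 44, 42, 46, 41, 44, 44], [44, 45, 45, 47, 43, 45, 45], [47, 48, 46, 44, 46, 46, 46], [46, 49, 50, 45, 47, 47, 47], [49, 46, 48, 48, 48, 48, 48], [48, 47, 51, 49, 49, 49, 49], [50, 51, 47, 50, 50, 50, 50], [51, 50, 49, 52, 51, 51, 51], [52, 52, 52, 51, 53, 52,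 52], [53, 53, 53, 53, 52, 54, 53], [54, 54, 54, 54, 54, 53, 55], [55, 55, 55, 55, 55, 55, 54]]

set_option maxRecDepth 1000000 in
def tcRk_E7_7 : List (List ℕ) := [[0, 0, 0, 0, 0, 0, 0], [5, 3, 4, 2, 1, 0, 0], [11, 9, 10, 8, 0, 0, 6], [15, 13, 14, 0, 0, 7, 16], [19, 0, 0, 0, 12, 20, 21], [26, 0, 0, 17, 22, 27, 28], [0, 25, 0, 18, 23, 30, 31], [0, 24, 0, 0, 32, 35, 36], [0, 41, 29, 39, 37, 42, 43], [0, 38, 33, 0, 0, 48, 49], [0, 40, 34, 47, 45, 50, 51], [0, 53, 54, 44, 0, 0, 58], [0, 52, 0, 46, 56, 60, 61], [0, 65, 0, 62, 55, 0, 71], [70, 66, 68, 64, 57, 0, 0], [59, 76, 0, 63, 74, 77, 78], [67, 81, 0, 0, 73, 0, 85], [69, 82, 84, 80, 75, 0, 0], [93, 89, 91, 88, 87, 72, 0], [97, 0, 79, 0, 94, 0, 100], [90, 101, 83, 99, 95, 0, 0], [92, 106, 108, 105, 103, 86, 0], [113, 0, 112, 96, 110,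 0, 116], [117, 115, 104, 98, 0, 0, 0], [109, 124, 107, 123, 120, 102, 0], [128, 114, 127, 121, 0, 0, 0], [133, 130, 132, 119, 0, 111, 0], [138, 137, 125, 122, 135, 118, 0], [143, 131, 142, 0, 0, 126, 0], [147, 136, 146, 140, 145, 129, 0], [152, 150, 151, 139, 134, 0, 0], [156, 148, 0, 0, 141, 157, 0], [161, 149, 160, 159, 144, 0, 0], [170, 168, 169, 166, 154, 0, 153], [0, 172, 0, 155, 171, 174, 0], [177, 165, 176, 158, 163, 0, 0], [183, 167, 182, 181, 164, 0, 162], [0, 188, 173, 187, 185, 190, 0], [192, 189, 175, 179, 186, 0, 0], [198, 184, 197, 180, 0, 0, 178], [191, 203, 195, 202, 201, 0, 0], [208, 206, 196, 200, 0, 0, 193], [212, 209, 210, 199, 0, 194, 213], [207, 217, 214, 216, 0, 0, 204], [220, 219, 211, 0, 0, 205, 222], [221, 226, 224, 0, 0, 215, 227], [229, 0, 223, 0, 218,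 231, 232], [230, 0, 0, 0, 225, 235, 236], [239, 0, 238, 228, 237, 241, 242], [240, 0, 0, 233, 244, 248, 249], [243, 247, 0, 234, 245, 250, 251], [252, 246, 0, 0, 253, 255, 256], [259, 257, 254, 0, 0, 260, 261], [264, 262, 263, 258, 0, 0, 266], [270, 268, 269, 267, 265, 0, 0], [276, 274, 275, 273, 272, 271, 0]]

set_option maxRecDepth 1000000 in
def tcJs_E7_7 : List (List (List ℕ)) := [[[2], [2], [2], [2], [2], [2], [0]], [[3, 0, 6, 0, 2], [3, 1, 6, 0, 2], [3, 2, 6, 0, 2], [3, 3, 6, 0, 2], [3, 4, 6, 0, 2], [0], [1]], [[3, 0, 5, 1, 2], [3, 1, 5, 1, 2], [3, 2, 5, 1, 2], [3, 3, 5, 1, 2], [0], [1], [3, 5, 6, 0, 3]], [[3, 4, 0, 2, 1], [3, 4, 1, 2, 1], [3, 4, 2, 2, 1], [0], [1], [3, 4, 5, 1, 3], [3, 4, 6, 2, 1]], [[3, 3, 0, 3, 1], [0], [0], [1], [3, 4, 3, 2, 2], [3, 3, 5, 3, 1], [3, 3,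 6, 3, 1]], [[3, 1, 0, 4, 1], [1], [0], [3, 3, 1, 3, 2], [3, 4, 1, 4, 2], [3, 1, 5, 4, 1], [3, 1, 6, 4, 1]], [[0], [4], [1], [3, 3, 2, 3, 2], [3, 4, 2, 4, 2], [3, 2, 5, 4, 1], [3, 2, 6, 4, 1]], [[0], [3, 1, 2, 4, 2], [1], [0], [3, 4, 2, 5, 2], [3, 2, 5, 5, 1], [3, 2, 6, 5, 1]], [[1], [4], [3, 2, 0, 4, 2], [3, 3, 0, 6, 2], [3, 4, 0, 6, 2], [3, 0, 5, 6, 1], [3, 0, 6, 6, 1]], [[0], [3, 3, 1, 6, 3], [3, 3, 2, 5, 3], [1], [0], [3, 3, 5, 7, 1], [3, 3, 6, 7, 1]], [[1], [3, 1, 0, 6, 2], [3, 2, 0, 5, 2], [4], [3, 4, 0, 7, 2], [3, 0, 5, 7, 1], [3, 0, 6, 7, 1]], [[0], [3, 4, 1, 9, 1], [3, 4, 2, 9, 1], [3, 4, 3, 7, 3], [1], [0], [3, 4, 6, 9, 1]], [[1], [3, 3, 1, 8, 3], [0], [3, 3, 0, 7, 2], [4], [3, 0, 5, 9, 1], [3, 0, 6, 9, 1]], [[1], [3, 1, 0, 11, 2], [0], [3, 4, 3, 10, 3], [3, 4, 0, 9, 2],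 [0], [3, 0, 6, 11, 1]], [[4], [3, 1, 5, 11, 2], [3, 2, 5, 11, 2], [3, 3, 5, 11, 2], [3, 4, 5, 9, 2], [1], [0]], [[3, 2, 0, 9, 3], [3, 1, 2, 12, 2], [1], [3, 3, 2, 10, 2], [4], [3, 2, 5, 12, 1], [3, 2, 6, 12, 1]], [[3, 2, 0, 11, 3], [3, 1, 2, 13, 2], [1], [0], [3, 4, 2, 12, 2], [0], [3, 2, 6, 13, 1]], [[3, 0, 5, 11, 2], [3, 1, 5, 13, 2], [4], [3, 3, 5, 13, 2], [3, 4, 5, 12, 2], [1], [0]], [[4], [3, 1, 6, 14, 2], [3, 2, 6, 14, 2], [3, 3, 6, 14, 2], [3, 4, 6, 14, 2], [3, 5, 6, 11, 2], [1]], [[3, 3, 0, 16, 1], [0], [3, 3, 2, 13, 3], [1], [3, 4, 3, 15, 2], [0], [3, 3, 6, 16, 1]], [[3, 2, 0, 14, 3], [3, 1, 5, 16, 2], [3, 2, 5, 13, 2], [4], [3, 4, 5, 15, 2], [1], [0]], [[3, 0, 6, 14, 2], [3, 1, 6, 17, 2], [4], [3, 3, 6, 17, 2], [3, 4, 6, 17, 2], [3, 5, 6, 13, 2], [1]], [[3, 1, 0, 19, 1],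 [1], [3, 1, 2, 19, 1], [3, 3, 1, 16, 2], [3, 4, 1, 19, 2], [0], [3, 1, 6, 19, 1]], [[3, 0, 5, 19, 2], [4], [3, 3, 2, 17, 3], [3, 3, 5, 16, 2], [0], [1], [0]], [[3, 2, 0, 18, 3], [3, 1, 6, 20, 2], [3, 2, 6, 17, 2], [4], [3, 4, 6, 20, 2], [3, 5, 6, 16, 2], [1]], [[3, 0, 5, 22, 2], [3, 1, 5, 19, 2], [3, 2, 5, 22, 2], [3, 3, 1, 20, 2], [0], [1], [0]], [[3, 4, 0, 23, 1], [3, 4, 1, 23, 1], [3, 4, 2, 23, 1], [3, 4, 3, 20, 3], [1], [3, 4, 5, 19, 3], [0]], [[3, 0, 6, 23, 2], [4], [3, 3, 2, 21, 3], [3, 3, 6, 20, 2], [4], [3, 5, 6, 19, 2], [1]], [[3, 4, 0, 25, 1], [4], [3, 4, 2, 25, 1], [0], [1], [3, 4, 5, 22, 3], [0]], [[3, 0, 6, 25, 2], [3, 1, 6, 23, 2], [3, 2, 6, 25, 2], [3, 3, 1, 24, 2], [4], [3, 5, 6, 22, 2], [1]], [[3, 0, 6, 26, 2], [4], [3, 2, 6, 26, 2], [3, 4, 3, 24, 3], [3, 4, 6, 23,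 2], [0], [1]], [[3, 3, 0, 28, 1], [3, 3, 1, 26, 3], [0], [1], [3, 4, 3, 25, 2], [3, 3, 5, 28, 1], [0]], [[3, 0, 6, 28, 2], [3, 1, 6, 26, 2], [3, 2, 6, 28, 2], [4], [3, 4, 6, 25, 2], [0], [1]], [[3, 0, 5, 30, 2], [4], [3, 2, 5, 30, 2], [3, 3, 5, 30, 2], [3, 4, 5, 27, 2], [1], [3, 5, 6, 26, 3]], [[0], [3, 1, 2, 31, 2], [1], [3, 3, 2, 28, 2], [3, 4, 2, 31, 2], [3, 2, 5, 31, 1], [0]], [[3, 0, 6, 31, 2], [3, 3, 1, 30, 3], [4], [3, 3, 6, 28, 2], [3, 4, 3, 29, 2], [0], [1]], [[3, 0, 5, 32, 2], [3, 1, 5, 30, 2], [3, 2, 5, 32, 2], [4], [3, 4, 5, 29, 2], [1], [3, 5, 6, 28, 3]], [[1], [3, 1, 0, 34, 2], [3, 2, 0, 31, 2], [3, 3, 0, 34, 2], [3, 4, 0, 34, 2], [3, 0, 5, 34, 1], [0]], [[4], [3, 1, 6, 34, 2], [3, 2, 6, 31, 2], [3, 3, 2, 32, 2], [3, 4, 6, 34, 2], [0], [1]], [[3, 0, 5, 35, 2], [3, 3,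 1, 33, 3], [4], [3, 3, 5, 32, 2], [0], [1], [3, 5, 6, 31, 3]], [[3, 0, 6, 34, 2], [3, 1, 6, 37, 2], [3, 2, 0, 35, 2], [3, 3, 6, 37, 2], [3, 4, 6, 37, 2], [0], [1]], [[4], [3, 1, 5, 38, 2], [3, 2, 5, 35, 2], [3, 3, 2, 36, 2], [0], [1], [3, 5, 6, 34, 3]], [[3, 4, 0, 39, 1], [3, 4, 1, 39, 1], [3, 4, 2, 39, 1], [3, 4, 3, 36, 3], [1], [3, 4, 5, 35, 3], [3, 4, 6, 39, 1]], [[3, 0, 5, 38, 2], [3, 1, 5, 40, 2], [3, 2, 0, 39, 2], [3, 3, 5, 40, 2], [0], [1], [3, 5, 6, 37, 3]], [[3, 4, 0, 41, 1], [3, 4, 1, 41, 1], [4], [0], [1], [3, 4, 5, 38, 3], [3, 4, 6, 41, 1]], [[4], [3, 4, 1, 43, 1], [3, 2, 0, 42, 2], [0], [1], [3, 4, 5, 40, 3], [3, 4, 6, 43, 1]], [[3, 3, 0, 44, 1], [0], [3, 3, 2, 42, 3], [1], [3, 4, 3, 41, 2], [3, 3, 5, 44, 1], [3, 3, 6, 44, 1]], [[4], [0], [0], [1], [3, 4, 3, 43, 2],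 [3, 3, 5, 45, 1], [3, 3, 6, 45, 1]], [[3, 1, 0, 46, 1], [1], [3, 1, 2, 46, 1], [3, 3, 1, 44, 2], [3, 4, 1, 46, 2], [3, 1, 5, 46, 1], [3, 1, 6, 46, 1]], [[4], [1], [0], [3, 3, 1, 45, 2], [3, 4, 1, 47, 2], [3, 1, 5, 47, 1], [3, 1, 6, 47, 1]], [[3, 2, 0, 46, 3], [4], [1], [3, 3, 2, 45, 2], [3, 4, 2, 47, 2], [3, 2, 5, 47, 1], [3, 2, 6, 47, 1]], [[3, 2, 0, 48, 3], [3, 1, 2, 47, 2], [1], [0], [3, 4, 2, 49, 2], [3, 2, 5, 49, 1], [3, 2, 6, 49, 1]], [[3, 3, 0, 51, 1], [3, 3, 1, 50, 3], [3, 3, 2, 49, 3], [1], [0], [3, 3, 5, 51, 1], [3, 3, 6, 51, 1]], [[3, 4, 0, 52, 1], [3, 4, 1, 52, 1], [3, 4, 2, 52, 1], [3, 4, 3, 51, 3], [1], [0], [3, 4, 6, 52, 1]], [[3, 0, 5, 53, 2], [3, 1, 5, 53, 2], [3, 2, 5, 53, 2], [3, 3, 5, 53, 2], [3, 4, 5, 52, 2], [1], [0]], [[3, 0, 6, 54, 2], [3, 1, 6, 54, 2], [3,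 2, 6, 54, 2], [3, 3, 6, 54, 2], [3, 4, 6, 54, 2], [3, 5, 6, 53, 2], [1]]]

end Cfsg.Agent.helper5.Chev
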