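import Mathlib
import Cfsg.Agent.Lib_helper5_TCDE7
import Cfsg.Agent.Lib_helper5_ChevPCDE7
import Cfsg.Agent.Lib_helper5_CoxCard

set_option autoImplicit false

/-! The order of the Coxeter group of type E7 (generated, helper5). -/

namespace Cfsg.Agent.helper5.Chev

open Cfsg.Lie Cfsg.Agent.helper5.TC

theorem coxMt_E7 : MtOK CoxeterMatrix.E₇ tcM_E7 := ⟨by decide, by decide, by intro x y; fin_cases x <;> fin_cases y <;> rfl⟩

set_option maxRecDepth 1000000 in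
set_option maxHeartbeats 0 in
theorem coxRel_E7 : relChk pcT_E7 126 7 tcM_E7 = true := by decide +kernel

set_option maxRecDepth 1000000 in
theorem pcLen_E7_1 : pcds_E7_1.length = 2 := by decide +kernel

set_option maxRecDepth 1000000 in
theorem pcLen_E7_2 : pcds_E7_2.length = 3 := by decide +kernel

set_option maxRecDepth 1000000 in
theorem pcLen_E7_3 : pcds_E7_3.length = 4 := by decide +kernel

set_option maxRecDepth 1000000 in
theorem pcLen_E7_4 : pcds_E7_4.length = 8 := by decide +kernel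

set_option maxRecDepth 1000000 in
theorem pcLen_E7_5 : pcds_E7_5.length = 10 := by decide +kernel

set_option maxRecDepth 1000000 in
theorem pcLen_E7_6 : pcds_E7_6.length = 27 := by decide +kernel

set_option maxRecDepth 1000000 in
theorem pcLen_E7_7 : pcds_E7_7.length = 56 := by decide +kernel

theorem pcCard_E7_0 : Fintype.card pcI_E7_0 = 1 := Fintype.card_unit

theorem pcCard_E7_1 : Fintype.card pcI_E7_1 = 2 * 1 := by
  unfold pcI_E7_1
  rw [Fintype.card_prod, Fintype.card_fin, pcLen_E7_1, pcCard_E7_0]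

theorem pcCard_E7_2 : Fintype.card pcI_E7_2 = 3 * (2 * 1) := by
  unfold pcI_E7_2
  rw [Fintype.card_prod, Fintype.card_fin, pcLen_E7_2, pcCard_E7_1]

theorem pcCard_E7_3 : Fintype.card pcI_E7_3 = 4 * (3 * (2 * 1)) := by
  unfold pcI_E7_3
  rw [Fintype.card_prod, Fintype.card_fin, pcLen_E7_3, pcCard_E7_2]

theorem pcCard_E7_4 : Fintype.card pcI_E7_4 = 8 * (4 * (3 * (2 * 1))) := by
  unfold pcI_E7_4
  rw [Fintype.card_prod, Fintype.card_fin, pcLen_E7_4, pcCard_E7_3]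

theorem pcCard_E7_5 : Fintype.card pcI_E7_5 = 10 * (8 * (4 * (3 * (2 * 1)))) := by
  unfold pcI_E7_5
  rw [Fintype.card_prod, Fintype.card_fin, pcLen_E7_5, pcCard_E7_4]

theorem pcCard_E7_6 : Fintype.card pcI_E7_6 = 27 * (10 * (8 * (4 * (3 * (2 * 1))))) := by
  unfold pcI_E7_6
  rw [Fintype.card_prod, Fintype.card_fin, pcLen_E7_6, pcCard_E7_5]

theorem pcCard_E7_7 : Fintype.card pcI_E7_7 = 56 * (27 * (10 * (8 * (4 * (3 * (2 * 1)))))) := by
  unfold pcI_E7_7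
  rw [Fintype.card_prod, Fintype.card_fin, pcLen_E7_7, pcCard_E7_6]

set_option maxRecDepth 1000000 in
set_option maxHeartbeats 0 in
theorem coxUpper_E7 : Finite (CoxeterMatrix.E₇).Group ∧ Nat.card (CoxeterMatrix.E₇).Group ≤ 56 * (27 * (10 * (8 * (4 * (3 * (2 * 1)))))) := by
  have h0 := tc_base CoxeterMatrix.E₇
  have b0 : Nat.card (Subgroup.closure (gset (sgen CoxeterMatrix.E₇) [])) ≤ 1 := h0.2.le
  have h1 := tc_step CoxeterMatrix.E₇ tcM_E7 coxMt_E7 tcTab_E7_1 tcRk_E7_1 2 pcJ_E7_1 []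
    pcds_E7_1 tcJs_E7_1 (by decide +kernel) (by norm_num) tcRows_E7_1 h0.1
  have b1 := h1.2.trans (Nat.mul_le_mul_left _ b0)
  have h2 := tc_step CoxeterMatrix.E₇ tcM_E7 coxMt_E7 tcTab_E7_2 tcRk_E7_2 3 pcJ_E7_2 pcJ_E7_1
    pcds_E7_2 tcJs_E7_2 (by decide +kernel) (by norm_num) tcRows_E7_2 h1.1
  have b2 := h2.2.trans (Nat.mul_le_mul_left _ b1)
  have h3 := tc_step CoxeterMatrix.E₇ tcM_E7 coxMt_E7 tcTab_E7_3 tcRk_E7_3 4 pcJ_E7_3 pcJ_E7_2
    pcds_E7_3 tcJs_E7_3 (by decide +kernel) (by norm_num) tcRows_E7_3 h2.1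
  have b3 := h3.2.trans (Nat.mul_le_mul_left _ b2)
  have h4 := tc_step CoxeterMatrix.E₇ tcM_E7 coxMt_E7 tcTab_E7_4 tcRk_E7_4 8 pcJ_E7_4 pcJ_E7_3
    pcds_E7_4 tcJs_E7_4 (by decide +kernel) (by norm_num) tcRows_E7_4 h3.1
  have b4 := h4.2.trans (Nat.mul_le_mul_left _ b3)
  have h5 := tc_step CoxeterMatrix.E₇ tcM_E7 coxMt_E7 tcTab_E7_5 tcRk_E7_5 10 pcJ_E7_5 pcJ_E7_4
    pcds_E7_5 tcJs_E7_5 (by decide +kernel) (by norm_num) tcRows_E7_5 h4.1
  have b5 := h5.2.trans (Nat.mul_le_mul_left _ b4)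
  have h6 := tc_step CoxeterMatrix.E₇ tcM_E7 coxMt_E7 tcTab_E7_6 tcRk_E7_6 27 pcJ_E7_6 pcJ_E7_5
    pcds_E7_6 tcJs_E7_6 (by decide +kernel) (by norm_num) tcRows_E7_6 h5.1
  have b6 := h6.2.trans (Nat.mul_le_mul_left _ b5)
  have h7 := tc_step CoxeterMatrix.E₇ tcM_E7 coxMt_E7 tcTab_E7_7 tcRk_E7_7 56 pcJ_E7_7 pcJ_E7_6
    pcds_E7_7 tcJs_E7_7 (by decide +kernel) (by norm_num) tcRows_E7_7 h6.1
  have b7 := h7.2.trans (Nat.mul_le_mul_left _ b6)
  have htop := closure_top CoxeterMatrix.E₇ pcJ_E7_7 (by decide +kernel)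
  rw [htop] at h7 b7
  haveI := h7.1
  have hfin : Finite (CoxeterMatrix.E₇).Group := Finite.of_equiv _ Subgroup.topEquiv.toEquiv
  rw [Subgroup.card_top] at b7
  exact ⟨hfin, b7⟩

theorem coxCard_E7 : Nat.card (CoxeterMatrix.E₇).Group = 2903040 := by
  obtain ⟨hfin, hle⟩ := coxUpper_E7
  have hge := card_ge_of_family chevE7 pcMem_E7 CoxeterMatrix.E₇ tcM_E7 coxMt_E7 (by decide)
    pcRTOK_E7 coxRel_E7 pcJ_E7_7 pcV_E7_7 pcFam_E7_7
  rw [pcCard_E7_7] at hge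
  have e : 56 * (27 * (10 * (8 * (4 * (3 * (2 * 1)))))) = 2903040 := by norm_num
  rw [e] at hle hge
  exact le_antisymm hle hge

theorem coxFinite_E7 : Finite (CoxeterMatrix.E₇).Group := coxUpper_E7.1

end Cfsg.Agent.helper5.Chev
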