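import Mathlib
import Cfsg.Agent.Lib_helper5_TC2
import Cfsg.Agent.Lib_helper5_ChevPCDE8Defs

set_option autoImplicit false

/-! Coset table certificates for the Coxeter group of type E8 (generated, helper5). -/

namespace Cfsg.Agent.helper5.Chev

open Cfsg.Lie Cfsg.Agent.helper5.TC

def tcM_E8 : List (List ℕ) := [[1, 2, 3, 2, 2, 2, 2, 2], [2, 1, 2, 3, 2, 2, 2, 2], [3, 2, 1, 3, 2, 2, 2, 2], [2, 3, 3, 1, 3, 2, 2, 2], [2, 2, 2, 3, 1, 3, 2, 2], [2, 2, 2, 2, 3, 1, 3, 2], [2, 2, 2, 2, 2, 3, 1, 3], [2, 2, 2, 2, 2, 2, 3, 1]]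

set_option maxRecDepth 1000000 in
def tcTab_E8_1 : List (List ℕ) := [[0, 0, 0, 0, 1, 0, 0, 0], [0, 0, 0, 0, 0, 0, 0, 0]]

set_option maxRecDepth 1000000 in
def tcRk_E8_1 : List (List ℕ) := [[0, 0, 0, 0, 0, 0, 0, 0], [0, 0, 0, 0, 0, 0, 0, 0]]

set_option maxRecDepth 1000000 in
def tcJs_E8_1 : List (List (List ℕ)) := [[[], [], [], [], [0], [], [], []], [[], [], [], [], [1], [], [], []]]

set_option maxRecDepth 1000000 in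
def tcTab_E8_2 : List (List ℕ) := [[0, 0, 0, 1, 0, 0, 0, 0], [0, 0, 0, 0, 2, 0, 0, 0], [0, 0, 0, 2, 1, 0, 0, 0]]

set_option maxRecDepth 1000000 in
def tcRk_E8_2 : List (List ℕ) := [[0, 0, 0, 0, 0, 0, 0, 0], [0, 0, 0, 0, 0, 0, 0, 0], [0, 0, 0, 1, 0, 0, 0, 0]]

set_option maxRecDepth 1000000 in
def tcJs_E8_2 : List (List (List ℕ)) := [[[], [], [], [0], [2], [], [], []], [[], [], [], [1], [0], [], [], []], [[], [], [], [3, 4, 3, 0, 3], [1], [], [], []]]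

set_option maxRecDepth 1000000 in
def tcTab_E8_3 : List (List ℕ) := [[0, 1, 0, 0, 0, 0, 0, 0], [0, 0, 0, 2, 1, 0, 0, 0], [0, 2, 0, 1, 3, 0, 0, 0], [0, 3, 0, 3, 2, 0, 0, 0]]

set_option maxRecDepth 1000000 in
def tcRk_E8_3 : List (List ℕ) := [[0, 0, 0, 0, 0, 0, 0, 0], [0, 0, 0, 0, 1, 0, 0, 0], [0, 2, 0, 0, 0, 0, 0, 0], [0, 4, 0, 3, 0, 0, 0, 0]]

set_option maxRecDepth 1000000 in
def tcJs_E8_3 : List (List (List ℕ)) := [[[], [0], [], [2], [2], [], [], []], [[], [1], [], [0], [3, 4, 1, 0, 2], [], [], []], [[], [3, 3, 1, 0, 3], [], [1], [0], [], [], []], [[], [3, 4, 1, 2, 1], [], [3, 4, 3, 1, 3], [1], [], [], []]]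

set_option maxRecDepth 1000000 in
def tcTab_E8_4 : List (List ℕ) := [[0, 0, 1, 0, 0, 0, 0, 0], [0, 1, 0, 2, 1, 0, 0, 0], [0, 4, 2, 1, 3, 0, 0, 0], [0, 5, 3, 3, 2, 0, 0, 0], [0, 2, 4, 4, 5, 0, 0, 0], [0, 3, 5, 6, 4, 0, 0, 0], [0, 6, 7, 5, 6, 0, 0, 0], [0, 7, 6, 7, 7, 0, 0, 0]]

set_option maxRecDepth 1000000 in
def tcRk_E8_4 : List (List ℕ) := [[0, 0, 0, 0, 0, 0, 0, 0], [0, 3, 0, 0, 1, 0, 0, 0], [0, 0, 2, 0, 0, 0, 0, 0], [0, 0, 8, 4, 0, 0, 0, 0], [0, 0, 9, 5, 7, 0, 0, 0], [0, 0, 11, 0, 6, 0, 0, 0], [0, 10, 0, 0, 12, 0, 0, 0], [0, 15, 0, 13, 14, 0, 0, 0]]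

set_option maxRecDepth 1000000 in
def tcJs_E8_4 : List (List (List ℕ)) := [[[], [2], [0], [2], [2], [], [], []], [[], [3, 1, 2, 0, 2], [1], [0], [3, 4, 2, 0, 2], [], [], []], [[], [0], [3, 3, 2, 0, 3], [1], [0], [], [], []], [[], [0], [3, 4, 2, 2, 1], [3, 4, 3, 1, 3], [1], [], [], []], [[], [1], [3, 1, 2, 2, 1], [3, 3, 1, 1, 2], [4], [], [], []], [[], [1], [3, 1, 2, 3, 1], [0], [3, 4, 1, 2, 2], [], [], []], [[], [3, 3, 1, 3, 3], [0], [1], [3, 4, 3, 4, 2], [], [], []], [[], [3, 1, 2, 6, 2], [1], [3, 3, 2, 5, 2], [3, 4, 2, 6, 2], [], [], []]]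

set_option maxRecDepth 1000000 in
def tcTab_E8_5 : List (List ℕ) := [[1, 0, 0, 0, 0, 0, 0, 0], [0, 1, 2, 1, 1, 0, 0, 0], [2, 2, 1, 3, 2, 0, 0, 0], [3, 5, 3, 2, 4, 0, 0, 0], [4, 6, 4, 4, 3, 0, 0, 0], [5, 3, 5, 5, 6, 0, 0, 0], [6, 4, 6, 7, 5, 0, 0, 0], [7, 7, 8, 6, 7, 0, 0, 0], [9, 8, 7, 8, 8, 0, 0, 0], [8, 9, 9, 9, 9, 0, 0, 0]]

set_option maxRecDepth 1000000 in
def tcRk_E8_5 : List (List ℕ) := [[0, 0, 0, 0, 0, 0, 0, 0], [0, 3, 0, 2, 1, 0, 0, 0], [4, 7, 0, 0, 5, 0, 0, 0], [10, 0, 6, 0, 0, 0, 0, 0], [14, 0, 13, 8, 0, 0, 0, 0], [16, 0, 15, 9, 12, 0, 0, 0], [19, 0, 18, 0, 11, 0, 0, 0], [22, 17, 0, 0, 20, 0, 0, 0], [0, 24, 0, 21, 23, 0, 0, 0], [0, 28, 25, 27, 26, 0, 0, 0]]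

set_option maxRecDepth 1000000 in
def tcJs_E8_5 : List (List (List ℕ)) := [[[0], [2], [2], [2], [2], [], [], []], [[1], [3, 1, 0, 0, 2], [0], [3, 3, 0, 0, 2], [3, 4, 0, 0, 2], [], [], []], [[3, 2, 0, 0, 3], [3, 1, 2, 1, 2], [1], [0], [3, 4, 2, 1, 2], [], [], []], [[3, 3, 0, 2, 1], [0], [3, 3, 2, 1, 3], [1], [0], [], [], []], [[3, 4, 0, 3, 1], [0], [3, 4, 2, 3, 1], [3, 4, 3, 2, 3], [1], [], [], []], [[3, 1, 0, 3, 1], [1], [3, 1, 2, 3, 1], [3, 3, 1, 2, 2], [4], [], [], []], [[3, 1, 0, 4, 1], [1], [3, 1, 2, 4, 1], [0], [3, 4, 1, 3, 2], [], [], []], [[3, 3, 0, 6, 1], [3, 3, 1, 4, 3], [0], [1], [3, 4, 3, 5, 2], [], [], []], [[0], [3, 1, 2, 7, 2], [1], [3, 3, 2, 6, 2], [3, 4, 2, 7, 2], [], [], []], [[1], [3, 1, 0, 8, 2], [3, 2, 0, 7, 2], [3, 3, 0, 8, 2], [3, 4, 0, 8, 2], [], [], []]]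

set_option maxRecDepth 1000000 in
def tcTab_E8_6 : List (List ℕ) := [[0, 0, 0, 0, 0, 1, 0, 0], [1, 1, 1, 1, 2, 0, 0, 0], [2, 2, 2, 3, 1, 2, 0, 0], [3, 4, 5, 2, 3, 3, 0, 0], [4, 3, 6, 4, 4, 4, 0, 0], [7, 6, 3, 5, 5, 5, 0, 0], [9, 5, 4, 8, 6, 6, 0, 0], [5, 9, 7, 7, 7, 7, 0, 0], [11, 8, 8, 6, 10, 8, 0, 0], [6, 7, 9, 11, 9, 9, 0, 0], [12, 10, 10, 10, 8, 13, 0, 0], [8, 11, 14, 9, 12, 11, 0, 0], [10, 12, 15, 12, 11, 16, 0, 0], [16, 13, 13, 13, 13, 10, 0, 0], [14, 14, 11, 14, 15, 14, 0, 0], [15, 15, 12, 17, 14, 18, 0, 0], [13, 16, 18, 16, 16, 12, 0, 0], [17, 19, 17, 15, 17, 20, 0, 0], [18, 18, 16, 20, 18, 15, 0, 0], [19, 17, 19, 19, 19, 21, 0, 0], [20, 21, 20, 18, 22, 17, 0, 0], [21, 20, 21, 21, 23, 19, 0, 0], [22, 23, 22, 22, 20, 22, 0, 0], [23, 22, 23, 24, 21, 23, 0, 0], [24, 24, 25, 23, 24, 24, 0, 0], [26, 25,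 24, 25, 25, 25, 0, 0], [25, 26, 26, 26, 26, 26, 0, 0]]

set_option maxRecDepth 1000000 in
def tcRk_E8_6 : List (List ℕ) := [[0, 0, 0, 0, 0, 0, 0, 0], [5, 3, 4, 2, 0, 0, 0, 0], [9, 7, 8, 0, 0, 1, 0, 0], [12, 0, 0, 0, 6, 13, 0, 0], [18, 0, 0, 10, 14, 19, 0, 0], [0, 17, 0, 11, 15, 21, 0, 0], [0, 16, 0, 0, 22, 25, 0, 0], [0, 30, 20, 28, 26, 31, 0, 0], [0, 27, 23, 0, 0, 36, 0, 0], [0, 29, 24, 35, 33, 37, 0, 0], [0, 39, 40, 32, 0, 0, 0, 0], [0, 38, 0, 34, 42, 45, 0, 0], [0, 49, 0, 46, 41, 0, 0, 0], [54, 50, 52, 48, 43, 0, 0, 0], [44, 58, 0, 47, 56, 59, 0, 0], [51, 62, 0, 0, 55, 0, 0, 0], [53, 63, 65, 61, 57, 0, 0, 0], [70, 0, 60, 0, 67, 0, 0, 0], [66, 73, 64, 72, 68, 0, 0, 0], [78, 0, 77, 69, 75, 0, 0, 0], [81, 80, 74, 71, 0, 0, 0, 0], [86, 79, 85, 83, 0, 0, 0, 0], [90, 87, 89, 82, 0, 76, 0, 0], [93, 88, 92, 0,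 0, 84, 0, 0], [96, 94, 0, 0, 91, 97, 0, 0], [0, 99, 0, 95, 98, 101, 0, 0], [0, 104, 100, 103, 102, 105, 0, 0]]

set_option maxRecDepth 1000000 in
def tcJs_E8_6 : List (List (List ℕ)) := [[[2], [2], [2], [2], [2], [0], [], []], [[3, 0, 5, 0, 2], [3, 1, 5, 0, 2], [3, 2, 5, 0, 2], [3, 3, 5, 0, 2], [0], [1], [], []], [[3, 4, 0, 1, 1], [3, 4, 1, 1, 1], [3, 4, 2, 1, 1], [0], [1], [3, 4, 5, 0, 3], [], []], [[3, 3, 0, 2, 1], [0], [0], [1], [3, 4, 3, 1, 2], [3, 3, 5, 2, 1], [], []], [[3, 1, 0, 3, 1], [1], [0], [3, 3, 1, 2, 2], [3, 4, 1, 3, 2], [3, 1, 5, 3, 1], [], []], [[0], [4], [1], [3, 3, 2, 2, 2], [3, 4, 2, 3, 2], [3, 2, 5, 3, 1], [], []], [[0], [3, 1, 2, 3, 2], [1], [0], [3, 4, 2, 4, 2], [3, 2, 5, 4, 1], [], []], [[1], [4], [3, 2, 0, 3, 2], [3, 3, 0, 5, 2], [3, 4, 0, 5, 2], [3, 0, 5, 5, 1], [], []], [[0], [3,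 3, 1, 5, 3], [3, 3, 2, 4, 3], [1], [0], [3, 3, 5, 6, 1], [], []], [[1], [3, 1, 0, 5, 2], [3, 2, 0, 4, 2], [4], [3, 4, 0, 6, 2], [3, 0, 5, 6, 1], [], []], [[0], [3, 4, 1, 8, 1], [3, 4, 2, 8, 1], [3, 4, 3, 6, 3], [1], [0], [], []], [[1], [3, 3, 1, 7, 3], [0], [3, 3, 0, 6, 2], [4], [3, 0, 5, 8, 1], [], []], [[1], [3, 1, 0, 10, 2], [0], [3, 4, 3, 9, 3], [3, 4, 0, 8, 2], [0], [], []], [[4], [3, 1, 5, 10, 2], [3, 2, 5, 10, 2], [3, 3, 5, 10, 2], [3, 4, 5, 8, 2], [1], [], []], [[3, 2, 0, 8, 3], [3, 1, 2, 11, 2], [1], [3, 3, 2, 9, 2], [4], [3, 2, 5, 11, 1], [], []], [[3, 2, 0, 10, 3], [3, 1, 2, 12, 2], [1], [0], [3, 4, 2, 11, 2], [0], [], []], [[3, 0, 5, 10, 2], [3, 1, 5, 12, 2], [4], [3, 3, 5, 12, 2], [3, 4, 5, 11, 2], [1], [], []], [[3, 3, 0, 15, 1], [0], [3, 3, 2, 12, 3], [1], [3, 4, 3, 14, 2], [0], [], []], [[3,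 2, 0, 13, 3], [3, 1, 5, 15, 2], [3, 2, 5, 12, 2], [4], [3, 4, 5, 14, 2], [1], [], []], [[3, 1, 0, 17, 1], [1], [3, 1, 2, 17, 1], [3, 3, 1, 15, 2], [3, 4, 1, 17, 2], [0], [], []], [[3, 0, 5, 17, 2], [4], [3, 3, 2, 16, 3], [3, 3, 5, 15, 2], [0], [1], [], []], [[3, 0, 5, 19, 2], [3, 1, 5, 17, 2], [3, 2, 5, 19, 2], [3, 3, 1, 18, 2], [0], [1], [], []], [[3, 4, 0, 20, 1], [3, 4, 1, 20, 1], [3, 4, 2, 20, 1], [3, 4, 3, 18, 3], [1], [3, 4, 5, 17, 3], [], []], [[3, 4, 0, 21, 1], [4], [3, 4, 2, 21, 1], [0], [1], [3, 4, 5, 19, 3], [], []], [[3, 3, 0, 23, 1], [3, 3, 1, 22, 3], [0], [1], [3, 4, 3, 21, 2], [3, 3, 5, 23, 1], [], []], [[0], [3, 1, 2, 24, 2], [1], [3, 3, 2, 23, 2], [3, 4, 2, 24, 2], [3, 2, 5, 24, 1], [], []], [[1], [3, 1, 0, 25, 2], [3, 2, 0, 24, 2], [3, 3, 0, 25, 2], [3, 4, 0, 25, 2], [3, 0, 5, 25, 1], [],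 []]]

set_option maxRecDepth 1000000 in
def tcTab_E8_7 : List (List ℕ) := [[0, 0, 0, 0, 0, 0, 1, 0], [1, 1, 1, 1, 1, 2, 0, 0], [2, 2, 2, 2, 3, 1, 2, 0], [3, 3, 3, 4, 2, 3, 3, 0], [4, 5, 6, 3, 4, 4, 4, 0], [5, 4, 7, 5, 5, 5, 5, 0], [8, 7, 4, 6, 6, 6, 6, 0], [10, 6, 5, 9, 7, 7, 7, 0], [6, 10, 8, 8, 8, 8, 8, 0], [12, 9, 9, 7, 11, 9, 9, 0], [7, 8, 10, 12, 10, 10, 10, 0], [13, 11, 11, 11, 9, 14, 11, 0], [9, 12, 15, 10, 13, 12, 12, 0], [11, 13, 16, 13, 12, 17, 13, 0], [17, 14, 14, 14, 14, 11, 18, 0], [15, 15, 12, 15, 16, 15, 15, 0], [16, 16, 13, 19, 15, 20, 16, 0], [14, 17, 20, 17, 17, 13, 21, 0], [21, 18, 18, 18, 18, 18, 14, 0], [19, 22, 19, 16, 19, 23, 19, 0], [20, 20, 17, 23, 20, 16, 24, 0], [18, 21, 24, 21, 21, 21, 17, 0], [22, 19, 22, 22, 22, 25, 22, 0], [23, 25, 23, 20, 26, 19, 27, 0], [24, 24, 21, 27, 24,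 24, 20, 0], [25, 23, 25, 25, 28, 22, 29, 0], [26, 28, 26, 26, 23, 26, 30, 0], [27, 29, 27, 24, 30, 27, 23, 0], [28, 26, 28, 31, 25, 28, 32, 0], [29, 27, 29, 29, 32, 29, 25, 0], [30, 32, 30, 30, 27, 33, 26, 0], [31, 31, 34, 28, 31, 31, 35, 0], [32, 30, 32, 35, 29, 36, 28, 0], [33, 36, 33, 33, 33, 30, 33, 0], [37, 34, 31, 34, 34, 34, 38, 0], [35, 35, 38, 32, 35, 39, 31, 0], [36, 33, 36, 39, 36, 32, 36, 0], [34, 37, 37, 37, 37, 37, 40, 0], [40, 38, 35, 38, 38, 41, 34, 0], [39, 39, 41, 36, 42, 35, 39, 0], [38, 40, 40, 40, 40, 43, 37, 0], [43, 41, 39, 41, 44, 38, 41, 0], [42, 42, 44, 42, 39, 42, 42, 0], [41, 43, 43, 43, 45, 40, 43, 0], [45, 44, 42, 46, 41, 44, 44, 0], [44, 45, 45, 47, 43, 45, 45, 0], [47, 48, 46, 44, 46, 46, 46, 0], [46, 49, 50, 45, 47, 47, 47, 0], [49, 46, 48, 48, 48, 48, 48, 0], [48, 47, 51,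 49, 49, 49, 49, 0], [50, 51, 47, 50, 50, 50, 50, 0], [51, 50, 49, 52, 51, 51, 51, 0], [52, 52, 52, 51, 53, 52, 52, 0], [53, 53, 53, 53, 52, 54, 53, 0], [54, 54, 54, 54, 54, 53, 55, 0], [55, 55, 55, 55, 55, 55, 54, 0]]

set_option maxRecDepth 1000000 in
def tcRk_E8_7 : List (List ℕ) := [[0, 0, 0, 0, 0, 0, 0, 0], [5, 3, 4, 2, 1, 0, 0, 0], [11, 9, 10, 8, 0, 0, 6, 0], [15, 13, 14, 0, 0, 7, 16, 0], [19, 0, 0, 0, 12, 20, 21, 0], [26, 0, 0, 17, 22, 27, 28, 0], [0, 25, 0, 18, 23, 30, 31, 0], [0, 24, 0, 0, 32, 35, 36, 0], [0, 41, 29, 39, 37, 42, 43, 0], [0, 38, 33, 0, 0, 48, 49, 0], [0, 40, 34, 47, 45, 50, 51, 0], [0, 53, 54, 44, 0, 0, 58, 0], [0, 52, 0, 46, 56, 60, 61, 0], [0, 65, 0, 62, 55, 0, 71, 0], [70, 66, 68, 64, 57, 0, 0, 0], [59, 76, 0, 63, 74, 77, 78, 0], [67, 81, 0, 0, 73, 0, 85, 0], [69, 82, 84, 80, 75,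 0, 0, 0], [93, 89, 91, 88, 87, 72, 0, 0], [97, 0, 79, 0, 94, 0, 100, 0], [90, 101, 83, 99, 95, 0, 0, 0], [92, 106, 108, 105, 103, 86, 0, 0], [113, 0, 112, 96, 110, 0, 116, 0], [117, 115, 104, 98, 0, 0, 0, 0], [109, 124, 107, 123, 120, 102, 0, 0], [128, 114, 127, 121, 0, 0, 0, 0], [133, 130, 132, 119, 0, 111, 0, 0], [138, 137, 125, 122, 135, 118, 0, 0], [143, 131, 142, 0, 0, 126, 0, 0], [147, 136, 146, 140, 145, 129, 0, 0], [152, 150, 151, 139, 134, 0, 0, 0], [156, 148, 0, 0, 141, 157, 0, 0], [161, 149, 160, 159, 144, 0, 0, 0], [170, 168, 169, 166, 154, 0, 153, 0], [0, 172, 0, 155, 171, 174, 0, 0], [177, 165, 176, 158, 163, 0, 0, 0], [183, 167, 182, 181, 164, 0, 162, 0], [0, 188, 173, 187, 185, 190, 0, 0], [192, 189, 175, 179, 186, 0, 0, 0], [198, 184, 197, 180, 0, 0, 178, 0], [191, 203, 195, 202, 201, 0,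 0, 0], [208, 206, 196, 200, 0, 0, 193, 0], [212, 209, 210, 199, 0, 194, 213, 0], [207, 217, 214, 216, 0, 0, 204, 0], [220, 219, 211, 0, 0, 205, 222, 0], [221, 226, 224, 0, 0, 215, 227, 0], [229, 0, 223, 0, 218, 231, 232, 0], [230, 0, 0, 0, 225, 235, 236, 0], [239, 0, 238, 228, 237, 241, 242, 0], [240, 0, 0, 233, 244, 248, 249, 0], [243, 247, 0, 234, 245, 250, 251, 0], [252, 246, 0, 0, 253, 255, 256, 0], [259, 257, 254, 0, 0, 260, 261, 0], [264, 262, 263, 258, 0, 0, 266, 0], [270, 268, 269, 267, 265, 0, 0, 0], [276, 274, 275, 273, 272, 271, 0, 0]]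

set_option maxRecDepth 1000000 in
def tcJs_E8_7 : List (List (List ℕ)) := [[[2], [2], [2], [2], [2], [2], [0], []], [[3, 0, 6, 0, 2], [3, 1, 6, 0, 2], [3, 2, 6, 0, 2], [3, 3, 6, 0, 2], [3, 4, 6, 0, 2], [0], [1], []], [[3, 0, 5, 1, 2], [3, 1, 5, 1, 2], [3, 2, 5, 1, 2], [3, 3, 5, 1, 2], [0], [1], [3, 5, 6, 0, 3], []], [[3, 4, 0, 2, 1], [3, 4, 1, 2, 1], [3, 4, 2, 2, 1], [0], [1], [3, 4, 5, 1, 3], [3, 4, 6, 2, 1], []], [[3, 3, 0, 3, 1], [0], [0], [1], [3, 4, 3, 2, 2], [3, 3, 5, 3, 1], [3, 3, 6, 3, 1], []], [[3, 1, 0, 4, 1], [1], [0], [3, 3, 1, 3, 2], [3, 4, 1, 4, 2], [3, 1, 5, 4, 1], [3, 1, 6, 4, 1], []], [[0], [4], [1], [3, 3, 2, 3, 2], [3, 4, 2, 4, 2], [3, 2, 5, 4, 1], [3, 2, 6, 4, 1], []], [[0], [3, 1, 2, 4, 2], [1], [0], [3, 4, 2, 5, 2], [3, 2, 5, 5, 1], [3, 2, 6, 5, 1], []], [[1], [4], [3, 2, 0, 4, 2],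 [3, 3, 0, 6, 2], [3, 4, 0, 6, 2], [3, 0, 5, 6, 1], [3, 0, 6, 6, 1], []], [[0], [3, 3, 1, 6, 3], [3, 3, 2, 5, 3], [1], [0], [3, 3, 5, 7, 1], [3, 3, 6, 7, 1], []], [[1], [3, 1, 0, 6, 2], [3, 2, 0, 5, 2], [4], [3, 4, 0, 7, 2], [3, 0, 5, 7, 1], [3, 0, 6, 7, 1], []], [[0], [3, 4, 1, 9, 1], [3, 4, 2, 9, 1], [3, 4, 3, 7, 3], [1], [0], [3, 4, 6, 9, 1], []], [[1], [3, 3, 1, 8, 3], [0], [3, 3, 0, 7, 2], [4], [3, 0, 5, 9, 1], [3, 0, 6, 9, 1], []], [[1], [3, 1, 0, 11, 2], [0], [3, 4, 3, 10, 3], [3, 4, 0, 9, 2], [0], [3, 0, 6, 11, 1], []], [[4], [3, 1, 5, 11, 2], [3, 2, 5, 11, 2], [3, 3, 5, 11, 2], [3, 4, 5, 9, 2], [1], [0], []], [[3, 2, 0, 9, 3], [3, 1, 2, 12, 2], [1], [3, 3, 2, 10, 2], [4], [3, 2, 5, 12, 1], [3, 2, 6, 12, 1], []], [[3, 2, 0, 11, 3], [3, 1, 2, 13, 2], [1], [0], [3, 4, 2, 12, 2], [0], [3, 2, 6, 13, 1],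 []], [[3, 0, 5, 11, 2], [3, 1, 5, 13, 2], [4], [3, 3, 5, 13, 2], [3, 4, 5, 12, 2], [1], [0], []], [[4], [3, 1, 6, 14, 2], [3, 2, 6, 14, 2], [3, 3, 6, 14, 2], [3, 4, 6, 14, 2], [3, 5, 6, 11, 2], [1], []], [[3, 3, 0, 16, 1], [0], [3, 3, 2, 13, 3], [1], [3, 4, 3, 15, 2], [0], [3, 3, 6, 16, 1], []], [[3, 2, 0, 14, 3], [3, 1, 5, 16, 2], [3, 2, 5, 13, 2], [4], [3, 4, 5, 15, 2], [1], [0], []], [[3, 0, 6, 14, 2], [3, 1, 6, 17, 2], [4], [3, 3, 6, 17, 2], [3, 4, 6, 17, 2], [3, 5, 6, 13, 2], [1], []], [[3, 1, 0, 19, 1], [1], [3, 1, 2, 19, 1], [3, 3, 1, 16, 2], [3, 4, 1, 19, 2], [0], [3, 1, 6, 19, 1], []], [[3, 0, 5, 19, 2], [4], [3, 3, 2, 17, 3], [3, 3, 5, 16, 2], [0], [1], [0], []], [[3, 2, 0, 18, 3], [3, 1, 6, 20, 2], [3, 2, 6, 17, 2], [4], [3, 4, 6, 20, 2], [3, 5, 6, 16, 2], [1], []], [[3, 0, 5, 22, 2], [3, 1, 5,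 19, 2], [3, 2, 5, 22, 2], [3, 3, 1, 20, 2], [0], [1], [0], []], [[3, 4, 0, 23, 1], [3, 4, 1, 23, 1], [3, 4, 2, 23, 1], [3, 4, 3, 20, 3], [1], [3, 4, 5, 19, 3], [0], []], [[3, 0, 6, 23, 2], [4], [3, 3, 2, 21, 3], [3, 3, 6, 20, 2], [4], [3, 5, 6, 19, 2], [1], []], [[3, 4, 0, 25, 1], [4], [3, 4, 2, 25, 1], [0], [1], [3, 4, 5, 22, 3], [0], []], [[3, 0, 6, 25, 2], [3, 1, 6, 23, 2], [3, 2, 6, 25, 2], [3, 3, 1, 24, 2], [4], [3, 5, 6, 22, 2], [1], []], [[3, 0, 6, 26, 2], [4], [3, 2, 6, 26, 2], [3, 4, 3, 24, 3], [3, 4, 6, 23, 2], [0], [1], []], [[3, 3, 0, 28, 1], [3, 3, 1, 26, 3], [0], [1], [3, 4, 3, 25, 2], [3, 3, 5, 28, 1], [0], []], [[3, 0, 6, 28, 2], [3, 1, 6, 26, 2], [3, 2, 6, 28, 2], [4], [3, 4, 6, 25, 2], [0], [1], []], [[3, 0, 5, 30, 2], [4], [3, 2, 5, 30, 2], [3, 3, 5, 30, 2], [3, 4, 5, 27, 2], [1], [3, 5,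 6, 26, 3], []], [[0], [3, 1, 2, 31, 2], [1], [3, 3, 2, 28, 2], [3, 4, 2, 31, 2], [3, 2, 5, 31, 1], [0], []], [[3, 0, 6, 31, 2], [3, 3, 1, 30, 3], [4], [3, 3, 6, 28, 2], [3, 4, 3, 29, 2], [0], [1], []], [[3, 0, 5, 32, 2], [3, 1, 5, 30, 2], [3, 2, 5, 32, 2], [4], [3, 4, 5, 29, 2], [1], [3, 5, 6, 28, 3], []], [[1], [3, 1, 0, 34, 2], [3, 2, 0, 31, 2], [3, 3, 0, 34, 2], [3, 4, 0, 34, 2], [3, 0, 5, 34, 1], [0], []], [[4], [3, 1, 6, 34, 2], [3, 2, 6, 31, 2], [3, 3, 2, 32, 2], [3, 4, 6, 34, 2], [0], [1], []], [[3, 0, 5, 35, 2], [3, 3, 1, 33, 3], [4], [3, 3, 5, 32, 2], [0], [1], [3, 5, 6, 31, 3], []], [[3, 0, 6, 34, 2], [3, 1, 6, 37, 2], [3, 2, 0, 35, 2], [3, 3, 6, 37, 2], [3, 4, 6, 37, 2], [0], [1], []], [[4], [3, 1, 5, 38, 2], [3, 2, 5, 35, 2], [3, 3, 2, 36, 2], [0], [1], [3, 5, 6, 34, 3], []], [[3, 4, 0, 39, 1],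 [3, 4, 1, 39, 1], [3, 4, 2, 39, 1], [3, 4, 3, 36, 3], [1], [3, 4, 5, 35, 3], [3, 4, 6, 39, 1], []], [[3, 0, 5, 38, 2], [3, 1, 5, 40, 2], [3, 2, 0, 39, 2], [3, 3, 5, 40, 2], [0], [1], [3, 5, 6, 37, 3], []], [[3, 4, 0, 41, 1], [3, 4, 1, 41, 1], [4], [0], [1], [3, 4, 5, 38, 3], [3, 4, 6, 41, 1], []], [[4], [3, 4, 1, 43, 1], [3, 2, 0, 42, 2], [0], [1], [3, 4, 5, 40, 3], [3, 4, 6, 43, 1], []], [[3, 3, 0, 44, 1], [0], [3, 3, 2, 42, 3], [1], [3, 4, 3, 41, 2], [3, 3, 5, 44, 1], [3, 3, 6, 44, 1], []], [[4], [0], [0], [1], [3, 4, 3, 43, 2], [3, 3, 5, 45, 1], [3, 3, 6, 45, 1], []], [[3, 1, 0, 46, 1], [1], [3, 1, 2, 46, 1], [3, 3, 1, 44, 2], [3, 4, 1, 46, 2], [3, 1, 5, 46, 1], [3, 1, 6, 46, 1], []], [[4], [1], [0], [3, 3, 1, 45, 2], [3, 4, 1, 47, 2], [3, 1, 5, 47, 1], [3, 1, 6, 47, 1], []], [[3, 2, 0, 46, 3], [4], [1],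 [3, 3, 2, 45, 2], [3, 4, 2, 47, 2], [3, 2, 5, 47, 1], [3, 2, 6, 47, 1], []], [[3, 2, 0, 48, 3], [3, 1, 2, 47, 2], [1], [0], [3, 4, 2, 49, 2], [3, 2, 5, 49, 1], [3, 2, 6, 49, 1], []], [[3, 3, 0, 51, 1], [3, 3, 1, 50, 3], [3, 3, 2, 49, 3], [1], [0], [3, 3, 5, 51, 1], [3, 3, 6, 51, 1], []], [[3, 4, 0, 52, 1], [3, 4, 1, 52, 1], [3, 4, 2, 52, 1], [3, 4, 3, 51, 3], [1], [0], [3, 4, 6, 52, 1], []], [[3, 0, 5, 53, 2], [3, 1, 5, 53, 2], [3, 2, 5, 53, 2], [3, 3, 5, 53, 2], [3, 4, 5, 52, 2], [1], [0], []], [[3, 0, 6, 54, 2], [3, 1, 6, 54, 2], [3, 2, 6, 54, 2], [3, 3, 6, 54, 2], [3, 4, 6, 54, 2], [3, 5, 6, 53, 2], [1], []]]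

set_option maxRecDepth 1000000 in
def tcTab_E8_8 : List (List ℕ) := [[0, 0, 0, 0, 0, 0, 0, 1], [1, 1, 1, 1, 1, 1, 2, 0], [2, 2, 2, 2, 2, 3, 1, 2], [3, 3, 3, 3, 4, 2, 3, 3], [4, 4, 4, 5, 3, 4, 4, 4], [5, 6, 7, 4, 5, 5, 5, 5], [6, 5, 8, 6, 6, 6, 6, 6], [9, 8, 5, 7, 7, 7, 7, 7], [11, 7, 6, 10, 8, 8, 8, 8], [7, 11, 9, 9, 9, 9, 9, 9], [13, 10, 10, 8, 12, 10, 10, 10], [8, 9, 11, 13, 11, 11, 11, 11], [14, 12, 12, 12, 10, 15, 12, 12], [10, 13, 16, 11, 14, 13, 13, 13], [12, 14, 17, 14, 13, 18, 14, 14], [18, 15, 15, 15, 15, 12, 19, 15], [16, 16, 13, 16, 17, 16, 16, 16], [17, 17, 14, 20, 16, 21, 17, 17], [15, 18, 21, 18, 18, 14, 22, 18], [22, 19, 19, 19, 19, 19, 15, 23], [20, 24, 20, 17, 20, 25, 20, 20], [21, 21, 18, 25, 21, 17, 26, 21], [19, 22, 26, 22, 22, 22, 18, 27], [27, 23, 23, 23, 23, 23, 23, 19], [24, 20, 24,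 24, 24, 28, 24, 24], [25, 28, 25, 21, 29, 20, 30, 25], [26, 26, 22, 30, 26, 26, 21, 31], [23, 27, 31, 27, 27, 27, 27, 22], [28, 25, 28, 28, 32, 24, 33, 28], [29, 32, 29, 29, 25, 29, 34, 29], [30, 33, 30, 26, 34, 30, 25, 35], [31, 31, 27, 35, 31, 31, 31, 26], [32, 29, 32, 36, 28, 32, 37, 32], [33, 30, 33, 33, 37, 33, 28, 38], [34, 37, 34, 34, 30, 39, 29, 40], [35, 38, 35, 31, 40, 35, 35, 30], [36, 36, 41, 32, 36, 36, 42, 36], [37, 34, 37, 42, 33, 43, 32, 44], [38, 35, 38, 38, 44, 38, 38, 33], [39, 43, 39, 39, 39, 34, 39, 45], [40, 44, 40, 40, 35, 45, 40, 34], [46, 41, 36, 41, 41, 41, 47, 41], [42, 42, 47, 37, 42, 48, 36, 49], [43, 39, 43, 48, 43, 37, 43, 50], [44, 40, 44, 49, 38, 50, 44, 37], [45, 50, 45, 45, 45, 40, 51, 39], [41, 46, 46, 46, 46, 46, 52, 46], [52, 47, 42, 47, 47, 53, 41, 54], [48, 48, 53,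 43, 55, 42, 48, 56], [49, 49, 54, 44, 49, 56, 49, 42], [50, 45, 50, 56, 50, 44, 57, 43], [51, 57, 51, 51, 51, 51, 45, 51], [47, 52, 52, 52, 52, 58, 46, 59], [58, 53, 48, 53, 60, 47, 53, 61], [59, 54, 49, 54, 54, 61, 54, 47], [55, 55, 60, 55, 48, 55, 55, 62], [56, 56, 61, 50, 62, 49, 63, 48], [57, 51, 57, 63, 57, 57, 50, 57], [53, 58, 58, 58, 64, 52, 58, 65], [54, 59, 59, 59, 59, 65, 59, 52], [64, 60, 55, 66, 53, 60, 60, 67], [65, 61, 56, 61, 67, 54, 68, 53], [62, 62, 67, 62, 56, 62, 69, 55], [63, 63, 68, 57, 69, 63, 56, 63], [60, 64, 64, 70, 58, 64, 64, 71], [61, 65, 65, 65, 71, 59, 72, 58], [70, 73, 66, 60, 66, 66, 66, 74], [71, 67, 62, 74, 61, 67, 75, 60], [72, 68, 63, 68, 75, 68, 61, 68], [69, 69, 75, 69, 63, 76, 62, 69], [66, 77, 78, 64, 70, 70, 70, 79], [67, 71, 71, 79, 65, 71, 80, 64], [68, 72, 72,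 72, 80, 72, 65, 72], [77, 66, 73, 73, 73, 73, 73, 81], [79, 81, 74, 67, 74, 74, 82, 66], [80, 75, 69, 82, 68, 83, 67, 75], [76, 76, 83, 76, 76, 69, 76, 76], [73, 70, 84, 77, 77, 77, 77, 85], [78, 84, 70, 78, 78, 78, 78, 86], [74, 85, 86, 71, 79, 79, 87, 70], [75, 80, 80, 87, 72, 88, 71, 80], [85, 74, 81, 81, 81, 81, 89, 73], [87, 89, 82, 75, 82, 90, 74, 82], [88, 83, 76, 90, 83, 75, 83, 83], [84, 78, 77, 91, 84, 84, 84, 92], [81, 79, 92, 85, 85, 85, 93, 77], [86, 92, 79, 86, 86, 86, 94, 78], [82, 93, 94, 80, 87, 95, 79, 87], [83, 88, 88, 95, 88, 80, 88, 88], [93, 82, 89, 89, 89, 96, 81, 89], [95, 96, 90, 83, 97, 82, 90, 90], [91, 91, 91, 84, 98, 91, 91, 99], [92, 86, 85, 99, 92, 92, 100, 84], [89, 87, 100, 93, 93, 101, 85, 93], [94, 100, 87, 94, 94, 102, 86, 94], [90, 101, 102, 88, 103, 87, 95, 95], [101,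 90, 96, 96, 104, 89, 96, 96], [103, 104, 97, 97, 90, 97, 97, 97], [98, 98, 98, 98, 91, 105, 98, 106], [99, 99, 99, 92, 106, 99, 107, 91], [100, 94, 93, 107, 100, 108, 92, 100], [96, 95, 108, 101, 109, 93, 101, 101], [102, 108, 95, 102, 110, 94, 102, 102], [97, 109, 110, 103, 95, 103, 103, 103], [109, 97, 104, 111, 96, 104, 104, 104], [105, 105, 105, 105, 105, 98, 112, 113], [106, 106, 106, 106, 99, 113, 114, 98], [107, 107, 107, 100, 114, 115, 99, 107], [108, 102, 101, 115, 116, 100, 108, 108], [104, 103, 116, 117, 101, 109, 109, 109], [110, 116, 103, 118, 102, 110, 110, 110], [117, 111, 119, 104, 111, 111, 111, 111], [112, 112, 112, 112, 112, 112, 105, 120], [113, 113, 113, 113, 113, 106, 121, 105], [114, 114, 114, 114, 107, 122, 106, 114], [115, 115, 115, 108, 123, 107, 115, 115], [116, 110, 109, 124, 108,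 116, 116, 116], [111, 117, 125, 109, 117, 117, 117, 117], [118, 126, 118, 110, 118, 118, 118, 118], [127, 119, 111, 119, 119, 119, 119, 119], [120, 120, 120, 120, 120, 120, 128, 112], [121, 121, 121, 121, 121, 129, 113, 128], [122, 122, 122, 122, 130, 114, 129, 122], [123, 123, 123, 131, 115, 130, 123, 123], [124, 132, 133, 116, 131, 124, 124, 124], [134, 125, 117, 133, 125, 125, 125, 125], [126, 118, 126, 132, 126, 126, 126, 126], [119, 127, 134, 127, 127, 127, 127, 127], [128, 128, 128, 128, 128, 135, 120, 121], [129, 129, 129, 129, 136, 121, 122, 135], [130, 130, 130, 137, 122, 123, 136, 130], [131, 138, 139, 123, 124, 137, 131, 131], [132, 124, 140, 126, 138, 132, 132, 132], [141, 140, 124, 125, 139, 133, 133, 133], [125, 134, 127, 141, 134, 134, 134, 134], [135, 135, 135, 135, 142, 128, 135, 129], [136,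 136, 136, 143, 129, 136, 130, 142], [137, 144, 145, 130, 137, 131, 143, 137], [138, 131, 146, 138, 132, 144, 138, 138], [147, 146, 131, 139, 133, 145, 139, 139], [148, 133, 132, 140, 146, 140, 140, 140], [133, 148, 141, 134, 147, 141, 141, 141], [142, 142, 142, 149, 135, 142, 142, 136], [143, 150, 151, 136, 143, 143, 137, 149], [144, 137, 152, 144, 144, 138, 150, 144], [153, 152, 137, 145, 145, 139, 151, 145], [155, 139, 138, 154, 140, 152, 146, 146], [139, 155, 147, 147, 141, 153, 147, 147], [140, 141, 148, 148, 155, 148, 148, 148], [149, 156, 157, 142, 149, 149, 149, 143], [150, 143, 158, 150, 150, 150, 144, 156], [159, 158, 143, 151, 151, 151, 145, 157], [161, 145, 144, 160, 152, 146, 158, 152], [145, 161, 153, 153, 153, 147, 159, 153], [162, 154, 154, 146, 154, 160, 154, 154], [146, 147, 155, 162, 148,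 161, 155, 155], [156, 149, 163, 156, 156, 156, 156, 150], [164, 163, 149, 157, 157, 157, 157, 151], [166, 151, 150, 165, 158, 158, 152, 163], [151, 166, 159, 159, 159, 159, 153, 164], [168, 160, 160, 152, 167, 154, 165, 160], [152, 153, 161, 168, 161, 155, 166, 161], [154, 162, 169, 155, 162, 168, 162, 162], [171, 157, 156, 170, 163, 163, 163, 158], [157, 171, 164, 164, 164, 164, 164, 159], [173, 165, 165, 158, 172, 165, 160, 170], [158, 159, 166, 173, 166, 166, 161, 171], [174, 167, 167, 167, 160, 167, 172, 167], [160, 168, 175, 161, 174, 162, 173, 168], [169, 169, 162, 169, 169, 175, 169, 169], [177, 170, 170, 163, 176, 170, 170, 165], [163, 164, 171, 177, 171, 171, 171, 166], [178, 172, 172, 172, 165, 179, 167, 176], [165, 173, 180, 166, 178, 173, 168, 177], [167, 174, 181, 174, 168, 174, 178, 174], [175,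 175, 168, 175, 181, 169, 180, 175], [182, 176, 176, 176, 170, 183, 176, 172], [170, 177, 184, 171, 182, 177, 177, 173], [172, 178, 185, 178, 173, 186, 174, 182], [186, 179, 179, 179, 179, 172, 179, 183], [180, 180, 173, 180, 185, 180, 175, 184], [181, 181, 174, 187, 175, 181, 185, 181], [176, 182, 188, 182, 177, 189, 182, 178], [189, 183, 183, 183, 183, 176, 190, 179], [184, 184, 177, 184, 188, 184, 184, 180], [185, 185, 178, 191, 180, 192, 181, 188], [179, 186, 192, 186, 186, 178, 186, 189], [187, 193, 187, 181, 187, 187, 191, 187], [188, 188, 182, 194, 184, 195, 188, 185], [183, 189, 195, 189, 189, 182, 196, 186], [196, 190, 190, 190, 190, 190, 183, 190], [191, 197, 191, 185, 191, 198, 187, 194], [192, 192, 186, 198, 192, 185, 192, 195], [193, 187, 193, 193, 193, 193, 197, 193], [194, 199, 194, 188, 194,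 200, 194, 191], [195, 195, 189, 200, 195, 188, 201, 192], [190, 196, 201, 196, 196, 196, 189, 196], [197, 191, 197, 197, 197, 202, 193, 199], [198, 202, 198, 192, 203, 191, 198, 200], [199, 194, 199, 199, 199, 204, 199, 197], [200, 204, 200, 195, 205, 194, 206, 198], [201, 201, 196, 206, 201, 201, 195, 201], [202, 198, 202, 202, 207, 197, 202, 204], [203, 207, 203, 203, 198, 203, 203, 205], [204, 200, 204, 204, 208, 199, 209, 202], [205, 208, 205, 205, 200, 205, 210, 203], [206, 209, 206, 201, 210, 206, 200, 206], [207, 203, 207, 211, 202, 207, 207, 208], [208, 205, 208, 212, 204, 208, 213, 207], [209, 206, 209, 209, 213, 209, 204, 209], [210, 213, 210, 210, 206, 214, 205, 210], [211, 211, 215, 207, 211, 211, 211, 212], [212, 212, 216, 208, 212, 212, 217, 211], [213, 210, 213, 217, 209, 218, 208, 213], [214,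 218, 214, 214, 214, 210, 214, 214], [219, 215, 211, 215, 215, 215, 215, 216], [220, 216, 212, 216, 216, 216, 221, 215], [217, 217, 221, 213, 217, 222, 212, 217], [218, 214, 218, 222, 218, 213, 218, 218], [215, 219, 219, 219, 219, 219, 219, 220], [216, 220, 220, 220, 220, 220, 223, 219], [223, 221, 217, 221, 221, 224, 216, 221], [222, 222, 224, 218, 225, 217, 222, 222], [221, 223, 223, 223, 223, 226, 220, 223], [226, 224, 222, 224, 227, 221, 224, 224], [225, 225, 227, 225, 222, 225, 225, 225], [224, 226, 226, 226, 228, 223, 226, 226], [228, 227, 225, 229, 224, 227, 227, 227], [227, 228, 228, 230, 226, 228, 228, 228], [230, 231, 229, 227, 229, 229, 229, 229], [229, 232, 233, 228, 230, 230, 230, 230], [232, 229, 231, 231, 231, 231, 231, 231], [231, 230, 234, 232, 232, 232, 232, 232], [233, 234, 230, 233, 233,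 233, 233, 233], [234, 233, 232, 235, 234, 234, 234, 234], [235, 235, 235, 234, 236, 235, 235, 235], [236, 236, 236, 236, 235, 237, 236, 236], [237, 237, 237, 237, 237, 236, 238, 237], [238, 238, 238, 238, 238, 238, 237, 239], [239, 239, 239, 239, 239, 239, 239, 238]]

set_option maxRecDepth 1000000 in
def tcRk_E8_8 : List (List ℕ) := [[0, 0, 0, 0, 0, 0, 0, 0], [5, 3, 4, 2, 1, 6, 0, 0], [12, 10, 11, 9, 8, 0, 0, 7], [18, 16, 17, 15, 0, 0, 13, 19], [23, 21, 22, 0, 0, 14, 24, 25], [28, 0, 0, 0, 20, 29, 30, 31], [36, 0, 0, 26, 32, 37, 38, 39], [0, 35, 0, 27, 33, 41, 42, 43], [0, 34, 0, 0, 44, 47, 48, 49], [0, 54, 40, 52, 50, 55, 56, 57], [0, 51, 45, 0, 0, 62, 63, 64], [0, 53, 46, 61, 59, 65, 66, 67], [0, 69, 70, 58, 0, 0, 74, 75], [0, 68, 0, 60, 72, 77, 78, 79], [0, 83, 0, 80, 71, 0, 89, 90], [88, 84, 86, 82,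 73, 0, 0, 92], [76, 96, 0, 81, 94, 97, 98, 99], [85, 102, 0, 0, 93, 0, 106, 107], [87, 103, 105, 101, 95, 0, 0, 109], [116, 112, 114, 111, 110, 91, 0, 0], [121, 0, 100, 0, 118, 0, 124, 125], [113, 126, 104, 123, 119, 0, 0, 128], [115, 132, 134, 131, 129, 108, 0, 0], [142, 138, 140, 137, 136, 143, 117, 0], [147, 0, 146, 120, 144, 0, 150, 151], [152, 149, 130, 122, 0, 0, 0, 154], [139, 160, 133, 159, 156, 127, 0, 0], [141, 165, 167, 164, 162, 168, 135, 0], [172, 148, 171, 157, 0, 0, 0, 174], [178, 175, 177, 155, 0, 145, 0, 181], [184, 183, 163, 158, 180, 153, 0, 0], [169, 191, 166, 190, 187, 192, 161, 0], [196, 176, 195, 0, 0, 170, 0, 199], [201, 182, 200, 188, 198, 173, 0, 0], [207, 205, 206, 186, 179, 0, 0, 0], [215, 214, 193, 189, 212, 216, 185, 0], [220, 203, 0, 0, 194, 221, 0, 224], [226, 204, 225, 223,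 197, 0, 0, 0], [234, 213, 233, 218, 232, 235, 202, 0], [244, 239, 242, 237, 210, 0, 208, 0], [245, 241, 243, 217, 211, 247, 209, 0], [0, 250, 0, 219, 249, 252, 0, 255], [256, 236, 254, 222, 229, 0, 0, 0], [266, 238, 264, 261, 230, 0, 227, 0], [267, 240, 265, 263, 231, 269, 228, 0], [277, 275, 276, 273, 248, 246, 0, 0], [0, 284, 251, 283, 281, 286, 0, 289], [288, 285, 253, 259, 282, 0, 0, 0], [298, 272, 295, 260, 0, 0, 257, 0], [299, 279, 297, 262, 270, 301, 258, 0], [307, 274, 306, 305, 271, 268, 0, 0], [317, 315, 316, 313, 311, 280, 0, 278], [287, 320, 293, 319, 318, 0, 0, 0], [328, 325, 294, 303, 0, 0, 290, 0], [330, 326, 296, 309, 324, 332, 291, 0], [336, 333, 334, 302, 0, 292, 337, 0], [343, 312, 342, 304, 339, 300, 0, 0], [354, 314, 353, 352, 349, 310, 0, 308], [327, 360, 340, 358, 0, 0, 321, 0], [329,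 361, 346, 359, 357, 363, 322, 0], [366, 365, 335, 0, 0, 323, 368, 0], [373, 371, 341, 350, 370, 331, 0, 0], [382, 378, 381, 348, 338, 345, 0, 0], [389, 355, 388, 351, 385, 347, 0, 344], [367, 393, 379, 0, 0, 356, 394, 0], [372, 398, 386, 397, 396, 362, 0, 0], [403, 0, 377, 0, 364, 405, 406, 0], [411, 409, 380, 408, 369, 375, 0, 0], [418, 416, 387, 391, 415, 376, 0, 374], [424, 420, 423, 390, 384, 0, 0, 383], [404, 0, 0, 0, 392, 430, 431, 0], [410, 434, 421, 433, 395, 400, 0, 0], [417, 440, 427, 439, 438, 401, 0, 399], [443, 0, 442, 402, 441, 445, 446, 0], [451, 448, 419, 407, 413, 452, 0, 0], [459, 457, 422, 456, 414, 0, 0, 412], [469, 465, 468, 464, 426, 0, 425, 470], [444, 0, 0, 428, 471, 475, 476, 0], [449, 474, 0, 429, 472, 479, 480, 0], [450, 478, 482, 432, 436, 483, 0, 0], [458, 489, 466, 488, 437,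 0, 0, 435], [497, 447, 495, 454, 493, 498, 0, 0], [504, 501, 463, 455, 461, 0, 0, 453], [511, 509, 467, 508, 462, 0, 460, 512], [494, 473, 0, 0, 515, 518, 519, 0], [496, 477, 521, 485, 516, 522, 0, 0], [502, 527, 481, 486, 524, 528, 0, 0], [503, 531, 533, 487, 491, 0, 0, 484], [510, 539, 514, 538, 492, 0, 490, 540], [545, 500, 543, 506, 541, 0, 0, 499], [552, 549, 513, 507, 0, 0, 505, 553], [558, 525, 517, 0, 0, 559, 560, 0], [542, 526, 520, 562, 557, 563, 0, 0], [544, 530, 568, 535, 565, 0, 0, 523], [550, 573, 532, 536, 570, 0, 0, 529], [551, 577, 579, 537, 0, 0, 534, 580], [588, 548, 586, 555, 0, 0, 546, 589], [593, 590, 592, 554, 0, 547, 595, 596], [600, 598, 599, 556, 0, 0, 602, 0], [605, 571, 566, 561, 604, 606, 0, 0], [585, 572, 567, 611, 609, 0, 0, 564], [587, 576, 616, 582, 0, 0, 569, 617], [597,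 621, 578, 583, 0, 0, 574, 622], [594, 623, 625, 581, 0, 575, 627, 628], [631, 591, 630, 0, 0, 584, 633, 634], [643, 639, 641, 638, 601, 0, 0, 0], [644, 640, 642, 608, 603, 647, 0, 0], [652, 619, 614, 610, 651, 0, 0, 607], [635, 620, 615, 657, 0, 0, 612, 658], [632, 624, 660, 0, 0, 613, 662, 663], [637, 666, 626, 0, 0, 618, 668, 669], [674, 636, 0, 0, 629, 676, 677, 678], [687, 683, 685, 681, 680, 645, 0, 0], [688, 684, 686, 682, 649, 646, 0, 0], [693, 691, 692, 654, 650, 0, 0, 648], [698, 670, 664, 656, 0, 0, 653, 699], [679, 667, 661, 0, 0, 655, 702, 703], [675, 671, 0, 0, 659, 706, 707, 708], [711, 0, 672, 0, 665, 712, 713, 714], [0, 716, 0, 673, 715, 719, 720, 721], [726, 724, 725, 723, 722, 727, 0, 0], [732, 730, 731, 729, 728, 0, 0, 690], [736, 734, 735, 733, 0, 0, 695, 737], [740, 738, 739, 0, 0, 697,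 741, 742], [743, 0, 0, 0, 700, 744, 745, 746], [0, 748, 0, 704, 747, 749, 750, 751], [754, 0, 753, 709, 752, 755, 756, 757], [0, 760, 717, 759, 758, 761, 762, 763], [768, 766, 767, 765, 764, 0, 0, 689], [774, 772, 773, 771, 0, 0, 694, 775], [780, 778, 779, 0, 0, 696, 781, 783], [786, 0, 0, 0, 701, 787, 789, 790], [797, 0, 0, 710, 792, 798, 799, 800], [0, 796, 0, 705, 794, 802, 803, 804], [0, 809, 718, 808, 805, 810, 811, 812], [817, 815, 816, 814, 0, 0, 769, 776], [821, 819, 820, 0, 0, 770, 782, 822], [826, 0, 0, 0, 777, 788, 827, 829], [833, 0, 0, 784, 791, 834, 836, 837], [0, 832, 0, 785, 793, 839, 841, 842], [0, 795, 0, 806, 845, 848, 849, 850], [0, 855, 801, 807, 852, 856, 857, 858], [864, 862, 863, 0, 0, 813, 830, 823], [867, 0, 0, 0, 818, 843, 828, 868], [872, 0, 0, 824, 846, 835, 873, 875], [0, 871,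 0, 825, 853, 840, 877, 879], [0, 831, 0, 0, 844, 883, 885, 886], [0, 890, 838, 859, 851, 891, 893, 894], [0, 854, 847, 860, 898, 900, 901, 902], [906, 0, 0, 0, 861, 907, 880, 869], [912, 0, 0, 865, 908, 887, 874, 913], [0, 911, 0, 866, 909, 895, 878, 916], [0, 870, 0, 0, 899, 884, 920, 922], [0, 927, 876, 925, 903, 892, 928, 930], [0, 888, 881, 0, 896, 934, 936, 937], [0, 889, 882, 933, 897, 938, 940, 941], [951, 0, 0, 904, 947, 952, 923, 914], [0, 950, 0, 905, 948, 954, 931, 917], [0, 910, 0, 0, 955, 942, 921, 958], [0, 964, 915, 962, 960, 944, 929, 965], [0, 924, 918, 0, 0, 935, 970, 972], [0, 926, 919, 969, 946, 939, 973, 975], [0, 943, 0, 932, 945, 981, 983, 984], [0, 949, 0, 0, 988, 991, 976, 959], [0, 996, 953, 994, 992, 997, 978, 966], [0, 961, 956, 0, 0, 985, 971, 1002], [0, 963, 957, 1001, 999, 987,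 974, 1004], [0, 1007, 1008, 967, 0, 979, 1011, 1013], [0, 977, 0, 968, 1010, 982, 1015, 1017], [980, 1024, 0, 986, 1022, 1025, 1027, 1028], [0, 993, 989, 0, 0, 1034, 1018, 1003], [0, 995, 990, 1033, 1031, 1035, 1021, 1005], [0, 1037, 1038, 998, 0, 0, 1012, 1042], [0, 1006, 0, 1000, 1040, 1029, 1016, 1045], [0, 1049, 0, 1019, 1009, 1023, 1051, 1053], [1014, 1058, 0, 1020, 1057, 1026, 1059, 1061], [0, 1065, 1066, 1030, 0, 0, 1055, 1043], [0, 1036, 0, 1032, 1068, 1071, 1062, 1046], [0, 1075, 0, 1047, 1039, 0, 1052, 1081], [1080, 1076, 1078, 1074, 1041, 0, 1054, 1083], [1044, 1088, 0, 1048, 1086, 1064, 1060, 1089], [1050, 1092, 0, 0, 1056, 1063, 1093, 1095], [0, 1101, 0, 1072, 1067, 0, 1097, 1082], [1106, 1102, 1104, 1100, 1069, 0, 0, 1084], [1070, 1111, 0, 1073, 1109, 1112, 1099, 1090], [1077, 1115, 0, 0, 1085,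 0, 1094, 1119], [1079, 1116, 1118, 1114, 1087, 0, 1096, 1121], [1128, 0, 1091, 0, 1098, 1129, 1130, 1132], [1103, 1137, 0, 0, 1108, 0, 1134, 1120], [1105, 1138, 1140, 1136, 1110, 0, 0, 1122], [1148, 1144, 1146, 1143, 1142, 1107, 0, 1124], [1152, 0, 1113, 0, 1125, 0, 1131, 1155], [1123, 1157, 1117, 1154, 1126, 0, 1133, 1158], [1164, 0, 1163, 1127, 1162, 1165, 1166, 1168], [1172, 0, 1135, 0, 1149, 0, 1170, 1156], [1145, 1175, 1139, 1174, 1150, 0, 0, 1159], [1147, 1180, 1182, 1179, 1177, 1141, 0, 1161], [1187, 0, 1186, 1151, 1184, 0, 1167, 1190], [1192, 1189, 1160, 1153, 0, 0, 1169, 1193], [1203, 0, 1202, 1171, 1200, 0, 1199, 1191], [1206, 1205, 1178, 1173, 0, 0, 0, 1194], [1183, 1213, 1181, 1212, 1209, 1176, 0, 1197], [1217, 1188, 1216, 1196, 0, 0, 1198, 1218], [1223, 1220, 1222, 1195, 0, 1185, 1224, 1225],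 [1230, 1204, 1229, 1210, 0, 0, 0, 1219], [1235, 1232, 1234, 1208, 0, 1201, 0, 1226], [1240, 1239, 1214, 1211, 1237, 1207, 0, 1227], [1245, 1221, 1244, 0, 0, 1215, 1246, 1247], [1254, 1233, 1253, 0, 0, 1228, 0, 1248], [1258, 1238, 1257, 1242, 1256, 1231, 0, 1249], [1263, 1261, 1262, 1241, 1236, 0, 0, 1251], [1267, 1250, 0, 0, 1243, 1268, 1269, 1270], [1274, 1259, 0, 0, 1252, 1275, 0, 1271], [1279, 1260, 1278, 1277, 1255, 0, 0, 1272], [1288, 1286, 1287, 1284, 1265, 0, 1264, 1289], [0, 1291, 0, 1266, 1290, 1293, 1294, 1295], [0, 1299, 0, 1273, 1298, 1301, 0, 1296], [1304, 1283, 1303, 1276, 1281, 0, 0, 1297], [1310, 1285, 1309, 1308, 1282, 0, 1280, 1311], [0, 1315, 1292, 1314, 1313, 1316, 1317, 1318], [0, 1324, 1300, 1323, 1321, 1326, 0, 1319], [1328, 1325, 1302, 1306, 1322, 0, 0, 1320], [1334, 1312, 1333, 1307,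 0, 0, 1305, 1335], [1327, 1341, 1331, 1340, 1339, 0, 0, 1338], [1346, 1344, 1332, 1337, 0, 0, 1329, 1347], [1351, 1348, 1349, 1336, 0, 1330, 1352, 1353], [1345, 1357, 1354, 1356, 0, 0, 1342, 1358], [1361, 1360, 1350, 0, 0, 1343, 1363, 1364], [1362, 1368, 1366, 0, 0, 1355, 1369, 1370], [1372, 0, 1365, 0, 1359, 1374, 1375, 1376], [1373, 0, 0, 0, 1367, 1379, 1380, 1381], [1384, 0, 1383, 1371, 1382, 1386, 1387, 1388], [1385, 0, 0, 1377, 1390, 1394, 1395, 1396], [1389, 1393, 0, 1378, 1391, 1397, 1398, 1399], [1400, 1392, 0, 0, 1401, 1403, 1404, 1405], [1408, 1406, 1402, 0, 0, 1409, 1410, 1411], [1414, 1412, 1413, 1407, 0, 0, 1416, 1417], [1421, 1419, 1420, 1418, 1415, 0, 0, 1423], [1428, 1426, 1427, 1425, 1424, 1422, 0, 0], [1434, 1432, 1433, 1431, 1430, 1435, 1429, 0]]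

set_option maxRecDepth 1000000 in
def tcJs_E8_8 : List (List (List ℕ)) := [[[2], [2], [2], [2], [2], [2], [2], [0]], [[3, 0, 7, 0, 2], [3, 1, 7, 0, 2], [3, 2, 7, 0, 2], [3, 3, 7, 0, 2], [3, 4, 7, 0, 2], [3, 5, 7, 0, 2], [0], [1]], [[3, 0, 6, 1, 2], [3, 1, 6, 1, 2], [3, 2, 6, 1, 2], [3, 3, 6, 1, 2], [3, 4, 6, 1, 2], [0], [1], [3, 6, 7, 0, 3]], [[3, 0, 5, 2, 2], [3, 1, 5, 2, 2], [3, 2, 5, 2, 2], [3, 3, 5, 2, 2], [0], [1], [3, 5, 6, 1, 3], [3, 5, 7, 2, 1]], [[3, 4, 0, 3, 1], [3, 4, 1, 3, 1], [3, 4, 2, 3, 1], [0], [1], [3, 4, 5, 2, 3], [3, 4, 6, 3, 1], [3, 4, 7, 3, 1]], [[3, 3, 0, 4, 1], [0], [0], [1], [3, 4, 3, 3, 2], [3, 3, 5, 4, 1], [3, 3, 6, 4, 1], [3, 3, 7, 4, 1]], [[3, 1, 0, 5, 1], [1], [0], [3, 3, 1, 4, 2], [3, 4, 1, 5, 2], [3, 1, 5, 5, 1], [3, 1, 6, 5, 1], [3, 1, 7, 5, 1]], [[0], [4], [1], [3, 3, 2,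 4, 2], [3, 4, 2, 5, 2], [3, 2, 5, 5, 1], [3, 2, 6, 5, 1], [3, 2, 7, 5, 1]], [[0], [3, 1, 2, 5, 2], [1], [0], [3, 4, 2, 6, 2], [3, 2, 5, 6, 1], [3, 2, 6, 6, 1], [3, 2, 7, 6, 1]], [[1], [4], [3, 2, 0, 5, 2], [3, 3, 0, 7, 2], [3, 4, 0, 7, 2], [3, 0, 5, 7, 1], [3, 0, 6, 7, 1], [3, 0, 7, 7, 1]], [[0], [3, 3, 1, 7, 3], [3, 3, 2, 6, 3], [1], [0], [3, 3, 5, 8, 1], [3, 3, 6, 8, 1], [3, 3, 7, 8, 1]], [[1], [3, 1, 0, 7, 2], [3, 2, 0, 6, 2], [4], [3, 4, 0, 8, 2], [3, 0, 5, 8, 1], [3, 0, 6, 8, 1], [3, 0, 7, 8, 1]], [[0], [3, 4, 1, 10, 1], [3, 4, 2, 10, 1], [3, 4, 3, 8, 3], [1], [0], [3, 4, 6, 10, 1], [3, 4, 7, 10, 1]], [[1], [3, 3, 1, 9, 3], [0], [3, 3, 0, 8, 2], [4], [3, 0, 5, 10, 1], [3, 0, 6, 10, 1], [3, 0, 7, 10, 1]], [[1], [3, 1, 0, 12, 2], [0], [3, 4, 3, 11, 3], [3, 4, 0, 10, 2], [0], [3, 0, 6, 12, 1], [3, 0, 7,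 12, 1]], [[4], [3, 1, 5, 12, 2], [3, 2, 5, 12, 2], [3, 3, 5, 12, 2], [3, 4, 5, 10, 2], [1], [0], [3, 5, 7, 12, 1]], [[3, 2, 0, 10, 3], [3, 1, 2, 13, 2], [1], [3, 3, 2, 11, 2], [4], [3, 2, 5, 13, 1], [3, 2, 6, 13, 1], [3, 2, 7, 13, 1]], [[3, 2, 0, 12, 3], [3, 1, 2, 14, 2], [1], [0], [3, 4, 2, 13, 2], [0], [3, 2, 6, 14, 1], [3, 2, 7, 14, 1]], [[3, 0, 5, 12, 2], [3, 1, 5, 14, 2], [4], [3, 3, 5, 14, 2], [3, 4, 5, 13, 2], [1], [0], [3, 5, 7, 14, 1]], [[4], [3, 1, 6, 15, 2], [3, 2, 6, 15, 2], [3, 3, 6, 15, 2], [3, 4, 6, 15, 2], [3, 5, 6, 12, 2], [1], [0]], [[3, 3, 0, 17, 1], [0], [3, 3, 2, 14, 3], [1], [3, 4, 3, 16, 2], [0], [3, 3, 6, 17, 1], [3, 3, 7, 17, 1]], [[3, 2, 0, 15, 3], [3, 1, 5, 17, 2], [3, 2, 5, 14, 2], [4], [3, 4, 5, 16, 2], [1], [0], [3, 5, 7, 17, 1]], [[3, 0, 6, 15, 2], [3, 1, 6, 18, 2], [4], [3,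 3, 6, 18, 2], [3, 4, 6, 18, 2], [3, 5, 6, 14, 2], [1], [0]], [[4], [3, 1, 7, 19, 2], [3, 2, 7, 19, 2], [3, 3, 7, 19, 2], [3, 4, 7, 19, 2], [3, 5, 7, 19, 2], [3, 6, 7, 15, 2], [1]], [[3, 1, 0, 20, 1], [1], [3, 1, 2, 20, 1], [3, 3, 1, 17, 2], [3, 4, 1, 20, 2], [0], [3, 1, 6, 20, 1], [3, 1, 7, 20, 1]], [[3, 0, 5, 20, 2], [4], [3, 3, 2, 18, 3], [3, 3, 5, 17, 2], [0], [1], [0], [3, 5, 7, 20, 1]], [[3, 2, 0, 19, 3], [3, 1, 6, 21, 2], [3, 2, 6, 18, 2], [4], [3, 4, 6, 21, 2], [3, 5, 6, 17, 2], [1], [0]], [[3, 0, 7, 19, 2], [3, 1, 7, 22, 2], [4], [3, 3, 7, 22, 2], [3, 4, 7, 22, 2], [3, 5, 7, 22, 2], [3, 6, 7, 18, 2], [1]], [[3, 0, 5, 24, 2], [3, 1, 5, 20, 2], [3, 2, 5, 24, 2], [3, 3, 1, 21, 2], [0], [1], [0], [3, 5, 7, 24, 1]], [[3, 4, 0, 25, 1], [3, 4, 1, 25, 1], [3, 4, 2, 25, 1], [3, 4, 3, 21, 3], [1], [3, 4, 5,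 20, 3], [0], [3, 4, 7, 25, 1]], [[3, 0, 6, 25, 2], [4], [3, 3, 2, 22, 3], [3, 3, 6, 21, 2], [4], [3, 5, 6, 20, 2], [1], [0]], [[3, 2, 0, 23, 3], [3, 1, 7, 26, 2], [3, 2, 7, 22, 2], [4], [3, 4, 7, 26, 2], [3, 5, 7, 26, 2], [3, 6, 7, 21, 2], [1]], [[3, 4, 0, 28, 1], [4], [3, 4, 2, 28, 1], [0], [1], [3, 4, 5, 24, 3], [0], [3, 4, 7, 28, 1]], [[3, 0, 6, 28, 2], [3, 1, 6, 25, 2], [3, 2, 6, 28, 2], [3, 3, 1, 26, 2], [4], [3, 5, 6, 24, 2], [1], [0]], [[3, 0, 6, 29, 2], [4], [3, 2, 6, 29, 2], [3, 4, 3, 26, 3], [3, 4, 6, 25, 2], [0], [1], [0]], [[3, 0, 7, 30, 2], [4], [3, 3, 2, 27, 3], [3, 3, 7, 26, 2], [4], [3, 5, 7, 30, 2], [3, 6, 7, 25, 2], [1]], [[3, 3, 0, 32, 1], [3, 3, 1, 29, 3], [0], [1], [3, 4, 3, 28, 2], [3, 3, 5, 32, 1], [0], [3, 3, 7, 32, 1]], [[3, 0, 6, 32, 2], [3, 1, 6, 29, 2], [3, 2, 6, 32, 2], [4], [3,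 4, 6, 28, 2], [0], [1], [0]], [[3, 0, 7, 33, 2], [3, 1, 7, 30, 2], [3, 2, 7, 33, 2], [3, 3, 1, 31, 2], [4], [3, 5, 7, 33, 2], [3, 6, 7, 28, 2], [1]], [[3, 0, 5, 34, 2], [4], [3, 2, 5, 34, 2], [3, 3, 5, 34, 2], [3, 4, 5, 30, 2], [1], [3, 5, 6, 29, 3], [0]], [[3, 0, 7, 34, 2], [4], [3, 2, 7, 34, 2], [3, 4, 3, 31, 3], [3, 4, 7, 30, 2], [4], [3, 6, 7, 29, 2], [1]], [[0], [3, 1, 2, 36, 2], [1], [3, 3, 2, 32, 2], [3, 4, 2, 36, 2], [3, 2, 5, 36, 1], [0], [3, 2, 7, 36, 1]], [[3, 0, 6, 36, 2], [3, 3, 1, 34, 3], [4], [3, 3, 6, 32, 2], [3, 4, 3, 33, 2], [0], [1], [0]], [[3, 0, 5, 37, 2], [3, 1, 5, 34, 2], [3, 2, 5, 37, 2], [4], [3, 4, 5, 33, 2], [1], [3, 5, 6, 32, 3], [0]], [[3, 0, 7, 37, 2], [3, 1, 7, 34, 2], [3, 2, 7, 37, 2], [4], [3, 4, 7, 33, 2], [4], [3, 6, 7, 32, 2], [1]], [[3, 0, 7, 39, 2], [4], [3, 2, 7, 39,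 2], [3, 3, 7, 39, 2], [3, 4, 5, 35, 2], [3, 5, 7, 34, 2], [0], [1]], [[1], [3, 1, 0, 41, 2], [3, 2, 0, 36, 2], [3, 3, 0, 41, 2], [3, 4, 0, 41, 2], [3, 0, 5, 41, 1], [0], [3, 0, 7, 41, 1]], [[4], [3, 1, 6, 41, 2], [3, 2, 6, 36, 2], [3, 3, 2, 37, 2], [3, 4, 6, 41, 2], [0], [1], [0]], [[3, 0, 5, 42, 2], [3, 3, 1, 39, 3], [4], [3, 3, 5, 37, 2], [0], [1], [3, 5, 6, 36, 3], [0]], [[3, 0, 7, 42, 2], [3, 3, 1, 40, 3], [4], [3, 3, 7, 37, 2], [3, 4, 3, 38, 2], [4], [3, 6, 7, 36, 2], [1]], [[3, 0, 7, 43, 2], [3, 1, 7, 39, 2], [3, 2, 7, 43, 2], [4], [3, 4, 5, 38, 2], [3, 5, 7, 37, 2], [0], [1]], [[3, 0, 6, 45, 2], [4], [3, 2, 6, 45, 2], [3, 3, 6, 45, 2], [3, 4, 6, 45, 2], [3, 5, 6, 40, 2], [1], [3, 6, 7, 39, 3]], [[3, 0, 6, 41, 2], [3, 1, 6, 46, 2], [3, 2, 0, 42, 2], [3, 3, 6, 46, 2], [3, 4, 6, 46, 2], [0], [1], [0]],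 [[4], [3, 1, 5, 47, 2], [3, 2, 5, 42, 2], [3, 3, 2, 43, 2], [0], [1], [3, 5, 6, 41, 3], [0]], [[4], [3, 1, 7, 47, 2], [3, 2, 7, 42, 2], [3, 3, 2, 44, 2], [3, 4, 7, 47, 2], [4], [3, 6, 7, 41, 2], [1]], [[3, 4, 0, 48, 1], [3, 4, 1, 48, 1], [3, 4, 2, 48, 1], [3, 4, 3, 43, 3], [1], [3, 4, 5, 42, 3], [3, 4, 6, 48, 1], [0]], [[3, 0, 7, 48, 2], [3, 3, 1, 45, 3], [4], [3, 3, 7, 43, 2], [4], [3, 5, 7, 42, 2], [0], [1]], [[3, 0, 6, 50, 2], [3, 1, 6, 45, 2], [3, 2, 6, 50, 2], [4], [3, 4, 6, 50, 2], [3, 5, 6, 44, 2], [1], [3, 6, 7, 43, 3]], [[3, 0, 5, 47, 2], [3, 1, 5, 52, 2], [3, 2, 0, 48, 2], [3, 3, 5, 52, 2], [0], [1], [3, 5, 6, 46, 3], [0]], [[3, 0, 7, 47, 2], [3, 1, 7, 52, 2], [3, 2, 0, 49, 2], [3, 3, 7, 52, 2], [3, 4, 7, 52, 2], [4], [3, 6, 7, 46, 2], [1]], [[3, 4, 0, 53, 1], [3, 4, 1, 53, 1], [4], [0], [1], [3,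 4, 5, 47, 3], [3, 4, 6, 53, 1], [0]], [[4], [3, 1, 7, 53, 2], [3, 2, 7, 48, 2], [3, 3, 2, 50, 2], [4], [3, 5, 7, 47, 2], [0], [1]], [[3, 0, 7, 55, 2], [3, 1, 7, 55, 2], [4], [3, 4, 3, 50, 3], [3, 4, 7, 48, 2], [3, 4, 5, 49, 3], [0], [1]], [[3, 0, 6, 56, 2], [3, 3, 1, 51, 3], [4], [3, 3, 6, 50, 2], [4], [3, 5, 6, 49, 2], [1], [3, 6, 7, 48, 3]], [[4], [3, 4, 1, 58, 1], [3, 2, 0, 55, 2], [0], [1], [3, 4, 5, 52, 3], [3, 4, 6, 58, 1], [0]], [[3, 0, 7, 53, 2], [3, 1, 7, 58, 2], [3, 2, 0, 56, 2], [3, 3, 7, 58, 2], [4], [3, 5, 7, 52, 2], [0], [1]], [[3, 3, 0, 60, 1], [0], [3, 3, 2, 55, 3], [1], [3, 4, 3, 53, 2], [3, 3, 5, 60, 1], [3, 3, 6, 60, 1], [0]], [[4], [3, 1, 7, 60, 2], [3, 2, 7, 55, 2], [4], [3, 4, 7, 53, 2], [3, 4, 5, 54, 3], [0], [1]], [[4], [3, 1, 6, 61, 2], [3, 2, 6, 56, 2], [3, 3, 2, 57, 2], [4], [3,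 5, 6, 54, 2], [1], [3, 6, 7, 53, 3]], [[3, 0, 6, 62, 2], [3, 1, 6, 62, 2], [4], [3, 4, 3, 57, 3], [3, 4, 6, 56, 2], [0], [1], [3, 6, 7, 55, 3]], [[4], [0], [0], [1], [3, 4, 3, 58, 2], [3, 3, 5, 64, 1], [3, 3, 6, 64, 1], [0]], [[3, 0, 7, 60, 2], [3, 1, 7, 64, 2], [3, 2, 0, 62, 2], [4], [3, 4, 7, 58, 2], [3, 4, 5, 59, 3], [0], [1]], [[3, 0, 6, 61, 2], [3, 1, 6, 65, 2], [3, 2, 0, 63, 2], [3, 3, 6, 65, 2], [4], [3, 5, 6, 59, 2], [1], [3, 6, 7, 58, 3]], [[3, 1, 0, 66, 1], [1], [3, 1, 2, 66, 1], [3, 3, 1, 60, 2], [3, 4, 1, 66, 2], [3, 1, 5, 66, 1], [3, 1, 6, 66, 1], [0]], [[4], [4], [3, 3, 2, 62, 3], [3, 3, 7, 60, 2], [3, 4, 3, 61, 2], [3, 5, 7, 66, 2], [0], [1]], [[4], [3, 1, 6, 67, 2], [3, 2, 6, 62, 2], [4], [3, 4, 6, 61, 2], [0], [1], [3, 6, 7, 60, 3]], [[3, 0, 5, 69, 2], [3, 1, 5, 69, 2], [4], [3, 3, 5, 69,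 2], [3, 4, 5, 63, 2], [1], [3, 5, 6, 62, 3], [3, 5, 7, 69, 1]], [[4], [1], [0], [3, 3, 1, 64, 2], [3, 4, 1, 70, 2], [3, 1, 5, 70, 1], [3, 1, 6, 70, 1], [0]], [[3, 2, 0, 66, 3], [4], [1], [3, 3, 2, 64, 2], [3, 4, 2, 70, 2], [3, 2, 5, 70, 1], [3, 2, 6, 70, 1], [0]], [[3, 0, 7, 66, 2], [4], [4], [3, 3, 7, 64, 2], [3, 4, 3, 65, 2], [3, 5, 7, 70, 2], [0], [1]], [[3, 0, 6, 67, 2], [3, 1, 6, 71, 2], [3, 2, 0, 69, 2], [4], [3, 4, 6, 65, 2], [0], [1], [3, 6, 7, 64, 3]], [[4], [3, 1, 7, 66, 2], [3, 2, 7, 73, 2], [3, 3, 1, 67, 2], [3, 4, 7, 73, 2], [3, 5, 7, 73, 2], [0], [1]], [[4], [4], [3, 3, 2, 69, 3], [3, 3, 6, 67, 2], [3, 4, 3, 68, 2], [0], [1], [3, 6, 7, 66, 3]], [[4], [3, 1, 5, 75, 2], [3, 2, 5, 69, 2], [4], [3, 4, 5, 68, 2], [1], [3, 5, 6, 67, 3], [3, 5, 7, 75, 1]], [[3, 2, 0, 73, 3], [3, 1, 2, 70, 2], [1],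 [0], [3, 4, 2, 77, 2], [3, 2, 5, 77, 1], [3, 2, 6, 77, 1], [0]], [[3, 0, 7, 73, 2], [3, 1, 7, 70, 2], [4], [3, 3, 1, 71, 2], [3, 4, 7, 77, 2], [3, 5, 7, 77, 2], [0], [1]], [[3, 2, 0, 74, 3], [4], [3, 2, 7, 70, 2], [3, 3, 2, 71, 2], [3, 4, 7, 78, 2], [3, 5, 7, 78, 2], [0], [1]], [[3, 0, 6, 74, 2], [4], [4], [3, 3, 6, 71, 2], [3, 4, 3, 72, 2], [0], [1], [3, 6, 7, 70, 3]], [[3, 0, 5, 75, 2], [3, 1, 5, 80, 2], [3, 2, 0, 76, 2], [4], [3, 4, 5, 72, 2], [1], [3, 5, 6, 71, 3], [3, 5, 7, 80, 1]], [[4], [3, 1, 6, 74, 2], [3, 2, 6, 81, 2], [3, 3, 1, 75, 2], [3, 4, 6, 81, 2], [0], [1], [3, 6, 7, 73, 3]], [[4], [4], [3, 3, 2, 76, 3], [3, 3, 5, 75, 2], [0], [1], [3, 5, 6, 74, 3], [3, 5, 7, 82, 1]], [[3, 3, 0, 84, 1], [3, 3, 1, 78, 3], [3, 3, 2, 77, 3], [1], [0], [3, 3, 5, 84, 1], [3, 3, 6, 84, 1], [0]], [[3, 2, 0, 81,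 3], [3, 1, 7, 78, 2], [3, 2, 7, 77, 2], [4], [3, 4, 7, 84, 2], [3, 5, 7, 84, 2], [0], [1]], [[3, 0, 6, 81, 2], [3, 1, 6, 79, 2], [4], [3, 3, 1, 80, 2], [3, 4, 6, 85, 2], [0], [1], [3, 6, 7, 77, 3]], [[3, 2, 0, 82, 3], [4], [3, 2, 6, 79, 2], [3, 3, 2, 80, 2], [3, 4, 6, 86, 2], [0], [1], [3, 6, 7, 78, 3]], [[3, 0, 5, 82, 2], [4], [4], [3, 3, 5, 80, 2], [0], [1], [3, 5, 6, 79, 3], [3, 5, 7, 87, 1]], [[4], [3, 1, 5, 82, 2], [3, 2, 5, 89, 2], [3, 3, 1, 83, 2], [0], [1], [3, 5, 6, 81, 3], [3, 5, 7, 89, 1]], [[3, 4, 0, 90, 1], [3, 4, 1, 90, 1], [3, 4, 2, 90, 1], [3, 4, 3, 83, 3], [1], [3, 4, 5, 82, 3], [3, 4, 6, 90, 1], [3, 4, 7, 90, 1]], [[3, 4, 0, 91, 1], [3, 4, 1, 91, 1], [3, 4, 2, 91, 1], [3, 4, 3, 84, 3], [1], [0], [3, 4, 6, 91, 1], [0]], [[3, 0, 7, 91, 2], [3, 3, 1, 86, 3], [3, 3, 2, 85, 3], [3, 3, 7, 84,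 2], [4], [3, 5, 7, 91, 2], [0], [1]], [[3, 2, 0, 89, 3], [3, 1, 6, 86, 2], [3, 2, 6, 85, 2], [4], [3, 4, 6, 92, 2], [0], [1], [3, 6, 7, 84, 3]], [[3, 0, 5, 89, 2], [3, 1, 5, 87, 2], [4], [3, 3, 1, 88, 2], [0], [1], [3, 5, 6, 85, 3], [3, 5, 7, 93, 1]], [[3, 2, 0, 90, 3], [4], [3, 2, 5, 87, 2], [3, 3, 2, 88, 2], [0], [1], [3, 5, 6, 86, 3], [3, 5, 7, 94, 1]], [[4], [3, 4, 1, 95, 1], [3, 4, 2, 95, 1], [3, 4, 3, 88, 3], [1], [3, 4, 5, 87, 3], [3, 4, 6, 95, 1], [3, 4, 7, 95, 1]], [[3, 4, 0, 96, 1], [4], [3, 4, 2, 96, 1], [0], [1], [3, 4, 5, 89, 3], [3, 4, 6, 96, 1], [3, 4, 7, 96, 1]], [[3, 0, 5, 98, 2], [3, 1, 5, 98, 2], [3, 2, 5, 98, 2], [3, 3, 5, 98, 2], [3, 4, 5, 91, 2], [1], [0], [0]], [[3, 0, 7, 98, 2], [3, 1, 7, 98, 2], [3, 2, 7, 98, 2], [3, 4, 3, 92, 3], [3, 4, 7, 91, 2], [4], [0], [1]], [[3, 0, 6, 99, 2],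 [3, 3, 1, 94, 3], [3, 3, 2, 93, 3], [3, 3, 6, 92, 2], [4], [0], [1], [3, 6, 7, 91, 3]], [[3, 2, 0, 96, 3], [3, 1, 5, 94, 2], [3, 2, 5, 93, 2], [4], [0], [1], [3, 5, 6, 92, 3], [3, 5, 7, 100, 1]], [[4], [4], [3, 4, 2, 101, 1], [0], [1], [3, 4, 5, 93, 3], [3, 4, 6, 101, 1], [3, 4, 7, 101, 1]], [[3, 2, 0, 97, 3], [3, 4, 1, 102, 1], [4], [0], [1], [3, 4, 5, 94, 3], [3, 4, 6, 102, 1], [3, 4, 7, 102, 1]], [[3, 3, 0, 104, 1], [3, 3, 1, 97, 3], [0], [1], [3, 4, 3, 96, 2], [3, 3, 5, 104, 1], [3, 3, 6, 104, 1], [3, 3, 7, 104, 1]], [[3, 0, 6, 105, 2], [3, 1, 6, 105, 2], [3, 2, 6, 105, 2], [3, 3, 6, 105, 2], [3, 4, 6, 105, 2], [3, 5, 6, 98, 2], [1], [0]], [[3, 0, 7, 105, 2], [3, 1, 7, 105, 2], [3, 2, 7, 105, 2], [3, 3, 7, 105, 2], [3, 4, 5, 99, 2], [3, 5, 7, 98, 2], [0], [1]], [[3, 0, 6, 106, 2], [3, 1, 6, 106, 2], [3,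 2, 6, 106, 2], [3, 4, 3, 100, 3], [3, 4, 6, 99, 2], [0], [1], [3, 6, 7, 98, 3]], [[3, 0, 5, 107, 2], [3, 3, 1, 102, 3], [3, 3, 2, 101, 3], [3, 3, 5, 100, 2], [0], [1], [3, 5, 6, 99, 3], [3, 5, 7, 107, 1]], [[3, 2, 0, 104, 3], [4], [4], [0], [1], [3, 4, 5, 100, 3], [3, 4, 6, 108, 1], [3, 4, 7, 108, 1]], [[4], [3, 3, 1, 103, 3], [0], [1], [3, 4, 3, 101, 2], [3, 3, 5, 109, 1], [3, 3, 6, 109, 1], [3, 3, 7, 109, 1]], [[3, 3, 0, 110, 1], [0], [3, 3, 2, 103, 3], [1], [3, 4, 3, 102, 2], [3, 3, 5, 110, 1], [3, 3, 6, 110, 1], [3, 3, 7, 110, 1]], [[0], [3, 1, 2, 111, 2], [1], [3, 3, 2, 104, 2], [3, 4, 2, 111, 2], [3, 2, 5, 111, 1], [3, 2, 6, 111, 1], [3, 2, 7, 111, 1]], [[3, 0, 7, 112, 2], [3, 1, 7, 112, 2], [3, 2, 7, 112, 2], [3, 3, 7, 112, 2], [3, 4, 7, 112, 2], [3, 5, 7, 112, 2], [0], [1]], [[3, 0, 6, 113, 2], [3,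 1, 6, 113, 2], [3, 2, 6, 113, 2], [3, 3, 6, 113, 2], [3, 4, 6, 113, 2], [0], [1], [4]], [[3, 0, 5, 114, 2], [3, 1, 5, 114, 2], [3, 2, 5, 114, 2], [3, 3, 5, 114, 2], [0], [1], [4], [3, 5, 7, 114, 1]], [[3, 4, 0, 115, 1], [3, 4, 1, 115, 1], [3, 4, 2, 115, 1], [0], [1], [4], [3, 4, 6, 115, 1], [3, 4, 7, 115, 1]], [[3, 3, 0, 116, 1], [0], [0], [1], [3, 4, 3, 108, 2], [3, 3, 5, 116, 1], [3, 3, 6, 116, 1], [3, 3, 7, 116, 1]], [[0], [3, 1, 2, 117, 2], [1], [3, 3, 2, 109, 2], [3, 4, 2, 117, 2], [3, 2, 5, 117, 1], [3, 2, 6, 117, 1], [3, 2, 7, 117, 1]], [[3, 1, 0, 118, 1], [1], [3, 1, 2, 118, 1], [3, 3, 1, 110, 2], [3, 4, 1, 118, 2], [3, 1, 5, 118, 1], [3, 1, 6, 118, 1], [3, 1, 7, 118, 1]], [[1], [3, 1, 0, 119, 2], [3, 2, 0, 111, 2], [3, 3, 0, 119, 2], [3, 4, 0, 119, 2], [3, 0, 5, 119, 1], [3, 0, 6, 119, 1], [3, 0,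 7, 119, 1]], [[3, 0, 6, 120, 2], [3, 1, 6, 120, 2], [3, 2, 6, 120, 2], [3, 3, 6, 120, 2], [3, 4, 6, 120, 2], [0], [1], [3, 6, 7, 105, 3]], [[3, 0, 5, 121, 2], [3, 1, 5, 121, 2], [3, 2, 5, 121, 2], [3, 3, 5, 121, 2], [0], [1], [3, 5, 6, 106, 3], [3, 5, 7, 121, 1]], [[3, 4, 0, 122, 1], [3, 4, 1, 122, 1], [3, 4, 2, 122, 1], [0], [1], [3, 4, 5, 107, 3], [3, 4, 6, 122, 1], [3, 4, 7, 122, 1]], [[3, 3, 0, 123, 1], [0], [0], [1], [4], [3, 3, 5, 123, 1], [3, 3, 6, 123, 1], [3, 3, 7, 123, 1]], [[3, 1, 0, 124, 1], [1], [0], [4], [4], [3, 1, 5, 124, 1], [3, 1, 6, 124, 1], [3, 1, 7, 124, 1]], [[0], [4], [1], [4], [4], [3, 2, 5, 124, 1], [3, 2, 6, 124, 1], [3, 2, 7, 124, 1]], [[1], [3, 1, 0, 125, 2], [4], [4], [3, 4, 0, 125, 2], [3, 0, 5, 125, 1], [3, 0, 6, 125, 1], [3, 0, 7, 125, 1]], [[3, 0, 5, 128, 2], [3, 1, 5, 128,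 2], [3, 2, 5, 128, 2], [3, 3, 5, 128, 2], [0], [1], [3, 5, 6, 120, 3], [4]], [[3, 4, 0, 129, 1], [3, 4, 1, 129, 1], [3, 4, 2, 129, 1], [0], [1], [3, 4, 5, 121, 3], [4], [3, 4, 7, 129, 1]], [[3, 3, 0, 130, 1], [0], [0], [1], [3, 4, 3, 122, 2], [4], [3, 3, 6, 130, 1], [3, 3, 7, 130, 1]], [[3, 1, 0, 131, 1], [1], [0], [3, 3, 1, 123, 2], [3, 4, 1, 124, 2], [3, 1, 5, 131, 1], [3, 1, 6, 131, 1], [3, 1, 7, 131, 1]], [[0], [4], [1], [3, 3, 2, 123, 2], [3, 4, 2, 124, 2], [3, 2, 5, 131, 1], [3, 2, 6, 131, 1], [3, 2, 7, 131, 1]], [[0], [3, 1, 2, 124, 2], [1], [3, 3, 1, 125, 2], [4], [3, 2, 5, 132, 1], [3, 2, 6, 132, 1], [3, 2, 7, 132, 1]], [[1], [4], [3, 2, 0, 124, 2], [3, 3, 0, 125, 2], [4], [3, 0, 5, 133, 1], [3, 0, 6, 133, 1], [3, 0, 7, 133, 1]], [[3, 4, 0, 135, 1], [3, 4, 1, 135, 1], [3, 4, 2, 135, 1], [0], [1],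 [3, 4, 5, 128, 3], [3, 6, 7, 130, 2], [4]], [[3, 3, 0, 136, 1], [0], [0], [1], [3, 4, 3, 129, 2], [3, 5, 6, 131, 2], [4], [3, 3, 7, 136, 1]], [[3, 1, 0, 137, 1], [1], [0], [3, 3, 1, 130, 2], [3, 4, 5, 132, 2], [4], [3, 1, 6, 137, 1], [3, 1, 7, 137, 1]], [[0], [4], [1], [3, 3, 2, 130, 2], [3, 4, 5, 133, 2], [4], [3, 2, 6, 137, 1], [3, 2, 7, 137, 1]], [[0], [3, 1, 2, 131, 2], [1], [0], [3, 4, 2, 132, 2], [3, 2, 5, 138, 1], [3, 2, 6, 138, 1], [3, 2, 7, 138, 1]], [[1], [4], [3, 2, 0, 131, 2], [3, 4, 3, 134, 3], [3, 4, 0, 133, 2], [3, 0, 5, 139, 1], [3, 0, 6, 139, 1], [3, 0, 7, 139, 1]], [[1], [3, 1, 0, 133, 2], [3, 2, 0, 132, 2], [3, 3, 1, 134, 2], [4], [3, 0, 5, 140, 1], [3, 0, 6, 140, 1], [3, 0, 7, 140, 1]], [[3, 3, 0, 142, 1], [0], [0], [1], [3, 4, 3, 135, 2], [3, 3, 5, 142, 1], [3, 6, 7, 137, 2], [4]], [[3,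 1, 0, 143, 1], [1], [0], [3, 3, 1, 136, 2], [3, 4, 1, 143, 2], [3, 5, 6, 138, 2], [4], [3, 1, 7, 143, 1]], [[0], [4], [1], [3, 3, 2, 136, 2], [3, 4, 2, 143, 2], [3, 5, 6, 139, 2], [4], [3, 2, 7, 143, 1]], [[0], [3, 1, 2, 137, 2], [1], [0], [3, 4, 5, 140, 2], [4], [3, 2, 6, 144, 1], [3, 2, 7, 144, 1]], [[1], [4], [3, 2, 0, 137, 2], [3, 3, 0, 145, 2], [3, 4, 5, 141, 2], [4], [3, 0, 6, 145, 1], [3, 0, 7, 145, 1]], [[0], [3, 3, 1, 139, 3], [3, 3, 2, 138, 3], [1], [3, 4, 3, 140, 2], [3, 3, 5, 146, 1], [3, 3, 6, 146, 1], [3, 3, 7, 146, 1]], [[1], [3, 1, 0, 139, 2], [3, 2, 0, 138, 2], [4], [3, 4, 0, 140, 2], [3, 0, 5, 146, 1], [3, 0, 6, 146, 1], [3, 0, 7, 146, 1]], [[3, 1, 0, 149, 1], [1], [0], [3, 3, 1, 142, 2], [3, 4, 1, 149, 2], [3, 1, 5, 149, 1], [3, 6, 7, 144, 2], [4]], [[0], [4], [1], [3, 3, 2, 142, 2], [3,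 4, 2, 149, 2], [3, 2, 5, 149, 1], [3, 6, 7, 145, 2], [4]], [[0], [3, 1, 2, 143, 2], [1], [0], [3, 4, 2, 150, 2], [3, 5, 6, 146, 2], [4], [3, 2, 7, 150, 1]], [[1], [4], [3, 2, 0, 143, 2], [3, 3, 0, 151, 2], [3, 4, 0, 151, 2], [3, 5, 6, 147, 2], [4], [3, 0, 7, 151, 1]], [[0], [3, 3, 1, 145, 3], [3, 3, 2, 144, 3], [1], [0], [4], [3, 3, 6, 152, 1], [3, 3, 7, 152, 1]], [[1], [3, 1, 0, 145, 2], [3, 2, 0, 144, 2], [4], [3, 4, 5, 148, 2], [4], [3, 0, 6, 152, 1], [3, 0, 7, 152, 1]], [[1], [3, 3, 1, 147, 3], [0], [3, 3, 0, 146, 2], [3, 4, 3, 148, 2], [3, 0, 5, 154, 1], [3, 0, 6, 154, 1], [3, 0, 7, 154, 1]], [[0], [3, 1, 2, 149, 2], [1], [0], [3, 4, 2, 156, 2], [3, 2, 5, 156, 1], [3, 6, 7, 152, 2], [4]], [[1], [4], [3, 2, 0, 149, 2], [3, 3, 0, 157, 2], [3, 4, 0, 157, 2], [3, 0, 5, 157, 1], [3, 6, 7, 153, 2], [4]], [[0],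 [3, 3, 1, 151, 3], [3, 3, 2, 150, 3], [1], [0], [3, 5, 6, 154, 2], [4], [3, 3, 7, 158, 1]], [[1], [3, 1, 0, 151, 2], [3, 2, 0, 150, 2], [4], [3, 4, 0, 158, 2], [3, 5, 6, 155, 2], [4], [3, 0, 7, 158, 1]], [[0], [3, 4, 1, 160, 1], [3, 4, 2, 160, 1], [3, 4, 3, 152, 3], [1], [3, 4, 5, 154, 3], [3, 4, 6, 160, 1], [3, 4, 7, 160, 1]], [[1], [3, 3, 1, 153, 3], [0], [3, 3, 0, 152, 2], [4], [4], [3, 0, 6, 160, 1], [3, 0, 7, 160, 1]], [[3, 2, 0, 154, 3], [3, 1, 2, 162, 2], [1], [3, 3, 2, 155, 2], [3, 4, 2, 162, 2], [3, 2, 5, 162, 1], [3, 2, 6, 162, 1], [3, 2, 7, 162, 1]], [[0], [3, 3, 1, 157, 3], [3, 3, 2, 156, 3], [1], [0], [3, 3, 5, 163, 1], [3, 6, 7, 160, 2], [4]], [[1], [3, 1, 0, 157, 2], [3, 2, 0, 156, 2], [4], [3, 4, 0, 163, 2], [3, 0, 5, 163, 1], [3, 6, 7, 161, 2], [4]], [[0], [3, 4, 1, 165, 1], [3, 4, 2, 165,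 1], [3, 4, 3, 158, 3], [1], [0], [4], [3, 4, 7, 165, 1]], [[1], [3, 3, 1, 159, 3], [0], [3, 3, 0, 158, 2], [4], [3, 5, 6, 162, 2], [4], [3, 0, 7, 165, 1]], [[1], [3, 1, 0, 167, 2], [0], [3, 4, 3, 161, 3], [3, 4, 0, 160, 2], [3, 4, 5, 162, 3], [3, 0, 6, 167, 1], [3, 0, 7, 167, 1]], [[3, 2, 0, 160, 3], [3, 1, 2, 168, 2], [1], [3, 3, 2, 161, 2], [4], [4], [3, 2, 6, 168, 1], [3, 2, 7, 168, 1]], [[0], [3, 4, 1, 170, 1], [3, 4, 2, 170, 1], [3, 4, 3, 163, 3], [1], [0], [3, 6, 7, 167, 2], [4]], [[1], [3, 3, 1, 164, 3], [0], [3, 3, 0, 163, 2], [4], [3, 0, 5, 170, 1], [3, 6, 7, 168, 2], [4]], [[1], [3, 1, 0, 172, 2], [0], [3, 4, 3, 166, 3], [3, 4, 0, 165, 2], [0], [4], [3, 0, 7, 172, 1]], [[4], [3, 1, 5, 172, 2], [3, 2, 5, 172, 2], [3, 3, 5, 172, 2], [3, 4, 5, 165, 2], [1], [3, 5, 6, 167, 3], [3, 5, 7, 172, 1]], [[3,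 2, 0, 165, 3], [3, 1, 2, 173, 2], [1], [3, 3, 2, 166, 2], [4], [3, 5, 6, 169, 2], [4], [3, 2, 7, 173, 1]], [[3, 2, 0, 167, 3], [3, 1, 2, 174, 2], [1], [0], [3, 4, 2, 168, 2], [3, 4, 5, 169, 3], [3, 2, 6, 174, 1], [3, 2, 7, 174, 1]], [[1], [3, 1, 0, 176, 2], [0], [3, 4, 3, 171, 3], [3, 4, 0, 170, 2], [0], [3, 6, 7, 174, 2], [4]], [[4], [3, 1, 5, 176, 2], [3, 2, 5, 176, 2], [3, 3, 5, 176, 2], [3, 4, 5, 170, 2], [1], [0], [4]], [[3, 2, 0, 170, 3], [3, 1, 2, 177, 2], [1], [3, 3, 2, 171, 2], [4], [3, 2, 5, 177, 1], [3, 6, 7, 175, 2], [4]], [[3, 2, 0, 172, 3], [3, 1, 2, 178, 2], [1], [0], [3, 4, 2, 173, 2], [0], [4], [3, 2, 7, 178, 1]], [[3, 0, 5, 172, 2], [3, 1, 5, 178, 2], [4], [3, 3, 5, 178, 2], [3, 4, 5, 173, 2], [1], [3, 5, 6, 174, 3], [3, 5, 7, 178, 1]], [[3, 3, 0, 181, 1], [0], [3, 3, 2, 174, 3], [1], [3,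 4, 3, 175, 2], [3, 3, 5, 181, 1], [3, 3, 6, 181, 1], [3, 3, 7, 181, 1]], [[3, 2, 0, 176, 3], [3, 1, 2, 182, 2], [1], [0], [3, 4, 2, 177, 2], [0], [3, 6, 7, 181, 2], [4]], [[3, 0, 5, 176, 2], [3, 1, 5, 182, 2], [4], [3, 3, 5, 182, 2], [3, 4, 5, 177, 2], [1], [0], [4]], [[4], [3, 1, 6, 183, 2], [3, 2, 6, 183, 2], [3, 3, 6, 183, 2], [3, 4, 6, 183, 2], [3, 5, 6, 176, 2], [1], [3, 6, 7, 179, 3]], [[3, 3, 0, 185, 1], [0], [3, 3, 2, 178, 3], [1], [3, 4, 3, 180, 2], [0], [4], [3, 3, 7, 185, 1]], [[3, 2, 0, 179, 3], [3, 1, 5, 185, 2], [3, 2, 5, 178, 2], [4], [3, 4, 5, 180, 2], [1], [3, 5, 6, 181, 3], [3, 5, 7, 185, 1]], [[3, 1, 0, 187, 1], [1], [3, 1, 2, 187, 1], [3, 3, 1, 181, 2], [3, 4, 1, 187, 2], [3, 1, 5, 187, 1], [3, 1, 6, 187, 1], [3, 1, 7, 187, 1]], [[3, 3, 0, 188, 1], [0], [3, 3, 2, 182, 3], [1], [3, 4, 3,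 184, 2], [0], [3, 6, 7, 187, 2], [4]], [[3, 2, 0, 183, 3], [3, 1, 5, 188, 2], [3, 2, 5, 182, 2], [4], [3, 4, 5, 184, 2], [1], [0], [4]], [[3, 0, 6, 183, 2], [3, 1, 6, 189, 2], [4], [3, 3, 6, 189, 2], [3, 4, 6, 189, 2], [3, 5, 6, 182, 2], [1], [3, 6, 7, 186, 3]], [[3, 1, 0, 191, 1], [1], [3, 1, 2, 191, 1], [3, 3, 1, 185, 2], [3, 4, 1, 191, 2], [0], [4], [3, 1, 7, 191, 1]], [[3, 0, 5, 191, 2], [4], [3, 3, 2, 186, 3], [3, 3, 5, 185, 2], [0], [1], [3, 5, 6, 187, 3], [3, 5, 7, 191, 1]], [[3, 1, 0, 194, 1], [1], [3, 1, 2, 194, 1], [3, 3, 1, 188, 2], [3, 4, 1, 194, 2], [0], [3, 6, 7, 193, 2], [4]], [[3, 0, 5, 194, 2], [4], [3, 3, 2, 189, 3], [3, 3, 5, 188, 2], [0], [1], [0], [4]], [[3, 2, 0, 190, 3], [3, 1, 6, 195, 2], [3, 2, 6, 189, 2], [4], [3, 4, 6, 195, 2], [3, 5, 6, 188, 2], [1], [3, 6, 7, 192, 3]], [[3, 0,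 5, 197, 2], [3, 1, 5, 191, 2], [3, 2, 5, 197, 2], [3, 3, 1, 192, 2], [0], [1], [3, 5, 6, 193, 3], [3, 5, 7, 197, 1]], [[3, 4, 0, 198, 1], [3, 4, 1, 198, 1], [3, 4, 2, 198, 1], [3, 4, 3, 192, 3], [1], [3, 4, 5, 191, 3], [3, 4, 6, 198, 1], [3, 4, 7, 198, 1]], [[3, 0, 5, 199, 2], [3, 1, 5, 194, 2], [3, 2, 5, 199, 2], [3, 3, 1, 195, 2], [0], [1], [0], [4]], [[3, 4, 0, 200, 1], [3, 4, 1, 200, 1], [3, 4, 2, 200, 1], [3, 4, 3, 195, 3], [1], [3, 4, 5, 194, 3], [0], [4]], [[3, 0, 6, 200, 2], [4], [3, 3, 2, 196, 3], [3, 3, 6, 195, 2], [4], [3, 5, 6, 194, 2], [1], [3, 6, 7, 198, 3]], [[3, 4, 0, 202, 1], [4], [3, 4, 2, 202, 1], [0], [1], [3, 4, 5, 197, 3], [3, 4, 6, 202, 1], [3, 4, 7, 202, 1]], [[3, 4, 0, 204, 1], [4], [3, 4, 2, 204, 1], [0], [1], [3, 4, 5, 199, 3], [0], [4]], [[3, 0, 6, 204, 2], [3, 1, 6, 200, 2], [3,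 2, 6, 204, 2], [3, 3, 1, 201, 2], [4], [3, 5, 6, 199, 2], [1], [3, 6, 7, 202, 3]], [[3, 0, 6, 205, 2], [4], [3, 2, 6, 205, 2], [3, 4, 3, 201, 3], [3, 4, 6, 200, 2], [0], [1], [3, 6, 7, 203, 3]], [[3, 3, 0, 207, 1], [3, 3, 1, 203, 3], [0], [1], [3, 4, 3, 202, 2], [3, 3, 5, 207, 1], [3, 3, 6, 207, 1], [3, 3, 7, 207, 1]], [[3, 3, 0, 208, 1], [3, 3, 1, 205, 3], [0], [1], [3, 4, 3, 204, 2], [3, 3, 5, 208, 1], [0], [4]], [[3, 0, 6, 208, 2], [3, 1, 6, 205, 2], [3, 2, 6, 208, 2], [4], [3, 4, 6, 204, 2], [0], [1], [3, 6, 7, 207, 3]], [[3, 0, 5, 210, 2], [4], [3, 2, 5, 210, 2], [3, 3, 5, 210, 2], [3, 4, 5, 206, 2], [1], [3, 5, 6, 205, 3], [3, 5, 7, 210, 1]], [[0], [3, 1, 2, 211, 2], [1], [3, 3, 2, 207, 2], [3, 4, 2, 211, 2], [3, 2, 5, 211, 1], [3, 2, 6, 211, 1], [3, 2, 7, 211, 1]], [[0], [3, 1, 2, 212, 2], [1], [3,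 3, 2, 208, 2], [3, 4, 2, 212, 2], [3, 2, 5, 212, 1], [0], [4]], [[3, 0, 6, 212, 2], [3, 3, 1, 210, 3], [4], [3, 3, 6, 208, 2], [3, 4, 3, 209, 2], [0], [1], [3, 6, 7, 211, 3]], [[3, 0, 5, 213, 2], [3, 1, 5, 210, 2], [3, 2, 5, 213, 2], [4], [3, 4, 5, 209, 2], [1], [3, 5, 6, 208, 3], [3, 5, 7, 213, 1]], [[1], [3, 1, 0, 215, 2], [3, 2, 0, 211, 2], [3, 3, 0, 215, 2], [3, 4, 0, 215, 2], [3, 0, 5, 215, 1], [3, 0, 6, 215, 1], [3, 0, 7, 215, 1]], [[1], [3, 1, 0, 216, 2], [3, 2, 0, 212, 2], [3, 3, 0, 216, 2], [3, 4, 0, 216, 2], [3, 0, 5, 216, 1], [0], [4]], [[4], [3, 1, 6, 216, 2], [3, 2, 6, 212, 2], [3, 3, 2, 213, 2], [3, 4, 6, 216, 2], [0], [1], [3, 6, 7, 215, 3]], [[3, 0, 5, 217, 2], [3, 3, 1, 214, 3], [4], [3, 3, 5, 213, 2], [0], [1], [3, 5, 6, 212, 3], [3, 5, 7, 217, 1]], [[3, 0, 6, 216, 2], [3, 1, 6, 220, 2],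 [3, 2, 0, 217, 2], [3, 3, 6, 220, 2], [3, 4, 6, 220, 2], [0], [1], [3, 6, 7, 219, 3]], [[4], [3, 1, 5, 221, 2], [3, 2, 5, 217, 2], [3, 3, 2, 218, 2], [0], [1], [3, 5, 6, 216, 3], [3, 5, 7, 221, 1]], [[3, 4, 0, 222, 1], [3, 4, 1, 222, 1], [3, 4, 2, 222, 1], [3, 4, 3, 218, 3], [1], [3, 4, 5, 217, 3], [3, 4, 6, 222, 1], [3, 4, 7, 222, 1]], [[3, 0, 5, 221, 2], [3, 1, 5, 223, 2], [3, 2, 0, 222, 2], [3, 3, 5, 223, 2], [0], [1], [3, 5, 6, 220, 3], [3, 5, 7, 223, 1]], [[3, 4, 0, 224, 1], [3, 4, 1, 224, 1], [4], [0], [1], [3, 4, 5, 221, 3], [3, 4, 6, 224, 1], [3, 4, 7, 224, 1]], [[4], [3, 4, 1, 226, 1], [3, 2, 0, 225, 2], [0], [1], [3, 4, 5, 223, 3], [3, 4, 6, 226, 1], [3, 4, 7, 226, 1]], [[3, 3, 0, 227, 1], [0], [3, 3, 2, 225, 3], [1], [3, 4, 3, 224, 2], [3, 3, 5, 227, 1], [3, 3, 6, 227, 1], [3, 3, 7, 227, 1]], [[4],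 [0], [0], [1], [3, 4, 3, 226, 2], [3, 3, 5, 228, 1], [3, 3, 6, 228, 1], [3, 3, 7, 228, 1]], [[3, 1, 0, 229, 1], [1], [3, 1, 2, 229, 1], [3, 3, 1, 227, 2], [3, 4, 1, 229, 2], [3, 1, 5, 229, 1], [3, 1, 6, 229, 1], [3, 1, 7, 229, 1]], [[4], [1], [0], [3, 3, 1, 228, 2], [3, 4, 1, 230, 2], [3, 1, 5, 230, 1], [3, 1, 6, 230, 1], [3, 1, 7, 230, 1]], [[3, 2, 0, 229, 3], [4], [1], [3, 3, 2, 228, 2], [3, 4, 2, 230, 2], [3, 2, 5, 230, 1], [3, 2, 6, 230, 1], [3, 2, 7, 230, 1]], [[3, 2, 0, 231, 3], [3, 1, 2, 230, 2], [1], [0], [3, 4, 2, 232, 2], [3, 2, 5, 232, 1], [3, 2, 6, 232, 1], [3, 2, 7, 232, 1]], [[3, 3, 0, 234, 1], [3, 3, 1, 233, 3], [3, 3, 2, 232, 3], [1], [0], [3, 3, 5, 234, 1], [3, 3, 6, 234, 1], [3, 3, 7, 234, 1]], [[3, 4, 0, 235, 1], [3, 4, 1, 235, 1], [3, 4, 2, 235, 1], [3, 4, 3, 234, 3], [1], [0], [3, 4,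 6, 235, 1], [3, 4, 7, 235, 1]], [[3, 0, 5, 236, 2], [3, 1, 5, 236, 2], [3, 2, 5, 236, 2], [3, 3, 5, 236, 2], [3, 4, 5, 235, 2], [1], [0], [3, 5, 7, 236, 1]], [[3, 0, 6, 237, 2], [3, 1, 6, 237, 2], [3, 2, 6, 237, 2], [3, 3, 6, 237, 2], [3, 4, 6, 237, 2], [3, 5, 6, 236, 2], [1], [0]], [[3, 0, 7, 238, 2], [3, 1, 7, 238, 2], [3, 2, 7, 238, 2], [3, 3, 7, 238, 2], [3, 4, 7, 238, 2], [3, 5, 7, 238, 2], [3, 6, 7, 237, 2], [1]]]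

end Cfsg.Agent.helper5.Chev
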