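import Mathlib
import Cfsg.Agent.Lib_helper5_TC2
import Cfsg.Agent.Lib_helper5_TCDE8Defs

set_option autoImplicit false

/-! Coset table certificates for the Coxeter group of type E8 (generated, helper5). -/

namespace Cfsg.Agent.helper5.Chev

open Cfsg.Lie Cfsg.Agent.helper5.TC

set_option maxRecDepth 1000000 in
set_option maxHeartbeats 0 in
theorem tcC_E8_8_3 : ((List.range 60).all fun k => Nat.ble 240 (3 * 60 + k) || rowOK tcM_E8 tcTab_E8_8 tcRk_E8_8 240 pcJ_E8_8 pcds_E8_8 pcJ_E8_7 tcJs_E8_8 (3 * 60 + k)) = true := by decide +kernel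

end Cfsg.Agent.helper5.Chev
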