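import Mathlib
import Cfsg.Agent.Lib_helper5_TC2
import Cfsg.Agent.Lib_helper5_ChevPCDF4Defs

set_option autoImplicit false

/-! Coset table certificates for the Coxeter group of type F4 (generated, helper5). -/

namespace Cfsg.Agent.helper5.Chev

open Cfsg.Lie Cfsg.Agent.helper5.TC

def tcM_F4 : List (List ℕ) := [[1, 3, 2, 2], [3, 1, 4, 2], [2, 4, 1, 3], [2, 2, 3, 1]]

set_option maxRecDepth 1000000 in
def tcTab_F4_1 : List (List ℕ) := [[1, 0, 0, 0], [0, 0, 0, 0]]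

set_option maxRecDepth 1000000 in
def tcRk_F4_1 : List (List ℕ) := [[0, 0, 0, 0], [0, 0, 0, 0]]

set_option maxRecDepth 1000000 in
def tcJs_F4_1 : List (List (List ℕ)) := [[[0], [], [], []], [[1], [], [], []]]

set_option maxRecDepth 1000000 in
def tcTab_F4_2 : List (List ℕ) := [[0, 1, 0, 0], [2, 0, 0, 0], [1, 2, 0, 0]]

set_option maxRecDepth 1000000 in
def tcRk_F4_2 : List (List ℕ) := [[0, 0, 0, 0], [0, 0, 0, 0], [0, 1, 0, 0]]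

set_option maxRecDepth 1000000 in
def tcJs_F4_2 : List (List (List ℕ)) := [[[2], [0], [], []], [[0], [1], [], []], [[1], [3, 0, 1, 0, 3], [], []]]

set_option maxRecDepth 1000000 in
def tcTab_F4_3 : List (List ℕ) := [[0, 0, 1, 0], [1, 2, 0, 0], [3, 1, 4, 0], [2, 3, 5, 0], [5, 4, 2, 0], [4, 6, 3, 0], [6, 5, 7, 0], [7, 7, 6, 0]]

set_option maxRecDepth 1000000 in
def tcRk_F4_3 : List (List ℕ) := [[0, 0, 0, 0], [1, 0, 0, 0], [0, 0, 0, 0], [0, 3, 0, 0], [5, 2, 0, 0], [4, 0, 0, 0], [7, 0, 0, 0], [8, 6, 0, 0]]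

set_option maxRecDepth 1000000 in
def tcJs_F4_3 : List (List (List ℕ)) := [[[2], [2], [0], []], [[3, 0, 2, 0, 2], [0], [1], []], [[0], [1], [0], []], [[1], [3, 0, 1, 1, 3], [0], []], [[4], [3, 1, 2, 0, 4], [1], []], [[3, 0, 2, 2, 2], [0], [1], []], [[3, 0, 1, 4, 2], [1], [0], []], [[3, 0, 2, 6, 2], [3, 1, 2, 3, 4], [1], []]]

set_option maxRecDepth 1000000 in
def tcTab_F4_4 : List (List ℕ) := [[0, 0, 0, 1], [1, 1, 2, 0], [2, 3, 1, 2], [4, 2, 5, 3], [3, 4, 6, 4], [6, 5, 3, 7], [5, 8, 4, 9], [9, 7, 7, 5], [8, 6, 10, 11], [7, 11, 9, 6], [10, 10, 8, 12], [11, 9, 13, 8], [12, 12, 14, 10], [13, 15, 11, 14], [14, 16, 12, 13], [17, 13, 15, 16], [18, 14, 19, 15], [15, 17, 17, 18], [16, 18, 20, 17], [20, 19, 16, 19], [19, 21, 18, 20], [21, 20, 22, 21], [22, 22, 21, 23], [23, 23, 23, 22]]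

set_option maxRecDepth 1000000 in
def tcRk_F4_4 : List (List ℕ) := [[0, 0, 0, 0], [1, 2, 0, 0], [4, 0, 0, 3], [0, 0, 0, 7], [0, 6, 0, 10], [9, 5, 0, 0], [8, 0, 0, 0], [16, 17, 11, 0], [14, 0, 0, 0], [15, 19, 13, 0], [21, 12, 0, 0], [20, 18, 0, 0], [25, 26, 0, 0], [27, 0, 0, 23], [28, 0, 0, 22], [0, 0, 24, 31], [0, 0, 0, 32], [0, 30, 34, 35], [0, 33, 0, 36], [39, 29, 0, 37], [38, 0, 0, 40], [42, 0, 0, 43], [44, 41, 0, 0], [46, 47, 45, 0]]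

set_option maxRecDepth 1000000 in
def tcJs_F4_4 : List (List (List ℕ)) := [[[2], [2], [2], [0]], [[3, 0, 3, 0, 2], [3, 1, 3, 0, 2], [0], [1]], [[3, 0, 2, 1, 2], [0], [1], [3, 2, 3, 0, 3]], [[0], [1], [0], [3, 1, 3, 2, 1]], [[1], [3, 0, 1, 2, 3], [0], [3, 0, 3, 3, 1]], [[4], [3, 1, 2, 1, 4], [1], [0]], [[3, 0, 2, 3, 2], [0], [1], [0]], [[4], [3, 1, 3, 5, 2], [3, 2, 3, 3, 2], [1]], [[3, 0, 1, 5, 2], [1], [0], [0]], [[3, 0, 3, 5, 2], [4], [3, 2, 3, 4, 2], [1]], [[3, 0, 2, 8, 2], [3, 1, 2, 4, 4], [1], [0]], [[3, 0, 1, 7, 2], [3, 1, 3, 6, 2], [0], [1]], [[3, 0, 3, 10, 2], [3, 1, 3, 10, 2], [0], [1]], [[3, 0, 2, 11, 2], [0], [1], [4]], [[3, 0, 2, 12, 2], [0], [1], [3, 2, 3, 8, 3]], [[0], [1], [3, 1, 2, 9, 3], [3, 1, 3, 13, 1]], [[0], [1], [0], [4]], [[1], [3, 0, 1, 13, 3], [3, 0, 2, 15, 1], [3, 0, 3, 15, 1]], [[1], [3, 0, 1, 14, 3], [0],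 [4]], [[4], [3, 1, 2, 12, 4], [1], [3, 2, 3, 15, 3]], [[3, 0, 2, 16, 2], [0], [1], [3, 2, 3, 17, 3]], [[3, 0, 1, 19, 2], [1], [0], [3, 1, 3, 20, 1]], [[3, 0, 2, 21, 2], [3, 1, 2, 18, 4], [1], [0]], [[3, 0, 3, 22, 2], [3, 1, 3, 22, 2], [3, 2, 3, 21, 2], [1]]]

end Cfsg.Agent.helper5.Chev
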