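import Mathlib
import Cfsg.Agent.Lib_helper5_TCDF4
import Cfsg.Agent.Lib_helper5_ChevPCDF4
import Cfsg.Agent.Lib_helper5_CoxCard

set_option autoImplicit false

/-! The order of the Coxeter group of type F4 (generated, helper5). -/

namespace Cfsg.Agent.helper5.Chev

open Cfsg.Lie Cfsg.Agent.helper5.TC

theorem coxMt_F4 : MtOK CoxeterMatrix.F₄ tcM_F4 := ⟨by decide, by decide, by intro x y; fin_cases x <;> fin_cases y <;> rfl⟩

set_option maxRecDepth 1000000 in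
set_option maxHeartbeats 0 in
theorem coxRel_F4 : relChk pcT_F4 48 4 tcM_F4 = true := by decide +kernel

set_option maxRecDepth 1000000 in
theorem pcLen_F4_1 : pcds_F4_1.length = 2 := by decide +kernel

set_option maxRecDepth 1000000 in
theorem pcLen_F4_2 : pcds_F4_2.length = 3 := by decide +kernel

set_option maxRecDepth 1000000 in
theorem pcLen_F4_3 : pcds_F4_3.length = 8 := by decide +kernel

set_option maxRecDepth 1000000 in
theorem pcLen_F4_4 : pcds_F4_4.length = 24 := by decide +kernel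

theorem pcCard_F4_0 : Fintype.card pcI_F4_0 = 1 := Fintype.card_unit

theorem pcCard_F4_1 : Fintype.card pcI_F4_1 = 2 * 1 := by
  unfold pcI_F4_1
  rw [Fintype.card_prod, Fintype.card_fin, pcLen_F4_1, pcCard_F4_0]

theorem pcCard_F4_2 : Fintype.card pcI_F4_2 = 3 * (2 * 1) := by
  unfold pcI_F4_2
  rw [Fintype.card_prod, Fintype.card_fin, pcLen_F4_2, pcCard_F4_1]

theorem pcCard_F4_3 : Fintype.card pcI_F4_3 = 8 * (3 * (2 * 1)) := by
  unfold pcI_F4_3
  rw [Fintype.card_prod, Fintype.card_fin, pcLen_F4_3, pcCard_F4_2]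

theorem pcCard_F4_4 : Fintype.card pcI_F4_4 = 24 * (8 * (3 * (2 * 1))) := by
  unfold pcI_F4_4
  rw [Fintype.card_prod, Fintype.card_fin, pcLen_F4_4, pcCard_F4_3]

set_option maxRecDepth 1000000 in
set_option maxHeartbeats 0 in
theorem coxUpper_F4 : Finite (CoxeterMatrix.F₄).Group ∧ Nat.card (CoxeterMatrix.F₄).Group ≤ 24 * (8 * (3 * (2 * 1))) := by
  have h0 := tc_base CoxeterMatrix.F₄
  have b0 : Nat.card (Subgroup.closure (gset (sgen CoxeterMatrix.F₄) [])) ≤ 1 := h0.2.le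
  have h1 := tc_step CoxeterMatrix.F₄ tcM_F4 coxMt_F4 tcTab_F4_1 tcRk_F4_1 2 pcJ_F4_1 []
    pcds_F4_1 tcJs_F4_1 (by decide +kernel) (by norm_num) tcRows_F4_1 h0.1
  have b1 := h1.2.trans (Nat.mul_le_mul_left _ b0)
  have h2 := tc_step CoxeterMatrix.F₄ tcM_F4 coxMt_F4 tcTab_F4_2 tcRk_F4_2 3 pcJ_F4_2 pcJ_F4_1
    pcds_F4_2 tcJs_F4_2 (by decide +kernel) (by norm_num) tcRows_F4_2 h1.1
  have b2 := h2.2.trans (Nat.mul_le_mul_left _ b1)
  have h3 := tc_step CoxeterMatrix.F₄ tcM_F4 coxMt_F4 tcTab_F4_3 tcRk_F4_3 8 pcJ_F4_3 pcJ_F4_2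
    pcds_F4_3 tcJs_F4_3 (by decide +kernel) (by norm_num) tcRows_F4_3 h2.1
  have b3 := h3.2.trans (Nat.mul_le_mul_left _ b2)
  have h4 := tc_step CoxeterMatrix.F₄ tcM_F4 coxMt_F4 tcTab_F4_4 tcRk_F4_4 24 pcJ_F4_4 pcJ_F4_3
    pcds_F4_4 tcJs_F4_4 (by decide +kernel) (by norm_num) tcRows_F4_4 h3.1
  have b4 := h4.2.trans (Nat.mul_le_mul_left _ b3)
  have htop := closure_top CoxeterMatrix.F₄ pcJ_F4_4 (by decide +kernel)
  rw [htop] at h4 b4
  haveI := h4.1
  have hfin : Finite (CoxeterMatrix.F₄).Group := Finite.of_equiv _ Subgroup.topEquiv.toEquiv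
  rw [Subgroup.card_top] at b4
  exact ⟨hfin, b4⟩

theorem coxCard_F4 : Nat.card (CoxeterMatrix.F₄).Group = 1152 := by
  obtain ⟨hfin, hle⟩ := coxUpper_F4
  have hge := card_ge_of_family chevF4 pcMem_F4 CoxeterMatrix.F₄ tcM_F4 coxMt_F4 (by decide)
    pcRTOK_F4 coxRel_F4 pcJ_F4_4 pcV_F4_4 pcFam_F4_4
  rw [pcCard_F4_4] at hge
  have e : 24 * (8 * (3 * (2 * 1))) = 1152 := by norm_num
  rw [e] at hle hge
  exact le_antisymm hle hge

theorem coxFinite_F4 : Finite (CoxeterMatrix.F₄).Group := coxUpper_F4.1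

end Cfsg.Agent.helper5.Chev
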