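import Mathlib
import Cfsg.Agent.Lib_helper5_TC2
import Cfsg.Agent.Lib_helper5_TCDG2Defs

set_option autoImplicit false

/-! Coset table certificates for the Coxeter group of type G2 (generated, helper5). -/

namespace Cfsg.Agent.helper5.Chev

open Cfsg.Lie Cfsg.Agent.helper5.TC

set_option maxRecDepth 1000000 in
set_option maxHeartbeats 0 in
theorem tcC_G2_2_0 : ((List.range 60).all fun k => Nat.ble 6 (0 * 60 + k) || rowOK tcM_G2 tcTab_G2_2 tcRk_G2_2 6 pcJ_G2_2 pcds_G2_2 pcJ_G2_1 tcJs_G2_2 (0 * 60 + k)) = true := by decide +kernel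

end Cfsg.Agent.helper5.Chev
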