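import Mathlib
import Cfsg.Agent.Lib_helper5_TC2
import Cfsg.Agent.Lib_helper5_TCDG2Defs
import Cfsg.Agent.Lib_helper5_TCDG2_l1c00
import Cfsg.Agent.Lib_helper5_TCDG2_l2c00

set_option autoImplicit false

/-! Coset table certificates for the Coxeter group of type G2 (generated, helper5). -/

namespace Cfsg.Agent.helper5.Chev

open Cfsg.Lie Cfsg.Agent.helper5.TC

theorem tcRows_G2_1 : ∀ a < 2, rowOK tcM_G2 tcTab_G2_1 tcRk_G2_1 2 pcJ_G2_1 pcds_G2_1 [] tcJs_G2_1 a = true := by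
  intro a ha
  have hc : a / 60 < 1 := by omega
  have e : a = a / 60 * 60 + a % 60 := (Nat.div_add_mod' a 60).symm
  have hm : a % 60 < 60 := Nat.mod_lt _ (by norm_num)
  generalize a / 60 = c at hc e
  have key : (Nat.ble 2 a || rowOK tcM_G2 tcTab_G2_1 tcRk_G2_1 2 pcJ_G2_1 pcds_G2_1 [] tcJs_G2_1 a) = true := by
    rw [e]
    interval_cases c
    · exact (List.all_eq_true.mp tcC_G2_1_0) _ (List.mem_range.mpr hm)
  rw [Bool.or_eq_true] at key
  rcases key with h1 | h1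
  · rw [Nat.ble_eq] at h1
    omega
  · exact h1

theorem tcRows_G2_2 : ∀ a < 6, rowOK tcM_G2 tcTab_G2_2 tcRk_G2_2 6 pcJ_G2_2 pcds_G2_2 pcJ_G2_1 tcJs_G2_2 a = true := by
  intro a ha
  have hc : a / 60 < 1 := by omega
  have e : a = a / 60 * 60 + a % 60 := (Nat.div_add_mod' a 60).symm
  have hm : a % 60 < 60 := Nat.mod_lt _ (by norm_num)
  generalize a / 60 = c at hc e
  have key : (Nat.ble 6 a || rowOK tcM_G2 tcTab_G2_2 tcRk_G2_2 6 pcJ_G2_2 pcds_G2_2 pcJ_G2_1 tcJs_G2_2 a) = true := by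
    rw [e]
    interval_cases c
    · exact (List.all_eq_true.mp tcC_G2_2_0) _ (List.mem_range.mpr hm)
  rw [Bool.or_eq_true] at key
  rcases key with h1 | h1
  · rw [Nat.ble_eq] at h1
    omega
  · exact h1

end Cfsg.Agent.helper5.Chev
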