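import Mathlib
import Cfsg.Agent.Lib_helper5_TCDG2
import Cfsg.Agent.Lib_helper5_ChevPCDG2
import Cfsg.Agent.Lib_helper5_CoxCard

set_option autoImplicit false

/-! The order of the Coxeter group of type G2 (generated, helper5). -/

namespace Cfsg.Agent.helper5.Chev

open Cfsg.Lie Cfsg.Agent.helper5.TC

theorem coxMt_G2 : MtOK CoxeterMatrix.G₂ tcM_G2 := ⟨by decide, by decide, by intro x y; fin_cases x <;> fin_cases y <;> rfl⟩

set_option maxRecDepth 1000000 in
set_option maxHeartbeats 0 in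
theorem coxRel_G2 : relChk pcT_G2 12 2 tcM_G2 = true := by decide +kernel

set_option maxRecDepth 1000000 in
theorem pcLen_G2_1 : pcds_G2_1.length = 2 := by decide +kernel

set_option maxRecDepth 1000000 in
theorem pcLen_G2_2 : pcds_G2_2.length = 6 := by decide +kernel

theorem pcCard_G2_0 : Fintype.card pcI_G2_0 = 1 := Fintype.card_unit

theorem pcCard_G2_1 : Fintype.card pcI_G2_1 = 2 * 1 := by
  unfold pcI_G2_1
  rw [Fintype.card_prod, Fintype.card_fin, pcLen_G2_1, pcCard_G2_0]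

theorem pcCard_G2_2 : Fintype.card pcI_G2_2 = 6 * (2 * 1) := by
  unfold pcI_G2_2
  rw [Fintype.card_prod, Fintype.card_fin, pcLen_G2_2, pcCard_G2_1]

set_option maxRecDepth 1000000 in
set_option maxHeartbeats 0 in
theorem coxUpper_G2 : Finite (CoxeterMatrix.G₂).Group ∧ Nat.card (CoxeterMatrix.G₂).Group ≤ 6 * (2 * 1) := by
  have h0 := tc_base CoxeterMatrix.G₂
  have b0 : Nat.card (Subgroup.closure (gset (sgen CoxeterMatrix.G₂) [])) ≤ 1 := h0.2.le
  have h1 := tc_step CoxeterMatrix.G₂ tcM_G2 coxMt_G2 tcTab_G2_1 tcRk_G2_1 2 pcJ_G2_1 []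
    pcds_G2_1 tcJs_G2_1 (by decide +kernel) (by norm_num) tcRows_G2_1 h0.1
  have b1 := h1.2.trans (Nat.mul_le_mul_left _ b0)
  have h2 := tc_step CoxeterMatrix.G₂ tcM_G2 coxMt_G2 tcTab_G2_2 tcRk_G2_2 6 pcJ_G2_2 pcJ_G2_1
    pcds_G2_2 tcJs_G2_2 (by decide +kernel) (by norm_num) tcRows_G2_2 h1.1
  have b2 := h2.2.trans (Nat.mul_le_mul_left _ b1)
  have htop := closure_top CoxeterMatrix.G₂ pcJ_G2_2 (by decide +kernel)
  rw [htop] at h2 b2
  haveI := h2.1
  have hfin : Finite (CoxeterMatrix.G₂).Group := Finite.of_equiv _ Subgroup.topEquiv.toEquiv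
  rw [Subgroup.card_top] at b2
  exact ⟨hfin, b2⟩

theorem coxCard_G2 : Nat.card (CoxeterMatrix.G₂).Group = 12 := by
  obtain ⟨hfin, hle⟩ := coxUpper_G2
  have hge := card_ge_of_family chevG2 pcMem_G2 CoxeterMatrix.G₂ tcM_G2 coxMt_G2 (by decide)
    pcRTOK_G2 coxRel_G2 pcJ_G2_2 pcV_G2_2 pcFam_G2_2
  rw [pcCard_G2_2] at hge
  have e : 6 * (2 * 1) = 12 := by norm_num
  rw [e] at hle hge
  exact le_antisymm hle hge

theorem coxFinite_G2 : Finite (CoxeterMatrix.G₂).Group := coxUpper_G2.1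

end Cfsg.Agent.helper5.Chev
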