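import Mathlib
import Cfsg.Agent.Lib_helper5_CoxCard

set_option autoImplicit false
open Cfsg

/-! The faithful permutation representation of a finite Coxeter group on the roots (helper5). -/

namespace Cfsg.Agent.helper5.Chev

open Cfsg.Lie Cfsg.Agent.helper5.TC

section
variable (D : ChevalleyDatum)
  (hD : D ∈ [chevG2, chevB2, chevD4, chevF4, chevE6, chevE7, chevE8])

theorem mem_relWord (i j m x : ℕ) (hx : x ∈ relWord i j m) : x = i ∨ x = j := by
  unfold relWord at hx
  rw [List.mem_flatten] at hx
  obtain ⟨l, hl, hxl⟩ := hx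
  rw [List.eq_of_mem_replicate hl] at hxl
  simpa using hxl

include hD in
/-- the permutation representation on the roots is faithful -/
theorem cox_rep {n : ℕ} (M : CoxeterMatrix (Fin n)) [Finite M.Group]
    (mt : List (List ℕ)) (hmt : MtOK M mt) (hrank : D.rank = n)
    {T : List ℕ} {nr rank half : ℕ} {simp : List ℕ} (hT : RTabOK D T nr rank half simp)
    (hrel : relChk T nr rank mt = true)
    {ι : Type} [Fintype ι] (J : List ℕ) (v : ι → List ℕ) (hF : LevFam D J v)
    (hcard : Nat.card M.Group = Fintype.card ι) :
    ∃ π : M.Group →* Equiv.Perm (Fin D.nroots), Function.Injective π ∧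
      ∀ w : List ℕ, (∀ i ∈ w, i < D.rank) → ∀ r : Fin D.nroots,
        (π (wprod (sgen M) w) r).val = applyW D w r.val := by
  classical
  have hR := rootsOK_of_mem D hD
  have hrelW : ∀ i < D.rank, ∀ j < D.rank, ∀ r < D.nroots,
      applyW D (relWord i j (tget mt i j)) r = r := by
    intro i hi j hj r hr
    unfold relChk at hrel
    simp only [List.all_eq_true, List.mem_range] at hrel
    have h1 := Nat.eq_of_beq_eq_true (hrel i (by rw [hT.hrank]; exact hi) j
      (by rw [hT.hrank]; exact hj) r (by rw [hT.hn]; exact hr))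
    have hlt : ∀ x ∈ (relWord i j (tget mt i j)).reverse, x < D.rank := by
      intro x hx
      rw [List.mem_reverse] at hx
      rcases mem_relWord _ _ _ _ hx with rfl | rfl
      · exact hi
      · exact hj
    rw [applyRT_eq D hD hT _ hlt r hr] at h1
    unfold applyR at h1
    rwa [List.reverse_reverse] at h1
  let f : Fin n → Equiv.Perm (Fin D.nroots) := fun i => sigmaP D i.val
  have hf : M.IsLiftable f := by
    intro i i'
    have hi : i.val < D.rank := by rw [hrank]; exact i.2
    have hi' : i'.val < D.rank := by rw [hrank]; exact i'.2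
    show (sigmaP D i.val * sigmaP D i'.val) ^ M i i' = 1
    rw [← hmt.val i i', ← wprod_relWord]
    ext r
    rw [wprod_sigmaP_apply D hD _ ?_ r, hrelW _ hi _ hi' _ r.2]
    · rfl
    · intro x hx
      rcases mem_relWord _ _ _ _ hx with rfl | rfl
      · exact hi
      · exact hi'
  let π : M.Group →* Equiv.Perm (Fin D.nroots) := M.toCoxeterSystem.lift ⟨f, hf⟩
  have hπs : ∀ i < D.rank, π (sgen M i) = sigmaP D i := by
    intro i hi
    have hin : i < n := by rw [← hrank]; exact hi
    rw [sgen_lt M i hin]
    have := M.toCoxeterSystem.lift_apply_simple hf ⟨i, hin⟩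
    rwa [CoxeterMatrix.toCoxeterSystem_simple] at this
  have hπw : ∀ w : List ℕ, (∀ i ∈ w, i < D.rank) → π (wprod (sgen M) w) = wprod (sigmaP D) w := by
    intro w
    induction w with
    | nil => intro _; exact map_one π
    | cons i w ih =>
      intro hw
      rw [wprod_cons, wprod_cons, map_mul, hπs i (hw i List.mem_cons_self),
        ih fun j hj => hw j (List.mem_cons_of_mem _ hj)]
  let g : ι → M.Group := fun k => wprod (sgen M) (v k).reverse
  have hlt : ∀ k, ∀ i ∈ (v k).reverse, i < D.rank := fun k i hi =>
    redRB_lt D _ (hF.red k) i (List.mem_reverse.mp hi)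
  have hπg : Function.Injective (π ∘ g) := by
    intro k k' h
    apply hF.distinct
    intro r hr
    have h1 : π (g k) = π (g k') := h
    rw [hπw _ (hlt k), hπw _ (hlt k')] at h1
    have h2 := congrArg (fun p => (p ⟨r, hr⟩).val) h1
    simp only [wprod_sigmaP_apply D hD _ (hlt k), wprod_sigmaP_apply D hD _ (hlt k')] at h2
    exact h2
  have hg : Function.Injective g := hπg.of_comp
  have hgb : Function.Bijective g := by
    haveI : Fintype M.Group := Fintype.ofFinite _
    rw [Fintype.bijective_iff_injective_and_card]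
    refine ⟨hg, ?_⟩
    rw [← hcard, Nat.card_eq_fintype_card]
  refine ⟨π, ?_, ?_⟩
  · intro x y hxy
    obtain ⟨k, rfl⟩ := hgb.2 x
    obtain ⟨k', rfl⟩ := hgb.2 y
    rw [hπg hxy]
  · intro w hw r
    rw [hπw w hw, wprod_sigmaP_apply D hD w hw r]

end

theorem wprod_replicate {G : Type*} [Group G] (s : ℕ → G) (w : List ℕ) (k : ℕ) :
    wprod s (List.replicate k w).flatten = wprod s w ^ k := by
  induction k with
  | zero => simp [wprod]
  | succ k ih =>
    rw [List.replicate_succ, List.flatten_cons, wprod_append, ih, pow_succ']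

theorem finRange_map_simple {n : ℕ} (M : CoxeterMatrix (Fin n)) :
    ((List.finRange n).map M.simple).prod = wprod (sgen M) (List.range n) := by
  unfold wprod
  congr 1
  apply List.ext_getElem
  · simp
  · intro i h1 h2
    simp only [List.getElem_map, List.getElem_finRange, List.getElem_range]
    have hi : i < n := by simpa using h1
    rw [sgen_lt M i hi]
    rfl

/-- the order check for a word: `w^h` acts trivially and `w^m` does not for `0 < m < h` -/
def ordChk (T : List ℕ) (nr : ℕ) (w : List ℕ) (h : ℕ) : Bool :=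
  ((List.range nr).all fun r => Nat.beq (applyRT T (List.replicate h w).flatten.reverse r) r) &&
  (List.range h).all fun m => Nat.beq m 0 ||
    (List.range nr).any fun r => !(Nat.beq (applyRT T (List.replicate m w).flatten.reverse r) r)

section
variable (D : ChevalleyDatum)
  (hD : D ∈ [chevG2, chevB2, chevD4, chevF4, chevE6, chevE7, chevE8])

include hD in
theorem cox_order {n : ℕ} (M : CoxeterMatrix (Fin n))
    {T : List ℕ} {nr rank half : ℕ} {simp : List ℕ} (hT : RTabOK D T nr rank half simp)
    (π : M.Group →* Equiv.Perm (Fin D.nroots)) (hπ : Function.Injective π)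
    (hπw : ∀ w : List ℕ, (∀ i ∈ w, i < D.rank) → ∀ r : Fin D.nroots,
        (π (wprod (sgen M) w) r).val = applyW D w r.val)
    (w : List ℕ) (hw : ∀ i ∈ w, i < D.rank) (h : ℕ) (hh : 0 < h)
    (hchk : ordChk T nr w h = true) : orderOf (wprod (sgen M) w) = h := by
  unfold ordChk at hchk
  simp only [Bool.and_eq_true, List.all_eq_true, List.mem_range, Bool.or_eq_true,
    List.any_eq_true, Bool.not_eq_true'] at hchk
  obtain ⟨h1, h2⟩ := hchk
  have hrep : ∀ k, ∀ i ∈ (List.replicate k w).flatten, i < D.rank := by
    intro k i hi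
    rw [List.mem_flatten] at hi
    obtain ⟨l, hl, hil⟩ := hi
    rw [List.eq_of_mem_replicate hl] at hil
    exact hw i hil
  have hact : ∀ k, ∀ r : Fin D.nroots, (π (wprod (sgen M) w ^ k) r).val =
      applyRT T (List.replicate k w).flatten.reverse r.val := by
    intro k r
    rw [← wprod_replicate, hπw _ (hrep k) r,
      applyRT_eq D hD hT _ (fun i hi => hrep k i (List.mem_reverse.mp hi)) _ r.2]
    unfold applyR
    rw [List.reverse_reverse]
  rw [orderOf_eq_iff hh]
  refine ⟨?_, ?_⟩
  · apply hπ
    rw [map_one]
    ext r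
    rw [hact h r, Nat.eq_of_beq_eq_true (h1 r.val (by rw [hT.hn]; exact r.2))]
    rfl
  · intro m hm hm0 hpow
    rcases h2 m hm with h3 | ⟨r, hr, h3⟩
    · have := Nat.eq_of_beq_eq_true h3
      omega
    · have hr' : r < D.nroots := by rw [← hT.hn]; exact hr
      have h4 := hact m ⟨r, hr'⟩
      rw [hpow, map_one] at h4
      have h5 : Nat.beq (applyRT T (List.replicate m w).flatten.reverse r) r = true := by
        rw [← h4]
        exact Nat.beq_refl r
      rw [h5] at h3
      exact absurd h3 (by simp)

end

end Cfsg.Agent.helper5.Chev
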