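import Mathlib
import Cfsg.Agent.Lib_helper5_CoxRep
import Cfsg.Agent.Lib_helper5_ChevBN4

set_option autoImplicit false
open Cfsg

/-! `N/H` is the Coxeter group (helper5). -/

namespace Cfsg.Agent.helper5.Chev

open Cfsg.Lie Cfsg.Agent.helper5.TC

section
variable {F : Type*} [Field F] (D : ChevalleyDatum)
  (hD : D ∈ [chevG2, chevB2, chevD4, chevF4, chevE6, chevE7, chevE8])

include hD in
theorem N_mod_H_cox {n : ℕ} (M : CoxeterMatrix (Fin n)) (hrank : D.rank = n)
    (π : M.Group →* Equiv.Perm (Fin D.nroots)) (hπ : Function.Injective π)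
    (hπw : ∀ w : List ℕ, (∀ i ∈ w, i < D.rank) → ∀ r : Fin D.nroots,
        (π (wprod (sgen M) w) r).val = applyW D w r.val) :
    ∃ φ : ↥(D.monomialSubgroup F) →* M.Group, Function.Surjective φ ∧
      φ.ker = (D.diagonalSubgroup F).subgroupOf (D.monomialSubgroup F) ∧
      ∀ (i : Fin n) (g : ↥(D.monomialSubgroup F)),
        ((g : GL D.Idx F) : Matrix D.Idx D.Idx F) = D.nMat F (D.simple i) 1 →
          φ g = M.simple i := by
  classical
  have hR := rootsOK_of_mem D hD
  have hNH := N_le_normalizer_H (F := F) D hD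
  -- words with the same permutation give the same element
  have hperm : ∀ w w' : List ℕ, (∀ i ∈ w, i < D.rank) → (∀ i ∈ w', i < D.rank) →
      (∀ s < D.nroots, applyW D w s = applyW D w' s) →
      wprod (sgen M) w = wprod (sgen M) w' := by
    intro w w' hw hw' h
    apply hπ
    ext r
    rw [hπw w hw r, hπw w' hw' r, h r.val r.2]
  have hwd : ∀ h ∈ D.diagonalSubgroup F, ∀ h' ∈ D.diagonalSubgroup F, ∀ w w' : List ℕ,
      (∀ i ∈ w, i < D.rank) → (∀ i ∈ w', i < D.rank) →
      h * nW D hD w = h' * nW D hD w' → wprod (sgen M) w = wprod (sgen M) w' := by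
    intro h hh h' hh' w w' hw hw' e
    apply hperm w w' hw hw'
    have e2 : nW (F := F) D hD w = (h⁻¹ * h') * nW D hD w' := by
      calc nW (F := F) D hD w = h⁻¹ * (h * nW D hD w) := by group
        _ = (h⁻¹ * h') * nW D hD w' := by rw [e]; group
    exact applyW_eq_of_eq D hD _ (Subgroup.mul_mem _ (Subgroup.inv_mem _ hh) hh') w w' hw hw' e2
  have key := fun g : ↥(D.monomialSubgroup F) => mem_N_decomp D hD g.1 g.2
  choose hfun hhH wfun hwlt heq using key
  let f : ↥(D.monomialSubgroup F) → M.Group := fun g => wprod (sgen M) (wfun g)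
  have fspec : ∀ (g : ↥(D.monomialSubgroup F)) (h : GL D.Idx F) (w : List ℕ),
      h ∈ D.diagonalSubgroup F → (∀ i ∈ w, i < D.rank) → g.1 = h * nW D hD w →
      f g = wprod (sgen M) w := by
    intro g h w hh hw e
    apply hwd _ (hhH g) _ hh _ _ (hwlt g) hw
    rw [← heq g, e]
  have hmul : ∀ a b, f (a * b) = f a * f b := by
    intro a b
    have hconj : nW D hD (wfun a) * hfun b * (nW (F := F) D hD (wfun a))⁻¹ ∈
        D.diagonalSubgroup F :=
      (Subgroup.mem_normalizer_iff.mp (hNH (nW_mem D hD _ (hwlt a))) _).mp (hhH b)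
    have e : (a * b).1 = (hfun a * (nW D hD (wfun a) * hfun b * (nW (F := F) D hD (wfun a))⁻¹)) *
        nW D hD (wfun a ++ wfun b) := by
      rw [nW_append]
      show a.1 * b.1 = _
      rw [heq a, heq b]
      group
    rw [fspec (a * b) _ _ (Subgroup.mul_mem _ (hhH a) hconj) ?_ e, wprod_append]
    intro i hi
    rcases List.mem_append.mp hi with h1 | h1
    · exact hwlt a i h1
    · exact hwlt b i h1
  let φ : ↥(D.monomialSubgroup F) →* M.Group := MonoidHom.mk' f hmul
  have hgen : ∀ (i : ℕ) (hi : i < D.rank) (g : ↥(D.monomialSubgroup F)),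
      g.1 = nGt D hD (D.simple i) 1 → f g = sgen M i := by
    intro i hi g hg
    have e : g.1 = 1 * nW D hD [i] := by
      rw [hg, one_mul]
      simp [nW]
    rw [fspec g 1 [i] (Subgroup.one_mem _) (by simpa using hi) e]
    simp [wprod]
  refine ⟨φ, ?_, ?_, ?_⟩
  · rw [← MonoidHom.range_eq_top, eq_top_iff, ← M.toCoxeterSystem.subgroup_closure_range_simple,
      Subgroup.closure_le]
    rintro x ⟨i, rfl⟩
    have hi : i.val < D.rank := by rw [hrank]; exact i.2
    refine ⟨⟨nGt D hD (D.simple i.val) 1, nGt_one_mem D hD _ (hR.simple_lt _ hi)⟩, ?_⟩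
    show f _ = _
    rw [hgen i.val hi _ rfl, sgen_lt M _ i.2, CoxeterMatrix.toCoxeterSystem_simple]
  · ext g
    rw [MonoidHom.mem_ker, Subgroup.mem_subgroupOf]
    show f g = 1 ↔ _
    constructor
    · intro h1
      have h2 : ∀ s < D.nroots, applyW D (wfun g) s = s := by
        intro s hs
        have := hπw (wfun g) (hwlt g) ⟨s, hs⟩
        have h3 : wprod (sgen M) (wfun g) = 1 := h1
        rw [h3, map_one] at this
        exact this.symm
      rw [heq g]
      exact Subgroup.mul_mem _ (hhH g) (nW_mem_H D hD _ (hwlt g) h2)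
    · intro hg
      have e : g.1 = g.1 * nW D hD [] := by simp [nW]
      rw [fspec g g.1 [] hg (by simp) e]
      rfl
  · intro i g hg
    have hi : i.val < D.rank := by rw [hrank]; exact i.2
    have hg' : g.1 = nGt D hD (D.simple i.val) 1 := Units.ext (by rw [hg, nGt_val])
    show f g = _
    rw [hgen i.val hi g hg', sgen_lt M _ i.2]

end

end Cfsg.Agent.helper5.Chev
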