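import Mathlib
import Cfsg.Prelude.Def_Characters
import Cfsg.Prelude.Def_Transfer
import Cfsg.Agent.Lib_helper5_Ind

set_option autoImplicit false

namespace Cfsg.Agent.helper5

open scoped commutatorElement

/-- In a group whose commutators are central, `y ↦ x⁻¹ y⁻¹ x y` is a homomorphism to the centre. -/
def commHomC {P : Type*} [Group P] (hcl : ∀ x y : P, ⁅x, y⁆ ∈ Subgroup.center P) (x : P) :
    P →* Subgroup.center P :=
  MonoidHom.mk' (fun y => ⟨x⁻¹ * y⁻¹ * x * y, by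
    have := hcl x⁻¹ y⁻¹
    rw [commutatorElement_def, inv_inv, inv_inv] at this
    exact this⟩) (by
    intro y₁ y₂
    apply Subtype.ext
    simp only [Subgroup.coe_mul]
    have hc : x⁻¹ * y₁⁻¹ * x * y₁ ∈ Subgroup.center P := by
      have := hcl x⁻¹ y₁⁻¹
      rw [commutatorElement_def, inv_inv, inv_inv] at this
      exact this
    have hcomm := Subgroup.mem_center_iff.mp hc
    -- x⁻¹ (y₁ y₂)⁻¹ x (y₁ y₂) = x⁻¹ y₂⁻¹ x (x⁻¹ y₁⁻¹ x y₁) y₂
    calc x⁻¹ * (y₁ * y₂)⁻¹ * x * (y₁ * y₂)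
        = x⁻¹ * y₂⁻¹ * x * ((x⁻¹ * y₁⁻¹ * x * y₁) * y₂) := by group
      _ = x⁻¹ * y₂⁻¹ * x * (y₂ * (x⁻¹ * y₁⁻¹ * x * y₁)) := by rw [hcomm y₂]
      _ = (x⁻¹ * y₂⁻¹ * x * y₂) * (x⁻¹ * y₁⁻¹ * x * y₁) := by group
      _ = (x⁻¹ * y₁⁻¹ * x * y₁) * (x⁻¹ * y₂⁻¹ * x * y₂) := hcomm _)

theorem commHomC_apply {P : Type*} [Group P] (hcl : ∀ x y : P, ⁅x, y⁆ ∈ Subgroup.center P)
    (x y : P) : ((commHomC hcl x y : Subgroup.center P) : P) = x⁻¹ * y⁻¹ * x * y := rfl

/-- If `x` is not central and the centre has prime order, `commHomC x` is onto. -/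
theorem commHomC_surjective {P : Type*} [Group P] (hcl : ∀ x y : P, ⁅x, y⁆ ∈ Subgroup.center P)
    {p : ℕ} [Fact p.Prime] (hZ : Nat.card (Subgroup.center P) = p) (x : P)
    (hx : x ∉ Subgroup.center P) : Function.Surjective (commHomC hcl x) := by
  haveI : Fact (Nat.card (Subgroup.center P)).Prime := by rw [hZ]; infer_instance
  rw [← MonoidHom.range_eq_top]
  rcases Subgroup.eq_bot_or_eq_top_of_prime_card (commHomC hcl x).range with h | h
  · exfalso
    apply hx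
    rw [Subgroup.mem_center_iff]
    intro y
    have h1 : commHomC hcl x y ∈ (commHomC hcl x).range := ⟨y, rfl⟩
    rw [h, Subgroup.mem_bot] at h1
    have h2 : x⁻¹ * y⁻¹ * x * y = 1 := congrArg Subtype.val h1
    calc y * x = y * x * (x⁻¹ * y⁻¹ * x * y) := by rw [h2, mul_one]
      _ = x * y := by group
  · exact h

end Cfsg.Agent.helper5
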