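import Mathlib
import Cfsg.Agent.Lib_helper5_ChevPerf

set_option autoImplicit false
set_option linter.unusedSectionVars false

/-! Congruences of polynomial matrix entries modulo the characteristic, and block structure
(helper5). -/

namespace Cfsg.Agent.helper5.Chev

open Cfsg.Lie

/-- all coefficients divisible by `p` -/
def pDvd (p : ℤ) (P : Poly) : Bool := P.all fun m => m.2.2 % p == 0

/-- the polynomial of a sparse vector at a coordinate -/
def vget (v : SVec) (b : ℕ) : Poly :=
  (v.filter fun a => a.1 == b).foldr (fun a acc => padd a.2 acc) []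

/-- congruence of polynomials modulo `p` -/
def pCong (p : ℤ) (P Q : Poly) : Bool := pDvd p (padd P (pneg Q))

section
variable {K : Type*} [Field K]

theorem pEval_of_pDvd (p : ℕ) [CharP K p] (x y : K) (P : Poly) (h : pDvd (p : ℤ) P = true) :
    pEval x y P = 0 := by
  unfold pEval
  apply List.sum_eq_zero
  intro z hz
  rw [List.mem_map] at hz
  obtain ⟨m, hm, rfl⟩ := hz
  unfold pDvd at h
  rw [List.all_eq_true] at h
  have h1 := h m hm
  rw [beq_iff_eq] at h1
  unfold mEval
  have : ((m.2.2 : ℤ) : K) = 0 :=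
    (CharP.intCast_eq_zero_iff K p m.2.2).mpr (Int.dvd_of_emod_eq_zero h1)
  rw [this, zero_mul, zero_mul]

theorem pEval_of_pCong (p : ℕ) [CharP K p] (x y : K) (P Q : Poly)
    (h : pCong (p : ℤ) P Q = true) : pEval x y P = pEval x y Q := by
  have := pEval_of_pDvd p x y _ h
  rw [pEval_padd, pEval_pneg] at this
  exact add_neg_eq_zero.mp this

theorem vEval_eq_vget (D : ChevalleyDatum) (x y : K) (v : SVec) (idx : D.Idx) :
    vEval D x y v idx = pEval x y (vget v (code D idx)) := by
  induction v with
  | nil => simp [vget]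
  | cons a v ih =>
    rw [vEval_cons, ih]
    unfold vget
    rw [List.filter_cons]
    by_cases h : a.1 = code D idx
    · have h' : (a.1 == code D idx) = true := by rw [beq_iff_eq]; exact h
      rw [if_pos h, h']
      simp only [if_true, List.foldr_cons]
      rw [pEval_padd]
    · have h' : (a.1 == code D idx) = false := by rw [beq_eq_false_iff_ne]; exact h
      rw [if_neg h, h', zero_add]
      simp

/-- the entries of a root element with polynomial parameter -/
theorem x_entry (D : ChevalleyDatum) (r : ℕ) (hr : r < D.nroots) (t : K) (ht : t ≠ 0)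
    (param : Poly) (row idx : D.Idx) :
    D.x K r (pEval t 1 param) row idx =
      pEval t 1 (vget (col D r param (code D idx)) (code D row)) := by
  rw [x_eq_xMat D r hr, ← vEval_col D t 1 ht one_ne_zero ⟨r, hr⟩ param idx row, vEval_eq_vget]

end

/-! ### Block structure -/

section blocks
variable {K : Type*} [Field K] {ι : Type*} [Fintype ι] [DecidableEq ι] {m : ℕ}
  (iS iT : Fin m → ι)

/-- block triangular with respect to the decomposition into `S` and `T` coordinates -/
def BT (M : Matrix ι ι K) : Prop := ∀ k l, M (iT k) (iS l) = 0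

variable (hb : Function.Bijective (Sum.elim iS iT))

include hb in
theorem sum_split (f : ι → K) : ∑ j, f j = ∑ k, f (iS k) + ∑ k, f (iT k) := by
  rw [← (Equiv.ofBijective _ hb).sum_comp f, Fintype.sum_sum_type]
  rfl

include hb in
theorem iS_injective : Function.Injective iS := by
  intro a b h
  have := hb.1 (a₁ := Sum.inl a) (a₂ := Sum.inl b) h
  exact Sum.inl.inj this

include hb in
theorem iT_injective : Function.Injective iT := by
  intro a b h
  have := hb.1 (a₁ := Sum.inr a) (a₂ := Sum.inr b) h
  exact Sum.inr.inj this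

include hb in
theorem iT_ne_iS (k l : Fin m) : iT k ≠ iS l := by
  intro h
  have := hb.1 (a₁ := Sum.inr k) (a₂ := Sum.inl l) h
  exact Sum.inr_ne_inl this

include hb in
theorem bt_one : BT iS iT (1 : Matrix ι ι K) := by
  intro k l
  rw [Matrix.one_apply, if_neg (iT_ne_iS iS iT hb k l)]

include hb in
theorem bt_mul (M N : Matrix ι ι K) (hM : BT iS iT M) (hN : BT iS iT N) : BT iS iT (M * N) := by
  intro k l
  rw [Matrix.mul_apply, sum_split iS iT hb]
  have h1 : ∑ j, M (iT k) (iS j) * N (iS j) (iS l) = 0 :=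
    Finset.sum_eq_zero fun j _ => by rw [hM k j, zero_mul]
  have h2 : ∑ j, M (iT k) (iT j) * N (iT j) (iS l) = 0 :=
    Finset.sum_eq_zero fun j _ => by rw [hN j l, mul_zero]
  rw [h1, h2, add_zero]

include hb in
theorem subS_mul (M N : Matrix ι ι K) (hN : BT iS iT N) :
    (M * N).submatrix iS iS = M.submatrix iS iS * N.submatrix iS iS := by
  ext a b
  rw [Matrix.submatrix_apply, Matrix.mul_apply, sum_split iS iT hb, Matrix.mul_apply]
  have h2 : ∑ j, M (iS a) (iT j) * N (iT j) (iS b) = 0 :=
    Finset.sum_eq_zero fun j _ => by rw [hN j b, mul_zero]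
  rw [h2, add_zero]
  rfl

include hb in
theorem subT_mul (M N : Matrix ι ι K) (hM : BT iS iT M) :
    (M * N).submatrix iT iT = M.submatrix iT iT * N.submatrix iT iT := by
  ext a b
  rw [Matrix.submatrix_apply, Matrix.mul_apply, sum_split iS iT hb, Matrix.mul_apply]
  have h1 : ∑ j, M (iT a) (iS j) * N (iS j) (iT b) = 0 :=
    Finset.sum_eq_zero fun j _ => by rw [hM a j, zero_mul]
  rw [h1, zero_add]
  rfl

/-- the two diagonal block homomorphisms on a group of block triangular matrices -/
noncomputable def rhoS (G : Subgroup (GL ι K)) (hG : ∀ g ∈ G, BT iS iT (g : Matrix ι ι K)) :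
    G →* GL (Fin m) K where
  toFun g := ⟨(g.1 : Matrix ι ι K).submatrix iS iS, ((g⁻¹).1 : Matrix ι ι K).submatrix iS iS, by
      rw [← subS_mul iS iT hb _ _ (hG _ (g⁻¹).2), ← Units.val_mul, ← Subgroup.coe_mul,
        mul_inv_cancel, Subgroup.coe_one, Units.val_one,
        Matrix.submatrix_one _ (iS_injective iS iT hb)], by
      rw [← subS_mul iS iT hb _ _ (hG _ g.2), ← Units.val_mul, ← Subgroup.coe_mul,
        inv_mul_cancel, Subgroup.coe_one, Units.val_one,
        Matrix.submatrix_one _ (iS_injective iS iT hb)]⟩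
  map_one' := by
    apply Units.ext
    show ((1 : G).1 : Matrix ι ι K).submatrix iS iS = 1
    rw [Subgroup.coe_one, Units.val_one, Matrix.submatrix_one _ (iS_injective iS iT hb)]
  map_mul' g h := by
    apply Units.ext
    show ((g * h).1 : Matrix ι ι K).submatrix iS iS =
      (g.1 : Matrix ι ι K).submatrix iS iS * (h.1 : Matrix ι ι K).submatrix iS iS
    rw [Subgroup.coe_mul, Units.val_mul, subS_mul iS iT hb _ _ (hG _ h.2)]

noncomputable def rhoT (G : Subgroup (GL ι K)) (hG : ∀ g ∈ G, BT iS iT (g : Matrix ι ι K)) :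
    G →* GL (Fin m) K where
  toFun g := ⟨(g.1 : Matrix ι ι K).submatrix iT iT, ((g⁻¹).1 : Matrix ι ι K).submatrix iT iT, by
      rw [← subT_mul iS iT hb _ _ (hG _ g.2), ← Units.val_mul, ← Subgroup.coe_mul,
        mul_inv_cancel, Subgroup.coe_one, Units.val_one,
        Matrix.submatrix_one _ (iT_injective iS iT hb)], by
      rw [← subT_mul iS iT hb _ _ (hG _ (g⁻¹).2), ← Units.val_mul, ← Subgroup.coe_mul,
        inv_mul_cancel, Subgroup.coe_one, Units.val_one,
        Matrix.submatrix_one _ (iT_injective iS iT hb)]⟩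
  map_one' := by
    apply Units.ext
    show ((1 : G).1 : Matrix ι ι K).submatrix iT iT = 1
    rw [Subgroup.coe_one, Units.val_one, Matrix.submatrix_one _ (iT_injective iS iT hb)]
  map_mul' g h := by
    apply Units.ext
    show ((g * h).1 : Matrix ι ι K).submatrix iT iT =
      (g.1 : Matrix ι ι K).submatrix iT iT * (h.1 : Matrix ι ι K).submatrix iT iT
    rw [Subgroup.coe_mul, Units.val_mul, subT_mul iS iT hb _ _ (hG _ g.2)]

theorem rhoS_val (G : Subgroup (GL ι K)) (hG : ∀ g ∈ G, BT iS iT (g : Matrix ι ι K)) (g : G) :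
    ((rhoS iS iT hb G hG g : GL (Fin m) K) : Matrix (Fin m) (Fin m) K) =
      (g.1 : Matrix ι ι K).submatrix iS iS := rfl

theorem rhoT_val (G : Subgroup (GL ι K)) (hG : ∀ g ∈ G, BT iS iT (g : Matrix ι ι K)) (g : G) :
    ((rhoT iS iT hb G hG g : GL (Fin m) K) : Matrix (Fin m) (Fin m) K) =
      (g.1 : Matrix ι ι K).submatrix iT iT := rfl

end blocks

/-! ### Generation by the fundamental root subgroups -/

section gen
variable {F : Type*} [Field F] (D : ChevalleyDatum)
  (hD : D ∈ [chevG2, chevB2, chevD4, chevF4, chevE6, chevE7, chevE8])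

/-- every root element lies in the subgroup generated by the `X_{±p}`, `p` fundamental -/
theorem xG_mem_closure_simple (r : ℕ) (hr : r < D.nroots) :
    ∀ t : F, xG D hD r t ∈ Subgroup.closure {g : GL D.Idx F | ∃ i < D.rank, ∃ u : F,
      g = xG D hD (D.simple i) u ∨ g = xG D hD (D.neg (D.simple i)) u} := by
  have hR := rootsOK_of_mem D hD
  refine hR.induction (fun r => ∀ t : F, xG D hD r t ∈ Subgroup.closure {g : GL D.Idx F |
    ∃ i < D.rank, ∃ u : F, g = xG D hD (D.simple i) u ∨ g = xG D hD (D.neg (D.simple i)) u})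
    ?_ ?_ r hr
  · intro i hi t
    exact Subgroup.subset_closure ⟨i, hi, t, Or.inl rfl⟩
  · intro i hi s hs hP t
    have h1 : nGt D hD (D.simple i) (1 : F) ∈ Subgroup.closure {g : GL D.Idx F |
        ∃ i < D.rank, ∃ u : F, g = xG D hD (D.simple i) u ∨
          g = xG D hD (D.neg (D.simple i)) u} := by
      unfold nGt
      exact Subgroup.mul_mem _ (Subgroup.mul_mem _
        (Subgroup.subset_closure ⟨i, hi, _, Or.inl rfl⟩)
        (Subgroup.subset_closure ⟨i, hi, _, Or.inr rfl⟩))
        (Subgroup.subset_closure ⟨i, hi, _, Or.inl rfl⟩)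
    have h2 := Subgroup.mul_mem _ (Subgroup.mul_mem _ h1 (hP (((etaOf D i s : ℤ) : F) * t)))
      (Subgroup.inv_mem _ h1)
    rw [nG_conj D hD i hi s hs, ← mul_assoc, eta_cast_sq D hD i s hi hs, one_mul] at h2
    exact h2

/-- the Chevalley group is generated by the fundamental root subgroups and their negatives -/
theorem group_eq_closure_simple :
    D.group F = Subgroup.closure {g : GL D.Idx F | ∃ i < D.rank, ∃ u : F,
      g = xG D hD (D.simple i) u ∨ g = xG D hD (D.neg (D.simple i)) u} := by
  have hR := rootsOK_of_mem D hD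
  apply le_antisymm
  · unfold ChevalleyDatum.group
    rw [Subgroup.closure_le]
    rintro g ⟨r, t, hg⟩
    have : g = xG D hD r.val t := by
      apply Units.ext
      rw [hg, xG_val, x_eq_xMat D r.val r.2]
    rw [this]
    exact xG_mem_closure_simple D hD r.val r.2 t
  · rw [Subgroup.closure_le]
    rintro g ⟨i, hi, u, rfl | rfl⟩
    · exact xG_mem_group D hD _ (hR.simple_lt i hi) u
    · exact xG_mem_group D hD _ (hR.neg_lt _ (hR.simple_lt i hi)) u

end gen

end Cfsg.Agent.helper5.Chev
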