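import Mathlib
import Cfsg.Agent.Lib_helper5_GraphG2a

set_option autoImplicit false
set_option linter.unusedSectionVars false
set_option linter.unusedVariables false

/-! Graph automorphisms of Chevalley groups in special characteristic, generic part (helper5). -/

namespace Cfsg.Agent.helper5.Chev

open Cfsg.Lie

/-- data of a graph automorphism: the coordinates of the short root ideal, the complementary
coordinates, the permutation of the fundamental roots and the exponents -/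
structure GraphData (D : ChevalleyDatum) (m : ℕ) where
  iS : Fin m → D.Idx
  iT : Fin m → D.Idx
  sig : ℕ → ℕ
  ex : ℕ → ℕ

/-- the checks on the data, modulo `p` -/
structure GraphData.OK {D : ChevalleyDatum} {m : ℕ} (Γ : GraphData D m) (p : ℕ) : Prop where
  hb : Function.Bijective (Sum.elim Γ.iS Γ.iT)
  hbt : ∀ r : Fin D.nroots, ∀ l k : Fin m,
    pDvd (p : ℤ) (vget (col D r.val pX (code D (Γ.iS l))) (code D (Γ.iT k))) = true
  hsig : ∀ i : Fin D.rank, Γ.sig i.val < D.rank ∧ Γ.sig (Γ.sig i.val) = i.val ∧ Γ.ex i.val ≠ 0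
  htw : ∀ i : Fin D.rank, ∀ l k : Fin m,
    pCong (p : ℤ) (vget (col D (D.simple i.val) pX (code D (Γ.iT l))) (code D (Γ.iT k)))
      (vget (col D (D.simple (Γ.sig i.val)) (ppow pX (Γ.ex i.val)) (code D (Γ.iS l)))
        (code D (Γ.iS k))) = true
  htwn : ∀ i : Fin D.rank, ∀ l k : Fin m,
    pCong (p : ℤ) (vget (col D (D.neg (D.simple i.val)) pX (code D (Γ.iT l))) (code D (Γ.iT k)))
      (vget (col D (D.neg (D.simple (Γ.sig i.val))) (ppow pX (Γ.ex i.val)) (code D (Γ.iS l)))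
        (code D (Γ.iS k))) = true

section
variable {D : ChevalleyDatum} (hD : D ∈ [chevG2, chevB2, chevD4, chevF4, chevE6, chevE7, chevE8])
  {m : ℕ} (Γ : GraphData D m) (p : ℕ) (hΓ : Γ.OK p) {K : Type*} [Field K] [CharP K p]

include hΓ in
theorem gd_x_bt (r : ℕ) (hr : r < D.nroots) (t : K) : BT Γ.iS Γ.iT (D.x K r t) := by
  by_cases ht : t = 0
  · rw [ht, x_zero_nat]
    exact bt_one Γ.iS Γ.iT hΓ.hb
  · intro k l
    have h := x_entry D r hr t ht pX (Γ.iT k) (Γ.iS l)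
    rw [pEval_pX] at h
    rw [h]
    exact pEval_of_pDvd p t 1 _ (hΓ.hbt ⟨r, hr⟩ l k)

/-- the subgroup of matrices block triangular together with their inverses -/
def gdBT (hΓ : Γ.OK p) : Subgroup (GL D.Idx K) where
  carrier := {g | BT Γ.iS Γ.iT (g : Matrix D.Idx D.Idx K) ∧
    BT Γ.iS Γ.iT ((g⁻¹ : GL D.Idx K) : Matrix D.Idx D.Idx K)}
  one_mem' := by
    refine ⟨bt_one Γ.iS Γ.iT hΓ.hb, ?_⟩
    rw [inv_one]
    exact bt_one Γ.iS Γ.iT hΓ.hb
  mul_mem' := by
    intro a b ha hb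
    refine ⟨?_, ?_⟩
    · rw [Units.val_mul]
      exact bt_mul Γ.iS Γ.iT hΓ.hb _ _ ha.1 hb.1
    · rw [_root_.mul_inv_rev, Units.val_mul]
      exact bt_mul Γ.iS Γ.iT hΓ.hb _ _ hb.2 ha.2
  inv_mem' := by
    intro a ha
    refine ⟨ha.2, ?_⟩
    rw [inv_inv]
    exact ha.1

include hD hΓ in
theorem gd_group_bt : ∀ g ∈ D.group K, BT Γ.iS Γ.iT (g : Matrix D.Idx D.Idx K) := by
  have h : D.group K ≤ gdBT (K := K) Γ p hΓ := by
    unfold ChevalleyDatum.group
    rw [Subgroup.closure_le]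
    rintro g ⟨r, t, hg⟩
    have e : g = xG D hD r.val t := by
      apply Units.ext
      rw [hg, xG_val, x_eq_xMat D r.val r.2]
    rw [e]
    refine ⟨?_, ?_⟩
    · rw [xG_val]
      exact gd_x_bt Γ p hΓ r.val r.2 t
    · rw [xG_inv, xG_val]
      exact gd_x_bt Γ p hΓ r.val r.2 (-t)
  intro g hg
  exact (h hg).1

/-- root elements as elements of the Chevalley group -/
noncomputable def gdX (r : ℕ) (t : K) : ↥(D.group K) :=
  ⟨xG D hD r t, by
    by_cases hr : r < D.nroots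
    · exact xG_mem_group D hD r hr t
    · have : xG D hD r t = 1 := by
        apply Units.ext
        rw [xG_val, Units.val_one]
        unfold ChevalleyDatum.x
        rw [dif_neg hr]
      rw [this]
      exact Subgroup.one_mem _⟩

theorem gdX_val (r : ℕ) (t : K) :
    (((gdX hD r t : ↥(D.group K)) : GL D.Idx K) : Matrix D.Idx D.Idx K) = D.x K r t := rfl

/-- the representation on the short root ideal -/
noncomputable def gdRhoS (hΓ : Γ.OK p) : ↥(D.group K) →* GL (Fin m) K :=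
  rhoS Γ.iS Γ.iT hΓ.hb (D.group K) (gd_group_bt hD Γ p hΓ)

/-- the representation on the quotient by the short root ideal -/
noncomputable def gdRhoT (hΓ : Γ.OK p) : ↥(D.group K) →* GL (Fin m) K :=
  rhoT Γ.iS Γ.iT hΓ.hb (D.group K) (gd_group_bt hD Γ p hΓ)

theorem gdRhoS_val (g : ↥(D.group K)) :
    ((gdRhoS hD Γ p hΓ g : GL (Fin m) K) : Matrix (Fin m) (Fin m) K) =
      ((g : GL D.Idx K) : Matrix D.Idx D.Idx K).submatrix Γ.iS Γ.iS := rfl

theorem gdRhoT_val (g : ↥(D.group K)) :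
    ((gdRhoT hD Γ p hΓ g : GL (Fin m) K) : Matrix (Fin m) (Fin m) K) =
      ((g : GL D.Idx K) : Matrix D.Idx D.Idx K).submatrix Γ.iT Γ.iT := rfl

/-- the intertwining relation on the positive generators -/
theorem gd_tw (i : ℕ) (hi : i < D.rank) (t : K) :
    gdRhoT hD Γ p hΓ (gdX hD (D.simple i) t) =
      gdRhoS hD Γ p hΓ (gdX hD (D.simple (Γ.sig i)) (t ^ Γ.ex i)) := by
  have hR := rootsOK_of_mem D hD
  obtain ⟨h1, h2, h3⟩ := hΓ.hsig ⟨i, hi⟩
  apply Units.ext
  rw [gdRhoT_val, gdRhoS_val, gdX_val, gdX_val]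
  by_cases ht : t = 0
  · rw [ht, zero_pow h3, x_zero_nat, x_zero_nat,
      Matrix.submatrix_one _ (iT_injective Γ.iS Γ.iT hΓ.hb),
      Matrix.submatrix_one _ (iS_injective Γ.iS Γ.iT hΓ.hb)]
  · ext k l
    rw [Matrix.submatrix_apply, Matrix.submatrix_apply]
    have e1 := x_entry D (D.simple i) (hR.simple_lt i hi) t ht pX (Γ.iT k) (Γ.iT l)
    have e2 := x_entry D (D.simple (Γ.sig i)) (hR.simple_lt _ h1) t ht (ppow pX (Γ.ex i))
      (Γ.iS k) (Γ.iS l)
    rw [pEval_pX] at e1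
    rw [pEval_ppow t 1 ht one_ne_zero, pEval_pX] at e2
    rw [e1, e2]
    exact pEval_of_pCong p t 1 _ _ (hΓ.htw ⟨i, hi⟩ l k)

/-- the intertwining relation on the negative generators -/
theorem gd_twn (i : ℕ) (hi : i < D.rank) (t : K) :
    gdRhoT hD Γ p hΓ (gdX hD (D.neg (D.simple i)) t) =
      gdRhoS hD Γ p hΓ (gdX hD (D.neg (D.simple (Γ.sig i))) (t ^ Γ.ex i)) := by
  have hR := rootsOK_of_mem D hD
  obtain ⟨h1, h2, h3⟩ := hΓ.hsig ⟨i, hi⟩
  apply Units.ext
  rw [gdRhoT_val, gdRhoS_val, gdX_val, gdX_val]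
  by_cases ht : t = 0
  · rw [ht, zero_pow h3, x_zero_nat, x_zero_nat,
      Matrix.submatrix_one _ (iT_injective Γ.iS Γ.iT hΓ.hb),
      Matrix.submatrix_one _ (iS_injective Γ.iS Γ.iT hΓ.hb)]
  · ext k l
    rw [Matrix.submatrix_apply, Matrix.submatrix_apply]
    have e1 := x_entry D (D.neg (D.simple i)) (hR.neg_lt _ (hR.simple_lt i hi)) t ht pX
      (Γ.iT k) (Γ.iT l)
    have e2 := x_entry D (D.neg (D.simple (Γ.sig i))) (hR.neg_lt _ (hR.simple_lt _ h1)) t ht
      (ppow pX (Γ.ex i)) (Γ.iS k) (Γ.iS l)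
    rw [pEval_pX] at e1
    rw [pEval_ppow t 1 ht one_ne_zero, pEval_pX] at e2
    rw [e1, e2]
    exact pEval_of_pCong p t 1 _ _ (hΓ.htwn ⟨i, hi⟩ l k)

/-- a subgroup containing the fundamental root subgroups and their negatives is everything -/
theorem gd_eq_top (H : Subgroup ↥(D.group K))
    (h : ∀ i < D.rank, ∀ t : K, gdX hD (D.simple i) t ∈ H ∧ gdX hD (D.neg (D.simple i)) t ∈ H) :
    H = ⊤ := by
  rw [eq_top_iff]
  intro g _
  have h1 : Subgroup.closure {g : GL D.Idx K | ∃ i < D.rank, ∃ u : K,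
      g = xG D hD (D.simple i) u ∨ g = xG D hD (D.neg (D.simple i)) u} ≤
      H.map (D.group K).subtype := by
    rw [Subgroup.closure_le]
    rintro x ⟨i, hi, u, hx⟩
    rw [SetLike.mem_coe, Subgroup.mem_map]
    rcases hx with rfl | rfl
    · exact ⟨_, (h i hi u).1, rfl⟩
    · exact ⟨_, (h i hi u).2, rfl⟩
  have hg : (g : GL D.Idx K) ∈ H.map (D.group K).subtype := by
    apply h1
    rw [← group_eq_closure_simple D hD]
    exact g.2
  obtain ⟨x, hx, hxg⟩ := Subgroup.mem_map.mp hg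
  have : x = g := Subtype.ext hxg
  rwa [this] at hx

variable (hperf : ∀ i < D.rank, ∀ x : K, ∃ y : K, y ^ Γ.ex i = x)

include hperf in
theorem gd_range_eq : (gdRhoT (K := K) hD Γ p hΓ).range = (gdRhoS (K := K) hD Γ p hΓ).range := by
  apply le_antisymm
  · rintro _ ⟨g, rfl⟩
    have : (gdRhoS (K := K) hD Γ p hΓ).range.comap (gdRhoT hD Γ p hΓ) = ⊤ := by
      apply gd_eq_top hD
      intro i hi t
      refine ⟨?_, ?_⟩
      · rw [Subgroup.mem_comap, gd_tw hD Γ p hΓ i hi]; exact ⟨_, rfl⟩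
      · rw [Subgroup.mem_comap, gd_twn hD Γ p hΓ i hi]; exact ⟨_, rfl⟩
    have hg : g ∈ (gdRhoS (K := K) hD Γ p hΓ).range.comap (gdRhoT hD Γ p hΓ) := by
      rw [this]; exact Subgroup.mem_top g
    exact hg
  · rintro _ ⟨g, rfl⟩
    have : (gdRhoT (K := K) hD Γ p hΓ).range.comap (gdRhoS hD Γ p hΓ) = ⊤ := by
      apply gd_eq_top hD
      intro j hj t
      obtain ⟨h1, h2, h3⟩ := hΓ.hsig ⟨j, hj⟩
      obtain ⟨y, hy⟩ := hperf (Γ.sig j) h1 t
      have e1 := gd_tw hD Γ p hΓ (Γ.sig j) h1 y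
      have e2 := gd_twn hD Γ p hΓ (Γ.sig j) h1 y
      simp only at h2
      rw [h2, hy] at e1 e2
      refine ⟨?_, ?_⟩
      · rw [Subgroup.mem_comap, ← e1]; exact ⟨_, rfl⟩
      · rw [Subgroup.mem_comap, ← e2]; exact ⟨_, rfl⟩
    have hg : g ∈ (gdRhoT (K := K) hD Γ p hΓ).range.comap (gdRhoS hD Γ p hΓ) := by
      rw [this]; exact Subgroup.mem_top g
    exact hg

variable (hS : Function.Injective (gdRhoS (K := K) hD Γ p hΓ))
  (hT : Function.Injective (gdRhoT (K := K) hD Γ p hΓ))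

/-- **the graph automorphism** -/
noncomputable def gdAlpha : ↥(D.group K) ≃* ↥(D.group K) :=
  (MonoidHom.ofInjective hT).trans
    ((MulEquiv.subgroupCongr (gd_range_eq hD Γ p hΓ hperf)).trans (MonoidHom.ofInjective hS).symm)

theorem gdAlpha_spec (g : ↥(D.group K)) :
    gdRhoS hD Γ p hΓ (gdAlpha hD Γ p hΓ hperf hS hT g) = gdRhoT hD Γ p hΓ g := by
  unfold gdAlpha
  simp only [MulEquiv.trans_apply]
  rw [MonoidHom.apply_ofInjective_symm]
  rfl

include hperf hS hT in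
theorem gd_result :
    ∃ α : ↥(D.group K) ≃* ↥(D.group K), ∀ (g : ↥(D.group K)) (i : ℕ) (t : K), i < D.rank →
      (((g : GL D.Idx K) : Matrix D.Idx D.Idx K) = D.x K (D.simple i) t →
        ((α g : GL D.Idx K) : Matrix D.Idx D.Idx K) =
          D.x K (D.simple (Γ.sig i)) (t ^ Γ.ex i)) ∧
      (((g : GL D.Idx K) : Matrix D.Idx D.Idx K) = D.x K (D.neg (D.simple i)) t →
        ((α g : GL D.Idx K) : Matrix D.Idx D.Idx K) =
          D.x K (D.neg (D.simple (Γ.sig i))) (t ^ Γ.ex i)) := by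
  refine ⟨gdAlpha hD Γ p hΓ hperf hS hT, fun g i t hi => ⟨fun hg => ?_, fun hg => ?_⟩⟩
  · have e : g = gdX hD (D.simple i) t := Subtype.ext (Units.ext hg)
    have e2 : gdAlpha hD Γ p hΓ hperf hS hT g = gdX hD (D.simple (Γ.sig i)) (t ^ Γ.ex i) := by
      apply hS
      rw [gdAlpha_spec, e, gd_tw hD Γ p hΓ i hi]
    rw [e2]
    rfl
  · have e : g = gdX hD (D.neg (D.simple i)) t := Subtype.ext (Units.ext hg)
    have e2 : gdAlpha hD Γ p hΓ hperf hS hT g =
        gdX hD (D.neg (D.simple (Γ.sig i))) (t ^ Γ.ex i) := by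
      apply hS
      rw [gdAlpha_spec, e, gd_twn hD Γ p hΓ i hi]
    rw [e2]
    rfl

end

end Cfsg.Agent.helper5.Chev
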