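import Mathlib
import Cfsg.Agent.Lib_helper5_GraphGen

set_option autoImplicit false

/-! The graph automorphism data of `B₂` in characteristic `2` (helper5). -/

namespace Cfsg.Agent.helper5.Chev

open Cfsg.Lie

/-- decode a coordinate of `B₂` -/
def b2dec (c : ℕ) : chevB2.Idx :=
  if h : c < 2 then Sum.inl ⟨c, h⟩ else if h2 : c - 2 < 8 then Sum.inr ⟨c - 2, h2⟩
  else Sum.inl ⟨0, by decide⟩

/-- the list of images and exponents -/
def b2list : List (ℕ × ℕ) := [(1, 2), (0, 1)]

/-- the graph automorphism data of `B₂` -/
def b2data : GraphData chevB2 5 where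
  iS := fun i => b2dec (([0, 3, 4, 7, 8] : List ℕ).getD i.val 0)
  iT := fun i => b2dec (([1, 2, 5, 6, 9] : List ℕ).getD i.val 0)
  sig := fun i => (b2list.getD i (0, 1)).1
  ex := fun i => (b2list.getD i (0, 1)).2

set_option maxRecDepth 100000 in
theorem b2data_ok : b2data.OK 2 where
  hb := by decide +kernel
  hbt := by decide +kernel
  hsig := by decide +kernel
  htw := by decide +kernel
  htwn := by decide +kernel

end Cfsg.Agent.helper5.Chev
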