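import Mathlib
import Cfsg.Agent.Lib_helper5_GraphGen

set_option autoImplicit false

/-! The graph automorphism data of `F₄` in characteristic `2` (helper5). -/

namespace Cfsg.Agent.helper5.Chev

open Cfsg.Lie

/-- decode a coordinate of `F₄` -/
def f4dec (c : ℕ) : chevF4.Idx :=
  if h : c < 4 then Sum.inl ⟨c, h⟩ else if h2 : c - 4 < 48 then Sum.inr ⟨c - 4, h2⟩
  else Sum.inl ⟨0, by decide⟩

/-- the list of images and exponents -/
def f4list : List (ℕ × ℕ) := [(3, 2), (2, 2), (1, 1), (0, 1)]

/-- the graph automorphism data of `F₄` -/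
def f4data : GraphData chevF4 26 where
  iS := fun i => f4dec (([0, 1, 7, 11, 12, 13, 14, 15, 16, 17, 18, 22, 23, 24, 31, 32, 33, 37, 38,
    39, 40, 41, 42, 43, 44, 48] : List ℕ).getD i.val 0)
  iT := fun i => f4dec (([3, 2, 4, 5, 6, 8, 19, 9, 20, 25, 27, 10, 21, 26, 29, 34, 45, 28, 30, 35,
    46, 36, 47, 49, 50, 51] : List ℕ).getD i.val 0)
  sig := fun i => (f4list.getD i (0, 1)).1
  ex := fun i => (f4list.getD i (0, 1)).2

set_option maxRecDepth 100000 in
theorem f4data_hb : Function.Bijective (Sum.elim f4data.iS f4data.iT) := by decide +kernel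

set_option maxRecDepth 100000 in
theorem f4data_hsig : ∀ i : Fin chevF4.rank, f4data.sig i.val < chevF4.rank ∧
    f4data.sig (f4data.sig i.val) = i.val ∧ f4data.ex i.val ≠ 0 := by decide +kernel

set_option maxRecDepth 100000 in
theorem f4data_htw : ∀ i : Fin chevF4.rank, ∀ l k : Fin 26,
    pCong ((2 : ℕ) : ℤ) (vget (col chevF4 (chevF4.simple i.val) pX (code chevF4 (f4data.iT l)))
        (code chevF4 (f4data.iT k)))
      (vget (col chevF4 (chevF4.simple (f4data.sig i.val)) (ppow pX (f4data.ex i.val))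
        (code chevF4 (f4data.iS l))) (code chevF4 (f4data.iS k))) = true := by decide +kernel

set_option maxRecDepth 100000 in
theorem f4data_htwn : ∀ i : Fin chevF4.rank, ∀ l k : Fin 26,
    pCong ((2 : ℕ) : ℤ) (vget (col chevF4 (chevF4.neg (chevF4.simple i.val)) pX
        (code chevF4 (f4data.iT l))) (code chevF4 (f4data.iT k)))
      (vget (col chevF4 (chevF4.neg (chevF4.simple (f4data.sig i.val))) (ppow pX (f4data.ex i.val))
        (code chevF4 (f4data.iS l))) (code chevF4 (f4data.iS k))) = true := by decide +kernel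

set_option maxRecDepth 100000 in
theorem f4data_hbt : ∀ r : Fin chevF4.nroots, ∀ l k : Fin 26,
    pDvd ((2 : ℕ) : ℤ) (vget (col chevF4 r.val pX (code chevF4 (f4data.iS l)))
      (code chevF4 (f4data.iT k))) = true := by decide +kernel

theorem f4data_ok : f4data.OK 2 where
  hb := f4data_hb
  hbt := f4data_hbt
  hsig := f4data_hsig
  htw := f4data_htw
  htwn := f4data_htwn

end Cfsg.Agent.helper5.Chev
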