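import Mathlib

set_option autoImplicit false
set_option linter.unusedSectionVars false

namespace Cfsg.Agent.helper6.TriSolv

open scoped commutatorElement

section chain

variable {G : Type*} [Group G]

/-- a descending chain with abelian-type steps ending at the trivial group gives solvability -/
theorem isSolvable_of_chain (H : ℕ → Subgroup G) (hc : ∀ n, ⁅H n, H n⁆ ≤ H (n + 1))
    (N : ℕ) (hN : H N = ⊥) : Group.IsSolvable (H 0) := by
  have key : ∀ n, (derivedSeries (H 0) n).map (H 0).subtype ≤ H n := by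
    intro n
    induction n with
    | zero =>
      rw [derivedSeries_zero]
      intro x hx
      obtain ⟨y, _, rfl⟩ := hx
      exact y.2
    | succ n ih =>
      rw [derivedSeries_succ, Subgroup.map_commutator]
      exact le_trans (Subgroup.commutator_mono ih ih) (hc n)
  rw [Group.isSolvable_def]
  refine ⟨N, ?_⟩
  have h1 := key N
  rw [hN, le_bot_iff] at h1
  exact (Subgroup.map_eq_bot_iff_of_injective _ (Subgroup.subtype_injective _)).mp h1

end chain

variable {ι : Type*} [Fintype ι] [DecidableEq ι] {F : Type*} [Field F] (pos : ι → ℕ)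

/-- level-`k` matrices: the entry `(i, j)` vanishes unless `pos i ≥ pos j + k` -/
def Lk (k : ℕ) (M : Matrix ι ι F) : Prop := ∀ i j, pos i < pos j + k → M i j = 0

variable {pos}

theorem Lk_mono {a b : ℕ} (h : a ≤ b) {M : Matrix ι ι F} (hM : Lk pos b M) : Lk pos a M :=
  fun i j hij => hM i j (by omega)

theorem Lk_mul {a b : ℕ} {M N : Matrix ι ι F} (hM : Lk pos a M) (hN : Lk pos b N) :
    Lk pos (a + b) (M * N) := by
  intro i j hij
  rw [Matrix.mul_apply]
  apply Finset.sum_eq_zero
  intro m _
  by_cases h1 : pos i < pos m + a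
  · rw [hM i m h1, zero_mul]
  · rw [hN m j (by omega), mul_zero]

theorem Lk_sub {a : ℕ} {M N : Matrix ι ι F} (hM : Lk pos a M) (hN : Lk pos a N) :
    Lk pos a (M - N) := by
  intro i j hij
  rw [Matrix.sub_apply, hM i j hij, hN i j hij, sub_zero]

theorem Lk_neg {a : ℕ} {M : Matrix ι ι F} (hM : Lk pos a M) : Lk pos a (-M) := by
  intro i j hij
  rw [Matrix.neg_apply, hM i j hij, neg_zero]

theorem Lk_one : Lk pos 0 (1 : Matrix ι ι F) := by
  intro i j hij
  have hne : i ≠ j := by
    intro h; subst h; omega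
  rw [Matrix.one_apply, if_neg hne]

theorem Lk_inv (g : GL ι F) (hg : Lk pos 0 (g : Matrix ι ι F)) :
    Lk pos 0 ((g⁻¹ : GL ι F) : Matrix ι ι F) := by
  have hBT : Matrix.BlockTriangular (g : Matrix ι ι F) (fun i => OrderDual.toDual (pos i)) := by
    intro i j hij
    have hlt : pos i < pos j := hij
    exact hg i j (by omega)
  have hinvt : Invertible (g : Matrix ι ι F) := g.invertible
  have hBTinv := Matrix.blockTriangular_inv_of_blockTriangular hBT
  have hinv : ((g⁻¹ : GL ι F) : Matrix ι ι F) = (g : Matrix ι ι F)⁻¹ := Matrix.coe_units_inv g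
  rw [hinv]
  intro i j hij
  have hlt : pos i < pos j := by omega
  exact hBTinv (by exact hlt)

/-- the `k`-th term of the filtration of the lower triangular group -/
def U (pos : ι → ℕ) (F : Type*) [Field F] (k : ℕ) : Subgroup (GL ι F) where
  carrier := {g | Lk pos 0 (g : Matrix ι ι F) ∧ Lk pos k ((g : Matrix ι ι F) - 1)}
  one_mem' := by
    refine ⟨Lk_one, ?_⟩
    intro i j _
    simp
  mul_mem' := by
    intro g h hg hh
    refine ⟨?_, ?_⟩
    · have := Lk_mul hg.1 hh.1
      rw [Units.val_mul]
      exact this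
    · have h1 : ((g * h : GL ι F) : Matrix ι ι F) - 1
          = ((g : Matrix ι ι F) - 1) * (h : Matrix ι ι F) + ((h : Matrix ι ι F) - 1) := by
        rw [Units.val_mul, sub_mul, one_mul]; abel
      rw [h1]
      have h2 : Lk pos (k + 0) (((g : Matrix ι ι F) - 1) * (h : Matrix ι ι F)) := Lk_mul hg.2 hh.1
      intro i j hij
      rw [Matrix.add_apply, h2 i j (by omega), hh.2 i j hij, add_zero]
  inv_mem' := by
    intro g hg
    have hi := Lk_inv g hg.1
    refine ⟨hi, ?_⟩
    have h1 : ((g⁻¹ : GL ι F) : Matrix ι ι F) - 1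
        = - (((g⁻¹ : GL ι F) : Matrix ι ι F) * ((g : Matrix ι ι F) - 1)) := by
      rw [mul_sub, mul_one, ← Units.val_mul, inv_mul_cancel, Units.val_one]; abel
    rw [h1]
    have h2 : Lk pos (0 + k) (((g⁻¹ : GL ι F) : Matrix ι ι F) * ((g : Matrix ι ι F) - 1)) :=
      Lk_mul hi hg.2
    rw [zero_add] at h2
    exact Lk_neg h2

theorem mem_U {k : ℕ} {g : GL ι F} :
    g ∈ U pos F k ↔ Lk pos 0 (g : Matrix ι ι F) ∧ Lk pos k ((g : Matrix ι ι F) - 1) := Iff.rfl

theorem mem_U_zero {g : GL ι F} : g ∈ U pos F 0 ↔ Lk pos 0 (g : Matrix ι ι F) := by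
  rw [mem_U]
  constructor
  · exact fun h => h.1
  · intro h
    exact ⟨h, Lk_sub h Lk_one⟩

theorem comm_sub_one (g h : GL ι F) :
    ((⁅g, h⁆ : GL ι F) : Matrix ι ι F) - 1
      = ((g : Matrix ι ι F) * (h : Matrix ι ι F) - (h : Matrix ι ι F) * (g : Matrix ι ι F))
          * (((h * g)⁻¹ : GL ι F) : Matrix ι ι F) := by
  have h1 : ((⁅g, h⁆ : GL ι F) : Matrix ι ι F)
      = ((g * h : GL ι F) : Matrix ι ι F) * (((h * g)⁻¹ : GL ι F) : Matrix ι ι F) := by
    rw [← Units.val_mul]
    congr 1
    rw [commutatorElement_def]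
    group
  have h2 : (1 : Matrix ι ι F)
      = ((h * g : GL ι F) : Matrix ι ι F) * (((h * g)⁻¹ : GL ι F) : Matrix ι ι F) := by
    rw [← Units.val_mul, mul_inv_cancel, Units.val_one]
  rw [h1, sub_mul, ← Units.val_mul g h, ← Units.val_mul h g, ← h2]

theorem comm_level (hpos : Function.Injective pos) (k : ℕ) (g h : GL ι F)
    (hg : g ∈ U pos F k) (hh : h ∈ U pos F k) :
    Lk pos (k + 1) ((g : Matrix ι ι F) * (h : Matrix ι ι F)
      - (h : Matrix ι ι F) * (g : Matrix ι ι F)) := by
  rcases Nat.eq_zero_or_pos k with hk | hk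
  · subst hk
    intro i j hij
    rw [Matrix.sub_apply, Matrix.mul_apply, Matrix.mul_apply]
    by_cases hne : i = j
    · subst hne
      have e1 : ∀ (A B : Matrix ι ι F), Lk pos 0 A → Lk pos 0 B →
          (∑ m, A i m * B m i) = A i i * B i i := by
        intro A B hA hB
        rw [Finset.sum_eq_single i]
        · intro m _ hm
          rcases Nat.lt_or_ge (pos i) (pos m) with h1 | h1
          · rw [hA i m (by omega), zero_mul]
          · have h2 : pos m < pos i := by
              rcases Nat.lt_or_ge (pos m) (pos i) with h2 | h2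
              · exact h2
              · exact absurd (hpos (le_antisymm h2 h1)) (Ne.symm hm)
            rw [hB m i (by omega), mul_zero]
        · intro hn; exact absurd (Finset.mem_univ _) hn
      rw [e1 _ _ hg.1 hh.1, e1 _ _ hh.1 hg.1, mul_comm, sub_self]
    · have hlt : pos i < pos j := by
        rcases Nat.lt_or_ge (pos i) (pos j) with h2 | h2
        · exact h2
        · have : pos i ≤ pos j := by omega
          exact absurd (hpos (le_antisymm this h2)) hne
      have e1 := Lk_mul hg.1 hh.1 i j (by omega)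
      have e2 := Lk_mul hh.1 hg.1 i j (by omega)
      rw [Matrix.mul_apply] at e1 e2
      rw [e1, e2, sub_zero]
  · have h1 : (g : Matrix ι ι F) * (h : Matrix ι ι F) - (h : Matrix ι ι F) * (g : Matrix ι ι F)
        = ((g : Matrix ι ι F) - 1) * ((h : Matrix ι ι F) - 1)
          - ((h : Matrix ι ι F) - 1) * ((g : Matrix ι ι F) - 1) := by
      simp only [sub_mul, mul_sub, mul_one, one_mul]; abel
    rw [h1]
    have h2 := Lk_sub (Lk_mul hg.2 hh.2) (Lk_mul hh.2 hg.2)
    exact Lk_mono (by omega) h2

theorem commutator_U_le (hpos : Function.Injective pos) (k : ℕ) :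
    ⁅U pos F k, U pos F k⁆ ≤ U pos F (k + 1) := by
  rw [Subgroup.commutator_le]
  intro g hg h hh
  have hc : ⁅g, h⁆ ∈ U pos F k := by
    rw [commutatorElement_def]
    exact Subgroup.mul_mem _ (Subgroup.mul_mem _ (Subgroup.mul_mem _ hg hh) (Subgroup.inv_mem _ hg))
      (Subgroup.inv_mem _ hh)
  refine ⟨hc.1, ?_⟩
  rw [comm_sub_one]
  have h1 := comm_level hpos k g h hg hh
  have h2 : Lk pos 0 ((((h * g)⁻¹ : GL ι F)) : Matrix ι ι F) :=
    ((U pos F k).inv_mem ((U pos F k).mul_mem hh hg)).1
  have h3 := Lk_mul h1 h2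
  rw [add_zero] at h3
  exact h3

theorem U_eq_bot : U pos F (Finset.univ.sup pos + 1) = ⊥ := by
  rw [eq_bot_iff]
  intro g hg
  rw [Subgroup.mem_bot]
  apply Units.ext
  ext i j
  have h1 : pos i ≤ Finset.univ.sup pos := Finset.le_sup (Finset.mem_univ i)
  have h2 := hg.2 i j (by omega)
  rw [Matrix.sub_apply] at h2
  rw [Units.val_one]
  exact sub_eq_zero.mp h2

/-- the lower triangular group with respect to an injective position function is solvable -/
theorem isSolvable_U_zero (hpos : Function.Injective pos) : Group.IsSolvable (U pos F 0) :=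
  isSolvable_of_chain (fun k => U pos F k) (fun k => commutator_U_le hpos k) _ U_eq_bot

/-- a subgroup consisting of lower triangular matrices is solvable -/
theorem isSolvable_of_forall_Lk (hpos : Function.Injective pos) (B : Subgroup (GL ι F))
    (hB : ∀ g ∈ B, Lk pos 0 (g : Matrix ι ι F)) : Group.IsSolvable B := by
  have hle : B ≤ U pos F 0 := fun g hg => mem_U_zero.mpr (hB g hg)
  have := isSolvable_U_zero (F := F) hpos
  exact Group.isSolvable_of_isSolvable_injective (Subgroup.inclusion_injective hle)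

/-- a subgroup generated by lower triangular matrices is solvable -/
theorem isSolvable_closure (hpos : Function.Injective pos) (S : Set (GL ι F))
    (hS : ∀ g ∈ S, Lk pos 0 (g : Matrix ι ι F)) : Group.IsSolvable (Subgroup.closure S) := by
  apply isSolvable_of_forall_Lk hpos
  have hle : Subgroup.closure S ≤ U pos F 0 := by
    rw [Subgroup.closure_le]
    intro g hg
    exact mem_U_zero.mpr (hS g hg)
  intro g hg
  exact mem_U_zero.mp (hle hg)

end Cfsg.Agent.helper6.TriSolv
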