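import Cfsg.Statements.S1050
import Mathlib
import Cfsg.Agent.S1034
import Cfsg.Agent.Lib_helper6_ChevNeg
import Cfsg.Agent.Lib_helper6_TriSolv
-- import your own Cfsg.Agent.* helpers here

set_option autoImplicit false
open Cfsg

namespace Cfsg.Agent.S1050

/-- `B = UH` is solvable (U nilpotent, H abelian, U ⊴ B). -/
theorem result {F : Type*} [Field F] (D : Cfsg.Lie.ChevalleyDatum) (hD : D ∈ [Cfsg.Lie.chevG2, Cfsg.Lie.chevB2, Cfsg.Lie.chevD4, Cfsg.Lie.chevF4, Cfsg.Lie.chevE6, Cfsg.Lie.chevE7, Cfsg.Lie.chevE8]) : Group.IsSolvable ↥(D.borelSubgroup F) := by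
  apply Cfsg.Agent.helper6.TriSolv.isSolvable_of_forall_Lk (pos := Cfsg.Agent.S1028.pos D)
    (Cfsg.Agent.S1028.pos_injective D)
  have hle : D.borelSubgroup F ≤ Cfsg.Agent.helper6.TriSolv.U (Cfsg.Agent.S1028.pos D) F 0 := by
    unfold Cfsg.Lie.ChevalleyDatum.borelSubgroup
    apply sup_le
    · intro g hg
      rw [Cfsg.Agent.helper6.TriSolv.mem_U_zero]
      have hUL := Cfsg.Agent.helper6.ChevNeg.UL_of_mem_posUnipotent D hD g hg
      intro i j hij
      have hne : i ≠ j := by
        intro h; subst h; omega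
      rw [hUL i j (by omega), if_neg hne]
    · intro g hg
      rw [Cfsg.Agent.helper6.TriSolv.mem_U_zero]
      obtain ⟨c, _, hgc⟩ := Cfsg.Agent.S1034.mem_torus D hD g hg
      intro i j hij
      have hne : i ≠ j := by
        intro h; subst h; omega
      rw [hgc]
      unfold Cfsg.Agent.helper5.Chev.torusMat
      rw [Matrix.diagonal_apply_ne _ hne]
  intro g hg
  exact Cfsg.Agent.helper6.TriSolv.mem_U_zero.mp (hle hg)

end Cfsg.Agent.S1050
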