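import Cfsg.Statements.S1024
import Mathlib
-- import your own Cfsg.Agent.* helpers here

set_option autoImplicit false
open Cfsg

namespace Cfsg.Agent.S1024

open Cfsg.Lie

/-- Boolean check of the table fact used: `-r` is in range and different from `r`. -/
def negOKb (D : ChevalleyDatum) : Bool :=
  (List.range D.nroots).all fun r =>
    decide (D.negIdx.getD r 0 < D.nroots) && decide (D.negIdx.getD r 0 ≠ r)

theorem negOK_of {D : ChevalleyDatum} (h : negOKb D = true) (r : ℕ) (hr : r < D.nroots) :
    D.negIdx.getD r 0 < D.nroots ∧ D.negIdx.getD r 0 ≠ r := by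
  unfold negOKb at h
  rw [List.all_eq_true] at h
  have := h r (List.mem_range.mpr hr)
  simpa using this

set_option maxRecDepth 100000 in
theorem negOK_all (D : ChevalleyDatum)
    (hD : D ∈ [chevG2, chevB2, chevD4, chevF4, chevE6, chevE7, chevE8]) : negOKb D = true := by
  simp only [List.mem_cons, List.not_mem_nil, or_false] at hD
  rcases hD with rfl | rfl | rfl | rfl | rfl | rfl | rfl <;> decide +kernel

theorem chainCoeff_pos (D : ChevalleyDatum) (r s u : ℕ) (km : ℕ × ℤ)
    (h : km ∈ D.chainCoeff r s u) : 1 ≤ km.1 := by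
  unfold ChevalleyDatum.chainCoeff at h
  rw [List.mem_flatMap] at h
  obtain ⟨e, _, he⟩ := h
  rw [List.mem_map] at he
  obtain ⟨q, _, rfl⟩ := he
  simp

theorem xMat_zero {F : Type*} [Field F] (D : ChevalleyDatum) (r : Fin D.nroots) :
    D.xMat F r 0 = 1 := by
  ext row col
  rw [Matrix.one_apply]
  unfold ChevalleyDatum.xMat
  simp only [Matrix.of_apply]
  rcases col with i | s
  · rcases row with i' | u
    · simp
    · simp
  · by_cases hsr : s = r
    · subst hsr
      rcases row with i' | u
      · simp
      · simp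
    · simp only [hsr, if_false]
      by_cases hneg : s.val = D.negIdx.getD r.val 0
      · simp only [hneg, if_true]
        rcases row with i' | u
        · simp
        · by_cases hus : u = s
          · subst hus; simp
          · have : (Sum.inr u : D.Idx) ≠ Sum.inr s := fun h => hus (Sum.inr.inj h)
            simp [hus, this]
      · simp only [hneg, if_false]
        rcases row with i' | u
        · simp
        · have hsum : ((D.chainCoeff r.val s.val u.val).map
              fun km => ((km.2 : ℤ) : F) * (0 : F) ^ km.1).sum = 0 := by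
            apply List.sum_eq_zero
            intro x hx
            rw [List.mem_map] at hx
            obtain ⟨km, hkm, rfl⟩ := hx
            have := chainCoeff_pos D _ _ _ km hkm
            rw [zero_pow (by omega), mul_zero]
          show (if u = s then (1 : F) else 0) + ((D.chainCoeff r.val s.val u.val).map
              fun km => ((km.2 : ℤ) : F) * (0 : F) ^ km.1).sum = _
          rw [hsum, add_zero]
          by_cases hus : u = s
          · subst hus; simp
          · have : (Sum.inr u : D.Idx) ≠ Sum.inr s := fun h => hus (Sum.inr.inj h)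
            simp [hus, this]

theorem result {F : Type*} [Field F] (D : Cfsg.Lie.ChevalleyDatum) (hD : D ∈ [Cfsg.Lie.chevG2, Cfsg.Lie.chevB2, Cfsg.Lie.chevD4, Cfsg.Lie.chevF4, Cfsg.Lie.chevE6, Cfsg.Lie.chevE7, Cfsg.Lie.chevE8]) (r : ℕ) (hr : r < D.nroots) (t : F) :
    D.x F r t = 1 ↔ t = 0 := by
  have hx : D.x F r t = D.xMat F ⟨r, hr⟩ t := by
    unfold ChevalleyDatum.x
    rw [dif_pos hr]
  rw [hx]
  constructor
  · intro h
    obtain ⟨hlt, hne⟩ := negOK_of (negOK_all D hD) r hr
    have hentry := congrFun (congrFun h (Sum.inr ⟨r, hr⟩)) (Sum.inr ⟨D.negIdx.getD r 0, hlt⟩)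
    unfold ChevalleyDatum.xMat at hentry
    simp only [Matrix.of_apply] at hentry
    have h1 : (⟨D.negIdx.getD r 0, hlt⟩ : Fin D.nroots) ≠ ⟨r, hr⟩ := by
      intro e; exact hne (Fin.mk.inj e)
    have h2 : (⟨r, hr⟩ : Fin D.nroots) ≠ ⟨D.negIdx.getD r 0, hlt⟩ := fun e => h1 e.symm
    have h3 : (Sum.inr ⟨r, hr⟩ : D.Idx) ≠ Sum.inr ⟨D.negIdx.getD r 0, hlt⟩ :=
      fun e => h2 (Sum.inr.inj e)
    simp only [h1, if_false, if_true, h2, Matrix.one_apply, h3] at hentry
    have : t ^ 2 = 0 := by simpa using hentry
    exact pow_eq_zero_iff (by norm_num) |>.mp this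
  · rintro rfl
    exact xMat_zero D ⟨r, hr⟩

end Cfsg.Agent.S1024
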