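import Mathlib
import Cfsg.Statements.S1053
import Cfsg.Agent.Lib_helper5_ChevBN2

set_option autoImplicit false
open Cfsg

namespace Cfsg.Agent.S1053

open Cfsg.Lie Cfsg.Agent.helper5.Chev

/-- There is `n₀ ∈ N` with `n₀ U n₀⁻¹ = V` (a representative of the longest element of the Weyl group). -/
theorem result {F : Type*} [Field F] (D : Cfsg.Lie.ChevalleyDatum) (hD : D ∈ [Cfsg.Lie.chevG2, Cfsg.Lie.chevB2, Cfsg.Lie.chevD4, Cfsg.Lie.chevF4, Cfsg.Lie.chevE6, Cfsg.Lie.chevE7, Cfsg.Lie.chevE8]) :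
    ∃ n ∈ D.monomialSubgroup F, (D.posUnipotent F).map (MulAut.conj n).toMonoidHom = D.negUnipotent F := by
  obtain ⟨w, hw⟩ := w0Ex_of_mem D hD
  have hR := rootsOK_of_mem D hD
  refine ⟨nW D hD w, nW_mem D hD w hw.lt, le_antisymm ?_ ?_⟩
  · rw [Subgroup.map_le_iff_le_comap]
    unfold Cfsg.Lie.ChevalleyDatum.posUnipotent
    rw [Subgroup.closure_le]
    rintro g ⟨r, t, hr, hg⟩
    rw [eq_xG D hD g r t hg]
    obtain ⟨ε, _, hc⟩ := nW_conj (F := F) D hD w hw.lt r hr.1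
    rw [SetLike.mem_coe, Subgroup.mem_comap, MulEquiv.coe_toMonoidHom, MulAut.conj_apply, hc t]
    unfold Cfsg.Lie.ChevalleyDatum.negUnipotent
    apply Subgroup.subset_closure
    exact ⟨applyW D w r, ε * t, hw.pos r hr.1 hr, rfl⟩
  · unfold Cfsg.Lie.ChevalleyDatum.negUnipotent
    rw [Subgroup.closure_le]
    rintro g ⟨s, t, hs, hg⟩
    rw [eq_xG D hD g s t hg, SetLike.mem_coe, Subgroup.mem_map]
    have hpos := hw.neg s hs.1 hs
    obtain ⟨ε, hε, hc⟩ := nW_conj (F := F) D hD w hw.lt (applyW D w.reverse s) hpos.1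
    refine ⟨xG D hD (applyW D w.reverse s) (ε * t), ?_, ?_⟩
    · unfold Cfsg.Lie.ChevalleyDatum.posUnipotent
      apply Subgroup.subset_closure
      exact ⟨applyW D w.reverse s, ε * t, hpos, rfl⟩
    · rw [MulEquiv.coe_toMonoidHom, MulAut.conj_apply, hc (ε * t), ← mul_assoc, hε, one_mul,
        applyW_rev D hD w hw.lt s hs.1]

end Cfsg.Agent.S1053
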