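import Cfsg.Statements.S1051
import Mathlib
import Cfsg.Agent.S1037
import Cfsg.Agent.S1036
import Cfsg.Agent.S1053
import Cfsg.Agent.S1038
import Cfsg.Agent.S1024
import Cfsg.Agent.Lib_helper6_ChevGL
-- import your own Cfsg.Agent.* helpers here

set_option autoImplicit false
open Cfsg

namespace Cfsg.Agent.S1051


open Cfsg.Lie Cfsg.Agent.helper5.Chev

section
variable {F : Type*} [Field F]

theorem conj_mem_diagonal (D : ChevalleyDatum)
    (hD : D ∈ [chevG2, chevB2, chevD4, chevF4, chevE6, chevE7, chevE8]) (n : GL D.Idx F)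
    (hn : n ∈ D.monomialSubgroup F) (h : GL D.Idx F) (hh : h ∈ D.diagonalSubgroup F) :
    n * h * n⁻¹ ∈ D.diagonalSubgroup F := by
  have hnorm := Cfsg.Agent.S1038.result (F := F) D hD
  have hHN : D.diagonalSubgroup F ≤ D.monomialSubgroup F :=
    Cfsg.Agent.helper6.ChevGL.diagonal_le_monomial D
  have h1 : (⟨h, hHN hh⟩ : D.monomialSubgroup F) ∈
      (D.diagonalSubgroup F).subgroupOf (D.monomialSubgroup F) := Subgroup.mem_subgroupOf.mpr hh
  have h2 := hnorm.conj_mem _ h1 ⟨n, hn⟩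
  exact Subgroup.mem_subgroupOf.mp h2

theorem map_conj_diagonal (D : ChevalleyDatum)
    (hD : D ∈ [chevG2, chevB2, chevD4, chevF4, chevE6, chevE7, chevE8]) (n : GL D.Idx F)
    (hn : n ∈ D.monomialSubgroup F) :
    (D.diagonalSubgroup F).map (MulAut.conj n).toMonoidHom = D.diagonalSubgroup F := by
  apply le_antisymm
  · rintro _ ⟨h, hh, rfl⟩
    exact conj_mem_diagonal D hD n hn h hh
  · intro h hh
    refine ⟨n⁻¹ * h * n⁻¹⁻¹, conj_mem_diagonal D hD n⁻¹ (Subgroup.inv_mem _ hn) h hh, ?_⟩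
    show n * (n⁻¹ * h * n⁻¹⁻¹) * n⁻¹ = h
    group

/-- an element all of whose `G`-conjugates lie in `B` lies in `H` -/
theorem mem_diagonal_of_core (D : ChevalleyDatum)
    (hD : D ∈ [chevG2, chevB2, chevD4, chevF4, chevE6, chevE7, chevE8]) (k : GL D.Idx F)
    (hk : ∀ g ∈ D.group F, g * k * g⁻¹ ∈ D.borelSubgroup F) : k ∈ D.diagonalSubgroup F := by
  obtain ⟨n, hnN, hn⟩ := Cfsg.Agent.S1053.result (F := F) D hD
  have hnG : n ∈ D.group F := Cfsg.Agent.helper6.ChevGL.monomial_le_group D hD hnN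
  have hkB : k ∈ D.borelSubgroup F := by
    have := hk 1 (Subgroup.one_mem _)
    simpa using this
  have h1 := hk n⁻¹ (Subgroup.inv_mem _ hnG)
  have h2 : k ∈ (D.borelSubgroup F).map (MulAut.conj n).toMonoidHom := by
    refine ⟨n⁻¹ * k * n⁻¹⁻¹, h1, ?_⟩
    show n * (n⁻¹ * k * n⁻¹⁻¹) * n⁻¹ = k
    group
  have h3 : (D.borelSubgroup F).map (MulAut.conj n).toMonoidHom =
      D.negUnipotent F ⊔ D.diagonalSubgroup F := by
    unfold ChevalleyDatum.borelSubgroup
    rw [Subgroup.map_sup, hn, map_conj_diagonal D hD n hnN]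
  rw [h3] at h2
  have h4 := (Cfsg.Agent.S1037.result (F := F) D hD).2
  rw [← h4]
  exact ⟨hkB, h2⟩

/-- the core property is inherited by commutators with elements of `G` -/
theorem core_comm (D : ChevalleyDatum) (k x : GL D.Idx F) (hx : x ∈ D.group F)
    (hk : ∀ g ∈ D.group F, g * k * g⁻¹ ∈ D.borelSubgroup F) :
    ∀ g ∈ D.group F, g * (k * x * k⁻¹ * x⁻¹) * g⁻¹ ∈ D.borelSubgroup F := by
  intro g hg
  have h1 := hk g hg
  have h2 := hk (g * x) (Subgroup.mul_mem _ hg hx)
  have h3 : g * (k * x * k⁻¹ * x⁻¹) * g⁻¹ = (g * k * g⁻¹) * (g * x * k * (g * x)⁻¹)⁻¹ := by group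
  rw [h3]
  exact Subgroup.mul_mem _ h1 (Subgroup.inv_mem _ h2)

theorem core_eq_one (D : ChevalleyDatum)
    (hD : D ∈ [chevG2, chevB2, chevD4, chevF4, chevE6, chevE7, chevE8]) (k : GL D.Idx F)
    (hk : ∀ g ∈ D.group F, g * k * g⁻¹ ∈ D.borelSubgroup F) : k = 1 := by
  have hcart := Cfsg.Agent.S1032.cartanCheck_of_mem D hD
  have hR := rootsOK_of_mem D hD
  have hkH := mem_diagonal_of_core D hD k hk
  obtain ⟨c, hc, hkc⟩ := Cfsg.Agent.S1034.mem_torus D hD k hkH
  -- every character value is one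
  have hchar : ∀ r : Fin D.nroots, torusChar D c r = 1 := by
    intro r
    have hr : (r : ℕ) < D.nroots := r.2
    let x : GL D.Idx F := Cfsg.Agent.helper6.ChevGL.xG D hD r 1
    have hxG : x ∈ D.group F := Cfsg.Agent.helper6.ChevGL.xG_mem_group D hD r 1
    have hcomm := core_comm D k x hxG hk
    have hcH := mem_diagonal_of_core D hD _ hcomm
    -- the commutator is a root element
    have h1 : (k : Matrix D.Idx D.Idx F) * (x : Matrix D.Idx D.Idx F) =
        D.x F r (torusChar D c r * 1) * (k : Matrix D.Idx D.Idx F) := by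
      show (k : Matrix D.Idx D.Idx F) * D.x F r 1 = _
      rw [hkc, x_eq_xMat D r hr, x_eq_xMat D r hr]
      exact torusMat_mul_xMat D hcart c (fun i _ => hc i) ⟨r, hr⟩ 1
    have h2 : k * x * k⁻¹ = Cfsg.Agent.helper6.ChevGL.xG D hD r (torusChar D c r * 1) := by
      apply Units.ext
      rw [Units.val_mul, Units.val_mul, h1, mul_assoc, ← Units.val_mul, mul_inv_cancel,
        Units.val_one, mul_one]
      rfl
    have h3 : k * x * k⁻¹ * x⁻¹ =
        Cfsg.Agent.helper6.ChevGL.xG D hD r (torusChar D c r * 1 + -1) := by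
      rw [h2, Cfsg.Agent.helper6.ChevGL.xG_inv, Cfsg.Agent.helper6.ChevGL.xG_mul]
    rw [h3] at hcH
    have h4 : Cfsg.Agent.helper6.ChevGL.xG D hD r (torusChar D c r * 1 + -1) = 1 := by
      by_cases hpos : D.IsPosRoot r
      · have hU := Cfsg.Agent.helper6.ChevGL.xG_mem_posUnipotent D hD r hpos
          (torusChar D c r * 1 + -1)
        have hbot := (Cfsg.Agent.S1036.result (F := F) D hD).2
        have : Cfsg.Agent.helper6.ChevGL.xG D hD r (torusChar D c r * 1 + -1) ∈
            D.posUnipotent F ⊓ D.diagonalSubgroup F := ⟨hU, hcH⟩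
        rw [hbot, Subgroup.mem_bot] at this
        exact this
      · have hneg : D.IsNegRoot r := hR.neg_of_not_pos r hr hpos
        have hV := Cfsg.Agent.helper6.ChevGL.xG_mem_negUnipotent D hD r hneg
          (torusChar D c r * 1 + -1)
        have hbot := (Cfsg.Agent.S1037.result (F := F) D hD).1
        have hB : Cfsg.Agent.helper6.ChevGL.xG D hD r (torusChar D c r * 1 + -1) ∈
            D.borelSubgroup F := by
          unfold ChevalleyDatum.borelSubgroup
          exact Subgroup.mem_sup_right hcH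
        have : Cfsg.Agent.helper6.ChevGL.xG D hD r (torusChar D c r * 1 + -1) ∈
            D.borelSubgroup F ⊓ D.negUnipotent F := ⟨hB, hV⟩
        rw [hbot, Subgroup.mem_bot] at this
        exact this
    have h5 : D.x F r (torusChar D c r * 1 + -1) = 1 := by
      have := congrArg (fun g : GL D.Idx F => (g : Matrix D.Idx D.Idx F)) h4
      simpa using this
    have h6 := (Cfsg.Agent.S1024.result D hD r hr _).mp h5
    have h7 : torusChar D c r * 1 + -1 = 0 := h6
    rw [mul_one] at h7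
    exact add_neg_eq_zero.mp h7
  apply Units.ext
  rw [hkc, Units.val_one]
  unfold torusMat
  have : (fun s : Fin D.nroots => torusChar D c s) = fun _ => (1 : F) := funext hchar
  rw [this]
  exact diag_one D

end

/-- `⋂_g g B g⁻¹ = 1`: the normal core of `B` in the Chevalley group is trivial. -/
theorem result {F : Type*} [Field F] (D : Cfsg.Lie.ChevalleyDatum) (hD : D ∈ [Cfsg.Lie.chevG2, Cfsg.Lie.chevB2, Cfsg.Lie.chevD4, Cfsg.Lie.chevF4, Cfsg.Lie.chevE6, Cfsg.Lie.chevE7, Cfsg.Lie.chevE8]) : ((D.borelSubgroup F).subgroupOf (D.group F)).normalCore = ⊥ := by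
  rw [eq_bot_iff]
  intro k hk
  rw [Subgroup.mem_bot]
  have hk' : ∀ g ∈ D.group F, g * (k : GL D.Idx F) * g⁻¹ ∈ D.borelSubgroup F := by
    intro g hg
    have := hk ⟨g, hg⟩
    exact Subgroup.mem_subgroupOf.mp this
  have h1 := core_eq_one D hD (k : GL D.Idx F) hk'
  exact Subtype.ext h1

end Cfsg.Agent.S1051
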