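import Mathlib
import Cfsg.Statements.S1052
import Cfsg.Agent.Lib_helper5_ChevPerf
import Cfsg.Agent.Lib_helper5_ChevCerts

set_option autoImplicit false
open Cfsg

namespace Cfsg.Agent.S1052

open Cfsg.Lie Cfsg.Agent.helper5.Chev

/-- checker: the `i`-th entry `(a, b, k)` of `ws` is a pair of roots with `[x_a, x_b]` a single
root element of the `i`-th fundamental root with coefficient `k = ±1` -/
def perfCheck (D : ChevalleyDatum) (ws : List (ℕ × ℕ × ℤ)) : Bool :=
  (List.range D.rank).all fun i =>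
    let w := ws.getD i (0, 0, 0)
    decide (w.1 < D.nroots) && decide (w.2.1 < D.nroots) && decide (w.2.1 ≠ w.1) &&
      decide (w.2.1 ≠ D.neg w.1) && decide (D.commTerms w.1 w.2.1 = [(D.simple i, w.2.2, 1, 1)]) &&
      (decide (w.2.2 = 1) || decide (w.2.2 = -1))

theorem perfect_of_check {F : Type*} [Field F] (D : ChevalleyDatum)
    (hD : D ∈ [chevG2, chevB2, chevD4, chevF4, chevE6, chevE7, chevE8])
    (ws : List (ℕ × ℕ × ℤ)) (h : perfCheck D ws = true) : commutator ↥(D.group F) = ⊤ := by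
  apply perfect_of_simple D hD
  intro i hi t
  unfold perfCheck at h
  rw [List.all_eq_true] at h
  have h1 := h i (List.mem_range.mpr hi)
  simp only [Bool.and_eq_true, Bool.or_eq_true, decide_eq_true_eq] at h1
  obtain ⟨⟨⟨⟨⟨ha, hb⟩, hba⟩, hbn⟩, hterms⟩, hk⟩ := h1
  apply xG_mem_derK_of_comm D hD (commOK_of_mem D hD) _ _ _ _ ha hb hba hbn hterms
  rcases hk with hk | hk <;> rw [hk] <;> norm_num

theorem checkD4 : perfCheck chevD4 [(6,22,1), (1,23,-1), (3,22,-1), (2,22,-1)] = true := by
  decide +kernel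

theorem checkF4 : perfCheck chevF4 [(7,44,-1), (8,40,-1), (2,46,-1), (1,47,-1)] = true := by
  decide +kernel

theorem checkE6 : perfCheck chevE6
    [(16,66,1), (1,71,-1), (5,69,-1), (2,70,-1), (3,69,-1), (4,68,-1)] = true := by
  decide +kernel

theorem checkE7 : perfCheck chevE7
    [(1,125,-1), (7,122,-1), (2,124,-1), (3,123,-1), (4,122,-1), (5,121,-1), (6,120,-1)] = true := by
  decide +kernel

theorem checkE8 : perfCheck chevE8
    [(14,233,-1), (7,234,-1), (6,234,-1), (5,235,-1), (4,236,-1), (3,237,-1), (2,238,-1),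
      (1,239,-1)] = true := by
  decide +kernel

theorem perfG2 {F : Type*} [Field F] (hF : ∃ a : F, a ≠ 0 ∧ a ≠ 1) :
    commutator ↥(chevG2.group F) = ⊤ := by
  have hD : chevG2 ∈ [chevG2, chevB2, chevD4, chevF4, chevE6, chevE7, chevE8] := by simp
  obtain ⟨c, hc0, hc1⟩ := hF
  apply perfect_of_simple chevG2 hD
  intro i hi t
  have hi' : i < 2 := hi
  interval_cases i
  · -- fundamental root 0: torus element `h_1(c)` acts by `c⁻¹`
    apply xG_mem_derK_of_torus chevG2 hD 1 (by decide) _ (by decide) c hc0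
    have e : chevG2.cartan 1 (chevG2.simple 0) = -1 := by decide +kernel
    rw [e, zpow_neg_one]
    intro h
    exact hc1 (inv_eq_one.mp h)
  · apply xG_mem_derK_of_comm chevG2 hD (commOK_of_mem chevG2 hD) 1 11 _ (-1) (by decide)
      (by decide) (by decide) (by decide +kernel) (by decide +kernel)
    norm_num

theorem perfB2 {F : Type*} [Field F] (hF : ∃ a : F, a ≠ 0 ∧ a ≠ 1) :
    commutator ↥(chevB2.group F) = ⊤ := by
  have hD : chevB2 ∈ [chevG2, chevB2, chevD4, chevF4, chevE6, chevE7, chevE8] := by simp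
  obtain ⟨c, hc0, hc1⟩ := hF
  apply perfect_of_simple chevB2 hD
  intro i hi t
  have hi' : i < 2 := hi
  interval_cases i
  · apply xG_mem_derK_of_torus chevB2 hD 1 (by decide) _ (by decide) c hc0
    have e : chevB2.cartan 1 (chevB2.simple 0) = -1 := by decide +kernel
    rw [e, zpow_neg_one]
    intro h
    exact hc1 (inv_eq_one.mp h)
  · by_cases h2 : (2 : F) = 0
    · -- characteristic 2: `h_1(c)` acts by `c²`, and `c² = 1` forces `c = 1`
      apply xG_mem_derK_of_torus chevB2 hD 1 (by decide) _ (by decide) c hc0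
      have e : chevB2.cartan 1 (chevB2.simple 1) = 2 := by decide +kernel
      rw [e]
      intro h
      apply hc1
      have h3 : (c - 1) ^ 2 = 0 := by
        have : (c - 1) ^ 2 = c ^ 2 - 2 * c + 1 := by ring
        rw [this, h2, zero_mul, sub_zero]
        have h4 : c ^ 2 = 1 := by exact_mod_cast h
        rw [h4]
        have : (1 : F) + 1 = 2 := by norm_num
        rw [this, h2]
      have h5 := pow_eq_zero_iff (n := 2) (by norm_num) |>.mp h3
      exact sub_eq_zero.mp h5
    · apply xG_mem_derK_of_comm chevB2 hD (commOK_of_mem chevB2 hD) 2 6 _ (-2) (by decide)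
        (by decide) (by decide) (by decide +kernel) (by decide +kernel)
      push_cast
      exact neg_ne_zero.mpr h2

/-- The adjoint Chevalley group is perfect, excepting `G₂(2)` and `B₂(2)`. -/
theorem result {F : Type*} [Field F] (D : Cfsg.Lie.ChevalleyDatum) (hD : D ∈ [Cfsg.Lie.chevG2, Cfsg.Lie.chevB2, Cfsg.Lie.chevD4, Cfsg.Lie.chevF4, Cfsg.Lie.chevE6, Cfsg.Lie.chevE7, Cfsg.Lie.chevE8]) (h2 : D = Cfsg.Lie.chevG2 ∨ D = Cfsg.Lie.chevB2 → ∃ a : F, a ≠ 0 ∧ a ≠ 1) :
    commutator ↥(D.group F) = ⊤ := by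
  have hD' := hD
  simp only [List.mem_cons, List.not_mem_nil, or_false] at hD'
  rcases hD' with rfl | rfl | rfl | rfl | rfl | rfl | rfl
  · exact perfG2 (h2 (Or.inl rfl))
  · exact perfB2 (h2 (Or.inr rfl))
  · exact perfect_of_check _ hD _ checkD4
  · exact perfect_of_check _ hD _ checkF4
  · exact perfect_of_check _ hD _ checkE6
  · exact perfect_of_check _ hD _ checkE7
  · exact perfect_of_check _ hD _ checkE8

end Cfsg.Agent.S1052
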