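import Mathlib
import Cfsg.Statements.S1054
import Cfsg.Agent.Lib_helper5_ChevSimple
import Cfsg.Agent.Lib_helper5_ChevCerts
import Cfsg.Agent.S1043
import Cfsg.Agent.S1050
import Cfsg.Agent.S1051
import Cfsg.Agent.S1052

set_option autoImplicit false
open Cfsg

namespace Cfsg.Agent.S1054

open Cfsg.Lie Cfsg.Agent.helper5.Chev

/-- The Chevalley groups of types D₄, F₄, E₆, E₇, E₈ are simple over every field. -/
theorem result {F : Type*} [Field F] (D : Cfsg.Lie.ChevalleyDatum)
    (hD : D ∈ [Cfsg.Lie.chevD4, Cfsg.Lie.chevF4, Cfsg.Lie.chevE6, Cfsg.Lie.chevE7, Cfsg.Lie.chevE8]) :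
    IsSimpleGroup ↥(D.group F) ∧ ¬ IsMulCommutative ↥(D.group F) := by
  have hD' : D ∈ [chevG2, chevB2, chevD4, chevF4, chevE6, chevE7, chevE8] := by
    simp only [List.mem_cons, List.not_mem_nil, or_false] at hD ⊢
    tauto
  have hne : D = chevG2 ∨ D = chevB2 → ∃ a : F, a ≠ 0 ∧ a ≠ 1 := by
    intro h
    exfalso
    have hr : D.rank = 2 := by
      rcases h with rfl | rfl <;> rfl
    simp only [List.mem_cons, List.not_mem_nil, or_false] at hD
    rcases hD with rfl | rfl | rfl | rfl | rfl <;> revert hr <;> decide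
  obtain ⟨hB, hN, hsup⟩ := Cfsg.Agent.S1043.result (F := F) D hD'
  obtain ⟨P, hPB, -, hPS⟩ := chev_bnpair D hD' (commOK_of_mem D hD') (posCommOK_of_mem D hD')
    (D.group F) hB hN hsup
  exact chev_simple_of D hD' hN P hPB hPS (Cfsg.Agent.S1052.result D hD' hne)
    (Cfsg.Agent.S1050.result D hD') (Cfsg.Agent.S1051.result D hD')

end Cfsg.Agent.S1054
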