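import Mathlib
import Cfsg.Prelude.Def_ChevStructure
import Cfsg.Prelude.Def_ChevB2

set_option autoImplicit false

/-!
helper6: the Chevalley group of type `B₂` over a field with two elements maps onto the
symmetric group of degree six (action on an orbit of six row vectors).
-/

namespace Cfsg.Agent.helper6.B2S6

open Cfsg.Lie Matrix

/-- naturality of the matrices `x_r(t)` under ring homomorphisms -/
theorem xMat_map {K F : Type*} [Field K] [Field F] (D : ChevalleyDatum) (f : K →+* F)
    (r : Fin D.nroots) (t : K) : (D.xMat K r t).map f = D.xMat F r (f t) := by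
  ext row col
  simp only [Matrix.map_apply, ChevalleyDatum.xMat, Matrix.of_apply]
  rcases col with i | s
  · rcases row with i' | u
    · simp only
      split_ifs <;> simp
    · simp only
      split_ifs <;> simp
  · simp only
    split_ifs with h1 h2
    · rcases row with i' | u
      · simp
      · simp only
        split_ifs <;> simp
    · rcases row with i' | u
      · simp
      · simp only
        split_ifs <;> simp
    · rcases row with i' | u
      · simp
      · simp only [map_add, map_list_sum, List.map_map]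
        congr 1
        · split_ifs <;> simp
        · congr 1
          apply List.map_congr_left
          intro km _
          simp

/-- the six row vectors over the prime field -/
def e2 : Fin 6 → chevB2.Idx → ZMod 2 :=
  ![Sum.elim ![0, 1] ![0, 0, 0, 1, 1, 0, 0, 0],
    Sum.elim ![0, 1] ![0, 0, 0, 1, 1, 0, 0, 1],
    Sum.elim ![0, 1] ![1, 0, 0, 0, 1, 0, 0, 1],
    Sum.elim ![0, 1] ![1, 0, 0, 1, 1, 0, 0, 0],
    Sum.elim ![0, 1] ![1, 0, 0, 1, 0, 0, 0, 1],
    Sum.elim ![0, 1] ![1, 0, 0, 0, 0, 0, 0, 1]]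

/-- the permutations induced by the eight root elements, as tables -/
def tab : Fin 8 → Fin 6 → Fin 6 :=
  ![![1, 0, 2, 3, 4, 5], ![1, 0, 5, 4, 3, 2], ![1, 0, 3, 2, 5, 4], ![0, 1, 5, 3, 4, 2],
    ![0, 1, 2, 3, 5, 4], ![3, 4, 5, 0, 1, 2], ![3, 2, 1, 0, 5, 4], ![3, 1, 2, 0, 4, 5]]

theorem tab_tab : ∀ (r : Fin 8) (i : Fin 6), tab r (tab r i) = i := by decide

/-- the induced permutations -/
def sig (r : Fin 8) : Equiv.Perm (Fin 6) :=
  ⟨tab r, tab r, tab_tab r, tab_tab r⟩

theorem sig_swap : sig 0 = Equiv.swap 0 1 := by decide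

theorem sig_rot : sig 1 * sig 5 * sig 6 = finRotate 6 := by decide

theorem e2_inj : Function.Injective e2 := by decide

set_option maxRecDepth 100000 in
theorem e2_act : ∀ (r : Fin chevB2.nroots) (i : Fin 6),
    e2 i ᵥ* chevB2.xMat (ZMod 2) r 1 = e2 (tab r i) := by decide +kernel

set_option maxRecDepth 100000 in
theorem x2_sq : ∀ r : Fin chevB2.nroots,
    chevB2.xMat (ZMod 2) r 1 * chevB2.xMat (ZMod 2) r 1 = 1 := by decide +kernel

set_option maxRecDepth 100000 in
theorem x2_zero : ∀ r : Fin chevB2.nroots, chevB2.xMat (ZMod 2) r 0 = 1 := by decide +kernel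

section field

variable {F : Type*} [Field F]

/-- the six row vectors over `F` -/
def eF (f : ZMod 2 →+* F) (i : Fin 6) : chevB2.Idx → F := fun a => f (e2 i a)

theorem eF_inj (f : ZMod 2 →+* F) : Function.Injective (eF f) := by
  intro i j h
  apply e2_inj
  funext a
  exact f.injective (congrFun h a)

theorem xF_one (f : ZMod 2 →+* F) (r : Fin chevB2.nroots) : chevB2.xMat F r 1 = (chevB2.xMat (ZMod 2) r 1).map f := by
  rw [xMat_map, map_one]

theorem xF_zero (f : ZMod 2 →+* F) (r : Fin chevB2.nroots) : chevB2.xMat F r 0 = 1 := by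
  have h := xMat_map chevB2 f r 0
  rw [map_zero, x2_zero r] at h
  rw [← h]
  exact Matrix.map_one f (map_zero f) (map_one f)

theorem xF_sq (f : ZMod 2 →+* F) (r : Fin chevB2.nroots) : chevB2.xMat F r 1 * chevB2.xMat F r 1 = 1 := by
  rw [xF_one f r, ← Matrix.map_mul, x2_sq r]
  exact Matrix.map_one f (map_zero f) (map_one f)

theorem eF_act (f : ZMod 2 →+* F) (r : Fin chevB2.nroots) (i : Fin 6) :
    eF f i ᵥ* chevB2.xMat F r 1 = eF f (tab r i) := by
  funext a
  rw [xF_one f r]
  have h := RingHom.map_vecMul f (chevB2.xMat (ZMod 2) r 1) (e2 i) a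
  rw [e2_act r i] at h
  exact h.symm

/-- the matrices permuting the six vectors -/
def stab (f : ZMod 2 →+* F) : Subgroup (GL chevB2.Idx F) where
  carrier := {g | ∀ w : chevB2.Idx → F,
    w ∈ Set.range (eF f) ↔ w ᵥ* (g : Matrix chevB2.Idx chevB2.Idx F) ∈ Set.range (eF f)}
  one_mem' := by
    intro w
    simp
  mul_mem' := by
    intro g h hg hh w
    rw [hg w, hh (w ᵥ* (g : Matrix chevB2.Idx chevB2.Idx F)), Matrix.vecMul_vecMul]
    rfl
  inv_mem' := by
    intro g hg w
    rw [hg (w ᵥ* ((g⁻¹ : GL chevB2.Idx F) : Matrix chevB2.Idx chevB2.Idx F)),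
      Matrix.vecMul_vecMul]
    have : ((g⁻¹ : GL chevB2.Idx F) : Matrix chevB2.Idx chevB2.Idx F) *
        (g : Matrix chevB2.Idx chevB2.Idx F) = 1 := by
      rw [← Units.val_mul, inv_mul_cancel, Units.val_one]
    rw [this, Matrix.vecMul_one]

theorem mem_stab (f : ZMod 2 →+* F) (g : GL chevB2.Idx F) :
    g ∈ stab f ↔ ∀ w : chevB2.Idx → F,
      w ∈ Set.range (eF f) ↔ w ᵥ* (g : Matrix chevB2.Idx chevB2.Idx F) ∈ Set.range (eF f) :=
  Iff.rfl

theorem gen_mem_stab (f : ZMod 2 →+* F) (g : GL chevB2.Idx F) (r : Fin chevB2.nroots)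
    (hg : (g : Matrix chevB2.Idx chevB2.Idx F) = chevB2.xMat F r 1) : g ∈ stab f := by
  rw [mem_stab f]
  intro w
  rw [hg]
  constructor
  · rintro ⟨i, rfl⟩
    exact ⟨tab r i, (eF_act f r i).symm⟩
  · rintro ⟨j, hj⟩
    refine ⟨tab r j, ?_⟩
    rw [← eF_act f r j, hj, Matrix.vecMul_vecMul, xF_sq f r, Matrix.vecMul_one]

end field

section hom

variable {F : Type*} [Field F]

theorem group_le_stab (f : ZMod 2 →+* F) (h01 : ∀ t : F, t = 0 ∨ t = 1) :
    chevB2.group F ≤ stab f := by
  unfold ChevalleyDatum.group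
  rw [Subgroup.closure_le]
  rintro g ⟨r, t, hg⟩
  rcases h01 t with rfl | rfl
  · have h1 : g = 1 := by
      apply Units.ext
      rw [hg, xF_zero f r]
      rfl
    rw [h1]
    exact (stab f).one_mem
  · exact gen_mem_stab f g r hg

/-- the action of `stab f` on the six vectors -/
@[reducible] def act (f : ZMod 2 →+* F) : MulAction (stab f) (Set.range (eF f)) where
  smul g w := ⟨w.1 ᵥ* (((g⁻¹ : stab f) : GL chevB2.Idx F) : Matrix chevB2.Idx chevB2.Idx F),
    ((mem_stab f _).1 (g⁻¹ : stab f).2 w.1).1 w.2⟩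
  one_smul w := by
    apply Subtype.ext
    show w.1 ᵥ* (((1⁻¹ : stab f) : GL chevB2.Idx F) : Matrix chevB2.Idx chevB2.Idx F) = w.1
    simp
  mul_smul g h w := by
    apply Subtype.ext
    show w.1 ᵥ* ((((g * h)⁻¹ : stab f) : GL chevB2.Idx F) : Matrix chevB2.Idx chevB2.Idx F) =
      (w.1 ᵥ* (((h⁻¹ : stab f) : GL chevB2.Idx F) : Matrix chevB2.Idx chevB2.Idx F)) ᵥ*
        (((g⁻¹ : stab f) : GL chevB2.Idx F) : Matrix chevB2.Idx chevB2.Idx F)
    rw [Matrix.vecMul_vecMul, _root_.mul_inv_rev]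
    rfl

theorem act_val (f : ZMod 2 →+* F) (g : stab f) (w : Set.range (eF f)) :
    ((act f).smul g w).1 =
      w.1 ᵥ* (((g⁻¹ : stab f) : GL chevB2.Idx F) : Matrix chevB2.Idx chevB2.Idx F) := rfl

/-- the homomorphism to the symmetric group of degree six -/
noncomputable def psi (f : ZMod 2 →+* F) (h01 : ∀ t : F, t = 0 ∨ t = 1) :
    ↥(chevB2.group F) →* Equiv.Perm (Fin 6) :=
  ((Equiv.ofInjective (eF f) (eF_inj f)).symm.permCongrHom.toMonoidHom.comp
    (@MulAction.toPermHom (stab f) (Set.range (eF f)) _ (act f))).comp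
      (Subgroup.inclusion (group_le_stab f h01))

theorem psi_gen (f : ZMod 2 →+* F) (h01 : ∀ t : F, t = 0 ∨ t = 1) (g : ↥(chevB2.group F))
    (r : Fin chevB2.nroots)
    (hg : ((g : GL chevB2.Idx F) : Matrix chevB2.Idx chevB2.Idx F) = chevB2.xMat F r 1) :
    psi f h01 g = sig r := by
  have hinv : (g : GL chevB2.Idx F)⁻¹ = (g : GL chevB2.Idx F) := by
    apply inv_eq_of_mul_eq_one_right
    apply Units.ext
    rw [Units.val_mul, hg, xF_sq f r]
    rfl
  apply Equiv.ext
  intro i
  have key : (Equiv.ofInjective (eF f) (eF_inj f)).symm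
      ((@MulAction.toPermHom (stab f) (Set.range (eF f)) _ (act f)
        (Subgroup.inclusion (group_le_stab f h01) g))
        (Equiv.ofInjective (eF f) (eF_inj f) i)) = sig r i := by
    rw [Equiv.symm_apply_eq]
    apply Subtype.ext
    rw [Equiv.ofInjective_apply]
    show (Equiv.ofInjective (eF f) (eF_inj f) i).1 ᵥ*
      ((((Subgroup.inclusion (group_le_stab f h01) g)⁻¹ : stab f) : GL chevB2.Idx F) :
        Matrix chevB2.Idx chevB2.Idx F) = eF f (sig r i)
    rw [Equiv.ofInjective_apply]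
    have h2 : (((Subgroup.inclusion (group_le_stab f h01) g)⁻¹ : stab f) : GL chevB2.Idx F) =
        (g : GL chevB2.Idx F) := by
      rw [Subgroup.coe_inv, Subgroup.coe_inclusion, hinv]
    rw [h2, hg, eF_act f r i]
    rfl
  exact key

theorem psi_surj (f : ZMod 2 →+* F) (h01 : ∀ t : F, t = 0 ∨ t = 1) :
    Function.Surjective (psi f h01) := by
  -- the root elements as members of the group
  have hx : ∀ r : Fin chevB2.nroots, ∃ g : ↥(chevB2.group F),
      ((g : GL chevB2.Idx F) : Matrix chevB2.Idx chevB2.Idx F) = chevB2.xMat F r 1 := by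
    intro r
    have hu : IsUnit (chevB2.xMat F r 1) :=
      ⟨⟨chevB2.xMat F r 1, chevB2.xMat F r 1, xF_sq f r, xF_sq f r⟩, rfl⟩
    refine ⟨⟨hu.unit, ?_⟩, hu.unit_spec⟩
    unfold ChevalleyDatum.group
    exact Subgroup.subset_closure ⟨r, 1, hu.unit_spec⟩
  rw [← MonoidHom.range_eq_top, eq_top_iff,
    ← Equiv.Perm.closure_cycle_adjacent_swap (α := Fin 6) (σ := finRotate 6)
      isCycle_finRotate support_finRotate 0, Subgroup.closure_le]
  intro τ hτ
  rcases hτ with rfl | hτ
  · obtain ⟨g1, h1⟩ := hx (1 : Fin 8)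
    obtain ⟨g5, h5⟩ := hx (5 : Fin 8)
    obtain ⟨g6, h6⟩ := hx (6 : Fin 8)
    refine ⟨g1 * g5 * g6, ?_⟩
    rw [map_mul, map_mul, psi_gen f h01 g1 (1 : Fin 8) h1, psi_gen f h01 g5 (5 : Fin 8) h5,
      psi_gen f h01 g6 (6 : Fin 8) h6,
      sig_rot]
  · rw [Set.mem_singleton_iff] at hτ
    obtain ⟨g0, h0⟩ := hx (0 : Fin 8)
    refine ⟨g0, ?_⟩
    rw [psi_gen f h01 g0 (0 : Fin 8) h0, sig_swap, hτ]
    rfl

end hom

/-- the final statement of this file: a surjection onto the symmetric group of degree six -/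
theorem exists_surj (F : Type*) [Field F] [Fintype F] (hF : Fintype.card F = 2) :
    ∃ ψ : ↥(chevB2.group F) →* Equiv.Perm (Fin 6), Function.Surjective ψ := by
  classical
  have h01 : ∀ t : F, t = 0 ∨ t = 1 := by
    intro t
    by_contra h
    push Not at h
    have hc : ({0, 1, t} : Finset F).card ≤ Fintype.card F := Finset.card_le_univ _
    rw [Finset.card_insert_of_notMem, Finset.card_insert_of_notMem, Finset.card_singleton,
      hF] at hc
    · omega
    · simp [h.2.symm]
    · simp [h.1.symm]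
  have h2 : (2 : F) = 0 := by
    have := Nat.cast_card_eq_zero F
    rw [hF] at this
    exact_mod_cast this
  have : CharP F 2 := CharTwo.of_one_ne_zero_of_two_eq_zero one_ne_zero h2
  exact ⟨psi (ZMod.castHom (dvd_refl 2) F) h01, psi_surj _ h01⟩

end Cfsg.Agent.helper6.B2S6
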