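import Mathlib
import Cfsg.Statements.S1027
import Cfsg.Agent.Lib_helper5_ChevColl
import Cfsg.Agent.Lib_helper5_ChevCerts

set_option autoImplicit false
open Cfsg

namespace Cfsg.Agent.S1027

open Cfsg.Lie Cfsg.Agent.helper5.Chev

theorem posRoots_length (D : ChevalleyDatum)
    (hD : D ∈ [chevG2, chevB2, chevD4, chevF4, chevE6, chevE7, chevE8]) :
    D.posRoots.length = D.nroots / 2 := by
  simp only [List.mem_cons, List.not_mem_nil, or_false] at hD
  rcases hD with rfl | rfl | rfl | rfl | rfl | rfl | rfl <;> decide +kernel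

section
variable {F : Type*} [Field F] (D : ChevalleyDatum)

/-- the coefficient family attached to a function on the positions of `posRoots` -/
noncomputable def tOf (f : Fin D.posRoots.length → F) (r : ℕ) : F :=
  if h : D.posRoots.idxOf r < D.posRoots.length then f ⟨D.posRoots.idxOf r, h⟩ else 0

theorem tOf_getElem (f : Fin D.posRoots.length → F) (i : Fin D.posRoots.length) :
    tOf D f (D.posRoots[i.val]) = f i := by
  have hnd : D.posRoots.Nodup := (posRoots_pairwise D).imp (fun h => Nat.ne_of_lt h)
  have h1 := hnd.idxOf_getElem i.val i.2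
  unfold tOf
  have h2 : D.posRoots.idxOf (D.posRoots[i.val]) < D.posRoots.length := by rw [h1]; exact i.2
  rw [dif_pos h2]
  congr 1
  exact Fin.ext h1

end

/-- For the subgroup `U` generated by the root elements `x_r(t)` of the positive roots `r`: `|U| = q^N` over a field with `q` elements, where `N` is the number of positive roots (half the number of roots). -/
theorem result {F : Type*} [Field F] [Fintype F] (D : Cfsg.Lie.ChevalleyDatum) (hD : D ∈ [Cfsg.Lie.chevG2, Cfsg.Lie.chevB2, Cfsg.Lie.chevD4, Cfsg.Lie.chevF4, Cfsg.Lie.chevE6, Cfsg.Lie.chevE7, Cfsg.Lie.chevE8]) :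
    Nat.card (D.posUnipotent F) = Fintype.card F ^ (D.nroots / 2) := by
  classical
  have hC := commOK_of_mem D hD
  have hmemU : ∀ f : Fin D.posRoots.length → F,
      prodL D hD (tOf D f) D.posRoots ∈ D.posUnipotent F := fun f =>
    prodL_mem_U D hD _ _ (fun r hr => (mem_posRoots D r).mp hr)
  let φ : (Fin D.posRoots.length → F) → ↥(D.posUnipotent F) := fun f => ⟨_, hmemU f⟩
  have hinj : Function.Injective φ := by
    intro f f' h
    have h1 : prodL D hD (tOf D f) D.posRoots = prodL D hD (tOf D f') D.posRoots :=
      congrArg Subtype.val h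
    have h2 := prodL_inj D hD _ _ D.posRoots (posRoots_pairwise D)
      (fun r hr => (mem_posRoots D r).mp hr) h1
    funext i
    have h3 := h2 (D.posRoots[i.val]) (List.getElem_mem i.2)
    rwa [tOf_getElem, tOf_getElem] at h3
  have hsurj : Function.Surjective φ := by
    rintro ⟨g, hg⟩
    obtain ⟨t, -, rfl⟩ := exists_prodL_U D hD hC g hg
    refine ⟨fun i => t (D.posRoots[i.val]), ?_⟩
    apply Subtype.ext
    show prodL D hD (tOf D fun i => t (D.posRoots[i.val])) D.posRoots = prodL D hD t D.posRoots
    apply prodL_congr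
    intro r hr
    have h1 : D.posRoots.idxOf r < D.posRoots.length := List.idxOf_lt_length_of_mem hr
    have h2 := tOf_getElem D (fun i => t (D.posRoots[i.val])) ⟨_, h1⟩
    simp only [List.getElem_idxOf h1] at h2
    exact h2
  have hcard := Nat.card_eq_of_bijective φ ⟨hinj, hsurj⟩
  rw [← hcard, Nat.card_eq_fintype_card, Fintype.card_fun, Fintype.card_fin,
    posRoots_length D hD]

end Cfsg.Agent.S1027
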