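import Mathlib
import Cfsg.Statements.S1035
import Cfsg.Agent.S1033
import Cfsg.Agent.S1034
import Cfsg.Agent.Lib_helper5_ChevTorusCerts

set_option autoImplicit false
open Cfsg

namespace Cfsg.Agent.S1035

open Cfsg.Lie Cfsg.Agent.helper5.Chev

theorem card_aux {F : Type*} [Field F] [Fintype F] (D : ChevalleyDatum)
    (hD : D ∈ [chevG2, chevB2, chevD4, chevF4, chevE6, chevE7, chevE8]) (c : TorusCert D)
    (hc : c.check = true) :
    ((List.range D.rank).map fun k => Nat.gcd (Fintype.card F - 1) (dOf c.d k)).prod *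
      Nat.card (D.diagonalSubgroup F) = (Fintype.card F - 1) ^ D.rank :=
  card_of_cert D c hc (Cfsg.Agent.S1033.hCheck_of_mem D hD).2
    (fun i hi x hx => Cfsg.Agent.S1033.result D hD i hi x hx)
    (fun g hg => Cfsg.Agent.S1034.mem_torus D hD g hg)

/-- `d · |H| = (q - 1)^rank` over a field with `q` elements, with `d = 1` (G₂, F₄, E₈), `gcd(3, q-1)` (E₆), `gcd(2, q-1)` (E₇, B₂), `gcd(2, q-1)²` (D₄). -/
theorem result {F : Type*} [Field F] [Fintype F] {q : ℕ} (hq : Fintype.card F = q)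
    (p : Cfsg.Lie.ChevalleyDatum × ℕ)
    (hp : p ∈ [(Cfsg.Lie.chevG2, 1), (Cfsg.Lie.chevF4, 1), (Cfsg.Lie.chevE8, 1), (Cfsg.Lie.chevE6, Nat.gcd 3 (q - 1)),
      (Cfsg.Lie.chevE7, Nat.gcd 2 (q - 1)), (Cfsg.Lie.chevB2, Nat.gcd 2 (q - 1)), (Cfsg.Lie.chevD4, Nat.gcd 2 (q - 1) ^ 2)]) :
    p.2 * Nat.card (p.1.diagonalSubgroup F) = (q - 1) ^ p.1.rank := by
  subst hq
  simp only [List.mem_cons, List.not_mem_nil, or_false] at hp
  rcases hp with rfl | rfl | rfl | rfl | rfl | rfl | rfl
  · have h := card_aux (F := F) chevG2 (by simp) cert_G2 cert_G2_check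
    have hr : List.range chevG2.rank = [0, 1] := rfl
    have hd : cert_G2.d = [1, 1] := rfl
    rw [hr, hd] at h
    simpa [dOf] using h
  · have h := card_aux (F := F) chevF4 (by simp) cert_F4 cert_F4_check
    have hr : List.range chevF4.rank = [0, 1, 2, 3] := rfl
    have hd : cert_F4.d = [1, 1, 1, 1] := rfl
    rw [hr, hd] at h
    simpa [dOf] using h
  · have h := card_aux (F := F) chevE8 (by simp) cert_E8 cert_E8_check
    have hr : List.range chevE8.rank = [0, 1, 2, 3, 4, 5, 6, 7] := rfl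
    have hd : cert_E8.d = [1, 1, 1, 1, 1, 1, 1, 1] := rfl
    rw [hr, hd] at h
    simpa [dOf] using h
  · have h := card_aux (F := F) chevE6 (by simp) cert_E6 cert_E6_check
    have hr : List.range chevE6.rank = [0, 1, 2, 3, 4, 5] := rfl
    have hd : cert_E6.d = [1, 1, 1, 1, 1, 3] := rfl
    rw [hr, hd] at h
    simpa [dOf, Nat.gcd_comm] using h
  · have h := card_aux (F := F) chevE7 (by simp) cert_E7 cert_E7_check
    have hr : List.range chevE7.rank = [0, 1, 2, 3, 4, 5, 6] := rfl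
    have hd : cert_E7.d = [1, 1, 1, 1, 1, 1, 2] := rfl
    rw [hr, hd] at h
    simpa [dOf, Nat.gcd_comm] using h
  · have h := card_aux (F := F) chevB2 (by simp) cert_B2 cert_B2_check
    have hr : List.range chevB2.rank = [0, 1] := rfl
    have hd : cert_B2.d = [1, 2] := rfl
    rw [hr, hd] at h
    simpa [dOf, Nat.gcd_comm] using h
  · have h := card_aux (F := F) chevD4 (by simp) cert_D4 cert_D4_check
    have hr : List.range chevD4.rank = [0, 1, 2, 3] := rfl
    have hd : cert_D4.d = [1, 1, 2, 2] := rfl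
    rw [hr, hd] at h
    simpa [dOf, Nat.gcd_comm, pow_two] using h

end Cfsg.Agent.S1035
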