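import Mathlib
import Cfsg.Statements.S1060
import Cfsg.Agent.Lib_helper5_ChevOrd2
import Cfsg.Agent.Lib_helper5_ChevWEnumB2
import Cfsg.Agent.Lib_helper5_ChevCerts
import Cfsg.Agent.S1027
import Cfsg.Agent.S1035

set_option autoImplicit false
open Cfsg

namespace Cfsg.Agent.S1060

open Cfsg.Lie Cfsg.Agent.helper5.Chev

/-- `gcd(2, q-1) · |B₂(q)| = q⁴ (q² - 1)(q⁴ - 1)`. -/
theorem result {F : Type*} [Field F] [Fintype F] {q : ℕ} (hq : Fintype.card F = q) : Nat.gcd 2 (q - 1) * Nat.card ↥(Cfsg.Lie.chevB2.group F) = q ^ 4 * (q ^ 2 - 1) * (q ^ 4 - 1) := by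
  have hD : chevB2 ∈ [chevG2, chevB2, chevD4, chevF4, chevE6, chevE7, chevE8] := by simp
  have h1 := chev_card_of_enum (F := F) chevB2 hD (commOK_of_mem _ hD) (posCommOK_of_mem _ hD)
    _ _ _ wenumB2
  have hU := Cfsg.Agent.S1027.result (F := F) chevB2 hD
  have hH := Cfsg.Agent.S1035.result (F := F) hq (chevB2, Nat.gcd 2 (q - 1)) (by simp)
  have hqF : Nat.card F = q := by rw [Nat.card_eq_fintype_card, hq]
  rw [hq] at hU
  rw [card_borel chevB2 hD, hU, hqF, sum_fin_getD wvsB2 (fun v => q ^ v.length)] at h1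
  have e1 : (wvsB2.map fun v => q ^ v.length) = (wvsB2.map List.length).map fun x => q ^ x := by
    rw [List.map_map]; rfl
  rw [e1, sum_pow_eq_count q _ 5 wboundB2, wcountsB2] at h1
  have hn : chevB2.nroots / 2 = 4 := by decide
  rw [hn] at h1
  have hH' : Nat.gcd 2 (q - 1) * Nat.card ↥(chevB2.diagonalSubgroup F) = (q - 1) ^ 2 := hH
  rw [h1]
  have e0 : ∀ a b c d : ℕ, a * (b * c * d) = b * (a * c) * d := by intros; ring
  rw [e0, hH']
  have hq1 : 1 ≤ q := by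
    rw [← hq]
    exact Fintype.card_pos
  obtain ⟨p, rfl⟩ : ∃ p, q = p + 1 := ⟨q - 1, by omega⟩
  have e2 : (p + 1) ^ 2 - 1 = p ^ 2 + 2 * p := by
    apply Nat.sub_eq_of_eq_add; ring
  have e4 : (p + 1) ^ 4 - 1 = p ^ 4 + 4 * p ^ 3 + 6 * p ^ 2 + 4 * p := by
    apply Nat.sub_eq_of_eq_add; ring
  rw [e2, e4, Nat.add_sub_cancel]
  simp only [List.range_succ, List.range_zero, List.nil_append, List.cons_append, List.zipWith,
    List.sum_cons, List.sum_nil]
  ring

end Cfsg.Agent.S1060
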