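import Mathlib
import Cfsg.Statements.S1058
import Cfsg.Agent.S1060
import Cfsg.Agent.Lib_helper6_B2S6
-- import your own Cfsg.Agent.* helpers here

set_option autoImplicit false
open Cfsg

namespace Cfsg.Agent.S1058

/-- B₂(2) ≅ S₆. -/
theorem result {F : Type*} [Field F] [Fintype F] (hF : Fintype.card F = 2) :
    Nonempty (↥(Cfsg.Lie.chevB2.group F) ≃* Equiv.Perm (Fin 6)) := by
  have hcard : Nat.card ↥(Cfsg.Lie.chevB2.group F) = 720 := by
    have h := Cfsg.Agent.S1060.result (F := F) (q := 2) hF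
    norm_num at h
    exact h
  obtain ⟨ψ, hψ⟩ := Cfsg.Agent.helper6.B2S6.exists_surj F hF
  have hbij : Function.Bijective ψ := by
    apply hψ.bijective_of_nat_card_le
    rw [hcard, Nat.card_perm, Nat.card_fin]
    decide
  exact ⟨MulEquiv.ofBijective ψ hbij⟩

end Cfsg.Agent.S1058
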