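import Mathlib
import Cfsg.Agent.Lib_helper5_GraphB2
import Cfsg.Agent.Lib_helper5_GraphF4
import Cfsg.Agent.S1054
import Cfsg.Agent.S1056
import Cfsg.Agent.S1058

set_option autoImplicit false
set_option linter.unusedSectionVars false

/-! The graph automorphisms of `B₂` and `F₄` in characteristic `2` (helper5). -/

namespace Cfsg.Agent.helper5.Chev

open Cfsg.Lie
open scoped commutatorElement

theorem inj_of_simple {G H : Type*} [Group G] [Group H] (hs : IsSimpleGroup G) (ρ : G →* H)
    (x : G) (hx : ρ x ≠ 1) : Function.Injective ρ := by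
  rw [← MonoidHom.ker_eq_bot_iff]
  rcases (MonoidHom.normal_ker ρ).eq_bot_or_eq_top with h | h
  · exact h
  · exfalso
    apply hx
    have : x ∈ ρ.ker := by rw [h]; exact Subgroup.mem_top x
    exact MonoidHom.mem_ker.mp this

theorem f4_mem : chevF4 ∈ [chevG2, chevB2, chevD4, chevF4, chevE6, chevE7, chevE8] := by simp

theorem b2_mem : chevB2 ∈ [chevG2, chevB2, chevD4, chevF4, chevE6, chevE7, chevE8] := by simp

set_option maxRecDepth 100000 in
theorem f4_polyS : vget (col chevF4 33 pX (code chevF4 (f4data.iS 10))) (code chevF4 (f4data.iS 17)) =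
    [(2, 0, -1)] := by
  decide +kernel

set_option maxRecDepth 100000 in
theorem f4_polyT : vget (col chevF4 24 pX (code chevF4 (f4data.iT 10))) (code chevF4 (f4data.iT 17)) =
    [(2, 0, -1)] := by
  decide +kernel

section
variable {K : Type*} [Field K] [CharP K 2]

theorem f4rhoS_inj : Function.Injective (gdRhoS (K := K) f4_mem f4data 2 f4data_ok) := by
  apply inj_of_simple (Cfsg.Agent.S1054.result (F := K) chevF4 (by simp)).1 _ (gdX f4_mem 33 1)
  intro h
  have h1 : ((gdRhoS (K := K) f4_mem f4data 2 f4data_ok (gdX f4_mem 33 1) : GL (Fin 26) K) :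
      Matrix (Fin 26) (Fin 26) K) 17 10 = (1 : Matrix (Fin 26) (Fin 26) K) 17 10 := by rw [h]; rfl
  rw [gdRhoS_val, Matrix.submatrix_apply, Matrix.one_apply, gdX_val] at h1
  have e := x_entry (K := K) chevF4 33 (by decide) 1 one_ne_zero pX (f4data.iS 17) (f4data.iS 10)
  rw [pEval_pX, f4_polyS] at e
  rw [e] at h1
  simp [pEval, mEval] at h1

theorem f4rhoT_inj : Function.Injective (gdRhoT (K := K) f4_mem f4data 2 f4data_ok) := by
  apply inj_of_simple (Cfsg.Agent.S1054.result (F := K) chevF4 (by simp)).1 _ (gdX f4_mem 24 1)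
  intro h
  have h1 : ((gdRhoT (K := K) f4_mem f4data 2 f4data_ok (gdX f4_mem 24 1) : GL (Fin 26) K) :
      Matrix (Fin 26) (Fin 26) K) 17 10 = (1 : Matrix (Fin 26) (Fin 26) K) 17 10 := by rw [h]; rfl
  rw [gdRhoT_val, Matrix.submatrix_apply, Matrix.one_apply, gdX_val] at h1
  have e := x_entry (K := K) chevF4 24 (by decide) 1 one_ne_zero pX (f4data.iT 17) (f4data.iT 10)
  rw [pEval_pX, f4_polyT] at e
  rw [e] at h1
  simp [pEval, mEval] at h1

end

/-! ### `B₂` over the field with two elements -/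

theorem b2_f2_comm_mem {K : Type*} [Field K] (h01 : ∀ a : K, a = 0 ∨ a = 1)
    (N : Subgroup ↥(chevB2.group K)) [hn : N.Normal] (hN : N ≠ ⊥) (a b : ↥(chevB2.group K)) :
    ⁅a, b⁆ ∈ N := by
  classical
  have hinj : Function.Injective (fun a : K => decide (a = 0)) := by
    intro x y hxy
    simp only [decide_eq_decide] at hxy
    rcases h01 x with hx | hx <;> rcases h01 y with hy | hy
    · rw [hx, hy]
    · exfalso
      have := hxy.mp hx
      rw [hy] at this
      exact one_ne_zero this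
    · exfalso
      have := hxy.mpr hy
      rw [hx] at this
      exact one_ne_zero this
    · rw [hx, hy]
  have : Finite K := Finite.of_injective _ hinj
  let _ : Fintype K := Fintype.ofFinite K
  have hc : Fintype.card K = 2 := by
    apply le_antisymm
    · have := Fintype.card_le_of_injective _ hinj
      rwa [Fintype.card_bool] at this
    · exact Fintype.one_lt_card
  obtain ⟨e⟩ := Cfsg.Agent.S1058.result (F := K) hc
  have hn' : (N.map e.toMonoidHom).Normal := hn.map _ e.surjective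
  have hne : N.map e.toMonoidHom ≠ ⊥ := by
    intro h
    apply hN
    exact (Subgroup.map_eq_bot_iff_of_injective N e.injective).mp h
  have hnt : Nontrivial ↥(N.map e.toMonoidHom) := (Subgroup.nontrivial_iff_ne_bot _).mpr hne
  have h5 : 5 ≤ Nat.card (Fin 6) := by simp
  have hle := Equiv.Perm.alternatingGroup_le_of_normal h5 hnt
  rw [← alternatingGroup.commutator_perm_eq h5] at hle
  have hm : ⁅e a, e b⁆ ∈ N.map e.toMonoidHom := by
    apply hle
    rw [commutator_def]
    exact Subgroup.commutator_mem_commutator (Subgroup.mem_top _) (Subgroup.mem_top _)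
  obtain ⟨y, hy, hye⟩ := Subgroup.mem_map.mp hm
  have : y = ⁅a, b⁆ := by
    apply e.injective
    rw [map_commutatorElement]
    exact hye
  rwa [this] at hy

section
variable {K : Type*} [Field K] [CharP K 2]

theorem b2_inj {H : Type*} [Group H] (ρ : ↥(chevB2.group K) →* H) (x y : ↥(chevB2.group K))
    (hρ : ρ ⁅x, y⁆ ≠ 1) : Function.Injective ρ := by
  by_cases hF : ∃ a : K, a ≠ 0 ∧ a ≠ 1
  · exact inj_of_simple (Cfsg.Agent.S1056.result hF).1 ρ _ hρ
  · push Not at hF
    rw [← MonoidHom.ker_eq_bot_iff]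
    by_contra hk
    apply hρ
    have h01 : ∀ a : K, a = 0 ∨ a = 1 := by
      intro a
      by_cases h : a = 0
      · exact Or.inl h
      · exact Or.inr (hF a h)
    have := b2_f2_comm_mem h01 ρ.ker hk x y
    exact MonoidHom.mem_ker.mp this

set_option maxRecDepth 100000 in
theorem b2_comm_poly : vget (appWord chevB2 [(5, pconst 1), (2, pconst 1), (5, pconst (-1)),
    (2, pconst (-1))] (vsingle (code chevB2 (b2data.iS 3)) (pconst 1))) (code chevB2 (b2data.iS 2)) =
    [(0, 0, -1)] := by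
  decide +kernel

theorem b2X_inv (r : ℕ) (t : K) : (gdX b2_mem r t)⁻¹ = gdX b2_mem r (-t) := by
  apply Subtype.ext
  show (xG chevB2 b2_mem r t)⁻¹ = xG chevB2 b2_mem r (-t)
  exact xG_inv chevB2 b2_mem r t

theorem b2_comm_mat : (((⁅gdX b2_mem 5 (1 : K), gdX b2_mem 2 1⁆ : ↥(chevB2.group K)) :
    GL chevB2.Idx K) : Matrix chevB2.Idx chevB2.Idx K) =
    chevB2.wordMat K [(5, 1), (2, 1), (5, -1), (2, -1)] := by
  rw [commutatorElement_def, b2X_inv, b2X_inv]
  simp only [Subgroup.coe_mul, Units.val_mul, gdX_val]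
  unfold ChevalleyDatum.wordMat
  simp [mul_assoc]

theorem b2_comm_rhoS_ne :
    gdRhoS (K := K) b2_mem b2data 2 b2data_ok ⁅gdX b2_mem 5 (1 : K), gdX b2_mem 2 1⁆ ≠ 1 := by
  intro h
  have h1 : ((gdRhoS (K := K) b2_mem b2data 2 b2data_ok ⁅gdX b2_mem 5 (1 : K), gdX b2_mem 2 1⁆ :
      GL (Fin 5) K) : Matrix (Fin 5) (Fin 5) K) 2 3 = (1 : Matrix (Fin 5) (Fin 5) K) 2 3 := by
    rw [h]; rfl
  rw [gdRhoS_val, Matrix.submatrix_apply, Matrix.one_apply, b2_comm_mat] at h1
  have e1 := vEval_appWord chevB2 (1 : K) 1 one_ne_zero one_ne_zero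
    [(5, pconst 1), (2, pconst 1), (5, pconst (-1)), (2, pconst (-1))] (by decide)
    (vsingle (code chevB2 (b2data.iS 3)) (pconst 1)) (b2data.iS 2)
  rw [vEval_unit, mulVec_unit, vEval_eq_vget, b2_comm_poly] at e1
  simp only [List.map_cons, List.map_nil, pEval_pconst] at e1
  push_cast at e1
  rw [← e1] at h1
  simp [pEval, mEval] at h1

theorem b2rhoS_inj : Function.Injective (gdRhoS (K := K) b2_mem b2data 2 b2data_ok) :=
  b2_inj _ _ _ b2_comm_rhoS_ne

theorem b2rhoT_inj : Function.Injective (gdRhoT (K := K) b2_mem b2data 2 b2data_ok) := by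
  apply b2_inj _ (gdX b2_mem 4 (1 : K)) (gdX b2_mem 3 1)
  have e1 := gd_tw (K := K) b2_mem b2data 2 b2data_ok 1 (by decide) 1
  have e2 := gd_twn (K := K) b2_mem b2data 2 b2data_ok 1 (by decide) 1
  have a1 : chevB2.simple 1 = 4 := by decide
  have a2 : chevB2.simple (b2data.sig 1) = 5 := by decide
  have a3 : chevB2.neg (chevB2.simple 1) = 3 := by decide
  have a4 : chevB2.neg (chevB2.simple (b2data.sig 1)) = 2 := by decide
  have a5 : (1 : K) ^ b2data.ex 1 = 1 := one_pow _
  rw [a1, a2, a5] at e1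
  rw [a3, a4, a5] at e2
  rw [map_commutatorElement, e1, e2, ← map_commutatorElement]
  exact b2_comm_rhoS_ne

variable (hperf : ∀ x : K, ∃ y : K, y ^ 2 = x)

include hperf in
theorem bf_graph_result (p : ChevalleyDatum × List (ℕ × ℕ))
    (hp : p ∈ [(chevB2, [(1, 2), (0, 1)]), (chevF4, [(3, 2), (2, 2), (1, 1), (0, 1)])]) :
    ∃ α : ↥(p.1.group K) ≃* ↥(p.1.group K), ∀ (g : ↥(p.1.group K)) (i : ℕ) (t : K), i < p.1.rank →
      (((g : GL p.1.Idx K) : Matrix p.1.Idx p.1.Idx K) = p.1.x K (p.1.simple i) t →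
        ((α g : GL p.1.Idx K) : Matrix p.1.Idx p.1.Idx K) =
          p.1.x K (p.1.simple (p.2.getD i (0, 1)).1) (t ^ (p.2.getD i (0, 1)).2)) ∧
      (((g : GL p.1.Idx K) : Matrix p.1.Idx p.1.Idx K) = p.1.x K (p.1.neg (p.1.simple i)) t →
        ((α g : GL p.1.Idx K) : Matrix p.1.Idx p.1.Idx K) =
          p.1.x K (p.1.neg (p.1.simple (p.2.getD i (0, 1)).1)) (t ^ (p.2.getD i (0, 1)).2)) := by
  simp only [List.mem_cons, List.not_mem_nil, or_false] at hp
  rcases hp with rfl | rfl
  · have hp2 : ∀ i < chevB2.rank, ∀ x : K, ∃ y : K, y ^ b2data.ex i = x := by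
      intro i hi x
      have hi' : i < 2 := hi
      interval_cases i
      · exact hperf x
      · exact ⟨x, pow_one x⟩
    exact gd_result b2_mem b2data 2 b2data_ok hp2 b2rhoS_inj b2rhoT_inj
  · have hp2 : ∀ i < chevF4.rank, ∀ x : K, ∃ y : K, y ^ f4data.ex i = x := by
      intro i hi x
      have hi' : i < 4 := hi
      interval_cases i
      · exact hperf x
      · exact hperf x
      · exact ⟨x, pow_one x⟩
      · exact ⟨x, pow_one x⟩
    exact gd_result f4_mem f4data 2 f4data_ok hp2 f4rhoS_inj f4rhoT_inj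

end

end Cfsg.Agent.helper5.Chev
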