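import Mathlib
import Cfsg.Statements.S1055
import Cfsg.Agent.Lib_helper5_ChevSimple
import Cfsg.Agent.Lib_helper5_ChevCerts
import Cfsg.Agent.S1043
import Cfsg.Agent.S1050
import Cfsg.Agent.S1051
import Cfsg.Agent.S1052

set_option autoImplicit false
open Cfsg

namespace Cfsg.Agent.S1055

open Cfsg.Lie Cfsg.Agent.helper5.Chev

/-- G₂(F) is simple for every field `F` other than the field with two elements. -/
theorem result {F : Type*} [Field F] (hF : ∃ a : F, a ≠ 0 ∧ a ≠ 1) : IsSimpleGroup ↥(Cfsg.Lie.chevG2.group F) ∧ ¬ IsMulCommutative ↥(Cfsg.Lie.chevG2.group F) := by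
  have hD' : chevG2 ∈ [chevG2, chevB2, chevD4, chevF4, chevE6, chevE7, chevE8] := by simp
  obtain ⟨hB, hN, hsup⟩ := Cfsg.Agent.S1043.result (F := F) chevG2 hD'
  obtain ⟨P, hPB, -, hPS⟩ := chev_bnpair chevG2 hD' (commOK_of_mem _ hD') (posCommOK_of_mem _ hD')
    (chevG2.group F) hB hN hsup
  exact chev_simple_of chevG2 hD' hN P hPB hPS (Cfsg.Agent.S1052.result chevG2 hD' (fun _ => hF))
    (Cfsg.Agent.S1050.result chevG2 hD') (Cfsg.Agent.S1051.result chevG2 hD')

end Cfsg.Agent.S1055
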