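import Mathlib
import Cfsg.Agent.Lib_helper5_GraphG2a
import Cfsg.Agent.S1055

set_option autoImplicit false

/-! The graph automorphism of `G₂` in characteristic `3` (helper5). -/

namespace Cfsg.Agent.helper5.Chev

open Cfsg.Lie

/-- the coordinates of the short root ideal -/
def g2S : Fin 7 → chevG2.Idx :=
  ![Sum.inl ⟨0, by decide⟩, Sum.inr ⟨2, by decide⟩, Sum.inr ⟨3, by decide⟩, Sum.inr ⟨4, by decide⟩,
    Sum.inr ⟨7, by decide⟩, Sum.inr ⟨8, by decide⟩, Sum.inr ⟨9, by decide⟩]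

/-- the complementary coordinates -/
def g2T : Fin 7 → chevG2.Idx :=
  ![Sum.inl ⟨1, by decide⟩, Sum.inr ⟨0, by decide⟩, Sum.inr ⟨1, by decide⟩, Sum.inr ⟨5, by decide⟩,
    Sum.inr ⟨6, by decide⟩, Sum.inr ⟨10, by decide⟩, Sum.inr ⟨11, by decide⟩]

theorem g2_bij : Function.Bijective (Sum.elim g2S g2T) := by decide

/-- the generator roots with their images and exponents -/
def g2gen : Fin 4 → ℕ × ℕ × ℕ := ![(7, 6, 3), (6, 7, 1), (4, 5, 3), (5, 4, 1)]

set_option maxRecDepth 100000 in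
theorem g2_bt : ∀ r : Fin 12, ∀ l k : Fin 7,
    pDvd 3 (vget (col chevG2 r.val pX (code chevG2 (g2S l))) (code chevG2 (g2T k))) = true := by
  decide +kernel

set_option maxRecDepth 100000 in
theorem g2_tw : ∀ i : Fin 4, ∀ l k : Fin 7,
    pCong 3 (vget (col chevG2 (g2gen i).1 pX (code chevG2 (g2T l))) (code chevG2 (g2T k)))
      (vget (col chevG2 (g2gen i).2.1 (ppow pX (g2gen i).2.2) (code chevG2 (g2S l)))
        (code chevG2 (g2S k))) = true := by
  decide +kernel

theorem g2_mem : chevG2 ∈ [chevG2, chevB2, chevD4, chevF4, chevE6, chevE7, chevE8] := by simp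

section
variable {K : Type*} [Field K] [CharP K 3]

theorem g2_x_bt (r : ℕ) (hr : r < 12) (t : K) : BT g2S g2T (chevG2.x K r t) := by
  by_cases ht : t = 0
  · rw [ht, x_zero_nat]
    exact bt_one g2S g2T g2_bij
  · intro k l
    have h := x_entry chevG2 r hr t ht pX (g2T k) (g2S l)
    rw [pEval_pX] at h
    rw [h]
    exact pEval_of_pDvd 3 t 1 _ (g2_bt ⟨r, hr⟩ l k)

/-- the subgroup of matrices block triangular together with their inverses -/
def btSubgroup : Subgroup (GL chevG2.Idx K) where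
  carrier := {g | BT g2S g2T (g : Matrix chevG2.Idx chevG2.Idx K) ∧
    BT g2S g2T ((g⁻¹ : GL chevG2.Idx K) : Matrix chevG2.Idx chevG2.Idx K)}
  one_mem' := by
    refine ⟨bt_one g2S g2T g2_bij, ?_⟩
    rw [inv_one]
    exact bt_one g2S g2T g2_bij
  mul_mem' := by
    intro a b ha hb
    refine ⟨?_, ?_⟩
    · rw [Units.val_mul]
      exact bt_mul g2S g2T g2_bij _ _ ha.1 hb.1
    · rw [mul_inv_rev, Units.val_mul]
      exact bt_mul g2S g2T g2_bij _ _ hb.2 ha.2
  inv_mem' := by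
    intro a ha
    refine ⟨ha.2, ?_⟩
    rw [inv_inv]
    exact ha.1

theorem g2_group_bt : ∀ g ∈ chevG2.group K, BT g2S g2T (g : Matrix chevG2.Idx chevG2.Idx K) := by
  have h : chevG2.group K ≤ btSubgroup (K := K) := by
    unfold ChevalleyDatum.group
    rw [Subgroup.closure_le]
    rintro g ⟨r, t, hg⟩
    have e : g = xG chevG2 g2_mem r.val t := by
      apply Units.ext
      rw [hg, xG_val, x_eq_xMat chevG2 r.val r.2]
    rw [e]
    refine ⟨?_, ?_⟩
    · rw [xG_val]
      exact g2_x_bt r.val r.2 t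
    · rw [xG_inv, xG_val]
      exact g2_x_bt r.val r.2 (-t)
  intro g hg
  exact (h hg).1

theorem g2gen_lt (i : Fin 4) : (g2gen i).1 < 12 ∧ (g2gen i).2.1 < 12 ∧ (g2gen i).2.2 ≠ 0 := by
  fin_cases i <;> decide

/-- the intertwining relation on the generators -/
theorem g2_x_tw (i : Fin 4) (t : K) :
    (chevG2.x K (g2gen i).1 t).submatrix g2T g2T =
      (chevG2.x K (g2gen i).2.1 (t ^ (g2gen i).2.2)).submatrix g2S g2S := by
  obtain ⟨h1, h2, h3⟩ := g2gen_lt i
  by_cases ht : t = 0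
  · rw [ht, zero_pow h3, x_zero_nat, x_zero_nat,
      Matrix.submatrix_one _ (iT_injective g2S g2T g2_bij),
      Matrix.submatrix_one _ (iS_injective g2S g2T g2_bij)]
  · ext k l
    rw [Matrix.submatrix_apply, Matrix.submatrix_apply]
    have e1 := x_entry chevG2 (g2gen i).1 h1 t ht pX (g2T k) (g2T l)
    have e2 := x_entry chevG2 (g2gen i).2.1 h2 t ht (ppow pX (g2gen i).2.2) (g2S k) (g2S l)
    rw [pEval_pX] at e1
    rw [pEval_ppow t 1 ht one_ne_zero, pEval_pX] at e2
    rw [e1, e2]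
    exact pEval_of_pCong 3 t 1 _ _ (g2_tw i l k)

/-- root elements as elements of the Chevalley group -/
noncomputable def g2x (r : ℕ) (t : K) : ↥(chevG2.group K) :=
  ⟨xG chevG2 g2_mem r t, by
    by_cases hr : r < chevG2.nroots
    · exact xG_mem_group chevG2 g2_mem r hr t
    · have : xG chevG2 g2_mem r t = 1 := by
        apply Units.ext
        rw [xG_val, Units.val_one]
        unfold ChevalleyDatum.x
        rw [dif_neg hr]
      rw [this]
      exact Subgroup.one_mem _⟩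

theorem g2x_val (r : ℕ) (t : K) :
    (((g2x r t : ↥(chevG2.group K)) : GL chevG2.Idx K) : Matrix chevG2.Idx chevG2.Idx K) =
      chevG2.x K r t := rfl

/-- the representation on the short root ideal -/
noncomputable def g2rhoS : ↥(chevG2.group K) →* GL (Fin 7) K :=
  rhoS g2S g2T g2_bij (chevG2.group K) g2_group_bt

/-- the representation on the quotient by the short root ideal -/
noncomputable def g2rhoT : ↥(chevG2.group K) →* GL (Fin 7) K :=
  rhoT g2S g2T g2_bij (chevG2.group K) g2_group_bt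

theorem g2_tw0 (t : K) : g2rhoT (g2x 7 t) = g2rhoS (g2x 6 (t ^ 3)) := by
  apply Units.ext
  unfold g2rhoT g2rhoS
  rw [rhoT_val, rhoS_val, g2x_val, g2x_val]
  exact g2_x_tw 0 t

theorem g2_tw1 (t : K) : g2rhoT (g2x 6 t) = g2rhoS (g2x 7 t) := by
  apply Units.ext
  unfold g2rhoT g2rhoS
  rw [rhoT_val, rhoS_val, g2x_val, g2x_val]
  have h := g2_x_tw (K := K) 1 t
  have e : t ^ (g2gen 1).2.2 = t := pow_one t
  rw [e] at h
  exact h

theorem g2_tw2 (t : K) : g2rhoT (g2x 4 t) = g2rhoS (g2x 5 (t ^ 3)) := by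
  apply Units.ext
  unfold g2rhoT g2rhoS
  rw [rhoT_val, rhoS_val, g2x_val, g2x_val]
  exact g2_x_tw 2 t

theorem g2_tw3 (t : K) : g2rhoT (g2x 5 t) = g2rhoS (g2x 4 t) := by
  apply Units.ext
  unfold g2rhoT g2rhoS
  rw [rhoT_val, rhoS_val, g2x_val, g2x_val]
  have h := g2_x_tw (K := K) 3 t
  have e : t ^ (g2gen 3).2.2 = t := pow_one t
  rw [e] at h
  exact h

theorem g2_hF : ∃ a : K, a ≠ 0 ∧ a ≠ 1 := by
  refine ⟨-1, by simp, ?_⟩
  intro h
  have h2 : (2 : K) = 0 := by
    have : (1 : K) + 1 = 0 := by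
      nth_rewrite 1 [← h]
      exact neg_add_cancel 1
    rw [← this]; norm_num
  have h3 : ((2 : ℕ) : K) = 0 := by exact_mod_cast h2
  rw [CharP.cast_eq_zero_iff K 3] at h3
  omega

theorem g2_inj (ρ : ↥(chevG2.group K) →* GL (Fin 7) K) (x : ↥(chevG2.group K)) (hx : ρ x ≠ 1) :
    Function.Injective ρ := by
  have hs := (Cfsg.Agent.S1055.result (F := K) g2_hF).1
  rw [← MonoidHom.ker_eq_bot_iff]
  rcases (MonoidHom.normal_ker ρ).eq_bot_or_eq_top with h | h
  · exact h
  · exfalso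
    apply hx
    have : x ∈ ρ.ker := by rw [h]; exact Subgroup.mem_top x
    exact MonoidHom.mem_ker.mp this

set_option maxRecDepth 100000 in
theorem g2_polyS : vget (col chevG2 7 pX (code chevG2 (g2S 3))) (code chevG2 (g2S 0)) = [(1, 0, 1)] := by
  decide +kernel

set_option maxRecDepth 100000 in
theorem g2_polyT : vget (col chevG2 6 pX (code chevG2 (g2T 3))) (code chevG2 (g2T 0)) = [(1, 0, 1)] := by
  decide +kernel

theorem g2rhoS_inj : Function.Injective (g2rhoS (K := K)) := by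
  apply g2_inj _ (g2x 7 1)
  intro h
  have h1 : ((g2rhoS (g2x 7 (1 : K)) : GL (Fin 7) K) : Matrix (Fin 7) (Fin 7) K) 0 3 =
      (1 : Matrix (Fin 7) (Fin 7) K) 0 3 := by rw [h]; rfl
  unfold g2rhoS at h1
  rw [rhoS_val, Matrix.submatrix_apply, Matrix.one_apply, g2x_val] at h1
  have e := x_entry (K := K) chevG2 7 (by decide) 1 one_ne_zero pX (g2S 0) (g2S 3)
  rw [pEval_pX, g2_polyS] at e
  rw [e] at h1
  simp [pEval, mEval] at h1

theorem g2rhoT_inj : Function.Injective (g2rhoT (K := K)) := by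
  apply g2_inj _ (g2x 6 1)
  intro h
  have h1 : ((g2rhoT (g2x 6 (1 : K)) : GL (Fin 7) K) : Matrix (Fin 7) (Fin 7) K) 0 3 =
      (1 : Matrix (Fin 7) (Fin 7) K) 0 3 := by rw [h]; rfl
  unfold g2rhoT at h1
  rw [rhoT_val, Matrix.submatrix_apply, Matrix.one_apply, g2x_val] at h1
  have e := x_entry (K := K) chevG2 6 (by decide) 1 one_ne_zero pX (g2T 0) (g2T 3)
  rw [pEval_pX, g2_polyT] at e
  rw [e] at h1
  simp [pEval, mEval] at h1

/-- a subgroup containing the four fundamental root subgroups is everything -/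
theorem g2_eq_top (H : Subgroup ↥(chevG2.group K))
    (h : ∀ t : K, g2x 7 t ∈ H ∧ g2x 6 t ∈ H ∧ g2x 4 t ∈ H ∧ g2x 5 t ∈ H) : H = ⊤ := by
  rw [eq_top_iff]
  intro g _
  have h1 : Subgroup.closure {g : GL chevG2.Idx K | ∃ i < chevG2.rank, ∃ u : K,
      g = xG chevG2 g2_mem (chevG2.simple i) u ∨ g = xG chevG2 g2_mem (chevG2.neg (chevG2.simple i)) u} ≤
      H.map (chevG2.group K).subtype := by
    rw [Subgroup.closure_le]
    rintro x ⟨i, hi, u, hx⟩
    have hi' : i < 2 := hi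
    rw [SetLike.mem_coe, Subgroup.mem_map]
    interval_cases i
    · rcases hx with rfl | rfl
      · exact ⟨_, (h u).1, rfl⟩
      · exact ⟨_, (h u).2.2.1, rfl⟩
    · rcases hx with rfl | rfl
      · exact ⟨_, (h u).2.1, rfl⟩
      · exact ⟨_, (h u).2.2.2, rfl⟩
  have hg : (g : GL chevG2.Idx K) ∈ H.map (chevG2.group K).subtype := by
    apply h1
    rw [← group_eq_closure_simple chevG2 g2_mem]
    exact g.2
  obtain ⟨x, hx, hxg⟩ := Subgroup.mem_map.mp hg
  have : x = g := Subtype.ext hxg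
  rwa [this] at hx

variable (hperf : ∀ x : K, ∃ y : K, y ^ 3 = x)

include hperf in
theorem g2_range_eq : (g2rhoT (K := K)).range = (g2rhoS (K := K)).range := by
  apply le_antisymm
  · rintro _ ⟨g, rfl⟩
    have : (g2rhoS (K := K)).range.comap g2rhoT = ⊤ := by
      apply g2_eq_top
      intro t
      refine ⟨?_, ?_, ?_, ?_⟩
      · rw [Subgroup.mem_comap, g2_tw0]; exact ⟨_, rfl⟩
      · rw [Subgroup.mem_comap, g2_tw1]; exact ⟨_, rfl⟩
      · rw [Subgroup.mem_comap, g2_tw2]; exact ⟨_, rfl⟩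
      · rw [Subgroup.mem_comap, g2_tw3]; exact ⟨_, rfl⟩
    have hg : g ∈ (g2rhoS (K := K)).range.comap g2rhoT := by rw [this]; exact Subgroup.mem_top g
    exact hg
  · rintro _ ⟨g, rfl⟩
    have : (g2rhoT (K := K)).range.comap g2rhoS = ⊤ := by
      apply g2_eq_top
      intro t
      obtain ⟨y, hy⟩ := hperf t
      refine ⟨?_, ?_, ?_, ?_⟩
      · rw [Subgroup.mem_comap, ← g2_tw1]; exact ⟨_, rfl⟩
      · rw [Subgroup.mem_comap, ← hy, ← g2_tw0]; exact ⟨_, rfl⟩
      · rw [Subgroup.mem_comap, ← g2_tw3]; exact ⟨_, rfl⟩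
      · rw [Subgroup.mem_comap, ← hy, ← g2_tw2]; exact ⟨_, rfl⟩
    have hg : g ∈ (g2rhoT (K := K)).range.comap g2rhoS := by rw [this]; exact Subgroup.mem_top g
    exact hg

/-- **the graph automorphism** -/
noncomputable def g2alpha : ↥(chevG2.group K) ≃* ↥(chevG2.group K) :=
  (MonoidHom.ofInjective g2rhoT_inj).trans
    ((MulEquiv.subgroupCongr (g2_range_eq hperf)).trans (MonoidHom.ofInjective g2rhoS_inj).symm)

theorem g2alpha_spec (g : ↥(chevG2.group K)) : g2rhoS (g2alpha hperf g) = g2rhoT g := by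
  unfold g2alpha
  simp only [MulEquiv.trans_apply]
  rw [MonoidHom.apply_ofInjective_symm]
  rfl

include hperf in
theorem g2_graph_result :
    ∃ α : ↥(chevG2.group K) ≃* ↥(chevG2.group K), ∀ (g : ↥(chevG2.group K)) (t : K),
      (((g : GL chevG2.Idx K) : Matrix _ _ K) = chevG2.x K g2a t →
        ((α g : GL chevG2.Idx K) : Matrix _ _ K) = chevG2.x K g2b (t ^ 3)) ∧
      (((g : GL chevG2.Idx K) : Matrix _ _ K) = chevG2.x K g2b t →
        ((α g : GL chevG2.Idx K) : Matrix _ _ K) = chevG2.x K g2a t) ∧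
      (((g : GL chevG2.Idx K) : Matrix _ _ K) = chevG2.x K g2ma t →
        ((α g : GL chevG2.Idx K) : Matrix _ _ K) = chevG2.x K g2mb (t ^ 3)) ∧
      (((g : GL chevG2.Idx K) : Matrix _ _ K) = chevG2.x K g2mb t →
        ((α g : GL chevG2.Idx K) : Matrix _ _ K) = chevG2.x K g2ma t) := by
  refine ⟨g2alpha hperf, fun g t => ⟨fun hg => ?_, fun hg => ?_, fun hg => ?_, fun hg => ?_⟩⟩
  · have e : g = g2x 7 t := Subtype.ext (Units.ext hg)
    have e2 : g2alpha hperf g = g2x 6 (t ^ 3) := by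
      apply g2rhoS_inj
      rw [g2alpha_spec, e, g2_tw0]
    rw [e2]
    rfl
  · have e : g = g2x 6 t := Subtype.ext (Units.ext hg)
    have e2 : g2alpha hperf g = g2x 7 t := by
      apply g2rhoS_inj
      rw [g2alpha_spec, e, g2_tw1]
    rw [e2]
    rfl
  · have e : g = g2x 4 t := Subtype.ext (Units.ext hg)
    have e2 : g2alpha hperf g = g2x 5 (t ^ 3) := by
      apply g2rhoS_inj
      rw [g2alpha_spec, e, g2_tw2]
    rw [e2]
    rfl
  · have e : g = g2x 5 t := Subtype.ext (Units.ext hg)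
    have e2 : g2alpha hperf g = g2x 4 t := by
      apply g2rhoS_inj
      rw [g2alpha_spec, e, g2_tw3]
    rw [e2]
    rfl

end

end Cfsg.Agent.helper5.Chev
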