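import Mathlib
import Cfsg.Agent.Lib_helper5_GraphG2b

set_option autoImplicit false
set_option linter.unusedSectionVars false
set_option linter.unusedVariables false

/-! Field endomorphisms of Chevalley groups, word identities modulo `p`, and the Ree endomorphism
of `G₂` in characteristic `3` (helper5). -/

namespace Cfsg.Agent.helper5.Chev

open Cfsg.Lie

section fieldmap
variable {K L : Type*} [Field K] [Field L] (D : ChevalleyDatum) (f : K →+* L)

theorem xMat_mapHom (r : Fin D.nroots) (t : K) : (D.xMat K r t).map f = D.xMat L r (f t) := by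
  ext row col
  rcases col with i | s <;> rcases row with i' | u
  · simp [ChevalleyDatum.xMat, apply_ite f]
  · simp [ChevalleyDatum.xMat, apply_ite f]
  · simp only [ChevalleyDatum.xMat, Matrix.map_apply, Matrix.of_apply]
    split_ifs <;> simp
  · simp only [ChevalleyDatum.xMat, Matrix.map_apply, Matrix.of_apply]
    split_ifs <;> simp [map_list_sum, List.map_map, Function.comp_def]

theorem x_mapHom (r : ℕ) (t : K) : (D.x K r t).map f = D.x L r (f t) := by
  unfold ChevalleyDatum.x
  split_ifs with h
  · exact xMat_mapHom D f ⟨r, h⟩ t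
  · exact Matrix.map_one f (map_zero f) (map_one f)

end fieldmap

section fieldend
variable {K : Type*} [Field K] (D : ChevalleyDatum)
  (hD : D ∈ [chevG2, chevB2, chevD4, chevF4, chevE6, chevE7, chevE8]) (f : K →+* K)

theorem glmap_xG (r : ℕ) (t : K) :
    Matrix.GeneralLinearGroup.map f (xG D hD r t) = xG D hD r (f t) := by
  apply Units.ext
  ext i j
  rw [Matrix.GeneralLinearGroup.map_apply, xG_val, xG_val, ← x_mapHom D f r t, Matrix.map_apply]

include hD in
theorem glmap_mem_group (g : GL D.Idx K) (hg : g ∈ D.group K) :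
    Matrix.GeneralLinearGroup.map f g ∈ D.group K := by
  have h : D.group K ≤ (D.group K).comap (Matrix.GeneralLinearGroup.map f) := by
    unfold ChevalleyDatum.group
    rw [Subgroup.closure_le]
    rintro g ⟨r, t, hg⟩
    have e : g = xG D hD r.val t := by
      apply Units.ext
      rw [hg, xG_val, x_eq_xMat D r.val r.2]
    rw [SetLike.mem_coe, Subgroup.mem_comap, e, glmap_xG]
    exact xG_mem_group D hD r.val r.2 (f t)
  exact h hg

/-- the field endomorphism acting on the Chevalley group -/
noncomputable def fieldEnd : ↥(D.group K) →* ↥(D.group K) :=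
  ((Matrix.GeneralLinearGroup.map f).comp (D.group K).subtype).codRestrict (D.group K)
    (fun g => glmap_mem_group D hD f g.1 g.2)

theorem fieldEnd_coe (g : ↥(D.group K)) :
    ((fieldEnd D hD f g : ↥(D.group K)) : GL D.Idx K) = Matrix.GeneralLinearGroup.map f g.1 := rfl

end fieldend

/-! ### Word identities modulo `p` -/

/-- the two words have congruent matrices modulo `p` -/
def wordCong (D : ChevalleyDatum) (p : ℤ) (w₁ w₂ : List (ℕ × Poly)) : Bool :=
  (List.range (D.rank + D.nroots)).all fun b =>
    (List.range (D.rank + D.nroots)).all fun c =>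
      pCong p (vget (appWord D w₁ (vsingle b (pconst 1))) c)
        (vget (appWord D w₂ (vsingle b (pconst 1))) c)

theorem wordMat_eq_of_wordCong {K : Type*} [Field K] (D : ChevalleyDatum) (p : ℕ) [CharP K p]
    (w₁ w₂ : List (ℕ × Poly)) (h : wordCong D (p : ℤ) w₁ w₂ = true)
    (hw₁ : ∀ a ∈ w₁, a.1 < D.nroots) (hw₂ : ∀ a ∈ w₂, a.1 < D.nroots)
    (x y : K) (hx : x ≠ 0) (hy : y ≠ 0) :
    D.wordMat K (w₁.map fun a => (a.1, pEval x y a.2)) =
      D.wordMat K (w₂.map fun a => (a.1, pEval x y a.2)) := by
  apply matrix_eq_of_units D x y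
  intro idx row
  rw [← vEval_appWord D x y hx hy w₁ hw₁, ← vEval_appWord D x y hx hy w₂ hw₂, vEval_eq_vget,
    vEval_eq_vget]
  unfold wordCong at h
  rw [List.all_eq_true] at h
  have h1 := h (code D idx) (List.mem_range.mpr (code_lt D idx))
  rw [List.all_eq_true] at h1
  have h2 := h1 (code D row) (List.mem_range.mpr (code_lt D row))
  exact pEval_of_pCong p x y _ _ h2

end Cfsg.Agent.helper5.Chev
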