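import Mathlib
import Cfsg.Agent.Lib_helper5_ReeA
import Cfsg.Agent.Lib_helper5_GraphBF
import Cfsg.Agent.Lib_helper5_TwCore
import Cfsg.Agent.Lib_helper5_TwPerf
import Cfsg.Agent.Lib_helper5_ChevW0Small

set_option autoImplicit false
set_option linter.unusedSectionVars false
set_option linter.unusedVariables false

/-! The Ree groups `²F₄`: the Weyl group representatives and the core of `B¹` (helper5). -/

namespace Cfsg.Agent.helper5.Chev

open Cfsg.Lie

/-- a reduced word of the longest element adapted to the twisted structure -/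
def twF4w0 : List ℕ :=
  [3, 0, 1, 2, 1, 2, 3, 0, 1, 2, 1, 2, 3, 0, 1, 2, 1, 2, 3, 0, 1, 2, 1, 2]

set_option maxRecDepth 1000000 in
set_option maxHeartbeats 0 in
theorem twF4w0_C0 : w0CheckRange chevF4 twF4w0 0 24 = true := by decide +kernel

set_option maxRecDepth 1000000 in
set_option maxHeartbeats 0 in
theorem twF4w0_C1 : w0CheckRange chevF4 twF4w0 24 24 = true := by decide +kernel

theorem twF4w0_ok : W0OK chevF4 twF4w0 := by
  apply w0OK_of_chunks chevF4 twF4w0 (by decide +kernel) 24 2 (by decide +kernel) (by decide +kernel)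
  intro k hk
  interval_cases k
  · exact twF4w0_C0
  · exact twF4w0_C1

set_option maxRecDepth 1000000 in
theorem f4_hCR : cartanReflChk chevF4 = true := by decide +kernel

set_option maxRecDepth 1000000 in
theorem f4_orth : orthChk chevF4 24 33 = true := by decide +kernel

/-- the word of `n_a n_b n_a n_b` -/
def f4wn : List (ℕ × Poly) :=
  [(27, pconst 1), (20, pconst (-1)), (27, pconst 1), (25, pconst 1), (22, pconst (-1)),
    (25, pconst 1), (27, pconst 1), (20, pconst (-1)), (27, pconst 1), (25, pconst 1),
    (22, pconst (-1)), (25, pconst 1)]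

/-- the same element as a product of three generators -/
def f4wg : List (ℕ × Poly) :=
  [(27, pconst 0), (25, pconst 0), (28, pconst 1), (30, pconst 1), (20, pconst 1), (22, pconst 1),
    (19, pconst 0), (17, pconst 1), (27, pconst 1), (25, pconst 1), (28, pconst 1), (30, pconst 0)]

set_option maxRecDepth 1000000 in
set_option maxHeartbeats 0 in
theorem f4_cong_n : wordCong chevF4 2 f4wn f4wg = true := by decide +kernel

section
variable {K : Type*} [Field K]

/-- the element of a word -/
noncomputable def f4w (w : List (ℕ × K)) : GL chevF4.Idx K :=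
  (w.map fun a => xG chevF4 f4_mem a.1 a.2).prod

theorem f4w_val (w : List (ℕ × K)) :
    ((f4w w : GL chevF4.Idx K) : Matrix chevF4.Idx chevF4.Idx K) = chevF4.wordMat K w := by
  unfold f4w ChevalleyDatum.wordMat
  induction w with
  | nil => simp
  | cons a w ih =>
    rw [List.map_cons, List.prod_cons, List.map_cons, List.prod_cons, Units.val_mul, ih, xG_val]

theorem f4w_append (w₁ w₂ : List (ℕ × K)) : f4w (w₁ ++ w₂) = f4w w₁ * f4w w₂ := by
  unfold f4w
  rw [List.map_append, List.prod_append]

theorem f4w_mem (e : ℕ) (w : List (ℕ × K)) (hw : w ∈ f4Words K e) : f4w w ∈ twistedF4 K e :=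
  mem_genSubgroup chevF4 _ _ w hw (f4w_val w)

end

end Cfsg.Agent.helper5.Chev
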