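import Mathlib
import Cfsg.Agent.Lib_helper5_F4A

set_option autoImplicit false
set_option linter.unusedSectionVars false
set_option linter.unusedVariables false

/-! The Ree groups `²F₄`: the core of `B¹` (helper5). -/

namespace Cfsg.Agent.helper5.Chev

open Cfsg.Lie

section
variable {K : Type*} [Field K] [CharP K 2] (e : ℕ)

theorem neg_one_eq_one_two : (-1 : K) = 1 := by
  have h2 : (2 : K) = 0 := by exact_mod_cast CharP.cast_eq_zero K 2
  linear_combination (-1 : K) * h2

/-- the positive pair generators -/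
theorem f4_pair_pos (t : K) :
    xG chevF4 f4_mem 24 t * xG chevF4 f4_mem 33 (t ^ e) ∈ twistedF4 K e := by
  have h := f4w_mem e (f4PairWord e 33 24 t) (Or.inl ⟨t, Or.inl rfl⟩)
  have e1 : f4w (f4PairWord e 33 24 t) =
      xG chevF4 f4_mem 33 (t ^ e) * xG chevF4 f4_mem 24 t := by
    unfold f4w f4PairWord
    simp only [List.map_cons, List.map_nil, List.prod_cons, List.prod_nil, mul_one]
  rw [e1] at h
  rw [((orth_commute (F := K) chevF4 f4_mem 24 33 f4_orth t (t ^ e)).1).eq]
  exact h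

/-- the negative pair generators -/
theorem f4_pair_neg (t : K) :
    xG chevF4 f4_mem (chevF4.neg 24) t * xG chevF4 f4_mem (chevF4.neg 33) (t ^ e) ∈
      twistedF4 K e := by
  have n24 : chevF4.neg 24 = 23 := by decide
  have n33 : chevF4.neg 33 = 14 := by decide
  have h := f4w_mem e (f4PairWord e 14 23 t) (Or.inl ⟨t, Or.inr rfl⟩)
  have e1 : f4w (f4PairWord e 14 23 t) =
      xG chevF4 f4_mem 14 (t ^ e) * xG chevF4 f4_mem 23 t := by
    unfold f4w f4PairWord
    simp only [List.map_cons, List.map_nil, List.prod_cons, List.prod_nil, mul_one]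
  rw [e1] at h
  have hc := (orth_commute (F := K) chevF4 f4_mem 24 33 f4_orth t (t ^ e)).2.2.2
  rw [n24, n33] at hc ⊢
  rw [hc.eq]
  exact h

theorem f4_nA_mem : nW chevF4 f4_mem [3, 0] ∈ twistedF4 K e := by
  have s3 : chevF4.simple 3 = 24 := by decide
  have s0 : chevF4.simple 0 = 33 := by decide
  have e1 : nW (F := K) chevF4 f4_mem [3, 0] = nGt chevF4 f4_mem 24 1 * nGt chevF4 f4_mem 33 1 := by
    unfold nW
    simp only [List.map_cons, List.map_nil, List.prod_cons, List.prod_nil, mul_one, s3, s0]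
  rw [e1, nGt_pair chevF4 f4_mem 24 33 f4_orth]
  have m1 := f4_pair_pos (K := K) e 1
  have m2 := f4_pair_neg (K := K) e (-1)
  rw [one_pow] at m1
  rw [neg_one_eq_one_two, one_pow] at m2
  rw [neg_one_eq_one_two]
  exact Subgroup.mul_mem _ (Subgroup.mul_mem _ m1 m2) m1

theorem f4_nB_mem (he : e ≠ 0) : nW chevF4 f4_mem [1, 2, 1, 2] ∈ twistedF4 K e := by
  have key := wordMat_eq_of_wordCong (K := K) chevF4 2 f4wn f4wg f4_cong_n (by decide) (by decide)
    1 1 one_ne_zero one_ne_zero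
  have s1 : chevF4.simple 1 = 27 := by decide
  have s2 : chevF4.simple 2 = 25 := by decide
  have n27 : chevF4.neg 27 = 20 := by decide
  have n25 : chevF4.neg 25 = 22 := by decide
  have e1 : nW (F := K) chevF4 f4_mem [1, 2, 1, 2] =
      f4w (f4wn.map fun a => (a.1, pEval (1 : K) 1 a.2)) := by
    unfold nW nGt f4w
    simp only [f4wn, List.map_cons, List.map_nil, List.prod_cons, List.prod_nil, pEval_pconst,
      mul_one, s1, s2, n27, n25]
    push_cast
    rw [inv_one]
    simp only [mul_assoc]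
  have e2 : f4w (f4wn.map fun a => (a.1, pEval (1 : K) 1 a.2)) =
      f4w (f4wg.map fun a => (a.1, pEval (1 : K) 1 a.2)) := by
    apply Units.ext
    rw [f4w_val, f4w_val]
    exact key
  have h11 : (1 : K) + 1 = 0 := by
    have h2 : (2 : K) = 0 := by exact_mod_cast CharP.cast_eq_zero K 2
    linear_combination h2
  have w1 : b2ClassWord e 27 25 28 30 (0 : K) 1 = [(27, 0), (25, 0), (28, 1), (30, 1)] := by
    unfold b2ClassWord
    rw [zero_pow he, zero_pow (by omega), one_pow, zero_add]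
  have w2 : b2ClassWord e 20 22 19 17 (1 : K) 1 = [(20, 1), (22, 1), (19, 0), (17, 1)] := by
    unfold b2ClassWord
    rw [one_pow, one_pow, one_pow, h11]
  have w3 : b2ClassWord e 27 25 28 30 (1 : K) 0 = [(27, 1), (25, 1), (28, 1), (30, 0)] := by
    unfold b2ClassWord
    rw [one_pow, one_pow, zero_pow (by omega), add_zero]
  have e3 : f4w (f4wg.map fun a => (a.1, pEval (1 : K) 1 a.2)) =
      f4w (b2ClassWord e 27 25 28 30 (0 : K) 1) * f4w (b2ClassWord e 20 22 19 17 (1 : K) 1) *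
        f4w (b2ClassWord e 27 25 28 30 (1 : K) 0) := by
    rw [← f4w_append, ← f4w_append, w1, w2, w3]
    congr 1
    simp only [f4wg, List.map_cons, List.map_nil, pEval_pconst, List.cons_append, List.nil_append]
    push_cast
    rfl
  rw [e1, e2, e3]
  exact Subgroup.mul_mem _ (Subgroup.mul_mem _
    (f4w_mem e _ (Or.inr ⟨0, 1, Or.inl rfl⟩)) (f4w_mem e _ (Or.inr ⟨1, 1, Or.inr rfl⟩)))
    (f4w_mem e _ (Or.inr ⟨1, 0, Or.inl rfl⟩))

theorem twF4w0_mem (he : e ≠ 0) : nW chevF4 f4_mem twF4w0 ∈ twistedF4 K e := by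
  have h1 : nW (F := K) chevF4 f4_mem ([3, 0] ++ [1, 2, 1, 2]) ∈ twistedF4 K e := by
    rw [nW_append]
    exact Subgroup.mul_mem _ (f4_nA_mem e) (f4_nB_mem e he)
  have e1 : twF4w0 = (([3, 0] ++ [1, 2, 1, 2]) ++ ([3, 0] ++ [1, 2, 1, 2])) ++
      (([3, 0] ++ [1, 2, 1, 2]) ++ ([3, 0] ++ [1, 2, 1, 2])) := rfl
  rw [e1, nW_append, nW_append]
  exact Subgroup.mul_mem _ (Subgroup.mul_mem _ h1 h1) (Subgroup.mul_mem _ h1 h1)

/-- the normal core of `B¹` in `²F₄` is trivial -/
theorem f4_core (he : e ≠ 0) : ((chevF4.borelSubgroup K ⊓ twistedF4 K e).subgroupOf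
    (twistedF4 K e)).normalCore = ⊥ := by
  apply tw_core_trivial chevF4 f4_mem f4_hCR (twistedF4 K e) twF4w0 twF4w0_ok (twF4w0_mem e he)
  intro i hi
  have hr : chevF4.rank = 4 := by decide
  rw [hr] at hi
  have s0 : chevF4.simple 0 = 33 := by decide
  have s1 : chevF4.simple 1 = 27 := by decide
  have s2 : chevF4.simple 2 = 25 := by decide
  have s3 : chevF4.simple 3 = 24 := by decide
  have hp := f4_pair_pos (K := K) e 1
  rw [one_pow] at hp
  have hg := f4w_mem (K := K) e (b2ClassWord e 27 25 28 30 (1 : K) 0) (Or.inr ⟨1, 0, Or.inl rfl⟩)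
  have w3 : b2ClassWord e 27 25 28 30 (1 : K) 0 = [(27, 1), (25, 1), (28, 1), (30, 0)] := by
    unfold b2ClassWord
    rw [one_pow, one_pow, zero_pow (by omega), add_zero]
  rw [w3] at hg
  unfold f4w at hg
  simp only [List.map_cons, List.map_nil, List.prod_cons, List.prod_nil, mul_one] at hg
  interval_cases i
  · refine ⟨1, one_ne_zero, xG chevF4 f4_mem 24 1,
      xG_mem_Ui chevF4 f4_mem 0 24 (by decide) (by decide) 1, 1, Subgroup.one_mem _, ?_⟩
    rw [s0, mul_one]
    exact hp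
  · refine ⟨1, one_ne_zero, 1, Subgroup.one_mem _,
      xG chevF4 f4_mem 25 1 * (xG chevF4 f4_mem 28 1 * xG chevF4 f4_mem 30 0),
      Subgroup.mul_mem _ (xG_mem_Ui chevF4 f4_mem 1 25 (by decide) (by decide) 1)
        (Subgroup.mul_mem _ (xG_mem_Ui chevF4 f4_mem 1 28 (by decide) (by decide) 1)
          (xG_mem_Ui chevF4 f4_mem 1 30 (by decide) (by decide) 0)), ?_⟩
    rw [s1, one_mul]
    exact hg
  · refine ⟨1, one_ne_zero, xG chevF4 f4_mem 27 1,
      xG_mem_Ui chevF4 f4_mem 2 27 (by decide) (by decide) 1,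
      xG chevF4 f4_mem 28 1 * xG chevF4 f4_mem 30 0,
      Subgroup.mul_mem _ (xG_mem_Ui chevF4 f4_mem 2 28 (by decide) (by decide) 1)
          (xG_mem_Ui chevF4 f4_mem 2 30 (by decide) (by decide) 0), ?_⟩
    rw [s2, mul_assoc]
    exact hg
  · refine ⟨1, one_ne_zero, 1, Subgroup.one_mem _, xG chevF4 f4_mem 33 1,
      xG_mem_Ui chevF4 f4_mem 3 33 (by decide) (by decide) 1, ?_⟩
    rw [s3, one_mul]
    exact hp

end

end Cfsg.Agent.helper5.Chev
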