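import Mathlib
import Cfsg.Agent.Lib_helper5_F4B

set_option autoImplicit false
set_option linter.unusedSectionVars false
set_option linter.unusedVariables false

/-! The finite fields of order `2^(2m+1)` (helper5). -/

namespace Cfsg.Agent.helper5.Chev

open Cfsg.Lie

section
variable {K : Type*} [Field K] [Fintype K] {m : ℕ} (hK : Fintype.card K = 2 ^ (2 * m + 1))

include hK in
theorem f4_charP : CharP K 2 := by
  obtain ⟨p, hp⟩ := CharP.exists K
  have hpp : p.Prime := by
    have := hp
    exact CharP.char_is_prime K p
  have := hp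
  have h1 : p ∣ Fintype.card K := by
    have : ((Fintype.card K : ℕ) : K) = 0 := Nat.cast_card_eq_zero K
    exact (CharP.cast_eq_zero_iff K p _).mp this
  rw [hK] at h1
  have h2 : p ∣ 2 := hpp.dvd_of_dvd_pow h1
  have h3 : p = 2 := (Nat.prime_dvd_prime_iff_eq hpp Nat.prime_two).mp h2
  rw [← h3]
  exact hp

end

end Cfsg.Agent.helper5.Chev
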