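import Mathlib
import Cfsg.Agent.Lib_helper5_ReeA

set_option autoImplicit false
set_option linter.unusedSectionVars false
set_option linter.unusedVariables false

/-! The Ree endomorphism `σ` of `G₂` in characteristic `3` (helper5). -/

namespace Cfsg.Agent.helper5.Chev

open Cfsg.Lie

/-- the root permutation `r ↦ r̄` of `G₂` -/
def g2bar (r : ℕ) : ℕ := ([2, 3, 0, 1, 5, 4, 7, 6, 10, 11, 8, 9] : List ℕ).getD r 0

/-- the exponents `λ(r̄)` -/
def g2lam (r : ℕ) : ℕ := ([1, 1, 3, 3, 3, 1, 1, 3, 3, 3, 1, 1] : List ℕ).getD r 1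

set_option maxRecDepth 100000 in
theorem g2_twAll : ∀ r : Fin 12, ∀ l k : Fin 7,
    pCong 3 (vget (col chevG2 r.val pX (code chevG2 (g2T l))) (code chevG2 (g2T k)))
      (vget (col chevG2 (g2bar r.val) (ppow pX (g2lam r.val)) (code chevG2 (g2S l)))
        (code chevG2 (g2S k))) = true := by
  decide +kernel

theorem g2bar_lt (r : Fin 12) : g2bar r.val < 12 ∧ g2lam r.val ≠ 0 := by
  fin_cases r <;> decide

section
variable {K : Type*} [Field K] [CharP K 3]

theorem g2_x_twAll (r : ℕ) (hr : r < 12) (t : K) :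
    g2rhoT (g2x r t) = g2rhoS (g2x (g2bar r) (t ^ g2lam r)) := by
  obtain ⟨h2, h3⟩ := g2bar_lt ⟨r, hr⟩
  apply Units.ext
  unfold g2rhoT g2rhoS
  rw [rhoT_val, rhoS_val, g2x_val, g2x_val]
  by_cases ht : t = 0
  · rw [ht, zero_pow h3, x_zero_nat, x_zero_nat,
      Matrix.submatrix_one _ (iT_injective g2S g2T g2_bij),
      Matrix.submatrix_one _ (iS_injective g2S g2T g2_bij)]
  · ext k l
    rw [Matrix.submatrix_apply, Matrix.submatrix_apply]
    have e1 := x_entry chevG2 r hr t ht pX (g2T k) (g2T l)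
    have e2 := x_entry chevG2 (g2bar r) h2 t ht (ppow pX (g2lam r)) (g2S k) (g2S l)
    rw [pEval_pX] at e1
    rw [pEval_ppow t 1 ht one_ne_zero, pEval_pX] at e2
    rw [e1, e2]
    exact pEval_of_pCong 3 t 1 _ _ (g2_twAll ⟨r, hr⟩ l k)

variable (hperf : ∀ x : K, ∃ y : K, y ^ 3 = x)

theorem g2alpha_x (r : ℕ) (hr : r < 12) (t : K) :
    g2alpha hperf (g2x r t) = g2x (g2bar r) (t ^ g2lam r) := by
  apply g2rhoS_inj
  rw [g2alpha_spec, g2_x_twAll r hr]

variable (f : K →+* K)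

/-- the Ree endomorphism: field endomorphism followed by the graph automorphism -/
noncomputable def g2sigma : ↥(chevG2.group K) →* ↥(chevG2.group K) :=
  (g2alpha hperf).toMonoidHom.comp (fieldEnd chevG2 g2_mem f)

theorem fieldEnd_g2x (r : ℕ) (t : K) : fieldEnd chevG2 g2_mem f (g2x r t) = g2x r (f t) := by
  apply Subtype.ext
  rw [fieldEnd_coe]
  exact glmap_xG chevG2 g2_mem f r t

theorem g2sigma_x (r : ℕ) (hr : r < 12) (t : K) :
    g2sigma hperf f (g2x r t) = g2x (g2bar r) (f t ^ g2lam r) := by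
  unfold g2sigma
  rw [MonoidHom.comp_apply, fieldEnd_g2x]
  exact g2alpha_x hperf r hr (f t)

end

end Cfsg.Agent.helper5.Chev
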