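import Mathlib
import Cfsg.Agent.Lib_helper5_ReeB

set_option autoImplicit false
set_option linter.unusedSectionVars false
set_option linter.unusedVariables false

/-! Relations in the unipotent subgroups of `G₂` in characteristic `3` (helper5). -/

namespace Cfsg.Agent.helper5.Chev

open Cfsg.Lie

/-- the polynomial `c x^i y^j` -/
def pM (i j c : ℤ) : Poly := [(i, j, c)]

theorem pEval_pM {K : Type*} [Field K] (x y : K) (i j c : ℤ) :
    pEval x y (pM i j c) = (c : K) * x ^ i * y ^ j := by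
  simp [pM, pEval, mEval]

/-- the commutator relation of `x_b` and `x_a` -/
def g2w1 : List (ℕ × Poly) := [(6, pY), (7, pX)]
def g2w2 : List (ℕ × Poly) :=
  [(7, pX), (6, pY), (8, pM 1 1 1), (9, pM 2 1 1), (10, pM 3 1 (-1)), (11, pM 3 2 (-1))]
def g2w3 : List (ℕ × Poly) := [(5, pY), (4, pX)]
def g2w4 : List (ℕ × Poly) :=
  [(4, pX), (5, pY), (3, pM 1 1 (-1)), (2, pM 2 1 1), (1, pM 3 1 1), (0, pM 3 2 (-1))]

set_option maxRecDepth 100000 in
theorem g2_cong12 : wordCong chevG2 3 g2w1 g2w2 = true := by decide +kernel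

set_option maxRecDepth 100000 in
theorem g2_cong34 : wordCong chevG2 3 g2w3 g2w4 = true := by decide +kernel

/-- the pairs of commuting roots -/
def g2commPairs : List (ℕ × ℕ) :=
  [(8, 9), (8, 10), (8, 11), (9, 10), (9, 11), (10, 11), (3, 2), (3, 1), (3, 0), (2, 1), (2, 0),
    (1, 0), (7, 9), (7, 11), (6, 8), (6, 9), (6, 11), (4, 2), (4, 0), (5, 3), (5, 2), (5, 0)]

set_option maxRecDepth 100000 in
theorem g2_congComm : ∀ pr ∈ g2commPairs,
    wordCong chevG2 3 [(pr.1, pX), (pr.2, pY)] [(pr.2, pY), (pr.1, pX)] = true := by decide +kernel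

section
variable {K : Type*} [Field K] [CharP K 3]

theorem g2x_zero (r : ℕ) : g2x r (0 : K) = 1 := by
  apply Subtype.ext
  exact xG_zero chevG2 g2_mem r

theorem g2x_mul (r : ℕ) (t u : K) : g2x r t * g2x r u = g2x r (t + u) := by
  apply Subtype.ext
  exact xG_mul chevG2 g2_mem r t u

theorem g2x_inv (r : ℕ) (t : K) : (g2x r t)⁻¹ = g2x r (-t) := by
  apply Subtype.ext
  exact xG_inv chevG2 g2_mem r t

/-- the product of a word, in the group -/
noncomputable def g2w (w : List (ℕ × K)) : ↥(chevG2.group K) := (w.map fun a => g2x a.1 a.2).prod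

theorem g2w_val (w : List (ℕ × K)) :
    (((g2w w : ↥(chevG2.group K)) : GL chevG2.Idx K) : Matrix chevG2.Idx chevG2.Idx K) =
      chevG2.wordMat K w := by
  unfold g2w ChevalleyDatum.wordMat
  induction w with
  | nil => simp
  | cons a w ih =>
    rw [List.map_cons, List.prod_cons, List.map_cons, List.prod_cons, Subgroup.coe_mul,
      Units.val_mul, ih, g2x_val]

theorem g2w_eq_of_cong (w₁ w₂ : List (ℕ × Poly)) (h : wordCong chevG2 ((3 : ℕ) : ℤ) w₁ w₂ = true)
    (hw₁ : ∀ a ∈ w₁, a.1 < chevG2.nroots) (hw₂ : ∀ a ∈ w₂, a.1 < chevG2.nroots)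
    (x y : K) (hx : x ≠ 0) (hy : y ≠ 0) :
    g2w (w₁.map fun a => (a.1, pEval x y a.2)) = g2w (w₂.map fun a => (a.1, pEval x y a.2)) := by
  apply Subtype.ext
  apply Units.ext
  rw [g2w_val, g2w_val]
  exact wordMat_eq_of_wordCong chevG2 3 w₁ w₂ h hw₁ hw₂ x y hx hy

/-- `x_b(B) x_a(A) = x_a(A) x_b(B) x_{a+b}(AB) x_{2a+b}(A²B) x_{3a+b}(-A³B) x_{3a+2b}(-A³B²)` -/
theorem g2_rel_ba (A B : K) :
    g2x 6 B * g2x 7 A = g2x 7 A * g2x 6 B * g2x 8 (A * B) * g2x 9 (A ^ 2 * B) *
      g2x 10 (-(A ^ 3 * B)) * g2x 11 (-(A ^ 3 * B ^ 2)) := by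
  by_cases hA : A = 0
  · subst hA
    simp [g2x_zero]
  by_cases hB : B = 0
  · subst hB
    simp [g2x_zero]
  have h := g2w_eq_of_cong (K := K) g2w1 g2w2 g2_cong12 (by decide) (by decide) A B hA hB
  simp only [g2w, g2w1, g2w2, List.map_cons, List.map_nil, List.prod_cons, List.prod_nil, mul_one,
    pEval_pX, pEval_pY, pEval_pM] at h
  rw [h]
  simp only [Int.cast_one, Int.cast_neg, one_mul, neg_mul, zpow_ofNat, pow_one, mul_assoc]

/-- the relation of `x_{-b}` and `x_{-a}` -/
theorem g2_rel_ba_neg (A B : K) :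
    g2x 5 B * g2x 4 A = g2x 4 A * g2x 5 B * g2x 3 (-(A * B)) * g2x 2 (A ^ 2 * B) *
      g2x 1 (A ^ 3 * B) * g2x 0 (-(A ^ 3 * B ^ 2)) := by
  by_cases hA : A = 0
  · subst hA
    simp [g2x_zero]
  by_cases hB : B = 0
  · subst hB
    simp [g2x_zero]
  have h := g2w_eq_of_cong (K := K) g2w3 g2w4 g2_cong34 (by decide) (by decide) A B hA hB
  simp only [g2w, g2w3, g2w4, List.map_cons, List.map_nil, List.prod_cons, List.prod_nil, mul_one,
    pEval_pX, pEval_pY, pEval_pM] at h
  rw [h]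
  simp only [Int.cast_one, Int.cast_neg, one_mul, neg_mul, zpow_ofNat, pow_one, mul_assoc]

/-- commuting root subgroups -/
theorem g2_comm (r s : ℕ) (h : (r, s) ∈ g2commPairs) (A B : K) :
    g2x r A * g2x s B = g2x s B * g2x r A := by
  by_cases hA : A = 0
  · subst hA
    simp [g2x_zero]
  by_cases hB : B = 0
  · subst hB
    simp [g2x_zero]
  have hlt : r < 12 ∧ s < 12 := by
    revert h
    unfold g2commPairs
    simp only [List.mem_cons, Prod.mk.injEq, List.not_mem_nil, or_false]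
    omega
  have h1 := g2w_eq_of_cong (K := K) [(r, pX), (s, pY)] [(s, pY), (r, pX)]
    (g2_congComm (r, s) h) (by
      intro a ha
      simp only [List.mem_cons, List.not_mem_nil, or_false] at ha
      rcases ha with rfl | rfl
      · exact hlt.1
      · exact hlt.2) (by
      intro a ha
      simp only [List.mem_cons, List.not_mem_nil, or_false] at ha
      rcases ha with rfl | rfl
      · exact hlt.2
      · exact hlt.1) A B hA hB
  simp only [g2w, List.map_cons, List.map_nil, List.prod_cons, List.prod_nil, mul_one,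
    pEval_pX, pEval_pY] at h1
  exact h1

end

end Cfsg.Agent.helper5.Chev
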