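import Mathlib
import Cfsg.Agent.Lib_helper5_F4C
import Cfsg.Agent.Lib_helper5_ReeC

set_option autoImplicit false
set_option linter.unusedSectionVars false
set_option linter.unusedVariables false

/-! The Ree groups `²F₄`: relations in the classes of type `B₂` (helper5). -/

namespace Cfsg.Agent.helper5.Chev

open Cfsg.Lie

/-- the two classes of type `B₂`: `(a, b, a+b, 2a+b)` -/
def f4B2classes : List (ℕ × ℕ × ℕ × ℕ) := [(27, 25, 28, 30), (20, 22, 19, 17)]

set_option maxRecDepth 1000000 in
set_option maxHeartbeats 0 in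
theorem f4_congB2 : ∀ c ∈ f4B2classes,
    wordCong chevF4 2 [(c.2.1, pY), (c.1, pX)]
      [(c.1, pX), (c.2.1, pY), (c.2.2.1, pM 1 1 1), (c.2.2.2, pM 2 1 1)] = true := by
  decide +kernel

/-- the commuting pairs -/
def f4commPairs : List (ℕ × ℕ) :=
  [(27, 28), (27, 30), (25, 28), (25, 30), (28, 30), (20, 19), (20, 17), (22, 19), (22, 17),
    (19, 17)]

set_option maxRecDepth 1000000 in
set_option maxHeartbeats 0 in
theorem f4_congComm : ∀ pr ∈ f4commPairs,
    wordCong chevF4 2 [(pr.1, pX), (pr.2, pY)] [(pr.2, pY), (pr.1, pX)] = true := by decide +kernel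

section
variable {K : Type*} [Field K] [CharP K 2]

theorem f4w_eq_of_cong (w₁ w₂ : List (ℕ × Poly)) (h : wordCong chevF4 ((2 : ℕ) : ℤ) w₁ w₂ = true)
    (hw₁ : ∀ a ∈ w₁, a.1 < chevF4.nroots) (hw₂ : ∀ a ∈ w₂, a.1 < chevF4.nroots)
    (x y : K) (hx : x ≠ 0) (hy : y ≠ 0) :
    f4w (w₁.map fun a => (a.1, pEval x y a.2)) = f4w (w₂.map fun a => (a.1, pEval x y a.2)) := by
  apply Units.ext
  rw [f4w_val, f4w_val]
  exact wordMat_eq_of_wordCong chevF4 2 w₁ w₂ h hw₁ hw₂ x y hx hy

/-- the commutator relation in a class of type `B₂` -/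
theorem f4_relB2 (c : ℕ × ℕ × ℕ × ℕ) (hc : c ∈ f4B2classes) (A B : K) :
    xG chevF4 f4_mem c.2.1 B * xG chevF4 f4_mem c.1 A =
      xG chevF4 f4_mem c.1 A * xG chevF4 f4_mem c.2.1 B * xG chevF4 f4_mem c.2.2.1 (A * B) *
        xG chevF4 f4_mem c.2.2.2 (A ^ 2 * B) := by
  by_cases hA : A = 0
  · subst hA
    simp [xG_zero]
  by_cases hB : B = 0
  · subst hB
    simp [xG_zero]
  have hlt : c.1 < 48 ∧ c.2.1 < 48 ∧ c.2.2.1 < 48 ∧ c.2.2.2 < 48 := by
    revert hc
    unfold f4B2classes
    simp only [List.mem_cons, List.not_mem_nil, or_false]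
    rintro (rfl | rfl) <;> decide
  have h := f4w_eq_of_cong (K := K) _ _ (f4_congB2 c hc) (by
      intro a ha
      simp only [List.mem_cons, List.not_mem_nil, or_false] at ha
      rcases ha with rfl | rfl
      · exact hlt.2.1
      · exact hlt.1) (by
      intro a ha
      simp only [List.mem_cons, List.not_mem_nil, or_false] at ha
      rcases ha with rfl | rfl | rfl | rfl
      · exact hlt.1
      · exact hlt.2.1
      · exact hlt.2.2.1
      · exact hlt.2.2.2) A B hA hB
  simp only [f4w, List.map_cons, List.map_nil, List.prod_cons, List.prod_nil, mul_one,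
    pEval_pX, pEval_pY, pEval_pM] at h
  rw [h]
  simp only [Int.cast_one, one_mul, zpow_ofNat, pow_one, mul_assoc]

/-- commuting root subgroups -/
theorem f4_comm (r s : ℕ) (h : (r, s) ∈ f4commPairs) (A B : K) :
    Commute (xG chevF4 f4_mem r A) (xG chevF4 f4_mem s B) := by
  by_cases hA : A = 0
  · subst hA
    rw [xG_zero]
    exact Commute.one_left _
  by_cases hB : B = 0
  · subst hB
    rw [xG_zero]
    exact Commute.one_right _
  have hlt : r < 48 ∧ s < 48 := by
    revert h
    unfold f4commPairs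
    simp only [List.mem_cons, Prod.mk.injEq, List.not_mem_nil, or_false]
    omega
  have h1 := f4w_eq_of_cong (K := K) [(r, pX), (s, pY)] [(s, pY), (r, pX)]
    (f4_congComm (r, s) h) (by
      intro a ha
      simp only [List.mem_cons, List.not_mem_nil, or_false] at ha
      rcases ha with rfl | rfl
      · exact hlt.1
      · exact hlt.2) (by
      intro a ha
      simp only [List.mem_cons, List.not_mem_nil, or_false] at ha
      rcases ha with rfl | rfl
      · exact hlt.2
      · exact hlt.1) A B hA hB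
  simp only [f4w, List.map_cons, List.map_nil, List.prod_cons, List.prod_nil, mul_one,
    pEval_pX, pEval_pY] at h1
  exact h1

end

end Cfsg.Agent.helper5.Chev
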