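import Mathlib
import Cfsg.Agent.Lib_helper5_F4D

set_option autoImplicit false
set_option linter.unusedSectionVars false
set_option linter.unusedVariables false

/-! The Ree groups `²F₄(q)`, `q > 2`, are perfect (helper5). -/

namespace Cfsg.Agent.helper5.Chev

open Cfsg.Lie
open scoped commutatorElement

/-- the multiplication in a class of type `B₂` in characteristic two -/
theorem b2_mul_aux {G : Type*} [Group G] {K : Type*} [Field K] (xa xb xab xaab : K → G)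
    (ha : ∀ s t, xa s * xa t = xa (s + t)) (hb : ∀ s t, xb s * xb t = xb (s + t))
    (hab : ∀ s t, xab s * xab t = xab (s + t)) (haab : ∀ s t, xaab s * xaab t = xaab (s + t))
    (hR : ∀ A B, xb B * xa A = xa A * xb B * xab (A * B) * xaab (A ^ 2 * B))
    (c1 : ∀ A B, Commute (xa A) (xab B)) (c2 : ∀ A B, Commute (xa A) (xaab B))
    (c3 : ∀ A B, Commute (xb A) (xab B)) (c4 : ∀ A B, Commute (xb A) (xaab B))
    (c5 : ∀ A B, Commute (xab A) (xaab B)) (α t A B α' t' A' B' : K) :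
    xa α * xb t * xab A * xaab B * (xa α' * xb t' * xab A' * xaab B') =
      xa (α + α') * xb (t + t') * xab (α' * t + A + A') * xaab (α' ^ 2 * t + B + B') := by
  have pp : ∀ a1 b1 a2 b2 : K, (xab a1 * xaab b1) * (xab a2 * xaab b2) =
      xab (a1 + a2) * xaab (b1 + b2) := by
    intro a1 b1 a2 b2
    calc (xab a1 * xaab b1) * (xab a2 * xaab b2)
        = xab a1 * (xaab b1 * xab a2) * xaab b2 := by group
      _ = xab a1 * (xab a2 * xaab b1) * xaab b2 := by rw [(c5 a2 b1).eq]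
      _ = (xab a1 * xab a2) * (xaab b1 * xaab b2) := by group
      _ = _ := by rw [hab, haab]
  have hPa : Commute (xab A * xaab B) (xa α') := (c1 α' A).symm.mul_left (c2 α' B).symm
  have hPb : Commute (xab A * xaab B) (xb t') := (c3 t' A).symm.mul_left (c4 t' B).symm
  have hPab : Commute (xab A * xaab B) (xa α' * xb t') := hPa.mul_right hPb
  have hQb : Commute (xab (α' * t) * xaab (α' ^ 2 * t)) (xb t') :=
    (c3 t' _).symm.mul_left (c4 t' _).symm
  calc xa α * xb t * xab A * xaab B * (xa α' * xb t' * xab A' * xaab B')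
      = xa α * xb t * ((xab A * xaab B) * (xa α' * xb t')) * (xab A' * xaab B') := by group
    _ = xa α * xb t * ((xa α' * xb t') * (xab A * xaab B)) * (xab A' * xaab B') := by
        rw [hPab.eq]
    _ = xa α * (xb t * xa α') * xb t' * (xab A * xaab B) * (xab A' * xaab B') := by group
    _ = xa α * (xa α' * xb t * xab (α' * t) * xaab (α' ^ 2 * t)) * xb t' * (xab A * xaab B) *
          (xab A' * xaab B') := by rw [hR]
    _ = xa α * xa α' * xb t * ((xab (α' * t) * xaab (α' ^ 2 * t)) * xb t') * (xab A * xaab B) *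
          (xab A' * xaab B') := by group
    _ = xa α * xa α' * xb t * (xb t' * (xab (α' * t) * xaab (α' ^ 2 * t))) * (xab A * xaab B) *
          (xab A' * xaab B') := by rw [hQb.eq]
    _ = (xa α * xa α') * (xb t * xb t') * (((xab (α' * t) * xaab (α' ^ 2 * t)) *
          (xab A * xaab B)) * (xab A' * xaab B')) := by group
    _ = xa (α + α') * xb (t + t') * (xab (α' * t + A + A') * xaab (α' ^ 2 * t + B + B')) := by
        rw [ha, hb, pp, pp]
    _ = _ := by group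

section
variable {K : Type*} [Field K] [CharP K 2] (e : ℕ) (he : e ≠ 0)
  (hfrob : ∀ a b : K, (a + b) ^ e = a ^ e + b ^ e)
  (hff : ∀ t : K, (t ^ e) ^ (2 * e) = t)

theorem two_eq_zero_two : (2 : K) = 0 := by exact_mod_cast CharP.cast_eq_zero K 2

/-- the elements of a class of type `B₂` -/
noncomputable def f4G (c : ℕ × ℕ × ℕ × ℕ) (t u : K) : GL chevF4.Idx K :=
  xG chevF4 f4_mem c.1 (t ^ e) * xG chevF4 f4_mem c.2.1 t *
    xG chevF4 f4_mem c.2.2.1 (t ^ (e + 1) + u) * xG chevF4 f4_mem c.2.2.2 (u ^ (2 * e))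

include hfrob hff in
theorem f4G_mul (c : ℕ × ℕ × ℕ × ℕ) (hc : c ∈ f4B2classes) (t u t' u' : K) :
    f4G e c t u * f4G e c t' u' = f4G e c (t + t') (u + u' + t ^ e * t') := by
  have h2 := two_eq_zero_two (K := K)
  have hcomm : (c.1, c.2.2.1) ∈ f4commPairs ∧ (c.1, c.2.2.2) ∈ f4commPairs ∧
      (c.2.1, c.2.2.1) ∈ f4commPairs ∧ (c.2.1, c.2.2.2) ∈ f4commPairs ∧
      (c.2.2.1, c.2.2.2) ∈ f4commPairs := by
    revert hc
    unfold f4B2classes
    simp only [List.mem_cons, List.not_mem_nil, or_false]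
    rintro (rfl | rfl) <;> decide
  unfold f4G
  rw [b2_mul_aux (fun s => xG chevF4 f4_mem c.1 s) (fun s => xG chevF4 f4_mem c.2.1 s)
    (fun s => xG chevF4 f4_mem c.2.2.1 s) (fun s => xG chevF4 f4_mem c.2.2.2 s)
    (xG_mul chevF4 f4_mem _) (xG_mul chevF4 f4_mem _) (xG_mul chevF4 f4_mem _)
    (xG_mul chevF4 f4_mem _) (f4_relB2 c hc) (f4_comm _ _ hcomm.1) (f4_comm _ _ hcomm.2.1)
    (f4_comm _ _ hcomm.2.2.1) (f4_comm _ _ hcomm.2.2.2.1) (f4_comm _ _ hcomm.2.2.2.2)]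
  have hsq : ∀ x : K, x ^ (2 * e) = (x ^ e) ^ 2 := by
    intro x
    rw [mul_comm, pow_mul]
  have hT : ((t ^ e) ^ e) ^ 2 = t := by
    rw [← pow_mul, mul_comm]
    exact hff t
  have e1 : t ^ e + t' ^ e = (t + t') ^ e := (hfrob t t').symm
  have e2 : t' ^ e * t + (t ^ (e + 1) + u) + (t' ^ (e + 1) + u') =
      (t + t') ^ (e + 1) + (u + u' + t ^ e * t') := by
    rw [pow_succ, pow_succ, pow_succ, hfrob]
    linear_combination (-(t ^ e * t')) * h2
  have e3 : (t' ^ e) ^ 2 * t + u ^ (2 * e) + u' ^ (2 * e) = (u + u' + t ^ e * t') ^ (2 * e) := by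
    rw [hsq, hsq, hsq, hfrob, hfrob, mul_pow]
    linear_combination (-(t' ^ e) ^ 2) * hT -
      (u ^ e * u' ^ e + u ^ e * ((t ^ e) ^ e * t' ^ e) + u' ^ e * ((t ^ e) ^ e * t' ^ e)) * h2
  rw [e1, e2, e3]

include hff in
theorem f4G_conj (c : ℕ × ℕ × ℕ × ℕ) (h : GL chevF4.Idx K) (σ : K)
    (h1 : ∀ x, h * xG chevF4 f4_mem c.1 x * h⁻¹ = xG chevF4 f4_mem c.1 (σ ^ e * x))
    (h2 : ∀ x, h * xG chevF4 f4_mem c.2.1 x * h⁻¹ = xG chevF4 f4_mem c.2.1 (σ * x))
    (h3 : ∀ x, h * xG chevF4 f4_mem c.2.2.1 x * h⁻¹ = xG chevF4 f4_mem c.2.2.1 (σ * σ ^ e * x))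
    (h4 : ∀ x, h * xG chevF4 f4_mem c.2.2.2 x * h⁻¹ =
      xG chevF4 f4_mem c.2.2.2 (σ * (σ ^ e) ^ 2 * x)) (t u : K) :
    h * f4G e c t u * h⁻¹ = f4G e c (σ * t) (σ * σ ^ e * u) := by
  unfold f4G
  have e0 : h * (xG chevF4 f4_mem c.1 (t ^ e) * xG chevF4 f4_mem c.2.1 t *
      xG chevF4 f4_mem c.2.2.1 (t ^ (e + 1) + u) * xG chevF4 f4_mem c.2.2.2 (u ^ (2 * e))) * h⁻¹ =
      (h * xG chevF4 f4_mem c.1 (t ^ e) * h⁻¹) * (h * xG chevF4 f4_mem c.2.1 t * h⁻¹) *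
        (h * xG chevF4 f4_mem c.2.2.1 (t ^ (e + 1) + u) * h⁻¹) *
        (h * xG chevF4 f4_mem c.2.2.2 (u ^ (2 * e)) * h⁻¹) := by group
  rw [e0, h1, h2, h3, h4]
  have hsq : ∀ x : K, x ^ (2 * e) = (x ^ e) ^ 2 := by
    intro x
    rw [mul_comm, pow_mul]
  have e1 : σ ^ e * t ^ e = (σ * t) ^ e := (mul_pow σ t e).symm
  have e3 : σ * σ ^ e * (t ^ (e + 1) + u) = (σ * t) ^ (e + 1) + σ * σ ^ e * u := by
    rw [pow_succ, pow_succ, mul_pow]
    ring
  have e4 : σ * (σ ^ e) ^ 2 * u ^ (2 * e) = (σ * σ ^ e * u) ^ (2 * e) := by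
    rw [mul_pow, mul_pow, hff σ, hsq σ]
    ring
  rw [e1, e3, e4]

include he in
theorem f4G_zero (c : ℕ × ℕ × ℕ × ℕ) : f4G e c (0 : K) 0 = 1 := by
  unfold f4G
  rw [zero_pow he, zero_pow (by omega), zero_pow (by omega), add_zero, xG_zero, xG_zero, xG_zero,
    xG_zero]
  group

include he hfrob hff in
/-- a class of type `B₂` lies in the derived group -/
theorem f4G_mem_comm (c : ℕ × ℕ × ℕ × ℕ) (hc : c ∈ f4B2classes) (T : Subgroup (GL chevF4.Idx K))
    (hG : ∀ t u, f4G e c t u ∈ T) (h : GL chevF4.Idx K) (hh : h ∈ T) (σ : K) (hσ1 : σ ≠ 1)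
    (hσ2 : σ * σ ^ e ≠ 1)
    (hconj : ∀ t u, h * f4G e c t u * h⁻¹ = f4G e c (σ * t) (σ * σ ^ e * u)) (t u : K) :
    f4G e c t u ∈ ⁅T, T⁆ := by
  have h2 := two_eq_zero_two (K := K)
  -- the centre
  have hcen : ∀ w : K, f4G e c 0 w ∈ ⁅T, T⁆ := by
    intro w
    refine torus_trick T (fun w => f4G e c 0 w) h (σ * σ ^ e) hh (hG 0) ?_ ?_ hσ2 w
    · intro w
      have := hconj 0 w
      rwa [mul_zero] at this
    · intro w w'
      have := f4G_mul e hfrob hff c hc 0 w 0 w'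
      rwa [add_zero, mul_zero, add_zero] at this
  have hσ1' : σ + 1 ≠ 0 := by
    intro h0
    apply hσ1
    linear_combination h0 - h2
  obtain ⟨t₁, ht₁⟩ : ∃ t₁ : K, t₁ = t / (σ + 1) := ⟨_, rfl⟩
  have hinv : (f4G e c t₁ 0)⁻¹ = f4G e c t₁ (t₁ ^ e * t₁) := by
    rw [inv_eq_iff_mul_eq_one, f4G_mul e hfrob hff c hc]
    have e1 : t₁ + t₁ = 0 := by linear_combination t₁ * h2
    have e2 : (0 : K) + t₁ ^ e * t₁ + t₁ ^ e * t₁ = 0 := by linear_combination (t₁ ^ e * t₁) * h2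
    rw [e1, e2]
    exact f4G_zero e he c
  have hcomm : ⁅h, f4G e c t₁ 0⁆ ∈ ⁅T, T⁆ := Subgroup.commutator_mem_commutator hh (hG t₁ 0)
  rw [commutatorElement_def, hconj, hinv, f4G_mul e hfrob hff c hc] at hcomm
  have e3 : σ * t₁ + t₁ = t := by
    rw [ht₁]
    field_simp
  rw [e3] at hcomm
  obtain ⟨u₀, hu₀⟩ : ∃ u₀ : K, u₀ = σ * σ ^ e * 0 + t₁ ^ e * t₁ + (σ * t₁) ^ e * t₁ := ⟨_, rfl⟩
  rw [← hu₀] at hcomm
  have e4 : f4G e c t u = f4G e c t u₀ * f4G e c 0 (u + u₀) := by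
    rw [f4G_mul e hfrob hff c hc, add_zero, mul_zero, add_zero]
    congr 1
    linear_combination (-u₀) * h2
  rw [e4]
  exact Subgroup.mul_mem _ hcomm (hcen _)

end

end Cfsg.Agent.helper5.Chev
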