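import Mathlib
import Cfsg.Agent.Lib_helper5_F4E

set_option autoImplicit false
set_option linter.unusedSectionVars false
set_option linter.unusedVariables false

/-! The Ree groups `²F₄(q)`, `q > 2`, are perfect, II (helper5). -/

namespace Cfsg.Agent.helper5.Chev

open Cfsg.Lie
open scoped commutatorElement

set_option maxRecDepth 1000000 in
theorem f4_orth_neg : orthChk chevF4 23 14 = true := by decide +kernel

section
variable {K : Type*} [Field K] [CharP K 2] (e : ℕ) (he : e ≠ 0)
  (hfrob : ∀ a b : K, (a + b) ^ e = a ^ e + b ^ e)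
  (hff : ∀ t : K, (t ^ e) ^ (2 * e) = t)

/-- the torus elements of the class `{p₁, p₄}` -/
noncomputable def f4h (τ : K) : GL chevF4.Idx K :=
  hGt chevF4 f4_mem 24 τ * hGt chevF4 f4_mem 33 (τ ^ e)

theorem f4h_mem (τ : K) : f4h e τ ∈ twistedF4 K e := by
  unfold f4h
  refine hpair_mem chevF4 f4_mem (twistedF4 K e) e ?_ 24 33 f4_orth (f4_pair_pos e)
    (f4_pair_neg e) τ
  rw [neg_one_eq_one_two, one_pow]

theorem f4h_conj (τ : K) (hτ : τ ≠ 0) (s : ℕ) (hs : s < 48) (a b : ℤ)
    (ha : cartanRS chevF4 24 s = a) (hb : cartanRS chevF4 33 s = b) (x : K) :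
    f4h e τ * xG chevF4 f4_mem s x * (f4h e τ)⁻¹ =
      xG chevF4 f4_mem s (τ ^ a * ((τ ^ e) ^ b * x)) := by
  unfold f4h
  have e0 : hGt chevF4 f4_mem 24 τ * hGt chevF4 f4_mem 33 (τ ^ e) * xG chevF4 f4_mem s x *
      (hGt chevF4 f4_mem 24 τ * hGt chevF4 f4_mem 33 (τ ^ e))⁻¹ =
      hGt chevF4 f4_mem 24 τ * (hGt chevF4 f4_mem 33 (τ ^ e) * xG chevF4 f4_mem s x *
        (hGt chevF4 f4_mem 33 (τ ^ e))⁻¹) * (hGt chevF4 f4_mem 24 τ)⁻¹ := by group
  rw [e0, hGt_conj_xG chevF4 f4_mem 33 s (by decide) hs _ (pow_ne_zero _ hτ),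
    hGt_conj_xG chevF4 f4_mem 24 s (by decide) hs _ hτ, ha, hb]

include hfrob in
theorem exists_sigma [Fintype K] (h4 : 4 < Fintype.card K) :
    ∃ σ : K, σ ≠ 0 ∧ σ ≠ 1 ∧ σ * σ ^ e ≠ 1 := by
  classical
  have h2 := two_eq_zero_two (K := K)
  by_contra hcon
  push Not at hcon
  have hroot : ∀ σ : K, σ ≠ 0 → σ ≠ 1 → σ ^ 2 + σ + 1 = 0 := by
    intro σ h0 h1
    have a1 := hcon σ h0 h1
    have h0' : σ + 1 ≠ 0 := by
      intro h
      apply h1
      linear_combination h - h2
    have h1' : σ + 1 ≠ 1 := by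
      intro h
      apply h0
      linear_combination h
    have a2 := hcon (σ + 1) h0' h1'
    rw [hfrob, one_pow] at a2
    have a3 : σ ^ e = 1 + σ := by linear_combination a2 - a1 - (σ + 1) * h2
    rw [a3] at a1
    linear_combination a1 + h2
  obtain ⟨ω, hω0, hω1⟩ : ∃ ω : K, ω ≠ 0 ∧ ω ≠ 1 := by
    by_contra hc
    push Not at hc
    have h5 : (Finset.univ : Finset K) ⊆ {0, 1} := by
      intro x _
      by_cases hx : x = 0
      · simp [hx]
      · simp [hc x hx]
    have h6 := Finset.card_le_card h5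
    have h7 : ({0, 1} : Finset K).card ≤ 2 := Finset.card_le_two
    rw [Finset.card_univ] at h6
    omega
  have hω := hroot ω hω0 hω1
  have h5 : (Finset.univ : Finset K) ⊆ {0, 1, ω, ω + 1} := by
    intro x _
    by_cases hx0 : x = 0
    · simp [hx0]
    by_cases hx1 : x = 1
    · simp [hx1]
    have hx := hroot x hx0 hx1
    have h6 : (x + ω) * (x + ω + 1) = 0 := by linear_combination hx - hω + (x * ω + ω + ω ^ 2) * h2
    rcases mul_eq_zero.mp h6 with h7 | h7
    · have : x = ω := by linear_combination h7 - ω * h2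
      simp [this]
    · have : x = ω + 1 := by linear_combination h7 - (ω + 1) * h2
      simp [this]
  have h6 := Finset.card_le_card h5
  have h7 : ({0, 1, ω, ω + 1} : Finset K).card ≤ 4 := Finset.card_le_four
  rw [Finset.card_univ] at h6
  omega

include he hfrob hff in
/-- **the Ree groups `²F₄(q)`, `q > 2`, are perfect** -/
theorem f4_perfect [Fintype K] (h4 : 4 < Fintype.card K) : commutator ↥(twistedF4 K e) = ⊤ := by
  have h2 := two_eq_zero_two (K := K)
  obtain ⟨σ, hσ0, hσ1, hσ2⟩ := exists_sigma (K := K) e hfrob h4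
  apply perfect_of_le
  have hσsq : σ ^ 2 ≠ 1 := by
    intro h
    apply hσ1
    have h3 : (σ - 1) * (σ - 1) = 0 := by linear_combination h + (1 - σ) * h2
    rcases mul_eq_zero.mp h3 with h5 | h5 <;> exact sub_eq_zero.mp h5
  have hq1 : (-1 : K) ^ e = -1 := by rw [neg_one_eq_one_two, one_pow]
  have hT : twistedF4 K e = Subgroup.closure {g : GL chevF4.Idx K | ∃ w ∈ f4Words K e,
      (g : Matrix chevF4.Idx chevF4.Idx K) = chevF4.wordMat K w} := rfl
  -- the classes of type `B₂`
  have hGmem : ∀ c ∈ f4B2classes, ∀ t u : K, f4G e c t u ∈ twistedF4 K e := by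
    intro c hc t u
    unfold f4B2classes at hc
    simp only [List.mem_cons, List.not_mem_nil, or_false] at hc
    rcases hc with rfl | rfl
    · have := f4w_mem e (b2ClassWord e 27 25 28 30 t u) (Or.inr ⟨t, u, Or.inl rfl⟩)
      unfold f4w b2ClassWord at this
      simp only [List.map_cons, List.map_nil, List.prod_cons, List.prod_nil, mul_one] at this
      unfold f4G
      simp only [mul_assoc]
      exact this
    · have := f4w_mem e (b2ClassWord e 20 22 19 17 t u) (Or.inr ⟨t, u, Or.inr rfl⟩)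
      unfold f4w b2ClassWord at this
      simp only [List.map_cons, List.map_nil, List.prod_cons, List.prod_nil, mul_one] at this
      unfold f4G
      simp only [mul_assoc]
      exact this
  have hσinv : σ⁻¹ ≠ 0 := inv_ne_zero hσ0
  have hB2pos : ∀ t u : K, f4G e (27, 25, 28, 30) t u ∈ ⁅twistedF4 K e, twistedF4 K e⁆ := by
    refine f4G_mem_comm e he hfrob hff _ (by decide) (twistedF4 K e) (hGmem _ (by decide))
      (f4h e σ⁻¹) (f4h_mem e σ⁻¹) σ hσ1 hσ2 ?_
    refine f4G_conj e hff _ _ σ ?_ ?_ ?_ ?_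
    · intro x
      rw [f4h_conj e σ⁻¹ hσinv 27 (by decide) 0 (-1) (by decide) (by decide)]
      congr 1
      rw [zpow_zero, one_mul, zpow_neg_one, inv_pow, inv_inv]
    · intro x
      rw [f4h_conj e σ⁻¹ hσinv 25 (by decide) (-1) 0 (by decide) (by decide)]
      congr 1
      rw [zpow_zero, one_mul, zpow_neg_one, inv_inv]
    · intro x
      rw [f4h_conj e σ⁻¹ hσinv 28 (by decide) (-1) (-1) (by decide) (by decide)]
      congr 1
      rw [zpow_neg_one, zpow_neg_one, inv_pow, inv_inv, inv_inv]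
      ring
    · intro x
      rw [f4h_conj e σ⁻¹ hσinv 30 (by decide) (-1) (-2) (by decide) (by decide)]
      congr 1
      rw [zpow_neg_one, inv_pow, inv_inv, zpow_neg, inv_zpow, inv_inv]
      norm_cast
      ring
  have hB2neg : ∀ t u : K, f4G e (20, 22, 19, 17) t u ∈ ⁅twistedF4 K e, twistedF4 K e⁆ := by
    refine f4G_mem_comm e he hfrob hff _ (by decide) (twistedF4 K e) (hGmem _ (by decide))
      (f4h e σ) (f4h_mem e σ) σ hσ1 hσ2 ?_
    refine f4G_conj e hff _ _ σ ?_ ?_ ?_ ?_
    · intro x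
      rw [f4h_conj e σ hσ0 20 (by decide) 0 1 (by decide) (by decide)]
      congr 1
      rw [zpow_zero, one_mul, zpow_one]
    · intro x
      rw [f4h_conj e σ hσ0 22 (by decide) 1 0 (by decide) (by decide)]
      congr 1
      rw [zpow_zero, one_mul, zpow_one]
    · intro x
      rw [f4h_conj e σ hσ0 19 (by decide) 1 1 (by decide) (by decide)]
      congr 1
      rw [zpow_one, zpow_one]
      ring
    · intro x
      rw [f4h_conj e σ hσ0 17 (by decide) 1 2 (by decide) (by decide)]
      congr 1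
      rw [zpow_one]
      norm_cast
      ring
  -- the classes of type `A₁ × A₁`
  have hpos : ∀ t : K, xG chevF4 f4_mem 24 t * xG chevF4 f4_mem 33 (t ^ e) ∈
      ⁅twistedF4 K e, twistedF4 K e⁆ :=
    pair_class_comm chevF4 f4_mem (twistedF4 K e) e hfrob hq1 σ hσ0 hσsq 24 33 (by decide)
      (by decide) f4_orth (by decide) (by decide) (by decide) (by decide) (f4_pair_pos e)
      (f4_pair_neg e)
  have n23 : chevF4.neg 23 = 24 := by decide
  have n14 : chevF4.neg 14 = 33 := by decide
  have n24 : chevF4.neg 24 = 23 := by decide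
  have n33 : chevF4.neg 33 = 14 := by decide
  have hneg : ∀ t : K, xG chevF4 f4_mem 23 t * xG chevF4 f4_mem 14 (t ^ e) ∈
      ⁅twistedF4 K e, twistedF4 K e⁆ := by
    refine pair_class_comm chevF4 f4_mem (twistedF4 K e) e hfrob hq1 σ hσ0 hσsq 23 14 (by decide)
      (by decide) f4_orth_neg (by decide) (by decide) (by decide) (by decide) ?_ ?_
    · have := f4_pair_neg (K := K) e
      rwa [n24, n33] at this
    · rw [n23, n14]
      exact f4_pair_pos e
  conv_lhs => rw [hT]
  rw [Subgroup.closure_le]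
  rintro g ⟨w, hw, hg⟩
  have hgw : g = f4w w := Units.ext (by rw [hg, f4w_val])
  rw [SetLike.mem_coe, hgw]
  rcases hw with ⟨t, rfl | rfl⟩ | ⟨t, u, rfl | rfl⟩
  · have e1 : f4w (f4PairWord e f4p1 f4p4 t) =
        xG chevF4 f4_mem 24 t * xG chevF4 f4_mem 33 (t ^ e) := by
      unfold f4w f4PairWord f4p1 f4p4
      simp only [List.map_cons, List.map_nil, List.prod_cons, List.prod_nil, mul_one]
      exact ((orth_commute (F := K) chevF4 f4_mem 24 33 f4_orth t (t ^ e)).1).eq.symm
    rw [e1]
    exact hpos t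
  · have e1 : f4w (f4PairWord e f4m1 f4m4 t) =
        xG chevF4 f4_mem 23 t * xG chevF4 f4_mem 14 (t ^ e) := by
      unfold f4w f4PairWord f4m1 f4m4
      simp only [List.map_cons, List.map_nil, List.prod_cons, List.prod_nil, mul_one]
      have hc := (orth_commute (F := K) chevF4 f4_mem 24 33 f4_orth t (t ^ e)).2.2.2
      rw [n24, n33] at hc
      exact hc.eq.symm
    rw [e1]
    exact hneg t
  · have e1 : f4w (b2ClassWord e f4a f4b f4ab f4aab t u) = f4G e (27, 25, 28, 30) t u := by
      unfold f4w b2ClassWord f4G f4a f4b f4ab f4aab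
      simp only [List.map_cons, List.map_nil, List.prod_cons, List.prod_nil, mul_one, mul_assoc]
    rw [e1]
    exact hB2pos t u
  · have e1 : f4w (b2ClassWord e f4ma f4mb f4mab f4maab t u) = f4G e (20, 22, 19, 17) t u := by
      unfold f4w b2ClassWord f4G f4ma f4mb f4mab f4maab
      simp only [List.map_cons, List.map_nil, List.prod_cons, List.prod_nil, mul_one, mul_assoc]
    rw [e1]
    exact hB2neg t u

end

end Cfsg.Agent.helper5.Chev
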