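import Mathlib
import Cfsg.Agent.Lib_helper5_F4F
import Cfsg.Agent.Lib_helper5_GraphBF

set_option autoImplicit false
set_option linter.unusedSectionVars false
set_option linter.unusedVariables false

/-! The Ree endomorphism `σ` of `F₄` in characteristic `2` (helper5). -/

namespace Cfsg.Agent.helper5.Chev

open Cfsg.Lie

/-- the root permutation `r ↦ r̄` of `F₄` -/
def f4bar (r : ℕ) : ℕ := ([3, 7, 8, 0, 9, 11, 18, 1, 2, 4, 15, 5, 16, 21, 23, 10, 12, 19, 6, 17, 22,
  13, 20, 14, 33, 27, 34, 25, 30, 41, 28, 35, 37, 24, 26, 31, 42, 32, 43, 45, 46, 29, 36, 38, 47,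
  39, 40, 44] : List ℕ).getD r 0

/-- the exponents `λ(r)` -/
def f4lam (r : ℕ) : ℕ := ([1, 1, 1, 2, 1, 1, 1, 2, 2, 2, 2, 2, 2, 2, 2, 1, 1, 1, 2, 2, 2, 1, 1, 1,
  1, 1, 1, 2, 2, 2, 1, 1, 1, 2, 2, 2, 2, 2, 2, 2, 2, 1, 1, 1, 2, 1, 1, 1] : List ℕ).getD r 1

set_option maxRecDepth 1000000 in
set_option maxHeartbeats 0 in
theorem f4_twAll : ∀ r : Fin 48, ∀ l k : Fin 26,
    pCong 2 (vget (col chevF4 r.val pX (code chevF4 (f4data.iT l))) (code chevF4 (f4data.iT k)))
      (vget (col chevF4 (f4bar r.val) (ppow pX (f4lam r.val)) (code chevF4 (f4data.iS l)))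
        (code chevF4 (f4data.iS k))) = true := by
  decide +kernel

set_option maxRecDepth 100000 in
theorem f4bar_lt : ∀ r : Fin 48, f4bar r.val < 48 ∧ f4lam r.val ≠ 0 ∧
    f4bar (f4bar r.val) = r.val ∧ f4lam r.val * f4lam (f4bar r.val) = 2 ∧
    f4bar (chevF4.neg r.val) = chevF4.neg (f4bar r.val) ∧ f4lam (chevF4.neg r.val) = f4lam r.val ∧
    (chevF4.IsPosRoot r.val → chevF4.IsPosRoot (f4bar r.val)) := by
  decide +kernel

section
variable {K : Type*} [Field K] [CharP K 2]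

theorem f4_x_twAll (r : ℕ) (hr : r < 48) (t : K) :
    gdRhoT f4_mem f4data 2 f4data_ok (gdX f4_mem r t) =
      gdRhoS f4_mem f4data 2 f4data_ok (gdX f4_mem (f4bar r) (t ^ f4lam r)) := by
  obtain ⟨h2, h3, -⟩ := f4bar_lt ⟨r, hr⟩
  apply Units.ext
  rw [gdRhoT_val, gdRhoS_val, gdX_val, gdX_val]
  by_cases ht : t = 0
  · rw [ht, zero_pow h3, x_zero_nat, x_zero_nat,
      Matrix.submatrix_one _ (iT_injective f4data.iS f4data.iT f4data_ok.hb),
      Matrix.submatrix_one _ (iS_injective f4data.iS f4data.iT f4data_ok.hb)]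
  · ext k l
    rw [Matrix.submatrix_apply, Matrix.submatrix_apply]
    have e1 := x_entry chevF4 r hr t ht pX (f4data.iT k) (f4data.iT l)
    have e2 := x_entry chevF4 (f4bar r) h2 t ht (ppow pX (f4lam r)) (f4data.iS k) (f4data.iS l)
    rw [pEval_pX] at e1
    rw [pEval_ppow t 1 ht one_ne_zero, pEval_pX] at e2
    rw [e1, e2]
    exact pEval_of_pCong 2 t 1 _ _ (f4_twAll ⟨r, hr⟩ l k)

variable (hperf : ∀ x : K, ∃ y : K, y ^ 2 = x)

include hperf in
theorem f4_hperf : ∀ i < chevF4.rank, ∀ x : K, ∃ y : K, y ^ f4data.ex i = x := by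
  intro i hi x
  have hr : chevF4.rank = 4 := by decide
  rw [hr] at hi
  interval_cases i
  · exact hperf x
  · exact hperf x
  · exact ⟨x, pow_one x⟩
  · exact ⟨x, pow_one x⟩

/-- the graph automorphism of `F₄` over a perfect field of characteristic two -/
noncomputable def f4alpha : ↥(chevF4.group K) ≃* ↥(chevF4.group K) :=
  gdAlpha f4_mem f4data 2 f4data_ok (f4_hperf hperf) f4rhoS_inj f4rhoT_inj

theorem f4alpha_x (r : ℕ) (hr : r < 48) (t : K) :
    f4alpha hperf (gdX f4_mem r t) = gdX f4_mem (f4bar r) (t ^ f4lam r) := by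
  apply f4rhoS_inj
  unfold f4alpha
  rw [gdAlpha_spec, f4_x_twAll r hr]

variable (f : K →+* K)

/-- the Ree endomorphism: field endomorphism followed by the graph automorphism -/
noncomputable def f4sigma : ↥(chevF4.group K) →* ↥(chevF4.group K) :=
  (f4alpha hperf).toMonoidHom.comp (fieldEnd chevF4 f4_mem f)

theorem fieldEnd_gdX (r : ℕ) (t : K) :
    fieldEnd chevF4 f4_mem f (gdX f4_mem r t) = gdX f4_mem r (f t) := by
  apply Subtype.ext
  rw [fieldEnd_coe]
  exact glmap_xG chevF4 f4_mem f r t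

theorem f4sigma_x (r : ℕ) (hr : r < 48) (t : K) :
    f4sigma hperf f (gdX f4_mem r t) = gdX f4_mem (f4bar r) (f t ^ f4lam r) := by
  unfold f4sigma
  rw [MonoidHom.comp_apply, fieldEnd_gdX]
  exact f4alpha_x hperf r hr (f t)

end

end Cfsg.Agent.helper5.Chev
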