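import Mathlib
import Cfsg.Agent.Lib_helper5_F4G

set_option autoImplicit false
set_option linter.unusedSectionVars false
set_option linter.unusedVariables false

/-! The Ree endomorphism of `F₄` as a map of the general linear group (helper5). -/

namespace Cfsg.Agent.helper5.Chev

open Cfsg.Lie

/-- the permutation of the fundamental roots of `F₄` -/
def f4rho (i : ℕ) : ℕ := ([3, 2, 1, 0] : List ℕ).getD i 0

theorem f4rho_lt (i : ℕ) : f4rho i < 4 := by
  unfold f4rho
  by_cases h : i < 4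
  · interval_cases i <;> decide
  · rw [List.getD_eq_default _ _ (by simpa using h)]
    decide

theorem f4rho_simple : ∀ i : Fin 4, f4bar (chevF4.simple i.val) = chevF4.simple (f4rho i.val) ∧
    f4rho (f4rho i.val) = i.val := by decide

section
variable {K : Type*} [Field K] [CharP K 2] (f : K →+* K) (hff : ∀ t : K, f (f t) ^ 2 = t)

theorem neg_eq_self_two (x : K) : -x = x := by
  have h2 := two_eq_zero_two (K := K)
  linear_combination (-x) * h2

/-- the Ree endomorphism of the Chevalley group of type `F₄` -/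
noncomputable def f4sig0 : ↥(chevF4.group K) →* ↥(chevF4.group K) :=
  f4sigma (fun x => ⟨f (f x), hff x⟩) f

open Classical in
/-- the Ree endomorphism, extended by `1` outside the Chevalley group -/
noncomputable def f4sig (g : GL chevF4.Idx K) : GL chevF4.Idx K :=
  if h : g ∈ chevF4.group K then ((f4sig0 f hff ⟨g, h⟩ : ↥(chevF4.group K)) : GL chevF4.Idx K)
  else 1

theorem f4sig_of_mem (g : GL chevF4.Idx K) (h : g ∈ chevF4.group K) :
    f4sig f hff g = ((f4sig0 f hff ⟨g, h⟩ : ↥(chevF4.group K)) : GL chevF4.Idx K) := by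
  unfold f4sig
  rw [dif_pos h]

theorem f4sig_coe (g : ↥(chevF4.group K)) :
    f4sig f hff (g : GL chevF4.Idx K) = ((f4sig0 f hff g : ↥(chevF4.group K)) : GL chevF4.Idx K) :=
  f4sig_of_mem f hff g.1 g.2

theorem f4sig_mem (g : GL chevF4.Idx K) : f4sig f hff g ∈ chevF4.group K := by
  unfold f4sig
  split_ifs with h
  · exact (f4sig0 f hff ⟨g, h⟩).2
  · exact Subgroup.one_mem _

theorem f4sig_mul (g h : GL chevF4.Idx K) (hg : g ∈ chevF4.group K) (hh : h ∈ chevF4.group K) :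
    f4sig f hff (g * h) = f4sig f hff g * f4sig f hff h := by
  rw [f4sig_of_mem f hff _ (Subgroup.mul_mem _ hg hh), f4sig_of_mem f hff g hg,
    f4sig_of_mem f hff h hh, ← Subgroup.coe_mul, ← map_mul]
  rfl

theorem f4sig_one : f4sig f hff (1 : GL chevF4.Idx K) = 1 := by
  rw [f4sig_of_mem f hff _ (Subgroup.one_mem _)]
  have : (⟨1, Subgroup.one_mem _⟩ : ↥(chevF4.group K)) = 1 := rfl
  rw [this, map_one]
  rfl

theorem f4sig_inv (g : GL chevF4.Idx K) (hg : g ∈ chevF4.group K) :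
    f4sig f hff g⁻¹ = (f4sig f hff g)⁻¹ := by
  rw [eq_inv_iff_mul_eq_one, ← f4sig_mul f hff _ _ (Subgroup.inv_mem _ hg) hg, inv_mul_cancel,
    f4sig_one]

theorem f4sig_xG (r : ℕ) (hr : r < 48) (t : K) :
    f4sig f hff (xG chevF4 f4_mem r t) = xG chevF4 f4_mem (f4bar r) (f t ^ f4lam r) := by
  have h1 : xG chevF4 f4_mem r t = ((gdX f4_mem r t : ↥(chevF4.group K)) : GL chevF4.Idx K) := rfl
  rw [h1, f4sig_coe]
  unfold f4sig0
  rw [f4sigma_x _ f r hr]
  rfl

/-- images of subgroups generated inside the Chevalley group -/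
theorem f4sig_closure (S : Set (GL chevF4.Idx K)) (T : Subgroup (GL chevF4.Idx K))
    (hS : ∀ g ∈ S, g ∈ chevF4.group K) (h : ∀ g ∈ S, f4sig f hff g ∈ T) :
    ∀ g ∈ Subgroup.closure S, f4sig f hff g ∈ T := by
  have h1 : Subgroup.closure S ≤
      ((T.subgroupOf (chevF4.group K)).comap (f4sig0 f hff)).map (chevF4.group K).subtype := by
    rw [Subgroup.closure_le]
    intro g hg
    rw [SetLike.mem_coe, Subgroup.mem_map]
    refine ⟨⟨g, hS g hg⟩, ?_, rfl⟩
    rw [Subgroup.mem_comap, Subgroup.mem_subgroupOf, ← f4sig_of_mem f hff g (hS g hg)]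
    exact h g hg
  intro g hg
  obtain ⟨x, hx, rfl⟩ := Subgroup.mem_map.mp (h1 hg)
  rw [Subgroup.mem_comap, Subgroup.mem_subgroupOf] at hx
  have : f4sig f hff ((chevF4.group K).subtype x) = ((f4sig0 f hff x : ↥(chevF4.group K)) :
      GL chevF4.Idx K) := f4sig_coe f hff x
  rw [this]
  exact hx

theorem xG_mem_G (r : ℕ) (t : K) : xG chevF4 f4_mem r t ∈ chevF4.group K :=
  (gdX f4_mem r t).2

theorem nGt_mem_G (r : ℕ) (t : K) : nGt chevF4 f4_mem r t ∈ chevF4.group K := by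
  unfold nGt
  exact Subgroup.mul_mem _ (Subgroup.mul_mem _ (xG_mem_G r t) (xG_mem_G _ _)) (xG_mem_G r t)

theorem hGt_mem_G (r : ℕ) (t : K) : hGt chevF4 f4_mem r t ∈ chevF4.group K := by
  unfold hGt
  exact Subgroup.mul_mem _ (nGt_mem_G r t) (nGt_mem_G r _)

theorem nW_mem_G (w : List ℕ) : nW (F := K) chevF4 f4_mem w ∈ chevF4.group K := by
  unfold nW
  apply Subgroup.list_prod_mem
  intro x hx
  obtain ⟨i, -, rfl⟩ := List.mem_map.mp hx
  exact nGt_mem_G _ _

theorem f4sig_nGt (r : ℕ) (hr : r < 48) (t : K) :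
    f4sig f hff (nGt chevF4 f4_mem r t) = nGt chevF4 f4_mem (f4bar r) (f t ^ f4lam r) := by
  obtain ⟨h1, h2, h3, h4, h5, h6, -⟩ := f4bar_lt ⟨r, hr⟩
  have hR := rootsOK_of_mem chevF4 f4_mem
  have hn : chevF4.neg r < 48 := hR.neg_lt r hr
  unfold nGt
  rw [f4sig_mul f hff _ _ (Subgroup.mul_mem _ (xG_mem_G r t) (xG_mem_G _ _)) (xG_mem_G r t),
    f4sig_mul f hff _ _ (xG_mem_G r t) (xG_mem_G _ _), f4sig_xG f hff r hr,
    f4sig_xG f hff _ hn, h5, h6]
  congr 3
  rw [neg_eq_self_two, neg_eq_self_two, map_inv₀, inv_pow]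

theorem f4sig_hGt (r : ℕ) (hr : r < 48) (t : K) :
    f4sig f hff (hGt chevF4 f4_mem r t) = hGt chevF4 f4_mem (f4bar r) (f t ^ f4lam r) := by
  unfold hGt
  rw [f4sig_mul f hff _ _ (nGt_mem_G r t) (nGt_mem_G r _), f4sig_nGt f hff r hr,
    f4sig_nGt f hff r hr]
  congr 2
  rw [neg_eq_self_two, map_one, one_pow]

theorem f4sig_nW (w : List ℕ) (hw : ∀ i ∈ w, i < chevF4.rank) :
    f4sig f hff (nW chevF4 f4_mem w) = nW chevF4 f4_mem (w.map f4rho) := by
  have hR := rootsOK_of_mem chevF4 f4_mem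
  induction w with
  | nil => rw [nW_nil', List.map_nil, nW_nil', f4sig_one]
  | cons i w ih =>
    have hi : i < 4 := hw i List.mem_cons_self
    rw [nW_cons, f4sig_mul f hff _ _ (nGt_mem_G _ _) (nW_mem_G w),
      f4sig_nGt f hff _ (hR.simple_lt i hi), map_one, one_pow, List.map_cons, nW_cons,
      ih (fun j hj => hw j (List.mem_cons_of_mem _ hj)), (f4rho_simple ⟨i, hi⟩).1]

end

end Cfsg.Agent.helper5.Chev
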