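import Mathlib
import Cfsg.Agent.Lib_helper5_F4H
import Cfsg.Agent.Lib_helper5_TwSigma

set_option autoImplicit false
set_option linter.unusedSectionVars false
set_option linter.unusedVariables false

/-! The Ree endomorphism of `F₄`: the twisted group is fixed, and the subgroups `U`, `V`, `H`, `N`,
`B`, `U_w⁻` are preserved (helper5). -/

namespace Cfsg.Agent.helper5.Chev

open Cfsg.Lie

set_option maxRecDepth 100000 in
theorem f4bar_sign : ∀ r : Fin 48, (chevF4.IsPosRoot r.val → chevF4.IsPosRoot (f4bar r.val)) ∧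
    (chevF4.IsNegRoot r.val → chevF4.IsNegRoot (f4bar r.val)) := by decide +kernel

set_option maxRecDepth 100000 in
theorem f4bar_refl : ∀ i : Fin 4, ∀ r : Fin 48,
    f4bar (chevF4.reflectRoot i.val r.val) = chevF4.reflectRoot (f4rho i.val) (f4bar r.val) := by
  decide +kernel

/-- the four parameter normal form in a class of type `B₂` -/
noncomputable def f4P {K : Type*} [Field K] (c : ℕ × ℕ × ℕ × ℕ) (A B C D : K) :
    GL chevF4.Idx K :=
  xG chevF4 f4_mem c.1 A * xG chevF4 f4_mem c.2.1 B * xG chevF4 f4_mem c.2.2.1 C *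
    xG chevF4 f4_mem c.2.2.2 D

theorem f4B2_bar : ∀ c ∈ f4B2classes, c.1 < 48 ∧ c.2.1 < 48 ∧ c.2.2.1 < 48 ∧ c.2.2.2 < 48 ∧
    f4bar c.1 = c.2.1 ∧ f4bar c.2.1 = c.1 ∧ f4bar c.2.2.1 = c.2.2.2 ∧ f4bar c.2.2.2 = c.2.2.1 ∧
    f4lam c.1 = 2 ∧ f4lam c.2.1 = 1 ∧ f4lam c.2.2.1 = 2 ∧ f4lam c.2.2.2 = 1 ∧
    (c.1, c.2.2.1) ∈ f4commPairs ∧ (c.1, c.2.2.2) ∈ f4commPairs ∧
    (c.2.1, c.2.2.1) ∈ f4commPairs ∧ (c.2.1, c.2.2.2) ∈ f4commPairs ∧
    (c.2.2.1, c.2.2.2) ∈ f4commPairs := by decide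

section
variable {K : Type*} [Field K] [CharP K 2] (f : K →+* K) (hff : ∀ t : K, f (f t) ^ 2 = t)

theorem f4P_mem_G (c : ℕ × ℕ × ℕ × ℕ) (A B C D : K) : f4P c A B C D ∈ chevF4.group K := by
  unfold f4P
  exact Subgroup.mul_mem _ (Subgroup.mul_mem _ (Subgroup.mul_mem _ (xG_mem_G _ _) (xG_mem_G _ _))
    (xG_mem_G _ _)) (xG_mem_G _ _)

/-- the Ree endomorphism on a class of type `B₂` -/
theorem f4sig_f4P (c : ℕ × ℕ × ℕ × ℕ) (hc : c ∈ f4B2classes) (A B C D : K) :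
    f4sig f hff (f4P c A B C D) =
      f4P c (f B) (f A ^ 2) (f D + f B * f A ^ 2) (f C ^ 2 + f B ^ 2 * f A ^ 2) := by
  obtain ⟨l1, l2, l3, l4, b1, b2, b3, b4, m1, m2, m3, m4, p1, p2, p3, p4, p5⟩ := f4B2_bar c hc
  unfold f4P
  rw [f4sig_mul f hff _ _ (Subgroup.mul_mem _ (Subgroup.mul_mem _ (xG_mem_G _ _) (xG_mem_G _ _))
      (xG_mem_G _ _)) (xG_mem_G _ _),
    f4sig_mul f hff _ _ (Subgroup.mul_mem _ (xG_mem_G _ _) (xG_mem_G _ _)) (xG_mem_G _ _),
    f4sig_mul f hff _ _ (xG_mem_G _ _) (xG_mem_G _ _),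
    f4sig_xG f hff _ l1, f4sig_xG f hff _ l2, f4sig_xG f hff _ l3, f4sig_xG f hff _ l4,
    b1, b2, b3, b4, m1, m2, m3, m4, pow_one, pow_one, f4_relB2 c hc (f B) (f A ^ 2)]
  have h5 := (f4_comm (K := K) _ _ p5 (f D) (f B ^ 2 * f A ^ 2)).eq
  have h5' := (f4_comm (K := K) _ _ p5 (f D) (f C ^ 2)).eq
  calc xG chevF4 f4_mem c.1 (f B) * xG chevF4 f4_mem c.2.1 (f A ^ 2) *
        xG chevF4 f4_mem c.2.2.1 (f B * f A ^ 2) * xG chevF4 f4_mem c.2.2.2 (f B ^ 2 * f A ^ 2) *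
        xG chevF4 f4_mem c.2.2.2 (f C ^ 2) * xG chevF4 f4_mem c.2.2.1 (f D)
      = xG chevF4 f4_mem c.1 (f B) * xG chevF4 f4_mem c.2.1 (f A ^ 2) *
        xG chevF4 f4_mem c.2.2.1 (f B * f A ^ 2) * ((xG chevF4 f4_mem c.2.2.2 (f B ^ 2 * f A ^ 2) *
        xG chevF4 f4_mem c.2.2.2 (f C ^ 2)) * xG chevF4 f4_mem c.2.2.1 (f D)) := by group
    _ = xG chevF4 f4_mem c.1 (f B) * xG chevF4 f4_mem c.2.1 (f A ^ 2) *
        xG chevF4 f4_mem c.2.2.1 (f B * f A ^ 2) * (xG chevF4 f4_mem c.2.2.1 (f D) *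
        xG chevF4 f4_mem c.2.2.2 (f B ^ 2 * f A ^ 2 + f C ^ 2)) := by
        rw [xG_mul, (f4_comm (K := K) _ _ p5 (f D) (f B ^ 2 * f A ^ 2 + f C ^ 2)).eq]
    _ = xG chevF4 f4_mem c.1 (f B) * xG chevF4 f4_mem c.2.1 (f A ^ 2) *
        (xG chevF4 f4_mem c.2.2.1 (f B * f A ^ 2) * xG chevF4 f4_mem c.2.2.1 (f D)) *
        xG chevF4 f4_mem c.2.2.2 (f B ^ 2 * f A ^ 2 + f C ^ 2) := by group
    _ = _ := by
        rw [xG_mul, add_comm (f B * f A ^ 2), add_comm (f B ^ 2 * f A ^ 2)]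

/-- the fixed points of the Ree endomorphism in the Chevalley group -/
def f4Fix : Subgroup (GL chevF4.Idx K) where
  carrier := {g | g ∈ chevF4.group K ∧ f4sig f hff g = g}
  one_mem' := ⟨Subgroup.one_mem _, f4sig_one f hff⟩
  mul_mem' := by
    rintro a b ⟨ha, ha'⟩ ⟨hb, hb'⟩
    exact ⟨Subgroup.mul_mem _ ha hb, by rw [f4sig_mul f hff a b ha hb, ha', hb']⟩
  inv_mem' := by
    rintro a ⟨ha, ha'⟩
    exact ⟨Subgroup.inv_mem _ ha, by rw [f4sig_inv f hff a ha, ha']⟩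

theorem mem_f4Fix (g : GL chevF4.Idx K) :
    g ∈ f4Fix f hff ↔ g ∈ chevF4.group K ∧ f4sig f hff g = g := Iff.rfl

variable (e : ℕ) (hfe : ∀ t : K, f t = t ^ e)

include hfe in
theorem f4G_eq_f4P (c : ℕ × ℕ × ℕ × ℕ) (t u : K) :
    f4G e c t u = f4P c (f t) t (f t * t + u) (f u ^ 2) := by
  unfold f4G f4P
  rw [hfe t, hfe u, pow_succ, mul_comm 2 e, pow_mul]

include hfe in
/-- the generators of a class of type `B₂` are fixed -/
theorem f4sig_f4G (c : ℕ × ℕ × ℕ × ℕ) (hc : c ∈ f4B2classes) (t u : K) :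
    f4sig f hff (f4G e c t u) = f4G e c t u := by
  have h2 := two_eq_zero_two (K := K)
  rw [f4G_eq_f4P f e hfe, f4sig_f4P f hff c hc]
  have e1 : f (f t) ^ 2 = t := hff t
  have e2 : f (f u ^ 2) + f t * t = f t * t + u := by
    rw [map_pow, hff u]
    ring
  have e3 : f (f t * t + u) ^ 2 + f t ^ 2 * t = f u ^ 2 := by
    rw [map_add, map_mul]
    linear_combination (f t ^ 2) * hff t + (f t ^ 2 * t + f (f t) * f t * f u) * h2
  rw [e1, e2, e3]

include hfe in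
/-- **the twisted group consists of fixed points** -/
theorem f4_hfix : twistedF4 K e ≤ f4Fix f hff := by
  have hT : twistedF4 K e = Subgroup.closure {g : GL chevF4.Idx K | ∃ w ∈ f4Words K e,
      (g : Matrix chevF4.Idx chevF4.Idx K) = chevF4.wordMat K w} := rfl
  rw [hT, Subgroup.closure_le]
  rintro g ⟨w, hw, hg⟩
  have hgw : g = f4w w := Units.ext (by rw [hg, f4w_val])
  rw [SetLike.mem_coe, hgw, mem_f4Fix]
  have hsq : ∀ x : K, f (f x ^ 1) ^ 2 = x := by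
    intro x
    rw [pow_one]
    exact hff x
  rcases hw with ⟨t, rfl | rfl⟩ | ⟨t, u, rfl | rfl⟩
  · have e1 : f4w (f4PairWord e f4p1 f4p4 t) =
        xG chevF4 f4_mem 33 (f t) * xG chevF4 f4_mem 24 t := by
      unfold f4w f4PairWord f4p1 f4p4
      simp only [List.map_cons, List.map_nil, List.prod_cons, List.prod_nil, mul_one]
      rw [hfe t]
    rw [e1]
    refine ⟨Subgroup.mul_mem _ (xG_mem_G _ _) (xG_mem_G _ _), ?_⟩
    rw [f4sig_mul f hff _ _ (xG_mem_G _ _) (xG_mem_G _ _), f4sig_xG f hff 33 (by decide),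
      f4sig_xG f hff 24 (by decide)]
    have b1 : f4bar 33 = 24 := by decide
    have b2 : f4bar 24 = 33 := by decide
    have l1 : f4lam 33 = 2 := by decide
    have l2 : f4lam 24 = 1 := by decide
    rw [b1, b2, l1, l2, hff t, pow_one]
    exact ((orth_commute (F := K) chevF4 f4_mem 24 33 f4_orth t (f t)).1).eq
  · have e1 : f4w (f4PairWord e f4m1 f4m4 t) =
        xG chevF4 f4_mem 14 (f t) * xG chevF4 f4_mem 23 t := by
      unfold f4w f4PairWord f4m1 f4m4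
      simp only [List.map_cons, List.map_nil, List.prod_cons, List.prod_nil, mul_one]
      rw [hfe t]
    rw [e1]
    refine ⟨Subgroup.mul_mem _ (xG_mem_G _ _) (xG_mem_G _ _), ?_⟩
    rw [f4sig_mul f hff _ _ (xG_mem_G _ _) (xG_mem_G _ _), f4sig_xG f hff 14 (by decide),
      f4sig_xG f hff 23 (by decide)]
    have b1 : f4bar 14 = 23 := by decide
    have b2 : f4bar 23 = 14 := by decide
    have l1 : f4lam 14 = 2 := by decide
    have l2 : f4lam 23 = 1 := by decide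
    rw [b1, b2, l1, l2, hff t, pow_one]
    exact ((orth_commute (F := K) chevF4 f4_mem 23 14 f4_orth_neg t (f t)).1).eq
  · have e1 : f4w (b2ClassWord e f4a f4b f4ab f4aab t u) = f4G e (27, 25, 28, 30) t u := by
      unfold f4w b2ClassWord f4G f4a f4b f4ab f4aab
      simp only [List.map_cons, List.map_nil, List.prod_cons, List.prod_nil, mul_one, mul_assoc]
    rw [e1]
    refine ⟨?_, f4sig_f4G f hff e hfe _ (by decide) t u⟩
    rw [f4G_eq_f4P f e hfe]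
    exact f4P_mem_G _ _ _ _ _
  · have e1 : f4w (b2ClassWord e f4ma f4mb f4mab f4maab t u) = f4G e (20, 22, 19, 17) t u := by
      unfold f4w b2ClassWord f4G f4ma f4mb f4mab f4maab
      simp only [List.map_cons, List.map_nil, List.prod_cons, List.prod_nil, mul_one, mul_assoc]
    rw [e1]
    refine ⟨?_, f4sig_f4G f hff e hfe _ (by decide) t u⟩
    rw [f4G_eq_f4P f e hfe]
    exact f4P_mem_G _ _ _ _ _

end

section
variable {K : Type*} [Field K] [CharP K 2] (f : K →+* K) (hff : ∀ t : K, f (f t) ^ 2 = t)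

theorem f4_ex_ne (r : ℕ) (t : K) (ht : t ≠ 0) : f t ^ f4lam r ≠ 0 :=
  pow_ne_zero _ ((map_ne_zero f).mpr ht)

theorem f4sig_U : ∀ u ∈ chevF4.posUnipotent K, f4sig f hff u ∈ chevF4.posUnipotent K := by
  unfold ChevalleyDatum.posUnipotent
  apply f4sig_closure
  · rintro g ⟨r, t, hr, hg⟩
    rw [eq_xG chevF4 f4_mem g r t hg]
    exact xG_mem_G r t
  · rintro g ⟨r, t, hr, hg⟩
    rw [eq_xG chevF4 f4_mem g r t hg, f4sig_xG f hff r hr.1]
    exact Subgroup.subset_closure ⟨_, _, (f4bar_sign ⟨r, hr.1⟩).1 hr, xG_val chevF4 f4_mem _ _⟩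

theorem f4sig_V : ∀ u ∈ chevF4.negUnipotent K, f4sig f hff u ∈ chevF4.negUnipotent K := by
  unfold ChevalleyDatum.negUnipotent
  apply f4sig_closure
  · rintro g ⟨r, t, hr, hg⟩
    rw [eq_xG chevF4 f4_mem g r t hg]
    exact xG_mem_G r t
  · rintro g ⟨r, t, hr, hg⟩
    rw [eq_xG chevF4 f4_mem g r t hg, f4sig_xG f hff r hr.1]
    exact Subgroup.subset_closure ⟨_, _, (f4bar_sign ⟨r, hr.1⟩).2 hr, xG_val chevF4 f4_mem _ _⟩

theorem f4sig_H : ∀ h ∈ chevF4.diagonalSubgroup K, f4sig f hff h ∈ chevF4.diagonalSubgroup K := by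
  unfold ChevalleyDatum.diagonalSubgroup
  apply f4sig_closure
  · rintro g ⟨r, t, hr, ht, hg⟩
    have e : g = hGt chevF4 f4_mem r t := Units.ext (by rw [hg, hGt_val])
    rw [e]
    exact hGt_mem_G r t
  · rintro g ⟨r, t, hr, ht, hg⟩
    have e : g = hGt chevF4 f4_mem r t := Units.ext (by rw [hg, hGt_val])
    rw [e, f4sig_hGt f hff r hr]
    exact Subgroup.subset_closure ⟨_, _, (f4bar_lt ⟨r, hr⟩).1, f4_ex_ne f r t ht,
      hGt_val chevF4 f4_mem _ _⟩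

theorem U_le_G4 : chevF4.posUnipotent K ≤ chevF4.group K :=
  (U_le_B chevF4 f4_mem).trans (Cfsg.Agent.S1043.result (F := K) chevF4 f4_mem).1

theorem H_le_G4 : chevF4.diagonalSubgroup K ≤ chevF4.group K :=
  (H_le_B chevF4 f4_mem).trans (Cfsg.Agent.S1043.result (F := K) chevF4 f4_mem).1

theorem B_le_G4 : chevF4.borelSubgroup K ≤ chevF4.group K :=
  (Cfsg.Agent.S1043.result (F := K) chevF4 f4_mem).1

theorem N_le_G4 : chevF4.monomialSubgroup K ≤ chevF4.group K :=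
  (Cfsg.Agent.S1043.result (F := K) chevF4 f4_mem).2.1

theorem f4rho_map_lt (w : List ℕ) : ∀ j ∈ w.map f4rho, j < chevF4.rank := by
  intro j hj
  obtain ⟨i, -, rfl⟩ := List.mem_map.mp hj
  exact f4rho_lt i

theorem f4sig_N : ∀ n ∈ chevF4.monomialSubgroup K, f4sig f hff n ∈ chevF4.monomialSubgroup K := by
  intro n hn
  obtain ⟨h, hh, w, hw, rfl⟩ := mem_N_decomp chevF4 f4_mem n hn
  rw [f4sig_mul f hff _ _ (H_le_G4 hh) (nW_mem_G w), f4sig_nW f hff w hw]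
  exact Subgroup.mul_mem _ (H_le_N chevF4 (f4sig_H f hff h hh))
    (nW_mem chevF4 f4_mem _ (f4rho_map_lt w))

theorem f4sig_B : ∀ b ∈ chevF4.borelSubgroup K, f4sig f hff b ∈ chevF4.borelSubgroup K := by
  intro b hb
  obtain ⟨u, hu, h, hh, rfl⟩ := mem_borel chevF4 f4_mem b hb
  rw [f4sig_mul f hff _ _ (U_le_G4 hu) (H_le_G4 hh)]
  exact Subgroup.mul_mem _ (U_le_B chevF4 f4_mem (f4sig_U f hff u hu))
    (H_le_B chevF4 f4_mem (f4sig_H f hff h hh))

theorem f4_applyW_map_rho (w : List ℕ) (hw : ∀ i ∈ w, i < chevF4.rank) (r : ℕ) (hr : r < 48) :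
    applyW chevF4 (w.map f4rho) (f4bar r) = f4bar (applyW chevF4 w r) := by
  induction w with
  | nil => rfl
  | cons i w ih =>
    have hi : i < 4 := hw i List.mem_cons_self
    have hw' : ∀ j ∈ w, j < chevF4.rank := fun j hj => hw j (List.mem_cons_of_mem _ hj)
    have e1 : applyW chevF4 (i :: w) r = chevF4.reflectRoot i (applyW chevF4 w r) := rfl
    have e2 : applyW chevF4 ((i :: w).map f4rho) (f4bar r) =
        chevF4.reflectRoot (f4rho i) (applyW chevF4 (w.map f4rho) (f4bar r)) := rfl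
    have hlt : applyW chevF4 w r < 48 := applyW_lt chevF4 f4_mem w hw' r hr
    rw [e1, e2, ih hw', f4bar_refl ⟨i, hi⟩ ⟨_, hlt⟩]

theorem f4sig_Uneg (w : List ℕ) (hw : ∀ i ∈ w, i < chevF4.rank) :
    ∀ u ∈ Uneg (F := K) chevF4 f4_mem w,
      f4sig f hff u ∈ Uneg (F := K) chevF4 f4_mem (w.map f4rho) := by
  unfold Uneg
  apply f4sig_closure
  · rintro g ⟨r, t, hr, hn, rfl⟩
    exact xG_mem_G r t
  · rintro g ⟨r, t, hr, hn, rfl⟩
    rw [f4sig_xG f hff r hr.1]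
    refine Subgroup.subset_closure ⟨_, _, (f4bar_sign ⟨r, hr.1⟩).1 hr, ?_, rfl⟩
    rw [f4_applyW_map_rho w hw r hr.1]
    exact (f4bar_sign ⟨_, applyW_lt chevF4 f4_mem w hw r hr.1⟩).2 hn

end

end Cfsg.Agent.helper5.Chev
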