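import Mathlib
import Cfsg.Agent.Lib_helper5_F4I
import Cfsg.Agent.Lib_helper5_TwKL

set_option autoImplicit false
set_option linter.unusedSectionVars false
set_option linter.unusedVariables false

/-! Iterated one step forms of cell representatives, and the step of the determination of the
fixed points of the Ree endomorphism of `F₄` in `U` (helper5). -/

namespace Cfsg.Agent.helper5.Chev

open Cfsg.Lie

section
variable {F : Type*} [Field F] (D : ChevalleyDatum)
  (hD : D ∈ [chevG2, chevB2, chevD4, chevF4, chevE6, chevE7, chevE8])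

/-- prepend a value to a sequence -/
def consFn (s : F) (t : ℕ → F) : ℕ → F := fun k => match k with
  | 0 => s
  | n + 1 => t n

/-- iterated one step forms along a word, the parameters indexed by the position -/
def srForm : List ℕ → GL D.Idx F → (ℕ → F) → GL D.Idx F
  | [], a, _ => a
  | i :: c, a, t => srStep D hD i (srForm c a (fun k => t (k + 1))) (t 0)

theorem srForm_mem (c v : List ℕ) (a : GL D.Idx F) (ha : a ∈ SR (F := F) D hD v) (t : ℕ → F) :
    srForm D hD c a t ∈ SR (F := F) D hD (c ++ v) := by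
  induction c generalizing t with
  | nil => exact ha
  | cons i c ih => exact srStep_mem D hD i (c ++ v) _ (ih _) _

theorem exists_srForm (c v : List ℕ) (u : GL D.Idx F) (hu : u ∈ SR (F := F) D hD (c ++ v)) :
    ∃ a ∈ SR (F := F) D hD v, ∃ t : ℕ → F, u = srForm D hD c a t := by
  induction c generalizing u with
  | nil => exact ⟨u, hu, fun _ => 0, rfl⟩
  | cons i c ih =>
    obtain ⟨b, hb, s, rfl⟩ := exists_srStep D hD i (c ++ v) u hu
    obtain ⟨a, ha, t, rfl⟩ := ih b hb
    exact ⟨a, ha, consFn s t, rfl⟩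

theorem srForm_inj (c v : List ℕ) (hred : redRB D (c ++ v) = true)
    (a a' : GL D.Idx F) (ha : a ∈ SR (F := F) D hD v) (ha' : a' ∈ SR (F := F) D hD v)
    (t t' : ℕ → F) (e : srForm D hD c a t = srForm D hD c a' t') :
    a = a' ∧ ∀ k < c.length, t k = t' k := by
  induction c generalizing t t' with
  | nil => exact ⟨e, fun k hk => absurd hk (by simp)⟩
  | cons i c ih =>
    have hred' : redRB D (c ++ v) = true := by
      have h' : redRB D (i :: (c ++ v)) = true := hred
      simp only [redRB, Bool.and_eq_true, decide_eq_true_eq] at h'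
      exact h'.1.1
    obtain ⟨h1, h2⟩ := srStep_inj D hD i (c ++ v) hred _ _
      (srForm_mem D hD c v a ha _) (srForm_mem D hD c v a' ha' _) _ _ e
    obtain ⟨h3, h4⟩ := ih hred' _ _ h1
    refine ⟨h3, ?_⟩
    intro k hk
    rcases k with _ | k
    · exact h2
    · exact h4 k (by simpa using hk)

theorem srForm_congr (c : List ℕ) (a : GL D.Idx F) (t t' : ℕ → F)
    (h : ∀ k < c.length, t k = t' k) : srForm D hD c a t = srForm D hD c a t' := by
  induction c generalizing t t' with
  | nil => rfl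
  | cons i c ih =>
    show srStep D hD i (srForm D hD c a (fun k => t (k + 1))) (t 0) =
      srStep D hD i (srForm D hD c a (fun k => t' (k + 1))) (t' 0)
    rw [h 0 (by simp), ih _ _ (fun k hk => h (k + 1) (by simpa using hk))]

include hD in
theorem SR_le_U (v : List ℕ) (hred : redRB D v = true) (a : GL D.Idx F)
    (ha : a ∈ SR (F := F) D hD v) : a ∈ D.posUnipotent F :=
  Uneg_le_U D hD _ (SR_sub_Uneg D hD v hred ha)

end

section
variable {K : Type*} [Field K] [CharP K 2] (f : K →+* K) (hff : ∀ t : K, f (f t) ^ 2 = t)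

/-- the data of a chunk for the determination of the fixed points -/
structure F4Chunk (G1 : Subgroup (GL chevF4.Idx K)) (q : ℕ) (c : List ℕ) (m : ℕ)
    (S : Type*) (par : S → ℕ → K) (τ : (ℕ → K) → ℕ → K) : Prop where
  sig : ∀ a ∈ chevF4.group K, ∀ t, f4sig f hff (srForm chevF4 f4_mem c a t) =
    srForm chevF4 f4_mem c (f4sig f hff a) (τ t)
  mem : ∀ a ∈ G1, ∀ s, srForm chevF4 f4_mem c a (par s) ∈ G1
  fix : ∀ s, ∀ k < c.length, τ (par s) k = par s k
  surj : ∀ t, (∀ k < c.length, τ t k = t k) → ∃ s, ∀ k < c.length, t k = par s k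
  inj : ∀ s s', (∀ k < c.length, par s k = par s' k) → s = s'
  card : Nat.card S = q ^ m

variable (G1 : Subgroup (GL chevF4.Idx K)) (q : ℕ) (c : List ℕ) (m : ℕ)
  {S : Type*} (par : S → ℕ → K) (τ : (ℕ → K) → ℕ → K)
  (hc : F4Chunk f hff G1 q c m S par τ) (v : List ℕ) (hred : redRB chevF4 (c ++ v) = true)
  (hv : ∀ a ∈ SR (F := K) chevF4 f4_mem v, f4sig f hff a ∈ SR (F := K) chevF4 f4_mem v)

include hc hred hv in
theorem f4chunk_sig : ∀ u ∈ SR (F := K) chevF4 f4_mem (c ++ v),
    f4sig f hff u ∈ SR (F := K) chevF4 f4_mem (c ++ v) := by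
  intro u hu
  have hred' := redRB_append_right chevF4 c v hred
  obtain ⟨a, ha, t, rfl⟩ := exists_srForm chevF4 f4_mem c v u hu
  rw [hc.sig a (U_le_G4 (SR_le_U chevF4 f4_mem v hred' a ha))]
  exact srForm_mem chevF4 f4_mem c v _ (hv a ha) _

include hc hred hv in
theorem f4chunk_fix (hG : ∀ a ∈ SR (F := K) chevF4 f4_mem v, f4sig f hff a = a → a ∈ G1) :
    ∀ u ∈ SR (F := K) chevF4 f4_mem (c ++ v), f4sig f hff u = u → u ∈ G1 := by
  intro u hu hfix
  have hred' := redRB_append_right chevF4 c v hred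
  obtain ⟨a, ha, t, rfl⟩ := exists_srForm chevF4 f4_mem c v u hu
  rw [hc.sig a (U_le_G4 (SR_le_U chevF4 f4_mem v hred' a ha))] at hfix
  obtain ⟨h1, h2⟩ := srForm_inj chevF4 f4_mem c v hred _ _ (hv a ha) ha _ _ hfix
  obtain ⟨s, hs⟩ := hc.surj t h2
  rw [srForm_congr chevF4 f4_mem c a t (par s) hs]
  exact hc.mem a (hG a ha h1) s

include hc hred hv in
theorem f4chunk_card :
    Nat.card {u : GL chevF4.Idx K // u ∈ SR (F := K) chevF4 f4_mem (c ++ v) ∧
      f4sig f hff u = u} =
    q ^ m * Nat.card {a : GL chevF4.Idx K // a ∈ SR (F := K) chevF4 f4_mem v ∧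
      f4sig f hff a = a} := by
  have hred' := redRB_append_right chevF4 c v hred
  have hG : ∀ a ∈ SR (F := K) chevF4 f4_mem v, a ∈ chevF4.group K := fun a ha =>
    U_le_G4 (SR_le_U chevF4 f4_mem v hred' a ha)
  have hfixform : ∀ a ∈ SR (F := K) chevF4 f4_mem v, f4sig f hff a = a → ∀ s : S,
      f4sig f hff (srForm chevF4 f4_mem c a (par s)) = srForm chevF4 f4_mem c a (par s) := by
    intro a ha hfa s
    rw [hc.sig a (hG a ha), hfa]
    exact srForm_congr chevF4 f4_mem c a _ _ (hc.fix s)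
  let Φ : S × {a : GL chevF4.Idx K // a ∈ SR (F := K) chevF4 f4_mem v ∧ f4sig f hff a = a} →
      {u : GL chevF4.Idx K // u ∈ SR (F := K) chevF4 f4_mem (c ++ v) ∧ f4sig f hff u = u} :=
    fun p => ⟨srForm chevF4 f4_mem c p.2.1 (par p.1),
      srForm_mem chevF4 f4_mem c v _ p.2.2.1 _, hfixform p.2.1 p.2.2.1 p.2.2.2 p.1⟩
  have hinj : Function.Injective Φ := by
    rintro ⟨s, ⟨a, ha, hfa⟩⟩ ⟨s', ⟨a', ha', hfa'⟩⟩ hpp
    have e : srForm chevF4 f4_mem c a (par s) = srForm chevF4 f4_mem c a' (par s') :=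
      congrArg Subtype.val hpp
    obtain ⟨h1, h2⟩ := srForm_inj chevF4 f4_mem c v hred a a' ha ha' _ _ e
    have h3 := hc.inj s s' h2
    subst h1
    subst h3
    rfl
  have hsurj : Function.Surjective Φ := by
    rintro ⟨u, hu, hfu⟩
    obtain ⟨a, ha, t, rfl⟩ := exists_srForm chevF4 f4_mem c v u hu
    rw [hc.sig a (hG a ha)] at hfu
    obtain ⟨h1, h2⟩ := srForm_inj chevF4 f4_mem c v hred _ _ (hv a ha) ha _ _ hfu
    obtain ⟨s, hs⟩ := hc.surj t h2
    refine ⟨⟨s, ⟨a, ha, h1⟩⟩, ?_⟩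
    apply Subtype.ext
    exact (srForm_congr chevF4 f4_mem c a t (par s) hs).symm
  rw [← Nat.card_eq_of_bijective Φ ⟨hinj, hsurj⟩, Nat.card_prod, hc.card]

end

end Cfsg.Agent.helper5.Chev
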