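import Mathlib
import Cfsg.Agent.Lib_helper5_F4J

set_option autoImplicit false
set_option linter.unusedSectionVars false
set_option linter.unusedVariables false

/-! The two kinds of chunks for the Ree groups `²F₄` (helper5). -/

namespace Cfsg.Agent.helper5.Chev

open Cfsg.Lie

set_option maxRecDepth 100000 in
theorem f4_refl_facts : chevF4.reflectRoot 2 27 = 28 ∧ chevF4.reflectRoot 1 28 = 28 ∧
    chevF4.reflectRoot 2 28 = 27 ∧ chevF4.reflectRoot 1 25 = 30 ∧ chevF4.reflectRoot 2 30 = 30 ∧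
    chevF4.simple 0 = 33 ∧ chevF4.simple 1 = 27 ∧ chevF4.simple 2 = 25 ∧ chevF4.simple 3 = 24 := by
  decide +kernel

section
variable {K : Type*} [Field K] [CharP K 2]

/-- conjugation by the inverse of a fundamental reflection, in characteristic two -/
theorem f4_conj_inv (i : ℕ) (hi : i < 4) (s : ℕ) (hs : s < 48) (u : K) :
    (nGt chevF4 f4_mem (chevF4.simple i) 1)⁻¹ * xG chevF4 f4_mem s u *
      nGt chevF4 f4_mem (chevF4.simple i) 1 = xG chevF4 f4_mem (chevF4.reflectRoot i s) u := by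
  have hR := rootsOK_of_mem chevF4 f4_mem
  have hs' : chevF4.reflectRoot i s < 48 := hR.refl_lt i hi s hs
  rw [nG_conj_inv chevF4 f4_mem i hi s hs]
  congr 1
  rcases Cfsg.Agent.S1031.eta_sq chevF4 f4_mem i _ hi hs' with h | h
  · rw [h]
    simp
  · rw [h]
    push_cast
    rw [neg_one_eq_one_two, one_mul]

theorem f4_swap (i : ℕ) (hi : i < 4) (s : ℕ) (hs : s < 48) (u : K) :
    xG chevF4 f4_mem s u * nGt chevF4 f4_mem (chevF4.simple i) 1 =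
      nGt chevF4 f4_mem (chevF4.simple i) 1 * xG chevF4 f4_mem (chevF4.reflectRoot i s) u := by
  rw [← f4_conj_inv i hi s hs u]
  group

theorem f4G_mem (e : ℕ) (c : ℕ × ℕ × ℕ × ℕ) (hc : c ∈ f4B2classes) (t u : K) :
    f4G e c t u ∈ twistedF4 K e := by
  unfold f4B2classes at hc
  simp only [List.mem_cons, List.not_mem_nil, or_false] at hc
  rcases hc with rfl | rfl
  · have := f4w_mem e (b2ClassWord e 27 25 28 30 t u) (Or.inr ⟨t, u, Or.inl rfl⟩)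
    unfold f4w b2ClassWord at this
    simp only [List.map_cons, List.map_nil, List.prod_cons, List.prod_nil, mul_one] at this
    unfold f4G
    simp only [mul_assoc]
    exact this
  · have := f4w_mem e (b2ClassWord e 20 22 19 17 t u) (Or.inr ⟨t, u, Or.inr rfl⟩)
    unfold f4w b2ClassWord at this
    simp only [List.map_cons, List.map_nil, List.prod_cons, List.prod_nil, mul_one] at this
    unfold f4G
    simp only [mul_assoc]
    exact this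

/-- the explicit form along the chunk of type `A₁ × A₁` -/
theorem srForm_pair (a : GL chevF4.Idx K) (t : ℕ → K) :
    srForm chevF4 f4_mem [0, 3] a t =
      (nW chevF4 f4_mem [3, 0])⁻¹ * a * nW chevF4 f4_mem [3, 0] *
        (xG chevF4 f4_mem 24 (t 1) * xG chevF4 f4_mem 33 (t 0)) := by
  obtain ⟨-, -, -, -, -, s0, s1, s2, s3⟩ := f4_refl_facts
  have e1 : nW (F := K) chevF4 f4_mem [3, 0] = nGt chevF4 f4_mem 24 1 * nGt chevF4 f4_mem 33 1 := by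
    unfold nW
    simp only [List.map_cons, List.map_nil, List.prod_cons, List.prod_nil, mul_one, s3, s0]
  have e2 : srForm chevF4 f4_mem [0, 3] a t =
      (nGt chevF4 f4_mem 33 1)⁻¹ * ((nGt chevF4 f4_mem 24 1)⁻¹ * a * nGt chevF4 f4_mem 24 1 *
        xG chevF4 f4_mem 24 (t 1)) * nGt chevF4 f4_mem 33 1 * xG chevF4 f4_mem 33 (t 0) := by
    simp only [srForm, srStep, s0, s3]
  rw [e1, e2]
  have h := orth_commute (F := K) chevF4 f4_mem 24 33 f4_orth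
  have hc : Commute (xG chevF4 f4_mem 24 (t 1)) (nGt chevF4 f4_mem 33 (1 : K)) := by
    unfold nGt
    exact ((h (t 1) 1).1.mul_right (h (t 1) _).2.1).mul_right (h (t 1) 1).1
  obtain ⟨n0, hn0⟩ : ∃ n, n = nGt chevF4 f4_mem 33 (1 : K) := ⟨_, rfl⟩
  rw [← hn0] at hc
  rw [← hn0]
  obtain ⟨n3, hn3⟩ : ∃ n, n = nGt chevF4 f4_mem 24 (1 : K) := ⟨_, rfl⟩
  rw [← hn3]
  calc n0⁻¹ * (n3⁻¹ * a * n3 * xG chevF4 f4_mem 24 (t 1)) * n0 * xG chevF4 f4_mem 33 (t 0)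
      = n0⁻¹ * n3⁻¹ * a * n3 * (xG chevF4 f4_mem 24 (t 1) * n0) * xG chevF4 f4_mem 33 (t 0) := by
        group
    _ = n0⁻¹ * n3⁻¹ * a * n3 * (n0 * xG chevF4 f4_mem 24 (t 1)) * xG chevF4 f4_mem 33 (t 0) := by
        rw [hc.eq]
    _ = _ := by group

/-- the explicit form along the chunk of type `B₂` -/
theorem srForm_B2 (a : GL chevF4.Idx K) (t : ℕ → K) :
    srForm chevF4 f4_mem [2, 1, 2, 1] a t =
      (nW chevF4 f4_mem [1, 2, 1, 2])⁻¹ * a * nW chevF4 f4_mem [1, 2, 1, 2] *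
        f4P (27, 25, 28, 30) (t 3) (t 0) (t 1) (t 2) := by
  obtain ⟨r1, r2, r3, r4, r5, s0, s1, s2, s3⟩ := f4_refl_facts
  have e1 : nW (F := K) chevF4 f4_mem [1, 2, 1, 2] = nGt chevF4 f4_mem 27 1 *
      (nGt chevF4 f4_mem 25 1 * (nGt chevF4 f4_mem 27 1 * nGt chevF4 f4_mem 25 1)) := by
    unfold nW
    simp only [List.map_cons, List.map_nil, List.prod_cons, List.prod_nil, mul_one, s1, s2]
  have e2 : srForm chevF4 f4_mem [2, 1, 2, 1] a t =
      (nGt chevF4 f4_mem 25 1)⁻¹ * ((nGt chevF4 f4_mem 27 1)⁻¹ * ((nGt chevF4 f4_mem 25 1)⁻¹ *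
        ((nGt chevF4 f4_mem 27 1)⁻¹ * a * nGt chevF4 f4_mem 27 1 * xG chevF4 f4_mem 27 (t 3)) *
        nGt chevF4 f4_mem 25 1 * xG chevF4 f4_mem 25 (t 2)) * nGt chevF4 f4_mem 27 1 *
        xG chevF4 f4_mem 27 (t 1)) * nGt chevF4 f4_mem 25 1 * xG chevF4 f4_mem 25 (t 0) := by
    simp only [srForm, srStep, s1, s2]
  rw [e1, e2]
  have k1 := fun u : K => f4_swap 2 (by norm_num) 27 (by norm_num) u
  have k2 := fun u : K => f4_swap 1 (by norm_num) 28 (by norm_num) u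
  have k3 := fun u : K => f4_swap 2 (by norm_num) 28 (by norm_num) u
  have k4 := fun u : K => f4_swap 1 (by norm_num) 25 (by norm_num) u
  have k5 := fun u : K => f4_swap 2 (by norm_num) 30 (by norm_num) u
  simp only [r1, r2, r3, r4, r5, s1, s2] at k1 k2 k3 k4 k5
  obtain ⟨n1, hn1⟩ : ∃ n, n = nGt chevF4 f4_mem 27 (1 : K) := ⟨_, rfl⟩
  obtain ⟨n2, hn2⟩ : ∃ n, n = nGt chevF4 f4_mem 25 (1 : K) := ⟨_, rfl⟩
  rw [← hn1] at k2 k4
  rw [← hn2] at k1 k3 k5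
  rw [← hn1, ← hn2]
  have c1 := fun u w : K => (f4_comm (K := K) 25 28 (by decide) u w).eq
  have c2 := fun u w : K => (f4_comm (K := K) 25 30 (by decide) u w).eq
  have c3 := fun u w : K => (f4_comm (K := K) 28 30 (by decide) u w).eq
  unfold f4P
  calc n2⁻¹ * (n1⁻¹ * (n2⁻¹ * (n1⁻¹ * a * n1 * xG chevF4 f4_mem 27 (t 3)) * n2 *
        xG chevF4 f4_mem 25 (t 2)) * n1 * xG chevF4 f4_mem 27 (t 1)) * n2 *
        xG chevF4 f4_mem 25 (t 0)
      = n2⁻¹ * n1⁻¹ * n2⁻¹ * n1⁻¹ * a * n1 * (xG chevF4 f4_mem 27 (t 3) * n2) *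
        xG chevF4 f4_mem 25 (t 2) * n1 * xG chevF4 f4_mem 27 (t 1) * n2 *
        xG chevF4 f4_mem 25 (t 0) := by group
    _ = n2⁻¹ * n1⁻¹ * n2⁻¹ * n1⁻¹ * a * n1 * n2 * xG chevF4 f4_mem 28 (t 3) *
        (xG chevF4 f4_mem 25 (t 2) * n1) * xG chevF4 f4_mem 27 (t 1) * n2 *
        xG chevF4 f4_mem 25 (t 0) := by rw [k1]; group
    _ = n2⁻¹ * n1⁻¹ * n2⁻¹ * n1⁻¹ * a * n1 * n2 * (xG chevF4 f4_mem 28 (t 3) * n1) *
        xG chevF4 f4_mem 30 (t 2) * xG chevF4 f4_mem 27 (t 1) * n2 *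
        xG chevF4 f4_mem 25 (t 0) := by rw [k4]; group
    _ = n2⁻¹ * n1⁻¹ * n2⁻¹ * n1⁻¹ * a * n1 * n2 * n1 * xG chevF4 f4_mem 28 (t 3) *
        xG chevF4 f4_mem 30 (t 2) * (xG chevF4 f4_mem 27 (t 1) * n2) *
        xG chevF4 f4_mem 25 (t 0) := by rw [k2]; group
    _ = n2⁻¹ * n1⁻¹ * n2⁻¹ * n1⁻¹ * a * n1 * n2 * n1 * xG chevF4 f4_mem 28 (t 3) *
        (xG chevF4 f4_mem 30 (t 2) * n2) * xG chevF4 f4_mem 28 (t 1) *
        xG chevF4 f4_mem 25 (t 0) := by rw [k1]; group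
    _ = n2⁻¹ * n1⁻¹ * n2⁻¹ * n1⁻¹ * a * n1 * n2 * n1 * (xG chevF4 f4_mem 28 (t 3) * n2) *
        xG chevF4 f4_mem 30 (t 2) * xG chevF4 f4_mem 28 (t 1) *
        xG chevF4 f4_mem 25 (t 0) := by rw [k5]; group
    _ = n2⁻¹ * n1⁻¹ * n2⁻¹ * n1⁻¹ * a * n1 * n2 * n1 * n2 * xG chevF4 f4_mem 27 (t 3) *
        (xG chevF4 f4_mem 30 (t 2) * (xG chevF4 f4_mem 28 (t 1) *
        xG chevF4 f4_mem 25 (t 0))) := by rw [k3]; group
    _ = n2⁻¹ * n1⁻¹ * n2⁻¹ * n1⁻¹ * a * n1 * n2 * n1 * n2 * xG chevF4 f4_mem 27 (t 3) *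
        (xG chevF4 f4_mem 25 (t 0) * xG chevF4 f4_mem 28 (t 1) *
        xG chevF4 f4_mem 30 (t 2)) := by
        congr 1
        rw [← c1, ← mul_assoc, ← c2, mul_assoc, ← c3, ← mul_assoc]
    _ = _ := by group

end

end Cfsg.Agent.helper5.Chev
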