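import Mathlib
import Cfsg.Agent.Lib_helper5_F4K

set_option autoImplicit false
set_option linter.unusedSectionVars false
set_option linter.unusedVariables false

/-! The fixed points of the Ree endomorphism of `F₄` in `U` (helper5). -/

namespace Cfsg.Agent.helper5.Chev

open Cfsg.Lie

set_option maxRecDepth 1000000 in
set_option maxHeartbeats 0 in
theorem twF4w0_red : redRB chevF4 twF4w0.reverse = true := by decide +kernel

section
variable {K : Type*} [Field K] [CharP K 2] (f : K →+* K) (hff : ∀ t : K, f (f t) ^ 2 = t)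
  (e : ℕ) (hfe : ∀ t : K, f t = t ^ e)

theorem f4sig_conj (n a x : GL chevF4.Idx K) (hn : n ∈ f4Fix f hff) (ha : a ∈ chevF4.group K)
    (hx : x ∈ chevF4.group K) :
    f4sig f hff (n⁻¹ * a * n * x) = n⁻¹ * f4sig f hff a * n * f4sig f hff x := by
  obtain ⟨hnG, hnf⟩ := hn
  have h1 : n⁻¹ ∈ chevF4.group K := Subgroup.inv_mem _ hnG
  rw [f4sig_mul f hff _ _ (Subgroup.mul_mem _ (Subgroup.mul_mem _ h1 ha) hnG) hx,
    f4sig_mul f hff _ _ (Subgroup.mul_mem _ h1 ha) hnG, f4sig_mul f hff _ _ h1 ha,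
    f4sig_inv f hff n hnG, hnf]

/-- the parameters of the fixed points along a chunk of type `A₁ × A₁` -/
def f4par2 (s : K) : ℕ → K := consFn (f s) (consFn s (fun _ => 0))

/-- the action of the Ree endomorphism on the parameters along a chunk of type `A₁ × A₁` -/
def f4tau2 (t : ℕ → K) : ℕ → K := consFn (f (t 1)) (consFn (f (t 0) ^ 2) (fun _ => 0))

include hfe in
theorem f4chunk_pair [Finite K] :
    F4Chunk f hff (twistedF4 K e) (Nat.card K) [0, 3] 1 K (f4par2 f) (f4tau2 f) where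
  sig := by
    intro a ha t
    have hn : nW (F := K) chevF4 f4_mem [3, 0] ∈ f4Fix f hff := f4_hfix f hff e hfe (f4_nA_mem e)
    rw [srForm_pair, srForm_pair, f4sig_conj f hff _ _ _ hn ha
      (Subgroup.mul_mem _ (xG_mem_G _ _) (xG_mem_G _ _)),
      f4sig_mul f hff _ _ (xG_mem_G _ _) (xG_mem_G _ _), f4sig_xG f hff 24 (by decide),
      f4sig_xG f hff 33 (by decide)]
    have b1 : f4bar 33 = 24 := by decide
    have b2 : f4bar 24 = 33 := by decide
    have l1 : f4lam 33 = 2 := by decide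
    have l2 : f4lam 24 = 1 := by decide
    rw [b1, b2, l1, l2, pow_one]
    congr 1
    exact ((orth_commute (F := K) chevF4 f4_mem 24 33 f4_orth _ _).1).eq.symm
  mem := by
    intro a ha s
    rw [srForm_pair]
    have hn := f4_nA_mem (K := K) e
    refine Subgroup.mul_mem _ (Subgroup.mul_mem _ (Subgroup.mul_mem _ (Subgroup.inv_mem _ hn) ha)
      hn) ?_
    have := f4_pair_pos (K := K) e s
    rw [← hfe s] at this
    exact this
  fix := by
    intro s k hk
    have hk' : k < 2 := hk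
    interval_cases k
    · rfl
    · exact hff s
  surj := by
    intro t ht
    have h0 : f (t 1) = t 0 := ht 0 (by norm_num)
    refine ⟨t 1, ?_⟩
    intro k hk
    have hk' : k < 2 := hk
    interval_cases k
    · exact h0.symm
    · rfl
  inj := by
    intro s s' h
    exact h 1 (by norm_num)
  card := by rw [pow_one]

/-- the parameters of the fixed points along a chunk of type `B₂` -/
def f4par4 (p : K × K) : ℕ → K :=
  consFn p.1 (consFn (f p.2 + f p.1 * p.1) (consFn p.2 (consFn (f p.1) (fun _ => 0))))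

/-- the action of the Ree endomorphism on the parameters along a chunk of type `B₂` -/
def f4tau4 (t : ℕ → K) : ℕ → K :=
  consFn (f (t 3) ^ 2) (consFn (f (t 2) + f (t 0) * f (t 3) ^ 2)
    (consFn (f (t 1) ^ 2 + f (t 0) ^ 2 * f (t 3) ^ 2) (consFn (f (t 0)) (fun _ => 0))))

include hfe in
theorem f4chunk_B2 [Finite K] (he : e ≠ 0) :
    F4Chunk f hff (twistedF4 K e) (Nat.card K) [2, 1, 2, 1] 2 (K × K) (f4par4 f) (f4tau4 f) where
  sig := by
    intro a ha t
    have hn : nW (F := K) chevF4 f4_mem [1, 2, 1, 2] ∈ f4Fix f hff :=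
      f4_hfix f hff e hfe (f4_nB_mem e he)
    rw [srForm_B2, srForm_B2, f4sig_conj f hff _ _ _ hn ha (f4P_mem_G _ _ _ _ _),
      f4sig_f4P f hff _ (by decide)]
    rfl
  mem := by
    intro a ha p
    rw [srForm_B2]
    have hn := f4_nB_mem (K := K) e he
    refine Subgroup.mul_mem _ (Subgroup.mul_mem _ (Subgroup.mul_mem _ (Subgroup.inv_mem _ hn) ha)
      hn) ?_
    have h1 := f4G_mem (K := K) e (27, 25, 28, 30) (by decide) p.1 (f p.2)
    rw [f4G_eq_f4P f e hfe, hff p.2] at h1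
    have e1 : f4par4 f p 3 = f p.1 := rfl
    have e2 : f4par4 f p 0 = p.1 := rfl
    have e3 : f4par4 f p 1 = f p.2 + f p.1 * p.1 := rfl
    have e4 : f4par4 f p 2 = p.2 := rfl
    rw [e1, e2, e3, e4, add_comm]
    exact h1
  fix := by
    intro p k hk
    have h2 := two_eq_zero_two (K := K)
    have hk' : k < 4 := hk
    have e1 : f4par4 f p 3 = f p.1 := rfl
    have e2 : f4par4 f p 0 = p.1 := rfl
    have e3 : f4par4 f p 1 = f p.2 + f p.1 * p.1 := rfl
    have e4 : f4par4 f p 2 = p.2 := rfl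
    interval_cases k
    · show f (f4par4 f p 3) ^ 2 = f4par4 f p 0
      rw [e1, e2]
      exact hff p.1
    · show f (f4par4 f p 2) + f (f4par4 f p 0) * f (f4par4 f p 3) ^ 2 = f4par4 f p 1
      rw [e1, e2, e3, e4, hff p.1]
    · show f (f4par4 f p 1) ^ 2 + f (f4par4 f p 0) ^ 2 * f (f4par4 f p 3) ^ 2 = f4par4 f p 2
      rw [e1, e2, e3, e4, hff p.1, map_add, map_mul]
      linear_combination hff p.2 + (f p.1 ^ 2) * hff p.1 +
        (f (f p.2) * f (f p.1) * f p.1 + f p.1 ^ 2 * p.1) * h2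
    · show f (f4par4 f p 0) = f4par4 f p 3
      rw [e1, e2]
  surj := by
    intro t ht
    have h0 : f (t 3) ^ 2 = t 0 := ht 0 (by norm_num)
    have h1 : f (t 2) + f (t 0) * f (t 3) ^ 2 = t 1 := ht 1 (by norm_num)
    have h3 : f (t 0) = t 3 := ht 3 (by norm_num)
    refine ⟨(t 0, t 2), ?_⟩
    intro k hk
    have hk' : k < 4 := hk
    interval_cases k
    · rfl
    · show t 1 = f (t 2) + f (t 0) * t 0
      rw [← h1, h0]
    · rfl
    · show t 3 = f (t 0)
      exact h3.symm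
  inj := by
    intro p p' h
    have h0 : p.1 = p'.1 := h 0 (by norm_num)
    have h2 : p.2 = p'.2 := h 2 (by norm_num)
    exact Prod.ext h0 h2
  card := by rw [Nat.card_prod, sq]

/-- the statement on the cell representatives along a word -/
def F4Stmt (G1 : Subgroup (GL chevF4.Idx K)) (q : ℕ) (v : List ℕ) (k : ℕ) : Prop :=
  (∀ a ∈ SR (F := K) chevF4 f4_mem v, f4sig f hff a ∈ SR (F := K) chevF4 f4_mem v) ∧
  (∀ a ∈ SR (F := K) chevF4 f4_mem v, f4sig f hff a = a → a ∈ G1) ∧
  Nat.card {a : GL chevF4.Idx K // a ∈ SR (F := K) chevF4 f4_mem v ∧ f4sig f hff a = a} = q ^ k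

theorem f4stmt_nil (G1 : Subgroup (GL chevF4.Idx K)) (q : ℕ) : F4Stmt f hff G1 q [] 0 := by
  refine ⟨?_, ?_, ?_⟩
  · intro a ha
    simp only [SR, Set.mem_singleton_iff] at ha ⊢
    rw [ha, f4sig_one]
  · intro a ha _
    simp only [SR, Set.mem_singleton_iff] at ha
    rw [ha]
    exact Subgroup.one_mem _
  · simp only [SR, Set.mem_singleton_iff, pow_zero]
    have : Unique {u : GL chevF4.Idx K // u = 1 ∧ f4sig f hff u = u} :=
      { default := ⟨1, rfl, f4sig_one f hff⟩
        uniq := fun x => Subtype.ext x.2.1 }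
    exact Nat.card_unique

theorem f4stmt_step (G1 : Subgroup (GL chevF4.Idx K)) (q : ℕ) (c : List ℕ) (m : ℕ)
    {S : Type*} (par : S → ℕ → K) (τ : (ℕ → K) → ℕ → K)
    (hc : F4Chunk f hff G1 q c m S par τ) (v : List ℕ) (hred : redRB chevF4 (c ++ v) = true)
    (k : ℕ) (h : F4Stmt f hff G1 q v k) : F4Stmt f hff G1 q (c ++ v) (m + k) := by
  obtain ⟨h1, h2, h3⟩ := h
  refine ⟨f4chunk_sig f hff G1 q c m par τ hc v hred h1,
    f4chunk_fix f hff G1 q c m par τ hc v hred h1 h2, ?_⟩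
  rw [f4chunk_card f hff G1 q c m par τ hc v hred h1, h3, pow_add]

include hfe in
theorem f4stmt_full [Finite K] (he : e ≠ 0) :
    F4Stmt f hff (twistedF4 K e) (Nat.card K) twF4w0.reverse 12 := by
  have hA := f4chunk_pair f hff e hfe
  have hB := f4chunk_B2 f hff e hfe he
  have r8 : redRB chevF4 ([2, 1, 2, 1] ++ ([0, 3] ++ ([2, 1, 2, 1] ++ ([0, 3] ++
      ([2, 1, 2, 1] ++ ([0, 3] ++ ([2, 1, 2, 1] ++ ([0, 3] ++ []))))))))= true := twF4w0_red
  have r7 := redRB_append_right chevF4 _ _ r8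
  have r6 := redRB_append_right chevF4 _ _ r7
  have r5 := redRB_append_right chevF4 _ _ r6
  have r4 := redRB_append_right chevF4 _ _ r5
  have r3 := redRB_append_right chevF4 _ _ r4
  have r2 := redRB_append_right chevF4 _ _ r3
  have r1 := redRB_append_right chevF4 _ _ r2
  have s0 := f4stmt_nil f hff (twistedF4 K e) (Nat.card K)
  have s1 := f4stmt_step f hff _ _ _ _ _ _ hA _ r1 _ s0
  have s2 := f4stmt_step f hff _ _ _ _ _ _ hB _ r2 _ s1
  have s3 := f4stmt_step f hff _ _ _ _ _ _ hA _ r3 _ s2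
  have s4 := f4stmt_step f hff _ _ _ _ _ _ hB _ r4 _ s3
  have s5 := f4stmt_step f hff _ _ _ _ _ _ hA _ r5 _ s4
  have s6 := f4stmt_step f hff _ _ _ _ _ _ hB _ r6 _ s5
  have s7 := f4stmt_step f hff _ _ _ _ _ _ hA _ r7 _ s6
  have s8 := f4stmt_step f hff _ _ _ _ _ _ hB _ r8 _ s7
  exact s8

include hfe in
/-- **the fixed points in `U` lie in the twisted group** -/
theorem f4_fix_U_mem [Finite K] (he : e ≠ 0) :
    ∀ u ∈ chevF4.posUnipotent K, f4sig f hff u = u → u ∈ twistedF4 K e := by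
  intro u hu hfix
  have h1 := U_sub_SR (K := K) chevF4 f4_mem twF4w0 twF4w0_ok twF4w0_red u hu
  exact (f4stmt_full f hff e hfe he).2.1 u h1 hfix

include hfe in
/-- **the number of fixed points in `U`** -/
theorem f4_card_fix_U [Finite K] (he : e ≠ 0) :
    Nat.card {u : GL chevF4.Idx K // u ∈ chevF4.posUnipotent K ∧ f4sig f hff u = u} =
      Nat.card K ^ 12 := by
  rw [← (f4stmt_full f hff e hfe he).2.2]
  apply Nat.card_congr
  apply Equiv.subtypeEquivRight
  intro u
  constructor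
  · rintro ⟨h1, h2⟩
    exact ⟨U_sub_SR (K := K) chevF4 f4_mem twF4w0 twF4w0_ok twF4w0_red u h1, h2⟩
  · rintro ⟨h1, h2⟩
    exact ⟨SR_le_U chevF4 f4_mem _ twF4w0_red u h1, h2⟩

include hfe in
/-- the elements of `U¹` are the fixed points in `U` -/
theorem f4_U1_eq [Finite K] (he : e ≠ 0) (u : GL chevF4.Idx K) :
    u ∈ chevF4.posUnipotent K ⊓ twistedF4 K e ↔
      u ∈ chevF4.posUnipotent K ∧ f4sig f hff u = u := by
  constructor
  · rintro ⟨h1, h2⟩
    exact ⟨h1, (f4_hfix f hff e hfe h2).2⟩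
  · rintro ⟨h1, h2⟩
    exact ⟨h1, f4_fix_U_mem f hff e hfe he u h1 h2⟩

include hff hfe in
theorem f4_card_U1 [Finite K] (he : e ≠ 0) :
    Nat.card ↥(chevF4.posUnipotent K ⊓ twistedF4 K e) = Nat.card K ^ 12 := by
  rw [← f4_card_fix_U f hff e hfe he]
  apply Nat.card_congr
  apply Equiv.subtypeEquivRight
  intro u
  exact f4_U1_eq f hff e hfe he u

end

end Cfsg.Agent.helper5.Chev
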