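import Mathlib
import Cfsg.Agent.Lib_helper5_F4L

set_option autoImplicit false
set_option linter.unusedSectionVars false
set_option linter.unusedVariables false

/-! The set-up for the Ree groups `²F₄(q)` over a finite field (helper5). -/

namespace Cfsg.Agent.helper5.Chev

open Cfsg.Lie

theorem f4_setup {K : Type*} [Field K] [Fintype K] [CharP K 2] {m : ℕ}
    (hK : Fintype.card K = 2 ^ (2 * m + 1)) :
    ∃ f : K →+* K, (∀ t : K, f (f t) ^ 2 = t) ∧ (∀ t : K, f t = t ^ 2 ^ m) ∧
      Nat.card K = 2 ^ (2 * m + 1) ∧ (2 ^ m ≠ 0) := by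
  have he : 2 ^ m ≠ 0 := pow_ne_zero _ (by norm_num)
  refine ⟨frobHom K (2 ^ m) he (fun a b => add_pow_char_pow a b 2 m), ?_, fun t => rfl, ?_, he⟩
  · intro t
    rw [frobHom_apply, frobHom_apply, ← pow_mul, ← pow_mul]
    have : 2 ^ m * (2 ^ m * 2) = Fintype.card K := by
      rw [hK]; ring
    rw [this, FiniteField.pow_card]
  · rw [Nat.card_eq_fintype_card, hK]

end Cfsg.Agent.helper5.Chev
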