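import Mathlib
import Cfsg.Agent.Lib_helper5_F4M
import Cfsg.Agent.Lib_helper5_TwTorus

set_option autoImplicit false
set_option linter.unusedSectionVars false
set_option linter.unusedVariables false

/-! The torus of the Ree groups `²F₄`, I (helper5). -/

namespace Cfsg.Agent.helper5.Chev

open Cfsg.Lie

/-- the word of `h_r(P)` in characteristic two, `Q` the inverse of `P` -/
def f4hw (r : ℕ) (P Q : Poly) : List (ℕ × Poly) :=
  [(r, P), (chevF4.neg r, Q), (r, P), (r, pconst 1), (chevF4.neg r, pconst 1), (r, pconst 1)]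

set_option maxRecDepth 1000000 in
set_option maxHeartbeats 0 in
theorem f4_cong_h32 : wordCong chevF4 2 (f4hw 32 pX (pM (-1) 0 1))
    (f4hw 24 pX (pM (-1) 0 1) ++ (f4hw 27 pX (pM (-1) 0 1) ++
      f4hw 25 (pM 2 0 1) (pM (-2) 0 1))) = true := by decide +kernel

set_option maxRecDepth 1000000 in
set_option maxHeartbeats 0 in
theorem f4_cong_h37 : wordCong chevF4 2 (f4hw 37 pX (pM (-1) 0 1))
    (f4hw 33 pX (pM (-1) 0 1) ++ (f4hw 27 (pM 2 0 1) (pM (-2) 0 1) ++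
      f4hw 25 (pM 2 0 1) (pM (-2) 0 1))) = true := by decide +kernel

set_option maxRecDepth 100000 in
theorem f4_apply_nB : applyW chevF4 [1, 2, 1, 2] 24 = 32 ∧ applyW chevF4 [1, 2, 1, 2] 33 = 37 := by
  decide +kernel

section
variable {K : Type*} [Field K] [CharP K 2]

theorem hGt_two (r : ℕ) (t : K) :
    hGt chevF4 f4_mem r t = xG chevF4 f4_mem r t * (xG chevF4 f4_mem (chevF4.neg r) t⁻¹ *
      (xG chevF4 f4_mem r t * (xG chevF4 f4_mem r 1 * (xG chevF4 f4_mem (chevF4.neg r) 1 *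
        xG chevF4 f4_mem r 1)))) := by
  unfold hGt nGt
  simp only [neg_eq_self_two, inv_one, mul_assoc]

theorem f4w_hw (r : ℕ) (P Q : Poly) (x y : K) (hinv : pEval x y Q = (pEval x y P)⁻¹) :
    f4w ((f4hw r P Q).map fun a => (a.1, pEval x y a.2)) = hGt chevF4 f4_mem r (pEval x y P) := by
  rw [hGt_two]
  unfold f4w f4hw
  simp only [List.map_cons, List.map_nil, List.prod_cons, List.prod_nil, mul_one, pEval_pconst,
    hinv, Int.cast_one]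

theorem hGt_one (r : ℕ) : hGt chevF4 f4_mem r (1 : K) = 1 := by
  unfold hGt
  rw [nGt_neg_one, mul_inv_cancel]

theorem f4_pinv (x y : K) : pEval x y (pM (-1) 0 1) = (pEval x y pX)⁻¹ ∧
    pEval x y (pM (-2) 0 1) = (pEval x y (pM 2 0 1))⁻¹ ∧ pEval x y (pM 2 0 1) = x ^ 2 := by
  refine ⟨?_, ?_, ?_⟩
  · rw [pEval_pM, pEval_pX]
    simp
  · rw [pEval_pM, pEval_pM]
    simp [zpow_neg]
  · rw [pEval_pM]
    simp [zpow_ofNat]

theorem f4_h32 (x : K) (hx : x ≠ 0) :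
    hGt chevF4 f4_mem 32 x = hGt chevF4 f4_mem 24 x * (hGt chevF4 f4_mem 27 x *
      hGt chevF4 f4_mem 25 (x ^ 2)) := by
  have key := f4w_eq_of_cong (K := K) _ _ f4_cong_h32 (by decide) (by decide) x 1 hx one_ne_zero
  obtain ⟨e1, e2, e3⟩ := f4_pinv x (1 : K)
  simp only [List.map_append, f4w_append] at key
  rw [f4w_hw 32 _ _ x 1 e1, f4w_hw 24 _ _ x 1 e1, f4w_hw 27 _ _ x 1 e1, f4w_hw 25 _ _ x 1 e2,
    pEval_pX, e3] at key
  exact key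

theorem f4_h37 (x : K) (hx : x ≠ 0) :
    hGt chevF4 f4_mem 37 x = hGt chevF4 f4_mem 33 x * (hGt chevF4 f4_mem 27 (x ^ 2) *
      hGt chevF4 f4_mem 25 (x ^ 2)) := by
  have key := f4w_eq_of_cong (K := K) _ _ f4_cong_h37 (by decide) (by decide) x 1 hx one_ne_zero
  obtain ⟨e1, e2, e3⟩ := f4_pinv x (1 : K)
  simp only [List.map_append, f4w_append] at key
  rw [f4w_hw 37 _ _ x 1 e1, f4w_hw 33 _ _ x 1 e1, f4w_hw 27 _ _ x 1 e2, f4w_hw 25 _ _ x 1 e2,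
    pEval_pX, e3] at key
  exact key

/-- conjugation of a torus generator by a fundamental reflection, in characteristic two -/
theorem f4_nG_conj_hGt (i : ℕ) (hi : i < 4) (r : ℕ) (hr : r < 48) (t : K) :
    nGt chevF4 f4_mem (chevF4.simple i) 1 * hGt chevF4 f4_mem r t *
      (nGt chevF4 f4_mem (chevF4.simple i) 1)⁻¹ = hGt chevF4 f4_mem (chevF4.reflectRoot i r) t := by
  have hη : ((etaOf chevF4 i r : ℤ) : K) = 1 := by
    rcases Cfsg.Agent.S1031.eta_sq chevF4 f4_mem i r hi hr with h | h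
    · rw [h]
      simp
    · rw [h]
      push_cast
      exact neg_one_eq_one_two
  unfold hGt
  have e1 : nGt chevF4 f4_mem (chevF4.simple i) 1 * (nGt chevF4 f4_mem r t *
      nGt chevF4 f4_mem r (-1)) * (nGt chevF4 f4_mem (chevF4.simple i) (1 : K))⁻¹ =
      (nGt chevF4 f4_mem (chevF4.simple i) 1 * nGt chevF4 f4_mem r t *
        (nGt chevF4 f4_mem (chevF4.simple i) 1)⁻¹) *
      (nGt chevF4 f4_mem (chevF4.simple i) 1 * nGt chevF4 f4_mem r (-1) *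
        (nGt chevF4 f4_mem (chevF4.simple i) 1)⁻¹) := by group
  rw [e1, nG_conj_nGt chevF4 f4_mem i hi r hr, nG_conj_nGt chevF4 f4_mem i hi r hr, hη, one_mul,
    one_mul]

/-- conjugation of a torus generator by a Weyl group representative, in characteristic two -/
theorem f4_nW_conj_hGt (w : List ℕ) (hw : ∀ i ∈ w, i < chevF4.rank) (r : ℕ) (hr : r < 48) (t : K) :
    nW chevF4 f4_mem w * hGt chevF4 f4_mem r t * (nW chevF4 f4_mem w)⁻¹ =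
      hGt chevF4 f4_mem (applyW chevF4 w r) t := by
  induction w with
  | nil =>
    rw [nW_nil']
    simp [applyW]
  | cons i w ih =>
    have hi : i < 4 := hw i List.mem_cons_self
    have hw' : ∀ j ∈ w, j < chevF4.rank := fun j hj => hw j (List.mem_cons_of_mem _ hj)
    have hlt : applyW chevF4 w r < 48 := applyW_lt chevF4 f4_mem w hw' r hr
    rw [nW_cons]
    have e1 : nGt chevF4 f4_mem (chevF4.simple i) 1 * nW chevF4 f4_mem w * hGt chevF4 f4_mem r t *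
        (nGt chevF4 f4_mem (chevF4.simple i) 1 * nW chevF4 f4_mem w)⁻¹ =
        nGt chevF4 f4_mem (chevF4.simple i) 1 * (nW chevF4 f4_mem w * hGt chevF4 f4_mem r t *
          (nW chevF4 f4_mem w)⁻¹) * (nGt chevF4 f4_mem (chevF4.simple i) (1 : K))⁻¹ := by group
    rw [e1, ih hw', f4_nG_conj_hGt i hi _ hlt]
    rfl

/-- the torus elements of `F₄` -/
noncomputable def f4T (c0 c1 c2 c3 : K) : GL chevF4.Idx K :=
  hGt chevF4 f4_mem 33 c0 * (hGt chevF4 f4_mem 27 c1 * (hGt chevF4 f4_mem 25 c2 *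
    hGt chevF4 f4_mem 24 c3))

/-- the parameters as a function -/
def f4c (c0 c1 c2 c3 : K) : ℕ → K := fun i =>
  match i with
  | 0 => c0
  | 1 => c1
  | 2 => c2
  | 3 => c3
  | _ => 1

theorem f4c_ne (c0 c1 c2 c3 : K) (h0 : c0 ≠ 0) (h1 : c1 ≠ 0) (h2 : c2 ≠ 0) (h3 : c3 ≠ 0) :
    ∀ i, f4c c0 c1 c2 c3 i ≠ 0 := by
  intro i
  unfold f4c
  split
  · exact h0
  · exact h1
  · exact h2
  · exact h3
  · exact one_ne_zero

theorem f4T_eq_torP (c0 c1 c2 c3 : K) :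
    f4T c0 c1 c2 c3 = torP chevF4 f4_mem (f4c c0 c1 c2 c3) := by
  have hr : List.range chevF4.rank = [0, 1, 2, 3] := by decide
  have s0 : chevF4.simple 0 = 33 := by decide
  have s1 : chevF4.simple 1 = 27 := by decide
  have s2 : chevF4.simple 2 = 25 := by decide
  have s3 : chevF4.simple 3 = 24 := by decide
  unfold torP f4T
  rw [hr]
  simp only [List.map_cons, List.map_nil, List.prod_cons, List.prod_nil, mul_one, s0, s1, s2, s3]
  rfl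

theorem f4T_mul (c0 c1 c2 c3 d0 d1 d2 d3 : K) (h0 : c0 ≠ 0) (h1 : c1 ≠ 0) (h2 : c2 ≠ 0)
    (h3 : c3 ≠ 0) (k0 : d0 ≠ 0) (k1 : d1 ≠ 0) (k2 : d2 ≠ 0) (k3 : d3 ≠ 0) :
    f4T c0 c1 c2 c3 * f4T d0 d1 d2 d3 = f4T (c0 * d0) (c1 * d1) (c2 * d2) (c3 * d3) := by
  rw [f4T_eq_torP, f4T_eq_torP, f4T_eq_torP, torP_mul chevF4 f4_mem _ _
    (fun i _ => f4c_ne c0 c1 c2 c3 h0 h1 h2 h3 i) (fun i _ => f4c_ne d0 d1 d2 d3 k0 k1 k2 k3 i)]
  apply torP_ext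
  intro i hi
  have hi' : i < 4 := hi
  interval_cases i <;> rfl

theorem f4T_mem_H (c0 c1 c2 c3 : K) (h0 : c0 ≠ 0) (h1 : c1 ≠ 0) (h2 : c2 ≠ 0) (h3 : c3 ≠ 0) :
    f4T c0 c1 c2 c3 ∈ chevF4.diagonalSubgroup K := by
  rw [f4T_eq_torP]
  exact torP_mem chevF4 f4_mem _ (fun i _ => f4c_ne c0 c1 c2 c3 h0 h1 h2 h3 i)

theorem exists_f4T (g : GL chevF4.Idx K) (hg : g ∈ chevF4.diagonalSubgroup K) :
    ∃ c0 c1 c2 c3 : K, c0 ≠ 0 ∧ c1 ≠ 0 ∧ c2 ≠ 0 ∧ c3 ≠ 0 ∧ g = f4T c0 c1 c2 c3 := by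
  obtain ⟨c, hc, rfl⟩ := exists_torP chevF4 f4_mem g hg
  refine ⟨c 0, c 1, c 2, c 3, hc 0, hc 1, hc 2, hc 3, ?_⟩
  rw [f4T_eq_torP]
  apply torP_ext
  intro i hi
  have hi' : i < 4 := hi
  interval_cases i <;> rfl

theorem f4_char (z : ℕ → K) :
    torusChar chevF4 z (chevF4.simple 0) = z 0 ^ 2 * (z 1)⁻¹ ∧
    torusChar chevF4 z (chevF4.simple 1) = (z 0)⁻¹ * z 1 ^ 2 * (z 2)⁻¹ ∧
    torusChar chevF4 z (chevF4.simple 2) = (z 1 ^ 2)⁻¹ * z 2 ^ 2 * (z 3)⁻¹ ∧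
    torusChar chevF4 z (chevF4.simple 3) = (z 2)⁻¹ * z 3 ^ 2 := by
  have hr : List.range chevF4.rank = [0, 1, 2, 3] := by decide
  have c00 : chevF4.cartan 0 (chevF4.simple 0) = 2 := by decide
  have c10 : chevF4.cartan 1 (chevF4.simple 0) = -1 := by decide
  have c20 : chevF4.cartan 2 (chevF4.simple 0) = 0 := by decide
  have c30 : chevF4.cartan 3 (chevF4.simple 0) = 0 := by decide
  have c01 : chevF4.cartan 0 (chevF4.simple 1) = -1 := by decide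
  have c11 : chevF4.cartan 1 (chevF4.simple 1) = 2 := by decide
  have c21 : chevF4.cartan 2 (chevF4.simple 1) = -1 := by decide
  have c31 : chevF4.cartan 3 (chevF4.simple 1) = 0 := by decide
  have c02 : chevF4.cartan 0 (chevF4.simple 2) = 0 := by decide
  have c12 : chevF4.cartan 1 (chevF4.simple 2) = -2 := by decide
  have c22 : chevF4.cartan 2 (chevF4.simple 2) = 2 := by decide
  have c32 : chevF4.cartan 3 (chevF4.simple 2) = -1 := by decide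
  have c03 : chevF4.cartan 0 (chevF4.simple 3) = 0 := by decide
  have c13 : chevF4.cartan 1 (chevF4.simple 3) = 0 := by decide
  have c23 : chevF4.cartan 2 (chevF4.simple 3) = -1 := by decide
  have c33 : chevF4.cartan 3 (chevF4.simple 3) = 2 := by decide
  unfold torusChar
  rw [hr]
  simp only [List.map_cons, List.map_nil, List.prod_cons, List.prod_nil, c00, c10, c20, c30, c01,
    c11, c21, c31, c02, c12, c22, c32, c03, c13, c23, c33, zpow_zero, zpow_neg_one, mul_one,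
    one_mul, zpow_neg]
  refine ⟨?_, ?_, ?_, ?_⟩ <;> norm_cast <;> ring

theorem f4_Z (z0 z1 z2 z3 : K) (h0 : z0 ≠ 0) (h1 : z1 ≠ 0) (h2 : z2 ≠ 0) (h3 : z3 ≠ 0)
    (e0 : z0 ^ 2 * z1⁻¹ = 1) (e1 : z0⁻¹ * z1 ^ 2 * z2⁻¹ = 1)
    (e2 : (z1 ^ 2)⁻¹ * z2 ^ 2 * z3⁻¹ = 1) (e3 : z2⁻¹ * z3 ^ 2 = 1) :
    z0 = 1 ∧ z1 = 1 ∧ z2 = 1 ∧ z3 = 1 := by
  have f0 : z1 = z0 ^ 2 := by field_simp at e0; exact e0.symm
  have f1 : z1 ^ 2 = z0 * z2 := by field_simp at e1; exact e1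
  have f2 : z2 ^ 2 = z1 ^ 2 * z3 := by field_simp at e2; exact e2
  have f3 : z3 ^ 2 = z2 := by field_simp at e3; exact e3
  have g2 : z2 = z0 ^ 3 := by
    have : z0 * z2 = z0 * z0 ^ 3 := by rw [← f1, f0]; ring
    exact mul_left_cancel₀ h0 this
  have g3 : z3 = z0 ^ 2 := by
    have : z0 ^ 4 * z3 = z0 ^ 4 * z0 ^ 2 := by
      calc z0 ^ 4 * z3 = z1 ^ 2 * z3 := by rw [f0]; ring
        _ = z2 ^ 2 := f2.symm
        _ = z0 ^ 4 * z0 ^ 2 := by rw [g2]; ring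
    exact mul_left_cancel₀ (pow_ne_zero 4 h0) this
  have g0 : z0 = 1 := by
    have : z0 ^ 3 * z0 = z0 ^ 3 * 1 := by
      calc z0 ^ 3 * z0 = (z0 ^ 2) ^ 2 := by ring
        _ = z3 ^ 2 := by rw [g3]
        _ = z2 := f3
        _ = z0 ^ 3 * 1 := by rw [g2]; ring
    exact mul_left_cancel₀ (pow_ne_zero 3 h0) this
  refine ⟨g0, ?_, ?_, ?_⟩
  · rw [f0, g0]; ring
  · rw [g2, g0]; ring
  · rw [g3, g0]; ring

theorem f4T_eq_one (c0 c1 c2 c3 : K) (h0 : c0 ≠ 0) (h1 : c1 ≠ 0) (h2 : c2 ≠ 0) (h3 : c3 ≠ 0)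
    (h : f4T c0 c1 c2 c3 = 1) : c0 = 1 ∧ c1 = 1 ∧ c2 = 1 ∧ c3 = 1 := by
  rw [f4T_eq_torP] at h
  have hz := f4c_ne c0 c1 c2 c3 h0 h1 h2 h3
  have k := (torP_eq_one_iff chevF4 f4_mem f4_hCR _ hz).mp h
  obtain ⟨a0, a1, a2, a3⟩ := f4_char (f4c c0 c1 c2 c3)
  have e0 := k 0 (by decide)
  have e1 := k 1 (by decide)
  have e2 := k 2 (by decide)
  have e3 := k 3 (by decide)
  rw [a0] at e0
  rw [a1] at e1
  rw [a2] at e2
  rw [a3] at e3
  exact f4_Z c0 c1 c2 c3 h0 h1 h2 h3 e0 e1 e2 e3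

theorem f4T_inj (c0 c1 c2 c3 d0 d1 d2 d3 : K) (h0 : c0 ≠ 0) (h1 : c1 ≠ 0) (h2 : c2 ≠ 0)
    (h3 : c3 ≠ 0) (k0 : d0 ≠ 0) (k1 : d1 ≠ 0) (k2 : d2 ≠ 0) (k3 : d3 ≠ 0)
    (h : f4T c0 c1 c2 c3 = f4T d0 d1 d2 d3) : c0 = d0 ∧ c1 = d1 ∧ c2 = d2 ∧ c3 = d3 := by
  have e : f4T (c0 * d0⁻¹) (c1 * d1⁻¹) (c2 * d2⁻¹) (c3 * d3⁻¹) = 1 := by
    have h5 : f4T (c0 * d0⁻¹) (c1 * d1⁻¹) (c2 * d2⁻¹) (c3 * d3⁻¹) * f4T d0 d1 d2 d3 =
        f4T d0 d1 d2 d3 := by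
      rw [f4T_mul _ _ _ _ _ _ _ _ (mul_ne_zero h0 (inv_ne_zero k0))
        (mul_ne_zero h1 (inv_ne_zero k1)) (mul_ne_zero h2 (inv_ne_zero k2))
        (mul_ne_zero h3 (inv_ne_zero k3)) k0 k1 k2 k3, inv_mul_cancel_right₀ k0,
        inv_mul_cancel_right₀ k1, inv_mul_cancel_right₀ k2, inv_mul_cancel_right₀ k3, h]
    exact mul_eq_right.mp h5
  obtain ⟨e0, e1, e2, e3⟩ := f4T_eq_one _ _ _ _ (mul_ne_zero h0 (inv_ne_zero k0))
    (mul_ne_zero h1 (inv_ne_zero k1)) (mul_ne_zero h2 (inv_ne_zero k2))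
    (mul_ne_zero h3 (inv_ne_zero k3)) e
  refine ⟨?_, ?_, ?_, ?_⟩
  · exact (mul_inv_eq_one₀ k0).mp e0
  · exact (mul_inv_eq_one₀ k1).mp e1
  · exact (mul_inv_eq_one₀ k2).mp e2
  · exact (mul_inv_eq_one₀ k3).mp e3

end

end Cfsg.Agent.helper5.Chev
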