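import Mathlib
import Cfsg.Agent.Lib_helper5_F4N

set_option autoImplicit false
set_option linter.unusedSectionVars false
set_option linter.unusedVariables false

/-! The torus of the Ree groups `²F₄`, II (helper5). -/

namespace Cfsg.Agent.helper5.Chev

open Cfsg.Lie

theorem rev4_of_commute {G : Type*} [Group G] (a b c d : G) (hab : Commute a b) (hac : Commute a c)
    (had : Commute a d) (hbc : Commute b c) (hbd : Commute b d) (hcd : Commute c d) :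
    a * (b * (c * d)) = d * (c * (b * a)) := by
  have h1 : Commute a (b * (c * d)) := hab.mul_right (hac.mul_right had)
  have h2 : Commute b (c * d) := hbc.mul_right hbd
  rw [h1.eq, h2.eq, hcd.eq]
  group

section
variable {K : Type*} [Field K] [CharP K 2]

theorem f4_hcomm (i j : ℕ) (hi : i < 4) (hj : j < 4) (a b : K) (ha : a ≠ 0) (hb : b ≠ 0) :
    Commute (hGt chevF4 f4_mem (chevF4.simple i) a) (hGt chevF4 f4_mem (chevF4.simple j) b) :=
  hGt_simple_commute (F := K) chevF4 f4_mem i j hi hj a b ha hb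

variable (f : K →+* K) (hff : ∀ t : K, f (f t) ^ 2 = t)

theorem f4T_mem_G (c0 c1 c2 c3 : K) : f4T c0 c1 c2 c3 ∈ chevF4.group K := by
  unfold f4T
  exact Subgroup.mul_mem _ (hGt_mem_G _ _) (Subgroup.mul_mem _ (hGt_mem_G _ _)
    (Subgroup.mul_mem _ (hGt_mem_G _ _) (hGt_mem_G _ _)))

/-- the Ree endomorphism on the torus -/
theorem f4sig_f4T (c0 c1 c2 c3 : K) (h0 : c0 ≠ 0) (h1 : c1 ≠ 0) (h2 : c2 ≠ 0) (h3 : c3 ≠ 0) :
    f4sig f hff (f4T c0 c1 c2 c3) = f4T (f c3) (f c2) (f c1 ^ 2) (f c0 ^ 2) := by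
  have s0 : chevF4.simple 0 = 33 := by decide
  have s1 : chevF4.simple 1 = 27 := by decide
  have s2 : chevF4.simple 2 = 25 := by decide
  have s3 : chevF4.simple 3 = 24 := by decide
  have b33 : f4bar 33 = 24 := by decide
  have b27 : f4bar 27 = 25 := by decide
  have b25 : f4bar 25 = 27 := by decide
  have b24 : f4bar 24 = 33 := by decide
  have l33 : f4lam 33 = 2 := by decide
  have l27 : f4lam 27 = 2 := by decide
  have l25 : f4lam 25 = 1 := by decide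
  have l24 : f4lam 24 = 1 := by decide
  have g0 : f c0 ^ 2 ≠ 0 := pow_ne_zero _ ((map_ne_zero f).mpr h0)
  have g1 : f c1 ^ 2 ≠ 0 := pow_ne_zero _ ((map_ne_zero f).mpr h1)
  have g2 : f c2 ≠ 0 := (map_ne_zero f).mpr h2
  have g3 : f c3 ≠ 0 := (map_ne_zero f).mpr h3
  unfold f4T
  rw [f4sig_mul f hff _ _ (hGt_mem_G _ _) (Subgroup.mul_mem _ (hGt_mem_G _ _)
      (Subgroup.mul_mem _ (hGt_mem_G _ _) (hGt_mem_G _ _))),
    f4sig_mul f hff _ _ (hGt_mem_G _ _) (Subgroup.mul_mem _ (hGt_mem_G _ _) (hGt_mem_G _ _)),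
    f4sig_mul f hff _ _ (hGt_mem_G _ _) (hGt_mem_G _ _),
    f4sig_hGt f hff 33 (by decide), f4sig_hGt f hff 27 (by decide),
    f4sig_hGt f hff 25 (by decide), f4sig_hGt f hff 24 (by decide),
    b33, b27, b25, b24, l33, l27, l25, l24, pow_one, pow_one]
  have c := fun i j hi hj a b ha hb => f4_hcomm (K := K) i j hi hj a b ha hb
  have c32 := c 3 2 (by norm_num) (by norm_num) _ _ g0 g1
  have c31 := c 3 1 (by norm_num) (by norm_num) _ _ g0 g2
  have c30 := c 3 0 (by norm_num) (by norm_num) _ _ g0 g3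
  have c21 := c 2 1 (by norm_num) (by norm_num) _ _ g1 g2
  have c20 := c 2 0 (by norm_num) (by norm_num) _ _ g1 g3
  have c10 := c 1 0 (by norm_num) (by norm_num) _ _ g2 g3
  rw [s0, s1, s2, s3] at *
  exact rev4_of_commute _ _ _ _ c32 c31 c30 c21 c20 c10

/-- conjugation of the torus of the class `{p₁, p₄}` by `n_a n_b n_a n_b` -/
theorem f4_nB_conj_T (x y : K) (hx : x ≠ 0) (hy : y ≠ 0) :
    nW chevF4 f4_mem [1, 2, 1, 2] * f4T y 1 1 x * (nW chevF4 f4_mem [1, 2, 1, 2])⁻¹ =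
      f4T y (x * y ^ 2) (x ^ 2 * y ^ 2) x := by
  have s0 : chevF4.simple 0 = 33 := by decide
  have s1 : chevF4.simple 1 = 27 := by decide
  have s2 : chevF4.simple 2 = 25 := by decide
  have s3 : chevF4.simple 3 = 24 := by decide
  obtain ⟨a24, a33⟩ := f4_apply_nB
  have hw : ∀ i ∈ [1, 2, 1, 2], i < chevF4.rank := by decide
  have k1 := f4_nW_conj_hGt (K := K) [1, 2, 1, 2] hw 33 (by decide) y
  have k2 := f4_nW_conj_hGt (K := K) [1, 2, 1, 2] hw 24 (by decide) x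
  rw [a33, f4_h37 y hy] at k1
  rw [a24, f4_h32 x hx] at k2
  have hx2 : x ^ 2 ≠ 0 := pow_ne_zero _ hx
  have hy2 : y ^ 2 ≠ 0 := pow_ne_zero _ hy
  have e1 : f4T y 1 1 x = hGt chevF4 f4_mem 33 y * hGt chevF4 f4_mem 24 x := by
    unfold f4T
    rw [hGt_one, hGt_one, one_mul, one_mul]
  have e2 : hGt chevF4 f4_mem 33 y * (hGt chevF4 f4_mem 27 (y ^ 2) * hGt chevF4 f4_mem 25 (y ^ 2)) =
      f4T y (y ^ 2) (y ^ 2) 1 := by
    unfold f4T
    rw [hGt_one, mul_one]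
  have e3 : hGt chevF4 f4_mem 24 x * (hGt chevF4 f4_mem 27 x * hGt chevF4 f4_mem 25 (x ^ 2)) =
      f4T 1 x (x ^ 2) x := by
    unfold f4T
    rw [hGt_one, one_mul]
    have c1 := f4_hcomm (K := K) 3 1 (by norm_num) (by norm_num) x x hx hx
    have c2 := f4_hcomm (K := K) 3 2 (by norm_num) (by norm_num) x (x ^ 2) hx hx2
    rw [s3, s1] at c1
    rw [s3, s2] at c2
    rw [(c1.mul_right c2).eq, mul_assoc]
  rw [e2] at k1
  rw [e3] at k2
  rw [e1]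
  have e4 : nW chevF4 f4_mem [1, 2, 1, 2] * (hGt chevF4 f4_mem 33 y * hGt chevF4 f4_mem 24 x) *
      (nW chevF4 f4_mem [1, 2, 1, 2])⁻¹ =
      (nW chevF4 f4_mem [1, 2, 1, 2] * hGt chevF4 f4_mem 33 y * (nW chevF4 f4_mem [1, 2, 1, 2])⁻¹) *
      (nW chevF4 f4_mem [1, 2, 1, 2] * hGt chevF4 f4_mem 24 x *
        (nW chevF4 f4_mem [1, 2, 1, 2])⁻¹) := by group
  rw [e4, k1, k2, f4T_mul _ _ _ _ _ _ _ _ hy hy2 hy2 one_ne_zero one_ne_zero hx hx2 hx, one_mul,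
    mul_one, mul_comm (y ^ 2) x, mul_comm (y ^ 2) (x ^ 2)]

variable (e : ℕ) (hfe : ∀ t : K, f t = t ^ e)

include hff hfe in
/-- the torus elements of the class of type `B₂` lie in the twisted group -/
theorem f4hB_mem (he : e ≠ 0) (μ : K) (hμ : μ ≠ 0) : f4T 1 (f μ) μ 1 ∈ twistedF4 K e := by
  obtain ⟨κ, hκ⟩ : ∃ κ : K, κ = f (f μ) := ⟨_, rfl⟩
  have hκ0 : κ ≠ 0 := by
    rw [hκ]
    exact (map_ne_zero f).mpr ((map_ne_zero f).mpr hμ)
  have hκ2 : κ ^ 2 = μ := by rw [hκ]; exact hff μ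
  have hfκ0 : f κ ≠ 0 := (map_ne_zero f).mpr hκ0
  obtain ⟨ν, hν⟩ : ∃ ν : K, ν = (κ / f κ) ^ 2 := ⟨_, rfl⟩
  have hν0 : ν ≠ 0 := by
    rw [hν]
    exact pow_ne_zero _ (div_ne_zero hκ0 hfκ0)
  have hfν0 : f ν ≠ 0 := (map_ne_zero f).mpr hν0
  have hνκ : ν * f ν = κ := by
    rw [hν, map_pow, map_div₀]
    have h1 := hff κ
    have hffκ0 : f (f κ) ≠ 0 := (map_ne_zero f).mpr hfκ0
    field_simp
    rw [h1]
  have hμν : ν ^ 2 * f ν ^ 2 = μ := by
    rw [← mul_pow, hνκ, hκ2]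
  have hfμ : ν * f ν ^ 2 = f μ := by
    rw [← hμν, map_mul, map_pow, map_pow, hff ν]
    ring
  have hconj := f4_nB_conj_T ν (f ν) hν0 hfν0
  rw [hμν, hfμ] at hconj
  have hn := f4_nB_mem (K := K) e he
  have hh : f4T (f ν) 1 1 ν ∈ twistedF4 K e := by
    have h1 := f4h_mem (K := K) e ν
    unfold f4h at h1
    rw [← hfe ν] at h1
    unfold f4T
    rw [hGt_one, hGt_one, one_mul, one_mul]
    have c := f4_hcomm (K := K) 3 0 (by norm_num) (by norm_num) ν (f ν) hν0 hfν0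
    have s0 : chevF4.simple 0 = 33 := by decide
    have s3 : chevF4.simple 3 = 24 := by decide
    rw [s0, s3] at c
    rw [← c.eq]
    exact h1
  have e1 : f4T 1 (f μ) μ 1 = (f4T (f ν) 1 1 ν)⁻¹ * f4T (f ν) (f μ) μ ν := by
    rw [eq_inv_mul_iff_mul_eq, f4T_mul _ _ _ _ _ _ _ _ hfν0 one_ne_zero one_ne_zero hν0 one_ne_zero
      ((map_ne_zero f).mpr hμ) hμ one_ne_zero]
    simp
  rw [e1, ← hconj]
  exact Subgroup.mul_mem _ (Subgroup.inv_mem _ hh)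
    (Subgroup.mul_mem _ (Subgroup.mul_mem _ hn hh) (Subgroup.inv_mem _ hn))

include hff hfe in
/-- the fixed torus elements lie in the twisted group -/
theorem f4T_fix_mem (he : e ≠ 0) (τ ν : K) (hτ : τ ≠ 0) (hν : ν ≠ 0) :
    f4T (f τ) (f ν) ν τ ∈ twistedF4 K e := by
  have hfτ : f τ ≠ 0 := (map_ne_zero f).mpr hτ
  have hfν : f ν ≠ 0 := (map_ne_zero f).mpr hν
  have e1 : f4T (f τ) (f ν) ν τ = f4T (f τ) 1 1 τ * f4T 1 (f ν) ν 1 := by
    rw [f4T_mul _ _ _ _ _ _ _ _ hfτ one_ne_zero one_ne_zero hτ one_ne_zero hfν hν one_ne_zero]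
    simp
  rw [e1]
  refine Subgroup.mul_mem _ ?_ (f4hB_mem f hff e hfe he ν hν)
  have h1 := f4h_mem (K := K) e τ
  unfold f4h at h1
  rw [← hfe τ] at h1
  unfold f4T
  rw [hGt_one, hGt_one, one_mul, one_mul]
  have c := f4_hcomm (K := K) 3 0 (by norm_num) (by norm_num) τ (f τ) hτ hfτ
  have s0 : chevF4.simple 0 = 33 := by decide
  have s3 : chevF4.simple 3 = 24 := by decide
  rw [s0, s3] at c
  rw [← c.eq]
  exact h1

/-- the fixed points in the torus -/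
theorem f4_fix_H (y : GL chevF4.Idx K) (hy : y ∈ chevF4.diagonalSubgroup K)
    (hfix : f4sig f hff y = y) :
    ∃ τ ν : K, τ ≠ 0 ∧ ν ≠ 0 ∧ y = f4T (f τ) (f ν) ν τ := by
  obtain ⟨c0, c1, c2, c3, h0, h1, h2, h3, rfl⟩ := exists_f4T y hy
  rw [f4sig_f4T f hff c0 c1 c2 c3 h0 h1 h2 h3] at hfix
  obtain ⟨e0, e1, e2, e3⟩ := f4T_inj _ _ _ _ _ _ _ _ ((map_ne_zero f).mpr h3)
    ((map_ne_zero f).mpr h2) (pow_ne_zero _ ((map_ne_zero f).mpr h1))
    (pow_ne_zero _ ((map_ne_zero f).mpr h0)) h0 h1 h2 h3 hfix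
  refine ⟨c3, c2, h3, h2, ?_⟩
  rw [e0, e1]

include hff hfe in
/-- `H¹` consists of the fixed torus elements -/
theorem f4_H1_iff (he : e ≠ 0) (y : GL chevF4.Idx K) :
    y ∈ chevF4.diagonalSubgroup K ⊓ twistedF4 K e ↔
      ∃ τ ν : K, τ ≠ 0 ∧ ν ≠ 0 ∧ y = f4T (f τ) (f ν) ν τ := by
  constructor
  · rintro ⟨h1, h2⟩
    exact f4_fix_H f hff y h1 (f4_hfix f hff e hfe h2).2
  · rintro ⟨τ, ν, hτ, hν, rfl⟩
    exact ⟨f4T_mem_H _ _ _ _ ((map_ne_zero f).mpr hτ) ((map_ne_zero f).mpr hν) hν hτ,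
      f4T_fix_mem f hff e hfe he τ ν hτ hν⟩

include hff hfe in
/-- **the order of `H¹`** -/
theorem f4_card_H1 [Fintype K] (he : e ≠ 0) :
    Nat.card ↥(chevF4.diagonalSubgroup K ⊓ twistedF4 K e) = (Fintype.card K - 1) ^ 2 := by
  classical
  let Φ : Kˣ × Kˣ → ↥(chevF4.diagonalSubgroup K ⊓ twistedF4 K e) := fun p =>
    ⟨f4T (f p.1) (f p.2) p.2 p.1, (f4_H1_iff f hff e hfe he _).mpr
      ⟨p.1, p.2, Units.ne_zero _, Units.ne_zero _, rfl⟩⟩
  have hinj : Function.Injective Φ := by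
    rintro ⟨a, b⟩ ⟨a', b'⟩ h
    have h1 : f4T (f (a : K)) (f (b : K)) (b : K) (a : K) =
        f4T (f (a' : K)) (f (b' : K)) (b' : K) (a' : K) := congrArg Subtype.val h
    obtain ⟨-, -, e2, e3⟩ := f4T_inj _ _ _ _ _ _ _ _ ((map_ne_zero f).mpr (Units.ne_zero a))
      ((map_ne_zero f).mpr (Units.ne_zero b)) (Units.ne_zero b) (Units.ne_zero a)
      ((map_ne_zero f).mpr (Units.ne_zero a')) ((map_ne_zero f).mpr (Units.ne_zero b'))
      (Units.ne_zero b') (Units.ne_zero a') h1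
    exact Prod.ext (Units.ext e3) (Units.ext e2)
  have hsurj : Function.Surjective Φ := by
    rintro ⟨y, hy⟩
    obtain ⟨τ, ν, hτ, hν, rfl⟩ := (f4_H1_iff f hff e hfe he y).mp hy
    exact ⟨(Units.mk0 τ hτ, Units.mk0 ν hν), rfl⟩
  rw [← Nat.card_eq_of_bijective Φ ⟨hinj, hsurj⟩, Nat.card_prod, Nat.card_eq_fintype_card,
    Fintype.card_units, sq]

end

end Cfsg.Agent.helper5.Chev
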