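import Mathlib
import Cfsg.Agent.Lib_helper5_F4Q
import Cfsg.Agent.Lib_helper5_F4O
import Cfsg.Agent.Lib_helper5_ChevOrd

set_option autoImplicit false
set_option linter.unusedSectionVars false
set_option linter.unusedVariables false

open Cfsg

/-! The double coset axiom for the Ree groups `²F₄` (helper5). -/

namespace Cfsg.Agent.helper5.Chev

open Cfsg.Lie

section
variable {K : Type*} [Field K] [CharP K 2] (f : K →+* K) (hff : ∀ t : K, f (f t) ^ 2 = t)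

/-- a fixed element of a Bruhat cell `B m B` with `m ∈ G¹` lies in `B¹ m U¹` -/
theorem f4_fix_cell (G1 : Subgroup (GL chevF4.Idx K)) (hfix : G1 ≤ f4Fix f hff)
    (hKL : ∀ u ∈ chevF4.posUnipotent K, f4sig f hff u = u → u ∈ G1)
    (g m x y : GL chevF4.Idx K) (hg : g ∈ G1) (hm : m ∈ chevF4.monomialSubgroup K) (hm1 : m ∈ G1)
    (hx : x ∈ chevF4.borelSubgroup K) (hy : y ∈ chevF4.borelSubgroup K) (e : g = x * m * y) :
    ∃ b ∈ chevF4.borelSubgroup K ⊓ G1, ∃ u ∈ chevF4.posUnipotent K ⊓ G1, g = b * m * u := by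
  have hC := commOK_of_mem chevF4 f4_mem
  have hP := posCommOK_of_mem chevF4 f4_mem
  have hNH := N_le_normalizer_H (F := K) chevF4 f4_mem
  obtain ⟨h, hh, w, hw, hmw⟩ := mem_N_decomp chevF4 f4_mem m hm
  obtain ⟨u₂, hu₂, h₂, hh₂, ey⟩ := mem_borel chevF4 f4_mem _ (Subgroup.inv_mem _ hy)
  have ey' : y = h₂⁻¹ * u₂⁻¹ := by
    rw [← inv_inv y, ey, mul_inv_rev]
  obtain ⟨b₀, hb₀, u', hu', e2⟩ := bruhat_word chevF4 f4_mem hC hP _ w rfl hw u₂⁻¹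
    (Subgroup.inv_mem _ hu₂)
  have hh3 : nW chevF4 f4_mem w * h₂⁻¹ * (nW chevF4 f4_mem w)⁻¹ ∈ chevF4.diagonalSubgroup K :=
    (Subgroup.mem_normalizer_iff.mp (hNH (nW_mem chevF4 f4_mem w hw)) _).mp
      (Subgroup.inv_mem _ hh₂)
  obtain ⟨b₁, hb₁def⟩ : ∃ b₁, b₁ = x * h * (nW chevF4 f4_mem w * h₂⁻¹ *
      (nW chevF4 f4_mem w)⁻¹) * b₀ := ⟨_, rfl⟩
  have hb₁ : b₁ ∈ chevF4.borelSubgroup K := by
    rw [hb₁def]
    exact Subgroup.mul_mem _ (Subgroup.mul_mem _ (Subgroup.mul_mem _ hx (H_le_B chevF4 f4_mem hh))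
      (H_le_B chevF4 f4_mem hh3)) hb₀
  have eg : g = b₁ * nW chevF4 f4_mem w * u' := by
    rw [e, hmw, ey', hb₁def]
    have e3 : x * (h * nW chevF4 f4_mem w) * (h₂⁻¹ * u₂⁻¹) =
        x * h * (nW chevF4 f4_mem w * h₂⁻¹ * (nW chevF4 f4_mem w)⁻¹) *
          (nW chevF4 f4_mem w * u₂⁻¹) := by group
    rw [e3, e2]
    group
  have hwρ : ∀ j ∈ w.map f4rho, j < chevF4.rank := f4rho_map_lt w
  have hσm := (hfix hm1).2
  rw [hmw, f4sig_mul f hff _ _ (H_le_G4 hh) (nW_mem_G w), f4sig_nW f hff w hw] at hσm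
  obtain ⟨h', hh'def⟩ : ∃ h', h' = (f4sig f hff h)⁻¹ * h := ⟨_, rfl⟩
  have hh' : h' ∈ chevF4.diagonalSubgroup K := by
    rw [hh'def]
    exact Subgroup.mul_mem _ (Subgroup.inv_mem _ (f4sig_H f hff h hh)) hh
  have enw : nW chevF4 f4_mem (w.map f4rho) = h' * nW chevF4 f4_mem w := by
    rw [hh'def, mul_assoc, ← hσm]
    group
  have happ := applyW_eq_of_eq chevF4 f4_mem h' hh' _ _ hwρ hw enw
  have hUn : Uneg (F := K) chevF4 f4_mem (w.map f4rho) = Uneg chevF4 f4_mem w :=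
    Uneg_congr chevF4 f4_mem _ _ happ
  have hu'U : u' ∈ chevF4.posUnipotent K := Uneg_le_U chevF4 f4_mem w hu'
  have hσu' : f4sig f hff u' ∈ Uneg (F := K) chevF4 f4_mem w := by
    rw [← hUn]
    exact f4sig_Uneg f hff w hw u' hu'
  have hσg := (hfix hg).2
  rw [eg, f4sig_mul f hff _ _ (Subgroup.mul_mem _ (B_le_G4 hb₁) (nW_mem_G w)) (U_le_G4 hu'U),
    f4sig_mul f hff _ _ (B_le_G4 hb₁) (nW_mem_G w), f4sig_nW f hff w hw, enw] at hσg
  have e4 : (f4sig f hff b₁ * h') * nW chevF4 f4_mem w * f4sig f hff u' =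
      b₁ * nW chevF4 f4_mem w * u' := by
    rw [← hσg]
    group
  have hnwN := nW_mem (F := K) chevF4 f4_mem w hw
  obtain ⟨-, huniq⟩ := unique_form chevF4 f4_mem hC hP _ _ _ _ _ _
    (Subgroup.mul_mem _ (f4sig_B f hff b₁ hb₁) (H_le_B chevF4 f4_mem hh')) hb₁ hnwN hnwN
    (Uneg_le_UnegOf chevF4 f4_mem w hw hσu') (Uneg_le_UnegOf chevF4 f4_mem w hw hu') e4
  obtain ⟨-, hu'fix⟩ := huniq rfl
  have hu'G : u' ∈ G1 := hKL u' hu'U hu'fix
  have eg2 : g = (b₁ * h⁻¹) * m * u' := by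
    rw [eg, hmw]
    group
  refine ⟨b₁ * h⁻¹, ⟨Subgroup.mul_mem _ hb₁ (H_le_B chevF4 f4_mem (Subgroup.inv_mem _ hh)), ?_⟩, u',
    ⟨hu'U, hu'G⟩, eg2⟩
  have e5 : b₁ * h⁻¹ = g * u'⁻¹ * m⁻¹ := by
    rw [eg2]
    group
  rw [e5]
  exact G1.mul_mem (G1.mul_mem hg (G1.inv_mem hu'G)) (G1.inv_mem hm1)

/-- the double coset axiom -/
theorem f4_tw_mul_mem (G1 : Subgroup (GL chevF4.Idx K)) (hfix : G1 ≤ f4Fix f hff)
    (hKL : ∀ u ∈ chevF4.posUnipotent K, f4sig f hff u = u → u ∈ G1)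
    (c : List ℕ) (hc : ∀ i ∈ c, i < chevF4.rank) (hcG : nW chevF4 f4_mem c ∈ G1)
    (hsub : ∀ T' : List ℕ, T'.Sublist c →
      (∀ s < chevF4.nroots, applyW chevF4 (T'.map f4rho) s = applyW chevF4 T' s) →
      (∀ s < chevF4.nroots, applyW chevF4 T' s = s) ∨
      (∀ s < chevF4.nroots, applyW chevF4 T' s = applyW chevF4 c s))
    (n : GL chevF4.Idx K) (hn : n ∈ chevF4.monomialSubgroup K ⊓ G1)
    (b : GL chevF4.Idx K) (hb : b ∈ chevF4.borelSubgroup K ⊓ G1) :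
    nW chevF4 f4_mem c * b * n ∈
      DoubleCoset.doubleCoset (nW chevF4 f4_mem c * n)
        ((chevF4.borelSubgroup K ⊓ G1 : Subgroup _) : Set (GL chevF4.Idx K))
        (chevF4.borelSubgroup K ⊓ G1 : Subgroup _) ∪
      DoubleCoset.doubleCoset n
        ((chevF4.borelSubgroup K ⊓ G1 : Subgroup _) : Set (GL chevF4.Idx K))
        (chevF4.borelSubgroup K ⊓ G1 : Subgroup _) := by
  have hC := commOK_of_mem chevF4 f4_mem
  have hP := posCommOK_of_mem chevF4 f4_mem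
  have hNH := N_le_normalizer_H (F := K) chevF4 f4_mem
  obtain ⟨T', hT', x, hx, y, hy, e⟩ := nW_mul_mem chevF4 f4_mem hC hP c hc n hn.1 b hb.1
  have hTlt : ∀ j ∈ T', j < chevF4.rank := fun j hj => hc j (hT'.subset hj)
  have hTρ : ∀ j ∈ T'.map f4rho, j < chevF4.rank := f4rho_map_lt T'
  have hg : nW chevF4 f4_mem c * b * n ∈ G1 := G1.mul_mem (G1.mul_mem hcG hb.2) hn.2
  have hσg := (hfix hg).2
  have hnG : n ∈ chevF4.group K := N_le_G4 hn.1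
  have e' : nW chevF4 f4_mem c * b * n = f4sig f hff x * (nW chevF4 f4_mem (T'.map f4rho) * n) *
      f4sig f hff y := by
    conv_lhs => rw [← hσg, e]
    rw [f4sig_mul f hff _ _ (Subgroup.mul_mem _ (B_le_G4 hx) (Subgroup.mul_mem _ (nW_mem_G T') hnG))
        (B_le_G4 hy),
      f4sig_mul f hff _ _ (B_le_G4 hx) (Subgroup.mul_mem _ (nW_mem_G T') hnG),
      f4sig_mul f hff _ _ (nW_mem_G T') hnG, f4sig_nW f hff T' hTlt, (hfix hn.2).2]
  have hcu := cell_unique chevF4 f4_mem hC hP x y _ _ (nW chevF4 f4_mem T' * n)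
    (nW chevF4 f4_mem (T'.map f4rho) * n)
    hx hy (f4sig_B f hff x hx) (f4sig_B f hff y hy)
    (Subgroup.mul_mem _ (nW_mem chevF4 f4_mem T' hTlt) hn.1)
    (Subgroup.mul_mem _ (nW_mem chevF4 f4_mem _ hTρ) hn.1) (e.symm.trans e')
  have h1 : n * ((nW chevF4 f4_mem T' * n)⁻¹ * (nW chevF4 f4_mem (T'.map f4rho) * n)) * n⁻¹ ∈
      chevF4.diagonalSubgroup K := (Subgroup.mem_normalizer_iff.mp (hNH hn.1) _).mp hcu
  have e1 : n * ((nW chevF4 f4_mem T' * n)⁻¹ * (nW chevF4 f4_mem (T'.map f4rho) * n)) * n⁻¹ =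
      (nW chevF4 f4_mem T')⁻¹ * nW chevF4 f4_mem (T'.map f4rho) := by group
  rw [e1] at h1
  have h2 : nW chevF4 f4_mem T' * ((nW chevF4 f4_mem T')⁻¹ * nW chevF4 f4_mem (T'.map f4rho)) *
      (nW chevF4 f4_mem T')⁻¹ ∈ chevF4.diagonalSubgroup K :=
    (Subgroup.mem_normalizer_iff.mp (hNH (nW_mem chevF4 f4_mem T' hTlt)) _).mp h1
  have e2 : nW (F := K) chevF4 f4_mem (T'.map f4rho) =
      (nW chevF4 f4_mem T' * ((nW chevF4 f4_mem T')⁻¹ * nW chevF4 f4_mem (T'.map f4rho)) *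
        (nW chevF4 f4_mem T')⁻¹) * nW chevF4 f4_mem T' := by group
  have happ := applyW_eq_of_eq chevF4 f4_mem _ h2 _ _ hTρ hTlt e2
  rcases hsub T' hT' happ with hid | hc'
  · right
    have hTH : nW (F := K) chevF4 f4_mem T' ∈ chevF4.diagonalSubgroup K :=
      nW_mem_H chevF4 f4_mem T' hTlt hid
    have e3 : nW chevF4 f4_mem c * b * n = (x * nW chevF4 f4_mem T') * n * y := by
      rw [e]
      group
    obtain ⟨b', hb', u, hu, e4⟩ := f4_fix_cell f hff G1 hfix hKL _ n _ y hg hn.1 hn.2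
      (Subgroup.mul_mem _ hx (H_le_B chevF4 f4_mem hTH)) hy e3
    exact DoubleCoset.mem_doubleCoset.mpr ⟨b', hb', u, ⟨U_le_B chevF4 f4_mem hu.1, hu.2⟩, e4⟩
  · left
    obtain ⟨h₄, hh₄, e4⟩ := nW_eq_of_applyW_eq (F := K) chevF4 f4_mem T' c hTlt hc hc'
    have e3 : nW chevF4 f4_mem c * b * n = (x * h₄) * (nW chevF4 f4_mem c * n) * y := by
      rw [e, e4]
      group
    obtain ⟨b', hb', u, hu, e5⟩ := f4_fix_cell f hff G1 hfix hKL _ (nW chevF4 f4_mem c * n) _ y hg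
      (Subgroup.mul_mem _ (nW_mem chevF4 f4_mem c hc) hn.1) (G1.mul_mem hcG hn.2)
      (Subgroup.mul_mem _ hx (H_le_B chevF4 f4_mem hh₄)) hy e3
    exact DoubleCoset.mem_doubleCoset.mpr ⟨b', hb', u, ⟨U_le_B chevF4 f4_mem hu.1, hu.2⟩, e5⟩

end

end Cfsg.Agent.helper5.Chev
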