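import Mathlib
import Cfsg.Agent.Lib_helper5_F4R

set_option autoImplicit false
set_option linter.unusedSectionVars false
set_option linter.unusedVariables false

open Cfsg

/-! The (B,N)-pair of the Ree groups `²F₄` (helper5). -/

namespace Cfsg.Agent.helper5.Chev

open Cfsg.Lie

/-- the classes of fundamental reflections of `²F₄` -/
def f4cs0 : List (List ℕ) := [[3, 0], [1, 2, 1, 2]]

/-- the `ρ`-stable sub-products of a chunk are trivial or the whole chunk, as elements of `W` -/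
def f4subChk (c : List ℕ) : Bool :=
  c.sublists.all fun T =>
    ((List.range 48).all fun s => applyW chevF4 T s == s) ||
    ((List.range 48).all fun s => applyW chevF4 T s == applyW chevF4 c s) ||
    !((List.range 48).all fun s => applyW chevF4 (T.map f4rho) s == applyW chevF4 T s)

set_option maxRecDepth 1000000 in
set_option maxHeartbeats 0 in
theorem f4subChk_ok : ∀ c ∈ f4cs0, f4subChk c = true := by decide +kernel

set_option maxRecDepth 1000000 in
set_option maxHeartbeats 0 in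
theorem f4_sqW : ∀ c ∈ f4cs0, ∀ s : Fin 48, applyW chevF4 (c ++ c) s.val = s.val := by
  decide +kernel

set_option maxRecDepth 1000000 in
theorem f4_cs0_facts : applyW chevF4 [3, 0] 24 ≠ applyW chevF4 [1, 2, 1, 2] 24 ∧
    orthChk chevF4 33 24 = true ∧ redRB chevF4 [0, 3] = true ∧
    redRB chevF4 [2, 1, 2, 1] = true ∧ chevF4.IsPosRoot 28 ∧ chevF4.IsPosRoot 30 ∧
    chevF4.IsNegRoot (applyW chevF4 [1, 2, 1, 2] 28) ∧
    chevF4.IsNegRoot (applyW chevF4 [1, 2, 1, 2] 30) := by decide +kernel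

theorem f4subChk_sub (c : List ℕ) (h : f4subChk c = true) :
    ∀ T' : List ℕ, T'.Sublist c →
      (∀ s < chevF4.nroots, applyW chevF4 (T'.map f4rho) s = applyW chevF4 T' s) →
      (∀ s < chevF4.nroots, applyW chevF4 T' s = s) ∨
      (∀ s < chevF4.nroots, applyW chevF4 T' s = applyW chevF4 c s) := by
  unfold f4subChk at h
  rw [List.all_eq_true] at h
  intro T hT happ
  have h3 := h T (List.mem_sublists.mpr hT)
  rw [Bool.or_eq_true, Bool.or_eq_true] at h3
  rcases h3 with (h3 | h3) | h3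
  · left
    rw [List.all_eq_true] at h3
    intro s hs
    exact beq_iff_eq.mp (h3 s (List.mem_range.mpr hs))
  · right
    rw [List.all_eq_true] at h3
    intro s hs
    exact beq_iff_eq.mp (h3 s (List.mem_range.mpr hs))
  · exfalso
    rw [Bool.not_eq_true', ← Bool.not_eq_true] at h3
    apply h3
    rw [List.all_eq_true]
    intro s hs
    exact beq_iff_eq.mpr (happ s (List.mem_range.mp hs))

theorem f4cs0_lt : ∀ c ∈ f4cs0, ∀ i ∈ c, i < chevF4.rank := by decide

theorem f4cs0_inj : ∀ c ∈ f4cs0, ∀ c' ∈ f4cs0,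
    (∀ s < chevF4.nroots, applyW chevF4 c s = applyW chevF4 c' s) → c = c' := by
  intro c hc c' hc' h
  have hne := f4_cs0_facts.1
  simp only [f4cs0, List.mem_cons, List.not_mem_nil, or_false] at hc hc'
  rcases hc with rfl | rfl <;> rcases hc' with rfl | rfl
  · rfl
  · exact absurd (h 24 (by decide)) hne
  · exact absurd (h 24 (by decide)).symm hne
  · rfl

section
variable {K : Type*} [Field K] [CharP K 2] (f : K →+* K) (hff : ∀ t : K, f (f t) ^ 2 = t)
  (e : ℕ) (hfe : ∀ t : K, f t = t ^ e)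

theorem f4cs0_mem (he : e ≠ 0) : ∀ c ∈ f4cs0, nW (F := K) chevF4 f4_mem c ∈ twistedF4 K e := by
  intro c hc
  simp only [f4cs0, List.mem_cons, List.not_mem_nil, or_false] at hc
  rcases hc with rfl | rfl
  · exact f4_nA_mem e
  · exact f4_nB_mem e he

theorem f4_n0_closure : nW (F := K) chevF4 f4_mem twF4w0 ∈
    Subgroup.closure {s : GL chevF4.Idx K | ∃ c ∈ f4cs0, s = nW chevF4 f4_mem c} := by
  have h1 : nW (F := K) chevF4 f4_mem ([3, 0] ++ [1, 2, 1, 2]) ∈
      Subgroup.closure {s : GL chevF4.Idx K | ∃ c ∈ f4cs0, s = nW chevF4 f4_mem c} := by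
    rw [nW_append]
    refine Subgroup.mul_mem _ ?_ ?_
    · exact Subgroup.subset_closure ⟨[3, 0], by decide, rfl⟩
    · exact Subgroup.subset_closure ⟨[1, 2, 1, 2], by decide, rfl⟩
  have e1 : twF4w0 = (([3, 0] ++ [1, 2, 1, 2]) ++ ([3, 0] ++ [1, 2, 1, 2])) ++
      (([3, 0] ++ [1, 2, 1, 2]) ++ ([3, 0] ++ [1, 2, 1, 2])) := rfl
  rw [e1, nW_append, nW_append]
  exact Subgroup.mul_mem _ (Subgroup.mul_mem _ h1 h1) (Subgroup.mul_mem _ h1 h1)

theorem f4_gen (he : e ≠ 0) : twistedF4 K e ≤ Subgroup.closure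
    (((chevF4.borelSubgroup K ⊓ twistedF4 K e : Subgroup (GL chevF4.Idx K)) :
      Set (GL chevF4.Idx K)) ∪ {s | ∃ c ∈ f4cs0, s = nW chevF4 f4_mem c}) := by
  have hSG : {s : GL chevF4.Idx K | ∃ c ∈ f4cs0, s = nW chevF4 f4_mem c} ⊆
      (twistedF4 K e : Set (GL chevF4.Idx K)) := by
    rintro s ⟨c, hc, rfl⟩
    exact f4cs0_mem e he c hc
  have hT : twistedF4 K e = Subgroup.closure {g : GL chevF4.Idx K | ∃ w ∈ f4Words K e,
      (g : Matrix chevF4.Idx chevF4.Idx K) = chevF4.wordMat K w} := rfl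
  conv_lhs => rw [hT]
  rw [Subgroup.closure_le]
  rintro g ⟨w, hw, hgw⟩
  have hgG : g ∈ twistedF4 K e := Subgroup.subset_closure ⟨w, hw, hgw⟩
  apply tw_gen_of_UV chevF4 f4_mem (twistedF4 K e) _ hSG twF4w0 twF4w0_ok f4_n0_closure g hgG
  have hpos : ∀ r t, chevF4.IsPosRoot r → xG (F := K) chevF4 f4_mem r t ∈ chevF4.posUnipotent K :=
    fun r t hr => Subgroup.subset_closure ⟨r, t, hr, xG_val chevF4 f4_mem r t⟩
  have hneg : ∀ r t, chevF4.IsNegRoot r → xG (F := K) chevF4 f4_mem r t ∈ chevF4.negUnipotent K :=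
    fun r t hr => Subgroup.subset_closure ⟨r, t, hr, xG_val chevF4 f4_mem r t⟩
  have hgw' : g = f4w w := Units.ext (by rw [hgw, f4w_val])
  rw [hgw']
  rcases hw with ⟨t, rfl | rfl⟩ | ⟨t, u, rfl | rfl⟩
  · left
    unfold f4w f4PairWord f4p1 f4p4
    simp only [List.map_cons, List.map_nil, List.prod_cons, List.prod_nil, mul_one]
    exact Subgroup.mul_mem _ (hpos _ _ (by decide)) (hpos _ _ (by decide))
  · right
    unfold f4w f4PairWord f4m1 f4m4
    simp only [List.map_cons, List.map_nil, List.prod_cons, List.prod_nil, mul_one]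
    exact Subgroup.mul_mem _ (hneg _ _ (by decide)) (hneg _ _ (by decide))
  · left
    unfold f4w b2ClassWord f4a f4b f4ab f4aab
    simp only [List.map_cons, List.map_nil, List.prod_cons, List.prod_nil, mul_one]
    exact Subgroup.mul_mem _ (hpos _ _ (by decide)) (Subgroup.mul_mem _ (hpos _ _ (by decide))
      (Subgroup.mul_mem _ (hpos _ _ (by decide)) (hpos _ _ (by decide))))
  · right
    unfold f4w b2ClassWord f4ma f4mb f4mab f4maab
    simp only [List.map_cons, List.map_nil, List.prod_cons, List.prod_nil, mul_one]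
    exact Subgroup.mul_mem _ (hneg _ _ (by decide)) (Subgroup.mul_mem _ (hneg _ _ (by decide))
      (Subgroup.mul_mem _ (hneg _ _ (by decide)) (hneg _ _ (by decide))))

theorem f4_ne (he : e ≠ 0) : ∀ c ∈ f4cs0, ∃ x ∈ chevF4.borelSubgroup K ⊓ twistedF4 K e,
    nW chevF4 f4_mem c * x * (nW chevF4 f4_mem c)⁻¹ ∉ chevF4.borelSubgroup K := by
  obtain ⟨-, horth, hred2, hred4, p28, p30, n28, n30⟩ := f4_cs0_facts
  have s0 : chevF4.simple 0 = 33 := by decide
  have s3 : chevF4.simple 3 = 24 := by decide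
  have hposU : ∀ r t, chevF4.IsPosRoot r → xG (F := K) chevF4 f4_mem r t ∈ chevF4.posUnipotent K :=
    fun r t hr => Subgroup.subset_closure ⟨r, t, hr, xG_val chevF4 f4_mem r t⟩
  intro c hc
  simp only [f4cs0, List.mem_cons, List.not_mem_nil, or_false] at hc
  rcases hc with rfl | rfl
  · have hx := f4_pair_pos (K := K) e 1
    rw [one_pow] at hx
    refine ⟨xG chevF4 f4_mem 24 1 * xG chevF4 f4_mem 33 1, ⟨?_, hx⟩, ?_⟩
    · exact U_le_B chevF4 f4_mem (Subgroup.mul_mem _ (hposU _ _ (by decide)) (hposU _ _ (by decide)))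
    · have h := chunk_conj_not_mem_B (F := K) chevF4 f4_mem [0, 3]
        (by
          unfold ChunkOrth
          rw [List.pairwise_cons]
          refine ⟨?_, List.pairwise_singleton _ _⟩
          intro j hj
          rw [List.mem_singleton.mp hj, s0, s3]
          exact horth) hred2 (by simp)
      have e1 : nR (F := K) chevF4 f4_mem [0, 3] = nW chevF4 f4_mem [3, 0] := rfl
      have e2 : chunkX chevF4 f4_mem [0, 3] (fun _ => (1 : K)) =
          xG chevF4 f4_mem 24 1 * xG chevF4 f4_mem 33 1 := by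
        unfold chunkX
        simp [s0, s3]
      rw [e1, e2] at h
      exact h
  · have hx := f4G_mem (K := K) e (27, 25, 28, 30) (by decide) 0 1
    have ex : f4G e (27, 25, 28, 30) (0 : K) 1 = xG chevF4 f4_mem 28 1 * xG chevF4 f4_mem 30 1 := by
      unfold f4G
      rw [zero_pow he, zero_pow (by omega), one_pow, zero_add, xG_zero, xG_zero, one_mul, one_mul]
    rw [ex] at hx
    refine ⟨xG chevF4 f4_mem 28 1 * xG chevF4 f4_mem 30 1, ⟨?_, hx⟩, ?_⟩
    · exact U_le_B chevF4 f4_mem (Subgroup.mul_mem _ (hposU _ _ p28) (hposU _ _ p30))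
    · intro hB
      have hw : ∀ i ∈ [1, 2, 1, 2], i < chevF4.rank := by decide
      have hU : xG chevF4 f4_mem 28 1 * xG chevF4 f4_mem 30 (1 : K) ∈
          Uneg (F := K) chevF4 f4_mem [1, 2, 1, 2] :=
        Subgroup.mul_mem _ (xG_mem_Uneg chevF4 f4_mem _ 28 p28 n28 1)
          (xG_mem_Uneg chevF4 f4_mem _ 30 p30 n30 1)
      have hV := conj_UnegOf_mem_V chevF4 (nW chevF4 f4_mem [1, 2, 1, 2]) _
        (Uneg_le_UnegOf chevF4 f4_mem [1, 2, 1, 2] hw hU)
      have h1 : nW chevF4 f4_mem [1, 2, 1, 2] * (xG chevF4 f4_mem 28 1 * xG chevF4 f4_mem 30 (1 : K)) *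
          (nW chevF4 f4_mem [1, 2, 1, 2])⁻¹ ∈ chevF4.borelSubgroup K ⊓ chevF4.negUnipotent K :=
        ⟨hB, hV⟩
      rw [B_inf_V chevF4 f4_mem, Subgroup.mem_bot] at h1
      have hx1 : xG chevF4 f4_mem 28 1 * xG chevF4 f4_mem 30 (1 : K) = 1 := by
        have e' : xG chevF4 f4_mem 28 1 * xG chevF4 f4_mem 30 (1 : K) =
            (nW chevF4 f4_mem [1, 2, 1, 2])⁻¹ * (nW chevF4 f4_mem [1, 2, 1, 2] *
              (xG chevF4 f4_mem 28 1 * xG chevF4 f4_mem 30 (1 : K)) *
              (nW chevF4 f4_mem [1, 2, 1, 2])⁻¹) * nW chevF4 f4_mem [1, 2, 1, 2] := by group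
        rw [e', h1]
        group
      have h1SR : (1 : GL chevF4.Idx K) ∈ SR (F := K) chevF4 f4_mem [] := by simp [SR]
      obtain ⟨t, ht⟩ : ∃ t : ℕ → K, t = consFn 0 (consFn 1 (consFn 1 (consFn 0 (fun _ => 0)))) :=
        ⟨_, rfl⟩
      have et : srForm chevF4 f4_mem [2, 1, 2, 1] (1 : GL chevF4.Idx K) t =
          srForm chevF4 f4_mem [2, 1, 2, 1] 1 (fun _ => 0) := by
        rw [srForm_B2, srForm_B2]
        have t0 : t 0 = 0 := by rw [ht]; rfl
        have t1 : t 1 = 1 := by rw [ht]; rfl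
        have t2 : t 2 = 1 := by rw [ht]; rfl
        have t3 : t 3 = 0 := by rw [ht]; rfl
        rw [t0, t1, t2, t3]
        unfold f4P
        simp only [xG_zero, one_mul, mul_one]
        rw [mul_assoc, hx1, mul_one]
      have hinj := srForm_inj chevF4 f4_mem [2, 1, 2, 1] [] (by simpa using hred4) 1 1 h1SR h1SR
        _ _ et
      have h2 := hinj.2 1 (by norm_num)
      have t1 : t 1 = 1 := by rw [ht]; rfl
      rw [t1] at h2
      exact one_ne_zero h2

include hff hfe in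
/-- **the (B,N)-pair of the Ree groups `²F₄`** -/
theorem f4_bnpair [Finite K] (he : e ≠ 0) :
    ∃ Q : Cfsg.BNPair ↥(twistedF4 K e),
      Q.B = (chevF4.borelSubgroup K ⊓ twistedF4 K e).subgroupOf (twistedF4 K e) ∧
      Q.N = (chevF4.monomialSubgroup K ⊓ twistedF4 K e).subgroupOf (twistedF4 K e) ∧
      Q.S = {k : ↥(twistedF4 K e) | (k : GL chevF4.Idx K) ∈
        {s : GL chevF4.Idx K | ∃ c ∈ f4cs0, s = nW chevF4 f4_mem c}} := by
  refine tw_bnpair_abs chevF4 f4_mem (commOK_of_mem _ f4_mem) (posCommOK_of_mem _ f4_mem)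
    (twistedF4 K e) f4cs0 f4cs0_lt (f4cs0_mem e he) ?_ f4cs0_inj ?_ (f4_gen e he) (f4_ne e he)
  · intro c hc s hs
    exact f4_sqW c hc ⟨s, hs⟩
  · intro c hc n hn b hb
    exact f4_tw_mul_mem f hff (twistedF4 K e) (f4_hfix f hff e hfe)
      (f4_fix_U_mem f hff e hfe he) c (f4cs0_lt c hc) (f4cs0_mem e he c hc)
      (f4subChk_sub c (f4subChk_ok c hc)) n hn b hb

end

end Cfsg.Agent.helper5.Chev
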