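import Mathlib
import Cfsg.Agent.Lib_helper5_TwBN3
import Cfsg.Agent.S0319

set_option autoImplicit false

open Cfsg

/-! Irreducibility of the (B,N)-pair of a twisted group and Tits' simplicity criterion
(helper5). -/

namespace Cfsg.Agent.helper5.Chev

open Cfsg.Lie Cfsg.Agent.helper6.Graph

/-- two chunks do not commute in `W` -/
def chunkAdjChk (D : ChevalleyDatum) (c c' : List ℕ) : Bool :=
  (List.range D.nroots).any fun s => applyW D (c ++ (c' ++ (c ++ c'))) s != s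

/-- consecutive chunks of the list do not commute in `W` -/
def chunkPathChk (D : ChevalleyDatum) (cs : List (List ℕ)) : Bool :=
  (List.range (cs.length - 1)).all fun k => chunkAdjChk D (cs.getD k []) (cs.getD (k + 1) [])

theorem chunkAdjChk_spec (D : ChevalleyDatum) (c c' : List ℕ) (h : chunkAdjChk D c c' = true) :
    ∃ s < D.nroots, applyW D (c ++ (c' ++ (c ++ c'))) s ≠ s := by
  unfold chunkAdjChk at h
  rw [List.any_eq_true] at h
  obtain ⟨s, hs, h1⟩ := h
  exact ⟨s, List.mem_range.mp hs, by simpa using h1⟩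

/-- discrete intermediate value argument along a path -/
theorem path_conn (n : ℕ) (p : ℕ → Prop) (i j : ℕ) (hi : i < n) (hj : j < n) (hpi : p i)
    (hpj : ¬ p j) : ∃ k, k + 1 < n ∧ ((p k ∧ ¬ p (k + 1)) ∨ (¬ p k ∧ p (k + 1))) := by
  by_contra hcon
  push Not at hcon
  have key : ∀ k, k < n → (p k ↔ p 0) := by
    intro k
    induction k with
    | zero => intro _; rfl
    | succ k ih =>
      intro hk
      have h1 := ih (by omega)
      have h2 := hcon k hk
      rw [← h1]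
      constructor
      · intro h
        by_contra hn
        exact h2.2 hn h
      · intro h
        exact h2.1 h
  exact hpj ((key j hj).mpr ((key i hi).mp hpi))

section
variable {F : Type*} [Field F] (D : ChevalleyDatum)
  (hD : D ∈ [chevG2, chevB2, chevD4, chevF4, chevE6, chevE7, chevE8])

/-- the commutator of the representatives of two non-commuting chunks is not in `B` -/
theorem comm_nW_not_mem_B (c c' : List ℕ) (hc : ∀ i ∈ c, i < D.rank) (hc' : ∀ i ∈ c', i < D.rank)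
    (hsq : ∀ s < D.nroots, applyW D (c ++ c) s = s)
    (hsq' : ∀ s < D.nroots, applyW D (c' ++ c') s = s)
    (hmv : ∃ s < D.nroots, applyW D (c ++ (c' ++ (c ++ c'))) s ≠ s) :
    nW D hD c * nW D hD c' * (nW D hD c)⁻¹ * (nW (F := F) D hD c')⁻¹ ∉ D.borelSubgroup F := by
  have hNH := N_le_normalizer_H (F := F) D hD
  intro hB
  obtain ⟨na, hna⟩ : ∃ n, n = nW (F := F) D hD c := ⟨_, rfl⟩
  obtain ⟨nb, hnb⟩ : ∃ n, n = nW (F := F) D hD c' := ⟨_, rfl⟩
  rw [← hna, ← hnb] at hB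
  have hnaN : na ∈ D.monomialSubgroup F := by
    rw [hna]; exact nW_mem D hD c hc
  have hnbN : nb ∈ D.monomialSubgroup F := by
    rw [hnb]; exact nW_mem D hD c' hc'
  have hcc : ∀ i ∈ c ++ c, i < D.rank := by
    intro i hi
    rcases List.mem_append.mp hi with hi | hi <;> exact hc i hi
  have hcc' : ∀ i ∈ c' ++ c', i < D.rank := by
    intro i hi
    rcases List.mem_append.mp hi with hi | hi <;> exact hc' i hi
  have ha2 : (na * na)⁻¹ ∈ D.diagonalSubgroup F := by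
    rw [hna, ← nW_append]
    exact Subgroup.inv_mem _ (nW_mem_H D hD _ hcc hsq)
  have hb2 : (nb * nb)⁻¹ ∈ D.diagonalSubgroup F := by
    rw [hnb, ← nW_append]
    exact Subgroup.inv_mem _ (nW_mem_H D hD _ hcc' hsq')
  have hconj : ∀ n ∈ D.monomialSubgroup F, ∀ h ∈ D.diagonalSubgroup F,
      n * h * n⁻¹ ∈ D.diagonalSubgroup F := fun n hn h hh =>
    (Subgroup.mem_normalizer_iff.mp (hNH hn) h).mp hh
  have h1 := hconj _ (Subgroup.inv_mem _ hnaN) _ hb2
  have h2 := Subgroup.mul_mem _ h1 ha2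
  have h3 := hconj _ hnbN _ h2
  have h4 := hconj _ hnaN _ h3
  have e : na * nb * na⁻¹ * nb⁻¹ =
      (na * (nb * (na⁻¹ * (nb * nb)⁻¹ * na⁻¹⁻¹ * (na * na)⁻¹) * nb⁻¹) * na⁻¹) *
        nW D hD (c ++ (c' ++ (c ++ c'))) := by
    rw [nW_append, nW_append, nW_append, ← hna, ← hnb]
    group
  rw [e] at hB
  have hw : ∀ i ∈ c ++ (c' ++ (c ++ c')), i < D.rank := by
    intro i hi
    simp only [List.mem_append] at hi
    rcases hi with hi | hi | hi | hi
    · exact hc i hi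
    · exact hc' i hi
    · exact hc i hi
    · exact hc' i hi
  obtain ⟨s, hs, hne⟩ := hmv
  exact hne (applyW_eq_of_mem_B D hD _ h4 _ hw hB s hs)

end

section
variable {K : Type*} [Field K] (D : ChevalleyDatum)
  (hD : D ∈ [chevG2, chevB2, chevD4, chevF4, chevE6, chevE7, chevE8])

/-- irreducibility of the (B,N)-pair of a twisted group whose chunks form a path -/
theorem tw_irreducible (C : Cert) (G1 : Subgroup (GL D.Idx K)) (cs0 : List (List ℕ))
    (hlt : ∀ c ∈ cs0, ∀ i ∈ c, i < D.rank)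
    (hmem : ∀ c ∈ cs0, nW D hD c ∈ G1)
    (hchk : ∀ c ∈ cs0, chunkBNChk D C c = true)
    (hpath : chunkPathChk D cs0 = true)
    (Q : Cfsg.BNPair ↥G1) (hQB : Q.B = (D.borelSubgroup K ⊓ G1).subgroupOf G1)
    (hQS : Q.S = {k : ↥G1 | (k : GL D.Idx K) ∈
      {s : GL D.Idx K | ∃ c ∈ cs0, s = nW D hD c}}) : Q.Irreducible := by
  have hSeq : ∀ k : ↥G1, k ∈ Q.S ↔ ∃ c ∈ cs0, (k : GL D.Idx K) = nW D hD c := by
    intro k
    rw [hQS]
    rfl
  have hget : ∀ k, k < cs0.length → cs0.getD k [] ∈ cs0 := by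
    intro k hk
    rw [List.getD_eq_getElem _ _ hk]
    exact List.getElem_mem hk
  intro J hJ ⟨k₁, hk₁⟩ ⟨k₂, hk₂, hk₂'⟩
  obtain ⟨c₁, hc₁, hkc₁⟩ := (hSeq k₁).mp (hJ hk₁)
  obtain ⟨c₂, hc₂, hkc₂⟩ := (hSeq k₂).mp hk₂
  obtain ⟨i₁, hi₁, hci₁⟩ := List.getElem_of_mem hc₁
  obtain ⟨i₂, hi₂, hci₂⟩ := List.getElem_of_mem hc₂
  obtain ⟨k, hk, hcase⟩ := path_conn cs0.length
    (fun i => ∃ x ∈ J, (x : GL D.Idx K) = nW D hD (cs0.getD i [])) i₁ i₂ hi₁ hi₂
    ⟨k₁, hk₁, by rw [hkc₁, List.getD_eq_getElem _ _ hi₁, hci₁]⟩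
    (by
      rintro ⟨x, hxJ, hx⟩
      rw [List.getD_eq_getElem _ _ hi₂, hci₂, ← hkc₂] at hx
      have : x = k₂ := Subtype.ext hx
      rw [this] at hxJ
      exact hk₂' hxJ)
  have hka := hget k (by omega)
  have hkb := hget (k + 1) hk
  have hadj : chunkAdjChk D (cs0.getD k []) (cs0.getD (k + 1) []) = true := by
    unfold chunkPathChk at hpath
    rw [List.all_eq_true] at hpath
    exact hpath k (List.mem_range.mpr (by omega))
  have hnot := comm_nW_not_mem_B (F := K) D hD _ _ (hlt _ hka) (hlt _ hkb)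
    (chunkBNChk_sq D C _ (hchk _ hka)) (chunkBNChk_sq D C _ (hchk _ hkb))
    (chunkAdjChk_spec D _ _ hadj)
  rcases hcase with ⟨⟨x, hxJ, hx⟩, hnp⟩ | ⟨hnp, ⟨x, hxJ, hx⟩⟩
  · refine ⟨x, hxJ, ⟨_, hmem _ hkb⟩, ⟨(hSeq _).mpr ⟨_, hkb, rfl⟩, fun hm => hnp ⟨_, hm, rfl⟩⟩, ?_⟩
    rw [hQB, Subgroup.mem_subgroupOf]
    simp only [Subgroup.coe_mul, Subgroup.coe_inv, hx]
    exact fun h => hnot h.1
  · refine ⟨x, hxJ, ⟨_, hmem _ hka⟩, ⟨(hSeq _).mpr ⟨_, hka, rfl⟩, fun hm => hnp ⟨_, hm, rfl⟩⟩, ?_⟩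
    rw [hQB, Subgroup.mem_subgroupOf]
    simp only [Subgroup.coe_mul, Subgroup.coe_inv, hx]
    intro h
    apply hnot
    have e : nW D hD (cs0.getD k []) * nW D hD (cs0.getD (k + 1) []) *
        (nW D hD (cs0.getD k []))⁻¹ * (nW (F := K) D hD (cs0.getD (k + 1) []))⁻¹ =
        (nW D hD (cs0.getD (k + 1) []) * nW D hD (cs0.getD k []) *
          (nW D hD (cs0.getD (k + 1) []))⁻¹ * (nW (F := K) D hD (cs0.getD k []))⁻¹)⁻¹ := by
      group
    rw [e]
    exact Subgroup.inv_mem _ h.1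

/-- **Tits' simplicity criterion applied to a twisted group** -/
theorem tw_simple_of (G1 : Subgroup (GL D.Idx K)) (Q : Cfsg.BNPair ↥G1)
    (hQB : Q.B = (D.borelSubgroup K ⊓ G1).subgroupOf G1) (hirr : Q.Irreducible)
    (hperf : commutator ↥G1 = ⊤) (hsolv : Group.IsSolvable ↥(D.borelSubgroup K))
    (hcore : ((D.borelSubgroup K ⊓ G1).subgroupOf G1).normalCore = ⊥)
    (hnt : ∃ g ∈ G1, g ≠ 1) :
    IsSimpleGroup ↥G1 ∧ ¬ IsMulCommutative ↥G1 := by
  obtain ⟨g, hg, hg1⟩ := hnt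
  haveI : Nontrivial ↥G1 := ⟨⟨⟨g, hg⟩, 1, fun h => hg1 (congrArg Subtype.val h)⟩⟩
  have hsolvB : Group.IsSolvable ↥Q.B := by
    rw [hQB]
    exact solvable_of_solvable_injective
      (f := (G1.subtype.comp ((D.borelSubgroup K ⊓ G1).subgroupOf G1).subtype).codRestrict
        (D.borelSubgroup K) (fun x => (Subgroup.mem_subgroupOf.mp x.2).1))
      (by
        intro x y hxy
        have := congrArg Subtype.val hxy
        exact Subtype.ext (Subtype.ext this))
  have hcoreB : Q.B.normalCore = ⊥ := by rw [hQB]; exact hcore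
  refine ⟨Cfsg.Agent.S0319.result Q hirr hsolvB hperf hcoreB, ?_⟩
  intro hcomm
  rw [isMulCommutative_iff] at hcomm
  have hbot : commutator ↥G1 = ⊥ := by
    rw [commutator_def, Subgroup.commutator_def, eq_bot_iff, Subgroup.closure_le]
    rintro g ⟨a, -, b, -, rfl⟩
    rw [SetLike.mem_coe, Subgroup.mem_bot, commutatorElement_def, hcomm a b]
    group
  rw [hbot] at hperf
  exact bot_ne_top hperf

end

end Cfsg.Agent.helper5.Chev
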