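import Mathlib
import Cfsg.Agent.Lib_helper5_F4S
import Cfsg.Agent.Lib_helper5_TwSimple
import Cfsg.Agent.S1050

set_option autoImplicit false
set_option linter.unusedSectionVars false
set_option linter.unusedVariables false

open Cfsg

/-! The Ree groups `²F₄(q)`, `q > 2`, are simple (helper5). -/

namespace Cfsg.Agent.helper5.Chev

open Cfsg.Lie

set_option maxRecDepth 1000000 in
theorem f4_mv : applyW chevF4 ([3, 0] ++ ([1, 2, 1, 2] ++ ([3, 0] ++ [1, 2, 1, 2]))) 24 ≠ 24 ∧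
    applyW chevF4 ([1, 2, 1, 2] ++ ([3, 0] ++ ([1, 2, 1, 2] ++ [3, 0]))) 24 ≠ 24 ∧
    applyW chevF4 [3, 0] 24 ≠ applyW chevF4 [] 24 := by decide +kernel

section
variable {K : Type*} [Field K] [CharP K 2]

theorem f4_irreducible (G1 : Subgroup (GL chevF4.Idx K)) (Q : Cfsg.BNPair ↥G1)
    (hQB : Q.B = (chevF4.borelSubgroup K ⊓ G1).subgroupOf G1)
    (hQS : Q.S = {k : ↥G1 | (k : GL chevF4.Idx K) ∈
      {s : GL chevF4.Idx K | ∃ c ∈ f4cs0, s = nW chevF4 f4_mem c}}) : Q.Irreducible := by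
  obtain ⟨mv1, mv2, -⟩ := f4_mv
  have hsq : ∀ c ∈ f4cs0, ∀ s < chevF4.nroots, applyW chevF4 (c ++ c) s = s :=
    fun c hc s hs => f4_sqW c hc ⟨s, hs⟩
  have hA : [3, 0] ∈ f4cs0 := by decide
  have hB : [1, 2, 1, 2] ∈ f4cs0 := by decide
  have hnot1 := comm_nW_not_mem_B (F := K) chevF4 f4_mem [3, 0] [1, 2, 1, 2] (f4cs0_lt _ hA)
    (f4cs0_lt _ hB) (hsq _ hA) (hsq _ hB) ⟨24, by decide, mv1⟩
  have hnot2 := comm_nW_not_mem_B (F := K) chevF4 f4_mem [1, 2, 1, 2] [3, 0] (f4cs0_lt _ hB)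
    (f4cs0_lt _ hA) (hsq _ hB) (hsq _ hA) ⟨24, by decide, mv2⟩
  intro J hJ ⟨s, hs⟩ ⟨s', hs'S, hs'J⟩
  have hsS := hJ hs
  rw [hQS] at hsS hs'S
  obtain ⟨c, hc, hsc⟩ := hsS
  obtain ⟨c', hc', hsc'⟩ := hs'S
  have hne : c ≠ c' := by
    intro h
    apply hs'J
    have : s = s' := Subtype.ext (by rw [hsc, hsc', h])
    rw [← this]
    exact hs
  refine ⟨s, hs, s', ⟨?_, hs'J⟩, ?_⟩
  · rw [hQS]
    exact ⟨c', hc', hsc'⟩
  · rw [hQB, Subgroup.mem_subgroupOf]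
    simp only [Subgroup.coe_mul, Subgroup.coe_inv, hsc, hsc']
    intro h
    simp only [f4cs0, List.mem_cons, List.not_mem_nil, or_false] at hc hc'
    rcases hc with rfl | rfl <;> rcases hc' with rfl | rfl
    · exact hne rfl
    · exact hnot1 h.1
    · exact hnot2 h.1
    · exact hne rfl

variable (f : K →+* K) (hff : ∀ t : K, f (f t) ^ 2 = t) (e : ℕ) (hfe : ∀ t : K, f t = t ^ e)

include hff hfe in
/-- **the Ree groups `²F₄(q)`, `q > 2`, are simple** -/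
theorem f4_simple [Fintype K] (he : e ≠ 0) (hfrob : ∀ a b : K, (a + b) ^ e = a ^ e + b ^ e)
    (h4 : 4 < Fintype.card K) :
    IsSimpleGroup ↥(twistedF4 K e) ∧ ¬ IsMulCommutative ↥(twistedF4 K e) := by
  obtain ⟨Q, hQB, -, hQS⟩ := f4_bnpair f hff e hfe he
  have hff' : ∀ t : K, (t ^ e) ^ (2 * e) = t := by
    intro t
    have h1 := hff t
    rw [hfe t, hfe (t ^ e)] at h1
    rw [mul_comm, pow_mul]
    exact h1
  refine tw_simple_of chevF4 _ Q hQB (f4_irreducible _ Q hQB hQS)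
    (f4_perfect e he hfrob hff' h4) (Cfsg.Agent.S1050.result chevF4 f4_mem) (f4_core e he) ?_
  refine ⟨nW chevF4 f4_mem [3, 0], f4_nA_mem e, ?_⟩
  intro h
  have happ := applyW_eq_of_eq (F := K) chevF4 f4_mem 1 (Subgroup.one_mem _) [3, 0] []
    (by decide) (by simp) (by rw [nW_nil', mul_one]; exact h) 24 (by decide)
  exact f4_mv.2.2 happ

end

end Cfsg.Agent.helper5.Chev
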