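import Mathlib
import Cfsg.Agent.Lib_helper5_TwCox
import Cfsg.Agent.Lib_helper11_DihPres

set_option autoImplicit false
set_option linter.unusedSectionVars false
set_option linter.unusedVariables false

open Cfsg

/-! `N¹ / H¹` for a twisted group of rank two is a dihedral group (helper5). -/

namespace Cfsg.Agent.helper5.Chev

open Cfsg.Lie

section
variable {K : Type*} [Field K] (D : ChevalleyDatum)
  (hD : D ∈ [chevG2, chevB2, chevD4, chevF4, chevE6, chevE7, chevE8])

include hD in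
/-- **`N¹ / H¹` is dihedral for a twisted group of rank two** -/
theorem tw_N_mod_H_dih [Finite K] (m : ℕ) [NeZero m]
    (G1 : Subgroup (GL D.Idx K)) (cA cB : List ℕ)
    (vs : List (List (List ℕ))) (perms nxt : List (List ℕ))
    (hE : TwEnum D [cA, cB] vs perms nxt)
    (hlt : ∀ c ∈ [cA, cB], ∀ i ∈ c, i < D.rank)
    (hmem : ∀ c ∈ [cA, cB], nR D hD c ∈ G1)
    (hrelA : ∀ r < D.nroots, applyW D (cA.reverse ++ cA.reverse) r = r)
    (hrelB : ∀ r < D.nroots, applyW D (cB.reverse ++ cB.reverse) r = r)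
    (hrelAB : ∀ r < D.nroots,
      applyW D (List.replicate m (cA.reverse ++ cB.reverse)).flatten r = r)
    (hgenN : D.monomialSubgroup K ⊓ G1 ≤
      Subgroup.closure {s : GL D.Idx K | ∃ c ∈ [cA, cB], s = nR D hD c} ⊔
        (D.diagonalSubgroup K ⊓ G1))
    (hcard : 2 * m = vs.length) :
    ∃ φ : ↥(D.monomialSubgroup K ⊓ G1) →* DihedralGroup m, Function.Surjective φ ∧
      φ.ker = (D.diagonalSubgroup K ⊓ G1).subgroupOf (D.monomialSubgroup K ⊓ G1) := by
  classical
  have hNH := N_le_normalizer_H (F := K) D hD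
  obtain ⟨N1, hN1⟩ : ∃ N1, N1 = D.monomialSubgroup K ⊓ G1 := ⟨_, rfl⟩
  rw [← hN1] at hgenN ⊢
  have hN1N : N1 ≤ D.monomialSubgroup K := by rw [hN1]; exact inf_le_left
  have hN1G : N1 ≤ G1 := by rw [hN1]; exact inf_le_right
  have hH1N : D.diagonalSubgroup K ⊓ G1 ≤ N1 := by
    rw [hN1]
    exact inf_le_inf_right _ (H_le_N D)
  obtain ⟨H1, hH1⟩ : ∃ H1, H1 = (D.diagonalSubgroup K ⊓ G1).subgroupOf N1 := ⟨_, rfl⟩
  rw [← hH1]
  haveI hnorm : H1.Normal := by
    constructor
    intro h hh g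
    rw [hH1, Subgroup.mem_subgroupOf] at hh ⊢
    simp only [Subgroup.coe_mul, Subgroup.coe_inv]
    exact ⟨(Subgroup.mem_normalizer_iff.mp (hNH (hN1N g.2)) _).mp hh.1,
      G1.mul_mem (G1.mul_mem (hN1G g.2) hh.2) (G1.inv_mem (hN1G g.2))⟩
  have hAm : cA ∈ [cA, cB] := by simp
  have hBm : cB ∈ [cA, cB] := by simp
  have hrevlt : ∀ c ∈ [cA, cB], ∀ i ∈ c.reverse, i < D.rank := fun c hc i hi =>
    hlt c hc i (List.mem_reverse.mp hi)
  have hsN : ∀ c ∈ [cA, cB], nR D hD c ∈ N1 := by
    intro c hc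
    rw [hN1]
    exact ⟨nW_mem D hD _ (hrevlt c hc), hmem c hc⟩
  -- the generators of the quotient
  obtain ⟨a, ha⟩ : ∃ a : ↥N1 ⧸ H1, a = QuotientGroup.mk ⟨nR D hD cA, hsN cA hAm⟩ := ⟨_, rfl⟩
  obtain ⟨b, hb⟩ : ∃ b : ↥N1 ⧸ H1, b = QuotientGroup.mk ⟨nR D hD cB, hsN cB hBm⟩ := ⟨_, rfl⟩
  have hmk1 : ∀ (w : List ℕ) (hw : ∀ i ∈ w, i < D.rank) (hwN : nW D hD w ∈ N1),
      (∀ r < D.nroots, applyW D w r = r) →
      (QuotientGroup.mk ⟨nW D hD w, hwN⟩ : ↥N1 ⧸ H1) = 1 := by
    intro w hw hwN hid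
    rw [QuotientGroup.eq_one_iff, hH1, Subgroup.mem_subgroupOf]
    exact ⟨nW_mem_H D hD w hw hid, hN1G hwN⟩
  have haa : a * a = 1 := by
    rw [ha, ← QuotientGroup.mk_mul]
    have e : (⟨nR D hD cA, hsN cA hAm⟩ : ↥N1) * ⟨nR D hD cA, hsN cA hAm⟩ =
        ⟨nW D hD (cA.reverse ++ cA.reverse), by
          rw [nW_append]; exact N1.mul_mem (hsN cA hAm) (hsN cA hAm)⟩ := by
      apply Subtype.ext
      rw [Subgroup.coe_mul]
      show nR D hD cA * nR D hD cA = nW D hD (cA.reverse ++ cA.reverse)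
      rw [nW_append]
      rfl
    rw [e]
    apply hmk1 _ _ _ hrelA
    intro i hi
    rcases List.mem_append.mp hi with hi | hi <;> exact hrevlt cA hAm i hi
  have hbb : b * b = 1 := by
    rw [hb, ← QuotientGroup.mk_mul]
    have e : (⟨nR D hD cB, hsN cB hBm⟩ : ↥N1) * ⟨nR D hD cB, hsN cB hBm⟩ =
        ⟨nW D hD (cB.reverse ++ cB.reverse), by
          rw [nW_append]; exact N1.mul_mem (hsN cB hBm) (hsN cB hBm)⟩ := by
      apply Subtype.ext
      rw [Subgroup.coe_mul]
      show nR D hD cB * nR D hD cB = nW D hD (cB.reverse ++ cB.reverse)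
      rw [nW_append]
      rfl
    rw [e]
    apply hmk1 _ _ _ hrelB
    intro i hi
    rcases List.mem_append.mp hi with hi | hi <;> exact hrevlt cB hBm i hi
  have habm : (a * b) ^ m = 1 := by
    rw [ha, hb, ← QuotientGroup.mk_mul, ← QuotientGroup.mk_pow]
    have e : ((⟨nR D hD cA, hsN cA hAm⟩ : ↥N1) * ⟨nR D hD cB, hsN cB hBm⟩) ^ m =
        ⟨nW D hD (List.replicate m (cA.reverse ++ cB.reverse)).flatten, by
          rw [nW_replicate, nW_append]
          exact N1.pow_mem (N1.mul_mem (hsN cA hAm) (hsN cB hBm)) m⟩ := by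
      apply Subtype.ext
      rw [Subgroup.coe_pow, Subgroup.coe_mul]
      show (nR D hD cA * nR D hD cB) ^ m = nW D hD _
      rw [nW_replicate, nW_append]
      rfl
    rw [e]
    apply hmk1 _ _ _ hrelAB
    intro x hx
    rw [List.mem_flatten] at hx
    obtain ⟨l, hl, hxl⟩ := hx
    rw [List.eq_of_mem_replicate hl] at hxl
    rcases List.mem_append.mp hxl with hxl | hxl
    · exact hrevlt cA hAm x hxl
    · exact hrevlt cB hBm x hxl
  have hainv : a⁻¹ = a := inv_eq_of_mul_eq_one_right haa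
  have hbinv : b⁻¹ = b := inv_eq_of_mul_eq_one_right hbb
  have hconj : a * (a * b) * a⁻¹ = (a * b)⁻¹ := by
    rw [mul_inv_rev, hainv, hbinv]
    calc a * (a * b) * a = (a * a) * b * a := by group
      _ = b * a := by rw [haa, one_mul]
  let ψ : DihedralGroup m →* ↥N1 ⧸ H1 :=
    Cfsg.Agent.helper11.DihPres.dihHom (a * b) a habm haa hconj
  have hψr : ψ (DihedralGroup.r 1) = a * b := by
    have := Cfsg.Agent.helper11.DihPres.dihHom_r (x := a * b) (y := a) habm haa hconj (1 : ZMod m)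
    rw [this]
    by_cases hm1 : m = 1
    · subst hm1
      have : (1 : ZMod 1).val = 0 := by decide
      rw [this, pow_zero]
      rw [pow_one] at habm
      exact habm.symm
    · haveI : Fact (1 < m) := ⟨by have := NeZero.ne m; omega⟩
      rw [ZMod.val_one, pow_one]
  have hψs : ψ (DihedralGroup.sr 0) = a := by
    have := Cfsg.Agent.helper11.DihPres.dihHom_sr (x := a * b) (y := a) habm haa hconj (0 : ZMod m)
    rw [this, ZMod.val_zero, pow_zero, mul_one]
  have hψa : a ∈ ψ.range := ⟨_, hψs⟩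
  have hψb : b ∈ ψ.range := by
    have h1 : a * b ∈ ψ.range := ⟨_, hψr⟩
    have e : b = a⁻¹ * (a * b) := by group
    rw [e]
    exact Subgroup.mul_mem _ (Subgroup.inv_mem _ hψa) h1
  -- surjectivity
  have hsurj : Function.Surjective ψ := by
    let R : Subgroup (GL D.Idx K) :=
      ((ψ.range).comap (QuotientGroup.mk' H1)).map N1.subtype
    have hSR : {s : GL D.Idx K | ∃ c ∈ [cA, cB], s = nR D hD c} ⊆ (R : Set (GL D.Idx K)) := by
      rintro s ⟨c, hc, rfl⟩
      refine ⟨⟨nR D hD c, hsN c hc⟩, ?_, rfl⟩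
      rw [SetLike.mem_coe, Subgroup.mem_comap]
      simp only [List.mem_cons, List.not_mem_nil, or_false] at hc
      rcases hc with rfl | rfl
      · rw [QuotientGroup.mk'_apply, ← ha]
        exact hψa
      · rw [QuotientGroup.mk'_apply, ← hb]
        exact hψb
    have hHR : D.diagonalSubgroup K ⊓ G1 ≤ R := by
      intro h hh
      refine ⟨⟨h, hH1N hh⟩, ?_, rfl⟩
      rw [SetLike.mem_coe, Subgroup.mem_comap]
      have : (QuotientGroup.mk' H1) ⟨h, hH1N hh⟩ = 1 := by
        rw [QuotientGroup.mk'_apply, QuotientGroup.eq_one_iff, hH1, Subgroup.mem_subgroupOf]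
        exact hh
      rw [this]
      exact Subgroup.one_mem _
    have hN1R : N1 ≤ R := hgenN.trans (sup_le ((Subgroup.closure_le _).mpr hSR) hHR)
    intro x
    obtain ⟨g, rfl⟩ := QuotientGroup.mk_surjective x
    obtain ⟨y, hy, hyg⟩ := hN1R g.2
    have : y = g := Subtype.ext hyg
    rw [this, SetLike.mem_coe, Subgroup.mem_comap] at hy
    exact hy
  -- the lower bound on the order
  haveI : Finite (GL D.Idx K) := Finite.of_injective _ Units.val_injective
  haveI : Finite ↥N1 := Subtype.finite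
  haveI : Finite (↥N1 ⧸ H1) := Quotient.finite _
  have hvmem : ∀ k : Fin vs.length, nR D hD (vs.getD k.val []).flatten ∈ N1 := by
    intro k
    have hred := hE.red D _ vs perms nxt k.val k.2
    rw [hN1]
    refine ⟨nW_mem D hD _ (fun i hi => redRB_lt D _ hred i (List.mem_reverse.mp hi)),
      nR_flatten_mem D hD G1 _ hmem _ (hE.mem D _ vs perms nxt k.val k.2)⟩
  let g : Fin vs.length → ↥N1 ⧸ H1 := fun k =>
    QuotientGroup.mk ⟨nR D hD (vs.getD k.val []).flatten, hvmem k⟩
  have hginj : Function.Injective g := by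
    intro k k' hkk
    have h1 : (⟨nR D hD (vs.getD k.val []).flatten, hvmem k⟩ : ↥N1)⁻¹ *
        ⟨nR D hD (vs.getD k'.val []).flatten, hvmem k'⟩ ∈ H1 := QuotientGroup.eq.mp hkk
    rw [hH1, Subgroup.mem_subgroupOf] at h1
    simp only [Subgroup.coe_mul, Subgroup.coe_inv] at h1
    have hh := h1.1
    have hredk := hE.red D _ vs perms nxt k.val k.2
    have hredk' := hE.red D _ vs perms nxt k'.val k'.2
    have hltk : ∀ i ∈ (vs.getD k.val []).flatten.reverse, i < D.rank := fun i hi =>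
      redRB_lt D _ hredk i (List.mem_reverse.mp hi)
    have hltk' : ∀ i ∈ (vs.getD k'.val []).flatten.reverse, i < D.rank := fun i hi =>
      redRB_lt D _ hredk' i (List.mem_reverse.mp hi)
    have hh2 : nR D hD (vs.getD k.val []).flatten * ((nR D hD (vs.getD k.val []).flatten)⁻¹ *
        nR D hD (vs.getD k'.val []).flatten) * (nR (F := K) D hD (vs.getD k.val []).flatten)⁻¹ ∈
          D.diagonalSubgroup K :=
      (Subgroup.mem_normalizer_iff.mp (hNH (hN1N (hvmem k))) _).mp hh
    have e2 : nW (F := K) D hD (vs.getD k'.val []).flatten.reverse =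
        (nR D hD (vs.getD k.val []).flatten * ((nR D hD (vs.getD k.val []).flatten)⁻¹ *
        nR D hD (vs.getD k'.val []).flatten) * (nR (F := K) D hD (vs.getD k.val []).flatten)⁻¹) *
          nW D hD (vs.getD k.val []).flatten.reverse := by
      unfold nR
      group
    apply Fin.ext
    apply hE.distinct D _ vs perms nxt k.val k'.val k.2 k'.2
    intro r hr
    exact (applyW_eq_of_eq D hD _ hh2 _ _ hltk' hltk e2 r hr).symm
  have hc1 : vs.length ≤ Nat.card (↥N1 ⧸ H1) := by
    have := Nat.card_le_card_of_injective g hginj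
    rwa [Nat.card_eq_fintype_card, Fintype.card_fin] at this
  have hc2 : Nat.card (↥N1 ⧸ H1) ≤ Nat.card (DihedralGroup m) :=
    Nat.card_le_card_of_surjective ψ hsurj
  have hcD : Nat.card (DihedralGroup m) = 2 * m := DihedralGroup.nat_card
  have hceq : Nat.card (DihedralGroup m) = Nat.card (↥N1 ⧸ H1) := by omega
  have hbij : Function.Bijective ψ :=
    (Nat.bijective_iff_surjective_and_card ψ).mpr ⟨hsurj, hceq⟩
  let e : DihedralGroup m ≃* ↥N1 ⧸ H1 := MulEquiv.ofBijective ψ hbij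
  refine ⟨e.symm.toMonoidHom.comp (QuotientGroup.mk' H1), ?_, ?_⟩
  · exact e.symm.surjective.comp (QuotientGroup.mk'_surjective H1)
  · ext x
    rw [MonoidHom.mem_ker, MonoidHom.comp_apply]
    constructor
    · intro hx
      have : (QuotientGroup.mk' H1) x = 1 := by
        have h2 := congrArg e hx
        simpa using h2
      rwa [QuotientGroup.mk'_apply, QuotientGroup.eq_one_iff] at this
    · intro hx
      have : (QuotientGroup.mk' H1) x = 1 := by
        rwa [QuotientGroup.mk'_apply, QuotientGroup.eq_one_iff]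
      rw [this]
      exact map_one _

end

end Cfsg.Agent.helper5.Chev
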