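import Mathlib
import Cfsg.Agent.Lib_helper5_TwEnumF4Defs
import Cfsg.Agent.Lib_helper5_ChevSortChk

set_option autoImplicit false

namespace Cfsg.Agent.helper5.Chev

open Cfsg.Lie

set_option maxRecDepth 1000000 in
set_option maxHeartbeats 0 in
theorem twenumF4_c0 : twenumRange chevF4 twcsrF4 twvsF4 twpermsF4 twnxtF4 (0 * 16) 16 = true := by
  decide +kernel

set_option maxRecDepth 1000000 in
set_option maxHeartbeats 0 in
theorem twnodupF4 : twpermsF4.Nodup :=
  nodup_of_chainB _ (by decide +kernel)

set_option maxRecDepth 1000000 in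
set_option maxHeartbeats 0 in
theorem twenumF4 : TwEnum chevF4 twcsrF4 twvsF4 twpermsF4 twnxtF4 where
  hlenP := by decide +kernel
  h0 := by decide +kernel
  hk := by
    apply twenum_of_chunks chevF4 twcsrF4 twvsF4 twpermsF4 twnxtF4 16 1 (by norm_num)
      (by decide +kernel)
    intro k hk
    interval_cases k
    · exact twenumF4_c0
  hnd := twnodupF4

set_option maxRecDepth 1000000 in
set_option maxHeartbeats 0 in
theorem twlensF4 : (twvsF4.map fun v => v.flatten.length) =
    [0, 4, 2, 6, 6, 10, 8, 12, 12, 16, 14, 18, 18, 22, 20, 24] := by decide +kernel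

end Cfsg.Agent.helper5.Chev
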