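import Mathlib
import Cfsg.Agent.Lib_helper5_F4V
import Cfsg.Agent.Lib_helper5_F4S
import Cfsg.Agent.Lib_helper5_TwEnumF4

set_option autoImplicit false
set_option linter.unusedSectionVars false
set_option linter.unusedVariables false

open Cfsg

/-! `N¹ / H¹` for the Ree groups `²F₄` is dihedral of order `16` (helper5). -/

namespace Cfsg.Agent.helper5.Chev

open Cfsg.Lie

set_option maxRecDepth 1000000 in
set_option maxHeartbeats 0 in
theorem f4_relAB : ∀ r : Fin 48,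
    applyW chevF4 (List.replicate 8 ([3, 0] ++ [1, 2, 1, 2])).flatten r.val = r.val := by
  decide +kernel

set_option maxRecDepth 1000000 in
set_option maxHeartbeats 0 in
theorem twlenF4 : 2 * 8 = twvsF4.length := by decide +kernel

section
variable {K : Type*} [Field K] [CharP K 2] (f : K →+* K) (hff : ∀ t : K, f (f t) ^ 2 = t)
  (e : ℕ) (hfe : ∀ t : K, f t = t ^ e)

theorem f4_S_eq : {s : GL chevF4.Idx K | ∃ c ∈ f4cs0, s = nW chevF4 f4_mem c} =
    {s : GL chevF4.Idx K | ∃ c ∈ [[0, 3], [2, 1, 2, 1]], s = nR chevF4 f4_mem c} := by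
  ext s
  constructor
  · rintro ⟨c, hc, rfl⟩
    simp only [f4cs0, List.mem_cons, List.not_mem_nil, or_false] at hc
    rcases hc with rfl | rfl
    · exact ⟨[0, 3], by simp, rfl⟩
    · exact ⟨[2, 1, 2, 1], by simp, rfl⟩
  · rintro ⟨c, hc, rfl⟩
    simp only [List.mem_cons, List.not_mem_nil, or_false] at hc
    rcases hc with rfl | rfl
    · exact ⟨[3, 0], by decide, rfl⟩
    · exact ⟨[1, 2, 1, 2], by decide, rfl⟩

theorem f4_csr_mem (he : e ≠ 0) :
    ∀ c ∈ [[0, 3], [2, 1, 2, 1]], nR (F := K) chevF4 f4_mem c ∈ twistedF4 K e := by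
  intro c hc
  simp only [List.mem_cons, List.not_mem_nil, or_false] at hc
  rcases hc with rfl | rfl
  · exact f4_nA_mem e
  · exact f4_nB_mem e he

include hff hfe in
theorem f4_N_gen [Finite K] (he : e ≠ 0) :
    chevF4.monomialSubgroup K ⊓ twistedF4 K e ≤
      Subgroup.closure {s : GL chevF4.Idx K | ∃ c ∈ [[0, 3], [2, 1, 2, 1]],
        s = nR chevF4 f4_mem c} ⊔ (chevF4.diagonalSubgroup K ⊓ twistedF4 K e) := by
  obtain ⟨Q, hQB, hQN, hQS⟩ := f4_bnpair f hff e hfe he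
  rw [← f4_S_eq]
  refine tw_N_gen chevF4 f4_mem (twistedF4 K e) _ ?_ Q hQB hQN hQS
  rintro s ⟨c, hc, rfl⟩
  exact f4cs0_mem e he c hc

include hff hfe in
/-- **`N¹ / H¹` is dihedral of order `16`** -/
theorem f4_N_mod_H [Finite K] (he : e ≠ 0) :
    ∃ φ : ↥(chevF4.monomialSubgroup K ⊓ twistedF4 K e) →* DihedralGroup 8,
      Function.Surjective φ ∧
      φ.ker = (chevF4.diagonalSubgroup K ⊓ twistedF4 K e).subgroupOf
        (chevF4.monomialSubgroup K ⊓ twistedF4 K e) := by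
  refine tw_N_mod_H_dih chevF4 f4_mem 8 (twistedF4 K e) [0, 3] [2, 1, 2, 1] twvsF4 twpermsF4
    twnxtF4 twenumF4 (by decide) (f4_csr_mem e he) ?_ ?_ ?_ (f4_N_gen f hff e hfe he) twlenF4
  · intro r hr
    exact f4_sqW [3, 0] (by decide) ⟨r, hr⟩
  · intro r hr
    exact f4_sqW [1, 2, 1, 2] (by decide) ⟨r, hr⟩
  · intro r hr
    exact f4_relAB ⟨r, hr⟩

end

end Cfsg.Agent.helper5.Chev
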