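import Mathlib
import Cfsg.Agent.Lib_helper5_F4W
import Cfsg.Agent.Lib_helper5_TwOrd

set_option autoImplicit false
set_option linter.unusedSectionVars false
set_option linter.unusedVariables false

open Cfsg

/-! The order of the Ree groups `²F₄(q)` (helper5). -/

namespace Cfsg.Agent.helper5.Chev

open Cfsg.Lie

section
variable {K : Type*} [Field K] [CharP K 2] (f : K →+* K) (hff : ∀ t : K, f (f t) ^ 2 = t)
  (e : ℕ) (hfe : ∀ t : K, f t = t ^ e)

include hfe in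
/-- the statement on the cell representatives along a word in chunks -/
theorem f4stmt_chunks [Finite K] (he : e ≠ 0) (cs : List (List ℕ))
    (hcs : ∀ c ∈ cs, c ∈ [[0, 3], [2, 1, 2, 1]]) (hred : redRB chevF4 cs.flatten = true) :
    F4Stmt f hff (twistedF4 K e) (Nat.card K) cs.flatten (cs.flatten.length / 2) := by
  induction cs with
  | nil => exact f4stmt_nil f hff _ _
  | cons c cs ih =>
    rw [List.flatten_cons] at hred ⊢
    have hred' := redRB_append_right chevF4 c cs.flatten hred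
    have ih' := ih (fun c' hc' => hcs c' (List.mem_cons_of_mem _ hc')) hred'
    have hc := hcs c List.mem_cons_self
    simp only [List.mem_cons, List.not_mem_nil, or_false] at hc
    rcases hc with rfl | rfl
    · have h := f4stmt_step f hff _ _ _ _ _ _ (f4chunk_pair f hff e hfe) _ hred _ ih'
      have e1 : ([0, 3] ++ cs.flatten).length / 2 = 1 + cs.flatten.length / 2 := by
        rw [List.length_append]
        simp only [List.length_cons, List.length_nil]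
        omega
      rw [e1]
      exact h
    · have h := f4stmt_step f hff _ _ _ _ _ _ (f4chunk_B2 f hff e hfe he) _ hred _ ih'
      have e1 : ([2, 1, 2, 1] ++ cs.flatten).length / 2 = 2 + cs.flatten.length / 2 := by
        rw [List.length_append]
        simp only [List.length_cons, List.length_nil]
        omega
      rw [e1]
      exact h

/-- `|B¹| = |U¹| |H¹|` -/
theorem f4_card_borel (G1 : Subgroup (GL chevF4.Idx K)) (hfix : G1 ≤ f4Fix f hff)
    (hKL : ∀ u ∈ chevF4.posUnipotent K, f4sig f hff u = u → u ∈ G1) :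
    Nat.card ↥(chevF4.borelSubgroup K ⊓ G1) =
      Nat.card ↥(chevF4.posUnipotent K ⊓ G1) * Nat.card ↥(chevF4.diagonalSubgroup K ⊓ G1) := by
  obtain ⟨-, hUH⟩ := Cfsg.Agent.S1036.result (F := K) chevF4 f4_mem
  have huniq : ∀ u u' h h' : GL chevF4.Idx K, u ∈ chevF4.posUnipotent K →
      u' ∈ chevF4.posUnipotent K → h ∈ chevF4.diagonalSubgroup K →
      h' ∈ chevF4.diagonalSubgroup K → u * h = u' * h' → u = u' ∧ h = h' := by
    intro u u' h h' hu hu' hh hh' h1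
    have h2 : u'⁻¹ * u = h' * h⁻¹ := by
      calc u'⁻¹ * u = u'⁻¹ * (u * h) * h⁻¹ := by group
        _ = h' * h⁻¹ := by rw [h1]; group
    have h3 : u'⁻¹ * u ∈ chevF4.posUnipotent K ⊓ chevF4.diagonalSubgroup K :=
      ⟨Subgroup.mul_mem _ (Subgroup.inv_mem _ hu') hu,
        by rw [h2]; exact Subgroup.mul_mem _ hh' (Subgroup.inv_mem _ hh)⟩
    rw [hUH, Subgroup.mem_bot] at h3
    have huu : u = u' := (inv_mul_eq_one.mp h3).symm
    subst huu
    exact ⟨rfl, mul_left_cancel h1⟩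
  let ψ : ↥(chevF4.posUnipotent K ⊓ G1) × ↥(chevF4.diagonalSubgroup K ⊓ G1) →
      ↥(chevF4.borelSubgroup K ⊓ G1) := fun p =>
    ⟨p.1.1 * p.2.1, Subgroup.mul_mem _ (U_le_B chevF4 f4_mem p.1.2.1)
      (H_le_B chevF4 f4_mem p.2.2.1), G1.mul_mem p.1.2.2 p.2.2.2⟩
  have hinj : Function.Injective ψ := by
    rintro ⟨⟨u, hu⟩, ⟨h, hh⟩⟩ ⟨⟨u', hu'⟩, ⟨h', hh'⟩⟩ hpp
    have h1 : u * h = u' * h' := congrArg Subtype.val hpp
    obtain ⟨rfl, rfl⟩ := huniq u u' h h' hu.1 hu'.1 hh.1 hh'.1 h1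
    rfl
  have hsurj : Function.Surjective ψ := by
    rintro ⟨b, hb, hbG⟩
    obtain ⟨u, hu, h, hh, rfl⟩ := mem_borel chevF4 f4_mem b hb
    have hσ := (hfix hbG).2
    rw [f4sig_mul f hff _ _ (U_le_G4 hu) (H_le_G4 hh)] at hσ
    obtain ⟨hu1, -⟩ := huniq _ _ _ _ (f4sig_U f hff u hu) hu (f4sig_H f hff h hh) hh hσ
    have huG : u ∈ G1 := hKL u hu hu1
    have hhG : h ∈ G1 := by
      have e : h = u⁻¹ * (u * h) := by group
      rw [e]
      exact G1.mul_mem (G1.inv_mem huG) hbG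
    exact ⟨(⟨u, hu, huG⟩, ⟨h, hh, hhG⟩), rfl⟩
  rw [← Nat.card_eq_of_bijective ψ ⟨hinj, hsurj⟩, Nat.card_prod]

/-- **the order formula** `|G¹| = |B¹| Σ_w q^{ℓ(w)}` -/
theorem f4_card_of_enum_aux [Finite K] (G1 : Subgroup (GL chevF4.Idx K))
    (hfix : G1 ≤ f4Fix f hff)
    (hKL : ∀ u ∈ chevF4.posUnipotent K, f4sig f hff u = u → u ∈ G1)
    (hmem : ∀ c ∈ [[0, 3], [2, 1, 2, 1]], nR (F := K) chevF4 f4_mem c ∈ G1)
    (hgenN : chevF4.monomialSubgroup K ⊓ G1 ≤
      Subgroup.closure {s : GL chevF4.Idx K | ∃ c ∈ [[0, 3], [2, 1, 2, 1]],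
        s = nR chevF4 f4_mem c} ⊔ (chevF4.diagonalSubgroup K ⊓ G1))
    (Q : Cfsg.BNPair ↥G1) (hQB : Q.B = (chevF4.borelSubgroup K ⊓ G1).subgroupOf G1)
    (hQN : Q.N = (chevF4.monomialSubgroup K ⊓ G1).subgroupOf G1)
    (hstmt : ∀ cs : List (List ℕ), (∀ c ∈ cs, c ∈ [[0, 3], [2, 1, 2, 1]]) →
      redRB chevF4 cs.flatten = true →
      F4Stmt f hff G1 (Nat.card K) cs.flatten (cs.flatten.length / 2)) :
    Nat.card ↥G1 = Nat.card ↥(chevF4.borelSubgroup K ⊓ G1) *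
      ∑ k : Fin twvsF4.length, Nat.card K ^ ((twvsF4.getD k.val []).flatten.length / 2) := by
  classical
  have hC := commOK_of_mem chevF4 f4_mem
  have hP := posCommOK_of_mem chevF4 f4_mem
  have hE : TwEnum chevF4 [[0, 3], [2, 1, 2, 1]] twvsF4 twpermsF4 twnxtF4 := twenumF4
  have hsq : ∀ c ∈ [[0, 3], [2, 1, 2, 1]], ∀ s < chevF4.nroots,
      applyW chevF4 (c.reverse ++ c.reverse) s = s := by
    intro c hc s hs
    simp only [List.mem_cons, List.not_mem_nil, or_false] at hc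
    rcases hc with rfl | rfl
    · exact f4_sqW [3, 0] (by decide) ⟨s, hs⟩
    · exact f4_sqW [1, 2, 1, 2] (by decide) ⟨s, hs⟩
  haveI : Finite (GL chevF4.Idx K) := Finite.of_injective _ Units.val_injective
  have hNH := N_le_normalizer_H (F := K) chevF4 f4_mem
  have hlt0 : ∀ c ∈ [[0, 3], [2, 1, 2, 1]], ∀ i ∈ c, i < chevF4.rank := by decide
  have hred : ∀ k : Fin twvsF4.length, redRB chevF4 (twvsF4.getD k.val []).flatten = true :=
    fun k => hE.red chevF4 _ twvsF4 twpermsF4 twnxtF4 k.val k.2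
  have hvcs : ∀ k : Fin twvsF4.length, ∀ c ∈ twvsF4.getD k.val [],
      c ∈ [[0, 3], [2, 1, 2, 1]] := fun k c hc =>
    hE.mem chevF4 _ twvsF4 twpermsF4 twnxtF4 k.val k.2 c hc
  have hS : ∀ k : Fin twvsF4.length, F4Stmt f hff G1 (Nat.card K) (twvsF4.getD k.val []).flatten
      ((twvsF4.getD k.val []).flatten.length / 2) := fun k => hstmt _ (hvcs k) (hred k)
  have hlt : ∀ k : Fin twvsF4.length, ∀ i ∈ (twvsF4.getD k.val []).flatten.reverse,
      i < chevF4.rank :=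
    fun k i hi => redRB_lt chevF4 _ (hred k) i (List.mem_reverse.mp hi)
  have hnRN : ∀ k : Fin twvsF4.length,
      nR (F := K) chevF4 f4_mem (twvsF4.getD k.val []).flatten ∈ chevF4.monomialSubgroup K :=
    fun k => nW_mem chevF4 f4_mem _ (hlt k)
  have hnRG : ∀ k : Fin twvsF4.length,
      nR (F := K) chevF4 f4_mem (twvsF4.getD k.val []).flatten ∈ G1 := fun k =>
    nR_flatten_mem chevF4 f4_mem G1 _ hmem _ (hvcs k)
  have hSU : ∀ k : Fin twvsF4.length,
      ∀ s ∈ SR (F := K) chevF4 f4_mem (twvsF4.getD k.val []).flatten,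
      s ∈ UnegOf chevF4 (nR (F := K) chevF4 f4_mem (twvsF4.getD k.val []).flatten) := fun k s hs =>
    Uneg_le_UnegOf chevF4 f4_mem _ (hlt k) (SR_sub_Uneg chevF4 f4_mem _ (hred k) hs)
  have hSG : ∀ k : Fin twvsF4.length,
      ∀ s ∈ SR (F := K) chevF4 f4_mem (twvsF4.getD k.val []).flatten,
      f4sig f hff s = s → s ∈ G1 := fun k s hs hfs =>
    hKL s (UnegOf_le_U chevF4 _ (hSU k s hs)) hfs
  let Φ : (Σ k : Fin twvsF4.length, ↥(chevF4.borelSubgroup K ⊓ G1) ×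
      {u : GL chevF4.Idx K // u ∈ SR (F := K) chevF4 f4_mem (twvsF4.getD k.val []).flatten ∧
        f4sig f hff u = u}) → ↥G1 := fun x =>
    ⟨x.2.1.1 * nR chevF4 f4_mem (twvsF4.getD x.1.val []).flatten * x.2.2.1,
      G1.mul_mem (G1.mul_mem x.2.1.2.2 (hnRG x.1)) (hSG x.1 _ x.2.2.2.1 x.2.2.2.2)⟩
  have hinj : Function.Injective Φ := by
    rintro ⟨k, b, s⟩ ⟨k', b', s'⟩ hxy
    have e0 : b.1 * nR chevF4 f4_mem (twvsF4.getD k.val []).flatten * s.1 =
        b'.1 * nR chevF4 f4_mem (twvsF4.getD k'.val []).flatten * s'.1 := congrArg Subtype.val hxy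
    have hu := unique_form chevF4 f4_mem hC hP _ _ _ _ _ _ b.2.1 b'.2.1 (hnRN k) (hnRN k')
      (hSU k s.1 s.2.1) (hSU k' s'.1 s'.2.1) e0
    have hkk : k = k' := by
      apply Fin.ext
      apply hE.distinct chevF4 _ twvsF4 twpermsF4 twnxtF4 k.val k'.val k.2 k'.2
      have hh := hu.1
      have hh2 : nR chevF4 f4_mem (twvsF4.getD k.val []).flatten *
          ((nR chevF4 f4_mem (twvsF4.getD k.val []).flatten)⁻¹ *
          nR chevF4 f4_mem (twvsF4.getD k'.val []).flatten) *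
          (nR (F := K) chevF4 f4_mem (twvsF4.getD k.val []).flatten)⁻¹ ∈
            chevF4.diagonalSubgroup K :=
        (Subgroup.mem_normalizer_iff.mp (hNH (hnRN k)) _).mp hh
      have e2 : nW (F := K) chevF4 f4_mem (twvsF4.getD k'.val []).flatten.reverse =
          (nR chevF4 f4_mem (twvsF4.getD k.val []).flatten *
          ((nR chevF4 f4_mem (twvsF4.getD k.val []).flatten)⁻¹ *
          nR chevF4 f4_mem (twvsF4.getD k'.val []).flatten) *
          (nR (F := K) chevF4 f4_mem (twvsF4.getD k.val []).flatten)⁻¹) *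
            nW chevF4 f4_mem (twvsF4.getD k.val []).flatten.reverse := by
        unfold nR
        group
      intro r hr
      exact (applyW_eq_of_eq chevF4 f4_mem _ hh2 _ _ (hlt k') (hlt k) e2 r hr).symm
    subst hkk
    obtain ⟨hbb, hss⟩ := hu.2 rfl
    have hb : b = b' := Subtype.ext hbb
    have hs : s = s' := Subtype.ext hss
    rw [hb, hs]
  have hsurj : Function.Surjective Φ := by
    rintro ⟨g, hg⟩
    obtain ⟨n, hn, hmemd⟩ := Cfsg.Agent.S0308.result Q ⟨g, hg⟩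
    obtain ⟨x, hx, y, hy, e0⟩ := DoubleCoset.mem_doubleCoset.mp hmemd
    rw [SetLike.mem_coe, hQB, Subgroup.mem_subgroupOf] at hx hy
    rw [hQN, Subgroup.mem_subgroupOf] at hn
    have e' : g = (x : GL chevF4.Idx K) * n * y := by
      have := congrArg Subtype.val e0
      simpa using this
    obtain ⟨h, hh, W, hW, hnw⟩ := tw_N_words chevF4 f4_mem G1 _ hlt0 hmem hsq hgenN _ hn
    have hWlt : ∀ i ∈ chunkWord [[0, 3], [2, 1, 2, 1]] W, i < chevF4.rank := by
      intro i hi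
      unfold chunkWord at hi
      rw [List.mem_flatMap] at hi
      obtain ⟨j, hj, hij⟩ := hi
      have hjl := hW j hj
      rw [List.getD_eq_getElem _ _ hjl, List.mem_reverse] at hij
      exact hlt0 _ (List.getElem_mem hjl) i hij
    obtain ⟨k, hk, hperm⟩ := hE.complete chevF4 _ twvsF4 twpermsF4 twnxtF4 W hW
    obtain ⟨h', hh', hnw'⟩ := nW_eq_of_applyW_eq (F := K) chevF4 f4_mem
      (chunkWord [[0, 3], [2, 1, 2, 1]] W) (twvsF4.getD k []).flatten.reverse hWlt (hlt ⟨k, hk⟩) hperm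
    obtain ⟨u₂, hu₂, h₂, hh₂, ey⟩ := mem_borel chevF4 f4_mem _ (Subgroup.inv_mem _ hy.1)
    have ey' : (y : GL chevF4.Idx K) = h₂⁻¹ * u₂⁻¹ := by
      rw [← inv_inv (y : GL chevF4.Idx K), ey, mul_inv_rev]
    obtain ⟨b, hb, s, hs, e2⟩ := cell_exists chevF4 f4_mem hC hP _ (hred ⟨k, hk⟩) u₂⁻¹
      (Subgroup.inv_mem _ hu₂)
    have hh3 : nR chevF4 f4_mem (twvsF4.getD k []).flatten * h₂⁻¹ *
        (nR (F := K) chevF4 f4_mem (twvsF4.getD k []).flatten)⁻¹ ∈ chevF4.diagonalSubgroup K :=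
      (Subgroup.mem_normalizer_iff.mp (hNH (hnRN ⟨k, hk⟩)) _).mp (Subgroup.inv_mem _ hh₂)
    obtain ⟨b₁, hb₁def⟩ : ∃ b₁, b₁ = (x : GL chevF4.Idx K) * h * h' *
        (nR chevF4 f4_mem (twvsF4.getD k []).flatten * h₂⁻¹ *
          (nR (F := K) chevF4 f4_mem (twvsF4.getD k []).flatten)⁻¹) * b := ⟨_, rfl⟩
    have hb₁ : b₁ ∈ chevF4.borelSubgroup K := by
      rw [hb₁def]
      exact Subgroup.mul_mem _ (Subgroup.mul_mem _ (Subgroup.mul_mem _ (Subgroup.mul_mem _ hx.1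
        (H_le_B chevF4 f4_mem hh.1)) (H_le_B chevF4 f4_mem hh')) (H_le_B chevF4 f4_mem hh3)) hb
    have eg : g = b₁ * nR chevF4 f4_mem (twvsF4.getD k []).flatten * s := by
      rw [e', hnw, ey', hnw', hb₁def]
      have e3 : (x : GL chevF4.Idx K) * (h * (h' * nW chevF4 f4_mem
          (twvsF4.getD k []).flatten.reverse)) * (h₂⁻¹ * u₂⁻¹) =
          (x : GL chevF4.Idx K) * h * h' * (nR chevF4 f4_mem (twvsF4.getD k []).flatten * h₂⁻¹ *
            (nR (F := K) chevF4 f4_mem (twvsF4.getD k []).flatten)⁻¹) *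
              (nR chevF4 f4_mem (twvsF4.getD k []).flatten * u₂⁻¹) := by
        unfold nR
        group
      rw [e3, e2]
      group
    -- apply σ
    have hsU : s ∈ chevF4.posUnipotent K := UnegOf_le_U chevF4 _ (hSU ⟨k, hk⟩ s hs)
    have hnG : nR (F := K) chevF4 f4_mem (twvsF4.getD k []).flatten ∈ chevF4.group K :=
      nW_mem_G _
    have hσg := (hfix hg).2
    rw [eg, f4sig_mul f hff _ _ (Subgroup.mul_mem _ (B_le_G4 hb₁) hnG) (U_le_G4 hsU),
      f4sig_mul f hff _ _ (B_le_G4 hb₁) hnG, (hfix (hnRG ⟨k, hk⟩)).2] at hσg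
    have hσs : f4sig f hff s ∈ SR (F := K) chevF4 f4_mem (twvsF4.getD k []).flatten :=
      (hS ⟨k, hk⟩).1 s hs
    obtain ⟨-, huniq⟩ := unique_form chevF4 f4_mem hC hP _ _ _ _ _ _
      (f4sig_B f hff b₁ hb₁) hb₁ (hnRN ⟨k, hk⟩) (hnRN ⟨k, hk⟩)
      (hSU ⟨k, hk⟩ _ hσs) (hSU ⟨k, hk⟩ s hs) hσg
    obtain ⟨-, hsfix⟩ := huniq rfl
    have hsG : s ∈ G1 := hSG ⟨k, hk⟩ s hs hsfix
    have hb₁G : b₁ ∈ G1 := by
      have e5 : b₁ = g * s⁻¹ * (nR chevF4 f4_mem (twvsF4.getD k []).flatten)⁻¹ := by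
        rw [eg]
        group
      rw [e5]
      exact G1.mul_mem (G1.mul_mem hg (G1.inv_mem hsG)) (G1.inv_mem (hnRG ⟨k, hk⟩))
    refine ⟨⟨⟨k, hk⟩, ⟨b₁, hb₁, hb₁G⟩, ⟨s, hs, hsfix⟩⟩, ?_⟩
    apply Subtype.ext
    exact eg.symm
  rw [← Nat.card_eq_of_bijective Φ ⟨hinj, hsurj⟩, Nat.card_sigma, Finset.mul_sum]
  apply Finset.sum_congr rfl
  intro k _
  rw [Nat.card_prod, (hS k).2.2]


include hff hfe in
theorem f4_card_of_enum [Finite K] (he : e ≠ 0) :
    Nat.card ↥(twistedF4 K e) = Nat.card ↥(chevF4.borelSubgroup K ⊓ twistedF4 K e) *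
      ∑ k : Fin twvsF4.length, Nat.card K ^ ((twvsF4.getD k.val []).flatten.length / 2) := by
  obtain ⟨Q, hQB, hQN, -⟩ := f4_bnpair f hff e hfe he
  exact f4_card_of_enum_aux f hff (twistedF4 K e) (f4_hfix f hff e hfe)
    (f4_fix_U_mem f hff e hfe he) (f4_csr_mem e he) (f4_N_gen f hff e hfe he) Q hQB hQN
    (f4stmt_chunks f hff e hfe he)

end

end Cfsg.Agent.helper5.Chev
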