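import Mathlib
import Cfsg.Agent.Lib_helper5_F4X
import Cfsg.Agent.Lib_helper5_F4M

set_option autoImplicit false
set_option linter.unusedSectionVars false
set_option linter.unusedVariables false

open Cfsg

/-! The order formula of the Ree groups `²F₄(q)` (helper5). -/

namespace Cfsg.Agent.helper5.Chev

open Cfsg.Lie

theorem f4_sum_fin_getD {α : Type*} (l : List α) (d : α) (g : α → ℕ) :
    ∑ k : Fin l.length, g (l.getD k.val d) = (l.map g).sum := by
  rw [← List.sum_ofFn]
  congr 1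
  apply List.ext_getElem
  · simp
  · intro i h1 h2
    simp only [List.getElem_ofFn, List.getElem_map]
    rw [List.getD_eq_getElem]

/-- the arithmetic behind the order formula -/
theorem f4_order_arith (q : ℕ) (hq : 1 ≤ q) :
    q ^ 12 * (q - 1) ^ 2 *
      (q ^ 0 + (q ^ 2 + (q ^ 1 + (q ^ 3 + (q ^ 3 + (q ^ 5 + (q ^ 4 + (q ^ 6 + (q ^ 6 + (q ^ 8 +
        (q ^ 7 + (q ^ 9 + (q ^ 9 + (q ^ 11 + (q ^ 10 + (q ^ 12 + 0)))))))))))))))) =
      q ^ 12 * (q - 1) * (q ^ 3 + 1) * (q ^ 4 - 1) * (q ^ 6 + 1) := by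
  obtain ⟨p, rfl⟩ : ∃ p, q = p + 1 := ⟨q - 1, by omega⟩
  have e1 : p + 1 - 1 = p := by omega
  have e4 : (p + 1) ^ 4 - 1 = p ^ 4 + 4 * p ^ 3 + 6 * p ^ 2 + 4 * p := by
    apply Nat.sub_eq_of_eq_add; ring
  rw [e1, e4]
  ring

section
variable {K : Type*} [Field K] [Fintype K] [CharP K 2] (f : K →+* K)
  (hff : ∀ t : K, f (f t) ^ 2 = t) (e : ℕ) (hfe : ∀ t : K, f t = t ^ e)

include hff hfe in
/-- **the order of `²F₄(q)`** -/
theorem f4_card (he : e ≠ 0) :
    Nat.card ↥(twistedF4 K e) =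
      (Fintype.card K) ^ 12 * (Fintype.card K - 1) * ((Fintype.card K) ^ 3 + 1) *
        ((Fintype.card K) ^ 4 - 1) * ((Fintype.card K) ^ 6 + 1) := by
  have h1 := f4_card_of_enum f hff e hfe he
  have hB := f4_card_borel f hff (twistedF4 K e) (f4_hfix f hff e hfe)
    (f4_fix_U_mem f hff e hfe he)
  have hU := f4_card_U1 f hff e hfe he
  have hH := f4_card_H1 f hff e hfe he
  have hq1 : 1 ≤ Fintype.card K := Fintype.card_pos
  rw [Nat.card_eq_fintype_card (α := K)] at h1 hU
  rw [h1, hB, hU, hH,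
    f4_sum_fin_getD twvsF4 [] (fun v => Fintype.card K ^ (v.flatten.length / 2))]
  have e1 : (twvsF4.map fun v => Fintype.card K ^ (v.flatten.length / 2)) =
      ([0, 2, 1, 3, 3, 5, 4, 6, 6, 8, 7, 9, 9, 11, 10, 12].map fun x => Fintype.card K ^ x) := by
    have h2 : (twvsF4.map fun v => v.flatten.length / 2) =
        [0, 2, 1, 3, 3, 5, 4, 6, 6, 8, 7, 9, 9, 11, 10, 12] := by
      have h3 : (twvsF4.map fun v => v.flatten.length / 2) =
          ((twvsF4.map fun v => v.flatten.length).map fun x => x / 2) := by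
        rw [List.map_map]
        rfl
      rw [h3, twlensF4]
      rfl
    rw [← h2, List.map_map]
    rfl
  rw [e1]
  simp only [List.map_cons, List.map_nil, List.sum_cons, List.sum_nil]
  exact f4_order_arith (Fintype.card K) hq1

end

end Cfsg.Agent.helper5.Chev
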