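import Mathlib
import Cfsg.Agent.Lib_helper5_ChevHt
import Cfsg.Agent.Lib_helper5_F4Y

set_option autoImplicit false
set_option linter.unusedSectionVars false
set_option linter.unusedVariables false

open Cfsg

/-! The elements of `2`-power order of the Ree groups `²F₄(q)` (helper5). -/

namespace Cfsg.Agent.helper5.Chev

open Cfsg.Lie

/-- the heights of the roots of `F₄` -/
def f4ht : List ℤ :=
  [-11, -10, -9, -8, -7, -6, -5, -7, -6, -5, -4, -4, -3, -2, -1, -5, -4, -3, -3, -2, -1, -2, -1, -1,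
    1, 1, 2, 1, 2, 3, 3, 4, 5, 1, 2, 3, 4, 4, 5, 6, 7, 5, 6, 7, 8, 9, 10, 11]

set_option maxRecDepth 100000 in
theorem f4_htChk : htChk chevF4 f4ht = true := by decide +kernel

theorem f4ht_bound : ∀ r < chevF4.nroots, -11 ≤ f4ht.getD r 0 ∧ f4ht.getD r 0 ≤ 11 := by
  decide

theorem f4_U_pow32 {K : Type*} [Field K] [CharP K 2] (u : GL chevF4.Idx K)
    (hu : u ∈ chevF4.posUnipotent K) : u ^ 32 = 1 := by
  have hne : Nonempty chevF4.Idx := ⟨Sum.inl ⟨0, by decide⟩⟩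
  exact U_pow_eq_one chevF4 f4ht f4_htChk hne 11 (by norm_num) f4ht_bound 5 (by norm_num) u hu

section
variable {K : Type*} [Field K] [Fintype K] [CharP K 2] (f : K →+* K)
  (hff : ∀ t : K, f (f t) ^ 2 = t) (e : ℕ) (hfe : ∀ t : K, f t = t ^ e)

include hff hfe in
/-- **the elements of `2`-power order of `²F₄(q)` have order at most `32`** -/
theorem f4_two_elt (he : e ≠ 0) (n : ℕ) (hn : n ≠ 0) (hK : Fintype.card K = 2 ^ n)
    (x : ↥(twistedF4 K e)) (hx : ∃ j : ℕ, orderOf x = 2 ^ j) : orderOf x ≤ 32 := by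
  classical
  have : Fact (Nat.Prime 2) := ⟨Nat.prime_two⟩
  obtain ⟨U', hU'⟩ : ∃ U' : Subgroup ↥(twistedF4 K e),
      U' = (chevF4.posUnipotent K ⊓ twistedF4 K e).subgroupOf (twistedF4 K e) := ⟨_, rfl⟩
  have hcardU : Nat.card ↥U' = 2 ^ (12 * n) := by
    rw [hU', Nat.card_congr (Subgroup.subgroupOfEquivOfLe inf_le_right).toEquiv,
      f4_card_U1 f hff e hfe he, Nat.card_eq_fintype_card, hK, ← pow_mul, mul_comm]
  have hcardG : ∃ M, Odd M ∧ Nat.card ↥(twistedF4 K e) = 2 ^ (12 * n) * M := by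
    refine ⟨(2 ^ n - 1) * ((2 ^ n) ^ 3 + 1) * ((2 ^ n) ^ 4 - 1) * ((2 ^ n) ^ 6 + 1), ?_, ?_⟩
    · have hqe : Even (2 ^ n) := (Nat.even_pow.mpr ⟨even_two, hn⟩)
      have h1 : Odd (2 ^ n - 1) := Nat.Even.sub_odd Nat.one_le_two_pow hqe odd_one
      have h3 : Odd ((2 ^ n) ^ 3 + 1) := (hqe.pow_of_ne_zero (by norm_num)).add_one
      have h4 : Odd ((2 ^ n) ^ 4 - 1) :=
        Nat.Even.sub_odd (Nat.one_le_pow _ _ (by positivity)) (hqe.pow_of_ne_zero (by norm_num))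
          odd_one
      have h6 : Odd ((2 ^ n) ^ 6 + 1) := (hqe.pow_of_ne_zero (by norm_num)).add_one
      exact ((h1.mul h3).mul h4).mul h6
    · rw [f4_card f hff e hfe he, hK, ← pow_mul, mul_comm n 12]
      ring
  obtain ⟨M, hMo, hG⟩ := hcardG
  have hU'p : IsPGroup 2 ↥U' := IsPGroup.of_card hcardU
  obtain ⟨Q, hQ⟩ := hU'p.exists_le_sylow
  have hQU : (Q : Subgroup ↥(twistedF4 K e)) = U' := by
    symm
    apply Subgroup.eq_of_le_of_card_ge hQ
    obtain ⟨j, hj⟩ := IsPGroup.iff_card.mp Q.isPGroup'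
    rw [hcardU, hj]
    have hdvd : 2 ^ j ∣ 2 ^ (12 * n) * M := by
      rw [← hG, ← hj]
      exact Subgroup.card_subgroup_dvd_card _
    have hcop : Nat.Coprime (2 ^ j) M := Nat.Coprime.pow_left _ (Nat.coprime_two_left.mpr hMo)
    exact Nat.le_of_dvd (by positivity) (hcop.dvd_of_dvd_mul_right hdvd)
  obtain ⟨j, hj⟩ := hx
  have hxp : IsPGroup 2 ↥(Subgroup.zpowers x) :=
    IsPGroup.of_card (by rw [Nat.card_zpowers, hj])
  obtain ⟨P, hP⟩ := hxp.exists_le_sylow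
  obtain ⟨g, hg⟩ := MulAction.exists_smul_eq ↥(twistedF4 K e) P Q
  have hy : g * x * g⁻¹ ∈ U' := by
    rw [← hQU, ← hg, Sylow.coe_subgroup_smul]
    have hxP : x ∈ (P : Subgroup ↥(twistedF4 K e)) := hP (Subgroup.mem_zpowers x)
    have h1 := Subgroup.smul_mem_pointwise_smul x (MulAut.conj g)
      (P : Subgroup ↥(twistedF4 K e)) hxP
    rw [MulAut.smul_def, MulAut.conj_apply] at h1
    exact h1
  have hyU : ((g * x * g⁻¹ : ↥(twistedF4 K e)) : GL chevF4.Idx K) ∈ chevF4.posUnipotent K := by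
    rw [hU', Subgroup.mem_subgroupOf] at hy
    exact hy.1
  have h32 : (g * x * g⁻¹) ^ 32 = 1 := by
    apply Subtype.ext
    rw [Subgroup.coe_pow, Subgroup.coe_one]
    exact f4_U_pow32 _ hyU
  have hx32 : x ^ 32 = 1 := by
    rw [conj_pow] at h32
    have h2 := congrArg (fun z => g⁻¹ * z * g) h32
    simp only [mul_one, inv_mul_cancel] at h2
    rw [← h2]
    group
  exact Nat.le_of_dvd (by norm_num) (orderOf_dvd_of_pow_eq_one hx32)

end

end Cfsg.Agent.helper5.Chev
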