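import Mathlib
import Cfsg.Prelude.Def_Characters
import Cfsg.Agent.Lib_helper5_Clifford

set_option autoImplicit false

namespace Cfsg.Agent.helper5

open Cfsg Cfsg.Agent.helper8 Cfsg.Agent.helper12 Cfsg.Agent.helper24
open scoped ComplexConjugate

variable {G : Type*} [Group G]

/-- A function on `H ≤ T`, read on the copy of `H` inside `T`. -/
def pullH (H T : Subgroup G) (hHT : H ≤ T) (θ : H → ℂ) : H.subgroupOf T → ℂ :=
  fun n => θ (Subgroup.subgroupOfEquivOfLe hHT n)

theorem pullH_apply (H T : Subgroup G) (hHT : H ≤ T) (θ : H → ℂ) (n : H.subgroupOf T) :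
    pullH H T hHT θ n = θ ⟨((n : T) : G), Subgroup.mem_subgroupOf.mp n.2⟩ := rfl

theorem isIrrCharacter_pullH (H T : Subgroup G) (hHT : H ≤ T) {θ : H → ℂ}
    (hθ : IsIrrCharacter H θ) : IsIrrCharacter (H.subgroupOf T) (pullH H T hHT θ) :=
  isIrrCharacter_comp_mulEquiv (Subgroup.subgroupOfEquivOfLe hHT) hθ

theorem extendByZero_pullH (H T : Subgroup G) (hHT : H ≤ T) (θ : H → ℂ) (t : T) :
    extendByZero (H.subgroupOf T) (pullH H T hHT θ) t = extendByZero H θ (t : G) := by
  by_cases ht : (t : G) ∈ H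
  · have ht' : t ∈ H.subgroupOf T := Subgroup.mem_subgroupOf.mpr ht
    rw [extendByZero_of_mem _ _ t ht', extendByZero_of_mem _ _ (t : G) ht]
    rfl
  · have ht' : t ∉ H.subgroupOf T := fun h => ht (Subgroup.mem_subgroupOf.mp h)
    rw [extendByZero_of_not_mem _ _ t ht', extendByZero_of_not_mem _ _ (t : G) ht]

theorem card_subgroupOf_le (H T : Subgroup G) (hHT : H ≤ T) :
    Nat.card (H.subgroupOf T) = Nat.card H :=
  Nat.card_congr (Subgroup.subgroupOfEquivOfLe hHT).toEquiv

/-- The extension by zero of the function induced from `H` to `T`, as a sum over `T`. -/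
theorem extendByZero_indFun_rel [Fintype G] (H T : Subgroup G) (hHT : H ≤ T) [Fintype T]
    (θ : H → ℂ) (z : G) :
    extendByZero T (indFun (H.subgroupOf T) (pullH H T hHT θ)) z =
      (Nat.card H : ℂ)⁻¹ * ∑ x : T, extendByZero H θ ((x : G)⁻¹ * z * (x : G)) := by
  by_cases hz : z ∈ T
  · rw [extendByZero_of_mem _ _ z hz]
    unfold indFun
    rw [card_subgroupOf_le H T hHT]
    congr 1
    apply Finset.sum_congr rfl
    intro x _
    rw [extendByZero_pullH]
    rfl
  · rw [extendByZero_of_not_mem _ _ z hz, Finset.sum_eq_zero, mul_zero]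
    intro x _
    apply extendByZero_of_not_mem
    intro h
    apply hz
    have h1 : (x : G)⁻¹ * z * (x : G) ∈ T := hHT h
    have h2 : z = (x : G) * ((x : G)⁻¹ * z * (x : G)) * (x : G)⁻¹ := by group
    rw [h2]
    exact T.mul_mem (T.mul_mem x.2 h1) (T.inv_mem x.2)

/-- Transitivity of induction. -/
theorem indFun_trans [Fintype G] (H T : Subgroup G) (hHT : H ≤ T) [Fintype T] (θ : H → ℂ) :
    indFun T (indFun (H.subgroupOf T) (pullH H T hHT θ)) = indFun H θ := by
  funext g
  have hT0 : (Nat.card T : ℂ) ≠ 0 := by exact_mod_cast (Nat.card_pos (α := T)).ne'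
  change (Nat.card T : ℂ)⁻¹ * ∑ y : G,
      extendByZero T (indFun (H.subgroupOf T) (pullH H T hHT θ)) (y⁻¹ * g * y) =
    (Nat.card H : ℂ)⁻¹ * ∑ y : G, extendByZero H θ (y⁻¹ * g * y)
  simp only [extendByZero_indFun_rel]
  have h1 : ∑ y : G, (Nat.card H : ℂ)⁻¹ *
      ∑ x : T, extendByZero H θ ((x : G)⁻¹ * (y⁻¹ * g * y) * (x : G)) =
      (Nat.card H : ℂ)⁻¹ * ∑ x : T, ∑ y : G, extendByZero H θ (y⁻¹ * g * y) := by
    rw [← Finset.mul_sum, Finset.sum_comm]
    congr 1
    apply Finset.sum_congr rfl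
    intro x _
    apply Fintype.sum_equiv (Equiv.mulRight (x : G))
    intro y
    simp only [Equiv.coe_mulRight]
    congr 1
    group
  rw [h1, Finset.sum_const, Finset.card_univ, ← Nat.card_eq_fintype_card, nsmul_eq_mul]
  field_simp

/-- Restriction in stages and the inner product. -/
theorem classInner_res_pullH (H T : Subgroup G) (hHT : H ≤ T) [Fintype H]
    [Fintype (H.subgroupOf T)] (ψ : T → ℂ) (θ : H → ℂ) :
    classInner (res (H.subgroupOf T) ψ) (pullH H T hHT θ) =
      classInner (fun n : H => ψ ⟨(n : G), hHT n.2⟩) θ := by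
  unfold classInner
  rw [card_subgroupOf_le H T hHT]
  congr 1
  exact Fintype.sum_equiv (Subgroup.subgroupOfEquivOfLe hHT).toEquiv _ _ (fun n => rfl)

/-- Induction is additive. -/
theorem indFun_add [Fintype G] (T : Subgroup G) (ψ₁ ψ₂ : T → ℂ) :
    indFun T (ψ₁ + ψ₂) = indFun T ψ₁ + indFun T ψ₂ := by
  funext g
  unfold indFun
  rw [Pi.add_apply, ← mul_add, ← Finset.sum_add_distrib]
  congr 1
  apply Finset.sum_congr rfl
  intro x _
  by_cases h : x⁻¹ * g * x ∈ T
  · rw [extendByZero_of_mem _ _ _ h, extendByZero_of_mem _ _ _ h, extendByZero_of_mem _ _ _ h]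
    rfl
  · rw [extendByZero_of_not_mem _ _ _ h, extendByZero_of_not_mem _ _ _ h,
      extendByZero_of_not_mem _ _ _ h, add_zero]

theorem indFun_smul [Fintype G] (T : Subgroup G) (c : ℂ) (ψ : T → ℂ) :
    indFun T (c • ψ) = c • indFun T ψ := by
  funext g
  have hE : ∀ z : G, extendByZero T (c • ψ) z = c * extendByZero T ψ z := by
    intro z
    by_cases h : z ∈ T
    · rw [extendByZero_of_mem _ _ _ h, extendByZero_of_mem _ _ _ h]
      rfl
    · rw [extendByZero_of_not_mem _ _ _ h, extendByZero_of_not_mem _ _ _ h, mul_zero]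
  unfold indFun
  rw [Pi.smul_apply, smul_eq_mul, Finset.sum_congr rfl (fun x _ => hE _), ← Finset.mul_sum]
  ring

theorem indFun_zero [Fintype G] (T : Subgroup G) : indFun T (0 : T → ℂ) = 0 := by
  have := indFun_smul T 0 (0 : T → ℂ)
  simpa using this

theorem indFun_sum [Fintype G] (T : Subgroup G) {ι : Type*} (s : Finset ι) (ψ : ι → T → ℂ) :
    indFun T (∑ i ∈ s, ψ i) = ∑ i ∈ s, indFun T (ψ i) := by
  classical
  induction s using Finset.induction_on with
  | empty => simp [indFun_zero]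
  | insert a s ha ih => rw [Finset.sum_insert ha, Finset.sum_insert ha, indFun_add, ih]

end Cfsg.Agent.helper5
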