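import Mathlib
import Cfsg.Agent.Lib_helper5_Simple

set_option autoImplicit false

/-! Counting elements through Sylow subgroups of prime order (helper5). -/

namespace Cfsg.Agent.helper5.SylCount

open scoped Pointwise
open Classical

variable {G : Type*} [Group G] [Fintype G] {p : ℕ} [hp : Fact p.Prime]

/-- a nonidentity element of a subgroup of prime order generates it -/
theorem zpowers_eq_of_prime_card (P : Subgroup G) (hP : Nat.card P = p) (x : G) (hx : x ∈ P)
    (hx1 : x ≠ 1) : Subgroup.zpowers x = P := by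
  apply Subgroup.eq_of_le_of_card_ge
  · rw [Subgroup.zpowers_le]; exact hx
  · rw [Nat.card_zpowers, hP]
    have h1 : orderOf x ∣ p := by
      have := Subgroup.orderOf_dvd_natCard P hx
      rwa [hP] at this
    rcases (Nat.dvd_prime hp.out).mp h1 with h | h
    · exact absurd (orderOf_eq_one_iff.mp h) hx1
    · exact h.ge

omit [Fintype G] in
theorem orderOf_eq_of_prime_card (P : Subgroup G) (hP : Nat.card P = p) (x : G) (hx : x ∈ P)
    (hx1 : x ≠ 1) : orderOf x = p := by
  have h1 : orderOf x ∣ p := by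
    have := Subgroup.orderOf_dvd_natCard P hx
    rwa [hP] at this
  rcases (Nat.dvd_prime hp.out).mp h1 with h | h
  · exact absurd (orderOf_eq_one_iff.mp h) hx1
  · exact h

omit hp in
theorem card_filter_mem (P : Subgroup G) :
    (Finset.univ.filter fun x : G => x ∈ P).card = Nat.card P := by
  rw [Nat.card_eq_fintype_card, Fintype.card_subtype]

omit hp in
theorem card_filter_mem_ne_one (P : Subgroup G) :
    (Finset.univ.filter fun x : G => x ∈ P ∧ x ≠ 1).card = Nat.card P - 1 := by
  have h1 : (Finset.univ.filter fun x : G => x ∈ P ∧ x ≠ 1) =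
      (Finset.univ.filter fun x : G => x ∈ P).erase 1 := by
    ext x
    simp [and_comm]
  rw [h1, Finset.card_erase_of_mem (by simp [P.one_mem]), card_filter_mem]

/-- the nonidentity elements of the Sylow `p`-subgroups -/
noncomputable def sylElts (G : Type*) [Group G] [Fintype G] (p : ℕ) [Fintype (Sylow p G)] :
    Finset G :=
  (Finset.univ : Finset (Sylow p G)).biUnion fun P =>
    (Finset.univ.filter fun x : G => x ∈ (P : Subgroup G) ∧ x ≠ 1)

theorem card_sylElts [Fintype (Sylow p G)] (hP : ∀ P : Sylow p G, Nat.card P = p) :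
    (sylElts G p).card = Nat.card (Sylow p G) * (p - 1) := by
  unfold sylElts
  rw [Finset.card_biUnion]
  · simp only [card_filter_mem_ne_one, hP]
    rw [Finset.sum_const, Finset.card_univ, smul_eq_mul, Nat.card_eq_fintype_card]
  · intro P _ P' _ hne
    simp only [Function.onFun]
    rw [Finset.disjoint_left]
    intro x hx hx'
    simp only [Finset.mem_filter, Finset.mem_univ, true_and] at hx hx'
    apply hne
    apply Sylow.ext
    rw [← zpowers_eq_of_prime_card (P : Subgroup G) (hP P) x hx.1 hx.2,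
      ← zpowers_eq_of_prime_card (P' : Subgroup G) (hP P') x hx'.1 hx'.2]

theorem orderOf_of_mem_sylElts [Fintype (Sylow p G)] (hP : ∀ P : Sylow p G, Nat.card P = p)
    {x : G} (hx : x ∈ sylElts G p) : orderOf x = p := by
  unfold sylElts at hx
  simp only [Finset.mem_biUnion, Finset.mem_filter, Finset.mem_univ, true_and] at hx
  obtain ⟨P, hxP, hx1⟩ := hx
  exact orderOf_eq_of_prime_card (P : Subgroup G) (hP P) x hxP hx1

/-- distinct Sylow subgroups of prime order: an element of one normalising the other is trivial -/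
theorem eq_one_of_mem_of_smul (hP : ∀ P : Sylow p G, Nat.card P = p) (Q₀ Q : Sylow p G)
    (hne : Q ≠ Q₀) (c : G) (hc0 : c ∈ (Q₀ : Subgroup G)) (hcN : c • Q = Q) : c = 1 := by
  by_contra hc1
  have h1 : c ∈ (Q₀ : Subgroup G) ⊓ (Q : Subgroup G) := by
    rw [← Q₀.2.inf_normalizer_sylow Q]
    exact Subgroup.mem_inf.mpr ⟨hc0, Sylow.smul_eq_iff_mem_normalizer.mp hcN⟩
  apply hne
  apply Sylow.ext
  rw [← zpowers_eq_of_prime_card _ (hP Q) c h1.2 hc1,
    ← zpowers_eq_of_prime_card _ (hP Q₀) c h1.1 hc1]

/-- the fixed Sylow subgroups of an element acting without fixed points on `Q₀` -/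
theorem fix_le [Fintype (Sylow p G)] (hP : ∀ P : Sylow p G, Nat.card P = p) (Q₀ : Sylow p G)
    (y : G) (hy0 : y • Q₀ = Q₀) (hy : ∀ q ∈ (Q₀ : Subgroup G), q * y = y * q → q = 1) :
    ((Finset.univ.filter fun Q : Sylow p G => y • Q = Q).erase Q₀).card * p ≤
      Nat.card (Sylow p G) - 1 := by
  set F := (Finset.univ.filter fun Q : Sylow p G => y • Q = Q).erase Q₀ with hF
  set E := Finset.univ.filter fun x : G => x ∈ (Q₀ : Subgroup G) with hE
  have hEc : E.card = p := by rw [hE, card_filter_mem, hP Q₀]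
  have h1 : (F ×ˢ E).card ≤ ((Finset.univ : Finset (Sylow p G)).erase Q₀).card := by
    apply Finset.card_le_card_of_injOn (fun a => a.2 • a.1)
    · intro a ha
      rw [Finset.mem_coe, Finset.mem_product] at ha
      obtain ⟨ha1, ha2⟩ := ha
      rw [hF, Finset.mem_erase, Finset.mem_filter] at ha1
      rw [hE, Finset.mem_filter] at ha2
      rw [Finset.mem_coe, Finset.mem_erase]
      refine ⟨?_, Finset.mem_univ _⟩
      intro h
      apply ha1.1
      have h2 : a.2⁻¹ • Q₀ = Q₀ :=
        Sylow.smul_eq_iff_mem_normalizer.mpr (Subgroup.le_normalizer (inv_mem ha2.2))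
      rw [← h2, ← h, inv_smul_smul]
    · intro a ha b hb hab
      rw [Finset.mem_coe, Finset.mem_product] at ha hb
      obtain ⟨ha1, ha2⟩ := ha
      obtain ⟨hb1, hb2⟩ := hb
      rw [hF, Finset.mem_erase, Finset.mem_filter] at ha1 hb1
      rw [hE, Finset.mem_filter] at ha2 hb2
      simp only at hab
      -- d = b.2⁻¹ * a.2
      have hd0 : b.2⁻¹ * a.2 ∈ (Q₀ : Subgroup G) := mul_mem (inv_mem hb2.2) ha2.2
      have hdQ : (b.2⁻¹ * a.2) • a.1 = b.1 := by
        rw [mul_smul, hab, inv_smul_smul]
      have hyd : y • ((b.2⁻¹ * a.2) • a.1) = (b.2⁻¹ * a.2) • a.1 := by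
        rw [hdQ]; exact hb1.2.2
      set d := b.2⁻¹ * a.2 with hd
      have hyinv : y⁻¹ • a.1 = a.1 := by
        rw [inv_smul_eq_iff]; exact ha1.2.2.symm
      have hc0 : y⁻¹ * d⁻¹ * y * d ∈ (Q₀ : Subgroup G) := by
        apply mul_mem _ hd0
        have h3 : d⁻¹ ∈ ((y • Q₀ : Sylow p G) : Subgroup G) := by
          rw [hy0]; exact inv_mem hd0
        exact (mem_smul_sylow_iff y d⁻¹ Q₀).mp h3
      have hcN : (y⁻¹ * d⁻¹ * y * d) • a.1 = a.1 := by
        rw [mul_smul, mul_smul, mul_smul, hyd, inv_smul_smul, hyinv]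
      have hc1 := eq_one_of_mem_of_smul hP Q₀ a.1 ha1.1 _ hc0 hcN
      have hcomm : d * y = y * d := by
        have : y * d = d * y * (y⁻¹ * d⁻¹ * y * d) := by group
        rw [this, hc1, mul_one]
      have hd1 : d = 1 := hy d hd0 hcomm
      have hq : a.2 = b.2 := by
        have : a.2 = b.2 * d := by rw [hd]; group
        rw [this, hd1, mul_one]
      have hQ : a.1 = b.1 := by
        rw [← hdQ, hd1, one_smul]
      exact Prod.ext hQ hq
  rw [Finset.card_product, hEc, Finset.card_erase_of_mem (Finset.mem_univ _), Finset.card_univ,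
    ← Nat.card_eq_fintype_card] at h1
  exact h1

/-- the elements normalising a Sylow `p`-subgroup without lying in it -/
noncomputable def outerElts (G : Type*) [Group G] [Fintype G] (p : ℕ) [Fintype (Sylow p G)] :
    Finset G :=
  ((Finset.univ : Finset (Sylow p G)).sigma fun Q =>
    (Finset.univ.filter fun y : G => y • Q = Q ∧ y ∉ (Q : Subgroup G))).image fun a => a.2

omit hp in
theorem mem_outerElts [Fintype (Sylow p G)] (y : G) :
    y ∈ outerElts G p ↔ ∃ Q : Sylow p G, y • Q = Q ∧ y ∉ (Q : Subgroup G) := by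
  unfold outerElts
  simp only [Finset.mem_image, Finset.mem_sigma, Finset.mem_univ, Finset.mem_filter, true_and]
  constructor
  · rintro ⟨a, ha, rfl⟩
    exact ⟨a.1, ha⟩
  · rintro ⟨Q, hQ⟩
    exact ⟨⟨Q, y⟩, hQ, rfl⟩

/-- lower bound for the number of outer elements -/
theorem card_outerElts_ge [Fintype (Sylow p G)] (hP : ∀ P : Sylow p G, Nat.card P = p) (m : ℕ)
    (hN : ∀ Q : Sylow p G, Nat.card (Subgroup.normalizer ((Q : Subgroup G) : Set G)) = m)
    (hC : ∀ Q : Sylow p G, Subgroup.centralizer ((Q : Subgroup G) : Set G) ≤ (Q : Subgroup G))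
    (k : ℕ) (hk : Nat.card (Sylow p G) - 1 < (k + 1) * p) :
    Nat.card (Sylow p G) * (m - p) ≤ (k + 1) * (outerElts G p).card := by
  set T := (Finset.univ : Finset (Sylow p G)).sigma fun Q =>
    (Finset.univ.filter fun y : G => y • Q = Q ∧ y ∉ (Q : Subgroup G)) with hT
  have hTc : T.card = Nat.card (Sylow p G) * (m - p) := by
    rw [hT, Finset.card_sigma]
    have h1 : ∀ Q : Sylow p G,
        (Finset.univ.filter fun y : G => y • Q = Q ∧ y ∉ (Q : Subgroup G)).card = m - p := by
      intro Q
      have e : (Finset.univ.filter fun y : G => y • Q = Q ∧ y ∉ (Q : Subgroup G)) =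
          (Finset.univ.filter fun y : G =>
            y ∈ Subgroup.normalizer ((Q : Subgroup G) : Set G)) \
            (Finset.univ.filter fun y : G => y ∈ (Q : Subgroup G)) := by
        ext y
        simp [Sylow.smul_eq_iff_mem_normalizer]
      rw [e, Finset.card_sdiff_of_subset, card_filter_mem, card_filter_mem, hN Q, hP Q]
      intro y hy
      simp only [Finset.mem_filter, Finset.mem_univ, true_and] at hy ⊢
      exact Subgroup.le_normalizer hy
    simp only [h1]
    rw [Finset.sum_const, Finset.card_univ, smul_eq_mul, Nat.card_eq_fintype_card]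
  rw [← hTc]
  have hB : outerElts G p = T.image fun a => a.2 := rfl
  rw [hB]
  apply Finset.card_le_mul_card_image
  intro y hy
  rw [Finset.mem_image] at hy
  obtain ⟨a₀, ha₀, rfl⟩ := hy
  rw [hT, Finset.mem_sigma, Finset.mem_filter] at ha₀
  obtain ⟨-, -, hfix0, hnot0⟩ := ha₀
  -- the fibre injects into the fixed Sylow subgroups of `y`
  have hy' : ∀ q ∈ (a₀.1 : Subgroup G), q * a₀.2 = a₀.2 * q → q = 1 := by
    intro q hq hcomm
    by_contra hq1
    apply hnot0
    apply hC a₀.1
    rw [Subgroup.mem_centralizer_iff]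
    intro z hz
    rw [← zpowers_eq_of_prime_card _ (hP a₀.1) q hq hq1] at hz
    obtain ⟨i, rfl⟩ := Subgroup.mem_zpowers_iff.mp hz
    have hc : Commute q a₀.2 := hcomm
    exact (hc.zpow_left i).eq
  have h2 := fix_le hP a₀.1 a₀.2 hfix0 hy'
  set F := Finset.univ.filter fun Q : Sylow p G => a₀.2 • Q = Q with hF
  have hFc : F.card ≤ k + 1 := by
    have h3 : (F.erase a₀.1).card ≤ k := by
      by_contra hcon
      push Not at hcon
      have : (k + 1) * p ≤ (F.erase a₀.1).card * p := Nat.mul_le_mul_right p hcon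
      omega
    have h4 : a₀.1 ∈ F := by rw [hF, Finset.mem_filter]; exact ⟨Finset.mem_univ _, hfix0⟩
    rw [Finset.card_erase_of_mem h4] at h3
    omega
  refine le_trans ?_ hFc
  apply Finset.card_le_card_of_injOn (fun a => a.1)
  · intro a ha
    rw [Finset.mem_coe, Finset.mem_filter, hT, Finset.mem_sigma, Finset.mem_filter] at ha
    rw [Finset.mem_coe, hF, Finset.mem_filter]
    refine ⟨Finset.mem_univ _, ?_⟩
    rw [← ha.2]
    exact ha.1.2.2.1
  · intro a ha b hb hab
    rw [Finset.mem_coe, Finset.mem_filter] at ha hb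
    simp only at hab
    exact Sigma.ext hab (heq_of_eq (ha.2.trans hb.2.symm))

end Cfsg.Agent.helper5.SylCount
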