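import Mathlib
import Cfsg.Agent.Lib_helper5_SylCount

set_option autoImplicit false
set_option linter.style.haveILetI false

/-! No simple group of order `1004913 = 3³ · 7 · 13 · 409` (helper5). -/

namespace Cfsg.Agent.helper5.SylCount

open scoped Pointwise

theorem r_eq_three (r n M c : ℕ) (hrφ : r ∣ c) (hr1 : r ≠ 1) (hrn : r * n ∣ M)
    (hg : Nat.gcd c M = 3) : r = 3 ∧ n ∣ M / 3 := by
  have h1 : r ∣ M := Dvd.dvd.trans (Dvd.intro _ rfl) hrn
  have h2 : r ∣ 3 := hg ▸ Nat.dvd_gcd hrφ h1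
  rcases (Nat.dvd_prime Nat.prime_three).mp h2 with h | h
  · exact absurd h hr1
  · refine ⟨h, ?_⟩
    subst h
    obtain ⟨t, ht⟩ := h1
    rw [ht] at hrn ⊢
    rw [Nat.mul_div_cancel_left _ (by norm_num : 0 < 3)]
    exact Nat.dvd_of_mul_dvd_mul_left (by norm_num) hrn

theorem ar409 : ∀ k < 7, (409 * k + 1 ∣ 819 ∧ 409 * k + 1 ≠ 1) → k = 2 := by decide +kernel

theorem ar13' : ∀ a < 78, ∀ b < 78, (13 * (78 * a + b) + 1 ∣ 25767 ∧ 13 * (78 * a + b) + 1 ≠ 1) →
    78 * a + b = 1982 := by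
  decide +kernel

theorem ar13 : ∀ k < 5947, (13 * k + 1 ∣ 25767 ∧ 13 * k + 1 ≠ 1) → k = 1982 := by
  intro k hk h
  have e : k = 78 * (k / 78) + k % 78 := by omega
  rw [e] at h ⊢
  exact ar13' (k / 78) (by omega) (k % 78) (by omega) h

theorem ar7' : ∀ a < 144, ∀ b < 144, (7 * (144 * a + b) + 1 ∣ 47853 ∧
    7 * (144 * a + b) + 1 ≠ 1) → 144 * a + b = 6836 := by
  decide +kernel

theorem ar7 : ∀ k < 20509, (7 * k + 1 ∣ 47853 ∧ 7 * k + 1 ≠ 1) → k = 6836 := by
  intro k hk h
  have e : k = 144 * (k / 144) + k % 144 := by omega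
  rw [e] at h ⊢
  exact ar7' (k / 144) (by omega) (k % 144) (by omega) h

open Classical

/-- numerical facts for a Sylow subgroup of prime order in a non-abelian simple group -/
theorem sylow_prime_facts {G : Type*} [Group G] [Finite G] [IsSimpleGroup G]
    (hG : ∃ a b : G, a * b ≠ b * a) {p : ℕ} [hp : Fact p.Prime] (m : ℕ)
    (hcard : Nat.card G = p ^ 1 * m) (hm : ¬ p ∣ m) (hlt : p < Nat.card G) (P : Sylow p G) :
    Nat.card P = p ∧ ∃ r n : ℕ, n = Nat.card (Sylow p G) ∧
      r = (Subgroup.centralizer ((P : Subgroup G) : Set G)).relIndex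
        (Subgroup.normalizer ((P : Subgroup G) : Set G)) ∧
      r ≠ 1 ∧ r ∣ p - 1 ∧ r * n ∣ m ∧ n % p = 1 ∧ n ≠ 1 ∧
      n * Nat.card (Subgroup.normalizer ((P : Subgroup G) : Set G)) = Nat.card G := by
  obtain ⟨h1, h2⟩ := sylow_card_of_card_eq P 1 m hcard hm
  rw [pow_one] at h1
  refine ⟨h1, ?_⟩
  have hdvd : p ∣ Nat.card G := by rw [hcard, pow_one]; exact dvd_mul_right p m
  have hne : (P : Subgroup G) ≠ ⊥ := sylow_ne_bot P hdvd
  have hcyc : IsCyclic (P : Subgroup G) := isCyclic_of_prime_card h1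
  obtain ⟨r, hr, hr1, hrφ, hrn⟩ := automizer_facts hG P hne hcyc
  obtain ⟨f1, f2, f3⟩ := sylow_count_facts P
  rw [h1, Nat.totient_prime hp.out] at hrφ
  rw [h2] at hrn
  refine ⟨r, Nat.card (Sylow p G), rfl, hr, hr1, hrφ, hrn, f1, ?_, f3⟩
  apply sylow_count_ne_one P hne
  intro htop
  have : Nat.card (P : Subgroup G) = Nat.card G := by rw [htop, Subgroup.card_top]
  omega

/-- a subgroup of prime order lies in its centraliser -/
theorem le_centralizer_of_prime_card {G : Type*} [Group G] [Fintype G] {p : ℕ} [hp : Fact p.Prime]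
    (P : Subgroup G) (hP : Nat.card P = p) : P ≤ Subgroup.centralizer (P : Set G) := by
  intro x hx
  rw [Subgroup.mem_centralizer_iff]
  intro z hz
  by_cases hx1 : x = 1
  · rw [hx1, mul_one, one_mul]
  · rw [SetLike.mem_coe, ← zpowers_eq_of_prime_card P hP x hx hx1] at hz
    obtain ⟨i, rfl⟩ := Subgroup.mem_zpowers_iff.mp hz
    exact ((Commute.refl x).zpow_left i).eq

theorem mem_sylElts {G : Type*} [Group G] [Fintype G] {p : ℕ} [Fintype (Sylow p G)] (x : G) :
    x ∈ sylElts G p ↔ ∃ P : Sylow p G, x ∈ (P : Subgroup G) ∧ x ≠ 1 := by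
  unfold sylElts
  simp only [Finset.mem_biUnion, Finset.mem_filter, Finset.mem_univ, true_and]

theorem no_simple_1004913 {G : Type*} [Group G] [Finite G] [IsSimpleGroup G] :
    Nat.card G ≠ 1004913 := by
  intro hcard
  haveI : Fintype G := Fintype.ofFinite G
  haveI h409 : Fact (Nat.Prime 409) := ⟨by norm_num⟩
  haveI h13 : Fact (Nat.Prime 13) := ⟨by norm_num⟩
  haveI h7 : Fact (Nat.Prime 7) := ⟨by norm_num⟩
  haveI : Fintype (Sylow 409 G) := Fintype.ofFinite _
  haveI : Fintype (Sylow 13 G) := Fintype.ofFinite _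
  haveI : Fintype (Sylow 7 G) := Fintype.ofFinite _
  have hG : ∃ a b : G, a * b ≠ b * a :=
    nonabelian_of_card_not_prime (by rw [hcard]; norm_num)
  -- the prime 409
  have F409 : ∀ Q : Sylow 409 G, Nat.card Q = 409 ∧ Nat.card (Sylow 409 G) = 819 ∧
      Nat.card (Subgroup.normalizer ((Q : Subgroup G) : Set G)) = 1227 ∧
      Subgroup.centralizer ((Q : Subgroup G) : Set G) ≤ (Q : Subgroup G) := by
    intro Q
    obtain ⟨h1, r, n, hn, hr, hr1, hrφ, hrn, hmod, hn1, hN⟩ :=
      sylow_prime_facts hG 2457 (by rw [hcard]; norm_num) (by norm_num) (by rw [hcard]; norm_num) Q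
    have hnpos : 0 < n := by omega
    have hrpos : 0 < r := Nat.pos_of_ne_zero (fun h => by rw [h, zero_mul] at hrn; simp at hrn)
    have hle : r * n ≤ 2457 := Nat.le_of_dvd (by norm_num) hrn
    have hnle : n ≤ 2457 := le_trans (Nat.le_mul_of_pos_left n hrpos) hle
    have hrφ : r ∣ 408 := hrφ
    have hrle : r ≤ 408 := Nat.le_of_dvd (by norm_num) hrφ
    obtain ⟨k, hk⟩ : ∃ k, n = 409 * k + 1 := ⟨n / 409, by omega⟩
    have hk7 : k < 7 := by omega
    obtain ⟨hr3, hn3⟩ := r_eq_three r n 2457 408 hrφ hr1 hrn (by norm_num)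
    have hn3' : n ∣ 819 := hn3
    have hk2 := ar409 k hk7 ⟨by rw [← hk]; exact hn3', by rw [← hk]; exact hn1⟩
    have hn819 : n = 819 := by omega
    rw [hn819, hcard] at hN
    have hNc : Nat.card (Subgroup.normalizer ((Q : Subgroup G) : Set G)) = 1227 := by omega
    refine ⟨h1, by rw [← hn, hn819], hNc, ?_⟩
    -- the centraliser has order 409
    have hCN : Subgroup.centralizer ((Q : Subgroup G) : Set G) ≤
        Subgroup.normalizer ((Q : Subgroup G) : Set G) := Subgroup.centralizer_le_normalizer _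
    have h2 := Subgroup.card_mul_index
      ((Subgroup.centralizer ((Q : Subgroup G) : Set G)).subgroupOf
        (Subgroup.normalizer ((Q : Subgroup G) : Set G)))
    rw [card_subgroupOf_of_le hCN, hNc] at h2
    have h3 : ((Subgroup.centralizer ((Q : Subgroup G) : Set G)).subgroupOf
        (Subgroup.normalizer ((Q : Subgroup G) : Set G))).index = r := hr.symm
    rw [h3, hr3] at h2
    have hCc : Nat.card (Subgroup.centralizer ((Q : Subgroup G) : Set G)) = 409 := by omega
    have hQC := le_centralizer_of_prime_card (Q : Subgroup G) h1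
    have := Subgroup.eq_of_le_of_card_ge hQC (by rw [hCc, h1])
    rw [← this]
  -- the prime 13
  have F13 : ∀ Q : Sylow 13 G, Nat.card Q = 13 ∧ Nat.card (Sylow 13 G) = 25767 := by
    intro Q
    obtain ⟨h1, r, n, hn, hr, hr1, hrφ, hrn, hmod, hn1, hN⟩ :=
      sylow_prime_facts hG 77301 (by rw [hcard]; norm_num) (by norm_num) (by rw [hcard]; norm_num) Q
    have hnpos : 0 < n := by omega
    have hrpos : 0 < r := Nat.pos_of_ne_zero (fun h => by rw [h, zero_mul] at hrn; simp at hrn)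
    have hle : r * n ≤ 77301 := Nat.le_of_dvd (by norm_num) hrn
    have hnle : n ≤ 77301 := le_trans (Nat.le_mul_of_pos_left n hrpos) hle
    have hrφ : r ∣ 12 := hrφ
    have hrle : r ≤ 12 := Nat.le_of_dvd (by norm_num) hrφ
    obtain ⟨k, hk⟩ : ∃ k, n = 13 * k + 1 := ⟨n / 13, by omega⟩
    have hk7 : k < 5947 := by omega
    obtain ⟨hr3, hn3⟩ := r_eq_three r n 77301 12 hrφ hr1 hrn (by norm_num)
    have hn3' : n ∣ 25767 := hn3
    have key := ar13 k hk7 ⟨by rw [← hk]; exact hn3', by rw [← hk]; exact hn1⟩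
    refine ⟨h1, ?_⟩
    rw [← hn]
    omega
  -- the prime 7
  have F7 : ∀ Q : Sylow 7 G, Nat.card Q = 7 ∧ Nat.card (Sylow 7 G) = 47853 := by
    intro Q
    obtain ⟨h1, r, n, hn, hr, hr1, hrφ, hrn, hmod, hn1, hN⟩ :=
      sylow_prime_facts hG 143559 (by rw [hcard]; norm_num) (by norm_num) (by rw [hcard]; norm_num) Q
    have hnpos : 0 < n := by omega
    have hrpos : 0 < r := Nat.pos_of_ne_zero (fun h => by rw [h, zero_mul] at hrn; simp at hrn)
    have hle : r * n ≤ 143559 := Nat.le_of_dvd (by norm_num) hrn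
    have hnle : n ≤ 143559 := le_trans (Nat.le_mul_of_pos_left n hrpos) hle
    have hrφ : r ∣ 6 := hrφ
    have hrle : r ≤ 6 := Nat.le_of_dvd (by norm_num) hrφ
    obtain ⟨k, hk⟩ : ∃ k, n = 7 * k + 1 := ⟨n / 7, by omega⟩
    have hk7 : k < 20509 := by omega
    obtain ⟨hr3, hn3⟩ := r_eq_three r n 143559 6 hrφ hr1 hrn (by norm_num)
    have hn3' : n ∣ 47853 := hn3
    have key := ar7 k hk7 ⟨by rw [← hk]; exact hn3', by rw [← hk]; exact hn1⟩
    refine ⟨h1, ?_⟩
    rw [← hn]
    omega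
  obtain ⟨Q409⟩ : Nonempty (Sylow 409 G) := inferInstance
  obtain ⟨Q13⟩ : Nonempty (Sylow 13 G) := inferInstance
  obtain ⟨Q7⟩ : Nonempty (Sylow 7 G) := inferInstance
  have hP409 : ∀ Q : Sylow 409 G, Nat.card Q = 409 := fun Q => (F409 Q).1
  have hP13 : ∀ Q : Sylow 13 G, Nat.card Q = 13 := fun Q => (F13 Q).1
  have hP7 : ∀ Q : Sylow 7 G, Nat.card Q = 7 := fun Q => (F7 Q).1
  have c409 := card_sylElts hP409
  have c13 := card_sylElts hP13
  have c7 := card_sylElts hP7
  rw [(F409 Q409).2.1] at c409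
  rw [(F13 Q13).2] at c13
  rw [(F7 Q7).2] at c7
  have cO := card_outerElts_ge hP409 1227 (fun Q => (F409 Q).2.2.1) (fun Q => (F409 Q).2.2.2) 2
    (by rw [(F409 Q409).2.1]; norm_num)
  rw [(F409 Q409).2.1] at cO
  -- disjointness
  have o409 : ∀ x ∈ sylElts G 409, orderOf x = 409 := fun x hx => orderOf_of_mem_sylElts hP409 hx
  have o13 : ∀ x ∈ sylElts G 13, orderOf x = 13 := fun x hx => orderOf_of_mem_sylElts hP13 hx
  have o7 : ∀ x ∈ sylElts G 7, orderOf x = 7 := fun x hx => orderOf_of_mem_sylElts hP7 hx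
  have oO : ∀ x ∈ outerElts G 409, orderOf x ∣ 1227 ∧ x ∉ sylElts G 409 := by
    intro x hx
    rw [mem_outerElts] at hx
    obtain ⟨Q, hfix, hnot⟩ := hx
    constructor
    · have hxN : x ∈ Subgroup.normalizer ((Q : Subgroup G) : Set G) :=
        Sylow.smul_eq_iff_mem_normalizer.mp hfix
      have := Subgroup.orderOf_dvd_natCard _ hxN
      rwa [(F409 Q).2.2.1] at this
    · intro hmem
      rw [mem_sylElts] at hmem
      obtain ⟨Q', hxQ', hx1⟩ := hmem
      by_cases hQQ : Q = Q'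
      · exact hnot (hQQ ▸ hxQ')
      · exact hx1 (eq_one_of_mem_of_smul hP409 Q' Q hQQ x hxQ' hfix)
  have d1 : Disjoint (sylElts G 409) (sylElts G 13) := by
    rw [Finset.disjoint_left]
    intro x h1 h2
    have := o409 x h1
    rw [o13 x h2] at this
    omega
  have d2 : Disjoint (sylElts G 409 ∪ sylElts G 13) (sylElts G 7) := by
    rw [Finset.disjoint_left]
    intro x h1 h2
    have h7' := o7 x h2
    rcases Finset.mem_union.mp h1 with h | h
    · have := o409 x h; omega
    · have := o13 x h; omega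
  have d3 : Disjoint (sylElts G 409 ∪ sylElts G 13 ∪ sylElts G 7) (outerElts G 409) := by
    rw [Finset.disjoint_left]
    intro x h1 h2
    obtain ⟨hdvd, hnot⟩ := oO x h2
    rcases Finset.mem_union.mp h1 with h | h
    · rcases Finset.mem_union.mp h with h | h
      · exact hnot h
      · rw [o13 x h] at hdvd; omega
    · rw [o7 x h] at hdvd; omega
  have hle : (sylElts G 409 ∪ sylElts G 13 ∪ sylElts G 7 ∪ outerElts G 409).card ≤
      (Finset.univ : Finset G).card := Finset.card_le_card (Finset.subset_univ _)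
  rw [Finset.card_union_of_disjoint d3, Finset.card_union_of_disjoint d2,
    Finset.card_union_of_disjoint d1, c409, c13, c7, Finset.card_univ,
    ← Nat.card_eq_fintype_card, hcard] at hle
  omega

end Cfsg.Agent.helper5.SylCount
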