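import Mathlib

set_option autoImplicit false

namespace Cfsg.Agent.helper5

/-- If `d` divides the size of every orbit, then it divides the size of the set. -/
theorem dvd_card_of_dvd_orbits {G α : Type*} [Group G] [MulAction G α] [Finite α] (d : ℕ)
    (h : ∀ a : α, d ∣ Nat.card (MulAction.orbit G a)) : d ∣ Nat.card α := by
  classical
  have := Fintype.ofFinite α
  have : Fintype (Quotient (MulAction.orbitRel G α)) := Fintype.ofFinite _
  rw [Nat.card_congr (MulAction.selfEquivSigmaOrbits G α), Nat.card_sigma]
  apply Finset.dvd_sum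
  intro ω _
  exact h _

/-- Orbit size times stabilizer size is the group size. -/
theorem card_orbit_mul_card_stabilizer {G α : Type*} [Group G] [MulAction G α] (a : α) :
    Nat.card (MulAction.orbit G a) * Nat.card (MulAction.stabilizer G a) = Nat.card G := by
  rw [Nat.card_coe_set_eq, ← MulAction.index_stabilizer, mul_comm]
  exact Subgroup.card_mul_index _

/-- If `a₀` is a fixed point and `d` divides the size of every other orbit, then the size of the
set is congruent to `1` modulo `d`. -/
theorem card_modEq_one_of_fixed {G α : Type*} [Group G] [MulAction G α] [Finite α] (d : ℕ)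
    (a₀ : α) (hfix : ∀ g : G, g • a₀ = a₀)
    (h : ∀ a : α, a ≠ a₀ → d ∣ Nat.card (MulAction.orbit G a)) : Nat.card α ≡ 1 [MOD d] := by
  classical
  have := Fintype.ofFinite α
  have : Fintype (Quotient (MulAction.orbitRel G α)) := Fintype.ofFinite _
  rw [Nat.card_congr (MulAction.selfEquivSigmaOrbits G α), Nat.card_sigma]
  set ω₀ : Quotient (MulAction.orbitRel G α) := Quotient.mk'' a₀ with hω₀
  have horb0 : MulAction.orbit G a₀ = {a₀} := by
    ext b
    simp only [MulAction.mem_orbit_iff, Set.mem_singleton_iff]
    constructor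
    · rintro ⟨g, rfl⟩; exact hfix g
    · rintro rfl; exact ⟨1, one_smul _ _⟩
  have hout0 : MulAction.orbit G ω₀.out = {a₀} := by
    have h1 : (Quotient.mk'' ω₀.out : Quotient (MulAction.orbitRel G α)) = Quotient.mk'' a₀ :=
      Quotient.out_eq' ω₀
    have h2 : ω₀.out ∈ MulAction.orbit G a₀ := by
      have := Quotient.exact' h1
      exact this
    rw [horb0, Set.mem_singleton_iff] at h2
    rw [h2, horb0]
  rw [← Finset.add_sum_erase Finset.univ _ (Finset.mem_univ ω₀)]
  have h1 : Nat.card (MulAction.orbit G ω₀.out) = 1 := by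
    rw [hout0]; simp
  rw [h1]
  have h2 : d ∣ ∑ ω ∈ Finset.univ.erase ω₀, Nat.card (MulAction.orbit G ω.out) := by
    apply Finset.dvd_sum
    intro ω hω
    apply h
    intro hc
    apply (Finset.mem_erase.mp hω).1
    rw [hω₀, ← hc]
    exact (Quotient.out_eq' ω).symm
  obtain ⟨m, hm⟩ := h2
  rw [hm]
  exact (Nat.modEq_iff_dvd' (by omega)).mpr ⟨m, by omega⟩ |>.symm

end Cfsg.Agent.helper5
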