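import Mathlib

set_option autoImplicit false

/-! Facts on generalized quaternion groups (helper5). -/

namespace Cfsg.Agent.helper5.Quat

open QuaternionGroup
open scoped commutatorElement

variable {k : ℕ}

theorem inv_a (i : ZMod (2 * k)) : (a i : QuaternionGroup k)⁻¹ = a (-i) := by
  apply inv_eq_of_mul_eq_one_right
  rw [a_mul_a, add_neg_cancel, a_zero]

theorem inv_xa (i : ZMod (2 * k)) : (xa i : QuaternionGroup k)⁻¹ = xa ((k : ZMod (2 * k)) + i) := by
  apply inv_eq_of_mul_eq_one_right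
  rw [xa_mul_xa, ← a_zero]
  congr 1
  have h2 : ((k : ZMod (2 * k)) + k) = 0 := by
    have : ((2 * k : ℕ) : ZMod (2 * k)) = 0 := ZMod.natCast_self (2 * k)
    push_cast at this
    rw [← this]
    ring
  calc (k : ZMod (2 * k)) + (k + i) - i = (k : ZMod (2 * k)) + k := by ring
    _ = 0 := h2

/-- every commutator lies in the cyclic subgroup of the `a i` -/
theorem commutator_eq_a (u v : QuaternionGroup k) : ∃ i, ⁅u, v⁆ = a i := by
  rcases u with i | i <;> rcases v with j | j
  · rw [commutatorElement_def, inv_a, inv_a, a_mul_a, a_mul_a, a_mul_a]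
    exact ⟨_, rfl⟩
  · rw [commutatorElement_def, inv_a, inv_xa, a_mul_xa, xa_mul_a, xa_mul_xa]
    exact ⟨_, rfl⟩
  · rw [commutatorElement_def, inv_a, inv_xa, xa_mul_a, xa_mul_xa, a_mul_a]
    exact ⟨_, rfl⟩
  · rw [commutatorElement_def, inv_xa, inv_xa, xa_mul_xa, a_mul_xa, xa_mul_xa]
    exact ⟨_, rfl⟩

theorem two_k_eq_zero : ((k : ZMod (2 * k)) + k) = 0 := by
  have : ((2 * k : ℕ) : ZMod (2 * k)) = 0 := ZMod.natCast_self (2 * k)
  push_cast at this
  rw [← this]
  ring

theorem commutator_a_one_xa_zero : ⁅(a 1 : QuaternionGroup k), (xa 0 : QuaternionGroup k)⁆ = a 2 := by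
  rw [commutatorElement_def, inv_a, inv_xa, a_mul_xa, xa_mul_a, xa_mul_xa]
  congr 1
  have := two_k_eq_zero (k := k)
  calc (k : ZMod (2 * k)) + (k + 0) - (0 - 1 + -1) = ((k : ZMod (2 * k)) + k) + 2 := by ring
    _ = 2 := by rw [this, zero_add]

/-- elements commuting with `a 2` are of the form `a i`, when `4 ≠ 0` -/
theorem eq_a_of_commute (h4 : (4 : ZMod (2 * k)) ≠ 0) (u : QuaternionGroup k)
    (hu : u * a 2 = a 2 * u) : ∃ i, u = a i := by
  rcases u with i | i
  · exact ⟨i, rfl⟩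
  · exfalso
    rw [xa_mul_a, a_mul_xa] at hu
    have h1 : i + 2 = i - 2 := by
      injection hu
    apply h4
    have : (4 : ZMod (2 * k)) = (i + 2) - (i - 2) := by ring
    rw [this, h1, sub_self]

theorem a_eq_pow [NeZero k] (i : ZMod (2 * k)) : (a i : QuaternionGroup k) = a 1 ^ i.val := by
  rw [a_one_pow, ZMod.natCast_zmod_val]

theorem four_ne_zero_of_le (hk : 3 ≤ k) : (4 : ZMod (2 * k)) ≠ 0 := by
  intro h
  have h1 : ((4 : ℕ) : ZMod (2 * k)) = 0 := by exact_mod_cast h
  rw [ZMod.natCast_eq_zero_iff] at h1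
  have := Nat.le_of_dvd (by norm_num) h1
  omega

end Cfsg.Agent.helper5.Quat
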