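import Mathlib
import Cfsg.Agent.Lib_helper5_Quat

set_option autoImplicit false

/-! A generalized quaternion Sylow 2-subgroup `S` of order at least 16 and its commutator
subgroup `D` (helper5). -/

namespace Cfsg.Agent.helper5.QuatSylow

open QuaternionGroup Cfsg.Agent.helper5.Quat
open scoped commutatorElement

variable {G : Type*} [Group G] {S : Subgroup G} {n : ℕ}

/-- the generator of the cyclic maximal subgroup -/
def gen (e : S ≃* QuaternionGroup (2 ^ (n + 2))) : G := ((e.symm (a 1) : S) : G)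

theorem gen_mem (e : S ≃* QuaternionGroup (2 ^ (n + 2))) : gen e ∈ S := (e.symm (a 1)).2

theorem four_ne_zero' : (4 : ZMod (2 * 2 ^ (n + 2))) ≠ 0 := by
  apply four_ne_zero_of_le
  have h1 : 2 ^ (n + 2) = 4 * 2 ^ n := by ring
  have h2 := Nat.one_le_two_pow (n := n)
  omega

theorem mem_zpowers_of_eq_a (e : S ≃* QuaternionGroup (2 ^ (n + 2))) (s : S)
    (i : ZMod (2 * 2 ^ (n + 2))) (h : e s = a i) : (s : G) ∈ Subgroup.zpowers (gen e) := by
  have h1 : s = e.symm (a 1) ^ i.val := by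
    rw [← map_pow, ← a_eq_pow, ← h, MulEquiv.symm_apply_apply]
  rw [h1, Subgroup.coe_pow]
  exact Subgroup.npow_mem_zpowers _ _

theorem commutator_le_zpowers (e : S ≃* QuaternionGroup (2 ^ (n + 2))) :
    ⁅S, S⁆ ≤ Subgroup.zpowers (gen e) := by
  rw [Subgroup.commutator_le]
  intro s hs t ht
  obtain ⟨i, hi⟩ := commutator_eq_a (e ⟨s, hs⟩) (e ⟨t, ht⟩)
  rw [← map_commutatorElement] at hi
  have := mem_zpowers_of_eq_a e _ i hi
  have h5 : ((⁅(⟨s, hs⟩ : S), (⟨t, ht⟩ : S)⁆ : S) : G) = ⁅s, t⁆ :=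
    map_commutatorElement S.subtype _ _
  rwa [h5] at this

theorem gen_sq_mem_commutator (e : S ≃* QuaternionGroup (2 ^ (n + 2))) :
    gen e ^ 2 ∈ ⁅S, S⁆ := by
  have h1 : (a 2 : QuaternionGroup (2 ^ (n + 2))) = a 1 ^ 2 := by
    rw [a_one_pow]
    norm_num
  have h2 : e.symm (a 1) ^ 2 = ⁅e.symm (a 1), e.symm (xa 0)⁆ := by
    rw [← map_pow, ← h1, ← commutator_a_one_xa_zero, map_commutatorElement]
  have h3 : gen e ^ 2 = ⁅((e.symm (a 1) : S) : G), ((e.symm (xa 0) : S) : G)⁆ := by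
    unfold gen
    rw [← Subgroup.coe_pow, h2]
    exact map_commutatorElement S.subtype _ _
  rw [h3]
  exact Subgroup.commutator_mem_commutator (e.symm (a 1)).2 (e.symm (xa 0)).2

theorem commutator_le_self : ⁅S, S⁆ ≤ S := by
  rw [Subgroup.commutator_le]
  intro s hs t ht
  rw [commutatorElement_def]
  exact S.mul_mem (S.mul_mem (S.mul_mem hs ht) (S.inv_mem hs)) (S.inv_mem ht)

theorem inf_centralizer_le_zpowers (e : S ≃* QuaternionGroup (2 ^ (n + 2))) :
    S ⊓ Subgroup.centralizer ((⁅S, S⁆ : Subgroup G) : Set G) ≤ Subgroup.zpowers (gen e) := by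
  intro z hz
  rw [Subgroup.mem_inf, Subgroup.mem_centralizer_iff] at hz
  obtain ⟨hzS, hzC⟩ := hz
  have h1 := hzC _ (gen_sq_mem_commutator e)
  -- transport to the quaternion group
  have h2 : e ⟨z, hzS⟩ * a 2 = a 2 * e ⟨z, hzS⟩ := by
    have h3 : (a 2 : QuaternionGroup (2 ^ (n + 2))) = e (e.symm (a 1) ^ 2) := by
      rw [map_pow, MulEquiv.apply_symm_apply, a_one_pow]
      norm_num
    rw [h3, ← map_mul, ← map_mul]
    congr 1
    apply Subtype.ext
    rw [Subgroup.coe_mul, Subgroup.coe_mul, Subgroup.coe_pow]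
    exact h1.symm
  obtain ⟨i, hi⟩ := eq_a_of_commute four_ne_zero' _ h2
  exact mem_zpowers_of_eq_a e ⟨z, hzS⟩ i hi

theorem conj_mem_commutator {s : G} (hs : s ∈ S) {h : G} (hh : h ∈ ⁅S, S⁆) :
    s * h * s⁻¹ ∈ ⁅S, S⁆ := by
  have hmap : S.map (MulAut.conj s).toMonoidHom = S := by
    apply le_antisymm
    · rintro _ ⟨x, hx, rfl⟩
      show s * x * s⁻¹ ∈ S
      exact S.mul_mem (S.mul_mem hs hx) (S.inv_mem hs)
    · intro x hx
      refine ⟨s⁻¹ * x * s, S.mul_mem (S.mul_mem (S.inv_mem hs) hx) hs, ?_⟩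
      show s * (s⁻¹ * x * s) * s⁻¹ = x
      group
  have h1 := Subgroup.map_commutator S S (MulAut.conj s).toMonoidHom
  rw [hmap] at h1
  rw [← h1]
  exact ⟨h, hh, rfl⟩

theorem le_normalizer_commutator :
    S ≤ Subgroup.normalizer ((⁅S, S⁆ : Subgroup G) : Set G) := by
  intro s hs
  rw [Subgroup.mem_normalizer_iff]
  intro h
  constructor
  · intro hh
    exact conj_mem_commutator hs hh
  · intro hh
    have := conj_mem_commutator (S.inv_mem hs) hh
    rw [inv_inv] at this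
    have h2 : s⁻¹ * (s * h * s⁻¹) * s = h := by group
    rwa [h2] at this

theorem orderOf_gen (e : S ≃* QuaternionGroup (2 ^ (n + 2))) :
    orderOf (gen e) = 2 ^ (n + 3) := by
  unfold gen
  rw [Subgroup.orderOf_coe, MulEquiv.orderOf_eq, orderOf_a_one]
  ring

theorem zpowers_le_centralizer (e : S ≃* QuaternionGroup (2 ^ (n + 2))) :
    Subgroup.zpowers (gen e) ≤ Subgroup.centralizer ((⁅S, S⁆ : Subgroup G) : Set G) := by
  intro z hz
  rw [Subgroup.mem_centralizer_iff]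
  intro h hh
  have hh' := commutator_le_zpowers e hh
  rw [Subgroup.mem_zpowers_iff] at hz hh'
  obtain ⟨i, rfl⟩ := hz
  obtain ⟨j, rfl⟩ := hh'
  rw [← zpow_add, ← zpow_add, add_comm]

/-- centralizers are normalized by the normalizer -/
theorem conj_mem_centralizer {D : Subgroup G} {g y : G}
    (hg : g ∈ Subgroup.normalizer (D : Set G)) (hy : y ∈ Subgroup.centralizer (D : Set G)) :
    g * y * g⁻¹ ∈ Subgroup.centralizer (D : Set G) := by
  rw [Subgroup.mem_centralizer_iff] at hy ⊢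
  intro h hh
  have h1 : g⁻¹ * h * g ∈ D := by
    rw [Subgroup.mem_normalizer_iff''] at hg
    exact (hg h).mp hh
  have h2 := hy _ h1
  calc h * (g * y * g⁻¹) = g * ((g⁻¹ * h * g) * y) * g⁻¹ := by group
    _ = g * (y * (g⁻¹ * h * g)) * g⁻¹ := by rw [h2]
    _ = g * y * g⁻¹ * h := by group

end Cfsg.Agent.helper5.QuatSylow
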