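import Mathlib
import Cfsg.Agent.Lib_helper5_ReeC
import Cfsg.Agent.Lib_helper5_ChevCerts
import Cfsg.Agent.Lib_helper5_ChevColl
import Cfsg.Agent.Lib_helper5_ChevUniq2

set_option autoImplicit false
set_option linter.unusedSectionVars false
set_option linter.unusedVariables false

/-! The fixed points of the Ree endomorphism in the unipotent subgroups (helper5). -/

namespace Cfsg.Agent.helper5.Chev

open Cfsg.Lie

theorem mul4_comm {G : Type*} [Group G] (p q r s p' q' r' s' : G) (h1 : q * p' = p' * q)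
    (h2 : r * p' = p' * r) (h3 : s * p' = p' * s) (h4 : r * q' = q' * r) (h5 : s * q' = q' * s)
    (h6 : s * r' = r' * s) :
    p * q * r * s * (p' * q' * r' * s') = p * p' * (q * q') * (r * r') * (s * s') := by
  calc p * q * r * s * (p' * q' * r' * s') = p * q * r * (s * p') * q' * r' * s' := by group
    _ = p * q * r * (p' * s) * q' * r' * s' := by rw [h3]
    _ = p * q * (r * p') * s * q' * r' * s' := by group
    _ = p * q * (p' * r) * s * q' * r' * s' := by rw [h2]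
    _ = p * (q * p') * r * s * q' * r' * s' := by group
    _ = p * (p' * q) * r * s * q' * r' * s' := by rw [h1]
    _ = p * p' * q * r * (s * q') * r' * s' := by group
    _ = p * p' * q * r * (q' * s) * r' * s' := by rw [h5]
    _ = p * p' * q * (r * q') * s * r' * s' := by group
    _ = p * p' * q * (q' * r) * s * r' * s' := by rw [h4]
    _ = p * p' * q * q' * r * (s * r') * s' := by group
    _ = p * p' * q * q' * r * (r' * s) * s' := by rw [h6]
    _ = p * p' * (q * q') * (r * r') * (s * s') := by group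

section
variable {K : Type*} [Field K] [CharP K 3]

/-- the abelian group generated by the positive root subgroups of height at least `2` -/
noncomputable def P4 (a b c d : K) : ↥(chevG2.group K) := g2x 8 a * g2x 9 b * g2x 10 c * g2x 11 d

/-- the same for the negative roots -/
noncomputable def Q4 (a b c d : K) : ↥(chevG2.group K) := g2x 3 a * g2x 2 b * g2x 1 c * g2x 0 d

theorem P4_mul (a b c d a' b' c' d' : K) :
    P4 a b c d * P4 a' b' c' d' = P4 (a + a') (b + b') (c + c') (d + d') := by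
  unfold P4
  rw [mul4_comm _ _ _ _ _ _ _ _ (g2_comm 8 9 (by decide) a' b).symm
    (g2_comm 8 10 (by decide) a' c).symm (g2_comm 8 11 (by decide) a' d).symm
    (g2_comm 9 10 (by decide) b' c).symm (g2_comm 9 11 (by decide) b' d).symm
    (g2_comm 10 11 (by decide) c' d).symm, g2x_mul, g2x_mul, g2x_mul, g2x_mul]

theorem Q4_mul (a b c d a' b' c' d' : K) :
    Q4 a b c d * Q4 a' b' c' d' = Q4 (a + a') (b + b') (c + c') (d + d') := by
  unfold Q4
  rw [mul4_comm _ _ _ _ _ _ _ _ (g2_comm 3 2 (by decide) a' b).symm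
    (g2_comm 3 1 (by decide) a' c).symm (g2_comm 3 0 (by decide) a' d).symm
    (g2_comm 2 1 (by decide) b' c).symm (g2_comm 2 0 (by decide) b' d).symm
    (g2_comm 1 0 (by decide) c' d).symm, g2x_mul, g2x_mul, g2x_mul, g2x_mul]

theorem P4_zero : P4 (0 : K) 0 0 0 = 1 := by simp [P4, g2x_zero]
theorem Q4_zero : Q4 (0 : K) 0 0 0 = 1 := by simp [Q4, g2x_zero]

theorem P4_inv (a b c d : K) : (P4 a b c d)⁻¹ = P4 (-a) (-b) (-c) (-d) := by
  rw [inv_eq_iff_mul_eq_one, P4_mul]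
  simp [P4_zero]

theorem Q4_inv (a b c d : K) : (Q4 a b c d)⁻¹ = Q4 (-a) (-b) (-c) (-d) := by
  rw [inv_eq_iff_mul_eq_one, Q4_mul]
  simp [Q4_zero]

/-- `x_b(B) x_a(A) = x_a(A) x_b(B) P4(AB, A²B, -A³B, -A³B²)` -/
theorem rel_ba (A B : K) :
    g2x 6 B * g2x 7 A = g2x 7 A * g2x 6 B * P4 (A * B) (A ^ 2 * B) (-(A ^ 3 * B)) (-(A ^ 3 * B ^ 2)) := by
  rw [g2_rel_ba]
  unfold P4
  group

/-- `x_a(A) x_b(B) = x_b(B) x_a(A) P4(-AB, -A²B, A³B, A³B²)` -/
theorem rel_ab (A B : K) :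
    g2x 7 A * g2x 6 B = g2x 6 B * g2x 7 A * P4 (-(A * B)) (-(A ^ 2 * B)) (A ^ 3 * B) (A ^ 3 * B ^ 2) := by
  have h := rel_ba A B
  have e : P4 (-(A * B)) (-(A ^ 2 * B)) (A ^ 3 * B) (A ^ 3 * B ^ 2) =
      (P4 (A * B) (A ^ 2 * B) (-(A ^ 3 * B)) (-(A ^ 3 * B ^ 2)))⁻¹ := by
    rw [P4_inv]
    simp
  rw [e, h]
  group

theorem rel_ba_neg (A B : K) :
    g2x 5 B * g2x 4 A = g2x 4 A * g2x 5 B * Q4 (-(A * B)) (A ^ 2 * B) (A ^ 3 * B) (-(A ^ 3 * B ^ 2)) := by
  rw [g2_rel_ba_neg]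
  unfold Q4
  group

theorem rel_ab_neg (A B : K) :
    g2x 4 A * g2x 5 B = g2x 5 B * g2x 4 A * Q4 (A * B) (-(A ^ 2 * B)) (-(A ^ 3 * B)) (A ^ 3 * B ^ 2) := by
  have h := rel_ba_neg A B
  have e : Q4 (A * B) (-(A ^ 2 * B)) (-(A ^ 3 * B)) (A ^ 3 * B ^ 2) =
      (Q4 (-(A * B)) (A ^ 2 * B) (A ^ 3 * B) (-(A ^ 3 * B ^ 2)))⁻¹ := by
    rw [Q4_inv]
    simp
  rw [e, h]
  group

variable (f : K →+* K) (hff : ∀ t : K, f (f t) ^ 3 = t)

include hff in
theorem ree_perf : ∀ x : K, ∃ y : K, y ^ 3 = x := fun x => ⟨f (f x), hff x⟩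

/-- the Ree endomorphism -/
noncomputable def rsig : ↥(chevG2.group K) →* ↥(chevG2.group K) := g2sigma (ree_perf f hff) f

theorem rsig6 (t : K) : rsig f hff (g2x 6 t) = g2x 7 (f t) := by
  unfold rsig
  rw [g2sigma_x _ f 6 (by decide)]
  simp [g2bar, g2lam]

theorem rsig7 (t : K) : rsig f hff (g2x 7 t) = g2x 6 (f t ^ 3) := by
  unfold rsig
  rw [g2sigma_x _ f 7 (by decide)]
  simp [g2bar, g2lam]

theorem rsig8 (t : K) : rsig f hff (g2x 8 t) = g2x 10 (f t ^ 3) := by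
  unfold rsig
  rw [g2sigma_x _ f 8 (by decide)]
  simp [g2bar, g2lam]

theorem rsig9 (t : K) : rsig f hff (g2x 9 t) = g2x 11 (f t ^ 3) := by
  unfold rsig
  rw [g2sigma_x _ f 9 (by decide)]
  simp [g2bar, g2lam]

theorem rsig10 (t : K) : rsig f hff (g2x 10 t) = g2x 8 (f t) := by
  unfold rsig
  rw [g2sigma_x _ f 10 (by decide)]
  simp [g2bar, g2lam]

theorem rsig11 (t : K) : rsig f hff (g2x 11 t) = g2x 9 (f t) := by
  unfold rsig
  rw [g2sigma_x _ f 11 (by decide)]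
  simp [g2bar, g2lam]

theorem rsig5 (t : K) : rsig f hff (g2x 5 t) = g2x 4 (f t) := by
  unfold rsig
  rw [g2sigma_x _ f 5 (by decide)]
  simp [g2bar, g2lam]

theorem rsig4 (t : K) : rsig f hff (g2x 4 t) = g2x 5 (f t ^ 3) := by
  unfold rsig
  rw [g2sigma_x _ f 4 (by decide)]
  simp [g2bar, g2lam]

theorem rsig3 (t : K) : rsig f hff (g2x 3 t) = g2x 1 (f t ^ 3) := by
  unfold rsig
  rw [g2sigma_x _ f 3 (by decide)]
  simp [g2bar, g2lam]

theorem rsig2 (t : K) : rsig f hff (g2x 2 t) = g2x 0 (f t ^ 3) := by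
  unfold rsig
  rw [g2sigma_x _ f 2 (by decide)]
  simp [g2bar, g2lam]

theorem rsig1 (t : K) : rsig f hff (g2x 1 t) = g2x 3 (f t) := by
  unfold rsig
  rw [g2sigma_x _ f 1 (by decide)]
  simp [g2bar, g2lam]

theorem rsig0 (t : K) : rsig f hff (g2x 0 t) = g2x 2 (f t) := by
  unfold rsig
  rw [g2sigma_x _ f 0 (by decide)]
  simp [g2bar, g2lam]

theorem P4_swap (a b c d : K) : g2x 10 c * g2x 11 d * g2x 8 a * g2x 9 b = P4 a b c d := by
  have e1 : g2x 10 c = P4 0 0 c 0 := by simp [P4, g2x_zero]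
  have e2 : g2x 11 d = P4 0 0 0 d := by simp [P4, g2x_zero]
  have e3 : g2x 8 a = P4 a 0 0 0 := by simp [P4, g2x_zero]
  have e4 : g2x 9 b = P4 0 b 0 0 := by simp [P4, g2x_zero]
  rw [e1, e2, e3, e4, P4_mul, P4_mul, P4_mul]
  simp

theorem Q4_swap (a b c d : K) : g2x 1 c * g2x 0 d * g2x 3 a * g2x 2 b = Q4 a b c d := by
  have e1 : g2x 1 c = Q4 0 0 c 0 := by simp [Q4, g2x_zero]
  have e2 : g2x 0 d = Q4 0 0 0 d := by simp [Q4, g2x_zero]
  have e3 : g2x 3 a = Q4 a 0 0 0 := by simp [Q4, g2x_zero]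
  have e4 : g2x 2 b = Q4 0 b 0 0 := by simp [Q4, g2x_zero]
  rw [e1, e2, e3, e4, Q4_mul, Q4_mul, Q4_mul]
  simp

theorem rsigP4 (a b c d : K) : rsig f hff (P4 a b c d) = P4 (f c) (f d) (f a ^ 3) (f b ^ 3) := by
  unfold P4
  rw [map_mul, map_mul, map_mul, rsig8, rsig9, rsig10, rsig11]
  exact P4_swap _ _ _ _

theorem rsigQ4 (a b c d : K) : rsig f hff (Q4 a b c d) = Q4 (f c) (f d) (f a ^ 3) (f b ^ 3) := by
  unfold Q4
  rw [map_mul, map_mul, map_mul, rsig3, rsig2, rsig1, rsig0]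
  exact Q4_swap _ _ _ _

/-- the elements of `U¹` -/
noncomputable def ru (t u v : K) : ↥(chevG2.group K) :=
  g2x 7 (f t) * g2x 6 t * P4 (f t * t + f u) (f t ^ 2 * t + f v) u v

/-- the elements of `V¹` -/
noncomputable def rv (t u v : K) : ↥(chevG2.group K) :=
  g2x 4 (-(f t)) * g2x 5 (-t) * Q4 (-(f t * t + f u)) (-(f t ^ 2 * t + f v)) (-u) (-v)

include hff in
theorem f_cube (t : K) : f (t ^ 3) = f t ^ 3 := map_pow f t 3

theorem cube_add (x y : K) : (x + y) ^ 3 = x ^ 3 + y ^ 3 := add_pow_char x y 3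

theorem rsig_ru (t u v : K) : rsig f hff (ru f t u v) = ru f t u v := by
  unfold ru
  rw [map_mul, map_mul, rsig7, rsig6, rsigP4, hff, rel_ba, mul_assoc, P4_mul]
  congr 2
  · rw [map_add, map_mul, cube_add, mul_pow, hff, hff]
    ring
  · have h2 : (f (f t) ^ 2) ^ 3 = t ^ 2 := by rw [← pow_mul, mul_comm, pow_mul, hff]
    rw [map_add, map_mul, map_pow, cube_add, mul_pow, h2, hff]
    ring

theorem fcube_add (x y : K) : f (x + y) ^ 3 = f x ^ 3 + f y ^ 3 := by rw [map_add, cube_add]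
theorem fcube_neg (x : K) : f (-x) ^ 3 = -(f x ^ 3) := by rw [map_neg]; ring
theorem fcube_mul (x y : K) : f (x * y) ^ 3 = f x ^ 3 * f y ^ 3 := by rw [map_mul, mul_pow]
theorem fcube_sq (x : K) : f (x ^ 2) ^ 3 = (f x ^ 3) ^ 2 := by rw [map_pow]; ring

theorem rsig_rv (t u v : K) : rsig f hff (rv f t u v) = rv f t u v := by
  unfold rv
  rw [map_mul, map_mul, rsig4, rsig5, rsigQ4, fcube_neg, hff, rel_ba_neg, mul_assoc, Q4_mul]
  congr 2
  all_goals
    try simp only [fcube_neg, fcube_add, fcube_mul, fcube_sq, hff]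
    try simp only [map_neg]
    try ring

end

end Cfsg.Agent.helper5.Chev
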