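import Mathlib
import Cfsg.Agent.Lib_helper5_ReeD

set_option autoImplicit false
set_option linter.unusedSectionVars false
set_option linter.unusedVariables false

/-! The group `U¹` of the Ree groups (helper5). -/

namespace Cfsg.Agent.helper5.Chev

open Cfsg.Lie

section
variable {K : Type*} [Field K] [CharP K 3]

/-- normal form in `U` -/
noncomputable def nf6 (c6 c7 c8 c9 c10 c11 : K) : ↥(chevG2.group K) :=
  g2x 6 c6 * g2x 7 c7 * P4 c8 c9 c10 c11

/-- the coordinate function -/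
def tfun (c6 c7 c8 c9 c10 c11 : K) : ℕ → K := fun r =>
  if r = 6 then c6 else if r = 7 then c7 else if r = 8 then c8 else if r = 9 then c9
  else if r = 10 then c10 else if r = 11 then c11 else 0

theorem g2_posRoots : chevG2.posRoots = [6, 7, 8, 9, 10, 11] := by decide

theorem nf6_val (c6 c7 c8 c9 c10 c11 : K) :
    ((nf6 c6 c7 c8 c9 c10 c11 : ↥(chevG2.group K)) : GL chevG2.Idx K) =
      prodL chevG2 g2_mem (tfun c6 c7 c8 c9 c10 c11) chevG2.posRoots := by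
  rw [g2_posRoots]
  unfold nf6 P4 prodL
  simp only [List.map_cons, List.map_nil, List.prod_cons, List.prod_nil, mul_one, Subgroup.coe_mul,
    tfun]
  simp only [mul_assoc]
  rfl

theorem nf6_inj (c6 c7 c8 c9 c10 c11 d6 d7 d8 d9 d10 d11 : K)
    (h : nf6 c6 c7 c8 c9 c10 c11 = nf6 d6 d7 d8 d9 d10 d11) :
    c6 = d6 ∧ c7 = d7 ∧ c8 = d8 ∧ c9 = d9 ∧ c10 = d10 ∧ c11 = d11 := by
  have h1 : prodL chevG2 g2_mem (tfun c6 c7 c8 c9 c10 c11) chevG2.posRoots =
      prodL chevG2 g2_mem (tfun d6 d7 d8 d9 d10 d11) chevG2.posRoots := by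
    rw [← nf6_val, ← nf6_val, h]
  have h2 := prodL_inj chevG2 g2_mem _ _ chevG2.posRoots (posRoots_pairwise chevG2)
    (fun r hr => (mem_posRoots chevG2 r).mp hr) h1
  rw [g2_posRoots] at h2
  have a6 := h2 6 (by simp)
  have a7 := h2 7 (by simp)
  have a8 := h2 8 (by simp)
  have a9 := h2 9 (by simp)
  have a10 := h2 10 (by simp)
  have a11 := h2 11 (by simp)
  simp only [tfun] at a6 a7 a8 a9 a10 a11
  norm_num at a6 a7 a8 a9 a10 a11
  exact ⟨a6, a7, a8, a9, a10, a11⟩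

theorem exists_nf6 (g : ↥(chevG2.group K)) (hg : (g : GL chevG2.Idx K) ∈ chevG2.posUnipotent K) :
    ∃ c6 c7 c8 c9 c10 c11 : K, g = nf6 c6 c7 c8 c9 c10 c11 := by
  obtain ⟨c, -, e⟩ := exists_prodL_U chevG2 g2_mem (commOK_of_mem _ g2_mem) g.1 hg
  refine ⟨c 6, c 7, c 8, c 9, c 10, c 11, ?_⟩
  apply Subtype.ext
  rw [e, nf6_val]
  apply prodL_congr
  intro r hr
  rw [g2_posRoots] at hr
  simp only [List.mem_cons, List.not_mem_nil, or_false] at hr
  rcases hr with rfl | rfl | rfl | rfl | rfl | rfl <;> simp [tfun]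

variable (f : K →+* K) (hff : ∀ t : K, f (f t) ^ 3 = t)

theorem ru_eq_nf6 (t u v : K) :
    ru f t u v = nf6 t (f t) (f u) (f v) (u + f t ^ 3 * t) (v + f t ^ 3 * t ^ 2) := by
  unfold ru nf6
  rw [rel_ab, mul_assoc, P4_mul]
  congr 2 <;> ring

theorem rsig_nf6 (c6 c7 c8 c9 c10 c11 : K) :
    rsig f hff (nf6 c6 c7 c8 c9 c10 c11) =
      nf6 (f c7 ^ 3) (f c6) (f c10 - f c6 * f c7 ^ 3) (f c11 - f c6 ^ 2 * f c7 ^ 3)
        (f c8 ^ 3 + f c6 ^ 3 * f c7 ^ 3) (f c9 ^ 3 + f c6 ^ 3 * (f c7 ^ 3) ^ 2) := by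
  unfold nf6
  rw [map_mul, map_mul, rsig6, rsig7, rsigP4, rel_ab, mul_assoc, P4_mul]
  congr 2 <;> ring

include hff in
/-- the fixed points of the Ree endomorphism in `U` -/
theorem fixed_U (g : ↥(chevG2.group K)) (hg : (g : GL chevG2.Idx K) ∈ chevG2.posUnipotent K)
    (hfix : rsig f hff g = g) : ∃ t u v : K, g = ru f t u v := by
  obtain ⟨c6, c7, c8, c9, c10, c11, rfl⟩ := exists_nf6 g hg
  rw [rsig_nf6] at hfix
  obtain ⟨e6, e7, e8, e9, -, -⟩ := nf6_inj _ _ _ _ _ _ _ _ _ _ _ _ hfix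
  refine ⟨c6, c10 - f c6 ^ 3 * c6, c11 - f c6 ^ 3 * c6 ^ 2, ?_⟩
  rw [ru_eq_nf6]
  have e6' : f c7 ^ 3 = c6 := e6
  have e7' : c7 = f c6 := e7.symm
  congr 1
  · rw [map_sub, map_mul, map_pow, ← e7', e6', ← e8, e6', e7']
    ring
  · rw [map_sub, map_mul, map_pow, map_pow, ← e7', e6', ← e9, e6', e7']
    ring
  · ring
  · ring

theorem ru_inj (t u v t' u' v' : K) (h : ru f t u v = ru f t' u' v') : t = t' ∧ u = u' ∧ v = v' := by
  rw [ru_eq_nf6, ru_eq_nf6] at h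
  obtain ⟨e6, -, -, -, e10, e11⟩ := nf6_inj _ _ _ _ _ _ _ _ _ _ _ _ h
  subst e6
  exact ⟨rfl, add_right_cancel e10, add_right_cancel e11⟩

theorem ru_mem_U (t u v : K) :
    ((ru f t u v : ↥(chevG2.group K)) : GL chevG2.Idx K) ∈ chevG2.posUnipotent K := by
  have hx : ∀ r : ℕ, chevG2.IsPosRoot r → ∀ c : K,
      ((g2x r c : ↥(chevG2.group K)) : GL chevG2.Idx K) ∈ chevG2.posUnipotent K := by
    intro r hr c
    unfold ChevalleyDatum.posUnipotent
    exact Subgroup.subset_closure ⟨r, c, hr, rfl⟩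
  unfold ru P4
  simp only [Subgroup.coe_mul]
  exact Subgroup.mul_mem _ (Subgroup.mul_mem _ (hx 7 (by decide) _) (hx 6 (by decide) _))
    (Subgroup.mul_mem _ (Subgroup.mul_mem _ (Subgroup.mul_mem _ (hx 8 (by decide) _)
      (hx 9 (by decide) _)) (hx 10 (by decide) _)) (hx 11 (by decide) _))

end

end Cfsg.Agent.helper5.Chev
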