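import Mathlib
import Cfsg.Agent.Lib_helper5_ReeE
import Cfsg.Prelude.Def_LieTwisted

set_option autoImplicit false
set_option linter.unusedSectionVars false
set_option linter.unusedVariables false

/-! The Ree group inside the fixed points of the Ree endomorphism; the group `U¹` (helper5). -/

namespace Cfsg.Agent.helper5.Chev

open Cfsg.Lie

section
variable {K : Type*} [Field K] [CharP K 3] (f : K →+* K) (hff : ∀ t : K, f (f t) ^ 3 = t)
  (e : ℕ) (hfe : ∀ t : K, f t = t ^ e)

include hfe in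
theorem ru_val (t u v : K) :
    (((ru f t u v : ↥(chevG2.group K)) : GL chevG2.Idx K) : Matrix chevG2.Idx chevG2.Idx K) =
      chevG2.wordMat K (reeWordU e t u v) := by
  have p1 : f t * t + f u = t ^ (e + 1) + u ^ e := by rw [hfe, hfe, pow_succ]
  have p2 : f t ^ 2 * t + f v = t ^ (2 * e + 1) + v ^ e := by rw [hfe, hfe]; ring
  unfold ru P4 reeWordU ChevalleyDatum.wordMat
  rw [p1, p2, hfe]
  simp only [Subgroup.coe_mul, Units.val_mul, g2x_val, List.map_cons, List.map_nil, List.prod_cons,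
    List.prod_nil, mul_one, g2a, g2b, g2ab, g2aab, g2aaab, g2aaabb, mul_assoc]

include hfe in
theorem rv_val (t u v : K) :
    (((rv f t u v : ↥(chevG2.group K)) : GL chevG2.Idx K) : Matrix chevG2.Idx chevG2.Idx K) =
      chevG2.wordMat K (reeWordV e t u v) := by
  have p1 : f t * t + f u = t ^ (e + 1) + u ^ e := by rw [hfe, hfe, pow_succ]
  have p2 : f t ^ 2 * t + f v = t ^ (2 * e + 1) + v ^ e := by rw [hfe, hfe]; ring
  have n7 : chevG2.negIdx.getD 7 0 = 4 := by decide
  have n6 : chevG2.negIdx.getD 6 0 = 5 := by decide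
  have n8 : chevG2.negIdx.getD 8 0 = 3 := by decide
  have n9 : chevG2.negIdx.getD 9 0 = 2 := by decide
  have n10 : chevG2.negIdx.getD 10 0 = 1 := by decide
  have n11 : chevG2.negIdx.getD 11 0 = 0 := by decide
  unfold rv Q4 reeWordV reeWordU ChevalleyDatum.negWord ChevalleyDatum.wordMat
  rw [p1, p2, hfe]
  simp only [Subgroup.coe_mul, Units.val_mul, g2x_val, List.map_cons, List.map_nil, List.prod_cons,
    List.prod_nil, mul_one, g2a, g2b, g2ab, g2aab, g2aaab, g2aaabb, mul_assoc, n7, n6, n8, n9, n10,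
    n11]

/-- the Ree group as a subgroup of the Chevalley group -/
def reeR : Subgroup ↥(chevG2.group K) :=
  Subgroup.closure {g | ∃ t u v : K, g = ru f t u v ∨ g = rv f t u v}

include hfe in
theorem tw_eq_map : twistedG2 K e = (reeR f).map (chevG2.group K).subtype := by
  apply le_antisymm
  · unfold twistedG2 ChevalleyDatum.genSubgroup
    rw [Subgroup.closure_le]
    rintro g ⟨w, ⟨t, u, v, rfl | rfl⟩, hg⟩
    · refine ⟨ru f t u v, Subgroup.subset_closure ⟨t, u, v, Or.inl rfl⟩, ?_⟩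
      apply Units.ext
      rw [hg, ← ru_val f e hfe]
      rfl
    · refine ⟨rv f t u v, Subgroup.subset_closure ⟨t, u, v, Or.inr rfl⟩, ?_⟩
      apply Units.ext
      rw [hg, ← rv_val f e hfe]
      rfl
  · rw [Subgroup.map_le_iff_le_comap]
    unfold reeR
    rw [Subgroup.closure_le]
    rintro g ⟨t, u, v, rfl | rfl⟩
    · rw [SetLike.mem_coe, Subgroup.mem_comap]
      unfold twistedG2 ChevalleyDatum.genSubgroup
      exact Subgroup.subset_closure ⟨_, ⟨t, u, v, Or.inl rfl⟩, ru_val f e hfe t u v⟩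
    · rw [SetLike.mem_coe, Subgroup.mem_comap]
      unfold twistedG2 ChevalleyDatum.genSubgroup
      exact Subgroup.subset_closure ⟨_, ⟨t, u, v, Or.inr rfl⟩, rv_val f e hfe t u v⟩

theorem reeR_fixed (g : ↥(chevG2.group K)) (hg : g ∈ reeR f) : rsig f hff g = g := by
  have h : reeR f ≤ MonoidHom.eqLocus (rsig f hff) (MonoidHom.id _) := by
    unfold reeR
    rw [Subgroup.closure_le]
    rintro g ⟨t, u, v, rfl | rfl⟩
    · exact rsig_ru f hff t u v
    · exact rsig_rv f hff t u v
  exact h hg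

include hff hfe in
/-- **`U¹ = G¹ ∩ U`** -/
theorem ree_U_iff (g : GL chevG2.Idx K) :
    g ∈ chevG2.posUnipotent K ⊓ twistedG2 K e ↔
      ∃ t u v : K, (g : Matrix chevG2.Idx chevG2.Idx K) = chevG2.wordMat K (reeWordU e t u v) := by
  constructor
  · rintro ⟨hU, hT⟩
    rw [tw_eq_map f e hfe] at hT
    obtain ⟨g', hg', rfl⟩ := hT
    obtain ⟨t, u, v, h⟩ := fixed_U f hff g' hU (reeR_fixed f hff g' hg')
    refine ⟨t, u, v, ?_⟩
    rw [← ru_val f e hfe, ← h]
    rfl
  · rintro ⟨t, u, v, h⟩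
    have e1 : g = ((ru f t u v : ↥(chevG2.group K)) : GL chevG2.Idx K) := by
      apply Units.ext
      rw [h, ← ru_val f e hfe]
    rw [e1]
    refine ⟨ru_mem_U f t u v, ?_⟩
    rw [tw_eq_map f e hfe]
    exact ⟨ru f t u v, Subgroup.subset_closure ⟨t, u, v, Or.inl rfl⟩, rfl⟩

include hff hfe in
theorem ree_U_card [Finite K] :
    Nat.card ↥(chevG2.posUnipotent K ⊓ twistedG2 K e) = Nat.card K ^ 3 := by
  have hmem : ∀ p : K × K × K, ((ru f p.1 p.2.1 p.2.2 : ↥(chevG2.group K)) : GL chevG2.Idx K) ∈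
      chevG2.posUnipotent K ⊓ twistedG2 K e := by
    intro p
    rw [ree_U_iff f hff e hfe]
    exact ⟨p.1, p.2.1, p.2.2, ru_val f e hfe _ _ _⟩
  let φ : K × K × K → ↥(chevG2.posUnipotent K ⊓ twistedG2 K e) := fun p => ⟨_, hmem p⟩
  have hbij : Function.Bijective φ := by
    constructor
    · intro p p' h
      have h1 : ru f p.1 p.2.1 p.2.2 = ru f p'.1 p'.2.1 p'.2.2 := by
        apply Subtype.ext
        have h2 := congrArg (fun x : ↥(chevG2.posUnipotent K ⊓ twistedG2 K e) =>
          (x : GL chevG2.Idx K)) h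
        exact h2
      obtain ⟨a, b, c⟩ := ru_inj f _ _ _ _ _ _ h1
      exact Prod.ext a (Prod.ext b c)
    · rintro ⟨g, hg⟩
      obtain ⟨t, u, v, h⟩ := (ree_U_iff f hff e hfe g).mp hg
      refine ⟨(t, u, v), ?_⟩
      apply Subtype.ext
      apply Units.ext
      rw [h, ← ru_val f e hfe]
  rw [← Nat.card_congr (Equiv.ofBijective φ hbij), Nat.card_prod, Nat.card_prod]
  ring

end

/-! ### The finite fields of order `3^(2m+1)` -/

section
variable {K : Type*} [Field K] [Fintype K] {m : ℕ} (hK : Fintype.card K = 3 ^ (2 * m + 1))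

include hK in
theorem ree_charP : CharP K 3 := by
  obtain ⟨p, hp⟩ := CharP.exists K
  have hpp : p.Prime := by
    have := hp
    exact CharP.char_is_prime K p
  have := hp
  have h1 : p ∣ Fintype.card K := by
    have : ((Fintype.card K : ℕ) : K) = 0 := Nat.cast_card_eq_zero K
    exact (CharP.cast_eq_zero_iff K p _).mp this
  rw [hK] at h1
  have h2 : p ∣ 3 := hpp.dvd_of_dvd_pow h1
  have h3 : p = 3 := (Nat.prime_dvd_prime_iff_eq hpp Nat.prime_three).mp h2
  rw [← h3]
  exact hp

/-- the field endomorphism `t ↦ t^(3^m)` -/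
noncomputable def reeF [CharP K 3] (m : ℕ) : K →+* K := iterateFrobenius K 3 m

theorem reeF_apply [CharP K 3] (t : K) : reeF m t = t ^ 3 ^ m := iterateFrobenius_def ..

include hK in
theorem reeF_ff [CharP K 3] (t : K) : reeF m (reeF m t) ^ 3 = t := by
  rw [reeF_apply, reeF_apply, ← pow_mul, ← pow_mul]
  have : 3 ^ m * (3 ^ m * 3) = Fintype.card K := by
    rw [hK]; ring
  rw [this, FiniteField.pow_card]

end

end Cfsg.Agent.helper5.Chev
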