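import Mathlib
import Cfsg.Agent.Lib_helper5_ReeF
import Cfsg.Agent.Lib_helper5_TwTorus
import Cfsg.Agent.Lib_helper5_TwFine3
import Cfsg.Agent.Lib_helper5_TwPerf

set_option autoImplicit false
set_option linter.unusedSectionVars false
set_option linter.unusedVariables false

/-! The torus of the Ree groups (helper5). -/

namespace Cfsg.Agent.helper5.Chev

open Cfsg.Lie

section
variable {K : Type*} [Field K] [CharP K 3]

/-- `n_r(t)` in the group -/
noncomputable def g2n (r : ℕ) (t : K) : ↥(chevG2.group K) :=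
  g2x r t * g2x (chevG2.neg r) (-t⁻¹) * g2x r t

theorem g2n_coe (r : ℕ) (t : K) :
    ((g2n r t : ↥(chevG2.group K)) : GL chevG2.Idx K) = nGt chevG2 g2_mem r t := rfl

/-- `h_r(t)` in the group -/
noncomputable def g2h (r : ℕ) (t : K) : ↥(chevG2.group K) := g2n r t * g2n r (-1)

theorem g2h_coe (r : ℕ) (t : K) :
    ((g2h r t : ↥(chevG2.group K)) : GL chevG2.Idx K) = hGt chevG2 g2_mem r t := rfl

/-- the torus elements `h_a(c₀) h_b(c₁)` in the group -/
noncomputable def g2tor (c0 c1 : K) : ↥(chevG2.group K) := g2h 7 c0 * g2h 6 c1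

/-- the parameter function -/
def cfun (c0 c1 : K) : ℕ → K := fun i => if i = 0 then c0 else c1

theorem cfun_ne (c0 c1 : K) (h0 : c0 ≠ 0) (h1 : c1 ≠ 0) : ∀ i, cfun c0 c1 i ≠ 0 := by
  intro i
  unfold cfun
  split_ifs <;> assumption

theorem g2tor_coe (c0 c1 : K) :
    ((g2tor c0 c1 : ↥(chevG2.group K)) : GL chevG2.Idx K) = torP chevG2 g2_mem (cfun c0 c1) := by
  have s0 : chevG2.simple 0 = 7 := by decide
  have s1 : chevG2.simple 1 = 6 := by decide
  have hr : List.range chevG2.rank = [0, 1] := by decide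
  unfold torP g2tor
  rw [hr]
  simp only [List.map_cons,
    List.map_nil, List.prod_cons, List.prod_nil, mul_one, s0, s1, cfun, Subgroup.coe_mul, g2h_coe]
  simp

theorem g2_char7 (c : ℕ → K) : torusChar chevG2 c 7 = c 0 ^ (2 : ℤ) * c 1 ^ (-1 : ℤ) := by
  have c07 : chevG2.cartan 0 7 = 2 := by decide
  have c17 : chevG2.cartan 1 7 = -1 := by decide
  have hr : List.range chevG2.rank = [0, 1] := by decide
  unfold torusChar
  rw [hr]
  simp only [List.map_cons, List.map_nil, List.prod_cons, List.prod_nil, mul_one, c07, c17]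

theorem g2_char6 (c : ℕ → K) : torusChar chevG2 c 6 = c 0 ^ (-3 : ℤ) * c 1 ^ (2 : ℤ) := by
  have c06 : chevG2.cartan 0 6 = -3 := by decide
  have c16 : chevG2.cartan 1 6 = 2 := by decide
  have hr : List.range chevG2.rank = [0, 1] := by decide
  unfold torusChar
  rw [hr]
  simp only [List.map_cons, List.map_nil, List.prod_cons, List.prod_nil, mul_one, c06, c16]

/-- the torus parametrisation is injective for `G₂` -/
theorem torP_inj (c c' : ℕ → K) (hc : ∀ i, c i ≠ 0) (hc' : ∀ i, c' i ≠ 0)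
    (h : torP chevG2 g2_mem c = torP chevG2 g2_mem c') : c 0 = c' 0 ∧ c 1 = c' 1 := by
  have h1 : torusMat chevG2 c = torusMat chevG2 c' := by
    rw [← torP_val chevG2 g2_mem c (fun i _ => hc i), ← torP_val chevG2 g2_mem c' (fun i _ => hc' i),
      h]
  unfold torusMat at h1
  have h2 := Matrix.diagonal_injective h1
  have h7 := congrFun h2 (Sum.inr ⟨7, by decide⟩)
  have h6 := congrFun h2 (Sum.inr ⟨6, by decide⟩)
  simp only [Sum.elim_inr] at h7 h6
  rw [g2_char7, g2_char7] at h7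
  rw [g2_char6, g2_char6] at h6
  have a0 := hc 0
  have a1 := hc 1
  have b0 := hc' 0
  have b1 := hc' 1
  have e0 : c 0 = c' 0 := by
    have : (c 0 ^ (2 : ℤ) * c 1 ^ (-1 : ℤ)) ^ 2 * (c 0 ^ (-3 : ℤ) * c 1 ^ (2 : ℤ)) = c 0 := by
      field_simp
    rw [← this, h7, h6]
    field_simp
  refine ⟨e0, ?_⟩
  rw [e0] at h7
  have : c 1 ^ (-1 : ℤ) = c' 1 ^ (-1 : ℤ) := by
    have hne : c' 0 ^ (2 : ℤ) ≠ 0 := zpow_ne_zero _ b0
    exact mul_left_cancel₀ hne h7
  rw [zpow_neg_one, zpow_neg_one] at this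
  exact inv_injective this

end

end Cfsg.Agent.helper5.Chev
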