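import Mathlib
import Cfsg.Agent.Lib_helper5_ReeG
import Cfsg.Agent.S1034

set_option autoImplicit false
set_option linter.unusedSectionVars false
set_option linter.unusedVariables false

/-! The fixed points of the Ree endomorphism in the torus (helper5). -/

namespace Cfsg.Agent.helper5.Chev

open Cfsg.Lie

section
variable {K : Type*} [Field K] [CharP K 3] (f : K →+* K) (hff : ∀ t : K, f (f t) ^ 3 = t)

theorem f_neg_inv_cube (t : K) : f (-t⁻¹) ^ 3 = -(f t ^ 3)⁻¹ := by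
  rw [map_neg, map_inv₀, Odd.neg_pow (by decide), inv_pow]

theorem f_neg_inv (t : K) : f (-t⁻¹) = -(f t)⁻¹ := by rw [map_neg, map_inv₀]

theorem rsig_n7 (t : K) : rsig f hff (g2n 7 t) = g2n 6 (f t ^ 3) := by
  have n7 : chevG2.neg 7 = 4 := by decide
  have n6 : chevG2.neg 6 = 5 := by decide
  unfold g2n
  rw [n7, n6, map_mul, map_mul, rsig7, rsig4, f_neg_inv_cube]

theorem rsig_n6 (t : K) : rsig f hff (g2n 6 t) = g2n 7 (f t) := by
  have n7 : chevG2.neg 7 = 4 := by decide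
  have n6 : chevG2.neg 6 = 5 := by decide
  unfold g2n
  rw [n7, n6, map_mul, map_mul, rsig6, rsig5, f_neg_inv]

theorem rsig_h7 (t : K) : rsig f hff (g2h 7 t) = g2h 6 (f t ^ 3) := by
  unfold g2h
  rw [map_mul, rsig_n7, rsig_n7]
  congr 2
  rw [map_neg, map_one]
  norm_num

theorem rsig_h6 (t : K) : rsig f hff (g2h 6 t) = g2h 7 (f t) := by
  unfold g2h
  rw [map_mul, rsig_n6, rsig_n6]
  congr 2
  rw [map_neg, map_one]

theorem g2h_comm (a b : K) (ha : a ≠ 0) (hb : b ≠ 0) : g2h 6 a * g2h 7 b = g2h 7 b * g2h 6 a := by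
  apply Subtype.ext
  rw [Subgroup.coe_mul, Subgroup.coe_mul, g2h_coe, g2h_coe]
  have s0 : chevG2.simple 0 = 7 := by decide
  have s1 : chevG2.simple 1 = 6 := by decide
  have := hGt_simple_commute chevG2 g2_mem 1 0 (by decide) (by decide) a b ha hb
  rw [s0, s1] at this
  exact this.eq

theorem rsig_tor (c0 c1 : K) (h0 : c0 ≠ 0) (h1 : c1 ≠ 0) :
    rsig f hff (g2tor c0 c1) = g2tor (f c1) (f c0 ^ 3) := by
  unfold g2tor
  rw [map_mul, rsig_h7, rsig_h6, g2h_comm]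
  · exact pow_ne_zero _ ((map_ne_zero f).mpr h0)
  · exact (map_ne_zero f).mpr h1

/-- the fixed torus elements -/
noncomputable def reta (μ : K) : ↥(chevG2.group K) := g2tor (f μ) μ

theorem rsig_reta (μ : K) (hμ : μ ≠ 0) : rsig f hff (reta f μ) = reta f μ := by
  unfold reta
  rw [rsig_tor f hff _ _ ((map_ne_zero f).mpr hμ) hμ, hff]

theorem exists_g2tor (h : ↥(chevG2.group K))
    (hh : (h : GL chevG2.Idx K) ∈ chevG2.diagonalSubgroup K) :
    ∃ c0 c1 : K, c0 ≠ 0 ∧ c1 ≠ 0 ∧ h = g2tor c0 c1 := by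
  obtain ⟨c, hc, e⟩ := exists_torP chevG2 g2_mem h.1 hh
  refine ⟨c 0, c 1, hc 0, hc 1, ?_⟩
  apply Subtype.ext
  rw [e, g2tor_coe]
  apply torP_ext
  intro i hi
  have hi' : i < 2 := hi
  interval_cases i <;> simp [cfun]

theorem g2tor_inj (c0 c1 d0 d1 : K) (h0 : c0 ≠ 0) (h1 : c1 ≠ 0) (k0 : d0 ≠ 0) (k1 : d1 ≠ 0)
    (h : g2tor c0 c1 = g2tor d0 d1) : c0 = d0 ∧ c1 = d1 := by
  have h' := congrArg (fun x : ↥(chevG2.group K) => (x : GL chevG2.Idx K)) h
  simp only [g2tor_coe] at h'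
  have := torP_inj _ _ (cfun_ne c0 c1 h0 h1) (cfun_ne d0 d1 k0 k1) h'
  simpa [cfun] using this

include hff in
/-- the fixed points of the Ree endomorphism in `H` -/
theorem fixed_H (h : ↥(chevG2.group K))
    (hh : (h : GL chevG2.Idx K) ∈ chevG2.diagonalSubgroup K) (hfix : rsig f hff h = h) :
    ∃ μ : K, μ ≠ 0 ∧ h = reta f μ := by
  obtain ⟨c0, c1, h0, h1, rfl⟩ := exists_g2tor h hh
  rw [rsig_tor f hff c0 c1 h0 h1] at hfix
  obtain ⟨e0, e1⟩ := g2tor_inj _ _ _ _ ((map_ne_zero f).mpr h1)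
    (pow_ne_zero _ ((map_ne_zero f).mpr h0)) h0 h1 hfix
  refine ⟨c1, h1, ?_⟩
  unfold reta
  rw [e0]

theorem reta_mem_H (μ : K) (hμ : μ ≠ 0) :
    ((reta f μ : ↥(chevG2.group K)) : GL chevG2.Idx K) ∈ chevG2.diagonalSubgroup K := by
  unfold reta
  rw [g2tor_coe]
  exact torP_mem chevG2 g2_mem _ (fun i _ => cfun_ne _ _ ((map_ne_zero f).mpr hμ) hμ i)

theorem reta_inj (μ ν : K) (hμ : μ ≠ 0) (hν : ν ≠ 0) (h : reta f μ = reta f ν) : μ = ν :=
  (g2tor_inj _ _ _ _ ((map_ne_zero f).mpr hμ) hμ ((map_ne_zero f).mpr hν) hν h).2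

theorem reta_mul (μ ν : K) (hμ : μ ≠ 0) (hν : ν ≠ 0) : reta f μ * reta f ν = reta f (μ * ν) := by
  apply Subtype.ext
  unfold reta
  rw [Subgroup.coe_mul, g2tor_coe, g2tor_coe, g2tor_coe,
    torP_mul chevG2 g2_mem _ _ (fun i _ => cfun_ne _ _ ((map_ne_zero f).mpr hμ) hμ i)
      (fun i _ => cfun_ne _ _ ((map_ne_zero f).mpr hν) hν i)]
  apply torP_ext
  intro i hi
  have hi' : i < 2 := hi
  interval_cases i <;> simp [cfun]

end

end Cfsg.Agent.helper5.Chev
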