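import Mathlib
import Cfsg.Agent.Lib_helper5_ReeH
import Cfsg.Agent.Lib_helper5_ChevTorusCard

set_option autoImplicit false
set_option linter.unusedSectionVars false
set_option linter.unusedVariables false

/-! The torus of the Ree group lies in the Ree group (helper5). -/

namespace Cfsg.Agent.helper5.Chev

open Cfsg.Lie

set_option maxRecDepth 100000 in
theorem g2_orth_10_8 : orthChk chevG2 10 8 = true := by decide +kernel

/-- the words for the involution of the torus -/
def g2wh : List (ℕ × Poly) :=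
  [(7, pconst (-1)), (4, pconst 1), (7, pconst (-1)), (7, pconst (-1)), (4, pconst 1),
    (7, pconst (-1)), (6, pconst (-1)), (5, pconst 1), (6, pconst (-1)), (6, pconst (-1)),
    (5, pconst 1), (6, pconst (-1))]

def g2wr : List (ℕ × Poly) :=
  [(9, pconst 1), (11, pconst 1), (2, pconst (-1)), (0, pconst (-1)),
    (7, pconst 1), (6, pconst 1), (8, pconst 2), (9, pconst 2), (10, pconst 1), (11, pconst 1),
    (4, pconst 1), (5, pconst 1), (3, pconst (-2)), (2, pconst 2), (1, pconst (-1)), (0, pconst 1)]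

set_option maxRecDepth 100000 in
theorem g2_cong_hr : wordCong chevG2 3 g2wh g2wr = true := by decide +kernel

section
variable {K : Type*} [Field K] [CharP K 3] (f : K →+* K) (hff : ∀ t : K, f (f t) ^ 3 = t)

theorem ru001 : ru f 0 0 1 = g2x 9 1 * g2x 11 1 := by
  unfold ru P4
  simp [g2x_zero]

theorem rv001 : rv f 0 0 1 = g2x 2 (-1) * g2x 0 (-1) := by
  unfold rv Q4
  simp [g2x_zero]

theorem ru111 : ru f 1 1 1 = g2x 7 1 * g2x 6 1 * (g2x 8 2 * g2x 9 2 * g2x 10 1 * g2x 11 1) := by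
  unfold ru P4
  simp only [map_one, one_mul, mul_one, one_pow]
  norm_num

theorem rvm1m : rv f (-1) 1 (-1) =
    g2x 4 1 * g2x 5 1 * (g2x 3 (-2) * g2x 2 2 * g2x 1 (-1) * g2x 0 1) := by
  unfold rv Q4
  simp only [map_neg, map_one, neg_neg]
  norm_num

/-- the involution of the torus is a product of four generators -/
theorem reta_neg_one :
    reta f (-1) = ru f 0 0 1 * rv f 0 0 1 * ru f 1 1 1 * rv f (-1) 1 (-1) := by
  have key := g2w_eq_of_cong (K := K) g2wh g2wr g2_cong_hr (by decide) (by decide) 1 1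
    one_ne_zero one_ne_zero
  simp only [g2w, g2wh, g2wr, List.map_cons, List.map_nil, List.prod_cons, List.prod_nil, mul_one,
    pEval_pconst] at key
  push_cast at key
  rw [ru001, rv001, ru111, rvm1m]
  unfold reta g2tor g2h g2n
  have n7 : chevG2.neg 7 = 4 := by decide
  have n6 : chevG2.neg 6 = 5 := by decide
  rw [n7, n6, map_neg, map_one]
  have e1 : (-(-1 : K)⁻¹) = 1 := by norm_num
  rw [e1]
  simp only [mul_assoc] at key ⊢
  exact key

variable (e : ℕ) (hfe : ∀ t : K, f t = t ^ e)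

include hfe in
theorem ru_mem_tw (t u v : K) :
    ((ru f t u v : ↥(chevG2.group K)) : GL chevG2.Idx K) ∈ twistedG2 K e := by
  rw [tw_eq_map f e hfe]
  exact ⟨_, Subgroup.subset_closure ⟨t, u, v, Or.inl rfl⟩, rfl⟩

include hfe in
theorem rv_mem_tw (t u v : K) :
    ((rv f t u v : ↥(chevG2.group K)) : GL chevG2.Idx K) ∈ twistedG2 K e := by
  rw [tw_eq_map f e hfe]
  exact ⟨_, Subgroup.subset_closure ⟨t, u, v, Or.inr rfl⟩, rfl⟩

include hfe in
theorem hpair_10_8 (he : Odd e) (a : K) :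
    hGt chevG2 g2_mem 10 a * hGt chevG2 g2_mem 8 (a ^ e) ∈ twistedG2 K e := by
  apply hpair_mem chevG2 g2_mem (twistedG2 K e) e he.neg_one_pow 10 8 g2_orth_10_8
  · intro t
    have h1 := ru_mem_tw f e hfe 0 t 0
    have e1 : ru f 0 t 0 = g2x 10 t * g2x 8 (f t) := by
      unfold ru P4
      simp only [map_zero, g2x_zero, zero_mul, mul_zero, zero_add, one_mul, mul_one, ne_eq,
        OfNat.ofNat_ne_zero, not_false_eq_true, zero_pow]
      exact (g2_comm 8 10 (by decide) (f t) t)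
    rw [e1, hfe] at h1
    exact h1
  · intro t
    have h1 := rv_mem_tw f e hfe 0 (-t) 0
    have e1 : rv f 0 (-t) 0 = g2x 1 t * g2x 3 (f t) := by
      unfold rv Q4
      simp only [map_zero, map_neg, g2x_zero, zero_mul, mul_zero, zero_add, one_mul, mul_one, ne_eq,
        OfNat.ofNat_ne_zero, not_false_eq_true, zero_pow, neg_zero, neg_neg]
      exact (g2_comm 3 1 (by decide) (f t) t)
    rw [e1, hfe] at h1
    exact h1

include hff hfe in
theorem hpair_eq_reta (a : K) (ha : a ≠ 0) :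
    hGt chevG2 g2_mem 10 a * hGt chevG2 g2_mem 8 (a ^ e) =
      ((reta f (a * f a ^ 3) : ↥(chevG2.group K)) : GL chevG2.Idx K) := by
  have hall := Cfsg.Agent.S1034.hCheckAll_of_mem chevG2 g2_mem
  have hae : a ^ e ≠ 0 := pow_ne_zero _ ha
  have hμ : a * f a ^ 3 ≠ 0 := mul_ne_zero ha (pow_ne_zero _ ((map_ne_zero f).mpr ha))
  apply Units.ext
  unfold reta
  rw [Units.val_mul, hGt_val, hGt_val, hMat_eq_torusMat chevG2 10 (by decide) (hall 10 (by decide)) a ha,
    hMat_eq_torusMat chevG2 8 (by decide) (hall 8 (by decide)) _ hae, torusMat_mul, g2tor_coe,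
    torP_val chevG2 g2_mem _ (fun i _ => cfun_ne _ _ ((map_ne_zero f).mpr hμ) hμ i)]
  apply torusMat_congr
  intro i hi
  have hi' : i < 2 := hi
  have c100 : (chevG2.coroot.getD 10 #[]).getD 0 0 = 1 := by decide
  have c101 : (chevG2.coroot.getD 10 #[]).getD 1 0 = 1 := by decide
  have c80 : (chevG2.coroot.getD 8 #[]).getD 0 0 = 1 := by decide
  have c81 : (chevG2.coroot.getD 8 #[]).getD 1 0 = 3 := by decide
  interval_cases i
  · simp only [c100, c80, zpow_one, cfun, if_true]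
    rw [map_mul, map_pow, hff, ← hfe]
    ring
  · simp only [c101, c81, zpow_one, cfun]
    rw [← hfe]
    norm_num

include hff hfe in
theorem reta_pow_mem (he : Odd e) (a : K) (ha : a ≠ 0) :
    ((reta f (a * f a ^ 3) : ↥(chevG2.group K)) : GL chevG2.Idx K) ∈ twistedG2 K e := by
  rw [← hpair_eq_reta f hff e hfe a ha]
  exact hpair_10_8 f e hfe he a

include hfe in
theorem reta_neg_one_mem :
    ((reta f (-1) : ↥(chevG2.group K)) : GL chevG2.Idx K) ∈ twistedG2 K e := by
  rw [reta_neg_one]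
  simp only [Subgroup.coe_mul]
  exact Subgroup.mul_mem _ (Subgroup.mul_mem _ (Subgroup.mul_mem _ (ru_mem_tw f e hfe _ _ _)
    (rv_mem_tw f e hfe _ _ _)) (ru_mem_tw f e hfe _ _ _)) (rv_mem_tw f e hfe _ _ _)

end

/-- every nonzero element is, up to sign, a `(3e+1)`-th power -/
theorem exists_pm_pow {K : Type*} [Field K] [Fintype K] (e j N : ℕ)
    (hq : Fintype.card K = 2 * N + 1) (hN : (3 * e + 1) * j = 3 * N + 1) (hk : Even (N + 1))
    (μ : K) (hμ : μ ≠ 0) : ∃ a : K, a ≠ 0 ∧ (μ = a ^ (3 * e + 1) ∨ μ = -a ^ (3 * e + 1)) := by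
  have h1 : μ ^ (2 * N) = 1 := by
    have := FiniteField.pow_card_sub_one_eq_one μ hμ
    rw [hq] at this
    simpa using this
  have hs : (μ ^ N) * (μ ^ N) = 1 := by rw [← pow_add, ← two_mul, h1]
  have hs' : μ ^ N = 1 ∨ μ ^ N = -1 := mul_self_eq_one_iff.mp hs
  obtain ⟨k, hk⟩ := hk
  have hνN : (μ * μ ^ N) ^ N = 1 := by
    rw [mul_pow, ← pow_succ' (μ ^ N) N, hk, ← two_mul, pow_mul, pow_two, hs, one_pow]
  refine ⟨(μ * μ ^ N) ^ j, pow_ne_zero _ (mul_ne_zero hμ (pow_ne_zero _ hμ)), ?_⟩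
  have h2 : ((μ * μ ^ N) ^ j) ^ (3 * e + 1) = μ * μ ^ N := by
    rw [← pow_mul, mul_comm j, hN, pow_succ, mul_comm 3 N, pow_mul, hνN, one_pow, one_mul]
  rw [h2]
  rcases hs' with h | h
  · left; rw [h, mul_one]
  · right; rw [h]; ring

end Cfsg.Agent.helper5.Chev
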