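import Mathlib
import Cfsg.Agent.Lib_helper5_ReeI

set_option autoImplicit false
set_option linter.unusedSectionVars false
set_option linter.unusedVariables false

/-! The group `H¹` of the Ree groups (helper5). -/

namespace Cfsg.Agent.helper5.Chev

open Cfsg.Lie

/-- the arithmetic of `q = 3^(2m+1)` -/
theorem ree_arith (m : ℕ) : ∃ j N : ℕ, 3 ^ (2 * m + 1) = 2 * N + 1 ∧
    (3 * 3 ^ m + 1) * j = 3 * N + 1 ∧ Even (N + 1) ∧ Odd (3 ^ m) := by
  have he : Odd (3 ^ m) := Odd.pow (by decide)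
  have h3e : Odd (3 * 3 ^ m) := Odd.mul (by decide) he
  obtain ⟨j, hj⟩ := h3e
  have hq : Odd (3 ^ (2 * m + 1)) := Odd.pow (by decide)
  obtain ⟨N, hN⟩ := hq
  have hqe : 3 * 3 ^ (2 * m + 1) = (3 * 3 ^ m) * (3 * 3 ^ m) := by
    have : 3 ^ (2 * m + 1) = 3 ^ m * 3 ^ m * 3 := by rw [pow_succ, two_mul, pow_add]
    rw [this]; ring
  rw [hj, hN] at hqe
  have h1 : (2 * j + 2) * j = 3 * N + 1 := by nlinarith
  refine ⟨j, N, hN, ?_, ?_, he⟩
  · rw [hj]; exact h1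
  · have h2 : (3 * N + 1) % 2 = 0 := by
      rw [← h1]
      have : (2 * j + 2) * j = 2 * ((j + 1) * j) := by ring
      rw [this]; omega
    rw [Nat.even_iff]; omega

section
variable {K : Type*} [Field K] [Fintype K] [CharP K 3] (f : K →+* K)
  (hff : ∀ t : K, f (f t) ^ 3 = t) (e : ℕ) (hfe : ∀ t : K, f t = t ^ e) (he : Odd e)
  (j N : ℕ) (hq : Fintype.card K = 2 * N + 1) (hN : (3 * e + 1) * j = 3 * N + 1)
  (hk : Even (N + 1))

include hff hfe he hq hN hk in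
theorem reta_mem_tw (μ : K) (hμ : μ ≠ 0) :
    ((reta f μ : ↥(chevG2.group K)) : GL chevG2.Idx K) ∈ twistedG2 K e := by
  obtain ⟨a, ha, h | h⟩ := exists_pm_pow e j N hq hN hk μ hμ
  · have e1 : μ = a * f a ^ 3 := by rw [h, hfe]; ring
    rw [e1]
    exact reta_pow_mem f hff e hfe he a ha
  · have hne : a * f a ^ 3 ≠ 0 := mul_ne_zero ha (pow_ne_zero _ ((map_ne_zero f).mpr ha))
    have e1 : μ = (-1) * (a * f a ^ 3) := by rw [h, hfe]; ring
    rw [e1, ← reta_mul f (-1) _ (by norm_num) hne, Subgroup.coe_mul]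
    exact Subgroup.mul_mem _ (reta_neg_one_mem f e hfe) (reta_pow_mem f hff e hfe he a ha)

include hff hfe he hq hN hk in
/-- **`H¹ = G¹ ∩ H`** -/
theorem ree_H_iff (g : GL chevG2.Idx K) :
    g ∈ chevG2.diagonalSubgroup K ⊓ twistedG2 K e ↔
      ∃ μ : K, μ ≠ 0 ∧ g = ((reta f μ : ↥(chevG2.group K)) : GL chevG2.Idx K) := by
  constructor
  · rintro ⟨hH, hT⟩
    rw [tw_eq_map f e hfe] at hT
    obtain ⟨g', hg', rfl⟩ := hT
    obtain ⟨μ, hμ, h⟩ := fixed_H f hff g' hH (reeR_fixed f hff g' hg')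
    exact ⟨μ, hμ, by rw [h]; rfl⟩
  · rintro ⟨μ, hμ, rfl⟩
    exact ⟨reta_mem_H f μ hμ, reta_mem_tw f hff e hfe he j N hq hN hk μ hμ⟩

/-- the parametrisation of `H¹` -/
noncomputable def retaHom (h : ∀ μ : K, μ ≠ 0 →
    ((reta f μ : ↥(chevG2.group K)) : GL chevG2.Idx K) ∈
      chevG2.diagonalSubgroup K ⊓ twistedG2 K e) :
    Kˣ →* ↥(chevG2.diagonalSubgroup K ⊓ twistedG2 K e) :=
  MonoidHom.mk' (fun μ => ⟨_, h μ.1 μ.ne_zero⟩) (by
    intro a b
    apply Subtype.ext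
    rw [Subgroup.coe_mul]
    show ((reta f ((a * b : Kˣ) : K) : ↥(chevG2.group K)) : GL chevG2.Idx K) =
      ((reta f a : ↥(chevG2.group K)) : GL chevG2.Idx K) * (reta f b : ↥(chevG2.group K))
    rw [Units.val_mul, ← reta_mul f _ _ a.ne_zero b.ne_zero, Subgroup.coe_mul])

include hff hfe he hq hN hk in
theorem retaHom_bij (h : ∀ μ : K, μ ≠ 0 →
    ((reta f μ : ↥(chevG2.group K)) : GL chevG2.Idx K) ∈
      chevG2.diagonalSubgroup K ⊓ twistedG2 K e) : Function.Bijective (retaHom f e h) := by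
  constructor
  · intro a b hab
    have h1 : ((reta f a : ↥(chevG2.group K)) : GL chevG2.Idx K) = (reta f b : ↥(chevG2.group K)) :=
      congrArg (fun x : ↥(chevG2.diagonalSubgroup K ⊓ twistedG2 K e) => (x : GL chevG2.Idx K)) hab
    exact Units.ext (reta_inj f _ _ a.ne_zero b.ne_zero (Subtype.ext h1))
  · rintro ⟨g, hg⟩
    obtain ⟨μ, hμ, rfl⟩ := (ree_H_iff f hff e hfe he j N hq hN hk g).mp hg
    exact ⟨Units.mk0 μ hμ, rfl⟩

include hff hfe he hq hN hk in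
theorem ree_H_card :
    Nat.card ↥(chevG2.diagonalSubgroup K ⊓ twistedG2 K e) = Fintype.card K - 1 := by
  have h : ∀ μ : K, μ ≠ 0 → ((reta f μ : ↥(chevG2.group K)) : GL chevG2.Idx K) ∈
      chevG2.diagonalSubgroup K ⊓ twistedG2 K e := fun μ hμ =>
    (ree_H_iff f hff e hfe he j N hq hN hk _).mpr ⟨μ, hμ, rfl⟩
  rw [← Nat.card_congr (Equiv.ofBijective _ (retaHom_bij f hff e hfe he j N hq hN hk h)),
    Nat.card_units, Nat.card_eq_fintype_card]

include hff hfe he hq hN hk in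
theorem ree_H_cyclic : IsCyclic ↥(chevG2.diagonalSubgroup K ⊓ twistedG2 K e) := by
  have h : ∀ μ : K, μ ≠ 0 → ((reta f μ : ↥(chevG2.group K)) : GL chevG2.Idx K) ∈
      chevG2.diagonalSubgroup K ⊓ twistedG2 K e := fun μ hμ =>
    (ree_H_iff f hff e hfe he j N hq hN hk _).mpr ⟨μ, hμ, rfl⟩
  exact isCyclic_of_surjective (retaHom f e h) (retaHom_bij f hff e hfe he j N hq hN hk h).2

end

end Cfsg.Agent.helper5.Chev
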