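import Mathlib
import Cfsg.Agent.Lib_helper5_ReeJ
import Cfsg.Agent.Lib_helper5_ChevBruhat2
import Cfsg.Agent.Lib_helper5_TwBN
import Cfsg.Agent.Lib_helper5_ChevWEnumG2
import Cfsg.Agent.Lib_helper5_ChevW0Small

set_option autoImplicit false
set_option linter.unusedSectionVars false
set_option linter.unusedVariables false

/-! The Bruhat decomposition of the Ree groups (helper5). -/

namespace Cfsg.Agent.helper5.Chev

open Cfsg.Lie

/-- the graph symmetry on the simple reflections -/
def g2swap (i : ℕ) : ℕ := 1 - i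

theorem g2swap_lt (i : ℕ) : g2swap i < chevG2.rank := by
  have : chevG2.rank = 2 := by decide
  unfold g2swap
  omega

theorem g2bar_lt' : ∀ s < 12, g2bar s < 12 := by decide

theorem g2bar_bar : ∀ s < 12, g2bar (g2bar s) = s := by decide

theorem g2_refl_bar : ∀ i < 2, ∀ s < 12,
    chevG2.reflectRoot (g2swap i) (g2bar s) = g2bar (chevG2.reflectRoot i s) := by decide

theorem g2_refl_lt : ∀ i < 2, ∀ s < 12, chevG2.reflectRoot i s < 12 := by decide

theorem applyW_g2_lt (w : List ℕ) (hw : ∀ i ∈ w, i < chevG2.rank) :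
    ∀ s < 12, applyW chevG2 w s < 12 := by
  have hr : chevG2.rank = 2 := by decide
  induction w with
  | nil => intro s hs; exact hs
  | cons i w ih =>
    intro s hs
    have hi : i < 2 := hr ▸ hw i (List.mem_cons_self ..)
    have h1 := ih (fun j hj => hw j (List.mem_cons_of_mem _ hj)) s hs
    show chevG2.reflectRoot i (applyW chevG2 w s) < 12
    exact g2_refl_lt i hi _ h1

theorem applyW_swap (w : List ℕ) (hw : ∀ i ∈ w, i < chevG2.rank) :
    ∀ s < 12, applyW chevG2 (w.map g2swap) (g2bar s) = g2bar (applyW chevG2 w s) := by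
  have hr : chevG2.rank = 2 := by decide
  induction w with
  | nil => intro s hs; rfl
  | cons i w ih =>
    intro s hs
    have hi : i < 2 := hr ▸ hw i (List.mem_cons_self ..)
    have hw' : ∀ j ∈ w, j < chevG2.rank := fun j hj => hw j (List.mem_cons_of_mem _ hj)
    have h1 := ih hw' s hs
    show chevG2.reflectRoot (g2swap i) (applyW chevG2 (w.map g2swap) (g2bar s)) =
      g2bar (chevG2.reflectRoot i (applyW chevG2 w s))
    rw [h1]
    exact g2_refl_bar i hi _ (applyW_g2_lt w hw' s hs)

theorem g2_perm_comm : ∀ k < 12,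
    (∀ s < 12, (wpermsG2.getD k []).getD (g2bar s) 0 = g2bar ((wpermsG2.getD k []).getD s 0)) →
      k = 0 ∨ k = 11 := by decide

theorem g2_perm_0 : ∀ s < 12, (wpermsG2.getD 0 []).getD s 0 = s := by decide

theorem g2_perm_11 : ∀ s < 12, (wpermsG2.getD 11 []).getD s 0 = applyW chevG2 w0_G2 s := by decide

/-- a word commuting with the graph symmetry represents `1` or `w₀` -/
theorem weyl_fixed (w : List ℕ) (hw : ∀ i ∈ w, i < chevG2.rank)
    (h : ∀ s < chevG2.nroots, applyW chevG2 (w.map g2swap) s = applyW chevG2 w s) :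
    (∀ s < chevG2.nroots, applyW chevG2 w s = s) ∨
      (∀ s < chevG2.nroots, applyW chevG2 w s = applyW chevG2 w0_G2 s) := by
  have hn : chevG2.nroots = 12 := by decide
  rw [hn] at h ⊢
  obtain ⟨k, hk, hkr⟩ := WEnum.complete _ _ _ _ wenumG2 w hw
  have hlen : wvsG2.length = 12 := by decide
  rw [hlen] at hk
  rw [hn] at hkr
  have hp : ∀ r < 12, applyW chevG2 w r = (wpermsG2.getD k []).getD r 0 := by
    intro r hr
    rw [hkr r hr]
    exact (WEnum.perm_eq _ _ _ _ wenumG2 k (by rw [hlen]; exact hk) r (by rw [hn]; exact hr)).symm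
  have hcomm : ∀ s < 12, (wpermsG2.getD k []).getD (g2bar s) 0 =
      g2bar ((wpermsG2.getD k []).getD s 0) := by
    intro s hs
    rw [← hp s hs, ← hp _ (g2bar_lt' s hs), ← h _ (g2bar_lt' s hs)]
    exact applyW_swap w hw s hs
  rcases g2_perm_comm k hk hcomm with rfl | rfl
  · left
    intro s hs
    rw [hp s hs]
    exact g2_perm_0 s hs
  · right
    intro s hs
    rw [hp s hs]
    exact g2_perm_11 s hs

end Cfsg.Agent.helper5.Chev
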