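import Mathlib
import Cfsg.Agent.Lib_helper5_ReeK

set_option autoImplicit false
set_option linter.unusedSectionVars false
set_option linter.unusedVariables false

/-! The Bruhat decomposition of the Ree groups, II (helper5). -/

namespace Cfsg.Agent.helper5.Chev

open Cfsg.Lie

/-- the word of `n₁` in root elements -/
def g2wn1 : List (ℕ × Poly) :=
  [(8, pconst 1), (10, pconst 1), (3, pconst (-1)), (1, pconst (-1)), (8, pconst 1),
    (10, pconst 1)]

def g2wn0 : List (ℕ × Poly) :=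
  [(7, pconst 1), (4, pconst (-1)), (7, pconst 1), (6, pconst 1), (5, pconst (-1)), (6, pconst 1),
    (7, pconst 1), (4, pconst (-1)), (7, pconst 1), (6, pconst 1), (5, pconst (-1)), (6, pconst 1),
    (7, pconst 1), (4, pconst (-1)), (7, pconst 1), (6, pconst 1), (5, pconst (-1)), (6, pconst 1)]

set_option maxRecDepth 100000 in
theorem g2_cong_n1 : wordCong chevG2 3 g2wn1 g2wn0 = true := by decide +kernel

theorem w0_G2_ok : W0OK chevG2 w0_G2 := by
  apply w0OK_of_chunks chevG2 w0_G2 (by decide +kernel) 12 1 (by decide +kernel) (by decide +kernel)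
  intro k hk
  interval_cases k
  · exact w0C_G2_0

section
variable {K : Type*} [Field K] [CharP K 3] (f : K →+* K) (hff : ∀ t : K, f (f t) ^ 3 = t)

theorem g2x_mem_U (r : ℕ) (hr : chevG2.IsPosRoot r) (c : K) :
    ((g2x r c : ↥(chevG2.group K)) : GL chevG2.Idx K) ∈ chevG2.posUnipotent K := by
  unfold ChevalleyDatum.posUnipotent
  exact Subgroup.subset_closure ⟨r, c, hr, rfl⟩

theorem nf6_mem_U (c6 c7 c8 c9 c10 c11 : K) :
    ((nf6 c6 c7 c8 c9 c10 c11 : ↥(chevG2.group K)) : GL chevG2.Idx K) ∈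
      chevG2.posUnipotent K := by
  unfold nf6 P4
  simp only [Subgroup.coe_mul]
  exact Subgroup.mul_mem _ (Subgroup.mul_mem _ (g2x_mem_U 6 (by decide) _)
    (g2x_mem_U 7 (by decide) _))
    (Subgroup.mul_mem _ (Subgroup.mul_mem _ (Subgroup.mul_mem _ (g2x_mem_U 8 (by decide) _)
      (g2x_mem_U 9 (by decide) _)) (g2x_mem_U 10 (by decide) _)) (g2x_mem_U 11 (by decide) _))

theorem rsig_U (g : ↥(chevG2.group K)) (hg : (g : GL chevG2.Idx K) ∈ chevG2.posUnipotent K) :
    ((rsig f hff g : ↥(chevG2.group K)) : GL chevG2.Idx K) ∈ chevG2.posUnipotent K := by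
  obtain ⟨c6, c7, c8, c9, c10, c11, rfl⟩ := exists_nf6 g hg
  rw [rsig_nf6]
  exact nf6_mem_U _ _ _ _ _ _

theorem g2tor_mem_H (c0 c1 : K) (h0 : c0 ≠ 0) (h1 : c1 ≠ 0) :
    ((g2tor c0 c1 : ↥(chevG2.group K)) : GL chevG2.Idx K) ∈ chevG2.diagonalSubgroup K := by
  rw [g2tor_coe]
  exact torP_mem chevG2 g2_mem _ (fun i _ => cfun_ne _ _ h0 h1 i)

theorem rsig_H (h : ↥(chevG2.group K)) (hh : (h : GL chevG2.Idx K) ∈ chevG2.diagonalSubgroup K) :
    ((rsig f hff h : ↥(chevG2.group K)) : GL chevG2.Idx K) ∈ chevG2.diagonalSubgroup K := by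
  obtain ⟨c0, c1, h0, h1, rfl⟩ := exists_g2tor h hh
  rw [rsig_tor f hff c0 c1 h0 h1]
  exact g2tor_mem_H _ _ ((map_ne_zero f).mpr h1) (pow_ne_zero _ ((map_ne_zero f).mpr h0))

theorem U_le_G : chevG2.posUnipotent K ≤ chevG2.group K :=
  (U_le_B chevG2 g2_mem).trans (Cfsg.Agent.S1043.result (F := K) chevG2 g2_mem).1

theorem H_le_G : chevG2.diagonalSubgroup K ≤ chevG2.group K :=
  (H_le_B chevG2 g2_mem).trans (Cfsg.Agent.S1043.result (F := K) chevG2 g2_mem).1

theorem rsig_B (b : ↥(chevG2.group K)) (hb : (b : GL chevG2.Idx K) ∈ chevG2.borelSubgroup K) :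
    ((rsig f hff b : ↥(chevG2.group K)) : GL chevG2.Idx K) ∈ chevG2.borelSubgroup K := by
  obtain ⟨u, hu, h, hh, e⟩ := mem_borel chevG2 g2_mem b.1 hb
  have e' : b = (⟨u, U_le_G hu⟩ : ↥(chevG2.group K)) * ⟨h, H_le_G hh⟩ := Subtype.ext e
  rw [e', map_mul, Subgroup.coe_mul]
  exact Subgroup.mul_mem _ (U_le_B chevG2 g2_mem (rsig_U f hff _ hu))
    (H_le_B chevG2 g2_mem (rsig_H f hff _ hh))

/-- the representatives of the Weyl group in the group -/
noncomputable def g2nW (w : List ℕ) : ↥(chevG2.group K) :=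
  (w.map fun i => g2n (chevG2.simple i) (1 : K)).prod

theorem g2nW_coe (w : List ℕ) :
    ((g2nW w : ↥(chevG2.group K)) : GL chevG2.Idx K) = nW chevG2 g2_mem w := by
  unfold g2nW nW
  induction w with
  | nil => simp
  | cons i w ih =>
    rw [List.map_cons, List.prod_cons, List.map_cons, List.prod_cons, Subgroup.coe_mul, ih,
      g2n_coe]

theorem rsig_g2nW (w : List ℕ) (hw : ∀ i ∈ w, i < chevG2.rank) :
    rsig f hff (g2nW w) = g2nW (w.map g2swap) := by
  have hr : chevG2.rank = 2 := by decide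
  have s0 : chevG2.simple 0 = 7 := by decide
  have s1 : chevG2.simple 1 = 6 := by decide
  induction w with
  | nil => simp [g2nW]
  | cons i w ih =>
    have hi : i < 2 := hr ▸ hw i (List.mem_cons_self ..)
    have ih' := ih (fun j hj => hw j (List.mem_cons_of_mem _ hj))
    unfold g2nW at ih' ⊢
    rw [List.map_cons, List.prod_cons, map_mul, ih', List.map_cons, List.map_cons, List.prod_cons]
    congr 1
    interval_cases i
    · have e : g2swap 0 = 1 := rfl
      rw [e, s0, s1, rsig_n7, map_one, one_pow]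
    · have e : g2swap 1 = 0 := rfl
      rw [e, s0, s1, rsig_n6, map_one]

/-- the representative of the nontrivial element of the Weyl group of the Ree group -/
noncomputable def rn1 : ↥(chevG2.group K) := ru f 0 1 0 * rv f 0 1 0 * ru f 0 1 0

theorem ru010 : ru f 0 1 0 = g2x 8 1 * g2x 10 1 := by
  unfold ru P4
  simp [g2x_zero]

theorem rv010 : rv f 0 1 0 = g2x 3 (-1) * g2x 1 (-1) := by
  unfold rv Q4
  simp [g2x_zero]

theorem rn1_eq : rn1 f = g2nW w0_G2 := by
  have key := g2w_eq_of_cong (K := K) g2wn1 g2wn0 g2_cong_n1 (by decide) (by decide) 1 1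
    one_ne_zero one_ne_zero
  simp only [g2w, g2wn1, g2wn0, List.map_cons, List.map_nil, List.prod_cons, List.prod_nil, mul_one,
    pEval_pconst] at key
  push_cast at key
  unfold rn1
  rw [ru010, rv010]
  unfold g2nW w0_G2 g2n
  simp only [List.map_cons, List.map_nil, List.prod_cons, List.prod_nil, mul_one]
  have s0 : chevG2.simple 0 = 7 := by decide
  have s1 : chevG2.simple 1 = 6 := by decide
  have n7 : chevG2.neg 7 = 4 := by decide
  have n6 : chevG2.neg 6 = 5 := by decide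
  rw [s0, s1, n7, n6]
  have e1 : (-(1 : K)⁻¹) = -1 := by norm_num
  rw [e1]
  simp only [mul_assoc] at key ⊢
  exact key

theorem rn1_coe : ((rn1 f : ↥(chevG2.group K)) : GL chevG2.Idx K) = nW chevG2 g2_mem w0_G2 := by
  rw [rn1_eq, g2nW_coe]

theorem rsig_rn1 : rsig f hff (rn1 f) = rn1 f := by
  unfold rn1
  rw [map_mul, map_mul, rsig_ru, rsig_rv]

theorem U_le_UnegOf_w0 :
    chevG2.posUnipotent K ≤ UnegOf chevG2 (nW (F := K) chevG2 g2_mem w0_G2) := by
  refine le_trans ?_ (Uneg_le_UnegOf chevG2 g2_mem w0_G2 w0_G2_ok.lt)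
  unfold ChevalleyDatum.posUnipotent
  rw [Subgroup.closure_le]
  rintro g ⟨r, t, hr, hg⟩
  rw [eq_xG chevG2 g2_mem g r t hg]
  exact xG_mem_Uneg chevG2 g2_mem w0_G2 r hr (w0_G2_ok.pos r hr.1 hr) t

end

end Cfsg.Agent.helper5.Chev
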