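import Mathlib
import Cfsg.Agent.Lib_helper5_ReeL

set_option autoImplicit false
set_option linter.unusedSectionVars false
set_option linter.unusedVariables false

/-! The Bruhat decomposition of the Ree groups, III (helper5). -/

namespace Cfsg.Agent.helper5.Chev

open Cfsg.Lie

section
variable {K : Type*} [Field K] [CharP K 3] (f : K →+* K) (hff : ∀ t : K, f (f t) ^ 3 = t)

include hff in
/-- a fixed point of the Ree endomorphism lies in `B` or in `B n₁ U`, with fixed factors -/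
theorem fix_decomp (g : ↥(chevG2.group K)) (hfix : rsig f hff g = g) :
    (g : GL chevG2.Idx K) ∈ chevG2.borelSubgroup K ∨
    ∃ b u : ↥(chevG2.group K), (b : GL chevG2.Idx K) ∈ chevG2.borelSubgroup K ∧
      rsig f hff b = b ∧ (u : GL chevG2.Idx K) ∈ chevG2.posUnipotent K ∧ rsig f hff u = u ∧
      g = b * rn1 f * u := by
  have hC := commOK_of_mem chevG2 g2_mem
  have hP := posCommOK_of_mem chevG2 g2_mem
  have hNH := N_le_normalizer_H (F := K) chevG2 g2_mem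
  obtain ⟨hB, hN, hsup⟩ := Cfsg.Agent.S1043.result (F := K) chevG2 g2_mem
  obtain ⟨b₀, hb₀, n, hn, u₀, hu₀, e⟩ := exists_form chevG2 g2_mem hC hP g.1 g.2
  obtain ⟨h, hh, w, hw, hnw⟩ := mem_N_decomp chevG2 g2_mem n hn
  have hu₀U : u₀ ∈ chevG2.posUnipotent K := UnegOf_le_U chevG2 n hu₀
  have hb₁B : b₀ * h ∈ chevG2.borelSubgroup K :=
    Subgroup.mul_mem _ hb₀ (H_le_B chevG2 g2_mem hh)
  obtain ⟨b₁, hb₁⟩ : ∃ b₁ : ↥(chevG2.group K), (b₁ : GL chevG2.Idx K) = b₀ * h :=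
    ⟨⟨b₀ * h, hB hb₁B⟩, rfl⟩
  obtain ⟨u₁, hu₁⟩ : ∃ u₁ : ↥(chevG2.group K), (u₁ : GL chevG2.Idx K) = u₀ :=
    ⟨⟨u₀, U_le_G hu₀U⟩, rfl⟩
  have hb₁B' : (b₁ : GL chevG2.Idx K) ∈ chevG2.borelSubgroup K := by rw [hb₁]; exact hb₁B
  have hu₁U : (u₁ : GL chevG2.Idx K) ∈ chevG2.posUnipotent K := by rw [hu₁]; exact hu₀U
  have eg : g = b₁ * g2nW w * u₁ := by
    apply Subtype.ext
    rw [Subgroup.coe_mul, Subgroup.coe_mul, g2nW_coe, hb₁, hu₁, e, hnw]
    group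
  have hσ : g = rsig f hff b₁ * g2nW (w.map g2swap) * rsig f hff u₁ := by
    conv_lhs => rw [← hfix, eg]
    rw [map_mul, map_mul, rsig_g2nW f hff w hw]
  have hwρ : ∀ j ∈ w.map g2swap, j < chevG2.rank := by
    intro j hj
    obtain ⟨i, _, rfl⟩ := List.mem_map.mp hj
    exact g2swap_lt i
  have e2 : (b₁ : GL chevG2.Idx K) * nW chevG2 g2_mem w * (u₁ : GL chevG2.Idx K) =
      ((rsig f hff b₁ : ↥(chevG2.group K)) : GL chevG2.Idx K) *
        nW chevG2 g2_mem (w.map g2swap) *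
        ((rsig f hff u₁ : ↥(chevG2.group K)) : GL chevG2.Idx K) := by
    have h1 := congrArg (fun x : ↥(chevG2.group K) => (x : GL chevG2.Idx K)) (eg.symm.trans hσ)
    simp only [Subgroup.coe_mul, g2nW_coe] at h1
    exact h1
  have hcu := cell_unique chevG2 g2_mem hC hP _ _ _ _ (nW chevG2 g2_mem w)
    (nW chevG2 g2_mem (w.map g2swap)) hb₁B' (U_le_B chevG2 g2_mem hu₁U)
    (rsig_B f hff b₁ hb₁B') (U_le_B chevG2 g2_mem (rsig_U f hff u₁ hu₁U))
    (nW_mem chevG2 g2_mem w hw) (nW_mem chevG2 g2_mem _ hwρ) e2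
  have h2 : nW chevG2 g2_mem w * ((nW chevG2 g2_mem w)⁻¹ * nW chevG2 g2_mem (w.map g2swap)) *
      (nW (F := K) chevG2 g2_mem w)⁻¹ ∈ chevG2.diagonalSubgroup K :=
    (Subgroup.mem_normalizer_iff.mp (hNH (nW_mem chevG2 g2_mem w hw)) _).mp hcu
  have e3 : nW (F := K) chevG2 g2_mem (w.map g2swap) =
      (nW chevG2 g2_mem w * ((nW chevG2 g2_mem w)⁻¹ * nW chevG2 g2_mem (w.map g2swap)) *
        (nW (F := K) chevG2 g2_mem w)⁻¹) * nW chevG2 g2_mem w := by group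
  have happ := applyW_eq_of_eq chevG2 g2_mem _ h2 _ _ hwρ hw e3
  rcases weyl_fixed w hw happ with hid | hw0
  · left
    have hnH := nW_mem_H (F := K) chevG2 g2_mem w hw hid
    rw [e, hnw]
    exact Subgroup.mul_mem _ (Subgroup.mul_mem _ hb₀
      (H_le_B chevG2 g2_mem (Subgroup.mul_mem _ hh hnH))) (U_le_B chevG2 g2_mem hu₀U)
  · right
    obtain ⟨h₄, hh₄, e4⟩ := nW_eq_of_applyW_eq (F := K) chevG2 g2_mem w w0_G2 hw w0_G2_ok.lt hw0
    have hb₂B : b₀ * h * h₄ ∈ chevG2.borelSubgroup K :=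
      Subgroup.mul_mem _ hb₁B (H_le_B chevG2 g2_mem hh₄)
    obtain ⟨b₂, hb₂⟩ : ∃ b₂ : ↥(chevG2.group K), (b₂ : GL chevG2.Idx K) = b₀ * h * h₄ :=
      ⟨⟨b₀ * h * h₄, hB hb₂B⟩, rfl⟩
    have hb₂B' : (b₂ : GL chevG2.Idx K) ∈ chevG2.borelSubgroup K := by rw [hb₂]; exact hb₂B
    have eg2 : g = b₂ * rn1 f * u₁ := by
      apply Subtype.ext
      rw [Subgroup.coe_mul, Subgroup.coe_mul, rn1_coe, hb₂, hu₁, e, hnw, e4]
      group
    have hσ2 : g = rsig f hff b₂ * rn1 f * rsig f hff u₁ := by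
      conv_lhs => rw [← hfix, eg2]
      rw [map_mul, map_mul, rsig_rn1]
    have e5 : ((rsig f hff b₂ : ↥(chevG2.group K)) : GL chevG2.Idx K) *
        nW chevG2 g2_mem w0_G2 * ((rsig f hff u₁ : ↥(chevG2.group K)) : GL chevG2.Idx K) =
        (b₂ : GL chevG2.Idx K) * nW chevG2 g2_mem w0_G2 * (u₁ : GL chevG2.Idx K) := by
      have h1 := congrArg (fun x : ↥(chevG2.group K) => (x : GL chevG2.Idx K))
        (hσ2.symm.trans eg2)
      simp only [Subgroup.coe_mul, rn1_coe] at h1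
      exact h1
    obtain ⟨-, huniq⟩ := unique_form chevG2 g2_mem hC hP _ _ _ _ _ _
      (rsig_B f hff b₂ hb₂B') hb₂B' (nW_mem chevG2 g2_mem w0_G2 w0_G2_ok.lt)
      (nW_mem chevG2 g2_mem w0_G2 w0_G2_ok.lt)
      (U_le_UnegOf_w0 (rsig_U f hff u₁ hu₁U)) (U_le_UnegOf_w0 hu₁U) e5
    obtain ⟨hb, hu⟩ := huniq rfl
    exact ⟨b₂, u₁, hb₂B', Subtype.ext hb, hu₁U, Subtype.ext hu, eg2⟩

include hff in
/-- the fixed points in `B` -/
theorem fixed_B (b : ↥(chevG2.group K)) (hb : (b : GL chevG2.Idx K) ∈ chevG2.borelSubgroup K)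
    (hfix : rsig f hff b = b) : ∃ t u v μ : K, μ ≠ 0 ∧ b = ru f t u v * reta f μ := by
  obtain ⟨u, hu, h, hh, e⟩ := mem_borel chevG2 g2_mem b.1 hb
  obtain ⟨u', hu'⟩ : ∃ u' : ↥(chevG2.group K), (u' : GL chevG2.Idx K) = u :=
    ⟨⟨u, U_le_G hu⟩, rfl⟩
  obtain ⟨h', hh'⟩ : ∃ h' : ↥(chevG2.group K), (h' : GL chevG2.Idx K) = h :=
    ⟨⟨h, H_le_G hh⟩, rfl⟩
  have hu'U : (u' : GL chevG2.Idx K) ∈ chevG2.posUnipotent K := by rw [hu']; exact hu
  have hh'H : (h' : GL chevG2.Idx K) ∈ chevG2.diagonalSubgroup K := by rw [hh']; exact hh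
  have e' : b = u' * h' := by
    apply Subtype.ext
    rw [Subgroup.coe_mul, hu', hh', e]
  rw [e', map_mul] at hfix
  have e1 : u'⁻¹ * rsig f hff u' = h' * (rsig f hff h')⁻¹ := by
    calc u'⁻¹ * rsig f hff u' = u'⁻¹ * (rsig f hff u' * rsig f hff h') * (rsig f hff h')⁻¹ := by
          group
      _ = u'⁻¹ * (u' * h') * (rsig f hff h')⁻¹ := by rw [hfix]
      _ = h' * (rsig f hff h')⁻¹ := by group
  have hUH := (Cfsg.Agent.S1036.result (F := K) chevG2 g2_mem).2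
  have hmem : ((u'⁻¹ * rsig f hff u' : ↥(chevG2.group K)) : GL chevG2.Idx K) ∈
      chevG2.posUnipotent K ⊓ chevG2.diagonalSubgroup K := by
    constructor
    · rw [Subgroup.coe_mul, Subgroup.coe_inv]
      exact Subgroup.mul_mem _ (Subgroup.inv_mem _ hu'U) (rsig_U f hff u' hu'U)
    · rw [e1, Subgroup.coe_mul, Subgroup.coe_inv]
      exact Subgroup.mul_mem _ hh'H (Subgroup.inv_mem _ (rsig_H f hff h' hh'H))
  rw [hUH, Subgroup.mem_bot] at hmem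
  have h1 : u'⁻¹ * rsig f hff u' = 1 := Subtype.ext hmem
  have hufix : rsig f hff u' = u' := (inv_mul_eq_one.mp h1).symm
  have hhfix : rsig f hff h' = h' := by
    rw [h1] at e1
    exact (mul_inv_eq_one.mp e1.symm).symm
  obtain ⟨t, u₂, v, hru⟩ := fixed_U f hff u' hu'U hufix
  obtain ⟨μ, hμ, hre⟩ := fixed_H f hff h' hh'H hhfix
  exact ⟨t, u₂, v, μ, hμ, by rw [e', hru, hre]⟩

theorem rn1_not_mem_B : ((rn1 f : ↥(chevG2.group K)) : GL chevG2.Idx K) ∉ chevG2.borelSubgroup K := by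
  intro h
  rw [rn1_coe] at h
  have h1 : (1 : GL chevG2.Idx K) * nW chevG2 g2_mem w0_G2 ∈ chevG2.borelSubgroup K := by
    rw [one_mul]; exact h
  have h2 := applyW_eq_of_mem_B (F := K) chevG2 g2_mem 1 (Subgroup.one_mem _) w0_G2 w0_G2_ok.lt h1 7
    (by decide)
  revert h2
  decide

end

end Cfsg.Agent.helper5.Chev
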