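import Mathlib
import Cfsg.Agent.Lib_helper5_ReeM

set_option autoImplicit false
set_option linter.unusedSectionVars false
set_option linter.unusedVariables false

/-! The order of the Ree groups (helper5). -/

namespace Cfsg.Agent.helper5.Chev

open Cfsg.Lie

section
variable {K : Type*} [Field K] [Fintype K] [CharP K 3] (f : K →+* K)
  (hff : ∀ t : K, f (f t) ^ 3 = t) (e : ℕ) (hfe : ∀ t : K, f t = t ^ e) (he : Odd e)
  (j N : ℕ) (hq : Fintype.card K = 2 * N + 1) (hN : (3 * e + 1) * j = 3 * N + 1)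
  (hk : Even (N + 1))

theorem ru_mem_R (t u v : K) : ru f t u v ∈ reeR f :=
  Subgroup.subset_closure ⟨t, u, v, Or.inl rfl⟩

theorem rv_mem_R (t u v : K) : rv f t u v ∈ reeR f :=
  Subgroup.subset_closure ⟨t, u, v, Or.inr rfl⟩

theorem rn1_mem_R : rn1 f ∈ reeR f :=
  Subgroup.mul_mem _ (Subgroup.mul_mem _ (ru_mem_R f 0 1 0) (rv_mem_R f 0 1 0)) (ru_mem_R f 0 1 0)

include hff hfe he hq hN hk in
theorem reta_mem_R (μ : K) (hμ : μ ≠ 0) : reta f μ ∈ reeR f := by
  have h := reta_mem_tw f hff e hfe he j N hq hN hk μ hμ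
  rw [tw_eq_map f e hfe] at h
  obtain ⟨x, hx, hxe⟩ := h
  have : x = reta f μ := Subtype.ext hxe
  rw [← this]
  exact hx

/-- the parametrisation of `B¹` -/
noncomputable def rphi1 (p : K × K × K × Kˣ) : ↥(chevG2.group K) :=
  ru f p.1 p.2.1 p.2.2.1 * reta f (p.2.2.2 : K)

/-- the parametrisation of the big cell -/
noncomputable def rphi2 (p : (K × K × K × Kˣ) × (K × K × K)) : ↥(chevG2.group K) :=
  rphi1 f p.1 * rn1 f * ru f p.2.1 p.2.2.1 p.2.2.2

theorem rphi1_mem_B (p : K × K × K × Kˣ) :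
    ((rphi1 f p : ↥(chevG2.group K)) : GL chevG2.Idx K) ∈ chevG2.borelSubgroup K := by
  unfold rphi1
  rw [Subgroup.coe_mul]
  exact Subgroup.mul_mem _ (U_le_B chevG2 g2_mem (ru_mem_U f _ _ _))
    (H_le_B chevG2 g2_mem (reta_mem_H f _ (Units.ne_zero _)))

theorem rphi1_inj : Function.Injective (rphi1 (K := K) f) := by
  rintro ⟨t, u, v, μ⟩ ⟨t', u', v', μ'⟩ h
  unfold rphi1 at h
  simp only at h
  have e1 : (ru f t' u' v')⁻¹ * ru f t u v = reta f (μ' : K) * (reta f (μ : K))⁻¹ := by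
    calc (ru f t' u' v')⁻¹ * ru f t u v
        = (ru f t' u' v')⁻¹ * (ru f t u v * reta f (μ : K)) * (reta f (μ : K))⁻¹ := by group
      _ = (ru f t' u' v')⁻¹ * (ru f t' u' v' * reta f (μ' : K)) * (reta f (μ : K))⁻¹ := by rw [h]
      _ = reta f (μ' : K) * (reta f (μ : K))⁻¹ := by group
  have hUH := (Cfsg.Agent.S1036.result (F := K) chevG2 g2_mem).2
  have hmem : (((ru f t' u' v')⁻¹ * ru f t u v : ↥(chevG2.group K)) : GL chevG2.Idx K) ∈
      chevG2.posUnipotent K ⊓ chevG2.diagonalSubgroup K := by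
    constructor
    · rw [Subgroup.coe_mul, Subgroup.coe_inv]
      exact Subgroup.mul_mem _ (Subgroup.inv_mem _ (ru_mem_U f _ _ _)) (ru_mem_U f _ _ _)
    · rw [e1, Subgroup.coe_mul, Subgroup.coe_inv]
      exact Subgroup.mul_mem _ (reta_mem_H f _ (Units.ne_zero _))
        (Subgroup.inv_mem _ (reta_mem_H f _ (Units.ne_zero _)))
  rw [hUH, Subgroup.mem_bot] at hmem
  have h1 : (ru f t' u' v')⁻¹ * ru f t u v = 1 := Subtype.ext hmem
  have h2 : ru f t u v = ru f t' u' v' := (inv_mul_eq_one.mp h1).symm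
  have h3 : reta f (μ : K) = reta f (μ' : K) := by
    rw [h1] at e1
    exact (mul_inv_eq_one.mp e1.symm).symm
  obtain ⟨rfl, rfl, rfl⟩ := ru_inj f _ _ _ _ _ _ h2
  have h4 := reta_inj f _ _ (Units.ne_zero _) (Units.ne_zero _) h3
  have h5 : μ = μ' := Units.ext h4
  rw [h5]

theorem rphi2_inj : Function.Injective (rphi2 (K := K) f) := by
  rintro ⟨p, t, u, v⟩ ⟨p', t', u', v'⟩ h
  unfold rphi2 at h
  simp only at h
  have hC := commOK_of_mem chevG2 g2_mem
  have hP := posCommOK_of_mem chevG2 g2_mem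
  have h1 := congrArg (fun x : ↥(chevG2.group K) => (x : GL chevG2.Idx K)) h
  simp only [Subgroup.coe_mul, rn1_coe] at h1
  obtain ⟨-, huniq⟩ := unique_form chevG2 g2_mem hC hP _ _ _ _ _ _
    (rphi1_mem_B f p) (rphi1_mem_B f p') (nW_mem chevG2 g2_mem w0_G2 w0_G2_ok.lt)
    (nW_mem chevG2 g2_mem w0_G2 w0_G2_ok.lt)
    (U_le_UnegOf_w0 (ru_mem_U f t u v)) (U_le_UnegOf_w0 (ru_mem_U f t' u' v')) h1
  obtain ⟨hb, hu⟩ := huniq rfl
  have hp : p = p' := rphi1_inj f (Subtype.ext hb)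
  obtain ⟨rfl, rfl, rfl⟩ := ru_inj f _ _ _ _ _ _ (Subtype.ext hu)
  rw [hp]

theorem rphi_disjoint : Disjoint (Set.range (rphi1 (K := K) f)) (Set.range (rphi2 (K := K) f)) := by
  rw [Set.disjoint_left]
  rintro g ⟨p, rfl⟩ ⟨⟨p', t, u, v⟩, h⟩
  unfold rphi2 at h
  simp only at h
  apply rn1_not_mem_B f
  have e1 : rn1 f = (rphi1 f p')⁻¹ * rphi1 f p * (ru f t u v)⁻¹ := by
    rw [← h]
    group
  rw [e1, Subgroup.coe_mul, Subgroup.coe_mul, Subgroup.coe_inv, Subgroup.coe_inv]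
  exact Subgroup.mul_mem _ (Subgroup.mul_mem _ (Subgroup.inv_mem _ (rphi1_mem_B f p'))
    (rphi1_mem_B f p)) (Subgroup.inv_mem _ (U_le_B chevG2 g2_mem (ru_mem_U f _ _ _)))

include hff hfe he hq hN hk in
theorem reeR_eq (g : ↥(chevG2.group K)) :
    g ∈ reeR f ↔ g ∈ Set.range (rphi1 (K := K) f) ∪ Set.range (rphi2 (K := K) f) := by
  constructor
  · intro hg
    have hfix := reeR_fixed f hff g hg
    rcases fix_decomp f hff g hfix with hB | ⟨b, u, hb, hbf, hu, huf, rfl⟩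
    · left
      obtain ⟨t, u, v, μ, hμ, rfl⟩ := fixed_B f hff g hB hfix
      exact ⟨(t, u, v, Units.mk0 μ hμ), rfl⟩
    · right
      obtain ⟨t, u₂, v, μ, hμ, rfl⟩ := fixed_B f hff b hb hbf
      obtain ⟨t', u', v', rfl⟩ := fixed_U f hff u hu huf
      exact ⟨((t, u₂, v, Units.mk0 μ hμ), (t', u', v')), rfl⟩
  · have h1 : ∀ p : K × K × K × Kˣ, rphi1 f p ∈ reeR f := fun p =>
      Subgroup.mul_mem _ (ru_mem_R f _ _ _)
        (reta_mem_R f hff e hfe he j N hq hN hk _ (Units.ne_zero _))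
    rintro (⟨p, rfl⟩ | ⟨p, rfl⟩)
    · exact h1 p
    · exact Subgroup.mul_mem _ (Subgroup.mul_mem _ (h1 p.1) (rn1_mem_R f)) (ru_mem_R f _ _ _)

include hff hfe he hq hN hk in
/-- **the order of the Ree group** -/
theorem ree_card : Nat.card ↥(twistedG2 K e) =
    Nat.card K ^ 3 * (Nat.card K - 1) * (Nat.card K ^ 3 + 1) := by
  rw [tw_eq_map f e hfe]
  rw [← Nat.card_congr ((reeR f).equivMapOfInjective (chevG2.group K).subtype
    (Subgroup.subtype_injective _)).toEquiv]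
  rw [Nat.card_congr (Equiv.subtypeEquivRight (reeR_eq f hff e hfe he j N hq hN hk)),
    Nat.card_coe_set_eq, Set.ncard_union_eq (rphi_disjoint f) (Set.toFinite _) (Set.toFinite _),
    Set.ncard_range_of_injective (rphi1_inj f), Set.ncard_range_of_injective (rphi2_inj f)]
  simp only [Nat.card_prod, Nat.card_units]
  ring

end

end Cfsg.Agent.helper5.Chev
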