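import Mathlib
import Cfsg.Agent.Lib_helper5_ReeN
import Cfsg.Agent.Lib_helper5_TwBN2

set_option autoImplicit false
set_option linter.unusedSectionVars false
set_option linter.unusedVariables false

/-! The (B,N)-pair of the Ree groups (helper5). -/

namespace Cfsg.Agent.helper5.Chev

open Cfsg.Lie

/-- a subgroup of index two is the kernel of a surjection onto `ℤ/2` -/
theorem exists_hom_zmod2 {G : Type*} [Group G] (H : Subgroup G) (hidx : H.index = 2) :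
    ∃ φ : G →* Multiplicative (ZMod 2), Function.Surjective φ ∧ φ.ker = H := by
  classical
  have hmul := fun a b => Subgroup.mul_mem_iff_of_index_two hidx (a := a) (b := b)
  have h11 : (Multiplicative.ofAdd (1 : ZMod 2)) * Multiplicative.ofAdd (1 : ZMod 2) = 1 := by
    decide
  have h1ne : Multiplicative.ofAdd (1 : ZMod 2) ≠ 1 := by decide
  have hcases : ∀ x : Multiplicative (ZMod 2), x = 1 ∨ x = Multiplicative.ofAdd (1 : ZMod 2) := by
    decide
  let φ : G →* Multiplicative (ZMod 2) :=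
    MonoidHom.mk' (fun a => if a ∈ H then 1 else Multiplicative.ofAdd (1 : ZMod 2)) (by
      intro a b
      by_cases ha : a ∈ H <;> by_cases hb : b ∈ H
      · simp only [if_pos ha, if_pos hb, if_pos (H.mul_mem ha hb), mul_one]
      · have : a * b ∉ H := by rw [hmul]; tauto
        simp only [if_pos ha, if_neg hb, if_neg this, one_mul]
      · have : a * b ∉ H := by rw [hmul]; tauto
        simp only [if_neg ha, if_pos hb, if_neg this, mul_one]
      · have : a * b ∈ H := by rw [hmul]; tauto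
        simp only [if_neg ha, if_neg hb, if_pos this, h11])
  have hφ : ∀ a, φ a = if a ∈ H then 1 else Multiplicative.ofAdd (1 : ZMod 2) := fun a => rfl
  refine ⟨φ, ?_, ?_⟩
  · obtain ⟨a, ha⟩ : ∃ a, a ∉ H := by
      by_contra hcon
      push Not at hcon
      have : H = ⊤ := by
        rw [eq_top_iff]
        intro x _
        exact hcon x
      rw [this, Subgroup.index_top] at hidx
      omega
    intro x
    rcases hcases x with rfl | rfl
    · exact ⟨1, by rw [hφ, if_pos H.one_mem]⟩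
    · exact ⟨a, by rw [hφ, if_neg ha]⟩
  · ext a
    rw [MonoidHom.mem_ker, hφ]
    by_cases ha : a ∈ H
    · rw [if_pos ha]
      exact ⟨fun _ => ha, fun _ => rfl⟩
    · rw [if_neg ha]
      exact ⟨fun h => absurd h h1ne, fun h => absurd h ha⟩

section
variable {K : Type*} [Field K] [Fintype K] [CharP K 3] (f : K →+* K)
  (hff : ∀ t : K, f (f t) ^ 3 = t) (e : ℕ) (hfe : ∀ t : K, f t = t ^ e) (he : Odd e)
  (j N : ℕ) (hq : Fintype.card K = 2 * N + 1) (hN : (3 * e + 1) * j = 3 * N + 1)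
  (hk : Even (N + 1))

include hfe in
theorem mem_tw_of_mem_R (g : ↥(chevG2.group K)) (hg : g ∈ reeR f) :
    (g : GL chevG2.Idx K) ∈ twistedG2 K e := by
  rw [tw_eq_map f e hfe]
  exact ⟨g, hg, rfl⟩

include hfe in
theorem rn1_mem_tw : nW chevG2 g2_mem w0_G2 ∈ twistedG2 K e := by
  rw [← rn1_coe f]
  exact mem_tw_of_mem_R f e hfe _ (rn1_mem_R f)

theorem rn1_mem_N : nW (F := K) chevG2 g2_mem w0_G2 ∈ chevG2.monomialSubgroup K :=
  nW_mem chevG2 g2_mem w0_G2 w0_G2_ok.lt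

theorem w0w0_id : ∀ s < chevG2.nroots, applyW chevG2 (w0_G2 ++ w0_G2) s = s := by decide

theorem rn1_sq_mem_H : nW (F := K) chevG2 g2_mem w0_G2 * nW chevG2 g2_mem w0_G2 ∈
    chevG2.diagonalSubgroup K := by
  rw [← nW_append]
  apply nW_mem_H chevG2 g2_mem
  · intro i hi
    rcases List.mem_append.mp hi with hi | hi <;> exact w0_G2_ok.lt i hi
  · exact w0w0_id

include hff hfe he hq hN hk in
theorem fixed_mem_R (g : ↥(chevG2.group K)) (hfix : rsig f hff g = g) : g ∈ reeR f := by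
  rw [reeR_eq f hff e hfe he j N hq hN hk]
  rcases fix_decomp f hff g hfix with hB | ⟨b, u, hb, hbf, hu, huf, rfl⟩
  · left
    obtain ⟨t, u, v, μ, hμ, rfl⟩ := fixed_B f hff g hB hfix
    exact ⟨(t, u, v, Units.mk0 μ hμ), rfl⟩
  · right
    obtain ⟨t, u₂, v, μ, hμ, rfl⟩ := fixed_B f hff b hb hbf
    obtain ⟨t', u', v', rfl⟩ := fixed_U f hff u hu huf
    exact ⟨((t, u₂, v, Units.mk0 μ hμ), (t', u', v')), rfl⟩

include hff hfe he hq hN hk in
/-- the Bruhat decomposition of the Ree group -/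
theorem tw_decomp (g : GL chevG2.Idx K) (hg : g ∈ twistedG2 K e) :
    g ∈ chevG2.borelSubgroup K ∨ ∃ b ∈ chevG2.borelSubgroup K ⊓ twistedG2 K e,
      ∃ u ∈ chevG2.posUnipotent K ⊓ twistedG2 K e, g = b * nW chevG2 g2_mem w0_G2 * u := by
  rw [tw_eq_map f e hfe] at hg
  obtain ⟨g', hg', rfl⟩ := hg
  have hfix := reeR_fixed f hff g' hg'
  rcases fix_decomp f hff g' hfix with hB | ⟨b, u, hb, hbf, hu, huf, rfl⟩
  · left; exact hB
  · right
    refine ⟨b, ⟨hb, mem_tw_of_mem_R f e hfe b (fixed_mem_R f hff e hfe he j N hq hN hk b hbf)⟩,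
      u, ⟨hu, mem_tw_of_mem_R f e hfe u (fixed_mem_R f hff e hfe he j N hq hN hk u huf)⟩, ?_⟩
    show ((b * rn1 f * u : ↥(chevG2.group K)) : GL chevG2.Idx K) = _
    rw [Subgroup.coe_mul, Subgroup.coe_mul, rn1_coe]

include hff hfe he hq hN hk in
/-- the structure of `N¹` -/
theorem tw_N (n : GL chevG2.Idx K) (hn : n ∈ chevG2.monomialSubgroup K ⊓ twistedG2 K e) :
    n ∈ chevG2.diagonalSubgroup K ∨ ∃ h ∈ chevG2.diagonalSubgroup K ⊓ twistedG2 K e,
      n = h * nW chevG2 g2_mem w0_G2 := by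
  have hC := commOK_of_mem chevG2 g2_mem
  have hP := posCommOK_of_mem chevG2 g2_mem
  have hNH := N_le_normalizer_H (F := K) chevG2 g2_mem
  rcases tw_decomp f hff e hfe he j N hq hN hk n hn.2 with hB | ⟨b, hb, u, hu, e1⟩
  · left
    rw [← B_inf_N chevG2 g2_mem]
    exact ⟨hB, hn.1⟩
  · right
    have hcu := cell_unique chevG2 g2_mem hC hP 1 1 b u n (nW chevG2 g2_mem w0_G2)
      (Subgroup.one_mem _) (Subgroup.one_mem _) hb.1 (U_le_B chevG2 g2_mem hu.1) hn.1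
      rn1_mem_N (by rw [one_mul, mul_one]; exact e1)
    have h1 : n * (n⁻¹ * nW chevG2 g2_mem w0_G2)⁻¹ * n⁻¹ ∈ chevG2.diagonalSubgroup K :=
      (Subgroup.mem_normalizer_iff.mp (hNH hn.1) _).mp (Subgroup.inv_mem _ hcu)
    refine ⟨n * (n⁻¹ * nW chevG2 g2_mem w0_G2)⁻¹ * n⁻¹, ⟨h1, ?_⟩, by group⟩
    have e2 : n * (n⁻¹ * nW chevG2 g2_mem w0_G2)⁻¹ * n⁻¹ = n * (nW chevG2 g2_mem w0_G2)⁻¹ := by
      group
    rw [e2]
    exact Subgroup.mul_mem _ hn.2 (Subgroup.inv_mem _ (rn1_mem_tw f e hfe))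

theorem ru000 : ru f 0 0 0 = 1 := by
  unfold ru P4
  simp [g2x_zero]

include hff hfe he hq hN hk in
/-- **the (B,N)-pair of the Ree group** -/
theorem ree_bnpair : ∃ Q : Cfsg.BNPair ↥(twistedG2 K e),
    Q.B = (chevG2.borelSubgroup K ⊓ twistedG2 K e).subgroupOf (twistedG2 K e) ∧
    Q.N = (chevG2.monomialSubgroup K ⊓ twistedG2 K e).subgroupOf (twistedG2 K e) ∧
    Q.S = {k : ↥(twistedG2 K e) | (k : GL chevG2.Idx K) ∈
      ({nW chevG2 g2_mem w0_G2} : Set (GL chevG2.Idx K))} := by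
  have hNH := N_le_normalizer_H (F := K) chevG2 g2_mem
  have hBN := B_inf_N (F := K) chevG2 g2_mem
  obtain ⟨T, hT⟩ : ∃ T, T = twistedG2 K e := ⟨_, rfl⟩
  obtain ⟨n₁, hn₁⟩ : ∃ n₁, n₁ = nW (F := K) chevG2 g2_mem w0_G2 := ⟨_, rfl⟩
  have hn₁T : n₁ ∈ T := by rw [hn₁, hT]; exact rn1_mem_tw f e hfe
  have hn₁N : n₁ ∈ chevG2.monomialSubgroup K := by rw [hn₁]; exact rn1_mem_N
  have hsqH : n₁ * n₁ ∈ chevG2.diagonalSubgroup K := by rw [hn₁]; exact rn1_sq_mem_H
  have hdec : ∀ g ∈ T, g ∈ chevG2.borelSubgroup K ∨ ∃ b ∈ chevG2.borelSubgroup K ⊓ T,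
      ∃ u ∈ chevG2.posUnipotent K ⊓ T, g = b * n₁ * u := by
    rw [hT, hn₁]; exact tw_decomp f hff e hfe he j N hq hN hk
  have hNdec : ∀ n ∈ chevG2.monomialSubgroup K ⊓ T, n ∈ chevG2.diagonalSubgroup K ∨
      ∃ h ∈ chevG2.diagonalSubgroup K ⊓ T, n = h * n₁ := by
    rw [hT, hn₁]; exact tw_N f hff e hfe he j N hq hN hk
  rw [← hT, ← hn₁]
  obtain ⟨B1, hB1⟩ : ∃ B1, B1 = chevG2.borelSubgroup K ⊓ T := ⟨_, rfl⟩
  obtain ⟨N1, hN1⟩ : ∃ N1, N1 = chevG2.monomialSubgroup K ⊓ T := ⟨_, rfl⟩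
  rw [← hB1, ← hN1]
  have hB1G : B1 ≤ T := by rw [hB1]; exact inf_le_right
  have hN1G : N1 ≤ T := by rw [hN1]; exact inf_le_right
  have hB1B : B1 ≤ chevG2.borelSubgroup K := by rw [hB1]; exact inf_le_left
  have hN1N : N1 ≤ chevG2.monomialSubgroup K := by rw [hN1]; exact inf_le_left
  have hn₁N1 : n₁ ∈ N1 := by rw [hN1]; exact ⟨hn₁N, hn₁T⟩
  have hHB1 : ∀ h ∈ chevG2.diagonalSubgroup K, h ∈ T → h ∈ B1 ⊓ N1 := by
    intro h hh hG
    rw [hB1, hN1]
    exact ⟨⟨H_le_B chevG2 g2_mem hh, hG⟩, ⟨H_le_N chevG2 hh, hG⟩⟩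
  have hUB1 : ∀ u ∈ chevG2.posUnipotent K ⊓ T, u ∈ B1 := by
    intro u hu
    rw [hB1]
    exact ⟨U_le_B chevG2 g2_mem hu.1, hu.2⟩
  have hsqB1 : n₁ * n₁ ∈ B1 := (hHB1 _ hsqH (T.mul_mem hn₁T hn₁T)).1
  refine bnpair_of_axioms T B1 N1 {n₁} hB1G hN1G ?_ ?_ ?_ ?_ ?_ ?_ ?_ ?_
  · -- sup
    apply le_antisymm (sup_le hB1G hN1G)
    intro g hg
    rcases hdec g hg with hB | ⟨b, hb, u, hu, rfl⟩
    · exact Subgroup.mem_sup_left (by rw [hB1]; exact ⟨hB, hg⟩)
    · exact Subgroup.mul_mem _ (Subgroup.mul_mem _ (Subgroup.mem_sup_left (by rw [hB1]; exact hb))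
        (Subgroup.mem_sup_right hn₁N1)) (Subgroup.mem_sup_left (hUB1 u hu))
  · -- conj
    intro n hn t ht
    have htH : t ∈ chevG2.diagonalSubgroup K := by
      rw [← hBN]
      exact ⟨hB1B ht.1, hN1N ht.2⟩
    have h1 : n * t * n⁻¹ ∈ chevG2.diagonalSubgroup K :=
      (Subgroup.mem_normalizer_iff.mp (hNH (hN1N hn)) _).mp htH
    exact (hHB1 _ h1 (T.mul_mem (T.mul_mem (hN1G hn) (hB1G ht.1)) (T.inv_mem (hN1G hn)))).1
  · -- S ⊆ N
    intro s hs
    rw [Set.mem_singleton_iff.mp hs]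
    exact hn₁N1
  · -- squares
    intro s hs
    rw [Set.mem_singleton_iff.mp hs]
    exact hsqB1
  · -- inj
    intro s hs s' hs' _
    rw [Set.mem_singleton_iff.mp hs, Set.mem_singleton_iff.mp hs']
  · -- closure
    apply le_antisymm
    · refine sup_le ((Subgroup.closure_le _).mpr ?_) inf_le_right
      intro s hs
      rw [Set.mem_singleton_iff.mp hs]
      exact hn₁N1
    · intro n hn
      have hn' : n ∈ chevG2.monomialSubgroup K ⊓ T := by rw [hN1] at hn; exact hn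
      rcases hNdec n hn' with hH | ⟨h, hh, rfl⟩
      · exact Subgroup.mem_sup_right (hHB1 n hH hn'.2)
      · exact Subgroup.mul_mem _ (Subgroup.mem_sup_right (hHB1 h hh.1 hh.2))
          (Subgroup.mem_sup_left (Subgroup.subset_closure (Set.mem_singleton _)))
  · -- the double coset axiom
    intro s hs n hn b hb
    rw [Set.mem_singleton_iff.mp hs]
    have hn' : n ∈ chevG2.monomialSubgroup K ⊓ T := by rw [hN1] at hn; exact hn
    rcases hNdec n hn' with hH | ⟨h, hh, rfl⟩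
    · left
      rw [DoubleCoset.mem_doubleCoset]
      have hnB1 : n ∈ B1 := (hHB1 n hH hn'.2).1
      refine ⟨1, B1.one_mem, n⁻¹ * b * n, B1.mul_mem (B1.mul_mem (B1.inv_mem hnB1) hb) hnB1, ?_⟩
      group
    · have hhB1 : h ∈ B1 := (hHB1 h hh.1 hh.2).1
      have hgT : n₁ * b * (h * n₁) ∈ T :=
        T.mul_mem (T.mul_mem hn₁T (hB1G hb)) (T.mul_mem hh.2 hn₁T)
      rcases hdec _ hgT with hB | ⟨b', hb', u', hu', e1⟩
      · left
        rw [DoubleCoset.mem_doubleCoset]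
        have h2 : n₁ * h * n₁⁻¹ ∈ chevG2.diagonalSubgroup K :=
          (Subgroup.mem_normalizer_iff.mp (hNH hn₁N) _).mp hh.1
        have h3 : n₁ * (h * n₁) ∈ B1 := by
          have e2 : n₁ * (h * n₁) = (n₁ * h * n₁⁻¹) * (n₁ * n₁) := by group
          rw [e2]
          exact B1.mul_mem (hHB1 _ h2 (T.mul_mem (T.mul_mem hn₁T hh.2) (T.inv_mem hn₁T))).1 hsqB1
        have h4 : n₁ * b * (h * n₁) ∈ B1 := by rw [hB1]; exact ⟨hB, hgT⟩
        refine ⟨n₁ * b * (h * n₁) * (n₁ * (h * n₁))⁻¹, B1.mul_mem h4 (B1.inv_mem h3), 1,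
          B1.one_mem, ?_⟩
        group
      · right
        rw [DoubleCoset.mem_doubleCoset]
        refine ⟨b' * h⁻¹, B1.mul_mem (by rw [hB1]; exact hb') (B1.inv_mem hhB1), u',
          hUB1 u' hu', ?_⟩
        rw [e1]
        group
  · -- s B s ≠ B
    intro s hs
    rw [Set.mem_singleton_iff.mp hs]
    have huU : ((ru f 1 0 0 : ↥(chevG2.group K)) : GL chevG2.Idx K) ∈ chevG2.posUnipotent K :=
      ru_mem_U f 1 0 0
    have huT : ((ru f 1 0 0 : ↥(chevG2.group K)) : GL chevG2.Idx K) ∈ T := by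
      rw [hT]; exact ru_mem_tw f e hfe 1 0 0
    refine ⟨_, hUB1 _ ⟨huU, huT⟩, ?_⟩
    intro hcon
    have h1 : n₁ * ((ru f 1 0 0 : ↥(chevG2.group K)) : GL chevG2.Idx K) * n₁⁻¹ ∈
        chevG2.borelSubgroup K := by
      have e2 : n₁ * ((ru f 1 0 0 : ↥(chevG2.group K)) : GL chevG2.Idx K) * n₁⁻¹ =
          (n₁ * ((ru f 1 0 0 : ↥(chevG2.group K)) : GL chevG2.Idx K) * n₁) * (n₁ * n₁)⁻¹ := by
        group
      rw [e2]
      exact Subgroup.mul_mem _ (hB1B hcon) (Subgroup.inv_mem _ (hB1B hsqB1))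
    have h2 : n₁ * ((ru f 1 0 0 : ↥(chevG2.group K)) : GL chevG2.Idx K) * n₁⁻¹ ∈
        chevG2.negUnipotent K := by
      rw [← conj_U_eq_V chevG2 g2_mem w0_G2 w0_G2_ok, ← hn₁]
      exact ⟨_, huU, rfl⟩
    have h3 : n₁ * ((ru f 1 0 0 : ↥(chevG2.group K)) : GL chevG2.Idx K) * n₁⁻¹ ∈
        chevG2.borelSubgroup K ⊓ chevG2.negUnipotent K := ⟨h1, h2⟩
    rw [B_inf_V chevG2 g2_mem, Subgroup.mem_bot] at h3
    have h4 : ((ru f 1 0 0 : ↥(chevG2.group K)) : GL chevG2.Idx K) = 1 := by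
      have := congrArg (fun x => n₁⁻¹ * x * n₁) h3
      simpa [mul_assoc] using this
    have h5 : ru f 1 0 0 = ru f 0 0 0 := by
      rw [ru000]
      exact Subtype.ext h4
    exact one_ne_zero (ru_inj f _ _ _ _ _ _ h5).1

end

end Cfsg.Agent.helper5.Chev
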