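import Mathlib
import Cfsg.Agent.Lib_helper5_ReeO
import Cfsg.Agent.Lib_helper5_TwCore

set_option autoImplicit false
set_option linter.unusedSectionVars false
set_option linter.unusedVariables false

/-! The Weyl group and the core of the Borel subgroup of the Ree groups (helper5). -/

namespace Cfsg.Agent.helper5.Chev

open Cfsg.Lie

set_option maxRecDepth 100000 in
theorem g2_hCR : cartanReflChk chevG2 = true := by decide +kernel

section
variable {K : Type*} [Field K] [Fintype K] [CharP K 3] (f : K →+* K)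
  (hff : ∀ t : K, f (f t) ^ 3 = t) (e : ℕ) (hfe : ∀ t : K, f t = t ^ e) (he : Odd e)
  (j N : ℕ) (hq : Fintype.card K = 2 * N + 1) (hN : (3 * e + 1) * j = 3 * N + 1)
  (hk : Even (N + 1))

theorem rn1_not_mem_H : nW (F := K) chevG2 g2_mem w0_G2 ∉ chevG2.diagonalSubgroup K := by
  intro h
  apply rn1_not_mem_B (K := K) (RingHom.id K)
  rw [rn1_coe]
  exact H_le_B chevG2 g2_mem h

include hff hfe he hq hN hk in
/-- `H¹` has index two in `N¹` -/
theorem ree_N_index : ((chevG2.diagonalSubgroup K ⊓ twistedG2 K e).subgroupOf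
    (chevG2.monomialSubgroup K ⊓ twistedG2 K e)).index = 2 := by
  rw [Subgroup.index_eq_two_iff]
  have hn₁ : nW (F := K) chevG2 g2_mem w0_G2 ∈ chevG2.monomialSubgroup K ⊓ twistedG2 K e :=
    ⟨rn1_mem_N, rn1_mem_tw f e hfe⟩
  refine ⟨⟨nW chevG2 g2_mem w0_G2, hn₁⟩, ?_⟩
  intro b
  rcases tw_N f hff e hfe he j N hq hN hk b.1 b.2 with hH | ⟨h, hh, e1⟩
  · right
    refine ⟨Subgroup.mem_subgroupOf.mpr ⟨hH, b.2.2⟩, ?_⟩
    intro hcon
    rw [Subgroup.mem_subgroupOf] at hcon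
    apply rn1_not_mem_H (K := K)
    have e2 : nW (F := K) chevG2 g2_mem w0_G2 =
        (b : GL chevG2.Idx K)⁻¹ * ((b : GL chevG2.Idx K) * nW chevG2 g2_mem w0_G2) := by group
    rw [e2]
    exact Subgroup.mul_mem _ (Subgroup.inv_mem _ hH) hcon.1
  · left
    refine ⟨?_, ?_⟩
    · rw [Subgroup.mem_subgroupOf]
      show (b : GL chevG2.Idx K) * nW chevG2 g2_mem w0_G2 ∈ _
      rw [e1, mul_assoc]
      exact ⟨Subgroup.mul_mem _ hh.1 rn1_sq_mem_H, Subgroup.mul_mem _ hh.2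
        (Subgroup.mul_mem _ (rn1_mem_tw f e hfe) (rn1_mem_tw f e hfe))⟩
    · intro hcon
      rw [Subgroup.mem_subgroupOf] at hcon
      apply rn1_not_mem_H (K := K)
      have e2 : nW (F := K) chevG2 g2_mem w0_G2 = h⁻¹ * (b : GL chevG2.Idx K) := by
        rw [e1]; group
      rw [e2]
      exact Subgroup.mul_mem _ (Subgroup.inv_mem _ hh.1) hcon.1

include hfe in
/-- the normal core of `B¹` is trivial -/
theorem ree_core : ((chevG2.borelSubgroup K ⊓ twistedG2 K e).subgroupOf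
    (twistedG2 K e)).normalCore = ⊥ := by
  apply tw_core_trivial chevG2 g2_mem g2_hCR (twistedG2 K e) w0_G2 w0_G2_ok (rn1_mem_tw f e hfe)
  intro i hi
  have hr : chevG2.rank = 2 := by decide
  rw [hr] at hi
  have hmem := ru_mem_tw f e hfe 1 0 0
  have s0 : chevG2.simple 0 = 7 := by decide
  have s1 : chevG2.simple 1 = 6 := by decide
  have hP4 : ∀ (i : ℕ) (a b c d : K), 8 ≠ chevG2.simple i → 9 ≠ chevG2.simple i →
      10 ≠ chevG2.simple i → 11 ≠ chevG2.simple i →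
      ((P4 a b c d : ↥(chevG2.group K)) : GL chevG2.Idx K) ∈ Ui (F := K) chevG2 i := by
    intro i a b c d h8 h9 h10 h11
    unfold P4
    rw [Subgroup.coe_mul, Subgroup.coe_mul, Subgroup.coe_mul]
    exact Subgroup.mul_mem _ (Subgroup.mul_mem _ (Subgroup.mul_mem _
      (xG_mem_Ui chevG2 g2_mem i 8 (by decide) h8 a) (xG_mem_Ui chevG2 g2_mem i 9 (by decide) h9 b))
      (xG_mem_Ui chevG2 g2_mem i 10 (by decide) h10 c))
      (xG_mem_Ui chevG2 g2_mem i 11 (by decide) h11 d)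
  interval_cases i
  · refine ⟨f 1, (map_ne_zero f).mpr one_ne_zero, 1, Subgroup.one_mem _,
      ((g2x 6 1 * P4 (f 1 * 1 + f 0) (f 1 ^ 2 * 1 + f 0) 0 0 : ↥(chevG2.group K)) :
        GL chevG2.Idx K), ?_, ?_⟩
    · rw [Subgroup.coe_mul]
      exact Subgroup.mul_mem _ (xG_mem_Ui chevG2 g2_mem 0 6 (by decide) (by decide) 1)
        (hP4 0 _ _ _ _ (by decide) (by decide) (by decide) (by decide))
    · have e1 : ((ru f 1 0 0 : ↥(chevG2.group K)) : GL chevG2.Idx K) =
          1 * xG chevG2 g2_mem (chevG2.simple 0) (f 1) *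
            ((g2x 6 1 * P4 (f 1 * 1 + f 0) (f 1 ^ 2 * 1 + f 0) 0 0 : ↥(chevG2.group K)) :
              GL chevG2.Idx K) := by
        rw [one_mul, s0]
        show ((g2x 7 (f 1) * g2x 6 1 * P4 (f 1 * 1 + f 0) (f 1 ^ 2 * 1 + f 0) 0 0 :
          ↥(chevG2.group K)) : GL chevG2.Idx K) = _
        rw [mul_assoc, Subgroup.coe_mul]
        rfl
      rw [← e1]
      exact hmem
  · refine ⟨1, one_ne_zero, ((g2x 7 (f 1) : ↥(chevG2.group K)) : GL chevG2.Idx K),
      xG_mem_Ui chevG2 g2_mem 1 7 (by decide) (by decide) (f 1),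
      ((P4 (f 1 * 1 + f 0) (f 1 ^ 2 * 1 + f 0) 0 0 : ↥(chevG2.group K)) : GL chevG2.Idx K),
      hP4 1 _ _ _ _ (by decide) (by decide) (by decide) (by decide), ?_⟩
    have e1 : ((ru f 1 0 0 : ↥(chevG2.group K)) : GL chevG2.Idx K) =
        ((g2x 7 (f 1) : ↥(chevG2.group K)) : GL chevG2.Idx K) *
          xG chevG2 g2_mem (chevG2.simple 1) 1 *
          ((P4 (f 1 * 1 + f 0) (f 1 ^ 2 * 1 + f 0) 0 0 : ↥(chevG2.group K)) :
            GL chevG2.Idx K) := by
      rw [s1]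
      rfl
    rw [← e1]
    exact hmem

end

end Cfsg.Agent.helper5.Chev
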