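import Mathlib
import Cfsg.Agent.Lib_helper5_ReeP

set_option autoImplicit false
set_option linter.unusedSectionVars false
set_option linter.unusedVariables false

/-! The `b`-coordinate on `U` and the action of the torus on `U¹` (helper5). -/

namespace Cfsg.Agent.helper5.Chev

open Cfsg.Lie

section
variable {K : Type*} [Field K] [CharP K 3]

/-- `g ∈ x_b(t) U_b` -/
def c6 (g : GL chevG2.Idx K) (t : K) : Prop :=
  (xG chevG2 g2_mem 6 t)⁻¹ * g ∈ Ui (F := K) chevG2 1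

theorem x6_norm (t : K) :
    xG chevG2 g2_mem 6 t ∈ Subgroup.normalizer (Ui (F := K) chevG2 1 : Set (GL chevG2.Idx K)) := by
  have h := xG_simple_mem_normalizer (F := K) chevG2 g2_mem (commOK_of_mem _ g2_mem)
    (posCommOK_of_mem _ g2_mem) 1 (by decide) t
  have s1 : chevG2.simple 1 = 6 := by decide
  rwa [s1] at h

theorem c6_mul (g g' : GL chevG2.Idx K) (t t' : K) (h : c6 g t) (h' : c6 g' t') :
    c6 (g * g') (t + t') := by
  unfold c6 at *
  have e : (xG chevG2 g2_mem 6 (t + t'))⁻¹ * (g * g') =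
      ((xG chevG2 g2_mem 6 t')⁻¹ * ((xG chevG2 g2_mem 6 t)⁻¹ * g) *
        (xG (F := K) chevG2 g2_mem 6 t')⁻¹⁻¹) * ((xG chevG2 g2_mem 6 t')⁻¹ * g') := by
    rw [← xG_mul]
    group
  rw [e]
  exact Subgroup.mul_mem _
    ((Subgroup.mem_normalizer_iff.mp (Subgroup.inv_mem _ (x6_norm t')) _).mp h) h'

theorem c6_inv (g : GL chevG2.Idx K) (t : K) (h : c6 g t) : c6 g⁻¹ (-t) := by
  unfold c6 at *
  have e : (xG chevG2 g2_mem 6 (-t))⁻¹ * g⁻¹ =
      xG chevG2 g2_mem 6 t * ((xG chevG2 g2_mem 6 t)⁻¹ * g)⁻¹ *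
        (xG (F := K) chevG2 g2_mem 6 t)⁻¹ := by
    rw [← xG_inv]
    group
  rw [e]
  exact (Subgroup.mem_normalizer_iff.mp (x6_norm t) _).mp (Subgroup.inv_mem _ h)

theorem c6_unique (g : GL chevG2.Idx K) (t t' : K) (h : c6 g t) (h' : c6 g t') : t = t' := by
  unfold c6 at *
  have h1 := Subgroup.mul_mem _ h' (Subgroup.inv_mem _ h)
  have e : (xG chevG2 g2_mem 6 t')⁻¹ * g * ((xG chevG2 g2_mem 6 t)⁻¹ * g)⁻¹ =
      xG (F := K) chevG2 g2_mem 6 (-t' + t) := by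
    rw [← xG_mul, ← xG_inv]
    group
  rw [e] at h1
  have s1 : chevG2.simple 1 = 6 := by decide
  have h2 := xG_simple_mem_Ui (F := K) chevG2 g2_mem 1 (by decide) (-t' + t) (by rw [s1]; exact h1)
  linear_combination h2

theorem c6_conj (k : GL chevG2.Idx K) (c : ℕ → K) (hc : ∀ i, c i ≠ 0)
    (hk : k = torP chevG2 g2_mem c) (g : GL chevG2.Idx K) (t : K) (h : c6 g t) :
    c6 (k * g * k⁻¹) (torusChar chevG2 c 6 * t) := by
  unfold c6 at *
  have hkH : k ∈ chevG2.diagonalSubgroup K := by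
    rw [hk]; exact torP_mem chevG2 g2_mem c (fun i _ => hc i)
  have h1 := H_conj_Ui chevG2 g2_mem 1 k hkH _ h
  have h2 : k * xG chevG2 g2_mem 6 t * k⁻¹ = xG chevG2 g2_mem 6 (torusChar chevG2 c 6 * t) := by
    rw [hk]; exact torP_conj_xG chevG2 g2_mem c hc 6 (by decide) t
  rw [← h2]
  have e : (k * xG chevG2 g2_mem 6 t * k⁻¹)⁻¹ * (k * g * k⁻¹) =
      k * ((xG chevG2 g2_mem 6 t)⁻¹ * g) * k⁻¹ := by group
  rw [e]
  exact h1

variable (f : K →+* K) (hff : ∀ t : K, f (f t) ^ 3 = t)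

theorem c6_ru (t u v : K) : c6 ((ru f t u v : ↥(chevG2.group K)) : GL chevG2.Idx K) t := by
  unfold c6
  have e : (xG chevG2 g2_mem 6 t)⁻¹ * ((ru f t u v : ↥(chevG2.group K)) : GL chevG2.Idx K) =
      ((xG chevG2 g2_mem 6 t)⁻¹ * xG chevG2 g2_mem 7 (f t) * (xG chevG2 g2_mem 6 t)⁻¹⁻¹) *
        ((P4 (f t * t + f u) (f t ^ 2 * t + f v) u v : ↥(chevG2.group K)) :
          GL chevG2.Idx K) := by
    show (xG chevG2 g2_mem 6 t)⁻¹ * (xG chevG2 g2_mem 7 (f t) * xG chevG2 g2_mem 6 t *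
      ((P4 (f t * t + f u) (f t ^ 2 * t + f v) u v : ↥(chevG2.group K)) :
          GL chevG2.Idx K)) = _
    group
  rw [e]
  refine Subgroup.mul_mem _ ((Subgroup.mem_normalizer_iff.mp
    (Subgroup.inv_mem _ (x6_norm t)) _).mp
    (xG_mem_Ui chevG2 g2_mem 1 7 (by decide) (by decide) (f t))) ?_
  unfold P4
  rw [Subgroup.coe_mul, Subgroup.coe_mul, Subgroup.coe_mul]
  exact Subgroup.mul_mem _ (Subgroup.mul_mem _ (Subgroup.mul_mem _
    (xG_mem_Ui chevG2 g2_mem 1 8 (by decide) (by decide) _)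
    (xG_mem_Ui chevG2 g2_mem 1 9 (by decide) (by decide) _))
    (xG_mem_Ui chevG2 g2_mem 1 10 (by decide) (by decide) _))
    (xG_mem_Ui chevG2 g2_mem 1 11 (by decide) (by decide) _)

include hff in
/-- a fixed point of `U` with known `b`-coordinate -/
theorem fixed_U_c6 (g : ↥(chevG2.group K)) (hg : (g : GL chevG2.Idx K) ∈ chevG2.posUnipotent K)
    (hfix : rsig f hff g = g) (t : K) (hc : c6 (g : GL chevG2.Idx K) t) :
    ∃ u v : K, g = ru f t u v := by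
  obtain ⟨t', u, v, rfl⟩ := fixed_U f hff g hg hfix
  have := c6_unique _ _ _ hc (c6_ru f t' u v)
  exact ⟨u, v, by rw [this]⟩

theorem ru0 (u v : K) : ru f 0 u v = P4 (f u) (f v) u v := by
  unfold ru
  simp [g2x_zero]

theorem ru0_mul (u v u' v' : K) : ru f 0 u v * ru f 0 u' v' = ru f 0 (u + u') (v + v') := by
  rw [ru0, ru0, ru0, P4_mul, map_add, map_add]

theorem ru000' : ru f 0 0 0 = 1 := by
  unfold ru P4
  simp [g2x_zero]

theorem ru0_inv (u v : K) : (ru f 0 u v)⁻¹ = ru f 0 (-u) (-v) := by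
  rw [inv_eq_iff_mul_eq_one, ru0_mul, add_neg_cancel, add_neg_cancel, ru000']

theorem g2_char (c : ℕ → K) (r : ℕ) (a b : ℤ) (h0 : chevG2.cartan 0 r = a)
    (h1 : chevG2.cartan 1 r = b) : torusChar chevG2 c r = c 0 ^ a * c 1 ^ b := by
  have hr : List.range chevG2.rank = [0, 1] := by decide
  unfold torusChar
  rw [hr]
  simp only [List.map_cons, List.map_nil, List.prod_cons, List.prod_nil, mul_one, h0, h1]

theorem reta_conj_g2x (μ : K) (hμ : μ ≠ 0) (r : ℕ) (hr : r < 12) (c : K) :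
    reta f μ * g2x r c * (reta f μ)⁻¹ = g2x r (torusChar chevG2 (cfun (f μ) μ) r * c) := by
  apply Subtype.ext
  rw [Subgroup.coe_mul, Subgroup.coe_mul, Subgroup.coe_inv]
  unfold reta
  rw [g2tor_coe]
  exact torP_conj_xG chevG2 g2_mem _ (cfun_ne _ _ ((map_ne_zero f).mpr hμ) hμ) r hr c

include hff in
/-- the action of the torus on the centre-by-centre part of `U¹` -/
theorem reta_conj_ru0 (μ : K) (hμ : μ ≠ 0) (u v : K) :
    reta f μ * ru f 0 u v * (reta f μ)⁻¹ = ru f 0 (f μ ^ 3 * μ⁻¹ * u) (μ * v) := by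
  have hfμ : f μ ≠ 0 := (map_ne_zero f).mpr hμ
  have c8 := g2_char (K := K) (cfun (f μ) μ) 8 (-1) 1 (by decide) (by decide)
  have c9 := g2_char (K := K) (cfun (f μ) μ) 9 1 0 (by decide) (by decide)
  have c10 := g2_char (K := K) (cfun (f μ) μ) 10 3 (-1) (by decide) (by decide)
  have c11 := g2_char (K := K) (cfun (f μ) μ) 11 0 1 (by decide) (by decide)
  simp only [cfun, one_ne_zero, ↓reduceIte] at c8 c9 c10 c11
  rw [ru0, ru0]
  unfold P4
  have e : reta f μ * (g2x 8 (f u) * g2x 9 (f v) * g2x 10 u * g2x 11 v) * (reta f μ)⁻¹ =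
      (reta f μ * g2x 8 (f u) * (reta f μ)⁻¹) * (reta f μ * g2x 9 (f v) * (reta f μ)⁻¹) *
        (reta f μ * g2x 10 u * (reta f μ)⁻¹) * (reta f μ * g2x 11 v * (reta f μ)⁻¹) := by group
  rw [e, reta_conj_g2x f μ hμ 8 (by decide), reta_conj_g2x f μ hμ 9 (by decide),
    reta_conj_g2x f μ hμ 10 (by decide), reta_conj_g2x f μ hμ 11 (by decide), c8, c9, c10, c11]
  have e8 : f μ ^ (-1 : ℤ) * μ ^ (1 : ℤ) * f u = f (f μ ^ 3 * μ⁻¹ * u) := by
    rw [map_mul, map_mul, map_pow, map_inv₀, hff, zpow_neg_one, zpow_one]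
    ring
  have e9 : f μ ^ (1 : ℤ) * μ ^ (0 : ℤ) * f v = f (μ * v) := by
    rw [map_mul, zpow_one, zpow_zero, mul_one]
  have e10 : f μ ^ (3 : ℤ) * μ ^ (-1 : ℤ) * u = f μ ^ 3 * μ⁻¹ * u := by
    rw [zpow_neg_one]
    norm_cast
  have e11 : f μ ^ (0 : ℤ) * μ ^ (1 : ℤ) * v = μ * v := by
    rw [zpow_zero, zpow_one, one_mul]
  rw [e8, e9, e10, e11]

end

end Cfsg.Agent.helper5.Chev
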