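import Mathlib
import Cfsg.Agent.Lib_helper5_ReeQ

set_option autoImplicit false
set_option linter.unusedSectionVars false
set_option linter.unusedVariables false

/-! The Ree groups `²G₂(q)`, `q > 3`, are perfect (helper5). -/

namespace Cfsg.Agent.helper5.Chev

open Cfsg.Lie
open scoped commutatorElement

section
variable {K : Type*} [Field K] [Fintype K] [CharP K 3] (f : K →+* K)
  (hff : ∀ t : K, f (f t) ^ 3 = t) (e : ℕ) (hfe : ∀ t : K, f t = t ^ e) (he : Odd e)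
  (j N : ℕ) (hq : Fintype.card K = 2 * N + 1) (hN : (3 * e + 1) * j = 3 * N + 1)
  (hk : Even (N + 1))

theorem three_eq_zero : (3 : K) = 0 := by
  exact_mod_cast CharP.cast_eq_zero K 3

include hff in
theorem exists_mu (h3 : 3 < Fintype.card K) : ∃ μ : K, μ ≠ 0 ∧ f μ ^ 3 * μ⁻¹ ≠ 1 := by
  classical
  by_contra hcon
  push Not at hcon
  have h1 : ∀ μ : K, f μ ^ 3 = μ := by
    intro μ
    by_cases hμ : μ = 0
    · rw [hμ, map_zero]; ring
    · have h := hcon μ hμ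
      rw [mul_inv_eq_one₀ hμ] at h
      exact h
  have h2 : ∀ μ : K, f μ = μ := by
    intro μ
    have a := h1 (f μ)
    rw [hff] at a
    exact a.symm
  have h3' : ∀ μ : K, μ ^ 3 = μ := by
    intro μ
    have := h1 μ
    rwa [h2] at this
  have h4 : ∀ μ : K, μ = 0 ∨ μ = 1 ∨ μ = -1 := by
    intro μ
    have : μ * (μ - 1) * (μ + 1) = 0 := by linear_combination h3' μ
    rcases mul_eq_zero.mp this with h | h
    · rcases mul_eq_zero.mp h with h | h
      · left; exact h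
      · right; left; exact sub_eq_zero.mp h
    · right; right; exact eq_neg_of_add_eq_zero_left h
  have h5 : (Finset.univ : Finset K) ⊆ {0, 1, -1} := by
    intro μ _
    rcases h4 μ with h | h | h <;> simp [h]
  have h6 := Finset.card_le_card h5
  have h7 : ({0, 1, -1} : Finset K).card ≤ 3 := Finset.card_le_three
  rw [Finset.card_univ] at h6
  omega

include hff hfe he hq hN hk in
theorem ru_00v_mem (v : K) : ru f 0 0 v ∈ ⁅reeR f, reeR f⁆ := by
  have hm1 : (-1 : K) ≠ 0 := by norm_num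
  have hh : reta f (-1) ∈ reeR f := reta_mem_R f hff e hfe he j N hq hN hk (-1) hm1
  have h1 := Subgroup.commutator_mem_commutator hh (ru_mem_R f 0 0 v)
  have e1 : ⁅reta f (-1), ru f 0 0 v⁆ = ru f 0 0 v := by
    rw [commutatorElement_def, reta_conj_ru0 f hff (-1) hm1, ru0_inv, ru0_mul]
    have ea : f (-1) ^ 3 * (-1 : K)⁻¹ * 0 + -0 = 0 := by ring
    have eb : (-1 : K) * v + -v = v := by linear_combination (-v) * (three_eq_zero (K := K))
    rw [ea, eb]
  rw [e1] at h1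
  exact h1

include hff hfe he hq hN hk in
theorem ru_0uv_mem (h3 : 3 < Fintype.card K) (u v : K) : ru f 0 u v ∈ ⁅reeR f, reeR f⁆ := by
  obtain ⟨μ, hμ, hχ⟩ := exists_mu f hff h3
  have hh : reta f μ ∈ reeR f := reta_mem_R f hff e hfe he j N hq hN hk μ hμ
  obtain ⟨χ, hχdef⟩ : ∃ χ, χ = f μ ^ 3 * μ⁻¹ := ⟨_, rfl⟩
  rw [← hχdef] at hχ
  have hχ1 : χ - 1 ≠ 0 := sub_ne_zero.mpr hχ
  have h1 := Subgroup.commutator_mem_commutator hh (ru_mem_R f 0 (u / (χ - 1)) 0)
  have e1 : ⁅reta f μ, ru f 0 (u / (χ - 1)) 0⁆ = ru f 0 u 0 := by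
    rw [commutatorElement_def, reta_conj_ru0 f hff μ hμ, ru0_inv, ru0_mul, ← hχdef]
    have ea : χ * (u / (χ - 1)) + -(u / (χ - 1)) = u := by
      field_simp
      ring
    have eb : μ * 0 + -0 = (0 : K) := by ring
    rw [ea, eb]
  rw [e1] at h1
  have e2 : ru f 0 u v = ru f 0 u 0 * ru f 0 0 v := by rw [ru0_mul, add_zero, zero_add]
  rw [e2]
  exact Subgroup.mul_mem _ h1 (ru_00v_mem f hff e hfe he j N hq hN hk v)

theorem chi6_neg_one : torusChar chevG2 (cfun (f (-1)) (-1 : K)) 6 = -1 := by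
  rw [g2_char _ 6 (-3) 2 (by decide) (by decide)]
  simp only [cfun, one_ne_zero, ↓reduceIte, map_neg, map_one]
  rw [zpow_neg]
  norm_num

include hff hfe he hq hN hk in
/-- `U¹` lies in the derived group -/
theorem ru_mem_comm (h3 : 3 < Fintype.card K) (t u v : K) :
    ru f t u v ∈ ⁅reeR f, reeR f⁆ := by
  have hm1 : (-1 : K) ≠ 0 := by norm_num
  have hh : reta f (-1) ∈ reeR f := reta_mem_R f hff e hfe he j N hq hN hk (-1) hm1
  obtain ⟨g, hgdef⟩ : ∃ g, g = ⁅reta f (-1), ru f t 0 0⁆ := ⟨_, rfl⟩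
  have hg : g ∈ ⁅reeR f, reeR f⁆ := by
    rw [hgdef]; exact Subgroup.commutator_mem_commutator hh (ru_mem_R f t 0 0)
  have hgR : g ∈ reeR f := comm_le_self' _ hg
  have hgfix := reeR_fixed f hff g hgR
  have hHU := (Cfsg.Agent.S1036.result (F := K) chevG2 g2_mem).1
  have hconjU : ((reta f (-1) : ↥(chevG2.group K)) : GL chevG2.Idx K) *
      ((ru f t 0 0 : ↥(chevG2.group K)) : GL chevG2.Idx K) *
      ((reta f (-1) : ↥(chevG2.group K)) : GL chevG2.Idx K)⁻¹ ∈ chevG2.posUnipotent K :=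
    (Subgroup.mem_normalizer_iff.mp (hHU (reta_mem_H f (-1) hm1)) _).mp (ru_mem_U f t 0 0)
  have hgval : (g : GL chevG2.Idx K) = ((reta f (-1) : ↥(chevG2.group K)) : GL chevG2.Idx K) *
      ((ru f t 0 0 : ↥(chevG2.group K)) : GL chevG2.Idx K) *
      ((reta f (-1) : ↥(chevG2.group K)) : GL chevG2.Idx K)⁻¹ *
      ((ru f t 0 0 : ↥(chevG2.group K)) : GL chevG2.Idx K)⁻¹ := by
    rw [hgdef, commutatorElement_def, Subgroup.coe_mul, Subgroup.coe_mul, Subgroup.coe_mul,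
      Subgroup.coe_inv, Subgroup.coe_inv]
  have hgU : (g : GL chevG2.Idx K) ∈ chevG2.posUnipotent K := by
    rw [hgval]
    exact Subgroup.mul_mem _ hconjU (Subgroup.inv_mem _ (ru_mem_U f t 0 0))
  have hc : c6 (g : GL chevG2.Idx K) t := by
    have h1 := c6_conj ((reta f (-1) : ↥(chevG2.group K)) : GL chevG2.Idx K)
      (cfun (f (-1)) (-1)) (cfun_ne _ _ ((map_ne_zero f).mpr hm1) hm1)
      (by unfold reta; rw [g2tor_coe]) _ t (c6_ru f t 0 0)
    have h2 := c6_inv _ _ (c6_ru f t 0 0)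
    have h4 := c6_mul _ _ _ _ h1 h2
    rw [chi6_neg_one] at h4
    have e3 : (-1 : K) * t + -t = t := by linear_combination (-t) * (three_eq_zero (K := K))
    rw [e3, ← hgval] at h4
    exact h4
  obtain ⟨u', v', hg'⟩ := fixed_U_c6 f hff g hgU hgfix t hc
  have hkU : ((g⁻¹ * ru f t u v : ↥(chevG2.group K)) : GL chevG2.Idx K) ∈
      chevG2.posUnipotent K := by
    rw [Subgroup.coe_mul, Subgroup.coe_inv]
    exact Subgroup.mul_mem _ (Subgroup.inv_mem _ hgU) (ru_mem_U f t u v)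
  have hkfix : rsig f hff (g⁻¹ * ru f t u v) = g⁻¹ * ru f t u v := by
    rw [map_mul, map_inv, hgfix, rsig_ru]
  have hkc : c6 ((g⁻¹ * ru f t u v : ↥(chevG2.group K)) : GL chevG2.Idx K) 0 := by
    have h1 := c6_mul _ _ _ _ (c6_inv _ _ hc) (c6_ru f t u v)
    rw [neg_add_cancel] at h1
    rw [Subgroup.coe_mul, Subgroup.coe_inv]
    exact h1
  obtain ⟨u₃, v₃, hk'⟩ := fixed_U_c6 f hff _ hkU hkfix 0 hkc
  have e4 : ru f t u v = g * ru f 0 u₃ v₃ := by
    rw [← hk']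
    group
  rw [e4]
  exact Subgroup.mul_mem _ hg (ru_0uv_mem f hff e hfe he j N hq hN hk h3 u₃ v₃)

theorem g2x_mem_V (r : ℕ) (hr : chevG2.IsNegRoot r) (c : K) :
    ((g2x r c : ↥(chevG2.group K)) : GL chevG2.Idx K) ∈ chevG2.negUnipotent K := by
  unfold ChevalleyDatum.negUnipotent
  exact Subgroup.subset_closure ⟨r, c, hr, rfl⟩

theorem rv_mem_V (t u v : K) :
    ((rv f t u v : ↥(chevG2.group K)) : GL chevG2.Idx K) ∈ chevG2.negUnipotent K := by
  unfold rv Q4
  simp only [Subgroup.coe_mul]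
  exact Subgroup.mul_mem _ (Subgroup.mul_mem _ (g2x_mem_V 4 (by decide) _)
    (g2x_mem_V 5 (by decide) _))
    (Subgroup.mul_mem _ (Subgroup.mul_mem _ (Subgroup.mul_mem _ (g2x_mem_V 3 (by decide) _)
      (g2x_mem_V 2 (by decide) _)) (g2x_mem_V 1 (by decide) _)) (g2x_mem_V 0 (by decide) _))

include hff hfe he hq hN hk in
theorem rv_mem_comm (h3 : 3 < Fintype.card K) (t u v : K) :
    rv f t u v ∈ ⁅reeR f, reeR f⁆ := by
  have hV := rv_mem_V f t u v
  rw [← conj_U_eq_V chevG2 g2_mem w0_G2 w0_G2_ok] at hV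
  obtain ⟨u₀, hu₀, hu₀e⟩ := hV
  rw [MulEquiv.coe_toMonoidHom, MulAut.conj_apply, ← rn1_coe f] at hu₀e
  have hxU : (((rn1 f)⁻¹ * rv f t u v * rn1 f : ↥(chevG2.group K)) : GL chevG2.Idx K) ∈
      chevG2.posUnipotent K := by
    rw [Subgroup.coe_mul, Subgroup.coe_mul, Subgroup.coe_inv, ← hu₀e]
    have e1 : ((rn1 f : ↥(chevG2.group K)) : GL chevG2.Idx K)⁻¹ *
        (((rn1 f : ↥(chevG2.group K)) : GL chevG2.Idx K) * u₀ *
          ((rn1 f : ↥(chevG2.group K)) : GL chevG2.Idx K)⁻¹) *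
        ((rn1 f : ↥(chevG2.group K)) : GL chevG2.Idx K) = u₀ := by group
    rw [e1]
    exact hu₀
  have hxfix : rsig f hff ((rn1 f)⁻¹ * rv f t u v * rn1 f) = (rn1 f)⁻¹ * rv f t u v * rn1 f := by
    rw [map_mul, map_mul, map_inv, rsig_rn1, rsig_rv]
  obtain ⟨t', u', v', hx⟩ := fixed_U f hff _ hxU hxfix
  have e2 : rv f t u v = rn1 f * ru f t' u' v' * (rn1 f)⁻¹ := by
    rw [← hx]
    group
  rw [e2]
  exact conj_mem_comm _ _ _ (rn1_mem_R f) (ru_mem_comm f hff e hfe he j N hq hN hk h3 t' u' v')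

include hff hfe he hq hN hk in
/-- **the Ree groups `²G₂(q)`, `q > 3`, are perfect** -/
theorem ree_perfect (h3 : 3 < Fintype.card K) : commutator ↥(twistedG2 K e) = ⊤ := by
  apply perfect_of_le
  have hR : reeR f ≤ ⁅reeR f, reeR f⁆ := by
    unfold reeR
    rw [Subgroup.closure_le]
    rintro g ⟨t, u, v, rfl | rfl⟩
    · exact ru_mem_comm f hff e hfe he j N hq hN hk h3 t u v
    · exact rv_mem_comm f hff e hfe he j N hq hN hk h3 t u v
  rw [tw_eq_map f e hfe, ← Subgroup.map_commutator]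
  exact Subgroup.map_mono hR

end

end Cfsg.Agent.helper5.Chev
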