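import Mathlib
import Cfsg.Agent.Lib_helper5_ReeR
import Cfsg.Agent.Lib_helper5_TwSimple
import Cfsg.Agent.S1050

set_option autoImplicit false
set_option linter.unusedSectionVars false
set_option linter.unusedVariables false

/-! The Ree groups `²G₂(q)`, `q > 3`, are simple (helper5). -/

namespace Cfsg.Agent.helper5.Chev

open Cfsg.Lie

section
variable {K : Type*} [Field K] [Fintype K] [CharP K 3] (f : K →+* K)
  (hff : ∀ t : K, f (f t) ^ 3 = t) (e : ℕ) (hfe : ∀ t : K, f t = t ^ e) (he : Odd e)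
  (j N : ℕ) (hq : Fintype.card K = 2 * N + 1) (hN : (3 * e + 1) * j = 3 * N + 1)
  (hk : Even (N + 1))

include hff hfe he hq hN hk in
/-- **the Ree groups `²G₂(q)`, `q > 3`, are simple** -/
theorem ree_simple (h3 : 3 < Fintype.card K) :
    IsSimpleGroup ↥(twistedG2 K e) ∧ ¬ IsMulCommutative ↥(twistedG2 K e) := by
  obtain ⟨Q, hQB, -, hQS⟩ := ree_bnpair f hff e hfe he j N hq hN hk
  have hirr : Q.Irreducible := by
    intro J hJ hJne hSJ
    obtain ⟨a, ha⟩ := hJne
    obtain ⟨b, hb⟩ := hSJ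
    exfalso
    have haS := hJ ha
    have hbS := hb.1
    rw [hQS] at haS hbS
    have haS' : (a : GL chevG2.Idx K) = nW chevG2 g2_mem w0_G2 := haS
    have hbS' : (b : GL chevG2.Idx K) = nW chevG2 g2_mem w0_G2 := hbS
    have hab : a = b := Subtype.ext (by rw [haS', hbS'])
    exact hb.2 (hab ▸ ha)
  refine tw_simple_of chevG2 _ Q hQB hirr (ree_perfect f hff e hfe he j N hq hN hk h3)
    (Cfsg.Agent.S1050.result chevG2 g2_mem) (ree_core f e hfe) ?_
  refine ⟨((ru f 1 0 0 : ↥(chevG2.group K)) : GL chevG2.Idx K), ru_mem_tw f e hfe 1 0 0, ?_⟩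
  intro h
  have h5 : ru f 1 0 0 = ru f 0 0 0 := by
    rw [ru000]
    exact Subtype.ext h
  exact one_ne_zero (ru_inj f _ _ _ _ _ _ h5).1

end

theorem ree_three_lt {m : ℕ} (hm : 1 ≤ m) : 3 < 3 ^ (2 * m + 1) := by
  calc 3 < 3 ^ 3 := by norm_num
    _ ≤ 3 ^ (2 * m + 1) := Nat.pow_le_pow_right (by norm_num) (by omega)

end Cfsg.Agent.helper5.Chev
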