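import Mathlib
import Cfsg.Agent.Lib_helper5_ReeR

set_option autoImplicit false
set_option linter.unusedSectionVars false
set_option linter.unusedVariables false

/-! The elements of odd order of `H¹` in the Ree groups (helper5). -/

namespace Cfsg.Agent.helper5.Chev

open Cfsg.Lie

/-- the elements of odd order of a cyclic group of order `2N`, `N` odd -/
theorem card_odd_order_cyclic {G : Type*} [CommGroup G] [Fintype G] [IsCyclic G] (N : ℕ)
    (hN : Odd N) (hcard : Nat.card G = 2 * N) :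
    Nat.card {x : G // Odd (orderOf x)} = N := by
  classical
  have hiff : ∀ x : G, Odd (orderOf x) ↔ x ^ N = 1 := by
    intro x
    constructor
    · intro hodd
      have h1 : orderOf x ∣ 2 * N := hcard ▸ orderOf_dvd_natCard x
      have h2 : Nat.Coprime (orderOf x) 2 := Nat.Coprime.symm (Nat.coprime_two_left.mpr hodd)
      exact orderOf_dvd_iff_pow_eq_one.mp (h2.dvd_of_dvd_mul_left h1)
    · intro hx
      exact Odd.of_dvd_nat hN (orderOf_dvd_of_pow_eq_one hx)
  have hker : Nat.card {x : G // Odd (orderOf x)} = Nat.card ↥(powMonoidHom N : G →* G).ker := by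
    apply Nat.card_congr
    apply Equiv.subtypeEquivRight
    intro x
    rw [MonoidHom.mem_ker, powMonoidHom_apply]
    exact hiff x
  rw [hker]
  have h1 := Subgroup.card_mul_index (powMonoidHom N : G →* G).ker
  rw [Subgroup.index_ker, hcard] at h1
  have hr : Nat.card ↥(powMonoidHom N : G →* G).range ≤ 2 := by
    rw [Nat.card_eq_fintype_card, Fintype.card_subtype]
    refine le_trans (Finset.card_le_card ?_) (IsCyclic.card_pow_eq_one_le (α := G) (n := 2)
      (by norm_num))
    intro y hy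
    rw [Finset.mem_filter] at hy ⊢
    refine ⟨Finset.mem_univ _, ?_⟩
    obtain ⟨x, rfl⟩ := hy.2
    rw [powMonoidHom_apply, ← pow_mul, mul_comm, ← hcard]
    exact pow_card_eq_one'
  have hk : Nat.card ↥(powMonoidHom N : G →* G).ker ≤ N := by
    rw [Nat.card_eq_fintype_card, Fintype.card_subtype]
    refine le_trans (Finset.card_le_card ?_) (IsCyclic.card_pow_eq_one_le (α := G) (n := N)
      hN.pos)
    intro y hy
    rw [Finset.mem_filter] at hy ⊢
    refine ⟨Finset.mem_univ _, ?_⟩
    have := hy.2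
    rwa [MonoidHom.mem_ker, powMonoidHom_apply] at this
  nlinarith

section
variable {K : Type*} [Field K] [Fintype K] [CharP K 3] (f : K →+* K)
  (hff : ∀ t : K, f (f t) ^ 3 = t) (e : ℕ) (hfe : ∀ t : K, f t = t ^ e) (he : Odd e)
  (j N : ℕ) (hq : Fintype.card K = 2 * N + 1) (hN : (3 * e + 1) * j = 3 * N + 1)
  (hk : Even (N + 1))

include hff hfe he hq hN hk in
/-- the number of elements of odd order of `H¹` -/
theorem ree_H_odd : Nat.card {h : ↥(chevG2.diagonalSubgroup K ⊓ twistedG2 K e) //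
    Odd (orderOf h)} = N := by
  classical
  have h : ∀ μ : K, μ ≠ 0 → ((reta f μ : ↥(chevG2.group K)) : GL chevG2.Idx K) ∈
      chevG2.diagonalSubgroup K ⊓ twistedG2 K e := fun μ hμ =>
    (ree_H_iff f hff e hfe he j N hq hN hk _).mpr ⟨μ, hμ, rfl⟩
  have hbij := retaHom_bij f hff e hfe he j N hq hN hk h
  let E : Kˣ ≃* ↥(chevG2.diagonalSubgroup K ⊓ twistedG2 K e) :=
    MulEquiv.ofBijective (retaHom f e h) hbij
  have hNodd : Odd N := by
    rcases hk with ⟨r, hr⟩
    exact ⟨r - 1, by omega⟩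
  have hc : Nat.card Kˣ = 2 * N := by
    rw [Nat.card_units, Nat.card_eq_fintype_card, hq]
    omega
  rw [← card_odd_order_cyclic (G := Kˣ) N hNodd hc]
  apply Nat.card_congr
  refine (Equiv.subtypeEquiv E.toEquiv ?_).symm
  intro μ
  show Odd (orderOf μ) ↔ Odd (orderOf (E μ))
  rw [MulEquiv.orderOf_eq]

include hff in
theorem chi6_eq_one (μ : K) (hμ : μ ≠ 0) (h : (f μ ^ 3)⁻¹ * μ ^ 2 = 1) : μ = 1 := by
  have hfμ : f μ ≠ 0 := (map_ne_zero f).mpr hμ
  have h1 : μ ^ 2 = f μ ^ 3 := by
    have := inv_mul_eq_one₀ (pow_ne_zero 3 hfμ) |>.mp h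
    exact this.symm
  have h2 : f μ ^ 2 = μ := by
    have := congrArg f h1
    rw [map_pow, map_pow, hff] at this
    exact this
  have h3 : μ ^ 4 = μ ^ 3 := by
    calc μ ^ 4 = (μ ^ 2) ^ 2 := by ring
      _ = (f μ ^ 3) ^ 2 := by rw [h1]
      _ = (f μ ^ 2) ^ 3 := by ring
      _ = μ ^ 3 := by rw [h2]
  have h4 : μ ^ 3 * (μ - 1) = 0 := by linear_combination h3
  rcases mul_eq_zero.mp h4 with h5 | h5
  · exact absurd (pow_eq_zero_iff (by norm_num) |>.mp h5) hμ
  · exact sub_eq_zero.mp h5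

include hff in
theorem chi10_eq_one (μ : K) (hμ : μ ≠ 0) (h : f μ ^ 3 * μ⁻¹ = 1) : μ ^ 2 = 1 := by
  have h1 : f μ ^ 3 = μ := (mul_inv_eq_one₀ hμ).mp h
  have h2 : f μ = μ := by
    have := congrArg f h1
    rw [map_pow, hff] at this
    exact this.symm
  rw [h2] at h1
  have h4 : μ * (μ ^ 2 - 1) = 0 := by linear_combination h1
  rcases mul_eq_zero.mp h4 with h5 | h5
  · exact absurd h5 hμ
  · exact sub_eq_zero.mp h5

theorem chi6_val (μ : K) : torusChar chevG2 (cfun (f μ) μ) 6 = (f μ ^ 3)⁻¹ * μ ^ 2 := by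
  rw [g2_char _ 6 (-3) 2 (by decide) (by decide)]
  simp only [cfun, one_ne_zero, ↓reduceIte]
  rw [zpow_neg]
  norm_cast

include hff hfe he hq hN hk in
/-- a nontrivial element of odd order of `H¹` centralises no nontrivial element of `U¹` -/
theorem ree_cent_odd (h : GL chevG2.Idx K) (hh : h ∈ chevG2.diagonalSubgroup K ⊓ twistedG2 K e)
    (h1 : h ≠ 1) (hodd : Odd (orderOf h)) :
    (chevG2.posUnipotent K ⊓ twistedG2 K e) ⊓ Subgroup.centralizer {h} = ⊥ := by
  obtain ⟨μ, hμ, rfl⟩ := (ree_H_iff f hff e hfe he j N hq hN hk h).mp hh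
  have hμ2 : μ ^ 2 ≠ 1 := by
    intro hcon
    have e1 : reta f μ * reta f μ = 1 := by
      rw [reta_mul f μ μ hμ hμ, ← pow_two, hcon]
      unfold reta g2tor
      rw [map_one]
      apply Subtype.ext
      rw [Subgroup.coe_mul, g2h_coe, g2h_coe]
      have := g2tor_coe (K := K) 1 1
      unfold g2tor at this
      rw [Subgroup.coe_mul, g2h_coe, g2h_coe] at this
      rw [this, Subgroup.coe_one]
      have hone : torP chevG2 g2_mem (cfun (1 : K) 1) = 1 := by
        apply Units.ext
        rw [torP_val chevG2 g2_mem _ (fun i _ => cfun_ne (1 : K) 1 one_ne_zero one_ne_zero i)]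
        unfold torusMat torusChar
        ext a b
        rw [Units.val_one, Matrix.diagonal_apply, Matrix.one_apply]
        by_cases hab : a = b
        · rw [if_pos hab, if_pos hab]
          rcases a with a | a
          · rfl
          · simp only [Sum.elim_inr]
            apply List.prod_eq_one
            intro x hx
            obtain ⟨i, _, rfl⟩ := List.mem_map.mp hx
            unfold cfun
            split_ifs <;> exact one_zpow _
        · rw [if_neg hab, if_neg hab]
      exact hone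
    have e2 : (((reta f μ : ↥(chevG2.group K)) : GL chevG2.Idx K)) ^ 2 = 1 := by
      rw [pow_two, ← Subgroup.coe_mul, e1, Subgroup.coe_one]
    have h3 : orderOf ((reta f μ : ↥(chevG2.group K)) : GL chevG2.Idx K) ∣ 2 :=
      orderOf_dvd_of_pow_eq_one e2
    have h4 : orderOf ((reta f μ : ↥(chevG2.group K)) : GL chevG2.Idx K) = 1 := by
      rcases (Nat.dvd_prime Nat.prime_two).mp h3 with h5 | h5
      · exact h5
      · rw [h5] at hodd
        exact absurd hodd (by decide)
    exact h1 (orderOf_eq_one_iff.mp h4)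
  have hμ1 : μ ≠ 1 := by
    intro hcon
    rw [hcon, one_pow] at hμ2
    exact hμ2 rfl
  rw [eq_bot_iff]
  rintro g ⟨hgU, hgC⟩
  rw [Subgroup.mem_bot]
  obtain ⟨t, u, v, hg⟩ := (ree_U_iff f hff e hfe g).mp (show g ∈ chevG2.posUnipotent K ⊓ twistedG2 K e from hgU)
  have hg' : g = ((ru f t u v : ↥(chevG2.group K)) : GL chevG2.Idx K) := by
    apply Units.ext
    rw [hg, ← ru_val f e hfe]
  have hgC' : g ∈ Subgroup.centralizer {((reta f μ : ↥(chevG2.group K)) : GL chevG2.Idx K)} := hgC
  rw [Subgroup.mem_centralizer_singleton_iff] at hgC'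
  have hgU' : g ∈ chevG2.posUnipotent K ⊓ twistedG2 K e := hgU
  have hconj : reta f μ * ru f t u v * (reta f μ)⁻¹ = ru f t u v := by
    apply Subtype.ext
    rw [Subgroup.coe_mul, Subgroup.coe_mul, Subgroup.coe_inv, ← hg', ← hgC']
    group
  -- the `b`-coordinate
  have hc1 := c6_conj ((reta f μ : ↥(chevG2.group K)) : GL chevG2.Idx K)
    (cfun (f μ) μ) (cfun_ne _ _ ((map_ne_zero f).mpr hμ) hμ)
    (by unfold reta; rw [g2tor_coe]) _ t (c6_ru f t u v)
  have hc2 : c6 ((ru f t u v : ↥(chevG2.group K)) : GL chevG2.Idx K)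
      (torusChar chevG2 (cfun (f μ) μ) 6 * t) := by
    have h5 := congrArg (fun x : ↥(chevG2.group K) => (x : GL chevG2.Idx K)) hconj
    simp only [Subgroup.coe_mul, Subgroup.coe_inv] at h5
    rw [← h5]
    exact hc1
  have ht := c6_unique _ _ _ hc2 (c6_ru f t u v)
  rw [chi6_val] at ht
  have ht0 : t = 0 := by
    by_contra htne
    have h6 : (f μ ^ 3)⁻¹ * μ ^ 2 = 1 := by
      have h7 : ((f μ ^ 3)⁻¹ * μ ^ 2 - 1) * t = 0 := by linear_combination ht
      rcases mul_eq_zero.mp h7 with h8 | h8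
      · exact sub_eq_zero.mp h8
      · exact absurd h8 htne
    exact hμ1 (chi6_eq_one f hff μ hμ h6)
  subst ht0
  rw [reta_conj_ru0 f hff μ hμ] at hconj
  obtain ⟨-, hu, hv⟩ := ru_inj f _ _ _ _ _ _ hconj
  have hv0 : v = 0 := by
    have h7 : (μ - 1) * v = 0 := by linear_combination hv
    rcases mul_eq_zero.mp h7 with h8 | h8
    · exact absurd (sub_eq_zero.mp h8) hμ1
    · exact h8
  have hu0 : u = 0 := by
    by_contra hune
    have h6 : f μ ^ 3 * μ⁻¹ = 1 := by
      have h7 : (f μ ^ 3 * μ⁻¹ - 1) * u = 0 := by linear_combination hu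
      rcases mul_eq_zero.mp h7 with h8 | h8
      · exact sub_eq_zero.mp h8
      · exact absurd h8 hune
    exact hμ2 (chi10_eq_one f hff μ hμ h6)
  rw [hg', hu0, hv0, ru000, Subgroup.coe_one]

end

end Cfsg.Agent.helper5.Chev
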