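import Mathlib
import Cfsg.Agent.Lib_helper5_ReeR

set_option autoImplicit false
set_option linter.unusedSectionVars false
set_option linter.unusedVariables false

/-! The Sylow `3`-subgroups of the Ree groups intersect trivially (helper5). -/

namespace Cfsg.Agent.helper5.Chev

open Cfsg.Lie

section
variable {K : Type*} [Field K] [Fintype K] [CharP K 3] (f : K →+* K)
  (hff : ∀ t : K, f (f t) ^ 3 = t) (e : ℕ) (hfe : ∀ t : K, f t = t ^ e) (he : Odd e)
  (j N : ℕ) (hq : Fintype.card K = 2 * N + 1) (hN : (3 * e + 1) * j = 3 * N + 1)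
  (hk : Even (N + 1))

theorem B_le_normalizer_U :
    chevG2.borelSubgroup K ≤ Subgroup.normalizer (chevG2.posUnipotent K : Set (GL chevG2.Idx K)) := by
  have hHU := (Cfsg.Agent.S1036.result (F := K) chevG2 g2_mem).1
  unfold ChevalleyDatum.borelSubgroup
  exact sup_le Subgroup.le_normalizer hHU

include hff hfe he hq hN hk in
/-- a conjugate of `U¹` different from `U¹` meets `U¹` trivially -/
theorem ree_TI_aux (g z s : GL chevG2.Idx K) (hg : g ∈ twistedG2 K e)
    (hz : z ∈ chevG2.posUnipotent K) (hs : s ∈ chevG2.posUnipotent K) (hzs : z = g * s * g⁻¹)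
    (hgB : g ∉ chevG2.borelSubgroup K) : z = 1 := by
  rcases tw_decomp f hff e hfe he j N hq hN hk g hg with hB | ⟨b, hb, u, hu, e1⟩
  · exact absurd hB hgB
  · obtain ⟨n₁, hn₁⟩ : ∃ n₁, n₁ = nW (F := K) chevG2 g2_mem w0_G2 := ⟨_, rfl⟩
    rw [← hn₁] at e1
    have hs' : u * s * u⁻¹ ∈ chevG2.posUnipotent K :=
      Subgroup.mul_mem _ (Subgroup.mul_mem _ hu.1 hs) (Subgroup.inv_mem _ hu.1)
    have hV : n₁ * (u * s * u⁻¹) * n₁⁻¹ ∈ chevG2.negUnipotent K := by
      rw [← conj_U_eq_V chevG2 g2_mem w0_G2 w0_G2_ok, ← hn₁]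
      exact ⟨_, hs', rfl⟩
    have e2 : n₁ * (u * s * u⁻¹) * n₁⁻¹ = b⁻¹ * z * b⁻¹⁻¹ := by
      rw [hzs, e1]
      group
    have hU : b⁻¹ * z * b⁻¹⁻¹ ∈ chevG2.posUnipotent K :=
      (Subgroup.mem_normalizer_iff.mp (B_le_normalizer_U (Subgroup.inv_mem _ hb.1)) _).mp hz
    have h3 : n₁ * (u * s * u⁻¹) * n₁⁻¹ ∈ chevG2.borelSubgroup K ⊓ chevG2.negUnipotent K :=
      ⟨by rw [e2]; exact U_le_B chevG2 g2_mem hU, hV⟩
    rw [B_inf_V chevG2 g2_mem, Subgroup.mem_bot] at h3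
    rw [e2] at h3
    have := congrArg (fun x => b * x * b⁻¹) h3
    simpa [mul_assoc] using this

include hff hfe he hq hN hk in
/-- **the Sylow `3`-subgroups of the Ree group intersect trivially** -/
theorem ree_TI (P Q : Sylow 3 ↥(twistedG2 K e)) (hPQ : P ≠ Q) :
    (P : Subgroup ↥(twistedG2 K e)) ⊓ (Q : Subgroup ↥(twistedG2 K e)) = ⊥ := by
  obtain ⟨U1, hU1⟩ : ∃ U1 : Subgroup ↥(twistedG2 K e),
    U1 = (chevG2.posUnipotent K ⊓ twistedG2 K e).subgroupOf (twistedG2 K e) := ⟨_, rfl⟩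
  have hcardK : Nat.card K = 2 * N + 1 := by rw [Nat.card_eq_fintype_card, hq]
  have hcardU : Nat.card ↥U1 = Nat.card K ^ 3 := by
    rw [hU1, Nat.card_congr (Subgroup.subgroupOfEquivOfLe inf_le_right).toEquiv]
    exact ree_U_card f hff e hfe
  -- the cardinality of `K` is a power of `3`
  obtain ⟨a, ha⟩ : ∃ a : ℕ, Nat.card K = 3 ^ a := by
    obtain ⟨⟨n, hn0⟩, hp, hn⟩ := FiniteField.card K 3
    exact ⟨n, by rw [Nat.card_eq_fintype_card, hn]; rfl⟩
  have ha0 : a ≠ 0 := by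
    intro h0
    rw [h0, pow_zero] at ha
    have := Fintype.one_lt_card (α := K)
    rw [Nat.card_eq_fintype_card] at ha
    omega
  have hpg : IsPGroup 3 ↥U1 := IsPGroup.of_card (n := a * 3) (by rw [hcardU, ha, pow_mul])
  obtain ⟨S, hS⟩ := hpg.exists_le_sylow
  -- `U¹` is a Sylow subgroup
  have hSU : U1 = (S : Subgroup ↥(twistedG2 K e)) := by
    apply Subgroup.eq_of_le_of_card_ge hS
    obtain ⟨n, hn⟩ := (IsPGroup.iff_card (p := 3)).mp S.isPGroup'
    have hdvd := Subgroup.card_subgroup_dvd_card (S : Subgroup ↥(twistedG2 K e))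
    rw [ree_card f hff e hfe he j N hq hN hk, hn, mul_assoc] at hdvd
    obtain ⟨k, hk3⟩ : ∃ k, Nat.card K = 3 * k := ⟨3 ^ (a - 1), by
      rw [ha]
      conv_lhs => rw [show a = (a - 1) + 1 by omega, pow_succ]
      ring⟩
    have hcop : Nat.Coprime (3 ^ n) ((Nat.card K - 1) * (Nat.card K ^ 3 + 1)) := by
      apply Nat.Coprime.pow_left
      rw [Nat.Prime.coprime_iff_not_dvd Nat.prime_three]
      intro hd
      rcases (Nat.Prime.dvd_mul Nat.prime_three).mp hd with h | h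
      · obtain ⟨c, hc⟩ := h
        omega
      · have e3 : Nat.card K ^ 3 = 3 * (9 * k ^ 3) := by rw [hk3]; ring
        obtain ⟨c, hc⟩ := h
        omega
    have h4 := hcop.dvd_of_dvd_mul_right hdvd
    rw [hn, hcardU]
    exact Nat.le_of_dvd (pow_pos (by rw [hcardK]; omega) 3) h4
  -- the main claim
  have hmemU1 : ∀ x : ↥(twistedG2 K e), x ∈ (S : Subgroup ↥(twistedG2 K e)) ↔
      (x : GL chevG2.Idx K) ∈ chevG2.posUnipotent K := by
    intro x
    rw [← hSU, hU1, Subgroup.mem_subgroupOf]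
    exact ⟨fun h => h.1, fun h => ⟨h, x.2⟩⟩
  have hclaim : ∀ g : ↥(twistedG2 K e), g • S ≠ S →
      ∀ z, z ∈ ((g • S : Sylow 3 ↥(twistedG2 K e)) : Subgroup ↥(twistedG2 K e)) →
        z ∈ (S : Subgroup ↥(twistedG2 K e)) → z = 1 := by
    intro g hgS z hz1 hz2
    rw [Sylow.smul_def, Sylow.pointwise_smul_def, Subgroup.mem_smul_pointwise_iff_exists] at hz1
    obtain ⟨s, hs, hsz⟩ := hz1
    rw [MulAut.smul_def, MulAut.conj_apply] at hsz
    have hgB : (g : GL chevG2.Idx K) ∉ chevG2.borelSubgroup K := by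
      intro hB
      apply hgS
      rw [Sylow.smul_eq_iff_mem_normalizer]
      show g ∈ Subgroup.normalizer (((S : Subgroup ↥(twistedG2 K e))) : Set ↥(twistedG2 K e))
      rw [Subgroup.mem_normalizer_iff]
      intro x
      rw [hmemU1, hmemU1]
      have := (Subgroup.mem_normalizer_iff.mp (B_le_normalizer_U hB)) (x : GL chevG2.Idx K)
      rw [this]
      rfl
    apply Subtype.ext
    rw [Subgroup.coe_one]
    refine ree_TI_aux f hff e hfe he j N hq hN hk (g : GL chevG2.Idx K) _ (s : GL chevG2.Idx K)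
      g.2 ((hmemU1 z).mp hz2) ((hmemU1 s).mp hs) ?_ hgB
    rw [← hsz]
    rfl
  -- the general case
  obtain ⟨x, hx⟩ := MulAction.exists_smul_eq ↥(twistedG2 K e) S P
  obtain ⟨y, hy⟩ := MulAction.exists_smul_eq ↥(twistedG2 K e) S Q
  rw [eq_bot_iff]
  intro z hz
  rw [Subgroup.mem_bot]
  have hzP : z ∈ (P : Subgroup ↥(twistedG2 K e)) := hz.1
  have hzQ : z ∈ (Q : Subgroup ↥(twistedG2 K e)) := hz.2
  rw [← hx, Sylow.smul_def, Sylow.pointwise_smul_def,
    Subgroup.mem_smul_pointwise_iff_exists] at hzP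
  rw [← hy, Sylow.smul_def, Sylow.pointwise_smul_def,
    Subgroup.mem_smul_pointwise_iff_exists] at hzQ
  obtain ⟨s, hs, hsz⟩ := hzP
  obtain ⟨s', hs', hsz'⟩ := hzQ
  rw [MulAut.smul_def, MulAut.conj_apply] at hsz hsz'
  have hne : (x⁻¹ * y) • S ≠ S := by
    intro h
    apply hPQ
    have h' := congrArg (fun T : Sylow 3 ↥(twistedG2 K e) => x • T) h
    simp only [mul_smul, smul_inv_smul] at h'
    rw [← hx, ← hy, h']
  have hs1 : s = 1 := by
    apply hclaim (x⁻¹ * y) hne s ?_ hs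
    rw [Sylow.smul_def, Sylow.pointwise_smul_def, Subgroup.mem_smul_pointwise_iff_exists]
    refine ⟨s', hs', ?_⟩
    rw [MulAut.smul_def, MulAut.conj_apply]
    have e5 : s = x⁻¹ * z * x := by rw [← hsz]; group
    rw [e5, ← hsz']
    group
  rw [← hsz, hs1]
  group

end

end Cfsg.Agent.helper5.Chev
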