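import Mathlib
import Cfsg.Agent.Lib_helper5_ReeQ

set_option autoImplicit false
set_option linter.unusedSectionVars false
set_option linter.unusedVariables false

/-! The multiplication in `U¹` of the Ree groups `²G₂(q)` and the elements of order `3` (helper5). -/

namespace Cfsg.Agent.helper5.Chev

open Cfsg.Lie

set_option maxRecDepth 100000 in
theorem g2_cong87 : wordCong chevG2 3 [(8, pX), (7, pY)]
    [(7, pY), (8, pX), (9, pM 1 1 (-1))] = true := by decide +kernel

set_option maxRecDepth 100000 in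
theorem g2_cong106 : wordCong chevG2 3 [(10, pX), (6, pY)]
    [(6, pY), (10, pX), (11, pM 1 1 (-1))] = true := by decide +kernel

set_option maxRecDepth 100000 in
theorem g2_cong107 : wordCong chevG2 3 [(10, pX), (7, pY)] [(7, pY), (10, pX)] = true := by
  decide +kernel

theorem ru_mul_aux {G : Type*} [Group G] (a7 a6 pA b7 b6 pA' pA1 pA2 pB1 pB2 : G)
    (s1 : pA * b7 = b7 * pA1) (s2 : pA1 * b6 = b6 * pA2) (s3 : a6 * b7 = b7 * a6 * pB1)
    (s4 : pB1 * b6 = b6 * pB2) :
    a7 * a6 * pA * (b7 * b6 * pA') = (a7 * b7) * (a6 * b6) * (pB2 * pA2 * pA') := by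
  calc a7 * a6 * pA * (b7 * b6 * pA') = a7 * a6 * (pA * b7) * b6 * pA' := by group
    _ = a7 * a6 * (b7 * pA1) * b6 * pA' := by rw [s1]
    _ = a7 * (a6 * b7) * (pA1 * b6) * pA' := by group
    _ = a7 * (b7 * a6 * pB1) * (b6 * pA2) * pA' := by rw [s2, s3]
    _ = a7 * b7 * a6 * (pB1 * b6) * pA2 * pA' := by group
    _ = a7 * b7 * a6 * (b6 * pB2) * pA2 * pA' := by rw [s4]
    _ = _ := by group

theorem mul4_move1 {G : Type*} [Group G] (p q r s x k : G) (h1 : s * x = x * s)
    (h2 : r * x = x * r) (h3 : q * x = x * q) (h4 : p * x = x * p * k) :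
    p * q * r * s * x = x * (p * (k * q) * r * s) := by
  calc p * q * r * s * x = p * q * r * (s * x) := by group
    _ = p * q * (r * x) * s := by rw [h1]; group
    _ = p * (q * x) * r * s := by rw [h2]; group
    _ = (p * x) * q * r * s := by rw [h3]; group
    _ = _ := by rw [h4]; group

theorem mul4_move3 {G : Type*} [Group G] (p q r s x k : G) (h1 : s * x = x * s)
    (h2 : r * x = x * r * k) (h3 : q * x = x * q) (h4 : p * x = x * p) :
    p * q * r * s * x = x * (p * q * r * (k * s)) := by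
  calc p * q * r * s * x = p * q * r * (s * x) := by group
    _ = p * q * (r * x) * s := by rw [h1]; group
    _ = p * (q * x) * r * k * s := by rw [h2]; group
    _ = (p * x) * q * r * k * s := by rw [h3]; group
    _ = _ := by rw [h4]; group

section
variable {K : Type*} [Field K] [CharP K 3]

theorem ree_three : (3 : K) = 0 := by
  exact_mod_cast CharP.cast_eq_zero K 3

theorem g2_rel_87 (A B : K) : g2x 8 A * g2x 7 B = g2x 7 B * g2x 8 A * g2x 9 (-(A * B)) := by
  by_cases hA : A = 0
  · subst hA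
    simp [g2x_zero]
  by_cases hB : B = 0
  · subst hB
    simp [g2x_zero]
  have h := g2w_eq_of_cong (K := K) [(8, pX), (7, pY)] [(7, pY), (8, pX), (9, pM 1 1 (-1))]
    g2_cong87 (by decide) (by decide) A B hA hB
  simp only [g2w, List.map_cons, List.map_nil, List.prod_cons, List.prod_nil, mul_one,
    pEval_pX, pEval_pY, pEval_pM] at h
  rw [h]
  simp only [Int.cast_one, Int.cast_neg, one_mul, neg_mul, zpow_ofNat, pow_one, mul_assoc]

theorem g2_rel_106 (A B : K) : g2x 10 A * g2x 6 B = g2x 6 B * g2x 10 A * g2x 11 (-(A * B)) := by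
  by_cases hA : A = 0
  · subst hA
    simp [g2x_zero]
  by_cases hB : B = 0
  · subst hB
    simp [g2x_zero]
  have h := g2w_eq_of_cong (K := K) [(10, pX), (6, pY)] [(6, pY), (10, pX), (11, pM 1 1 (-1))]
    g2_cong106 (by decide) (by decide) A B hA hB
  simp only [g2w, List.map_cons, List.map_nil, List.prod_cons, List.prod_nil, mul_one,
    pEval_pX, pEval_pY, pEval_pM] at h
  rw [h]
  simp only [Int.cast_one, Int.cast_neg, one_mul, neg_mul, zpow_ofNat, pow_one, mul_assoc]

theorem g2_comm_107 (A B : K) : g2x 10 A * g2x 7 B = g2x 7 B * g2x 10 A := by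
  by_cases hA : A = 0
  · subst hA
    simp [g2x_zero]
  by_cases hB : B = 0
  · subst hB
    simp [g2x_zero]
  have h := g2w_eq_of_cong (K := K) [(10, pX), (7, pY)] [(7, pY), (10, pX)]
    g2_cong107 (by decide) (by decide) A B hA hB
  simp only [g2w, List.map_cons, List.map_nil, List.prod_cons, List.prod_nil, mul_one,
    pEval_pX, pEval_pY] at h
  exact h

theorem P4_x7 (a b c d s : K) : P4 a b c d * g2x 7 s = g2x 7 s * P4 a (b - a * s) c d := by
  unfold P4
  rw [mul4_move1 _ _ _ _ _ _ (g2_comm 7 11 (by decide) s d).symm (g2_comm_107 c s)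
    (g2_comm 7 9 (by decide) s b).symm (g2_rel_87 a s), g2x_mul]
  have e : -(a * s) + b = b - a * s := by ring
  rw [e]

theorem P4_x6 (a b c d s : K) : P4 a b c d * g2x 6 s = g2x 6 s * P4 a b c (d - c * s) := by
  unfold P4
  rw [mul4_move3 _ _ _ _ _ _ (g2_comm 6 11 (by decide) s d).symm (g2_rel_106 c s)
    (g2_comm 6 9 (by decide) s b).symm (g2_comm 6 8 (by decide) s a).symm, g2x_mul]
  have e : -(c * s) + d = d - c * s := by ring
  rw [e]

theorem P4_congr {a b c d a' b' c' d' : K} (h1 : a = a') (h2 : b = b') (h3 : c = c')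
    (h4 : d = d') : P4 a b c d = P4 a' b' c' d' := by
  subst h1 h2 h3 h4
  rfl

variable (f : K →+* K) (hff : ∀ t : K, f (f t) ^ 3 = t)

theorem ru_congr {t u v t' u' v' : K} (h1 : t = t') (h2 : u = u') (h3 : v = v') :
    ru f t u v = ru f t' u' v' := by
  subst h1 h2 h3
  rfl

include hff in
/-- **the multiplication in `U¹`** -/
theorem ru_mul (t u v t' u' v' : K) :
    ru f t u v * ru f t' u' v' =
      ru f (t + t') (u + u' - f t' ^ 3 * t)
        (v + v' - u * t' - f t' ^ 3 * t ^ 2 + f t' ^ 3 * t * t') := by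
  have h3 : (3 : K) = 0 := ree_three
  have hf3 : ∀ x y : K, f (f x ^ 3 * y) = x * f y := by
    intro x y
    rw [map_mul, map_pow, hff]
  unfold ru
  rw [ru_mul_aux _ _ _ _ _ _ _ _ _ _ (P4_x7 _ _ _ _ (f t')) (P4_x6 _ _ _ _ t')
    (rel_ba (f t') t) (P4_x6 _ _ _ _ t'), g2x_mul, g2x_mul, P4_mul, P4_mul, ← map_add]
  refine congrArg _ (P4_congr ?_ ?_ ?_ ?_)
  · rw [map_sub, map_add, map_add, hf3]
    ring
  · have e1 : f (v + v' - u * t' - f t' ^ 3 * t ^ 2 + f t' ^ 3 * t * t') =
        f v + f v' - f u * f t' - t' * f t ^ 2 + t' * (f t * f t') := by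
      rw [map_add, map_sub, map_sub, map_add, mul_assoc, hf3, hf3, map_mul, map_mul, map_pow]
    rw [e1, map_add]
    linear_combination (-(f t * f t' * (t + t'))) * h3
  · ring
  · ring

include hff in
theorem ru_cube (t u v : K) : ru f t u v ^ 3 = ru f 0 0 (-(f t ^ 3 * t ^ 2)) := by
  have h3 : (3 : K) = 0 := ree_three
  have e : ru f t u v ^ 3 = ru f t u v * ru f t u v * ru f t u v := by
    rw [pow_succ, pow_two]
  rw [e, ru_mul f hff, ru_mul f hff]
  apply ru_congr
  · linear_combination t * h3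
  · linear_combination (u - f t ^ 3 * t) * h3
  · linear_combination (v - u * t) * h3

include hff in
theorem ru_order3 (t u v : K) : orderOf (ru f t u v) = 3 ↔ t = 0 ∧ ¬(u = 0 ∧ v = 0) := by
  constructor
  · intro h
    have h1 : ru f t u v ^ 3 = 1 := by rw [← h]; exact pow_orderOf_eq_one _
    rw [ru_cube f hff, ← ru000' f] at h1
    obtain ⟨-, -, h2⟩ := ru_inj f _ _ _ _ _ _ h1
    have h4 : f t ^ 3 * t ^ 2 = 0 := neg_eq_zero.mp h2
    have ht : t = 0 := by
      rcases mul_eq_zero.mp h4 with h5 | h5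
      · exact (map_eq_zero f).mp (pow_eq_zero_iff (by norm_num) |>.mp h5)
      · exact pow_eq_zero_iff (by norm_num) |>.mp h5
    refine ⟨ht, ?_⟩
    rintro ⟨rfl, rfl⟩
    subst ht
    rw [ru000' f, orderOf_one] at h
    omega
  · rintro ⟨rfl, hne⟩
    have : Fact (Nat.Prime 3) := ⟨Nat.prime_three⟩
    apply orderOf_eq_prime
    · rw [ru_cube f hff]
      have : -(f (0 : K) ^ 3 * (0 : K) ^ 2) = 0 := by simp
      rw [this, ru000' f]
    · intro h
      rw [← ru000' f] at h
      obtain ⟨-, h1, h2⟩ := ru_inj f _ _ _ _ _ _ h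
      exact hne ⟨h1, h2⟩

end

section
variable {K : Type*} [Field K] [CharP K 3] (f : K →+* K) (hff : ∀ t : K, f (f t) ^ 3 = t)
  (e : ℕ) (hfe : ∀ t : K, f t = t ^ e)

include hff hfe in
/-- **the number of elements of order `3` in `U¹`** -/
theorem ree_U_order3_card [Finite K] :
    Nat.card {x : ↥(chevG2.posUnipotent K ⊓ twistedG2 K e) // orderOf x = 3} =
      Nat.card K ^ 2 - 1 := by
  classical
  have hmem : ∀ t u v : K, ((ru f t u v : ↥(chevG2.group K)) : GL chevG2.Idx K) ∈
      chevG2.posUnipotent K ⊓ twistedG2 K e := by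
    intro t u v
    rw [ree_U_iff f hff e hfe]
    exact ⟨t, u, v, ru_val f e hfe _ _ _⟩
  have hord : ∀ t u v : K,
      orderOf (⟨_, hmem t u v⟩ : ↥(chevG2.posUnipotent K ⊓ twistedG2 K e)) =
        orderOf (ru f t u v) := by
    intro t u v
    rw [← Subgroup.orderOf_coe, ← Subgroup.orderOf_coe (ru f t u v)]
  let φ : {p : K × K // p ≠ 0} →
      {x : ↥(chevG2.posUnipotent K ⊓ twistedG2 K e) // orderOf x = 3} := fun p =>
    ⟨⟨_, hmem 0 p.1.1 p.1.2⟩, by
      rw [hord, ru_order3 f hff]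
      refine ⟨rfl, ?_⟩
      rintro ⟨h1, h2⟩
      exact p.2 (Prod.ext h1 h2)⟩
  have hbij : Function.Bijective φ := by
    constructor
    · intro p p' h
      have h1 : ru f 0 p.1.1 p.1.2 = ru f 0 p'.1.1 p'.1.2 := by
        apply Subtype.ext
        have h2 := congrArg (fun x : {x : ↥(chevG2.posUnipotent K ⊓ twistedG2 K e) //
          orderOf x = 3} => ((x : ↥(chevG2.posUnipotent K ⊓ twistedG2 K e)) :
            GL chevG2.Idx K)) h
        exact h2
      obtain ⟨-, b, c⟩ := ru_inj f _ _ _ _ _ _ h1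
      exact Subtype.ext (Prod.ext b c)
    · rintro ⟨⟨g, hg⟩, ho⟩
      obtain ⟨t, u, v, h⟩ := (ree_U_iff f hff e hfe g).mp hg
      have hg' : g = ((ru f t u v : ↥(chevG2.group K)) : GL chevG2.Idx K) := by
        apply Units.ext
        rw [h, ← ru_val f e hfe]
      subst hg'
      rw [hord, ru_order3 f hff] at ho
      obtain ⟨rfl, hne⟩ := ho
      refine ⟨⟨(u, v), ?_⟩, rfl⟩
      intro h0
      have h1 := congrArg Prod.fst h0
      have h2 := congrArg Prod.snd h0
      exact hne ⟨h1, h2⟩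
  rw [← Nat.card_congr (Equiv.ofBijective φ hbij)]
  have h1 : Nat.card (Option {p : K × K // p ≠ 0}) = Nat.card (K × K) :=
    Nat.card_congr (Equiv.optionSubtypeNe (0 : K × K))
  rw [Finite.card_option, Nat.card_prod] at h1
  rw [sq, ← h1]
  omega

end

end Cfsg.Agent.helper5.Chev
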