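import Mathlib
import Cfsg.Agent.Lib_helper5_ReeT
import Cfsg.Agent.Lib_helper5_ChevBV

set_option autoImplicit false
set_option linter.unusedSectionVars false
set_option linter.unusedVariables false

/-! The three-point stabilisers of the Ree groups `²G₂(q)` on the cosets of `B¹` (helper5). -/

namespace Cfsg.Agent.helper5.Chev

open Cfsg.Lie

section
variable {G : Type*} [Group G] (B : Subgroup G)

/-- the joint stabiliser of three cosets -/
def T3 (x y z : G ⧸ B) : Subgroup G :=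
  MulAction.stabilizer G x ⊓ MulAction.stabilizer G y ⊓ MulAction.stabilizer G z

theorem mem_T3 (x y z : G ⧸ B) (k : G) : k ∈ T3 B x y z ↔ k • x = x ∧ k • y = y ∧ k • z = z := by
  unfold T3
  simp only [Subgroup.mem_inf, MulAction.mem_stabilizer_iff, and_assoc]

theorem q_mk_smul (g h : G) : g • ((h : G) : G ⧸ B) = ((g * h : G) : G ⧸ B) := rfl

theorem stab_mk_iff (k g : G) : k • ((g : G) : G ⧸ B) = (g : G ⧸ B) ↔ g⁻¹ * k * g ∈ B := by
  rw [q_mk_smul, QuotientGroup.eq]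
  have e : (k * g)⁻¹ * g = (g⁻¹ * k * g)⁻¹ := by group
  rw [e, inv_mem_iff]

theorem T3_card_le [Finite G] (g : G) (x y z : G ⧸ B) :
    Nat.card ↥(T3 B x y z) ≤ Nat.card ↥(T3 B (g • x) (g • y) (g • z)) := by
  have hmem : ∀ k : ↥(T3 B x y z), g * (k : G) * g⁻¹ ∈ T3 B (g • x) (g • y) (g • z) := by
    intro k
    obtain ⟨h1, h2, h3⟩ := (mem_T3 B x y z k).mp k.2
    rw [mem_T3]
    refine ⟨?_, ?_, ?_⟩
    · rw [← mul_smul, inv_mul_cancel_right, mul_smul, h1]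
    · rw [← mul_smul, inv_mul_cancel_right, mul_smul, h2]
    · rw [← mul_smul, inv_mul_cancel_right, mul_smul, h3]
  apply Nat.card_le_card_of_injective (fun k => (⟨_, hmem k⟩ : ↥(T3 B (g • x) (g • y) (g • z))))
  intro k k' h
  have h1 : g * (k : G) * g⁻¹ = g * (k' : G) * g⁻¹ := congrArg Subtype.val h
  apply Subtype.ext
  exact mul_left_cancel (mul_right_cancel h1)

variable [Finite G] (U : Set G) (ν : G) (hUB : ∀ u ∈ U, u ∈ B)
  (hdec : ∀ g : G, g ∈ B ∨ ∃ u ∈ U, ∃ b ∈ B, g = u * ν * b)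
  (hT : ∀ u ∈ U, u ≠ 1 →
    Nat.card ↥(T3 B ((1 : G) : G ⧸ B) ((ν : G) : G ⧸ B) ((u * ν : G) : G ⧸ B)) ≤ 2)

include hdec in
theorem q_rep (y : G ⧸ B) (hy : ((1 : G) : G ⧸ B) ≠ y) : ∃ u ∈ U, y = ((u * ν : G) : G ⧸ B) := by
  obtain ⟨g, rfl⟩ := QuotientGroup.mk_surjective y
  rcases hdec g with hg | ⟨u, hu, b, hb, rfl⟩
  · exfalso
    apply hy
    rw [QuotientGroup.eq, inv_one, one_mul]
    exact hg
  · refine ⟨u, hu, ?_⟩
    show ((u * ν * b : G) : G ⧸ B) = ((u * ν : G) : G ⧸ B)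
    rw [QuotientGroup.eq]
    have e : (u * ν * b)⁻¹ * (u * ν) = b⁻¹ := by group
    rw [e]
    exact Subgroup.inv_mem _ hb

include hdec hT in
theorem T3_le_aux2 (z : G ⧸ B) (h1 : ((1 : G) : G ⧸ B) ≠ z) (h2 : ((ν : G) : G ⧸ B) ≠ z) :
    Nat.card ↥(T3 B ((1 : G) : G ⧸ B) ((ν : G) : G ⧸ B) z) ≤ 2 := by
  obtain ⟨u, hu, rfl⟩ := q_rep B U ν hdec z h1
  apply hT u hu
  rintro rfl
  apply h2
  rw [one_mul]

include hUB hdec hT in
theorem T3_le_aux1 (y z : G ⧸ B) (h1 : ((1 : G) : G ⧸ B) ≠ y) (h2 : ((1 : G) : G ⧸ B) ≠ z)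
    (h3 : y ≠ z) : Nat.card ↥(T3 B ((1 : G) : G ⧸ B) y z) ≤ 2 := by
  obtain ⟨u, hu, rfl⟩ := q_rep B U ν hdec y h1
  have e1 : u⁻¹ • ((1 : G) : G ⧸ B) = ((1 : G) : G ⧸ B) := by
    rw [q_mk_smul, QuotientGroup.eq]
    have e : (u⁻¹ * 1)⁻¹ * 1 = u := by group
    rw [e]
    exact hUB u hu
  have e2 : u⁻¹ • ((u * ν : G) : G ⧸ B) = ((ν : G) : G ⧸ B) := by
    rw [q_mk_smul, inv_mul_cancel_left]
  have h := T3_card_le B u⁻¹ ((1 : G) : G ⧸ B) ((u * ν : G) : G ⧸ B) z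
  rw [e1, e2] at h
  refine le_trans h (T3_le_aux2 B U ν hdec hT _ ?_ ?_)
  · intro hc
    rw [← e1] at hc
    exact h2 (MulAction.injective _ hc)
  · intro hc
    rw [← e2] at hc
    exact h3 (MulAction.injective _ hc)

include hUB hdec hT in
/-- the reduction to the standard triples -/
theorem T3_le (x y z : G ⧸ B) (h1 : x ≠ y) (h2 : x ≠ z) (h3 : y ≠ z) :
    Nat.card ↥(T3 B x y z) ≤ 2 := by
  obtain ⟨g, rfl⟩ := QuotientGroup.mk_surjective x
  have e1 : g⁻¹ • ((g : G) : G ⧸ B) = ((1 : G) : G ⧸ B) := by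
    rw [q_mk_smul, inv_mul_cancel]
  have h := T3_card_le B g⁻¹ ((g : G) : G ⧸ B) y z
  rw [e1] at h
  refine le_trans h (T3_le_aux1 B U ν hUB hdec hT _ _ ?_ ?_ ?_)
  · intro hc
    rw [← e1] at hc
    exact h1 (MulAction.injective _ hc)
  · intro hc
    rw [← e1] at hc
    exact h2 (MulAction.injective _ hc)
  · intro hc
    exact h3 (MulAction.injective _ hc)

end

section
variable {K : Type*} [Field K] [Fintype K] [CharP K 3]

/-- `B ∩ n B n⁻¹ = H` for the longest element -/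
theorem g2_BnB (k : GL chevG2.Idx K) (hk1 : k ∈ chevG2.borelSubgroup K)
    (hk2 : nW chevG2 g2_mem w0_G2 * k * (nW chevG2 g2_mem w0_G2)⁻¹ ∈ chevG2.borelSubgroup K) :
    k ∈ chevG2.diagonalSubgroup K := by
  have hnN : nW (F := K) chevG2 g2_mem w0_G2 ∈ chevG2.monomialSubgroup K := rn1_mem_N
  obtain ⟨n, hn⟩ : ∃ n, n = nW (F := K) chevG2 g2_mem w0_G2 := ⟨_, rfl⟩
  rw [← hn] at hk2 hnN
  obtain ⟨u, hu, h, hh, rfl⟩ := mem_borel chevG2 g2_mem k hk1
  have hV : n * u * n⁻¹ ∈ chevG2.negUnipotent K := by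
    rw [hn]
    exact conj_UnegOf_mem_V chevG2 _ u (U_le_UnegOf_w0 hu)
  have hH : n * h * n⁻¹ ∈ chevG2.diagonalSubgroup K :=
    (Subgroup.mem_normalizer_iff.mp (N_le_normalizer_H (F := K) chevG2 g2_mem hnN) h).mp hh
  have hB : n * u * n⁻¹ ∈ chevG2.borelSubgroup K := by
    have e : n * u * n⁻¹ = (n * (u * h) * n⁻¹) * (n * h * n⁻¹)⁻¹ := by group
    rw [e]
    exact Subgroup.mul_mem _ hk2 (Subgroup.inv_mem _ (H_le_B chevG2 g2_mem hH))
  have h1 : n * u * n⁻¹ ∈ chevG2.borelSubgroup K ⊓ chevG2.negUnipotent K := ⟨hB, hV⟩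
  rw [B_inf_V chevG2 g2_mem, Subgroup.mem_bot] at h1
  have hu1 : u = 1 := by
    have e : u = n⁻¹ * (n * u * n⁻¹) * n := by group
    rw [e, h1]
    group
  rw [hu1, one_mul]
  exact hh

theorem g2_comm_of_conj (k u : GL chevG2.Idx K) (hk : k ∈ chevG2.diagonalSubgroup K)
    (hu : u ∈ chevG2.posUnipotent K)
    (h : nW chevG2 g2_mem w0_G2 * (u⁻¹ * k * u) * (nW chevG2 g2_mem w0_G2)⁻¹ ∈
      chevG2.borelSubgroup K) : k * u = u * k := by
  have hnN : nW (F := K) chevG2 g2_mem w0_G2 ∈ chevG2.monomialSubgroup K := rn1_mem_N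
  obtain ⟨n, hn⟩ : ∃ n, n = nW (F := K) chevG2 g2_mem w0_G2 := ⟨_, rfl⟩
  rw [← hn] at h hnN
  have hnorm := (Cfsg.Agent.S1036.result (F := K) chevG2 g2_mem).1
  have hc : k⁻¹ * u⁻¹ * k * u ∈ chevG2.posUnipotent K := by
    have h1 := (Subgroup.mem_normalizer_iff.mp (hnorm (Subgroup.inv_mem _ hk)) u⁻¹).mp
      (Subgroup.inv_mem _ hu)
    rw [inv_inv] at h1
    exact Subgroup.mul_mem _ h1 hu
  have hV : n * (k⁻¹ * u⁻¹ * k * u) * n⁻¹ ∈ chevG2.negUnipotent K := by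
    rw [hn]
    exact conj_UnegOf_mem_V chevG2 _ _ (U_le_UnegOf_w0 hc)
  have hH : n * k * n⁻¹ ∈ chevG2.diagonalSubgroup K :=
    (Subgroup.mem_normalizer_iff.mp (N_le_normalizer_H (F := K) chevG2 g2_mem hnN) k).mp hk
  have hB : n * (k⁻¹ * u⁻¹ * k * u) * n⁻¹ ∈ chevG2.borelSubgroup K := by
    have e : n * (k⁻¹ * u⁻¹ * k * u) * n⁻¹ = (n * k * n⁻¹)⁻¹ * (n * (u⁻¹ * k * u) * n⁻¹) := by
      group
    rw [e]
    exact Subgroup.mul_mem _ (Subgroup.inv_mem _ (H_le_B chevG2 g2_mem hH)) h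
  have h1 : n * (k⁻¹ * u⁻¹ * k * u) * n⁻¹ ∈
      chevG2.borelSubgroup K ⊓ chevG2.negUnipotent K := ⟨hB, hV⟩
  rw [B_inf_V chevG2 g2_mem, Subgroup.mem_bot] at h1
  have h2 : k⁻¹ * u⁻¹ * k * u = 1 := by
    have e : k⁻¹ * u⁻¹ * k * u = n⁻¹ * (n * (k⁻¹ * u⁻¹ * k * u) * n⁻¹) * n := by group
    rw [e, h1]
    group
  have e : k * u = u * k * (k⁻¹ * u⁻¹ * k * u) := by group
  rw [e, h2, mul_one]

end

section
variable {K : Type*} [Field K] [Fintype K] [CharP K 3] (f : K →+* K)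
  (hff : ∀ t : K, f (f t) ^ 3 = t) (e : ℕ) (hfe : ∀ t : K, f t = t ^ e) (he : Odd e)
  (j N : ℕ) (hq : Fintype.card K = 2 * N + 1) (hN : (3 * e + 1) * j = 3 * N + 1)
  (hk : Even (N + 1))

include hff in
/-- an element `η(μ)` with `μ² ≠ 1` centralises no nontrivial element of `U¹` -/
theorem ree_cent_core (μ : K) (hμ : μ ≠ 0) (hμ2 : μ ^ 2 ≠ 1) (t u v : K)
    (hconj : reta f μ * ru f t u v * (reta f μ)⁻¹ = ru f t u v) : t = 0 ∧ u = 0 ∧ v = 0 := by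
  have hμ1 : μ ≠ 1 := by
    intro hcon
    rw [hcon, one_pow] at hμ2
    exact hμ2 rfl
  have hc1 := c6_conj ((reta f μ : ↥(chevG2.group K)) : GL chevG2.Idx K)
    (cfun (f μ) μ) (cfun_ne _ _ ((map_ne_zero f).mpr hμ) hμ)
    (by unfold reta; rw [g2tor_coe]) _ t (c6_ru f t u v)
  have hc2 : c6 ((ru f t u v : ↥(chevG2.group K)) : GL chevG2.Idx K)
      (torusChar chevG2 (cfun (f μ) μ) 6 * t) := by
    have h5 := congrArg (fun x : ↥(chevG2.group K) => (x : GL chevG2.Idx K)) hconj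
    simp only [Subgroup.coe_mul, Subgroup.coe_inv] at h5
    rw [← h5]
    exact hc1
  have ht := c6_unique _ _ _ hc2 (c6_ru f t u v)
  rw [chi6_val] at ht
  have ht0 : t = 0 := by
    by_contra htne
    have h6 : (f μ ^ 3)⁻¹ * μ ^ 2 = 1 := by
      have h7 : ((f μ ^ 3)⁻¹ * μ ^ 2 - 1) * t = 0 := by linear_combination ht
      rcases mul_eq_zero.mp h7 with h8 | h8
      · exact sub_eq_zero.mp h8
      · exact absurd h8 htne
    exact hμ1 (chi6_eq_one f hff μ hμ h6)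
  subst ht0
  rw [reta_conj_ru0 f hff μ hμ] at hconj
  obtain ⟨-, hu, hv⟩ := ru_inj f _ _ _ _ _ _ hconj
  have hv0 : v = 0 := by
    have h7 : (μ - 1) * v = 0 := by linear_combination hv
    rcases mul_eq_zero.mp h7 with h8 | h8
    · exact absurd (sub_eq_zero.mp h8) hμ1
    · exact h8
  have hu0 : u = 0 := by
    by_contra hune
    have h6 : f μ ^ 3 * μ⁻¹ = 1 := by
      have h7 : (f μ ^ 3 * μ⁻¹ - 1) * u = 0 := by linear_combination hu
      rcases mul_eq_zero.mp h7 with h8 | h8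
      · exact sub_eq_zero.mp h8
      · exact absurd h8 hune
    exact hμ2 (chi10_eq_one f hff μ hμ h6)
  exact ⟨rfl, hu0, hv0⟩

theorem reta_one : reta f (1 : K) = 1 := by
  have h := reta_mul f (1 : K) 1 one_ne_zero one_ne_zero
  rw [mul_one] at h
  exact mul_eq_left.mp h

theorem ree_neg_one_ne : (-1 : K) ≠ 1 := by
  intro h
  have h3 : (3 : K) = 0 := three_eq_zero
  have : (1 : K) = 0 := by linear_combination h3 + h
  exact one_ne_zero this

include hff hfe he hq hN hk in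
/-- the centraliser in `H¹` of a nontrivial element of `U¹` -/
theorem ree_cent_H (k u₀ : GL chevG2.Idx K)
    (hkH : k ∈ chevG2.diagonalSubgroup K ⊓ twistedG2 K e)
    (hu : u₀ ∈ chevG2.posUnipotent K ⊓ twistedG2 K e) (hu1 : u₀ ≠ 1) (hc : k * u₀ = u₀ * k) :
    k = 1 ∨ k = ((reta f (-1) : ↥(chevG2.group K)) : GL chevG2.Idx K) := by
  obtain ⟨μ, hμ, rfl⟩ := (ree_H_iff f hff e hfe he j N hq hN hk k).mp hkH
  obtain ⟨t, u, v, hg⟩ := (ree_U_iff f hff e hfe u₀).mp hu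
  have hg' : u₀ = ((ru f t u v : ↥(chevG2.group K)) : GL chevG2.Idx K) := by
    apply Units.ext
    rw [hg, ← ru_val f e hfe]
  by_cases hμ2 : μ ^ 2 = 1
  · have h1 : (μ - 1) * (μ + 1) = 0 := by linear_combination hμ2
    rcases mul_eq_zero.mp h1 with h2 | h2
    · left
      rw [sub_eq_zero.mp h2, reta_one, Subgroup.coe_one]
    · right
      rw [eq_neg_of_add_eq_zero_left h2]
  · exfalso
    have hconj : reta f μ * ru f t u v * (reta f μ)⁻¹ = ru f t u v := by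
      apply Subtype.ext
      rw [Subgroup.coe_mul, Subgroup.coe_mul, Subgroup.coe_inv, ← hg', hc]
      group
    obtain ⟨rfl, rfl, rfl⟩ := ree_cent_core f hff μ hμ hμ2 t u v hconj
    apply hu1
    rw [hg', ru000, Subgroup.coe_one]

end

end Cfsg.Agent.helper5.Chev
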