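import Mathlib
import Cfsg.Agent.Lib_helper5_ReeW

set_option autoImplicit false
set_option linter.unusedSectionVars false
set_option linter.unusedVariables false

/-! The three-point stabilisers of the Ree groups `²G₂(q)`, II (helper5). -/

namespace Cfsg.Agent.helper5.Chev

open Cfsg.Lie

section
variable {G : Type*} [Group G] [Finite G] (B : Subgroup G)

theorem mem_T3_std (ν u k : G) :
    k ∈ T3 B ((1 : G) : G ⧸ B) ((ν : G) : G ⧸ B) ((u * ν : G) : G ⧸ B) ↔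
      k ∈ B ∧ ν⁻¹ * k * ν ∈ B ∧ (u * ν)⁻¹ * k * (u * ν) ∈ B := by
  rw [mem_T3, stab_mk_iff, stab_mk_iff, stab_mk_iff, inv_one, one_mul, mul_one]

/-- the abstract form of the statement on three-point stabilisers -/
theorem three_stab_abstract (U : Set G) (ν a u : G) (hUB : ∀ u ∈ U, u ∈ B)
    (hdec : ∀ g : G, g ∈ B ∨ ∃ u ∈ U, ∃ b ∈ B, g = u * ν * b)
    (hcent : ∀ u ∈ U, u ≠ 1 → ∀ k, k ∈ B → ν⁻¹ * k * ν ∈ B → (u * ν)⁻¹ * k * (u * ν) ∈ B →
      k = 1 ∨ k = a)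
    (ha1 : a ≠ 1) (hu : u ∈ U) (hu1 : u ≠ 1)
    (ha : a ∈ B ∧ ν⁻¹ * a * ν ∈ B ∧ (u * ν)⁻¹ * a * (u * ν) ∈ B)
    (hν : ν ∉ B) (hd3 : ν⁻¹ * (u * ν) ∉ B) :
    (∀ x y z : G ⧸ B, x ≠ y → x ≠ z → y ≠ z →
        Nat.card ↥(MulAction.stabilizer G x ⊓ MulAction.stabilizer G y ⊓
          MulAction.stabilizer G z) ≤ 2) ∧
      ∃ x y z : G ⧸ B, x ≠ y ∧ x ≠ z ∧ y ≠ z ∧
        Nat.card ↥(MulAction.stabilizer G x ⊓ MulAction.stabilizer G y ⊓
          MulAction.stabilizer G z) = 2 := by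
  have hT : ∀ u ∈ U, u ≠ 1 →
      Nat.card ↥(T3 B ((1 : G) : G ⧸ B) ((ν : G) : G ⧸ B) ((u * ν : G) : G ⧸ B)) ≤ 2 := by
    intro u hu hu1
    have hsub : (T3 B ((1 : G) : G ⧸ B) ((ν : G) : G ⧸ B) ((u * ν : G) : G ⧸ B) : Set G) ⊆
        {1, a} := by
      intro k hk
      obtain ⟨c1, c2, c3⟩ := (mem_T3_std B ν u k).mp hk
      rcases hcent u hu hu1 k c1 c2 c3 with h | h
      · left; exact h
      · right; exact h
    calc Nat.card ↥(T3 B ((1 : G) : G ⧸ B) ((ν : G) : G ⧸ B) ((u * ν : G) : G ⧸ B))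
        = Nat.card ↥(T3 B ((1 : G) : G ⧸ B) ((ν : G) : G ⧸ B) ((u * ν : G) : G ⧸ B) : Set G) :=
          rfl
      _ ≤ Nat.card ↥({1, a} : Set G) := Nat.card_mono (Set.toFinite _) hsub
      _ ≤ 2 := by
        rw [Nat.card_coe_set_eq]
        refine (Set.ncard_insert_le _ _).trans ?_
        rw [Set.ncard_singleton]
  refine ⟨fun x y z h1 h2 h3 => T3_le B U ν hUB hdec hT x y z h1 h2 h3, ?_⟩
  refine ⟨((1 : G) : G ⧸ B), ((ν : G) : G ⧸ B), ((u * ν : G) : G ⧸ B), ?_, ?_, ?_, ?_⟩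
  · intro h
    rw [QuotientGroup.eq, inv_one, one_mul] at h
    exact hν h
  · intro h
    rw [QuotientGroup.eq, inv_one, one_mul] at h
    apply hν
    have := Subgroup.mul_mem _ (Subgroup.inv_mem _ (hUB u hu)) h
    rwa [inv_mul_cancel_left] at this
  · intro h
    rw [QuotientGroup.eq] at h
    exact hd3 h
  · apply le_antisymm (hT u hu hu1)
    have hsub : ({1, a} : Set G) ⊆
        (T3 B ((1 : G) : G ⧸ B) ((ν : G) : G ⧸ B) ((u * ν : G) : G ⧸ B) : Set G) := by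
      intro k hk
      rcases hk with rfl | hk
      · exact Subgroup.one_mem _
      · rw [Set.mem_singleton_iff] at hk
        subst hk
        rw [SetLike.mem_coe, mem_T3_std]
        exact ha
    calc 2 = Nat.card ↥({1, a} : Set G) := by
          rw [Nat.card_coe_set_eq, Set.ncard_pair ha1.symm]
      _ ≤ Nat.card ↥(T3 B ((1 : G) : G ⧸ B) ((ν : G) : G ⧸ B) ((u * ν : G) : G ⧸ B) : Set G) :=
          Nat.card_mono (Set.toFinite _) hsub

end

section
variable {K : Type*} [Field K] [Fintype K] [CharP K 3] (f : K →+* K)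
  (hff : ∀ t : K, f (f t) ^ 3 = t) (e : ℕ) (hfe : ∀ t : K, f t = t ^ e) (he : Odd e)
  (j N : ℕ) (hq : Fintype.card K = 2 * N + 1) (hN : (3 * e + 1) * j = 3 * N + 1)
  (hk : Even (N + 1))

include hff hfe he hq hN hk in
/-- **the three-point stabilisers of the Ree groups** -/
theorem ree_three_stab :
    (∀ x y z : ↥(twistedG2 K e) ⧸
        ((chevG2.borelSubgroup K ⊓ twistedG2 K e)).subgroupOf (twistedG2 K e),
        x ≠ y → x ≠ z → y ≠ z →
        Nat.card ↥(MulAction.stabilizer ↥(twistedG2 K e) x ⊓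
          MulAction.stabilizer ↥(twistedG2 K e) y ⊓
          MulAction.stabilizer ↥(twistedG2 K e) z) ≤ 2) ∧
      ∃ x y z : ↥(twistedG2 K e) ⧸
        ((chevG2.borelSubgroup K ⊓ twistedG2 K e)).subgroupOf (twistedG2 K e),
        x ≠ y ∧ x ≠ z ∧ y ≠ z ∧
        Nat.card ↥(MulAction.stabilizer ↥(twistedG2 K e) x ⊓
          MulAction.stabilizer ↥(twistedG2 K e) y ⊓
          MulAction.stabilizer ↥(twistedG2 K e) z) = 2 := by
  classical
  obtain ⟨n, hn⟩ : ∃ n, n = nW (F := K) chevG2 g2_mem w0_G2 := ⟨_, rfl⟩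
  have hnT : n ∈ twistedG2 K e := by rw [hn]; exact rn1_mem_tw f e hfe
  have hnN : n ∈ chevG2.monomialSubgroup K := by rw [hn]; exact rn1_mem_N
  have hnB : n ∉ chevG2.borelSubgroup K := by
    rw [hn, ← rn1_coe f]
    exact rn1_not_mem_B f
  have hB' : ∀ g : ↥(twistedG2 K e),
      g ∈ (chevG2.borelSubgroup K ⊓ twistedG2 K e).subgroupOf (twistedG2 K e) ↔
        (g : GL chevG2.Idx K) ∈ chevG2.borelSubgroup K := by
    intro g
    rw [Subgroup.mem_subgroupOf]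
    exact ⟨fun h => h.1, fun h => ⟨h, g.2⟩⟩
  have hconjH : ∀ h ∈ chevG2.diagonalSubgroup K, n * h * n⁻¹ ∈ chevG2.diagonalSubgroup K :=
    fun h hh => (Subgroup.mem_normalizer_iff.mp
      (N_le_normalizer_H (F := K) chevG2 g2_mem hnN) h).mp hh
  have hconjV : ∀ u ∈ chevG2.posUnipotent K, n * u * n⁻¹ ∈ chevG2.negUnipotent K := by
    intro u hu
    rw [hn]
    exact conj_UnegOf_mem_V chevG2 _ u (U_le_UnegOf_w0 hu)
  have haH : ((reta f (-1) : ↥(chevG2.group K)) : GL chevG2.Idx K) ∈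
      chevG2.diagonalSubgroup K := reta_mem_H f (-1) (by norm_num)
  have huU : ((ru f 0 1 0 : ↥(chevG2.group K)) : GL chevG2.Idx K) ∈ chevG2.posUnipotent K :=
    ru_mem_U f 0 1 0
  have hu1 : ((ru f 0 1 0 : ↥(chevG2.group K)) : GL chevG2.Idx K) ≠ 1 := by
    intro h1
    have h2 : ru f 0 1 0 = ru f 0 0 0 := by
      rw [ru000]
      apply Subtype.ext
      rw [h1]
      rfl
    exact one_ne_zero (ru_inj f _ _ _ _ _ _ h2).2.1
  have ha1 : ((reta f (-1) : ↥(chevG2.group K)) : GL chevG2.Idx K) ≠ 1 := by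
    intro h1
    have h2 : reta f (-1 : K) = reta f 1 := by
      rw [reta_one]
      apply Subtype.ext
      rw [h1]
      rfl
    exact ree_neg_one_ne (reta_inj f _ _ (by norm_num) one_ne_zero h2)
  have hcomm : ((reta f (-1) : ↥(chevG2.group K)) : GL chevG2.Idx K) *
      ((ru f 0 1 0 : ↥(chevG2.group K)) : GL chevG2.Idx K) =
      ((ru f 0 1 0 : ↥(chevG2.group K)) : GL chevG2.Idx K) *
        ((reta f (-1) : ↥(chevG2.group K)) : GL chevG2.Idx K) := by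
    have h := reta_conj_ru0 f hff (-1) (by norm_num) 1 0
    have e1 : f (-1 : K) ^ 3 * (-1 : K)⁻¹ * 1 = 1 := by
      rw [map_neg, map_one]
      norm_num
    have e2 : (-1 : K) * 0 = 0 := by ring
    rw [e1, e2] at h
    have h' := congrArg (fun x : ↥(chevG2.group K) => (x : GL chevG2.Idx K))
      (mul_inv_eq_iff_eq_mul.mp h)
    exact h'
  refine three_stab_abstract
    ((chevG2.borelSubgroup K ⊓ twistedG2 K e).subgroupOf (twistedG2 K e))
    {u | (u : GL chevG2.Idx K) ∈ chevG2.posUnipotent K}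
    ⟨n⁻¹, Subgroup.inv_mem _ hnT⟩ ⟨_, reta_neg_one_mem f e hfe⟩ ⟨_, ru_mem_tw f e hfe 0 1 0⟩
    ?_ ?_ ?_ ?_ ?_ ?_ ?_ ?_ ?_
  · intro u hu
    exact (hB' u).mpr (U_le_B chevG2 g2_mem hu)
  · intro g
    rcases tw_decomp f hff e hfe he j N hq hN hk ((g⁻¹ : ↥(twistedG2 K e)) : GL chevG2.Idx K)
      (g⁻¹).2 with hB | ⟨b, hb, u, hu, e1⟩
    · left
      rw [hB']
      have := Subgroup.inv_mem _ hB
      rwa [Subgroup.coe_inv, inv_inv] at this
    · right
      refine ⟨⟨u⁻¹, Subgroup.inv_mem _ hu.2⟩, ?_, ⟨b⁻¹, Subgroup.inv_mem _ hb.2⟩, ?_, ?_⟩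
      · exact Subgroup.inv_mem _ hu.1
      · exact (hB' _).mpr (Subgroup.inv_mem _ hb.1)
      · apply Subtype.ext
        show (g : GL chevG2.Idx K) = u⁻¹ * n⁻¹ * b⁻¹
        have e2 : (g : GL chevG2.Idx K) = (b * n * u)⁻¹ := by
          rw [hn, ← e1, Subgroup.coe_inv, inv_inv]
        rw [e2]
        group
  · intro u hu hu1 k c1 c2 c3
    rw [hB'] at c1 c2 c3
    have c2' : n * (k : GL chevG2.Idx K) * n⁻¹ ∈ chevG2.borelSubgroup K := by
      have e2 : n * (k : GL chevG2.Idx K) * n⁻¹ = (n⁻¹)⁻¹ * (k : GL chevG2.Idx K) * n⁻¹ := by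
        rw [inv_inv]
      rw [e2]
      exact c2
    have c3' : n * ((u : GL chevG2.Idx K)⁻¹ * (k : GL chevG2.Idx K) * (u : GL chevG2.Idx K)) *
        n⁻¹ ∈ chevG2.borelSubgroup K := by
      have e3 : n * ((u : GL chevG2.Idx K)⁻¹ * (k : GL chevG2.Idx K) * (u : GL chevG2.Idx K)) *
          n⁻¹ = ((u : GL chevG2.Idx K) * n⁻¹)⁻¹ * (k : GL chevG2.Idx K) *
            ((u : GL chevG2.Idx K) * n⁻¹) := by group
      rw [e3]
      exact c3
    have kH := g2_BnB (k : GL chevG2.Idx K) c1 (by rw [← hn]; exact c2')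
    have hcm := g2_comm_of_conj (k : GL chevG2.Idx K) (u : GL chevG2.Idx K) kH hu
      (by rw [← hn]; exact c3')
    rcases ree_cent_H f hff e hfe he j N hq hN hk (k : GL chevG2.Idx K) (u : GL chevG2.Idx K)
      ⟨kH, k.2⟩ ⟨hu, u.2⟩ (fun h => hu1 (Subtype.ext h)) hcm with h | h
    · left; exact Subtype.ext h
    · right; exact Subtype.ext h
  · intro h
    exact ha1 (congrArg Subtype.val h)
  · exact huU
  · intro h
    exact hu1 (congrArg Subtype.val h)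
  · rw [hB', hB', hB']
    have hH' := hconjH _ haH
    refine ⟨H_le_B chevG2 g2_mem haH, ?_, ?_⟩
    · show (n⁻¹)⁻¹ * ((reta f (-1) : ↥(chevG2.group K)) : GL chevG2.Idx K) * n⁻¹ ∈ _
      rw [inv_inv]
      exact H_le_B chevG2 g2_mem hH'
    · show (((ru f 0 1 0 : ↥(chevG2.group K)) : GL chevG2.Idx K) * n⁻¹)⁻¹ *
        ((reta f (-1) : ↥(chevG2.group K)) : GL chevG2.Idx K) *
        (((ru f 0 1 0 : ↥(chevG2.group K)) : GL chevG2.Idx K) * n⁻¹) ∈ _
      have e3 : (((ru f 0 1 0 : ↥(chevG2.group K)) : GL chevG2.Idx K) * n⁻¹)⁻¹ *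
          ((reta f (-1) : ↥(chevG2.group K)) : GL chevG2.Idx K) *
          (((ru f 0 1 0 : ↥(chevG2.group K)) : GL chevG2.Idx K) * n⁻¹) =
          n * (((ru f 0 1 0 : ↥(chevG2.group K)) : GL chevG2.Idx K)⁻¹ *
            (((reta f (-1) : ↥(chevG2.group K)) : GL chevG2.Idx K) *
              ((ru f 0 1 0 : ↥(chevG2.group K)) : GL chevG2.Idx K))) * n⁻¹ := by group
      rw [e3, hcomm, inv_mul_cancel_left]
      exact H_le_B chevG2 g2_mem hH'
  · rw [hB']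
    intro h
    apply hnB
    have := Subgroup.inv_mem _ h
    rwa [Subgroup.coe_mk, inv_inv] at this
  · rw [hB']
    intro h
    have h1 : n * ((ru f 0 1 0 : ↥(chevG2.group K)) : GL chevG2.Idx K) * n⁻¹ ∈
        chevG2.borelSubgroup K := by
      have e3 : n * ((ru f 0 1 0 : ↥(chevG2.group K)) : GL chevG2.Idx K) * n⁻¹ =
          (n⁻¹)⁻¹ * (((ru f 0 1 0 : ↥(chevG2.group K)) : GL chevG2.Idx K) * n⁻¹) := by group
      rw [e3]
      exact h
    have h2 : n * ((ru f 0 1 0 : ↥(chevG2.group K)) : GL chevG2.Idx K) * n⁻¹ ∈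
        chevG2.borelSubgroup K ⊓ chevG2.negUnipotent K := ⟨h1, hconjV _ huU⟩
    rw [B_inf_V chevG2 g2_mem, Subgroup.mem_bot] at h2
    apply hu1
    have e4 : ((ru f 0 1 0 : ↥(chevG2.group K)) : GL chevG2.Idx K) =
        n⁻¹ * (n * ((ru f 0 1 0 : ↥(chevG2.group K)) : GL chevG2.Idx K) * n⁻¹) * n := by group
    rw [e4, h2]
    group

end

end Cfsg.Agent.helper5.Chev
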