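import Mathlib
import Cfsg.Agent.Lib_helper5_ReeV
import Cfsg.Agent.Lib_helper5_ReeW

set_option autoImplicit false
set_option linter.unusedSectionVars false
set_option linter.unusedVariables false

/-! The Ree groups `²G₂(q)` are generated by two elements (helper5). -/

namespace Cfsg.Agent.helper5.Chev

open Cfsg.Lie

section
variable {K : Type*} [Field K] [Fintype K] [CharP K 3] (f : K →+* K)
  (hff : ∀ t : K, f (f t) ^ 3 = t) (e : ℕ) (hfe : ∀ t : K, f t = t ^ e) (he : Odd e)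
  (j N : ℕ) (hq : Fintype.card K = 2 * N + 1) (hN : (3 * e + 1) * j = 3 * N + 1)
  (hk : Even (N + 1))

include hff in
theorem reta_conj_ru (ν : K) (hν : ν ≠ 0) (t u v : K) :
    ∃ u' v' : K, reta f ν * ru f t u v * (reta f ν)⁻¹ =
      ru f ((f ν ^ 3)⁻¹ * ν ^ 2 * t) u' v' := by
  have hH := reta_mem_H f ν hν
  have hnorm := (Cfsg.Agent.S1036.result (F := K) chevG2 g2_mem).1
  have hU : ((reta f ν * ru f t u v * (reta f ν)⁻¹ : ↥(chevG2.group K)) :
      GL chevG2.Idx K) ∈ chevG2.posUnipotent K := by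
    rw [Subgroup.coe_mul, Subgroup.coe_mul, Subgroup.coe_inv]
    exact (Subgroup.mem_normalizer_iff.mp (hnorm hH) _).mp (ru_mem_U f t u v)
  have hfix : rsig f hff (reta f ν * ru f t u v * (reta f ν)⁻¹) =
      reta f ν * ru f t u v * (reta f ν)⁻¹ := by
    rw [map_mul, map_mul, map_inv, rsig_reta f hff ν hν, rsig_ru f hff]
  have hc := c6_conj ((reta f ν : ↥(chevG2.group K)) : GL chevG2.Idx K) (cfun (f ν) ν)
    (cfun_ne _ _ ((map_ne_zero f).mpr hν) hν) (by unfold reta; rw [g2tor_coe]) _ t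
    (c6_ru f t u v)
  rw [chi6_val] at hc
  exact fixed_U_c6 f hff _ hU hfix _ (by
    rw [Subgroup.coe_mul, Subgroup.coe_mul, Subgroup.coe_inv]
    exact hc)

include hff in
theorem ru_inv_exists (t u v : K) : ∃ u' v' : K, (ru f t u v)⁻¹ = ru f (-t) u' v' := by
  have hU : (((ru f t u v)⁻¹ : ↥(chevG2.group K)) : GL chevG2.Idx K) ∈
      chevG2.posUnipotent K := by
    rw [Subgroup.coe_inv]
    exact Subgroup.inv_mem _ (ru_mem_U f t u v)
  have hfix : rsig f hff (ru f t u v)⁻¹ = (ru f t u v)⁻¹ := by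
    rw [map_inv, rsig_ru f hff]
  have hc := c6_inv _ t (c6_ru f t u v)
  exact fixed_U_c6 f hff _ hU hfix _ (by
    rw [Subgroup.coe_inv]
    exact hc)

include hff in
theorem ru_comm_aux (s ux vx uy vy : K) :
    ∃ b : K, ru f 1 uy vy * ru f s ux vx * ru f 0 (f s ^ 3 - s) b =
      ru f s ux vx * ru f 1 uy vy := by
  refine ⟨(vx + vy - ux * 1 - f 1 ^ 3 * s ^ 2 + f 1 ^ 3 * s * 1) -
    (vy + vx - uy * s - f s ^ 3 * 1 ^ 2 + f s ^ 3 * 1 * s), ?_⟩
  rw [ru_mul f hff, ru_mul f hff, ru_mul f hff]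
  apply ru_congr
  all_goals try simp only [map_zero, map_one]
  all_goals ring

include hff in
/-- `H¹` and one element of `U¹` outside the kernel of the `b`-coordinate generate `U¹` -/
theorem ree_gen_U (h3 : 3 < Fintype.card K) (S : Subgroup ↥(chevG2.group K))
    (hH : ∀ μ : K, μ ≠ 0 → reta f μ ∈ S) (t₀ u₀ v₀ : K) (ht₀ : t₀ ≠ 0)
    (hy : ru f t₀ u₀ v₀ ∈ S) : ∀ t u v : K, ru f t u v ∈ S := by
  have h3' : (3 : K) = 0 := ree_three
  -- all `b`-coordinates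
  have h1 : ∀ s : K, ∃ u v : K, ru f s u v ∈ S := by
    intro s
    by_cases hs : s = 0
    · exact ⟨0, 0, by rw [hs, ru000' f]; exact S.one_mem⟩
    · obtain ⟨c, hc⟩ : ∃ c, c = s * t₀⁻¹ := ⟨_, rfl⟩
      have hc0 : c ≠ 0 := by rw [hc]; exact mul_ne_zero hs (inv_ne_zero ht₀)
      have hfc : f c ≠ 0 := (map_ne_zero f).mpr hc0
      have hμ : c ^ 2 * f c ^ 3 ≠ 0 := mul_ne_zero (pow_ne_zero _ hc0) (pow_ne_zero _ hfc)
      obtain ⟨u', v', h⟩ := reta_conj_ru f hff _ hμ t₀ u₀ v₀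
      refine ⟨u', v', ?_⟩
      have e1 : f (c ^ 2 * f c ^ 3) = f c ^ 2 * c := by
        rw [map_mul, map_pow, map_pow, hff]
      have hχ : (f (c ^ 2 * f c ^ 3) ^ 3)⁻¹ * (c ^ 2 * f c ^ 3) ^ 2 * t₀ = s := by
        have e2 : ((f c ^ 2 * c) ^ 3)⁻¹ * (c ^ 2 * f c ^ 3) ^ 2 = c := by
          field_simp
        have e3 : c * t₀ = s := by
          rw [hc]
          field_simp
        rw [e1, e2, e3]
      rw [hχ] at h
      rw [← h]
      exact S.mul_mem (S.mul_mem (hH _ hμ) hy) (S.inv_mem (hH _ hμ))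
  -- the centre
  have h2 : ∀ v : K, ru f 0 0 v ∈ S := by
    intro v
    obtain ⟨u1, v1, hx1⟩ := h1 1
    have hcube : ru f 0 0 (-1) ∈ S := by
      have := S.pow_mem hx1 3
      rw [ru_cube f hff, map_one] at this
      have e : -((1 : K) ^ 3 * 1 ^ 2) = -1 := by ring
      rwa [e] at this
    by_cases hv : v = 0
    · rw [hv, ru000' f]; exact S.one_mem
    · have hμ : -v ≠ 0 := neg_ne_zero.mpr hv
      have h := reta_conj_ru0 f hff (-v) hμ 0 (-1)
      have e : -v * -1 = v := by ring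
      rw [mul_zero, e] at h
      rw [← h]
      exact S.mul_mem (S.mul_mem (hH _ hμ) hcube) (S.inv_mem (hH _ hμ))
  -- the middle layer
  have hadd : ∀ u u' : K, ru f 0 u 0 ∈ S → ru f 0 u' 0 ∈ S → ru f 0 (u + u') 0 ∈ S := by
    intro u u' hu hu'
    have := S.mul_mem hu hu'
    rwa [ru0_mul, add_zero] at this
  have hneg : ∀ u : K, ru f 0 u 0 ∈ S → ru f 0 (-u) 0 ∈ S := by
    intro u hu
    have := S.inv_mem hu
    rwa [ru0_inv, neg_zero] at this
  have hsq : ∀ ν u : K, ru f 0 u 0 ∈ S → ru f 0 (ν ^ 2 * u) 0 ∈ S := by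
    intro ν u hu
    by_cases hν : ν = 0
    · rw [hν]
      have e : (0 : K) ^ 2 * u = 0 := by ring
      rw [e, ru000' f]
      exact S.one_mem
    · have hfν : f ν ≠ 0 := (map_ne_zero f).mpr hν
      have hμ : ν * f ν ^ 3 ≠ 0 := mul_ne_zero hν (pow_ne_zero _ hfν)
      have h := reta_conj_ru0 f hff _ hμ u 0
      have e1 : f (ν * f ν ^ 3) = f ν * ν := by
        rw [map_mul, map_pow, hff]
      have e2 : f (ν * f ν ^ 3) ^ 3 * (ν * f ν ^ 3)⁻¹ * u = ν ^ 2 * u := by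
        rw [e1]
        field_simp
      rw [e2, mul_zero] at h
      rw [← h]
      exact S.mul_mem (S.mul_mem (hH _ hμ) hu) (S.inv_mem (hH _ hμ))
  obtain ⟨s, hs0, hs⟩ := exists_mu f hff h3
  have hy₀ : f s ^ 3 - s ≠ 0 := by
    intro h0
    apply hs
    have : f s ^ 3 = s := sub_eq_zero.mp h0
    rw [this, mul_inv_cancel₀ hs0]
  have hy₀S : ru f 0 (f s ^ 3 - s) 0 ∈ S := by
    obtain ⟨ux, vx, hx⟩ := h1 s
    obtain ⟨uy, vy, hy1⟩ := h1 1
    obtain ⟨b, hb⟩ := ru_comm_aux f hff s ux vx uy vy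
    have hc : ru f 0 (f s ^ 3 - s) b ∈ S := by
      have e : ru f 0 (f s ^ 3 - s) b =
          (ru f 1 uy vy * ru f s ux vx)⁻¹ * (ru f s ux vx * ru f 1 uy vy) := by
        rw [← hb]
        group
      rw [e]
      exact S.mul_mem (S.inv_mem (S.mul_mem hy1 hx)) (S.mul_mem hx hy1)
    have := S.mul_mem hc (h2 (-b))
    rwa [ru0_mul, add_zero, add_neg_cancel] at this
  have h4 : ∀ u : K, ru f 0 u 0 ∈ S := by
    intro u
    obtain ⟨x, hx⟩ : ∃ x, x = u * (f s ^ 3 - s)⁻¹ := ⟨_, rfl⟩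
    have e : u = (x + 1) ^ 2 * (f s ^ 3 - s) + -((x - 1) ^ 2 * (f s ^ 3 - s)) := by
      have e0 : u = x * (f s ^ 3 - s) := by
        rw [hx]
        field_simp
      rw [e0]
      linear_combination (-(x * (f s ^ 3 - s))) * h3'
    rw [e]
    exact hadd _ _ (hsq _ _ hy₀S) (hneg _ (hsq _ _ hy₀S))
  intro t u v
  obtain ⟨u1, v1, hx⟩ := h1 t
  have e : ru f t u v = ru f t u1 v1 * (ru f 0 (u - u1) 0 * ru f 0 0 (v - v1)) := by
    rw [ru0_mul, ru_mul f hff]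
    apply ru_congr
    all_goals try simp only [map_zero]
    all_goals ring
  rw [e]
  exact S.mul_mem hx (S.mul_mem (h4 _) (h2 _))

include hff hfe he hq hN hk in
/-- **the Ree group is generated by two elements** -/
theorem ree_two_gen (h3 : 3 < Fintype.card K) :
    ∃ a b : ↥(chevG2.group K), a ∈ reeR f ∧ b ∈ reeR f ∧
      Subgroup.closure ({a, b} : Set ↥(chevG2.group K)) = reeR f := by
  classical
  obtain ⟨g, hg0⟩ := exists_zpow_surjective Kˣ
  have hg : ∀ x : Kˣ, x ∈ Submonoid.powers g := by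
    intro x
    rw [(isOfFinOrder_of_finite g).mem_powers_iff_mem_zpowers]
    obtain ⟨z, hz⟩ := hg0 x
    exact ⟨z, hz⟩
  obtain ⟨μ₀, hμ₀def⟩ : ∃ μ₀ : K, μ₀ = (g : K) := ⟨_, rfl⟩
  have hμ₀ : μ₀ ≠ 0 := by rw [hμ₀def]; exact Units.ne_zero g
  have hgen : ∀ μ : K, μ ≠ 0 → ∃ k : ℕ, μ = μ₀ ^ k := by
    intro μ hμ
    obtain ⟨k, hk'⟩ := hg (Units.mk0 μ hμ)
    have hk' : g ^ k = Units.mk0 μ hμ := hk'
    refine ⟨k, ?_⟩
    have h2 := congrArg Units.val hk'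
    rw [Units.val_pow_eq_pow_val, Units.val_mk0] at h2
    rw [hμ₀def, h2]
  have haR : reta f μ₀ ∈ reeR f := reta_mem_R f hff e hfe he j N hq hN hk μ₀ hμ₀
  have hbR : ru f 1 0 0 * rn1 f ∈ reeR f :=
    Subgroup.mul_mem _ (ru_mem_R f 1 0 0) (rn1_mem_R f)
  refine ⟨reta f μ₀, ru f 1 0 0 * rn1 f, haR, hbR, ?_⟩
  apply le_antisymm
  · rw [Subgroup.closure_le]
    intro x hx
    rcases hx with rfl | hx
    · exact haR
    · rw [Set.mem_singleton_iff] at hx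
      rw [hx]
      exact hbR
  · obtain ⟨S, hS⟩ : ∃ S : Subgroup ↥(chevG2.group K),
        S = Subgroup.closure ({reta f μ₀, ru f 1 0 0 * rn1 f} : Set ↥(chevG2.group K)) :=
      ⟨_, rfl⟩
    rw [← hS]
    have haS : reta f μ₀ ∈ S := by
      rw [hS]; exact Subgroup.subset_closure (Set.mem_insert _ _)
    have hbS : ru f 1 0 0 * rn1 f ∈ S := by
      rw [hS]; exact Subgroup.subset_closure (Set.mem_insert_of_mem _ rfl)
    have hpow : ∀ k : ℕ, reta f (μ₀ ^ k) = (reta f μ₀) ^ k := by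
      intro k
      induction k with
      | zero => rw [pow_zero, pow_zero, reta_one]
      | succ k ih => rw [pow_succ, pow_succ, ← ih, reta_mul f _ _ (pow_ne_zero _ hμ₀) hμ₀]
    have hH : ∀ μ : K, μ ≠ 0 → reta f μ ∈ S := by
      intro μ hμ
      obtain ⟨k, rfl⟩ := hgen μ hμ
      rw [hpow]
      exact S.pow_mem haS k
    obtain ⟨μ', hμ', hconj⟩ : ∃ μ' : K, μ' ≠ 0 ∧
        rn1 f * reta f μ₀ * (rn1 f)⁻¹ = reta f μ' := by
      apply fixed_H f hff
      · rw [Subgroup.coe_mul, Subgroup.coe_mul, Subgroup.coe_inv, rn1_coe]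
        exact (Subgroup.mem_normalizer_iff.mp
          (N_le_normalizer_H (F := K) chevG2 g2_mem rn1_mem_N) _).mp (reta_mem_H f μ₀ hμ₀)
      · rw [map_mul, map_mul, map_inv, rsig_rn1 f hff, rsig_reta f hff μ₀ hμ₀]
    have hμ'1 : μ' ≠ 1 := by
      intro h1
      rw [h1, reta_one] at hconj
      have ha1 : reta f μ₀ = 1 := by
        have e : reta f μ₀ = (rn1 f)⁻¹ * (rn1 f * reta f μ₀ * (rn1 f)⁻¹) * rn1 f := by group
        rw [e, hconj]
        group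
      have hμ1 : μ₀ = 1 := reta_inj f μ₀ 1 hμ₀ one_ne_zero (by rw [ha1, reta_one])
      obtain ⟨k, hk'⟩ := hgen (-1) (by norm_num)
      rw [hμ1, one_pow] at hk'
      exact ree_neg_one_ne hk'
    have hyconj : ru f 1 0 0 * reta f μ' * (ru f 1 0 0)⁻¹ ∈ S := by
      have e1 : ru f 1 0 0 * reta f μ' * (ru f 1 0 0)⁻¹ =
          (ru f 1 0 0 * rn1 f) * reta f μ₀ * (ru f 1 0 0 * rn1 f)⁻¹ := by
        rw [← hconj]
        group
      rw [e1]
      exact S.mul_mem (S.mul_mem hbS haS) (S.inv_mem hbS)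
    have hν : μ'⁻¹ ≠ 0 := inv_ne_zero hμ'
    have hy' : reta f μ'⁻¹ * ru f 1 0 0 * (reta f μ'⁻¹)⁻¹ * (ru f 1 0 0)⁻¹ ∈ S := by
      have hinv : reta f μ'⁻¹ = (reta f μ')⁻¹ := by
        rw [eq_inv_iff_mul_eq_one, reta_mul f _ _ hν hμ', inv_mul_cancel₀ hμ', reta_one]
      have e2 : reta f μ'⁻¹ * ru f 1 0 0 * (reta f μ'⁻¹)⁻¹ * (ru f 1 0 0)⁻¹ =
          (reta f μ')⁻¹ * (ru f 1 0 0 * reta f μ' * (ru f 1 0 0)⁻¹) := by
        rw [hinv]
        group
      rw [e2]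
      exact S.mul_mem (S.inv_mem (hH μ' hμ')) hyconj
    obtain ⟨u1, v1, hc1⟩ := reta_conj_ru f hff μ'⁻¹ hν 1 0 0
    obtain ⟨u2, v2, hc2⟩ := ru_inv_exists f hff 1 0 0
    rw [hc1, hc2, ru_mul f hff] at hy'
    have ht₀ : (f μ'⁻¹ ^ 3)⁻¹ * μ'⁻¹ ^ 2 * 1 + -1 ≠ 0 := by
      intro h0
      have h4 : (f μ'⁻¹ ^ 3)⁻¹ * μ'⁻¹ ^ 2 = 1 := by linear_combination h0
      have h5 := chi6_eq_one f hff μ'⁻¹ hν h4
      exact hμ'1 (by rw [← inv_inv μ', h5, inv_one])
    have hU := ree_gen_U f hff h3 S hH _ _ _ ht₀ hy'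
    have hn : rn1 f ∈ S := by
      have e3 : rn1 f = (ru f 1 0 0)⁻¹ * (ru f 1 0 0 * rn1 f) := by group
      rw [e3]
      exact S.mul_mem (S.inv_mem (hU 1 0 0)) hbS
    intro x hx
    rcases (reeR_eq f hff e hfe he j N hq hN hk x).mp hx with ⟨p, rfl⟩ | ⟨p, rfl⟩
    · exact S.mul_mem (hU _ _ _) (hH _ (Units.ne_zero _))
    · exact S.mul_mem (S.mul_mem (S.mul_mem (hU _ _ _) (hH _ (Units.ne_zero _))) hn)
        (hU _ _ _)

include hff hfe he hq hN hk in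
theorem ree_two_gen' (h3 : 3 < Fintype.card K) :
    ∃ a b : ↥(twistedG2 K e), Subgroup.closure ({a, b} : Set ↥(twistedG2 K e)) = ⊤ := by
  obtain ⟨a, b, ha, hb, hab⟩ := ree_two_gen f hff e hfe he j N hq hN hk h3
  have hT := tw_eq_map f e hfe
  have haT : (a : GL chevG2.Idx K) ∈ twistedG2 K e := by
    rw [hT]; exact ⟨a, ha, rfl⟩
  have hbT : (b : GL chevG2.Idx K) ∈ twistedG2 K e := by
    rw [hT]; exact ⟨b, hb, rfl⟩
  refine ⟨⟨_, haT⟩, ⟨_, hbT⟩, ?_⟩
  apply Subgroup.map_injective (twistedG2 K e).subtype_injective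
  rw [MonoidHom.map_closure, ← MonoidHom.range_eq_map, Subgroup.range_subtype, Set.image_pair]
  show Subgroup.closure {(a : GL chevG2.Idx K), (b : GL chevG2.Idx K)} = twistedG2 K e
  rw [hT, ← hab, MonoidHom.map_closure, Set.image_pair]
  rfl

end

end Cfsg.Agent.helper5.Chev
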