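import Mathlib
import Cfsg.Agent.Lib_helper5_TwCore2

set_option autoImplicit false

open Cfsg

/-! The longest element and the rank one generators in `³D₄` (helper5). -/

namespace Cfsg.Agent.helper5.Chev

open Cfsg.Lie

theorem twD4_hD : chevD4 ∈ [chevG2, chevB2, chevD4, chevF4, chevE6, chevE7, chevE8] := by simp

def twD4_chunk : List ℕ := [1, 0, 2, 3]

def twD4_w0 : List ℕ := [1, 0, 2, 3, 1, 0, 2, 3, 1, 0, 2, 3]

theorem twD4_w0_eq : twD4_w0 = twD4_chunk ++ (twD4_chunk ++ twD4_chunk) := by decide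

set_option maxRecDepth 1000000 in
set_option maxHeartbeats 0 in
theorem twD4_w0C_0 : w0CheckRange chevD4 twD4_w0 0 24 = true := by decide +kernel

theorem twD4_w0_ok : W0OK chevD4 twD4_w0 := by
  apply w0OK_of_chunks chevD4 twD4_w0 (by decide +kernel) 24 1 (by decide +kernel) (by decide +kernel)
  intro k hk
  interval_cases k
  · exact twD4_w0C_0

set_option maxRecDepth 1000000 in
set_option maxHeartbeats 0 in
theorem twD4_hCR : cartanReflChk chevD4 = true := by decide +kernel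

set_option maxRecDepth 1000000 in
set_option maxHeartbeats 0 in
theorem twD4_orth13 : orthChk chevD4 18 13 = true := by decide +kernel

set_option maxRecDepth 1000000 in
set_option maxHeartbeats 0 in
theorem twD4_orth14 : orthChk chevD4 18 12 = true := by decide +kernel

set_option maxRecDepth 1000000 in
set_option maxHeartbeats 0 in
theorem twD4_orth34 : orthChk chevD4 13 12 = true := by decide +kernel

section
variable (K : Type*) [Field K] (q : ℕ)

theorem twD4_x_fixed (t : K) (ht : t ^ q = t) (r : ℕ) (hr : r ∈ [d4p2, d4m2]) :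
    xG chevD4 twD4_hD r t ∈ twistedD4 K q := by
  unfold twistedD4
  refine mem_genSubgroup chevD4 _ _ [(r, t)] ?_ ?_
  · left
    exact ⟨t, ht, r, hr, rfl⟩
  · rw [wordMat_one, xG_val]

theorem twD4_x_triple (t : K) (rs : ℕ × ℕ × ℕ)
    (hrs : rs ∈ [(d4p1, d4p3, d4p4), (d4m1, d4m3, d4m4)]) :
    xG chevD4 twD4_hD rs.1 t * xG chevD4 twD4_hD rs.2.1 (t ^ q) *
      xG chevD4 twD4_hD rs.2.2 (t ^ (q ^ 2)) ∈ twistedD4 K q := by
  unfold twistedD4
  refine mem_genSubgroup chevD4 _ _ [(rs.1, t), (rs.2.1, t ^ q), (rs.2.2, t ^ (q ^ 2))] ?_ ?_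
  · right
    exact ⟨t, rs, hrs, rfl⟩
  · rw [wordMat_three, Units.val_mul, Units.val_mul, xG_val, xG_val, xG_val]

variable {K} {q}

theorem twD4_n2 (hq1 : (-1 : K) ^ q = -1) : nGt chevD4 twD4_hD 14 (1 : K) ∈ twistedD4 K q := by
  rw [nGt_single]
  have e : chevD4.neg 14 = 9 := by decide
  rw [e]
  refine Subgroup.mul_mem _ (Subgroup.mul_mem _ ?_ ?_) ?_
  · exact twD4_x_fixed K q 1 (one_pow q) 14 (by decide)
  · exact twD4_x_fixed K q (-1) hq1 9 (by decide)
  · exact twD4_x_fixed K q 1 (one_pow q) 14 (by decide)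

theorem twD4_n134 (hq1 : (-1 : K) ^ q = -1) (hq2 : (-1 : K) ^ (q ^ 2) = -1) :
    nGt chevD4 twD4_hD 18 (1 : K) * nGt chevD4 twD4_hD 13 1 * nGt chevD4 twD4_hD 12 1 ∈
      twistedD4 K q := by
  rw [nGt_triple chevD4 twD4_hD 18 13 12 twD4_orth13 twD4_orth14 twD4_orth34]
  have e1 : chevD4.neg 18 = 5 := by decide
  have e2 : chevD4.neg 13 = 10 := by decide
  have e3 : chevD4.neg 12 = 11 := by decide
  rw [e1, e2, e3]
  have h1 := twD4_x_triple K q 1 (d4p1, d4p3, d4p4) (by decide)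
  have h2 := twD4_x_triple K q (-1) (d4m1, d4m3, d4m4) (by decide)
  rw [one_pow, one_pow] at h1
  rw [hq1, hq2] at h2
  exact Subgroup.mul_mem _ (Subgroup.mul_mem _ h1 h2) h1

theorem twD4_chunk_mem (hq1 : (-1 : K) ^ q = -1) (hq2 : (-1 : K) ^ (q ^ 2) = -1) :
    nW chevD4 twD4_hD twD4_chunk ∈ twistedD4 K q := by
  have e : nW (F := K) chevD4 twD4_hD twD4_chunk =
      nGt chevD4 twD4_hD 14 1 *
        (nGt chevD4 twD4_hD 18 1 * nGt chevD4 twD4_hD 13 1 * nGt chevD4 twD4_hD 12 1) := by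
    unfold twD4_chunk
    rw [nW_cons, nW_cons, nW_cons, nW_cons, nW_nil', mul_one]
    have s0 : chevD4.simple 0 = 18 := by decide
    have s1 : chevD4.simple 1 = 14 := by decide
    have s2 : chevD4.simple 2 = 13 := by decide
    have s3 : chevD4.simple 3 = 12 := by decide
    rw [s0, s1, s2, s3]
    simp only [mul_assoc]
  rw [e]
  exact Subgroup.mul_mem _ (twD4_n2 hq1) (twD4_n134 hq1 hq2)

/-- a representative of the longest element lies in `³D₄` -/
theorem twD4_n0_mem (hq1 : (-1 : K) ^ q = -1) (hq2 : (-1 : K) ^ (q ^ 2) = -1) :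
    nW chevD4 twD4_hD twD4_w0 ∈ twistedD4 K q := by
  rw [twD4_w0_eq, nW_append, nW_append]
  have h := twD4_chunk_mem hq1 hq2
  exact Subgroup.mul_mem _ h (Subgroup.mul_mem _ h h)

/-- every fundamental root subgroup is hit, modulo `U_p`, by an element of `³D₄` -/
theorem twD4_hgen (i : ℕ) (hi : i < chevD4.rank) :
    ∃ t : K, t ≠ 0 ∧ ∃ y1 ∈ Ui (F := K) chevD4 i, ∃ y2 ∈ Ui (F := K) chevD4 i,
      y1 * xG chevD4 twD4_hD (chevD4.simple i) t * y2 ∈ twistedD4 K q := by
  have hr : chevD4.rank = 4 := by decide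
  rw [hr] at hi
  have s0 : chevD4.simple 0 = 18 := by decide
  have s1 : chevD4.simple 1 = 14 := by decide
  have s2 : chevD4.simple 2 = 13 := by decide
  have s3 : chevD4.simple 3 = 12 := by decide
  have h134 := twD4_x_triple K q 1 (d4p1, d4p3, d4p4) (by decide)
  rw [one_pow, one_pow] at h134
  have e1 : (d4p1, d4p3, d4p4).1 = 18 := rfl
  have e3 : (d4p1, d4p3, d4p4).2.1 = 13 := rfl
  have e4 : (d4p1, d4p3, d4p4).2.2 = 12 := rfl
  rw [e1, e3, e4] at h134
  interval_cases i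
  · refine ⟨1, one_ne_zero, 1, Subgroup.one_mem _,
      xG chevD4 twD4_hD 13 1 * xG chevD4 twD4_hD 12 1, ?_, ?_⟩
    · exact Subgroup.mul_mem _ (xG_mem_Ui chevD4 twD4_hD 0 13 (by decide) (by decide) 1)
        (xG_mem_Ui chevD4 twD4_hD 0 12 (by decide) (by decide) 1)
    · rw [one_mul, s0, ← mul_assoc]
      exact h134
  · refine ⟨1, one_ne_zero, 1, Subgroup.one_mem _, 1, Subgroup.one_mem _, ?_⟩
    rw [one_mul, mul_one, s1]
    exact twD4_x_fixed K q 1 (one_pow q) 14 (by decide)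
  · refine ⟨1, one_ne_zero, xG chevD4 twD4_hD 18 1, ?_, xG chevD4 twD4_hD 12 1, ?_, ?_⟩
    · exact xG_mem_Ui chevD4 twD4_hD 2 18 (by decide) (by decide) 1
    · exact xG_mem_Ui chevD4 twD4_hD 2 12 (by decide) (by decide) 1
    · rw [s2]
      exact h134
  · refine ⟨1, one_ne_zero, xG chevD4 twD4_hD 18 1 * xG chevD4 twD4_hD 13 1, ?_,
      1, Subgroup.one_mem _, ?_⟩
    · exact Subgroup.mul_mem _ (xG_mem_Ui chevD4 twD4_hD 3 18 (by decide) (by decide) 1)
        (xG_mem_Ui chevD4 twD4_hD 3 13 (by decide) (by decide) 1)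
    · rw [mul_one, s3]
      exact h134

end

end Cfsg.Agent.helper5.Chev
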