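import Mathlib
import Cfsg.Agent.Lib_helper6_GraphChk
import Cfsg.Prelude.Def_ChevD4
import Cfsg.Prelude.Def_ChevE6

set_option autoImplicit false

/-! Certificates for the graph automorphisms of `E₆` and `D₄` (helper6). -/

namespace Cfsg.Agent.helper6.Graph

open Cfsg.Lie

def certE6 : Cert where
  rho := [5, 1, 4, 3, 2, 0]
  rhoInv := [5, 1, 4, 3, 2, 0]
  pi := [0, 1, 2, 5, 16, 3, 6, 17, 8, 19, 22, 11, 26, 30, 33, 35, 4, 7, 18, 9, 20, 23, 10, 21, 24, 25, 12, 27, 31, 34, 13, 28, 32, 14, 29, 15, 56, 42, 57, 39, 43, 58, 37, 40, 44, 59, 46, 47, 50, 61, 48, 51, 62, 53, 64, 67, 36, 38, 41, 45, 60, 49, 52, 63, 54, 65, 68, 55, 66, 69, 70, 71]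
  piInv := [0, 1, 2, 5, 16, 3, 6, 17, 8, 19, 22, 11, 26, 30, 33, 35, 4, 7, 18, 9, 20, 23, 10, 21, 24, 25, 12, 27, 31, 34, 13, 28, 32, 14, 29, 15, 56, 42, 57, 39, 43, 58, 37, 40, 44, 59, 46, 47, 50, 61, 48, 51, 62, 53, 64, 67, 36, 38, 41, 45, 60, 49, 52, 63, 54, 65, 68, 55, 66, 69, 70, 71]
  eps := [1, 1, 1, 1, -1, 1, 1, -1, 1, -1, -1, 1, -1, 1, -1, 1, -1, -1, 1, -1, 1, 1, -1, 1, 1, 1, -1, 1, -1, 1, 1, -1, 1, -1, 1, 1, 1, 1, -1, 1, -1, 1, 1, -1, 1, -1, 1, 1, 1, -1, 1, 1, -1, 1, -1, -1, 1, -1, 1, -1, 1, -1, -1, 1, -1, 1, 1, -1, 1, 1, 1, 1]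

set_option maxRecDepth 1000000 in
set_option maxHeartbeats 0 in
theorem permE6 : permCheck chevE6 certE6 = true := by decide +kernel

set_option maxRecDepth 1000000 in
set_option maxHeartbeats 0 in
theorem genPE6_0 : genCheck chevE6 certE6 (chevE6.simple 0) = true := by decide +kernel

set_option maxRecDepth 1000000 in
set_option maxHeartbeats 0 in
theorem genNE6_0 : genCheck chevE6 certE6 (chevE6.neg (chevE6.simple 0)) = true := by decide +kernel

set_option maxRecDepth 1000000 in
set_option maxHeartbeats 0 in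
theorem genPE6_1 : genCheck chevE6 certE6 (chevE6.simple 1) = true := by decide +kernel

set_option maxRecDepth 1000000 in
set_option maxHeartbeats 0 in
theorem genNE6_1 : genCheck chevE6 certE6 (chevE6.neg (chevE6.simple 1)) = true := by decide +kernel

set_option maxRecDepth 1000000 in
set_option maxHeartbeats 0 in
theorem genPE6_2 : genCheck chevE6 certE6 (chevE6.simple 2) = true := by decide +kernel

set_option maxRecDepth 1000000 in
set_option maxHeartbeats 0 in
theorem genNE6_2 : genCheck chevE6 certE6 (chevE6.neg (chevE6.simple 2)) = true := by decide +kernel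

set_option maxRecDepth 1000000 in
set_option maxHeartbeats 0 in
theorem genPE6_3 : genCheck chevE6 certE6 (chevE6.simple 3) = true := by decide +kernel

set_option maxRecDepth 1000000 in
set_option maxHeartbeats 0 in
theorem genNE6_3 : genCheck chevE6 certE6 (chevE6.neg (chevE6.simple 3)) = true := by decide +kernel

set_option maxRecDepth 1000000 in
set_option maxHeartbeats 0 in
theorem genPE6_4 : genCheck chevE6 certE6 (chevE6.simple 4) = true := by decide +kernel

set_option maxRecDepth 1000000 in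
set_option maxHeartbeats 0 in
theorem genNE6_4 : genCheck chevE6 certE6 (chevE6.neg (chevE6.simple 4)) = true := by decide +kernel

set_option maxRecDepth 1000000 in
set_option maxHeartbeats 0 in
theorem genPE6_5 : genCheck chevE6 certE6 (chevE6.simple 5) = true := by decide +kernel

set_option maxRecDepth 1000000 in
set_option maxHeartbeats 0 in
theorem genNE6_5 : genCheck chevE6 certE6 (chevE6.neg (chevE6.simple 5)) = true := by decide +kernel

theorem genE6 : ∀ i < chevE6.rank, genCheck chevE6 certE6 (chevE6.simple i) = true ∧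
    genCheck chevE6 certE6 (chevE6.neg (chevE6.simple i)) = true := by
  intro i hi
  have hn : chevE6.rank = 6 := rfl
  rw [hn] at hi
  interval_cases i
  · exact ⟨genPE6_0, genNE6_0⟩
  · exact ⟨genPE6_1, genNE6_1⟩
  · exact ⟨genPE6_2, genNE6_2⟩
  · exact ⟨genPE6_3, genNE6_3⟩
  · exact ⟨genPE6_4, genNE6_4⟩
  · exact ⟨genPE6_5, genNE6_5⟩

def certD4a : Cert where
  rho := [2, 1, 3, 0]
  rhoInv := [3, 1, 0, 2]
  pi := [0, 1, 6, 2, 7, 10, 3, 8, 4, 9, 11, 5, 18, 12, 14, 19, 15, 20, 13, 16, 21, 17, 22, 23]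
  piInv := [0, 1, 3, 6, 8, 11, 2, 4, 7, 9, 5, 10, 13, 18, 14, 16, 19, 21, 12, 15, 17, 20, 22, 23]
  eps := [1, 1, -1, 1, -1, 1, -1, 1, -1, 1, 1, 1, 1, 1, 1, -1, 1, -1, 1, -1, 1, -1, 1, 1]

set_option maxRecDepth 1000000 in
set_option maxHeartbeats 0 in
theorem permD4a : permCheck chevD4 certD4a = true := by decide +kernel

set_option maxRecDepth 1000000 in
set_option maxHeartbeats 0 in
theorem genPD4a_0 : genCheck chevD4 certD4a (chevD4.simple 0) = true := by decide +kernel

set_option maxRecDepth 1000000 in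
set_option maxHeartbeats 0 in
theorem genND4a_0 : genCheck chevD4 certD4a (chevD4.neg (chevD4.simple 0)) = true := by decide +kernel

set_option maxRecDepth 1000000 in
set_option maxHeartbeats 0 in
theorem genPD4a_1 : genCheck chevD4 certD4a (chevD4.simple 1) = true := by decide +kernel

set_option maxRecDepth 1000000 in
set_option maxHeartbeats 0 in
theorem genND4a_1 : genCheck chevD4 certD4a (chevD4.neg (chevD4.simple 1)) = true := by decide +kernel

set_option maxRecDepth 1000000 in
set_option maxHeartbeats 0 in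
theorem genPD4a_2 : genCheck chevD4 certD4a (chevD4.simple 2) = true := by decide +kernel

set_option maxRecDepth 1000000 in
set_option maxHeartbeats 0 in
theorem genND4a_2 : genCheck chevD4 certD4a (chevD4.neg (chevD4.simple 2)) = true := by decide +kernel

set_option maxRecDepth 1000000 in
set_option maxHeartbeats 0 in
theorem genPD4a_3 : genCheck chevD4 certD4a (chevD4.simple 3) = true := by decide +kernel

set_option maxRecDepth 1000000 in
set_option maxHeartbeats 0 in
theorem genND4a_3 : genCheck chevD4 certD4a (chevD4.neg (chevD4.simple 3)) = true := by decide +kernel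

theorem genD4a : ∀ i < chevD4.rank, genCheck chevD4 certD4a (chevD4.simple i) = true ∧
    genCheck chevD4 certD4a (chevD4.neg (chevD4.simple i)) = true := by
  intro i hi
  have hn : chevD4.rank = 4 := rfl
  rw [hn] at hi
  interval_cases i
  · exact ⟨genPD4a_0, genND4a_0⟩
  · exact ⟨genPD4a_1, genND4a_1⟩
  · exact ⟨genPD4a_2, genND4a_2⟩
  · exact ⟨genPD4a_3, genND4a_3⟩

def certD4b : Cert where
  rho := [3, 1, 0, 2]
  rhoInv := [2, 1, 3, 0]
  pi := [0, 1, 3, 6, 8, 11, 2, 4, 7, 9, 5, 10, 13, 18, 14, 16, 19, 21, 12, 15, 17, 20, 22, 23]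
  piInv := [0, 1, 6, 2, 7, 10, 3, 8, 4, 9, 11, 5, 18, 12, 14, 19, 15, 20, 13, 16, 21, 17, 22, 23]
  eps := [1, 1, 1, -1, -1, 1, -1, -1, 1, 1, 1, 1, 1, 1, 1, 1, -1, -1, 1, -1, -1, 1, 1, 1]

set_option maxRecDepth 1000000 in
set_option maxHeartbeats 0 in
theorem permD4b : permCheck chevD4 certD4b = true := by decide +kernel

set_option maxRecDepth 1000000 in
set_option maxHeartbeats 0 in
theorem genPD4b_0 : genCheck chevD4 certD4b (chevD4.simple 0) = true := by decide +kernel

set_option maxRecDepth 1000000 in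
set_option maxHeartbeats 0 in
theorem genND4b_0 : genCheck chevD4 certD4b (chevD4.neg (chevD4.simple 0)) = true := by decide +kernel

set_option maxRecDepth 1000000 in
set_option maxHeartbeats 0 in
theorem genPD4b_1 : genCheck chevD4 certD4b (chevD4.simple 1) = true := by decide +kernel

set_option maxRecDepth 1000000 in
set_option maxHeartbeats 0 in
theorem genND4b_1 : genCheck chevD4 certD4b (chevD4.neg (chevD4.simple 1)) = true := by decide +kernel

set_option maxRecDepth 1000000 in
set_option maxHeartbeats 0 in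
theorem genPD4b_2 : genCheck chevD4 certD4b (chevD4.simple 2) = true := by decide +kernel

set_option maxRecDepth 1000000 in
set_option maxHeartbeats 0 in
theorem genND4b_2 : genCheck chevD4 certD4b (chevD4.neg (chevD4.simple 2)) = true := by decide +kernel

set_option maxRecDepth 1000000 in
set_option maxHeartbeats 0 in
theorem genPD4b_3 : genCheck chevD4 certD4b (chevD4.simple 3) = true := by decide +kernel

set_option maxRecDepth 1000000 in
set_option maxHeartbeats 0 in
theorem genND4b_3 : genCheck chevD4 certD4b (chevD4.neg (chevD4.simple 3)) = true := by decide +kernel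

theorem genD4b : ∀ i < chevD4.rank, genCheck chevD4 certD4b (chevD4.simple i) = true ∧
    genCheck chevD4 certD4b (chevD4.neg (chevD4.simple i)) = true := by
  intro i hi
  have hn : chevD4.rank = 4 := rfl
  rw [hn] at hi
  interval_cases i
  · exact ⟨genPD4b_0, genND4b_0⟩
  · exact ⟨genPD4b_1, genND4b_1⟩
  · exact ⟨genPD4b_2, genND4b_2⟩
  · exact ⟨genPD4b_3, genND4b_3⟩

end Cfsg.Agent.helper6.Graph
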