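import Mathlib
import Cfsg.Agent.Lib_helper5_TwKL
import Cfsg.Agent.Lib_helper5_TwD4
import Cfsg.Agent.Lib_helper6_GraphCerts

set_option autoImplicit false

open Cfsg

/-! The twisting endomorphism of `D₄` and the unipotent subgroup of `³D₄` (helper5). -/

namespace Cfsg.Agent.helper5.Chev

open Cfsg.Lie Cfsg.Agent.helper6.Graph

theorem twD4_tw (K : Type*) [Field K] : TwData K chevD4 certD4a :=
  ⟨permOK_of_check _ _ permD4a, fun i hi => genOK_of_check _ _ _ (genD4a i hi).1,
    fun i hi => genOK_of_check _ _ _ (genD4a i hi).2⟩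

set_option maxRecDepth 1000000 in
set_option maxHeartbeats 0 in
theorem twD4_piChk : piReflChk chevD4 certD4a = true := by decide +kernel

theorem twD4_pi : PiOK chevD4 certD4a := piOK_of_check _ _ twD4_piChk

def twD4_cs : List (List ℕ) := [[3, 2, 0], [1], [3, 2, 0], [1], [3, 2, 0], [1]]

theorem twD4_cs_flat : twD4_w0.reverse = twD4_cs.flatten := by decide

set_option maxRecDepth 1000000 in
set_option maxHeartbeats 0 in
theorem twD4_red : redRB chevD4 twD4_cs.flatten = true := by decide +kernel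

theorem twD4_cs_mem : ∀ c ∈ twD4_cs, c ∈ [[3, 2, 0], [1]] := by decide

set_option maxRecDepth 1000000 in
set_option maxHeartbeats 0 in
theorem twD4_orth43 : orthChk chevD4 12 13 = true := by decide +kernel

set_option maxRecDepth 1000000 in
set_option maxHeartbeats 0 in
theorem twD4_orth41 : orthChk chevD4 12 18 = true := by decide +kernel

set_option maxRecDepth 1000000 in
set_option maxHeartbeats 0 in
theorem twD4_orth31 : orthChk chevD4 13 18 = true := by decide +kernel

theorem twD4_chunkOK : ∀ c ∈ twD4_cs, ChunkOK chevD4 certD4a c := by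
  intro c hc
  have h := twD4_cs_mem c hc
  simp only [List.mem_cons, List.not_mem_nil, or_false] at h
  rcases h with rfl | rfl
  · refine ⟨?_, by decide, by decide⟩
    unfold ChunkOrth
    rw [List.pairwise_cons, List.pairwise_cons]
    refine ⟨?_, ?_, List.pairwise_singleton _ _⟩
    · intro j hj
      simp only [List.mem_cons, List.not_mem_nil, or_false] at hj
      rcases hj with rfl | rfl
      · exact twD4_orth43
      · exact twD4_orth41
    · intro j hj
      rw [List.mem_singleton.mp hj]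
      exact twD4_orth31
  · exact ⟨List.pairwise_singleton _ _, by decide, by decide⟩

section
variable {K : Type*} [Field K] {q : ℕ}

theorem twD4_nR_mem (hq1 : (-1 : K) ^ q = -1) (hq2 : (-1 : K) ^ (q ^ 2) = -1) :
    ∀ c ∈ twD4_cs, nR (F := K) chevD4 twD4_hD c ∈ twistedD4 K q := by
  intro c hc
  have h := twD4_cs_mem c hc
  simp only [List.mem_cons, List.not_mem_nil, or_false] at h
  have s0 : chevD4.simple 0 = 18 := by decide
  have s1 : chevD4.simple 1 = 14 := by decide
  have s2 : chevD4.simple 2 = 13 := by decide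
  have s3 : chevD4.simple 3 = 12 := by decide
  rcases h with rfl | rfl
  · have e : nR (F := K) chevD4 twD4_hD [3, 2, 0] = nW chevD4 twD4_hD [0, 2, 3] := rfl
    rw [e, nW_cons, nW_cons, nW_cons, nW_nil', mul_one, s0, s2, s3, ← mul_assoc]
    exact twD4_n134 hq1 hq2
  · have e : nR (F := K) chevD4 twD4_hD [1] = nW chevD4 twD4_hD [1] := rfl
    rw [e, nW_cons, nW_nil', mul_one, s1]
    exact twD4_n2 hq1

variable (hq0 : q ≠ 0) (hfrob : ∀ a b : K, (a + b) ^ q = a ^ q + b ^ q)

theorem twD4_chunkX_mem :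
    ∀ c ∈ twD4_cs, ∀ t : ℕ → K,
      (∀ j ∈ c, frobHom K q hq0 hfrob (t (rhoInvOf certD4a j)) = t j) →
      chunkX chevD4 twD4_hD c t ∈ twistedD4 K q := by
  intro c hc t ht
  have h := twD4_cs_mem c hc
  simp only [List.mem_cons, List.not_mem_nil, or_false] at h
  have s0 : chevD4.simple 0 = 18 := by decide
  have s1 : chevD4.simple 1 = 14 := by decide
  have s2 : chevD4.simple 2 = 13 := by decide
  have s3 : chevD4.simple 3 = 12 := by decide
  rcases h with rfl | rfl
  · have h2 := ht 2 (by simp)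
    have e2 : rhoInvOf certD4a 2 = 0 := by decide
    rw [e2, frobHom_apply] at h2
    have h3 := ht 3 (by simp)
    have e3 : rhoInvOf certD4a 3 = 2 := by decide
    rw [e3, frobHom_apply, ← h2, ← pow_mul, ← sq] at h3
    have e : chunkX (F := K) chevD4 twD4_hD [3, 2, 0] t =
        xG chevD4 twD4_hD (chevD4.simple 0) (t 0) * xG chevD4 twD4_hD (chevD4.simple 2) (t 2) *
          xG chevD4 twD4_hD (chevD4.simple 3) (t 3) := by
      unfold chunkX
      simp [mul_assoc]
    rw [e, s0, s2, s3, ← h2, ← h3]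
    exact twD4_x_triple K q (t 0) (d4p1, d4p3, d4p4) (by decide)
  · have h1 := ht 1 (by simp)
    have e1 : rhoInvOf certD4a 1 = 1 := by decide
    rw [e1, frobHom_apply] at h1
    have e : chunkX (F := K) chevD4 twD4_hD [1] t = xG chevD4 twD4_hD (chevD4.simple 1) (t 1) := by
      unfold chunkX
      simp
    rw [e, s1]
    exact twD4_x_fixed K q (t 1) h1 14 (by decide)

/-- the twisting endomorphism of `D₄` -/
noncomputable def twD4_sigma : GL chevD4.Idx K →* GL chevD4.Idx K :=
  sigmaHom chevD4 (twD4_tw K).perm (frobHom K q hq0 hfrob)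

/-- `³D₄` is fixed elementwise by `σ` -/
theorem twD4_fix (hK3 : ∀ t : K, (t ^ (q ^ 2)) ^ q = t) :
    ∀ g ∈ twistedD4 K q, twD4_sigma hq0 hfrob g = g := by
  have hle : chevD4.genSubgroup K (d4Words K q) ≤
      (MonoidHom.eqLocus (twD4_sigma hq0 hfrob) (MonoidHom.id _)) := by
    unfold ChevalleyDatum.genSubgroup
    rw [Subgroup.closure_le]
    rintro g ⟨w, hw, hg⟩
    show twD4_sigma hq0 hfrob g = g
    have s0 : chevD4.simple 0 = 18 := by decide
    have s1 : chevD4.simple 1 = 14 := by decide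
    have s2 : chevD4.simple 2 = 13 := by decide
    have s3 : chevD4.simple 3 = 12 := by decide
    have n0 : chevD4.neg 18 = 5 := by decide
    have n1 : chevD4.neg 14 = 9 := by decide
    have n2 : chevD4.neg 13 = 10 := by decide
    have n3 : chevD4.neg 12 = 11 := by decide
    have r0 : rhoOf certD4a 0 = 2 := by decide
    have r1 : rhoOf certD4a 1 = 1 := by decide
    have r2 : rhoOf certD4a 2 = 3 := by decide
    have r3 : rhoOf certD4a 3 = 0 := by decide
    have hP := fun (i : ℕ) (hi : i < chevD4.rank) (t : K) =>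
      sigma_simple chevD4 twD4_hD (twD4_tw K) (frobHom K q hq0 hfrob) i hi t
    have hN := fun (i : ℕ) (hi : i < chevD4.rank) (t : K) =>
      sigma_negsimple chevD4 twD4_hD (twD4_tw K) (frobHom K q hq0 hfrob) i hi t
    have p0 := hP 0 (by decide); rw [s0, r0, s2] at p0
    have p1 := hP 1 (by decide); rw [s1, r1, s1] at p1
    have p2 := hP 2 (by decide); rw [s2, r2, s3] at p2
    have p3 := hP 3 (by decide); rw [s3, r3, s0] at p3
    have m0 := hN 0 (by decide); rw [s0, r0, s2, n0, n2] at m0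
    have m1 := hN 1 (by decide); rw [s1, r1, s1, n1] at m1
    have m2 := hN 2 (by decide); rw [s2, r2, s3, n2, n3] at m2
    have m3 := hN 3 (by decide); rw [s3, r3, s0, n3, n0] at m3
    rcases hw with ⟨t, ht, r, hr, rfl⟩ | ⟨t, rs, hrs, rfl⟩
    · rw [wordMat_one] at hg
      rw [eq_xG chevD4 twD4_hD g r t hg]
      simp only [List.mem_cons, List.not_mem_nil, or_false] at hr
      unfold twD4_sigma
      rcases hr with rfl | rfl
      · show sigmaHom chevD4 _ _ (xG chevD4 twD4_hD 14 t) = _
        rw [p1, frobHom_apply, ht]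
        rfl
      · show sigmaHom chevD4 _ _ (xG chevD4 twD4_hD 9 t) = _
        rw [m1, frobHom_apply, ht]
        rfl
    · rw [wordMat_three] at hg
      have e : g = xG chevD4 twD4_hD rs.1 t * xG chevD4 twD4_hD rs.2.1 (t ^ q) *
          xG chevD4 twD4_hD rs.2.2 (t ^ (q ^ 2)) := by
        apply Units.ext
        rw [hg, Units.val_mul, Units.val_mul, xG_val, xG_val, xG_val]
      rw [e]
      simp only [List.mem_cons, List.not_mem_nil, or_false] at hrs
      unfold twD4_sigma
      have hqq : ∀ t : K, (t ^ q) ^ q = t ^ (q ^ 2) := fun t => by rw [← pow_mul, ← sq]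
      rcases hrs with rfl | rfl
      · show sigmaHom chevD4 _ _ (xG chevD4 twD4_hD 18 t * xG chevD4 twD4_hD 13 (t ^ q) *
          xG chevD4 twD4_hD 12 (t ^ (q ^ 2))) = _
        rw [map_mul, map_mul, p0, p2, p3, frobHom_apply, frobHom_apply, frobHom_apply, hK3, hqq]
        have c1 := (orth_commute (F := K) chevD4 twD4_hD 18 13 twD4_orth13 t (t ^ q)).1
        have c2 := (orth_commute (F := K) chevD4 twD4_hD 18 12 twD4_orth14 t (t ^ (q ^ 2))).1
        rw [((c1.mul_right c2).eq).symm, mul_assoc]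
        rfl
      · show sigmaHom chevD4 _ _ (xG chevD4 twD4_hD 5 t * xG chevD4 twD4_hD 10 (t ^ q) *
          xG chevD4 twD4_hD 11 (t ^ (q ^ 2))) = _
        rw [map_mul, map_mul, m0, m2, m3, frobHom_apply, frobHom_apply, frobHom_apply, hK3, hqq]
        have c1 := (orth_commute (F := K) chevD4 twD4_hD 18 13 twD4_orth13 t (t ^ q)).2.2.2
        have c2 := (orth_commute (F := K) chevD4 twD4_hD 18 12 twD4_orth14 t (t ^ (q ^ 2))).2.2.2
        rw [n0, n2] at c1
        rw [n0, n3] at c2
        rw [((c1.mul_right c2).eq).symm, mul_assoc]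
        rfl
  exact fun g hg => hle hg

/-- the `σ`-fixed elements of `U` lie in `³D₄` -/
theorem twD4_fixU_mem (hq1 : (-1 : K) ^ q = -1) (hq2 : (-1 : K) ^ (q ^ 2) = -1) :
    ∀ u ∈ chevD4.posUnipotent K, twD4_sigma hq0 hfrob u = u → u ∈ twistedD4 K q :=
  fix_U_mem chevD4 twD4_hD (twD4_tw K) (frobHom K q hq0 hfrob) (twistedD4 K q) twD4_cs twD4_w0
    twD4_w0_ok twD4_cs_flat twD4_red twD4_chunkOK (twD4_nR_mem hq1 hq2)
    (twD4_chunkX_mem hq0 hfrob)

end

section
variable {K : Type*} [Field K] [Fintype K] {q : ℕ}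

/-- `|U ∩ ³D₄(q)| = q ^ 12` -/
theorem twD4_card_U (hq : IsPrimePow q) (hK : Fintype.card K = q ^ 3) :
    Nat.card ↥(chevD4.posUnipotent K ⊓ twistedD4 K q) = q ^ 12 := by
  have hq2' : 2 ≤ q := hq.two_le
  have hq0 : q ≠ 0 := by omega
  have hq1 : (-1 : K) ^ q = -1 := neg_one_pow_q1 hK
  have hq2 : (-1 : K) ^ (q ^ 2) = -1 := neg_one_pow_q hK 2
  have hfrob : ∀ a b : K, (a + b) ^ q = a ^ q + b ^ q := by
    intro a b
    have := frob_add hq hK 1 a b
    rwa [pow_one] at this
  have hK3 : ∀ t : K, (t ^ (q ^ 2)) ^ q = t := by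
    intro t
    rw [← pow_mul, ← pow_succ, ← hK, FiniteField.pow_card]
  have hmem : ∀ u : GL chevD4.Idx K, u ∈ chevD4.posUnipotent K ⊓ twistedD4 K q ↔
      (u ∈ SR (F := K) chevD4 twD4_hD twD4_cs.flatten ∧ twD4_sigma hq0 hfrob u = u) := by
    intro u
    constructor
    · rintro ⟨hu, hg⟩
      refine ⟨?_, twD4_fix hq0 hfrob hK3 u hg⟩
      have := U_sub_SR (K := K) chevD4 twD4_hD twD4_w0 twD4_w0_ok
        (by rw [twD4_cs_flat]; exact twD4_red) u hu
      rwa [twD4_cs_flat] at this
    · rintro ⟨hs, hfix⟩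
      have hu : u ∈ chevD4.posUnipotent K :=
        Uneg_le_U chevD4 twD4_hD _ (SR_sub_Uneg chevD4 twD4_hD _ twD4_red hs)
      exact ⟨hu, twD4_fixU_mem hq0 hfrob hq1 hq2 u hu hfix⟩
  rw [Nat.card_congr (Equiv.subtypeEquivRight hmem)]
  have hlen : twD4_cs.flatten.length = 12 := by decide
  rw [← hlen]
  unfold twD4_sigma
  apply card_fix_SR chevD4 twD4_hD (twD4_tw K) (frobHom K q hq0 hfrob) q twD4_cs twD4_red
    twD4_chunkOK
  intro c hc
  have h := twD4_cs_mem c hc
  simp only [List.mem_cons, List.not_mem_nil, or_false] at h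
  have hφ3 : ∀ s : K, frobHom K q hq0 hfrob (frobHom K q hq0 hfrob (frobHom K q hq0 hfrob s)) = s := by
    intro s
    rw [frobHom_apply, frobHom_apply, frobHom_apply, ← pow_mul s q q, ← sq]
    exact hK3 s
  have hcK : Nat.card K = q ^ 3 := by rw [Nat.card_eq_fintype_card, hK]
  have hcF : Nat.card {s : K // frobHom K q hq0 hfrob s = s} = q :=
    card_fixed_frob (by omega) hK
  rcases h with rfl | rfl
  · exact ⟨_, _, chunkCount_triple (frobHom K q hq0 hfrob) q 0 2 3 (by decide) (by decide)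
      (by decide) (by decide) (by decide) (by decide) hφ3 hcK⟩
  · exact ⟨_, _, chunkCount_single (frobHom K q hq0 hfrob) q 1 (by decide) hcF⟩

end

end Cfsg.Agent.helper5.Chev
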