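import Mathlib
import Cfsg.Agent.Lib_helper5_TwCore2

set_option autoImplicit false

open Cfsg

/-! The longest element and the rank one generators in `²E₆` (helper5). -/

namespace Cfsg.Agent.helper5.Chev

open Cfsg.Lie

theorem twE6_hD : chevE6 ∈ [chevG2, chevB2, chevD4, chevF4, chevE6, chevE7, chevE8] := by simp

def twE6_chunk : List ℕ := [1, 3, 2, 4, 0, 5]

def twE6_w0 : List ℕ := [1, 3, 2, 4, 0, 5, 1, 3, 2, 4, 0, 5, 1, 3, 2, 4, 0, 5, 1, 3, 2, 4, 0, 5,
  1, 3, 2, 4, 0, 5, 1, 3, 2, 4, 0, 5]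

theorem twE6_w0_eq : twE6_w0 = twE6_chunk ++ (twE6_chunk ++ (twE6_chunk ++ (twE6_chunk ++
    (twE6_chunk ++ twE6_chunk)))) := by decide

set_option maxRecDepth 1000000 in
set_option maxHeartbeats 0 in
theorem twE6_w0C_0 : w0CheckRange chevE6 twE6_w0 0 12 = true := by decide +kernel

set_option maxRecDepth 1000000 in
set_option maxHeartbeats 0 in
theorem twE6_w0C_1 : w0CheckRange chevE6 twE6_w0 12 12 = true := by decide +kernel

set_option maxRecDepth 1000000 in
set_option maxHeartbeats 0 in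
theorem twE6_w0C_2 : w0CheckRange chevE6 twE6_w0 24 12 = true := by decide +kernel

set_option maxRecDepth 1000000 in
set_option maxHeartbeats 0 in
theorem twE6_w0C_3 : w0CheckRange chevE6 twE6_w0 36 12 = true := by decide +kernel

set_option maxRecDepth 1000000 in
set_option maxHeartbeats 0 in
theorem twE6_w0C_4 : w0CheckRange chevE6 twE6_w0 48 12 = true := by decide +kernel

set_option maxRecDepth 1000000 in
set_option maxHeartbeats 0 in
theorem twE6_w0C_5 : w0CheckRange chevE6 twE6_w0 60 12 = true := by decide +kernel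

theorem twE6_w0_ok : W0OK chevE6 twE6_w0 := by
  apply w0OK_of_chunks chevE6 twE6_w0 (by decide +kernel) 12 6 (by decide +kernel) (by decide +kernel)
  intro k hk
  interval_cases k
  · exact twE6_w0C_0
  · exact twE6_w0C_1
  · exact twE6_w0C_2
  · exact twE6_w0C_3
  · exact twE6_w0C_4
  · exact twE6_w0C_5

set_option maxRecDepth 1000000 in
set_option maxHeartbeats 0 in
theorem twE6_hCR : cartanReflChk chevE6 = true := by decide +kernel

set_option maxRecDepth 1000000 in
set_option maxHeartbeats 0 in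
theorem twE6_orth35 : orthChk chevE6 42 37 = true := by decide +kernel

set_option maxRecDepth 1000000 in
set_option maxHeartbeats 0 in
theorem twE6_orth16 : orthChk chevE6 56 36 = true := by decide +kernel

section
variable (K : Type*) [Field K] (q : ℕ)

theorem twE6_x_fixed (t : K) (ht : t ^ q = t) (r : ℕ) (hr : r ∈ [e6p2, e6m2, e6p4, e6m4]) :
    xG chevE6 twE6_hD r t ∈ twistedE6 K q := by
  unfold twistedE6
  refine mem_genSubgroup chevE6 _ _ [(r, t)] ?_ ?_
  · left
    exact ⟨t, ht, r, hr, rfl⟩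
  · rw [wordMat_one, xG_val]

theorem twE6_x_pair (t : K) (rs : ℕ × ℕ)
    (hrs : rs ∈ [(e6p1, e6p6), (e6m1, e6m6), (e6p3, e6p5), (e6m3, e6m5)]) :
    xG chevE6 twE6_hD rs.1 t * xG chevE6 twE6_hD rs.2 (t ^ q) ∈ twistedE6 K q := by
  unfold twistedE6
  refine mem_genSubgroup chevE6 _ _ [(rs.1, t), (rs.2, t ^ q)] ?_ ?_
  · right
    exact ⟨t, rs, hrs, rfl⟩
  · rw [wordMat_two, Units.val_mul, xG_val, xG_val]

variable {K} {q}

theorem twE6_n2 (hq1 : (-1 : K) ^ q = -1) : nGt chevE6 twE6_hD 46 (1 : K) ∈ twistedE6 K q := by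
  rw [nGt_single]
  have e : chevE6.neg 46 = 25 := by decide
  rw [e]
  refine Subgroup.mul_mem _ (Subgroup.mul_mem _ ?_ ?_) ?_
  · exact twE6_x_fixed K q 1 (one_pow q) 46 (by decide)
  · exact twE6_x_fixed K q (-1) hq1 25 (by decide)
  · exact twE6_x_fixed K q 1 (one_pow q) 46 (by decide)

theorem twE6_n4 (hq1 : (-1 : K) ^ q = -1) : nGt chevE6 twE6_hD 39 (1 : K) ∈ twistedE6 K q := by
  rw [nGt_single]
  have e : chevE6.neg 39 = 32 := by decide
  rw [e]
  refine Subgroup.mul_mem _ (Subgroup.mul_mem _ ?_ ?_) ?_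
  · exact twE6_x_fixed K q 1 (one_pow q) 39 (by decide)
  · exact twE6_x_fixed K q (-1) hq1 32 (by decide)
  · exact twE6_x_fixed K q 1 (one_pow q) 39 (by decide)

theorem twE6_n35 (hq1 : (-1 : K) ^ q = -1) :
    nGt chevE6 twE6_hD 42 (1 : K) * nGt chevE6 twE6_hD 37 1 ∈ twistedE6 K q := by
  rw [nGt_pair chevE6 twE6_hD 42 37 twE6_orth35]
  have e1 : chevE6.neg 42 = 29 := by decide
  have e2 : chevE6.neg 37 = 34 := by decide
  rw [e1, e2]
  have h1 := twE6_x_pair K q 1 (e6p3, e6p5) (by decide)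
  have h2 := twE6_x_pair K q (-1) (e6m3, e6m5) (by decide)
  rw [one_pow] at h1
  rw [hq1] at h2
  exact Subgroup.mul_mem _ (Subgroup.mul_mem _ h1 h2) h1

theorem twE6_n16 (hq1 : (-1 : K) ^ q = -1) :
    nGt chevE6 twE6_hD 56 (1 : K) * nGt chevE6 twE6_hD 36 1 ∈ twistedE6 K q := by
  rw [nGt_pair chevE6 twE6_hD 56 36 twE6_orth16]
  have e1 : chevE6.neg 56 = 15 := by decide
  have e2 : chevE6.neg 36 = 35 := by decide
  rw [e1, e2]
  have h1 := twE6_x_pair K q 1 (e6p1, e6p6) (by decide)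
  have h2 := twE6_x_pair K q (-1) (e6m1, e6m6) (by decide)
  rw [one_pow] at h1
  rw [hq1] at h2
  exact Subgroup.mul_mem _ (Subgroup.mul_mem _ h1 h2) h1

theorem twE6_chunk_mem (hq1 : (-1 : K) ^ q = -1) :
    nW chevE6 twE6_hD twE6_chunk ∈ twistedE6 K q := by
  have e : nW (F := K) chevE6 twE6_hD twE6_chunk =
      nGt chevE6 twE6_hD 46 1 * (nGt chevE6 twE6_hD 39 1 *
        ((nGt chevE6 twE6_hD 42 1 * nGt chevE6 twE6_hD 37 1) *
          (nGt chevE6 twE6_hD 56 1 * nGt chevE6 twE6_hD 36 1))) := by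
    unfold twE6_chunk
    rw [nW_cons, nW_cons, nW_cons, nW_cons, nW_cons, nW_cons, nW_nil', mul_one]
    have s0 : chevE6.simple 0 = 56 := by decide
    have s1 : chevE6.simple 1 = 46 := by decide
    have s2 : chevE6.simple 2 = 42 := by decide
    have s3 : chevE6.simple 3 = 39 := by decide
    have s4 : chevE6.simple 4 = 37 := by decide
    have s5 : chevE6.simple 5 = 36 := by decide
    rw [s0, s1, s2, s3, s4, s5]
    simp only [mul_assoc]
  rw [e]
  exact Subgroup.mul_mem _ (twE6_n2 hq1) (Subgroup.mul_mem _ (twE6_n4 hq1)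
    (Subgroup.mul_mem _ (twE6_n35 hq1) (twE6_n16 hq1)))

/-- a representative of the longest element lies in `²E₆` -/
theorem twE6_n0_mem (hq1 : (-1 : K) ^ q = -1) : nW chevE6 twE6_hD twE6_w0 ∈ twistedE6 K q := by
  rw [twE6_w0_eq, nW_append, nW_append, nW_append, nW_append, nW_append]
  have h := twE6_chunk_mem hq1
  exact Subgroup.mul_mem _ h (Subgroup.mul_mem _ h (Subgroup.mul_mem _ h (Subgroup.mul_mem _ h
    (Subgroup.mul_mem _ h h))))

/-- every fundamental root subgroup is hit, modulo `U_p`, by an element of `²E₆` -/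
theorem twE6_hgen (i : ℕ) (hi : i < chevE6.rank) :
    ∃ t : K, t ≠ 0 ∧ ∃ y1 ∈ Ui (F := K) chevE6 i, ∃ y2 ∈ Ui (F := K) chevE6 i,
      y1 * xG chevE6 twE6_hD (chevE6.simple i) t * y2 ∈ twistedE6 K q := by
  have hr : chevE6.rank = 6 := by decide
  rw [hr] at hi
  have s0 : chevE6.simple 0 = 56 := by decide
  have s1 : chevE6.simple 1 = 46 := by decide
  have s2 : chevE6.simple 2 = 42 := by decide
  have s3 : chevE6.simple 3 = 39 := by decide
  have s4 : chevE6.simple 4 = 37 := by decide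
  have s5 : chevE6.simple 5 = 36 := by decide
  have h16 := twE6_x_pair K q 1 (e6p1, e6p6) (by decide)
  have h35 := twE6_x_pair K q 1 (e6p3, e6p5) (by decide)
  rw [one_pow] at h16 h35
  interval_cases i
  · refine ⟨1, one_ne_zero, 1, Subgroup.one_mem _, xG chevE6 twE6_hD 36 1, ?_, ?_⟩
    · exact xG_mem_Ui chevE6 twE6_hD 0 36 (by decide) (by decide) 1
    · rw [one_mul, s0]
      exact h16
  · refine ⟨1, one_ne_zero, 1, Subgroup.one_mem _, 1, Subgroup.one_mem _, ?_⟩
    rw [one_mul, mul_one, s1]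
    exact twE6_x_fixed K q 1 (one_pow q) 46 (by decide)
  · refine ⟨1, one_ne_zero, 1, Subgroup.one_mem _, xG chevE6 twE6_hD 37 1, ?_, ?_⟩
    · exact xG_mem_Ui chevE6 twE6_hD 2 37 (by decide) (by decide) 1
    · rw [one_mul, s2]
      exact h35
  · refine ⟨1, one_ne_zero, 1, Subgroup.one_mem _, 1, Subgroup.one_mem _, ?_⟩
    rw [one_mul, mul_one, s3]
    exact twE6_x_fixed K q 1 (one_pow q) 39 (by decide)
  · refine ⟨1, one_ne_zero, xG chevE6 twE6_hD 42 1, ?_, 1, Subgroup.one_mem _, ?_⟩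
    · exact xG_mem_Ui chevE6 twE6_hD 4 42 (by decide) (by decide) 1
    · rw [mul_one, s4]
      exact h35
  · refine ⟨1, one_ne_zero, xG chevE6 twE6_hD 56 1, ?_, 1, Subgroup.one_mem _, ?_⟩
    · exact xG_mem_Ui chevE6 twE6_hD 5 56 (by decide) (by decide) 1
    · rw [mul_one, s5]
      exact h16

end

end Cfsg.Agent.helper5.Chev
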