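import Mathlib
import Cfsg.Agent.Lib_helper5_TwKL
import Cfsg.Agent.Lib_helper5_TwE6
import Cfsg.Agent.Lib_helper6_GraphCerts

set_option autoImplicit false

open Cfsg

/-! The twisting endomorphism of `E₆` and the unipotent subgroup of `²E₆` (helper5). -/

namespace Cfsg.Agent.helper5.Chev

open Cfsg.Lie Cfsg.Agent.helper6.Graph

theorem twE6_tw (K : Type*) [Field K] : TwData K chevE6 certE6 :=
  ⟨permOK_of_check _ _ permE6, fun i hi => genOK_of_check _ _ _ (genE6 i hi).1,
    fun i hi => genOK_of_check _ _ _ (genE6 i hi).2⟩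

set_option maxRecDepth 1000000 in
set_option maxHeartbeats 0 in
theorem twE6_piChk : piReflChk chevE6 certE6 = true := by decide +kernel

theorem twE6_pi : PiOK chevE6 certE6 := piOK_of_check _ _ twE6_piChk

def twE6_cs : List (List ℕ) :=
  [[5, 0], [4, 2], [3], [1], [5, 0], [4, 2], [3], [1], [5, 0], [4, 2], [3], [1],
   [5, 0], [4, 2], [3], [1], [5, 0], [4, 2], [3], [1], [5, 0], [4, 2], [3], [1]]

theorem twE6_cs_flat : twE6_w0.reverse = twE6_cs.flatten := by decide

set_option maxRecDepth 1000000 in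
set_option maxHeartbeats 0 in
theorem twE6_red : redRB chevE6 twE6_cs.flatten = true := by decide +kernel

theorem twE6_cs_mem : ∀ c ∈ twE6_cs, c ∈ [[5, 0], [4, 2], [3], [1]] := by decide

set_option maxRecDepth 1000000 in
set_option maxHeartbeats 0 in
theorem twE6_orth61 : orthChk chevE6 36 56 = true := by decide +kernel

set_option maxRecDepth 1000000 in
set_option maxHeartbeats 0 in
theorem twE6_orth53 : orthChk chevE6 37 42 = true := by decide +kernel

theorem twE6_chunkOK : ∀ c ∈ twE6_cs, ChunkOK chevE6 certE6 c := by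
  intro c hc
  have h := twE6_cs_mem c hc
  simp only [List.mem_cons, List.not_mem_nil, or_false] at h
  rcases h with rfl | rfl | rfl | rfl
  · refine ⟨?_, by decide, by decide⟩
    unfold ChunkOrth
    rw [List.pairwise_cons]
    refine ⟨?_, List.pairwise_singleton _ _⟩
    intro j hj
    rw [List.mem_singleton.mp hj]
    exact twE6_orth61
  · refine ⟨?_, by decide, by decide⟩
    unfold ChunkOrth
    rw [List.pairwise_cons]
    refine ⟨?_, List.pairwise_singleton _ _⟩
    intro j hj
    rw [List.mem_singleton.mp hj]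
    exact twE6_orth53
  · exact ⟨List.pairwise_singleton _ _, by decide, by decide⟩
  · exact ⟨List.pairwise_singleton _ _, by decide, by decide⟩

section
variable {K : Type*} [Field K] {q : ℕ}

theorem twE6_nR_mem (hq1 : (-1 : K) ^ q = -1) :
    ∀ c ∈ twE6_cs, nR (F := K) chevE6 twE6_hD c ∈ twistedE6 K q := by
  intro c hc
  have h := twE6_cs_mem c hc
  simp only [List.mem_cons, List.not_mem_nil, or_false] at h
  have s0 : chevE6.simple 0 = 56 := by decide
  have s1 : chevE6.simple 1 = 46 := by decide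
  have s2 : chevE6.simple 2 = 42 := by decide
  have s3 : chevE6.simple 3 = 39 := by decide
  have s4 : chevE6.simple 4 = 37 := by decide
  have s5 : chevE6.simple 5 = 36 := by decide
  rcases h with rfl | rfl | rfl | rfl
  · have e : nR (F := K) chevE6 twE6_hD [5, 0] = nW chevE6 twE6_hD [0, 5] := rfl
    rw [e, nW_cons, nW_cons, nW_nil', mul_one, s0, s5]
    exact twE6_n16 hq1
  · have e : nR (F := K) chevE6 twE6_hD [4, 2] = nW chevE6 twE6_hD [2, 4] := rfl
    rw [e, nW_cons, nW_cons, nW_nil', mul_one, s2, s4]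
    exact twE6_n35 hq1
  · have e : nR (F := K) chevE6 twE6_hD [3] = nW chevE6 twE6_hD [3] := rfl
    rw [e, nW_cons, nW_nil', mul_one, s3]
    exact twE6_n4 hq1
  · have e : nR (F := K) chevE6 twE6_hD [1] = nW chevE6 twE6_hD [1] := rfl
    rw [e, nW_cons, nW_nil', mul_one, s1]
    exact twE6_n2 hq1

variable (hq0 : q ≠ 0) (hfrob : ∀ a b : K, (a + b) ^ q = a ^ q + b ^ q)

theorem twE6_chunkX_mem :
    ∀ c ∈ twE6_cs, ∀ t : ℕ → K,
      (∀ j ∈ c, frobHom K q hq0 hfrob (t (rhoInvOf certE6 j)) = t j) →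
      chunkX chevE6 twE6_hD c t ∈ twistedE6 K q := by
  intro c hc t ht
  have h := twE6_cs_mem c hc
  simp only [List.mem_cons, List.not_mem_nil, or_false] at h
  have s0 : chevE6.simple 0 = 56 := by decide
  have s1 : chevE6.simple 1 = 46 := by decide
  have s2 : chevE6.simple 2 = 42 := by decide
  have s3 : chevE6.simple 3 = 39 := by decide
  have s4 : chevE6.simple 4 = 37 := by decide
  have s5 : chevE6.simple 5 = 36 := by decide
  rcases h with rfl | rfl | rfl | rfl
  · have h5 := ht 5 (by simp)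
    have e5 : rhoInvOf certE6 5 = 0 := by decide
    rw [e5, frobHom_apply] at h5
    have e : chunkX (F := K) chevE6 twE6_hD [5, 0] t =
        xG chevE6 twE6_hD (chevE6.simple 0) (t 0) * xG chevE6 twE6_hD (chevE6.simple 5) (t 5) := by
      unfold chunkX
      simp
    rw [e, s0, s5, ← h5]
    exact twE6_x_pair K q (t 0) (e6p1, e6p6) (by decide)
  · have h4 := ht 4 (by simp)
    have e4 : rhoInvOf certE6 4 = 2 := by decide
    rw [e4, frobHom_apply] at h4
    have e : chunkX (F := K) chevE6 twE6_hD [4, 2] t =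
        xG chevE6 twE6_hD (chevE6.simple 2) (t 2) * xG chevE6 twE6_hD (chevE6.simple 4) (t 4) := by
      unfold chunkX
      simp
    rw [e, s2, s4, ← h4]
    exact twE6_x_pair K q (t 2) (e6p3, e6p5) (by decide)
  · have h3 := ht 3 (by simp)
    have e3 : rhoInvOf certE6 3 = 3 := by decide
    rw [e3, frobHom_apply] at h3
    have e : chunkX (F := K) chevE6 twE6_hD [3] t = xG chevE6 twE6_hD (chevE6.simple 3) (t 3) := by
      unfold chunkX
      simp
    rw [e, s3]
    exact twE6_x_fixed K q (t 3) h3 39 (by decide)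
  · have h1 := ht 1 (by simp)
    have e1 : rhoInvOf certE6 1 = 1 := by decide
    rw [e1, frobHom_apply] at h1
    have e : chunkX (F := K) chevE6 twE6_hD [1] t = xG chevE6 twE6_hD (chevE6.simple 1) (t 1) := by
      unfold chunkX
      simp
    rw [e, s1]
    exact twE6_x_fixed K q (t 1) h1 46 (by decide)

/-- the twisting endomorphism of `E₆` -/
noncomputable def twE6_sigma : GL chevE6.Idx K →* GL chevE6.Idx K :=
  sigmaHom chevE6 (twE6_tw K).perm (frobHom K q hq0 hfrob)

/-- `²E₆` is fixed elementwise by `σ` -/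
theorem twE6_fix (hK2 : ∀ t : K, (t ^ q) ^ q = t) :
    ∀ g ∈ twistedE6 K q, twE6_sigma hq0 hfrob g = g := by
  have hle : chevE6.genSubgroup K (e6Words K q) ≤
      (MonoidHom.eqLocus (twE6_sigma hq0 hfrob) (MonoidHom.id _)) := by
    unfold ChevalleyDatum.genSubgroup
    rw [Subgroup.closure_le]
    rintro g ⟨w, hw, hg⟩
    show twE6_sigma hq0 hfrob g = g
    have s0 : chevE6.simple 0 = 56 := by decide
    have s1 : chevE6.simple 1 = 46 := by decide
    have s2 : chevE6.simple 2 = 42 := by decide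
    have s3 : chevE6.simple 3 = 39 := by decide
    have s4 : chevE6.simple 4 = 37 := by decide
    have s5 : chevE6.simple 5 = 36 := by decide
    have n0 : chevE6.neg 56 = 15 := by decide
    have n1 : chevE6.neg 46 = 25 := by decide
    have n2 : chevE6.neg 42 = 29 := by decide
    have n3 : chevE6.neg 39 = 32 := by decide
    have n4 : chevE6.neg 37 = 34 := by decide
    have n5 : chevE6.neg 36 = 35 := by decide
    have r0 : rhoOf certE6 0 = 5 := by decide
    have r1 : rhoOf certE6 1 = 1 := by decide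
    have r2 : rhoOf certE6 2 = 4 := by decide
    have r3 : rhoOf certE6 3 = 3 := by decide
    have r4 : rhoOf certE6 4 = 2 := by decide
    have r5 : rhoOf certE6 5 = 0 := by decide
    have hP := fun (i : ℕ) (hi : i < chevE6.rank) (t : K) =>
      sigma_simple chevE6 twE6_hD (twE6_tw K) (frobHom K q hq0 hfrob) i hi t
    have hN := fun (i : ℕ) (hi : i < chevE6.rank) (t : K) =>
      sigma_negsimple chevE6 twE6_hD (twE6_tw K) (frobHom K q hq0 hfrob) i hi t
    have p0 := hP 0 (by decide); rw [s0, r0, s5] at p0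
    have p1 := hP 1 (by decide); rw [s1, r1, s1] at p1
    have p2 := hP 2 (by decide); rw [s2, r2, s4] at p2
    have p3 := hP 3 (by decide); rw [s3, r3, s3] at p3
    have p4 := hP 4 (by decide); rw [s4, r4, s2] at p4
    have p5 := hP 5 (by decide); rw [s5, r5, s0] at p5
    have m0 := hN 0 (by decide); rw [s0, r0, s5, n0, n5] at m0
    have m1 := hN 1 (by decide); rw [s1, r1, s1, n1] at m1
    have m2 := hN 2 (by decide); rw [s2, r2, s4, n2, n4] at m2
    have m3 := hN 3 (by decide); rw [s3, r3, s3, n3] at m3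
    have m4 := hN 4 (by decide); rw [s4, r4, s2, n4, n2] at m4
    have m5 := hN 5 (by decide); rw [s5, r5, s0, n5, n0] at m5
    rcases hw with ⟨t, ht, r, hr, rfl⟩ | ⟨t, rs, hrs, rfl⟩
    · rw [wordMat_one] at hg
      rw [eq_xG chevE6 twE6_hD g r t hg]
      simp only [List.mem_cons, List.not_mem_nil, or_false] at hr
      unfold twE6_sigma
      rcases hr with rfl | rfl | rfl | rfl
      · show sigmaHom chevE6 _ _ (xG chevE6 twE6_hD 46 t) = _
        rw [p1, frobHom_apply, ht]
        rfl
      · show sigmaHom chevE6 _ _ (xG chevE6 twE6_hD 25 t) = _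
        rw [m1, frobHom_apply, ht]
        rfl
      · show sigmaHom chevE6 _ _ (xG chevE6 twE6_hD 39 t) = _
        rw [p3, frobHom_apply, ht]
        rfl
      · show sigmaHom chevE6 _ _ (xG chevE6 twE6_hD 32 t) = _
        rw [m3, frobHom_apply, ht]
        rfl
    · rw [wordMat_two] at hg
      have e : g = xG chevE6 twE6_hD rs.1 t * xG chevE6 twE6_hD rs.2 (t ^ q) := by
        apply Units.ext
        rw [hg, Units.val_mul, xG_val, xG_val]
      rw [e]
      simp only [List.mem_cons, List.not_mem_nil, or_false] at hrs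
      unfold twE6_sigma
      rcases hrs with rfl | rfl | rfl | rfl
      · show sigmaHom chevE6 _ _ (xG chevE6 twE6_hD 56 t * xG chevE6 twE6_hD 36 (t ^ q)) = _
        rw [map_mul, p0, p5, frobHom_apply, frobHom_apply, hK2]
        exact ((orth_commute (F := K) chevE6 twE6_hD 56 36 twE6_orth16 t (t ^ q)).1).eq.symm
      · show sigmaHom chevE6 _ _ (xG chevE6 twE6_hD 15 t * xG chevE6 twE6_hD 35 (t ^ q)) = _
        rw [map_mul, m0, m5, frobHom_apply, frobHom_apply, hK2]
        have h1 := (orth_commute (F := K) chevE6 twE6_hD 56 36 twE6_orth16 t (t ^ q)).2.2.2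
        rw [n0, n5] at h1
        exact h1.eq.symm
      · show sigmaHom chevE6 _ _ (xG chevE6 twE6_hD 42 t * xG chevE6 twE6_hD 37 (t ^ q)) = _
        rw [map_mul, p2, p4, frobHom_apply, frobHom_apply, hK2]
        exact ((orth_commute (F := K) chevE6 twE6_hD 42 37 twE6_orth35 t (t ^ q)).1).eq.symm
      · show sigmaHom chevE6 _ _ (xG chevE6 twE6_hD 29 t * xG chevE6 twE6_hD 34 (t ^ q)) = _
        rw [map_mul, m2, m4, frobHom_apply, frobHom_apply, hK2]
        have h1 := (orth_commute (F := K) chevE6 twE6_hD 42 37 twE6_orth35 t (t ^ q)).2.2.2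
        rw [n2, n4] at h1
        exact h1.eq.symm
  exact fun g hg => hle hg

/-- the `σ`-fixed elements of `U` lie in `²E₆` -/
theorem twE6_fixU_mem (hq1 : (-1 : K) ^ q = -1) :
    ∀ u ∈ chevE6.posUnipotent K, twE6_sigma hq0 hfrob u = u → u ∈ twistedE6 K q :=
  fix_U_mem chevE6 twE6_hD (twE6_tw K) (frobHom K q hq0 hfrob) (twistedE6 K q) twE6_cs twE6_w0
    twE6_w0_ok twE6_cs_flat twE6_red twE6_chunkOK (twE6_nR_mem hq1)
    (twE6_chunkX_mem hq0 hfrob)

end

end Cfsg.Agent.helper5.Chev

namespace Cfsg.Agent.helper5.Chev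

open Cfsg.Lie Cfsg.Agent.helper6.Graph

section
variable {K : Type*} [Field K] [Fintype K] {q : ℕ}

/-- `|U ∩ ²E₆(q)| = q ^ 36` -/
theorem twE6_card_U (hq : IsPrimePow q) (hK : Fintype.card K = q ^ 2) :
    Nat.card ↥(chevE6.posUnipotent K ⊓ twistedE6 K q) = q ^ 36 := by
  have hq2 : 2 ≤ q := hq.two_le
  have hq0 : q ≠ 0 := by omega
  have hq1 : (-1 : K) ^ q = -1 := neg_one_pow_q1 hK
  have hfrob : ∀ a b : K, (a + b) ^ q = a ^ q + b ^ q := by
    intro a b
    have := frob_add hq hK 1 a b
    rwa [pow_one] at this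
  have hK2 : ∀ t : K, (t ^ q) ^ q = t := by
    intro t
    rw [← pow_mul, ← sq, ← hK, FiniteField.pow_card]
  have hmem : ∀ u : GL chevE6.Idx K, u ∈ chevE6.posUnipotent K ⊓ twistedE6 K q ↔
      (u ∈ SR (F := K) chevE6 twE6_hD twE6_cs.flatten ∧ twE6_sigma hq0 hfrob u = u) := by
    intro u
    constructor
    · rintro ⟨hu, hg⟩
      refine ⟨?_, twE6_fix hq0 hfrob hK2 u hg⟩
      have := U_sub_SR (K := K) chevE6 twE6_hD twE6_w0 twE6_w0_ok
        (by rw [twE6_cs_flat]; exact twE6_red) u hu
      rwa [twE6_cs_flat] at this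
    · rintro ⟨hs, hfix⟩
      have hu : u ∈ chevE6.posUnipotent K :=
        Uneg_le_U chevE6 twE6_hD _ (SR_sub_Uneg chevE6 twE6_hD _ twE6_red hs)
      exact ⟨hu, twE6_fixU_mem hq0 hfrob hq1 u hu hfix⟩
  rw [Nat.card_congr (Equiv.subtypeEquivRight hmem)]
  have hlen : twE6_cs.flatten.length = 36 := by decide
  rw [← hlen]
  unfold twE6_sigma
  apply card_fix_SR chevE6 twE6_hD (twE6_tw K) (frobHom K q hq0 hfrob) q twE6_cs twE6_red
    twE6_chunkOK
  intro c hc
  have h := twE6_cs_mem c hc
  simp only [List.mem_cons, List.not_mem_nil, or_false] at h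
  have hφ2 : ∀ s : K, frobHom K q hq0 hfrob (frobHom K q hq0 hfrob s) = s := hK2
  have hcK : Nat.card K = q ^ 2 := by rw [Nat.card_eq_fintype_card, hK]
  have hcF : Nat.card {s : K // frobHom K q hq0 hfrob s = s} = q :=
    card_fixed_frob (by omega) hK
  rcases h with rfl | rfl | rfl | rfl
  · exact ⟨_, _, chunkCount_pair (frobHom K q hq0 hfrob) q 0 5 (by decide) (by decide) (by decide)
      hφ2 hcK⟩
  · exact ⟨_, _, chunkCount_pair (frobHom K q hq0 hfrob) q 2 4 (by decide) (by decide) (by decide)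
      hφ2 hcK⟩
  · exact ⟨_, _, chunkCount_single (frobHom K q hq0 hfrob) q 3 (by decide) hcF⟩
  · exact ⟨_, _, chunkCount_single (frobHom K q hq0 hfrob) q 1 (by decide) hcF⟩

end

end Cfsg.Agent.helper5.Chev
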