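import Mathlib
import Cfsg.Agent.Lib_helper5_TwBN3
import Cfsg.Agent.Lib_helper5_TwE6Sig

set_option autoImplicit false

open Cfsg

/-! The (B,N)-pair of `²E₆(q)` (helper5). -/

namespace Cfsg.Agent.helper5.Chev

open Cfsg.Lie Cfsg.Agent.helper6.Graph

/-- the `ρ`-orbits of fundamental reflections of `E₆` -/
def twE6_cs0 : List (List ℕ) := [[1], [3], [2, 4], [0, 5]]

set_option maxRecDepth 1000000 in
set_option maxHeartbeats 0 in
theorem twE6_chk0 : ∀ c ∈ twE6_cs0, chunkBNChk chevE6 certE6 c = true := by decide +kernel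

set_option maxRecDepth 1000000 in
set_option maxHeartbeats 0 in
theorem twE6_inj0 : chunksInjChk chevE6 twE6_cs0 = true := by decide +kernel

set_option maxRecDepth 1000000 in
set_option maxHeartbeats 0 in
theorem twE6_red0 : ∀ c ∈ twE6_cs0, redRB chevE6 c.reverse = true := by decide +kernel

theorem twE6_cs0_lt : ∀ c ∈ twE6_cs0, ∀ i ∈ c, i < chevE6.rank := by decide

theorem twE6_cs0_rev : ∀ c ∈ twE6_cs0, c.reverse ∈ twE6_cs := by decide

section
variable {F : Type*} [Field F] (D : ChevalleyDatum)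
  (hD : D ∈ [chevG2, chevB2, chevD4, chevF4, chevE6, chevE7, chevE8])

include hD in
theorem chunkX_mem_U (c : List ℕ) (hc : ∀ i ∈ c, i < D.rank) (t : ℕ → F) :
    chunkX D hD c t ∈ D.posUnipotent F := by
  have hR := rootsOK_of_mem D hD
  unfold chunkX
  apply Subgroup.list_prod_mem
  intro x hx
  obtain ⟨i, hi, rfl⟩ := List.mem_map.mp hx
  unfold ChevalleyDatum.posUnipotent
  apply Subgroup.subset_closure
  exact ⟨_, _, hR.simple_pos i (hc i (List.mem_reverse.mp hi)), xG_val D hD _ _⟩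

end

section
variable {K : Type*} [Field K] {q : ℕ}

theorem twE6_cs0_mem (hq1 : (-1 : K) ^ q = -1) :
    ∀ c ∈ twE6_cs0, nW (F := K) chevE6 twE6_hD c ∈ twistedE6 K q := by
  intro c hc
  have s0 : chevE6.simple 0 = 56 := by decide
  have s1 : chevE6.simple 1 = 46 := by decide
  have s2 : chevE6.simple 2 = 42 := by decide
  have s3 : chevE6.simple 3 = 39 := by decide
  have s4 : chevE6.simple 4 = 37 := by decide
  have s5 : chevE6.simple 5 = 36 := by decide
  simp only [twE6_cs0, List.mem_cons, List.not_mem_nil, or_false] at hc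
  rcases hc with rfl | rfl | rfl | rfl
  · rw [nW_cons, nW_nil', mul_one, s1]
    exact twE6_n2 hq1
  · rw [nW_cons, nW_nil', mul_one, s3]
    exact twE6_n4 hq1
  · rw [nW_cons, nW_cons, nW_nil', mul_one, s2, s4]
    exact twE6_n35 hq1
  · rw [nW_cons, nW_cons, nW_nil', mul_one, s0, s5]
    exact twE6_n16 hq1

theorem twE6_n0_closure : nW (F := K) chevE6 twE6_hD twE6_w0 ∈
    Subgroup.closure {s : GL chevE6.Idx K | ∃ c ∈ twE6_cs0, s = nW chevE6 twE6_hD c} := by
  have h : nW (F := K) chevE6 twE6_hD twE6_chunk ∈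
      Subgroup.closure {s : GL chevE6.Idx K | ∃ c ∈ twE6_cs0, s = nW chevE6 twE6_hD c} := by
    have e : twE6_chunk = [1] ++ ([3] ++ ([2, 4] ++ [0, 5])) := rfl
    rw [e, nW_append, nW_append, nW_append]
    refine Subgroup.mul_mem _ ?_ (Subgroup.mul_mem _ ?_ (Subgroup.mul_mem _ ?_ ?_))
    · exact Subgroup.subset_closure ⟨[1], by decide, rfl⟩
    · exact Subgroup.subset_closure ⟨[3], by decide, rfl⟩
    · exact Subgroup.subset_closure ⟨[2, 4], by decide, rfl⟩
    · exact Subgroup.subset_closure ⟨[0, 5], by decide, rfl⟩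
  rw [twE6_w0_eq, nW_append, nW_append, nW_append, nW_append, nW_append]
  exact Subgroup.mul_mem _ h (Subgroup.mul_mem _ h (Subgroup.mul_mem _ h (Subgroup.mul_mem _ h
    (Subgroup.mul_mem _ h h))))

theorem twE6_gen (hq1 : (-1 : K) ^ q = -1) : twistedE6 K q ≤ Subgroup.closure
    (((chevE6.borelSubgroup K ⊓ twistedE6 K q : Subgroup (GL chevE6.Idx K)) :
      Set (GL chevE6.Idx K)) ∪ {s | ∃ c ∈ twE6_cs0, s = nW chevE6 twE6_hD c}) := by
  have hSG : {s : GL chevE6.Idx K | ∃ c ∈ twE6_cs0, s = nW chevE6 twE6_hD c} ⊆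
      (twistedE6 K q : Set (GL chevE6.Idx K)) := by
    rintro s ⟨c, hc, rfl⟩
    exact twE6_cs0_mem hq1 c hc
  have hle : chevE6.genSubgroup K (e6Words K q) ≤ Subgroup.closure
      (((chevE6.borelSubgroup K ⊓ twistedE6 K q : Subgroup (GL chevE6.Idx K)) :
        Set (GL chevE6.Idx K)) ∪ {s | ∃ c ∈ twE6_cs0, s = nW chevE6 twE6_hD c}) := by
    unfold ChevalleyDatum.genSubgroup
    rw [Subgroup.closure_le]
    rintro g ⟨w, hw, hgw⟩
    have hgG : g ∈ twistedE6 K q := Subgroup.subset_closure ⟨w, hw, hgw⟩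
    apply tw_gen_of_UV chevE6 twE6_hD (twistedE6 K q) _ hSG twE6_w0 twE6_w0_ok twE6_n0_closure g hgG
    have hpos : ∀ r t, chevE6.IsPosRoot r → xG (F := K) chevE6 twE6_hD r t ∈ chevE6.posUnipotent K :=
      fun r t hr => Subgroup.subset_closure ⟨r, t, hr, xG_val chevE6 twE6_hD r t⟩
    have hneg : ∀ r t, chevE6.IsNegRoot r → xG (F := K) chevE6 twE6_hD r t ∈ chevE6.negUnipotent K :=
      fun r t hr => Subgroup.subset_closure ⟨r, t, hr, xG_val chevE6 twE6_hD r t⟩
    rcases hw with ⟨t, ht, r, hr, rfl⟩ | ⟨t, rs, hrs, rfl⟩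
    · rw [wordMat_one] at hgw
      rw [eq_xG chevE6 twE6_hD g r t hgw]
      simp only [List.mem_cons, List.not_mem_nil, or_false] at hr
      rcases hr with rfl | rfl | rfl | rfl
      · left; exact hpos _ _ (by decide)
      · right; exact hneg _ _ (by decide)
      · left; exact hpos _ _ (by decide)
      · right; exact hneg _ _ (by decide)
    · rw [wordMat_two] at hgw
      have e : g = xG chevE6 twE6_hD rs.1 t * xG chevE6 twE6_hD rs.2 (t ^ q) := by
        apply Units.ext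
        rw [hgw, Units.val_mul, xG_val, xG_val]
      rw [e]
      simp only [List.mem_cons, List.not_mem_nil, or_false] at hrs
      rcases hrs with rfl | rfl | rfl | rfl
      · left; exact Subgroup.mul_mem _ (hpos _ _ (by decide)) (hpos _ _ (by decide))
      · right; exact Subgroup.mul_mem _ (hneg _ _ (by decide)) (hneg _ _ (by decide))
      · left; exact Subgroup.mul_mem _ (hpos _ _ (by decide)) (hpos _ _ (by decide))
      · right; exact Subgroup.mul_mem _ (hneg _ _ (by decide)) (hneg _ _ (by decide))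
  exact hle

variable (hq0 : q ≠ 0) (hfrob : ∀ a b : K, (a + b) ^ q = a ^ q + b ^ q)

include hq0 hfrob in
theorem twE6_ne : ∀ c ∈ twE6_cs0, ∃ x ∈ chevE6.borelSubgroup K ⊓ twistedE6 K q,
    nW chevE6 twE6_hD c * x * (nW chevE6 twE6_hD c)⁻¹ ∉ chevE6.borelSubgroup K := by
  intro c hc
  have hrev := twE6_cs0_rev c hc
  have hOK := twE6_chunkOK c.reverse hrev
  have e : nW (F := K) chevE6 twE6_hD c = nR chevE6 twE6_hD c.reverse := by
    unfold nR
    rw [List.reverse_reverse]
  refine ⟨chunkX chevE6 twE6_hD c.reverse (fun _ => (1 : K)), ⟨?_, ?_⟩, ?_⟩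
  · exact U_le_B chevE6 twE6_hD (chunkX_mem_U chevE6 twE6_hD _ hOK.lt _)
  · apply twE6_chunkX_mem hq0 hfrob c.reverse hrev
    intro j _
    exact map_one _
  · rw [e]
    apply chunk_conj_not_mem_B chevE6 twE6_hD c.reverse hOK.orth (twE6_red0 c hc)
    intro h
    have h2 : c = [] := by simpa using h
    subst h2
    revert hc
    decide

end

section
variable {K : Type*} [Field K] [Fintype K] {q : ℕ}

/-- the (B,N)-pair of `²E₆(q)` -/
theorem twE6_bnpair (hq : IsPrimePow q) (hK : Fintype.card K = q ^ 2) :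
    ∃ Q : Cfsg.BNPair ↥(twistedE6 K q),
      Q.B = (chevE6.borelSubgroup K ⊓ twistedE6 K q).subgroupOf (twistedE6 K q) ∧
      Q.N = (chevE6.monomialSubgroup K ⊓ twistedE6 K q).subgroupOf (twistedE6 K q) ∧
      Q.S = {k : ↥(twistedE6 K q) | (k : GL chevE6.Idx K) ∈
        {s : GL chevE6.Idx K | ∃ c ∈ twE6_cs0, s = nW chevE6 twE6_hD c}} := by
  have hq2 : 2 ≤ q := hq.two_le
  have hq0 : q ≠ 0 := by omega
  have hq1 : (-1 : K) ^ q = -1 := neg_one_pow_q1 hK
  have hfrob : ∀ a b : K, (a + b) ^ q = a ^ q + b ^ q := by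
    intro a b
    have := frob_add hq hK 1 a b
    rwa [pow_one] at this
  have hK2 : ∀ t : K, (t ^ q) ^ q = t := by
    intro t
    rw [← pow_mul, ← sq, ← hK, FiniteField.pow_card]
  exact tw_bnpair chevE6 twE6_hD (twE6_tw K) twE6_pi (frobHom K q hq0 hfrob)
    (commOK_of_mem _ twE6_hD) (posCommOK_of_mem _ twE6_hD) (twistedE6 K q)
    (twE6_fix hq0 hfrob hK2) (twE6_fixU_mem hq0 hfrob hq1) twE6_cs0 twE6_cs0_lt
    (twE6_cs0_mem hq1) twE6_chk0 twE6_inj0 (twE6_gen hq1) (twE6_ne hq0 hfrob)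

end

end Cfsg.Agent.helper5.Chev
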