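import Mathlib
import Cfsg.Agent.Lib_helper5_TwBN3
import Cfsg.Agent.Lib_helper5_TwD4Sig
import Cfsg.Agent.Lib_helper5_TwE6BN

set_option autoImplicit false

open Cfsg

/-! The (B,N)-pair of `³D₄(q)` (helper5). -/

namespace Cfsg.Agent.helper5.Chev

open Cfsg.Lie Cfsg.Agent.helper6.Graph

/-- the `ρ`-orbits of fundamental reflections of `D₄` -/
def twD4_cs0 : List (List ℕ) := [[1], [0, 2, 3]]

set_option maxRecDepth 1000000 in
set_option maxHeartbeats 0 in
theorem twD4_chk0 : ∀ c ∈ twD4_cs0, chunkBNChk chevD4 certD4a c = true := by decide +kernel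

set_option maxRecDepth 1000000 in
set_option maxHeartbeats 0 in
theorem twD4_inj0 : chunksInjChk chevD4 twD4_cs0 = true := by decide +kernel

set_option maxRecDepth 1000000 in
set_option maxHeartbeats 0 in
theorem twD4_red0 : ∀ c ∈ twD4_cs0, redRB chevD4 c.reverse = true := by decide +kernel

theorem twD4_cs0_lt : ∀ c ∈ twD4_cs0, ∀ i ∈ c, i < chevD4.rank := by decide

theorem twD4_cs0_rev : ∀ c ∈ twD4_cs0, c.reverse ∈ twD4_cs := by decide

section
variable {K : Type*} [Field K] {q : ℕ}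

theorem twD4_cs0_mem (hq1 : (-1 : K) ^ q = -1) (hq2 : (-1 : K) ^ (q ^ 2) = -1) :
    ∀ c ∈ twD4_cs0, nW (F := K) chevD4 twD4_hD c ∈ twistedD4 K q := by
  intro c hc
  have s0 : chevD4.simple 0 = 18 := by decide
  have s1 : chevD4.simple 1 = 14 := by decide
  have s2 : chevD4.simple 2 = 13 := by decide
  have s3 : chevD4.simple 3 = 12 := by decide
  simp only [twD4_cs0, List.mem_cons, List.not_mem_nil, or_false] at hc
  rcases hc with rfl | rfl
  · rw [nW_cons, nW_nil', mul_one, s1]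
    exact twD4_n2 hq1
  · rw [nW_cons, nW_cons, nW_cons, nW_nil', mul_one, s0, s2, s3, ← mul_assoc]
    exact twD4_n134 hq1 hq2

theorem twD4_n0_closure : nW (F := K) chevD4 twD4_hD twD4_w0 ∈
    Subgroup.closure {s : GL chevD4.Idx K | ∃ c ∈ twD4_cs0, s = nW chevD4 twD4_hD c} := by
  have h : nW (F := K) chevD4 twD4_hD twD4_chunk ∈
      Subgroup.closure {s : GL chevD4.Idx K | ∃ c ∈ twD4_cs0, s = nW chevD4 twD4_hD c} := by
    have e : twD4_chunk = [1] ++ [0, 2, 3] := rfl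
    rw [e, nW_append]
    refine Subgroup.mul_mem _ ?_ ?_
    · exact Subgroup.subset_closure ⟨[1], by decide, rfl⟩
    · exact Subgroup.subset_closure ⟨[0, 2, 3], by decide, rfl⟩
  rw [twD4_w0_eq, nW_append, nW_append]
  exact Subgroup.mul_mem _ h (Subgroup.mul_mem _ h h)

theorem twD4_gen (hq1 : (-1 : K) ^ q = -1) (hq2 : (-1 : K) ^ (q ^ 2) = -1) :
    twistedD4 K q ≤ Subgroup.closure
    (((chevD4.borelSubgroup K ⊓ twistedD4 K q : Subgroup (GL chevD4.Idx K)) :
      Set (GL chevD4.Idx K)) ∪ {s | ∃ c ∈ twD4_cs0, s = nW chevD4 twD4_hD c}) := by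
  have hSG : {s : GL chevD4.Idx K | ∃ c ∈ twD4_cs0, s = nW chevD4 twD4_hD c} ⊆
      (twistedD4 K q : Set (GL chevD4.Idx K)) := by
    rintro s ⟨c, hc, rfl⟩
    exact twD4_cs0_mem hq1 hq2 c hc
  have hle : chevD4.genSubgroup K (d4Words K q) ≤ Subgroup.closure
      (((chevD4.borelSubgroup K ⊓ twistedD4 K q : Subgroup (GL chevD4.Idx K)) :
        Set (GL chevD4.Idx K)) ∪ {s | ∃ c ∈ twD4_cs0, s = nW chevD4 twD4_hD c}) := by
    unfold ChevalleyDatum.genSubgroup
    rw [Subgroup.closure_le]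
    rintro g ⟨w, hw, hgw⟩
    have hgG : g ∈ twistedD4 K q := Subgroup.subset_closure ⟨w, hw, hgw⟩
    apply tw_gen_of_UV chevD4 twD4_hD (twistedD4 K q) _ hSG twD4_w0 twD4_w0_ok twD4_n0_closure g hgG
    have hpos : ∀ r t, chevD4.IsPosRoot r → xG (F := K) chevD4 twD4_hD r t ∈ chevD4.posUnipotent K :=
      fun r t hr => Subgroup.subset_closure ⟨r, t, hr, xG_val chevD4 twD4_hD r t⟩
    have hneg : ∀ r t, chevD4.IsNegRoot r → xG (F := K) chevD4 twD4_hD r t ∈ chevD4.negUnipotent K :=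
      fun r t hr => Subgroup.subset_closure ⟨r, t, hr, xG_val chevD4 twD4_hD r t⟩
    rcases hw with ⟨t, ht, r, hr, rfl⟩ | ⟨t, rs, hrs, rfl⟩
    · rw [wordMat_one] at hgw
      rw [eq_xG chevD4 twD4_hD g r t hgw]
      simp only [List.mem_cons, List.not_mem_nil, or_false] at hr
      rcases hr with rfl | rfl
      · left; exact hpos _ _ (by decide)
      · right; exact hneg _ _ (by decide)
    · rw [wordMat_three] at hgw
      have e : g = xG chevD4 twD4_hD rs.1 t * xG chevD4 twD4_hD rs.2.1 (t ^ q) *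
          xG chevD4 twD4_hD rs.2.2 (t ^ (q ^ 2)) := by
        apply Units.ext
        rw [hgw, Units.val_mul, Units.val_mul, xG_val, xG_val, xG_val]
      rw [e]
      simp only [List.mem_cons, List.not_mem_nil, or_false] at hrs
      rcases hrs with rfl | rfl
      · left
        exact Subgroup.mul_mem _ (Subgroup.mul_mem _ (hpos _ _ (by decide)) (hpos _ _ (by decide)))
          (hpos _ _ (by decide))
      · right
        exact Subgroup.mul_mem _ (Subgroup.mul_mem _ (hneg _ _ (by decide)) (hneg _ _ (by decide)))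
          (hneg _ _ (by decide))
  exact hle

variable (hq0 : q ≠ 0) (hfrob : ∀ a b : K, (a + b) ^ q = a ^ q + b ^ q)

include hq0 hfrob in
theorem twD4_ne : ∀ c ∈ twD4_cs0, ∃ x ∈ chevD4.borelSubgroup K ⊓ twistedD4 K q,
    nW chevD4 twD4_hD c * x * (nW chevD4 twD4_hD c)⁻¹ ∉ chevD4.borelSubgroup K := by
  intro c hc
  have hrev := twD4_cs0_rev c hc
  have hOK := twD4_chunkOK c.reverse hrev
  have e : nW (F := K) chevD4 twD4_hD c = nR chevD4 twD4_hD c.reverse := by
    unfold nR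
    rw [List.reverse_reverse]
  refine ⟨chunkX chevD4 twD4_hD c.reverse (fun _ => (1 : K)), ⟨?_, ?_⟩, ?_⟩
  · exact U_le_B chevD4 twD4_hD (chunkX_mem_U chevD4 twD4_hD _ hOK.lt _)
  · apply twD4_chunkX_mem hq0 hfrob c.reverse hrev
    intro j _
    exact map_one _
  · rw [e]
    apply chunk_conj_not_mem_B chevD4 twD4_hD c.reverse hOK.orth (twD4_red0 c hc)
    intro h
    have h2 : c = [] := by simpa using h
    subst h2
    revert hc
    decide

end

section
variable {K : Type*} [Field K] [Fintype K] {q : ℕ}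

/-- the (B,N)-pair of `³D₄(q)` -/
theorem twD4_bnpair (hq : IsPrimePow q) (hK : Fintype.card K = q ^ 3) :
    ∃ Q : Cfsg.BNPair ↥(twistedD4 K q),
      Q.B = (chevD4.borelSubgroup K ⊓ twistedD4 K q).subgroupOf (twistedD4 K q) ∧
      Q.N = (chevD4.monomialSubgroup K ⊓ twistedD4 K q).subgroupOf (twistedD4 K q) ∧
      Q.S = {k : ↥(twistedD4 K q) | (k : GL chevD4.Idx K) ∈
        {s : GL chevD4.Idx K | ∃ c ∈ twD4_cs0, s = nW chevD4 twD4_hD c}} := by
  have hq2' : 2 ≤ q := hq.two_le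
  have hq0 : q ≠ 0 := by omega
  have hq1 : (-1 : K) ^ q = -1 := neg_one_pow_q1 hK
  have hq2 : (-1 : K) ^ (q ^ 2) = -1 := neg_one_pow_q hK 2
  have hfrob : ∀ a b : K, (a + b) ^ q = a ^ q + b ^ q := by
    intro a b
    have := frob_add hq hK 1 a b
    rwa [pow_one] at this
  have hK3 : ∀ t : K, (t ^ (q ^ 2)) ^ q = t := by
    intro t
    rw [← pow_mul, ← pow_succ, ← hK, FiniteField.pow_card]
  exact tw_bnpair chevD4 twD4_hD (twD4_tw K) twD4_pi (frobHom K q hq0 hfrob)
    (commOK_of_mem _ twD4_hD) (posCommOK_of_mem _ twD4_hD) (twistedD4 K q)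
    (twD4_fix hq0 hfrob hK3) (twD4_fixU_mem hq0 hfrob hq1 hq2) twD4_cs0 twD4_cs0_lt
    (twD4_cs0_mem hq1 hq2) twD4_chk0 twD4_inj0 (twD4_gen hq1 hq2) (twD4_ne hq0 hfrob)

end

end Cfsg.Agent.helper5.Chev
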