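import Mathlib
import Cfsg.Agent.Lib_helper5_TwEnumDefs

set_option autoImplicit false

/-! Chunk-word enumeration certificate for the twisted Weyl group of type D4 (generated, helper5). -/

namespace Cfsg.Agent.helper5.Chev

open Cfsg.Lie

def twcsrD4 : List (List ℕ) := [[1], [3, 2, 0]]

set_option maxRecDepth 1000000 in
def twvsD4 : List (List (List ℕ)) :=
  [[], [[3, 2, 0]], [[1]], [[3, 2, 0], [1]], [[1], [3, 2, 0]], [[3, 2, 0], [1], [3, 2, 0]],
    [[1], [3, 2, 0], [1]], [[3, 2, 0], [1], [3, 2, 0], [1]], [[1], [3, 2, 0], [1], [3, 2, 0]],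
    [[3, 2, 0], [1], [3, 2, 0], [1], [3, 2, 0]], [[1], [3, 2, 0], [1], [3, 2, 0], [1]],
    [[3, 2, 0], [1], [3, 2, 0], [1], [3, 2, 0], [1]]]

end Cfsg.Agent.helper5.Chev
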