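import Mathlib
import Cfsg.Agent.Lib_helper5_TwEnumD4DefsV
import Cfsg.Agent.Lib_helper5_TwEnumD4DefsP

set_option autoImplicit false

/-! Chunk-word enumeration certificate for the twisted Weyl group of type D4 (generated, helper5). -/

namespace Cfsg.Agent.helper5.Chev

open Cfsg.Lie

set_option maxRecDepth 1000000 in
def twnxtD4 : List (List ℕ) :=
  [[2, 1], [3, 0], [0, 4], [1, 5], [6, 2], [7, 3], [4, 8], [5, 9], [10, 6], [11, 7], [8, 11],
    [9, 10]]

end Cfsg.Agent.helper5.Chev
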