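import Mathlib
import Cfsg.Agent.Lib_helper5_TwEnumD4Defs
import Cfsg.Agent.Lib_helper5_ChevSortChk
import Cfsg.Agent.Lib_helper5_TwEnumD4_c00

set_option autoImplicit false

namespace Cfsg.Agent.helper5.Chev

open Cfsg.Lie

set_option maxRecDepth 1000000 in
set_option maxHeartbeats 0 in
theorem twnodupD4 : twpermsD4.Nodup :=
  nodup_of_chainB _ (by decide +kernel)

set_option maxRecDepth 1000000 in
set_option maxHeartbeats 0 in
theorem twenumD4 : TwEnum chevD4 twcsrD4 twvsD4 twpermsD4 twnxtD4 where
  hlenP := by decide +kernel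
  h0 := by decide +kernel
  hk := by
    apply twenum_of_chunks chevD4 twcsrD4 twvsD4 twpermsD4 twnxtD4 12 1 (by norm_num)
      (by decide +kernel)
    intro k hk
    interval_cases k
    · exact twenumD4_c0
  hnd := twnodupD4

set_option maxRecDepth 1000000 in
set_option maxHeartbeats 0 in
theorem twlenD4 : twvsD4.length = 12 := by decide +kernel

set_option maxRecDepth 1000000 in
set_option maxHeartbeats 0 in
theorem twcountsD4 : (List.range 13).map
    (fun j => (twvsD4.map fun v => v.flatten.length).count j) =
    [1, 1, 0, 1, 2, 1, 0, 1, 2, 1, 0, 1, 1] := by decide +kernel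

set_option maxRecDepth 1000000 in
set_option maxHeartbeats 0 in
theorem twboundD4 : ∀ x ∈ twvsD4.map (fun v => v.flatten.length), x < 13 := by
  decide +kernel

end Cfsg.Agent.helper5.Chev
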