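import Mathlib
import Cfsg.Agent.Lib_helper5_TwCox
import Cfsg.Agent.Lib_helper5_TwEnumD4
import Cfsg.Agent.Lib_helper5_TwD4BN
import Cfsg.Agent.Lib_helper5_CoxDG2

set_option autoImplicit false
open Cfsg

/-! `N¹ / H¹` for `³D₄(q)` is the Coxeter group of type `G₂` (helper5). -/

namespace Cfsg.Agent.helper5.Chev

open Cfsg.Lie Cfsg.Agent.helper6.Graph Cfsg.Agent.helper5.TC

set_option maxRecDepth 1000000 in
set_option maxHeartbeats 0 in
theorem twD4_rel : twRelChk chevD4 twcsrD4 tcM_G2 = true := by decide +kernel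

theorem twD4_csr_lt : ∀ c ∈ twcsrD4, ∀ i ∈ c, i < chevD4.rank := by decide

theorem twD4_csr_rev : ∀ c ∈ twcsrD4, c.reverse ∈ twD4_cs0 := by decide

theorem twD4_cs0_rev' : ∀ c ∈ twD4_cs0, c.reverse ∈ twcsrD4 := by decide

section
variable {K : Type*} [Field K] {q : ℕ}

theorem twD4_csr_mem (hq1 : (-1 : K) ^ q = -1) (hq2 : (-1 : K) ^ (q ^ 2) = -1) :
    ∀ c ∈ twcsrD4, nR (F := K) chevD4 twD4_hD c ∈ twistedD4 K q := by
  intro c hc
  exact twD4_cs0_mem hq1 hq2 c.reverse (twD4_csr_rev c hc)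

theorem twD4_S_eq : {s : GL chevD4.Idx K | ∃ c ∈ twD4_cs0, s = nW chevD4 twD4_hD c} =
    {s : GL chevD4.Idx K | ∃ c ∈ twcsrD4, s = nR chevD4 twD4_hD c} := by
  ext s
  constructor
  · rintro ⟨c, hc, rfl⟩
    refine ⟨c.reverse, twD4_cs0_rev' c hc, ?_⟩
    unfold nR
    rw [List.reverse_reverse]
  · rintro ⟨c, hc, rfl⟩
    exact ⟨c.reverse, twD4_csr_rev c hc, rfl⟩

end

section
variable {K : Type*} [Field K] [Fintype K] {q : ℕ}

theorem twD4_N_gen (hq : IsPrimePow q) (hK : Fintype.card K = q ^ 3) :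
    chevD4.monomialSubgroup K ⊓ twistedD4 K q ≤
      Subgroup.closure {s : GL chevD4.Idx K | ∃ c ∈ twcsrD4, s = nR chevD4 twD4_hD c} ⊔
        (chevD4.diagonalSubgroup K ⊓ twistedD4 K q) := by
  obtain ⟨Q, hQB, hQN, hQS⟩ := twD4_bnpair hq hK
  have hq1 : (-1 : K) ^ q = -1 := neg_one_pow_q1 hK
  have hq2 : (-1 : K) ^ (q ^ 2) = -1 := neg_one_pow_q hK 2
  rw [← twD4_S_eq]
  refine tw_N_gen chevD4 twD4_hD (twistedD4 K q) _ ?_ Q hQB hQN hQS
  rintro s ⟨c, hc, rfl⟩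
  exact twD4_cs0_mem hq1 hq2 c hc

theorem twD4_cox (hq : IsPrimePow q) (hK : Fintype.card K = q ^ 3) :
    ∃ φ : ↥(chevD4.monomialSubgroup K ⊓ twistedD4 K q) →* (CoxeterMatrix.G₂).Group,
      Function.Surjective φ ∧
      φ.ker = (chevD4.diagonalSubgroup K ⊓ twistedD4 K q).subgroupOf
        (chevD4.monomialSubgroup K ⊓ twistedD4 K q) := by
  haveI := coxFinite_G2
  have hq1 : (-1 : K) ^ q = -1 := neg_one_pow_q1 hK
  have hq2 : (-1 : K) ^ (q ^ 2) = -1 := neg_one_pow_q hK 2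
  exact tw_N_mod_H_cox chevD4 twD4_hD CoxeterMatrix.G₂ tcM_G2 coxMt_G2 (twistedD4 K q) twcsrD4
    (by decide) twvsD4 twpermsD4 twnxtD4 twenumD4 twD4_csr_lt (twD4_csr_mem hq1 hq2) twD4_rel
    (twD4_N_gen hq hK) (by rw [coxCard_G2, twlenD4])

end

end Cfsg.Agent.helper5.Chev
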