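import Mathlib
import Cfsg.Agent.Lib_helper5_TwEnumE6Defs

set_option autoImplicit false

namespace Cfsg.Agent.helper5.Chev

open Cfsg.Lie

set_option maxRecDepth 1000000 in
set_option maxHeartbeats 0 in
theorem twenumE6_c12 : twenumRange chevE6 twcsrE6 twvsE6 twpermsE6 twnxtE6 (12 * 24) 24 = true := by
  decide +kernel

set_option maxRecDepth 1000000 in
set_option maxHeartbeats 0 in
theorem twenumE6_c13 : twenumRange chevE6 twcsrE6 twvsE6 twpermsE6 twnxtE6 (13 * 24) 24 = true := by
  decide +kernel

set_option maxRecDepth 1000000 in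
set_option maxHeartbeats 0 in
theorem twenumE6_c14 : twenumRange chevE6 twcsrE6 twvsE6 twpermsE6 twnxtE6 (14 * 24) 24 = true := by
  decide +kernel

set_option maxRecDepth 1000000 in
set_option maxHeartbeats 0 in
theorem twenumE6_c15 : twenumRange chevE6 twcsrE6 twvsE6 twpermsE6 twnxtE6 (15 * 24) 24 = true := by
  decide +kernel

end Cfsg.Agent.helper5.Chev
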