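import Mathlib
import Cfsg.Agent.Lib_helper5_TwEnumE6Defs
import Cfsg.Agent.Lib_helper5_TwEnumE6_c06

set_option autoImplicit false

namespace Cfsg.Agent.helper5.Chev

open Cfsg.Lie

set_option maxRecDepth 1000000 in
set_option maxHeartbeats 0 in
theorem twenumE6_c28 : twenumRange chevE6 twcsrE6 twvsE6 twpermsE6 twnxtE6 (28 * 24) 24 = true := by
  decide +kernel

set_option maxRecDepth 1000000 in
set_option maxHeartbeats 0 in
theorem twenumE6_c29 : twenumRange chevE6 twcsrE6 twvsE6 twpermsE6 twnxtE6 (29 * 24) 24 = true := by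
  decide +kernel

set_option maxRecDepth 1000000 in
set_option maxHeartbeats 0 in
theorem twenumE6_c30 : twenumRange chevE6 twcsrE6 twvsE6 twpermsE6 twnxtE6 (30 * 24) 24 = true := by
  decide +kernel

set_option maxRecDepth 1000000 in
set_option maxHeartbeats 0 in
theorem twenumE6_c31 : twenumRange chevE6 twcsrE6 twvsE6 twpermsE6 twnxtE6 (31 * 24) 24 = true := by
  decide +kernel

end Cfsg.Agent.helper5.Chev
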