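import Mathlib
import Cfsg.Agent.Lib_helper5_TwEnumE6Defs
import Cfsg.Agent.Lib_helper5_ChevSortChk
import Cfsg.Agent.Lib_helper5_TwEnumE6_c00
import Cfsg.Agent.Lib_helper5_TwEnumE6_c01
import Cfsg.Agent.Lib_helper5_TwEnumE6_c02
import Cfsg.Agent.Lib_helper5_TwEnumE6_c03
import Cfsg.Agent.Lib_helper5_TwEnumE6_c04
import Cfsg.Agent.Lib_helper5_TwEnumE6_c05
import Cfsg.Agent.Lib_helper5_TwEnumE6_c06
import Cfsg.Agent.Lib_helper5_TwEnumE6_c07
import Cfsg.Agent.Lib_helper5_TwEnumE6_c08
import Cfsg.Agent.Lib_helper5_TwEnumE6_c09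
import Cfsg.Agent.Lib_helper5_TwEnumE6_c10
import Cfsg.Agent.Lib_helper5_TwEnumE6_c11

set_option autoImplicit false

namespace Cfsg.Agent.helper5.Chev

open Cfsg.Lie

set_option maxRecDepth 1000000 in
set_option maxHeartbeats 0 in
theorem twnodupE6 : twpermsE6.Nodup :=
  nodup_of_chainB _ (by decide +kernel)

set_option maxRecDepth 1000000 in
set_option maxHeartbeats 0 in
theorem twenumE6 : TwEnum chevE6 twcsrE6 twvsE6 twpermsE6 twnxtE6 where
  hlenP := by decide +kernel
  h0 := by decide +kernel
  hk := by
    apply twenum_of_chunks chevE6 twcsrE6 twvsE6 twpermsE6 twnxtE6 24 48 (by norm_num)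
      (by decide +kernel)
    intro k hk
    interval_cases k
    · exact twenumE6_c0
    · exact twenumE6_c1
    · exact twenumE6_c2
    · exact twenumE6_c3
    · exact twenumE6_c4
    · exact twenumE6_c5
    · exact twenumE6_c6
    · exact twenumE6_c7
    · exact twenumE6_c8
    · exact twenumE6_c9
    · exact twenumE6_c10
    · exact twenumE6_c11
    · exact twenumE6_c12
    · exact twenumE6_c13
    · exact twenumE6_c14
    · exact twenumE6_c15
    · exact twenumE6_c16
    · exact twenumE6_c17
    · exact twenumE6_c18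
    · exact twenumE6_c19
    · exact twenumE6_c20
    · exact twenumE6_c21
    · exact twenumE6_c22
    · exact twenumE6_c23
    · exact twenumE6_c24
    · exact twenumE6_c25
    · exact twenumE6_c26
    · exact twenumE6_c27
    · exact twenumE6_c28
    · exact twenumE6_c29
    · exact twenumE6_c30
    · exact twenumE6_c31
    · exact twenumE6_c32
    · exact twenumE6_c33
    · exact twenumE6_c34
    · exact twenumE6_c35
    · exact twenumE6_c36
    · exact twenumE6_c37
    · exact twenumE6_c38
    · exact twenumE6_c39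
    · exact twenumE6_c40
    · exact twenumE6_c41
    · exact twenumE6_c42
    · exact twenumE6_c43
    · exact twenumE6_c44
    · exact twenumE6_c45
    · exact twenumE6_c46
    · exact twenumE6_c47
  hnd := twnodupE6

set_option maxRecDepth 1000000 in
set_option maxHeartbeats 0 in
theorem twlenE6 : twvsE6.length = 1152 := by decide +kernel

set_option maxRecDepth 1000000 in
set_option maxHeartbeats 0 in
theorem twcountsE6 : (List.range 37).map
    (fun j => (twvsE6.map fun v => v.flatten.length).count j) =
    [1, 2, 4, 6, 9, 13, 17, 22, 26, 32, 37, 43, 47, 51, 55, 58, 61, 61, 62, 61, 61, 58, 55, 51, 47, 43, 37, 32, 26, 22, 17, 13, 9, 6, 4, 2, 1] := by decide +kernel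

set_option maxRecDepth 1000000 in
set_option maxHeartbeats 0 in
theorem twboundE6 : ∀ x ∈ twvsE6.map (fun v => v.flatten.length), x < 37 := by
  decide +kernel

end Cfsg.Agent.helper5.Chev
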