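import Mathlib
import Cfsg.Agent.Lib_helper5_TwCox
import Cfsg.Agent.Lib_helper5_TwEnumE6
import Cfsg.Agent.Lib_helper5_TwE6BN
import Cfsg.Agent.Lib_helper5_CoxDF4

set_option autoImplicit false
open Cfsg

/-! `N¹ / H¹` for `²E₆(q)` is the Coxeter group of type `F₄` (helper5). -/

namespace Cfsg.Agent.helper5.Chev

open Cfsg.Lie Cfsg.Agent.helper6.Graph Cfsg.Agent.helper5.TC

set_option maxRecDepth 1000000 in
set_option maxHeartbeats 0 in
theorem twE6_rel : twRelChk chevE6 twcsrE6 tcM_F4 = true := by decide +kernel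

theorem twE6_csr_lt : ∀ c ∈ twcsrE6, ∀ i ∈ c, i < chevE6.rank := by decide

theorem twE6_csr_rev : ∀ c ∈ twcsrE6, c.reverse ∈ twE6_cs0 := by decide

theorem twE6_cs0_rev' : ∀ c ∈ twE6_cs0, c.reverse ∈ twcsrE6 := by decide

section
variable {K : Type*} [Field K] {q : ℕ}

theorem twE6_csr_mem (hq1 : (-1 : K) ^ q = -1) :
    ∀ c ∈ twcsrE6, nR (F := K) chevE6 twE6_hD c ∈ twistedE6 K q := by
  intro c hc
  exact twE6_cs0_mem hq1 c.reverse (twE6_csr_rev c hc)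

theorem twE6_S_eq : {s : GL chevE6.Idx K | ∃ c ∈ twE6_cs0, s = nW chevE6 twE6_hD c} =
    {s : GL chevE6.Idx K | ∃ c ∈ twcsrE6, s = nR chevE6 twE6_hD c} := by
  ext s
  constructor
  · rintro ⟨c, hc, rfl⟩
    refine ⟨c.reverse, twE6_cs0_rev' c hc, ?_⟩
    unfold nR
    rw [List.reverse_reverse]
  · rintro ⟨c, hc, rfl⟩
    exact ⟨c.reverse, twE6_csr_rev c hc, rfl⟩

end

section
variable {K : Type*} [Field K] [Fintype K] {q : ℕ}

theorem twE6_N_gen (hq : IsPrimePow q) (hK : Fintype.card K = q ^ 2) :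
    chevE6.monomialSubgroup K ⊓ twistedE6 K q ≤
      Subgroup.closure {s : GL chevE6.Idx K | ∃ c ∈ twcsrE6, s = nR chevE6 twE6_hD c} ⊔
        (chevE6.diagonalSubgroup K ⊓ twistedE6 K q) := by
  obtain ⟨Q, hQB, hQN, hQS⟩ := twE6_bnpair hq hK
  have hq1 : (-1 : K) ^ q = -1 := neg_one_pow_q1 hK
  rw [← twE6_S_eq]
  refine tw_N_gen chevE6 twE6_hD (twistedE6 K q) _ ?_ Q hQB hQN hQS
  rintro s ⟨c, hc, rfl⟩
  exact twE6_cs0_mem hq1 c hc

theorem twE6_cox (hq : IsPrimePow q) (hK : Fintype.card K = q ^ 2) :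
    ∃ φ : ↥(chevE6.monomialSubgroup K ⊓ twistedE6 K q) →* (CoxeterMatrix.F₄).Group,
      Function.Surjective φ ∧
      φ.ker = (chevE6.diagonalSubgroup K ⊓ twistedE6 K q).subgroupOf
        (chevE6.monomialSubgroup K ⊓ twistedE6 K q) := by
  haveI := coxFinite_F4
  have hq1 : (-1 : K) ^ q = -1 := neg_one_pow_q1 hK
  exact tw_N_mod_H_cox chevE6 twE6_hD CoxeterMatrix.F₄ tcM_F4 coxMt_F4 (twistedE6 K q) twcsrE6
    (by decide) twvsE6 twpermsE6 twnxtE6 twenumE6 twE6_csr_lt (twE6_csr_mem hq1) twE6_rel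
    (twE6_N_gen hq hK) (by rw [coxCard_F4, twlenE6])

end

end Cfsg.Agent.helper5.Chev
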