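import Mathlib
import Cfsg.Agent.Lib_helper5_TwTorus
import Cfsg.Agent.Lib_helper5_TwD4BN

set_option autoImplicit false
open Cfsg

/-! The torus `H¹ = H ∩ ³D₄(q)` and its order (helper5). -/

namespace Cfsg.Agent.helper5.Chev

open Cfsg.Lie Cfsg.Agent.helper6.Graph

/-- the parameters of a `σ`-fixed torus element of `D₄` -/
def d4par {K : Type*} [Field K] (q : ℕ) (a b : K) : ℕ → K := fun i =>
  match i with
  | 0 => a
  | 1 => b
  | 2 => a ^ q
  | 3 => a ^ (q ^ 2)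
  | _ => 1

theorem d4par_ne {K : Type*} [Field K] (q : ℕ) (a b : K) (ha : a ≠ 0) (hb : b ≠ 0) :
    ∀ i, d4par q a b i ≠ 0 := by
  intro i
  unfold d4par
  split
  · exact ha
  · exact hb
  · exact pow_ne_zero _ ha
  · exact pow_ne_zero _ ha
  · exact one_ne_zero

section
variable {K : Type*} [Field K]

theorem d4_char (z : ℕ → K) :
    torusChar chevD4 z (chevD4.simple 0) = z 0 ^ 2 * (z 1)⁻¹ ∧
    torusChar chevD4 z (chevD4.simple 1) = (z 0)⁻¹ * z 1 ^ 2 * (z 2)⁻¹ * (z 3)⁻¹ ∧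
    torusChar chevD4 z (chevD4.simple 2) = (z 1)⁻¹ * z 2 ^ 2 ∧
    torusChar chevD4 z (chevD4.simple 3) = (z 1)⁻¹ * z 3 ^ 2 := by
  have hr : List.range chevD4.rank = [0, 1, 2, 3] := by decide
  have c00 : chevD4.cartan 0 (chevD4.simple 0) = 2 := by decide
  have c10 : chevD4.cartan 1 (chevD4.simple 0) = -1 := by decide
  have c20 : chevD4.cartan 2 (chevD4.simple 0) = 0 := by decide
  have c30 : chevD4.cartan 3 (chevD4.simple 0) = 0 := by decide
  have c01 : chevD4.cartan 0 (chevD4.simple 1) = -1 := by decide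
  have c11 : chevD4.cartan 1 (chevD4.simple 1) = 2 := by decide
  have c21 : chevD4.cartan 2 (chevD4.simple 1) = -1 := by decide
  have c31 : chevD4.cartan 3 (chevD4.simple 1) = -1 := by decide
  have c02 : chevD4.cartan 0 (chevD4.simple 2) = 0 := by decide
  have c12 : chevD4.cartan 1 (chevD4.simple 2) = -1 := by decide
  have c22 : chevD4.cartan 2 (chevD4.simple 2) = 2 := by decide
  have c32 : chevD4.cartan 3 (chevD4.simple 2) = 0 := by decide
  have c03 : chevD4.cartan 0 (chevD4.simple 3) = 0 := by decide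
  have c13 : chevD4.cartan 1 (chevD4.simple 3) = -1 := by decide
  have c23 : chevD4.cartan 2 (chevD4.simple 3) = 0 := by decide
  have c33 : chevD4.cartan 3 (chevD4.simple 3) = 2 := by decide
  unfold torusChar
  rw [hr]
  simp only [List.map_cons, List.map_nil, List.prod_cons, List.prod_nil, c00, c10, c20, c30, c01,
    c11, c21, c31, c02, c12, c22, c32, c03, c13, c23, c33, zpow_zero, zpow_neg_one, mul_one,
    one_mul]
  refine ⟨?_, ?_, ?_, ?_⟩ <;> norm_cast <;> ring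

/-- the kernel of the parametrisation of the torus of `D₄` -/
theorem d4_Z (z0 z1 z2 z3 : K) (h0 : z0 ≠ 0) (h1 : z1 ≠ 0) (h2 : z2 ≠ 0) (h3 : z3 ≠ 0)
    (e0 : z0 ^ 2 * z1⁻¹ = 1) (e1 : z0⁻¹ * z1 ^ 2 * z2⁻¹ * z3⁻¹ = 1) (e2 : z1⁻¹ * z2 ^ 2 = 1)
    (e3 : z1⁻¹ * z3 ^ 2 = 1) :
    z1 = 1 ∧ z0 * z0 = 1 ∧ z2 * z2 = 1 ∧ z3 * z3 = 1 ∧ z0 * z2 * z3 = 1 := by
  have f0 : z0 ^ 2 = z1 := by field_simp at e0; exact e0
  have f2 : z2 ^ 2 = z1 := by field_simp at e2; exact e2
  have f3 : z3 ^ 2 = z1 := by field_simp at e3; exact e3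
  have f1 : z1 ^ 2 = z0 * z2 * z3 := by field_simp at e1; exact e1
  have g1 : z0 ^ 3 = z2 * z3 := by
    have : z0 * z0 ^ 3 = z0 * (z2 * z3) := by
      calc z0 * z0 ^ 3 = (z0 ^ 2) ^ 2 := by ring
        _ = z0 * (z2 * z3) := by rw [f0, f1]; ring
    exact mul_left_cancel₀ h0 this
  have g2 : z0 ^ 2 = 1 := by
    have : z0 ^ 4 * z0 ^ 2 = z0 ^ 4 * 1 := by
      calc z0 ^ 4 * z0 ^ 2 = (z0 ^ 3) ^ 2 := by ring
        _ = z2 ^ 2 * z3 ^ 2 := by rw [g1]; ring
        _ = z0 ^ 4 * 1 := by rw [f2, f3, ← f0]; ring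
    exact mul_left_cancel₀ (pow_ne_zero 4 h0) this
  have g3 : z1 = 1 := by rw [← f0, g2]
  refine ⟨g3, ?_, ?_, ?_, ?_⟩
  · rw [← sq]; exact g2
  · rw [← sq, f2, g3]
  · rw [← sq, f3, g3]
  · rw [← f1, g3]; ring

theorem sq_one_pow {q : ℕ} (hq1 : (-1 : K) ^ q = -1) (x : K) (hx : x * x = 1) : x ^ q = x := by
  rcases mul_self_eq_one_iff.mp hx with rfl | rfl
  · exact one_pow q
  · exact hq1

end

section
variable {K : Type*} [Field K] {q : ℕ}

theorem twD4_h1_mem (hq1 : (-1 : K) ^ q = -1) (b : K) (hb : b ≠ 0) (hbq : b ^ q = b) :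
    hGt chevD4 twD4_hD 14 b ∈ twistedD4 K q := by
  have key : ∀ t : K, t ≠ 0 → t ^ q = t → nGt chevD4 twD4_hD 14 t ∈ twistedD4 K q := by
    intro t ht htq
    unfold nGt
    have e : chevD4.neg 14 = 9 := by decide
    rw [e]
    have h2 : (-t⁻¹) ^ q = -t⁻¹ := by
      rw [neg_pow, hq1, inv_pow, htq]
      ring
    refine Subgroup.mul_mem _ (Subgroup.mul_mem _ ?_ ?_) ?_
    · exact twD4_x_fixed K q t htq 14 (by decide)
    · exact twD4_x_fixed K q _ h2 9 (by decide)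
    · exact twD4_x_fixed K q t htq 14 (by decide)
  unfold hGt
  exact Subgroup.mul_mem _ (key b hb hbq) (key (-1) (by norm_num) hq1)

theorem twD4_torP_mem (hq1 : (-1 : K) ^ q = -1) (hq2 : (-1 : K) ^ (q ^ 2) = -1) (a b : K)
    (ha : a ≠ 0) (hb : b ≠ 0) (hbq : b ^ q = b) :
    torP chevD4 twD4_hD (d4par q a b) ∈ twistedD4 K q := by
  have hr : List.range chevD4.rank = [0, 1, 2, 3] := by decide
  have s0 : chevD4.simple 0 = 18 := by decide
  have s1 : chevD4.simple 1 = 14 := by decide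
  have s2 : chevD4.simple 2 = 13 := by decide
  have s3 : chevD4.simple 3 = 12 := by decide
  have e : torP chevD4 twD4_hD (d4par q a b) =
      hGt chevD4 twD4_hD 14 b * (hGt chevD4 twD4_hD 18 a * hGt chevD4 twD4_hD 13 (a ^ q) *
        hGt chevD4 twD4_hD 12 (a ^ (q ^ 2))) := by
    unfold torP
    rw [hr]
    simp only [List.map_cons, List.map_nil, List.prod_cons, List.prod_nil, mul_one, s0, s1, s2,
      s3]
    have c := hGt_simple_commute (F := K) chevD4 twD4_hD 0 1 (by decide) (by decide) a b ha hb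
    rw [s0, s1] at c
    show hGt chevD4 twD4_hD 18 a * (hGt chevD4 twD4_hD 14 b * (hGt chevD4 twD4_hD 13 (a ^ q) *
      hGt chevD4 twD4_hD 12 (a ^ (q ^ 2)))) = _
    rw [← mul_assoc, c.eq]
    group
  rw [e]
  apply Subgroup.mul_mem _ (twD4_h1_mem hq1 b hb hbq)
  apply htriple_mem chevD4 twD4_hD (twistedD4 K q) q hq1 hq2 18 13 12 twD4_orth13 twD4_orth14
    twD4_orth34
  · intro t
    exact twD4_x_triple K q t (d4p1, d4p3, d4p4) (by decide)
  · intro t
    have e1 : chevD4.neg 18 = 5 := by decide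
    have e2 : chevD4.neg 13 = 10 := by decide
    have e3 : chevD4.neg 12 = 11 := by decide
    rw [e1, e2, e3]
    exact twD4_x_triple K q t (d4m1, d4m3, d4m4) (by decide)

end

end Cfsg.Agent.helper5.Chev
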