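import Mathlib
import Cfsg.Agent.Lib_helper5_TwD4H

set_option autoImplicit false
open Cfsg

/-! The order of the torus `H¹ = H ∩ ³D₄(q)` (helper5). -/

namespace Cfsg.Agent.helper5.Chev

open Cfsg.Lie Cfsg.Agent.helper6.Graph

theorem twD4_rho_perm :
    ((List.range chevD4.rank).map (rhoOf certD4a)).Perm (List.range chevD4.rank) := by decide

set_option maxRecDepth 1000000 in
set_option maxHeartbeats 0 in
theorem twD4_hCR' : cartanReflChk chevD4 = true := by decide +kernel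

section
variable {K : Type*} [Field K]

/-- torus elements of `D₄` with parameters in the kernel are trivial -/
theorem twD4_torP_one (w : ℕ → K) (hw : ∀ i, w i ≠ 0) (e0 : w 0 ^ 2 * (w 1)⁻¹ = 1)
    (e1 : (w 0)⁻¹ * w 1 ^ 2 * (w 2)⁻¹ * (w 3)⁻¹ = 1) (e2 : (w 1)⁻¹ * w 2 ^ 2 = 1)
    (e3 : (w 1)⁻¹ * w 3 ^ 2 = 1) : torP chevD4 twD4_hD w = 1 := by
  rw [torP_eq_one_iff chevD4 twD4_hD twD4_hCR' w hw]
  obtain ⟨c0, c1, c2, c3⟩ := d4_char w
  intro i hi
  have hr : chevD4.rank = 4 := by decide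
  rw [hr] at hi
  interval_cases i
  · rw [c0]; exact e0
  · rw [c1]; exact e1
  · rw [c2]; exact e2
  · rw [c3]; exact e3

theorem twD4_torP_eq_one (z : ℕ → K) (hz : ∀ i, z i ≠ 0) (h : torP chevD4 twD4_hD z = 1) :
    z 1 = 1 ∧ z 0 * z 0 = 1 ∧ z 2 * z 2 = 1 ∧ z 3 * z 3 = 1 ∧ z 0 * z 2 * z 3 = 1 := by
  have h1 := (torP_eq_one_iff chevD4 twD4_hD twD4_hCR' z hz).mp h
  obtain ⟨c0, c1, c2, c3⟩ := d4_char z
  have e0 := h1 0 (by decide)
  have e1 := h1 1 (by decide)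
  have e2 := h1 2 (by decide)
  have e3 := h1 3 (by decide)
  rw [c0] at e0
  rw [c1] at e1
  rw [c2] at e2
  rw [c3] at e3
  exact d4_Z (z 0) (z 1) (z 2) (z 3) (hz 0) (hz 1) (hz 2) (hz 3) e0 e1 e2 e3

end

section
variable {K : Type*} [Field K] [Fintype K] {q : ℕ}

/-- every element of `H¹` is a `σ`-fixed torus element -/
theorem twD4_H1_param (hq : IsPrimePow q) (hK : Fintype.card K = q ^ 3) :
    ∀ y ∈ chevD4.diagonalSubgroup K ⊓ twistedD4 K q, ∃ a b : K, a ≠ 0 ∧ b ≠ 0 ∧ b ^ q = b ∧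
      y = torP chevD4 twD4_hD (d4par q a b) := by
  have hq2' : 2 ≤ q := hq.two_le
  have hq0 : q ≠ 0 := by omega
  have hq1 : (-1 : K) ^ q = -1 := neg_one_pow_q1 hK
  have hfrob : ∀ a b : K, (a + b) ^ q = a ^ q + b ^ q := by
    intro a b
    have := frob_add hq hK 1 a b
    rwa [pow_one] at this
  have hK3 : ∀ t : K, (t ^ (q ^ 2)) ^ q = t := by
    intro t
    rw [← pow_mul, ← pow_succ, ← hK, FiniteField.pow_card]
  intro y hy
  obtain ⟨c, hc, rfl⟩ := exists_torP chevD4 twD4_hD y hy.1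
  have hσ := twD4_fix hq0 hfrob hK3 _ hy.2
  unfold twD4_sigma at hσ
  rw [sigma_torP chevD4 twD4_hD (twD4_tw K) (frobHom K q hq0 hfrob) twD4_rho_perm c
    (fun i _ => hc i)] at hσ
  have r0 : rhoInvOf certD4a 0 = 3 := by decide
  have r1 : rhoInvOf certD4a 1 = 1 := by decide
  have r2 : rhoInvOf certD4a 2 = 0 := by decide
  have r3 : rhoInvOf certD4a 3 = 2 := by decide
  obtain ⟨z, hzdef⟩ : ∃ z : ℕ → K, z = fun j =>
      frobHom K q hq0 hfrob (c (rhoInvOf certD4a j)) * (c j)⁻¹ := ⟨_, rfl⟩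
  have hz : ∀ i, z i ≠ 0 := by
    intro i
    rw [hzdef]
    exact mul_ne_zero (fun h0 => hc _ ((map_eq_zero _).mp h0)) (inv_ne_zero (hc i))
  have hz1 : torP chevD4 twD4_hD z = 1 := by
    have h1 : torP chevD4 twD4_hD z * torP chevD4 twD4_hD c = torP chevD4 twD4_hD c := by
      rw [torP_mul chevD4 twD4_hD z c (fun i _ => hz i) (fun i _ => hc i), ← hσ]
      apply torP_ext
      intro i _
      rw [hzdef]
      show frobHom K q hq0 hfrob (c (rhoInvOf certD4a i)) * (c i)⁻¹ * c i = _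
      rw [inv_mul_cancel_right₀ (hc i)]
    exact mul_eq_right.mp h1
  obtain ⟨k1, k0, k2, k3, k023⟩ := twD4_torP_eq_one z hz hz1
  have z0 : z 0 = c 3 ^ q * (c 0)⁻¹ := by rw [hzdef]; show frobHom K q hq0 hfrob _ * _ = _; rw [r0]; rfl
  have z1 : z 1 = c 1 ^ q * (c 1)⁻¹ := by rw [hzdef]; show frobHom K q hq0 hfrob _ * _ = _; rw [r1]; rfl
  have z2 : z 2 = c 0 ^ q * (c 2)⁻¹ := by rw [hzdef]; show frobHom K q hq0 hfrob _ * _ = _; rw [r2]; rfl
  have z3 : z 3 = c 2 ^ q * (c 3)⁻¹ := by rw [hzdef]; show frobHom K q hq0 hfrob _ * _ = _; rw [r3]; rfl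
  have hc0q : c 0 ^ q = z 2 * c 2 := by rw [z2, inv_mul_cancel_right₀ (hc 2)]
  have hc2q : c 2 ^ q = z 3 * c 3 := by rw [z3, inv_mul_cancel_right₀ (hc 3)]
  have hc1q : c 1 ^ q = c 1 := by
    have : c 1 ^ q * (c 1)⁻¹ = 1 := by rw [← z1, k1]
    calc c 1 ^ q = c 1 ^ q * (c 1)⁻¹ * c 1 := by rw [inv_mul_cancel_right₀ (hc 1)]
      _ = c 1 := by rw [this, one_mul]
  have m23 : z 2 * z 3 = z 0 := by
    have : z 0 * (z 2 * z 3) = z 0 * z 0 := by rw [k0, ← mul_assoc, k023]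
    exact mul_left_cancel₀ (hz 0) this
  have m30 : z 3 * z 0 = z 2 := by
    have : z 2 * (z 3 * z 0) = z 2 * z 2 := by
      rw [k2]
      calc z 2 * (z 3 * z 0) = z 0 * z 2 * z 3 := by ring
        _ = 1 := k023
    exact mul_left_cancel₀ (hz 2) this
  obtain ⟨w, hwdef⟩ : ∃ w : ℕ → K, w = fun i =>
      match i with
      | 0 => z 3
      | 1 => 1
      | 2 => z 0
      | 3 => z 2
      | _ => 1 := ⟨_, rfl⟩
  have hw : ∀ i, w i ≠ 0 := by
    intro i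
    rw [hwdef]
    show (match i with | 0 => z 3 | 1 => 1 | 2 => z 0 | 3 => z 2 | _ => 1) ≠ 0
    split
    · exact hz 3
    · exact one_ne_zero
    · exact hz 0
    · exact hz 2
    · exact one_ne_zero
  have w0 : w 0 = z 3 := by rw [hwdef]; rfl
  have w1 : w 1 = 1 := by rw [hwdef]; rfl
  have w2 : w 2 = z 0 := by rw [hwdef]; rfl
  have w3 : w 3 = z 2 := by rw [hwdef]; rfl
  have hw1 : torP chevD4 twD4_hD w = 1 := by
    apply twD4_torP_one w hw
    · rw [w0, w1, sq, k3]; simp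
    · rw [w0, w1, w2, w3]
      have : z 3 * z 0 * z 2 = 1 := by rw [m30, k2]
      calc (z 3)⁻¹ * 1 ^ 2 * (z 0)⁻¹ * (z 2)⁻¹ = (z 3 * z 0 * z 2)⁻¹ := by
            rw [mul_inv, mul_inv]; ring
        _ = 1 := by rw [this, inv_one]
    · rw [w1, w2, sq, k0]; simp
    · rw [w1, w3, sq, k2]; simp
  refine ⟨c 0 * z 3, c 1, mul_ne_zero (hc 0) (hz 3), hc 1, hc1q, ?_⟩
  have e : torP chevD4 twD4_hD (d4par q (c 0 * z 3) (c 1)) =
      torP chevD4 twD4_hD (fun i => c i * w i) := by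
    apply torP_ext
    intro i hi
    have hr : chevD4.rank = 4 := by decide
    rw [hr] at hi
    have hA : (c 0 * z 3) ^ q = c 2 * z 0 := by
      rw [mul_pow, sq_one_pow hq1 _ k3, hc0q, ← m23]; ring
    interval_cases i
    · show c 0 * z 3 = c 0 * w 0
      rw [w0]
    · show c 1 = c 1 * w 1
      rw [w1, mul_one]
    · show (c 0 * z 3) ^ q = c 2 * w 2
      rw [w2, hA]
    · show (c 0 * z 3) ^ (q ^ 2) = c 3 * w 3
      rw [w3, sq, pow_mul, hA, mul_pow, sq_one_pow hq1 _ k0, hc2q, ← m30]; ring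
  rw [e, ← torP_mul chevD4 twD4_hD c w (fun i _ => hc i) (fun i _ => hw i), hw1, mul_one]

end

end Cfsg.Agent.helper5.Chev
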