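import Mathlib
import Cfsg.Agent.Lib_helper5_TwD4H2

set_option autoImplicit false
open Cfsg

/-! The order of the torus `H¹ = H ∩ ³D₄(q)`: counting (helper5). -/

namespace Cfsg.Agent.helper5.Chev

open Cfsg.Lie Cfsg.Agent.helper6.Graph

/-- the number of non-zero elements of a finite field -/
theorem card_ne_zero {K : Type*} [Field K] [Fintype K] :
    Nat.card {a : K // a ≠ 0} = Fintype.card K - 1 := by
  classical
  rw [← Nat.card_congr (unitsEquivNeZero (G₀ := K)), Nat.card_eq_fintype_card, Fintype.card_units]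

/-- the number of non-zero elements fixed by the Frobenius map -/
theorem card_fixed_frob_ne {K : Type*} [Field K] [Fintype K] {q m : ℕ} (hq : 1 ≤ q)
    (hK : Fintype.card K = q ^ m) : Nat.card {b : K // b ≠ 0 ∧ b ^ q = b} = q - 1 := by
  classical
  have h1 := card_fixed_frob hq hK
  rw [Nat.card_eq_fintype_card, Fintype.card_subtype] at h1 ⊢
  have e : (Finset.univ.filter fun b : K => b ≠ 0 ∧ b ^ q = b) =
      (Finset.univ.filter fun b : K => b ^ q = b).erase 0 := by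
    ext b
    simp only [Finset.mem_filter, Finset.mem_univ, true_and, Finset.mem_erase]
  rw [e, Finset.card_erase_of_mem, h1]
  simp only [Finset.mem_filter, Finset.mem_univ, true_and]
  exact zero_pow (by omega)

section
variable {K : Type*} [Field K] {q : ℕ}

theorem twD4_par_inj (hq1 : (-1 : K) ^ q = -1) (a b a' b' : K) (ha : a ≠ 0) (hb : b ≠ 0)
    (ha' : a' ≠ 0) (hb' : b' ≠ 0)
    (h : torP chevD4 twD4_hD (d4par q a b) = torP chevD4 twD4_hD (d4par q a' b')) :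
    a = a' ∧ b = b' := by
  obtain ⟨z, hzdef⟩ : ∃ z : ℕ → K, z = fun i => d4par q a b i * (d4par q a' b' i)⁻¹ := ⟨_, rfl⟩
  have hz : ∀ i, z i ≠ 0 := by
    intro i
    rw [hzdef]
    exact mul_ne_zero (d4par_ne q a b ha hb i) (inv_ne_zero (d4par_ne q a' b' ha' hb' i))
  have hz1 : torP chevD4 twD4_hD z = 1 := by
    have h1 : torP chevD4 twD4_hD z * torP chevD4 twD4_hD (d4par q a' b') =
        torP chevD4 twD4_hD (d4par q a' b') := by
      rw [torP_mul chevD4 twD4_hD z _ (fun i _ => hz i) (fun i _ => d4par_ne q a' b' ha' hb' i),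
        ← h]
      apply torP_ext
      intro i _
      rw [hzdef]
      show d4par q a b i * (d4par q a' b' i)⁻¹ * d4par q a' b' i = _
      rw [inv_mul_cancel_right₀ (d4par_ne q a' b' ha' hb' i)]
    exact mul_eq_right.mp h1
  obtain ⟨k1, k0, -, -, k023⟩ := twD4_torP_eq_one z hz hz1
  have z0 : z 0 = a * a'⁻¹ := by rw [hzdef]; rfl
  have z1 : z 1 = b * b'⁻¹ := by rw [hzdef]; rfl
  have z2 : z 2 = (a * a'⁻¹) ^ q := by
    rw [hzdef]
    show a ^ q * (a' ^ q)⁻¹ = _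
    rw [mul_pow, inv_pow]
  have z3 : z 3 = (a * a'⁻¹) ^ (q ^ 2) := by
    rw [hzdef]
    show a ^ (q ^ 2) * (a' ^ (q ^ 2))⁻¹ = _
    rw [mul_pow, inv_pow]
  rw [z0] at k0
  have hu := sq_one_pow hq1 _ k0
  have hu2 : (a * a'⁻¹) ^ (q ^ 2) = a * a'⁻¹ := by rw [sq, pow_mul, hu, hu]
  rw [z0, z2, z3, hu, hu2, k0, one_mul] at k023
  constructor
  · have := mul_inv_eq_one₀ ha' |>.mp k023
    exact this
  · rw [z1] at k1
    exact mul_inv_eq_one₀ hb' |>.mp k1

end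

section
variable {K : Type*} [Field K] [Fintype K] {q : ℕ}

/-- `|H¹| = (q - 1)² (q² + q + 1)` for `³D₄(q)` -/
theorem twD4_card_H1 (hq : IsPrimePow q) (hK : Fintype.card K = q ^ 3) :
    Nat.card ↥(chevD4.diagonalSubgroup K ⊓ twistedD4 K q) = (q - 1) ^ 2 * (q ^ 2 + q + 1) := by
  have hq2' : 2 ≤ q := hq.two_le
  have hq1 : (-1 : K) ^ q = -1 := neg_one_pow_q1 hK
  have hq2 : (-1 : K) ^ (q ^ 2) = -1 := neg_one_pow_q hK 2
  let θ : {a : K // a ≠ 0} × {b : K // b ≠ 0 ∧ b ^ q = b} →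
      ↥(chevD4.diagonalSubgroup K ⊓ twistedD4 K q) := fun p =>
    ⟨torP chevD4 twD4_hD (d4par q p.1.1 p.2.1),
      torP_mem chevD4 twD4_hD _ (fun i _ => d4par_ne q _ _ p.1.2 p.2.2.1 i),
      twD4_torP_mem hq1 hq2 _ _ p.1.2 p.2.2.1 p.2.2.2⟩
  have hinj : Function.Injective θ := by
    rintro ⟨⟨a, ha⟩, ⟨b, hb, hbq⟩⟩ ⟨⟨a', ha'⟩, ⟨b', hb', hbq'⟩⟩ hpp
    have h1 : torP chevD4 twD4_hD (d4par q a b) = torP chevD4 twD4_hD (d4par q a' b') :=
      congrArg Subtype.val hpp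
    obtain ⟨rfl, rfl⟩ := twD4_par_inj hq1 a b a' b' ha hb ha' hb' h1
    rfl
  have hsurj : Function.Surjective θ := by
    rintro ⟨y, hy⟩
    obtain ⟨a, b, ha, hb, hbq, rfl⟩ := twD4_H1_param hq hK y hy
    exact ⟨(⟨a, ha⟩, ⟨b, hb, hbq⟩), rfl⟩
  rw [← Nat.card_eq_of_bijective θ ⟨hinj, hsurj⟩, Nat.card_prod, card_ne_zero,
    card_fixed_frob_ne (by omega) hK, hK]
  obtain ⟨p, rfl⟩ : ∃ p, q = p + 1 := ⟨q - 1, by omega⟩
  have e3 : (p + 1) ^ 3 - 1 = p ^ 3 + 3 * p ^ 2 + 3 * p := by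
    apply Nat.sub_eq_of_eq_add; ring
  rw [e3, Nat.add_sub_cancel]
  ring

end

end Cfsg.Agent.helper5.Chev
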