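import Mathlib
import Cfsg.Agent.Lib_helper5_TwD4H3
import Cfsg.Agent.Lib_helper5_TwCoxD4
import Cfsg.Agent.S1088

set_option autoImplicit false
open Cfsg

/-! The order of `³D₄(q)` (helper5). -/

namespace Cfsg.Agent.helper5.Chev

open Cfsg.Lie Cfsg.Agent.helper6.Graph

theorem sum_fin_getD' {α : Type*} (l : List α) (d : α) (g : α → ℕ) :
    ∑ k : Fin l.length, g (l.getD k.val d) = (l.map g).sum := by
  rw [← List.sum_ofFn]
  congr 1
  apply List.ext_getElem
  · simp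
  · intro i h1 h2
    simp only [List.getElem_ofFn, List.getElem_map]
    rw [List.getD_eq_getElem]

theorem twD4_csr_cs : ∀ c ∈ twcsrD4, c ∈ twD4_cs := by decide

section
variable {K : Type*} [Field K] [Fintype K] {q : ℕ}

theorem twD4_card (hq : IsPrimePow q) (hK : Fintype.card K = q ^ 3) :
    Nat.card ↥(twistedD4 K q) = q ^ 12 * (q ^ 2 - 1) * (q ^ 6 - 1) * (q ^ 8 + q ^ 4 + 1) := by
  have hq2' : 2 ≤ q := hq.two_le
  have hq0 : q ≠ 0 := by omega
  have hq1 : (-1 : K) ^ q = -1 := neg_one_pow_q1 hK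
  have hq2 : (-1 : K) ^ (q ^ 2) = -1 := neg_one_pow_q hK 2
  have hfrob : ∀ a b : K, (a + b) ^ q = a ^ q + b ^ q := by
    intro a b
    have := frob_add hq hK 1 a b
    rwa [pow_one] at this
  have hK3 : ∀ t : K, (t ^ (q ^ 2)) ^ q = t := by
    intro t
    rw [← pow_mul, ← pow_succ, ← hK, FiniteField.pow_card]
  obtain ⟨Q, hQB, hQN, -⟩ := twD4_bnpair hq hK
  have hφ3 : ∀ s : K, frobHom K q hq0 hfrob (frobHom K q hq0 hfrob (frobHom K q hq0 hfrob s)) = s := by
    intro s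
    rw [frobHom_apply, frobHom_apply, frobHom_apply, ← pow_mul s q q, ← sq]
    exact hK3 s
  have hcK : Nat.card K = q ^ 3 := by rw [Nat.card_eq_fintype_card, hK]
  have hcF : Nat.card {s : K // frobHom K q hq0 hfrob s = s} = q :=
    card_fixed_frob (by omega) hK
  have h1 := tw_card_of_enum chevD4 twD4_hD (twD4_tw K) twD4_pi (frobHom K q hq0 hfrob)
    (commOK_of_mem _ twD4_hD) (posCommOK_of_mem _ twD4_hD) (twistedD4 K q)
    (twD4_fix hq0 hfrob hK3) (twD4_fixU_mem hq0 hfrob hq1 hq2) twcsrD4 twvsD4 twpermsD4 twnxtD4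
    twenumD4 (fun c hc => twD4_chunkOK c (twD4_csr_cs c hc)) (twD4_csr_mem hq1 hq2)
    (fun c hc => chunkBNChk_sq chevD4 certD4a c.reverse (twD4_chk0 _ (twD4_csr_rev c hc)))
    (twD4_N_gen hq hK) Q hQB hQN q (by
      intro c hc
      have h : c = [1] ∨ c = [3, 2, 0] := by
        simp only [twcsrD4, List.mem_cons, List.not_mem_nil, or_false] at hc
        exact hc
      rcases h with rfl | rfl
      · exact ⟨_, _, chunkCount_single (frobHom K q hq0 hfrob) q 1 (by decide) hcF⟩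
      · exact ⟨_, _, chunkCount_triple (frobHom K q hq0 hfrob) q 0 2 3 (by decide) (by decide)
          (by decide) (by decide) (by decide) (by decide) hφ3 hcK⟩)
  have hB := tw_card_borel chevD4 twD4_hD (twD4_tw K) twD4_pi (frobHom K q hq0 hfrob)
    (twistedD4 K q) (twD4_fix hq0 hfrob hK3) (twD4_fixU_mem hq0 hfrob hq1 hq2)
  have hU := Cfsg.Agent.S1088.result hq hK
  have hH := twD4_card_H1 hq hK
  rw [h1, hB, hU, hH, sum_fin_getD' twvsD4 [] (fun v => q ^ v.flatten.length)]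
  have e1 : (twvsD4.map fun v => q ^ v.flatten.length) =
      ([0, 3, 1, 4, 4, 7, 5, 8, 8, 11, 9, 12].map fun x => q ^ x) := by
    have : (twvsD4.map fun v => v.flatten.length) = [0, 3, 1, 4, 4, 7, 5, 8, 8, 11, 9, 12] := by
      decide
    rw [← this, List.map_map]
    rfl
  rw [e1]
  simp only [List.map_cons, List.map_nil, List.sum_cons, List.sum_nil]
  obtain ⟨p, rfl⟩ : ∃ p, q = p + 1 := ⟨q - 1, by omega⟩
  have e2 : (p + 1) ^ 2 - 1 = p ^ 2 + 2 * p := by
    apply Nat.sub_eq_of_eq_add; ring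
  have e6 : (p + 1) ^ 6 - 1 = p ^ 6 + 6 * p ^ 5 + 15 * p ^ 4 + 20 * p ^ 3 + 15 * p ^ 2 + 6 * p := by
    apply Nat.sub_eq_of_eq_add; ring
  rw [e2, e6, Nat.add_sub_cancel]
  ring

end

end Cfsg.Agent.helper5.Chev
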