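import Mathlib
import Cfsg.Agent.Lib_helper5_TwD4
import Cfsg.Agent.Lib_helper5_TwPerf

set_option autoImplicit false

open Cfsg

/-! `³D₄(q)` is perfect (helper5). -/

namespace Cfsg.Agent.helper5.Chev

open Cfsg.Lie

open scoped commutatorElement

section
variable {K : Type*} [Field K] {q : ℕ}

theorem twD4_nW023 (hq1 : (-1 : K) ^ q = -1) (hq2 : (-1 : K) ^ (q ^ 2) = -1) :
    nW chevD4 twD4_hD [0, 2, 3] ∈ twistedD4 K q := by
  rw [nW_cons, nW_cons, nW_cons, nW_nil', mul_one]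
  have s0 : chevD4.simple 0 = 18 := by decide
  have s2 : chevD4.simple 2 = 13 := by decide
  have s3 : chevD4.simple 3 = 12 := by decide
  rw [s0, s2, s3, ← mul_assoc]
  exact twD4_n134 hq1 hq2

theorem twD4_nW1023 (hq1 : (-1 : K) ^ q = -1) (hq2 : (-1 : K) ^ (q ^ 2) = -1) :
    nW chevD4 twD4_hD [1, 0, 2, 3] ∈ twistedD4 K q :=
  twD4_chunk_mem hq1 hq2

/-- the root subgroups of prime field type lie in the derived group: `r` is `±p₂`,
`r2 = w_a(r)`, `r3 = r2 + r = w_b w_a(r)` -/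
theorem twD4_fixed_comm (hq1 : (-1 : K) ^ q = -1) (hq2 : (-1 : K) ^ (q ^ 2) = -1)
    (r r2 r3 : ℕ) (c : ℤ) (hr : r ∈ [d4p2, d4m2])
    (hrn : r < chevD4.nroots) (hr2n : r2 < chevD4.nroots) (hne : r ≠ r2)
    (hne' : r ≠ chevD4.neg r2)
    (hct : chevD4.commTerms r2 r = [(r3, c, 1, 1)]) (hc : c * c = 1)
    (happ2 : applyW chevD4 [0, 2, 3] r = r2) (happ3 : applyW chevD4 [1, 0, 2, 3] r = r3) :
    ∀ t ∈ {t : K | t ^ q = t}, xG chevD4 twD4_hD r t ∈ ⁅twistedD4 K q, twistedD4 K q⁆ := by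
  have hx2 : ∀ t ∈ {t : K | t ^ q = t}, xG chevD4 twD4_hD r2 t ∈ twistedD4 K q := by
    rw [← happ2]
    apply weyl_trick chevD4 twD4_hD _ [0, 2, 3] (by decide) ?_ r hrn _ (fixed_neg hq1)
    · intro t ht
      exact twD4_x_fixed K q t ht r hr
    · intro c hc
      exact Subgroup.mul_mem _ (Subgroup.mul_mem _ (twD4_nW023 hq1 hq2) hc)
        (Subgroup.inv_mem _ (twD4_nW023 hq1 hq2))
  apply weyl_trick_inv chevD4 twD4_hD _ [1, 0, 2, 3] (by decide) ?_ r hrn _ (fixed_neg hq1)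
  · rw [happ3]
    intro t ht
    apply comm_trick chevD4 twD4_hD _ r2 r r3 c hr2n hrn hne hne' hct hc t
    · exact hx2 _ (fixed_int_mul hq1 c hc t ht)
    · exact twD4_x_fixed K q 1 (one_pow q) r hr
  · intro c hc
    have := conj_mem_comm _ (nW chevD4 twD4_hD [1, 0, 2, 3])⁻¹ c
      (Subgroup.inv_mem _ (twD4_nW1023 hq1 hq2)) hc
    rwa [inv_inv] at this

theorem twD4_comm_p2 (hq1 : (-1 : K) ^ q = -1) (hq2 : (-1 : K) ^ (q ^ 2) = -1) :
    ∀ t ∈ {t : K | t ^ q = t}, xG chevD4 twD4_hD 14 t ∈ ⁅twistedD4 K q, twistedD4 K q⁆ :=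
  twD4_fixed_comm hq1 hq2 14 22 23 (-1) (by decide) (by decide) (by decide) (by decide)
    (by decide) (by decide +kernel) (by decide) (by decide +kernel) (by decide +kernel)

theorem twD4_comm_m2 (hq1 : (-1 : K) ^ q = -1) (hq2 : (-1 : K) ^ (q ^ 2) = -1) :
    ∀ t ∈ {t : K | t ^ q = t}, xG chevD4 twD4_hD 9 t ∈ ⁅twistedD4 K q, twistedD4 K q⁆ :=
  twD4_fixed_comm hq1 hq2 9 1 0 1 (by decide) (by decide) (by decide) (by decide)
    (by decide) (by decide +kernel) (by decide) (by decide +kernel) (by decide +kernel)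

set_option maxRecDepth 1000000 in
set_option maxHeartbeats 0 in
theorem twD4_orth13m : orthChk chevD4 5 10 = true := by decide +kernel

set_option maxRecDepth 1000000 in
set_option maxHeartbeats 0 in
theorem twD4_orth14m : orthChk chevD4 5 11 = true := by decide +kernel

set_option maxRecDepth 1000000 in
set_option maxHeartbeats 0 in
theorem twD4_orth34m : orthChk chevD4 10 11 = true := by decide +kernel

/-- the two classes of triples lie in the derived group -/
theorem twD4_triple_comm (hfrob : ∀ a b : K, (a + b) ^ q = a ^ q + b ^ q)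
    (hfrob2 : ∀ a b : K, (a + b) ^ (q ^ 2) = a ^ (q ^ 2) + b ^ (q ^ 2))
    (hq1 : (-1 : K) ^ q = -1) (hq2 : (-1 : K) ^ (q ^ 2) = -1)
    (lam : K) (h0 : lam ≠ 0) (h2 : lam ^ 2 ≠ 1) (rs : ℕ × ℕ × ℕ)
    (hrs : rs ∈ [(d4p1, d4p3, d4p4), (d4m1, d4m3, d4m4)]) (t : K) :
    xG chevD4 twD4_hD rs.1 t * xG chevD4 twD4_hD rs.2.1 (t ^ q) *
      xG chevD4 twD4_hD rs.2.2 (t ^ (q ^ 2)) ∈ ⁅twistedD4 K q, twistedD4 K q⁆ := by
  simp only [List.mem_cons, List.not_mem_nil, or_false] at hrs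
  have n18 : chevD4.neg 18 = 5 := by decide
  have n13 : chevD4.neg 13 = 10 := by decide
  have n12 : chevD4.neg 12 = 11 := by decide
  have n5 : chevD4.neg 5 = 18 := by decide
  have n10 : chevD4.neg 10 = 13 := by decide
  have n11 : chevD4.neg 11 = 12 := by decide
  rcases hrs with rfl | rfl
  · refine triple_class_comm chevD4 twD4_hD _ q hfrob hfrob2 hq1 hq2 lam h0 h2 18 13 12
      (by decide) (by decide) (by decide) twD4_orth13 twD4_orth14 twD4_orth34
      (by decide +kernel) (by decide +kernel) (by decide +kernel) (by decide +kernel)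
      (by decide +kernel) (by decide +kernel) (by decide +kernel) (by decide +kernel)
      (by decide +kernel)
      (fun t => twD4_x_triple K q t (d4p1, d4p3, d4p4) (by decide)) ?_ t
    rw [n18, n13, n12]
    exact fun t => twD4_x_triple K q t (d4m1, d4m3, d4m4) (by decide)
  · refine triple_class_comm chevD4 twD4_hD _ q hfrob hfrob2 hq1 hq2 lam h0 h2 5 10 11
      (by decide) (by decide) (by decide) twD4_orth13m twD4_orth14m twD4_orth34m
      (by decide +kernel) (by decide +kernel) (by decide +kernel) (by decide +kernel)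
      (by decide +kernel) (by decide +kernel) (by decide +kernel) (by decide +kernel)
      (by decide +kernel)
      (fun t => twD4_x_triple K q t (d4m1, d4m3, d4m4) (by decide)) ?_ t
    rw [n5, n10, n11]
    exact fun t => twD4_x_triple K q t (d4p1, d4p3, d4p4) (by decide)

/-- `³D₄(q)` lies in its derived group -/
theorem twD4_le_comm (hfrob : ∀ a b : K, (a + b) ^ q = a ^ q + b ^ q)
    (hfrob2 : ∀ a b : K, (a + b) ^ (q ^ 2) = a ^ (q ^ 2) + b ^ (q ^ 2))
    (hq1 : (-1 : K) ^ q = -1) (hq2 : (-1 : K) ^ (q ^ 2) = -1)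
    (lam : K) (h0 : lam ≠ 0) (h2 : lam ^ 2 ≠ 1) :
    twistedD4 K q ≤ ⁅twistedD4 K q, twistedD4 K q⁆ := by
  have hle : chevD4.genSubgroup K (d4Words K q) ≤ ⁅twistedD4 K q, twistedD4 K q⁆ := by
    unfold ChevalleyDatum.genSubgroup
    rw [Subgroup.closure_le]
    rintro g ⟨w, hw, hg⟩
    rcases hw with ⟨t, ht, r, hr, rfl⟩ | ⟨t, rs, hrs, rfl⟩
    · rw [wordMat_one] at hg
      rw [eq_xG chevD4 twD4_hD g r t hg]
      simp only [List.mem_cons, List.not_mem_nil, or_false] at hr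
      rcases hr with rfl | rfl
      · exact twD4_comm_p2 hq1 hq2 t ht
      · exact twD4_comm_m2 hq1 hq2 t ht
    · rw [wordMat_three] at hg
      have e : g = xG chevD4 twD4_hD rs.1 t * xG chevD4 twD4_hD rs.2.1 (t ^ q) *
          xG chevD4 twD4_hD rs.2.2 (t ^ (q ^ 2)) := by
        apply Units.ext
        rw [hg, Units.val_mul, Units.val_mul, xG_val, xG_val, xG_val]
      rw [e]
      exact twD4_triple_comm hfrob hfrob2 hq1 hq2 lam h0 h2 rs hrs t
  exact hle

end

end Cfsg.Agent.helper5.Chev
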