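import Mathlib
import Cfsg.Agent.Lib_helper5_TwFine3

set_option autoImplicit false

open Cfsg

/-! The normaliser action of chunk representatives on the torus, the exponent of `⟨n_p⟩ ∩ H`,
and the decomposition of `U¹` along a chunk (helper5). -/

namespace Cfsg.Agent.helper5.Chev

open Cfsg.Lie Cfsg.Agent.helper6.Graph

section
variable {F : Type*} [Field F] (D : ChevalleyDatum)
  (hD : D ∈ [chevG2, chevB2, chevD4, chevF4, chevE6, chevE7, chevE8])

include hD in
theorem hGt_commute_nR (i : ℕ) (c : List ℕ)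
    (h : ∀ j ∈ c, orthChk D (D.simple i) (D.simple j) = true) (a : F) :
    Commute (hGt D hD (D.simple i) a) (nR (F := F) D hD c) := by
  unfold nR nW
  apply Commute.list_prod_right
  intro x hx
  obtain ⟨j, hj, rfl⟩ := List.mem_map.mp hx
  have hj' := h j (List.mem_reverse.mp hj)
  unfold hGt
  exact (nGt_commute D hD _ _ hj' a 1).mul_left (nGt_commute D hD _ _ hj' (-1) 1)

include hD in
/-- **`n_c h n_c⁻¹ = h_c(χ(h))⁻¹ h`** for a chunk `c` and a torus element `h` -/
theorem nR_conj_torP (c : List ℕ) (hc : ChunkOrth D c) (hlt : ∀ i ∈ c, i < D.rank)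
    (d : ℕ → F) (hd : ∀ i, d i ≠ 0) :
    nR D hD c * torP D hD d * (nR D hD c)⁻¹ =
      (chunkH D hD c (fun i => torusChar D d (D.simple i)))⁻¹ * torP D hD d := by
  induction c with
  | nil =>
    unfold nR nW chunkH
    simp
  | cons i c ih =>
    have hc' := List.pairwise_cons.mp hc
    have hi := hlt i List.mem_cons_self
    have ih' := ih hc'.2 (fun j hj => hlt j (List.mem_cons_of_mem _ hj))
    have h1 := nGt_conj_torP D hD d hd i hi
    have hcm := (hGt_commute_nR D hD i c hc'.1 (torusChar D d (D.simple i))).eq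
    rw [nR_cons, chunkH_cons]
    obtain ⟨R, hR'⟩ : ∃ R, R = nR (F := F) D hD c := ⟨_, rfl⟩
    obtain ⟨n, hn⟩ : ∃ n, n = nGt D hD (D.simple i) (1 : F) := ⟨_, rfl⟩
    obtain ⟨k, hk⟩ : ∃ k, k = hGt D hD (D.simple i) (torusChar D d (D.simple i)) := ⟨_, rfl⟩
    obtain ⟨h, hh⟩ : ∃ h, h = torP D hD d := ⟨_, rfl⟩
    obtain ⟨Hc, hHc⟩ : ∃ Hc, Hc = chunkH D hD c (fun i => torusChar D d (D.simple i)) :=
      ⟨_, rfl⟩
    rw [← hR', ← hh, ← hHc] at ih'
    rw [← hn, ← hk, ← hh] at h1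
    rw [← hk, ← hR'] at hcm
    rw [← hR', ← hn, ← hh, ← hHc, ← hk]
    have hcm' : R * k⁻¹ * R⁻¹ = k⁻¹ := by
      calc R * k⁻¹ * R⁻¹ = k⁻¹ * (k * R) * k⁻¹ * R⁻¹ := by group
        _ = k⁻¹ * (R * k) * k⁻¹ * R⁻¹ := by rw [hcm]
        _ = k⁻¹ := by group
    calc R * n * h * (R * n)⁻¹ = R * (n * h * n⁻¹) * R⁻¹ := by group
      _ = R * (k⁻¹ * h) * R⁻¹ := by rw [h1]
      _ = (R * k⁻¹ * R⁻¹) * (R * h * R⁻¹) := by group
      _ = k⁻¹ * (Hc⁻¹ * h) := by rw [hcm', ih']
      _ = (Hc * k)⁻¹ * h := by group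

include hD in
/-- conjugation by `n⁻¹` and by `n` agree on the torus when `n² ∈ H` -/
theorem conj_inv_eq_conj (n : GL D.Idx F) (hn : n ∈ D.monomialSubgroup F)
    (hsq : n * n ∈ D.diagonalSubgroup F) (t : GL D.Idx F) (ht : t ∈ D.diagonalSubgroup F) :
    n⁻¹ * t * n = n * t * n⁻¹ := by
  have hNH := N_le_normalizer_H (F := F) D hD
  have h1 : n * t * n⁻¹ ∈ D.diagonalSubgroup F :=
    (Subgroup.mem_normalizer_iff.mp (hNH hn) _).mp ht
  have h2 := H_comm D hD _ _ (Subgroup.inv_mem _ hsq) h1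
  calc n⁻¹ * t * n = (n * n)⁻¹ * (n * t * n⁻¹) * (n * n) := by group
    _ = (n * t * n⁻¹) * (n * n)⁻¹ * (n * n) := by rw [h2]
    _ = n * t * n⁻¹ := by group

theorem torusChar_mul (c c' : ℕ → F) (s : ℕ) :
    torusChar D (fun i => c i * c' i) s = torusChar D c s * torusChar D c' s := by
  unfold torusChar
  rw [← List.prod_map_mul]
  congr 1
  apply List.map_congr_left
  intro i _
  rw [mul_zpow]

include hD in
/-- the inverse of `n_w` is again of the form `n_{w'}` -/
theorem nW_inv_exists (w : List ℕ) (hw : ∀ i ∈ w, i < D.rank) :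
    ∃ w' : List ℕ, (∀ i ∈ w', i < D.rank) ∧ (nW (F := F) D hD w)⁻¹ = nW D hD w' := by
  induction w with
  | nil => exact ⟨[], by simp, by rw [nW_nil', inv_one]⟩
  | cons i w ih =>
    have hi := hw i List.mem_cons_self
    obtain ⟨w', hw', e⟩ := ih (fun j hj => hw j (List.mem_cons_of_mem _ hj))
    refine ⟨w' ++ [i, i, i], ?_, ?_⟩
    · intro j hj
      rcases List.mem_append.mp hj with h | h
      · exact hw' j h
      · simp only [List.mem_cons, List.not_mem_nil, or_false, or_self] at h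
        rw [h]; exact hi
    · rw [nW_cons, mul_inv_rev, e, nGt_inv_eq D hD i hi, nW_append]

include hD in
/-- the elements of `⟨n_c⟩` are of the form `n_w` -/
theorem closure_nR_sub_nW (cs : List (List ℕ)) (hlt : ∀ c ∈ cs, ∀ i ∈ c, i < D.rank) :
    ∀ s ∈ Subgroup.closure {s : GL D.Idx F | ∃ c ∈ cs, s = nR D hD c},
      ∃ w : List ℕ, (∀ i ∈ w, i < D.rank) ∧ s = nW D hD w := by
  intro s hs
  induction hs using Subgroup.closure_induction with
  | mem x hx =>
    obtain ⟨c, hc, rfl⟩ := hx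
    exact ⟨c.reverse, fun i hi => hlt c hc i (List.mem_reverse.mp hi), rfl⟩
  | one => exact ⟨[], by simp, (nW_nil' D hD).symm⟩
  | mul x y _ _ ihx ihy =>
    obtain ⟨w₁, hw₁, rfl⟩ := ihx
    obtain ⟨w₂, hw₂, rfl⟩ := ihy
    refine ⟨w₁ ++ w₂, ?_, (nW_append D hD w₁ w₂).symm⟩
    intro i hi
    rcases List.mem_append.mp hi with h | h
    · exact hw₁ i h
    · exact hw₂ i h
  | inv x _ ih =>
    obtain ⟨w, hw, rfl⟩ := ih
    exact nW_inv_exists D hD w hw

include hD in
/-- **the elements of `⟨n_p⟩ ∩ H` have order at most two** -/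
theorem nW_mem_H_sq (hCR : cartanReflChk D = true) (w : List ℕ) (hw : ∀ i ∈ w, i < D.rank)
    (h : nW (F := F) D hD w ∈ D.diagonalSubgroup F) : nW (F := F) D hD w * nW D hD w = 1 := by
  have hR := rootsOK_of_mem D hD
  obtain ⟨d, hd, e⟩ := exists_torP D hD _ h
  have happ := applyW_eq_of_eq D hD _ h w [] hw (by simp)
    (by rw [nW_nil', mul_one])
  have hχ : ∀ j < D.rank, torusChar D d (D.simple j) * torusChar D d (D.simple j) = 1 := by
    intro j hj
    have hr := hR.simple_lt j hj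
    obtain ⟨ε, hε, hconj⟩ := nW_conj (F := F) D hD w hw (D.simple j) hr
    have h1 := hconj 1
    rw [happ _ hr, e, torP_conj_xG D hD d hd _ hr] at h1
    have h2 : xG D hD (D.simple j) (torusChar D d (D.simple j) * 1 - ε * 1) = 1 := by
      rw [sub_eq_add_neg, ← xG_mul, ← xG_inv, h1]
      show xG D hD (applyW D [] (D.simple j)) (ε * 1) * _ = 1
      exact mul_inv_cancel _
    have h3 : xG D hD (D.simple j) (torusChar D d (D.simple j) * 1 - ε * 1) ∈ Ui (F := F) D j := by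
      rw [h2]; exact Subgroup.one_mem _
    have h4 := xG_simple_mem_Ui D hD j hj _ h3
    rw [mul_one, mul_one, sub_eq_zero] at h4
    rw [h4, hε]
  rw [e, torP_mul D hD d d (fun i _ => hd i) (fun i _ => hd i),
    torP_eq_one_iff D hD hCR _ (fun i => mul_ne_zero (hd i) (hd i))]
  intro i hi
  rw [torusChar_mul, hχ i hi]

end

section
variable {K : Type*} [Field K] (D : ChevalleyDatum)
  (hD : D ∈ [chevG2, chevB2, chevD4, chevF4, chevE6, chevE7, chevE8])
  {C : Cert} (T : TwData K D C) (φ : K →+* K)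

include hD in
/-- the decomposition of a `σ`-fixed element of `U` along the first chunk of a reduced word of
the longest element -/
theorem tw_chunk_dec (G1 : Subgroup (GL D.Idx K))
    (hfix : ∀ g ∈ G1, sigmaHom D T.perm φ g = g)
    (hKL : ∀ u ∈ D.posUnipotent K, sigmaHom D T.perm φ u = u → u ∈ G1)
    (c : List ℕ) (cs : List (List ℕ)) (w : List ℕ) (hw : W0OK D w)
    (hwcs : w.reverse = (c :: cs).flatten) (hred : redRB D (c :: cs).flatten = true)
    (hcs : ∀ c' ∈ c :: cs, ChunkOK D C c') :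
    ∀ u ∈ D.posUnipotent K ⊓ G1, ∃ a ∈ D.posUnipotent K ⊓ G1, ∃ t : ℕ → K,
      (∀ j ∈ c, φ (t (rhoInvOf C j)) = t j) ∧
        u = (nR D hD c)⁻¹ * a * nR D hD c * chunkX D hD c t := by
  intro u hu
  have h1 := U_sub_SR (K := K) D hD w hw (by rw [hwcs]; exact hred) u hu.1
  rw [hwcs, List.flatten_cons] at h1
  rw [List.flatten_cons] at hred
  have hc := hcs c List.mem_cons_self
  have hcs' : ∀ c' ∈ cs, ChunkOK D C c' := fun c' hc' => hcs c' (List.mem_cons_of_mem _ hc')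
  have hred' : redRB D cs.flatten = true := redRB_append_right D c cs.flatten hred
  obtain ⟨a, ha, t, rfl⟩ := exists_chunkForm D hD c cs.flatten hc.orth u h1
  have hσ := hfix _ hu.2
  rw [sigma_chunkForm D hD T φ c hc] at hσ
  obtain ⟨h2, h3⟩ := chunkForm_inj D hD c cs.flatten hc.orth hred _ _
    (sigma_SR_chunks D hD T φ cs hcs' a ha) ha _ _ hσ
  have haU : a ∈ D.posUnipotent K := Uneg_le_U D hD _ (SR_sub_Uneg D hD cs.flatten hred' ha)
  exact ⟨a, ⟨haU, hKL a haU h2⟩, t, h3, rfl⟩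

end

section
variable {F : Type*} [Field F] (D : ChevalleyDatum)
  (hD : D ∈ [chevG2, chevB2, chevD4, chevF4, chevE6, chevE7, chevE8])

include hD in
/-- elements of `U ∩ G¹` and `V ∩ G¹` are generated by `U¹` and a representative of `w₀` -/
theorem tw_gen_of_UV_U (G1 : Subgroup (GL D.Idx F)) (S : Set (GL D.Idx F))
    (hSG : S ⊆ (G1 : Set (GL D.Idx F))) (w0 : List ℕ) (hw0 : W0OK D w0)
    (hn0 : nW D hD w0 ∈ Subgroup.closure S) (g : GL D.Idx F) (hg : g ∈ G1)
    (h : g ∈ D.posUnipotent F ∨ g ∈ D.negUnipotent F) :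
    g ∈ Subgroup.closure
      (((D.posUnipotent F ⊓ G1 : Subgroup (GL D.Idx F)) : Set (GL D.Idx F)) ∪ S) := by
  rcases h with hU | hV
  · exact Subgroup.subset_closure (Or.inl ⟨hU, hg⟩)
  · rw [← conj_U_eq_V (F := F) D hD w0 hw0] at hV
    obtain ⟨u, hu, rfl⟩ := hV
    have hn0G : nW D hD w0 ∈ G1 := (Subgroup.closure_le _).mpr hSG hn0
    have hn0c : nW D hD w0 ∈ Subgroup.closure
        (((D.posUnipotent F ⊓ G1 : Subgroup (GL D.Idx F)) : Set (GL D.Idx F)) ∪ S) :=
      Subgroup.closure_mono Set.subset_union_right hn0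
    rw [MulEquiv.coe_toMonoidHom, MulAut.conj_apply] at hg ⊢
    have huG : u ∈ G1 := by
      have e : u = (nW D hD w0)⁻¹ * (nW D hD w0 * u * (nW D hD w0)⁻¹) * nW D hD w0 := by group
      rw [e]
      exact G1.mul_mem (G1.mul_mem (G1.inv_mem hn0G) hg) hn0G
    have huc : u ∈ Subgroup.closure
        (((D.posUnipotent F ⊓ G1 : Subgroup (GL D.Idx F)) : Set (GL D.Idx F)) ∪ S) :=
      Subgroup.subset_closure (Or.inl ⟨hu, huG⟩)
    exact Subgroup.mul_mem _ (Subgroup.mul_mem _ hn0c huc) (Subgroup.inv_mem _ hn0c)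

end

end Cfsg.Agent.helper5.Chev
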