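import Mathlib
import Cfsg.Agent.Lib_helper5_TwFine4
import Cfsg.Agent.Lib_helper5_TwE6Sig

set_option autoImplicit false

open Cfsg

/-! Rotated reduced chunk words of the longest element of `E₆`, and the decomposition of
`U¹ = U ∩ ²E₆(q)` along each chunk (helper5). -/

namespace Cfsg.Agent.helper5.Chev

open Cfsg.Lie Cfsg.Agent.helper6.Graph

def twE6_csR1 : List (List ℕ) :=
  [[4, 2], [3], [1], [5, 0], [4, 2], [3], [1], [5, 0], [4, 2], [3], [1], [5, 0], [4, 2], [3], [1], [5, 0], [4, 2], [3], [1], [5, 0], [4, 2], [3], [1], [5, 0]]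

def twE6_wR1 : List ℕ :=
  [0, 5, 1, 3, 2, 4, 0, 5, 1, 3, 2, 4, 0, 5, 1, 3, 2, 4, 0, 5, 1, 3, 2, 4, 0, 5, 1, 3, 2, 4, 0, 5, 1, 3, 2, 4]

theorem twE6_wR1_flat : twE6_wR1.reverse = twE6_csR1.flatten := by decide

set_option maxRecDepth 1000000 in
set_option maxHeartbeats 0 in
theorem twE6_wR1C_0 : w0CheckRange chevE6 twE6_wR1 0 12 = true := by decide +kernel

set_option maxRecDepth 1000000 in
set_option maxHeartbeats 0 in
theorem twE6_wR1C_1 : w0CheckRange chevE6 twE6_wR1 12 12 = true := by decide +kernel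

set_option maxRecDepth 1000000 in
set_option maxHeartbeats 0 in
theorem twE6_wR1C_2 : w0CheckRange chevE6 twE6_wR1 24 12 = true := by decide +kernel

set_option maxRecDepth 1000000 in
set_option maxHeartbeats 0 in
theorem twE6_wR1C_3 : w0CheckRange chevE6 twE6_wR1 36 12 = true := by decide +kernel

set_option maxRecDepth 1000000 in
set_option maxHeartbeats 0 in
theorem twE6_wR1C_4 : w0CheckRange chevE6 twE6_wR1 48 12 = true := by decide +kernel

set_option maxRecDepth 1000000 in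
set_option maxHeartbeats 0 in
theorem twE6_wR1C_5 : w0CheckRange chevE6 twE6_wR1 60 12 = true := by decide +kernel

theorem twE6_wR1_ok : W0OK chevE6 twE6_wR1 := by
  apply w0OK_of_chunks chevE6 twE6_wR1 (by decide +kernel) 12 6 (by decide +kernel) (by decide +kernel)
  intro k hk
  interval_cases k
  · exact twE6_wR1C_0
  · exact twE6_wR1C_1
  · exact twE6_wR1C_2
  · exact twE6_wR1C_3
  · exact twE6_wR1C_4
  · exact twE6_wR1C_5

set_option maxRecDepth 1000000 in
set_option maxHeartbeats 0 in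
theorem twE6_redR1 : redRB chevE6 twE6_csR1.flatten = true := by decide +kernel

theorem twE6_csR1_sub : ∀ c ∈ twE6_csR1, c ∈ twE6_cs := by decide

def twE6_csR2 : List (List ℕ) :=
  [[3], [1], [5, 0], [4, 2], [3], [1], [5, 0], [4, 2], [3], [1], [5, 0], [4, 2], [3], [1], [5, 0], [4, 2], [3], [1], [5, 0], [4, 2], [3], [1], [5, 0], [4, 2]]

def twE6_wR2 : List ℕ :=
  [2, 4, 0, 5, 1, 3, 2, 4, 0, 5, 1, 3, 2, 4, 0, 5, 1, 3, 2, 4, 0, 5, 1, 3, 2, 4, 0, 5, 1, 3, 2, 4, 0, 5, 1, 3]

theorem twE6_wR2_flat : twE6_wR2.reverse = twE6_csR2.flatten := by decide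

set_option maxRecDepth 1000000 in
set_option maxHeartbeats 0 in
theorem twE6_wR2C_0 : w0CheckRange chevE6 twE6_wR2 0 12 = true := by decide +kernel

set_option maxRecDepth 1000000 in
set_option maxHeartbeats 0 in
theorem twE6_wR2C_1 : w0CheckRange chevE6 twE6_wR2 12 12 = true := by decide +kernel

set_option maxRecDepth 1000000 in
set_option maxHeartbeats 0 in
theorem twE6_wR2C_2 : w0CheckRange chevE6 twE6_wR2 24 12 = true := by decide +kernel

set_option maxRecDepth 1000000 in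
set_option maxHeartbeats 0 in
theorem twE6_wR2C_3 : w0CheckRange chevE6 twE6_wR2 36 12 = true := by decide +kernel

set_option maxRecDepth 1000000 in
set_option maxHeartbeats 0 in
theorem twE6_wR2C_4 : w0CheckRange chevE6 twE6_wR2 48 12 = true := by decide +kernel

set_option maxRecDepth 1000000 in
set_option maxHeartbeats 0 in
theorem twE6_wR2C_5 : w0CheckRange chevE6 twE6_wR2 60 12 = true := by decide +kernel

theorem twE6_wR2_ok : W0OK chevE6 twE6_wR2 := by
  apply w0OK_of_chunks chevE6 twE6_wR2 (by decide +kernel) 12 6 (by decide +kernel) (by decide +kernel)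
  intro k hk
  interval_cases k
  · exact twE6_wR2C_0
  · exact twE6_wR2C_1
  · exact twE6_wR2C_2
  · exact twE6_wR2C_3
  · exact twE6_wR2C_4
  · exact twE6_wR2C_5

set_option maxRecDepth 1000000 in
set_option maxHeartbeats 0 in
theorem twE6_redR2 : redRB chevE6 twE6_csR2.flatten = true := by decide +kernel

theorem twE6_csR2_sub : ∀ c ∈ twE6_csR2, c ∈ twE6_cs := by decide

def twE6_csR3 : List (List ℕ) :=
  [[1], [5, 0], [4, 2], [3], [1], [5, 0], [4, 2], [3], [1], [5, 0], [4, 2], [3], [1], [5, 0], [4, 2], [3], [1], [5, 0], [4, 2], [3], [1], [5, 0], [4, 2], [3]]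

def twE6_wR3 : List ℕ :=
  [3, 2, 4, 0, 5, 1, 3, 2, 4, 0, 5, 1, 3, 2, 4, 0, 5, 1, 3, 2, 4, 0, 5, 1, 3, 2, 4, 0, 5, 1, 3, 2, 4, 0, 5, 1]

theorem twE6_wR3_flat : twE6_wR3.reverse = twE6_csR3.flatten := by decide

set_option maxRecDepth 1000000 in
set_option maxHeartbeats 0 in
theorem twE6_wR3C_0 : w0CheckRange chevE6 twE6_wR3 0 12 = true := by decide +kernel

set_option maxRecDepth 1000000 in
set_option maxHeartbeats 0 in
theorem twE6_wR3C_1 : w0CheckRange chevE6 twE6_wR3 12 12 = true := by decide +kernel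

set_option maxRecDepth 1000000 in
set_option maxHeartbeats 0 in
theorem twE6_wR3C_2 : w0CheckRange chevE6 twE6_wR3 24 12 = true := by decide +kernel

set_option maxRecDepth 1000000 in
set_option maxHeartbeats 0 in
theorem twE6_wR3C_3 : w0CheckRange chevE6 twE6_wR3 36 12 = true := by decide +kernel

set_option maxRecDepth 1000000 in
set_option maxHeartbeats 0 in
theorem twE6_wR3C_4 : w0CheckRange chevE6 twE6_wR3 48 12 = true := by decide +kernel

set_option maxRecDepth 1000000 in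
set_option maxHeartbeats 0 in
theorem twE6_wR3C_5 : w0CheckRange chevE6 twE6_wR3 60 12 = true := by decide +kernel

theorem twE6_wR3_ok : W0OK chevE6 twE6_wR3 := by
  apply w0OK_of_chunks chevE6 twE6_wR3 (by decide +kernel) 12 6 (by decide +kernel) (by decide +kernel)
  intro k hk
  interval_cases k
  · exact twE6_wR3C_0
  · exact twE6_wR3C_1
  · exact twE6_wR3C_2
  · exact twE6_wR3C_3
  · exact twE6_wR3C_4
  · exact twE6_wR3C_5

set_option maxRecDepth 1000000 in
set_option maxHeartbeats 0 in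
theorem twE6_redR3 : redRB chevE6 twE6_csR3.flatten = true := by decide +kernel

theorem twE6_csR3_sub : ∀ c ∈ twE6_csR3, c ∈ twE6_cs := by decide


/-- the four chunks of `²E₆` -/
def twE6_csF : List (List ℕ) := [[5, 0], [4, 2], [3], [1]]

theorem twE6_csF_sub : ∀ c ∈ twE6_csF, c ∈ twE6_cs := by decide

section
variable {K : Type*} [Field K] {q : ℕ}
variable (hq0 : q ≠ 0) (hfrob : ∀ a b : K, (a + b) ^ q = a ^ q + b ^ q)

/-- the decomposition of `U¹` along each chunk -/
theorem twE6_dec (hq1 : (-1 : K) ^ q = -1) (hK2 : ∀ t : K, (t ^ q) ^ q = t) :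
    ∀ c ∈ twE6_csF, ∀ u ∈ chevE6.posUnipotent K ⊓ twistedE6 K q,
      ∃ a ∈ chevE6.posUnipotent K ⊓ twistedE6 K q, ∃ t : ℕ → K,
        (∀ j ∈ c, frobHom K q hq0 hfrob (t (rhoInvOf certE6 j)) = t j) ∧
          u = (nR chevE6 twE6_hD c)⁻¹ * a * nR chevE6 twE6_hD c * chunkX chevE6 twE6_hD c t := by
  have hfix := twE6_fix hq0 hfrob hK2
  have hKL := twE6_fixU_mem hq0 hfrob hq1
  unfold twE6_sigma at hfix hKL
  intro c hc
  simp only [twE6_csF, List.mem_cons, List.not_mem_nil, or_false] at hc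
  rcases hc with rfl | rfl | rfl | rfl
  · exact tw_chunk_dec chevE6 twE6_hD (twE6_tw K) (frobHom K q hq0 hfrob) (twistedE6 K q) hfix hKL
      [5, 0] twE6_cs.tail twE6_w0 twE6_w0_ok twE6_cs_flat twE6_red twE6_chunkOK
  · exact tw_chunk_dec chevE6 twE6_hD (twE6_tw K) (frobHom K q hq0 hfrob) (twistedE6 K q) hfix hKL
      [4, 2] twE6_csR1.tail twE6_wR1 twE6_wR1_ok twE6_wR1_flat twE6_redR1
      (fun c hc => twE6_chunkOK c (twE6_csR1_sub c hc))
  · exact tw_chunk_dec chevE6 twE6_hD (twE6_tw K) (frobHom K q hq0 hfrob) (twistedE6 K q) hfix hKL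
      [3] twE6_csR2.tail twE6_wR2 twE6_wR2_ok twE6_wR2_flat twE6_redR2
      (fun c hc => twE6_chunkOK c (twE6_csR2_sub c hc))
  · exact tw_chunk_dec chevE6 twE6_hD (twE6_tw K) (frobHom K q hq0 hfrob) (twistedE6 K q) hfix hKL
      [1] twE6_csR3.tail twE6_wR3 twE6_wR3_ok twE6_wR3_flat twE6_redR3
      (fun c hc => twE6_chunkOK c (twE6_csR3_sub c hc))

end

end Cfsg.Agent.helper5.Chev
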