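import Mathlib
import Cfsg.Agent.Lib_helper5_TwFineE6a
import Cfsg.Agent.Lib_helper5_TwE6BN

set_option autoImplicit false

open Cfsg

/-! The torus `H⁰` of `²E₆(q)` generated by the rank one tori: parameters, characters, and the
kernel of the parametrisation (helper5). -/

namespace Cfsg.Agent.helper5.Chev

open Cfsg.Lie Cfsg.Agent.helper6.Graph

/-- the parameters of a `σ`-compatible torus element of `E₆` -/
def e6par {K : Type*} [Field K] (q : ℕ) (a b c1 c3 : K) : ℕ → K := fun i =>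
  match i with
  | 0 => a
  | 1 => c1
  | 2 => b
  | 3 => c3
  | 4 => b ^ q
  | 5 => a ^ q
  | _ => 1

theorem e6par_ne {K : Type*} [Field K] (q : ℕ) (a b c1 c3 : K) (ha : a ≠ 0) (hb : b ≠ 0)
    (h1 : c1 ≠ 0) (h3 : c3 ≠ 0) : ∀ i, e6par q a b c1 c3 i ≠ 0 := by
  intro i
  unfold e6par
  split
  · exact ha
  · exact h1
  · exact hb
  · exact h3
  · exact pow_ne_zero _ hb
  · exact pow_ne_zero _ ha
  · exact one_ne_zero

theorem e6par_mul {K : Type*} [Field K] (q : ℕ) (a b c1 c3 a' b' c1' c3' : K) (i : ℕ) :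
    e6par q a b c1 c3 i * e6par q a' b' c1' c3' i =
      e6par q (a * a') (b * b') (c1 * c1') (c3 * c3') i := by
  unfold e6par
  split
  · rfl
  · rfl
  · rfl
  · rfl
  · rw [mul_pow]
  · rw [mul_pow]
  · rw [mul_one]

theorem twE6_rho_perm :
    ((List.range chevE6.rank).map (rhoOf certE6)).Perm (List.range chevE6.rank) := by decide

section
variable {K : Type*} [Field K]

theorem e6_char (z : ℕ → K) :
    torusChar chevE6 z (chevE6.simple 0) = z 0 ^ 2 * (z 2)⁻¹ ∧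
    torusChar chevE6 z (chevE6.simple 1) = z 1 ^ 2 * (z 3)⁻¹ ∧
    torusChar chevE6 z (chevE6.simple 2) = (z 0)⁻¹ * z 2 ^ 2 * (z 3)⁻¹ ∧
    torusChar chevE6 z (chevE6.simple 3) = (z 1)⁻¹ * (z 2)⁻¹ * z 3 ^ 2 * (z 4)⁻¹ ∧
    torusChar chevE6 z (chevE6.simple 4) = (z 3)⁻¹ * z 4 ^ 2 * (z 5)⁻¹ ∧
    torusChar chevE6 z (chevE6.simple 5) = (z 4)⁻¹ * z 5 ^ 2 := by
  have hr : List.range chevE6.rank = [0, 1, 2, 3, 4, 5] := by decide
  have c00 : chevE6.cartan 0 (chevE6.simple 0) = 2 := by decide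
  have c10 : chevE6.cartan 1 (chevE6.simple 0) = 0 := by decide
  have c20 : chevE6.cartan 2 (chevE6.simple 0) = -1 := by decide
  have c30 : chevE6.cartan 3 (chevE6.simple 0) = 0 := by decide
  have c40 : chevE6.cartan 4 (chevE6.simple 0) = 0 := by decide
  have c50 : chevE6.cartan 5 (chevE6.simple 0) = 0 := by decide
  have c01 : chevE6.cartan 0 (chevE6.simple 1) = 0 := by decide
  have c11 : chevE6.cartan 1 (chevE6.simple 1) = 2 := by decide
  have c21 : chevE6.cartan 2 (chevE6.simple 1) = 0 := by decide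
  have c31 : chevE6.cartan 3 (chevE6.simple 1) = -1 := by decide
  have c41 : chevE6.cartan 4 (chevE6.simple 1) = 0 := by decide
  have c51 : chevE6.cartan 5 (chevE6.simple 1) = 0 := by decide
  have c02 : chevE6.cartan 0 (chevE6.simple 2) = -1 := by decide
  have c12 : chevE6.cartan 1 (chevE6.simple 2) = 0 := by decide
  have c22 : chevE6.cartan 2 (chevE6.simple 2) = 2 := by decide
  have c32 : chevE6.cartan 3 (chevE6.simple 2) = -1 := by decide
  have c42 : chevE6.cartan 4 (chevE6.simple 2) = 0 := by decide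
  have c52 : chevE6.cartan 5 (chevE6.simple 2) = 0 := by decide
  have c03 : chevE6.cartan 0 (chevE6.simple 3) = 0 := by decide
  have c13 : chevE6.cartan 1 (chevE6.simple 3) = -1 := by decide
  have c23 : chevE6.cartan 2 (chevE6.simple 3) = -1 := by decide
  have c33 : chevE6.cartan 3 (chevE6.simple 3) = 2 := by decide
  have c43 : chevE6.cartan 4 (chevE6.simple 3) = -1 := by decide
  have c53 : chevE6.cartan 5 (chevE6.simple 3) = 0 := by decide
  have c04 : chevE6.cartan 0 (chevE6.simple 4) = 0 := by decide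
  have c14 : chevE6.cartan 1 (chevE6.simple 4) = 0 := by decide
  have c24 : chevE6.cartan 2 (chevE6.simple 4) = 0 := by decide
  have c34 : chevE6.cartan 3 (chevE6.simple 4) = -1 := by decide
  have c44 : chevE6.cartan 4 (chevE6.simple 4) = 2 := by decide
  have c54 : chevE6.cartan 5 (chevE6.simple 4) = -1 := by decide
  have c05 : chevE6.cartan 0 (chevE6.simple 5) = 0 := by decide
  have c15 : chevE6.cartan 1 (chevE6.simple 5) = 0 := by decide
  have c25 : chevE6.cartan 2 (chevE6.simple 5) = 0 := by decide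
  have c35 : chevE6.cartan 3 (chevE6.simple 5) = 0 := by decide
  have c45 : chevE6.cartan 4 (chevE6.simple 5) = -1 := by decide
  have c55 : chevE6.cartan 5 (chevE6.simple 5) = 2 := by decide
  unfold torusChar
  rw [hr]
  simp only [List.map_cons, List.map_nil, List.prod_cons, List.prod_nil, c00, c10, c20, c30, c40, c50, c01, c11, c21, c31, c41, c51, c02, c12, c22, c32, c42, c52, c03, c13, c23, c33, c43, c53, c04, c14, c24, c34, c44, c54, c05, c15, c25, c35, c45, c55, zpow_zero,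
    zpow_neg_one, mul_one, one_mul]
  refine ⟨?_, ?_, ?_, ?_, ?_, ?_⟩ <;> norm_cast <;> ring

/-- the kernel of the parametrisation of the torus of `E₆` has exponent three -/
theorem e6_Z (z0 z1 z2 z3 z4 z5 : K) (h0 : z0 ≠ 0) (h1 : z1 ≠ 0) (h2 : z2 ≠ 0) (h3 : z3 ≠ 0)
    (h4 : z4 ≠ 0) (h5 : z5 ≠ 0)
    (e0 : z0 ^ 2 * z2⁻¹ = 1) (e1 : z1 ^ 2 * z3⁻¹ = 1) (e2 : z0⁻¹ * z2 ^ 2 * z3⁻¹ = 1)
    (e3 : z1⁻¹ * z2⁻¹ * z3 ^ 2 * z4⁻¹ = 1) (e4 : z3⁻¹ * z4 ^ 2 * z5⁻¹ = 1)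
    (e5 : z4⁻¹ * z5 ^ 2 = 1) :
    z1 = 1 ∧ z3 = 1 ∧ z0 ^ 3 = 1 ∧ z2 = z0 ^ 2 ∧ z4 = z0 ∧ z5 = z0 ^ 2 := by
  have f0 : z0 ^ 2 = z2 := by field_simp at e0; exact e0
  have f1 : z1 ^ 2 = z3 := by field_simp at e1; exact e1
  have f2 : z2 ^ 2 = z0 * z3 := by field_simp at e2; exact e2
  have f3 : z3 ^ 2 = z1 * z2 * z4 := by field_simp at e3; exact e3
  have f4 : z4 ^ 2 = z3 * z5 := by field_simp at e4; exact e4
  have f5 : z5 ^ 2 = z4 := by field_simp at e5; exact e5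
  -- `z0³ = z1²`
  have g1 : z0 ^ 3 = z1 ^ 2 := by
    have : z0 * z0 ^ 3 = z0 * z1 ^ 2 := by
      calc z0 * z0 ^ 3 = (z0 ^ 2) ^ 2 := by ring
        _ = z0 * z1 ^ 2 := by rw [f0, f2, f1]
    exact mul_left_cancel₀ h0 this
  -- `z1³ = z0² z4`
  have g2 : z1 ^ 3 = z0 ^ 2 * z4 := by
    have : z1 * z1 ^ 3 = z1 * (z0 ^ 2 * z4) := by
      calc z1 * z1 ^ 3 = (z1 ^ 2) ^ 2 := by ring
        _ = z1 * (z0 ^ 2 * z4) := by rw [f1, f3, f0]; ring
    exact mul_left_cancel₀ h1 this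
  -- express everything through `z5`
  have g3 : z5 ^ 3 = z3 := by
    have : z5 * z5 ^ 3 = z5 * z3 := by
      calc z5 * z5 ^ 3 = (z5 ^ 2) ^ 2 := by ring
        _ = z5 * z3 := by rw [f5, f4]; ring
    exact mul_left_cancel₀ h5 this
  -- `z1^5 = z0^6`
  have g4 : z1 ^ 6 = z0 ^ 4 * z1 ^ 2 * z5 := by
    calc z1 ^ 6 = (z1 ^ 3) ^ 2 := by ring
      _ = z0 ^ 4 * z4 ^ 2 := by rw [g2]; ring
      _ = z0 ^ 4 * z1 ^ 2 * z5 := by rw [f4, ← f1]; ring
  have g5 : z1 ^ 4 = z0 ^ 4 * z5 := by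
    have : z1 ^ 2 * z1 ^ 4 = z1 ^ 2 * (z0 ^ 4 * z5) := by
      calc z1 ^ 2 * z1 ^ 4 = z1 ^ 6 := by ring
        _ = z1 ^ 2 * (z0 ^ 4 * z5) := by rw [g4]; ring
    exact mul_left_cancel₀ (pow_ne_zero 2 h1) this
  have g6 : z1 ^ 8 = z0 ^ 8 * z4 := by
    calc z1 ^ 8 = (z1 ^ 4) ^ 2 := by ring
      _ = z0 ^ 8 * z5 ^ 2 := by rw [g5]; ring
      _ = z0 ^ 8 * z4 := by rw [f5]
  have g7 : z1 ^ 5 = z0 ^ 6 := by
    have : z0 ^ 2 * z1 ^ 3 * z1 ^ 5 = z0 ^ 2 * z1 ^ 3 * z0 ^ 6 := by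
      calc z0 ^ 2 * z1 ^ 3 * z1 ^ 5 = z0 ^ 2 * z1 ^ 8 := by ring
        _ = z0 ^ 8 * (z0 ^ 2 * z4) := by rw [g6]; ring
        _ = z0 ^ 2 * z1 ^ 3 * z0 ^ 6 := by rw [← g2]; ring
    exact mul_left_cancel₀ (mul_ne_zero (pow_ne_zero 2 h0) (pow_ne_zero 3 h1)) this
  have k1 : z1 = 1 := by
    have : z1 ^ 4 * z1 = z1 ^ 4 * 1 := by
      calc z1 ^ 4 * z1 = z1 ^ 5 := by ring
        _ = (z0 ^ 3) ^ 2 := by rw [g7]; ring
        _ = z1 ^ 4 * 1 := by rw [g1]; ring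
    exact mul_left_cancel₀ (pow_ne_zero 4 h1) this
  have k3 : z3 = 1 := by rw [← f1, k1, one_pow]
  have k0 : z0 ^ 3 = 1 := by rw [g1, k1, one_pow]
  have k2 : z2 = z0 ^ 2 := f0.symm
  have k4 : z4 = z0 := by
    have : z0 ^ 2 * z4 = z0 ^ 2 * z0 := by
      calc z0 ^ 2 * z4 = z1 ^ 3 := g2.symm
        _ = 1 := by rw [k1, one_pow]
        _ = z0 ^ 3 := k0.symm
        _ = z0 ^ 2 * z0 := by ring
    exact mul_left_cancel₀ (pow_ne_zero 2 h0) this
  have k5 : z5 = z0 ^ 2 := by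
    have e : z4 ^ 2 = z5 := by rw [f4, k3, one_mul]
    rw [← e, k4]
  exact ⟨k1, k3, k0, k2, k4, k5⟩

end

end Cfsg.Agent.helper5.Chev
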