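import Mathlib
import Cfsg.Agent.Lib_helper5_TwFineE6b

set_option autoImplicit false

open Cfsg

/-! The torus `H⁰` of `²E₆(q)`: subgroup structure, membership in `²E₆(q)`, stability under the
chunk representatives, and the cube of a `σ`-fixed torus element (helper5). -/

namespace Cfsg.Agent.helper5.Chev

open Cfsg.Lie Cfsg.Agent.helper6.Graph

section
variable {F : Type*} [Field F] (D : ChevalleyDatum)
  (hD : D ∈ [chevG2, chevB2, chevD4, chevF4, chevE6, chevE7, chevE8])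

theorem torP_ones : torP D hD (fun _ => (1 : F)) = 1 := by
  unfold torP
  apply List.prod_eq_one
  intro x hx
  obtain ⟨i, _, rfl⟩ := List.mem_map.mp hx
  exact hGt_one' D hD _

theorem xG_simple_inj (i : ℕ) (hi : i < D.rank) (a b : F)
    (h : xG D hD (D.simple i) a = xG D hD (D.simple i) b) : a = b := by
  have h2 : xG D hD (D.simple i) (a - b) = 1 := by
    rw [sub_eq_add_neg, ← xG_mul, ← xG_inv, h]
    exact mul_inv_cancel _
  have h3 : xG D hD (D.simple i) (a - b) ∈ Ui (F := F) D i := by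
    rw [h2]; exact Subgroup.one_mem _
  exact sub_eq_zero.mp (xG_simple_mem_Ui D hD i hi _ h3)

end

section
variable {K : Type*} [Field K] (D : ChevalleyDatum)
  (hD : D ∈ [chevG2, chevB2, chevD4, chevF4, chevE6, chevE7, chevE8])
  {C : Cert} (T : TwData K D C) (φ : K →+* K)

/-- the characters of a `σ`-fixed torus element are `σ`-compatible -/
theorem torusChar_sigma (d : ℕ → K) (hd : ∀ i, d i ≠ 0)
    (hfixd : sigmaHom D T.perm φ (torP D hD d) = torP D hD d) (i : ℕ) (hi : i < D.rank) :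
    torusChar D d (D.simple (rhoOf C i)) = φ (torusChar D d (D.simple i)) := by
  have hR := rootsOK_of_mem D hD
  have hρ : rhoOf C i < D.rank := T.perm.rho_lt i hi
  have h1 := torP_conj_xG D hD d hd _ (hR.simple_lt i hi) 1
  have h2 := congrArg (sigmaHom D T.perm φ) h1
  rw [map_mul, map_mul, map_inv, hfixd, sigma_simple D hD T φ i hi, sigma_simple D hD T φ i hi,
    torP_conj_xG D hD d hd _ (hR.simple_lt _ hρ), map_one, mul_one, mul_one] at h2
  exact xG_simple_inj D hD _ hρ _ _ h2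

end

section
variable {K : Type*} [Field K] {q : ℕ}

theorem e6par_one (i : ℕ) : e6par q (1 : K) 1 1 1 i = 1 := by
  unfold e6par
  split <;> simp

theorem twE6_torP_expand (d : ℕ → K) : torP chevE6 twE6_hD d =
    hGt chevE6 twE6_hD 56 (d 0) * (hGt chevE6 twE6_hD 46 (d 1) * (hGt chevE6 twE6_hD 42 (d 2) *
      (hGt chevE6 twE6_hD 39 (d 3) * (hGt chevE6 twE6_hD 37 (d 4) *
        hGt chevE6 twE6_hD 36 (d 5))))) := by
  have hr : List.range chevE6.rank = [0, 1, 2, 3, 4, 5] := by decide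
  have s0 : chevE6.simple 0 = 56 := by decide
  have s1 : chevE6.simple 1 = 46 := by decide
  have s2 : chevE6.simple 2 = 42 := by decide
  have s3 : chevE6.simple 3 = 39 := by decide
  have s4 : chevE6.simple 4 = 37 := by decide
  have s5 : chevE6.simple 5 = 36 := by decide
  unfold torP
  rw [hr]
  simp only [List.map_cons, List.map_nil, List.prod_cons, List.prod_nil, mul_one, s0, s1, s2, s3,
    s4, s5]

/-- the torus `H⁰` generated by the rank one tori -/
def twE6_T0 (K : Type*) [Field K] (q : ℕ) : Subgroup (GL chevE6.Idx K) where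
  carrier := {y | ∃ a b c1 c3 : K, a ≠ 0 ∧ b ≠ 0 ∧ c1 ≠ 0 ∧ c3 ≠ 0 ∧ c1 ^ q = c1 ∧ c3 ^ q = c3 ∧
    y = torP chevE6 twE6_hD (e6par q a b c1 c3)}
  mul_mem' := by
    rintro _ _ ⟨a, b, c1, c3, ha, hb, h1, h3, h1q, h3q, rfl⟩
      ⟨a', b', c1', c3', ha', hb', h1', h3', h1q', h3q', rfl⟩
    refine ⟨a * a', b * b', c1 * c1', c3 * c3', mul_ne_zero ha ha', mul_ne_zero hb hb',
      mul_ne_zero h1 h1', mul_ne_zero h3 h3', by rw [mul_pow, h1q, h1q'],
      by rw [mul_pow, h3q, h3q'], ?_⟩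
    rw [torP_mul chevE6 twE6_hD _ _ (fun i _ => e6par_ne q a b c1 c3 ha hb h1 h3 i)
      (fun i _ => e6par_ne q a' b' c1' c3' ha' hb' h1' h3' i)]
    apply torP_ext
    intro i _
    exact e6par_mul q a b c1 c3 a' b' c1' c3' i
  one_mem' := by
    refine ⟨1, 1, 1, 1, one_ne_zero, one_ne_zero, one_ne_zero, one_ne_zero, one_pow q, one_pow q,
      ?_⟩
    rw [← torP_ones chevE6 twE6_hD]
    apply torP_ext
    intro i _
    exact (e6par_one i).symm
  inv_mem' := by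
    rintro _ ⟨a, b, c1, c3, ha, hb, h1, h3, h1q, h3q, rfl⟩
    refine ⟨a⁻¹, b⁻¹, c1⁻¹, c3⁻¹, inv_ne_zero ha, inv_ne_zero hb, inv_ne_zero h1, inv_ne_zero h3,
      by rw [inv_pow, h1q], by rw [inv_pow, h3q], ?_⟩
    rw [inv_eq_iff_mul_eq_one, torP_mul chevE6 twE6_hD _ _
      (fun i _ => e6par_ne q a b c1 c3 ha hb h1 h3 i)
      (fun i _ => e6par_ne q a⁻¹ b⁻¹ c1⁻¹ c3⁻¹ (inv_ne_zero ha) (inv_ne_zero hb) (inv_ne_zero h1)
        (inv_ne_zero h3) i), ← torP_ones chevE6 twE6_hD]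
    apply torP_ext
    intro i _
    rw [e6par_mul, mul_inv_cancel₀ ha, mul_inv_cancel₀ hb, mul_inv_cancel₀ h1,
      mul_inv_cancel₀ h3, e6par_one]

theorem mem_twE6_T0 (y : GL chevE6.Idx K) : y ∈ twE6_T0 K q ↔
    ∃ a b c1 c3 : K, a ≠ 0 ∧ b ≠ 0 ∧ c1 ≠ 0 ∧ c3 ≠ 0 ∧ c1 ^ q = c1 ∧ c3 ^ q = c3 ∧
      y = torP chevE6 twE6_hD (e6par q a b c1 c3) := Iff.rfl

theorem twE6_hsingle_mem (hq1 : (-1 : K) ^ q = -1) (r r' : ℕ)
    (hr : r ∈ [e6p2, e6m2, e6p4, e6m4]) (hr' : r' ∈ [e6p2, e6m2, e6p4, e6m4])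
    (hneg : chevE6.neg r = r') (b : K) (hb : b ≠ 0)
    (hbq : b ^ q = b) : hGt chevE6 twE6_hD r b ∈ twistedE6 K q := by
  have key : ∀ t : K, t ≠ 0 → t ^ q = t → nGt chevE6 twE6_hD r t ∈ twistedE6 K q := by
    intro t ht htq
    unfold nGt
    rw [hneg]
    have h2 : (-t⁻¹) ^ q = -t⁻¹ := by
      rw [neg_pow, hq1, inv_pow, htq]
      ring
    refine Subgroup.mul_mem _ (Subgroup.mul_mem _ ?_ ?_) ?_
    · exact twE6_x_fixed K q t htq r hr
    · exact twE6_x_fixed K q _ h2 r' hr'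
    · exact twE6_x_fixed K q t htq r hr
  unfold hGt
  exact Subgroup.mul_mem _ (key b hb hbq) (key (-1) (by norm_num) hq1)

theorem twE6_hpair16_mem (hq1 : (-1 : K) ^ q = -1) (a : K) :
    hGt chevE6 twE6_hD 56 a * hGt chevE6 twE6_hD 36 (a ^ q) ∈ twistedE6 K q := by
  apply hpair_mem chevE6 twE6_hD (twistedE6 K q) q hq1 56 36 twE6_orth16
  · intro t
    exact twE6_x_pair K q t (e6p1, e6p6) (by decide)
  · intro t
    have e1 : chevE6.neg 56 = 15 := by decide
    have e2 : chevE6.neg 36 = 35 := by decide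
    rw [e1, e2]
    exact twE6_x_pair K q t (e6m1, e6m6) (by decide)

theorem twE6_hpair35_mem (hq1 : (-1 : K) ^ q = -1) (a : K) :
    hGt chevE6 twE6_hD 42 a * hGt chevE6 twE6_hD 37 (a ^ q) ∈ twistedE6 K q := by
  apply hpair_mem chevE6 twE6_hD (twistedE6 K q) q hq1 42 37 twE6_orth35
  · intro t
    exact twE6_x_pair K q t (e6p3, e6p5) (by decide)
  · intro t
    have e1 : chevE6.neg 42 = 29 := by decide
    have e2 : chevE6.neg 37 = 34 := by decide
    rw [e1, e2]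
    exact twE6_x_pair K q t (e6m3, e6m5) (by decide)

/-- the four rank one tori -/
theorem twE6_torP_a (a : K) : torP chevE6 twE6_hD (e6par q a 1 1 1) =
    hGt chevE6 twE6_hD 56 a * hGt chevE6 twE6_hD 36 (a ^ q) := by
  rw [twE6_torP_expand]
  show hGt chevE6 twE6_hD 56 a * (hGt chevE6 twE6_hD 46 1 * (hGt chevE6 twE6_hD 42 1 *
    (hGt chevE6 twE6_hD 39 1 * (hGt chevE6 twE6_hD 37 (1 ^ q) *
      hGt chevE6 twE6_hD 36 (a ^ q))))) = _
  rw [one_pow, hGt_one', hGt_one', hGt_one', hGt_one', one_mul, one_mul, one_mul, one_mul]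

theorem twE6_torP_b (b : K) : torP chevE6 twE6_hD (e6par q 1 b 1 1) =
    hGt chevE6 twE6_hD 42 b * hGt chevE6 twE6_hD 37 (b ^ q) := by
  rw [twE6_torP_expand]
  show hGt chevE6 twE6_hD 56 1 * (hGt chevE6 twE6_hD 46 1 * (hGt chevE6 twE6_hD 42 b *
    (hGt chevE6 twE6_hD 39 1 * (hGt chevE6 twE6_hD 37 (b ^ q) *
      hGt chevE6 twE6_hD 36 (1 ^ q))))) = _
  rw [one_pow, hGt_one', hGt_one', hGt_one', hGt_one', one_mul, one_mul, one_mul, mul_one]

theorem twE6_torP_c1 (c1 : K) : torP chevE6 twE6_hD (e6par q 1 1 c1 1) =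
    hGt chevE6 twE6_hD 46 c1 := by
  rw [twE6_torP_expand]
  show hGt chevE6 twE6_hD 56 1 * (hGt chevE6 twE6_hD 46 c1 * (hGt chevE6 twE6_hD 42 1 *
    (hGt chevE6 twE6_hD 39 1 * (hGt chevE6 twE6_hD 37 (1 ^ q) *
      hGt chevE6 twE6_hD 36 (1 ^ q))))) = _
  rw [one_pow, hGt_one', hGt_one', hGt_one', hGt_one', hGt_one', one_mul, mul_one, mul_one,
    mul_one, mul_one]

theorem twE6_torP_c3 (c3 : K) : torP chevE6 twE6_hD (e6par q 1 1 1 c3) =
    hGt chevE6 twE6_hD 39 c3 := by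
  rw [twE6_torP_expand]
  show hGt chevE6 twE6_hD 56 1 * (hGt chevE6 twE6_hD 46 1 * (hGt chevE6 twE6_hD 42 1 *
    (hGt chevE6 twE6_hD 39 c3 * (hGt chevE6 twE6_hD 37 (1 ^ q) *
      hGt chevE6 twE6_hD 36 (1 ^ q))))) = _
  rw [one_pow, hGt_one', hGt_one', hGt_one', hGt_one', hGt_one', one_mul, one_mul, one_mul,
    mul_one, mul_one]

theorem twE6_torP_split (a b c1 c3 : K) (ha : a ≠ 0) (hb : b ≠ 0) (h1 : c1 ≠ 0) (h3 : c3 ≠ 0) :
    torP chevE6 twE6_hD (e6par q a b c1 c3) =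
      torP chevE6 twE6_hD (e6par q a 1 1 1) * (torP chevE6 twE6_hD (e6par q 1 b 1 1) *
        (torP chevE6 twE6_hD (e6par q 1 1 c1 1) * torP chevE6 twE6_hD (e6par q 1 1 1 c3))) := by
  have n1 : (1 : K) ≠ 0 := one_ne_zero
  rw [torP_mul chevE6 twE6_hD _ _ (fun i _ => e6par_ne q 1 1 c1 1 n1 n1 h1 n1 i)
      (fun i _ => e6par_ne q 1 1 1 c3 n1 n1 n1 h3 i)]
  have e1 : torP chevE6 twE6_hD (fun i => e6par q 1 1 c1 1 i * e6par q 1 1 1 c3 i) =
      torP chevE6 twE6_hD (e6par q 1 1 c1 c3) := by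
    apply torP_ext
    intro i _
    simp only [e6par_mul, mul_one, one_mul]
  rw [e1, torP_mul chevE6 twE6_hD _ _ (fun i _ => e6par_ne q 1 b 1 1 n1 hb n1 n1 i)
      (fun i _ => e6par_ne q 1 1 c1 c3 n1 n1 h1 h3 i)]
  have e2 : torP chevE6 twE6_hD (fun i => e6par q 1 b 1 1 i * e6par q 1 1 c1 c3 i) =
      torP chevE6 twE6_hD (e6par q 1 b c1 c3) := by
    apply torP_ext
    intro i _
    simp only [e6par_mul, mul_one, one_mul]
  rw [e2, torP_mul chevE6 twE6_hD _ _ (fun i _ => e6par_ne q a 1 1 1 ha n1 n1 n1 i)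
      (fun i _ => e6par_ne q 1 b c1 c3 n1 hb h1 h3 i)]
  apply torP_ext
  intro i _
  simp only [e6par_mul, mul_one, one_mul]

/-- `H⁰ ≤ H ∩ ²E₆(q)` -/
theorem twE6_T0_le (hq1 : (-1 : K) ^ q = -1) :
    twE6_T0 K q ≤ chevE6.diagonalSubgroup K ⊓ twistedE6 K q := by
  rintro y ⟨a, b, c1, c3, ha, hb, h1, h3, h1q, h3q, rfl⟩
  refine ⟨torP_mem chevE6 twE6_hD _ (fun i _ => e6par_ne q a b c1 c3 ha hb h1 h3 i), ?_⟩
  rw [twE6_torP_split a b c1 c3 ha hb h1 h3, twE6_torP_a, twE6_torP_b, twE6_torP_c1,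
    twE6_torP_c3]
  refine Subgroup.mul_mem _ (twE6_hpair16_mem hq1 a) (Subgroup.mul_mem _ (twE6_hpair35_mem hq1 b)
    (Subgroup.mul_mem _ ?_ ?_))
  · exact twE6_hsingle_mem hq1 46 25 (by decide) (by decide) (by decide) c1 h1 h1q
  · exact twE6_hsingle_mem hq1 39 32 (by decide) (by decide) (by decide) c3 h3 h3q

variable (hq0 : q ≠ 0) (hfrob : ∀ a b : K, (a + b) ^ q = a ^ q + b ^ q)

/-- the torus elements of the chunks lie in `H⁰` -/
theorem twE6_chunkH_mem : ∀ c ∈ twE6_csF, ∀ t : ℕ → K,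
    (∀ j ∈ c, frobHom K q hq0 hfrob (t (rhoInvOf certE6 j)) = t j) → (∀ j ∈ c, t j ≠ 0) →
    chunkH chevE6 twE6_hD c t ∈ twE6_T0 K q := by
  have s0 : chevE6.simple 0 = 56 := by decide
  have s1 : chevE6.simple 1 = 46 := by decide
  have s2 : chevE6.simple 2 = 42 := by decide
  have s3 : chevE6.simple 3 = 39 := by decide
  have s4 : chevE6.simple 4 = 37 := by decide
  have s5 : chevE6.simple 5 = 36 := by decide
  have n1 : (1 : K) ≠ 0 := one_ne_zero
  intro c hc t htc ht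
  simp only [twE6_csF, List.mem_cons, List.not_mem_nil, or_false] at hc
  rcases hc with rfl | rfl | rfl | rfl
  · have h5 := htc 5 (by decide)
    have r5 : rhoInvOf certE6 5 = 0 := by decide
    rw [r5, frobHom_apply] at h5
    refine ⟨t 0, 1, 1, 1, ht 0 (by decide), n1, n1, n1, one_pow q, one_pow q, ?_⟩
    rw [twE6_torP_a, h5]
    unfold chunkH
    simp only [List.reverse_cons, List.reverse_nil, List.nil_append, List.cons_append,
      List.map_cons, List.map_nil, List.prod_cons, List.prod_nil, mul_one, s0, s5]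
  · have h4 := htc 4 (by decide)
    have r4 : rhoInvOf certE6 4 = 2 := by decide
    rw [r4, frobHom_apply] at h4
    refine ⟨1, t 2, 1, 1, n1, ht 2 (by decide), n1, n1, one_pow q, one_pow q, ?_⟩
    rw [twE6_torP_b, h4]
    unfold chunkH
    simp only [List.reverse_cons, List.reverse_nil, List.nil_append, List.cons_append,
      List.map_cons, List.map_nil, List.prod_cons, List.prod_nil, mul_one, s2, s4]
  · have h3 := htc 3 (by decide)
    have r3 : rhoInvOf certE6 3 = 3 := by decide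
    rw [r3, frobHom_apply] at h3
    refine ⟨1, 1, 1, t 3, n1, n1, n1, ht 3 (by decide), one_pow q, h3, ?_⟩
    rw [twE6_torP_c3]
    unfold chunkH
    simp only [List.reverse_cons, List.reverse_nil, List.nil_append,
      List.map_cons, List.map_nil, List.prod_cons, List.prod_nil, mul_one, s3]
  · have h1 := htc 1 (by decide)
    have r1 : rhoInvOf certE6 1 = 1 := by decide
    rw [r1, frobHom_apply] at h1
    refine ⟨1, 1, t 1, 1, n1, n1, ht 1 (by decide), n1, h1, one_pow q, ?_⟩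
    rw [twE6_torP_c1]
    unfold chunkH
    simp only [List.reverse_cons, List.reverse_nil, List.nil_append,
      List.map_cons, List.map_nil, List.prod_cons, List.prod_nil, mul_one, s1]

end

end Cfsg.Agent.helper5.Chev
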