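import Mathlib
import Cfsg.Agent.Lib_helper5_TwFineE6c

set_option autoImplicit false

open Cfsg

/-! `H ∩ ²E₆(q)` is the torus `H⁰` generated by the rank one tori (helper5). -/

namespace Cfsg.Agent.helper5.Chev

open Cfsg.Lie Cfsg.Agent.helper6.Graph

theorem twE6_csF_rev : ∀ c ∈ twE6_csF, c.reverse ∈ twE6_cs0 := by decide

theorem twE6_cs0_revF : ∀ c ∈ twE6_cs0, c.reverse ∈ twE6_csF := by decide

theorem twE6_csF_tr : ∀ c ∈ twE6_csF, ∀ i ∈ c, ∀ j ∈ c, j = i ∨ j = rhoOf certE6 i := by decide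

theorem twE6_csF_lt : ∀ c ∈ twE6_csF, ∀ i ∈ c, i < chevE6.rank := by decide

section
variable {K : Type*} [Field K] {q : ℕ}

theorem twE6_csF_sq : ∀ c ∈ twE6_csF,
    nR (F := K) chevE6 twE6_hD c * nR chevE6 twE6_hD c ∈ chevE6.diagonalSubgroup K := by
  intro c hc
  unfold nR
  rw [← nW_append]
  apply nW_mem_H chevE6 twE6_hD
  · intro i hi
    rcases List.mem_append.mp hi with hi | hi <;>
      exact twE6_csF_lt c hc i (List.mem_reverse.mp hi)
  · exact chunkBNChk_sq chevE6 certE6 c.reverse (twE6_chk0 c.reverse (twE6_csF_rev c hc))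

theorem twE6_genU (hq1 : (-1 : K) ^ q = -1) : twistedE6 K q ≤ Subgroup.closure
    (((chevE6.posUnipotent K ⊓ twistedE6 K q : Subgroup (GL chevE6.Idx K)) :
      Set (GL chevE6.Idx K)) ∪ {s | ∃ c ∈ twE6_csF, s = nR chevE6 twE6_hD c}) := by
  have hSG : {s : GL chevE6.Idx K | ∃ c ∈ twE6_csF, s = nR chevE6 twE6_hD c} ⊆
      (twistedE6 K q : Set (GL chevE6.Idx K)) := by
    rintro s ⟨c, hc, rfl⟩
    exact twE6_nR_mem hq1 c (twE6_csF_sub c hc)
  have hn0 : nW (F := K) chevE6 twE6_hD twE6_w0 ∈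
      Subgroup.closure {s : GL chevE6.Idx K | ∃ c ∈ twE6_csF, s = nR chevE6 twE6_hD c} := by
    refine Subgroup.closure_mono ?_ (twE6_n0_closure (K := K))
    rintro s ⟨c, hc, rfl⟩
    refine ⟨c.reverse, twE6_cs0_revF c hc, ?_⟩
    unfold nR
    rw [List.reverse_reverse]
  unfold twistedE6 ChevalleyDatum.genSubgroup
  rw [Subgroup.closure_le]
  rintro g ⟨w, hw, hgw⟩
  have hgG : g ∈ twistedE6 K q := Subgroup.subset_closure ⟨w, hw, hgw⟩
  apply tw_gen_of_UV_U chevE6 twE6_hD (twistedE6 K q) _ hSG twE6_w0 twE6_w0_ok hn0 g hgG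
  have hpos : ∀ r t, chevE6.IsPosRoot r → xG (F := K) chevE6 twE6_hD r t ∈ chevE6.posUnipotent K :=
    fun r t hr => Subgroup.subset_closure ⟨r, t, hr, xG_val chevE6 twE6_hD r t⟩
  have hneg : ∀ r t, chevE6.IsNegRoot r → xG (F := K) chevE6 twE6_hD r t ∈ chevE6.negUnipotent K :=
    fun r t hr => Subgroup.subset_closure ⟨r, t, hr, xG_val chevE6 twE6_hD r t⟩
  rcases hw with ⟨t, ht, r, hr, rfl⟩ | ⟨t, rs, hrs, rfl⟩
  · rw [wordMat_one] at hgw
    rw [eq_xG chevE6 twE6_hD g r t hgw]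
    simp only [List.mem_cons, List.not_mem_nil, or_false] at hr
    rcases hr with rfl | rfl | rfl | rfl
    · left; exact hpos _ _ (by decide)
    · right; exact hneg _ _ (by decide)
    · left; exact hpos _ _ (by decide)
    · right; exact hneg _ _ (by decide)
  · rw [wordMat_two] at hgw
    have e : g = xG chevE6 twE6_hD rs.1 t * xG chevE6 twE6_hD rs.2 (t ^ q) := by
      apply Units.ext
      rw [hgw, Units.val_mul, xG_val, xG_val]
    rw [e]
    simp only [List.mem_cons, List.not_mem_nil, or_false] at hrs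
    rcases hrs with rfl | rfl | rfl | rfl
    · left; exact Subgroup.mul_mem _ (hpos _ _ (by decide)) (hpos _ _ (by decide))
    · right; exact Subgroup.mul_mem _ (hneg _ _ (by decide)) (hneg _ _ (by decide))
    · left; exact Subgroup.mul_mem _ (hpos _ _ (by decide)) (hpos _ _ (by decide))
    · right; exact Subgroup.mul_mem _ (hneg _ _ (by decide)) (hneg _ _ (by decide))

variable (hq0 : q ≠ 0) (hfrob : ∀ a b : K, (a + b) ^ q = a ^ q + b ^ q)

include hq0 hfrob in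
/-- `H⁰` is stable under conjugation by the chunk representatives -/
theorem twE6_T0_conj (hq1 : (-1 : K) ^ q = -1) (hK2 : ∀ t : K, (t ^ q) ^ q = t) :
    ∀ c ∈ twE6_csF, ∀ y ∈ twE6_T0 K q,
      nR chevE6 twE6_hD c * y * (nR chevE6 twE6_hD c)⁻¹ ∈ twE6_T0 K q := by
  intro c hc y hy
  have hyG := (twE6_T0_le hq1 hy).2
  have hfix := twE6_fix hq0 hfrob hK2 y hyG
  unfold twE6_sigma at hfix
  obtain ⟨a, b, c1, c3, ha, hb, h1, h3, h1q, h3q, rfl⟩ := hy
  have hd := e6par_ne q a b c1 c3 ha hb h1 h3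
  have hcOK := twE6_chunkOK c (twE6_csF_sub c hc)
  rw [nR_conj_torP chevE6 twE6_hD c hcOK.orth hcOK.lt _ hd]
  refine Subgroup.mul_mem _ (Subgroup.inv_mem _ ?_)
    ⟨a, b, c1, c3, ha, hb, h1, h3, h1q, h3q, rfl⟩
  apply twE6_chunkH_mem hq0 hfrob c hc
  · intro j hj
    have hjlt := hcOK.lt j hj
    have hρi : rhoInvOf certE6 j < chevE6.rank := (twE6_tw K).perm.rhoInv_lt j hjlt
    have h2 := torusChar_sigma chevE6 twE6_hD (twE6_tw K) (frobHom K q hq0 hfrob) _ hd hfix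
      (rhoInvOf certE6 j) hρi
    have e : rhoOf certE6 (rhoInvOf certE6 j) = j := (twE6_tw K).perm.rho_right j hjlt
    rw [e] at h2
    exact h2.symm
  · intro j _
    exact torusChar_ne_zero chevE6 _ hd _

/-- the cube of a `σ`-fixed torus element lies in `H⁰` -/
theorem twE6_cube_mem (y : GL chevE6.Idx K) (hy : y ∈ chevE6.diagonalSubgroup K)
    (hσ : twE6_sigma hq0 hfrob y = y) : y * y * y ∈ twE6_T0 K q := by
  obtain ⟨d, hd, rfl⟩ := exists_torP chevE6 twE6_hD y hy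
  unfold twE6_sigma at hσ
  rw [sigma_torP chevE6 twE6_hD (twE6_tw K) (frobHom K q hq0 hfrob) twE6_rho_perm d
    (fun i _ => hd i)] at hσ
  have r0 : rhoInvOf certE6 0 = 5 := by decide
  have r1 : rhoInvOf certE6 1 = 1 := by decide
  have r2 : rhoInvOf certE6 2 = 4 := by decide
  have r3 : rhoInvOf certE6 3 = 3 := by decide
  have r4 : rhoInvOf certE6 4 = 2 := by decide
  have r5 : rhoInvOf certE6 5 = 0 := by decide
  obtain ⟨z, hzdef⟩ : ∃ z : ℕ → K, z = fun j =>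
      frobHom K q hq0 hfrob (d (rhoInvOf certE6 j)) * (d j)⁻¹ := ⟨_, rfl⟩
  have hz : ∀ i, z i ≠ 0 := by
    intro i
    rw [hzdef]
    exact mul_ne_zero (fun h0 => hd _ ((map_eq_zero _).mp h0)) (inv_ne_zero (hd i))
  have hz1 : torP chevE6 twE6_hD z = 1 := by
    have h1 : torP chevE6 twE6_hD z * torP chevE6 twE6_hD d = torP chevE6 twE6_hD d := by
      rw [torP_mul chevE6 twE6_hD z d (fun i _ => hz i) (fun i _ => hd i), ← hσ]
      apply torP_ext
      intro i _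
      rw [hzdef]
      show frobHom K q hq0 hfrob (d (rhoInvOf certE6 i)) * (d i)⁻¹ * d i = _
      rw [inv_mul_cancel_right₀ (hd i)]
    exact mul_eq_right.mp h1
  have hch := (torP_eq_one_iff chevE6 twE6_hD twE6_hCR z hz).mp hz1
  obtain ⟨c0, c1, c2, c3, c4, c5⟩ := e6_char z
  have e0 := hch 0 (by decide)
  have e1 := hch 1 (by decide)
  have e2 := hch 2 (by decide)
  have e3 := hch 3 (by decide)
  have e4 := hch 4 (by decide)
  have e5 := hch 5 (by decide)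
  rw [c0] at e0
  rw [c1] at e1
  rw [c2] at e2
  rw [c3] at e3
  rw [c4] at e4
  rw [c5] at e5
  obtain ⟨k1, k3, k0, k2, k4, k5⟩ := e6_Z (z 0) (z 1) (z 2) (z 3) (z 4) (z 5) (hz 0) (hz 1)
    (hz 2) (hz 3) (hz 4) (hz 5) e0 e1 e2 e3 e4 e5
  have z0 : z 0 = d 5 ^ q * (d 0)⁻¹ := by
    rw [hzdef]; show frobHom K q hq0 hfrob _ * _ = _; rw [r0]; rfl
  have z1 : z 1 = d 1 ^ q * (d 1)⁻¹ := by
    rw [hzdef]; show frobHom K q hq0 hfrob _ * _ = _; rw [r1]; rfl
  have z3 : z 3 = d 3 ^ q * (d 3)⁻¹ := by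
    rw [hzdef]; show frobHom K q hq0 hfrob _ * _ = _; rw [r3]; rfl
  have z4 : z 4 = d 2 ^ q * (d 4)⁻¹ := by
    rw [hzdef]; show frobHom K q hq0 hfrob _ * _ = _; rw [r4]; rfl
  have z5 : z 5 = d 0 ^ q * (d 5)⁻¹ := by
    rw [hzdef]; show frobHom K q hq0 hfrob _ * _ = _; rw [r5]; rfl
  have hd1q : d 1 ^ q = d 1 := by
    have : d 1 ^ q * (d 1)⁻¹ = 1 := by rw [← z1, k1]
    calc d 1 ^ q = d 1 ^ q * (d 1)⁻¹ * d 1 := by rw [inv_mul_cancel_right₀ (hd 1)]
      _ = d 1 := by rw [this, one_mul]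
  have hd3q : d 3 ^ q = d 3 := by
    have : d 3 ^ q * (d 3)⁻¹ = 1 := by rw [← z3, k3]
    calc d 3 ^ q = d 3 ^ q * (d 3)⁻¹ * d 3 := by rw [inv_mul_cancel_right₀ (hd 3)]
      _ = d 3 := by rw [this, one_mul]
  have hd2q : d 2 ^ q = z 0 * d 4 := by
    rw [← k4, z4, inv_mul_cancel_right₀ (hd 4)]
  have hd0q : d 0 ^ q = z 0 ^ 2 * d 5 := by
    rw [← k5, z5, inv_mul_cancel_right₀ (hd 5)]
  have hz6 : z 0 ^ 6 = 1 := by
    calc z 0 ^ 6 = (z 0 ^ 3) ^ 2 := by ring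
      _ = 1 := by rw [k0, one_pow]
  refine ⟨d 0 ^ 3, d 2 ^ 3, d 1 ^ 3, d 3 ^ 3, pow_ne_zero _ (hd 0), pow_ne_zero _ (hd 2),
    pow_ne_zero _ (hd 1), pow_ne_zero _ (hd 3), ?_, ?_, ?_⟩
  · rw [pow_right_comm, hd1q]
  · rw [pow_right_comm, hd3q]
  · rw [torP_mul chevE6 twE6_hD d d (fun i _ => hd i) (fun i _ => hd i),
      torP_mul chevE6 twE6_hD _ d (fun i _ => mul_ne_zero (hd i) (hd i)) (fun i _ => hd i)]
    apply torP_ext
    intro i hi
    have hr : chevE6.rank = 6 := by decide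
    rw [hr] at hi
    interval_cases i
    · show d 0 * d 0 * d 0 = d 0 ^ 3
      ring
    · show d 1 * d 1 * d 1 = d 1 ^ 3
      ring
    · show d 2 * d 2 * d 2 = d 2 ^ 3
      ring
    · show d 3 * d 3 * d 3 = d 3 ^ 3
      ring
    · show d 4 * d 4 * d 4 = (d 2 ^ 3) ^ q
      rw [pow_right_comm, hd2q, mul_pow, k0]
      ring
    · show d 5 * d 5 * d 5 = (d 0 ^ 3) ^ q
      rw [pow_right_comm, hd0q, mul_pow, ← pow_mul, hz6]
      ring

end

section
variable {K : Type*} [Field K] [Fintype K] {q : ℕ}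

/-- **`H ∩ ²E₆(q) = H⁰`** -/
theorem twE6_H1_le (hq : IsPrimePow q) (hK : Fintype.card K = q ^ 2) :
    chevE6.diagonalSubgroup K ⊓ twistedE6 K q ≤ twE6_T0 K q := by
  have hq2 : 2 ≤ q := hq.two_le
  have hq0 : q ≠ 0 := by omega
  have hq1 : (-1 : K) ^ q = -1 := neg_one_pow_q1 hK
  have hfrob : ∀ a b : K, (a + b) ^ q = a ^ q + b ^ q := by
    intro a b
    have := frob_add hq hK 1 a b
    rwa [pow_one] at this
  have hK2 : ∀ t : K, (t ^ q) ^ q = t := by
    intro t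
    rw [← pow_mul, ← sq, ← hK, FiniteField.pow_card]
  have hC := commOK_of_mem chevE6 twE6_hD
  have hP := posCommOK_of_mem chevE6 twE6_hD
  have hNH := N_le_normalizer_H (F := K) chevE6 twE6_hD
  have hfix := twE6_fix hq0 hfrob hK2
  obtain ⟨S, hS⟩ : ∃ S : Set (GL chevE6.Idx K),
      S = {s | ∃ c ∈ twE6_csF, s = nR chevE6 twE6_hD c} := ⟨_, rfl⟩
  have hSN : ∀ s ∈ S, s ∈ chevE6.monomialSubgroup K ⊓ twistedE6 K q := by
    rw [hS]
    rintro s ⟨c, hc, rfl⟩
    exact ⟨nW_mem chevE6 twE6_hD _ (fun i hi => twE6_csF_lt c hc i (List.mem_reverse.mp hi)),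
      twE6_nR_mem hq1 c (twE6_csF_sub c hc)⟩
  have hT0 := twE6_T0_le (K := K) (q := q) hq1
  obtain ⟨N0, hN0def⟩ : ∃ N0, N0 = Subgroup.closure (S ∪ (twE6_T0 K q : Set (GL chevE6.Idx K))) :=
    ⟨_, rfl⟩
  have hN0 : N0 ≤ chevE6.monomialSubgroup K ⊓ twistedE6 K q := by
    rw [hN0def, Subgroup.closure_le]
    rintro x (hx | hx)
    · exact hSN x hx
    · exact ⟨H_le_N chevE6 (hT0 hx).1, (hT0 hx).2⟩
  have hcN : ∀ c ∈ twE6_csF, nR chevE6 twE6_hD c ∈ N0 := by
    intro c hc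
    rw [hN0def]
    apply Subgroup.subset_closure
    left
    rw [hS]
    exact ⟨c, hc, rfl⟩
  have hT0N : twE6_T0 K q ≤ N0 := by
    rw [hN0def]
    intro x hx
    exact Subgroup.subset_closure (Or.inr hx)
  have hM : ∀ c ∈ twE6_csF, ∀ t : ℕ → K,
      (∀ j ∈ c, frobHom K q hq0 hfrob (t (rhoInvOf certE6 j)) = t j) → (∀ j ∈ c, t j ≠ 0) →
      chunkM chevE6 twE6_hD c t ∈ N0 := by
    intro c hc t htc ht
    rw [chunkM_eq_chunkH chevE6 twE6_hD c (twE6_csF_lt c hc) t ht]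
    apply hT0N
    apply twE6_chunkH_mem hq0 hfrob c hc
    · intro j hj
      show frobHom K q hq0 hfrob (-(t (rhoInvOf certE6 j))⁻¹) = -(t j)⁻¹
      rw [map_neg, map_inv₀, htc j hj]
    · intro j hj
      exact neg_ne_zero.mpr (inv_ne_zero (ht j hj))
  have hfine := tw_fine chevE6 twE6_hD (twE6_tw K) twE6_pi (frobHom K q hq0 hfrob) hC hP
    (twistedE6 K q) hfix N0 hN0 twE6_csF (fun c hc => twE6_chunkOK c (twE6_csF_sub c hc))
    twE6_csF_tr hcN twE6_csF_sq hM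
    (fun c hc => twE6_chunkX_mem hq0 hfrob c (twE6_csF_sub c hc))
    (twE6_dec hq0 hfrob hq1 hK2) (twE6_genU hq1)
  -- conjugation by `⟨S⟩` preserves `H⁰`
  have hconj : ∀ s ∈ Subgroup.closure S, ∀ t ∈ twE6_T0 K q,
      s * t * s⁻¹ ∈ twE6_T0 K q ∧ s⁻¹ * t * s ∈ twE6_T0 K q := by
    intro s hs
    induction hs using Subgroup.closure_induction with
    | mem x hx =>
      intro t ht
      rw [hS] at hx
      obtain ⟨c, hc, rfl⟩ := hx
      have h1 := twE6_T0_conj hq0 hfrob hq1 hK2 c hc t ht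
      refine ⟨h1, ?_⟩
      have hcN' : nR (F := K) chevE6 twE6_hD c ∈ chevE6.monomialSubgroup K :=
        nW_mem chevE6 twE6_hD _ (fun i hi => twE6_csF_lt c hc i (List.mem_reverse.mp hi))
      rw [conj_inv_eq_conj chevE6 twE6_hD (nR chevE6 twE6_hD c) hcN'
        (twE6_csF_sq c hc) t (hT0 ht).1]
      exact h1
    | one =>
      intro t ht
      simp only [one_mul, inv_one, mul_one]
      exact ⟨ht, ht⟩
    | mul x y _ _ ihx ihy =>
      intro t ht
      constructor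
      · have e : x * y * t * (x * y)⁻¹ = x * (y * t * y⁻¹) * x⁻¹ := by group
        rw [e]
        exact (ihx _ (ihy t ht).1).1
      · have e : (x * y)⁻¹ * t * (x * y) = y⁻¹ * (x⁻¹ * t * x) * y := by group
        rw [e]
        exact (ihy _ (ihx t ht).2).2
    | inv x _ ih =>
      intro t ht
      rw [inv_inv]
      exact ⟨(ih t ht).2, (ih t ht).1⟩
  -- the elements of `N⁰` are products
  have hprod : ∀ n ∈ N0, ∃ s ∈ Subgroup.closure S, ∃ t ∈ twE6_T0 K q, n = s * t := by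
    intro n hn
    rw [hN0def] at hn
    induction hn using Subgroup.closure_induction with
    | mem x hx =>
      rcases hx with hx | hx
      · exact ⟨x, Subgroup.subset_closure hx, 1, Subgroup.one_mem _, (mul_one x).symm⟩
      · exact ⟨1, Subgroup.one_mem _, x, hx, (one_mul x).symm⟩
    | one => exact ⟨1, Subgroup.one_mem _, 1, Subgroup.one_mem _, (mul_one 1).symm⟩
    | mul x y _ _ ihx ihy =>
      obtain ⟨s, hs, t, ht, rfl⟩ := ihx
      obtain ⟨s', hs', t', ht', rfl⟩ := ihy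
      refine ⟨s * s', Subgroup.mul_mem _ hs hs', (s'⁻¹ * t * s') * t',
        Subgroup.mul_mem _ (hconj s' hs' t ht).2 ht', by group⟩
    | inv x _ ih =>
      obtain ⟨s, hs, t, ht, rfl⟩ := ih
      refine ⟨s⁻¹, Subgroup.inv_mem _ hs, s * t⁻¹ * s⁻¹,
        (hconj s hs _ (Subgroup.inv_mem _ ht)).1, by group⟩
  intro y hy
  obtain ⟨s, hs, t, ht, rfl⟩ := hprod y (hfine hy)
  have hsH : s ∈ chevE6.diagonalSubgroup K := by
    have e : s = s * t * t⁻¹ := by group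
    rw [e]
    exact Subgroup.mul_mem _ hy.1 (Subgroup.inv_mem _ (hT0 ht).1)
  have hsG : s ∈ twistedE6 K q := by
    have : Subgroup.closure S ≤ twistedE6 K q := by
      rw [Subgroup.closure_le]
      intro x hx
      exact (hSN x hx).2
    exact this hs
  rw [hS] at hs
  obtain ⟨w, hw, rfl⟩ := closure_nR_sub_nW chevE6 twE6_hD twE6_csF twE6_csF_lt s hs
  have hsq := nW_mem_H_sq chevE6 twE6_hD twE6_hCR w hw hsH
  have hcube := twE6_cube_mem hq0 hfrob _ hsH (hfix _ hsG)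
  rw [hsq, one_mul] at hcube
  exact Subgroup.mul_mem _ hcube ht

end

end Cfsg.Agent.helper5.Chev
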