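import Mathlib
import Cfsg.Agent.Lib_helper5_TwFineE6d

set_option autoImplicit false

open Cfsg

/-! The order of `H¹ = H ∩ ²E₆(q)` (helper5). -/

namespace Cfsg.Agent.helper5.Chev

open Cfsg.Lie Cfsg.Agent.helper6.Graph

section
variable {K : Type*} [Field K] {q : ℕ}

/-- the multiplicative group of the fixed field -/
def twE6_Fq (K : Type*) [Field K] (q : ℕ) : Subgroup Kˣ := (powMonoidHom (q - 1) : Kˣ →* Kˣ).ker

theorem mem_twE6_Fq {u : Kˣ} : u ∈ twE6_Fq K q ↔ u ^ (q - 1) = 1 := by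
  unfold twE6_Fq
  rw [MonoidHom.mem_ker, powMonoidHom_apply]

theorem twE6_Fq_pow (hq : 1 ≤ q) (u : Kˣ) (hu : u ∈ twE6_Fq K q) : (u : K) ^ q = u := by
  have h1 := mem_twE6_Fq.mp hu
  have h2 : (u : K) ^ (q - 1) = 1 := by rw [← Units.val_pow_eq_pow_val, h1, Units.val_one]
  calc (u : K) ^ q = (u : K) ^ (q - 1 + 1) := by rw [Nat.sub_add_cancel hq]
    _ = u := by rw [pow_succ, h2, one_mul]

theorem twE6_Fq_mk (hq : 1 ≤ q) (c : K) (hc : c ≠ 0) (hcq : c ^ q = c) :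
    Units.mk0 c hc ∈ twE6_Fq K q := by
  rw [mem_twE6_Fq]
  apply Units.ext
  rw [Units.val_pow_eq_pow_val, Units.val_mk0, Units.val_one]
  have h1 : c ^ (q - 1) * c = 1 * c := by
    rw [← pow_succ, Nat.sub_add_cancel hq, hcq, one_mul]
  exact mul_right_cancel₀ hc h1

/-- the parametrisation of `H⁰` -/
noncomputable def twE6_theta (K : Type*) [Field K] (q : ℕ) :
    Kˣ × Kˣ × ↥(twE6_Fq K q) × ↥(twE6_Fq K q) →* GL chevE6.Idx K where
  toFun p := torP chevE6 twE6_hD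
    (e6par q (p.1 : K) (p.2.1 : K) ((p.2.2.1 : Kˣ) : K) ((p.2.2.2 : Kˣ) : K))
  map_one' := by
    rw [← torP_ones chevE6 twE6_hD]
    apply torP_ext
    intro i _
    exact e6par_one i
  map_mul' := by
    intro p p'
    rw [torP_mul chevE6 twE6_hD _ _
      (fun i _ => e6par_ne q _ _ _ _ (Units.ne_zero _) (Units.ne_zero _) (Units.ne_zero _)
        (Units.ne_zero _) i)
      (fun i _ => e6par_ne q _ _ _ _ (Units.ne_zero _) (Units.ne_zero _) (Units.ne_zero _)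
        (Units.ne_zero _) i)]
    apply torP_ext
    intro i _
    rw [e6par_mul]
    rfl

theorem twE6_theta_apply (p : Kˣ × Kˣ × ↥(twE6_Fq K q) × ↥(twE6_Fq K q)) :
    twE6_theta K q p = torP chevE6 twE6_hD
      (e6par q (p.1 : K) (p.2.1 : K) ((p.2.2.1 : Kˣ) : K) ((p.2.2.2 : Kˣ) : K)) := rfl

theorem twE6_theta_range (hq : 1 ≤ q) : (twE6_theta K q).range = twE6_T0 K q := by
  ext y
  constructor
  · rintro ⟨p, rfl⟩
    exact ⟨_, _, _, _, Units.ne_zero _, Units.ne_zero _, Units.ne_zero _, Units.ne_zero _,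
      twE6_Fq_pow hq _ p.2.2.1.2, twE6_Fq_pow hq _ p.2.2.2.2, rfl⟩
  · rintro ⟨a, b, c1, c3, ha, hb, h1, h3, h1q, h3q, rfl⟩
    exact ⟨(Units.mk0 a ha, Units.mk0 b hb, ⟨Units.mk0 c1 h1, twE6_Fq_mk hq c1 h1 h1q⟩,
      ⟨Units.mk0 c3 h3, twE6_Fq_mk hq c3 h3 h3q⟩), rfl⟩

end

end Cfsg.Agent.helper5.Chev
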