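import Mathlib
import Cfsg.Agent.Lib_helper5_TwFineE6e

set_option autoImplicit false

open Cfsg

/-! The order of `H¹ = H ∩ ²E₆(q)`: the kernel of the parametrisation and the count (helper5). -/

namespace Cfsg.Agent.helper5.Chev

open Cfsg.Lie Cfsg.Agent.helper6.Graph

section
variable {K : Type*} [Field K] {q : ℕ}

theorem twE6_ker_char (a b c1 c3 : K) (ha : a ≠ 0) (hb : b ≠ 0) (h1 : c1 ≠ 0) (h3 : c3 ≠ 0) :
    torP chevE6 twE6_hD (e6par q a b c1 c3) = 1 ↔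
      (c1 = 1 ∧ c3 = 1 ∧ a ^ 3 = 1 ∧ b = a ^ 2 ∧ a ^ q = a ^ 2) := by
  have hz := e6par_ne q a b c1 c3 ha hb h1 h3
  rw [torP_eq_one_iff chevE6 twE6_hD twE6_hCR _ hz]
  obtain ⟨c0, d1, c2, d3, c4, c5⟩ := e6_char (e6par q a b c1 c3)
  have v0 : e6par q a b c1 c3 0 = a := rfl
  have v1 : e6par q a b c1 c3 1 = c1 := rfl
  have v2 : e6par q a b c1 c3 2 = b := rfl
  have v3 : e6par q a b c1 c3 3 = c3 := rfl
  have v4 : e6par q a b c1 c3 4 = b ^ q := rfl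
  have v5 : e6par q a b c1 c3 5 = a ^ q := rfl
  simp only [v0, v1, v2, v3, v4, v5] at c0 d1 c2 d3 c4 c5
  constructor
  · intro h
    have e0 := h 0 (by decide)
    have e1 := h 1 (by decide)
    have e2 := h 2 (by decide)
    have e3 := h 3 (by decide)
    have e4 := h 4 (by decide)
    have e5 := h 5 (by decide)
    rw [c0] at e0
    rw [d1] at e1
    rw [c2] at e2
    rw [d3] at e3
    rw [c4] at e4
    rw [c5] at e5
    obtain ⟨k1, k3, k0, k2, -, k5⟩ := e6_Z a c1 b c3 (b ^ q) (a ^ q) ha h1 hb h3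
      (pow_ne_zero _ hb) (pow_ne_zero _ ha) e0 e1 e2 e3 e4 e5
    exact ⟨k1, k3, k0, k2, k5⟩
  · rintro ⟨rfl, rfl, k0, rfl, k5⟩
    have hbq : (a ^ 2) ^ q = a := by
      rw [pow_right_comm, k5]
      calc (a ^ 2) ^ 2 = a ^ 3 * a := by ring
        _ = a := by rw [k0, one_mul]
    have ha2 : a ^ 2 * (a ^ 2)⁻¹ = 1 := mul_inv_cancel₀ (pow_ne_zero 2 ha)
    have hinv : a⁻¹ = a ^ 2 := by
      have : a * a⁻¹ = a * a ^ 2 := by
        rw [mul_inv_cancel₀ ha]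
        calc (1 : K) = a ^ 3 := k0.symm
          _ = a * a ^ 2 := by ring
      exact mul_left_cancel₀ ha this
    intro i hi
    have hr : chevE6.rank = 6 := by decide
    rw [hr] at hi
    interval_cases i
    · rw [c0]; exact ha2
    · rw [d1]; simp
    · rw [c2, hinv]
      calc a ^ 2 * (a ^ 2) ^ 2 * (1 : K)⁻¹ = (a ^ 3) ^ 2 := by rw [inv_one]; ring
        _ = 1 := by rw [k0, one_pow]
    · rw [d3, hbq, hinv]
      have : (a ^ 2)⁻¹ = a := by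
        rw [← hinv, inv_inv]
      rw [this]
      calc (1 : K)⁻¹ * a * 1 ^ 2 * a ^ 2 = a ^ 3 := by rw [inv_one]; ring
        _ = 1 := k0
    · rw [c4, hbq, k5]
      rw [inv_one, one_mul]
      exact ha2
    · rw [c5, hbq, k5, hinv]
      calc a ^ 2 * (a ^ 2) ^ 2 = (a ^ 3) ^ 2 := by ring
        _ = 1 := by rw [k0, one_pow]

end

section
variable {K : Type*} [Field K] [Fintype K] {q : ℕ}

theorem twE6_card_units (hK : Fintype.card K = q ^ 2) : Nat.card Kˣ = q ^ 2 - 1 := by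
  classical
  rw [Nat.card_eq_fintype_card, Fintype.card_units, hK]

theorem twE6_card_Fq (hq : 1 ≤ q) (hK : Fintype.card K = q ^ 2) :
    Nat.card ↥(twE6_Fq K q) = q - 1 := by
  unfold twE6_Fq
  rw [IsCyclic.card_powMonoidHom_ker, twE6_card_units hK]
  apply Nat.gcd_eq_right
  obtain ⟨p, rfl⟩ : ∃ p, q = p + 1 := ⟨q - 1, by omega⟩
  refine ⟨p + 2, ?_⟩
  rw [Nat.add_sub_cancel]
  apply Nat.sub_eq_of_eq_add
  ring

theorem twE6_card_ker (hq : 1 ≤ q) (hK : Fintype.card K = q ^ 2) :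
    Nat.card ↥(twE6_theta K q).ker = Nat.gcd 3 (q + 1) := by
  obtain ⟨g, hg⟩ : ∃ g, g = Nat.gcd 3 (q + 1) := ⟨_, rfl⟩
  rw [← hg]
  have hg3 : g ∣ 3 := by rw [hg]; exact Nat.gcd_dvd_left _ _
  have hgq : g ∣ q + 1 := by rw [hg]; exact Nat.gcd_dvd_right _ _
  have hcard : Nat.card ↥(powMonoidHom g : Kˣ →* Kˣ).ker = g := by
    rw [IsCyclic.card_powMonoidHom_ker, twE6_card_units hK]
    apply Nat.gcd_eq_right
    refine dvd_trans hgq ⟨q - 1, ?_⟩
    obtain ⟨p, rfl⟩ : ∃ p, q = p + 1 := ⟨q - 1, by omega⟩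
    rw [Nat.add_sub_cancel]
    apply Nat.sub_eq_of_eq_add
    ring
  rw [← hcard]
  -- the bijection `(a, b, c₁, c₃) ↦ a`
  have hker : ∀ p : Kˣ × Kˣ × ↥(twE6_Fq K q) × ↥(twE6_Fq K q), p ∈ (twE6_theta K q).ker ↔
      (((p.2.2.1 : Kˣ) : K) = 1 ∧ ((p.2.2.2 : Kˣ) : K) = 1 ∧ (p.1 : K) ^ 3 = 1 ∧
        (p.2.1 : K) = (p.1 : K) ^ 2 ∧ (p.1 : K) ^ q = (p.1 : K) ^ 2) := by
    intro p
    rw [MonoidHom.mem_ker, twE6_theta_apply]
    exact twE6_ker_char _ _ _ _ (Units.ne_zero _) (Units.ne_zero _) (Units.ne_zero _)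
      (Units.ne_zero _)
  have hmem : ∀ p : Kˣ × Kˣ × ↥(twE6_Fq K q) × ↥(twE6_Fq K q), p ∈ (twE6_theta K q).ker →
      p.1 ∈ (powMonoidHom g : Kˣ →* Kˣ).ker := by
    intro p hp
    obtain ⟨-, -, k0, -, k5⟩ := (hker p).mp hp
    rw [MonoidHom.mem_ker, powMonoidHom_apply, hg]
    rw [pow_gcd_eq_one]
    constructor
    · apply Units.ext
      rw [Units.val_pow_eq_pow_val, Units.val_one, k0]
    · apply Units.ext
      rw [Units.val_pow_eq_pow_val, Units.val_one, pow_succ, k5]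
      calc (p.1 : K) ^ 2 * (p.1 : K) = (p.1 : K) ^ 3 := by ring
        _ = 1 := k0
  apply Nat.card_eq_of_bijective (fun p => (⟨p.1.1, hmem p.1 p.2⟩ :
    ↥(powMonoidHom g : Kˣ →* Kˣ).ker))
  constructor
  · rintro ⟨⟨a, b, c1, c3⟩, hp⟩ ⟨⟨a', b', c1', c3'⟩, hp'⟩ h
    have ha : a = a' := congrArg Subtype.val h
    subst ha
    obtain ⟨k1, k3, -, k2, -⟩ := (hker _).mp hp
    obtain ⟨k1', k3', -, k2', -⟩ := (hker _).mp hp'
    simp only at k1 k3 k2 k1' k3' k2'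
    have hb : b = b' := Units.ext (by rw [k2, k2'])
    have hc1 : c1 = c1' := Subtype.ext (Units.ext (by rw [k1, k1']))
    have hc3 : c3 = c3' := Subtype.ext (Units.ext (by rw [k3, k3']))
    subst hb hc1 hc3
    rfl
  · rintro ⟨u, hu⟩
    rw [MonoidHom.mem_ker, powMonoidHom_apply] at hu
    have hu3 : u ^ 3 = 1 := by
      obtain ⟨k, hk⟩ := hg3
      rw [hk, pow_mul, hu, one_pow]
    have huq : u ^ (q + 1) = 1 := by
      obtain ⟨k, hk⟩ := hgq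
      rw [hk, pow_mul, hu, one_pow]
    have hu3' : (u : K) ^ 3 = 1 := by
      rw [← Units.val_pow_eq_pow_val, hu3, Units.val_one]
    have huq' : (u : K) ^ q = (u : K) ^ 2 := by
      have h1 : (u : K) ^ q * u = (u : K) ^ 2 * u := by
        calc (u : K) ^ q * u = (u : K) ^ (q + 1) := by rw [pow_succ]
          _ = 1 := by rw [← Units.val_pow_eq_pow_val, huq, Units.val_one]
          _ = (u : K) ^ 3 := hu3'.symm
          _ = (u : K) ^ 2 * u := by ring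
      exact mul_right_cancel₀ (Units.ne_zero u) h1
    have hp : ((u, u ^ 2, 1, 1) : Kˣ × Kˣ × ↥(twE6_Fq K q) × ↥(twE6_Fq K q)) ∈
        (twE6_theta K q).ker := by
      rw [hker]
      refine ⟨rfl, rfl, hu3', ?_, huq'⟩
      show ((u ^ 2 : Kˣ) : K) = (u : K) ^ 2
      rw [Units.val_pow_eq_pow_val]
    exact ⟨⟨(u, u ^ 2, 1, 1), hp⟩, rfl⟩

/-- **`gcd(3, q+1) · |H¹| = (q-1)⁴ (q+1)²`** for `²E₆(q)` -/
theorem twE6_card_H1 (hq : IsPrimePow q) (hK : Fintype.card K = q ^ 2) :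
    Nat.gcd 3 (q + 1) * Nat.card ↥(chevE6.diagonalSubgroup K ⊓ twistedE6 K q) =
      (q - 1) ^ 4 * (q + 1) ^ 2 := by
  have hq2 : 2 ≤ q := hq.two_le
  have hq1 : (-1 : K) ^ q = -1 := neg_one_pow_q1 hK
  have heq : chevE6.diagonalSubgroup K ⊓ twistedE6 K q = twE6_T0 K q :=
    le_antisymm (twE6_H1_le hq hK) (twE6_T0_le hq1)
  rw [heq, ← twE6_theta_range (by omega), ← twE6_card_ker (by omega) hK, ← Subgroup.index_ker,
    Subgroup.card_mul_index, Nat.card_prod, Nat.card_prod, Nat.card_prod, twE6_card_units hK,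
    twE6_card_Fq (by omega) hK]
  obtain ⟨p, rfl⟩ : ∃ p, q = p + 1 := ⟨q - 1, by omega⟩
  have e : (p + 1) ^ 2 - 1 = p * (p + 2) := by
    apply Nat.sub_eq_of_eq_add
    ring
  rw [e, Nat.add_sub_cancel]
  ring

end

end Cfsg.Agent.helper5.Chev
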