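import Mathlib
import Cfsg.Agent.Lib_helper5_TwFineE6f
import Cfsg.Agent.Lib_helper5_TwCoxE6
import Cfsg.Agent.Lib_helper5_TwD4Ord
import Cfsg.Agent.Lib_helper5_ChevSum
import Cfsg.Agent.S1086

set_option autoImplicit false
open Cfsg

/-! The order of `²E₆(q)` (helper5). -/

namespace Cfsg.Agent.helper5.Chev

open Cfsg.Lie Cfsg.Agent.helper6.Graph

theorem twE6_csr_cs : ∀ c ∈ twcsrE6, c ∈ twE6_cs := by decide

section
variable {K : Type*} [Field K] [Fintype K] {q : ℕ}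

theorem twE6_card (hq : IsPrimePow q) (hK : Fintype.card K = q ^ 2) :
    Nat.gcd 3 (q + 1) * Nat.card ↥(twistedE6 K q) =
      q ^ 36 * (q ^ 2 - 1) * (q ^ 5 + 1) * (q ^ 6 - 1) * (q ^ 8 - 1) * (q ^ 9 + 1) *
        (q ^ 12 - 1) := by
  have hq2' : 2 ≤ q := hq.two_le
  have hq0 : q ≠ 0 := by omega
  have hq1 : (-1 : K) ^ q = -1 := neg_one_pow_q1 hK
  have hfrob : ∀ a b : K, (a + b) ^ q = a ^ q + b ^ q := by
    intro a b
    have := frob_add hq hK 1 a b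
    rwa [pow_one] at this
  have hK2 : ∀ t : K, (t ^ q) ^ q = t := by
    intro t
    rw [← pow_mul, ← sq, ← hK, FiniteField.pow_card]
  obtain ⟨Q, hQB, hQN, -⟩ := twE6_bnpair hq hK
  have hφ2 : ∀ s : K, frobHom K q hq0 hfrob (frobHom K q hq0 hfrob s) = s := hK2
  have hcK : Nat.card K = q ^ 2 := by rw [Nat.card_eq_fintype_card, hK]
  have hcF : Nat.card {s : K // frobHom K q hq0 hfrob s = s} = q :=
    card_fixed_frob (by omega) hK
  have hfix := twE6_fix hq0 hfrob hK2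
  have hKL := twE6_fixU_mem hq0 hfrob hq1
  unfold twE6_sigma at hfix hKL
  have h1 := tw_card_of_enum chevE6 twE6_hD (twE6_tw K) twE6_pi (frobHom K q hq0 hfrob)
    (commOK_of_mem _ twE6_hD) (posCommOK_of_mem _ twE6_hD) (twistedE6 K q)
    hfix hKL twcsrE6 twvsE6 twpermsE6 twnxtE6
    twenumE6 (fun c hc => twE6_chunkOK c (twE6_csr_cs c hc)) (twE6_csr_mem hq1)
    (fun c hc => chunkBNChk_sq chevE6 certE6 c.reverse (twE6_chk0 _ (twE6_csr_rev c hc)))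
    (twE6_N_gen hq hK) Q hQB hQN q (by
      intro c hc
      have h : c = [1] ∨ c = [3] ∨ c = [4, 2] ∨ c = [5, 0] := by
        simp only [twcsrE6, List.mem_cons, List.not_mem_nil, or_false] at hc
        exact hc
      rcases h with rfl | rfl | rfl | rfl
      · exact ⟨_, _, chunkCount_single (frobHom K q hq0 hfrob) q 1 (by decide) hcF⟩
      · exact ⟨_, _, chunkCount_single (frobHom K q hq0 hfrob) q 3 (by decide) hcF⟩
      · exact ⟨_, _, chunkCount_pair (frobHom K q hq0 hfrob) q 2 4 (by decide) (by decide)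
          (by decide) hφ2 hcK⟩
      · exact ⟨_, _, chunkCount_pair (frobHom K q hq0 hfrob) q 0 5 (by decide) (by decide)
          (by decide) hφ2 hcK⟩)
  have hB := tw_card_borel chevE6 twE6_hD (twE6_tw K) twE6_pi (frobHom K q hq0 hfrob)
    (twistedE6 K q) hfix hKL
  have hU := Cfsg.Agent.S1086.result hq hK
  have hH := twE6_card_H1 hq hK
  rw [h1, hB, hU, sum_fin_getD' twvsE6 [] (fun v => q ^ v.flatten.length)]
  have e1 : (twvsE6.map fun v => q ^ v.flatten.length) =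
      ((twvsE6.map fun v => v.flatten.length).map fun x => q ^ x) := by
    rw [List.map_map]
    rfl
  rw [e1, sum_pow_eq_count q _ 37 twboundE6, twcountsE6]
  obtain ⟨h, hh⟩ : ∃ h, h = Nat.card ↥(chevE6.diagonalSubgroup K ⊓ twistedE6 K q) := ⟨_, rfl⟩
  rw [← hh] at hH ⊢
  obtain ⟨g, hg⟩ : ∃ g, g = Nat.gcd 3 (q + 1) := ⟨_, rfl⟩
  rw [← hg] at hH ⊢
  have hr : List.range 37 = [0, 1, 2, 3, 4, 5, 6, 7, 8, 9, 10, 11, 12, 13, 14, 15, 16, 17, 18, 19, 20, 21, 22, 23, 24, 25, 26, 27, 28, 29, 30, 31, 32, 33, 34, 35, 36] := by decide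
  rw [hr]
  simp only [List.zipWith_cons_cons, List.zipWith_nil_right, List.sum_cons, List.sum_nil]
  have key : ∀ S : ℕ, g * (q ^ 36 * h * S) = q ^ 36 * (g * h) * S := fun S => by ring
  rw [key, hH]
  obtain ⟨p, rfl⟩ : ∃ p, q = p + 1 := ⟨q - 1, by omega⟩
  have f2 : (p + 1) ^ 2 - 1 = 1 * p ^ 2 + 2 * p := by
    apply Nat.sub_eq_of_eq_add; ring
  have f6 : (p + 1) ^ 6 - 1 = 1 * p ^ 6 + 6 * p ^ 5 + 15 * p ^ 4 + 20 * p ^ 3 + 15 * p ^ 2 + 6 * p := by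
    apply Nat.sub_eq_of_eq_add; ring
  have f8 : (p + 1) ^ 8 - 1 = 1 * p ^ 8 + 8 * p ^ 7 + 28 * p ^ 6 + 56 * p ^ 5 + 70 * p ^ 4 + 56 * p ^ 3 + 28 * p ^ 2 + 8 * p := by
    apply Nat.sub_eq_of_eq_add; ring
  have f12 : (p + 1) ^ 12 - 1 = 1 * p ^ 12 + 12 * p ^ 11 + 66 * p ^ 10 + 220 * p ^ 9 + 495 * p ^ 8 + 792 * p ^ 7 + 924 * p ^ 6 + 792 * p ^ 5 + 495 * p ^ 4 + 220 * p ^ 3 + 66 * p ^ 2 + 12 * p := by
    apply Nat.sub_eq_of_eq_add; ring
  rw [f2, f6, f8, f12, Nat.add_sub_cancel]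
  ring

end

end Cfsg.Agent.helper5.Chev
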