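import Mathlib
import Cfsg.Agent.Lib_helper5_TwE6
import Cfsg.Agent.Lib_helper5_TwPerf

set_option autoImplicit false

open Cfsg

/-! `²E₆(q)` is perfect (helper5). -/

namespace Cfsg.Agent.helper5.Chev

open Cfsg.Lie

open scoped commutatorElement

section
variable {K : Type*} [Field K] {q : ℕ}

/-- the root subgroups of prime field type lie in the derived group -/
theorem twE6_fixed_comm (hq1 : (-1 : K) ^ q = -1) (r s rs : ℕ) (c : ℤ) (w : List ℕ)
    (hr : r ∈ [e6p2, e6m2, e6p4, e6m4]) (hs : s ∈ [e6p2, e6m2, e6p4, e6m4])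
    (hrn : r < chevE6.nroots) (hsn : s < chevE6.nroots) (hne : s ≠ r) (hne' : s ≠ chevE6.neg r)
    (hct : chevE6.commTerms r s = [(rs, c, 1, 1)]) (hc : c * c = 1)
    (hw : ∀ i ∈ w, i < chevE6.rank) (hn : nW chevE6 twE6_hD w ∈ twistedE6 K q)
    (happ : applyW chevE6 w r = rs) :
    ∀ t ∈ {t : K | t ^ q = t}, xG chevE6 twE6_hD r t ∈ ⁅twistedE6 K q, twistedE6 K q⁆ := by
  apply weyl_trick_inv chevE6 twE6_hD _ w hw ?_ r hrn _ (fixed_neg hq1)
  · rw [happ]
    intro t ht
    apply comm_trick chevE6 twE6_hD _ r s rs c hrn hsn hne hne' hct hc t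
    · exact twE6_x_fixed K q _ (fixed_int_mul hq1 c hc t ht) r hr
    · exact twE6_x_fixed K q 1 (one_pow q) s hs
  · intro c hc
    have := conj_mem_comm _ (nW chevE6 twE6_hD w)⁻¹ c (Subgroup.inv_mem _ hn) hc
    rwa [inv_inv] at this

theorem twE6_nW3 (hq1 : (-1 : K) ^ q = -1) : nW chevE6 twE6_hD [3] ∈ twistedE6 K q := by
  rw [nW_cons, nW_nil', mul_one]
  have s3 : chevE6.simple 3 = 39 := by decide
  rw [s3]
  exact twE6_n4 hq1

theorem twE6_nW1 (hq1 : (-1 : K) ^ q = -1) : nW chevE6 twE6_hD [1] ∈ twistedE6 K q := by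
  rw [nW_cons, nW_nil', mul_one]
  have s1 : chevE6.simple 1 = 46 := by decide
  rw [s1]
  exact twE6_n2 hq1

theorem twE6_comm_p2 (hq1 : (-1 : K) ^ q = -1) :
    ∀ t ∈ {t : K | t ^ q = t}, xG chevE6 twE6_hD 46 t ∈ ⁅twistedE6 K q, twistedE6 K q⁆ :=
  twE6_fixed_comm hq1 46 39 47 (-1) [3] (by decide) (by decide) (by decide) (by decide)
    (by decide) (by decide) (by decide +kernel) (by decide) (by decide) (twE6_nW3 hq1)
    (by decide +kernel)

theorem twE6_comm_p4 (hq1 : (-1 : K) ^ q = -1) :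
    ∀ t ∈ {t : K | t ^ q = t}, xG chevE6 twE6_hD 39 t ∈ ⁅twistedE6 K q, twistedE6 K q⁆ :=
  twE6_fixed_comm hq1 39 46 47 1 [1] (by decide) (by decide) (by decide) (by decide)
    (by decide) (by decide) (by decide +kernel) (by decide) (by decide) (twE6_nW1 hq1)
    (by decide +kernel)

theorem twE6_comm_m2 (hq1 : (-1 : K) ^ q = -1) :
    ∀ t ∈ {t : K | t ^ q = t}, xG chevE6 twE6_hD 25 t ∈ ⁅twistedE6 K q, twistedE6 K q⁆ :=
  twE6_fixed_comm hq1 25 32 24 1 [3] (by decide) (by decide) (by decide) (by decide)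
    (by decide) (by decide) (by decide +kernel) (by decide) (by decide) (twE6_nW3 hq1)
    (by decide +kernel)

theorem twE6_comm_m4 (hq1 : (-1 : K) ^ q = -1) :
    ∀ t ∈ {t : K | t ^ q = t}, xG chevE6 twE6_hD 32 t ∈ ⁅twistedE6 K q, twistedE6 K q⁆ :=
  twE6_fixed_comm hq1 32 25 24 (-1) [1] (by decide) (by decide) (by decide) (by decide)
    (by decide) (by decide) (by decide +kernel) (by decide) (by decide) (twE6_nW1 hq1)
    (by decide +kernel)

set_option maxRecDepth 1000000 in
set_option maxHeartbeats 0 in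
theorem twE6_orth16m : orthChk chevE6 15 35 = true := by decide +kernel

set_option maxRecDepth 1000000 in
set_option maxHeartbeats 0 in
theorem twE6_orth35m : orthChk chevE6 29 34 = true := by decide +kernel

/-- the four classes of pairs lie in the derived group -/
theorem twE6_pair_comm (hfrob : ∀ a b : K, (a + b) ^ q = a ^ q + b ^ q)
    (hq1 : (-1 : K) ^ q = -1) (lam : K) (h0 : lam ≠ 0) (h2 : lam ^ 2 ≠ 1) (rs : ℕ × ℕ)
    (hrs : rs ∈ [(e6p1, e6p6), (e6m1, e6m6), (e6p3, e6p5), (e6m3, e6m5)]) (t : K) :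
    xG chevE6 twE6_hD rs.1 t * xG chevE6 twE6_hD rs.2 (t ^ q) ∈
      ⁅twistedE6 K q, twistedE6 K q⁆ := by
  simp only [List.mem_cons, List.not_mem_nil, or_false] at hrs
  have n56 : chevE6.neg 56 = 15 := by decide
  have n36 : chevE6.neg 36 = 35 := by decide
  have n15 : chevE6.neg 15 = 56 := by decide
  have n35 : chevE6.neg 35 = 36 := by decide
  have n42 : chevE6.neg 42 = 29 := by decide
  have n37 : chevE6.neg 37 = 34 := by decide
  have n29 : chevE6.neg 29 = 42 := by decide
  have n34 : chevE6.neg 34 = 37 := by decide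
  rcases hrs with rfl | rfl | rfl | rfl
  · refine pair_class_comm chevE6 twE6_hD _ q hfrob hq1 lam h0 h2 56 36 (by decide) (by decide)
      twE6_orth16 (by decide +kernel) (by decide +kernel) (by decide +kernel) (by decide +kernel)
      (fun t => twE6_x_pair K q t (e6p1, e6p6) (by decide)) ?_ t
    rw [n56, n36]
    exact fun t => twE6_x_pair K q t (e6m1, e6m6) (by decide)
  · refine pair_class_comm chevE6 twE6_hD _ q hfrob hq1 lam h0 h2 15 35 (by decide) (by decide)
      twE6_orth16m (by decide +kernel) (by decide +kernel) (by decide +kernel) (by decide +kernel)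
      (fun t => twE6_x_pair K q t (e6m1, e6m6) (by decide)) ?_ t
    rw [n15, n35]
    exact fun t => twE6_x_pair K q t (e6p1, e6p6) (by decide)
  · refine pair_class_comm chevE6 twE6_hD _ q hfrob hq1 lam h0 h2 42 37 (by decide) (by decide)
      twE6_orth35 (by decide +kernel) (by decide +kernel) (by decide +kernel) (by decide +kernel)
      (fun t => twE6_x_pair K q t (e6p3, e6p5) (by decide)) ?_ t
    rw [n42, n37]
    exact fun t => twE6_x_pair K q t (e6m3, e6m5) (by decide)
  · refine pair_class_comm chevE6 twE6_hD _ q hfrob hq1 lam h0 h2 29 34 (by decide) (by decide)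
      twE6_orth35m (by decide +kernel) (by decide +kernel) (by decide +kernel) (by decide +kernel)
      (fun t => twE6_x_pair K q t (e6m3, e6m5) (by decide)) ?_ t
    rw [n29, n34]
    exact fun t => twE6_x_pair K q t (e6p3, e6p5) (by decide)

/-- `²E₆(q)` lies in its derived group -/
theorem twE6_le_comm (hfrob : ∀ a b : K, (a + b) ^ q = a ^ q + b ^ q)
    (hq1 : (-1 : K) ^ q = -1) (lam : K) (h0 : lam ≠ 0) (h2 : lam ^ 2 ≠ 1) :
    twistedE6 K q ≤ ⁅twistedE6 K q, twistedE6 K q⁆ := by
  have hle : chevE6.genSubgroup K (e6Words K q) ≤ ⁅twistedE6 K q, twistedE6 K q⁆ := by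
    unfold ChevalleyDatum.genSubgroup
    rw [Subgroup.closure_le]
    rintro g ⟨w, hw, hg⟩
    rcases hw with ⟨t, ht, r, hr, rfl⟩ | ⟨t, rs, hrs, rfl⟩
    · rw [wordMat_one] at hg
      rw [eq_xG chevE6 twE6_hD g r t hg]
      simp only [List.mem_cons, List.not_mem_nil, or_false] at hr
      rcases hr with rfl | rfl | rfl | rfl
      · exact twE6_comm_p2 hq1 t ht
      · exact twE6_comm_m2 hq1 t ht
      · exact twE6_comm_p4 hq1 t ht
      · exact twE6_comm_m4 hq1 t ht
    · rw [wordMat_two] at hg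
      have e : g = xG chevE6 twE6_hD rs.1 t * xG chevE6 twE6_hD rs.2 (t ^ q) := by
        apply Units.ext
        rw [hg, Units.val_mul, xG_val, xG_val]
      rw [e]
      exact twE6_pair_comm hfrob hq1 lam h0 h2 rs hrs t
  exact hle

end

end Cfsg.Agent.helper5.Chev
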