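import Mathlib
import Cfsg.Agent.Lib_helper5_TwEnumDefs

set_option autoImplicit false

/-! Chunk-word enumeration certificate for the twisted Weyl group of type E6 (generated, helper5). -/

namespace Cfsg.Agent.helper5.Chev

open Cfsg.Lie

def twcsrE6 : List (List ℕ) := [[1], [3], [4, 2], [5, 0]]

set_option maxRecDepth 1000000 in
def twvsE6 : List (List (List ℕ)) :=
  [[], [[5, 0]], [[4, 2]], [[5, 0], [4, 2]], [[4, 2], [5, 0]], [[4, 2], [5, 0], [4, 2]], [[3]],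
    [[5, 0], [3]], [[4, 2], [3]], [[5, 0], [4, 2], [3]], [[4, 2], [5, 0], [3]],
    [[4, 2], [5, 0], [4, 2], [3]], [[3], [4, 2]], [[5, 0], [3], [4, 2]], [[4, 2], [3], [4, 2]],
    [[5, 0], [4, 2], [3], [4, 2]], [[4, 2], [5, 0], [3], [4, 2]],
    [[4, 2], [5, 0], [4, 2], [3], [4, 2]], [[3], [4, 2], [3]], [[5, 0], [3], [4, 2], [3]],
    [[4, 2], [3], [4, 2], [3]], [[5, 0], [4, 2], [3], [4, 2], [3]],
    [[4, 2], [5, 0], [3], [4, 2], [3]], [[4, 2], [5, 0], [4, 2], [3], [4, 2], [3]],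
    [[3], [4, 2], [5, 0]], [[3], [4, 2], [5, 0], [4, 2]], [[4, 2], [3], [4, 2], [5, 0]],
    [[5, 0], [4, 2], [3], [4, 2], [5, 0]], [[4, 2], [3], [4, 2], [5, 0], [4, 2]],
    [[5, 0], [4, 2], [3], [4, 2], [5, 0], [4, 2]], [[3], [4, 2], [5, 0], [3]],
    [[3], [4, 2], [5, 0], [4, 2], [3]], [[4, 2], [3], [4, 2], [5, 0], [3]],
    [[5, 0], [4, 2], [3], [4, 2], [5, 0], [3]], [[4, 2], [3], [4, 2], [5, 0], [4, 2], [3]],
    [[5, 0], [4, 2], [3], [4, 2], [5, 0], [4, 2], [3]], [[3], [4, 2], [5, 0], [3], [4, 2]],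
    [[3], [4, 2], [5, 0], [4, 2], [3], [4, 2]], [[4, 2], [3], [4, 2], [5, 0], [3], [4, 2]],
    [[5, 0], [4, 2], [3], [4, 2], [5, 0], [3], [4, 2]],
    [[4, 2], [3], [4, 2], [5, 0], [4, 2], [3], [4, 2]],
    [[5, 0], [4, 2], [3], [4, 2], [5, 0], [4, 2], [3], [4, 2]],
    [[3], [4, 2], [5, 0], [3], [4, 2], [3]], [[3], [4, 2], [5, 0], [4, 2], [3], [4, 2], [3]],
    [[4, 2], [3], [4, 2], [5, 0], [3], [4, 2], [3]],
    [[5, 0], [4, 2], [3], [4, 2], [5, 0], [3], [4, 2], [3]],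
    [[4, 2], [3], [4, 2], [5, 0], [4, 2], [3], [4, 2], [3]],
    [[5, 0], [4, 2], [3], [4, 2], [5, 0], [4, 2], [3], [4, 2], [3]], [[1]], [[5, 0], [1]],
    [[4, 2], [1]], [[5, 0], [4, 2], [1]], [[4, 2], [5, 0], [1]], [[4, 2], [5, 0], [4, 2], [1]],
    [[3], [1]], [[5, 0], [3], [1]], [[4, 2], [3], [1]], [[5, 0], [4, 2], [3], [1]],
    [[4, 2], [5, 0], [3], [1]], [[4, 2], [5, 0], [4, 2], [3], [1]], [[3], [4, 2], [1]],
    [[5, 0], [3], [4, 2], [1]], [[4, 2], [3], [4, 2], [1]], [[5, 0], [4, 2], [3], [4, 2], [1]],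
    [[4, 2], [5, 0], [3], [4, 2], [1]], [[4, 2], [5, 0], [4, 2], [3], [4, 2], [1]],
    [[3], [4, 2], [3], [1]], [[5, 0], [3], [4, 2], [3], [1]], [[4, 2], [3], [4, 2], [3], [1]],
    [[5, 0], [4, 2], [3], [4, 2], [3], [1]], [[4, 2], [5, 0], [3], [4, 2], [3], [1]],
    [[4, 2], [5, 0], [4, 2], [3], [4, 2], [3], [1]], [[3], [4, 2], [5, 0], [1]],
    [[3], [4, 2], [5, 0], [4, 2], [1]], [[4, 2], [3], [4, 2], [5, 0], [1]],
    [[5, 0], [4, 2], [3], [4, 2], [5, 0], [1]], [[4, 2], [3], [4, 2], [5, 0], [4, 2], [1]],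
    [[5, 0], [4, 2], [3], [4, 2], [5, 0], [4, 2], [1]], [[3], [4, 2], [5, 0], [3], [1]],
    [[3], [4, 2], [5, 0], [4, 2], [3], [1]], [[4, 2], [3], [4, 2], [5, 0], [3], [1]],
    [[5, 0], [4, 2], [3], [4, 2], [5, 0], [3], [1]],
    [[4, 2], [3], [4, 2], [5, 0], [4, 2], [3], [1]],
    [[5, 0], [4, 2], [3], [4, 2], [5, 0], [4, 2], [3], [1]],
    [[3], [4, 2], [5, 0], [3], [4, 2], [1]], [[3], [4, 2], [5, 0], [4, 2], [3], [4, 2], [1]],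
    [[4, 2], [3], [4, 2], [5, 0], [3], [4, 2], [1]],
    [[5, 0], [4, 2], [3], [4, 2], [5, 0], [3], [4, 2], [1]],
    [[4, 2], [3], [4, 2], [5, 0], [4, 2], [3], [4, 2], [1]],
    [[5, 0], [4, 2], [3], [4, 2], [5, 0], [4, 2], [3], [4, 2], [1]],
    [[3], [4, 2], [5, 0], [3], [4, 2], [3], [1]],
    [[3], [4, 2], [5, 0], [4, 2], [3], [4, 2], [3], [1]],
    [[4, 2], [3], [4, 2], [5, 0], [3], [4, 2], [3], [1]],
    [[5, 0], [4, 2], [3], [4, 2], [5, 0], [3], [4, 2], [3], [1]],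
    [[4, 2], [3], [4, 2], [5, 0], [4, 2], [3], [4, 2], [3], [1]],
    [[5, 0], [4, 2], [3], [4, 2], [5, 0], [4, 2], [3], [4, 2], [3], [1]], [[1], [3]],
    [[5, 0], [1], [3]], [[4, 2], [1], [3]], [[5, 0], [4, 2], [1], [3]],
    [[4, 2], [5, 0], [1], [3]], [[4, 2], [5, 0], [4, 2], [1], [3]], [[1], [3], [1]],
    [[5, 0], [1], [3], [1]], [[4, 2], [1], [3], [1]], [[5, 0], [4, 2], [1], [3], [1]],
    [[4, 2], [5, 0], [1], [3], [1]], [[4, 2], [5, 0], [4, 2], [1], [3], [1]],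
    [[3], [4, 2], [1], [3]], [[5, 0], [3], [4, 2], [1], [3]], [[4, 2], [3], [4, 2], [1], [3]],
    [[5, 0], [4, 2], [3], [4, 2], [1], [3]], [[4, 2], [5, 0], [3], [4, 2], [1], [3]],
    [[4, 2], [5, 0], [4, 2], [3], [4, 2], [1], [3]], [[3], [4, 2], [1], [3], [1]],
    [[5, 0], [3], [4, 2], [1], [3], [1]], [[4, 2], [3], [4, 2], [1], [3], [1]],
    [[5, 0], [4, 2], [3], [4, 2], [1], [3], [1]], [[4, 2], [5, 0], [3], [4, 2], [1], [3], [1]],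
    [[4, 2], [5, 0], [4, 2], [3], [4, 2], [1], [3], [1]], [[3], [4, 2], [5, 0], [1], [3]],
    [[3], [4, 2], [5, 0], [4, 2], [1], [3]], [[4, 2], [3], [4, 2], [5, 0], [1], [3]],
    [[5, 0], [4, 2], [3], [4, 2], [5, 0], [1], [3]],
    [[4, 2], [3], [4, 2], [5, 0], [4, 2], [1], [3]],
    [[5, 0], [4, 2], [3], [4, 2], [5, 0], [4, 2], [1], [3]],
    [[3], [4, 2], [5, 0], [1], [3], [1]], [[3], [4, 2], [5, 0], [4, 2], [1], [3], [1]],
    [[4, 2], [3], [4, 2], [5, 0], [1], [3], [1]],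
    [[5, 0], [4, 2], [3], [4, 2], [5, 0], [1], [3], [1]],
    [[4, 2], [3], [4, 2], [5, 0], [4, 2], [1], [3], [1]],
    [[5, 0], [4, 2], [3], [4, 2], [5, 0], [4, 2], [1], [3], [1]],
    [[3], [4, 2], [5, 0], [3], [4, 2], [1], [3]],
    [[3], [4, 2], [5, 0], [4, 2], [3], [4, 2], [1], [3]],
    [[4, 2], [3], [4, 2], [5, 0], [3], [4, 2], [1], [3]],
    [[5, 0], [4, 2], [3], [4, 2], [5, 0], [3], [4, 2], [1], [3]],
    [[4, 2], [3], [4, 2], [5, 0], [4, 2], [3], [4, 2], [1], [3]],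
    [[5, 0], [4, 2], [3], [4, 2], [5, 0], [4, 2], [3], [4, 2], [1], [3]],
    [[3], [4, 2], [5, 0], [3], [4, 2], [1], [3], [1]],
    [[3], [4, 2], [5, 0], [4, 2], [3], [4, 2], [1], [3], [1]],
    [[4, 2], [3], [4, 2], [5, 0], [3], [4, 2], [1], [3], [1]],
    [[5, 0], [4, 2], [3], [4, 2], [5, 0], [3], [4, 2], [1], [3], [1]],
    [[4, 2], [3], [4, 2], [5, 0], [4, 2], [3], [4, 2], [1], [3], [1]],
    [[5, 0], [4, 2], [3], [4, 2], [5, 0], [4, 2], [3], [4, 2], [1], [3], [1]],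
    [[1], [3], [4, 2]], [[5, 0], [1], [3], [4, 2]], [[4, 2], [1], [3], [4, 2]],
    [[5, 0], [4, 2], [1], [3], [4, 2]], [[4, 2], [5, 0], [1], [3], [4, 2]],
    [[4, 2], [5, 0], [4, 2], [1], [3], [4, 2]], [[1], [3], [4, 2], [1]],
    [[5, 0], [1], [3], [4, 2], [1]], [[4, 2], [1], [3], [4, 2], [1]],
    [[5, 0], [4, 2], [1], [3], [4, 2], [1]], [[4, 2], [5, 0], [1], [3], [4, 2], [1]],
    [[4, 2], [5, 0], [4, 2], [1], [3], [4, 2], [1]], [[3], [4, 2], [1], [3], [4, 2]],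
    [[5, 0], [3], [4, 2], [1], [3], [4, 2]], [[4, 2], [3], [4, 2], [1], [3], [4, 2]],
    [[5, 0], [4, 2], [3], [4, 2], [1], [3], [4, 2]],
    [[4, 2], [5, 0], [3], [4, 2], [1], [3], [4, 2]],
    [[4, 2], [5, 0], [4, 2], [3], [4, 2], [1], [3], [4, 2]],
    [[3], [4, 2], [1], [3], [4, 2], [1]], [[5, 0], [3], [4, 2], [1], [3], [4, 2], [1]],
    [[4, 2], [3], [4, 2], [1], [3], [4, 2], [1]],
    [[5, 0], [4, 2], [3], [4, 2], [1], [3], [4, 2], [1]],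
    [[4, 2], [5, 0], [3], [4, 2], [1], [3], [4, 2], [1]],
    [[4, 2], [5, 0], [4, 2], [3], [4, 2], [1], [3], [4, 2], [1]],
    [[3], [4, 2], [5, 0], [1], [3], [4, 2]], [[3], [4, 2], [5, 0], [4, 2], [1], [3], [4, 2]],
    [[4, 2], [3], [4, 2], [5, 0], [1], [3], [4, 2]],
    [[5, 0], [4, 2], [3], [4, 2], [5, 0], [1], [3], [4, 2]],
    [[4, 2], [3], [4, 2], [5, 0], [4, 2], [1], [3], [4, 2]],
    [[5, 0], [4, 2], [3], [4, 2], [5, 0], [4, 2], [1], [3], [4, 2]],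
    [[3], [4, 2], [5, 0], [1], [3], [4, 2], [1]],
    [[3], [4, 2], [5, 0], [4, 2], [1], [3], [4, 2], [1]],
    [[4, 2], [3], [4, 2], [5, 0], [1], [3], [4, 2], [1]],
    [[5, 0], [4, 2], [3], [4, 2], [5, 0], [1], [3], [4, 2], [1]],
    [[4, 2], [3], [4, 2], [5, 0], [4, 2], [1], [3], [4, 2], [1]],
    [[5, 0], [4, 2], [3], [4, 2], [5, 0], [4, 2], [1], [3], [4, 2], [1]],
    [[3], [4, 2], [5, 0], [3], [4, 2], [1], [3], [4, 2]],
    [[3], [4, 2], [5, 0], [4, 2], [3], [4, 2], [1], [3], [4, 2]],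
    [[4, 2], [3], [4, 2], [5, 0], [3], [4, 2], [1], [3], [4, 2]],
    [[5, 0], [4, 2], [3], [4, 2], [5, 0], [3], [4, 2], [1], [3], [4, 2]],
    [[4, 2], [3], [4, 2], [5, 0], [4, 2], [3], [4, 2], [1], [3], [4, 2]],
    [[5, 0], [4, 2], [3], [4, 2], [5, 0], [4, 2], [3], [4, 2], [1], [3], [4, 2]],
    [[3], [4, 2], [5, 0], [3], [4, 2], [1], [3], [4, 2], [1]],
    [[3], [4, 2], [5, 0], [4, 2], [3], [4, 2], [1], [3], [4, 2], [1]],
    [[4, 2], [3], [4, 2], [5, 0], [3], [4, 2], [1], [3], [4, 2], [1]],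
    [[5, 0], [4, 2], [3], [4, 2], [5, 0], [3], [4, 2], [1], [3], [4, 2], [1]],
    [[4, 2], [3], [4, 2], [5, 0], [4, 2], [3], [4, 2], [1], [3], [4, 2], [1]],
    [[5, 0], [4, 2], [3], [4, 2], [5, 0], [4, 2], [3], [4, 2], [1], [3], [4, 2], [1]],
    [[1], [3], [4, 2], [3]], [[5, 0], [1], [3], [4, 2], [3]], [[4, 2], [1], [3], [4, 2], [3]],
    [[5, 0], [4, 2], [1], [3], [4, 2], [3]], [[4, 2], [5, 0], [1], [3], [4, 2], [3]],
    [[4, 2], [5, 0], [4, 2], [1], [3], [4, 2], [3]], [[1], [3], [4, 2], [1], [3]],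
    [[5, 0], [1], [3], [4, 2], [1], [3]], [[4, 2], [1], [3], [4, 2], [1], [3]],
    [[5, 0], [4, 2], [1], [3], [4, 2], [1], [3]], [[4, 2], [5, 0], [1], [3], [4, 2], [1], [3]],
    [[4, 2], [5, 0], [4, 2], [1], [3], [4, 2], [1], [3]], [[3], [4, 2], [1], [3], [4, 2], [3]],
    [[5, 0], [3], [4, 2], [1], [3], [4, 2], [3]], [[4, 2], [3], [4, 2], [1], [3], [4, 2], [3]],
    [[5, 0], [4, 2], [3], [4, 2], [1], [3], [4, 2], [3]],
    [[4, 2], [5, 0], [3], [4, 2], [1], [3], [4, 2], [3]],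
    [[4, 2], [5, 0], [4, 2], [3], [4, 2], [1], [3], [4, 2], [3]],
    [[3], [4, 2], [1], [3], [4, 2], [1], [3]], [[5, 0], [3], [4, 2], [1], [3], [4, 2], [1], [3]],
    [[4, 2], [3], [4, 2], [1], [3], [4, 2], [1], [3]],
    [[5, 0], [4, 2], [3], [4, 2], [1], [3], [4, 2], [1], [3]],
    [[4, 2], [5, 0], [3], [4, 2], [1], [3], [4, 2], [1], [3]],
    [[4, 2], [5, 0], [4, 2], [3], [4, 2], [1], [3], [4, 2], [1], [3]],
    [[3], [4, 2], [5, 0], [1], [3], [4, 2], [3]],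
    [[3], [4, 2], [5, 0], [4, 2], [1], [3], [4, 2], [3]],
    [[4, 2], [3], [4, 2], [5, 0], [1], [3], [4, 2], [3]],
    [[5, 0], [4, 2], [3], [4, 2], [5, 0], [1], [3], [4, 2], [3]],
    [[4, 2], [3], [4, 2], [5, 0], [4, 2], [1], [3], [4, 2], [3]],
    [[5, 0], [4, 2], [3], [4, 2], [5, 0], [4, 2], [1], [3], [4, 2], [3]],
    [[3], [4, 2], [5, 0], [1], [3], [4, 2], [1], [3]],
    [[3], [4, 2], [5, 0], [4, 2], [1], [3], [4, 2], [1], [3]],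
    [[4, 2], [3], [4, 2], [5, 0], [1], [3], [4, 2], [1], [3]],
    [[5, 0], [4, 2], [3], [4, 2], [5, 0], [1], [3], [4, 2], [1], [3]],
    [[4, 2], [3], [4, 2], [5, 0], [4, 2], [1], [3], [4, 2], [1], [3]],
    [[5, 0], [4, 2], [3], [4, 2], [5, 0], [4, 2], [1], [3], [4, 2], [1], [3]],
    [[3], [4, 2], [5, 0], [3], [4, 2], [1], [3], [4, 2], [3]],
    [[3], [4, 2], [5, 0], [4, 2], [3], [4, 2], [1], [3], [4, 2], [3]],
    [[4, 2], [3], [4, 2], [5, 0], [3], [4, 2], [1], [3], [4, 2], [3]],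
    [[5, 0], [4, 2], [3], [4, 2], [5, 0], [3], [4, 2], [1], [3], [4, 2], [3]],
    [[4, 2], [3], [4, 2], [5, 0], [4, 2], [3], [4, 2], [1], [3], [4, 2], [3]],
    [[5, 0], [4, 2], [3], [4, 2], [5, 0], [4, 2], [3], [4, 2], [1], [3], [4, 2], [3]],
    [[3], [4, 2], [5, 0], [3], [4, 2], [1], [3], [4, 2], [1], [3]],
    [[3], [4, 2], [5, 0], [4, 2], [3], [4, 2], [1], [3], [4, 2], [1], [3]],
    [[4, 2], [3], [4, 2], [5, 0], [3], [4, 2], [1], [3], [4, 2], [1], [3]],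
    [[5, 0], [4, 2], [3], [4, 2], [5, 0], [3], [4, 2], [1], [3], [4, 2], [1], [3]],
    [[4, 2], [3], [4, 2], [5, 0], [4, 2], [3], [4, 2], [1], [3], [4, 2], [1], [3]],
    [[5, 0], [4, 2], [3], [4, 2], [5, 0], [4, 2], [3], [4, 2], [1], [3], [4, 2], [1], [3]],
    [[1], [3], [4, 2], [3], [1]], [[5, 0], [1], [3], [4, 2], [3], [1]],
    [[4, 2], [1], [3], [4, 2], [3], [1]], [[5, 0], [4, 2], [1], [3], [4, 2], [3], [1]],
    [[4, 2], [5, 0], [1], [3], [4, 2], [3], [1]],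
    [[4, 2], [5, 0], [4, 2], [1], [3], [4, 2], [3], [1]], [[1], [3], [4, 2], [1], [3], [1]],
    [[5, 0], [1], [3], [4, 2], [1], [3], [1]], [[4, 2], [1], [3], [4, 2], [1], [3], [1]],
    [[5, 0], [4, 2], [1], [3], [4, 2], [1], [3], [1]],
    [[4, 2], [5, 0], [1], [3], [4, 2], [1], [3], [1]],
    [[4, 2], [5, 0], [4, 2], [1], [3], [4, 2], [1], [3], [1]],
    [[3], [4, 2], [1], [3], [4, 2], [3], [1]], [[5, 0], [3], [4, 2], [1], [3], [4, 2], [3], [1]],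
    [[4, 2], [3], [4, 2], [1], [3], [4, 2], [3], [1]],
    [[5, 0], [4, 2], [3], [4, 2], [1], [3], [4, 2], [3], [1]],
    [[4, 2], [5, 0], [3], [4, 2], [1], [3], [4, 2], [3], [1]],
    [[4, 2], [5, 0], [4, 2], [3], [4, 2], [1], [3], [4, 2], [3], [1]],
    [[3], [4, 2], [1], [3], [4, 2], [1], [3], [1]],
    [[5, 0], [3], [4, 2], [1], [3], [4, 2], [1], [3], [1]],
    [[4, 2], [3], [4, 2], [1], [3], [4, 2], [1], [3], [1]],
    [[5, 0], [4, 2], [3], [4, 2], [1], [3], [4, 2], [1], [3], [1]],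
    [[4, 2], [5, 0], [3], [4, 2], [1], [3], [4, 2], [1], [3], [1]],
    [[4, 2], [5, 0], [4, 2], [3], [4, 2], [1], [3], [4, 2], [1], [3], [1]],
    [[3], [4, 2], [5, 0], [1], [3], [4, 2], [3], [1]],
    [[3], [4, 2], [5, 0], [4, 2], [1], [3], [4, 2], [3], [1]],
    [[4, 2], [3], [4, 2], [5, 0], [1], [3], [4, 2], [3], [1]],
    [[5, 0], [4, 2], [3], [4, 2], [5, 0], [1], [3], [4, 2], [3], [1]],
    [[4, 2], [3], [4, 2], [5, 0], [4, 2], [1], [3], [4, 2], [3], [1]],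
    [[5, 0], [4, 2], [3], [4, 2], [5, 0], [4, 2], [1], [3], [4, 2], [3], [1]],
    [[3], [4, 2], [5, 0], [1], [3], [4, 2], [1], [3], [1]],
    [[3], [4, 2], [5, 0], [4, 2], [1], [3], [4, 2], [1], [3], [1]],
    [[4, 2], [3], [4, 2], [5, 0], [1], [3], [4, 2], [1], [3], [1]],
    [[5, 0], [4, 2], [3], [4, 2], [5, 0], [1], [3], [4, 2], [1], [3], [1]],
    [[4, 2], [3], [4, 2], [5, 0], [4, 2], [1], [3], [4, 2], [1], [3], [1]],
    [[5, 0], [4, 2], [3], [4, 2], [5, 0], [4, 2], [1], [3], [4, 2], [1], [3], [1]],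
    [[3], [4, 2], [5, 0], [3], [4, 2], [1], [3], [4, 2], [3], [1]],
    [[3], [4, 2], [5, 0], [4, 2], [3], [4, 2], [1], [3], [4, 2], [3], [1]],
    [[4, 2], [3], [4, 2], [5, 0], [3], [4, 2], [1], [3], [4, 2], [3], [1]],
    [[5, 0], [4, 2], [3], [4, 2], [5, 0], [3], [4, 2], [1], [3], [4, 2], [3], [1]],
    [[4, 2], [3], [4, 2], [5, 0], [4, 2], [3], [4, 2], [1], [3], [4, 2], [3], [1]],
    [[5, 0], [4, 2], [3], [4, 2], [5, 0], [4, 2], [3], [4, 2], [1], [3], [4, 2], [3], [1]],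
    [[3], [4, 2], [5, 0], [3], [4, 2], [1], [3], [4, 2], [1], [3], [1]],
    [[3], [4, 2], [5, 0], [4, 2], [3], [4, 2], [1], [3], [4, 2], [1], [3], [1]],
    [[4, 2], [3], [4, 2], [5, 0], [3], [4, 2], [1], [3], [4, 2], [1], [3], [1]],
    [[5, 0], [4, 2], [3], [4, 2], [5, 0], [3], [4, 2], [1], [3], [4, 2], [1], [3], [1]],
    [[4, 2], [3], [4, 2], [5, 0], [4, 2], [3], [4, 2], [1], [3], [4, 2], [1], [3], [1]],
    [[5, 0], [4, 2], [3], [4, 2], [5, 0], [4, 2], [3], [4, 2], [1], [3], [4, 2], [1], [3], [1]],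
    [[1], [3], [4, 2], [5, 0]], [[1], [3], [4, 2], [5, 0], [4, 2]],
    [[4, 2], [1], [3], [4, 2], [5, 0]], [[5, 0], [4, 2], [1], [3], [4, 2], [5, 0]],
    [[4, 2], [1], [3], [4, 2], [5, 0], [4, 2]],
    [[5, 0], [4, 2], [1], [3], [4, 2], [5, 0], [4, 2]], [[1], [3], [4, 2], [5, 0], [1]],
    [[1], [3], [4, 2], [5, 0], [4, 2], [1]], [[4, 2], [1], [3], [4, 2], [5, 0], [1]],
    [[5, 0], [4, 2], [1], [3], [4, 2], [5, 0], [1]],
    [[4, 2], [1], [3], [4, 2], [5, 0], [4, 2], [1]],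
    [[5, 0], [4, 2], [1], [3], [4, 2], [5, 0], [4, 2], [1]],
    [[3], [4, 2], [1], [3], [4, 2], [5, 0]], [[5, 0], [3], [4, 2], [1], [3], [4, 2], [5, 0]],
    [[4, 2], [3], [4, 2], [1], [3], [4, 2], [5, 0]],
    [[5, 0], [4, 2], [3], [4, 2], [1], [3], [4, 2], [5, 0]],
    [[4, 2], [5, 0], [3], [4, 2], [1], [3], [4, 2], [5, 0]],
    [[4, 2], [5, 0], [4, 2], [3], [4, 2], [1], [3], [4, 2], [5, 0]],
    [[3], [4, 2], [1], [3], [4, 2], [5, 0], [4, 2]],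
    [[5, 0], [3], [4, 2], [1], [3], [4, 2], [5, 0], [4, 2]],
    [[4, 2], [3], [4, 2], [1], [3], [4, 2], [5, 0], [4, 2]],
    [[5, 0], [4, 2], [3], [4, 2], [1], [3], [4, 2], [5, 0], [4, 2]],
    [[4, 2], [5, 0], [3], [4, 2], [1], [3], [4, 2], [5, 0], [4, 2]],
    [[4, 2], [5, 0], [4, 2], [3], [4, 2], [1], [3], [4, 2], [5, 0], [4, 2]],
    [[3], [4, 2], [1], [3], [4, 2], [5, 0], [1]],
    [[5, 0], [3], [4, 2], [1], [3], [4, 2], [5, 0], [1]],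
    [[4, 2], [3], [4, 2], [1], [3], [4, 2], [5, 0], [1]],
    [[5, 0], [4, 2], [3], [4, 2], [1], [3], [4, 2], [5, 0], [1]],
    [[4, 2], [5, 0], [3], [4, 2], [1], [3], [4, 2], [5, 0], [1]],
    [[4, 2], [5, 0], [4, 2], [3], [4, 2], [1], [3], [4, 2], [5, 0], [1]],
    [[3], [4, 2], [1], [3], [4, 2], [5, 0], [4, 2], [1]],
    [[5, 0], [3], [4, 2], [1], [3], [4, 2], [5, 0], [4, 2], [1]],
    [[4, 2], [3], [4, 2], [1], [3], [4, 2], [5, 0], [4, 2], [1]],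
    [[5, 0], [4, 2], [3], [4, 2], [1], [3], [4, 2], [5, 0], [4, 2], [1]],
    [[4, 2], [5, 0], [3], [4, 2], [1], [3], [4, 2], [5, 0], [4, 2], [1]],
    [[4, 2], [5, 0], [4, 2], [3], [4, 2], [1], [3], [4, 2], [5, 0], [4, 2], [1]],
    [[3], [4, 2], [5, 0], [3], [4, 2], [1], [3], [4, 2], [5, 0]],
    [[3], [4, 2], [5, 0], [4, 2], [3], [4, 2], [1], [3], [4, 2], [5, 0]],
    [[3], [4, 2], [5, 0], [3], [4, 2], [1], [3], [4, 2], [5, 0], [4, 2]],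
    [[3], [4, 2], [5, 0], [4, 2], [3], [4, 2], [1], [3], [4, 2], [5, 0], [4, 2]],
    [[4, 2], [3], [4, 2], [5, 0], [4, 2], [3], [4, 2], [1], [3], [4, 2], [5, 0]],
    [[4, 2], [3], [4, 2], [5, 0], [4, 2], [3], [4, 2], [1], [3], [4, 2], [5, 0], [4, 2]],
    [[3], [4, 2], [5, 0], [3], [4, 2], [1], [3], [4, 2], [5, 0], [1]],
    [[3], [4, 2], [5, 0], [4, 2], [3], [4, 2], [1], [3], [4, 2], [5, 0], [1]],
    [[3], [4, 2], [5, 0], [3], [4, 2], [1], [3], [4, 2], [5, 0], [4, 2], [1]],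
    [[3], [4, 2], [5, 0], [4, 2], [3], [4, 2], [1], [3], [4, 2], [5, 0], [4, 2], [1]],
    [[4, 2], [3], [4, 2], [5, 0], [4, 2], [3], [4, 2], [1], [3], [4, 2], [5, 0], [1]],
    [[4, 2], [3], [4, 2], [5, 0], [4, 2], [3], [4, 2], [1], [3], [4, 2], [5, 0], [4, 2], [1]],
    [[1], [3], [4, 2], [5, 0], [3]], [[1], [3], [4, 2], [5, 0], [4, 2], [3]],
    [[4, 2], [1], [3], [4, 2], [5, 0], [3]], [[5, 0], [4, 2], [1], [3], [4, 2], [5, 0], [3]],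
    [[4, 2], [1], [3], [4, 2], [5, 0], [4, 2], [3]],
    [[5, 0], [4, 2], [1], [3], [4, 2], [5, 0], [4, 2], [3]],
    [[1], [3], [4, 2], [5, 0], [1], [3]], [[1], [3], [4, 2], [5, 0], [4, 2], [1], [3]],
    [[4, 2], [1], [3], [4, 2], [5, 0], [1], [3]],
    [[5, 0], [4, 2], [1], [3], [4, 2], [5, 0], [1], [3]],
    [[4, 2], [1], [3], [4, 2], [5, 0], [4, 2], [1], [3]],
    [[5, 0], [4, 2], [1], [3], [4, 2], [5, 0], [4, 2], [1], [3]],
    [[3], [4, 2], [1], [3], [4, 2], [5, 0], [3]],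
    [[5, 0], [3], [4, 2], [1], [3], [4, 2], [5, 0], [3]],
    [[4, 2], [3], [4, 2], [1], [3], [4, 2], [5, 0], [3]],
    [[5, 0], [4, 2], [3], [4, 2], [1], [3], [4, 2], [5, 0], [3]],
    [[4, 2], [5, 0], [3], [4, 2], [1], [3], [4, 2], [5, 0], [3]],
    [[4, 2], [5, 0], [4, 2], [3], [4, 2], [1], [3], [4, 2], [5, 0], [3]],
    [[3], [4, 2], [1], [3], [4, 2], [5, 0], [4, 2], [3]],
    [[5, 0], [3], [4, 2], [1], [3], [4, 2], [5, 0], [4, 2], [3]],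
    [[4, 2], [3], [4, 2], [1], [3], [4, 2], [5, 0], [4, 2], [3]],
    [[5, 0], [4, 2], [3], [4, 2], [1], [3], [4, 2], [5, 0], [4, 2], [3]],
    [[4, 2], [5, 0], [3], [4, 2], [1], [3], [4, 2], [5, 0], [4, 2], [3]],
    [[4, 2], [5, 0], [4, 2], [3], [4, 2], [1], [3], [4, 2], [5, 0], [4, 2], [3]],
    [[3], [4, 2], [1], [3], [4, 2], [5, 0], [1], [3]],
    [[5, 0], [3], [4, 2], [1], [3], [4, 2], [5, 0], [1], [3]],
    [[4, 2], [3], [4, 2], [1], [3], [4, 2], [5, 0], [1], [3]],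
    [[5, 0], [4, 2], [3], [4, 2], [1], [3], [4, 2], [5, 0], [1], [3]],
    [[4, 2], [5, 0], [3], [4, 2], [1], [3], [4, 2], [5, 0], [1], [3]],
    [[4, 2], [5, 0], [4, 2], [3], [4, 2], [1], [3], [4, 2], [5, 0], [1], [3]],
    [[3], [4, 2], [1], [3], [4, 2], [5, 0], [4, 2], [1], [3]],
    [[5, 0], [3], [4, 2], [1], [3], [4, 2], [5, 0], [4, 2], [1], [3]],
    [[4, 2], [3], [4, 2], [1], [3], [4, 2], [5, 0], [4, 2], [1], [3]],
    [[5, 0], [4, 2], [3], [4, 2], [1], [3], [4, 2], [5, 0], [4, 2], [1], [3]],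
    [[4, 2], [5, 0], [3], [4, 2], [1], [3], [4, 2], [5, 0], [4, 2], [1], [3]],
    [[4, 2], [5, 0], [4, 2], [3], [4, 2], [1], [3], [4, 2], [5, 0], [4, 2], [1], [3]],
    [[3], [4, 2], [5, 0], [3], [4, 2], [1], [3], [4, 2], [5, 0], [3]],
    [[3], [4, 2], [5, 0], [4, 2], [3], [4, 2], [1], [3], [4, 2], [5, 0], [3]],
    [[3], [4, 2], [5, 0], [3], [4, 2], [1], [3], [4, 2], [5, 0], [4, 2], [3]],
    [[3], [4, 2], [5, 0], [4, 2], [3], [4, 2], [1], [3], [4, 2], [5, 0], [4, 2], [3]],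
    [[4, 2], [3], [4, 2], [5, 0], [4, 2], [3], [4, 2], [1], [3], [4, 2], [5, 0], [3]],
    [[4, 2], [3], [4, 2], [5, 0], [4, 2], [3], [4, 2], [1], [3], [4, 2], [5, 0], [4, 2], [3]],
    [[3], [4, 2], [5, 0], [3], [4, 2], [1], [3], [4, 2], [5, 0], [1], [3]],
    [[3], [4, 2], [5, 0], [4, 2], [3], [4, 2], [1], [3], [4, 2], [5, 0], [1], [3]],
    [[3], [4, 2], [5, 0], [3], [4, 2], [1], [3], [4, 2], [5, 0], [4, 2], [1], [3]],
    [[3], [4, 2], [5, 0], [4, 2], [3], [4, 2], [1], [3], [4, 2], [5, 0], [4, 2], [1], [3]],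
    [[4, 2], [3], [4, 2], [5, 0], [4, 2], [3], [4, 2], [1], [3], [4, 2], [5, 0], [1], [3]],
    [[4, 2], [3], [4, 2], [5, 0], [4, 2], [3], [4, 2], [1], [3], [4, 2], [5, 0], [4, 2], [1], [3]],
    [[1], [3], [4, 2], [5, 0], [3], [4, 2]], [[1], [3], [4, 2], [5, 0], [4, 2], [3], [4, 2]],
    [[4, 2], [1], [3], [4, 2], [5, 0], [3], [4, 2]],
    [[5, 0], [4, 2], [1], [3], [4, 2], [5, 0], [3], [4, 2]],
    [[4, 2], [1], [3], [4, 2], [5, 0], [4, 2], [3], [4, 2]],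
    [[5, 0], [4, 2], [1], [3], [4, 2], [5, 0], [4, 2], [3], [4, 2]],
    [[1], [3], [4, 2], [5, 0], [1], [3], [4, 2]],
    [[1], [3], [4, 2], [5, 0], [4, 2], [1], [3], [4, 2]],
    [[4, 2], [1], [3], [4, 2], [5, 0], [1], [3], [4, 2]],
    [[5, 0], [4, 2], [1], [3], [4, 2], [5, 0], [1], [3], [4, 2]],
    [[4, 2], [1], [3], [4, 2], [5, 0], [4, 2], [1], [3], [4, 2]],
    [[5, 0], [4, 2], [1], [3], [4, 2], [5, 0], [4, 2], [1], [3], [4, 2]],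
    [[3], [4, 2], [1], [3], [4, 2], [5, 0], [3], [4, 2]],
    [[5, 0], [3], [4, 2], [1], [3], [4, 2], [5, 0], [3], [4, 2]],
    [[4, 2], [3], [4, 2], [1], [3], [4, 2], [5, 0], [3], [4, 2]],
    [[5, 0], [4, 2], [3], [4, 2], [1], [3], [4, 2], [5, 0], [3], [4, 2]],
    [[4, 2], [5, 0], [3], [4, 2], [1], [3], [4, 2], [5, 0], [3], [4, 2]],
    [[4, 2], [5, 0], [4, 2], [3], [4, 2], [1], [3], [4, 2], [5, 0], [3], [4, 2]],
    [[3], [4, 2], [1], [3], [4, 2], [5, 0], [4, 2], [3], [4, 2]],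
    [[5, 0], [3], [4, 2], [1], [3], [4, 2], [5, 0], [4, 2], [3], [4, 2]],
    [[4, 2], [3], [4, 2], [1], [3], [4, 2], [5, 0], [4, 2], [3], [4, 2]],
    [[5, 0], [4, 2], [3], [4, 2], [1], [3], [4, 2], [5, 0], [4, 2], [3], [4, 2]],
    [[4, 2], [5, 0], [3], [4, 2], [1], [3], [4, 2], [5, 0], [4, 2], [3], [4, 2]],
    [[4, 2], [5, 0], [4, 2], [3], [4, 2], [1], [3], [4, 2], [5, 0], [4, 2], [3], [4, 2]],
    [[3], [4, 2], [1], [3], [4, 2], [5, 0], [1], [3], [4, 2]],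
    [[5, 0], [3], [4, 2], [1], [3], [4, 2], [5, 0], [1], [3], [4, 2]],
    [[4, 2], [3], [4, 2], [1], [3], [4, 2], [5, 0], [1], [3], [4, 2]],
    [[5, 0], [4, 2], [3], [4, 2], [1], [3], [4, 2], [5, 0], [1], [3], [4, 2]],
    [[4, 2], [5, 0], [3], [4, 2], [1], [3], [4, 2], [5, 0], [1], [3], [4, 2]],
    [[4, 2], [5, 0], [4, 2], [3], [4, 2], [1], [3], [4, 2], [5, 0], [1], [3], [4, 2]],
    [[3], [4, 2], [1], [3], [4, 2], [5, 0], [4, 2], [1], [3], [4, 2]],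
    [[5, 0], [3], [4, 2], [1], [3], [4, 2], [5, 0], [4, 2], [1], [3], [4, 2]],
    [[4, 2], [3], [4, 2], [1], [3], [4, 2], [5, 0], [4, 2], [1], [3], [4, 2]],
    [[5, 0], [4, 2], [3], [4, 2], [1], [3], [4, 2], [5, 0], [4, 2], [1], [3], [4, 2]],
    [[4, 2], [5, 0], [3], [4, 2], [1], [3], [4, 2], [5, 0], [4, 2], [1], [3], [4, 2]],
    [[4, 2], [5, 0], [4, 2], [3], [4, 2], [1], [3], [4, 2], [5, 0], [4, 2], [1], [3], [4, 2]],
    [[3], [4, 2], [5, 0], [3], [4, 2], [1], [3], [4, 2], [5, 0], [3], [4, 2]],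
    [[3], [4, 2], [5, 0], [4, 2], [3], [4, 2], [1], [3], [4, 2], [5, 0], [3], [4, 2]],
    [[3], [4, 2], [5, 0], [3], [4, 2], [1], [3], [4, 2], [5, 0], [4, 2], [3], [4, 2]],
    [[3], [4, 2], [5, 0], [4, 2], [3], [4, 2], [1], [3], [4, 2], [5, 0], [4, 2], [3], [4, 2]],
    [[4, 2], [3], [4, 2], [5, 0], [4, 2], [3], [4, 2], [1], [3], [4, 2], [5, 0], [3], [4, 2]],
    [[4, 2], [3], [4, 2], [5, 0], [4, 2], [3], [4, 2], [1], [3], [4, 2], [5, 0], [4, 2], [3], [4, 2]],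
    [[3], [4, 2], [5, 0], [3], [4, 2], [1], [3], [4, 2], [5, 0], [1], [3], [4, 2]],
    [[3], [4, 2], [5, 0], [4, 2], [3], [4, 2], [1], [3], [4, 2], [5, 0], [1], [3], [4, 2]],
    [[3], [4, 2], [5, 0], [3], [4, 2], [1], [3], [4, 2], [5, 0], [4, 2], [1], [3], [4, 2]],
    [[3], [4, 2], [5, 0], [4, 2], [3], [4, 2], [1], [3], [4, 2], [5, 0], [4, 2], [1], [3], [4, 2]],
    [[4, 2], [3], [4, 2], [5, 0], [4, 2], [3], [4, 2], [1], [3], [4, 2], [5, 0], [1], [3], [4, 2]],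
    [[4, 2], [3], [4, 2], [5, 0], [4, 2], [3], [4, 2], [1], [3], [4, 2], [5, 0], [4, 2], [1], [3], [4, 2]],
    [[1], [3], [4, 2], [5, 0], [3], [4, 2], [3]],
    [[1], [3], [4, 2], [5, 0], [4, 2], [3], [4, 2], [3]],
    [[4, 2], [1], [3], [4, 2], [5, 0], [3], [4, 2], [3]],
    [[5, 0], [4, 2], [1], [3], [4, 2], [5, 0], [3], [4, 2], [3]],
    [[4, 2], [1], [3], [4, 2], [5, 0], [4, 2], [3], [4, 2], [3]],
    [[5, 0], [4, 2], [1], [3], [4, 2], [5, 0], [4, 2], [3], [4, 2], [3]],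
    [[1], [3], [4, 2], [5, 0], [1], [3], [4, 2], [3]],
    [[1], [3], [4, 2], [5, 0], [4, 2], [1], [3], [4, 2], [3]],
    [[4, 2], [1], [3], [4, 2], [5, 0], [1], [3], [4, 2], [3]],
    [[5, 0], [4, 2], [1], [3], [4, 2], [5, 0], [1], [3], [4, 2], [3]],
    [[4, 2], [1], [3], [4, 2], [5, 0], [4, 2], [1], [3], [4, 2], [3]],
    [[5, 0], [4, 2], [1], [3], [4, 2], [5, 0], [4, 2], [1], [3], [4, 2], [3]],
    [[3], [4, 2], [1], [3], [4, 2], [5, 0], [3], [4, 2], [3]],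
    [[5, 0], [3], [4, 2], [1], [3], [4, 2], [5, 0], [3], [4, 2], [3]],
    [[4, 2], [3], [4, 2], [1], [3], [4, 2], [5, 0], [3], [4, 2], [3]],
    [[5, 0], [4, 2], [3], [4, 2], [1], [3], [4, 2], [5, 0], [3], [4, 2], [3]],
    [[4, 2], [5, 0], [3], [4, 2], [1], [3], [4, 2], [5, 0], [3], [4, 2], [3]],
    [[4, 2], [5, 0], [4, 2], [3], [4, 2], [1], [3], [4, 2], [5, 0], [3], [4, 2], [3]],
    [[3], [4, 2], [1], [3], [4, 2], [5, 0], [4, 2], [3], [4, 2], [3]],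
    [[5, 0], [3], [4, 2], [1], [3], [4, 2], [5, 0], [4, 2], [3], [4, 2], [3]],
    [[4, 2], [3], [4, 2], [1], [3], [4, 2], [5, 0], [4, 2], [3], [4, 2], [3]],
    [[5, 0], [4, 2], [3], [4, 2], [1], [3], [4, 2], [5, 0], [4, 2], [3], [4, 2], [3]],
    [[4, 2], [5, 0], [3], [4, 2], [1], [3], [4, 2], [5, 0], [4, 2], [3], [4, 2], [3]],
    [[4, 2], [5, 0], [4, 2], [3], [4, 2], [1], [3], [4, 2], [5, 0], [4, 2], [3], [4, 2], [3]],
    [[3], [4, 2], [1], [3], [4, 2], [5, 0], [1], [3], [4, 2], [3]],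
    [[5, 0], [3], [4, 2], [1], [3], [4, 2], [5, 0], [1], [3], [4, 2], [3]],
    [[4, 2], [3], [4, 2], [1], [3], [4, 2], [5, 0], [1], [3], [4, 2], [3]],
    [[5, 0], [4, 2], [3], [4, 2], [1], [3], [4, 2], [5, 0], [1], [3], [4, 2], [3]],
    [[4, 2], [5, 0], [3], [4, 2], [1], [3], [4, 2], [5, 0], [1], [3], [4, 2], [3]],
    [[4, 2], [5, 0], [4, 2], [3], [4, 2], [1], [3], [4, 2], [5, 0], [1], [3], [4, 2], [3]],
    [[3], [4, 2], [1], [3], [4, 2], [5, 0], [4, 2], [1], [3], [4, 2], [3]],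
    [[5, 0], [3], [4, 2], [1], [3], [4, 2], [5, 0], [4, 2], [1], [3], [4, 2], [3]],
    [[4, 2], [3], [4, 2], [1], [3], [4, 2], [5, 0], [4, 2], [1], [3], [4, 2], [3]],
    [[5, 0], [4, 2], [3], [4, 2], [1], [3], [4, 2], [5, 0], [4, 2], [1], [3], [4, 2], [3]],
    [[4, 2], [5, 0], [3], [4, 2], [1], [3], [4, 2], [5, 0], [4, 2], [1], [3], [4, 2], [3]],
    [[4, 2], [5, 0], [4, 2], [3], [4, 2], [1], [3], [4, 2], [5, 0], [4, 2], [1], [3], [4, 2], [3]],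
    [[3], [4, 2], [5, 0], [3], [4, 2], [1], [3], [4, 2], [5, 0], [3], [4, 2], [3]],
    [[3], [4, 2], [5, 0], [4, 2], [3], [4, 2], [1], [3], [4, 2], [5, 0], [3], [4, 2], [3]],
    [[3], [4, 2], [5, 0], [3], [4, 2], [1], [3], [4, 2], [5, 0], [4, 2], [3], [4, 2], [3]],
    [[3], [4, 2], [5, 0], [4, 2], [3], [4, 2], [1], [3], [4, 2], [5, 0], [4, 2], [3], [4, 2], [3]],
    [[4, 2], [3], [4, 2], [5, 0], [4, 2], [3], [4, 2], [1], [3], [4, 2], [5, 0], [3], [4, 2], [3]],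
    [[4, 2], [3], [4, 2], [5, 0], [4, 2], [3], [4, 2], [1], [3], [4, 2], [5, 0], [4, 2], [3], [4, 2], [3]],
    [[3], [4, 2], [5, 0], [3], [4, 2], [1], [3], [4, 2], [5, 0], [1], [3], [4, 2], [3]],
    [[3], [4, 2], [5, 0], [4, 2], [3], [4, 2], [1], [3], [4, 2], [5, 0], [1], [3], [4, 2], [3]],
    [[3], [4, 2], [5, 0], [3], [4, 2], [1], [3], [4, 2], [5, 0], [4, 2], [1], [3], [4, 2], [3]],
    [[3], [4, 2], [5, 0], [4, 2], [3], [4, 2], [1], [3], [4, 2], [5, 0], [4, 2], [1], [3], [4, 2], [3]],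
    [[4, 2], [3], [4, 2], [5, 0], [4, 2], [3], [4, 2], [1], [3], [4, 2], [5, 0], [1], [3], [4, 2], [3]],
    [[4, 2], [3], [4, 2], [5, 0], [4, 2], [3], [4, 2], [1], [3], [4, 2], [5, 0], [4, 2], [1], [3], [4, 2], [3]],
    [[1], [3], [4, 2], [5, 0], [3], [1]], [[1], [3], [4, 2], [5, 0], [4, 2], [3], [1]],
    [[4, 2], [1], [3], [4, 2], [5, 0], [3], [1]],
    [[5, 0], [4, 2], [1], [3], [4, 2], [5, 0], [3], [1]],
    [[4, 2], [1], [3], [4, 2], [5, 0], [4, 2], [3], [1]],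
    [[5, 0], [4, 2], [1], [3], [4, 2], [5, 0], [4, 2], [3], [1]],
    [[1], [3], [4, 2], [5, 0], [1], [3], [1]], [[1], [3], [4, 2], [5, 0], [4, 2], [1], [3], [1]],
    [[4, 2], [1], [3], [4, 2], [5, 0], [1], [3], [1]],
    [[5, 0], [4, 2], [1], [3], [4, 2], [5, 0], [1], [3], [1]],
    [[4, 2], [1], [3], [4, 2], [5, 0], [4, 2], [1], [3], [1]],
    [[5, 0], [4, 2], [1], [3], [4, 2], [5, 0], [4, 2], [1], [3], [1]],
    [[3], [4, 2], [1], [3], [4, 2], [5, 0], [3], [1]],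
    [[5, 0], [3], [4, 2], [1], [3], [4, 2], [5, 0], [3], [1]],
    [[4, 2], [3], [4, 2], [1], [3], [4, 2], [5, 0], [3], [1]],
    [[5, 0], [4, 2], [3], [4, 2], [1], [3], [4, 2], [5, 0], [3], [1]],
    [[4, 2], [5, 0], [3], [4, 2], [1], [3], [4, 2], [5, 0], [3], [1]],
    [[4, 2], [5, 0], [4, 2], [3], [4, 2], [1], [3], [4, 2], [5, 0], [3], [1]],
    [[3], [4, 2], [1], [3], [4, 2], [5, 0], [1], [3], [1]],
    [[5, 0], [3], [4, 2], [1], [3], [4, 2], [5, 0], [1], [3], [1]],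
    [[4, 2], [3], [4, 2], [1], [3], [4, 2], [5, 0], [1], [3], [1]],
    [[5, 0], [4, 2], [3], [4, 2], [1], [3], [4, 2], [5, 0], [1], [3], [1]],
    [[4, 2], [5, 0], [3], [4, 2], [1], [3], [4, 2], [5, 0], [1], [3], [1]],
    [[4, 2], [5, 0], [4, 2], [3], [4, 2], [1], [3], [4, 2], [5, 0], [1], [3], [1]],
    [[3], [4, 2], [1], [3], [4, 2], [5, 0], [4, 2], [3], [1]],
    [[5, 0], [3], [4, 2], [1], [3], [4, 2], [5, 0], [4, 2], [3], [1]],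
    [[4, 2], [3], [4, 2], [1], [3], [4, 2], [5, 0], [4, 2], [3], [1]],
    [[5, 0], [4, 2], [3], [4, 2], [1], [3], [4, 2], [5, 0], [4, 2], [3], [1]],
    [[4, 2], [5, 0], [3], [4, 2], [1], [3], [4, 2], [5, 0], [4, 2], [3], [1]],
    [[4, 2], [5, 0], [4, 2], [3], [4, 2], [1], [3], [4, 2], [5, 0], [4, 2], [3], [1]],
    [[3], [4, 2], [1], [3], [4, 2], [5, 0], [4, 2], [1], [3], [1]],
    [[5, 0], [3], [4, 2], [1], [3], [4, 2], [5, 0], [4, 2], [1], [3], [1]],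
    [[4, 2], [3], [4, 2], [1], [3], [4, 2], [5, 0], [4, 2], [1], [3], [1]],
    [[5, 0], [4, 2], [3], [4, 2], [1], [3], [4, 2], [5, 0], [4, 2], [1], [3], [1]],
    [[4, 2], [5, 0], [3], [4, 2], [1], [3], [4, 2], [5, 0], [4, 2], [1], [3], [1]],
    [[4, 2], [5, 0], [4, 2], [3], [4, 2], [1], [3], [4, 2], [5, 0], [4, 2], [1], [3], [1]],
    [[3], [4, 2], [5, 0], [3], [4, 2], [1], [3], [4, 2], [5, 0], [3], [1]],
    [[3], [4, 2], [5, 0], [4, 2], [3], [4, 2], [1], [3], [4, 2], [5, 0], [3], [1]],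
    [[3], [4, 2], [5, 0], [3], [4, 2], [1], [3], [4, 2], [5, 0], [4, 2], [3], [1]],
    [[3], [4, 2], [5, 0], [4, 2], [3], [4, 2], [1], [3], [4, 2], [5, 0], [4, 2], [3], [1]],
    [[4, 2], [3], [4, 2], [5, 0], [4, 2], [3], [4, 2], [1], [3], [4, 2], [5, 0], [3], [1]],
    [[4, 2], [3], [4, 2], [5, 0], [4, 2], [3], [4, 2], [1], [3], [4, 2], [5, 0], [4, 2], [3], [1]],
    [[3], [4, 2], [5, 0], [3], [4, 2], [1], [3], [4, 2], [5, 0], [1], [3], [1]],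
    [[3], [4, 2], [5, 0], [4, 2], [3], [4, 2], [1], [3], [4, 2], [5, 0], [1], [3], [1]],
    [[3], [4, 2], [5, 0], [3], [4, 2], [1], [3], [4, 2], [5, 0], [4, 2], [1], [3], [1]],
    [[3], [4, 2], [5, 0], [4, 2], [3], [4, 2], [1], [3], [4, 2], [5, 0], [4, 2], [1], [3], [1]],
    [[4, 2], [3], [4, 2], [5, 0], [4, 2], [3], [4, 2], [1], [3], [4, 2], [5, 0], [1], [3], [1]],
    [[4, 2], [3], [4, 2], [5, 0], [4, 2], [3], [4, 2], [1], [3], [4, 2], [5, 0], [4, 2], [1], [3], [1]],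
    [[1], [3], [4, 2], [5, 0], [3], [4, 2], [1]],
    [[1], [3], [4, 2], [5, 0], [4, 2], [3], [4, 2], [1]],
    [[4, 2], [1], [3], [4, 2], [5, 0], [3], [4, 2], [1]],
    [[5, 0], [4, 2], [1], [3], [4, 2], [5, 0], [3], [4, 2], [1]],
    [[4, 2], [1], [3], [4, 2], [5, 0], [4, 2], [3], [4, 2], [1]],
    [[5, 0], [4, 2], [1], [3], [4, 2], [5, 0], [4, 2], [3], [4, 2], [1]],
    [[1], [3], [4, 2], [5, 0], [1], [3], [4, 2], [1]],
    [[1], [3], [4, 2], [5, 0], [4, 2], [1], [3], [4, 2], [1]],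
    [[4, 2], [1], [3], [4, 2], [5, 0], [1], [3], [4, 2], [1]],
    [[5, 0], [4, 2], [1], [3], [4, 2], [5, 0], [1], [3], [4, 2], [1]],
    [[4, 2], [1], [3], [4, 2], [5, 0], [4, 2], [1], [3], [4, 2], [1]],
    [[5, 0], [4, 2], [1], [3], [4, 2], [5, 0], [4, 2], [1], [3], [4, 2], [1]],
    [[3], [4, 2], [1], [3], [4, 2], [5, 0], [3], [4, 2], [1]],
    [[5, 0], [3], [4, 2], [1], [3], [4, 2], [5, 0], [3], [4, 2], [1]],
    [[4, 2], [3], [4, 2], [1], [3], [4, 2], [5, 0], [3], [4, 2], [1]],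
    [[5, 0], [4, 2], [3], [4, 2], [1], [3], [4, 2], [5, 0], [3], [4, 2], [1]],
    [[4, 2], [5, 0], [3], [4, 2], [1], [3], [4, 2], [5, 0], [3], [4, 2], [1]],
    [[4, 2], [5, 0], [4, 2], [3], [4, 2], [1], [3], [4, 2], [5, 0], [3], [4, 2], [1]],
    [[3], [4, 2], [1], [3], [4, 2], [5, 0], [1], [3], [4, 2], [1]],
    [[5, 0], [3], [4, 2], [1], [3], [4, 2], [5, 0], [1], [3], [4, 2], [1]],
    [[4, 2], [3], [4, 2], [1], [3], [4, 2], [5, 0], [1], [3], [4, 2], [1]],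
    [[5, 0], [4, 2], [3], [4, 2], [1], [3], [4, 2], [5, 0], [1], [3], [4, 2], [1]],
    [[4, 2], [5, 0], [3], [4, 2], [1], [3], [4, 2], [5, 0], [1], [3], [4, 2], [1]],
    [[4, 2], [5, 0], [4, 2], [3], [4, 2], [1], [3], [4, 2], [5, 0], [1], [3], [4, 2], [1]],
    [[3], [4, 2], [1], [3], [4, 2], [5, 0], [4, 2], [3], [4, 2], [1]],
    [[5, 0], [3], [4, 2], [1], [3], [4, 2], [5, 0], [4, 2], [3], [4, 2], [1]],
    [[4, 2], [3], [4, 2], [1], [3], [4, 2], [5, 0], [4, 2], [3], [4, 2], [1]],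
    [[5, 0], [4, 2], [3], [4, 2], [1], [3], [4, 2], [5, 0], [4, 2], [3], [4, 2], [1]],
    [[4, 2], [5, 0], [3], [4, 2], [1], [3], [4, 2], [5, 0], [4, 2], [3], [4, 2], [1]],
    [[4, 2], [5, 0], [4, 2], [3], [4, 2], [1], [3], [4, 2], [5, 0], [4, 2], [3], [4, 2], [1]],
    [[3], [4, 2], [1], [3], [4, 2], [5, 0], [4, 2], [1], [3], [4, 2], [1]],
    [[5, 0], [3], [4, 2], [1], [3], [4, 2], [5, 0], [4, 2], [1], [3], [4, 2], [1]],
    [[4, 2], [3], [4, 2], [1], [3], [4, 2], [5, 0], [4, 2], [1], [3], [4, 2], [1]],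
    [[5, 0], [4, 2], [3], [4, 2], [1], [3], [4, 2], [5, 0], [4, 2], [1], [3], [4, 2], [1]],
    [[4, 2], [5, 0], [3], [4, 2], [1], [3], [4, 2], [5, 0], [4, 2], [1], [3], [4, 2], [1]],
    [[4, 2], [5, 0], [4, 2], [3], [4, 2], [1], [3], [4, 2], [5, 0], [4, 2], [1], [3], [4, 2], [1]],
    [[3], [4, 2], [5, 0], [3], [4, 2], [1], [3], [4, 2], [5, 0], [3], [4, 2], [1]],
    [[3], [4, 2], [5, 0], [4, 2], [3], [4, 2], [1], [3], [4, 2], [5, 0], [3], [4, 2], [1]],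
    [[3], [4, 2], [5, 0], [3], [4, 2], [1], [3], [4, 2], [5, 0], [4, 2], [3], [4, 2], [1]],
    [[3], [4, 2], [5, 0], [4, 2], [3], [4, 2], [1], [3], [4, 2], [5, 0], [4, 2], [3], [4, 2], [1]],
    [[4, 2], [3], [4, 2], [5, 0], [4, 2], [3], [4, 2], [1], [3], [4, 2], [5, 0], [3], [4, 2], [1]],
    [[4, 2], [3], [4, 2], [5, 0], [4, 2], [3], [4, 2], [1], [3], [4, 2], [5, 0], [4, 2], [3], [4, 2], [1]],
    [[3], [4, 2], [5, 0], [3], [4, 2], [1], [3], [4, 2], [5, 0], [1], [3], [4, 2], [1]],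
    [[3], [4, 2], [5, 0], [4, 2], [3], [4, 2], [1], [3], [4, 2], [5, 0], [1], [3], [4, 2], [1]],
    [[3], [4, 2], [5, 0], [3], [4, 2], [1], [3], [4, 2], [5, 0], [4, 2], [1], [3], [4, 2], [1]],
    [[3], [4, 2], [5, 0], [4, 2], [3], [4, 2], [1], [3], [4, 2], [5, 0], [4, 2], [1], [3], [4, 2], [1]],
    [[4, 2], [3], [4, 2], [5, 0], [4, 2], [3], [4, 2], [1], [3], [4, 2], [5, 0], [1], [3], [4, 2], [1]],
    [[4, 2], [3], [4, 2], [5, 0], [4, 2], [3], [4, 2], [1], [3], [4, 2], [5, 0], [4, 2], [1], [3], [4, 2], [1]],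
    [[1], [3], [4, 2], [5, 0], [3], [4, 2], [1], [3]],
    [[1], [3], [4, 2], [5, 0], [4, 2], [3], [4, 2], [1], [3]],
    [[4, 2], [1], [3], [4, 2], [5, 0], [3], [4, 2], [1], [3]],
    [[5, 0], [4, 2], [1], [3], [4, 2], [5, 0], [3], [4, 2], [1], [3]],
    [[4, 2], [1], [3], [4, 2], [5, 0], [4, 2], [3], [4, 2], [1], [3]],
    [[5, 0], [4, 2], [1], [3], [4, 2], [5, 0], [4, 2], [3], [4, 2], [1], [3]],
    [[1], [3], [4, 2], [5, 0], [1], [3], [4, 2], [1], [3]],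
    [[1], [3], [4, 2], [5, 0], [4, 2], [1], [3], [4, 2], [1], [3]],
    [[4, 2], [1], [3], [4, 2], [5, 0], [1], [3], [4, 2], [1], [3]],
    [[5, 0], [4, 2], [1], [3], [4, 2], [5, 0], [1], [3], [4, 2], [1], [3]],
    [[4, 2], [1], [3], [4, 2], [5, 0], [4, 2], [1], [3], [4, 2], [1], [3]],
    [[5, 0], [4, 2], [1], [3], [4, 2], [5, 0], [4, 2], [1], [3], [4, 2], [1], [3]],
    [[3], [4, 2], [1], [3], [4, 2], [5, 0], [3], [4, 2], [1], [3]],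
    [[5, 0], [3], [4, 2], [1], [3], [4, 2], [5, 0], [3], [4, 2], [1], [3]],
    [[4, 2], [3], [4, 2], [1], [3], [4, 2], [5, 0], [3], [4, 2], [1], [3]],
    [[5, 0], [4, 2], [3], [4, 2], [1], [3], [4, 2], [5, 0], [3], [4, 2], [1], [3]],
    [[4, 2], [5, 0], [3], [4, 2], [1], [3], [4, 2], [5, 0], [3], [4, 2], [1], [3]],
    [[4, 2], [5, 0], [4, 2], [3], [4, 2], [1], [3], [4, 2], [5, 0], [3], [4, 2], [1], [3]],
    [[3], [4, 2], [1], [3], [4, 2], [5, 0], [1], [3], [4, 2], [1], [3]],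
    [[5, 0], [3], [4, 2], [1], [3], [4, 2], [5, 0], [1], [3], [4, 2], [1], [3]],
    [[4, 2], [3], [4, 2], [1], [3], [4, 2], [5, 0], [1], [3], [4, 2], [1], [3]],
    [[5, 0], [4, 2], [3], [4, 2], [1], [3], [4, 2], [5, 0], [1], [3], [4, 2], [1], [3]],
    [[4, 2], [5, 0], [3], [4, 2], [1], [3], [4, 2], [5, 0], [1], [3], [4, 2], [1], [3]],
    [[4, 2], [5, 0], [4, 2], [3], [4, 2], [1], [3], [4, 2], [5, 0], [1], [3], [4, 2], [1], [3]],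
    [[3], [4, 2], [1], [3], [4, 2], [5, 0], [4, 2], [3], [4, 2], [1], [3]],
    [[5, 0], [3], [4, 2], [1], [3], [4, 2], [5, 0], [4, 2], [3], [4, 2], [1], [3]],
    [[4, 2], [3], [4, 2], [1], [3], [4, 2], [5, 0], [4, 2], [3], [4, 2], [1], [3]],
    [[5, 0], [4, 2], [3], [4, 2], [1], [3], [4, 2], [5, 0], [4, 2], [3], [4, 2], [1], [3]],
    [[4, 2], [5, 0], [3], [4, 2], [1], [3], [4, 2], [5, 0], [4, 2], [3], [4, 2], [1], [3]],
    [[4, 2], [5, 0], [4, 2], [3], [4, 2], [1], [3], [4, 2], [5, 0], [4, 2], [3], [4, 2], [1], [3]],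
    [[3], [4, 2], [1], [3], [4, 2], [5, 0], [4, 2], [1], [3], [4, 2], [1], [3]],
    [[5, 0], [3], [4, 2], [1], [3], [4, 2], [5, 0], [4, 2], [1], [3], [4, 2], [1], [3]],
    [[4, 2], [3], [4, 2], [1], [3], [4, 2], [5, 0], [4, 2], [1], [3], [4, 2], [1], [3]],
    [[5, 0], [4, 2], [3], [4, 2], [1], [3], [4, 2], [5, 0], [4, 2], [1], [3], [4, 2], [1], [3]],
    [[4, 2], [5, 0], [3], [4, 2], [1], [3], [4, 2], [5, 0], [4, 2], [1], [3], [4, 2], [1], [3]],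
    [[4, 2], [5, 0], [4, 2], [3], [4, 2], [1], [3], [4, 2], [5, 0], [4, 2], [1], [3], [4, 2], [1], [3]],
    [[3], [4, 2], [5, 0], [3], [4, 2], [1], [3], [4, 2], [5, 0], [3], [4, 2], [1], [3]],
    [[3], [4, 2], [5, 0], [4, 2], [3], [4, 2], [1], [3], [4, 2], [5, 0], [3], [4, 2], [1], [3]],
    [[3], [4, 2], [5, 0], [3], [4, 2], [1], [3], [4, 2], [5, 0], [4, 2], [3], [4, 2], [1], [3]],
    [[3], [4, 2], [5, 0], [4, 2], [3], [4, 2], [1], [3], [4, 2], [5, 0], [4, 2], [3], [4, 2], [1], [3]],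
    [[4, 2], [3], [4, 2], [5, 0], [4, 2], [3], [4, 2], [1], [3], [4, 2], [5, 0], [3], [4, 2], [1], [3]],
    [[4, 2], [3], [4, 2], [5, 0], [4, 2], [3], [4, 2], [1], [3], [4, 2], [5, 0], [4, 2], [3], [4, 2], [1], [3]],
    [[3], [4, 2], [5, 0], [3], [4, 2], [1], [3], [4, 2], [5, 0], [1], [3], [4, 2], [1], [3]],
    [[3], [4, 2], [5, 0], [4, 2], [3], [4, 2], [1], [3], [4, 2], [5, 0], [1], [3], [4, 2], [1], [3]],
    [[3], [4, 2], [5, 0], [3], [4, 2], [1], [3], [4, 2], [5, 0], [4, 2], [1], [3], [4, 2], [1], [3]],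
    [[3], [4, 2], [5, 0], [4, 2], [3], [4, 2], [1], [3], [4, 2], [5, 0], [4, 2], [1], [3], [4, 2], [1], [3]],
    [[4, 2], [3], [4, 2], [5, 0], [4, 2], [3], [4, 2], [1], [3], [4, 2], [5, 0], [1], [3], [4, 2], [1], [3]],
    [[4, 2], [3], [4, 2], [5, 0], [4, 2], [3], [4, 2], [1], [3], [4, 2], [5, 0], [4, 2], [1], [3], [4, 2], [1], [3]],
    [[1], [3], [4, 2], [5, 0], [3], [4, 2], [1], [3], [4, 2]],
    [[1], [3], [4, 2], [5, 0], [4, 2], [3], [4, 2], [1], [3], [4, 2]],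
    [[4, 2], [1], [3], [4, 2], [5, 0], [3], [4, 2], [1], [3], [4, 2]],
    [[5, 0], [4, 2], [1], [3], [4, 2], [5, 0], [3], [4, 2], [1], [3], [4, 2]],
    [[4, 2], [1], [3], [4, 2], [5, 0], [4, 2], [3], [4, 2], [1], [3], [4, 2]],
    [[5, 0], [4, 2], [1], [3], [4, 2], [5, 0], [4, 2], [3], [4, 2], [1], [3], [4, 2]],
    [[1], [3], [4, 2], [5, 0], [3], [4, 2], [1], [3], [4, 2], [3]],
    [[1], [3], [4, 2], [5, 0], [4, 2], [3], [4, 2], [1], [3], [4, 2], [3]],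
    [[4, 2], [1], [3], [4, 2], [5, 0], [3], [4, 2], [1], [3], [4, 2], [3]],
    [[5, 0], [4, 2], [1], [3], [4, 2], [5, 0], [3], [4, 2], [1], [3], [4, 2], [3]],
    [[4, 2], [1], [3], [4, 2], [5, 0], [4, 2], [3], [4, 2], [1], [3], [4, 2], [3]],
    [[5, 0], [4, 2], [1], [3], [4, 2], [5, 0], [4, 2], [3], [4, 2], [1], [3], [4, 2], [3]],
    [[3], [4, 2], [1], [3], [4, 2], [5, 0], [3], [4, 2], [1], [3], [4, 2]],
    [[5, 0], [3], [4, 2], [1], [3], [4, 2], [5, 0], [3], [4, 2], [1], [3], [4, 2]],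
    [[4, 2], [3], [4, 2], [1], [3], [4, 2], [5, 0], [3], [4, 2], [1], [3], [4, 2]],
    [[5, 0], [4, 2], [3], [4, 2], [1], [3], [4, 2], [5, 0], [3], [4, 2], [1], [3], [4, 2]],
    [[4, 2], [5, 0], [3], [4, 2], [1], [3], [4, 2], [5, 0], [3], [4, 2], [1], [3], [4, 2]],
    [[4, 2], [5, 0], [4, 2], [3], [4, 2], [1], [3], [4, 2], [5, 0], [3], [4, 2], [1], [3], [4, 2]],
    [[3], [4, 2], [1], [3], [4, 2], [5, 0], [3], [4, 2], [1], [3], [4, 2], [3]],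
    [[5, 0], [3], [4, 2], [1], [3], [4, 2], [5, 0], [3], [4, 2], [1], [3], [4, 2], [3]],
    [[4, 2], [3], [4, 2], [1], [3], [4, 2], [5, 0], [3], [4, 2], [1], [3], [4, 2], [3]],
    [[5, 0], [4, 2], [3], [4, 2], [1], [3], [4, 2], [5, 0], [3], [4, 2], [1], [3], [4, 2], [3]],
    [[4, 2], [5, 0], [3], [4, 2], [1], [3], [4, 2], [5, 0], [3], [4, 2], [1], [3], [4, 2], [3]],
    [[4, 2], [5, 0], [4, 2], [3], [4, 2], [1], [3], [4, 2], [5, 0], [3], [4, 2], [1], [3], [4, 2], [3]],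
    [[3], [4, 2], [1], [3], [4, 2], [5, 0], [4, 2], [3], [4, 2], [1], [3], [4, 2]],
    [[5, 0], [3], [4, 2], [1], [3], [4, 2], [5, 0], [4, 2], [3], [4, 2], [1], [3], [4, 2]],
    [[4, 2], [3], [4, 2], [1], [3], [4, 2], [5, 0], [4, 2], [3], [4, 2], [1], [3], [4, 2]],
    [[5, 0], [4, 2], [3], [4, 2], [1], [3], [4, 2], [5, 0], [4, 2], [3], [4, 2], [1], [3], [4, 2]],
    [[4, 2], [5, 0], [3], [4, 2], [1], [3], [4, 2], [5, 0], [4, 2], [3], [4, 2], [1], [3], [4, 2]],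
    [[4, 2], [5, 0], [4, 2], [3], [4, 2], [1], [3], [4, 2], [5, 0], [4, 2], [3], [4, 2], [1], [3], [4, 2]],
    [[3], [4, 2], [1], [3], [4, 2], [5, 0], [4, 2], [3], [4, 2], [1], [3], [4, 2], [3]],
    [[5, 0], [3], [4, 2], [1], [3], [4, 2], [5, 0], [4, 2], [3], [4, 2], [1], [3], [4, 2], [3]],
    [[4, 2], [3], [4, 2], [1], [3], [4, 2], [5, 0], [4, 2], [3], [4, 2], [1], [3], [4, 2], [3]],
    [[5, 0], [4, 2], [3], [4, 2], [1], [3], [4, 2], [5, 0], [4, 2], [3], [4, 2], [1], [3], [4, 2], [3]],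
    [[4, 2], [5, 0], [3], [4, 2], [1], [3], [4, 2], [5, 0], [4, 2], [3], [4, 2], [1], [3], [4, 2], [3]],
    [[4, 2], [5, 0], [4, 2], [3], [4, 2], [1], [3], [4, 2], [5, 0], [4, 2], [3], [4, 2], [1], [3], [4, 2], [3]],
    [[3], [4, 2], [5, 0], [3], [4, 2], [1], [3], [4, 2], [5, 0], [3], [4, 2], [1], [3], [4, 2]],
    [[3], [4, 2], [5, 0], [4, 2], [3], [4, 2], [1], [3], [4, 2], [5, 0], [3], [4, 2], [1], [3], [4, 2]],
    [[3], [4, 2], [5, 0], [3], [4, 2], [1], [3], [4, 2], [5, 0], [4, 2], [3], [4, 2], [1], [3], [4, 2]],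
    [[3], [4, 2], [5, 0], [4, 2], [3], [4, 2], [1], [3], [4, 2], [5, 0], [4, 2], [3], [4, 2], [1], [3], [4, 2]],
    [[4, 2], [3], [4, 2], [5, 0], [4, 2], [3], [4, 2], [1], [3], [4, 2], [5, 0], [3], [4, 2], [1], [3], [4, 2]],
    [[4, 2], [3], [4, 2], [5, 0], [4, 2], [3], [4, 2], [1], [3], [4, 2], [5, 0], [4, 2], [3], [4, 2], [1], [3], [4, 2]],
    [[3], [4, 2], [5, 0], [3], [4, 2], [1], [3], [4, 2], [5, 0], [3], [4, 2], [1], [3], [4, 2], [3]],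
    [[3], [4, 2], [5, 0], [4, 2], [3], [4, 2], [1], [3], [4, 2], [5, 0], [3], [4, 2], [1], [3], [4, 2], [3]],
    [[3], [4, 2], [5, 0], [3], [4, 2], [1], [3], [4, 2], [5, 0], [4, 2], [3], [4, 2], [1], [3], [4, 2], [3]],
    [[3], [4, 2], [5, 0], [4, 2], [3], [4, 2], [1], [3], [4, 2], [5, 0], [4, 2], [3], [4, 2], [1], [3], [4, 2], [3]],
    [[4, 2], [3], [4, 2], [5, 0], [4, 2], [3], [4, 2], [1], [3], [4, 2], [5, 0], [3], [4, 2], [1], [3], [4, 2], [3]],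
    [[4, 2], [3], [4, 2], [5, 0], [4, 2], [3], [4, 2], [1], [3], [4, 2], [5, 0], [4, 2], [3], [4, 2], [1], [3], [4, 2], [3]],
    [[1], [3], [4, 2], [5, 0], [3], [4, 2], [3], [1]],
    [[1], [3], [4, 2], [5, 0], [4, 2], [3], [4, 2], [3], [1]],
    [[4, 2], [1], [3], [4, 2], [5, 0], [3], [4, 2], [3], [1]],
    [[5, 0], [4, 2], [1], [3], [4, 2], [5, 0], [3], [4, 2], [3], [1]],
    [[4, 2], [1], [3], [4, 2], [5, 0], [4, 2], [3], [4, 2], [3], [1]],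
    [[5, 0], [4, 2], [1], [3], [4, 2], [5, 0], [4, 2], [3], [4, 2], [3], [1]],
    [[1], [3], [4, 2], [5, 0], [1], [3], [4, 2], [3], [1]],
    [[1], [3], [4, 2], [5, 0], [4, 2], [1], [3], [4, 2], [3], [1]],
    [[4, 2], [1], [3], [4, 2], [5, 0], [1], [3], [4, 2], [3], [1]],
    [[5, 0], [4, 2], [1], [3], [4, 2], [5, 0], [1], [3], [4, 2], [3], [1]],
    [[4, 2], [1], [3], [4, 2], [5, 0], [4, 2], [1], [3], [4, 2], [3], [1]],
    [[5, 0], [4, 2], [1], [3], [4, 2], [5, 0], [4, 2], [1], [3], [4, 2], [3], [1]],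
    [[3], [4, 2], [1], [3], [4, 2], [5, 0], [3], [4, 2], [3], [1]],
    [[5, 0], [3], [4, 2], [1], [3], [4, 2], [5, 0], [3], [4, 2], [3], [1]],
    [[4, 2], [3], [4, 2], [1], [3], [4, 2], [5, 0], [3], [4, 2], [3], [1]],
    [[5, 0], [4, 2], [3], [4, 2], [1], [3], [4, 2], [5, 0], [3], [4, 2], [3], [1]],
    [[4, 2], [5, 0], [3], [4, 2], [1], [3], [4, 2], [5, 0], [3], [4, 2], [3], [1]],
    [[4, 2], [5, 0], [4, 2], [3], [4, 2], [1], [3], [4, 2], [5, 0], [3], [4, 2], [3], [1]],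
    [[3], [4, 2], [1], [3], [4, 2], [5, 0], [4, 2], [3], [4, 2], [3], [1]],
    [[5, 0], [3], [4, 2], [1], [3], [4, 2], [5, 0], [4, 2], [3], [4, 2], [3], [1]],
    [[4, 2], [3], [4, 2], [1], [3], [4, 2], [5, 0], [4, 2], [3], [4, 2], [3], [1]],
    [[5, 0], [4, 2], [3], [4, 2], [1], [3], [4, 2], [5, 0], [4, 2], [3], [4, 2], [3], [1]],
    [[4, 2], [5, 0], [3], [4, 2], [1], [3], [4, 2], [5, 0], [4, 2], [3], [4, 2], [3], [1]],
    [[4, 2], [5, 0], [4, 2], [3], [4, 2], [1], [3], [4, 2], [5, 0], [4, 2], [3], [4, 2], [3], [1]],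
    [[3], [4, 2], [1], [3], [4, 2], [5, 0], [1], [3], [4, 2], [3], [1]],
    [[5, 0], [3], [4, 2], [1], [3], [4, 2], [5, 0], [1], [3], [4, 2], [3], [1]],
    [[4, 2], [3], [4, 2], [1], [3], [4, 2], [5, 0], [1], [3], [4, 2], [3], [1]],
    [[5, 0], [4, 2], [3], [4, 2], [1], [3], [4, 2], [5, 0], [1], [3], [4, 2], [3], [1]],
    [[4, 2], [5, 0], [3], [4, 2], [1], [3], [4, 2], [5, 0], [1], [3], [4, 2], [3], [1]],
    [[4, 2], [5, 0], [4, 2], [3], [4, 2], [1], [3], [4, 2], [5, 0], [1], [3], [4, 2], [3], [1]],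
    [[3], [4, 2], [1], [3], [4, 2], [5, 0], [4, 2], [1], [3], [4, 2], [3], [1]],
    [[5, 0], [3], [4, 2], [1], [3], [4, 2], [5, 0], [4, 2], [1], [3], [4, 2], [3], [1]],
    [[4, 2], [3], [4, 2], [1], [3], [4, 2], [5, 0], [4, 2], [1], [3], [4, 2], [3], [1]],
    [[5, 0], [4, 2], [3], [4, 2], [1], [3], [4, 2], [5, 0], [4, 2], [1], [3], [4, 2], [3], [1]],
    [[4, 2], [5, 0], [3], [4, 2], [1], [3], [4, 2], [5, 0], [4, 2], [1], [3], [4, 2], [3], [1]],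
    [[4, 2], [5, 0], [4, 2], [3], [4, 2], [1], [3], [4, 2], [5, 0], [4, 2], [1], [3], [4, 2], [3], [1]],
    [[3], [4, 2], [5, 0], [3], [4, 2], [1], [3], [4, 2], [5, 0], [3], [4, 2], [3], [1]],
    [[3], [4, 2], [5, 0], [4, 2], [3], [4, 2], [1], [3], [4, 2], [5, 0], [3], [4, 2], [3], [1]],
    [[3], [4, 2], [5, 0], [3], [4, 2], [1], [3], [4, 2], [5, 0], [4, 2], [3], [4, 2], [3], [1]],
    [[3], [4, 2], [5, 0], [4, 2], [3], [4, 2], [1], [3], [4, 2], [5, 0], [4, 2], [3], [4, 2], [3], [1]],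
    [[4, 2], [3], [4, 2], [5, 0], [4, 2], [3], [4, 2], [1], [3], [4, 2], [5, 0], [3], [4, 2], [3], [1]],
    [[4, 2], [3], [4, 2], [5, 0], [4, 2], [3], [4, 2], [1], [3], [4, 2], [5, 0], [4, 2], [3], [4, 2], [3], [1]],
    [[3], [4, 2], [5, 0], [3], [4, 2], [1], [3], [4, 2], [5, 0], [1], [3], [4, 2], [3], [1]],
    [[3], [4, 2], [5, 0], [4, 2], [3], [4, 2], [1], [3], [4, 2], [5, 0], [1], [3], [4, 2], [3], [1]],
    [[3], [4, 2], [5, 0], [3], [4, 2], [1], [3], [4, 2], [5, 0], [4, 2], [1], [3], [4, 2], [3], [1]],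
    [[3], [4, 2], [5, 0], [4, 2], [3], [4, 2], [1], [3], [4, 2], [5, 0], [4, 2], [1], [3], [4, 2], [3], [1]],
    [[4, 2], [3], [4, 2], [5, 0], [4, 2], [3], [4, 2], [1], [3], [4, 2], [5, 0], [1], [3], [4, 2], [3], [1]],
    [[4, 2], [3], [4, 2], [5, 0], [4, 2], [3], [4, 2], [1], [3], [4, 2], [5, 0], [4, 2], [1], [3], [4, 2], [3], [1]],
    [[1], [3], [4, 2], [5, 0], [3], [4, 2], [1], [3], [1]],
    [[1], [3], [4, 2], [5, 0], [4, 2], [3], [4, 2], [1], [3], [1]],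
    [[4, 2], [1], [3], [4, 2], [5, 0], [3], [4, 2], [1], [3], [1]],
    [[5, 0], [4, 2], [1], [3], [4, 2], [5, 0], [3], [4, 2], [1], [3], [1]],
    [[4, 2], [1], [3], [4, 2], [5, 0], [4, 2], [3], [4, 2], [1], [3], [1]],
    [[5, 0], [4, 2], [1], [3], [4, 2], [5, 0], [4, 2], [3], [4, 2], [1], [3], [1]],
    [[1], [3], [4, 2], [5, 0], [1], [3], [4, 2], [1], [3], [1]],
    [[1], [3], [4, 2], [5, 0], [4, 2], [1], [3], [4, 2], [1], [3], [1]],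
    [[4, 2], [1], [3], [4, 2], [5, 0], [1], [3], [4, 2], [1], [3], [1]],
    [[5, 0], [4, 2], [1], [3], [4, 2], [5, 0], [1], [3], [4, 2], [1], [3], [1]],
    [[4, 2], [1], [3], [4, 2], [5, 0], [4, 2], [1], [3], [4, 2], [1], [3], [1]],
    [[5, 0], [4, 2], [1], [3], [4, 2], [5, 0], [4, 2], [1], [3], [4, 2], [1], [3], [1]],
    [[3], [4, 2], [1], [3], [4, 2], [5, 0], [3], [4, 2], [1], [3], [1]],
    [[5, 0], [3], [4, 2], [1], [3], [4, 2], [5, 0], [3], [4, 2], [1], [3], [1]],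
    [[4, 2], [3], [4, 2], [1], [3], [4, 2], [5, 0], [3], [4, 2], [1], [3], [1]],
    [[5, 0], [4, 2], [3], [4, 2], [1], [3], [4, 2], [5, 0], [3], [4, 2], [1], [3], [1]],
    [[4, 2], [5, 0], [3], [4, 2], [1], [3], [4, 2], [5, 0], [3], [4, 2], [1], [3], [1]],
    [[4, 2], [5, 0], [4, 2], [3], [4, 2], [1], [3], [4, 2], [5, 0], [3], [4, 2], [1], [3], [1]],
    [[3], [4, 2], [1], [3], [4, 2], [5, 0], [4, 2], [3], [4, 2], [1], [3], [1]],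
    [[5, 0], [3], [4, 2], [1], [3], [4, 2], [5, 0], [4, 2], [3], [4, 2], [1], [3], [1]],
    [[4, 2], [3], [4, 2], [1], [3], [4, 2], [5, 0], [4, 2], [3], [4, 2], [1], [3], [1]],
    [[5, 0], [4, 2], [3], [4, 2], [1], [3], [4, 2], [5, 0], [4, 2], [3], [4, 2], [1], [3], [1]],
    [[4, 2], [5, 0], [3], [4, 2], [1], [3], [4, 2], [5, 0], [4, 2], [3], [4, 2], [1], [3], [1]],
    [[4, 2], [5, 0], [4, 2], [3], [4, 2], [1], [3], [4, 2], [5, 0], [4, 2], [3], [4, 2], [1], [3], [1]],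
    [[3], [4, 2], [1], [3], [4, 2], [5, 0], [1], [3], [4, 2], [1], [3], [1]],
    [[5, 0], [3], [4, 2], [1], [3], [4, 2], [5, 0], [1], [3], [4, 2], [1], [3], [1]],
    [[4, 2], [3], [4, 2], [1], [3], [4, 2], [5, 0], [1], [3], [4, 2], [1], [3], [1]],
    [[5, 0], [4, 2], [3], [4, 2], [1], [3], [4, 2], [5, 0], [1], [3], [4, 2], [1], [3], [1]],
    [[4, 2], [5, 0], [3], [4, 2], [1], [3], [4, 2], [5, 0], [1], [3], [4, 2], [1], [3], [1]],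
    [[4, 2], [5, 0], [4, 2], [3], [4, 2], [1], [3], [4, 2], [5, 0], [1], [3], [4, 2], [1], [3], [1]],
    [[3], [4, 2], [1], [3], [4, 2], [5, 0], [4, 2], [1], [3], [4, 2], [1], [3], [1]],
    [[5, 0], [3], [4, 2], [1], [3], [4, 2], [5, 0], [4, 2], [1], [3], [4, 2], [1], [3], [1]],
    [[4, 2], [3], [4, 2], [1], [3], [4, 2], [5, 0], [4, 2], [1], [3], [4, 2], [1], [3], [1]],
    [[5, 0], [4, 2], [3], [4, 2], [1], [3], [4, 2], [5, 0], [4, 2], [1], [3], [4, 2], [1], [3], [1]],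
    [[4, 2], [5, 0], [3], [4, 2], [1], [3], [4, 2], [5, 0], [4, 2], [1], [3], [4, 2], [1], [3], [1]],
    [[4, 2], [5, 0], [4, 2], [3], [4, 2], [1], [3], [4, 2], [5, 0], [4, 2], [1], [3], [4, 2], [1], [3], [1]],
    [[3], [4, 2], [5, 0], [3], [4, 2], [1], [3], [4, 2], [5, 0], [3], [4, 2], [1], [3], [1]],
    [[3], [4, 2], [5, 0], [4, 2], [3], [4, 2], [1], [3], [4, 2], [5, 0], [3], [4, 2], [1], [3], [1]],
    [[3], [4, 2], [5, 0], [3], [4, 2], [1], [3], [4, 2], [5, 0], [4, 2], [3], [4, 2], [1], [3], [1]],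
    [[3], [4, 2], [5, 0], [4, 2], [3], [4, 2], [1], [3], [4, 2], [5, 0], [4, 2], [3], [4, 2], [1], [3], [1]],
    [[4, 2], [3], [4, 2], [5, 0], [4, 2], [3], [4, 2], [1], [3], [4, 2], [5, 0], [3], [4, 2], [1], [3], [1]],
    [[4, 2], [3], [4, 2], [5, 0], [4, 2], [3], [4, 2], [1], [3], [4, 2], [5, 0], [4, 2], [3], [4, 2], [1], [3], [1]],
    [[3], [4, 2], [5, 0], [3], [4, 2], [1], [3], [4, 2], [5, 0], [1], [3], [4, 2], [1], [3], [1]],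
    [[3], [4, 2], [5, 0], [4, 2], [3], [4, 2], [1], [3], [4, 2], [5, 0], [1], [3], [4, 2], [1], [3], [1]],
    [[3], [4, 2], [5, 0], [3], [4, 2], [1], [3], [4, 2], [5, 0], [4, 2], [1], [3], [4, 2], [1], [3], [1]],
    [[3], [4, 2], [5, 0], [4, 2], [3], [4, 2], [1], [3], [4, 2], [5, 0], [4, 2], [1], [3], [4, 2], [1], [3], [1]],
    [[4, 2], [3], [4, 2], [5, 0], [4, 2], [3], [4, 2], [1], [3], [4, 2], [5, 0], [1], [3], [4, 2], [1], [3], [1]],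
    [[4, 2], [3], [4, 2], [5, 0], [4, 2], [3], [4, 2], [1], [3], [4, 2], [5, 0], [4, 2], [1], [3], [4, 2], [1], [3], [1]],
    [[1], [3], [4, 2], [5, 0], [3], [4, 2], [1], [3], [4, 2], [1]],
    [[1], [3], [4, 2], [5, 0], [4, 2], [3], [4, 2], [1], [3], [4, 2], [1]],
    [[4, 2], [1], [3], [4, 2], [5, 0], [3], [4, 2], [1], [3], [4, 2], [1]],
    [[5, 0], [4, 2], [1], [3], [4, 2], [5, 0], [3], [4, 2], [1], [3], [4, 2], [1]],
    [[4, 2], [1], [3], [4, 2], [5, 0], [4, 2], [3], [4, 2], [1], [3], [4, 2], [1]],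
    [[5, 0], [4, 2], [1], [3], [4, 2], [5, 0], [4, 2], [3], [4, 2], [1], [3], [4, 2], [1]],
    [[1], [3], [4, 2], [5, 0], [3], [4, 2], [1], [3], [4, 2], [3], [1]],
    [[1], [3], [4, 2], [5, 0], [4, 2], [3], [4, 2], [1], [3], [4, 2], [3], [1]],
    [[4, 2], [1], [3], [4, 2], [5, 0], [3], [4, 2], [1], [3], [4, 2], [3], [1]],
    [[5, 0], [4, 2], [1], [3], [4, 2], [5, 0], [3], [4, 2], [1], [3], [4, 2], [3], [1]],
    [[4, 2], [1], [3], [4, 2], [5, 0], [4, 2], [3], [4, 2], [1], [3], [4, 2], [3], [1]],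
    [[5, 0], [4, 2], [1], [3], [4, 2], [5, 0], [4, 2], [3], [4, 2], [1], [3], [4, 2], [3], [1]],
    [[3], [4, 2], [1], [3], [4, 2], [5, 0], [3], [4, 2], [1], [3], [4, 2], [1]],
    [[5, 0], [3], [4, 2], [1], [3], [4, 2], [5, 0], [3], [4, 2], [1], [3], [4, 2], [1]],
    [[4, 2], [3], [4, 2], [1], [3], [4, 2], [5, 0], [3], [4, 2], [1], [3], [4, 2], [1]],
    [[5, 0], [4, 2], [3], [4, 2], [1], [3], [4, 2], [5, 0], [3], [4, 2], [1], [3], [4, 2], [1]],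
    [[4, 2], [5, 0], [3], [4, 2], [1], [3], [4, 2], [5, 0], [3], [4, 2], [1], [3], [4, 2], [1]],
    [[4, 2], [5, 0], [4, 2], [3], [4, 2], [1], [3], [4, 2], [5, 0], [3], [4, 2], [1], [3], [4, 2], [1]],
    [[3], [4, 2], [1], [3], [4, 2], [5, 0], [4, 2], [3], [4, 2], [1], [3], [4, 2], [1]],
    [[5, 0], [3], [4, 2], [1], [3], [4, 2], [5, 0], [4, 2], [3], [4, 2], [1], [3], [4, 2], [1]],
    [[4, 2], [3], [4, 2], [1], [3], [4, 2], [5, 0], [4, 2], [3], [4, 2], [1], [3], [4, 2], [1]],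
    [[5, 0], [4, 2], [3], [4, 2], [1], [3], [4, 2], [5, 0], [4, 2], [3], [4, 2], [1], [3], [4, 2], [1]],
    [[4, 2], [5, 0], [3], [4, 2], [1], [3], [4, 2], [5, 0], [4, 2], [3], [4, 2], [1], [3], [4, 2], [1]],
    [[4, 2], [5, 0], [4, 2], [3], [4, 2], [1], [3], [4, 2], [5, 0], [4, 2], [3], [4, 2], [1], [3], [4, 2], [1]],
    [[3], [4, 2], [1], [3], [4, 2], [5, 0], [3], [4, 2], [1], [3], [4, 2], [3], [1]],
    [[5, 0], [3], [4, 2], [1], [3], [4, 2], [5, 0], [3], [4, 2], [1], [3], [4, 2], [3], [1]],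
    [[4, 2], [3], [4, 2], [1], [3], [4, 2], [5, 0], [3], [4, 2], [1], [3], [4, 2], [3], [1]],
    [[5, 0], [4, 2], [3], [4, 2], [1], [3], [4, 2], [5, 0], [3], [4, 2], [1], [3], [4, 2], [3], [1]],
    [[4, 2], [5, 0], [3], [4, 2], [1], [3], [4, 2], [5, 0], [3], [4, 2], [1], [3], [4, 2], [3], [1]],
    [[4, 2], [5, 0], [4, 2], [3], [4, 2], [1], [3], [4, 2], [5, 0], [3], [4, 2], [1], [3], [4, 2], [3], [1]],
    [[3], [4, 2], [1], [3], [4, 2], [5, 0], [4, 2], [3], [4, 2], [1], [3], [4, 2], [3], [1]],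
    [[5, 0], [3], [4, 2], [1], [3], [4, 2], [5, 0], [4, 2], [3], [4, 2], [1], [3], [4, 2], [3], [1]],
    [[4, 2], [3], [4, 2], [1], [3], [4, 2], [5, 0], [4, 2], [3], [4, 2], [1], [3], [4, 2], [3], [1]],
    [[5, 0], [4, 2], [3], [4, 2], [1], [3], [4, 2], [5, 0], [4, 2], [3], [4, 2], [1], [3], [4, 2], [3], [1]],
    [[4, 2], [5, 0], [3], [4, 2], [1], [3], [4, 2], [5, 0], [4, 2], [3], [4, 2], [1], [3], [4, 2], [3], [1]],
    [[4, 2], [5, 0], [4, 2], [3], [4, 2], [1], [3], [4, 2], [5, 0], [4, 2], [3], [4, 2], [1], [3], [4, 2], [3], [1]],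
    [[3], [4, 2], [5, 0], [3], [4, 2], [1], [3], [4, 2], [5, 0], [3], [4, 2], [1], [3], [4, 2], [1]],
    [[3], [4, 2], [5, 0], [4, 2], [3], [4, 2], [1], [3], [4, 2], [5, 0], [3], [4, 2], [1], [3], [4, 2], [1]],
    [[3], [4, 2], [5, 0], [3], [4, 2], [1], [3], [4, 2], [5, 0], [4, 2], [3], [4, 2], [1], [3], [4, 2], [1]],
    [[3], [4, 2], [5, 0], [4, 2], [3], [4, 2], [1], [3], [4, 2], [5, 0], [4, 2], [3], [4, 2], [1], [3], [4, 2], [1]],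
    [[4, 2], [3], [4, 2], [5, 0], [4, 2], [3], [4, 2], [1], [3], [4, 2], [5, 0], [3], [4, 2], [1], [3], [4, 2], [1]],
    [[4, 2], [3], [4, 2], [5, 0], [4, 2], [3], [4, 2], [1], [3], [4, 2], [5, 0], [4, 2], [3], [4, 2], [1], [3], [4, 2], [1]],
    [[3], [4, 2], [5, 0], [3], [4, 2], [1], [3], [4, 2], [5, 0], [3], [4, 2], [1], [3], [4, 2], [3], [1]],
    [[3], [4, 2], [5, 0], [4, 2], [3], [4, 2], [1], [3], [4, 2], [5, 0], [3], [4, 2], [1], [3], [4, 2], [3], [1]],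
    [[3], [4, 2], [5, 0], [3], [4, 2], [1], [3], [4, 2], [5, 0], [4, 2], [3], [4, 2], [1], [3], [4, 2], [3], [1]],
    [[3], [4, 2], [5, 0], [4, 2], [3], [4, 2], [1], [3], [4, 2], [5, 0], [4, 2], [3], [4, 2], [1], [3], [4, 2], [3], [1]],
    [[4, 2], [3], [4, 2], [5, 0], [4, 2], [3], [4, 2], [1], [3], [4, 2], [5, 0], [3], [4, 2], [1], [3], [4, 2], [3], [1]],
    [[4, 2], [3], [4, 2], [5, 0], [4, 2], [3], [4, 2], [1], [3], [4, 2], [5, 0], [4, 2], [3], [4, 2], [1], [3], [4, 2], [3], [1]],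
    [[1], [3], [4, 2], [5, 0], [3], [4, 2], [1], [3], [4, 2], [1], [3]],
    [[1], [3], [4, 2], [5, 0], [4, 2], [3], [4, 2], [1], [3], [4, 2], [1], [3]],
    [[4, 2], [1], [3], [4, 2], [5, 0], [3], [4, 2], [1], [3], [4, 2], [1], [3]],
    [[5, 0], [4, 2], [1], [3], [4, 2], [5, 0], [3], [4, 2], [1], [3], [4, 2], [1], [3]],
    [[4, 2], [1], [3], [4, 2], [5, 0], [4, 2], [3], [4, 2], [1], [3], [4, 2], [1], [3]],
    [[5, 0], [4, 2], [1], [3], [4, 2], [5, 0], [4, 2], [3], [4, 2], [1], [3], [4, 2], [1], [3]],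
    [[1], [3], [4, 2], [5, 0], [3], [4, 2], [1], [3], [4, 2], [1], [3], [1]],
    [[1], [3], [4, 2], [5, 0], [4, 2], [3], [4, 2], [1], [3], [4, 2], [1], [3], [1]],
    [[4, 2], [1], [3], [4, 2], [5, 0], [3], [4, 2], [1], [3], [4, 2], [1], [3], [1]],
    [[5, 0], [4, 2], [1], [3], [4, 2], [5, 0], [3], [4, 2], [1], [3], [4, 2], [1], [3], [1]],
    [[4, 2], [1], [3], [4, 2], [5, 0], [4, 2], [3], [4, 2], [1], [3], [4, 2], [1], [3], [1]],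
    [[5, 0], [4, 2], [1], [3], [4, 2], [5, 0], [4, 2], [3], [4, 2], [1], [3], [4, 2], [1], [3], [1]],
    [[3], [4, 2], [1], [3], [4, 2], [5, 0], [3], [4, 2], [1], [3], [4, 2], [1], [3]],
    [[5, 0], [3], [4, 2], [1], [3], [4, 2], [5, 0], [3], [4, 2], [1], [3], [4, 2], [1], [3]],
    [[4, 2], [3], [4, 2], [1], [3], [4, 2], [5, 0], [3], [4, 2], [1], [3], [4, 2], [1], [3]],
    [[5, 0], [4, 2], [3], [4, 2], [1], [3], [4, 2], [5, 0], [3], [4, 2], [1], [3], [4, 2], [1], [3]],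
    [[4, 2], [5, 0], [3], [4, 2], [1], [3], [4, 2], [5, 0], [3], [4, 2], [1], [3], [4, 2], [1], [3]],
    [[4, 2], [5, 0], [4, 2], [3], [4, 2], [1], [3], [4, 2], [5, 0], [3], [4, 2], [1], [3], [4, 2], [1], [3]],
    [[3], [4, 2], [1], [3], [4, 2], [5, 0], [4, 2], [3], [4, 2], [1], [3], [4, 2], [1], [3]],
    [[5, 0], [3], [4, 2], [1], [3], [4, 2], [5, 0], [4, 2], [3], [4, 2], [1], [3], [4, 2], [1], [3]],
    [[4, 2], [3], [4, 2], [1], [3], [4, 2], [5, 0], [4, 2], [3], [4, 2], [1], [3], [4, 2], [1], [3]],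
    [[5, 0], [4, 2], [3], [4, 2], [1], [3], [4, 2], [5, 0], [4, 2], [3], [4, 2], [1], [3], [4, 2], [1], [3]],
    [[4, 2], [5, 0], [3], [4, 2], [1], [3], [4, 2], [5, 0], [4, 2], [3], [4, 2], [1], [3], [4, 2], [1], [3]],
    [[4, 2], [5, 0], [4, 2], [3], [4, 2], [1], [3], [4, 2], [5, 0], [4, 2], [3], [4, 2], [1], [3], [4, 2], [1], [3]],
    [[3], [4, 2], [1], [3], [4, 2], [5, 0], [3], [4, 2], [1], [3], [4, 2], [1], [3], [1]],
    [[5, 0], [3], [4, 2], [1], [3], [4, 2], [5, 0], [3], [4, 2], [1], [3], [4, 2], [1], [3], [1]],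
    [[4, 2], [3], [4, 2], [1], [3], [4, 2], [5, 0], [3], [4, 2], [1], [3], [4, 2], [1], [3], [1]],
    [[5, 0], [4, 2], [3], [4, 2], [1], [3], [4, 2], [5, 0], [3], [4, 2], [1], [3], [4, 2], [1], [3], [1]],
    [[4, 2], [5, 0], [3], [4, 2], [1], [3], [4, 2], [5, 0], [3], [4, 2], [1], [3], [4, 2], [1], [3], [1]],
    [[4, 2], [5, 0], [4, 2], [3], [4, 2], [1], [3], [4, 2], [5, 0], [3], [4, 2], [1], [3], [4, 2], [1], [3], [1]],
    [[3], [4, 2], [1], [3], [4, 2], [5, 0], [4, 2], [3], [4, 2], [1], [3], [4, 2], [1], [3], [1]],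
    [[5, 0], [3], [4, 2], [1], [3], [4, 2], [5, 0], [4, 2], [3], [4, 2], [1], [3], [4, 2], [1], [3], [1]],
    [[4, 2], [3], [4, 2], [1], [3], [4, 2], [5, 0], [4, 2], [3], [4, 2], [1], [3], [4, 2], [1], [3], [1]],
    [[5, 0], [4, 2], [3], [4, 2], [1], [3], [4, 2], [5, 0], [4, 2], [3], [4, 2], [1], [3], [4, 2], [1], [3], [1]],
    [[4, 2], [5, 0], [3], [4, 2], [1], [3], [4, 2], [5, 0], [4, 2], [3], [4, 2], [1], [3], [4, 2], [1], [3], [1]],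
    [[4, 2], [5, 0], [4, 2], [3], [4, 2], [1], [3], [4, 2], [5, 0], [4, 2], [3], [4, 2], [1], [3], [4, 2], [1], [3], [1]],
    [[3], [4, 2], [5, 0], [3], [4, 2], [1], [3], [4, 2], [5, 0], [3], [4, 2], [1], [3], [4, 2], [1], [3]],
    [[3], [4, 2], [5, 0], [4, 2], [3], [4, 2], [1], [3], [4, 2], [5, 0], [3], [4, 2], [1], [3], [4, 2], [1], [3]],
    [[3], [4, 2], [5, 0], [3], [4, 2], [1], [3], [4, 2], [5, 0], [4, 2], [3], [4, 2], [1], [3], [4, 2], [1], [3]],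
    [[3], [4, 2], [5, 0], [4, 2], [3], [4, 2], [1], [3], [4, 2], [5, 0], [4, 2], [3], [4, 2], [1], [3], [4, 2], [1], [3]],
    [[4, 2], [3], [4, 2], [5, 0], [4, 2], [3], [4, 2], [1], [3], [4, 2], [5, 0], [3], [4, 2], [1], [3], [4, 2], [1], [3]],
    [[4, 2], [3], [4, 2], [5, 0], [4, 2], [3], [4, 2], [1], [3], [4, 2], [5, 0], [4, 2], [3], [4, 2], [1], [3], [4, 2], [1], [3]],
    [[3], [4, 2], [5, 0], [3], [4, 2], [1], [3], [4, 2], [5, 0], [3], [4, 2], [1], [3], [4, 2], [1], [3], [1]],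
    [[3], [4, 2], [5, 0], [4, 2], [3], [4, 2], [1], [3], [4, 2], [5, 0], [3], [4, 2], [1], [3], [4, 2], [1], [3], [1]],
    [[3], [4, 2], [5, 0], [3], [4, 2], [1], [3], [4, 2], [5, 0], [4, 2], [3], [4, 2], [1], [3], [4, 2], [1], [3], [1]],
    [[3], [4, 2], [5, 0], [4, 2], [3], [4, 2], [1], [3], [4, 2], [5, 0], [4, 2], [3], [4, 2], [1], [3], [4, 2], [1], [3], [1]],
    [[4, 2], [3], [4, 2], [5, 0], [4, 2], [3], [4, 2], [1], [3], [4, 2], [5, 0], [3], [4, 2], [1], [3], [4, 2], [1], [3], [1]],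
    [[4, 2], [3], [4, 2], [5, 0], [4, 2], [3], [4, 2], [1], [3], [4, 2], [5, 0], [4, 2], [3], [4, 2], [1], [3], [4, 2], [1], [3], [1]],
    [[1], [3], [4, 2], [5, 0], [3], [4, 2], [1], [3], [4, 2], [5, 0]],
    [[1], [3], [4, 2], [5, 0], [4, 2], [3], [4, 2], [1], [3], [4, 2], [5, 0]],
    [[1], [3], [4, 2], [5, 0], [3], [4, 2], [1], [3], [4, 2], [5, 0], [4, 2]],
    [[1], [3], [4, 2], [5, 0], [4, 2], [3], [4, 2], [1], [3], [4, 2], [5, 0], [4, 2]],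
    [[4, 2], [1], [3], [4, 2], [5, 0], [4, 2], [3], [4, 2], [1], [3], [4, 2], [5, 0]],
    [[4, 2], [1], [3], [4, 2], [5, 0], [4, 2], [3], [4, 2], [1], [3], [4, 2], [5, 0], [4, 2]],
    [[1], [3], [4, 2], [5, 0], [3], [4, 2], [1], [3], [4, 2], [5, 0], [3]],
    [[1], [3], [4, 2], [5, 0], [4, 2], [3], [4, 2], [1], [3], [4, 2], [5, 0], [3]],
    [[1], [3], [4, 2], [5, 0], [3], [4, 2], [1], [3], [4, 2], [5, 0], [4, 2], [3]],
    [[1], [3], [4, 2], [5, 0], [4, 2], [3], [4, 2], [1], [3], [4, 2], [5, 0], [4, 2], [3]],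
    [[4, 2], [1], [3], [4, 2], [5, 0], [4, 2], [3], [4, 2], [1], [3], [4, 2], [5, 0], [3]],
    [[4, 2], [1], [3], [4, 2], [5, 0], [4, 2], [3], [4, 2], [1], [3], [4, 2], [5, 0], [4, 2], [3]],
    [[1], [3], [4, 2], [5, 0], [3], [4, 2], [1], [3], [4, 2], [5, 0], [3], [4, 2]],
    [[1], [3], [4, 2], [5, 0], [4, 2], [3], [4, 2], [1], [3], [4, 2], [5, 0], [3], [4, 2]],
    [[1], [3], [4, 2], [5, 0], [3], [4, 2], [1], [3], [4, 2], [5, 0], [4, 2], [3], [4, 2]],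
    [[1], [3], [4, 2], [5, 0], [4, 2], [3], [4, 2], [1], [3], [4, 2], [5, 0], [4, 2], [3], [4, 2]],
    [[4, 2], [1], [3], [4, 2], [5, 0], [4, 2], [3], [4, 2], [1], [3], [4, 2], [5, 0], [3], [4, 2]],
    [[4, 2], [1], [3], [4, 2], [5, 0], [4, 2], [3], [4, 2], [1], [3], [4, 2], [5, 0], [4, 2], [3], [4, 2]],
    [[1], [3], [4, 2], [5, 0], [3], [4, 2], [1], [3], [4, 2], [5, 0], [3], [4, 2], [3]],
    [[1], [3], [4, 2], [5, 0], [4, 2], [3], [4, 2], [1], [3], [4, 2], [5, 0], [3], [4, 2], [3]],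
    [[1], [3], [4, 2], [5, 0], [3], [4, 2], [1], [3], [4, 2], [5, 0], [4, 2], [3], [4, 2], [3]],
    [[1], [3], [4, 2], [5, 0], [4, 2], [3], [4, 2], [1], [3], [4, 2], [5, 0], [4, 2], [3], [4, 2], [3]],
    [[4, 2], [1], [3], [4, 2], [5, 0], [4, 2], [3], [4, 2], [1], [3], [4, 2], [5, 0], [3], [4, 2], [3]],
    [[4, 2], [1], [3], [4, 2], [5, 0], [4, 2], [3], [4, 2], [1], [3], [4, 2], [5, 0], [4, 2], [3], [4, 2], [3]],
    [[3], [4, 2], [1], [3], [4, 2], [5, 0], [4, 2], [3], [4, 2], [1], [3], [4, 2], [5, 0]],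
    [[3], [4, 2], [1], [3], [4, 2], [5, 0], [4, 2], [3], [4, 2], [1], [3], [4, 2], [5, 0], [4, 2]],
    [[4, 2], [3], [4, 2], [1], [3], [4, 2], [5, 0], [4, 2], [3], [4, 2], [1], [3], [4, 2], [5, 0]],
    [[5, 0], [4, 2], [3], [4, 2], [1], [3], [4, 2], [5, 0], [4, 2], [3], [4, 2], [1], [3], [4, 2], [5, 0]],
    [[4, 2], [3], [4, 2], [1], [3], [4, 2], [5, 0], [4, 2], [3], [4, 2], [1], [3], [4, 2], [5, 0], [4, 2]],
    [[5, 0], [4, 2], [3], [4, 2], [1], [3], [4, 2], [5, 0], [4, 2], [3], [4, 2], [1], [3], [4, 2], [5, 0], [4, 2]],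
    [[3], [4, 2], [1], [3], [4, 2], [5, 0], [4, 2], [3], [4, 2], [1], [3], [4, 2], [5, 0], [3]],
    [[3], [4, 2], [1], [3], [4, 2], [5, 0], [4, 2], [3], [4, 2], [1], [3], [4, 2], [5, 0], [4, 2], [3]],
    [[4, 2], [3], [4, 2], [1], [3], [4, 2], [5, 0], [4, 2], [3], [4, 2], [1], [3], [4, 2], [5, 0], [3]],
    [[5, 0], [4, 2], [3], [4, 2], [1], [3], [4, 2], [5, 0], [4, 2], [3], [4, 2], [1], [3], [4, 2], [5, 0], [3]],
    [[4, 2], [3], [4, 2], [1], [3], [4, 2], [5, 0], [4, 2], [3], [4, 2], [1], [3], [4, 2], [5, 0], [4, 2], [3]],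
    [[5, 0], [4, 2], [3], [4, 2], [1], [3], [4, 2], [5, 0], [4, 2], [3], [4, 2], [1], [3], [4, 2], [5, 0], [4, 2], [3]],
    [[3], [4, 2], [1], [3], [4, 2], [5, 0], [4, 2], [3], [4, 2], [1], [3], [4, 2], [5, 0], [3], [4, 2]],
    [[3], [4, 2], [1], [3], [4, 2], [5, 0], [4, 2], [3], [4, 2], [1], [3], [4, 2], [5, 0], [4, 2], [3], [4, 2]],
    [[4, 2], [3], [4, 2], [1], [3], [4, 2], [5, 0], [4, 2], [3], [4, 2], [1], [3], [4, 2], [5, 0], [3], [4, 2]],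
    [[5, 0], [4, 2], [3], [4, 2], [1], [3], [4, 2], [5, 0], [4, 2], [3], [4, 2], [1], [3], [4, 2], [5, 0], [3], [4, 2]],
    [[4, 2], [3], [4, 2], [1], [3], [4, 2], [5, 0], [4, 2], [3], [4, 2], [1], [3], [4, 2], [5, 0], [4, 2], [3], [4, 2]],
    [[5, 0], [4, 2], [3], [4, 2], [1], [3], [4, 2], [5, 0], [4, 2], [3], [4, 2], [1], [3], [4, 2], [5, 0], [4, 2], [3], [4, 2]],
    [[3], [4, 2], [1], [3], [4, 2], [5, 0], [4, 2], [3], [4, 2], [1], [3], [4, 2], [5, 0], [3], [4, 2], [3]],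
    [[3], [4, 2], [1], [3], [4, 2], [5, 0], [4, 2], [3], [4, 2], [1], [3], [4, 2], [5, 0], [4, 2], [3], [4, 2], [3]],
    [[4, 2], [3], [4, 2], [1], [3], [4, 2], [5, 0], [4, 2], [3], [4, 2], [1], [3], [4, 2], [5, 0], [3], [4, 2], [3]],
    [[5, 0], [4, 2], [3], [4, 2], [1], [3], [4, 2], [5, 0], [4, 2], [3], [4, 2], [1], [3], [4, 2], [5, 0], [3], [4, 2], [3]],
    [[4, 2], [3], [4, 2], [1], [3], [4, 2], [5, 0], [4, 2], [3], [4, 2], [1], [3], [4, 2], [5, 0], [4, 2], [3], [4, 2], [3]],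
    [[5, 0], [4, 2], [3], [4, 2], [1], [3], [4, 2], [5, 0], [4, 2], [3], [4, 2], [1], [3], [4, 2], [5, 0], [4, 2], [3], [4, 2], [3]],
    [[1], [3], [4, 2], [5, 0], [3], [4, 2], [1], [3], [4, 2], [5, 0], [1]],
    [[1], [3], [4, 2], [5, 0], [4, 2], [3], [4, 2], [1], [3], [4, 2], [5, 0], [1]],
    [[1], [3], [4, 2], [5, 0], [3], [4, 2], [1], [3], [4, 2], [5, 0], [4, 2], [1]],
    [[1], [3], [4, 2], [5, 0], [4, 2], [3], [4, 2], [1], [3], [4, 2], [5, 0], [4, 2], [1]],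
    [[4, 2], [1], [3], [4, 2], [5, 0], [4, 2], [3], [4, 2], [1], [3], [4, 2], [5, 0], [1]],
    [[4, 2], [1], [3], [4, 2], [5, 0], [4, 2], [3], [4, 2], [1], [3], [4, 2], [5, 0], [4, 2], [1]],
    [[1], [3], [4, 2], [5, 0], [3], [4, 2], [1], [3], [4, 2], [5, 0], [3], [1]],
    [[1], [3], [4, 2], [5, 0], [4, 2], [3], [4, 2], [1], [3], [4, 2], [5, 0], [3], [1]],
    [[1], [3], [4, 2], [5, 0], [3], [4, 2], [1], [3], [4, 2], [5, 0], [4, 2], [3], [1]],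
    [[1], [3], [4, 2], [5, 0], [4, 2], [3], [4, 2], [1], [3], [4, 2], [5, 0], [4, 2], [3], [1]],
    [[4, 2], [1], [3], [4, 2], [5, 0], [4, 2], [3], [4, 2], [1], [3], [4, 2], [5, 0], [3], [1]],
    [[4, 2], [1], [3], [4, 2], [5, 0], [4, 2], [3], [4, 2], [1], [3], [4, 2], [5, 0], [4, 2], [3], [1]],
    [[1], [3], [4, 2], [5, 0], [3], [4, 2], [1], [3], [4, 2], [5, 0], [3], [4, 2], [1]],
    [[1], [3], [4, 2], [5, 0], [4, 2], [3], [4, 2], [1], [3], [4, 2], [5, 0], [3], [4, 2], [1]],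
    [[1], [3], [4, 2], [5, 0], [3], [4, 2], [1], [3], [4, 2], [5, 0], [4, 2], [3], [4, 2], [1]],
    [[1], [3], [4, 2], [5, 0], [4, 2], [3], [4, 2], [1], [3], [4, 2], [5, 0], [4, 2], [3], [4, 2], [1]],
    [[4, 2], [1], [3], [4, 2], [5, 0], [4, 2], [3], [4, 2], [1], [3], [4, 2], [5, 0], [3], [4, 2], [1]],
    [[4, 2], [1], [3], [4, 2], [5, 0], [4, 2], [3], [4, 2], [1], [3], [4, 2], [5, 0], [4, 2], [3], [4, 2], [1]],
    [[1], [3], [4, 2], [5, 0], [3], [4, 2], [1], [3], [4, 2], [5, 0], [3], [4, 2], [3], [1]],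
    [[1], [3], [4, 2], [5, 0], [4, 2], [3], [4, 2], [1], [3], [4, 2], [5, 0], [3], [4, 2], [3], [1]],
    [[1], [3], [4, 2], [5, 0], [3], [4, 2], [1], [3], [4, 2], [5, 0], [4, 2], [3], [4, 2], [3], [1]],
    [[1], [3], [4, 2], [5, 0], [4, 2], [3], [4, 2], [1], [3], [4, 2], [5, 0], [4, 2], [3], [4, 2], [3], [1]],
    [[4, 2], [1], [3], [4, 2], [5, 0], [4, 2], [3], [4, 2], [1], [3], [4, 2], [5, 0], [3], [4, 2], [3], [1]],
    [[4, 2], [1], [3], [4, 2], [5, 0], [4, 2], [3], [4, 2], [1], [3], [4, 2], [5, 0], [4, 2], [3], [4, 2], [3], [1]],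
    [[3], [4, 2], [1], [3], [4, 2], [5, 0], [4, 2], [3], [4, 2], [1], [3], [4, 2], [5, 0], [1]],
    [[3], [4, 2], [1], [3], [4, 2], [5, 0], [4, 2], [3], [4, 2], [1], [3], [4, 2], [5, 0], [4, 2], [1]],
    [[4, 2], [3], [4, 2], [1], [3], [4, 2], [5, 0], [4, 2], [3], [4, 2], [1], [3], [4, 2], [5, 0], [1]],
    [[5, 0], [4, 2], [3], [4, 2], [1], [3], [4, 2], [5, 0], [4, 2], [3], [4, 2], [1], [3], [4, 2], [5, 0], [1]],
    [[4, 2], [3], [4, 2], [1], [3], [4, 2], [5, 0], [4, 2], [3], [4, 2], [1], [3], [4, 2], [5, 0], [4, 2], [1]],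
    [[5, 0], [4, 2], [3], [4, 2], [1], [3], [4, 2], [5, 0], [4, 2], [3], [4, 2], [1], [3], [4, 2], [5, 0], [4, 2], [1]],
    [[3], [4, 2], [1], [3], [4, 2], [5, 0], [4, 2], [3], [4, 2], [1], [3], [4, 2], [5, 0], [3], [1]],
    [[3], [4, 2], [1], [3], [4, 2], [5, 0], [4, 2], [3], [4, 2], [1], [3], [4, 2], [5, 0], [4, 2], [3], [1]],
    [[4, 2], [3], [4, 2], [1], [3], [4, 2], [5, 0], [4, 2], [3], [4, 2], [1], [3], [4, 2], [5, 0], [3], [1]],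
    [[5, 0], [4, 2], [3], [4, 2], [1], [3], [4, 2], [5, 0], [4, 2], [3], [4, 2], [1], [3], [4, 2], [5, 0], [3], [1]],
    [[4, 2], [3], [4, 2], [1], [3], [4, 2], [5, 0], [4, 2], [3], [4, 2], [1], [3], [4, 2], [5, 0], [4, 2], [3], [1]],
    [[5, 0], [4, 2], [3], [4, 2], [1], [3], [4, 2], [5, 0], [4, 2], [3], [4, 2], [1], [3], [4, 2], [5, 0], [4, 2], [3], [1]],
    [[3], [4, 2], [1], [3], [4, 2], [5, 0], [4, 2], [3], [4, 2], [1], [3], [4, 2], [5, 0], [3], [4, 2], [1]],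
    [[3], [4, 2], [1], [3], [4, 2], [5, 0], [4, 2], [3], [4, 2], [1], [3], [4, 2], [5, 0], [4, 2], [3], [4, 2], [1]],
    [[4, 2], [3], [4, 2], [1], [3], [4, 2], [5, 0], [4, 2], [3], [4, 2], [1], [3], [4, 2], [5, 0], [3], [4, 2], [1]],
    [[5, 0], [4, 2], [3], [4, 2], [1], [3], [4, 2], [5, 0], [4, 2], [3], [4, 2], [1], [3], [4, 2], [5, 0], [3], [4, 2], [1]],
    [[4, 2], [3], [4, 2], [1], [3], [4, 2], [5, 0], [4, 2], [3], [4, 2], [1], [3], [4, 2], [5, 0], [4, 2], [3], [4, 2], [1]],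
    [[5, 0], [4, 2], [3], [4, 2], [1], [3], [4, 2], [5, 0], [4, 2], [3], [4, 2], [1], [3], [4, 2], [5, 0], [4, 2], [3], [4, 2], [1]],
    [[3], [4, 2], [1], [3], [4, 2], [5, 0], [4, 2], [3], [4, 2], [1], [3], [4, 2], [5, 0], [3], [4, 2], [3], [1]],
    [[3], [4, 2], [1], [3], [4, 2], [5, 0], [4, 2], [3], [4, 2], [1], [3], [4, 2], [5, 0], [4, 2], [3], [4, 2], [3], [1]],
    [[4, 2], [3], [4, 2], [1], [3], [4, 2], [5, 0], [4, 2], [3], [4, 2], [1], [3], [4, 2], [5, 0], [3], [4, 2], [3], [1]],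
    [[5, 0], [4, 2], [3], [4, 2], [1], [3], [4, 2], [5, 0], [4, 2], [3], [4, 2], [1], [3], [4, 2], [5, 0], [3], [4, 2], [3], [1]],
    [[4, 2], [3], [4, 2], [1], [3], [4, 2], [5, 0], [4, 2], [3], [4, 2], [1], [3], [4, 2], [5, 0], [4, 2], [3], [4, 2], [3], [1]],
    [[5, 0], [4, 2], [3], [4, 2], [1], [3], [4, 2], [5, 0], [4, 2], [3], [4, 2], [1], [3], [4, 2], [5, 0], [4, 2], [3], [4, 2], [3], [1]],
    [[1], [3], [4, 2], [5, 0], [3], [4, 2], [1], [3], [4, 2], [5, 0], [1], [3]],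
    [[1], [3], [4, 2], [5, 0], [4, 2], [3], [4, 2], [1], [3], [4, 2], [5, 0], [1], [3]],
    [[1], [3], [4, 2], [5, 0], [3], [4, 2], [1], [3], [4, 2], [5, 0], [4, 2], [1], [3]],
    [[1], [3], [4, 2], [5, 0], [4, 2], [3], [4, 2], [1], [3], [4, 2], [5, 0], [4, 2], [1], [3]],
    [[4, 2], [1], [3], [4, 2], [5, 0], [4, 2], [3], [4, 2], [1], [3], [4, 2], [5, 0], [1], [3]],
    [[4, 2], [1], [3], [4, 2], [5, 0], [4, 2], [3], [4, 2], [1], [3], [4, 2], [5, 0], [4, 2], [1], [3]],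
    [[1], [3], [4, 2], [5, 0], [3], [4, 2], [1], [3], [4, 2], [5, 0], [1], [3], [1]],
    [[1], [3], [4, 2], [5, 0], [4, 2], [3], [4, 2], [1], [3], [4, 2], [5, 0], [1], [3], [1]],
    [[1], [3], [4, 2], [5, 0], [3], [4, 2], [1], [3], [4, 2], [5, 0], [4, 2], [1], [3], [1]],
    [[1], [3], [4, 2], [5, 0], [4, 2], [3], [4, 2], [1], [3], [4, 2], [5, 0], [4, 2], [1], [3], [1]],
    [[4, 2], [1], [3], [4, 2], [5, 0], [4, 2], [3], [4, 2], [1], [3], [4, 2], [5, 0], [1], [3], [1]],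
    [[4, 2], [1], [3], [4, 2], [5, 0], [4, 2], [3], [4, 2], [1], [3], [4, 2], [5, 0], [4, 2], [1], [3], [1]],
    [[1], [3], [4, 2], [5, 0], [3], [4, 2], [1], [3], [4, 2], [5, 0], [3], [4, 2], [1], [3]],
    [[1], [3], [4, 2], [5, 0], [4, 2], [3], [4, 2], [1], [3], [4, 2], [5, 0], [3], [4, 2], [1], [3]],
    [[1], [3], [4, 2], [5, 0], [3], [4, 2], [1], [3], [4, 2], [5, 0], [4, 2], [3], [4, 2], [1], [3]],
    [[1], [3], [4, 2], [5, 0], [4, 2], [3], [4, 2], [1], [3], [4, 2], [5, 0], [4, 2], [3], [4, 2], [1], [3]],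
    [[4, 2], [1], [3], [4, 2], [5, 0], [4, 2], [3], [4, 2], [1], [3], [4, 2], [5, 0], [3], [4, 2], [1], [3]],
    [[4, 2], [1], [3], [4, 2], [5, 0], [4, 2], [3], [4, 2], [1], [3], [4, 2], [5, 0], [4, 2], [3], [4, 2], [1], [3]],
    [[1], [3], [4, 2], [5, 0], [3], [4, 2], [1], [3], [4, 2], [5, 0], [3], [4, 2], [1], [3], [1]],
    [[1], [3], [4, 2], [5, 0], [4, 2], [3], [4, 2], [1], [3], [4, 2], [5, 0], [3], [4, 2], [1], [3], [1]],
    [[1], [3], [4, 2], [5, 0], [3], [4, 2], [1], [3], [4, 2], [5, 0], [4, 2], [3], [4, 2], [1], [3], [1]],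
    [[1], [3], [4, 2], [5, 0], [4, 2], [3], [4, 2], [1], [3], [4, 2], [5, 0], [4, 2], [3], [4, 2], [1], [3], [1]],
    [[4, 2], [1], [3], [4, 2], [5, 0], [4, 2], [3], [4, 2], [1], [3], [4, 2], [5, 0], [3], [4, 2], [1], [3], [1]],
    [[4, 2], [1], [3], [4, 2], [5, 0], [4, 2], [3], [4, 2], [1], [3], [4, 2], [5, 0], [4, 2], [3], [4, 2], [1], [3], [1]],
    [[3], [4, 2], [1], [3], [4, 2], [5, 0], [4, 2], [3], [4, 2], [1], [3], [4, 2], [5, 0], [1], [3]],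
    [[3], [4, 2], [1], [3], [4, 2], [5, 0], [4, 2], [3], [4, 2], [1], [3], [4, 2], [5, 0], [4, 2], [1], [3]],
    [[4, 2], [3], [4, 2], [1], [3], [4, 2], [5, 0], [4, 2], [3], [4, 2], [1], [3], [4, 2], [5, 0], [1], [3]],
    [[5, 0], [4, 2], [3], [4, 2], [1], [3], [4, 2], [5, 0], [4, 2], [3], [4, 2], [1], [3], [4, 2], [5, 0], [1], [3]],
    [[4, 2], [3], [4, 2], [1], [3], [4, 2], [5, 0], [4, 2], [3], [4, 2], [1], [3], [4, 2], [5, 0], [4, 2], [1], [3]],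
    [[5, 0], [4, 2], [3], [4, 2], [1], [3], [4, 2], [5, 0], [4, 2], [3], [4, 2], [1], [3], [4, 2], [5, 0], [4, 2], [1], [3]],
    [[3], [4, 2], [1], [3], [4, 2], [5, 0], [4, 2], [3], [4, 2], [1], [3], [4, 2], [5, 0], [1], [3], [1]],
    [[3], [4, 2], [1], [3], [4, 2], [5, 0], [4, 2], [3], [4, 2], [1], [3], [4, 2], [5, 0], [4, 2], [1], [3], [1]],
    [[4, 2], [3], [4, 2], [1], [3], [4, 2], [5, 0], [4, 2], [3], [4, 2], [1], [3], [4, 2], [5, 0], [1], [3], [1]],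
    [[5, 0], [4, 2], [3], [4, 2], [1], [3], [4, 2], [5, 0], [4, 2], [3], [4, 2], [1], [3], [4, 2], [5, 0], [1], [3], [1]],
    [[4, 2], [3], [4, 2], [1], [3], [4, 2], [5, 0], [4, 2], [3], [4, 2], [1], [3], [4, 2], [5, 0], [4, 2], [1], [3], [1]],
    [[5, 0], [4, 2], [3], [4, 2], [1], [3], [4, 2], [5, 0], [4, 2], [3], [4, 2], [1], [3], [4, 2], [5, 0], [4, 2], [1], [3], [1]],
    [[3], [4, 2], [1], [3], [4, 2], [5, 0], [4, 2], [3], [4, 2], [1], [3], [4, 2], [5, 0], [3], [4, 2], [1], [3]],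
    [[3], [4, 2], [1], [3], [4, 2], [5, 0], [4, 2], [3], [4, 2], [1], [3], [4, 2], [5, 0], [4, 2], [3], [4, 2], [1], [3]],
    [[4, 2], [3], [4, 2], [1], [3], [4, 2], [5, 0], [4, 2], [3], [4, 2], [1], [3], [4, 2], [5, 0], [3], [4, 2], [1], [3]],
    [[5, 0], [4, 2], [3], [4, 2], [1], [3], [4, 2], [5, 0], [4, 2], [3], [4, 2], [1], [3], [4, 2], [5, 0], [3], [4, 2], [1], [3]],
    [[4, 2], [3], [4, 2], [1], [3], [4, 2], [5, 0], [4, 2], [3], [4, 2], [1], [3], [4, 2], [5, 0], [4, 2], [3], [4, 2], [1], [3]],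
    [[5, 0], [4, 2], [3], [4, 2], [1], [3], [4, 2], [5, 0], [4, 2], [3], [4, 2], [1], [3], [4, 2], [5, 0], [4, 2], [3], [4, 2], [1], [3]],
    [[3], [4, 2], [1], [3], [4, 2], [5, 0], [4, 2], [3], [4, 2], [1], [3], [4, 2], [5, 0], [3], [4, 2], [1], [3], [1]],
    [[3], [4, 2], [1], [3], [4, 2], [5, 0], [4, 2], [3], [4, 2], [1], [3], [4, 2], [5, 0], [4, 2], [3], [4, 2], [1], [3], [1]],
    [[4, 2], [3], [4, 2], [1], [3], [4, 2], [5, 0], [4, 2], [3], [4, 2], [1], [3], [4, 2], [5, 0], [3], [4, 2], [1], [3], [1]],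
    [[5, 0], [4, 2], [3], [4, 2], [1], [3], [4, 2], [5, 0], [4, 2], [3], [4, 2], [1], [3], [4, 2], [5, 0], [3], [4, 2], [1], [3], [1]],
    [[4, 2], [3], [4, 2], [1], [3], [4, 2], [5, 0], [4, 2], [3], [4, 2], [1], [3], [4, 2], [5, 0], [4, 2], [3], [4, 2], [1], [3], [1]],
    [[5, 0], [4, 2], [3], [4, 2], [1], [3], [4, 2], [5, 0], [4, 2], [3], [4, 2], [1], [3], [4, 2], [5, 0], [4, 2], [3], [4, 2], [1], [3], [1]],
    [[1], [3], [4, 2], [5, 0], [3], [4, 2], [1], [3], [4, 2], [5, 0], [1], [3], [4, 2]],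
    [[1], [3], [4, 2], [5, 0], [4, 2], [3], [4, 2], [1], [3], [4, 2], [5, 0], [1], [3], [4, 2]],
    [[1], [3], [4, 2], [5, 0], [3], [4, 2], [1], [3], [4, 2], [5, 0], [4, 2], [1], [3], [4, 2]],
    [[1], [3], [4, 2], [5, 0], [4, 2], [3], [4, 2], [1], [3], [4, 2], [5, 0], [4, 2], [1], [3], [4, 2]],
    [[4, 2], [1], [3], [4, 2], [5, 0], [4, 2], [3], [4, 2], [1], [3], [4, 2], [5, 0], [1], [3], [4, 2]],
    [[4, 2], [1], [3], [4, 2], [5, 0], [4, 2], [3], [4, 2], [1], [3], [4, 2], [5, 0], [4, 2], [1], [3], [4, 2]],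
    [[1], [3], [4, 2], [5, 0], [3], [4, 2], [1], [3], [4, 2], [5, 0], [1], [3], [4, 2], [1]],
    [[1], [3], [4, 2], [5, 0], [4, 2], [3], [4, 2], [1], [3], [4, 2], [5, 0], [1], [3], [4, 2], [1]],
    [[1], [3], [4, 2], [5, 0], [3], [4, 2], [1], [3], [4, 2], [5, 0], [4, 2], [1], [3], [4, 2], [1]],
    [[1], [3], [4, 2], [5, 0], [4, 2], [3], [4, 2], [1], [3], [4, 2], [5, 0], [4, 2], [1], [3], [4, 2], [1]],
    [[4, 2], [1], [3], [4, 2], [5, 0], [4, 2], [3], [4, 2], [1], [3], [4, 2], [5, 0], [1], [3], [4, 2], [1]],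
    [[4, 2], [1], [3], [4, 2], [5, 0], [4, 2], [3], [4, 2], [1], [3], [4, 2], [5, 0], [4, 2], [1], [3], [4, 2], [1]],
    [[1], [3], [4, 2], [5, 0], [3], [4, 2], [1], [3], [4, 2], [5, 0], [3], [4, 2], [1], [3], [4, 2]],
    [[1], [3], [4, 2], [5, 0], [4, 2], [3], [4, 2], [1], [3], [4, 2], [5, 0], [3], [4, 2], [1], [3], [4, 2]],
    [[1], [3], [4, 2], [5, 0], [3], [4, 2], [1], [3], [4, 2], [5, 0], [4, 2], [3], [4, 2], [1], [3], [4, 2]],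
    [[1], [3], [4, 2], [5, 0], [4, 2], [3], [4, 2], [1], [3], [4, 2], [5, 0], [4, 2], [3], [4, 2], [1], [3], [4, 2]],
    [[4, 2], [1], [3], [4, 2], [5, 0], [4, 2], [3], [4, 2], [1], [3], [4, 2], [5, 0], [3], [4, 2], [1], [3], [4, 2]],
    [[4, 2], [1], [3], [4, 2], [5, 0], [4, 2], [3], [4, 2], [1], [3], [4, 2], [5, 0], [4, 2], [3], [4, 2], [1], [3], [4, 2]],
    [[1], [3], [4, 2], [5, 0], [3], [4, 2], [1], [3], [4, 2], [5, 0], [3], [4, 2], [1], [3], [4, 2], [1]],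
    [[1], [3], [4, 2], [5, 0], [4, 2], [3], [4, 2], [1], [3], [4, 2], [5, 0], [3], [4, 2], [1], [3], [4, 2], [1]],
    [[1], [3], [4, 2], [5, 0], [3], [4, 2], [1], [3], [4, 2], [5, 0], [4, 2], [3], [4, 2], [1], [3], [4, 2], [1]],
    [[1], [3], [4, 2], [5, 0], [4, 2], [3], [4, 2], [1], [3], [4, 2], [5, 0], [4, 2], [3], [4, 2], [1], [3], [4, 2], [1]],
    [[4, 2], [1], [3], [4, 2], [5, 0], [4, 2], [3], [4, 2], [1], [3], [4, 2], [5, 0], [3], [4, 2], [1], [3], [4, 2], [1]],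
    [[4, 2], [1], [3], [4, 2], [5, 0], [4, 2], [3], [4, 2], [1], [3], [4, 2], [5, 0], [4, 2], [3], [4, 2], [1], [3], [4, 2], [1]],
    [[3], [4, 2], [1], [3], [4, 2], [5, 0], [4, 2], [3], [4, 2], [1], [3], [4, 2], [5, 0], [1], [3], [4, 2]],
    [[3], [4, 2], [1], [3], [4, 2], [5, 0], [4, 2], [3], [4, 2], [1], [3], [4, 2], [5, 0], [4, 2], [1], [3], [4, 2]],
    [[4, 2], [3], [4, 2], [1], [3], [4, 2], [5, 0], [4, 2], [3], [4, 2], [1], [3], [4, 2], [5, 0], [1], [3], [4, 2]],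
    [[5, 0], [4, 2], [3], [4, 2], [1], [3], [4, 2], [5, 0], [4, 2], [3], [4, 2], [1], [3], [4, 2], [5, 0], [1], [3], [4, 2]],
    [[4, 2], [3], [4, 2], [1], [3], [4, 2], [5, 0], [4, 2], [3], [4, 2], [1], [3], [4, 2], [5, 0], [4, 2], [1], [3], [4, 2]],
    [[5, 0], [4, 2], [3], [4, 2], [1], [3], [4, 2], [5, 0], [4, 2], [3], [4, 2], [1], [3], [4, 2], [5, 0], [4, 2], [1], [3], [4, 2]],
    [[3], [4, 2], [1], [3], [4, 2], [5, 0], [4, 2], [3], [4, 2], [1], [3], [4, 2], [5, 0], [1], [3], [4, 2], [1]],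
    [[3], [4, 2], [1], [3], [4, 2], [5, 0], [4, 2], [3], [4, 2], [1], [3], [4, 2], [5, 0], [4, 2], [1], [3], [4, 2], [1]],
    [[4, 2], [3], [4, 2], [1], [3], [4, 2], [5, 0], [4, 2], [3], [4, 2], [1], [3], [4, 2], [5, 0], [1], [3], [4, 2], [1]],
    [[5, 0], [4, 2], [3], [4, 2], [1], [3], [4, 2], [5, 0], [4, 2], [3], [4, 2], [1], [3], [4, 2], [5, 0], [1], [3], [4, 2], [1]],
    [[4, 2], [3], [4, 2], [1], [3], [4, 2], [5, 0], [4, 2], [3], [4, 2], [1], [3], [4, 2], [5, 0], [4, 2], [1], [3], [4, 2], [1]],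
    [[5, 0], [4, 2], [3], [4, 2], [1], [3], [4, 2], [5, 0], [4, 2], [3], [4, 2], [1], [3], [4, 2], [5, 0], [4, 2], [1], [3], [4, 2], [1]],
    [[3], [4, 2], [1], [3], [4, 2], [5, 0], [4, 2], [3], [4, 2], [1], [3], [4, 2], [5, 0], [3], [4, 2], [1], [3], [4, 2]],
    [[3], [4, 2], [1], [3], [4, 2], [5, 0], [4, 2], [3], [4, 2], [1], [3], [4, 2], [5, 0], [4, 2], [3], [4, 2], [1], [3], [4, 2]],
    [[4, 2], [3], [4, 2], [1], [3], [4, 2], [5, 0], [4, 2], [3], [4, 2], [1], [3], [4, 2], [5, 0], [3], [4, 2], [1], [3], [4, 2]],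
    [[5, 0], [4, 2], [3], [4, 2], [1], [3], [4, 2], [5, 0], [4, 2], [3], [4, 2], [1], [3], [4, 2], [5, 0], [3], [4, 2], [1], [3], [4, 2]],
    [[4, 2], [3], [4, 2], [1], [3], [4, 2], [5, 0], [4, 2], [3], [4, 2], [1], [3], [4, 2], [5, 0], [4, 2], [3], [4, 2], [1], [3], [4, 2]],
    [[5, 0], [4, 2], [3], [4, 2], [1], [3], [4, 2], [5, 0], [4, 2], [3], [4, 2], [1], [3], [4, 2], [5, 0], [4, 2], [3], [4, 2], [1], [3], [4, 2]],
    [[3], [4, 2], [1], [3], [4, 2], [5, 0], [4, 2], [3], [4, 2], [1], [3], [4, 2], [5, 0], [3], [4, 2], [1], [3], [4, 2], [1]],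
    [[3], [4, 2], [1], [3], [4, 2], [5, 0], [4, 2], [3], [4, 2], [1], [3], [4, 2], [5, 0], [4, 2], [3], [4, 2], [1], [3], [4, 2], [1]],
    [[4, 2], [3], [4, 2], [1], [3], [4, 2], [5, 0], [4, 2], [3], [4, 2], [1], [3], [4, 2], [5, 0], [3], [4, 2], [1], [3], [4, 2], [1]],
    [[5, 0], [4, 2], [3], [4, 2], [1], [3], [4, 2], [5, 0], [4, 2], [3], [4, 2], [1], [3], [4, 2], [5, 0], [3], [4, 2], [1], [3], [4, 2], [1]],
    [[4, 2], [3], [4, 2], [1], [3], [4, 2], [5, 0], [4, 2], [3], [4, 2], [1], [3], [4, 2], [5, 0], [4, 2], [3], [4, 2], [1], [3], [4, 2], [1]],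
    [[5, 0], [4, 2], [3], [4, 2], [1], [3], [4, 2], [5, 0], [4, 2], [3], [4, 2], [1], [3], [4, 2], [5, 0], [4, 2], [3], [4, 2], [1], [3], [4, 2], [1]],
    [[1], [3], [4, 2], [5, 0], [3], [4, 2], [1], [3], [4, 2], [5, 0], [1], [3], [4, 2], [3]],
    [[1], [3], [4, 2], [5, 0], [4, 2], [3], [4, 2], [1], [3], [4, 2], [5, 0], [1], [3], [4, 2], [3]],
    [[1], [3], [4, 2], [5, 0], [3], [4, 2], [1], [3], [4, 2], [5, 0], [4, 2], [1], [3], [4, 2], [3]],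
    [[1], [3], [4, 2], [5, 0], [4, 2], [3], [4, 2], [1], [3], [4, 2], [5, 0], [4, 2], [1], [3], [4, 2], [3]],
    [[4, 2], [1], [3], [4, 2], [5, 0], [4, 2], [3], [4, 2], [1], [3], [4, 2], [5, 0], [1], [3], [4, 2], [3]],
    [[4, 2], [1], [3], [4, 2], [5, 0], [4, 2], [3], [4, 2], [1], [3], [4, 2], [5, 0], [4, 2], [1], [3], [4, 2], [3]],
    [[1], [3], [4, 2], [5, 0], [3], [4, 2], [1], [3], [4, 2], [5, 0], [1], [3], [4, 2], [1], [3]],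
    [[1], [3], [4, 2], [5, 0], [4, 2], [3], [4, 2], [1], [3], [4, 2], [5, 0], [1], [3], [4, 2], [1], [3]],
    [[1], [3], [4, 2], [5, 0], [3], [4, 2], [1], [3], [4, 2], [5, 0], [4, 2], [1], [3], [4, 2], [1], [3]],
    [[1], [3], [4, 2], [5, 0], [4, 2], [3], [4, 2], [1], [3], [4, 2], [5, 0], [4, 2], [1], [3], [4, 2], [1], [3]],
    [[4, 2], [1], [3], [4, 2], [5, 0], [4, 2], [3], [4, 2], [1], [3], [4, 2], [5, 0], [1], [3], [4, 2], [1], [3]],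
    [[4, 2], [1], [3], [4, 2], [5, 0], [4, 2], [3], [4, 2], [1], [3], [4, 2], [5, 0], [4, 2], [1], [3], [4, 2], [1], [3]],
    [[1], [3], [4, 2], [5, 0], [3], [4, 2], [1], [3], [4, 2], [5, 0], [3], [4, 2], [1], [3], [4, 2], [3]],
    [[1], [3], [4, 2], [5, 0], [4, 2], [3], [4, 2], [1], [3], [4, 2], [5, 0], [3], [4, 2], [1], [3], [4, 2], [3]],
    [[1], [3], [4, 2], [5, 0], [3], [4, 2], [1], [3], [4, 2], [5, 0], [4, 2], [3], [4, 2], [1], [3], [4, 2], [3]],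
    [[1], [3], [4, 2], [5, 0], [4, 2], [3], [4, 2], [1], [3], [4, 2], [5, 0], [4, 2], [3], [4, 2], [1], [3], [4, 2], [3]],
    [[4, 2], [1], [3], [4, 2], [5, 0], [4, 2], [3], [4, 2], [1], [3], [4, 2], [5, 0], [3], [4, 2], [1], [3], [4, 2], [3]],
    [[4, 2], [1], [3], [4, 2], [5, 0], [4, 2], [3], [4, 2], [1], [3], [4, 2], [5, 0], [4, 2], [3], [4, 2], [1], [3], [4, 2], [3]],
    [[1], [3], [4, 2], [5, 0], [3], [4, 2], [1], [3], [4, 2], [5, 0], [3], [4, 2], [1], [3], [4, 2], [1], [3]],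
    [[1], [3], [4, 2], [5, 0], [4, 2], [3], [4, 2], [1], [3], [4, 2], [5, 0], [3], [4, 2], [1], [3], [4, 2], [1], [3]],
    [[1], [3], [4, 2], [5, 0], [3], [4, 2], [1], [3], [4, 2], [5, 0], [4, 2], [3], [4, 2], [1], [3], [4, 2], [1], [3]],
    [[1], [3], [4, 2], [5, 0], [4, 2], [3], [4, 2], [1], [3], [4, 2], [5, 0], [4, 2], [3], [4, 2], [1], [3], [4, 2], [1], [3]],
    [[4, 2], [1], [3], [4, 2], [5, 0], [4, 2], [3], [4, 2], [1], [3], [4, 2], [5, 0], [3], [4, 2], [1], [3], [4, 2], [1], [3]],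
    [[4, 2], [1], [3], [4, 2], [5, 0], [4, 2], [3], [4, 2], [1], [3], [4, 2], [5, 0], [4, 2], [3], [4, 2], [1], [3], [4, 2], [1], [3]],
    [[3], [4, 2], [1], [3], [4, 2], [5, 0], [4, 2], [3], [4, 2], [1], [3], [4, 2], [5, 0], [1], [3], [4, 2], [3]],
    [[3], [4, 2], [1], [3], [4, 2], [5, 0], [4, 2], [3], [4, 2], [1], [3], [4, 2], [5, 0], [4, 2], [1], [3], [4, 2], [3]],
    [[4, 2], [3], [4, 2], [1], [3], [4, 2], [5, 0], [4, 2], [3], [4, 2], [1], [3], [4, 2], [5, 0], [1], [3], [4, 2], [3]],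
    [[5, 0], [4, 2], [3], [4, 2], [1], [3], [4, 2], [5, 0], [4, 2], [3], [4, 2], [1], [3], [4, 2], [5, 0], [1], [3], [4, 2], [3]],
    [[4, 2], [3], [4, 2], [1], [3], [4, 2], [5, 0], [4, 2], [3], [4, 2], [1], [3], [4, 2], [5, 0], [4, 2], [1], [3], [4, 2], [3]],
    [[5, 0], [4, 2], [3], [4, 2], [1], [3], [4, 2], [5, 0], [4, 2], [3], [4, 2], [1], [3], [4, 2], [5, 0], [4, 2], [1], [3], [4, 2], [3]],
    [[3], [4, 2], [1], [3], [4, 2], [5, 0], [4, 2], [3], [4, 2], [1], [3], [4, 2], [5, 0], [1], [3], [4, 2], [1], [3]],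
    [[3], [4, 2], [1], [3], [4, 2], [5, 0], [4, 2], [3], [4, 2], [1], [3], [4, 2], [5, 0], [4, 2], [1], [3], [4, 2], [1], [3]],
    [[4, 2], [3], [4, 2], [1], [3], [4, 2], [5, 0], [4, 2], [3], [4, 2], [1], [3], [4, 2], [5, 0], [1], [3], [4, 2], [1], [3]],
    [[5, 0], [4, 2], [3], [4, 2], [1], [3], [4, 2], [5, 0], [4, 2], [3], [4, 2], [1], [3], [4, 2], [5, 0], [1], [3], [4, 2], [1], [3]],
    [[4, 2], [3], [4, 2], [1], [3], [4, 2], [5, 0], [4, 2], [3], [4, 2], [1], [3], [4, 2], [5, 0], [4, 2], [1], [3], [4, 2], [1], [3]],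
    [[5, 0], [4, 2], [3], [4, 2], [1], [3], [4, 2], [5, 0], [4, 2], [3], [4, 2], [1], [3], [4, 2], [5, 0], [4, 2], [1], [3], [4, 2], [1], [3]],
    [[3], [4, 2], [1], [3], [4, 2], [5, 0], [4, 2], [3], [4, 2], [1], [3], [4, 2], [5, 0], [3], [4, 2], [1], [3], [4, 2], [3]],
    [[3], [4, 2], [1], [3], [4, 2], [5, 0], [4, 2], [3], [4, 2], [1], [3], [4, 2], [5, 0], [4, 2], [3], [4, 2], [1], [3], [4, 2], [3]],
    [[4, 2], [3], [4, 2], [1], [3], [4, 2], [5, 0], [4, 2], [3], [4, 2], [1], [3], [4, 2], [5, 0], [3], [4, 2], [1], [3], [4, 2], [3]],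
    [[5, 0], [4, 2], [3], [4, 2], [1], [3], [4, 2], [5, 0], [4, 2], [3], [4, 2], [1], [3], [4, 2], [5, 0], [3], [4, 2], [1], [3], [4, 2], [3]],
    [[4, 2], [3], [4, 2], [1], [3], [4, 2], [5, 0], [4, 2], [3], [4, 2], [1], [3], [4, 2], [5, 0], [4, 2], [3], [4, 2], [1], [3], [4, 2], [3]],
    [[5, 0], [4, 2], [3], [4, 2], [1], [3], [4, 2], [5, 0], [4, 2], [3], [4, 2], [1], [3], [4, 2], [5, 0], [4, 2], [3], [4, 2], [1], [3], [4, 2], [3]],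
    [[3], [4, 2], [1], [3], [4, 2], [5, 0], [4, 2], [3], [4, 2], [1], [3], [4, 2], [5, 0], [3], [4, 2], [1], [3], [4, 2], [1], [3]],
    [[3], [4, 2], [1], [3], [4, 2], [5, 0], [4, 2], [3], [4, 2], [1], [3], [4, 2], [5, 0], [4, 2], [3], [4, 2], [1], [3], [4, 2], [1], [3]],
    [[4, 2], [3], [4, 2], [1], [3], [4, 2], [5, 0], [4, 2], [3], [4, 2], [1], [3], [4, 2], [5, 0], [3], [4, 2], [1], [3], [4, 2], [1], [3]],
    [[5, 0], [4, 2], [3], [4, 2], [1], [3], [4, 2], [5, 0], [4, 2], [3], [4, 2], [1], [3], [4, 2], [5, 0], [3], [4, 2], [1], [3], [4, 2], [1], [3]],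
    [[4, 2], [3], [4, 2], [1], [3], [4, 2], [5, 0], [4, 2], [3], [4, 2], [1], [3], [4, 2], [5, 0], [4, 2], [3], [4, 2], [1], [3], [4, 2], [1], [3]],
    [[5, 0], [4, 2], [3], [4, 2], [1], [3], [4, 2], [5, 0], [4, 2], [3], [4, 2], [1], [3], [4, 2], [5, 0], [4, 2], [3], [4, 2], [1], [3], [4, 2], [1], [3]],
    [[1], [3], [4, 2], [5, 0], [3], [4, 2], [1], [3], [4, 2], [5, 0], [1], [3], [4, 2], [3], [1]],
    [[1], [3], [4, 2], [5, 0], [4, 2], [3], [4, 2], [1], [3], [4, 2], [5, 0], [1], [3], [4, 2], [3], [1]],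
    [[1], [3], [4, 2], [5, 0], [3], [4, 2], [1], [3], [4, 2], [5, 0], [4, 2], [1], [3], [4, 2], [3], [1]],
    [[1], [3], [4, 2], [5, 0], [4, 2], [3], [4, 2], [1], [3], [4, 2], [5, 0], [4, 2], [1], [3], [4, 2], [3], [1]],
    [[4, 2], [1], [3], [4, 2], [5, 0], [4, 2], [3], [4, 2], [1], [3], [4, 2], [5, 0], [1], [3], [4, 2], [3], [1]],
    [[4, 2], [1], [3], [4, 2], [5, 0], [4, 2], [3], [4, 2], [1], [3], [4, 2], [5, 0], [4, 2], [1], [3], [4, 2], [3], [1]],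
    [[1], [3], [4, 2], [5, 0], [3], [4, 2], [1], [3], [4, 2], [5, 0], [1], [3], [4, 2], [1], [3], [1]],
    [[1], [3], [4, 2], [5, 0], [4, 2], [3], [4, 2], [1], [3], [4, 2], [5, 0], [1], [3], [4, 2], [1], [3], [1]],
    [[1], [3], [4, 2], [5, 0], [3], [4, 2], [1], [3], [4, 2], [5, 0], [4, 2], [1], [3], [4, 2], [1], [3], [1]],
    [[1], [3], [4, 2], [5, 0], [4, 2], [3], [4, 2], [1], [3], [4, 2], [5, 0], [4, 2], [1], [3], [4, 2], [1], [3], [1]],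
    [[4, 2], [1], [3], [4, 2], [5, 0], [4, 2], [3], [4, 2], [1], [3], [4, 2], [5, 0], [1], [3], [4, 2], [1], [3], [1]],
    [[4, 2], [1], [3], [4, 2], [5, 0], [4, 2], [3], [4, 2], [1], [3], [4, 2], [5, 0], [4, 2], [1], [3], [4, 2], [1], [3], [1]],
    [[1], [3], [4, 2], [5, 0], [3], [4, 2], [1], [3], [4, 2], [5, 0], [3], [4, 2], [1], [3], [4, 2], [3], [1]],
    [[1], [3], [4, 2], [5, 0], [4, 2], [3], [4, 2], [1], [3], [4, 2], [5, 0], [3], [4, 2], [1], [3], [4, 2], [3], [1]],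
    [[1], [3], [4, 2], [5, 0], [3], [4, 2], [1], [3], [4, 2], [5, 0], [4, 2], [3], [4, 2], [1], [3], [4, 2], [3], [1]],
    [[1], [3], [4, 2], [5, 0], [4, 2], [3], [4, 2], [1], [3], [4, 2], [5, 0], [4, 2], [3], [4, 2], [1], [3], [4, 2], [3], [1]],
    [[4, 2], [1], [3], [4, 2], [5, 0], [4, 2], [3], [4, 2], [1], [3], [4, 2], [5, 0], [3], [4, 2], [1], [3], [4, 2], [3], [1]],
    [[4, 2], [1], [3], [4, 2], [5, 0], [4, 2], [3], [4, 2], [1], [3], [4, 2], [5, 0], [4, 2], [3], [4, 2], [1], [3], [4, 2], [3], [1]],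
    [[1], [3], [4, 2], [5, 0], [3], [4, 2], [1], [3], [4, 2], [5, 0], [3], [4, 2], [1], [3], [4, 2], [1], [3], [1]],
    [[1], [3], [4, 2], [5, 0], [4, 2], [3], [4, 2], [1], [3], [4, 2], [5, 0], [3], [4, 2], [1], [3], [4, 2], [1], [3], [1]],
    [[1], [3], [4, 2], [5, 0], [3], [4, 2], [1], [3], [4, 2], [5, 0], [4, 2], [3], [4, 2], [1], [3], [4, 2], [1], [3], [1]],
    [[1], [3], [4, 2], [5, 0], [4, 2], [3], [4, 2], [1], [3], [4, 2], [5, 0], [4, 2], [3], [4, 2], [1], [3], [4, 2], [1], [3], [1]],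
    [[4, 2], [1], [3], [4, 2], [5, 0], [4, 2], [3], [4, 2], [1], [3], [4, 2], [5, 0], [3], [4, 2], [1], [3], [4, 2], [1], [3], [1]],
    [[4, 2], [1], [3], [4, 2], [5, 0], [4, 2], [3], [4, 2], [1], [3], [4, 2], [5, 0], [4, 2], [3], [4, 2], [1], [3], [4, 2], [1], [3], [1]],
    [[3], [4, 2], [1], [3], [4, 2], [5, 0], [4, 2], [3], [4, 2], [1], [3], [4, 2], [5, 0], [1], [3], [4, 2], [3], [1]],
    [[3], [4, 2], [1], [3], [4, 2], [5, 0], [4, 2], [3], [4, 2], [1], [3], [4, 2], [5, 0], [4, 2], [1], [3], [4, 2], [3], [1]],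
    [[4, 2], [3], [4, 2], [1], [3], [4, 2], [5, 0], [4, 2], [3], [4, 2], [1], [3], [4, 2], [5, 0], [1], [3], [4, 2], [3], [1]],
    [[5, 0], [4, 2], [3], [4, 2], [1], [3], [4, 2], [5, 0], [4, 2], [3], [4, 2], [1], [3], [4, 2], [5, 0], [1], [3], [4, 2], [3], [1]],
    [[4, 2], [3], [4, 2], [1], [3], [4, 2], [5, 0], [4, 2], [3], [4, 2], [1], [3], [4, 2], [5, 0], [4, 2], [1], [3], [4, 2], [3], [1]],
    [[5, 0], [4, 2], [3], [4, 2], [1], [3], [4, 2], [5, 0], [4, 2], [3], [4, 2], [1], [3], [4, 2], [5, 0], [4, 2], [1], [3], [4, 2], [3], [1]],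
    [[3], [4, 2], [1], [3], [4, 2], [5, 0], [4, 2], [3], [4, 2], [1], [3], [4, 2], [5, 0], [1], [3], [4, 2], [1], [3], [1]],
    [[3], [4, 2], [1], [3], [4, 2], [5, 0], [4, 2], [3], [4, 2], [1], [3], [4, 2], [5, 0], [4, 2], [1], [3], [4, 2], [1], [3], [1]],
    [[4, 2], [3], [4, 2], [1], [3], [4, 2], [5, 0], [4, 2], [3], [4, 2], [1], [3], [4, 2], [5, 0], [1], [3], [4, 2], [1], [3], [1]],
    [[5, 0], [4, 2], [3], [4, 2], [1], [3], [4, 2], [5, 0], [4, 2], [3], [4, 2], [1], [3], [4, 2], [5, 0], [1], [3], [4, 2], [1], [3], [1]],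
    [[4, 2], [3], [4, 2], [1], [3], [4, 2], [5, 0], [4, 2], [3], [4, 2], [1], [3], [4, 2], [5, 0], [4, 2], [1], [3], [4, 2], [1], [3], [1]],
    [[5, 0], [4, 2], [3], [4, 2], [1], [3], [4, 2], [5, 0], [4, 2], [3], [4, 2], [1], [3], [4, 2], [5, 0], [4, 2], [1], [3], [4, 2], [1], [3], [1]],
    [[3], [4, 2], [1], [3], [4, 2], [5, 0], [4, 2], [3], [4, 2], [1], [3], [4, 2], [5, 0], [3], [4, 2], [1], [3], [4, 2], [3], [1]],
    [[3], [4, 2], [1], [3], [4, 2], [5, 0], [4, 2], [3], [4, 2], [1], [3], [4, 2], [5, 0], [4, 2], [3], [4, 2], [1], [3], [4, 2], [3], [1]],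
    [[4, 2], [3], [4, 2], [1], [3], [4, 2], [5, 0], [4, 2], [3], [4, 2], [1], [3], [4, 2], [5, 0], [3], [4, 2], [1], [3], [4, 2], [3], [1]],
    [[5, 0], [4, 2], [3], [4, 2], [1], [3], [4, 2], [5, 0], [4, 2], [3], [4, 2], [1], [3], [4, 2], [5, 0], [3], [4, 2], [1], [3], [4, 2], [3], [1]],
    [[4, 2], [3], [4, 2], [1], [3], [4, 2], [5, 0], [4, 2], [3], [4, 2], [1], [3], [4, 2], [5, 0], [4, 2], [3], [4, 2], [1], [3], [4, 2], [3], [1]],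
    [[5, 0], [4, 2], [3], [4, 2], [1], [3], [4, 2], [5, 0], [4, 2], [3], [4, 2], [1], [3], [4, 2], [5, 0], [4, 2], [3], [4, 2], [1], [3], [4, 2], [3], [1]],
    [[3], [4, 2], [1], [3], [4, 2], [5, 0], [4, 2], [3], [4, 2], [1], [3], [4, 2], [5, 0], [3], [4, 2], [1], [3], [4, 2], [1], [3], [1]],
    [[3], [4, 2], [1], [3], [4, 2], [5, 0], [4, 2], [3], [4, 2], [1], [3], [4, 2], [5, 0], [4, 2], [3], [4, 2], [1], [3], [4, 2], [1], [3], [1]],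
    [[4, 2], [3], [4, 2], [1], [3], [4, 2], [5, 0], [4, 2], [3], [4, 2], [1], [3], [4, 2], [5, 0], [3], [4, 2], [1], [3], [4, 2], [1], [3], [1]],
    [[5, 0], [4, 2], [3], [4, 2], [1], [3], [4, 2], [5, 0], [4, 2], [3], [4, 2], [1], [3], [4, 2], [5, 0], [3], [4, 2], [1], [3], [4, 2], [1], [3], [1]],
    [[4, 2], [3], [4, 2], [1], [3], [4, 2], [5, 0], [4, 2], [3], [4, 2], [1], [3], [4, 2], [5, 0], [4, 2], [3], [4, 2], [1], [3], [4, 2], [1], [3], [1]],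
    [[5, 0], [4, 2], [3], [4, 2], [1], [3], [4, 2], [5, 0], [4, 2], [3], [4, 2], [1], [3], [4, 2], [5, 0], [4, 2], [3], [4, 2], [1], [3], [4, 2], [1], [3], [1]]]

end Cfsg.Agent.helper5.Chev
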