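import Cfsg.Statements.S1108
import Mathlib
import Cfsg.Agent.Lib_helper5_TwD4Perf

set_option autoImplicit false
open Cfsg

namespace Cfsg.Agent.S1108

/-- ³D₄(q) equals its derived subgroup. -/
theorem result {K : Type*} [Field K] [Fintype K] {q : ℕ} (hq : IsPrimePow q) (hK : Fintype.card K = q ^ 3) : commutator ↥(Cfsg.Lie.twistedD4 K q) = ⊤ := by
  have hq1 : (-1 : K) ^ q = -1 := Cfsg.Agent.helper5.Chev.neg_one_pow_q1 hK
  have hq2 : (-1 : K) ^ (q ^ 2) = -1 := Cfsg.Agent.helper5.Chev.neg_one_pow_q hK 2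
  have hfrob : ∀ a b : K, (a + b) ^ q = a ^ q + b ^ q := by
    intro a b
    have := Cfsg.Agent.helper5.Chev.frob_add hq hK 1 a b
    rwa [pow_one] at this
  have hfrob2 : ∀ a b : K, (a + b) ^ (q ^ 2) = a ^ (q ^ 2) + b ^ (q ^ 2) :=
    fun a b => Cfsg.Agent.helper5.Chev.frob_add hq hK 2 a b
  have h4 : 4 ≤ Fintype.card K := by
    rw [hK]
    have : 2 ≤ q := hq.two_le
    nlinarith [pow_le_pow_left₀ (by norm_num : (0:ℕ) ≤ 2) this 3]
  obtain ⟨lam, h0, h2⟩ := Cfsg.Agent.helper5.Chev.exists_sq_ne_one h4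
  exact Cfsg.Agent.helper5.Chev.perfect_of_le _
    (Cfsg.Agent.helper5.Chev.twD4_le_comm hfrob hfrob2 hq1 hq2 lam h0 h2)

end Cfsg.Agent.S1108
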