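import Cfsg.Statements.S1109
import Mathlib
import Cfsg.Agent.Lib_helper5_TwD4

set_option autoImplicit false
open Cfsg

namespace Cfsg.Agent.S1109

/-- The normal core of `B¹ = G¹ ∩ B` in ³D₄(q) is trivial. -/
theorem result {K : Type*} [Field K] [Fintype K] {q : ℕ} (hq : IsPrimePow q) (hK : Fintype.card K = q ^ 3) :
    ((Cfsg.Lie.chevD4.borelSubgroup K ⊓ Cfsg.Lie.twistedD4 K q).subgroupOf (Cfsg.Lie.twistedD4 K q)).normalCore = ⊥ := by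
  have hq1 : (-1 : K) ^ q = -1 := Cfsg.Agent.helper5.Chev.neg_one_pow_q1 hK
  have hq2 : (-1 : K) ^ (q ^ 2) = -1 := Cfsg.Agent.helper5.Chev.neg_one_pow_q hK 2
  exact Cfsg.Agent.helper5.Chev.tw_core_trivial Cfsg.Lie.chevD4 Cfsg.Agent.helper5.Chev.twD4_hD
    Cfsg.Agent.helper5.Chev.twD4_hCR (Cfsg.Lie.twistedD4 K q) Cfsg.Agent.helper5.Chev.twD4_w0
    Cfsg.Agent.helper5.Chev.twD4_w0_ok (Cfsg.Agent.helper5.Chev.twD4_n0_mem hq1 hq2)
    (fun i hi => Cfsg.Agent.helper5.Chev.twD4_hgen i hi)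

end Cfsg.Agent.S1109
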