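import Mathlib
import Cfsg.Agent.Lib_helper5_TwSimple
import Cfsg.Agent.Lib_helper5_TwE6BN
import Cfsg.Agent.Lib_helper5_TwD4BN
import Cfsg.Agent.S1050
import Cfsg.Agent.S1104
import Cfsg.Agent.S1105
import Cfsg.Agent.S1108
import Cfsg.Agent.S1109

set_option autoImplicit false

open Cfsg

/-! Simplicity of `²E₆(q)` and `³D₄(q)` (helper5). -/

namespace Cfsg.Agent.helper5.Chev

open Cfsg.Lie Cfsg.Agent.helper6.Graph

set_option maxRecDepth 1000000 in
set_option maxHeartbeats 0 in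
theorem twE6_path0 : chunkPathChk chevE6 twE6_cs0 = true := by decide +kernel

set_option maxRecDepth 1000000 in
set_option maxHeartbeats 0 in
theorem twD4_path0 : chunkPathChk chevD4 twD4_cs0 = true := by decide +kernel

section
variable {K : Type*} [Field K] [Fintype K] {q : ℕ}

theorem twE6_simple (hq : IsPrimePow q) (hK : Fintype.card K = q ^ 2) :
    IsSimpleGroup ↥(twistedE6 K q) ∧ ¬ IsMulCommutative ↥(twistedE6 K q) := by
  obtain ⟨Q, hQB, -, hQS⟩ := twE6_bnpair hq hK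
  have hq2 : 2 ≤ q := hq.two_le
  have hq0 : q ≠ 0 := by omega
  have hq1 : (-1 : K) ^ q = -1 := neg_one_pow_q1 hK
  have hfrob : ∀ a b : K, (a + b) ^ q = a ^ q + b ^ q := by
    intro a b
    have := frob_add hq hK 1 a b
    rwa [pow_one] at this
  have hirr := tw_irreducible (K := K) chevE6 twE6_hD certE6 (twistedE6 K q) twE6_cs0 twE6_cs0_lt
    (twE6_cs0_mem hq1) twE6_chk0 twE6_path0 Q hQB hQS
  refine tw_simple_of chevE6 _ Q hQB hirr (Cfsg.Agent.S1104.result hq hK)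
    (Cfsg.Agent.S1050.result chevE6 twE6_hD) (Cfsg.Agent.S1105.result hq hK) ?_
  obtain ⟨x, hx, hnx⟩ := twE6_ne (K := K) hq0 hfrob [1] (by decide)
  refine ⟨x, hx.2, ?_⟩
  rintro rfl
  apply hnx
  rw [mul_one, mul_inv_cancel]
  exact Subgroup.one_mem _

theorem twD4_simple (hq : IsPrimePow q) (hK : Fintype.card K = q ^ 3) :
    IsSimpleGroup ↥(twistedD4 K q) ∧ ¬ IsMulCommutative ↥(twistedD4 K q) := by
  obtain ⟨Q, hQB, -, hQS⟩ := twD4_bnpair hq hK
  have hq2' : 2 ≤ q := hq.two_le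
  have hq0 : q ≠ 0 := by omega
  have hq1 : (-1 : K) ^ q = -1 := neg_one_pow_q1 hK
  have hq2 : (-1 : K) ^ (q ^ 2) = -1 := neg_one_pow_q hK 2
  have hfrob : ∀ a b : K, (a + b) ^ q = a ^ q + b ^ q := by
    intro a b
    have := frob_add hq hK 1 a b
    rwa [pow_one] at this
  have hirr := tw_irreducible (K := K) chevD4 twD4_hD certD4a (twistedD4 K q) twD4_cs0 twD4_cs0_lt
    (twD4_cs0_mem hq1 hq2) twD4_chk0 twD4_path0 Q hQB hQS
  refine tw_simple_of chevD4 _ Q hQB hirr (Cfsg.Agent.S1108.result hq hK)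
    (Cfsg.Agent.S1050.result chevD4 twD4_hD) (Cfsg.Agent.S1109.result hq hK) ?_
  obtain ⟨x, hx, hnx⟩ := twD4_ne (K := K) hq0 hfrob [1] (by decide)
  refine ⟨x, hx.2, ?_⟩
  rintro rfl
  apply hnx
  rw [mul_one, mul_inv_cancel]
  exact Subgroup.one_mem _

end

end Cfsg.Agent.helper5.Chev
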