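import Mathlib

set_option autoImplicit false

/-! Order bound for abelian `p`-groups of permutations (helper6). -/

namespace Cfsg.Agent.helper6.AbPerm

/-- integer form of the weighted AM–GM inequality for two terms -/
theorem wamgm (u v x y : ℕ) :
    (u + v) ^ (u + v) * x ^ u * y ^ v ≤ u ^ u * v ^ v * (x + y) ^ (u + v) := by
  rcases Nat.eq_zero_or_pos u with hu | hu
  · subst hu
    simp only [zero_add, pow_zero, mul_one, one_mul]
    rw [← mul_pow, ← mul_pow]
    exact Nat.pow_le_pow_left (Nat.mul_le_mul_left _ (Nat.le_add_left _ _)) _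
  rcases Nat.eq_zero_or_pos v with hv | hv
  · subst hv
    simp only [add_zero, pow_zero, mul_one]
    rw [← mul_pow, ← mul_pow]
    exact Nat.pow_le_pow_left (Nat.mul_le_mul_left _ (Nat.le_add_right _ _)) _
  have hU : (0 : ℝ) < u := by exact_mod_cast hu
  have hV : (0 : ℝ) < v := by exact_mod_cast hv
  have hUV : (0 : ℝ) < (u : ℝ) + v := by positivity
  have hX : (0 : ℝ) ≤ x := by positivity
  have hY : (0 : ℝ) ≤ y := by positivity
  have h := Real.geom_mean_le_arith_mean2_weighted (w₁ := (u : ℝ) / (u + v)) (w₂ := (v : ℝ) / (u + v))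
    (p₁ := (x : ℝ) / u) (p₂ := (y : ℝ) / v) (by positivity) (by positivity) (by positivity)
    (by positivity) (by field_simp)
  have hr : (u : ℝ) / (u + v) * ((x : ℝ) / u) + (v : ℝ) / (u + v) * ((y : ℝ) / v)
      = ((x : ℝ) + y) / (u + v) := by
    field_simp
  rw [hr] at h
  have h2 := pow_le_pow_left₀ (by positivity) h (u + v)
  rw [mul_pow] at h2
  have e1 : (((x : ℝ) / u) ^ ((u : ℝ) / (u + v))) ^ (u + v) = ((x : ℝ) / u) ^ u := by
    rw [← Real.rpow_natCast, ← Real.rpow_mul (by positivity)]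
    have : (u : ℝ) / (u + v) * ((u + v : ℕ) : ℝ) = (u : ℝ) := by
      push_cast; field_simp
    rw [this, Real.rpow_natCast]
  have e2 : (((y : ℝ) / v) ^ ((v : ℝ) / (u + v))) ^ (u + v) = ((y : ℝ) / v) ^ v := by
    rw [← Real.rpow_natCast, ← Real.rpow_mul (by positivity)]
    have : (v : ℝ) / (u + v) * ((u + v : ℕ) : ℝ) = (v : ℝ) := by
      push_cast; field_simp
    rw [this, Real.rpow_natCast]
  rw [e1, e2, div_pow, div_pow, div_pow] at h2
  have h3 : ((u : ℝ) + v) ^ (u + v) * (x : ℝ) ^ u * (y : ℝ) ^ v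
      ≤ (u : ℝ) ^ u * (v : ℝ) ^ v * ((x : ℝ) + y) ^ (u + v) := by
    have hpu : (0 : ℝ) < (u : ℝ) ^ u := by positivity
    have hpv : (0 : ℝ) < (v : ℝ) ^ v := by positivity
    have hpuv : (0 : ℝ) < ((u : ℝ) + v) ^ (u + v) := by positivity
    rw [div_mul_div_comm, div_le_div_iff₀ (by positivity) hpuv] at h2
    linarith [h2]
  exact_mod_cast h3

theorem pow_self_le (v m : ℕ) (hv : 1 ≤ v) (hm : 2 ^ v ≤ m) : m * v ^ v ≤ m ^ v := by
  have h1 : v ≤ 2 ^ (v - 1) := by
    have := Nat.lt_two_pow_self (n := v - 1)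
    omega
  have h2 : v ^ v ≤ m ^ (v - 1) := by
    calc v ^ v = v ^ (v - 1) * v := by
          rw [← pow_succ]; congr 1; omega
      _ ≤ (2 ^ (v - 1)) ^ (v - 1) * 2 ^ (v - 1) := Nat.mul_le_mul (Nat.pow_le_pow_left h1 _) h1
      _ = (2 ^ v) ^ (v - 1) := by
          rw [← pow_succ, ← pow_mul, ← pow_mul]
          congr 1
          rcases v with _ | w
          · omega
          · simp; ring
      _ ≤ m ^ (v - 1) := Nat.pow_le_pow_left hm _
  calc m * v ^ v ≤ m * m ^ (v - 1) := Nat.mul_le_mul_left _ h2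
    _ = m ^ v := by
        rw [← pow_succ']; congr 1; omega

/-- the arithmetic step of the induction -/
theorem arith_step (c u v x m : ℕ) (hv : 1 ≤ v) (hm : 2 ^ v ≤ m)
    (ih : c * u ^ u ≤ x ^ u) : m * c * (u + v) ^ (u + v) ≤ (x + m) ^ (u + v) := by
  have hW := wamgm u v x m
  have hP := pow_self_le v m hv hm
  have hpos : 0 < u ^ u * v ^ v := by
    apply Nat.mul_pos
    · rcases Nat.eq_zero_or_pos u with h | h
      · subst h; simp
      · exact pow_pos h _
    · exact pow_pos (by omega) _
  apply Nat.le_of_mul_le_mul_left _ hpos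
  calc u ^ u * v ^ v * (m * c * (u + v) ^ (u + v))
      = (c * u ^ u) * (m * v ^ v) * (u + v) ^ (u + v) := by ring
    _ ≤ x ^ u * m ^ v * (u + v) ^ (u + v) :=
        Nat.mul_le_mul_right _ (Nat.mul_le_mul ih hP)
    _ = (u + v) ^ (u + v) * x ^ u * m ^ v := by ring
    _ ≤ u ^ u * v ^ v * (x + m) ^ (u + v) := hW


section perm

variable {Ω : Type*} [Fintype Ω] [DecidableEq Ω]

/-- the elements of order dividing `p` of an abelian group of permutations -/
def om (p : ℕ) (L : Subgroup (Equiv.Perm Ω)) (hab : ∀ a ∈ L, ∀ b ∈ L, a * b = b * a) :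
    Subgroup (Equiv.Perm Ω) where
  carrier := {g | g ∈ L ∧ g ^ p = 1}
  one_mem' := ⟨L.one_mem, one_pow _⟩
  mul_mem' := by
    rintro a b ⟨ha, ha'⟩ ⟨hb, hb'⟩
    refine ⟨L.mul_mem ha hb, ?_⟩
    have hc : Commute a b := hab a ha b hb
    rw [hc.mul_pow, ha', hb', one_mul]
  inv_mem' := by
    rintro a ⟨ha, ha'⟩
    exact ⟨L.inv_mem ha, by rw [inv_pow, ha', inv_one]⟩

theorem mem_om {p : ℕ} {L : Subgroup (Equiv.Perm Ω)} {hab : ∀ a ∈ L, ∀ b ∈ L, a * b = b * a}
    {g : Equiv.Perm Ω} : g ∈ om p L hab ↔ g ∈ L ∧ g ^ p = 1 := Iff.rfl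

theorem om_le {p : ℕ} {L : Subgroup (Equiv.Perm Ω)} {hab : ∀ a ∈ L, ∀ b ∈ L, a * b = b * a} :
    om p L hab ≤ L := fun _ hg => hg.1

/-- the orbit of a point under a subgroup, as a set -/
def orb (M : Subgroup (Equiv.Perm Ω)) (x : Ω) : Set Ω := {y | ∃ g ∈ M, g x = y}

/-- the stabilizer of a point in a subgroup -/
def stb (M : Subgroup (Equiv.Perm Ω)) (x : Ω) : Subgroup (Equiv.Perm Ω) :=
  M ⊓ MulAction.stabilizer (Equiv.Perm Ω) x

theorem mem_stb {M : Subgroup (Equiv.Perm Ω)} {x : Ω} {g : Equiv.Perm Ω} :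
    g ∈ stb M x ↔ g ∈ M ∧ g x = x := by
  unfold stb
  rw [Subgroup.mem_inf, MulAction.mem_stabilizer_iff, Equiv.Perm.smul_def]

/-- orbit–stabilizer for a subgroup of the symmetric group -/
theorem card_eq_orb_mul_stb (M : Subgroup (Equiv.Perm Ω)) (x : Ω) :
    Nat.card M = (orb M x).ncard * Nat.card (stb M x) := by
  have h1 := MulAction.index_stabilizer (↥M) x
  have h2 := Subgroup.card_mul_index (MulAction.stabilizer (↥M) x)
  have h3 : (MulAction.orbit (↥M) x) = orb M x := by
    ext y
    constructor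
    · rintro ⟨g, rfl⟩
      exact ⟨g.1, g.2, rfl⟩
    · rintro ⟨g, hg, rfl⟩
      exact ⟨⟨g, hg⟩, rfl⟩
  have h4 : Nat.card (MulAction.stabilizer (↥M) x) = Nat.card (stb M x) := by
    apply Nat.card_congr
    refine ⟨fun g => ⟨g.1.1, mem_stb.mpr ⟨g.1.2, ?_⟩⟩, fun g => ⟨⟨g.1, (mem_stb.mp g.2).1⟩, ?_⟩,
      fun _ => rfl, fun _ => rfl⟩
    · have := g.2
      rw [MulAction.mem_stabilizer_iff] at this
      exact this
    · rw [MulAction.mem_stabilizer_iff]
      exact (mem_stb.mp g.2).2
  rw [← h2, h1, h3, h4, mul_comm]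

theorem om_stb {p : ℕ} (L : Subgroup (Equiv.Perm Ω)) (hab : ∀ a ∈ L, ∀ b ∈ L, a * b = b * a) (x : Ω)
    (hab' : ∀ a ∈ stb L x, ∀ b ∈ stb L x, a * b = b * a) :
    om p (stb L x) hab' = stb (om p L hab) x := by
  ext g
  rw [mem_om, mem_stb, mem_stb, mem_om]
  tauto

/-- **Main induction.** -/
theorem main (p : ℕ) [hp : Fact p.Prime] : ∀ (N : ℕ) (L : Subgroup (Equiv.Perm Ω))
    (hab : ∀ a ∈ L, ∀ b ∈ L, a * b = b * a) (_ : IsPGroup p L) (D : Finset Ω)
    (_ : ∀ g ∈ L, ∀ x ∈ D, g x ∈ D) (_ : ∀ g ∈ L, (∀ x ∈ D, g x = x) → g = 1) (k : ℕ)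
    (_ : Nat.card (om p L hab) = p ^ k), Nat.card L ≤ N → Nat.card L * k ^ k ≤ D.card ^ k := by
  classical
  intro N
  induction N with
  | zero =>
    intro L _ _ _ _ _ _ _ hN
    have := Nat.card_pos (α := L)
    omega
  | succ N ih =>
    intro L hab hL D hinv hfaith k hk hN
    by_cases hbot : L = ⊥
    · subst hbot
      have h1 : om p (⊥ : Subgroup (Equiv.Perm Ω)) hab = ⊥ := le_bot_iff.mp om_le
      rw [h1, Subgroup.card_bot] at hk
      have hk0 : k = 0 := by
        by_contra hne
        have : 1 < p ^ k := Nat.one_lt_pow hne hp.out.one_lt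
        omega
      subst hk0
      simp
    · -- an element of order p
      obtain ⟨n, hn⟩ := hL.exists_card_eq
      have hn0 : n ≠ 0 := by
        intro h
        rw [h, pow_zero] at hn
        exact hbot (Subgroup.card_eq_one.mp hn)
      have hdvd : p ∣ Nat.card L := by
        rw [hn]; exact dvd_pow_self p hn0
      obtain ⟨s0, hs0⟩ := exists_prime_orderOf_dvd_card' p hdvd
      have hsL : (s0 : Equiv.Perm Ω) ∈ L := s0.2
      have hsp : (s0 : Equiv.Perm Ω) ^ p = 1 := by
        have := pow_orderOf_eq_one s0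
        rw [hs0] at this
        have h2 := congrArg (fun t : L => (t : Equiv.Perm Ω)) this
        simpa using h2
      have hs1 : (s0 : Equiv.Perm Ω) ≠ 1 := by
        intro h
        have : s0 = 1 := Subtype.ext h
        rw [this, orderOf_one] at hs0
        exact hp.out.one_lt.ne hs0
      -- a point moved by s
      have hx : ∃ x ∈ D, (s0 : Equiv.Perm Ω) x ≠ x := by
        by_contra hcon
        push Not at hcon
        exact hs1 (hfaith _ hsL hcon)
      obtain ⟨x, hxD, hsx⟩ := hx
      -- the orbit as a finset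
      have horbD : orb L x ⊆ (D : Set Ω) := by
        rintro y ⟨g, hg, rfl⟩
        exact hinv g hg x hxD
      let O : Finset Ω := D.filter (fun y => y ∈ orb L x)
      have hO : (O : Set Ω) = orb L x := by
        ext y
        simp only [O, Finset.coe_filter, Set.mem_ofPred_eq]
        constructor
        · exact fun h => h.2
        · exact fun h => ⟨horbD h, h⟩
      have hOD : O ⊆ D := Finset.filter_subset _ _
      have hOcard : (orb L x).ncard = O.card := by
        rw [← hO, Set.ncard_coe_finset]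
      have hcardL := card_eq_orb_mul_stb L x
      rw [hOcard] at hcardL
      -- the stabilizer
      have hL'le : stb L x ≤ L := inf_le_left
      have hab' : ∀ a ∈ stb L x, ∀ b ∈ stb L x, a * b = b * a :=
        fun a ha b hb => hab a (hL'le ha) b (hL'le hb)
      have hL' : IsPGroup p (stb L x) := hL.to_le hL'le
      have hsnot : (s0 : Equiv.Perm Ω) ∉ stb L x := fun h => hsx (mem_stb.mp h).2
      have hfix : ∀ g ∈ stb L x, ∀ y ∈ O, g y = y := by
        intro g hg y hy
        have hy' : y ∈ orb L x := by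
          rw [← hO]; exact hy
        obtain ⟨h, hh, rfl⟩ := hy'
        have hc := hab g (hL'le hg) h hh
        calc g (h x) = (g * h) x := rfl
          _ = (h * g) x := by rw [hc]
          _ = h (g x) := rfl
          _ = h x := by rw [(mem_stb.mp hg).2]
      have hinv' : ∀ g ∈ stb L x, ∀ y ∈ D \ O, g y ∈ D \ O := by
        intro g hg y hy
        rw [Finset.mem_sdiff] at hy ⊢
        refine ⟨hinv g (hL'le hg) y hy.1, ?_⟩
        intro hgy
        apply hy.2
        have h1 := hfix g⁻¹ (Subgroup.inv_mem _ hg) (g y) hgy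
        have h2 : g⁻¹ (g y) = y := by simp
        rw [h2] at h1
        rw [h1]
        exact hgy
      have hfaith' : ∀ g ∈ stb L x, (∀ y ∈ D \ O, g y = y) → g = 1 := by
        intro g hg hgD
        apply hfaith g (hL'le hg)
        intro y hy
        by_cases hyO : y ∈ O
        · exact hfix g hg y hyO
        · exact hgD y (Finset.mem_sdiff.mpr ⟨hy, hyO⟩)
      -- ranks
      have hom' : IsPGroup p (om p (stb L x) hab') := hL'.to_le om_le
      obtain ⟨k', hk'⟩ := hom'.exists_card_eq
      have homeq := om_stb (p := p) L hab x hab'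
      have hcardom := card_eq_orb_mul_stb (om p L hab) x
      rw [← homeq, hk, hk'] at hcardom
      have hsom : (s0 : Equiv.Perm Ω) ∈ om p L hab := ⟨hsL, hsp⟩
      have horb_om : (orb (om p L hab) x).ncard ≤ O.card := by
        rw [← hOcard]
        apply Set.ncard_le_ncard
        · rintro y ⟨g, hg, rfl⟩
          exact ⟨g, om_le hg, rfl⟩
        · exact Set.toFinite _
      have hkk' : k' < k := by
        by_contra hcon
        push Not at hcon
        -- then the orbit of x under om has one element, so s fixes x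
        have h1 : (orb (om p L hab) x).ncard = 1 := by
          have hpos : 0 < (orb (om p L hab) x).ncard := by
            rw [Set.ncard_pos (Set.toFinite _)]
            exact ⟨x, 1, Subgroup.one_mem _, rfl⟩
          have h2 : p ^ k ≤ p ^ k' := Nat.pow_le_pow_right hp.out.pos hcon
          have h3 : 0 < p ^ k' := pow_pos hp.out.pos _
          by_contra hne
          have h4 : 2 ≤ (orb (om p L hab) x).ncard := by omega
          have : 2 * p ^ k' ≤ (orb (om p L hab) x).ncard * p ^ k' := Nat.mul_le_mul_right _ h4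
          omega
        rw [Set.ncard_eq_one] at h1
        obtain ⟨a, ha⟩ := h1
        have hxa : x ∈ orb (om p L hab) x := ⟨1, Subgroup.one_mem _, rfl⟩
        have hsa : (s0 : Equiv.Perm Ω) x ∈ orb (om p L hab) x := ⟨_, hsom, rfl⟩
        rw [ha, Set.mem_singleton_iff] at hxa hsa
        exact hsx (by rw [hsa, hxa])
      obtain ⟨j, hj⟩ : ∃ j, k = k' + j := ⟨k - k', by omega⟩
      have hj1 : 1 ≤ j := by omega
      have horbeq : (orb (om p L hab) x).ncard = p ^ j := by
        rw [hj, pow_add] at hcardom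
        have h3 : 0 < p ^ k' := pow_pos hp.out.pos _
        have : (orb (om p L hab) x).ncard * p ^ k' = p ^ j * p ^ k' := by
          rw [← hcardom]; ring
        exact Nat.eq_of_mul_eq_mul_right h3 this
      have hm : 2 ^ j ≤ O.card := by
        calc 2 ^ j ≤ p ^ j := Nat.pow_le_pow_left hp.out.two_le _
          _ = (orb (om p L hab) x).ncard := horbeq.symm
          _ ≤ O.card := horb_om
      -- induction hypothesis
      have hlt : Nat.card (stb L x) < Nat.card L := by
        rw [hcardL]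
        have hpos : 0 < Nat.card (stb L x) := Nat.card_pos
        have : 2 ≤ O.card := le_trans (by
          calc 2 = 2 ^ 1 := by norm_num
            _ ≤ 2 ^ j := Nat.pow_le_pow_right (by norm_num) hj1) hm
        nlinarith
      have hIH := ih (stb L x) hab' hL' (D \ O) hinv' hfaith' k' hk' (by omega)
      have hDcard : D.card = (D \ O).card + O.card := (Finset.card_sdiff_add_card_eq_card hOD).symm
      have hfin := arith_step (Nat.card (stb L x)) k' j (D \ O).card O.card hj1 hm hIH
      rw [hcardL, hj, hDcard]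
      exact hfin

end perm

end Cfsg.Agent.helper6.AbPerm
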