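import Mathlib
import Cfsg.Agent.Lib_helper6_AbPerm

/-!
# Largest abelian subgroups of symmetric groups (helper6)

`f n` is the largest product of a partition of `n`; abelian subgroups of `Sym(n)` have order at
most `f n`, and the value is attained.
-/

set_option autoImplicit false

namespace Cfsg.Agent.helper6.AbSym

open Cfsg.Agent.helper6.AbPerm

/-- the largest product of the parts of a partition of `n` -/
def f : ℕ → ℕ
  | 0 => 1
  | 1 => 1
  | 2 => 2
  | 3 => 3
  | 4 => 4
  | (n + 5) => 3 * f (n + 2)

theorem f_add_five (n : ℕ) : f (n + 5) = 3 * f (n + 2) := rfl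

theorem f_mono_two : ∀ n, f n ≤ f (n + 1) ∧ 2 * f n ≤ f (n + 2)
  | 0 => by decide
  | 1 => by decide
  | 2 => by decide
  | 3 => by decide
  | 4 => by decide
  | (n + 5) => by
    have h := f_mono_two (n + 2)
    have e1 : f (n + 5 + 1) = 3 * f (n + 2 + 1) := f_add_five (n + 1)
    have e2 : f (n + 5 + 2) = 3 * f (n + 2 + 2) := f_add_five (n + 2)
    rw [e1, e2, f_add_five]
    omega

theorem f_three : ∀ n, 3 * f n ≤ f (n + 3)
  | 0 => by decide
  | 1 => by decide
  | (n + 2) => by
    have : f (n + 2 + 3) = 3 * f (n + 2) := f_add_five n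
    omega

theorem f_pos (n : ℕ) : 0 < f n := by
  induction n using Nat.strong_induction_on with
  | _ n ih =>
    match n with
    | 0 => decide
    | 1 => decide
    | 2 => decide
    | 3 => decide
    | 4 => decide
    | (k + 5) =>
      rw [f_add_five]
      have := ih (k + 2) (by omega)
      omega

/-- the key inequality -/
theorem mul_f_le (m : ℕ) : ∀ n, 1 ≤ m → m * f n ≤ f (m + n) := by
  induction m using Nat.strong_induction_on with
  | _ m ih =>
    intro n hm
    rcases Nat.lt_or_ge m 5 with h5 | h5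
    · interval_cases m
      · have := (f_mono_two n).1
        rw [one_mul, add_comm]; exact this
      · have := (f_mono_two n).2
        rw [add_comm]; exact this
      · have := f_three n
        rw [add_comm]; exact this
      · have h1 := (f_mono_two n).2
        have h2 := (f_mono_two (n + 2)).2
        have e : 4 + n = n + 2 + 2 := by ring
        rw [e]
        omega
    · have h1 := ih (m - 3) (by omega) n (by omega)
      have h2 := f_three (m - 3 + n)
      have e : m + n = m - 3 + n + 3 := by omega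
      rw [e]
      have h3 : m * f n ≤ 3 * ((m - 3) * f n) := by
        have : m ≤ 3 * (m - 3) := by omega
        calc m * f n ≤ 3 * (m - 3) * f n := Nat.mul_le_mul_right _ this
          _ = 3 * ((m - 3) * f n) := by ring
      omega

theorem f_three_mul (k : ℕ) (hk : 1 ≤ k) : f (3 * k) = 3 ^ k := by
  induction k with
  | zero => omega
  | succ k ih =>
    rcases Nat.eq_zero_or_pos k with h0 | hpos
    · subst h0; decide
    · obtain ⟨j, rfl⟩ : ∃ j, k = j + 1 := ⟨k - 1, by omega⟩
      have e : 3 * (j + 1 + 1) = (3 * j + 1) + 5 := by ring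
      rw [e, f_add_five]
      have e2 : 3 * j + 1 + 2 = 3 * (j + 1) := by ring
      rw [e2, ih (by omega), pow_succ]
      ring

theorem f_three_mul_add_one (k : ℕ) (hk : 1 ≤ k) : f (3 * k + 1) = 4 * 3 ^ (k - 1) := by
  induction k with
  | zero => omega
  | succ k ih =>
    rcases Nat.eq_zero_or_pos k with h0 | hpos
    · subst h0; decide
    · obtain ⟨j, rfl⟩ : ∃ j, k = j + 1 := ⟨k - 1, by omega⟩
      have e : 3 * (j + 1 + 1) + 1 = (3 * j + 2) + 5 := by ring
      rw [e, f_add_five]
      have e2 : 3 * j + 2 + 2 = 3 * (j + 1) + 1 := by ring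
      rw [e2, ih (by omega)]
      have e3 : j + 1 + 1 - 1 = (j + 1 - 1) + 1 := by omega
      rw [e3, pow_succ]
      ring

theorem f_three_mul_add_two (k : ℕ) : f (3 * k + 2) = 2 * 3 ^ k := by
  induction k with
  | zero => decide
  | succ k ih =>
    have e : 3 * (k + 1) + 2 = (3 * k) + 5 := by ring
    rw [e, f_add_five, ih, pow_succ]
    ring

section perm

variable {Ω : Type*} [Fintype Ω] [DecidableEq Ω]

/-- **Upper bound.** An abelian group of permutations acting faithfully on an invariant finite
set `D` has order at most `f |D|`. -/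
theorem bound : ∀ (N : ℕ) (L : Subgroup (Equiv.Perm Ω))
    (_ : ∀ a ∈ L, ∀ b ∈ L, a * b = b * a) (D : Finset Ω)
    (_ : ∀ g ∈ L, ∀ x ∈ D, g x ∈ D) (_ : ∀ g ∈ L, (∀ x ∈ D, g x = x) → g = 1),
    D.card ≤ N → Nat.card L ≤ f D.card := by
  classical
  intro N
  induction N with
  | zero =>
    intro L _ D _ hfaith hN
    have hD : D = ∅ := Finset.card_eq_zero.mp (by omega)
    subst hD
    have hbot : L = ⊥ := by
      rw [eq_bot_iff]
      intro g hg
      rw [Subgroup.mem_bot]
      exact hfaith g hg (by simp)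
    subst hbot
    simp [f]
  | succ N ih =>
    intro L hab D hinv hfaith hN
    rcases Finset.eq_empty_or_nonempty D with hD | ⟨x, hxD⟩
    · subst hD
      have hbot : L = ⊥ := by
        rw [eq_bot_iff]
        intro g hg
        rw [Subgroup.mem_bot]
        exact hfaith g hg (by simp)
      subst hbot
      simp [f]
    · have horbD : orb L x ⊆ (D : Set Ω) := by
        rintro y ⟨g, hg, rfl⟩
        exact hinv g hg x hxD
      let O : Finset Ω := D.filter (fun y => y ∈ orb L x)
      have hO : (O : Set Ω) = orb L x := by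
        ext y
        simp only [O, Finset.coe_filter, Set.mem_ofPred_eq]
        constructor
        · exact fun h => h.2
        · exact fun h => ⟨horbD h, h⟩
      have hOD : O ⊆ D := Finset.filter_subset _ _
      have hOcard : (orb L x).ncard = O.card := by
        rw [← hO, Set.ncard_coe_finset]
      have hxO : x ∈ O := by
        have : x ∈ (O : Set Ω) := by
          rw [hO]; exact ⟨1, Subgroup.one_mem _, rfl⟩
        exact this
      have hOpos : 1 ≤ O.card := Finset.card_pos.mpr ⟨x, hxO⟩
      have hcardL := card_eq_orb_mul_stb L x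
      rw [hOcard] at hcardL
      have hL'le : stb L x ≤ L := inf_le_left
      have hab' : ∀ a ∈ stb L x, ∀ b ∈ stb L x, a * b = b * a :=
        fun a ha b hb => hab a (hL'le ha) b (hL'le hb)
      have hfix : ∀ g ∈ stb L x, ∀ y ∈ O, g y = y := by
        intro g hg y hy
        have hy' : y ∈ orb L x := by
          rw [← hO]; exact hy
        obtain ⟨h, hh, rfl⟩ := hy'
        have hc := hab g (hL'le hg) h hh
        calc g (h x) = (g * h) x := rfl
          _ = (h * g) x := by rw [hc]
          _ = h (g x) := rfl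
          _ = h x := by rw [(mem_stb.mp hg).2]
      have hinv' : ∀ g ∈ stb L x, ∀ y ∈ D \ O, g y ∈ D \ O := by
        intro g hg y hy
        rw [Finset.mem_sdiff] at hy ⊢
        refine ⟨hinv g (hL'le hg) y hy.1, ?_⟩
        intro hgy
        apply hy.2
        have h1 := hfix g⁻¹ (Subgroup.inv_mem _ hg) (g y) hgy
        have h2 : g⁻¹ (g y) = y := by simp
        rw [h2] at h1
        rw [h1]
        exact hgy
      have hfaith' : ∀ g ∈ stb L x, (∀ y ∈ D \ O, g y = y) → g = 1 := by
        intro g hg hgD
        apply hfaith g (hL'le hg)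
        intro y hy
        by_cases hyO : y ∈ O
        · exact hfix g hg y hyO
        · exact hgD y (Finset.mem_sdiff.mpr ⟨hy, hyO⟩)
      have hDcard : D.card = (D \ O).card + O.card := (Finset.card_sdiff_add_card_eq_card hOD).symm
      have hIH := ih (stb L x) hab' (D \ O) hinv' hfaith' (by omega)
      have hkey := mul_f_le O.card (D \ O).card hOpos
      rw [hcardL, hDcard]
      calc O.card * Nat.card (stb L x) ≤ O.card * f (D \ O).card := Nat.mul_le_mul_left _ hIH
        _ ≤ f (O.card + (D \ O).card) := hkey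
        _ = f ((D \ O).card + O.card) := by rw [add_comm]

end perm

/-- bound for `Fin n` -/
theorem bound_fin (n : ℕ) (A : Subgroup (Equiv.Perm (Fin n))) (hab : IsMulCommutative A) :
    Nat.card A ≤ f n := by
  have hab' : ∀ a ∈ A, ∀ b ∈ A, a * b = b * a := by
    intro a ha b hb
    have h := hab.is_comm.comm (⟨a, ha⟩ : A) ⟨b, hb⟩
    exact congrArg Subtype.val h
  have h := bound (Finset.univ : Finset (Fin n)).card A hab' Finset.univ
    (fun _ _ _ _ => Finset.mem_univ _)
    (fun g _ hg => Equiv.ext fun x => by simpa using hg x (Finset.mem_univ x)) le_rfl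
  simpa [Finset.card_univ] using h

/-- achievable orders of abelian subgroups -/
def Ach (n c : ℕ) : Prop :=
  ∃ A : Subgroup (Equiv.Perm (Fin n)), IsMulCommutative A ∧ Nat.card A = c

theorem isMulCommutative_of_forall {G : Type*} [Group G] (A : Subgroup G)
    (h : ∀ a ∈ A, ∀ b ∈ A, a * b = b * a) : IsMulCommutative A :=
  ⟨⟨fun a b => Subtype.ext (h a.1 a.2 b.1 b.2)⟩⟩

theorem forall_of_isMulCommutative {G : Type*} [Group G] (A : Subgroup G)
    (hab : IsMulCommutative A) : ∀ a ∈ A, ∀ b ∈ A, a * b = b * a := by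
  intro a ha b hb
  have h := hab.is_comm.comm (⟨a, ha⟩ : A) ⟨b, hb⟩
  exact congrArg Subtype.val h

theorem ach_cycle (n : ℕ) : Ach (n + 2) (n + 2) := by
  refine ⟨Subgroup.zpowers (finRotate (n + 2)), ?_, ?_⟩
  · apply isMulCommutative_of_forall
    intro a ha b hb
    obtain ⟨i, rfl⟩ := Subgroup.mem_zpowers_iff.mp ha
    obtain ⟨j, rfl⟩ := Subgroup.mem_zpowers_iff.mp hb
    exact (Commute.zpow_zpow_self _ i j).eq
  · rw [Nat.card_zpowers, Equiv.Perm.IsCycle.orderOf isCycle_finRotate, support_finRotate,
      Finset.card_univ, Fintype.card_fin]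

theorem ach_cast {m n c : ℕ} (h : m = n) (hA : Ach m c) : Ach n c := by
  subst h; exact hA

theorem ach_add {m n a b : ℕ} (hA : Ach m a) (hB : Ach n b) : Ach (m + n) (a * b) := by
  obtain ⟨A, hAc, rfl⟩ := hA
  obtain ⟨B, hBc, rfl⟩ := hB
  have hA' := forall_of_isMulCommutative A hAc
  have hB' := forall_of_isMulCommutative B hBc
  let φ : Equiv.Perm (Fin m) × Equiv.Perm (Fin n) →* Equiv.Perm (Fin (m + n)) :=
    (finSumFinEquiv.permCongrHom.toMonoidHom).comp (Equiv.Perm.sumCongrHom (Fin m) (Fin n))
  have hφ : Function.Injective φ := by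
    intro x y hxy
    apply Equiv.Perm.sumCongrHom_injective
    exact finSumFinEquiv.permCongrHom.injective hxy
  refine ⟨(A.prod B).map φ, ?_, ?_⟩
  · apply isMulCommutative_of_forall
    rintro _ ⟨x, hx, rfl⟩ _ ⟨y, hy, rfl⟩
    rw [← map_mul, ← map_mul]
    congr 1
    have hx' := Subgroup.mem_prod.mp hx
    have hy' := Subgroup.mem_prod.mp hy
    apply Prod.ext
    · exact hA' _ hx'.1 _ hy'.1
    · exact hB' _ hx'.2 _ hy'.2
  · rw [Subgroup.card_map_of_injective hφ]
    rw [Nat.card_congr (Subgroup.prodEquiv A B).toEquiv, Nat.card_prod]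

theorem ach_three_mul (k : ℕ) (hk : 1 ≤ k) : Ach (3 * k) (3 ^ k) := by
  induction k with
  | zero => omega
  | succ k ih =>
    rcases Nat.eq_zero_or_pos k with h0 | hpos
    · subst h0; exact ach_cycle 1
    · have h := ach_add (ih hpos) (ach_cycle 1)
      have e1 : 3 * k + (1 + 2) = 3 * (k + 1) := by ring
      have e2 : 3 ^ k * (1 + 2) = 3 ^ (k + 1) := by rw [pow_succ]
      rw [e1, e2] at h
      exact h

theorem ach_three_mul_add_one (k : ℕ) (hk : 1 ≤ k) : Ach (3 * k + 1) (4 * 3 ^ (k - 1)) := by
  induction k with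
  | zero => omega
  | succ k ih =>
    rcases Nat.eq_zero_or_pos k with h0 | hpos
    · subst h0; exact ach_cycle 2
    · have h := ach_add (ih hpos) (ach_cycle 1)
      have e : k + 1 - 1 = (k - 1) + 1 := by omega
      have e1 : 3 * k + 1 + (1 + 2) = 3 * (k + 1) + 1 := by ring
      have e2 : 4 * 3 ^ (k - 1) * (1 + 2) = 4 * 3 ^ (k + 1 - 1) := by rw [e, pow_succ]; ring
      rw [e1, e2] at h
      exact h

theorem ach_three_mul_add_two (k : ℕ) : Ach (3 * k + 2) (2 * 3 ^ k) := by
  induction k with
  | zero => exact ach_cycle 0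
  | succ k ih =>
    have h := ach_add ih (ach_cycle 1)
    have e1 : 3 * k + 2 + (1 + 2) = 3 * (k + 1) + 2 := by ring
    have e2 : 2 * 3 ^ k * (1 + 2) = 2 * 3 ^ (k + 1) := by rw [pow_succ]; ring
    rw [e1, e2] at h
    exact h

end Cfsg.Agent.helper6.AbSym
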