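import Mathlib
import Cfsg.Agent.Lib_helper6_AbSym

/-!
# Largest abelian subgroups of alternating groups (helper6)
-/

set_option autoImplicit false

namespace Cfsg.Agent.helper6.AbAlt

open Cfsg.Agent.helper6.AbPerm Cfsg.Agent.helper6.AbSym

/-! ### numerics -/

theorem f_three_mul' (j : ℕ) : f (3 * j) = 3 ^ j := by
  rcases Nat.eq_zero_or_pos j with h | h
  · subst h; decide
  · exact f_three_mul j h

theorem f_three_mul_add_one' (j : ℕ) : f (3 * (j + 1) + 1) = 4 * 3 ^ j := by
  have := f_three_mul_add_one (j + 1) (by omega)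
  simpa using this

theorem num_one (k : ℕ) (hk : k % 3 = 1) : 9 * f k ≤ 8 * f (k + 1) := by
  obtain ⟨j, rfl⟩ : ∃ j, k = 3 * j + 1 := ⟨k / 3, by omega⟩
  rcases Nat.eq_zero_or_pos j with h | h
  · subst h; decide
  · obtain ⟨i, rfl⟩ : ∃ i, j = i + 1 := ⟨j - 1, by omega⟩
    have e : 3 * (i + 1) + 1 + 1 = 3 * (i + 1) + 2 := by ring
    rw [e, f_three_mul_add_one', f_three_mul_add_two, pow_succ]
    have : 0 < 3 ^ i := pow_pos (by norm_num) _
    nlinarith

theorem num_four (k : ℕ) (hk : k % 3 = 1) : 9 * 4 * f k ≤ 8 * f (4 + k) := by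
  obtain ⟨j, rfl⟩ : ∃ j, k = 3 * j + 1 := ⟨k / 3, by omega⟩
  rcases Nat.eq_zero_or_pos j with h | h
  · subst h; decide
  · obtain ⟨i, rfl⟩ : ∃ i, j = i + 1 := ⟨j - 1, by omega⟩
    have e : 4 + (3 * (i + 1) + 1) = 3 * (i + 2) + 2 := by ring
    rw [e, f_three_mul_add_one', f_three_mul_add_two, pow_succ, pow_succ]
    have : 0 < 3 ^ i := pow_pos (by norm_num) _
    nlinarith

theorem num_five (k : ℕ) (hk : k % 3 = 0) : 9 * 5 * f k ≤ 8 * f (5 + k) := by
  obtain ⟨j, rfl⟩ : ∃ j, k = 3 * j := ⟨k / 3, by omega⟩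
  have e : 5 + 3 * j = 3 * (j + 1) + 2 := by ring
  rw [e, f_three_mul', f_three_mul_add_two, pow_succ]
  have : 0 < 3 ^ j := pow_pos (by norm_num) _
  nlinarith

theorem num_two (k : ℕ) (hk : k % 3 = 0) : 9 * f k ≤ 8 * f (k + 2) := by
  obtain ⟨j, rfl⟩ : ∃ j, k = 3 * j := ⟨k / 3, by omega⟩
  rw [f_three_mul', f_three_mul_add_two]
  have : 0 < 3 ^ j := pow_pos (by norm_num) _
  nlinarith

theorem num_step (m k : ℕ) (hm : 2 ≤ m) (h : 9 * m * f k ≤ 8 * f (m + k)) :
    9 * (m + 3) * f k ≤ 8 * f (m + 3 + k) := by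
  have h3 := f_three (m + k)
  have e : m + 3 + k = m + k + 3 := by ring
  rw [e]
  have hpos := f_pos k
  have h1 : 9 * (m + 3) * f k ≤ 27 * m * f k := by
    have : 9 * (m + 3) ≤ 27 * m := by omega
    exact Nat.mul_le_mul_right _ this
  have h2 : 27 * m * f k = 3 * (9 * m * f k) := by ring
  omega

theorem num_main (m : ℕ) : ∀ k, (m + k) % 3 = 2 → m % 3 ≠ 0 → m ≠ 2 → 1 ≤ m →
    9 * m * f k ≤ 8 * f (m + k) := by
  induction m using Nat.strong_induction_on with
  | _ m ih =>
    intro k hmk hm3 hm2 hm1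
    rcases Nat.lt_or_ge m 6 with h6 | h6
    · interval_cases m
      · have := num_one k (by omega)
        rw [add_comm 1 k]
        omega
      · exact absurd rfl hm2
      · exact absurd rfl hm3
      · exact num_four k (by omega)
      · exact num_five k (by omega)
    · have h := ih (m - 3) (by omega) k (by omega) (by omega) (by omega) (by omega)
      have := num_step (m - 3) k (by omega) h
      have e : m - 3 + 3 = m := by omega
      rwa [e] at this

section perm

variable {Ω : Type*} [Fintype Ω] [DecidableEq Ω]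

/-- the orbit of a point as a finset, with orbit–stabilizer -/
theorem orbit_package (L : Subgroup (Equiv.Perm Ω)) (hab : ∀ a ∈ L, ∀ b ∈ L, a * b = b * a)
    (D : Finset Ω) (hinv : ∀ g ∈ L, ∀ x ∈ D, g x ∈ D) (x : Ω) (hxD : x ∈ D) :
    ∃ O : Finset Ω, O ⊆ D ∧ x ∈ O ∧ (∀ g ∈ L, ∀ y ∈ O, g y ∈ O) ∧
      Nat.card L = O.card * Nat.card (stb L x) ∧ (∀ g ∈ stb L x, ∀ y ∈ O, g y = y) := by
  classical
  have horbD : orb L x ⊆ (D : Set Ω) := by
    rintro y ⟨g, hg, rfl⟩
    exact hinv g hg x hxD
  let O : Finset Ω := D.filter (fun y => y ∈ orb L x)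
  have hO : (O : Set Ω) = orb L x := by
    ext y
    simp only [O, Finset.coe_filter, Set.mem_ofPred_eq]
    constructor
    · exact fun h => h.2
    · exact fun h => ⟨horbD h, h⟩
  have hmemO : ∀ y, y ∈ O ↔ y ∈ orb L x := by
    intro y
    rw [← hO]; rfl
  have hOcard : (orb L x).ncard = O.card := by
    rw [← hO, Set.ncard_coe_finset]
  refine ⟨O, Finset.filter_subset _ _, ?_, ?_, ?_, ?_⟩
  · rw [hmemO]; exact ⟨1, Subgroup.one_mem _, rfl⟩
  · intro g hg y hy
    rw [hmemO] at hy ⊢
    obtain ⟨h, hh, rfl⟩ := hy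
    exact ⟨g * h, Subgroup.mul_mem _ hg hh, rfl⟩
  · rw [← hOcard]; exact card_eq_orb_mul_stb L x
  · intro g hg y hy
    rw [hmemO] at hy
    obtain ⟨h, hh, rfl⟩ := hy
    have hgL : g ∈ L := (mem_stb.mp hg).1
    have hc := hab g hgL h hh
    calc g (h x) = (g * h) x := rfl
      _ = (h * g) x := by rw [hc]
      _ = h (g x) := rfl
      _ = h x := by rw [(mem_stb.mp hg).2]

/-- a permutation supported on a two-element set is trivial or odd -/
theorem eq_one_of_support_pair (g : Equiv.Perm Ω) (a b : Ω) (hab : a ≠ b)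
    (hsupp : ∀ z, z ≠ a → z ≠ b → g z = z) (hsign : Equiv.Perm.sign g = 1) : g = 1 := by
  have hga : g a = a ∨ g a = b := by
    by_contra hcon
    push Not at hcon
    have := hsupp (g a) hcon.1 hcon.2
    have h2 : g a = a := g.injective this
    exact hcon.1 h2
  have hgb : g b = a ∨ g b = b := by
    by_contra hcon
    push Not at hcon
    have := hsupp (g b) hcon.1 hcon.2
    have h2 : g b = b := g.injective this
    exact hcon.2 h2
  rcases hga with ha | ha
  · have hb : g b = b := by
      rcases hgb with hb | hb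
      · exact absurd (g.injective (ha.trans hb.symm)) hab
      · exact hb
    ext z
    by_cases hza : z = a
    · subst hza; simpa using ha
    · by_cases hzb : z = b
      · subst hzb; simpa using hb
      · simpa using hsupp z hza hzb
  · have hb : g b = a := by
      rcases hgb with hb | hb
      · exact hb
      · exact absurd (g.injective (ha.trans hb.symm)) hab
    have : g = Equiv.swap a b := by
      ext z
      by_cases hza : z = a
      · subst hza; rw [Equiv.swap_apply_left]; exact ha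
      · by_cases hzb : z = b
        · subst hzb; rw [Equiv.swap_apply_right]; exact hb
        · rw [Equiv.swap_apply_of_ne_of_ne hza hzb]; exact hsupp z hza hzb
    rw [this, Equiv.Perm.sign_swap hab] at hsign
    exact absurd hsign (by decide)

/-- **Refined bound** for abelian groups of even permutations on `n ≡ 2 (mod 3)` points. -/
theorem boundAlt : ∀ (N : ℕ) (L : Subgroup (Equiv.Perm Ω))
    (_ : ∀ a ∈ L, ∀ b ∈ L, a * b = b * a) (_ : ∀ g ∈ L, Equiv.Perm.sign g = 1) (D : Finset Ω)
    (_ : ∀ g ∈ L, ∀ x ∈ D, g x ∈ D) (_ : ∀ g ∈ L, ∀ x, x ∉ D → g x = x),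
    D.card ≤ N → D.card % 3 = 2 → 9 * Nat.card L ≤ 8 * f D.card := by
  classical
  intro N
  induction N with
  | zero =>
    intro L _ _ D _ _ hN h3
    omega
  | succ N ih =>
    intro L hab hsign D hinv hsupp hN h3
    have hDne : D.Nonempty := by
      rw [← Finset.card_pos]; omega
    obtain ⟨x, hxD⟩ := hDne
    obtain ⟨O, hOD, hxO, hOinv, hcardL, hfix⟩ := orbit_package L hab D hinv x hxD
    have hOpos : 1 ≤ O.card := Finset.card_pos.mpr ⟨x, hxO⟩
    have hDcard : D.card = (D \ O).card + O.card := (Finset.card_sdiff_add_card_eq_card hOD).symm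
    have hL'le : stb L x ≤ L := inf_le_left
    have hab' : ∀ a ∈ stb L x, ∀ b ∈ stb L x, a * b = b * a :=
      fun a ha b hb => hab a (hL'le ha) b (hL'le hb)
    -- invariance of `D \ O` under `L`
    have hinvL : ∀ g ∈ L, ∀ y ∈ D \ O, g y ∈ D \ O := by
      intro g hg y hy
      rw [Finset.mem_sdiff] at hy ⊢
      refine ⟨hinv g hg y hy.1, ?_⟩
      intro hgy
      apply hy.2
      have h1 := hOinv g⁻¹ (Subgroup.inv_mem _ hg) (g y) hgy
      have h2 : g⁻¹ (g y) = y := by simp
      rwa [h2] at h1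
    have hinv' : ∀ g ∈ stb L x, ∀ y ∈ D \ O, g y ∈ D \ O :=
      fun g hg => hinvL g (hL'le hg)
    have hsupp' : ∀ g ∈ stb L x, ∀ y, y ∉ D \ O → g y = y := by
      intro g hg y hy
      by_cases hyD : y ∈ D
      · have hyO : y ∈ O := by
          by_contra hcon
          exact hy (Finset.mem_sdiff.mpr ⟨hyD, hcon⟩)
        exact hfix g hg y hyO
      · exact hsupp g (hL'le hg) y hyD
    have hfaith' : ∀ g ∈ stb L x, (∀ y ∈ D \ O, g y = y) → g = 1 := by
      intro g hg hgD
      ext y
      by_cases hy : y ∈ D \ O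
      · simpa using hgD y hy
      · simpa using hsupp' g hg y hy
    by_cases hm3 : O.card % 3 = 0
    · -- induction hypothesis
      have hIH := ih (stb L x) hab' (fun g hg => hsign g (hL'le hg)) (D \ O) hinv' hsupp'
        (by omega) (by omega)
      have hkey := mul_f_le O.card (D \ O).card hOpos
      rw [hcardL, hDcard, add_comm (D \ O).card O.card]
      calc 9 * (O.card * Nat.card (stb L x)) = O.card * (9 * Nat.card (stb L x)) := by ring
        _ ≤ O.card * (8 * f (D \ O).card) := Nat.mul_le_mul_left _ hIH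
        _ = 8 * (O.card * f (D \ O).card) := by ring
        _ ≤ 8 * f (O.card + (D \ O).card) := Nat.mul_le_mul_left _ hkey
    · by_cases hm2 : O.card = 2
      · -- `L` acts faithfully on `D \ O`
        obtain ⟨a, b, hab2, hOab⟩ := Finset.card_eq_two.mp hm2
        have hfaithL : ∀ g ∈ L, (∀ y ∈ D \ O, g y = y) → g = 1 := by
          intro g hg hgD
          apply eq_one_of_support_pair g a b hab2 _ (hsign g hg)
          intro z hza hzb
          have hzO : z ∉ O := by
            rw [hOab]; simp [hza, hzb]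
          by_cases hzD : z ∈ D
          · exact hgD z (Finset.mem_sdiff.mpr ⟨hzD, hzO⟩)
          · exact hsupp g hg z hzD
        have hb := bound (D \ O).card L hab (D \ O) hinvL hfaithL le_rfl
        have hnum := num_two (D \ O).card (by omega)
        rw [hDcard, hm2]
        omega
      · have hb := bound (D \ O).card (stb L x) hab' (D \ O) hinv' hfaith' le_rfl
        have hnum := num_main O.card (D \ O).card (by omega) hm3 hm2 hOpos
        rw [hcardL, hDcard, add_comm (D \ O).card O.card]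
        calc 9 * (O.card * Nat.card (stb L x)) = 9 * O.card * Nat.card (stb L x) := by ring
          _ ≤ 9 * O.card * f (D \ O).card := Nat.mul_le_mul_left _ hb
          _ ≤ 8 * f (O.card + (D \ O).card) := hnum

end perm

/-- bound for subgroups of the alternating group of `Fin n`, `n ≡ 2 (mod 3)` -/
theorem boundAlt_fin (n : ℕ) (hn : n % 3 = 2) (A : Subgroup (alternatingGroup (Fin n)))
    (hab : IsMulCommutative A) : 9 * Nat.card A ≤ 8 * f n := by
  have hab0 := forall_of_isMulCommutative A hab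
  let L : Subgroup (Equiv.Perm (Fin n)) := A.map (alternatingGroup (Fin n)).subtype
  have hcard : Nat.card L = Nat.card A :=
    Subgroup.card_map_of_injective (Subgroup.subtype_injective _)
  have habL : ∀ a ∈ L, ∀ b ∈ L, a * b = b * a := by
    rintro _ ⟨x, hx, rfl⟩ _ ⟨y, hy, rfl⟩
    rw [← map_mul, ← map_mul, hab0 x hx y hy]
  have hsign : ∀ g ∈ L, Equiv.Perm.sign g = 1 := by
    rintro _ ⟨x, _, rfl⟩
    exact Equiv.Perm.mem_alternatingGroup.mp x.2
  have h := boundAlt (Finset.univ : Finset (Fin n)).card L habL hsign Finset.univ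
    (fun _ _ _ _ => Finset.mem_univ _) (fun _ _ x hx => absurd (Finset.mem_univ x) hx) le_rfl
    (by simpa [Finset.card_univ] using hn)
  rw [hcard] at h
  simpa [Finset.card_univ] using h

/-- plain bound for subgroups of the alternating group -/
theorem bound_alt_fin (n : ℕ) (A : Subgroup (alternatingGroup (Fin n)))
    (hab : IsMulCommutative A) : Nat.card A ≤ f n := by
  have hab0 := forall_of_isMulCommutative A hab
  let L : Subgroup (Equiv.Perm (Fin n)) := A.map (alternatingGroup (Fin n)).subtype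
  have hcard : Nat.card L = Nat.card A :=
    Subgroup.card_map_of_injective (Subgroup.subtype_injective _)
  have habL : ∀ a ∈ L, ∀ b ∈ L, a * b = b * a := by
    rintro _ ⟨x, hx, rfl⟩ _ ⟨y, hy, rfl⟩
    rw [← map_mul, ← map_mul, hab0 x hx y hy]
  have h := bound_fin n L (isMulCommutative_of_forall L habL)
  rwa [hcard] at h

/-! ### existence -/

/-- achievable orders of abelian subgroups of the alternating group -/
def AchA (n c : ℕ) : Prop :=
  ∃ A : Subgroup (Equiv.Perm (Fin n)), A ≤ alternatingGroup (Fin n) ∧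
    (∀ a ∈ A, ∀ b ∈ A, a * b = b * a) ∧ Nat.card A = c

theorem achA_to (n c : ℕ) (h : AchA n c) :
    ∃ A : Subgroup (alternatingGroup (Fin n)), IsMulCommutative A ∧ Nat.card A = c := by
  obtain ⟨L, hLe, hab, hcard⟩ := h
  refine ⟨L.subgroupOf (alternatingGroup (Fin n)), ?_, ?_⟩
  · apply isMulCommutative_of_forall
    intro a ha b hb
    apply Subtype.ext
    exact hab a.1 (Subgroup.mem_subgroupOf.mp ha) b.1 (Subgroup.mem_subgroupOf.mp hb)
  · rw [← hcard]
    exact Nat.card_congr (Subgroup.subgroupOfEquivOfLe hLe).toEquiv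

theorem achA_three : AchA 3 3 := by
  refine ⟨Subgroup.zpowers (finRotate 3), ?_, ?_, ?_⟩
  · rw [Subgroup.zpowers_le, Equiv.Perm.mem_alternatingGroup, sign_finRotate]
    norm_num
  · intro a ha b hb
    obtain ⟨i, rfl⟩ := Subgroup.mem_zpowers_iff.mp ha
    obtain ⟨j, rfl⟩ := Subgroup.mem_zpowers_iff.mp hb
    exact (Commute.zpow_zpow_self _ i j).eq
  · rw [Nat.card_zpowers, Equiv.Perm.IsCycle.orderOf (isCycle_finRotate (n := 1)),
      support_finRotate, Finset.card_univ, Fintype.card_fin]

/-- the Klein four-group -/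
def kleinFour : Subgroup (Equiv.Perm (Fin 4)) where
  carrier := {g | g = 1 ∨ g = Equiv.swap 0 1 * Equiv.swap 2 3 ∨ g = Equiv.swap 0 2 * Equiv.swap 1 3 ∨
    g = Equiv.swap 0 3 * Equiv.swap 1 2}
  one_mem' := Or.inl rfl
  mul_mem' := by
    rintro x y (rfl | rfl | rfl | rfl) (rfl | rfl | rfl | rfl) <;> decide
  inv_mem' := by
    rintro x (rfl | rfl | rfl | rfl) <;> decide

theorem mem_kleinFour (g : Equiv.Perm (Fin 4)) : g ∈ kleinFour ↔
    g = 1 ∨ g = Equiv.swap 0 1 * Equiv.swap 2 3 ∨ g = Equiv.swap 0 2 * Equiv.swap 1 3 ∨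
    g = Equiv.swap 0 3 * Equiv.swap 1 2 := Iff.rfl

theorem achA_four : AchA 4 4 := by
  refine ⟨kleinFour, ?_, ?_, ?_⟩
  · intro g hg
    rw [Equiv.Perm.mem_alternatingGroup]
    rcases (mem_kleinFour g).mp hg with rfl | rfl | rfl | rfl <;> decide
  · intro a ha b hb
    rcases (mem_kleinFour a).mp ha with rfl | rfl | rfl | rfl <;>
    rcases (mem_kleinFour b).mp hb with rfl | rfl | rfl | rfl <;> decide
  · have hset : (kleinFour : Set (Equiv.Perm (Fin 4))) =
        ((({1, Equiv.swap 0 1 * Equiv.swap 2 3, Equiv.swap 0 2 * Equiv.swap 1 3,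
          Equiv.swap 0 3 * Equiv.swap 1 2} : Finset (Equiv.Perm (Fin 4))) : Set _)) := by
      ext g
      simp only [SetLike.mem_coe, mem_kleinFour, Finset.coe_insert, Finset.coe_singleton,
        Set.mem_insert_iff, Set.mem_singleton_iff]
    have h1 : Nat.card kleinFour = (kleinFour : Set (Equiv.Perm (Fin 4))).ncard :=
      (Nat.card_coe_set_eq _)
    rw [h1, hset, Set.ncard_coe_finset]
    decide

theorem achA_cast {m n c : ℕ} (h : m = n) (hA : AchA m c) : AchA n c := by
  subst h; exact hA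

theorem achA_add {m n a b : ℕ} (hA : AchA m a) (hB : AchA n b) : AchA (m + n) (a * b) := by
  obtain ⟨A, hAe, hA', rfl⟩ := hA
  obtain ⟨B, hBe, hB', rfl⟩ := hB
  let φ : Equiv.Perm (Fin m) × Equiv.Perm (Fin n) →* Equiv.Perm (Fin (m + n)) :=
    (finSumFinEquiv.permCongrHom.toMonoidHom).comp (Equiv.Perm.sumCongrHom (Fin m) (Fin n))
  have hφ : Function.Injective φ := by
    intro x y hxy
    apply Equiv.Perm.sumCongrHom_injective
    exact finSumFinEquiv.permCongrHom.injective hxy
  refine ⟨(A.prod B).map φ, ?_, ?_, ?_⟩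
  · rintro _ ⟨x, hx, rfl⟩
    have hx' := Subgroup.mem_prod.mp hx
    rw [Equiv.Perm.mem_alternatingGroup]
    have h1 : φ x = finSumFinEquiv.permCongr (Equiv.Perm.sumCongr x.1 x.2) := rfl
    rw [h1, Equiv.Perm.sign_permCongr, Equiv.Perm.sign_sumCongr,
      Equiv.Perm.mem_alternatingGroup.mp (hAe hx'.1), Equiv.Perm.mem_alternatingGroup.mp (hBe hx'.2),
      one_mul]
  · rintro _ ⟨x, hx, rfl⟩ _ ⟨y, hy, rfl⟩
    rw [← map_mul, ← map_mul]
    congr 1
    have hx' := Subgroup.mem_prod.mp hx
    have hy' := Subgroup.mem_prod.mp hy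
    apply Prod.ext
    · exact hA' _ hx'.1 _ hy'.1
    · exact hB' _ hx'.2 _ hy'.2
  · rw [Subgroup.card_map_of_injective hφ]
    rw [Nat.card_congr (Subgroup.prodEquiv A B).toEquiv, Nat.card_prod]

theorem achA_three_mul (k : ℕ) (hk : 1 ≤ k) : AchA (3 * k) (3 ^ k) := by
  induction k with
  | zero => omega
  | succ k ih =>
    rcases Nat.eq_zero_or_pos k with h0 | hpos
    · subst h0; exact achA_three
    · have h := achA_add (ih hpos) achA_three
      have e1 : 3 * k + 3 = 3 * (k + 1) := by ring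
      have e2 : 3 ^ k * 3 = 3 ^ (k + 1) := by rw [pow_succ]
      rw [e1, e2] at h
      exact h

theorem achA_three_mul_add_one (k : ℕ) (hk : 1 ≤ k) : AchA (3 * k + 1) (4 * 3 ^ (k - 1)) := by
  induction k with
  | zero => omega
  | succ k ih =>
    rcases Nat.eq_zero_or_pos k with h0 | hpos
    · subst h0; exact achA_four
    · have h := achA_add (ih hpos) achA_three
      have e : k + 1 - 1 = (k - 1) + 1 := by omega
      have e1 : 3 * k + 1 + 3 = 3 * (k + 1) + 1 := by ring
      have e2 : 4 * 3 ^ (k - 1) * 3 = 4 * 3 ^ (k + 1 - 1) := by rw [e, pow_succ]; ring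
      rw [e1, e2] at h
      exact h

theorem achA_three_mul_add_two (k : ℕ) (hk : 2 ≤ k) : AchA (3 * k + 2) (16 * 3 ^ (k - 2)) := by
  induction k with
  | zero => omega
  | succ k ih =>
    rcases Nat.lt_or_ge k 2 with h2 | h2
    · have hk1 : k = 1 := by omega
      subst hk1
      have h := achA_add achA_four achA_four
      exact h
    · have h := achA_add (ih h2) achA_three
      have e : k + 1 - 2 = (k - 2) + 1 := by omega
      have e1 : 3 * k + 2 + 3 = 3 * (k + 1) + 2 := by ring
      have e2 : 16 * 3 ^ (k - 2) * 3 = 16 * 3 ^ (k + 1 - 2) := by rw [e, pow_succ]; ring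
      rw [e1, e2] at h
      exact h

end Cfsg.Agent.helper6.AbAlt
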