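import Mathlib

set_option autoImplicit false
set_option linter.unusedSectionVars false

namespace Cfsg.Agent.helper6.CHM

open Subgroup

/-- Two finite types with equinumerous fibres over a common base are equivalent over the base. -/
theorem exists_equiv_of_fiber_card {α β γ : Type*} [Finite α] [Finite β] (f : α → γ) (g : β → γ)
    (h : ∀ c, Nat.card {a // f a = c} = Nat.card {b // g b = c}) :
    ∃ e : α ≃ β, ∀ a, g (e a) = f a := by
  classical
  have hε : ∀ c, Nonempty ({a // f a = c} ≃ {b // g b = c}) := fun c => Finite.card_eq.mp (h c)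
  let ε : ∀ c, {a // f a = c} ≃ {b // g b = c} := fun c => Classical.choice (hε c)
  refine ⟨(Equiv.sigmaFiberEquiv f).symm.trans
    ((Equiv.sigmaCongrRight ε).trans (Equiv.sigmaFiberEquiv g)), ?_⟩
  intro a
  simp only [Equiv.trans_apply, Equiv.sigmaFiberEquiv, Equiv.coe_fn_symm_mk, Equiv.coe_fn_mk,
    Equiv.sigmaCongrRight_apply]
  exact (ε (f a) ⟨a, rfl⟩).2

/-- class size of an element -/
noncomputable def cs {X : Type*} [Group X] (x : X) : ℕ := Nat.card (ConjClasses.mk x).carrier

theorem cs_eq_index {X : Type*} [Group X] [Finite X] (x : X) :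
    cs x = (centralizer ({x} : Set X)).index := by
  unfold cs
  rw [← ConjAct.orbit_eq_carrier_conjClasses]
  have h1 : Nat.card (MulAction.orbit (ConjAct X) x) =
      (MulAction.stabilizer (ConjAct X) x).index := by
    rw [Subgroup.index_eq_card]
    exact Nat.card_congr (MulAction.orbitEquivQuotientStabilizer (ConjAct X) x)
  have h2 := Subgroup.card_mul_index (MulAction.stabilizer (ConjAct X) x)
  have h3 := Subgroup.card_mul_index (Subgroup.centralizer ({x} : Set X))
  have h4 := Subgroup.nat_card_centralizer_nat_card_stabilizer x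
  have h5 : Nat.card (ConjAct X) = Nat.card X := rfl
  rw [h1]
  rw [h5, ← h4] at h2
  have hpos : 0 < Nat.card (Subgroup.centralizer ({x} : Set X)) := Nat.card_pos
  exact Nat.eq_of_mul_eq_mul_left hpos (h2.trans h3.symm)

theorem card_fiber_mk {Y : Type*} [Group Y] (C : ConjClasses Y) :
    Nat.card {y : Y // ConjClasses.mk y = C} = Nat.card C.carrier :=
  Nat.card_congr (Equiv.subtypeEquivRight
    (fun y => (ConjClasses.mem_carrier_iff_mk_eq (a := y) (b := C)).symm))

/-- Same class-size statistics give a class-size preserving bijection of the groups. -/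
theorem exists_equiv_cs {G H : Type*} [Group G] [Finite G] [Group H] [Finite H]
    (h : ∀ k : ℕ, Nat.card {C : ConjClasses G // Nat.card C.carrier = k} =
      Nat.card {C : ConjClasses H // Nat.card C.carrier = k}) :
    ∃ e : G ≃ H, ∀ x, cs (e x) = cs x := by
  classical
  obtain ⟨ec, hec⟩ := exists_equiv_of_fiber_card
    (fun C : ConjClasses G => Nat.card C.carrier) (fun C : ConjClasses H => Nat.card C.carrier) h
  obtain ⟨e, he⟩ := exists_equiv_of_fiber_card
    (fun x : G => ec (ConjClasses.mk x)) (fun y : H => ConjClasses.mk y) (by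
      intro C'
      have h1 : Nat.card {a : G // ec (ConjClasses.mk a) = C'} =
          Nat.card {a : G // ConjClasses.mk a = ec.symm C'} := by
        refine Nat.card_congr (Equiv.subtypeEquivRight fun a => ?_)
        rw [Equiv.eq_symm_apply]
      rw [h1, card_fiber_mk, card_fiber_mk, ← hec (ec.symm C'), Equiv.apply_symm_apply])
  refine ⟨e, fun x => ?_⟩
  unfold cs
  rw [he x, hec]


section general
variable {X : Type*} [Group X] [Finite X] (p : ℕ) [Fact p.Prime]

/-- number of Sylow `p`-subgroups centralized by `x` -/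
noncomputable def sCount (x : X) : ℕ :=
  Nat.card {S : Sylow p X // x ∈ centralizer (S : Set X)}

theorem sCount_mul_central (x z : X) (hz : z ∈ center X) : sCount p (x * z) = sCount p x := by
  unfold sCount
  refine Nat.card_congr (Equiv.subtypeEquivRight fun S => ?_)
  have hzS : z ∈ centralizer (S : Set X) := center_le_centralizer _ hz
  exact (centralizer (S : Set X)).mul_mem_cancel_right hzS

theorem sCount_one : sCount p (1 : X) = Nat.card (Sylow p X) := by
  unfold sCount
  exact Nat.card_congr (Equiv.subtypeUnivEquiv fun S => one_mem _)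

theorem sCount_ne_zero_iff (x : X) :
    sCount p x ≠ 0 ↔ ∃ S : Sylow p X, x ∈ centralizer (S : Set X) := by
  unfold sCount
  rw [Nat.card_ne_zero]
  constructor
  · rintro ⟨⟨S, hS⟩, _⟩; exact ⟨S, hS⟩
  · rintro ⟨S, hS⟩; exact ⟨⟨⟨S, hS⟩⟩, inferInstance⟩

theorem mem_centralizer_smul {x g : X} {S : Sylow p X} (hx : x ∈ centralizer (S : Set X)) :
    g * x * g⁻¹ ∈ centralizer ((g • S : Sylow p X) : Set X) := by
  rw [mem_centralizer_iff]
  intro y hy
  rw [Sylow.coe_smul, Set.mem_smul_set] at hy
  obtain ⟨h, hh, rfl⟩ := hy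
  have hhx : h * x = x * h := mem_centralizer_iff.mp hx h hh
  simp only [MulAut.smul_def, MulAut.conj_apply]
  calc g * h * g⁻¹ * (g * x * g⁻¹) = g * (h * x) * g⁻¹ := by group
    _ = g * (x * h) * g⁻¹ := by rw [hhx]
    _ = g * x * g⁻¹ * (g * h * g⁻¹) := by group

theorem card_centralizer_smul (g : X) (S : Sylow p X) :
    Nat.card (centralizer ((g • S : Sylow p X) : Set X)) = Nat.card (centralizer (S : Set X)) := by
  symm
  refine Nat.card_congr ((MulAut.conj g).toEquiv.subtypeEquiv fun x => ?_)
  constructor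
  · intro hx
    exact mem_centralizer_smul p hx
  · intro hx
    have h := mem_centralizer_smul p (g := g⁻¹) hx
    rw [inv_smul_smul] at h
    simpa [MulAut.conj_apply, mul_assoc] using h

theorem sCount_modEq_one (x : X) (hx : sCount p x ≠ 0) : sCount p x ≡ 1 [MOD p] := by
  obtain ⟨S₀, hS₀⟩ := (sCount_ne_zero_iff p x).mp hx
  let A : SubMulAction (↥(S₀ : Subgroup X)) (Sylow p X) :=
    { carrier := {S | x ∈ centralizer (S : Set X)}
      smul_mem' := by
        intro g S hS
        have hgx : (g : X) * x = x * g := mem_centralizer_iff.mp hS₀ g g.2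
        have h1 := mem_centralizer_smul p (g := (g : X)) hS
        have h2 : (g : X) * x * (g : X)⁻¹ = x := by rw [hgx]; group
        rw [h2] at h1
        exact h1 }
  have hp : IsPGroup p (↥(S₀ : Subgroup X)) := S₀.isPGroup'
  have hmod := hp.card_modEq_card_fixedPoints (↥A)
  have hA : Nat.card (↥A) = sCount p x := rfl
  have hfix : Nat.card (MulAction.fixedPoints (↥(S₀ : Subgroup X)) (↥A)) = 1 := by
    have key : ∀ a : ↥A, a ∈ MulAction.fixedPoints (↥(S₀ : Subgroup X)) (↥A) → (a : Sylow p X) = S₀ := by
      intro a ha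
      have h1 : (a : Sylow p X) ∈ MulAction.fixedPoints (↥(S₀ : Subgroup X)) (Sylow p X) := by
        intro g
        have := ha g
        exact congrArg Subtype.val this
      have h2 : (S₀ : Subgroup X) ≤ (a : Sylow p X) := S₀.isPGroup'.sylow_mem_fixedPoints_iff.mp h1
      exact Sylow.ext (S₀.is_maximal' (a : Sylow p X).isPGroup' h2)
    have hmem : (⟨S₀, hS₀⟩ : ↥A) ∈ MulAction.fixedPoints (↥(S₀ : Subgroup X)) (↥A) := by
      intro g
      apply Subtype.ext
      show (g : X) • S₀ = S₀
      rw [Sylow.smul_eq_iff_mem_normalizer]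
      exact le_normalizer g.2
    rw [Nat.card_eq_one_iff_unique]
    refine ⟨⟨?_⟩, ⟨⟨⟨S₀, hS₀⟩, hmem⟩⟩⟩
    rintro ⟨a, ha⟩ ⟨b, hb⟩
    apply Subtype.ext
    apply Subtype.ext
    rw [key a ha, key b hb]
  rw [hA, hfix] at hmod
  exact hmod

end general


section sums
variable {X : Type*} [Group X] [Fintype X] (p : ℕ) [Fact p.Prime]

theorem sum_sCount (P : Sylow p X) :
    ∑ x : X, sCount p x = Nat.card (Sylow p X) * Nat.card (centralizer (P : Set X)) := by
  classical
  haveI : Fintype (Sylow p X) := Fintype.ofFinite _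
  have h1 : ∑ x : X, sCount p x =
      Nat.card (Σ x : X, {S : Sylow p X // x ∈ centralizer (S : Set X)}) := (Nat.card_sigma).symm
  have h2 : Nat.card (Σ S : Sylow p X, {x : X // x ∈ centralizer (S : Set X)}) =
      ∑ S : Sylow p X, Nat.card {x : X // x ∈ centralizer (S : Set X)} := Nat.card_sigma
  have h3 : (Σ x : X, {S : Sylow p X // x ∈ centralizer (S : Set X)}) ≃
      (Σ S : Sylow p X, {x : X // x ∈ centralizer (S : Set X)}) :=
    (Equiv.subtypeProdEquivSigmaSubtype
      (fun (x : X) (S : Sylow p X) => x ∈ centralizer (S : Set X))).symm.trans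
      (((Equiv.prodComm X (Sylow p X)).subtypeEquiv (fun _ => Iff.rfl)).trans
        (Equiv.subtypeProdEquivSigmaSubtype
          (fun (S : Sylow p X) (x : X) => x ∈ centralizer (S : Set X))))
  rw [h1, Nat.card_congr h3, h2]
  have h4 : ∀ S : Sylow p X, Nat.card {x : X // x ∈ centralizer (S : Set X)} =
      Nat.card (centralizer (P : Set X)) := by
    intro S
    obtain ⟨g, rfl⟩ := MulAction.exists_smul_eq X P S
    exact card_centralizer_smul p g P
  rw [Finset.sum_congr rfl (fun S _ => h4 S), Finset.sum_const, Finset.card_univ,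
    Nat.card_eq_fintype_card (α := Sylow p X), smul_eq_mul]

theorem dvd_sum_sub :
    ((p * Nat.card (center X) : ℕ) : ℤ) ∣
      ∑ x : X, ((sCount p x : ℤ) - (if sCount p x = 0 then 0 else 1)) := by
  classical
  let F : X → ℤ := fun x => (sCount p x : ℤ) - (if sCount p x = 0 then 0 else 1)
  have hF_dvd : ∀ x, (p : ℤ) ∣ F x := by
    intro x
    by_cases h0 : sCount p x = 0
    · simp [F, h0]
    · have := sCount_modEq_one p x h0
      simp only [F, if_neg h0]
      have h := (Nat.modEq_iff_dvd.mp this.symm)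
      simpa using h
  have hF_inv : ∀ (x : X) (z : center X), F (x * z) = F x := by
    intro x z; simp only [F, sCount_mul_central p x z z.2]
  let φ : (X ⧸ center X) × center X → X := fun qz => qz.1.out * qz.2
  have hφ : Function.Bijective φ := by
    constructor
    · rintro ⟨q, z⟩ ⟨q', z'⟩ h
      simp only [φ] at h
      have hq : q = q' := by
        have h1 := congrArg (QuotientGroup.mk : X → X ⧸ center X) h
        simp only [QuotientGroup.mk_mul, QuotientGroup.out_eq'] at h1
        rw [(QuotientGroup.eq_one_iff (z : X)).mpr z.2,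
          (QuotientGroup.eq_one_iff (z' : X)).mpr z'.2, mul_one, mul_one] at h1
        exact h1
      subst hq
      have hz : (z : X) = z' := mul_left_cancel h
      rw [Subtype.ext hz]
    · intro x
      have hmem : ((QuotientGroup.mk x : X ⧸ center X).out)⁻¹ * x ∈ center X := by
        rw [← QuotientGroup.eq]
        exact QuotientGroup.out_eq' _
      refine ⟨(QuotientGroup.mk x, ⟨_, hmem⟩), ?_⟩
      simp only [φ]
      rw [mul_inv_cancel_left]
  haveI : Fintype (X ⧸ center X) := Fintype.ofFinite _
  haveI : Fintype (center X) := Fintype.ofFinite _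
  have hsum : ∑ x : X, F x = ∑ qz : (X ⧸ center X) × center X, F (φ qz) :=
    (Fintype.sum_bijective φ hφ _ _ (fun _ => rfl)).symm
  change _ ∣ ∑ x : X, F x
  rw [hsum, Fintype.sum_prod_type]
  apply Finset.dvd_sum
  intro q _
  have : ∑ z : center X, F (φ (q, z)) = (Nat.card (center X) : ℤ) * F q.out := by
    simp only [φ, hF_inv, Finset.sum_const, Finset.card_univ, nsmul_eq_mul,
      Nat.card_eq_fintype_card]
  rw [this]
  push_cast
  rw [mul_comm (p : ℤ)]
  exact mul_dvd_mul_left _ (hF_dvd _)

end sums

theorem card_eq_inf_mul_relIndex {X : Type*} [Group X] (P C : Subgroup X) :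
    Nat.card C = Nat.card ↥(P ⊓ C) * P.relIndex C := by
  have h1 := Subgroup.card_mul_index (P.subgroupOf C)
  have h2 : Nat.card (P.subgroupOf C) = Nat.card ↥(P ⊓ C) := by
    rw [← inf_subgroupOf_right]
    exact Nat.card_congr (subgroupOfEquivOfLe inf_le_right).toEquiv
  rw [← h1, h2]; rfl


section mainlemma
variable {X : Type*} [Group X] [Fintype X] (p : ℕ) [Fact p.Prime]

theorem card_sylow_eq_one_of_good (P : Sylow p X)
    (hgood : Nat.card {x : X // sCount p x ≠ 0} * p ^ (Nat.card X).factorization p =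
      p ^ (Nat.card (center X)).factorization p * Nat.card X) :
    Nat.card (Sylow p X) = 1 := by
  classical
  have hp : p.Prime := Fact.out
  set ζ := Nat.card (center X) with hζ
  set N := Nat.card X with hN
  set v := ζ.factorization p with hv
  set t := Nat.card {x : X // sCount p x ≠ 0} with ht
  set C := centralizer ((P : Subgroup X) : Set X) with hC
  set c := Nat.card C with hc
  set n := Nat.card (Sylow p X) with hn
  set i := (P : Subgroup X).index with hi
  have hζpos : 0 < ζ := Nat.card_pos
  have hPcard : Nat.card P = p ^ N.factorization p := P.card_eq_multiplicity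
  have hPi : Nat.card P * i = N := (P : Subgroup X).card_mul_index
  have hpi : ¬ p ∣ i := P.not_dvd_index
  have hPpos : 0 < Nat.card P := Nat.card_pos
  have ht_eq : t = p ^ v * i := by
    have h1 : t * Nat.card P = p ^ v * (Nat.card P * i) := by rw [hPi, hPcard]; exact hgood
    apply Nat.eq_of_mul_eq_mul_right hPpos
    rw [h1]; ring
  have hsum1 : ∑ x : X, sCount p x = n * c := sum_sCount p P
  have hsum2 : ∑ x : X, (if sCount p x = 0 then 0 else 1) = t := by
    rw [ht, Nat.card_eq_fintype_card, Fintype.card_subtype, Finset.card_filter]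
    apply Finset.sum_congr rfl
    intro x _
    by_cases h : sCount p x = 0 <;> simp [h]
  have hsumZ : ∑ x : X, ((sCount p x : ℤ) - (if sCount p x = 0 then 0 else 1)) =
      ((n * c : ℕ) : ℤ) - (t : ℤ) := by
    rw [Finset.sum_sub_distrib, ← hsum1, ← hsum2]
    push_cast
    rfl
  have hdvd : ((p * ζ : ℕ) : ℤ) ∣ ((n * c : ℕ) : ℤ) - (t : ℤ) := by
    rw [← hsumZ]; exact dvd_sum_sub p
  -- ζ ∣ c
  obtain ⟨c', hc'⟩ : ζ ∣ c := Subgroup.card_dvd_of_le (center_le_centralizer _)
  -- ζ ∣ t
  have hζt : ζ ∣ t := by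
    have h1 : (ζ : ℤ) ∣ ((n * c : ℕ) : ℤ) - (t : ℤ) :=
      dvd_trans ⟨(p : ℤ), by push_cast; ring⟩ hdvd
    have h2 : (ζ : ℤ) ∣ ((n * c : ℕ) : ℤ) := by
      rw [hc']; exact ⟨(n * c' : ℕ), by push_cast; ring⟩
    have h3 := dvd_sub h2 h1
    rw [sub_sub_cancel] at h3
    exact Int.natCast_dvd_natCast.mp h3
  obtain ⟨t', ht'⟩ := hζt
  have hpt' : ¬ p ∣ t' := by
    rintro ⟨t'', rfl⟩
    have h1 : p ^ v * p ∣ p ^ v * i := by
      rw [← ht_eq, ht']
      have h2 : p ^ v ∣ ζ := Nat.ordProj_dvd ζ p
      obtain ⟨ζ', hζ'⟩ := h2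
      exact ⟨ζ' * t'', by rw [hζ']; ring⟩
    exact hpi (Nat.dvd_of_mul_dvd_mul_left (pow_pos hp.pos v) h1)
  have hpc' : ¬ p ∣ c' := by
    intro hpc
    have h1 : ((p * ζ : ℕ) : ℤ) ∣ (ζ : ℤ) * ((n * c' : ℕ) - (t' : ℤ)) := by
      have : ((n * c : ℕ) : ℤ) - (t : ℤ) = (ζ : ℤ) * ((n * c' : ℕ) - (t' : ℤ)) := by
        rw [hc', ht']; push_cast; ring
      rw [← this]; exact hdvd
    have h2 : (ζ : ℤ) * (p : ℤ) ∣ (ζ : ℤ) * ((n * c' : ℕ) - (t' : ℤ)) := by
      have : ((p * ζ : ℕ) : ℤ) = (ζ : ℤ) * (p : ℤ) := by push_cast; ring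
      rw [← this]; exact h1
    have hζ0 : (ζ : ℤ) ≠ 0 := by exact_mod_cast hζpos.ne'
    have h3 : (p : ℤ) ∣ ((n * c' : ℕ) : ℤ) - (t' : ℤ) := (mul_dvd_mul_iff_left hζ0).mp h2
    have h4 : (p : ℤ) ∣ ((n * c' : ℕ) : ℤ) := by
      obtain ⟨c'', rfl⟩ := hpc
      exact ⟨(n * c'' : ℕ), by push_cast; ring⟩
    have h5 := dvd_sub h4 h3
    rw [sub_sub_cancel] at h5
    exact hpt' (Int.natCast_dvd_natCast.mp h5)
  -- P ∩ C ≤ center
  have hW : ∀ u : X, u ∈ (P : Subgroup X) → u ∈ C → u ∈ center X := by
    intro u huP huC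
    have hZC : center X ≤ C := center_le_centralizer _
    let Z' : Subgroup C := (center X).subgroupOf C
    have hZ'card : Nat.card Z' = ζ := Nat.card_congr (subgroupOfEquivOfLe hZC).toEquiv
    have hquot : Nat.card (C ⧸ Z') = c' := by
      have h1 := Subgroup.card_eq_card_quotient_mul_card_subgroup Z'
      rw [hZ'card] at h1
      have h2 : ζ * c' = ζ * Nat.card (C ⧸ Z') := by
        rw [← hc', hc, h1]; ring
      exact (Nat.eq_of_mul_eq_mul_left hζpos h2).symm
    have h1 : orderOf (QuotientGroup.mk' Z' ⟨u, huC⟩) ∣ c' := by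
      rw [← hquot]; exact orderOf_dvd_natCard _
    have h2 : orderOf (QuotientGroup.mk' Z' ⟨u, huC⟩) ∣ orderOf (⟨u, huC⟩ : C) :=
      orderOf_map_dvd (QuotientGroup.mk' Z') _
    obtain ⟨k, hk⟩ := (IsPGroup.iff_orderOf.mp P.isPGroup') ⟨u, huP⟩
    have h3 : orderOf (⟨u, huC⟩ : C) = p ^ k := by
      rw [Subgroup.orderOf_mk, ← hk, Subgroup.orderOf_mk]
    have hcop : Nat.Coprime (p ^ k) c' :=
      Nat.Coprime.pow_left k ((Nat.Prime.coprime_iff_not_dvd hp).mpr hpc')
    have h4 : orderOf (QuotientGroup.mk' Z' ⟨u, huC⟩) = 1 :=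
      Nat.Coprime.eq_one_of_dvd (Nat.Coprime.coprime_dvd_left (h3 ▸ h2) hcop) h1
    rw [orderOf_eq_one_iff] at h4
    have h5 : (⟨u, huC⟩ : C) ∈ Z' := (QuotientGroup.eq_one_iff _).mp h4
    exact Subgroup.mem_subgroupOf.mp h5
  set W := (P : Subgroup X) ⊓ C with hWdef
  have hWle : W ≤ center X := fun u hu => hW u hu.1 hu.2
  have hWp : IsPGroup p W := P.isPGroup'.to_le inf_le_left
  obtain ⟨k, hk⟩ := IsPGroup.iff_card.mp hWp
  have hWdvd : Nat.card W ∣ p ^ v := by
    rw [hk]; apply pow_dvd_pow
    have : p ^ k ∣ ζ := hk ▸ Subgroup.card_dvd_of_le hWle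
    exact (hp.pow_dvd_iff_le_factorization hζpos.ne').mp this
  -- upper bound for n * c
  have hcW : c = Nat.card W * (P : Subgroup X).relIndex C := card_eq_inf_mul_relIndex _ _
  have hnorm : (P : Subgroup X).relIndex (normalizer ((P : Subgroup X) : Set X)) * n = i := by
    rw [hn, P.card_eq_index_normalizer]
    exact relIndex_mul_index le_normalizer
  have hipos : 0 < i := Nat.pos_of_ne_zero (fun h => hpi (h ▸ dvd_zero p))
  have hrel0 : (P : Subgroup X).relIndex (normalizer ((P : Subgroup X) : Set X)) ≠ 0 := by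
    intro h; rw [h, zero_mul] at hnorm; omega
  have hrel : (P : Subgroup X).relIndex C ≤
      (P : Subgroup X).relIndex (normalizer ((P : Subgroup X) : Set X)) :=
    relIndex_le_of_le_right (centralizer_le_normalizer _) hrel0
  have hupper : n * c ≤ t := by
    calc n * c = Nat.card W * ((P : Subgroup X).relIndex C * n) := by rw [hcW]; ring
      _ ≤ Nat.card W * ((P : Subgroup X).relIndex (normalizer ((P : Subgroup X) : Set X)) * n) :=
          Nat.mul_le_mul_left _ (Nat.mul_le_mul_right _ hrel)
      _ = Nat.card W * i := by rw [hnorm]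
      _ ≤ p ^ v * i := Nat.mul_le_mul_right _ (Nat.le_of_dvd (pow_pos hp.pos v) hWdvd)
      _ = t := ht_eq.symm
  -- termwise equality
  have hle : ∀ x ∈ (Finset.univ : Finset X), (if sCount p x = 0 then 0 else 1) ≤ sCount p x := by
    intro x _
    by_cases h : sCount p x = 0
    · simp [h]
    · simp only [if_neg h]; omega
  have heq : ∑ x : X, (if sCount p x = 0 then 0 else 1) = ∑ x : X, sCount p x := by
    apply le_antisymm (Finset.sum_le_sum hle)
    rw [hsum1, hsum2]; exact hupper
  have hall := (Finset.sum_eq_sum_iff_of_le hle).mp heq 1 (Finset.mem_univ _)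
  rw [sCount_one] at hall
  have hnpos : 0 < n := Nat.card_pos
  by_cases h0 : Nat.card (Sylow p X) = 0
  · omega
  · rw [if_neg h0] at hall; exact hall.symm

end mainlemma


section classsize
variable {X : Type*} [Group X] [Finite X] (p : ℕ) [Fact p.Prime]

theorem mem_center_iff_cs (x : X) : x ∈ center X ↔ cs x = 1 := by
  rw [cs_eq_index, index_eq_one, centralizer_eq_top_iff_subset, Set.singleton_subset_iff]
  rfl

theorem sCount_ne_zero_iff_cs (x : X) : sCount p x ≠ 0 ↔ ¬ p ∣ cs x := by
  rw [cs_eq_index, sCount_ne_zero_iff]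
  constructor
  · rintro ⟨S, hS⟩ hdvd
    have hle : (S : Subgroup X) ≤ centralizer ({x} : Set X) := by
      intro y hy
      rw [mem_centralizer_iff]
      intro h hh
      rw [Set.mem_singleton_iff] at hh
      subst hh
      exact (mem_centralizer_iff.mp hS y hy).symm
    exact S.not_dvd_index (hdvd.trans (index_dvd_of_le hle))
  · intro hnd
    set K := centralizer ({x} : Set X) with hK
    let Q : Sylow p K := default
    have hQcard : Nat.card Q = p ^ (Nat.card K).factorization p := Q.card_eq_multiplicity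
    have hfac : (Nat.card K).factorization p = (Nat.card X).factorization p := by
      have h1 := K.card_mul_index
      rw [← h1, Nat.factorization_mul (Nat.card_pos.ne') (index_ne_zero_of_finite),
        Finsupp.add_apply, Nat.factorization_eq_zero_of_not_dvd hnd, add_zero]
    let Q' : Subgroup X := (Q : Subgroup K).map K.subtype
    have hQ'card : Nat.card Q' = p ^ (Nat.card X).factorization p := by
      rw [← hfac, ← hQcard]
      exact Nat.card_congr
        ((Q : Subgroup K).equivMapOfInjective K.subtype K.subtype_injective).symm.toEquiv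
    refine ⟨Sylow.ofCard Q' hQ'card, ?_⟩
    rw [mem_centralizer_iff]
    intro y hy
    have hyK : y ∈ K := by
      obtain ⟨k, _, rfl⟩ := hy
      exact k.2
    exact (mem_centralizer_iff.mp hyK x rfl).symm

theorem eq_top_of_sylow_le (K : Subgroup X)
    (hK : ∀ (q : ℕ) [Fact q.Prime], ∃ Q : Sylow q X, (Q : Subgroup X) ≤ K) : K = ⊤ := by
  rw [← index_eq_one]
  by_contra h
  obtain ⟨q, hq, hqd⟩ := Nat.exists_prime_and_dvd h
  haveI := Fact.mk hq
  obtain ⟨Q, hQ⟩ := hK q
  exact Q.not_dvd_index (hqd.trans (index_dvd_of_le hQ))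

theorem good_of_nilpotent (hnil : Group.IsNilpotent X) (P : Sylow p X) :
    Nat.card {x : X // sCount p x ≠ 0} * p ^ (Nat.card X).factorization p =
      p ^ (Nat.card (center X)).factorization p * Nat.card X := by
  classical
  have hp : p.Prime := Fact.out
  have hnorm : ∀ (q : ℕ) (_hq : Fact q.Prime) (Q : Sylow q X), (Q : Subgroup X).Normal :=
    ((Group.isNilpotent_of_finite_tfae (G := X)).out 0 3).mp hnil
  haveI hPn : (P : Subgroup X).Normal := hnorm p inferInstance P
  set C := centralizer ((P : Subgroup X) : Set X) with hC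
  have hall : ∀ S : Sylow p X, S = P := by
    intro S
    obtain ⟨g, hg⟩ := MulAction.exists_smul_eq X P S
    rw [Sylow.smul_eq_of_normal] at hg
    exact hg.symm
  have ht : Nat.card {x : X // sCount p x ≠ 0} = Nat.card C := by
    refine Nat.card_congr (Equiv.subtypeEquivRight fun x => ?_)
    rw [sCount_ne_zero_iff]
    constructor
    · rintro ⟨S, hS⟩; rw [hall S] at hS; exact hS
    · intro h; exact ⟨P, h⟩
  -- P ⊔ C = ⊤
  have hsup : (P : Subgroup X) ⊔ C = ⊤ := by
    apply eq_top_of_sylow_le
    intro q hqf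
    by_cases hq : q = p
    · subst hq
      exact ⟨P, le_sup_left⟩
    · let Q : Sylow q X := default
      refine ⟨Q, le_trans ?_ le_sup_right⟩
      intro y hy
      rw [mem_centralizer_iff]
      intro u hu
      have hdis : Disjoint (Q : Subgroup X) (P : Subgroup X) :=
        IsPGroup.disjoint_of_ne q p hq _ _ Q.isPGroup' P.isPGroup'
      exact (commute_of_normal_of_disjoint _ _ (hnorm q hqf Q) hPn hdis y u hy hu).eq.symm
  set W := (P : Subgroup X) ⊓ C with hWdef
  have hcW : Nat.card C = Nat.card W * (P : Subgroup X).relIndex C :=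
    card_eq_inf_mul_relIndex _ _
  have hrel : (P : Subgroup X).relIndex C = (P : Subgroup X).index := by
    rw [← relIndex_sup_left C (P : Subgroup X), hsup, relIndex_top_right]
  have hPi : Nat.card P * (P : Subgroup X).index = Nat.card X := (P : Subgroup X).card_mul_index
  have hPcard : Nat.card P = p ^ (Nat.card X).factorization p := P.card_eq_multiplicity
  -- W ≤ center
  have hWle : W ≤ center X := by
    intro u hu
    rw [Subgroup.mem_center_iff]
    intro g
    have hle : (P : Subgroup X) ⊔ C ≤ centralizer ({u} : Set X) := by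
      apply sup_le
      · intro a ha
        rw [mem_centralizer_iff]
        intro h hh
        rw [Set.mem_singleton_iff] at hh
        subst hh
        exact (mem_centralizer_iff.mp hu.2 a ha).symm
      · intro y hy
        rw [mem_centralizer_iff]
        intro h hh
        rw [Set.mem_singleton_iff] at hh
        subst hh
        exact mem_centralizer_iff.mp hy h hu.1
    have hg : g ∈ centralizer ({u} : Set X) := hle (hsup ▸ Subgroup.mem_top g)
    exact (mem_centralizer_iff.mp hg u rfl).symm
  have hζpos : 0 < Nat.card (center X) := Nat.card_pos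
  have hWp : IsPGroup p W := P.isPGroup'.to_le inf_le_left
  obtain ⟨k, hk⟩ := IsPGroup.iff_card.mp hWp
  have hWcard : Nat.card W = p ^ (Nat.card (center X)).factorization p := by
    rw [hk]
    congr 1
    apply le_antisymm
    · have : p ^ k ∣ Nat.card (center X) := hk ▸ Subgroup.card_dvd_of_le hWle
      exact (hp.pow_dvd_iff_le_factorization hζpos.ne').mp this
    · let R₀ : Sylow p (center X) := default
      have hR₀ : Nat.card R₀ = p ^ (Nat.card (center X)).factorization p :=
        R₀.card_eq_multiplicity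
      let R : Subgroup X := (R₀ : Subgroup (center X)).map (center X).subtype
      have hRcard : Nat.card R = p ^ (Nat.card (center X)).factorization p := by
        rw [← hR₀]
        exact Nat.card_congr ((R₀ : Subgroup (center X)).equivMapOfInjective
          (center X).subtype (center X).subtype_injective).symm.toEquiv
      have hRp : IsPGroup p R := IsPGroup.of_card hRcard
      obtain ⟨S, hS⟩ := hRp.exists_le_sylow
      rw [hall S] at hS
      have hRZ : R ≤ center X := by
        rintro _ ⟨z, _, rfl⟩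
        exact z.2
      have hRW : R ≤ W := le_inf hS (hRZ.trans (center_le_centralizer _))
      have h1 : p ^ (Nat.card (center X)).factorization p ∣ p ^ k := by
        rw [← hRcard, ← hk]; exact Subgroup.card_dvd_of_le hRW
      exact (Nat.pow_dvd_pow_iff_le_right hp.one_lt).mp h1
  rw [ht, hcW, hrel, hWcard, ← hPcard, ← hPi]
  ring

end classsize

/-- Cossey--Hawkes--Mann: a group with the class-size statistics of a nilpotent group is
nilpotent. -/
theorem nilpotent_of_same_class_sizes {G H : Type*} [Group G] [Finite G] [Group H] [Finite H]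
    (hH : Group.IsNilpotent H)
    (h : ∀ k : ℕ, Nat.card {C : ConjClasses G // Nat.card C.carrier = k} =
      Nat.card {C : ConjClasses H // Nat.card C.carrier = k}) :
    Group.IsNilpotent G := by
  classical
  obtain ⟨e, he⟩ := exists_equiv_cs h
  haveI := Fintype.ofFinite G
  apply ((Group.isNilpotent_of_finite_tfae (G := G)).out 0 3).mpr
  intro p hp P
  haveI := hp
  have hN : Nat.card G = Nat.card H := Nat.card_congr e
  have hZ : Nat.card (center G) = Nat.card (center H) :=
    Nat.card_congr (e.subtypeEquiv (fun x => by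
      rw [mem_center_iff_cs, mem_center_iff_cs, he]))
  have ht : Nat.card {x : G // sCount p x ≠ 0} = Nat.card {y : H // sCount p y ≠ 0} :=
    Nat.card_congr (e.subtypeEquiv fun x => by
      rw [sCount_ne_zero_iff_cs, sCount_ne_zero_iff_cs, he])
  have hgoodH := good_of_nilpotent p hH (default : Sylow p H)
  have hgoodG : Nat.card {x : G // sCount p x ≠ 0} * p ^ (Nat.card G).factorization p =
      p ^ (Nat.card (center G)).factorization p * Nat.card G := by
    rw [ht, hN, hZ]; exact hgoodH
  have h1 := card_sylow_eq_one_of_good p P hgoodG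
  rw [Sylow.card_eq_index_normalizer P, index_eq_one] at h1
  exact normalizer_eq_top_iff.mp h1

end Cfsg.Agent.helper6.CHM
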