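import Mathlib
import Cfsg.Prelude.Def_LieRecognition

set_option autoImplicit false

namespace Cfsg.Agent.helper6.RankOne

open MulAction

variable {G Ω : Type*} [Group G] [MulAction G Ω] {a : Ω} {t : G} {Q : Subgroup G}

theorem t_inv (hS : Cfsg.IsRankOneSetup G Ω a t Q) : t⁻¹ = t :=
  inv_eq_of_mul_eq_one_right hS.mul_self

theorem ta_ne (hS : Cfsg.IsRankOneSetup G Ω a t Q) : t • a ≠ a :=
  fun h => hS.not_mem (mem_stabilizer_iff.mpr h)

theorem tta (hS : Cfsg.IsRankOneSetup G Ω a t Q) : t • t • a = a := by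
  rw [smul_smul, hS.mul_self, one_smul]

theorem two_trans (hS : Cfsg.IsRankOneSetup G Ω a t Q) {b c d e : Ω} (h1 : b ≠ c) (h2 : d ≠ e) :
    ∃ g : G, g • b = d ∧ g • c = e :=
  (MulAction.is_two_pretransitive_iff.mp hS.two_transitive) h1 h2

theorem Ga_le_normalizer (hS : Cfsg.IsRankOneSetup G Ω a t Q) :
    stabilizer G a ≤ Subgroup.normalizer (Q : Set G) := by
  intro h hh
  rw [Subgroup.mem_normalizer_iff]
  intro x
  constructor
  · intro hx; exact hS.conj_mem h hh x hx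
  · intro hx
    have := hS.conj_mem h⁻¹ ((stabilizer G a).inv_mem hh) _ hx
    have e : h⁻¹ * (h * x * h⁻¹) * h⁻¹⁻¹ = x := by group
    rwa [e] at this

theorem conj_mem' (hS : Cfsg.IsRankOneSetup G Ω a t Q) {h x : G} (hh : h ∈ stabilizer G a)
    (hx : x ∈ Q) : h⁻¹ * x * h ∈ Q := by
  have := hS.conj_mem h⁻¹ ((stabilizer G a).inv_mem hh) x hx
  rwa [inv_inv] at this

theorem D_le_Ga : stabilizer G a ⊓ stabilizer G (t • a) ≤ stabilizer G a := inf_le_left

theorem D_fix_a {d : G} (hd : d ∈ stabilizer G a ⊓ stabilizer G (t • a)) : d • a = a :=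
  mem_stabilizer_iff.mp (Subgroup.mem_inf.mp hd).1

theorem D_fix_ta {d : G} (hd : d ∈ stabilizer G a ⊓ stabilizer G (t • a)) :
    d • (t • a) = t • a :=
  mem_stabilizer_iff.mp (Subgroup.mem_inf.mp hd).2

theorem mem_D_iff {d : G} : d ∈ stabilizer G a ⊓ stabilizer G (t • a) ↔ d • a = a ∧ d • (t • a) = t • a := by
  rw [Subgroup.mem_inf, mem_stabilizer_iff, mem_stabilizer_iff]

theorem Q_fix_a (hS : Cfsg.IsRankOneSetup G Ω a t Q) {x : G} (hx : x ∈ Q) : x • a = a :=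
  mem_stabilizer_iff.mp (hS.le hx)

theorem mem_Ga_decomp (hS : Cfsg.IsRankOneSetup G Ω a t Q) {h : G} (hh : h ∈ stabilizer G a) :
    ∃ x ∈ Q, ∃ d ∈ stabilizer G a ⊓ stabilizer G (t • a), h = x * d := by
  have hD : stabilizer G a ⊓ stabilizer G (t • a) ≤ Subgroup.normalizer (Q : Set G) :=
    inf_le_left.trans (Ga_le_normalizer hS)
  have hcoe := Subgroup.coe_mul_of_right_le_normalizer_left Q _ hD
  rw [hS.sup_eq] at hcoe
  have h' : h ∈ ((stabilizer G a : Subgroup G) : Set G) := hh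
  rw [hcoe] at h'
  obtain ⟨x, hx, d, hd, rfl⟩ := Set.mem_mul.mp h'
  exact ⟨x, hx, d, hd, rfl⟩

theorem Q_trans (hS : Cfsg.IsRankOneSetup G Ω a t Q) {b : Ω} (hb : b ≠ a) :
    ∃ x ∈ Q, x • (t • a) = b := by
  obtain ⟨g, hga, hgb⟩ := two_trans hS (ta_ne hS).symm hb.symm
  obtain ⟨x, hx, d, hd, rfl⟩ := mem_Ga_decomp hS (mem_stabilizer_iff.mpr hga)
  refine ⟨x, hx, ?_⟩
  rw [mul_smul, D_fix_ta hd] at hgb
  exact hgb

theorem Q_free (hS : Cfsg.IsRankOneSetup G Ω a t Q) {x : G} (hx : x ∈ Q) {b : Ω} (hb : b ≠ a)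
    (hxb : x • b = b) : x = 1 := by
  obtain ⟨y, hy, rfl⟩ := Q_trans hS hb
  have hmem : y⁻¹ * x * y ∈ Q ⊓ stabilizer G (t • a) := by
    refine Subgroup.mem_inf.mpr ⟨Q.mul_mem (Q.mul_mem (Q.inv_mem hy) hx) hy, ?_⟩
    rw [mem_stabilizer_iff, mul_smul, mul_smul, hxb, inv_smul_smul]
  rw [hS.inf_eq_bot, Subgroup.mem_bot] at hmem
  have e : x = y * (y⁻¹ * x * y) * y⁻¹ := by group
  rw [e, hmem]; group

theorem Q_fix_only (hS : Cfsg.IsRankOneSetup G Ω a t Q) {x : G} (hx : x ∈ Q) (hx1 : x ≠ 1) {b : Ω}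
    (hxb : x • b = b) : b = a := by
  by_contra hb
  exact hx1 (Q_free hS hx hb hxb)

theorem Q_exists (hS : Cfsg.IsRankOneSetup G Ω a t Q) {b c : Ω} (hb : b ≠ a) (hc : c ≠ a) :
    ∃ x ∈ Q, x • b = c := by
  obtain ⟨y, hy, rfl⟩ := Q_trans hS hb
  obtain ⟨z, hz, rfl⟩ := Q_trans hS hc
  exact ⟨z * y⁻¹, Q.mul_mem hz (Q.inv_mem hy), by rw [mul_smul, inv_smul_smul]⟩

theorem Q_unique (hS : Cfsg.IsRankOneSetup G Ω a t Q) {b : Ω} (hb : b ≠ a) {x y : G} (hx : x ∈ Q)
    (hy : y ∈ Q) (h : x • b = y • b) : x = y := by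
  have h1 : y⁻¹ * x = 1 :=
    Q_free hS (Q.mul_mem (Q.inv_mem hy) hx) hb (by rw [mul_smul, h, inv_smul_smul])
  exact (inv_mul_eq_one.mp h1).symm

theorem isPretransitive (hS : Cfsg.IsRankOneSetup G Ω a t Q) : IsPretransitive G Ω := by
  have := hS.two_transitive
  exact MulAction.isPretransitive_of_is_two_pretransitive

theorem finite_Ω [Finite G] (hS : Cfsg.IsRankOneSetup G Ω a t Q) : Finite Ω := by
  have := isPretransitive hS
  exact Finite.of_surjective (fun g : G => g • a) (MulAction.surjective_smul G a)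

theorem smul_ta_ne (hS : Cfsg.IsRankOneSetup G Ω a t Q) {x : G} (hx : x ∈ Q) : x • (t • a) ≠ a := by
  intro h
  apply ta_ne hS
  have : x⁻¹ • (x • (t • a)) = x⁻¹ • a := by rw [h]
  rw [inv_smul_smul] at this
  rw [this, ← Q_fix_a hS hx, inv_smul_smul, Q_fix_a hS hx]

theorem card_Ω [Finite G] (hS : Cfsg.IsRankOneSetup G Ω a t Q) : Nat.card Ω = Nat.card Q + 1 := by
  classical
  have := finite_Ω hS
  let f : Q → {b : Ω // b ≠ a} := fun x => ⟨(x : G) • (t • a), smul_ta_ne hS x.2⟩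
  have hf : Function.Bijective f := by
    constructor
    · intro x y hxy
      have h1 : (x : G) • (t • a) = (y : G) • (t • a) := congrArg Subtype.val hxy
      exact Subtype.ext (Q_unique hS (ta_ne hS) x.2 y.2 h1)
    · rintro ⟨b, hb⟩
      obtain ⟨x, hx, hxb⟩ := Q_trans hS hb
      exact ⟨⟨x, hx⟩, Subtype.ext hxb⟩
  rw [← Nat.card_congr (Equiv.optionSubtypeNe a), Finite.card_option,
    ← Nat.card_congr (Equiv.ofBijective f hf)]

theorem card_Ga [Finite G] (hS : Cfsg.IsRankOneSetup G Ω a t Q) :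
    Nat.card (stabilizer G a) =
      Nat.card Q * Nat.card ↥(stabilizer G a ⊓ stabilizer G (t • a)) := by
  let f : Q × ↥(stabilizer G a ⊓ stabilizer G (t • a)) → stabilizer G a := fun p =>
    ⟨p.1.1 * p.2.1, (stabilizer G a).mul_mem (hS.le p.1.2) (D_le_Ga p.2.2)⟩
  have hf : Function.Bijective f := by
    constructor
    · rintro ⟨⟨x, hx⟩, ⟨d, hd⟩⟩ ⟨⟨x', hx'⟩, ⟨d', hd'⟩⟩ hpq
      have h1 : x * d = x' * d' := congrArg Subtype.val hpq
      have h2 : x'⁻¹ * x = d' * d⁻¹ := by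
        calc x'⁻¹ * x = x'⁻¹ * (x * d) * d⁻¹ := by group
          _ = x'⁻¹ * (x' * d') * d⁻¹ := by rw [h1]
          _ = d' * d⁻¹ := by group
      have hmem : x'⁻¹ * x ∈ Q ⊓ stabilizer G (t • a) := by
        refine Subgroup.mem_inf.mpr ⟨Q.mul_mem (Q.inv_mem hx') hx, ?_⟩
        rw [h2]
        exact (Subgroup.mem_inf.mp (Subgroup.mul_mem _ hd' (Subgroup.inv_mem _ hd))).2
      rw [hS.inf_eq_bot, Subgroup.mem_bot] at hmem
      have hxx : x' = x := inv_mul_eq_one.mp hmem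
      subst hxx
      have hdd : d = d' := mul_left_cancel h1
      subst hdd
      rfl
    · rintro ⟨h, hh⟩
      obtain ⟨x, hx, d, hd, rfl⟩ := mem_Ga_decomp hS hh
      exact ⟨(⟨x, hx⟩, ⟨d, hd⟩), rfl⟩
  rw [← Nat.card_congr (Equiv.ofBijective f hf), Nat.card_prod]

theorem card_G [Finite G] (hS : Cfsg.IsRankOneSetup G Ω a t Q) :
    Nat.card G = Nat.card Q * Nat.card ↥(stabilizer G a ⊓ stabilizer G (t • a)) *
      (Nat.card Q + 1) := by
  have := isPretransitive hS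
  rw [← card_Ga hS, ← card_Ω hS, ← MulAction.index_stabilizer_of_transitive G a, mul_comm]
  exact (Subgroup.index_mul_card (stabilizer G a)).symm

theorem odd_card_succ (hS : Cfsg.IsRankOneSetup G Ω a t Q) : Odd (Nat.card Q + 1) :=
  hS.even_card.add_one

theorem exists_sylow_le [Finite G] (hS : Cfsg.IsRankOneSetup G Ω a t Q) :
    ∃ P : Sylow 2 G, (P : Subgroup G) ≤ Q := by
  have : Fact (Nat.Prime 2) := ⟨Nat.prime_two⟩
  let P₀ : Sylow 2 Q := default
  have h0 : Nat.card (P₀ : Subgroup Q) = 2 ^ (Nat.card Q).factorization 2 :=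
    Sylow.card_eq_multiplicity P₀
  have hfac : (Nat.card G).factorization 2 = (Nat.card Q).factorization 2 := by
    rw [card_G hS, mul_assoc]
    have hm : Odd (Nat.card ↥(stabilizer G a ⊓ stabilizer G (t • a)) * (Nat.card Q + 1)) :=
      hS.odd_card.mul (odd_card_succ hS)
    rw [Nat.factorization_mul (Nat.card_pos.ne') (hm.pos.ne')]
    simp only [Finsupp.coe_add, Pi.add_apply]
    rw [Nat.factorization_eq_zero_of_not_dvd hm.not_two_dvd_nat, add_zero]
  have hcard : Nat.card ((P₀ : Subgroup Q).map Q.subtype) = 2 ^ (Nat.card G).factorization 2 := by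
    rw [Subgroup.card_map_of_injective Q.subtype_injective, h0, hfac]
  refine ⟨Sylow.ofCard _ hcard, ?_⟩
  rw [Sylow.coe_ofCard]
  exact Subgroup.map_subtype_le _

theorem canonical_exists (hS : Cfsg.IsRankOneSetup G Ω a t Q) {g : G} (hg : g ∉ stabilizer G a) :
    ∃ x ∈ stabilizer G a, ∃ y ∈ Q, g = x * t * y := by
  have hne : g⁻¹ • a ≠ a := by
    intro h
    apply hg
    rw [mem_stabilizer_iff]
    have : g • (g⁻¹ • a) = g • a := by rw [h]
    rw [smul_inv_smul] at this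
    exact this.symm
  obtain ⟨z, hz, hza⟩ := Q_trans hS hne
  refine ⟨g * z * t, ?_, z⁻¹, Q.inv_mem hz, ?_⟩
  · rw [mem_stabilizer_iff, mul_smul, mul_smul, hza, smul_inv_smul]
  · have := hS.mul_self
    calc g = g * z * (t * t) * z⁻¹ := by rw [this]; group
      _ = g * z * t * t * z⁻¹ := by group

theorem canonical_unique (hS : Cfsg.IsRankOneSetup G Ω a t Q) {x x' y y' : G}
    (hx : x ∈ stabilizer G a) (hx' : x' ∈ stabilizer G a) (hy : y ∈ Q) (hy' : y' ∈ Q)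
    (h : x * t * y = x' * t * y') : x = x' ∧ y = y' := by
  have h1 : ∀ {x y : G}, x ∈ stabilizer G a → (x * t * y)⁻¹ • a = y⁻¹ • (t • a) := by
    intro x y hx
    have e : (x * t * y)⁻¹ = y⁻¹ * t⁻¹ * x⁻¹ := by group
    have hxa : x⁻¹ • a = a := mem_stabilizer_iff.mp ((stabilizer G a).inv_mem hx)
    rw [e, mul_smul, mul_smul, hxa, t_inv hS]
  have h2 : y⁻¹ • (t • a) = y'⁻¹ • (t • a) := by
    rw [← h1 hx, ← h1 hx', h]
  have h3 : y⁻¹ = y'⁻¹ := Q_unique hS (ta_ne hS) (Q.inv_mem hy) (Q.inv_mem hy') h2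
  have h4 : y = y' := inv_injective h3
  subst h4
  exact ⟨mul_right_cancel (mul_right_cancel h), rfl⟩

theorem Q_ne_bot [Finite G] (hS : Cfsg.IsRankOneSetup G Ω a t Q) : ∃ x ∈ Q, x ≠ 1 := by
  by_contra h
  push Not at h
  have hbot : Q = ⊥ := (Subgroup.eq_bot_iff_forall Q).mpr h
  have := hS.even_card
  rw [hbot, Subgroup.card_bot] at this
  exact absurd this (by decide)

end Cfsg.Agent.helper6.RankOne
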