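import Mathlib
import Cfsg.Prelude.Def_LieRecognition
import Cfsg.Agent.Lib_helper6_RankOne

set_option autoImplicit false

namespace Cfsg.Agent.helper6.RankOne

open MulAction

variable {G Ω : Type*} [Group G] [MulAction G Ω] {a : Ω} {t : G} {Q : Subgroup G}

theorem tt_cancel (hS : Cfsg.IsRankOneSetup G Ω a t Q) (g : G) : t * (t * g) = g := by
  rw [← mul_assoc, hS.mul_self, one_mul]

theorem t_conj_D (hS : Cfsg.IsRankOneSetup G Ω a t Q) {c : G}
    (hc : c ∈ stabilizer G a ⊓ stabilizer G (t • a)) :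
    t * c * t ∈ stabilizer G a ⊓ stabilizer G (t • a) := by
  rw [mem_D_iff] at hc ⊢
  constructor
  · rw [mul_smul, mul_smul, hc.2, tta hS]
  · rw [mul_smul, mul_smul, tta hS, hc.1]

theorem D_conj_Q (hS : Cfsg.IsRankOneSetup G Ω a t Q) {d x : G}
    (hd : d ∈ stabilizer G a ⊓ stabilizer G (t • a)) (hx : x ∈ Q) : d * x * d⁻¹ ∈ Q :=
  hS.conj_mem d (D_le_Ga hd) x hx

theorem D_conj_Q' (hS : Cfsg.IsRankOneSetup G Ω a t Q) {d x : G}
    (hd : d ∈ stabilizer G a ⊓ stabilizer G (t • a)) (hx : x ∈ Q) : d⁻¹ * x * d ∈ Q :=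
  conj_mem' hS (D_le_Ga hd) hx

theorem QD_unique (hS : Cfsg.IsRankOneSetup G Ω a t Q) {g g' h h' : G} (hg : g ∈ Q) (hg' : g' ∈ Q)
    (hh : h ∈ stabilizer G a ⊓ stabilizer G (t • a))
    (hh' : h' ∈ stabilizer G a ⊓ stabilizer G (t • a)) (e : g * h = g' * h') :
    g = g' ∧ h = h' := by
  have h2 : g'⁻¹ * g = h' * h⁻¹ := by
    calc g'⁻¹ * g = g'⁻¹ * (g * h) * h⁻¹ := by group
      _ = g'⁻¹ * (g' * h') * h⁻¹ := by rw [e]
      _ = h' * h⁻¹ := by group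
  have hmem : g'⁻¹ * g ∈ Q ⊓ stabilizer G (t • a) := by
    refine Subgroup.mem_inf.mpr ⟨Q.mul_mem (Q.inv_mem hg') hg, ?_⟩
    rw [h2]
    exact (Subgroup.mem_inf.mp (Subgroup.mul_mem _ hh' (Subgroup.inv_mem _ hh))).2
  rw [hS.inf_eq_bot, Subgroup.mem_bot] at hmem
  have hxx : g' = g := inv_mul_eq_one.mp hmem
  subst hxx
  exact ⟨rfl, mul_left_cancel e⟩

theorem canonical_unique3 (hS : Cfsg.IsRankOneSetup G Ω a t Q) {g g' h h' f f' : G} (hg : g ∈ Q)
    (hg' : g' ∈ Q) (hh : h ∈ stabilizer G a ⊓ stabilizer G (t • a))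
    (hh' : h' ∈ stabilizer G a ⊓ stabilizer G (t • a)) (hf : f ∈ Q) (hf' : f' ∈ Q)
    (e : g * h * t * f = g' * h' * t * f') : g = g' ∧ h = h' ∧ f = f' := by
  have hgh : g * h ∈ stabilizer G a := Subgroup.mul_mem _ (hS.le hg) (D_le_Ga hh)
  have hgh' : g' * h' ∈ stabilizer G a := Subgroup.mul_mem _ (hS.le hg') (D_le_Ga hh')
  obtain ⟨e1, e2⟩ := canonical_unique hS hgh hgh' hf hf' e
  obtain ⟨e3, e4⟩ := QD_unique hS hg hg' hh hh' e1
  exact ⟨e3, e4, e2⟩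

/-! ### Involutions -/

theorem dihedral_semiconj {x y : G} (hx : x * x = 1) (hy : y * y = 1) :
    SemiconjBy x (x * y) (x * y)⁻¹ ∧ SemiconjBy y (x * y) (x * y)⁻¹ := by
  have hxi : x⁻¹ = x := inv_eq_of_mul_eq_one_right hx
  have hyi : y⁻¹ = y := inv_eq_of_mul_eq_one_right hy
  have hwi : (x * y)⁻¹ = y * x := by rw [mul_inv_rev, hxi, hyi]
  constructor
  · change x * (x * y) = (x * y)⁻¹ * x
    rw [hwi, ← mul_assoc, hx, one_mul, mul_assoc, hx, mul_one]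
  · change y * (x * y) = (x * y)⁻¹ * y
    rw [hwi, mul_assoc]

theorem dihedral_central {x y : G} (hx : x * x = 1) (hy : y * y = 1) {m : ℕ}
    (hm : orderOf (x * y) = m + m) (hm0 : 0 < m) :
    (x * y) ^ m ≠ 1 ∧ (x * y) ^ m * (x * y) ^ m = 1 ∧ x * (x * y) ^ m = (x * y) ^ m * x ∧
      y * (x * y) ^ m = (x * y) ^ m * y := by
  have hu1 : (x * y) ^ m ≠ 1 := pow_ne_one_of_lt_orderOf hm0.ne' (by omega)
  have huu : (x * y) ^ m * (x * y) ^ m = 1 := by
    rw [← pow_add, ← hm, pow_orderOf_eq_one]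
  have hui : ((x * y) ^ m)⁻¹ = (x * y) ^ m := inv_eq_of_mul_eq_one_right huu
  obtain ⟨h1, h2⟩ := dihedral_semiconj hx hy
  refine ⟨hu1, huu, ?_, ?_⟩
  · have := h1.pow_right m
    change x * (x * y) ^ m = ((x * y)⁻¹) ^ m * x at this
    rw [inv_pow, hui] at this
    exact this
  · have := h2.pow_right m
    change y * (x * y) ^ m = ((x * y)⁻¹) ^ m * y at this
    rw [inv_pow, hui] at this
    exact this

theorem conj_of_odd_mul {s u : G} (hs : s * s = 1) (hu : u * u = 1) (hodd : Odd (orderOf (s * u))) :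
    ∃ g ∈ Subgroup.zpowers (s * u), g * s * g⁻¹ = u := by
  obtain ⟨m, hm⟩ := hodd
  have hui : u⁻¹ = u := inv_eq_of_mul_eq_one_right hu
  have hsi : s⁻¹ = s := inv_eq_of_mul_eq_one_right hs
  refine ⟨(s * u) ^ m, Subgroup.pow_mem _ (Subgroup.mem_zpowers _) m, ?_⟩
  have h1 : SemiconjBy s (s * u)⁻¹ (s * u) := by
    have := (dihedral_semiconj hs hu).1.inv_right
    rwa [inv_inv] at this
  have h2 : s * ((s * u)⁻¹) ^ m = (s * u) ^ m * s := h1.pow_right m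
  have h3 : (s * u) ^ (2 * m) = (s * u)⁻¹ := by
    apply eq_inv_of_mul_eq_one_left
    rw [← pow_succ, ← hm, pow_orderOf_eq_one]
  calc (s * u) ^ m * s * ((s * u) ^ m)⁻¹ = (s * u) ^ m * (s * ((s * u)⁻¹) ^ m) := by
        rw [inv_pow, mul_assoc]
    _ = (s * u) ^ m * ((s * u) ^ m * s) := by rw [h2]
    _ = (s * u) ^ (2 * m) * s := by rw [← mul_assoc, ← pow_add, two_mul]
    _ = u := by rw [h3, mul_inv_rev, hui, hsi, mul_assoc, hs, mul_one]

theorem invol_mem_Q [Finite G] (hS : Cfsg.IsRankOneSetup G Ω a t Q) {s : G}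
    (hs : s ∈ stabilizer G a) (hs2 : s * s = 1) : s ∈ Q := by
  obtain ⟨x, hx, d, hd, rfl⟩ := mem_Ga_decomp hS hs
  have hdx : d * x * d⁻¹ ∈ Q := D_conj_Q hS hd hx
  have hdd : d * d = (x * (d * x * d⁻¹))⁻¹ := by
    have : x * (d * x * d⁻¹) * (d * d) = 1 := by rw [← hs2]; group
    exact eq_inv_of_mul_eq_one_right this
  have hmem : d * d ∈ Q ⊓ stabilizer G (t • a) := by
    refine Subgroup.mem_inf.mpr ⟨?_, ?_⟩
    · rw [hdd]; exact Q.inv_mem (Q.mul_mem hx hdx)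
    · exact (Subgroup.mem_inf.mp (Subgroup.mul_mem _ hd hd)).2
  rw [hS.inf_eq_bot, Subgroup.mem_bot] at hmem
  have hodd : Odd (orderOf d) := by
    have h1 : orderOf (⟨d, hd⟩ : ↥(stabilizer G a ⊓ stabilizer G (t • a))) ∣
        Nat.card ↥(stabilizer G a ⊓ stabilizer G (t • a)) := orderOf_dvd_natCard _
    rw [Subgroup.orderOf_mk] at h1
    exact Odd.of_dvd_nat hS.odd_card h1
  have h2 : orderOf d ∣ 2 := orderOf_dvd_of_pow_eq_one (by rw [sq]; exact hmem)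
  have h3 : orderOf d = 1 := by
    rcases (Nat.dvd_prime Nat.prime_two).mp h2 with h | h
    · exact h
    · rw [h] at hodd; exact absurd hodd (by decide)
  rw [orderOf_eq_one_iff] at h3
  rw [h3, mul_one]
  exact hx

theorem invol_exists_fix [Finite G] (hS : Cfsg.IsRankOneSetup G Ω a t Q) {u : G}
    (hu2 : u * u = 1) : ∃ c : Ω, u • c = c := by
  classical
  have := finite_Ω hS
  have : Fintype Ω := Fintype.ofFinite Ω
  have : Fact (Nat.Prime 2) := ⟨Nat.prime_two⟩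
  have hcard : ¬ 2 ∣ Fintype.card Ω := by
    rw [← Nat.card_eq_fintype_card, card_Ω hS]
    exact (odd_card_succ hS).not_two_dvd_nat
  have hσ : (MulAction.toPerm u : Equiv.Perm Ω) ^ 2 ^ 1 = 1 := by
    ext c
    simp [pow_two, smul_smul, hu2]
  obtain ⟨c, hc⟩ := Equiv.Perm.exists_fixed_point_of_prime hcard hσ
  exact ⟨c, hc⟩

theorem invol_fix_eq [Finite G] (hS : Cfsg.IsRankOneSetup G Ω a t Q) {u : G} (hu1 : u ≠ 1)
    (hu2 : u * u = 1) {c c' : Ω} (hc : u • c = c) (hc' : u • c' = c') : c = c' := by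
  have := isPretransitive hS
  obtain ⟨g, hg⟩ := MulAction.exists_smul_eq G a c
  have hv : g⁻¹ * u * g ∈ stabilizer G a := by
    rw [mem_stabilizer_iff, mul_smul, mul_smul, hg, hc, ← hg, inv_smul_smul]
  have hv2 : (g⁻¹ * u * g) * (g⁻¹ * u * g) = 1 := by
    calc (g⁻¹ * u * g) * (g⁻¹ * u * g) = g⁻¹ * (u * u) * g := by group
      _ = 1 := by rw [hu2]; group
  have hv1 : g⁻¹ * u * g ≠ 1 := by
    intro h
    apply hu1
    have e : u = g * (g⁻¹ * u * g) * g⁻¹ := by group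
    rw [e, h]; group
  have hvQ := invol_mem_Q hS hv hv2
  have hfix : (g⁻¹ * u * g) • (g⁻¹ • c') = g⁻¹ • c' := by
    rw [mul_smul, mul_smul, smul_inv_smul, hc']
  have := Q_fix_only hS hvQ hv1 hfix
  rw [← hg, ← this, smul_inv_smul]

theorem odd_orderOf_mul [Finite G] (hS : Cfsg.IsRankOneSetup G Ω a t Q) {s u : G} (hs1 : s ≠ 1)
    (hs2 : s * s = 1) (hu1 : u ≠ 1) (hu2 : u * u = 1) {c : Ω} (hsc : s • c = c)
    (huc : u • c ≠ c) : Odd (orderOf (s * u)) := by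
  by_contra hodd
  rw [Nat.not_odd_iff_even] at hodd
  obtain ⟨m, hm⟩ := hodd
  have hm0 : 0 < m := by
    have := orderOf_pos (s * u)
    omega
  obtain ⟨hz1, hz2, hzs, hzu⟩ := dihedral_central hs2 hu2 hm hm0
  obtain ⟨e, he⟩ := invol_exists_fix hS hz2
  have hse : s • e = e := by
    apply invol_fix_eq hS hz1 hz2 _ he
    rw [smul_smul, ← hzs, mul_smul, he]
  have hue : u • e = e := by
    apply invol_fix_eq hS hz1 hz2 _ he
    rw [smul_smul, ← hzu, mul_smul, he]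
  have hec : e = c := invol_fix_eq hS hs1 hs2 hse hsc
  rw [hec] at hue
  exact huc hue

theorem invol_conj [Finite G] (hS : Cfsg.IsRankOneSetup G Ω a t Q) {u v : G} (hu1 : u ≠ 1)
    (hu2 : u * u = 1) (hv1 : v ≠ 1) (hv2 : v * v = 1) : ∃ g : G, g * u * g⁻¹ = v := by
  have key : ∀ {u v : G} {c : Ω}, u ≠ 1 → u * u = 1 → v ≠ 1 → v * v = 1 → u • c = c → v • c ≠ c →
      ∃ g : G, g * u * g⁻¹ = v := by
    intro u v c hu1 hu2 hv1 hv2 huc hvc
    obtain ⟨g, -, hg⟩ := conj_of_odd_mul hu2 hv2 (odd_orderOf_mul hS hu1 hu2 hv1 hv2 huc hvc)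
    exact ⟨g, hg⟩
  obtain ⟨c, hc⟩ := invol_exists_fix hS hu2
  by_cases hvc : v • c = c
  · have := isPretransitive hS
    obtain ⟨e, hec⟩ : ∃ e : Ω, e ≠ c := by
      by_cases h : a = c
      · exact ⟨t • a, by rw [← h]; exact ta_ne hS⟩
      · exact ⟨a, h⟩
    obtain ⟨g, hg⟩ := MulAction.exists_smul_eq G c e
    have hw1 : g * u * g⁻¹ ≠ 1 := by
      intro h
      apply hu1
      have e' : u = g⁻¹ * (g * u * g⁻¹) * g := by group
      rw [e', h]; group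
    have hw2 : (g * u * g⁻¹) * (g * u * g⁻¹) = 1 := by
      calc (g * u * g⁻¹) * (g * u * g⁻¹) = g * (u * u) * g⁻¹ := by group
        _ = 1 := by rw [hu2]; group
    have hwe : (g * u * g⁻¹) • e = e := by
      rw [← hg, mul_smul, mul_smul, inv_smul_smul, hc]
    have hve : v • e ≠ e := by
      intro h
      exact hec (invol_fix_eq hS hv1 hv2 h hvc)
    obtain ⟨g', hg'⟩ := key hw1 hw2 hv1 hv2 hwe hve
    refine ⟨g' * g, ?_⟩
    rw [← hg']
    group
  · exact key hu1 hu2 hv1 hv2 hc hvc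

end Cfsg.Agent.helper6.RankOne
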