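import Mathlib
import Cfsg.Prelude.Def_LieRecognition
import Cfsg.Agent.Lib_helper6_RankOne2

set_option autoImplicit false

namespace Cfsg.Agent.helper6.RankOne

open MulAction

variable {G Ω : Type*} [Group G] [MulAction G Ω] {a : Ω} {t : G} {Q : Subgroup G}

theorem dihedral_swap {x y : G} (hx : x * x = 1) (hy : y * y = 1)
    (hodd : Odd (orderOf (x * y))) :
    ∃ u : G, u * u = 1 ∧ u * x * u = y ∧ u * y * u = x ∧
      ∀ f : G, f * x = x * f → f * y = y * f → f * u = u * f := by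
  obtain ⟨m, hm⟩ := hodd
  have hxi : x⁻¹ = x := inv_eq_of_mul_eq_one_right hx
  have hyi : y⁻¹ = y := inv_eq_of_mul_eq_one_right hy
  have h1 : x * (x * y) ^ m = ((x * y) ^ m)⁻¹ * x := by
    have := (dihedral_semiconj hx hy).1.pow_right m
    change x * (x * y) ^ m = ((x * y)⁻¹) ^ m * x at this
    rwa [inv_pow] at this
  have h3 : (x * y) ^ (2 * m) = (x * y)⁻¹ := by
    apply eq_inv_of_mul_eq_one_left
    rw [← pow_succ, ← hm, pow_orderOf_eq_one]
  have huu : (x * y) ^ m * x * ((x * y) ^ m * x) = 1 := by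
    calc (x * y) ^ m * x * ((x * y) ^ m * x) = (x * y) ^ m * (x * (x * y) ^ m) * x := by group
      _ = (x * y) ^ m * (((x * y) ^ m)⁻¹ * x) * x := by rw [h1]
      _ = x * x := by group
      _ = 1 := hx
  have hux : (x * y) ^ m * x * x * ((x * y) ^ m * x) = y := by
    calc (x * y) ^ m * x * x * ((x * y) ^ m * x) = (x * y) ^ m * (x * x) * ((x * y) ^ m * x) := by
          group
      _ = (x * y) ^ (2 * m) * x := by rw [hx, mul_one, ← mul_assoc, ← pow_add, two_mul]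
      _ = y := by rw [h3, mul_inv_rev, hxi, hyi, mul_assoc, hx, mul_one]
  obtain ⟨u, hu⟩ : ∃ u, u = (x * y) ^ m * x := ⟨_, rfl⟩
  rw [← hu] at huu
  have hux' : u * x * u = y := by rw [hu]; exact hux
  refine ⟨u, huu, hux', ?_, ?_⟩
  · calc u * y * u = u * (u * x * u) * u := by rw [hux']
      _ = (u * u) * x * (u * u) := by group
      _ = x := by rw [huu, one_mul, mul_one]
  · intro f hfx hfy
    have c1 : Commute f x := hfx
    have c2 : Commute f y := hfy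
    rw [hu]
    exact ((c1.mul_right c2).pow_right m).mul_right c1

theorem D_sq_eq_one [Finite G] (hS : Cfsg.IsRankOneSetup G Ω a t Q) {d : G}
    (hd : d ∈ stabilizer G a ⊓ stabilizer G (t • a)) (h : d * d = 1) : d = 1 := by
  have hodd : Odd (orderOf d) := by
    have h1 : orderOf (⟨d, hd⟩ : ↥(stabilizer G a ⊓ stabilizer G (t • a))) ∣
        Nat.card ↥(stabilizer G a ⊓ stabilizer G (t • a)) := orderOf_dvd_natCard _
    rw [Subgroup.orderOf_mk] at h1
    exact Odd.of_dvd_nat hS.odd_card h1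
  have h2 : orderOf d ∣ 2 := orderOf_dvd_of_pow_eq_one (by rw [sq]; exact h)
  have h3 : orderOf d = 1 := by
    rcases (Nat.dvd_prime Nat.prime_two).mp h2 with h | h
    · exact h
    · rw [h] at hodd; exact absurd hodd (by decide)
  exact orderOf_eq_one_iff.mp h3

theorem odd_orderOf_D [Finite G] (hS : Cfsg.IsRankOneSetup G Ω a t Q) {d : G}
    (hd : d ∈ stabilizer G a ⊓ stabilizer G (t • a)) : Odd (orderOf d) := by
  have h1 : orderOf (⟨d, hd⟩ : ↥(stabilizer G a ⊓ stabilizer G (t • a))) ∣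
      Nat.card ↥(stabilizer G a ⊓ stabilizer G (t • a)) := orderOf_dvd_natCard _
  rw [Subgroup.orderOf_mk] at h1
  exact Odd.of_dvd_nat hS.odd_card h1

/-- conjugating `t s t`-type involution: if `u s' u = s₁` with `s'` fixing `a`, `s₁` fixing `t a`,
then `u` swaps `a` and `t a`. -/
theorem swap_of_conj [Finite G] (hS : Cfsg.IsRankOneSetup G Ω a t Q) {u s' s₁ : G}
    (hs'a : s' • a = a) (hs₁1 : s₁ ≠ 1) (hs₁2 : s₁ * s₁ = 1)
    (hs₁b : s₁ • (t • a) = t • a) (hu2 : u * u = 1) (hu : u * s' * u = s₁) :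
    u • a = t • a ∧ u • (t • a) = a := by
  have h1 : s₁ • (u • a) = u • a := by
    rw [← hu, mul_smul, mul_smul, smul_smul u u, hu2, one_smul, hs'a]
  have h2 : u • a = t • a := invol_fix_eq hS hs₁1 hs₁2 h1 hs₁b
  refine ⟨h2, ?_⟩
  rw [← h2, smul_smul, hu2, one_smul]

theorem mem_K_of_swap (hS : Cfsg.IsRankOneSetup G Ω a t Q) {u : G} (hu2 : u * u = 1)
    (hua : u • a = t • a) :
    t * u ∈ Cfsg.invertedBy (stabilizer G a ⊓ stabilizer G (t • a)) t := by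
  have hub : u • (t • a) = a := by rw [← hua, smul_smul, hu2, one_smul]
  have hui : u⁻¹ = u := inv_eq_of_mul_eq_one_right hu2
  refine ⟨?_, ?_⟩
  · rw [mem_D_iff]
    constructor
    · rw [mul_smul, hua, tta hS]
    · rw [mul_smul, hub]
  · rw [mul_inv_rev, t_inv hS, hui]
    simp only [tt_cancel hS]

theorem K_invol (hS : Cfsg.IsRankOneSetup G Ω a t Q) {k : G}
    (hk : k ∈ Cfsg.invertedBy (stabilizer G a ⊓ stabilizer G (t • a)) t) :
    (t * k) * (t * k) = 1 ∧ (t * k) • a = t • a := by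
  obtain ⟨hkD, hkinv⟩ := hk
  rw [t_inv hS] at hkinv
  refine ⟨?_, ?_⟩
  · calc t * k * (t * k) = (t * k * t) * k := by group
      _ = 1 := by rw [hkinv, inv_mul_cancel]
  · rw [mul_smul, D_fix_a hkD]

theorem tst_props (hS : Cfsg.IsRankOneSetup G Ω a t Q) {s : G}
    (hs : s ∈ Cfsg.involutionsIn (stabilizer G a : Set G)) :
    t * s * t ≠ 1 ∧ (t * s * t) * (t * s * t) = 1 ∧ (t * s * t) • (t • a) = t • a := by
  obtain ⟨hsa, hs1, hs2⟩ := hs
  have hsa' : s • a = a := mem_stabilizer_iff.mp hsa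
  refine ⟨?_, ?_, ?_⟩
  · intro h
    apply hs1
    have e : s = t * (t * s * t) * t := by
      simp only [mul_assoc, tt_cancel hS, hS.mul_self, mul_one]
    rw [e, h, mul_one, hS.mul_self]
  · simp only [mul_assoc, tt_cancel hS]
    rw [← mul_assoc s s, hs2, one_mul, hS.mul_self]
  · rw [mul_smul, mul_smul, tta hS, hsa']

/-- Uniqueness of an involution conjugating `s₁` (fixing `t a`) to `s'` (fixing `a`). -/
theorem swap_invol_unique [Finite G] (hS : Cfsg.IsRankOneSetup G Ω a t Q) {s' s₁ u u' : G}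
    (hs' : s' ∈ Cfsg.involutionsIn (stabilizer G a : Set G))
    (hs₁1 : s₁ ≠ 1) (hs₁2 : s₁ * s₁ = 1) (hs₁b : s₁ • (t • a) = t • a)
    (hu2 : u * u = 1) (hu : u * s₁ * u = s') (hu'2 : u' * u' = 1) (hu' : u' * s₁ * u' = s') :
    u = u' := by
  obtain ⟨hs'a, hs'1, hs'2⟩ := hs'
  have hs'a' : s' • a = a := mem_stabilizer_iff.mp hs'a
  have hs₁a : s₁ • a ≠ a := by
    intro h
    exact ta_ne hS (invol_fix_eq hS hs₁1 hs₁2 hs₁b h)
  have hodd : Odd (orderOf (s' * s₁)) := odd_orderOf_mul hS hs'1 hs'2 hs₁1 hs₁2 hs'a' hs₁a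
  obtain ⟨u₀, hu₀2, hu₀s', hu₀s₁, hu₀c⟩ := dihedral_swap hs'2 hs₁2 hodd
  have key : ∀ {v : G}, v * v = 1 → v * s₁ * v = s' → v = u₀ := by
    intro v hv2 hv
    have hv' : v * s' * v = s₁ := by
      rw [← hv]
      calc v * (v * s₁ * v) * v = (v * v) * s₁ * (v * v) := by group
        _ = s₁ := by rw [hv2, one_mul, mul_one]
    obtain ⟨hva, hvb⟩ := swap_of_conj hS hs'a' hs₁1 hs₁2 hs₁b hv2 hv'
    obtain ⟨hu₀a, hu₀b⟩ := swap_of_conj hS hs'a' hs₁1 hs₁2 hs₁b hu₀2 hu₀s'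
    have hfD : u₀ * v ∈ stabilizer G a ⊓ stabilizer G (t • a) := by
      rw [mem_D_iff]
      constructor
      · rw [mul_smul, hva, hu₀b]
      · rw [mul_smul, hvb, hu₀a]
    have hf1 : (u₀ * v) * s₁ = s₁ * (u₀ * v) := by
      calc (u₀ * v) * s₁ = u₀ * (v * s₁ * v) * (v * v)⁻¹ * v := by group
        _ = u₀ * s' * v := by rw [hv, hv2, inv_one, mul_one]
        _ = (u₀ * s' * u₀) * (u₀ * u₀)⁻¹ * (u₀ * v) := by group
        _ = s₁ * (u₀ * v) := by rw [hu₀s', hu₀2, inv_one, mul_one]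
    have hf2 : (u₀ * v) * s' = s' * (u₀ * v) := by
      calc (u₀ * v) * s' = u₀ * (v * s' * v) * (v * v)⁻¹ * v := by group
        _ = u₀ * s₁ * v := by rw [hv', hv2, inv_one, mul_one]
        _ = (u₀ * s₁ * u₀) * (u₀ * u₀)⁻¹ * (u₀ * v) := by group
        _ = s' * (u₀ * v) := by rw [hu₀s₁, hu₀2, inv_one, mul_one]
    have hf3 : (u₀ * v) * u₀ = u₀ * (u₀ * v) := hu₀c _ hf2 hf1
    have hff : (u₀ * v) * (u₀ * v) = 1 := by
      calc (u₀ * v) * (u₀ * v) = ((u₀ * v) * u₀) * v := by group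
        _ = (u₀ * (u₀ * v)) * v := by rw [hf3]
        _ = (u₀ * u₀) * (v * v) := by group
        _ = 1 := by rw [hu₀2, hv2, one_mul]
    have hf : u₀ * v = 1 := D_sq_eq_one hS hfD hff
    have : v = u₀⁻¹ := eq_inv_of_mul_eq_one_right hf
    rw [this, inv_eq_of_mul_eq_one_right hu₀2]
  rw [key hu2 hu, key hu'2 hu']

theorem K_trans [Finite G] (hS : Cfsg.IsRankOneSetup G Ω a t Q) {s s' : G}
    (hs : s ∈ Cfsg.involutionsIn (stabilizer G a : Set G))
    (hs' : s' ∈ Cfsg.involutionsIn (stabilizer G a : Set G)) :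
    ∃ k ∈ Cfsg.invertedBy (stabilizer G a ⊓ stabilizer G (t • a)) t, k⁻¹ * s * k = s' := by
  obtain ⟨h₁1, h₁2, h₁b⟩ := tst_props hS hs
  obtain ⟨hs'a, hs'1, hs'2⟩ := hs'
  have hs'a' : s' • a = a := mem_stabilizer_iff.mp hs'a
  have hs₁a : (t * s * t) • a ≠ a := by
    intro h
    exact ta_ne hS (invol_fix_eq hS h₁1 h₁2 h₁b h)
  have hodd : Odd (orderOf (s' * (t * s * t))) :=
    odd_orderOf_mul hS hs'1 hs'2 h₁1 h₁2 hs'a' hs₁a
  obtain ⟨u₀, hu₀2, hu₀s', hu₀s₁, -⟩ := dihedral_swap hs'2 h₁2 hodd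
  obtain ⟨hu₀a, -⟩ := swap_of_conj hS hs'a' h₁1 h₁2 h₁b hu₀2 hu₀s'
  refine ⟨t * u₀, mem_K_of_swap hS hu₀2 hu₀a, ?_⟩
  rw [← hu₀s₁, mul_inv_rev, t_inv hS, inv_eq_of_mul_eq_one_right hu₀2]
  group

theorem K_unique [Finite G] (hS : Cfsg.IsRankOneSetup G Ω a t Q) {s k₁ k₂ : G}
    (hs : s ∈ Cfsg.involutionsIn (stabilizer G a : Set G))
    (hk₁ : k₁ ∈ Cfsg.invertedBy (stabilizer G a ⊓ stabilizer G (t • a)) t)
    (hk₂ : k₂ ∈ Cfsg.invertedBy (stabilizer G a ⊓ stabilizer G (t • a)) t)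
    (h : k₁⁻¹ * s * k₁ = k₂⁻¹ * s * k₂) : k₁ = k₂ := by
  obtain ⟨h₁1, h₁2, h₁b⟩ := tst_props hS hs
  have hconj : ∀ {k : G}, k ∈ Cfsg.invertedBy (stabilizer G a ⊓ stabilizer G (t • a)) t →
      k⁻¹ * s * k ∈ Cfsg.involutionsIn (stabilizer G a : Set G) ∧
      (t * k) * (t * s * t) * (t * k) = k⁻¹ * s * k := by
    intro k hk
    obtain ⟨hsa, hs1, hs2⟩ := hs
    have hkD := hk.1
    have hkinv := hk.2
    rw [t_inv hS] at hkinv
    refine ⟨⟨?_, ?_, ?_⟩, ?_⟩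
    · exact Subgroup.mul_mem _ (Subgroup.mul_mem _ (Subgroup.inv_mem _ (D_le_Ga hkD)) hsa)
        (D_le_Ga hkD)
    · intro h
      apply hs1
      have e : s = k * (k⁻¹ * s * k) * k⁻¹ := by group
      rw [e, h]; group
    · calc k⁻¹ * s * k * (k⁻¹ * s * k) = k⁻¹ * (s * s) * k := by group
        _ = 1 := by rw [hs2]; group
    · calc (t * k) * (t * s * t) * (t * k) = (t * k * t) * s * (t * t) * k := by group
        _ = k⁻¹ * s * k := by rw [hkinv, hS.mul_self, mul_one]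
  obtain ⟨hi₁, hc₁⟩ := hconj hk₁
  obtain ⟨-, hc₂⟩ := hconj hk₂
  rw [← h] at hc₂
  have := swap_invol_unique hS hi₁ h₁1 h₁2 h₁b (K_invol hS hk₁).1 hc₁ (K_invol hS hk₂).1 hc₂
  exact mul_left_cancel this

end Cfsg.Agent.helper6.RankOne
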