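import Mathlib
import Cfsg.Agent.Lib_helper6_RankOne3

set_option autoImplicit false

namespace Cfsg.Agent.helper6.UFP

open MulAction
open Cfsg.Agent.helper6.RankOne (dihedral_semiconj dihedral_central conj_of_odd_mul dihedral_swap)

variable {G X : Type*} [Group G] [MulAction G X]

/-- Every involution fixes exactly one point. -/
def Hyp (G X : Type*) [Group G] [MulAction G X] : Prop :=
  ∀ u : G, u ≠ 1 → u * u = 1 → ∃ c : X, u • c = c ∧ ∀ c' : X, u • c' = c' → c' = c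

theorem orderOf_eq_two_iff {g : G} : orderOf g = 2 ↔ g ≠ 1 ∧ g * g = 1 := by
  constructor
  · intro h
    refine ⟨?_, ?_⟩
    · intro h1
      rw [h1, orderOf_one] at h
      exact absurd h (by decide)
    · have := pow_orderOf_eq_one g
      rwa [h, sq] at this
  · rintro ⟨h1, h2⟩
    have : Fact (Nat.Prime 2) := ⟨Nat.prime_two⟩
    exact orderOf_eq_prime (by rw [sq]; exact h2) h1

theorem fix_eq (h : Hyp G X) {u : G} (hu1 : u ≠ 1) (hu2 : u * u = 1) {c c' : X}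
    (hc : u • c = c) (hc' : u • c' = c') : c = c' := by
  obtain ⟨e, -, he⟩ := h u hu1 hu2
  rw [he c hc, he c' hc']

theorem exists_fix (h : Hyp G X) {u : G} (hu1 : u ≠ 1) (hu2 : u * u = 1) : ∃ c : X, u • c = c := by
  obtain ⟨e, he, -⟩ := h u hu1 hu2
  exact ⟨e, he⟩

theorem eq_one_of_fix_two (h : Hyp G X) {d : G} (hd : d * d = 1) {x y : X} (hxy : x ≠ y)
    (hx : d • x = x) (hy : d • y = y) : d = 1 := by
  by_contra h1
  exact hxy (fix_eq h h1 hd hx hy)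

theorem odd_orderOf_mul [Finite G] (h : Hyp G X) {s u : G} (hs1 : s ≠ 1)
    (hs2 : s * s = 1) (hu1 : u ≠ 1) (hu2 : u * u = 1) {c : X} (hsc : s • c = c)
    (huc : u • c ≠ c) : Odd (orderOf (s * u)) := by
  by_contra hodd
  rw [Nat.not_odd_iff_even] at hodd
  obtain ⟨m, hm⟩ := hodd
  have hm0 : 0 < m := by
    have := orderOf_pos (s * u)
    omega
  obtain ⟨hz1, hz2, hzs, hzu⟩ := dihedral_central hs2 hu2 hm hm0
  obtain ⟨e, he⟩ := exists_fix h hz1 hz2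
  have hse : s • e = e := by
    apply fix_eq h hz1 hz2 _ he
    rw [smul_smul, ← hzs, mul_smul, he]
  have hue : u • e = e := by
    apply fix_eq h hz1 hz2 _ he
    rw [smul_smul, ← hzu, mul_smul, he]
  have hec : e = c := fix_eq h hs1 hs2 hse hsc
  rw [hec] at hue
  exact huc hue

theorem swap_of_conj (h : Hyp G X) {u s' s₁ : G} {x y : X}
    (hs'x : s' • x = x) (hs₁1 : s₁ ≠ 1) (hs₁2 : s₁ * s₁ = 1)
    (hs₁y : s₁ • y = y) (hu2 : u * u = 1) (hu : u * s' * u = s₁) :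
    u • x = y ∧ u • y = x := by
  have h1 : s₁ • (u • x) = u • x := by
    rw [← hu, mul_smul, mul_smul, smul_smul u u, hu2, one_smul, hs'x]
  have h2 : u • x = y := fix_eq h hs₁1 hs₁2 h1 hs₁y
  refine ⟨h2, ?_⟩
  rw [← h2, smul_smul, hu2, one_smul]

theorem exists_swap [Finite G] (h : Hyp G X) {x y : X} (hxy : x ≠ y) {s' s₁ : G}
    (hs'1 : s' ≠ 1) (hs'2 : s' * s' = 1) (hs'x : s' • x = x)
    (hs₁1 : s₁ ≠ 1) (hs₁2 : s₁ * s₁ = 1) (hs₁y : s₁ • y = y) :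
    ∃ u : G, u * u = 1 ∧ u * s' * u = s₁ ∧ u * s₁ * u = s' ∧ u • x = y ∧ u • y = x ∧
      ∀ f : G, f * s' = s' * f → f * s₁ = s₁ * f → f * u = u * f := by
  have hs₁x : s₁ • x ≠ x := fun h1 => hxy (fix_eq h hs₁1 hs₁2 h1 hs₁y)
  have hodd : Odd (orderOf (s' * s₁)) := odd_orderOf_mul h hs'1 hs'2 hs₁1 hs₁2 hs'x hs₁x
  obtain ⟨u₀, hu₀2, hu₀s', hu₀s₁, hu₀c⟩ := dihedral_swap hs'2 hs₁2 hodd
  obtain ⟨h1, h2⟩ := swap_of_conj h hs'x hs₁1 hs₁2 hs₁y hu₀2 hu₀s'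
  exact ⟨u₀, hu₀2, hu₀s', hu₀s₁, h1, h2, hu₀c⟩

theorem swap_invol_unique [Finite G] (h : Hyp G X) {x y : X} (hxy : x ≠ y) {s' s₁ u u' : G}
    (hs'1 : s' ≠ 1) (hs'2 : s' * s' = 1) (hs'x : s' • x = x)
    (hs₁1 : s₁ ≠ 1) (hs₁2 : s₁ * s₁ = 1) (hs₁y : s₁ • y = y)
    (hu2 : u * u = 1) (hu : u * s₁ * u = s') (hu'2 : u' * u' = 1) (hu' : u' * s₁ * u' = s') :
    u = u' := by
  obtain ⟨u₀, hu₀2, hu₀s', hu₀s₁, hu₀x, hu₀y, hu₀c⟩ :=
    exists_swap h hxy hs'1 hs'2 hs'x hs₁1 hs₁2 hs₁y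
  have key : ∀ {v : G}, v * v = 1 → v * s₁ * v = s' → v = u₀ := by
    intro v hv2 hv
    have hv' : v * s' * v = s₁ := by
      rw [← hv]
      calc v * (v * s₁ * v) * v = (v * v) * s₁ * (v * v) := by group
        _ = s₁ := by rw [hv2, one_mul, mul_one]
    obtain ⟨hvx, hvy⟩ := swap_of_conj h hs'x hs₁1 hs₁2 hs₁y hv2 hv'
    have hfx : (u₀ * v) • x = x := by rw [mul_smul, hvx, hu₀y]
    have hfy : (u₀ * v) • y = y := by rw [mul_smul, hvy, hu₀x]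
    have hf1 : (u₀ * v) * s₁ = s₁ * (u₀ * v) := by
      calc (u₀ * v) * s₁ = u₀ * (v * s₁ * v) * (v * v)⁻¹ * v := by group
        _ = u₀ * s' * v := by rw [hv, hv2, inv_one, mul_one]
        _ = (u₀ * s' * u₀) * (u₀ * u₀)⁻¹ * (u₀ * v) := by group
        _ = s₁ * (u₀ * v) := by rw [hu₀s', hu₀2, inv_one, mul_one]
    have hf2 : (u₀ * v) * s' = s' * (u₀ * v) := by
      calc (u₀ * v) * s' = u₀ * (v * s' * v) * (v * v)⁻¹ * v := by group
        _ = u₀ * s₁ * v := by rw [hv', hv2, inv_one, mul_one]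
        _ = (u₀ * s₁ * u₀) * (u₀ * u₀)⁻¹ * (u₀ * v) := by group
        _ = s' * (u₀ * v) := by rw [hu₀s₁, hu₀2, inv_one, mul_one]
    have hf3 : (u₀ * v) * u₀ = u₀ * (u₀ * v) := hu₀c _ hf2 hf1
    have hff : (u₀ * v) * (u₀ * v) = 1 := by
      calc (u₀ * v) * (u₀ * v) = ((u₀ * v) * u₀) * v := by group
        _ = (u₀ * (u₀ * v)) * v := by rw [hf3]
        _ = (u₀ * u₀) * (v * v) := by group
        _ = 1 := by rw [hu₀2, hv2, one_mul]
    have hf : u₀ * v = 1 := eq_one_of_fix_two h hff hxy hfx hfy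
    have : v = u₀⁻¹ := eq_inv_of_mul_eq_one_right hf
    rw [this, inv_eq_of_mul_eq_one_right hu₀2]
  rw [key hu2 hu, key hu'2 hu']

theorem conj_invol {s g : G} (hs1 : s ≠ 1) (hs2 : s * s = 1) :
    g * s * g⁻¹ ≠ 1 ∧ (g * s * g⁻¹) * (g * s * g⁻¹) = 1 := by
  refine ⟨?_, ?_⟩
  · intro h
    apply hs1
    have e : s = g⁻¹ * (g * s * g⁻¹) * g := by group
    rw [e, h]; group
  · calc g * s * g⁻¹ * (g * s * g⁻¹) = g * (s * s) * g⁻¹ := by group
      _ = 1 := by rw [hs2]; group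

/-- The number of involutions swapping `x` and `y` equals the number of involutions fixing `x`. -/
theorem card_swap [Finite G] (h : Hyp G X) {x y : X} (hxy : x ≠ y) {s₁ : G}
    (hs₁ : orderOf s₁ = 2) (hs₁y : s₁ • y = y) :
    Nat.card {i : G // orderOf i = 2 ∧ i • x = y} =
      Nat.card {s : G // orderOf s = 2 ∧ s • x = x} := by
  obtain ⟨hs₁1, hs₁2⟩ := orderOf_eq_two_iff.mp hs₁
  have hmem : ∀ i : {i : G // orderOf i = 2 ∧ i • x = y},
      orderOf ((i : G) * s₁ * (i : G)) = 2 ∧ ((i : G) * s₁ * (i : G)) • x = x := by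
    rintro ⟨i, hi, hix⟩
    obtain ⟨hi1, hi2⟩ := orderOf_eq_two_iff.mp hi
    have hii : i⁻¹ = i := inv_eq_of_mul_eq_one_right hi2
    have hc := conj_invol (g := i) hs₁1 hs₁2
    rw [hii] at hc
    refine ⟨orderOf_eq_two_iff.mpr hc, ?_⟩
    show (i * s₁ * i) • x = x
    rw [mul_smul, mul_smul, hix, hs₁y, ← hix, smul_smul, hi2, one_smul]
  let φ : {i : G // orderOf i = 2 ∧ i • x = y} → {s : G // orderOf s = 2 ∧ s • x = x} :=
    fun i => ⟨(i : G) * s₁ * (i : G), hmem i⟩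
  have hφ : Function.Bijective φ := by
    constructor
    · rintro ⟨i, hi, hix⟩ ⟨i', hi', hix'⟩ heq
      have heq' : i * s₁ * i = i' * s₁ * i' := congrArg Subtype.val heq
      obtain ⟨hi1, hi2⟩ := orderOf_eq_two_iff.mp hi
      obtain ⟨hi'1, hi'2⟩ := orderOf_eq_two_iff.mp hi'
      obtain ⟨hm1, hm2⟩ := hmem ⟨i, hi, hix⟩
      obtain ⟨hn1, hn2⟩ := orderOf_eq_two_iff.mp hm1
      apply Subtype.ext
      exact swap_invol_unique h hxy hn1 hn2 hm2 hs₁1 hs₁2 hs₁y hi2 rfl hi'2 heq'.symm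
    · rintro ⟨s', hs', hs'x⟩
      obtain ⟨hs'1, hs'2⟩ := orderOf_eq_two_iff.mp hs'
      obtain ⟨u, hu2, -, hus₁, hux, -, -⟩ := exists_swap h hxy hs'1 hs'2 hs'x hs₁1 hs₁2 hs₁y
      have hu1 : u ≠ 1 := by
        intro h1
        rw [h1, one_smul] at hux
        exact hxy hux
      exact ⟨⟨u, orderOf_eq_two_iff.mpr ⟨hu1, hu2⟩, hux⟩, Subtype.ext hus₁⟩
  exact Nat.card_congr (Equiv.ofBijective φ hφ)

/-- In a transitive action with at least two points, all involutions are conjugate. -/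
theorem invol_conj [Finite G] (h : Hyp G X) [IsPretransitive G X] (hX : ∀ c : X, ∃ e : X, e ≠ c)
    {u v : G} (hu1 : u ≠ 1) (hu2 : u * u = 1) (hv1 : v ≠ 1) (hv2 : v * v = 1) :
    ∃ g : G, g * u * g⁻¹ = v := by
  have key : ∀ {u v : G} {c : X}, u ≠ 1 → u * u = 1 → v ≠ 1 → v * v = 1 → u • c = c → v • c ≠ c →
      ∃ g : G, g * u * g⁻¹ = v := by
    intro u v c hu1 hu2 hv1 hv2 huc hvc
    obtain ⟨g, -, hg⟩ := conj_of_odd_mul hu2 hv2 (odd_orderOf_mul h hu1 hu2 hv1 hv2 huc hvc)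
    exact ⟨g, hg⟩
  obtain ⟨c, hc⟩ := exists_fix h hu1 hu2
  by_cases hvc : v • c = c
  · obtain ⟨e, hec⟩ := hX c
    obtain ⟨g, hg⟩ := MulAction.exists_smul_eq G c e
    obtain ⟨hw1, hw2⟩ := conj_invol (g := g) hu1 hu2
    have hwe : (g * u * g⁻¹) • e = e := by
      rw [← hg, mul_smul, mul_smul, inv_smul_smul, hc]
    have hve : v • e ≠ e := by
      intro h1
      exact hec (fix_eq h hv1 hv2 h1 hvc)
    obtain ⟨g', hg'⟩ := key hw1 hw2 hv1 hv2 hwe hve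
    refine ⟨g' * g, ?_⟩
    rw [← hg']
    group
  · exact key hu1 hu2 hv1 hv2 hc hvc

end Cfsg.Agent.helper6.UFP
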