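import Mathlib
import Cfsg.Prelude.Def_Involutions
import Cfsg.Agent.Lib_helper6_UFP
import Cfsg.Agent.Lib_helper2_SE
import Cfsg.Agent.Lib_helper5_Sylow

set_option autoImplicit false

namespace Cfsg.Agent.helper6.SE

open MulAction

variable {G : Type*} [Group G]

theorem smul_mk_eq_iff (H : Subgroup G) (u g : G) :
    u • (QuotientGroup.mk g : G ⧸ H) = QuotientGroup.mk g ↔ g⁻¹ * u * g ∈ H := by
  rw [MulAction.Quotient.smul_mk, smul_eq_mul, QuotientGroup.eq]
  have e : (u * g)⁻¹ * g = (g⁻¹ * u * g)⁻¹ := by group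
  rw [e, inv_mem_iff]

theorem smul_mk_one_eq_iff (H : Subgroup G) (u : G) :
    u • (QuotientGroup.mk 1 : G ⧸ H) = QuotientGroup.mk 1 ↔ u ∈ H := by
  rw [smul_mk_eq_iff]
  simp

theorem orderOf_conj' (g s : G) : orderOf (g⁻¹ * s * g) = orderOf s := by
  have : g⁻¹ * s * g = MulAut.conj g⁻¹ s := by simp
  rw [this, MulEquiv.orderOf_eq]

theorem orderOf_conj (g s : G) : orderOf (g * s * g⁻¹) = orderOf s := by
  have := orderOf_conj' g⁻¹ s
  rwa [inv_inv] at this

variable [Finite G]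

/-- A strongly embedded subgroup contains a Sylow 2-subgroup of `G`. -/
theorem exists_sylow_le (H : Subgroup G) (hH : Cfsg.IsStronglyEmbedded H) :
    ∃ T : Sylow 2 G, (T : Subgroup G) ≤ H := by
  have : Fact (Nat.Prime 2) := ⟨Nat.prime_two⟩
  obtain ⟨-, heven, hse⟩ := (Cfsg.Agent.helper2.se_iff H).mp hH
  let P₀ : Sylow 2 H := default
  have hS : IsPGroup 2 ((P₀ : Subgroup H).map H.subtype) := P₀.2.map _
  obtain ⟨T, hST⟩ := hS.exists_le_sylow
  have hSH : (P₀ : Subgroup H).map H.subtype ≤ H := Subgroup.map_subtype_le _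
  suffices hTS : (T : Subgroup G) ≤ (P₀ : Subgroup H).map H.subtype from ⟨T, hTS.trans hSH⟩
  by_contra hne
  have hlt : (P₀ : Subgroup H).map H.subtype < T := lt_of_le_of_ne hST (fun h => hne h.ge)
  obtain ⟨x, hxT, hxS, hxN⟩ :=
    Cfsg.Agent.helper5.exists_mem_normalizer_not_mem 2 (T : Subgroup G)
      ((P₀ : Subgroup H).map H.subtype) T.isPGroup' hlt
  -- an involution in S
  have hcardS : Nat.card ((P₀ : Subgroup H).map H.subtype) = 2 ^ (Nat.card H).factorization 2 := by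
    rw [Subgroup.card_map_of_injective H.subtype_injective]
    exact Sylow.card_eq_multiplicity P₀
  have h2S : 2 ∣ Nat.card ((P₀ : Subgroup H).map H.subtype) := by
    rw [hcardS]
    apply dvd_pow_self
    have h2H : 2 ∣ Nat.card H := heven.two_dvd
    have hpos : 0 < (Nat.card H).factorization 2 :=
      Nat.Prime.factorization_pos_of_dvd Nat.prime_two Nat.card_pos.ne' h2H
    exact hpos.ne'
  obtain ⟨t, ht⟩ := exists_prime_orderOf_dvd_card' 2 h2S
  have ht' : orderOf (t : G) = 2 := by rw [Subgroup.orderOf_coe]; exact ht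
  have hxH : x ∈ H := by
    by_contra hxH
    apply hse x hxH (t : G) (hSH t.2) ht'
    rw [Subgroup.mem_normalizer_iff''] at hxN
    exact hSH ((hxN _).mp t.2)
  have hQ : IsPGroup 2 ((T : Subgroup G).subgroupOf H) := T.isPGroup'.comap_subtype
  have hle : (P₀ : Subgroup H) ≤ (T : Subgroup G).subgroupOf H := by
    intro y hy
    rw [Subgroup.mem_subgroupOf]
    exact hST ⟨y, hy, rfl⟩
  have hmax := P₀.is_maximal' hQ hle
  have hxQ : (⟨x, hxH⟩ : H) ∈ (T : Subgroup G).subgroupOf H := by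
    rw [Subgroup.mem_subgroupOf]
    exact hxT
  rw [hmax] at hxQ
  exact hxS ⟨⟨x, hxH⟩, hxQ, rfl⟩

/-- In the coset action on a strongly embedded subgroup, every involution fixes exactly one
point. -/
theorem hyp_of_SE (H : Subgroup G) (hH : Cfsg.IsStronglyEmbedded H) :
    Cfsg.Agent.helper6.UFP.Hyp G (G ⧸ H) := by
  have : Fact (Nat.Prime 2) := ⟨Nat.prime_two⟩
  obtain ⟨-, -, hse⟩ := (Cfsg.Agent.helper2.se_iff H).mp hH
  obtain ⟨T, hTH⟩ := exists_sylow_le H hH
  intro u hu1 hu2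
  have hu : orderOf u = 2 := UFP.orderOf_eq_two_iff.mpr ⟨hu1, hu2⟩
  have hz : IsPGroup 2 (Subgroup.zpowers u) := by
    apply IsPGroup.of_card (n := 1)
    rw [Nat.card_zpowers, hu, pow_one]
  obtain ⟨T', hT'⟩ := hz.exists_le_sylow
  obtain ⟨g, hg⟩ := MulAction.exists_smul_eq G T T'
  have huT' : u ∈ ((g • T : Sylow 2 G) : Subgroup G) := by
    rw [hg]
    exact hT' (Subgroup.mem_zpowers u)
  rw [Cfsg.Agent.helper5.mem_smul_sylow_iff] at huT'
  refine ⟨QuotientGroup.mk g, (smul_mk_eq_iff H u g).mpr (hTH huT'), ?_⟩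
  intro c' hc'
  obtain ⟨g', rfl⟩ := QuotientGroup.mk_surjective c'
  rw [smul_mk_eq_iff] at hc'
  rw [QuotientGroup.eq]
  by_contra hk
  have ht2 : orderOf (g'⁻¹ * u * g') = 2 := by rw [orderOf_conj', hu]
  apply hse _ hk _ hc' ht2
  have e : (g'⁻¹ * g)⁻¹ * (g'⁻¹ * u * g') * (g'⁻¹ * g) = g⁻¹ * u * g := by group
  rw [e]
  exact hTH huT'

theorem exists_invol_mem (H : Subgroup G) (hH : Cfsg.IsStronglyEmbedded H) :
    ∃ t ∈ H, orderOf t = 2 := by
  have : Fact (Nat.Prime 2) := ⟨Nat.prime_two⟩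
  obtain ⟨-, heven, -⟩ := hH
  obtain ⟨t, ht⟩ := exists_prime_orderOf_dvd_card' 2 heven.two_dvd
  exact ⟨t, t.2, by rw [Subgroup.orderOf_coe]; exact ht⟩

theorem exists_invol_fix (H : Subgroup G) (hH : Cfsg.IsStronglyEmbedded H) (y : G ⧸ H) :
    ∃ s : G, orderOf s = 2 ∧ s • y = y := by
  obtain ⟨t, htH, ht⟩ := exists_invol_mem H hH
  obtain ⟨g, rfl⟩ := QuotientGroup.mk_surjective y
  refine ⟨g * t * g⁻¹, by rw [orderOf_conj, ht], ?_⟩
  rw [smul_mk_eq_iff]
  have e : g⁻¹ * (g * t * g⁻¹) * g = t := by group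
  rw [e]
  exact htH

end Cfsg.Agent.helper6.SE
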