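import Mathlib
import Cfsg.Prelude.Def_Involutions
import Cfsg.Agent.Lib_helper6_SE

set_option autoImplicit false

namespace Cfsg.Agent.helper6.CIT

variable {G : Type*} [Group G] [Finite G]

/-- The standing hypothesis: a non-cyclic Sylow 2-subgroup and elementary abelian involution
centralizers. -/
structure Setup (T : Sylow 2 G) : Prop where
  hnc : ¬ IsCyclic (T : Subgroup G)
  hC : ∀ t : G, orderOf t = 2 → IsMulCommutative (Subgroup.centralizer ({t} : Set G)) ∧
    ∀ c ∈ Subgroup.centralizer ({t} : Set G), c ^ 2 = 1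

theorem isPGroup_centralizer {T : Sylow 2 G} (h : Setup T) {t : G} (ht : orderOf t = 2) :
    IsPGroup 2 (Subgroup.centralizer ({t} : Set G)) := by
  intro c
  refine ⟨1, ?_⟩
  apply Subtype.ext
  rw [pow_one, Subgroup.coe_pow, (h.hC t ht).2 c c.2]
  rfl

theorem ne_bot {T : Sylow 2 G} (h : Setup T) : (T : Subgroup G) ≠ ⊥ := by
  intro hbot
  apply h.hnc
  rw [hbot]
  exact isCyclic_of_subsingleton

/-- A central involution of `T`. -/
theorem exists_central_invol {T : Sylow 2 G} (h : Setup T) :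
    ∃ z ∈ (T : Subgroup G), orderOf z = 2 ∧ ∀ x ∈ (T : Subgroup G), z * x = x * z := by
  have : Fact (Nat.Prime 2) := ⟨Nat.prime_two⟩
  have hnt : Nontrivial (T : Subgroup G) := (Subgroup.nontrivial_iff_ne_bot _).mpr (ne_bot h)
  have hcn : Nontrivial (Subgroup.center (T : Subgroup G)) := T.isPGroup'.center_nontrivial
  have hZ : IsPGroup 2 (Subgroup.center (T : Subgroup G)) := T.isPGroup'.to_subgroup _
  obtain ⟨n, hn0, hn⟩ := hZ.nontrivial_iff_card.mp hcn
  have h2 : 2 ∣ Nat.card (Subgroup.center (T : Subgroup G)) := by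
    rw [hn]; exact dvd_pow_self _ hn0.ne'
  obtain ⟨z, hz⟩ := exists_prime_orderOf_dvd_card' 2 h2
  refine ⟨((z : (T : Subgroup G)) : G), (z : (T : Subgroup G)).2, ?_, ?_⟩
  · rw [Subgroup.orderOf_coe, Subgroup.orderOf_coe]; exact hz
  · intro x hx
    have := Subgroup.mem_center_iff.mp z.2 ⟨x, hx⟩
    have h' := congrArg Subtype.val this
    simp only [Subgroup.coe_mul] at h'
    exact h'.symm

theorem centralizer_eq {T : Sylow 2 G} (h : Setup T) :
    (∀ x ∈ (T : Subgroup G), ∀ y ∈ (T : Subgroup G), x * y = y * x) ∧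
    (∀ x ∈ (T : Subgroup G), x ^ 2 = 1) ∧
    ∀ t ∈ (T : Subgroup G), t ≠ 1 → Subgroup.centralizer ({t} : Set G) = T := by
  obtain ⟨z, hzT, hz, hzc⟩ := exists_central_invol h
  have hle : (T : Subgroup G) ≤ Subgroup.centralizer ({z} : Set G) := by
    intro x hx
    rw [Subgroup.mem_centralizer_iff]
    intro y hy
    rw [Set.mem_singleton_iff.mp hy]
    exact hzc x hx
  have hCz : Subgroup.centralizer ({z} : Set G) = T := T.is_maximal' (isPGroup_centralizer h hz) hle
  have hcomm : ∀ x ∈ (T : Subgroup G), ∀ y ∈ (T : Subgroup G), x * y = y * x := by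
    intro x hx y hy
    have hc := (h.hC z hz).1
    rw [← hCz] at hx hy
    have := hc.is_comm.comm ⟨x, hx⟩ ⟨y, hy⟩
    exact congrArg Subtype.val this
  have hexp : ∀ x ∈ (T : Subgroup G), x ^ 2 = 1 := by
    intro x hx
    rw [← hCz] at hx
    exact (h.hC z hz).2 x hx
  refine ⟨hcomm, hexp, ?_⟩
  intro t ht ht1
  have hto : orderOf t = 2 := by
    have : Fact (Nat.Prime 2) := ⟨Nat.prime_two⟩
    exact orderOf_eq_prime (hexp t ht) ht1
  have hle' : (T : Subgroup G) ≤ Subgroup.centralizer ({t} : Set G) := by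
    intro x hx
    rw [Subgroup.mem_centralizer_iff]
    intro y hy
    rw [Set.mem_singleton_iff.mp hy]
    exact hcomm t ht x hx
  exact T.is_maximal' (isPGroup_centralizer h hto) hle'

/-- An involution normalizing `T` lies in `T`. -/
theorem invol_mem_of_mem_normalizer (T : Sylow 2 G) {s : G} (hs : orderOf s = 2)
    (hsN : s ∈ Subgroup.normalizer ((T : Subgroup G) : Set G)) : s ∈ (T : Subgroup G) := by
  have : Fact (Nat.Prime 2) := ⟨Nat.prime_two⟩
  have hz : IsPGroup 2 (Subgroup.zpowers s) := by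
    apply IsPGroup.of_card (n := 1)
    rw [Nat.card_zpowers, hs, pow_one]
  have hle : Subgroup.zpowers s ≤ Subgroup.normalizer ((T : Subgroup G) : Set G) := by
    rw [Subgroup.zpowers_le]
    exact hsN
  have hsup : IsPGroup 2 (Subgroup.zpowers s ⊔ (T : Subgroup G) : Subgroup G) :=
    hz.to_sup_of_normal_right' T.isPGroup' hle
  have := T.is_maximal' hsup le_sup_right
  rw [← this]
  exact Subgroup.mem_sup_left (Subgroup.mem_zpowers s)

theorem centralizer_conj (g t : G) :
    ∀ c, c ∈ Subgroup.centralizer ({g⁻¹ * t * g} : Set G) ↔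
      g * c * g⁻¹ ∈ Subgroup.centralizer ({t} : Set G) := by
  intro c
  rw [Subgroup.mem_centralizer_iff, Subgroup.mem_centralizer_iff]
  constructor
  · intro h y hy
    rw [Set.mem_singleton_iff.mp hy]
    have := h (g⁻¹ * t * g) rfl
    calc t * (g * c * g⁻¹) = g * ((g⁻¹ * t * g) * c) * g⁻¹ := by group
      _ = g * (c * (g⁻¹ * t * g)) * g⁻¹ := by rw [this]
      _ = g * c * g⁻¹ * t := by group
  · intro h y hy
    rw [Set.mem_singleton_iff.mp hy]
    have := h t rfl
    calc g⁻¹ * t * g * c = g⁻¹ * (t * (g * c * g⁻¹)) * g := by group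
      _ = g⁻¹ * ((g * c * g⁻¹) * t) * g := by rw [this]
      _ = c * (g⁻¹ * t * g) := by group

/-- `N_G(T)` is strongly embedded. -/
theorem normalizer_SE {T : Sylow 2 G} (h : Setup T) (hnn : ¬ (T : Subgroup G).Normal) :
    Cfsg.IsStronglyEmbedded (Subgroup.normalizer ((T : Subgroup G) : Set G)) := by
  rw [Cfsg.Agent.helper2.se_iff]
  obtain ⟨hcomm, hexp, hcent⟩ := centralizer_eq h
  refine ⟨?_, ?_, ?_⟩
  · intro htop
    exact hnn (Subgroup.normalizer_eq_top_iff.mp htop)
  · obtain ⟨z, hzT, hz, -⟩ := exists_central_invol h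
    have hzN : z ∈ Subgroup.normalizer ((T : Subgroup G) : Set G) := Subgroup.le_normalizer hzT
    have hdvd : orderOf (⟨z, hzN⟩ : Subgroup.normalizer ((T : Subgroup G) : Set G)) ∣
        Nat.card (Subgroup.normalizer ((T : Subgroup G) : Set G)) := orderOf_dvd_natCard _
    rw [Subgroup.orderOf_mk, hz] at hdvd
    exact even_iff_two_dvd.mpr hdvd
  · intro g hg t ht hto hgt
    apply hg
    have htT : t ∈ (T : Subgroup G) := invol_mem_of_mem_normalizer T hto ht
    have hgto : orderOf (g⁻¹ * t * g) = 2 := by rw [SE.orderOf_conj', hto]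
    have hgtT : g⁻¹ * t * g ∈ (T : Subgroup G) := invol_mem_of_mem_normalizer T hgto hgt
    have ht1 : t ≠ 1 := (UFP.orderOf_eq_two_iff.mp hto).1
    have hgt1 : g⁻¹ * t * g ≠ 1 := (UFP.orderOf_eq_two_iff.mp hgto).1
    have h1 := hcent t htT ht1
    have h2 := hcent _ hgtT hgt1
    -- g normalizes T
    rw [Subgroup.mem_normalizer_iff]
    intro x
    have key := centralizer_conj g t x
    rw [h1, h2] at key
    exact key

end Cfsg.Agent.helper6.CIT
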