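import Mathlib
import Cfsg.Prelude.Def_Involutions
import Cfsg.Agent.Lib_helper6_CIT

set_option autoImplicit false

namespace Cfsg.Agent.helper6.CIT

variable {G : Type*} [Group G] [Finite G]

/-- Two involutions of a strongly embedded `H` are conjugate by an element of `D = H ∩ H^u`
which is inverted by `u`. -/
theorem SE_exists_conj_inverted (H : Subgroup G) (hH : Cfsg.IsStronglyEmbedded H) {u s t : G}
    (hu : orderOf u = 2) (huH : u ∉ H) (hs : orderOf s = 2) (hsH : s ∈ H)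
    (ht : orderOf t = 2) (htH : t ∈ H) :
    ∃ d ∈ H ⊓ H.map (MulAut.conj u).toMonoidHom, d * s * d⁻¹ = t ∧ u * d * u⁻¹ = d⁻¹ := by
  have hyp := SE.hyp_of_SE H hH
  obtain ⟨hu1, hu2⟩ := UFP.orderOf_eq_two_iff.mp hu
  obtain ⟨hs1, hs2⟩ := UFP.orderOf_eq_two_iff.mp hs
  obtain ⟨ht1, ht2⟩ := UFP.orderOf_eq_two_iff.mp ht
  have hui : u⁻¹ = u := inv_eq_of_mul_eq_one_right hu2
  have hxy : (QuotientGroup.mk 1 : G ⧸ H) ≠ QuotientGroup.mk u := by
    intro h
    rw [QuotientGroup.eq] at h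
    apply huH
    simpa using h
  have hux : u • (QuotientGroup.mk 1 : G ⧸ H) = QuotientGroup.mk u := by
    rw [MulAction.Quotient.smul_mk, smul_eq_mul, mul_one]
  have huy : u • (QuotientGroup.mk u : G ⧸ H) = QuotientGroup.mk 1 := by
    rw [MulAction.Quotient.smul_mk, smul_eq_mul, hu2]
  have hs₁ := UFP.conj_invol (g := u) hs1 hs2
  rw [hui] at hs₁
  have hs₁y : (u * s * u) • (QuotientGroup.mk u : G ⧸ H) = QuotientGroup.mk u := by
    rw [mul_smul, mul_smul, huy, (SE.smul_mk_one_eq_iff H s).mpr hsH, hux]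
  obtain ⟨u₀, hu₀2, -, hu₀s, hu₀x, hu₀y, -⟩ := UFP.exists_swap hyp hxy ht1 ht2
    ((SE.smul_mk_one_eq_iff H t).mpr htH) hs₁.1 hs₁.2 hs₁y
  have hu₀i : u₀⁻¹ = u₀ := inv_eq_of_mul_eq_one_right hu₀2
  refine ⟨u₀ * u, Subgroup.mem_inf.mpr ⟨?_, ?_⟩, ?_, ?_⟩
  · rw [← SE.smul_mk_one_eq_iff H, mul_smul, hux, hu₀y]
  · rw [helper2.mem_conj_map, ← SE.smul_mk_eq_iff H, mul_smul, huy, hu₀x]
  · rw [← hu₀s, mul_inv_rev, hui, hu₀i]
    group
  · rw [mul_inv_rev, hui, hu₀i]
    calc u * (u₀ * u) * u = u * u₀ * (u * u) := by group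
      _ = u * u₀ := by rw [hu2, mul_one]

section

variable {T : Sylow 2 G} (h : Setup T) (hnn : ¬ (T : Subgroup G).Normal) {u : G}
  (hu : orderOf u = 2) (huH : u ∉ Subgroup.normalizer ((T : Subgroup G) : Set G))

include h hnn hu huH

theorem D_inf_T {d : G}
    (hd : d ∈ Subgroup.normalizer ((T : Subgroup G) : Set G) ⊓
      (Subgroup.normalizer ((T : Subgroup G) : Set G)).map (MulAut.conj u).toMonoidHom)
    (hdT : d ∈ (T : Subgroup G)) : d = 1 := by
  by_contra hd1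
  have hSE := normalizer_SE h hnn
  have hyp := SE.hyp_of_SE _ hSE
  obtain ⟨-, hexp, -⟩ := centralizer_eq h
  have hd2 : d * d = 1 := by rw [← sq]; exact hexp d hdT
  obtain ⟨hdH, hdHu⟩ := Subgroup.mem_inf.mp hd
  have hxy : (QuotientGroup.mk 1 : G ⧸ Subgroup.normalizer ((T : Subgroup G) : Set G)) ≠
      QuotientGroup.mk u := by
    intro h'
    rw [QuotientGroup.eq] at h'
    apply huH
    simpa using h'
  apply hxy
  apply UFP.fix_eq hyp hd1 hd2
  · exact (SE.smul_mk_one_eq_iff _ d).mpr hdH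
  · rw [SE.smul_mk_eq_iff]
    exact (helper2.mem_conj_map _ u d).mp hdHu

theorem D_semireg {d t : G}
    (hd : d ∈ Subgroup.normalizer ((T : Subgroup G) : Set G) ⊓
      (Subgroup.normalizer ((T : Subgroup G) : Set G)).map (MulAut.conj u).toMonoidHom)
    (ht : t ∈ (T : Subgroup G)) (ht1 : t ≠ 1) (hdt : d * t * d⁻¹ = t) : d = 1 := by
  obtain ⟨-, -, hcent⟩ := centralizer_eq h
  apply D_inf_T h hnn hu huH hd
  rw [← hcent t ht ht1, Subgroup.mem_centralizer_iff]
  intro y hy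
  rw [Set.mem_singleton_iff.mp hy]
  calc t * d = (d * t * d⁻¹) * d := by rw [hdt]
    _ = d * t := by group

theorem D_trans {s t : G} (hs : s ∈ (T : Subgroup G)) (hs1 : s ≠ 1) (ht : t ∈ (T : Subgroup G))
    (ht1 : t ≠ 1) :
    ∃ d ∈ Subgroup.normalizer ((T : Subgroup G) : Set G) ⊓
      (Subgroup.normalizer ((T : Subgroup G) : Set G)).map (MulAut.conj u).toMonoidHom,
      d * s * d⁻¹ = t ∧ u * d * u⁻¹ = d⁻¹ := by
  have : Fact (Nat.Prime 2) := ⟨Nat.prime_two⟩
  obtain ⟨-, hexp, -⟩ := centralizer_eq h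
  have hso : orderOf s = 2 := orderOf_eq_prime (hexp s hs) hs1
  have hto : orderOf t = 2 := orderOf_eq_prime (hexp t ht) ht1
  exact SE_exists_conj_inverted _ (normalizer_SE h hnn) hu huH hso (Subgroup.le_normalizer hs) hto
    (Subgroup.le_normalizer ht)

theorem D_inverted {d : G}
    (hd : d ∈ Subgroup.normalizer ((T : Subgroup G) : Set G) ⊓
      (Subgroup.normalizer ((T : Subgroup G) : Set G)).map (MulAut.conj u).toMonoidHom) :
    u * d * u⁻¹ = d⁻¹ := by
  obtain ⟨z, hzT, hz, -⟩ := exists_central_invol h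
  have hz1 : z ≠ 1 := (UFP.orderOf_eq_two_iff.mp hz).1
  have hdN : d ∈ Subgroup.normalizer ((T : Subgroup G) : Set G) := (Subgroup.mem_inf.mp hd).1
  have hsT : d * z * d⁻¹ ∈ (T : Subgroup G) := (Subgroup.mem_normalizer_iff.mp hdN z).mp hzT
  have hs1 : d * z * d⁻¹ ≠ 1 := (UFP.conj_invol (g := d) hz1 (UFP.orderOf_eq_two_iff.mp hz).2).1
  obtain ⟨k, hk, hkz, hkinv⟩ := D_trans h hnn hu huH hzT hz1 hsT hs1
  have hmem : d⁻¹ * k ∈ Subgroup.normalizer ((T : Subgroup G) : Set G) ⊓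
      (Subgroup.normalizer ((T : Subgroup G) : Set G)).map (MulAut.conj u).toMonoidHom :=
    Subgroup.mul_mem _ (Subgroup.inv_mem _ hd) hk
  have hfix : (d⁻¹ * k) * z * (d⁻¹ * k)⁻¹ = z := by
    calc (d⁻¹ * k) * z * (d⁻¹ * k)⁻¹ = d⁻¹ * (k * z * k⁻¹) * d := by group
      _ = d⁻¹ * (d * z * d⁻¹) * d := by rw [hkz]
      _ = z := by group
  have h1 := D_semireg h hnn hu huH hmem hzT hz1 hfix
  have hdk : d = k := by
    have : k = d * (d⁻¹ * k) := by group
    rw [this, h1, mul_one]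
  rw [hdk]
  exact hkinv

theorem H_decomp {g : G} (hg : g ∈ Subgroup.normalizer ((T : Subgroup G) : Set G)) :
    ∃ d ∈ Subgroup.normalizer ((T : Subgroup G) : Set G) ⊓
      (Subgroup.normalizer ((T : Subgroup G) : Set G)).map (MulAut.conj u).toMonoidHom,
      ∃ t ∈ (T : Subgroup G), g = d * t := by
  obtain ⟨z, hzT, hz, -⟩ := exists_central_invol h
  obtain ⟨-, -, hcent⟩ := centralizer_eq h
  have hz1 : z ≠ 1 := (UFP.orderOf_eq_two_iff.mp hz).1
  have hsT : g * z * g⁻¹ ∈ (T : Subgroup G) := (Subgroup.mem_normalizer_iff.mp hg z).mp hzT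
  have hs1 : g * z * g⁻¹ ≠ 1 := (UFP.conj_invol (g := g) hz1 (UFP.orderOf_eq_two_iff.mp hz).2).1
  obtain ⟨d, hd, hdz, -⟩ := D_trans h hnn hu huH hzT hz1 hsT hs1
  refine ⟨d, hd, d⁻¹ * g, ?_, by group⟩
  rw [← hcent z hzT hz1, Subgroup.mem_centralizer_iff]
  intro y hy
  rw [Set.mem_singleton_iff.mp hy]
  calc z * (d⁻¹ * g) = d⁻¹ * (d * z * d⁻¹) * g := by group
    _ = d⁻¹ * (g * z * g⁻¹) * g := by rw [hdz]
    _ = d⁻¹ * g * z := by group

theorem card_D :
    Nat.card ↥(Subgroup.normalizer ((T : Subgroup G) : Set G) ⊓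
      (Subgroup.normalizer ((T : Subgroup G) : Set G)).map (MulAut.conj u).toMonoidHom) + 1 =
      Nat.card (T : Subgroup G) := by
  obtain ⟨z, hzT, hz, -⟩ := exists_central_invol h
  have hz1 : z ≠ 1 := (UFP.orderOf_eq_two_iff.mp hz).1
  have hz2 := (UFP.orderOf_eq_two_iff.mp hz).2
  have hconjT : ∀ d : ↥(Subgroup.normalizer ((T : Subgroup G) : Set G) ⊓
      (Subgroup.normalizer ((T : Subgroup G) : Set G)).map (MulAut.conj u).toMonoidHom),
      (d : G) * z * (d : G)⁻¹ ∈ (T : Subgroup G) := fun d =>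
    (Subgroup.mem_normalizer_iff.mp (Subgroup.mem_inf.mp d.2).1 z).mp hzT
  let f : Option ↥(Subgroup.normalizer ((T : Subgroup G) : Set G) ⊓
      (Subgroup.normalizer ((T : Subgroup G) : Set G)).map (MulAut.conj u).toMonoidHom) →
      (T : Subgroup G) := fun o =>
    match o with
    | none => ⟨1, Subgroup.one_mem _⟩
    | some d => ⟨(d : G) * z * (d : G)⁻¹, hconjT d⟩
  have hf : Function.Bijective f := by
    constructor
    · intro o o' hoo
      match o, o' with
      | none, none => rfl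
      | none, some d =>
        exfalso
        have h1 : (1 : G) = (d : G) * z * (d : G)⁻¹ := congrArg Subtype.val hoo
        exact (UFP.conj_invol (g := (d : G)) hz1 hz2).1 h1.symm
      | some d, none =>
        exfalso
        have h1 : (d : G) * z * (d : G)⁻¹ = (1 : G) := congrArg Subtype.val hoo
        exact (UFP.conj_invol (g := (d : G)) hz1 hz2).1 h1
      | some d, some d' =>
        have h1 : (d : G) * z * (d : G)⁻¹ = (d' : G) * z * (d' : G)⁻¹ := congrArg Subtype.val hoo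
        have hmem : (d' : G)⁻¹ * (d : G) ∈ Subgroup.normalizer ((T : Subgroup G) : Set G) ⊓
            (Subgroup.normalizer ((T : Subgroup G) : Set G)).map (MulAut.conj u).toMonoidHom :=
          Subgroup.mul_mem _ (Subgroup.inv_mem _ d'.2) d.2
        have hfix : ((d' : G)⁻¹ * (d : G)) * z * ((d' : G)⁻¹ * (d : G))⁻¹ = z := by
          calc ((d' : G)⁻¹ * (d : G)) * z * ((d' : G)⁻¹ * (d : G))⁻¹
              = (d' : G)⁻¹ * ((d : G) * z * (d : G)⁻¹) * (d' : G) := by group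
            _ = (d' : G)⁻¹ * ((d' : G) * z * (d' : G)⁻¹) * (d' : G) := by rw [h1]
            _ = z := by group
        have h2 := D_semireg h hnn hu huH hmem hzT hz1 hfix
        have h3 : (d : G) = (d' : G) := by
          have : (d : G) = (d' : G) * ((d' : G)⁻¹ * (d : G)) := by group
          rw [this, h2, mul_one]
        exact congrArg some (Subtype.ext h3)
    · rintro ⟨t, ht⟩
      by_cases ht1 : t = 1
      · exact ⟨none, Subtype.ext ht1.symm⟩
      · obtain ⟨d, hd, hdz, -⟩ := D_trans h hnn hu huH hzT hz1 ht ht1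
        exact ⟨some ⟨d, hd⟩, Subtype.ext hdz⟩
  rw [← Finite.card_option, Nat.card_congr (Equiv.ofBijective f hf)]

theorem card_H :
    Nat.card ↥(Subgroup.normalizer ((T : Subgroup G) : Set G)) =
      Nat.card ↥(Subgroup.normalizer ((T : Subgroup G) : Set G) ⊓
        (Subgroup.normalizer ((T : Subgroup G) : Set G)).map (MulAut.conj u).toMonoidHom) *
      Nat.card (T : Subgroup G) := by
  let f : ↥(Subgroup.normalizer ((T : Subgroup G) : Set G) ⊓
      (Subgroup.normalizer ((T : Subgroup G) : Set G)).map (MulAut.conj u).toMonoidHom) ×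
      (T : Subgroup G) → ↥(Subgroup.normalizer ((T : Subgroup G) : Set G)) := fun p =>
    ⟨(p.1 : G) * (p.2 : G), Subgroup.mul_mem _ (Subgroup.mem_inf.mp p.1.2).1
      (Subgroup.le_normalizer p.2.2)⟩
  have hf : Function.Bijective f := by
    constructor
    · rintro ⟨⟨d, hd⟩, ⟨t, ht⟩⟩ ⟨⟨d', hd'⟩, ⟨t', ht'⟩⟩ hpq
      have h1 : d * t = d' * t' := congrArg Subtype.val hpq
      have h2 : d'⁻¹ * d = t' * t⁻¹ := by
        calc d'⁻¹ * d = d'⁻¹ * (d * t) * t⁻¹ := by group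
          _ = d'⁻¹ * (d' * t') * t⁻¹ := by rw [h1]
          _ = t' * t⁻¹ := by group
      have h3 : d'⁻¹ * d = 1 := by
        apply D_inf_T h hnn hu huH (Subgroup.mul_mem _ (Subgroup.inv_mem _ hd') hd)
        rw [h2]
        exact Subgroup.mul_mem _ ht' (Subgroup.inv_mem _ ht)
      have hdd : d' = d := inv_mul_eq_one.mp h3
      subst hdd
      have htt : t = t' := mul_left_cancel h1
      subst htt
      rfl
    · rintro ⟨g, hg⟩
      obtain ⟨d, hd, t, ht, rfl⟩ := H_decomp h hnn hu huH hg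
      exact ⟨(⟨d, hd⟩, ⟨t, ht⟩), rfl⟩
  rw [← Nat.card_congr (Equiv.ofBijective f hf), Nat.card_prod]

end

end Cfsg.Agent.helper6.CIT
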