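import Mathlib
import Cfsg.Prelude.Def_Involutions
import Cfsg.Agent.Lib_helper6_CIT2

set_option autoImplicit false

namespace Cfsg.Agent.helper6.CIT

variable {G : Type*} [Group G] [Finite G]

omit [Finite G] in
theorem mem_D_iff (H : Subgroup G) (v d : G) :
    d ∈ H ⊓ H.map (MulAut.conj v).toMonoidHom ↔
      d • (QuotientGroup.mk 1 : G ⧸ H) = QuotientGroup.mk 1 ∧
        d • (QuotientGroup.mk v : G ⧸ H) = QuotientGroup.mk v := by
  rw [Subgroup.mem_inf, SE.smul_mk_one_eq_iff, SE.smul_mk_eq_iff, helper2.mem_conj_map]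

omit [Finite G] in
theorem mk_one_ne_mk (H : Subgroup G) {v : G} (hv : v ∉ H) :
    (QuotientGroup.mk 1 : G ⧸ H) ≠ QuotientGroup.mk v := by
  intro h'
  rw [QuotientGroup.eq] at h'
  apply hv
  simpa using h'

omit [Finite G] in
theorem smul_mk_one (H : Subgroup G) (v : G) :
    v • (QuotientGroup.mk 1 : G ⧸ H) = QuotientGroup.mk v := by
  rw [MulAction.Quotient.smul_mk, smul_eq_mul, mul_one]

omit [Finite G] in
theorem inverts_mem_normalizer {D : Subgroup G} {v : G} (hv2 : v * v = 1)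
    (hinv : ∀ d ∈ D, v * d * v⁻¹ = d⁻¹) : v ∈ Subgroup.normalizer (D : Set G) := by
  have hvi : v⁻¹ = v := inv_eq_of_mul_eq_one_right hv2
  rw [Subgroup.mem_normalizer_iff]
  intro d
  constructor
  · intro hd
    rw [hinv d hd]
    exact D.inv_mem hd
  · intro hd
    have h1 := hinv _ hd
    have e : v * (v * d * v⁻¹) * v⁻¹ = d := by
      rw [hvi]
      calc v * (v * d * v) * v = (v * v) * d * (v * v) := by group
        _ = d := by rw [hv2, one_mul, mul_one]
    rw [e] at h1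
    rw [h1]
    exact D.inv_mem hd

section

variable {T : Sylow 2 G} (h : Setup T) (hnn : ¬ (T : Subgroup G).Normal)

include h hnn

theorem D_ne_bot {u : G} (hu : orderOf u = 2)
    (huH : u ∉ Subgroup.normalizer ((T : Subgroup G) : Set G)) :
    ∃ d ∈ Subgroup.normalizer ((T : Subgroup G) : Set G) ⊓
      (Subgroup.normalizer ((T : Subgroup G) : Set G)).map (MulAut.conj u).toMonoidHom, d ≠ 1 := by
  by_contra hall
  push Not at hall
  have hbot : Subgroup.normalizer ((T : Subgroup G) : Set G) ⊓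
      (Subgroup.normalizer ((T : Subgroup G) : Set G)).map (MulAut.conj u).toMonoidHom = ⊥ :=
    (Subgroup.eq_bot_iff_forall _).mpr hall
  have hc := card_D h hnn hu huH
  rw [hbot, Subgroup.card_bot] at hc
  have : Fact (Nat.Prime 2) := ⟨Nat.prime_two⟩
  exact h.hnc (isCyclic_of_prime_card hc.symm)

theorem D_comm {u : G} (hu : orderOf u = 2)
    (huH : u ∉ Subgroup.normalizer ((T : Subgroup G) : Set G)) {a b : G}
    (ha : a ∈ Subgroup.normalizer ((T : Subgroup G) : Set G) ⊓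
      (Subgroup.normalizer ((T : Subgroup G) : Set G)).map (MulAut.conj u).toMonoidHom)
    (hb : b ∈ Subgroup.normalizer ((T : Subgroup G) : Set G) ⊓
      (Subgroup.normalizer ((T : Subgroup G) : Set G)).map (MulAut.conj u).toMonoidHom) :
    a * b = b * a := by
  have h1 := D_inverted h hnn hu huH ha
  have h2 := D_inverted h hnn hu huH hb
  have h3 := D_inverted h hnn hu huH (Subgroup.mul_mem _ ha hb)
  have h4 : u * (a * b) * u⁻¹ = (u * a * u⁻¹) * (u * b * u⁻¹) := by group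
  rw [h3, h1, h2] at h4
  have h5 : (a * b)⁻¹ = (b * a)⁻¹ := by rw [h4, mul_inv_rev]
  exact inv_injective h5

/-- If `D_u` fixes the point `v H` then `D_u = D_v`. -/
theorem D_eq_of_fix {u v : G} (hu : orderOf u = 2)
    (huH : u ∉ Subgroup.normalizer ((T : Subgroup G) : Set G)) (hv : orderOf v = 2)
    (hvH : v ∉ Subgroup.normalizer ((T : Subgroup G) : Set G))
    (hfix : ∀ d ∈ Subgroup.normalizer ((T : Subgroup G) : Set G) ⊓
      (Subgroup.normalizer ((T : Subgroup G) : Set G)).map (MulAut.conj u).toMonoidHom,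
      d • (QuotientGroup.mk v : G ⧸ Subgroup.normalizer ((T : Subgroup G) : Set G)) =
        QuotientGroup.mk v) :
    Subgroup.normalizer ((T : Subgroup G) : Set G) ⊓
      (Subgroup.normalizer ((T : Subgroup G) : Set G)).map (MulAut.conj u).toMonoidHom =
    Subgroup.normalizer ((T : Subgroup G) : Set G) ⊓
      (Subgroup.normalizer ((T : Subgroup G) : Set G)).map (MulAut.conj v).toMonoidHom := by
  apply Subgroup.eq_of_le_of_card_ge
  · intro d hd
    rw [mem_D_iff]
    exact ⟨((mem_D_iff _ u d).mp hd).1, hfix d hd⟩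
  · have h1 := card_D h hnn hu huH
    have h2 := card_D h hnn hv hvH
    omega

theorem N_H_D {u : G} (hu : orderOf u = 2)
    (huH : u ∉ Subgroup.normalizer ((T : Subgroup G) : Set G)) {e : G}
    (heH : e ∈ Subgroup.normalizer ((T : Subgroup G) : Set G))
    (heN : e ∈ Subgroup.normalizer ((Subgroup.normalizer ((T : Subgroup G) : Set G) ⊓
      (Subgroup.normalizer ((T : Subgroup G) : Set G)).map (MulAut.conj u).toMonoidHom :
        Subgroup G) : Set G)) :
    e ∈ Subgroup.normalizer ((T : Subgroup G) : Set G) ⊓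
      (Subgroup.normalizer ((T : Subgroup G) : Set G)).map (MulAut.conj u).toMonoidHom := by
  obtain ⟨d, hd, t, ht, rfl⟩ := H_decomp h hnn hu huH heH
  have htN : t ∈ Subgroup.normalizer ((Subgroup.normalizer ((T : Subgroup G) : Set G) ⊓
      (Subgroup.normalizer ((T : Subgroup G) : Set G)).map (MulAut.conj u).toMonoidHom :
        Subgroup G) : Set G) := by
    have : t = d⁻¹ * (d * t) := by group
    rw [this]
    exact Subgroup.mul_mem _ (Subgroup.inv_mem _ (Subgroup.le_normalizer hd)) heN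
  suffices ht1 : t = 1 by rw [ht1, mul_one]; exact hd
  by_contra ht1
  obtain ⟨d', hd', hd'1⟩ := D_ne_bot h hnn hu huH
  apply hd'1
  have hcomm : t * d' * t⁻¹ = d' := by
    have hc1 : t * d' * t⁻¹ * d'⁻¹ ∈ Subgroup.normalizer ((T : Subgroup G) : Set G) ⊓
        (Subgroup.normalizer ((T : Subgroup G) : Set G)).map (MulAut.conj u).toMonoidHom :=
      Subgroup.mul_mem _ ((Subgroup.mem_normalizer_iff.mp htN d').mp hd') (Subgroup.inv_mem _ hd')
    have hc2 : t * d' * t⁻¹ * d'⁻¹ ∈ (T : Subgroup G) := by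
      have hd'N : d' ∈ Subgroup.normalizer ((T : Subgroup G) : Set G) := (Subgroup.mem_inf.mp hd').1
      have : d' * t⁻¹ * d'⁻¹ ∈ (T : Subgroup G) :=
        (Subgroup.mem_normalizer_iff.mp hd'N t⁻¹).mp (Subgroup.inv_mem _ ht)
      have e : t * d' * t⁻¹ * d'⁻¹ = t * (d' * t⁻¹ * d'⁻¹) := by group
      rw [e]
      exact Subgroup.mul_mem _ ht this
    have hc := D_inf_T h hnn hu huH hc1 hc2
    calc t * d' * t⁻¹ = (t * d' * t⁻¹ * d'⁻¹) * d' := by group
      _ = d' := by rw [hc, one_mul]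
  apply D_semireg h hnn hu huH hd' ht ht1
  calc d' * t * d'⁻¹ = (t * d' * t⁻¹)⁻¹⁻¹ * t * d'⁻¹ := by rw [hcomm, inv_inv]
    _ = (t * d' * t⁻¹) * t * d'⁻¹ := by rw [inv_inv]
    _ = t * (d' * d'⁻¹) := by group
    _ = t := by group

/-- An involution moving `H` to `w`. -/
theorem exists_invol_move
    {w : G ⧸ Subgroup.normalizer ((T : Subgroup G) : Set G)}
    (hw : w ≠ QuotientGroup.mk 1) :
    ∃ v : G, orderOf v = 2 ∧ v ∉ Subgroup.normalizer ((T : Subgroup G) : Set G) ∧
      w = QuotientGroup.mk v := by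
  have hSE := normalizer_SE h hnn
  have hyp := SE.hyp_of_SE _ hSE
  obtain ⟨s', hs', hs'x⟩ := SE.exists_invol_fix _ hSE
    (QuotientGroup.mk 1 : G ⧸ Subgroup.normalizer ((T : Subgroup G) : Set G))
  obtain ⟨s₁, hs₁, hs₁w⟩ := SE.exists_invol_fix _ hSE w
  obtain ⟨hs'1, hs'2⟩ := UFP.orderOf_eq_two_iff.mp hs'
  obtain ⟨hs₁1, hs₁2⟩ := UFP.orderOf_eq_two_iff.mp hs₁
  obtain ⟨v, hv2, -, -, hvx, -, -⟩ := UFP.exists_swap hyp hw.symm hs'1 hs'2 hs'x hs₁1 hs₁2 hs₁w
  rw [smul_mk_one] at hvx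
  have hvH : v ∉ Subgroup.normalizer ((T : Subgroup G) : Set G) := by
    intro hvH
    apply hw
    rw [← hvx, eq_comm, QuotientGroup.eq]
    simpa using hvH
  have hv1 : v ≠ 1 := by
    intro h1
    apply hvH
    rw [h1]
    exact Subgroup.one_mem _
  exact ⟨v, UFP.orderOf_eq_two_iff.mpr ⟨hv1, hv2⟩, hvH, hvx.symm⟩

theorem inverts_of_normalizer {u : G} (hu : orderOf u = 2)
    (huH : u ∉ Subgroup.normalizer ((T : Subgroup G) : Set G)) {g : G}
    (hgN : g ∈ Subgroup.normalizer ((Subgroup.normalizer ((T : Subgroup G) : Set G) ⊓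
      (Subgroup.normalizer ((T : Subgroup G) : Set G)).map (MulAut.conj u).toMonoidHom :
        Subgroup G) : Set G))
    (hgx : g ∉ Subgroup.normalizer ((T : Subgroup G) : Set G)) :
    ∀ d ∈ Subgroup.normalizer ((T : Subgroup G) : Set G) ⊓
      (Subgroup.normalizer ((T : Subgroup G) : Set G)).map (MulAut.conj u).toMonoidHom,
      g * d * g⁻¹ = d⁻¹ := by
  have hw : (QuotientGroup.mk g : G ⧸ Subgroup.normalizer ((T : Subgroup G) : Set G)) ≠
      QuotientGroup.mk 1 := (mk_one_ne_mk _ hgx).symm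
  obtain ⟨v, hv, hvH, hwv⟩ := exists_invol_move h hnn hw
  obtain ⟨hv1, hv2⟩ := UFP.orderOf_eq_two_iff.mp hv
  have hvi : v⁻¹ = v := inv_eq_of_mul_eq_one_right hv2
  -- D_u fixes g H
  have hfix : ∀ d ∈ Subgroup.normalizer ((T : Subgroup G) : Set G) ⊓
      (Subgroup.normalizer ((T : Subgroup G) : Set G)).map (MulAut.conj u).toMonoidHom,
      d • (QuotientGroup.mk v : G ⧸ Subgroup.normalizer ((T : Subgroup G) : Set G)) =
        QuotientGroup.mk v := by
    intro d hd
    rw [← hwv, SE.smul_mk_eq_iff]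
    have := (Subgroup.mem_normalizer_iff''.mp hgN d).mp hd
    exact (Subgroup.mem_inf.mp this).1
  have hDD := D_eq_of_fix h hnn hu huH hv hvH hfix
  have hvinv : ∀ d ∈ Subgroup.normalizer ((T : Subgroup G) : Set G) ⊓
      (Subgroup.normalizer ((T : Subgroup G) : Set G)).map (MulAut.conj u).toMonoidHom,
      v * d * v⁻¹ = d⁻¹ := by
    intro d hd
    rw [hDD] at hd
    exact D_inverted h hnn hv hvH hd
  have hvN := inverts_mem_normalizer hv2 hvinv
  have heH : v * g ∈ Subgroup.normalizer ((T : Subgroup G) : Set G) := by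
    rw [← SE.smul_mk_one_eq_iff, mul_smul, smul_mk_one, hwv, MulAction.Quotient.smul_mk,
      smul_eq_mul, hv2]
  have heN := Subgroup.mul_mem _ hvN hgN
  have heD := N_H_D h hnn hu huH heH heN
  intro d hd
  have hg : g = v * (v * g) := by rw [← mul_assoc, hv2, one_mul]
  have hcomm := D_comm h hnn hu huH heD hd
  calc g * d * g⁻¹ = v * ((v * g) * d * (v * g)⁻¹) * v⁻¹ := by
        rw [mul_inv_rev, hvi]
        calc g * d * g⁻¹ = (v * v) * g * d * g⁻¹ * (v * v) := by rw [hv2, one_mul, mul_one]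
          _ = v * (v * g * d * (g⁻¹ * v)) * v := by group
    _ = v * (d * ((v * g) * (v * g)⁻¹)) * v⁻¹ := by rw [hcomm]; group
    _ = v * d * v⁻¹ := by group
    _ = d⁻¹ := hvinv d hd

/-- The fixed points of `D_u` on `G/H` are `H` and `uH`. -/
theorem fix_D {u : G} (hu : orderOf u = 2)
    (huH : u ∉ Subgroup.normalizer ((T : Subgroup G) : Set G))
    {w : G ⧸ Subgroup.normalizer ((T : Subgroup G) : Set G)}
    (hfix : ∀ d ∈ Subgroup.normalizer ((T : Subgroup G) : Set G) ⊓
      (Subgroup.normalizer ((T : Subgroup G) : Set G)).map (MulAut.conj u).toMonoidHom, d • w = w) :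
    w = QuotientGroup.mk 1 ∨ w = QuotientGroup.mk u := by
  by_contra hcon
  push Not at hcon
  obtain ⟨hwx, hwy⟩ := hcon
  obtain ⟨hu1, hu2⟩ := UFP.orderOf_eq_two_iff.mp hu
  have hui : u⁻¹ = u := inv_eq_of_mul_eq_one_right hu2
  obtain ⟨v, hv, hvH, hwv⟩ := exists_invol_move h hnn hwx
  obtain ⟨hv1, hv2⟩ := UFP.orderOf_eq_two_iff.mp hv
  have hvi : v⁻¹ = v := inv_eq_of_mul_eq_one_right hv2
  rw [hwv] at hfix hwy
  have hDD := D_eq_of_fix h hnn hu huH hv hvH hfix
  have hvinv : ∀ d ∈ Subgroup.normalizer ((T : Subgroup G) : Set G) ⊓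
      (Subgroup.normalizer ((T : Subgroup G) : Set G)).map (MulAut.conj u).toMonoidHom,
      v * d * v⁻¹ = d⁻¹ := by
    intro d hd
    rw [hDD] at hd
    exact D_inverted h hnn hv hvH hd
  have huinv : ∀ d ∈ Subgroup.normalizer ((T : Subgroup G) : Set G) ⊓
      (Subgroup.normalizer ((T : Subgroup G) : Set G)).map (MulAut.conj u).toMonoidHom,
      u * d * u⁻¹ = d⁻¹ := fun d hd => D_inverted h hnn hu huH hd
  have hgN := Subgroup.mul_mem _ (inverts_mem_normalizer hu2 huinv)
    (inverts_mem_normalizer hv2 hvinv)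
  have hgH : u * v ∉ Subgroup.normalizer ((T : Subgroup G) : Set G) := by
    intro hmem
    apply hwy
    rw [QuotientGroup.eq]
    have : v⁻¹ * u = (u * v)⁻¹ := by rw [mul_inv_rev, hui, hvi]
    rw [this]
    exact Subgroup.inv_mem _ hmem
  have hinv := inverts_of_normalizer h hnn hu huH hgN hgH
  obtain ⟨d, hd, hd1⟩ := D_ne_bot h hnn hu huH
  apply hd1
  have h1 : (u * v) * d * (u * v)⁻¹ = d := by
    calc (u * v) * d * (u * v)⁻¹ = u * (v * d * v⁻¹) * u⁻¹ := by group
      _ = u * d⁻¹ * u⁻¹ := by rw [hvinv d hd]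
      _ = (u * d * u⁻¹)⁻¹ := by group
      _ = d := by rw [huinv d hd, inv_inv]
  have h2 : d = d⁻¹ := by rw [← hinv d hd, h1]
  have hdd : d * d = 1 := by
    calc d * d = d * d⁻¹ := by rw [← h2]
      _ = 1 := mul_inv_cancel d
  have hSE := normalizer_SE h hnn
  have hyp := SE.hyp_of_SE _ hSE
  obtain ⟨hdx, hdy⟩ := (mem_D_iff _ u d).mp hd
  exact UFP.eq_one_of_fix_two hyp hdd (mk_one_ne_mk _ huH) hdx hdy

end

end Cfsg.Agent.helper6.CIT
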