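import Mathlib
import Cfsg.Prelude.Def_Involutions
import Cfsg.Agent.Lib_helper6_CIT3

set_option autoImplicit false

namespace Cfsg.Agent.helper6.CIT

variable {G : Type*} [Group G] [Finite G]

section

variable {T : Sylow 2 G} (h : Setup T) (hnn : ¬ (T : Subgroup G).Normal)

include h hnn

/-- A nonidentity element of `D_u` fixes only `H` and `uH`. -/
theorem D_semireg_points {u : G} (hu : orderOf u = 2)
    (huH : u ∉ Subgroup.normalizer ((T : Subgroup G) : Set G)) {d : G}
    (hd : d ∈ Subgroup.normalizer ((T : Subgroup G) : Set G) ⊓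
      (Subgroup.normalizer ((T : Subgroup G) : Set G)).map (MulAut.conj u).toMonoidHom)
    (hd1 : d ≠ 1) {w : G ⧸ Subgroup.normalizer ((T : Subgroup G) : Set G)} (hdw : d • w = w) :
    w = QuotientGroup.mk 1 ∨ w = QuotientGroup.mk u := by
  by_cases hwx : w = QuotientGroup.mk 1
  · exact Or.inl hwx
  obtain ⟨v, hv, hvH, hwv⟩ := exists_invol_move h hnn hwx
  have hdv : d ∈ Subgroup.normalizer ((T : Subgroup G) : Set G) ⊓
      (Subgroup.normalizer ((T : Subgroup G) : Set G)).map (MulAut.conj v).toMonoidHom := by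
    rw [mem_D_iff]
    refine ⟨((mem_D_iff _ u d).mp hd).1, ?_⟩
    rw [← hwv]
    exact hdw
  have hle : Subgroup.normalizer ((T : Subgroup G) : Set G) ⊓
      (Subgroup.normalizer ((T : Subgroup G) : Set G)).map (MulAut.conj v).toMonoidHom ≤
      Subgroup.normalizer ((T : Subgroup G) : Set G) ⊓
      (Subgroup.normalizer ((T : Subgroup G) : Set G)).map (MulAut.conj u).toMonoidHom := by
    intro e he
    have hed : e * d = d * e := D_comm h hnn hv hvH he hdv
    obtain ⟨d₁, hd₁, t, ht, rfl⟩ := H_decomp h hnn hu huH (Subgroup.mem_inf.mp he).1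
    suffices ht1 : t = 1 by rw [ht1, mul_one]; exact hd₁
    by_contra ht1
    apply hd1
    apply D_semireg h hnn hu huH hd ht ht1
    have hd₁d : d₁ * d = d * d₁ := D_comm h hnn hu huH hd₁ hd
    have htd : t * d = d * t := by
      have e1 : d₁ * (t * d) = d₁ * (d * t) := by
        calc d₁ * (t * d) = d₁ * t * d := by group
          _ = d * (d₁ * t) := hed
          _ = (d * d₁) * t := by group
          _ = (d₁ * d) * t := by rw [hd₁d]
          _ = d₁ * (d * t) := by group
      exact mul_left_cancel e1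
    calc d * t * d⁻¹ = (t * d) * d⁻¹ := by rw [htd]
      _ = t := by group
  have heq : Subgroup.normalizer ((T : Subgroup G) : Set G) ⊓
      (Subgroup.normalizer ((T : Subgroup G) : Set G)).map (MulAut.conj v).toMonoidHom =
      Subgroup.normalizer ((T : Subgroup G) : Set G) ⊓
      (Subgroup.normalizer ((T : Subgroup G) : Set G)).map (MulAut.conj u).toMonoidHom := by
    apply Subgroup.eq_of_le_of_card_ge hle
    have h1 := card_D h hnn hu huH
    have h2 := card_D h hnn hv hvH
    omega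
  apply fix_D h hnn hu huH
  intro e he
  rw [hwv]
  rw [← heq] at he
  exact ((mem_D_iff _ v e).mp he).2

/-- `T` is transitive on the points other than `H`. -/
theorem T_trans {u : G} (hu : orderOf u = 2)
    (huH : u ∉ Subgroup.normalizer ((T : Subgroup G) : Set G))
    {w : G ⧸ Subgroup.normalizer ((T : Subgroup G) : Set G)} (hwx : w ≠ QuotientGroup.mk 1) :
    ∃ t ∈ (T : Subgroup G), t • (QuotientGroup.mk u :
      G ⧸ Subgroup.normalizer ((T : Subgroup G) : Set G)) = w := by
  obtain ⟨-, hexp, -⟩ := centralizer_eq h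
  obtain ⟨d, hd, hd1⟩ := D_ne_bot h hnn hu huH
  have hdN : d ∈ Subgroup.normalizer ((T : Subgroup G) : Set G) := (Subgroup.mem_inf.mp hd).1
  obtain ⟨v, hv, hvH, hwv⟩ := exists_invol_move h hnn hwx
  obtain ⟨d', hd', t₀, ht₀, hdd'⟩ := H_decomp h hnn hv hvH hdN
  have hd'N : d' ∈ Subgroup.normalizer ((T : Subgroup G) : Set G) := (Subgroup.mem_inf.mp hd').1
  have htd : d' * t₀ * d'⁻¹ ∈ (T : Subgroup G) := (Subgroup.mem_normalizer_iff.mp hd'N t₀).mp ht₀
  have hdw : d • w = (d' * t₀ * d'⁻¹) • w := by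
    have e : d = (d' * t₀ * d'⁻¹) * d' := by rw [hdd']; group
    rw [e, mul_smul, hwv, ((mem_D_iff _ v d').mp hd').2]
  have hconjT : ∀ t : ↥(T : Subgroup G), d * (t : G) * d⁻¹ * (t : G) ∈ (T : Subgroup G) := fun t =>
    Subgroup.mul_mem _ ((Subgroup.mem_normalizer_iff.mp hdN t).mp t.2) t.2
  let φ : ↥(T : Subgroup G) → ↥(T : Subgroup G) := fun t => ⟨d * (t : G) * d⁻¹ * (t : G), hconjT t⟩
  have hφ : Function.Injective φ := by
    rintro ⟨t, ht⟩ ⟨t', ht'⟩ heq
    have h1 : d * t * d⁻¹ * t = d * t' * d⁻¹ * t' := congrArg Subtype.val heq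
    apply Subtype.ext
    show t = t'
    by_contra hne
    have hs : t'⁻¹ * t ∈ (T : Subgroup G) := Subgroup.mul_mem _ (Subgroup.inv_mem _ ht') ht
    have hs1 : t'⁻¹ * t ≠ 1 := by
      intro h0
      exact hne (inv_mul_eq_one.mp h0).symm
    apply hd1
    apply D_semireg h hnn hu huH hd hs hs1
    have h2 : d * (t'⁻¹ * t) * d⁻¹ = t' * t⁻¹ := by
      calc d * (t'⁻¹ * t) * d⁻¹ = (d * t' * d⁻¹)⁻¹ * (d * t * d⁻¹ * t) * t⁻¹ := by group
        _ = (d * t' * d⁻¹)⁻¹ * (d * t' * d⁻¹ * t') * t⁻¹ := by rw [h1]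
        _ = t' * t⁻¹ := by group
    rw [h2]
    have hti : t⁻¹ = t := by
      have := hexp t ht
      rw [sq] at this
      exact inv_eq_of_mul_eq_one_right this
    have ht'i : t'⁻¹ = t' := by
      have := hexp t' ht'
      rw [sq] at this
      exact inv_eq_of_mul_eq_one_right this
    rw [hti, ht'i]
  have hφs : Function.Surjective φ := Finite.injective_iff_surjective.mp hφ
  obtain ⟨⟨t, ht⟩, htφ⟩ := hφs ⟨d' * t₀ * d'⁻¹, htd⟩
  have htφ' : d * t * d⁻¹ * t = d' * t₀ * d'⁻¹ := congrArg Subtype.val htφ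
  have hdtT : d * t * d⁻¹ ∈ (T : Subgroup G) := (Subgroup.mem_normalizer_iff.mp hdN t).mp ht
  have hfix : d • (t • w) = t • w := by
    have e1 : d • (t • w) = (d * t * d⁻¹) • (d • w) := by
      rw [smul_smul, smul_smul]
      congr 1
      group
    rw [e1, hdw, ← htφ', smul_smul]
    congr 1
    have hsq : (d * t * d⁻¹) * (d * t * d⁻¹) = 1 := by
      have := hexp _ hdtT
      rwa [sq] at this
    calc d * t * d⁻¹ * (d * t * d⁻¹ * t) = ((d * t * d⁻¹) * (d * t * d⁻¹)) * t := by group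
      _ = t := by rw [hsq, one_mul]
  rcases D_semireg_points h hnn hu huH hd hd1 hfix with h1 | h1
  · exfalso
    apply hwx
    have : t⁻¹ • (t • w) = t⁻¹ • (QuotientGroup.mk 1 :
        G ⧸ Subgroup.normalizer ((T : Subgroup G) : Set G)) := by rw [h1]
    rw [inv_smul_smul] at this
    rw [this, SE.smul_mk_one_eq_iff]
    exact Subgroup.le_normalizer (Subgroup.inv_mem _ ht)
  · refine ⟨t⁻¹, Subgroup.inv_mem _ ht, ?_⟩
    rw [← h1, inv_smul_smul]

/-- A nonidentity element of `T` fixes only the point `H`. -/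
theorem T_fix_only {t : G} (ht : t ∈ (T : Subgroup G)) (ht1 : t ≠ 1)
    {w : G ⧸ Subgroup.normalizer ((T : Subgroup G) : Set G)} (htw : t • w = w) :
    w = QuotientGroup.mk 1 := by
  obtain ⟨-, hexp, -⟩ := centralizer_eq h
  have hyp := SE.hyp_of_SE _ (normalizer_SE h hnn)
  have ht2 : t * t = 1 := by rw [← sq]; exact hexp t ht
  exact UFP.fix_eq hyp ht1 ht2 htw ((SE.smul_mk_one_eq_iff _ t).mpr (Subgroup.le_normalizer ht))

end

end Cfsg.Agent.helper6.CIT
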