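import Mathlib
import Cfsg.Prelude.Def_ChevStructure
import Cfsg.Prelude.Def_ChevG2
import Cfsg.Prelude.Def_ChevB2
import Cfsg.Prelude.Def_ChevD4
import Cfsg.Prelude.Def_ChevF4
import Cfsg.Prelude.Def_ChevE6
import Cfsg.Prelude.Def_ChevE7
import Cfsg.Prelude.Def_ChevE8

set_option autoImplicit false

/-! Table checks for root subsystems spanned by fundamental roots (helper6). -/

namespace Cfsg.Agent.helper6.Para

open Cfsg.Lie

/-- coefficient of the coroot of `r` on the `i`-th fundamental coroot -/
def cor (D : ChevalleyDatum) (r i : ℕ) : ℤ := (D.coroot.getD r #[]).getD i 0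

/-- a measure on roots decreasing along suitable fundamental reflections -/
def mu6 (D : ChevalleyDatum) (s : ℕ) : ℕ :=
  if decide (D.IsPosRoot s) then 2 * s else 2 * D.neg s + 1

/-- the per-root checks -/
def supCheckS (D : ChevalleyDatum) (s : ℕ) : Bool :=
  ((List.range D.rank).all fun i => (List.range D.rank).all fun k =>
      (k == i) || (cor D (D.reflectRoot i s) k == cor D s k)) &&
  (((List.range D.rank).any fun i => (s == D.simple i) || (s == D.neg (D.simple i))) ||
   ((List.range D.rank).any fun i => (cor D s i != 0) &&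
      decide (mu6 D (D.reflectRoot i s) < mu6 D s)))

/-- the per-fundamental-root checks -/
def supCheckI (D : ChevalleyDatum) (i : ℕ) : Bool :=
  (cor D (D.simple i) i != 0) && (cor D (D.neg (D.simple i)) i != 0) &&
  ((List.range D.rank).all fun k => (k == i) ||
    ((cor D (D.neg (D.simple i)) k == 0) && (cor D (D.simple i) k == 0)))

def supCheckRange (D : ChevalleyDatum) (lo n : ℕ) : Bool :=
  (List.range n).all fun k => supCheckS D (lo + k)

structure SupOK (D : ChevalleyDatum) : Prop where
  refl_cor : ∀ s < D.nroots, ∀ i < D.rank, ∀ k < D.rank, k ≠ i →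
    cor D (D.reflectRoot i s) k = cor D s k
  step : ∀ s < D.nroots, (∃ i < D.rank, s = D.simple i ∨ s = D.neg (D.simple i)) ∨
    ∃ i < D.rank, cor D s i ≠ 0 ∧ mu6 D (D.reflectRoot i s) < mu6 D s
  simple_cor : ∀ i < D.rank, cor D (D.simple i) i ≠ 0
  negsimple_cor : ∀ i < D.rank, cor D (D.neg (D.simple i)) i ≠ 0
  negsimple_zero : ∀ i < D.rank, ∀ k < D.rank, k ≠ i → cor D (D.neg (D.simple i)) k = 0
  simple_zero : ∀ i < D.rank, ∀ k < D.rank, k ≠ i → cor D (D.simple i) k = 0

theorem range_of_chunks6 (P : ℕ → Prop) (N n m : ℕ) (hn : 0 < n) (hm : N ≤ m * n)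
    (h : ∀ k < m, ∀ j < n, P (k * n + j)) : ∀ s < N, P s := by
  intro s hs
  have hk : s / n < m := by
    apply Nat.div_lt_of_lt_mul
    rw [Nat.mul_comm]
    omega
  have h1 : s / n * n ≤ s := Nat.div_mul_le_self s n
  have h2 : s - s / n * n < n := by
    have := Nat.div_add_mod s n
    have := Nat.mod_lt s hn
    rw [Nat.mul_comm]
    omega
  have := h (s / n) hk (s - s / n * n) h2
  rwa [Nat.add_sub_cancel' h1] at this

theorem supOK_of_chunks (D : ChevalleyDatum) (n m : ℕ) (hn : 0 < n) (hm : D.nroots ≤ m * n)
    (h : ∀ k < m, supCheckRange D (k * n) n = true)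
    (hI : ∀ i < D.rank, supCheckI D i = true) : SupOK D := by
  have key : ∀ s < D.nroots, supCheckS D s = true := by
    refine range_of_chunks6 (fun s => supCheckS D s = true) D.nroots n m hn hm ?_
    intro k hk j hj
    have h3 := h k hk
    unfold supCheckRange at h3
    rw [List.all_eq_true] at h3
    exact h3 j (List.mem_range.mpr hj)
  have keyS : ∀ s < D.nroots,
      (∀ i < D.rank, ∀ k < D.rank, k ≠ i → cor D (D.reflectRoot i s) k = cor D s k) ∧
      ((∃ i < D.rank, s = D.simple i ∨ s = D.neg (D.simple i)) ∨
        ∃ i < D.rank, cor D s i ≠ 0 ∧ mu6 D (D.reflectRoot i s) < mu6 D s) := by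
    intro s hs
    have h1 := key s hs
    unfold supCheckS at h1
    simp only [Bool.and_eq_true, Bool.or_eq_true, decide_eq_true_eq, beq_iff_eq, List.all_eq_true,
      List.any_eq_true, List.mem_range, bne_iff_ne, ne_eq] at h1
    obtain ⟨h2, h3⟩ := h1
    refine ⟨?_, ?_⟩
    · intro i hi k hk hki
      rcases h2 i hi k hk with h4 | h4
      · exact absurd h4 hki
      · exact h4
    · rcases h3 with ⟨i, hi, h5⟩ | ⟨i, hi, h5, h6⟩
      · exact Or.inl ⟨i, hi, h5⟩
      · exact Or.inr ⟨i, hi, h5, h6⟩
  have keyI : ∀ i < D.rank, cor D (D.simple i) i ≠ 0 ∧ cor D (D.neg (D.simple i)) i ≠ 0 ∧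
      ∀ k < D.rank, k ≠ i → (cor D (D.neg (D.simple i)) k = 0 ∧ cor D (D.simple i) k = 0) := by
    intro i hi
    have h1 := hI i hi
    unfold supCheckI at h1
    simp only [Bool.and_eq_true, Bool.or_eq_true, beq_iff_eq, List.all_eq_true,
      List.mem_range, bne_iff_ne, ne_eq] at h1
    obtain ⟨⟨a, b⟩, c⟩ := h1
    refine ⟨a, b, ?_⟩
    intro k hk hki
    rcases c k hk with d | d
    · exact absurd d hki
    · exact d
  exact
    { refl_cor := fun s hs => (keyS s hs).1
      step := fun s hs => (keyS s hs).2
      simple_cor := fun i hi => (keyI i hi).1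
      negsimple_cor := fun i hi => (keyI i hi).2.1
      negsimple_zero := fun i hi k hk hki => ((keyI i hi).2.2 k hk hki).1
      simple_zero := fun i hi k hk hki => ((keyI i hi).2.2 k hk hki).2 }

set_option maxRecDepth 1000000 in
set_option maxHeartbeats 0 in
theorem supC_G2_0 : supCheckRange chevG2 0 12 = true := by decide +kernel

set_option maxRecDepth 1000000 in
set_option maxHeartbeats 0 in
theorem supI_G2 : ∀ i < chevG2.rank, supCheckI chevG2 i = true := by decide +kernel

theorem supOK_G2 : SupOK chevG2 := by
  apply supOK_of_chunks chevG2 12 1 (by decide +kernel) (by decide +kernel) ?_ supI_G2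
  intro k hk
  interval_cases k
  · exact supC_G2_0

set_option maxRecDepth 1000000 in
set_option maxHeartbeats 0 in
theorem supC_B2_0 : supCheckRange chevB2 0 8 = true := by decide +kernel

set_option maxRecDepth 1000000 in
set_option maxHeartbeats 0 in
theorem supI_B2 : ∀ i < chevB2.rank, supCheckI chevB2 i = true := by decide +kernel

theorem supOK_B2 : SupOK chevB2 := by
  apply supOK_of_chunks chevB2 8 1 (by decide +kernel) (by decide +kernel) ?_ supI_B2
  intro k hk
  interval_cases k
  · exact supC_B2_0

set_option maxRecDepth 1000000 in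
set_option maxHeartbeats 0 in
theorem supC_D4_0 : supCheckRange chevD4 0 24 = true := by decide +kernel

set_option maxRecDepth 1000000 in
set_option maxHeartbeats 0 in
theorem supI_D4 : ∀ i < chevD4.rank, supCheckI chevD4 i = true := by decide +kernel

theorem supOK_D4 : SupOK chevD4 := by
  apply supOK_of_chunks chevD4 24 1 (by decide +kernel) (by decide +kernel) ?_ supI_D4
  intro k hk
  interval_cases k
  · exact supC_D4_0

set_option maxRecDepth 1000000 in
set_option maxHeartbeats 0 in
theorem supC_F4_0 : supCheckRange chevF4 0 24 = true := by decide +kernel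

set_option maxRecDepth 1000000 in
set_option maxHeartbeats 0 in
theorem supC_F4_1 : supCheckRange chevF4 24 24 = true := by decide +kernel

set_option maxRecDepth 1000000 in
set_option maxHeartbeats 0 in
theorem supI_F4 : ∀ i < chevF4.rank, supCheckI chevF4 i = true := by decide +kernel

theorem supOK_F4 : SupOK chevF4 := by
  apply supOK_of_chunks chevF4 24 2 (by decide +kernel) (by decide +kernel) ?_ supI_F4
  intro k hk
  interval_cases k
  · exact supC_F4_0
  · exact supC_F4_1

set_option maxRecDepth 1000000 in
set_option maxHeartbeats 0 in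
theorem supC_E6_0 : supCheckRange chevE6 0 24 = true := by decide +kernel

set_option maxRecDepth 1000000 in
set_option maxHeartbeats 0 in
theorem supC_E6_1 : supCheckRange chevE6 24 24 = true := by decide +kernel

set_option maxRecDepth 1000000 in
set_option maxHeartbeats 0 in
theorem supC_E6_2 : supCheckRange chevE6 48 24 = true := by decide +kernel

set_option maxRecDepth 1000000 in
set_option maxHeartbeats 0 in
theorem supI_E6 : ∀ i < chevE6.rank, supCheckI chevE6 i = true := by decide +kernel

theorem supOK_E6 : SupOK chevE6 := by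
  apply supOK_of_chunks chevE6 24 3 (by decide +kernel) (by decide +kernel) ?_ supI_E6
  intro k hk
  interval_cases k
  · exact supC_E6_0
  · exact supC_E6_1
  · exact supC_E6_2

set_option maxRecDepth 1000000 in
set_option maxHeartbeats 0 in
theorem supC_E7_0 : supCheckRange chevE7 0 21 = true := by decide +kernel

set_option maxRecDepth 1000000 in
set_option maxHeartbeats 0 in
theorem supC_E7_1 : supCheckRange chevE7 21 21 = true := by decide +kernel

set_option maxRecDepth 1000000 in
set_option maxHeartbeats 0 in
theorem supC_E7_2 : supCheckRange chevE7 42 21 = true := by decide +kernel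

set_option maxRecDepth 1000000 in
set_option maxHeartbeats 0 in
theorem supC_E7_3 : supCheckRange chevE7 63 21 = true := by decide +kernel

set_option maxRecDepth 1000000 in
set_option maxHeartbeats 0 in
theorem supC_E7_4 : supCheckRange chevE7 84 21 = true := by decide +kernel

set_option maxRecDepth 1000000 in
set_option maxHeartbeats 0 in
theorem supC_E7_5 : supCheckRange chevE7 105 21 = true := by decide +kernel

set_option maxRecDepth 1000000 in
set_option maxHeartbeats 0 in
theorem supI_E7 : ∀ i < chevE7.rank, supCheckI chevE7 i = true := by decide +kernel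

theorem supOK_E7 : SupOK chevE7 := by
  apply supOK_of_chunks chevE7 21 6 (by decide +kernel) (by decide +kernel) ?_ supI_E7
  intro k hk
  interval_cases k
  · exact supC_E7_0
  · exact supC_E7_1
  · exact supC_E7_2
  · exact supC_E7_3
  · exact supC_E7_4
  · exact supC_E7_5

set_option maxRecDepth 1000000 in
set_option maxHeartbeats 0 in
theorem supC_E8_0 : supCheckRange chevE8 0 30 = true := by decide +kernel

set_option maxRecDepth 1000000 in
set_option maxHeartbeats 0 in
theorem supC_E8_1 : supCheckRange chevE8 30 30 = true := by decide +kernel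

set_option maxRecDepth 1000000 in
set_option maxHeartbeats 0 in
theorem supC_E8_2 : supCheckRange chevE8 60 30 = true := by decide +kernel

set_option maxRecDepth 1000000 in
set_option maxHeartbeats 0 in
theorem supC_E8_3 : supCheckRange chevE8 90 30 = true := by decide +kernel

set_option maxRecDepth 1000000 in
set_option maxHeartbeats 0 in
theorem supC_E8_4 : supCheckRange chevE8 120 30 = true := by decide +kernel

set_option maxRecDepth 1000000 in
set_option maxHeartbeats 0 in
theorem supC_E8_5 : supCheckRange chevE8 150 30 = true := by decide +kernel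

set_option maxRecDepth 1000000 in
set_option maxHeartbeats 0 in
theorem supC_E8_6 : supCheckRange chevE8 180 30 = true := by decide +kernel

set_option maxRecDepth 1000000 in
set_option maxHeartbeats 0 in
theorem supC_E8_7 : supCheckRange chevE8 210 30 = true := by decide +kernel

set_option maxRecDepth 1000000 in
set_option maxHeartbeats 0 in
theorem supI_E8 : ∀ i < chevE8.rank, supCheckI chevE8 i = true := by decide +kernel

theorem supOK_E8 : SupOK chevE8 := by
  apply supOK_of_chunks chevE8 30 8 (by decide +kernel) (by decide +kernel) ?_ supI_E8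
  intro k hk
  interval_cases k
  · exact supC_E8_0
  · exact supC_E8_1
  · exact supC_E8_2
  · exact supC_E8_3
  · exact supC_E8_4
  · exact supC_E8_5
  · exact supC_E8_6
  · exact supC_E8_7

theorem supOK_of_mem (D : ChevalleyDatum)
    (hD : D ∈ [chevG2, chevB2, chevD4, chevF4, chevE6, chevE7, chevE8]) : SupOK D := by
  simp only [List.mem_cons, List.not_mem_nil, or_false] at hD
  rcases hD with rfl | rfl | rfl | rfl | rfl | rfl | rfl
  · exact supOK_G2
  · exact supOK_B2
  · exact supOK_D4
  · exact supOK_F4
  · exact supOK_E6
  · exact supOK_E7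
  · exact supOK_E8

end Cfsg.Agent.helper6.Para
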