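import Mathlib
import Cfsg.Agent.Lib_helper6_ParaChk

set_option autoImplicit false

/-! Table checks for the linear action of the Weyl group on coroot coordinates (helper6). -/

namespace Cfsg.Agent.helper6.Cen

open Cfsg.Lie Cfsg.Agent.helper6.Para

/-- the per-root checks -/
def cenCheckS (D : ChevalleyDatum) (s : ℕ) : Bool :=
  ((List.range D.rank).all fun i =>
      (!(D.reflectRoot i s == D.neg s) || (s == D.simple i) || (s == D.neg (D.simple i))) &&
      (cor D (D.reflectRoot i s) i ==
        ((List.range D.rank).map fun k =>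
          cor D s k * cor D (D.reflectRoot i (D.simple k)) i).sum)) &&
  (((List.range D.rank).all fun m => decide (0 ≤ cor D s m)) ||
   ((List.range D.rank).all fun m => decide (cor D s m ≤ 0)))

/-- the per-fundamental-root checks -/
def cenCheckI (D : ChevalleyDatum) (k : ℕ) : Bool :=
  (List.range D.rank).all fun m =>
    (cor D (D.simple k) m == if k = m then 1 else 0) &&
      (cor D (D.neg (D.simple k)) m == if k = m then -1 else 0)

/-- a root whose coroot has full support -/
def cenCheckHi (D : ChevalleyDatum) (h : ℕ) : Bool :=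
  decide (h < D.nroots) && (List.range D.rank).all fun m => decide (0 < cor D h m)

def cenCheckRange (D : ChevalleyDatum) (lo n : ℕ) : Bool :=
  (List.range n).all fun k => cenCheckS D (lo + k)

structure CenOK (D : ChevalleyDatum) : Prop where
  c1 : ∀ i < D.rank, ∀ s < D.nroots, D.reflectRoot i s = D.neg s →
    s = D.simple i ∨ s = D.neg (D.simple i)
  lin : ∀ i < D.rank, ∀ s < D.nroots, cor D (D.reflectRoot i s) i =
    ((List.range D.rank).map fun k => cor D s k * cor D (D.reflectRoot i (D.simple k)) i).sum
  sgn : ∀ s < D.nroots, (∀ m < D.rank, 0 ≤ cor D s m) ∨ (∀ m < D.rank, cor D s m ≤ 0)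
  base : ∀ k < D.rank, ∀ m < D.rank, cor D (D.simple k) m = (if k = m then 1 else 0) ∧
    cor D (D.neg (D.simple k)) m = (if k = m then -1 else 0)
  hi : ∃ h < D.nroots, ∀ m < D.rank, 0 < cor D h m

theorem cenOK_of_chunks (D : ChevalleyDatum) (n m : ℕ) (hn : 0 < n) (hm : D.nroots ≤ m * n)
    (h : ∀ k < m, cenCheckRange D (k * n) n = true)
    (hI : ∀ i < D.rank, cenCheckI D i = true) (hi : ℕ) (hH : cenCheckHi D hi = true) :
    CenOK D := by
  have key : ∀ s < D.nroots, cenCheckS D s = true := by
    refine range_of_chunks6 (fun s => cenCheckS D s = true) D.nroots n m hn hm ?_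
    intro k hk j hj
    have h3 := h k hk
    unfold cenCheckRange at h3
    rw [List.all_eq_true] at h3
    exact h3 j (List.mem_range.mpr hj)
  have keyS : ∀ s < D.nroots,
      (∀ i < D.rank, (D.reflectRoot i s = D.neg s → s = D.simple i ∨ s = D.neg (D.simple i)) ∧
        cor D (D.reflectRoot i s) i =
          ((List.range D.rank).map fun k =>
            cor D s k * cor D (D.reflectRoot i (D.simple k)) i).sum) ∧
      ((∀ m < D.rank, 0 ≤ cor D s m) ∨ (∀ m < D.rank, cor D s m ≤ 0)) := by
    intro s hs
    have h1 := key s hs
    unfold cenCheckS at h1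
    simp only [Bool.and_eq_true, Bool.or_eq_true, decide_eq_true_eq, beq_iff_eq, List.all_eq_true,
      List.mem_range, Bool.not_eq_true', beq_eq_false_iff_ne, ne_eq] at h1
    obtain ⟨h2, h3⟩ := h1
    refine ⟨?_, h3⟩
    intro i hi
    obtain ⟨h4, h5⟩ := h2 i hi
    refine ⟨?_, h5⟩
    intro h6
    rcases h4 with (h4 | h4) | h4
    · exact absurd h6 h4
    · exact Or.inl h4
    · exact Or.inr h4
  have keyI : ∀ k < D.rank, ∀ m < D.rank, cor D (D.simple k) m = (if k = m then 1 else 0) ∧
      cor D (D.neg (D.simple k)) m = (if k = m then -1 else 0) := by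
    intro k hk m hm
    have h1 := hI k hk
    unfold cenCheckI at h1
    simp only [Bool.and_eq_true, beq_iff_eq, List.all_eq_true, List.mem_range] at h1
    exact h1 m hm
  have keyH : hi < D.nroots ∧ ∀ m < D.rank, 0 < cor D hi m := by
    unfold cenCheckHi at hH
    simp only [Bool.and_eq_true, decide_eq_true_eq, List.all_eq_true, List.mem_range] at hH
    exact hH
  exact
    { c1 := fun i hi s hs => ((keyS s hs).1 i hi).1
      lin := fun i hi s hs => ((keyS s hs).1 i hi).2
      sgn := fun s hs => (keyS s hs).2
      base := keyI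
      hi := ⟨hi, keyH.1, keyH.2⟩ }

set_option maxRecDepth 1000000 in
set_option maxHeartbeats 0 in
theorem cenC_G2_0 : cenCheckRange chevG2 0 12 = true := by decide +kernel

set_option maxRecDepth 1000000 in
set_option maxHeartbeats 0 in
theorem cenI_G2 : ∀ i < chevG2.rank, cenCheckI chevG2 i = true := by decide +kernel

set_option maxRecDepth 1000000 in
set_option maxHeartbeats 0 in
theorem cenH_G2 : cenCheckHi chevG2 8 = true := by decide +kernel

theorem cenOK_G2 : CenOK chevG2 := by
  apply cenOK_of_chunks chevG2 12 1 (by decide +kernel) (by decide +kernel) ?_ cenI_G2 8 cenH_G2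
  intro k hk
  interval_cases k
  · exact cenC_G2_0

set_option maxRecDepth 1000000 in
set_option maxHeartbeats 0 in
theorem cenC_B2_0 : cenCheckRange chevB2 0 8 = true := by decide +kernel

set_option maxRecDepth 1000000 in
set_option maxHeartbeats 0 in
theorem cenI_B2 : ∀ i < chevB2.rank, cenCheckI chevB2 i = true := by decide +kernel

set_option maxRecDepth 1000000 in
set_option maxHeartbeats 0 in
theorem cenH_B2 : cenCheckHi chevB2 6 = true := by decide +kernel

theorem cenOK_B2 : CenOK chevB2 := by
  apply cenOK_of_chunks chevB2 8 1 (by decide +kernel) (by decide +kernel) ?_ cenI_B2 6 cenH_B2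
  intro k hk
  interval_cases k
  · exact cenC_B2_0

set_option maxRecDepth 1000000 in
set_option maxHeartbeats 0 in
theorem cenC_D4_0 : cenCheckRange chevD4 0 24 = true := by decide +kernel

set_option maxRecDepth 1000000 in
set_option maxHeartbeats 0 in
theorem cenI_D4 : ∀ i < chevD4.rank, cenCheckI chevD4 i = true := by decide +kernel

set_option maxRecDepth 1000000 in
set_option maxHeartbeats 0 in
theorem cenH_D4 : cenCheckHi chevD4 22 = true := by decide +kernel

theorem cenOK_D4 : CenOK chevD4 := by
  apply cenOK_of_chunks chevD4 24 1 (by decide +kernel) (by decide +kernel) ?_ cenI_D4 22 cenH_D4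
  intro k hk
  interval_cases k
  · exact cenC_D4_0

set_option maxRecDepth 1000000 in
set_option maxHeartbeats 0 in
theorem cenC_F4_0 : cenCheckRange chevF4 0 24 = true := by decide +kernel

set_option maxRecDepth 1000000 in
set_option maxHeartbeats 0 in
theorem cenC_F4_1 : cenCheckRange chevF4 24 24 = true := by decide +kernel

set_option maxRecDepth 1000000 in
set_option maxHeartbeats 0 in
theorem cenI_F4 : ∀ i < chevF4.rank, cenCheckI chevF4 i = true := by decide +kernel

set_option maxRecDepth 1000000 in
set_option maxHeartbeats 0 in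
theorem cenH_F4 : cenCheckHi chevF4 36 = true := by decide +kernel

theorem cenOK_F4 : CenOK chevF4 := by
  apply cenOK_of_chunks chevF4 24 2 (by decide +kernel) (by decide +kernel) ?_ cenI_F4 36 cenH_F4
  intro k hk
  interval_cases k
  · exact cenC_F4_0
  · exact cenC_F4_1

set_option maxRecDepth 1000000 in
set_option maxHeartbeats 0 in
theorem cenC_E6_0 : cenCheckRange chevE6 0 24 = true := by decide +kernel

set_option maxRecDepth 1000000 in
set_option maxHeartbeats 0 in
theorem cenC_E6_1 : cenCheckRange chevE6 24 24 = true := by decide +kernel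

set_option maxRecDepth 1000000 in
set_option maxHeartbeats 0 in
theorem cenC_E6_2 : cenCheckRange chevE6 48 24 = true := by decide +kernel

set_option maxRecDepth 1000000 in
set_option maxHeartbeats 0 in
theorem cenI_E6 : ∀ i < chevE6.rank, cenCheckI chevE6 i = true := by decide +kernel

set_option maxRecDepth 1000000 in
set_option maxHeartbeats 0 in
theorem cenH_E6 : cenCheckHi chevE6 63 = true := by decide +kernel

theorem cenOK_E6 : CenOK chevE6 := by
  apply cenOK_of_chunks chevE6 24 3 (by decide +kernel) (by decide +kernel) ?_ cenI_E6 63 cenH_E6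
  intro k hk
  interval_cases k
  · exact cenC_E6_0
  · exact cenC_E6_1
  · exact cenC_E6_2

set_option maxRecDepth 1000000 in
set_option maxHeartbeats 0 in
theorem cenC_E7_0 : cenCheckRange chevE7 0 21 = true := by decide +kernel

set_option maxRecDepth 1000000 in
set_option maxHeartbeats 0 in
theorem cenC_E7_1 : cenCheckRange chevE7 21 21 = true := by decide +kernel

set_option maxRecDepth 1000000 in
set_option maxHeartbeats 0 in
theorem cenC_E7_2 : cenCheckRange chevE7 42 21 = true := by decide +kernel

set_option maxRecDepth 1000000 in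
set_option maxHeartbeats 0 in
theorem cenC_E7_3 : cenCheckRange chevE7 63 21 = true := by decide +kernel

set_option maxRecDepth 1000000 in
set_option maxHeartbeats 0 in
theorem cenC_E7_4 : cenCheckRange chevE7 84 21 = true := by decide +kernel

set_option maxRecDepth 1000000 in
set_option maxHeartbeats 0 in
theorem cenC_E7_5 : cenCheckRange chevE7 105 21 = true := by decide +kernel

set_option maxRecDepth 1000000 in
set_option maxHeartbeats 0 in
theorem cenI_E7 : ∀ i < chevE7.rank, cenCheckI chevE7 i = true := by decide +kernel

set_option maxRecDepth 1000000 in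
set_option maxHeartbeats 0 in
theorem cenH_E7 : cenCheckHi chevE7 102 = true := by decide +kernel

theorem cenOK_E7 : CenOK chevE7 := by
  apply cenOK_of_chunks chevE7 21 6 (by decide +kernel) (by decide +kernel) ?_ cenI_E7 102 cenH_E7
  intro k hk
  interval_cases k
  · exact cenC_E7_0
  · exact cenC_E7_1
  · exact cenC_E7_2
  · exact cenC_E7_3
  · exact cenC_E7_4
  · exact cenC_E7_5

set_option maxRecDepth 1000000 in
set_option maxHeartbeats 0 in
theorem cenC_E8_0 : cenCheckRange chevE8 0 30 = true := by decide +kernel

set_option maxRecDepth 1000000 in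
set_option maxHeartbeats 0 in
theorem cenC_E8_1 : cenCheckRange chevE8 30 30 = true := by decide +kernel

set_option maxRecDepth 1000000 in
set_option maxHeartbeats 0 in
theorem cenC_E8_2 : cenCheckRange chevE8 60 30 = true := by decide +kernel

set_option maxRecDepth 1000000 in
set_option maxHeartbeats 0 in
theorem cenC_E8_3 : cenCheckRange chevE8 90 30 = true := by decide +kernel

set_option maxRecDepth 1000000 in
set_option maxHeartbeats 0 in
theorem cenC_E8_4 : cenCheckRange chevE8 120 30 = true := by decide +kernel

set_option maxRecDepth 1000000 in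
set_option maxHeartbeats 0 in
theorem cenC_E8_5 : cenCheckRange chevE8 150 30 = true := by decide +kernel

set_option maxRecDepth 1000000 in
set_option maxHeartbeats 0 in
theorem cenC_E8_6 : cenCheckRange chevE8 180 30 = true := by decide +kernel

set_option maxRecDepth 1000000 in
set_option maxHeartbeats 0 in
theorem cenC_E8_7 : cenCheckRange chevE8 210 30 = true := by decide +kernel

set_option maxRecDepth 1000000 in
set_option maxHeartbeats 0 in
theorem cenI_E8 : ∀ i < chevE8.rank, cenCheckI chevE8 i = true := by decide +kernel

set_option maxRecDepth 1000000 in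
set_option maxHeartbeats 0 in
theorem cenH_E8 : cenCheckHi chevE8 173 = true := by decide +kernel

theorem cenOK_E8 : CenOK chevE8 := by
  apply cenOK_of_chunks chevE8 30 8 (by decide +kernel) (by decide +kernel) ?_ cenI_E8 173 cenH_E8
  intro k hk
  interval_cases k
  · exact cenC_E8_0
  · exact cenC_E8_1
  · exact cenC_E8_2
  · exact cenC_E8_3
  · exact cenC_E8_4
  · exact cenC_E8_5
  · exact cenC_E8_6
  · exact cenC_E8_7

theorem cenOK_of_mem (D : ChevalleyDatum)
    (hD : D ∈ [chevG2, chevB2, chevD4, chevF4, chevE6, chevE7, chevE8]) : CenOK D := by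
  simp only [List.mem_cons, List.not_mem_nil, or_false] at hD
  rcases hD with rfl | rfl | rfl | rfl | rfl | rfl | rfl
  · exact cenOK_G2
  · exact cenOK_B2
  · exact cenOK_D4
  · exact cenOK_F4
  · exact cenOK_E6
  · exact cenOK_E7
  · exact cenOK_E8

/-- the character of the weight lattice modulo the root lattice, in type E₆ -/
def e6a : List ℤ := [1, 0, 2, 0, 1, 2]

def chiCheck (D : ChevalleyDatum) (a : List ℤ) : Bool :=
  (List.range D.rank).all fun j => (List.range D.rank).all fun m =>
    ((((List.range D.rank).map fun l =>
      a.getD l 0 * cor D (D.reflectRoot j (D.simple l)) m).sum - a.getD m 0) % 3 == 0)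

structure ChiOK (D : ChevalleyDatum) (a : List ℤ) : Prop where
  inv : ∀ j < D.rank, ∀ m < D.rank, (3 : ℤ) ∣
    ((List.range D.rank).map fun l =>
      a.getD l 0 * cor D (D.reflectRoot j (D.simple l)) m).sum - a.getD m 0

theorem chiOK_of_check (D : ChevalleyDatum) (a : List ℤ) (h : chiCheck D a = true) :
    ChiOK D a := by
  unfold chiCheck at h
  simp only [List.all_eq_true, List.mem_range, beq_iff_eq] at h
  exact ⟨fun j hj m hm => Int.dvd_of_emod_eq_zero (h j hj m hm)⟩

set_option maxRecDepth 1000000 in
set_option maxHeartbeats 0 in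
theorem chiOK_E6 : ChiOK chevE6 e6a := chiOK_of_check chevE6 e6a (by decide +kernel)

end Cfsg.Agent.helper6.Cen
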