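import Mathlib
import Cfsg.Agent.Lib_helper5_ChevBN2
import Cfsg.Agent.Lib_helper6_CenChk

set_option autoImplicit false

/-! Words in the fundamental reflections acting linearly on coroot coordinates; words commuting
with all fundamental reflections act as `1` or `-1` (helper6). -/

namespace Cfsg.Agent.helper6.Cen

open Cfsg.Lie Cfsg.Agent.helper5.Chev Cfsg.Agent.helper6.Para

theorem list_sum_range (n : ℕ) (f : ℕ → ℤ) :
    ((List.range n).map f).sum = ∑ k ∈ Finset.range n, f k := by
  induction n with
  | zero => simp
  | succ n ih =>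
    rw [List.range_succ, List.map_append, List.sum_append, ih, Finset.sum_range_succ]
    simp

section
variable (D : ChevalleyDatum)
  (hD : D ∈ [chevG2, chevB2, chevD4, chevF4, chevE6, chevE7, chevE8])

theorem sum_delta (n : ℕ) (f : ℕ → ℤ) (g : ℕ → ℤ) (m : ℕ) (hm : m < n) (c : ℤ)
    (hg : ∀ k < n, g k = if k = m then c else 0) :
    ∑ k ∈ Finset.range n, f k * g k = f m * c := by
  rw [Finset.sum_eq_single m]
  · rw [hg m hm, if_pos rfl]
  · intro k hk hkm
    rw [hg k (Finset.mem_range.mp hk), if_neg hkm, mul_zero]
  · intro h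
    exact absurd (Finset.mem_range.mpr hm) h

include hD in
/-- a fundamental reflection acts linearly on the coroot coordinates -/
theorem lin_all : ∀ j < D.rank, ∀ s < D.nroots, ∀ m < D.rank,
    cor D (D.reflectRoot j s) m =
      ∑ k ∈ Finset.range D.rank, cor D s k * cor D (D.reflectRoot j (D.simple k)) m := by
  have hR := rootsOK_of_mem D hD
  have hS := supOK_of_mem D hD
  have hC := cenOK_of_mem D hD
  intro j hj s hs m hm
  by_cases hmj : m = j
  · subst hmj
    rw [hC.lin m hm s hs, list_sum_range]
  · rw [hS.refl_cor s hs j hj m hm hmj]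
    rw [sum_delta D.rank _ _ m hm 1]
    · rw [mul_one]
    · intro k hk
      rw [hS.refl_cor _ (hR.simple_lt k hk) j hj m hm hmj]
      exact (hC.base k hk m hm).1

include hD in
/-- a word in the fundamental reflections acts linearly on the coroot coordinates -/
theorem lin_word : ∀ w : List ℕ, (∀ i ∈ w, i < D.rank) → ∀ s < D.nroots, ∀ m < D.rank,
    cor D (applyW D w s) m =
      ∑ k ∈ Finset.range D.rank, cor D s k * cor D (applyW D w (D.simple k)) m := by
  have hR := rootsOK_of_mem D hD
  have hC := cenOK_of_mem D hD
  intro w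
  induction w with
  | nil =>
    intro _ s hs m hm
    show cor D s m = ∑ k ∈ Finset.range D.rank, cor D s k * cor D (D.simple k) m
    rw [sum_delta D.rank _ _ m hm 1]
    · rw [mul_one]
    · intro k hk
      exact (hC.base k hk m hm).1
  | cons j w ih =>
    intro hw s hs m hm
    have hj := hw j List.mem_cons_self
    have hw' : ∀ i ∈ w, i < D.rank := fun i hi => hw i (List.mem_cons_of_mem _ hi)
    have e : ∀ r, applyW D (j :: w) r = D.reflectRoot j (applyW D w r) := fun r => rfl
    have hlt : ∀ r < D.nroots, applyW D w r < D.nroots := fun r hr => applyW_lt D hD w hw' r hr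
    rw [e, lin_all D hD j hj _ (hlt s hs) m hm]
    have h1 : ∀ l ∈ Finset.range D.rank,
        cor D (applyW D w s) l * cor D (D.reflectRoot j (D.simple l)) m =
        ∑ k ∈ Finset.range D.rank, cor D s k *
          (cor D (applyW D w (D.simple k)) l * cor D (D.reflectRoot j (D.simple l)) m) := by
      intro l hl
      rw [ih hw' s hs l (Finset.mem_range.mp hl), Finset.sum_mul]
      apply Finset.sum_congr rfl
      intro k _
      ring
    rw [Finset.sum_congr rfl h1, Finset.sum_comm]
    apply Finset.sum_congr rfl
    intro k hk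
    rw [← Finset.mul_sum, e,
      lin_all D hD j hj _ (hlt _ (hR.simple_lt k (Finset.mem_range.mp hk))) m hm]

include hD in
/-- words commute with `-1` -/
theorem applyW_neg : ∀ w : List ℕ, (∀ i ∈ w, i < D.rank) → ∀ r < D.nroots,
    applyW D w (D.neg r) = D.neg (applyW D w r) := by
  have hR := rootsOK_of_mem D hD
  intro w
  induction w with
  | nil => intro _ r _; rfl
  | cons j w ih =>
    intro hw r hr
    have hj := hw j List.mem_cons_self
    have hw' : ∀ i ∈ w, i < D.rank := fun i hi => hw i (List.mem_cons_of_mem _ hi)
    have e : ∀ r, applyW D (j :: w) r = D.reflectRoot j (applyW D w r) := fun r => rfl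
    rw [e, e, ih hw' r hr, hR.refl_neg j hj _ (applyW_lt D hD w hw' r hr)]

include hD in
theorem neg_ne_self (s : ℕ) (hs : s < D.nroots) : D.neg s ≠ s := by
  have hR := rootsOK_of_mem D hD
  intro h
  rcases hR.pos_or_neg s hs with h1 | h1
  · rw [h] at h1
    exact h1.2.1 h1.2.2
  · rw [h] at h1
    exact h1.2.1 h1.2.2

include hD in
/-- **a word commuting with all fundamental reflections acts as `1` or as `-1`** -/
theorem central_cases (w : List ℕ) (hw : ∀ i ∈ w, i < D.rank)
    (hcomm : ∀ i < D.rank, ∀ r < D.nroots,
      applyW D w (D.reflectRoot i r) = D.reflectRoot i (applyW D w r)) :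
    (∀ r < D.nroots, applyW D w r = r) ∨ (∀ r < D.nroots, applyW D w r = D.neg r) := by
  have hR := rootsOK_of_mem D hD
  have hC := cenOK_of_mem D hD
  have hlt : ∀ r < D.nroots, applyW D w r < D.nroots := fun r hr => applyW_lt D hD w hw r hr
  have hsimple : ∀ i < D.rank, applyW D w (D.simple i) = D.simple i ∨
      applyW D w (D.simple i) = D.neg (D.simple i) := by
    intro i hi
    have h1 := hcomm i hi (D.simple i) (hR.simple_lt i hi)
    rw [hR.refl_simple i hi, applyW_neg D hD w hw _ (hR.simple_lt i hi)] at h1
    exact hC.c1 i hi _ (hlt _ (hR.simple_lt i hi)) h1.symm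
  -- the signs
  have hdiag : ∀ k < D.rank, ∀ m < D.rank, cor D (applyW D w (D.simple k)) m =
      if k = m then cor D (applyW D w (D.simple m)) m else 0 := by
    intro k hk m hm
    by_cases hkm : k = m
    · subst hkm
      rw [if_pos rfl]
    · rw [if_neg hkm]
      rcases hsimple k hk with h1 | h1
      · rw [h1, (hC.base k hk m hm).1, if_neg hkm]
      · rw [h1, (hC.base k hk m hm).2, if_neg hkm]
  have hscal : ∀ s < D.nroots, ∀ m < D.rank,
      cor D (applyW D w s) m = cor D s m * cor D (applyW D w (D.simple m)) m := by
    intro s hs m hm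
    rw [lin_word D hD w hw s hs m hm]
    exact sum_delta D.rank _ _ m hm _ (fun k hk => hdiag k hk m hm)
  obtain ⟨h, hh, hpos⟩ := hC.hi
  rcases hC.sgn _ (hlt h hh) with hsg | hsg
  · left
    have hfix : ∀ i < D.rank, applyW D w (D.simple i) = D.simple i := by
      intro i hi
      rcases hsimple i hi with h1 | h1
      · exact h1
      · exfalso
        have h2 := hsg i hi
        rw [hscal h hh i hi, h1, (hC.base i hi i hi).2, if_pos rfl] at h2
        have := hpos i hi
        linarith
    refine hR.induction (fun s => applyW D w s = s) hfix ?_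
    intro i hi s hs hP
    show applyW D w (D.reflectRoot i s) = D.reflectRoot i s
    rw [hcomm i hi s hs, hP]
  · right
    have hfix : ∀ i < D.rank, applyW D w (D.simple i) = D.neg (D.simple i) := by
      intro i hi
      rcases hsimple i hi with h1 | h1
      · exfalso
        have h2 := hsg i hi
        rw [hscal h hh i hi, h1, (hC.base i hi i hi).1, if_pos rfl] at h2
        have := hpos i hi
        linarith
      · exact h1
    refine hR.induction (fun s => applyW D w s = D.neg s) hfix ?_
    intro i hi s hs hP
    show applyW D w (D.reflectRoot i s) = D.neg (D.reflectRoot i s)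
    rw [hcomm i hi s hs, hP, hR.refl_neg i hi s hs]

include hD in
/-- invariance of a character of the weight lattice modulo the root lattice -/
theorem chi_word (a : List ℤ) (hχ : ChiOK D a) : ∀ w : List ℕ, (∀ i ∈ w, i < D.rank) →
    ∀ m < D.rank, (3 : ℤ) ∣
      (∑ k ∈ Finset.range D.rank, a.getD k 0 * cor D (applyW D w (D.simple k)) m) -
        a.getD m 0 := by
  have hR := rootsOK_of_mem D hD
  have hC := cenOK_of_mem D hD
  intro w
  induction w with
  | nil =>
    intro _ m hm
    have h1 : ∑ k ∈ Finset.range D.rank, a.getD k 0 * cor D (applyW D [] (D.simple k)) m =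
        a.getD m 0 * 1 := by
      apply sum_delta D.rank _ _ m hm 1
      intro k hk
      exact (hC.base k hk m hm).1
    rw [h1, mul_one, sub_self]
    exact dvd_zero _
  | cons j w ih =>
    intro hw m hm
    have hj := hw j List.mem_cons_self
    have hw' : ∀ i ∈ w, i < D.rank := fun i hi => hw i (List.mem_cons_of_mem _ hi)
    have e : ∀ r, applyW D (j :: w) r = D.reflectRoot j (applyW D w r) := fun r => rfl
    have hlt : ∀ r < D.nroots, applyW D w r < D.nroots := fun r hr => applyW_lt D hD w hw' r hr
    have h1 : ∑ k ∈ Finset.range D.rank, a.getD k 0 * cor D (applyW D (j :: w) (D.simple k)) m =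
        ∑ l ∈ Finset.range D.rank,
          (∑ k ∈ Finset.range D.rank, a.getD k 0 * cor D (applyW D w (D.simple k)) l) *
            cor D (D.reflectRoot j (D.simple l)) m := by
      have h2 : ∀ k ∈ Finset.range D.rank,
          a.getD k 0 * cor D (applyW D (j :: w) (D.simple k)) m =
          ∑ l ∈ Finset.range D.rank, a.getD k 0 * cor D (applyW D w (D.simple k)) l *
            cor D (D.reflectRoot j (D.simple l)) m := by
        intro k hk
        rw [e, lin_all D hD j hj _ (hlt _ (hR.simple_lt k (Finset.mem_range.mp hk))) m hm,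
          Finset.mul_sum]
        apply Finset.sum_congr rfl
        intro l _
        ring
      rw [Finset.sum_congr rfl h2, Finset.sum_comm]
      apply Finset.sum_congr rfl
      intro l _
      rw [Finset.sum_mul]
    have h3 := hχ.inv j hj m hm
    rw [list_sum_range] at h3
    have h4 : (∑ l ∈ Finset.range D.rank,
          (∑ k ∈ Finset.range D.rank, a.getD k 0 * cor D (applyW D w (D.simple k)) l) *
            cor D (D.reflectRoot j (D.simple l)) m) - a.getD m 0 =
        (∑ l ∈ Finset.range D.rank,
          ((∑ k ∈ Finset.range D.rank, a.getD k 0 * cor D (applyW D w (D.simple k)) l) -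
            a.getD l 0) * cor D (D.reflectRoot j (D.simple l)) m) +
        ((∑ l ∈ Finset.range D.rank, a.getD l 0 * cor D (D.reflectRoot j (D.simple l)) m) -
          a.getD m 0) := by
      have h5 : ∀ l ∈ Finset.range D.rank,
          ((∑ k ∈ Finset.range D.rank, a.getD k 0 * cor D (applyW D w (D.simple k)) l) -
            a.getD l 0) * cor D (D.reflectRoot j (D.simple l)) m =
          (∑ k ∈ Finset.range D.rank, a.getD k 0 * cor D (applyW D w (D.simple k)) l) *
            cor D (D.reflectRoot j (D.simple l)) m -
          a.getD l 0 * cor D (D.reflectRoot j (D.simple l)) m := by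
        intro l _
        ring
      rw [Finset.sum_congr rfl h5, Finset.sum_sub_distrib]
      ring
    rw [h1, h4]
    apply dvd_add
    · apply Finset.dvd_sum
      intro l hl
      exact Dvd.dvd.mul_right (ih hw' l (Finset.mem_range.mp hl)) _
    · exact h3

/-- in type `E₆` no word acts as `-1` -/
theorem no_neg_E6 (w : List ℕ) (hw : ∀ i ∈ w, i < chevE6.rank)
    (h : ∀ r < chevE6.nroots, applyW chevE6 w r = chevE6.neg r) : False := by
  have hD : chevE6 ∈ [chevG2, chevB2, chevD4, chevF4, chevE6, chevE7, chevE8] := by simp
  have hR := rootsOK_of_mem chevE6 hD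
  have hC := cenOK_of_mem chevE6 hD
  have h0 : (0 : ℕ) < chevE6.rank := by decide
  have h1 := chi_word chevE6 hD e6a chiOK_E6 w hw 0 h0
  have h2 : ∑ k ∈ Finset.range chevE6.rank,
      e6a.getD k 0 * cor chevE6 (applyW chevE6 w (chevE6.simple k)) 0 = e6a.getD 0 0 * (-1) := by
    apply sum_delta chevE6.rank _ _ 0 h0 (-1)
    intro k hk
    rw [h _ (hR.simple_lt k hk)]
    exact (hC.base k hk 0 h0).2
  rw [h2] at h1
  have h3 : e6a.getD 0 0 = 1 := rfl
  rw [h3] at h1
  norm_num at h1

end

end Cfsg.Agent.helper6.Cen
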