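import Mathlib
import Cfsg.Prelude

set_option autoImplicit false

namespace Cfsg.Agent.helper6.CentTr

/-- the conclusion of the theorem on centralizers of involutions in groups with quasi-dihedral
or wreathed Sylow 2-subgroups. -/
def Concl (G : Type*) [Group G] (c : ℕ) (x : G) : Prop :=
  ∃ R : Sylow 2 ↥(Subgroup.centralizer ({x} : Set G)), Nat.card R = c ∧
    (∃ K : Subgroup ↥(Subgroup.centralizer ({x} : Set G)), K.Normal ∧
      (∃ a : ℕ, K.index = 2 ^ a) ∧ (∀ H : Subgroup ↥K, H.index ≠ 2) ∧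
      (∀ P : Sylow 2 ↥K, ∃ m : ℕ, 1 ≤ m ∧
        Nonempty ((P : Subgroup ↥K) ≃* QuaternionGroup (2 ^ m)))) ∧
    (∀ Z₀ : Subgroup ↥(Subgroup.centralizer ({x} : Set G)),
      Z₀ ≤ ((Subgroup.center (R : Subgroup ↥(Subgroup.centralizer ({x} : Set G)))).map
        (R : Subgroup ↥(Subgroup.centralizer ({x} : Set G))).subtype) →
      Cfsg.IsWeaklyClosed Z₀ (R : Subgroup ↥(Subgroup.centralizer ({x} : Set G))))

end Cfsg.Agent.helper6.CentTr
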