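import Mathlib
import Cfsg.Prelude

set_option autoImplicit false
set_option linter.unusedSectionVars false
set_option linter.unusedVariables false

namespace Cfsg.Agent.helper6.CentTr

variable {G : Type*} [Group G]

theorem centralizer_subgroupOf (C A : Subgroup G) (hA : A ≤ C) :
    Subgroup.centralizer ((A.subgroupOf C : Subgroup ↥C) : Set ↥C) =
      (Subgroup.centralizer (A : Set G)).subgroupOf C := by
  ext c
  rw [Subgroup.mem_centralizer_iff, Subgroup.mem_subgroupOf, Subgroup.mem_centralizer_iff]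
  constructor
  · intro h a ha
    have h1 := h ⟨a, hA ha⟩ (by rw [SetLike.mem_coe, Subgroup.mem_subgroupOf]; exact ha)
    exact congrArg Subtype.val h1
  · intro h a ha
    apply Subtype.ext
    exact h a.1 (by rwa [SetLike.mem_coe, Subgroup.mem_subgroupOf] at ha)

theorem relIndex_centralizer_tr (C A : Subgroup G) (hA : A ≤ C)
    (hN : Subgroup.normalizer (A : Set G) ≤ C) :
    (Subgroup.centralizer ((A.subgroupOf C : Subgroup ↥C) : Set ↥C)).relIndex
      (Subgroup.normalizer ((A.subgroupOf C : Subgroup ↥C) : Set ↥C)) =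
    (Subgroup.centralizer (A : Set G)).relIndex (Subgroup.normalizer (A : Set G)) := by
  rw [centralizer_subgroupOf C A hA, ← Subgroup.subgroupOf_normalizer_eq hA,
    Subgroup.relIndex_subgroupOf hN]

theorem relIndex_sup_centralizer_tr (C A : Subgroup G) (hA : A ≤ C)
    (hN : Subgroup.normalizer (A : Set G) ≤ C) :
    ((A.subgroupOf C) ⊔ Subgroup.centralizer ((A.subgroupOf C : Subgroup ↥C) : Set ↥C)).relIndex
      (Subgroup.normalizer ((A.subgroupOf C : Subgroup ↥C) : Set ↥C)) =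
    (A ⊔ Subgroup.centralizer (A : Set G)).relIndex (Subgroup.normalizer (A : Set G)) := by
  have hCC : Subgroup.centralizer (A : Set G) ≤ C :=
    (Subgroup.centralizer_le_normalizer _).trans hN
  rw [centralizer_subgroupOf C A hA, ← Subgroup.subgroupOf_sup hA hCC,
    ← Subgroup.subgroupOf_normalizer_eq hA, Subgroup.relIndex_subgroupOf hN]

theorem mem_map_center_iff (B : Subgroup G) (g : G) :
    g ∈ (Subgroup.center ↥B).map B.subtype ↔ g ∈ B ∧ ∀ b ∈ B, b * g = g * b := by
  constructor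
  · rintro ⟨c, hc, rfl⟩
    refine ⟨c.2, fun b hb => ?_⟩
    have h1 := Subgroup.mem_center_iff.mp hc ⟨b, hb⟩
    exact congrArg Subtype.val h1
  · rintro ⟨hg, h⟩
    refine ⟨⟨g, hg⟩, ?_, rfl⟩
    rw [SetLike.mem_coe, Subgroup.mem_center_iff]
    intro b
    exact Subtype.ext (h b.1 b.2)

/-- the centre of `B` seen inside `C`. -/
theorem map_center_subgroupOf (C B : Subgroup G) (hB : B ≤ C) :
    (Subgroup.center ↥(B.subgroupOf C)).map (B.subgroupOf C).subtype =
      ((Subgroup.center ↥B).map B.subtype).subgroupOf C := by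
  ext c
  rw [mem_map_center_iff, Subgroup.mem_subgroupOf, Subgroup.mem_subgroupOf, mem_map_center_iff]
  constructor
  · rintro ⟨hc, h⟩
    refine ⟨hc, fun b hb => ?_⟩
    have h1 := h ⟨b, hB hb⟩ (by rw [Subgroup.mem_subgroupOf]; exact hb)
    exact congrArg Subtype.val h1
  · rintro ⟨hc, h⟩
    refine ⟨hc, fun b hb => ?_⟩
    apply Subtype.ext
    exact h b.1 (by rwa [Subgroup.mem_subgroupOf] at hb)

theorem isWreathed_of_equiv {S₁ S₂ : Type*} [Group S₁] [Group S₂] (e : S₁ ≃* S₂)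
    (h : Cfsg.IsWreathed S₁) : Cfsg.IsWreathed S₂ := by
  obtain ⟨n, hn, hcard, x, y, z, hx, hxy, hinf, hz, hzx⟩ := h
  refine ⟨n, hn, by rw [← Nat.card_congr e.toEquiv, hcard], e x, e y, e z, ?_, ?_, ?_, ?_, ?_⟩
  · rw [MulEquiv.orderOf_eq, hx]
  · rw [← map_mul, ← map_mul, hxy]
  · rw [Subgroup.eq_bot_iff_forall]
    intro g hg
    rw [Subgroup.mem_inf] at hg
    obtain ⟨⟨i, hi⟩, ⟨j, hj⟩⟩ := hg
    have h1 : e.symm g ∈ Subgroup.zpowers x ⊓ Subgroup.zpowers y := by
      rw [Subgroup.mem_inf]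
      constructor
      · refine ⟨i, ?_⟩
        apply e.injective
        rw [MulEquiv.apply_symm_apply, ← hi, map_zpow]
      · refine ⟨j, ?_⟩
        apply e.injective
        rw [MulEquiv.apply_symm_apply, ← hj, map_zpow]
    rw [hinf, Subgroup.mem_bot] at h1
    have h2 := congrArg e h1
    rwa [MulEquiv.apply_symm_apply, map_one] at h2
  · rw [MulEquiv.orderOf_eq, hz]
  · rw [← map_inv, ← map_mul, ← map_mul, hzx]

theorem isQuasiDihedral_of_equiv {S₁ S₂ : Type*} [Group S₁] [Group S₂] (e : S₁ ≃* S₂)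
    (h : Cfsg.IsQuasiDihedral S₁) : Cfsg.IsQuasiDihedral S₂ := by
  obtain ⟨n, hn, hcard, x, y, hx, hy, hyx⟩ := h
  refine ⟨n, hn, by rw [← Nat.card_congr e.toEquiv, hcard], e x, e y, ?_, ?_, ?_⟩
  · rw [MulEquiv.orderOf_eq, hx]
  · rw [MulEquiv.orderOf_eq, hy]
  · rw [← map_inv, ← map_mul, ← map_mul, hyx, map_pow]

end Cfsg.Agent.helper6.CentTr
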