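import Mathlib
import Cfsg.Prelude

set_option autoImplicit false
set_option linter.unusedSectionVars false
set_option linter.unusedVariables false

namespace Cfsg.Agent.helper6.CentTr

variable {G : Type*} [Group G]

/-- a proper normal subgroup of 2-power index gives a subgroup of index 2. -/
theorem exists_index_two_of_normal_pow [Finite G] (K : Subgroup G) [K.Normal] (a : ℕ) (ha : 1 ≤ a)
    (hK : K.index = 2 ^ a) : ∃ H : Subgroup G, H.index = 2 := by
  have : Fact (Nat.Prime 2) := ⟨Nat.prime_two⟩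
  have hcard : Nat.card (G ⧸ K) = 2 ^ a := by rw [← Subgroup.index_eq_card, hK]
  obtain ⟨L, hL⟩ := Sylow.exists_subgroup_card_pow_prime (G := G ⧸ K) 2 (n := a - 1)
    (by rw [hcard]; exact pow_dvd_pow 2 (Nat.sub_le a 1))
  have h1 := Subgroup.card_mul_index L
  rw [hL, hcard] at h1
  have h2 : L.index = 2 := by
    have h3 : 2 ^ a = 2 ^ (a - 1) * 2 := by
      rw [← pow_succ]; congr 1; omega
    rw [h3] at h1
    exact Nat.eq_of_mul_eq_mul_left (by positivity) h1
  refine ⟨L.comap (QuotientGroup.mk' K), ?_⟩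
  rw [Subgroup.index_comap_of_surjective L (QuotientGroup.mk'_surjective K), h2]

/-- a group of even order with a normal 2-complement has a subgroup of index 2. -/
theorem exists_index_two_of_complement [Finite G] (S : Sylow 2 G) (k : ℕ) (hk : 1 ≤ k)
    (hS : Nat.card S = 2 ^ k) (h : Cfsg.HasNormalPComplement 2 G) :
    ∃ H : Subgroup G, H.index = 2 := by
  have : Fact (Nat.Prime 2) := ⟨Nat.prime_two⟩
  obtain ⟨P, N, hN, hc⟩ := h
  have h1 : N.index = Nat.card P := hc.symm.index_eq_card
  have h2 : Nat.card P = Nat.card S := by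
    rw [Sylow.card_eq_multiplicity P, Sylow.card_eq_multiplicity S]
  rw [h2, hS] at h1
  exact exists_index_two_of_normal_pow N k hk h1

/-- if there is exactly one class of involutions, any two involutions are conjugate. -/
theorem isConj_of_card_classes_eq_one
    (h : Nat.card {C : ConjClasses G // ∃ t : G, orderOf t = 2 ∧ ConjClasses.mk t = C} = 1)
    (a b : G) (ha : orderOf a = 2) (hb : orderOf b = 2) : IsConj a b := by
  obtain ⟨hsub, -⟩ := Nat.card_eq_one_iff_unique.mp h
  have h1 := hsub.elim ⟨ConjClasses.mk a, a, ha, rfl⟩ ⟨ConjClasses.mk b, b, hb, rfl⟩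
  have h2 : ConjClasses.mk a = ConjClasses.mk b := congrArg Subtype.val h1
  exact ConjClasses.mk_eq_mk_iff_isConj.mp h2

theorem q8_invol : ∀ u : QuaternionGroup 2, u ≠ 1 → u * u = 1 → u = QuaternionGroup.a 2 := by
  decide

/-- a quaternion group of order 8 has a unique involution. -/
theorem q8_unique_invol (Q : Subgroup G) (eQ : Q ≃* QuaternionGroup 2) (a b : G) (ha : a ∈ Q)
    (hb : b ∈ Q) (ha2 : orderOf a = 2) (hb2 : orderOf b = 2) : a = b := by
  have key : ∀ c : G, ∀ hc : c ∈ Q, orderOf c = 2 → eQ ⟨c, hc⟩ = QuaternionGroup.a 2 := by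
    intro c hc hc2
    apply q8_invol
    · intro h
      have h1 : (⟨c, hc⟩ : Q) = 1 := by
        apply eQ.injective; rw [h, map_one]
      have h2 : c = 1 := congrArg Subtype.val h1
      rw [h2, orderOf_one] at hc2
      norm_num at hc2
    · rw [← map_mul]
      have h1 : (⟨c, hc⟩ : Q) * ⟨c, hc⟩ = 1 := by
        apply Subtype.ext
        show c * c = 1
        rw [← pow_two, ← hc2]; exact pow_orderOf_eq_one c
      rw [h1, map_one]
  have h1 := (key a ha ha2).trans (key b hb hb2).symm
  exact congrArg Subtype.val (eQ.injective h1)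

theorem isWeaklyClosed_bot (P : Subgroup G) : Cfsg.IsWeaklyClosed (⊥ : Subgroup G) P := by
  refine ⟨bot_le, fun g _ => ?_⟩
  rw [Subgroup.map_bot]

/-- subgroups of a group of order 2. -/
theorem eq_bot_or_eq_of_card_two [Finite G] (M Z₀ : Subgroup G) (hM : Nat.card M = 2) (h : Z₀ ≤ M) :
    Z₀ = ⊥ ∨ Z₀ = M := by
  have h1 : Nat.card Z₀ ∣ 2 := hM ▸ Subgroup.card_dvd_of_le h
  rcases (Nat.dvd_prime Nat.prime_two).mp h1 with h2 | h2
  · left; exact Subgroup.card_eq_one.mp h2
  · right; exact Subgroup.eq_of_le_of_card_ge h (by rw [h2, hM])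

end Cfsg.Agent.helper6.CentTr
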