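import Mathlib
import Cfsg.Prelude.Def_ChevAutomorphisms
import Cfsg.Prelude.Def_ChevG2
import Cfsg.Prelude.Def_ChevB2
import Cfsg.Prelude.Def_ChevD4
import Cfsg.Prelude.Def_ChevF4
import Cfsg.Prelude.Def_ChevE6
import Cfsg.Prelude.Def_ChevE7
import Cfsg.Prelude.Def_ChevE8

set_option autoImplicit false

/-! Conjugation of root elements by the diagonal matrix of a character of the root lattice
(helper6). -/

namespace Cfsg.Agent.helper6.CharDiag

open Cfsg.Lie

/-- table check: consecutive members of the `s`-chains differ by `s` -/
def chainStepS (D : ChevalleyDatum) (s : ℕ) : Bool :=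
  (D.chain.getD s #[]).toList.all fun e =>
    e.2.toList.zipIdx.all fun q =>
      decide ((if q.2 = 0 then e.1 else (e.2.toList.getD (q.2 - 1) (0, 0)).1) < D.nroots) &&
      decide (D.chainRoot s (if q.2 = 0 then e.1 else (e.2.toList.getD (q.2 - 1) (0, 0)).1) 1 =
        some q.1.1)

def chainStepRange (D : ChevalleyDatum) (lo n : ℕ) : Bool :=
  (List.range n).all fun k => chainStepS D (lo + k)

theorem chainStepS_of_range (D : ChevalleyDatum) (lo n : ℕ)
    (h : chainStepRange D lo n = true) (s : ℕ) (h1 : lo ≤ s) (h2 : s < lo + n) :
    chainStepS D s = true := by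
  unfold chainStepRange at h
  rw [List.all_eq_true] at h
  have := h (s - lo) (List.mem_range.mpr (by omega))
  rwa [Nat.add_sub_cancel' h1] at this

def ChainStepOK (D : ChevalleyDatum) : Prop := ∀ s < D.nroots, chainStepS D s = true

set_option maxRecDepth 1000000 in
theorem chk_G2 : chainStepRange chevG2 0 12 = true := by decide +kernel
set_option maxRecDepth 1000000 in
theorem chk_B2 : chainStepRange chevB2 0 8 = true := by decide +kernel
set_option maxRecDepth 1000000 in
theorem chk_D4 : chainStepRange chevD4 0 24 = true := by decide +kernel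
set_option maxRecDepth 1000000 in
theorem chk_F4 : chainStepRange chevF4 0 48 = true := by decide +kernel
set_option maxRecDepth 1000000 in
theorem chk_E6 : chainStepRange chevE6 0 72 = true := by decide +kernel
set_option maxRecDepth 1000000 in
theorem chk_E7 : chainStepRange chevE7 0 126 = true := by decide +kernel
set_option maxRecDepth 1000000 in
theorem chk_E8a : chainStepRange chevE8 0 60 = true := by decide +kernel
set_option maxRecDepth 1000000 in
theorem chk_E8b : chainStepRange chevE8 60 60 = true := by decide +kernel
set_option maxRecDepth 1000000 in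
theorem chk_E8c : chainStepRange chevE8 120 60 = true := by decide +kernel
set_option maxRecDepth 1000000 in
theorem chk_E8d : chainStepRange chevE8 180 60 = true := by decide +kernel

theorem chainStepOK_of_mem (D : ChevalleyDatum)
    (hD : D ∈ [chevG2, chevB2, chevD4, chevF4, chevE6, chevE7, chevE8]) : ChainStepOK D := by
  simp only [List.mem_cons, List.not_mem_nil, or_false] at hD
  rcases hD with rfl | rfl | rfl | rfl | rfl | rfl | rfl
  · intro s hs
    exact chainStepS_of_range _ 0 12 chk_G2 s (Nat.zero_le _) (by have hs' : s < 12 := hs; omega)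
  · intro s hs
    exact chainStepS_of_range _ 0 8 chk_B2 s (Nat.zero_le _) (by have hs' : s < 8 := hs; omega)
  · intro s hs
    exact chainStepS_of_range _ 0 24 chk_D4 s (Nat.zero_le _) (by have hs' : s < 24 := hs; omega)
  · intro s hs
    exact chainStepS_of_range _ 0 48 chk_F4 s (Nat.zero_le _) (by have hs' : s < 48 := hs; omega)
  · intro s hs
    exact chainStepS_of_range _ 0 72 chk_E6 s (Nat.zero_le _) (by have hs' : s < 72 := hs; omega)
  · intro s hs
    exact chainStepS_of_range _ 0 126 chk_E7 s (Nat.zero_le _) (by have hs' : s < 126 := hs; omega)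
  · intro s hs
    have hs' : s < 240 := hs
    by_cases h1 : s < 60
    · exact chainStepS_of_range _ 0 60 chk_E8a s (Nat.zero_le _) (by omega)
    · by_cases h2 : s < 120
      · exact chainStepS_of_range _ 60 60 chk_E8b s (by omega) (by omega)
      · by_cases h3 : s < 180
        · exact chainStepS_of_range _ 120 60 chk_E8c s (by omega) (by omega)
        · exact chainStepS_of_range _ 180 60 chk_E8d s (by omega) (by omega)

end Cfsg.Agent.helper6.CharDiag
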