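import Mathlib
import Cfsg.Agent.Lib_helper6_CharDiag

set_option autoImplicit false

/-! Conjugation of root elements by the diagonal matrix of a character of the root lattice,
part 2 (helper6). -/

namespace Cfsg.Agent.helper6.CharDiag

open Cfsg.Lie

section
variable {F : Type*} [Field F]

theorem chainCoeff_mem'' (D : ChevalleyDatum) (r s u : ℕ) (km : ℕ × ℤ)
    (h : km ∈ D.chainCoeff r s u) :
    ∃ e ∈ (D.chain.getD r #[]).toList, e.1 = s ∧ ∃ q ∈ e.2.toList.zipIdx, q.1.1 = u ∧
      km.1 = q.2 + 1 := by
  unfold ChevalleyDatum.chainCoeff at h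
  rw [List.mem_flatMap] at h
  obtain ⟨e, he, hkm⟩ := h
  rw [List.mem_filter] at he
  rw [List.mem_map] at hkm
  obtain ⟨q, hq, rfl⟩ := hkm
  rw [List.mem_filter] at hq
  exact ⟨e, he.1, by simpa using he.2, q, hq.1, by simpa using hq.2, rfl⟩

/-- multiplicativity of a root character along a chain -/
theorem chi_step (D : ChevalleyDatum) (χ : ℕ → Fˣ) (hχ : D.IsRootCharacter χ) (s : ℕ)
    (hs : s < D.nroots) (hchk : chainStepS D s = true)
    (e : ℕ × Array (ℕ × ℤ)) (he : e ∈ (D.chain.getD s #[]).toList) :
    ∀ (k : ℕ) (q : (ℕ × ℤ) × ℕ), q ∈ e.2.toList.zipIdx → q.2 = k →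
      χ q.1.1 = χ s ^ (k + 1) * χ e.1 := by
  unfold chainStepS at hchk
  simp only [List.all_eq_true, Bool.and_eq_true, decide_eq_true_eq] at hchk
  have h1 := hchk e he
  intro k
  induction k with
  | zero =>
    intro q hq hk
    have h2 := h1 q hq
    rw [hk] at h2
    simp only [if_true] at h2
    rw [hχ.2 s e.1 q.1.1 hs h2.1 h2.2, zero_add, pow_one]
  | succ k ih =>
    intro q hq hk
    have h2 := h1 q hq
    rw [hk] at h2
    simp only [Nat.add_eq_zero_iff, one_ne_zero, and_false, if_false, Nat.add_sub_cancel] at h2
    have hlt : k < e.2.toList.length := by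
      have h3 := List.mem_zipIdx_iff_getElem?.mp hq
      rw [hk] at h3
      have h4 : k + 1 < e.2.toList.length := by
        by_contra hcon
        rw [List.getElem?_eq_none (by omega)] at h3
        exact absurd h3 (by simp)
      omega
    have hmem : (e.2.toList.getD k (0, 0), k) ∈ e.2.toList.zipIdx := by
      rw [List.mem_zipIdx_iff_getElem?]
      show e.2.toList[k]? = some (e.2.toList.getD k (0, 0))
      rw [List.getD_eq_getElem?_getD, List.getElem?_eq_getElem hlt]
      rfl
    have h3 := ih (e.2.toList.getD k (0, 0), k) hmem rfl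
    rw [hχ.2 s _ q.1.1 hs h2.1 h2.2, h3, pow_succ (χ s) (k + 1)]
    simp only [mul_comm, mul_left_comm]

/-- **`ĥ x_s(t) = x_s(χ(s) t) ĥ` for the diagonal matrix `ĥ` of a root character `χ`.** -/
theorem charDiag_mul_xMat (D : ChevalleyDatum) (χ : ℕ → Fˣ) (hχ : D.IsRootCharacter χ)
    (s : Fin D.nroots) (hchk : chainStepS D s.val = true) (t : F) :
    D.charDiag F χ * D.xMat F s t = D.xMat F s ((χ s.val : F) * t) * D.charDiag F χ := by
  ext row col
  unfold ChevalleyDatum.charDiag
  rw [Matrix.diagonal_mul, Matrix.mul_diagonal]
  unfold ChevalleyDatum.xMat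
  simp only [Matrix.of_apply]
  rcases col with j | v
  · dsimp only
    rcases row with j' | u
    · dsimp only [Sum.elim_inl]
      ring
    · dsimp only [Sum.elim_inl, Sum.elim_inr]
      by_cases hu : u = s
      · subst hu
        rw [if_pos rfl, if_pos rfl]
        ring
      · rw [if_neg hu, if_neg hu]
        ring
  · dsimp only
    by_cases hvs : v = s
    · rw [if_pos hvs, if_pos hvs]
      rcases row with j' | u
      · dsimp only [Sum.elim_inl]
        ring
      · dsimp only [Sum.elim_inr]
        by_cases hu : u = s
        · rw [if_pos hu, hu, hvs]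
          ring
        · rw [if_neg hu]
          ring
    · rw [if_neg hvs, if_neg hvs]
      by_cases hvn : v.val = D.negIdx.getD s.val 0
      · rw [if_pos hvn, if_pos hvn]
        have hcv : ((χ v.val : Fˣ) : F) * ((χ s.val : Fˣ) : F) = 1 := by
          have h1 : χ v.val = (χ s.val)⁻¹ := by
            rw [hvn]
            exact hχ.1 s.val s.2
          rw [h1, ← Units.val_mul, inv_mul_cancel, Units.val_one]
        rcases row with j' | u
        · dsimp only [Sum.elim_inl, Sum.elim_inr]
          rw [one_mul]
          calc ((D.coroot.getD s.val #[]).getD j'.val 0 : ℤ) * t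
              = ((D.coroot.getD s.val #[]).getD j'.val 0 : ℤ) * t *
                (((χ v.val : Fˣ) : F) * ((χ s.val : Fˣ) : F)) := by rw [hcv, mul_one]
            _ = _ := by ring
        · dsimp only [Sum.elim_inr]
          by_cases huv : u = v
          · rw [if_pos huv, if_pos huv, huv]
            ring
          · rw [if_neg huv, if_neg huv]
            by_cases hus : u = s
            · rw [if_pos hus, if_pos hus, hus]
              calc ((χ s.val : Fˣ) : F) * -(t ^ 2)
                  = ((χ s.val : Fˣ) : F) * -(t ^ 2) *
                    (((χ v.val : Fˣ) : F) * ((χ s.val : Fˣ) : F)) := by rw [hcv, mul_one]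
                _ = _ := by ring
            · rw [if_neg hus, if_neg hus]
              ring
      · rw [if_neg hvn, if_neg hvn]
        rcases row with j' | u
        · dsimp only [Sum.elim_inl]
          ring
        · dsimp only [Sum.elim_inr]
          rw [mul_add, add_mul]
          congr 1
          · by_cases huv : u = v
            · rw [if_pos huv, huv]
              ring
            · rw [if_neg huv]
              ring
          · rw [← List.sum_map_mul_left, ← List.sum_map_mul_right]
            congr 1
            apply List.map_congr_left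
            intro km hkm
            obtain ⟨e, he, hev, q, hq, hqu, hk⟩ := chainCoeff_mem'' D _ _ _ km hkm
            have hA := chi_step D χ hχ s.val s.2 hchk e he q.2 q hq rfl
            rw [hqu, hev, ← hk] at hA
            have hpow : ((χ u.val : Fˣ) : F) =
                (((χ s.val : Fˣ) : F)) ^ km.1 * ((χ v.val : Fˣ) : F) := by
              rw [hA, Units.val_mul, Units.val_pow_eq_pow_val]
            rw [hpow, mul_pow]
            ring

end

end Cfsg.Agent.helper6.CharDiag
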