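import Mathlib
import Cfsg.Agent.Lib_helper19_Pairing
import Cfsg.Agent.Lib_helper10_Sylow

set_option autoImplicit false
set_option linter.unusedSectionVars false
set_option linter.unusedVariables false

namespace Cfsg.Agent.helper6.ConstStab

variable {P E : Type*} [Group P] [AddCommGroup E] [DistribMulAction P E]

/-- the norm operator `1 + g + ⋯ + g^(p-1)` of an element with `g ^ p = 1`. -/
noncomputable def T (p : ℕ) [Fact p.Prime] (g : P) (v : E) : E := ∑ i : ZMod p, g ^ i.val • v

variable (p : ℕ) [Fact p.Prime]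

theorem T_fixed (g : P) (hg : g ^ p = 1) (v : E) : g • T p g v = T p g v := by
  unfold T
  rw [Finset.smul_sum]
  have h : ∀ i : ZMod p, g • g ^ i.val • v = g ^ (i + 1).val • v := by
    intro i
    rw [smul_smul, ← pow_succ']
    have h1 : (i + 1).val = (i.val + 1) % p := by rw [ZMod.val_add, ZMod.val_one]
    rw [h1, ← pow_eq_pow_mod _ hg]
  simp_rw [h]
  exact Fintype.sum_equiv (Equiv.addRight 1) _ _ (fun i => rfl)

theorem pow_smul_of_fixed (g : P) (v : E) (h : g • v = v) (k : ℕ) : g ^ k • v = v := by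
  induction k with
  | zero => rw [pow_zero, one_smul]
  | succ k ih => rw [pow_succ, mul_smul, h, ih]

theorem T_of_fixed (g : P) (v : E) (h : g • v = v) : T p g v = p • v := by
  unfold T
  simp_rw [pow_smul_of_fixed g v h]
  rw [Finset.sum_const, Finset.card_univ, ZMod.card]

theorem T_add (g : P) (v w : E) : T p g (v + w) = T p g v + T p g w := by
  unfold T
  simp_rw [smul_add]
  rw [Finset.sum_add_distrib]

theorem T_zero (g : P) : T p g (0 : E) = 0 := by
  unfold T
  simp

theorem T_comm (g h : P) (hc : h * g = g * h) (v : E) : h • T p g v = T p g (h • v) := by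
  unfold T
  rw [Finset.smul_sum]
  refine Finset.sum_congr rfl (fun i _ => ?_)
  have h1 : Commute h (g ^ i.val) := (show Commute h g from hc).pow_right _
  rw [smul_smul, smul_smul, h1.eq]

/-- a non-cyclic elementary abelian group `⟨x, z⟩` cannot act without fixed points. -/
theorem exists_fixed (x z : P) (hxz : x * z = z * x) (hx : x ^ p = 1) (hz : z ^ p = 1)
    (hzf : ∀ v : E, z • v = v → v = 0) (hcop : ∀ v : E, p • v = 0 → v = 0) (e : E) (he : e ≠ 0) :
    ∃ j : ℕ, ∃ a : E, a ≠ 0 ∧ (x * z ^ j) • a = a := by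
  by_contra hno
  push Not at hno
  have hT : ∀ j : ℕ, T p (x * z ^ j) e = 0 := by
    intro j
    by_contra h
    have hc : Commute x (z ^ j) := (show Commute x z from hxz).pow_right _
    have hp' : (x * z ^ j) ^ p = 1 := by
      rw [hc.mul_pow, hx, ← pow_mul, mul_comm, pow_mul, hz, one_pow, mul_one]
    exact hno j _ h (T_fixed p _ hp' e)
  have hTz : T p z e = 0 := hzf _ (T_fixed p z hz e)
  have key : ∑ j : ZMod p, T p (x * z ^ j.val) e = p • e := by
    unfold T
    rw [Finset.sum_comm, Fintype.sum_eq_single (0 : ZMod p)]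
    · simp only [ZMod.val_zero, pow_zero, one_smul]
      rw [Finset.sum_const, Finset.card_univ, ZMod.card]
    · intro i hi
      have h1 : ∀ j : ZMod p, (x * z ^ j.val) ^ i.val • e = x ^ i.val • z ^ (j * i).val • e := by
        intro j
        have hc : Commute x (z ^ j.val) := (show Commute x z from hxz).pow_right _
        rw [hc.mul_pow, mul_smul, ← pow_mul]
        congr 2
        rw [ZMod.val_mul, ← pow_eq_pow_mod _ hz]
      simp_rw [h1]
      rw [← Finset.smul_sum]
      have h2 : ∑ j : ZMod p, z ^ (j * i).val • e = ∑ k : ZMod p, z ^ k.val • e :=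
        Fintype.sum_equiv (Equiv.mulRight₀ i hi) _ _ (fun j => rfl)
      rw [h2]
      have h3 : ∑ k : ZMod p, z ^ k.val • e = T p z e := rfl
      rw [h3, hTz, smul_zero]
  rw [Finset.sum_eq_zero (fun j _ => hT j.val)] at key
  exact he (hcop e key.symm)

/-- the stabilizer comparison lemma derived from the constancy of the stabilizer orders. -/
theorem stab_le_of_add [Finite P]
    (hconst : ∀ a b : E, a ≠ 0 → b ≠ 0 →
      Nat.card (MulAction.stabilizer P a) = Nat.card (MulAction.stabilizer P b))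
    (a b : E) (ha : a ≠ 0) (hab : a + b ≠ 0)
    (h : ∀ g : P, g • (a + b) = a + b → g • a = a ∧ g • b = b) :
    ∀ g : P, g • a = a → g • b = b := by
  have h1 : MulAction.stabilizer P (a + b) ≤ MulAction.stabilizer P a := fun g hg => (h g hg).1
  have h2 : MulAction.stabilizer P (a + b) = MulAction.stabilizer P a :=
    Subgroup.eq_of_le_of_card_ge h1 (by rw [hconst _ _ hab ha])
  intro g hg
  have h3 : g ∈ MulAction.stabilizer P (a + b) := by rw [h2]; exact hg
  exact (h g h3).2

/-- a central element of order `p` acts without fixed points. -/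
theorem central_fpf [Finite P] [FaithfulSMul P E]
    (hconst : ∀ a b : E, a ≠ 0 → b ≠ 0 →
      Nat.card (MulAction.stabilizer P a) = Nat.card (MulAction.stabilizer P b))
    (hcop : ∀ v : E, p • v = 0 → v = 0)
    (z : P) (hzc : ∀ g : P, g * z = z * g) (hz1 : z ≠ 1) (hz : z ^ p = 1) :
    ∀ a : E, z • a = a → a = 0 := by
  intro a hza
  by_contra ha
  obtain ⟨e, he⟩ : ∃ e : E, z • e ≠ e := by
    by_contra hall
    push Not at hall
    exact hz1 (eq_of_smul_eq_smul (α := E) (fun e => by rw [hall e, one_smul]))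
  obtain ⟨b, hb⟩ : ∃ b : E, b = z • e - e := ⟨_, rfl⟩
  have hb0 : b ≠ 0 := by rw [hb]; exact sub_ne_zero.mpr he
  have hTb : T p z b = 0 := by
    have h1 : T p z (z • e) = T p z b + T p z e := by
      rw [← T_add]; congr 1; rw [hb]; abel
    have h2 : z • T p z e = T p z (z • e) := T_comm p z z rfl e
    rw [T_fixed p z hz e] at h2
    have h3 : T p z b + T p z e = T p z e := h1.symm.trans h2.symm
    exact add_eq_right.mp h3
  have hfix : ∀ g : P, g • (a + b) = a + b → g • a = a ∧ g • b = b := by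
    intro g hg
    have h1 : T p z (g • (a + b)) = T p z (a + b) := by rw [hg]
    rw [← T_comm p z g (hzc g), T_add, hTb, add_zero, T_of_fixed p z a hza, smul_comm] at h1
    have h2 : p • (g • a - a) = 0 := by rw [smul_sub, h1, sub_self]
    have h3 : g • a = a := sub_eq_zero.mp (hcop _ h2)
    refine ⟨h3, ?_⟩
    rw [smul_add, h3] at hg
    exact add_left_cancel hg
  have hzb : z • b = b → False := by
    intro h
    have h1 := T_of_fixed p z b h
    rw [hTb] at h1
    exact hb0 (hcop b h1.symm)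
  have hab : a + b ≠ 0 := by
    intro h
    apply hzb
    have h1 : b = -a := (neg_eq_of_add_eq_zero_right h).symm
    rw [h1, smul_neg, hza]
  exact hzb (stab_le_of_add hconst a b ha hab hfix z hza)

/-- two cyclic groups of prime order, one inside the other, coincide. -/
theorem zpowers_eq_of_mem {u w : P} (hu1 : u ≠ 1) (hup : u ^ p = 1) (hwp : w ^ p = 1)
    (h : u ∈ Subgroup.zpowers w) : Subgroup.zpowers u = Subgroup.zpowers w := by
  have hw1 : w ≠ 1 := by
    rintro rfl
    rw [Subgroup.zpowers_one_eq_bot, Subgroup.mem_bot] at h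
    exact hu1 h
  have : Finite (Subgroup.zpowers w) := by
    apply Nat.finite_of_card_ne_zero
    rw [Nat.card_zpowers, orderOf_eq_prime hwp hw1]
    exact (Fact.out : p.Prime).ne_zero
  apply Subgroup.eq_of_le_of_card_ge (Subgroup.zpowers_le.mpr h)
  rw [Nat.card_zpowers, Nat.card_zpowers, orderOf_eq_prime hup hu1, orderOf_eq_prime hwp hw1]

theorem mem_zpowers_symm {u w : P} (hu1 : u ≠ 1) (hup : u ^ p = 1) (hwp : w ^ p = 1)
    (h : u ∈ Subgroup.zpowers w) : w ∈ Subgroup.zpowers u := by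
  rw [zpowers_eq_of_mem p hu1 hup hwp h]
  exact Subgroup.mem_zpowers w

/-- two distinct subgroups of order `p` generate a group of order `p ^ 2`. -/
theorem zpowers_sup_eq [Finite P] (N : Subgroup P) (hNcard : Nat.card N = p ^ 2)
    {u w : P} (hu : u ∈ N) (hw : w ∈ N) (hu1 : u ≠ 1) (hup : u ^ p = 1)
    (hwu : w ∉ Subgroup.zpowers u) : Subgroup.zpowers u ⊔ Subgroup.zpowers w = N := by
  have hp : p.Prime := Fact.out
  have hle : Subgroup.zpowers u ⊔ Subgroup.zpowers w ≤ N :=
    sup_le (Subgroup.zpowers_le.mpr hu) (Subgroup.zpowers_le.mpr hw)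
  have hdvd : Nat.card ↥(Subgroup.zpowers u ⊔ Subgroup.zpowers w) ∣ p ^ 2 := by
    rw [← hNcard]; exact Subgroup.card_dvd_of_le hle
  obtain ⟨i, hi, hcard⟩ := (Nat.dvd_prime_pow hp).mp hdvd
  have hcu : Nat.card (Subgroup.zpowers u) = p := by
    rw [Nat.card_zpowers, orderOf_eq_prime hup hu1]
  have hle' : Nat.card (Subgroup.zpowers u) ≤
      Nat.card ↥(Subgroup.zpowers u ⊔ Subgroup.zpowers w) :=
    Subgroup.card_le_of_le le_sup_left
  rw [hcu, hcard] at hle'
  have hi2 : i = 2 := by
    interval_cases i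
    · exfalso
      rw [pow_zero] at hle'
      exact absurd hp.one_lt (not_lt.mpr hle')
    · exfalso
      apply hwu
      have h1 : Subgroup.zpowers u = Subgroup.zpowers u ⊔ Subgroup.zpowers w :=
        Subgroup.eq_of_le_of_card_ge le_sup_left (by rw [hcu, hcard, pow_one])
      rw [h1]
      exact Subgroup.mem_sup_right (Subgroup.mem_zpowers w)
    · rfl
  apply Subgroup.eq_of_le_of_card_ge hle
  rw [hcard, hi2, hNcard]

/-- an element of odd order is a power of its square. -/
theorem mem_zpowers_sq_of_odd [Finite P] (h : P) (hodd : Odd (orderOf h)) :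
    h ∈ Subgroup.zpowers (h * h) := by
  obtain ⟨m, hm⟩ := hodd
  have h1 : (h * h) ^ (m + 1) = h := by
    rw [← pow_two, ← pow_mul]
    have : 2 * (m + 1) = orderOf h + 1 := by omega
    rw [this, pow_succ, pow_orderOf_eq_one, one_mul]
  have h2 : (h * h) ^ (m + 1) ∈ Subgroup.zpowers (h * h) :=
    Subgroup.pow_mem (Subgroup.zpowers (h * h)) (Subgroup.mem_zpowers (h * h)) (m + 1)
  rwa [h1] at h2

/-- an element conjugating `y` into `⟨y⟩` normalizes `⟨y⟩`. -/
theorem mem_normalizer_zpowers {y k : P} (hy1 : y ≠ 1) (hyp : y ^ p = 1)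
    (h : k * y * k⁻¹ ∈ Subgroup.zpowers y) :
    k ∈ Subgroup.normalizer ((Subgroup.zpowers y : Subgroup P) : Set P) := by
  rw [Cfsg.Agent.helper10.mem_normalizer_iff_map_conj, MonoidHom.map_zpowers]
  have h1 : (MulAut.conj k).toMonoidHom y = k * y * k⁻¹ := rfl
  rw [h1]
  apply zpowers_eq_of_mem p _ _ hyp h
  · intro h2
    apply hy1
    have : y = k⁻¹ * (k * y * k⁻¹) * k := by group
    rw [this, h2]; group
  · rw [conj_pow, hyp]; group

theorem conj_ne_one {y k : P} (hy1 : y ≠ 1) : k * y * k⁻¹ ≠ 1 := by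
  intro h2
  apply hy1
  have : y = k⁻¹ * (k * y * k⁻¹) * k := by group
  rw [this, h2]; group

/-- a normal elementary abelian subgroup of order `p ^ 2` is impossible. -/
theorem no_normal_rank_two [Finite P] [FaithfulSMul P E] (hp2 : p ≠ 2) (hP : IsPGroup p P)
    (hconst : ∀ a b : E, a ≠ 0 → b ≠ 0 →
      Nat.card (MulAction.stabilizer P a) = Nat.card (MulAction.stabilizer P b))
    (hcop : ∀ v : E, p • v = 0 → v = 0) (e₀ : E) (he₀ : e₀ ≠ 0)
    (N : Subgroup P) [hNn : N.Normal] (hNc : ∀ a ∈ N, ∀ b ∈ N, a * b = b * a)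
    (hNe : ∀ a ∈ N, a ^ p = 1) (hNcard : Nat.card N = p ^ 2) : False := by
  have hp : p.Prime := Fact.out
  have hNne : N ≠ ⊥ := by
    intro h
    rw [h, Subgroup.card_bot] at hNcard
    have := hp.one_lt
    nlinarith
  have h1 := Cfsg.Agent.helper19.inf_center_ne_bot_of_normal hP N hNne
  obtain ⟨z, hzm, hz1⟩ : ∃ z ∈ N ⊓ Subgroup.center P, z ≠ 1 := by
    by_contra hall
    push Not at hall
    exact h1 ((Subgroup.eq_bot_iff_forall _).mpr hall)
  have hzN : z ∈ N := hzm.1
  have hzc : ∀ g : P, g * z = z * g := fun g => (Subgroup.mem_center_iff.mp hzm.2 g)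
  have hzp : z ^ p = 1 := hNe z hzN
  have hzf := central_fpf p hconst hcop z hzc hz1 hzp
  have hNfix : ∀ v : E, (∀ n ∈ N, n • v = v) → v = 0 := fun v hv => hzf v (hv z hzN)
  have hgen : ∀ u w : P, u ∈ N → w ∈ N → u ≠ 1 → w ∉ Subgroup.zpowers u →
      ∀ v : E, u • v = v → w • v = v → v = 0 := by
    intro u w hu hw hu1 hwu v huv hwv
    apply hNfix
    intro n hn
    have h2 := zpowers_sup_eq p N hNcard hu hw hu1 (hNe u hu) hwu
    have h3 : Subgroup.zpowers u ⊔ Subgroup.zpowers w ≤ MulAction.stabilizer P v :=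
      sup_le (Subgroup.zpowers_le.mpr huv) (Subgroup.zpowers_le.mpr hwv)
    rw [h2] at h3
    exact h3 hn
  have hT0 : ∀ u w : P, u ∈ N → w ∈ N → u ≠ 1 → w ∉ Subgroup.zpowers u →
      ∀ v : E, w • v = v → T p u v = 0 := by
    intro u w hu hw hu1 hwu v hwv
    apply hgen u w hu hw hu1 hwu
    · exact T_fixed p u (hNe u hu) v
    · rw [T_comm p u w (hNc w hw u hu), hwv]
  obtain ⟨x, hxN, hxz⟩ : ∃ x ∈ N, x ∉ Subgroup.zpowers z := by
    by_contra hall
    push Not at hall
    have h2 : N ≤ Subgroup.zpowers z := hall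
    have h3 := Subgroup.card_le_of_le h2
    rw [hNcard, Nat.card_zpowers, orderOf_eq_prime hzp hz1] at h3
    have := hp.one_lt
    nlinarith
  obtain ⟨j, a, ha0, hya⟩ :=
    exists_fixed p x z (hNc x hxN z hzN) (hNe x hxN) hzp hzf hcop e₀ he₀
  obtain ⟨y, hy⟩ : ∃ y : P, y = x * z ^ j := ⟨_, rfl⟩
  rw [← hy] at hya
  have hyN : y ∈ N := by rw [hy]; exact mul_mem hxN (pow_mem hzN j)
  have hy1 : y ≠ 1 := by
    intro h
    apply hxz
    have h2 : x = (z ^ j)⁻¹ := by rw [hy] at h; exact eq_inv_of_mul_eq_one_left h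
    rw [h2]
    exact inv_mem (Subgroup.pow_mem (Subgroup.zpowers z) (Subgroup.mem_zpowers z) j)
  have hyp : y ^ p = 1 := hNe y hyN
  obtain ⟨g, hg⟩ : ∃ g : P, g * y * g⁻¹ ∉ Subgroup.zpowers y := by
    by_contra hall
    push Not at hall
    have hn : (Subgroup.zpowers y).Normal := by
      constructor
      intro n hn k
      obtain ⟨i, rfl⟩ := Subgroup.mem_zpowers_iff.mp hn
      rw [← conj_zpow]
      exact Subgroup.zpow_mem _ (hall k) i
    have h2 := Cfsg.Agent.helper19.le_center_of_normal_of_card_eq hP (Subgroup.zpowers y)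
      (by rw [Nat.card_zpowers, orderOf_eq_prime hyp hy1])
    have hyc : y ∈ Subgroup.center P := h2 (Subgroup.mem_zpowers y)
    exact ha0 (central_fpf p hconst hcop y (fun k => Subgroup.mem_center_iff.mp hyc k)
      hy1 hyp a hya)
  obtain ⟨y', hy'⟩ : ∃ y' : P, y' = g * y * g⁻¹ := ⟨_, rfl⟩
  obtain ⟨b, hb⟩ : ∃ b : E, b = g • a := ⟨_, rfl⟩
  rw [← hy'] at hg
  have hy'N : y' ∈ N := by rw [hy']; exact hNn.conj_mem y hyN g
  have hy'1 : y' ≠ 1 := by rw [hy']; exact conj_ne_one hy1
  have hy'p : y' ^ p = 1 := hNe y' hy'N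
  have hb0 : b ≠ 0 := by
    rw [hb]
    intro h
    exact ha0 ((smul_eq_zero_iff_eq g).mp h)
  have hy'b : y' • b = b := by
    rw [hy', hb, smul_smul]
    have e1 : g * y * g⁻¹ * g = g * y := by group
    rw [e1, mul_smul, hya]
  have hyy' : y ∉ Subgroup.zpowers y' := fun h => hg (mem_zpowers_symm p hy1 hyp hy'p h)
  have hdisj : ∀ n : P, n ∈ Subgroup.zpowers y → n ∈ Subgroup.zpowers y' → n = 1 := by
    intro n h1 h2
    by_contra hn1
    have hnN : n ∈ N := (Subgroup.zpowers_le.mpr hyN) h1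
    have e1 := zpowers_eq_of_mem p hn1 (hNe n hnN) hyp h1
    have e2 := zpowers_eq_of_mem p hn1 (hNe n hnN) hy'p h2
    apply hg
    rw [← e1, e2]
    exact Subgroup.mem_zpowers y'
  have hfix : ∀ h : P, h • (a + b) = a + b → h • a = a ∧ h • b = b := by
    intro h hh
    rw [smul_add] at hh
    obtain ⟨u₁, hu₁⟩ : ∃ u₁ : P, u₁ = h * y * h⁻¹ := ⟨_, rfl⟩
    obtain ⟨u₂, hu₂⟩ : ∃ u₂ : P, u₂ = h * y' * h⁻¹ := ⟨_, rfl⟩
    have hu₁N : u₁ ∈ N := by rw [hu₁]; exact hNn.conj_mem y hyN h
    have hu₂N : u₂ ∈ N := by rw [hu₂]; exact hNn.conj_mem y' hy'N h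
    have hu₁1 : u₁ ≠ 1 := by rw [hu₁]; exact conj_ne_one hy1
    have hu₂1 : u₂ ≠ 1 := by rw [hu₂]; exact conj_ne_one hy'1
    have hu₁a : u₁ • h • a = h • a := by
      rw [hu₁, smul_smul]
      have e1 : h * y * h⁻¹ * h = h * y := by group
      rw [e1, mul_smul, hya]
    have hu₂b : u₂ • h • b = h • b := by
      rw [hu₂, smul_smul]
      have e1 : h * y' * h⁻¹ * h = h * y' := by group
      rw [e1, mul_smul, hy'b]
    have d1 : u₁ ∈ Subgroup.zpowers y ∨ u₂ ∈ Subgroup.zpowers y := by
      by_contra hno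
      push Not at hno
      have t1 : T p y (h • a) = 0 := hT0 y u₁ hyN hu₁N hy1 hno.1 _ hu₁a
      have t2 : T p y (h • b) = 0 := hT0 y u₂ hyN hu₂N hy1 hno.2 _ hu₂b
      have t3 : T p y b = 0 := hT0 y y' hyN hy'N hy1 hg _ hy'b
      have t4 := congrArg (T p y) hh
      rw [T_add, T_add, t1, t2, t3, T_of_fixed p y a hya, add_zero, add_zero] at t4
      exact ha0 (hcop a t4.symm)
    have d2 : u₁ ∈ Subgroup.zpowers y' ∨ u₂ ∈ Subgroup.zpowers y' := by
      by_contra hno
      push Not at hno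
      have t1 : T p y' (h • a) = 0 := hT0 y' u₁ hy'N hu₁N hy'1 hno.1 _ hu₁a
      have t2 : T p y' (h • b) = 0 := hT0 y' u₂ hy'N hu₂N hy'1 hno.2 _ hu₂b
      have t3 : T p y' a = 0 := hT0 y' y hy'N hyN hy'1 hyy' _ hya
      have t4 := congrArg (T p y') hh
      rw [T_add, T_add, t1, t2, t3, T_of_fixed p y' b hy'b, add_zero, zero_add] at t4
      exact hb0 (hcop b t4.symm)
    have good : u₁ ∈ Subgroup.zpowers y → u₂ ∈ Subgroup.zpowers y' →
        h • a = a ∧ h • b = b := by
      intro c1 c2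
      have hya' : y • h • a = h • a := by
        have h2 := mem_zpowers_symm p hu₁1 (hNe u₁ hu₁N) hyp c1
        exact (Subgroup.zpowers_le.mpr
          (show u₁ ∈ MulAction.stabilizer P (h • a) from hu₁a)) h2
      have hy'b' : y' • h • b = h • b := by
        have h2 := mem_zpowers_symm p hu₂1 (hNe u₂ hu₂N) hy'p c2
        exact (Subgroup.zpowers_le.mpr
          (show u₂ ∈ MulAction.stabilizer P (h • b) from hu₂b)) h2
      have hd : h • a - a = 0 := by
        apply hgen y y' hyN hy'N hy1 hg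
        · rw [smul_sub, hya', hya]
        · have e1 : h • a - a = b - h • b := by
            rw [sub_eq_sub_iff_add_eq_add, add_comm b a]; exact hh
          rw [e1, smul_sub, hy'b, hy'b']
      have h3 : h • a = a := sub_eq_zero.mp hd
      refine ⟨h3, ?_⟩
      rw [h3] at hh
      exact add_left_cancel hh
    rcases d1 with c1 | c1
    · rcases d2 with c2 | c2
      · exact absurd (hdisj u₁ c1 c2) hu₁1
      · exact good c1 c2
    · rcases d2 with c2 | c2
      · exfalso
        have h4 : (h * h) * y * (h * h)⁻¹ ∈ Subgroup.zpowers y := by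
          have e1 : (h * h) * y * (h * h)⁻¹ = h * u₁ * h⁻¹ := by rw [hu₁]; group
          rw [e1]
          obtain ⟨i, hi⟩ := Subgroup.mem_zpowers_iff.mp c2
          rw [← hi, ← conj_zpow, ← hu₂]
          exact Subgroup.zpow_mem _ c1 i
        have h5 := mem_normalizer_zpowers p hy1 hyp h4
        have hodd : Odd (orderOf h) := by
          obtain ⟨k, hk⟩ := (IsPGroup.iff_orderOf.mp hP) h
          rw [hk]
          exact Odd.pow (hp.odd_of_ne_two hp2)
        have h6 : h ∈ Subgroup.normalizer ((Subgroup.zpowers y : Subgroup P) : Set P) :=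
          (Subgroup.zpowers_le.mpr h5) (mem_zpowers_sq_of_odd h hodd)
        have h7 : u₁ ∈ Subgroup.zpowers y := by
          rw [hu₁]
          exact (Subgroup.mem_normalizer_iff.mp h6 y).mp (Subgroup.mem_zpowers y)
        exact hu₁1 (hdisj u₁ h7 c2)
      · exact absurd (hdisj u₂ c1 c2) hu₂1
  have hab : a + b ≠ 0 := by
    intro h
    have h1 : b = -a := (neg_eq_of_add_eq_zero_right h).symm
    apply hb0
    apply hgen y y' hyN hy'N hy1 hg b _ hy'b
    rw [h1, smul_neg, hya]
  have h8 := stab_le_of_add hconst a b ha0 hab hfix y hya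
  exact hb0 (hgen y y' hyN hy'N hy1 hg b h8 hy'b)

end Cfsg.Agent.helper6.ConstStab
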