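import Mathlib
import Cfsg.Prelude.Def_ChevStructure
import Cfsg.Prelude.Def_ChevG2
import Cfsg.Prelude.Def_ChevB2
import Cfsg.Prelude.Def_ChevD4
import Cfsg.Prelude.Def_ChevF4
import Cfsg.Prelude.Def_ChevE6
import Cfsg.Prelude.Def_ChevE7
import Cfsg.Prelude.Def_ChevE8

set_option autoImplicit false

/-! Every coroot has a non-zero coordinate (helper6). -/

namespace Cfsg.Agent.helper6.CorNZ

open Cfsg.Lie

def corNZCheck (D : ChevalleyDatum) : Bool :=
  (List.range D.nroots).all fun r => (List.range D.rank).any fun i =>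
    decide ((D.coroot.getD r #[]).getD i 0 ≠ 0)

set_option maxRecDepth 1000000 in
theorem corNZCheck_all (D : ChevalleyDatum)
    (hD : D ∈ [chevG2, chevB2, chevD4, chevF4, chevE6, chevE7, chevE8]) :
    corNZCheck D = true := by
  simp only [List.mem_cons, List.not_mem_nil, or_false] at hD
  rcases hD with rfl | rfl | rfl | rfl | rfl | rfl | rfl <;> decide +kernel

theorem corNZ_of_mem (D : ChevalleyDatum)
    (hD : D ∈ [chevG2, chevB2, chevD4, chevF4, chevE6, chevE7, chevE8]) :
    ∀ r < D.nroots, ∃ i < D.rank, (D.coroot.getD r #[]).getD i 0 ≠ 0 := by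
  have h := corNZCheck_all D hD
  unfold corNZCheck at h
  simp only [List.all_eq_true, List.any_eq_true, List.mem_range, decide_eq_true_eq] at h
  intro r hr
  obtain ⟨i, hi, h1⟩ := h r hr
  exact ⟨i, hi, h1⟩

/-- no root lies in the empty subsystem -/
theorem not_inRootSub_empty (D : ChevalleyDatum)
    (hD : D ∈ [chevG2, chevB2, chevD4, chevF4, chevE6, chevE7, chevE8]) (r : ℕ) :
    ¬ D.InRootSub ∅ r := by
  intro h
  obtain ⟨i, hi, h1⟩ := corNZ_of_mem D hD r h.1
  exact h1 (h.2 i hi (Set.notMem_empty i))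

end Cfsg.Agent.helper6.CorNZ
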