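import Mathlib
import Cfsg.Prelude.Def_ChevStructure
import Cfsg.Prelude.Def_ChevG2
import Cfsg.Prelude.Def_ChevB2
import Cfsg.Prelude.Def_ChevD4
import Cfsg.Prelude.Def_ChevF4
import Cfsg.Prelude.Def_ChevE6
import Cfsg.Prelude.Def_ChevE7
import Cfsg.Prelude.Def_ChevE8

set_option autoImplicit false

/-! Certificates: every root is reached by the commutator formula (helper6). -/

namespace Cfsg.Agent.helper6.CoverPerf

open Cfsg.Lie

/-- roots obtained as single-term commutators with coefficient `±1` -/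
def SingleRule (D : ChevalleyDatum) (P : ℕ → Prop) : Prop :=
  ∀ (a b r : ℕ) (c : ℤ), a < D.nroots → b < D.nroots → b ≠ a → b ≠ D.neg a →
    D.commTerms a b = [(r, c, 1, 1)] → (c = 1 ∨ c = -1) → P r

/-- pairs of roots obtained from a commutator whose remaining terms are already known -/
def PairRule (D : ChevalleyDatum) (P : ℕ → Prop) : Prop :=
  ∀ (a b : ℕ) (c1 c2 : ℕ × ℤ × ℕ × ℕ) (tl : List (ℕ × ℤ × ℕ × ℕ)),
    a < D.nroots → b < D.nroots → b ≠ a → b ≠ D.neg a →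
    D.commTerms a b = c1 :: c2 :: tl → c1.2.2 = (1, 1) → c2.2.2 = (2, 1) →
    (c1.2.1 = 1 ∨ c1.2.1 = -1) → (c2.2.1 = 1 ∨ c2.2.1 = -1) → (∀ c ∈ tl, P c.1) →
    P c1.1 ∧ P c2.1

def singleCheck (D : ChevalleyDatum) (cert : List (ℕ × ℕ × ℕ × ℤ)) : Bool :=
  cert.all fun e => decide (e.2.1 < D.nroots) && decide (e.2.2.1 < D.nroots) &&
    decide (e.2.2.1 ≠ e.2.1) && decide (e.2.2.1 ≠ D.neg e.2.1) &&
    decide (D.commTerms e.2.1 e.2.2.1 = [(e.1, e.2.2.2, 1, 1)]) &&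
    (decide (e.2.2.2 = 1) || decide (e.2.2.2 = -1))

theorem single_sound (D : ChevalleyDatum) (P : ℕ → Prop) (hS : SingleRule D P)
    (cert : List (ℕ × ℕ × ℕ × ℤ)) (h : singleCheck D cert = true) :
    ∀ x ∈ cert.map (fun e => e.1), P x := by
  unfold singleCheck at h
  simp only [List.all_eq_true, Bool.and_eq_true, decide_eq_true_eq, Bool.or_eq_true] at h
  intro x hx
  rw [List.mem_map] at hx
  obtain ⟨e, he, rfl⟩ := hx
  obtain ⟨⟨⟨⟨⟨ha, hb⟩, hne⟩, hne'⟩, hct⟩, hc⟩ := h e he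
  exact hS e.2.1 e.2.2.1 e.1 e.2.2.2 ha hb hne hne' hct hc

def pairCheck (D : ChevalleyDatum) : List (ℕ × ℕ) → List ℕ → Bool
  | [], done => (List.range D.nroots).all fun r => decide (r ∈ done)
  | p :: rest, done =>
    match D.commTerms p.1 p.2 with
    | c1 :: c2 :: tl =>
        decide (p.1 < D.nroots) && decide (p.2 < D.nroots) && decide (p.2 ≠ p.1) &&
        decide (p.2 ≠ D.neg p.1) && decide (c1.2.2 = (1, 1)) && decide (c2.2.2 = (2, 1)) &&
        (decide (c1.2.1 = 1) || decide (c1.2.1 = -1)) &&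
        (decide (c2.2.1 = 1) || decide (c2.2.1 = -1)) &&
        tl.all (fun c => decide (c.1 ∈ done)) && pairCheck D rest (c1.1 :: c2.1 :: done)
    | _ => false

theorem pair_sound_aux (D : ChevalleyDatum) (P : ℕ → Prop) (hP : PairRule D P) :
    ∀ (pairs : List (ℕ × ℕ)) (done : List ℕ), (∀ x ∈ done, P x) →
      pairCheck D pairs done = true → ∀ r < D.nroots, P r := by
  intro pairs
  induction pairs with
  | nil =>
    intro done hd h r hr
    rw [pairCheck] at h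
    simp only [List.all_eq_true, List.mem_range, decide_eq_true_eq] at h
    exact hd r (h r hr)
  | cons p rest ih =>
    intro done hd h
    rw [pairCheck] at h
    split at h
    · rename_i c1 c2 tl heq
      simp only [Bool.and_eq_true, decide_eq_true_eq, Bool.or_eq_true, List.all_eq_true] at h
      obtain ⟨⟨⟨⟨⟨⟨⟨⟨⟨ha, hb⟩, hne⟩, hne'⟩, h11⟩, h21⟩, he1⟩, he2⟩, htl⟩, hrest⟩ := h
      have h2 := hP p.1 p.2 c1 c2 tl ha hb hne hne' heq h11 h21 he1 he2
        (fun c hc => hd c.1 (htl c hc))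
      apply ih (c1.1 :: c2.1 :: done) _ hrest
      intro x hx
      rcases List.mem_cons.mp hx with rfl | hx
      · exact h2.1
      · rcases List.mem_cons.mp hx with rfl | hx
        · exact h2.2
        · exact hd x hx
    · exact absurd h (by simp)

theorem pair_sound (D : ChevalleyDatum) (P : ℕ → Prop) (pairs : List (ℕ × ℕ)) (done : List ℕ)
    (hP : pairs ≠ [] → PairRule D P) (hd : ∀ x ∈ done, P x)
    (h : pairCheck D pairs done = true) : ∀ r < D.nroots, P r := by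
  cases pairs with
  | nil =>
    intro r hr
    rw [pairCheck] at h
    simp only [List.all_eq_true, List.mem_range, decide_eq_true_eq] at h
    exact hd r (h r hr)
  | cons p rest => exact pair_sound_aux D P (hP (by simp)) (p :: rest) done hd h

/-- the packaged certificate -/
def fullCheck (D : ChevalleyDatum) (cert : List (ℕ × ℕ × ℕ × ℤ)) (pairs : List (ℕ × ℕ)) : Bool :=
  singleCheck D cert && pairCheck D pairs (cert.map fun e => e.1)

theorem full_sound (D : ChevalleyDatum) (P : ℕ → Prop) (cert : List (ℕ × ℕ × ℕ × ℤ))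
    (pairs : List (ℕ × ℕ)) (h : fullCheck D cert pairs = true) (hS : SingleRule D P)
    (hP : pairs ≠ [] → PairRule D P) : ∀ r < D.nroots, P r := by
  unfold fullCheck at h
  rw [Bool.and_eq_true] at h
  exact pair_sound D P pairs _ hP (single_sound D P hS cert h.1) h.2

def singleG2 : List (ℕ × ℕ × ℕ × ℤ) := [(0, 1, 5, 1), (1, 0, 6, 1), (5, 0, 10, -1), (6, 1, 11, -1), (10, 5, 11, 1), (11, 6, 10, 1)]

def pairsG2 : List (ℕ × ℕ) := [(2, 10), (2, 11), (3, 6), (3, 11)]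

set_option maxRecDepth 1000000 in
theorem fullG2 : fullCheck chevG2 singleG2 pairsG2 = true := by decide +kernel

def singleB2 : List (ℕ × ℕ × ℕ × ℤ) := []

def pairsB2 : List (ℕ × ℕ) := [(1, 4), (1, 7), (2, 3), (2, 7), (5, 4)]

set_option maxRecDepth 1000000 in
theorem fullB2 : fullCheck chevB2 singleB2 pairsB2 = true := by decide +kernel

def singleD4 : List (ℕ × ℕ × ℕ × ℤ) := [(0, 1, 9, 1), (1, 0, 14, 1), (2, 0, 15, -1), (3, 0, 16, -1), (4, 0, 17, 1), (5, 1, 17, 1), (6, 0, 19, -1), (7, 0, 20, 1), (8, 0, 21, 1), (9, 0, 22, -1), (10, 1, 20, -1), (11, 1, 21, -1), (12, 2, 22, -1), (13, 3, 22, -1), (14, 1, 23, -1), (15, 2, 23, 1), (16, 3, 23, 1), (17, 4, 23, -1), (18, 6, 22, 1), (19, 6, 23, 1), (20, 7, 23, -1), (21, 8, 23, -1), (22, 9, 23, 1), (23, 14, 22, 1)]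

def pairsD4 : List (ℕ × ℕ) := []

set_option maxRecDepth 1000000 in
theorem fullD4 : fullCheck chevD4 singleD4 pairsD4 = true := by decide +kernel

def singleF4 : List (ℕ × ℕ × ℕ × ℤ) := [(0, 1, 23, 1), (1, 0, 24, 1), (2, 0, 26, 1), (3, 7, 14, 1), (4, 0, 31, -1), (5, 0, 32, 1), (6, 1, 32, 1), (7, 3, 33, 1), (8, 3, 34, 1), (9, 3, 35, -1), (10, 3, 36, 1), (11, 3, 37, -1), (12, 3, 38, 1), (13, 3, 39, -1), (14, 3, 40, -1), (15, 0, 42, -1), (16, 0, 43, 1), (17, 1, 43, 1), (18, 7, 37, -1), (19, 7, 38, 1), (20, 7, 39, -1), (21, 0, 45, -1), (22, 1, 45, -1), (23, 0, 46, -1), (24, 1, 47, -1), (25, 2, 46, -1), (26, 2, 47, -1), (27, 8, 40, -1), (28, 9, 40, 1), (29, 10, 40, -1), (30, 4, 46, 1), (31, 4, 47, 1), (32, 5, 47, -1), (33, 7, 44, -1), (34, 8, 44, -1), (35, 9, 44, 1), (36, 10, 44, -1), (37, 11, 44, 1), (38, 12, 44, -1), (39, 13, 44, 1), (40, 14, 44, 1), (41, 15, 46, 1), (42, 15, 47, 1), (43, 16, 47, -1), (44, 33, 40, 1),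 (45, 21, 47, 1), (46, 23, 47, 1), (47, 24, 46, 1)]

def pairsF4 : List (ℕ × ℕ) := []

set_option maxRecDepth 1000000 in
theorem fullF4 : fullCheck chevF4 singleF4 pairsF4 = true := by decide +kernel

def singleE6 : List (ℕ × ℕ × ℕ × ℤ) := [(0, 1, 25, 1), (1, 0, 46, 1), (2, 0, 47, -1), (3, 0, 48, 1), (4, 0, 49, -1), (5, 0, 50, 1), (6, 0, 51, -1), (7, 0, 52, 1), (8, 0, 53, 1), (9, 0, 54, -1), (10, 0, 55, 1), (11, 1, 53, 1), (12, 1, 54, -1), (13, 1, 55, 1), (14, 2, 55, 1), (15, 5, 55, 1), (16, 0, 61, -1), (17, 0, 62, 1), (18, 0, 63, -1), (19, 0, 64, -1), (20, 0, 65, 1), (21, 0, 66, -1), (22, 0, 67, 1), (23, 0, 68, -1), (24, 0, 69, 1), (25, 0, 70, -1), (26, 1, 64, -1), (27, 1, 65, 1), (28, 1, 66, -1), (29, 2, 66, -1), (30, 1, 67, -1), (31, 1, 68, 1), (32, 1, 69, -1), (33, 2, 67, 1), (34, 2, 68, -1), (35, 3, 67, -1), (36, 4, 68, -1), (37, 3, 69, -1), (38, 4, 69, 1), (39, 2, 70, -1), (40, 3, 70, 1), (41, 4, 70, -1), (42, 5,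 69, -1), (43, 5, 70, -1), (44, 6, 70, 1), (45, 7, 70, -1), (46, 1, 71, -1), (47, 2, 71, 1), (48, 3, 71, -1), (49, 4, 71, 1), (50, 5, 71, -1), (51, 6, 71, 1), (52, 7, 71, -1), (53, 8, 71, -1), (54, 9, 71, 1), (55, 10, 71, -1), (56, 16, 66, 1), (57, 16, 69, 1), (58, 16, 70, 1), (59, 17, 70, -1), (60, 18, 70, 1), (61, 16, 71, 1), (62, 17, 71, -1), (63, 18, 71, 1), (64, 19, 71, 1), (65, 20, 71, -1), (66, 21, 71, 1), (67, 22, 71, -1), (68, 23, 71, 1), (69, 24, 71, -1), (70, 25, 71, 1), (71, 46, 70, 1)]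

def pairsE6 : List (ℕ × ℕ) := []

set_option maxRecDepth 1000000 in
theorem fullE6 : fullCheck chevE6 singleE6 pairsE6 = true := by decide +kernel

def singleE7 : List (ℕ × ℕ × ℕ × ℤ) := [(0, 1, 32, 1), (1, 0, 93, 1), (2, 0, 94, -1), (3, 0, 95, 1), (4, 0, 96, -1), (5, 0, 97, 1), (6, 0, 98, -1), (7, 0, 99, -1), (8, 0, 100, 1), (9, 0, 101, -1), (10, 0, 102, 1), (11, 0, 103, -1), (12, 0, 104, 1), (13, 0, 105, -1), (14, 0, 106, -1), (15, 0, 107, 1), (16, 0, 108, -1), (17, 0, 109, 1), (18, 0, 110, -1), (19, 0, 111, 1), (20, 0, 112, 1), (21, 0, 113, -1), (22, 0, 114, 1), (23, 0, 115, -1), (24, 0, 116, 1), (25, 0, 117, -1), (26, 0, 118, 1), (27, 0, 119, 1), (28, 0, 120, -1), (29, 0, 121, 1), (30, 0, 122, -1), (31, 0, 123, 1), (32, 0, 124, -1), (33, 1, 109, -1), (34, 1, 110, 1), (35, 1, 111, -1), (36, 1, 112, -1), (37, 1, 113, 1), (38, 1, 114, -1), (39, 1, 115, 1), (40, 1, 116, -1), (41, 1, 117, 1), (42, 1, 118, -1), (43, 2,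 115, 1), (44, 2, 116, -1), (45, 2, 117, 1), (46, 2, 118, -1), (47, 3, 118, -1), (48, 1, 119, -1), (49, 1, 120, 1), (50, 1, 121, -1), (51, 1, 122, 1), (52, 1, 123, -1), (53, 2, 119, 1), (54, 2, 120, -1), (55, 2, 121, 1), (56, 2, 122, -1), (57, 3, 119, -1), (58, 3, 120, 1), (59, 3, 121, -1), (60, 4, 119, 1), (61, 4, 120, -1), (62, 5, 119, -1), (63, 6, 120, -1), (64, 5, 121, -1), (65, 6, 121, 1), (66, 4, 122, -1), (67, 5, 122, 1), (68, 6, 122, -1), (69, 3, 123, -1), (70, 4, 123, 1), (71, 5, 123, -1), (72, 6, 123, 1), (73, 2, 124, -1), (74, 3, 124, 1), (75, 4, 124, -1), (76, 5, 124, 1), (77, 6, 124, -1), (78, 7, 122, -1), (79, 7, 123, -1), (80, 8, 123, 1), (81, 9, 123, -1), (82, 10, 123, 1), (83, 7, 124, -1), (84, 8, 124, 1), (85, 9, 124, -1), (86, 10, 124, 1), (87, 11, 124, -1), (88, 12, 124, 1), (89, 13, 124, -1), (90, 14, 124, -1), (91, 15, 124, 1), (92, 16, 124, -1), (93, 1, 125, -1), (94, 2, 125, 1), (95, 3, 125, -1),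 (96, 4, 125, 1), (97, 5, 125, -1), (98, 6, 125, 1), (99, 7, 125, 1), (100, 8, 125, -1), (101, 9, 125, 1), (102, 10, 125, -1), (103, 11, 125, 1), (104, 12, 125, -1), (105, 13, 125, 1), (106, 14, 125, 1), (107, 15, 125, -1), (108, 16, 125, 1), (109, 17, 125, -1), (110, 18, 125, 1), (111, 19, 125, -1), (112, 20, 125, -1), (113, 21, 125, 1), (114, 22, 125, -1), (115, 23, 125, 1), (116, 24, 125, -1), (117, 25, 125, 1), (118, 26, 125, -1), (119, 27, 125, -1), (120, 28, 125, 1), (121, 29, 125, -1), (122, 30, 125, 1), (123, 31, 125, -1), (124, 32, 125, 1), (125, 93, 124, 1)]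

def pairsE7 : List (ℕ × ℕ) := []

set_option maxRecDepth 1000000 in
theorem fullE7 : fullCheck chevE7 singleE7 pairsE7 = true := by decide +kernel

def singleE8 : List (ℕ × ℕ × ℕ × ℤ) := [(0, 1, 119, 1), (1, 0, 120, 1), (2, 0, 122, 1), (3, 0, 125, 1), (4, 0, 129, 1), (5, 0, 134, 1), (6, 0, 140, 1), (7, 0, 146, 1), (8, 0, 151, -1), (9, 0, 155, 1), (10, 0, 158, -1), (11, 0, 160, 1), (12, 0, 161, -1), (13, 1, 161, -1), (14, 0, 168, 1), (15, 0, 173, -1), (16, 0, 177, 1), (17, 0, 180, -1), (18, 0, 182, 1), (19, 0, 183, -1), (20, 1, 183, -1), (21, 0, 187, -1), (22, 0, 190, 1), (23, 0, 192, -1), (24, 0, 193, 1), (25, 1, 193, 1), (26, 0, 196, -1), (27, 0, 198, 1), (28, 0, 199, -1), (29, 1, 199, -1), (30, 0, 201, -1), (31, 0, 202, 1), (32, 1, 202, 1), (33, 0, 203, -1), (34, 1, 203, -1), (35, 2, 203, -1), (36, 0, 206, 1), (37, 0, 208, -1), (38, 0, 209, 1), (39, 1, 209, 1), (40, 0, 211, 1), (41, 0, 212, -1), (42, 1, 212, -1),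 (43, 0, 213, 1), (44, 1, 213, 1), (45, 2, 213, 1), (46, 0, 215, -1), (47, 0, 216, 1), (48, 1, 216, 1), (49, 0, 217, -1), (50, 1, 217, -1), (51, 2, 217, -1), (52, 0, 218, 1), (53, 1, 218, 1), (54, 2, 218, 1), (55, 3, 218, 1), (56, 0, 220, 1), (57, 0, 221, -1), (58, 1, 221, -1), (59, 0, 222, 1), (60, 1, 222, 1), (61, 2, 222, 1), (62, 0, 223, -1), (63, 1, 223, -1), (64, 2, 223, -1), (65, 3, 223, -1), (66, 0, 224, 1), (67, 1, 224, 1), (68, 2, 224, 1), (69, 3, 224, 1), (70, 4, 224, 1), (71, 0, 225, -1), (72, 1, 225, -1), (73, 2, 225, -1), (74, 3, 225, -1), (75, 4, 225, -1), (76, 5, 225, -1), (77, 6, 225, -1), (78, 0, 227, 1), (79, 0, 228, -1), (80, 1, 228, -1), (81, 0, 229, 1), (82, 1, 229, 1), (83, 2, 229, 1), (84, 0, 230, -1), (85, 1, 230, -1), (86, 2, 230, -1), (87, 3, 230, -1), (88, 0, 231, 1), (89, 1, 231, 1), (90, 2, 231, 1), (91, 3, 231, 1), (92, 4, 231, 1), (93, 0, 232, -1), (94, 1, 232, -1), (95, 2, 232, -1), (96,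 3, 232, -1), (97, 4, 232, -1), (98, 5, 232, -1), (99, 0, 233, -1), (100, 1, 233, -1), (101, 2, 233, -1), (102, 3, 233, -1), (103, 4, 233, -1), (104, 5, 233, -1), (105, 0, 234, -1), (106, 1, 234, -1), (107, 2, 234, -1), (108, 3, 234, -1), (109, 4, 234, -1), (110, 0, 235, -1), (111, 1, 235, -1), (112, 2, 235, -1), (113, 3, 235, -1), (114, 0, 236, -1), (115, 1, 236, -1), (116, 2, 236, -1), (117, 0, 237, -1), (118, 1, 237, -1), (119, 0, 238, -1), (120, 1, 239, -1), (121, 2, 238, -1), (122, 2, 239, -1), (123, 3, 237, -1), (124, 3, 238, -1), (125, 3, 239, -1), (126, 4, 236, -1), (127, 4, 237, -1), (128, 4, 238, -1), (129, 4, 239, -1), (130, 5, 235, -1), (131, 5, 236, -1), (132, 5, 237, -1), (133, 5, 238, -1), (134, 5, 239, -1), (135, 6, 234, -1), (136, 6, 235, -1), (137, 6, 236, -1), (138, 6, 237, -1), (139, 6, 238, -1), (140, 6, 239, -1), (141, 7, 234, -1), (142, 7, 235, -1), (143, 7, 236, -1), (144, 7, 237, -1), (145, 7,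 238, -1), (146, 7, 239, -1), (147, 8, 235, 1), (148, 8, 236, 1), (149, 8, 237, 1), (150, 8, 238, 1), (151, 8, 239, 1), (152, 9, 236, -1), (153, 9, 237, -1), (154, 9, 238, -1), (155, 9, 239, -1), (156, 10, 237, 1), (157, 10, 238, 1), (158, 10, 239, 1), (159, 11, 238, -1), (160, 11, 239, -1), (161, 12, 239, 1), (162, 14, 233, -1), (163, 14, 234, -1), (164, 14, 235, -1), (165, 14, 236, -1), (166, 14, 237, -1), (167, 14, 238, -1), (168, 14, 239, -1), (169, 15, 235, 1), (170, 15, 236, 1), (171, 15, 237, 1), (172, 15, 238, 1), (173, 15, 239, 1), (174, 16, 236, -1), (175, 16, 237, -1), (176, 16, 238, -1), (177, 16, 239, -1), (178, 17, 237, 1), (179, 17, 238, 1), (180, 17, 239, 1), (181, 18, 238, -1), (182, 18, 239, -1), (183, 19, 239, 1), (184, 21, 236, 1), (185, 21, 237, 1), (186, 21, 238, 1), (187, 21, 239, 1), (188, 22, 237, -1), (189, 22, 238, -1), (190, 22, 239, -1), (191, 23, 238, 1), (192, 23, 239, 1), (193, 24, 239,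 -1), (194, 26, 237, 1), (195, 26, 238, 1), (196, 26, 239, 1), (197, 27, 238, -1), (198, 27, 239, -1), (199, 28, 239, 1), (200, 30, 238, 1), (201, 30, 239, 1), (202, 31, 239, -1), (203, 33, 239, 1), (204, 36, 237, -1), (205, 36, 238, -1), (206, 36, 239, -1), (207, 37, 238, 1), (208, 37, 239, 1), (209, 38, 239, -1), (210, 40, 238, -1), (211, 40, 239, -1), (212, 41, 239, 1), (213, 43, 239, -1), (214, 46, 238, 1), (215, 46, 239, 1), (216, 47, 239, -1), (217, 49, 239, 1), (218, 52, 239, -1), (219, 56, 238, -1), (220, 56, 239, -1), (221, 57, 239, 1), (222, 59, 239, -1), (223, 62, 239, 1), (224, 66, 239, -1), (225, 71, 239, 1), (226, 78, 238, -1), (227, 78, 239, -1), (228, 79, 239, 1), (229, 81, 239, -1), (230, 84, 239, 1), (231, 88, 239, -1), (232, 93, 239, 1), (233, 99, 239, 1), (234, 105, 239, 1), (235, 110, 239, 1), (236, 114, 239, 1), (237, 117, 239, 1), (238, 119, 239, 1), (239, 120, 238, 1)]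

def pairsE8 : List (ℕ × ℕ) := []

set_option maxRecDepth 1000000 in
theorem fullE8 : fullCheck chevE8 singleE8 pairsE8 = true := by decide +kernel


/-- **every root is reached**: for a predicate closed under the single rule (and, for `B₂`, `G₂`,
the pair rule) -/
theorem all_roots (D : ChevalleyDatum)
    (hD : D ∈ [chevG2, chevB2, chevD4, chevF4, chevE6, chevE7, chevE8]) (P : ℕ → Prop)
    (hS : SingleRule D P) (hP : D ∈ [chevB2, chevG2] → PairRule D P) : ∀ r < D.nroots, P r := by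
  simp only [List.mem_cons, List.not_mem_nil, or_false] at hD
  rcases hD with rfl | rfl | rfl | rfl | rfl | rfl | rfl
  · exact full_sound _ P _ _ fullG2 hS (fun _ => hP (by simp))
  · exact full_sound _ P _ _ fullB2 hS (fun _ => hP (by simp))
  · exact full_sound _ P _ _ fullD4 hS (fun h => absurd rfl h)
  · exact full_sound _ P _ _ fullF4 hS (fun h => absurd rfl h)
  · exact full_sound _ P _ _ fullE6 hS (fun h => absurd rfl h)
  · exact full_sound _ P _ _ fullE7 hS (fun h => absurd rfl h)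
  · exact full_sound _ P _ _ fullE8 hS (fun h => absurd rfl h)

end Cfsg.Agent.helper6.CoverPerf
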