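import Mathlib
import Cfsg.Agent.Lib_helper5_CoxRep
import Cfsg.Agent.Lib_helper5_CoxDB2
import Cfsg.Agent.Lib_helper5_CoxDG2
import Cfsg.Agent.Lib_helper5_CoxDD4
import Cfsg.Agent.Lib_helper5_CoxDF4
import Cfsg.Agent.Lib_helper5_CoxDE6
import Cfsg.Agent.Lib_helper5_CoxDE7
import Cfsg.Agent.Lib_helper5_CoxDE8

set_option autoImplicit false
open Cfsg

/-! The faithful permutation representations of the Coxeter groups of types
B₂, G₂, D₄, F₄, E₆, E₇, E₈ on the roots, and words (helper6). -/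

namespace Cfsg.Agent.helper6.CoxW

open Cfsg.Lie Cfsg.Agent.helper5.Chev Cfsg.Agent.helper5.TC

/-- every element of a Coxeter group is a word in the generators -/
theorem exists_word {n : ℕ} (M : CoxeterMatrix (Fin n)) (x : M.Group) :
    ∃ w : List ℕ, (∀ i ∈ w, i < n) ∧ x = wprod (sgen M) w := by
  obtain ⟨l, rfl⟩ := M.toCoxeterSystem.wordProd_surjective x
  refine ⟨l.map Fin.val, ?_, ?_⟩
  · intro i hi
    rw [List.mem_map] at hi
    obtain ⟨a, _, rfl⟩ := hi
    exact a.2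
  · induction l with
    | nil => rw [CoxeterSystem.wordProd_nil, List.map_nil, wprod_nil]
    | cons a l ih =>
      rw [CoxeterSystem.wordProd_cons, List.map_cons, wprod_cons, sgen_lt M _ a.2, ← ih,
        CoxeterMatrix.toCoxeterSystem_simple]

theorem wprod_single {n : ℕ} (M : CoxeterMatrix (Fin n)) (i : ℕ) :
    wprod (sgen M) [i] = sgen M i := by
  rw [wprod_cons, wprod_nil, mul_one]

theorem wprod_reverse {n : ℕ} (M : CoxeterMatrix (Fin n)) (w : List ℕ) :
    wprod (sgen M) w.reverse = (wprod (sgen M) w)⁻¹ := by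
  induction w with
  | nil => rw [List.reverse_nil, wprod_nil, inv_one]
  | cons i w ih =>
    rw [List.reverse_cons, wprod_append, ih, wprod_single, wprod_cons, mul_inv_rev]
    congr 1
    exact eq_inv_of_mul_eq_one_left (sgen_inv M i)

/-- the statement that the Coxeter group acts faithfully on the roots -/
def HasRep (D : ChevalleyDatum) {n : ℕ} (M : CoxeterMatrix (Fin n)) : Prop :=
  ∃ π : M.Group →* Equiv.Perm (Fin D.nroots), Function.Injective π ∧
    ∀ w : List ℕ, (∀ i ∈ w, i < D.rank) → ∀ r : Fin D.nroots,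
      (π (wprod (sgen M) w) r).val = applyW D w r.val

set_option maxRecDepth 1000000 in
set_option maxHeartbeats 0 in
theorem rep_B2 : HasRep chevB2 (CoxeterMatrix.B 2) := by
  have := coxFinite_B2
  exact cox_rep chevB2 pcMem_B2 (CoxeterMatrix.B 2) tcM_B2 coxMt_B2 (by decide) pcRTOK_B2
    coxRel_B2 pcJ_B2_2 pcV_B2_2 pcFam_B2_2 (by simp only [coxCard_B2, pcCard_B2_2])

set_option maxRecDepth 1000000 in
set_option maxHeartbeats 0 in
theorem rep_G2 : HasRep chevG2 CoxeterMatrix.G₂ := by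
  have := coxFinite_G2
  exact cox_rep chevG2 pcMem_G2 CoxeterMatrix.G₂ tcM_G2 coxMt_G2 (by decide) pcRTOK_G2
    coxRel_G2 pcJ_G2_2 pcV_G2_2 pcFam_G2_2 (by simp only [coxCard_G2, pcCard_G2_2])

set_option maxRecDepth 1000000 in
set_option maxHeartbeats 0 in
theorem rep_D4 : HasRep chevD4 Cfsg.Lie.coxeterD4 := by
  have := coxFinite_D4
  exact cox_rep chevD4 pcMem_D4 Cfsg.Lie.coxeterD4 tcM_D4 coxMt_D4 (by decide) pcRTOK_D4
    coxRel_D4 pcJ_D4_4 pcV_D4_4 pcFam_D4_4 (by simp only [coxCard_D4, pcCard_D4_4])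

set_option maxRecDepth 1000000 in
set_option maxHeartbeats 0 in
theorem rep_F4 : HasRep chevF4 CoxeterMatrix.F₄ := by
  have := coxFinite_F4
  exact cox_rep chevF4 pcMem_F4 CoxeterMatrix.F₄ tcM_F4 coxMt_F4 (by decide) pcRTOK_F4
    coxRel_F4 pcJ_F4_4 pcV_F4_4 pcFam_F4_4 (by simp only [coxCard_F4, pcCard_F4_4])

set_option maxRecDepth 1000000 in
set_option maxHeartbeats 0 in
theorem rep_E6 : HasRep chevE6 CoxeterMatrix.E₆ := by
  have := coxFinite_E6
  exact cox_rep chevE6 pcMem_E6 CoxeterMatrix.E₆ tcM_E6 coxMt_E6 (by decide) pcRTOK_E6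
    coxRel_E6 pcJ_E6_6 pcV_E6_6 pcFam_E6_6 (by simp only [coxCard_E6, pcCard_E6_6])

set_option maxRecDepth 1000000 in
set_option maxHeartbeats 0 in
theorem rep_E7 : HasRep chevE7 CoxeterMatrix.E₇ := by
  have := coxFinite_E7
  exact cox_rep chevE7 pcMem_E7 CoxeterMatrix.E₇ tcM_E7 coxMt_E7 (by decide) pcRTOK_E7
    coxRel_E7 pcJ_E7_7 pcV_E7_7 pcFam_E7_7 (by simp only [coxCard_E7, pcCard_E7_7])

set_option maxRecDepth 1000000 in
set_option maxHeartbeats 0 in
theorem rep_E8 : HasRep chevE8 CoxeterMatrix.E₈ := by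
  have := coxFinite_E8
  exact cox_rep chevE8 pcMem_E8 CoxeterMatrix.E₈ tcM_E8 coxMt_E8 (by decide) pcRTOK_E8
    coxRel_E8 pcJ_E8_8 pcV_E8_8 pcFam_E8_8 (by simp only [coxCard_E8, pcCard_E8_8])

section
variable (D : ChevalleyDatum)
  (hD : D ∈ [chevG2, chevB2, chevD4, chevF4, chevE6, chevE7, chevE8])

include hD in
/-- the table action of a word -/
theorem applyRT_word {T : List ℕ} {nr rank half : ℕ} {simp : List ℕ}
    (hT : RTabOK D T nr rank half simp) (w : List ℕ) (hw : ∀ i ∈ w, i < D.rank) (r : ℕ)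
    (hr : r < D.nroots) : applyRT T w.reverse r = applyW D w r := by
  rw [applyRT_eq D hD hT _ (fun i hi => hw i (List.mem_reverse.mp hi)) r hr]
  unfold applyR
  rw [List.reverse_reverse]

include hD in
/-- equality of words from equality of the table actions -/
theorem wprod_eq_of_chk {n : ℕ} (M : CoxeterMatrix (Fin n))
    {T : List ℕ} {nr rank half : ℕ} {simp : List ℕ} (hT : RTabOK D T nr rank half simp)
    (π : M.Group →* Equiv.Perm (Fin D.nroots)) (hπ : Function.Injective π)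
    (hπw : ∀ w : List ℕ, (∀ i ∈ w, i < D.rank) → ∀ r : Fin D.nroots,
        (π (wprod (sgen M) w) r).val = applyW D w r.val)
    (w w' : List ℕ) (hw : ∀ i ∈ w, i < D.rank) (hw' : ∀ i ∈ w', i < D.rank)
    (h : ∀ r < nr, Nat.beq (applyRT T w.reverse r) (applyRT T w'.reverse r) = true) :
    wprod (sgen M) w = wprod (sgen M) w' := by
  apply hπ
  ext r
  rw [hπw w hw r, hπw w' hw' r, ← applyRT_word D hD hT w hw r.val r.2,
    ← applyRT_word D hD hT w' hw' r.val r.2]
  exact Nat.eq_of_beq_eq_true (h r.val (by rw [hT.hn]; exact r.2))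

end

end Cfsg.Agent.helper6.CoxW
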