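import Cfsg.Statements.S0514
import Mathlib
import Cfsg.Agent.S0071
import Cfsg.Agent.Lib_helper3_DihLike

set_option autoImplicit false
open Cfsg

open scoped Pointwise
namespace Cfsg.Agent.S0514


open Cfsg.Agent.helper3

/-- A group isomorphic to a dihedral group is dihedral-like. -/
theorem dihLike_of_equiv {X : Type*} [Group X] {n : ℕ} (T : Subgroup X)
    (e : ↥T ≃* DihedralGroup n) :
    DihLike T ((Subgroup.zpowers (e.symm (DihedralGroup.r 1))).map T.subtype) := by
  have key : ∀ x : ↥T, (x : X) ∈ (Subgroup.zpowers (e.symm (DihedralGroup.r 1))).map T.subtype ↔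
      ∃ i, e x = DihedralGroup.r i := by
    intro x
    constructor
    · rintro ⟨z, hz, hzx⟩
      have hzx' : z = x := Subtype.ext hzx
      subst hzx'
      obtain ⟨k, rfl⟩ := Subgroup.mem_zpowers_iff.mp hz
      refine ⟨(k : ZMod n), ?_⟩
      rw [map_zpow, e.apply_symm_apply, DihedralGroup.r_one_zpow]
    · rintro ⟨i, hi⟩
      refine ⟨x, ?_, rfl⟩
      have h1 : x = (e.symm (DihedralGroup.r 1)) ^ (i.cast : ℤ) := by
        rw [← map_zpow, DihedralGroup.r_one_zpow, ZMod.intCast_zmod_cast, ← hi,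
          e.symm_apply_apply]
      rw [h1]
      exact Subgroup.zpow_mem_zpowers _ _
  refine ⟨?_, ?_, ?_⟩
  · rw [MonoidHom.map_zpowers]; infer_instance
  · intro x hx hxR
    have hnot : ¬ ∃ i, e ⟨x, hx⟩ = DihedralGroup.r i := fun h => hxR ((key ⟨x, hx⟩).mpr h)
    cases h : e ⟨x, hx⟩ with
    | r i => exact absurd ⟨i, h⟩ hnot
    | sr i =>
      have h2 : e (⟨x, hx⟩ * ⟨x, hx⟩) = 1 := by rw [map_mul, h, DihedralGroup.sr_mul_self]
      have h3 : (⟨x, hx⟩ * ⟨x, hx⟩ : ↥T) = 1 := by
        rw [← e.symm_apply_apply (⟨x, hx⟩ * ⟨x, hx⟩), h2, map_one]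
      exact congrArg Subtype.val h3
  · intro x hx y hy hxR hyR
    have hnotx : ¬ ∃ i, e ⟨x, hx⟩ = DihedralGroup.r i := fun h => hxR ((key ⟨x, hx⟩).mpr h)
    have hnoty : ¬ ∃ i, e ⟨y, hy⟩ = DihedralGroup.r i := fun h => hyR ((key ⟨y, hy⟩).mpr h)
    cases h : e ⟨x, hx⟩ with
    | r i => exact absurd ⟨i, h⟩ hnotx
    | sr i =>
      cases h' : e ⟨y, hy⟩ with
      | r j => exact absurd ⟨j, h'⟩ hnoty
      | sr j =>
        have := (key (⟨x, hx⟩ * ⟨y, hy⟩)).mpr ⟨j - i, by
          rw [map_mul, h, h', DihedralGroup.sr_mul_sr]⟩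
        exact this

/-- In a finite group whose Sylow 2-subgroups are dihedral of order at least 4, the centralizer of any involution has a
normal subgroup of odd order whose index in the centralizer is a power of 2. -/
theorem result {X : Type*} [Group X] [Finite X]
    (S : Sylow 2 X) (n : ℕ) (hn : 2 ≤ n) (hS : Nonempty ((S : Subgroup X) ≃* DihedralGroup n)) (t : X)
    (ht : orderOf t = 2) :
    ∃ N : Subgroup (Subgroup.centralizer ({t} : Set X)), N.Normal ∧ Odd (Nat.card N) ∧ ∃ k : ℕ, N.index = 2 ^ k := by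
  classical
  haveI : Fact (Nat.Prime 2) := ⟨Nat.prime_two⟩
  obtain ⟨e⟩ := hS
  have htt : t * t = 1 := by rw [← sq, ← ht]; exact pow_orderOf_eq_one t
  have ht1 : t ≠ 1 := by
    rintro rfl
    rw [orderOf_one] at ht
    omega
  obtain ⟨P⟩ : Nonempty (Sylow 2 ↥(Subgroup.centralizer ({t} : Set X))) := inferInstance
  have htC : t ∈ Subgroup.centralizer ({t} : Set X) := by
    rw [Subgroup.mem_centralizer_iff]
    intro y hy
    rw [Set.mem_singleton_iff] at hy
    rw [hy]
  -- `t` commutes with everything in `C`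
  have hCt : ∀ c ∈ Subgroup.centralizer ({t} : Set X), c * t = t * c := by
    intro c hc
    exact (Subgroup.mem_centralizer_iff.mp hc t rfl).symm
  -- `t ∈ P`
  have htP : (⟨t, htC⟩ : ↥(Subgroup.centralizer ({t} : Set X))) ∈
      (P : Subgroup ↥(Subgroup.centralizer ({t} : Set X))) := by
    haveI hn : (Subgroup.zpowers (⟨t, htC⟩ : ↥(Subgroup.centralizer ({t} : Set X)))).Normal := by
      constructor
      intro z hz c
      obtain ⟨k, rfl⟩ := Subgroup.mem_zpowers_iff.mp hz
      have hcomm : Commute c (⟨t, htC⟩ : ↥(Subgroup.centralizer ({t} : Set X))) :=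
        Subtype.ext (hCt c.1 c.2)
      have : c * (⟨t, htC⟩ : ↥(Subgroup.centralizer ({t} : Set X))) ^ k * c⁻¹ =
          (⟨t, htC⟩ : ↥(Subgroup.centralizer ({t} : Set X))) ^ k := by
        rw [(hcomm.zpow_right k).eq, mul_inv_cancel_right]
      rw [this]
      exact Subgroup.zpow_mem_zpowers _ _
    have hpg : IsPGroup 2 ↥(Subgroup.zpowers
        (⟨t, htC⟩ : ↥(Subgroup.centralizer ({t} : Set X)))) := by
      apply IsPGroup.of_card (n := 1)
      rw [Nat.card_zpowers, Subgroup.orderOf_mk, ht, pow_one]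
    exact (hpg.le_sylow_of_normal P) (Subgroup.mem_zpowers _)
  -- a Sylow 2-subgroup of `X` containing `P`
  obtain ⟨S', hS'⟩ := IsPGroup.exists_le_sylow
    (P.isPGroup'.map (Subgroup.centralizer ({t} : Set X)).subtype)
  obtain ⟨x, hx⟩ := MulAction.exists_smul_eq X S S'
  have hS'eq : (S' : Subgroup X) = MulAut.conj x • (S : Subgroup X) := by
    rw [← hx]; rfl
  let e' : ↥(S' : Subgroup X) ≃* DihedralGroup n :=
    (MulEquiv.subgroupCongr hS'eq).trans
      ((Subgroup.equivSMul (MulAut.conj x) (S : Subgroup X)).symm.trans e)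
  have hD := dihLike_of_equiv (S' : Subgroup X) e'
  have htS' : t ∈ (S' : Subgroup X) := hS' ⟨⟨t, htC⟩, htP, rfl⟩
  -- the Frobenius condition
  have hfrob : ∀ Q : Subgroup ↥(Subgroup.centralizer ({t} : Set X)),
      Q ≤ (P : Subgroup ↥(Subgroup.centralizer ({t} : Set X))) →
      ∀ g ∈ Subgroup.normalizer (Q : Set ↥(Subgroup.centralizer ({t} : Set X))),
      Nat.Coprime (orderOf g) 2 → g ∈ Subgroup.centralizer (Q : Set _) := by
    intro Q hQP g hg hcop
    have hQ'S' : Q.map (Subgroup.centralizer ({t} : Set X)).subtype ≤ (S' : Subgroup X) :=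
      (Subgroup.map_mono hQP).trans hS'
    have hDQ := hD.mono hQ'S'
    have hQ'2 : IsPGroup 2 ↥(Q.map (Subgroup.centralizer ({t} : Set X)).subtype) :=
      (P.isPGroup'.to_le hQP).map _
    have hconjQ : ∀ q ∈ Q.map (Subgroup.centralizer ({t} : Set X)).subtype,
        (g : X) * q * (g : X)⁻¹ ∈ Q.map (Subgroup.centralizer ({t} : Set X)).subtype := by
      rintro _ ⟨q, hq, rfl⟩
      exact ⟨g * q * g⁻¹, (Subgroup.mem_normalizer_iff.mp hg q).mp hq, by simp⟩
    have hg' : (g : X) ∈ Subgroup.normalizer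
        ((Q.map (Subgroup.centralizer ({t} : Set X)).subtype : Subgroup X) : Set X) := by
      rw [Subgroup.mem_normalizer_iff]
      intro y
      constructor
      · exact hconjQ y
      · rintro ⟨q, hq, hqy⟩
        refine ⟨g⁻¹ * q * g, ?_, ?_⟩
        · have := (Subgroup.mem_normalizer_iff.mp hg (g⁻¹ * q * g)).mpr
            (by rw [show g * (g⁻¹ * q * g) * g⁻¹ = q by group]; exact hq)
          exact this
        · simp only [Subgroup.subtype_apply, Subgroup.coe_mul, Subgroup.coe_inv] at hqy ⊢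
          rw [hqy]; group
    have hodd : Odd (orderOf (g : X)) := by
      rw [Subgroup.orderOf_coe]; exact Nat.coprime_two_right.mp hcop
    have hgt : (g : X) * t = t * (g : X) := hCt g.1 g.2
    haveI := hD.cyc
    have hcyc : IsCyclic ↥(Q.map (Subgroup.centralizer ({t} : Set X)).subtype ⊓
        (Subgroup.zpowers (e'.symm (DihedralGroup.r 1))).map (S' : Subgroup X).subtype) :=
      Subgroup.isCyclic_of_le inf_le_right
    obtain ⟨y, hy⟩ := (Subgroup.isCyclic_iff_exists_zpowers_eq_top _).mp hcyc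
    have hall : ∀ q ∈ Q.map (Subgroup.centralizer ({t} : Set X)).subtype,
        (g : X) * q = q * (g : X) := by
      by_cases hy2 : y * y = 1
      · have hsq : ∀ z ∈ Q.map (Subgroup.centralizer ({t} : Set X)).subtype, z * z = 1 := by
          intro z hz
          by_cases hzR : z ∈ (Subgroup.zpowers (e'.symm (DihedralGroup.r 1))).map
              (S' : Subgroup X).subtype
          · have hz' : z ∈ Subgroup.zpowers y := by rw [hy]; exact ⟨hz, hzR⟩
            obtain ⟨k, rfl⟩ := Subgroup.mem_zpowers_iff.mp hz'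
            rw [← (Commute.refl y).mul_zpow, hy2, one_zpow]
          · exact hDQ.sq z hz hzR
        have hQ'C : ∀ z ∈ Q.map (Subgroup.centralizer ({t} : Set X)).subtype,
            t * z = z * t := fun z hz => (hCt z (Subgroup.map_subtype_le _ hz)).symm
        have comm_of_sq : ∀ a b : X, a * a = 1 → b * b = 1 → (a * b) * (a * b) = 1 →
            a * b = b * a := by
          intro a b ha hb hab
          have h1 : (a * b)⁻¹ = a * b := inv_eq_of_mul_eq_one_right hab
          have h2 : a⁻¹ = a := inv_eq_of_mul_eq_one_right ha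
          have h3 : b⁻¹ = b := inv_eq_of_mul_eq_one_right hb
          rw [← h1, mul_inv_rev, h2, h3]
        intro q hq
        have hq' := hconjQ q hq
        exact centralizes_small hD htS' (hQ'S' hq) (hQ'S' hq') ht1 htt (hsq q hq) hgt
          (hQ'C q hq) (hQ'C _ hq')
          (comm_of_sq _ _ (hsq q hq) (hsq _ hq') (hsq _ (Subgroup.mul_mem _ hq hq'))) hodd
      · exact centralizes_of_dihLike hDQ hQ'2 hg' hodd y hy hy2
    rw [Subgroup.mem_centralizer_iff]
    intro q hq
    apply Subtype.ext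
    exact (hall q.1 (Subgroup.mem_map_of_mem _ hq)).symm
  obtain ⟨N, hN, hNP⟩ := (S0071.result P).mpr hfrob
  refine ⟨N, hN, ?_, ?_⟩
  · rw [← hNP.index_eq_card]
    exact Nat.odd_iff.mpr (Nat.two_dvd_ne_zero.mp P.not_dvd_index)
  · obtain ⟨k, hk⟩ := IsPGroup.iff_card.mp P.isPGroup'
    exact ⟨k, by rw [hNP.symm.index_eq_card, hk]⟩

end Cfsg.Agent.S0514
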