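import Cfsg.Statements.S1254
import Mathlib
import Cfsg.Agent.S0071
import Cfsg.Agent.S0514
import Cfsg.Agent.Lib_helper3_DihLike
import Cfsg.Agent.Lib_helper1_Klein
import Cfsg.Agent.Lib_helper6_Klein
import Cfsg.Agent.Lib_helper19_Pairing
import Cfsg.Agent.Lib_helper10_PResidual

set_option autoImplicit false
open Cfsg

open scoped Pointwise
namespace Cfsg.Agent.S1254


open Cfsg.Agent.helper3

variable {X : Type*} [Group X]

/-- `|Q| ≤ 2 |Q ∩ R|` in a dihedral-like group. -/
theorem card_le_of_dihLike [Finite X] {Q R : Subgroup X} (h : DihLike Q R) :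
    Nat.card ↥Q ≤ 2 * Nat.card ↥(Q ⊓ R) := by
  classical
  by_cases hQR : Q ≤ R
  · rw [inf_eq_left.mpr hQR]; omega
  · obtain ⟨u, hu, huR⟩ := SetLike.not_le_iff_exists.mp hQR
    let f : ↥Q → ↥(Q ⊓ R) × Bool := fun x =>
      if hx : (x : X) ∈ R then (⟨x, x.2, hx⟩, true)
      else (⟨u * x, Q.mul_mem hu x.2, h.mul u hu x x.2 huR hx⟩, false)
    have hf : Function.Injective f := by
      intro x y hxy
      by_cases hx : (x : X) ∈ R <;> by_cases hy : (y : X) ∈ R
      · simp only [f, dif_pos hx, dif_pos hy, Prod.mk.injEq, and_true] at hxy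
        have h1 := congrArg Subtype.val hxy
        exact Subtype.ext h1
      · simp [f, dif_pos hx, dif_neg hy] at hxy
      · simp [f, dif_neg hx, dif_pos hy] at hxy
      · simp only [f, dif_neg hx, dif_neg hy, Prod.mk.injEq, and_true] at hxy
        have h1 := congrArg Subtype.val hxy
        exact Subtype.ext (mul_left_cancel h1)
    have := Nat.card_le_card_of_injective f hf
    rw [Nat.card_prod, Nat.card_eq_fintype_card (α := Bool), Fintype.card_bool] at this
    omega

theorem comm_of_sq {a b : X} (ha : a * a = 1) (hb : b * b = 1) (hab : (a * b) * (a * b) = 1) :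
    a * b = b * a := by
  have h1 : (a * b)⁻¹ = a * b := inv_eq_of_mul_eq_one_right hab
  have h2 : a⁻¹ = a := inv_eq_of_mul_eq_one_right ha
  have h3 : b⁻¹ = b := inv_eq_of_mul_eq_one_right hb
  rw [← h1, mul_inv_rev, h2, h3]

/-- A four-group in a dihedral-like group has an element outside `R` and a nonidentity
element inside `R`. -/
theorem four_elements [Finite X] {S R U : Subgroup X} (hD : DihLike S R) (hUS : U ≤ S)
    (hK : IsKleinFour ↥U) :
    ∃ u ∈ U, u ∉ R ∧ ∃ z ∈ U, z ∈ R ∧ z ≠ 1 := by
  obtain ⟨a, b, ha, hb, ha1, hb1, hab, -, hsq, -⟩ := Cfsg.Agent.helper1.klein_structure U hK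
  have hnot : ¬ U ≤ R := by
    intro hle
    haveI := hD.cyc
    haveI : IsCyclic ↥U := Subgroup.isCyclic_of_le hle
    exact IsKleinFour.not_isCyclic (G := ↥U) inferInstance
  obtain ⟨u, hu, huR⟩ := SetLike.not_le_iff_exists.mp hnot
  refine ⟨u, hu, huR, ?_⟩
  -- pick `w ∈ U`, `w ≠ 1`, `w ≠ u`
  obtain ⟨w, hw, hw1, hwu⟩ : ∃ w ∈ U, w ≠ 1 ∧ w ≠ u := by
    by_cases h : a = u
    · exact ⟨b, hb, hb1, fun hbu => hab (h.trans hbu.symm)⟩
    · exact ⟨a, ha, ha1, h⟩
  by_cases hwR : w ∈ R
  · exact ⟨w, hw, hwR, hw1⟩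
  · refine ⟨u * w, U.mul_mem hu hw, hD.mul u (hUS hu) w (hUS hw) huR hwR, ?_⟩
    intro h
    apply hwu
    have huu := hsq u hu
    calc w = (u * u) * w := by rw [huu, one_mul]
      _ = u * (u * w) := by rw [mul_assoc]
      _ = u := by rw [h, mul_one]

/-- An element of a dihedral-like group centralizing a four-subgroup lies in it. -/
theorem mem_of_centralizes [Finite X] {S R U : Subgroup X} (hD : DihLike S R) (hUS : U ≤ S)
    (hK : IsKleinFour ↥U) {s : X} (hs : s ∈ S) (hc : ∀ w ∈ U, s * w = w * s) : s ∈ U := by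
  obtain ⟨u, hu, huR, z, hz, hzR, hz1⟩ := four_elements hD hUS hK
  have hsqU : ∀ w ∈ U, w * w = 1 := Cfsg.Agent.helper6.Klein.sq_of_klein hK
  have huu := hsqU u hu
  have hzz := hsqU z hz
  have hsu := hc u hu
  by_cases hsR : s ∈ R
  · -- `u * s ∉ R`
    have husR : u * s ∉ R := by
      intro h
      apply huR
      have := R.mul_mem h (R.inv_mem hsR)
      rwa [mul_inv_cancel_right] at this
    have h1 := hD.sq (u * s) (S.mul_mem (hUS hu) hs) husR
    have hss : s * s = 1 := by
      calc s * s = (u * u) * (s * s) := by rw [huu, one_mul]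
        _ = u * (u * s) * s := by group
        _ = u * (s * u) * s := by rw [hsu]
        _ = (u * s) * (u * s) := by group
        _ = 1 := h1
    by_cases hs1 : s = 1
    · rw [hs1]; exact U.one_mem
    · have := involution_unique_of_cyclic hD.cyc hsR hzR hss hzz hs1 hz1
      rw [this]; exact hz
  · have h1 : s * u ∈ R := hD.mul s hs u (hUS hu) hsR huR
    have hss : s * s = 1 := hD.sq s hs hsR
    have h2 : (s * u) * (s * u) = 1 := by
      calc (s * u) * (s * u) = s * (u * s) * u := by group
        _ = s * (s * u) * u := by rw [hsu]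
        _ = (s * s) * (u * u) := by group
        _ = 1 := by rw [hss, huu, one_mul]
    by_cases h3 : s * u = 1
    · have : s = u := by
        calc s = s * (u * u) := by rw [huu, mul_one]
          _ = (s * u) * u := by rw [mul_assoc]
          _ = u := by rw [h3, one_mul]
      rw [this]; exact hu
    · have h4 := involution_unique_of_cyclic hD.cyc h1 hzR h2 hzz h3 hz1
      have : s = z * u := by
        calc s = s * (u * u) := by rw [huu, mul_one]
          _ = (s * u) * u := by rw [mul_assoc]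
          _ = z * u := by rw [h4]
      rw [this]; exact U.mul_mem hz hu

/-- Core of the forward direction. -/
theorem core_fwd [Finite X] (S : Sylow 2 X) {R U T₀ : Subgroup X} (hD : DihLike (S : Subgroup X) R)
    (hUS : U ≤ S) (hK : IsKleinFour ↥U) (hT₀ : IsPGroup 2 ↥T₀) (hUT : U ≤ T₀)
    (hTN : T₀ ≤ Subgroup.normalizer (U : Set X))
    (hST : (S : Subgroup X) ⊓ Subgroup.normalizer (U : Set X) ≤ T₀) :
    T₀ ≤ Subgroup.centralizer (U : Set X) ⊔
      ((S : Subgroup X) ⊓ Subgroup.normalizer (U : Set X)) := by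
  haveI : Fact (Nat.Prime 2) := ⟨Nat.prime_two⟩
  haveI : Finite ↥U := IsKleinFour.instFinite
  have hsqU : ∀ w ∈ U, w * w = 1 := Cfsg.Agent.helper6.Klein.sq_of_klein hK
  have hcommU : ∀ v ∈ U, ∀ w ∈ U, v * w = w * v := Cfsg.Agent.helper6.Klein.comm_of_klein hK
  -- a central element of `T₀` in `U`
  haveI hUn : (U.subgroupOf T₀).Normal := Subgroup.normal_subgroupOf_of_le_normalizer hTN
  have hUne : U.subgroupOf T₀ ≠ ⊥ := by
    intro h
    have h1 : Nat.card ↥(U.subgroupOf T₀) = 1 := by rw [h]; exact Subgroup.card_bot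
    rw [Nat.card_congr (Subgroup.subgroupOfEquivOfLe hUT).toEquiv, hK.card_four] at h1
    omega
  obtain ⟨a', ha', ha'1⟩ := (Subgroup.bot_or_exists_ne_one _).resolve_left
    (Cfsg.Agent.helper19.inf_center_ne_bot_of_normal hT₀ (U.subgroupOf T₀) hUne)
  have haU : (a' : X) ∈ U := Subgroup.mem_subgroupOf.mp ha'.1
  have ha1 : (a' : X) ≠ 1 := fun h => ha'1 (Subtype.ext h)
  have haZ : ∀ v ∈ T₀, v * (a' : X) = (a' : X) * v := fun v hv =>
    congrArg Subtype.val (Subgroup.mem_center_iff.mp ha'.2 ⟨v, hv⟩)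
  obtain ⟨a₀, b₀, ha₀, hb₀, ha₀1, hb₀1, hab₀, -, -, -⟩ := Cfsg.Agent.helper1.klein_structure U hK
  obtain ⟨b, hbU, hb1, hba⟩ : ∃ b ∈ U, b ≠ 1 ∧ b ≠ (a' : X) := by
    by_cases h : a₀ = (a' : X)
    · exact ⟨b₀, hb₀, hb₀1, fun hb => hab₀ (h.trans hb.symm)⟩
    · exact ⟨a₀, ha₀, ha₀1, h⟩
  have hcover := Cfsg.Agent.helper1.klein_cover U hK (a' : X) b haU hbU ha1 hb1 (Ne.symm hba)
  have haa := hsqU _ haU
  have hbb := hsqU _ hbU
  -- conjugates of `b` by elements of `T₀`
  have hconjb : ∀ v ∈ T₀, v * b * v⁻¹ = b ∨ v * b * v⁻¹ = (a' : X) * b := by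
    intro v hv
    have h1 : v * b * v⁻¹ ∈ U := (Subgroup.mem_normalizer_iff.mp (hTN hv) b).mp hbU
    rcases hcover _ h1 with h | h | h | h
    · exfalso; apply hb1
      calc b = v⁻¹ * (v * b * v⁻¹) * v := by group
        _ = 1 := by rw [h]; group
    · exfalso; apply hba
      calc b = v⁻¹ * (v * b * v⁻¹) * v := by group
        _ = v⁻¹ * ((a' : X) * v) := by rw [h, mul_assoc]
        _ = v⁻¹ * (v * (a' : X)) := by rw [haZ v hv]
        _ = (a' : X) := by group
    · exact Or.inl h
    · exact Or.inr h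
  -- an element commuting with `a` and `b` centralizes `U`
  have hcent : ∀ v : X, v * (a' : X) = (a' : X) * v → v * b = b * v →
      v ∈ Subgroup.centralizer (U : Set X) := by
    intro v hva hvb
    rw [Subgroup.mem_centralizer_iff]
    intro w hw
    rcases hcover w hw with rfl | rfl | rfl | rfl
    · simp
    · exact hva.symm
    · exact hvb.symm
    · rw [mul_assoc, ← hvb, ← mul_assoc, ← hva, mul_assoc]
  by_cases hs : ∃ s₀ ∈ (S : Subgroup X) ⊓ Subgroup.normalizer (U : Set X), s₀ * b * s₀⁻¹ ≠ b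
  · obtain ⟨s₀, hs₀, hs₀b⟩ := hs
    have hs₀T := hST hs₀
    have hs₀b' : s₀ * b * s₀⁻¹ = (a' : X) * b := (hconjb s₀ hs₀T).resolve_left hs₀b
    intro v hv
    rcases hconjb v hv with h | h
    · apply Subgroup.mem_sup_left
      apply hcent v (haZ v hv)
      calc v * b = v * b * v⁻¹ * v := by group
        _ = b * v := by rw [h]
    · -- `s₀⁻¹ v` centralizes `U`
      have h1 : s₀⁻¹ * v ∈ Subgroup.centralizer (U : Set X) := by
        apply hcent
        · rw [mul_assoc, haZ v hv, ← mul_assoc, ← mul_assoc]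
          congr 1
          have := haZ s₀ hs₀T
          calc s₀⁻¹ * (a' : X) = s₀⁻¹ * ((a' : X) * s₀) * s₀⁻¹ := by group
            _ = s₀⁻¹ * (s₀ * (a' : X)) * s₀⁻¹ := by rw [this]
            _ = (a' : X) * s₀⁻¹ := by group
        · have e1 : v * b = (a' : X) * b * v := by
            calc v * b = v * b * v⁻¹ * v := by group
              _ = (a' : X) * b * v := by rw [h]
          have e2 : s₀⁻¹ * ((a' : X) * b) = b * s₀⁻¹ := by
            calc s₀⁻¹ * ((a' : X) * b) = s₀⁻¹ * (s₀ * b * s₀⁻¹) := by rw [hs₀b']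
              _ = b * s₀⁻¹ := by group
          calc s₀⁻¹ * v * b = s₀⁻¹ * (v * b) := by rw [mul_assoc]
            _ = s₀⁻¹ * ((a' : X) * b * v) := by rw [e1]
            _ = s₀⁻¹ * ((a' : X) * b) * v := by rw [mul_assoc s₀⁻¹]
            _ = b * s₀⁻¹ * v := by rw [e2]
            _ = b * (s₀⁻¹ * v) := by rw [mul_assoc]
      have h2 : v = s₀ * (s₀⁻¹ * v) := by group
      rw [h2, sup_comm]
      exact Subgroup.mul_mem_sup hs₀ h1
  · push Not at hs
    -- every element of `N_S(U)` centralizes `U`, hence `U = S`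
    have hcentS : ∀ s ∈ (S : Subgroup X) ⊓ Subgroup.normalizer (U : Set X),
        ∀ w ∈ U, s * w = w * s := by
      intro s hs' w hw
      have h1 : s * b = b * s := by
        calc s * b = s * b * s⁻¹ * s := by group
          _ = b * s := by rw [hs s hs']
      have := hcent s (haZ s (hST hs')) h1
      exact (Subgroup.mem_centralizer_iff.mp this w hw).symm
    have hUS' : U = (S : Subgroup X) := by
      by_contra hne
      have hlt : U.subgroupOf (S : Subgroup X) < ⊤ := by
        rw [lt_top_iff_ne_top]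
        intro h
        apply hne
        apply le_antisymm hUS
        intro s hs'
        have : (⟨s, hs'⟩ : ↥(S : Subgroup X)) ∈ U.subgroupOf (S : Subgroup X) := by
          rw [h]; trivial
        exact Subgroup.mem_subgroupOf.mp this
      haveI : Group.IsNilpotent ↥(S : Subgroup X) := S.isPGroup'.isNilpotent
      have hnc := normalizerCondition_of_isNilpotent (G := ↥(S : Subgroup X)) _ hlt
      obtain ⟨s', hs'N, hs'U⟩ := SetLike.exists_of_lt hnc
      have hsN : (s' : X) ∈ (S : Subgroup X) ⊓ Subgroup.normalizer (U : Set X) := by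
        refine Subgroup.mem_inf.mpr ⟨s'.2, ?_⟩
        rw [Subgroup.mem_normalizer_iff]
        intro w
        have := Subgroup.mem_normalizer_iff.mp hs'N
        constructor
        · intro hw
          have h1 := (this ⟨w, hUS hw⟩).mp (Subgroup.mem_subgroupOf.mpr hw)
          exact Subgroup.mem_subgroupOf.mp h1
        · intro hw
          have hwS : w ∈ (S : Subgroup X) := by
            have h2 := S.1.mul_mem (S.1.mul_mem (S.1.inv_mem s'.2) (hUS hw)) s'.2
            have e : (s' : X)⁻¹ * ((s' : X) * w * (s' : X)⁻¹) * (s' : X) = w := by group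
            rwa [e] at h2
          have h1 := (this ⟨w, hwS⟩).mpr (Subgroup.mem_subgroupOf.mpr hw)
          exact Subgroup.mem_subgroupOf.mp h1
      apply hs'U
      exact Subgroup.mem_subgroupOf.mpr
        (mem_of_centralizes hD hUS hK s'.2 (hcentS _ hsN))
    have hT₀S : T₀ = (S : Subgroup X) := S.is_maximal' hT₀ (hUS' ▸ hUT)
    intro v hv
    apply Subgroup.mem_sup_left
    rw [Subgroup.mem_centralizer_iff]
    intro w hw
    have hvU : v ∈ U := by rw [hUS', ← hT₀S]; exact hv
    exact hcommU w hw v hvU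

/-- Elements of `C(Q) ⊔ (S ∩ N(Q))` of odd order centralize `Q`. -/
theorem odd_mem_centralizer [Finite X] {Q P : Subgroup X} (hP : IsPGroup 2 ↥P) {g : X}
    (hg : g ∈ Subgroup.centralizer (Q : Set X) ⊔ (P ⊓ Subgroup.normalizer (Q : Set X)))
    (hodd : Odd (orderOf g)) : g ∈ Subgroup.centralizer (Q : Set X) := by
  haveI : Fact (Nat.Prime 2) := ⟨Nat.prime_two⟩
  have hLE : P ⊓ Subgroup.normalizer (Q : Set X) ≤
      Subgroup.normalizer ((Subgroup.centralizer (Q : Set X) : Subgroup X) : Set X) := by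
    intro s hs
    have hsN := hs.2
    rw [Subgroup.mem_normalizer_iff]
    intro c
    have key : ∀ (n : X), n ∈ Subgroup.normalizer (Q : Set X) →
        ∀ c ∈ Subgroup.centralizer (Q : Set X), n * c * n⁻¹ ∈ Subgroup.centralizer (Q : Set X) := by
      intro n hn c hc
      rw [Subgroup.mem_centralizer_iff]
      intro q hq
      have hq' : n⁻¹ * q * n⁻¹⁻¹ ∈ Q :=
        (Subgroup.mem_normalizer_iff.mp (Subgroup.inv_mem _ hn) q).mp hq
      rw [inv_inv] at hq'
      have h1 := Subgroup.mem_centralizer_iff.mp hc _ hq'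
      calc q * (n * c * n⁻¹) = n * ((n⁻¹ * q * n) * c) * n⁻¹ := by group
        _ = n * (c * (n⁻¹ * q * n)) * n⁻¹ := by rw [h1]
        _ = n * c * n⁻¹ * q := by group
    constructor
    · exact key s hsN c
    · intro h
      have := key s⁻¹ (Subgroup.inv_mem _ hsN) _ h
      have e : s⁻¹ * (s * c * s⁻¹) * s⁻¹⁻¹ = c := by group
      rwa [e] at this
  have hmem : g ∈ ((Subgroup.centralizer (Q : Set X) ⊔
      (P ⊓ Subgroup.normalizer (Q : Set X)) : Subgroup X) : Set X) := hg
  rw [Subgroup.coe_mul_of_right_le_normalizer_left _ _ hLE] at hmem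
  obtain ⟨c, hc, s, hs, hcs⟩ := hmem
  have hgcs : g = c * s := hcs.symm
  subst hgcs
  have hcC : ∀ q ∈ Q, c * q = q * c := fun q hq =>
    (Subgroup.mem_centralizer_iff.mp hc q hq).symm
  have hsQ : ∀ k : ℕ, ∀ q ∈ Q, s ^ k * q * (s ^ k)⁻¹ ∈ Q := by
    intro k q hq
    exact (Subgroup.mem_normalizer_iff.mp (Subgroup.pow_mem _ hs.2 k) q).mp hq
  have hform : ∀ k : ℕ, ∀ q ∈ Q, (c * s) ^ k * q * ((c * s) ^ k)⁻¹ = s ^ k * q * (s ^ k)⁻¹ := by
    intro k
    induction k with
    | zero => intro q _; simp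
    | succ k ih =>
      intro q hq
      have e1 : (c * s) ^ (k + 1) * q * ((c * s) ^ (k + 1))⁻¹ =
          (c * s) * ((c * s) ^ k * q * ((c * s) ^ k)⁻¹) * (c * s)⁻¹ := by
        rw [pow_succ', mul_inv_rev]; simp only [mul_assoc]
      rw [e1, ih q hq]
      have h1 : s * (s ^ k * q * (s ^ k)⁻¹) * s⁻¹ ∈ Q :=
        (Subgroup.mem_normalizer_iff.mp hs.2 _).mp (hsQ k q hq)
      have e2 : c * s * (s ^ k * q * (s ^ k)⁻¹) * (c * s)⁻¹ =
          c * (s * (s ^ k * q * (s ^ k)⁻¹) * s⁻¹) * c⁻¹ := by group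
      rw [e2, hcC _ h1, mul_inv_cancel_right, pow_succ']
      group
  obtain ⟨a, ha⟩ := IsPGroup.iff_orderOf.mp hP ⟨s, hs.1⟩
  rw [Subgroup.orderOf_mk] at ha
  have hpow : s ^ (2 ^ a) = 1 := by rw [← ha]; exact pow_orderOf_eq_one s
  have hcen : (c * s) ^ (2 ^ a) ∈ Subgroup.centralizer (Q : Set X) := by
    rw [Subgroup.mem_centralizer_iff]
    intro q hq
    have := hform (2 ^ a) q hq
    rw [hpow, one_mul, inv_one, mul_one] at this
    calc q * (c * s) ^ (2 ^ a) = ((c * s) ^ (2 ^ a) * q * ((c * s) ^ (2 ^ a))⁻¹) * (c * s) ^ (2 ^ a) := by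
          rw [this]
      _ = (c * s) ^ (2 ^ a) * q := by group
  obtain ⟨m, hm⟩ := exists_pow_eq_self_of_coprime
    (Nat.Coprime.pow_left a (Nat.coprime_two_left.mpr hodd))
  rw [← hm]
  exact Subgroup.pow_mem _ hcen m

/-- Let X be a finite group whose Sylow 2-subgroup S is dihedral (of order at least 4). Then X has a normal 2-complement if and only if, for every Klein four-subgroup U ≤ S, the normalizer N_X(U) is generated by C_X(U) and N_S(U). -/
theorem result {X : Type*} [Group X] [Finite X] (S : Sylow 2 X) (m : ℕ) (hm : 2 ≤ m) (eS : (S : Subgroup X) ≃* DihedralGroup m) : Cfsg.HasNormalPComplement 2 X ↔ ∀ U : Subgroup X, U ≤ S → IsKleinFour U → Subgroup.normalizer (U : Set X) = Subgroup.centralizer (U : Set X) ⊔ ((S : Subgroup X) ⊓ Subgroup.normalizer (U : Set X)) := by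
  classical
  haveI : Fact (Nat.Prime 2) := ⟨Nat.prime_two⟩
  have hD := Cfsg.Agent.S0514.dihLike_of_equiv (S : Subgroup X) eS
  constructor
  · -- forward
    intro hNC U hUS hK
    have hF := Cfsg.Agent.S0071.frobCond_of_hasNormalPComplement hNC
    apply le_antisymm
    · -- `N(U) ≤ C(U) ⊔ N_S(U)`
      have hU2 : IsPGroup 2 ↥U := S.isPGroup'.to_le hUS
      -- Sylow of `N(U)` containing `N_S(U)`
      have hNS2 : IsPGroup 2 ↥(((S : Subgroup X) ⊓ Subgroup.normalizer (U : Set X)).subgroupOf
          (Subgroup.normalizer (U : Set X))) :=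
        (S.isPGroup'.to_le inf_le_left).comap_of_injective _ (Subgroup.subtype_injective _)
      obtain ⟨T, hT⟩ := IsPGroup.exists_le_sylow hNS2
      have hsup := Cfsg.Agent.helper10.pResidual_sup_sylow_eq_top 2 T
      have hK' : (Cfsg.pResidual 2 ↥(Subgroup.normalizer (U : Set X))).map
          (Subgroup.normalizer (U : Set X)).subtype ≤ Subgroup.centralizer (U : Set X) := by
        rw [Subgroup.map_le_iff_le_comap]
        unfold Cfsg.pResidual
        rw [Subgroup.closure_le]
        intro g hg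
        have hcop : Nat.Coprime (orderOf (g : X)) 2 := by rw [Subgroup.orderOf_coe]; exact hg
        exact hF U hU2 g.1 g.2 hcop
      have hT₀ : (T : Subgroup ↥(Subgroup.normalizer (U : Set X))).map
          (Subgroup.normalizer (U : Set X)).subtype ≤ Subgroup.centralizer (U : Set X) ⊔
          ((S : Subgroup X) ⊓ Subgroup.normalizer (U : Set X)) := by
        have hST : (S : Subgroup X) ⊓ Subgroup.normalizer (U : Set X) ≤
            (T : Subgroup ↥(Subgroup.normalizer (U : Set X))).map
              (Subgroup.normalizer (U : Set X)).subtype := by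
          have := Subgroup.map_mono (f := (Subgroup.normalizer (U : Set X)).subtype) hT
          rwa [Subgroup.map_subgroupOf_eq_of_le inf_le_right] at this
        apply core_fwd S hD hUS hK (T.isPGroup'.map _)
          ((le_inf hUS Subgroup.le_normalizer).trans hST) (Subgroup.map_subtype_le _) hST
      intro n hn
      have hn' : (⟨n, hn⟩ : ↥(Subgroup.normalizer (U : Set X))) ∈
          Cfsg.pResidual 2 ↥(Subgroup.normalizer (U : Set X)) ⊔
            (T : Subgroup ↥(Subgroup.normalizer (U : Set X))) := by rw [hsup]; trivial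
      have h1 := Subgroup.mem_map_of_mem (Subgroup.normalizer (U : Set X)).subtype hn'
      rw [Subgroup.map_sup] at h1
      exact (sup_le (hK'.trans le_sup_left) hT₀) h1
    · exact sup_le (Subgroup.centralizer_le_normalizer _) inf_le_right
  · -- backward
    intro hU
    have hfrob : ∀ Q : Subgroup X, Q ≤ (S : Subgroup X) →
        ∀ g ∈ Subgroup.normalizer (Q : Set X), Nat.Coprime (orderOf g) 2 →
        g ∈ Subgroup.centralizer (Q : Set X) := by
      intro Q hQS g hg hcop
      have hodd : Odd (orderOf g) := Nat.coprime_two_right.mp hcop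
      have hDQ := hD.mono hQS
      have hQ2 : IsPGroup 2 ↥Q := S.isPGroup'.to_le hQS
      haveI := hD.cyc
      have hcyc : IsCyclic ↥(Q ⊓ (Subgroup.zpowers (eS.symm (DihedralGroup.r 1))).map
          (S : Subgroup X).subtype) := Subgroup.isCyclic_of_le inf_le_right
      obtain ⟨y, hy⟩ := (Subgroup.isCyclic_iff_exists_zpowers_eq_top _).mp hcyc
      rw [Subgroup.mem_centralizer_iff]
      intro q hq
      symm
      revert q
      by_cases hy2 : y * y = 1
      · have hsq : ∀ z ∈ Q, z * z = 1 := by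
          intro z hz
          by_cases hzR : z ∈ (Subgroup.zpowers (eS.symm (DihedralGroup.r 1))).map
              (S : Subgroup X).subtype
          · have hz' : z ∈ Subgroup.zpowers y := by rw [hy]; exact ⟨hz, hzR⟩
            obtain ⟨k, rfl⟩ := Subgroup.mem_zpowers_iff.mp hz'
            rw [← (Commute.refl y).mul_zpow, hy2, one_zpow]
          · exact hDQ.sq z hz hzR
        have hcardQ : Nat.card ↥Q ≤ 4 := by
          have h1 := card_le_of_dihLike hDQ
          have h2 : Nat.card ↥(Q ⊓ (Subgroup.zpowers (eS.symm (DihedralGroup.r 1))).map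
              (S : Subgroup X).subtype) ≤ 2 := by
            rw [← hy, Nat.card_zpowers]
            apply Nat.le_of_dvd (by norm_num)
            apply orderOf_dvd_of_pow_eq_one
            rw [pow_two]; exact hy2
          omega
        by_contra hcon
        push Not at hcon
        obtain ⟨x, hx, hgx⟩ := hcon
        have hx' : g * x * g⁻¹ ∈ Q := (Subgroup.mem_normalizer_iff.mp hg x).mp hx
        have hx'x : x ≠ g * x * g⁻¹ := fun h => hgx (comm_of_conj_eq h.symm)
        have hx1 : x ≠ 1 := by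
          rintro rfl
          exact hgx (by simp)
        have hx'1 : g * x * g⁻¹ ≠ 1 := by
          intro h
          apply hx1
          calc x = g⁻¹ * (g * x * g⁻¹) * g := by group
            _ = 1 := by rw [h]; group
        have hcomm : x * (g * x * g⁻¹) = (g * x * g⁻¹) * x :=
          comm_of_sq (hsq x hx) (hsq _ hx') (hsq _ (Q.mul_mem hx hx'))
        have hKF := Cfsg.Agent.helper6.Klein.isKleinFour_four (hsq x hx) (hsq _ hx') hcomm
          hx1 hx'1 hx'x
        have hFQ : Cfsg.Agent.helper6.Klein.four x (g * x * g⁻¹) (hsq x hx) (hsq _ hx') hcomm ≤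
            Q := by
          intro w hw
          rcases hw with rfl | rfl | rfl | rfl
          · exact Q.one_mem
          · exact hx
          · exact hx'
          · exact Q.mul_mem hx hx'
        have hFeq : Cfsg.Agent.helper6.Klein.four x (g * x * g⁻¹) (hsq x hx) (hsq _ hx') hcomm =
            Q := by
          apply Subgroup.eq_of_le_of_card_ge hFQ
          rw [hKF.card_four]; exact hcardQ
        have hKQ : IsKleinFour ↥Q := hFeq ▸ hKF
        have hNQ := hU Q hQS hKQ
        have hgmem : g ∈ Subgroup.centralizer (Q : Set X) ⊔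
            ((S : Subgroup X) ⊓ Subgroup.normalizer (Q : Set X)) := by rw [← hNQ]; exact hg
        have := odd_mem_centralizer S.isPGroup' hgmem hodd
        exact hgx (Subgroup.mem_centralizer_iff.mp this x hx).symm
      · exact centralizes_of_dihLike hDQ hQ2 hg hodd y hy hy2
    have hF := Cfsg.Agent.S0071.frobCond_of_sylow S hfrob
    exact ⟨S, _, (Cfsg.Agent.S0071.complement_of_frobCond hF S).1,
      (Cfsg.Agent.S0071.complement_of_frobCond hF S).2⟩

end Cfsg.Agent.S1254
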