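import Mathlib
import Cfsg.Agent.Lib_helper6_DihSyl4
import Cfsg.Agent.Lib_helper6_Klein2
import Cfsg.Agent.S1254

set_option autoImplicit false
set_option linter.unusedSectionVars false

namespace Cfsg.Agent.helper6.DihSyl

open DihedralGroup Cfsg.Agent.helper6.Dih Cfsg.Agent.helper6.TwoPow
open Cfsg.Agent.helper10

variable {G : Type*} [Group G] [Finite G] {P : Sylow 2 G} {k : ℕ}
variable (e : ↥(P : Subgroup G) ≃* DihedralGroup (2 ^ k))

theorem zG_mul_self (hk1 : 1 ≤ k) : zG e * zG e = 1 := by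
  unfold zG
  rw [← toG_mul, zD_mul_self hk1, toG_one]

theorem sr_mul_self' (i : ZMod (2 ^ k)) : toG e (sr i) * toG e (sr i) = 1 := by
  rw [← toG_mul, sr_mul_self, toG_one]

/-- The standard Klein four-subgroup `{1, z, sr i, z * sr i}`. -/
def Ustd (hk1 : 1 ≤ k) (i : ZMod (2 ^ k)) : Subgroup G :=
  Klein.four (zG e) (toG e (sr i)) (zG_mul_self e hk1) (sr_mul_self' e i)
    (zG_comm e hk1 (toG_mem e _))

theorem mem_Ustd (hk1 : 1 ≤ k) (i : ZMod (2 ^ k)) (g : G) :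
    g ∈ Ustd e hk1 i ↔ g = 1 ∨ g = zG e ∨ g = toG e (sr i) ∨ g = zG e * toG e (sr i) := Iff.rfl

theorem zG_mem_Ustd (hk1 : 1 ≤ k) (i : ZMod (2 ^ k)) : zG e ∈ Ustd e hk1 i := Or.inr (Or.inl rfl)

theorem sr_mem_Ustd (hk1 : 1 ≤ k) (i : ZMod (2 ^ k)) : toG e (sr i) ∈ Ustd e hk1 i :=
  Or.inr (Or.inr (Or.inl rfl))

theorem isKleinFour_Ustd (hk1 : 1 ≤ k) (i : ZMod (2 ^ k)) : IsKleinFour (Ustd e hk1 i) :=
  Klein.isKleinFour_four _ _ _ (zG_ne_one e hk1) (sr_ne_one e i) (Ne.symm (sr_ne_zG e i))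

theorem isKleinFour_map_conj (V : Subgroup G) (hV : IsKleinFour V) (g : G) :
    IsKleinFour (V.map (MulAut.conj g).toMonoidHom) := by
  apply Klein.isKleinFour_of_card_sq
  · rw [Subgroup.card_map_of_injective (MulAut.conj g).injective]
    exact hV.card_four
  · rintro _ ⟨t, ht, rfl⟩
    have := Klein.sq_of_klein hV t ht
    simp only [MulEquiv.coe_toMonoidHom, MulAut.conj_apply]
    have h2 : g * t * g⁻¹ * (g * t * g⁻¹) = g * (t * t) * g⁻¹ := by group
    rw [h2, this]; group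

/-- A Klein four-subgroup containing `z` and `sr i` is the standard one. -/
theorem eq_Ustd_of_mem (hk1 : 1 ≤ k) (i : ZMod (2 ^ k)) (T : Subgroup G) (hT : IsKleinFour T)
    (hz : zG e ∈ T) (hs : toG e (sr i) ∈ T) : T = Ustd e hk1 i := by
  symm
  apply Klein.eq_of_le_klein (isKleinFour_Ustd e hk1 i) hT
  rintro x (rfl | rfl | rfl | rfl)
  · exact Subgroup.one_mem _
  · exact hz
  · exact hs
  · exact Subgroup.mul_mem _ hz hs

theorem Ustd_le (hk1 : 1 ≤ k) (i : ZMod (2 ^ k)) : Ustd e hk1 i ≤ (P : Subgroup G) := by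
  rintro x (rfl | rfl | rfl | rfl)
  · exact Subgroup.one_mem _
  · exact toG_mem e _
  · exact toG_mem e _
  · exact Subgroup.mul_mem _ (toG_mem e _) (toG_mem e _)

/-- A Klein four-group is a 2-group. -/
theorem isPGroup_of_klein (V : Subgroup G) (hV : IsKleinFour V) : IsPGroup 2 V :=
  IsPGroup.of_card (n := 2) (by rw [hV.card_four]; norm_num)

/-- Standard Klein four-subgroups with indices of the same parity are conjugate in `P`. -/
theorem Ustd_conj_zero (hk1 : 1 ≤ k) (i : ZMod (2 ^ k)) (hp : par k hk1 i = 0) :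
    ∃ p ∈ (P : Subgroup G), (Ustd e hk1 i).map (MulAut.conj p).toMonoidHom = Ustd e hk1 0 := by
  obtain ⟨c, hc, hci⟩ := (sr_isConj e hk1 i).1 hp
  refine ⟨c⁻¹, Subgroup.inv_mem _ hc, ?_⟩
  apply eq_Ustd_of_mem e hk1 0 _ (isKleinFour_map_conj _ (isKleinFour_Ustd e hk1 i) _)
  · rw [mem_map_conj_iff, inv_inv]
    have : c * zG e * c⁻¹ = zG e := by rw [← zG_comm e hk1 hc, mul_inv_cancel_right]
    rw [this]; exact zG_mem_Ustd e hk1 i
  · rw [mem_map_conj_iff, inv_inv, hci]; exact sr_mem_Ustd e hk1 i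

theorem Ustd_conj_one (hk1 : 1 ≤ k) (i : ZMod (2 ^ k)) (hp : par k hk1 i = 1) :
    ∃ p ∈ (P : Subgroup G), (Ustd e hk1 i).map (MulAut.conj p).toMonoidHom = Ustd e hk1 1 := by
  obtain ⟨c, hc, hci⟩ := (sr_isConj e hk1 i).2 hp
  refine ⟨c⁻¹, Subgroup.inv_mem _ hc, ?_⟩
  apply eq_Ustd_of_mem e hk1 1 _ (isKleinFour_map_conj _ (isKleinFour_Ustd e hk1 i) _)
  · rw [mem_map_conj_iff, inv_inv]
    have : c * zG e * c⁻¹ = zG e := by rw [← zG_comm e hk1 hc, mul_inv_cancel_right]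
    rw [this]; exact zG_mem_Ustd e hk1 i
  · rw [mem_map_conj_iff, inv_inv, hci]; exact sr_mem_Ustd e hk1 i

/-- Every Klein four-subgroup is conjugate to one of the two standard ones. -/
theorem klein_conj_std (hk : 2 ≤ k) (V : Subgroup G) (hV : IsKleinFour V) :
    (∃ x : G, V.map (MulAut.conj x).toMonoidHom = Ustd e (by omega) 0) ∨
    (∃ x : G, V.map (MulAut.conj x).toMonoidHom = Ustd e (by omega) 1) := by
  have hk1 : 1 ≤ k := by omega
  have : Fact (Nat.Prime 2) := ⟨Nat.prime_two⟩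
  obtain ⟨h, hh⟩ := pgroup_conj_into_sylow P V (isPGroup_of_klein V hV)
  have hV' := isKleinFour_map_conj V hV h
  obtain ⟨hz, i, hi, -⟩ := klein_structure e hk _ hh hV'
  have hVi := eq_Ustd_of_mem e hk1 i _ hV' hz hi
  rcases zmod2_cases (par k hk1 i) with hp | hp
  · left
    obtain ⟨p, -, hp'⟩ := Ustd_conj_zero e hk1 i hp
    exact ⟨p * h, by rw [map_conj_mul, hVi, hp']⟩
  · right
    obtain ⟨p, -, hp'⟩ := Ustd_conj_one e hk1 i hp
    exact ⟨p * h, by rw [map_conj_mul, hVi, hp']⟩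

/-- The non-central involutions of a standard Klein four-subgroup are conjugate under `C_P(z)`. -/
theorem Ustd_elem_conj (hk : 2 ≤ k) (i : ZMod (2 ^ k)) (t : G) (ht : t ∈ Ustd e (by omega) i)
    (ht1 : t ≠ 1) (htz : t ≠ zG e) :
    ∃ p ∈ (P : Subgroup G), p * toG e (sr i) * p⁻¹ = t ∧ p * zG e * p⁻¹ = zG e := by
  have hk1 : 1 ≤ k := by omega
  rcases ht with rfl | rfl | rfl | rfl
  · exact absurd rfl ht1
  · exact absurd rfl htz
  · exact ⟨1, Subgroup.one_mem _, by group, by group⟩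
  · obtain ⟨g, hg1, hg2⟩ := exists_swap hk i
    refine ⟨toG e g, toG_mem e g, ?_, ?_⟩
    · rw [← toG_conj, hg1, toG_mul]
      exact (zG_comm e hk1 (toG_mem e _)).symm
    · unfold zG
      rw [← toG_conj, hg2]

/-- Without fusion to the centre the two standard reflections are not conjugate. -/
theorem not_conj_of_no_fusion (hk : 2 ≤ k) (hA : ¬ IsConj (toG e (sr 0)) (zG e))
    (hB : ¬ IsConj (toG e (sr 1)) (zG e)) : ¬ IsConj (toG e (sr 0)) (toG e (sr 1)) := by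
  have hk1 : 1 ≤ k := by omega
  have hnpc : Cfsg.HasNormalPComplement 2 G := by
    apply (Cfsg.Agent.S1254.result P (2 ^ k) (by
      calc 2 = 2 ^ 1 := by norm_num
        _ ≤ 2 ^ k := Nat.pow_le_pow_right (by norm_num) hk1) e).mpr
    intro U hUP hU
    exact normalizer_klein e hk hA hB U hUP hU
  exact not_conj_of_npc e hk1 hnpc

/-- All non-identity elements of `Ustd i` are conjugate to `z` when `sr i` is. -/
theorem Ustd_all_conj (hk : 2 ≤ k) (i : ZMod (2 ^ k)) (hc : IsConj (toG e (sr i)) (zG e))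
    (t : G) (ht : t ∈ Ustd e (by omega) i) (ht1 : t ≠ 1) : IsConj t (zG e) := by
  by_cases htz : t = zG e
  · rw [htz]
  · obtain ⟨p, -, hp, -⟩ := Ustd_elem_conj e hk i t ht ht1 htz
    exact (isConj_iff.mpr ⟨p, hp⟩).symm.trans hc

omit [Finite G] in
theorem conj_ne_one {g t : G} (ht : t ≠ 1) : g * t * g⁻¹ ≠ 1 := by
  intro h
  apply ht
  have : t = g⁻¹ * (g * t * g⁻¹) * g := by group
  rw [this, h]; group

/-- The easy cases of non-conjugacy of the two standard Klein four-subgroups. -/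
theorem Ustd_not_conj_easy (hk : 2 ≤ k)
    (hAB : ¬ (IsConj (toG e (sr 0)) (zG e) ∧ IsConj (toG e (sr 1)) (zG e))) (x : G) :
    (Ustd e (by omega) 0).map (MulAut.conj x).toMonoidHom ≠ Ustd e (by omega) 1 := by
  have hk1 : 1 ≤ k := by omega
  intro hx
  -- `x a x⁻¹ ∈ U₁`
  have h1 : x * toG e (sr 0) * x⁻¹ ∈ Ustd e hk1 1 := by
    rw [← hx]; exact conj_mem_map_conj _ x _ (sr_mem_Ustd e hk1 0)
  have h1' : x * toG e (sr 0) * x⁻¹ ≠ 1 := conj_ne_one (sr_ne_one e 0)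
  -- `x⁻¹ b x ∈ U₀`
  have h2 : x⁻¹ * toG e (sr 1) * x ∈ Ustd e hk1 0 := by
    rw [← mem_map_conj_iff, hx]; exact sr_mem_Ustd e hk1 1
  have h2' : x⁻¹ * toG e (sr 1) * x ≠ 1 := by
    have := conj_ne_one (g := x⁻¹) (sr_ne_one e 1)
    rwa [inv_inv] at this
  by_cases hA : IsConj (toG e (sr 0)) (zG e)
  · have hB : ¬ IsConj (toG e (sr 1)) (zG e) := fun h => hAB ⟨hA, h⟩
    apply hB
    have h3 := Ustd_all_conj e hk 0 hA _ h2 h2'
    refine IsConj.trans ?_ h3
    exact isConj_iff.mpr ⟨x⁻¹, by rw [inv_inv]⟩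
  · by_cases hB : IsConj (toG e (sr 1)) (zG e)
    · apply hA
      have h3 := Ustd_all_conj e hk 1 hB _ h1 h1'
      exact (isConj_iff.mpr ⟨x, rfl⟩).trans h3
    · by_cases hz : x * toG e (sr 0) * x⁻¹ = zG e
      · exact hA (isConj_iff.mpr ⟨x, hz⟩)
      · obtain ⟨p, -, hp, -⟩ := Ustd_elem_conj e hk 1 _ h1 h1' hz
        apply not_conj_of_no_fusion e hk hA hB
        have h3 : IsConj (toG e (sr 0)) (x * toG e (sr 0) * x⁻¹) := isConj_iff.mpr ⟨x, rfl⟩
        have h4 : IsConj (toG e (sr 1)) (x * toG e (sr 0) * x⁻¹) := isConj_iff.mpr ⟨p, hp⟩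
        exact h3.trans h4.symm

/-- If `sr i` is fused to `z`, some conjugating element moves `Ustd i` back into `P`. -/
theorem exists_conj_into (hk1 : 1 ≤ k) (i : ZMod (2 ^ k)) (hc : IsConj (toG e (sr i)) (zG e)) :
    ∃ h : G, h * zG e * h⁻¹ = toG e (sr i) ∧
      (Ustd e hk1 i).map (MulAut.conj h⁻¹).toMonoidHom ≤ (P : Subgroup G) := by
  have : Fact (Nat.Prime 2) := ⟨Nat.prime_two⟩
  obtain ⟨c, hc'⟩ := isConj_iff.mp hc
  have hPC : (P : Subgroup G) ≤ Subgroup.centralizer ({zG e} : Set G) := by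
    intro x hx
    rw [Subgroup.mem_centralizer_singleton_iff]
    exact (zG_comm e hk1 hx).symm
  have hR2 : IsPGroup 2 ((Ustd e hk1 i).map (MulAut.conj c).toMonoidHom) :=
    isPGroup_of_klein _ (isKleinFour_map_conj _ (isKleinFour_Ustd e hk1 i) c)
  have hRC : (Ustd e hk1 i).map (MulAut.conj c).toMonoidHom
      ≤ Subgroup.centralizer ({zG e} : Set G) := by
    rintro _ ⟨t, ht, rfl⟩
    rw [Subgroup.mem_centralizer_singleton_iff]
    simp only [MulEquiv.coe_toMonoidHom, MulAut.conj_apply]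
    have h1 := Klein.comm_of_klein (isKleinFour_Ustd e hk1 i) t ht _ (sr_mem_Ustd e hk1 i)
    rw [← hc']
    have h2 : c * t * c⁻¹ * (c * toG e (sr i) * c⁻¹) = c * (t * toG e (sr i)) * c⁻¹ := by group
    rw [h2, h1]; group
  obtain ⟨d, hd, hdP⟩ := pgroup_conj_into_sylow_in_subgroup P _ hPC _ hR2 hRC
  rw [Subgroup.mem_centralizer_singleton_iff] at hd
  refine ⟨(d * c)⁻¹, ?_, ?_⟩
  · rw [inv_inv]
    have h3 : (d * c)⁻¹ * zG e * (d * c) = c⁻¹ * (d⁻¹ * (zG e * d)) * c := by group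
    rw [h3, ← hd, inv_mul_cancel_left, ← hc']
    group
  · rw [inv_inv, map_conj_mul]
    exact hdP

/-- An element swapping `z` and `z * sr i` and fixing `sr i`, when `sr i` is fused to `z`. -/
theorem exists_swap_z (hk : 2 ≤ k) (i : ZMod (2 ^ k)) (hc : IsConj (toG e (sr i)) (zG e)) :
    ∃ x₀ : G, x₀ * zG e * x₀⁻¹ = zG e * toG e (sr i) ∧
      x₀ * toG e (sr i) * x₀⁻¹ = toG e (sr i) := by
  have hk1 : 1 ≤ k := by omega
  obtain ⟨h, hh, hP⟩ := exists_conj_into e hk1 i hc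
  have hs : h⁻¹ * zG e * h ∈ (P : Subgroup G) := by
    apply hP
    have := conj_mem_map_conj (Ustd e hk1 i) h⁻¹ _ (zG_mem_Ustd e hk1 i)
    rwa [inv_inv] at this
  have hs2 : orderOf (h⁻¹ * zG e * h) = 2 := by
    have := orderOf_conj' h⁻¹ (zG e)
    rw [inv_inv] at this
    rw [this, orderOf_zG e hk1]
  have hz' : h⁻¹ * toG e (sr i) * h = zG e := by rw [← hh]; group
  have hsz : h⁻¹ * zG e * h ≠ zG e := by
    intro h1
    have h2 : h⁻¹ * zG e * h = h⁻¹ * toG e (sr i) * h := h1.trans hz'.symm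
    exact sr_ne_zG e i (mul_left_cancel (mul_right_cancel h2)).symm
  rcases invol_cases_G e hk1 hs hs2 with h1 | ⟨j, hj⟩
  · exact absurd h1 hsz
  · obtain ⟨w, hw1, hw2⟩ := exists_swap hk j
    have hw1' : toG e w * toG e (sr j) * (toG e w)⁻¹ = toG e (sr j) * zG e := by
      rw [← toG_conj, hw1, toG_mul]; rfl
    have hw2' : toG e w * zG e * (toG e w)⁻¹ = zG e := by
      unfold zG; rw [← toG_conj, hw2]
    refine ⟨h * toG e w * h⁻¹, ?_, ?_⟩
    · have h3 : h * toG e w * h⁻¹ * zG e * (h * toG e w * h⁻¹)⁻¹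
          = h * (toG e w * (h⁻¹ * zG e * h) * (toG e w)⁻¹) * h⁻¹ := by group
      rw [h3, hj, hw1', ← hj, ← hh]
      group
    · have h3 : h * toG e w * h⁻¹ * toG e (sr i) * (h * toG e w * h⁻¹)⁻¹
          = h * (toG e w * (h⁻¹ * toG e (sr i) * h) * (toG e w)⁻¹) * h⁻¹ := by group
      rw [h3, hz', hw2', hh]

/-- When `sr i` is fused to `z`, the normalizer of `Ustd i` moves every involution to `z`. -/
theorem normalizer_trans (hk : 2 ≤ k) (i : ZMod (2 ^ k)) (hc : IsConj (toG e (sr i)) (zG e))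
    (t : G) (ht : t ∈ Ustd e (by omega) i) (ht1 : t ≠ 1) :
    ∃ n : G, (Ustd e (by omega) i).map (MulAut.conj n).toMonoidHom = Ustd e (by omega) i ∧
      n * t * n⁻¹ = zG e := by
  have hk1 : 1 ≤ k := by omega
  have hK := isKleinFour_Ustd e hk1 i
  have hzz := zG_mul_self e hk1
  have hii := sr_mul_self' e i
  have hcomm : zG e * toG e (sr i) = toG e (sr i) * zG e := zG_comm e hk1 (toG_mem e _)
  obtain ⟨x₀, hx1, hx2⟩ := exists_swap_z e hk i hc
  have hx3 : x₀ * (zG e * toG e (sr i)) * x₀⁻¹ = zG e := by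
    have : x₀ * (zG e * toG e (sr i)) * x₀⁻¹
        = (x₀ * zG e * x₀⁻¹) * (x₀ * toG e (sr i) * x₀⁻¹) := by group
    rw [this, hx1, hx2, mul_assoc, hii, mul_one]
  have hx₀ : (Ustd e hk1 i).map (MulAut.conj x₀).toMonoidHom = Ustd e hk1 i := by
    apply eq_Ustd_of_mem e hk1 i _ (isKleinFour_map_conj _ hK _)
    · rw [← hx3]
      exact conj_mem_map_conj _ x₀ _
        (Subgroup.mul_mem _ (zG_mem_Ustd e hk1 i) (sr_mem_Ustd e hk1 i))
    · rw [← hx2]
      exact conj_mem_map_conj _ x₀ _ (sr_mem_Ustd e hk1 i)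
  rcases ht with rfl | rfl | rfl | rfl
  · exact absurd rfl ht1
  · exact ⟨1, map_conj_one _, by group⟩
  · -- `t = sr i`
    obtain ⟨w, hw1, hw2⟩ := exists_swap hk i
    have hw1' : toG e w * toG e (sr i) * (toG e w)⁻¹ = zG e * toG e (sr i) := by
      rw [← toG_conj, hw1, toG_mul]; exact hcomm.symm
    have hw2' : toG e w * zG e * (toG e w)⁻¹ = zG e := by
      unfold zG; rw [← toG_conj, hw2]
    have hw3 : toG e w * (zG e * toG e (sr i)) * (toG e w)⁻¹ = toG e (sr i) := by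
      have : toG e w * (zG e * toG e (sr i)) * (toG e w)⁻¹
          = (toG e w * zG e * (toG e w)⁻¹) * (toG e w * toG e (sr i) * (toG e w)⁻¹) := by group
      rw [this, hw1', hw2', ← mul_assoc, hzz, one_mul]
    have hw : (Ustd e hk1 i).map (MulAut.conj (toG e w)).toMonoidHom = Ustd e hk1 i := by
      apply eq_Ustd_of_mem e hk1 i _ (isKleinFour_map_conj _ hK _)
      · rw [← hw2']
        exact conj_mem_map_conj _ _ _ (zG_mem_Ustd e hk1 i)
      · rw [← hw3]
        exact conj_mem_map_conj _ _ _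
          (Subgroup.mul_mem _ (zG_mem_Ustd e hk1 i) (sr_mem_Ustd e hk1 i))
    refine ⟨x₀ * toG e w, by rw [map_conj_mul, hw, hx₀], ?_⟩
    have : x₀ * toG e w * toG e (sr i) * (x₀ * toG e w)⁻¹
        = x₀ * (toG e w * toG e (sr i) * (toG e w)⁻¹) * x₀⁻¹ := by group
    rw [this, hw1', hx3]
  · exact ⟨x₀, hx₀, hx3⟩

/-- In the centralizer of `z` the two standard reflections are not conjugate. -/
theorem not_conj_in_centralizer (hk : 2 ≤ k) (g : G) (hgz : g * zG e * g⁻¹ = zG e)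
    (hg : g * toG e (sr 0) * g⁻¹ = toG e (sr 1)) : False := by
  have hk1 : 1 ≤ k := by omega
  have : Fact (Nat.Prime 2) := ⟨Nat.prime_two⟩
  have hPC : (P : Subgroup G) ≤ Subgroup.centralizer ({zG e} : Set G) := by
    intro x hx
    rw [Subgroup.mem_centralizer_singleton_iff]
    exact (zG_comm e hk1 hx).symm
  obtain ⟨eC, heC⟩ : ∃ eC : ↥((P.subtype hPC : Sylow 2 ↥(Subgroup.centralizer ({zG e} : Set G))) :
      Subgroup ↥(Subgroup.centralizer ({zG e} : Set G))) ≃* DihedralGroup (2 ^ k),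
      eC = (Subgroup.subgroupOfEquivOfLe hPC).trans e := ⟨_, rfl⟩
  have hcoe : ∀ d, ((toG eC d : ↥(Subgroup.centralizer ({zG e} : Set G))) : G) = toG e d := by
    intro d
    rw [heC]
    rfl
  have hzcoe : ((zG eC : ↥(Subgroup.centralizer ({zG e} : Set G))) : G) = zG e := hcoe _
  have hcent : ∀ c : ↥(Subgroup.centralizer ({zG e} : Set G)), (c : G) * zG e * (c : G)⁻¹ = zG e := by
    intro c
    have := Subgroup.mem_centralizer_singleton_iff.mp c.2
    rw [this, mul_inv_cancel_right]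
  have hnc : ∀ i, ¬ IsConj (toG eC (sr i)) (zG eC) := by
    intro i hi
    obtain ⟨c, hc⟩ := isConj_iff.mp hi
    have h1 := congrArg (fun y : ↥(Subgroup.centralizer ({zG e} : Set G)) => (y : G)) hc
    simp only [Subgroup.coe_mul, Subgroup.coe_inv] at h1
    rw [hcoe, hzcoe] at h1
    have h2 : (c : G) * toG e (sr i) * (c : G)⁻¹ = (c : G) * zG e * (c : G)⁻¹ := by
      rw [h1, hcent]
    exact sr_ne_zG e i (mul_left_cancel (mul_right_cancel h2))
  apply not_conj_of_no_fusion eC hk (hnc 0) (hnc 1)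
  have hgC : g ∈ Subgroup.centralizer ({zG e} : Set G) := by
    rw [Subgroup.mem_centralizer_singleton_iff]
    have : g * zG e = g * zG e * g⁻¹ * g := by group
    rw [this, hgz]
  refine isConj_iff.mpr ⟨⟨g, hgC⟩, ?_⟩
  apply Subtype.ext
  simp only [Subgroup.coe_mul, Subgroup.coe_inv]
  rw [hcoe, hcoe]
  exact hg

/-- The hard case of non-conjugacy of the two standard Klein four-subgroups. -/
theorem Ustd_not_conj_hard (hk : 2 ≤ k)
    (hB : IsConj (toG e (sr 1)) (zG e)) (x : G) :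
    (Ustd e (by omega) 0).map (MulAut.conj x).toMonoidHom ≠ Ustd e (by omega) 1 := by
  have hk1 : 1 ≤ k := by omega
  intro hx
  have h1 : x * zG e * x⁻¹ ∈ Ustd e hk1 1 := by
    rw [← hx]; exact conj_mem_map_conj _ x _ (zG_mem_Ustd e hk1 0)
  obtain ⟨n, hn, hnz⟩ := normalizer_trans e hk 1 hB _ h1 (conj_ne_one (zG_ne_one e hk1))
  -- `x' = n * x`
  have hx' : (Ustd e hk1 0).map (MulAut.conj (n * x)).toMonoidHom = Ustd e hk1 1 := by
    rw [map_conj_mul, hx, hn]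
  have hx'z : (n * x) * zG e * (n * x)⁻¹ = zG e := by
    have : (n * x) * zG e * (n * x)⁻¹ = n * (x * zG e * x⁻¹) * n⁻¹ := by group
    rw [this, hnz]
  have h2 : (n * x) * toG e (sr 0) * (n * x)⁻¹ ∈ Ustd e hk1 1 := by
    rw [← hx']; exact conj_mem_map_conj _ _ _ (sr_mem_Ustd e hk1 0)
  have h2' : (n * x) * toG e (sr 0) * (n * x)⁻¹ ≠ zG e := by
    intro h
    rw [← hx'z] at h
    exact sr_ne_zG e 0 (mul_left_cancel (mul_right_cancel h))
  obtain ⟨p, -, hp1, hp2⟩ := Ustd_elem_conj e hk 1 _ h2 (conj_ne_one (sr_ne_one e 0)) h2'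
  apply not_conj_in_centralizer e hk (p⁻¹ * (n * x))
  · have : p⁻¹ * (n * x) * zG e * (p⁻¹ * (n * x))⁻¹
        = p⁻¹ * ((n * x) * zG e * (n * x)⁻¹) * p := by group
    rw [this, hx'z]
    have h5 : p⁻¹ * zG e * p = p⁻¹ * (p * zG e * p⁻¹) * p := by rw [hp2]
    rw [h5]; group
  · have : p⁻¹ * (n * x) * toG e (sr 0) * (p⁻¹ * (n * x))⁻¹
        = p⁻¹ * ((n * x) * toG e (sr 0) * (n * x)⁻¹) * p := by group
    rw [this, ← hp1]; group

/-- The two standard Klein four-subgroups are not conjugate. -/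
theorem Ustd_not_conj (hk : 2 ≤ k) (x : G) :
    (Ustd e (by omega) 0).map (MulAut.conj x).toMonoidHom ≠ Ustd e (by omega) 1 := by
  by_cases hAB : IsConj (toG e (sr 0)) (zG e) ∧ IsConj (toG e (sr 1)) (zG e)
  · exact Ustd_not_conj_hard e hk hAB.2 x
  · exact Ustd_not_conj_easy e hk hAB x

end Cfsg.Agent.helper6.DihSyl
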