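import Mathlib
import Cfsg.Agent.Lib_helper6_CycDih
import Cfsg.Agent.Lib_helper6_DihSyl5

set_option autoImplicit false
set_option linter.unusedSectionVars false

namespace Cfsg.Agent.helper6.CycDih

open Cfsg.Agent.helper10

variable {G : Type*} [Group G] [Finite G]

/-- Elementwise form of the self-centralizing property of Klein four-subgroups. -/
theorem selfcent_elements (P : Sylow 2 G)
    (hsc : ∀ K : Subgroup G, K ≤ P → Nat.card K = 4 → (∀ k ∈ K, k ^ 2 = 1) →
      Subgroup.centralizer (K : Set G) = K)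
    (a b : G) (ha : a * a = 1) (hb : b * b = 1) (hab : a * b = b * a) (ha1 : a ≠ 1) (hb1 : b ≠ 1)
    (hne : a ≠ b) (x : G) (hxa : x * a = a * x) (hxb : x * b = b * x) : x * x = 1 := by
  have : Fact (Nat.Prime 2) := ⟨Nat.prime_two⟩
  have hK := Klein.isKleinFour_four ha hb hab ha1 hb1 hne
  obtain ⟨g, hg⟩ := pgroup_conj_into_sylow P _ (DihSyl.isPGroup_of_klein _ hK)
  have hK' := DihSyl.isKleinFour_map_conj _ hK g
  have hsc' := hsc _ hg hK'.card_four (by
    intro k hk
    rw [pow_two]
    exact Klein.sq_of_klein hK' k hk)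
  have hx : g * x * g⁻¹ ∈ Subgroup.centralizer
      (((Klein.four a b ha hb hab).map (MulAut.conj g).toMonoidHom : Subgroup G) : Set G) := by
    rw [Subgroup.mem_centralizer_iff]
    rintro _ ⟨k, hk, rfl⟩
    simp only [MulEquiv.coe_toMonoidHom, MulAut.conj_apply]
    have hxk : x * k = k * x := by
      rcases hk with rfl | rfl | rfl | rfl
      · rw [mul_one, one_mul]
      · exact hxa
      · exact hxb
      · rw [← mul_assoc, hxa, mul_assoc, hxb, mul_assoc]
    have h1 : g * k * g⁻¹ * (g * x * g⁻¹) = g * (k * x) * g⁻¹ := by group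
    have h2 : g * x * g⁻¹ * (g * k * g⁻¹) = g * (x * k) * g⁻¹ := by group
    rw [h1, h2, hxk]
  rw [hsc'] at hx
  have h3 := Klein.sq_of_klein hK' _ hx
  have h4 : g * x * g⁻¹ * (g * x * g⁻¹) = g * (x * x) * g⁻¹ := by group
  rw [h4] at h3
  have h5 : x * x = g⁻¹ * (g * (x * x) * g⁻¹) * g := by group
  rw [h5, h3]; group

/-- The subgroup `K ⟨x⟩` for `x` centralizing `K`. -/
def hull (K : Subgroup G) (x : G) (hx : ∀ k ∈ K, x * k = k * x) : Subgroup G where
  carrier := {h | ∃ k ∈ K, ∃ i : ℤ, h = k * x ^ i}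
  one_mem' := ⟨1, K.one_mem, 0, by simp⟩
  mul_mem' := by
    rintro _ _ ⟨k, hk, i, rfl⟩ ⟨k', hk', j, rfl⟩
    refine ⟨k * k', K.mul_mem hk hk', i + j, ?_⟩
    have h1 : x ^ i * k' = k' * x ^ i := (Commute.zpow_left (hx k' hk') i).eq
    rw [zpow_add]
    calc k * x ^ i * (k' * x ^ j) = k * (x ^ i * k') * x ^ j := by group
      _ = k * (k' * x ^ i) * x ^ j := by rw [h1]
      _ = k * k' * (x ^ i * x ^ j) := by group
  inv_mem' := by
    rintro _ ⟨k, hk, i, rfl⟩
    refine ⟨k⁻¹, K.inv_mem hk, -i, ?_⟩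
    have h1 : x ^ (-i) * k⁻¹ = k⁻¹ * x ^ (-i) :=
      (Commute.zpow_left (hx k⁻¹ (K.inv_mem hk)) (-i)).eq
    rw [mul_inv_rev, ← zpow_neg, h1]

omit [Finite G] in
theorem mem_hull (K : Subgroup G) (x : G) (hx : ∀ k ∈ K, x * k = k * x) (h : G) :
    h ∈ hull K x hx ↔ ∃ k ∈ K, ∃ i : ℤ, h = k * x ^ i := Iff.rfl

omit [Finite G] in
theorem le_hull (K : Subgroup G) (x : G) (hx : ∀ k ∈ K, x * k = k * x) : K ≤ hull K x hx :=
  fun k hk => ⟨k, hk, 0, by simp⟩

omit [Finite G] in
theorem self_mem_hull (K : Subgroup G) (x : G) (hx : ∀ k ∈ K, x * k = k * x) : x ∈ hull K x hx :=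
  ⟨1, K.one_mem, 1, by simp⟩

omit [Finite G] in
theorem hull_comm (K : Subgroup G) (hK : ∀ a ∈ K, ∀ b ∈ K, a * b = b * a) (x : G)
    (hx : ∀ k ∈ K, x * k = k * x) :
    ∀ u ∈ hull K x hx, ∀ v ∈ hull K x hx, u * v = v * u := by
  rintro _ ⟨k, hk, i, rfl⟩ _ ⟨k', hk', j, rfl⟩
  have h1 : x ^ i * k' = k' * x ^ i := (Commute.zpow_left (hx k' hk') i).eq
  have h2 : x ^ j * k = k * x ^ j := (Commute.zpow_left (hx k hk) j).eq
  have h3 : x ^ i * x ^ j = x ^ j * x ^ i := (zpow_mul_comm x i j)
  calc k * x ^ i * (k' * x ^ j) = k * (x ^ i * k') * x ^ j := by group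
    _ = k * (k' * x ^ i) * x ^ j := by rw [h1]
    _ = (k * k') * (x ^ i * x ^ j) := by group
    _ = (k' * k) * (x ^ j * x ^ i) := by rw [hK k hk k' hk', h3]
    _ = k' * (k * x ^ j) * x ^ i := by group
    _ = k' * (x ^ j * k) * x ^ i := by rw [h2]
    _ = k' * x ^ j * (k * x ^ i) := by group

theorem a4_not_comm : ∃ u v : alternatingGroup (Fin 4), u * v ≠ v * u := by decide

open DihedralGroup in
theorem dihedral_not_comm (n : ℕ) (hn : 2 ≤ n) :
    ∃ u v : DihedralGroup (2 ^ n), u * v ≠ v * u := by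
  refine ⟨r 1, sr 0, ?_⟩
  rw [r_mul_sr, sr_mul_r]
  intro h
  have h1 : (0 : ZMod (2 ^ n)) - 1 = 0 + 1 := sr.inj h
  have h2 : ((2 : ℕ) : ZMod (2 ^ n)) = 0 := by
    push_cast
    linear_combination (-1 : ZMod (2 ^ n)) * h1
  rw [ZMod.natCast_eq_zero_iff] at h2
  have h3 : 2 ^ 2 ≤ 2 ^ n := Nat.pow_le_pow_right (by norm_num) hn
  have h4 := Nat.le_of_dvd (by norm_num) h2
  omega

/-- The "only if" direction: the hypothesis on subgroups forces Klein four-subgroups to be
self-centralizing. -/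
theorem centralizer_eq_of_hyp
    (hyp : ∀ H : Subgroup G, (∀ S : Sylow 2 ↥H, (S : Subgroup ↥H).Normal) →
        (∀ (S : Sylow 2 ↥H) [(S : Subgroup ↥H).Normal], IsCyclic (↥H ⧸ (S : Subgroup ↥H))) →
        IsCyclic H ∨ (∃ n : ℕ, Nonempty (H ≃* DihedralGroup (2 ^ n))) ∨
          Nonempty (H ≃* alternatingGroup (Fin 4)))
    (K : Subgroup G) (hK4 : Nat.card K = 4) (hK2 : ∀ k ∈ K, k ^ 2 = 1) :
    Subgroup.centralizer (K : Set G) = K := by
  have : Fact (Nat.Prime 2) := ⟨Nat.prime_two⟩
  have hKl : IsKleinFour K := Klein.isKleinFour_of_card_sq K hK4 (by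
    intro k hk; rw [← pow_two]; exact hK2 k hk)
  have hKc := Klein.comm_of_klein hKl
  apply le_antisymm
  · intro x hx
    rw [Subgroup.mem_centralizer_iff] at hx
    have hx' : ∀ k ∈ K, x * k = k * x := fun k hk => (hx k hk).symm
    have hcomm := hull_comm K hKc x hx'
    have hmc : IsMulCommutative ↥(hull K x hx') :=
      ⟨⟨fun a b => Subtype.ext (hcomm a a.2 b b.2)⟩⟩
    have hnorm : ∀ S : Sylow 2 ↥(hull K x hx'), (S : Subgroup ↥(hull K x hx')).Normal :=
      fun S => Subgroup.normal_of_isMulCommutative _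
    have hcyc : ∀ (S : Sylow 2 ↥(hull K x hx')) [(S : Subgroup ↥(hull K x hx')).Normal],
        IsCyclic (↥(hull K x hx') ⧸ (S : Subgroup ↥(hull K x hx'))) := by
      intro S hS
      -- `K ≤ S`
      have hKS : K.subgroupOf (hull K x hx') ≤ (S : Subgroup ↥(hull K x hx')) := by
        have hp : IsPGroup 2 (K.subgroupOf (hull K x hx')) :=
          (DihSyl.isPGroup_of_klein K hKl).comap_subtype
        obtain ⟨Q, hQ⟩ := hp.exists_le_sylow
        obtain ⟨g, hg⟩ := MulAction.exists_smul_eq ↥(hull K x hx') S Q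
        rw [Sylow.smul_eq_of_normal] at hg
        rw [hg]; exact hQ
      apply isCyclic_of_surjective
        ((QuotientGroup.mk' (S : Subgroup ↥(hull K x hx'))).comp
          (Subgroup.zpowers (⟨x, self_mem_hull K x hx'⟩ : ↥(hull K x hx'))).subtype)
      intro q
      obtain ⟨⟨h, k, hk, i, rfl⟩, rfl⟩ := QuotientGroup.mk_surjective q
      refine ⟨⟨(⟨x, self_mem_hull K x hx'⟩ : ↥(hull K x hx')) ^ i,
        Subgroup.zpow_mem_zpowers _ i⟩, ?_⟩
      simp only [MonoidHom.coe_comp, Function.comp_apply, Subgroup.coe_subtype,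
        QuotientGroup.mk'_apply]
      rw [QuotientGroup.eq]
      apply hKS
      rw [Subgroup.mem_subgroupOf]
      simp only [Subgroup.coe_mul, Subgroup.coe_inv, Subgroup.coe_zpow]
      have : (x ^ i)⁻¹ * (k * x ^ i) = k := by
        have h1 : x ^ i * k = k * x ^ i := (Commute.zpow_left (hx' k hk) i).eq
        rw [← h1]; group
      rw [this]; exact hk
    rcases hyp (hull K x hx') hnorm hcyc with h | ⟨n, ⟨e⟩⟩ | ⟨⟨e⟩⟩
    · exfalso
      have h1 : IsCyclic K := by
        have h2 : IsCyclic (K.subgroupOf (hull K x hx')) := inferInstance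
        exact isCyclic_of_surjective (Subgroup.subgroupOfEquivOfLe (le_hull K x hx'))
          (Subgroup.subgroupOfEquivOfLe (le_hull K x hx')).surjective
      exact IsKleinFour.not_isCyclic h1
    · by_cases hn : 2 ≤ n
      · exfalso
        obtain ⟨u, v, huv⟩ := dihedral_not_comm n hn
        apply huv
        have := hmc.is_comm.comm (e.symm u) (e.symm v)
        rw [← map_mul, ← map_mul] at this
        exact e.symm.injective this
      · have hcard : Nat.card ↥(hull K x hx') ≤ 4 := by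
          rw [Nat.card_congr e.toEquiv, DihedralGroup.nat_card]
          have : n = 0 ∨ n = 1 := by omega
          rcases this with rfl | rfl <;> norm_num
        have heq : K = hull K x hx' :=
          Subgroup.eq_of_le_of_card_ge (le_hull K x hx') (by rw [hK4]; exact hcard)
        rw [heq]; exact self_mem_hull K x hx'
    · exfalso
      obtain ⟨u, v, huv⟩ := a4_not_comm
      apply huv
      have := hmc.is_comm.comm (e.symm u) (e.symm v)
      rw [← map_mul, ← map_mul] at this
      exact e.symm.injective this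
  · intro k hk
    rw [Subgroup.mem_centralizer_iff]
    intro y hy
    exact hKc y hy k hk

theorem dihedral_two_sq : ∀ d : DihedralGroup (2 ^ 1), d * d = 1 := by decide

open DihedralGroup Cfsg.Agent.helper6.Dih in
/-- The "if" direction: the structure of subgroups with normal Sylow 2-subgroup and cyclic
quotient. -/
theorem structure_of_hyp (P : Sylow 2 G)
    (hP : IsCyclic P ∨ ((∃ n : ℕ, 1 ≤ n ∧ Nonempty ((P : Subgroup G) ≃* DihedralGroup (2 ^ n))) ∧
      ∀ K : Subgroup G, K ≤ P → Nat.card K = 4 → (∀ k ∈ K, k ^ 2 = 1) →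
        Subgroup.centralizer (K : Set G) = K))
    (H : Subgroup G) (hnorm : ∀ S : Sylow 2 ↥H, (S : Subgroup ↥H).Normal)
    (hcyc : ∀ (S : Sylow 2 ↥H) [(S : Subgroup ↥H).Normal],
      IsCyclic (↥H ⧸ (S : Subgroup ↥H))) :
    IsCyclic H ∨ (∃ n : ℕ, Nonempty (H ≃* DihedralGroup (2 ^ n))) ∨
      Nonempty (H ≃* alternatingGroup (Fin 4)) := by
  have : Fact (Nat.Prime 2) := ⟨Nat.prime_two⟩
  obtain ⟨S⟩ : Nonempty (Sylow 2 ↥H) := inferInstance
  have hn := hnorm S
  have hq := hcyc S
  have hS' : IsPGroup 2 ((S : Subgroup ↥H).map H.subtype) := S.isPGroup'.map _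
  obtain ⟨g, hg⟩ := pgroup_conj_into_sylow P _ hS'
  obtain ⟨ι, hι⟩ : ∃ ι : ↥(S : Subgroup ↥H) →* ↥(P : Subgroup G), Function.Injective ι := by
    refine ⟨((MulAut.conj g).toMonoidHom.comp
      (H.subtype.comp (S : Subgroup ↥H).subtype)).codRestrict (P : Subgroup G)
      (fun s => hg ⟨((s : ↥H) : G), ⟨(s : ↥H), s.2, rfl⟩, rfl⟩), ?_⟩
    intro s t hst
    have h1 := congrArg (fun y : ↥(P : Subgroup G) => (y : G)) hst
    simp only [MonoidHom.codRestrict_apply, MonoidHom.coe_comp, Function.comp_apply,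
      MulEquiv.coe_toMonoidHom, MulAut.conj_apply, Subgroup.coe_subtype] at h1
    exact Subtype.ext (Subtype.ext (mul_left_cancel (mul_right_cancel h1)))
  have hcycS : IsCyclic (S : Subgroup ↥H) → IsCyclic H := fun h =>
    isCyclic_of_cyclic_sylow S hq h
  rcases hP with hPc | ⟨⟨n, hn1, ⟨eP⟩⟩, hsc⟩
  · left
    exact hcycS (isCyclic_of_injective ι hι)
  · have hinj2 : Function.Injective (eP.toMonoidHom.comp ι) := eP.injective.comp hι
    have eST := MonoidHom.ofInjective hinj2
    rcases subgroup_dihedral n (eP.toMonoidHom.comp ι).range with hTc | ⟨j, hj1, ⟨eT⟩⟩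
    · left
      exact hcycS (isCyclic_of_injective eST.toMonoidHom eST.injective)
    · obtain ⟨eS⟩ : Nonempty (↥(S : Subgroup ↥H) ≃* DihedralGroup (2 ^ j)) := ⟨eST.trans eT⟩
      -- two commuting involutions
      obtain ⟨θ, hθ⟩ : ∃ θ : DihedralGroup (2 ^ j) →* G,
          θ = H.subtype.comp ((S : Subgroup ↥H).subtype.comp eS.symm.toMonoidHom) := ⟨_, rfl⟩
      have hθi : Function.Injective θ := by
        rw [hθ]
        exact H.subtype_injective.comp
          ((S : Subgroup ↥H).subtype_injective.comp eS.symm.injective)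
      have hθm : ∀ d, ∃ s : ↥H, s ∈ (S : Subgroup ↥H) ∧ (s : G) = θ d := by
        intro d
        exact ⟨((eS.symm d : ↥(S : Subgroup ↥H)) : ↥H), (eS.symm d).2, by rw [hθ]; rfl⟩
      have hC : ∀ x : ↥H, Odd (orderOf x) → (∀ s ∈ (S : Subgroup ↥H), x * s = s * x) → x = 1 := by
        intro x hodd hx
        have hcomm : ∀ d, (x : G) * θ d = θ d * (x : G) := by
          intro d
          obtain ⟨s, hs, hsd⟩ := hθm d
          rw [← hsd]
          exact congrArg (fun y : ↥H => (y : G)) (hx s hs)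
        have hxx : (x : G) * (x : G) = 1 := by
          apply selfcent_elements P hsc (θ (zD j)) (θ (sr 0))
          · rw [← map_mul, zD_mul_self hj1, map_one]
          · rw [← map_mul, sr_mul_self, map_one]
          · rw [← map_mul, ← map_mul, zD_comm hj1]
          · intro h; exact zD_ne_one hj1 (hθi (h.trans (map_one θ).symm))
          · intro h
            have := hθi (h.trans (map_one θ).symm)
            rw [one_def] at this
            cases this
          · intro h
            have := hθi h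
            unfold zD at this
            cases this
          · exact hcomm _
          · exact hcomm _
        have hxx' : x ^ 2 = 1 := by
          rw [pow_two]; exact Subtype.ext hxx
        have h2 : orderOf x ∣ 2 := orderOf_dvd_of_pow_eq_one hxx'
        have h3 : orderOf x = 1 := by
          rcases (Nat.dvd_prime Nat.prime_two).mp h2 with h | h
          · exact h
          · rw [h] at hodd; exact absurd hodd (by decide)
        exact orderOf_eq_one_iff.mp h3
      have htop : (S : Subgroup ↥H) = ⊤ →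
          (∃ n : ℕ, Nonempty (H ≃* DihedralGroup (2 ^ n))) := by
        intro h
        exact ⟨j, ⟨(Subgroup.topEquiv.symm.trans (MulEquiv.subgroupCongr h.symm)).trans eS⟩⟩
      by_cases hj2 : 2 ≤ j
      · right; left
        exact htop (eq_top_of_dihedral_sylow S j hj2 eS hC)
      · have hj : j = 1 := by omega
        subst hj
        have hKl : IsKleinFour (S : Subgroup ↥H) := by
          apply Klein.isKleinFour_of_card_sq
          · rw [Nat.card_congr eS.toEquiv, DihedralGroup.nat_card]; norm_num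
          · intro t ht
            have h1 := dihedral_two_sq (eS ⟨t, ht⟩)
            rw [← map_mul] at h1
            have h2 := eS.injective (h1.trans (map_one eS).symm)
            exact congrArg Subtype.val h2
        rcases klein_sylow_cases S hKl hC with h | h
        · right; left; exact htop h
        · right; right; exact h

/-- The "only if" direction. -/
theorem sylow_structure_of_hyp (P : Sylow 2 G)
    (hyp : ∀ H : Subgroup G, (∀ S : Sylow 2 ↥H, (S : Subgroup ↥H).Normal) →
        (∀ (S : Sylow 2 ↥H) [(S : Subgroup ↥H).Normal], IsCyclic (↥H ⧸ (S : Subgroup ↥H))) →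
        IsCyclic H ∨ (∃ n : ℕ, Nonempty (H ≃* DihedralGroup (2 ^ n))) ∨
          Nonempty (H ≃* alternatingGroup (Fin 4))) :
    IsCyclic P ∨ ((∃ n : ℕ, 1 ≤ n ∧ Nonempty ((P : Subgroup G) ≃* DihedralGroup (2 ^ n))) ∧
      ∀ K : Subgroup G, K ≤ P → Nat.card K = 4 → (∀ k ∈ K, k ^ 2 = 1) →
        Subgroup.centralizer (K : Set G) = K) := by
  have : Fact (Nat.Prime 2) := ⟨Nat.prime_two⟩
  have htop : ∀ S : Sylow 2 ↥(P : Subgroup G), (S : Subgroup ↥(P : Subgroup G)) = ⊤ := by
    intro S
    have h1 : IsPGroup 2 ↥(⊤ : Subgroup ↥(P : Subgroup G)) :=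
      P.isPGroup'.of_equiv Subgroup.topEquiv.symm
    exact (S.is_maximal' h1 le_top).symm
  have hnorm : ∀ S : Sylow 2 ↥(P : Subgroup G), (S : Subgroup ↥(P : Subgroup G)).Normal := by
    intro S
    rw [htop S]
    infer_instance
  have hcyc : ∀ (S : Sylow 2 ↥(P : Subgroup G)) [(S : Subgroup ↥(P : Subgroup G)).Normal],
      IsCyclic (↥(P : Subgroup G) ⧸ (S : Subgroup ↥(P : Subgroup G))) := by
    intro S hS
    have : Subsingleton (↥(P : Subgroup G) ⧸ (S : Subgroup ↥(P : Subgroup G))) := by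
      rw [← Nat.card_eq_one_iff_unique |>.trans ⟨fun h => h.1, fun h => ⟨h, ⟨1⟩⟩⟩]
      rw [← Subgroup.index_eq_card, htop S, Subgroup.index_top]
    infer_instance
  rcases hyp (P : Subgroup G) hnorm hcyc with h | ⟨n, ⟨e⟩⟩ | ⟨⟨e⟩⟩
  · exact Or.inl h
  · rcases Nat.eq_zero_or_pos n with rfl | hn
    · left
      apply isCyclic_of_prime_card (p := 2)
      rw [Nat.card_congr e.toEquiv, DihedralGroup.nat_card]
      norm_num
    · right
      exact ⟨⟨n, hn, ⟨e⟩⟩, fun K _ hK4 hK2 => centralizer_eq_of_hyp hyp K hK4 hK2⟩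
  · exfalso
    obtain ⟨a, ha⟩ := IsPGroup.iff_card.mp P.isPGroup'
    rw [Nat.card_congr e.toEquiv, card_A4] at ha
    have h3 : 3 ∣ 2 ^ a := by rw [← ha]; norm_num
    have := Nat.Prime.dvd_of_dvd_pow Nat.prime_three h3
    omega

end Cfsg.Agent.helper6.CycDih
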