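import Mathlib
import Cfsg.Agent.Lib_helper5_ChevCZ2
import Cfsg.Agent.Lib_helper5_ChevColl

set_option autoImplicit false

/-! Centralisers of involutions in `F₄(2^k)`: generic factorisation lemmas (helper6). -/

namespace Cfsg.Agent.helper6.F4Cen

open Cfsg.Lie Cfsg.Agent.helper5.Chev

section generic
variable {F : Type*} [Field F] (D : ChevalleyDatum)
  (hD : D ∈ [chevG2, chevB2, chevD4, chevF4, chevE6, chevE7, chevE8])

theorem prodL_zero (L : List ℕ) : prodL D hD (fun _ => (0 : F)) L = 1 := by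
  induction L with
  | nil => rfl
  | cons s L ih => rw [prodL_cons, ih, xG_zero, mul_one]

theorem posRoots_nodup : D.posRoots.Nodup :=
  (posRoots_pairwise D).imp (fun h => Nat.ne_of_lt h)

include hD in
theorem UV_one (y : GL D.Idx F) (hU : y ∈ D.posUnipotent F) (hV : y ∈ D.negUnipotent F) :
    y = 1 := by
  have h : y ∈ D.borelSubgroup F ⊓ D.negUnipotent F := ⟨U_le_B D hD hU, hV⟩
  rw [B_inf_V D hD, Subgroup.mem_bot] at h
  exact h

/-- inserting a root element into an ordered product -/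
theorem ins_prodL (L : List ℕ) (hL : L.Nodup) (κ : ℕ → F) (r : ℕ) (hr : r ∈ L) (a : F)
    (hc : ∀ s ∈ L, s ≠ r → Commute (xG D hD r a) (xG D hD s (κ s))) :
    xG D hD r a * prodL D hD κ L =
      prodL D hD (fun q => if q = r then a + κ q else κ q) L := by
  induction L with
  | nil => exact absurd hr (by simp)
  | cons s L ih =>
    rw [List.nodup_cons] at hL
    rw [prodL_cons, prodL_cons]
    by_cases hsr : s = r
    · subst hsr
      have e1 : prodL D hD (fun q => if q = s then a + κ q else κ q) L = prodL D hD κ L := by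
        apply prodL_congr
        intro q hq
        have hne : q ≠ s := fun h => hL.1 (h ▸ hq)
        simp [hne]
      rw [e1, ← mul_assoc, xG_mul]
      simp
    · have hrL : r ∈ L := by
        rcases List.mem_cons.mp hr with h | h
        · exact absurd h.symm hsr
        · exact h
      have ih' := ih hL.2 hrL (fun s' hs' hne => hc s' (List.mem_cons_of_mem _ hs') hne)
      have hcs := (hc s List.mem_cons_self hsr).eq
      calc xG D hD r a * (xG D hD s (κ s) * prodL D hD κ L)
          = xG D hD s (κ s) * (xG D hD r a * prodL D hD κ L) := by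
            rw [← mul_assoc, hcs, mul_assoc]
        _ = xG D hD s (κ s) *
            prodL D hD (fun q => if q = r then a + κ q else κ q) L := by rw [ih']
        _ = _ := by simp [hsr]

include hD in
/-- a product of pairwise commuting root elements, positive part collected -/
theorem support_of_prod (ρ : List (ℕ × F)) (hlt : ∀ p ∈ ρ, p.1 < D.nroots)
    (hcomm : ∀ p ∈ ρ, ∀ p' ∈ ρ, ∀ a b : F, Commute (xG D hD p.1 a) (xG D hD p'.1 b)) :
    ∃ κ : ℕ → F, ∃ N ∈ D.negUnipotent F,
      (ρ.map fun p => xG D hD p.1 p.2).prod = prodL D hD κ D.posRoots * N ∧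
      ∀ q, (∀ p ∈ ρ, p.1 ≠ q) → κ q = 0 := by
  have hR := rootsOK_of_mem D hD
  induction ρ with
  | nil =>
    refine ⟨fun _ => 0, 1, Subgroup.one_mem _, ?_, fun _ _ => rfl⟩
    rw [prodL_zero, mul_one]
    rfl
  | cons p0 ρ ih =>
    obtain ⟨κ, N, hN, hprod, hsupp⟩ := ih
      (fun p hp => hlt p (List.mem_cons_of_mem _ hp))
      (fun p hp p' hp' => hcomm p (List.mem_cons_of_mem _ hp) p' (List.mem_cons_of_mem _ hp'))
    have hc0 : ∀ s, ∀ a : F, Commute (xG D hD p0.1 a) (xG D hD s (κ s)) := by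
      intro s a
      by_cases hex : ∃ p ∈ ρ, p.1 = s
      · obtain ⟨p, hp, rfl⟩ := hex
        exact hcomm p0 List.mem_cons_self p (List.mem_cons_of_mem _ hp) a _
      · have hex' : ∀ p ∈ ρ, p.1 ≠ s := fun p hp h => hex ⟨p, hp, h⟩
        rw [hsupp s hex', xG_zero]
        exact Commute.one_right _
    rw [List.map_cons, List.prod_cons, hprod]
    rcases hR.pos_or_neg p0.1 (hlt p0 List.mem_cons_self) with ⟨hpos, -, -⟩ | ⟨hneg, -, -⟩
    · refine ⟨fun q => if q = p0.1 then p0.2 + κ q else κ q, N, hN, ?_, ?_⟩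
      · rw [← mul_assoc, ins_prodL D hD D.posRoots (posRoots_nodup D) κ p0.1
          ((mem_posRoots D _).mpr hpos) p0.2 (fun s _ _ => hc0 s _)]
      · intro q hq
        have h1 : q ≠ p0.1 := fun h => hq p0 List.mem_cons_self h.symm
        have h2 := hsupp q (fun p hp => hq p (List.mem_cons_of_mem _ hp))
        simp [h1, h2]
    · refine ⟨κ, xG D hD p0.1 p0.2 * N,
        Subgroup.mul_mem _ (Subgroup.subset_closure ⟨p0.1, p0.2, hneg, rfl⟩) hN, ?_, ?_⟩
      · have hcp : Commute (xG D hD p0.1 p0.2) (prodL D hD κ D.posRoots) := by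
          unfold prodL
          apply Commute.list_prod_right
          intro x hx
          obtain ⟨s, -, rfl⟩ := List.mem_map.mp hx
          exact hc0 s _
        rw [← mul_assoc, hcp.eq, mul_assoc]
      · intro q hq
        exact hsupp q (fun p hp => hq p (List.mem_cons_of_mem _ hp))

include hD in
/-- a positive root with nonzero coefficient on the right occurs on the left -/
theorem mem_of_coeff_ne (ρ : List (ℕ × F)) (hlt : ∀ p ∈ ρ, p.1 < D.nroots)
    (hcomm : ∀ p ∈ ρ, ∀ p' ∈ ρ, ∀ a b : F, Commute (xG D hD p.1 a) (xG D hD p'.1 b))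
    (t' : ℕ → F) (hy : (ρ.map fun p => xG D hD p.1 p.2).prod = prodL D hD t' D.posRoots)
    (q : ℕ) (hq : D.IsPosRoot q) (hne : t' q ≠ 0) : ∃ p ∈ ρ, p.1 = q := by
  obtain ⟨κ, N, hN, hprod, hsupp⟩ := support_of_prod D hD ρ hlt hcomm
  by_contra hcon
  have hcon' : ∀ p ∈ ρ, p.1 ≠ q := fun p hp h => hcon ⟨p, hp, h⟩
  have hκ := hsupp q hcon'
  have hposL : ∀ r ∈ D.posRoots, D.IsPosRoot r := fun r hr => (mem_posRoots D r).mp hr
  have hN1 : N = 1 := by
    apply UV_one D hD N _ hN
    have e : N = (prodL D hD κ D.posRoots)⁻¹ * prodL D hD t' D.posRoots := by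
      rw [← hy, hprod]
      group
    rw [e]
    exact Subgroup.mul_mem _ (Subgroup.inv_mem _ (prodL_mem_U D hD κ _ hposL))
      (prodL_mem_U D hD t' _ hposL)
  have heq : prodL D hD κ D.posRoots = prodL D hD t' D.posRoots := by
    rw [← hy, hprod, hN1, mul_one]
  have key := prodL_inj D hD κ t' D.posRoots (posRoots_pairwise D) hposL heq q
    ((mem_posRoots D q).mpr hq)
  rw [hκ] at key
  exact hne key.symm

theorem commute_conj {G : Type*} [Group G] (m x y : G) (h : Commute x y) :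
    Commute (m * x * m⁻¹) (m * y * m⁻¹) := by
  show m * x * m⁻¹ * (m * y * m⁻¹) = m * y * m⁻¹ * (m * x * m⁻¹)
  have e1 : m * x * m⁻¹ * (m * y * m⁻¹) = m * (x * y) * m⁻¹ := by group
  have e2 : m * y * m⁻¹ * (m * x * m⁻¹) = m * (y * x) * m⁻¹ := by group
  rw [e1, e2, h.eq]

include hD in
/-- the action of an element of `N` on all root elements, with one Weyl word -/
theorem N_act (m : GL D.Idx F) (hm : m ∈ D.monomialSubgroup F) :
    ∃ w : List ℕ, (∀ i ∈ w, i < D.rank) ∧ ∀ r < D.nroots, ∃ φ : F, φ ≠ 0 ∧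
      ∀ t : F, m * xG D hD r t * m⁻¹ = xG D hD (applyW D w r) (φ * t) := by
  obtain ⟨h, hh, w, hw, rfl⟩ := mem_N_decomp D hD m hm
  refine ⟨w, hw, fun r hr => ?_⟩
  obtain ⟨ε, hε, hc⟩ := nW_conj (F := F) D hD w hw r hr
  obtain ⟨χ, hχ, hc2⟩ := H_conj D hD h hh (applyW D w r) (applyW_lt D hD w hw r hr)
  have hε0 : ε ≠ 0 := by
    rintro rfl
    simp at hε
  refine ⟨χ * ε, mul_ne_zero hχ hε0, fun t => ?_⟩
  calc h * nW D hD w * xG D hD r t * (h * nW D hD w)⁻¹
      = h * (nW D hD w * xG D hD r t * (nW D hD w)⁻¹) * h⁻¹ := by group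
    _ = xG D hD (applyW D w r) (χ * ε * t) := by rw [hc, hc2, mul_assoc]

/-- commuting root subgroups stay commuting after conjugation by `N` -/
theorem commute_act (m : GL D.Idx F) (r s r' s' : ℕ) (φ ψ : F) (hφ : φ ≠ 0) (hψ : ψ ≠ 0)
    (h1 : ∀ t : F, m * xG D hD r t * m⁻¹ = xG D hD r' (φ * t))
    (h2 : ∀ t : F, m * xG D hD s t * m⁻¹ = xG D hD s' (ψ * t))
    (hc : ∀ a b : F, Commute (xG D hD r a) (xG D hD s b)) (a b : F) :
    Commute (xG D hD r' a) (xG D hD s' b) := by
  have e1 : xG D hD r' a = m * xG D hD r (φ⁻¹ * a) * m⁻¹ := by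
    rw [h1, mul_inv_cancel_left₀ hφ]
  have e2 : xG D hD s' b = m * xG D hD s (ψ⁻¹ * b) * m⁻¹ := by
    rw [h2, mul_inv_cancel_left₀ hψ]
  rw [e1, e2]
  exact commute_conj m _ _ (hc _ _)

end generic

end Cfsg.Agent.helper6.F4Cen
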