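import Mathlib
import Cfsg.Agent.Lib_helper6_F4CenA

set_option autoImplicit false

/-! Centralisers of involutions in `F₄(2^k)`: relations in `U` (helper6). -/

namespace Cfsg.Agent.helper6.F4Cen

open Cfsg.Lie Cfsg.Agent.helper5.Chev

theorem hF4 : chevF4 ∈ [chevG2, chevB2, chevD4, chevF4, chevE6, chevE7, chevE8] := by simp

local notation "X" => xG chevF4 hF4

theorem posRoots_F4 : chevF4.posRoots = [24, 25, 26, 27, 28, 29, 30, 31, 32, 33, 34, 35, 36, 37,
    38, 39, 40, 41, 42, 43, 44, 45, 46, 47] := by decide +kernel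

/-- the commutator formula of the pair has only even coefficients -/
def evenPair (r s : ℕ) : Bool :=
  decide (r < chevF4.nroots) && decide (s < chevF4.nroots) && (s != r) && (s != chevF4.neg r) &&
    (chevF4.commTerms r s).all fun c => c.2.1 % 2 == 0

section
variable {F : Type*} [Field F]

theorem commute_same (r : ℕ) (t u : F) : Commute (X r t) (X r u) := by
  show X r t * X r u = X r u * X r t
  rw [xG_mul, xG_mul, add_comm]

theorem commute_of_even [CharP F 2] (r s : ℕ) (h : evenPair r s = true) (t u : F) :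
    Commute (X r t) (X s u) := by
  unfold evenPair at h
  simp only [Bool.and_eq_true, decide_eq_true_eq, bne_iff_ne, ne_eq, List.all_eq_true,
    beq_iff_eq] at h
  obtain ⟨⟨⟨⟨hr, hs⟩, hsr⟩, hsn⟩, hall⟩ := h
  have hcf := commF_of_ok (F := F) chevF4 hF4 (commOK_of_mem chevF4 hF4) r hr s hs hsr hsn t u
  rw [cwG_eq_one_of_even chevF4 hF4 r s (fun c hc => Int.dvd_of_emod_eq_zero (hall c hc)),
    mul_one] at hcf
  exact hcf.symm

/-- commuting, for equal roots or even pairs -/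
theorem commute_of_eq_or_even [CharP F 2] (r s : ℕ) (h : r = s ∨ evenPair r s = true) (t u : F) :
    Commute (X r t) (X s u) := by
  rcases h with rfl | h
  · exact commute_same r t u
  · exact commute_of_even r s h t u

theorem comm_single (r s k : ℕ) (hr : r < chevF4.nroots) (hs : s < chevF4.nroots)
    (hsr : s ≠ r) (hsn : s ≠ chevF4.neg r) (h1 : chevF4.commTerms r s = [(k, -1, 1, 1)])
    (t u : F) :
    X s u * X r t = X r t * X s u * X k (t * u) := by
  have h := commF_of_ok (F := F) chevF4 hF4 (commOK_of_mem chevF4 hF4) r hr s hs hsr hsn t u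
  have hcw : cwG chevF4 hF4 r s t u = X k (t * u) := by
    unfold cwG
    rw [h1]
    simp only [List.map_cons, List.map_nil, List.prod_cons, List.prod_nil, mul_one, pow_one]
    congr 1
    push_cast
    ring
  rw [hcw] at h
  exact h

theorem s39_27 (t u : F) : X 27 u * X 39 t = X 39 t * X 27 u * X 40 (t * u) :=
  comm_single 39 27 40 (by decide) (by decide) (by decide) (by decide) (by decide +kernel) t u
theorem s39_34 (t u : F) : X 34 u * X 39 t = X 39 t * X 34 u * X 44 (t * u) :=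
  comm_single 39 34 44 (by decide) (by decide) (by decide) (by decide) (by decide +kernel) t u
theorem s40_33 (t u : F) : X 33 u * X 40 t = X 40 t * X 33 u * X 44 (t * u) :=
  comm_single 40 33 44 (by decide) (by decide) (by decide) (by decide) (by decide +kernel) t u
theorem s45_25 (t u : F) : X 25 u * X 45 t = X 45 t * X 25 u * X 46 (t * u) :=
  comm_single 45 25 46 (by decide) (by decide) (by decide) (by decide) (by decide +kernel) t u
theorem s45_26 (t u : F) : X 26 u * X 45 t = X 45 t * X 26 u * X 47 (t * u) :=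
  comm_single 45 26 47 (by decide) (by decide) (by decide) (by decide) (by decide +kernel) t u
theorem s46_24 (t u : F) : X 24 u * X 46 t = X 46 t * X 24 u * X 47 (t * u) :=
  comm_single 46 24 47 (by decide) (by decide) (by decide) (by decide) (by decide +kernel) t u

/-- the six roots of the abelian group `A` -/
def six : List ℕ := [39, 40, 44, 45, 46, 47]

theorem six_comm : ∀ r ∈ six, ∀ s ∈ six, r = s ∨ evenPair r s = true := by decide +kernel

/-- the positive roots commuting with all of `A` -/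
def nonSpecial : List ℕ := [28, 29, 30, 31, 32, 35, 36, 37, 38, 39, 40, 41, 42, 43, 44, 45, 46, 47]

theorem nonSpecial_comm : ∀ p ∈ nonSpecial, ∀ r ∈ six, p = r ∨ evenPair p r = true := by
  decide +kernel

/-- the special pairs: everything except the one non-commuting factor -/
theorem special_comm : ∀ q ∈ [(27, 39), (34, 39), (33, 40), (25, 45), (26, 45), (24, 46)],
    ∀ r ∈ six, r = (q : ℕ × ℕ).2 ∨ evenPair q.1 r = true := by decide +kernel

/-- the element `x_39(c₁) x_40(z₁) x_44(z₂) x_45(c₂) x_46(z₃) x_47(z₄)` -/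
noncomputable def aF (c1 z1 z2 c2 z3 z4 : F) : GL chevF4.Idx F :=
  X 39 c1 * (X 40 z1 * (X 44 z2 * (X 45 c2 * (X 46 z3 * X 47 z4))))

variable [CharP F 2]

theorem cs (r s : ℕ) (hr : r ∈ six) (hs : s ∈ six) (t u : F) : Commute (X r t) (X s u) :=
  commute_of_eq_or_even r s (six_comm r hr s hs) t u

theorem step_comm (p : ℕ) (hp : p ∈ nonSpecial) (τ c1 z1 z2 c2 z3 z4 : F) :
    X p τ * aF c1 z1 z2 c2 z3 z4 = aF c1 z1 z2 c2 z3 z4 * X p τ := by
  have h : ∀ r ∈ six, ∀ u : F, Commute (X p τ) (X r u) := fun r hr u =>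
    commute_of_eq_or_even p r (nonSpecial_comm p hp r hr) τ u
  unfold aF
  exact ((h 39 (by decide) c1).mul_right ((h 40 (by decide) z1).mul_right
    ((h 44 (by decide) z2).mul_right ((h 45 (by decide) c2).mul_right
    ((h 46 (by decide) z3).mul_right (h 47 (by decide) z4)))))).eq

theorem sp (p r0 : ℕ) (hq : (p, r0) ∈ [(27, 39), (34, 39), (33, 40), (25, 45), (26, 45), (24, 46)])
    (r : ℕ) (hr : r ∈ six) (hne : r ≠ r0) (τ u : F) : Commute (X p τ) (X r u) := by
  rcases special_comm (p, r0) hq r hr with h | h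
  · exact absurd h hne
  · exact commute_of_even p r h τ u

theorem S27 (τ c1 z1 z2 c2 z3 z4 : F) :
    X 27 τ * aF c1 z1 z2 c2 z3 z4 = aF c1 (c1 * τ + z1) z2 c2 z3 z4 * X 27 τ := by
  have h : ∀ r ∈ six, r ≠ 39 → ∀ u : F, Commute (X 27 τ) (X r u) := fun r hr hne u =>
    sp 27 39 (by decide) r hr hne τ u
  unfold aF
  calc X 27 τ * (X 39 c1 * (X 40 z1 * (X 44 z2 * (X 45 c2 * (X 46 z3 * X 47 z4)))))
      = X 39 c1 * (X 27 τ * (X 40 (c1 * τ) * (X 40 z1 *
          (X 44 z2 * (X 45 c2 * (X 46 z3 * X 47 z4)))))) := by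
        rw [← mul_assoc, s39_27]
        simp only [mul_assoc]
    _ = X 39 c1 * (X 27 τ * (X 40 (c1 * τ + z1) *
          (X 44 z2 * (X 45 c2 * (X 46 z3 * X 47 z4))))) := by
        rw [← mul_assoc (X 40 (c1 * τ)), xG_mul]
    _ = X 39 c1 * (X 40 (c1 * τ + z1) * (X 44 z2 * (X 45 c2 * (X 46 z3 * X 47 z4)))) *
          X 27 τ := by
        rw [((h 40 (by decide) (by decide) _).mul_right ((h 44 (by decide) (by decide) z2).mul_right
          ((h 45 (by decide) (by decide) c2).mul_right ((h 46 (by decide) (by decide) z3).mul_right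
          (h 47 (by decide) (by decide) z4))))).eq]
        simp only [mul_assoc]

theorem S34 (τ c1 z1 z2 c2 z3 z4 : F) :
    X 34 τ * aF c1 z1 z2 c2 z3 z4 = aF c1 z1 (c1 * τ + z2) c2 z3 z4 * X 34 τ := by
  have h : ∀ r ∈ six, r ≠ 39 → ∀ u : F, Commute (X 34 τ) (X r u) := fun r hr hne u =>
    sp 34 39 (by decide) r hr hne τ u
  unfold aF
  calc X 34 τ * (X 39 c1 * (X 40 z1 * (X 44 z2 * (X 45 c2 * (X 46 z3 * X 47 z4)))))
      = X 39 c1 * (X 34 τ * (X 44 (c1 * τ) * (X 40 z1 *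
          (X 44 z2 * (X 45 c2 * (X 46 z3 * X 47 z4)))))) := by
        rw [← mul_assoc, s39_34]
        simp only [mul_assoc]
    _ = X 39 c1 * (X 34 τ * (X 40 z1 * (X 44 (c1 * τ + z2) *
          (X 45 c2 * (X 46 z3 * X 47 z4))))) := by
        rw [(cs 44 40 (by decide) (by decide) (c1 * τ) z1).left_comm,
          ← mul_assoc (X 44 (c1 * τ)), xG_mul]
    _ = X 39 c1 * (X 40 z1 * (X 44 (c1 * τ + z2) * (X 45 c2 * (X 46 z3 * X 47 z4)))) *
          X 34 τ := by
        rw [((h 40 (by decide) (by decide) z1).mul_right ((h 44 (by decide) (by decide) _).mul_right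
          ((h 45 (by decide) (by decide) c2).mul_right ((h 46 (by decide) (by decide) z3).mul_right
          (h 47 (by decide) (by decide) z4))))).eq]
        simp only [mul_assoc]

theorem S33 (τ c1 z1 z2 c2 z3 z4 : F) :
    X 33 τ * aF c1 z1 z2 c2 z3 z4 = aF c1 z1 (z1 * τ + z2) c2 z3 z4 * X 33 τ := by
  have h : ∀ r ∈ six, r ≠ 40 → ∀ u : F, Commute (X 33 τ) (X r u) := fun r hr hne u =>
    sp 33 40 (by decide) r hr hne τ u
  unfold aF
  calc X 33 τ * (X 39 c1 * (X 40 z1 * (X 44 z2 * (X 45 c2 * (X 46 z3 * X 47 z4)))))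
      = X 39 c1 * (X 33 τ * (X 40 z1 * (X 44 z2 * (X 45 c2 * (X 46 z3 * X 47 z4))))) := by
        rw [(h 39 (by decide) (by decide) c1).left_comm]
    _ = X 39 c1 * (X 40 z1 * (X 33 τ * (X 44 (z1 * τ) *
          (X 44 z2 * (X 45 c2 * (X 46 z3 * X 47 z4)))))) := by
        rw [← mul_assoc (X 33 τ), s40_33]
        simp only [mul_assoc]
    _ = X 39 c1 * (X 40 z1 * (X 33 τ * (X 44 (z1 * τ + z2) *
          (X 45 c2 * (X 46 z3 * X 47 z4))))) := by
        rw [← mul_assoc (X 44 (z1 * τ)), xG_mul]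
    _ = X 39 c1 * (X 40 z1 * (X 44 (z1 * τ + z2) * (X 45 c2 * (X 46 z3 * X 47 z4)))) *
          X 33 τ := by
        rw [((h 44 (by decide) (by decide) _).mul_right
          ((h 45 (by decide) (by decide) c2).mul_right ((h 46 (by decide) (by decide) z3).mul_right
          (h 47 (by decide) (by decide) z4)))).eq]
        simp only [mul_assoc]

theorem S25 (τ c1 z1 z2 c2 z3 z4 : F) :
    X 25 τ * aF c1 z1 z2 c2 z3 z4 = aF c1 z1 z2 c2 (c2 * τ + z3) z4 * X 25 τ := by
  have h : ∀ r ∈ six, r ≠ 45 → ∀ u : F, Commute (X 25 τ) (X r u) := fun r hr hne u =>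
    sp 25 45 (by decide) r hr hne τ u
  unfold aF
  calc X 25 τ * (X 39 c1 * (X 40 z1 * (X 44 z2 * (X 45 c2 * (X 46 z3 * X 47 z4)))))
      = X 39 c1 * (X 40 z1 * (X 44 z2 * (X 25 τ * (X 45 c2 * (X 46 z3 * X 47 z4))))) := by
        rw [(h 39 (by decide) (by decide) c1).left_comm,
          (h 40 (by decide) (by decide) z1).left_comm, (h 44 (by decide) (by decide) z2).left_comm]
    _ = X 39 c1 * (X 40 z1 * (X 44 z2 * (X 45 c2 * (X 25 τ * (X 46 (c2 * τ) *
          (X 46 z3 * X 47 z4)))))) := by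
        rw [← mul_assoc (X 25 τ), s45_25]
        simp only [mul_assoc]
    _ = X 39 c1 * (X 40 z1 * (X 44 z2 * (X 45 c2 * (X 25 τ * (X 46 (c2 * τ + z3) *
          X 47 z4))))) := by
        rw [← mul_assoc (X 46 (c2 * τ)), xG_mul]
    _ = X 39 c1 * (X 40 z1 * (X 44 z2 * (X 45 c2 * (X 46 (c2 * τ + z3) * X 47 z4)))) *
          X 25 τ := by
        rw [((h 46 (by decide) (by decide) _).mul_right (h 47 (by decide) (by decide) z4)).eq]
        simp only [mul_assoc]

theorem S26 (τ c1 z1 z2 c2 z3 z4 : F) :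
    X 26 τ * aF c1 z1 z2 c2 z3 z4 = aF c1 z1 z2 c2 z3 (c2 * τ + z4) * X 26 τ := by
  have h : ∀ r ∈ six, r ≠ 45 → ∀ u : F, Commute (X 26 τ) (X r u) := fun r hr hne u =>
    sp 26 45 (by decide) r hr hne τ u
  unfold aF
  calc X 26 τ * (X 39 c1 * (X 40 z1 * (X 44 z2 * (X 45 c2 * (X 46 z3 * X 47 z4)))))
      = X 39 c1 * (X 40 z1 * (X 44 z2 * (X 26 τ * (X 45 c2 * (X 46 z3 * X 47 z4))))) := by
        rw [(h 39 (by decide) (by decide) c1).left_comm,
          (h 40 (by decide) (by decide) z1).left_comm, (h 44 (by decide) (by decide) z2).left_comm]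
    _ = X 39 c1 * (X 40 z1 * (X 44 z2 * (X 45 c2 * (X 26 τ * (X 47 (c2 * τ) *
          (X 46 z3 * X 47 z4)))))) := by
        rw [← mul_assoc (X 26 τ), s45_26]
        simp only [mul_assoc]
    _ = X 39 c1 * (X 40 z1 * (X 44 z2 * (X 45 c2 * (X 26 τ * (X 46 z3 *
          X 47 (c2 * τ + z4)))))) := by
        rw [(cs 47 46 (by decide) (by decide) (c2 * τ) z3).left_comm, xG_mul]
    _ = X 39 c1 * (X 40 z1 * (X 44 z2 * (X 45 c2 * (X 46 z3 * X 47 (c2 * τ + z4))))) *
          X 26 τ := by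
        rw [((h 46 (by decide) (by decide) z3).mul_right (h 47 (by decide) (by decide) _)).eq]
        simp only [mul_assoc]

theorem S24 (τ c1 z1 z2 c2 z3 z4 : F) :
    X 24 τ * aF c1 z1 z2 c2 z3 z4 = aF c1 z1 z2 c2 z3 (z3 * τ + z4) * X 24 τ := by
  have h : ∀ r ∈ six, r ≠ 46 → ∀ u : F, Commute (X 24 τ) (X r u) := fun r hr hne u =>
    sp 24 46 (by decide) r hr hne τ u
  unfold aF
  calc X 24 τ * (X 39 c1 * (X 40 z1 * (X 44 z2 * (X 45 c2 * (X 46 z3 * X 47 z4)))))
      = X 39 c1 * (X 40 z1 * (X 44 z2 * (X 45 c2 * (X 24 τ * (X 46 z3 * X 47 z4))))) := by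
        rw [(h 39 (by decide) (by decide) c1).left_comm,
          (h 40 (by decide) (by decide) z1).left_comm, (h 44 (by decide) (by decide) z2).left_comm,
          (h 45 (by decide) (by decide) c2).left_comm]
    _ = X 39 c1 * (X 40 z1 * (X 44 z2 * (X 45 c2 * (X 46 z3 * (X 24 τ * (X 47 (z3 * τ) *
          X 47 z4)))))) := by
        rw [← mul_assoc (X 24 τ), s46_24]
        simp only [mul_assoc]
    _ = X 39 c1 * (X 40 z1 * (X 44 z2 * (X 45 c2 * (X 46 z3 * X 47 (z3 * τ + z4))))) *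
          X 24 τ := by
        rw [xG_mul, (h 47 (by decide) (by decide) _).eq]
        simp only [mul_assoc]

/-- the effect of conjugating `aF` by `x_p(τ)` on the `z`-coordinates -/
def stepF (p : ℕ) (τ c1 z1 z2 c2 z3 z4 : F) : F × F × F × F :=
  if p = 27 then (c1 * τ + z1, z2, z3, z4)
  else if p = 34 then (z1, c1 * τ + z2, z3, z4)
  else if p = 33 then (z1, z1 * τ + z2, z3, z4)
  else if p = 25 then (z1, z2, c2 * τ + z3, z4)
  else if p = 26 then (z1, z2, z3, c2 * τ + z4)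
  else if p = 24 then (z1, z2, z3, z3 * τ + z4)
  else (z1, z2, z3, z4)

theorem step_ok (p : ℕ) (hp : chevF4.IsPosRoot p) (τ c1 z1 z2 c2 z3 z4 : F) :
    X p τ * aF c1 z1 z2 c2 z3 z4 =
      aF c1 (stepF p τ c1 z1 z2 c2 z3 z4).1 (stepF p τ c1 z1 z2 c2 z3 z4).2.1 c2
        (stepF p τ c1 z1 z2 c2 z3 z4).2.2.1 (stepF p τ c1 z1 z2 c2 z3 z4).2.2.2 * X p τ := by
  have hmem := (mem_posRoots chevF4 p).mpr hp
  rw [posRoots_F4] at hmem
  simp only [List.mem_cons, List.not_mem_nil, or_false] at hmem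
  rcases hmem with rfl | rfl | rfl | rfl | rfl | rfl | rfl | rfl | rfl | rfl | rfl | rfl | rfl |
    rfl | rfl | rfl | rfl | rfl | rfl | rfl | rfl | rfl | rfl | rfl
  · exact S24 τ c1 z1 z2 c2 z3 z4
  · exact S25 τ c1 z1 z2 c2 z3 z4
  · exact S26 τ c1 z1 z2 c2 z3 z4
  · exact S27 τ c1 z1 z2 c2 z3 z4
  · exact step_comm 28 (by decide) τ c1 z1 z2 c2 z3 z4
  · exact step_comm 29 (by decide) τ c1 z1 z2 c2 z3 z4
  · exact step_comm 30 (by decide) τ c1 z1 z2 c2 z3 z4
  · exact step_comm 31 (by decide) τ c1 z1 z2 c2 z3 z4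
  · exact step_comm 32 (by decide) τ c1 z1 z2 c2 z3 z4
  · exact S33 τ c1 z1 z2 c2 z3 z4
  · exact S34 τ c1 z1 z2 c2 z3 z4
  · exact step_comm 35 (by decide) τ c1 z1 z2 c2 z3 z4
  · exact step_comm 36 (by decide) τ c1 z1 z2 c2 z3 z4
  · exact step_comm 37 (by decide) τ c1 z1 z2 c2 z3 z4
  · exact step_comm 38 (by decide) τ c1 z1 z2 c2 z3 z4
  · exact step_comm 39 (by decide) τ c1 z1 z2 c2 z3 z4
  · exact step_comm 40 (by decide) τ c1 z1 z2 c2 z3 z4
  · exact step_comm 41 (by decide) τ c1 z1 z2 c2 z3 z4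
  · exact step_comm 42 (by decide) τ c1 z1 z2 c2 z3 z4
  · exact step_comm 43 (by decide) τ c1 z1 z2 c2 z3 z4
  · exact step_comm 44 (by decide) τ c1 z1 z2 c2 z3 z4
  · exact step_comm 45 (by decide) τ c1 z1 z2 c2 z3 z4
  · exact step_comm 46 (by decide) τ c1 z1 z2 c2 z3 z4
  · exact step_comm 47 (by decide) τ c1 z1 z2 c2 z3 z4

end

end Cfsg.Agent.helper6.F4Cen
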