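import Mathlib
import Cfsg.Agent.Lib_helper6_F4CenB

set_option autoImplicit false

/-! Centralisers of involutions in `F₄(2^k)`: the abelian group `A` and its normaliser (helper6). -/

namespace Cfsg.Agent.helper6.F4Cen

open Cfsg.Lie Cfsg.Agent.helper5.Chev

local notation "X" => xG chevF4 hF4

/-- elements conjugating a subgroup into itself, both ways -/
def Stb {G : Type*} [Group G] (S : Subgroup G) : Subgroup G where
  carrier := {g | (∀ k ∈ S, g * k * g⁻¹ ∈ S) ∧ (∀ k ∈ S, g⁻¹ * k * g ∈ S)}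
  one_mem' := ⟨fun k hk => by simpa using hk, fun k hk => by simpa using hk⟩
  mul_mem' := by
    rintro a b ⟨ha1, ha2⟩ ⟨hb1, hb2⟩
    refine ⟨fun k hk => ?_, fun k hk => ?_⟩
    · have h := ha1 _ (hb1 k hk)
      have e : a * b * k * (a * b)⁻¹ = a * (b * k * b⁻¹) * a⁻¹ := by group
      rw [e]
      exact h
    · have h := hb2 _ (ha2 k hk)
      have e : (a * b)⁻¹ * k * (a * b) = b⁻¹ * (a⁻¹ * k * a) * b := by group
      rw [e]
      exact h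
  inv_mem' := by
    rintro a ⟨ha1, ha2⟩
    refine ⟨fun k hk => ?_, fun k hk => ?_⟩
    · have h := ha2 k hk
      rwa [inv_inv]
    · have h := ha1 k hk
      rwa [inv_inv]

section
variable {F : Type*} [Field F]

theorem prodL_append (t : ℕ → F) (L1 L2 : List ℕ) :
    prodL chevF4 hF4 t (L1 ++ L2) = prodL chevF4 hF4 t L1 * prodL chevF4 hF4 t L2 := by
  unfold prodL
  rw [List.map_append, List.prod_append]

/-- the coefficient function of `aF` -/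
def tF (c1 z1 z2 c2 z3 z4 : F) : ℕ → F := fun k =>
  if k = 39 then c1 else if k = 40 then z1 else if k = 44 then z2 else if k = 45 then c2
  else if k = 46 then z3 else if k = 47 then z4 else 0

theorem aF_eq_prodL_six (c1 z1 z2 c2 z3 z4 : F) :
    aF c1 z1 z2 c2 z3 z4 = prodL chevF4 hF4 (tF c1 z1 z2 c2 z3 z4) six := by
  unfold aF prodL six tF
  simp

theorem aF_eq_prodL_pos (c1 z1 z2 c2 z3 z4 : F) :
    aF c1 z1 z2 c2 z3 z4 = prodL chevF4 hF4 (tF c1 z1 z2 c2 z3 z4) chevF4.posRoots := by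
  rw [posRoots_F4]
  unfold aF prodL tF
  simp [xG_zero]

theorem six_pos : ∀ r ∈ six, chevF4.IsPosRoot r := by decide +kernel

theorem aF_inj (c1 z1 z2 c2 z3 z4 c1' z1' z2' c2' z3' z4' : F)
    (h : aF c1 z1 z2 c2 z3 z4 = aF c1' z1' z2' c2' z3' z4') :
    c1 = c1' ∧ z1 = z1' ∧ z2 = z2' ∧ c2 = c2' ∧ z3 = z3' ∧ z4 = z4' := by
  rw [aF_eq_prodL_six, aF_eq_prodL_six] at h
  have hl : six.Pairwise (· < ·) := by decide
  have key := prodL_inj chevF4 hF4 _ _ six hl six_pos h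
  have k39 := key 39 (by decide)
  have k40 := key 40 (by decide)
  have k44 := key 44 (by decide)
  have k45 := key 45 (by decide)
  have k46 := key 46 (by decide)
  have k47 := key 47 (by decide)
  simp [tF] at k39 k40 k44 k45 k46 k47
  exact ⟨k39, k40, k44, k45, k46, k47⟩

theorem aF_mem_U (c1 z1 z2 c2 z3 z4 : F) : aF c1 z1 z2 c2 z3 z4 ∈ chevF4.posUnipotent F := by
  rw [aF_eq_prodL_six]
  exact prodL_mem_U chevF4 hF4 _ _ six_pos

/-- conjugating `aF` factor by factor -/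
theorem conj_aF (m : GL chevF4.Idx F) (σ : ℕ → ℕ) (φ : ℕ → F)
    (h : ∀ r ∈ six, ∀ t : F, m * X r t * m⁻¹ = X (σ r) (φ r * t)) (c1 z1 z2 c2 z3 z4 : F) :
    m * aF c1 z1 z2 c2 z3 z4 * m⁻¹ = X (σ 39) (φ 39 * c1) * (X (σ 40) (φ 40 * z1) *
      (X (σ 44) (φ 44 * z2) * (X (σ 45) (φ 45 * c2) * (X (σ 46) (φ 46 * z3) *
        X (σ 47) (φ 47 * z4))))) := by
  rw [← h 39 (by decide), ← h 40 (by decide), ← h 44 (by decide), ← h 45 (by decide),
    ← h 46 (by decide), ← h 47 (by decide)]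
  unfold aF
  group

variable [CharP F 2]

theorem gen1 (p : ℕ) (hp : chevF4.IsPosRoot p) (τ c1 z1 z2 c2 z3 z4 : F) :
    ∃ z1' z2' z3' z4' : F, X p τ * aF c1 z1 z2 c2 z3 z4 = aF c1 z1' z2' c2 z3' z4' * X p τ :=
  ⟨_, _, _, _, step_ok p hp τ c1 z1 z2 c2 z3 z4⟩

theorem gen2 (p : ℕ) (hp : chevF4.IsPosRoot p) (τ c1 z1 z2 c2 z3 z4 : F) :
    ∃ z1' z2' z3' z4' : F, aF c1 z1 z2 c2 z3 z4 * X p τ = X p τ * aF c1 z1' z2' c2 z3' z4' := by
  obtain ⟨z1', z2', z3', z4', h⟩ := gen1 p hp (-τ) c1 z1 z2 c2 z3 z4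
  refine ⟨z1', z2', z3', z4', ?_⟩
  have h2 : aF c1 z1 z2 c2 z3 z4 = (X p (-τ))⁻¹ * (aF c1 z1' z2' c2 z3' z4' * X p (-τ)) :=
    eq_inv_mul_of_mul_eq h
  rw [h2, xG_inv, neg_neg, mul_assoc, mul_assoc, xG_mul, neg_add_cancel, xG_zero, mul_one]

/-- `U` normalises the cosets of `K₄` in `A` -/
theorem U_conj_aF (v : GL chevF4.Idx F) (hv : v ∈ chevF4.posUnipotent F) :
    ∀ c1 z1 z2 c2 z3 z4 : F,
      (∃ z1' z2' z3' z4' : F, v * aF c1 z1 z2 c2 z3 z4 = aF c1 z1' z2' c2 z3' z4' * v) ∧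
      (∃ z1' z2' z3' z4' : F, aF c1 z1 z2 c2 z3 z4 * v = v * aF c1 z1' z2' c2 z3' z4') := by
  unfold ChevalleyDatum.posUnipotent at hv
  induction hv using Subgroup.closure_induction with
  | mem x hx =>
    obtain ⟨r, t, hr, hx⟩ := hx
    have hxr := eq_xG chevF4 hF4 x r t hx
    subst hxr
    intro c1 z1 z2 c2 z3 z4
    exact ⟨gen1 r hr t c1 z1 z2 c2 z3 z4, gen2 r hr t c1 z1 z2 c2 z3 z4⟩
  | one =>
    intro c1 z1 z2 c2 z3 z4
    exact ⟨⟨z1, z2, z3, z4, by rw [one_mul, mul_one]⟩, ⟨z1, z2, z3, z4, by rw [one_mul, mul_one]⟩⟩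
  | mul x y _ _ hx hy =>
    intro c1 z1 z2 c2 z3 z4
    constructor
    · obtain ⟨a1, a2, a3, a4, h1⟩ := (hy c1 z1 z2 c2 z3 z4).1
      obtain ⟨b1, b2, b3, b4, h2⟩ := (hx c1 a1 a2 c2 a3 a4).1
      exact ⟨b1, b2, b3, b4, by rw [mul_assoc, h1, ← mul_assoc, h2, mul_assoc]⟩
    · obtain ⟨a1, a2, a3, a4, h1⟩ := (hx c1 z1 z2 c2 z3 z4).2
      obtain ⟨b1, b2, b3, b4, h2⟩ := (hy c1 a1 a2 c2 a3 a4).2
      exact ⟨b1, b2, b3, b4, by rw [← mul_assoc, h1, mul_assoc, h2, ← mul_assoc]⟩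
  | inv x _ hx =>
    intro c1 z1 z2 c2 z3 z4
    constructor
    · obtain ⟨a1, a2, a3, a4, h1⟩ := (hx c1 z1 z2 c2 z3 z4).2
      refine ⟨a1, a2, a3, a4, ?_⟩
      have h2 : aF c1 z1 z2 c2 z3 z4 = x * aF c1 a1 a2 c2 a3 a4 * x⁻¹ := eq_mul_inv_of_mul_eq h1
      rw [h2]
      group
    · obtain ⟨a1, a2, a3, a4, h1⟩ := (hx c1 z1 z2 c2 z3 z4).1
      refine ⟨a1, a2, a3, a4, ?_⟩
      have h2 : aF c1 z1 z2 c2 z3 z4 = x⁻¹ * (aF c1 a1 a2 c2 a3 a4 * x) :=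
        eq_inv_mul_of_mul_eq h1
      rw [h2]
      group

/-- the `z`-coordinates after conjugating by an ordered product -/
def foldF (t : ℕ → F) (L : List ℕ) (c1 z1 z2 c2 z3 z4 : F) : F × F × F × F :=
  L.foldr (fun p acc => stepF p (t p) c1 acc.1 acc.2.1 c2 acc.2.2.1 acc.2.2.2) (z1, z2, z3, z4)

theorem fold_ok (t : ℕ → F) (L : List ℕ) (hL : ∀ r ∈ L, chevF4.IsPosRoot r)
    (c1 z1 z2 c2 z3 z4 : F) :
    prodL chevF4 hF4 t L * aF c1 z1 z2 c2 z3 z4 =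
      aF c1 (foldF t L c1 z1 z2 c2 z3 z4).1 (foldF t L c1 z1 z2 c2 z3 z4).2.1 c2
        (foldF t L c1 z1 z2 c2 z3 z4).2.2.1 (foldF t L c1 z1 z2 c2 z3 z4).2.2.2 *
        prodL chevF4 hF4 t L := by
  induction L with
  | nil =>
    show 1 * aF c1 z1 z2 c2 z3 z4 = aF c1 z1 z2 c2 z3 z4 * 1
    rw [one_mul, mul_one]
  | cons p L ih =>
    have ih' := ih (fun r hr => hL r (List.mem_cons_of_mem _ hr))
    have hs := step_ok p (hL p List.mem_cons_self) (t p) c1 (foldF t L c1 z1 z2 c2 z3 z4).1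
      (foldF t L c1 z1 z2 c2 z3 z4).2.1 c2 (foldF t L c1 z1 z2 c2 z3 z4).2.2.1
      (foldF t L c1 z1 z2 c2 z3 z4).2.2.2
    calc prodL chevF4 hF4 t (p :: L) * aF c1 z1 z2 c2 z3 z4
        = X p (t p) * (prodL chevF4 hF4 t L * aF c1 z1 z2 c2 z3 z4) := by
          rw [prodL_cons, mul_assoc]
      _ = (X p (t p) * aF c1 (foldF t L c1 z1 z2 c2 z3 z4).1 (foldF t L c1 z1 z2 c2 z3 z4).2.1 c2
            (foldF t L c1 z1 z2 c2 z3 z4).2.2.1 (foldF t L c1 z1 z2 c2 z3 z4).2.2.2) *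
            prodL chevF4 hF4 t L := by
          rw [ih', mul_assoc]
      _ = _ := by
          rw [hs, mul_assoc, ← prodL_cons]
          rfl

/-- the subgroup `X_40 X_44 X_46 X_47` -/
noncomputable def K4 (F : Type*) [Field F] : Subgroup (GL chevF4.Idx F) :=
  Subgroup.closure {g | ∃ z1 z2 z3 z4 : F, g = aF 0 z1 z2 0 z3 z4}

omit [CharP F 2] in
theorem aF0_mem_K4 (z1 z2 z3 z4 : F) : aF 0 z1 z2 0 z3 z4 ∈ K4 F :=
  Subgroup.subset_closure ⟨z1, z2, z3, z4, rfl⟩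

omit [CharP F 2] in
theorem X40_mem_K4 (y : F) : X 40 y ∈ K4 F := by
  have e : X 40 y = aF 0 y 0 0 0 0 := by
    unfold aF
    simp [xG_zero]
  rw [e]
  exact aF0_mem_K4 _ _ _ _

omit [CharP F 2] in
theorem X44_mem_K4 (y : F) : X 44 y ∈ K4 F := by
  have e : X 44 y = aF 0 0 y 0 0 0 := by
    unfold aF
    simp [xG_zero]
  rw [e]
  exact aF0_mem_K4 _ _ _ _

omit [CharP F 2] in
theorem X46_mem_K4 (y : F) : X 46 y ∈ K4 F := by
  have e : X 46 y = aF 0 0 0 0 y 0 := by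
    unfold aF
    simp [xG_zero]
  rw [e]
  exact aF0_mem_K4 _ _ _ _

omit [CharP F 2] in
theorem X47_mem_K4 (y : F) : X 47 y ∈ K4 F := by
  have e : X 47 y = aF 0 0 0 0 0 y := by
    unfold aF
    simp [xG_zero]
  rw [e]
  exact aF0_mem_K4 _ _ _ _

theorem B_conj_K4 (b : GL chevF4.Idx F) (hb : b ∈ chevF4.borelSubgroup F) :
    ∀ k ∈ K4 F, b * k * b⁻¹ ∈ K4 F := by
  intro k hk
  refine conj_closure_le {g | ∃ z1 z2 z3 z4 : F, g = aF 0 z1 z2 0 z3 z4} (K4 F) b ?_ k hk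
  rintro g ⟨z1, z2, z3, z4, rfl⟩
  obtain ⟨v, hv, h, hh, rfl⟩ := mem_borel chevF4 hF4 b hb
  have hH : ∀ r, ∃ χ : F, r < chevF4.nroots → ∀ t : F, h * X r t * h⁻¹ = X r (χ * t) := by
    intro r
    by_cases hr : r < chevF4.nroots
    · obtain ⟨χ, -, h1⟩ := H_conj chevF4 hF4 h hh r hr
      exact ⟨χ, fun _ => h1⟩
    · exact ⟨0, fun h' => absurd h' hr⟩
  choose χ hχ using hH
  have e1 := conj_aF h (fun r => r) χ (fun r hr t => hχ r (six_pos r hr).1 t) 0 z1 z2 0 z3 z4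
  have e2 : v * h * aF 0 z1 z2 0 z3 z4 * (v * h)⁻¹ =
      v * (h * aF 0 z1 z2 0 z3 z4 * h⁻¹) * v⁻¹ := by group
  rw [e2, e1, mul_zero, mul_zero]
  obtain ⟨a1, a2, a3, a4, h3⟩ := (U_conj_aF v hv 0 (χ 40 * z1) (χ 44 * z2) 0 (χ 46 * z3)
    (χ 47 * z4)).1
  have e3 : X 39 0 * (X 40 (χ 40 * z1) * (X 44 (χ 44 * z2) * (X 45 0 * (X 46 (χ 46 * z3) *
      X 47 (χ 47 * z4))))) = aF 0 (χ 40 * z1) (χ 44 * z2) 0 (χ 46 * z3) (χ 47 * z4) := rfl
  rw [e3, h3, mul_inv_cancel_right]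
  exact aF0_mem_K4 _ _ _ _

theorem B_le_T : chevF4.borelSubgroup F ≤ Stb (K4 F) := by
  intro b hb
  refine ⟨B_conj_K4 b hb, fun k hk => ?_⟩
  have h := B_conj_K4 b⁻¹ (Subgroup.inv_mem _ hb) k hk
  rwa [inv_inv] at h

theorem K4_le_cen27 : K4 F ≤ Subgroup.centralizer {X 27 (1 : F)} := by
  unfold K4
  rw [Subgroup.closure_le]
  rintro g ⟨z1, z2, z3, z4, rfl⟩
  rw [SetLike.mem_coe, Subgroup.mem_centralizer_iff]
  intro y hy
  rw [Set.mem_singleton_iff] at hy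
  subst hy
  rw [S27 (1 : F) 0 z1 z2 0 z3 z4]
  simp

theorem K4_le_cen25 : K4 F ≤ Subgroup.centralizer {X 25 (1 : F)} := by
  unfold K4
  rw [Subgroup.closure_le]
  rintro g ⟨z1, z2, z3, z4, rfl⟩
  rw [SetLike.mem_coe, Subgroup.mem_centralizer_iff]
  intro y hy
  rw [Set.mem_singleton_iff] at hy
  subst hy
  rw [S25 (1 : F) 0 z1 z2 0 z3 z4]
  simp

theorem n2_not_T : nGt chevF4 hF4 (chevF4.simple 1) (1 : F) ∉ Stb (K4 F) := by
  intro h
  have h1 := h.1 (X 40 1) (X40_mem_K4 1)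
  rw [nG_conj chevF4 hF4 1 (by decide) 40 (by decide) 1] at h1
  have hr : chevF4.reflectRoot 1 40 = 39 := by decide +kernel
  rw [hr] at h1
  have hη := eta_cast_sq (F := F) chevF4 hF4 1 40 (by decide) (by decide)
  have h2 := K4_le_cen27 h1
  rw [Subgroup.mem_centralizer_iff] at h2
  have h3 := h2 _ rfl
  rw [s39_27] at h3
  have h4 : X 40 (((etaOf chevF4 1 40 : ℤ) : F) * 1 * 1) = 1 := by
    have := mul_left_cancel (a := X 39 (((etaOf chevF4 1 40 : ℤ) : F) * 1) * X 27 (1 : F))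
      (b := X 40 (((etaOf chevF4 1 40 : ℤ) : F) * 1 * 1)) (c := 1) (h3.trans (mul_one _).symm)
    exact this
  rw [← xG_zero chevF4 hF4 40] at h4
  have h5 := xG_pos_inj chevF4 hF4 40 (by decide +kernel) _ _ h4
  rw [mul_one, mul_one] at h5
  rw [h5, mul_zero] at hη
  exact zero_ne_one hη

theorem n3_not_T : nGt chevF4 hF4 (chevF4.simple 2) (1 : F) ∉ Stb (K4 F) := by
  intro h
  have h1 := h.1 (X 46 1) (X46_mem_K4 1)
  rw [nG_conj chevF4 hF4 2 (by decide) 46 (by decide) 1] at h1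
  have hr : chevF4.reflectRoot 2 46 = 45 := by decide +kernel
  rw [hr] at h1
  have hη := eta_cast_sq (F := F) chevF4 hF4 2 46 (by decide) (by decide)
  have h2 := K4_le_cen25 h1
  rw [Subgroup.mem_centralizer_iff] at h2
  have h3 := h2 _ rfl
  rw [s45_25] at h3
  have h4 : X 46 (((etaOf chevF4 2 46 : ℤ) : F) * 1 * 1) = 1 := by
    have := mul_left_cancel (a := X 45 (((etaOf chevF4 2 46 : ℤ) : F) * 1) * X 25 (1 : F))
      (b := X 46 (((etaOf chevF4 2 46 : ℤ) : F) * 1 * 1)) (c := 1) (h3.trans (mul_one _).symm)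
    exact this
  rw [← xG_zero chevF4 hF4 46] at h4
  have h5 := xG_pos_inj chevF4 hF4 46 (by decide +kernel) _ _ h4
  rw [mul_one, mul_one] at h5
  rw [h5, mul_zero] at hη
  exact zero_ne_one hη

/-- the group generated by `n_{p₁}` and `n_{p₄}` -/
noncomputable def NB (F : Type*) [Field F] : Subgroup (GL chevF4.Idx F) :=
  Subgroup.closure {nGt chevF4 hF4 (chevF4.simple 0) (1 : F), nGt chevF4 hF4 (chevF4.simple 3) 1}

theorem rank4 : chevF4.rank = 4 := by decide +kernel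

theorem closure_le_NB : Subgroup.closure {g : GL chevF4.Idx F | ∃ i < chevF4.rank,
    g = nGt chevF4 hF4 (chevF4.simple i) 1 ∧ g ∈ Stb (K4 F)} ≤ NB F := by
  rw [Subgroup.closure_le]
  rintro g ⟨i, hi, rfl, hgT⟩
  rw [rank4] at hi
  interval_cases i
  · exact Subgroup.subset_closure (Or.inl rfl)
  · exact absurd hgT n2_not_T
  · exact absurd hgT n3_not_T
  · exact Subgroup.subset_closure (Or.inr rfl)

end

end Cfsg.Agent.helper6.F4Cen
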