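import Mathlib
import Cfsg.Agent.Lib_helper6_F4CenC

set_option autoImplicit false

/-! Centralisers of involutions in `F₄(2^k)`: the parabolic subgroup `P_{1,4}` (helper6). -/

namespace Cfsg.Agent.helper6.F4Cen

open Cfsg.Lie Cfsg.Agent.helper5.Chev

local notation "X" => xG chevF4 hF4

/-- the target subgroup of the second statement -/
noncomputable def Q2 (F : Type*) [Field F] : Subgroup (GL chevF4.Idx F) :=
  chevF4.rootSubgroup F 33 ⊔ chevF4.rootSubgroup F 14 ⊔ chevF4.rootSubgroup F 24 ⊔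
    chevF4.rootSubgroup F 23 ⊔
    Subgroup.closure {g : GL chevF4.Idx F | ∃ (r : ℕ) (c : F), chevF4.IsPosRoot r ∧
      r ∉ [27, 25, 34, 26] ∧ (g : Matrix chevF4.Idx chevF4.Idx F) = chevF4.x F r c}

/-- the roots of the unipotent radical of `P_{1,4}` -/
def UJroots : List ℕ := [25, 26, 27, 28, 29, 30, 31, 32, 34, 35, 36, 37, 38, 39, 40, 41, 42, 43,
  44, 45, 46, 47]

theorem qTab : ∀ r ∈ [33, 14, 24, 23], evenPair r 39 = true ∧ evenPair r 45 = true := by
  decide +kernel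

theorem posTab : ∀ r ∈ chevF4.posRoots, r ∉ [27, 25, 34, 26] →
    (r = 39 ∨ evenPair r 39 = true) ∧ (r = 45 ∨ evenPair r 45 = true) := by decide +kernel

theorem ujPos : ∀ r ∈ UJroots, chevF4.IsPosRoot r := by decide +kernel

theorem ujRefl : ∀ r ∈ UJroots, chevF4.reflectRoot 0 r ∈ UJroots ∧
    chevF4.reflectRoot 3 r ∈ UJroots ∧ r < chevF4.nroots := by decide +kernel

theorem ujTab : ∀ r ∈ UJroots, r < chevF4.nroots ∧ r ≠ 33 ∧ r ≠ chevF4.neg 33 ∧
    ∀ c ∈ chevF4.commTerms 33 r, c.1 ∈ UJroots := by decide +kernel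

theorem simple0 : chevF4.simple 0 = 33 := by decide +kernel
theorem simple3 : chevF4.simple 3 = 24 := by decide +kernel
theorem neg33 : chevF4.neg 33 = 14 := by decide +kernel
theorem neg24 : chevF4.neg 24 = 23 := by decide +kernel

section
variable {F : Type*} [Field F]

theorem X33_mem (t : F) : X 33 t ∈ Q2 F :=
  Subgroup.mem_sup_left (Subgroup.mem_sup_left (Subgroup.mem_sup_left (Subgroup.mem_sup_left
    (xG_mem_rootSubgroup chevF4 hF4 33 t))))
theorem X14_mem (t : F) : X 14 t ∈ Q2 F :=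
  Subgroup.mem_sup_left (Subgroup.mem_sup_left (Subgroup.mem_sup_left (Subgroup.mem_sup_right
    (xG_mem_rootSubgroup chevF4 hF4 14 t))))
theorem X24_mem (t : F) : X 24 t ∈ Q2 F :=
  Subgroup.mem_sup_left (Subgroup.mem_sup_left (Subgroup.mem_sup_right
    (xG_mem_rootSubgroup chevF4 hF4 24 t)))
theorem X23_mem (t : F) : X 23 t ∈ Q2 F :=
  Subgroup.mem_sup_left (Subgroup.mem_sup_right (xG_mem_rootSubgroup chevF4 hF4 23 t))
theorem Xpos_mem (r : ℕ) (hr : chevF4.IsPosRoot r) (hn : r ∉ [27, 25, 34, 26]) (c : F) :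
    X r c ∈ Q2 F :=
  Subgroup.mem_sup_right (Subgroup.subset_closure ⟨r, c, hr, hn, rfl⟩)

theorem cen_gen [CharP F 2] (r : ℕ) (h39 : r = 39 ∨ evenPair r 39 = true)
    (h45 : r = 45 ∨ evenPair r 45 = true) (a : F) :
    X r a ∈ Subgroup.centralizer {X 39 (1 : F) * X 45 1} := by
  rw [Subgroup.mem_centralizer_iff]
  intro y hy
  rw [Set.mem_singleton_iff] at hy
  subst hy
  exact ((commute_of_eq_or_even r 39 h39 a 1).mul_right
    (commute_of_eq_or_even r 45 h45 a 1)).eq.symm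

theorem Q2_le_cen [CharP F 2] : Q2 F ≤ Subgroup.centralizer {X 39 (1 : F) * X 45 1} := by
  unfold Q2
  refine sup_le (sup_le (sup_le (sup_le ?_ ?_) ?_) ?_) ?_
  · intro g hg
    obtain ⟨a, rfl⟩ := mem_rootSubgroup chevF4 hF4 _ g hg
    exact cen_gen 33 (Or.inr (qTab 33 (by decide)).1) (Or.inr (qTab 33 (by decide)).2) a
  · intro g hg
    obtain ⟨a, rfl⟩ := mem_rootSubgroup chevF4 hF4 _ g hg
    exact cen_gen 14 (Or.inr (qTab 14 (by decide)).1) (Or.inr (qTab 14 (by decide)).2) a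
  · intro g hg
    obtain ⟨a, rfl⟩ := mem_rootSubgroup chevF4 hF4 _ g hg
    exact cen_gen 24 (Or.inr (qTab 24 (by decide)).1) (Or.inr (qTab 24 (by decide)).2) a
  · intro g hg
    obtain ⟨a, rfl⟩ := mem_rootSubgroup chevF4 hF4 _ g hg
    exact cen_gen 23 (Or.inr (qTab 23 (by decide)).1) (Or.inr (qTab 23 (by decide)).2) a
  · rw [Subgroup.closure_le]
    rintro g ⟨r, c, hr, hn, hg⟩
    rw [eq_xG chevF4 hF4 g r c hg]
    have h := posTab r ((mem_posRoots chevF4 r).mpr hr) hn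
    exact cen_gen r h.1 h.2 c

theorem Q2_le_grp : Q2 F ≤ chevF4.group F := by
  unfold Q2
  refine sup_le (sup_le (sup_le (sup_le ?_ ?_) ?_) ?_) ?_
  · intro g hg
    obtain ⟨a, rfl⟩ := mem_rootSubgroup chevF4 hF4 _ g hg
    exact xG_mem_grp chevF4 hF4 _ (by decide) a
  · intro g hg
    obtain ⟨a, rfl⟩ := mem_rootSubgroup chevF4 hF4 _ g hg
    exact xG_mem_grp chevF4 hF4 _ (by decide) a
  · intro g hg
    obtain ⟨a, rfl⟩ := mem_rootSubgroup chevF4 hF4 _ g hg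
    exact xG_mem_grp chevF4 hF4 _ (by decide) a
  · intro g hg
    obtain ⟨a, rfl⟩ := mem_rootSubgroup chevF4 hF4 _ g hg
    exact xG_mem_grp chevF4 hF4 _ (by decide) a
  · rw [Subgroup.closure_le]
    rintro g ⟨r, c, hr, -, hg⟩
    rw [eq_xG chevF4 hF4 g r c hg]
    exact xG_mem_grp chevF4 hF4 _ hr.1 c

theorem nGt0_mem_Q2 (t : F) : nGt chevF4 hF4 (chevF4.simple 0) t ∈ Q2 F := by
  apply nGt_mem_of chevF4 hF4 (Q2 F) (chevF4.simple 0)
  · intro t
    rw [simple0]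
    exact X33_mem t
  · intro t
    rw [simple0, neg33]
    exact X14_mem t

theorem nGt3_mem_Q2 (t : F) : nGt chevF4 hF4 (chevF4.simple 3) t ∈ Q2 F := by
  apply nGt_mem_of chevF4 hF4 (Q2 F) (chevF4.simple 3)
  · intro t
    rw [simple3]
    exact X24_mem t
  · intro t
    rw [simple3, neg24]
    exact X23_mem t

theorem hGt0_mem_Q2 (t : F) : hGt chevF4 hF4 (chevF4.simple 0) t ∈ Q2 F := by
  unfold hGt
  exact Subgroup.mul_mem _ (nGt0_mem_Q2 t) (nGt0_mem_Q2 _)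

theorem hGt3_mem_Q2 (t : F) : hGt chevF4 hF4 (chevF4.simple 3) t ∈ Q2 F := by
  unfold hGt
  exact Subgroup.mul_mem _ (nGt3_mem_Q2 t) (nGt3_mem_Q2 _)

theorem NB_le_Q2 : NB F ≤ Q2 F := by
  unfold NB
  rw [Subgroup.closure_le]
  intro g hg
  rcases hg with rfl | hg
  · exact nGt0_mem_Q2 1
  · rw [Set.mem_singleton_iff] at hg
    rw [hg]
    exact nGt3_mem_Q2 1

/-- the unipotent radical of `P_{1,4}` -/
noncomputable def UJ (F : Type*) [Field F] : Subgroup (GL chevF4.Idx F) :=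
  Subgroup.closure {g | ∃ r ∈ UJroots, ∃ t : F, g = X r t}

theorem X_mem_UJ (r : ℕ) (hr : r ∈ UJroots) (t : F) : X r t ∈ UJ F :=
  Subgroup.subset_closure ⟨r, hr, t, rfl⟩

theorem UJ_le_U : UJ F ≤ chevF4.posUnipotent F := by
  unfold UJ
  rw [Subgroup.closure_le]
  rintro g ⟨r, hr, t, rfl⟩
  exact Subgroup.subset_closure ⟨r, t, ujPos r hr, rfl⟩

theorem nG_mem_Stb (i : ℕ) (hi : i < chevF4.rank)
    (hrefl : ∀ r ∈ UJroots, chevF4.reflectRoot i r ∈ UJroots) :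
    nGt chevF4 hF4 (chevF4.simple i) (1 : F) ∈ Stb (UJ F) := by
  constructor
  · intro k hk
    refine conj_closure_le {g | ∃ r ∈ UJroots, ∃ t : F, g = X r t} (UJ F) _ ?_ k hk
    rintro g ⟨r, hr, t, rfl⟩
    rw [nG_conj chevF4 hF4 i hi r (ujRefl r hr).2.2 t]
    exact X_mem_UJ _ (hrefl r hr) _
  · intro k hk
    have h := conj_closure_le {g | ∃ r ∈ UJroots, ∃ t : F, g = X r t} (UJ F)
      (nGt chevF4 hF4 (chevF4.simple i) (1 : F))⁻¹ ?_ k hk
    · rwa [inv_inv] at h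
    · rintro g ⟨r, hr, t, rfl⟩
      rw [inv_inv, nG_conj_inv chevF4 hF4 i hi r (ujRefl r hr).2.2 t]
      exact X_mem_UJ _ (hrefl r hr) _

theorem NB_le_Stb : NB F ≤ Stb (UJ F) := by
  unfold NB
  rw [Subgroup.closure_le]
  intro g hg
  rcases hg with rfl | hg
  · exact nG_mem_Stb 0 (by decide) (fun r hr => (ujRefl r hr).1)
  · rw [Set.mem_singleton_iff] at hg
    rw [hg]
    exact nG_mem_Stb 3 (by decide) (fun r hr => (ujRefl r hr).2.1)

/-- `X_{p₁}` normalises the unipotent radical -/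
theorem X33_conj_UJ (b : F) : ∀ v ∈ UJ F, (X 33 b)⁻¹ * v * X 33 b ∈ UJ F := by
  intro v hv
  have h := conj_closure_le {g | ∃ r ∈ UJroots, ∃ t : F, g = X r t} (UJ F) (X 33 b)⁻¹ ?_ v hv
  · rwa [inv_inv] at h
  · rintro g ⟨r, hr, t, rfl⟩
    obtain ⟨hlt, hne, hnn, hterms⟩ := ujTab r hr
    have hcf := commF_of_ok (F := F) chevF4 hF4 (commOK_of_mem chevF4 hF4) 33 (by decide) r hlt
      hne hnn b t
    have e : (X 33 b)⁻¹ * X r t * (X 33 b)⁻¹⁻¹ = X r t * cwG chevF4 hF4 33 r b t := by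
      rw [inv_inv, mul_assoc, hcf]
      group
    rw [e]
    refine Subgroup.mul_mem _ (X_mem_UJ r hr t) ?_
    unfold cwG
    apply Subgroup.list_prod_mem
    intro x hx
    obtain ⟨c, hc, rfl⟩ := List.mem_map.mp hx
    exact X_mem_UJ _ (hterms c hc) _

theorem prodL_single (t : ℕ → F) (r : ℕ) : prodL chevF4 hF4 t [r] = X r (t r) := by
  unfold prodL
  simp

theorem prodL_mem_UJ (t : ℕ → F) (L : List ℕ) (hL : ∀ r ∈ L, r ∈ UJroots) :
    prodL chevF4 hF4 t L ∈ UJ F := by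
  unfold prodL
  apply Subgroup.list_prod_mem
  intro x hx
  obtain ⟨r, hr, rfl⟩ := List.mem_map.mp hx
  exact X_mem_UJ r (hL r hr) _

/-- every element of `U` is `x_{p₄}(a) x_{p₁}(b)` times an element of the radical -/
theorem U_decomp2 (v : GL chevF4.Idx F) (hv : v ∈ chevF4.posUnipotent F) :
    ∃ a b : F, ∃ vJ ∈ UJ F, v = X 24 a * X 33 b * vJ := by
  obtain ⟨t, -, rfl⟩ := exists_prodL_U chevF4 hF4 (commOK_of_mem chevF4 hF4) v hv
  have e0 : chevF4.posRoots = [24] ++ ([25, 26, 27, 28, 29, 30, 31, 32] ++ ([33] ++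
      [34, 35, 36, 37, 38, 39, 40, 41, 42, 43, 44, 45, 46, 47])) := by
    rw [posRoots_F4]
    rfl
  refine ⟨t 24, t 33, (X 33 (t 33))⁻¹ * prodL chevF4 hF4 t [25, 26, 27, 28, 29, 30, 31, 32] *
    X 33 (t 33) * prodL chevF4 hF4 t [34, 35, 36, 37, 38, 39, 40, 41, 42, 43, 44, 45, 46, 47],
    ?_, ?_⟩
  · refine Subgroup.mul_mem _ (X33_conj_UJ _ _ (prodL_mem_UJ t _ (by decide))) ?_
    exact prodL_mem_UJ t _ (by decide)
  · rw [e0, prodL_append, prodL_append, prodL_append, prodL_single, prodL_single]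
    group

end

end Cfsg.Agent.helper6.F4Cen
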