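import Mathlib
import Cfsg.Agent.Lib_helper6_F4CenD

set_option autoImplicit false

/-! Centralisers of involutions in `F₄(2^k)`: the Borel case (helper6). -/

namespace Cfsg.Agent.helper6.F4Cen

open Cfsg.Lie Cfsg.Agent.helper5.Chev

local notation "X" => xG chevF4 hF4

section
variable {F : Type*} [Field F]

theorem aF_00 (c1 c2 : F) : aF c1 0 0 c2 0 0 = X 39 c1 * X 45 c2 := by
  unfold aF
  simp [xG_zero]

theorem hGt_one (r : ℕ) : hGt chevF4 hF4 r (1 : F) = 1 := by
  unfold hGt
  rw [nGt_neg_one, mul_inv_cancel]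

theorem B_case2 [CharP F 2] (b : GL chevF4.Idx F) (hb : b ∈ chevF4.borelSubgroup F)
    (hbC : b ∈ Subgroup.centralizer {X 39 (1 : F) * X 45 1}) : b ∈ Q2 F := by
  obtain ⟨v, hv, h, hh, rfl⟩ := mem_borel chevF4 hF4 b hb
  obtain ⟨c, hc, hhc⟩ := Cfsg.Agent.S1034.mem_torus chevF4 hF4 h hh
  have h39 := H_conj_torus chevF4 hF4 h c hc hhc 39 (by decide) 1
  have h45 := H_conj_torus chevF4 hF4 h c hc hhc 45 (by decide) 1
  rw [mul_one] at h39 h45
  obtain ⟨t, -, hvt⟩ := exists_prodL_U chevF4 hF4 (commOK_of_mem chevF4 hF4) v hv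
  rw [Subgroup.mem_centralizer_iff] at hbC
  have hcen := hbC _ rfl
  have h1 : v * aF (torusChar chevF4 c 39) 0 0 (torusChar chevF4 c 45) 0 0 =
      aF 1 0 0 1 0 0 * v := by
    rw [aF_00, aF_00, ← h39, ← h45]
    have e1 : v * (h * X 39 1 * h⁻¹ * (h * X 45 1 * h⁻¹)) =
        (v * h * (X 39 1 * X 45 1)) * h⁻¹ := by group
    rw [e1, ← hcen]
    group
  have h2 := fold_ok t chevF4.posRoots (fun r hr => (mem_posRoots chevF4 r).mp hr)
    (torusChar chevF4 c 39) 0 0 (torusChar chevF4 c 45) 0 0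
  rw [← hvt] at h2
  rw [h2] at h1
  have h3 := mul_right_cancel h1
  obtain ⟨k1, k2, k3, k4, k5, k6⟩ := aF_inj _ _ _ _ _ _ _ _ _ _ _ _ h3
  rw [posRoots_F4] at k2 k3 k5 k6
  simp [foldF, stepF, k1, k4] at k2 k3 k5 k6
  have k6' : t 26 = 0 := by
    rw [k5, zero_mul, zero_add] at k6
    exact k6
  have hvQ : v ∈ Q2 F := by
    rw [hvt]
    unfold prodL
    apply Subgroup.list_prod_mem
    intro x hx
    obtain ⟨r, hr, rfl⟩ := List.mem_map.mp hx
    by_cases hbad : r ∈ [27, 25, 34, 26]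
    · have ht0 : t r = 0 := by
        simp only [List.mem_cons, List.not_mem_nil, or_false] at hbad
        rcases hbad with rfl | rfl | rfl | rfl
        · exact k2
        · exact k5
        · exact k3
        · exact k6'
      rw [ht0, xG_zero]
      exact Subgroup.one_mem _
    · exact Xpos_mem r ((mem_posRoots chevF4 r).mp hr) hbad _
  have e0 : chevF4.cartan 0 39 = 0 := by decide +kernel
  have e1 : chevF4.cartan 1 39 = -1 := by decide +kernel
  have e2 : chevF4.cartan 2 39 = 1 := by decide +kernel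
  have e3 : chevF4.cartan 3 39 = 0 := by decide +kernel
  have f0 : chevF4.cartan 0 45 = 0 := by decide +kernel
  have f1 : chevF4.cartan 1 45 = 2 := by decide +kernel
  have f2 : chevF4.cartan 2 45 = -1 := by decide +kernel
  have f3 : chevF4.cartan 3 45 = 0 := by decide +kernel
  have hc39 : torusChar chevF4 c 39 = (c 1)⁻¹ * c 2 := by
    unfold torusChar
    rw [rank4, show List.range 4 = [0, 1, 2, 3] from rfl]
    simp [e0, e1, e2, e3]
  have hc45 : torusChar chevF4 c 45 = c 1 ^ 2 * (c 2)⁻¹ := by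
    unfold torusChar
    rw [rank4, show List.range 4 = [0, 1, 2, 3] from rfl]
    simp [f0, f1, f2, f3]
  have h1ne := hc 1
  rw [hc39] at k1
  rw [hc45] at k4
  have hc21 : c 2 = c 1 := by
    have h' := congrArg (fun x => c 1 * x) k1
    simp only [mul_inv_cancel_left₀ h1ne, mul_one] at h'
    exact h'
  rw [hc21] at k4
  have hc1 : c 1 = 1 := by
    rw [pow_two, mul_assoc, mul_inv_cancel₀ h1ne, mul_one] at k4
    exact k4
  have hc2 : c 2 = 1 := hc21.trans hc1
  have h5 : h = torP chevF4 hF4 c :=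
    Units.ext (by rw [hhc, torP_val chevF4 hF4 c (fun i _ => hc i)])
  have hhQ : h ∈ Q2 F := by
    rw [h5]
    unfold torP
    have hrange : List.range chevF4.rank = [0, 1, 2, 3] := by
      rw [rank4]
      rfl
    rw [hrange]
    simp only [List.map_cons, List.map_nil, List.prod_cons, List.prod_nil, mul_one]
    rw [hc1, hc2, hGt_one, hGt_one, one_mul, one_mul]
    exact Subgroup.mul_mem _ (hGt0_mem_Q2 _) (hGt3_mem_Q2 _)
  exact Subgroup.mul_mem _ hvQ hhQ

end

end Cfsg.Agent.helper6.F4Cen
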