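import Mathlib
import Cfsg.Agent.Lib_helper6_F4CenB

set_option autoImplicit false

/-! Centralisers of involutions in `F₄(2^k)`: the Weyl group orbit of six roots (helper6). -/

namespace Cfsg.Agent.helper6.F4Cen

open Cfsg.Lie Cfsg.Agent.helper5.Chev

/-- the tables of the four fundamental reflections -/
def tabs : List (List ℕ) :=
  [[0, 1, 2, 7, 15, 16, 17, 3, 8, 9, 10, 18, 19, 20, 33, 4, 5, 6, 11, 12, 13, 21, 22, 23, 24, 25, 26, 34, 35, 36, 41, 42, 43, 14, 27, 28, 29, 37, 38, 39, 44, 30, 31, 32, 40, 45, 46, 47],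
   [0, 1, 4, 3, 2, 5, 6, 8, 7, 11, 12, 9, 10, 14, 13, 15, 21, 22, 18, 19, 27, 16, 17, 23, 24, 30, 31, 20, 28, 29, 25, 26, 32, 34, 33, 37, 38, 35, 36, 40, 39, 41, 42, 45, 44, 43, 46, 47],
   [0, 2, 1, 3, 5, 4, 6, 7, 9, 8, 10, 11, 13, 12, 14, 16, 15, 17, 18, 20, 19, 23, 25, 21, 26, 22, 24, 28, 27, 29, 30, 32, 31, 33, 35, 34, 36, 37, 39, 38, 40, 41, 43, 42, 44, 46, 45, 47],
   [1, 0, 2, 3, 4, 6, 5, 7, 8, 10, 9, 12, 11, 13, 14, 15, 17, 16, 19, 18, 20, 22, 21, 24, 23, 26, 25, 27, 29, 28, 31, 30, 32, 33, 34, 36, 35, 38, 37, 39, 40, 42, 41, 43, 44, 45, 47, 46]]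

set_option maxRecDepth 1000000 in
set_option maxHeartbeats 0 in
theorem tabs_ok : ∀ i < 4, ∀ r < 48, chevF4.reflectRoot i r = (tabs.getD i []).getD r 0 := by
  decide +kernel

/-- the orbit of the tuple `(39, 40, 44, 45, 46, 47)` under the Weyl group, grouped by the first
entry -/
def orbG : List (List (List ℕ)) :=
  [[],
   [],
   [],
   [[3, 7, 8, 15, 0, 1], [3, 7, 8, 15, 1, 0], [3, 7, 9, 16, 0, 2], [3, 7, 9, 16, 2, 0], [3, 7, 10, 17, 1, 2], [3, 7, 10, 17, 2, 1],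
     [3, 8, 7, 15, 0, 1], [3, 8, 7, 15, 1, 0], [3, 8, 11, 21, 0, 4], [3, 8, 11, 21, 4, 0], [3, 8, 12, 22, 1, 4], [3, 8, 12, 22, 4, 1],
     [3, 9, 7, 16, 0, 2], [3, 9, 7, 16, 2, 0], [3, 9, 11, 23, 0, 5], [3, 9, 11, 23, 5, 0], [3, 9, 13, 25, 2, 5], [3, 9, 13, 25, 5, 2],
     [3, 10, 7, 17, 1, 2], [3, 10, 7, 17, 2, 1], [3, 10, 12, 24, 1, 6], [3, 10, 12, 24, 6, 1], [3, 10, 13, 26, 2, 6], [3, 10, 13, 26, 6, 2],
     [3, 11, 8, 21, 0, 4], [3, 11, 8, 21, 4, 0], [3, 11, 9, 23, 0, 5], [3, 11, 9, 23, 5, 0], [3, 11, 14, 30, 4, 5], [3, 11, 14, 30, 5, 4],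
     [3, 12, 8, 22, 1, 4], [3, 12, 8, 22, 4, 1], [3, 12, 10, 24, 1, 6], [3, 12, 10, 24, 6, 1], [3, 12, 14, 31, 4, 6], [3, 12, 14, 31, 6, 4],
     [3, 13, 9, 25, 2, 5], [3, 13, 9, 25, 5, 2], [3, 13, 10, 26, 2, 6], [3, 13, 10, 26, 6, 2], [3, 13, 14, 32, 5, 6], [3, 13, 14, 32, 6, 5],
     [3, 14, 11, 30, 4, 5], [3, 14, 11, 30, 5, 4], [3, 14, 12, 31, 4, 6], [3, 14, 12, 31, 6, 4], [3, 14, 13, 32, 5, 6], [3, 14, 13, 32, 6, 5]],
   [],
   [],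
   [],
   [[7, 3, 8, 4, 0, 1], [7, 3, 8, 4, 1, 0], [7, 3, 9, 5, 0, 2], [7, 3, 9, 5, 2, 0], [7, 3, 10, 6, 1, 2], [7, 3, 10, 6, 2, 1],
     [7, 8, 3, 4, 0, 1], [7, 8, 3, 4, 1, 0], [7, 8, 18, 21, 0, 15], [7, 8, 18, 21, 15, 0], [7, 8, 19, 22, 1, 15], [7, 8, 19, 22, 15, 1],
     [7, 9, 3, 5, 0, 2], [7, 9, 3, 5, 2, 0], [7, 9, 18, 23, 0, 16], [7, 9, 18, 23, 16, 0], [7, 9, 20, 25, 2, 16], [7, 9, 20, 25, 16, 2],
     [7, 10, 3, 6, 1, 2], [7, 10, 3, 6, 2, 1], [7, 10, 19, 24, 1, 17], [7, 10, 19, 24, 17, 1], [7, 10, 20, 26, 2, 17], [7, 10, 20, 26, 17, 2],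
     [7, 18, 8, 21, 0, 15], [7, 18, 8, 21, 15, 0], [7, 18, 9, 23, 0, 16], [7, 18, 9, 23, 16, 0], [7, 18, 33, 41, 15, 16], [7, 18, 33, 41, 16, 15],
     [7, 19, 8, 22, 1, 15], [7, 19, 8, 22, 15, 1], [7, 19, 10, 24, 1, 17], [7, 19, 10, 24, 17, 1], [7, 19, 33, 42, 15, 17], [7, 19, 33, 42, 17, 15],
     [7, 20, 9, 25, 2, 16], [7, 20, 9, 25, 16, 2], [7, 20, 10, 26, 2, 17], [7, 20, 10, 26, 17, 2], [7, 20, 33, 43, 16, 17], [7, 20, 33, 43, 17, 16],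
     [7, 33, 18, 41, 15, 16], [7, 33, 18, 41, 16, 15], [7, 33, 19, 42, 15, 17], [7, 33, 19, 42, 17, 15], [7, 33, 20, 43, 16, 17], [7, 33, 20, 43, 17, 16]],
   [[8, 3, 7, 2, 0, 1], [8, 3, 7, 2, 1, 0], [8, 3, 11, 5, 0, 4], [8, 3, 11, 5, 4, 0], [8, 3, 12, 6, 1, 4], [8, 3, 12, 6, 4, 1],
     [8, 7, 3, 2, 0, 1], [8, 7, 3, 2, 1, 0], [8, 7, 18, 16, 0, 15], [8, 7, 18, 16, 15, 0], [8, 7, 19, 17, 1, 15], [8, 7, 19, 17, 15, 1],
     [8, 11, 3, 5, 0, 4], [8, 11, 3, 5, 4, 0], [8, 11, 18, 23, 0, 21], [8, 11, 18, 23, 21, 0], [8, 11, 27, 30, 4, 21], [8, 11, 27, 30, 21, 4],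
     [8, 12, 3, 6, 1, 4], [8, 12, 3, 6, 4, 1], [8, 12, 19, 24, 1, 22], [8, 12, 19, 24, 22, 1], [8, 12, 27, 31, 4, 22], [8, 12, 27, 31, 22, 4],
     [8, 18, 7, 16, 0, 15], [8, 18, 7, 16, 15, 0], [8, 18, 11, 23, 0, 21], [8, 18, 11, 23, 21, 0], [8, 18, 34, 41, 15, 21], [8, 18, 34, 41, 21, 15],
     [8, 19, 7, 17, 1, 15], [8, 19, 7, 17, 15, 1], [8, 19, 12, 24, 1, 22], [8, 19, 12, 24, 22, 1], [8, 19, 34, 42, 15, 22], [8, 19, 34, 42, 22, 15],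
     [8, 27, 11, 30, 4, 21], [8, 27, 11, 30, 21, 4], [8, 27, 12, 31, 4, 22], [8, 27, 12, 31, 22, 4], [8, 27, 34, 45, 21, 22], [8, 27, 34, 45, 22, 21],
     [8, 34, 18, 41, 15, 21], [8, 34, 18, 41, 21, 15], [8, 34, 19, 42, 15, 22], [8, 34, 19, 42, 22, 15], [8, 34, 27, 45, 21, 22], [8, 34, 27, 45, 22, 21]],
   [[9, 3, 7, 1, 0, 2], [9, 3, 7, 1, 2, 0], [9, 3, 11, 4, 0, 5], [9, 3, 11, 4, 5, 0], [9, 3, 13, 6, 2, 5], [9, 3, 13, 6, 5, 2],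
     [9, 7, 3, 1, 0, 2], [9, 7, 3, 1, 2, 0], [9, 7, 18, 15, 0, 16], [9, 7, 18, 15, 16, 0], [9, 7, 20, 17, 2, 16], [9, 7, 20, 17, 16, 2],
     [9, 11, 3, 4, 0, 5], [9, 11, 3, 4, 5, 0], [9, 11, 18, 21, 0, 23], [9, 11, 18, 21, 23, 0], [9, 11, 28, 30, 5, 23], [9, 11, 28, 30, 23, 5],
     [9, 13, 3, 6, 2, 5], [9, 13, 3, 6, 5, 2], [9, 13, 20, 26, 2, 25], [9, 13, 20, 26, 25, 2], [9, 13, 28, 32, 5, 25], [9, 13, 28, 32, 25, 5],
     [9, 18, 7, 15, 0, 16], [9, 18, 7, 15, 16, 0], [9, 18, 11, 21, 0, 23], [9, 18, 11, 21, 23, 0], [9, 18, 35, 41, 16, 23], [9, 18, 35, 41, 23, 16],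
     [9, 20, 7, 17, 2, 16], [9, 20, 7, 17, 16, 2], [9, 20, 13, 26, 2, 25], [9, 20, 13, 26, 25, 2], [9, 20, 35, 43, 16, 25], [9, 20, 35, 43, 25, 16],
     [9, 28, 11, 30, 5, 23], [9, 28, 11, 30, 23, 5], [9, 28, 13, 32, 5, 25], [9, 28, 13, 32, 25, 5], [9, 28, 35, 46, 23, 25], [9, 28, 35, 46, 25, 23],
     [9, 35, 18, 41, 16, 23], [9, 35, 18, 41, 23, 16], [9, 35, 20, 43, 16, 25], [9, 35, 20, 43, 25, 16], [9, 35, 28, 46, 23, 25], [9, 35, 28, 46, 25, 23]],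
   [[10, 3, 7, 0, 1, 2], [10, 3, 7, 0, 2, 1], [10, 3, 12, 4, 1, 6], [10, 3, 12, 4, 6, 1], [10, 3, 13, 5, 2, 6], [10, 3, 13, 5, 6, 2],
     [10, 7, 3, 0, 1, 2], [10, 7, 3, 0, 2, 1], [10, 7, 19, 15, 1, 17], [10, 7, 19, 15, 17, 1], [10, 7, 20, 16, 2, 17], [10, 7, 20, 16, 17, 2],
     [10, 12, 3, 4, 1, 6], [10, 12, 3, 4, 6, 1], [10, 12, 19, 22, 1, 24], [10, 12, 19, 22, 24, 1], [10, 12, 29, 31, 6, 24], [10, 12, 29, 31, 24, 6],
     [10, 13, 3, 5, 2, 6], [10, 13, 3, 5, 6, 2], [10, 13, 20, 25, 2, 26], [10, 13, 20, 25, 26, 2], [10, 13, 29, 32, 6, 26], [10, 13, 29, 32, 26, 6],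
     [10, 19, 7, 15, 1, 17], [10, 19, 7, 15, 17, 1], [10, 19, 12, 22, 1, 24], [10, 19, 12, 22, 24, 1], [10, 19, 36, 42, 17, 24], [10, 19, 36, 42, 24, 17],
     [10, 20, 7, 16, 2, 17], [10, 20, 7, 16, 17, 2], [10, 20, 13, 25, 2, 26], [10, 20, 13, 25, 26, 2], [10, 20, 36, 43, 17, 26], [10, 20, 36, 43, 26, 17],
     [10, 29, 12, 31, 6, 24], [10, 29, 12, 31, 24, 6], [10, 29, 13, 32, 6, 26], [10, 29, 13, 32, 26, 6], [10, 29, 36, 47, 24, 26], [10, 29, 36, 47, 26, 24],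
     [10, 36, 19, 42, 17, 24], [10, 36, 19, 42, 24, 17], [10, 36, 20, 43, 17, 26], [10, 36, 20, 43, 26, 17], [10, 36, 29, 47, 24, 26], [10, 36, 29, 47, 26, 24]],
   [[11, 3, 8, 1, 0, 4], [11, 3, 8, 1, 4, 0], [11, 3, 9, 2, 0, 5], [11, 3, 9, 2, 5, 0], [11, 3, 14, 6, 4, 5], [11, 3, 14, 6, 5, 4],
     [11, 8, 3, 1, 0, 4], [11, 8, 3, 1, 4, 0], [11, 8, 18, 15, 0, 21], [11, 8, 18, 15, 21, 0], [11, 8, 27, 22, 4, 21], [11, 8, 27, 22, 21, 4],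
     [11, 9, 3, 2, 0, 5], [11, 9, 3, 2, 5, 0], [11, 9, 18, 16, 0, 23], [11, 9, 18, 16, 23, 0], [11, 9, 28, 25, 5, 23], [11, 9, 28, 25, 23, 5],
     [11, 14, 3, 6, 4, 5], [11, 14, 3, 6, 5, 4], [11, 14, 27, 31, 4, 30], [11, 14, 27, 31, 30, 4], [11, 14, 28, 32, 5, 30], [11, 14, 28, 32, 30, 5],
     [11, 18, 8, 15, 0, 21], [11, 18, 8, 15, 21, 0], [11, 18, 9, 16, 0, 23], [11, 18, 9, 16, 23, 0], [11, 18, 37, 41, 21, 23], [11, 18, 37, 41, 23, 21],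
     [11, 27, 8, 22, 4, 21], [11, 27, 8, 22, 21, 4], [11, 27, 14, 31, 4, 30], [11, 27, 14, 31, 30, 4], [11, 27, 37, 45, 21, 30], [11, 27, 37, 45, 30, 21],
     [11, 28, 9, 25, 5, 23], [11, 28, 9, 25, 23, 5], [11, 28, 14, 32, 5, 30], [11, 28, 14, 32, 30, 5], [11, 28, 37, 46, 23, 30], [11, 28, 37, 46, 30, 23],
     [11, 37, 18, 41, 21, 23], [11, 37, 18, 41, 23, 21], [11, 37, 27, 45, 21, 30], [11, 37, 27, 45, 30, 21], [11, 37, 28, 46, 23, 30], [11, 37, 28, 46, 30, 23]],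
   [[12, 3, 8, 0, 1, 4], [12, 3, 8, 0, 4, 1], [12, 3, 10, 2, 1, 6], [12, 3, 10, 2, 6, 1], [12, 3, 14, 5, 4, 6], [12, 3, 14, 5, 6, 4],
     [12, 8, 3, 0, 1, 4], [12, 8, 3, 0, 4, 1], [12, 8, 19, 15, 1, 22], [12, 8, 19, 15, 22, 1], [12, 8, 27, 21, 4, 22], [12, 8, 27, 21, 22, 4],
     [12, 10, 3, 2, 1, 6], [12, 10, 3, 2, 6, 1], [12, 10, 19, 17, 1, 24], [12, 10, 19, 17, 24, 1], [12, 10, 29, 26, 6, 24], [12, 10, 29, 26, 24, 6],
     [12, 14, 3, 5, 4, 6], [12, 14, 3, 5, 6, 4], [12, 14, 27, 30, 4, 31], [12, 14, 27, 30, 31, 4], [12, 14, 29, 32, 6, 31], [12, 14, 29, 32, 31, 6],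
     [12, 19, 8, 15, 1, 22], [12, 19, 8, 15, 22, 1], [12, 19, 10, 17, 1, 24], [12, 19, 10, 17, 24, 1], [12, 19, 38, 42, 22, 24], [12, 19, 38, 42, 24, 22],
     [12, 27, 8, 21, 4, 22], [12, 27, 8, 21, 22, 4], [12, 27, 14, 30, 4, 31], [12, 27, 14, 30, 31, 4], [12, 27, 38, 45, 22, 31], [12, 27, 38, 45, 31, 22],
     [12, 29, 10, 26, 6, 24], [12, 29, 10, 26, 24, 6], [12, 29, 14, 32, 6, 31], [12, 29, 14, 32, 31, 6], [12, 29, 38, 47, 24, 31], [12, 29, 38, 47, 31, 24],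
     [12, 38, 19, 42, 22, 24], [12, 38, 19, 42, 24, 22], [12, 38, 27, 45, 22, 31], [12, 38, 27, 45, 31, 22], [12, 38, 29, 47, 24, 31], [12, 38, 29, 47, 31, 24]],
   [[13, 3, 9, 0, 2, 5], [13, 3, 9, 0, 5, 2], [13, 3, 10, 1, 2, 6], [13, 3, 10, 1, 6, 2], [13, 3, 14, 4, 5, 6], [13, 3, 14, 4, 6, 5],
     [13, 9, 3, 0, 2, 5], [13, 9, 3, 0, 5, 2], [13, 9, 20, 16, 2, 25], [13, 9, 20, 16, 25, 2], [13, 9, 28, 23, 5, 25], [13, 9, 28, 23, 25, 5],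
     [13, 10, 3, 1, 2, 6], [13, 10, 3, 1, 6, 2], [13, 10, 20, 17, 2, 26], [13, 10, 20, 17, 26, 2], [13, 10, 29, 24, 6, 26], [13, 10, 29, 24, 26, 6],
     [13, 14, 3, 4, 5, 6], [13, 14, 3, 4, 6, 5], [13, 14, 28, 30, 5, 32], [13, 14, 28, 30, 32, 5], [13, 14, 29, 31, 6, 32], [13, 14, 29, 31, 32, 6],
     [13, 20, 9, 16, 2, 25], [13, 20, 9, 16, 25, 2], [13, 20, 10, 17, 2, 26], [13, 20, 10, 17, 26, 2], [13, 20, 39, 43, 25, 26], [13, 20, 39, 43, 26, 25],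
     [13, 28, 9, 23, 5, 25], [13, 28, 9, 23, 25, 5], [13, 28, 14, 30, 5, 32], [13, 28, 14, 30, 32, 5], [13, 28, 39, 46, 25, 32], [13, 28, 39, 46, 32, 25],
     [13, 29, 10, 24, 6, 26], [13, 29, 10, 24, 26, 6], [13, 29, 14, 31, 6, 32], [13, 29, 14, 31, 32, 6], [13, 29, 39, 47, 26, 32], [13, 29, 39, 47, 32, 26],
     [13, 39, 20, 43, 25, 26], [13, 39, 20, 43, 26, 25], [13, 39, 28, 46, 25, 32], [13, 39, 28, 46, 32, 25], [13, 39, 29, 47, 26, 32], [13, 39, 29, 47, 32, 26]],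
   [[14, 3, 11, 0, 4, 5], [14, 3, 11, 0, 5, 4], [14, 3, 12, 1, 4, 6], [14, 3, 12, 1, 6, 4], [14, 3, 13, 2, 5, 6], [14, 3, 13, 2, 6, 5],
     [14, 11, 3, 0, 4, 5], [14, 11, 3, 0, 5, 4], [14, 11, 27, 21, 4, 30], [14, 11, 27, 21, 30, 4], [14, 11, 28, 23, 5, 30], [14, 11, 28, 23, 30, 5],
     [14, 12, 3, 1, 4, 6], [14, 12, 3, 1, 6, 4], [14, 12, 27, 22, 4, 31], [14, 12, 27, 22, 31, 4], [14, 12, 29, 24, 6, 31], [14, 12, 29, 24, 31, 6],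
     [14, 13, 3, 2, 5, 6], [14, 13, 3, 2, 6, 5], [14, 13, 28, 25, 5, 32], [14, 13, 28, 25, 32, 5], [14, 13, 29, 26, 6, 32], [14, 13, 29, 26, 32, 6],
     [14, 27, 11, 21, 4, 30], [14, 27, 11, 21, 30, 4], [14, 27, 12, 22, 4, 31], [14, 27, 12, 22, 31, 4], [14, 27, 40, 45, 30, 31], [14, 27, 40, 45, 31, 30],
     [14, 28, 11, 23, 5, 30], [14, 28, 11, 23, 30, 5], [14, 28, 13, 25, 5, 32], [14, 28, 13, 25, 32, 5], [14, 28, 40, 46, 30, 32], [14, 28, 40, 46, 32, 30],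
     [14, 29, 12, 24, 6, 31], [14, 29, 12, 24, 31, 6], [14, 29, 13, 26, 6, 32], [14, 29, 13, 26, 32, 6], [14, 29, 40, 47, 31, 32], [14, 29, 40, 47, 32, 31],
     [14, 40, 27, 45, 30, 31], [14, 40, 27, 45, 31, 30], [14, 40, 28, 46, 30, 32], [14, 40, 28, 46, 32, 30], [14, 40, 29, 47, 31, 32], [14, 40, 29, 47, 32, 31]],
   [],
   [],
   [],
   [[18, 7, 8, 1, 0, 15], [18, 7, 8, 1, 15, 0], [18, 7, 9, 2, 0, 16], [18, 7, 9, 2, 16, 0], [18, 7, 33, 17, 15, 16], [18, 7, 33, 17, 16, 15],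
     [18, 8, 7, 1, 0, 15], [18, 8, 7, 1, 15, 0], [18, 8, 11, 4, 0, 21], [18, 8, 11, 4, 21, 0], [18, 8, 34, 22, 15, 21], [18, 8, 34, 22, 21, 15],
     [18, 9, 7, 2, 0, 16], [18, 9, 7, 2, 16, 0], [18, 9, 11, 5, 0, 23], [18, 9, 11, 5, 23, 0], [18, 9, 35, 25, 16, 23], [18, 9, 35, 25, 23, 16],
     [18, 11, 8, 4, 0, 21], [18, 11, 8, 4, 21, 0], [18, 11, 9, 5, 0, 23], [18, 11, 9, 5, 23, 0], [18, 11, 37, 30, 21, 23], [18, 11, 37, 30, 23, 21],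
     [18, 33, 7, 17, 15, 16], [18, 33, 7, 17, 16, 15], [18, 33, 34, 42, 15, 41], [18, 33, 34, 42, 41, 15], [18, 33, 35, 43, 16, 41], [18, 33, 35, 43, 41, 16],
     [18, 34, 8, 22, 15, 21], [18, 34, 8, 22, 21, 15], [18, 34, 33, 42, 15, 41], [18, 34, 33, 42, 41, 15], [18, 34, 37, 45, 21, 41], [18, 34, 37, 45, 41, 21],
     [18, 35, 9, 25, 16, 23], [18, 35, 9, 25, 23, 16], [18, 35, 33, 43, 16, 41], [18, 35, 33, 43, 41, 16], [18, 35, 37, 46, 23, 41], [18, 35, 37, 46, 41, 23],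
     [18, 37, 11, 30, 21, 23], [18, 37, 11, 30, 23, 21], [18, 37, 34, 45, 21, 41], [18, 37, 34, 45, 41, 21], [18, 37, 35, 46, 23, 41], [18, 37, 35, 46, 41, 23]],
   [[19, 7, 8, 0, 1, 15], [19, 7, 8, 0, 15, 1], [19, 7, 10, 2, 1, 17], [19, 7, 10, 2, 17, 1], [19, 7, 33, 16, 15, 17], [19, 7, 33, 16, 17, 15],
     [19, 8, 7, 0, 1, 15], [19, 8, 7, 0, 15, 1], [19, 8, 12, 4, 1, 22], [19, 8, 12, 4, 22, 1], [19, 8, 34, 21, 15, 22], [19, 8, 34, 21, 22, 15],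
     [19, 10, 7, 2, 1, 17], [19, 10, 7, 2, 17, 1], [19, 10, 12, 6, 1, 24], [19, 10, 12, 6, 24, 1], [19, 10, 36, 26, 17, 24], [19, 10, 36, 26, 24, 17],
     [19, 12, 8, 4, 1, 22], [19, 12, 8, 4, 22, 1], [19, 12, 10, 6, 1, 24], [19, 12, 10, 6, 24, 1], [19, 12, 38, 31, 22, 24], [19, 12, 38, 31, 24, 22],
     [19, 33, 7, 16, 15, 17], [19, 33, 7, 16, 17, 15], [19, 33, 34, 41, 15, 42], [19, 33, 34, 41, 42, 15], [19, 33, 36, 43, 17, 42], [19, 33, 36, 43, 42, 17],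
     [19, 34, 8, 21, 15, 22], [19, 34, 8, 21, 22, 15], [19, 34, 33, 41, 15, 42], [19, 34, 33, 41, 42, 15], [19, 34, 38, 45, 22, 42], [19, 34, 38, 45, 42, 22],
     [19, 36, 10, 26, 17, 24], [19, 36, 10, 26, 24, 17], [19, 36, 33, 43, 17, 42], [19, 36, 33, 43, 42, 17], [19, 36, 38, 47, 24, 42], [19, 36, 38, 47, 42, 24],
     [19, 38, 12, 31, 22, 24], [19, 38, 12, 31, 24, 22], [19, 38, 34, 45, 22, 42], [19, 38, 34, 45, 42, 22], [19, 38, 36, 47, 24, 42], [19, 38, 36, 47, 42, 24]],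
   [[20, 7, 9, 0, 2, 16], [20, 7, 9, 0, 16, 2], [20, 7, 10, 1, 2, 17], [20, 7, 10, 1, 17, 2], [20, 7, 33, 15, 16, 17], [20, 7, 33, 15, 17, 16],
     [20, 9, 7, 0, 2, 16], [20, 9, 7, 0, 16, 2], [20, 9, 13, 5, 2, 25], [20, 9, 13, 5, 25, 2], [20, 9, 35, 23, 16, 25], [20, 9, 35, 23, 25, 16],
     [20, 10, 7, 1, 2, 17], [20, 10, 7, 1, 17, 2], [20, 10, 13, 6, 2, 26], [20, 10, 13, 6, 26, 2], [20, 10, 36, 24, 17, 26], [20, 10, 36, 24, 26, 17],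
     [20, 13, 9, 5, 2, 25], [20, 13, 9, 5, 25, 2], [20, 13, 10, 6, 2, 26], [20, 13, 10, 6, 26, 2], [20, 13, 39, 32, 25, 26], [20, 13, 39, 32, 26, 25],
     [20, 33, 7, 15, 16, 17], [20, 33, 7, 15, 17, 16], [20, 33, 35, 41, 16, 43], [20, 33, 35, 41, 43, 16], [20, 33, 36, 42, 17, 43], [20, 33, 36, 42, 43, 17],
     [20, 35, 9, 23, 16, 25], [20, 35, 9, 23, 25, 16], [20, 35, 33, 41, 16, 43], [20, 35, 33, 41, 43, 16], [20, 35, 39, 46, 25, 43], [20, 35, 39, 46, 43, 25],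
     [20, 36, 10, 24, 17, 26], [20, 36, 10, 24, 26, 17], [20, 36, 33, 42, 17, 43], [20, 36, 33, 42, 43, 17], [20, 36, 39, 47, 26, 43], [20, 36, 39, 47, 43, 26],
     [20, 39, 13, 32, 25, 26], [20, 39, 13, 32, 26, 25], [20, 39, 35, 46, 25, 43], [20, 39, 35, 46, 43, 25], [20, 39, 36, 47, 26, 43], [20, 39, 36, 47, 43, 26]],
   [],
   [],
   [],
   [],
   [],
   [],
   [[27, 8, 11, 0, 4, 21], [27, 8, 11, 0, 21, 4], [27, 8, 12, 1, 4, 22], [27, 8, 12, 1, 22, 4], [27, 8, 34, 15, 21, 22], [27, 8, 34, 15, 22, 21],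
     [27, 11, 8, 0, 4, 21], [27, 11, 8, 0, 21, 4], [27, 11, 14, 5, 4, 30], [27, 11, 14, 5, 30, 4], [27, 11, 37, 23, 21, 30], [27, 11, 37, 23, 30, 21],
     [27, 12, 8, 1, 4, 22], [27, 12, 8, 1, 22, 4], [27, 12, 14, 6, 4, 31], [27, 12, 14, 6, 31, 4], [27, 12, 38, 24, 22, 31], [27, 12, 38, 24, 31, 22],
     [27, 14, 11, 5, 4, 30], [27, 14, 11, 5, 30, 4], [27, 14, 12, 6, 4, 31], [27, 14, 12, 6, 31, 4], [27, 14, 40, 32, 30, 31], [27, 14, 40, 32, 31, 30],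
     [27, 34, 8, 15, 21, 22], [27, 34, 8, 15, 22, 21], [27, 34, 37, 41, 21, 45], [27, 34, 37, 41, 45, 21], [27, 34, 38, 42, 22, 45], [27, 34, 38, 42, 45, 22],
     [27, 37, 11, 23, 21, 30], [27, 37, 11, 23, 30, 21], [27, 37, 34, 41, 21, 45], [27, 37, 34, 41, 45, 21], [27, 37, 40, 46, 30, 45], [27, 37, 40, 46, 45, 30],
     [27, 38, 12, 24, 22, 31], [27, 38, 12, 24, 31, 22], [27, 38, 34, 42, 22, 45], [27, 38, 34, 42, 45, 22], [27, 38, 40, 47, 31, 45], [27, 38, 40, 47, 45, 31],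
     [27, 40, 14, 32, 30, 31], [27, 40, 14, 32, 31, 30], [27, 40, 37, 46, 30, 45], [27, 40, 37, 46, 45, 30], [27, 40, 38, 47, 31, 45], [27, 40, 38, 47, 45, 31]],
   [[28, 9, 11, 0, 5, 23], [28, 9, 11, 0, 23, 5], [28, 9, 13, 2, 5, 25], [28, 9, 13, 2, 25, 5], [28, 9, 35, 16, 23, 25], [28, 9, 35, 16, 25, 23],
     [28, 11, 9, 0, 5, 23], [28, 11, 9, 0, 23, 5], [28, 11, 14, 4, 5, 30], [28, 11, 14, 4, 30, 5], [28, 11, 37, 21, 23, 30], [28, 11, 37, 21, 30, 23],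
     [28, 13, 9, 2, 5, 25], [28, 13, 9, 2, 25, 5], [28, 13, 14, 6, 5, 32], [28, 13, 14, 6, 32, 5], [28, 13, 39, 26, 25, 32], [28, 13, 39, 26, 32, 25],
     [28, 14, 11, 4, 5, 30], [28, 14, 11, 4, 30, 5], [28, 14, 13, 6, 5, 32], [28, 14, 13, 6, 32, 5], [28, 14, 40, 31, 30, 32], [28, 14, 40, 31, 32, 30],
     [28, 35, 9, 16, 23, 25], [28, 35, 9, 16, 25, 23], [28, 35, 37, 41, 23, 46], [28, 35, 37, 41, 46, 23], [28, 35, 39, 43, 25, 46], [28, 35, 39, 43, 46, 25],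
     [28, 37, 11, 21, 23, 30], [28, 37, 11, 21, 30, 23], [28, 37, 35, 41, 23, 46], [28, 37, 35, 41, 46, 23], [28, 37, 40, 45, 30, 46], [28, 37, 40, 45, 46, 30],
     [28, 39, 13, 26, 25, 32], [28, 39, 13, 26, 32, 25], [28, 39, 35, 43, 25, 46], [28, 39, 35, 43, 46, 25], [28, 39, 40, 47, 32, 46], [28, 39, 40, 47, 46, 32],
     [28, 40, 14, 31, 30, 32], [28, 40, 14, 31, 32, 30], [28, 40, 37, 45, 30, 46], [28, 40, 37, 45, 46, 30], [28, 40, 39, 47, 32, 46], [28, 40, 39, 47, 46, 32]],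
   [[29, 10, 12, 1, 6, 24], [29, 10, 12, 1, 24, 6], [29, 10, 13, 2, 6, 26], [29, 10, 13, 2, 26, 6], [29, 10, 36, 17, 24, 26], [29, 10, 36, 17, 26, 24],
     [29, 12, 10, 1, 6, 24], [29, 12, 10, 1, 24, 6], [29, 12, 14, 4, 6, 31], [29, 12, 14, 4, 31, 6], [29, 12, 38, 22, 24, 31], [29, 12, 38, 22, 31, 24],
     [29, 13, 10, 2, 6, 26], [29, 13, 10, 2, 26, 6], [29, 13, 14, 5, 6, 32], [29, 13, 14, 5, 32, 6], [29, 13, 39, 25, 26, 32], [29, 13, 39, 25, 32, 26],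
     [29, 14, 12, 4, 6, 31], [29, 14, 12, 4, 31, 6], [29, 14, 13, 5, 6, 32], [29, 14, 13, 5, 32, 6], [29, 14, 40, 30, 31, 32], [29, 14, 40, 30, 32, 31],
     [29, 36, 10, 17, 24, 26], [29, 36, 10, 17, 26, 24], [29, 36, 38, 42, 24, 47], [29, 36, 38, 42, 47, 24], [29, 36, 39, 43, 26, 47], [29, 36, 39, 43, 47, 26],
     [29, 38, 12, 22, 24, 31], [29, 38, 12, 22, 31, 24], [29, 38, 36, 42, 24, 47], [29, 38, 36, 42, 47, 24], [29, 38, 40, 45, 31, 47], [29, 38, 40, 45, 47, 31],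
     [29, 39, 13, 25, 26, 32], [29, 39, 13, 25, 32, 26], [29, 39, 36, 43, 26, 47], [29, 39, 36, 43, 47, 26], [29, 39, 40, 46, 32, 47], [29, 39, 40, 46, 47, 32],
     [29, 40, 14, 30, 31, 32], [29, 40, 14, 30, 32, 31], [29, 40, 38, 45, 31, 47], [29, 40, 38, 45, 47, 31], [29, 40, 39, 46, 32, 47], [29, 40, 39, 46, 47, 32]],
   [],
   [],
   [],
   [[33, 7, 18, 0, 15, 16], [33, 7, 18, 0, 16, 15], [33, 7, 19, 1, 15, 17], [33, 7, 19, 1, 17, 15], [33, 7, 20, 2, 16, 17], [33, 7, 20, 2, 17, 16],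
     [33, 18, 7, 0, 15, 16], [33, 18, 7, 0, 16, 15], [33, 18, 34, 21, 15, 41], [33, 18, 34, 21, 41, 15], [33, 18, 35, 23, 16, 41], [33, 18, 35, 23, 41, 16],
     [33, 19, 7, 1, 15, 17], [33, 19, 7, 1, 17, 15], [33, 19, 34, 22, 15, 42], [33, 19, 34, 22, 42, 15], [33, 19, 36, 24, 17, 42], [33, 19, 36, 24, 42, 17],
     [33, 20, 7, 2, 16, 17], [33, 20, 7, 2, 17, 16], [33, 20, 35, 25, 16, 43], [33, 20, 35, 25, 43, 16], [33, 20, 36, 26, 17, 43], [33, 20, 36, 26, 43, 17],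
     [33, 34, 18, 21, 15, 41], [33, 34, 18, 21, 41, 15], [33, 34, 19, 22, 15, 42], [33, 34, 19, 22, 42, 15], [33, 34, 44, 45, 41, 42], [33, 34, 44, 45, 42, 41],
     [33, 35, 18, 23, 16, 41], [33, 35, 18, 23, 41, 16], [33, 35, 20, 25, 16, 43], [33, 35, 20, 25, 43, 16], [33, 35, 44, 46, 41, 43], [33, 35, 44, 46, 43, 41],
     [33, 36, 19, 24, 17, 42], [33, 36, 19, 24, 42, 17], [33, 36, 20, 26, 17, 43], [33, 36, 20, 26, 43, 17], [33, 36, 44, 47, 42, 43], [33, 36, 44, 47, 43, 42],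
     [33, 44, 34, 45, 41, 42], [33, 44, 34, 45, 42, 41], [33, 44, 35, 46, 41, 43], [33, 44, 35, 46, 43, 41], [33, 44, 36, 47, 42, 43], [33, 44, 36, 47, 43, 42]],
   [[34, 8, 18, 0, 15, 21], [34, 8, 18, 0, 21, 15], [34, 8, 19, 1, 15, 22], [34, 8, 19, 1, 22, 15], [34, 8, 27, 4, 21, 22], [34, 8, 27, 4, 22, 21],
     [34, 18, 8, 0, 15, 21], [34, 18, 8, 0, 21, 15], [34, 18, 33, 16, 15, 41], [34, 18, 33, 16, 41, 15], [34, 18, 37, 23, 21, 41], [34, 18, 37, 23, 41, 21],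
     [34, 19, 8, 1, 15, 22], [34, 19, 8, 1, 22, 15], [34, 19, 33, 17, 15, 42], [34, 19, 33, 17, 42, 15], [34, 19, 38, 24, 22, 42], [34, 19, 38, 24, 42, 22],
     [34, 27, 8, 4, 21, 22], [34, 27, 8, 4, 22, 21], [34, 27, 37, 30, 21, 45], [34, 27, 37, 30, 45, 21], [34, 27, 38, 31, 22, 45], [34, 27, 38, 31, 45, 22],
     [34, 33, 18, 16, 15, 41], [34, 33, 18, 16, 41, 15], [34, 33, 19, 17, 15, 42], [34, 33, 19, 17, 42, 15], [34, 33, 44, 43, 41, 42], [34, 33, 44, 43, 42, 41],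
     [34, 37, 18, 23, 21, 41], [34, 37, 18, 23, 41, 21], [34, 37, 27, 30, 21, 45], [34, 37, 27, 30, 45, 21], [34, 37, 44, 46, 41, 45], [34, 37, 44, 46, 45, 41],
     [34, 38, 19, 24, 22, 42], [34, 38, 19, 24, 42, 22], [34, 38, 27, 31, 22, 45], [34, 38, 27, 31, 45, 22], [34, 38, 44, 47, 42, 45], [34, 38, 44, 47, 45, 42],
     [34, 44, 33, 43, 41, 42], [34, 44, 33, 43, 42, 41], [34, 44, 37, 46, 41, 45], [34, 44, 37, 46, 45, 41], [34, 44, 38, 47, 42, 45], [34, 44, 38, 47, 45, 42]],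
   [[35, 9, 18, 0, 16, 23], [35, 9, 18, 0, 23, 16], [35, 9, 20, 2, 16, 25], [35, 9, 20, 2, 25, 16], [35, 9, 28, 5, 23, 25], [35, 9, 28, 5, 25, 23],
     [35, 18, 9, 0, 16, 23], [35, 18, 9, 0, 23, 16], [35, 18, 33, 15, 16, 41], [35, 18, 33, 15, 41, 16], [35, 18, 37, 21, 23, 41], [35, 18, 37, 21, 41, 23],
     [35, 20, 9, 2, 16, 25], [35, 20, 9, 2, 25, 16], [35, 20, 33, 17, 16, 43], [35, 20, 33, 17, 43, 16], [35, 20, 39, 26, 25, 43], [35, 20, 39, 26, 43, 25],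
     [35, 28, 9, 5, 23, 25], [35, 28, 9, 5, 25, 23], [35, 28, 37, 30, 23, 46], [35, 28, 37, 30, 46, 23], [35, 28, 39, 32, 25, 46], [35, 28, 39, 32, 46, 25],
     [35, 33, 18, 15, 16, 41], [35, 33, 18, 15, 41, 16], [35, 33, 20, 17, 16, 43], [35, 33, 20, 17, 43, 16], [35, 33, 44, 42, 41, 43], [35, 33, 44, 42, 43, 41],
     [35, 37, 18, 21, 23, 41], [35, 37, 18, 21, 41, 23], [35, 37, 28, 30, 23, 46], [35, 37, 28, 30, 46, 23], [35, 37, 44, 45, 41, 46], [35, 37, 44, 45, 46, 41],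
     [35, 39, 20, 26, 25, 43], [35, 39, 20, 26, 43, 25], [35, 39, 28, 32, 25, 46], [35, 39, 28, 32, 46, 25], [35, 39, 44, 47, 43, 46], [35, 39, 44, 47, 46, 43],
     [35, 44, 33, 42, 41, 43], [35, 44, 33, 42, 43, 41], [35, 44, 37, 45, 41, 46], [35, 44, 37, 45, 46, 41], [35, 44, 39, 47, 43, 46], [35, 44, 39, 47, 46, 43]],
   [[36, 10, 19, 1, 17, 24], [36, 10, 19, 1, 24, 17], [36, 10, 20, 2, 17, 26], [36, 10, 20, 2, 26, 17], [36, 10, 29, 6, 24, 26], [36, 10, 29, 6, 26, 24],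
     [36, 19, 10, 1, 17, 24], [36, 19, 10, 1, 24, 17], [36, 19, 33, 15, 17, 42], [36, 19, 33, 15, 42, 17], [36, 19, 38, 22, 24, 42], [36, 19, 38, 22, 42, 24],
     [36, 20, 10, 2, 17, 26], [36, 20, 10, 2, 26, 17], [36, 20, 33, 16, 17, 43], [36, 20, 33, 16, 43, 17], [36, 20, 39, 25, 26, 43], [36, 20, 39, 25, 43, 26],
     [36, 29, 10, 6, 24, 26], [36, 29, 10, 6, 26, 24], [36, 29, 38, 31, 24, 47], [36, 29, 38, 31, 47, 24], [36, 29, 39, 32, 26, 47], [36, 29, 39, 32, 47, 26],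
     [36, 33, 19, 15, 17, 42], [36, 33, 19, 15, 42, 17], [36, 33, 20, 16, 17, 43], [36, 33, 20, 16, 43, 17], [36, 33, 44, 41, 42, 43], [36, 33, 44, 41, 43, 42],
     [36, 38, 19, 22, 24, 42], [36, 38, 19, 22, 42, 24], [36, 38, 29, 31, 24, 47], [36, 38, 29, 31, 47, 24], [36, 38, 44, 45, 42, 47], [36, 38, 44, 45, 47, 42],
     [36, 39, 20, 25, 26, 43], [36, 39, 20, 25, 43, 26], [36, 39, 29, 32, 26, 47], [36, 39, 29, 32, 47, 26], [36, 39, 44, 46, 43, 47], [36, 39, 44, 46, 47, 43],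
     [36, 44, 33, 41, 42, 43], [36, 44, 33, 41, 43, 42], [36, 44, 38, 45, 42, 47], [36, 44, 38, 45, 47, 42], [36, 44, 39, 46, 43, 47], [36, 44, 39, 46, 47, 43]],
   [[37, 11, 18, 0, 21, 23], [37, 11, 18, 0, 23, 21], [37, 11, 27, 4, 21, 30], [37, 11, 27, 4, 30, 21], [37, 11, 28, 5, 23, 30], [37, 11, 28, 5, 30, 23],
     [37, 18, 11, 0, 21, 23], [37, 18, 11, 0, 23, 21], [37, 18, 34, 15, 21, 41], [37, 18, 34, 15, 41, 21], [37, 18, 35, 16, 23, 41], [37, 18, 35, 16, 41, 23],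
     [37, 27, 11, 4, 21, 30], [37, 27, 11, 4, 30, 21], [37, 27, 34, 22, 21, 45], [37, 27, 34, 22, 45, 21], [37, 27, 40, 31, 30, 45], [37, 27, 40, 31, 45, 30],
     [37, 28, 11, 5, 23, 30], [37, 28, 11, 5, 30, 23], [37, 28, 35, 25, 23, 46], [37, 28, 35, 25, 46, 23], [37, 28, 40, 32, 30, 46], [37, 28, 40, 32, 46, 30],
     [37, 34, 18, 15, 21, 41], [37, 34, 18, 15, 41, 21], [37, 34, 27, 22, 21, 45], [37, 34, 27, 22, 45, 21], [37, 34, 44, 42, 41, 45], [37, 34, 44, 42, 45, 41],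
     [37, 35, 18, 16, 23, 41], [37, 35, 18, 16, 41, 23], [37, 35, 28, 25, 23, 46], [37, 35, 28, 25, 46, 23], [37, 35, 44, 43, 41, 46], [37, 35, 44, 43, 46, 41],
     [37, 40, 27, 31, 30, 45], [37, 40, 27, 31, 45, 30], [37, 40, 28, 32, 30, 46], [37, 40, 28, 32, 46, 30], [37, 40, 44, 47, 45, 46], [37, 40, 44, 47, 46, 45],
     [37, 44, 34, 42, 41, 45], [37, 44, 34, 42, 45, 41], [37, 44, 35, 43, 41, 46], [37, 44, 35, 43, 46, 41], [37, 44, 40, 47, 45, 46], [37, 44, 40, 47, 46, 45]],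
   [[38, 12, 19, 1, 22, 24], [38, 12, 19, 1, 24, 22], [38, 12, 27, 4, 22, 31], [38, 12, 27, 4, 31, 22], [38, 12, 29, 6, 24, 31], [38, 12, 29, 6, 31, 24],
     [38, 19, 12, 1, 22, 24], [38, 19, 12, 1, 24, 22], [38, 19, 34, 15, 22, 42], [38, 19, 34, 15, 42, 22], [38, 19, 36, 17, 24, 42], [38, 19, 36, 17, 42, 24],
     [38, 27, 12, 4, 22, 31], [38, 27, 12, 4, 31, 22], [38, 27, 34, 21, 22, 45], [38, 27, 34, 21, 45, 22], [38, 27, 40, 30, 31, 45], [38, 27, 40, 30, 45, 31],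
     [38, 29, 12, 6, 24, 31], [38, 29, 12, 6, 31, 24], [38, 29, 36, 26, 24, 47], [38, 29, 36, 26, 47, 24], [38, 29, 40, 32, 31, 47], [38, 29, 40, 32, 47, 31],
     [38, 34, 19, 15, 22, 42], [38, 34, 19, 15, 42, 22], [38, 34, 27, 21, 22, 45], [38, 34, 27, 21, 45, 22], [38, 34, 44, 41, 42, 45], [38, 34, 44, 41, 45, 42],
     [38, 36, 19, 17, 24, 42], [38, 36, 19, 17, 42, 24], [38, 36, 29, 26, 24, 47], [38, 36, 29, 26, 47, 24], [38, 36, 44, 43, 42, 47], [38, 36, 44, 43, 47, 42],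
     [38, 40, 27, 30, 31, 45], [38, 40, 27, 30, 45, 31], [38, 40, 29, 32, 31, 47], [38, 40, 29, 32, 47, 31], [38, 40, 44, 46, 45, 47], [38, 40, 44, 46, 47, 45],
     [38, 44, 34, 41, 42, 45], [38, 44, 34, 41, 45, 42], [38, 44, 36, 43, 42, 47], [38, 44, 36, 43, 47, 42], [38, 44, 40, 46, 45, 47], [38, 44, 40, 46, 47, 45]],
   [[39, 13, 20, 2, 25, 26], [39, 13, 20, 2, 26, 25], [39, 13, 28, 5, 25, 32], [39, 13, 28, 5, 32, 25], [39, 13, 29, 6, 26, 32], [39, 13, 29, 6, 32, 26],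
     [39, 20, 13, 2, 25, 26], [39, 20, 13, 2, 26, 25], [39, 20, 35, 16, 25, 43], [39, 20, 35, 16, 43, 25], [39, 20, 36, 17, 26, 43], [39, 20, 36, 17, 43, 26],
     [39, 28, 13, 5, 25, 32], [39, 28, 13, 5, 32, 25], [39, 28, 35, 23, 25, 46], [39, 28, 35, 23, 46, 25], [39, 28, 40, 30, 32, 46], [39, 28, 40, 30, 46, 32],
     [39, 29, 13, 6, 26, 32], [39, 29, 13, 6, 32, 26], [39, 29, 36, 24, 26, 47], [39, 29, 36, 24, 47, 26], [39, 29, 40, 31, 32, 47], [39, 29, 40, 31, 47, 32],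
     [39, 35, 20, 16, 25, 43], [39, 35, 20, 16, 43, 25], [39, 35, 28, 23, 25, 46], [39, 35, 28, 23, 46, 25], [39, 35, 44, 41, 43, 46], [39, 35, 44, 41, 46, 43],
     [39, 36, 20, 17, 26, 43], [39, 36, 20, 17, 43, 26], [39, 36, 29, 24, 26, 47], [39, 36, 29, 24, 47, 26], [39, 36, 44, 42, 43, 47], [39, 36, 44, 42, 47, 43],
     [39, 40, 28, 30, 32, 46], [39, 40, 28, 30, 46, 32], [39, 40, 29, 31, 32, 47], [39, 40, 29, 31, 47, 32], [39, 40, 44, 45, 46, 47], [39, 40, 44, 45, 47, 46],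
     [39, 44, 35, 41, 43, 46], [39, 44, 35, 41, 46, 43], [39, 44, 36, 42, 43, 47], [39, 44, 36, 42, 47, 43], [39, 44, 40, 45, 46, 47], [39, 44, 40, 45, 47, 46]],
   [[40, 14, 27, 4, 30, 31], [40, 14, 27, 4, 31, 30], [40, 14, 28, 5, 30, 32], [40, 14, 28, 5, 32, 30], [40, 14, 29, 6, 31, 32], [40, 14, 29, 6, 32, 31],
     [40, 27, 14, 4, 30, 31], [40, 27, 14, 4, 31, 30], [40, 27, 37, 21, 30, 45], [40, 27, 37, 21, 45, 30], [40, 27, 38, 22, 31, 45], [40, 27, 38, 22, 45, 31],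
     [40, 28, 14, 5, 30, 32], [40, 28, 14, 5, 32, 30], [40, 28, 37, 23, 30, 46], [40, 28, 37, 23, 46, 30], [40, 28, 39, 25, 32, 46], [40, 28, 39, 25, 46, 32],
     [40, 29, 14, 6, 31, 32], [40, 29, 14, 6, 32, 31], [40, 29, 38, 24, 31, 47], [40, 29, 38, 24, 47, 31], [40, 29, 39, 26, 32, 47], [40, 29, 39, 26, 47, 32],
     [40, 37, 27, 21, 30, 45], [40, 37, 27, 21, 45, 30], [40, 37, 28, 23, 30, 46], [40, 37, 28, 23, 46, 30], [40, 37, 44, 41, 45, 46], [40, 37, 44, 41, 46, 45],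
     [40, 38, 27, 22, 31, 45], [40, 38, 27, 22, 45, 31], [40, 38, 29, 24, 31, 47], [40, 38, 29, 24, 47, 31], [40, 38, 44, 42, 45, 47], [40, 38, 44, 42, 47, 45],
     [40, 39, 28, 25, 32, 46], [40, 39, 28, 25, 46, 32], [40, 39, 29, 26, 32, 47], [40, 39, 29, 26, 47, 32], [40, 39, 44, 43, 46, 47], [40, 39, 44, 43, 47, 46],
     [40, 44, 37, 41, 45, 46], [40, 44, 37, 41, 46, 45], [40, 44, 38, 42, 45, 47], [40, 44, 38, 42, 47, 45], [40, 44, 39, 43, 46, 47], [40, 44, 39, 43, 47, 46]],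
   [],
   [],
   [],
   [[44, 33, 34, 15, 41, 42], [44, 33, 34, 15, 42, 41], [44, 33, 35, 16, 41, 43], [44, 33, 35, 16, 43, 41], [44, 33, 36, 17, 42, 43], [44, 33, 36, 17, 43, 42],
     [44, 34, 33, 15, 41, 42], [44, 34, 33, 15, 42, 41], [44, 34, 37, 21, 41, 45], [44, 34, 37, 21, 45, 41], [44, 34, 38, 22, 42, 45], [44, 34, 38, 22, 45, 42],
     [44, 35, 33, 16, 41, 43], [44, 35, 33, 16, 43, 41], [44, 35, 37, 23, 41, 46], [44, 35, 37, 23, 46, 41], [44, 35, 39, 25, 43, 46], [44, 35, 39, 25, 46, 43],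
     [44, 36, 33, 17, 42, 43], [44, 36, 33, 17, 43, 42], [44, 36, 38, 24, 42, 47], [44, 36, 38, 24, 47, 42], [44, 36, 39, 26, 43, 47], [44, 36, 39, 26, 47, 43],
     [44, 37, 34, 21, 41, 45], [44, 37, 34, 21, 45, 41], [44, 37, 35, 23, 41, 46], [44, 37, 35, 23, 46, 41], [44, 37, 40, 30, 45, 46], [44, 37, 40, 30, 46, 45],
     [44, 38, 34, 22, 42, 45], [44, 38, 34, 22, 45, 42], [44, 38, 36, 24, 42, 47], [44, 38, 36, 24, 47, 42], [44, 38, 40, 31, 45, 47], [44, 38, 40, 31, 47, 45],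
     [44, 39, 35, 25, 43, 46], [44, 39, 35, 25, 46, 43], [44, 39, 36, 26, 43, 47], [44, 39, 36, 26, 47, 43], [44, 39, 40, 32, 46, 47], [44, 39, 40, 32, 47, 46],
     [44, 40, 37, 30, 45, 46], [44, 40, 37, 30, 46, 45], [44, 40, 38, 31, 45, 47], [44, 40, 38, 31, 47, 45], [44, 40, 39, 32, 46, 47], [44, 40, 39, 32, 47, 46]],
   [],
   [],
   []]

def orbL : List (List ℕ) := orbG.flatten

/-- the tuples fixed up to the Weyl group of the Levi factor -/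
def goodL : List (List ℕ) :=
  [[39, 40, 44, 45, 46, 47], [39, 44, 40, 45, 46, 47], [39, 40, 44, 45, 47, 46],
   [39, 44, 40, 45, 47, 46]]

/-- boolean equality of lists of numbers -/
def eq6 : List ℕ → List ℕ → Bool
  | [], [] => true
  | a :: as, b :: bs => Nat.beq a b && eq6 as bs
  | _, _ => false

theorem eq6_spec : ∀ (s t : List ℕ), eq6 s t = true → s = t
  | [], [], _ => rfl
  | a :: as, b :: bs, h => by
    unfold eq6 at h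
    rw [Bool.and_eq_true] at h
    rw [Nat.eq_of_beq_eq_true h.1, eq6_spec as bs h.2]
  | [], _ :: _, h => by simp [eq6] at h
  | _ :: _, [], h => by simp [eq6] at h

/-- boolean membership -/
def mem6 (t : List ℕ) : List (List ℕ) → Bool
  | [] => false
  | s :: L => eq6 t s || mem6 t L

theorem mem6_spec (t : List ℕ) : ∀ L : List (List ℕ), mem6 t L = true → t ∈ L
  | [], h => by simp [mem6] at h
  | s :: L, h => by
    unfold mem6 at h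
    rw [Bool.or_eq_true] at h
    rcases h with h | h
    · rw [eq6_spec t s h]
      exact List.mem_cons_self
    · exact List.mem_cons_of_mem _ (mem6_spec t L h)

/-- membership in the orbit, looking only at the group of the first entry -/
def memG (t : List ℕ) : Bool :=
  match t with
  | [] => false
  | a :: _ => mem6 t (orbG.getD a [])

theorem memG_spec (t : List ℕ) (h : memG t = true) : t ∈ orbL := by
  cases t with
  | nil => simp [memG] at h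
  | cons a as =>
    unfold memG at h
    have h1 := mem6_spec _ _ h
    unfold orbL
    rw [List.mem_flatten]
    refine ⟨orbG.getD a [], ?_, h1⟩
    by_cases ha : a < orbG.length
    · rw [List.getD_eq_getElem _ _ ha]
      exact List.getElem_mem ha
    · rw [List.getD_eq_default _ _ (by omega)] at h1
      simp at h1

def mapTab (tb : List ℕ) (t : List ℕ) : List ℕ := t.map fun r => tb.getD r 0

def closedChk : Bool :=
  orbG.all fun grp => grp.all fun t => tabs.all fun tb => memG (mapTab tb t)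

def boundChk : Bool :=
  orbG.all fun grp => grp.all fun t => t.all fun r => decide (r < 48)

def goodChk : Bool :=
  orbG.all fun grp => grp.all fun t => !(t.contains 39 && t.contains 45) || mem6 t goodL

set_option maxRecDepth 1000000 in
set_option maxHeartbeats 0 in
theorem closedChk_true : closedChk = true := by decide +kernel

set_option maxRecDepth 1000000 in
set_option maxHeartbeats 0 in
theorem boundChk_true : boundChk = true := by decide +kernel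

set_option maxRecDepth 1000000 in
set_option maxHeartbeats 0 in
theorem goodChk_true : goodChk = true := by decide +kernel

theorem orbL_closed : ∀ t ∈ orbL, ∀ i < chevF4.rank, t.map (chevF4.reflectRoot i) ∈ orbL := by
  intro t ht i hi
  have hi4 : i < 4 := hi
  unfold orbL at ht
  rw [List.mem_flatten] at ht
  obtain ⟨grp, hgrp, htg⟩ := ht
  have h := closedChk_true
  unfold closedChk at h
  rw [List.all_eq_true] at h
  have h1 := h grp hgrp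
  rw [List.all_eq_true] at h1
  have h2 := h1 t htg
  rw [List.all_eq_true] at h2
  have hb := boundChk_true
  unfold boundChk at hb
  rw [List.all_eq_true] at hb
  have hb1 := hb grp hgrp
  rw [List.all_eq_true] at hb1
  have hb2 := hb1 t htg
  rw [List.all_eq_true] at hb2
  have htab : tabs.getD i [] ∈ tabs := by
    have hl : i < tabs.length := hi4
    rw [List.getD_eq_getElem _ _ hl]
    exact List.getElem_mem hl
  have h3 := memG_spec _ (h2 _ htab)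
  have e : t.map (chevF4.reflectRoot i) = mapTab (tabs.getD i []) t := by
    unfold mapTab
    apply List.map_congr_left
    intro r hr
    have hr48 : r < 48 := by
      have := hb2 r hr
      simpa using this
    exact tabs_ok i hi4 r hr48
  rw [e]
  exact h3

theorem orbL_good : ∀ t ∈ orbL, 39 ∈ t → 45 ∈ t → t ∈ goodL := by
  intro t ht h39 h45
  unfold orbL at ht
  rw [List.mem_flatten] at ht
  obtain ⟨grp, hgrp, htg⟩ := ht
  have h := goodChk_true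
  unfold goodChk at h
  rw [List.all_eq_true] at h
  have h0 := h grp hgrp
  rw [List.all_eq_true] at h0
  have h1 := h0 t htg
  rw [Bool.or_eq_true] at h1
  rcases h1 with h1 | h1
  · exfalso
    have e1 : t.contains 39 = true := List.contains_iff_mem.mpr h39
    have e2 : t.contains 45 = true := List.contains_iff_mem.mpr h45
    rw [e1, e2] at h1
    simp at h1
  · exact mem6_spec _ _ h1

theorem six_mem_orbL : six ∈ orbL := memG_spec _ (by decide +kernel)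

theorem orbit (w : List ℕ) (hw : ∀ i ∈ w, i < chevF4.rank) :
    six.map (applyW chevF4 w) ∈ orbL := by
  induction w with
  | nil =>
    have : six.map (applyW chevF4 []) = six := by
      show six.map (fun r => r) = six
      simp
    rw [this]
    exact six_mem_orbL
  | cons i w ih =>
    have h := ih (fun j hj => hw j (List.mem_cons_of_mem _ hj))
    have e : six.map (applyW chevF4 (i :: w)) =
        (six.map (applyW chevF4 w)).map (chevF4.reflectRoot i) := by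
      rw [List.map_map]
      rfl
    rw [e]
    exact orbL_closed _ h i (hw i List.mem_cons_self)

end Cfsg.Agent.helper6.F4Cen
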