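import Mathlib
import Cfsg.Agent.Lib_helper6_F4CenE
import Cfsg.Agent.Lib_helper6_F4CenO

set_option autoImplicit false

/-! Centraliser of the involution `x_39(1) x_45(1)` of `F₄(2^k)` (helper6). -/

namespace Cfsg.Agent.helper6.F4Cen

open Cfsg.Lie Cfsg.Agent.helper5.Chev

local notation "X" => xG chevF4 hF4

section
variable {F : Type*} [Field F] [CharP F 2]

/-- the Weyl group step: an element of `N` conjugating one `U`-conjugate of the involution to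
another one normalises `K₄` -/
theorem weyl_step (m : GL chevF4.Idx F) (hm : m ∈ chevF4.monomialSubgroup F)
    (z1 z2 z3 z4 z1' z2' z3' z4' : F)
    (hE : m * aF 1 z1 z2 1 z3 z4 * m⁻¹ = aF 1 z1' z2' 1 z3' z4') :
    ∀ k ∈ K4 F, m * k * m⁻¹ ∈ K4 F := by
  obtain ⟨w, hw, hact⟩ := N_act chevF4 hF4 m hm
  have hH : ∀ r, ∃ φ : F, r < chevF4.nroots →
      (φ ≠ 0 ∧ ∀ t : F, m * X r t * m⁻¹ = X (applyW chevF4 w r) (φ * t)) := by
    intro r
    by_cases hr : r < chevF4.nroots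
    · obtain ⟨φ, h1, h2⟩ := hact r hr
      exact ⟨φ, fun _ => ⟨h1, h2⟩⟩
    · exact ⟨0, fun h' => absurd h' hr⟩
  choose φ hφ using hH
  have hφ6 : ∀ r ∈ six, ∀ t : F, m * X r t * m⁻¹ = X (applyW chevF4 w r) (φ r * t) :=
    fun r hr t => (hφ r (six_pos r hr).1).2 t
  have e1 := conj_aF m (applyW chevF4 w) φ hφ6 1 z1 z2 1 z3 z4
  obtain ⟨ρ, hρdef⟩ : ∃ ρ : List (ℕ × F), ρ = [(applyW chevF4 w 39, φ 39 * 1),
      (applyW chevF4 w 40, φ 40 * z1), (applyW chevF4 w 44, φ 44 * z2),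
      (applyW chevF4 w 45, φ 45 * 1), (applyW chevF4 w 46, φ 46 * z3),
      (applyW chevF4 w 47, φ 47 * z4)] := ⟨_, rfl⟩
  have hρ : (ρ.map fun p => X p.1 p.2).prod =
      prodL chevF4 hF4 (tF 1 z1' z2' 1 z3' z4') chevF4.posRoots := by
    rw [← aF_eq_prodL_pos, ← hE, e1, hρdef]
    simp only [List.map_cons, List.map_nil, List.prod_cons, List.prod_nil, mul_one]
  have hmem : ∀ p ∈ ρ, ∃ r ∈ six, p.1 = applyW chevF4 w r := by
    intro p hp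
    rw [hρdef] at hp
    simp only [List.mem_cons, List.not_mem_nil, or_false] at hp
    rcases hp with rfl | rfl | rfl | rfl | rfl | rfl
    · exact ⟨39, by decide, rfl⟩
    · exact ⟨40, by decide, rfl⟩
    · exact ⟨44, by decide, rfl⟩
    · exact ⟨45, by decide, rfl⟩
    · exact ⟨46, by decide, rfl⟩
    · exact ⟨47, by decide, rfl⟩
  have hlt : ∀ p ∈ ρ, p.1 < chevF4.nroots := by
    intro p hp
    obtain ⟨r, hr, e⟩ := hmem p hp
    rw [e]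
    exact applyW_lt chevF4 hF4 w hw r (six_pos r hr).1
  have hcomm : ∀ p ∈ ρ, ∀ p' ∈ ρ, ∀ a b : F, Commute (X p.1 a) (X p'.1 b) := by
    intro p hp p' hp' a b
    obtain ⟨r, hr, e⟩ := hmem p hp
    obtain ⟨r', hr', e'⟩ := hmem p' hp'
    rw [e, e']
    exact commute_act chevF4 hF4 m r r' _ _ (φ r) (φ r') (hφ r (six_pos r hr).1).1
      (hφ r' (six_pos r' hr').1).1 (hφ6 r hr) (hφ6 r' hr') (fun a b => cs r r' hr hr' a b) a b
  have h39 := mem_of_coeff_ne chevF4 hF4 ρ hlt hcomm _ hρ 39 (by decide +kernel)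
    (by simp [tF])
  have h45 := mem_of_coeff_ne chevF4 hF4 ρ hlt hcomm _ hρ 45 (by decide +kernel)
    (by simp [tF])
  have h39' : 39 ∈ six.map (applyW chevF4 w) := by
    obtain ⟨p, hp, e⟩ := h39
    obtain ⟨r, hr, e'⟩ := hmem p hp
    rw [← e, e']
    exact List.mem_map_of_mem hr
  have h45' : 45 ∈ six.map (applyW chevF4 w) := by
    obtain ⟨p, hp, e⟩ := h45
    obtain ⟨r, hr, e'⟩ := hmem p hp
    rw [← e, e']
    exact List.mem_map_of_mem hr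
  have hgood := orbL_good _ (orbit w hw) h39' h45'
  simp only [six, List.map_cons, List.map_nil, goodL, List.mem_cons, List.not_mem_nil, or_false,
    List.cons.injEq, and_true] at hgood
  intro k hk
  refine conj_closure_le {g | ∃ z1 z2 z3 z4 : F, g = aF 0 z1 z2 0 z3 z4} (K4 F) m ?_ k hk
  rintro g ⟨y1, y2, y3, y4, rfl⟩
  rw [conj_aF m (applyW chevF4 w) φ hφ6 0 y1 y2 0 y3 y4]
  simp only [mul_zero, xG_zero, one_mul]
  rcases hgood with ⟨-, h40, h44, -, h46, h47⟩ | ⟨-, h40, h44, -, h46, h47⟩ |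
    ⟨-, h40, h44, -, h46, h47⟩ | ⟨-, h40, h44, -, h46, h47⟩
  · rw [h40, h44, h46, h47]
    exact Subgroup.mul_mem _ (X40_mem_K4 _) (Subgroup.mul_mem _ (X44_mem_K4 _)
      (Subgroup.mul_mem _ (X46_mem_K4 _) (X47_mem_K4 _)))
  · rw [h40, h44, h46, h47]
    exact Subgroup.mul_mem _ (X44_mem_K4 _) (Subgroup.mul_mem _ (X40_mem_K4 _)
      (Subgroup.mul_mem _ (X46_mem_K4 _) (X47_mem_K4 _)))
  · rw [h40, h44, h46, h47]
    exact Subgroup.mul_mem _ (X40_mem_K4 _) (Subgroup.mul_mem _ (X44_mem_K4 _)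
      (Subgroup.mul_mem _ (X47_mem_K4 _) (X46_mem_K4 _)))
  · rw [h40, h44, h46, h47]
    exact Subgroup.mul_mem _ (X44_mem_K4 _) (Subgroup.mul_mem _ (X40_mem_K4 _)
      (Subgroup.mul_mem _ (X47_mem_K4 _) (X46_mem_K4 _)))

/-- **the centraliser of `x_39(1) x_45(1)` lies in `Q₂`** -/
theorem cen_le2 (g : GL chevF4.Idx F) (hgG : g ∈ chevF4.group F)
    (hgC : g ∈ Subgroup.centralizer {X 39 (1 : F) * X 45 1}) : g ∈ Q2 F := by
  have hC := commOK_of_mem chevF4 hF4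
  have hP := posCommOK_of_mem chevF4 hF4
  have hgC' := hgC
  obtain ⟨b, hb, n, hn, u, hu, rfl⟩ := exists_form chevF4 hF4 hC hP g hgG
  obtain ⟨u₁, hu₁, h₁, hh₁, rfl⟩ := mem_borel chevF4 hF4 b hb
  have huU : u ∈ chevF4.posUnipotent F := UnegOf_le_U chevF4 n hu
  have hmN : h₁ * n ∈ chevF4.monomialSubgroup F :=
    Subgroup.mul_mem _ (H_le_N chevF4 hh₁) hn
  rw [Subgroup.mem_centralizer_iff] at hgC
  have hcen := hgC _ rfl
  rw [← aF_00] at hcen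
  obtain ⟨a1, a2, a3, a4, hd⟩ := (U_conj_aF u huU 1 0 0 1 0 0).1
  obtain ⟨b1, b2, b3, b4, hd'⟩ := (U_conj_aF u₁ hu₁ 1 0 0 1 0 0).2
  have h2 : u₁ * (aF 1 b1 b2 1 b3 b4 * (h₁ * n)) * u =
      u₁ * ((h₁ * n) * aF 1 a1 a2 1 a3 a4) * u := by
    calc u₁ * (aF 1 b1 b2 1 b3 b4 * (h₁ * n)) * u
        = (u₁ * aF 1 b1 b2 1 b3 b4) * (h₁ * n) * u := by group
      _ = (aF 1 0 0 1 0 0 * u₁) * (h₁ * n) * u := by rw [hd']
      _ = aF 1 0 0 1 0 0 * (u₁ * h₁ * n * u) := by group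
      _ = u₁ * h₁ * n * u * aF 1 0 0 1 0 0 := hcen
      _ = u₁ * (h₁ * n) * (u * aF 1 0 0 1 0 0) := by group
      _ = u₁ * (h₁ * n) * (aF 1 a1 a2 1 a3 a4 * u) := by rw [hd]
      _ = u₁ * ((h₁ * n) * aF 1 a1 a2 1 a3 a4) * u := by group
  have h3 : aF 1 b1 b2 1 b3 b4 * (h₁ * n) = (h₁ * n) * aF 1 a1 a2 1 a3 a4 :=
    mul_left_cancel (mul_right_cancel h2)
  have hE : (h₁ * n) * aF 1 a1 a2 1 a3 a4 * (h₁ * n)⁻¹ = aF 1 b1 b2 1 b3 b4 := by
    rw [← h3, mul_inv_cancel_right]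
  have hE' : (h₁ * n)⁻¹ * aF 1 b1 b2 1 b3 b4 * (h₁ * n)⁻¹⁻¹ = aF 1 a1 a2 1 a3 a4 := by
    rw [← hE]
    group
  have hmT : h₁ * n ∈ Stb (K4 F) := by
    refine ⟨weyl_step _ hmN _ _ _ _ _ _ _ _ hE, fun k hk => ?_⟩
    have h := weyl_step _ (Subgroup.inv_mem _ hmN) _ _ _ _ _ _ _ _ hE' k hk
    rwa [inv_inv] at h
  obtain ⟨n', hn', h', hh', hm⟩ :=
    N_decomp_of_B_le chevF4 hF4 hC hP (Stb (K4 F)) B_le_T _ hmN hmT
  have hn'NB : n' ∈ NB F := closure_le_NB hn'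
  have hn'Q : n' ∈ Q2 F := NB_le_Q2 hn'NB
  have hn'S := NB_le_Stb hn'NB
  obtain ⟨a, b, vJ, hvJ, hvd⟩ := U_decomp2 u₁ hu₁
  have hvb' := hn'S.2 _ hvJ
  have hgl : u₁ * h₁ * n * u = (X 24 a * X 33 b * n') * ((n'⁻¹ * vJ * n') * h' * u) := by
    have e1 : u₁ * h₁ * n * u = u₁ * (h₁ * n) * u := by group
    rw [e1, hm, hvd]
    group
  have hlQ : X 24 a * X 33 b * n' ∈ Q2 F :=
    Subgroup.mul_mem _ (Subgroup.mul_mem _ (X24_mem a) (X33_mem b)) hn'Q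
  have hb0B : (n'⁻¹ * vJ * n') * h' * u ∈ chevF4.borelSubgroup F :=
    Subgroup.mul_mem _ (Subgroup.mul_mem _ (U_le_B chevF4 hF4 (UJ_le_U hvb'))
      (H_le_B chevF4 hF4 hh')) (U_le_B chevF4 hF4 huU)
  have hb0C : (n'⁻¹ * vJ * n') * h' * u ∈ Subgroup.centralizer {X 39 (1 : F) * X 45 1} := by
    have e2 : (n'⁻¹ * vJ * n') * h' * u = (X 24 a * X 33 b * n')⁻¹ * (u₁ * h₁ * n * u) := by
      rw [hgl]
      group
    rw [e2]
    exact Subgroup.mul_mem _ (Subgroup.inv_mem _ (Q2_le_cen hlQ)) hgC'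
  rw [hgl]
  exact Subgroup.mul_mem _ hlQ (B_case2 _ hb0B hb0C)

/-- **the centraliser of `x_39(1) x_45(1)` in `F₄(F)`, characteristic 2** -/
theorem cen_short2 (v : GL chevF4.Idx F)
    (hv : (v : Matrix chevF4.Idx chevF4.Idx F) = chevF4.x F 39 1 * chevF4.x F 45 1) :
    chevF4.group F ⊓ Subgroup.centralizer {v} = Q2 F := by
  have hvx : v = X 39 1 * X 45 1 := Units.ext (by rw [hv, Units.val_mul]; rfl)
  subst hvx
  apply le_antisymm
  · rintro g ⟨hgG, hgC⟩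
    exact cen_le2 g hgG hgC
  · exact le_inf Q2_le_grp Q2_le_cen

end

end Cfsg.Agent.helper6.F4Cen
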