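import Mathlib
import Cfsg.Agent.Lib_helper6_F4CenC

set_option autoImplicit false

/-! Centraliser of the involution `x_47(1) x_44(1)` of `F₄(2^k)` (helper6). -/

namespace Cfsg.Agent.helper6.F4Cen

open Cfsg.Lie Cfsg.Agent.helper5.Chev

local notation "X" => xG chevF4 hF4

/-- the long roots -/
def longL : List ℕ := [0, 1, 2, 4, 5, 6, 15, 16, 17, 21, 22, 23, 24, 25, 26, 30, 31, 32, 41, 42,
  43, 45, 46, 47]

theorem longL_closed : ∀ r ∈ longL, ∀ i < chevF4.rank, chevF4.reflectRoot i r ∈ longL := by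
  decide +kernel

theorem long_orbit (w : List ℕ) (hw : ∀ i ∈ w, i < chevF4.rank) : applyW chevF4 w 47 ∈ longL := by
  induction w with
  | nil =>
    show 47 ∈ longL
    decide
  | cons i w ih =>
    exact longL_closed _ (ih (fun j hj => hw j (List.mem_cons_of_mem _ hj))) i
      (hw i List.mem_cons_self)

section
variable {F : Type*} [Field F]

/-- the coefficient function of `x_44(a) x_47(b)` -/
def tW (a b : F) : ℕ → F := fun k => if k = 44 then a else if k = 47 then b else 0

theorem prodL_tW (a b : F) :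
    prodL chevF4 hF4 (tW a b) chevF4.posRoots = X 44 a * X 47 b := by
  rw [posRoots_F4]
  unfold prodL tW
  simp [xG_zero]

theorem prodL_tW2 (a b : F) : prodL chevF4 hF4 (tW a b) [44, 47] = X 44 a * X 47 b := by
  unfold prodL tW
  simp

variable [CharP F 2]

theorem comm_of_Lok (r : ℕ) (L : List ℕ) (i0 : ℕ) (hZ : CZ2OK chevF4 r L i0) (s : ℕ) (hs : s ∈ L)
    (c t : F) : X s c * X r t = X r t * X s c := by
  obtain ⟨hslt, hsr, hsn, hct⟩ := hZ.Lok s hs
  have hcf := commF_of_ok (F := F) chevF4 hF4 (commOK_of_mem chevF4 hF4) r hZ.rlt s hslt hsr hsn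
    t c
  rw [cwG_eq_one_of_even chevF4 hF4 _ _ hct, mul_one] at hcf
  exact hcf

/-- **the centraliser of `x_47(1) x_44(1)` in `F₄(F)`, characteristic 2** -/
theorem cen_mixed (wv : GL chevF4.Idx F)
    (hwv : (wv : Matrix chevF4.Idx chevF4.Idx F) = chevF4.x F 47 1 * chevF4.x F 44 1) :
    chevF4.group F ⊓ Subgroup.centralizer {wv} =
      chevF4.posUnipotent F ⊔ chevF4.rootSubgroup F 20 ⊔ chevF4.rootSubgroup F 22 := by
  have hC := commOK_of_mem chevF4 hF4
  have hP := posCommOK_of_mem chevF4 hF4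
  have hR := rootsOK_of_mem chevF4 hF4
  have hZl := cz2OK_F4_long
  have hZs := cz2OK_F4_short
  obtain ⟨hBG, hNG, -⟩ := Cfsg.Agent.S1043.result (F := F) chevF4 hF4
  have hwx : wv = X 47 1 * X 44 1 := Units.ext (by rw [hwv, Units.val_mul]; rfl)
  subst hwx
  have hUl : ∀ u ∈ chevF4.posUnipotent F, ∀ t : F, u * X 47 t = X 47 t * u :=
    fun u hu t => cz2_U_comm chevF4 hF4 47 _ _ hZl hC u hu t
  have hUs : ∀ u ∈ chevF4.posUnipotent F, ∀ t : F, u * X 44 t = X 44 t * u :=
    fun u hu t => cz2_U_comm chevF4 hF4 44 _ _ hZs hC u hu t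
  have h44U : ∀ b : F, X 44 b ∈ chevF4.posUnipotent F := fun b =>
    Subgroup.subset_closure ⟨44, b, hZs.rpos, rfl⟩
  have hbase : ∀ r ∈ [47, 44], ∀ r' ∈ [47, 44], ∀ a b : F, Commute (X r a) (X r' b) := by
    intro r hr r' hr' a b
    simp only [List.mem_cons, List.not_mem_nil, or_false] at hr hr'
    rcases hr with rfl | rfl <;> rcases hr' with rfl | rfl
    · exact commute_same 47 a b
    · exact (hUl _ (h44U b) a).symm
    · exact hUl _ (h44U a) b
    · exact commute_same 44 a b
  obtain ⟨Q, hQ⟩ : ∃ Q : Subgroup (GL chevF4.Idx F), Q = chevF4.posUnipotent F ⊔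
      chevF4.rootSubgroup F 20 ⊔ chevF4.rootSubgroup F 22 := ⟨_, rfl⟩
  obtain ⟨C, hCdef⟩ : ∃ C : Subgroup (GL chevF4.Idx F),
      C = Subgroup.centralizer {X 47 (1 : F) * X 44 1} := ⟨_, rfl⟩
  rw [← hQ, ← hCdef]
  have hUQ : chevF4.posUnipotent F ≤ Q := by
    rw [hQ]
    exact le_sup_of_le_left le_sup_left
  have h20Q : ∀ c : F, X 20 c ∈ Q := fun c => by
    rw [hQ]
    exact Subgroup.mem_sup_left (Subgroup.mem_sup_right (xG_mem_rootSubgroup chevF4 hF4 20 c))
  have h22Q : ∀ c : F, X 22 c ∈ Q := fun c => by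
    rw [hQ]
    exact Subgroup.mem_sup_right (xG_mem_rootSubgroup chevF4 hF4 22 c)
  have hmemC : ∀ g : GL chevF4.Idx F, (g * X 47 1 = X 47 1 * g) → (g * X 44 1 = X 44 1 * g) →
      g ∈ C := by
    intro g h1 h2
    rw [hCdef, Subgroup.mem_centralizer_iff]
    intro y hy
    rw [Set.mem_singleton_iff] at hy
    subst hy
    rw [mul_assoc, ← h2, ← mul_assoc, ← h1, mul_assoc]
  have hUC : chevF4.posUnipotent F ≤ C := fun u hu => hmemC u (hUl u hu 1) (hUs u hu 1)
  have h20C : ∀ c : F, X 20 c ∈ C := fun c =>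
    hmemC _ (comm_of_Lok 47 _ _ hZl 20 (by decide) c 1) (comm_of_Lok 44 _ _ hZs 20 (by decide) c 1)
  have h22C : ∀ c : F, X 22 c ∈ C := fun c =>
    hmemC _ (comm_of_Lok 47 _ _ hZl 22 (by decide) c 1) (comm_of_Lok 44 _ _ hZs 22 (by decide) c 1)
  have hxC : ∀ g ∈ C, X 47 (1 : F) * X 44 1 * g = g * (X 47 (1 : F) * X 44 1) := by
    intro g hg
    rw [hCdef, Subgroup.mem_centralizer_iff] at hg
    exact hg _ rfl
  apply le_antisymm
  swap
  · rw [hQ]
    refine sup_le (sup_le ?_ ?_) ?_
    · exact le_inf (fun u hu => hBG (U_le_B chevF4 hF4 hu)) hUC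
    · intro g hg
      obtain ⟨a, rfl⟩ := mem_rootSubgroup chevF4 hF4 _ g hg
      exact ⟨xG_mem_grp chevF4 hF4 20 (by decide) a, h20C a⟩
    · intro g hg
      obtain ⟨a, rfl⟩ := mem_rootSubgroup chevF4 hF4 _ g hg
      exact ⟨xG_mem_grp chevF4 hF4 22 (by decide) a, h22C a⟩
  · rintro g ⟨hgG, hgC⟩
    obtain ⟨b, hb, n, hn, u, hu, rfl⟩ := exists_form chevF4 hF4 hC hP g hgG
    obtain ⟨u₁, hu₁, h₁, hh₁, rfl⟩ := mem_borel chevF4 hF4 b hb
    have huU : u ∈ chevF4.posUnipotent F := UnegOf_le_U chevF4 n hu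
    have hmC : h₁ * n ∈ C := by
      have : h₁ * n = u₁⁻¹ * (u₁ * h₁ * n * u) * u⁻¹ := by group
      rw [this]
      exact C.mul_mem (C.mul_mem (C.inv_mem (hUC hu₁)) hgC) (C.inv_mem (hUC huU))
    have hmN : h₁ * n ∈ chevF4.monomialSubgroup F :=
      Subgroup.mul_mem _ (H_le_N chevF4 hh₁) hn
    -- the Weyl group step
    obtain ⟨w, hw, hact⟩ := N_act chevF4 hF4 (h₁ * n) hmN
    obtain ⟨φ47, hφ47, h47⟩ := hact 47 (by decide)
    obtain ⟨φ44, hφ44, h44⟩ := hact 44 (by decide)
    have hE : X (applyW chevF4 w 47) (φ47 * 1) * X (applyW chevF4 w 44) (φ44 * 1) =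
        X 47 1 * X 44 1 := by
      rw [← h47, ← h44]
      have e : h₁ * n * X 47 1 * (h₁ * n)⁻¹ * (h₁ * n * X 44 1 * (h₁ * n)⁻¹) =
          (h₁ * n) * (X 47 1 * X 44 1) * (h₁ * n)⁻¹ := by group
      rw [e, ← hxC _ hmC, mul_inv_cancel_right]
    obtain ⟨ρ, hρdef⟩ : ∃ ρ : List (ℕ × F), ρ = [(applyW chevF4 w 47, φ47 * 1),
        (applyW chevF4 w 44, φ44 * 1)] := ⟨_, rfl⟩
    have hρ : (ρ.map fun p => X p.1 p.2).prod = prodL chevF4 hF4 (tW 1 1) chevF4.posRoots := by
      rw [prodL_tW, ← (hbase 47 (by decide) 44 (by decide) 1 1).eq, ← hE, hρdef]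
      simp only [List.map_cons, List.map_nil, List.prod_cons, List.prod_nil, mul_one]
    have hmem : ∀ p ∈ ρ, (p.1 = applyW chevF4 w 47 ∨ p.1 = applyW chevF4 w 44) := by
      intro p hp
      rw [hρdef] at hp
      simp only [List.mem_cons, List.not_mem_nil, or_false] at hp
      rcases hp with rfl | rfl
      · exact Or.inl rfl
      · exact Or.inr rfl
    have hlt : ∀ p ∈ ρ, p.1 < chevF4.nroots := by
      intro p hp
      rcases hmem p hp with e | e <;> rw [e]
      · exact applyW_lt chevF4 hF4 w hw 47 (by decide)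
      · exact applyW_lt chevF4 hF4 w hw 44 (by decide)
    have hcomm : ∀ p ∈ ρ, ∀ p' ∈ ρ, ∀ a b : F, Commute (X p.1 a) (X p'.1 b) := by
      intro p hp p' hp' a b
      rcases hmem p hp with e | e <;> rcases hmem p' hp' with e' | e' <;> rw [e, e']
      · exact commute_act chevF4 hF4 _ 47 47 _ _ φ47 φ47 hφ47 hφ47 h47 h47
          (hbase 47 (by decide) 47 (by decide)) a b
      · exact commute_act chevF4 hF4 _ 47 44 _ _ φ47 φ44 hφ47 hφ44 h47 h44
          (hbase 47 (by decide) 44 (by decide)) a b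
      · exact commute_act chevF4 hF4 _ 44 47 _ _ φ44 φ47 hφ44 hφ47 h44 h47
          (hbase 44 (by decide) 47 (by decide)) a b
      · exact commute_act chevF4 hF4 _ 44 44 _ _ φ44 φ44 hφ44 hφ44 h44 h44
          (hbase 44 (by decide) 44 (by decide)) a b
    obtain ⟨p44, hp44, e44⟩ := mem_of_coeff_ne chevF4 hF4 ρ hlt hcomm _ hρ 44 hZs.rpos
      (by simp [tW])
    obtain ⟨p47, hp47, e47⟩ := mem_of_coeff_ne chevF4 hF4 ρ hlt hcomm _ hρ 47 hZl.rpos
      (by simp [tW])
    have hlong := long_orbit w hw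
    have hw44 : applyW chevF4 w 44 = 44 := by
      rcases hmem p44 hp44 with e | e
      · exfalso
        rw [← e, e44] at hlong
        revert hlong
        decide
      · rw [← e, e44]
    have hw47 : applyW chevF4 w 47 = 47 := by
      rcases hmem p47 hp47 with e | e
      · rw [← e, e47]
      · rw [hw44] at e
        rw [e47] at e
        exact absurd e (by decide)
    -- the parabolic step
    have hmap47 : (chevF4.rootSubgroup F 47).map (MulAut.conj (h₁ * n)).toMonoidHom =
        chevF4.rootSubgroup F 47 := by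
      have := map_conj_rootSubgroup chevF4 hF4 (h₁ * n) 47 (applyW chevF4 w 47)
        (fun t => φ47 * t) (fun y => ⟨φ47⁻¹ * y, mul_inv_cancel_left₀ hφ47 y⟩) h47
      rwa [hw47] at this
    have hmap44 : (chevF4.rootSubgroup F 44).map (MulAut.conj (h₁ * n)).toMonoidHom =
        chevF4.rootSubgroup F 44 := by
      have := map_conj_rootSubgroup chevF4 hF4 (h₁ * n) 44 (applyW chevF4 w 44)
        (fun t => φ44 * t) (fun y => ⟨φ44⁻¹ * y, mul_inv_cancel_left₀ hφ44 y⟩) h44
      rwa [hw44] at this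
    obtain ⟨T, hT⟩ : ∃ T : Subgroup (GL chevF4.Idx F),
        T = Subgroup.normalizer (chevF4.rootSubgroup F 47 : Set (GL chevF4.Idx F)) ⊓
          Subgroup.normalizer (chevF4.rootSubgroup F 44 : Set (GL chevF4.Idx F)) := ⟨_, rfl⟩
    have hmT : h₁ * n ∈ T := by
      rw [hT]
      exact ⟨mem_normalizer_of_map_eq _ _ hmap47, mem_normalizer_of_map_eq _ _ hmap44⟩
    have hBT : chevF4.borelSubgroup F ≤ T := by
      intro b hb
      rw [hT]
      exact ⟨mem_normalizer_of_map_eq _ _ (cz2_B_conj chevF4 hF4 47 _ _ hZl hC b hb),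
        mem_normalizer_of_map_eq _ _ (cz2_B_conj chevF4 hF4 44 _ _ hZs hC b hb)⟩
    obtain ⟨n', hn', h', hh', hm⟩ := N_decomp_of_B_le chevF4 hF4 hC hP T hBT _ hmN hmT
    have hfix : ∀ i < chevF4.rank, ∀ r, chevF4.IsPosRoot r →
        nGt chevF4 hF4 (chevF4.simple i) (1 : F) ∈
          Subgroup.normalizer (chevF4.rootSubgroup F r : Set (GL chevF4.Idx F)) →
        chevF4.reflectRoot i r = r := by
      intro i hi r hr hgT
      have hmap := map_eq_of_mem_normalizer _ _ hgT
      have hmap2 : (chevF4.rootSubgroup F r).map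
          (MulAut.conj (nGt chevF4 hF4 (chevF4.simple i) 1)).toMonoidHom =
          chevF4.rootSubgroup F (chevF4.reflectRoot i r) := by
        refine map_conj_rootSubgroup chevF4 hF4 _ _ _
          (fun t => ((etaOf chevF4 i r : ℤ) : F) * t) ?_
          (fun t => nG_conj chevF4 hF4 i hi _ hr.1 t)
        intro y
        refine ⟨((etaOf chevF4 i r : ℤ) : F) * y, ?_⟩
        show ((etaOf chevF4 i r : ℤ) : F) * (((etaOf chevF4 i r : ℤ) : F) * y) = y
        rw [← mul_assoc, eta_cast_sq chevF4 hF4 i _ hi hr.1, one_mul]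
      rw [hmap] at hmap2
      have hx : X r (1 : F) ∈ chevF4.rootSubgroup F (chevF4.reflectRoot i r) := by
        rw [← hmap2]
        exact xG_mem_rootSubgroup chevF4 hF4 _ _
      obtain ⟨a, ha⟩ := mem_rootSubgroup chevF4 hF4 _ _ hx
      exact xG_eq_xG_pos chevF4 hF4 _ hr _ a ha.symm
    have hcl : Subgroup.closure {g : GL chevF4.Idx F | ∃ i < chevF4.rank,
        g = nGt chevF4 hF4 (chevF4.simple i) 1 ∧ g ∈ T} ≤ Q ⊓ C := by
      rw [Subgroup.closure_le]
      rintro g ⟨i, hi, rfl, hgT⟩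
      rw [hT] at hgT
      have hr47 := hfix i hi 47 hZl.rpos hgT.1
      have hr44 := hfix i hi 44 hZs.rpos hgT.2
      have hi3 : i ≠ 3 := by
        rintro rfl
        exact hZl.rne hr47
      have hi0 : i ≠ 0 := by
        rintro rfl
        exact hZs.rne hr44
      have hi4 : i < 4 := hi
      have hpos := hR.simple_pos i hi
      have hposU : ∀ t : F, X (chevF4.simple i) t ∈ chevF4.posUnipotent F := fun t =>
        Subgroup.subset_closure ⟨_, t, hpos, rfl⟩
      have hnegQC : ∀ t : F, X (chevF4.neg (chevF4.simple i)) t ∈ Q ∧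
          X (chevF4.neg (chevF4.simple i)) t ∈ C := by
        intro t
        interval_cases i
        · exact absurd rfl hi0
        · have e : chevF4.neg (chevF4.simple 1) = 20 := by decide +kernel
          rw [e]
          exact ⟨h20Q t, h20C t⟩
        · have e : chevF4.neg (chevF4.simple 2) = 22 := by decide +kernel
          rw [e]
          exact ⟨h22Q t, h22C t⟩
        · exact absurd rfl hi3
      constructor
      · exact nGt_mem_of chevF4 hF4 Q _ (fun t => hUQ (hposU t)) (fun t => (hnegQC t).1) 1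
      · exact nGt_mem_of chevF4 hF4 C _ (fun t => hUC (hposU t)) (fun t => (hnegQC t).2) 1
    have hn'QC := hcl hn'
    have hh'C : h' ∈ C := by
      have : h' = n'⁻¹ * (h₁ * n) := by
        rw [hm]
        group
      rw [this]
      exact C.mul_mem (C.inv_mem hn'QC.2) hmC
    have hh'Q : h' ∈ Q := by
      obtain ⟨c, hc, hhc⟩ := Cfsg.Agent.S1034.mem_torus chevF4 hF4 h' hh'
      have hc47 := H_conj_torus chevF4 hF4 h' c hc hhc 47 (by decide) 1
      have hc44 := H_conj_torus chevF4 hF4 h' c hc hhc 44 (by decide) 1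
      rw [mul_one] at hc47 hc44
      have hE2 : X 47 (torusChar chevF4 c 47) * X 44 (torusChar chevF4 c 44) =
          X 47 1 * X 44 1 := by
        rw [← hc47, ← hc44]
        have e : h' * X 47 1 * h'⁻¹ * (h' * X 44 1 * h'⁻¹) =
            h' * (X 47 1 * X 44 1) * h'⁻¹ := by group
        rw [e, ← hxC _ hh'C, mul_inv_cancel_right]
      rw [(hbase 47 (by decide) 44 (by decide) _ _).eq,
        (hbase 47 (by decide) 44 (by decide) 1 1).eq, ← prodL_tW2, ← prodL_tW2] at hE2
      have key := prodL_inj chevF4 hF4 _ _ [44, 47] (by decide)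
        (by
          intro r hr
          simp only [List.mem_cons, List.not_mem_nil, or_false] at hr
          rcases hr with rfl | rfl
          · exact hZs.rpos
          · exact hZl.rpos) hE2
      have k44 := key 44 (by decide)
      have k47 := key 47 (by decide)
      simp [tW] at k44 k47
      have g0 : chevF4.cartan 0 44 = 1 := by decide +kernel
      have g1 : chevF4.cartan 1 44 = 0 := by decide +kernel
      have g2 : chevF4.cartan 2 44 = 0 := by decide +kernel
      have g3 : chevF4.cartan 3 44 = 0 := by decide +kernel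
      have f0 : chevF4.cartan 0 47 = 0 := by decide +kernel
      have f1 : chevF4.cartan 1 47 = 0 := by decide +kernel
      have f2 : chevF4.cartan 2 47 = 0 := by decide +kernel
      have f3 : chevF4.cartan 3 47 = 1 := by decide +kernel
      have ht44 : torusChar chevF4 c 44 = c 0 := by
        unfold torusChar
        rw [rank4, show List.range 4 = [0, 1, 2, 3] from rfl]
        simp [g0, g1, g2, g3]
      have ht47 : torusChar chevF4 c 47 = c 3 := by
        unfold torusChar
        rw [rank4, show List.range 4 = [0, 1, 2, 3] from rfl]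
        simp [f0, f1, f2, f3]
      have hc0 : c 0 = 1 := by rw [← ht44, k44]
      have hc3 : c 3 = 1 := by rw [← ht47, k47]
      have h5 : h' = torP chevF4 hF4 c :=
        Units.ext (by rw [hhc, torP_val chevF4 hF4 c (fun i _ => hc i)])
      rw [h5]
      unfold torP
      have hrange : List.range chevF4.rank = [0, 1, 2, 3] := by
        rw [rank4]
        rfl
      rw [hrange]
      simp only [List.map_cons, List.map_nil, List.prod_cons, List.prod_nil, mul_one]
      have hone : ∀ r : ℕ, hGt chevF4 hF4 r (1 : F) = 1 := by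
        intro r
        unfold hGt
        rw [nGt_neg_one, mul_inv_cancel]
      rw [hc0, hc3, hone, hone, one_mul, mul_one]
      have e1 : chevF4.simple 1 = 27 := by decide +kernel
      have e2 : chevF4.simple 2 = 25 := by decide +kernel
      have n27 : chevF4.neg 27 = 20 := by decide +kernel
      have n25 : chevF4.neg 25 = 22 := by decide +kernel
      refine Subgroup.mul_mem _ ?_ ?_
      · apply hGt_mem_of chevF4 hF4 Q (chevF4.simple 1)
        · intro t
          exact hUQ (Subgroup.subset_closure ⟨_, t, hR.simple_pos 1 (by decide), rfl⟩)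
        · intro t
          rw [e1, n27]
          exact h20Q t
      · apply hGt_mem_of chevF4 hF4 Q (chevF4.simple 2)
        · intro t
          exact hUQ (Subgroup.subset_closure ⟨_, t, hR.simple_pos 2 (by decide), rfl⟩)
        · intro t
          rw [e2, n25]
          exact h22Q t
    have : u₁ * h₁ * n * u = u₁ * (h₁ * n) * u := by group
    rw [this, hm]
    exact Q.mul_mem (Q.mul_mem (hUQ hu₁) (Q.mul_mem hn'QC.1 hh'Q)) (hUQ huU)

end

end Cfsg.Agent.helper6.F4Cen
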