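import Mathlib

set_option autoImplicit false

namespace Cfsg.Agent.helper6.FieldAut

open Module

variable {F : Type*} [Field F]

theorem linearIndependent_aut_fun :
    LinearIndependent F (fun σ : F ≃+* F => ((σ : F →+* F) : F → F)) := by
  have h := linearIndependent_monoidHom F F
  have hinj : Function.Injective (fun σ : F ≃+* F => ((σ : F →+* F) : F →* F)) := by
    intro σ τ h
    ext x
    exact DFunLike.congr_fun h x
  exact h.comp _ hinj

/-- Coercion from additive maps to functions, as a linear map. -/
def coeLin : (F →+ F) →ₗ[F] (F → F) where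
  toFun f := ⇑f
  map_add' _ _ := rfl
  map_smul' _ _ := rfl

theorem linearIndependent_aut_addHom :
    LinearIndependent F (fun σ : F ≃+* F => ((σ : F →+* F) : F →+ F)) := by
  apply LinearIndependent.of_comp (coeLin (F := F))
  exact linearIndependent_aut_fun

variable [Finite F]

theorem card_aut_eq_finrank : Nat.card (F ≃+* F) = finrank F (F →+ F) := by
  obtain ⟨p, hp⟩ := CharP.exists F
  have : CharP F p := hp
  have : Fact p.Prime := ⟨(CharP.char_is_prime_or_zero F p).resolve_right
    (fun h0 => by
      subst h0
      have : CharZero F := CharP.charP_to_charZero F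
      exact not_finite F)⟩
  let : Algebra (ZMod p) F := ZMod.algebra F p
  -- ring automorphisms are algebra automorphisms
  have e1 : (F ≃+* F) ≃ (F ≃ₐ[ZMod p] F) :=
    { toFun := fun σ => AlgEquiv.ofRingEquiv (f := σ) (fun x => by
        have := Subsingleton.elim ((σ : F →+* F).comp (algebraMap (ZMod p) F))
          (algebraMap (ZMod p) F)
        exact DFunLike.congr_fun this x)
      invFun := fun e => e.toRingEquiv
      left_inv := fun σ => by ext x; rfl
      right_inv := fun e => by ext x; rfl }
  rw [Nat.card_congr e1, IsGalois.card_aut_eq_finrank]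
  -- additive maps are linear maps
  let e2 : (F →+ F) ≃ₗ[F] (F →ₗ[ZMod p] F) :=
    { (AddMonoidHom.toZModLinearMapEquiv p (M := F) (M₁ := F)) with
      map_smul' := fun c f => by ext x; rfl }
  rw [e2.finrank_eq, Module.finrank_linearMap, Module.finrank_self, mul_one]

theorem finite_aut : Finite (F ≃+* F) :=
  Finite.of_injective (fun σ : F ≃+* F => (σ : F → F))
    (fun σ τ h => by ext x; exact congrFun h x)

/-- A `Fintype` structure on the automorphisms of a finite field. -/
noncomputable def autFintype : Fintype (F ≃+* F) :=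
  haveI : Finite (F ≃+* F) := finite_aut
  Fintype.ofFinite _

/-- The automorphisms of a finite field form a basis of its additive endomorphisms. -/
noncomputable def autBasis : letI := autFintype (F := F); Basis (F ≃+* F) F (F →+ F) :=
  letI := autFintype (F := F)
  haveI : Nonempty (F ≃+* F) := ⟨RingEquiv.refl F⟩
  basisOfLinearIndependentOfCardEqFinrank linearIndependent_aut_addHom
    (by rw [← Nat.card_eq_fintype_card]; exact card_aut_eq_finrank)

theorem autBasis_apply (σ : F ≃+* F) : autBasis σ = ((σ : F →+* F) : F →+ F) := by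
  unfold autBasis
  letI := autFintype (F := F)
  haveI : Nonempty (F ≃+* F) := ⟨RingEquiv.refl F⟩
  rw [coe_basisOfLinearIndependentOfCardEqFinrank]

theorem repr_addHom (f : F →+ F) (x : F) :
    letI := autFintype (F := F)
    f x = ∑ σ : F ≃+* F, autBasis.repr f σ * σ x := by
  letI := autFintype (F := F)
  have h := (autBasis (F := F)).sum_repr f
  have h2 := DFunLike.congr_fun h x
  rw [← h2, AddMonoidHom.finsetSum_apply]
  refine Finset.sum_congr rfl (fun σ _ => ?_)
  rw [AddMonoidHom.smul_apply, autBasis_apply]
  rfl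

theorem exists_repr_addHom (f : F →+ F) :
    ∃ (s : Finset (F ≃+* F)) (c : (F ≃+* F) → F), ∀ x : F, f x = ∑ σ ∈ s, c σ * σ x := by
  letI := autFintype (F := F)
  exact ⟨Finset.univ, fun σ => autBasis.repr f σ, fun x => repr_addHom f x⟩

theorem exists_repr_biadditive (B : F →+ F →+ F) :
    ∃ (s : Finset ((F ≃+* F) × (F ≃+* F))) (c : (F ≃+* F) × (F ≃+* F) → F),
      ∀ x y : F, B x y = ∑ p ∈ s, c p * (p.1 x * p.2 y) := by
  letI := autFintype (F := F)
  -- coefficient maps
  let g : (F ≃+* F) → (F →+ F) := fun τ =>
    AddMonoidHom.mk' (fun x => autBasis.repr (B x) τ) (fun x y => by simp [map_add])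
  refine ⟨Finset.univ, fun p => autBasis.repr (g p.2) p.1, fun x y => ?_⟩
  rw [repr_addHom (B x) y, Fintype.sum_prod_type_right]
  refine Finset.sum_congr rfl (fun τ _ => ?_)
  have h1 : autBasis.repr (B x) τ = g τ x := rfl
  rw [h1, repr_addHom (g τ) x, Finset.sum_mul]
  refine Finset.sum_congr rfl (fun σ _ => ?_)
  ring

/-- Function version of `exists_repr_biadditive`. -/
theorem exists_repr_biadditive_fun (A : F → F → F)
    (hl : ∀ x x' y, A (x + x') y = A x y + A x' y)
    (hr : ∀ x y y', A x (y + y') = A x y + A x y') :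
    ∃ (s : Finset ((F ≃+* F) × (F ≃+* F))) (c : (F ≃+* F) × (F ≃+* F) → F),
      ∀ x y : F, A x y = ∑ p ∈ s, c p * (p.1 x * p.2 y) := by
  let B : F →+ F →+ F := AddMonoidHom.mk' (fun x => AddMonoidHom.mk' (A x) (hr x))
    (fun x x' => by ext y; exact hl x x' y)
  exact exists_repr_biadditive B

end Cfsg.Agent.helper6.FieldAut
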