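import Mathlib
import Cfsg.Agent.Lib_lead_Frobenius
import Cfsg.Agent.Lib_helper10_Alperin

set_option autoImplicit false

namespace Cfsg.Agent.helper6.FusInv

open Cfsg.Agent.helper10 Cfsg.Agent.lead

/-- Local control: if the `p'`-elements of `N_G(U)` centralize a tame `U ≤ P`, then the action of
`N_G(U)` on `U` is induced by `P` (local form of the lead's `frob_local_control`). -/
theorem local_control {G : Type*} [Group G] [Finite G] {p : ℕ} [hp : Fact p.Prime]
    (P : Sylow p G) (U : Subgroup G) (hU : U ≤ (P : Subgroup G))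
    (htame : ¬ p ∣ ((P : Subgroup G) ⊓ Subgroup.normalizer (U : Set G)).relIndex
      (Subgroup.normalizer (U : Set G)))
    (hloc : ∀ g ∈ Subgroup.normalizer (U : Set G), Nat.Coprime (orderOf g) p →
      g ∈ Subgroup.centralizer (U : Set G))
    (x : G) (hx : x ∈ Subgroup.normalizer (U : Set G)) :
    ∃ y ∈ (P : Subgroup G), ∀ t ∈ U, y * t * y⁻¹ = x * t * x⁻¹ := by
  set N := Subgroup.normalizer (U : Set G) with hN
  let f : N →* MulAut U := U.normalizerMonoidHom
  have hrange : IsPGroup p f.range := by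
    rintro ⟨φ, n, rfl⟩
    obtain ⟨k, hk⟩ := exists_pow_coprime_order (p := p) (n : G)
    refine ⟨k, ?_⟩
    apply Subtype.ext
    simp only [Subgroup.coe_pow, Subgroup.coe_one]
    rw [← map_pow]
    have hmem : (n ^ p ^ k : N) ∈ f.ker := by
      rw [Subgroup.normalizerMonoidHom_ker, Subgroup.mem_subgroupOf]
      simp only [Subgroup.coe_pow]
      exact hloc _ (Subgroup.pow_mem _ n.2 _) hk
    exact hmem
  obtain ⟨j, hj⟩ := IsPGroup.iff_card.mp hrange
  set Q : Subgroup N := ((P : Subgroup G) ⊓ N).subgroupOf N with hQ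
  have hQidx : ¬ p ∣ Q.index := htame
  have hmap : Q.map f.rangeRestrict = ⊤ := by
    rw [← Subgroup.index_eq_one]
    have h1 : (Q.map f.rangeRestrict).index ∣ Q.index :=
      Subgroup.index_map_dvd Q f.rangeRestrict_surjective
    have h2 : (Q.map f.rangeRestrict).index ∣ p ^ j := by
      rw [← hj]; exact Subgroup.index_dvd_card _
    obtain ⟨i, hi, hi'⟩ := (Nat.dvd_prime_pow hp.out).mp h2
    rcases Nat.eq_zero_or_pos i with h0 | h0
    · rw [hi', h0, pow_zero]
    · exfalso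
      apply hQidx
      refine dvd_trans ?_ h1
      rw [hi']
      exact dvd_pow_self p h0.ne'
  have hxm : f.rangeRestrict ⟨x, hx⟩ ∈ Q.map f.rangeRestrict := by
    rw [hmap]; exact Subgroup.mem_top _
  obtain ⟨y, hyQ, hy⟩ := hxm
  have hyP : (y : G) ∈ (P : Subgroup G) := by
    have hyQ' : y ∈ ((P : Subgroup G) ⊓ N).subgroupOf N := hyQ
    rw [Subgroup.mem_subgroupOf] at hyQ'
    exact hyQ'.1
  refine ⟨(y : G), hyP, ?_⟩
  intro t ht
  have h1 : f y = f ⟨x, hx⟩ := by
    have := congrArg Subtype.val hy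
    simpa using this
  have h2 : ((f y ⟨t, ht⟩ : U) : G) = ((f ⟨x, hx⟩ ⟨t, ht⟩ : U) : G) := by rw [h1]
  rw [Subgroup.normalizerMonoidHom_apply_apply_coe,
    Subgroup.normalizerMonoidHom_apply_apply_coe] at h2
  exact h2

/-- A property preserved by each link of a chain is preserved along the chain. -/
theorem chain_invariant {G : Type*} [Group G] {𝓕 : Set (Subgroup G)} (P : G → Prop)
    (key : ∀ T ∈ 𝓕, ∀ x ∈ Subgroup.normalizer (T : Set G), ∀ t ∈ T, (P (x⁻¹ * t * x) ↔ P t)) :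
    ∀ (l : List (Subgroup G × G)) (B : Set G),
      (∀ q ∈ l, q.1 ∈ 𝓕 ∧ q.2 ∈ Subgroup.normalizer ((q.1 : Subgroup G) : Set G)) →
      ChainCond B l →
      ∀ b ∈ B, (P (((l.map Prod.snd).prod)⁻¹ * b * (l.map Prod.snd).prod) ↔ P b) := by
  intro l
  induction l with
  | nil => intro B _ _ b _; simp
  | cons q l ih =>
    intro B hq hB b hb
    obtain ⟨hBq, hB'⟩ := hB
    have hq1 := hq q (List.mem_cons_self)
    have hb' : q.2⁻¹ * b * q.2 ∈ rconj B q.2 := ⟨b, hb, rfl⟩
    have h2 := ih (rconj B q.2) (fun q' hq' => hq q' (List.mem_cons_of_mem _ hq')) hB' _ hb'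
    have h1 := key q.1 hq1.1 q.2 hq1.2 b (hBq hb)
    simp only [List.map_cons, List.prod_cons]
    have e : (q.2 * (l.map Prod.snd).prod)⁻¹ * b * (q.2 * (l.map Prod.snd).prod)
        = ((l.map Prod.snd).prod)⁻¹ * (q.2⁻¹ * b * q.2) * (l.map Prod.snd).prod := by group
    rw [e]
    exact h2.trans h1

/-- Fusion invariance: a subgroup `M` of `S`, normal in `S`, such that every subgroup `H ≤ S`
either has all odd-order elements of `N_G(H)` centralizing it, or lies in `M`, is closed under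
`G`-fusion in `S` in both directions. -/
theorem fusion_invariant {G : Type*} [Group G] [Finite G] (S : Sylow 2 G) (M : Subgroup G)
    (hMn : ∀ s ∈ (S : Subgroup G), ∀ m ∈ (S : Subgroup G), (s * m * s⁻¹ ∈ M ↔ m ∈ M))
    (hloc : ∀ H : Subgroup G, H ≤ (S : Subgroup G) →
      (∀ g ∈ Subgroup.normalizer (H : Set G), Odd (orderOf g) →
        g ∈ Subgroup.centralizer (H : Set G)) ∨ H ≤ M)
    (a : G) (ha : a ∈ (S : Subgroup G)) (g : G) (hg : g⁻¹ * a * g ∈ (S : Subgroup G)) :
    g⁻¹ * a * g ∈ M ↔ a ∈ M := by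
  have : Fact (Nat.Prime 2) := ⟨Nat.prime_two⟩
  set 𝓕 : Set (Subgroup G) := {U | U ≤ (S : Subgroup G) ∧
    ¬ 2 ∣ ((S : Subgroup G) ⊓ Subgroup.normalizer (U : Set G)).relIndex
      (Subgroup.normalizer (U : Set G))} with h𝓕def
  have hchain := alperin_chain S 𝓕 (fun U hU => hU.1) (fun T hT => by
    obtain ⟨g, hg1, hg2⟩ := exists_tame_conj S T hT
    exact ⟨_, ⟨hg1, hg2⟩, ⟨g, rfl⟩, hg2⟩)
  have h1 : Subgroup.zpowers a ≤ (S : Subgroup G) := by
    rw [Subgroup.zpowers_le]; exact ha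
  have h2 : rconj ((Subgroup.zpowers a : Subgroup G) : Set G) g ⊆ (S : Subgroup G) := by
    rw [rconj_coe, SetLike.coe_subset_coe, MonoidHom.map_zpowers, Subgroup.zpowers_le]
    simpa [MulAut.conj_apply] using hg
  obtain ⟨l, hl1, hl2, hl3⟩ := hchain _ (Subgroup.zpowers a) g rfl h1 h2
  have key : ∀ T ∈ 𝓕, ∀ x ∈ Subgroup.normalizer (T : Set G), ∀ t ∈ T,
      (x⁻¹ * t * x ∈ M ↔ t ∈ M) := by
    intro T hT x hx t ht
    rcases hloc T hT.1 with h | h
    · obtain ⟨y, hy, hyT⟩ := local_control S T hT.1 hT.2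
        (fun g hg hcop => h g hg (Nat.coprime_two_right.mp hcop)) x⁻¹ (Subgroup.inv_mem _ hx)
      have h3 := hyT t ht
      rw [inv_inv] at h3
      rw [← h3]
      exact hMn y hy t (hT.1 ht)
    · have h3 : x⁻¹ * t * x ∈ T := by
        have := (Subgroup.mem_normalizer_iff.mp (Subgroup.inv_mem _ hx) t).mp ht
        rwa [inv_inv] at this
      exact ⟨fun _ => h ht, fun _ => h h3⟩
  have h3 := chain_invariant (fun b => b ∈ M) key l _ hl2 hl3 a (Subgroup.mem_zpowers a)
  rw [hl1] at h3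
  exact h3

end Cfsg.Agent.helper6.FusInv
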