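import Mathlib
import Cfsg.Agent.Lib_helper6_FusInv
import Cfsg.Agent.Lib_helper6_Transfer

set_option autoImplicit false

namespace Cfsg.Agent.helper6.FusInv

open scoped IsMulCommutative in
/-- Transfer: a subgroup `M` of index 2 in the Sylow 2-subgroup `S`, closed under `G`-fusion in
both directions, is `S ∩ K` for a normal subgroup `K` of index 2. -/
theorem exists_index_two_of_fusion {G : Type*} [Group G] [Finite G] (S : Sylow 2 G)
    (M : Subgroup G) (hidx : M.relIndex (S : Subgroup G) = 2)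
    (hfus : ∀ a ∈ (S : Subgroup G), ∀ g : G, g⁻¹ * a * g ∈ (S : Subgroup G) →
      (g⁻¹ * a * g ∈ M ↔ a ∈ M)) :
    ∃ K : Subgroup G, K.Normal ∧ K.index = 2 ∧ ∀ a ∈ (S : Subgroup G), (a ∈ K ↔ a ∈ M) := by
  obtain ⟨M', hM'⟩ : ∃ M' : Subgroup ↥(S : Subgroup G), M' = M.subgroupOf S := ⟨_, rfl⟩
  have hidx' : M'.index = 2 := by rw [hM']; exact hidx
  have hn : M'.Normal := Subgroup.normal_of_index_eq_two hidx'
  have hcard : Nat.card (↥(S : Subgroup G) ⧸ M') = 2 := by
    rw [← Subgroup.index_eq_card]; exact hidx'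
  have : Fact (Nat.Prime 2) := ⟨Nat.prime_two⟩
  have hcyc : IsCyclic (↥(S : Subgroup G) ⧸ M') := isCyclic_of_prime_card hcard
  have hcomm : IsMulCommutative (↥(S : Subgroup G) ⧸ M') :=
    ⟨⟨fun a b => (IsCyclic.commGroup (α := ↥(S : Subgroup G) ⧸ M')).mul_comm a b⟩⟩
  obtain ⟨ϕ, hϕ⟩ : ∃ ϕ : ↥(S : Subgroup G) →* ↥(S : Subgroup G) ⧸ M', ϕ = QuotientGroup.mk' M' :=
    ⟨_, rfl⟩
  obtain ⟨V, hV⟩ : ∃ V : G →* ↥(S : Subgroup G) ⧸ M', V = MonoidHom.transfer ϕ := ⟨_, rfl⟩
  have hϕeq : ∀ u v : ↥(S : Subgroup G), ((u : G) ∈ M ↔ (v : G) ∈ M) → ϕ u = ϕ v := by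
    intro u v h
    rw [hϕ, QuotientGroup.mk'_apply, QuotientGroup.mk'_apply, QuotientGroup.eq,
      Subgroup.mul_mem_iff_of_index_two hidx', inv_mem_iff, hM', Subgroup.mem_subgroupOf,
      Subgroup.mem_subgroupOf]
    exact h
  have hϕone : ∀ u : ↥(S : Subgroup G), ϕ u = 1 ↔ (u : G) ∈ M := by
    intro u
    rw [hϕ, QuotientGroup.mk'_apply, QuotientGroup.eq_one_iff, hM', Subgroup.mem_subgroupOf]
  have hsq : ∀ y : ↥(S : Subgroup G) ⧸ M', y ^ 2 = 1 := by
    intro y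
    have := pow_card_eq_one' (x := y)
    rwa [hcard] at this
  have hodd : Odd (S : Subgroup G).index := by
    rw [← Nat.not_even_iff_odd, even_iff_two_dvd]
    exact S.not_dvd_index
  have hVS : ∀ (a : G) (ha : a ∈ (S : Subgroup G)), V a = ϕ ⟨a, ha⟩ := by
    intro a ha
    have h1 : MonoidHom.transfer ϕ a = ϕ ⟨a, ha⟩ ^ (S : Subgroup G).index := by
      apply Cfsg.Agent.helper6.transfer_eq_pow_of_control
      intro n c hm
      rw [← map_pow]
      apply hϕeq
      exact hfus (a ^ n) (Subgroup.pow_mem _ ha n) c hm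
    rw [hV, h1]
    obtain ⟨k, hk⟩ := hodd
    rw [hk, pow_succ, pow_mul, hsq, one_pow, one_mul]
  refine ⟨V.ker, inferInstance, ?_, ?_⟩
  · rw [Subgroup.index_ker]
    obtain ⟨a₀, ha₀⟩ : ∃ a₀ : ↥(S : Subgroup G), a₀ ∉ M' := by
      by_contra h
      push Not at h
      have : M' = ⊤ := by ext a; simp [h a]
      rw [this, Subgroup.index_top] at hidx'
      omega
    have hne : V (a₀ : G) ≠ 1 := by
      rw [hVS _ a₀.2, Ne, hϕone]
      intro h
      apply ha₀
      rw [hM', Subgroup.mem_subgroupOf]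
      exact h
    have h1 : Nat.card V.range ∣ 2 := by
      have := Subgroup.card_subgroup_dvd_card V.range
      rwa [hcard] at this
    have h2 : Nat.card V.range ≠ 1 := by
      intro h
      rw [Subgroup.card_eq_one] at h
      have h3 : V (a₀ : G) ∈ V.range := ⟨_, rfl⟩
      rw [h, Subgroup.mem_bot] at h3
      exact hne h3
    exact ((Nat.dvd_prime Nat.prime_two).mp h1).resolve_left h2
  · intro a ha
    rw [MonoidHom.mem_ker, hVS a ha, hϕone]

end Cfsg.Agent.helper6.FusInv
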