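import Mathlib
import Cfsg.Agent.Lib_helper6_FusInv2

set_option autoImplicit false

namespace Cfsg.Agent.helper6.FusInv

theorem card_subgroupOf_of_le' {G : Type*} [Group G] {M K : Subgroup G} (h : M ≤ K) :
    Nat.card (M.subgroupOf K) = Nat.card M :=
  Nat.card_congr (Subgroup.subgroupOfEquivOfLe h).toEquiv

/-- `S ∩ K` is a Sylow 2-subgroup of the normal subgroup `K` of index 2. -/
theorem card_eq_sylow_of_index_two {G : Type*} [Group G] [Finite G] (S : Sylow 2 G)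
    (K : Subgroup G) (hK : K.index = 2) (M : Subgroup G) (hMK : M ≤ K)
    (hidx : M.relIndex (S : Subgroup G) = 2) (hMS : M ≤ S) :
    Nat.card (M.subgroupOf K) = 2 ^ (Nat.card K).factorization 2 := by
  have : Fact (Nat.Prime 2) := ⟨Nat.prime_two⟩
  rw [card_subgroupOf_of_le' hMK]
  have h1 : Nat.card (M.subgroupOf S) * (M.subgroupOf S).index = Nat.card S :=
    Subgroup.card_mul_index _
  rw [card_subgroupOf_of_le' hMS] at h1
  have h1' : Nat.card M * 2 = Nat.card S := by rw [← h1]; congr 1; exact hidx.symm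
  have h2 : Nat.card K * K.index = Nat.card G := Subgroup.card_mul_index K
  rw [hK] at h2
  have h3 := S.card_eq_multiplicity
  have hKpos : Nat.card K ≠ 0 := Nat.card_pos.ne'
  have h4 : (Nat.card G).factorization 2 = (Nat.card K).factorization 2 + 1 := by
    rw [← h2, Nat.factorization_mul hKpos (by norm_num), Finsupp.add_apply,
      Nat.prime_two.factorization_self]
  rw [h4, pow_succ] at h3
  have h5 : Nat.card M * 2 = 2 ^ (Nat.card K).factorization 2 * 2 := by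
    rw [h1']; exact h3
  exact Nat.eq_of_mul_eq_mul_right (by norm_num) h5

/-- The Sylow 2-subgroups of `K` are isomorphic to `M = S ∩ K`. -/
theorem sylow_equiv_of_index_two {G : Type*} [Group G] [Finite G] (S : Sylow 2 G)
    (K : Subgroup G) (hK : K.index = 2) (M : Subgroup G) (hMK : M ≤ K)
    (hidx : M.relIndex (S : Subgroup G) = 2) (hMS : M ≤ S) (P : Sylow 2 ↥K) :
    Nonempty ((P : Subgroup ↥K) ≃* M) := by
  have : Fact (Nat.Prime 2) := ⟨Nat.prime_two⟩
  let P₀ : Sylow 2 ↥K := Sylow.ofCard (M.subgroupOf K)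
    (card_eq_sylow_of_index_two S K hK M hMK hidx hMS)
  have e1 : (P : Subgroup ↥K) ≃* (P₀ : Subgroup ↥K) := Sylow.equiv P P₀
  have e2 : (P₀ : Subgroup ↥K) ≃* M := Subgroup.subgroupOfEquivOfLe hMK
  exact ⟨e1.trans e2⟩

/-- A subgroup of index 2 of `K` cannot contain `S ∩ K`. -/
theorem not_le_of_index_two {G : Type*} [Group G] [Finite G] (S : Sylow 2 G)
    (K : Subgroup G) (hK : K.index = 2) (M : Subgroup G) (hMK : M ≤ K)
    (hidx : M.relIndex (S : Subgroup G) = 2) (hMS : M ≤ S) (L : Subgroup ↥K) (hL : L.index = 2)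
    (hML : M.subgroupOf K ≤ L) : False := by
  have : Fact (Nat.Prime 2) := ⟨Nat.prime_two⟩
  let P₀ : Sylow 2 ↥K := Sylow.ofCard (M.subgroupOf K)
    (card_eq_sylow_of_index_two S K hK M hMK hidx hMS)
  have h1 : L.index ∣ (P₀ : Subgroup ↥K).index := Subgroup.index_dvd_of_le hML
  rw [hL] at h1
  exact P₀.not_dvd_index h1

/-- The key step for "no subgroup of index 2": a family of elements of `K`, all `G`-conjugate to an
element `r` commuting with some `x ∉ K`, with `r` a quotient of two members of the family, lies in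
every subgroup of index 2 of `K`. -/
theorem good_mem_of_index_two {G : Type*} [Group G] (K : Subgroup G) (hK : K.index = 2)
    (r x : G) (hxK : x ∉ K) (hxr : x * r = r * x) (good : Set G) (hgoodK : ∀ t ∈ good, t ∈ K)
    (hconj : ∀ t ∈ good, IsConj t r) (b₁ b₀ : G) (hb₁ : b₁ ∈ good) (hb₀ : b₀ ∈ good)
    (hr : r = b₁ * b₀⁻¹) (L : Subgroup ↥K) (hL : L.index = 2) :
    ∀ t (ht : t ∈ good), (⟨t, hgoodK t ht⟩ : ↥K) ∈ L := by
  have hKn : K.Normal := Subgroup.normal_of_index_eq_two hK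
  have hLn : L.Normal := Subgroup.normal_of_index_eq_two hL
  have hrK : r ∈ K := by
    rw [hr]; exact K.mul_mem (hgoodK _ hb₁) (K.inv_mem (hgoodK _ hb₀))
  -- every good element is `K`-conjugate to `r`
  have hKconj : ∀ t ∈ good, ∃ k ∈ K, k * t * k⁻¹ = r := by
    intro t ht
    obtain ⟨g, hg⟩ := isConj_iff.mp (hconj t ht)
    by_cases hgK : g ∈ K
    · exact ⟨g, hgK, hg⟩
    · refine ⟨x * g, ?_, ?_⟩
      · rw [Subgroup.mul_mem_iff_of_index_two hK]
        exact ⟨fun h => absurd h hxK, fun h => absurd h hgK⟩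
      · calc x * g * t * (x * g)⁻¹ = x * (g * t * g⁻¹) * x⁻¹ := by group
          _ = x * r * x⁻¹ := by rw [hg]
          _ = r := by rw [hxr]; group
  have hiff : ∀ t (ht : t ∈ good), ((⟨t, hgoodK t ht⟩ : ↥K) ∈ L ↔ (⟨r, hrK⟩ : ↥K) ∈ L) := by
    intro t ht
    obtain ⟨k, hk, hkt⟩ := hKconj t ht
    have e : (⟨r, hrK⟩ : ↥K) = ⟨k, hk⟩ * ⟨t, hgoodK t ht⟩ * (⟨k, hk⟩ : ↥K)⁻¹ := by
      apply Subtype.ext
      simp only [Subgroup.coe_mul, Subgroup.coe_inv]
      exact hkt.symm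
    rw [e]
    exact (hLn.mem_comm_iff.trans (by rw [inv_mul_cancel_left])).symm
  have hrL : (⟨r, hrK⟩ : ↥K) ∈ L := by
    by_contra hno
    have h1 : (⟨b₁, hgoodK _ hb₁⟩ : ↥K) ∉ L := fun h => hno ((hiff _ hb₁).mp h)
    have h0 : (⟨b₀, hgoodK _ hb₀⟩ : ↥K) ∉ L := fun h => hno ((hiff _ hb₀).mp h)
    have h0' : (⟨b₀, hgoodK _ hb₀⟩ : ↥K)⁻¹ ∉ L := fun h => h0 (by simpa using L.inv_mem h)
    have h2 : (⟨b₁, hgoodK _ hb₁⟩ : ↥K) * (⟨b₀, hgoodK _ hb₀⟩ : ↥K)⁻¹ ∈ L := by
      rw [Subgroup.mul_mem_iff_of_index_two hL]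
      exact ⟨fun h => absurd h h1, fun h => absurd h h0'⟩
    apply hno
    have e : (⟨r, hrK⟩ : ↥K) = ⟨b₁, hgoodK _ hb₁⟩ * (⟨b₀, hgoodK _ hb₀⟩ : ↥K)⁻¹ := by
      apply Subtype.ext
      simp only [Subgroup.coe_mul, Subgroup.coe_inv]
      exact hr
    rw [e]; exact h2
  intro t ht
  exact (hiff t ht).mpr hrL

end Cfsg.Agent.helper6.FusInv
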