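import Mathlib
import Cfsg.Agent.Lib_helper6_FusInv3

set_option autoImplicit false

namespace Cfsg.Agent.helper6.FusInv

/-- `M = S ∩ K` is a Sylow 2-subgroup of `K` when `|G : K| = |S : M|`. -/
theorem card_eq_sylow_of_index_eq {G : Type*} [Group G] [Finite G] (S : Sylow 2 G)
    (K : Subgroup G) (M : Subgroup G) (hMK : M ≤ K) (hMS : M ≤ S)
    (hK : K.index = M.relIndex (S : Subgroup G)) :
    Nat.card (M.subgroupOf K) = 2 ^ (Nat.card K).factorization 2 := by
  have : Fact (Nat.Prime 2) := ⟨Nat.prime_two⟩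
  rw [card_subgroupOf_of_le' hMK]
  have h1 : Nat.card (M.subgroupOf S) * (M.subgroupOf S).index = Nat.card S :=
    Subgroup.card_mul_index _
  rw [card_subgroupOf_of_le' hMS] at h1
  have h1' : Nat.card M * K.index = Nat.card S := by rw [hK]; exact h1
  have h2 : Nat.card K * K.index = Nat.card G := Subgroup.card_mul_index K
  have h3 := S.card_eq_multiplicity
  have h4 : K.index ∣ 2 ^ (Nat.card G).factorization 2 := by
    rw [← h3, ← h1']; exact dvd_mul_left _ _
  obtain ⟨a, ha, ha'⟩ := (Nat.dvd_prime_pow Nat.prime_two).mp h4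
  have hKpos : Nat.card K ≠ 0 := Nat.card_pos.ne'
  have h5 : (Nat.card G).factorization 2 = (Nat.card K).factorization 2 + a := by
    rw [← h2, ha', Nat.factorization_mul hKpos (by positivity), Finsupp.add_apply,
      Nat.Prime.factorization_pow Nat.prime_two]
    simp
  rw [h5, pow_add] at h3
  have h6 : Nat.card M * 2 ^ a = 2 ^ (Nat.card K).factorization 2 * 2 ^ a := by
    have h7 : Nat.card M * 2 ^ a = Nat.card S := by rw [← h1', ha']
    rw [h7]; exact h3
  exact Nat.eq_of_mul_eq_mul_right (by positivity) h6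

theorem sylow_equiv_of_index_eq {G : Type*} [Group G] [Finite G] (S : Sylow 2 G)
    (K : Subgroup G) (M : Subgroup G) (hMK : M ≤ K) (hMS : M ≤ S)
    (hK : K.index = M.relIndex (S : Subgroup G)) (P : Sylow 2 ↥K) :
    Nonempty ((P : Subgroup ↥K) ≃* M) := by
  have : Fact (Nat.Prime 2) := ⟨Nat.prime_two⟩
  let P₀ : Sylow 2 ↥K := Sylow.ofCard (M.subgroupOf K)
    (card_eq_sylow_of_index_eq S K M hMK hMS hK)
  have e1 : (P : Subgroup ↥K) ≃* (P₀ : Subgroup ↥K) := Sylow.equiv P P₀
  have e2 : (P₀ : Subgroup ↥K) ≃* M := Subgroup.subgroupOfEquivOfLe hMK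
  exact ⟨e1.trans e2⟩

theorem not_le_of_index_eq {G : Type*} [Group G] [Finite G] (S : Sylow 2 G)
    (K : Subgroup G) (M : Subgroup G) (hMK : M ≤ K) (hMS : M ≤ S)
    (hK : K.index = M.relIndex (S : Subgroup G)) (L : Subgroup ↥K) (hL : L.index = 2)
    (hML : M.subgroupOf K ≤ L) : False := by
  have : Fact (Nat.Prime 2) := ⟨Nat.prime_two⟩
  let P₀ : Sylow 2 ↥K := Sylow.ofCard (M.subgroupOf K)
    (card_eq_sylow_of_index_eq S K M hMK hMS hK)
  have h1 : L.index ∣ (P₀ : Subgroup ↥K).index := Subgroup.index_dvd_of_le hML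
  rw [hL] at h1
  exact P₀.not_dvd_index h1

end Cfsg.Agent.helper6.FusInv
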