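import Mathlib
import Cfsg.Agent.Lib_helper5_ChevCZ2
import Cfsg.Agent.Lib_helper5_ChevColl

set_option autoImplicit false

/-! Centraliser of the short root involution in `G₂(2^k)`: basic relations (helper6). -/

namespace Cfsg.Agent.helper6.G2Cen

open Cfsg.Lie Cfsg.Agent.helper5.Chev

theorem hG2 : chevG2 ∈ [chevG2, chevB2, chevD4, chevF4, chevE6, chevE7, chevE8] := by simp

local notation "X" => xG chevG2 hG2

theorem posRoots_G2 : chevG2.posRoots = [6, 7, 8, 9, 10, 11] := by decide +kernel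

section
variable {F : Type*} [Field F]

theorem commute_same (r : ℕ) (t u : F) : Commute (X r t) (X r u) := by
  show X r t * X r u = X r u * X r t
  rw [xG_mul, xG_mul, add_comm]

theorem commute_of_nil (r s : ℕ) (hr : r < chevG2.nroots) (hs : s < chevG2.nroots) (hsr : s ≠ r)
    (hsn : s ≠ chevG2.neg r) (h0 : chevG2.commTerms r s = []) (t u : F) :
    Commute (X r t) (X s u) := by
  have h := commF_of_ok (F := F) chevG2 hG2 (commOK_of_mem chevG2 hG2) r hr s hs hsr hsn t u
  have hcw : cwG chevG2 hG2 r s t u = 1 := by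
    unfold cwG
    rw [h0]
    rfl
  rw [hcw, mul_one] at h
  exact h.symm

theorem comm_of_single (r s k : ℕ) (c : ℤ) (hr : r < chevG2.nroots) (hs : s < chevG2.nroots)
    (hsr : s ≠ r) (hsn : s ≠ chevG2.neg r) (h1 : chevG2.commTerms r s = [(k, c, 1, 1)])
    (t u : F) :
    X s u * X r t = X r t * X s u * X k (-(c : F) * t * u) := by
  have h := commF_of_ok (F := F) chevG2 hG2 (commOK_of_mem chevG2 hG2) r hr s hs hsr hsn t u
  have hcw : cwG chevG2 hG2 r s t u = X k (-(c : F) * t * u) := by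
    unfold cwG
    rw [h1]
    simp only [List.map_cons, List.map_nil, List.prod_cons, List.prod_nil, mul_one, pow_one]
    congr 1
    ring
  rw [hcw] at h
  exact h

theorem c9_10 (t u : F) : Commute (X 9 t) (X 10 u) :=
  commute_of_nil 9 10 (by decide) (by decide) (by decide) (by decide) (by decide +kernel) t u
theorem c9_11 (t u : F) : Commute (X 9 t) (X 11 u) :=
  commute_of_nil 9 11 (by decide) (by decide) (by decide) (by decide) (by decide +kernel) t u
theorem c10_11 (t u : F) : Commute (X 10 t) (X 11 u) :=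
  commute_of_nil 10 11 (by decide) (by decide) (by decide) (by decide) (by decide +kernel) t u
theorem c9_6 (t u : F) : Commute (X 9 t) (X 6 u) :=
  commute_of_nil 9 6 (by decide) (by decide) (by decide) (by decide) (by decide +kernel) t u
theorem c9_5 (t u : F) : Commute (X 9 t) (X 5 u) :=
  commute_of_nil 9 5 (by decide) (by decide) (by decide) (by decide) (by decide +kernel) t u
theorem c10_7 (t u : F) : Commute (X 10 t) (X 7 u) :=
  commute_of_nil 10 7 (by decide) (by decide) (by decide) (by decide) (by decide +kernel) t u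
theorem c10_8 (t u : F) : Commute (X 10 t) (X 8 u) :=
  commute_of_nil 10 8 (by decide) (by decide) (by decide) (by decide) (by decide +kernel) t u
theorem c11_6 (t u : F) : Commute (X 11 t) (X 6 u) :=
  commute_of_nil 11 6 (by decide) (by decide) (by decide) (by decide) (by decide +kernel) t u
theorem c11_7 (t u : F) : Commute (X 11 t) (X 7 u) :=
  commute_of_nil 11 7 (by decide) (by decide) (by decide) (by decide) (by decide +kernel) t u
theorem c11_8 (t u : F) : Commute (X 11 t) (X 8 u) :=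
  commute_of_nil 11 8 (by decide) (by decide) (by decide) (by decide) (by decide +kernel) t u
theorem c8_6 (t u : F) : Commute (X 8 t) (X 6 u) :=
  commute_of_nil 8 6 (by decide) (by decide) (by decide) (by decide) (by decide +kernel) t u
theorem c4_6 (t u : F) : Commute (X 4 t) (X 6 u) :=
  commute_of_nil 4 6 (by decide) (by decide) (by decide) (by decide) (by decide +kernel) t u
theorem c1_6 (t u : F) : Commute (X 1 t) (X 6 u) :=
  commute_of_nil 1 6 (by decide) (by decide) (by decide) (by decide) (by decide +kernel) t u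

theorem s10_6 (t u : F) : X 6 u * X 10 t = X 10 t * X 6 u * X 11 (t * u) := by
  have h := comm_of_single (F := F) 10 6 11 (-1) (by decide) (by decide) (by decide) (by decide)
    (by decide +kernel) t u
  have e : -(((-1 : ℤ) : F)) * t * u = t * u := by push_cast; ring
  rw [h, e]

theorem s9_7 (t u : F) : X 7 u * X 9 t = X 9 t * X 7 u * X 10 (3 * t * u) := by
  have h := comm_of_single (F := F) 9 7 10 (-3) (by decide) (by decide) (by decide) (by decide)
    (by decide +kernel) t u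
  have e : -(((-3 : ℤ) : F)) * t * u = 3 * t * u := by push_cast; ring
  rw [h, e]

theorem s9_8 (t u : F) : X 8 u * X 9 t = X 9 t * X 8 u * X 11 (3 * t * u) := by
  have h := comm_of_single (F := F) 9 8 11 (-3) (by decide) (by decide) (by decide) (by decide)
    (by decide +kernel) t u
  have e : -(((-3 : ℤ) : F)) * t * u = 3 * t * u := by push_cast; ring
  rw [h, e]

/-- the element `x_{2a+b}(c) x_{3a+b}(d) x_{3a+2b}(e)` -/
noncomputable def aE (c d e : F) : GL chevG2.Idx F := X 9 c * X 10 d * X 11 e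

theorem aE_00 (c : F) : aE c 0 0 = X 9 c := by
  unfold aE
  rw [xG_zero, xG_zero, mul_one, mul_one]

theorem L6 (τ c d e : F) : X 6 τ * aE c d e = aE c d (d * τ + e) * X 6 τ := by
  unfold aE
  have h9 : X 6 τ * X 9 c = X 9 c * X 6 τ := ((c9_6 c τ).symm).eq
  have h11 : X 6 τ * X 11 (d * τ + e) = X 11 (d * τ + e) * X 6 τ := ((c11_6 _ τ).symm).eq
  calc X 6 τ * (X 9 c * X 10 d * X 11 e)
      = (X 6 τ * X 9 c) * X 10 d * X 11 e := by simp only [mul_assoc]
    _ = X 9 c * (X 6 τ * X 10 d) * X 11 e := by rw [h9]; simp only [mul_assoc]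
    _ = X 9 c * X 10 d * (X 6 τ * (X 11 (d * τ) * X 11 e)) := by
        rw [s10_6]; simp only [mul_assoc]
    _ = X 9 c * X 10 d * (X 11 (d * τ + e) * X 6 τ) := by rw [xG_mul, h11]
    _ = X 9 c * X 10 d * X 11 (d * τ + e) * X 6 τ := by simp only [mul_assoc]

theorem L7 (τ c d e : F) : X 7 τ * aE c d e = aE c (3 * c * τ + d) e * X 7 τ := by
  unfold aE
  have h10 : X 7 τ * X 10 (3 * c * τ + d) = X 10 (3 * c * τ + d) * X 7 τ :=
    ((c10_7 _ τ).symm).eq
  have h11 : X 7 τ * X 11 e = X 11 e * X 7 τ := ((c11_7 e τ).symm).eq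
  calc X 7 τ * (X 9 c * X 10 d * X 11 e)
      = (X 7 τ * X 9 c) * X 10 d * X 11 e := by simp only [mul_assoc]
    _ = X 9 c * (X 7 τ * (X 10 (3 * c * τ) * X 10 d)) * X 11 e := by
        rw [s9_7]; simp only [mul_assoc]
    _ = X 9 c * (X 10 (3 * c * τ + d) * X 7 τ) * X 11 e := by rw [xG_mul, h10]
    _ = X 9 c * X 10 (3 * c * τ + d) * (X 7 τ * X 11 e) := by simp only [mul_assoc]
    _ = X 9 c * X 10 (3 * c * τ + d) * X 11 e * X 7 τ := by rw [h11]; simp only [mul_assoc]

theorem L8 (τ c d e : F) : X 8 τ * aE c d e = aE c d (3 * c * τ + e) * X 8 τ := by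
  unfold aE
  have h10 : X 8 τ * X 10 d = X 10 d * X 8 τ := ((c10_8 d τ).symm).eq
  have h11 : X 8 τ * X 11 (3 * c * τ + e) = X 11 (3 * c * τ + e) * X 8 τ :=
    ((c11_8 _ τ).symm).eq
  have hk : X 11 (3 * c * τ) * X 10 d = X 10 d * X 11 (3 * c * τ) := ((c10_11 d _).symm).eq
  calc X 8 τ * (X 9 c * X 10 d * X 11 e)
      = (X 8 τ * X 9 c) * X 10 d * X 11 e := by simp only [mul_assoc]
    _ = X 9 c * X 8 τ * (X 11 (3 * c * τ) * X 10 d) * X 11 e := by
        rw [s9_8]; simp only [mul_assoc]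
    _ = X 9 c * (X 8 τ * X 10 d) * (X 11 (3 * c * τ) * X 11 e) := by
        rw [hk]; simp only [mul_assoc]
    _ = X 9 c * X 10 d * (X 8 τ * X 11 (3 * c * τ + e)) := by
        rw [h10, xG_mul]; simp only [mul_assoc]
    _ = X 9 c * X 10 d * X 11 (3 * c * τ + e) * X 8 τ := by rw [h11]; simp only [mul_assoc]

theorem L9 (τ c d e : F) : Commute (X 9 τ) (aE c d e) := by
  unfold aE
  exact ((commute_same 9 τ c).mul_right (c9_10 τ d)).mul_right (c9_11 τ e)

theorem L10 (τ c d e : F) : Commute (X 10 τ) (aE c d e) := by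
  unfold aE
  exact (((c9_10 c τ).symm).mul_right (commute_same 10 τ d)).mul_right (c10_11 τ e)

theorem L11 (τ c d e : F) : Commute (X 11 τ) (aE c d e) := by
  unfold aE
  exact (((c9_11 c τ).symm).mul_right ((c10_11 d τ).symm)).mul_right (commute_same 11 τ e)

theorem gen1 (p : ℕ) (hp : p ∈ [6, 7, 8, 9, 10, 11]) (τ c d e : F) :
    ∃ d' e' : F, X p τ * aE c d e = aE c d' e' * X p τ := by
  simp only [List.mem_cons, List.not_mem_nil, or_false] at hp
  rcases hp with rfl | rfl | rfl | rfl | rfl | rfl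
  · exact ⟨_, _, L6 τ c d e⟩
  · exact ⟨_, _, L7 τ c d e⟩
  · exact ⟨_, _, L8 τ c d e⟩
  · exact ⟨d, e, (L9 τ c d e).eq⟩
  · exact ⟨d, e, (L10 τ c d e).eq⟩
  · exact ⟨d, e, (L11 τ c d e).eq⟩

theorem gen2 (p : ℕ) (hp : p ∈ [6, 7, 8, 9, 10, 11]) (τ c d e : F) :
    ∃ d' e' : F, aE c d e * X p τ = X p τ * aE c d' e' := by
  obtain ⟨d', e', h⟩ := gen1 p hp (-τ) c d e
  refine ⟨d', e', ?_⟩
  have h2 : aE c d e = (X p (-τ))⁻¹ * (aE c d' e' * X p (-τ)) := eq_inv_mul_of_mul_eq h
  rw [h2, xG_inv, neg_neg, mul_assoc, mul_assoc, xG_mul, neg_add_cancel, xG_zero, mul_one]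

/-- `U` normalises the cosets `x_9(c) X_10 X_11` -/
theorem U_conj_aE (v : GL chevG2.Idx F) (hv : v ∈ chevG2.posUnipotent F) :
    ∀ c d e : F, (∃ d' e' : F, v * aE c d e = aE c d' e' * v) ∧
      (∃ d' e' : F, aE c d e * v = v * aE c d' e') := by
  unfold ChevalleyDatum.posUnipotent at hv
  induction hv using Subgroup.closure_induction with
  | mem x hx =>
    obtain ⟨r, t, hr, hx⟩ := hx
    have hxr := eq_xG chevG2 hG2 x r t hx
    have hmem : r ∈ [6, 7, 8, 9, 10, 11] := by
      rw [← posRoots_G2]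
      exact (mem_posRoots chevG2 r).mpr hr
    subst hxr
    intro c d e
    exact ⟨gen1 r hmem t c d e, gen2 r hmem t c d e⟩
  | one =>
    intro c d e
    exact ⟨⟨d, e, by rw [one_mul, mul_one]⟩, ⟨d, e, by rw [one_mul, mul_one]⟩⟩
  | mul x y _ _ hx hy =>
    intro c d e
    constructor
    · obtain ⟨d1, e1, h1⟩ := (hy c d e).1
      obtain ⟨d2, e2, h2⟩ := (hx c d1 e1).1
      exact ⟨d2, e2, by rw [mul_assoc, h1, ← mul_assoc, h2, mul_assoc]⟩
    · obtain ⟨d1, e1, h1⟩ := (hx c d e).2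
      obtain ⟨d2, e2, h2⟩ := (hy c d1 e1).2
      exact ⟨d2, e2, by rw [← mul_assoc, h1, mul_assoc, h2, ← mul_assoc]⟩
  | inv x _ hx =>
    intro c d e
    constructor
    · obtain ⟨d1, e1, h1⟩ := (hx c d e).2
      refine ⟨d1, e1, ?_⟩
      have h2 : aE c d e = x * aE c d1 e1 * x⁻¹ := eq_mul_inv_of_mul_eq h1
      rw [h2]
      group
    · obtain ⟨d1, e1, h1⟩ := (hx c d e).1
      refine ⟨d1, e1, ?_⟩
      have h2 : aE c d e = x⁻¹ * (aE c d1 e1 * x) := eq_inv_mul_of_mul_eq h1
      rw [h2]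
      group

/-- every element of `U` in collected form -/
theorem U_decomp (v : GL chevG2.Idx F) (hv : v ∈ chevG2.posUnipotent F) :
    ∃ x6 x7 x8 c d e : F, v = X 6 x6 * X 7 x7 * X 8 x8 * aE c d e := by
  obtain ⟨t, -, rfl⟩ := exists_prodL_U chevG2 hG2 (commOK_of_mem chevG2 hG2) v hv
  refine ⟨t 6, t 7, t 8, t 9, t 10, t 11, ?_⟩
  rw [posRoots_G2]
  unfold aE prodL
  simp only [List.map_cons, List.map_nil, List.prod_cons, List.prod_nil, mul_one, mul_assoc]

end

end Cfsg.Agent.helper6.G2Cen
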