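import Mathlib
import Cfsg.Agent.Lib_helper6_G2CenA

set_option autoImplicit false

/-! Centraliser of the short root involution in `G₂(2^k)`: the Weyl group step (helper6). -/

namespace Cfsg.Agent.helper6.G2Cen

open Cfsg.Lie Cfsg.Agent.helper5.Chev

local notation "X" => xG chevG2 hG2

section
variable {F : Type*} [Field F]

theorem X_mem_U (r : ℕ) (hr : chevG2.IsPosRoot r) (t : F) : X r t ∈ chevG2.posUnipotent F :=
  Subgroup.subset_closure ⟨r, t, hr, rfl⟩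

theorem X_mem_V (r : ℕ) (hr : chevG2.IsNegRoot r) (t : F) : X r t ∈ chevG2.negUnipotent F :=
  Subgroup.subset_closure ⟨r, t, hr, rfl⟩

theorem aE_mem_U (c d e : F) : aE c d e ∈ chevG2.posUnipotent F := by
  unfold aE
  exact Subgroup.mul_mem _ (Subgroup.mul_mem _ (X_mem_U 9 (by decide +kernel) c)
    (X_mem_U 10 (by decide +kernel) d)) (X_mem_U 11 (by decide +kernel) e)

theorem UV_one (y : GL chevG2.Idx F) (hU : y ∈ chevG2.posUnipotent F)
    (hV : y ∈ chevG2.negUnipotent F) : y = 1 := by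
  have h : y ∈ chevG2.borelSubgroup F ⊓ chevG2.negUnipotent F := ⟨U_le_B chevG2 hG2 hU, hV⟩
  rw [B_inf_V chevG2 hG2, Subgroup.mem_bot] at h
  exact h

theorem bad_pos (x6 x7 x8 x10 x11 c' d' e' : F)
    (h : X 6 x6 * X 7 x7 * X 8 x8 * X 10 x10 * X 11 x11 = aE c' d' e') : c' = 0 := by
  have hl : ([6, 7, 8, 9, 10, 11] : List ℕ).Pairwise (· < ·) := by decide
  have hpos : ∀ r ∈ ([6, 7, 8, 9, 10, 11] : List ℕ), chevG2.IsPosRoot r := by
    intro r hr
    rw [← posRoots_G2] at hr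
    exact (mem_posRoots chevG2 r).mp hr
  have heq : prodL chevG2 hG2
      (fun k => if k = 6 then x6 else if k = 7 then x7 else if k = 8 then x8 else
        if k = 10 then x10 else if k = 11 then x11 else 0) [6, 7, 8, 9, 10, 11] =
      prodL chevG2 hG2 (fun k => if k = 9 then c' else if k = 10 then d' else
        if k = 11 then e' else 0) [6, 7, 8, 9, 10, 11] := by
    have h' := h
    unfold aE at h'
    simp only [mul_assoc] at h'
    simpa [prodL, xG_zero, mul_assoc] using h'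
  have key := prodL_inj chevG2 hG2 _ _ [6, 7, 8, 9, 10, 11] hl hpos heq 9 (by simp)
  simpa using key.symm

theorem allneg (s l1 l2 : ℕ) (hs : chevG2.IsNegRoot s) (h1 : chevG2.IsNegRoot l1)
    (h2 : chevG2.IsNegRoot l2) (c1 d1 e1 c' d' e' : F)
    (hE : X s c1 * X l1 d1 * X l2 e1 = aE c' d' e') : c' = 0 := by
  have hV : aE c' d' e' ∈ chevG2.negUnipotent F := by
    rw [← hE]
    exact Subgroup.mul_mem _ (Subgroup.mul_mem _ (X_mem_V s hs c1) (X_mem_V l1 h1 d1))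
      (X_mem_V l2 h2 e1)
  have h1 := UV_one _ (aE_mem_U c' d' e') hV
  apply bad_pos 0 0 0 0 0 c' d' e'
  simp only [xG_zero, mul_one]
  exact h1.symm

/-- the subgroup `X_10 X_11` -/
noncomputable def K (F : Type*) [Field F] : Subgroup (GL chevG2.Idx F) :=
  Subgroup.closure {g | ∃ d e : F, g = X 10 d * X 11 e}

theorem mem_K_iff (k : GL chevG2.Idx F) : k ∈ K F ↔ ∃ d e : F, k = X 10 d * X 11 e := by
  constructor
  · intro hk
    unfold K at hk
    induction hk using Subgroup.closure_induction with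
    | mem x hx => exact hx
    | one => exact ⟨0, 0, by rw [xG_zero, xG_zero, one_mul]⟩
    | mul x y _ _ hx hy =>
      obtain ⟨d, e, rfl⟩ := hx
      obtain ⟨d', e', rfl⟩ := hy
      refine ⟨d + d', e + e', ?_⟩
      have hc : X 11 e * X 10 d' = X 10 d' * X 11 e := ((c10_11 d' e).symm).eq
      calc X 10 d * X 11 e * (X 10 d' * X 11 e')
          = X 10 d * (X 11 e * X 10 d') * X 11 e' := by simp only [mul_assoc]
        _ = (X 10 d * X 10 d') * (X 11 e * X 11 e') := by rw [hc]; simp only [mul_assoc]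
        _ = X 10 (d + d') * X 11 (e + e') := by rw [xG_mul, xG_mul]
    | inv x _ hx =>
      obtain ⟨d, e, rfl⟩ := hx
      refine ⟨-d, -e, ?_⟩
      rw [mul_inv_rev, xG_inv, xG_inv]
      exact ((c10_11 (-d) (-e)).symm).eq
  · rintro ⟨d, e, rfl⟩
    exact Subgroup.subset_closure ⟨d, e, rfl⟩

theorem aE0_eq (d e : F) : aE 0 d e = X 10 d * X 11 e := by
  unfold aE
  rw [xG_zero, one_mul]

theorem aE0_mem_K (d e : F) : aE 0 d e ∈ K F := by
  rw [aE0_eq]
  exact (mem_K_iff _).mpr ⟨d, e, rfl⟩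

/-- the "normaliser" of `X_10 X_11` -/
noncomputable def TK (F : Type*) [Field F] : Subgroup (GL chevG2.Idx F) where
  carrier := {g | (∀ k ∈ K F, g * k * g⁻¹ ∈ K F) ∧ (∀ k ∈ K F, g⁻¹ * k * g ∈ K F)}
  one_mem' := ⟨fun k hk => by simpa using hk, fun k hk => by simpa using hk⟩
  mul_mem' := by
    rintro a b ⟨ha1, ha2⟩ ⟨hb1, hb2⟩
    refine ⟨fun k hk => ?_, fun k hk => ?_⟩
    · have h := ha1 _ (hb1 k hk)
      have e : a * b * k * (a * b)⁻¹ = a * (b * k * b⁻¹) * a⁻¹ := by group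
      rw [e]
      exact h
    · have h := hb2 _ (ha2 k hk)
      have e : (a * b)⁻¹ * k * (a * b) = b⁻¹ * (a⁻¹ * k * a) * b := by group
      rw [e]
      exact h
  inv_mem' := by
    rintro a ⟨ha1, ha2⟩
    refine ⟨fun k hk => ?_, fun k hk => ?_⟩
    · have h := ha2 k hk
      rwa [inv_inv]
    · have h := ha1 k hk
      rwa [inv_inv]

theorem mem_TK_iff (g : GL chevG2.Idx F) : g ∈ TK F ↔
    (∀ k ∈ K F, g * k * g⁻¹ ∈ K F) ∧ (∀ k ∈ K F, g⁻¹ * k * g ∈ K F) := Iff.rfl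

theorem B_conj_K (b : GL chevG2.Idx F) (hb : b ∈ chevG2.borelSubgroup F) :
    ∀ k ∈ K F, b * k * b⁻¹ ∈ K F := by
  obtain ⟨v, hv, h, hh, rfl⟩ := mem_borel chevG2 hG2 b hb
  intro k hk
  obtain ⟨d, e, rfl⟩ := (mem_K_iff k).mp hk
  obtain ⟨χ1, -, h1⟩ := H_conj chevG2 hG2 h hh 10 (by decide)
  obtain ⟨χ2, -, h2⟩ := H_conj chevG2 hG2 h hh 11 (by decide)
  have e1 : v * h * (X 10 d * X 11 e) * (v * h)⁻¹ =
      v * ((h * X 10 d * h⁻¹) * (h * X 11 e * h⁻¹)) * v⁻¹ := by group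
  rw [e1, h1, h2, ← aE0_eq]
  obtain ⟨d', e', h3⟩ := (U_conj_aE v hv 0 (χ1 * d) (χ2 * e)).1
  rw [h3, mul_inv_cancel_right]
  exact aE0_mem_K d' e'

theorem B_le_TK : chevG2.borelSubgroup F ≤ TK F := by
  intro b hb
  refine ⟨B_conj_K b hb, fun k hk => ?_⟩
  have h := B_conj_K b⁻¹ (Subgroup.inv_mem _ hb) k hk
  rwa [inv_inv] at h

theorem N_act (m : GL chevG2.Idx F) (hm : m ∈ chevG2.monomialSubgroup F) :
    ∃ w : List ℕ, (∀ i ∈ w, i < chevG2.rank) ∧ ∀ r < chevG2.nroots, ∃ φ : F, φ ≠ 0 ∧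
      ∀ t : F, m * X r t * m⁻¹ = X (applyW chevG2 w r) (φ * t) := by
  obtain ⟨h, hh, w, hw, rfl⟩ := mem_N_decomp chevG2 hG2 m hm
  refine ⟨w, hw, fun r hr => ?_⟩
  obtain ⟨ε, hε, hc⟩ := nW_conj (F := F) chevG2 hG2 w hw r hr
  obtain ⟨χ, hχ, hc2⟩ := H_conj chevG2 hG2 h hh (applyW chevG2 w r)
    (applyW_lt chevG2 hG2 w hw r hr)
  have hε0 : ε ≠ 0 := by
    rintro rfl
    simp at hε
  refine ⟨χ * ε, mul_ne_zero hχ hε0, fun t => ?_⟩
  calc h * nW chevG2 hG2 w * X r t * (h * nW chevG2 hG2 w)⁻¹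
      = h * (nW chevG2 hG2 w * X r t * (nW chevG2 hG2 w)⁻¹) * h⁻¹ := by group
    _ = X (applyW chevG2 w r) (χ * ε * t) := by rw [hc, hc2, mul_assoc]

/-- the orbit of the triple `(2a+b, 3a+b, 3a+2b)` under the Weyl group -/
def triples : List (ℕ × ℕ × ℕ) :=
  [(9, 10, 11), (8, 11, 6), (4, 6, 1), (2, 1, 0), (3, 0, 5), (7, 5, 10),
   (9, 11, 10), (8, 6, 11), (4, 1, 6), (2, 0, 1), (3, 5, 0), (7, 10, 5)]

theorem triples_closed : ∀ p ∈ triples, ∀ i < chevG2.rank,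
    (chevG2.reflectRoot i p.1, chevG2.reflectRoot i p.2.1, chevG2.reflectRoot i p.2.2) ∈
      triples := by decide +kernel

theorem orbit (w : List ℕ) (hw : ∀ i ∈ w, i < chevG2.rank) :
    (applyW chevG2 w 9, applyW chevG2 w 10, applyW chevG2 w 11) ∈ triples := by
  induction w with
  | nil =>
    show ((9 : ℕ), (10 : ℕ), (11 : ℕ)) ∈ triples
    decide
  | cons i w ih =>
    have h := ih (fun j hj => hw j (List.mem_cons_of_mem _ hj))
    exact triples_closed _ h i (hw i List.mem_cons_self)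

theorem core (s l1 l2 : ℕ) (hmem : (s, l1, l2) ∈ triples) (c1 d1 e1 c' d' e' : F) (hc' : c' ≠ 0)
    (hE : X s c1 * X l1 d1 * X l2 e1 = aE c' d' e') :
    s = 9 ∧ ((l1 = 10 ∧ l2 = 11) ∨ (l1 = 11 ∧ l2 = 10)) := by
  simp only [triples, List.mem_cons, List.not_mem_nil, or_false, Prod.mk.injEq] at hmem
  rcases hmem with ⟨rfl, rfl, rfl⟩ | ⟨rfl, rfl, rfl⟩ | ⟨rfl, rfl, rfl⟩ | ⟨rfl, rfl, rfl⟩ |
    ⟨rfl, rfl, rfl⟩ | ⟨rfl, rfl, rfl⟩ | ⟨rfl, rfl, rfl⟩ | ⟨rfl, rfl, rfl⟩ | ⟨rfl, rfl, rfl⟩ |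
    ⟨rfl, rfl, rfl⟩ | ⟨rfl, rfl, rfl⟩ | ⟨rfl, rfl, rfl⟩
  · exact ⟨rfl, Or.inl ⟨rfl, rfl⟩⟩
  · -- (8, 11, 6)
    exfalso
    apply hc'
    apply bad_pos e1 0 c1 0 d1 c' d' e'
    simp only [xG_zero, mul_one]
    rw [← hE, mul_assoc]
    exact (((c8_6 c1 e1).symm).mul_right ((c11_6 d1 e1).symm)).eq
  · -- (4, 6, 1)
    exfalso
    apply hc'
    have hcm : X 4 c1 * X 6 d1 = X 6 d1 * X 4 c1 := (c4_6 c1 d1).eq
    have hN : X 4 c1 * X 1 e1 = (X 6 d1)⁻¹ * aE c' d' e' := by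
      rw [← hE, hcm]
      group
    have hN1 : X 4 c1 * X 1 e1 = 1 := by
      apply UV_one
      · rw [hN]
        exact Subgroup.mul_mem _ (Subgroup.inv_mem _ (X_mem_U 6 (by decide +kernel) d1))
          (aE_mem_U _ _ _)
      · exact Subgroup.mul_mem _ (X_mem_V 4 (by decide +kernel) c1)
          (X_mem_V 1 (by decide +kernel) e1)
    apply bad_pos d1 0 0 0 0 c' d' e'
    simp only [xG_zero, mul_one]
    rw [← hE, hcm, mul_assoc, hN1, mul_one]
  · exact absurd (allneg 2 1 0 (by decide +kernel) (by decide +kernel) (by decide +kernel)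
      c1 d1 e1 c' d' e' hE) hc'
  · exact absurd (allneg 3 0 5 (by decide +kernel) (by decide +kernel) (by decide +kernel)
      c1 d1 e1 c' d' e' hE) hc'
  · -- (7, 5, 10)
    exfalso
    apply hc'
    have hN : X 5 d1 = (X 7 c1)⁻¹ * aE c' d' e' * (X 10 e1)⁻¹ := by
      rw [← hE]
      group
    have hN1 : X 5 d1 = 1 := by
      apply UV_one
      · rw [hN]
        exact Subgroup.mul_mem _ (Subgroup.mul_mem _
          (Subgroup.inv_mem _ (X_mem_U 7 (by decide +kernel) c1)) (aE_mem_U _ _ _))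
          (Subgroup.inv_mem _ (X_mem_U 10 (by decide +kernel) e1))
      · exact X_mem_V 5 (by decide +kernel) d1
    apply bad_pos 0 c1 0 e1 0 c' d' e'
    simp only [xG_zero, mul_one, one_mul]
    rw [← hE, hN1, mul_one]
  · exact ⟨rfl, Or.inr ⟨rfl, rfl⟩⟩
  · -- (8, 6, 11)
    exfalso
    apply hc'
    apply bad_pos d1 0 c1 0 e1 c' d' e'
    simp only [xG_zero, mul_one]
    rw [← hE, ((c8_6 c1 d1).symm).eq]
  · -- (4, 1, 6)
    exfalso
    apply hc'
    have hN : X 4 c1 * X 1 d1 = aE c' d' e' * (X 6 e1)⁻¹ := by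
      rw [← hE]
      group
    have hN1 : X 4 c1 * X 1 d1 = 1 := by
      apply UV_one
      · rw [hN]
        exact Subgroup.mul_mem _ (aE_mem_U _ _ _)
          (Subgroup.inv_mem _ (X_mem_U 6 (by decide +kernel) e1))
      · exact Subgroup.mul_mem _ (X_mem_V 4 (by decide +kernel) c1)
          (X_mem_V 1 (by decide +kernel) d1)
    apply bad_pos e1 0 0 0 0 c' d' e'
    simp only [xG_zero, mul_one]
    rw [← hE, hN1, one_mul]
  · exact absurd (allneg 2 0 1 (by decide +kernel) (by decide +kernel) (by decide +kernel)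
      c1 d1 e1 c' d' e' hE) hc'
  · exact absurd (allneg 3 5 0 (by decide +kernel) (by decide +kernel) (by decide +kernel)
      c1 d1 e1 c' d' e' hE) hc'
  · -- (7, 10, 5)
    exfalso
    apply hc'
    have hN : X 5 e1 = (X 7 c1 * X 10 d1)⁻¹ * aE c' d' e' := by
      rw [← hE]
      group
    have hN1 : X 5 e1 = 1 := by
      apply UV_one
      · rw [hN]
        exact Subgroup.mul_mem _ (Subgroup.inv_mem _ (Subgroup.mul_mem _
          (X_mem_U 7 (by decide +kernel) c1) (X_mem_U 10 (by decide +kernel) d1)))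
          (aE_mem_U _ _ _)
      · exact X_mem_V 5 (by decide +kernel) e1
    apply bad_pos 0 c1 0 d1 0 c' d' e'
    simp only [xG_zero, mul_one, one_mul]
    rw [← hE, hN1, mul_one]

theorem m_conj_K (m : GL chevG2.Idx F) (hm : m ∈ chevG2.monomialSubgroup F)
    (c d e c' d' e' : F) (hc' : c' ≠ 0) (hE : m * aE c d e * m⁻¹ = aE c' d' e') :
    ∀ k ∈ K F, m * k * m⁻¹ ∈ K F := by
  obtain ⟨w, hw, hact⟩ := N_act m hm
  obtain ⟨φ9, -, h9⟩ := hact 9 (by decide)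
  obtain ⟨φ10, -, h10⟩ := hact 10 (by decide)
  obtain ⟨φ11, -, h11⟩ := hact 11 (by decide)
  have e1 : m * aE c d e * m⁻¹ =
      (m * X 9 c * m⁻¹) * (m * X 10 d * m⁻¹) * (m * X 11 e * m⁻¹) := by
    unfold aE
    group
  rw [e1, h9, h10, h11] at hE
  obtain ⟨-, hcase⟩ := core _ _ _ (orbit w hw) _ _ _ c' d' e' hc' hE
  intro k hk
  obtain ⟨a, b, rfl⟩ := (mem_K_iff k).mp hk
  have e2 : m * (X 10 a * X 11 b) * m⁻¹ = (m * X 10 a * m⁻¹) * (m * X 11 b * m⁻¹) := by group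
  rw [e2, h10, h11]
  rcases hcase with ⟨h1, h2⟩ | ⟨h1, h2⟩
  · rw [h1, h2]
    exact (mem_K_iff _).mpr ⟨_, _, rfl⟩
  · rw [h1, h2]
    exact (mem_K_iff _).mpr ⟨_, _, ((c10_11 _ _).symm).eq⟩

end

end Cfsg.Agent.helper6.G2Cen
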