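import Mathlib
import Cfsg.Agent.Lib_helper6_G2CenB

set_option autoImplicit false

/-! Centraliser of the short root involution in `G₂(2^k)`: the parabolic step (helper6). -/

namespace Cfsg.Agent.helper6.G2Cen

open Cfsg.Lie Cfsg.Agent.helper5.Chev

local notation "X" => xG chevG2 hG2

/-- elements conjugating a subgroup into itself, both ways -/
def Stb {G : Type*} [Group G] (S : Subgroup G) : Subgroup G where
  carrier := {g | (∀ k ∈ S, g * k * g⁻¹ ∈ S) ∧ (∀ k ∈ S, g⁻¹ * k * g ∈ S)}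
  one_mem' := ⟨fun k hk => by simpa using hk, fun k hk => by simpa using hk⟩
  mul_mem' := by
    rintro a b ⟨ha1, ha2⟩ ⟨hb1, hb2⟩
    refine ⟨fun k hk => ?_, fun k hk => ?_⟩
    · have h := ha1 _ (hb1 k hk)
      have e : a * b * k * (a * b)⁻¹ = a * (b * k * b⁻¹) * a⁻¹ := by group
      rw [e]
      exact h
    · have h := hb2 _ (ha2 k hk)
      have e : (a * b)⁻¹ * k * (a * b) = b⁻¹ * (a⁻¹ * k * a) * b := by group
      rw [e]
      exact h
  inv_mem' := by
    rintro a ⟨ha1, ha2⟩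
    refine ⟨fun k hk => ?_, fun k hk => ?_⟩
    · have h := ha2 k hk
      rwa [inv_inv]
    · have h := ha1 k hk
      rwa [inv_inv]

section
variable {F : Type*} [Field F]

/-- the target subgroup -/
noncomputable def QG (F : Type*) [Field F] : Subgroup (GL chevG2.Idx F) :=
  chevG2.rootSubgroup F 9 ⊔ chevG2.rootSubgroup F 10 ⊔ chevG2.rootSubgroup F 11 ⊔
    chevG2.rootSubgroup F 6 ⊔ chevG2.rootSubgroup F 5

theorem X9_mem (t : F) : X 9 t ∈ QG F :=
  Subgroup.mem_sup_left (Subgroup.mem_sup_left (Subgroup.mem_sup_left (Subgroup.mem_sup_left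
    (xG_mem_rootSubgroup chevG2 hG2 9 t))))
theorem X10_mem (t : F) : X 10 t ∈ QG F :=
  Subgroup.mem_sup_left (Subgroup.mem_sup_left (Subgroup.mem_sup_left (Subgroup.mem_sup_right
    (xG_mem_rootSubgroup chevG2 hG2 10 t))))
theorem X11_mem (t : F) : X 11 t ∈ QG F :=
  Subgroup.mem_sup_left (Subgroup.mem_sup_left (Subgroup.mem_sup_right
    (xG_mem_rootSubgroup chevG2 hG2 11 t)))
theorem X6_mem (t : F) : X 6 t ∈ QG F :=
  Subgroup.mem_sup_left (Subgroup.mem_sup_right (xG_mem_rootSubgroup chevG2 hG2 6 t))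
theorem X5_mem (t : F) : X 5 t ∈ QG F :=
  Subgroup.mem_sup_right (xG_mem_rootSubgroup chevG2 hG2 5 t)

theorem aE_mem_QG (c d e : F) : aE c d e ∈ QG F := by
  unfold aE
  exact Subgroup.mul_mem _ (Subgroup.mul_mem _ (X9_mem c) (X10_mem d)) (X11_mem e)

theorem QG_le_cen (χ : F) : QG F ≤ Subgroup.centralizer {X 9 χ} := by
  unfold QG
  refine sup_le (sup_le (sup_le (sup_le ?_ ?_) ?_) ?_) ?_
  all_goals
    intro g hg
    obtain ⟨a, rfl⟩ := mem_rootSubgroup chevG2 hG2 _ g hg
    rw [Subgroup.mem_centralizer_iff]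
    intro y hy
    rw [Set.mem_singleton_iff] at hy
    subst hy
  · exact (commute_same 9 χ a).eq
  · exact (c9_10 χ a).eq
  · exact (c9_11 χ a).eq
  · exact (c9_6 χ a).eq
  · exact (c9_5 χ a).eq

theorem QG_le_grp : QG F ≤ chevG2.group F := by
  unfold QG
  refine sup_le (sup_le (sup_le (sup_le ?_ ?_) ?_) ?_) ?_
  all_goals
    intro g hg
    obtain ⟨a, rfl⟩ := mem_rootSubgroup chevG2 hG2 _ g hg
    exact xG_mem_grp chevG2 hG2 _ (by decide) a

theorem simple1 : chevG2.simple 1 = 6 := by decide +kernel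
theorem neg6 : chevG2.neg 6 = 5 := by decide +kernel
theorem rank2 : chevG2.rank = 2 := by decide +kernel

/-- `n_b` -/
noncomputable def nb (F : Type*) [Field F] : GL chevG2.Idx F := nGt chevG2 hG2 (chevG2.simple 1) 1

theorem nGt6_mem_QG (t : F) : nGt chevG2 hG2 (chevG2.simple 1) t ∈ QG F := by
  apply nGt_mem_of chevG2 hG2 (QG F) (chevG2.simple 1)
  · intro t
    rw [simple1]
    exact X6_mem t
  · intro t
    rw [simple1, neg6]
    exact X5_mem t

theorem hGt6_mem_QG (t : F) : hGt chevG2 hG2 (chevG2.simple 1) t ∈ QG F := by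
  apply hGt_mem_of chevG2 hG2 (QG F) (chevG2.simple 1)
  · intro t
    rw [simple1]
    exact X6_mem t
  · intro t
    rw [simple1, neg6]
    exact X5_mem t

/-- the unipotent radical of `P_b` -/
noncomputable def Ub (F : Type*) [Field F] : Subgroup (GL chevG2.Idx F) :=
  Subgroup.closure {g | ∃ r ∈ [7, 8, 9, 10, 11], ∃ t : F, g = X r t}

theorem Ub_le_U : Ub F ≤ chevG2.posUnipotent F := by
  unfold Ub
  rw [Subgroup.closure_le]
  rintro g ⟨r, hr, t, rfl⟩
  refine X_mem_U r ?_ t
  rw [← mem_posRoots, posRoots_G2]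
  simp only [List.mem_cons, List.not_mem_nil, or_false] at hr ⊢
  omega

theorem refl1_Ub : ∀ r ∈ [7, 8, 9, 10, 11],
    chevG2.reflectRoot 1 r ∈ [7, 8, 9, 10, 11] ∧ r < chevG2.nroots := by decide +kernel

theorem nb_mem_Stb : nb F ∈ Stb (Ub F) := by
  constructor
  · unfold Ub
    apply conj_closure_le
    rintro g ⟨r, hr, t, rfl⟩
    unfold nb
    rw [nG_conj chevG2 hG2 1 (by decide) r (refl1_Ub r hr).2 t]
    exact Subgroup.subset_closure ⟨_, (refl1_Ub r hr).1, _, rfl⟩
  · intro k hk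
    have h := conj_closure_le {g | ∃ r ∈ [7, 8, 9, 10, 11], ∃ t : F, g = X r t} (Ub F) (nb F)⁻¹
      ?_ k hk
    · rwa [inv_inv] at h
    · rintro g ⟨r, hr, t, rfl⟩
      unfold nb
      rw [inv_inv, nG_conj_inv chevG2 hG2 1 (by decide) r (refl1_Ub r hr).2 t]
      exact Subgroup.subset_closure ⟨_, (refl1_Ub r hr).1, _, rfl⟩

/-- the group generated by `n_b` -/
noncomputable def NB (F : Type*) [Field F] : Subgroup (GL chevG2.Idx F) :=
  Subgroup.closure {nb F}

theorem NB_le_Stb : NB F ≤ Stb (Ub F) := by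
  unfold NB
  rw [Subgroup.closure_le]
  intro g hg
  rw [Set.mem_singleton_iff] at hg
  rw [hg]
  exact nb_mem_Stb

theorem NB_le_QG : NB F ≤ QG F := by
  unfold NB
  rw [Subgroup.closure_le]
  intro g hg
  rw [Set.mem_singleton_iff] at hg
  rw [hg]
  exact nGt6_mem_QG 1

theorem X6_eq_K (y d e : F) (h : X 6 y = X 10 d * X 11 e) : y = 0 := by
  have hl : ([6, 10, 11] : List ℕ).Pairwise (· < ·) := by decide
  have hpos : ∀ r ∈ ([6, 10, 11] : List ℕ), chevG2.IsPosRoot r := by
    intro r hr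
    rw [← mem_posRoots, posRoots_G2]
    simp only [List.mem_cons, List.not_mem_nil, or_false] at hr ⊢
    omega
  have heq : prodL chevG2 hG2 (fun k => if k = 6 then y else 0) [6, 10, 11] =
      prodL chevG2 hG2 (fun k => if k = 10 then d else if k = 11 then e else 0) [6, 10, 11] := by
    simpa [prodL, xG_zero, mul_assoc] using h
  have key := prodL_inj chevG2 hG2 _ _ [6, 10, 11] hl hpos heq 6 (by simp)
  simpa using key

theorem na_not_TK : nGt chevG2 hG2 (chevG2.simple 0) (1 : F) ∉ TK F := by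
  intro h
  have h1 := h.1 (X 10 1) ((mem_K_iff _).mpr ⟨1, 0, by rw [xG_zero, mul_one]⟩)
  rw [nG_conj chevG2 hG2 0 (by decide) 10 (by decide) 1] at h1
  obtain ⟨d, e, h2⟩ := (mem_K_iff _).mp h1
  have hr : chevG2.reflectRoot 0 10 = 6 := by decide +kernel
  rw [hr] at h2
  have hη := eta_cast_sq (F := F) chevG2 hG2 0 10 (by decide) (by decide)
  have h0 := X6_eq_K _ d e h2
  rw [mul_one] at h0
  rw [h0, mul_zero] at hη
  exact zero_ne_one hη

theorem closure_le_NB : Subgroup.closure {g : GL chevG2.Idx F | ∃ i < chevG2.rank,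
    g = nGt chevG2 hG2 (chevG2.simple i) 1 ∧ g ∈ TK F} ≤ NB F := by
  rw [Subgroup.closure_le]
  rintro g ⟨i, hi, rfl, hgT⟩
  rw [rank2] at hi
  interval_cases i
  · exact absurd hgT na_not_TK
  · exact Subgroup.subset_closure rfl

theorem aE_inj (c d e c' d' e' : F) (h : aE c d e = aE c' d' e') : c = c' ∧ d = d' ∧ e = e' := by
  have hl : ([9, 10, 11] : List ℕ).Pairwise (· < ·) := by decide
  have hpos : ∀ r ∈ ([9, 10, 11] : List ℕ), chevG2.IsPosRoot r := by
    intro r hr
    rw [← mem_posRoots, posRoots_G2]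
    simp only [List.mem_cons, List.not_mem_nil, or_false] at hr ⊢
    omega
  have heq : prodL chevG2 hG2 (fun k => if k = 9 then c else if k = 10 then d else e)
      [9, 10, 11] =
      prodL chevG2 hG2 (fun k => if k = 9 then c' else if k = 10 then d' else e') [9, 10, 11] := by
    unfold aE at h
    simpa [prodL, mul_assoc] using h
  have key := prodL_inj chevG2 hG2 _ _ [9, 10, 11] hl hpos heq
  have k9 := key 9 (by simp)
  have k10 := key 10 (by simp)
  have k11 := key 11 (by simp)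
  simp at k9 k10 k11
  exact ⟨k9, k10, k11⟩

end

end Cfsg.Agent.helper6.G2Cen
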