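import Mathlib
import Cfsg.Agent.Lib_helper6_G2CenC

set_option autoImplicit false

/-! Centraliser of the short root involution in `G₂(2^k)`: the main theorem (helper6). -/

namespace Cfsg.Agent.helper6.G2Cen

open Cfsg.Lie Cfsg.Agent.helper5.Chev

local notation "X" => xG chevG2 hG2

section
variable {F : Type*} [Field F]

/-- conjugating `x_9(χ)` by a collected element of `U` -/
theorem U_conj_X9 (x6 x7 x8 c0 d0 e0 χ : F) :
    X 6 x6 * X 7 x7 * X 8 x8 * aE c0 d0 e0 * X 9 χ =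
      aE χ (3 * χ * x7 + 0) ((3 * χ * x7 + 0) * x6 + (3 * χ * x8 + 0)) *
        (X 6 x6 * X 7 x7 * X 8 x8 * aE c0 d0 e0) := by
  calc X 6 x6 * X 7 x7 * X 8 x8 * aE c0 d0 e0 * X 9 χ
      = X 6 x6 * X 7 x7 * X 8 x8 * (aE c0 d0 e0 * X 9 χ) := by simp only [mul_assoc]
    _ = X 6 x6 * X 7 x7 * (X 8 x8 * aE χ 0 0) * aE c0 d0 e0 := by
        rw [← (L9 χ c0 d0 e0).eq, ← aE_00 χ]
        simp only [mul_assoc]
    _ = X 6 x6 * (X 7 x7 * aE χ 0 (3 * χ * x8 + 0)) * X 8 x8 * aE c0 d0 e0 := by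
        rw [L8]
        simp only [mul_assoc]
    _ = (X 6 x6 * aE χ (3 * χ * x7 + 0) (3 * χ * x8 + 0)) * X 7 x7 * X 8 x8 * aE c0 d0 e0 := by
        rw [L7]
        simp only [mul_assoc]
    _ = aE χ (3 * χ * x7 + 0) ((3 * χ * x7 + 0) * x6 + (3 * χ * x8 + 0)) *
        (X 6 x6 * X 7 x7 * X 8 x8 * aE c0 d0 e0) := by
        rw [L6]
        simp only [mul_assoc]

theorem B_case [CharP F 2] (b : GL chevG2.Idx F) (hb : b ∈ chevG2.borelSubgroup F)
    (hbC : b ∈ Subgroup.centralizer {X 9 (1 : F)}) : b ∈ QG F := by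
  obtain ⟨v, hv, h, hh, rfl⟩ := mem_borel chevG2 hG2 b hb
  obtain ⟨c, hc, hhc⟩ := Cfsg.Agent.S1034.mem_torus chevG2 hG2 h hh
  have hconj := H_conj_torus chevG2 hG2 h c hc hhc 9 (by decide) 1
  rw [mul_one] at hconj
  obtain ⟨x6, x7, x8, c0, d0, e0, hvd⟩ := U_decomp v hv
  rw [Subgroup.mem_centralizer_iff] at hbC
  have hcen := hbC _ rfl
  have h1 : v * X 9 (torusChar chevG2 c 9) = X 9 1 * v := by
    rw [← hconj]
    have e1 : v * (h * X 9 1 * h⁻¹) = (v * h * X 9 1) * h⁻¹ := by group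
    rw [e1, ← hcen]
    group
  have h2 := U_conj_X9 x6 x7 x8 c0 d0 e0 (torusChar chevG2 c 9)
  rw [← hvd] at h2
  rw [h2] at h1
  have h3 := mul_right_cancel h1
  rw [← aE_00 (1 : F)] at h3
  obtain ⟨k1, k2, k3⟩ := aE_inj _ _ _ _ _ _ h3
  have h3F : (3 : F) = 1 := by
    have h20 : (2 : F) = 0 := CharTwo.two_eq_zero
    linear_combination h20
  rw [k1, h3F] at k2 k3
  have hx7 : x7 = 0 := by simpa using k2
  rw [hx7] at k3
  have hx8 : x8 = 0 := by simpa using k3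
  -- the unipotent part
  have hvQ : v ∈ QG F := by
    rw [hvd, hx7, hx8, xG_zero, xG_zero, mul_one, mul_one]
    exact Subgroup.mul_mem _ (X6_mem x6) (aE_mem_QG c0 d0 e0)
  -- the torus part
  have hc09 : chevG2.cartan 0 9 = 1 := by decide +kernel
  have hc19 : chevG2.cartan 1 9 = 0 := by decide +kernel
  have htc : torusChar chevG2 c 9 = c 0 := by
    unfold torusChar
    rw [rank2, show List.range 2 = [0, 1] from rfl]
    simp [hc09, hc19]
  have hc0 : c 0 = 1 := by rw [← htc, k1]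
  have h5 : h = torP chevG2 hG2 c :=
    Units.ext (by rw [hhc, torP_val chevG2 hG2 c (fun i _ => hc i)])
  have hhQ : h ∈ QG F := by
    rw [h5]
    unfold torP
    have hrange : List.range chevG2.rank = [0, 1] := by
      rw [rank2]
      rfl
    rw [hrange]
    simp only [List.map_cons, List.map_nil, List.prod_cons, List.prod_nil, mul_one]
    have h0 : hGt chevG2 hG2 (chevG2.simple 0) (c 0) = 1 := by
      rw [hc0]
      unfold hGt
      rw [nGt_neg_one, mul_inv_cancel]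
    rw [h0, one_mul]
    exact hGt6_mem_QG (c 1)
  exact Subgroup.mul_mem _ hvQ hhQ

/-- **the centraliser of the short root involution `x_{2a+b}(1)` lies in `Q`** -/
theorem cen_le [CharP F 2] (g : GL chevG2.Idx F) (hgG : g ∈ chevG2.group F)
    (hgC : g ∈ Subgroup.centralizer {X 9 (1 : F)}) : g ∈ QG F := by
  have hC := commOK_of_mem chevG2 hG2
  have hP := posCommOK_of_mem chevG2 hG2
  have hgC' := hgC
  obtain ⟨b, hb, n, hn, u, hu, rfl⟩ := exists_form chevG2 hG2 hC hP g hgG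
  obtain ⟨u₁, hu₁, h₁, hh₁, rfl⟩ := mem_borel chevG2 hG2 b hb
  have huU : u ∈ chevG2.posUnipotent F := UnegOf_le_U chevG2 n hu
  have hmN : h₁ * n ∈ chevG2.monomialSubgroup F := Subgroup.mul_mem _ (H_le_N chevG2 hh₁) hn
  rw [Subgroup.mem_centralizer_iff] at hgC
  have hcen := hgC _ rfl
  obtain ⟨d, e, hd⟩ := (U_conj_aE u huU 1 0 0).1
  obtain ⟨d', e', hd'⟩ := (U_conj_aE u₁ hu₁ 1 0 0).2
  rw [aE_00] at hd hd'
  have h2 : u₁ * (aE 1 d' e' * (h₁ * n)) * u = u₁ * ((h₁ * n) * aE 1 d e) * u := by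
    calc u₁ * (aE 1 d' e' * (h₁ * n)) * u = (u₁ * aE 1 d' e') * (h₁ * n) * u := by group
      _ = (X 9 1 * u₁) * (h₁ * n) * u := by rw [hd']
      _ = X 9 1 * (u₁ * h₁ * n * u) := by group
      _ = u₁ * h₁ * n * u * X 9 1 := hcen
      _ = u₁ * (h₁ * n) * (u * X 9 1) := by group
      _ = u₁ * (h₁ * n) * (aE 1 d e * u) := by rw [hd]
      _ = u₁ * ((h₁ * n) * aE 1 d e) * u := by group
  have h3 : aE 1 d' e' * (h₁ * n) = (h₁ * n) * aE 1 d e :=
    mul_left_cancel (mul_right_cancel h2)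
  have hE : (h₁ * n) * aE 1 d e * (h₁ * n)⁻¹ = aE 1 d' e' := by
    rw [← h3, mul_inv_cancel_right]
  have hE' : (h₁ * n)⁻¹ * aE 1 d' e' * (h₁ * n)⁻¹⁻¹ = aE 1 d e := by
    rw [← hE]
    group
  have hmT : h₁ * n ∈ TK F := by
    refine ⟨m_conj_K _ hmN 1 d e 1 d' e' one_ne_zero hE, fun k hk => ?_⟩
    have h := m_conj_K _ (Subgroup.inv_mem _ hmN) 1 d' e' 1 d e one_ne_zero hE' k hk
    rwa [inv_inv] at h
  obtain ⟨n', hn', h', hh', hm⟩ := N_decomp_of_B_le chevG2 hG2 hC hP (TK F) B_le_TK _ hmN hmT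
  have hn'NB : n' ∈ NB F := closure_le_NB hn'
  have hn'Q : n' ∈ QG F := NB_le_QG hn'NB
  have hn'S := NB_le_Stb hn'NB
  obtain ⟨x6, x7, x8, c0, d0, e0, hvd⟩ := U_decomp u₁ hu₁
  have hvb : X 7 x7 * X 8 x8 * aE c0 d0 e0 ∈ Ub F := by
    unfold aE
    have hm : ∀ r ∈ [7, 8, 9, 10, 11], ∀ t : F, X r t ∈ Ub F := fun r hr t =>
      Subgroup.subset_closure ⟨r, hr, t, rfl⟩
    exact Subgroup.mul_mem _ (Subgroup.mul_mem _ (hm 7 (by simp) x7) (hm 8 (by simp) x8))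
      (Subgroup.mul_mem _ (Subgroup.mul_mem _ (hm 9 (by simp) c0) (hm 10 (by simp) d0))
        (hm 11 (by simp) e0))
  have hvb' := hn'S.2 _ hvb
  -- the decomposition `g = l * b₀`
  have hgl : u₁ * h₁ * n * u = (X 6 x6 * n') *
      ((n'⁻¹ * (X 7 x7 * X 8 x8 * aE c0 d0 e0) * n') * h' * u) := by
    have e1 : u₁ * h₁ * n * u = u₁ * (h₁ * n) * u := by group
    rw [e1, hm, hvd]
    group
  have hlQ : X 6 x6 * n' ∈ QG F := Subgroup.mul_mem _ (X6_mem x6) hn'Q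
  have hb0B : (n'⁻¹ * (X 7 x7 * X 8 x8 * aE c0 d0 e0) * n') * h' * u ∈ chevG2.borelSubgroup F :=
    Subgroup.mul_mem _ (Subgroup.mul_mem _ (U_le_B chevG2 hG2 (Ub_le_U hvb'))
      (H_le_B chevG2 hG2 hh')) (U_le_B chevG2 hG2 huU)
  have hb0C : (n'⁻¹ * (X 7 x7 * X 8 x8 * aE c0 d0 e0) * n') * h' * u ∈
      Subgroup.centralizer {X 9 (1 : F)} := by
    have e2 : (n'⁻¹ * (X 7 x7 * X 8 x8 * aE c0 d0 e0) * n') * h' * u =
        (X 6 x6 * n')⁻¹ * (u₁ * h₁ * n * u) := by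
      rw [hgl]
      group
    rw [e2]
    exact Subgroup.mul_mem _ (Subgroup.inv_mem _ (QG_le_cen 1 hlQ)) hgC'
  rw [hgl]
  exact Subgroup.mul_mem _ hlQ (B_case _ hb0B hb0C)

/-- **the centraliser of `x_{2a+b}(1)` in `G₂(F)`, characteristic 2** -/
theorem cen_short [CharP F 2] (t : GL chevG2.Idx F)
    (ht : (t : Matrix chevG2.Idx chevG2.Idx F) = chevG2.x F 9 1) :
    chevG2.group F ⊓ Subgroup.centralizer {t} = QG F := by
  have htx : t = X 9 1 := eq_xG chevG2 hG2 t _ _ ht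
  subst htx
  apply le_antisymm
  · rintro g ⟨hgG, hgC⟩
    exact cen_le g hgG hgC
  · exact le_inf QG_le_grp (QG_le_cen 1)

end

set_option maxRecDepth 1000000 in
set_option maxHeartbeats 0 in
theorem cz2OK_G2_long : CZ2OK chevG2 11 [4] 1 := cz2OK_of_chk _ _ _ _ (by decide +kernel)

theorem closure_one {F : Type*} [Field F] (a : ℕ) :
    Subgroup.closure {g : GL chevG2.Idx F | ∃ s ∈ [a], ∃ t : F,
      (g : Matrix chevG2.Idx chevG2.Idx F) = chevG2.x F s t} = chevG2.rootSubgroup F a := by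
  unfold ChevalleyDatum.rootSubgroup
  congr 1
  ext g
  simp

end Cfsg.Agent.helper6.G2Cen
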