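import Mathlib
import Cfsg.Agent.Lib_helper6_G2CenD

set_option autoImplicit false

/-! Involutions of `G₂(2^k)`: relations in characteristic two (helper6). -/

namespace Cfsg.Agent.helper6.G2Inv

open Cfsg.Lie Cfsg.Agent.helper5.Chev Cfsg.Agent.helper6.G2Cen

local notation "X" => xG chevG2 hG2

section anychar
variable {F : Type*} [Field F]

theorem aE_mul (c d e c' d' e' : F) :
    aE c d e * aE c' d' e' = aE (c + c') (d + d') (e + e') := by
  unfold aE
  have h1 : X 11 e * X 9 c' = X 9 c' * X 11 e := (c9_11 c' e).eq.symm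
  have h2 : X 10 d * X 9 c' = X 9 c' * X 10 d := (c9_10 c' d).eq.symm
  have h3 : X 11 e * X 10 d' = X 10 d' * X 11 e := (c10_11 d' e).eq.symm
  calc X 9 c * X 10 d * X 11 e * (X 9 c' * X 10 d' * X 11 e')
      = X 9 c * X 10 d * (X 11 e * X 9 c') * X 10 d' * X 11 e' := by simp only [mul_assoc]
    _ = X 9 c * (X 10 d * X 9 c') * X 11 e * X 10 d' * X 11 e' := by
        rw [h1]; simp only [mul_assoc]
    _ = X 9 c * X 9 c' * X 10 d * (X 11 e * X 10 d') * X 11 e' := by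
        rw [h2]; simp only [mul_assoc]
    _ = (X 9 c * X 9 c') * (X 10 d * X 10 d') * (X 11 e * X 11 e') := by
        rw [h3]; simp only [mul_assoc]
    _ = X 9 (c + c') * X 10 (d + d') * X 11 (e + e') := by rw [xG_mul, xG_mul, xG_mul]

theorem aE_zero : aE (0 : F) 0 0 = 1 := by
  unfold aE
  rw [xG_zero, xG_zero, xG_zero, mul_one, mul_one]

theorem aE_inv' (c d e : F) : (aE c d e)⁻¹ = aE (-c) (-d) (-e) := by
  apply inv_eq_of_mul_eq_one_right
  rw [aE_mul, add_neg_cancel, add_neg_cancel, add_neg_cancel, aE_zero]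

/-- the normal subgroup `X_9 X_10 X_11` of `U` -/
noncomputable def N3 (F : Type*) [Field F] : Subgroup (GL chevG2.Idx F) where
  carrier := {g | ∃ c d e : F, g = aE c d e}
  mul_mem' := by
    rintro _ _ ⟨c, d, e, rfl⟩ ⟨c', d', e', rfl⟩
    exact ⟨_, _, _, aE_mul c d e c' d' e'⟩
  one_mem' := ⟨0, 0, 0, aE_zero.symm⟩
  inv_mem' := by
    rintro _ ⟨c, d, e, rfl⟩
    exact ⟨_, _, _, aE_inv' c d e⟩

theorem aE_mem_N3 (c d e : F) : aE c d e ∈ N3 F := ⟨c, d, e, rfl⟩

theorem N3_conj (u : GL chevG2.Idx F) (hu : u ∈ chevG2.posUnipotent F) (n : GL chevG2.Idx F)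
    (hn : n ∈ N3 F) : u * n * u⁻¹ ∈ N3 F := by
  obtain ⟨c, d, e, rfl⟩ := hn
  obtain ⟨d', e', h⟩ := (U_conj_aE u hu c d e).1
  exact ⟨c, d', e', by rw [h]; group⟩

/-- uniqueness of the collected form -/
theorem nf_inj (a b c d e f a' b' c' d' e' f' : F)
    (h : X 6 a * X 7 b * X 8 c * aE d e f = X 6 a' * X 7 b' * X 8 c' * aE d' e' f') :
    a = a' ∧ b = b' ∧ c = c' ∧ d = d' ∧ e = e' ∧ f = f' := by
  have hl : ([6, 7, 8, 9, 10, 11] : List ℕ).Pairwise (· < ·) := by decide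
  have hpos : ∀ r ∈ ([6, 7, 8, 9, 10, 11] : List ℕ), chevG2.IsPosRoot r := by
    intro r hr
    rw [← mem_posRoots, posRoots_G2]
    exact hr
  have heq : prodL chevG2 hG2 (fun k => if k = 6 then a else if k = 7 then b else if k = 8 then c
      else if k = 9 then d else if k = 10 then e else f) [6, 7, 8, 9, 10, 11] =
      prodL chevG2 hG2 (fun k => if k = 6 then a' else if k = 7 then b' else if k = 8 then c'
      else if k = 9 then d' else if k = 10 then e' else f') [6, 7, 8, 9, 10, 11] := by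
    unfold aE at h
    simpa [prodL, mul_assoc] using h
  have key := prodL_inj chevG2 hG2 _ _ [6, 7, 8, 9, 10, 11] hl hpos heq
  have k6 := key 6 (by simp)
  have k7 := key 7 (by simp)
  have k8 := key 8 (by simp)
  have k9 := key 9 (by simp)
  have k10 := key 10 (by simp)
  have k11 := key 11 (by simp)
  simp at k6 k7 k8 k9 k10 k11
  exact ⟨k6, k7, k8, k9, k10, k11⟩

theorem X8_mem_N3 (w : F) (h : X 8 w ∈ N3 F) : w = 0 := by
  obtain ⟨c, d, e, h⟩ := h
  have h' : X 6 0 * X 7 0 * X 8 w * aE 0 0 0 = X 6 0 * X 7 0 * X 8 (0 : F) * aE c d e := by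
    simp only [xG_zero, aE_zero, one_mul, mul_one]
    exact h
  exact (nf_inj _ _ _ _ _ _ _ _ _ _ _ _ h').2.2.1

end anychar

section char2
set_option linter.unusedSectionVars false
variable {F : Type*} [Field F] [CharP F 2]

theorem two_eq_zero' : (2 : F) = 0 := CharTwo.two_eq_zero

theorem three_eq_one : (3 : F) = 1 := by
  have h2 : (2 : F) = 0 := CharTwo.two_eq_zero
  calc (3 : F) = 2 + 1 := by norm_num
    _ = 1 := by rw [h2, zero_add]

theorem X_inv2 (r : ℕ) (t : F) : (X r t)⁻¹ = X r t := by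
  rw [xG_inv, CharTwo.neg_eq]

theorem X_sq (r : ℕ) (t : F) : X r t * X r t = 1 := by
  rw [xG_mul, CharTwo.add_self_eq_zero, xG_zero]

theorem aE_inv (c d e : F) : (aE c d e)⁻¹ = aE c d e := by
  rw [aE_inv', CharTwo.neg_eq, CharTwo.neg_eq, CharTwo.neg_eq]

theorem aE_sq (c d e : F) : aE c d e * aE c d e = 1 := by
  rw [aE_mul, CharTwo.add_self_eq_zero, CharTwo.add_self_eq_zero, CharTwo.add_self_eq_zero,
    aE_zero]

/-- conjugation formulas on `N3` -/
theorem K1 (τ c d e : F) : X 6 τ * aE c d e * (X 6 τ)⁻¹ = aE c d (d * τ + e) := by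
  rw [mul_inv_eq_iff_eq_mul, L6]

theorem K2 (τ c d e : F) : X 7 τ * aE c d e * (X 7 τ)⁻¹ = aE c (c * τ + d) e := by
  rw [mul_inv_eq_iff_eq_mul, L7, three_eq_one, one_mul]

theorem K3 (τ c d e : F) : X 8 τ * aE c d e * (X 8 τ)⁻¹ = aE c d (c * τ + e) := by
  rw [mul_inv_eq_iff_eq_mul, L8, three_eq_one, one_mul]

theorem K9 (τ c d e : F) : X 9 τ * aE c d e * (X 9 τ)⁻¹ = aE c d e := by
  rw [mul_inv_eq_iff_eq_mul, (L9 τ c d e).eq]

theorem K10 (τ c d e : F) : X 10 τ * aE c d e * (X 10 τ)⁻¹ = aE c d e := by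
  rw [mul_inv_eq_iff_eq_mul, (L10 τ c d e).eq]

/-- from a swap relation to a conjugation formula, in characteristic two -/
theorem conj_of_swap (r s : ℕ) (t u : F) (W : GL chevG2.Idx F)
    (h : X s u * X r t = X r t * X s u * W) : X r t * X s u * (X r t)⁻¹ = X s u * W := by
  rw [X_inv2]
  calc X r t * X s u * X r t = X r t * (X s u * X r t) := mul_assoc _ _ _
    _ = X r t * (X r t * X s u * W) := by rw [h]
    _ = (X r t * X r t) * X s u * W := by simp only [mul_assoc]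
    _ = X s u * W := by rw [X_sq, one_mul]

theorem s7_8 (t u : F) : X 8 u * X 7 t = X 7 t * X 8 u * aE 0 (t ^ 2 * u) (t * u ^ 2) := by
  have h := commF_of_ok (F := F) chevG2 hG2 (commOK_of_mem chevG2 hG2) 7 (by decide) 8 (by decide)
    (by decide) (by decide) t u
  have h1 : chevG2.commTerms 7 8 = [(9, -2, 1, 1), (10, -3, 2, 1), (11, 3, 1, 2)] := by
    decide +kernel
  have hcw : cwG chevG2 hG2 7 8 t u = aE 0 (t ^ 2 * u) (t * u ^ 2) := by
    unfold cwG aE
    rw [h1]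
    simp only [List.map_cons, List.map_nil, List.prod_cons, List.prod_nil, mul_one, pow_one,
      CharTwo.neg_eq]
    have e9 : ((-2 : ℤ) : F) * t * u = 0 := by
      push_cast; rw [CharTwo.neg_eq, two_eq_zero', zero_mul, zero_mul]
    have e10 : ((-3 : ℤ) : F) * t ^ 2 * u = t ^ 2 * u := by
      push_cast; rw [CharTwo.neg_eq, three_eq_one, one_mul]
    have e11 : ((3 : ℤ) : F) * t * u ^ 2 = t * u ^ 2 := by
      push_cast; rw [three_eq_one, one_mul]
    rw [e9, e10, e11, mul_assoc]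
  rw [hcw] at h
  exact h

theorem s7_6 (t u : F) : X 6 u * X 7 t =
    X 7 t * X 6 u * (X 8 (t * u) * aE (t ^ 2 * u) (t ^ 3 * u) (t ^ 3 * u ^ 2)) := by
  have h := commF_of_ok (F := F) chevG2 hG2 (commOK_of_mem chevG2 hG2) 7 (by decide) 6 (by decide)
    (by decide) (by decide) t u
  have h1 : chevG2.commTerms 7 6 = [(8, -1, 1, 1), (9, 1, 2, 1), (10, 1, 3, 1), (11, 1, 3, 2)] := by
    decide +kernel
  have hcw : cwG chevG2 hG2 7 6 t u =
      X 8 (t * u) * aE (t ^ 2 * u) (t ^ 3 * u) (t ^ 3 * u ^ 2) := by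
    unfold cwG aE
    rw [h1]
    simp only [List.map_cons, List.map_nil, List.prod_cons, List.prod_nil, mul_one, pow_one,
      CharTwo.neg_eq]
    have e8 : ((-1 : ℤ) : F) * t * u = t * u := by
      push_cast; rw [CharTwo.neg_eq, one_mul]
    have e9 : ((1 : ℤ) : F) * t ^ 2 * u = t ^ 2 * u := by push_cast; rw [one_mul]
    have e10 : ((1 : ℤ) : F) * t ^ 3 * u = t ^ 3 * u := by push_cast; rw [one_mul]
    have e11 : ((1 : ℤ) : F) * t ^ 3 * u ^ 2 = t ^ 3 * u ^ 2 := by push_cast; rw [one_mul]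
    rw [e8, e9, e10, e11]
    simp only [mul_assoc]
  rw [hcw] at h
  exact h

theorem s6_7 (t u : F) : X 7 u * X 6 t =
    X 6 t * X 7 u * (X 8 (t * u) * aE (t * u ^ 2) (t * u ^ 3) 0) := by
  have h := commF_of_ok (F := F) chevG2 hG2 (commOK_of_mem chevG2 hG2) 6 (by decide) 7 (by decide)
    (by decide) (by decide) t u
  have h1 : chevG2.commTerms 6 7 = [(8, 1, 1, 1), (9, 1, 1, 2), (10, -1, 1, 3), (11, -2, 2, 3)] := by
    decide +kernel
  have hcw : cwG chevG2 hG2 6 7 t u = X 8 (t * u) * aE (t * u ^ 2) (t * u ^ 3) 0 := by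
    unfold cwG aE
    rw [h1]
    simp only [List.map_cons, List.map_nil, List.prod_cons, List.prod_nil, mul_one, pow_one,
      CharTwo.neg_eq]
    have e8 : ((1 : ℤ) : F) * t * u = t * u := by push_cast; rw [one_mul]
    have e9 : ((1 : ℤ) : F) * t * u ^ 2 = t * u ^ 2 := by push_cast; rw [one_mul]
    have e10 : ((-1 : ℤ) : F) * t * u ^ 3 = t * u ^ 3 := by
      push_cast; rw [CharTwo.neg_eq, one_mul]
    have e11 : ((-2 : ℤ) : F) * t ^ 2 * u ^ 3 = 0 := by
      push_cast; rw [CharTwo.neg_eq, two_eq_zero', zero_mul, zero_mul]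
    rw [e8, e9, e10, e11]
    simp only [mul_assoc]
  rw [hcw] at h
  exact h

/-- conjugation formulas, characteristic two -/
theorem K4 (t u : F) : X 7 t * X 8 u * (X 7 t)⁻¹ = X 8 u * aE 0 (t ^ 2 * u) (t * u ^ 2) :=
  conj_of_swap 7 8 t u _ (s7_8 t u)

theorem K5 (t u : F) : X 9 t * X 8 u * (X 9 t)⁻¹ = X 8 u * X 11 (t * u) := by
  have h := conj_of_swap 9 8 t u _ (s9_8 t u)
  rwa [three_eq_one, one_mul] at h

theorem K6 (t u : F) : X 10 t * X 6 u * (X 10 t)⁻¹ = X 6 u * X 11 (t * u) :=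
  conj_of_swap 10 6 t u _ (s10_6 t u)

theorem K7 (t u : F) : X 7 t * X 6 u * (X 7 t)⁻¹ =
    X 6 u * (X 8 (t * u) * aE (t ^ 2 * u) (t ^ 3 * u) (t ^ 3 * u ^ 2)) :=
  conj_of_swap 7 6 t u _ (s7_6 t u)

theorem K8 (t u : F) : X 6 t * X 7 u * (X 6 t)⁻¹ =
    X 7 u * (X 8 (t * u) * aE (t * u ^ 2) (t * u ^ 3) 0) :=
  conj_of_swap 6 7 t u _ (s6_7 t u)

theorem K68 (t u : F) : X 6 t * X 8 u * (X 6 t)⁻¹ = X 8 u := by
  rw [mul_inv_eq_iff_eq_mul]
  exact ((c8_6 u t).symm).eq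

/-- square roots exist -/
theorem exists_sq [Finite F] (y : F) : ∃ c : F, c ^ 2 = y := by
  have hinj : Function.Injective (frobenius F 2) := frobenius_inj F 2
  have hsurj : Function.Surjective (frobenius F 2) := Finite.surjective_of_injective hinj
  obtain ⟨c, hc⟩ := hsurj y
  exact ⟨c, by rw [← hc, frobenius_def]⟩

end char2

end Cfsg.Agent.helper6.G2Inv
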