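import Mathlib
import Cfsg.Agent.Lib_helper6_G2InvA
import Cfsg.Agent.Lib_helper5_TwTorus
import Cfsg.Agent.Lib_helper5_ChevCZ3

set_option autoImplicit false

/-! Involutions of `G₂(2^k)`: reduction of involutions of `U` to root involutions (helper6). -/

namespace Cfsg.Agent.helper6.G2Inv

open Cfsg.Lie Cfsg.Agent.helper5.Chev Cfsg.Agent.helper6.G2Cen

local notation "X" => xG chevG2 hG2

section anychar
variable {F : Type*} [Field F]

/-- conjugacy inside the Chevalley group -/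
def Cj (x y : GL chevG2.Idx F) : Prop := ∃ h ∈ chevG2.group F, h * x * h⁻¹ = y

theorem Cj_refl (x : GL chevG2.Idx F) : Cj x x := ⟨1, Subgroup.one_mem _, by group⟩

theorem Cj_trans {x y z : GL chevG2.Idx F} (h1 : Cj x y) (h2 : Cj y z) : Cj x z := by
  obtain ⟨h, hh, rfl⟩ := h1
  obtain ⟨k, hk, rfl⟩ := h2
  exact ⟨k * h, Subgroup.mul_mem _ hk hh, by group⟩

theorem Cj_of_eq {x y : GL chevG2.Idx F} (h : x = y) : Cj x y := h ▸ Cj_refl x

theorem Cj_X (r : ℕ) (hr : r < chevG2.nroots) (τ : F) (x : GL chevG2.Idx F) :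
    Cj x (X r τ * x * (X r τ)⁻¹) := ⟨X r τ, xG_mem_grp chevG2 hG2 r hr τ, rfl⟩

theorem Cj_sq {x y : GL chevG2.Idx F} (h : Cj x y) (hx : x * x = 1) : y * y = 1 := by
  obtain ⟨k, -, rfl⟩ := h
  calc k * x * k⁻¹ * (k * x * k⁻¹) = k * (x * x) * k⁻¹ := by group
    _ = 1 := by rw [hx]; group

theorem conj_mul2 {G : Type*} [Group G] (h x y : G) :
    h * (x * y) * h⁻¹ = (h * x * h⁻¹) * (h * y * h⁻¹) := by group

theorem simple0 : chevG2.simple 0 = 7 := by decide +kernel

/-- the Weyl element `n_a` -/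
noncomputable def na (F : Type*) [Field F] : GL chevG2.Idx F := nGt chevG2 hG2 (chevG2.simple 0) 1

theorem na_mem : na F ∈ chevG2.group F := by
  obtain ⟨-, hN, -⟩ := Cfsg.Agent.S1043.result (F := F) chevG2 hG2
  exact hN (nGt_one_mem chevG2 hG2 _ (by rw [simple0]; decide))

theorem nb_mem : nb F ∈ chevG2.group F := by
  obtain ⟨-, hN, -⟩ := Cfsg.Agent.S1043.result (F := F) chevG2 hG2
  exact hN (nGt_one_mem chevG2 hG2 _ (by rw [simple1]; decide))

theorem tor9 (c : F) (hc : c ≠ 0) : Cj (X 9 c) (X 9 1) := by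
  let c' : ℕ → F := fun i => if i = 0 then c⁻¹ else 1
  have hc' : ∀ i, c' i ≠ 0 := by
    intro i
    by_cases h : i = 0
    · simp [c', h, hc]
    · simp [c', h]
  have hmem : torP chevG2 hG2 c' ∈ chevG2.group F := by
    obtain ⟨hB, -, -⟩ := Cfsg.Agent.S1043.result (F := F) chevG2 hG2
    exact hB (H_le_B chevG2 hG2 (torP_mem chevG2 hG2 c' (fun i _ => hc' i)))
  refine ⟨torP chevG2 hG2 c', hmem, ?_⟩
  rw [H_conj_torus chevG2 hG2 _ c' hc' (torP_val chevG2 hG2 c' (fun i _ => hc' i)) 9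
    (by decide) c]
  have e0 : chevG2.cartan 0 9 = 1 := by decide +kernel
  have e1 : chevG2.cartan 1 9 = 0 := by decide +kernel
  have ht : torusChar chevG2 c' 9 = c⁻¹ := by
    unfold torusChar
    rw [rank2, show List.range 2 = [0, 1] from rfl]
    simp [e0, e1, c']
  rw [ht, inv_mul_cancel₀ hc]

theorem tor11 (c : F) (hc : c ≠ 0) : Cj (X 11 c) (X 11 1) := by
  let c' : ℕ → F := fun i => if i = 1 then c⁻¹ else 1
  have hc' : ∀ i, c' i ≠ 0 := by
    intro i
    by_cases h : i = 1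
    · simp [c', h, hc]
    · simp [c', h]
  have hmem : torP chevG2 hG2 c' ∈ chevG2.group F := by
    obtain ⟨hB, -, -⟩ := Cfsg.Agent.S1043.result (F := F) chevG2 hG2
    exact hB (H_le_B chevG2 hG2 (torP_mem chevG2 hG2 c' (fun i _ => hc' i)))
  refine ⟨torP chevG2 hG2 c', hmem, ?_⟩
  rw [H_conj_torus chevG2 hG2 _ c' hc' (torP_val chevG2 hG2 c' (fun i _ => hc' i)) 11
    (by decide) c]
  have e0 : chevG2.cartan 0 11 = 0 := by decide +kernel
  have e1 : chevG2.cartan 1 11 = 1 := by decide +kernel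
  have ht : torusChar chevG2 c' 11 = c⁻¹ := by
    unfold torusChar
    rw [rank2, show List.range 2 = [0, 1] from rfl]
    simp [e0, e1, c']
  rw [ht, inv_mul_cancel₀ hc]

theorem aE_0d0 (d : F) : aE 0 d 0 = X 10 d := by
  unfold aE
  rw [xG_zero, xG_zero, one_mul, mul_one]

theorem aE_00e (e : F) : aE 0 0 e = X 11 e := by
  unfold aE
  rw [xG_zero, xG_zero, one_mul, one_mul]

end anychar

section char2
set_option linter.unusedSectionVars false
variable {F : Type*} [Field F] [CharP F 2]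

theorem Wa_conj (s : ℕ) (hs : s < chevG2.nroots) (t : F) :
    na F * X s t * (na F)⁻¹ = X (chevG2.reflectRoot 0 s) t := by
  unfold na
  rw [nG_conj chevG2 hG2 0 (by decide) s hs t]
  have h1 : ((etaOf chevG2 0 s : ℤ) : F) = 1 := by
    rcases Cfsg.Agent.S1031.eta_sq chevG2 hG2 0 s (by decide) hs with h | h
    · rw [h]; push_cast; rfl
    · rw [h]; push_cast; rw [CharTwo.neg_eq]
  rw [h1, one_mul]

theorem Wb_conj (s : ℕ) (hs : s < chevG2.nroots) (t : F) :
    nb F * X s t * (nb F)⁻¹ = X (chevG2.reflectRoot 1 s) t := by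
  unfold nb
  rw [nG_conj chevG2 hG2 1 (by decide) s hs t]
  have h1 : ((etaOf chevG2 1 s : ℤ) : F) = 1 := by
    rcases Cfsg.Agent.S1031.eta_sq chevG2 hG2 1 s (by decide) hs with h | h
    · rw [h]; push_cast; rfl
    · rw [h]; push_cast; rw [CharTwo.neg_eq]
  rw [h1, one_mul]

theorem Cj_na (x : GL chevG2.Idx F) : Cj x (na F * x * (na F)⁻¹) := ⟨na F, na_mem, rfl⟩

theorem Cj_nb (x : GL chevG2.Idx F) : Cj x (nb F * x * (nb F)⁻¹) := ⟨nb F, nb_mem, rfl⟩

theorem aE_X6 (c d e τ : F) : aE c d e * X 6 τ = X 6 τ * aE c d (d * τ + e) := by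
  rw [L6]
  congr 2
  linear_combination (-(d * τ)) * (two_eq_zero' (F := F))

theorem aE_X7 (c d e τ : F) : aE c d e * X 7 τ = X 7 τ * aE c (c * τ + d) e := by
  rw [L7, three_eq_one, one_mul]
  congr 2
  linear_combination (-(c * τ)) * (two_eq_zero' (F := F))

theorem aE_X8 (c d e τ : F) : aE c d e * X 8 τ = X 8 τ * aE c d (c * τ + e) := by
  rw [L8, three_eq_one, one_mul]
  congr 2
  linear_combination (-(c * τ)) * (two_eq_zero' (F := F))

/-- a nontrivial element of `X_10 X_11` is conjugate to `x_11(1)` -/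
theorem F3 (t m : F) (h : t ≠ 0 ∨ m ≠ 0) : Cj (aE 0 t m) (X 11 1) := by
  by_cases ht : t = 0
  · subst ht
    have hm : m ≠ 0 := by
      rcases h with h | h
      · exact absurd rfl h
      · exact h
    rw [aE_00e]
    exact tor11 m hm
  · have h1 : Cj (aE 0 t m) (X 10 t) := by
      have := Cj_X 6 (by decide) (m / t) (aE 0 t m)
      rw [K1] at this
      have e : t * (m / t) + m = 0 := by
        rw [mul_div_cancel₀ m ht, CharTwo.add_self_eq_zero]
      rwa [e, aE_0d0] at this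
    have h2 : Cj (X 10 t) (X 11 t) := by
      have := Cj_nb (X 10 t)
      rw [Wb_conj 10 (by decide) t] at this
      have e : chevG2.reflectRoot 1 10 = 11 := by decide +kernel
      rwa [e] at this
    exact Cj_trans h1 (Cj_trans h2 (tor11 t ht))

theorem aE_c00 (c : F) : aE c 0 0 = X 9 c := aE_00 c

/-- an element of `N3` with nonzero `x_9` part is conjugate to `x_9(1)` -/
theorem F2 (s t m : F) (hs : s ≠ 0) : Cj (aE s t m) (X 9 1) := by
  have h1 : Cj (aE s t m) (aE s 0 m) := by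
    have := Cj_X 7 (by decide) (t / s) (aE s t m)
    rw [K2] at this
    have e : s * (t / s) + t = 0 := by
      rw [mul_div_cancel₀ t hs, CharTwo.add_self_eq_zero]
    rwa [e] at this
  have h2 : Cj (aE s 0 m) (X 9 s) := by
    have := Cj_X 8 (by decide) (m / s) (aE s 0 m)
    rw [K3] at this
    have e : s * (m / s) + m = 0 := by
      rw [mul_div_cancel₀ m hs, CharTwo.add_self_eq_zero]
    rwa [e, aE_c00] at this
  exact Cj_trans h1 (Cj_trans h2 (tor9 s hs))

/-- `x_8(q) x_10(d) x_11(e)` with `q ≠ 0` is conjugate to `x_9(1)` -/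
theorem F1 [Finite F] (q d e : F) (hq : q ≠ 0) : Cj (X 8 q * aE 0 d e) (X 9 1) := by
  obtain ⟨c, hc⟩ := exists_sq (d / q)
  have h1 : Cj (X 8 q * aE 0 d e) (X 8 q * aE 0 0 (c * q ^ 2 + e)) := by
    have := Cj_X 7 (by decide) c (X 8 q * aE 0 d e)
    rw [conj_mul2, K4, K2, mul_assoc, aE_mul] at this
    have e1 : (0 : F) + 0 = 0 := add_zero 0
    have e2 : c ^ 2 * q + (0 * c + d) = 0 := by
      rw [hc, div_mul_cancel₀ d hq, zero_mul, zero_add, CharTwo.add_self_eq_zero]
    rwa [e1, e2] at this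
  have h2 : Cj (X 8 q * aE 0 0 (c * q ^ 2 + e)) (X 8 q) := by
    have := Cj_X 9 (by decide) ((c * q ^ 2 + e) / q) (X 8 q * aE 0 0 (c * q ^ 2 + e))
    rw [conj_mul2, K5, K9, mul_assoc, ← aE_00e, aE_mul] at this
    have e1 : (0 : F) + 0 = 0 := add_zero 0
    have e2 : (c * q ^ 2 + e) / q * q + (c * q ^ 2 + e) = 0 := by
      rw [div_mul_cancel₀ _ hq, CharTwo.add_self_eq_zero]
    rwa [e1, e2, aE_zero, mul_one] at this
  have h3 : Cj (X 8 q) (X 9 q) := by
    have := Cj_na (X 8 q)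
    rw [Wa_conj 8 (by decide) q] at this
    have e : chevG2.reflectRoot 0 8 = 9 := by decide +kernel
    rwa [e] at this
  exact Cj_trans h1 (Cj_trans h2 (Cj_trans h3 (tor9 q hq)))

/-- `x_6(p) x_9(s)` with `p ≠ 0` -/
theorem F4 [Finite F] (p s : F) (hp : p ≠ 0) :
    Cj (X 6 p * X 9 s) (X 11 1) ∨ Cj (X 6 p * X 9 s) (X 9 1) := by
  have r6 : chevG2.reflectRoot 0 6 = 10 := by decide +kernel
  have r9 : chevG2.reflectRoot 0 9 = 8 := by decide +kernel
  have r10 : chevG2.reflectRoot 1 10 = 11 := by decide +kernel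
  by_cases hs : s = 0
  · left
    subst hs
    rw [xG_zero, mul_one]
    have h1 : Cj (X 6 p) (X 10 p) := by
      have := Cj_na (X 6 p)
      rwa [Wa_conj 6 (by decide) p, r6] at this
    have h2 : Cj (X 10 p) (X 11 p) := by
      have := Cj_nb (X 10 p)
      rwa [Wb_conj 10 (by decide) p, r10] at this
    exact Cj_trans h1 (Cj_trans h2 (tor11 p hp))
  · right
    have h1 : Cj (X 6 p * X 9 s) (X 8 s * aE 0 p 0) := by
      have := Cj_na (X 6 p * X 9 s)
      rw [conj_mul2, Wa_conj 6 (by decide) p, Wa_conj 9 (by decide) s, r6, r9] at this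
      rwa [(c10_8 p s).eq, ← aE_0d0] at this
    exact Cj_trans h1 (F1 s p 0 hs)

end char2

end Cfsg.Agent.helper6.G2Inv
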