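import Mathlib
import Cfsg.Agent.Lib_helper6_G2InvB

set_option autoImplicit false

/-! Involutions of `G₂(2^k)`: classification of the involutions of `U` (helper6). -/

namespace Cfsg.Agent.helper6.G2Inv

open Cfsg.Lie Cfsg.Agent.helper5.Chev Cfsg.Agent.helper6.G2Cen

local notation "X" => xG chevG2 hG2

section char2
set_option linter.unusedSectionVars false
variable {F : Type*} [Field F] [CharP F 2]

theorem aE_X8' (c d e τ : F) (Y : GL chevG2.Idx F) :
    aE c d e * (X 8 τ * Y) = X 8 τ * (aE c d (c * τ + e) * Y) := by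
  rw [← mul_assoc, aE_X8, mul_assoc]

theorem X8_X8' (a b : F) (Y : GL chevG2.Idx F) : X 8 a * (X 8 b * Y) = X 8 (a + b) * Y := by
  rw [← mul_assoc, xG_mul]

/-- case `p = q = 0` -/
theorem caseC [Finite F] (r s t m : F)
    (h2 : (X 8 r * aE s t m) * (X 8 r * aE s t m) = 1) (h1 : X 8 r * aE s t m ≠ 1) :
    Cj (X 8 r * aE s t m) (X 11 1) ∨ Cj (X 8 r * aE s t m) (X 9 1) := by
  have e : (X 8 r * aE s t m) * (X 8 r * aE s t m) = aE 0 0 (s * r) := by
    calc X 8 r * aE s t m * (X 8 r * aE s t m)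
        = X 8 r * (aE s t m * X 8 r) * aE s t m := by simp only [mul_assoc]
      _ = X 8 r * (X 8 r * aE s t (s * r + m)) * aE s t m := by rw [aE_X8]
      _ = (X 8 r * X 8 r) * (aE s t (s * r + m) * aE s t m) := by simp only [mul_assoc]
      _ = aE 0 0 (s * r) := by
          rw [X_sq, one_mul, aE_mul]
          congr 1
          · exact CharTwo.add_self_eq_zero s
          · exact CharTwo.add_self_eq_zero t
          · linear_combination m * (two_eq_zero' (F := F))
  rw [e, ← aE_zero] at h2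
  have hsr : s * r = 0 := (aE_inj _ _ _ _ _ _ h2).2.2
  by_cases hr : r = 0
  · subst hr
    rw [xG_zero, one_mul] at h1 ⊢
    by_cases hs : s = 0
    · subst hs
      left
      apply F3
      by_contra hcon
      push Not at hcon
      apply h1
      rw [hcon.1, hcon.2, aE_zero]
    · right
      exact F2 s t m hs
  · right
    have hs : s = 0 := by
      rcases mul_eq_zero.mp hsr with h | h
      · exact h
      · exact absurd h hr
    subst hs
    exact F1 r t m hr

/-- case `q = 0`, `p ≠ 0` -/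
theorem caseB [Finite F] (p r s t m : F) (hp : p ≠ 0)
    (h2 : (X 6 p * X 8 r * aE s t m) * (X 6 p * X 8 r * aE s t m) = 1) :
    Cj (X 6 p * X 8 r * aE s t m) (X 11 1) ∨ Cj (X 6 p * X 8 r * aE s t m) (X 9 1) := by
  -- kill `r`
  obtain ⟨s', t', m', h3⟩ : ∃ s' t' m' : F, X 7 (r / p) * (X 6 p * X 8 r * aE s t m) *
      (X 7 (r / p))⁻¹ = X 6 p * aE s' t' m' := by
    rw [conj_mul2, conj_mul2, K7, K4, K2]
    simp only [mul_assoc]
    rw [aE_X8', X8_X8', aE_mul, aE_mul, div_mul_cancel₀ r hp, CharTwo.add_self_eq_zero, xG_zero,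
      one_mul]
    exact ⟨_, _, _, rfl⟩
  have hc1 : Cj (X 6 p * X 8 r * aE s t m) (X 6 p * aE s' t' m') := by
    have := Cj_X 7 (by decide) (r / p) (X 6 p * X 8 r * aE s t m)
    rwa [h3] at this
  have h2' := Cj_sq hc1 h2
  have e : (X 6 p * aE s' t' m') * (X 6 p * aE s' t' m') = aE 0 0 (t' * p) := by
    calc X 6 p * aE s' t' m' * (X 6 p * aE s' t' m')
        = X 6 p * (aE s' t' m' * X 6 p) * aE s' t' m' := by simp only [mul_assoc]
      _ = X 6 p * (X 6 p * aE s' t' (t' * p + m')) * aE s' t' m' := by rw [aE_X6]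
      _ = (X 6 p * X 6 p) * (aE s' t' (t' * p + m') * aE s' t' m') := by simp only [mul_assoc]
      _ = aE 0 0 (t' * p) := by
          rw [X_sq, one_mul, aE_mul]
          congr 1
          · exact CharTwo.add_self_eq_zero s'
          · exact CharTwo.add_self_eq_zero t'
          · linear_combination m' * (two_eq_zero' (F := F))
  rw [e, ← aE_zero] at h2'
  have htp : t' * p = 0 := (aE_inj _ _ _ _ _ _ h2').2.2
  have ht' : t' = 0 := by
    rcases mul_eq_zero.mp htp with h | h
    · exact h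
    · exact absurd h hp
  subst ht'
  -- kill `m'`
  have hc2 : Cj (X 6 p * aE s' 0 m') (X 6 p * X 9 s') := by
    have := Cj_X 10 (by decide) (m' / p) (X 6 p * aE s' 0 m')
    rw [conj_mul2, K6, K10, mul_assoc, ← aE_00e, aE_mul] at this
    have e1 : (0 : F) + s' = s' := zero_add s'
    have e2 : (0 : F) + 0 = 0 := add_zero 0
    have e3 : m' / p * p + m' = 0 := by
      rw [div_mul_cancel₀ m' hp, CharTwo.add_self_eq_zero]
    rwa [e1, e2, e3, aE_c00] at this
  rcases F4 p s' hp with h | h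
  · left
    exact Cj_trans hc1 (Cj_trans hc2 h)
  · right
    exact Cj_trans hc1 (Cj_trans hc2 h)

/-- the square of `x_6(p) x_7(q) n`, `n ∈ N3`, modulo `N3` -/
theorem lemD (p q s t m : F)
    (h2 : (X 6 p * X 7 q * aE s t m) * (X 6 p * X 7 q * aE s t m) = 1) : p * q = 0 := by
  have hZ := s6_7 p q
  have key : (X 6 p * X 7 q * aE s t m) * (X 6 p * X 7 q * aE s t m) =
      X 8 (p * q) * (aE 0 (q ^ 2 * (p * q)) (q * (p * q) ^ 2) *
        aE (p * q ^ 2) (p * q ^ 2 * q + p * q ^ 3) 0 *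
        (aE s (s * q + t) (t * p + m) * aE s t m)) := by
    calc X 6 p * X 7 q * aE s t m * (X 6 p * X 7 q * aE s t m)
        = X 6 p * X 7 q * (aE s t m * X 6 p) * X 7 q * aE s t m := by simp only [mul_assoc]
      _ = X 6 p * X 7 q * X 6 p * (aE s t (t * p + m) * X 7 q) * aE s t m := by
          rw [aE_X6]; simp only [mul_assoc]
      _ = X 6 p * (X 7 q * X 6 p) * X 7 q * (aE s (s * q + t) (t * p + m) * aE s t m) := by
          rw [aE_X7]; simp only [mul_assoc]
      _ = (X 6 p * X 6 p) * (X 7 q * (X 8 (p * q) * aE (p * q ^ 2) (p * q ^ 3) 0) * X 7 q) *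
          (aE s (s * q + t) (t * p + m) * aE s t m) := by
          rw [hZ]; simp only [mul_assoc]
      _ = (X 7 q * (X 8 (p * q) * aE (p * q ^ 2) (p * q ^ 3) 0) * (X 7 q)⁻¹) *
          (aE s (s * q + t) (t * p + m) * aE s t m) := by
          rw [X_sq, one_mul, X_inv2]
      _ = X 8 (p * q) * (aE 0 (q ^ 2 * (p * q)) (q * (p * q) ^ 2) *
          aE (p * q ^ 2) (p * q ^ 2 * q + p * q ^ 3) 0 *
          (aE s (s * q + t) (t * p + m) * aE s t m)) := by
          rw [conj_mul2, K4, K2]; simp only [mul_assoc]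
  rw [key, mul_eq_one_iff_eq_inv] at h2
  apply X8_mem_N3
  rw [h2]
  apply Subgroup.inv_mem
  exact Subgroup.mul_mem _ (Subgroup.mul_mem _ (aE_mem_N3 _ _ _) (aE_mem_N3 _ _ _))
    (Subgroup.mul_mem _ (aE_mem_N3 _ _ _) (aE_mem_N3 _ _ _))

/-- case `q ≠ 0` -/
theorem caseA [Finite F] (p q r s t m : F) (hq : q ≠ 0)
    (h2 : (X 6 p * X 7 q * X 8 r * aE s t m) * (X 6 p * X 7 q * X 8 r * aE s t m) = 1) :
    Cj (X 6 p * X 7 q * X 8 r * aE s t m) (X 9 1) := by
  -- kill `r`
  obtain ⟨s', t', m', h3⟩ : ∃ s' t' m' : F, X 6 (r / q) * (X 6 p * X 7 q * X 8 r * aE s t m) *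
      (X 6 (r / q))⁻¹ = X 6 p * X 7 q * aE s' t' m' := by
    have e6 : X 6 (r / q) * X 6 p * (X 6 (r / q))⁻¹ = X 6 p := by
      rw [mul_inv_eq_iff_eq_mul]
      exact (commute_same 6 (r / q) p).eq
    rw [conj_mul2, conj_mul2, conj_mul2, e6, K8, K68, K1]
    simp only [mul_assoc]
    rw [aE_X8', X8_X8', aE_mul, div_mul_cancel₀ r hq, CharTwo.add_self_eq_zero, xG_zero,
      one_mul]
    exact ⟨_, _, _, rfl⟩
  have hc1 : Cj (X 6 p * X 7 q * X 8 r * aE s t m) (X 6 p * X 7 q * aE s' t' m') := by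
    have := Cj_X 6 (by decide) (r / q) (X 6 p * X 7 q * X 8 r * aE s t m)
    rwa [h3] at this
  have h2' := Cj_sq hc1 h2
  have hpq := lemD p q s' t' m' h2'
  have hp : p = 0 := by
    rcases mul_eq_zero.mp hpq with h | h
    · exact h
    · exact absurd h hq
  subst hp
  rw [xG_zero, one_mul] at hc1 h2' ⊢
  have e : (X 7 q * aE s' t' m') * (X 7 q * aE s' t' m') = aE 0 (s' * q) 0 := by
    calc X 7 q * aE s' t' m' * (X 7 q * aE s' t' m')
        = X 7 q * (aE s' t' m' * X 7 q) * aE s' t' m' := by simp only [mul_assoc]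
      _ = X 7 q * (X 7 q * aE s' (s' * q + t') m') * aE s' t' m' := by rw [aE_X7]
      _ = (X 7 q * X 7 q) * (aE s' (s' * q + t') m' * aE s' t' m') := by simp only [mul_assoc]
      _ = aE 0 (s' * q) 0 := by
          rw [X_sq, one_mul, aE_mul]
          congr 1
          · exact CharTwo.add_self_eq_zero s'
          · linear_combination t' * (two_eq_zero' (F := F))
          · exact CharTwo.add_self_eq_zero m'
  rw [e, ← aE_zero] at h2'
  have hsq : s' * q = 0 := (aE_inj _ _ _ _ _ _ h2').2.1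
  have hs' : s' = 0 := by
    rcases mul_eq_zero.mp hsq with h | h
    · exact h
    · exact absurd h hq
  subst hs'
  have r7 : chevG2.reflectRoot 1 7 = 8 := by decide +kernel
  have r9 : chevG2.reflectRoot 1 9 = 9 := by decide +kernel
  have r10 : chevG2.reflectRoot 1 10 = 11 := by decide +kernel
  have r11 : chevG2.reflectRoot 1 11 = 10 := by decide +kernel
  have hc2 : Cj (X 7 q * aE 0 t' m') (X 8 q * aE 0 m' t') := by
    have h := Cj_nb (X 7 q * aE 0 t' m')
    have e : nb F * (X 7 q * aE 0 t' m') * (nb F)⁻¹ = X 8 q * aE 0 m' t' := by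
      unfold aE
      rw [conj_mul2, conj_mul2, conj_mul2, Wb_conj 7 (by decide), Wb_conj 9 (by decide),
        Wb_conj 10 (by decide), Wb_conj 11 (by decide), r7, r9, r10, r11,
        mul_assoc (X 9 0) (X 11 t') (X 10 m'), (c10_11 m' t').eq.symm]
      simp only [mul_assoc]
    rwa [e] at h
  exact Cj_trans hc1 (Cj_trans hc2 (F1 q m' t' hq))

/-- **every involution of `U` is conjugate to a root involution** -/
theorem classify [Finite F] (v : GL chevG2.Idx F) (hv : v ∈ chevG2.posUnipotent F)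
    (h2 : v * v = 1) (h1 : v ≠ 1) : Cj v (X 11 1) ∨ Cj v (X 9 1) := by
  obtain ⟨p, q, r, s, t, m, rfl⟩ := U_decomp v hv
  by_cases hq : q = 0
  · subst hq
    rw [xG_zero, mul_one] at h1 h2 ⊢
    by_cases hp : p = 0
    · subst hp
      rw [xG_zero, one_mul] at h1 h2 ⊢
      exact caseC r s t m h2 h1
    · exact caseB p r s t m hp h2
  · right
    exact caseA p q r s t m hq h2

end char2

end Cfsg.Agent.helper6.G2Inv
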