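import Mathlib
import Cfsg.Statements.S1059
import Cfsg.Agent.Lib_helper5_ChevOrd2
import Cfsg.Agent.Lib_helper5_ChevWEnumG2
import Cfsg.Agent.Lib_helper5_ChevCerts
import Cfsg.Agent.S1027
import Cfsg.Agent.S1035

set_option autoImplicit false
open Cfsg

namespace Cfsg.Agent.S1059

open Cfsg.Lie Cfsg.Agent.helper5.Chev

/-- `|G₂(q)| = q⁶ (q² - 1)(q⁶ - 1)`. -/
theorem result {F : Type*} [Field F] [Fintype F] {q : ℕ} (hq : Fintype.card F = q) : Nat.card ↥(Cfsg.Lie.chevG2.group F) = q ^ 6 * (q ^ 2 - 1) * (q ^ 6 - 1) := by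
  have hD : chevG2 ∈ [chevG2, chevB2, chevD4, chevF4, chevE6, chevE7, chevE8] := by simp
  have h1 := chev_card_of_enum (F := F) chevG2 hD (commOK_of_mem _ hD) (posCommOK_of_mem _ hD)
    _ _ _ wenumG2
  have hU := Cfsg.Agent.S1027.result (F := F) chevG2 hD
  have hH := Cfsg.Agent.S1035.result (F := F) hq (chevG2, 1) (by simp)
  have hqF : Nat.card F = q := by rw [Nat.card_eq_fintype_card, hq]
  rw [hq] at hU
  rw [card_borel chevG2 hD, hU, hqF, sum_fin_getD wvsG2 (fun v => q ^ v.length)] at h1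
  have e1 : (wvsG2.map fun v => q ^ v.length) = (wvsG2.map List.length).map fun x => q ^ x := by
    rw [List.map_map]; rfl
  rw [e1, sum_pow_eq_count q _ 7 wboundG2, wcountsG2] at h1
  simp only [one_mul] at hH
  have hn : chevG2.nroots / 2 = 6 := by decide
  rw [hn] at h1
  have hH' : Nat.card ↥(chevG2.diagonalSubgroup F) = (q - 1) ^ 2 := hH
  rw [h1, hH']
  have hq1 : 1 ≤ q := by
    rw [← hq]
    exact Fintype.card_pos
  obtain ⟨p, rfl⟩ : ∃ p, q = p + 1 := ⟨q - 1, by omega⟩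
  have e2 : (p + 1) ^ 2 - 1 = p ^ 2 + 2 * p := by
    apply Nat.sub_eq_of_eq_add; ring
  have e6 : (p + 1) ^ 6 - 1 = p ^ 6 + 6 * p ^ 5 + 15 * p ^ 4 + 20 * p ^ 3 + 15 * p ^ 2 + 6 * p := by
    apply Nat.sub_eq_of_eq_add; ring
  rw [e2, e6, Nat.add_sub_cancel]
  simp only [List.range_succ, List.range_zero, List.nil_append, List.cons_append, List.zipWith,
    List.sum_cons, List.sum_nil]
  ring

end Cfsg.Agent.S1059
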