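import Mathlib
import Cfsg.Agent.Lib_helper6_G2InvC
import Cfsg.Agent.Lib_helper5_ChevBruhat2
import Cfsg.Agent.S1059
import Cfsg.Agent.S1027

set_option autoImplicit false

/-! Involutions of `G₂(2^k)`: Sylow reduction and non-conjugacy of the two root involutions
(helper6). -/

namespace Cfsg.Agent.helper6.G2Inv

open Cfsg.Lie Cfsg.Agent.helper5.Chev Cfsg.Agent.helper6.G2Cen

local notation "X" => xG chevG2 hG2

section
set_option linter.unusedSectionVars false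
variable {F : Type*} [Field F] [CharP F 2]

theorem U_le_G : chevG2.posUnipotent F ≤ chevG2.group F := by
  obtain ⟨hB, -, -⟩ := Cfsg.Agent.S1043.result (F := F) chevG2 hG2
  exact (U_le_B chevG2 hG2).trans hB

theorem X_order (r : ℕ) (hr : chevG2.IsPosRoot r) : orderOf (X r (1 : F)) = 2 := by
  have : Fact (Nat.Prime 2) := ⟨Nat.prime_two⟩
  apply orderOf_eq_prime
  · rw [pow_two, X_sq]
  · exact xG_ne_one_of_pos chevG2 hG2 r hr 1 one_ne_zero

/-- `U` is a Sylow 2-subgroup: every involution is conjugate into `U` -/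
theorem exists_conj_mem_U [Fintype F] (g : GL chevG2.Idx F) (hg : g ∈ chevG2.group F)
    (h2 : orderOf g = 2) :
    ∃ h ∈ chevG2.group F, h * g * h⁻¹ ∈ chevG2.posUnipotent F := by
  classical
  have : Fact (Nat.Prime 2) := ⟨Nat.prime_two⟩
  obtain ⟨n, -, hcard⟩ := FiniteField.card F 2
  have hcU : Nat.card ↥((chevG2.posUnipotent F).subgroupOf (chevG2.group F)) =
      2 ^ ((n : ℕ) * 6) := by
    rw [Nat.card_congr (Subgroup.subgroupOfEquivOfLe (U_le_G (F := F))).toEquiv,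
      Cfsg.Agent.S1027.result chevG2 hG2, hcard, ← pow_mul]
    rfl
  have hcG := Cfsg.Agent.S1059.result (F := F) hcard
  have hUp : IsPGroup 2 ↥((chevG2.posUnipotent F).subgroupOf (chevG2.group F)) :=
    IsPGroup.of_card hcU
  have hidx : ¬ 2 ∣ ((chevG2.posUnipotent F).subgroupOf (chevG2.group F)).index := by
    have h1 := Subgroup.index_mul_card ((chevG2.posUnipotent F).subgroupOf (chevG2.group F))
    rw [hcU, hcG] at h1
    have hq6 : (2 ^ (n : ℕ)) ^ 6 = 2 ^ ((n : ℕ) * 6) := by rw [← pow_mul]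
    have h3 : ((chevG2.posUnipotent F).subgroupOf (chevG2.group F)).index * 2 ^ ((n : ℕ) * 6) =
        (((2 ^ (n : ℕ)) ^ 2 - 1) * ((2 ^ (n : ℕ)) ^ 6 - 1)) * 2 ^ ((n : ℕ) * 6) := by
      rw [h1, ← hq6]
      ring
    have h4 := Nat.eq_of_mul_eq_mul_right (pow_pos (by norm_num) _) h3
    rw [h4]
    have hn : (n : ℕ) ≠ 0 := n.pos.ne'
    have hev : Even (2 ^ (n : ℕ)) := Nat.even_pow.mpr ⟨even_two, hn⟩
    have ho2 : Odd ((2 ^ (n : ℕ)) ^ 2 - 1) :=
      Nat.Even.sub_odd (Nat.one_le_pow _ _ (pow_pos (by norm_num) _)) (Nat.even_pow.mpr ⟨hev, by norm_num⟩)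
        odd_one
    have ho6 : Odd ((2 ^ (n : ℕ)) ^ 6 - 1) :=
      Nat.Even.sub_odd (Nat.one_le_pow _ _ (pow_pos (by norm_num) _)) (Nat.even_pow.mpr ⟨hev, by norm_num⟩)
        odd_one
    have ho := ho2.mul ho6
    intro hdvd
    exact (Nat.not_even_iff_odd.mpr ho) (even_iff_two_dvd.mpr hdvd)
  have hgo : orderOf (⟨g, hg⟩ : ↥(chevG2.group F)) = 2 := by
    rw [Subgroup.orderOf_mk, h2]
  have hz : IsPGroup 2 ↥(Subgroup.zpowers (⟨g, hg⟩ : ↥(chevG2.group F))) := by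
    apply IsPGroup.of_card (n := 1)
    rw [Nat.card_zpowers, hgo, pow_one]
  obtain ⟨Q, hQ⟩ := hz.exists_le_sylow
  obtain ⟨c, hc⟩ := MulAction.exists_smul_eq ↥(chevG2.group F) Q (hUp.toSylow hidx)
  have hgQ : (⟨g, hg⟩ : ↥(chevG2.group F)) ∈ (Q : Subgroup ↥(chevG2.group F)) :=
    hQ (Subgroup.mem_zpowers _)
  have h5 := Subgroup.smul_mem_pointwise_smul _ (MulAut.conj c) (Q : Subgroup ↥(chevG2.group F)) hgQ
  rw [← Sylow.coe_subgroup_smul, hc, IsPGroup.toSylow_coe, MulAut.smul_def, MulAut.conj_apply,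
    Subgroup.mem_subgroupOf] at h5
  exact ⟨c.1, c.2, h5⟩

theorem longOrb : ∀ s ∈ ([0, 1, 5, 6, 10, 11] : List ℕ), ∀ i < chevG2.rank,
    chevG2.reflectRoot i s ∈ ([0, 1, 5, 6, 10, 11] : List ℕ) := by decide +kernel

/-- the long root involution `x_11(1)` is not conjugate to the short root involution `x_9(1)` -/
theorem nonconj (h : GL chevG2.Idx F) (hh : h ∈ chevG2.group F)
    (he : h * X 11 1 * h⁻¹ = X 9 1) : False := by
  obtain ⟨b, hb, n, hn, u, hu, rfl⟩ := exists_form chevG2 hG2 (commOK_of_mem chevG2 hG2)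
    (posCommOK_of_mem chevG2 hG2) h hh
  have huU : u ∈ chevG2.posUnipotent F := UnegOf_le_U chevG2 n hu
  have hcomm := cz2_U_comm chevG2 hG2 11 [4] 1 cz2OK_G2_long (commOK_of_mem chevG2 hG2) u huU
    (1 : F)
  obtain ⟨w, hw, hact⟩ := N_act n hn
  obtain ⟨φ, hφ, hconj⟩ := hact 11 (by decide)
  have hs : applyW chevG2 w 11 ∈ ([0, 1, 5, 6, 10, 11] : List ℕ) :=
    applyW_orb chevG2 [0, 1, 5, 6, 10, 11] longOrb 11 (by simp) w hw
  obtain ⟨u₂, hu₂, h₂, hh₂, hb2⟩ := mem_borel chevG2 hG2 b⁻¹ (Subgroup.inv_mem _ hb)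
  obtain ⟨χ, hχ, hH⟩ := H_conj chevG2 hG2 h₂ hh₂ 9 (by decide)
  obtain ⟨d', e', hU⟩ := (U_conj_aE u₂ hu₂ χ 0 0).1
  have k0 : u * X 11 1 * u⁻¹ = X 11 1 := by rw [hcomm]; group
  have k1 : n * X 11 1 * n⁻¹ = b⁻¹ * X 9 1 * b := by
    rw [← he]
    calc n * X 11 1 * n⁻¹ = n * (u * X 11 1 * u⁻¹) * n⁻¹ := by rw [k0]
      _ = b⁻¹ * (b * n * u * X 11 1 * (b * n * u)⁻¹) * b := by group
  have hb3 : b = (u₂ * h₂)⁻¹ := by rw [← hb2, inv_inv]
  have k2 : b⁻¹ * X 9 1 * b = aE χ d' e' := by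
    calc b⁻¹ * X 9 1 * b = u₂ * (h₂ * X 9 1 * h₂⁻¹) * u₂⁻¹ := by rw [hb3]; group
      _ = u₂ * aE χ 0 0 * u₂⁻¹ := by rw [hH, mul_one, aE_c00]
      _ = aE χ d' e' := by rw [hU]; group
  rw [hconj 1, mul_one, k2] at k1
  generalize applyW chevG2 w 11 = s at hs k1
  have hneg : ∀ s : ℕ, chevG2.IsNegRoot s → X s φ = aE χ d' e' → False := by
    intro s hsn hk
    have hV : aE χ d' e' ∈ chevG2.negUnipotent F := hk ▸ X_mem_V s hsn φ
    have h1 := UV_one _ (aE_mem_U χ d' e') hV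
    rw [← aE_zero] at h1
    exact hχ (aE_inj _ _ _ _ _ _ h1).1
  simp only [List.mem_cons, List.not_mem_nil, or_false] at hs
  rcases hs with rfl | rfl | rfl | rfl | rfl | rfl
  · exact hneg 0 (by decide +kernel) k1
  · exact hneg 1 (by decide +kernel) k1
  · exact hneg 5 (by decide +kernel) k1
  · have h' : X 6 φ * X 7 0 * X 8 0 * aE 0 0 0 = X 6 0 * X 7 0 * X 8 (0 : F) * aE χ d' e' := by
      simp only [xG_zero, aE_zero, mul_one, one_mul]
      exact k1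
    exact hχ (nf_inj _ _ _ _ _ _ _ _ _ _ _ _ h').2.2.2.1.symm
  · rw [← aE_0d0] at k1
    exact hχ (aE_inj _ _ _ _ _ _ k1).1.symm
  · rw [← aE_00e] at k1
    exact hχ (aE_inj _ _ _ _ _ _ k1).1.symm

end

end Cfsg.Agent.helper6.G2Inv
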