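import Mathlib

set_option autoImplicit false

namespace Cfsg.Agent.helper6.GL2Arith

theorem fact_odd {a : ℕ} (ha : a % 2 = 1) : a.factorization 2 = 0 := by
  apply Nat.factorization_eq_zero_of_not_dvd
  omega

theorem fact_two_mul_odd {a : ℕ} (ha : a % 4 = 2) : a.factorization 2 = 1 := by
  obtain ⟨k, rfl⟩ : ∃ k, a = 2 * k := ⟨a / 2, by omega⟩
  have hk : k % 2 = 1 := by omega
  have hk0 : k ≠ 0 := by rintro rfl; simp at hk
  rw [Nat.factorization_mul (by norm_num) hk0]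
  simp [Nat.Prime.factorization_self Nat.prime_two, fact_odd hk]

theorem two_le_fact {a : ℕ} (ha : a % 4 = 0) (h0 : a ≠ 0) : 2 ≤ a.factorization 2 := by
  rw [← Nat.Prime.pow_dvd_iff_le_factorization Nat.prime_two h0]
  omega

theorem fact_card {q : ℕ} (hq : q % 2 = 1) (hq1 : 1 < q) :
    ((q ^ 2 - 1) * (q ^ 2 - q)).factorization 2
      = 2 * (q - 1).factorization 2 + (q + 1).factorization 2 := by
  have e1 : q ^ 2 - 1 = (q - 1) * (q + 1) := by
    obtain ⟨k, rfl⟩ : ∃ k, q = k + 1 := ⟨q - 1, by omega⟩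
    simp only [Nat.add_sub_cancel]
    have : (k + 1) ^ 2 = k * (k + 1 + 1) + 1 := by ring
    rw [this, Nat.add_sub_cancel]
  have e2 : q ^ 2 - q = q * (q - 1) := by
    obtain ⟨k, rfl⟩ : ∃ k, q = k + 1 := ⟨q - 1, by omega⟩
    simp only [Nat.add_sub_cancel]
    have : (k + 1) ^ 2 = (k + 1) * k + (k + 1) := by ring
    rw [this, Nat.add_sub_cancel]
  have h1 : q - 1 ≠ 0 := by omega
  have h2 : q + 1 ≠ 0 := by omega
  have h3 : q ≠ 0 := by omega
  rw [e1, e2, Nat.factorization_mul (mul_ne_zero h1 h2) (mul_ne_zero h3 h1),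
    Nat.factorization_mul h1 h2, Nat.factorization_mul h3 h1]
  simp only [Finsupp.coe_add, Pi.add_apply, fact_odd hq]
  ring

/-- If `q + 1 = 2 ^ m * t` with `t` odd then `q ≡ 2 ^ m - 1 mod 2 ^ (m + 1)`. -/
theorem modEq_of_fact (q : ℕ) :
    q ≡ 2 ^ ((q + 1).factorization 2) - 1 [MOD 2 ^ ((q + 1).factorization 2 + 1)] := by
  obtain ⟨m, hm⟩ : ∃ m, m = (q + 1).factorization 2 := ⟨_, rfl⟩
  rw [← hm]
  have h := Nat.ordProj_mul_ordCompl_eq_self (q + 1) 2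
  have hodd : ¬ 2 ∣ (q + 1) / 2 ^ (q + 1).factorization 2 :=
    Nat.not_dvd_ordCompl Nat.prime_two (by omega)
  rw [← hm] at h hodd
  obtain ⟨t, ht⟩ : ∃ t, t = (q + 1) / 2 ^ m := ⟨_, rfl⟩
  rw [← ht] at h hodd
  obtain ⟨j, rfl⟩ : ∃ j, t = 2 * j + 1 := ⟨t / 2, by omega⟩
  have hpos : 0 < 2 ^ m := Nat.pos_of_ne_zero (by positivity)
  have hq : q = 2 ^ (m + 1) * j + (2 ^ m - 1) := by
    have : 2 ^ m * (2 * j + 1) = 2 ^ (m + 1) * j + 2 ^ m := by ring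
    omega
  rw [hq]
  unfold Nat.ModEq
  rw [Nat.mul_add_mod]

end Cfsg.Agent.helper6.GL2Arith
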