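import Mathlib

set_option autoImplicit false

namespace Cfsg.Agent.helper6.GL2Wr

open Matrix

/-- In a finite cyclic group there are elements of each order dividing the group order. -/
theorem exists_orderOf_eq_of_dvd {α : Type*} [Group α] [IsCyclic α] [Finite α] {d : ℕ}
    (hd : d ∣ Nat.card α) : ∃ g : α, orderOf g = d := by
  obtain ⟨g, hg⟩ := IsCyclic.exists_ofOrder_eq_natCard (α := α)
  obtain ⟨e, he⟩ := hd
  have hpos : 0 < Nat.card α := Nat.card_pos
  have he0 : e ≠ 0 := by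
    rintro rfl
    rw [mul_zero] at he
    omega
  refine ⟨g ^ e, ?_⟩
  rw [orderOf_pow_of_dvd he0 (by rw [hg, he]; exact dvd_mul_left e d), hg, he]
  exact Nat.mul_div_cancel _ (Nat.pos_of_ne_zero he0)

variable {F : Type*} [Field F]

/-- Diagonal matrices as a homomorphism. -/
def dgHom : Fˣ × Fˣ →* GL (Fin 2) F where
  toFun a := ⟨!![(a.1 : F), 0; 0, (a.2 : F)], !![((a.1⁻¹ : Fˣ) : F), 0; 0, ((a.2⁻¹ : Fˣ) : F)],
    by simp [Matrix.one_fin_two],
    by simp [Matrix.one_fin_two]⟩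
  map_one' := by
    apply Units.ext
    simp [Matrix.one_fin_two]
  map_mul' a b := by
    apply Units.ext
    simp

theorem dgHom_val (a : Fˣ × Fˣ) :
    ((dgHom a : GL (Fin 2) F) : Matrix (Fin 2) (Fin 2) F) = !![(a.1 : F), 0; 0, (a.2 : F)] := rfl

theorem dgHom_injective : Function.Injective (dgHom (F := F)) := by
  intro a b h
  have h' := congrArg (fun g : GL (Fin 2) F => (g : Matrix (Fin 2) (Fin 2) F)) h
  simp only [dgHom_val] at h'
  have h00 := congrFun (congrFun h' 0) 0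
  have h11 := congrFun (congrFun h' 1) 1
  simp at h00 h11
  exact Prod.ext (Units.ext h00) (Units.ext h11)

/-- The swap matrix. -/
def sw : GL (Fin 2) F :=
  ⟨!![0, 1; 1, 0], !![0, 1; 1, 0], by simp [Matrix.one_fin_two],
    by simp [Matrix.one_fin_two]⟩

theorem sw_mul_self : (sw : GL (Fin 2) F) * sw = 1 := by
  apply Units.ext
  simp [sw, Matrix.one_fin_two]

theorem sw_inv : (sw : GL (Fin 2) F)⁻¹ = sw := inv_eq_of_mul_eq_one_left sw_mul_self

theorem sw_ne_one : (sw : GL (Fin 2) F) ≠ 1 := by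
  intro h
  have h' := congrArg (fun g : GL (Fin 2) F => (g : Matrix (Fin 2) (Fin 2) F) 0 0) h
  simp [sw] at h'

theorem orderOf_sw : orderOf (sw : GL (Fin 2) F) = 2 := by
  apply orderOf_eq_prime
  · rw [pow_two, sw_mul_self]
  · exact sw_ne_one

theorem sw_conj (a b : Fˣ) : sw * dgHom (a, b) * sw⁻¹ = dgHom (b, a) := by
  rw [sw_inv]
  apply Units.ext
  simp [sw, dgHom]

theorem wreath_elements (ζ : Fˣ) :
    orderOf (dgHom (ζ, 1)) = orderOf ζ ∧
    dgHom (ζ, 1) * dgHom (1, ζ) = dgHom (1, ζ) * dgHom (ζ, 1) ∧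
    Subgroup.zpowers (dgHom (ζ, 1)) ⊓ Subgroup.zpowers (dgHom (1, ζ)) = ⊥ ∧
    sw * dgHom (ζ, 1) * sw⁻¹ = dgHom (1, ζ) := by
  refine ⟨?_, ?_, ?_, sw_conj ζ 1⟩
  · rw [orderOf_injective dgHom dgHom_injective, Prod.orderOf]
    simp
  · rw [← map_mul, ← map_mul, mul_comm]
  · rw [Subgroup.eq_bot_iff_forall]
    rintro g ⟨h1, h2⟩
    obtain ⟨i, rfl⟩ := Subgroup.mem_zpowers_iff.mp h1
    obtain ⟨j, hj⟩ := Subgroup.mem_zpowers_iff.mp h2
    rw [← map_zpow, ← map_zpow] at hj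
    have h3 := dgHom_injective hj
    rw [Prod.pow_mk, Prod.pow_mk, _root_.one_zpow, _root_.one_zpow] at h3
    have h4 : ζ ^ i = 1 := (congrArg Prod.fst h3).symm
    rw [← map_zpow, Prod.pow_mk, _root_.one_zpow, h4]
    exact map_one _

end Cfsg.Agent.helper6.GL2Wr
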