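import Mathlib
import Cfsg.Agent.Lib_helper6_GL2Wr
import Cfsg.Agent.Lib_helper6_GL2Arith

set_option autoImplicit false

namespace Cfsg.Agent.helper6.GL2QD

open Matrix

/-- Algebra automorphisms as units of the endomorphism ring. -/
def algEquivToUnits (F K : Type*) [Field F] [Field K] [Algebra F K] :
    (K ≃ₐ[F] K) →* (Module.End F K)ˣ where
  toFun σ := ⟨σ.toLinearMap, σ.symm.toLinearMap, by ext a; simp, by ext a; simp⟩
  map_one' := by apply Units.ext; rfl
  map_mul' σ τ := by apply Units.ext; rfl

theorem algEquivToUnits_injective (F K : Type*) [Field F] [Field K] [Algebra F K] :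
    Function.Injective (algEquivToUnits F K) := by
  intro σ τ h
  ext a
  have h' := congrArg (fun u : (Module.End F K)ˣ => (u : Module.End F K) a) h
  exact h'

/-- Multiplication by units as units of the endomorphism ring. -/
def mulUnits (F K : Type*) [Field F] [Field K] [Algebra F K] : Kˣ →* (Module.End F K)ˣ :=
  Units.map ((Algebra.lmul F K : K →ₐ[F] Module.End F K) : K →* Module.End F K)

theorem mulUnits_apply (F K : Type*) [Field F] [Field K] [Algebra F K] (w : Kˣ) (a : K) :
    ((mulUnits F K w : (Module.End F K)ˣ) : Module.End F K) a = (w : K) * a := rfl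

theorem mulUnits_injective (F K : Type*) [Field F] [Field K] [Algebra F K] :
    Function.Injective (mulUnits F K) := by
  intro w w' h
  have h' := congrArg (fun u : (Module.End F K)ˣ => (u : Module.End F K) 1) h
  simp only [mulUnits_apply, mul_one] at h'
  exact Units.ext h'

theorem conj_mulUnits {F K : Type*} [Field F] [Field K] [Algebra F K] (σ : K ≃ₐ[F] K) (w : Kˣ)
    (k : ℕ) (hk : σ (w : K) = (w : K) ^ k) :
    algEquivToUnits F K σ * mulUnits F K w * (algEquivToUnits F K σ)⁻¹ = (mulUnits F K w) ^ k := by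
  apply Units.ext
  apply LinearMap.ext
  intro a
  rw [← map_pow]
  show σ ((w : K) * σ.symm a) = ((w ^ k : Kˣ) : K) * a
  rw [map_mul, hk, AlgEquiv.apply_symm_apply, Units.val_pow_eq_pow_val]

theorem qd_elements {F : Type*} [Field F] [Fintype F] (hq : Fintype.card F % 4 = 3) :
    ∃ x y : GL (Fin 2) F,
      orderOf x = 2 ^ ((Fintype.card F + 1).factorization 2 + 1) ∧ orderOf y = 2 ∧
      y * x * y⁻¹ = x ^ (Fintype.card F) := by
  obtain ⟨p, hp⟩ := CharP.exists F
  have : CharP F p := hp
  have : Fact p.Prime := ⟨(CharP.char_is_prime_or_zero F p).resolve_right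
    (fun h0 => by
      subst h0
      have : CharZero F := CharP.charP_to_charZero F
      exact not_finite F)⟩
  obtain ⟨q, hqdef⟩ : ∃ q, q = Fintype.card F := ⟨_, rfl⟩
  rw [← hqdef] at hq ⊢
  obtain ⟨m, hm⟩ : ∃ m, m = (q + 1).factorization 2 := ⟨_, rfl⟩
  rw [← hm]
  have hcardK : Nat.card (FiniteField.Extension F p 2) = q ^ 2 := by
    rw [FiniteField.natCard_extension, Nat.card_eq_fintype_card, hqdef]
  have hdvd : 2 ^ (m + 1) ∣ Nat.card (FiniteField.Extension F p 2)ˣ := by
    rw [Nat.card_units, hcardK]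
    have e1 : q ^ 2 - 1 = (q + 1) * (q - 1) := by
      obtain ⟨k, rfl⟩ : ∃ k, q = k + 1 := ⟨q - 1, by omega⟩
      simp only [Nat.add_sub_cancel]
      have : (k + 1) ^ 2 = (k + 1 + 1) * k + 1 := by ring
      rw [this, Nat.add_sub_cancel]
    rw [e1, pow_succ]
    apply Nat.mul_dvd_mul
    · rw [hm]; exact Nat.ordProj_dvd _ _
    · omega
  obtain ⟨ω, hω⟩ := GL2Wr.exists_orderOf_eq_of_dvd hdvd
  have hφ2 : orderOf (FiniteField.Extension.frob F p 2) = 2 := by
    apply orderOf_eq_prime
    · ext a
      rw [FiniteField.Extension.frob_iterate_apply, Nat.card_eq_fintype_card, ← hqdef, ← hcardK]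
      let : Fintype (FiniteField.Extension F p 2) := Fintype.ofFinite _
      rw [Nat.card_eq_fintype_card, FiniteField.pow_card]
      rfl
    · intro h1
      have hc := FiniteField.natCard_algEquiv_extension F p 2
      have hnt : Nontrivial ((FiniteField.Extension F p 2) ≃ₐ[F] (FiniteField.Extension F p 2)) := by
        rw [← Finite.one_lt_card_iff_nontrivial, hc]
        norm_num
      obtain ⟨g, hg⟩ := exists_ne (1 : (FiniteField.Extension F p 2) ≃ₐ[F] (FiniteField.Extension F p 2))
      obtain ⟨i, -, hi⟩ := FiniteField.Extension.exists_frob_pow_eq F p 2 g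
      rw [h1, one_pow] at hi
      exact hg hi.symm
  let b : Module.Basis (Fin 2) F (FiniteField.Extension F p 2) :=
    Module.finBasisOfFinrankEq F _ (FiniteField.finrank_extension F p 2)
  let e : (Module.End F (FiniteField.Extension F p 2))ˣ ≃* GL (Fin 2) F :=
    Units.mapEquiv (LinearMap.toMatrixAlgEquiv b).toMulEquiv
  refine ⟨e (mulUnits F _ ω), e (algEquivToUnits F _ (FiniteField.Extension.frob F p 2)), ?_, ?_, ?_⟩
  · rw [MulEquiv.orderOf_eq, orderOf_injective _ (mulUnits_injective F _), hω]
  · rw [MulEquiv.orderOf_eq, orderOf_injective _ (algEquivToUnits_injective F _), hφ2]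
  · rw [← map_inv, ← map_mul, ← map_mul, ← map_pow]
    congr 1
    apply conj_mulUnits
    rw [FiniteField.Extension.frob_apply, Nat.card_eq_fintype_card, hqdef]

end Cfsg.Agent.helper6.GL2QD
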