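import Mathlib
import Cfsg.Prelude.Def_Classical
import Cfsg.Prelude.Def_LieClassical
import Cfsg.Agent.Lib_helper11_HermCount
import Cfsg.Agent.Lib_helper6_GL2Wr

set_option autoImplicit false

namespace Cfsg.Agent.helper6.GU2

open Cfsg Matrix
open Cfsg.Agent.helper11.HermCount

variable {F : Type*} [Field F] [Fintype F] {q : ℕ}

/-- A `2 × 2` matrix with orthonormal columns preserves the Hermitian form. -/
theorem preserves_of_cols (hF : Fintype.card F = q ^ 2) (X : Matrix (Fin 2) (Fin 2) F)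
    (h00 : X 0 0 * X 0 0 ^ q + X 1 0 * X 1 0 ^ q = 1)
    (h01 : X 0 0 * X 0 1 ^ q + X 1 0 * X 1 1 ^ q = 0)
    (h10 : X 0 1 * X 0 0 ^ q + X 1 1 * X 1 0 ^ q = 0)
    (h11 : X 0 1 * X 0 1 ^ q + X 1 1 * X 1 1 ^ q = 1) (u v : Fin 2 → F) :
    hermForm 2 F q (X *ᵥ u) (X *ᵥ v) = hermForm 2 F q u v := by
  unfold hermForm
  simp only [Fin.sum_univ_two, Matrix.mulVec, dotProduct]
  rw [add_pow_q hF, add_pow_q hF, mul_pow, mul_pow, mul_pow, mul_pow]
  linear_combination (u 0 * v 0 ^ q) * h00 + (u 0 * v 1 ^ q) * h01 + (u 1 * v 0 ^ q) * h10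
    + (u 1 * v 1 ^ q) * h11

theorem mem_GU_of_cols (hF : Fintype.card F = q ^ 2) (g : GL (Fin 2) F)
    (h00 : (g : Matrix (Fin 2) (Fin 2) F) 0 0 * (g : Matrix (Fin 2) (Fin 2) F) 0 0 ^ q
      + (g : Matrix (Fin 2) (Fin 2) F) 1 0 * (g : Matrix (Fin 2) (Fin 2) F) 1 0 ^ q = 1)
    (h01 : (g : Matrix (Fin 2) (Fin 2) F) 0 0 * (g : Matrix (Fin 2) (Fin 2) F) 0 1 ^ q
      + (g : Matrix (Fin 2) (Fin 2) F) 1 0 * (g : Matrix (Fin 2) (Fin 2) F) 1 1 ^ q = 0)
    (h10 : (g : Matrix (Fin 2) (Fin 2) F) 0 1 * (g : Matrix (Fin 2) (Fin 2) F) 0 0 ^ q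
      + (g : Matrix (Fin 2) (Fin 2) F) 1 1 * (g : Matrix (Fin 2) (Fin 2) F) 1 0 ^ q = 0)
    (h11 : (g : Matrix (Fin 2) (Fin 2) F) 0 1 * (g : Matrix (Fin 2) (Fin 2) F) 0 1 ^ q
      + (g : Matrix (Fin 2) (Fin 2) F) 1 1 * (g : Matrix (Fin 2) (Fin 2) F) 1 1 ^ q = 1) :
    g ∈ GU 2 F q :=
  fun u v => preserves_of_cols hF _ h00 h01 h10 h11 u v

theorem q_ne_zero' (hF : Fintype.card F = q ^ 2) : q ≠ 0 := by
  have := two_le_q hF
  omega

theorem dgHom_mem_GU (hF : Fintype.card F = q ^ 2) (a b : Fˣ) (ha : a ^ (q + 1) = 1)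
    (hb : b ^ (q + 1) = 1) : GL2Wr.dgHom (a, b) ∈ GU 2 F q := by
  have hq0 := q_ne_zero' hF
  have ha' : (a : F) * (a : F) ^ q = 1 := by
    rw [← pow_succ', ← Units.val_pow_eq_pow_val, ha, Units.val_one]
  have hb' : (b : F) * (b : F) ^ q = 1 := by
    rw [← pow_succ', ← Units.val_pow_eq_pow_val, hb, Units.val_one]
  apply mem_GU_of_cols hF <;> simp [GL2Wr.dgHom_val, hq0, ha', hb']

theorem sw_mem_GU (hF : Fintype.card F = q ^ 2) : (GL2Wr.sw : GL (Fin 2) F) ∈ GU 2 F q := by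
  have hq0 := q_ne_zero' hF
  apply mem_GU_of_cols hF <;> simp [GL2Wr.sw, hq0]

omit [Fintype F] in
/-- The twisted diagonal embedding, as a matrix. -/
def twMat (c l li : F) (s t : F) : Matrix (Fin 2) (Fin 2) F :=
  !![c * (s + t), c * (s - t) * li; l * (c * (s - t)), c * (s + t)]

/-- The twisted diagonal embedding, as a monoid homomorphism into matrices. -/
def twHom0 (c l li : F) (hc : 2 * c = 1) (hli : l * li = 1) :
    F × F →* Matrix (Fin 2) (Fin 2) F where
  toFun a := twMat c l li a.1 a.2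
  map_one' := by
    ext i j
    fin_cases i <;> fin_cases j <;> simp [twMat] <;> linear_combination hc
  map_mul' a b := by
    obtain ⟨s, t⟩ := a
    obtain ⟨s', t'⟩ := b
    ext i j
    fin_cases i <;> fin_cases j
    · simp [twMat, Matrix.mul_apply, Fin.sum_univ_two]
      linear_combination (-c * (s * s' + t * t')) * hc - (c * (s - t)) * (c * (s' - t')) * hli
    · simp [twMat, Matrix.mul_apply, Fin.sum_univ_two]
      linear_combination (-c * (s * s' - t * t') * li) * hc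
    · simp [twMat, Matrix.mul_apply, Fin.sum_univ_two]
      linear_combination (-c * (s * s' - t * t') * l) * hc
    · simp [twMat, Matrix.mul_apply, Fin.sum_univ_two]
      linear_combination (-c * (s * s' + t * t')) * hc - (c * (s - t)) * (c * (s' - t')) * hli

omit [Fintype F] in
theorem twHom0_injective (c l li : F) (hc : 2 * c = 1) (hli : l * li = 1) :
    Function.Injective (twHom0 c l li hc hli) := by
  rintro ⟨s, t⟩ ⟨s', t'⟩ h
  have h00 := congrFun (congrFun h 0) 0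
  have h10 := congrFun (congrFun h 1) 0
  simp only [twHom0, twMat, MonoidHom.coe_mk, OneHom.coe_mk, Matrix.of_apply, Matrix.cons_val',
    Matrix.cons_val_zero, Matrix.cons_val_one, Matrix.cons_val_fin_one] at h00 h10
  have h10' : c * (s - t) = c * (s' - t') := by
    have h10'' : li * (l * (c * (s - t))) = li * (l * (c * (s' - t'))) := by rw [h10]
    linear_combination h10'' - (c * (s - t) - c * (s' - t')) * hli
  have hs : s = s' := by
    linear_combination h00 + h10' - (s - s') * hc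
  have ht : t = t' := by
    linear_combination h00 - h10' - (t - t') * hc
  rw [hs, ht]

/-- The twisted diagonal embedding into `GL₂`. -/
def twU (c l li : F) (hc : 2 * c = 1) (hli : l * li = 1) : Fˣ × Fˣ →* GL (Fin 2) F :=
  (Units.map (twHom0 c l li hc hli)).comp (MulEquiv.prodUnits (M := F) (N := F)).symm.toMonoidHom

omit [Fintype F] in
theorem twU_val (c l li : F) (hc : 2 * c = 1) (hli : l * li = 1) (a : Fˣ × Fˣ) :
    ((twU c l li hc hli a : GL (Fin 2) F) : Matrix (Fin 2) (Fin 2) F)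
      = twMat c l li (a.1 : F) (a.2 : F) := rfl

omit [Fintype F] in
theorem twU_injective (c l li : F) (hc : 2 * c = 1) (hli : l * li = 1) :
    Function.Injective (twU c l li hc hli) := by
  intro a b h
  have h' := congrArg (fun g : GL (Fin 2) F => (g : Matrix (Fin 2) (Fin 2) F)) h
  simp only [twU_val] at h'
  have := twHom0_injective c l li hc hli (a₁ := ((a.1 : F), (a.2 : F))) (a₂ := ((b.1 : F), (b.2 : F))) h'
  rw [Prod.ext_iff] at this
  exact Prod.ext (Units.ext this.1) (Units.ext this.2)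

omit [Fintype F] in
theorem conj_twU (c l li : F) (hc : 2 * c = 1) (hli : l * li = 1) (s t : Fˣ) :
    GL2Wr.dgHom (1, -1) * twU c l li hc hli (s, t) * (GL2Wr.dgHom ((1 : Fˣ), (-1 : Fˣ)))⁻¹
      = twU c l li hc hli (t, s) := by
  have hinv : (GL2Wr.dgHom ((1 : Fˣ), (-1 : Fˣ)))⁻¹ = GL2Wr.dgHom ((1 : Fˣ), (-1 : Fˣ)) := by
    apply inv_eq_of_mul_eq_one_left
    rw [← map_mul]
    have : (((1 : Fˣ), (-1 : Fˣ)) : Fˣ × Fˣ) * (1, -1) = 1 := by
      ext <;> simp
    rw [this, map_one]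
  rw [hinv]
  apply Units.ext
  ext i j
  fin_cases i <;> fin_cases j <;>
    simp only [twU_val, twMat, GL2Wr.dgHom_val, Units.val_mul, Matrix.mul_apply,
      Fin.sum_univ_two, Matrix.of_apply, Matrix.cons_val', Matrix.cons_val_zero,
      Matrix.cons_val_one, Matrix.cons_val_fin_one, Units.val_one, Units.val_neg, Fin.zero_eta,
      Fin.mk_one] <;> ring

theorem twU_mem_GU (hF : Fintype.card F = q ^ 2) (c l li : F) (hc : 2 * c = 1) (hli : l * li = 1)
    (hcq : c ^ q = c) (hlq : l ^ q = -li) (hliq : li ^ q = -l) (s t : Fˣ)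
    (hs : (s : F) ^ q = -s) (ht : (t : F) ^ q = -t) (hst : (s : F) * t = -1) :
    twU c l li hc hli (s, t) ∈ GU 2 F q := by
  have hA : (c * ((s : F) + t)) ^ q = -(c * ((s : F) + t)) := by
    rw [mul_pow, add_pow_q hF, hcq, hs, ht]; ring
  have hB : (c * ((s : F) - t)) ^ q = -(c * ((s : F) - t)) := by
    rw [mul_pow, sub_pow_q hF, hcq, hs, ht]; ring
  have hBA : (c * ((s : F) - t)) ^ 2 - (c * ((s : F) + t)) ^ 2 = 1 := by
    linear_combination (-4 * c ^ 2) * hst + (2 * c + 1) * hc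
  apply mem_GU_of_cols hF <;>
    simp only [twU_val, twMat, Matrix.of_apply, Matrix.cons_val', Matrix.cons_val_zero,
      Matrix.cons_val_one, Matrix.cons_val_fin_one]
  · rw [mul_pow l, hA, hB, hlq]
    linear_combination hBA + (c * ((s : F) - t)) ^ 2 * hli
  · rw [mul_pow _ li, hA, hB, hliq]
    ring
  · rw [mul_pow l, hA, hB, hlq]
    ring
  · rw [mul_pow _ li, hA, hB, hliq]
    linear_combination hBA + (c * ((s : F) - t)) ^ 2 * hli

end Cfsg.Agent.helper6.GU2
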