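import Mathlib
import Cfsg.Prelude.Def_CaseTheorems
import Cfsg.Agent.Lib_helper6_CentTr

set_option autoImplicit false

namespace Cfsg.Agent.helper6.SylElems

open Subgroup

variable {G : Type*} [Group G]

theorem isPGroup_zpowers_of_orderOf {x : G} {n : ℕ} (hx : orderOf x = 2 ^ n) :
    IsPGroup 2 (zpowers x) := by
  intro g
  obtain ⟨g, hg⟩ := g
  obtain ⟨k, rfl⟩ := Subgroup.mem_zpowers_iff.mp hg
  refine ⟨n, Subtype.ext ?_⟩
  show (x ^ k) ^ 2 ^ n = 1
  rw [← zpow_natCast, ← zpow_mul, mul_comm, zpow_mul, zpow_natCast, ← hx, pow_orderOf_eq_one,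
    one_zpow]

theorem map_conj_zpowers (z x : G) :
    (zpowers x).map (MulAut.conj z : G →* G) = zpowers (z * x * z⁻¹) := by
  rw [MonoidHom.map_zpowers]
  rfl

theorem zpowers_le_normalizer_of_conj {x y : G} {k : ℕ} (h : y * x * y⁻¹ = x ^ k)
    (hx : IsOfFinOrder x) :
    zpowers y ≤ normalizer (zpowers x : Set G) := by
  rw [Subgroup.zpowers_le]
  -- conjugation by y maps zpowers x into itself; finiteness gives equality
  have hle : ∀ g ∈ zpowers x, y * g * y⁻¹ ∈ zpowers x := by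
    intro g hg
    obtain ⟨j, rfl⟩ := Subgroup.mem_zpowers_iff.mp hg
    have : y * x ^ j * y⁻¹ = (y * x * y⁻¹) ^ j := by
      rw [conj_zpow]
    rw [this, h]
    exact Subgroup.zpow_mem _ (Subgroup.pow_mem _ (Subgroup.mem_zpowers x) k) j
  rw [Subgroup.mem_normalizer_iff_map_conj_eq]
  have : Finite (zpowers x) :=
    Nat.finite_of_card_ne_zero (by rw [Nat.card_zpowers]; exact hx.orderOf_pos.ne')
  apply Subgroup.eq_of_le_of_card_ge
  · rintro _ ⟨g, hg, rfl⟩
    exact hle g hg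
  · rw [Nat.card_congr ((zpowers x).equivMapOfInjective (MulAut.conj y : G →* G)
      (MulAut.conj y).injective).toEquiv.symm]

variable [Finite G]

theorem isQuasiDihedral_sylow_of_elements (P : Sylow 2 G) (n : ℕ) (hn : 3 ≤ n)
    (hcard : (Nat.card G).factorization 2 = n + 1) (x y : G) (hx : orderOf x = 2 ^ n)
    (hy : orderOf y = 2) (hxy : y * x * y⁻¹ = x ^ (2 ^ (n - 1) - 1)) :
    Cfsg.IsQuasiDihedral (P : Subgroup G) := by
  have : Fact (Nat.Prime 2) := ⟨Nat.prime_two⟩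
  have hxfin : IsOfFinOrder x := isOfFinOrder_of_finite x
  have hH : IsPGroup 2 (zpowers y ⊔ zpowers x : Subgroup G) :=
    IsPGroup.to_sup_of_normal_right' (isPGroup_zpowers_of_orderOf (n := 1) (by simpa using hy))
      (isPGroup_zpowers_of_orderOf hx) (zpowers_le_normalizer_of_conj hxy hxfin)
  obtain ⟨Q, hQ⟩ := hH.exists_le_sylow
  have hxQ : x ∈ Q := hQ (Subgroup.mem_sup_right (Subgroup.mem_zpowers x))
  have hyQ : y ∈ Q := hQ (Subgroup.mem_sup_left (Subgroup.mem_zpowers y))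
  have hQD : Cfsg.IsQuasiDihedral (Q : Subgroup G) := by
    refine ⟨n, hn, ?_, ⟨x, hxQ⟩, ⟨y, hyQ⟩, ?_, ?_, ?_⟩
    · rw [Sylow.card_eq_multiplicity, hcard]
    · exact (Subgroup.orderOf_mk x hxQ).trans hx
    · exact (Subgroup.orderOf_mk y hyQ).trans hy
    · exact Subtype.ext hxy
  exact CentTr.isQuasiDihedral_of_equiv (Sylow.equiv Q P) hQD

theorem isWreathed_sylow_of_elements (P : Sylow 2 G) (n : ℕ) (hn : 2 ≤ n)
    (hcard : (Nat.card G).factorization 2 = 2 * n + 1) (x y z : G) (hx : orderOf x = 2 ^ n)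
    (hxy : x * y = y * x) (hinf : zpowers x ⊓ zpowers y = ⊥)
    (hz : orderOf z = 2) (hzx : z * x * z⁻¹ = y) :
    Cfsg.IsWreathed (P : Subgroup G) := by
  have : Fact (Nat.Prime 2) := ⟨Nat.prime_two⟩
  have hz2 : z * z = 1 := by
    have := pow_orderOf_eq_one z
    rwa [hz, pow_two] at this
  have hzinv : z⁻¹ = z := inv_eq_of_mul_eq_one_left hz2
  have hzy : z * y * z⁻¹ = x := by
    rw [← hzx, hzinv]
    calc z * (z * x * z) * z = (z * z) * x * (z * z) := by group
      _ = x := by rw [hz2, one_mul, mul_one]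
  have hy : orderOf y = 2 ^ n := by
    rw [← hzx, ← hx]
    have := orderOf_injective (MulAut.conj z : G →* G) (MulAut.conj z).injective x
    simpa [MulAut.conj_apply] using this
  have hK : IsPGroup 2 (zpowers x ⊔ zpowers y : Subgroup G) := by
    apply IsPGroup.to_sup_of_normal_right' (isPGroup_zpowers_of_orderOf hx)
      (isPGroup_zpowers_of_orderOf hy)
    apply zpowers_le_normalizer_of_conj (k := 1) _ (isOfFinOrder_of_finite y)
    rw [pow_one, hxy, mul_inv_cancel_right]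
  have hH : IsPGroup 2 (zpowers z ⊔ (zpowers x ⊔ zpowers y) : Subgroup G) := by
    apply IsPGroup.to_sup_of_normal_right' (isPGroup_zpowers_of_orderOf (n := 1) (by simpa using hz))
      hK
    rw [Subgroup.zpowers_le, Subgroup.mem_normalizer_iff_map_conj_eq, Subgroup.map_sup,
      map_conj_zpowers, map_conj_zpowers, hzx, hzy, sup_comm]
  obtain ⟨Q, hQ⟩ := hH.exists_le_sylow
  have hxQ : x ∈ Q := hQ (Subgroup.mem_sup_right (Subgroup.mem_sup_left (Subgroup.mem_zpowers x)))
  have hyQ : y ∈ Q := hQ (Subgroup.mem_sup_right (Subgroup.mem_sup_right (Subgroup.mem_zpowers y)))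
  have hzQ : z ∈ Q := hQ (Subgroup.mem_sup_left (Subgroup.mem_zpowers z))
  have hW : Cfsg.IsWreathed (Q : Subgroup G) := by
    refine ⟨n, hn, ?_, ⟨x, hxQ⟩, ⟨y, hyQ⟩, ⟨z, hzQ⟩, ?_, ?_, ?_, ?_, ?_⟩
    · rw [Sylow.card_eq_multiplicity, hcard]
    · exact (Subgroup.orderOf_mk x hxQ).trans hx
    · exact Subtype.ext hxy
    · rw [Subgroup.eq_bot_iff_forall]
      rintro ⟨g, hgQ⟩ ⟨hg1, hg2⟩
      have h1 : g ∈ zpowers x := by
        obtain ⟨k, hk⟩ := Subgroup.mem_zpowers_iff.mp hg1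
        have := congrArg Subtype.val hk
        rw [Subgroup.coe_zpow] at this
        exact Subgroup.mem_zpowers_iff.mpr ⟨k, this⟩
      have h2 : g ∈ zpowers y := by
        obtain ⟨k, hk⟩ := Subgroup.mem_zpowers_iff.mp hg2
        have := congrArg Subtype.val hk
        rw [Subgroup.coe_zpow] at this
        exact Subgroup.mem_zpowers_iff.mpr ⟨k, this⟩
      have : g ∈ (zpowers x ⊓ zpowers y : Subgroup G) := ⟨h1, h2⟩
      rw [hinf, Subgroup.mem_bot] at this
      exact Subtype.ext this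
    · exact (Subgroup.orderOf_mk z hzQ).trans hz
    · exact Subtype.ext hzx
  exact CentTr.isWreathed_of_equiv (Sylow.equiv Q P) hW

end Cfsg.Agent.helper6.SylElems
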