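import Mathlib
import Cfsg.Prelude.Def_Classical
import Cfsg.Prelude.Def_LieClassical
import Cfsg.Agent.Lib_helper11_Unitary
import Cfsg.Agent.Lib_helper6_GU2
import Cfsg.Agent.Lib_helper6_GL2Arith
import Cfsg.Agent.Lib_helper6_SylElems

set_option autoImplicit false

namespace Cfsg.Agent.helper6.GU2

open Cfsg Matrix
open Cfsg.Agent.helper11.HermCount

theorem fact_cardGU {q : ℕ} (hq : q % 2 = 1) (hq1 : 1 < q) :
    (q * ((q + 1) * (q ^ 2 - 1))).factorization 2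
      = 2 * (q + 1).factorization 2 + (q - 1).factorization 2 := by
  have e1 : q ^ 2 - 1 = (q - 1) * (q + 1) := by
    obtain ⟨k, rfl⟩ : ∃ k, q = k + 1 := ⟨q - 1, by omega⟩
    simp only [Nat.add_sub_cancel]
    have : (k + 1) ^ 2 = k * (k + 1 + 1) + 1 := by ring
    rw [this, Nat.add_sub_cancel]
  have h1 : q - 1 ≠ 0 := by omega
  have h2 : q + 1 ≠ 0 := by omega
  have h3 : q ≠ 0 := by omega
  rw [e1, Nat.factorization_mul h3 (mul_ne_zero h2 (mul_ne_zero h1 h2)),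
    Nat.factorization_mul h2 (mul_ne_zero h1 h2), Nat.factorization_mul h1 h2]
  simp only [Finsupp.coe_add, Pi.add_apply, GL2Arith.fact_odd hq]
  ring

section sub
variable {G : Type*} [Group G]

theorem zpowers_inf_eq_bot_subtype {H : Subgroup G} {x y : G} (hx : x ∈ H) (hy : y ∈ H)
    (h : Subgroup.zpowers x ⊓ Subgroup.zpowers y = ⊥) :
    Subgroup.zpowers (⟨x, hx⟩ : H) ⊓ Subgroup.zpowers (⟨y, hy⟩ : H) = ⊥ := by
  rw [Subgroup.eq_bot_iff_forall]
  rintro ⟨g, hgH⟩ ⟨hg1, hg2⟩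
  have h1 : g ∈ Subgroup.zpowers x := by
    obtain ⟨k, hk⟩ := Subgroup.mem_zpowers_iff.mp hg1
    have := congrArg Subtype.val hk
    rw [Subgroup.coe_zpow] at this
    exact Subgroup.mem_zpowers_iff.mpr ⟨k, this⟩
  have h2 : g ∈ Subgroup.zpowers y := by
    obtain ⟨k, hk⟩ := Subgroup.mem_zpowers_iff.mp hg2
    have := congrArg Subtype.val hk
    rw [Subgroup.coe_zpow] at this
    exact Subgroup.mem_zpowers_iff.mpr ⟨k, this⟩
  have : g ∈ (Subgroup.zpowers x ⊓ Subgroup.zpowers y : Subgroup G) := ⟨h1, h2⟩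
  rw [h, Subgroup.mem_bot] at this
  exact Subtype.ext this

theorem isQuasiDihedral_sylow_sub (H : Subgroup G) [Finite H] (P : Sylow 2 H) (n : ℕ)
    (hn : 3 ≤ n) (hcard : (Nat.card H).factorization 2 = n + 1) (x y : G) (hxH : x ∈ H)
    (hyH : y ∈ H) (hx : orderOf x = 2 ^ n) (hy : orderOf y = 2)
    (hxy : y * x * y⁻¹ = x ^ (2 ^ (n - 1) - 1)) :
    Cfsg.IsQuasiDihedral (P : Subgroup H) :=
  SylElems.isQuasiDihedral_sylow_of_elements P n hn hcard ⟨x, hxH⟩ ⟨y, hyH⟩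
    ((Subgroup.orderOf_mk x hxH).trans hx) ((Subgroup.orderOf_mk y hyH).trans hy)
    (Subtype.ext hxy)

theorem isWreathed_sylow_sub (H : Subgroup G) [Finite H] (P : Sylow 2 H) (n : ℕ)
    (hn : 2 ≤ n) (hcard : (Nat.card H).factorization 2 = 2 * n + 1) (x y z : G) (hxH : x ∈ H)
    (hyH : y ∈ H) (hzH : z ∈ H) (hx : orderOf x = 2 ^ n)
    (hxy : x * y = y * x) (hinf : Subgroup.zpowers x ⊓ Subgroup.zpowers y = ⊥)
    (hz : orderOf z = 2) (hzx : z * x * z⁻¹ = y) :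
    Cfsg.IsWreathed (P : Subgroup H) :=
  SylElems.isWreathed_sylow_of_elements P n hn hcard ⟨x, hxH⟩ ⟨y, hyH⟩ ⟨z, hzH⟩
    ((Subgroup.orderOf_mk x hxH).trans hx) (Subtype.ext hxy)
    (zpowers_inf_eq_bot_subtype hxH hyH hinf) ((Subgroup.orderOf_mk z hzH).trans hz)
    (Subtype.ext hzx)

end sub

variable {F : Type*} [Field F] [Fintype F] {q : ℕ}

theorem card_GU2 (hF : Fintype.card F = q ^ 2) :
    Nat.card (GU 2 F q) = q * ((q + 1) * (q ^ 2 - 1)) := by
  rw [Cfsg.Agent.helper11.Unitary.card_GU hF 2]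
  norm_num [Finset.prod_range_succ]

theorem two_ne_zero_of_odd (hF : Fintype.card F = q ^ 2) (hq : q % 2 = 1) : (2 : F) ≠ 0 := by
  intro h2
  have hdvd : ringChar F ∣ 2 := by
    rw [← ringChar.spec]
    exact_mod_cast h2
  have hp : (ringChar F).Prime := CharP.char_is_prime F (ringChar F)
  have h2' : ringChar F = 2 := (Nat.prime_dvd_prime_iff_eq hp Nat.prime_two).mp hdvd
  have := FiniteField.even_card_iff_char_two.mp h2'
  rw [hF] at this
  have hq2 : q ^ 2 % 2 = 1 := by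
    rw [Nat.pow_mod, hq]
  omega

theorem wr_elements_GU (hF : Fintype.card F = q ^ 2) :
    ∃ x y z : GL (Fin 2) F, x ∈ GU 2 F q ∧ y ∈ GU 2 F q ∧ z ∈ GU 2 F q ∧
      orderOf x = 2 ^ ((q + 1).factorization 2) ∧ x * y = y * x ∧
      Subgroup.zpowers x ⊓ Subgroup.zpowers y = ⊥ ∧ orderOf z = 2 ∧ z * x * z⁻¹ = y := by
  obtain ⟨n, hn⟩ : ∃ n, n = (q + 1).factorization 2 := ⟨_, rfl⟩
  rw [← hn]
  have hdvd1 : 2 ^ n ∣ q + 1 := by rw [hn]; exact Nat.ordProj_dvd _ _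
  have hdvd : 2 ^ n ∣ Nat.card Fˣ := by
    rw [card_units_F hF]
    exact hdvd1.mul_left _
  obtain ⟨ζ, hζ⟩ := GL2Wr.exists_orderOf_eq_of_dvd hdvd
  have hζq : ζ ^ (q + 1) = 1 := by
    rw [← orderOf_dvd_iff_pow_eq_one, hζ]
    exact hdvd1
  obtain ⟨h1, h2, h3, h4⟩ := GL2Wr.wreath_elements ζ
  exact ⟨_, _, _, dgHom_mem_GU hF ζ 1 hζq (one_pow _), dgHom_mem_GU hF 1 ζ (one_pow _) hζq,
    sw_mem_GU hF, h1.trans hζ, h2, h3, GL2Wr.orderOf_sw, h4⟩

theorem qd_elements_GU (hF : Fintype.card F = q ^ 2) (hq : q % 4 = 1) :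
    ∃ x y : GL (Fin 2) F, x ∈ GU 2 F q ∧ y ∈ GU 2 F q ∧
      orderOf x = 2 ^ ((q - 1).factorization 2 + 1) ∧ orderOf y = 2 ∧
      y * x * y⁻¹ = x ^ (2 ^ ((q - 1).factorization 2) - 1) := by
  have h2q := two_le_q hF
  obtain ⟨m, hm⟩ : ∃ m, m = (q - 1).factorization 2 := ⟨_, rfl⟩
  rw [← hm]
  have hm2 : 2 ≤ m := by
    rw [hm]; exact GL2Arith.two_le_fact (by omega) (by omega)
  have h2ne : (2 : F) ≠ 0 := two_ne_zero_of_odd hF (by omega)
  -- the half
  obtain ⟨c, hc⟩ : ∃ c : F, 2 * c = 1 := ⟨2⁻¹, mul_inv_cancel₀ h2ne⟩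
  have h2pow : (2 : F) ^ q = 2 := by
    have : (2 : F) = 1 + 1 := by norm_num
    rw [this, add_pow_q hF, one_pow]
  have hcq : c ^ q = c := by
    have h := congrArg (fun z : F => z ^ q) hc
    simp only [mul_pow, one_pow, h2pow] at h
    exact mul_left_cancel₀ h2ne (h.trans hc.symm)
  -- an element of norm -1
  have hneg : ((-1 : Fˣ)) ^ (q - 1) = 1 := by
    apply Even.neg_one_pow
    rw [Nat.even_iff]; omega
  obtain ⟨l, hl⟩ := exists_norm_eq hF (-1 : Fˣ) hneg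
  have hl' : (l : F) ^ (q + 1) = -1 := by
    have := congrArg (fun u : Fˣ => (u : F)) hl
    simpa using this
  obtain ⟨li, hlidef⟩ : ∃ li : F, li = ((l⁻¹ : Fˣ) : F) := ⟨_, rfl⟩
  have hli : (l : F) * li = 1 := by rw [hlidef]; exact Units.mul_inv l
  have hlq : (l : F) ^ q = -li := by
    rw [pow_succ] at hl'
    linear_combination li * hl' - (l : F) ^ q * hli
  have hliq : li ^ q = -(l : F) := by
    have h := congrArg (fun z : F => z ^ q) hli
    simp only [mul_pow, one_pow, hlq] at h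
    linear_combination (-(li ^ q)) * hli - (l : F) * h
  -- an element of order 2 ^ (m + 1)
  have hdvd1 : 2 ^ m ∣ q - 1 := by rw [hm]; exact Nat.ordProj_dvd _ _
  have hdvd : 2 ^ (m + 1) ∣ Nat.card Fˣ := by
    rw [card_units_F hF, pow_succ]
    exact Nat.mul_dvd_mul hdvd1 (by omega)
  obtain ⟨ω, hω⟩ := GL2Wr.exists_orderOf_eq_of_dvd hdvd
  have hω2 : ω ^ (2 ^ m) = -1 := by
    have h1 : (ω ^ (2 ^ m)) * (ω ^ (2 ^ m)) = 1 := by
      rw [← pow_add, ← two_mul, ← pow_succ', ← hω, pow_orderOf_eq_one]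
    have h2 : ω ^ (2 ^ m) ≠ 1 := by
      intro h
      have := orderOf_dvd_of_pow_eq_one h
      rw [hω] at this
      have := Nat.le_of_dvd (by positivity) this
      have : 2 ^ m < 2 ^ (m + 1) := Nat.pow_lt_pow_right (by norm_num) (by omega)
      omega
    have h1' : ((ω ^ (2 ^ m) : Fˣ) : F) * ((ω ^ (2 ^ m) : Fˣ) : F) = 1 := by
      rw [← Units.val_mul, h1, Units.val_one]
    rcases mul_self_eq_one_iff.mp h1' with h | h
    · exact absurd (Units.ext h) h2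
    · exact Units.ext (by rw [h]; simp)
  have hω2' : (ω : F) ^ (2 ^ m) = -1 := by
    have := congrArg (fun u : Fˣ => (u : F)) hω2
    simpa using this
  -- Frobenius negates ω
  have hs : (ω : F) ^ q = -(ω : F) := by
    obtain ⟨t', ht'⟩ := hdvd1
    have htodd : t' % 2 = 1 := by
      have hodd : ¬ 2 ∣ (q - 1) / 2 ^ (q - 1).factorization 2 :=
        Nat.not_dvd_ordCompl Nat.prime_two (by omega)
      rw [← hm, ht', Nat.mul_div_cancel_left _ (by positivity)] at hodd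
      omega
    have hq' : q = 2 ^ m * t' + 1 := by omega
    rw [hq', pow_succ, pow_mul, hω2', Odd.neg_one_pow (Nat.odd_iff.mpr htodd)]
    ring
  have hqodd : Odd q := Nat.odd_iff.mpr (by omega)
  have ht : (((-ω⁻¹ : Fˣ)) : F) ^ q = -((-ω⁻¹ : Fˣ) : F) := by
    rw [Units.val_neg, Units.val_inv_eq_inv_val, neg_pow, inv_pow, hs, hqodd.neg_one_pow]
    rw [inv_neg]
    ring
  have hst : (ω : F) * ((-ω⁻¹ : Fˣ) : F) = -1 := by
    rw [Units.val_neg, mul_neg, Units.mul_inv]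
  refine ⟨twU c (l : F) li hc hli (ω, -ω⁻¹), GL2Wr.dgHom (1, -1), ?_, ?_, ?_, ?_, ?_⟩
  · exact twU_mem_GU hF c l li hc hli hcq hlq hliq ω (-ω⁻¹) hs ht hst
  · apply dgHom_mem_GU hF _ _ (one_pow _)
    apply Even.neg_one_pow
    rw [Nat.even_iff]; omega
  · rw [orderOf_injective _ (twU_injective c l li hc hli), Prod.orderOf, hω]
    apply Nat.lcm_eq_left
    apply orderOf_dvd_of_pow_eq_one
    rw [neg_pow, inv_pow, ← hω, pow_orderOf_eq_one, hω, Even.neg_one_pow, inv_one, one_mul]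
    rw [pow_succ]
    exact even_two.mul_left _
  · apply orderOf_eq_prime
    · rw [← map_pow]
      have : (((1 : Fˣ), (-1 : Fˣ)) : Fˣ × Fˣ) ^ 2 = 1 := by
        ext <;> simp
      rw [this, map_one]
    · intro h
      have h1 : (((1 : Fˣ), (-1 : Fˣ)) : Fˣ × Fˣ) = 1 := GL2Wr.dgHom_injective (h.trans (map_one _).symm)
      have h2 : ((-1 : Fˣ) : F) = 1 := by
        have := congrArg (fun a : Fˣ × Fˣ => ((a.2 : Fˣ) : F)) h1
        simpa using this
      rw [Units.val_neg, Units.val_one] at h2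
      apply h2ne
      linear_combination -h2
  · rw [conj_twU, ← map_pow]
    congr 1
    have hpos : 0 < 2 ^ m := by positivity
    have hk : 2 ^ m - 1 + 1 = 2 ^ m := by omega
    rw [Prod.pow_mk]
    apply Prod.ext
    · show -ω⁻¹ = ω ^ (2 ^ m - 1)
      have h : ω ^ (2 ^ m - 1) * ω = -1 := by rw [← pow_succ, hk, hω2]
      rw [eq_mul_inv_of_mul_eq h, neg_one_mul]
    · show ω = (-ω⁻¹) ^ (2 ^ m - 1)
      have hinv1 : ((-1 : Fˣ))⁻¹ = -1 := inv_eq_of_mul_eq_one_left (by simp)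
      have heven : Even (2 ^ m) := by
        obtain ⟨j, rfl⟩ : ∃ j, m = j + 1 := ⟨m - 1, by omega⟩
        rw [pow_succ]
        exact even_two.mul_left _
      have h : (-ω⁻¹) ^ (2 ^ m - 1) * (-ω⁻¹) = -1 := by
        rw [← pow_succ, hk, neg_pow, inv_pow, hω2, heven.neg_one_pow, one_mul, hinv1]
      rw [eq_mul_inv_of_mul_eq h, neg_one_mul, inv_neg, inv_inv, neg_neg]

end Cfsg.Agent.helper6.GU2
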