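import Mathlib
import Cfsg.Agent.Lib_helper6_QD4
import Cfsg.Agent.Lib_helper1_PGroup
import Cfsg.Agent.Lib_helper1_ElemAb

set_option autoImplicit false
set_option linter.unusedSectionVars false
set_option linter.unusedVariables false
set_option linter.style.haveILetI false

namespace Cfsg.Agent.helper6.QD

open Cfsg.Agent.helper6.ZExp Cfsg.Agent.helper6.TwoPow

variable {S : Type*} [Group S]

namespace Data

variable (D : Data S)

theorem zmod2_add_self (a : ZMod 2) : a + a = 0 := by revert a; decide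
theorem zmod2_neg (a : ZMod 2) : -a = a := by revert a; decide

theorem par_m_mul (j : D.Z) : D.par (D.m * j) = D.par j := by
  rw [map_mul, D.par_m, one_mul]

variable [Finite S]

/-- The maximal subgroups other than `⟨x⟩`. -/
def M (ε : ZMod 2) : Subgroup S where
  carrier := {g | (∃ i, D.par i = 0 ∧ g = D.e i) ∨ (∃ i, D.par i = ε ∧ g = D.b i)}
  one_mem' := Or.inl ⟨0, map_zero _, D.e_zero.symm⟩
  mul_mem' := by
    rintro g₁ g₂ (⟨i, hi, rfl⟩ | ⟨i, hi, rfl⟩) (⟨j, hj, rfl⟩ | ⟨j, hj, rfl⟩)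
    · exact Or.inl ⟨i + j, by rw [map_add, hi, hj, add_zero], D.e_e i j⟩
    · exact Or.inr ⟨i + j, by rw [map_add, hi, hj, zero_add], D.e_b i j⟩
    · exact Or.inr ⟨i + D.m * j, by rw [map_add, D.par_m_mul, hi, hj, add_zero], D.b_e i j⟩
    · exact Or.inl ⟨i + D.m * j, by rw [map_add, D.par_m_mul, hi, hj, zmod2_add_self],
        D.b_b i j⟩
  inv_mem' := by
    rintro g (⟨i, hi, rfl⟩ | ⟨i, hi, rfl⟩)
    · exact Or.inl ⟨-i, by rw [map_neg, hi, neg_zero], D.e_inv i⟩
    · exact Or.inr ⟨-(D.m * i), by rw [map_neg, D.par_m_mul, hi, zmod2_neg], D.b_inv i⟩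

theorem e_mem_M (ε : ZMod 2) (i : D.Z) : D.e i ∈ D.M ε ↔ D.par i = 0 := by
  constructor
  · rintro (⟨j, hj, h⟩ | ⟨j, hj, h⟩)
    · rw [D.e_inj.mp h]; exact hj
    · exact absurd h (D.e_ne_b _ _)
  · intro h; exact Or.inl ⟨i, h, rfl⟩

theorem b_mem_M (ε : ZMod 2) (i : D.Z) : D.b i ∈ D.M ε ↔ D.par i = ε := by
  constructor
  · rintro (⟨j, hj, h⟩ | ⟨j, hj, h⟩)
    · exact absurd h (D.b_ne_e _ _)
    · rw [D.b_inj.mp h]; exact hj
  · intro h; exact Or.inr ⟨i, h, rfl⟩

theorem index_M (ε : ZMod 2) : (D.M ε).index = 2 := by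
  rw [Subgroup.index_eq_two_iff]
  refine ⟨D.e 1, fun g => ?_⟩
  rcases D.cases g with ⟨i, rfl⟩ | ⟨i, rfl⟩
  · rw [D.e_e, D.e_mem_M, D.e_mem_M, map_add, map_one]
    rcases D.par_cases i with h | h <;> rw [h] <;> decide
  · rw [D.b_e, D.b_mem_M, D.b_mem_M, map_add, D.par_m_mul, map_one]
    rcases D.par_cases i with h | h <;> rw [h] <;> revert ε <;> decide

theorem isCoatom_M (ε : ZMod 2) : IsCoatom (D.M ε) :=
  Cfsg.Agent.helper1.isCoatom_of_index_prime (by rw [D.index_M]; exact Nat.prime_two)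

theorem isCoatom_M1 : IsCoatom (Subgroup.zpowers D.x) :=
  Cfsg.Agent.helper1.isCoatom_of_index_prime (by rw [D.index_zpowers]; exact Nat.prime_two)

include D in
theorem isPGroup : IsPGroup 2 S := IsPGroup.of_card D.card

theorem x_not_mem_M (ε : ZMod 2) : D.x ∉ D.M ε := by
  rw [← D.e_one, D.e_mem_M, map_one]; decide

theorem M1_ne_M (ε : ZMod 2) : Subgroup.zpowers D.x ≠ D.M ε := by
  intro h
  apply D.x_not_mem_M ε
  rw [← h]; exact Subgroup.mem_zpowers _

theorem M_ne : D.M 1 ≠ D.M 0 := by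
  intro h
  have : D.b 0 ∈ D.M 0 := (D.b_mem_M 0 0).mpr (map_zero _)
  rw [← h, D.b_mem_M, map_zero] at this
  revert this; decide

theorem e_two_mul (j : D.Z) : D.e (2 * j) = D.e j ^ 2 := (D.sq_e j).symm

theorem coatom_cases (K : Subgroup S) (hK : IsCoatom K) :
    K = Subgroup.zpowers D.x ∨ K = D.M 1 ∨ K = D.M 0 := by
  haveI : Fact (Nat.Prime 2) := ⟨Nat.prime_two⟩
  have hidx : K.index = 2 := Cfsg.Agent.helper1.coatom_index_of_isPGroup D.isPGroup hK
  have hKtop : K ≠ ⊤ := hK.1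
  have heven : ∀ j : D.Z, D.e (2 * j) ∈ K := by
    intro j; rw [D.e_two_mul]; exact Subgroup.sq_mem_of_index_two hidx _
  by_cases hx : D.x ∈ K
  · left
    have hle : Subgroup.zpowers D.x ≤ K := by
      rw [Subgroup.zpowers_le]; exact hx
    rcases (D.isCoatom_M1.le_iff).mp hle with h | h
    · exact absurd h hKtop
    · exact h
  · right
    have he : ∀ i : D.Z, D.e i ∈ K ↔ D.par i = 0 := by
      intro i
      constructor
      · intro hi
        rcases D.par_cases i with h | h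
        · exact h
        · exfalso
          obtain ⟨j, rfl⟩ := (D.par_eq_one_iff i).mp h
          rw [← D.e_e, D.e_one, Subgroup.mul_mem_iff_of_index_two hidx] at hi
          exact hx (hi.mp (heven j))
      · intro hi
        obtain ⟨j, rfl⟩ := (D.par_eq_zero_iff i).mp hi
        exact heven j
    have hb : ∀ i : D.Z, D.b i ∈ K ↔ (D.par i = 0 ↔ D.y ∈ K) := by
      intro i
      unfold b
      rw [Subgroup.mul_mem_iff_of_index_two hidx, he]
    by_cases hy : D.y ∈ K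
    · right
      have hle : D.M 0 ≤ K := by
        rintro g (⟨i, hi, rfl⟩ | ⟨i, hi, rfl⟩)
        · exact (he i).mpr hi
        · exact (hb i).mpr ⟨fun _ => hy, fun _ => hi⟩
      rcases ((D.isCoatom_M 0).le_iff).mp hle with h | h
      · exact absurd h hKtop
      · exact h
    · left
      have hle : D.M 1 ≤ K := by
        rintro g (⟨i, hi, rfl⟩ | ⟨i, hi, rfl⟩)
        · exact (he i).mpr hi
        · refine (hb i).mpr ⟨fun h0 => ?_, fun h => absurd h hy⟩
          rw [hi] at h0; exact absurd h0 one_ne_zero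
      rcases ((D.isCoatom_M 1).le_iff).mp hle with h | h
      · exact absurd h hKtop
      · exact h

/-! ### the square of `x` -/

theorem orderOf_x2 : orderOf (D.x ^ 2) = 2 ^ (D.n - 1) := by
  rw [orderOf_pow_of_dvd (by norm_num) (by rw [D.hx]; exact dvd_pow_self 2 (by have := D.hn; omega)),
    D.hx]
  have := D.hn
  obtain ⟨k, hk⟩ : ∃ k, D.n = k + 1 := ⟨D.n - 1, by omega⟩
  rw [hk, Nat.add_sub_cancel, pow_succ, Nat.mul_div_cancel _ (by norm_num)]

theorem E_x2 {N2 : ℕ} (k : ZMod N2) : E N2 (D.x ^ 2) k = D.e (2 * ((k.val : ℕ) : D.Z)) := by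
  unfold E
  rw [← pow_mul]
  have := pow_eq_E D.hx (2 * k.val)
  rw [this]
  unfold e
  congr 1
  push_cast; ring

theorem conj_y_x2 : D.y * D.x ^ 2 * D.y⁻¹ = (D.x ^ 2)⁻¹ := by
  have h1 : D.x ^ 2 = D.e 2 := by
    rw [← D.e_one, D.e_pow]; congr 1; push_cast; ring
  rw [h1, D.conj_e, D.e_inv, D.e_inj, D.m_eq]
  linear_combination D.two_h

theorem conj_b1_x2 : D.b 1 * D.x ^ 2 * (D.b 1)⁻¹ = (D.x ^ 2)⁻¹ := by
  have h1 : D.x ^ 2 = D.e 2 := by
    rw [← D.e_one, D.e_pow]; congr 1; push_cast; ring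
  rw [h1, D.conj_b_e, D.e_inv, D.e_inj, D.m_eq]
  linear_combination D.two_h

section homs

variable {N2 : ℕ} [NeZero N2] (hN2 : orderOf (D.x ^ 2) = N2)
include hN2

theorem conj_E2 {t : S} (ht : t * D.x ^ 2 * t⁻¹ = (D.x ^ 2)⁻¹) (k : ZMod N2) :
    E N2 (D.x ^ 2) k * t = t * E N2 (D.x ^ 2) (-k) := by
  have h1 : t * D.x ^ 2 * t⁻¹ = E N2 (D.x ^ 2) (-1) := by
    rw [ht, E_neg hN2, E_one hN2]
  have h2 := conj_E' hN2 h1 (-k)
  have h3 : (-1 : ZMod N2) * -k = k := by ring
  rw [h3] at h2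
  rw [← h2]; group

/-- The dihedral homomorphism. -/
noncomputable def dihHom : DihedralGroup N2 →* S :=
  MonoidHom.mk' (fun g => match g with
    | DihedralGroup.r k => E N2 (D.x ^ 2) k
    | DihedralGroup.sr k => D.y * E N2 (D.x ^ 2) k) (by
    have hc := D.conj_E2 hN2 D.conj_y_x2
    rintro (i | i) (j | j)
    · simp only [DihedralGroup.r_mul_r]
      rw [E_add hN2]
    · simp only [DihedralGroup.r_mul_sr]
      rw [← mul_assoc, hc, mul_assoc, E_mul_E hN2]
      congr 2; ring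
    · simp only [DihedralGroup.sr_mul_r]
      rw [mul_assoc, E_mul_E hN2]
    · simp only [DihedralGroup.sr_mul_sr]
      rw [mul_assoc, ← mul_assoc _ D.y, hc, mul_assoc, ← mul_assoc D.y, D.yy, one_mul,
        E_mul_E hN2]
      congr 1; ring)

theorem dihHom_r (k : ZMod N2) : D.dihHom hN2 (DihedralGroup.r k) = E N2 (D.x ^ 2) k := rfl

theorem dihHom_sr (k : ZMod N2) :
    D.dihHom hN2 (DihedralGroup.sr k) = D.y * E N2 (D.x ^ 2) k := rfl

theorem dihHom_injective : Function.Injective (D.dihHom hN2) := by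
  rw [injective_iff_map_eq_one]
  rintro (k | k) hk
  · rw [dihHom_r, E_eq_one_iff hN2] at hk
    rw [hk]; rfl
  · exfalso
    rw [dihHom_sr, D.E_x2, ← D.b_zero, D.b_e] at hk
    exact D.b_ne_one _ hk

theorem dihHom_range_le : (D.dihHom hN2).range ≤ D.M 0 := by
  rintro g ⟨(k | k), rfl⟩
  · rw [dihHom_r, D.E_x2, D.e_mem_M, D.par_two_mul]
  · rw [dihHom_sr, D.E_x2, ← D.b_zero, D.b_e, D.b_mem_M, map_add, D.par_m_mul, D.par_two_mul,
      map_zero, add_zero]

end homs

theorem card_M (ε : ZMod 2) : Nat.card (D.M ε) = 2 ^ D.n := by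
  have h1 := (D.M ε).card_mul_index
  rw [D.index_M, D.card, pow_succ] at h1
  exact Nat.eq_of_mul_eq_mul_right (by norm_num) h1

theorem M0_equiv : Nonempty (D.M 0 ≃* DihedralGroup (2 ^ (D.n - 1))) := by
  have hN2 := D.orderOf_x2
  have hinj := D.dihHom_injective hN2
  have hle := D.dihHom_range_le hN2
  have hcard : Nat.card (D.dihHom hN2).range = 2 ^ D.n := by
    rw [← Nat.card_congr (MonoidHom.ofInjective hinj).toEquiv, DihedralGroup.nat_card]
    have := D.hn
    obtain ⟨k, hk⟩ : ∃ k, D.n = k + 1 := ⟨D.n - 1, by omega⟩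
    rw [hk, Nat.add_sub_cancel, pow_succ, mul_comm]
  have heq : (D.dihHom hN2).range = D.M 0 :=
    Subgroup.eq_of_le_of_card_ge hle (by rw [hcard, D.card_M])
  exact ⟨(MulEquiv.subgroupCongr heq.symm).trans (MonoidHom.ofInjective hinj).symm⟩

section quat

variable {n2 : ℕ} [NeZero n2] (hN2 : orderOf (D.x ^ 2) = 2 * n2)
include hN2

theorem b1_sq_eq : D.b 1 * D.b 1 = E (2 * n2) (D.x ^ 2) ((n2 : ℕ) : ZMod (2 * n2)) := by
  rw [E_natCast hN2, ← pow_mul, ← hN2, D.orderOf_x2, D.b_b, pow_eq_E D.hx]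
  unfold e
  congr 1
  have : ((2 ^ (D.n - 1) : ℕ) : ZMod (2 ^ D.n)) = D.h := rfl
  rw [this, ← D.one_add_m]; ring

/-- The quaternion homomorphism. -/
noncomputable def quatHom : QuaternionGroup n2 →* S :=
  MonoidHom.mk' (fun g => match g with
    | QuaternionGroup.a k => E (2 * n2) (D.x ^ 2) k
    | QuaternionGroup.xa k => D.b 1 * E (2 * n2) (D.x ^ 2) k) (by
    have hc := D.conj_E2 hN2 D.conj_b1_x2
    rintro (i | i) (j | j)
    · simp only [QuaternionGroup.a_mul_a]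
      rw [E_add hN2]
    · simp only [QuaternionGroup.a_mul_xa]
      rw [← mul_assoc, hc, mul_assoc, E_mul_E hN2]
      congr 2; ring
    · simp only [QuaternionGroup.xa_mul_a]
      rw [mul_assoc, E_mul_E hN2]
    · simp only [QuaternionGroup.xa_mul_xa]
      rw [mul_assoc, ← mul_assoc _ (D.b 1), hc, mul_assoc, ← mul_assoc (D.b 1),
        D.b1_sq_eq hN2, E_mul_E hN2, E_mul_E hN2]
      congr 1; ring)

theorem quatHom_a (k : ZMod (2 * n2)) :
    D.quatHom hN2 (QuaternionGroup.a k) = E (2 * n2) (D.x ^ 2) k := rfl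

theorem quatHom_xa (k : ZMod (2 * n2)) :
    D.quatHom hN2 (QuaternionGroup.xa k) = D.b 1 * E (2 * n2) (D.x ^ 2) k := rfl

theorem quatHom_injective : Function.Injective (D.quatHom hN2) := by
  rw [injective_iff_map_eq_one]
  rintro (k | k) hk
  · rw [quatHom_a, E_eq_one_iff hN2] at hk
    rw [hk]; rfl
  · exfalso
    rw [quatHom_xa, D.E_x2, D.b_e] at hk
    exact D.b_ne_one _ hk

theorem quatHom_range_le : (D.quatHom hN2).range ≤ D.M 1 := by
  rintro g ⟨(k | k), rfl⟩
  · rw [quatHom_a, D.E_x2, D.e_mem_M, D.par_two_mul]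
  · rw [quatHom_xa, D.E_x2, D.b_e, D.b_mem_M, map_add, D.par_m_mul, D.par_two_mul,
      map_one, add_zero]

end quat

theorem M1_equiv : Nonempty (D.M 1 ≃* QuaternionGroup (2 ^ (D.n - 2))) := by
  have hN2 : orderOf (D.x ^ 2) = 2 * 2 ^ (D.n - 2) := by
    rw [D.orderOf_x2]
    have := D.hn
    obtain ⟨k, hk⟩ : ∃ k, D.n = k + 2 := ⟨D.n - 2, by omega⟩
    rw [hk]
    have : k + 2 - 1 = k + 1 := by omega
    rw [this, Nat.add_sub_cancel, pow_succ, mul_comm]
  have hinj := D.quatHom_injective hN2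
  have hle := D.quatHom_range_le hN2
  have hcard : Nat.card (D.quatHom hN2).range = 2 ^ D.n := by
    rw [← Nat.card_congr (MonoidHom.ofInjective hinj).toEquiv, Nat.card_eq_fintype_card,
      QuaternionGroup.card]
    have := D.hn
    obtain ⟨k, hk⟩ : ∃ k, D.n = k + 2 := ⟨D.n - 2, by omega⟩
    rw [hk, Nat.add_sub_cancel]; ring
  have heq : (D.quatHom hN2).range = D.M 1 :=
    Subgroup.eq_of_le_of_card_ge hle (by rw [hcard, D.card_M])
  exact ⟨(MulEquiv.subgroupCongr heq.symm).trans (MonoidHom.ofInjective hinj).symm⟩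

end Data

end Cfsg.Agent.helper6.QD
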