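import Mathlib
import Cfsg.Agent.Lib_helper6_QD5

set_option autoImplicit false
set_option linter.unusedSectionVars false
set_option linter.unusedVariables false
set_option linter.style.haveILetI false

namespace Cfsg.Agent.helper6.QD

open Cfsg.Agent.helper6.ZExp Cfsg.Agent.helper6.TwoPow
open scoped commutatorElement

variable {S : Type*} [Group S]

namespace Data

variable (D : Data S)

/-- The subgroup of squares of `x`. -/
def A2 : Subgroup S := Subgroup.zpowers (D.x ^ 2)

theorem x2_eq : D.x ^ 2 = D.e 2 := by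
  rw [← D.e_one, D.e_pow]; congr 1; push_cast; ring

theorem e_two_mul_mem (j : D.Z) : D.e (2 * j) ∈ D.A2 := by
  unfold A2
  have : D.e (2 * j) = (D.x ^ 2) ^ j.val := by
    rw [D.x2_eq, D.e_pow, ZMod.natCast_zmod_val]
  rw [this]
  exact Subgroup.npow_mem_zpowers _ _

theorem mem_A2_iff (g : S) : g ∈ D.A2 ↔ ∃ j : D.Z, g = D.e (2 * j) := by
  constructor
  · intro hg
    unfold A2 at hg
    have hfin : IsOfFinOrder (D.x ^ 2) := by
      apply IsOfFinOrder.pow
      rw [← orderOf_pos_iff, D.hx]; positivity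
    rw [← hfin.mem_powers_iff_mem_zpowers, Submonoid.mem_powers_iff] at hg
    obtain ⟨a, ha⟩ := hg
    refine ⟨(a : D.Z), ?_⟩
    rw [← ha, D.x2_eq, D.e_pow]
  · rintro ⟨j, rfl⟩
    exact D.e_two_mul_mem j

variable [Finite S]

theorem A2_le_coatom (K : Subgroup S) (hK : IsCoatom K) : D.A2 ≤ K := by
  haveI : Fact (Nat.Prime 2) := ⟨Nat.prime_two⟩
  unfold A2
  rw [Subgroup.zpowers_le]
  exact Cfsg.Agent.helper1.pow_mem_coatom_of_isPGroup D.isPGroup hK D.x

theorem frattini_eq : frattini S = D.A2 := by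
  apply le_antisymm
  · intro g hg
    have h1 : g ∈ Subgroup.zpowers D.x := by
      have : frattini S ≤ Subgroup.zpowers D.x := by
        unfold frattini Order.radical
        exact iInf₂_le _ D.isCoatom_M1
      exact this hg
    have h2 : g ∈ D.M 0 := by
      have : frattini S ≤ D.M 0 := by
        unfold frattini Order.radical
        exact iInf₂_le _ (D.isCoatom_M 0)
      exact this hg
    obtain ⟨i, rfl⟩ := D.mem_zpowers_iff.mp h1
    rw [D.e_mem_M] at h2
    obtain ⟨j, rfl⟩ := (D.par_eq_zero_iff i).mp h2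
    exact D.e_two_mul_mem j
  · exact Cfsg.Agent.helper1.le_frattini_of_forall_coatom (fun K hK => D.A2_le_coatom K hK)

theorem par_q_sub_one : D.par (D.q - 1) = 1 := by
  rw [map_sub, D.par_q, map_one]; decide

theorem commutator_eq : commutator S = D.A2 := by
  haveI : Fact (Nat.Prime 2) := ⟨Nat.prime_two⟩
  apply le_antisymm
  · rw [← D.frattini_eq]
    exact Cfsg.Agent.helper1.commutator_le_frattini_of_isPGroup D.isPGroup
  · have h1 : D.e (D.h - 2) ∈ commutator S := by
      have h2 : ⁅D.y, D.x⁆ ∈ commutator S := by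
        rw [commutator_def]
        exact Subgroup.commutator_mem_commutator (Subgroup.mem_top _) (Subgroup.mem_top _)
      have h3 : ⁅D.y, D.x⁆ = D.e (D.h - 2) := by
        rw [commutatorElement_def, ← D.e_one, D.conj_e, D.e_inv, D.e_e, D.e_inj, D.m_eq]; ring
      rwa [h3] at h2
    obtain ⟨u, hu⟩ := D.exists_inv_of_odd D.par_q_sub_one
    have h2 : D.e 2 ∈ commutator S := by
      have h3 : D.e 2 = D.e (D.h - 2) ^ u.val := by
        rw [D.e_pow, ZMod.natCast_zmod_val, D.e_inj, D.h_eq]
        linear_combination (-2 : D.Z) * hu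
      rw [h3]; exact Subgroup.pow_mem _ h1 _
    unfold A2
    rw [Subgroup.zpowers_le, D.x2_eq]
    exact h2

theorem isCyclic_A2 : IsCyclic D.A2 := Subgroup.isCyclic_zpowers _

theorem card_A2 : Nat.card D.A2 = 2 ^ (D.n - 1) := by
  unfold A2; rw [Nat.card_zpowers, D.orderOf_x2]

theorem center_eq : Subgroup.center S = Subgroup.zpowers (D.e D.h) := by
  apply le_antisymm
  · intro g hg
    rw [Subgroup.mem_center_iff] at hg
    have h1 := (hg (D.b 0)).symm
    have h2 := (hg (D.e 1)).symm
    rcases (D.comm_b_iff 0 g).mp h1 with h | h | h | h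
    · rw [h]; exact one_mem _
    · rw [h]; exact Subgroup.mem_zpowers _
    · exfalso
      rw [h, D.b_e, D.e_b, D.b_inj] at h2
      apply D.m_ne_one
      linear_combination h2
    · exfalso
      rw [h, D.b_e, D.e_b, D.b_inj] at h2
      apply D.m_ne_one
      linear_combination h2
  · rw [Subgroup.zpowers_le, Subgroup.mem_center_iff]
    intro g
    exact (D.e_h_comm g).symm

include D in
theorem card_center : Nat.card (Subgroup.center S) = 2 := by
  rw [D.center_eq, Nat.card_zpowers, (D.orderOf_e_eq_two_iff _).mpr rfl]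

theorem closure_invol_eq : Subgroup.closure {x : S | orderOf x = 2} = D.M 0 := by
  apply le_antisymm
  · rw [Subgroup.closure_le]
    intro g hg
    rw [Set.mem_ofPred_eq] at hg
    rcases D.cases g with ⟨i, rfl⟩ | ⟨i, rfl⟩
    · rw [(D.orderOf_e_eq_two_iff i).mp hg, SetLike.mem_coe, D.e_mem_M, D.par_h]
    · rw [SetLike.mem_coe, D.b_mem_M]
      exact (D.orderOf_b_eq_two_iff i).mp hg
  · have hb : ∀ i : D.Z, D.par i = 0 → D.b i ∈ Subgroup.closure {x : S | orderOf x = 2} := by
      intro i hi
      apply Subgroup.subset_closure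
      exact (D.orderOf_b_eq_two_iff i).mpr hi
    rintro g (⟨i, hi, rfl⟩ | ⟨i, hi, rfl⟩)
    · have : D.e i = D.b i * D.b 0 := by rw [D.b_b, mul_zero, add_zero]
      rw [this]
      exact Subgroup.mul_mem _ (hb i hi) (hb 0 (map_zero _))
    · exact hb i hi

/-- normal subgroups -/
theorem b_mul_b_inv (k i : D.Z) : D.b k * (D.b i)⁻¹ = D.e (k - i) := by
  rw [D.b_inv, D.b_b, D.e_inj]
  linear_combination (-i) * D.mm

include D in
theorem normal_cases (K : Subgroup S) [K.Normal] (hK : K ≠ ⊤) :
    IsCoatom K ∨ (IsCyclic K ∧ K ≤ commutator S) := by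
  by_cases hb : ∃ i : D.Z, D.b i ∈ K
  · left
    obtain ⟨i, hi⟩ := hb
    have h1 : ∀ j : D.Z, D.b (i + 2 * j) ∈ K := by
      intro j
      obtain ⟨k, hk⟩ := D.exists_mul_two_sub_h j
      have := Subgroup.Normal.conj_mem (inferInstance : K.Normal) _ hi (D.e k)
      rwa [D.conj_e_b, hk] at this
    have h2 : ∀ j : D.Z, D.e (2 * j) ∈ K := by
      intro j
      have := K.mul_mem (h1 j) (K.inv_mem hi)
      rw [D.b_mul_b_inv] at this
      have h3 : i + 2 * j - i = 2 * j := by ring
      rwa [h3] at this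
    have hle : D.M (D.par i) ≤ K := by
      rintro g (⟨k, hk, rfl⟩ | ⟨k, hk, rfl⟩)
      · obtain ⟨j, rfl⟩ := (D.par_eq_zero_iff k).mp hk
        exact h2 j
      · have h3 : D.par (k - i) = 0 := by rw [map_sub, hk, sub_self]
        obtain ⟨j, hj⟩ := (D.par_eq_zero_iff _).mp h3
        have h4 : k = i + 2 * j := by rw [← hj]; ring
        rw [h4]; exact h1 j
    rcases ((D.isCoatom_M _).le_iff).mp hle with h | h
    · exact absurd h hK
    · rw [h]; exact D.isCoatom_M _
  · push Not at hb
    have hle : K ≤ Subgroup.zpowers D.x := by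
      intro g hg
      rcases D.cases g with ⟨i, rfl⟩ | ⟨i, rfl⟩
      · exact D.e_mem i
      · exact absurd hg (hb i)
    by_cases hodd : ∃ i : D.Z, D.par i = 1 ∧ D.e i ∈ K
    · left
      obtain ⟨i, hi, hiK⟩ := hodd
      obtain ⟨u, hu⟩ := D.exists_inv_of_odd hi
      have hx : D.x ∈ K := by
        have h3 : D.x = D.e i ^ u.val := by
          rw [D.e_pow, ZMod.natCast_zmod_val, hu, D.e_one]
        rw [h3]; exact Subgroup.pow_mem _ hiK _
      have hle' : Subgroup.zpowers D.x ≤ K := by
        rw [Subgroup.zpowers_le]; exact hx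
      rw [le_antisymm hle hle']
      exact D.isCoatom_M1
    · right
      push Not at hodd
      constructor
      · have e1 := Subgroup.subgroupOfEquivOfLe hle
        rw [← e1.isCyclic]
        infer_instance
      · rw [D.commutator_eq]
        intro g hg
        obtain ⟨i, rfl⟩ := D.mem_zpowers_iff.mp (hle hg)
        rcases D.par_cases i with h | h
        · obtain ⟨j, rfl⟩ := (D.par_eq_zero_iff i).mp h
          exact D.e_two_mul_mem j
        · exact absurd hg (hodd i h)

end Data

end Cfsg.Agent.helper6.QD
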