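import Mathlib
import Cfsg.Agent.Lib_helper6_QD6

set_option autoImplicit false
set_option linter.unusedSectionVars false
set_option linter.unusedVariables false

namespace Cfsg.Agent.helper6.QDAut

open Cfsg.Agent.helper6.QD Cfsg.Agent.helper6.ZExp Cfsg.Agent.helper6.TwoPow

/-- One step of the chain argument: an automorphism `f` with `f ^ r = 1` fixing `K` pointwise and
leaving `L` invariant fixes `L` pointwise, when `L` has at most two cosets of `K` and `K` has no
elements of order dividing `r`. -/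
theorem fix_step {H : Type*} [Group H] (f : MulAut H) (r : ℕ) (hr : f ^ r = 1)
    (K L : Set H)
    (hK : ∀ a ∈ K, f a = a)
    (hL : ∀ a ∈ L, f a ∈ L)
    (h3 : ∀ a ∈ L, ∀ b ∈ L, a ∉ K → b ∉ K → a⁻¹ * b ∈ K)
    (h4 : ∀ c ∈ K, c ^ r = 1 → c = 1) :
    ∀ a ∈ L, f a = a := by
  intro a ha
  by_cases haK : a ∈ K
  · exact hK a haK
  · have hfa : f a ∉ K := by
      intro h
      have h1 := hK _ h
      have h2 : f a = a := f.injective h1
      rw [h2] at h
      exact haK h
    have hc := h3 a ha (f a) (hL a ha) haK hfa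
    have hfc : f (a⁻¹ * f a) = a⁻¹ * f a := hK _ hc
    have hfa' : f a = a * (a⁻¹ * f a) := by group
    have hpow : ∀ k : ℕ, (f ^ k) a = a * (a⁻¹ * f a) ^ k := by
      intro k
      induction k with
      | zero => simp
      | succ k ih =>
        rw [pow_succ' f, MulAut.mul_apply, ih, map_mul, map_pow, hfc, pow_succ' (a⁻¹ * f a)]
        rw [← mul_assoc, ← hfa']
    have h5 := hpow r
    rw [hr, MulAut.one_apply] at h5
    have hcr : (a⁻¹ * f a) ^ r = 1 := by
      have h6 : a * 1 = a * (a⁻¹ * f a) ^ r := by rw [mul_one]; exact h5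
      exact (mul_left_cancel h6).symm
    have hc1 := h4 _ hc hcr
    calc f a = a * (a⁻¹ * f a) := hfa'
      _ = a * 1 := by rw [hc1]
      _ = a := mul_one a

section

variable {S : Type*} [Group S] (D : Data S) [Finite S]
variable {H : Type*} [Group H] (ι : H →* S) (hι : Function.Injective ι)

include hι in
theorem pow_card_eq_one (a : H) : a ^ (2 ^ (D.n + 1)) = 1 := by
  apply hι
  rw [map_pow, map_one, ← D.card]
  exact pow_card_eq_one'

include D hι in
theorem eq_one_of_odd_pow {r : ℕ} (hr : Odd r) (c : H) (hc : c ^ r = 1) : c = 1 := by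
  have h1 := pow_card_eq_one D ι hι c
  have h2 : c ^ Nat.gcd r (2 ^ (D.n + 1)) = 1 := pow_gcd_eq_one.mpr ⟨hc, h1⟩
  have h3 : Nat.gcd r (2 ^ (D.n + 1)) = 1 :=
    Nat.Coprime.pow_right _ (Nat.coprime_two_right.mpr hr)
  rwa [h3, pow_one] at h2

/-- elements of `H` lying in `⟨x⟩` with order dividing `2 ^ j`. -/
def A (j : ℕ) : Set H := {a | ∃ k : D.Z, ι a = D.e k ∧ 2 ^ j * k = 0}

theorem two_pow_n_mul (k : D.Z) : (2 : D.Z) ^ D.n * k = 0 := by
  have : ((2 ^ D.n : ℕ) : D.Z) = 0 := ZMod.natCast_self _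
  push_cast at this
  rw [this, zero_mul]

include hι in
theorem fix_A (f : MulAut H) (r : ℕ) (hr : Odd r) (hfr : f ^ r = 1)
    (hinv : ∀ a k, ι a = D.e k → ∃ k', ι (f a) = D.e k') :
    ∀ j : ℕ, ∀ a ∈ A D ι j, f a = a := by
  intro j
  induction j with
  | zero =>
    rintro a ⟨k, hk, hk0⟩
    rw [pow_zero, one_mul] at hk0
    rw [hk0, D.e_zero] at hk
    have : a = 1 := hι (by rw [hk, map_one])
    rw [this, map_one]
  | succ j ih =>
    apply fix_step f r hfr (A D ι j) (A D ι (j + 1)) ih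
    · rintro a ⟨k, hk, hk0⟩
      obtain ⟨k', hk'⟩ := hinv a k hk
      refine ⟨k', hk', ?_⟩
      have h1 : a ^ (2 ^ (j + 1)) = 1 := by
        apply hι
        rw [map_pow, map_one, hk, D.e_pow, D.e_eq_one_iff]
        push_cast
        linear_combination hk0
      have h2 : (f a) ^ (2 ^ (j + 1)) = 1 := by rw [← map_pow, h1, map_one]
      have h3 := congrArg ι h2
      rw [map_pow, map_one, hk', D.e_pow, D.e_eq_one_iff] at h3
      push_cast at h3
      linear_combination h3
    · rintro a ⟨k, hk, hk0⟩ b ⟨l, hl, hl0⟩ ha hb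
      have hk1 : 2 ^ j * k = D.h := by
        have h1 : 2 * (2 ^ j * k) = 0 := by linear_combination hk0
        rcases (D.two_mul_eq_zero_iff _).mp h1 with h | h
        · exact absurd ⟨k, hk, h⟩ ha
        · exact h
      have hl1 : 2 ^ j * l = D.h := by
        have h1 : 2 * (2 ^ j * l) = 0 := by linear_combination hl0
        rcases (D.two_mul_eq_zero_iff _).mp h1 with h | h
        · exact absurd ⟨l, hl, h⟩ hb
        · exact h
      refine ⟨l - k, ?_, ?_⟩
      · rw [map_mul, map_inv, hk, hl, D.e_inv, D.e_e]; congr 1; ring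
      · linear_combination hl1 - hk1
    · intro c _ hc
      exact eq_one_of_odd_pow D ι hι hr c hc

include hι in
/-- an odd-order automorphism leaving `H ∩ ⟨x⟩` invariant is trivial. -/
theorem aut_trivial (f : MulAut H) (r : ℕ) (hr : Odd r) (hfr : f ^ r = 1)
    (hinv : ∀ a k, ι a = D.e k → ∃ k', ι (f a) = D.e k') : f = 1 := by
  have hA := fix_A D ι hι f r hr hfr hinv D.n
  have hall := fix_step f r hfr (A D ι D.n) Set.univ hA (fun _ _ => Set.mem_univ _) ?_ ?_
  · ext a; exact hall a (Set.mem_univ a)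
  · intro a _ b _ ha hb
    have ha' : ∃ i, ι a = D.b i := by
      rcases D.cases (ι a) with ⟨k, hk⟩ | h
      · exact absurd ⟨k, hk, two_pow_n_mul D k⟩ ha
      · exact h
    have hb' : ∃ i, ι b = D.b i := by
      rcases D.cases (ι b) with ⟨k, hk⟩ | h
      · exact absurd ⟨k, hk, two_pow_n_mul D k⟩ hb
      · exact h
    obtain ⟨i, hi⟩ := ha'
    obtain ⟨j, hj⟩ := hb'
    refine ⟨-(D.m * i) + D.m * j, ?_, two_pow_n_mul D _⟩
    rw [map_mul, map_inv, hi, hj, D.b_inv, D.b_b]
  · intro c _ hc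
    exact eq_one_of_odd_pow D ι hι hr c hc

theorem exists_mul_eq_h (k : D.Z) (hk : 2 * k ≠ 0) :
    ∃ t : ℕ, 2 * ((t : D.Z) * k) = D.h := by
  have key : ∀ m : ℕ, (2 : D.Z) ^ m * k = 0 → ∃ t : ℕ, 2 * ((t : D.Z) * k) = D.h := by
    intro m
    induction m with
    | zero =>
      intro h
      rw [pow_zero, one_mul] at h
      exact absurd (by rw [h, mul_zero]) hk
    | succ m ih =>
      intro h
      by_cases h0 : (2 : D.Z) ^ m * k = 0
      · exact ih h0
      · have h1 : 2 * (2 ^ m * k) = 0 := by linear_combination h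
        rcases (D.two_mul_eq_zero_iff _).mp h1 with h2 | h2
        · exact absurd h2 h0
        · rcases m with _ | m'
          · rw [pow_zero, one_mul] at h2
            exact absurd (by rw [h2]; exact D.two_h) hk
          · refine ⟨2 ^ m', ?_⟩
            push_cast
            linear_combination h2
  exact key D.n (two_pow_n_mul D k)

theorem exists_mul_eq_q (k : D.Z) (hk : 4 * k ≠ 0) :
    ∃ t : ℕ, 2 * ((t : D.Z) * k) = D.q ∨ 2 * ((t : D.Z) * k) = -D.q := by
  have h2 : 2 * (2 * k) ≠ 0 := by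
    intro h; apply hk; linear_combination h
  obtain ⟨t, ht⟩ := exists_mul_eq_h D (2 * k) h2
  refine ⟨t, ?_⟩
  have h3 : 2 * (2 * ((t : D.Z) * k) - D.q) = 0 := by linear_combination ht + D.h_eq
  rcases (D.two_mul_eq_zero_iff _).mp h3 with h4 | h4
  · left; linear_combination h4
  · right; rw [D.neg_q]; linear_combination h4

theorem sq_ne_b (g : S) (j : D.Z) : g ^ 2 ≠ D.b j := by
  rcases D.cases g with ⟨k, rfl⟩ | ⟨k, rfl⟩
  · rw [D.sq_e]; exact D.e_ne_b _ _
  · rw [D.sq_b]; exact D.e_ne_b _ _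

include hι in
theorem klein_case (f : MulAut H) (a : H) (j : D.Z) (hj : D.par j = 0) (ha : ι a = D.e D.h)
    (hfa : ι (f a) = D.b j) : ι.range = D.V j := by
  have hno : ∀ c : H, ∀ k, ι c = D.e k → 2 * k = 0 := by
    intro c k hc
    by_contra hk
    obtain ⟨t, ht⟩ := exists_mul_eq_h D k hk
    have h1 : (c ^ t) ^ 2 = a := by
      apply hι
      rw [map_pow, map_pow, hc, D.e_pow, D.sq_e, ha]; congr 1
      linear_combination ht
    have h2 : (ι (f (c ^ t))) ^ 2 = D.b j := by
      rw [← map_pow, ← map_pow, h1, hfa]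
    exact sq_ne_b D _ _ h2
  ext g
  rw [D.mem_V_iff']
  constructor
  · rintro ⟨c, rfl⟩
    rcases D.cases (ι c) with ⟨k, hk⟩ | ⟨i, hi⟩
    · rcases (D.two_mul_eq_zero_iff k).mp (hno c k hk) with h | h
      · left; rw [hk, h, D.e_zero]
      · right; left; rw [hk, h]
    · have h1 : ι (c * f a) = D.e (i + D.m * j) := by rw [map_mul, hi, hfa, D.b_b]
      rcases (D.two_mul_eq_zero_iff _).mp (hno _ _ h1) with h | h
      · right; right; left
        rw [hi, D.b_inj]; rw [D.m_mul_even hj] at h; linear_combination h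
      · right; right; right
        rw [hi, D.b_inj]; rw [D.m_mul_even hj] at h; linear_combination h
  · rintro (rfl | rfl | rfl | rfl)
    · exact one_mem _
    · exact ⟨a, ha⟩
    · exact ⟨f a, hfa⟩
    · refine ⟨a * f a, ?_⟩
      rw [map_mul, ha, hfa, D.e_b, add_comm]

include hι in
theorem quat_case (f : MulAut H) (a : H) (j : D.Z) (hj : D.par j = 1) (ha : ι a = D.e D.q)
    (hfa : ι (f a) = D.b j) : D.IsQd ι.range j := by
  have hno : ∀ c : H, ∀ k, ι c = D.e k → 4 * k = 0 := by
    intro c k hc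
    by_contra hk
    obtain ⟨t, ht⟩ := exists_mul_eq_q D k hk
    rcases ht with ht | ht
    · have h1 : (c ^ t) ^ 2 = a := by
        apply hι
        rw [map_pow, map_pow, hc, D.e_pow, D.sq_e, ha]; congr 1
        linear_combination ht
      have h2 : (ι (f (c ^ t))) ^ 2 = D.b j := by
        rw [← map_pow, ← map_pow, h1, hfa]
      exact sq_ne_b D _ _ h2
    · have h1 : (c ^ t) ^ 2 = a⁻¹ := by
        apply hι
        rw [map_pow, map_pow, hc, D.e_pow, D.sq_e, map_inv, ha, D.e_inv]; congr 1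
        linear_combination ht
      have h2 : (ι (f (c ^ t))) ^ 2 = (D.b j)⁻¹ := by
        rw [← map_pow, ← map_pow, h1, map_inv, map_inv, hfa]
      rw [D.b_inv] at h2
      exact sq_ne_b D _ _ h2
  have he : ∀ k : D.Z, D.e k ∈ ι.range ↔ 4 * k = 0 := by
    intro k
    constructor
    · rintro ⟨c, hc⟩; exact hno c k hc
    · intro hk
      rcases (D.four_mul_eq_zero_iff k).mp hk with h | h | h | h
      · rw [h, D.e_zero]; exact one_mem _
      · refine ⟨a ^ 2, ?_⟩; rw [map_pow, ha, D.sq_e, h, D.h_eq]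
      · exact ⟨a, by rw [ha, h]⟩
      · refine ⟨a⁻¹, ?_⟩; rw [map_inv, ha, D.e_inv, h]
  refine ⟨hj, he, ?_⟩
  intro k
  constructor
  · rintro ⟨c, hc⟩
    have h1 : ι (c * (f a)⁻¹) = D.e (k - j) := by
      rw [map_mul, map_inv, hc, hfa, D.b_mul_b_inv]
    exact hno _ _ h1
  · intro hk
    obtain ⟨c, hc⟩ := (he (k - j)).mpr hk
    refine ⟨c * f a, ?_⟩
    rw [map_mul, hc, hfa, D.e_b]; congr 1; ring

include hι in
/-- An odd-order automorphism of a subgroup of a quasi-dihedral group is trivial, unless the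
subgroup is a Klein four-group or a quaternion group of order 8. -/
theorem aut_cases (f : MulAut H) (r : ℕ) (hr : Odd r) (hfr : f ^ r = 1) :
    f = 1 ∨ (∃ j, D.par j = 0 ∧ ι.range = D.V j) ∨ (∃ j, D.IsQd ι.range j) := by
  by_cases hinv : ∀ a k, ι a = D.e k → ∃ k', ι (f a) = D.e k'
  · exact Or.inl (aut_trivial D ι hι f r hr hfr hinv)
  · right
    push Not at hinv
    obtain ⟨a, k, hak, hno⟩ := hinv
    obtain ⟨j, hj⟩ : ∃ j, ι (f a) = D.b j := by
      rcases D.cases (ι (f a)) with ⟨k', hk'⟩ | h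
      · exact absurd hk' (hno k')
      · exact h
    have hord : orderOf (D.e k) = orderOf (D.b j) := by
      rw [← hak, ← hj, orderOf_injective ι hι, orderOf_injective ι hι]
      exact (MulEquiv.orderOf_eq f a).symm
    rcases D.par_cases j with hp | hp
    · left
      have h2 : orderOf (D.b j) = 2 := (D.orderOf_b_eq_two_iff j).mpr hp
      rw [← hord, D.orderOf_e_eq_two_iff] at h2
      rw [h2] at hak
      exact ⟨j, hp, klein_case D ι hι f a j hp hak hj⟩
    · right
      have h4 : orderOf (D.b j) = 4 := (D.orderOf_b_eq_four_iff j).mpr hp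
      rw [← hord, D.orderOf_e_eq_four_iff] at h4
      rcases h4 with h4 | h4
      · rw [h4] at hak
        exact ⟨j, quat_case D ι hι f a j hp hak hj⟩
      · have hak' : ι a⁻¹ = D.e D.q := by rw [map_inv, hak, h4, D.e_inv, neg_neg]
        have hj' : ι (f a⁻¹) = D.b (-(D.m * j)) := by rw [map_inv, map_inv, hj, D.b_inv]
        have hp' : D.par (-(D.m * j)) = 1 := by
          rw [map_neg, map_mul, D.par_m, hp, one_mul]
          decide
        exact ⟨_, quat_case D ι hι f a⁻¹ _ hp' hak' hj'⟩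

include D in
theorem isQd_conj (Q₁ Q₂ : Subgroup S) (i₁ i₂ : D.Z) (hi₁ : D.IsQd Q₁ i₁) (hi₂ : D.IsQd Q₂ i₂) :
    ∃ s : S, Q₁.map (MulAut.conj s).toMonoidHom = Q₂ := by
  have hpar : D.par (i₂ - i₁) = 0 := by rw [map_sub, hi₁.odd, hi₂.odd, sub_self]
  obtain ⟨j, hj⟩ := (D.par_eq_zero_iff _).mp hpar
  obtain ⟨c, hc⟩ := D.exists_mul_two_sub_h j
  refine ⟨D.e c, Data.map_conj_eq_of_forall _ ?_ ?_⟩
  · intro g hg
    apply hi₁.conj_e_mem D hi₂ c _ g hg
    rw [hc, ← hj]; ring
  · intro g hg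
    rw [D.e_inv]
    apply hi₂.conj_e_mem D hi₁ (-c) _ g hg
    have : -c * (2 - D.h) = -(2 * j) := by rw [← hc]; ring
    rw [this, ← hj]; ring

end

end Cfsg.Agent.helper6.QDAut
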