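import Mathlib
import Cfsg.Agent.Lib_helper6_QD6
import Cfsg.Agent.Lib_helper6_AutIdx2

set_option autoImplicit false
set_option linter.unusedSectionVars false
set_option linter.unusedVariables false

namespace Cfsg.Agent.helper6.QDFus

open Cfsg.Agent.helper6.QD Cfsg.Agent.helper6.AutIdx

theorem card_classes_eq_one {G : Type*} [Group G] (k : ℕ) (t₀ : G) (h₀ : orderOf t₀ = k)
    (h : ∀ t, orderOf t = k → IsConj t t₀) :
    Nat.card {C : ConjClasses G // ∃ t : G, orderOf t = k ∧ ConjClasses.mk t = C} = 1 := by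
  rw [Nat.card_eq_one_iff_unique]
  refine ⟨⟨?_⟩, ⟨⟨ConjClasses.mk t₀, t₀, h₀, rfl⟩⟩⟩
  rintro ⟨C₁, t₁, h₁, rfl⟩ ⟨C₂, t₂, h₂, rfl⟩
  apply Subtype.ext
  show ConjClasses.mk t₁ = ConjClasses.mk t₂
  rw [ConjClasses.mk_eq_mk_iff_isConj]
  exact (h t₁ h₁).trans (h t₂ h₂).symm

theorem card_classes_eq_two {G : Type*} [Group G] (k : ℕ) (t₀ t₁ : G) (h₀ : orderOf t₀ = k)
    (h₁ : orderOf t₁ = k) (hne : ¬ IsConj t₀ t₁)
    (h : ∀ t, orderOf t = k → IsConj t t₀ ∨ IsConj t t₁) :
    Nat.card {C : ConjClasses G // ∃ t : G, orderOf t = k ∧ ConjClasses.mk t = C} = 2 := by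
  classical
  have e : {C : ConjClasses G // ∃ t : G, orderOf t = k ∧ ConjClasses.mk t = C} ≃ Bool :=
    { toFun := fun C => if C.1 = ConjClasses.mk t₀ then true else false
      invFun := fun b => if b then ⟨ConjClasses.mk t₀, t₀, h₀, rfl⟩
        else ⟨ConjClasses.mk t₁, t₁, h₁, rfl⟩
      left_inv := by
        rintro ⟨C, t, ht, rfl⟩
        rcases h t ht with h' | h'
        · have : ConjClasses.mk t = ConjClasses.mk t₀ := ConjClasses.mk_eq_mk_iff_isConj.mpr h'
          simp [this]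
        · have h2 : ConjClasses.mk t = ConjClasses.mk t₁ := ConjClasses.mk_eq_mk_iff_isConj.mpr h'
          have h3 : ConjClasses.mk t₁ ≠ ConjClasses.mk t₀ := by
            intro h4
            exact hne (ConjClasses.mk_eq_mk_iff_isConj.mp h4).symm
          simp [h2, h3]
      right_inv := by
        intro b
        cases b
        · have h3 : ConjClasses.mk t₁ ≠ ConjClasses.mk t₀ := by
            intro h4
            exact hne (ConjClasses.mk_eq_mk_iff_isConj.mp h4).symm
          simp [h3]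
        · simp }
  rw [Nat.card_congr e, Nat.card_eq_fintype_card, Fintype.card_bool]

variable {G : Type*} [Group G] [Finite G] (S : Sylow 2 G) (D : Data ↥(S : Subgroup G))

theorem isConj_coe {a b : ↥(S : Subgroup G)} (h : IsConj a b) : IsConj (a : G) (b : G) := by
  obtain ⟨c, hc⟩ := isConj_iff.mp h
  exact isConj_iff.mpr ⟨(c : G), by rw [← hc]; simp⟩

theorem isConj_of_conj {a b g : G} (h : g * a * g⁻¹ = b) : IsConj a b := isConj_iff.mpr ⟨g, h⟩

theorem orderOf_conj' (g t : G) : orderOf (g * t * g⁻¹) = orderOf t := by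
  have := MulEquiv.orderOf_eq (MulAut.conj g) t
  rwa [MulAut.conj_apply] at this

theorem orderOf_eq_of_isConj {a b : G} (h : IsConj a b) : orderOf a = orderOf b := by
  obtain ⟨c, hc⟩ := isConj_iff.mp h
  rw [← hc, orderOf_conj']

/-- every involution of `G` is conjugate to the central involution of `S` or to `y`. -/
theorem invol_cases (t : G) (ht : orderOf t = 2) :
    IsConj t (D.e D.h : G) ∨ IsConj t (D.b 0 : G) := by
  obtain ⟨g, hg⟩ := exists_conj_mem_sylow S t 1 (by rw [pow_one, ← ht]; exact pow_orderOf_eq_one t)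
  have hs : orderOf (⟨g * t * g⁻¹, hg⟩ : ↥(S : Subgroup G)) = 2 := by
    rw [← Subgroup.orderOf_coe]; simp only []; rw [orderOf_conj', ht]
  have hc : IsConj t ((⟨g * t * g⁻¹, hg⟩ : ↥(S : Subgroup G)) : G) := isConj_of_conj rfl
  rcases D.cases ⟨g * t * g⁻¹, hg⟩ with ⟨i, hi⟩ | ⟨i, hi⟩
  · left
    rw [hi, D.orderOf_e_eq_two_iff] at hs
    rw [hi, hs] at hc
    exact hc
  · right
    rw [hi, D.orderOf_b_eq_two_iff] at hs
    rw [hi] at hc
    exact hc.trans (isConj_coe S (D.isConj_b_of_par_eq (by rw [hs, map_zero])))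

/-- every element of order 4 of `G` is conjugate to `x^(2^(n-2))` or to `x y`. -/
theorem order4_cases (t : G) (ht : orderOf t = 4) :
    IsConj t (D.e D.q : G) ∨ IsConj t (D.b 1 : G) := by
  obtain ⟨g, hg⟩ := exists_conj_mem_sylow S t 2 (by
    have : (2 : ℕ) ^ 2 = 4 := by norm_num
    rw [this, ← ht]; exact pow_orderOf_eq_one t)
  have hs : orderOf (⟨g * t * g⁻¹, hg⟩ : ↥(S : Subgroup G)) = 4 := by
    rw [← Subgroup.orderOf_coe]; simp only []; rw [orderOf_conj', ht]
  have hc : IsConj t ((⟨g * t * g⁻¹, hg⟩ : ↥(S : Subgroup G)) : G) := isConj_of_conj rfl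
  rcases D.cases ⟨g * t * g⁻¹, hg⟩ with ⟨i, hi⟩ | ⟨i, hi⟩
  · left
    rw [hi, D.orderOf_e_eq_four_iff] at hs
    rw [hi] at hc
    rcases hs with hs | hs
    · rw [hs] at hc; exact hc
    · rw [hs] at hc; exact hc.trans (isConj_coe S D.isConj_e_q.symm)
  · right
    rw [hi, D.orderOf_b_eq_four_iff] at hs
    rw [hi] at hc
    exact hc.trans (isConj_coe S (D.isConj_b_of_par_eq (by rw [hs, map_one])))

theorem isKleinFour_subgroupOf {T : Subgroup G} (hT : IsKleinFour T) (hTS : T ≤ S) :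
    IsKleinFour (T.subgroupOf (S : Subgroup G)) := by
  have e' : T.subgroupOf (S : Subgroup G) ≃* T := Subgroup.subgroupOfEquivOfLe hTS
  exact ⟨by rw [Nat.card_congr e'.toEquiv]; exact hT.card_four,
     by rw [Monoid.exponent_eq_of_mulEquiv e']; exact hT.exponent_two⟩

/-- if `|N_G(T):C_G(T)| = 6` then all involutions of `G` are conjugate to the central one of `S`. -/
theorem invol_conj_of_six (T : Subgroup G) (hT : IsKleinFour T) (hTS : T ≤ S)
    (h₁ : (Subgroup.centralizer (T : Set G)).relIndex (Subgroup.normalizer (T : Set G)) = 6)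
    (t : G) (ht : orderOf t = 2) : IsConj t (D.e D.h : G) := by
  obtain ⟨i, hi, hTi⟩ := D.klein_eq_V _ (isKleinFour_subgroupOf S hT hTS)
  have hz : (D.e D.h : G) ∈ T := by
    have := D.e_h_mem_V i
    rw [← hTi, Subgroup.mem_subgroupOf] at this
    exact this
  have hb : (D.b i : G) ∈ T := by
    have := D.b_mem_V i
    rw [← hTi, Subgroup.mem_subgroupOf] at this
    exact this
  have hz1 : (D.e D.h : G) ≠ 1 := by
    intro h
    have : D.e D.h = 1 := Subtype.ext h
    rw [D.e_eq_one_iff] at this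
    exact D.h_ne this
  have hb1 : (D.b i : G) ≠ 1 := by
    intro h
    exact D.b_ne_one i (Subtype.ext h)
  obtain ⟨g, -, hg⟩ := klein_fusion T hT h₁ _ _ hb hz hb1 hz1
  rcases invol_cases S D t ht with h | h
  · exact h
  · refine h.trans ((isConj_coe S (D.isConj_b_of_par_eq (i := 0) (j := i) ?_)).trans
      (isConj_of_conj hg))
    rw [hi, map_zero]

/-- if `|N_G(Q):Q C_G(Q)| = 6` then all elements of order 4 of `G` are conjugate. -/
theorem order4_conj_of_six (Q : Subgroup G) (hQS : Q ≤ S) (eQ : Q ≃* QuaternionGroup 2)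
    (h₂ : (Q ⊔ Subgroup.centralizer (Q : Set G)).relIndex (Subgroup.normalizer (Q : Set G)) = 6)
    (t : G) (ht : orderOf t = 4) : IsConj t (D.e D.q : G) := by
  have e' : Q.subgroupOf (S : Subgroup G) ≃* Q := Subgroup.subgroupOfEquivOfLe hQS
  obtain ⟨i, hi⟩ := D.exists_isQd _ (q8Facts_of_equiv _ (e'.trans eQ))
  have hq : (D.e D.q : G) ∈ Q := by
    have := (hi.e_mem D.q).mpr D.four_q
    rwa [Subgroup.mem_subgroupOf] at this
  have hb : (D.b i : G) ∈ Q := by
    have := (hi.b_mem i).mpr (by rw [sub_self, mul_zero])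
    rwa [Subgroup.mem_subgroupOf] at this
  have hq2 : (D.e D.q : G) ^ 2 ≠ 1 := by
    intro h
    have h1 : D.e D.q ^ 2 = 1 := Subtype.ext (by rw [Subgroup.coe_pow]; exact h)
    rw [D.sq_e, D.e_eq_one_iff] at h1
    exact D.two_q_ne h1
  have hb2 : (D.b i : G) ^ 2 ≠ 1 := by
    intro h
    have h1 : D.b i ^ 2 = 1 := Subtype.ext (by rw [Subgroup.coe_pow]; exact h)
    rw [D.sq_b, D.e_eq_one_iff, D.h_mul_eq_zero_iff, hi.odd] at h1
    exact one_ne_zero h1
  obtain ⟨g, -, hg⟩ := q8_fusion Q eQ h₂ _ _ hb hq hb2 hq2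
  rcases order4_cases S D t ht with h | h
  · exact h
  · refine h.trans ((isConj_coe S (D.isConj_b_of_par_eq (i := 1) (j := i) ?_)).trans
      (isConj_of_conj hg))
    rw [hi.odd, map_one]

theorem orderOf_z : orderOf (D.e D.h : G) = 2 := by
  rw [Subgroup.orderOf_coe, D.orderOf_e_eq_two_iff]

theorem orderOf_eq : orderOf (D.e D.q : G) = 4 := by
  rw [Subgroup.orderOf_coe, D.orderOf_e_eq_four_iff]; exact Or.inl rfl

theorem orderOf_y : orderOf (D.b 0 : G) = 2 := by
  rw [Subgroup.orderOf_coe, D.orderOf_b_eq_two_iff, map_zero]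

theorem orderOf_xy : orderOf (D.b 1 : G) = 4 := by
  rw [Subgroup.orderOf_coe, D.orderOf_b_eq_four_iff, map_one]

/-- a subgroup of index 2 containing `x` and `y` is impossible. -/
theorem not_index_two_of_mem (H : Subgroup G) (hH : H.index = 2) (hx : (D.e 1 : G) ∈ H)
    (hy : (D.b 0 : G) ∈ H) : False := by
  have hSH : (S : Subgroup G) ≤ H := by
    intro s hs
    have hpow : ∀ i : D.Z, (D.e i : G) ∈ H := by
      intro i
      have : D.e i = D.e 1 ^ i.val := by
        rw [D.e_pow]; congr 1; rw [one_mul, ZMod.natCast_zmod_val]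
      rw [this, Subgroup.coe_pow]
      exact H.pow_mem hx _
    rcases D.cases ⟨s, hs⟩ with ⟨i, hi⟩ | ⟨i, hi⟩
    · have := hpow i
      rw [← hi] at this
      exact this
    · have h1 : D.b i = D.e i * D.b 0 := by rw [D.e_b, add_zero]
      have h2 : s = (D.e i : G) * (D.b 0 : G) := by
        have := congrArg Subtype.val (hi.trans h1)
        simpa using this
      rw [h2]
      exact H.mul_mem (hpow i) hy
  have h1 : H.index ∣ (S : Subgroup G).index := Subgroup.index_dvd_of_le hSH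
  rw [hH] at h1
  have : Fact (Nat.Prime 2) := ⟨Nat.prime_two⟩
  exact S.not_dvd_index h1

end Cfsg.Agent.helper6.QDFus
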