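import Mathlib
import Cfsg.Agent.Lib_helper6_QDFus
import Cfsg.Agent.Lib_helper6_QDAut
import Cfsg.Agent.Lib_helper10_Sylow
import Cfsg.Agent.S0071

set_option autoImplicit false
set_option linter.unusedSectionVars false
set_option linter.unusedVariables false

namespace Cfsg.Agent.helper6.QDFus

open Cfsg.Agent.helper6.QD Cfsg.Agent.helper6.AutIdx Cfsg.Agent.helper6.QDAut

/-- A normal subgroup whose index is coprime to `r` contains every `s` with `s ^ r = 1`. -/
theorem mem_of_coprime_index {N : Type*} [Group N] [Finite N] (K : Subgroup N) [K.Normal]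
    (s : N) (r : ℕ) (hs : s ^ r = 1) (hcop : Nat.Coprime r K.index) : s ∈ K := by
  rw [← QuotientGroup.eq_one_iff]
  have h1 : ((s : N ⧸ K)) ^ r = 1 := by
    rw [← QuotientGroup.mk_pow, hs]; rfl
  have h2 : ((s : N ⧸ K)) ^ K.index = 1 := by
    rw [Subgroup.index_eq_card]; exact pow_card_eq_one'
  have h3 : orderOf (s : N ⧸ K) ∣ Nat.gcd r K.index :=
    Nat.dvd_gcd (orderOf_dvd_of_pow_eq_one h1) (orderOf_dvd_of_pow_eq_one h2)
  rw [hcop, Nat.dvd_one, orderOf_eq_one_iff] at h3
  exact h3

/-- If `|N_G(H) : C_G(H)|` is a power of 2, odd-order elements of `N_G(H)` centralize `H`. -/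
theorem odd_centralizes {G : Type*} [Group G] [Finite G] (H : Subgroup G) (k : ℕ)
    (hk : (Subgroup.centralizer (H : Set G)).relIndex (Subgroup.normalizer (H : Set G)) = 2 ^ k)
    (g : G) (hg : g ∈ Subgroup.normalizer (H : Set G)) (hodd : Odd (orderOf g)) :
    g ∈ Subgroup.centralizer (H : Set G) := by
  have hker := Subgroup.normalizerMonoidHom_ker (H := H)
  have hnorm : ((Subgroup.centralizer (H : Set G)).subgroupOf
      (Subgroup.normalizer (H : Set G))).Normal := by
    rw [← hker]; infer_instance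
  have := mem_of_coprime_index ((Subgroup.centralizer (H : Set G)).subgroupOf
      (Subgroup.normalizer (H : Set G))) ⟨g, hg⟩ (orderOf g) (by
        apply Subtype.ext; rw [Subgroup.coe_pow]; exact pow_orderOf_eq_one g) (by
        have : ((Subgroup.centralizer (H : Set G)).subgroupOf
          (Subgroup.normalizer (H : Set G))).index = 2 ^ k := hk
        rw [this]
        exact Nat.Coprime.pow_right _ (Nat.coprime_two_right.mpr hodd))
  rwa [Subgroup.mem_subgroupOf] at this

/-- transport of the centralizing property along conjugation. -/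
theorem odd_centralizes_conj {G : Type*} [Group G] (T : Subgroup G) (s : G)
    (hT : ∀ g ∈ Subgroup.normalizer (T : Set G), Odd (orderOf g) →
      g ∈ Subgroup.centralizer (T : Set G)) :
    ∀ g ∈ Subgroup.normalizer ((T.map (MulAut.conj s).toMonoidHom : Subgroup G) : Set G),
      Odd (orderOf g) →
      g ∈ Subgroup.centralizer ((T.map (MulAut.conj s).toMonoidHom : Subgroup G) : Set G) := by
  intro g hg hodd
  rw [Cfsg.Agent.helper10.normalizer_map_conj, Cfsg.Agent.helper10.mem_map_conj_iff] at hg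
  have ho : orderOf (s⁻¹ * g * s) = orderOf g := by
    have := MulEquiv.orderOf_eq (MulAut.conj s⁻¹) g
    rwa [MulAut.conj_apply, inv_inv] at this
  have hc := hT _ hg (by rw [ho]; exact hodd)
  rw [Subgroup.mem_centralizer_iff] at hc ⊢
  intro x hx
  rw [SetLike.mem_coe, Cfsg.Agent.helper10.mem_map_conj_iff] at hx
  have h1 := hc _ hx
  have h2 : s⁻¹ * (x * g) * s = s⁻¹ * (g * x) * s := by
    calc s⁻¹ * (x * g) * s = (s⁻¹ * x * s) * (s⁻¹ * g * s) := by group
      _ = (s⁻¹ * g * s) * (s⁻¹ * x * s) := h1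
      _ = s⁻¹ * (g * x) * s := by group
  exact mul_left_cancel (mul_right_cancel h2)

/-- lifting a conjugacy of `subgroupOf`s to the ambient group. -/
theorem eq_map_conj_of_subgroupOf {G : Type*} [Group G] (S H T : Subgroup G) (hHS : H ≤ S)
    (hTS : T ≤ S) (s : ↥S)
    (h : (T.subgroupOf S).map (MulAut.conj s).toMonoidHom = H.subgroupOf S) :
    H = T.map (MulAut.conj (s : G)).toMonoidHom := by
  ext x
  rw [Cfsg.Agent.helper10.mem_map_conj_iff]
  constructor
  · intro hx
    have h1 : (⟨x, hHS hx⟩ : ↥S) ∈ H.subgroupOf S := by rw [Subgroup.mem_subgroupOf]; exact hx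
    rw [← h, Cfsg.Agent.helper10.mem_map_conj_iff, Subgroup.mem_subgroupOf] at h1
    simpa using h1
  · intro hx
    have hxS : x ∈ S := by
      have h1 : (s : G) * ((s : G)⁻¹ * x * s) * (s : G)⁻¹ ∈ S :=
        S.mul_mem (S.mul_mem s.2 (hTS hx)) (S.inv_mem s.2)
      have h2 : (s : G) * ((s : G)⁻¹ * x * s) * (s : G)⁻¹ = x := by group
      rwa [h2] at h1
    have h1 : (⟨x, hxS⟩ : ↥S) ∈ (T.subgroupOf S).map (MulAut.conj s).toMonoidHom := by
      rw [Cfsg.Agent.helper10.mem_map_conj_iff, Subgroup.mem_subgroupOf]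
      simpa using hx
    rw [h, Subgroup.mem_subgroupOf] at h1
    exact h1

/-- `|N_G(Q) : C_G(Q)| = 4 |N_G(Q) : Q C_G(Q)|` for `Q ≅ Q₈`. -/
theorem relIndex_centralizer_q8 {G : Type*} [Group G] [Finite G] (Q : Subgroup G)
    (eQ : Q ≃* QuaternionGroup 2) :
    (Subgroup.centralizer (Q : Set G)).relIndex (Subgroup.normalizer (Q : Set G)) =
      4 * (Q ⊔ Subgroup.centralizer (Q : Set G)).relIndex (Subgroup.normalizer (Q : Set G)) := by
  have hker := Subgroup.normalizerMonoidHom_ker (H := Q)
  have hQN : Q ≤ Subgroup.normalizer (Q : Set G) := Subgroup.le_normalizer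
  have hCN : Subgroup.centralizer (Q : Set G) ≤ Subgroup.normalizer (Q : Set G) :=
    Subgroup.centralizer_le_normalizer _
  have hsup := Subgroup.subgroupOf_sup hQN hCN
  have hK : (Q ⊔ Subgroup.centralizer (Q : Set G)).subgroupOf (Subgroup.normalizer (Q : Set G))
      = Subgroup.comap Q.normalizerMonoidHom (Subgroup.map Q.normalizerMonoidHom
          (Q.subgroupOf (Subgroup.normalizer (Q : Set G)))) := by
    rw [Subgroup.comap_map_eq, hker, hsup]
  have h0 : (Subgroup.centralizer (Q : Set G)).relIndex (Subgroup.normalizer (Q : Set G))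
      = Nat.card Q.normalizerMonoidHom.range := by
    rw [← Subgroup.index_ker, hker]; rfl
  rw [h0]
  unfold Subgroup.relIndex
  rw [hK, Subgroup.index_comap]
  have h1 : (Q.subgroupOf (Subgroup.normalizer (Q : Set G))).map Q.normalizerMonoidHom
      ≤ Q.normalizerMonoidHom.range := Subgroup.map_le_range _ _
  have h2 := Subgroup.relIndex_mul_index h1
  have h3 := Subgroup.card_mul_index
    ((Q.subgroupOf (Subgroup.normalizer (Q : Set G))).map Q.normalizerMonoidHom)
  rw [Cfsg.Agent.S1203.card_map_q8 Q eQ] at h3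
  have h4 := Subgroup.card_mul_index Q.normalizerMonoidHom.range
  have hpos : 0 < Nat.card (MulAut Q) := Nat.card_pos
  have hrpos : 0 < Q.normalizerMonoidHom.range.index := by
    rcases Nat.eq_zero_or_pos Q.normalizerMonoidHom.range.index with h0 | h0
    · rw [h0, mul_zero] at h4; omega
    · exact h0
  have h5 : Nat.card Q.normalizerMonoidHom.range * Q.normalizerMonoidHom.range.index
      = 4 * ((Q.subgroupOf (Subgroup.normalizer (Q : Set G))).map
        Q.normalizerMonoidHom).relIndex Q.normalizerMonoidHom.range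
        * Q.normalizerMonoidHom.range.index := by
    rw [h4, ← h3, ← h2]; ring
  exact Nat.eq_of_mul_eq_mul_right hrpos h5

variable {G : Type*} [Group G] [Finite G] (S : Sylow 2 G) (D : Data ↥(S : Subgroup G))

include D in
/-- the local analysis for quasi-dihedral Sylow 2-subgroups: an odd-order element normalizing a
subgroup `H ≤ S` centralizes it, provided this holds for one Klein four-group and one `Q₈`. -/
theorem odd_centralizes_of_local (T : Subgroup G) (hT : IsKleinFour T) (hTS : T ≤ S)
    (Q : Subgroup G) (hQS : Q ≤ S) (eQ : Q ≃* QuaternionGroup 2)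
    (hT' : ∀ g ∈ Subgroup.normalizer (T : Set G), Odd (orderOf g) →
      g ∈ Subgroup.centralizer (T : Set G))
    (hQ' : ∀ g ∈ Subgroup.normalizer (Q : Set G), Odd (orderOf g) →
      g ∈ Subgroup.centralizer (Q : Set G))
    (H : Subgroup G) (hHS : H ≤ S) (g : G) (hg : g ∈ Subgroup.normalizer (H : Set G))
    (hodd : Odd (orderOf g)) : g ∈ Subgroup.centralizer (H : Set G) := by
  have hι : Function.Injective (Subgroup.inclusion hHS) := Subgroup.inclusion_injective hHS
  have hfr : (H.normalizerMonoidHom ⟨g, hg⟩) ^ (orderOf g) = 1 := by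
    rw [← map_pow]
    have : (⟨g, hg⟩ : Subgroup.normalizer (H : Set G)) ^ orderOf g = 1 := by
      apply Subtype.ext; rw [Subgroup.coe_pow]; exact pow_orderOf_eq_one g
    rw [this, map_one]
  have hrange : (Subgroup.inclusion hHS).range = H.subgroupOf S := Subgroup.inclusion_range hHS
  rcases aut_cases D (Subgroup.inclusion hHS) hι _ (orderOf g) hodd hfr with h | ⟨j, hj, h⟩ | ⟨j, h⟩
  · have hker := Subgroup.normalizerMonoidHom_ker (H := H)
    have h1 : (⟨g, hg⟩ : Subgroup.normalizer (H : Set G)) ∈ H.normalizerMonoidHom.ker := h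
    rw [hker, Subgroup.mem_subgroupOf] at h1
    exact h1
  · obtain ⟨i, hi, hTi⟩ := D.klein_eq_V _ (isKleinFour_subgroupOf S hT hTS)
    obtain ⟨s, hs⟩ := isConj_iff.mp (D.isConj_b_of_par_eq (i := i) (j := j) (by rw [hi, hj]))
    have h1 := D.map_conj_V s i j hs
    rw [← hTi, ← h, hrange] at h1
    have h2 := eq_map_conj_of_subgroupOf (S : Subgroup G) H T hHS hTS s h1
    rw [h2] at hg ⊢
    exact odd_centralizes_conj T (s : G) hT' g hg hodd
  · have e' : Q.subgroupOf (S : Subgroup G) ≃* Q := Subgroup.subgroupOfEquivOfLe hQS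
    obtain ⟨i, hi⟩ := D.exists_isQd _ (q8Facts_of_equiv _ (e'.trans eQ))
    obtain ⟨s, hs⟩ := isQd_conj D _ _ i j hi h
    rw [hrange] at hs
    have h2 := eq_map_conj_of_subgroupOf (S : Subgroup G) H Q hHS hQS s hs
    rw [h2] at hg ⊢
    exact odd_centralizes_conj Q (s : G) hQ' g hg hodd

end Cfsg.Agent.helper6.QDFus
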