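import Mathlib
import Cfsg.Agent.Lib_helper9_Gold
import Cfsg.Agent.Lib_helper10_Control
import Cfsg.Agent.Lib_helper6_FusInv
import Cfsg.Agent.S0071
import Cfsg.Agent.Lib_helper6_QDFus2

set_option autoImplicit false
set_option linter.unusedSectionVars false
set_option linter.unusedVariables false

namespace Cfsg.Agent.helper6.GoldFus

open Cfsg Cfsg.Agent.helper9 Cfsg.Agent.helper10 Cfsg.Agent.lead Cfsg.Agent.helper6.FusInv

/-- elements of the join of two elementwise commuting subgroups are products. -/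
theorem mem_sup_of_comm {G : Type*} [Group G] (A B : Subgroup G)
    (hcomm : ∀ a ∈ A, ∀ b ∈ B, a * b = b * a) (x : G) (hx : x ∈ A ⊔ B) :
    ∃ a ∈ A, ∃ b ∈ B, x = a * b := by
  let T : Subgroup G :=
    { carrier := {x | ∃ a ∈ A, ∃ b ∈ B, x = a * b}
      one_mem' := ⟨1, A.one_mem, 1, B.one_mem, (mul_one 1).symm⟩
      mul_mem' := by
        rintro x y ⟨a, ha, b, hb, rfl⟩ ⟨a', ha', b', hb', rfl⟩
        refine ⟨a * a', A.mul_mem ha ha', b * b', B.mul_mem hb hb', ?_⟩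
        calc a * b * (a' * b') = a * (b * a') * b' := by group
          _ = a * (a' * b) * b' := by rw [hcomm a' ha' b hb]
          _ = a * a' * (b * b') := by group
      inv_mem' := by
        rintro x ⟨a, ha, b, hb, rfl⟩
        refine ⟨a⁻¹, A.inv_mem ha, b⁻¹, B.inv_mem hb, ?_⟩
        calc (a * b)⁻¹ = b⁻¹ * a⁻¹ := mul_inv_rev a b
          _ = a⁻¹ * b⁻¹ := (hcomm a⁻¹ (A.inv_mem ha) b⁻¹ (B.inv_mem hb)).symm }
  have h : A ⊔ B ≤ T := sup_le (fun a ha => ⟨a, ha, 1, B.one_mem, (mul_one a).symm⟩)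
    (fun b hb => ⟨1, A.one_mem, b, hb, (one_mul b).symm⟩)
  exact h hx

/-- If `g` acts on `Q` as a `p`-element `y` does and `g` is a `p'`-element, `g` centralizes `Q`. -/
theorem mem_centralizer_of_act_eq {G : Type*} [Group G] {p : ℕ} (Q : Subgroup G) (g y : G)
    (hQ : ∀ t ∈ Q, g⁻¹ * t * g ∈ Q)
    (hact : ∀ t ∈ Q, g⁻¹ * t * g = y⁻¹ * t * y) (j : ℕ) (hy : y ^ (p ^ j) = 1)
    (hcop : Nat.Coprime (orderOf g) p) : g ∈ Subgroup.centralizer (Q : Set G) := by
  have hpow : ∀ k : ℕ, ∀ t ∈ Q, (g ^ k)⁻¹ * t * g ^ k = (y ^ k)⁻¹ * t * y ^ k ∧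
      (g ^ k)⁻¹ * t * g ^ k ∈ Q := by
    intro k
    induction k with
    | zero => intro t ht; simp [ht]
    | succ k ih =>
      intro t ht
      obtain ⟨h1, h2⟩ := ih t ht
      have e1 : (g ^ (k + 1))⁻¹ * t * g ^ (k + 1) = g⁻¹ * ((g ^ k)⁻¹ * t * g ^ k) * g := by
        rw [pow_succ]; group
      have e2 : (y ^ (k + 1))⁻¹ * t * y ^ (k + 1) = y⁻¹ * ((y ^ k)⁻¹ * t * y ^ k) * y := by
        rw [pow_succ]; group
      rw [e1, e2]
      refine ⟨?_, hQ _ h2⟩
      rw [hact _ h2, h1]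
  have hcen : g ^ (p ^ j) ∈ Subgroup.centralizer (Q : Set G) := by
    rw [Subgroup.mem_centralizer_iff]
    intro t ht
    have h4 := (hpow (p ^ j) t ht).1
    rw [hy, inv_one, one_mul, mul_one] at h4
    calc t * g ^ p ^ j = g ^ p ^ j * ((g ^ p ^ j)⁻¹ * t * g ^ p ^ j) := by group
      _ = g ^ p ^ j * t := by rw [h4]
  obtain ⟨m, hm⟩ := exists_pow_eq_self_of_coprime (x := g) (Nat.Coprime.pow_left j hcop.symm)
  rw [← hm]
  exact Subgroup.pow_mem _ hcen m

/-- members of the Goldschmidt family are centric in `P`. -/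
theorem gold_centric {G : Type*} [Group G] [Finite G] {p : ℕ} [hp : Fact p.Prime] (P : Sylow p G)
    (D : Subgroup G) (hD : D ∈ GoldFam p (P : Subgroup G)) (s : G) (hs : s ∈ (P : Subgroup G))
    (hsD : ∀ d ∈ D, s * d = d * s) : s ∈ D := by
  obtain ⟨hDP, hC, ⟨hK, hDL, hcomm, hinf, hsup⟩, -⟩ := hD
  have hsC : s ∈ Subgroup.centralizer (D : Set G) := by
    rw [Subgroup.mem_centralizer_iff]
    intro d hd
    exact (hsD d hd).symm
  have hsL := hC hsC
  rw [← hsup] at hsL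
  obtain ⟨k, hk, d, hd, hskd⟩ := mem_sup_of_comm _ _ hcomm s hsL
  have hk' : k = s * d⁻¹ := by rw [hskd]; group
  have hkP : k ∈ (P : Subgroup G) := by
    rw [hk']; exact Subgroup.mul_mem _ hs (Subgroup.inv_mem _ (hDP hd))
  obtain ⟨j, hj⟩ := P.isPGroup' ⟨k, hkP⟩
  have hkj : k ^ (p ^ j) = 1 := by
    have := congrArg Subtype.val hj
    simpa using this
  obtain ⟨k', hk'K, hk'k⟩ := hk
  have h1 : (⟨k', hk'K⟩ : ↥(pPrimeCore p ↥(Subgroup.normalizer (D : Set G)))) ^
      Nat.card ↥(pPrimeCore p ↥(Subgroup.normalizer (D : Set G))) = 1 := pow_card_eq_one'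
  have h2 : k ^ Nat.card ↥(pPrimeCore p ↥(Subgroup.normalizer (D : Set G))) = 1 := by
    rw [← hk'k]
    have h5 : (k' : ↥(Subgroup.normalizer (D : Set G))) ^
        Nat.card ↥(pPrimeCore p ↥(Subgroup.normalizer (D : Set G))) = 1 := by
      have h6 := congrArg Subtype.val h1
      rwa [Subgroup.coe_pow, Subgroup.coe_one] at h6
    have h7 := congrArg Subtype.val h5
    rwa [Subgroup.coe_pow, Subgroup.coe_one] at h7
  have h3 : k ^ Nat.gcd (Nat.card ↥(pPrimeCore p ↥(Subgroup.normalizer (D : Set G)))) (p ^ j) = 1 :=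
    pow_gcd_eq_one.mpr ⟨h2, hkj⟩
  have h4 : Nat.gcd (Nat.card ↥(pPrimeCore p ↥(Subgroup.normalizer (D : Set G)))) (p ^ j) = 1 :=
    Nat.Coprime.pow_right _ (Cfsg.Agent.helper1.pPrimeCore_coprime p)
  rw [h4, pow_one] at h3
  rw [hskd, h3, one_mul]
  exact hd

/-- a property preserved by the normalizers of the members of the Goldschmidt family is preserved
by all fusion in `S`. -/
theorem gold_chain_invariant {G : Type*} [Group G] [Finite G] {p : ℕ} [hp : Fact p.Prime]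
    (S : Sylow p G) (P : G → Prop)
    (key : ∀ T ∈ GoldFam p (S : Subgroup G), ∀ x ∈ Subgroup.normalizer (T : Set G), ∀ t ∈ T,
      (P (x⁻¹ * t * x) ↔ P t))
    (a : G) (ha : a ∈ (S : Subgroup G)) (g : G) (hg : g⁻¹ * a * g ∈ (S : Subgroup G)) :
    P (g⁻¹ * a * g) ↔ P a := by
  have h1 : Subgroup.zpowers a ≤ (S : Subgroup G) := by
    rw [Subgroup.zpowers_le]; exact ha
  have h2 : rconj ((Subgroup.zpowers a : Subgroup G) : Set G) g ⊆ (S : Subgroup G) := by
    rw [rconj_coe, SetLike.coe_subset_coe, MonoidHom.map_zpowers, Subgroup.zpowers_le]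
    simpa [MulAut.conj_apply] using hg
  obtain ⟨c, hc, g', hgg', l, hl1, hl2, hl3⟩ := gold_main S _ (Subgroup.zpowers a) rfl h1 g h2
  have h3 := chain_invariant P key l _ hl2 hl3 a (Subgroup.mem_zpowers a)
  rw [hl1] at h3
  have hca : c⁻¹ * a * c = a := by
    rw [Subgroup.mem_centralizer_iff] at hc
    have h4 := hc a (Subgroup.mem_zpowers a)
    rw [mul_assoc, h4, ← mul_assoc, inv_mul_cancel, one_mul]
  have e : g⁻¹ * a * g = g'⁻¹ * a * g' := by
    rw [hgg']
    calc (c * g')⁻¹ * a * (c * g') = g'⁻¹ * (c⁻¹ * a * c) * g' := by group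
      _ = g'⁻¹ * a * g' := by rw [hca]
  rw [e]
  exact h3

/-- Fusion invariance, tested on the Goldschmidt family only. -/
theorem gold_fusion_invariant {G : Type*} [Group G] [Finite G] (S : Sylow 2 G) (M : Subgroup G)
    (hMn : ∀ s ∈ (S : Subgroup G), ∀ m ∈ (S : Subgroup G), (s * m * s⁻¹ ∈ M ↔ m ∈ M))
    (hloc : ∀ H ∈ GoldFam 2 (S : Subgroup G),
      (∀ g ∈ Subgroup.normalizer (H : Set G), Odd (orderOf g) →
        g ∈ Subgroup.centralizer (H : Set G)) ∨ H ≤ M)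
    (a : G) (ha : a ∈ (S : Subgroup G)) (g : G) (hg : g⁻¹ * a * g ∈ (S : Subgroup G)) :
    g⁻¹ * a * g ∈ M ↔ a ∈ M := by
  have : Fact (Nat.Prime 2) := ⟨Nat.prime_two⟩
  apply gold_chain_invariant S (fun b => b ∈ M) ?_ a ha g hg
  intro T hT x hx t ht
  rcases hloc T hT with h | h
  · obtain ⟨y, hy, hyT⟩ := local_control S T hT.1 hT.2.2.2
      (fun g hg hcop => h g hg (Nat.coprime_two_right.mp hcop)) x⁻¹ (Subgroup.inv_mem _ hx)
    have h3 := hyT t ht
    rw [inv_inv] at h3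
    show x⁻¹ * t * x ∈ M ↔ t ∈ M
    rw [← h3]
    exact hMn y hy t (hT.1 ht)
  · have h3 : x⁻¹ * t * x ∈ T := by
      have := (Subgroup.mem_normalizer_iff.mp (Subgroup.inv_mem _ hx) t).mp ht
      rwa [inv_inv] at this
    exact ⟨fun _ => h ht, fun _ => h h3⟩

/-- Frobenius' condition, tested on the Goldschmidt family only. -/
theorem gold_frobCond {G : Type*} [Group G] [Finite G] {p : ℕ} [hp : Fact p.Prime] (P : Sylow p G)
    (hloc : ∀ D ∈ GoldFam p (P : Subgroup G), ∀ g ∈ Subgroup.normalizer (D : Set G),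
      Nat.Coprime (orderOf g) p → g ∈ Subgroup.centralizer (D : Set G)) : FrobCond p G := by
  apply Cfsg.Agent.S0071.frobCond_of_sylow P
  intro Q hQ g hg hcop
  have h2 : rconj (Q : Set G) g ⊆ (P : Subgroup G) := by
    rw [rconj_eq_self_of_mem_normalizer Q g hg]; exact hQ
  obtain ⟨c, hc, g', hgg', l, hl1, hl2, hl3⟩ := gold_main P _ Q rfl hQ g h2
  obtain ⟨y, hy, hyB⟩ := chain_control (𝓕 := GoldFam p (P : Subgroup G)) (N := (P : Subgroup G))
    (fun T hT z hz => local_control P T hT.1 hT.2.2.2 (hloc T hT) z hz) l _ hl2 hl3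
  have hact : ∀ t ∈ Q, g⁻¹ * t * g = y⁻¹ * t * y := by
    intro t ht
    have h3 := hyB t ht
    rw [hl1] at h3
    rw [h3, hgg']
    have hct : c⁻¹ * t * c = t := by
      rw [Subgroup.mem_centralizer_iff] at hc
      have h4 := hc t ht
      rw [mul_assoc, h4, ← mul_assoc, inv_mul_cancel, one_mul]
    calc (c * g')⁻¹ * t * (c * g') = g'⁻¹ * (c⁻¹ * t * c) * g' := by group
      _ = g'⁻¹ * t * g' := by rw [hct]
  have hQn : ∀ t ∈ Q, g⁻¹ * t * g ∈ Q := by
    intro t ht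
    have := (Subgroup.mem_normalizer_iff.mp (Subgroup.inv_mem _ hg) t).mp ht
    rwa [inv_inv] at this
  obtain ⟨j, hj⟩ := P.isPGroup' ⟨y, hy⟩
  have hyj : y ^ (p ^ j) = 1 := by
    have := congrArg Subtype.val hj
    simpa using this
  exact mem_centralizer_of_act_eq Q g y hQn hact j hyj hcop

/-- If `|N_G(H) : H C_G(H)| = 2` for a 2-group `H`, odd-order elements of `N_G(H)` centralize `H`. -/
theorem odd_centralizes_of_sup_two {G : Type*} [Group G] [Finite G] (H : Subgroup G)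
    (hH : ∀ h ∈ H, ∃ j : ℕ, h ^ (2 ^ j) = 1)
    (h2 : (H ⊔ Subgroup.centralizer (H : Set G)).relIndex (Subgroup.normalizer (H : Set G)) = 2)
    (g : G) (hg : g ∈ Subgroup.normalizer (H : Set G)) (hodd : Odd (orderOf g)) :
    g ∈ Subgroup.centralizer (H : Set G) := by
  have hn : ((H ⊔ Subgroup.centralizer (H : Set G)).subgroupOf
      (Subgroup.normalizer (H : Set G))).Normal := Subgroup.normal_of_index_eq_two h2
  have hmem := Cfsg.Agent.helper6.QDFus.mem_of_coprime_index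
    ((H ⊔ Subgroup.centralizer (H : Set G)).subgroupOf (Subgroup.normalizer (H : Set G)))
    ⟨g, hg⟩ (orderOf g) (by
      apply Subtype.ext; rw [Subgroup.coe_pow]; exact pow_orderOf_eq_one g) (by
      have : ((H ⊔ Subgroup.centralizer (H : Set G)).subgroupOf
        (Subgroup.normalizer (H : Set G))).index = 2 := h2
      rw [this]
      exact Nat.coprime_two_right.mpr hodd)
  rw [Subgroup.mem_subgroupOf] at hmem
  obtain ⟨v, hv, c, hc, hgvc⟩ := mem_sup_of_comm H (Subgroup.centralizer (H : Set G))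
    (fun a ha b hb => by
      rw [Subgroup.mem_centralizer_iff] at hb
      exact hb a ha) g hmem
  obtain ⟨j, hj⟩ := hH v hv
  have hQn : ∀ t ∈ H, g⁻¹ * t * g ∈ H := by
    intro t ht
    have := (Subgroup.mem_normalizer_iff.mp (Subgroup.inv_mem _ hg) t).mp ht
    rwa [inv_inv] at this
  apply mem_centralizer_of_act_eq (p := 2) H g v hQn ?_ j hj (Nat.coprime_two_right.mpr hodd)
  intro t ht
  have hvt : v⁻¹ * t * v ∈ H := H.mul_mem (H.mul_mem (H.inv_mem hv) ht) hv
  rw [Subgroup.mem_centralizer_iff] at hc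
  have h4 := hc _ hvt
  rw [hgvc]
  calc (v * c)⁻¹ * t * (v * c) = c⁻¹ * ((v⁻¹ * t * v) * c) := by group
    _ = c⁻¹ * (c * (v⁻¹ * t * v)) := by rw [h4]
    _ = v⁻¹ * t * v := by group

end Cfsg.Agent.helper6.GoldFus
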