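import Mathlib
import Cfsg.Agent.Lib_helper6_QDFus2
import Cfsg.Agent.Lib_helper6_FusInv3

set_option autoImplicit false
set_option linter.unusedSectionVars false
set_option linter.unusedVariables false

namespace Cfsg.Agent.helper6.QDFus

open Cfsg.Agent.helper6.QD Cfsg.Agent.helper6.AutIdx Cfsg.Agent.helper6.QDAut
open Cfsg.Agent.helper6.FusInv

variable {G : Type*} [Group G] [Finite G] (S : Sylow 2 G) (D : Data ↥(S : Subgroup G))

/-- the maximal subgroup `M ε` of `S`, as a subgroup of `G`. -/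
def Mg (ε : ZMod 2) : Subgroup G := (D.M ε).map (S : Subgroup G).subtype

theorem Mg_le (ε : ZMod 2) : Mg S D ε ≤ S := Subgroup.map_subtype_le _

theorem coe_mem_Mg (ε : ZMod 2) (a : ↥(S : Subgroup G)) : (a : G) ∈ Mg S D ε ↔ a ∈ D.M ε := by
  unfold Mg
  exact Subgroup.mem_map_iff_mem (S : Subgroup G).subtype_injective

theorem mem_Mg_iff (ε : ZMod 2) (a : G) (ha : a ∈ (S : Subgroup G)) :
    a ∈ Mg S D ε ↔ (⟨a, ha⟩ : ↥(S : Subgroup G)) ∈ D.M ε :=
  coe_mem_Mg S D ε ⟨a, ha⟩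

theorem subgroupOf_Mg (ε : ZMod 2) : (Mg S D ε).subgroupOf (S : Subgroup G) = D.M ε := by
  ext a
  rw [Subgroup.mem_subgroupOf, coe_mem_Mg]

theorem relIndex_Mg (ε : ZMod 2) : (Mg S D ε).relIndex (S : Subgroup G) = 2 := by
  unfold Subgroup.relIndex
  rw [subgroupOf_Mg, D.index_M]

theorem Mg_normal (ε : ZMod 2) : ∀ s ∈ (S : Subgroup G), ∀ m ∈ (S : Subgroup G),
    (s * m * s⁻¹ ∈ Mg S D ε ↔ m ∈ Mg S D ε) := by
  intro s hs m hm
  have hn : (D.M ε).Normal := Subgroup.normal_of_index_eq_two (D.index_M ε)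
  rw [mem_Mg_iff S D ε m hm,
    mem_Mg_iff S D ε (s * m * s⁻¹) (Subgroup.mul_mem _ (Subgroup.mul_mem _ hs hm) (Subgroup.inv_mem _ hs))]
  have e : (⟨s * m * s⁻¹, Subgroup.mul_mem _ (Subgroup.mul_mem _ hs hm) (Subgroup.inv_mem _ hs)⟩ :
      ↥(S : Subgroup G)) = ⟨s, hs⟩ * ⟨m, hm⟩ * (⟨s, hs⟩ : ↥(S : Subgroup G))⁻¹ := by
    apply Subtype.ext; simp
  rw [e]
  exact (hn.mem_comm_iff.trans (by rw [inv_mul_cancel_left]))

theorem Mg_equiv (ε : ZMod 2) : Nonempty (Mg S D ε ≃* D.M ε) :=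
  ⟨((D.M ε).equivMapOfInjective _ (S : Subgroup G).subtype_injective).symm⟩

include D in
/-- local trichotomy for subgroups of `S`. -/
theorem local_cases (H : Subgroup G) (hHS : H ≤ S) :
    (∀ g ∈ Subgroup.normalizer (H : Set G), Odd (orderOf g) →
      g ∈ Subgroup.centralizer (H : Set G)) ∨
    (∃ j, D.par j = 0 ∧ H.subgroupOf (S : Subgroup G) = D.V j) ∨
    (∃ j, D.IsQd (H.subgroupOf (S : Subgroup G)) j) := by
  by_cases h : ∀ g ∈ Subgroup.normalizer (H : Set G), Odd (orderOf g) →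
      g ∈ Subgroup.centralizer (H : Set G)
  · exact Or.inl h
  · right
    push Not at h
    obtain ⟨g, hg, hodd, hgc⟩ := h
    have hι : Function.Injective (Subgroup.inclusion hHS) := Subgroup.inclusion_injective hHS
    have hfr : (H.normalizerMonoidHom ⟨g, hg⟩) ^ (orderOf g) = 1 := by
      rw [← map_pow]
      have : (⟨g, hg⟩ : Subgroup.normalizer (H : Set G)) ^ orderOf g = 1 := by
        apply Subtype.ext; rw [Subgroup.coe_pow]; exact pow_orderOf_eq_one g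
      rw [this, map_one]
    have hrange : (Subgroup.inclusion hHS).range = H.subgroupOf S := Subgroup.inclusion_range hHS
    rcases aut_cases D (Subgroup.inclusion hHS) hι _ (orderOf g) hodd hfr with h | h | h
    · exfalso
      apply hgc
      have hker := Subgroup.normalizerMonoidHom_ker (H := H)
      have h1 : (⟨g, hg⟩ : Subgroup.normalizer (H : Set G)) ∈ H.normalizerMonoidHom.ker := h
      rw [hker, Subgroup.mem_subgroupOf] at h1
      exact h1
    · left; rw [← hrange]; exact h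
    · right; rw [← hrange]; exact h

include D in
theorem klein_odd (T : Subgroup G) (hT : IsKleinFour T) (hTS : T ≤ S)
    (hT' : ∀ g ∈ Subgroup.normalizer (T : Set G), Odd (orderOf g) →
      g ∈ Subgroup.centralizer (T : Set G))
    (H : Subgroup G) (hHS : H ≤ S) (j : D.Z) (hj : D.par j = 0)
    (h : H.subgroupOf (S : Subgroup G) = D.V j) :
    ∀ g ∈ Subgroup.normalizer (H : Set G), Odd (orderOf g) →
      g ∈ Subgroup.centralizer (H : Set G) := by
  intro g hg hodd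
  obtain ⟨i, hi, hTi⟩ := D.klein_eq_V _ (isKleinFour_subgroupOf S hT hTS)
  obtain ⟨s, hs⟩ := isConj_iff.mp (D.isConj_b_of_par_eq (i := i) (j := j) (by rw [hi, hj]))
  have h1 := D.map_conj_V s i j hs
  rw [← hTi, ← h] at h1
  have h2 := eq_map_conj_of_subgroupOf (S : Subgroup G) H T hHS hTS s h1
  rw [h2] at hg ⊢
  exact odd_centralizes_conj T (s : G) hT' g hg hodd

include D in
theorem quat_odd (Q : Subgroup G) (hQS : Q ≤ S) (eQ : Q ≃* QuaternionGroup 2)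
    (hQ' : ∀ g ∈ Subgroup.normalizer (Q : Set G), Odd (orderOf g) →
      g ∈ Subgroup.centralizer (Q : Set G))
    (H : Subgroup G) (hHS : H ≤ S) (j : D.Z) (h : D.IsQd (H.subgroupOf (S : Subgroup G)) j) :
    ∀ g ∈ Subgroup.normalizer (H : Set G), Odd (orderOf g) →
      g ∈ Subgroup.centralizer (H : Set G) := by
  intro g hg hodd
  have e' : Q.subgroupOf (S : Subgroup G) ≃* Q := Subgroup.subgroupOfEquivOfLe hQS
  obtain ⟨i, hi⟩ := D.exists_isQd _ (q8Facts_of_equiv _ (e'.trans eQ))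
  obtain ⟨s, hs⟩ := isQd_conj D _ _ i j hi h
  have h2 := eq_map_conj_of_subgroupOf (S : Subgroup G) H Q hHS hQS s hs
  rw [h2] at hg ⊢
  exact odd_centralizes_conj Q (s : G) hQ' g hg hodd

theorem par_of_four_mul (k : D.Z) (h : 4 * k = 0) : D.par k = 0 := by
  rcases (D.four_mul_eq_zero_iff k).mp h with h | h | h | h
  · rw [h, map_zero]
  · rw [h, D.par_h]
  · rw [h, D.par_q]
  · rw [h, map_neg, D.par_q, neg_zero]

theorem klein_le_M0 (H : Subgroup G) (hHS : H ≤ S) (j : D.Z) (hj : D.par j = 0)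
    (h : H.subgroupOf (S : Subgroup G) = D.V j) : H ≤ Mg S D 0 := by
  intro a ha
  rw [mem_Mg_iff S D 0 a (hHS ha)]
  have h1 : (⟨a, hHS ha⟩ : ↥(S : Subgroup G)) ∈ D.V j := by
    rw [← h, Subgroup.mem_subgroupOf]; exact ha
  rcases (D.mem_V_iff' j _).mp h1 with h2 | h2 | h2 | h2
  · rw [h2]; exact one_mem _
  · rw [h2, D.e_mem_M, D.par_h]
  · rw [h2, D.b_mem_M, hj]
  · rw [h2, D.b_mem_M, map_add, hj, D.par_h, add_zero]

theorem isQd_le_M1 (H : Subgroup G) (hHS : H ≤ S) (j : D.Z)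
    (h : D.IsQd (H.subgroupOf (S : Subgroup G)) j) : H ≤ Mg S D 1 := by
  intro a ha
  rw [mem_Mg_iff S D 1 a (hHS ha)]
  have h1 : (⟨a, hHS ha⟩ : ↥(S : Subgroup G)) ∈ H.subgroupOf (S : Subgroup G) := by
    rw [Subgroup.mem_subgroupOf]; exact ha
  rcases (h.mem_iff D _).mp h1 with ⟨k, hk, h2⟩ | ⟨k, hk, h2⟩
  · rw [h2, D.e_mem_M]; exact par_of_four_mul S D k hk
  · rw [h2, D.b_mem_M]
    have h3 := par_of_four_mul S D (k - j) hk
    rw [map_sub, h.odd] at h3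
    linear_combination h3

/-- `G`-fusion in `S` preserves the dihedral maximal subgroup when the `Q₈`'s are tame. -/
theorem fusion_M0 (Q : Subgroup G) (hQS : Q ≤ S) (eQ : Q ≃* QuaternionGroup 2)
    (hQ' : ∀ g ∈ Subgroup.normalizer (Q : Set G), Odd (orderOf g) →
      g ∈ Subgroup.centralizer (Q : Set G)) :
    ∀ a ∈ (S : Subgroup G), ∀ g : G, g⁻¹ * a * g ∈ (S : Subgroup G) →
      (g⁻¹ * a * g ∈ Mg S D 0 ↔ a ∈ Mg S D 0) := by
  intro a ha g hg
  apply fusion_invariant S (Mg S D 0) (Mg_normal S D 0) ?_ a ha g hg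
  intro H hHS
  rcases local_cases S D H hHS with h | ⟨j, hj, h⟩ | ⟨j, h⟩
  · exact Or.inl h
  · exact Or.inr (klein_le_M0 S D H hHS j hj h)
  · exact Or.inl (quat_odd S D Q hQS eQ hQ' H hHS j h)

/-- `G`-fusion in `S` preserves the quaternion maximal subgroup when the four-groups are tame. -/
theorem fusion_M1 (T : Subgroup G) (hT : IsKleinFour T) (hTS : T ≤ S)
    (hT' : ∀ g ∈ Subgroup.normalizer (T : Set G), Odd (orderOf g) →
      g ∈ Subgroup.centralizer (T : Set G)) :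
    ∀ a ∈ (S : Subgroup G), ∀ g : G, g⁻¹ * a * g ∈ (S : Subgroup G) →
      (g⁻¹ * a * g ∈ Mg S D 1 ↔ a ∈ Mg S D 1) := by
  intro a ha g hg
  apply fusion_invariant S (Mg S D 1) (Mg_normal S D 1) ?_ a ha g hg
  intro H hHS
  rcases local_cases S D H hHS with h | ⟨j, hj, h⟩ | ⟨j, h⟩
  · exact Or.inl h
  · exact Or.inl (klein_odd S D T hT hTS hT' H hHS j hj h)
  · exact Or.inr (isQd_le_M1 S D H hHS j h)

/-- the normal subgroup of index 2 with `K ∩ S = M ε`. -/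
theorem exists_K (ε : ZMod 2)
    (hfus : ∀ a ∈ (S : Subgroup G), ∀ g : G, g⁻¹ * a * g ∈ (S : Subgroup G) →
      (g⁻¹ * a * g ∈ Mg S D ε ↔ a ∈ Mg S D ε)) :
    ∃ K : Subgroup G, K.Normal ∧ K.index = 2 ∧
      (∀ a ∈ (S : Subgroup G), (a ∈ K ↔ a ∈ Mg S D ε)) ∧
      (∀ P : Sylow 2 ↥K, Nonempty ((P : Subgroup ↥K) ≃* D.M ε)) := by
  obtain ⟨K, hKn, hK2, hKS⟩ := exists_index_two_of_fusion S (Mg S D ε) (relIndex_Mg S D ε) hfus
  refine ⟨K, hKn, hK2, hKS, ?_⟩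
  intro P
  have hMK : Mg S D ε ≤ K := fun a ha => (hKS a (Mg_le S D ε ha)).mpr ha
  obtain ⟨e1⟩ := sylow_equiv_of_index_two S K hK2 (Mg S D ε) hMK (relIndex_Mg S D ε)
    (Mg_le S D ε) P
  obtain ⟨e2⟩ := Mg_equiv S D ε
  exact ⟨e1.trans e2⟩

/-- `K` has no subgroup of index 2. -/
theorem no_index_two_K (ε : ZMod 2) (K : Subgroup G) (hK2 : K.index = 2)
    (hKS : ∀ a ∈ (S : Subgroup G), (a ∈ K ↔ a ∈ Mg S D ε))
    (r : ↥(S : Subgroup G)) (hcomm : D.e 1 * r = r * D.e 1)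
    (hconj : ∀ i, D.par i = ε → IsConj ((D.b i : ↥(S : Subgroup G)) : G) (r : G))
    (i₁ i₀ : D.Z) (h₁ : D.par i₁ = ε) (h₀ : D.par i₀ = ε) (hr : r = D.b i₁ * (D.b i₀)⁻¹) :
    ∀ L : Subgroup ↥K, L.index ≠ 2 := by
  intro L hL
  have hMK : Mg S D ε ≤ K := fun a ha => (hKS a (Mg_le S D ε ha)).mpr ha
  have hbK : ∀ i, D.par i = ε → ((D.b i : ↥(S : Subgroup G)) : G) ∈ K := by
    intro i hi
    rw [hKS _ (D.b i).2, coe_mem_Mg, D.b_mem_M]; exact hi
  have hxK : ((D.e 1 : ↥(S : Subgroup G)) : G) ∉ K := by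
    rw [hKS _ (D.e 1).2, coe_mem_Mg, D.e_mem_M, map_one]
    exact one_ne_zero
  have hgood := good_mem_of_index_two K hK2 (r : G) ((D.e 1 : ↥(S : Subgroup G)) : G) hxK
    (by
      have := congrArg Subtype.val hcomm
      simpa using this)
    {t | ∃ i, D.par i = ε ∧ t = ((D.b i : ↥(S : Subgroup G)) : G)}
    (by rintro t ⟨i, hi, rfl⟩; exact hbK i hi)
    (by rintro t ⟨i, hi, rfl⟩; exact hconj i hi)
    ((D.b i₁ : ↥(S : Subgroup G)) : G) ((D.b i₀ : ↥(S : Subgroup G)) : G)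
    ⟨i₁, h₁, rfl⟩ ⟨i₀, h₀, rfl⟩
    (by rw [hr]; simp) L hL
  apply not_le_of_index_two S K hK2 (Mg S D ε) hMK (relIndex_Mg S D ε) (Mg_le S D ε) L hL
  rintro ⟨a, haK⟩ ha
  rw [Subgroup.mem_subgroupOf] at ha
  have haS : a ∈ (S : Subgroup G) := Mg_le S D ε ha
  rw [mem_Mg_iff S D ε a haS] at ha
  rcases D.cases ⟨a, haS⟩ with ⟨k, hk⟩ | ⟨k, hk⟩
  · rw [hk, D.e_mem_M] at ha
    have hpar : D.par (k + i₀) = ε := by rw [map_add, ha, h₀, zero_add]
    have h1 := hgood _ ⟨k + i₀, hpar, rfl⟩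
    have h2 := hgood _ ⟨i₀, h₀, rfl⟩
    have h3 := L.mul_mem h1 (L.inv_mem h2)
    have e : (⟨a, haK⟩ : ↥K) = ⟨((D.b (k + i₀) : ↥(S : Subgroup G)) : G), hbK _ hpar⟩ *
        (⟨((D.b i₀ : ↥(S : Subgroup G)) : G), hbK _ h₀⟩ : ↥K)⁻¹ := by
      apply Subtype.ext
      simp only [Subgroup.coe_mul, Subgroup.coe_inv]
      have h4 : D.e k = D.b (k + i₀) * (D.b i₀)⁻¹ := by
        rw [D.b_mul_b_inv]; congr 1; ring
      have h5 := congrArg Subtype.val (hk.trans h4)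
      simpa using h5
    rw [e]; exact h3
  · rw [hk, D.b_mem_M] at ha
    have h1 := hgood _ ⟨k, ha, rfl⟩
    have e : (⟨a, haK⟩ : ↥K) = ⟨((D.b k : ↥(S : Subgroup G)) : G), hbK _ ha⟩ := by
      apply Subtype.ext
      have h5 := congrArg Subtype.val hk
      simpa using h5
    rw [e]; exact h1

/-- elements of `S` inside and outside `K` are not conjugate. -/
theorem not_isConj_of_K (K : Subgroup G) (hKn : K.Normal) (a c : G) (ha : a ∈ K) (hc : c ∉ K) :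
    ¬ IsConj a c := by
  intro h
  obtain ⟨g, hg⟩ := isConj_iff.mp h
  apply hc
  rw [← hg]
  exact hKn.conj_mem a ha g

end Cfsg.Agent.helper6.QDFus
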