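import Mathlib
import Cfsg.Agent.Lib_helper6_ZExp

set_option autoImplicit false
set_option linter.unusedSectionVars false
set_option linter.unusedVariables false
set_option linter.style.haveILetI false

namespace Cfsg.Agent.helper6.QuatHom

open Cfsg.Agent.helper6.ZExp

variable {S : Type*} [Group S]

section

variable {n2 : ℕ} [NeZero n2] {a₀ b₀ : S} (ha : orderOf a₀ = 2 * n2)
  (hconj : b₀ * a₀ * b₀⁻¹ = a₀⁻¹) (hsq : b₀ * b₀ = a₀ ^ n2)

include ha hconj in
theorem conj_E (k : ZMod (2 * n2)) :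
    E (2 * n2) a₀ k * b₀ = b₀ * E (2 * n2) a₀ (-k) := by
  have h1 : b₀ * a₀ * b₀⁻¹ = E (2 * n2) a₀ (-1) := by
    rw [hconj, E_neg ha, E_one ha]
  have h2 := conj_E' ha h1 (-k)
  have h3 : (-1 : ZMod (2 * n2)) * -k = k := by ring
  rw [h3] at h2
  rw [← h2]; group

include ha hconj hsq in
/-- The quaternion homomorphism attached to a quaternion pair. -/
noncomputable def quatHom : QuaternionGroup n2 →* S :=
  MonoidHom.mk' (fun g => match g with
    | QuaternionGroup.a k => E (2 * n2) a₀ k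
    | QuaternionGroup.xa k => b₀ * E (2 * n2) a₀ k) (by
    have hc := conj_E ha hconj
    have hsq' : b₀ * b₀ = E (2 * n2) a₀ ((n2 : ℕ) : ZMod (2 * n2)) := by
      rw [E_natCast ha, hsq]
    rintro (i | i) (j | j)
    · simp only [QuaternionGroup.a_mul_a]
      rw [E_add ha]
    · simp only [QuaternionGroup.a_mul_xa]
      rw [← mul_assoc, hc, mul_assoc, E_mul_E ha]
      congr 2; ring
    · simp only [QuaternionGroup.xa_mul_a]
      rw [mul_assoc, E_mul_E ha]
    · simp only [QuaternionGroup.xa_mul_xa]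
      rw [mul_assoc, ← mul_assoc _ b₀, hc, mul_assoc, ← mul_assoc b₀, hsq', E_mul_E ha,
        E_mul_E ha]
      congr 1; ring)

theorem quatHom_a (k : ZMod (2 * n2)) :
    quatHom ha hconj hsq (QuaternionGroup.a k) = E (2 * n2) a₀ k := rfl

theorem quatHom_xa (k : ZMod (2 * n2)) :
    quatHom ha hconj hsq (QuaternionGroup.xa k) = b₀ * E (2 * n2) a₀ k := rfl

theorem quatHom_injective (hb : b₀ ∉ Subgroup.zpowers a₀) :
    Function.Injective (quatHom ha hconj hsq) := by
  rw [injective_iff_map_eq_one]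
  rintro (k | k) hk
  · rw [quatHom_a, E_eq_one_iff ha] at hk
    rw [hk]; rfl
  · exfalso
    rw [quatHom_xa] at hk
    apply hb
    have : b₀ = (E (2 * n2) a₀ k)⁻¹ := eq_inv_of_mul_eq_one_left hk
    rw [this]
    exact Subgroup.inv_mem _ (E_mem_zpowers k)

end

/-! ### facts in the quaternion group -/

theorem quat_conj (m : ℕ) [NeZero m] :
    (QuaternionGroup.xa 0 : QuaternionGroup m) * QuaternionGroup.a 1 * (QuaternionGroup.xa 0)⁻¹
      = (QuaternionGroup.a 1)⁻¹ := by
  have h1 : (QuaternionGroup.a 1 : QuaternionGroup m)⁻¹ = QuaternionGroup.a (-1) := by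
    rw [inv_eq_iff_mul_eq_one, QuaternionGroup.a_mul_a, add_neg_cancel, QuaternionGroup.a_zero]
  rw [mul_inv_eq_iff_eq_mul, h1, QuaternionGroup.xa_mul_a, QuaternionGroup.a_mul_xa]
  congr 1; ring

theorem quat_sq (m : ℕ) [NeZero m] :
    (QuaternionGroup.xa 0 : QuaternionGroup m) * QuaternionGroup.xa 0
      = (QuaternionGroup.a 1) ^ m := by
  rw [QuaternionGroup.a_one_pow, QuaternionGroup.xa_mul_xa]
  simp

theorem quat_cases (m : ℕ) [NeZero m] (g : QuaternionGroup m) :
    (∃ k : ℕ, g = (QuaternionGroup.a 1) ^ k) ∨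
      (∃ k : ℕ, g = QuaternionGroup.xa 0 * (QuaternionGroup.a 1) ^ k) := by
  rcases g with k | k
  · left
    refine ⟨k.val, ?_⟩
    rw [QuaternionGroup.a_one_pow, ZMod.natCast_zmod_val]
  · right
    refine ⟨k.val, ?_⟩
    rw [QuaternionGroup.a_one_pow, ZMod.natCast_zmod_val, QuaternionGroup.xa_mul_a, zero_add]

end Cfsg.Agent.helper6.QuatHom
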