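import Cfsg.Statements.S1204
import Mathlib
import Cfsg.Agent.Lib_helper6_QDFus
-- import your own Cfsg.Agent.* helpers here

set_option autoImplicit false
open Cfsg

namespace Cfsg.Agent.S1204

/-- Let G be a finite group with quasi-dihedral Sylow 2-subgroup S, T a Klein four-subgroup and Q a quaternion subgroup of order 8 of S, with |N_G(T) : C_G(T)| = 6 and |N_G(Q) : Q C_G(Q)| = 6. Then G has no subgroup of index 2, exactly one conjugacy class of involutions and exactly one conjugacy class of elements of order 4. -/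
theorem result {G : Type*} [Group G] [Finite G] (S : Sylow 2 G) (hS : Cfsg.IsQuasiDihedral (S : Subgroup G)) (T : Subgroup G) (hT : IsKleinFour T) (hTS : T ≤ S) (Q : Subgroup G) (hQS : Q ≤ S) (eQ : Q ≃* QuaternionGroup 2) (h₁ : (Subgroup.centralizer (T : Set G)).relIndex (Subgroup.normalizer (T : Set G)) = 6) (h₂ : (Q ⊔ Subgroup.centralizer (Q : Set G)).relIndex (Subgroup.normalizer (Q : Set G)) = 6) : (∀ H : Subgroup G, H.index ≠ 2) ∧ Nat.card {C : ConjClasses G // ∃ t : G, orderOf t = 2 ∧ ConjClasses.mk t = C} = 1 ∧ Nat.card {C : ConjClasses G // ∃ t : G, orderOf t = 4 ∧ ConjClasses.mk t = C} = 1 := by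
  obtain ⟨D⟩ := Cfsg.Agent.helper6.QD.nonempty_data hS
  have hinv := Cfsg.Agent.helper6.QDFus.invol_conj_of_six S D T hT hTS h₁
  have hord4 := Cfsg.Agent.helper6.QDFus.order4_conj_of_six S D Q hQS eQ h₂
  refine ⟨?_, ?_, ?_⟩
  · intro H hH
    have hHn : H.Normal := Subgroup.normal_of_index_eq_two hH
    have hconj : ∀ a b : G, IsConj a b → b ∈ H → a ∈ H := by
      intro a b hab hb
      obtain ⟨c, hc⟩ := isConj_iff.mp hab
      have h1 := hHn.conj_mem b hb c⁻¹
      rw [← hc] at h1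
      have h2 : c⁻¹ * (c * a * c⁻¹) * c⁻¹⁻¹ = a := by group
      rwa [h2] at h1
    -- the element of order 4 in ⟨x⟩ is a square
    have hq : ((D.e D.q : ↥(S : Subgroup G)) : G) ∈ H := by
      have h1 : D.e D.q = D.e D.p ^ 2 := by rw [D.sq_e, D.q_eq]
      rw [h1, Subgroup.coe_pow]
      exact Subgroup.sq_mem_of_index_two hH _
    have hz : ((D.e D.h : ↥(S : Subgroup G)) : G) ∈ H := by
      have h1 : D.e D.h = D.e D.q ^ 2 := by rw [D.sq_e, D.h_eq]
      rw [h1, Subgroup.coe_pow]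
      exact Subgroup.sq_mem_of_index_two hH _
    have hy : ((D.b 0 : ↥(S : Subgroup G)) : G) ∈ H :=
      hconj _ _ (hinv _ (Cfsg.Agent.helper6.QDFus.orderOf_y S D)) hz
    have hxy : ((D.b 1 : ↥(S : Subgroup G)) : G) ∈ H :=
      hconj _ _ (hord4 _ (Cfsg.Agent.helper6.QDFus.orderOf_xy S D)) hq
    have hx : ((D.e 1 : ↥(S : Subgroup G)) : G) ∈ H := by
      have h1 : D.e 1 = D.b 1 * (D.b 0)⁻¹ := by
        rw [D.b_mul_b_inv, sub_zero]
      rw [h1, Subgroup.coe_mul, Subgroup.coe_inv]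
      exact H.mul_mem hxy (H.inv_mem hy)
    exact Cfsg.Agent.helper6.QDFus.not_index_two_of_mem S D H hH hx hy
  · exact Cfsg.Agent.helper6.QDFus.card_classes_eq_one 2 _
      (Cfsg.Agent.helper6.QDFus.orderOf_z S D) hinv
  · exact Cfsg.Agent.helper6.QDFus.card_classes_eq_one 4 _
      (Cfsg.Agent.helper6.QDFus.orderOf_eq S D) hord4

end Cfsg.Agent.S1204
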