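import Cfsg.Statements.S1205
import Mathlib
import Cfsg.Agent.Lib_helper6_QDFus3
-- import your own Cfsg.Agent.* helpers here

set_option autoImplicit false
open Cfsg

namespace Cfsg.Agent.S1205

/-- Let G be a finite group with quasi-dihedral Sylow 2-subgroup S, T a Klein four-subgroup and Q a quaternion subgroup of order 8 of S, with |N_G(T) : C_G(T)| = 2 and |N_G(Q) : Q C_G(Q)| = 6. Then G has a normal subgroup K of index 2 whose Sylow 2-subgroups are generalized quaternion and which has no subgroup of index 2; the centre of S is weakly closed in S; and G has exactly two classes of involutions and one class of elements of order 4. -/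
theorem result {G : Type*} [Group G] [Finite G] (S : Sylow 2 G) (hS : Cfsg.IsQuasiDihedral (S : Subgroup G)) (T : Subgroup G) (hT : IsKleinFour T) (hTS : T ≤ S) (Q : Subgroup G) (hQS : Q ≤ S) (eQ : Q ≃* QuaternionGroup 2) (h₁ : (Subgroup.centralizer (T : Set G)).relIndex (Subgroup.normalizer (T : Set G)) = 2) (h₂ : (Q ⊔ Subgroup.centralizer (Q : Set G)).relIndex (Subgroup.normalizer (Q : Set G)) = 6) : (∃ K : Subgroup G, K.Normal ∧ K.index = 2 ∧ (∀ P : Sylow 2 ↥K, ∃ m : ℕ, 1 ≤ m ∧ Nonempty ((P : Subgroup ↥K) ≃* QuaternionGroup (2 ^ m))) ∧ (∀ H : Subgroup ↥K, H.index ≠ 2)) ∧ Cfsg.IsWeaklyClosed ((Subgroup.center (S : Subgroup G)).map (S : Subgroup G).subtype) (S : Subgroup G) ∧ Nat.card {C : ConjClasses G // ∃ t : G, orderOf t = 2 ∧ ConjClasses.mk t = C} = 2 ∧ Nat.card {C : ConjClasses G // ∃ t : G, orderOf t = 4 ∧ ConjClasses.mk t = C} = 1 := by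
  obtain ⟨D⟩ := Cfsg.Agent.helper6.QD.nonempty_data hS
  have hT' : ∀ g ∈ Subgroup.normalizer (T : Set G), Odd (orderOf g) →
      g ∈ Subgroup.centralizer (T : Set G) := fun g hg ho =>
    Cfsg.Agent.helper6.QDFus.odd_centralizes T 1 (by rw [h₁, pow_one]) g hg ho
  have hord4 := Cfsg.Agent.helper6.QDFus.order4_conj_of_six S D Q hQS eQ h₂
  have hfus := Cfsg.Agent.helper6.QDFus.fusion_M1 S D T hT hTS hT'
  obtain ⟨K, hKn, hK2, hKS, hKP⟩ := Cfsg.Agent.helper6.QDFus.exists_K S D 1 hfus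
  have hzK : ((D.e D.h : ↥(S : Subgroup G)) : G) ∈ K := by
    rw [hKS _ (D.e D.h).2, Cfsg.Agent.helper6.QDFus.coe_mem_Mg, D.e_mem_M, D.par_h]
  have hzM : ((D.e D.h : ↥(S : Subgroup G)) : G) ∈ Cfsg.Agent.helper6.QDFus.Mg S D 1 := by
    rw [Cfsg.Agent.helper6.QDFus.coe_mem_Mg, D.e_mem_M, D.par_h]
  refine ⟨⟨K, hKn, hK2, ?_, ?_⟩, ?_, ?_, ?_⟩
  · intro P
    obtain ⟨e1⟩ := hKP P
    obtain ⟨e2⟩ := D.M1_equiv
    exact ⟨D.n - 2, by have := D.hn; omega, ⟨e1.trans e2⟩⟩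
  · apply Cfsg.Agent.helper6.QDFus.no_index_two_K S D 1 K hK2 hKS (D.e D.q)
      (by rw [D.e_e, D.e_e, add_comm]) ?_ (1 + D.q) 1
      (by rw [map_add, map_one, D.par_q, add_zero]) (map_one _)
      (by rw [D.b_mul_b_inv]; congr 1; ring)
    intro i hi
    apply hord4
    rw [Subgroup.orderOf_coe, D.orderOf_b_eq_four_iff]
    exact hi
  · refine ⟨Subgroup.map_subtype_le _, ?_⟩
    intro g hW
    have hWz : (Subgroup.center ↥(S : Subgroup G)).map (S : Subgroup G).subtype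
        = Subgroup.zpowers ((D.e D.h : ↥(S : Subgroup G)) : G) := by
      rw [D.center_eq, MonoidHom.map_zpowers]; rfl
    rw [hWz] at hW ⊢
    rw [MonoidHom.map_zpowers] at hW ⊢
    have hconj : (MulAut.conj g).toMonoidHom ((D.e D.h : ↥(S : Subgroup G)) : G)
        = g * ((D.e D.h : ↥(S : Subgroup G)) : G) * g⁻¹ := rfl
    rw [hconj] at hW ⊢
    have hgS : g * ((D.e D.h : ↥(S : Subgroup G)) : G) * g⁻¹ ∈ (S : Subgroup G) :=
      hW (Subgroup.mem_zpowers _)
    have hgM : g * ((D.e D.h : ↥(S : Subgroup G)) : G) * g⁻¹ ∈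
        Cfsg.Agent.helper6.QDFus.Mg S D 1 := by
      have h3 := hfus _ (D.e D.h).2 g⁻¹ (by rw [inv_inv]; exact hgS)
      rw [inv_inv] at h3
      exact h3.mpr hzM
    have hord : orderOf (⟨_, hgS⟩ : ↥(S : Subgroup G)) = 2 := by
      rw [← Subgroup.orderOf_coe]
      simp only []
      rw [Cfsg.Agent.helper6.QDFus.orderOf_conj', Cfsg.Agent.helper6.QDFus.orderOf_z]
    rw [Cfsg.Agent.helper6.QDFus.mem_Mg_iff S D 1 _ hgS] at hgM
    rcases D.cases ⟨_, hgS⟩ with ⟨i, hi⟩ | ⟨i, hi⟩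
    · rw [hi, D.orderOf_e_eq_two_iff] at hord
      rw [hord] at hi
      have h4 := congrArg Subtype.val hi
      simp only [] at h4
      rw [h4]
    · exfalso
      rw [hi, D.orderOf_b_eq_two_iff] at hord
      rw [hi, D.b_mem_M, hord] at hgM
      exact zero_ne_one hgM
  · apply Cfsg.Agent.helper6.QDFus.card_classes_eq_two 2 _ _
      (Cfsg.Agent.helper6.QDFus.orderOf_z S D) (Cfsg.Agent.helper6.QDFus.orderOf_y S D) ?_
      (Cfsg.Agent.helper6.QDFus.invol_cases S D)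
    apply Cfsg.Agent.helper6.QDFus.not_isConj_of_K K hKn _ _ hzK
    rw [hKS _ (D.b 0).2, Cfsg.Agent.helper6.QDFus.coe_mem_Mg, D.b_mem_M, map_zero]
    exact zero_ne_one
  · exact Cfsg.Agent.helper6.QDFus.card_classes_eq_one 4 _
      (Cfsg.Agent.helper6.QDFus.orderOf_eq S D) hord4

end Cfsg.Agent.S1205
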