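import Cfsg.Statements.S1206
import Mathlib
import Cfsg.Agent.Lib_helper6_QDFus3
-- import your own Cfsg.Agent.* helpers here

set_option autoImplicit false
open Cfsg

namespace Cfsg.Agent.S1206

/-- Let G be a finite group with quasi-dihedral Sylow 2-subgroup S, T a Klein four-subgroup and Q a quaternion subgroup of order 8 of S, with |N_G(T) : C_G(T)| = 6 and |N_G(Q) : Q C_G(Q)| = 2. Then G has a normal subgroup K of index 2 whose Sylow 2-subgroups are dihedral and which has no subgroup of index 2, and G has exactly one class of involutions and two classes of elements of order 4. -/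
theorem result {G : Type*} [Group G] [Finite G] (S : Sylow 2 G) (hS : Cfsg.IsQuasiDihedral (S : Subgroup G)) (T : Subgroup G) (hT : IsKleinFour T) (hTS : T ≤ S) (Q : Subgroup G) (hQS : Q ≤ S) (eQ : Q ≃* QuaternionGroup 2) (h₁ : (Subgroup.centralizer (T : Set G)).relIndex (Subgroup.normalizer (T : Set G)) = 6) (h₂ : (Q ⊔ Subgroup.centralizer (Q : Set G)).relIndex (Subgroup.normalizer (Q : Set G)) = 2) : (∃ K : Subgroup G, K.Normal ∧ K.index = 2 ∧ (∀ P : Sylow 2 ↥K, ∃ m : ℕ, Nonempty ((P : Subgroup ↥K) ≃* DihedralGroup m)) ∧ (∀ H : Subgroup ↥K, H.index ≠ 2)) ∧ Nat.card {C : ConjClasses G // ∃ t : G, orderOf t = 2 ∧ ConjClasses.mk t = C} = 1 ∧ Nat.card {C : ConjClasses G // ∃ t : G, orderOf t = 4 ∧ ConjClasses.mk t = C} = 2 := by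
  obtain ⟨D⟩ := Cfsg.Agent.helper6.QD.nonempty_data hS
  have hQ' : ∀ g ∈ Subgroup.normalizer (Q : Set G), Odd (orderOf g) →
      g ∈ Subgroup.centralizer (Q : Set G) := fun g hg ho =>
    Cfsg.Agent.helper6.QDFus.odd_centralizes Q 3
      (by rw [Cfsg.Agent.helper6.QDFus.relIndex_centralizer_q8 Q eQ, h₂]; norm_num) g hg ho
  have hinv := Cfsg.Agent.helper6.QDFus.invol_conj_of_six S D T hT hTS h₁
  have hfus := Cfsg.Agent.helper6.QDFus.fusion_M0 S D Q hQS eQ hQ'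
  obtain ⟨K, hKn, hK2, hKS, hKP⟩ := Cfsg.Agent.helper6.QDFus.exists_K S D 0 hfus
  refine ⟨⟨K, hKn, hK2, ?_, ?_⟩, ?_, ?_⟩
  · intro P
    obtain ⟨e1⟩ := hKP P
    obtain ⟨e2⟩ := D.M0_equiv
    exact ⟨_, ⟨e1.trans e2⟩⟩
  · apply Cfsg.Agent.helper6.QDFus.no_index_two_K S D 0 K hK2 hKS (D.e D.h)
      (by rw [D.e_e, D.e_e, add_comm]) ?_ D.h 0 D.par_h (map_zero _)
      (by rw [D.b_mul_b_inv, sub_zero])
    intro i hi
    apply hinv
    rw [Subgroup.orderOf_coe, D.orderOf_b_eq_two_iff]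
    exact hi
  · exact Cfsg.Agent.helper6.QDFus.card_classes_eq_one 2 _
      (Cfsg.Agent.helper6.QDFus.orderOf_z S D) hinv
  · apply Cfsg.Agent.helper6.QDFus.card_classes_eq_two 4 _ _
      (Cfsg.Agent.helper6.QDFus.orderOf_eq S D) (Cfsg.Agent.helper6.QDFus.orderOf_xy S D) ?_
      (Cfsg.Agent.helper6.QDFus.order4_cases S D)
    apply Cfsg.Agent.helper6.QDFus.not_isConj_of_K K hKn
    · rw [hKS _ (D.e D.q).2, Cfsg.Agent.helper6.QDFus.coe_mem_Mg, D.e_mem_M, D.par_q]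
    · rw [hKS _ (D.b 1).2, Cfsg.Agent.helper6.QDFus.coe_mem_Mg, D.b_mem_M, map_one]
      exact one_ne_zero

end Cfsg.Agent.S1206
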