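import Cfsg.Statements.S1207
import Mathlib
import Cfsg.Agent.Lib_helper6_QDFus2
-- import your own Cfsg.Agent.* helpers here

set_option autoImplicit false
open Cfsg

namespace Cfsg.Agent.S1207


open Cfsg.Agent.helper6.QD Cfsg.Agent.helper6.QDFus in
theorem not_isConj_of_frob {G : Type*} [Group G] [Finite G] (S : Sylow 2 G)
    (D : Cfsg.Agent.helper6.QD.Data ↥(S : Subgroup G)) (hF : Cfsg.Agent.lead.FrobCond 2 G)
    (i j : D.Z) : ¬ IsConj ((D.e i : ↥(S : Subgroup G)) : G) ((D.b j : ↥(S : Subgroup G)) : G) := by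
  have : Fact (Nat.Prime 2) := ⟨Nat.prime_two⟩
  intro hc
  obtain ⟨g, hg⟩ := isConj_iff.mp hc
  obtain ⟨u, hu, hu'⟩ := Cfsg.Agent.lead.frob_control_fusion hF S _ (D.e i).2 g
    (by rw [hg]; exact (D.b j).2)
  rw [hg] at hu'
  have h1 : IsConj (D.e i) (D.b j) :=
    isConj_iff.mpr ⟨⟨u, hu⟩, Subtype.ext (by simpa using hu')⟩
  exact D.not_isConj_e_b _ _ h1

/-- Let G be a finite group with quasi-dihedral Sylow 2-subgroup S, T a Klein four-subgroup and Q a quaternion subgroup of order 8 of S, with |N_G(T) : C_G(T)| = 2 and |N_G(Q) : Q C_G(Q)| = 2. Then G has a normal 2-complement, exactly two classes of involutions and exactly two classes of elements of order 4. -/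
theorem result {G : Type*} [Group G] [Finite G] (S : Sylow 2 G) (hS : Cfsg.IsQuasiDihedral (S : Subgroup G)) (T : Subgroup G) (hT : IsKleinFour T) (hTS : T ≤ S) (Q : Subgroup G) (hQS : Q ≤ S) (eQ : Q ≃* QuaternionGroup 2) (h₁ : (Subgroup.centralizer (T : Set G)).relIndex (Subgroup.normalizer (T : Set G)) = 2) (h₂ : (Q ⊔ Subgroup.centralizer (Q : Set G)).relIndex (Subgroup.normalizer (Q : Set G)) = 2) : Cfsg.HasNormalPComplement 2 G ∧ Nat.card {C : ConjClasses G // ∃ t : G, orderOf t = 2 ∧ ConjClasses.mk t = C} = 2 ∧ Nat.card {C : ConjClasses G // ∃ t : G, orderOf t = 4 ∧ ConjClasses.mk t = C} = 2 := by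
  obtain ⟨D⟩ := Cfsg.Agent.helper6.QD.nonempty_data hS
  have : Fact (Nat.Prime 2) := ⟨Nat.prime_two⟩
  have hT' : ∀ g ∈ Subgroup.normalizer (T : Set G), Odd (orderOf g) →
      g ∈ Subgroup.centralizer (T : Set G) := fun g hg ho =>
    Cfsg.Agent.helper6.QDFus.odd_centralizes T 1 (by rw [h₁, pow_one]) g hg ho
  have hQ' : ∀ g ∈ Subgroup.normalizer (Q : Set G), Odd (orderOf g) →
      g ∈ Subgroup.centralizer (Q : Set G) := fun g hg ho =>
    Cfsg.Agent.helper6.QDFus.odd_centralizes Q 3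
      (by rw [Cfsg.Agent.helper6.QDFus.relIndex_centralizer_q8 Q eQ, h₂]; norm_num) g hg ho
  have hF : Cfsg.Agent.lead.FrobCond 2 G :=
    Cfsg.Agent.S0071.frobCond_of_sylow S (fun H hHS g hg hcop =>
      Cfsg.Agent.helper6.QDFus.odd_centralizes_of_local S D T hT hTS Q hQS eQ hT' hQ' H hHS g hg
        (Nat.coprime_two_right.mp hcop))
  have hcomp := Cfsg.Agent.S0071.complement_of_frobCond hF S
  refine ⟨⟨S, _, hcomp.1, hcomp.2⟩, ?_, ?_⟩
  · exact Cfsg.Agent.helper6.QDFus.card_classes_eq_two 2 _ _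
      (Cfsg.Agent.helper6.QDFus.orderOf_z S D) (Cfsg.Agent.helper6.QDFus.orderOf_y S D)
      (not_isConj_of_frob S D hF _ _) (Cfsg.Agent.helper6.QDFus.invol_cases S D)
  · exact Cfsg.Agent.helper6.QDFus.card_classes_eq_two 4 _ _
      (Cfsg.Agent.helper6.QDFus.orderOf_eq S D) (Cfsg.Agent.helper6.QDFus.orderOf_xy S D)
      (not_isConj_of_frob S D hF _ _) (Cfsg.Agent.helper6.QDFus.order4_cases S D)

end Cfsg.Agent.S1207
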