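import Mathlib
import Cfsg.Agent.Lib_helper6_CentTr
import Cfsg.Agent.Lib_helper6_CentTr2
import Cfsg.Agent.Lib_helper6_CentConcl
import Cfsg.Agent.Lib_helper6_QDFus3
import Cfsg.Agent.Lib_helper6_QuatHom
import Cfsg.Agent.Lib_helper6_Klein2
import Cfsg.Agent.S1203
import Cfsg.Agent.S1204
import Cfsg.Agent.S1205
import Cfsg.Agent.S1206
import Cfsg.Agent.S1207

set_option autoImplicit false
set_option linter.unusedSectionVars false
set_option linter.unusedVariables false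

namespace Cfsg.Agent.helper6.QDCent

open Cfsg Cfsg.Agent.helper6.QD Cfsg.Agent.helper6.ZExp Cfsg.Agent.helper6.QuatHom
open Cfsg.Agent.helper6.CentTr

/-- a quaternion subgroup of order 8 of a quasi-dihedral group, containing the central
involution. -/
theorem exists_q8 {S : Type*} [Group S] [Finite S] (D : Data S) :
    ∃ Q : Subgroup S, Nonempty (Q ≃* QuaternionGroup 2) ∧ D.e D.h ∈ Q := by
  obtain ⟨a₀, ha₀⟩ : ∃ a₀ : S, a₀ = D.e D.q := ⟨_, rfl⟩
  obtain ⟨b₀, hb₀⟩ : ∃ b₀ : S, b₀ = D.b 1 := ⟨_, rfl⟩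
  have hsq_a : a₀ ^ 2 = D.e D.h := by rw [ha₀, D.sq_e, ← D.h_eq]
  have ha : orderOf a₀ = 2 * 2 := by
    rw [ha₀, (D.orderOf_e_eq_four_iff D.q).mpr (Or.inl rfl)]
  have hconj : b₀ * a₀ * b₀⁻¹ = a₀⁻¹ := by
    rw [hb₀, ha₀, D.conj_b_e, D.m_mul_q, D.e_inv]
  have hsq : b₀ * b₀ = a₀ ^ 2 := by
    rw [hsq_a, hb₀, D.b_b, mul_one, D.one_add_m]
  have hb : b₀ ∉ Subgroup.zpowers a₀ := by
    intro h
    have h1 : Subgroup.zpowers a₀ ≤ Subgroup.zpowers D.x := by
      rw [Subgroup.zpowers_le, ha₀]; exact D.e_mem _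
    obtain ⟨i, hi⟩ := D.mem_zpowers_iff.mp (h1 h)
    rw [hb₀] at hi
    exact D.b_ne_e _ _ hi
  refine ⟨(quatHom ha hconj hsq).range,
    ⟨(MonoidHom.ofInjective (quatHom_injective ha hconj hsq hb)).symm⟩, ?_⟩
  refine ⟨QuaternionGroup.a ((2 : ℕ) : ZMod (2 * 2)), ?_⟩
  rw [quatHom_a, E_natCast ha, hsq_a]

variable {G : Type*} [Group G] [Finite G] (S : Sylow 2 G)

/-- without subgroups of index 2 both local indices are 6. -/
theorem indices_six (hS : Cfsg.IsQuasiDihedral (S : Subgroup G))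
    (hG : ∀ H : Subgroup G, H.index ≠ 2) (T : Subgroup G) (hT : IsKleinFour T) (hTS : T ≤ S)
    (Q : Subgroup G) (hQS : Q ≤ S) (eQ : Q ≃* QuaternionGroup 2) :
    (Subgroup.centralizer (T : Set G)).relIndex (Subgroup.normalizer (T : Set G)) = 6 ∧
    (Q ⊔ Subgroup.centralizer (Q : Set G)).relIndex (Subgroup.normalizer (Q : Set G)) = 6 := by
  obtain ⟨h1, h2⟩ := Cfsg.Agent.S1203.result S hS T hT hTS Q hQS eQ
  rcases h1 with h1 | h1
  · rcases h2 with h2 | h2
    · exfalso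
      obtain ⟨hc, -⟩ := Cfsg.Agent.S1207.result S hS T hT hTS Q hQS eQ h1 h2
      obtain ⟨n, hn, hcard, -⟩ := hS
      obtain ⟨H, hH⟩ := exists_index_two_of_complement S (n + 1) (by omega) hcard hc
      exact hG H hH
    · exfalso
      obtain ⟨⟨K, -, hK, -⟩, -⟩ := Cfsg.Agent.S1205.result S hS T hT hTS Q hQS eQ h1 h2
      exact hG K hK
  · rcases h2 with h2 | h2
    · exfalso
      obtain ⟨⟨K, -, hK, -⟩, -⟩ := Cfsg.Agent.S1206.result S hS T hT hTS Q hQS eQ h1 h2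
      exact hG K hK
    · exact ⟨h1, h2⟩

theorem mem_centralizer_singleton {x g : G} :
    g ∈ Subgroup.centralizer ({x} : Set G) ↔ x * g = g * x := by
  rw [Subgroup.mem_centralizer_iff]
  simp only [Set.mem_singleton_iff, forall_eq]

/-- the centralizer of the central involution of a Sylow 2-subgroup. -/
theorem qd_central (hS : Cfsg.IsQuasiDihedral (S : Subgroup G))
    (hG : ∀ H : Subgroup G, H.index ≠ 2) (x : G) (hx : orderOf x = 2)
    (hxS : x ∈ (S : Subgroup G)) (hxc : ∀ s ∈ (S : Subgroup G), s * x = x * s) :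
    Concl G (Nat.card S) x := by
  have : Fact (Nat.Prime 2) := ⟨Nat.prime_two⟩
  obtain ⟨D⟩ := Cfsg.Agent.helper6.QD.nonempty_data hS
  have hxe : x = ((D.e D.h : ↥(S : Subgroup G)) : G) := by
    rcases D.cases ⟨x, hxS⟩ with ⟨i, hi⟩ | ⟨i, hi⟩
    · have h1 : D.e i * D.b 0 = D.b 0 * D.e i := by
        rw [← hi]
        apply Subtype.ext
        rw [Subgroup.coe_mul, Subgroup.coe_mul]
        exact (hxc _ (D.b 0).2).symm
      rcases (D.comm_e_b_iff i 0).mp h1 with h2 | h2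
      · exfalso
        rw [h2, D.e_zero] at hi
        have h3 : x = 1 := congrArg Subtype.val hi
        rw [h3, orderOf_one] at hx
        norm_num at hx
      · rw [h2] at hi
        exact congrArg Subtype.val hi
    · exfalso
      have h1 : D.e 1 * D.b i = D.b i * D.e 1 := by
        rw [← hi]
        apply Subtype.ext
        rw [Subgroup.coe_mul, Subgroup.coe_mul]
        exact hxc _ (D.e 1).2
      rcases (D.comm_e_b_iff 1 i).mp h1 with h2 | h2
      · have h3 := congrArg D.par h2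
        rw [map_one, map_zero] at h3
        exact one_ne_zero h3
      · have h3 := congrArg D.par h2
        rw [map_one, D.par_h] at h3
        exact one_ne_zero h3
  obtain ⟨Q₀, ⟨eQ₀⟩, hzQ₀⟩ := exists_q8 D
  obtain ⟨Q, hQdef⟩ : ∃ Q : Subgroup G, Q = Q₀.map (S : Subgroup G).subtype := ⟨_, rfl⟩
  have hQS : Q ≤ S := by rw [hQdef]; exact Subgroup.map_subtype_le _
  have eQ : Q ≃* QuaternionGroup 2 := by
    rw [hQdef]
    exact (Q₀.equivMapOfInjective _ (S : Subgroup G).subtype_injective).symm.trans eQ₀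
  have hxQ : x ∈ Q := by rw [hxe, hQdef]; exact ⟨_, hzQ₀, rfl⟩
  obtain ⟨y, hy⟩ : ∃ y : G, y = ((D.b 0 : ↥(S : Subgroup G)) : G) := ⟨_, rfl⟩
  have hyS : y ∈ (S : Subgroup G) := by rw [hy]; exact (D.b 0).2
  have hy2 : orderOf y = 2 := by rw [hy]; exact Cfsg.Agent.helper6.QDFus.orderOf_y S D
  have hxx : x * x = 1 := by rw [← pow_two, ← hx]; exact pow_orderOf_eq_one x
  have hyy : y * y = 1 := by rw [← pow_two, ← hy2]; exact pow_orderOf_eq_one y
  have hxy : x * y = y * x := (hxc y hyS).symm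
  have hx1 : x ≠ 1 := by
    intro h; rw [h, orderOf_one] at hx; norm_num at hx
  have hy1 : y ≠ 1 := by
    intro h; rw [h, orderOf_one] at hy2; norm_num at hy2
  have hxney : x ≠ y := by
    rw [hxe, hy]
    intro h
    exact D.e_ne_b _ _ (Subtype.ext h)
  obtain ⟨T, hTdef⟩ : ∃ T : Subgroup G, T = Cfsg.Agent.helper6.Klein.four x y hxx hyy hxy :=
    ⟨_, rfl⟩
  have hT : IsKleinFour T := by
    rw [hTdef]; exact Cfsg.Agent.helper6.Klein.isKleinFour_four hxx hyy hxy hx1 hy1 hxney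
  have hxT : x ∈ T := by rw [hTdef]; exact Or.inr (Or.inl rfl)
  have hyT : y ∈ T := by rw [hTdef]; exact Or.inr (Or.inr (Or.inl rfl))
  have hTS : T ≤ S := by
    rw [hTdef]
    rintro g (rfl | rfl | rfl | rfl)
    · exact one_mem _
    · exact hxS
    · exact hyS
    · exact mul_mem hxS hyS
  obtain ⟨h₁, h₂⟩ := indices_six S hS hG T hT hTS Q hQS eQ
  obtain ⟨C, hCdef⟩ : ∃ C : Subgroup G, C = Subgroup.centralizer ({x} : Set G) := ⟨_, rfl⟩
  have hmemC : ∀ g : G, g ∈ C ↔ x * g = g * x := by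
    intro g; rw [hCdef]; exact mem_centralizer_singleton
  have hSC : (S : Subgroup G) ≤ C := fun s hs => (hmemC s).mpr (hxc s hs).symm
  have hconcl : ∃ R : Sylow 2 ↥C, Nat.card R = Nat.card S ∧
      (∃ K : Subgroup ↥C, K.Normal ∧
        (∃ a : ℕ, K.index = 2 ^ a) ∧ (∀ H : Subgroup ↥K, H.index ≠ 2) ∧
        (∀ P : Sylow 2 ↥K, ∃ m : ℕ, 1 ≤ m ∧
          Nonempty ((P : Subgroup ↥K) ≃* QuaternionGroup (2 ^ m)))) ∧
      (∀ Z₀ : Subgroup ↥C,
        Z₀ ≤ ((Subgroup.center (R : Subgroup ↥C)).map (R : Subgroup ↥C).subtype) →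
        Cfsg.IsWeaklyClosed Z₀ (R : Subgroup ↥C)) := by
    obtain ⟨R, hRdef⟩ : ∃ R : Sylow 2 ↥C, R = S.subtype hSC := ⟨_, rfl⟩
    have hRcoe : (R : Subgroup ↥C) = (S : Subgroup G).subgroupOf C := by
      rw [hRdef]; exact Sylow.coe_subtype S hSC
    have eR : ↥(R : Subgroup ↥C) ≃* ↥(S : Subgroup G) :=
      (MulEquiv.subgroupCongr hRcoe).trans (Subgroup.subgroupOfEquivOfLe hSC)
    have hR : Cfsg.IsQuasiDihedral ↥(R : Subgroup ↥C) := isQuasiDihedral_of_equiv eR.symm hS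
    have hTC : T ≤ C := hTS.trans hSC
    have hQC : Q ≤ C := hQS.trans hSC
    have hT'R : T.subgroupOf C ≤ R := by
      rw [hRcoe]
      intro c hc
      rw [Subgroup.mem_subgroupOf] at hc ⊢
      exact hTS hc
    have hQ'R : Q.subgroupOf C ≤ R := by
      rw [hRcoe]
      intro c hc
      rw [Subgroup.mem_subgroupOf] at hc ⊢
      exact hQS hc
    have hT' : IsKleinFour (T.subgroupOf C) := by
      have e' : T.subgroupOf C ≃* T := Subgroup.subgroupOfEquivOfLe hTC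
      exact ⟨by rw [Nat.card_congr e'.toEquiv]; exact hT.card_four,
        by rw [Monoid.exponent_eq_of_mulEquiv e']; exact hT.exponent_two⟩
    have eQ' : Q.subgroupOf C ≃* QuaternionGroup 2 :=
      (Subgroup.subgroupOfEquivOfLe hQC).trans eQ
    have hNQ : Subgroup.normalizer (Q : Set G) ≤ C := by
      intro g hg
      rw [hmemC]
      have h1 : g * x * g⁻¹ ∈ Q := (Subgroup.mem_normalizer_iff.mp hg x).mp hxQ
      have h2 : orderOf (g * x * g⁻¹) = 2 := by
        rw [Cfsg.Agent.helper6.QDFus.orderOf_conj', hx]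
      have h3 := q8_unique_invol Q eQ _ _ h1 hxQ h2 hx
      calc x * g = g * x * g⁻¹ * g := by rw [h3]
        _ = g * x := by group
    have h₂' : (Q.subgroupOf C ⊔ Subgroup.centralizer ((Q.subgroupOf C : Subgroup ↥C) : Set ↥C)).relIndex
        (Subgroup.normalizer ((Q.subgroupOf C : Subgroup ↥C) : Set ↥C)) = 6 := by
      rw [relIndex_sup_centralizer_tr C Q hQC hNQ]; exact h₂
    obtain ⟨hT2, -⟩ := Cfsg.Agent.S1203.result R hR (T.subgroupOf C) hT' hT'R (Q.subgroupOf C)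
      hQ'R eQ'
    have h₁' : (Subgroup.centralizer ((T.subgroupOf C : Subgroup ↥C) : Set ↥C)).relIndex
        (Subgroup.normalizer ((T.subgroupOf C : Subgroup ↥C) : Set ↥C)) = 2 := by
      rcases hT2 with h | h
      · exact h
      · exfalso
        obtain ⟨-, hone, -⟩ := Cfsg.Agent.S1204.result R hR (T.subgroupOf C) hT' hT'R
          (Q.subgroupOf C) hQ'R eQ' h h₂'
        have hxC : x ∈ C := hSC hxS
        have hyC : y ∈ C := hSC hyS
        have ox : orderOf (⟨x, hxC⟩ : ↥C) = 2 := by rw [← Subgroup.orderOf_coe]; exact hx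
        have oy : orderOf (⟨y, hyC⟩ : ↥C) = 2 := by rw [← Subgroup.orderOf_coe]; exact hy2
        have hc := isConj_of_card_classes_eq_one hone (⟨x, hxC⟩ : ↥C) ⟨y, hyC⟩ ox oy
        obtain ⟨c, hc⟩ := isConj_iff.mp hc
        have h3 : (c : G) * x * (c : G)⁻¹ = y := by
          have h4 := congrArg Subtype.val hc
          simpa using h4
        have h4 : x * (c : G) = (c : G) * x := (hmemC _).mp c.2
        apply hxney
        rw [← h3, ← h4]
        group
    obtain ⟨⟨K, hKn, hK2, hKP, hKH⟩, hW, -, -⟩ := Cfsg.Agent.S1205.result R hR (T.subgroupOf C)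
      hT' hT'R (Q.subgroupOf C) hQ'R eQ' h₁' h₂'
    refine ⟨R, Nat.card_congr eR.toEquiv, ⟨K, hKn, ⟨1, by rw [hK2, pow_one]⟩, hKH, hKP⟩, ?_⟩
    intro Z₀ hZ₀
    obtain ⟨DR⟩ := Cfsg.Agent.helper6.QD.nonempty_data hR
    have hcard : Nat.card ↥((Subgroup.center ↥(R : Subgroup ↥C)).map
        (R : Subgroup ↥C).subtype) = 2 := by
      rw [Subgroup.card_map_of_injective (R : Subgroup ↥C).subtype_injective, DR.card_center]
    rcases eq_bot_or_eq_of_card_two _ Z₀ hcard hZ₀ with h | h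
    · rw [h]; exact isWeaklyClosed_bot _
    · rw [h]; exact hW
  rw [hCdef] at hconcl
  exact hconcl

/-- reduction to the case of a central involution of the Sylow 2-subgroup. -/
theorem concl_of_conj (P : ∀ S' : Sylow 2 G, Prop) (S : Sylow 2 G) (x z₀ : G)
    (hz₀ : z₀ ∈ (S : Subgroup G)) (hz₀c : ∀ s ∈ (S : Subgroup G), s * z₀ = z₀ * s)
    (hconj : IsConj x z₀)
    (hmain : ∀ S' : Sylow 2 G, Nonempty (↥(S : Subgroup G) ≃* ↥(S' : Subgroup G)) →
      x ∈ (S' : Subgroup G) → (∀ s ∈ (S' : Subgroup G), s * x = x * s) →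
      Concl G (Nat.card S') x) :
    Concl G (Nat.card S) x := by
  obtain ⟨g, hg⟩ := isConj_iff.mp hconj
  have hmem : ∀ a : G, a ∈ ((g⁻¹ • S : Sylow 2 G) : Subgroup G) ↔ g * a * g⁻¹ ∈ (S : Subgroup G) := by
    intro a
    rw [Cfsg.Agent.helper10.sylow_smul_eq_map_conj, Cfsg.Agent.helper10.mem_map_conj_iff, inv_inv]
  have e1 : ↥(S : Subgroup G) ≃* ↥((g⁻¹ • S : Sylow 2 G) : Subgroup G) := Sylow.equivSMul S g⁻¹
  have h1 := hmain (g⁻¹ • S) ⟨e1⟩ ((hmem x).mpr (by rw [hg]; exact hz₀)) (by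
    intro s hs
    have h2 := hz₀c _ ((hmem s).mp hs)
    rw [← hg] at h2
    have h3 : g * (s * x) * g⁻¹ = g * (x * s) * g⁻¹ := by
      calc g * (s * x) * g⁻¹ = g * s * g⁻¹ * (g * x * g⁻¹) := by group
        _ = g * x * g⁻¹ * (g * s * g⁻¹) := h2
        _ = g * (x * s) * g⁻¹ := by group
    exact mul_left_cancel (mul_right_cancel h3))
  rw [← Nat.card_congr e1.toEquiv] at h1
  exact h1

theorem qd_result (hS : Cfsg.IsQuasiDihedral (S : Subgroup G))
    (hG : ∀ H : Subgroup G, H.index ≠ 2) (x : G) (hx : orderOf x = 2) :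
    Concl G (Nat.card S) x := by
  have : Fact (Nat.Prime 2) := ⟨Nat.prime_two⟩
  obtain ⟨D⟩ := Cfsg.Agent.helper6.QD.nonempty_data hS
  obtain ⟨z₀, hz₀⟩ : ∃ z₀ : G, z₀ = ((D.e D.h : ↥(S : Subgroup G)) : G) := ⟨_, rfl⟩
  obtain ⟨y, hy⟩ : ∃ y : G, y = ((D.b 0 : ↥(S : Subgroup G)) : G) := ⟨_, rfl⟩
  have hz₀S : z₀ ∈ (S : Subgroup G) := by rw [hz₀]; exact (D.e D.h).2
  have hyS : y ∈ (S : Subgroup G) := by rw [hy]; exact (D.b 0).2
  have hz2 : orderOf z₀ = 2 := by rw [hz₀]; exact Cfsg.Agent.helper6.QDFus.orderOf_z S D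
  have hy2 : orderOf y = 2 := by rw [hy]; exact Cfsg.Agent.helper6.QDFus.orderOf_y S D
  have hz₀c : ∀ s ∈ (S : Subgroup G), s * z₀ = z₀ * s := by
    intro s hs
    have h1 := D.e_h_comm ⟨s, hs⟩
    have h2 := congrArg Subtype.val h1
    rw [hz₀]
    exact h2.symm
  have hzz : z₀ * z₀ = 1 := by rw [← pow_two, ← hz2]; exact pow_orderOf_eq_one z₀
  have hyy : y * y = 1 := by rw [← pow_two, ← hy2]; exact pow_orderOf_eq_one y
  have hzy : z₀ * y = y * z₀ := (hz₀c y hyS).symm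
  have hz1 : z₀ ≠ 1 := by
    intro h; rw [h, orderOf_one] at hz2; norm_num at hz2
  have hy1 : y ≠ 1 := by
    intro h; rw [h, orderOf_one] at hy2; norm_num at hy2
  have hzney : z₀ ≠ y := by
    rw [hz₀, hy]
    intro h
    exact D.e_ne_b _ _ (Subtype.ext h)
  obtain ⟨T, hTdef⟩ : ∃ T : Subgroup G, T = Cfsg.Agent.helper6.Klein.four z₀ y hzz hyy hzy :=
    ⟨_, rfl⟩
  have hT : IsKleinFour T := by
    rw [hTdef]; exact Cfsg.Agent.helper6.Klein.isKleinFour_four hzz hyy hzy hz1 hy1 hzney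
  have hTS : T ≤ S := by
    rw [hTdef]
    rintro g (rfl | rfl | rfl | rfl)
    · exact one_mem _
    · exact hz₀S
    · exact hyS
    · exact mul_mem hz₀S hyS
  obtain ⟨Q₀, ⟨eQ₀⟩, hzQ₀⟩ := exists_q8 D
  obtain ⟨Q, hQdef⟩ : ∃ Q : Subgroup G, Q = Q₀.map (S : Subgroup G).subtype := ⟨_, rfl⟩
  have hQS : Q ≤ S := by rw [hQdef]; exact Subgroup.map_subtype_le _
  have eQ : Q ≃* QuaternionGroup 2 := by
    rw [hQdef]
    exact (Q₀.equivMapOfInjective _ (S : Subgroup G).subtype_injective).symm.trans eQ₀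
  obtain ⟨h₁, -⟩ := indices_six S hS hG T hT hTS Q hQS eQ
  have hconj : IsConj x z₀ := by
    rw [hz₀]; exact Cfsg.Agent.helper6.QDFus.invol_conj_of_six S D T hT hTS h₁ x hx
  apply concl_of_conj (fun _ => True) S x z₀ hz₀S hz₀c hconj
  intro S' ⟨e1⟩ hxS' hxc'
  exact qd_central S' (isQuasiDihedral_of_equiv e1 hS) hG x hx hxS' hxc'

end Cfsg.Agent.helper6.QDCent
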