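import Mathlib
import Cfsg.Prelude.Def_CaseTheorems
import Cfsg.Agent.Lib_helper6_ZExp
import Cfsg.Agent.Lib_helper6_TwoPow

set_option autoImplicit false
set_option linter.unusedSectionVars false
set_option linter.unusedVariables false
set_option linter.style.haveILetI false

namespace Cfsg.Agent.helper6.Wr

open Cfsg.Agent.helper6.ZExp Cfsg.Agent.helper6.TwoPow

/-- The data of a wreathed group. -/
structure Data (S : Type*) [Group S] where
  n : ℕ
  hn : 2 ≤ n
  card : Nat.card S = 2 ^ (2 * n + 1)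
  x : S
  y : S
  z : S
  hx : orderOf x = 2 ^ n
  hxy : x * y = y * x
  hdisj : Subgroup.zpowers x ⊓ Subgroup.zpowers y = ⊥
  hz : orderOf z = 2
  hzx : z * x * z⁻¹ = y

variable {S : Type*} [Group S]

theorem nonempty_data (h : Cfsg.IsWreathed S) : Nonempty (Data S) := by
  obtain ⟨n, hn, hc, x, y, z, hx, hxy, hd, hz, hzx⟩ := h
  exact ⟨⟨n, hn, hc, x, y, z, hx, hxy, hd, hz, hzx⟩⟩

namespace Data

variable (D : Data S)

abbrev Z : Type := ZMod (2 ^ D.n)

def h : D.Z := half D.n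
def ex (i : D.Z) : S := E (2 ^ D.n) D.x i
def ey (i : D.Z) : S := E (2 ^ D.n) D.y i
def e (i j : D.Z) : S := D.ex i * D.ey j
def b (i j : D.Z) : S := D.e i j * D.z
def par : D.Z →+* ZMod 2 := TwoPow.par D.n (le_trans (by norm_num) D.hn)

theorem hn1 : 1 ≤ D.n := le_trans (by norm_num) D.hn

theorem zz : D.z * D.z = 1 := by
  rw [← pow_two, ← D.hz]; exact pow_orderOf_eq_one _

theorem z_inv : D.z⁻¹ = D.z := inv_eq_of_mul_eq_one_right D.zz

theorem z_ne_one : D.z ≠ 1 := by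
  intro h
  have := D.hz
  rw [h, orderOf_one] at this
  omega

theorem hy : orderOf D.y = 2 ^ D.n := by
  rw [← D.hzx, ← D.hx]
  exact (MulAut.conj D.z).orderOf_eq D.x

theorem hzy : D.z * D.y * D.z⁻¹ = D.x := by
  rw [← D.hzx, D.z_inv]
  calc D.z * (D.z * D.x * D.z) * D.z = (D.z * D.z) * D.x * (D.z * D.z) := by group
    _ = D.x := by rw [D.zz, one_mul, mul_one]

theorem two_h : 2 * D.h = 0 := two_mul_half D.hn1
theorem h_ne : D.h ≠ 0 := half_ne_zero D.hn1
theorem par_h : D.par D.h = 0 := par_half D.hn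
theorem hh : D.h * D.h = 0 := by
  obtain ⟨j, hj⟩ := (TwoPow.par_eq_zero_iff D.hn1 D.h).mp D.par_h
  have : D.h * D.h = D.h * (2 * j) := by rw [← hj]
  rw [this]; exact half_mul_two_mul D.hn1 j
theorem neg_h : -D.h = D.h := by linear_combination (-1 : D.Z) * D.two_h
theorem two_mul_eq_zero_iff (k : D.Z) : 2 * k = 0 ↔ k = 0 ∨ k = D.h :=
  TwoPow.two_mul_eq_zero_iff D.hn1 k
theorem par_cases (i : D.Z) : D.par i = 0 ∨ D.par i = 1 := zmod2_cases _
theorem par_eq_zero_iff (k : D.Z) : D.par k = 0 ↔ ∃ j : D.Z, k = 2 * j :=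
  TwoPow.par_eq_zero_iff _ k
theorem par_eq_one_iff (k : D.Z) : D.par k = 1 ↔ ∃ j : D.Z, k = 2 * j + 1 :=
  TwoPow.par_eq_one_iff _ k
theorem exists_inv_of_odd {k : D.Z} (hk : D.par k = 1) : ∃ k' : D.Z, k * k' = 1 :=
  exists_inv_of_par_one D.hn1 hk
theorem h_mul_even {k : D.Z} (hk : D.par k = 0) : D.h * k = 0 :=
  half_mul_of_par_zero D.hn1 hk
theorem h_mul_odd {k : D.Z} (hk : D.par k = 1) : D.h * k = D.h :=
  half_mul_of_par_one D.hn1 hk

theorem one_ne_zero' : (1 : D.Z) ≠ 0 := by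
  intro h
  have := congrArg D.par h
  rw [map_one, map_zero] at this
  exact absurd this (by decide)

/-! ### the abelian part -/

theorem ex_ey_comm (i j : D.Z) : D.ex i * D.ey j = D.ey j * D.ex i :=
  E_commute D.hx D.hxy i j

theorem ex_add (i j : D.Z) : D.ex (i + j) = D.ex i * D.ex j := E_add D.hx i j
theorem ey_add (i j : D.Z) : D.ey (i + j) = D.ey i * D.ey j := E_add D.hy i j

theorem e_e (i j k l : D.Z) : D.e i j * D.e k l = D.e (i + k) (j + l) := by
  unfold e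
  rw [D.ex_add, D.ey_add]
  calc D.ex i * D.ey j * (D.ex k * D.ey l) = D.ex i * (D.ey j * D.ex k) * D.ey l := by group
    _ = D.ex i * (D.ex k * D.ey j) * D.ey l := by rw [D.ex_ey_comm]
    _ = D.ex i * D.ex k * (D.ey j * D.ey l) := by group

theorem e_zero : D.e 0 0 = 1 := by
  unfold e ex ey; rw [E_zero, E_zero, one_mul]

theorem e_inv (i j : D.Z) : (D.e i j)⁻¹ = D.e (-i) (-j) := by
  rw [inv_eq_iff_mul_eq_one, D.e_e, add_neg_cancel, add_neg_cancel, D.e_zero]

theorem ex_eq_ey_iff (i j : D.Z) : D.ex i = D.ey j ↔ i = 0 ∧ j = 0 := by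
  constructor
  · intro h
    have h1 : D.ex i ∈ Subgroup.zpowers D.x ⊓ Subgroup.zpowers D.y :=
      ⟨E_mem_zpowers i, by rw [h]; exact E_mem_zpowers j⟩
    rw [D.hdisj, Subgroup.mem_bot] at h1
    have h2 : D.ey j = 1 := by rw [← h, h1]
    exact ⟨(E_eq_one_iff D.hx).mp h1, (E_eq_one_iff D.hy).mp h2⟩
  · rintro ⟨rfl, rfl⟩
    unfold ex ey; rw [E_zero, E_zero]

theorem e_eq_one_iff (i j : D.Z) : D.e i j = 1 ↔ i = 0 ∧ j = 0 := by
  unfold e
  rw [mul_eq_one_iff_eq_inv]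
  have : (D.ey j)⁻¹ = D.ey (-j) := E_inv D.hy j
  rw [this, D.ex_eq_ey_iff, neg_eq_zero]

theorem e_inj {i j k l : D.Z} : D.e i j = D.e k l ↔ i = k ∧ j = l := by
  constructor
  · intro h
    have h1 : D.e (i - k) (j - l) = 1 := by
      have : D.e (i - k) (j - l) = D.e i j * (D.e k l)⁻¹ := by
        rw [D.e_inv, D.e_e]; congr 1 <;> ring
      rw [this, h, mul_inv_cancel]
    obtain ⟨h2, h3⟩ := (D.e_eq_one_iff _ _).mp h1
    exact ⟨sub_eq_zero.mp h2, sub_eq_zero.mp h3⟩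
  · rintro ⟨rfl, rfl⟩; rfl

theorem conj_ex (i : D.Z) : D.z * D.ex i * D.z⁻¹ = D.ey i := by
  unfold ex ey E
  rw [← conj_pow, D.hzx]

theorem conj_ey (i : D.Z) : D.z * D.ey i * D.z⁻¹ = D.ex i := by
  unfold ex ey E
  rw [← conj_pow, D.hzy]

theorem conj_z_e (i j : D.Z) : D.z * D.e i j * D.z⁻¹ = D.e j i := by
  unfold e
  calc D.z * (D.ex i * D.ey j) * D.z⁻¹ = (D.z * D.ex i * D.z⁻¹) * (D.z * D.ey j * D.z⁻¹) := by
        group
    _ = D.ey i * D.ex j := by rw [D.conj_ex, D.conj_ey]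
    _ = D.ex j * D.ey i := (D.ex_ey_comm j i).symm

theorem z_e (i j : D.Z) : D.z * D.e i j = D.e j i * D.z := by
  rw [← D.conj_z_e i j, inv_mul_cancel_right]

theorem e_b (i j k l : D.Z) : D.e i j * D.b k l = D.b (i + k) (j + l) := by
  unfold b; rw [← mul_assoc, D.e_e]

theorem b_e (i j k l : D.Z) : D.b i j * D.e k l = D.b (i + l) (j + k) := by
  unfold b; rw [mul_assoc, D.z_e, ← mul_assoc, D.e_e]

theorem b_b (i j k l : D.Z) : D.b i j * D.b k l = D.e (i + l) (j + k) := by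
  unfold b
  rw [mul_assoc, ← mul_assoc D.z, D.z_e, mul_assoc, D.zz, mul_one, D.e_e]

theorem b_inv (i j : D.Z) : (D.b i j)⁻¹ = D.b (-j) (-i) := by
  rw [inv_eq_iff_mul_eq_one, D.b_b, add_neg_cancel, add_neg_cancel, D.e_zero]

theorem b_zero : D.b 0 0 = D.z := by unfold b; rw [D.e_zero, one_mul]

theorem b_inj {i j k l : D.Z} : D.b i j = D.b k l ↔ i = k ∧ j = l := by
  unfold b; rw [mul_left_inj, D.e_inj]

theorem ex_eq (i : D.Z) : D.ex i = D.e i 0 := by
  unfold e ey; rw [E_zero, mul_one]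

theorem ey_eq (i : D.Z) : D.ey i = D.e 0 i := by
  unfold e ex; rw [E_zero, one_mul]

theorem x_eq : D.x = D.e 1 0 := by rw [← D.ex_eq]; exact (E_one D.hx).symm
theorem y_eq : D.y = D.e 0 1 := by rw [← D.ey_eq]; exact (E_one D.hy).symm

/-- The abelian subgroup `U`. -/
def U : Subgroup S where
  carrier := {g | ∃ i j, g = D.e i j}
  one_mem' := ⟨0, 0, D.e_zero.symm⟩
  mul_mem' := by
    rintro _ _ ⟨i, j, rfl⟩ ⟨k, l, rfl⟩
    exact ⟨_, _, D.e_e i j k l⟩
  inv_mem' := by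
    rintro _ ⟨i, j, rfl⟩
    exact ⟨_, _, D.e_inv i j⟩

theorem mem_U_iff (g : S) : g ∈ D.U ↔ ∃ i j, g = D.e i j := Iff.rfl

theorem e_mem_U (i j : D.Z) : D.e i j ∈ D.U := ⟨i, j, rfl⟩

theorem z_not_mem_U : D.z ∉ D.U := by
  rintro ⟨i, j, h⟩
  have h1 := D.z_e 1 0
  rw [h, D.e_e, D.e_e, D.e_inj] at h1
  have : (1 : D.Z) = 0 := by linear_combination h1.1 
  exact D.one_ne_zero' this

theorem b_ne_e (i j k l : D.Z) : D.b i j ≠ D.e k l := by
  intro h
  apply D.z_not_mem_U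
  have : D.z = (D.e i j)⁻¹ * D.e k l := by
    rw [← h]; unfold b; rw [inv_mul_cancel_left]
  rw [this]
  exact D.U.mul_mem (D.U.inv_mem (D.e_mem_U i j)) (D.e_mem_U k l)

theorem e_ne_b (i j k l : D.Z) : D.e i j ≠ D.b k l := fun h => D.b_ne_e _ _ _ _ h.symm

theorem b_ne_one (i j : D.Z) : D.b i j ≠ 1 := by
  rw [← D.e_zero]; exact D.b_ne_e _ _ _ _

/-- The embedding of `ZMod N × ZMod N`. -/
def prodHom : Multiplicative (D.Z × D.Z) →* S where
  toFun := fun p => D.e (Multiplicative.toAdd p).1 (Multiplicative.toAdd p).2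
  map_one' := D.e_zero
  map_mul' := by
    intro p q
    exact (D.e_e _ _ _ _).symm

theorem prodHom_injective : Function.Injective D.prodHom := by
  intro p q hpq
  have := D.e_inj.mp hpq
  exact Multiplicative.toAdd.injective (Prod.ext this.1 this.2)

theorem prodHom_range : D.prodHom.range = D.U := by
  ext g
  constructor
  · rintro ⟨p, rfl⟩; exact D.e_mem_U _ _
  · rintro ⟨i, j, rfl⟩; exact ⟨Multiplicative.ofAdd (i, j), rfl⟩

theorem card_U : Nat.card D.U = 2 ^ (2 * D.n) := by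
  rw [← D.prodHom_range, ← Nat.card_congr (MonoidHom.ofInjective D.prodHom_injective).toEquiv]
  rw [Nat.card_eq_fintype_card, Fintype.card_multiplicative, Fintype.card_prod, ZMod.card]
  ring

theorem U_equiv : Nonempty (D.U ≃* Multiplicative (ZMod (2 ^ D.n) × ZMod (2 ^ D.n))) :=
  ⟨(MulEquiv.subgroupCongr D.prodHom_range.symm).trans
    (MonoidHom.ofInjective D.prodHom_injective).symm⟩

variable [Finite S]

theorem index_U : D.U.index = 2 := by
  have h1 := D.U.card_mul_index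
  rw [D.card_U, D.card, pow_succ] at h1
  exact Nat.eq_of_mul_eq_mul_left (by positivity) h1

theorem cases (g : S) : (∃ i j, g = D.e i j) ∨ (∃ i j, g = D.b i j) := by
  by_cases hg : g ∈ D.U
  · exact Or.inl hg
  · right
    have : g * D.z ∈ D.U := by
      rw [Subgroup.mul_mem_iff_of_index_two D.index_U]
      exact ⟨fun h => absurd h hg, fun h => absurd h D.z_not_mem_U⟩
    obtain ⟨i, j, hij⟩ := this
    refine ⟨i, j, ?_⟩
    unfold b
    rw [← hij, mul_assoc, D.zz, mul_one]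

end Data

end Cfsg.Agent.helper6.Wr
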