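import Mathlib
import Cfsg.Agent.Lib_helper6_Wr

set_option autoImplicit false
set_option linter.unusedSectionVars false
set_option linter.unusedVariables false
set_option linter.style.haveILetI false

namespace Cfsg.Agent.helper6.Wr

open Cfsg.Agent.helper6.ZExp Cfsg.Agent.helper6.TwoPow

variable {S : Type*} [Group S]

namespace Data

variable (D : Data S)

theorem sq_e (i j : D.Z) : D.e i j ^ 2 = D.e (2 * i) (2 * j) := by
  rw [pow_two, D.e_e, two_mul, two_mul]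

theorem sq_b (i j : D.Z) : D.b i j ^ 2 = D.e (i + j) (i + j) := by
  rw [pow_two, D.b_b, add_comm j i]

theorem orderOf_eq_two_iff' {t : S} : orderOf t = 2 ↔ t ^ 2 = 1 ∧ t ≠ 1 := by
  haveI : Fact (Nat.Prime 2) := ⟨Nat.prime_two⟩
  exact orderOf_eq_prime_iff

theorem orderOf_e_eq_two_iff (i j : D.Z) :
    orderOf (D.e i j) = 2 ↔ (i = D.h ∧ j = 0) ∨ (i = 0 ∧ j = D.h) ∨ (i = D.h ∧ j = D.h) := by
  rw [orderOf_eq_two_iff', D.sq_e, D.e_eq_one_iff, Ne, D.e_eq_one_iff, D.two_mul_eq_zero_iff,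
    D.two_mul_eq_zero_iff]
  constructor
  · rintro ⟨⟨h1 | h1, h2 | h2⟩, h3⟩
    · exact absurd ⟨h1, h2⟩ h3
    · exact Or.inr (Or.inl ⟨h1, h2⟩)
    · exact Or.inl ⟨h1, h2⟩
    · exact Or.inr (Or.inr ⟨h1, h2⟩)
  · rintro (⟨h1, h2⟩ | ⟨h1, h2⟩ | ⟨h1, h2⟩)
    · exact ⟨⟨Or.inr h1, Or.inl h2⟩, fun h => D.h_ne (h1 ▸ h.1)⟩
    · exact ⟨⟨Or.inl h1, Or.inr h2⟩, fun h => D.h_ne (h2 ▸ h.2)⟩
    · exact ⟨⟨Or.inr h1, Or.inr h2⟩, fun h => D.h_ne (h1 ▸ h.1)⟩

theorem orderOf_b_eq_two_iff (i j : D.Z) : orderOf (D.b i j) = 2 ↔ i + j = 0 := by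
  rw [orderOf_eq_two_iff', D.sq_b, D.e_eq_one_iff]
  exact ⟨fun h => h.1.1, fun h => ⟨⟨h, h⟩, D.b_ne_one i j⟩⟩

theorem conj_e_e (k l i j : D.Z) : D.e k l * D.e i j * (D.e k l)⁻¹ = D.e i j := by
  rw [D.e_inv, D.e_e, D.e_e, D.e_inj]; constructor <;> ring

theorem conj_e_b (k l i j : D.Z) :
    D.e k l * D.b i j * (D.e k l)⁻¹ = D.b (i + k - l) (j + l - k) := by
  rw [D.e_inv, D.e_b, D.b_e, D.b_inj]; constructor <;> ring

theorem conj_b_e (k l i j : D.Z) : D.b k l * D.e i j * (D.b k l)⁻¹ = D.e j i := by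
  rw [D.b_inv, D.b_e, D.b_b, D.e_inj]; constructor <;> ring

theorem conj_b_b (k l i j : D.Z) :
    D.b k l * D.b i j * (D.b k l)⁻¹ = D.b (k + j - l) (l + i - k) := by
  rw [D.b_inv, D.b_b, D.e_b, D.b_inj]; constructor <;> ring

variable [Finite S]

theorem isConj_e_iff (i j : D.Z) (g : S) : IsConj (D.e i j) g ↔ g = D.e i j ∨ g = D.e j i := by
  rw [isConj_iff]
  constructor
  · rintro ⟨c, rfl⟩
    rcases D.cases c with ⟨k, l, rfl⟩ | ⟨k, l, rfl⟩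
    · left; exact D.conj_e_e k l i j
    · right; exact D.conj_b_e k l i j
  · rintro (rfl | rfl)
    · exact ⟨1, by group⟩
    · exact ⟨D.z, D.conj_z_e i j⟩

theorem isConj_b_z (i : D.Z) : IsConj (D.b i (-i)) D.z := by
  rw [isConj_iff]
  refine ⟨D.e (-i) 0, ?_⟩
  rw [D.conj_e_b, ← D.b_zero, D.b_inj]; constructor <;> ring

include D in
theorem card_invol_classes :
    Nat.card {C : ConjClasses S // ∃ t : S, orderOf t = 2 ∧ ConjClasses.mk t = C} = 3 := by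
  have h0 : Nat.card {C : ConjClasses S // ∃ t : S, orderOf t = 2 ∧ ConjClasses.mk t = C}
      = Set.ncard {C : ConjClasses S | ∃ t : S, orderOf t = 2 ∧ ConjClasses.mk t = C} :=
    Nat.card_coe_set_eq _
  rw [h0, Set.ncard_eq_three]
  refine ⟨ConjClasses.mk (D.e D.h D.h), ConjClasses.mk (D.e D.h 0), ConjClasses.mk D.z, ?_, ?_, ?_,
    ?_⟩
  · rw [Ne, ConjClasses.mk_eq_mk_iff_isConj, D.isConj_e_iff]
    rintro (h | h)
    · exact D.h_ne (D.e_inj.mp h).2.symm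
    · exact D.h_ne (D.e_inj.mp h).2.symm
  · rw [Ne, ConjClasses.mk_eq_mk_iff_isConj, D.isConj_e_iff, ← D.b_zero]
    rintro (h | h) <;> exact D.b_ne_e _ _ _ _ h
  · rw [Ne, ConjClasses.mk_eq_mk_iff_isConj, D.isConj_e_iff, ← D.b_zero]
    rintro (h | h) <;> exact D.b_ne_e _ _ _ _ h
  · ext C
    simp only [Set.mem_ofPred_eq, Set.mem_insert_iff, Set.mem_singleton_iff]
    constructor
    · rintro ⟨t, ht, rfl⟩
      rcases D.cases t with ⟨i, j, rfl⟩ | ⟨i, j, rfl⟩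
      · rcases (D.orderOf_e_eq_two_iff i j).mp ht with ⟨h1, h2⟩ | ⟨h1, h2⟩ | ⟨h1, h2⟩
        · right; left; rw [h1, h2]
        · right; left
          rw [h1, h2, ConjClasses.mk_eq_mk_iff_isConj, D.isConj_e_iff]
          right; rfl
        · left; rw [h1, h2]
      · right; right
        have hj : j = -i := by linear_combination (D.orderOf_b_eq_two_iff i j).mp ht
        rw [hj, ConjClasses.mk_eq_mk_iff_isConj]
        exact D.isConj_b_z i
    · rintro (rfl | rfl | rfl)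
      · exact ⟨_, (D.orderOf_e_eq_two_iff _ _).mpr (Or.inr (Or.inr ⟨rfl, rfl⟩)), rfl⟩
      · exact ⟨_, (D.orderOf_e_eq_two_iff _ _).mpr (Or.inl ⟨rfl, rfl⟩), rfl⟩
      · exact ⟨_, D.hz, rfl⟩

end Data

end Cfsg.Agent.helper6.Wr
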