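import Mathlib
import Cfsg.Agent.Lib_helper6_Wr2

set_option autoImplicit false
set_option linter.unusedSectionVars false
set_option linter.unusedVariables false
set_option linter.style.haveILetI false

namespace Cfsg.Agent.helper6.Wr

open Cfsg.Agent.helper6.ZExp Cfsg.Agent.helper6.TwoPow

variable {S : Type*} [Group S]

theorem card_eq_inf_mul_relIndex (H K : Subgroup S) :
    Nat.card K = Nat.card (H ⊓ K : Subgroup S) * H.relIndex K := by
  have h1 := (H.subgroupOf K).card_mul_index
  rw [← h1]
  congr 1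
  rw [← Subgroup.inf_subgroupOf_right]
  exact Nat.card_congr (Subgroup.subgroupOfEquivOfLe (inf_le_right : H ⊓ K ≤ K)).toEquiv

namespace Data

variable (D : Data S)

theorem comm_e_b_iff (k l i j : D.Z) : D.e k l * D.b i j = D.b i j * D.e k l ↔ k = l := by
  rw [D.e_b, D.b_e, D.b_inj]
  constructor
  · rintro ⟨h1, _⟩; linear_combination h1
  · rintro rfl; exact ⟨add_comm _ _, add_comm _ _⟩

/-- The diagonal embedding. -/
def diagHom : Multiplicative D.Z →* S where
  toFun := fun k => D.e (Multiplicative.toAdd k) (Multiplicative.toAdd k)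
  map_one' := D.e_zero
  map_mul' := by
    intro p q
    exact (D.e_e _ _ _ _).symm

theorem diagHom_injective : Function.Injective D.diagHom := by
  intro p q hpq
  have := D.e_inj.mp hpq
  exact Multiplicative.toAdd.injective this.1

/-- The diagonal subgroup (the centre). -/
def Zs : Subgroup S := D.diagHom.range

theorem mem_Zs_iff (g : S) : g ∈ D.Zs ↔ ∃ k : D.Z, g = D.e k k := by
  constructor
  · rintro ⟨p, rfl⟩; exact ⟨_, rfl⟩
  · rintro ⟨k, rfl⟩; exact ⟨Multiplicative.ofAdd k, rfl⟩

theorem card_Zs : Nat.card D.Zs = 2 ^ D.n := by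
  unfold Zs
  rw [← Nat.card_congr (MonoidHom.ofInjective D.diagHom_injective).toEquiv,
    Nat.card_eq_fintype_card, Fintype.card_multiplicative, ZMod.card]

theorem isCyclic_Zs : IsCyclic D.Zs := by
  unfold Zs
  have e1 := MonoidHom.ofInjective D.diagHom_injective
  rw [← e1.isCyclic]
  infer_instance

variable [Finite S]

instance U_normal : D.U.Normal := Subgroup.normal_of_index_eq_two D.index_U

theorem comm_eq_U (W : Subgroup S) (hW : ∀ a ∈ W, ∀ c ∈ W, a * c = c * a)
    (hcard : Nat.card W = 2 ^ (2 * D.n)) : W = D.U := by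
  have hle : W ≤ D.U := by
    by_contra hnot
    have hb : ∃ i j, D.b i j ∈ W := by
      by_contra hno
      push Not at hno
      apply hnot
      intro g hg
      rcases D.cases g with ⟨i, j, rfl⟩ | ⟨i, j, rfl⟩
      · exact D.e_mem_U i j
      · exact absurd hg (hno i j)
    obtain ⟨i, j, hij⟩ := hb
    have h1 : D.U ⊓ W ≤ D.Zs := by
      rintro g ⟨⟨k, l, rfl⟩, hgW⟩
      have := (D.comm_e_b_iff k l i j).mp (hW _ hgW _ hij)
      rw [D.mem_Zs_iff]
      exact ⟨k, by rw [this]⟩
    have h2 := card_eq_inf_mul_relIndex D.U W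
    have h3 : D.U.relIndex W ∣ 2 := by
      have := Subgroup.relIndex_dvd_index_of_normal D.U W
      rwa [D.index_U] at this
    have h4 : D.U.relIndex W ≤ 2 := Nat.le_of_dvd (by norm_num) h3
    have h5 : Nat.card (D.U ⊓ W : Subgroup S) ≤ 2 ^ D.n := by
      rw [← D.card_Zs]
      haveI : Finite D.Zs := inferInstance
      exact Subgroup.card_le_of_le h1
    have h6 : Nat.card W ≤ 2 ^ D.n * 2 := by
      rw [h2]; exact Nat.mul_le_mul h5 h4
    rw [hcard] at h6
    have h7 : 2 ^ (D.n + 1) < 2 ^ (2 * D.n) :=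
      Nat.pow_lt_pow_right (by norm_num) (by have := D.hn; omega)
    rw [pow_succ] at h7
    omega
  exact Subgroup.eq_of_le_of_card_ge hle (by rw [hcard, D.card_U])

theorem U_comm : ∀ a ∈ D.U, ∀ c ∈ D.U, a * c = c * a := by
  rintro _ ⟨i, j, rfl⟩ _ ⟨k, l, rfl⟩
  rw [D.e_e, D.e_e, add_comm i k, add_comm j l]

end Data

end Cfsg.Agent.helper6.Wr
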