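import Mathlib
import Cfsg.Agent.Lib_helper6_Wr3

set_option autoImplicit false
set_option linter.unusedSectionVars false
set_option linter.unusedVariables false
set_option linter.style.haveILetI false

namespace Cfsg.Agent.helper6.Wr

open Cfsg.Agent.helper6.ZExp Cfsg.Agent.helper6.TwoPow

variable {S : Type*} [Group S]

namespace Data

variable (D : Data S)

theorem comm_b_b_iff (i j k l : D.Z) :
    D.b i j * D.b k l = D.b k l * D.b i j ↔ i + l = k + j := by
  rw [D.b_b, D.b_b, D.e_inj]
  constructor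
  · rintro ⟨h1, _⟩; exact h1
  · intro h; exact ⟨h, by linear_combination -h⟩

variable [Finite S]

theorem e_diag_central (k : D.Z) (g : S) : D.e k k * g = g * D.e k k := by
  rcases D.cases g with ⟨i, j, rfl⟩ | ⟨i, j, rfl⟩
  · rw [D.e_e, D.e_e, add_comm k i, add_comm k j]
  · exact (D.comm_e_b_iff k k i j).mpr rfl

theorem center_eq : Subgroup.center S = D.Zs := by
  apply le_antisymm
  · intro g hg
    rw [Subgroup.mem_center_iff] at hg
    rcases D.cases g with ⟨k, l, rfl⟩ | ⟨k, l, rfl⟩
    · have := (D.comm_e_b_iff k l 0 0).mp (hg (D.b 0 0)).symm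
      rw [D.mem_Zs_iff]; exact ⟨k, by rw [this]⟩
    · exfalso
      have h1 := hg (D.e 1 0)
      rw [D.e_b, D.b_e, D.b_inj] at h1
      apply D.one_ne_zero'
      linear_combination h1.1
  · intro g hg
    obtain ⟨k, rfl⟩ := (D.mem_Zs_iff g).mp hg
    rw [Subgroup.mem_center_iff]
    intro t
    exact (D.e_diag_central k t).symm

include D in
theorem center_le_of_noncomm (X : Subgroup S) (hX : ¬ IsMulCommutative X) :
    (Subgroup.center X).map X.subtype ≤ Subgroup.center S := by
  rintro g ⟨⟨g', hg'⟩, hgz, rfl⟩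
  rw [SetLike.mem_coe, Subgroup.mem_center_iff] at hgz
  have hcomm : ∀ t ∈ X, t * g' = g' * t := by
    intro t ht
    exact congrArg Subtype.val (hgz ⟨t, ht⟩)
  change g' ∈ Subgroup.center S
  rcases D.cases g' with ⟨k, l, rfl⟩ | ⟨k, l, rfl⟩
  · -- some element outside U
    have hb : ∃ i j, D.b i j ∈ X := by
      by_contra hno
      push Not at hno
      apply hX
      refine ⟨⟨fun a c => Subtype.ext ?_⟩⟩
      obtain ⟨a, ha⟩ := a
      obtain ⟨c, hc⟩ := c
      rcases D.cases a with ⟨i, j, rfl⟩ | ⟨i, j, rfl⟩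
      · rcases D.cases c with ⟨i', j', rfl⟩ | ⟨i', j', rfl⟩
        · exact D.U_comm _ (D.e_mem_U _ _) _ (D.e_mem_U _ _)
        · exact absurd hc (hno _ _)
      · exact absurd ha (hno _ _)
    obtain ⟨i, j, hij⟩ := hb
    have := (D.comm_e_b_iff k l i j).mp (hcomm _ hij).symm
    rw [D.center_eq, D.mem_Zs_iff]
    exact ⟨k, by rw [this]⟩
  · exfalso
    apply hX
    refine ⟨⟨fun a c => Subtype.ext ?_⟩⟩
    obtain ⟨a, ha⟩ := a
    obtain ⟨c, hc⟩ := c
    have h1 := hcomm a ha
    have h2 := hcomm c hc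
    change a * c = c * a
    rcases D.cases a with ⟨i, j, rfl⟩ | ⟨i, j, rfl⟩
    · have hij := (D.comm_e_b_iff i j k l).mp h1
      rw [hij]; exact D.e_diag_central j c
    · rcases D.cases c with ⟨i', j', rfl⟩ | ⟨i', j', rfl⟩
      · have hij := (D.comm_e_b_iff i' j' k l).mp h2
        rw [hij]; exact (D.e_diag_central j' _).symm
      · rw [D.comm_b_b_iff] at h1 h2 ⊢
        linear_combination h1 - h2

end Data

end Cfsg.Agent.helper6.Wr
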