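import Mathlib
import Cfsg.Agent.Lib_helper6_Wr4

set_option autoImplicit false
set_option linter.unusedSectionVars false
set_option linter.unusedVariables false
set_option linter.style.haveILetI false

namespace Cfsg.Agent.helper6.Wr

open Cfsg.Agent.helper6.ZExp Cfsg.Agent.helper6.TwoPow
open scoped commutatorElement

variable {S : Type*} [Group S]

namespace Data

variable (D : Data S)

theorem e_pow (i j : D.Z) (k : ℕ) : D.e i j ^ k = D.e (i * k) (j * k) := by
  induction k with
  | zero => rw [pow_zero, Nat.cast_zero, mul_zero, mul_zero, D.e_zero]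
  | succ k ih =>
    rw [pow_succ, ih, D.e_e, D.e_inj]
    constructor <;> (push_cast; ring)

/-- The antidiagonal embedding. -/
def antiHom : Multiplicative D.Z →* S where
  toFun := fun k => D.e (Multiplicative.toAdd k) (-(Multiplicative.toAdd k))
  map_one' := by
    change D.e 0 (-0) = 1
    rw [neg_zero, D.e_zero]
  map_mul' := by
    intro p q
    change D.e (p.toAdd + q.toAdd) (-(p.toAdd + q.toAdd)) = D.e p.toAdd (-p.toAdd) * D.e q.toAdd (-q.toAdd)
    rw [D.e_e, D.e_inj]
    constructor <;> ring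

theorem antiHom_injective : Function.Injective D.antiHom := by
  intro p q hpq
  have := D.e_inj.mp hpq
  exact Multiplicative.toAdd.injective this.1

/-- The antidiagonal subgroup (the derived subgroup). -/
def K : Subgroup S := D.antiHom.range

theorem mem_K_iff (g : S) : g ∈ D.K ↔ ∃ k : D.Z, g = D.e k (-k) := by
  constructor
  · rintro ⟨p, rfl⟩; exact ⟨_, rfl⟩
  · rintro ⟨k, rfl⟩; exact ⟨Multiplicative.ofAdd k, rfl⟩

theorem card_K : Nat.card D.K = 2 ^ D.n := by
  unfold K
  rw [← Nat.card_congr (MonoidHom.ofInjective D.antiHom_injective).toEquiv,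
    Nat.card_eq_fintype_card, Fintype.card_multiplicative, ZMod.card]

theorem isCyclic_K : IsCyclic D.K := by
  unfold K
  have e1 := MonoidHom.ofInjective D.antiHom_injective
  rw [← e1.isCyclic]
  infer_instance

variable [Finite S]

theorem commutator_eq : commutator S = D.K := by
  apply le_antisymm
  · rw [commutator_def, Subgroup.commutator_le]
    intro g₁ _ g₂ _
    rw [commutatorElement_def, D.mem_K_iff]
    rcases D.cases g₁ with ⟨i, j, rfl⟩ | ⟨i, j, rfl⟩
    · rcases D.cases g₂ with ⟨k, l, rfl⟩ | ⟨k, l, rfl⟩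
      · refine ⟨0, ?_⟩
        rw [D.conj_e_e, mul_inv_cancel, neg_zero, D.e_zero]
      · refine ⟨i - j, ?_⟩
        rw [D.conj_e_b, D.b_inv, D.b_b, D.e_inj]
        constructor <;> ring
    · rcases D.cases g₂ with ⟨k, l, rfl⟩ | ⟨k, l, rfl⟩
      · refine ⟨l - k, ?_⟩
        rw [D.conj_b_e, D.e_inv, D.e_e, D.e_inj]
        constructor <;> ring
      · refine ⟨i + l - j - k, ?_⟩
        rw [D.conj_b_b, D.b_inv, D.b_b, D.e_inj]
        constructor <;> ring
  · have h1 : D.e 1 (-1) ∈ commutator S := by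
      have h2 : ⁅D.e 1 0, D.b 0 0⁆ ∈ commutator S := by
        rw [commutator_def]
        exact Subgroup.commutator_mem_commutator (Subgroup.mem_top _) (Subgroup.mem_top _)
      have h3 : ⁅D.e 1 0, D.b 0 0⁆ = D.e 1 (-1) := by
        rw [commutatorElement_def, D.conj_e_b, D.b_inv, D.b_b, D.e_inj]
        constructor <;> ring
      rwa [h3] at h2
    intro g hg
    obtain ⟨k, rfl⟩ := (D.mem_K_iff g).mp hg
    have h2 : D.e k (-k) = D.e 1 (-1) ^ k.val := by
      rw [D.e_pow, ZMod.natCast_zmod_val, D.e_inj]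
      constructor <;> ring
    rw [h2]
    exact Subgroup.pow_mem _ h1 _

theorem mem_center_iff' (g : S) : g ∈ Subgroup.center S ↔ ∃ k : D.Z, g = D.e k k := by
  rw [D.center_eq, D.mem_Zs_iff]

theorem mk_central_mul (k : D.Z) (g : S) :
    ((D.e k k * g : S) : S ⧸ Subgroup.center S) = (g : S ⧸ Subgroup.center S) := by
  rw [QuotientGroup.mk_mul]
  have : ((D.e k k : S) : S ⧸ Subgroup.center S) = 1 := by
    rw [QuotientGroup.eq_one_iff, D.mem_center_iff']
    exact ⟨k, rfl⟩
  rw [this, one_mul]

/-- The dihedral quotient. -/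
noncomputable def quotHom : DihedralGroup (2 ^ D.n) →* S ⧸ Subgroup.center S :=
  MonoidHom.mk' (fun g => match g with
    | DihedralGroup.r k => ((D.e k 0 : S) : S ⧸ Subgroup.center S)
    | DihedralGroup.sr k => ((D.b 0 k : S) : S ⧸ Subgroup.center S)) (by
    rintro (i | i) (j | j)
    · simp only [DihedralGroup.r_mul_r]
      rw [← QuotientGroup.mk_mul, D.e_e, add_zero]
    · simp only [DihedralGroup.r_mul_sr]
      rw [← QuotientGroup.mk_mul, D.e_b, ← D.mk_central_mul i (D.b 0 (j - i)), D.e_b]
      congr 2 <;> ring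
    · simp only [DihedralGroup.sr_mul_r]
      rw [← QuotientGroup.mk_mul, D.b_e]
      congr 2 <;> ring
    · simp only [DihedralGroup.sr_mul_sr]
      rw [← QuotientGroup.mk_mul, D.b_b, ← D.mk_central_mul i (D.e (j - i) 0), D.e_e]
      congr 2 <;> ring)

theorem quotHom_r (k : D.Z) :
    D.quotHom (DihedralGroup.r k) = ((D.e k 0 : S) : S ⧸ Subgroup.center S) := rfl

theorem quotHom_sr (k : D.Z) :
    D.quotHom (DihedralGroup.sr k) = ((D.b 0 k : S) : S ⧸ Subgroup.center S) := rfl

theorem quotHom_injective : Function.Injective D.quotHom := by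
  rw [injective_iff_map_eq_one]
  rintro (k | k) hk
  · rw [quotHom_r, QuotientGroup.eq_one_iff, D.mem_center_iff'] at hk
    obtain ⟨c, hc⟩ := hk
    obtain ⟨h1, h2⟩ := D.e_inj.mp hc
    rw [h1, ← h2]; rfl
  · exfalso
    rw [quotHom_sr, QuotientGroup.eq_one_iff, D.mem_center_iff'] at hk
    obtain ⟨c, hc⟩ := hk
    exact D.b_ne_e _ _ _ _ hc

theorem card_center : Nat.card (Subgroup.center S) = 2 ^ D.n := by
  rw [D.center_eq, D.card_Zs]

theorem card_quot : Nat.card (S ⧸ Subgroup.center S) = 2 ^ (D.n + 1) := by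
  have h1 := Subgroup.card_eq_card_quotient_mul_card_subgroup (Subgroup.center S)
  rw [D.card, D.card_center] at h1
  have h2 : 2 ^ (2 * D.n + 1) = 2 ^ (D.n + 1) * 2 ^ D.n := by rw [← pow_add]; congr 1; ring
  rw [h2] at h1
  exact (Nat.eq_of_mul_eq_mul_right (by positivity) h1).symm

theorem quot_equiv : Nonempty (S ⧸ Subgroup.center S ≃* DihedralGroup (2 ^ D.n)) := by
  have hbij : Function.Bijective D.quotHom := by
    apply D.quotHom_injective.bijective_of_nat_card_le
    rw [D.card_quot, DihedralGroup.nat_card, pow_succ, mul_comm]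
  exact ⟨(MulEquiv.ofBijective D.quotHom hbij).symm⟩

end Data

end Cfsg.Agent.helper6.Wr
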