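import Mathlib
import Cfsg.Agent.Lib_helper6_Wr5

set_option autoImplicit false
set_option linter.unusedSectionVars false
set_option linter.unusedVariables false
set_option linter.style.haveILetI false
set_option linter.unnecessarySeqFocus false

namespace Cfsg.Agent.helper6.Wr

open Cfsg.Agent.helper6.ZExp Cfsg.Agent.helper6.TwoPow

variable {S : Type*} [Group S]

namespace Data

variable (D : Data S)

/-- The subgroup generated by the involutions. -/
def Om : Subgroup S where
  carrier := {g | ∃ i j, 2 * (i + j) = 0 ∧ (g = D.e i j ∨ g = D.b i j)}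
  one_mem' := ⟨0, 0, by ring, Or.inl D.e_zero.symm⟩
  mul_mem' := by
    rintro _ _ ⟨i, j, hij, rfl | rfl⟩ ⟨k, l, hkl, rfl | rfl⟩
    · exact ⟨_, _, by linear_combination hij + hkl, Or.inl (D.e_e _ _ _ _)⟩
    · exact ⟨_, _, by linear_combination hij + hkl, Or.inr (D.e_b _ _ _ _)⟩
    · exact ⟨_, _, by linear_combination hij + hkl, Or.inr (D.b_e _ _ _ _)⟩
    · exact ⟨_, _, by linear_combination hij + hkl, Or.inl (D.b_b _ _ _ _)⟩
  inv_mem' := by
    rintro _ ⟨i, j, hij, rfl | rfl⟩
    · exact ⟨_, _, by linear_combination (-1 : D.Z) * hij, Or.inl (D.e_inv _ _)⟩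
    · exact ⟨_, _, by linear_combination (-1 : D.Z) * hij, Or.inr (D.b_inv _ _)⟩

theorem e_mem_Om (i j : D.Z) : D.e i j ∈ D.Om ↔ 2 * (i + j) = 0 := by
  constructor
  · rintro ⟨k, l, hkl, h | h⟩
    · obtain ⟨rfl, rfl⟩ := D.e_inj.mp h; exact hkl
    · exact absurd h (D.e_ne_b _ _ _ _)
  · intro h; exact ⟨i, j, h, Or.inl rfl⟩

theorem b_mem_Om (i j : D.Z) : D.b i j ∈ D.Om ↔ 2 * (i + j) = 0 := by
  constructor
  · rintro ⟨k, l, hkl, h | h⟩
    · exact absurd h (D.b_ne_e _ _ _ _)
    · obtain ⟨rfl, rfl⟩ := D.b_inj.mp h; exact hkl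
  · intro h; exact ⟨i, j, h, Or.inr rfl⟩

variable [Finite S]

theorem closure_invol_eq : Subgroup.closure {x : S | orderOf x = 2} = D.Om := by
  apply le_antisymm
  · rw [Subgroup.closure_le]
    intro g hg
    rw [Set.mem_ofPred_eq] at hg
    rcases D.cases g with ⟨i, j, rfl⟩ | ⟨i, j, rfl⟩
    · rw [SetLike.mem_coe, D.e_mem_Om]
      rcases (D.orderOf_e_eq_two_iff i j).mp hg with ⟨h1, h2⟩ | ⟨h1, h2⟩ | ⟨h1, h2⟩
      · rw [h1, h2]; linear_combination D.two_h
      · rw [h1, h2]; linear_combination D.two_h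
      · rw [h1, h2]; linear_combination 2 * D.two_h
    · rw [SetLike.mem_coe, D.b_mem_Om, (D.orderOf_b_eq_two_iff i j).mp hg, mul_zero]
  · have hb : ∀ i : D.Z, D.b i (-i) ∈ Subgroup.closure {x : S | orderOf x = 2} := by
      intro i
      apply Subgroup.subset_closure
      exact (D.orderOf_b_eq_two_iff i (-i)).mpr (add_neg_cancel i)
    have he : D.e 0 D.h ∈ Subgroup.closure {x : S | orderOf x = 2} := by
      apply Subgroup.subset_closure
      exact (D.orderOf_e_eq_two_iff _ _).mpr (Or.inr (Or.inl ⟨rfl, rfl⟩))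
    have hea : ∀ i : D.Z, D.e i (-i) ∈ Subgroup.closure {x : S | orderOf x = 2} := by
      intro i
      have : D.e i (-i) = D.b i (-i) * D.b 0 (-0) := by
        rw [D.b_b, D.e_inj]; constructor <;> ring
      rw [this]
      exact Subgroup.mul_mem _ (hb i) (hb 0)
    rintro g ⟨i, j, hij, rfl | rfl⟩
    · rcases (D.two_mul_eq_zero_iff _).mp hij with h | h
      · have : j = -i := by linear_combination h
        rw [this]; exact hea i
      · have : D.e i j = D.e 0 D.h * D.e i (-i) := by
          rw [D.e_e, D.e_inj]; constructor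
          · ring
          · linear_combination h
        rw [this]
        exact Subgroup.mul_mem _ he (hea i)
    · rcases (D.two_mul_eq_zero_iff _).mp hij with h | h
      · have : j = -i := by linear_combination h
        rw [this]; exact hb i
      · have : D.b i j = D.e 0 D.h * D.b i (-i) := by
          rw [D.e_b, D.b_inj]; constructor
          · ring
          · linear_combination h
        rw [this]
        exact Subgroup.mul_mem _ he (hb i)

/-- parametrisation of `Om` -/
def omFun (p : D.Z × Bool × Bool) : S :=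
  if p.2.2 then D.b p.1 (-p.1 + (if p.2.1 then D.h else 0))
  else D.e p.1 (-p.1 + (if p.2.1 then D.h else 0))

theorem omFun_injective : Function.Injective D.omFun := by
  have key : ∀ (ε ε' : Bool) (i : D.Z),
      (-i + (if ε then D.h else 0) = -i + (if ε' then D.h else 0)) → ε = ε' := by
    intro ε ε' i h
    cases ε <;> cases ε' <;> simp only [Bool.false_eq_true, if_false, if_true, add_zero] at h ⊢
    · have : D.h = 0 := by linear_combination -h
      exact absurd this D.h_ne
    · have : D.h = 0 := by linear_combination h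
      exact absurd this D.h_ne
  rintro ⟨i, ε, δ⟩ ⟨i', ε', δ'⟩ h
  unfold omFun at h
  cases δ <;> cases δ' <;> simp only [Bool.false_eq_true, if_false, if_true] at h
  · obtain ⟨rfl, h2⟩ := D.e_inj.mp h
    rw [key ε ε' i h2]
  · exact absurd h (D.e_ne_b _ _ _ _)
  · exact absurd h (D.b_ne_e _ _ _ _)
  · obtain ⟨rfl, h2⟩ := D.b_inj.mp h
    rw [key ε ε' i h2]

theorem range_omFun : Set.range D.omFun = (D.Om : Set S) := by
  ext g
  constructor
  · rintro ⟨⟨i, ε, δ⟩, rfl⟩
    unfold omFun
    have hs : 2 * (i + (-i + (if ε then D.h else 0))) = 0 := by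
      cases ε <;> simp only [Bool.false_eq_true, if_false, if_true]
      · ring
      · linear_combination D.two_h
    cases δ <;> simp only [Bool.false_eq_true, if_false, if_true]
    · exact (D.e_mem_Om _ _).mpr hs
    · exact (D.b_mem_Om _ _).mpr hs
  · rintro ⟨i, j, hij, rfl | rfl⟩
    · rcases (D.two_mul_eq_zero_iff _).mp hij with h | h
      · refine ⟨(i, false, false), ?_⟩
        unfold omFun
        simp only [Bool.false_eq_true, if_false, add_zero]
        rw [D.e_inj]; exact ⟨rfl, by linear_combination -h⟩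
      · refine ⟨(i, true, false), ?_⟩
        unfold omFun
        simp only [Bool.false_eq_true, if_false, if_true]
        rw [D.e_inj]; exact ⟨rfl, by linear_combination -h⟩
    · rcases (D.two_mul_eq_zero_iff _).mp hij with h | h
      · refine ⟨(i, false, true), ?_⟩
        unfold omFun
        simp only [Bool.false_eq_true, if_false, if_true, add_zero]
        rw [D.b_inj]; exact ⟨rfl, by linear_combination -h⟩
      · refine ⟨(i, true, true), ?_⟩
        unfold omFun
        simp only [if_true]
        rw [D.b_inj]; exact ⟨rfl, by linear_combination -h⟩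

theorem card_Om : Nat.card D.Om = 2 ^ (D.n + 2) := by
  have h1 : Nat.card D.Om = Nat.card (Set.range D.omFun) := by
    rw [D.range_omFun]; rfl
  rw [h1, Nat.card_range_of_injective D.omFun_injective, Nat.card_prod, Nat.card_prod,
    Nat.card_eq_fintype_card, ZMod.card, Nat.card_eq_fintype_card, Fintype.card_bool]
  ring

theorem Om_sup_x : D.Om ⊔ Subgroup.zpowers D.x = ⊤ := by
  rw [Subgroup.eq_top_iff']
  have hx : ∀ i : D.Z, D.ex i ∈ D.Om ⊔ Subgroup.zpowers D.x := fun i =>
    (le_sup_right : Subgroup.zpowers D.x ≤ _) (E_mem_zpowers i)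
  have hz : D.z ∈ D.Om ⊔ Subgroup.zpowers D.x := by
    apply (le_sup_left : D.Om ≤ _)
    rw [← D.b_zero, D.b_mem_Om]; ring
  have hy : ∀ i : D.Z, D.ey i ∈ D.Om ⊔ Subgroup.zpowers D.x := by
    intro i
    rw [← D.conj_ex]
    exact Subgroup.mul_mem _ (Subgroup.mul_mem _ hz (hx i)) (Subgroup.inv_mem _ hz)
  intro g
  rcases D.cases g with ⟨i, j, rfl⟩ | ⟨i, j, rfl⟩
  · exact Subgroup.mul_mem _ (hx i) (hy j)
  · exact Subgroup.mul_mem _ (Subgroup.mul_mem _ (hx i) (hy j)) hz

end Data

end Cfsg.Agent.helper6.Wr
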