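import Mathlib
import Cfsg.Agent.Lib_helper6_Wr6
import Cfsg.Agent.Lib_helper6_Klein

set_option autoImplicit false
set_option linter.unusedSectionVars false
set_option linter.unusedVariables false
set_option linter.style.haveILetI false
set_option linter.unnecessarySeqFocus false

namespace Cfsg.Agent.helper6.Wr

open Cfsg.Agent.helper6.ZExp Cfsg.Agent.helper6.TwoPow Cfsg.Agent.helper6.Klein

variable {S : Type*} [Group S]

namespace Data

variable (D : Data S)

theorem e_sq_one {i j : D.Z} (hi : 2 * i = 0) (hj : 2 * j = 0) : D.e i j * D.e i j = 1 := by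
  rw [D.e_e, D.e_eq_one_iff]
  exact ⟨by linear_combination hi, by linear_combination hj⟩

theorem b_sq_one (i : D.Z) : D.b i (-i) * D.b i (-i) = 1 := by
  rw [D.b_b, D.e_eq_one_iff]
  exact ⟨by ring, by ring⟩

/-- The normal four-group. -/
def T0 : Subgroup S :=
  four (D.e D.h 0) (D.e 0 D.h) (D.e_sq_one D.two_h (mul_zero 2)) (D.e_sq_one (mul_zero 2) D.two_h)
    (by rw [D.e_e, D.e_e, D.e_inj]; constructor <;> ring)

theorem isKleinFour_T0 : IsKleinFour D.T0 := by
  unfold T0
  apply isKleinFour_four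
  · rw [Ne, D.e_eq_one_iff]; exact fun h => D.h_ne h.1
  · rw [Ne, D.e_eq_one_iff]; exact fun h => D.h_ne h.2
  · rw [Ne, D.e_inj]; exact fun h => D.h_ne h.1

theorem mem_T0_iff (g : S) : g ∈ D.T0 ↔ ∃ i j, 2 * i = 0 ∧ 2 * j = 0 ∧ g = D.e i j := by
  unfold T0
  rw [mem_four]
  constructor
  · rintro (rfl | rfl | rfl | rfl)
    · exact ⟨0, 0, mul_zero _, mul_zero _, D.e_zero.symm⟩
    · exact ⟨D.h, 0, D.two_h, mul_zero _, rfl⟩
    · exact ⟨0, D.h, mul_zero _, D.two_h, rfl⟩
    · exact ⟨D.h, D.h, D.two_h, D.two_h, by rw [D.e_e, add_zero, zero_add]⟩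
  · rintro ⟨i, j, hi, hj, rfl⟩
    rcases (D.two_mul_eq_zero_iff i).mp hi with rfl | rfl <;>
      rcases (D.two_mul_eq_zero_iff j).mp hj with rfl | rfl
    · left; exact D.e_zero
    · right; right; left; rfl
    · right; left; rfl
    · right; right; right; rw [D.e_e, add_zero, zero_add]

/-- The other four-groups. -/
def T1 (i : D.Z) : Subgroup S :=
  four (D.e D.h D.h) (D.b i (-i)) (D.e_sq_one D.two_h D.two_h) (D.b_sq_one i)
    ((D.comm_e_b_iff _ _ _ _).mpr rfl)

theorem isKleinFour_T1 (i : D.Z) : IsKleinFour (D.T1 i) := by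
  unfold T1
  apply isKleinFour_four
  · rw [Ne, D.e_eq_one_iff]; exact fun h => D.h_ne h.1
  · exact D.b_ne_one _ _
  · exact D.e_ne_b _ _ _ _

theorem mem_T1_iff (i : D.Z) (g : S) :
    g ∈ D.T1 i ↔ g = 1 ∨ g = D.e D.h D.h ∨ g = D.b i (-i) ∨ g = D.b (i + D.h) (-i + D.h) := by
  unfold T1
  rw [mem_four, D.e_b, add_comm D.h i, add_comm D.h (-i)]

variable [Finite S]

theorem T0_normal : D.T0.Normal := by
  constructor
  intro t ht g
  obtain ⟨i, j, hi, hj, rfl⟩ := (D.mem_T0_iff t).mp ht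
  rcases D.cases g with ⟨k, l, rfl⟩ | ⟨k, l, rfl⟩
  · rw [D.conj_e_e]; exact ht
  · rw [D.conj_b_e, D.mem_T0_iff]; exact ⟨j, i, hj, hi, rfl⟩

theorem T1_ne_T0 (i : D.Z) : D.T1 i ≠ D.T0 := by
  intro h
  have h1 : D.b i (-i) ∈ D.T1 i := (D.mem_T1_iff i _).mpr (Or.inr (Or.inr (Or.inl rfl)))
  rw [h, D.mem_T0_iff] at h1
  obtain ⟨k, l, _, _, hkl⟩ := h1
  exact D.b_ne_e _ _ _ _ hkl

theorem klein_cases (T : Subgroup S) (hT : IsKleinFour T) : T = D.T0 ∨ ∃ i, T = D.T1 i := by
  have hsq := sq_of_klein hT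
  have hcomm := comm_of_klein hT
  by_cases hb : ∃ i j, D.b i j ∈ T
  · right
    obtain ⟨i, j, hij⟩ := hb
    have hj : j = -i := by
      have := hsq _ hij
      rw [D.b_b, D.e_eq_one_iff] at this
      linear_combination this.1
    subst hj
    refine ⟨i, eq_of_le_klein hT (D.isKleinFour_T1 i) ?_⟩
    intro t ht
    rw [D.mem_T1_iff]
    have h1 := hsq t ht
    have h2 := hcomm t ht _ hij
    rcases D.cases t with ⟨k, l, rfl⟩ | ⟨k, l, rfl⟩
    · have hkl := (D.comm_e_b_iff k l i (-i)).mp h2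
      subst hkl
      rw [D.e_e, D.e_eq_one_iff] at h1
      have h3 : 2 * k = 0 := by linear_combination h1.1
      rcases (D.two_mul_eq_zero_iff k).mp h3 with rfl | rfl
      · left; exact D.e_zero
      · right; left; rfl
    · rw [D.b_b, D.e_eq_one_iff] at h1
      have hl : l = -k := by linear_combination h1.1
      subst hl
      rw [D.comm_b_b_iff] at h2
      have h3 : 2 * (k - i) = 0 := by linear_combination h2
      rcases (D.two_mul_eq_zero_iff _).mp h3 with h4 | h4
      · right; right; left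
        have : k = i := by linear_combination h4
        rw [this]
      · right; right; right
        have : k = i + D.h := by linear_combination h4
        rw [this, D.b_inj]
        exact ⟨rfl, by linear_combination (-1 : D.Z) * D.two_h⟩
  · left
    push Not at hb
    apply eq_of_le_klein hT D.isKleinFour_T0
    intro t ht
    have h1 := hsq t ht
    rcases D.cases t with ⟨k, l, rfl⟩ | ⟨k, l, rfl⟩
    · rw [D.e_e, D.e_eq_one_iff] at h1
      rw [D.mem_T0_iff]
      exact ⟨k, l, by linear_combination h1.1, by linear_combination h1.2, rfl⟩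
    · exact absurd ht (hb k l)

theorem T1_conj (i j : D.Z) :
    (D.T1 i).map (MulAut.conj (D.e (j - i) 0)).toMonoidHom = D.T1 j := by
  have key : ∀ (i j : D.Z) (g : S), g ∈ D.T1 i →
      D.e (j - i) 0 * g * (D.e (j - i) 0)⁻¹ ∈ D.T1 j := by
    intro i j g hg
    rw [D.mem_T1_iff] at hg ⊢
    rcases hg with rfl | rfl | rfl | rfl
    · left; group
    · right; left; rw [D.conj_e_e]
    · right; right; left
      rw [D.conj_e_b, D.b_inj]; constructor <;> ring
    · right; right; right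
      rw [D.conj_e_b, D.b_inj]; constructor <;> ring
  apply map_conj_eq_of_forall
  · exact key i j
  · intro g hg
    have := key j i g hg
    rw [D.e_inv]
    have h2 : D.e (-(j - i)) (-0) = D.e (i - j) 0 := by
      rw [D.e_inj]; constructor <;> ring
    rw [h2]
    exact this

include D in
theorem klein_result : ∃ T : Subgroup S, IsKleinFour T ∧ T.Normal ∧
    (∃ T₀ : Subgroup S, IsKleinFour T₀ ∧ T₀ ≠ T) ∧
    ∀ T₁ T₂ : Subgroup S, IsKleinFour T₁ → IsKleinFour T₂ → T₁ ≠ T → T₂ ≠ T →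
      ∃ s : S, T₁.map (MulAut.conj s).toMonoidHom = T₂ := by
  refine ⟨D.T0, D.isKleinFour_T0, D.T0_normal, ⟨D.T1 0, D.isKleinFour_T1 0, D.T1_ne_T0 0⟩, ?_⟩
  intro T₁ T₂ h₁ h₂ hne₁ hne₂
  rcases D.klein_cases T₁ h₁ with h | ⟨i, rfl⟩
  · exact absurd h hne₁
  rcases D.klein_cases T₂ h₂ with h | ⟨j, rfl⟩
  · exact absurd h hne₂
  exact ⟨_, D.T1_conj i j⟩

end Data

end Cfsg.Agent.helper6.Wr
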