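import Mathlib
import Cfsg.Agent.Lib_helper6_Wr7
import Cfsg.Agent.Lib_helper6_QuatHom

set_option autoImplicit false
set_option linter.unusedSectionVars false
set_option linter.unusedVariables false
set_option linter.style.haveILetI false
set_option linter.unnecessarySeqFocus false

namespace Cfsg.Agent.helper6.Wr

open Cfsg.Agent.helper6.ZExp Cfsg.Agent.helper6.TwoPow Cfsg.Agent.helper6.QuatHom

variable {S : Type*} [Group S]

namespace Data

variable (D : Data S)

/-- The generalized quaternion subgroup. -/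
def Y : Subgroup S where
  carrier := {g | (∃ i j, i + j = 0 ∧ g = D.e i j) ∨ (∃ i j, i + j = D.h ∧ g = D.b i j)}
  one_mem' := Or.inl ⟨0, 0, add_zero 0, D.e_zero.symm⟩
  mul_mem' := by
    rintro _ _ (⟨i, j, hij, rfl⟩ | ⟨i, j, hij, rfl⟩) (⟨k, l, hkl, rfl⟩ | ⟨k, l, hkl, rfl⟩)
    · exact Or.inl ⟨_, _, by linear_combination hij + hkl, D.e_e _ _ _ _⟩
    · exact Or.inr ⟨_, _, by linear_combination hij + hkl, D.e_b _ _ _ _⟩
    · exact Or.inr ⟨_, _, by linear_combination hij + hkl, D.b_e _ _ _ _⟩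
    · exact Or.inl ⟨_, _, by linear_combination hij + hkl + D.two_h, D.b_b _ _ _ _⟩
  inv_mem' := by
    rintro _ (⟨i, j, hij, rfl⟩ | ⟨i, j, hij, rfl⟩)
    · exact Or.inl ⟨_, _, by linear_combination (-1 : D.Z) * hij, D.e_inv _ _⟩
    · exact Or.inr ⟨_, _, by linear_combination (-1 : D.Z) * hij - D.two_h, D.b_inv _ _⟩

theorem e_mem_Y (i j : D.Z) : D.e i j ∈ D.Y ↔ i + j = 0 := by
  constructor
  · rintro (⟨k, l, hkl, h⟩ | ⟨k, l, hkl, h⟩)
    · obtain ⟨rfl, rfl⟩ := D.e_inj.mp h; exact hkl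
    · exact absurd h (D.e_ne_b _ _ _ _)
  · intro h; exact Or.inl ⟨i, j, h, rfl⟩

theorem b_mem_Y (i j : D.Z) : D.b i j ∈ D.Y ↔ i + j = D.h := by
  constructor
  · rintro (⟨k, l, hkl, h⟩ | ⟨k, l, hkl, h⟩)
    · exact absurd h (D.b_ne_e _ _ _ _)
    · obtain ⟨rfl, rfl⟩ := D.b_inj.mp h; exact hkl
  · intro h; exact Or.inr ⟨i, j, h, rfl⟩

theorem pow_cast : ((2 ^ (D.n - 1) : ℕ) : D.Z) = D.h := rfl

theorem two_mul_pow : 2 * 2 ^ (D.n - 1) = 2 ^ D.n := by
  have := D.hn
  obtain ⟨k, hk⟩ : ∃ k, D.n = k + 1 := ⟨D.n - 1, by omega⟩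
  rw [hk, Nat.add_sub_cancel, pow_succ, mul_comm]

theorem orderOf_a0 : orderOf (D.e 1 (-1)) = 2 * 2 ^ (D.n - 1) := by
  haveI : Fact (Nat.Prime 2) := ⟨Nat.prime_two⟩
  have h1 : ¬ D.e 1 (-1) ^ 2 ^ (D.n - 1) = 1 := by
    rw [D.e_pow, D.pow_cast, D.e_eq_one_iff]
    intro h
    apply D.h_ne
    linear_combination h.1
  have h2 : D.e 1 (-1) ^ 2 ^ (D.n - 1 + 1) = 1 := by
    rw [D.e_pow, D.e_eq_one_iff]
    have : D.n - 1 + 1 = D.n := by have := D.hn; omega
    rw [this, ZMod.natCast_self]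
    exact ⟨mul_zero _, mul_zero _⟩
  rw [orderOf_eq_prime_pow h1 h2, pow_succ, mul_comm]

theorem a0_conj : D.b D.h 0 * D.e 1 (-1) * (D.b D.h 0)⁻¹ = (D.e 1 (-1))⁻¹ := by
  rw [D.conj_b_e, D.e_inv, neg_neg]

theorem b0_sq : D.b D.h 0 * D.b D.h 0 = D.e 1 (-1) ^ 2 ^ (D.n - 1) := by
  rw [D.b_b, D.e_pow, D.pow_cast, D.e_inj]
  constructor
  · ring
  · linear_combination D.two_h

theorem zpowers_a0_le : Subgroup.zpowers (D.e 1 (-1)) ≤ D.U := by
  rw [Subgroup.zpowers_le]; exact D.e_mem_U _ _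

theorem b0_not_mem : D.b D.h 0 ∉ Subgroup.zpowers (D.e 1 (-1)) := by
  intro h
  obtain ⟨i, j, hij⟩ := D.zpowers_a0_le h
  exact D.b_ne_e _ _ _ _ hij

theorem E_a0 {N2 : ℕ} (k : ZMod N2) :
    E N2 (D.e 1 (-1)) k = D.e ((k.val : ℕ) : D.Z) (-((k.val : ℕ) : D.Z)) := by
  unfold E
  rw [D.e_pow, D.e_inj]
  constructor <;> ring

/-- The quaternion homomorphism onto `Y`. -/
noncomputable def yHom : QuaternionGroup (2 ^ (D.n - 1)) →* S :=
  quatHom D.orderOf_a0 D.a0_conj D.b0_sq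

theorem yHom_injective : Function.Injective D.yHom :=
  quatHom_injective _ _ _ D.b0_not_mem

theorem yHom_range : D.yHom.range = D.Y := by
  apply le_antisymm
  · rintro g ⟨(k | k), rfl⟩
    · unfold yHom
      rw [quatHom_a, D.E_a0, D.e_mem_Y]; ring
    · unfold yHom
      rw [quatHom_xa, D.E_a0, D.b_e, D.b_mem_Y]; ring
  · rintro g (⟨i, j, hij, rfl⟩ | ⟨i, j, hij, rfl⟩)
    · refine ⟨QuaternionGroup.a ((i.val : ℕ) : ZMod (2 * 2 ^ (D.n - 1))), ?_⟩
      unfold yHom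
      rw [quatHom_a, E_natCast D.orderOf_a0, D.e_pow, ZMod.natCast_zmod_val, D.e_inj]
      exact ⟨by ring, by linear_combination -hij⟩
    · refine ⟨QuaternionGroup.xa (((D.h - i).val : ℕ) : ZMod (2 * 2 ^ (D.n - 1))), ?_⟩
      unfold yHom
      rw [quatHom_xa, E_natCast D.orderOf_a0, D.e_pow, ZMod.natCast_zmod_val, D.b_e, D.b_inj]
      exact ⟨by ring, by linear_combination -hij⟩

theorem Y_equiv : Nonempty (D.Y ≃* QuaternionGroup (2 ^ (D.n - 1))) :=
  ⟨(MulEquiv.subgroupCongr D.yHom_range.symm).trans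
    (MonoidHom.ofInjective D.yHom_injective).symm⟩

theorem card_Y : Nat.card D.Y = 2 ^ (D.n + 1) := by
  obtain ⟨e⟩ := D.Y_equiv
  rw [Nat.card_congr e.toEquiv, Nat.card_eq_fintype_card, QuaternionGroup.card]
  have := D.two_mul_pow
  rw [pow_succ]; omega

variable [Finite S]

theorem Y_normal : D.Y.Normal := by
  constructor
  intro t ht g
  rcases D.cases g with ⟨k, l, rfl⟩ | ⟨k, l, rfl⟩
  · rcases ht with ⟨i, j, hij, rfl⟩ | ⟨i, j, hij, rfl⟩
    · rw [D.conj_e_e, D.e_mem_Y]; exact hij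
    · rw [D.conj_e_b, D.b_mem_Y]; linear_combination hij
  · rcases ht with ⟨i, j, hij, rfl⟩ | ⟨i, j, hij, rfl⟩
    · rw [D.conj_b_e, D.e_mem_Y]; linear_combination hij
    · rw [D.conj_b_b, D.b_mem_Y]; linear_combination hij

/-- A quaternion pair in `Y'` with first member in `U` forces `Y ≤ Y'`. -/
theorem Y_le_of_pair (Y' : Subgroup S) (a' b' : S) (ha' : a' ∈ Y') (hb' : b' ∈ Y')
    (haU : a' ∈ D.U) (hord : orderOf a' = 2 * 2 ^ (D.n - 1))
    (hconj : b' * a' * b'⁻¹ = a'⁻¹) (hsq : b' * b' = a' ^ 2 ^ (D.n - 1)) : D.Y ≤ Y' := by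
  obtain ⟨k, l, rfl⟩ := haU
  -- b' is outside U
  have hne : D.e k l ^ 2 ≠ 1 := by
    apply pow_ne_one_of_lt_orderOf (by norm_num)
    rw [hord]
    have : 2 ≤ 2 ^ (D.n - 1) := by
      calc 2 = 2 ^ 1 := by norm_num
        _ ≤ 2 ^ (D.n - 1) := Nat.pow_le_pow_right (by norm_num) (by have := D.hn; omega)
    omega
  rcases D.cases b' with ⟨i, j, rfl⟩ | ⟨i, j, rfl⟩
  · exfalso
    rw [D.conj_e_e] at hconj
    apply hne
    rw [pow_two]
    nth_rewrite 1 [hconj]
    exact inv_mul_cancel _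
  · rw [D.conj_b_e, D.e_inv, D.e_inj] at hconj
    have hl : l = -k := hconj.1
    subst hl
    -- k is odd
    have hk : D.par k = 1 := by
      rcases D.par_cases k with h0 | h1
      · exfalso
        have h2 : D.e k (-k) ^ 2 ^ (D.n - 1) = 1 := by
          rw [D.e_pow, D.pow_cast, D.e_eq_one_iff]
          have := D.h_mul_even h0
          exact ⟨by linear_combination this, by linear_combination (-1 : D.Z) * this⟩
        have h3 : orderOf (D.e k (-k)) ≤ 2 ^ (D.n - 1) :=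
          orderOf_le_of_pow_eq_one (by positivity) h2
        rw [hord] at h3
        have : 0 < 2 ^ (D.n - 1) := by positivity
        omega
      · exact h1
    rw [D.b_b, D.e_pow, D.pow_cast, D.e_inj] at hsq
    have hij : i + j = D.h := by
      have := D.h_mul_odd hk
      linear_combination hsq.1 + this
    obtain ⟨u, hu⟩ := D.exists_inv_of_odd hk
    have hK : ∀ c : D.Z, D.e c (-c) ∈ Y' := by
      intro c
      have : D.e c (-c) = D.e k (-k) ^ (u * c).val := by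
        rw [D.e_pow, ZMod.natCast_zmod_val, D.e_inj]
        constructor
        · linear_combination (-c) * hu
        · linear_combination (c) * hu
      rw [this]; exact Subgroup.pow_mem _ ha' _
    rintro g (⟨i', j', hij', rfl⟩ | ⟨i', j', hij', rfl⟩)
    · have : j' = -i' := by linear_combination hij'
      rw [this]; exact hK i'
    · have : D.b i' j' = D.e (i' - i) (-(i' - i)) * D.b i j := by
        rw [D.e_b, D.b_inj]
        constructor
        · ring
        · linear_combination hij' - hij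
      rw [this]
      exact Subgroup.mul_mem _ (hK _) hb'

end Data

end Cfsg.Agent.helper6.Wr
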