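import Mathlib
import Cfsg.Agent.Lib_helper6_Wr8

set_option autoImplicit false
set_option linter.unusedSectionVars false
set_option linter.unusedVariables false
set_option linter.style.haveILetI false
set_option linter.unnecessarySeqFocus false

namespace Cfsg.Agent.helper6.Wr

open Cfsg.Agent.helper6.ZExp Cfsg.Agent.helper6.TwoPow Cfsg.Agent.helper6.QuatHom

variable {S : Type*} [Group S]

namespace Data

variable (D : Data S) [Finite S]

theorem not_mem_U_iff (g : S) : g ∉ D.U ↔ ∃ i j, g = D.b i j := by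
  constructor
  · intro hg
    rcases D.cases g with ⟨i, j, rfl⟩ | ⟨i, j, rfl⟩
    · exact absurd (D.e_mem_U i j) hg
    · exact ⟨i, j, rfl⟩
  · rintro ⟨i, j, rfl⟩ ⟨k, l, h⟩
    exact D.b_ne_e _ _ _ _ h

theorem exists_pair_aux (m : ℕ) [NeZero m] (hm2 : 2 ≤ m) (Y' : Subgroup S)
    (e : Y' ≃* QuaternionGroup m) :
    ∃ a' b' : S, a' ∈ Y' ∧ b' ∈ Y' ∧ a' ∈ D.U ∧ orderOf a' = 2 * m ∧
      b' * a' * b'⁻¹ = a'⁻¹ ∧ b' * b' = a' ^ m := by
  set φ : QuaternionGroup m →* S := (Y'.subtype).comp e.symm.toMonoidHom with hφ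
  have hφmem : ∀ g, φ g ∈ Y' := fun g => (e.symm g).2
  have hφinj : Function.Injective φ := by
    intro g₁ g₂ h
    exact e.symm.injective (Subtype.ext h)
  have hord : ∀ g, orderOf (φ g) = orderOf g := fun g => orderOf_injective φ hφinj g
  by_cases ha : φ (QuaternionGroup.a 1) ∈ D.U
  · refine ⟨φ (QuaternionGroup.a 1), φ (QuaternionGroup.xa 0), hφmem _, hφmem _, ha, ?_, ?_, ?_⟩
    · rw [hord, QuaternionGroup.orderOf_a_one]
    · rw [← map_inv, ← map_mul, ← map_inv, ← map_mul, quat_conj]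
    · rw [← map_mul, ← map_pow, quat_sq]
  · -- then m = 2
    obtain ⟨i, j, hij⟩ := (D.not_mem_U_iff _).mp ha
    have hcomm : φ (QuaternionGroup.a 1) ^ 2 * φ (QuaternionGroup.xa 0) =
        φ (QuaternionGroup.xa 0) * φ (QuaternionGroup.a 1) ^ 2 := by
      rw [hij, pow_two, D.b_b]
      have : D.e (i + j) (j + i) = D.e (i + j) (i + j) := by rw [add_comm j i]
      rw [this]
      exact D.e_diag_central _ _
    rw [← map_pow, ← map_mul, ← map_mul] at hcomm
    have h1 := hφinj hcomm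
    rw [QuaternionGroup.a_one_pow, QuaternionGroup.a_mul_xa, QuaternionGroup.xa_mul_a] at h1
    have h2 : (0 : ZMod (2 * m)) - ((2 : ℕ) : ZMod (2 * m)) = 0 + ((2 : ℕ) : ZMod (2 * m)) := by
      injection h1
    have h3 : ((4 : ℕ) : ZMod (2 * m)) = 0 := by
      push_cast at h2 ⊢
      linear_combination (-1 : ZMod (2 * m)) * h2
    rw [ZMod.natCast_eq_zero_iff] at h3
    have h4 : 2 * m ≤ 4 := Nat.le_of_dvd (by norm_num) h3
    obtain rfl : m = 2 := by omega
    have hq1 : (QuaternionGroup.a 1 : QuaternionGroup 2) * QuaternionGroup.xa 0 *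
        (QuaternionGroup.a 1)⁻¹ = (QuaternionGroup.xa 0)⁻¹ := by decide
    have hq2 : (QuaternionGroup.a 1 : QuaternionGroup 2) * QuaternionGroup.a 1 =
        (QuaternionGroup.xa 0) ^ 2 := by decide
    have hq3 : (QuaternionGroup.a 1 : QuaternionGroup 2) *
        (QuaternionGroup.a 1 * QuaternionGroup.xa 0) * (QuaternionGroup.a 1)⁻¹ =
        (QuaternionGroup.a 1 * QuaternionGroup.xa 0)⁻¹ := by decide
    have hq4 : (QuaternionGroup.a 1 : QuaternionGroup 2) * QuaternionGroup.a 1 =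
        (QuaternionGroup.a 1 * QuaternionGroup.xa 0) ^ 2 := by decide
    by_cases hb : φ (QuaternionGroup.xa 0) ∈ D.U
    · refine ⟨φ (QuaternionGroup.xa 0), φ (QuaternionGroup.a 1), hφmem _, hφmem _, hb, ?_, ?_, ?_⟩
      · rw [hord, QuaternionGroup.orderOf_xa]
      · rw [← map_inv, ← map_mul, ← map_inv, ← map_mul, hq1]
      · rw [← map_mul, ← map_pow, hq2]
    · obtain ⟨k, l, hkl⟩ := (D.not_mem_U_iff _).mp hb
      refine ⟨φ (QuaternionGroup.a 1 * QuaternionGroup.xa 0), φ (QuaternionGroup.a 1), hφmem _,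
        hφmem _, ?_, ?_, ?_, ?_⟩
      · rw [map_mul, hij, hkl, D.b_b]; exact D.e_mem_U _ _
      · rw [hord, QuaternionGroup.a_mul_xa, QuaternionGroup.orderOf_xa]
      · rw [← map_inv, ← map_mul, ← map_inv, ← map_mul, hq3]
      · rw [← map_mul, ← map_pow, hq4]

include D in
theorem quat_unique (Y' : Subgroup S) (hcard : Nat.card Y' = 2 ^ (D.n + 1))
    (e : Y' ≃* QuaternionGroup (2 ^ (D.n - 1))) : Y' = D.Y := by
  have hm2 : 2 ≤ 2 ^ (D.n - 1) := by
    calc 2 = 2 ^ 1 := by norm_num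
      _ ≤ 2 ^ (D.n - 1) := Nat.pow_le_pow_right (by norm_num) (by have := D.hn; omega)
  obtain ⟨a', b', ha', hb', haU, hord, hconj, hsq⟩ := D.exists_pair_aux _ hm2 Y' e
  have hle := D.Y_le_of_pair Y' a' b' ha' hb' haU hord hconj hsq
  exact (Subgroup.eq_of_le_of_card_ge hle (by rw [hcard, D.card_Y])).symm

end Data

end Cfsg.Agent.helper6.Wr
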