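import Mathlib
import Cfsg.Agent.Lib_helper6_Wr9
import Cfsg.Agent.Lib_helper6_QDAut

set_option autoImplicit false
set_option linter.unusedSectionVars false
set_option linter.unusedVariables false

namespace Cfsg.Agent.helper6.WrAut

open Cfsg.Agent.helper6.Wr Cfsg.Agent.helper6.ZExp Cfsg.Agent.helper6.TwoPow
open Cfsg.Agent.helper6.QDAut (fix_step)

variable {S : Type*} [Group S] (D : Data S) [Finite S]
variable {H : Type*} [Group H] (ι : H →* S) (hι : Function.Injective ι)

include hι in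
theorem pow_card_eq_one (a : H) : a ^ (2 ^ (2 * D.n + 1)) = 1 := by
  apply hι
  rw [map_pow, map_one, ← D.card]
  exact pow_card_eq_one'

include D hι in
theorem eq_one_of_odd_pow {r : ℕ} (hr : Odd r) (c : H) (hc : c ^ r = 1) : c = 1 := by
  have h1 := pow_card_eq_one D ι hι c
  have h2 : c ^ Nat.gcd r (2 ^ (2 * D.n + 1)) = 1 := pow_gcd_eq_one.mpr ⟨hc, h1⟩
  have h3 : Nat.gcd r (2 ^ (2 * D.n + 1)) = 1 :=
    Nat.Coprime.pow_right _ (Nat.coprime_two_right.mpr hr)
  rwa [h3, pow_one] at h2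

theorem two_pow_n_mul (k : D.Z) : (2 : D.Z) ^ D.n * k = 0 := by
  have : ((2 ^ D.n : ℕ) : D.Z) = 0 := ZMod.natCast_self _
  push_cast at this
  rw [this, zero_mul]

/-- central elements of order dividing `2 ^ j`. -/
def C (j : ℕ) : Set H := {a | ∃ k : D.Z, ι a = D.e k k ∧ 2 ^ j * k = 0}

/-- elements of `U` whose image in `U / Z(S)` has order dividing `2 ^ j`. -/
def B (j : ℕ) : Set H := {a | ∃ k l : D.Z, ι a = D.e k l ∧ 2 ^ j * (k - l) = 0}

include hι in
theorem fix_C (f : MulAut H) (r : ℕ) (hr : Odd r) (hfr : f ^ r = 1)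
    (hZ : ∀ a k, ι a = D.e k k → ∃ k', ι (f a) = D.e k' k') :
    ∀ j : ℕ, ∀ a ∈ C D ι j, f a = a := by
  intro j
  induction j with
  | zero =>
    rintro a ⟨k, hk, hk0⟩
    rw [pow_zero, one_mul] at hk0
    rw [hk0, D.e_zero] at hk
    have : a = 1 := hι (by rw [hk, map_one])
    rw [this, map_one]
  | succ j ih =>
    apply fix_step f r hfr (C D ι j) (C D ι (j + 1)) ih
    · rintro a ⟨k, hk, hk0⟩
      obtain ⟨k', hk'⟩ := hZ a k hk
      refine ⟨k', hk', ?_⟩
      have h1 : a ^ (2 ^ (j + 1)) = 1 := by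
        apply hι
        rw [map_pow, map_one, hk, D.e_pow, D.e_eq_one_iff]
        constructor <;> (push_cast; linear_combination hk0)
      have h2 : (f a) ^ (2 ^ (j + 1)) = 1 := by rw [← map_pow, h1, map_one]
      have h3 := congrArg ι h2
      rw [map_pow, map_one, hk', D.e_pow, D.e_eq_one_iff] at h3
      have h4 := h3.1
      push_cast at h4
      linear_combination h4
    · rintro a ⟨k, hk, hk0⟩ b ⟨l, hl, hl0⟩ ha hb
      have hk1 : 2 ^ j * k = D.h := by
        have h1 : 2 * (2 ^ j * k) = 0 := by linear_combination hk0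
        rcases (D.two_mul_eq_zero_iff _).mp h1 with h | h
        · exact absurd ⟨k, hk, h⟩ ha
        · exact h
      have hl1 : 2 ^ j * l = D.h := by
        have h1 : 2 * (2 ^ j * l) = 0 := by linear_combination hl0
        rcases (D.two_mul_eq_zero_iff _).mp h1 with h | h
        · exact absurd ⟨l, hl, h⟩ hb
        · exact h
      refine ⟨l - k, ?_, ?_⟩
      · rw [map_mul, map_inv, hk, hl, D.e_inv, D.e_e]; congr 1 <;> ring
      · linear_combination hl1 - hk1
    · intro c _ hc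
      exact eq_one_of_odd_pow D ι hι hr c hc

include hι in
theorem fix_B (f : MulAut H) (r : ℕ) (hr : Odd r) (hfr : f ^ r = 1)
    (hZ : ∀ a k, ι a = D.e k k → ∃ k', ι (f a) = D.e k' k')
    (hU : ∀ a k l, ι a = D.e k l → ∃ k' l', ι (f a) = D.e k' l') :
    ∀ j : ℕ, ∀ a ∈ B D ι j, f a = a := by
  intro j
  induction j with
  | zero =>
    rintro a ⟨k, l, hk, hk0⟩
    rw [pow_zero, one_mul] at hk0
    have hkl : k = l := by linear_combination hk0
    apply fix_C D ι hι f r hr hfr hZ D.n a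
    exact ⟨k, by rw [hk, hkl], two_pow_n_mul D k⟩
  | succ j ih =>
    apply fix_step f r hfr (B D ι j) (B D ι (j + 1)) ih
    · rintro a ⟨k, l, hk, hk0⟩
      obtain ⟨k', l', hk'⟩ := hU a k l hk
      refine ⟨k', l', hk', ?_⟩
      have h1 : ι (a ^ (2 ^ (j + 1))) = D.e (k * (2 : D.Z) ^ (j + 1)) (k * (2 : D.Z) ^ (j + 1)) := by
        rw [map_pow, hk, D.e_pow, D.e_inj]
        constructor
        · push_cast; ring
        · push_cast; linear_combination (-1 : D.Z) * hk0
      obtain ⟨c, hc⟩ := hZ _ _ h1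
      rw [map_pow, map_pow, hk', D.e_pow, D.e_inj] at hc
      push_cast at hc
      linear_combination hc.1 - hc.2
    · rintro a ⟨k, l, hk, hk0⟩ b ⟨k₂, l₂, hl, hl0⟩ ha hb
      have hk1 : 2 ^ j * (k - l) = D.h := by
        have h1 : 2 * (2 ^ j * (k - l)) = 0 := by linear_combination hk0
        rcases (D.two_mul_eq_zero_iff _).mp h1 with h | h
        · exact absurd ⟨k, l, hk, h⟩ ha
        · exact h
      have hl1 : 2 ^ j * (k₂ - l₂) = D.h := by
        have h1 : 2 * (2 ^ j * (k₂ - l₂)) = 0 := by linear_combination hl0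
        rcases (D.two_mul_eq_zero_iff _).mp h1 with h | h
        · exact absurd ⟨k₂, l₂, hl, h⟩ hb
        · exact h
      refine ⟨k₂ - k, l₂ - l, ?_, ?_⟩
      · rw [map_mul, map_inv, hk, hl, D.e_inv, D.e_e]; congr 1 <;> ring
      · linear_combination hl1 - hk1
    · intro c _ hc
      exact eq_one_of_odd_pow D ι hι hr c hc

include hι in
/-- an odd-order automorphism preserving the centre `Z(S)` and the abelian subgroup `U` (as far as
they meet `H`) is trivial. -/
theorem aut_trivial (f : MulAut H) (r : ℕ) (hr : Odd r) (hfr : f ^ r = 1)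
    (hZ : ∀ a k, ι a = D.e k k → ∃ k', ι (f a) = D.e k' k')
    (hU : ∀ a k l, ι a = D.e k l → ∃ k' l', ι (f a) = D.e k' l') : f = 1 := by
  have hB := fix_B D ι hι f r hr hfr hZ hU D.n
  have hall := fix_step f r hfr (B D ι D.n) Set.univ hB (fun _ _ => Set.mem_univ _) ?_ ?_
  · ext a; exact hall a (Set.mem_univ a)
  · intro a _ b _ ha hb
    have ha' : ∃ i j, ι a = D.b i j := by
      rcases D.cases (ι a) with ⟨k, l, hk⟩ | h
      · exact absurd ⟨k, l, hk, two_pow_n_mul D _⟩ ha
      · exact h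
    have hb' : ∃ i j, ι b = D.b i j := by
      rcases D.cases (ι b) with ⟨k, l, hk⟩ | h
      · exact absurd ⟨k, l, hk, two_pow_n_mul D _⟩ hb
      · exact h
    obtain ⟨i, j, hi⟩ := ha'
    obtain ⟨k, l, hj⟩ := hb'
    refine ⟨-j + l, -i + k, ?_, two_pow_n_mul D _⟩
    rw [map_mul, map_inv, hi, hj, D.b_inv, D.b_b]
  · intro c _ hc
    exact eq_one_of_odd_pow D ι hι hr c hc

end Cfsg.Agent.helper6.WrAut
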