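import Mathlib
import Cfsg.Agent.Lib_helper6_Wr9
import Cfsg.Agent.Lib_helper6_QD4
import Cfsg.Agent.Lib_helper6_AutIdx

set_option autoImplicit false
set_option linter.unusedSectionVars false
set_option linter.unusedVariables false

namespace Cfsg.Agent.helper6.Wr

open Cfsg.Agent.helper6.ZExp Cfsg.Agent.helper6.TwoPow

variable {S : Type*} [Group S]

namespace Data

variable (D : Data S)

/-- The subgroup `Z(S) Ω₁(U) ⟨b⟩` attached to the class `c = k - l` of `b = b k l`. -/
def Vd (c : D.Z) : Subgroup S where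
  carrier := {g | (∃ i j, 2 * (i - j) = 0 ∧ g = D.e i j) ∨ (∃ i j, 2 * (i - j - c) = 0 ∧ g = D.b i j)}
  one_mem' := Or.inl ⟨0, 0, by ring, D.e_zero.symm⟩
  mul_mem' := by
    rintro g₁ g₂ (⟨i, j, hi, rfl⟩ | ⟨i, j, hi, rfl⟩) (⟨k, l, hk, rfl⟩ | ⟨k, l, hk, rfl⟩)
    · exact Or.inl ⟨i + k, j + l, by linear_combination hi + hk, D.e_e i j k l⟩
    · exact Or.inr ⟨i + k, j + l, by linear_combination hi + hk, D.e_b i j k l⟩
    · exact Or.inr ⟨i + l, j + k, by linear_combination hi - hk, D.b_e i j k l⟩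
    · exact Or.inl ⟨i + l, j + k, by linear_combination hi - hk, D.b_b i j k l⟩
  inv_mem' := by
    rintro g (⟨i, j, hi, rfl⟩ | ⟨i, j, hi, rfl⟩)
    · exact Or.inl ⟨-i, -j, by linear_combination (-1 : D.Z) * hi, D.e_inv i j⟩
    · exact Or.inr ⟨-j, -i, by linear_combination hi, D.b_inv i j⟩

theorem e_mem_Vd (c i j : D.Z) : D.e i j ∈ D.Vd c ↔ 2 * (i - j) = 0 := by
  constructor
  · rintro (⟨k, l, hk, h⟩ | ⟨k, l, hk, h⟩)
    · obtain ⟨h1, h2⟩ := D.e_inj.mp h; rw [h1, h2]; exact hk
    · exact absurd h (D.e_ne_b _ _ _ _)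
  · intro h; exact Or.inl ⟨i, j, h, rfl⟩

theorem b_mem_Vd (c i j : D.Z) : D.b i j ∈ D.Vd c ↔ 2 * (i - j - c) = 0 := by
  constructor
  · rintro (⟨k, l, hk, h⟩ | ⟨k, l, hk, h⟩)
    · exact absurd h (D.b_ne_e _ _ _ _)
    · obtain ⟨h1, h2⟩ := D.b_inj.mp h; rw [h1, h2]; exact hk
  · intro h; exact Or.inr ⟨i, j, h, rfl⟩

theorem q8_facts : ∀ u v : QuaternionGroup 2, u * v ≠ v * u →
    u ^ 2 = v ^ 2 ∧ u ^ 2 ≠ 1 ∧ u ^ 4 = 1 ∧ v * u * v⁻¹ = u⁻¹ ∧ (u * v) * v ≠ v * (u * v) := by
  decide

theorem q8_exists : ∃ u v : QuaternionGroup 2, u * v ≠ v * u := ⟨QuaternionGroup.a 1,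
  QuaternionGroup.xa 0, by decide⟩

variable [Finite S]

/-- The structure of a quaternion subgroup of order 8 of a wreathed group. -/
theorem exists_pair (Q : Subgroup S) (eQ : Q ≃* QuaternionGroup 2) :
    ∃ i k l : D.Z, 2 * i = D.h ∧ k + l = D.h ∧ D.e i (-i) ∈ Q ∧ D.b k l ∈ Q ∧
      ∀ g ∈ Q, g = 1 ∨ g = D.e i (-i) ^ 2 ∨ g = D.e i (-i) ∨ g = D.e i (-i) ^ 3 ∨ g = D.b k l ∨
        g = D.b k l ^ 3 ∨ g = D.e i (-i) * D.b k l ∨ g = D.b k l * D.e i (-i) := by
  -- transfer of the facts on `Q₈`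
  have hfacts : ∀ u v : Q, u * v ≠ v * u →
      u ^ 2 = v ^ 2 ∧ u ^ 2 ≠ 1 ∧ u ^ 4 = 1 ∧ v * u * v⁻¹ = u⁻¹ ∧ (u * v) * v ≠ v * (u * v) := by
    intro u v huv
    have h1 : eQ u * eQ v ≠ eQ v * eQ u := by
      rw [← map_mul, ← map_mul]; exact fun h => huv (eQ.injective h)
    obtain ⟨a1, a2, a3, a4, a5⟩ := q8_facts (eQ u) (eQ v) h1
    refine ⟨?_, ?_, ?_, ?_, ?_⟩
    · apply eQ.injective; rw [map_pow, map_pow]; exact a1
    · intro h; apply a2; rw [← map_pow, h, map_one]
    · apply eQ.injective; rw [map_pow, map_one]; exact a3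
    · apply eQ.injective; rw [map_mul, map_mul, map_inv, map_inv]; exact a4
    · intro h; apply a5
      have := congrArg eQ h
      simpa only [map_mul] using this
  have hgen : ∀ u v g : Q, u * v ≠ v * u →
      g = 1 ∨ g = u ^ 2 ∨ g = u ∨ g = u ^ 3 ∨ g = v ∨ g = v ^ 3 ∨ g = u * v ∨ g = v * u := by
    intro u v g huv
    have h1 : eQ u * eQ v ≠ eQ v * eQ u := by
      rw [← map_mul, ← map_mul]; exact fun h => huv (eQ.injective h)
    have h2 := Cfsg.Agent.helper6.AutIdx.q8_gen (eQ u) (eQ v) (eQ g) h1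
    rcases h2 with h | h | h | h | h | h | h | h
    · left; apply eQ.injective; rw [h, map_one]
    · right; left; apply eQ.injective; rw [h, map_pow]
    · right; right; left; exact eQ.injective h
    · right; right; right; left; apply eQ.injective; rw [h, map_pow]
    · right; right; right; right; left; exact eQ.injective h
    · right; right; right; right; right; left; apply eQ.injective; rw [h, map_pow]
    · right; right; right; right; right; right; left; apply eQ.injective; rw [h, map_mul]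
    · right; right; right; right; right; right; right; apply eQ.injective; rw [h, map_mul]
  -- a non-commuting pair with first element in `U`
  have hpair : ∃ u v : Q, u * v ≠ v * u ∧ (∃ i j, (u : S) = D.e i j) ∧ (∃ k l, (v : S) = D.b k l) := by
    obtain ⟨u', v', huv'⟩ := q8_exists
    have huv : eQ.symm u' * eQ.symm v' ≠ eQ.symm v' * eQ.symm u' := by
      rw [← map_mul, ← map_mul]; exact fun h => huv' (eQ.symm.injective h)
    rcases D.cases (eQ.symm u' : S) with ⟨i, j, hu⟩ | ⟨i, j, hu⟩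
    · rcases D.cases (eQ.symm v' : S) with ⟨k, l, hv⟩ | ⟨k, l, hv⟩
      · exfalso
        apply huv
        apply Subtype.ext
        rw [Subgroup.coe_mul, Subgroup.coe_mul, hu, hv, D.e_e, D.e_e, add_comm i k, add_comm j l]
      · exact ⟨_, _, huv, ⟨i, j, hu⟩, ⟨k, l, hv⟩⟩
    · rcases D.cases (eQ.symm v' : S) with ⟨k, l, hv⟩ | ⟨k, l, hv⟩
      · exact ⟨_, _, fun h => huv h.symm, ⟨k, l, hv⟩, ⟨i, j, hu⟩⟩
      · refine ⟨eQ.symm u' * eQ.symm v', eQ.symm v', (hfacts _ _ huv).2.2.2.2, ⟨i + l, j + k, ?_⟩,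
          ⟨k, l, hv⟩⟩
        rw [Subgroup.coe_mul, hu, hv, D.b_b]
  obtain ⟨u, v, huv, ⟨i, j, hu⟩, ⟨k, l, hv⟩⟩ := hpair
  obtain ⟨a1, a2, a3, a4, a5⟩ := hfacts u v huv
  -- coordinates
  have c1 : D.e (2 * i) (2 * j) = D.e (k + l) (k + l) := by
    have := congrArg Subtype.val a1
    rw [Subgroup.coe_pow, Subgroup.coe_pow, hu, hv, D.sq_e, D.sq_b] at this
    exact this
  obtain ⟨c1a, c1b⟩ := D.e_inj.mp c1
  have c4 : D.e j i = D.e (-i) (-j) := by
    have := congrArg Subtype.val a4
    rw [Subgroup.coe_mul, Subgroup.coe_mul, Subgroup.coe_inv, Subgroup.coe_inv, hu, hv,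
      D.conj_b_e, D.e_inv] at this
    exact this
  obtain ⟨c4a, c4b⟩ := D.e_inj.mp c4
  have c3 : 4 * i = 0 := by
    have := congrArg Subtype.val a3
    rw [Subgroup.coe_pow, Subgroup.coe_one, hu, D.e_pow, D.e_eq_one_iff] at this
    have h1 := this.1
    push_cast at h1
    linear_combination h1
  have c2 : 2 * i ≠ 0 := by
    intro h
    apply a2
    apply Subtype.ext
    rw [Subgroup.coe_pow, Subgroup.coe_one, hu, D.sq_e, D.e_eq_one_iff]
    exact ⟨h, by rw [c4a]; linear_combination (-1 : D.Z) * h⟩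
  have hi : 2 * i = D.h := by
    have h1 : 2 * (2 * i) = 0 := by linear_combination c3
    rcases (D.two_mul_eq_zero_iff _).mp h1 with h | h
    · exact absurd h c2
    · exact h
  have hu' : (u : S) = D.e i (-i) := by rw [hu, c4a]
  refine ⟨i, k, l, hi, by rw [← c1a, hi], ?_, ?_, ?_⟩
  · rw [← hu']; exact u.2
  · rw [← hv]; exact v.2
  · intro g hg
    rcases hgen u v ⟨g, hg⟩ huv with h | h | h | h | h | h | h | h
    · left; have := congrArg Subtype.val h; simpa using this
    · right; left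
      have := congrArg Subtype.val h
      rw [Subgroup.coe_pow, hu'] at this; exact this
    · right; right; left
      have := congrArg Subtype.val h
      rw [hu'] at this; exact this
    · right; right; right; left
      have := congrArg Subtype.val h
      rw [Subgroup.coe_pow, hu'] at this; exact this
    · right; right; right; right; left
      have := congrArg Subtype.val h
      rw [hv] at this; exact this
    · right; right; right; right; right; left
      have := congrArg Subtype.val h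
      rw [Subgroup.coe_pow, hv] at this; exact this
    · right; right; right; right; right; right; left
      have := congrArg Subtype.val h
      rw [Subgroup.coe_mul, hu', hv] at this; exact this
    · right; right; right; right; right; right; right
      have := congrArg Subtype.val h
      rw [Subgroup.coe_mul, hu', hv] at this; exact this

/-- `Q Z(S) = Vd (k - l)`. -/
theorem sup_center_eq_Vd (Q : Subgroup S) (eQ : Q ≃* QuaternionGroup 2) :
    ∃ i k l : D.Z, 2 * i = D.h ∧ k + l = D.h ∧ D.e i (-i) ∈ Q ∧ D.b k l ∈ Q ∧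
      Q ⊔ Subgroup.center S = D.Vd (k - l) := by
  obtain ⟨i, k, l, hi, hkl, hu, hb, hall⟩ := D.exists_pair Q eQ
  refine ⟨i, k, l, hi, hkl, hu, hb, ?_⟩
  have huV : D.e i (-i) ∈ D.Vd (k - l) := by
    rw [D.e_mem_Vd]; linear_combination 2 * hi + D.two_h
  have hbV : D.b k l ∈ D.Vd (k - l) := by
    rw [D.b_mem_Vd]; ring
  apply le_antisymm
  · apply sup_le
    · intro g hg
      rcases hall g hg with h | h | h | h | h | h | h | h <;> rw [h]
      · exact one_mem _
      · exact Subgroup.pow_mem _ huV _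
      · exact huV
      · exact Subgroup.pow_mem _ huV _
      · exact hbV
      · exact Subgroup.pow_mem _ hbV _
      · exact Subgroup.mul_mem _ huV hbV
      · exact Subgroup.mul_mem _ hbV huV
    · intro g hg
      rw [D.mem_center_iff'] at hg
      obtain ⟨c, rfl⟩ := hg
      rw [D.e_mem_Vd]; ring
  · have he : ∀ i' j' : D.Z, 2 * (i' - j') = 0 → D.e i' j' ∈ Q ⊔ Subgroup.center S := by
      intro i' j' h
      rcases (D.two_mul_eq_zero_iff _).mp h with h0 | h0
      · apply Subgroup.mem_sup_right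
        rw [D.mem_center_iff']
        exact ⟨i', by rw [D.e_inj]; exact ⟨rfl, by linear_combination (-1 : D.Z) * h0⟩⟩
      · have e1 : D.e i' j' = D.e i (-i) * D.e (i' - i) (i' - i) := by
          rw [D.e_e, D.e_inj]
          constructor
          · ring
          · linear_combination (-1 : D.Z) * h0 + hi
        rw [e1]
        exact Subgroup.mul_mem _ (Subgroup.mem_sup_left hu)
          (Subgroup.mem_sup_right ((D.mem_center_iff' _).mpr ⟨_, rfl⟩))
    intro g hg
    rcases hg with ⟨i', j', h, rfl⟩ | ⟨i', j', h, rfl⟩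
    · exact he i' j' h
    · have e1 : D.b i' j' = D.e (i' - k) (j' - l) * D.b k l := by
        rw [D.e_b, D.b_inj]; constructor <;> ring
      rw [e1]
      exact Subgroup.mul_mem _ (he _ _ (by linear_combination h)) (Subgroup.mem_sup_left hb)

end Data

end Cfsg.Agent.helper6.Wr
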