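import Mathlib
import Cfsg.Agent.Lib_helper6_WrAut
import Cfsg.Agent.Lib_helper6_WrV
import Cfsg.Agent.Lib_helper6_QDFus

set_option autoImplicit false
set_option linter.unusedSectionVars false
set_option linter.unusedVariables false

namespace Cfsg.Agent.helper6.WrFus

open Cfsg.Agent.helper6.Wr Cfsg.Agent.helper6.AutIdx Cfsg.Agent.helper6.WrAut
open Cfsg.Agent.helper6.QDFus (isConj_coe isConj_of_conj orderOf_conj' card_classes_eq_one
  card_classes_eq_two)

/-- An automorphism of odd order of an abelian 2-group fixing all involutions is trivial. -/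
theorem odd_aut_trivial' {A : Type*} [Group A] (hab : ∀ x y : A, x * y = y * x)
    (h2 : ∀ t : A, ∃ e : ℕ, t ^ (2 ^ e) = 1) (f : MulAut A) (r : ℕ) (hr : Odd r)
    (hfr : f ^ r = 1) (hinv : ∀ t : A, t * t = 1 → f t = t) : f = 1 := by
  have key : ∀ e : ℕ, ∀ t : A, t ^ (2 ^ e) = 1 → f t = t := by
    intro e
    induction e with
    | zero => intro t h; rw [pow_zero, pow_one] at h; rw [h, map_one]
    | succ e ih =>
      intro t h
      have htt : f (t * t) = t * t := by
        apply ih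
        rw [← pow_two, ← pow_mul, ← pow_succ']; exact h
      have hδδ : (t⁻¹ * f t) * (t⁻¹ * f t) = 1 := by
        calc (t⁻¹ * f t) * (t⁻¹ * f t) = t⁻¹ * (f t * t⁻¹) * f t := by group
          _ = t⁻¹ * (t⁻¹ * f t) * f t := by rw [hab (f t) t⁻¹]
          _ = (t * t)⁻¹ * f (t * t) := by rw [map_mul]; group
          _ = 1 := by rw [htt]; group
      have hδfix : f (t⁻¹ * f t) = t⁻¹ * f t := hinv _ hδδ
      have hfa' : f t = t * (t⁻¹ * f t) := by group
      have hpow : ∀ k : ℕ, (f ^ k) t = t * (t⁻¹ * f t) ^ k := by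
        intro k
        induction k with
        | zero => simp
        | succ k ih2 =>
          rw [pow_succ' f, MulAut.mul_apply, ih2, map_mul, map_pow, hδfix, pow_succ' (t⁻¹ * f t)]
          rw [← mul_assoc, ← hfa']
      have h5 := hpow r
      rw [hfr, MulAut.one_apply] at h5
      have hcr : (t⁻¹ * f t) ^ r = 1 := by
        have h6 : t * 1 = t * (t⁻¹ * f t) ^ r := by rw [mul_one]; exact h5
        exact (mul_left_cancel h6).symm
      have hc1 : t⁻¹ * f t = 1 := by
        have h7 : (t⁻¹ * f t) ^ 2 = 1 := by rw [pow_two]; exact hδδ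
        have h8 : (t⁻¹ * f t) ^ Nat.gcd r 2 = 1 := pow_gcd_eq_one.mpr ⟨hcr, h7⟩
        have h9 : Nat.gcd r 2 = 1 := Nat.coprime_two_right.mpr hr
        rwa [h9, pow_one] at h8
      calc f t = t * (t⁻¹ * f t) := hfa'
        _ = t * 1 := by rw [hc1]
        _ = t := mul_one t
  ext t
  obtain ⟨e, he⟩ := h2 t
  exact key e t he

variable {G : Type*} [Group G] [Finite G] (S : Sylow 2 G) (D : Data ↥(S : Subgroup G))

/-- every involution of `G` is conjugate to one of three standard involutions of `S`. -/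
theorem invol_cases (t : G) (ht : orderOf t = 2) :
    IsConj t (D.e D.h D.h : G) ∨ IsConj t (D.e D.h 0 : G) ∨ IsConj t (D.z : G) := by
  obtain ⟨g, hg⟩ := exists_conj_mem_sylow S t 1 (by rw [pow_one, ← ht]; exact pow_orderOf_eq_one t)
  have hs : orderOf (⟨g * t * g⁻¹, hg⟩ : ↥(S : Subgroup G)) = 2 := by
    rw [← Subgroup.orderOf_coe]; simp only []; rw [orderOf_conj', ht]
  have hc : IsConj t ((⟨g * t * g⁻¹, hg⟩ : ↥(S : Subgroup G)) : G) := isConj_of_conj rfl
  rcases D.cases ⟨g * t * g⁻¹, hg⟩ with ⟨i, j, hi⟩ | ⟨i, j, hi⟩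
  · rw [hi, D.orderOf_e_eq_two_iff] at hs
    rw [hi] at hc
    rcases hs with ⟨h1, h2⟩ | ⟨h1, h2⟩ | ⟨h1, h2⟩
    · right; left; rw [h1, h2] at hc; exact hc
    · right; left
      rw [h1, h2] at hc
      exact hc.trans (isConj_coe S ((D.isConj_e_iff 0 D.h _).mpr (Or.inr rfl)))
    · left; rw [h1, h2] at hc; exact hc
  · right; right
    rw [hi, D.orderOf_b_eq_two_iff] at hs
    rw [hi] at hc
    have hj : j = -i := by linear_combination hs
    rw [hj] at hc
    exact hc.trans (isConj_coe S (D.isConj_b_z i))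

theorem orderOf_zc : orderOf (D.e D.h D.h : G) = 2 := by
  rw [Subgroup.orderOf_coe, D.orderOf_e_eq_two_iff]; exact Or.inr (Or.inr ⟨rfl, rfl⟩)

theorem orderOf_a : orderOf (D.e D.h 0 : G) = 2 := by
  rw [Subgroup.orderOf_coe, D.orderOf_e_eq_two_iff]; exact Or.inl ⟨rfl, rfl⟩

theorem orderOf_z : orderOf (D.z : G) = 2 := by
  rw [Subgroup.orderOf_coe]; exact D.hz

/-- The given abelian subgroup of order `2^(2n)` is `U`. -/
theorem subgroupOf_eq_U (n : ℕ) (hn : Nat.card (S : Subgroup G) = 2 ^ (2 * n + 1)) (U : Subgroup G)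
    (hUS : U ≤ S) (hUab : IsMulCommutative U) (hUcard : Nat.card U = 2 ^ (2 * n)) :
    D.n = n ∧ U.subgroupOf (S : Subgroup G) = D.U := by
  have hn' : D.n = n := by
    have h1 := D.card
    rw [hn] at h1
    have h2 := Nat.pow_right_injective (le_refl 2) h1
    omega
  refine ⟨hn', ?_⟩
  apply D.comm_eq_U
  · rintro ⟨a, haS⟩ ha ⟨c, hcS⟩ hc
    rw [Subgroup.mem_subgroupOf] at ha hc
    apply Subtype.ext
    have := mul_comm' (⟨a, ha⟩ : U) ⟨c, hc⟩
    have h2 := congrArg Subtype.val this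
    simpa using h2
  · rw [Nat.card_congr (Subgroup.subgroupOfEquivOfLe hUS).toEquiv, hUcard, hn']

end Cfsg.Agent.helper6.WrFus
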