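import Mathlib
import Cfsg.Agent.Lib_helper6_WrFus

set_option autoImplicit false
set_option linter.unusedSectionVars false
set_option linter.unusedVariables false

namespace Cfsg.Agent.helper6.WrAut

open Cfsg.Agent.helper6.Wr Cfsg.Agent.helper6.ZExp Cfsg.Agent.helper6.TwoPow
open Cfsg.Agent.helper6.QDAut (fix_step)

variable {S : Type*} [Group S] (D : Data S) [Finite S]
variable {H : Type*} [Group H] (ι : H →* S) (hι : Function.Injective ι)

include hι in
theorem hZ_of_noncentral (f : MulAut H) (a₀ a₁ : H) (i₀ j₀ i₁ j₁ : D.Z)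
    (h₀ : ι a₀ = D.b i₀ j₀) (h₁ : ι a₁ = D.e i₁ j₁) (hne : i₁ ≠ j₁) :
    ∀ a k, ι a = D.e k k → ∃ k', ι (f a) = D.e k' k' := by
  intro a k hak
  have hcent : ∀ x : H, a * x = x * a := by
    intro x
    apply hι
    rw [map_mul, map_mul, hak]
    exact D.e_diag_central k _
  have hfcent : ∀ x : H, f a * x = x * f a := by
    intro x
    obtain ⟨x', rfl⟩ := f.surjective x
    rw [← map_mul, ← map_mul, hcent]
  rcases D.cases (ι (f a)) with ⟨i', j', h⟩ | ⟨i', j', h⟩
  · have h1 := congrArg ι (hfcent a₀)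
    rw [map_mul, map_mul, h, h₀] at h1
    have h2 := (D.comm_e_b_iff i' j' i₀ j₀).mp h1
    exact ⟨i', by rw [h, h2]⟩
  · exfalso
    have h1 := congrArg ι (hfcent a₁)
    rw [map_mul, map_mul, h, h₁] at h1
    exact hne ((D.comm_e_b_iff i₁ j₁ i' j').mp h1.symm)

include hι in
theorem hU_of_alpha (f : MulAut H) (a₀ u₁ : H) (i₀ j₀ i₁ j₁ : D.Z) (h₀ : ι a₀ = D.b i₀ j₀)
    (h₁ : ι u₁ = D.e i₁ j₁) (hne : 2 * (i₁ - j₁) ≠ 0) :
    ∀ a k l, ι a = D.e k l → ∃ k' l', ι (f a) = D.e k' l' := by
  have key : ∀ a k l, ι a = D.e k l → 2 * (k - l) ≠ 0 → ∃ k' l', ι (f a) = D.e k' l' := by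
    intro a k l hak hkl
    rcases D.cases (ι (f a)) with h | ⟨i', j', h⟩
    · exact h
    · exfalso
      have h1 : f a * f a * f a₀ = f a₀ * (f a * f a) := by
        apply hι
        rw [map_mul, map_mul, map_mul, map_mul, h, D.b_b, add_comm j' i']
        exact D.e_diag_central _ _
      have h2 : a * a * a₀ = a₀ * (a * a) := by
        apply f.injective
        rw [map_mul, map_mul, map_mul, map_mul]
        exact h1
      have h3 := congrArg ι h2
      rw [map_mul, map_mul, map_mul, map_mul, hak, h₀, D.e_e] at h3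
      have h4 := (D.comm_e_b_iff _ _ _ _).mp h3
      apply hkl
      linear_combination h4
  intro a k l hak
  by_cases hkl : 2 * (k - l) = 0
  · have h2 : ι (a * u₁⁻¹) = D.e (k - i₁) (l - j₁) := by
      rw [map_mul, map_inv, hak, h₁, D.e_inv, D.e_e]
      congr 1 <;> ring
    obtain ⟨k₂, l₂, h3⟩ := key _ _ _ h2 (by
      intro h
      apply hne
      linear_combination hkl - h)
    obtain ⟨k₃, l₃, h4⟩ := key _ _ _ h₁ hne
    refine ⟨k₂ + k₃, l₂ + l₃, ?_⟩
    have e1 : f a = f (a * u₁⁻¹) * f u₁ := by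
      rw [← map_mul]
      congr 1
      group
    rw [e1, map_mul, h3, h4, D.e_e]
  · exact key a k l hak hkl

include hι in
theorem hU_of_odd (f : MulAut H) (hodd : ∀ a i j, ι a = D.b i j → D.par (i + j) = 1) :
    ∀ a k l, ι a = D.e k l → ∃ k' l', ι (f a) = D.e k' l' := by
  intro a k l hak
  rcases D.cases (ι (f a)) with h | ⟨i', j', h⟩
  · exact h
  · exfalso
    have h1 : a ^ (2 ^ D.n) = 1 := by
      apply hι
      rw [map_pow, map_one, hak, D.e_pow, D.e_eq_one_iff]
      have h0 : ((2 ^ D.n : ℕ) : D.Z) = 0 := ZMod.natCast_self _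
      constructor <;> rw [h0, mul_zero]
    have h2 : (f a) ^ (2 ^ D.n) = 1 := by rw [← map_pow, h1, map_one]
    have h3 := congrArg ι h2
    have hn2 : 2 ^ D.n = 2 * 2 ^ (D.n - 1) := D.two_mul_pow.symm
    rw [map_pow, map_one, h, hn2, pow_mul, D.sq_b, D.e_pow, D.pow_cast, D.e_eq_one_iff] at h3
    have h4 := D.h_mul_odd (hodd _ _ _ h)
    exact D.h_ne (by linear_combination h3.1 - h4)

include hι in
/-- the abelian case: `H = Z(S) ∪ a₀ Z(S)`. -/
theorem abelian_trivial (f : MulAut H) (r : ℕ) (hr : Odd r) (hfr : f ^ r = 1)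
    (a₀ : H) (i₀ j₀ : D.Z) (h₀ : ι a₀ = D.b i₀ j₀)
    (hcen : ∀ a k l, ι a = D.e k l → k = l) (hZr : ∀ k : D.Z, ∃ a, ι a = D.e k k) : f = 1 := by
  -- coordinates of elements outside `U`
  have hbt : ∀ a i j, ι a = D.b i j → i - i₀ = j - j₀ := by
    intro a i j ha
    have h1 : ι (a * a₀⁻¹) = D.e (i + -i₀) (j + -j₀) := by
      rw [map_mul, map_inv, ha, h₀, D.b_inv, D.b_b]
    have h2 := hcen _ _ _ h1
    linear_combination h2
  have hab : ∀ x y : H, x * y = y * x := by
    intro x y
    apply hι
    rw [map_mul, map_mul]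
    rcases D.cases (ι x) with ⟨i, j, hx⟩ | ⟨i, j, hx⟩
    · rw [hx, hcen _ _ _ hx]
      exact D.e_diag_central _ _
    · rcases D.cases (ι y) with ⟨k, l, hy⟩ | ⟨k, l, hy⟩
      · rw [hy, hcen _ _ _ hy]
        exact (D.e_diag_central _ _).symm
      · rw [hx, hy, D.comm_b_b_iff]
        have h1 := hbt _ _ _ hx
        have h2 := hbt _ _ _ hy
        linear_combination h1 - h2
  have h2pow : ∀ t : H, ∃ e : ℕ, t ^ (2 ^ e) = 1 := fun t => ⟨_, pow_card_eq_one D ι hι t⟩
  have hsq : ∀ c : H, ∃ m, ι (c * c) = D.e m m := by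
    intro c
    rcases D.cases (ι c) with ⟨i, j, hc⟩ | ⟨i, j, hc⟩
    · refine ⟨i + i, ?_⟩
      rw [map_mul, hc, D.e_e, hcen _ _ _ hc]
    · refine ⟨i + j, ?_⟩
      rw [map_mul, hc, D.b_b, add_comm j i]
  obtain ⟨q, hq⟩ := (D.par_eq_zero_iff D.h).mp D.par_h
  set K₁ : Set H := {a | a * a = 1 ∧ ∃ c, a = c * c} with hK₁
  set L : Set H := {a | a * a = 1} with hL
  have hK1_one : (1 : H) ∈ K₁ := ⟨by rw [mul_one], 1, by rw [mul_one]⟩
  have hhh : D.e D.h D.h * D.e D.h D.h = 1 := by
    rw [D.e_e, D.e_eq_one_iff]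
    exact ⟨by linear_combination D.two_h, by linear_combination D.two_h⟩
  have hK1_h : ∀ a, ι a = D.e D.h D.h → a ∈ K₁ := by
    intro a ha
    refine ⟨?_, ?_⟩
    · apply hι
      rw [map_mul, ha, map_one]
      exact hhh
    · obtain ⟨c, hc⟩ := hZr q
      refine ⟨c, ?_⟩
      apply hι
      rw [map_mul, hc, ha, D.e_e, D.e_inj]
      constructor <;> linear_combination hq
  have hK1_cases : ∀ a ∈ K₁, a = 1 ∨ ι a = D.e D.h D.h := by
    rintro a ⟨ha2, c, hc⟩
    obtain ⟨m, hm⟩ := hsq c
    rw [← hc] at hm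
    have h1 := congrArg ι ha2
    rw [map_mul, hm, map_one, D.e_e, D.e_eq_one_iff] at h1
    have h2 : 2 * m = 0 := by linear_combination h1.1
    rcases (D.two_mul_eq_zero_iff m).mp h2 with h | h
    · left
      apply hι
      rw [hm, h, D.e_zero, map_one]
    · right
      rw [hm, h]
  have step1 : ∀ a ∈ K₁, f a = a := by
    apply fix_step f r hfr {1} K₁
    · intro a ha
      rw [Set.mem_singleton_iff] at ha
      rw [ha, map_one]
    · rintro a ⟨ha2, c, hc⟩
      refine ⟨?_, f c, ?_⟩
      · rw [← map_mul, ha2, map_one]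
      · rw [← map_mul, hc]
    · intro a ha b hb ha1 hb1
      rw [Set.mem_singleton_iff] at ha1 hb1 ⊢
      rcases hK1_cases a ha with h | h
      · exact absurd h ha1
      · rcases hK1_cases b hb with h' | h'
        · exact absurd h' hb1
        · have : a = b := hι (h.trans h'.symm)
          rw [this, inv_mul_cancel]
    · intro c hc _
      exact hc
  have step2 : ∀ a ∈ L, f a = a := by
    apply fix_step f r hfr K₁ L step1
    · intro a ha
      show f a * f a = 1
      rw [← map_mul, ha, map_one]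
    · intro a ha b hb haK hbK
      have hbtype : ∀ t ∈ L, t ∉ K₁ → ∃ i j, ι t = D.b i j ∧ i + j = 0 := by
        intro t ht htK
        rcases D.cases (ι t) with ⟨i, j, hx⟩ | ⟨i, j, hx⟩
        · exfalso
          have hij := hcen _ _ _ hx
          have h1 := congrArg ι ht
          rw [map_mul, hx, map_one, D.e_e, D.e_eq_one_iff] at h1
          have h2 : 2 * j = 0 := by linear_combination h1.2
          rcases (D.two_mul_eq_zero_iff j).mp h2 with h | h
          · apply htK
            have : t = 1 := by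
              apply hι
              rw [hx, hij, h, D.e_zero, map_one]
            rw [this]
            exact hK1_one
          · apply htK
            apply hK1_h
            rw [hx, hij, h]
        · refine ⟨i, j, hx, ?_⟩
          have h1 := congrArg ι ht
          rw [map_mul, hx, map_one, D.b_b, D.e_eq_one_iff] at h1
          exact h1.1
      obtain ⟨i, j, hx, hij⟩ := hbtype a ha haK
      obtain ⟨k, l, hy, hkl⟩ := hbtype b hb hbK
      have h1 := hbt _ _ _ hx
      have h2 := hbt _ _ _ hy
      have h3 : ι (a⁻¹ * b) = D.e (-j + l) (-j + l) := by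
        rw [map_mul, map_inv, hx, hy, D.b_inv, D.b_b, D.e_inj]
        refine ⟨rfl, ?_⟩
        linear_combination h2 - h1
      have h4 : 2 * (-j + l) = 0 := by
        linear_combination h1 - h2 - hij + hkl
      rcases (D.two_mul_eq_zero_iff _).mp h4 with h | h
      · have : a⁻¹ * b = 1 := by
          apply hι
          rw [h3, h, D.e_zero, map_one]
        rw [this]
        exact hK1_one
      · apply hK1_h
        rw [h3, h]
    · intro c _ hc
      exact eq_one_of_odd_pow D ι hι hr c hc
  exact Cfsg.Agent.helper6.WrFus.odd_aut_trivial' hab h2pow f r hr hfr (fun t ht => step2 t ht)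

include hι in
/-- Classification of the subgroups `X` of a wreathed 2-group with `C_S(X) ≤ X` admitting a
non-trivial automorphism of odd order. -/
theorem centric_cases (hcent : ∀ s : S, (∀ a : H, s * ι a = ι a * s) → ∃ a : H, ι a = s)
    (f : MulAut H) (r : ℕ) (hr : Odd r) (hfr : f ^ r = 1) (hf1 : f ≠ 1) :
    ι.range = D.U ∨ ∃ c, D.par c = 0 ∧ ι.range = D.Vd c := by
  have hZr : ∀ k : D.Z, ∃ a, ι a = D.e k k := fun k =>
    hcent _ (fun a => D.e_diag_central k _)
  by_cases hb : ∃ a₀ i₀ j₀, ι a₀ = D.b i₀ j₀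
  · obtain ⟨a₀, i₀, j₀, h₀⟩ := hb
    right
    by_cases hnc : ∃ a₁ i₁ j₁, ι a₁ = D.e i₁ j₁ ∧ i₁ ≠ j₁
    · obtain ⟨a₁, i₁, j₁, h₁, hne⟩ := hnc
      have hZ := hZ_of_noncentral D ι hι f a₀ a₁ i₀ j₀ i₁ j₁ h₀ h₁ hne
      by_cases hal : ∃ u₁ i j, ι u₁ = D.e i j ∧ 2 * (i - j) ≠ 0
      · exfalso
        obtain ⟨u₁, i, j, hu, hij⟩ := hal
        exact hf1 (aut_trivial D ι hι f r hr hfr hZ
          (hU_of_alpha D ι hι f a₀ u₁ i₀ j₀ i j h₀ hu hij))
      · push Not at hal
        have hij₁ : i₁ - j₁ = D.h := by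
          rcases (D.two_mul_eq_zero_iff _).mp (hal a₁ i₁ j₁ h₁) with h | h
          · exact absurd (by linear_combination h) hne
          · exact h
        have hrange : ι.range = D.Vd (i₀ - j₀) := by
          ext s
          rw [MonoidHom.mem_range]
          constructor
          · rintro ⟨a, rfl⟩
            rcases D.cases (ι a) with ⟨k, l, hx⟩ | ⟨k, l, hx⟩
            · rw [hx, D.e_mem_Vd]
              exact hal a k l hx
            · rw [hx, D.b_mem_Vd]
              have h1 : ι (a * a₀⁻¹) = D.e (k + -i₀) (l + -j₀) := by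
                rw [map_mul, map_inv, hx, h₀, D.b_inv, D.b_b]
              have h2 := hal _ _ _ h1
              linear_combination h2
          · intro hs
            have he : ∀ i j : D.Z, 2 * (i - j) = 0 → ∃ a, ι a = D.e i j := by
              intro i j hij
              rcases (D.two_mul_eq_zero_iff _).mp hij with h | h
              · obtain ⟨a, ha⟩ := hZr i
                refine ⟨a, ?_⟩
                rw [ha, D.e_inj]
                exact ⟨rfl, by linear_combination h⟩
              · obtain ⟨a, ha⟩ := hZr (i - i₁)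
                refine ⟨a₁ * a, ?_⟩
                rw [map_mul, h₁, ha, D.e_e, D.e_inj]
                constructor
                · ring
                · linear_combination h - hij₁
            rcases D.cases s with ⟨i, j, rfl⟩ | ⟨i, j, rfl⟩
            · rw [D.e_mem_Vd] at hs
              exact he i j hs
            · rw [D.b_mem_Vd] at hs
              obtain ⟨a, ha⟩ := he (i - i₀) (j - j₀) (by linear_combination hs)
              refine ⟨a * a₀, ?_⟩
              rw [map_mul, ha, h₀, D.e_b, D.b_inj]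
              constructor <;> ring
        by_cases hc : D.par (i₀ - j₀) = 0
        · exact ⟨_, hc, hrange⟩
        · exfalso
          have hc1 : D.par (i₀ - j₀) = 1 := by
            rcases D.par_cases (i₀ - j₀) with h | h
            · exact absurd h hc
            · exact h
          apply hf1
          apply aut_trivial D ι hι f r hr hfr hZ
          apply hU_of_odd D ι hι f
          intro a i j ha
          have h1 : ι a ∈ D.Vd (i₀ - j₀) := by
            rw [← hrange]
            exact ⟨a, rfl⟩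
          rw [ha, D.b_mem_Vd] at h1
          have h2 : D.par (i - j - (i₀ - j₀)) = 0 := by
            rcases (D.two_mul_eq_zero_iff _).mp h1 with h | h
            · rw [h, map_zero]
            · rw [h, D.par_h]
          have h3 : i + j = (i - j - (i₀ - j₀)) + (i₀ - j₀) + 2 * j := by ring
          have h4 : D.par (2 * j) = 0 := (D.par_eq_zero_iff _).mpr ⟨j, rfl⟩
          rw [h3, map_add, map_add, h2, hc1, h4]
          ring
    · exfalso
      push Not at hnc
      apply hf1
      apply abelian_trivial D ι hι f r hr hfr a₀ i₀ j₀ h₀ ?_ hZr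
      intro a k l ha
      exact hnc a k l ha
  · left
    push Not at hb
    have hall : ∀ a : H, ∃ i j, ι a = D.e i j := by
      intro a
      rcases D.cases (ι a) with h | ⟨i, j, h⟩
      · exact h
      · exact absurd h (hb a i j)
    ext s
    rw [MonoidHom.mem_range, D.mem_U_iff]
    constructor
    · rintro ⟨a, rfl⟩
      exact hall a
    · rintro ⟨i, j, rfl⟩
      apply hcent
      intro a
      obtain ⟨k, l, hk⟩ := hall a
      rw [hk, D.e_e, D.e_e, add_comm i k, add_comm j l]

end Cfsg.Agent.helper6.WrAut
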