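import Mathlib
import Cfsg.Agent.Lib_helper6_WrAut2

set_option autoImplicit false
set_option linter.unusedSectionVars false
set_option linter.unusedVariables false

namespace Cfsg.Agent.helper6.Wr

open Cfsg.Agent.helper6.ZExp Cfsg.Agent.helper6.TwoPow

variable {S : Type*} [Group S]

namespace Data

variable (D : Data S)

theorem exists_q : ∃ q : D.Z, 2 * q = D.h := by
  obtain ⟨q, hq⟩ := (D.par_eq_zero_iff D.h).mp D.par_h
  exact ⟨q, hq.symm⟩

theorem two_ne_zero' : (2 : D.Z) ≠ 0 := by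
  intro h
  have h1 : (2 : D.Z) * 1 = 0 := by rw [mul_one]; exact h
  rcases (D.two_mul_eq_zero_iff 1).mp h1 with h2 | h2
  · exact D.one_ne_zero' h2
  · have h3 := congrArg D.par h2
    rw [map_one, D.par_h] at h3
    exact one_ne_zero h3

variable [Finite S]

theorem sq_of_mem_Y (g : S) (hY : g ∈ D.Y) (c : D.Z) (hV : g ∈ D.Vd c)
    (hnc : ∀ k, g ≠ D.e k k) : g * g = D.e D.h D.h := by
  rcases D.cases g with ⟨i, j, rfl⟩ | ⟨i, j, rfl⟩
  · rw [D.e_mem_Y] at hY
    rw [D.e_mem_Vd] at hV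
    rcases (D.two_mul_eq_zero_iff _).mp hV with h | h
    · exfalso
      apply hnc i
      rw [D.e_inj]
      exact ⟨rfl, by linear_combination -h⟩
    · rw [D.e_e, D.e_inj]
      constructor
      · linear_combination hY + h
      · linear_combination hY - h - D.two_h
  · rw [D.b_mem_Y] at hY
    rw [D.b_b, D.e_inj]
    exact ⟨hY, by rw [add_comm]; exact hY⟩

theorem mem_Y_of_sq (g : S) (c : D.Z) (hV : g ∈ D.Vd c) (hsq : g * g = D.e D.h D.h)
    (hnc : ∀ k, g ≠ D.e k k) : g ∈ D.Y := by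
  rcases D.cases g with ⟨i, j, rfl⟩ | ⟨i, j, rfl⟩
  · rw [D.e_mem_Vd] at hV
    rw [D.e_e, D.e_inj] at hsq
    obtain ⟨h1, h2⟩ := hsq
    rw [D.e_mem_Y]
    rcases (D.two_mul_eq_zero_iff _).mp hV with h | h
    · exfalso
      apply hnc i
      rw [D.e_inj]
      exact ⟨rfl, by linear_combination -h⟩
    · have h3 : 2 * (i + j) = 0 := by linear_combination h1 + h2 + D.two_h
      rcases (D.two_mul_eq_zero_iff _).mp h3 with h4 | h4
      · exact h4
      · exfalso
        apply D.h_ne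
        linear_combination h1 - h4 - h
  · rw [D.b_b, D.e_inj] at hsq
    rw [D.b_mem_Y]
    exact hsq.1

/-- `Vd c = (Vd c ∩ Y) Z(S)` for even `c`. -/
theorem Vd_decomp (c : D.Z) (hc : D.par c = 0) (t : S) (ht : t ∈ D.Vd c) :
    ∃ q ∈ D.Y, q ∈ D.Vd c ∧ ∃ k, t = q * D.e k k := by
  obtain ⟨q₀, hq₀⟩ := D.exists_q
  rcases D.cases t with ⟨i, j, rfl⟩ | ⟨i, j, rfl⟩
  · rw [D.e_mem_Vd] at ht
    rcases (D.two_mul_eq_zero_iff _).mp ht with h | h
    · refine ⟨1, one_mem _, one_mem _, i, ?_⟩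
      rw [one_mul, D.e_inj]
      exact ⟨rfl, by linear_combination -h⟩
    · refine ⟨D.e q₀ (-q₀), (D.e_mem_Y _ _).mpr (by ring),
        (D.e_mem_Vd _ _ _).mpr (by linear_combination 2 * hq₀ + D.two_h), i - q₀, ?_⟩
      rw [D.e_e, D.e_inj]
      constructor
      · ring
      · linear_combination -h + hq₀
  · rw [D.b_mem_Vd] at ht
    have hp : D.par (i + j - D.h) = 0 := by
      have h1 : D.par (i - j - c) = 0 := by
        rcases (D.two_mul_eq_zero_iff _).mp ht with h | h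
        · rw [h, map_zero]
        · rw [h, D.par_h]
      have h2 : i + j - D.h = (i - j - c) + c + 2 * j - D.h := by ring
      have h3 : D.par (2 * j) = 0 := (D.par_eq_zero_iff _).mpr ⟨j, rfl⟩
      rw [h2, map_sub, map_add, map_add, h1, hc, h3, D.par_h]
      ring
    obtain ⟨k, hk⟩ := (D.par_eq_zero_iff _).mp hp
    refine ⟨D.b (i - k) (j - k), (D.b_mem_Y _ _).mpr (by linear_combination hk),
      (D.b_mem_Vd _ _ _).mpr (by linear_combination ht), k, ?_⟩
    rw [D.b_e, D.b_inj]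
    constructor <;> ring

end Data

end Cfsg.Agent.helper6.Wr

namespace Cfsg.Agent.helper6.WrAut

open Cfsg.Agent.helper6.Wr Cfsg.Agent.helper6.ZExp Cfsg.Agent.helper6.TwoPow

variable {S : Type*} [Group S] (D : Data S) [Finite S]
variable {H : Type*} [Group H] (ι : H →* S) (hι : Function.Injective ι)

include hι in
/-- an automorphism of `Vd c` fixing `Z(S)` pointwise preserves `Vd c ∩ Y`. -/
theorem Vd_preserve_Y (f : MulAut H) (hfix : ∀ a k, ι a = D.e k k → f a = a) (c : D.Z)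
    (hmem : ∀ a, ι a ∈ D.Vd c) (a : H) (ha : ι a ∈ D.Y) : ι (f a) ∈ D.Y := by
  by_cases hcen : ∃ k, ι a = D.e k k
  · obtain ⟨k, hk⟩ := hcen
    rw [hfix a k hk]
    exact ha
  · push Not at hcen
    have h1 := D.sq_of_mem_Y (ι a) ha c (hmem a) hcen
    apply D.mem_Y_of_sq (ι (f a)) c (hmem _)
    · have h2 : f (a * a) = a * a := hfix (a * a) D.h (by rw [map_mul]; exact h1)
      rw [← map_mul, ← map_mul, h2, map_mul]
      exact h1
    · intro k hk
      have h3 : f (f a) = f a := hfix (f a) k hk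
      have h4 : f a = a := f.injective h3
      rw [h4] at hk
      exact hcen k hk

include hι in
/-- commutators of `Vd c` with such an automorphism lie in `Y`. -/
theorem Vd_comm_mem_Y (f : MulAut H) (hfix : ∀ a k, ι a = D.e k k → f a = a) (c : D.Z)
    (hc : D.par c = 0) (hrange : ι.range = D.Vd c) (a : H) : ι (a⁻¹ * f a) ∈ D.Y := by
  have hmem : ∀ a, ι a ∈ D.Vd c := fun a => by rw [← hrange]; exact ⟨a, rfl⟩
  obtain ⟨q, hqY, hqV, k, hk⟩ := D.Vd_decomp c hc (ι a) (hmem a)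
  obtain ⟨aq, haq⟩ : ∃ aq, ι aq = q := by rw [← hrange] at hqV; exact hqV
  obtain ⟨aζ, haζ⟩ : ∃ aζ, ι aζ = D.e k k := by
    have h1 : D.e k k ∈ D.Vd c := (D.e_mem_Vd _ _ _).mpr (by ring)
    rw [← hrange] at h1
    exact h1
  have ha : a = aζ * aq := hι (by rw [map_mul, haq, haζ, D.e_diag_central k q]; exact hk)
  have hfa : f a = aζ * f aq := by rw [ha, map_mul, hfix aζ k haζ]
  have h1 : ι (f aq) ∈ D.Y := Vd_preserve_Y D ι hι f hfix c hmem aq (by rw [haq]; exact hqY)
  have h2 : a⁻¹ * f a = aq⁻¹ * f aq := by rw [hfa, ha]; group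
  rw [h2, map_mul, map_inv, haq]
  exact D.Y.mul_mem (D.Y.inv_mem hqY) h1

include hι in
/-- the key computation: a non-trivial automorphism of odd order of `Vd c` fixing `Z(S)`
pointwise moves `u = e q (-q)` around a 3-cycle of cosets. -/
theorem Vd_special (f : MulAut H) (r : ℕ) (hr : Odd r) (hfr : f ^ r = 1) (hf1 : f ≠ 1)
    (hfix : ∀ a k, ι a = D.e k k → f a = a) (c : D.Z) (hc : D.par c = 0)
    (hrange : ι.range = D.Vd c) (q₀ : D.Z) (hq₀ : 2 * q₀ = D.h) (u : H)
    (hu : ι u = D.e q₀ (-q₀)) :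
    (∃ i₂ j₂, ι (f u) = D.b i₂ j₂ ∧ i₂ + j₂ = D.h) ∧
      ∃ ζ : H, (ι ζ = 1 ∨ ι ζ = D.e D.h D.h) ∧ f (f u) = u * f u * ζ := by
  have hmem : ∀ a, ι a ∈ D.Vd c := fun a => by rw [← hrange]; exact ⟨a, rfl⟩
  have hcenH : ∀ k, ∃ a, ι a = D.e k k := by
    intro k
    have h1 : D.e k k ∈ D.Vd c := (D.e_mem_Vd _ _ _).mpr (by ring)
    rw [← hrange] at h1
    exact h1
  have huY : ι u ∈ D.Y := by rw [hu, D.e_mem_Y]; ring
  have hZ : ∀ a k, ι a = D.e k k → ∃ k', ι (f a) = D.e k' k' :=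
    fun a k h => ⟨k, by rw [hfix a k h]; exact h⟩
  have hnotU : ¬ (∀ a k l, ι a = D.e k l → ∃ k' l', ι (f a) = D.e k' l') :=
    fun hU => hf1 (aut_trivial D ι hι f r hr hfr hZ hU)
  push Not at hnotU
  obtain ⟨a, k, l, hak, hno⟩ := hnotU
  have hkl : k - l = D.h := by
    have h1 := hmem a
    rw [hak, D.e_mem_Vd] at h1
    rcases (D.two_mul_eq_zero_iff _).mp h1 with h | h
    · exfalso
      have h2 : k = l := by linear_combination h
      rw [h2] at hak
      apply hno l l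
      rw [hfix a l hak]
      exact hak
    · exact h
  have hfu : ∃ i₂ j₂, ι (f u) = D.b i₂ j₂ := by
    rcases D.cases (ι (f u)) with ⟨i', j', h⟩ | h
    · exfalso
      obtain ⟨ζ₁, hζ₁⟩ := hcenH (k - q₀)
      have ha : a = u * ζ₁ := hι (by
        rw [map_mul, hu, hζ₁, hak, D.e_e, D.e_inj]
        constructor
        · ring
        · linear_combination -hkl + hq₀)
      apply hno (i' + (k - q₀)) (j' + (k - q₀))
      rw [ha, map_mul, map_mul, hfix ζ₁ _ hζ₁, h, hζ₁, D.e_e]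
    · exact h
  obtain ⟨i₂, j₂, hw⟩ := hfu
  have hwY : ι (f u) ∈ D.Y := Vd_preserve_Y D ι hι f hfix c hmem u huY
  have hij₂ : i₂ + j₂ = D.h := by
    rw [hw, D.b_mem_Y] at hwY
    exact hwY
  refine ⟨⟨i₂, j₂, hw, hij₂⟩, ?_⟩
  have hwV := hmem (f u)
  rw [hw, D.b_mem_Vd] at hwV
  have hfwY : ι (f (f u)) ∈ D.Y := Vd_preserve_Y D ι hι f hfix c hmem (f u) hwY
  rcases D.cases (ι (f (f u))) with ⟨i', j', h⟩ | ⟨i', j', h⟩
  · exfalso
    have h1 := hmem (f (f u))
    rw [h, D.e_mem_Vd] at h1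
    rcases (D.two_mul_eq_zero_iff _).mp h1 with h2 | h2
    · have h3 : i' = j' := by linear_combination h2
      rw [h3] at h
      have h4 : f (f (f u)) = f (f u) := hfix _ _ h
      have h5 : f (f u) = f u := f.injective h4
      rw [h5, hw] at h
      exact D.b_ne_e _ _ _ _ h
    · obtain ⟨ζ₂, hζ₂⟩ := hcenH (i' - q₀)
      have h3 : f (f u) = u * ζ₂ := hι (by
        rw [map_mul, hu, hζ₂, h, D.e_e, D.e_inj]
        constructor
        · ring
        · linear_combination -h2 + hq₀)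
      have hfζ : f ζ₂ = ζ₂ := hfix _ _ hζ₂
      have e1 : (f * f) u = u * ζ₂ := by rw [MulAut.mul_apply]; exact h3
      have e2 : (f * f) ζ₂ = ζ₂ := by rw [MulAut.mul_apply, hfζ, hfζ]
      have hpow : ∀ m : ℕ, ((f * f) ^ m) u = u * ζ₂ ^ m := by
        intro m
        induction m with
        | zero => simp
        | succ m ih =>
          rw [pow_succ', MulAut.mul_apply, ih, map_mul, map_pow, e1, e2, pow_succ', mul_assoc]
      obtain ⟨m, hm⟩ := hr
      have hff : (f * f) ^ (m + 1) = f := by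
        have h4 : (f * f) ^ (m + 1) = f ^ r * f := by
          rw [hm, ← pow_two, ← pow_mul, ← pow_succ]
          congr 1
        rw [h4, hfr, one_mul]
      have h6 := hpow (m + 1)
      rw [hff] at h6
      have h7 := congrArg ι h6
      rw [hw, map_mul, map_pow, hu, hζ₂, D.e_pow, D.e_e] at h7
      exact D.b_ne_e _ _ _ _ h7
  · have h1 := hmem (f (f u))
    rw [h, D.b_mem_Vd] at h1
    have h2 : 2 * ((i' - j') - (i₂ - j₂)) = 0 := by linear_combination h1 - hwV
    rcases (D.two_mul_eq_zero_iff _).mp h2 with h3 | h3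
    · exfalso
      obtain ⟨ζ₃, hζ₃⟩ := hcenH (i' - i₂)
      have h4 : f (f u) = f u * ζ₃ := hι (by
        rw [map_mul, hw, hζ₃, h, D.b_e, D.b_inj]
        constructor
        · ring
        · linear_combination -h3)
      have hfζ : f ζ₃ = ζ₃ := hfix _ _ hζ₃
      have h5 : f (f u) = f (u * ζ₃) := by rw [map_mul, hfζ]; exact h4
      have h6 : f u = u * ζ₃ := f.injective h5
      have h7 := congrArg ι h6
      rw [hw, map_mul, hu, hζ₃, D.e_e] at h7
      exact D.b_ne_e _ _ _ _ h7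
    · obtain ⟨ζ, hζ⟩ := hcenH (i' - q₀ - i₂)
      have h4 : f (f u) = u * f u * ζ := hι (by
        rw [map_mul, map_mul, hu, hw, hζ, h, D.e_b, D.b_e, D.b_inj]
        constructor
        · ring
        · linear_combination -h3 + hq₀)
      refine ⟨ζ, ?_, h4⟩
      have h5 : ι ζ ∈ D.Y := by
        have e1 : ζ = (u * f u)⁻¹ * f (f u) := by rw [h4]; group
        rw [e1, map_mul, map_inv, map_mul]
        exact D.Y.mul_mem (D.Y.inv_mem (D.Y.mul_mem huY hwY)) hfwY
      rw [hζ, D.e_mem_Y] at h5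
      rcases (D.two_mul_eq_zero_iff (i' - q₀ - i₂)).mp (by linear_combination h5) with h6 | h6
      · left; rw [hζ, h6, D.e_zero]
      · right; rw [hζ, h6]

end Cfsg.Agent.helper6.WrAut
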