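import Mathlib
import Cfsg.Agent.Lib_helper6_WrVd
import Cfsg.Agent.Lib_helper6_AutIdx3

set_option autoImplicit false
set_option linter.unusedSectionVars false
set_option linter.unusedVariables false

namespace Cfsg.Agent.helper6.WrAut

open Cfsg.Agent.helper6.Wr Cfsg.Agent.helper6.ZExp Cfsg.Agent.helper6.TwoPow
open Cfsg.Agent.helper6.AutIdx

/-- the automorphism induced on the central quotient. -/
noncomputable def autQuot (V : Type*) [Group V] : MulAut V →* MulAut (V ⧸ Subgroup.center V) where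
  toFun φ := QuotientGroup.congr (Subgroup.center V) (Subgroup.center V) φ
    (Subgroup.characteristic_iff_map_eq.mp inferInstance φ)
  map_one' := by
    ext x
    induction x using QuotientGroup.induction_on with
    | H a => rfl
  map_mul' φ ψ := by
    ext x
    induction x using QuotientGroup.induction_on with
    | H a => rfl

theorem autQuot_mk (V : Type*) [Group V] (φ : MulAut V) (a : V) :
    autQuot V φ (a : V ⧸ Subgroup.center V) = ((φ a : V) : V ⧸ Subgroup.center V) := rfl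

theorem autQuot_eq_one {V : Type*} [Group V] (φ : MulAut V) (h : autQuot V φ = 1) (a : V) :
    a⁻¹ * φ a ∈ Subgroup.center V := by
  have h1 : autQuot V φ (a : V ⧸ Subgroup.center V) = (a : V ⧸ Subgroup.center V) := by
    rw [h]; rfl
  rw [autQuot_mk] at h1
  exact QuotientGroup.eq.mp h1.symm

variable {S : Type*} [Group S] (D : Data S) [Finite S]
variable {H : Type*} [Group H] (ι : H →* S) (hι : Function.Injective ι)

include hι in
theorem center_type (c : D.Z) (hrange : ι.range = D.Vd c) (ζ : H) (hζ : ∀ x, ζ * x = x * ζ) :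
    ∃ m, ι ζ = D.e m m := by
  obtain ⟨q₀, hq₀⟩ := D.exists_q
  obtain ⟨a₀, ha₀⟩ : ∃ a₀, ι a₀ = D.b c 0 := by
    have h1 : D.b c 0 ∈ D.Vd c := by rw [D.b_mem_Vd]; ring
    rw [← hrange] at h1
    exact h1
  obtain ⟨a₁, ha₁⟩ : ∃ a₁, ι a₁ = D.e q₀ (-q₀) := by
    have h1 : D.e q₀ (-q₀) ∈ D.Vd c := by
      rw [D.e_mem_Vd]; linear_combination 2 * hq₀ + D.two_h
    rw [← hrange] at h1
    exact h1
  rcases D.cases (ι ζ) with ⟨k, l, h⟩ | ⟨k, l, h⟩
  · have h1 := congrArg ι (hζ a₀)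
    rw [map_mul, map_mul, h, ha₀] at h1
    have h2 := (D.comm_e_b_iff k l c 0).mp h1
    exact ⟨k, by rw [h, h2]⟩
  · exfalso
    have h1 := congrArg ι (hζ a₁)
    rw [map_mul, map_mul, h, ha₁] at h1
    have h2 := (D.comm_e_b_iff q₀ (-q₀) k l).mp h1.symm
    apply D.h_ne
    rw [← hq₀]
    linear_combination h2

include hι in
theorem mem_center_iff_type (c : D.Z) (hrange : ι.range = D.Vd c) (a : H) :
    a ∈ Subgroup.center H ↔ ∃ k, ι a = D.e k k := by
  rw [Subgroup.mem_center_iff]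
  constructor
  · intro h
    exact center_type D ι hι c hrange a (fun x => (h x).symm)
  · rintro ⟨k, hk⟩ x
    apply hι
    rw [map_mul, map_mul, hk]
    exact (D.e_diag_central k _).symm

include hι in
theorem index_center (c : D.Z) (hrange : ι.range = D.Vd c) :
    (Subgroup.center H).index = 4 := by
  obtain ⟨q₀, hq₀⟩ := D.exists_q
  have hmem : ∀ a, ι a ∈ D.Vd c := fun a => by rw [← hrange]; exact ⟨a, rfl⟩
  obtain ⟨a₀, ha₀⟩ : ∃ a₀, ι a₀ = D.b c 0 := by
    have h1 : D.b c 0 ∈ D.Vd c := by rw [D.b_mem_Vd]; ring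
    rw [← hrange] at h1
    exact h1
  obtain ⟨a₁, ha₁⟩ : ∃ a₁, ι a₁ = D.e q₀ (-q₀) := by
    have h1 : D.e q₀ (-q₀) ∈ D.Vd c := by
      rw [D.e_mem_Vd]; linear_combination 2 * hq₀ + D.two_h
    rw [← hrange] at h1
    exact h1
  have hA : ∀ a : H, a ∈ D.U.comap ι ↔ ∃ i j, ι a = D.e i j := fun a => Iff.rfl
  have hZA : Subgroup.center H ≤ D.U.comap ι := by
    intro a ha
    obtain ⟨k, hk⟩ := (mem_center_iff_type D ι hι c hrange a).mp ha
    exact (hA a).mpr ⟨k, k, hk⟩
  have h1 : (D.U.comap ι).index = 2 := by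
    rw [Subgroup.index_eq_two_iff]
    refine ⟨a₀, fun b => ?_⟩
    rcases D.cases (ι b) with ⟨i, j, h⟩ | ⟨i, j, h⟩
    · right
      refine ⟨(hA b).mpr ⟨i, j, h⟩, ?_⟩
      rw [hA]
      rintro ⟨i', j', h'⟩
      rw [map_mul, h, ha₀, D.e_b] at h'
      exact D.b_ne_e _ _ _ _ h'
    · left
      refine ⟨(hA _).mpr ⟨i + 0, j + c, by rw [map_mul, h, ha₀, D.b_b]⟩, ?_⟩
      rw [hA]
      rintro ⟨i', j', h'⟩
      rw [h] at h'
      exact D.b_ne_e _ _ _ _ h'
  have h2 : (Subgroup.center H).relIndex (D.U.comap ι) = 2 := by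
    rw [Subgroup.relIndex_eq_two_iff]
    refine ⟨a₁, (hA a₁).mpr ⟨_, _, ha₁⟩, fun b hb => ?_⟩
    obtain ⟨i, j, h⟩ := (hA b).mp hb
    have hij := hmem b
    rw [h, D.e_mem_Vd] at hij
    rw [mem_center_iff_type D ι hι c hrange, mem_center_iff_type D ι hι c hrange]
    rcases (D.two_mul_eq_zero_iff _).mp hij with h0 | h0
    · right
      refine ⟨⟨i, by rw [h, D.e_inj]; exact ⟨rfl, by linear_combination -h0⟩⟩, ?_⟩
      rintro ⟨k, hk⟩
      rw [map_mul, h, ha₁, D.e_e, D.e_inj] at hk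
      apply D.h_ne
      linear_combination hk.1 - hk.2 - h0 - hq₀
    · left
      refine ⟨⟨i + q₀, ?_⟩, ?_⟩
      · rw [map_mul, h, ha₁, D.e_e, D.e_inj]
        exact ⟨rfl, by linear_combination -h0 - hq₀ - D.two_h⟩
      · rintro ⟨k, hk⟩
        rw [h, D.e_inj] at hk
        apply D.h_ne
        linear_combination hk.1 - hk.2 - h0
  have h3 := Subgroup.relIndex_mul_index hZA
  rw [h1, h2] at h3
  exact h3.symm

include hι in
theorem autQuot_ker_odd (c : D.Z) (hrange : ι.range = D.Vd c) (β : MulAut H)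
    (hβ : autQuot H β = 1) (r : ℕ) (hr : Odd r) (hβr : β ^ r = 1) : β = 1 := by
  have hζ : ∀ a : H, ∃ m, ι (a⁻¹ * β a) = D.e m m := by
    intro a
    have h1 := autQuot_eq_one β hβ a
    exact (mem_center_iff_type D ι hι c hrange _).mp h1
  apply aut_trivial D ι hι β r hr hβr
  · intro a k hk
    obtain ⟨m, hm⟩ := hζ a
    refine ⟨k + m, ?_⟩
    have e1 : β a = a * (a⁻¹ * β a) := by group
    rw [e1, map_mul, hk, hm, D.e_e]
  · intro a k l hk
    obtain ⟨m, hm⟩ := hζ a
    refine ⟨k + m, l + m, ?_⟩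
    have e1 : β a = a * (a⁻¹ * β a) := by group
    rw [e1, map_mul, hk, hm, D.e_e]

include hι in
theorem card_mulAut_quot_dvd (c : D.Z) (hrange : ι.range = D.Vd c) [Finite H] :
    Nat.card (MulAut (H ⧸ Subgroup.center H)) ∣ 6 := by
  have h1 := card_mulAut_dvd_factorial (H ⧸ Subgroup.center H)
  rw [← Subgroup.index_eq_card, index_center D ι hι c hrange] at h1
  exact h1

end Cfsg.Agent.helper6.WrAut
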