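import Mathlib
import Cfsg.Agent.Lib_helper6_WrFus

set_option autoImplicit false
set_option linter.unusedSectionVars false
set_option linter.unusedVariables false

namespace Cfsg.Agent.helper6.WrFus

open Cfsg.Agent.helper6.Wr Cfsg.Agent.helper6.AutIdx Cfsg.Agent.helper6.WrAut
open Cfsg.Agent.helper6.QDFus (isConj_coe isConj_of_conj orderOf_conj' card_classes_eq_one
  card_classes_eq_two)

theorem three_cover {α : Type*} (A B C a b c : α) (ha : a = A ∨ a = B ∨ a = C)
    (hb : b = A ∨ b = B ∨ b = C) (hc : c = A ∨ c = B ∨ c = C) (hab : a ≠ b) (hbc : b ≠ c)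
    (hac : a ≠ c) :
    (a = A ∨ b = A ∨ c = A) ∧ (a = B ∨ b = B ∨ c = B) ∧ (a = C ∨ b = C ∨ c = C) := by
  rcases ha with rfl | rfl | rfl <;> rcases hb with rfl | rfl | rfl <;>
    rcases hc with rfl | rfl | rfl <;> simp_all

variable {G : Type*} [Group G] [Finite G] (S : Sylow 2 G) (D : Data ↥(S : Subgroup G))

/-- If `|N_G(U) : C_G(U)| = 6`, some `g ∈ N_G(U)` acts fixed-point-freely with order 3 on `U` and
permutes the three involutions of `U` transitively. -/
theorem U_six (U : Subgroup G) (hUS : U ≤ S) (hU : U.subgroupOf (S : Subgroup G) = D.U)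
    (h₁ : (Subgroup.centralizer (U : Set G)).relIndex (Subgroup.normalizer (U : Set G)) = 6) :
    ∃ g ∈ Subgroup.normalizer (U : Set G),
      (∀ c ∈ U, c * (g * c * g⁻¹) * (g * (g * c * g⁻¹) * g⁻¹) = 1) ∧
      IsConj ((D.e D.h 0 : ↥(S : Subgroup G)) : G) ((D.e D.h D.h : ↥(S : Subgroup G)) : G) := by
  have hker := Subgroup.normalizerMonoidHom_ker (H := U)
  have hr : Nat.card U.normalizerMonoidHom.range = 6 := by
    rw [← Subgroup.index_ker, hker]; exact h₁
  have : Fact (Nat.Prime 3) := ⟨by norm_num⟩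
  obtain ⟨f', hf'⟩ := exists_prime_orderOf_dvd_card' (G := U.normalizerMonoidHom.range) 3
    (by rw [hr]; norm_num)
  obtain ⟨f, hf⟩ : ∃ f : MulAut U, f = (f' : MulAut U) := ⟨_, rfl⟩
  have hford : orderOf f = 3 := by rw [hf, Subgroup.orderOf_coe]; exact hf'
  obtain ⟨⟨g, hg⟩, hgf⟩ : ∃ x, U.normalizerMonoidHom x = f := by rw [hf]; exact f'.2
  have hf3 : f ^ 3 = 1 := by rw [← hford]; exact pow_orderOf_eq_one f
  have hf1 : f ≠ 1 := by
    intro h
    rw [h, orderOf_one] at hford
    norm_num at hford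
  have hfcoe : ∀ c : U, ((f c : U) : G) = g * c * g⁻¹ := by
    intro c
    rw [← hgf, Subgroup.normalizerMonoidHom_apply_apply_coe]
  -- the embedding into `S`
  have hι : Function.Injective (Subgroup.inclusion hUS) := Subgroup.inclusion_injective hUS
  have hrange : ∀ c : U, ∃ i j, Subgroup.inclusion hUS c = D.e i j := by
    intro c
    have h1 : Subgroup.inclusion hUS c ∈ U.subgroupOf (S : Subgroup G) := by
      rw [Subgroup.mem_subgroupOf]; exact c.2
    rw [hU] at h1
    exact h1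
  have hab : ∀ x y : U, x * y = y * x := by
    intro x y
    apply hι
    obtain ⟨i, j, hx⟩ := hrange x
    obtain ⟨k, l, hy⟩ := hrange y
    rw [map_mul, map_mul, hx, hy, D.e_e, D.e_e, add_comm i k, add_comm j l]
  have h2 : ∀ t : U, ∃ e : ℕ, t ^ (2 ^ e) = 1 := by
    intro t
    obtain ⟨k, hk⟩ := S.2 (Subgroup.inclusion hUS t)
    exact ⟨k, hι (by rw [map_pow, hk, map_one])⟩
  -- an involution moved by `f`
  have hmoved : ∃ t₀ : U, t₀ * t₀ = 1 ∧ f t₀ ≠ t₀ := by
    by_contra hno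
    push Not at hno
    exact hf1 (odd_aut_trivial' hab h2 f 3 (by decide) hf3 hno)
  obtain ⟨t₀, ht₀, hft₀⟩ := hmoved
  have hfff : ∀ c : U, f (f (f c)) = c := by
    intro c
    have := congrArg (fun φ : MulAut U => φ c) hf3
    simpa [pow_succ, MulAut.mul_apply] using this
  have h01 : t₀ ≠ f t₀ := fun h => hft₀ h.symm
  have h12 : f t₀ ≠ f (f t₀) := fun h => h01 (f.injective h)
  have h02 : t₀ ≠ f (f t₀) := by
    intro h
    apply h01
    have h3 := congrArg f h
    rw [hfff] at h3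
    exact h3.symm
  -- coordinates of involutions
  have hinvol : ∀ t : U, t * t = 1 → t ≠ 1 →
      Subgroup.inclusion hUS t = D.e D.h 0 ∨ Subgroup.inclusion hUS t = D.e 0 D.h ∨
        Subgroup.inclusion hUS t = D.e D.h D.h := by
    intro t htt ht1
    obtain ⟨i, j, hij⟩ := hrange t
    have ho : orderOf (D.e i j) = 2 := by
      rw [← hij, orderOf_injective _ hι, Data.orderOf_eq_two_iff']
      exact ⟨by rw [pow_two]; exact htt, ht1⟩
    rw [D.orderOf_e_eq_two_iff] at ho
    rw [hij]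
    rcases ho with ⟨h1, h2⟩ | ⟨h1, h2⟩ | ⟨h1, h2⟩ <;> rw [h1, h2] <;> simp
  have ht₀1 : t₀ ≠ 1 := by
    intro h; apply hft₀; rw [h, map_one]
  have hsq1 : f t₀ * f t₀ = 1 := by rw [← map_mul, ht₀, map_one]
  have hsq2 : f (f t₀) * f (f t₀) = 1 := by rw [← map_mul, hsq1, map_one]
  have hne1 : f t₀ ≠ 1 := fun h => ht₀1 (f.injective (by rw [h, map_one]))
  have hne2 : f (f t₀) ≠ 1 := fun h => hne1 (f.injective (by rw [h, map_one]))
  have hcover := three_cover (D.e D.h 0) (D.e 0 D.h) (D.e D.h D.h)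
    (Subgroup.inclusion hUS t₀) (Subgroup.inclusion hUS (f t₀))
    (Subgroup.inclusion hUS (f (f t₀))) (hinvol _ ht₀ ht₀1) (hinvol _ hsq1 hne1)
    (hinvol _ hsq2 hne2) (fun h => h01 (hι h)) (fun h => h12 (hι h)) (fun h => h02 (hι h))
  -- the three are conjugate in `G`
  have hc01 : IsConj (t₀ : G) ((f t₀ : U) : G) := isConj_of_conj (hfcoe t₀).symm
  have hc12 : IsConj ((f t₀ : U) : G) ((f (f t₀) : U) : G) := isConj_of_conj (hfcoe _).symm
  have hc02 := hc01.trans hc12
  have hcoe : ∀ t : U, ((Subgroup.inclusion hUS t : ↥(S : Subgroup G)) : G) = (t : G) :=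
    fun t => rfl
  have hconjAll : ∀ t t' : U, (t = t₀ ∨ t = f t₀ ∨ t = f (f t₀)) →
      (t' = t₀ ∨ t' = f t₀ ∨ t' = f (f t₀)) → IsConj (t : G) (t' : G) := by
    rintro t t' (rfl | rfl | rfl) (rfl | rfl | rfl)
    · exact IsConj.refl _
    · exact hc01
    · exact hc02
    · exact hc01.symm
    · exact IsConj.refl _
    · exact hc12
    · exact hc02.symm
    · exact hc12.symm
    · exact IsConj.refl _
  -- no fixed involution
  have hnofix : ∀ t : U, t * t = 1 → f t = t → t = 1 := by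
    intro t htt hft
    by_contra ht1
    have h3 := hinvol t htt ht1
    have h4 : t = t₀ ∨ t = f t₀ ∨ t = f (f t₀) := by
      rcases h3 with h | h | h
      · rcases hcover.1 with h' | h' | h'
        · left; exact hι (h.trans h'.symm)
        · right; left; exact hι (h.trans h'.symm)
        · right; right; exact hι (h.trans h'.symm)
      · rcases hcover.2.1 with h' | h' | h'
        · left; exact hι (h.trans h'.symm)
        · right; left; exact hι (h.trans h'.symm)
        · right; right; exact hι (h.trans h'.symm)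
      · rcases hcover.2.2 with h' | h' | h'
        · left; exact hι (h.trans h'.symm)
        · right; left; exact hι (h.trans h'.symm)
        · right; right; exact hι (h.trans h'.symm)
    rcases h4 with h | h | h
    · rw [h] at hft; exact hft₀ hft
    · rw [h] at hft; exact h12 hft.symm
    · rw [h, hfff] at hft; exact h02 hft
  have hfpf : ∀ e : ℕ, ∀ c : U, c ^ (2 ^ e) = 1 → f c = c → c = 1 := by
    intro e
    induction e with
    | zero => intro c h _; rwa [pow_zero, pow_one] at h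
    | succ e ih =>
      intro c h hfc
      have h1 : c * c = 1 := by
        apply ih
        · rw [← pow_two, ← pow_mul, ← pow_succ']; exact h
        · rw [map_mul, hfc]
      exact hnofix c h1 hfc
  refine ⟨g, hg, ?_, ?_⟩
  · intro c hc
    have hN : f (⟨c, hc⟩ * f ⟨c, hc⟩ * f (f ⟨c, hc⟩)) = ⟨c, hc⟩ * f ⟨c, hc⟩ * f (f ⟨c, hc⟩) := by
      rw [map_mul, map_mul, hfff, hab (f ⟨c, hc⟩ * f (f ⟨c, hc⟩)) ⟨c, hc⟩, mul_assoc]
    obtain ⟨e, he⟩ := h2 (⟨c, hc⟩ * f ⟨c, hc⟩ * f (f ⟨c, hc⟩))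
    have h1 := hfpf e _ he hN
    have h3 := congrArg Subtype.val h1
    rw [Subgroup.coe_mul, Subgroup.coe_mul, hfcoe (f ⟨c, hc⟩), hfcoe ⟨c, hc⟩,
      Subgroup.coe_one] at h3
    exact h3
  · -- `e h 0` and `e h h` are among the three
    have hA : ∃ t : U, (t = t₀ ∨ t = f t₀ ∨ t = f (f t₀)) ∧
        Subgroup.inclusion hUS t = D.e D.h 0 := by
      rcases hcover.1 with h' | h' | h'
      · exact ⟨_, Or.inl rfl, h'⟩
      · exact ⟨_, Or.inr (Or.inl rfl), h'⟩
      · exact ⟨_, Or.inr (Or.inr rfl), h'⟩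
    have hC : ∃ t : U, (t = t₀ ∨ t = f t₀ ∨ t = f (f t₀)) ∧
        Subgroup.inclusion hUS t = D.e D.h D.h := by
      rcases hcover.2.2 with h' | h' | h'
      · exact ⟨_, Or.inl rfl, h'⟩
      · exact ⟨_, Or.inr (Or.inl rfl), h'⟩
      · exact ⟨_, Or.inr (Or.inr rfl), h'⟩
    obtain ⟨tA, htA, hA'⟩ := hA
    obtain ⟨tC, htC, hC'⟩ := hC
    have := hconjAll tA tC htA htC
    rw [← hcoe tA, ← hcoe tC, hA', hC'] at this
    exact this

end Cfsg.Agent.helper6.WrFus
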