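import Mathlib
import Cfsg.Agent.Lib_helper6_WrFus2

set_option autoImplicit false
set_option linter.unusedSectionVars false
set_option linter.unusedVariables false

namespace Cfsg.Agent.helper6.WrFus

open Cfsg.Agent.helper6.Wr Cfsg.Agent.helper6.AutIdx Cfsg.Agent.helper6.WrAut
open Cfsg.Agent.helper6.QDFus (isConj_coe isConj_of_conj orderOf_conj' card_classes_eq_one
  card_classes_eq_two)

variable {G : Type*} [Group G] [Finite G] (S : Sylow 2 G) (D : Data ↥(S : Subgroup G))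

/-- the centre of `S` as a subgroup of `G`. -/
abbrev Zg : Subgroup G := (Subgroup.center ↥(S : Subgroup G)).map (S : Subgroup G).subtype

theorem Zg_le : Zg S ≤ S := Subgroup.map_subtype_le _

theorem subgroupOf_Zg : (Zg S).subgroupOf (S : Subgroup G) = Subgroup.center ↥(S : Subgroup G) :=
  Subgroup.comap_map_eq_self_of_injective (S : Subgroup G).subtype_injective _

include D in
/-- coordinates for `V = Q Z(S)`. -/
theorem V_coords (Q : Subgroup G) (hQS : Q ≤ S) (eQ : Q ≃* QuaternionGroup 2) :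
    ∃ i k l : D.Z, 2 * i = D.h ∧ k + l = D.h ∧
      (Q ⊔ Zg S).subgroupOf (S : Subgroup G) = D.Vd (k - l) := by
  have e' : Q.subgroupOf (S : Subgroup G) ≃* Q := Subgroup.subgroupOfEquivOfLe hQS
  obtain ⟨i, k, l, hi, hkl, -, -, hV⟩ := D.sup_center_eq_Vd _ (e'.trans eQ)
  refine ⟨i, k, l, hi, hkl, ?_⟩
  rw [Subgroup.subgroupOf_sup hQS (Zg_le S), subgroupOf_Zg, hV]

/-- the key dichotomy for automorphisms of odd order of `V`. -/
theorem V_aut (V : Subgroup G) (hVS : V ≤ S) (i c : D.Z) (hi : 2 * i = D.h)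
    (hV : V.subgroupOf (S : Subgroup G) = D.Vd c) (f : MulAut V) (r : ℕ) (hr : Odd r)
    (hfr : f ^ r = 1) (hf1 : f ≠ 1) :
    ∃ a₁ : V, ((a₁ : G) = ((D.e D.h 0 : ↥(S : Subgroup G)) : G)) ∧
      ∃ i₂ : D.Z, ((f a₁ : V) : G) = ((D.b i₂ (-i₂) : ↥(S : Subgroup G)) : G) := by
  have hι : Function.Injective (Subgroup.inclusion hVS) := Subgroup.inclusion_injective hVS
  have hmemV : ∀ s : ↥(S : Subgroup G), s ∈ D.Vd c → ∃ a : V, Subgroup.inclusion hVS a = s := by
    intro s hs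
    rw [← hV, Subgroup.mem_subgroupOf] at hs
    exact ⟨⟨(s : G), hs⟩, Subtype.ext rfl⟩
  have hrange : ∀ a : V, Subgroup.inclusion hVS a ∈ D.Vd c := by
    intro a
    rw [← hV, Subgroup.mem_subgroupOf]
    exact a.2
  obtain ⟨uV, huV⟩ := hmemV (D.e i (-i)) (by
    rw [D.e_mem_Vd]; linear_combination 2 * hi + D.two_h)
  obtain ⟨bV, hbV⟩ := hmemV (D.b c 0) (by rw [D.b_mem_Vd]; ring)
  have hZ : ∀ a k, Subgroup.inclusion hVS a = D.e k k →
      ∃ k', Subgroup.inclusion hVS (f a) = D.e k' k' := by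
    intro a k hak
    have hcent : ∀ x : V, a * x = x * a := by
      intro x
      apply hι
      rw [map_mul, map_mul, hak]
      exact D.e_diag_central k _
    have hfcent : ∀ x : V, f a * x = x * f a := by
      intro x
      obtain ⟨x', rfl⟩ := f.surjective x
      rw [← map_mul, ← map_mul, hcent]
    rcases D.cases (Subgroup.inclusion hVS (f a)) with ⟨i', j', h⟩ | ⟨i', j', h⟩
    · have h1 := congrArg (Subgroup.inclusion hVS) (hfcent bV)
      rw [map_mul, map_mul, h, hbV] at h1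
      have h2 := (D.comm_e_b_iff i' j' c 0).mp h1
      exact ⟨i', by rw [h, h2]⟩
    · exfalso
      have h1 := congrArg (Subgroup.inclusion hVS) (hfcent uV)
      rw [map_mul, map_mul, h, huV] at h1
      have h2 := (D.comm_e_b_iff i (-i) i' j').mp h1.symm
      apply D.h_ne
      rw [← hi]; linear_combination h2
  have hnotU : ¬ (∀ a k l, Subgroup.inclusion hVS a = D.e k l →
      ∃ k' l', Subgroup.inclusion hVS (f a) = D.e k' l') := by
    intro hU
    exact hf1 (aut_trivial D (Subgroup.inclusion hVS) hι f r hr hfr hZ hU)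
  push Not at hnotU
  obtain ⟨a, k₁, l₁, hak, hno⟩ := hnotU
  have hkl : 2 * (k₁ - l₁) = 0 := by
    have := hrange a
    rwa [hak, D.e_mem_Vd] at this
  have hkl' : k₁ - l₁ = D.h := by
    rcases (D.two_mul_eq_zero_iff _).mp hkl with h | h
    · exfalso
      have h1 : k₁ = l₁ := by linear_combination h
      rw [h1] at hak
      obtain ⟨k', hk'⟩ := hZ a l₁ hak
      exact hno k' k' hk'
    · exact h
  obtain ⟨a₁, ha₁⟩ := hmemV (D.e D.h 0) (by rw [D.e_mem_Vd, sub_zero]; exact D.two_h)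
  obtain ⟨c₁, hc₁⟩ := hmemV (D.e l₁ l₁) (by rw [D.e_mem_Vd]; ring)
  have hac : a = c₁ * a₁ := by
    apply hι
    rw [map_mul, hak, hc₁, ha₁, D.e_e, D.e_inj]
    constructor
    · linear_combination hkl'
    · ring
  obtain ⟨k', hk'⟩ := hZ c₁ l₁ hc₁
  have hfa₁ : ∃ i₂ j₂, Subgroup.inclusion hVS (f a₁) = D.b i₂ j₂ := by
    rcases D.cases (Subgroup.inclusion hVS (f a₁)) with ⟨i', j', h⟩ | h
    · exfalso
      apply hno (k' + i') (k' + j')
      rw [hac, map_mul, map_mul, hk', h, D.e_e]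
    · exact h
  obtain ⟨i₂, j₂, h₂⟩ := hfa₁
  have hsq : a₁ * a₁ = 1 := by
    apply hι
    rw [map_mul, ha₁, map_one, D.e_e, D.e_eq_one_iff]
    exact ⟨by linear_combination D.two_h, by ring⟩
  have hsq' : f a₁ * f a₁ = 1 := by rw [← map_mul, hsq, map_one]
  have hij : i₂ + j₂ = 0 := by
    have := congrArg (Subgroup.inclusion hVS) hsq'
    rw [map_mul, h₂, map_one, D.b_b, D.e_eq_one_iff] at this
    exact this.1
  refine ⟨a₁, ?_, i₂, ?_⟩
  · have := congrArg Subtype.val ha₁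
    exact this
  · have := congrArg Subtype.val h₂
    have hj : j₂ = -i₂ := by linear_combination hij
    rw [hj] at this
    exact this

/-- If `|N_G(V) : V C_G(V)| = 6` then the non-central involutions of `U` fuse with the involutions
outside `U`. -/
theorem V_six (Q : Subgroup G) (hQS : Q ≤ S) (eQ : Q ≃* QuaternionGroup 2)
    (h₂ : ((Q ⊔ Zg S) ⊔ Subgroup.centralizer ((Q ⊔ Zg S : Subgroup G) : Set G)).relIndex
      (Subgroup.normalizer ((Q ⊔ Zg S : Subgroup G) : Set G)) = 6) :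
    IsConj ((D.e D.h 0 : ↥(S : Subgroup G)) : G) ((D.z : ↥(S : Subgroup G)) : G) := by
  obtain ⟨i, k, l, hi, hkl, hV⟩ := V_coords S D Q hQS eQ
  have hVS : Q ⊔ Zg S ≤ S := sup_le hQS (Zg_le S)
  obtain ⟨V, hVdef⟩ : ∃ V : Subgroup G, V = Q ⊔ Zg S := ⟨_, rfl⟩
  rw [← hVdef] at h₂ hV hVS
  have hker := Subgroup.normalizerMonoidHom_ker (H := V)
  have h3 : 3 ∣ Nat.card V.normalizerMonoidHom.range := by
    rw [← Subgroup.index_ker, hker]
    have h4 := Subgroup.relIndex_mul_relIndex (Subgroup.centralizer (V : Set G))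
      (V ⊔ Subgroup.centralizer (V : Set G)) (Subgroup.normalizer (V : Set G)) le_sup_right
      (sup_le Subgroup.le_normalizer (Subgroup.centralizer_le_normalizer _))
    rw [h₂] at h4
    show 3 ∣ (Subgroup.centralizer (V : Set G)).relIndex (Subgroup.normalizer (V : Set G))
    rw [← h4]
    exact Dvd.dvd.mul_left (by norm_num) _
  have : Fact (Nat.Prime 3) := ⟨by norm_num⟩
  obtain ⟨f', hf'⟩ := exists_prime_orderOf_dvd_card' (G := V.normalizerMonoidHom.range) 3 h3
  obtain ⟨f, hf⟩ : ∃ f : MulAut V, f = (f' : MulAut V) := ⟨_, rfl⟩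
  have hford : orderOf f = 3 := by rw [hf, Subgroup.orderOf_coe]; exact hf'
  obtain ⟨⟨g, hg⟩, hgf⟩ : ∃ x, V.normalizerMonoidHom x = f := by rw [hf]; exact f'.2
  have hf3 : f ^ 3 = 1 := by rw [← hford]; exact pow_orderOf_eq_one f
  have hf1 : f ≠ 1 := by
    intro h
    rw [h, orderOf_one] at hford
    norm_num at hford
  obtain ⟨a₁, ha₁, i₂, hi₂⟩ := V_aut S D V hVS i (k - l) hi hV f 3 (by decide) hf3 hf1
  have hfcoe : ((f a₁ : V) : G) = g * a₁ * g⁻¹ := by
    rw [← hgf, Subgroup.normalizerMonoidHom_apply_apply_coe]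
  have h5 : IsConj ((D.e D.h 0 : ↥(S : Subgroup G)) : G)
      ((D.b i₂ (-i₂) : ↥(S : Subgroup G)) : G) := by
    rw [← ha₁, ← hi₂, hfcoe]
    exact isConj_of_conj rfl
  exact h5.trans (isConj_coe S (D.isConj_b_z i₂))

end Cfsg.Agent.helper6.WrFus
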