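import Mathlib
import Cfsg.Agent.Lib_helper6_WrAut2
import Cfsg.Agent.Lib_helper6_GoldFus
import Cfsg.Agent.Lib_helper6_WrFus3

set_option autoImplicit false
set_option linter.unusedSectionVars false
set_option linter.unusedVariables false

namespace Cfsg.Agent.helper6.WrFus

open Cfsg Cfsg.Agent.helper6.Wr Cfsg.Agent.helper6.AutIdx Cfsg.Agent.helper6.WrAut
open Cfsg.Agent.helper9 (GoldFam)
open Cfsg.Agent.lead (FrobCond frob_control_fusion)
open Cfsg.Agent.helper6.QDFus (isConj_coe isConj_of_conj orderOf_conj' odd_centralizes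
  odd_centralizes_conj eq_map_conj_of_subgroupOf)
open Cfsg.Agent.helper6.GoldFus

theorem card_classes_eq_three {G : Type*} [Group G] (k : ℕ) (t₀ t₁ t₂ : G) (h₀ : orderOf t₀ = k)
    (h₁ : orderOf t₁ = k) (h₂ : orderOf t₂ = k) (h01 : ¬ IsConj t₀ t₁) (h02 : ¬ IsConj t₀ t₂)
    (h12 : ¬ IsConj t₁ t₂)
    (h : ∀ t, orderOf t = k → IsConj t t₀ ∨ IsConj t t₁ ∨ IsConj t t₂) :
    Nat.card {C : ConjClasses G // ∃ t : G, orderOf t = k ∧ ConjClasses.mk t = C} = 3 := by
  have h0 : Nat.card {C : ConjClasses G // ∃ t : G, orderOf t = k ∧ ConjClasses.mk t = C}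
      = Set.ncard {C : ConjClasses G | ∃ t : G, orderOf t = k ∧ ConjClasses.mk t = C} :=
    Nat.card_coe_set_eq _
  rw [h0, Set.ncard_eq_three]
  refine ⟨ConjClasses.mk t₀, ConjClasses.mk t₁, ConjClasses.mk t₂, ?_, ?_, ?_, ?_⟩
  · rw [Ne, ConjClasses.mk_eq_mk_iff_isConj]; exact h01
  · rw [Ne, ConjClasses.mk_eq_mk_iff_isConj]; exact h02
  · rw [Ne, ConjClasses.mk_eq_mk_iff_isConj]; exact h12
  · ext C
    simp only [Set.mem_ofPred_eq, Set.mem_insert_iff, Set.mem_singleton_iff]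
    constructor
    · rintro ⟨t, ht, rfl⟩
      rcases h t ht with h' | h' | h'
      · left; exact ConjClasses.mk_eq_mk_iff_isConj.mpr h'
      · right; left; exact ConjClasses.mk_eq_mk_iff_isConj.mpr h'
      · right; right; exact ConjClasses.mk_eq_mk_iff_isConj.mpr h'
    · rintro (rfl | rfl | rfl)
      · exact ⟨_, h₀, rfl⟩
      · exact ⟨_, h₁, rfl⟩
      · exact ⟨_, h₂, rfl⟩

variable {G : Type*} [Group G] [Finite G] (S : Sylow 2 G) (D : Data ↥(S : Subgroup G))

include D in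
/-- the local trichotomy for the members of the Goldschmidt family of a wreathed Sylow
2-subgroup. -/
theorem gold_local_cases (H : Subgroup G) (hH : H ∈ GoldFam 2 (S : Subgroup G)) :
    (∀ g ∈ Subgroup.normalizer (H : Set G), Odd (orderOf g) →
      g ∈ Subgroup.centralizer (H : Set G)) ∨
    H.subgroupOf (S : Subgroup G) = D.U ∨
    (∃ c, D.par c = 0 ∧ H.subgroupOf (S : Subgroup G) = D.Vd c) := by
  have : Fact (Nat.Prime 2) := ⟨Nat.prime_two⟩
  have hHS : H ≤ S := hH.1
  by_cases h : ∀ g ∈ Subgroup.normalizer (H : Set G), Odd (orderOf g) →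
      g ∈ Subgroup.centralizer (H : Set G)
  · exact Or.inl h
  · right
    push Not at h
    obtain ⟨g, hg, hodd, hgc⟩ := h
    have hι : Function.Injective (Subgroup.inclusion hHS) := Subgroup.inclusion_injective hHS
    have hfr : (H.normalizerMonoidHom ⟨g, hg⟩) ^ (orderOf g) = 1 := by
      rw [← map_pow]
      have : (⟨g, hg⟩ : Subgroup.normalizer (H : Set G)) ^ orderOf g = 1 := by
        apply Subtype.ext; rw [Subgroup.coe_pow]; exact pow_orderOf_eq_one g
      rw [this, map_one]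
    have hrange : (Subgroup.inclusion hHS).range = H.subgroupOf S := Subgroup.inclusion_range hHS
    have hf1 : H.normalizerMonoidHom ⟨g, hg⟩ ≠ 1 := by
      intro h
      apply hgc
      have hker := Subgroup.normalizerMonoidHom_ker (H := H)
      have h1 : (⟨g, hg⟩ : Subgroup.normalizer (H : Set G)) ∈ H.normalizerMonoidHom.ker := h
      rw [hker, Subgroup.mem_subgroupOf] at h1
      exact h1
    have hcent : ∀ s : ↥(S : Subgroup G),
        (∀ a : H, s * Subgroup.inclusion hHS a = Subgroup.inclusion hHS a * s) →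
        ∃ a : H, Subgroup.inclusion hHS a = s := by
      intro s hs
      have hsH : (s : G) ∈ H := gold_centric S H hH s s.2 (by
        intro d hd
        have := congrArg Subtype.val (hs ⟨d, hd⟩)
        simpa using this)
      exact ⟨⟨s, hsH⟩, Subtype.ext rfl⟩
    rcases centric_cases D (Subgroup.inclusion hHS) hι hcent _ (orderOf g) hodd hfr hf1 with
      h | ⟨c, hc, h⟩
    · left; rw [← hrange]; exact h
    · right; exact ⟨c, hc, by rw [← hrange]; exact h⟩

/-- conjugation by `e m 0` moves `Vd c` to `Vd (c + 2 m)`. -/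
theorem Vd_conj (c m : D.Z) :
    (D.Vd c).map (MulAut.conj (D.e m 0)).toMonoidHom = D.Vd (c + 2 * m) := by
  ext g
  rw [Cfsg.Agent.helper10.mem_map_conj_iff]
  rcases D.cases g with ⟨i, j, rfl⟩ | ⟨i, j, rfl⟩
  · have e1 : (D.e m 0)⁻¹ * D.e i j * D.e m 0 = D.e i j := by
      rw [D.e_inv, D.e_e, D.e_e, D.e_inj]
      constructor <;> ring
    rw [e1, D.e_mem_Vd, D.e_mem_Vd]
  · have e1 : (D.e m 0)⁻¹ * D.b i j * D.e m 0 = D.b (i - m) (j + m) := by
      rw [D.e_inv, D.e_b, D.b_e, D.b_inj]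
      constructor <;> ring
    rw [e1, D.b_mem_Vd, D.b_mem_Vd]
    constructor
    · intro h; linear_combination h
    · intro h; linear_combination h

theorem eq_of_subgroupOf_eq {H U : Subgroup G} (hHS : H ≤ S) (hUS : U ≤ S)
    (h : H.subgroupOf (S : Subgroup G) = U.subgroupOf (S : Subgroup G)) : H = U := by
  rw [Subgroup.subgroupOf_inj, inf_of_le_left hHS, inf_of_le_left hUS] at h
  exact h

theorem two_group_of_le (V : Subgroup G) (hVS : V ≤ S) : ∀ v ∈ V, ∃ j : ℕ, v ^ (2 ^ j) = 1 := by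
  intro v hv
  obtain ⟨j, hj⟩ := S.isPGroup' ⟨v, hVS hv⟩
  refine ⟨j, ?_⟩
  have := congrArg Subtype.val hj
  simpa using this

include D in
theorem Vd_odd (V : Subgroup G) (hVS : V ≤ S) (c₀ : D.Z) (hc₀ : D.par c₀ = 0)
    (hV : V.subgroupOf (S : Subgroup G) = D.Vd c₀)
    (hV' : ∀ g ∈ Subgroup.normalizer (V : Set G), Odd (orderOf g) →
      g ∈ Subgroup.centralizer (V : Set G))
    (H : Subgroup G) (hHS : H ≤ S) (c : D.Z) (hc : D.par c = 0)
    (h : H.subgroupOf (S : Subgroup G) = D.Vd c) :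
    ∀ g ∈ Subgroup.normalizer (H : Set G), Odd (orderOf g) →
      g ∈ Subgroup.centralizer (H : Set G) := by
  intro g hg hodd
  obtain ⟨m, hm⟩ := (D.par_eq_zero_iff (c - c₀)).mp (by rw [map_sub, hc, hc₀, sub_zero])
  have h1 := Vd_conj S D c₀ m
  have hcm : c₀ + 2 * m = c := by linear_combination -hm
  rw [hcm, ← hV, ← h] at h1
  have h2 := eq_map_conj_of_subgroupOf (S : Subgroup G) H V hHS hVS (D.e m 0) h1
  rw [h2] at hg ⊢
  exact odd_centralizes_conj V _ hV' g hg hodd

theorem par_sub_of_add {k l : D.Z} (hkl : k + l = D.h) : D.par (k - l) = 0 := by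
  have e1 : k - l = D.h - 2 * l := by linear_combination hkl
  rw [e1, map_sub, D.par_h, (D.par_eq_zero_iff _).mpr ⟨l, rfl⟩, sub_zero]

/-- under Frobenius' condition, non-conjugacy in `S` persists in `G`. -/
theorem not_isConj_of_frob (hF : FrobCond 2 G) (a b : ↥(S : Subgroup G)) (hab : ¬ IsConj a b) :
    ¬ IsConj (a : G) (b : G) := by
  have : Fact (Nat.Prime 2) := ⟨Nat.prime_two⟩
  intro h
  obtain ⟨g, hg⟩ := isConj_iff.mp h
  obtain ⟨u, hu, hub⟩ := frob_control_fusion hF S (a : G) a.2 g (by rw [hg]; exact b.2)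
  apply hab
  rw [isConj_iff]
  refine ⟨⟨u, hu⟩, Subtype.ext ?_⟩
  simp only [Subgroup.coe_mul, Subgroup.coe_inv]
  rw [hub, hg]

theorem not_isConj_zc_a : ¬ IsConj (D.e D.h D.h) (D.e D.h 0) := by
  rw [D.isConj_e_iff]
  rintro (h | h)
  · exact D.h_ne (D.e_inj.mp h).2.symm
  · exact D.h_ne (D.e_inj.mp h).2.symm

theorem not_isConj_zc_z : ¬ IsConj (D.e D.h D.h) D.z := by
  rw [D.isConj_e_iff, ← D.b_zero]
  rintro (h | h) <;> exact D.b_ne_e _ _ _ _ h

theorem not_isConj_a_z : ¬ IsConj (D.e D.h 0) D.z := by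
  rw [D.isConj_e_iff, ← D.b_zero]
  rintro (h | h) <;> exact D.b_ne_e _ _ _ _ h

end Cfsg.Agent.helper6.WrFus
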