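import Mathlib
import Cfsg.Agent.Lib_helper6_WrGold
import Cfsg.Agent.Lib_helper6_FusInv3

set_option autoImplicit false
set_option linter.unusedSectionVars false
set_option linter.unusedVariables false

namespace Cfsg.Agent.helper6.WrFus

open Cfsg Cfsg.Agent.helper6.Wr Cfsg.Agent.helper6.AutIdx Cfsg.Agent.helper6.WrAut
open Cfsg.Agent.helper9 (GoldFam)
open Cfsg.Agent.helper6.QDFus (isConj_coe isConj_of_conj orderOf_conj' odd_centralizes
  odd_centralizes_conj eq_map_conj_of_subgroupOf)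
open Cfsg.Agent.helper6.GoldFus Cfsg.Agent.helper6.FusInv

variable {G : Type*} [Group G] [Finite G] (S : Sylow 2 G) (D : Data ↥(S : Subgroup G))

theorem U_conj_mem_iff (U : Subgroup G) (hUS : U ≤ S)
    (hU : U.subgroupOf (S : Subgroup G) = D.U) :
    ∀ s ∈ (S : Subgroup G), ∀ m ∈ (S : Subgroup G), (s * m * s⁻¹ ∈ U ↔ m ∈ U) := by
  intro s hs m hm
  have hn : D.U.Normal := D.U_normal
  have h1 : m ∈ U ↔ (⟨m, hm⟩ : ↥(S : Subgroup G)) ∈ D.U := by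
    rw [← hU, Subgroup.mem_subgroupOf]
  have h2 : s * m * s⁻¹ ∈ U ↔
      (⟨s, hs⟩ * ⟨m, hm⟩ * (⟨s, hs⟩ : ↥(S : Subgroup G))⁻¹) ∈ D.U := by
    rw [← hU, Subgroup.mem_subgroupOf]
    simp
  rw [h1, h2]
  exact (hn.mem_comm_iff.trans (by rw [inv_mul_cancel_left]))

theorem relIndex_U (U : Subgroup G) (hU : U.subgroupOf (S : Subgroup G) = D.U) :
    U.relIndex (S : Subgroup G) = 2 := by
  unfold Subgroup.relIndex
  rw [hU, D.index_U]

theorem mem_U_iff_coe (U : Subgroup G) (hU : U.subgroupOf (S : Subgroup G) = D.U)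
    (a : ↥(S : Subgroup G)) : (a : G) ∈ U ↔ a ∈ D.U := by
  rw [← hU, Subgroup.mem_subgroupOf]

/-- `K` of index 2 with Sylow 2-subgroup `U` has no subgroup of index 2 when some element of
`N_G(U)` acts on `U` with `c · c^g · c^{g²} = 1`. -/
theorem no_index_two_of_triple (K : Subgroup G) (hK2 : K.index = 2)
    (U : Subgroup G) (hUK : U ≤ K) (hidx : U.relIndex (S : Subgroup G) = 2) (hUS : U ≤ S)
    (g : G) (hg : g ∈ Subgroup.normalizer (U : Set G))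
    (hrel : ∀ c ∈ U, c * (g * c * g⁻¹) * (g * (g * c * g⁻¹) * g⁻¹) = 1) :
    ∀ L : Subgroup ↥K, L.index ≠ 2 := by
  intro L hL
  have hφU : ∀ c ∈ U, g * c * g⁻¹ ∈ U := fun c hc => (Subgroup.mem_normalizer_iff.mp hg c).mp hc
  have hφ3 : ∀ c ∈ U, g * (g * (g * c * g⁻¹) * g⁻¹) * g⁻¹ = c := by
    intro c hc
    have h1 : c * ((g * c * g⁻¹) * (g * (g * c * g⁻¹) * g⁻¹)) = 1 := by
      rw [← mul_assoc]; exact hrel c hc
    have h2 := hrel (g * c * g⁻¹) (hφU c hc)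
    exact (eq_inv_of_mul_eq_one_right h2).trans (eq_inv_of_mul_eq_one_left h1).symm
  have hg4 : ∀ c ∈ U, g ^ 4 * c * (g ^ 4)⁻¹ = g * c * g⁻¹ := by
    intro c hc
    have h1 := hφ3 (g * c * g⁻¹) (hφU c hc)
    have e4 : g ^ 4 = g * g * g * g := by simp [pow_succ]
    calc g ^ 4 * c * (g ^ 4)⁻¹ = g * (g * (g * (g * c * g⁻¹) * g⁻¹) * g⁻¹) * g⁻¹ := by
          rw [e4]; group
      _ = g * c * g⁻¹ := h1
  have hγK : g ^ 4 ∈ K := by
    have h1 : g ^ 2 ∈ K := Subgroup.sq_mem_of_index_two hK2 g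
    have h2 : g ^ 4 = (g ^ 2) ^ 2 := by rw [← pow_mul]
    rw [h2]
    exact K.pow_mem h1 2
  have hrel' : ∀ c ∈ U, c * (g ^ 4 * c * (g ^ 4)⁻¹) *
      (g ^ 4 * (g ^ 4 * c * (g ^ 4)⁻¹) * (g ^ 4)⁻¹) = 1 := by
    intro c hc
    rw [hg4 c hc, hg4 _ (hφU c hc)]
    exact hrel c hc
  have hLn : L.Normal := Subgroup.normal_of_index_eq_two hL
  apply not_le_of_index_two S K hK2 U hUK hidx hUS L hL
  rintro ⟨c, hcK⟩ hc
  rw [Subgroup.mem_subgroupOf] at hc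
  by_contra hcL
  obtain ⟨γK, hγ⟩ : ∃ γK : ↥K, (γK : G) = g ^ 4 := ⟨⟨g ^ 4, hγK⟩, rfl⟩
  obtain ⟨cK, hcK'⟩ : ∃ cK : ↥K, cK = (⟨c, hcK⟩ : ↥K) := ⟨_, rfl⟩
  rw [← hcK'] at hcL
  have hcoe : (cK : G) = c := by rw [hcK']
  have hprod : cK * (γK * cK * γK⁻¹) * (γK * (γK * cK * γK⁻¹) * γK⁻¹) = 1 := by
    apply Subtype.ext
    simp only [Subgroup.coe_mul, Subgroup.coe_inv, Subgroup.coe_one, hγ, hcoe]
    exact hrel' c hc
  have hconj : ∀ a : ↥K, γK * a * γK⁻¹ ∈ L → a ∈ L := by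
    intro a ha
    have h1 := hLn.conj_mem _ ha γK⁻¹
    have h2 : γK⁻¹ * (γK * a * γK⁻¹) * γK⁻¹⁻¹ = a := by group
    rwa [h2] at h1
  have hc'L : γK * cK * γK⁻¹ ∉ L := fun h => hcL (hconj _ h)
  have hc''L : γK * (γK * cK * γK⁻¹) * γK⁻¹ ∉ L := fun h => hc'L (hconj _ h)
  have h1 : cK * (γK * cK * γK⁻¹) ∈ L :=
    (Subgroup.mul_mem_iff_of_index_two hL).mpr (iff_of_false hcL hc'L)
  have h2 : cK * (γK * cK * γK⁻¹) * (γK * (γK * cK * γK⁻¹) * γK⁻¹) ∈ L := by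
    rw [hprod]; exact L.one_mem
  exact hc''L (((Subgroup.mul_mem_iff_of_index_two hL).mp h2).mp h1)

include D in
/-- when `V` is tame, the subgroup `U` is invariant under `G`-fusion in `S`. -/
theorem fusion_U (U : Subgroup G) (hUS : U ≤ S) (hU : U.subgroupOf (S : Subgroup G) = D.U)
    (V : Subgroup G) (hVS : V ≤ S) (c₀ : D.Z) (hc₀ : D.par c₀ = 0)
    (hV : V.subgroupOf (S : Subgroup G) = D.Vd c₀)
    (hV' : ∀ g ∈ Subgroup.normalizer (V : Set G), Odd (orderOf g) →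
      g ∈ Subgroup.centralizer (V : Set G)) :
    ∀ a ∈ (S : Subgroup G), ∀ g : G, g⁻¹ * a * g ∈ (S : Subgroup G) →
      (g⁻¹ * a * g ∈ U ↔ a ∈ U) := by
  intro a ha g hg
  apply gold_fusion_invariant S U (U_conj_mem_iff S D U hUS hU) ?_ a ha g hg
  intro H hH
  rcases gold_local_cases S D H hH with h | h | ⟨c, hc, h⟩
  · exact Or.inl h
  · right
    have hHU : H = U := eq_of_subgroupOf_eq S hH.1 hUS (by rw [h, hU])
    rw [hHU]
  · exact Or.inl (Vd_odd S D V hVS c₀ hc₀ hV hV' H hH.1 c hc h)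

end Cfsg.Agent.helper6.WrFus
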