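import Mathlib
import Cfsg.Agent.Lib_helper6_WrVd
import Cfsg.Agent.Lib_helper6_WrFus4
import Cfsg.Agent.Lib_helper6_FusInv4

set_option autoImplicit false
set_option linter.unusedSectionVars false
set_option linter.unusedVariables false

namespace Cfsg.Agent.helper6.WrFus

open Cfsg Cfsg.Agent.helper6.Wr Cfsg.Agent.helper6.AutIdx Cfsg.Agent.helper6.WrAut
open Cfsg.Agent.helper9 (GoldFam)
open Cfsg.Agent.lead (exists_pow_coprime_order)
open Cfsg.Agent.helper6.QDFus (isConj_coe isConj_of_conj orderOf_conj' odd_centralizes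
  odd_centralizes_conj eq_map_conj_of_subgroupOf mem_of_coprime_index)
open Cfsg.Agent.helper6.GoldFus Cfsg.Agent.helper6.FusInv
open scoped commutatorElement

variable {G : Type*} [Group G] [Finite G] (S : Sylow 2 G) (D : Data ↥(S : Subgroup G))

/-- the generalized quaternion maximal subgroup `Y` of `S`, as a subgroup of `G`. -/
def Yg : Subgroup G := D.Y.map (S : Subgroup G).subtype

theorem Yg_le : Yg S D ≤ S := Subgroup.map_subtype_le _

theorem coe_mem_Yg (a : ↥(S : Subgroup G)) : (a : G) ∈ Yg S D ↔ a ∈ D.Y := by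
  unfold Yg
  exact Subgroup.mem_map_iff_mem (S : Subgroup G).subtype_injective

theorem mem_Yg_iff (a : G) (ha : a ∈ (S : Subgroup G)) :
    a ∈ Yg S D ↔ (⟨a, ha⟩ : ↥(S : Subgroup G)) ∈ D.Y :=
  coe_mem_Yg S D ⟨a, ha⟩

theorem subgroupOf_Yg : (Yg S D).subgroupOf (S : Subgroup G) = D.Y := by
  ext a
  rw [Subgroup.mem_subgroupOf, coe_mem_Yg]

theorem Yg_equiv : Nonempty (Yg S D ≃* D.Y) :=
  ⟨(D.Y.equivMapOfInjective _ (S : Subgroup G).subtype_injective).symm⟩

theorem Yg_conj_mem (s : G) (hs : s ∈ (S : Subgroup G)) (y : G) (hy : y ∈ Yg S D) :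
    s * y * s⁻¹ ∈ Yg S D := by
  have hn : D.Y.Normal := D.Y_normal
  have hyS : y ∈ (S : Subgroup G) := Yg_le S D hy
  have h1 := hn.conj_mem _ ((mem_Yg_iff S D y hyS).mp hy) ⟨s, hs⟩
  exact (coe_mem_Yg S D _).mpr h1

theorem index_Y : D.Y.index = 2 ^ D.n := by
  have h1 := Subgroup.card_mul_index D.Y
  rw [D.card_Y, D.card] at h1
  have h2 : 2 ^ (2 * D.n + 1) = 2 ^ (D.n + 1) * 2 ^ D.n := by rw [← pow_add]; congr 1; ring
  rw [h2] at h1
  exact Nat.eq_of_mul_eq_mul_left (by positivity) h1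

theorem relIndex_Yg : (Yg S D).relIndex (S : Subgroup G) = 2 ^ D.n := by
  unfold Subgroup.relIndex
  rw [subgroupOf_Yg, index_Y]

theorem coe_mem_Zg (a : ↥(S : Subgroup G)) : (a : G) ∈ Zg S ↔ ∃ k, a = D.e k k :=
  (Subgroup.mem_map_iff_mem (S : Subgroup G).subtype_injective).trans (D.mem_center_iff' a)

include D in
/-- odd-order elements of `N_G(S)` centralize `S`. -/
theorem S_odd : ∀ g ∈ Subgroup.normalizer ((S : Subgroup G) : Set G), Odd (orderOf g) →
    g ∈ Subgroup.centralizer ((S : Subgroup G) : Set G) := by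
  have : Fact (Nat.Prime 2) := ⟨Nat.prime_two⟩
  rcases gold_local_cases S D (S : Subgroup G) (Cfsg.Agent.helper9.sylow_mem_goldFam S) with
    h | h | ⟨c, hc, h⟩
  · exact h
  · exfalso
    have h1 : D.z ∈ (S : Subgroup G).subgroupOf (S : Subgroup G) := by
      rw [Subgroup.mem_subgroupOf]; exact D.z.2
    rw [h] at h1
    exact D.z_not_mem_U h1
  · exfalso
    have h1 : D.e 1 0 ∈ (S : Subgroup G).subgroupOf (S : Subgroup G) := by
      rw [Subgroup.mem_subgroupOf]; exact (D.e 1 0).2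
    rw [h, D.e_mem_Vd, sub_zero, mul_one] at h1
    exact D.two_ne_zero' h1

include D in
/-- Burnside: elements of `Z(S)` are not fused to other elements of `Z(S)`. -/
theorem Zg_fixed (ζ : G) (hζ : ζ ∈ Zg S) (g : G) (hg : g⁻¹ * ζ * g ∈ Zg S) :
    g⁻¹ * ζ * g = ζ := by
  have : Fact (Nat.Prime 2) := ⟨Nat.prime_two⟩
  have hcen : ∀ ζ ∈ Zg S, ζ ∈ Subgroup.centralizer ((S : Subgroup G) : Set G) := by
    rintro ζ ⟨ζ', hζ', rfl⟩
    rw [Subgroup.mem_centralizer_iff]
    intro s hs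
    have h1 := Subgroup.mem_center_iff.mp hζ' ⟨s, hs⟩
    exact congrArg Subtype.val h1
  obtain ⟨n, hn, hgn⟩ := S.conj_eq_normalizer_conj_of_mem_centralizer ζ g (hcen ζ hζ) (hcen _ hg)
  obtain ⟨y, hy, hyS⟩ := local_control S (S : Subgroup G) le_rfl
    (Cfsg.Agent.helper9.sylow_mem_goldFam S).2.2.2
    (fun g hg hcop => S_odd S D g hg (Nat.coprime_two_right.mp hcop)) n⁻¹ (inv_mem hn)
  have hζS : ζ ∈ (S : Subgroup G) := Zg_le S hζ
  have h1 := hyS ζ hζS
  rw [inv_inv] at h1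
  rw [hgn, ← h1]
  have h2 := hcen ζ hζ
  rw [Subgroup.mem_centralizer_iff] at h2
  have h3 := h2 y hy
  rw [h3, mul_inv_cancel_right]

include D in
/-- elements of `N_G(Vd c)` centralize `Z(S)`. -/
theorem T_fix (T : Subgroup G) (hTS : T ≤ S) (c : D.Z)
    (hT : T.subgroupOf (S : Subgroup G) = D.Vd c)
    (x : G) (hx : x ∈ Subgroup.normalizer (T : Set G)) (a : T) (k : D.Z)
    (hak : Subgroup.inclusion hTS a = D.e k k) :
    T.normalizerMonoidHom ⟨x, hx⟩ a = a := by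
  have hι : Function.Injective (Subgroup.inclusion hTS) := Subgroup.inclusion_injective hTS
  obtain ⟨q₀, hq₀⟩ := D.exists_q
  have hmemT : ∀ s : ↥(S : Subgroup G), s ∈ D.Vd c → ∃ a : T, Subgroup.inclusion hTS a = s := by
    intro s hs
    rw [← hT, Subgroup.mem_subgroupOf] at hs
    exact ⟨⟨(s : G), hs⟩, Subtype.ext rfl⟩
  obtain ⟨a₀, ha₀⟩ := hmemT (D.b c 0) (by rw [D.b_mem_Vd]; ring)
  obtain ⟨a₁, ha₁⟩ := hmemT (D.e q₀ (-q₀)) (by
    rw [D.e_mem_Vd]; linear_combination 2 * hq₀ + D.two_h)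
  have hne : q₀ ≠ -q₀ := by
    intro h
    apply D.h_ne
    rw [← hq₀]
    linear_combination h
  obtain ⟨k', hk'⟩ := hZ_of_noncentral D (Subgroup.inclusion hTS) hι
    (T.normalizerMonoidHom ⟨x, hx⟩) a₀ a₁ c 0 q₀ (-q₀) ha₀ ha₁ hne a k hak
  apply Subtype.ext
  rw [Subgroup.normalizerMonoidHom_apply_apply_coe]
  have h1 : (a : G) ∈ Zg S := by
    have h := (coe_mem_Zg S D (Subgroup.inclusion hTS a)).mpr ⟨k, hak⟩
    rwa [Subgroup.coe_inclusion] at h
  have h2 : x * (a : G) * x⁻¹ ∈ Zg S := by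
    have h := (coe_mem_Zg S D (Subgroup.inclusion hTS (T.normalizerMonoidHom ⟨x, hx⟩ a))).mpr
      ⟨k', hk'⟩
    rwa [Subgroup.coe_inclusion, Subgroup.normalizerMonoidHom_apply_apply_coe] at h
  have h3 := Zg_fixed S D (a : G) h1 x⁻¹ (by rw [inv_inv]; exact h2)
  rw [inv_inv] at h3
  exact h3

/-- the dichotomy for the Goldschmidt family used when `U` is tame. -/
def Dich : Prop := ∀ T ∈ GoldFam 2 (S : Subgroup G),
  (∀ g ∈ Subgroup.normalizer (T : Set G), Odd (orderOf g) →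
    g ∈ Subgroup.centralizer (T : Set G)) ∨
  ∃ c, D.par c = 0 ∧ T.subgroupOf (S : Subgroup G) = D.Vd c

theorem focal_step (hdich : Dich S D) (T : Subgroup G) (hT : T ∈ GoldFam 2 (S : Subgroup G))
    (x : G) (hx : x ∈ Subgroup.normalizer (T : Set G)) (t : G) (ht : t ∈ T) :
    t⁻¹ * (x⁻¹ * t * x) ∈ Yg S D := by
  have : Fact (Nat.Prime 2) := ⟨Nat.prime_two⟩
  have hTS : T ≤ S := hT.1
  have htS : t ∈ (S : Subgroup G) := hTS ht
  rcases hdich T hT with h | ⟨c, hc, h⟩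
  · obtain ⟨y, hy, hyT⟩ := local_control S T hTS hT.2.2.2
      (fun g hg hcop => h g hg (Nat.coprime_two_right.mp hcop)) x⁻¹ (Subgroup.inv_mem _ hx)
    have h3 := hyT t ht
    rw [inv_inv] at h3
    rw [← h3]
    have h4 : ⁅(⟨t, htS⟩ : ↥(S : Subgroup G))⁻¹, (⟨y, hy⟩ : ↥(S : Subgroup G))⁆ ∈ commutator ↥(S : Subgroup G) :=
      Subgroup.commutator_mem_commutator (Subgroup.mem_top _) (Subgroup.mem_top _)
    rw [D.commutator_eq, D.mem_K_iff] at h4
    obtain ⟨k, hk⟩ := h4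
    have h5 : (D.e k (-k) : ↥(S : Subgroup G)) ∈ D.Y := by rw [D.e_mem_Y]; ring
    have h6 := (coe_mem_Yg S D _).mpr h5
    rw [← hk] at h6
    have e : ((⁅(⟨t, htS⟩ : ↥(S : Subgroup G))⁻¹, (⟨y, hy⟩ : ↥(S : Subgroup G))⁆ : ↥(S : Subgroup G)) : G)
        = t⁻¹ * (y * t * y⁻¹) := by
      rw [commutatorElement_def]
      simp only [Subgroup.coe_mul, Subgroup.coe_inv, inv_inv]
      group
    rw [← e]
    exact h6
  · have hι : Function.Injective (Subgroup.inclusion hTS) := Subgroup.inclusion_injective hTS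
    have hrange : (Subgroup.inclusion hTS).range = D.Vd c := by
      rw [Subgroup.inclusion_range]; exact h
    have h5 := Vd_comm_mem_Y D (Subgroup.inclusion hTS) hι
      (T.normalizerMonoidHom ⟨x⁻¹, Subgroup.inv_mem _ hx⟩)
      (fun a k hak => T_fix S D T hTS c h x⁻¹ (Subgroup.inv_mem _ hx) a k hak) c hc hrange ⟨t, ht⟩
    have h6 := (coe_mem_Yg S D _).mpr h5
    have h7 : ((Subgroup.inclusion hTS ((⟨t, ht⟩ : T)⁻¹ *
        T.normalizerMonoidHom ⟨x⁻¹, Subgroup.inv_mem _ hx⟩ ⟨t, ht⟩) : ↥(S : Subgroup G)) : G)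
        = t⁻¹ * (x⁻¹ * t * x) := by
      rw [Subgroup.coe_inclusion, Subgroup.coe_mul, Subgroup.coe_inv,
        Subgroup.normalizerMonoidHom_apply_apply_coe, inv_inv]
    rw [← h7]
    exact h6

/-- the focal subgroup of `S` lies in `Y`. -/
theorem focal_le (hdich : Dich S D) : ∀ a ∈ (S : Subgroup G), ∀ g : G,
    g⁻¹ * a * g ∈ (S : Subgroup G) → a⁻¹ * (g⁻¹ * a * g) ∈ Yg S D := by
  have : Fact (Nat.Prime 2) := ⟨Nat.prime_two⟩
  intro a ha g hg
  have key := gold_chain_invariant S (fun b => a⁻¹ * b ∈ Yg S D) ?_ a ha g hg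
  · exact key.mpr (by simp)
  · intro T hT x hx t ht
    have h1 := focal_step S D hdich T hT x hx t ht
    show a⁻¹ * (x⁻¹ * t * x) ∈ Yg S D ↔ a⁻¹ * t ∈ Yg S D
    have e : a⁻¹ * (x⁻¹ * t * x) = (a⁻¹ * t) * (t⁻¹ * (x⁻¹ * t * x)) := by group
    rw [e]
    exact Subgroup.mul_mem_cancel_right _ h1

/-- elements of `Z(S)` are not fused to any other element of `S`. -/
theorem center_fixed (hdich : Dich S D) (ζ : G) (hζ : ζ ∈ Zg S) (g : G)
    (hg : g⁻¹ * ζ * g ∈ (S : Subgroup G)) : g⁻¹ * ζ * g = ζ := by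
  have : Fact (Nat.Prime 2) := ⟨Nat.prime_two⟩
  have hζS : ζ ∈ (S : Subgroup G) := Zg_le S hζ
  obtain ⟨k, hk⟩ := (coe_mem_Zg S D ⟨ζ, hζS⟩).mp hζ
  have hζc : ∀ y ∈ (S : Subgroup G), y * ζ * y⁻¹ = ζ := by
    intro y hy
    have h1 := D.e_diag_central k ⟨y, hy⟩
    rw [← hk] at h1
    have h2 := congrArg Subtype.val h1
    simp only [Subgroup.coe_mul] at h2
    rw [← h2, mul_inv_cancel_right]
  have key := gold_chain_invariant S (fun b => b = ζ) ?_ ζ hζS g hg
  · exact key.mpr rfl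
  · intro T hT x hx t ht
    show x⁻¹ * t * x = ζ ↔ t = ζ
    rcases hdich T hT with h | ⟨c, hc, h⟩
    · obtain ⟨y, hy, hyT⟩ := local_control S T hT.1 hT.2.2.2
        (fun g hg hcop => h g hg (Nat.coprime_two_right.mp hcop)) x⁻¹ (Subgroup.inv_mem _ hx)
      have h3 := hyT t ht
      rw [inv_inv] at h3
      rw [← h3]
      constructor
      · intro h4
        have e : t = y⁻¹ * (y * t * y⁻¹) * y⁻¹⁻¹ := by group
        rw [e, h4]
        exact hζc y⁻¹ (inv_mem hy)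
      · intro h4
        rw [h4]
        exact hζc y hy
    · have hζT : ζ ∈ T := by
        have h1 : (⟨ζ, hζS⟩ : ↥(S : Subgroup G)) ∈ T.subgroupOf (S : Subgroup G) := by
          rw [h, hk, D.e_mem_Vd]; ring
        exact Subgroup.mem_subgroupOf.mp h1
      have hfixζ : x⁻¹ * ζ * x = ζ := by
        have h5 := T_fix S D T hT.1 c h x⁻¹ (Subgroup.inv_mem _ hx) ⟨ζ, hζT⟩ k
          (by rw [← hk]; exact Subtype.ext rfl)
        have h6 := congrArg Subtype.val h5
        rwa [Subgroup.normalizerMonoidHom_apply_apply_coe, inv_inv] at h6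
      have hfixζ' : x * ζ * x⁻¹ = ζ := by
        calc x * ζ * x⁻¹ = x * (x⁻¹ * ζ * x) * x⁻¹ := by rw [hfixζ]
          _ = ζ := by group
      constructor
      · intro h4
        have e : t = x * (x⁻¹ * t * x) * x⁻¹ := by group
        rw [e, h4]
        exact hfixζ'
      · intro h4
        rw [h4]
        exact hfixζ

/-- if 3 divides `|N_G(H) : C_G(H)|`, some element of odd order of `N_G(H)` does not centralize
`H`. -/
theorem exists_odd_not_centralizing (H : Subgroup G)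
    (h3 : 3 ∣ (Subgroup.centralizer (H : Set G)).relIndex (Subgroup.normalizer (H : Set G))) :
    ∃ g ∈ Subgroup.normalizer (H : Set G), Odd (orderOf g) ∧
      g ∉ Subgroup.centralizer (H : Set G) := by
  by_contra hno
  push Not at hno
  have : Fact (Nat.Prime 2) := ⟨Nat.prime_two⟩
  have hrange : IsPGroup 2 H.normalizerMonoidHom.range := by
    rintro ⟨φ, n, rfl⟩
    obtain ⟨k, hk⟩ := exists_pow_coprime_order (p := 2) (n : G)
    refine ⟨k, ?_⟩
    apply Subtype.ext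
    simp only [Subgroup.coe_pow, Subgroup.coe_one]
    rw [← map_pow]
    have hmem : (n ^ 2 ^ k : Subgroup.normalizer (H : Set G)) ∈ H.normalizerMonoidHom.ker := by
      rw [Subgroup.normalizerMonoidHom_ker, Subgroup.mem_subgroupOf]
      simp only [Subgroup.coe_pow]
      exact hno _ (Subgroup.pow_mem _ n.2 _) (Nat.coprime_two_right.mp hk)
    exact hmem
  obtain ⟨j, hj⟩ := IsPGroup.iff_card.mp hrange
  have h4 : (Subgroup.centralizer (H : Set G)).relIndex (Subgroup.normalizer (H : Set G))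
      = Nat.card H.normalizerMonoidHom.range := by
    rw [← Subgroup.index_ker, Subgroup.normalizerMonoidHom_ker]
    rfl
  rw [h4, hj] at h3
  have h5 := Nat.Prime.dvd_of_dvd_pow Nat.prime_three h3
  omega

/-- from `|N_G(V) : V C_G(V)| = 6`: an odd-order element of `N_G(V)` not centralizing `V`. -/
theorem exists_odd_of_six (V : Subgroup G)
    (h₂ : (V ⊔ Subgroup.centralizer (V : Set G)).relIndex (Subgroup.normalizer (V : Set G)) = 6) :
    ∃ g ∈ Subgroup.normalizer (V : Set G), Odd (orderOf g) ∧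
      g ∉ Subgroup.centralizer (V : Set G) := by
  apply exists_odd_not_centralizing
  have h4 := Subgroup.relIndex_mul_relIndex (Subgroup.centralizer (V : Set G))
    (V ⊔ Subgroup.centralizer (V : Set G)) (Subgroup.normalizer (V : Set G)) le_sup_right
    (sup_le Subgroup.le_normalizer (Subgroup.centralizer_le_normalizer _))
  rw [h₂] at h4
  rw [← h4]
  exact Dvd.dvd.mul_left (by norm_num) _

include D in
theorem exists_odd_Vd (V : Subgroup G) (hVS : V ≤ S) (c₀ : D.Z) (hc₀ : D.par c₀ = 0)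
    (hV : V.subgroupOf (S : Subgroup G) = D.Vd c₀)
    (hV3 : ∃ g ∈ Subgroup.normalizer (V : Set G), Odd (orderOf g) ∧
      g ∉ Subgroup.centralizer (V : Set G))
    (T : Subgroup G) (hTS : T ≤ S) (c : D.Z) (hc : D.par c = 0)
    (hT : T.subgroupOf (S : Subgroup G) = D.Vd c) :
    ∃ g ∈ Subgroup.normalizer (T : Set G), Odd (orderOf g) ∧
      g ∉ Subgroup.centralizer (T : Set G) := by
  by_contra hno
  push Not at hno
  obtain ⟨g, hg, hodd, hgc⟩ := hV3
  exact hgc (Vd_odd S D T hTS c hc hT hno V hVS c₀ hc₀ hV g hg hodd)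

/-- the 3-cycle on `u = e q (-q)` produced by an odd-order element of `N_G(Vd c)`. -/
theorem Vd_triple (T : Subgroup G) (hTS : T ≤ S) (c : D.Z) (hc : D.par c = 0)
    (hT : T.subgroupOf (S : Subgroup G) = D.Vd c) (x : G)
    (hx : x ∈ Subgroup.normalizer (T : Set G)) (hodd : Odd (orderOf x))
    (hxc : x ∉ Subgroup.centralizer (T : Set G)) (q₀ : D.Z) (hq₀ : 2 * q₀ = D.h) :
    ∃ i₂ j₂ : D.Z, i₂ + j₂ = D.h ∧ 2 * (i₂ - j₂ - c) = 0 ∧
      x * ((D.e q₀ (-q₀) : ↥(S : Subgroup G)) : G) * x⁻¹ = ((D.b i₂ j₂ : ↥(S : Subgroup G)) : G) ∧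
      ∃ ζ : ↥(S : Subgroup G), (ζ = 1 ∨ ζ = D.e D.h D.h) ∧
        x * ((D.b i₂ j₂ : ↥(S : Subgroup G)) : G) * x⁻¹ =
          ((D.e q₀ (-q₀) : ↥(S : Subgroup G)) : G) * ((D.b i₂ j₂ : ↥(S : Subgroup G)) : G) *
            (ζ : G) := by
  have hι : Function.Injective (Subgroup.inclusion hTS) := Subgroup.inclusion_injective hTS
  have hrange : (Subgroup.inclusion hTS).range = D.Vd c := by
    rw [Subgroup.inclusion_range]; exact hT
  have hfr : (T.normalizerMonoidHom ⟨x, hx⟩) ^ (orderOf x) = 1 := by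
    rw [← map_pow]
    have : (⟨x, hx⟩ : Subgroup.normalizer (T : Set G)) ^ orderOf x = 1 := by
      apply Subtype.ext; rw [Subgroup.coe_pow]; exact pow_orderOf_eq_one x
    rw [this, map_one]
  have hf1 : T.normalizerMonoidHom ⟨x, hx⟩ ≠ 1 := by
    intro h
    apply hxc
    have hker := Subgroup.normalizerMonoidHom_ker (H := T)
    have h1 : (⟨x, hx⟩ : Subgroup.normalizer (T : Set G)) ∈ T.normalizerMonoidHom.ker := h
    rw [hker, Subgroup.mem_subgroupOf] at h1
    exact h1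
  have huT : ((D.e q₀ (-q₀) : ↥(S : Subgroup G)) : G) ∈ T := by
    have h1 : (D.e q₀ (-q₀) : ↥(S : Subgroup G)) ∈ T.subgroupOf (S : Subgroup G) := by
      rw [hT, D.e_mem_Vd]; linear_combination 2 * hq₀ + D.two_h
    exact Subgroup.mem_subgroupOf.mp h1
  obtain ⟨⟨i₂, j₂, hw, hij₂⟩, ζH, hζH, hff⟩ := Vd_special D (Subgroup.inclusion hTS) hι
    (T.normalizerMonoidHom ⟨x, hx⟩) (orderOf x) hodd hfr hf1
    (fun a k hak => T_fix S D T hTS c hT x hx a k hak) c hc hrange q₀ hq₀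
    ⟨_, huT⟩ (Subtype.ext rfl)
  have hwV : 2 * (i₂ - j₂ - c) = 0 := by
    have h1 : Subgroup.inclusion hTS (T.normalizerMonoidHom ⟨x, hx⟩ ⟨_, huT⟩) ∈ D.Vd c := by
      rw [← hrange]; exact ⟨_, rfl⟩
    rwa [hw, D.b_mem_Vd] at h1
  have hw' : x * ((D.e q₀ (-q₀) : ↥(S : Subgroup G)) : G) * x⁻¹ =
      ((D.b i₂ j₂ : ↥(S : Subgroup G)) : G) := by
    have h1 := congrArg Subtype.val hw
    rwa [Subgroup.coe_inclusion, Subgroup.normalizerMonoidHom_apply_apply_coe] at h1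
  refine ⟨i₂, j₂, hij₂, hwV, hw', Subgroup.inclusion hTS ζH, hζH, ?_⟩
  have h1 := congrArg Subtype.val hff
  rw [Subgroup.normalizerMonoidHom_apply_apply_coe, Subgroup.coe_mul, Subgroup.coe_mul,
    Subgroup.normalizerMonoidHom_apply_apply_coe] at h1
  rw [Subgroup.coe_inclusion, ← hw']
  exact h1

end Cfsg.Agent.helper6.WrFus
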