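import Mathlib
import Cfsg.Agent.Lib_helper6_WrVd

set_option autoImplicit false
set_option linter.unusedSectionVars false
set_option linter.unusedVariables false

namespace Cfsg.Agent.helper6.Wr

open Cfsg.Agent.helper6.ZExp Cfsg.Agent.helper6.TwoPow

variable {S : Type*} [Group S]

namespace Data

variable (D : Data S) [Finite S]

theorem mem_normalizer_Vd (c : D.Z) (g : S) :
    g ∈ Subgroup.normalizer ((D.Vd c : Subgroup S) : Set S) ↔
      (∃ i j, 4 * (i - j) = 0 ∧ g = D.e i j) ∨ (∃ i j, 4 * (i - j - c) = 0 ∧ g = D.b i j) := by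
  rw [Subgroup.mem_normalizer_iff]
  constructor
  · intro h
    have h0 : D.b c 0 ∈ D.Vd c := by rw [D.b_mem_Vd]; ring
    rcases D.cases g with ⟨k, l, rfl⟩ | ⟨k, l, rfl⟩
    · left
      have h1 := (h _).mp h0
      rw [D.conj_e_b, D.b_mem_Vd] at h1
      exact ⟨k, l, by linear_combination h1, rfl⟩
    · right
      have h1 := (h _).mp h0
      rw [D.conj_b_b, D.b_mem_Vd] at h1
      exact ⟨k, l, by linear_combination h1, rfl⟩
  · rintro (⟨k, l, hkl, rfl⟩ | ⟨k, l, hkl, rfl⟩) x
    · rcases D.cases x with ⟨i, j, rfl⟩ | ⟨i, j, rfl⟩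
      · rw [D.conj_e_e]
      · rw [D.conj_e_b, D.b_mem_Vd, D.b_mem_Vd]
        constructor
        · intro h; linear_combination h + hkl
        · intro h; linear_combination h - hkl
    · rcases D.cases x with ⟨i, j, rfl⟩ | ⟨i, j, rfl⟩
      · rw [D.conj_b_e, D.e_mem_Vd, D.e_mem_Vd]
        constructor
        · intro h; linear_combination -h
        · intro h; linear_combination -h
      · rw [D.conj_b_b, D.b_mem_Vd, D.b_mem_Vd]
        constructor
        · intro h; linear_combination -h + hkl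
        · intro h; linear_combination -h + hkl

theorem relIndex_normalizer_Vd (c : D.Z) :
    (D.Vd c).relIndex (Subgroup.normalizer ((D.Vd c : Subgroup S) : Set S)) = 2 := by
  obtain ⟨q₀, hq₀⟩ := D.exists_q
  rw [Subgroup.relIndex_eq_two_iff]
  refine ⟨D.e q₀ 0, (D.mem_normalizer_Vd c _).mpr
    (Or.inl ⟨q₀, 0, by linear_combination 2 * hq₀ + D.two_h, rfl⟩), ?_⟩
  intro g hg
  rw [D.mem_normalizer_Vd] at hg
  rcases hg with ⟨i, j, hij, rfl⟩ | ⟨i, j, hij, rfl⟩
  · rw [D.e_e, D.e_mem_Vd, D.e_mem_Vd]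
    have h1 : 2 * (2 * (i - j)) = 0 := by linear_combination hij
    rcases (D.two_mul_eq_zero_iff _).mp h1 with h | h
    · right
      refine ⟨h, fun h2 => D.h_ne ?_⟩
      linear_combination h2 - h - hq₀
    · left
      refine ⟨?_, fun h2 => D.h_ne ?_⟩
      · linear_combination h + hq₀ + D.two_h
      · linear_combination h2 - h
  · rw [D.b_e, D.b_mem_Vd, D.b_mem_Vd]
    have h1 : 2 * (2 * (i - j - c)) = 0 := by linear_combination hij
    rcases (D.two_mul_eq_zero_iff _).mp h1 with h | h
    · right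
      refine ⟨h, fun h2 => D.h_ne ?_⟩
      linear_combination h - h2 - hq₀
    · left
      refine ⟨?_, fun h2 => D.h_ne ?_⟩
      · linear_combination h - hq₀
      · linear_combination h2 - h

end Data

end Cfsg.Agent.helper6.Wr
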