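import Mathlib
import Cfsg.Agent.Lib_helper6_WrNorm
import Cfsg.Agent.Lib_helper6_WrFus5
import Cfsg.Agent.Lib_helper6_AutIdx3

set_option autoImplicit false
set_option linter.unusedSectionVars false
set_option linter.unusedVariables false

namespace Cfsg.Agent.helper6.WrFus

open Cfsg Cfsg.Agent.helper6.Wr Cfsg.Agent.helper6.AutIdx Cfsg.Agent.helper6.WrAut
open Cfsg.Agent.helper6.GoldFus Cfsg.Agent.helper6.FusInv

variable {G : Type*} [Group G] [Finite G] (S : Sylow 2 G) (D : Data ↥(S : Subgroup G))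

theorem odd_index_sylow : Odd (S : Subgroup G).index := by
  have : Fact (Nat.Prime 2) := ⟨Nat.prime_two⟩
  rw [← Nat.not_even_iff_odd, even_iff_two_dvd]
  exact S.not_dvd_index

theorem S_le_normalizer_U (U : Subgroup G) (hUS : U ≤ S)
    (hU : U.subgroupOf (S : Subgroup G) = D.U) :
    (S : Subgroup G) ≤ Subgroup.normalizer (U : Set G) := by
  intro s hs
  rw [Subgroup.mem_normalizer_iff]
  intro h
  constructor
  · intro hh
    exact (U_conj_mem_iff S D U hUS hU s hs h (hUS hh)).mpr hh
  · intro hh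
    have hS : s * h * s⁻¹ ∈ (S : Subgroup G) := hUS hh
    have hhS : h ∈ (S : Subgroup G) := by
      have e : h = s⁻¹ * (s * h * s⁻¹) * s := by group
      rw [e]
      exact mul_mem (mul_mem (inv_mem hs) hS) hs
    exact (U_conj_mem_iff S D U hUS hU s hs h hhS).mp hh

theorem centralizer_inf_S_U (U : Subgroup G) (hUS : U ≤ S)
    (hU : U.subgroupOf (S : Subgroup G) = D.U) :
    Subgroup.centralizer (U : Set G) ⊓ (S : Subgroup G) = U := by
  ext a
  rw [Subgroup.mem_inf]
  constructor
  · rintro ⟨hc, haS⟩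
    rw [Subgroup.mem_centralizer_iff] at hc
    rcases D.cases ⟨a, haS⟩ with ⟨i, j, h⟩ | ⟨i, j, h⟩
    · exact (mem_U_iff_coe S D U hU ⟨a, haS⟩).mpr (by rw [h]; exact D.e_mem_U i j)
    · exfalso
      have h1 : ((D.e 1 0 : ↥(S : Subgroup G)) : G) ∈ U :=
        (mem_U_iff_coe S D U hU _).mpr (D.e_mem_U 1 0)
      have h2 := hc _ h1
      have h3 : D.e 1 0 * D.b i j = D.b i j * D.e 1 0 := by
        apply Subtype.ext
        rw [Subgroup.coe_mul, Subgroup.coe_mul, ← h]
        exact h2
      exact D.one_ne_zero' ((D.comm_e_b_iff 1 0 i j).mp h3)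
  · intro ha
    refine ⟨?_, hUS ha⟩
    rw [Subgroup.mem_centralizer_iff]
    intro u hu
    have h1 := D.U_comm ⟨u, hUS hu⟩ ((mem_U_iff_coe S D U hU ⟨u, hUS hu⟩).mp hu) ⟨a, hUS ha⟩
      ((mem_U_iff_coe S D U hU ⟨a, hUS ha⟩).mp ha)
    exact congrArg Subtype.val h1

theorem card_perm_invol_U (U : Subgroup G) (hUS : U ≤ S)
    (hU : U.subgroupOf (S : Subgroup G) = D.U) :
    Nat.card (Equiv.Perm {t : ↥U // t ≠ 1 ∧ t * t = 1}) ∣ 6 := by
  have hm : ∀ i j : D.Z, ((D.e i j : ↥(S : Subgroup G)) : G) ∈ U :=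
    fun i j => (mem_U_iff_coe S D U hU _).mpr (D.e_mem_U i j)
  have hcoord : ∀ t : ↥U, ∃ i j : D.Z, (t : G) = ((D.e i j : ↥(S : Subgroup G)) : G) := by
    intro t
    have h1 := (mem_U_iff_coe S D U hU ⟨(t : G), hUS t.2⟩).mp t.2
    obtain ⟨i, j, hij⟩ := (D.mem_U_iff _).mp h1
    exact ⟨i, j, congrArg Subtype.val hij⟩
  have hinj : ∀ i j k l : D.Z, (⟨_, hm i j⟩ : ↥U) = ⟨_, hm k l⟩ → i = k ∧ j = l := by
    intro i j k l h
    have h1 := congrArg Subtype.val h
    exact D.e_inj.mp (Subtype.val_injective h1)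
  have h3 : Nat.card {t : ↥U // t ≠ 1 ∧ t * t = 1} = 3 := by
    have h0 : Nat.card {t : ↥U // t ≠ 1 ∧ t * t = 1}
        = Set.ncard {t : ↥U | t ≠ 1 ∧ t * t = 1} := Nat.card_coe_set_eq _
    rw [h0, Set.ncard_eq_three]
    refine ⟨⟨_, hm D.h 0⟩, ⟨_, hm 0 D.h⟩, ⟨_, hm D.h D.h⟩, ?_, ?_, ?_, ?_⟩
    · intro h; exact D.h_ne (hinj _ _ _ _ h).1
    · intro h; exact D.h_ne (hinj _ _ _ _ h).2.symm
    · intro h; exact D.h_ne (hinj _ _ _ _ h).1.symm
    · ext t
      simp only [Set.mem_ofPred_eq, Set.mem_insert_iff, Set.mem_singleton_iff]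
      constructor
      · rintro ⟨ht1, ht2⟩
        obtain ⟨i, j, hij⟩ := hcoord t
        have ht : t = ⟨_, hm i j⟩ := Subtype.ext hij
        have h4 : D.e i j * D.e i j = 1 := by
          apply Subtype.ext
          rw [Subgroup.coe_mul, ← hij, Subgroup.coe_one]
          have := congrArg Subtype.val ht2
          simpa using this
        rw [D.e_e, D.e_eq_one_iff] at h4
        have hi : 2 * i = 0 := by linear_combination h4.1
        have hj : 2 * j = 0 := by linear_combination h4.2
        rcases (D.two_mul_eq_zero_iff i).mp hi with hi' | hi' <;>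
          rcases (D.two_mul_eq_zero_iff j).mp hj with hj' | hj'
        · exfalso
          apply ht1
          apply Subtype.ext
          rw [hij, hi', hj', D.e_zero]
          rfl
        · right; left; rw [ht]; apply Subtype.ext; simp only []; rw [hi', hj']
        · left; rw [ht]; apply Subtype.ext; simp only []; rw [hi', hj']
        · right; right; rw [ht]; apply Subtype.ext; simp only []; rw [hi', hj']
      · have key : ∀ i j : D.Z, 2 * i = 0 → 2 * j = 0 → (i ≠ 0 ∨ j ≠ 0) →
            (⟨_, hm i j⟩ : ↥U) ≠ 1 ∧ (⟨_, hm i j⟩ : ↥U) * ⟨_, hm i j⟩ = 1 := by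
          intro i j hi hj hne
          constructor
          · intro h
            have h1 := congrArg Subtype.val h
            have h2 : D.e i j = 1 := Subtype.val_injective h1
            rw [D.e_eq_one_iff] at h2
            rcases hne with h' | h'
            · exact h' h2.1
            · exact h' h2.2
          · apply Subtype.ext
            rw [Subgroup.coe_mul, Subgroup.coe_one]
            simp only []
            rw [← Subgroup.coe_mul, D.e_e]
            have h2 : D.e (i + i) (j + j) = 1 := by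
              rw [D.e_eq_one_iff]
              exact ⟨by linear_combination hi, by linear_combination hj⟩
            rw [h2]
            rfl
        rintro (rfl | rfl | rfl)
        · exact key _ _ D.two_h (by ring) (Or.inl D.h_ne)
        · exact key _ _ (by ring) D.two_h (Or.inr D.h_ne)
        · exact key _ _ D.two_h D.two_h (Or.inl D.h_ne)
  rw [Nat.card_perm, h3]
  decide

/-- `|N_G(U) : C_G(U)| ∈ {2, 6}`. -/
theorem U_index_cases (U : Subgroup G) (hUS : U ≤ S)
    (hU : U.subgroupOf (S : Subgroup G) = D.U) :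
    (Subgroup.centralizer (U : Set G)).relIndex (Subgroup.normalizer (U : Set G)) = 2 ∨
    (Subgroup.centralizer (U : Set G)).relIndex (Subgroup.normalizer (U : Set G)) = 6 := by
  have hker := Subgroup.normalizerMonoidHom_ker (H := U)
  have hn : ((Subgroup.centralizer (U : Set G)).subgroupOf
      (Subgroup.normalizer (U : Set G))).Normal := by
    rw [← hker]; infer_instance
  have hSN := S_le_normalizer_U S D U hUS hU
  have hodd : Odd ((S : Subgroup G).relIndex (Subgroup.normalizer (U : Set G))) :=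
    Odd.of_dvd_nat (odd_index_sylow S) (Subgroup.relIndex_dvd_index_of_le hSN)
  obtain ⟨m, hm, hCm⟩ := relIndex_eq_mul_odd (Subgroup.normalizer (U : Set G))
    (Subgroup.centralizer (U : Set G)) (S : Subgroup G)
    (Subgroup.centralizer_le_normalizer _) hSN hn hodd
  have h2 : (Subgroup.centralizer (U : Set G)).relIndex (S : Subgroup G) = 2 := by
    rw [← Subgroup.inf_relIndex_right, centralizer_inf_S_U S D U hUS hU, relIndex_U S D U hU]
  rw [h2] at hCm
  have hab : ∀ x y : ↥U, x * y = y * x := by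
    intro x y
    apply Subtype.ext
    have h1 := D.U_comm ⟨x, hUS x.2⟩ ((mem_U_iff_coe S D U hU ⟨x, hUS x.2⟩).mp x.2) ⟨y, hUS y.2⟩
      ((mem_U_iff_coe S D U hU ⟨y, hUS y.2⟩).mp y.2)
    have h2 : (x : G) * (y : G) = (y : G) * (x : G) := congrArg Subtype.val h1
    rw [Subgroup.coe_mul, Subgroup.coe_mul]
    exact h2
  have h2pow : ∀ t : ↥U, ∃ e : ℕ, t ^ (2 ^ e) = 1 := by
    intro t
    obtain ⟨j, hj⟩ := two_group_of_le S U hUS t t.2
    exact ⟨j, Subtype.ext (by rw [Subgroup.coe_pow, hj]; rfl)⟩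
  obtain ⟨a, r, hr, hcard⟩ := card_range_two_pow_mul U.normalizerMonoidHom (toPermInv ↥U)
    (card_perm_invol_U S D U hUS hU) (by
      intro β _ hβ r hr hβr
      exact odd_aut_trivial' hab h2pow β r hr hβr (fun t ht => toPermInv_eq_one β hβ t ht))
  have h4 : (Subgroup.centralizer (U : Set G)).relIndex (Subgroup.normalizer (U : Set G))
      = Nat.card U.normalizerMonoidHom.range := by
    rw [← Subgroup.index_ker, hker]
    rfl
  exact two_or_six_of_dvd _ m a r hCm hm hr (by rw [h4, hcard])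

end Cfsg.Agent.helper6.WrFus
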