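import Mathlib
import Cfsg.Agent.Lib_helper6_WrIdx
import Cfsg.Agent.Lib_helper6_WrAut3
import Cfsg.Agent.Lib_helper10_Sylow
import Cfsg.Agent.Lib_lead_Frobenius

set_option autoImplicit false
set_option linter.unusedSectionVars false
set_option linter.unusedVariables false

namespace Cfsg.Agent.helper6.Wr.Data

variable {S : Type*} [Group S] (D : Data S) [Finite S]

/-- elements of `S` centralizing `Vd c` are diagonal. -/
theorem centralizer_Vd_diag (c : D.Z) (s : S) (hs : ∀ t ∈ D.Vd c, t * s = s * t) :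
    ∃ m, s = D.e m m := by
  obtain ⟨q₀, hq₀⟩ := D.exists_q
  have h0 : D.b c 0 ∈ D.Vd c := by rw [D.b_mem_Vd]; ring
  have h1 : D.e q₀ (-q₀) ∈ D.Vd c := by
    rw [D.e_mem_Vd]; linear_combination 2 * hq₀ + D.two_h
  rcases D.cases s with ⟨k, l, h⟩ | ⟨k, l, h⟩
  · have h2 := hs _ h0
    rw [h] at h2
    have h3 := (D.comm_e_b_iff k l c 0).mp h2.symm
    exact ⟨k, by rw [h, h3]⟩
  · exfalso
    have h2 := hs _ h1
    rw [h] at h2
    have h3 := (D.comm_e_b_iff q₀ (-q₀) k l).mp h2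
    apply D.h_ne
    rw [← hq₀]
    linear_combination h3

/-- `Vd c` is not commutative. -/
theorem Vd_not_comm (c : D.Z) : ¬ IsMulCommutative (D.Vd c) := by
  intro hc
  obtain ⟨q₀, hq₀⟩ := D.exists_q
  have h0 : D.b c 0 ∈ D.Vd c := by rw [D.b_mem_Vd]; ring
  have h1 : D.e q₀ (-q₀) ∈ D.Vd c := by
    rw [D.e_mem_Vd]; linear_combination 2 * hq₀ + D.two_h
  have h2 := hc.is_comm.comm (⟨_, h1⟩ : D.Vd c) ⟨_, h0⟩
  have h3 : D.e q₀ (-q₀) * D.b c 0 = D.b c 0 * D.e q₀ (-q₀) := congrArg Subtype.val h2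
  have h4 := (D.comm_e_b_iff q₀ (-q₀) c 0).mp h3
  apply D.h_ne
  rw [← hq₀]
  linear_combination h4

end Cfsg.Agent.helper6.Wr.Data

namespace Cfsg.Agent.helper6.WrFus

open Cfsg Cfsg.Agent.helper6.Wr Cfsg.Agent.helper6.AutIdx Cfsg.Agent.helper6.WrAut
open Cfsg.Agent.helper6.GoldFus Cfsg.Agent.helper6.FusInv

variable {G : Type*} [Group G] [Finite G] (S : Sylow 2 G) (D : Data ↥(S : Subgroup G))

theorem mem_V_iff_coe (V : Subgroup G) (c : D.Z) (hV : V.subgroupOf (S : Subgroup G) = D.Vd c)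
    (a : ↥(S : Subgroup G)) : (a : G) ∈ V ↔ a ∈ D.Vd c := by
  rw [← hV, Subgroup.mem_subgroupOf]

/-- `C_G(V) ∩ S ≤ Z(S)`. -/
theorem centralizer_inf_S_V (V : Subgroup G) (hVS : V ≤ S) (c : D.Z)
    (hV : V.subgroupOf (S : Subgroup G) = D.Vd c) (a : G) (haS : a ∈ (S : Subgroup G))
    (hc : a ∈ Subgroup.centralizer (V : Set G)) : a ∈ V := by
  rw [Subgroup.mem_centralizer_iff] at hc
  obtain ⟨m, hm⟩ := D.centralizer_Vd_diag c ⟨a, haS⟩ (by
    intro t ht
    apply Subtype.ext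
    rw [Subgroup.coe_mul, Subgroup.coe_mul]
    exact hc _ ((mem_V_iff_coe S D V c hV t).mpr ht))
  have h1 : (⟨a, haS⟩ : ↥(S : Subgroup G)) ∈ D.Vd c := by
    rw [hm, D.e_mem_Vd]; ring
  exact (mem_V_iff_coe S D V c hV ⟨a, haS⟩).mpr h1

theorem card_mul_relIndex' {H K : Subgroup G} (h : H ≤ K) :
    Nat.card H * H.relIndex K = Nat.card K := by
  have h1 := Subgroup.relIndex_mul_relIndex (⊥ : Subgroup G) H K bot_le h
  rw [Subgroup.relIndex_bot_left, Subgroup.relIndex_bot_left] at h1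
  exact h1

/-- `|N_S(V) : V| = 2`. -/
theorem relIndex_V (V : Subgroup G) (hVS : V ≤ S) (c : D.Z)
    (hV : V.subgroupOf (S : Subgroup G) = D.Vd c) :
    V.relIndex ((S : Subgroup G) ⊓ Subgroup.normalizer (V : Set G)) = 2 := by
  have h1 : ((S : Subgroup G) ⊓ Subgroup.normalizer (V : Set G)).subgroupOf (S : Subgroup G)
      = Subgroup.normalizer ((D.Vd c : Subgroup ↥(S : Subgroup G)) : Set ↥(S : Subgroup G)) := by
    rw [Subgroup.inf_subgroupOf_left, Subgroup.subgroupOf_normalizer_eq hVS, hV]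
  have h2 := Subgroup.relIndex_subgroupOf (H := V)
    (K := (S : Subgroup G) ⊓ Subgroup.normalizer (V : Set G)) (L := (S : Subgroup G)) inf_le_left
  rw [← h2, h1, hV]
  exact D.relIndex_normalizer_Vd c

theorem card_S_inf_normalizer_V (V : Subgroup G) (hVS : V ≤ S) (c : D.Z)
    (hV : V.subgroupOf (S : Subgroup G) = D.Vd c) :
    Nat.card ↥((S : Subgroup G) ⊓ Subgroup.normalizer (V : Set G)) = Nat.card V * 2 := by
  have h1 : V ≤ (S : Subgroup G) ⊓ Subgroup.normalizer (V : Set G) :=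
    le_inf hVS Subgroup.le_normalizer
  rw [← card_mul_relIndex' h1, relIndex_V S D V hVS c hV]

/-- a conjugate of `V = Q Z(S)` inside `S` is again of type `Vd`. -/
theorem conj_V_coords (Q : Subgroup G) (hQS : Q ≤ S) (eQ : Q ≃* QuaternionGroup 2) (g : G)
    (hW : (Q ⊔ Zg S).map (MulAut.conj g).toMonoidHom ≤ S) :
    ∃ c' : D.Z, ((Q ⊔ Zg S).map (MulAut.conj g).toMonoidHom).subgroupOf (S : Subgroup G)
      = D.Vd c' := by
  obtain ⟨cg, hcg⟩ : ∃ cg : G →* G, cg = (MulAut.conj g).toMonoidHom := ⟨_, rfl⟩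
  rw [← hcg] at hW ⊢
  have hinj : Function.Injective cg := by rw [hcg]; exact (MulAut.conj g).injective
  have hmap : (Q ⊔ Zg S).map cg = Q.map cg ⊔ (Zg S).map cg := Subgroup.map_sup _ _ _
  have hQ'S : Q.map cg ≤ S := le_trans (Subgroup.map_mono le_sup_left) hW
  have hZ'S : (Zg S).map cg ≤ S := le_trans (Subgroup.map_mono le_sup_right) hW
  have eQ' : Q.map cg ≃* QuaternionGroup 2 := (Q.equivMapOfInjective cg hinj).symm.trans eQ
  obtain ⟨X, hX⟩ : ∃ X : Subgroup ↥(S : Subgroup G),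
      X = ((Q ⊔ Zg S).map cg).subgroupOf (S : Subgroup G) := ⟨_, rfl⟩
  have hXnc : ¬ IsMulCommutative X := by
    intro hc
    obtain ⟨u, v, huv⟩ := Data.q8_exists
    apply huv
    have hu : ((eQ'.symm u : Q.map cg) : G) ∈ (Q ⊔ Zg S).map cg :=
      Subgroup.map_mono le_sup_left (eQ'.symm u).2
    have hv : ((eQ'.symm v : Q.map cg) : G) ∈ (Q ⊔ Zg S).map cg :=
      Subgroup.map_mono le_sup_left (eQ'.symm v).2
    have huX : (⟨_, hW hu⟩ : ↥(S : Subgroup G)) ∈ X := by
      rw [hX, Subgroup.mem_subgroupOf]; exact hu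
    have hvX : (⟨_, hW hv⟩ : ↥(S : Subgroup G)) ∈ X := by
      rw [hX, Subgroup.mem_subgroupOf]; exact hv
    have h1 := hc.is_comm.comm (⟨_, huX⟩ : X) ⟨_, hvX⟩
    have h2 : ((eQ'.symm u : Q.map cg) : G) * ((eQ'.symm v : Q.map cg) : G)
        = ((eQ'.symm v : Q.map cg) : G) * ((eQ'.symm u : Q.map cg) : G) :=
      congrArg (fun x : X => ((x : ↥(S : Subgroup G)) : G)) h1
    have h3 : eQ'.symm u * eQ'.symm v = eQ'.symm v * eQ'.symm u := Subtype.ext h2
    rw [← map_mul, ← map_mul] at h3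
    exact eQ'.symm.injective h3
  have hZle : (Zg S).map cg ≤ Zg S := by
    rintro _ ⟨z, hz, rfl⟩
    have hzW : cg z ∈ (Q ⊔ Zg S).map cg := Subgroup.mem_map_of_mem _ (le_sup_right (a := Q) hz)
    have hzX : (⟨cg z, hW hzW⟩ : ↥(S : Subgroup G)) ∈ X := by
      rw [hX, Subgroup.mem_subgroupOf]; exact hzW
    have hzc : (⟨_, hzX⟩ : X) ∈ Subgroup.center X := by
      rw [Subgroup.mem_center_iff]
      rintro ⟨⟨x, hxS⟩, hxX⟩
      rw [hX, Subgroup.mem_subgroupOf] at hxX
      obtain ⟨y, hy, hyx⟩ := hxX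
      have hyS : y ∈ (S : Subgroup G) := sup_le hQS (Zg_le S) hy
      obtain ⟨z', hz', hzz'⟩ := hz
      have h1 : z' * ⟨y, hyS⟩ = ⟨y, hyS⟩ * z' := (Subgroup.mem_center_iff.mp hz' ⟨y, hyS⟩).symm
      have h2 : z * y = y * z := by
        have := congrArg Subtype.val h1
        rw [← hzz']
        simpa using this
      apply Subtype.ext
      apply Subtype.ext
      show x * cg z = cg z * x
      have hyx' : cg y = x := hyx
      rw [← hyx', ← map_mul, ← map_mul, h2]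
    have h3 := D.center_le_of_noncomm X hXnc ⟨⟨_, hzX⟩, hzc, rfl⟩
    exact ⟨⟨cg z, hW hzW⟩, h3, rfl⟩
  have hZeq : (Zg S).map cg = Zg S := by
    apply Subgroup.eq_of_le_of_card_ge hZle
    rw [Subgroup.card_map_of_injective hinj]
  obtain ⟨i, k, l, hi, hkl, hV⟩ := V_coords S D (Q.map cg) hQ'S eQ'
  exact ⟨k - l, by rw [hmap, hZeq, hV]⟩

include D in
/-- `N_S(V)` is a Sylow 2-subgroup of `N_G(V)`. -/
theorem odd_relIndex_V (Q : Subgroup G) (hQS : Q ≤ S) (eQ : Q ≃* QuaternionGroup 2) :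
    Odd (((S : Subgroup G) ⊓ Subgroup.normalizer ((Q ⊔ Zg S : Subgroup G) : Set G)).relIndex
      (Subgroup.normalizer ((Q ⊔ Zg S : Subgroup G) : Set G))) := by
  have : Fact (Nat.Prime 2) := ⟨Nat.prime_two⟩
  have hVS : Q ⊔ Zg S ≤ S := sup_le hQS (Zg_le S)
  obtain ⟨i, k, l, hi, hkl, hV⟩ := V_coords S D Q hQS eQ
  obtain ⟨g, hWS, hg⟩ := Cfsg.Agent.lead.exists_tame_conj S (Q ⊔ Zg S) hVS
  obtain ⟨c', hW⟩ := conj_V_coords S D Q hQS eQ g hWS
  obtain ⟨V, hVdef⟩ : ∃ V : Subgroup G, V = Q ⊔ Zg S := ⟨_, rfl⟩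
  rw [← hVdef] at hVS hV hWS hg hW ⊢
  obtain ⟨W, hWdef⟩ : ∃ W : Subgroup G, W = V.map (MulAut.conj g).toMonoidHom := ⟨_, rfl⟩
  have hinj : Function.Injective (MulAut.conj g).toMonoidHom := (MulAut.conj g).injective
  have c3 : Nat.card W = Nat.card V := by rw [hWdef]; exact Subgroup.card_map_of_injective hinj
  have c4 : Nat.card (Subgroup.normalizer (W : Set G))
      = Nat.card (Subgroup.normalizer (V : Set G)) := by
    rw [hWdef, Cfsg.Agent.helper10.normalizer_map_conj]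
    exact Subgroup.card_map_of_injective hinj
  rw [← hWdef] at hWS hg hW
  have c1 := card_S_inf_normalizer_V S D V hVS _ hV
  have c2 := card_S_inf_normalizer_V S D W hWS _ hW
  have r1 := card_mul_relIndex'
    (inf_le_right : (S : Subgroup G) ⊓ Subgroup.normalizer (V : Set G) ≤ _)
  have r2 := card_mul_relIndex'
    (inf_le_right : (S : Subgroup G) ⊓ Subgroup.normalizer (W : Set G) ≤ _)
  have hpos : 0 < Nat.card V * 2 := by
    have := Nat.card_pos (α := V)
    omega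
  have heq : ((S : Subgroup G) ⊓ Subgroup.normalizer (V : Set G)).relIndex
      (Subgroup.normalizer (V : Set G)) =
      ((S : Subgroup G) ⊓ Subgroup.normalizer (W : Set G)).relIndex
      (Subgroup.normalizer (W : Set G)) := by
    apply Nat.eq_of_mul_eq_mul_left hpos
    rw [← c1, r1, c1, ← c3, ← c2, r2, c4]
  rw [← Nat.not_even_iff_odd, even_iff_two_dvd, heq]
  exact hg

include D in
/-- `|N_G(V) : V C_G(V)| ∈ {2, 6}`. -/
theorem V_index_cases (Q : Subgroup G) (hQS : Q ≤ S) (eQ : Q ≃* QuaternionGroup 2) :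
    ((Q ⊔ Zg S) ⊔ Subgroup.centralizer ((Q ⊔ Zg S : Subgroup G) : Set G)).relIndex
      (Subgroup.normalizer ((Q ⊔ Zg S : Subgroup G) : Set G)) = 2 ∨
    ((Q ⊔ Zg S) ⊔ Subgroup.centralizer ((Q ⊔ Zg S : Subgroup G) : Set G)).relIndex
      (Subgroup.normalizer ((Q ⊔ Zg S : Subgroup G) : Set G)) = 6 := by
  have hVS : Q ⊔ Zg S ≤ S := sup_le hQS (Zg_le S)
  obtain ⟨i, k, l, hi, hkl, hV⟩ := V_coords S D Q hQS eQ
  have hodd := odd_relIndex_V S D Q hQS eQ
  obtain ⟨V, hVdef⟩ : ∃ V : Subgroup G, V = Q ⊔ Zg S := ⟨_, rfl⟩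
  rw [← hVdef] at hVS hV hodd ⊢
  obtain ⟨c, hc⟩ : ∃ c : D.Z, c = k - l := ⟨_, rfl⟩
  rw [← hc] at hV
  have hker := Subgroup.normalizerMonoidHom_ker (H := V)
  have hVN : V ≤ Subgroup.normalizer (V : Set G) := Subgroup.le_normalizer
  have hCN : Subgroup.centralizer (V : Set G) ≤ Subgroup.normalizer (V : Set G) :=
    Subgroup.centralizer_le_normalizer _
  have hMN : V ⊔ Subgroup.centralizer (V : Set G) ≤ Subgroup.normalizer (V : Set G) :=
    sup_le hVN hCN
  have hn : ((V ⊔ Subgroup.centralizer (V : Set G)).subgroupOf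
      (Subgroup.normalizer (V : Set G))).Normal := by
    rw [Subgroup.subgroupOf_sup hVN hCN]
    haveI : ((Subgroup.centralizer (V : Set G)).subgroupOf
        (Subgroup.normalizer (V : Set G))).Normal := by
      rw [← hker]; infer_instance
    infer_instance
  obtain ⟨m, hm, hCm⟩ := relIndex_eq_mul_odd (Subgroup.normalizer (V : Set G))
    (V ⊔ Subgroup.centralizer (V : Set G)) ((S : Subgroup G) ⊓ Subgroup.normalizer (V : Set G))
    hMN inf_le_right hn hodd
  have h2 : (V ⊔ Subgroup.centralizer (V : Set G)).relIndex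
      ((S : Subgroup G) ⊓ Subgroup.normalizer (V : Set G)) = 2 := by
    rw [← Subgroup.inf_relIndex_right]
    have h3 : (V ⊔ Subgroup.centralizer (V : Set G)) ⊓
        ((S : Subgroup G) ⊓ Subgroup.normalizer (V : Set G)) = V := by
      apply le_antisymm
      · intro x hx
        rw [Subgroup.mem_inf, Subgroup.mem_inf] at hx
        obtain ⟨hx1, hxS, hxN⟩ := hx
        obtain ⟨a, ha, b, hb, rfl⟩ := mem_sup_of_comm V (Subgroup.centralizer (V : Set G)) (by
          intro a ha b hb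
          exact (Subgroup.mem_centralizer_iff.mp hb a ha)) x hx1
        have hbS : b ∈ (S : Subgroup G) := by
          have e : b = a⁻¹ * (a * b) := by group
          rw [e]; exact mul_mem (inv_mem (hVS ha)) hxS
        exact mul_mem ha (centralizer_inf_S_V S D V hVS c hV b hbS hb)
      · exact le_inf le_sup_left (le_inf hVS hVN)
    rw [h3]
    exact relIndex_V S D V hVS c hV
  rw [h2] at hCm
  have hι : Function.Injective (Subgroup.inclusion hVS) := Subgroup.inclusion_injective hVS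
  have hrange : (Subgroup.inclusion hVS).range = D.Vd c := by
    rw [← hV]
    ext s
    rw [Subgroup.mem_subgroupOf]
    constructor
    · rintro ⟨a, rfl⟩; exact a.2
    · intro hs; exact ⟨⟨(s : G), hs⟩, Subtype.ext rfl⟩
  obtain ⟨a, r, hr, hcard⟩ := card_range_two_pow_mul V.normalizerMonoidHom (autQuot ↥V)
    (card_mulAut_quot_dvd D (Subgroup.inclusion hVS) hι c hrange) (by
      intro β _ hβ r hr hβr
      exact autQuot_ker_odd D (Subgroup.inclusion hVS) hι c hrange β hβ r hr hβr)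
  have h4 : (Subgroup.centralizer (V : Set G)).relIndex (Subgroup.normalizer (V : Set G))
      = Nat.card V.normalizerMonoidHom.range := by
    rw [← Subgroup.index_ker, hker]
    rfl
  have h5 : (V ⊔ Subgroup.centralizer (V : Set G)).relIndex (Subgroup.normalizer (V : Set G))
      ∣ 2 ^ a * r := by
    rw [← hcard, ← h4]
    exact Subgroup.relIndex_dvd_of_le_left _ le_sup_right
  exact two_or_six_of_dvd _ m a r hCm hm hr h5

end Cfsg.Agent.helper6.WrFus
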