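import Mathlib
import Cfsg.Agent.Lib_helper6_WrVd
import Cfsg.Agent.Lib_helper6_QuatHom
import Cfsg.Agent.Lib_helper6_WrNorm
import Cfsg.Agent.Lib_helper6_WrAut2
import Cfsg.Agent.Lib_helper10_Sylow
import Cfsg.Agent.Lib_lead_Frobenius

set_option autoImplicit false
set_option linter.unusedSectionVars false
set_option linter.unusedVariables false

namespace Cfsg.Agent.helper6.Wr.Data

open Cfsg.Agent.helper6.ZExp Cfsg.Agent.helper6.TwoPow Cfsg.Agent.helper6.QuatHom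

variable {S : Type*} [Group S] (D : Data S) [Finite S]

/-- every `Vd c` with `c` even is `Q Z(S)` for a quaternion subgroup `Q` of order 8. -/
theorem exists_quat_Vd (c : D.Z) (hc : D.par c = 0) :
    ∃ Q : Subgroup S, Nonempty (Q ≃* QuaternionGroup 2) ∧ D.Vd c = Q ⊔ Subgroup.center S := by
  obtain ⟨q₀, hq₀⟩ := D.exists_q
  obtain ⟨m, hm⟩ := (D.par_eq_zero_iff c).mp hc
  obtain ⟨a₀, ha₀⟩ : ∃ a₀ : S, a₀ = D.e q₀ (-q₀) := ⟨_, rfl⟩
  obtain ⟨b₀, hb₀⟩ : ∃ b₀ : S, b₀ = D.b (q₀ + m) (D.h - q₀ - m) := ⟨_, rfl⟩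
  have hsq_a : a₀ ^ 2 = D.e D.h D.h := by
    rw [ha₀, D.sq_e, D.e_inj]
    exact ⟨hq₀, by linear_combination -hq₀ - D.two_h⟩
  have ha : orderOf a₀ = 2 * 2 := by
    have h1 : orderOf a₀ = 2 ^ (1 + 1) := by
      apply orderOf_eq_prime_pow
      · rw [pow_one, hsq_a, D.e_eq_one_iff]
        exact fun h => D.h_ne h.1
      · have : a₀ ^ 2 ^ (1 + 1) = (a₀ ^ 2) ^ 2 := by rw [← pow_mul]; norm_num
        rw [this, hsq_a, D.sq_e, D.e_eq_one_iff]
        exact ⟨D.two_h, D.two_h⟩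
    rw [h1]; norm_num
  have hconj : b₀ * a₀ * b₀⁻¹ = a₀⁻¹ := by
    rw [hb₀, ha₀, D.conj_b_e, D.e_inv, neg_neg]
  have hsq : b₀ * b₀ = a₀ ^ 2 := by
    rw [hsq_a, hb₀, D.b_b, D.e_inj]
    constructor <;> ring
  have hb : b₀ ∉ Subgroup.zpowers a₀ := by
    intro h
    have h1 : Subgroup.zpowers a₀ ≤ D.U := by
      rw [Subgroup.zpowers_le, ha₀]; exact D.e_mem_U _ _
    obtain ⟨i, j, hij⟩ := h1 h
    rw [hb₀] at hij
    exact D.b_ne_e _ _ _ _ hij
  have haV : a₀ ∈ D.Vd c := by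
    rw [ha₀, D.e_mem_Vd]; linear_combination 2 * hq₀ + D.two_h
  have hbV : b₀ ∈ D.Vd c := by
    rw [hb₀, D.b_mem_Vd]; linear_combination 2 * hq₀ - 2 * hm
  refine ⟨(quatHom ha hconj hsq).range,
    ⟨(MonoidHom.ofInjective (quatHom_injective ha hconj hsq hb)).symm⟩, ?_⟩
  have haQ : a₀ ∈ (quatHom ha hconj hsq).range :=
    ⟨QuaternionGroup.a 1, by rw [quatHom_a, E_one ha]⟩
  have hbQ : b₀ ∈ (quatHom ha hconj hsq).range :=
    ⟨QuaternionGroup.xa 0, by rw [quatHom_xa, E_zero, mul_one]⟩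
  apply le_antisymm
  · intro t ht
    rcases D.cases t with ⟨i, j, rfl⟩ | ⟨i, j, rfl⟩
    · rw [D.e_mem_Vd] at ht
      rcases (D.two_mul_eq_zero_iff _).mp ht with h | h
      · apply Subgroup.mem_sup_right
        rw [D.mem_center_iff']
        exact ⟨i, by rw [D.e_inj]; exact ⟨rfl, by linear_combination -h⟩⟩
      · have e1 : D.e i j = a₀ * D.e (i - q₀) (i - q₀) := by
          rw [ha₀, D.e_e, D.e_inj]
          exact ⟨by ring, by linear_combination -h + hq₀⟩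
        rw [e1]
        exact Subgroup.mul_mem_sup haQ ((D.mem_center_iff' _).mpr ⟨_, rfl⟩)
    · rw [D.b_mem_Vd] at ht
      rcases (D.two_mul_eq_zero_iff _).mp ht with h | h
      · have e1 : D.b i j = b₀ * D.e (i - q₀ - m) (i - q₀ - m) := by
          rw [hb₀, D.b_e, D.b_inj]
          exact ⟨by ring, by linear_combination -h + hq₀ - hm⟩
        rw [e1]
        exact Subgroup.mul_mem_sup hbQ ((D.mem_center_iff' _).mpr ⟨_, rfl⟩)
      · have e1 : D.b i j = a₀ * b₀ * D.e (j + m) (j + m) := by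
          rw [ha₀, hb₀, D.e_b, D.b_e, D.b_inj]
          exact ⟨by linear_combination h + hm - hq₀, by linear_combination hq₀⟩
        rw [e1]
        exact Subgroup.mul_mem_sup (mul_mem haQ hbQ) ((D.mem_center_iff' _).mpr ⟨_, rfl⟩)
  · apply sup_le
    · rintro g ⟨(k | k), rfl⟩
      · rw [quatHom_a]
        exact (Subgroup.zpowers_le.mpr haV) (E_mem_zpowers k)
      · rw [quatHom_xa]
        exact mul_mem hbV ((Subgroup.zpowers_le.mpr haV) (E_mem_zpowers k))
    · intro g hg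
      obtain ⟨k, rfl⟩ := (D.mem_center_iff' g).mp hg
      rw [D.e_mem_Vd]; ring

/-- conjugation by `e m 0` moves `Vd c` to `Vd (c + 2 m)` (abstract version). -/
theorem Vd_conj' (c m : D.Z) :
    (D.Vd c).map (MulAut.conj (D.e m 0)).toMonoidHom = D.Vd (c + 2 * m) := by
  ext g
  rw [Cfsg.Agent.helper10.mem_map_conj_iff]
  rcases D.cases g with ⟨i, j, rfl⟩ | ⟨i, j, rfl⟩
  · have e1 : (D.e m 0)⁻¹ * D.e i j * D.e m 0 = D.e i j := by
      rw [D.e_inv, D.e_e, D.e_e, D.e_inj]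
      constructor <;> ring
    rw [e1, D.e_mem_Vd, D.e_mem_Vd]
  · have e1 : (D.e m 0)⁻¹ * D.b i j * D.e m 0 = D.b (i - m) (j + m) := by
      rw [D.e_inv, D.e_b, D.b_e, D.b_inj]
      constructor <;> ring
    rw [e1, D.b_mem_Vd, D.b_mem_Vd]
    constructor
    · intro h; linear_combination h
    · intro h; linear_combination h

/-- the subgroups `X` with `C_S(X) ≤ X` whose automorphism group is not a 2-group. -/
theorem centric_nontwo_cases (X : Subgroup S) (hC : Subgroup.centralizer (X : Set S) ≤ X)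
    (hA : ¬ IsPGroup 2 (MulAut X)) : X = D.U ∨ ∃ c, D.par c = 0 ∧ X = D.Vd c := by
  have : Fact (Nat.Prime 2) := ⟨Nat.prime_two⟩
  rw [IsPGroup] at hA
  push Not at hA
  obtain ⟨g, hg⟩ := hA
  obtain ⟨k, hk⟩ := Cfsg.Agent.lead.exists_pow_coprime_order (p := 2) g
  obtain ⟨f, hf⟩ : ∃ f : MulAut X, f = g ^ 2 ^ k := ⟨_, rfl⟩
  rw [← hf] at hk
  have hf1 : f ≠ 1 := by rw [hf]; exact hg k
  have hodd : Odd (orderOf f) := Nat.coprime_two_right.mp hk
  have hfr : f ^ orderOf f = 1 := pow_orderOf_eq_one f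
  have hι : Function.Injective X.subtype := X.subtype_injective
  have hcent : ∀ s : S, (∀ a : X, s * X.subtype a = X.subtype a * s) →
      ∃ a : X, X.subtype a = s := by
    intro s hs
    have h1 : s ∈ Subgroup.centralizer (X : Set S) := by
      rw [Subgroup.mem_centralizer_iff]
      intro h hh
      exact (hs ⟨h, hh⟩).symm
    exact ⟨⟨s, hC h1⟩, rfl⟩
  rcases Cfsg.Agent.helper6.WrAut.centric_cases D X.subtype hι hcent f (orderOf f) hodd hfr hf1
    with h | ⟨c, hc, h⟩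
  · left; rw [← h, Subgroup.range_subtype]
  · right; exact ⟨c, hc, by rw [← h, Subgroup.range_subtype]⟩

end Cfsg.Agent.helper6.Wr.Data
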