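import Cfsg.Statements.S1209
import Mathlib
import Cfsg.Agent.Lib_helper6_WrFus3
-- import your own Cfsg.Agent.* helpers here

set_option autoImplicit false
open Cfsg

namespace Cfsg.Agent.S1209

/-- Let G be a finite group whose Sylow 2-subgroup S is wreathed of order 2^(2n+1), U the commutative subgroup of index 2 in S, Q a quaternion subgroup of order 8 of S and V = Q Z(S). If |N_G(U) : C_G(U)| = 6 and |N_G(V) : V C_G(V)| = 6, then G has no subgroup of index 2 and exactly one conjugacy class of involutions. -/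
theorem result {G : Type*} [Group G] [Finite G] (S : Sylow 2 G) (hS : Cfsg.IsWreathed (S : Subgroup G)) (n : ℕ) (hn : Nat.card S = 2 ^ (2 * n + 1)) (U : Subgroup G) (hUS : U ≤ S) (hUab : IsMulCommutative U) (hUcard : Nat.card U = 2 ^ (2 * n)) (Q : Subgroup G) (hQS : Q ≤ S) (eQ : Q ≃* QuaternionGroup 2) (h₁ : (Subgroup.centralizer (U : Set G)).relIndex (Subgroup.normalizer (U : Set G)) = 6) (h₂ : ((Q ⊔ ((Subgroup.center (S : Subgroup G)).map (S : Subgroup G).subtype)) ⊔ Subgroup.centralizer ((Q ⊔ ((Subgroup.center (S : Subgroup G)).map (S : Subgroup G).subtype) : Subgroup G) : Set G)).relIndex (Subgroup.normalizer ((Q ⊔ ((Subgroup.center (S : Subgroup G)).map (S : Subgroup G).subtype) : Subgroup G) : Set G)) = 6) : (∀ H : Subgroup G, H.index ≠ 2) ∧ Nat.card {C : ConjClasses G // ∃ t : G, orderOf t = 2 ∧ ConjClasses.mk t = C} = 1 := by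
  obtain ⟨D⟩ := Cfsg.Agent.helper6.Wr.nonempty_data hS
  obtain ⟨hDn, hU⟩ := Cfsg.Agent.helper6.WrFus.subgroupOf_eq_U S D n hn U hUS hUab hUcard
  obtain ⟨g, hg, hnorm, hAC⟩ := Cfsg.Agent.helper6.WrFus.U_six S D U hUS hU h₁
  have hAz := Cfsg.Agent.helper6.WrFus.V_six S D Q hQS eQ h₂
  have hinv : ∀ t : G, orderOf t = 2 →
      IsConj t ((D.e D.h D.h : ↥(S : Subgroup G)) : G) := by
    intro t ht
    rcases Cfsg.Agent.helper6.WrFus.invol_cases S D t ht with h | h | h
    · exact h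
    · exact h.trans hAC
    · exact h.trans (hAz.symm.trans hAC)
  refine ⟨?_, Cfsg.Agent.helper6.QDFus.card_classes_eq_one 2 _
    (Cfsg.Agent.helper6.WrFus.orderOf_zc S D) hinv⟩
  intro H hH
  have hHn : H.Normal := Subgroup.normal_of_index_eq_two hH
  have hconj : ∀ a b : G, IsConj a b → b ∈ H → a ∈ H := by
    intro a b hab hb
    obtain ⟨c, hc⟩ := isConj_iff.mp hab
    have h1 := hHn.conj_mem b hb c⁻¹
    rw [← hc] at h1
    have h2 : c⁻¹ * (c * a * c⁻¹) * c⁻¹⁻¹ = a := by group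
    rwa [h2] at h1
  have hconj' : ∀ a c : G, c * a * c⁻¹ ∈ H → a ∈ H := fun a c h =>
    hconj a _ (isConj_iff.mpr ⟨c, rfl⟩) h
  by_cases hx : ((D.e 1 0 : ↥(S : Subgroup G)) : G) ∈ H
  · have hy : ((D.e 0 1 : ↥(S : Subgroup G)) : G) ∈ H := by
      have h1 := hHn.conj_mem _ hx ((D.z : ↥(S : Subgroup G)) : G)
      have h2 : D.z * D.e 1 0 * D.z⁻¹ = D.e 0 1 := D.conj_z_e 1 0
      have h3 := congrArg Subtype.val h2
      simp only [Subgroup.coe_mul, Subgroup.coe_inv] at h3
      rwa [h3] at h1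
    have he : ∀ i j : D.Z, ((D.e i j : ↥(S : Subgroup G)) : G) ∈ H := by
      intro i j
      have h1 : D.e i j = D.e 1 0 ^ i.val * D.e 0 1 ^ j.val := by
        rw [D.e_pow, D.e_pow, D.e_e, D.e_inj]
        constructor
        · rw [ZMod.natCast_zmod_val, ZMod.natCast_zmod_val]; ring
        · rw [ZMod.natCast_zmod_val, ZMod.natCast_zmod_val]; ring
      rw [h1, Subgroup.coe_mul, Subgroup.coe_pow, Subgroup.coe_pow]
      exact H.mul_mem (H.pow_mem hx _) (H.pow_mem hy _)
    have hz : ((D.z : ↥(S : Subgroup G)) : G) ∈ H :=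
      hconj _ _ (hinv _ (Cfsg.Agent.helper6.WrFus.orderOf_z S D)) (he D.h D.h)
    have hSH : (S : Subgroup G) ≤ H := by
      intro s hs
      rcases D.cases ⟨s, hs⟩ with ⟨i, j, hi⟩ | ⟨i, j, hi⟩
      · have := he i j
        rw [← hi] at this
        exact this
      · have h1 : D.b i j = D.e i j * D.z := rfl
        have h2 := congrArg Subtype.val (hi.trans h1)
        simp only [Subgroup.coe_mul] at h2
        rw [h2]
        exact H.mul_mem (he i j) hz
    have h1 : H.index ∣ (S : Subgroup G).index := Subgroup.index_dvd_of_le hSH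
    rw [hH] at h1
    have : Fact (Nat.Prime 2) := ⟨Nat.prime_two⟩
    exact S.not_dvd_index h1
  · have hxU : ((D.e 1 0 : ↥(S : Subgroup G)) : G) ∈ U := by
      have h1 : D.e 1 0 ∈ U.subgroupOf (S : Subgroup G) := by rw [hU]; exact D.e_mem_U 1 0
      rwa [Subgroup.mem_subgroupOf] at h1
    have h1 := hnorm _ hxU
    have hx1 : g * ((D.e 1 0 : ↥(S : Subgroup G)) : G) * g⁻¹ ∉ H := fun h => hx (hconj' _ g h)
    have hx2 : g * (g * ((D.e 1 0 : ↥(S : Subgroup G)) : G) * g⁻¹) * g⁻¹ ∉ H :=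
      fun h => hx1 (hconj' _ g h)
    have h12 : ((D.e 1 0 : ↥(S : Subgroup G)) : G) *
        (g * ((D.e 1 0 : ↥(S : Subgroup G)) : G) * g⁻¹) ∈ H :=
      (Subgroup.mul_mem_iff_of_index_two hH).mpr ⟨fun h => absurd h hx, fun h => absurd h hx1⟩
    have h123 : ((D.e 1 0 : ↥(S : Subgroup G)) : G) *
        (g * ((D.e 1 0 : ↥(S : Subgroup G)) : G) * g⁻¹) *
        (g * (g * ((D.e 1 0 : ↥(S : Subgroup G)) : G) * g⁻¹) * g⁻¹) ∉ H := by
      rw [Subgroup.mul_mem_iff_of_index_two hH]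
      intro h
      exact hx2 (h.mp h12)
    rw [h1] at h123
    exact h123 (one_mem H)

end Cfsg.Agent.S1209
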