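import Mathlib
import Cfsg.Agent.Lib_helper6_WrFus5

set_option autoImplicit false
set_option linter.unusedSectionVars false
set_option linter.unusedVariables false

namespace Cfsg.Agent.helper6.WrFus

open Cfsg Cfsg.Agent.helper6.Wr Cfsg.Agent.helper6.AutIdx Cfsg.Agent.helper6.WrAut
open Cfsg.Agent.helper9 (GoldFam)
open Cfsg.Agent.helper6.QDFus (isConj_coe isConj_of_conj orderOf_conj' odd_centralizes
  odd_centralizes_conj eq_map_conj_of_subgroupOf mem_of_coprime_index)
open Cfsg.Agent.helper6.GoldFus Cfsg.Agent.helper6.FusInv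
open scoped commutatorElement

variable {G : Type*} [Group G] [Finite G] (S : Sylow 2 G) (D : Data ↥(S : Subgroup G))

/-- the focal subgroup of `S` is `Y` when `U` is tame and `V` is not. -/
theorem focal_eq (hdich : Dich S D) (x : G) (q₀ i₂ j₂ : D.Z) (hq₀ : 2 * q₀ = D.h)
    (hij₂ : i₂ + j₂ = D.h)
    (hw : x * ((D.e q₀ (-q₀) : ↥(S : Subgroup G)) : G) * x⁻¹ =
      ((D.b i₂ j₂ : ↥(S : Subgroup G)) : G)) :
    Subgroup.focalSubgroup (S : Subgroup G) = Yg S D := by
  apply le_antisymm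
  · rw [Subgroup.focalSubgroup_def, Subgroup.closure_le]
    rintro g ⟨hgS, a, ha, u, rfl⟩
    have h1 : u * a * u⁻¹ ∈ (S : Subgroup G) := by
      have e : u * a * u⁻¹ = (a⁻¹ * ⁅a, u⁆)⁻¹ := by rw [commutatorElement_def]; group
      rw [e]
      exact inv_mem (mul_mem (inv_mem ha) hgS)
    have h2 := focal_le S D hdich a ha u⁻¹ (by rw [inv_inv]; exact h1)
    rw [inv_inv] at h2
    have e : ⁅a, u⁆ = a * (a⁻¹ * (u * a * u⁻¹))⁻¹ * a⁻¹ := by
      rw [commutatorElement_def]; group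
    show ⁅a, u⁆ ∈ Yg S D
    rw [e]
    exact Yg_conj_mem S D a ha _ (inv_mem h2)
  · intro y hy
    have hyS := Yg_le S D hy
    rw [mem_Yg_iff S D y hyS] at hy
    have hspec : ((D.e q₀ (-q₀) * (D.b i₂ j₂)⁻¹ : ↥(S : Subgroup G)) : G) ∈
        Subgroup.focalSubgroup (S : Subgroup G) := by
      rw [Subgroup.focalSubgroup_def]
      apply Subgroup.subset_closure
      refine ⟨(D.e q₀ (-q₀) * (D.b i₂ j₂)⁻¹ : ↥(S : Subgroup G)).2,
        ((D.e q₀ (-q₀) : ↥(S : Subgroup G)) : G), (D.e q₀ (-q₀)).2, x, ?_⟩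
      rw [commutatorElement_def]
      simp only [Subgroup.coe_mul, Subgroup.coe_inv]
      rw [← hw]
      group
    have hK : ∀ m : D.Z, ((D.e m (-m) : ↥(S : Subgroup G)) : G) ∈
        Subgroup.focalSubgroup (S : Subgroup G) := by
      intro m
      apply Subgroup.commutator_le_focalSubgroup (S : Subgroup G)
      rw [← Subgroup.map_subtype_commutator]
      refine Subgroup.mem_map.mpr ⟨D.e m (-m), ?_, rfl⟩
      rw [D.commutator_eq, D.mem_K_iff]
      exact ⟨m, rfl⟩
    rcases D.cases ⟨y, hyS⟩ with ⟨i, j, hij⟩ | ⟨i, j, hij⟩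
    · rw [hij, D.e_mem_Y] at hy
      have h4 : (⟨y, hyS⟩ : ↥(S : Subgroup G)) = D.e i (-i) := by
        rw [hij, D.e_inj]
        exact ⟨rfl, by linear_combination hy⟩
      have h5 : y = ((D.e i (-i) : ↥(S : Subgroup G)) : G) := congrArg Subtype.val h4
      rw [h5]
      exact hK i
    · rw [hij, D.b_mem_Y] at hy
      have h4 : (⟨y, hyS⟩ : ↥(S : Subgroup G)) =
          D.e (i - q₀ + j₂) (-(i - q₀ + j₂)) * (D.e q₀ (-q₀) * (D.b i₂ j₂)⁻¹) := by
        rw [hij, D.b_inv, D.e_b, D.e_b, D.b_inj]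
        constructor
        · ring
        · linear_combination hy + hij₂ + D.two_h
      have h5 : y = ((D.e (i - q₀ + j₂) (-(i - q₀ + j₂)) *
          (D.e q₀ (-q₀) * (D.b i₂ j₂)⁻¹) : ↥(S : Subgroup G)) : G) := congrArg Subtype.val h4
      rw [h5, Subgroup.coe_mul]
      exact mul_mem (hK _) hspec

/-- the kernel of the transfer into `S / Y`. -/
theorem exists_K (hfocal : Subgroup.focalSubgroup (S : Subgroup G) = Yg S D) :
    ∃ K : Subgroup G, K.Normal ∧ K.index = 2 ^ D.n ∧ K ⊓ (S : Subgroup G) = Yg S D := by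
  have : Fact (Nat.Prime 2) := ⟨Nat.prime_two⟩
  refine ⟨(Subgroup.transferFocal (S : Subgroup G)).ker, inferInstance, ?_, ?_⟩
  · rw [Subgroup.index_ker,
      MonoidHom.range_eq_top.mpr (Subgroup.transferFocal_surjective S), Subgroup.card_top,
      ← Subgroup.index_eq_card, Subgroup.focalSubgroupOf_def, hfocal, subgroupOf_Yg, index_Y]
  · rw [Subgroup.ker_transferFocal_inf_eq_focalSubgroup S, hfocal]

/-- `K` has no subgroup of index 2. -/
theorem no_index_two_Y (K : Subgroup G) (hKn : K.Normal) (hKidx : K.index = 2 ^ D.n)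
    (hKS : K ⊓ (S : Subgroup G) = Yg S D)
    (hex : ∀ c, D.par c = 0 → ∃ T : Subgroup G, T ≤ S ∧
      T.subgroupOf (S : Subgroup G) = D.Vd c ∧
      ∃ x ∈ Subgroup.normalizer (T : Set G), Odd (orderOf x) ∧
        x ∉ Subgroup.centralizer (T : Set G)) :
    ∀ L : Subgroup ↥K, L.index ≠ 2 := by
  intro L hL
  have hYK : Yg S D ≤ K := by rw [← hKS]; exact inf_le_left
  have hLn : L.Normal := Subgroup.normal_of_index_eq_two hL
  obtain ⟨q₀, hq₀⟩ := D.exists_q
  have hbK : ∀ i j : D.Z, i + j = D.h → ((D.b i j : ↥(S : Subgroup G)) : G) ∈ K :=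
    fun i j h => hYK ((coe_mem_Yg S D _).mpr ((D.b_mem_Y i j).mpr h))
  have heK : ∀ m : D.Z, ((D.e m (-m) : ↥(S : Subgroup G)) : G) ∈ K :=
    fun m => hYK ((coe_mem_Yg S D _).mpr ((D.e_mem_Y _ _).mpr (by ring)))
  have hoddK : ∀ x : G, Odd (orderOf x) → x ∈ K := by
    intro x hodd
    exact mem_of_coprime_index K x (orderOf x) (pow_orderOf_eq_one x) (by
      rw [hKidx]
      exact Nat.Coprime.pow_right _ (Nat.coprime_two_right.mpr hodd))
  have claim : ∀ (i j : D.Z) (hij : i + j = D.h), (⟨_, hbK i j hij⟩ : ↥K) ∈ L := by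
    intro i j hij
    have hc : D.par (i - j) = 0 := by
      have e1 : i - j = D.h - 2 * j := by linear_combination hij
      rw [e1, map_sub, D.par_h, (D.par_eq_zero_iff _).mpr ⟨j, rfl⟩, sub_zero]
    obtain ⟨T, hTS, hT, x, hx, hodd, hxc⟩ := hex (i - j) hc
    obtain ⟨i₂, j₂, hij₂, hwV, hw, ζ, hζ, hww⟩ :=
      Vd_triple S D T hTS (i - j) hc hT x hx hodd hxc q₀ hq₀
    have hxK := hoddK x hodd
    obtain ⟨uK, huK⟩ : ∃ uK : ↥K, (uK : G) = ((D.e q₀ (-q₀) : ↥(S : Subgroup G)) : G) :=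
      ⟨⟨_, heK q₀⟩, rfl⟩
    obtain ⟨wK, hwK⟩ : ∃ wK : ↥K, (wK : G) = ((D.b i₂ j₂ : ↥(S : Subgroup G)) : G) :=
      ⟨⟨_, hbK i₂ j₂ hij₂⟩, rfl⟩
    obtain ⟨xK, hxK'⟩ : ∃ xK : ↥K, (xK : G) = x := ⟨⟨x, hxK⟩, rfl⟩
    have huu : (D.e q₀ (-q₀) : ↥(S : Subgroup G)) * D.e q₀ (-q₀) = D.e D.h D.h := by
      rw [D.e_e, D.e_inj]
      constructor
      · linear_combination hq₀
      · linear_combination -hq₀ - D.two_h
    have hζL : ∃ ζK : ↥K, (ζK : G) = (ζ : G) ∧ ζK ∈ L := by
      rcases hζ with h | h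
      · exact ⟨1, by rw [h]; rfl, L.one_mem⟩
      · refine ⟨uK * uK, ?_, Subgroup.mul_self_mem_of_index_two hL uK⟩
        rw [Subgroup.coe_mul, huK, h, ← huu, Subgroup.coe_mul]
    obtain ⟨ζK, hζK, hζKL⟩ := hζL
    have rel1 : xK * uK * xK⁻¹ = wK := by
      apply Subtype.ext
      rw [Subgroup.coe_mul, Subgroup.coe_mul, Subgroup.coe_inv, hxK', huK, hwK]
      exact hw
    have rel2 : xK * wK * xK⁻¹ = uK * wK * ζK := by
      apply Subtype.ext
      rw [Subgroup.coe_mul, Subgroup.coe_mul, Subgroup.coe_inv, Subgroup.coe_mul, Subgroup.coe_mul,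
        hxK', huK, hwK, hζK]
      exact hww
    have huL : uK ∈ L := by
      by_contra hu
      have hw_notL : wK ∉ L := by
        intro h
        apply hu
        have h1 := hLn.conj_mem _ h xK⁻¹
        have e : xK⁻¹ * wK * xK⁻¹⁻¹ = uK := by rw [← rel1]; group
        rwa [e] at h1
      have h1 : uK * wK ∈ L := (Subgroup.mul_mem_iff_of_index_two hL).mpr (iff_of_false hu hw_notL)
      have h2 : uK * wK * ζK ∈ L := L.mul_mem h1 hζKL
      rw [← rel2] at h2
      apply hw_notL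
      have h3 := hLn.conj_mem _ h2 xK⁻¹
      have e : xK⁻¹ * (xK * wK * xK⁻¹) * xK⁻¹⁻¹ = wK := by group
      rwa [e] at h3
    have hwL : wK ∈ L := by
      rw [← rel1]
      exact hLn.conj_mem _ huL xK
    -- the element `e m (-m)` with `m = i - i₂`
    have h4m : 2 * (2 * (i - i₂)) = 0 := by
      linear_combination -hwV + 2 * hij - 2 * hij₂
    have heL : ∃ eK : ↥K, (eK : G) = ((D.e (i - i₂) (-(i - i₂)) : ↥(S : Subgroup G)) : G) ∧
        eK ∈ L := by
      rcases (D.two_mul_eq_zero_iff _).mp h4m with h | h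
      · rcases (D.two_mul_eq_zero_iff _).mp h with h' | h'
        · refine ⟨1, ?_, L.one_mem⟩
          rw [h', neg_zero, D.e_zero]
          rfl
        · refine ⟨uK * uK, ?_, Subgroup.mul_self_mem_of_index_two hL uK⟩
          rw [Subgroup.coe_mul, huK, ← Subgroup.coe_mul, huu, h', D.neg_h]
      · have h2 : 2 * (i - i₂ - q₀) = 0 := by linear_combination h - hq₀
        rcases (D.two_mul_eq_zero_iff _).mp h2 with h' | h'
        · refine ⟨uK, ?_, huL⟩
          have e1 : i - i₂ = q₀ := by linear_combination h'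
          rw [huK, e1]
        · refine ⟨uK * uK * uK, ?_, L.mul_mem (Subgroup.mul_self_mem_of_index_two hL uK) huL⟩
          have e3 : (D.e (i - i₂) (-(i - i₂)) : ↥(S : Subgroup G)) =
              D.e q₀ (-q₀) * D.e q₀ (-q₀) * D.e q₀ (-q₀) := by
            rw [D.e_e, D.e_e, D.e_inj]
            constructor
            · linear_combination h' - hq₀
            · linear_combination -h' + hq₀
          rw [Subgroup.coe_mul, Subgroup.coe_mul, huK, ← Subgroup.coe_mul, ← Subgroup.coe_mul,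
            ← e3]
    obtain ⟨eK, heK', heKL⟩ := heL
    have e : (⟨_, hbK i j hij⟩ : ↥K) = eK * wK := by
      apply Subtype.ext
      have e0 : (D.b i j : ↥(S : Subgroup G)) = D.e (i - i₂) (-(i - i₂)) * D.b i₂ j₂ := by
        rw [D.e_b, D.b_inj]
        constructor
        · ring
        · linear_combination hij - hij₂
      rw [Subgroup.coe_mul, heK', hwK, ← Subgroup.coe_mul, ← e0]
    rw [e]
    exact L.mul_mem heKL hwL
  apply not_le_of_index_eq S K (Yg S D) hYK (Yg_le S D)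
    (by rw [hKidx, relIndex_Yg]) L hL
  rintro ⟨y, hyK⟩ hy
  rw [Subgroup.mem_subgroupOf] at hy
  have hyS : y ∈ (S : Subgroup G) := Yg_le S D hy
  rw [mem_Yg_iff S D y hyS] at hy
  rcases D.cases ⟨y, hyS⟩ with ⟨i, j, hij⟩ | ⟨i, j, hij⟩
  · rw [hij, D.e_mem_Y] at hy
    have h1 : D.h + i + -i = D.h := by ring
    have h2 : (0 : D.Z) + D.h = D.h := by ring
    have h3 := L.mul_mem (claim (D.h + i) (-i) h1) (claim 0 D.h h2)
    have e : (⟨y, hyK⟩ : ↥K) = ⟨_, hbK (D.h + i) (-i) h1⟩ * ⟨_, hbK 0 D.h h2⟩ := by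
      apply Subtype.ext
      rw [Subgroup.coe_mul]
      show y = ((D.b (D.h + i) (-i) : ↥(S : Subgroup G)) : G) *
        ((D.b 0 D.h : ↥(S : Subgroup G)) : G)
      rw [← Subgroup.coe_mul, D.b_b]
      have h4 : (⟨y, hyS⟩ : ↥(S : Subgroup G)) = D.e (D.h + i + D.h) (-i + 0) := by
        rw [hij, D.e_inj]
        constructor
        · linear_combination -D.two_h
        · linear_combination hy
      exact congrArg Subtype.val h4
    rw [e]
    exact h3
  · rw [hij, D.b_mem_Y] at hy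
    have e : (⟨y, hyK⟩ : ↥K) = ⟨_, hbK i j hy⟩ := by
      apply Subtype.ext
      have h5 : y = ((D.b i j : ↥(S : Subgroup G)) : G) := congrArg Subtype.val hij
      exact h5
    rw [e]
    exact claim i j hy

end Cfsg.Agent.helper6.WrFus
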