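import Cfsg.Statements.S1210
import Mathlib
import Cfsg.Agent.Lib_helper6_WrFus6
-- import your own Cfsg.Agent.* helpers here

set_option autoImplicit false
open Cfsg

namespace Cfsg.Agent.S1210

/-- Let G be a finite group whose Sylow 2-subgroup S is wreathed of order 2^(2n+1), U the commutative subgroup of index 2 in S, Q a quaternion subgroup of order 8 of S and V = Q Z(S). If |N_G(U) : C_G(U)| = 2 and |N_G(V) : V C_G(V)| = 6, then G has a normal subgroup K of index 2^n whose Sylow 2-subgroups are generalized quaternion and which has no subgroup of index 2; every subgroup of Z(S) is weakly closed in S; and G has exactly two classes of involutions. -/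
theorem result {G : Type*} [Group G] [Finite G] (S : Sylow 2 G) (hS : Cfsg.IsWreathed (S : Subgroup G)) (n : ℕ) (hn : Nat.card S = 2 ^ (2 * n + 1)) (U : Subgroup G) (hUS : U ≤ S) (hUab : IsMulCommutative U) (hUcard : Nat.card U = 2 ^ (2 * n)) (Q : Subgroup G) (hQS : Q ≤ S) (eQ : Q ≃* QuaternionGroup 2) (h₁ : (Subgroup.centralizer (U : Set G)).relIndex (Subgroup.normalizer (U : Set G)) = 2) (h₂ : ((Q ⊔ ((Subgroup.center (S : Subgroup G)).map (S : Subgroup G).subtype)) ⊔ Subgroup.centralizer ((Q ⊔ ((Subgroup.center (S : Subgroup G)).map (S : Subgroup G).subtype) : Subgroup G) : Set G)).relIndex (Subgroup.normalizer ((Q ⊔ ((Subgroup.center (S : Subgroup G)).map (S : Subgroup G).subtype) : Subgroup G) : Set G)) = 6) : (∃ K : Subgroup G, K.Normal ∧ K.index = 2 ^ n ∧ (∀ P : Sylow 2 ↥K, ∃ m : ℕ, 1 ≤ m ∧ Nonempty ((P : Subgroup ↥K) ≃* QuaternionGroup (2 ^ m))) ∧ (∀ H : Subgroup ↥K, H.index ≠ 2)) ∧ (∀ Z₀ : Subgroup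 G, Z₀ ≤ ((Subgroup.center (S : Subgroup G)).map (S : Subgroup G).subtype) → Cfsg.IsWeaklyClosed Z₀ (S : Subgroup G)) ∧ Nat.card {C : ConjClasses G // ∃ t : G, orderOf t = 2 ∧ ConjClasses.mk t = C} = 2 := by
  have : Fact (Nat.Prime 2) := ⟨Nat.prime_two⟩
  obtain ⟨D⟩ := Cfsg.Agent.helper6.Wr.nonempty_data hS
  obtain ⟨hn', hU⟩ := Cfsg.Agent.helper6.WrFus.subgroupOf_eq_U S D n hn U hUS hUab hUcard
  have hU' : ∀ g ∈ Subgroup.normalizer (U : Set G), Odd (orderOf g) →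
      g ∈ Subgroup.centralizer (U : Set G) := fun g hg ho =>
    Cfsg.Agent.helper6.QDFus.odd_centralizes U 1 (by rw [h₁, pow_one]) g hg ho
  obtain ⟨i, k, l, hi, hkl, hV⟩ := Cfsg.Agent.helper6.WrFus.V_coords S D Q hQS eQ
  have hVS : Q ⊔ Cfsg.Agent.helper6.WrFus.Zg S ≤ S :=
    sup_le hQS (Cfsg.Agent.helper6.WrFus.Zg_le S)
  have hc₀ := Cfsg.Agent.helper6.WrFus.par_sub_of_add S D hkl
  have hV3 := Cfsg.Agent.helper6.WrFus.exists_odd_of_six
    (Q ⊔ Cfsg.Agent.helper6.WrFus.Zg S) h₂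
  have hdich : Cfsg.Agent.helper6.WrFus.Dich S D := by
    intro T hT
    rcases Cfsg.Agent.helper6.WrFus.gold_local_cases S D T hT with h | h | ⟨c, hc, h⟩
    · exact Or.inl h
    · left
      have hTU : T = U := Cfsg.Agent.helper6.WrFus.eq_of_subgroupOf_eq S hT.1 hUS (by rw [h, hU])
      rw [hTU]
      exact hU'
    · exact Or.inr ⟨c, hc, h⟩
  have hex : ∀ c, D.par c = 0 → ∃ T : Subgroup G, T ≤ S ∧
      T.subgroupOf (S : Subgroup G) = D.Vd c ∧
      ∃ x ∈ Subgroup.normalizer (T : Set G), Odd (orderOf x) ∧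
        x ∉ Subgroup.centralizer (T : Set G) := by
    intro c hc
    have hsub : ((D.Vd c).map (S : Subgroup G).subtype).subgroupOf (S : Subgroup G) = D.Vd c :=
      Subgroup.comap_map_eq_self_of_injective (S : Subgroup G).subtype_injective _
    exact ⟨(D.Vd c).map (S : Subgroup G).subtype, Subgroup.map_subtype_le _, hsub,
      Cfsg.Agent.helper6.WrFus.exists_odd_Vd S D _ hVS (k - l) hc₀ hV hV3 _
        (Subgroup.map_subtype_le _) c hc hsub⟩
  obtain ⟨q₀, hq₀⟩ := D.exists_q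
  obtain ⟨x, hx, hodd, hxc⟩ := hV3
  obtain ⟨i₂, j₂, hij₂, -, hw, -⟩ := Cfsg.Agent.helper6.WrFus.Vd_triple S D _ hVS (k - l) hc₀ hV
    x hx hodd hxc q₀ hq₀
  have hfocal := Cfsg.Agent.helper6.WrFus.focal_eq S D hdich x q₀ i₂ j₂ hq₀ hij₂ hw
  obtain ⟨K, hKn, hKidx, hKS⟩ := Cfsg.Agent.helper6.WrFus.exists_K S D hfocal
  have hYK : Cfsg.Agent.helper6.WrFus.Yg S D ≤ K := by rw [← hKS]; exact inf_le_left
  refine ⟨⟨K, hKn, by rw [hKidx, hn'], ?_,
    Cfsg.Agent.helper6.WrFus.no_index_two_Y S D K hKn hKidx hKS hex⟩, ?_, ?_⟩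
  · intro P
    obtain ⟨e1⟩ := Cfsg.Agent.helper6.FusInv.sylow_equiv_of_index_eq S K
      (Cfsg.Agent.helper6.WrFus.Yg S D) hYK (Cfsg.Agent.helper6.WrFus.Yg_le S D)
      (by rw [hKidx, Cfsg.Agent.helper6.WrFus.relIndex_Yg]) P
    obtain ⟨e2⟩ := Cfsg.Agent.helper6.WrFus.Yg_equiv S D
    obtain ⟨e3⟩ := D.Y_equiv
    exact ⟨D.n - 1, by have := D.hn; omega, ⟨(e1.trans e2).trans e3⟩⟩
  · intro Z₀ hZ₀
    refine ⟨hZ₀.trans (Cfsg.Agent.helper6.WrFus.Zg_le S), ?_⟩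
    intro g hg
    have hfix : ∀ ζ ∈ Z₀, g * ζ * g⁻¹ = ζ := by
      intro ζ hζ
      have h1 : g * ζ * g⁻¹ ∈ (S : Subgroup G) := hg (Subgroup.mem_map.mpr ⟨ζ, hζ, rfl⟩)
      have h2 := Cfsg.Agent.helper6.WrFus.center_fixed S D hdich ζ (hZ₀ hζ) g⁻¹
        (by rw [inv_inv]; exact h1)
      rwa [inv_inv] at h2
    ext y
    constructor
    · rintro ⟨ζ, hζ, rfl⟩
      show g * ζ * g⁻¹ ∈ Z₀
      rw [hfix ζ hζ]
      exact hζ
    · intro hy
      exact Subgroup.mem_map.mpr ⟨y, hy, hfix y hy⟩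
  · apply Cfsg.Agent.helper6.QDFus.card_classes_eq_two 2 _ _
      (Cfsg.Agent.helper6.WrFus.orderOf_zc S D) (Cfsg.Agent.helper6.WrFus.orderOf_z S D) ?_ ?_
    · intro hconj
      obtain ⟨g, hg⟩ := isConj_iff.mp hconj
      have h1 := Cfsg.Agent.helper6.WrFus.center_fixed S D hdich
        ((D.e D.h D.h : ↥(S : Subgroup G)) : G)
        ((Cfsg.Agent.helper6.WrFus.coe_mem_Zg S D (D.e D.h D.h)).mpr ⟨D.h, rfl⟩) g⁻¹
        (by rw [inv_inv, hg]; exact D.z.2)
      rw [inv_inv, hg] at h1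
      have h2 : D.z = D.e D.h D.h := Subtype.ext h1
      rw [← D.b_zero] at h2
      exact D.b_ne_e _ _ _ _ h2
    · intro t ht
      rcases Cfsg.Agent.helper6.WrFus.invol_cases S D t ht with h | h | h
      · exact Or.inl h
      · exact Or.inr (h.trans (Cfsg.Agent.helper6.WrFus.V_six S D Q hQS eQ h₂))
      · exact Or.inr h

end Cfsg.Agent.S1210
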