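import Cfsg.Statements.S1211
import Mathlib
import Cfsg.Agent.Lib_helper6_WrFus4
import Cfsg.Agent.Lib_helper6_QDFus3
-- import your own Cfsg.Agent.* helpers here

set_option autoImplicit false
open Cfsg

namespace Cfsg.Agent.S1211

/-- Let G be a finite group whose Sylow 2-subgroup S is wreathed of order 2^(2n+1), U the commutative subgroup of index 2 in S, Q a quaternion subgroup of order 8 of S and V = Q Z(S). If |N_G(U) : C_G(U)| = 6 and |N_G(V) : V C_G(V)| = 2, then G has a normal subgroup K of index 2 containing U (so U is a Sylow 2-subgroup of K) which has no subgroup of index 2, and G has exactly two classes of involutions. -/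
theorem result {G : Type*} [Group G] [Finite G] (S : Sylow 2 G) (hS : Cfsg.IsWreathed (S : Subgroup G)) (n : ℕ) (hn : Nat.card S = 2 ^ (2 * n + 1)) (U : Subgroup G) (hUS : U ≤ S) (hUab : IsMulCommutative U) (hUcard : Nat.card U = 2 ^ (2 * n)) (Q : Subgroup G) (hQS : Q ≤ S) (eQ : Q ≃* QuaternionGroup 2) (h₁ : (Subgroup.centralizer (U : Set G)).relIndex (Subgroup.normalizer (U : Set G)) = 6) (h₂ : ((Q ⊔ ((Subgroup.center (S : Subgroup G)).map (S : Subgroup G).subtype)) ⊔ Subgroup.centralizer ((Q ⊔ ((Subgroup.center (S : Subgroup G)).map (S : Subgroup G).subtype) : Subgroup G) : Set G)).relIndex (Subgroup.normalizer ((Q ⊔ ((Subgroup.center (S : Subgroup G)).map (S : Subgroup G).subtype) : Subgroup G) : Set G)) = 2) : (∃ K : Subgroup G, K.Normal ∧ K.index = 2 ∧ U ≤ K ∧ (∀ H : Subgroup ↥K, H.index ≠ 2)) ∧ Nat.card {C : ConjClasses G // ∃ t : G, orderOf t = 2 ∧ ConjClasses.mk t = C} = 2 := by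
  have : Fact (Nat.Prime 2) := ⟨Nat.prime_two⟩
  obtain ⟨D⟩ := Cfsg.Agent.helper6.Wr.nonempty_data hS
  obtain ⟨hn', hU⟩ := Cfsg.Agent.helper6.WrFus.subgroupOf_eq_U S D n hn U hUS hUab hUcard
  obtain ⟨i, k, l, hi, hkl, hV⟩ := Cfsg.Agent.helper6.WrFus.V_coords S D Q hQS eQ
  have hVS : Q ⊔ Cfsg.Agent.helper6.WrFus.Zg S ≤ S :=
    sup_le hQS (Cfsg.Agent.helper6.WrFus.Zg_le S)
  have hV' : ∀ g ∈ Subgroup.normalizer ((Q ⊔ Cfsg.Agent.helper6.WrFus.Zg S : Subgroup G) : Set G),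
      Odd (orderOf g) →
      g ∈ Subgroup.centralizer ((Q ⊔ Cfsg.Agent.helper6.WrFus.Zg S : Subgroup G) : Set G) :=
    fun g hg ho => Cfsg.Agent.helper6.GoldFus.odd_centralizes_of_sup_two _
      (Cfsg.Agent.helper6.WrFus.two_group_of_le S _ hVS) h₂ g hg ho
  have hfus := Cfsg.Agent.helper6.WrFus.fusion_U S D U hUS hU _ hVS (k - l)
    (Cfsg.Agent.helper6.WrFus.par_sub_of_add S D hkl) hV hV'
  have hidx := Cfsg.Agent.helper6.WrFus.relIndex_U S D U hU
  obtain ⟨K, hKn, hK2, hKS⟩ :=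
    Cfsg.Agent.helper6.FusInv.exists_index_two_of_fusion S U hidx hfus
  have hUK : U ≤ K := fun a ha => (hKS a (hUS ha)).mpr ha
  obtain ⟨g, hg, hrel, hconj⟩ := Cfsg.Agent.helper6.WrFus.U_six S D U hUS hU h₁
  refine ⟨⟨K, hKn, hK2, hUK, ?_⟩, ?_⟩
  · exact Cfsg.Agent.helper6.WrFus.no_index_two_of_triple S K hK2 U hUK hidx hUS g hg hrel
  · apply Cfsg.Agent.helper6.QDFus.card_classes_eq_two 2 _ _
      (Cfsg.Agent.helper6.WrFus.orderOf_zc S D) (Cfsg.Agent.helper6.WrFus.orderOf_z S D) ?_ ?_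
    · apply Cfsg.Agent.helper6.QDFus.not_isConj_of_K K hKn
      · apply hUK
        rw [Cfsg.Agent.helper6.WrFus.mem_U_iff_coe S D U hU]
        exact D.e_mem_U _ _
      · rw [hKS _ (D.z).2, Cfsg.Agent.helper6.WrFus.mem_U_iff_coe S D U hU]
        exact D.z_not_mem_U
    · intro t ht
      rcases Cfsg.Agent.helper6.WrFus.invol_cases S D t ht with h | h | h
      · exact Or.inl h
      · exact Or.inl (h.trans hconj)
      · exact Or.inr h

end Cfsg.Agent.S1211
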