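import Cfsg.Statements.S1212
import Mathlib
import Cfsg.Agent.Lib_helper6_WrGold
-- import your own Cfsg.Agent.* helpers here

set_option autoImplicit false
open Cfsg

namespace Cfsg.Agent.S1212

/-- Let G be a finite group whose Sylow 2-subgroup S is wreathed of order 2^(2n+1), U the commutative subgroup of index 2 in S, Q a quaternion subgroup of order 8 of S and V = Q Z(S). If |N_G(U) : C_G(U)| = 2 and |N_G(V) : V C_G(V)| = 2, then G has a normal 2-complement and exactly three conjugacy classes of involutions. -/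
theorem result {G : Type*} [Group G] [Finite G] (S : Sylow 2 G) (hS : Cfsg.IsWreathed (S : Subgroup G)) (n : ℕ) (hn : Nat.card S = 2 ^ (2 * n + 1)) (U : Subgroup G) (hUS : U ≤ S) (hUab : IsMulCommutative U) (hUcard : Nat.card U = 2 ^ (2 * n)) (Q : Subgroup G) (hQS : Q ≤ S) (eQ : Q ≃* QuaternionGroup 2) (h₁ : (Subgroup.centralizer (U : Set G)).relIndex (Subgroup.normalizer (U : Set G)) = 2) (h₂ : ((Q ⊔ ((Subgroup.center (S : Subgroup G)).map (S : Subgroup G).subtype)) ⊔ Subgroup.centralizer ((Q ⊔ ((Subgroup.center (S : Subgroup G)).map (S : Subgroup G).subtype) : Subgroup G) : Set G)).relIndex (Subgroup.normalizer ((Q ⊔ ((Subgroup.center (S : Subgroup G)).map (S : Subgroup G).subtype) : Subgroup G) : Set G)) = 2) : Cfsg.HasNormalPComplement 2 G ∧ Nat.card {C : ConjClasses G // ∃ t : G, orderOf t = 2 ∧ ConjClasses.mk t = C} = 3 := by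
  have : Fact (Nat.Prime 2) := ⟨Nat.prime_two⟩
  obtain ⟨D⟩ := Cfsg.Agent.helper6.Wr.nonempty_data hS
  obtain ⟨hn', hU⟩ := Cfsg.Agent.helper6.WrFus.subgroupOf_eq_U S D n hn U hUS hUab hUcard
  have hU' : ∀ g ∈ Subgroup.normalizer (U : Set G), Odd (orderOf g) →
      g ∈ Subgroup.centralizer (U : Set G) := fun g hg ho =>
    Cfsg.Agent.helper6.QDFus.odd_centralizes U 1 (by rw [h₁, pow_one]) g hg ho
  obtain ⟨i, k, l, hi, hkl, hV⟩ := Cfsg.Agent.helper6.WrFus.V_coords S D Q hQS eQ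
  have hVS : Q ⊔ Cfsg.Agent.helper6.WrFus.Zg S ≤ S :=
    sup_le hQS (Cfsg.Agent.helper6.WrFus.Zg_le S)
  have hV' : ∀ g ∈ Subgroup.normalizer ((Q ⊔ Cfsg.Agent.helper6.WrFus.Zg S : Subgroup G) : Set G),
      Odd (orderOf g) →
      g ∈ Subgroup.centralizer ((Q ⊔ Cfsg.Agent.helper6.WrFus.Zg S : Subgroup G) : Set G) :=
    fun g hg ho => Cfsg.Agent.helper6.GoldFus.odd_centralizes_of_sup_two _
      (Cfsg.Agent.helper6.WrFus.two_group_of_le S _ hVS) h₂ g hg ho
  have hloc : ∀ H ∈ Cfsg.Agent.helper9.GoldFam 2 (S : Subgroup G),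
      ∀ g ∈ Subgroup.normalizer (H : Set G), Nat.Coprime (orderOf g) 2 →
      g ∈ Subgroup.centralizer (H : Set G) := by
    intro H hH g hg hcop
    have hodd : Odd (orderOf g) := Nat.coprime_two_right.mp hcop
    rcases Cfsg.Agent.helper6.WrFus.gold_local_cases S D H hH with h | h | ⟨c, hc, h⟩
    · exact h g hg hodd
    · have hHU : H = U := Cfsg.Agent.helper6.WrFus.eq_of_subgroupOf_eq S hH.1 hUS (by rw [h, hU])
      rw [hHU] at hg ⊢
      exact hU' g hg hodd
    · exact Cfsg.Agent.helper6.WrFus.Vd_odd S D _ hVS (k - l)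
        (Cfsg.Agent.helper6.WrFus.par_sub_of_add S D hkl) hV hV' H hH.1 c hc h g hg hodd
  have hF : Cfsg.Agent.lead.FrobCond 2 G := Cfsg.Agent.helper6.GoldFus.gold_frobCond S hloc
  refine ⟨⟨S, _, (Cfsg.Agent.S0071.complement_of_frobCond hF S).1,
    (Cfsg.Agent.S0071.complement_of_frobCond hF S).2⟩, ?_⟩
  apply Cfsg.Agent.helper6.WrFus.card_classes_eq_three 2 _ _ _
    (Cfsg.Agent.helper6.WrFus.orderOf_zc S D) (Cfsg.Agent.helper6.WrFus.orderOf_a S D)
    (Cfsg.Agent.helper6.WrFus.orderOf_z S D) ?_ ?_ ?_ (Cfsg.Agent.helper6.WrFus.invol_cases S D)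
  · exact Cfsg.Agent.helper6.WrFus.not_isConj_of_frob S hF _ _
      (Cfsg.Agent.helper6.WrFus.not_isConj_zc_a S D)
  · exact Cfsg.Agent.helper6.WrFus.not_isConj_of_frob S hF _ _
      (Cfsg.Agent.helper6.WrFus.not_isConj_zc_z S D)
  · exact Cfsg.Agent.helper6.WrFus.not_isConj_of_frob S hF _ _
      (Cfsg.Agent.helper6.WrFus.not_isConj_a_z S D)

end Cfsg.Agent.S1212
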