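import Mathlib
import Cfsg.Agent.Lib_helper6_QDCent
import Cfsg.Agent.Lib_helper6_WrIdx2
import Cfsg.Agent.Lib_helper6_WrQ
import Cfsg.Agent.S1208
import Cfsg.Agent.S1209
import Cfsg.Agent.S1210
import Cfsg.Agent.S1211
import Cfsg.Agent.S1212

set_option autoImplicit false
set_option linter.unusedSectionVars false
set_option linter.unusedVariables false

namespace Cfsg.Agent.helper6.WrCent

open Cfsg Cfsg.Agent.helper6.Wr Cfsg.Agent.helper6.WrFus Cfsg.Agent.helper6.CentTr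
open Cfsg.Agent.helper6.QDCent

variable {G : Type*} [Group G] [Finite G] (S : Sylow 2 G)

/-- without subgroups of index 2 both local indices are 6. -/
theorem indices_six_wr (hS : Cfsg.IsWreathed (S : Subgroup G)) (n : ℕ)
    (hn : Nat.card S = 2 ^ (2 * n + 1))
    (hG : ∀ H : Subgroup G, H.index ≠ 2) (U : Subgroup G) (hUS : U ≤ S)
    (hUab : IsMulCommutative U) (hUcard : Nat.card U = 2 ^ (2 * n))
    (Q : Subgroup G) (hQS : Q ≤ S) (eQ : Q ≃* QuaternionGroup 2) :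
    (Subgroup.centralizer (U : Set G)).relIndex (Subgroup.normalizer (U : Set G)) = 6 ∧
    ((Q ⊔ Zg S) ⊔ Subgroup.centralizer ((Q ⊔ Zg S : Subgroup G) : Set G)).relIndex
      (Subgroup.normalizer ((Q ⊔ Zg S : Subgroup G) : Set G)) = 6 := by
  have hn1 : 1 ≤ n := by
    obtain ⟨n', hn', hcard, -⟩ := hS
    rw [hn] at hcard
    have h2 := Nat.pow_right_injective (le_refl 2) hcard
    omega
  obtain ⟨h1, h2⟩ := Cfsg.Agent.S1208.result S hS n hn U hUS hUab hUcard Q hQS eQ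
  rcases h1 with h1 | h1
  · rcases h2 with h2 | h2
    · exfalso
      obtain ⟨hc, -⟩ := Cfsg.Agent.S1212.result S hS n hn U hUS hUab hUcard Q hQS eQ h1 h2
      obtain ⟨H, hH⟩ := exists_index_two_of_complement S (2 * n + 1) (by omega) hn hc
      exact hG H hH
    · exfalso
      obtain ⟨⟨K, hKn, hK, -⟩, -⟩ :=
        Cfsg.Agent.S1210.result S hS n hn U hUS hUab hUcard Q hQS eQ h1 h2
      have := hKn
      obtain ⟨H, hH⟩ := exists_index_two_of_normal_pow K n hn1 hK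
      exact hG H hH
  · rcases h2 with h2 | h2
    · exfalso
      obtain ⟨⟨K, -, hK, -⟩, -⟩ :=
        Cfsg.Agent.S1211.result S hS n hn U hUS hUab hUcard Q hQS eQ h1 h2
      exact hG K hK
    · exact ⟨h1, h2⟩

variable (D : Data ↥(S : Subgroup G))

/-- `N_G(V) ≤ C_G(z)` for the central involution `z`. -/
theorem normalizer_V_le (V : Subgroup G) (hVS : V ≤ S) (c : D.Z)
    (hV : V.subgroupOf (S : Subgroup G) = D.Vd c) :
    Subgroup.normalizer (V : Set G) ≤
      Subgroup.centralizer ({((D.e D.h D.h : ↥(S : Subgroup G)) : G)} : Set G) := by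
  intro g hg
  rw [mem_centralizer_singleton]
  obtain ⟨x, hx⟩ : ∃ x : G, x = ((D.e D.h D.h : ↥(S : Subgroup G)) : G) := ⟨_, rfl⟩
  rw [← hx]
  have hxV : x ∈ V := by
    rw [hx, mem_V_iff_coe S D V c hV, D.e_mem_Vd]; ring
  have hx2 : orderOf x = 2 := by rw [hx]; exact orderOf_zc S D
  have hxc : ∀ s ∈ (S : Subgroup G), x * s = s * x := by
    intro s hs
    have h1 := D.e_diag_central D.h ⟨s, hs⟩
    have h2 := congrArg Subtype.val h1
    rw [hx]
    exact h2
  have hwV : g * x * g⁻¹ ∈ V := (Subgroup.mem_normalizer_iff.mp hg x).mp hxV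
  have hwS : g * x * g⁻¹ ∈ (S : Subgroup G) := hVS hwV
  have hwc : ∀ t ∈ D.Vd c, t * (⟨g * x * g⁻¹, hwS⟩ : ↥(S : Subgroup G)) = ⟨g * x * g⁻¹, hwS⟩ * t := by
    intro t ht
    have htV : (t : G) ∈ V := (mem_V_iff_coe S D V c hV t).mpr ht
    have h1 : g⁻¹ * (t : G) * g ∈ V := by
      rw [Subgroup.mem_normalizer_iff.mp hg (g⁻¹ * (t : G) * g)]
      have e1 : g * (g⁻¹ * (t : G) * g) * g⁻¹ = (t : G) := by group
      rw [e1]; exact htV
    have h2 := hxc _ (hVS h1)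
    apply Subtype.ext
    rw [Subgroup.coe_mul, Subgroup.coe_mul]
    show (t : G) * (g * x * g⁻¹) = g * x * g⁻¹ * (t : G)
    calc (t : G) * (g * x * g⁻¹) = g * ((g⁻¹ * (t : G) * g) * x) * g⁻¹ := by group
      _ = g * (x * (g⁻¹ * (t : G) * g)) * g⁻¹ := by rw [h2]
      _ = g * x * g⁻¹ * (t : G) := by group
  obtain ⟨m, hm⟩ := D.centralizer_Vd_diag c _ hwc
  have hw2 : orderOf (⟨g * x * g⁻¹, hwS⟩ : ↥(S : Subgroup G)) = 2 := by
    rw [← Subgroup.orderOf_coe]
    show orderOf (g * x * g⁻¹) = 2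
    rw [Cfsg.Agent.helper6.QDFus.orderOf_conj', hx2]
  rw [hm, D.orderOf_e_eq_two_iff] at hw2
  have hmh : m = D.h := by
    rcases hw2 with ⟨h1, h2⟩ | ⟨h1, h2⟩ | ⟨h1, h2⟩
    · exact absurd (h1.symm.trans h2) D.h_ne
    · exact absurd (h2.symm.trans h1) D.h_ne
    · exact h1
  have h3 : g * x * g⁻¹ = x := by
    have h4 : g * x * g⁻¹ = ((D.e m m : ↥(S : Subgroup G)) : G) := congrArg Subtype.val hm
    rw [h4, hmh, hx]
  calc x * g = g * x * g⁻¹ * g := by rw [h3]
    _ = g * x := by group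

omit D in
/-- the centralizer of the central involution of a wreathed Sylow 2-subgroup. -/
theorem wr_central (hS : Cfsg.IsWreathed (S : Subgroup G))
    (hG : ∀ H : Subgroup G, H.index ≠ 2) (x : G) (hx : orderOf x = 2)
    (hxS : x ∈ (S : Subgroup G)) (hxc : ∀ s ∈ (S : Subgroup G), s * x = x * s) :
    Concl G (Nat.card S) x := by
  have : Fact (Nat.Prime 2) := ⟨Nat.prime_two⟩
  obtain ⟨D⟩ := Cfsg.Agent.helper6.Wr.nonempty_data hS
  obtain ⟨n, hnD⟩ : ∃ n : ℕ, n = D.n := ⟨_, rfl⟩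
  have hn : Nat.card (S : Subgroup G) = 2 ^ (2 * n + 1) := by rw [hnD]; exact D.card
  have hxe : x = ((D.e D.h D.h : ↥(S : Subgroup G)) : G) := by
    have h1 : (⟨x, hxS⟩ : ↥(S : Subgroup G)) ∈ Subgroup.center ↥(S : Subgroup G) := by
      rw [Subgroup.mem_center_iff]
      intro s
      apply Subtype.ext
      rw [Subgroup.coe_mul, Subgroup.coe_mul]
      exact hxc s s.2
    obtain ⟨k, hk⟩ := (D.mem_center_iff' _).mp h1
    have h2 : orderOf (⟨x, hxS⟩ : ↥(S : Subgroup G)) = 2 := by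
      rw [← Subgroup.orderOf_coe]; exact hx
    rw [hk, D.orderOf_e_eq_two_iff] at h2
    have hkh : k = D.h := by
      rcases h2 with ⟨a, b⟩ | ⟨a, b⟩ | ⟨a, b⟩
      · exact absurd (a.symm.trans b) D.h_ne
      · exact absurd (b.symm.trans a) D.h_ne
      · exact a
    have h3 : x = ((D.e k k : ↥(S : Subgroup G)) : G) := congrArg Subtype.val hk
    rw [h3, hkh]
  obtain ⟨U, hUdef⟩ : ∃ U : Subgroup G, U = D.U.map (S : Subgroup G).subtype := ⟨_, rfl⟩
  have hUS : U ≤ S := by rw [hUdef]; exact Subgroup.map_subtype_le _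
  have eU : D.U ≃* U := by
    rw [hUdef]; exact D.U.equivMapOfInjective _ (S : Subgroup G).subtype_injective
  have hUab : IsMulCommutative U := ⟨⟨fun a b => by
    apply eU.symm.injective
    rw [map_mul, map_mul]
    exact Subtype.ext (D.U_comm _ (eU.symm a).2 _ (eU.symm b).2)⟩⟩
  have hUcard : Nat.card U = 2 ^ (2 * n) := by
    rw [← Nat.card_congr eU.toEquiv, D.card_U, hnD]
  obtain ⟨Q₀, ⟨eQ₀⟩, -⟩ := D.exists_quat_Vd 0 (map_zero _)
  obtain ⟨Q, hQdef⟩ : ∃ Q : Subgroup G, Q = Q₀.map (S : Subgroup G).subtype := ⟨_, rfl⟩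
  have hQS : Q ≤ S := by rw [hQdef]; exact Subgroup.map_subtype_le _
  have eQ : Q ≃* QuaternionGroup 2 := by
    rw [hQdef]
    exact (Q₀.equivMapOfInjective _ (S : Subgroup G).subtype_injective).symm.trans eQ₀
  obtain ⟨h₁, h₂⟩ := indices_six_wr S hS n hn hG U hUS hUab hUcard Q hQS eQ
  obtain ⟨i, k, l, hi, hkl, hV⟩ := V_coords S D Q hQS eQ
  have hVS : Q ⊔ Zg S ≤ S := sup_le hQS (Zg_le S)
  have hNV := normalizer_V_le S D (Q ⊔ Zg S) hVS _ hV
  obtain ⟨C, hCdef⟩ : ∃ C : Subgroup G, C = Subgroup.centralizer ({x} : Set G) := ⟨_, rfl⟩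
  rw [← hxe, ← hCdef] at hNV
  have hmemC : ∀ g : G, g ∈ C ↔ x * g = g * x := by
    intro g; rw [hCdef]; exact mem_centralizer_singleton
  have hSC : (S : Subgroup G) ≤ C := fun s hs => (hmemC s).mpr (hxc s hs).symm
  have hconcl : ∃ R : Sylow 2 ↥C, Nat.card R = Nat.card S ∧
      (∃ K : Subgroup ↥C, K.Normal ∧
        (∃ a : ℕ, K.index = 2 ^ a) ∧ (∀ H : Subgroup ↥K, H.index ≠ 2) ∧
        (∀ P : Sylow 2 ↥K, ∃ m : ℕ, 1 ≤ m ∧
          Nonempty ((P : Subgroup ↥K) ≃* QuaternionGroup (2 ^ m)))) ∧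
      (∀ Z₀ : Subgroup ↥C,
        Z₀ ≤ ((Subgroup.center (R : Subgroup ↥C)).map (R : Subgroup ↥C).subtype) →
        Cfsg.IsWeaklyClosed Z₀ (R : Subgroup ↥C)) := by
    obtain ⟨R, hRdef⟩ : ∃ R : Sylow 2 ↥C, R = S.subtype hSC := ⟨_, rfl⟩
    have hRcoe : (R : Subgroup ↥C) = (S : Subgroup G).subgroupOf C := by
      rw [hRdef]; exact Sylow.coe_subtype S hSC
    have eR : ↥(R : Subgroup ↥C) ≃* ↥(S : Subgroup G) :=
      (MulEquiv.subgroupCongr hRcoe).trans (Subgroup.subgroupOfEquivOfLe hSC)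
    have hR : Cfsg.IsWreathed ↥(R : Subgroup ↥C) := isWreathed_of_equiv eR.symm hS
    have hRcard : Nat.card (R : Subgroup ↥C) = 2 ^ (2 * n + 1) := by
      rw [Nat.card_congr eR.toEquiv, hn]
    have hUC : U ≤ C := hUS.trans hSC
    have hQC : Q ≤ C := hQS.trans hSC
    have hZC : Zg S ≤ C := (Zg_le S).trans hSC
    have hVC : Q ⊔ Zg S ≤ C := hVS.trans hSC
    have hU'R : U.subgroupOf C ≤ R := by
      rw [hRcoe]
      intro c hc
      rw [Subgroup.mem_subgroupOf] at hc ⊢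
      exact hUS hc
    have hQ'R : Q.subgroupOf C ≤ R := by
      rw [hRcoe]
      intro c hc
      rw [Subgroup.mem_subgroupOf] at hc ⊢
      exact hQS hc
    have eU' : U.subgroupOf C ≃* U := Subgroup.subgroupOfEquivOfLe hUC
    have hU'ab : IsMulCommutative (U.subgroupOf C) := ⟨⟨fun a b => by
      apply eU'.injective
      rw [map_mul, map_mul]
      exact hUab.is_comm.comm _ _⟩⟩
    have hU'card : Nat.card (U.subgroupOf C) = 2 ^ (2 * n) := by
      rw [Nat.card_congr eU'.toEquiv, hUcard]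
    have eQ' : Q.subgroupOf C ≃* QuaternionGroup 2 :=
      (Subgroup.subgroupOfEquivOfLe hQC).trans eQ
    have hZR : (Subgroup.center ↥(R : Subgroup ↥C)).map (R : Subgroup ↥C).subtype =
        (Zg S).subgroupOf C := by
      rw [hRcoe]
      exact map_center_subgroupOf C (S : Subgroup G) hSC
    have h₂' : ((Q.subgroupOf C ⊔ ((Subgroup.center (R : Subgroup ↥C)).map
          (R : Subgroup ↥C).subtype)) ⊔
        Subgroup.centralizer ((Q.subgroupOf C ⊔ ((Subgroup.center (R : Subgroup ↥C)).map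
          (R : Subgroup ↥C).subtype) : Subgroup ↥C) : Set ↥C)).relIndex
        (Subgroup.normalizer ((Q.subgroupOf C ⊔ ((Subgroup.center (R : Subgroup ↥C)).map
          (R : Subgroup ↥C).subtype) : Subgroup ↥C) : Set ↥C)) = 6 := by
      rw [hZR, ← Subgroup.subgroupOf_sup hQC hZC,
        relIndex_sup_centralizer_tr C (Q ⊔ Zg S) hVC hNV]
      exact h₂
    obtain ⟨hU2, -⟩ := Cfsg.Agent.S1208.result R hR n hRcard (U.subgroupOf C) hU'R hU'ab hU'card
      (Q.subgroupOf C) hQ'R eQ'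
    have h₁' : (Subgroup.centralizer ((U.subgroupOf C : Subgroup ↥C) : Set ↥C)).relIndex
        (Subgroup.normalizer ((U.subgroupOf C : Subgroup ↥C) : Set ↥C)) = 2 := by
      rcases hU2 with h | h
      · exact h
      · exfalso
        obtain ⟨-, hone⟩ := Cfsg.Agent.S1209.result R hR n hRcard (U.subgroupOf C) hU'R hU'ab
          hU'card (Q.subgroupOf C) hQ'R eQ' h h₂'
        obtain ⟨y, hy⟩ : ∃ y : G, y = ((D.e D.h 0 : ↥(S : Subgroup G)) : G) := ⟨_, rfl⟩
        have hyS : y ∈ (S : Subgroup G) := by rw [hy]; exact (D.e D.h 0).2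
        have hy2 : orderOf y = 2 := by rw [hy]; exact orderOf_a S D
        have hxC : x ∈ C := hSC hxS
        have hyC : y ∈ C := hSC hyS
        have ox : orderOf (⟨x, hxC⟩ : ↥C) = 2 := by rw [← Subgroup.orderOf_coe]; exact hx
        have oy : orderOf (⟨y, hyC⟩ : ↥C) = 2 := by rw [← Subgroup.orderOf_coe]; exact hy2
        have hc := isConj_of_card_classes_eq_one hone (⟨x, hxC⟩ : ↥C) ⟨y, hyC⟩ ox oy
        obtain ⟨c, hc⟩ := isConj_iff.mp hc
        have h3 : (c : G) * x * (c : G)⁻¹ = y := by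
          have h4 := congrArg Subtype.val hc
          simpa using h4
        have h4 : x * (c : G) = (c : G) * x := (hmemC _).mp c.2
        have h5 : x = y := by
          rw [← h3, ← h4]; group
        rw [hxe, hy] at h5
        have h6 := D.e_inj.mp (Subtype.ext h5)
        exact D.h_ne h6.2
    obtain ⟨⟨K, hKn, hKidx, hKP, hKH⟩, hW, -⟩ := Cfsg.Agent.S1210.result R hR n hRcard
      (U.subgroupOf C) hU'R hU'ab hU'card (Q.subgroupOf C) hQ'R eQ' h₁' h₂'
    exact ⟨R, Nat.card_congr eR.toEquiv, ⟨K, hKn, ⟨n, hKidx⟩, hKH, hKP⟩, hW⟩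
  rw [hCdef] at hconcl
  exact hconcl

omit D in
theorem wr_result (hS : Cfsg.IsWreathed (S : Subgroup G))
    (hG : ∀ H : Subgroup G, H.index ≠ 2) (x : G) (hx : orderOf x = 2) :
    Concl G (Nat.card S) x := by
  have : Fact (Nat.Prime 2) := ⟨Nat.prime_two⟩
  obtain ⟨D⟩ := Cfsg.Agent.helper6.Wr.nonempty_data hS
  obtain ⟨n, hnD⟩ : ∃ n : ℕ, n = D.n := ⟨_, rfl⟩
  have hn : Nat.card (S : Subgroup G) = 2 ^ (2 * n + 1) := by rw [hnD]; exact D.card
  obtain ⟨U, hUdef⟩ : ∃ U : Subgroup G, U = D.U.map (S : Subgroup G).subtype := ⟨_, rfl⟩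
  have hUS : U ≤ S := by rw [hUdef]; exact Subgroup.map_subtype_le _
  have eU : D.U ≃* U := by
    rw [hUdef]; exact D.U.equivMapOfInjective _ (S : Subgroup G).subtype_injective
  have hUab : IsMulCommutative U := ⟨⟨fun a b => by
    apply eU.symm.injective
    rw [map_mul, map_mul]
    exact Subtype.ext (D.U_comm _ (eU.symm a).2 _ (eU.symm b).2)⟩⟩
  have hUcard : Nat.card U = 2 ^ (2 * n) := by
    rw [← Nat.card_congr eU.toEquiv, D.card_U, hnD]
  obtain ⟨Q₀, ⟨eQ₀⟩, -⟩ := D.exists_quat_Vd 0 (map_zero _)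
  obtain ⟨Q, hQdef⟩ : ∃ Q : Subgroup G, Q = Q₀.map (S : Subgroup G).subtype := ⟨_, rfl⟩
  have hQS : Q ≤ S := by rw [hQdef]; exact Subgroup.map_subtype_le _
  have eQ : Q ≃* QuaternionGroup 2 := by
    rw [hQdef]
    exact (Q₀.equivMapOfInjective _ (S : Subgroup G).subtype_injective).symm.trans eQ₀
  obtain ⟨h₁, h₂⟩ := indices_six_wr S hS n hn hG U hUS hUab hUcard Q hQS eQ
  obtain ⟨hDn, hU⟩ := subgroupOf_eq_U S D n hn U hUS hUab hUcard
  obtain ⟨g, hg, hnorm, hAC⟩ := U_six S D U hUS hU h₁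
  have hAz := V_six S D Q hQS eQ h₂
  have hconj : IsConj x ((D.e D.h D.h : ↥(S : Subgroup G)) : G) := by
    rcases invol_cases S D x hx with h | h | h
    · exact h
    · exact h.trans hAC
    · exact h.trans (hAz.symm.trans hAC)
  have hz₀c : ∀ s ∈ (S : Subgroup G), s * ((D.e D.h D.h : ↥(S : Subgroup G)) : G) =
      ((D.e D.h D.h : ↥(S : Subgroup G)) : G) * s := by
    intro s hs
    have h1 := D.e_diag_central D.h ⟨s, hs⟩
    have h2 := congrArg Subtype.val h1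
    exact h2.symm
  apply concl_of_conj (fun _ => True) S x _ (D.e D.h D.h).2 hz₀c hconj
  intro S' ⟨e1⟩ hxS' hxc'
  exact wr_central S' (isWreathed_of_equiv e1 hS) hG x hx hxS' hxc'

end Cfsg.Agent.helper6.WrCent
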