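import Mathlib
import Cfsg.Agent.Lib_helper12_ZS5
import Cfsg.Agent.Lib_helper15_ZStar
import Cfsg.Agent.Lib_helper9_Cores
import Cfsg.Agent.Lib_helper1_Core

set_option autoImplicit false

/-!
helper6: if every cyclic subgroup of `Z(S)` (`S` a Sylow 2-subgroup) is weakly closed in `S`, then
`Z(S)` is central modulo the odd core (a consequence of Glauberman's Z*-theorem), and the group
factors as `O(G) C_G(Z(S))`.
-/

namespace Cfsg.Agent.helper6.ZCen

open Cfsg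

universe u

variable {G : Type u} [Group G] [Finite G]

/-- if all commutators `[u, g]` lie in a central 2-subgroup and `u` commutes with a Sylow 2-subgroup,
then `u` is central -/
theorem central_of_comm_central (S : Sylow 2 G) (u : G)
    (hS : ∀ s ∈ (S : Subgroup G), s * u = u * s)
    (W : Subgroup G) (hW : W ≤ Subgroup.center G) (hWp : IsPGroup 2 W)
    (hc : ∀ g : G, u * g * u⁻¹ * g⁻¹ ∈ W) : u ∈ Subgroup.center G := by
  have : Fact (Nat.Prime 2) := ⟨Nat.prime_two⟩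
  have hcen : ∀ g x : G, x * (u * g * u⁻¹ * g⁻¹) = (u * g * u⁻¹ * g⁻¹) * x := fun g x =>
    (Subgroup.mem_center_iff.mp (hW (hc g))) x
  let φ : G →* G := MonoidHom.mk' (fun g => u * g * u⁻¹ * g⁻¹) (by
    intro g h
    have h1 := hcen h g⁻¹
    calc u * (g * h) * u⁻¹ * (g * h)⁻¹
        = u * g * u⁻¹ * ((u * h * u⁻¹ * h⁻¹) * g⁻¹) := by group
      _ = u * g * u⁻¹ * (g⁻¹ * (u * h * u⁻¹ * h⁻¹)) := by rw [← h1]
      _ = u * g * u⁻¹ * g⁻¹ * (u * h * u⁻¹ * h⁻¹) := by group)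
  have hφ : ∀ g, φ g = u * g * u⁻¹ * g⁻¹ := fun g => rfl
  have hSker : (S : Subgroup G) ≤ φ.ker := by
    intro s hs
    rw [MonoidHom.mem_ker, hφ, ← hS s hs]
    group
  have hrange : φ.range ≤ W := by
    rintro _ ⟨g, rfl⟩
    exact hc g
  have hrp : IsPGroup 2 φ.range := hWp.to_le hrange
  obtain ⟨k, hk⟩ := IsPGroup.iff_card.mp hrp
  have hidx : φ.ker.index = 2 ^ k := by rw [Subgroup.index_ker, hk]
  have hdvd : φ.ker.index ∣ (S : Subgroup G).index := Subgroup.index_dvd_of_le hSker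
  have hnd : ¬ 2 ∣ (S : Subgroup G).index := S.not_dvd_index
  have hk0 : k = 0 := by
    by_contra hk0
    apply hnd
    refine dvd_trans ?_ hdvd
    rw [hidx]
    exact dvd_pow_self 2 hk0
  have htop : φ.ker = ⊤ := by
    rw [← Subgroup.index_eq_one, hidx, hk0, pow_zero]
  rw [Subgroup.mem_center_iff]
  intro g
  have h1 : g ∈ φ.ker := by rw [htop]; exact Subgroup.mem_top g
  rw [MonoidHom.mem_ker, hφ] at h1
  have h2 : u * g * u⁻¹ = g := mul_inv_eq_one.mp h1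
  exact (mul_inv_eq_iff_eq_mul.mp h2).symm

/-- the core-free case, by induction on the order of `u` -/
theorem center_sylow_le_center_aux (hO : Cfsg.pPrimeCore 2 G = ⊥) (S : Sylow 2 G)
    (hwc : ∀ u : G, u ∈ (S : Subgroup G) → (∀ s ∈ (S : Subgroup G), s * u = u * s) →
      ∀ g : G, g * u * g⁻¹ ∈ (S : Subgroup G) → g * u * g⁻¹ ∈ Subgroup.zpowers u) :
    ∀ n : ℕ, ∀ u : G, u ∈ (S : Subgroup G) → (∀ s ∈ (S : Subgroup G), s * u = u * s) →
      orderOf u = 2 ^ n → u ∈ Subgroup.center G := by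
  have : Fact (Nat.Prime 2) := ⟨Nat.prime_two⟩
  intro n
  induction n with
  | zero =>
    intro u _ _ ho
    rw [pow_zero, orderOf_eq_one_iff] at ho
    rw [ho]; exact Subgroup.one_mem _
  | succ n ih =>
    intro u huS hucomm ho
    have hvS : u ^ 2 ∈ (S : Subgroup G) := Subgroup.pow_mem _ huS 2
    have hvcomm : ∀ s ∈ (S : Subgroup G), s * u ^ 2 = u ^ 2 * s := by
      intro s hs
      have := hucomm s hs
      rw [pow_two, ← mul_assoc, this, mul_assoc, this, ← mul_assoc]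
    have hvo : orderOf (u ^ 2) = 2 ^ n := by
      rw [orderOf_pow_of_dvd two_ne_zero
        (by rw [ho]; exact dvd_pow_self 2 (Nat.succ_ne_zero n)), ho, pow_succ]
      exact Nat.mul_div_cancel _ two_pos
    have hvc : u ^ 2 ∈ Subgroup.center G := ih (u ^ 2) hvS hvcomm hvo
    have hW : Subgroup.zpowers (u ^ 2) ≤ Subgroup.center G := Subgroup.zpowers_le.mpr hvc
    have hWS : Subgroup.zpowers (u ^ 2) ≤ (S : Subgroup G) := Subgroup.zpowers_le.mpr hvS
    have hWp : IsPGroup 2 (Subgroup.zpowers (u ^ 2)) := S.isPGroup'.to_le hWS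
    haveI hWn : (Subgroup.zpowers (u ^ 2)).Normal := by
      constructor
      intro x hx g
      have := Subgroup.mem_center_iff.mp (hW hx) g
      rw [this, mul_assoc, mul_inv_cancel, mul_one]
      exact hx
    have huW : u ∉ Subgroup.zpowers (u ^ 2) := by
      intro h
      obtain ⟨k, hk⟩ := Subgroup.mem_zpowers_iff.mp h
      have h1 : u ^ (2 * k - 1) = 1 := by
        have : u ^ (2 * k) = u := by rw [zpow_mul, zpow_ofNat]; exact hk
        rw [zpow_sub, this, zpow_one, mul_inv_cancel]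
      have h2 : (orderOf u : ℤ) ∣ 2 * k - 1 := orderOf_dvd_iff_zpow_eq_one.mpr h1
      rw [ho] at h2
      have h3 : (2 : ℤ) ∣ 2 * k - 1 :=
        dvd_trans (by push_cast; exact dvd_pow_self 2 (Nat.succ_ne_zero n)) h2
      omega
    have hπ : Function.Surjective (QuotientGroup.mk' (Subgroup.zpowers (u ^ 2))) :=
      QuotientGroup.mk'_surjective _
    have hS' : ((S.mapSurjective hπ : Sylow 2 (G ⧸ Subgroup.zpowers (u ^ 2))) :
        Subgroup (G ⧸ Subgroup.zpowers (u ^ 2))) =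
        (S : Subgroup G).map (QuotientGroup.mk' (Subgroup.zpowers (u ^ 2))) :=
      Sylow.coe_mapSurjective hπ S
    have hu2 : (QuotientGroup.mk' (Subgroup.zpowers (u ^ 2)) u) ^ 2 = 1 := by
      rw [← map_pow]
      exact (QuotientGroup.eq_one_iff _).mpr (Subgroup.mem_zpowers _)
    have hu1 : QuotientGroup.mk' (Subgroup.zpowers (u ^ 2)) u ≠ 1 := by
      intro h
      exact huW ((QuotientGroup.eq_one_iff u).mp h)
    have hord : orderOf (QuotientGroup.mk' (Subgroup.zpowers (u ^ 2)) u) = 2 :=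
      orderOf_eq_prime hu2 hu1
    have hiso : ∀ q : G ⧸ Subgroup.zpowers (u ^ 2),
        q * QuotientGroup.mk' (Subgroup.zpowers (u ^ 2)) u * q⁻¹ ∈
          (S.mapSurjective hπ : Sylow 2 (G ⧸ Subgroup.zpowers (u ^ 2))) →
        q * QuotientGroup.mk' (Subgroup.zpowers (u ^ 2)) u * q⁻¹ =
          QuotientGroup.mk' (Subgroup.zpowers (u ^ 2)) u := by
      intro q hq
      obtain ⟨g, rfl⟩ := hπ q
      have e : QuotientGroup.mk' (Subgroup.zpowers (u ^ 2)) (g * u * g⁻¹) =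
          QuotientGroup.mk' (Subgroup.zpowers (u ^ 2)) g *
            QuotientGroup.mk' (Subgroup.zpowers (u ^ 2)) u *
            (QuotientGroup.mk' (Subgroup.zpowers (u ^ 2)) g)⁻¹ := by
        rw [map_mul, map_mul, map_inv]
      rw [← e]
      have hq' : QuotientGroup.mk' (Subgroup.zpowers (u ^ 2)) (g * u * g⁻¹) ∈
          (S : Subgroup G).map (QuotientGroup.mk' (Subgroup.zpowers (u ^ 2))) := by
        rw [← hS', e]; exact hq
      obtain ⟨s, hs, hsq⟩ := Subgroup.mem_map.mp hq'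
      have h1 : s⁻¹ * (g * u * g⁻¹) ∈ Subgroup.zpowers (u ^ 2) := QuotientGroup.eq.mp hsq
      have h2 : g * u * g⁻¹ ∈ (S : Subgroup G) := by
        have : g * u * g⁻¹ = s * (s⁻¹ * (g * u * g⁻¹)) := by group
        rw [this]
        exact Subgroup.mul_mem _ hs (hWS h1)
      obtain ⟨k, hk⟩ := Subgroup.mem_zpowers_iff.mp (hwc u huS hucomm g h2)
      rw [← hk]
      rcases Int.emod_two_eq_zero_or_one k with h0 | h1'
      · exfalso
        have hkW : u ^ k ∈ Subgroup.zpowers (u ^ 2) := by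
          have : u ^ k = (u ^ 2) ^ (k / 2) := by
            have hk2 : k = 2 * (k / 2) := by omega
            conv_lhs => rw [hk2]
            rw [zpow_mul, zpow_ofNat]
          rw [this]; exact Subgroup.zpow_mem_zpowers _ _
        rw [hk] at hkW
        have h3 : QuotientGroup.mk' (Subgroup.zpowers (u ^ 2)) (g * u * g⁻¹) = 1 :=
          (QuotientGroup.eq_one_iff _).mpr hkW
        rw [e] at h3
        apply hu1
        have h4 := mul_inv_eq_one.mp h3
        exact mul_left_cancel (h4.trans (mul_one _).symm)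
      · have : u ^ k = (u ^ 2) ^ (k / 2) * u := by
          have hk2 : k = 2 * (k / 2) + 1 := by omega
          conv_lhs => rw [hk2]
          rw [zpow_add_one, zpow_mul, zpow_ofNat]
        rw [this, map_mul]
        have h5 : QuotientGroup.mk' (Subgroup.zpowers (u ^ 2)) ((u ^ 2) ^ (k / 2)) = 1 :=
          (QuotientGroup.eq_one_iff _).mpr (Subgroup.zpow_mem_zpowers _ _)
        rw [h5, one_mul]
    obtain ⟨N, hNn, hNodd, hN⟩ := Cfsg.Agent.helper12.zs_sylow_form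
      (S.mapSurjective hπ : Sylow 2 (G ⧸ Subgroup.zpowers (u ^ 2)))
      (QuotientGroup.mk' (Subgroup.zpowers (u ^ 2)) u) hord hiso
    have hOQ : Cfsg.pPrimeCore 2 (G ⧸ Subgroup.zpowers (u ^ 2)) = ⊥ :=
      Cfsg.Agent.helper15.pPrimeCore_quotient_central_eq_bot hO _ hW
    have hNbot : N ≤ Cfsg.pPrimeCore 2 (G ⧸ Subgroup.zpowers (u ^ 2)) :=
      Cfsg.Agent.helper1.le_pPrimeCore (p := 2) hNn (Nat.coprime_two_right.mpr hNodd)
    rw [hOQ] at hNbot
    have hcW : ∀ g : G, u * g * u⁻¹ * g⁻¹ ∈ Subgroup.zpowers (u ^ 2) := by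
      intro g
      have h1 := hNbot (hN (QuotientGroup.mk' (Subgroup.zpowers (u ^ 2)) g))
      rw [Subgroup.mem_bot] at h1
      have h2 : QuotientGroup.mk' (Subgroup.zpowers (u ^ 2)) (u * g * u⁻¹ * g⁻¹) = 1 := by
        rw [map_mul, map_mul, map_mul, map_inv, map_inv]; exact h1
      exact (QuotientGroup.eq_one_iff _).mp h2
    exact central_of_comm_central S u hucomm _ hW hWp hcW

theorem center_sylow_le_center (hO : Cfsg.pPrimeCore 2 G = ⊥) (S : Sylow 2 G)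
    (hwc : ∀ u : G, u ∈ (S : Subgroup G) → (∀ s ∈ (S : Subgroup G), s * u = u * s) →
      ∀ g : G, g * u * g⁻¹ ∈ (S : Subgroup G) → g * u * g⁻¹ ∈ Subgroup.zpowers u)
    (u : G) (huS : u ∈ (S : Subgroup G)) (hucomm : ∀ s ∈ (S : Subgroup G), s * u = u * s) :
    u ∈ Subgroup.center G := by
  have : Fact (Nat.Prime 2) := ⟨Nat.prime_two⟩
  obtain ⟨k, hk⟩ := IsPGroup.iff_orderOf.mp S.isPGroup' ⟨u, huS⟩
  rw [← Subgroup.orderOf_coe] at hk
  exact center_sylow_le_center_aux hO S hwc k u huS hucomm hk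

/-- a 2-subgroup of `S O` (`O` normal) is conjugate into `S` by an element of `O` -/
theorem conj_into_sylow_by_normal (S : Sylow 2 G) (O : Subgroup G) [O.Normal] (R : Subgroup G)
    (hR : IsPGroup 2 R) (hRle : R ≤ (S : Subgroup G) ⊔ O) :
    ∃ o ∈ O, ∀ r ∈ R, o * r * o⁻¹ ∈ (S : Subgroup G) := by
  have : Fact (Nat.Prime 2) := ⟨Nat.prime_two⟩
  have hST : (S : Subgroup G) ≤ (S : Subgroup G) ⊔ O := le_sup_left
  have hR' : IsPGroup 2 (R.subgroupOf ((S : Subgroup G) ⊔ O)) := hR.comap_subtype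
  obtain ⟨t, ht⟩ := Cfsg.Agent.helper12.bs_pgroup_conj_into_sylow (S.subtype hST)
    (R.subgroupOf ((S : Subgroup G) ⊔ O)) hR'
  have htT : (t : G) ∈ (((S : Subgroup G) ⊔ O : Subgroup G) : Set G) := t.2
  rw [Subgroup.mul_normal] at htT
  obtain ⟨p, hp, o, ho, hpo⟩ := Set.mem_mul.mp htT
  refine ⟨o, ho, fun r hr => ?_⟩
  have h1 : (⟨r, hRle hr⟩ : ↥((S : Subgroup G) ⊔ O)) ∈ R.subgroupOf ((S : Subgroup G) ⊔ O) :=
    Subgroup.mem_subgroupOf.mpr hr
  have h2 := ht _ h1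
  have h3 : (t : G) * r * (t : G)⁻¹ ∈ (S : Subgroup G) := by
    have h4 : t * ⟨r, hRle hr⟩ * t⁻¹ ∈ (S : Subgroup G).subgroupOf ((S : Subgroup G) ⊔ O) := by
      rw [← Sylow.coe_subtype]; exact h2
    simpa [Subgroup.mem_subgroupOf] using h4
  rw [← hpo] at h3
  have h4 : o * r * o⁻¹ = p⁻¹ * (p * o * r * (p * o)⁻¹) * p := by group
  rw [h4]
  exact Subgroup.mul_mem _ (Subgroup.mul_mem _ (Subgroup.inv_mem _ hp) h3) hp

/-- `S ∩ O(G) = 1` -/
theorem sylow_inf_core (S : Sylow 2 G) {x : G} (hxS : x ∈ (S : Subgroup G))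
    (hxO : x ∈ Cfsg.pPrimeCore 2 G) : x = 1 := by
  have : Fact (Nat.Prime 2) := ⟨Nat.prime_two⟩
  obtain ⟨k, hk⟩ := IsPGroup.iff_orderOf.mp S.isPGroup' ⟨x, hxS⟩
  rw [← Subgroup.orderOf_coe] at hk
  have hk' : orderOf x = 2 ^ k := hk
  have h1 : orderOf x ∣ Nat.card (Cfsg.pPrimeCore 2 G) := Subgroup.orderOf_dvd_natCard _ hxO
  have h2 : (Nat.card (Cfsg.pPrimeCore 2 G)).Coprime 2 := Cfsg.Agent.helper1.pPrimeCore_coprime 2
  have h3 : (orderOf x).Coprime 2 := Nat.Coprime.coprime_dvd_left h1 h2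
  rw [hk'] at h3
  rcases Nat.eq_zero_or_pos k with h0 | hpos
  · rw [h0, pow_zero, orderOf_eq_one_iff] at hk'; exact hk'
  · exact absurd (Nat.Coprime.eq_one_of_dvd h3.symm (dvd_pow_self 2 hpos.ne')) (by norm_num)

/-- main: commutators with `Z(S)` lie in the odd core -/
theorem comm_mem_oddCore (S : Sylow 2 G)
    (hwc : ∀ u : G, u ∈ (S : Subgroup G) → (∀ s ∈ (S : Subgroup G), s * u = u * s) →
      ∀ g : G, g * u * g⁻¹ ∈ (S : Subgroup G) → g * u * g⁻¹ ∈ Subgroup.zpowers u)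
    (u : G) (huS : u ∈ (S : Subgroup G)) (hucomm : ∀ s ∈ (S : Subgroup G), s * u = u * s)
    (g : G) : u * g * u⁻¹ * g⁻¹ ∈ Cfsg.pPrimeCore 2 G := by
  have : Fact (Nat.Prime 2) := ⟨Nat.prime_two⟩
  have hOQ : Cfsg.pPrimeCore 2 (G ⧸ Cfsg.pPrimeCore 2 G) = ⊥ :=
    Cfsg.Agent.helper9.pPrimeCore_quotient_eq_bot 2
  have hπ : Function.Surjective (QuotientGroup.mk' (Cfsg.pPrimeCore 2 G)) :=
    QuotientGroup.mk'_surjective _
  have hS' : ((S.mapSurjective hπ : Sylow 2 (G ⧸ Cfsg.pPrimeCore 2 G)) :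
      Subgroup (G ⧸ Cfsg.pPrimeCore 2 G)) =
      (S : Subgroup G).map (QuotientGroup.mk' (Cfsg.pPrimeCore 2 G)) :=
    Sylow.coe_mapSurjective hπ S
  have hlift_comm : ∀ s ∈ (S : Subgroup G),
      (∀ q ∈ ((S.mapSurjective hπ : Sylow 2 (G ⧸ Cfsg.pPrimeCore 2 G)) :
        Subgroup (G ⧸ Cfsg.pPrimeCore 2 G)),
        q * QuotientGroup.mk' (Cfsg.pPrimeCore 2 G) s =
          QuotientGroup.mk' (Cfsg.pPrimeCore 2 G) s * q) →
      ∀ t ∈ (S : Subgroup G), t * s = s * t := by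
    intro s hs hq t ht
    have h1 := hq (QuotientGroup.mk' (Cfsg.pPrimeCore 2 G) t)
      (by rw [hS']; exact Subgroup.mem_map_of_mem _ ht)
    have h2 : QuotientGroup.mk' (Cfsg.pPrimeCore 2 G) (t * s) =
        QuotientGroup.mk' (Cfsg.pPrimeCore 2 G) (s * t) := by rw [map_mul, map_mul, h1]
    have h3 : (t * s)⁻¹ * (s * t) ∈ Cfsg.pPrimeCore 2 G := QuotientGroup.eq.mp h2
    have h4 : (t * s)⁻¹ * (s * t) ∈ (S : Subgroup G) :=
      Subgroup.mul_mem _ (Subgroup.inv_mem _ (Subgroup.mul_mem _ ht hs)) (Subgroup.mul_mem _ hs ht)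
    have h5 := sylow_inf_core S h4 h3
    exact inv_mul_eq_one.mp h5
  have hwc' : ∀ ub : G ⧸ Cfsg.pPrimeCore 2 G,
      ub ∈ ((S.mapSurjective hπ : Sylow 2 (G ⧸ Cfsg.pPrimeCore 2 G)) :
        Subgroup (G ⧸ Cfsg.pPrimeCore 2 G)) →
      (∀ q ∈ ((S.mapSurjective hπ : Sylow 2 (G ⧸ Cfsg.pPrimeCore 2 G)) :
        Subgroup (G ⧸ Cfsg.pPrimeCore 2 G)), q * ub = ub * q) →
      ∀ q : G ⧸ Cfsg.pPrimeCore 2 G,
        q * ub * q⁻¹ ∈ ((S.mapSurjective hπ : Sylow 2 (G ⧸ Cfsg.pPrimeCore 2 G)) :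
          Subgroup (G ⧸ Cfsg.pPrimeCore 2 G)) →
        q * ub * q⁻¹ ∈ Subgroup.zpowers ub := by
    intro ub hub hcomm q hq
    rw [hS'] at hub
    obtain ⟨s, hs, rfl⟩ := Subgroup.mem_map.mp hub
    obtain ⟨g, rfl⟩ := hπ q
    have hscomm := hlift_comm s hs hcomm
    have hy : QuotientGroup.mk' (Cfsg.pPrimeCore 2 G) (g * s * g⁻¹) ∈
        (S : Subgroup G).map (QuotientGroup.mk' (Cfsg.pPrimeCore 2 G)) := by
      rw [← hS', map_mul, map_mul, map_inv]; exact hq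
    obtain ⟨s', hs', hs'q⟩ := Subgroup.mem_map.mp hy
    have h1 : s'⁻¹ * (g * s * g⁻¹) ∈ Cfsg.pPrimeCore 2 G := QuotientGroup.eq.mp hs'q
    have hyT : g * s * g⁻¹ ∈ (S : Subgroup G) ⊔ Cfsg.pPrimeCore 2 G := by
      have : g * s * g⁻¹ = s' * (s'⁻¹ * (g * s * g⁻¹)) := by group
      rw [this]
      exact Subgroup.mul_mem_sup hs' h1
    obtain ⟨k, hk⟩ := IsPGroup.iff_orderOf.mp S.isPGroup' ⟨s, hs⟩
    rw [← Subgroup.orderOf_coe] at hk
    have hso : orderOf s = 2 ^ k := hk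
    have hyo : orderOf (g * s * g⁻¹) = 2 ^ k := by
      have := orderOf_injective ((MulAut.conj g : G ≃* G) : G →* G) (MulEquiv.injective _) s
      rw [← hso, ← this]
      rfl
    have hRp : IsPGroup 2 (Subgroup.zpowers (g * s * g⁻¹)) := by
      apply IsPGroup.of_card (n := k)
      rw [Nat.card_zpowers, hyo]
    obtain ⟨o, ho, hoR⟩ := conj_into_sylow_by_normal S (Cfsg.pPrimeCore 2 G) _ hRp
      (Subgroup.zpowers_le.mpr hyT)
    have h2 : (o * g) * s * (o * g)⁻¹ ∈ (S : Subgroup G) := by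
      have : (o * g) * s * (o * g)⁻¹ = o * (g * s * g⁻¹) * o⁻¹ := by group
      rw [this]; exact hoR _ (Subgroup.mem_zpowers _)
    obtain ⟨j, hj⟩ := Subgroup.mem_zpowers_iff.mp (hwc s hs hscomm (o * g) h2)
    rw [Subgroup.mem_zpowers_iff]
    refine ⟨j, ?_⟩
    have hπo : QuotientGroup.mk' (Cfsg.pPrimeCore 2 G) o = 1 :=
      (QuotientGroup.eq_one_iff o).mpr ho
    calc (QuotientGroup.mk' (Cfsg.pPrimeCore 2 G) s) ^ j
        = QuotientGroup.mk' (Cfsg.pPrimeCore 2 G) (s ^ j) := (map_zpow _ s j).symm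
      _ = QuotientGroup.mk' (Cfsg.pPrimeCore 2 G) ((o * g) * s * (o * g)⁻¹) := by rw [hj]
      _ = QuotientGroup.mk' (Cfsg.pPrimeCore 2 G) g * QuotientGroup.mk' (Cfsg.pPrimeCore 2 G) s *
            (QuotientGroup.mk' (Cfsg.pPrimeCore 2 G) g)⁻¹ := by
        rw [map_mul, map_mul, map_inv, map_mul, hπo, one_mul]
  have hcenter : QuotientGroup.mk' (Cfsg.pPrimeCore 2 G) u ∈
      Subgroup.center (G ⧸ Cfsg.pPrimeCore 2 G) := by
    apply center_sylow_le_center hOQ (S.mapSurjective hπ) hwc'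
    · rw [hS']; exact Subgroup.mem_map_of_mem _ huS
    · intro q hq
      rw [hS'] at hq
      obtain ⟨t, ht, rfl⟩ := Subgroup.mem_map.mp hq
      rw [← map_mul, ← map_mul, hucomm t ht]
  have h1 := Subgroup.mem_center_iff.mp hcenter (QuotientGroup.mk' (Cfsg.pPrimeCore 2 G) g)
  apply (QuotientGroup.eq_one_iff _).mp
  show QuotientGroup.mk' (Cfsg.pPrimeCore 2 G) (u * g * u⁻¹ * g⁻¹) = 1
  rw [map_mul, map_mul, map_mul, map_inv, map_inv, ← h1]
  group

/-- S1215: `G = O(G) C_G(Z(S))` when every subgroup of `Z(S)` is weakly closed in `S` -/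
theorem factor (S : Sylow 2 G)
    (hZ : ∀ Z₀ : Subgroup G,
      Z₀ ≤ ((Subgroup.center (S : Subgroup G)).map (S : Subgroup G).subtype) →
      Cfsg.IsWeaklyClosed Z₀ (S : Subgroup G)) (h : G) :
    ∃ o ∈ Cfsg.oddCore G, ∃ c ∈ Subgroup.centralizer
      (((Subgroup.center (S : Subgroup G)).map (S : Subgroup G).subtype : Subgroup G) : Set G),
      h = o * c := by
  have : Fact (Nat.Prime 2) := ⟨Nat.prime_two⟩
  have hZmem : ∀ u : G,
      u ∈ (Subgroup.center (S : Subgroup G)).map (S : Subgroup G).subtype ↔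
      (u ∈ (S : Subgroup G) ∧ ∀ s ∈ (S : Subgroup G), s * u = u * s) := by
    intro u
    constructor
    · rintro ⟨⟨x, hx⟩, hxc, rfl⟩
      refine ⟨hx, fun s hs => ?_⟩
      have := Subgroup.mem_center_iff.mp hxc ⟨s, hs⟩
      exact congrArg Subtype.val this
    · rintro ⟨hu, hc⟩
      refine ⟨⟨u, hu⟩, Subgroup.mem_center_iff.mpr ?_, rfl⟩
      rintro ⟨s, hs⟩
      exact Subtype.ext (hc s hs)
  have hwc : ∀ u : G, u ∈ (S : Subgroup G) → (∀ s ∈ (S : Subgroup G), s * u = u * s) →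
      ∀ g : G, g * u * g⁻¹ ∈ (S : Subgroup G) → g * u * g⁻¹ ∈ Subgroup.zpowers u := by
    intro u hu hc g hg
    have hle : Subgroup.zpowers u ≤
        (Subgroup.center (S : Subgroup G)).map (S : Subgroup G).subtype := by
      rw [Subgroup.zpowers_le]; exact (hZmem u).mpr ⟨hu, hc⟩
    obtain ⟨_, hw⟩ := hZ _ hle
    have hmap : (Subgroup.zpowers u).map (MulAut.conj g).toMonoidHom =
        Subgroup.zpowers (g * u * g⁻¹) := by
      rw [MonoidHom.map_zpowers]; rfl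
    have h1 := hw g (by rw [hmap, Subgroup.zpowers_le]; exact hg)
    rw [hmap] at h1
    rw [← h1]; exact Subgroup.mem_zpowers _
  have hcomm := comm_mem_oddCore S hwc
  have hZp : IsPGroup 2 ((Subgroup.center (S : Subgroup G)).map (S : Subgroup G).subtype) :=
    S.isPGroup'.to_le (fun u hu => ((hZmem u).mp hu).1)
  have hRp : IsPGroup 2 (((Subgroup.center (S : Subgroup G)).map (S : Subgroup G).subtype).map
      (MulAut.conj h).toMonoidHom) := hZp.map _
  have hRle : ((Subgroup.center (S : Subgroup G)).map (S : Subgroup G).subtype).map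
      (MulAut.conj h).toMonoidHom ≤ (S : Subgroup G) ⊔ Cfsg.pPrimeCore 2 G := by
    rintro _ ⟨u, hu, rfl⟩
    obtain ⟨huS, huc⟩ := (hZmem u).mp hu
    have h1 := hcomm u huS huc h
    have h2 : h * u * h⁻¹ = (u * h * u⁻¹ * h⁻¹)⁻¹ * u := by group
    show h * u * h⁻¹ ∈ _
    rw [h2]
    exact Subgroup.mul_mem _ (Subgroup.mem_sup_right (Subgroup.inv_mem _ h1))
      (Subgroup.mem_sup_left huS)
  obtain ⟨o, ho, hoR⟩ := conj_into_sylow_by_normal S (Cfsg.pPrimeCore 2 G) _ hRp hRle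
  refine ⟨o⁻¹, Subgroup.inv_mem _ ho, o * h, ?_, by group⟩
  rw [Subgroup.mem_centralizer_iff]
  intro u hu
  obtain ⟨huS, huc⟩ := (hZmem u).mp hu
  have h1 : (o * h) * u * (o * h)⁻¹ ∈ (S : Subgroup G) := by
    have : (o * h) * u * (o * h)⁻¹ = o * (h * u * h⁻¹) * o⁻¹ := by group
    rw [this]
    exact hoR _ ⟨u, hu, rfl⟩
  have h2 := hcomm u huS huc (o * h)
  have h3 : u * (o * h) * u⁻¹ * (o * h)⁻¹ ∈ (S : Subgroup G) := by
    have : u * (o * h) * u⁻¹ * (o * h)⁻¹ = u * ((o * h) * u * (o * h)⁻¹)⁻¹ := by group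
    rw [this]
    exact Subgroup.mul_mem _ huS (Subgroup.inv_mem _ h1)
  have h4 := sylow_inf_core S h3 h2
  have h5 : u * (o * h) * u⁻¹ = o * h := mul_inv_eq_one.mp h4
  exact mul_inv_eq_iff_eq_mul.mp h5

end Cfsg.Agent.helper6.ZCen
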