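import Mathlib
import Cfsg.Agent.Lib_helper6_ZCen
import Cfsg.Agent.Lib_helper6_QD6
import Cfsg.Agent.Lib_helper6_WrCent

set_option autoImplicit false
set_option linter.unusedSectionVars false
set_option linter.unusedVariables false

/-!
helper6: an isolated involution in a group with quasi-dihedral or wreathed Sylow 2-subgroup `S`:
`O(X) Z(S)` is normal (S1239).
-/

namespace Cfsg.Agent.helper6.IsoCen

open Cfsg

universe u

variable {G : Type u} [Group G] [Finite G]

/-- normality of `O(G) Z` from the commutator condition -/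
theorem normal_of_comm (Z : Subgroup G)
    (h : ∀ u ∈ Z, ∀ g : G, g * u * g⁻¹ * u⁻¹ ∈ Cfsg.pPrimeCore 2 G) :
    (Cfsg.oddCore G ⊔ Z).Normal := by
  constructor
  intro n hn g
  have hle : (Cfsg.oddCore G ⊔ Z).map (MulAut.conj g).toMonoidHom ≤ Cfsg.oddCore G ⊔ Z := by
    rw [Subgroup.map_sup]
    apply sup_le
    · rintro _ ⟨o, ho, rfl⟩
      exact Subgroup.mem_sup_left ((Cfsg.pPrimeCore_normal 2 G).conj_mem o ho g)
    · rintro _ ⟨u, hu, rfl⟩
      have h1 := h u hu g
      have h2 : g * u * g⁻¹ = (g * u * g⁻¹ * u⁻¹) * u := by group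
      show g * u * g⁻¹ ∈ _
      rw [h2]
      exact Subgroup.mul_mem _ (Subgroup.mem_sup_left h1) (Subgroup.mem_sup_right hu)
  exact hle ⟨n, hn, rfl⟩

/-- an isolated involution of `S` is central in `S` -/
theorem isolated_central (S : Sylow 2 G) (z : G) (hzS : z ∈ (S : Subgroup G))
    (hz : IsIsolatedInvolution z) : ∀ s ∈ (S : Subgroup G), s * z = z * s := by
  intro s hs
  have h1 := Cfsg.Agent.helper12.zs_oddCore_form z hz s
  have h2 : z * s * z⁻¹ * s⁻¹ ∈ (S : Subgroup G) :=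
    mul_mem (mul_mem (mul_mem hzS hs) (inv_mem hzS)) (inv_mem hs)
  have h3 := ZCen.sylow_inf_core S h2 h1
  have h4 : z * s * z⁻¹ = s := mul_inv_eq_one.mp h3
  exact (mul_inv_eq_iff_eq_mul.mp h4).symm

theorem comm_inv_mem (z : G) (hz : IsIsolatedInvolution z) (g : G) :
    g * z * g⁻¹ * z⁻¹ ∈ Cfsg.pPrimeCore 2 G := by
  have h1 := Cfsg.Agent.helper12.zs_oddCore_form z hz g
  have h2 : g * z * g⁻¹ * z⁻¹ = (z * g * z⁻¹ * g⁻¹)⁻¹ := by group
  rw [h2]
  exact inv_mem h1

theorem qd_case (S : Sylow 2 G) (hS : Cfsg.IsQuasiDihedral (S : Subgroup G)) (z : G)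
    (hzS : z ∈ (S : Subgroup G)) (hz : IsIsolatedInvolution z) :
    (Cfsg.oddCore G ⊔ (Subgroup.center (S : Subgroup G)).map (S : Subgroup G).subtype).Normal := by
  obtain ⟨D⟩ := Cfsg.Agent.helper6.QD.nonempty_data hS
  have hzc := isolated_central S z hzS hz
  have heh : orderOf (D.e D.h) = 2 := (D.orderOf_e_eq_two_iff _).mpr rfl
  have hzcen : (⟨z, hzS⟩ : ↥(S : Subgroup G)) ∈ Subgroup.center ↥(S : Subgroup G) := by
    rw [Subgroup.mem_center_iff]; intro s; apply Subtype.ext; exact hzc s s.2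
  rw [D.center_eq] at hzcen
  have hz1 : (⟨z, hzS⟩ : ↥(S : Subgroup G)) ≠ 1 := by
    intro h
    have h1 : z = 1 := congrArg Subtype.val h
    have h2 := hz.1
    rw [h1, orderOf_one] at h2
    norm_num at h2
  have hzeq : (⟨z, hzS⟩ : ↥(S : Subgroup G)) = D.e D.h := by
    rcases Cfsg.Agent.helper12.zs_mem_zpowers_two heh hzcen with h | h
    · exact absurd h hz1
    · exact h
  apply normal_of_comm
  rintro _ ⟨u, huc, rfl⟩ g
  have huc' : u ∈ Subgroup.center ↥(S : Subgroup G) := huc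
  rw [D.center_eq] at huc'
  rcases Cfsg.Agent.helper12.zs_mem_zpowers_two heh huc' with h | h
  · rw [h]
    simp
  · rw [h, ← hzeq]
    exact comm_inv_mem z hz g

theorem wr_case (S : Sylow 2 G) (hS : Cfsg.IsWreathed (S : Subgroup G)) (z : G)
    (hzS : z ∈ (S : Subgroup G)) (hz : IsIsolatedInvolution z) :
    (Cfsg.oddCore G ⊔ (Subgroup.center (S : Subgroup G)).map (S : Subgroup G).subtype).Normal := by
  have : Fact (Nat.Prime 2) := ⟨Nat.prime_two⟩
  obtain ⟨D⟩ := Cfsg.Agent.helper6.Wr.nonempty_data hS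
  obtain ⟨n, hnD⟩ : ∃ n : ℕ, n = D.n := ⟨_, rfl⟩
  have hn : Nat.card (S : Subgroup G) = 2 ^ (2 * n + 1) := by rw [hnD]; exact D.card
  have hzc := isolated_central S z hzS hz
  have hze : z = ((D.e D.h D.h : ↥(S : Subgroup G)) : G) := by
    have h1 : (⟨z, hzS⟩ : ↥(S : Subgroup G)) ∈ Subgroup.center ↥(S : Subgroup G) := by
      rw [Subgroup.mem_center_iff]
      intro s
      apply Subtype.ext
      rw [Subgroup.coe_mul, Subgroup.coe_mul]
      exact hzc s s.2
    obtain ⟨k, hk⟩ := (D.mem_center_iff' _).mp h1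
    have h2 : orderOf (⟨z, hzS⟩ : ↥(S : Subgroup G)) = 2 := by
      rw [← Subgroup.orderOf_coe]; exact hz.1
    rw [hk, D.orderOf_e_eq_two_iff] at h2
    have hkh : k = D.h := by
      rcases h2 with ⟨a, b⟩ | ⟨a, b⟩ | ⟨a, b⟩
      · exact absurd (a.symm.trans b) D.h_ne
      · exact absurd (b.symm.trans a) D.h_ne
      · exact a
    have h3 : z = ((D.e k k : ↥(S : Subgroup G)) : G) := congrArg Subtype.val hk
    rw [h3, hkh]
  obtain ⟨U, hUdef⟩ : ∃ U : Subgroup G, U = D.U.map (S : Subgroup G).subtype := ⟨_, rfl⟩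
  have hUS : U ≤ S := by rw [hUdef]; exact Subgroup.map_subtype_le _
  have eU : D.U ≃* U := by
    rw [hUdef]; exact D.U.equivMapOfInjective _ (S : Subgroup G).subtype_injective
  have hUab : IsMulCommutative U := ⟨⟨fun a b => by
    apply eU.symm.injective
    rw [map_mul, map_mul]
    exact Subtype.ext (D.U_comm _ (eU.symm a).2 _ (eU.symm b).2)⟩⟩
  have hUcard : Nat.card U = 2 ^ (2 * n) := by
    rw [← Nat.card_congr eU.toEquiv, D.card_U, hnD]
  obtain ⟨Q₀, ⟨eQ₀⟩, -⟩ := D.exists_quat_Vd 0 (map_zero _)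
  obtain ⟨Q, hQdef⟩ : ∃ Q : Subgroup G, Q = Q₀.map (S : Subgroup G).subtype := ⟨_, rfl⟩
  have hQS : Q ≤ S := by rw [hQdef]; exact Subgroup.map_subtype_le _
  have eQ : Q ≃* QuaternionGroup 2 := by
    rw [hQdef]
    exact (Q₀.equivMapOfInjective _ (S : Subgroup G).subtype_injective).symm.trans eQ₀
  obtain ⟨hc1, hc2⟩ := Cfsg.Agent.S1208.result S hS n hn U hUS hUab hUcard Q hQS eQ
  obtain ⟨hDn, hU⟩ := Cfsg.Agent.helper6.WrFus.subgroupOf_eq_U S D n hn U hUS hUab hUcard
  have h₁ : (Subgroup.centralizer (U : Set G)).relIndex (Subgroup.normalizer (U : Set G)) = 2 := by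
    rcases hc1 with h | h
    · exact h
    · exfalso
      obtain ⟨g, hg, hnorm, hAC⟩ := Cfsg.Agent.helper6.WrFus.U_six S D U hUS hU h
      obtain ⟨c, hc⟩ := isConj_iff.mp hAC
      have ha : c⁻¹ * z * (c⁻¹)⁻¹ = ((D.e D.h 0 : ↥(S : Subgroup G)) : G) := by
        rw [hze, ← hc]; group
      have hcomm : Commute z (c⁻¹ * z * (c⁻¹)⁻¹) := by
        rw [ha]
        exact (hzc _ (D.e D.h 0).2).symm
      have h3 := hz.2 c⁻¹ hcomm
      rw [ha, hze] at h3
      have h4 : D.e D.h 0 = D.e D.h D.h := Subtype.ext h3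
      exact D.h_ne (D.e_inj.mp h4).2.symm
  have hScen : ∀ s ∈ (S : Subgroup G), s ∈ Subgroup.centralizer
      (((Subgroup.center (S : Subgroup G)).map (S : Subgroup G).subtype : Subgroup G) : Set G) := by
    intro s hs
    rw [Subgroup.mem_centralizer_iff]
    rintro _ ⟨u, huc, rfl⟩
    have := Subgroup.mem_center_iff.mp huc ⟨s, hs⟩
    exact (congrArg Subtype.val this).symm
  have hfac : ∀ g : G, ∃ o ∈ Cfsg.oddCore G, ∃ c ∈ Subgroup.centralizer
      (((Subgroup.center (S : Subgroup G)).map (S : Subgroup G).subtype : Subgroup G) : Set G),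
      g = o * c := by
    rcases hc2 with h₂ | h₂
    · obtain ⟨⟨P, N, hNn, hNc⟩, -⟩ :=
        Cfsg.Agent.S1212.result S hS n hn U hUS hUab hUcard Q hQS eQ h₁ h₂
      have hcardmul : Nat.card N * Nat.card (P : Subgroup G) = Nat.card G := hNc.card_mul_card
      have hPS : Nat.card (P : Subgroup G) = Nat.card (S : Subgroup G) := by
        rw [P.card_eq_multiplicity, S.card_eq_multiplicity]
      have hNidx : Nat.card N = (P : Subgroup G).index := by
        have h1 := (P : Subgroup G).index_mul_card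
        have h2 : 0 < Nat.card (P : Subgroup G) := Nat.card_pos
        exact Nat.eq_of_mul_eq_mul_right h2 (hcardmul.trans h1.symm)
      have hNodd : (Nat.card N).Coprime 2 := by
        rw [hNidx]
        exact ((Nat.Prime.coprime_iff_not_dvd Nat.prime_two).mpr P.not_dvd_index).symm
      have hNO : N ≤ Cfsg.pPrimeCore 2 G := Cfsg.Agent.helper1.le_pPrimeCore (p := 2) hNn hNodd
      have htop : N ⊔ (S : Subgroup G) = ⊤ := by
        apply Subgroup.eq_top_of_le_card
        have d1 : Nat.card N ∣ Nat.card (N ⊔ (S : Subgroup G) : Subgroup G) :=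
          Subgroup.card_dvd_of_le le_sup_left
        have d2 : Nat.card (S : Subgroup G) ∣ Nat.card (N ⊔ (S : Subgroup G) : Subgroup G) :=
          Subgroup.card_dvd_of_le le_sup_right
        have hcop : (Nat.card N).Coprime (Nat.card (S : Subgroup G)) := by
          rw [hn]
          exact Nat.Coprime.pow_right _ hNodd
        have d3 := Nat.Coprime.mul_dvd_of_dvd_of_dvd hcop d1 d2
        rw [← hPS, hcardmul] at d3
        exact Nat.le_of_dvd Nat.card_pos d3
      intro g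
      have hg : g ∈ ((N ⊔ (S : Subgroup G) : Subgroup G) : Set G) := by
        rw [htop]; exact Subgroup.mem_top g
      haveI := hNn
      rw [Subgroup.normal_mul] at hg
      obtain ⟨o, ho, s, hs, rfl⟩ := Set.mem_mul.mp hg
      exact ⟨o, hNO ho, s, hScen s hs, rfl⟩
    · obtain ⟨-, hW, -⟩ := Cfsg.Agent.S1210.result S hS n hn U hUS hUab hUcard Q hQS eQ h₁ h₂
      exact fun g => ZCen.factor S hW g
  apply normal_of_comm
  intro u hu g
  obtain ⟨o, ho, c, hc, rfl⟩ := hfac g
  have hcu : u * c = c * u := (Subgroup.mem_centralizer_iff.mp hc) u hu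
  have e : (o * c) * u * (o * c)⁻¹ * u⁻¹ = o * (u * o⁻¹ * u⁻¹) := by
    have h1 : c * u * c⁻¹ = u := by rw [← hcu]; group
    calc (o * c) * u * (o * c)⁻¹ * u⁻¹ = o * (c * u * c⁻¹) * o⁻¹ * u⁻¹ := by group
      _ = o * u * o⁻¹ * u⁻¹ := by rw [h1]
      _ = o * (u * o⁻¹ * u⁻¹) := by group
  rw [e]
  exact mul_mem ho ((Cfsg.pPrimeCore_normal 2 G).conj_mem _ (inv_mem ho) u)

end Cfsg.Agent.helper6.IsoCen
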