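import Mathlib
import Cfsg.Agent.Lib_helper6_LevelChk

set_option autoImplicit false

/-! The grading of the Chevalley module by the level outside a set `J` of fundamental roots,
and the induced block structure of root elements (helper6). -/

namespace Cfsg.Agent.helper6.Level

open Cfsg.Lie

open Classical in
/-- the `J`-level of a root: sum of its coefficients on the fundamental roots outside `J` -/
noncomputable def lvlR (D : ChevalleyDatum) (tab : List (List ℤ)) (J : Set ℕ) (r : ℕ) : ℤ :=
  ∑ i ∈ Finset.range D.rank, if i ∈ J then 0 else rc tab r i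

/-- the level of a coordinate -/
noncomputable def lev (D : ChevalleyDatum) (tab : List (List ℤ)) (J : Set ℕ) : D.Idx → ℤ
  | Sum.inl _ => 0
  | Sum.inr u => lvlR D tab J u.val

theorem lvlR_neg {D : ChevalleyDatum} {tab : List (List ℤ)} (h : LvlOK D tab) (J : Set ℕ)
    (r : ℕ) (hr : r < D.nroots) : lvlR D tab J (D.neg r) = - lvlR D tab J r := by
  classical
  unfold lvlR
  rw [← Finset.sum_neg_distrib]
  apply Finset.sum_congr rfl
  intro i hi
  split_ifs
  · simp
  · exact h.neg r hr i (Finset.mem_range.mp hi)

theorem lvlR_chain {D : ChevalleyDatum} {tab : List (List ℤ)} (h : LvlOK D tab) (J : Set ℕ)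
    (r : ℕ) (hr : r < D.nroots) (e : ℕ × Array (ℕ × ℤ)) (he : e ∈ (D.chain.getD r #[]).toList)
    (q : (ℕ × ℤ) × ℕ) (hq : q ∈ e.2.toList.zipIdx) :
    lvlR D tab J q.1.1 = ((q.2 + 1 : ℕ) : ℤ) * lvlR D tab J r + lvlR D tab J e.1 := by
  classical
  unfold lvlR
  rw [Finset.mul_sum, ← Finset.sum_add_distrib]
  apply Finset.sum_congr rfl
  intro i hi
  split_ifs
  · simp
  · exact h.chain r hr e he q hq i (Finset.mem_range.mp hi)

theorem arr_getD_nonneg (A : Array ℤ) (h : ∀ c ∈ A.toList, 0 ≤ c) (i : ℕ) : 0 ≤ A.getD i 0 := by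
  by_cases hi : i < A.size
  · have hmem : A.getD i 0 ∈ A.toList := by
      rw [Array.getD_eq_getD_getElem?, Array.getElem?_eq_getElem hi]
      simp
    exact h _ hmem
  · rw [Array.getD_eq_getD_getElem?, Array.getElem?_eq_none (by omega)]
    simp

theorem cor_nonneg_of_pos (D : ChevalleyDatum) (r : ℕ) (hr : D.IsPosRoot r) (i : ℕ) :
    0 ≤ (D.coroot.getD r #[]).getD i 0 :=
  arr_getD_nonneg _ hr.2 i

theorem lvlR_sub {D : ChevalleyDatum} {tab : List (List ℤ)} (h : LvlOK D tab) (J : Set ℕ)
    (r : ℕ) (hr : D.InRootSub J r) : lvlR D tab J r = 0 := by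
  classical
  unfold lvlR
  apply Finset.sum_eq_zero
  intro i hi
  split_ifs with hiJ
  · rfl
  · have h1 := hr.2 i (Finset.mem_range.mp hi) hiJ
    have h2 := h.sign r hr.1 i (Finset.mem_range.mp hi)
    rw [h1, Int.sign_zero] at h2
    exact Int.sign_eq_zero_iff_zero.mp h2

theorem lvlR_pos {D : ChevalleyDatum} {tab : List (List ℤ)} (h : LvlOK D tab) (J : Set ℕ)
    (r : ℕ) (hr : D.IsPosRoot r) (hnot : ¬ D.InRootSub J r) : 0 < lvlR D tab J r := by
  classical
  have hnn : ∀ i < D.rank, 0 ≤ rc tab r i := by
    intro i hi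
    have h2 := h.sign r hr.1 i hi
    have h3 := cor_nonneg_of_pos D r hr i
    by_contra hlt
    push Not at hlt
    rw [Int.sign_eq_neg_one_of_neg hlt] at h2
    rcases h3.lt_or_eq with h4 | h4
    · rw [Int.sign_eq_one_of_pos h4] at h2
      omega
    · rw [← h4, Int.sign_zero] at h2
      omega
  have hex : ∃ i < D.rank, i ∉ J ∧ (D.coroot.getD r #[]).getD i 0 ≠ 0 := by
    by_contra hcon
    push Not at hcon
    exact hnot ⟨hr.1, fun i hi hiJ => hcon i hi hiJ⟩
  obtain ⟨i, hi, hiJ, hne⟩ := hex
  have hposi : 0 < rc tab r i := by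
    have h2 := h.sign r hr.1 i hi
    have h3 := cor_nonneg_of_pos D r hr i
    have h4 : 0 < (D.coroot.getD r #[]).getD i 0 := lt_of_le_of_ne h3 (Ne.symm hne)
    rw [Int.sign_eq_one_of_pos h4] at h2
    exact Int.sign_eq_one_iff_pos.mp h2
  unfold lvlR
  apply Finset.sum_pos'
  · intro j hj
    split_ifs
    · exact le_rfl
    · exact hnn j (Finset.mem_range.mp hj)
  · refine ⟨i, Finset.mem_range.mpr hi, ?_⟩
    rw [if_neg hiJ]
    exact hposi

section
variable {F : Type*} [Field F]

theorem chainCoeff_mem' (D : ChevalleyDatum) (r s u : ℕ) (km : ℕ × ℤ)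
    (h : km ∈ D.chainCoeff r s u) :
    ∃ e ∈ (D.chain.getD r #[]).toList, e.1 = s ∧ ∃ q ∈ e.2.toList.zipIdx, q.1.1 = u := by
  unfold ChevalleyDatum.chainCoeff at h
  rw [List.mem_flatMap] at h
  obtain ⟨e, he, hkm⟩ := h
  rw [List.mem_filter] at he
  rw [List.mem_map] at hkm
  obtain ⟨q, hq, _⟩ := hkm
  rw [List.mem_filter] at hq
  exact ⟨e, he.1, by simpa using he.2, q, hq.1, by simpa using hq.2⟩

/-- nonzero entries of a root element shift the level by a positive multiple of the level of
the root -/
theorem xMat_entry {D : ChevalleyDatum} {tab : List (List ℤ)} (h : LvlOK D tab) (J : Set ℕ)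
    (r : Fin D.nroots) (t : F) (a b : D.Idx) (hne : D.xMat F r t a b ≠ 0) :
    a = b ∨ ∃ k : ℕ, 1 ≤ k ∧ lev D tab J a = lev D tab J b + (k : ℤ) * lvlR D tab J r.val := by
  unfold ChevalleyDatum.xMat at hne
  simp only [Matrix.of_apply] at hne
  rcases b with i | s
  · dsimp only at hne
    rcases a with i' | u
    · dsimp only at hne
      left
      by_cases hi : i' = i
      · rw [hi]
      · rw [if_neg hi] at hne
        exact absurd rfl hne
    · dsimp only at hne
      right
      by_cases hu : u = r
      · refine ⟨1, le_rfl, ?_⟩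
        simp only [lev, hu]
        ring
      · rw [if_neg hu] at hne
        exact absurd rfl hne
  · dsimp only at hne
    by_cases hsr : s = r
    · rw [if_pos hsr] at hne
      rcases a with i' | u
      · dsimp only at hne
        exact absurd rfl hne
      · dsimp only at hne
        left
        by_cases hu : u = r
        · rw [hu, hsr]
        · rw [if_neg hu] at hne
          exact absurd rfl hne
    · rw [if_neg hsr] at hne
      by_cases hneg : s.val = D.negIdx.getD r.val 0
      · rw [if_pos hneg] at hne
        have hlev : lvlR D tab J s.val = - lvlR D tab J r.val := by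
          rw [hneg]
          exact lvlR_neg h J r.val r.2
        rcases a with i' | u
        · right
          refine ⟨1, le_rfl, ?_⟩
          simp only [lev, hlev]
          ring
        · dsimp only at hne
          by_cases hu : u = s
          · left
            rw [hu]
          · rw [if_neg hu] at hne
            by_cases hur : u = r
            · right
              refine ⟨2, by norm_num, ?_⟩
              simp only [lev, hlev, hur]
              push_cast
              ring
            · rw [if_neg hur] at hne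
              exact absurd rfl hne
      · rw [if_neg hneg] at hne
        rcases a with i' | u
        · dsimp only at hne
          exact absurd rfl hne
        · dsimp only at hne
          by_cases hnil : D.chainCoeff r.val s.val u.val = []
          · rw [hnil] at hne
            simp only [List.map_nil, List.sum_nil, add_zero] at hne
            left
            by_cases hu : u = s
            · rw [hu]
            · rw [if_neg hu] at hne
              exact absurd rfl hne
          · right
            obtain ⟨km, hkm⟩ := List.exists_mem_of_ne_nil _ hnil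
            obtain ⟨e, he, hes, q, hq, hqu⟩ := chainCoeff_mem' D _ _ _ km hkm
            have h1 := lvlR_chain h J r.val r.2 e he q hq
            rw [hes, hqu] at h1
            refine ⟨q.2 + 1, by omega, ?_⟩
            simp only [lev]
            rw [h1]
            ring

/-- diagonal entries of a root element of nonzero level are `1` -/
theorem xMat_diag {D : ChevalleyDatum} {tab : List (List ℤ)} (h : LvlOK D tab) (J : Set ℕ)
    (r : Fin D.nroots) (hr : lvlR D tab J r.val ≠ 0) (t : F) (a : D.Idx) :
    D.xMat F r t a a = 1 := by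
  unfold ChevalleyDatum.xMat
  simp only [Matrix.of_apply]
  rcases a with i | s
  · simp
  · dsimp only
    by_cases hsr : s = r
    · rw [if_pos hsr, if_pos hsr]
    · rw [if_neg hsr]
      by_cases hneg : s.val = D.negIdx.getD r.val 0
      · rw [if_pos hneg, if_pos rfl]
      · rw [if_neg hneg, if_pos rfl]
        have hnil : D.chainCoeff r.val s.val s.val = [] := by
          by_contra hnil
          obtain ⟨km, hkm⟩ := List.exists_mem_of_ne_nil _ hnil
          obtain ⟨e, he, hes, q, hq, hqu⟩ := chainCoeff_mem' D _ _ _ km hkm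
          have h1 := lvlR_chain h J r.val r.2 e he q hq
          rw [hes, hqu] at h1
          have h2 : ((q.2 + 1 : ℕ) : ℤ) * lvlR D tab J r.val = 0 := by linarith
          rcases mul_eq_zero.mp h2 with h3 | h3
          · have : (0 : ℤ) < ((q.2 + 1 : ℕ) : ℤ) := by positivity
            omega
          · exact hr h3
        rw [hnil]
        simp

/-- block diagonal with respect to the level -/
def G0 (D : ChevalleyDatum) (tab : List (List ℤ)) (J : Set ℕ) (M : Matrix D.Idx D.Idx F) : Prop :=
  ∀ a b : D.Idx, M a b ≠ 0 → lev D tab J a = lev D tab J b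

/-- unipotent with respect to the level filtration -/
def GU (D : ChevalleyDatum) (tab : List (List ℤ)) (J : Set ℕ) (M : Matrix D.Idx D.Idx F) : Prop :=
  ∀ a b : D.Idx, lev D tab J a ≤ lev D tab J b → M a b = if a = b then 1 else 0

theorem G0_xMat {D : ChevalleyDatum} {tab : List (List ℤ)} (h : LvlOK D tab) (J : Set ℕ)
    (r : Fin D.nroots) (hr : lvlR D tab J r.val = 0) (t : F) : G0 D tab J (D.xMat F r t) := by
  intro a b hne
  rcases xMat_entry h J r t a b hne with hab | ⟨k, _, hk⟩
  · rw [hab]
  · rw [hk, hr, mul_zero, add_zero]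

theorem GU_xMat {D : ChevalleyDatum} {tab : List (List ℤ)} (h : LvlOK D tab) (J : Set ℕ)
    (r : Fin D.nroots) (hr : 0 < lvlR D tab J r.val) (t : F) : GU D tab J (D.xMat F r t) := by
  intro a b hle
  by_cases hab : a = b
  · rw [if_pos hab, hab]
    exact xMat_diag h J r hr.ne' t b
  · rw [if_neg hab]
    by_contra hne
    rcases xMat_entry h J r t a b hne with hab' | ⟨k, hk1, hk⟩
    · exact hab hab'
    · have : (0 : ℤ) < (k : ℤ) * lvlR D tab J r.val := by positivity
      omega

theorem G0_one (D : ChevalleyDatum) (tab : List (List ℤ)) (J : Set ℕ) :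
    G0 D tab J (1 : Matrix D.Idx D.Idx F) := by
  intro a b hne
  rw [Matrix.one_apply] at hne
  by_cases hab : a = b
  · rw [hab]
  · rw [if_neg hab] at hne
    exact absurd rfl hne

theorem G0_diagonal (D : ChevalleyDatum) (tab : List (List ℤ)) (J : Set ℕ) (d : D.Idx → F) :
    G0 D tab J (Matrix.diagonal d) := by
  intro a b hne
  by_cases hab : a = b
  · rw [hab]
  · rw [Matrix.diagonal_apply_ne _ hab] at hne
    exact absurd rfl hne

theorem G0_mul (D : ChevalleyDatum) (tab : List (List ℤ)) (J : Set ℕ)
    {M N : Matrix D.Idx D.Idx F} (hM : G0 D tab J M) (hN : G0 D tab J N) : G0 D tab J (M * N) := by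
  intro a b hne
  rw [Matrix.mul_apply] at hne
  obtain ⟨c, _, hc⟩ := Finset.exists_ne_zero_of_sum_ne_zero hne
  have h1 : M a c ≠ 0 := left_ne_zero_of_mul hc
  have h2 : N c b ≠ 0 := right_ne_zero_of_mul hc
  rw [hM a c h1, hN c b h2]

theorem G0_inv (D : ChevalleyDatum) (tab : List (List ℤ)) (J : Set ℕ) (g : GL D.Idx F)
    (hg : G0 D tab J (g : Matrix D.Idx D.Idx F)) :
    G0 D tab J ((g⁻¹ : GL D.Idx F) : Matrix D.Idx D.Idx F) := by
  classical
  have hBT1 : Matrix.BlockTriangular (g : Matrix D.Idx D.Idx F) (fun i => lev D tab J i) := by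
    intro i j hij
    by_contra hne
    have := hg i j hne
    have hlt : lev D tab J j < lev D tab J i := hij
    omega
  have hBT2 : Matrix.BlockTriangular (g : Matrix D.Idx D.Idx F)
      (fun i => OrderDual.toDual (lev D tab J i)) := by
    intro i j hij
    by_contra hne
    have := hg i j hne
    have hlt : lev D tab J i < lev D tab J j := hij
    omega
  have hinvt : Invertible (g : Matrix D.Idx D.Idx F) := g.invertible
  have h1 := Matrix.blockTriangular_inv_of_blockTriangular hBT1
  have h2 := Matrix.blockTriangular_inv_of_blockTriangular hBT2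
  have hinv : ((g⁻¹ : GL D.Idx F) : Matrix D.Idx D.Idx F) = (g : Matrix D.Idx D.Idx F)⁻¹ :=
    Matrix.coe_units_inv g
  rw [hinv]
  intro a b hne
  rcases lt_trichotomy (lev D tab J a) (lev D tab J b) with hlt | heq | hgt
  · exact absurd (h2 (show OrderDual.toDual (lev D tab J b) < OrderDual.toDual (lev D tab J a)
      from hlt)) hne
  · exact heq
  · exact absurd (h1 (show lev D tab J b < lev D tab J a from hgt)) hne

theorem GU_one (D : ChevalleyDatum) (tab : List (List ℤ)) (J : Set ℕ) :
    GU D tab J (1 : Matrix D.Idx D.Idx F) := by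
  intro a b _
  rw [Matrix.one_apply]

theorem GU_mul (D : ChevalleyDatum) (tab : List (List ℤ)) (J : Set ℕ)
    {M N : Matrix D.Idx D.Idx F} (hM : GU D tab J M) (hN : GU D tab J N) : GU D tab J (M * N) := by
  classical
  intro a b hle
  rw [Matrix.mul_apply]
  by_cases hab : a = b
  · subst hab
    rw [if_pos rfl, Finset.sum_eq_single a]
    · rw [hM a a le_rfl, hN a a le_rfl, if_pos rfl, mul_one]
    · intro m _ hm
      rcases lt_or_ge (lev D tab J a) (lev D tab J m) with h1 | h1
      · rw [hM a m h1.le, if_neg (Ne.symm hm), zero_mul]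
      · rw [hN m a h1, if_neg hm, mul_zero]
    · intro hn; exact absurd (Finset.mem_univ _) hn
  · rw [if_neg hab]
    apply Finset.sum_eq_zero
    intro m _
    rcases lt_or_ge (lev D tab J m) (lev D tab J a) with h1 | h1
    · -- lev m < lev a ≤ lev b
      have hmb : m ≠ b := by
        intro h'; subst h'; omega
      rw [hN m b (by omega), if_neg hmb, mul_zero]
    · by_cases ham : a = m
      · subst ham
        rw [hN a b hle, if_neg hab, mul_zero]
      · rw [hM a m h1, if_neg ham, zero_mul]

theorem GU_inv (D : ChevalleyDatum) (tab : List (List ℤ)) (J : Set ℕ) (g : GL D.Idx F)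
    (hg : GU D tab J (g : Matrix D.Idx D.Idx F)) :
    GU D tab J ((g⁻¹ : GL D.Idx F) : Matrix D.Idx D.Idx F) := by
  classical
  have hBT : Matrix.BlockTriangular (g : Matrix D.Idx D.Idx F)
      (fun i => OrderDual.toDual (lev D tab J i)) := by
    intro i j hij
    have hlt : lev D tab J i < lev D tab J j := hij
    have hne : i ≠ j := by intro h'; subst h'; omega
    rw [hg i j hlt.le, if_neg hne]
  have hinvt : Invertible (g : Matrix D.Idx D.Idx F) := g.invertible
  have hBTinv := Matrix.blockTriangular_inv_of_blockTriangular hBT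
  have hinv : ((g⁻¹ : GL D.Idx F) : Matrix D.Idx D.Idx F) = (g : Matrix D.Idx D.Idx F)⁻¹ :=
    Matrix.coe_units_inv g
  rw [hinv]
  have hz : ∀ a b : D.Idx, lev D tab J a < lev D tab J b →
      (g : Matrix D.Idx D.Idx F)⁻¹ a b = 0 := by
    intro a b hlt
    exact hBTinv (show OrderDual.toDual (lev D tab J b) < OrderDual.toDual (lev D tab J a)
      from hlt)
  intro a b hle
  rcases hle.lt_or_eq with hlt | heq
  · have hne : a ≠ b := by intro h'; subst h'; omega
    rw [if_neg hne]
    exact hz a b hlt
  · have hmul : (g : Matrix D.Idx D.Idx F) * (g : Matrix D.Idx D.Idx F)⁻¹ = 1 :=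
      Matrix.mul_inv_of_invertible _
    have h1 := congrFun (congrFun hmul a) b
    rw [Matrix.mul_apply, Matrix.one_apply, Finset.sum_eq_single a] at h1
    · rw [hg a a le_rfl, if_pos rfl, one_mul] at h1
      exact h1
    · intro m _ hm
      rcases lt_or_ge (lev D tab J m) (lev D tab J a) with h2 | h2
      · rw [hz m b (by omega), mul_zero]
      · rw [hg a m h2, if_neg (Ne.symm hm), zero_mul]
    · intro hn; exact absurd (Finset.mem_univ _) hn

/-- a matrix that is both block diagonal and level-unipotent is the identity -/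
theorem eq_one_of_G0_GU (D : ChevalleyDatum) (tab : List (List ℤ)) (J : Set ℕ)
    (M : Matrix D.Idx D.Idx F) (h0 : G0 D tab J M) (hU : GU D tab J M) : M = 1 := by
  ext a b
  rw [Matrix.one_apply]
  rcases le_or_gt (lev D tab J a) (lev D tab J b) with hle | hgt
  · exact hU a b hle
  · have hab : a ≠ b := by intro h'; subst h'; omega
    rw [if_neg hab]
    by_contra hne
    have := h0 a b hne
    omega

end

end Cfsg.Agent.helper6.Level
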