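import Mathlib
import Cfsg.Agent.Lib_helper6_ParaChk

set_option autoImplicit false

/-! Roots occurring in commutators with `x_{±p}`, `p` fundamental, keep their support outside
`p` (helper6). -/

namespace Cfsg.Agent.helper6.Para

open Cfsg.Lie

def leviCommCheckS (D : ChevalleyDatum) (i s : ℕ) : Bool :=
  !decide (D.IsPosRoot s) || (s == D.simple i) ||
    (((D.commTerms (D.simple i) s).all fun c => (List.range D.rank).all fun k =>
        (k == i) || (cor D s k == 0) || (cor D c.1 k != 0)) &&
     ((D.commTerms (D.neg (D.simple i)) s).all fun c => (List.range D.rank).all fun k =>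
        (k == i) || (cor D s k == 0) || (cor D c.1 k != 0)))

def leviCommCheckRange (D : ChevalleyDatum) (i lo n : ℕ) : Bool :=
  (List.range n).all fun k => leviCommCheckS D i (lo + k)

/-- the roots in the commutators of `x_{±p_i}` with `x_s`, `s > 0`, `s ≠ p_i`, have nonzero
coefficient wherever `s` has one, outside `p_i` -/
def LeviCommOK (D : ChevalleyDatum) : Prop :=
  ∀ i < D.rank, ∀ s < D.nroots, D.IsPosRoot s → s ≠ D.simple i →
    (∀ c ∈ D.commTerms (D.simple i) s, ∀ k < D.rank, k ≠ i → cor D s k ≠ 0 → cor D c.1 k ≠ 0) ∧
    (∀ c ∈ D.commTerms (D.neg (D.simple i)) s, ∀ k < D.rank, k ≠ i → cor D s k ≠ 0 →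
      cor D c.1 k ≠ 0)

theorem leviCommOK_of_chunks (D : ChevalleyDatum) (n m : ℕ) (hn : 0 < n) (hm : D.nroots ≤ m * n)
    (h : ∀ i < D.rank, ∀ k < m, leviCommCheckRange D i (k * n) n = true) : LeviCommOK D := by
  intro i hi
  have key : ∀ s < D.nroots, leviCommCheckS D i s = true := by
    refine range_of_chunks6 (fun s => leviCommCheckS D i s = true) D.nroots n m hn hm ?_
    intro k hk j hj
    have h3 := h i hi k hk
    unfold leviCommCheckRange at h3
    rw [List.all_eq_true] at h3
    exact h3 j (List.mem_range.mpr hj)
  intro s hs hp hne
  have h1 := key s hs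
  unfold leviCommCheckS at h1
  simp only [Bool.or_eq_true, Bool.and_eq_true, Bool.not_eq_true', decide_eq_false_iff_not,
    beq_iff_eq, List.all_eq_true, List.mem_range, bne_iff_ne, ne_eq] at h1
  rcases h1 with (h1 | h1) | h1
  · exact absurd hp h1
  · exact absurd h1 hne
  · constructor
    · intro c hc k hk hki hsk
      rcases h1.1 c hc k hk with (h2 | h2) | h2
      · exact absurd h2 hki
      · exact absurd h2 hsk
      · exact h2
    · intro c hc k hk hki hsk
      rcases h1.2 c hc k hk with (h2 | h2) | h2
      · exact absurd h2 hki
      · exact absurd h2 hsk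
      · exact h2

set_option maxRecDepth 1000000 in
set_option maxHeartbeats 0 in
theorem leviC_G2_0 : leviCommCheckRange chevG2 0 0 12 = true := by decide +kernel

set_option maxRecDepth 1000000 in
set_option maxHeartbeats 0 in
theorem leviC_G2_1 : leviCommCheckRange chevG2 1 0 12 = true := by decide +kernel

theorem leviCommOK_G2 : LeviCommOK chevG2 := by
  apply leviCommOK_of_chunks chevG2 12 1 (by decide +kernel) (by decide +kernel)
  intro i hi
  have hn : chevG2.rank = 2 := rfl
  rw [hn] at hi
  interval_cases i
  · intro k hk
    interval_cases k
    · exact leviC_G2_0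
  · intro k hk
    interval_cases k
    · exact leviC_G2_1

set_option maxRecDepth 1000000 in
set_option maxHeartbeats 0 in
theorem leviC_B2_0 : leviCommCheckRange chevB2 0 0 8 = true := by decide +kernel

set_option maxRecDepth 1000000 in
set_option maxHeartbeats 0 in
theorem leviC_B2_1 : leviCommCheckRange chevB2 1 0 8 = true := by decide +kernel

theorem leviCommOK_B2 : LeviCommOK chevB2 := by
  apply leviCommOK_of_chunks chevB2 8 1 (by decide +kernel) (by decide +kernel)
  intro i hi
  have hn : chevB2.rank = 2 := rfl
  rw [hn] at hi
  interval_cases i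
  · intro k hk
    interval_cases k
    · exact leviC_B2_0
  · intro k hk
    interval_cases k
    · exact leviC_B2_1

set_option maxRecDepth 1000000 in
set_option maxHeartbeats 0 in
theorem leviC_D4_0 : leviCommCheckRange chevD4 0 0 24 = true := by decide +kernel

set_option maxRecDepth 1000000 in
set_option maxHeartbeats 0 in
theorem leviC_D4_1 : leviCommCheckRange chevD4 1 0 24 = true := by decide +kernel

set_option maxRecDepth 1000000 in
set_option maxHeartbeats 0 in
theorem leviC_D4_2 : leviCommCheckRange chevD4 2 0 24 = true := by decide +kernel

set_option maxRecDepth 1000000 in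
set_option maxHeartbeats 0 in
theorem leviC_D4_3 : leviCommCheckRange chevD4 3 0 24 = true := by decide +kernel

theorem leviCommOK_D4 : LeviCommOK chevD4 := by
  apply leviCommOK_of_chunks chevD4 24 1 (by decide +kernel) (by decide +kernel)
  intro i hi
  have hn : chevD4.rank = 4 := rfl
  rw [hn] at hi
  interval_cases i
  · intro k hk
    interval_cases k
    · exact leviC_D4_0
  · intro k hk
    interval_cases k
    · exact leviC_D4_1
  · intro k hk
    interval_cases k
    · exact leviC_D4_2
  · intro k hk
    interval_cases k
    · exact leviC_D4_3

set_option maxRecDepth 1000000 in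
set_option maxHeartbeats 0 in
theorem leviC_F4_0 : leviCommCheckRange chevF4 0 0 48 = true := by decide +kernel

set_option maxRecDepth 1000000 in
set_option maxHeartbeats 0 in
theorem leviC_F4_1 : leviCommCheckRange chevF4 1 0 48 = true := by decide +kernel

set_option maxRecDepth 1000000 in
set_option maxHeartbeats 0 in
theorem leviC_F4_2 : leviCommCheckRange chevF4 2 0 48 = true := by decide +kernel

set_option maxRecDepth 1000000 in
set_option maxHeartbeats 0 in
theorem leviC_F4_3 : leviCommCheckRange chevF4 3 0 48 = true := by decide +kernel

theorem leviCommOK_F4 : LeviCommOK chevF4 := by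
  apply leviCommOK_of_chunks chevF4 48 1 (by decide +kernel) (by decide +kernel)
  intro i hi
  have hn : chevF4.rank = 4 := rfl
  rw [hn] at hi
  interval_cases i
  · intro k hk
    interval_cases k
    · exact leviC_F4_0
  · intro k hk
    interval_cases k
    · exact leviC_F4_1
  · intro k hk
    interval_cases k
    · exact leviC_F4_2
  · intro k hk
    interval_cases k
    · exact leviC_F4_3

set_option maxRecDepth 1000000 in
set_option maxHeartbeats 0 in
theorem leviC_E6_0 : leviCommCheckRange chevE6 0 0 72 = true := by decide +kernel

set_option maxRecDepth 1000000 in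
set_option maxHeartbeats 0 in
theorem leviC_E6_1 : leviCommCheckRange chevE6 1 0 72 = true := by decide +kernel

set_option maxRecDepth 1000000 in
set_option maxHeartbeats 0 in
theorem leviC_E6_2 : leviCommCheckRange chevE6 2 0 72 = true := by decide +kernel

set_option maxRecDepth 1000000 in
set_option maxHeartbeats 0 in
theorem leviC_E6_3 : leviCommCheckRange chevE6 3 0 72 = true := by decide +kernel

set_option maxRecDepth 1000000 in
set_option maxHeartbeats 0 in
theorem leviC_E6_4 : leviCommCheckRange chevE6 4 0 72 = true := by decide +kernel

set_option maxRecDepth 1000000 in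
set_option maxHeartbeats 0 in
theorem leviC_E6_5 : leviCommCheckRange chevE6 5 0 72 = true := by decide +kernel

theorem leviCommOK_E6 : LeviCommOK chevE6 := by
  apply leviCommOK_of_chunks chevE6 72 1 (by decide +kernel) (by decide +kernel)
  intro i hi
  have hn : chevE6.rank = 6 := rfl
  rw [hn] at hi
  interval_cases i
  · intro k hk
    interval_cases k
    · exact leviC_E6_0
  · intro k hk
    interval_cases k
    · exact leviC_E6_1
  · intro k hk
    interval_cases k
    · exact leviC_E6_2
  · intro k hk
    interval_cases k
    · exact leviC_E6_3
  · intro k hk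
    interval_cases k
    · exact leviC_E6_4
  · intro k hk
    interval_cases k
    · exact leviC_E6_5

set_option maxRecDepth 1000000 in
set_option maxHeartbeats 0 in
theorem leviC_E7_0 : leviCommCheckRange chevE7 0 0 126 = true := by decide +kernel

set_option maxRecDepth 1000000 in
set_option maxHeartbeats 0 in
theorem leviC_E7_1 : leviCommCheckRange chevE7 1 0 126 = true := by decide +kernel

set_option maxRecDepth 1000000 in
set_option maxHeartbeats 0 in
theorem leviC_E7_2 : leviCommCheckRange chevE7 2 0 126 = true := by decide +kernel

set_option maxRecDepth 1000000 in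
set_option maxHeartbeats 0 in
theorem leviC_E7_3 : leviCommCheckRange chevE7 3 0 126 = true := by decide +kernel

set_option maxRecDepth 1000000 in
set_option maxHeartbeats 0 in
theorem leviC_E7_4 : leviCommCheckRange chevE7 4 0 126 = true := by decide +kernel

set_option maxRecDepth 1000000 in
set_option maxHeartbeats 0 in
theorem leviC_E7_5 : leviCommCheckRange chevE7 5 0 126 = true := by decide +kernel

set_option maxRecDepth 1000000 in
set_option maxHeartbeats 0 in
theorem leviC_E7_6 : leviCommCheckRange chevE7 6 0 126 = true := by decide +kernel

theorem leviCommOK_E7 : LeviCommOK chevE7 := by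
  apply leviCommOK_of_chunks chevE7 126 1 (by decide +kernel) (by decide +kernel)
  intro i hi
  have hn : chevE7.rank = 7 := rfl
  rw [hn] at hi
  interval_cases i
  · intro k hk
    interval_cases k
    · exact leviC_E7_0
  · intro k hk
    interval_cases k
    · exact leviC_E7_1
  · intro k hk
    interval_cases k
    · exact leviC_E7_2
  · intro k hk
    interval_cases k
    · exact leviC_E7_3
  · intro k hk
    interval_cases k
    · exact leviC_E7_4
  · intro k hk
    interval_cases k
    · exact leviC_E7_5
  · intro k hk
    interval_cases k
    · exact leviC_E7_6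

set_option maxRecDepth 1000000 in
set_option maxHeartbeats 0 in
theorem leviC_E8_0 : leviCommCheckRange chevE8 0 0 240 = true := by decide +kernel

set_option maxRecDepth 1000000 in
set_option maxHeartbeats 0 in
theorem leviC_E8_1 : leviCommCheckRange chevE8 1 0 240 = true := by decide +kernel

set_option maxRecDepth 1000000 in
set_option maxHeartbeats 0 in
theorem leviC_E8_2 : leviCommCheckRange chevE8 2 0 240 = true := by decide +kernel

set_option maxRecDepth 1000000 in
set_option maxHeartbeats 0 in
theorem leviC_E8_3 : leviCommCheckRange chevE8 3 0 240 = true := by decide +kernel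

set_option maxRecDepth 1000000 in
set_option maxHeartbeats 0 in
theorem leviC_E8_4 : leviCommCheckRange chevE8 4 0 240 = true := by decide +kernel

set_option maxRecDepth 1000000 in
set_option maxHeartbeats 0 in
theorem leviC_E8_5 : leviCommCheckRange chevE8 5 0 240 = true := by decide +kernel

set_option maxRecDepth 1000000 in
set_option maxHeartbeats 0 in
theorem leviC_E8_6 : leviCommCheckRange chevE8 6 0 240 = true := by decide +kernel

set_option maxRecDepth 1000000 in
set_option maxHeartbeats 0 in
theorem leviC_E8_7 : leviCommCheckRange chevE8 7 0 240 = true := by decide +kernel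

theorem leviCommOK_E8 : LeviCommOK chevE8 := by
  apply leviCommOK_of_chunks chevE8 240 1 (by decide +kernel) (by decide +kernel)
  intro i hi
  have hn : chevE8.rank = 8 := rfl
  rw [hn] at hi
  interval_cases i
  · intro k hk
    interval_cases k
    · exact leviC_E8_0
  · intro k hk
    interval_cases k
    · exact leviC_E8_1
  · intro k hk
    interval_cases k
    · exact leviC_E8_2
  · intro k hk
    interval_cases k
    · exact leviC_E8_3
  · intro k hk
    interval_cases k
    · exact leviC_E8_4
  · intro k hk
    interval_cases k
    · exact leviC_E8_5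
  · intro k hk
    interval_cases k
    · exact leviC_E8_6
  · intro k hk
    interval_cases k
    · exact leviC_E8_7

theorem leviCommOK_of_mem (D : ChevalleyDatum)
    (hD : D ∈ [chevG2, chevB2, chevD4, chevF4, chevE6, chevE7, chevE8]) : LeviCommOK D := by
  simp only [List.mem_cons, List.not_mem_nil, or_false] at hD
  rcases hD with rfl | rfl | rfl | rfl | rfl | rfl | rfl
  · exact leviCommOK_G2
  · exact leviCommOK_B2
  · exact leviCommOK_D4
  · exact leviCommOK_F4
  · exact leviCommOK_E6
  · exact leviCommOK_E7
  · exact leviCommOK_E8

end Cfsg.Agent.helper6.Para
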