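import Mathlib
import Cfsg.Agent.Lib_helper5_ChevBN1
import Cfsg.Agent.Lib_helper6_ParaChk

set_option autoImplicit false

/-! Standard parabolic subgroups of Chevalley groups are generated by `H` and root subgroups
(helper6). -/

namespace Cfsg.Agent.helper6.Para

open Cfsg.Lie Cfsg.Agent.helper5.Chev

theorem inRootSub_iff (D : ChevalleyDatum) (J : Set ℕ) (r : ℕ) :
    D.InRootSub J r ↔ r < D.nroots ∧ ∀ i < D.rank, i ∉ J → cor D r i = 0 := Iff.rfl

/-- root induction inside the subsystem spanned by the fundamental roots in `J` -/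
theorem SupOK.induction {D : ChevalleyDatum} (h : SupOK D) (hR : RootsOK D) (J : Set ℕ)
    (P : ℕ → Prop)
    (hsimple : ∀ i < D.rank, i ∈ J → P (D.simple i) ∧ P (D.neg (D.simple i)))
    (hstep : ∀ i < D.rank, i ∈ J → ∀ s, D.InRootSub J s → P s → P (D.reflectRoot i s)) :
    ∀ s, D.InRootSub J s → P s := by
  have key : ∀ n : ℕ, ∀ s, D.InRootSub J s → mu6 D s = n → P s := by
    intro n
    induction n using Nat.strong_induction_on with
    | _ n ih =>
      intro s hs hn
      have hs' := (inRootSub_iff D J s).mp hs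
      rcases h.step s hs'.1 with ⟨i, hi, hsi⟩ | ⟨i, hi, hci, hlt⟩
      · have hiJ : i ∈ J := by
          by_contra hiJ
          have h0 := hs'.2 i hi hiJ
          rcases hsi with rfl | rfl
          · exact h.simple_cor i hi h0
          · exact h.negsimple_cor i hi h0
        rcases hsi with rfl | rfl
        · exact (hsimple i hi hiJ).1
        · exact (hsimple i hi hiJ).2
      · have hiJ : i ∈ J := by
          by_contra hiJ
          exact hci (hs'.2 i hi hiJ)
        have hlt' := hR.refl_lt i hi s hs'.1
        have hsub : D.InRootSub J (D.reflectRoot i s) := by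
          rw [inRootSub_iff]
          refine ⟨hlt', ?_⟩
          intro k hk hkJ
          have hki : k ≠ i := by
            rintro rfl
            exact hkJ hiJ
          rw [h.refl_cor s hs'.1 i hi k hk hki]
          exact hs'.2 k hk hkJ
        have h1 := ih (mu6 D (D.reflectRoot i s)) (by omega) (D.reflectRoot i s) hsub rfl
        have h2 := hstep i hi hiJ _ hsub h1
        rwa [hR.refl_refl i hi s hs'.1] at h2
  intro s hs
  exact key _ s hs rfl

section
variable {F : Type*} [Field F] (D : ChevalleyDatum)
  (hD : D ∈ [chevG2, chevB2, chevD4, chevF4, chevE6, chevE7, chevE8])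

theorem nG_mem_parabolic (J : Set ℕ) (i : ℕ) (hi : i < D.rank) (hiJ : i ∈ J) :
    nGt D hD (D.simple i) (1 : F) ∈ D.parabolicSubgroup F J := by
  unfold ChevalleyDatum.parabolicSubgroup
  apply Subgroup.mem_sup_right
  apply Subgroup.subset_closure
  exact ⟨i, hiJ, hi, nGt_val D hD _ 1⟩

theorem xG_pos_mem_parabolic (J : Set ℕ) (r : ℕ) (hr : D.IsPosRoot r) (t : F) :
    xG D hD r t ∈ D.parabolicSubgroup F J := by
  unfold ChevalleyDatum.parabolicSubgroup
  apply Subgroup.mem_sup_left
  unfold ChevalleyDatum.borelSubgroup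
  apply Subgroup.mem_sup_left
  unfold ChevalleyDatum.posUnipotent
  apply Subgroup.subset_closure
  exact ⟨r, t, hr, rfl⟩

/-- root elements for roots of the subsystem lie in the parabolic subgroup -/
theorem xG_sub_mem_parabolic (J : Set ℕ) (s : ℕ) (hs : D.InRootSub J s) :
    ∀ t : F, xG D hD s t ∈ D.parabolicSubgroup F J := by
  have hR := rootsOK_of_mem D hD
  have hS := supOK_of_mem D hD
  refine hS.induction hR J (fun r => ∀ t : F, xG D hD r t ∈ D.parabolicSubgroup F J) ?_ ?_ s hs
  · intro i hi hiJ
    have hpos : ∀ t : F, xG D hD (D.simple i) t ∈ D.parabolicSubgroup F J :=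
      fun t => xG_pos_mem_parabolic D hD J _ (hR.simple_pos i hi) t
    refine ⟨hpos, ?_⟩
    intro t
    have h1 := nG_mem_parabolic (F := F) D hD J i hi hiJ
    have h2 := Subgroup.mul_mem _ (Subgroup.mul_mem _ h1
      (hpos (((etaOf D i (D.simple i) : ℤ) : F) * t))) (Subgroup.inv_mem _ h1)
    rw [nG_conj D hD i hi _ (hR.simple_lt i hi), ← mul_assoc,
      eta_cast_sq D hD i _ hi (hR.simple_lt i hi), one_mul, hR.refl_simple i hi] at h2
    exact h2
  · intro i hi hiJ s hs hP t
    have h1 := nG_mem_parabolic (F := F) D hD J i hi hiJ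
    have h2 := Subgroup.mul_mem _ (Subgroup.mul_mem _ h1 (hP (((etaOf D i s : ℤ) : F) * t)))
      (Subgroup.inv_mem _ h1)
    rw [nG_conj D hD i hi s hs.1, ← mul_assoc, eta_cast_sq D hD i s hi hs.1, one_mul] at h2
    exact h2

include hD in
theorem parabolic_eq (J : Set ℕ) :
    D.parabolicSubgroup F J = D.diagonalSubgroup F ⊔
      Subgroup.closure {g : GL D.Idx F | ∃ (r : ℕ) (t : F),
        (D.IsPosRoot r ∨ D.InRootSub J r) ∧ (g : Matrix D.Idx D.Idx F) = D.x F r t} := by
  have hR := rootsOK_of_mem D hD
  have hS := supOK_of_mem D hD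
  apply le_antisymm
  · unfold ChevalleyDatum.parabolicSubgroup
    apply sup_le
    · unfold ChevalleyDatum.borelSubgroup
      apply sup_le
      · apply le_trans _ le_sup_right
        unfold ChevalleyDatum.posUnipotent
        apply Subgroup.closure_mono
        rintro g ⟨r, t, hr, hg⟩
        exact ⟨r, t, Or.inl hr, hg⟩
      · exact le_sup_left
    · rw [Subgroup.closure_le]
      rintro g ⟨j, hjJ, hj, hg⟩
      have hg' : g = nGt D hD (D.simple j) 1 := Units.ext (by rw [hg, nGt_val])
      rw [hg']
      apply Subgroup.mem_sup_right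
      have hp : ∀ t : F, xG D hD (D.simple j) t ∈ Subgroup.closure {g : GL D.Idx F |
          ∃ (r : ℕ) (t : F), (D.IsPosRoot r ∨ D.InRootSub J r) ∧
            (g : Matrix D.Idx D.Idx F) = D.x F r t} := by
        intro t
        apply Subgroup.subset_closure
        exact ⟨D.simple j, t, Or.inl (hR.simple_pos j hj), rfl⟩
      have hn : ∀ t : F, xG D hD (D.neg (D.simple j)) t ∈ Subgroup.closure {g : GL D.Idx F |
          ∃ (r : ℕ) (t : F), (D.IsPosRoot r ∨ D.InRootSub J r) ∧
            (g : Matrix D.Idx D.Idx F) = D.x F r t} := by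
        intro t
        apply Subgroup.subset_closure
        refine ⟨D.neg (D.simple j), t, Or.inr ?_, rfl⟩
        rw [inRootSub_iff]
        refine ⟨hR.neg_lt _ (hR.simple_lt j hj), ?_⟩
        intro k hk hkJ
        have hkj : k ≠ j := by
          rintro rfl
          exact hkJ hjJ
        exact hS.negsimple_zero j hj k hk hkj
      unfold nGt
      exact Subgroup.mul_mem _ (Subgroup.mul_mem _ (hp _) (hn _)) (hp _)
  · apply sup_le
    · unfold ChevalleyDatum.parabolicSubgroup ChevalleyDatum.borelSubgroup
      exact le_trans le_sup_right le_sup_left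
    · rw [Subgroup.closure_le]
      rintro g ⟨r, t, hr, hg⟩
      have hg' : g = xG D hD r t := eq_xG D hD g r t hg
      rw [hg']
      rcases hr with hr | hr
      · exact xG_pos_mem_parabolic D hD J r hr t
      · exact xG_sub_mem_parabolic D hD J r hr t

end

end Cfsg.Agent.helper6.Para
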