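import Mathlib
import Cfsg.Agent.Lib_helper5_ChevBN3
import Cfsg.Agent.Lib_helper5_ChevCerts
import Cfsg.Agent.Lib_helper6_Para
import Cfsg.Agent.Lib_helper6_LeviChk
import Cfsg.Agent.Lib_helper6_Level

set_option autoImplicit false

/-! Levi decomposition of the standard parabolic subgroups of Chevalley groups (helper6). -/

namespace Cfsg.Agent.helper6.Levi

open Cfsg.Lie Cfsg.Agent.helper5.Chev Cfsg.Agent.helper6.Para Cfsg.Agent.helper6.Level

section
variable {F : Type*} [Field F] (D : ChevalleyDatum)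
  (hD : D ∈ [chevG2, chevB2, chevD4, chevF4, chevE6, chevE7, chevE8])

/-- the generating set of `U_J` -/
def UJset (J : Set ℕ) : Set (GL D.Idx F) :=
  {g | ∃ (r : ℕ) (t : F), D.IsPosRoot r ∧ ¬ D.InRootSub J r ∧
    (g : Matrix D.Idx D.Idx F) = D.x F r t}

theorem unipotentRadical_eq (J : Set ℕ) :
    D.unipotentRadical F J = Subgroup.closure (UJset (F := F) D J) := rfl

theorem xG_mem_UJ (J : Set ℕ) (r : ℕ) (hr : D.IsPosRoot r) (hn : ¬ D.InRootSub J r) (t : F) :
    xG D hD r t ∈ Subgroup.closure (UJset (F := F) D J) :=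
  Subgroup.subset_closure ⟨r, t, hr, hn, rfl⟩

include hD in
theorem simple_inRootSub (J : Set ℕ) (j : ℕ) (hj : j < D.rank) (hjJ : j ∈ J) :
    D.InRootSub J (D.simple j) := by
  have hR := rootsOK_of_mem D hD
  have hS := supOK_of_mem D hD
  rw [inRootSub_iff]
  refine ⟨hR.simple_lt j hj, ?_⟩
  intro k hk hkJ
  have hkj : k ≠ j := by
    rintro rfl
    exact hkJ hjJ
  exact hS.simple_zero j hj k hk hkj

include hD in
theorem negsimple_inRootSub (J : Set ℕ) (j : ℕ) (hj : j < D.rank) (hjJ : j ∈ J) :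
    D.InRootSub J (D.neg (D.simple j)) := by
  have hR := rootsOK_of_mem D hD
  have hS := supOK_of_mem D hD
  rw [inRootSub_iff]
  refine ⟨hR.neg_lt _ (hR.simple_lt j hj), ?_⟩
  intro k hk hkJ
  have hkj : k ≠ j := by
    rintro rfl
    exact hkJ hjJ
  exact hS.negsimple_zero j hj k hk hkj

include hD in
/-- a fundamental reflection in `J` permutes the positive roots outside `Φ_J` -/
theorem refl_notSub (J : Set ℕ) (j : ℕ) (hj : j < D.rank) (hjJ : j ∈ J) (s : ℕ)
    (hs : D.IsPosRoot s) (hn : ¬ D.InRootSub J s) :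
    D.IsPosRoot (D.reflectRoot j s) ∧ ¬ D.InRootSub J (D.reflectRoot j s) := by
  have hR := rootsOK_of_mem D hD
  have hS := supOK_of_mem D hD
  have hne : s ≠ D.simple j := by
    rintro rfl
    exact hn (simple_inRootSub D hD J j hj hjJ)
  refine ⟨hR.refl_pos j hj s hs.1 hs hne, ?_⟩
  intro hsub
  apply hn
  rw [inRootSub_iff] at hsub ⊢
  refine ⟨hs.1, ?_⟩
  intro k hk hkJ
  have hkj : k ≠ j := by
    rintro rfl
    exact hkJ hjJ
  rw [← hS.refl_cor s hs.1 j hj k hk hkj]
  exact hsub.2 k hk hkJ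

/-- `n_{p_j}`, `j ∈ J`, normalises `U_J` -/
theorem nG_mem_normalizer_UJ (J : Set ℕ) (j : ℕ) (hj : j < D.rank) (hjJ : j ∈ J) :
    nGt D hD (D.simple j) (1 : F) ∈
      Subgroup.normalizer (Subgroup.closure (UJset (F := F) D J) : Set (GL D.Idx F)) := by
  apply mem_normalizer_closure
  · rintro g ⟨s, u, hs, hn, hg⟩
    rw [eq_xG D hD g s u hg, nG_conj D hD j hj s hs.1]
    have h1 := refl_notSub D hD J j hj hjJ s hs hn
    exact xG_mem_UJ D hD J _ h1.1 h1.2 _
  · rintro g ⟨s, u, hs, hn, hg⟩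
    rw [eq_xG D hD g s u hg, nG_conj_inv D hD j hj s hs.1]
    have h1 := refl_notSub D hD J j hj hjJ s hs hn
    exact xG_mem_UJ D hD J _ h1.1 h1.2 _

include hD in
/-- `H` normalises `U_J` -/
theorem H_le_normalizer_UJ (J : Set ℕ) :
    D.diagonalSubgroup F ≤
      Subgroup.normalizer (Subgroup.closure (UJset (F := F) D J) : Set (GL D.Idx F)) := by
  intro h hh
  apply mem_normalizer_closure
  · rintro g ⟨s, u, hs, hn, hg⟩
    obtain ⟨χ, _, hχ⟩ := H_conj D hD h hh s hs.1
    rw [eq_xG D hD g s u hg, hχ u]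
    exact xG_mem_UJ D hD J s hs hn _
  · rintro g ⟨s, u, hs, hn, hg⟩
    obtain ⟨χ, _, hχ⟩ := H_conj D hD h⁻¹ (Subgroup.inv_mem _ hh) s hs.1
    have h1 := hχ u
    rw [inv_inv] at h1
    rw [eq_xG D hD g s u hg, h1]
    exact xG_mem_UJ D hD J s hs hn _

/-- the commutator word lies in `U_J` when all its roots are positive and outside `Φ_J` -/
theorem cwG_mem_UJ (J : Set ℕ) (r s : ℕ) (t u : F)
    (h : ∀ c ∈ D.commTerms r s, D.IsPosRoot c.1 ∧ ¬ D.InRootSub J c.1) :
    cwG D hD r s t u ∈ Subgroup.closure (UJset (F := F) D J) := by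
  unfold cwG
  apply Subgroup.list_prod_mem
  intro g hg
  rw [List.mem_map] at hg
  obtain ⟨c, hc, rfl⟩ := hg
  exact xG_mem_UJ D hD J c.1 (h c hc).1 (h c hc).2 _

theorem xG_conj_mem_UJ (J : Set ℕ) (r s : ℕ) (hs : D.IsPosRoot s) (hn : ¬ D.InRootSub J s)
    (hcomm : CommF D hD r s (F := F))
    (h : ∀ c ∈ D.commTerms r s, D.IsPosRoot c.1 ∧ ¬ D.InRootSub J c.1) (t u : F) :
    xG D hD r t * xG D hD s u * (xG D hD r t)⁻¹ ∈ Subgroup.closure (UJset (F := F) D J) := by
  have h1 := hcomm (-t) u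
  have e : xG D hD r t * xG D hD s u * (xG D hD r t)⁻¹ =
      xG D hD s u * cwG D hD r s (-t) u := by
    rw [xG_inv, mul_assoc, h1, ← mul_assoc, ← mul_assoc, xG_mul, add_neg_cancel, xG_zero, one_mul]
  rw [e]
  exact Subgroup.mul_mem _ (xG_mem_UJ D hD J s hs hn u) (cwG_mem_UJ D hD J r s (-t) u h)

include hD in
/-- the roots of a commutator with `x_{±p_j}`, `j ∈ J`, stay outside `Φ_J` -/
theorem comm_notSub (J : Set ℕ) (j : ℕ) (hj : j < D.rank) (hjJ : j ∈ J) (s : ℕ)
    (hs : D.IsPosRoot s) (hn : ¬ D.InRootSub J s) :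
    (∀ c ∈ D.commTerms (D.simple j) s, D.IsPosRoot c.1 ∧ ¬ D.InRootSub J c.1) ∧
    (∀ c ∈ D.commTerms (D.neg (D.simple j)) s, D.IsPosRoot c.1 ∧ ¬ D.InRootSub J c.1) := by
  have hP := posCommOK_of_mem D hD
  have hL := leviCommOK_of_mem D hD
  have hne : s ≠ D.simple j := by
    rintro rfl
    exact hn (simple_inRootSub D hD J j hj hjJ)
  have hex : ∃ k < D.rank, k ∉ J ∧ cor D s k ≠ 0 := by
    by_contra hcon
    push Not at hcon
    exact hn ⟨hs.1, fun k hk hkJ => hcon k hk hkJ⟩
  obtain ⟨k, hk, hkJ, hsk⟩ := hex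
  have hkj : k ≠ j := by
    rintro rfl
    exact hkJ hjJ
  constructor
  · intro c hc
    refine ⟨((hP j hj s hs.1 hs hne).1 c hc).1, ?_⟩
    intro hsub
    exact (hL j hj s hs.1 hs hne).1 c hc k hk hkj hsk (hsub.2 k hk hkJ)
  · intro c hc
    refine ⟨((hP j hj s hs.1 hs hne).2 c hc).1, ?_⟩
    intro hsub
    exact (hL j hj s hs.1 hs hne).2 c hc k hk hkj hsk (hsub.2 k hk hkJ)

/-- `x_{p_j}(t)`, `j ∈ J`, normalises `U_J` -/
theorem xG_simple_mem_normalizer_UJ (J : Set ℕ) (j : ℕ) (hj : j < D.rank) (hjJ : j ∈ J) (t : F) :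
    xG D hD (D.simple j) t ∈
      Subgroup.normalizer (Subgroup.closure (UJset (F := F) D J) : Set (GL D.Idx F)) := by
  have hR := rootsOK_of_mem D hD
  have hC := commOK_of_mem D hD
  have key : ∀ t : F, ∀ g ∈ UJset (F := F) D J,
      xG D hD (D.simple j) t * g * (xG D hD (D.simple j) t)⁻¹ ∈
        Subgroup.closure (UJset (F := F) D J) := by
    rintro t g ⟨s, u, hs, hn, hg⟩
    rw [eq_xG D hD g s u hg]
    have hne : s ≠ D.simple j := by
      rintro rfl
      exact hn (simple_inRootSub D hD J j hj hjJ)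
    have hsn : s ≠ D.neg (D.simple j) := by
      intro h'
      rw [h'] at hs
      exact hR.not_pos_and_neg _ hs (hR.neg_pos _ (hR.simple_pos j hj))
    exact xG_conj_mem_UJ D hD J (D.simple j) s hs hn
      (commF_of_ok D hD hC _ (hR.simple_lt j hj) s hs.1 hne hsn)
      (comm_notSub D hD J j hj hjJ s hs hn).1 t u
  apply mem_normalizer_closure
  · exact key t
  · intro g hg
    have := key (-t) g hg
    rwa [← xG_inv, inv_inv] at this

/-- `x_{-p_j}(t)`, `j ∈ J`, normalises `U_J` -/
theorem xG_negsimple_mem_normalizer_UJ (J : Set ℕ) (j : ℕ) (hj : j < D.rank) (hjJ : j ∈ J)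
    (t : F) :
    xG D hD (D.neg (D.simple j)) t ∈
      Subgroup.normalizer (Subgroup.closure (UJset (F := F) D J) : Set (GL D.Idx F)) := by
  have hR := rootsOK_of_mem D hD
  have hC := commOK_of_mem D hD
  have hsl := hR.simple_lt j hj
  have key : ∀ t : F, ∀ g ∈ UJset (F := F) D J,
      xG D hD (D.neg (D.simple j)) t * g * (xG D hD (D.neg (D.simple j)) t)⁻¹ ∈
        Subgroup.closure (UJset (F := F) D J) := by
    rintro t g ⟨s, u, hs, hn, hg⟩
    rw [eq_xG D hD g s u hg]
    have hne : s ≠ D.simple j := by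
      rintro rfl
      exact hn (simple_inRootSub D hD J j hj hjJ)
    have hsn : s ≠ D.neg (D.simple j) := by
      intro h'
      rw [h'] at hs
      exact hR.not_pos_and_neg _ hs (hR.neg_pos _ (hR.simple_pos j hj))
    have hsn2 : s ≠ D.neg (D.neg (D.simple j)) := by
      rw [hR.neg_neg _ hsl]
      exact hne
    exact xG_conj_mem_UJ D hD J (D.neg (D.simple j)) s hs hn
      (commF_of_ok D hD hC _ (hR.neg_lt _ hsl) s hs.1 hsn hsn2)
      (comm_notSub D hD J j hj hjJ s hs hn).2 t u
  apply mem_normalizer_closure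
  · exact key t
  · intro g hg
    have := key (-t) g hg
    rwa [← xG_inv, inv_inv] at this

/-- every root element of the subsystem `Φ_J` normalises `U_J` -/
theorem xG_sub_mem_normalizer_UJ (J : Set ℕ) (s : ℕ) (hs : D.InRootSub J s) :
    ∀ t : F, xG D hD s t ∈
      Subgroup.normalizer (Subgroup.closure (UJset (F := F) D J) : Set (GL D.Idx F)) := by
  have hR := rootsOK_of_mem D hD
  have hS := supOK_of_mem D hD
  refine hS.induction hR J (fun r => ∀ t : F, xG D hD r t ∈
      Subgroup.normalizer (Subgroup.closure (UJset (F := F) D J) : Set (GL D.Idx F))) ?_ ?_ s hs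
  · intro i hi hiJ
    exact ⟨fun t => xG_simple_mem_normalizer_UJ D hD J i hi hiJ t,
      fun t => xG_negsimple_mem_normalizer_UJ D hD J i hi hiJ t⟩
  · intro i hi hiJ s hs hP t
    have h1 := nG_mem_normalizer_UJ (F := F) D hD J i hi hiJ
    have h2 := Subgroup.mul_mem _ (Subgroup.mul_mem _ h1 (hP (((etaOf D i s : ℤ) : F) * t)))
      (Subgroup.inv_mem _ h1)
    rw [nG_conj D hD i hi s hs.1, ← mul_assoc, eta_cast_sq D hD i s hi hs.1, one_mul] at h2
    exact h2

include hD in
/-- **`U_J` is normal in `P_J`.** -/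
theorem parabolic_le_normalizer (J : Set ℕ) :
    D.parabolicSubgroup F J ≤
      Subgroup.normalizer (D.unipotentRadical F J : Set (GL D.Idx F)) := by
  classical
  rw [parabolic_eq D hD J, unipotentRadical_eq]
  apply sup_le
  · exact H_le_normalizer_UJ D hD J
  · rw [Subgroup.closure_le]
    rintro g ⟨r, t, hr, hg⟩
    rw [eq_xG D hD g r t hg]
    by_cases hsub : D.InRootSub J r
    · exact xG_sub_mem_normalizer_UJ D hD J r hsub t
    · rcases hr with hr | hr
      · exact Subgroup.le_normalizer (xG_mem_UJ D hD J r hr hsub t)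
      · exact absurd hr hsub

include hD in
/-- **`P_J = U_J L_J`.** -/
theorem radical_sup_levi (J : Set ℕ) :
    D.unipotentRadical F J ⊔ D.leviSubgroup F J = D.parabolicSubgroup F J := by
  classical
  rw [parabolic_eq D hD J]
  apply le_antisymm
  · apply sup_le
    · apply le_trans _ le_sup_right
      unfold ChevalleyDatum.unipotentRadical
      apply Subgroup.closure_mono
      rintro g ⟨r, t, hr, _, hg⟩
      exact ⟨r, t, Or.inl hr, hg⟩
    · unfold ChevalleyDatum.leviSubgroup
      apply sup_le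
      · exact le_sup_left
      · apply le_trans _ le_sup_right
        apply Subgroup.closure_mono
        rintro g ⟨r, t, hr, hg⟩
        exact ⟨r, t, Or.inr hr, hg⟩
  · apply sup_le
    · apply le_trans _ le_sup_right
      unfold ChevalleyDatum.leviSubgroup
      exact le_sup_left
    · rw [Subgroup.closure_le]
      rintro g ⟨r, t, hr, hg⟩
      by_cases hsub : D.InRootSub J r
      · apply Subgroup.mem_sup_right
        unfold ChevalleyDatum.leviSubgroup
        apply Subgroup.mem_sup_right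
        apply Subgroup.subset_closure
        exact ⟨r, t, hsub, hg⟩
      · rcases hr with hr | hr
        · apply Subgroup.mem_sup_left
          unfold ChevalleyDatum.unipotentRadical
          apply Subgroup.subset_closure
          exact ⟨r, t, hr, hsub, hg⟩
        · exact absurd hr hsub

/-- elements of `U_J` are unipotent for the level filtration -/
theorem GU_of_mem_radical {tab : List (List ℤ)} (h : LvlOK D tab) (J : Set ℕ) (g : GL D.Idx F)
    (hg : g ∈ D.unipotentRadical F J) : GU D tab J (g : Matrix D.Idx D.Idx F) := by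
  unfold ChevalleyDatum.unipotentRadical at hg
  induction hg using Subgroup.closure_induction with
  | mem x hx =>
    obtain ⟨r, t, hr, hn, hx⟩ := hx
    rw [hx]
    unfold ChevalleyDatum.x
    rw [dif_pos hr.1]
    exact GU_xMat h J ⟨r, hr.1⟩ (lvlR_pos h J r hr hn) t
  | one => exact GU_one D tab J
  | mul x y _ _ hx hy =>
    rw [Units.val_mul]
    exact GU_mul D tab J hx hy
  | inv x _ hx => exact GU_inv D tab J x hx

include hD in
/-- elements of `L_J` are block diagonal for the level grading -/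
theorem G0_of_mem_levi {tab : List (List ℤ)} (h : LvlOK D tab) (J : Set ℕ) (g : GL D.Idx F)
    (hg : g ∈ D.leviSubgroup F J) : G0 D tab J (g : Matrix D.Idx D.Idx F) := by
  let K : Subgroup (GL D.Idx F) :=
    { carrier := {g | G0 D tab J (g : Matrix D.Idx D.Idx F)}
      mul_mem' := by
        intro a b ha hb
        show G0 D tab J ((a * b : GL D.Idx F) : Matrix D.Idx D.Idx F)
        rw [Units.val_mul]
        exact G0_mul D tab J ha hb
      one_mem' := G0_one D tab J
      inv_mem' := by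
        intro a ha
        exact G0_inv D tab J a ha }
  have hle : D.leviSubgroup F J ≤ K := by
    unfold ChevalleyDatum.leviSubgroup
    apply sup_le
    · intro x hx
      obtain ⟨c, _, hxc⟩ := Cfsg.Agent.S1034.mem_torus D hD x hx
      show G0 D tab J (x : Matrix D.Idx D.Idx F)
      rw [hxc]
      unfold torusMat
      exact G0_diagonal D tab J _
    · rw [Subgroup.closure_le]
      rintro x ⟨r, t, hr, hx⟩
      show G0 D tab J (x : Matrix D.Idx D.Idx F)
      rw [hx]
      unfold ChevalleyDatum.x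
      rw [dif_pos hr.1]
      exact G0_xMat h J ⟨r, hr.1⟩ (lvlR_sub h J r hr) t
  exact hle hg

include hD in
/-- **`U_J ∩ L_J = 1`.** -/
theorem radical_inf_levi (J : Set ℕ) :
    D.unipotentRadical F J ⊓ D.leviSubgroup F J = ⊥ := by
  obtain ⟨tab, h⟩ := lvlOK_of_mem D hD
  rw [eq_bot_iff]
  intro g hg
  rw [Subgroup.mem_inf] at hg
  rw [Subgroup.mem_bot]
  apply Units.ext
  rw [Units.val_one]
  exact eq_one_of_G0_GU D tab J _ (G0_of_mem_levi D hD h J g hg.2)
    (GU_of_mem_radical D h J g hg.1)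

end

end Cfsg.Agent.helper6.Levi
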