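import Mathlib
import Cfsg.Agent.Lib_helper6_ZCen
import Cfsg.Agent.Lib_helper6_CentTr2
import Cfsg.Agent.Lib_helper19_Pairing

set_option autoImplicit false
set_option linter.unusedSectionVars false
set_option linter.unusedVariables false

/-!
helper6: a finite group without subgroups of index 2, with one class of involutions, whose Sylow
2-subgroup `S` is generated by its involutions and one more element and has a unique central
involution, has modulo its odd core a simple normal subgroup of odd index.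
-/

namespace Cfsg.Agent.helper6.OddIdx

open Cfsg

universe u

/-- a group with a nontrivial cyclic Sylow 2-subgroup has a subgroup of index 2 -/
theorem exists_index_two_of_zpowers_sylow {Q : Type*} [Group Q] [Finite Q] (P : Sylow 2 Q) (g : Q)
    (h : (P : Subgroup Q) = Subgroup.zpowers g) (hne : (P : Subgroup Q) ≠ ⊥) :
    ∃ H : Subgroup Q, H.index = 2 := by
  have : Fact (Nat.Prime 2) := ⟨Nat.prime_two⟩
  have hcyc : IsCyclic ↥(P : Subgroup Q) := by rw [h]; infer_instance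
  obtain ⟨k, hk⟩ := IsPGroup.iff_card.mp P.isPGroup'
  have hk1 : 1 ≤ k := by
    rcases Nat.eq_zero_or_pos k with h0 | h0
    · exfalso
      rw [h0, pow_zero] at hk
      exact hne (Subgroup.card_eq_one.mp hk)
    · exact h0
  have h2 : 2 ∣ Nat.card Q :=
    dvd_trans (by rw [hk]; exact dvd_pow_self 2 (by omega))
      (Subgroup.card_subgroup_dvd_card (P : Subgroup Q))
  have hmin : (Nat.card Q).minFac = 2 := (Nat.minFac_eq_two_iff _).mpr h2
  have hc := IsCyclic.isComplement' hmin hcyc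
  have hidx : (MonoidHom.transferSylow P (hcyc.normalizer_le_centralizer hmin)).ker.index =
      2 ^ k := by
    rw [hc.symm.index_eq_card, hk]
  exact Cfsg.Agent.helper6.CentTr.exists_index_two_of_normal_pow _ k hk1 hidx

variable {G : Type u} [Group G] [Finite G]

theorem main (S : Sylow 2 G) (hG : ∀ H : Subgroup G, H.index ≠ 2)
    (z₀ : G) (hz₀S : z₀ ∈ (S : Subgroup G)) (hz₀ : orderOf z₀ = 2)
    (hP1 : ∀ x : G, orderOf x = 2 → IsConj x z₀)
    (hP3 : ∀ a ∈ (S : Subgroup G), (∀ s ∈ (S : Subgroup G), s * a = a * s) → orderOf a = 2 →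
      a = z₀)
    (x₀ : G) (hx₀ : x₀ ∈ (S : Subgroup G))
    (hP2 : (S : Subgroup G) ≤
      Subgroup.closure {s : G | s ∈ (S : Subgroup G) ∧ orderOf s = 2} ⊔ Subgroup.zpowers x₀)
    (a₀ b₀ : G) (ha₀ : a₀ ∈ (S : Subgroup G)) (hb₀ : b₀ ∈ (S : Subgroup G))
    (hab : a₀ * b₀ ≠ b₀ * a₀) :
    ∃ L : Subgroup (G ⧸ Cfsg.oddCore G), L.Normal ∧ Odd L.index ∧ IsSimpleGroup L ∧
      ¬ IsMulCommutative L := by
  classical
  have : Fact (Nat.Prime 2) := ⟨Nat.prime_two⟩
  have hOQ : Cfsg.pPrimeCore 2 (G ⧸ Cfsg.pPrimeCore 2 G) = ⊥ :=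
    Cfsg.Agent.helper9.pPrimeCore_quotient_eq_bot 2
  obtain ⟨π, hπ, hker⟩ : ∃ π : G →* G ⧸ Cfsg.pPrimeCore 2 G, Function.Surjective π ∧
      ∀ g, π g = 1 ↔ g ∈ Cfsg.pPrimeCore 2 G :=
    ⟨QuotientGroup.mk' _, QuotientGroup.mk'_surjective _, fun g => QuotientGroup.eq_one_iff g⟩
  -- injectivity on S
  have hinj : ∀ s ∈ (S : Subgroup G), π s = 1 → s = 1 := fun s hs h =>
    ZCen.sylow_inf_core S hs ((hker s).mp h)
  have hinj2 : ∀ s ∈ (S : Subgroup G), ∀ t ∈ (S : Subgroup G), π s = π t → s = t := by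
    intro s hs t ht h
    have h1 : π (s⁻¹ * t) = 1 := by rw [map_mul, map_inv, h, inv_mul_cancel]
    have h2 := hinj _ (mul_mem (inv_mem hs) ht) h1
    exact inv_mul_eq_one.mp h2
  have hS' : ((S.mapSurjective hπ : Sylow 2 (G ⧸ Cfsg.pPrimeCore 2 G)) :
      Subgroup (G ⧸ Cfsg.pPrimeCore 2 G)) = (S : Subgroup G).map π :=
    Sylow.coe_mapSurjective hπ S
  have hF4 : ∀ s ∈ (S : Subgroup G), orderOf s = 2 → orderOf (π s) = 2 := by
    intro s hs ho
    have hs2 : s ^ 2 = 1 := by rw [← ho]; exact pow_orderOf_eq_one s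
    apply orderOf_eq_prime
    · rw [← map_pow, hs2, map_one]
    · intro h
      have := hinj s hs h
      rw [this, orderOf_one] at ho
      norm_num at ho
  have key : ∀ r : G ⧸ Cfsg.pPrimeCore 2 G, orderOf r = 2 →
      r ∈ ((S.mapSurjective hπ : Sylow 2 (G ⧸ Cfsg.pPrimeCore 2 G)) :
        Subgroup (G ⧸ Cfsg.pPrimeCore 2 G)) →
      ∃ s ∈ (S : Subgroup G), orderOf s = 2 ∧ π s = r := by
    intro r hr hrS
    rw [hS'] at hrS
    obtain ⟨s, hs, rfl⟩ := Subgroup.mem_map.mp hrS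
    refine ⟨s, hs, ?_, rfl⟩
    have hr2 : (π s) ^ 2 = 1 := by
      have := pow_orderOf_eq_one (π s)
      rwa [hr] at this
    apply orderOf_eq_prime
    · apply hinj _ (Subgroup.pow_mem _ hs 2)
      rw [map_pow, hr2]
    · intro h
      rw [h, map_one, orderOf_one] at hr
      norm_num at hr
  have hπz : orderOf (π z₀) = 2 := hF4 z₀ hz₀S hz₀
  have hπz1 : π z₀ ≠ 1 := by
    intro h
    rw [h, orderOf_one] at hπz
    norm_num at hπz
  -- a minimal normal subgroup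
  have hex : ∃ k : ℕ, ∃ N : Subgroup (G ⧸ Cfsg.pPrimeCore 2 G), N.Normal ∧ N ≠ ⊥ ∧
      Nat.card N = k := by
    refine ⟨_, ⊤, inferInstance, ?_, rfl⟩
    intro h
    have h1 : π z₀ ∈ (⊤ : Subgroup (G ⧸ Cfsg.pPrimeCore 2 G)) := Subgroup.mem_top _
    rw [h, Subgroup.mem_bot] at h1
    exact hπz1 h1
  obtain ⟨N, hNn, hN1, hNk⟩ := Nat.find_spec hex
  have hNmin : ∀ M : Subgroup (G ⧸ Cfsg.pPrimeCore 2 G), M.Normal → M ≤ N → M = ⊥ ∨ M = N := by
    intro M hMn hMN
    by_contra hcon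
    push Not at hcon
    have hlt : Nat.card M < Nat.find hex := by
      by_contra hge
      push Not at hge
      rw [← hNk] at hge
      exact hcon.2 (Subgroup.eq_of_le_of_card_ge hMN hge)
    exact Nat.find_min hex hlt ⟨M, hMn, hcon.1, rfl⟩
  have hNeven : 2 ∣ Nat.card N := by
    by_contra h
    have hcop : (Nat.card N).Coprime 2 :=
      ((Nat.Prime.coprime_iff_not_dvd Nat.prime_two).mpr h).symm
    have h1 := Cfsg.Agent.helper1.le_pPrimeCore (p := 2) hNn hcop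
    rw [hOQ] at h1
    exact hN1 (le_bot_iff.mp h1)
  obtain ⟨i', hi'⟩ := exists_prime_orderOf_dvd_card' (G := ↥N) 2 hNeven
  have hi : orderOf ((i' : ↥N) : G ⧸ Cfsg.pPrimeCore 2 G) = 2 := by
    rw [Subgroup.orderOf_coe]; exact hi'
  have horderconj : ∀ (q g : G ⧸ Cfsg.pPrimeCore 2 G), orderOf (g * q * g⁻¹) = orderOf q := by
    intro q g
    have := orderOf_injective (MulAut.conj g).toMonoidHom (MulAut.conj g).injective q
    simpa [MulAut.conj_apply] using this
  -- all involutions of the quotient lie in N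
  have hinvN : ∀ q : G ⧸ Cfsg.pPrimeCore 2 G, orderOf q = 2 → q ∈ N := by
    intro q hq
    obtain ⟨g1, hg1⟩ := Cfsg.Agent.helper12.bs_two_elt_conj_into_sylow
      (S.mapSurjective hπ) q 1 (by rw [hq, pow_one])
    obtain ⟨g2, hg2⟩ := Cfsg.Agent.helper12.bs_two_elt_conj_into_sylow
      (S.mapSurjective hπ) ((i' : ↥N) : G ⧸ Cfsg.pPrimeCore 2 G) 1 (by rw [hi, pow_one])
    obtain ⟨s1, hs1S, hs1o, hs1⟩ := key (g1 * q * g1⁻¹) (by rw [horderconj, hq]) hg1
    obtain ⟨s2, hs2S, hs2o, hs2⟩ := key (g2 * (i' : ↥N) * g2⁻¹) (by rw [horderconj, hi]) hg2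
    obtain ⟨c1, hc1⟩ := isConj_iff.mp (hP1 s1 hs1o)
    obtain ⟨c2, hc2⟩ := isConj_iff.mp (hP1 s2 hs2o)
    have h1 : π s2 ∈ N := by rw [hs2]; exact hNn.conj_mem _ i'.2 g2
    have h2 : π z₀ ∈ N := by
      rw [← hc2, map_mul, map_mul, map_inv]; exact hNn.conj_mem _ h1 _
    have h3 : π s1 ∈ N := by
      have e1 : s1 = c1⁻¹ * z₀ * c1 := by rw [← hc1]; group
      have e2 : π s1 = (π c1)⁻¹ * π z₀ * ((π c1)⁻¹)⁻¹ := by
        rw [e1, map_mul, map_mul, map_inv, inv_inv]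
      rw [e2]
      exact hNn.conj_mem _ h2 _
    have h4 : q = g1⁻¹ * (g1 * q * g1⁻¹) * (g1⁻¹)⁻¹ := by group
    rw [h4, ← hs1]
    exact hNn.conj_mem _ h3 _
  -- S' ≤ N
  have hS'N : ((S.mapSurjective hπ : Sylow 2 (G ⧸ Cfsg.pPrimeCore 2 G)) :
      Subgroup (G ⧸ Cfsg.pPrimeCore 2 G)) ≤ N := by
    by_contra hnot
    haveI := hNn
    obtain ⟨ρ, hρ, hρker⟩ : ∃ ρ : (G ⧸ Cfsg.pPrimeCore 2 G) →* (G ⧸ Cfsg.pPrimeCore 2 G) ⧸ N,
        Function.Surjective ρ ∧ ∀ q, ρ q = 1 ↔ q ∈ N :=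
      ⟨QuotientGroup.mk' N, QuotientGroup.mk'_surjective N, fun q => QuotientGroup.eq_one_iff q⟩
    have hS'' : (((S.mapSurjective hπ : Sylow 2 (G ⧸ Cfsg.pPrimeCore 2 G)).mapSurjective hρ :
        Sylow 2 ((G ⧸ Cfsg.pPrimeCore 2 G) ⧸ N)) :
        Subgroup ((G ⧸ Cfsg.pPrimeCore 2 G) ⧸ N)) = (S : Subgroup G).map (ρ.comp π) := by
      rw [Sylow.coe_mapSurjective, hS', Subgroup.map_map]
    have hcyc : (((S.mapSurjective hπ : Sylow 2 (G ⧸ Cfsg.pPrimeCore 2 G)).mapSurjective hρ :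
        Sylow 2 ((G ⧸ Cfsg.pPrimeCore 2 G) ⧸ N)) :
        Subgroup ((G ⧸ Cfsg.pPrimeCore 2 G) ⧸ N)) = Subgroup.zpowers (ρ (π x₀)) := by
      apply le_antisymm
      · rw [hS'']
        refine (Subgroup.map_mono hP2).trans ?_
        rw [Subgroup.map_sup, MonoidHom.map_closure, MonoidHom.map_zpowers]
        apply sup_le
        · rw [Subgroup.closure_le]
          rintro _ ⟨s, ⟨hsS, hso⟩, rfl⟩
          have h1 : (ρ.comp π) s = 1 := (hρker _).mpr (hinvN _ (hF4 s hsS hso))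
          rw [h1]; exact one_mem _
        · exact le_refl _
      · rw [Subgroup.zpowers_le, hS'']
        exact ⟨x₀, hx₀, rfl⟩
    have hne : (((S.mapSurjective hπ : Sylow 2 (G ⧸ Cfsg.pPrimeCore 2 G)).mapSurjective hρ :
        Sylow 2 ((G ⧸ Cfsg.pPrimeCore 2 G) ⧸ N)) :
        Subgroup ((G ⧸ Cfsg.pPrimeCore 2 G) ⧸ N)) ≠ ⊥ := by
      obtain ⟨s', hs'S, hs'N⟩ := SetLike.not_le_iff_exists.mp hnot
      intro hbot
      have h1 : ρ s' ∈ (((S.mapSurjective hπ : Sylow 2 (G ⧸ Cfsg.pPrimeCore 2 G)).mapSurjective hρ :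
          Sylow 2 ((G ⧸ Cfsg.pPrimeCore 2 G) ⧸ N)) :
          Subgroup ((G ⧸ Cfsg.pPrimeCore 2 G) ⧸ N)) := by
        rw [Sylow.coe_mapSurjective]; exact Subgroup.mem_map_of_mem _ hs'S
      rw [hbot, Subgroup.mem_bot] at h1
      exact hs'N ((hρker s').mp h1)
    obtain ⟨H2, hH2⟩ := exists_index_two_of_zpowers_sylow _ _ hcyc hne
    apply hG (H2.comap (ρ.comp π))
    have hsurj : Function.Surjective (ρ.comp π) := hρ.comp hπ
    rw [Subgroup.index_comap_of_surjective H2 hsurj, hH2]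
  -- odd index
  have hodd : Odd N.index := by
    rw [← Nat.not_even_iff_odd, even_iff_two_dvd]
    intro h2
    exact (S.mapSurjective hπ).not_dvd_index (dvd_trans h2 (Subgroup.index_dvd_of_le hS'N))
  have hz₀N : π z₀ ∈ N := hinvN _ hπz
  -- every nontrivial normal subgroup of N contains π z₀
  have hzK : ∀ K : Subgroup ↥N, K.Normal → K ≠ ⊥ → (⟨π z₀, hz₀N⟩ : ↥N) ∈ K := by
    intro K hK hK1
    have hKeven : 2 ∣ Nat.card K := by
      by_contra h
      have hcop : (Nat.card K).Coprime 2 :=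
        ((Nat.Prime.coprime_iff_not_dvd Nat.prime_two).mpr h).symm
      have h1 := Cfsg.Agent.helper1.le_pPrimeCore (p := 2) hK hcop
      apply hK1
      rw [eq_bot_iff]
      intro c hc
      have h2 := Cfsg.Agent.helper15.eq_one_of_mem_pPrimeCore_of_normal hOQ N hNn c (h1 hc)
      rw [Subgroup.mem_bot]
      exact Subtype.ext h2
    obtain ⟨a', ha'⟩ := exists_prime_orderOf_dvd_card' (G := ↥K) 2 hKeven
    have ha : orderOf ((a' : ↥K) : ↥N) = 2 := by rw [Subgroup.orderOf_coe]; exact ha'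
    obtain ⟨g, hg⟩ := Cfsg.Agent.helper12.bs_two_elt_conj_into_sylow
      ((S.mapSurjective hπ).subtype hS'N) ((a' : ↥K) : ↥N) 1 (by rw [ha, pow_one])
    have hgK : g * ((a' : ↥K) : ↥N) * g⁻¹ ∈ K := hK.conj_mem _ a'.2 g
    have hg1 : g * ((a' : ↥K) : ↥N) * g⁻¹ ≠ 1 := by
      intro h
      have h1 : ((a' : ↥K) : ↥N) = 1 := by
        have := congrArg (fun x => g⁻¹ * x * g) h
        simpa [mul_assoc] using this
      rw [h1, orderOf_one] at ha
      norm_num at ha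
    -- the 2-group PN and its normal subgroup K ∩ PN
    have hPp : IsPGroup 2 ↥(((S.mapSurjective hπ).subtype hS'N : Sylow 2 ↥N) : Subgroup ↥N) :=
      Sylow.isPGroup' _
    haveI hK'n : (K.subgroupOf (((S.mapSurjective hπ).subtype hS'N : Sylow 2 ↥N) :
        Subgroup ↥N)).Normal := hK.subgroupOf _
    have hK'1 : K.subgroupOf (((S.mapSurjective hπ).subtype hS'N : Sylow 2 ↥N) :
        Subgroup ↥N) ≠ ⊥ := by
      intro hbot
      have h1 : (⟨g * ((a' : ↥K) : ↥N) * g⁻¹, hg⟩ :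
          ↥(((S.mapSurjective hπ).subtype hS'N : Sylow 2 ↥N) : Subgroup ↥N)) ∈
          K.subgroupOf (((S.mapSurjective hπ).subtype hS'N : Sylow 2 ↥N) : Subgroup ↥N) :=
        Subgroup.mem_subgroupOf.mpr hgK
      rw [hbot, Subgroup.mem_bot] at h1
      exact hg1 (congrArg Subtype.val h1)
    have hcen := Cfsg.Agent.helper19.inf_center_ne_bot_of_normal hPp _ hK'1
    obtain ⟨⟨c, hc⟩, hc1⟩ := (Subgroup.ne_bot_iff_exists_ne_one).mp hcen
    -- an involution in ⟨c⟩
    obtain ⟨k, hk⟩ := IsPGroup.iff_orderOf.mp hPp c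
    have hk1 : 1 ≤ k := by
      rcases Nat.eq_zero_or_pos k with h0 | h0
      · exfalso
        rw [h0, pow_zero, orderOf_eq_one_iff] at hk
        apply hc1
        exact Subtype.ext hk
      · exact h0
    have hc2o : orderOf (c ^ 2 ^ (k - 1)) = 2 := by
      rw [orderOf_pow_of_dvd (by positivity) (by rw [hk]; exact pow_dvd_pow 2 (Nat.sub_le k 1)), hk]
      have : 2 ^ k = 2 ^ (k - 1) * 2 := by
        rw [← pow_succ]; congr 1; omega
      rw [this, Nat.mul_div_cancel_left _ (by positivity)]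
    have hc2mem : c ^ 2 ^ (k - 1) ∈ K.subgroupOf (((S.mapSurjective hπ).subtype hS'N :
        Sylow 2 ↥N) : Subgroup ↥N) ⊓ Subgroup.center _ := Subgroup.pow_mem _ hc _
    obtain ⟨c2, hc2def⟩ : ∃ c2, c2 = c ^ 2 ^ (k - 1) := ⟨_, rfl⟩
    rw [← hc2def] at hc2o hc2mem
    -- r := the image of c2 in the quotient
    have hrS : ((c2 : ↥N) : G ⧸ Cfsg.pPrimeCore 2 G) ∈
        ((S.mapSurjective hπ : Sylow 2 (G ⧸ Cfsg.pPrimeCore 2 G)) :
          Subgroup (G ⧸ Cfsg.pPrimeCore 2 G)) := by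
      have h0 : ∀ y : ↥N, y ∈ (((S.mapSurjective hπ).subtype hS'N : Sylow 2 ↥N) : Subgroup ↥N) →
          (y : G ⧸ Cfsg.pPrimeCore 2 G) ∈
            ((S.mapSurjective hπ : Sylow 2 (G ⧸ Cfsg.pPrimeCore 2 G)) :
              Subgroup (G ⧸ Cfsg.pPrimeCore 2 G)) := by
        intro y hy
        rw [Sylow.coe_subtype, Subgroup.mem_subgroupOf] at hy
        exact hy
      exact h0 _ c2.2
    have hro : orderOf ((c2 : ↥N) : G ⧸ Cfsg.pPrimeCore 2 G) = 2 := by
      rw [Subgroup.orderOf_coe, Subgroup.orderOf_coe]; exact hc2o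
    obtain ⟨s, hsS, hso, hsr⟩ := key _ hro hrS
    have hscen : ∀ t ∈ (S : Subgroup G), t * s = s * t := by
      intro t ht
      apply hinj2 _ (mul_mem ht hsS) _ (mul_mem hsS ht)
      rw [map_mul, map_mul, hsr]
      -- π t as an element of PN
      have htS' : π t ∈ ((S.mapSurjective hπ : Sylow 2 (G ⧸ Cfsg.pPrimeCore 2 G)) :
          Subgroup (G ⧸ Cfsg.pPrimeCore 2 G)) := by
        rw [hS']; exact Subgroup.mem_map_of_mem _ ht
      have htPN : (⟨π t, hS'N htS'⟩ : ↥N) ∈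
          (((S.mapSurjective hπ).subtype hS'N : Sylow 2 ↥N) : Subgroup ↥N) := by
        rw [Sylow.coe_subtype, Subgroup.mem_subgroupOf]; exact htS'
      have h1 := Subgroup.mem_center_iff.mp hc2mem.2 ⟨⟨π t, hS'N htS'⟩, htPN⟩
      have h2 := congrArg (fun x : ↥(((S.mapSurjective hπ).subtype hS'N : Sylow 2 ↥N) :
        Subgroup ↥N) => ((x : ↥N) : G ⧸ Cfsg.pPrimeCore 2 G)) h1
      exact h2
    have hsz : s = z₀ := hP3 s hsS hscen hso
    have hfinal : (⟨π z₀, hz₀N⟩ : ↥N) = (c2 : ↥N) := by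
      apply Subtype.ext
      show π z₀ = ((c2 : ↥N) : G ⧸ Cfsg.pPrimeCore 2 G)
      rw [← hsz, hsr]
    rw [hfinal]
    exact Subgroup.mem_subgroupOf.mp hc2mem.1
  -- simplicity
  have hsimple : IsSimpleGroup ↥N := by
    haveI : Nontrivial ↥N := (Subgroup.nontrivial_iff_ne_bot N).mpr hN1
    refine { toNontrivial := inferInstance, eq_bot_or_eq_top_of_normal := fun K hK => ?_ }
    by_cases hKbot : K = ⊥
    · left; exact hKbot
    right
    -- the normal core of K' in the quotient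
    have hcore : π z₀ ∈ (K.map N.subtype).normalCore := by
      intro q
      -- the conjugated subgroup
      have hKq : (K.comap (MulAut.conjNormal q : ↥N ≃* ↥N).toMonoidHom).Normal := hK.comap _
      have hKq1 : K.comap (MulAut.conjNormal q : ↥N ≃* ↥N).toMonoidHom ≠ ⊥ := by
        intro hbot
        apply hKbot
        rw [eq_bot_iff]
        intro c hc
        have h1 : (MulAut.conjNormal q : ↥N ≃* ↥N).symm c ∈
            K.comap (MulAut.conjNormal q : ↥N ≃* ↥N).toMonoidHom := by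
          rw [Subgroup.mem_comap]
          show (MulAut.conjNormal q : ↥N ≃* ↥N) ((MulAut.conjNormal q : ↥N ≃* ↥N).symm c) ∈ K
          rw [MulEquiv.apply_symm_apply]; exact hc
        rw [hbot, Subgroup.mem_bot] at h1
        rw [Subgroup.mem_bot]
        have := congrArg (MulAut.conjNormal q : ↥N ≃* ↥N) h1
        rwa [MulEquiv.apply_symm_apply, map_one] at this
      have h2 := hzK _ hKq hKq1
      rw [Subgroup.mem_comap] at h2
      refine ⟨_, h2, ?_⟩
      show (((MulAut.conjNormal q : ↥N ≃* ↥N) ⟨π z₀, hz₀N⟩ : ↥N) : G ⧸ Cfsg.pPrimeCore 2 G) =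
        q * π z₀ * q⁻¹
      rw [MulAut.conjNormal_apply]
    have hcoreN : (K.map N.subtype).normalCore ≤ N :=
      (Subgroup.normalCore_le _).trans (Subgroup.map_subtype_le K)
    have hcore1 : (K.map N.subtype).normalCore ≠ ⊥ := by
      intro hbot
      rw [hbot, Subgroup.mem_bot] at hcore
      exact hπz1 hcore
    rcases hNmin _ (Subgroup.normalCore_normal _) hcoreN with h | h
    · exact absurd h hcore1
    · rw [eq_top_iff]
      intro n _
      have h1 : (n : G ⧸ Cfsg.pPrimeCore 2 G) ∈ (K.map N.subtype).normalCore := by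
        rw [h]; exact n.2
      obtain ⟨k, hk, hkn⟩ := Subgroup.normalCore_le _ h1
      have : k = n := Subtype.ext hkn
      rw [← this]; exact hk
  refine ⟨N, hNn, hodd, hsimple, ?_⟩
  intro hcomm
  apply hab
  have haS' : π a₀ ∈ N := hS'N (by rw [hS']; exact Subgroup.mem_map_of_mem _ ha₀)
  have hbS' : π b₀ ∈ N := hS'N (by rw [hS']; exact Subgroup.mem_map_of_mem _ hb₀)
  have h1 := mul_comm' (⟨π a₀, haS'⟩ : ↥N) ⟨π b₀, hbS'⟩
  have h2 : π a₀ * π b₀ = π b₀ * π a₀ := congrArg Subtype.val h1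
  apply hinj2 _ (mul_mem ha₀ hb₀) _ (mul_mem hb₀ ha₀)
  rw [map_mul, map_mul, h2]

end Cfsg.Agent.helper6.OddIdx
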