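import Mathlib
import Cfsg.Agent.Lib_helper6_OddIdx
import Cfsg.Agent.Lib_helper6_IsoCen

set_option autoImplicit false
set_option linter.unusedSectionVars false
set_option linter.unusedVariables false

/-!
helper6: the quasi-dihedral and wreathed cases of S1214.
-/

namespace Cfsg.Agent.helper6.OddIdx

open Cfsg Cfsg.Agent.helper6.QDCent Cfsg.Agent.helper6.WrCent Cfsg.Agent.helper6.WrFus
open Cfsg.Agent.helper6.CentTr

universe u

variable {G : Type u} [Group G] [Finite G]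

theorem coe_mem_zpowers (S : Subgroup G) (x g : ↥S) (h : g ∈ Subgroup.zpowers x) :
    (g : G) ∈ Subgroup.zpowers (x : G) := by
  obtain ⟨k, hk⟩ := Subgroup.mem_zpowers_iff.mp h
  rw [Subgroup.mem_zpowers_iff]
  refine ⟨k, ?_⟩
  rw [← hk, Subgroup.coe_zpow]

theorem qd_case (S : Sylow 2 G) (hS : Cfsg.IsQuasiDihedral (S : Subgroup G))
    (hG : ∀ H : Subgroup G, H.index ≠ 2) :
    ∃ L : Subgroup (G ⧸ Cfsg.oddCore G), L.Normal ∧ Odd L.index ∧ IsSimpleGroup L ∧
      ¬ IsMulCommutative L := by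
  have : Fact (Nat.Prime 2) := ⟨Nat.prime_two⟩
  obtain ⟨D⟩ := Cfsg.Agent.helper6.QD.nonempty_data hS
  obtain ⟨z₀, hz₀⟩ : ∃ z₀ : G, z₀ = ((D.e D.h : ↥(S : Subgroup G)) : G) := ⟨_, rfl⟩
  obtain ⟨y, hy⟩ : ∃ y : G, y = ((D.b 0 : ↥(S : Subgroup G)) : G) := ⟨_, rfl⟩
  have hz₀S : z₀ ∈ (S : Subgroup G) := by rw [hz₀]; exact (D.e D.h).2
  have hyS : y ∈ (S : Subgroup G) := by rw [hy]; exact (D.b 0).2
  have hz2 : orderOf z₀ = 2 := by rw [hz₀]; exact Cfsg.Agent.helper6.QDFus.orderOf_z S D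
  have hy2 : orderOf y = 2 := by rw [hy]; exact Cfsg.Agent.helper6.QDFus.orderOf_y S D
  have hz₀c : ∀ s ∈ (S : Subgroup G), s * z₀ = z₀ * s := by
    intro s hs
    have h1 := D.e_h_comm ⟨s, hs⟩
    have h2 := congrArg Subtype.val h1
    rw [hz₀]
    exact h2.symm
  have hzz : z₀ * z₀ = 1 := by rw [← pow_two, ← hz2]; exact pow_orderOf_eq_one z₀
  have hyy : y * y = 1 := by rw [← pow_two, ← hy2]; exact pow_orderOf_eq_one y
  have hzy : z₀ * y = y * z₀ := (hz₀c y hyS).symm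
  have hz1 : z₀ ≠ 1 := by
    intro h; rw [h, orderOf_one] at hz2; norm_num at hz2
  have hy1 : y ≠ 1 := by
    intro h; rw [h, orderOf_one] at hy2; norm_num at hy2
  have hzney : z₀ ≠ y := by
    rw [hz₀, hy]
    intro h
    exact D.e_ne_b _ _ (Subtype.ext h)
  obtain ⟨T, hTdef⟩ : ∃ T : Subgroup G, T = Cfsg.Agent.helper6.Klein.four z₀ y hzz hyy hzy :=
    ⟨_, rfl⟩
  have hT : IsKleinFour T := by
    rw [hTdef]; exact Cfsg.Agent.helper6.Klein.isKleinFour_four hzz hyy hzy hz1 hy1 hzney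
  have hTS : T ≤ S := by
    rw [hTdef]
    rintro g (rfl | rfl | rfl | rfl)
    · exact one_mem _
    · exact hz₀S
    · exact hyS
    · exact mul_mem hz₀S hyS
  obtain ⟨Q₀, ⟨eQ₀⟩, hzQ₀⟩ := exists_q8 D
  obtain ⟨Q, hQdef⟩ : ∃ Q : Subgroup G, Q = Q₀.map (S : Subgroup G).subtype := ⟨_, rfl⟩
  have hQS : Q ≤ S := by rw [hQdef]; exact Subgroup.map_subtype_le _
  have eQ : Q ≃* QuaternionGroup 2 := by
    rw [hQdef]
    exact (Q₀.equivMapOfInjective _ (S : Subgroup G).subtype_injective).symm.trans eQ₀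
  obtain ⟨h₁, -⟩ := indices_six S hS hG T hT hTS Q hQS eQ
  have hconj : ∀ x : G, orderOf x = 2 → IsConj x z₀ := by
    intro x hx
    rw [hz₀]; exact Cfsg.Agent.helper6.QDFus.invol_conj_of_six S D T hT hTS h₁ x hx
  have heh : orderOf (D.e D.h) = 2 := (D.orderOf_e_eq_two_iff _).mpr rfl
  -- the unique central involution
  have hP3 : ∀ a ∈ (S : Subgroup G), (∀ s ∈ (S : Subgroup G), s * a = a * s) → orderOf a = 2 →
      a = z₀ := by
    intro a haS hac hao
    have hacen : (⟨a, haS⟩ : ↥(S : Subgroup G)) ∈ Subgroup.center ↥(S : Subgroup G) := by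
      rw [Subgroup.mem_center_iff]; intro s; apply Subtype.ext; exact hac s s.2
    rw [D.center_eq] at hacen
    rcases Cfsg.Agent.helper12.zs_mem_zpowers_two heh hacen with h | h
    · exfalso
      have h1 : a = 1 := congrArg Subtype.val h
      rw [h1, orderOf_one] at hao
      norm_num at hao
    · rw [hz₀]; exact congrArg Subtype.val h
  -- generation
  have hP2 : (S : Subgroup G) ≤
      Subgroup.closure {s : G | s ∈ (S : Subgroup G) ∧ orderOf s = 2} ⊔
        Subgroup.zpowers ((D.x : ↥(S : Subgroup G)) : G) := by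
    intro g hg
    have hyI : y ∈ Subgroup.closure {s : G | s ∈ (S : Subgroup G) ∧ orderOf s = 2} :=
      Subgroup.subset_closure ⟨hyS, hy2⟩
    rcases D.cases ⟨g, hg⟩ with ⟨i, hi⟩ | ⟨i, hi⟩
    · have h1 : g = ((D.e i : ↥(S : Subgroup G)) : G) := congrArg Subtype.val hi
      rw [h1]
      exact Subgroup.mem_sup_right (coe_mem_zpowers _ _ _ (D.e_mem i))
    · have h1 : g = ((D.e i : ↥(S : Subgroup G)) : G) * y := by
        have h2 : g = ((D.b i : ↥(S : Subgroup G)) : G) := congrArg Subtype.val hi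
        rw [h2, hy, D.b_zero]
        rfl
      rw [h1]
      exact mul_mem (Subgroup.mem_sup_right (coe_mem_zpowers _ _ _ (D.e_mem i)))
        (Subgroup.mem_sup_left hyI)
  -- two noncommuting elements
  have hab : ((D.y : ↥(S : Subgroup G)) : G) * ((D.x : ↥(S : Subgroup G)) : G) ≠
      ((D.x : ↥(S : Subgroup G)) : G) * ((D.y : ↥(S : Subgroup G)) : G) := by
    intro h
    have h1 : D.y * D.x = D.x * D.y := Subtype.ext h
    have h2 := D.y_e 1
    rw [D.e_one, h1, ← D.e_one, mul_left_inj, D.e_inj, mul_one] at h2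
    exact D.m_ne_one h2.symm
  exact main S hG z₀ hz₀S hz2 hconj hP3 _ (D.x).2 hP2 _ _ (D.y).2 (D.x).2 hab

theorem wr_case (S : Sylow 2 G) (hS : Cfsg.IsWreathed (S : Subgroup G))
    (hG : ∀ H : Subgroup G, H.index ≠ 2) :
    ∃ L : Subgroup (G ⧸ Cfsg.oddCore G), L.Normal ∧ Odd L.index ∧ IsSimpleGroup L ∧
      ¬ IsMulCommutative L := by
  have : Fact (Nat.Prime 2) := ⟨Nat.prime_two⟩
  obtain ⟨D⟩ := Cfsg.Agent.helper6.Wr.nonempty_data hS
  obtain ⟨n, hnD⟩ : ∃ n : ℕ, n = D.n := ⟨_, rfl⟩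
  have hn : Nat.card (S : Subgroup G) = 2 ^ (2 * n + 1) := by rw [hnD]; exact D.card
  obtain ⟨U, hUdef⟩ : ∃ U : Subgroup G, U = D.U.map (S : Subgroup G).subtype := ⟨_, rfl⟩
  have hUS : U ≤ S := by rw [hUdef]; exact Subgroup.map_subtype_le _
  have eU : D.U ≃* U := by
    rw [hUdef]; exact D.U.equivMapOfInjective _ (S : Subgroup G).subtype_injective
  have hUab : IsMulCommutative U := ⟨⟨fun a b => by
    apply eU.symm.injective
    rw [map_mul, map_mul]
    exact Subtype.ext (D.U_comm _ (eU.symm a).2 _ (eU.symm b).2)⟩⟩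
  have hUcard : Nat.card U = 2 ^ (2 * n) := by
    rw [← Nat.card_congr eU.toEquiv, D.card_U, hnD]
  obtain ⟨Q₀, ⟨eQ₀⟩, -⟩ := D.exists_quat_Vd 0 (map_zero _)
  obtain ⟨Q, hQdef⟩ : ∃ Q : Subgroup G, Q = Q₀.map (S : Subgroup G).subtype := ⟨_, rfl⟩
  have hQS : Q ≤ S := by rw [hQdef]; exact Subgroup.map_subtype_le _
  have eQ : Q ≃* QuaternionGroup 2 := by
    rw [hQdef]
    exact (Q₀.equivMapOfInjective _ (S : Subgroup G).subtype_injective).symm.trans eQ₀
  obtain ⟨h₁, h₂⟩ := indices_six_wr S hS n hn hG U hUS hUab hUcard Q hQS eQ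
  obtain ⟨hDn, hU⟩ := subgroupOf_eq_U S D n hn U hUS hUab hUcard
  obtain ⟨g, hg, hnorm, hAC⟩ := U_six S D U hUS hU h₁
  have hAz := V_six S D Q hQS eQ h₂
  have hconj : ∀ x : G, orderOf x = 2 → IsConj x ((D.e D.h D.h : ↥(S : Subgroup G)) : G) := by
    intro x hx
    rcases invol_cases S D x hx with h | h | h
    · exact h
    · exact h.trans hAC
    · exact h.trans (hAz.symm.trans hAC)
  have hzo : orderOf ((D.e D.h D.h : ↥(S : Subgroup G)) : G) = 2 := by
    rw [Subgroup.orderOf_coe, D.orderOf_e_eq_two_iff]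
    exact Or.inr (Or.inr ⟨rfl, rfl⟩)
  have hP3 : ∀ a ∈ (S : Subgroup G), (∀ s ∈ (S : Subgroup G), s * a = a * s) → orderOf a = 2 →
      a = ((D.e D.h D.h : ↥(S : Subgroup G)) : G) := by
    intro a haS hac hao
    have h1 : (⟨a, haS⟩ : ↥(S : Subgroup G)) ∈ Subgroup.center ↥(S : Subgroup G) := by
      rw [Subgroup.mem_center_iff]
      intro s
      apply Subtype.ext
      rw [Subgroup.coe_mul, Subgroup.coe_mul]
      exact hac s s.2
    obtain ⟨k, hk⟩ := (D.mem_center_iff' _).mp h1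
    have h2 : orderOf (⟨a, haS⟩ : ↥(S : Subgroup G)) = 2 := by
      rw [← Subgroup.orderOf_coe]; exact hao
    rw [hk, D.orderOf_e_eq_two_iff] at h2
    have hkh : k = D.h := by
      rcases h2 with ⟨a, b⟩ | ⟨a, b⟩ | ⟨a, b⟩
      · exact absurd (a.symm.trans b) D.h_ne
      · exact absurd (b.symm.trans a) D.h_ne
      · exact a
    have h3 : a = ((D.e k k : ↥(S : Subgroup G)) : G) := congrArg Subtype.val hk
    rw [h3, hkh]
  have hzI : ((D.z : ↥(S : Subgroup G)) : G) ∈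
      Subgroup.closure {s : G | s ∈ (S : Subgroup G) ∧ orderOf s = 2} :=
    Subgroup.subset_closure ⟨(D.z).2, by rw [Subgroup.orderOf_coe]; exact D.hz⟩
  have hP2 : (S : Subgroup G) ≤
      Subgroup.closure {s : G | s ∈ (S : Subgroup G) ∧ orderOf s = 2} ⊔
        Subgroup.zpowers ((D.x : ↥(S : Subgroup G)) : G) := by
    have hex : ∀ i : D.Z, ((D.ex i : ↥(S : Subgroup G)) : G) ∈
        Subgroup.closure {s : G | s ∈ (S : Subgroup G) ∧ orderOf s = 2} ⊔
          Subgroup.zpowers ((D.x : ↥(S : Subgroup G)) : G) := fun i =>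
      Subgroup.mem_sup_right (coe_mem_zpowers _ _ _ (Cfsg.Agent.helper6.ZExp.E_mem_zpowers i))
    have hey : ∀ i : D.Z, ((D.ey i : ↥(S : Subgroup G)) : G) ∈
        Subgroup.closure {s : G | s ∈ (S : Subgroup G) ∧ orderOf s = 2} ⊔
          Subgroup.zpowers ((D.x : ↥(S : Subgroup G)) : G) := by
      intro i
      rw [← D.conj_ex i]
      exact mul_mem (mul_mem (Subgroup.mem_sup_left hzI) (hex i))
        (inv_mem (Subgroup.mem_sup_left hzI))
    have hee : ∀ i j : D.Z, ((D.e i j : ↥(S : Subgroup G)) : G) ∈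
        Subgroup.closure {s : G | s ∈ (S : Subgroup G) ∧ orderOf s = 2} ⊔
          Subgroup.zpowers ((D.x : ↥(S : Subgroup G)) : G) := fun i j =>
      mul_mem (hex i) (hey j)
    intro g hg
    rcases D.cases ⟨g, hg⟩ with ⟨i, j, hi⟩ | ⟨i, j, hi⟩
    · have h1 : g = ((D.e i j : ↥(S : Subgroup G)) : G) := congrArg Subtype.val hi
      rw [h1]
      exact hee i j
    · have h1 : g = ((D.b i j : ↥(S : Subgroup G)) : G) := congrArg Subtype.val hi
      rw [h1]
      exact mul_mem (hee i j) (Subgroup.mem_sup_left hzI)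
  have hab : ((D.z : ↥(S : Subgroup G)) : G) * ((D.x : ↥(S : Subgroup G)) : G) ≠
      ((D.x : ↥(S : Subgroup G)) : G) * ((D.z : ↥(S : Subgroup G)) : G) := by
    intro h
    have h1 : D.z * D.x = D.x * D.z := Subtype.ext h
    have h2 := D.hzx
    rw [h1, mul_inv_cancel_right, D.x_eq, D.y_eq, D.e_inj] at h2
    exact D.one_ne_zero' h2.1
  exact main S hG _ (D.e D.h D.h).2 hzo hconj hP3 _ (D.x).2 hP2 _ _ (D.z).2 (D.x).2 hab

end Cfsg.Agent.helper6.OddIdx
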