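import Mathlib
import Cfsg.Prelude.Def_ChevAutomorphisms
import Cfsg.Prelude.Def_ChevG2
import Cfsg.Prelude.Def_ChevB2
import Cfsg.Prelude.Def_ChevD4
import Cfsg.Prelude.Def_ChevF4
import Cfsg.Prelude.Def_ChevE6
import Cfsg.Prelude.Def_ChevE7
import Cfsg.Prelude.Def_ChevE8

set_option autoImplicit false

/-! Orbits of the Weyl group on roots of equal length, and long roots as sums of two short
roots: certificates (helper6). -/

namespace Cfsg.Agent.helper6.Orb

open Cfsg.Lie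

/-- one fundamental reflection -/
def Step (D : ChevalleyDatum) (a b : ℕ) : Prop := ∃ j < D.rank, b = D.reflectRoot j a

/-- reachability by fundamental reflections -/
def Reach (D : ChevalleyDatum) : ℕ → ℕ → Prop := Relation.ReflTransGen (Step D)

/-- check of a spanning tree certificate -/
def treeCheck (D : ChevalleyDatum) : List (ℕ × ℕ × ℕ) → List ℕ → Bool
  | [], _ => true
  | c :: rest, reached =>
      decide (c.2.1 < D.rank) && decide (c.2.2 ∈ reached) &&
        decide (D.reflectRoot c.2.1 c.2.2 = c.1) && treeCheck D rest (c.1 :: reached)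

theorem treeCheck_sound (D : ChevalleyDatum) (base : ℕ) :
    ∀ (cert : List (ℕ × ℕ × ℕ)) (reached : List ℕ),
      (∀ x ∈ reached, Reach D base x) → treeCheck D cert reached = true →
      ∀ x, (x ∈ cert.map (fun c => c.1) ∨ x ∈ reached) → Reach D base x := by
  intro cert
  induction cert with
  | nil =>
    intro reached h _ x hx
    rcases hx with hx | hx
    · simp at hx
    · exact h x hx
  | cons c rest ih =>
    intro reached h hc x hx
    rw [treeCheck] at hc
    simp only [Bool.and_eq_true, decide_eq_true_eq] at hc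
    obtain ⟨⟨⟨hj, hs⟩, hr⟩, hrest⟩ := hc
    have hreach : Reach D base c.1 :=
      Relation.ReflTransGen.tail (h c.2.2 hs) ⟨c.2.1, hj, hr.symm⟩
    have h' : ∀ y ∈ c.1 :: reached, Reach D base y := by
      intro y hy
      rcases List.mem_cons.mp hy with rfl | hy
      · exact hreach
      · exact h y hy
    apply ih (c.1 :: reached) h' hrest x
    rcases hx with hx | hx
    · simp only [List.map_cons, List.mem_cons] at hx
      rcases hx with rfl | hx
      · exact Or.inr List.mem_cons_self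
      · exact Or.inl hx
    · exact Or.inr (List.mem_cons_of_mem _ hx)

/-- the certificate covers all roots of the length of `base` -/
def coverCheck (D : ChevalleyDatum) (base : ℕ) (cert : List (ℕ × ℕ × ℕ)) : Bool :=
  treeCheck D cert [base] &&
  (List.range D.nroots).all fun r =>
    (D.isLong r != D.isLong base) || decide (r ∈ base :: cert.map (fun c => c.1))

theorem cover_sound (D : ChevalleyDatum) (base : ℕ) (cert : List (ℕ × ℕ × ℕ))
    (h : coverCheck D base cert = true) :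
    ∀ r < D.nroots, D.isLong r = D.isLong base → Reach D base r := by
  unfold coverCheck at h
  simp only [Bool.and_eq_true, List.all_eq_true, List.mem_range, Bool.or_eq_true, bne_iff_ne,
    decide_eq_true_eq] at h
  obtain ⟨h1, h2⟩ := h
  intro r hr hl
  have h3 := treeCheck_sound D base cert [base]
    (by intro x hx; rw [List.mem_singleton] at hx; rw [hx]; exact Relation.ReflTransGen.refl) h1
  rcases h2 r hr with h4 | h4
  · exact absurd hl h4
  · apply h3 r
    rcases List.mem_cons.mp h4 with h5 | h5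
    · exact Or.inr (by rw [h5]; exact List.mem_singleton.mpr rfl)
    · exact Or.inl h5

/-- the certificate covers all roots -/
def coverAllCheck (D : ChevalleyDatum) (base : ℕ) (cert : List (ℕ × ℕ × ℕ)) : Bool :=
  treeCheck D cert [base] &&
  (List.range D.nroots).all fun r => decide (r ∈ base :: cert.map (fun c => c.1))

theorem coverAll_sound (D : ChevalleyDatum) (base : ℕ) (cert : List (ℕ × ℕ × ℕ))
    (h : coverAllCheck D base cert = true) :
    ∀ r < D.nroots, Reach D base r := by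
  unfold coverAllCheck at h
  simp only [Bool.and_eq_true, List.all_eq_true, List.mem_range, decide_eq_true_eq] at h
  obtain ⟨h1, h2⟩ := h
  intro r hr
  have h3 := treeCheck_sound D base cert [base]
    (by intro x hx; rw [List.mem_singleton] at hx; rw [hx]; exact Relation.ReflTransGen.refl) h1
  apply h3 r
  rcases List.mem_cons.mp (h2 r hr) with h5 | h5
  · exact Or.inr (by rw [h5]; exact List.mem_singleton.mpr rfl)
  · exact Or.inl h5

/-- long roots as sums of two short roots with structure constant `±m` -/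
def longCheck (D : ChevalleyDatum) (m : ℤ) (lc : List (ℕ × ℕ × ℕ × ℤ)) : Bool :=
  (List.range D.nroots).all fun r => !D.isLong r || lc.any fun e =>
    decide (e.1 = r) && decide (e.2.1 < D.nroots) && decide (e.2.2.1 < D.nroots) &&
      !D.isLong e.2.1 && !D.isLong e.2.2.1 && decide (e.2.2.1 ≠ e.2.1) &&
      decide (e.2.2.1 ≠ D.neg e.2.1) &&
      decide (D.commTerms e.2.1 e.2.2.1 = [(r, e.2.2.2, 1, 1)]) &&
      (decide (e.2.2.2 = m) || decide (e.2.2.2 = -m))

def LongOK (D : ChevalleyDatum) (m : ℤ) : Prop :=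
  ∀ r < D.nroots, D.isLong r = true → ∃ (a b : ℕ) (c : ℤ), a < D.nroots ∧ b < D.nroots ∧
    D.isLong a = false ∧ D.isLong b = false ∧ b ≠ a ∧ b ≠ D.neg a ∧
    D.commTerms a b = [(r, c, 1, 1)] ∧ (c = m ∨ c = -m)

theorem long_sound (D : ChevalleyDatum) (m : ℤ) (lc : List (ℕ × ℕ × ℕ × ℤ))
    (h : longCheck D m lc = true) : LongOK D m := by
  unfold longCheck at h
  simp only [List.all_eq_true, List.mem_range, Bool.or_eq_true, Bool.not_eq_true',
    List.any_eq_true, Bool.and_eq_true, decide_eq_true_eq] at h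
  intro r hr hl
  rcases h r hr with h1 | ⟨e, _, h1⟩
  · rw [hl] at h1
    exact absurd h1 (by simp)
  · obtain ⟨⟨⟨⟨⟨⟨⟨⟨_, ha⟩, hb⟩, hla⟩, hlb⟩, hne⟩, hne'⟩, hct⟩, hc⟩ := h1
    exact ⟨e.2.1, e.2.2.1, e.2.2.2, ha, hb, hla, hlb, hne, hne', hct, hc⟩

def certSG2 : List (ℕ × ℕ × ℕ) := [(3, 0, 2), (4, 1, 3), (7, 0, 4), (8, 1, 7), (9, 0, 8)]

set_option maxRecDepth 1000000 in
theorem coverSG2 : coverCheck chevG2 2 certSG2 = true := by decide +kernel

def certLG2 : List (ℕ × ℕ × ℕ) := [(1, 1, 0), (5, 0, 1), (6, 1, 5), (10, 0, 6), (11, 1, 10)]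

set_option maxRecDepth 1000000 in
theorem coverLG2 : coverCheck chevG2 0 certLG2 = true := by decide +kernel

def longCertG2 : List (ℕ × ℕ × ℕ × ℤ) := [(0, 2, 3, 3), (1, 2, 4, 3), (5, 3, 7, -3), (6, 4, 8, -3), (10, 7, 9, 3), (11, 8, 9, 3)]

set_option maxRecDepth 1000000 in
theorem longG2 : longCheck chevG2 3 longCertG2 = true := by decide +kernel

def certSB2 : List (ℕ × ℕ × ℕ) := [(2, 1, 1), (5, 0, 2), (6, 1, 5)]

set_option maxRecDepth 1000000 in
theorem coverSB2 : coverCheck chevB2 1 certSB2 = true := by decide +kernel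

def certLB2 : List (ℕ × ℕ × ℕ) := [(3, 0, 0), (4, 1, 3), (7, 0, 4)]

set_option maxRecDepth 1000000 in
theorem coverLB2 : coverCheck chevB2 0 certLB2 = true := by decide +kernel

def longCertB2 : List (ℕ × ℕ × ℕ × ℤ) := [(0, 1, 2, 2), (3, 1, 5, -2), (4, 2, 6, -2), (7, 5, 6, 2)]

set_option maxRecDepth 1000000 in
theorem longB2 : longCheck chevB2 2 longCertB2 = true := by decide +kernel

def certSD4 : List (ℕ × ℕ × ℕ) := [(1, 1, 0), (6, 0, 1), (3, 2, 1), (2, 3, 1), (8, 2, 6), (7, 3, 6), (4, 3, 3), (11, 1, 8), (9, 3, 8), (10, 1, 7), (5, 1, 4), (12, 3, 11), (14, 1, 9), (13, 2, 10), (18, 0, 5), (15, 1, 12), (19, 0, 14), (16, 2, 14), (20, 0, 15), (17, 2, 15), (21, 2, 19), (22, 2, 20), (23, 1, 22)]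

set_option maxRecDepth 1000000 in
theorem coverAD4 : coverAllCheck chevD4 0 certSD4 = true := by decide +kernel

def certSF4 : List (ℕ × ℕ × ℕ) := [(7, 0, 3), (8, 1, 7), (9, 2, 8), (11, 1, 9), (10, 3, 9), (18, 0, 11), (12, 3, 11), (19, 3, 18), (13, 2, 12), (20, 2, 19), (14, 1, 13), (27, 1, 20), (33, 0, 14), (34, 0, 27), (28, 2, 27), (35, 2, 34), (29, 3, 28), (37, 1, 35), (36, 3, 35), (38, 3, 37), (39, 2, 38), (40, 1, 39), (44, 0, 40)]

set_option maxRecDepth 1000000 in
theorem coverSF4 : coverCheck chevF4 3 certSF4 = true := by decide +kernel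

def certLF4 : List (ℕ × ℕ × ℕ) := [(1, 3, 0), (2, 2, 1), (4, 1, 2), (15, 0, 4), (5, 2, 4), (16, 2, 15), (6, 3, 5), (21, 1, 16), (17, 3, 16), (23, 2, 21), (22, 3, 21), (24, 3, 23), (25, 2, 22), (26, 2, 24), (30, 1, 25), (31, 1, 26), (41, 0, 30), (42, 0, 31), (32, 2, 31), (43, 2, 42), (45, 1, 43), (46, 2, 45), (47, 3, 46)]

set_option maxRecDepth 1000000 in
theorem coverLF4 : coverCheck chevF4 0 certLF4 = true := by decide +kernel

def longCertF4 : List (ℕ × ℕ × ℕ × ℤ) := [(0, 3, 18, 2), (1, 3, 19, 2), (2, 3, 20, 2), (4, 3, 27, 2), (5, 3, 28, -2), (6, 3, 29, 2), (15, 7, 34, -2), (16, 7, 35, 2), (17, 7, 36, -2), (21, 8, 37, 2), (22, 8, 38, -2), (23, 9, 37, -2), (24, 10, 38, -2), (25, 9, 39, -2), (26, 10, 39, 2), (30, 11, 40, -2), (31, 12, 40, 2), (32, 13, 40, -2), (41, 18, 44, 2), (42, 19, 44, -2), (43, 20, 44, 2), (45, 27, 44, 2), (46, 28, 44, 2), (47, 29, 44, 2)]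

set_option maxRecDepth 1000000 in
theorem longF4 : longCheck chevF4 2 longCertF4 = true := by decide +kernel

def certSE6 : List (ℕ × ℕ × ℕ) := [(1, 1, 0), (2, 3, 1), (5, 2, 2), (3, 4, 2), (16, 0, 5), (6, 4, 5), (4, 5, 3), (17, 4, 16), (8, 3, 6), (7, 5, 6), (19, 3, 17), (18, 5, 17), (11, 1, 8), (9, 5, 8), (26, 1, 19), (22, 2, 19), (20, 5, 19), (12, 5, 11), (10, 4, 9), (30, 2, 26), (27, 5, 26), (23, 5, 22), (21, 4, 20), (13, 4, 12), (33, 3, 30), (31, 5, 30), (28, 4, 27), (24, 4, 23), (14, 3, 13), (35, 4, 33), (34, 5, 33), (32, 4, 31), (29, 3, 28), (25, 3, 24), (15, 2, 14), (36, 5, 35), (37, 4, 34), (39, 3, 32), (42, 2, 29), (46, 1, 25), (56, 0, 15), (38, 4, 36), (40, 3, 37), (47, 1, 39), (43, 2, 39), (57, 0, 42), (41, 3, 38), (48, 1, 40), (44, 2, 40), (50, 2, 47), (58, 0, 43), (49, 1, 41), (45, 2, 41), (51, 2, 48), (59, 0, 44), (61, 0, 50), (52, 2, 49), (60, 0, 45), (62, 0, 51), (53, 3, 51), (63, 0, 52), (54, 3, 52), (64, 3, 62), (65, 3, 63),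 (55, 4, 54), (67, 2, 64), (68, 2, 65), (66, 4, 65), (69, 4, 68), (70, 3, 69), (71, 1, 70)]

set_option maxRecDepth 1000000 in
theorem coverAE6 : coverAllCheck chevE6 0 certSE6 = true := by decide +kernel

def certSE7 : List (ℕ × ℕ × ℕ) := [(1, 0, 0), (2, 2, 1), (3, 3, 2), (7, 1, 3), (4, 4, 3), (8, 4, 7), (5, 5, 4), (11, 3, 8), (9, 5, 8), (6, 6, 5), (17, 2, 11), (12, 5, 11), (10, 6, 9), (33, 0, 17), (18, 5, 17), (14, 4, 12), (13, 6, 12), (34, 5, 33), (20, 4, 18), (19, 6, 18), (15, 6, 14), (36, 4, 34), (35, 6, 34), (23, 3, 20), (21, 6, 20), (16, 5, 15), (39, 3, 36), (37, 6, 36), (27, 1, 23), (24, 6, 23), (22, 5, 21), (48, 1, 39), (43, 2, 39), (40, 6, 39), (38, 5, 37), (28, 6, 27), (25, 5, 24), (53, 2, 48), (49, 6, 48), (44, 6, 43), (41, 5, 40), (29, 5, 28), (26, 4, 25), (57, 3, 53), (54, 6, 53), (50, 5, 49), (45, 5, 44), (42, 4, 41), (30, 4, 29), (60, 4, 57), (58, 6, 57), (55, 5, 54), (51, 4, 50), (46, 4, 45), (31, 3, 30), (62, 5, 60), (61, 6,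 60), (59, 5, 58), (56, 4, 55), (52, 3, 51), (47, 3, 46), (32, 2, 31), (63, 6, 62), (64, 5, 61), (66, 4, 59), (69, 3, 56), (73, 2, 52), (78, 1, 47), (93, 0, 32), (65, 5, 63), (67, 4, 64), (70, 3, 66), (79, 1, 69), (74, 2, 69), (94, 0, 73), (68, 4, 65), (71, 3, 67), (80, 1, 70), (75, 2, 70), (83, 2, 79), (95, 0, 74), (72, 3, 68), (81, 1, 71), (76, 2, 71), (84, 2, 80), (96, 0, 75), (99, 0, 83), (82, 1, 72), (77, 2, 72), (85, 2, 81), (97, 0, 76), (100, 0, 84), (87, 3, 84), (86, 2, 82), (98, 0, 77), (101, 0, 85), (88, 3, 85), (103, 3, 100), (102, 0, 86), (89, 3, 86), (104, 3, 101), (90, 4, 88), (109, 2, 103), (105, 3, 102), (91, 4, 89), (110, 2, 104), (106, 4, 104), (111, 2, 105), (107, 4, 105), (92, 5, 91), (112, 4, 110), (113, 4, 111), (108, 5, 107), (115, 3, 112), (116, 3, 113), (114, 5, 113), (119, 1, 115), (120, 1, 116), (117, 5, 116), (121, 5, 120), (118, 4, 117), (122, 4, 121), (123, 3, 122), (124, 2, 123), (125, 0, 124)]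

set_option maxRecDepth 1000000 in
theorem coverAE7 : coverAllCheck chevE7 0 certSE7 = true := by decide +kernel

def certSE8 : List (ℕ × ℕ × ℕ) := [(1, 7, 0), (2, 6, 1), (3, 5, 2), (4, 4, 3), (5, 3, 4), (7, 1, 5), (6, 2, 5), (8, 2, 7), (14, 0, 6), (15, 0, 8), (9, 3, 8), (16, 3, 15), (10, 4, 9), (21, 2, 16), (17, 4, 16), (11, 5, 10), (22, 4, 21), (18, 5, 17), (12, 6, 11), (26, 3, 22), (23, 5, 22), (19, 6, 18), (13, 7, 12), (36, 1, 26), (27, 5, 26), (24, 6, 23), (20, 7, 19), (37, 5, 36), (30, 4, 27), (28, 6, 27), (25, 7, 24), (40, 4, 37), (38, 6, 37), (31, 6, 30), (29, 7, 28), (46, 3, 40), (41, 6, 40), (39, 7, 38), (33, 5, 31), (32, 7, 31), (56, 2, 46), (47, 6, 46), (43, 5, 41), (42, 7, 41), (34, 7, 33), (78, 0, 56), (57, 6, 56), (49, 5, 47), (48, 7, 47), (44, 7, 43), (35, 6, 34), (79, 6, 78), (59, 5, 57), (58, 7, 57), (52, 4, 49), (50, 7, 49), (45, 6, 44), (81, 5, 79), (80, 7, 79), (62, 4, 59), (60, 7, 59), (53, 7, 52), (51, 6, 50), (84, 4, 81),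 (82, 7, 81), (66, 3, 62), (63, 7, 62), (61, 6, 60), (54, 6, 53), (88, 3, 84), (85, 7, 84), (83, 6, 82), (71, 1, 66), (67, 7, 66), (64, 6, 63), (55, 5, 54), (99, 1, 88), (93, 2, 88), (89, 7, 88), (86, 6, 85), (72, 7, 71), (68, 6, 67), (65, 5, 64), (105, 2, 99), (100, 7, 99), (94, 7, 93), (90, 6, 89), (87, 5, 86), (73, 6, 72), (69, 5, 68), (110, 3, 105), (106, 7, 105), (101, 6, 100), (95, 6, 94), (91, 5, 90), (74, 5, 73), (70, 4, 69), (114, 4, 110), (111, 7, 110), (107, 6, 106), (102, 5, 101), (96, 5, 95), (92, 4, 91), (75, 4, 74), (117, 5, 114), (115, 7, 114), (112, 6, 111), (108, 5, 107), (103, 4, 102), (97, 4, 96), (76, 3, 75), (119, 6, 117), (118, 7, 117), (116, 6, 115), (113, 5, 112), (109, 4, 108), (104, 3, 103), (98, 3, 97), (77, 2, 76), (120, 7, 119), (121, 6, 118), (123, 5, 116), (126, 4, 113), (130, 3, 109), (135, 2, 104), (141, 1, 98), (162, 0, 77), (122, 6, 120), (124, 5, 121), (127, 4, 123), (131, 3, 126), (142, 1, 130), (136, 2, 130),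 (163, 0, 135), (125, 5, 122), (128, 4, 124), (132, 3, 127), (143, 1, 131), (137, 2, 131), (147, 2, 142), (164, 0, 136), (129, 4, 125), (133, 3, 128), (144, 1, 132), (138, 2, 132), (148, 2, 143), (165, 0, 137), (169, 0, 147), (134, 3, 129), (145, 1, 133), (139, 2, 133), (149, 2, 144), (166, 0, 138), (170, 0, 148), (152, 3, 148), (146, 1, 134), (140, 2, 134), (150, 2, 145), (167, 0, 139), (171, 0, 149), (153, 3, 149), (174, 3, 170), (151, 2, 146), (168, 0, 140), (172, 0, 150), (154, 3, 150), (175, 3, 171), (156, 4, 153), (184, 2, 174), (173, 0, 151), (155, 3, 151), (176, 3, 172), (157, 4, 154), (185, 2, 175), (178, 4, 175), (177, 3, 173), (158, 4, 155), (186, 2, 176), (179, 4, 176), (159, 5, 157), (188, 4, 185), (187, 2, 177), (180, 4, 177), (160, 5, 158), (189, 4, 186), (181, 5, 179), (194, 3, 188), (190, 4, 187), (182, 5, 180), (161, 6, 160), (195, 3, 189), (191, 5, 189), (204, 1, 194), (196, 3, 190), (192, 5, 190), (183, 6, 182), (205, 1, 195),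 (197, 5, 195), (206, 1, 196), (198, 5, 196), (193, 6, 192), (207, 5, 205), (200, 4, 197), (208, 5, 206), (201, 4, 198), (199, 6, 198), (210, 4, 207), (211, 4, 208), (209, 6, 208), (202, 6, 201), (214, 3, 210), (215, 3, 211), (212, 6, 211), (203, 5, 202), (219, 2, 214), (220, 2, 215), (216, 6, 215), (213, 5, 212), (226, 0, 219), (227, 0, 220), (221, 6, 220), (217, 5, 216), (228, 6, 227), (222, 5, 221), (218, 4, 217), (229, 5, 228), (223, 4, 222), (230, 4, 229), (224, 3, 223), (231, 3, 230), (225, 1, 224), (233, 1, 231), (232, 2, 231), (234, 2, 233), (235, 3, 234), (236, 4, 235), (237, 5, 236), (238, 6, 237), (239, 7, 238)]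

set_option maxRecDepth 1000000 in
theorem coverAE8 : coverAllCheck chevE8 0 certSE8 = true := by decide +kernel


end Cfsg.Agent.helper6.Orb
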