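import Mathlib
import Cfsg.Agent.Lib_helper5_ChevBN1
import Cfsg.Agent.Lib_helper6_OrbChk

set_option autoImplicit false

/-! Roots of equal length are conjugate under the fundamental reflections; consequences for
subgroups containing the `n_p` (helper6). -/

namespace Cfsg.Agent.helper6.Orb

open Cfsg.Lie Cfsg.Agent.helper5.Chev

theorem reach_lt {D : ChevalleyDatum} (hR : RootsOK D) (a b : ℕ) (ha : a < D.nroots)
    (h : Reach D a b) : b < D.nroots := by
  induction h with
  | refl => exact ha
  | tail _ hstep ih =>
    obtain ⟨j, hj, rfl⟩ := hstep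
    exact hR.refl_lt j hj _ ih

theorem reach_symm {D : ChevalleyDatum} (hR : RootsOK D) (a b : ℕ) (ha : a < D.nroots)
    (h : Reach D a b) : Reach D b a := by
  induction h with
  | refl => exact Relation.ReflTransGen.refl
  | @tail b c hab hstep ih =>
    obtain ⟨j, hj, rfl⟩ := hstep
    have hb := reach_lt hR a b ha hab
    refine Relation.ReflTransGen.head ⟨j, hj, ?_⟩ ih
    exact (hR.refl_refl j hj b hb).symm

theorem reach_of_base {D : ChevalleyDatum} (hR : RootsOK D) (b : ℕ) (hb : b < D.nroots)
    (r s : ℕ) (hr : Reach D b r) (hs : Reach D b s) : Reach D r s :=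
  Relation.ReflTransGen.trans (reach_symm hR b r hb hr) hs

theorem two_lengths (D : ChevalleyDatum) (hR : RootsOK D) (bS bL : ℕ) (hbS : bS < D.nroots)
    (hbL : bL < D.nroots) (h1 : D.isLong bS = false) (h2 : D.isLong bL = true)
    (hS : ∀ r < D.nroots, D.isLong r = D.isLong bS → Reach D bS r)
    (hL : ∀ r < D.nroots, D.isLong r = D.isLong bL → Reach D bL r) :
    ∀ r < D.nroots, ∀ s < D.nroots, D.isLong r = D.isLong s → Reach D r s := by
  intro r hr s hs hrs
  cases hl : D.isLong r
  · exact reach_of_base hR bS hbS r s (hS r hr (by rw [hl, h1]))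
      (hS s hs (by rw [← hrs, hl, h1]))
  · exact reach_of_base hR bL hbL r s (hL r hr (by rw [hl, h2]))
      (hL s hs (by rw [← hrs, hl, h2]))

/-- the certificates, packaged: either all roots are conjugate, or the type is `G₂`, `B₂`, `F₄`
and roots of equal length are conjugate, long roots being sums of two short ones -/
theorem reach_cases (D : ChevalleyDatum)
    (hD : D ∈ [chevG2, chevB2, chevD4, chevF4, chevE6, chevE7, chevE8]) :
    (∀ r < D.nroots, ∀ s < D.nroots, Reach D r s) ∨
    ((D = chevG2 ∨ D = chevB2 ∨ D = chevF4) ∧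
      (∀ r < D.nroots, ∀ s < D.nroots, D.isLong r = D.isLong s → Reach D r s) ∧
      LongOK D (if D.nroots = 12 then 3 else 2)) := by
  have hR := rootsOK_of_mem D hD
  simp only [List.mem_cons, List.not_mem_nil, or_false] at hD
  rcases hD with rfl | rfl | rfl | rfl | rfl | rfl | rfl
  · right
    refine ⟨Or.inl rfl, ?_, long_sound _ _ _ longG2⟩
    exact two_lengths _ hR 2 0 (by decide) (by decide) (by decide +kernel) (by decide +kernel)
      (cover_sound _ _ _ coverSG2) (cover_sound _ _ _ coverLG2)
  · right
    refine ⟨Or.inr (Or.inl rfl), ?_, long_sound _ _ _ longB2⟩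
    exact two_lengths _ hR 1 0 (by decide) (by decide) (by decide +kernel) (by decide +kernel)
      (cover_sound _ _ _ coverSB2) (cover_sound _ _ _ coverLB2)
  · left
    intro r hr s hs
    exact reach_of_base hR 0 (by decide) r s (coverAll_sound _ _ _ coverAD4 r hr)
      (coverAll_sound _ _ _ coverAD4 s hs)
  · right
    refine ⟨Or.inr (Or.inr rfl), ?_, long_sound _ _ _ longF4⟩
    exact two_lengths _ hR 3 0 (by decide) (by decide) (by decide +kernel) (by decide +kernel)
      (cover_sound _ _ _ coverSF4) (cover_sound _ _ _ coverLF4)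
  · left
    intro r hr s hs
    exact reach_of_base hR 0 (by decide) r s (coverAll_sound _ _ _ coverAE6 r hr)
      (coverAll_sound _ _ _ coverAE6 s hs)
  · left
    intro r hr s hs
    exact reach_of_base hR 0 (by decide) r s (coverAll_sound _ _ _ coverAE7 r hr)
      (coverAll_sound _ _ _ coverAE7 s hs)
  · left
    intro r hr s hs
    exact reach_of_base hR 0 (by decide) r s (coverAll_sound _ _ _ coverAE8 r hr)
      (coverAll_sound _ _ _ coverAE8 s hs)

/-- **roots of equal length are conjugate under the fundamental reflections** -/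
theorem reach_same (D : ChevalleyDatum)
    (hD : D ∈ [chevG2, chevB2, chevD4, chevF4, chevE6, chevE7, chevE8]) :
    ∀ r < D.nroots, ∀ s < D.nroots, D.isLong r = D.isLong s → Reach D r s := by
  rcases reach_cases D hD with h | ⟨_, h, _⟩
  · intro r hr s hs _
    exact h r hr s hs
  · exact h

section
variable {F : Type*} [Field F] (D : ChevalleyDatum)
  (hD : D ∈ [chevG2, chevB2, chevD4, chevF4, chevE6, chevE7, chevE8])

/-- root subgroups of conjugate roots lie together in any subgroup containing the `n_p` -/
theorem xG_mem_of_reach (K : Subgroup (GL D.Idx F))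
    (hn : ∀ j < D.rank, nGt D hD (D.simple j) (1 : F) ∈ K) (a b : ℕ) (ha : a < D.nroots)
    (h : Reach D a b) (hK : ∀ t : F, xG D hD a t ∈ K) : ∀ t : F, xG D hD b t ∈ K := by
  have hR := rootsOK_of_mem D hD
  induction h with
  | refl => exact hK
  | @tail b c hab hstep ih =>
    obtain ⟨j, hj, rfl⟩ := hstep
    have hb := reach_lt hR a b ha hab
    intro t
    have h1 := hn j hj
    have h2 := K.mul_mem (K.mul_mem h1 (ih (((etaOf D j b : ℤ) : F) * t))) (K.inv_mem h1)
    rw [nG_conj D hD j hj b hb, ← mul_assoc, eta_cast_sq D hD j b hj hb, one_mul] at h2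
    exact h2

end

end Cfsg.Agent.helper6.Orb
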