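import Mathlib
import Cfsg.Prelude.Def_ChevAutomorphisms
import Cfsg.Prelude.Def_ChevD4
import Cfsg.Prelude.Def_ChevE6

set_option autoImplicit false

/-! Table checks for the action of diagram symmetries on the roots of `D₄` and `E₆` (helper6). -/

namespace Cfsg.Agent.helper6.PermRoot

open Cfsg.Lie

/-- boolean form of `IsDiagramSymmetry` -/
def symCheck (D : ChevalleyDatum) (π : Equiv.Perm (Fin D.rank)) : Bool :=
  (List.finRange D.rank).all fun i => (List.finRange D.rank).all fun j =>
    decide (i = j) || decide (D.bonds (π i) (π j) = D.bonds i j)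

/-- compatibility of `permRoot` with fundamental roots and fundamental reflections -/
def tabCheck (D : ChevalleyDatum) (π : Equiv.Perm (Fin D.rank)) : Bool :=
  ((List.finRange D.rank).all fun i =>
    decide (D.permRoot π (D.simple i) = D.simple (π i)) &&
    (List.range D.nroots).all fun s =>
      decide (D.reflectRoot (π i) (D.permRoot π s) = D.permRoot π (D.reflectRoot i s))) &&
  (List.range D.nroots).all fun s => decide (D.permRoot π s < D.nroots)

set_option maxRecDepth 1000000 in
theorem check_D4 : ∀ π : Equiv.Perm (Fin chevD4.rank),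
    symCheck chevD4 π = true → tabCheck chevD4 π = true := by decide +kernel

set_option maxRecDepth 1000000 in
theorem check_E6 : ∀ π : Equiv.Perm (Fin chevE6.rank),
    symCheck chevE6 π = true → tabCheck chevE6 π = true := by decide +kernel

/-- the table facts used for graph automorphisms -/
structure TabOK (D : ChevalleyDatum) (π : Equiv.Perm (Fin D.rank)) : Prop where
  simple : ∀ i : Fin D.rank, D.permRoot π (D.simple i) = D.simple (π i)
  refl : ∀ i : Fin D.rank, ∀ s < D.nroots,
    D.reflectRoot (π i) (D.permRoot π s) = D.permRoot π (D.reflectRoot i s)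
  lt : ∀ s < D.nroots, D.permRoot π s < D.nroots

theorem symCheck_of_sym (D : ChevalleyDatum) (π : Equiv.Perm (Fin D.rank))
    (hπ : D.IsDiagramSymmetry π) : symCheck D π = true := by
  unfold symCheck
  simp only [List.all_eq_true, List.mem_finRange, Bool.or_eq_true, decide_eq_true_eq,
    true_implies]
  intro i j
  by_cases h : i = j
  · exact Or.inl h
  · exact Or.inr (hπ i j h)

theorem tabOK_of_check (D : ChevalleyDatum) (π : Equiv.Perm (Fin D.rank))
    (h : tabCheck D π = true) : TabOK D π := by
  unfold tabCheck at h
  simp only [Bool.and_eq_true, List.all_eq_true, decide_eq_true_eq, List.mem_range,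
    List.mem_finRange, true_implies] at h
  exact ⟨fun i => (h.1 i).1, fun i s hs => (h.1 i).2 s hs, h.2⟩

theorem tabOK_of_sym (D : ChevalleyDatum) (hD : D ∈ [chevD4, chevE6])
    (π : Equiv.Perm (Fin D.rank)) (hπ : D.IsDiagramSymmetry π) : TabOK D π := by
  simp only [List.mem_cons, List.not_mem_nil, or_false] at hD
  rcases hD with rfl | rfl
  · exact tabOK_of_check _ π (check_D4 π (symCheck_of_sym _ π hπ))
  · exact tabOK_of_check _ π (check_E6 π (symCheck_of_sym _ π hπ))

end Cfsg.Agent.helper6.PermRoot
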