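import Mathlib
import Cfsg.Agent.S0199
import Cfsg.Agent.Lib_helper1_Core

set_option autoImplicit false
set_option linter.unusedSectionVars false
set_option linter.unusedVariables false

/-!
helper6: a conjugation-invariant set `K` of subgroups of order `p` which is a "polar space"
(lines `XY` for commuting members consist of members, and every member commutes with a point of
every line) has a member commuting with all members (S3196).
-/

namespace Cfsg.Agent.helper6.PolarP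

variable {G : Type*} [Group G]

/-- elementwise commuting subgroups -/
def Comm (X Y : Subgroup G) : Prop := ∀ x ∈ X, ∀ y ∈ Y, x * y = y * x

theorem Comm.symm {X Y : Subgroup G} (h : Comm X Y) : Comm Y X :=
  fun y hy x hx => (h x hx y hy).symm

section basic

variable {p : ℕ} [Fact p.Prime]

theorem exists_zpow_eq {X : Subgroup G} (hX : Nat.card X = p) {x : G} (hx : x ∈ X) (hx1 : x ≠ 1)
    {h : G} (hh : h ∈ X) : ∃ k : ℤ, x ^ k = h := by
  have h1 : Subgroup.zpowers (⟨x, hx⟩ : X) = ⊤ :=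
    zpowers_eq_top_of_prime_card hX (by intro h0; exact hx1 (congrArg Subtype.val h0))
  have h2 : (⟨h, hh⟩ : X) ∈ Subgroup.zpowers (⟨x, hx⟩ : X) := by rw [h1]; trivial
  obtain ⟨k, hk⟩ := Subgroup.mem_zpowers_iff.mp h2
  refine ⟨k, ?_⟩
  have := congrArg Subtype.val hk
  rw [Subgroup.coe_zpow] at this
  exact this

theorem pow_eq_one {X : Subgroup G} (hX : Nat.card X = p) {x : G} (hx : x ∈ X) : x ^ p = 1 := by
  have h1 : (⟨x, hx⟩ : X) ^ Nat.card X = 1 := pow_card_eq_one'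
  rw [hX] at h1
  have := congrArg Subtype.val h1
  rw [Subgroup.coe_pow] at this
  exact this

theorem exists_ne_one {X : Subgroup G} (hX : Nat.card X = p) : ∃ x ∈ X, x ≠ 1 := by
  have hp := (Fact.out : p.Prime)
  by_contra hcon
  push Not at hcon
  have h1 : X = ⊥ := (Subgroup.eq_bot_iff_forall X).mpr hcon
  rw [h1, Subgroup.card_bot] at hX
  exact hp.one_lt.ne hX

theorem comm_of_gen {X W : Subgroup G} (hX : Nat.card X = p) (hW : Nat.card W = p) {x w : G}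
    (hx : x ∈ X) (hw : w ∈ W) (hx1 : x ≠ 1) (hw1 : w ≠ 1) (h : x * w = w * x) : Comm X W := by
  intro a ha b hb
  obtain ⟨k, rfl⟩ := exists_zpow_eq hX hx hx1 ha
  obtain ⟨m, rfl⟩ := exists_zpow_eq hW hw hw1 hb
  exact (Commute.zpow_zpow (show Commute x w from h) k m).eq

theorem comm_self {X : Subgroup G} (hX : Nat.card X = p) : Comm X X := by
  intro a ha b hb
  by_cases ha1 : a = 1
  · subst ha1; simp
  obtain ⟨m, rfl⟩ := exists_zpow_eq hX ha ha1 hb
  exact ((Commute.refl a).zpow_right m).eq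

theorem eq_of_common {X Y : Subgroup G} (hX : Nat.card X = p) (hY : Nat.card Y = p) {x : G}
    (hxX : x ∈ X) (hxY : x ∈ Y) (hx1 : x ≠ 1) : X = Y := by
  apply le_antisymm
  · intro a ha
    obtain ⟨k, rfl⟩ := exists_zpow_eq hX hxX hx1 ha
    exact Subgroup.zpow_mem _ hxY k
  · intro a ha
    obtain ⟨k, rfl⟩ := exists_zpow_eq hY hxY hx1 ha
    exact Subgroup.zpow_mem _ hxX k

theorem card_zpowers_of {z : G} (hz : z ^ p = 1) (hz1 : z ≠ 1) :
    Nat.card (Subgroup.zpowers z) = p := by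
  rw [Nat.card_zpowers]; exact orderOf_eq_prime hz hz1

/-- the product set of two commuting subgroups -/
def prodSub (X Y : Subgroup G) (hc : Comm X Y) : Subgroup G where
  carrier := {g | ∃ x ∈ X, ∃ y ∈ Y, g = x * y}
  one_mem' := ⟨1, X.one_mem, 1, Y.one_mem, by simp⟩
  mul_mem' := by
    rintro _ _ ⟨x, hx, y, hy, rfl⟩ ⟨x', hx', y', hy', rfl⟩
    refine ⟨x * x', X.mul_mem hx hx', y * y', Y.mul_mem hy hy', ?_⟩
    have h1 := hc x' hx' y hy
    calc x * y * (x' * y') = x * (y * x') * y' := by group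
      _ = x * (x' * y) * y' := by rw [h1]
      _ = x * x' * (y * y') := by group
  inv_mem' := by
    rintro _ ⟨x, hx, y, hy, rfl⟩
    refine ⟨x⁻¹, X.inv_mem hx, y⁻¹, Y.inv_mem hy, ?_⟩
    rw [mul_inv_rev]
    exact (hc x⁻¹ (X.inv_mem hx) y⁻¹ (Y.inv_mem hy)).symm

theorem exists_mul_of_mem_sup {X Y : Subgroup G} (hc : Comm X Y) {g : G} (hg : g ∈ X ⊔ Y) :
    ∃ x ∈ X, ∃ y ∈ Y, g = x * y := by
  have h1 : X ⊔ Y ≤ prodSub X Y hc := by
    apply sup_le
    · intro x hx; exact ⟨x, hx, 1, Y.one_mem, by simp⟩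
    · intro y hy; exact ⟨1, X.one_mem, y, hy, by simp⟩
  exact h1 hg

theorem sup_comm_elems {X Y : Subgroup G} (hX : Nat.card X = p) (hY : Nat.card Y = p)
    (hc : Comm X Y) : ∀ a ∈ X ⊔ Y, ∀ b ∈ X ⊔ Y, a * b = b * a := by
  intro a ha b hb
  obtain ⟨x, hx, y, hy, rfl⟩ := exists_mul_of_mem_sup hc ha
  obtain ⟨x', hx', y', hy', rfl⟩ := exists_mul_of_mem_sup hc hb
  have c1 : Commute x x' := comm_self hX x hx x' hx'
  have c2 : Commute x y' := hc x hx y' hy'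
  have c3 : Commute y x' := (hc x' hx' y hy).symm
  have c4 : Commute y y' := comm_self hY y hy y' hy'
  exact ((c1.mul_right c2).mul_left (c3.mul_right c4)).eq

theorem pow_eq_one_of_mem_sup {X Y : Subgroup G} (hX : Nat.card X = p) (hY : Nat.card Y = p)
    (hc : Comm X Y) {g : G} (hg : g ∈ X ⊔ Y) : g ^ p = 1 := by
  obtain ⟨x, hx, y, hy, rfl⟩ := exists_mul_of_mem_sup hc hg
  rw [(show Commute x y from hc x hx y hy).mul_pow, pow_eq_one hX hx, pow_eq_one hY hy, one_mul]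

end basic

/-- the hypotheses -/
structure Hyp (p : ℕ) (K : Set (Subgroup G)) : Prop where
  card : ∀ X ∈ K, Nat.card ↥X = p
  conj : ∀ X ∈ K, ∀ g : G, X.map (MulAut.conj g).toMonoidHom ∈ K
  ex : ∃ X ∈ K, ∃ Y ∈ K, X ≠ Y ∧ Comm X Y
  a : ∀ X ∈ K, ∀ Y ∈ K, X ≠ Y → Comm X Y → ∀ Z : Subgroup G, Z ≤ X ⊔ Y → Nat.card ↥Z = p → Z ∈ K
  b : ∀ X ∈ K, ∀ Y ∈ K, X ≠ Y → Comm X Y →
    ∀ W ∈ K, (X ⊔ Y) ⊓ Subgroup.centralizer (W : Set G) ≠ ⊥

variable {p : ℕ} [Fact p.Prime] {K : Set (Subgroup G)}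

theorem exists_ne_one_of_ne_bot {H : Subgroup G} (h : H ≠ ⊥) : ∃ z ∈ H, z ≠ 1 := by
  obtain ⟨⟨z, hz⟩, hz1⟩ := (Subgroup.ne_bot_iff_exists_ne_one).mp h
  exact ⟨z, hz, fun h0 => hz1 (Subtype.ext h0)⟩

/-- every member commutes with a member on each line -/
theorem exists_on_line (H : Hyp p K) {X Y : Subgroup G} (hX : X ∈ K) (hY : Y ∈ K) (hne : X ≠ Y)
    (hc : Comm X Y) {W : Subgroup G} (hW : W ∈ K) : ∃ Z ∈ K, Z ≤ X ⊔ Y ∧ Comm Z W := by
  obtain ⟨z, hz, hz1⟩ := exists_ne_one_of_ne_bot (H.b X hX Y hY hne hc W hW)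
  have hzp : z ^ p = 1 := pow_eq_one_of_mem_sup (H.card X hX) (H.card Y hY) hc hz.1
  have hle : Subgroup.zpowers z ≤ X ⊔ Y := (Subgroup.zpowers_le).mpr hz.1
  refine ⟨Subgroup.zpowers z, H.a X hX Y hY hne hc _ hle (card_zpowers_of hzp hz1), hle, ?_⟩
  intro a ha w hw
  have h1 : Subgroup.zpowers z ≤ Subgroup.centralizer (W : Set G) :=
    (Subgroup.zpowers_le).mpr hz.2
  exact (Subgroup.mem_centralizer_iff.mp (h1 ha) w hw).symm

/-- every member lies on a line -/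
theorem exists_line (H : Hyp p K) {X : Subgroup G} (hX : X ∈ K) :
    ∃ Y ∈ K, Y ≠ X ∧ Comm X Y := by
  obtain ⟨X₀, hX₀, Y₀, hY₀, hne, hc⟩ := H.ex
  obtain ⟨Z, hZK, hZle, hZX⟩ := exists_on_line H hX₀ hY₀ hne hc hX
  by_cases hZ : Z = X
  · subst hZ
    have hab := sup_comm_elems (H.card X₀ hX₀) (H.card Y₀ hY₀) hc
    by_cases h1 : X₀ = Z
    · refine ⟨Y₀, hY₀, fun h => hne (h1.trans h.symm), ?_⟩
      intro a ha b hb
      exact hab a (hZle ha) b (Subgroup.mem_sup_right hb)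
    · refine ⟨X₀, hX₀, h1, ?_⟩
      intro a ha b hb
      exact hab a (hZle ha) b (Subgroup.mem_sup_left hb)
  · exact ⟨Z, hZK, hZ, hZX.symm⟩

/-- two non-commuting members commute with a common member -/
theorem exists_common (H : Hyp p K) {X W : Subgroup G} (hX : X ∈ K) (hW : W ∈ K)
    (hXW : ¬ Comm X W) : ∃ Y ∈ K, Comm X Y ∧ Comm W Y := by
  obtain ⟨X', hX', hne, hc⟩ := exists_line H hX
  obtain ⟨Z, hZK, hZle, hZW⟩ := exists_on_line H hX hX' (Ne.symm hne) hc hW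
  refine ⟨Z, hZK, ?_, hZW.symm⟩
  have hab := sup_comm_elems (H.card X hX) (H.card X' hX') hc
  intro a ha b hb
  exact hab a (Subgroup.mem_sup_left ha) b (hZle hb)

theorem central_cancel {x w y₁ y₂ : G} (h1 : Commute y₁ x) (h2 : Commute y₁ w)
    (h3 : Commute y₂ x) (h4 : Commute y₂ w) (h5 : Commute y₁ y₂) :
    (x * y₁) * (w * y₂) = (x * w) * (y₁ * y₂) ∧ (w * y₂) * (x * y₁) = (w * x) * (y₁ * y₂) := by
  constructor
  · calc (x * y₁) * (w * y₂) = x * (y₁ * w) * y₂ := by group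
      _ = x * (w * y₁) * y₂ := by rw [h2.eq]
      _ = (x * w) * (y₁ * y₂) := by group
  · calc (w * y₂) * (x * y₁) = w * (y₂ * x) * y₁ := by group
      _ = w * (x * y₂) * y₁ := by rw [h3.eq]
      _ = (w * x) * (y₂ * y₁) := by group
      _ = (w * x) * (y₁ * y₂) := by rw [h5.eq]

/-- the key computation: in the nondegenerate case, two non-commuting members have generators
whose commutator commutes with both. -/
theorem key (H : Hyp p K) (hND : ∀ V ∈ K, ∃ W ∈ K, ¬ Comm V W) {X W : Subgroup G} (hX : X ∈ K)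
    (hW : W ∈ K) (hXW : ¬ Comm X W) :
    ∃ x ∈ X, ∃ w ∈ W, x ≠ 1 ∧ w ≠ 1 ∧ Commute (x⁻¹ * w⁻¹ * x * w) x ∧
      Commute (x⁻¹ * w⁻¹ * x * w) w := by
  obtain ⟨Y, hY, hXY, hWY⟩ := exists_common H hX hW hXW
  obtain ⟨U, hU, hYU⟩ := hND Y hY
  have hXneY : X ≠ Y := by
    intro h; rw [h] at hXW; exact hXW hWY.symm
  have hWneY : W ≠ Y := by
    intro h; rw [h] at hXW; exact hXW hXY
  obtain ⟨Z₁, hZ₁, hZ₁le, hZ₁U⟩ := exists_on_line H hX hY hXneY hXY hU
  obtain ⟨Z₂, hZ₂, hZ₂le, hZ₂U⟩ := exists_on_line H hW hY hWneY hWY hU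
  have abXY := sup_comm_elems (H.card X hX) (H.card Y hY) hXY
  have abWY := sup_comm_elems (H.card W hW) (H.card Y hY) hWY
  have hZ₁neY : Z₁ ≠ Y := by
    intro h; rw [h] at hZ₁U; exact hYU hZ₁U
  have hZ₂neY : Z₂ ≠ Y := by
    intro h; rw [h] at hZ₂U; exact hYU hZ₂U
  have hZ₂neU : Z₂ ≠ U := by
    intro h
    apply hYU
    intro y hy u hu
    rw [← h] at hu
    exact abWY y (Subgroup.mem_sup_right hy) u (hZ₂le hu)
  obtain ⟨y₀, hy₀, hy₀1⟩ := exists_ne_one (H.card Y hY)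
  obtain ⟨z₁, hz₁, hz₁1⟩ := exists_ne_one (H.card Z₁ hZ₁)
  obtain ⟨x₁, hx₁, y₁, hy₁, hz₁eq⟩ := exists_mul_of_mem_sup hXY (hZ₁le hz₁)
  have hx₁1 : x₁ ≠ 1 := by
    intro h
    rw [h, one_mul] at hz₁eq
    exact hZ₁neY (eq_of_common (H.card Z₁ hZ₁) (H.card Y hY) hz₁ (hz₁eq ▸ hy₁) hz₁1)
  have hz₃mem : z₁ * y₀ ∈ X ⊔ Y := mul_mem (hZ₁le hz₁) (Subgroup.mem_sup_right hy₀)
  have hz₃1 : z₁ * y₀ ≠ 1 := by
    intro h
    have h1 : z₁ = y₀⁻¹ := eq_inv_of_mul_eq_one_left h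
    exact hZ₁neY (eq_of_common (H.card Z₁ hZ₁) (H.card Y hY) hz₁ (h1 ▸ Y.inv_mem hy₀) hz₁1)
  have hZ₃ : Subgroup.zpowers (z₁ * y₀) ∈ K :=
    H.a X hX Y hY hXneY hXY _ ((Subgroup.zpowers_le).mpr hz₃mem)
      (card_zpowers_of (pow_eq_one_of_mem_sup (H.card X hX) (H.card Y hY) hXY hz₃mem) hz₃1)
  obtain ⟨t, htmem, ht1⟩ := exists_ne_one_of_ne_bot (H.b Z₂ hZ₂ U hU hZ₂neU hZ₂U _ hZ₃)
  have htc : (z₁ * y₀) * t = t * (z₁ * y₀) :=
    (Subgroup.mem_centralizer_iff.mp htmem.2 _ (Subgroup.mem_zpowers _))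
  obtain ⟨a, ha, b, hb, hteq⟩ := exists_mul_of_mem_sup hZ₂U htmem.1
  obtain ⟨w₂, hw₂, y₂, hy₂, haeq⟩ := exists_mul_of_mem_sup hWY (hZ₂le ha)
  have c_y₀_a : Commute y₀ a := abWY y₀ (Subgroup.mem_sup_right hy₀) a (hZ₂le ha)
  have c_z₁_b : Commute z₁ b := hZ₁U z₁ hz₁ b hb
  have c_a_b : Commute a b := hZ₂U a ha b hb
  have c_z₁_y₀ : Commute z₁ y₀ := abXY z₁ (hZ₁le hz₁) y₀ (Subgroup.mem_sup_right hy₀)
  have c_y₁_x₁ : Commute y₁ x₁ := (hXY x₁ hx₁ y₁ hy₁).symm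
  have c_y₂_x₁ : Commute y₂ x₁ := (hXY x₁ hx₁ y₂ hy₂).symm
  have c_y₁_w₂ : Commute y₁ w₂ := (hWY w₂ hw₂ y₁ hy₁).symm
  have c_y₂_w₂ : Commute y₂ w₂ := (hWY w₂ hw₂ y₂ hy₂).symm
  have c_y₁_y₂ : Commute y₁ y₂ := comm_self (H.card Y hY) y₁ hy₁ y₂ hy₂
  obtain ⟨e1, e2⟩ := central_cancel c_y₁_x₁ c_y₁_w₂ c_y₂_x₁ c_y₂_w₂ c_y₁_y₂
  rw [← hz₁eq, ← haeq] at e1 e2
  -- w₂ ≠ 1 when a ≠ 1
  have hw₂1 : a ≠ 1 → w₂ ≠ 1 := by
    intro ha1 h
    rw [h, one_mul] at haeq
    exact hZ₂neY (eq_of_common (H.card Z₂ hZ₂) (H.card Y hY) ha (haeq ▸ hy₂) ha1)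
  by_cases hb1 : b = 1
  · -- t = a
    exfalso
    rw [hb1, mul_one] at hteq
    rw [hteq] at htc ht1
    have h1 : z₁ * a = a * z₁ := by
      have h2 : z₁ * a * y₀ = a * z₁ * y₀ := by
        calc z₁ * a * y₀ = z₁ * (a * y₀) := by group
          _ = z₁ * (y₀ * a) := by rw [c_y₀_a.eq]
          _ = z₁ * y₀ * a := by group
          _ = a * (z₁ * y₀) := htc
          _ = a * z₁ * y₀ := by group
      exact mul_right_cancel h2
    rw [e1, e2] at h1
    have h3 : x₁ * w₂ = w₂ * x₁ := mul_right_cancel h1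
    exact hXW (comm_of_gen (H.card X hX) (H.card W hW) hx₁ hw₂ hx₁1 (hw₂1 ht1) h3)
  by_cases ha1 : a = 1
  · -- t = b
    exfalso
    rw [ha1, one_mul] at hteq
    rw [hteq] at htc
    have h1 : y₀ * b = b * y₀ := by
      have h2 : z₁ * (y₀ * b) = z₁ * (b * y₀) := by
        calc z₁ * (y₀ * b) = z₁ * y₀ * b := by group
          _ = b * (z₁ * y₀) := htc
          _ = (b * z₁) * y₀ := by group
          _ = (z₁ * b) * y₀ := by rw [c_z₁_b.eq]
          _ = z₁ * (b * y₀) := by group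
      exact mul_left_cancel h2
    exact hYU (comm_of_gen (H.card Y hY) (H.card U hU) hy₀ hb hy₀1 hb1 h1)
  -- the main case
  have hw₂ne := hw₂1 ha1
  refine ⟨x₁, hx₁, w₂, hw₂, hx₁1, hw₂ne, ?_⟩
  obtain ⟨d, hd⟩ : ∃ d : G, d = b * y₀ * b⁻¹ * y₀⁻¹ := ⟨_, rfl⟩
  have hE : z₁ * a = a * z₁ * d := by
    have h2 : z₁ * a * (y₀ * b) = a * z₁ * (b * y₀) := by
      calc z₁ * a * (y₀ * b) = z₁ * (a * y₀) * b := by group
        _ = z₁ * (y₀ * a) * b := by rw [c_y₀_a.eq]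
        _ = z₁ * y₀ * (a * b) := by group
        _ = z₁ * y₀ * t := by rw [hteq]
        _ = t * (z₁ * y₀) := htc
        _ = a * (b * z₁) * y₀ := by rw [hteq]; group
        _ = a * (z₁ * b) * y₀ := by rw [c_z₁_b.eq]
        _ = a * z₁ * (b * y₀) := by group
    have h3 : z₁ * a = a * z₁ * (b * y₀) * (y₀ * b)⁻¹ := by
      rw [← h2]; group
    rw [h3, hd]; group
  have cd_z₁ : Commute d z₁ := by
    rw [hd]
    exact (((c_z₁_b.mul_right c_z₁_y₀).mul_right c_z₁_b.inv_right).mul_right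
      c_z₁_y₀.inv_right).symm
  have cd_a : Commute d a := by
    rw [hd]
    exact (((c_a_b.mul_right c_y₀_a.symm).mul_right c_a_b.inv_right).mul_right
      c_y₀_a.symm.inv_right).symm
  obtain ⟨cc, hcc⟩ : ∃ cc : G, cc = x₁⁻¹ * w₂⁻¹ * x₁ * w₂ := ⟨_, rfl⟩
  have ccy : ∀ y : G, Commute y x₁ → Commute y w₂ → Commute y cc := by
    intro y h1 h2
    rw [hcc]
    exact ((h1.inv_right.mul_right h2.inv_right).mul_right h1).mul_right h2
  have hccd : cc = d := by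
    have h1 : x₁ * w₂ * (y₁ * y₂) = w₂ * x₁ * (y₁ * y₂) * d := by
      rw [← e1, ← e2]; exact hE
    have h2 : cc * (y₁ * y₂) = (y₁ * y₂) * d := by
      have h3 : cc * (y₁ * y₂) = (w₂ * x₁)⁻¹ * (x₁ * w₂ * (y₁ * y₂)) := by
        rw [hcc]; group
      rw [h3, h1]; group
    have h4 : Commute (y₁ * y₂) cc :=
      ccy _ (c_y₁_x₁.mul_left c_y₂_x₁) (c_y₁_w₂.mul_left c_y₂_w₂)
    rw [← h4.eq] at h2
    exact mul_left_cancel h2
  rw [← hcc]
  constructor
  · -- cc commutes with x₁ = z₁ * y₁⁻¹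
    have h1 : x₁ = z₁ * y₁⁻¹ := by rw [hz₁eq]; group
    have h2 : Commute cc z₁ := by rw [hccd]; exact cd_z₁
    have h3 : Commute cc y₁ := (ccy y₁ c_y₁_x₁ c_y₁_w₂).symm
    rw [h1]
    exact h2.mul_right h3.inv_right
  · have h1 : w₂ = a * y₂⁻¹ := by rw [haeq]; group
    have h2 : Commute cc a := by rw [hccd]; exact cd_a
    have h3 : Commute cc y₂ := (ccy y₂ c_y₂_x₁ c_y₂_w₂).symm
    rw [h1]
    exact h2.mul_right h3.inv_right

/-- properties of the commutator `c = x⁻¹ w⁻¹ x w` when it commutes with `x` and `w` -/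
theorem comm_facts {X W : Subgroup G} (hX : Nat.card X = p) (hW : Nat.card W = p) {x w : G}
    (hx : x ∈ X) (hw : w ∈ W) (hcx : Commute (x⁻¹ * w⁻¹ * x * w) x)
    (hcw : Commute (x⁻¹ * w⁻¹ * x * w) w) :
    w⁻¹ * x * w = x * (x⁻¹ * w⁻¹ * x * w) ∧ w * x * w⁻¹ = x * (x⁻¹ * w⁻¹ * x * w)⁻¹ ∧
      (x⁻¹ * w⁻¹ * x * w) ^ p = 1 := by
  obtain ⟨c, hc⟩ : ∃ c : G, c = x⁻¹ * w⁻¹ * x * w := ⟨_, rfl⟩
  rw [← hc] at hcx hcw ⊢
  have h1 : w⁻¹ * x * w = x * c := by rw [hc]; group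
  have h2 : w * x * w⁻¹ = x * c⁻¹ := by
    have h3 : x = w * (x * c) * w⁻¹ := by rw [← h1]; group
    have h4 : w * (x * c) * w⁻¹ = (w * x * w⁻¹) * c := by
      calc w * (x * c) * w⁻¹ = w * x * (c * w⁻¹) := by group
        _ = w * x * (w⁻¹ * c) := by rw [hcw.inv_right.eq]
        _ = (w * x * w⁻¹) * c := by group
    rw [h4] at h3
    rw [eq_mul_inv_iff_mul_eq]
    exact h3.symm
  refine ⟨h1, h2, ?_⟩
  have h5 : (x * c) ^ p = 1 := by
    have h6 := conj_pow (a := w⁻¹) (b := x) (i := p)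
    rw [inv_inv] at h6
    rw [← h1, h6, pow_eq_one hX hx]; group
  rw [hcx.symm.mul_pow, pow_eq_one hX hx, one_mul] at h5
  exact h5

theorem isPGroup_of_card {X : Subgroup G} (hX : Nat.card X = p) : IsPGroup p X :=
  IsPGroup.of_card (n := 1) (by rw [hX, pow_one])

theorem isPGroup_zpowers {c : G} (hc : c ^ p = 1) : IsPGroup p (Subgroup.zpowers c) := by
  intro g
  refine ⟨1, ?_⟩
  obtain ⟨g, hg⟩ := g
  obtain ⟨k, rfl⟩ := Subgroup.mem_zpowers_iff.mp hg
  apply Subtype.ext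
  rw [Subgroup.coe_pow, pow_one]
  show (c ^ k) ^ p = 1
  rw [← zpow_natCast, ← zpow_mul, mul_comm, zpow_mul, zpow_natCast, hc, one_zpow]

theorem le_centralizer_of_comm {X W : Subgroup G} (h : Comm X W) :
    X ≤ Subgroup.centralizer (W : Set G) := by
  intro x hx
  rw [Subgroup.mem_centralizer_iff]
  intro w hw
  exact (h x hx w hw).symm

theorem isPGroup_sup_of_comm {X W : Subgroup G} (hX : Nat.card X = p) (hW : Nat.card W = p)
    (h : Comm X W) : IsPGroup p ↥(X ⊔ W) :=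
  IsPGroup.to_sup_of_normal_right' (isPGroup_of_card hX) (isPGroup_of_card hW)
    ((le_centralizer_of_comm h).trans (Subgroup.centralizer_le_normalizer _))

theorem eq_zpowers {X : Subgroup G} (hX : Nat.card X = p) {x : G} (hx : x ∈ X) (hx1 : x ≠ 1) :
    X = Subgroup.zpowers x := by
  apply le_antisymm
  · intro a ha
    obtain ⟨k, rfl⟩ := exists_zpow_eq hX hx hx1 ha
    exact Subgroup.zpow_mem_zpowers x k
  · exact (Subgroup.zpowers_le).mpr hx

variable [Finite G]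

/-- in the nondegenerate case any two members generate a `p`-group -/
theorem isPGroup_sup (H : Hyp p K) (hND : ∀ V ∈ K, ∃ W ∈ K, ¬ Comm V W) {X W : Subgroup G}
    (hX : X ∈ K) (hW : W ∈ K) : IsPGroup p ↥(X ⊔ W) := by
  by_cases hXW : Comm X W
  · exact isPGroup_sup_of_comm (H.card X hX) (H.card W hW) hXW
  obtain ⟨x, hx, w, hw, hx1, hw1, hcx, hcw⟩ := key H hND hX hW hXW
  obtain ⟨h1, h2, h3⟩ := comm_facts (H.card X hX) (H.card W hW) hx hw hcx hcw
  obtain ⟨c, hc⟩ : ∃ c : G, c = x⁻¹ * w⁻¹ * x * w := ⟨_, rfl⟩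
  rw [← hc] at hcx hcw h1 h2 h3
  have hXz := eq_zpowers (H.card X hX) hx hx1
  have hWz := eq_zpowers (H.card W hW) hw hw1
  -- A = X ⊔ ⟨c⟩
  have hA : IsPGroup p ↥(X ⊔ Subgroup.zpowers c) := by
    apply IsPGroup.to_sup_of_normal_right' (isPGroup_of_card (H.card X hX)) (isPGroup_zpowers h3)
    refine le_trans ?_ (Subgroup.centralizer_le_normalizer _)
    rw [hXz, Subgroup.zpowers_le, Subgroup.mem_centralizer_iff]
    intro g hg
    obtain ⟨k, rfl⟩ := Subgroup.mem_zpowers_iff.mp hg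
    exact (hcx.zpow_left k).eq
  have hWn : W ≤ Subgroup.normalizer ((X ⊔ Subgroup.zpowers c : Subgroup G) : Set G) := by
    rw [hWz, Subgroup.zpowers_le]
    apply Subgroup.mem_normalizer_fintype
    intro n hn
    have hmap : (X ⊔ Subgroup.zpowers c).map (MulAut.conj w).toMonoidHom ≤
        X ⊔ Subgroup.zpowers c := by
      rw [Subgroup.map_sup, hXz, MonoidHom.map_zpowers, MonoidHom.map_zpowers]
      apply sup_le
      · rw [Subgroup.zpowers_le]
        show w * x * w⁻¹ ∈ _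
        rw [h2]
        exact mul_mem (Subgroup.mem_sup_left (Subgroup.mem_zpowers x))
          (inv_mem (Subgroup.mem_sup_right (Subgroup.mem_zpowers c)))
      · rw [Subgroup.zpowers_le]
        show w * c * w⁻¹ ∈ _
        rw [← hcw.eq, mul_inv_cancel_right]
        exact Subgroup.mem_sup_right (Subgroup.mem_zpowers c)
    exact hmap ⟨n, hn, rfl⟩
  have hB := IsPGroup.to_sup_of_normal_right' (isPGroup_of_card (H.card W hW)) hA hWn
  apply hB.to_le
  apply sup_le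
  · exact le_sup_of_le_right le_sup_left
  · exact le_sup_left

/-- in the nondegenerate case every member lies in `O_p(G)` -/
theorem le_pCore (H : Hyp p K) (hND : ∀ V ∈ K, ∃ W ∈ K, ¬ Comm V W) {X : Subgroup G}
    (hX : X ∈ K) : X ≤ Cfsg.pCore p G := by
  obtain ⟨N, hN, hNp, hXN⟩ := Cfsg.Agent.S0199.result X (isPGroup_of_card (H.card X hX))
    (fun g => isPGroup_sup H hND hX (H.conj X hX g))
  exact hXN.trans (Cfsg.Agent.helper1.le_pCore hN hNp)

/-- the descent along the upper central series -/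
theorem no_nondegenerate (H : Hyp p K) (hND : ∀ V ∈ K, ∃ W ∈ K, ¬ Comm V W) : False := by
  classical
  obtain ⟨P, hPdef⟩ : ∃ P : Subgroup G, P = Cfsg.pCore p G := ⟨_, rfl⟩
  have hP : IsPGroup p P := by rw [hPdef]; exact Cfsg.Agent.helper1.pCore_isPGroup p
  have hKP : ∀ X ∈ K, X ≤ P := fun X hX => by rw [hPdef]; exact le_pCore H hND hX
  haveI : Group.IsNilpotent P := hP.isNilpotent
  obtain ⟨n, hn⟩ := Group.IsNilpotent.nilpotent P
  obtain ⟨X₀, hX₀, -⟩ := H.ex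
  have hQn : ∃ i : ℕ, ∃ X ∈ K, ∀ x ∈ X, ∃ h : x ∈ P,
      (⟨x, h⟩ : P) ∈ Subgroup.upperCentralSeries P i :=
    ⟨n, X₀, hX₀, fun x hx => ⟨hKP X₀ hX₀ hx, by rw [hn]; trivial⟩⟩
  obtain ⟨X, hX, hXi⟩ := Nat.find_spec hQn
  rcases hi : Nat.find hQn with _ | j
  · rw [hi] at hXi
    obtain ⟨x, hx, hx1⟩ := exists_ne_one (H.card X hX)
    obtain ⟨h, hmem⟩ := hXi x hx
    rw [Subgroup.upperCentralSeries_zero, Subgroup.mem_bot] at hmem
    exact hx1 (congrArg Subtype.val hmem)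
  · rw [hi] at hXi
    apply Nat.find_min hQn (m := j) (by omega)
    obtain ⟨W, hW, hXW⟩ := hND X hX
    obtain ⟨x, hx, w, hw, hx1, hw1, hcx, hcw⟩ := key H hND hX hW hXW
    obtain ⟨h1, h2, h3⟩ := comm_facts (H.card X hX) (H.card W hW) hx hw hcx hcw
    obtain ⟨c, hc⟩ : ∃ c : G, c = x⁻¹ * w⁻¹ * x * w := ⟨_, rfl⟩
    rw [← hc] at hcx hcw h1 h2 h3
    have hc1 : c ≠ 1 := by
      intro h
      apply hXW
      apply comm_of_gen (H.card X hX) (H.card W hW) hx hw hx1 hw1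
      have h4 : w⁻¹ * x * w = x := by rw [h1, h, mul_one]
      calc x * w = w * (w⁻¹ * x * w) := by group
        _ = w * x := by rw [h4]
    refine ⟨Subgroup.zpowers c, ?_, ?_⟩
    · -- membership in K
      have hX'K : X.map (MulAut.conj w⁻¹).toMonoidHom ∈ K := H.conj X hX w⁻¹
      have hxc : x * c ∈ X.map (MulAut.conj w⁻¹).toMonoidHom := by
        refine ⟨x, hx, ?_⟩
        show w⁻¹ * x * w⁻¹⁻¹ = x * c
        rw [inv_inv]; exact h1
      have hxc1 : x * c ≠ 1 := by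
        intro h
        rw [← h1] at h
        apply hx1
        calc x = w * (w⁻¹ * x * w) * w⁻¹ := by group
          _ = 1 := by rw [h]; group
      have hcomm : Comm X (X.map (MulAut.conj w⁻¹).toMonoidHom) := by
        apply comm_of_gen (H.card X hX) (H.card _ hX'K) hx hxc hx1 hxc1
        calc x * (x * c) = x * (c * x) := by rw [hcx.eq]
          _ = x * c * x := by group
      have hne : X ≠ X.map (MulAut.conj w⁻¹).toMonoidHom := by
        intro h
        rw [← h] at hxc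
        have hcX : c ∈ X := by
          have : c = x⁻¹ * (x * c) := by group
          rw [this]; exact mul_mem (inv_mem hx) hxc
        obtain ⟨k, hk⟩ := exists_zpow_eq (H.card X hX) hcX hc1 hx
        apply hXW
        apply comm_of_gen (H.card X hX) (H.card W hW) hx hw hx1 hw1
        rw [← hk]
        exact (hcw.zpow_left k).eq
      apply H.a X hX _ hX'K hne hcomm
      · rw [Subgroup.zpowers_le]
        have : c = x⁻¹ * (x * c) := by group
        rw [this]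
        exact mul_mem (Subgroup.mem_sup_left (inv_mem hx)) (Subgroup.mem_sup_right hxc)
      · exact card_zpowers_of h3 hc1
    · -- in the smaller term
      have hxP : x⁻¹ ∈ P := hKP X hX (inv_mem hx)
      have hwP : w⁻¹ ∈ P := hKP W hW (inv_mem hw)
      obtain ⟨hxP', hmem⟩ := hXi x⁻¹ (inv_mem hx)
      rw [Subgroup.mem_upperCentralSeries_succ_iff] at hmem
      have h5 := hmem ⟨w⁻¹, hwP⟩
      obtain ⟨cP, hcPdef⟩ : ∃ cP : ↥P, cP = (⟨x⁻¹, hxP'⟩ : ↥P) * ⟨w⁻¹, hwP⟩ *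
          (⟨x⁻¹, hxP'⟩ : ↥P)⁻¹ * (⟨w⁻¹, hwP⟩ : ↥P)⁻¹ := ⟨_, rfl⟩
      have h5' : cP ∈ Subgroup.upperCentralSeries (↥P) j := by
        rw [hcPdef]; exact h5
      have hcoe : (cP : G) = c := by
        rw [hcPdef]
        simp only [Subgroup.coe_mul, Subgroup.coe_inv, inv_inv]
        exact hc.symm
      intro g hg
      obtain ⟨k, rfl⟩ := Subgroup.mem_zpowers_iff.mp hg
      have h6 := Subgroup.zpow_mem _ h5' k
      have h7 : c ^ k ∈ P := by
        rw [← hcoe, ← Subgroup.coe_zpow]; exact SetLike.coe_mem _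
      refine ⟨h7, ?_⟩
      convert h6 using 1
      apply Subtype.ext
      rw [Subgroup.coe_zpow, hcoe]

theorem main (H : Hyp p K) :
    (∃ V ∈ K, (∀ W ∈ K, Comm V W) ∧ V ≤ Cfsg.pCore p G) ∧ ¬ IsSimpleGroup G := by
  have hV : ∃ V ∈ K, ∀ W ∈ K, Comm V W := by
    by_contra hcon
    push Not at hcon
    exact no_nondegenerate H hcon
  obtain ⟨V, hV, hVc⟩ := hV
  have hVle : V ≤ Cfsg.pCore p G := by
    obtain ⟨N, hN, hNp, hVN⟩ := Cfsg.Agent.S0199.result V (isPGroup_of_card (H.card V hV))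
      (fun g => isPGroup_sup_of_comm (H.card V hV) (H.card _ (H.conj V hV g))
        (hVc _ (H.conj V hV g)))
    exact hVN.trans (Cfsg.Agent.helper1.le_pCore hN hNp)
  refine ⟨⟨V, hV, hVc, hVle⟩, ?_⟩
  intro hsimple
  have hn := Cfsg.Agent.helper1.pCore_normal (G := G) p
  rcases hn.eq_bot_or_eq_top with h | h
  · obtain ⟨v, hv, hv1⟩ := exists_ne_one (H.card V hV)
    have h1 := hVle hv
    rw [h, Subgroup.mem_bot] at h1
    exact hv1 h1
  · have hGp : IsPGroup p G := by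
      have h1 := Cfsg.Agent.helper1.pCore_isPGroup (G := G) p
      rw [h] at h1
      exact h1.of_equiv Subgroup.topEquiv
    haveI : Nontrivial G := hsimple.toNontrivial
    have hc := hGp.bot_lt_center
    have hcen : Subgroup.center G = ⊤ := by
      rcases (inferInstance : (Subgroup.center G).Normal).eq_bot_or_eq_top with h0 | h0
      · rw [h0] at hc; exact absurd hc (lt_irrefl _)
      · exact h0
    obtain ⟨X, hX, Y, hY, hne, -⟩ := H.ex
    have hall : ∀ Z ∈ K, Z = ⊤ := by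
      intro Z hZ
      have hZn : Z.Normal := by
        constructor
        intro z hz g
        have h1 : g ∈ Subgroup.center G := by rw [hcen]; trivial
        have h2 : z * g = g * z := Subgroup.mem_center_iff.mp h1 z
        rw [← h2, mul_inv_cancel_right]
        exact hz
      rcases hZn.eq_bot_or_eq_top with h0 | h0
      · exfalso
        obtain ⟨z, hz, hz1⟩ := exists_ne_one (H.card Z hZ)
        rw [h0, Subgroup.mem_bot] at hz
        exact hz1 hz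
      · exact h0
    exact hne ((hall X hX).trans (hall Y hY).symm)

end Cfsg.Agent.helper6.PolarP
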