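import Mathlib
import Cfsg.Statements.S1125
import Cfsg.Agent.Lib_helper6_RankOne3
import Cfsg.Agent.Lib_helper6_Isolated
-- import your own Cfsg.Agent.* helpers here

set_option autoImplicit false
open Cfsg

namespace Cfsg.Agent.S1125


open MulAction helper6.RankOne in
theorem exists_Q_cent {G Ω : Type*} [Group G] [MulAction G Ω] {a : Ω} {t : G} {Q : Subgroup G}
    (hS : Cfsg.IsRankOneSetup G Ω a t Q) (Y : Set G)
    (hY : ∀ x ∈ Y, x ∈ stabilizer G a) {b b' : Ω} (hb : b ≠ a) (hb' : b' ≠ a)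
    (hfb : ∀ x ∈ Y, x • b = b) (hfb' : ∀ x ∈ Y, x • b' = b') :
    ∃ y ∈ Q, y • b = b' ∧ ∀ x ∈ Y, x * y = y * x := by
  obtain ⟨y, hy, hyb⟩ := Q_exists hS hb hb'
  refine ⟨y, hy, hyb, ?_⟩
  intro x hx
  have h1 : x * y * x⁻¹ ∈ Q := hS.conj_mem x (hY x hx) y hy
  have h2 : (x * y * x⁻¹) • b = y • b := by
    have hxb : x⁻¹ • b = b := by rw [inv_smul_eq_iff, hfb x hx]
    rw [mul_smul, mul_smul, hxb, hyb, hfb' x hx]
  have h3 := Q_unique hS hb h1 hy h2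
  calc x * y = (x * y * x⁻¹) * x := by group
    _ = y * x := by rw [h3]

open MulAction helper6.RankOne in
theorem exists_cent_fix {G Ω : Type*} [Group G] [MulAction G Ω] {a : Ω} {t : G} {Q : Subgroup G}
    (hS : Cfsg.IsRankOneSetup G Ω a t Q) (X : Set G) {c b b' : Ω}
    (hc : ∀ x ∈ X, x • c = c) (hb : ∀ x ∈ X, x • b = b) (hb' : ∀ x ∈ X, x • b' = b')
    (hbc : b ≠ c) (hb'c : b' ≠ c) :
    ∃ g ∈ Subgroup.centralizer X, g • c = c ∧ g • b = b' := by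
  have := isPretransitive hS
  obtain ⟨h, hh⟩ := exists_smul_eq G a c
  have hY : ∀ x ∈ (fun x => h⁻¹ * x * h) '' X, x ∈ stabilizer G a := by
    rintro _ ⟨x, hx, rfl⟩
    rw [mem_stabilizer_iff, mul_smul, mul_smul, hh, hc x hx, ← hh, inv_smul_smul]
  have hb0 : h⁻¹ • b ≠ a := by
    intro e
    apply hbc
    rw [← hh, ← e, smul_inv_smul]
  have hb0' : h⁻¹ • b' ≠ a := by
    intro e
    apply hb'c
    rw [← hh, ← e, smul_inv_smul]
  have hfb : ∀ x ∈ (fun x => h⁻¹ * x * h) '' X, x • (h⁻¹ • b) = h⁻¹ • b := by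
    rintro _ ⟨x, hx, rfl⟩
    rw [mul_smul, mul_smul, smul_inv_smul, hb x hx]
  have hfb' : ∀ x ∈ (fun x => h⁻¹ * x * h) '' X, x • (h⁻¹ • b') = h⁻¹ • b' := by
    rintro _ ⟨x, hx, rfl⟩
    rw [mul_smul, mul_smul, smul_inv_smul, hb' x hx]
  obtain ⟨y, hy, hyb, hyc⟩ := exists_Q_cent hS _ hY hb0 hb0' hfb hfb'
  refine ⟨h * y * h⁻¹, ?_, ?_, ?_⟩
  · rw [Subgroup.mem_centralizer_iff]
    intro x hx
    have := hyc _ ⟨x, hx, rfl⟩
    calc x * (h * y * h⁻¹) = h * ((h⁻¹ * x * h) * y) * h⁻¹ := by group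
      _ = h * (y * (h⁻¹ * x * h)) * h⁻¹ := by rw [this]
      _ = h * y * h⁻¹ * x := by group
  · rw [mul_smul, mul_smul, ← hh, inv_smul_smul, Q_fix_a hS hy]
  · rw [mul_smul, mul_smul, hyb, smul_inv_smul]

theorem cent_fix {G Ω : Type*} [Group G] [MulAction G Ω] {X : Set G} {g : G}
    (hg : g ∈ Subgroup.centralizer X) {e : Ω} (he : ∀ x ∈ X, x • e = e) :
    ∀ x ∈ X, x • (g • e) = g • e := by
  intro x hx
  rw [Subgroup.mem_centralizer_iff] at hg
  rw [smul_smul, hg x hx, mul_smul, he x hx]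

open MulAction helper6.RankOne in
theorem cent_trans {G Ω : Type*} [Group G] [MulAction G Ω] {a : Ω} {t : G} {Q : Subgroup G}
    (hS : Cfsg.IsRankOneSetup G Ω a t Q) (X : Set G)
    (h3 : ∃ b c d : Ω, b ≠ c ∧ b ≠ d ∧ c ≠ d ∧ ∀ x ∈ X, x • b = b ∧ x • c = c ∧ x • d = d)
    {p q : Ω} (hp : ∀ x ∈ X, x • p = p) (hq : ∀ x ∈ X, x • q = q) :
    ∃ g ∈ Subgroup.centralizer X, g • p = q := by
  by_cases hpq : p = q
  · exact ⟨1, Subgroup.one_mem _, by rw [one_smul, hpq]⟩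
  · obtain ⟨b, c, d, hbc, hbd, hcd, hf⟩ := h3
    obtain ⟨e, he, hep, heq⟩ : ∃ e, (∀ x ∈ X, x • e = e) ∧ e ≠ p ∧ e ≠ q := by
      by_cases h1 : b ≠ p ∧ b ≠ q
      · exact ⟨b, fun x hx => (hf x hx).1, h1.1, h1.2⟩
      by_cases h2 : c ≠ p ∧ c ≠ q
      · exact ⟨c, fun x hx => (hf x hx).2.1, h2.1, h2.2⟩
      have h1' : b = p ∨ b = q := by
        by_contra h
        push Not at h
        exact h1 h
      have h2' : c = p ∨ c = q := by
        by_contra h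
        push Not at h
        exact h2 h
      refine ⟨d, fun x hx => (hf x hx).2.2, ?_, ?_⟩
      · intro hd
        rcases h1' with h | h
        · exact hbd (h.trans hd.symm)
        · rcases h2' with h' | h'
          · exact hcd (h'.trans hd.symm)
          · exact hbc (h.trans h'.symm)
      · intro hd
        rcases h1' with h | h
        · rcases h2' with h' | h'
          · exact hbc (h.trans h'.symm)
          · exact hcd (h'.trans hd.symm)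
        · exact hbd (h.trans hd.symm)
    obtain ⟨g, hg, -, hgp⟩ := exists_cent_fix hS X he hp hq (Ne.symm hep) (Ne.symm heq)
    exact ⟨g, hg, hgp⟩

open MulAction helper6.RankOne in
theorem two_trans_cent {G Ω : Type*} [Group G] [MulAction G Ω] {a : Ω} {t : G} {Q : Subgroup G}
    (hS : Cfsg.IsRankOneSetup G Ω a t Q) (X : Set G)
    (h3 : ∃ b c d : Ω, b ≠ c ∧ b ≠ d ∧ c ≠ d ∧ ∀ x ∈ X, x • b = b ∧ x • c = c ∧ x • d = d)
    {b₁ b₂ c₁ c₂ : Ω} (hb₁ : ∀ x ∈ X, x • b₁ = b₁) (hb₂ : ∀ x ∈ X, x • b₂ = b₂)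
    (hc₁ : ∀ x ∈ X, x • c₁ = c₁) (hc₂ : ∀ x ∈ X, x • c₂ = c₂) (hb : b₁ ≠ b₂) (hc : c₁ ≠ c₂) :
    ∃ g ∈ Subgroup.centralizer X, g • b₁ = c₁ ∧ g • b₂ = c₂ := by
  obtain ⟨g₁, hg₁, hg₁b⟩ := cent_trans hS X h3 hb₁ hc₁
  have hb₂' := cent_fix hg₁ hb₂
  have hne : g₁ • b₂ ≠ c₁ := by
    rw [← hg₁b]
    intro h
    exact hb (smul_left_cancel g₁ h).symm
  obtain ⟨g₂, hg₂, hg₂c, hg₂b⟩ := exists_cent_fix hS X hc₁ hb₂' hc₂ hne hc.symm
  exact ⟨g₂ * g₁, Subgroup.mul_mem _ hg₂ hg₁, by rw [mul_smul, hg₁b, hg₂c],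
    by rw [mul_smul, hg₂b]⟩

open MulAction helper6.RankOne in
/-- An involution in `C(X) ⊓ Q`. -/
theorem exists_invol_cent_Q {G Ω : Type*} [Group G] [Finite G] [MulAction G Ω] {a : Ω} {t : G}
    {Q : Subgroup G} (hS : Cfsg.IsRankOneSetup G Ω a t Q) (X : Set G)
    (hX : X ⊆ ((stabilizer G a ⊓ stabilizer G (t • a) : Subgroup G) : Set G))
    (h3 : ∃ b c d : Ω, b ≠ c ∧ b ≠ d ∧ c ≠ d ∧ ∀ x ∈ X, x • b = b ∧ x • c = c ∧ x • d = d) :
    ∃ u ∈ Subgroup.centralizer X ⊓ Q, u ≠ 1 ∧ u * u = 1 := by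
  have hXa : ∀ x ∈ X, x • a = a := fun x hx => D_fix_a (hX hx)
  have hXb : ∀ x ∈ X, x • (t • a) = t • a := fun x hx => D_fix_ta (hX hx)
  obtain ⟨g, hg, hga, hgb⟩ := two_trans_cent hS X h3 hXa hXb hXb hXa (ta_ne hS).symm (ta_ne hS)
  have heven : Even (orderOf g) := by
    by_contra hodd
    rw [Nat.not_even_iff_odd] at hodd
    have hgg : g * g ∈ stabilizer G a := by
      rw [mem_stabilizer_iff, mul_smul, hga, hgb]
    have hg' : g ∈ stabilizer G a := by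
      rw [helper6.eq_sq_pow_of_odd hodd]
      exact Subgroup.pow_mem _ hgg _
    rw [mem_stabilizer_iff, hga] at hg'
    exact ta_ne hS hg'
  obtain ⟨m, hm⟩ := heven
  have hm0 : 0 < m := by
    have := orderOf_pos g
    omega
  have hu1 : g ^ m ≠ 1 := pow_ne_one_of_lt_orderOf hm0.ne' (by omega)
  have hu2 : g ^ m * g ^ m = 1 := by rw [← pow_add, ← hm, pow_orderOf_eq_one]
  have huC : g ^ m ∈ Subgroup.centralizer X := Subgroup.pow_mem _ hg m
  obtain ⟨e, he⟩ := invol_exists_fix hS hu2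
  have heF : ∀ x ∈ X, x • e = e := by
    intro x hx
    apply invol_fix_eq hS hu1 hu2 _ he
    have hc := huC
    rw [Subgroup.mem_centralizer_iff] at hc
    rw [smul_smul, ← hc x hx, mul_smul, he]
  obtain ⟨h, hh, hhe⟩ := cent_trans hS X h3 heF hXa
  refine ⟨h * g ^ m * h⁻¹, Subgroup.mem_inf.mpr ⟨?_, ?_⟩, ?_, ?_⟩
  · exact Subgroup.mul_mem _ (Subgroup.mul_mem _ hh huC) (Subgroup.inv_mem _ hh)
  · apply invol_mem_Q hS
    · rw [mem_stabilizer_iff, mul_smul, mul_smul, ← hhe, inv_smul_smul, he]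
    · calc h * g ^ m * h⁻¹ * (h * g ^ m * h⁻¹) = h * (g ^ m * g ^ m) * h⁻¹ := by group
        _ = 1 := by rw [hu2]; group
  · intro h1
    apply hu1
    have e' : g ^ m = h⁻¹ * (h * g ^ m * h⁻¹) * h := by group
    rw [e', h1]; group
  · calc h * g ^ m * h⁻¹ * (h * g ^ m * h⁻¹) = h * (g ^ m * g ^ m) * h⁻¹ := by group
      _ = 1 := by rw [hu2]; group

/-- In the rank-one set-up (`G` finite and doubly transitive on `Ω`, `t` an involution moving `a`, `Q` normal in `G_a` with `G_a = Q D`, `Q ⊓ D = 1` for the two-point stabiliser `D = G_a ⊓ G_{t • a}`, `|Q|` even, `|D|` odd), let `X ⊆ D` fix at least three points of `Ω`. Then `C_G(X)` is doubly transitive on the fixed-point set of `X`, `|C_Q(X)|` is even, and `C_{G_a}(X) = C_Q(X) C_D(X)`. -/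
theorem result {G Ω : Type*} [Group G] [Finite G] [MulAction G Ω] {a : Ω} {t : G} {Q : Subgroup G}
    (hS : Cfsg.IsRankOneSetup G Ω a t Q)
    (X : Set G) (hX : X ⊆ ((MulAction.stabilizer G a ⊓ MulAction.stabilizer G (t • a)) : Set G))
    (h3 : ∃ b c d : Ω, b ≠ c ∧ b ≠ d ∧ c ≠ d ∧ ∀ x ∈ X, x • b = b ∧ x • c = c ∧ x • d = d) :
    (∀ b₁ b₂ c₁ c₂ : Ω, (∀ x ∈ X, x • b₁ = b₁ ∧ x • b₂ = b₂ ∧ x • c₁ = c₁ ∧ x • c₂ = c₂) →
        b₁ ≠ b₂ → c₁ ≠ c₂ → ∃ g ∈ Subgroup.centralizer X, g • b₁ = c₁ ∧ g • b₂ = c₂) ∧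
      Even (Nat.card ↥(Subgroup.centralizer X ⊓ Q)) ∧
      (Subgroup.centralizer X ⊓ Q) ⊔ (Subgroup.centralizer X ⊓ (MulAction.stabilizer G a ⊓ MulAction.stabilizer G (t • a))) = Subgroup.centralizer X ⊓ MulAction.stabilizer G a := by
  have hXa : ∀ x ∈ X, x • a = a := fun x hx => helper6.RankOne.D_fix_a (hX hx)
  have hXb : ∀ x ∈ X, x • (t • a) = t • a := fun x hx => helper6.RankOne.D_fix_ta (hX hx)
  refine ⟨?_, ?_, ?_⟩
  · intro b₁ b₂ c₁ c₂ hf hb hc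
    exact two_trans_cent hS X h3 (fun x hx => (hf x hx).1) (fun x hx => (hf x hx).2.1)
      (fun x hx => (hf x hx).2.2.1) (fun x hx => (hf x hx).2.2.2) hb hc
  · obtain ⟨u, hu, hu1, hu2⟩ := exists_invol_cent_Q hS X hX h3
    have : Fact (Nat.Prime 2) := ⟨Nat.prime_two⟩
    have ho : orderOf u = 2 := orderOf_eq_prime (by rw [sq]; exact hu2) hu1
    have hdvd : orderOf (⟨u, hu⟩ : ↥(Subgroup.centralizer X ⊓ Q)) ∣
        Nat.card ↥(Subgroup.centralizer X ⊓ Q) := orderOf_dvd_natCard _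
    rw [Subgroup.orderOf_mk, ho] at hdvd
    exact even_iff_two_dvd.mpr hdvd
  · apply le_antisymm
    · apply sup_le
      · exact inf_le_inf_left _ hS.le
      · exact inf_le_inf_left _ inf_le_left
    · intro g hg
      obtain ⟨hgC, hga⟩ := Subgroup.mem_inf.mp hg
      have hga' : g • a = a := MulAction.mem_stabilizer_iff.mp hga
      have hgb_ne : g • (t • a) ≠ a := by
        intro h
        apply helper6.RankOne.ta_ne hS
        have : g • (t • a) = g • a := by rw [h, hga']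
        exact smul_left_cancel g this
      obtain ⟨y, hy, hyb, hyc⟩ := exists_Q_cent hS X
        (fun x hx => helper6.RankOne.D_le_Ga (hX hx)) (helper6.RankOne.ta_ne hS) hgb_ne hXb
        (cent_fix hgC hXb)
      have hyC : y ∈ Subgroup.centralizer X := Subgroup.mem_centralizer_iff.mpr hyc
      have e : g = y * (y⁻¹ * g) := by group
      rw [e]
      apply Subgroup.mul_mem_sup
      · exact Subgroup.mem_inf.mpr ⟨hyC, hy⟩
      · refine Subgroup.mem_inf.mpr ⟨Subgroup.mul_mem _ (Subgroup.inv_mem _ hyC) hgC, ?_⟩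
        rw [helper6.RankOne.mem_D_iff]
        constructor
        · rw [mul_smul, hga', inv_smul_eq_iff, helper6.RankOne.Q_fix_a hS hy]
        · rw [mul_smul, ← hyb, inv_smul_smul]

end Cfsg.Agent.S1125
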