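import Mathlib
import Cfsg.Prelude.Def_LieRecognition
import Cfsg.Agent.Lib_helper6_RankOne3
import Cfsg.Agent.Lib_helper6_Isolated
import Cfsg.Agent.S1125

set_option autoImplicit false

namespace Cfsg.Agent.helper6.RankOne

open MulAction

variable {G Ω : Type*} [Group G] [MulAction G Ω] {a : Ω} {t : G} {Q : Subgroup G}

/-- If `X ⊆ D` fixes at least three points then some involution swapping `a` and `t a`
centralizes `X`. -/
theorem exists_swap_invol_cent [Finite G] (hS : Cfsg.IsRankOneSetup G Ω a t Q) (X : Set G)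
    (hX : X ⊆ ((stabilizer G a ⊓ stabilizer G (t • a) : Subgroup G) : Set G))
    (h3 : ∃ b c d : Ω, b ≠ c ∧ b ≠ d ∧ c ≠ d ∧ ∀ x ∈ X, x • b = b ∧ x • c = c ∧ x • d = d) :
    ∃ u₀ : G, u₀ * u₀ = 1 ∧ u₀ • a = t • a ∧ ∀ x ∈ X, x * u₀ = u₀ * x := by
  have hXa : ∀ x ∈ X, x • a = a := fun x hx => D_fix_a (hX hx)
  have hXb : ∀ x ∈ X, x • (t • a) = t • a := fun x hx => D_fix_ta (hX hx)
  obtain ⟨u', hu', hu'1, hu'2⟩ := Cfsg.Agent.S1125.exists_invol_cent_Q hS X hX h3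
  obtain ⟨hu'C, hu'Q⟩ := Subgroup.mem_inf.mp hu'
  have hu'a : u' • a = a := Q_fix_a hS hu'Q
  obtain ⟨h, hh, hha⟩ := Cfsg.Agent.S1125.cent_trans hS X h3 hXa hXb
  obtain ⟨u'', hu''⟩ : ∃ u'', u'' = h * u' * h⁻¹ := ⟨_, rfl⟩
  have hu''1 : u'' ≠ 1 := by
    intro h1
    apply hu'1
    have e' : u' = h⁻¹ * (h * u' * h⁻¹) * h := by group
    rw [e', ← hu'', h1]; group
  have hu''2 : u'' * u'' = 1 := by
    rw [hu'']
    calc h * u' * h⁻¹ * (h * u' * h⁻¹) = h * (u' * u') * h⁻¹ := by group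
      _ = 1 := by rw [hu'2]; group
  have hu''b : u'' • (t • a) = t • a := by
    rw [hu'', mul_smul, mul_smul, ← hha, inv_smul_smul, hu'a]
  have hu''C : u'' ∈ Subgroup.centralizer X := by
    rw [hu'']
    exact Subgroup.mul_mem _ (Subgroup.mul_mem _ hh hu'C) (Subgroup.inv_mem _ hh)
  have hu''a : u'' • a ≠ a := fun h1 => ta_ne hS (invol_fix_eq hS hu''1 hu''2 hu''b h1)
  have hodd := odd_orderOf_mul hS hu'1 hu'2 hu''1 hu''2 hu'a hu''a
  obtain ⟨u₀, hu₀2, hu₀1, -, hu₀c⟩ := dihedral_swap hu'2 hu''2 hodd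
  obtain ⟨hu₀a, -⟩ := swap_of_conj hS hu'a hu''1 hu''2 hu''b hu₀2 hu₀1
  refine ⟨u₀, hu₀2, hu₀a, ?_⟩
  intro x hx
  rw [Subgroup.mem_centralizer_iff] at hu'C hu''C
  exact hu₀c x (hu'C x hx) (hu''C x hx)

/-- Each `k ∈ K` has a square root `l` in `⟨k⟩ ⊆ D` with `t k = l⁻¹ t l`. -/
theorem K_sqrt [Finite G] (hS : Cfsg.IsRankOneSetup G Ω a t Q) {k : G}
    (hk : k ∈ Cfsg.invertedBy (stabilizer G a ⊓ stabilizer G (t • a)) t) :
    ∃ l : G, l ∈ stabilizer G a ⊓ stabilizer G (t • a) ∧ (∃ n : ℕ, l = k ^ n) ∧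
      t * k = l⁻¹ * t * l := by
  obtain ⟨hkD, hkinv⟩ := hk
  have hkodd : Odd (orderOf k) := odd_orderOf_D hS hkD
  obtain ⟨l, hl⟩ : ∃ l, l = k ^ ((orderOf k + 1) / 2) := ⟨_, rfl⟩
  have hll : k = l * l := by
    have h1 := helper6.eq_sq_pow_of_odd hkodd
    rw [(Commute.refl k).mul_pow, ← hl] at h1
    exact h1
  have hlD : l ∈ stabilizer G a ⊓ stabilizer G (t • a) := by
    rw [hl]; exact Subgroup.pow_mem _ hkD _
  have hlinv : t * l * t⁻¹ = l⁻¹ := by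
    rw [hl, ← conj_pow, hkinv, inv_pow]
  have htl : t * l = l⁻¹ * t := by
    rw [mul_inv_eq_iff_eq_mul] at hlinv
    exact hlinv
  refine ⟨l, hlD, ⟨_, hl⟩, ?_⟩
  rw [hll, ← mul_assoc, htl]

theorem one_mem_K :
    (1 : G) ∈ Cfsg.invertedBy (stabilizer G a ⊓ stabilizer G (t • a)) t := by
  refine ⟨Subgroup.one_mem _, ?_⟩
  simp

end Cfsg.Agent.helper6.RankOne
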