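import Mathlib
import Cfsg.Prelude.Def_CaseTheorems
import Cfsg.Agent.Lib_helper1_Core
import Cfsg.Agent.Lib_helper9_Cores
import Cfsg.Agent.S0016

set_option autoImplicit false
set_option linter.style.haveILetI false

namespace Cfsg.Agent.helper6.RealSolv

open scoped commutatorElement

/-- a nontrivial solvable group has a nontrivial normal abelian subgroup -/
theorem exists_normal_comm_ne_bot (Q : Type*) [Group Q] [Group.IsSolvable Q] [Nontrivial Q] :
    ∃ A : Subgroup Q, A.Normal ∧ A ≠ ⊥ ∧ ∀ a ∈ A, ∀ b ∈ A, a * b = b * a := by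
  classical
  have hex : ∃ n, derivedSeries Q n = ⊥ := Group.IsSolvable.solvable
  have h0 : Nat.find hex ≠ 0 := by
    intro h
    have := Nat.find_spec hex
    rw [h, derivedSeries_zero] at this
    exact top_ne_bot this
  obtain ⟨k, hk⟩ := Nat.exists_eq_succ_of_ne_zero h0
  have hk1 : derivedSeries Q (k + 1) = ⊥ := by
    have := Nat.find_spec hex
    rwa [hk] at this
  have hk0 : derivedSeries Q k ≠ ⊥ := by
    have := Nat.find_min hex (m := k) (by omega)
    exact this
  refine ⟨derivedSeries Q k, inferInstance, hk0, ?_⟩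
  intro a ha b hb
  have hc : ⁅a, b⁆ ∈ derivedSeries Q (k + 1) := by
    rw [derivedSeries_succ]
    exact Subgroup.commutator_mem_commutator ha hb
  rw [hk1, Subgroup.mem_bot] at hc
  exact (commutatorElement_eq_one_iff_mul_comm.mp hc)

open MulAction in
/-- Jordan: a group in which all involutions are conjugate and with at least two involutions has an
element fixing no involution under conjugation -/
theorem exists_fpf {Q : Type*} [Group Q] [Finite Q]
    (hconj : ∀ s t : Q, orderOf s = 2 → orderOf t = 2 → IsConj s t)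
    (s₁ s₂ : Q) (h₁ : orderOf s₁ = 2) (h₂ : orderOf s₂ = 2) (hne : s₁ ≠ s₂) :
    ∃ g : Q, ∀ s : Q, orderOf s = 2 → g * s * g⁻¹ ≠ s := by
  classical
  by_contra hcon
  push Not at hcon
  let X : SubMulAction (ConjAct Q) Q :=
    { carrier := {s | orderOf s = 2}
      smul_mem' := by
        intro g s hs
        simp only [Set.mem_ofPred_eq] at hs ⊢
        rw [ConjAct.smul_def]
        rw [show (ConjAct.ofConjAct g) * s * (ConjAct.ofConjAct g)⁻¹ =
          MulAut.conj (ConjAct.ofConjAct g) s from rfl, MulEquiv.orderOf_eq]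
        exact hs }
  haveI : Finite (ConjAct Q) := inferInstanceAs (Finite Q)
  haveI : Fintype (ConjAct Q) := Fintype.ofFinite _
  haveI : Fintype X := Fintype.ofFinite _
  haveI : IsPretransitive (ConjAct Q) X := ⟨by
    rintro ⟨s, hs⟩ ⟨t, ht⟩
    obtain ⟨c, hc⟩ := isConj_iff.mp (hconj s t hs ht)
    refine ⟨ConjAct.toConjAct c, Subtype.ext ?_⟩
    change ConjAct.toConjAct c • s = t
    rw [ConjAct.smul_def]; simpa using hc⟩
  have hB := MulAction.sum_card_fixedBy_eq_card_orbits_mul_card_group (ConjAct Q) X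
  have hΩ : Fintype.card (Quotient (orbitRel (ConjAct Q) X)) = 1 := by
    haveI : Subsingleton (orbitRel.Quotient (ConjAct Q) X) :=
      (pretransitive_iff_subsingleton_quotient _ _).mp inferInstance
    haveI : Nonempty (orbitRel.Quotient (ConjAct Q) X) := ⟨Quotient.mk'' ⟨s₁, h₁⟩⟩
    exact Fintype.card_eq_one_iff_nonempty_unique.mpr ⟨uniqueOfSubsingleton (Quotient.mk'' ⟨s₁, h₁⟩)⟩
  rw [hΩ, one_mul] at hB
  have hlt : ∑ _g : ConjAct Q, 1 < ∑ g : ConjAct Q, Fintype.card (fixedBy X g) := by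
    apply Finset.sum_lt_sum
    · intro g _
      obtain ⟨s, hs, hfix⟩ := hcon (ConjAct.ofConjAct g)
      apply Fintype.card_pos_iff.mpr
      refine ⟨⟨⟨s, hs⟩, ?_⟩⟩
      rw [mem_fixedBy]
      apply Subtype.ext
      change g • s = s
      rw [ConjAct.smul_def]; exact hfix
    · refine ⟨1, Finset.mem_univ _, ?_⟩
      apply Fintype.one_lt_card_iff.mpr
      refine ⟨⟨⟨s₁, h₁⟩, by simp⟩, ⟨⟨s₂, h₂⟩, by simp⟩, ?_⟩
      intro h
      apply hne
      have h' := congrArg Subtype.val (congrArg Subtype.val h)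
      exact h'
  rw [hB] at hlt
  simp at hlt

theorem orderOf_conj' {Q : Type*} [Group Q] (h s : Q) : orderOf (h * s * h⁻¹) = orderOf s := by
  rw [show h * s * h⁻¹ = MulAut.conj h s from rfl, MulEquiv.orderOf_eq]

theorem inv_eq_self_of_orderOf_two {Q : Type*} [Group Q] {s : Q} (hs : orderOf s = 2) :
    s⁻¹ = s := by
  have h : s * s = 1 := by
    have := pow_orderOf_eq_one s
    rwa [hs, pow_two] at this
  exact inv_eq_of_mul_eq_one_left h

theorem orderOf_mul_two {Q : Type*} [Group Q] {s t : Q} (hs : orderOf s = 2) (ht : orderOf t = 2)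
    (hc : s * t = t * s) (hne : s ≠ t) : orderOf (s * t) = 2 := by
  have hs2 : s * s = 1 := by
    have := pow_orderOf_eq_one s
    rwa [hs, pow_two] at this
  have ht2 : t * t = 1 := by
    have := pow_orderOf_eq_one t
    rwa [ht, pow_two] at this
  apply orderOf_eq_prime
  · rw [pow_two]
    calc s * t * (s * t) = s * (t * s) * t := by group
      _ = s * (s * t) * t := by rw [hc]
      _ = (s * s) * (t * t) := by group
      _ = 1 := by rw [hs2, ht2, one_mul]
  · intro h
    apply hne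
    have : t = s⁻¹ := (inv_eq_of_mul_eq_one_right h).symm
    rw [this, inv_eq_self_of_orderOf_two hs]

/-- conjugating `x` by an odd power of an element inverting it still inverts it -/
theorem conj_odd_pow {Q : Type*} [Group Q] {h x : Q} (hx : h * x * h⁻¹ = x⁻¹) {n : ℕ} (hn : Odd n) :
    h ^ n * x * (h ^ n)⁻¹ = x⁻¹ := by
  obtain ⟨q, rfl⟩ := hn
  have h2 : Commute (h * h) x := by
    have : (h * h) * x * (h * h)⁻¹ = x := by
      calc (h * h) * x * (h * h)⁻¹ = h * (h * x * h⁻¹) * h⁻¹ := by group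
        _ = h * x⁻¹ * h⁻¹ := by rw [hx]
        _ = (h * x * h⁻¹)⁻¹ := by group
        _ = x := by rw [hx, inv_inv]
    exact (mul_inv_eq_iff_eq_mul.mp this)
  have h3 : Commute ((h * h) ^ q) x := h2.pow_left q
  have e : h ^ (2 * q + 1) = (h * h) ^ q * h := by
    rw [pow_succ, pow_mul, pow_two]
  rw [e]
  calc (h * h) ^ q * h * x * ((h * h) ^ q * h)⁻¹
      = (h * h) ^ q * (h * x * h⁻¹) * ((h * h) ^ q)⁻¹ := by group
    _ = (h * h) ^ q * x⁻¹ * ((h * h) ^ q)⁻¹ := by rw [hx]
    _ = x⁻¹ := by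
      have := h3.inv_right
      rw [this.eq]; group

/-- in a finite solvable group `Q` with `O(Q) = 1` in which every element is conjugate to its
inverse and all involutions are conjugate, there is at most one involution -/
theorem unique_invol {Q : Type*} [Group Q] [Finite Q] [Group.IsSolvable Q]
    (hO : Cfsg.pPrimeCore 2 Q = ⊥)
    (hreal : ∀ x : Q, IsConj x x⁻¹)
    (hconj : ∀ s t : Q, orderOf s = 2 → orderOf t = 2 → IsConj s t)
    (r r' : Q) (hr : orderOf r = 2) (hr' : orderOf r' = 2) : r = r' := by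
  by_contra hne
  haveI : Nontrivial Q := ⟨⟨r, r', hne⟩⟩
  obtain ⟨A, hAn, hAne, hAc⟩ := exists_normal_comm_ne_bot Q
  have h2A : 2 ∣ Nat.card A := by
    by_contra h
    have hcop : (Nat.card A).Coprime 2 :=
      Nat.Coprime.symm ((Nat.Prime.coprime_iff_not_dvd Nat.prime_two).mpr h)
    have := Cfsg.Agent.helper1.le_pPrimeCore (p := 2) hAn hcop
    rw [hO] at this
    exact hAne (eq_bot_iff.mpr this)
  haveI : Fact (Nat.Prime 2) := ⟨Nat.prime_two⟩
  obtain ⟨a0, ha0⟩ := exists_prime_orderOf_dvd_card' 2 h2A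
  have ha0' : orderOf (a0 : Q) = 2 := by rw [Subgroup.orderOf_coe]; exact ha0
  have hinvA : ∀ s : Q, orderOf s = 2 → s ∈ A := by
    intro s hs
    obtain ⟨c, hc⟩ := isConj_iff.mp (hconj (a0 : Q) s ha0' hs)
    rw [← hc]; exact hAn.conj_mem _ a0.2 c
  have F1 : ∀ s t : Q, orderOf s = 2 → orderOf t = 2 → s * t = t * s :=
    fun s t hs ht => hAc s (hinvA s hs) t (hinvA t ht)
  -- the fixed-involution property
  let P : Q → Prop := fun h => ∃ s : Q, orderOf s = 2 ∧ h * s * h⁻¹ = s
  have step : ∀ h : Q, P (h * h) → P h := by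
    rintro h ⟨s, hs, hfix⟩
    by_cases hss : h * s * h⁻¹ = s
    · exact ⟨s, hs, hss⟩
    · have hs' : orderOf (h * s * h⁻¹) = 2 := by rw [orderOf_conj']; exact hs
      refine ⟨s * (h * s * h⁻¹), orderOf_mul_two hs hs' (F1 _ _ hs hs') (Ne.symm hss), ?_⟩
      calc h * (s * (h * s * h⁻¹)) * h⁻¹ = (h * s * h⁻¹) * ((h * h) * s * (h * h)⁻¹) := by group
        _ = (h * s * h⁻¹) * s := by rw [hfix]
        _ = s * (h * s * h⁻¹) := F1 _ _ hs' hs
  have stepk : ∀ (k : ℕ) (h : Q), P (h ^ 2 ^ k) → P h := by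
    intro k
    induction k with
    | zero => intro h hP; simpa using hP
    | succ k ih =>
      intro h hP
      apply step
      apply ih
      rw [pow_succ, pow_mul'] at hP
      rwa [pow_two] at hP
  obtain ⟨g, hg⟩ := exists_fpf hconj r r' hr hr' hne
  have hPg : ¬ P g := by
    rintro ⟨s, hs, hfix⟩
    exact hg s hs hfix
  have hog : orderOf g ≠ 0 := (orderOf_pos g).ne'
  obtain ⟨k, m, hm, hkm⟩ := Nat.exists_eq_two_pow_mul_odd hog
  set x := g ^ 2 ^ k with hxdef
  have hPx : ¬ P x := fun h => hPg (stepk k g h)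
  have hxm : x ^ m = 1 := by
    rw [hxdef, ← pow_mul, ← hkm, pow_orderOf_eq_one]
  have hxodd : Odd (orderOf x) := Odd.of_dvd_nat hm (orderOf_dvd_of_pow_eq_one hxm)
  have hx1 : x ≠ 1 := by
    intro h
    apply hPx
    exact ⟨r, hr, by rw [h]; group⟩
  obtain ⟨h, hh⟩ := isConj_iff.mp (hreal x)
  have hoh : orderOf h ≠ 0 := (orderOf_pos h).ne'
  obtain ⟨j, m', hm', hjm⟩ := Nat.exists_eq_two_pow_mul_odd hoh
  set t := h ^ m' with htdef
  have htx : t * x * t⁻¹ = x⁻¹ := conj_odd_pow hh hm'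
  have htj : t ^ 2 ^ j = 1 := by
    rw [htdef, ← pow_mul, mul_comm, ← hjm, pow_orderOf_eq_one]
  have hxx : x * x ≠ 1 := by
    intro h2
    apply hx1
    have hd : orderOf x ∣ 2 := orderOf_dvd_of_pow_eq_one (by rw [pow_two]; exact h2)
    have : orderOf x = 1 := by
      rcases (Nat.dvd_prime Nat.prime_two).mp hd with h | h
      · exact h
      · rw [h] at hxodd; exact absurd hxodd (by decide)
    exact orderOf_eq_one_iff.mp this
  have ht1 : t ≠ 1 := by
    intro h1
    rw [h1] at htx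
    apply hxx
    have : x = x⁻¹ := by simpa using htx
    calc x * x = x * x⁻¹ := by rw [← this]
      _ = 1 := mul_inv_cancel x
  obtain ⟨i, hi_le, hi⟩ := (Nat.dvd_prime_pow Nat.prime_two).mp (orderOf_dvd_of_pow_eq_one htj)
  have hi0 : i ≠ 0 := by
    intro h0
    rw [h0, pow_zero] at hi
    exact ht1 (orderOf_eq_one_iff.mp hi)
  obtain ⟨i', rfl⟩ := Nat.exists_eq_succ_of_ne_zero hi0
  have hs2 : orderOf (t ^ 2 ^ i') = 2 := by
    apply orderOf_eq_prime
    · rw [← pow_mul, ← pow_succ, ← hi, pow_orderOf_eq_one]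
    · apply pow_ne_one_of_lt_orderOf (by positivity)
      rw [hi]; exact Nat.pow_lt_pow_right (by norm_num) (Nat.lt_succ_self _)
  rcases Nat.eq_zero_or_pos i' with h0 | hpos
  · -- `t` itself is an involution inverting `x`
    rw [h0, pow_zero, pow_one] at hs2
    have ht2 : t * t = 1 := by
      have := pow_orderOf_eq_one t
      rwa [hs2, pow_two] at this
    have e1 : t * x = x⁻¹ * t := by rw [← htx]; group
    have hr2 : orderOf (x * t * x⁻¹) = 2 := by rw [orderOf_conj']; exact hs2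
    have hcomm := F1 t (x * t * x⁻¹) hs2 hr2
    have e2 : t * (x * t * x⁻¹) = x⁻¹ * x⁻¹ := by
      calc t * (x * t * x⁻¹) = (t * x) * t * x⁻¹ := by group
        _ = x⁻¹ * (t * t) * x⁻¹ := by rw [e1]; group
        _ = x⁻¹ * x⁻¹ := by rw [ht2]; group
    have e3 : (x * t * x⁻¹) * t = x * x := by
      calc (x * t * x⁻¹) * t = x * t * (x⁻¹ * t) := by group
        _ = x * t * (t * x) := by rw [e1]
        _ = x * (t * t) * x := by group
        _ = x * x := by rw [ht2]; group
    have e4 : x⁻¹ * x⁻¹ = x * x := by rw [← e2, hcomm, e3]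
    have e5 : x ^ 4 = 1 := by
      calc x ^ 4 = (x * x) * (x * x) := by
            rw [show (4 : ℕ) = 2 + 2 from rfl, pow_add, pow_two]
        _ = (x * x) * (x⁻¹ * x⁻¹) := by rw [e4]
        _ = 1 := by group
    have hd : orderOf x ∣ 4 := orderOf_dvd_of_pow_eq_one e5
    have hcop : Nat.Coprime (orderOf x) 4 := by
      have : Nat.Coprime (orderOf x) 2 := Nat.coprime_two_right.mpr hxodd
      exact Nat.Coprime.pow_right 2 this
    exact hx1 (orderOf_eq_one_iff.mp (Nat.Coprime.eq_one_of_dvd hcop hd))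
  · -- an involution in `⟨t * t⟩` commutes with `x`
    obtain ⟨i'', rfl⟩ := Nat.exists_eq_succ_of_ne_zero hpos.ne'
    apply hPx
    refine ⟨t ^ 2 ^ (i'' + 1), hs2, ?_⟩
    have h2 : Commute (t * t) x := by
      have : (t * t) * x * (t * t)⁻¹ = x := by
        calc (t * t) * x * (t * t)⁻¹ = t * (t * x * t⁻¹) * t⁻¹ := by group
          _ = t * x⁻¹ * t⁻¹ := by rw [htx]
          _ = (t * x * t⁻¹)⁻¹ := by group
          _ = x := by rw [htx, inv_inv]
      exact (mul_inv_eq_iff_eq_mul.mp this)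
    have h3 : Commute (t ^ 2 ^ (i'' + 1)) x := by
      rw [pow_succ, pow_mul', pow_two]
      exact h2.pow_left _
    rw [← h3.eq]; group


/-- involutions of `G ⧸ N` lift to involutions of `G` when `N` has odd order -/
theorem lift_invol {G : Type*} [Group G] [Finite G] (N : Subgroup G) [N.Normal]
    (hN : Odd (Nat.card N)) (r : G ⧸ N) (hr : orderOf r = 2) :
    ∃ y : G, orderOf y = 2 ∧ (QuotientGroup.mk' N) y = r := by
  obtain ⟨x, rfl⟩ := QuotientGroup.mk'_surjective N r
  have hrr : (QuotientGroup.mk' N) x * (QuotientGroup.mk' N) x = 1 := by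
    have := pow_orderOf_eq_one ((QuotientGroup.mk' N) x)
    rwa [hr, pow_two] at this
  have hx2 : x * x ∈ N := by
    have h1 : (QuotientGroup.mk' N) (x * x) = 1 := by rw [map_mul, hrr]
    exact (QuotientGroup.eq_one_iff _).mp h1
  have hm : Odd (orderOf (x * x)) := Odd.of_dvd_nat hN (Subgroup.orderOf_dvd_natCard N hx2)
  obtain ⟨q, hq⟩ := hm
  have himg : (QuotientGroup.mk' N) (x ^ orderOf (x * x)) = (QuotientGroup.mk' N) x := by
    rw [map_pow, hq, pow_succ, pow_mul, pow_two, hrr, one_pow, one_mul]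
  refine ⟨x ^ orderOf (x * x), ?_, himg⟩
  apply orderOf_eq_prime
  · rw [← pow_mul, mul_comm, pow_mul, pow_two, pow_orderOf_eq_one]
  · intro h1
    rw [h1, map_one] at himg
    have : orderOf ((QuotientGroup.mk' N) x) = 1 := by rw [← himg, orderOf_one]
    rw [hr] at this
    norm_num at this

/-- in a finite solvable group in which every element is conjugate to its inverse and all
involutions are conjugate, two commuting involutions are equal -/
theorem comm_invol_eq {G : Type*} [Group G] [Finite G] [Group.IsSolvable G]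
    (hamb : ∀ x : G, IsConj x x⁻¹)
    (hone : ∀ s t : G, orderOf s = 2 → orderOf t = 2 → IsConj s t)
    (a b : G) (ha : orderOf a = 2) (hb : orderOf b = 2) (hcomm : a * b = b * a) : a = b := by
  by_contra hab
  have hNodd : Odd (Nat.card (Cfsg.pPrimeCore 2 G)) :=
    Nat.coprime_two_right.mp (Cfsg.Agent.helper1.pPrimeCore_coprime 2)
  have hO : Cfsg.pPrimeCore 2 (G ⧸ Cfsg.pPrimeCore 2 G) = ⊥ :=
    Cfsg.Agent.helper9.pPrimeCore_quotient_eq_bot 2
  have hreal : ∀ x : G ⧸ Cfsg.pPrimeCore 2 G, IsConj x x⁻¹ := by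
    intro x
    obtain ⟨y, rfl⟩ := QuotientGroup.mk'_surjective (Cfsg.pPrimeCore 2 G) x
    have := (QuotientGroup.mk' (Cfsg.pPrimeCore 2 G)).map_isConj (hamb y)
    rwa [map_inv] at this
  have hconj : ∀ s t : G ⧸ Cfsg.pPrimeCore 2 G, orderOf s = 2 → orderOf t = 2 → IsConj s t := by
    intro s t hs ht
    obtain ⟨ys, hys, rfl⟩ := lift_invol (Cfsg.pPrimeCore 2 G) hNodd s hs
    obtain ⟨yt, hyt, rfl⟩ := lift_invol (Cfsg.pPrimeCore 2 G) hNodd t ht
    exact (QuotientGroup.mk' (Cfsg.pPrimeCore 2 G)).map_isConj (hone ys yt hys hyt)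
  have hnot : ∀ c : G, orderOf c = 2 → c ∉ Cfsg.pPrimeCore 2 G := by
    intro c hc hcN
    have := Subgroup.orderOf_dvd_natCard _ hcN
    rw [hc] at this
    exact (Nat.not_even_iff_odd.mpr hNodd) (even_iff_two_dvd.mpr this)
  have himg : ∀ c : G, orderOf c = 2 →
      orderOf ((QuotientGroup.mk' (Cfsg.pPrimeCore 2 G)) c) = 2 := by
    intro c hc
    haveI : Fact (Nat.Prime 2) := ⟨Nat.prime_two⟩
    apply orderOf_eq_prime
    · rw [← map_pow, ← hc, pow_orderOf_eq_one, map_one]
    · intro h1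
      exact hnot c hc ((QuotientGroup.eq_one_iff c).mp h1)
  have heq := unique_invol hO hreal hconj _ _ (himg a ha) (himg b hb)
  have hab2 : orderOf (a * b) = 2 := orderOf_mul_two ha hb hcomm hab
  apply hnot (a * b) hab2
  have hbb : b * b = 1 := by
    have := pow_orderOf_eq_one b
    rwa [hb, pow_two] at this
  have h1 : (QuotientGroup.mk' (Cfsg.pPrimeCore 2 G)) (a * b) = 1 := by
    rw [map_mul, heq, ← map_mul, hbb, map_one]
  exact (QuotientGroup.eq_one_iff _).mp h1

/-- a `2`-subgroup of a group in which commuting involutions are equal has a unique subgroup of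
order `2` -/
theorem unique_order_two' {G : Type*} [Group G] (S : Subgroup G) [Finite S] (hS : IsPGroup 2 S)
    [Nontrivial S]
    (hK : ∀ a b : G, orderOf a = 2 → orderOf b = 2 → a * b = b * a → a = b) :
    ∀ H K : Subgroup ↥S, Nat.card H = 2 → Nat.card K = 2 → H = K := by
  haveI : Fact (Nat.Prime 2) := ⟨Nat.prime_two⟩
  haveI := hS.center_nontrivial
  have h2 : 2 ∣ Nat.card (Subgroup.center ↥S) := by
    have hc : IsPGroup 2 (Subgroup.center ↥S) := hS.to_subgroup _
    rcases hc.card_eq_or_dvd with h | h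
    · exfalso
      have := (Nat.card_eq_one_iff_unique.mp h).1
      exact not_subsingleton _ this
    · exact h
  obtain ⟨z, hz⟩ := exists_prime_orderOf_dvd_card' 2 h2
  have hzS : orderOf (z : ↥S) = 2 := by rw [Subgroup.orderOf_coe]; exact hz
  have hzG : orderOf ((z : ↥S) : G) = 2 := by rw [Subgroup.orderOf_coe]; exact hzS
  have key : ∀ H : Subgroup ↥S, Nat.card H = 2 → H = Subgroup.zpowers (z : ↥S) := by
    intro H hH
    have hne : H ≠ ⊥ := by
      intro e; rw [e, Subgroup.card_bot] at hH; omega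
    obtain ⟨⟨t, htH⟩, ht1'⟩ := (Subgroup.ne_bot_iff_exists_ne_one (H := H)).mp hne
    have ht1 : t ≠ 1 := fun e => ht1' (Subtype.ext e)
    have hto : orderOf t = 2 := by
      have hd : orderOf t ∣ 2 := by
        rw [← hH]; exact Subgroup.orderOf_dvd_natCard H htH
      rcases (Nat.dvd_prime Nat.prime_two).mp hd with h | h
      · exact absurd (orderOf_eq_one_iff.mp h) ht1
      · exact h
    have htG : orderOf (t : G) = 2 := by rw [Subgroup.orderOf_coe]; exact hto
    have hcomm : ((z : ↥S) : G) * (t : G) = (t : G) * ((z : ↥S) : G) := by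
      have := (Subgroup.mem_center_iff.mp z.2) t
      exact (congrArg Subtype.val this).symm
    have htz : (z : ↥S) = t := Subtype.ext (hK _ _ hzG htG hcomm)
    symm
    apply Subgroup.eq_of_le_of_card_ge
    · rw [Subgroup.zpowers_le, htz]; exact htH
    · rw [hH, Nat.card_zpowers, hzS]
  intro H K hH hK2
  rw [key H hH, key K hK2]

/-- structure of a Sylow `2`-subgroup when commuting involutions are equal -/
theorem sylow_structure' {G : Type*} [Group G] [Finite G] (heven : 2 ∣ Nat.card G)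
    (hK : ∀ a b : G, orderOf a = 2 → orderOf b = 2 → a * b = b * a → a = b) (S : Sylow 2 G) :
    IsCyclic ↥(S : Subgroup G) ∨
      ∃ m : ℕ, Nonempty (↥(S : Subgroup G) ≃* QuaternionGroup (2 ^ (m + 1))) := by
  haveI : Fact (Nat.Prime 2) := ⟨Nat.prime_two⟩
  haveI : Nontrivial ↥(S : Subgroup G) := by
    have := S.ne_bot_of_dvd_card heven
    exact (Subgroup.nontrivial_iff_ne_bot _).mpr this
  rcases Cfsg.Agent.S0016.result 2 S.2 (unique_order_two' (S : Subgroup G) S.2 hK) with
    h | ⟨_, n, ⟨e⟩⟩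
  · exact Or.inl h
  · rcases n with _ | m
    · left
      haveI := QuaternionGroup.quaternionGroup_one_isCyclic
      rw [pow_zero] at e
      exact isCyclic_of_surjective e.symm e.symm.surjective
    · exact Or.inr ⟨m, ⟨e⟩⟩

/-- a cyclic Sylow `2`-subgroup of a group in which every element is conjugate to its inverse has
order at most `2` -/
theorem sq_eq_one_of_cyclic {G : Type*} [Group G] [Finite G]
    (hamb : ∀ x : G, IsConj x x⁻¹) (heven : 2 ∣ Nat.card G) (S : Sylow 2 G)
    (hc : IsCyclic (S : Subgroup G)) : ∀ s : G, s ∈ (S : Subgroup G) → s * s = 1 := by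
  haveI : Fact (Nat.Prime 2) := ⟨Nat.prime_two⟩
  have hp : (Nat.card G).minFac = 2 := (Nat.minFac_eq_two_iff _).mpr heven
  have hNC := hc.normalizer_le_centralizer hp
  have hcommS : ∀ a b : ↥(S : Subgroup G), a * b = b * a := fun a b =>
    Subtype.ext (hNC (Subgroup.le_normalizer b.2) a a.2)
  intro s hs
  obtain ⟨g, hg⟩ := isConj_iff.mp (hamb s)
  have h1 : MonoidHom.transferSylow S hNC s⁻¹ = MonoidHom.transferSylow S hNC s := by
    rw [← hg, map_mul, map_mul, map_inv, hcommS (MonoidHom.transferSylow S hNC g), mul_assoc,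
      mul_inv_cancel, mul_one]
  have h2 : MonoidHom.transferSylow S hNC s * MonoidHom.transferSylow S hNC s = 1 := by
    calc MonoidHom.transferSylow S hNC s * MonoidHom.transferSylow S hNC s
        = MonoidHom.transferSylow S hNC s * MonoidHom.transferSylow S hNC s⁻¹ := by rw [h1]
      _ = 1 := by rw [← map_mul, mul_inv_cancel, map_one]
  have h3 := MonoidHom.transferSylow_eq_pow S hNC s hs
  rw [h3] at h2
  have h4 : s ^ ((S : Subgroup G).index * 2) = 1 := by
    have := congrArg Subtype.val h2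
    simp only [Subgroup.coe_mul, Subgroup.coe_one] at this
    rw [pow_mul, pow_two]; exact this
  obtain ⟨k, hk⟩ := S.2 ⟨s, hs⟩
  have hk' : s ^ 2 ^ k = 1 := by
    have := congrArg Subtype.val hk
    simpa using this
  have hd1 : orderOf s ∣ (S : Subgroup G).index * 2 := orderOf_dvd_of_pow_eq_one h4
  have hd2 : orderOf s ∣ 2 ^ k := orderOf_dvd_of_pow_eq_one hk'
  have hcop : Nat.Coprime (orderOf s) (S : Subgroup G).index := by
    apply Nat.Coprime.coprime_dvd_left hd2
    apply Nat.Coprime.pow_left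
    rw [Nat.Prime.coprime_iff_not_dvd Nat.prime_two]
    exact S.not_dvd_index
  have hd3 : orderOf s ∣ 2 := hcop.dvd_of_dvd_mul_left hd1
  have := orderOf_dvd_iff_pow_eq_one.mp hd3
  rwa [pow_two] at this


/-- an element of odd order inverted by an element of odd order is trivial -/
theorem eq_one_of_inverted_by_odd {G : Type*} [Group G] {n c : G} (hn : Odd (orderOf n))
    (hc : Odd (orderOf c)) (h : n * c * n⁻¹ = c⁻¹) : c = 1 := by
  have h2 : Commute (n * n) c := by
    have : (n * n) * c * (n * n)⁻¹ = c := by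
      calc (n * n) * c * (n * n)⁻¹ = n * (n * c * n⁻¹) * n⁻¹ := by group
        _ = n * c⁻¹ * n⁻¹ := by rw [h]
        _ = (n * c * n⁻¹)⁻¹ := by group
        _ = c := by rw [h, inv_inv]
    exact (mul_inv_eq_iff_eq_mul.mp this)
  obtain ⟨q, hq⟩ := hn
  have hnq : n = (n * n) ^ (q + 1) := by
    have : n ^ (orderOf n + 1) = n := by rw [pow_succ, pow_orderOf_eq_one, one_mul]
    rw [← pow_two, ← pow_mul]
    have e : 2 * (q + 1) = orderOf n + 1 := by omega
    rw [e, this]
  have h3 : Commute n c := by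
    rw [hnq]; exact h2.pow_left _
  have h4 : c = c⁻¹ := by
    rw [← h, h3.eq]; group
  have h5 : c ^ 2 = 1 := by
    rw [pow_two]
    calc c * c = c * c⁻¹ := by rw [← h4]
      _ = 1 := mul_inv_cancel c
  have hd : orderOf c ∣ 2 := orderOf_dvd_of_pow_eq_one h5
  exact orderOf_eq_one_iff.mp (Nat.Coprime.eq_one_of_dvd (Nat.coprime_two_right.mpr hc) hd)

/-- the case of a Sylow `2`-subgroup of order `2` -/
theorem order_two_case {G : Type*} [Group G] [Finite G]
    (hamb : ∀ x : G, IsConj x x⁻¹) (S : Sylow 2 G) (hS2 : Nat.card (S : Subgroup G) = 2) :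
    (S : Subgroup G).IsComplement' (Cfsg.pPrimeCore 2 G) ∧
      Cfsg.pPrimeCore 2 G = commutator G ∧
      ∀ t : G, t ∈ (S : Subgroup G) → t ≠ 1 → ∀ x : G, x ∈ Cfsg.pPrimeCore 2 G →
        t * x * t⁻¹ = x⁻¹ := by
  haveI : Fact (Nat.Prime 2) := ⟨Nat.prime_two⟩
  have heven : 2 ∣ Nat.card G := by
    have := Subgroup.card_subgroup_dvd_card (S : Subgroup G)
    rwa [hS2] at this
  have hp : (Nat.card G).minFac = 2 := (Nat.minFac_eq_two_iff _).mpr heven
  have hc : IsCyclic (S : Subgroup G) := isCyclic_of_prime_card hS2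
  have hNC := hc.normalizer_le_centralizer hp
  have hcommS : ∀ a b : ↥(S : Subgroup G), a * b = b * a := fun a b =>
    Subtype.ext (hNC (Subgroup.le_normalizer b.2) a a.2)
  have hcomp := MonoidHom.ker_transferSylow_isComplement' S hNC
  have hKodd := MonoidHom.not_dvd_card_ker_transferSylow S hNC
  have hNcop : (Nat.card (Cfsg.pPrimeCore 2 G)).Coprime 2 :=
    Cfsg.Agent.helper1.pPrimeCore_coprime 2
  have hNodd : Odd (Nat.card (Cfsg.pPrimeCore 2 G)) := Nat.coprime_two_right.mp hNcop
  have hKN : (MonoidHom.transferSylow S hNC).ker = Cfsg.pPrimeCore 2 G := by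
    apply le_antisymm
    · apply Cfsg.Agent.helper1.le_pPrimeCore (p := 2) (MonoidHom.normal_ker _)
      exact Nat.Coprime.symm ((Nat.Prime.coprime_iff_not_dvd Nat.prime_two).mpr hKodd)
    · intro x hx
      rw [MonoidHom.mem_ker]
      have h1 : orderOf (MonoidHom.transferSylow S hNC x) ∣ orderOf x := orderOf_map_dvd _ x
      have h2 : orderOf (MonoidHom.transferSylow S hNC x) ∣ 2 := by
        have := orderOf_dvd_natCard (MonoidHom.transferSylow S hNC x)
        rwa [hS2] at this
      have h3 : Odd (orderOf x) := Odd.of_dvd_nat hNodd (Subgroup.orderOf_dvd_natCard _ hx)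
      have h4 : Odd (orderOf (MonoidHom.transferSylow S hNC x)) := Odd.of_dvd_nat h3 h1
      have : orderOf (MonoidHom.transferSylow S hNC x) = 1 :=
        Nat.Coprime.eq_one_of_dvd (Nat.coprime_two_right.mpr h4) h2
      exact orderOf_eq_one_iff.mp this
  have hcomm_le : commutator G ≤ Cfsg.pPrimeCore 2 G := by
    rw [← hKN, commutator_def, Subgroup.commutator_le]
    intro g₁ _ g₂ _
    rw [MonoidHom.mem_ker, map_commutatorElement, commutatorElement_eq_one_iff_mul_comm]
    exact hcommS _ _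
  rw [hKN] at hcomp
  have hNel : ∀ x ∈ Cfsg.pPrimeCore 2 G, Odd (orderOf x) := fun x hx =>
    Odd.of_dvd_nat hNodd (Subgroup.orderOf_dvd_natCard _ hx)
  have hinv : ∀ t : G, t ∈ (S : Subgroup G) → t ≠ 1 → ∀ x : G, x ∈ Cfsg.pPrimeCore 2 G →
      t * x * t⁻¹ = x⁻¹ := by
    intro t htS ht1
    have hto : orderOf t = 2 := by
      have hd : orderOf t ∣ 2 := by
        have := Subgroup.orderOf_dvd_natCard (S : Subgroup G) htS
        rwa [hS2] at this
      rcases (Nat.dvd_prime Nat.prime_two).mp hd with h | h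
      · exact absurd (orderOf_eq_one_iff.mp h) ht1
      · exact h
    have htt : t * t = 1 := by
      have := pow_orderOf_eq_one t
      rwa [hto, pow_two] at this
    have htinv : t⁻¹ = t := inv_eq_self_of_orderOf_two hto
    have hSz : Subgroup.zpowers t = (S : Subgroup G) := by
      apply Subgroup.eq_of_le_of_card_ge
      · rw [Subgroup.zpowers_le]; exact htS
      · rw [hS2, Nat.card_zpowers, hto]
    have hfix : ∀ c ∈ Cfsg.pPrimeCore 2 G, t * c = c * t → c = 1 := by
      intro c hcN hct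
      obtain ⟨g, hg⟩ := isConj_iff.mp (hamb c)
      obtain ⟨⟨n, s⟩, hns⟩ := hcomp.2 g
      have hns' : (n : G) * (s : G) = g := hns
      have hsz : (s : G) ∈ Subgroup.zpowers t := by rw [hSz]; exact s.2
      obtain ⟨k, hk⟩ := Subgroup.mem_zpowers_iff.mp hsz
      have hsc : (s : G) * c = c * (s : G) := by
        rw [← hk]; exact ((show Commute t c from hct).zpow_left k).eq
      have hnc : (n : G) * c * (n : G)⁻¹ = c⁻¹ := by
        rw [← hg, ← hns']
        calc (n : G) * c * (n : G)⁻¹ = (n : G) * (c * (s : G)) * (s : G)⁻¹ * (n : G)⁻¹ := by group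
          _ = (n : G) * ((s : G) * c) * (s : G)⁻¹ * (n : G)⁻¹ := by rw [hsc]
          _ = (n : G) * (s : G) * c * ((n : G) * (s : G))⁻¹ := by group
      exact eq_one_of_inverted_by_odd (hNel n n.2) (hNel c hcN) hnc
    intro x hx
    let f : ↥(Cfsg.pPrimeCore 2 G) → ↥(Cfsg.pPrimeCore 2 G) := fun y =>
      ⟨(y : G)⁻¹ * (t * y * t⁻¹),
        mul_mem (inv_mem y.2) ((Cfsg.pPrimeCore_normal 2 G).conj_mem _ y.2 t)⟩
    have hf : Function.Injective f := by
      intro y1 y2 h
      have h' : (y1 : G)⁻¹ * (t * y1 * t⁻¹) = (y2 : G)⁻¹ * (t * y2 * t⁻¹) :=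
        congrArg Subtype.val h
      have e : t * (y1 : G) * t⁻¹ = (y1 : G) * (y2 : G)⁻¹ * (t * y2 * t⁻¹) := by
        rw [mul_assoc (y1 : G), ← h']; group
      have e2 : t * ((y2 : G) * (y1 : G)⁻¹) * t⁻¹ = (y2 : G) * (y1 : G)⁻¹ := by
        calc t * ((y2 : G) * (y1 : G)⁻¹) * t⁻¹ = (t * y2 * t⁻¹) * (t * y1 * t⁻¹)⁻¹ := by group
          _ = (t * y2 * t⁻¹) * ((y1 : G) * (y2 : G)⁻¹ * (t * y2 * t⁻¹))⁻¹ := by rw [e]
          _ = (y2 : G) * (y1 : G)⁻¹ := by group
      have hw : t * ((y2 : G) * (y1 : G)⁻¹) = ((y2 : G) * (y1 : G)⁻¹) * t :=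
        mul_inv_eq_iff_eq_mul.mp e2
      have h1 := hfix _ (mul_mem y2.2 (inv_mem y1.2)) hw
      exact Subtype.ext (mul_inv_eq_one.mp h1).symm
    have hsurj : Function.Surjective f := Finite.injective_iff_surjective.mp hf
    obtain ⟨y, hy⟩ := hsurj ⟨x, hx⟩
    have hxy : (y : G)⁻¹ * (t * y * t⁻¹) = x := congrArg Subtype.val hy
    rw [← hxy, htinv]
    have e1 : ((y : G)⁻¹ * (t * y * t))⁻¹ = t * (y : G)⁻¹ * t * y := by
      calc ((y : G)⁻¹ * (t * y * t))⁻¹ = t⁻¹ * (y : G)⁻¹ * t⁻¹ * y := by group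
        _ = t * (y : G)⁻¹ * t * y := by rw [htinv]
    rw [e1]
    calc t * ((y : G)⁻¹ * (t * y * t)) * t = t * (y : G)⁻¹ * t * y * (t * t) := by group
      _ = t * (y : G)⁻¹ * t * y := by rw [htt, mul_one]
  refine ⟨hcomp.symm, le_antisymm ?_ hcomm_le, hinv⟩
  -- `O(G) ≤ G'`
  have hSne : (S : Subgroup G) ≠ ⊥ := S.ne_bot_of_dvd_card heven
  obtain ⟨t, htS, ht1⟩ := (Subgroup.ne_bot_iff_exists_ne_one (H := (S : Subgroup G))).mp hSne |>.imp
    (fun t h => h) |> fun ⟨t, h⟩ => (⟨(t : G), t.2, fun e => h (Subtype.ext e)⟩ :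
      ∃ t : G, t ∈ (S : Subgroup G) ∧ t ≠ 1)
  intro x hx
  have hcm : ⁅t, x⁆ ∈ commutator G := by
    rw [commutator_def]
    exact Subgroup.commutator_mem_commutator (Subgroup.mem_top t) (Subgroup.mem_top x)
  rw [commutatorElement_def, hinv t htS ht1 x hx] at hcm
  have hxx : x * x ∈ commutator G := by
    have := inv_mem hcm
    simpa using this
  obtain ⟨q, hq⟩ := hNel x hx
  have hxq : x = (x * x) ^ (q + 1) := by
    have : x ^ (orderOf x + 1) = x := by rw [pow_succ, pow_orderOf_eq_one, one_mul]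
    rw [← pow_two, ← pow_mul]
    have e : 2 * (q + 1) = orderOf x + 1 := by omega
    rw [e, this]
  rw [hxq]
  exact pow_mem hxx _


end Cfsg.Agent.helper6.RealSolv
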