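import Mathlib

set_option autoImplicit false
open Polynomial

namespace Cfsg.Agent.helper6.S2645x

/-- reversal of roots -/
theorem rev_root {F K : Type*} [Field F] [Field K] [Algebra F K] (f : F[X]) (x : K) (hx : x ≠ 0)
    (h : aeval x f = 0) : aeval x⁻¹ f.reverse = 0 := by
  let _ := invertibleOfNonzero hx
  have h2 := (eval₂_reverse_eq_zero_iff (algebraMap F K) x f).2 (by rwa [aeval_def] at h)
  rwa [invOf_eq_inv, ← aeval_def] at h2

theorem rcp_root {F K : Type*} [Field F] [Field K] [Algebra F K] (f : F[X]) (x : K) (hx : x ≠ 0)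
    (h : aeval x f = 0) : aeval x⁻¹ (C (f.coeff 0)⁻¹ * f.reverse) = 0 := by
  rw [map_mul, rev_root f x hx h, mul_zero]

theorem rcp_monic {F : Type*} [Field F] (g : F[X]) (h0 : g.coeff 0 ≠ 0) :
    (C (g.coeff 0)⁻¹ * g.reverse).Monic := by
  unfold Monic
  rw [leadingCoeff_mul, leadingCoeff_C, reverse_leadingCoeff, trailingCoeff_eq_coeff_zero h0,
    inv_mul_cancel₀ h0]

theorem rcp_natDegree_le {F : Type*} [Field F] (g : F[X]) :
    (C (g.coeff 0)⁻¹ * g.reverse).natDegree ≤ g.natDegree :=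
  (natDegree_C_mul_le _ _).trans (reverse_natDegree_le g)

theorem rcp_coeff_zero {F : Type*} [Field F] (g : F[X]) (hg : g.Monic) :
    (C (g.coeff 0)⁻¹ * g.reverse).coeff 0 = (g.coeff 0)⁻¹ := by
  rw [coeff_C_mul, coeff_zero_reverse, hg.leadingCoeff, mul_one]

theorem coeff_zero_ne {F : Type*} [Field F] (r : ℕ) (hr : 0 < r) (g : F[X])
    (hdvd : g ∣ X ^ r - 1) : g.coeff 0 ≠ 0 := by
  intro h
  have h1 := X_dvd_iff.1 ((X_dvd_iff.2 h).trans hdvd)
  have hr' : r ≠ 0 := hr.ne'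
  simp [coeff_X_pow, hr'.symm] at h1

/-- if a nonzero root and its inverse are both roots of the monic irreducible `g`, then `g` is
self-reciprocal -/
theorem rcp_eq_self_of_roots {F K : Type*} [Field F] [Field K] [Algebra F K] (g : F[X])
    (hg : g.Monic) (hirr : Irreducible g) (h0 : g.coeff 0 ≠ 0) (x : K) (hx : x ≠ 0)
    (h1 : aeval x g = 0) (h2 : aeval x⁻¹ g = 0) : C (g.coeff 0)⁻¹ * g.reverse = g := by
  have e : g = minpoly F x⁻¹ := minpoly.eq_of_irreducible_of_monic hirr h2 hg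
  have hd : g ∣ C (g.coeff 0)⁻¹ * g.reverse := by
    have h3 := rcp_root g x hx h1
    have h4 := minpoly.dvd F x⁻¹ h3
    rwa [← e] at h4
  exact eq_of_monic_of_dvd_of_natDegree_le hg (rcp_monic g h0) hd (rcp_natDegree_le g)

theorem first6 {F : Type*} [Field F] (r : ℕ) (hr : 0 < r) (g : F[X]) (hg : g.Monic)
    (hirr : Irreducible g) (hdvd : g ∣ X ^ r - 1) (hne : g ≠ X - 1) :
    g.coeff 0 ≠ 0 ∧ (C (g.coeff 0)⁻¹ * g.reverse).Monic ∧
    Irreducible (C (g.coeff 0)⁻¹ * g.reverse) ∧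
    (C (g.coeff 0)⁻¹ * g.reverse) ∣ X ^ r - 1 ∧ (C (g.coeff 0)⁻¹ * g.reverse) ≠ X - 1 ∧
    (C ((C (g.coeff 0)⁻¹ * g.reverse).coeff 0)⁻¹ * (C (g.coeff 0)⁻¹ * g.reverse).reverse = g) := by
  have h0 : g.coeff 0 ≠ 0 := coeff_zero_ne r hr g hdvd
  have : Fact (Irreducible g) := ⟨hirr⟩
  have : Module.Finite F (AdjoinRoot g) := hg.finite_adjoinRoot
  set ζ : AdjoinRoot g := AdjoinRoot.root g with hζdef
  have hroot : ∀ p : F[X], aeval ζ p = 0 ↔ g ∣ p := fun p => by
    rw [hζdef, AdjoinRoot.aeval_eq, AdjoinRoot.mk_eq_zero]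
  have hζg : aeval ζ g = 0 := (hroot g).2 dvd_rfl
  have hζr : ζ ^ r = 1 := by
    have := (hroot (X ^ r - 1)).2 hdvd
    simpa [sub_eq_zero] using this
  have hζ0 : ζ ≠ 0 := by
    intro h
    rw [h, zero_pow hr.ne'] at hζr
    exact zero_ne_one hζr
  have hm1 : (X - 1 : F[X]).Monic := by simpa using monic_X_sub_C (1 : F)
  have hd1 : (X - 1 : F[X]).natDegree = 1 := by simpa using natDegree_X_sub_C (1 : F)
  have hζ1 : ζ ≠ 1 := by
    intro h
    have : aeval ζ (X - 1 : F[X]) = 0 := by simp [h]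
    have hd := (hroot _).1 this
    exact hne (eq_of_monic_of_dvd_of_natDegree_le hg hm1 hd
      (by rw [hd1]; exact hirr.natDegree_pos)).symm
  have hint : IsIntegral F ζ⁻¹ := Algebra.IsIntegral.isIntegral _
  set h := minpoly F ζ⁻¹ with hh
  have hrcp_root : aeval ζ⁻¹ (C (g.coeff 0)⁻¹ * g.reverse) = 0 := rcp_root g ζ hζ0 hζg
  have h_dvd : h ∣ C (g.coeff 0)⁻¹ * g.reverse := minpoly.dvd F _ hrcp_root
  have h_rev : aeval ζ h.reverse = 0 := by
    have := rev_root h ζ⁻¹ (inv_ne_zero hζ0) (minpoly.aeval F _)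
    rwa [inv_inv] at this
  have g_dvd : g ∣ h.reverse := (hroot _).1 h_rev
  have hdeg : g.natDegree ≤ h.natDegree :=
    (natDegree_le_of_dvd g_dvd (reverse_eq_zero.not.2 (minpoly.ne_zero hint))).trans
      (reverse_natDegree_le h)
  have hmon := rcp_monic g h0
  have heq : C (g.coeff 0)⁻¹ * g.reverse = h :=
    eq_of_monic_of_dvd_of_natDegree_le (minpoly.monic hint) hmon h_dvd
      ((rcp_natDegree_le g).trans hdeg)
  refine ⟨h0, hmon, ?_, ?_, ?_, ?_⟩
  · rw [heq]; exact minpoly.irreducible hint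
  · rw [heq]
    apply minpoly.dvd
    simp [hζr]
  · intro e
    have : aeval ζ⁻¹ (X - 1 : F[X]) = 0 := e ▸ hrcp_root
    have h1 : ζ⁻¹ = 1 := by simpa [sub_eq_zero] using this
    exact hζ1 (inv_eq_one.1 h1)
  · set g' := C (g.coeff 0)⁻¹ * g.reverse with hg'
    have hc' : g'.coeff 0 ≠ 0 := by
      rw [hg', rcp_coeff_zero g hg]; exact inv_ne_zero h0
    have hr2 : aeval ζ (C (g'.coeff 0)⁻¹ * g'.reverse) = 0 := by
      have := rcp_root g' ζ⁻¹ (inv_ne_zero hζ0) hrcp_root
      rwa [inv_inv] at this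
    have hd2 : g ∣ C (g'.coeff 0)⁻¹ * g'.reverse := (hroot _).1 hr2
    exact eq_of_monic_of_dvd_of_natDegree_le hg (rcp_monic g' hc') hd2
      ((rcp_natDegree_le g').trans (rcp_natDegree_le g))

/-- Frobenius: roots of a polynomial over a finite field are stable under `x ↦ x ^ q` -/
theorem aeval_pow_card {F K : Type*} [Field F] [Fintype F] [Field K] [Algebra F K] (f : F[X])
    (x : K) (h : aeval x f = 0) (k : ℕ) : aeval (x ^ (Fintype.card F) ^ k) f = 0 := by
  induction k with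
  | zero => simpa using h
  | succ k ih =>
    rw [pow_succ, pow_mul, ← expand_aeval, FiniteField.expand_card, map_pow, ih,
      zero_pow Fintype.card_ne_zero]

theorem card_cast_ne_zero {F : Type*} [Field F] [Fintype F] (r : ℕ) (hr : r.Prime)
    (hrF : (r : F) ≠ 0) : ((Fintype.card F : ℕ) : ZMod r) ≠ 0 := by
  obtain ⟨p, hp⟩ := CharP.exists F
  obtain ⟨n, hpp, hq⟩ := FiniteField.card F p
  intro h
  have : r ∣ Fintype.card F := (ZMod.natCast_eq_zero_iff _ _).1 h
  rw [hq] at this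
  have h2 : r ∣ p := hr.dvd_of_dvd_pow this
  have h3 : r = p := (Nat.prime_dvd_prime_iff_eq hr hpp).1 h2
  apply hrF
  rw [h3]
  exact CharP.cast_eq_zero F p

theorem part7 {F : Type*} [Field F] [Fintype F] (r : ℕ) (hr : r.Prime)
    (hrF : (r : F) ≠ 0) (g : F[X]) (hg : g.Monic) (hirr : Irreducible g)
    (hdvd : g ∣ X ^ r - 1)
    (hev : Even (orderOf (Fintype.card F : ZMod r))) : C (g.coeff 0)⁻¹ * g.reverse = g := by
  have h0 : g.coeff 0 ≠ 0 := coeff_zero_ne r hr.pos g hdvd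
  have : Fact (Irreducible g) := ⟨hirr⟩
  have : Fact r.Prime := ⟨hr⟩
  set ζ : AdjoinRoot g := AdjoinRoot.root g with hζdef
  have hroot : ∀ p : F[X], aeval ζ p = 0 ↔ g ∣ p := fun p => by
    rw [hζdef, AdjoinRoot.aeval_eq, AdjoinRoot.mk_eq_zero]
  have hζg : aeval ζ g = 0 := (hroot g).2 dvd_rfl
  have hζr : ζ ^ r = 1 := by
    have := (hroot (X ^ r - 1)).2 hdvd
    simpa [sub_eq_zero] using this
  have hζ0 : ζ ≠ 0 := by
    intro h
    rw [h, zero_pow hr.pos.ne'] at hζr
    exact zero_ne_one hζr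
  set a : ZMod r := (Fintype.card F : ZMod r) with ha
  have ha0 : a ≠ 0 := card_cast_ne_zero r hr hrF
  have hpos : 0 < orderOf a := by
    have h1 : a ^ (r - 1) = 1 := ZMod.pow_card_sub_one_eq_one ha0
    have h2 : orderOf a ∣ r - 1 := orderOf_dvd_of_pow_eq_one h1
    exact Nat.pos_of_dvd_of_pos h2 (Nat.sub_pos_of_lt hr.one_lt)
  obtain ⟨j, hj⟩ := hev
  have hjpos : 0 < j := by omega
  have hsq : a ^ j * a ^ j = 1 := by rw [← pow_add, ← hj, pow_orderOf_eq_one]
  have hne1 : a ^ j ≠ 1 := by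
    intro h
    have := orderOf_le_of_pow_eq_one hjpos h
    omega
  have hm1 : a ^ j = -1 := (mul_self_eq_one_iff.1 hsq).resolve_left hne1
  have hdiv : r ∣ (Fintype.card F) ^ j + 1 := by
    rw [← ZMod.natCast_eq_zero_iff]
    push_cast
    rw [← ha, hm1]; ring
  obtain ⟨w, hw⟩ := hdiv
  have hinv : ζ ^ (Fintype.card F) ^ j = ζ⁻¹ := by
    apply eq_inv_of_mul_eq_one_left
    rw [← pow_succ, hw, pow_mul, hζr, one_pow]
  have h2 : aeval ζ⁻¹ g = 0 := by
    rw [← hinv]; exact aeval_pow_card g ζ hζg j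
  exact rcp_eq_self_of_roots g hg hirr h0 ζ hζ0 hζg h2

theorem natDegree_eq_orderOf {F : Type*} [Field F] [Fintype F] (r : ℕ) (hr : r.Prime)
    (hrF : (r : F) ≠ 0) (g : F[X]) (hg : g.Monic) (hirr : Irreducible g)
    (hdvd : g ∣ X ^ r - 1) (hne : g ≠ X - 1) :
    g.natDegree = orderOf (Fintype.card F : ZMod r) := by
  obtain ⟨p, hp⟩ := CharP.exists F
  obtain ⟨n, hpp, hq⟩ := FiniteField.card F p
  have : Fact p.Prime := ⟨hpp⟩
  have : Fact r.Prime := ⟨hr⟩
  have hcop : p.Coprime r := by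
    rw [Nat.coprime_primes hpp hr]
    intro h
    apply hrF
    rw [← h]
    exact CharP.cast_eq_zero F p
  have hm1 : (X - 1 : F[X]).Monic := by simpa using monic_X_sub_C (1 : F)
  have hd1 : (X - 1 : F[X]).natDegree = 1 := by simpa using natDegree_X_sub_C (1 : F)
  have hcyc : g ∣ cyclotomic r F := by
    have h1 : g ∣ cyclotomic r F * (X - 1) := by
      rw [cyclotomic_prime_mul_X_sub_one]; exact hdvd
    rcases hirr.prime.dvd_or_dvd h1 with h | h
    · exact h
    · exact absurd (eq_of_monic_of_dvd_of_natDegree_le hg hm1 h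
        (by rw [hd1]; exact hirr.natDegree_pos)).symm hne
  rw [natDegree_of_dvd_cyclotomic_of_irreducible hq hcop hcyc hirr, ← orderOf_units,
    ZMod.coe_unitOfCoprime, hq]

theorem part8 {F : Type*} [Field F] [Fintype F] (r : ℕ) (hr : r.Prime) (hr2 : r ≠ 2)
    (hrF : (r : F) ≠ 0) (g : F[X]) (hg : g.Monic) (hirr : Irreducible g)
    (hdvd : g ∣ X ^ r - 1) (hne : g ≠ X - 1)
    (hodd : Odd (orderOf (Fintype.card F : ZMod r))) : C (g.coeff 0)⁻¹ * g.reverse ≠ g := by
  classical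
  intro hself
  have h0 : g.coeff 0 ≠ 0 := coeff_zero_ne r hr.pos g hdvd
  have hdeg := natDegree_eq_orderOf r hr hrF g hg hirr hdvd hne
  have hsep : g.Separable := by
    have h1 : (X ^ r - C (1 : F)).Separable := separable_X_pow_sub_C (1 : F) hrF one_ne_zero
    rw [map_one] at h1
    exact h1.of_dvd hdvd
  have hcard : Fintype.card (g.rootSet g.SplittingField) = g.natDegree :=
    card_rootSet_eq_natDegree hsep (SplittingField.splits g)
  -- facts about roots
  have hrt : ∀ x : g.SplittingField, x ∈ g.rootSet g.SplittingField →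
      x⁻¹ ∈ g.rootSet g.SplittingField ∧ x⁻¹ ≠ x := by
    intro x hx
    rw [mem_rootSet] at hx
    obtain ⟨w, hw⟩ := hdvd
    have hxr : x ^ r = 1 := by
      have : aeval x (X ^ r - 1 : F[X]) = 0 := by rw [hw, map_mul, hx.2, zero_mul]
      simpa [sub_eq_zero] using this
    have hx0 : x ≠ 0 := by
      intro h
      rw [h, zero_pow hr.pos.ne'] at hxr
      exact zero_ne_one hxr
    constructor
    · rw [mem_rootSet]
      refine ⟨hx.1, ?_⟩
      have := rcp_root g x hx0 hx.2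
      rwa [hself] at this
    · intro h
      have hsq : x * x = 1 := by
        have := inv_mul_cancel₀ hx0
        rwa [h] at this
      have ho : Odd r := (Nat.Prime.eq_two_or_odd' hr).resolve_left hr2
      obtain ⟨m, hm⟩ := ho
      have hx1 : x = 1 := by
        have : x ^ r = x := by
          rw [hm, pow_succ, pow_mul, pow_two, hsq, one_pow, one_mul]
        rw [hxr] at this
        exact this.symm
      have hev : g.eval 1 = 0 := by
        have h3 := hx.2
        rw [hx1, ← map_one (algebraMap F g.SplittingField), aeval_algebraMap_apply] at h3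
        have := (algebraMap F g.SplittingField).injective
        apply this
        rw [map_zero]
        simpa using h3
      have hdv : (X - C (1 : F)) ∣ g := dvd_iff_isRoot.2 hev
      have hass : Associated (X - C (1 : F)) g :=
        (irreducible_X_sub_C (1 : F)).associated_of_dvd hirr hdv
      have := eq_of_monic_of_associated (monic_X_sub_C (1 : F)) hg hass
      rw [map_one] at this
      exact hne this.symm
  let f : Function.End (g.rootSet g.SplittingField) := fun x => ⟨(x : g.SplittingField)⁻¹,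
    (hrt x x.2).1⟩
  have hf : f ^ 2 ^ 1 = 1 := by
    rw [pow_one, pow_two]
    funext x
    exact Subtype.ext (inv_inv _)
  have : Fact (Nat.Prime 2) := ⟨Nat.prime_two⟩
  have hmod := Equiv.Perm.card_fixedPoints_modEq (p := 2) (n := 1) hf
  have hfix : Fintype.card (Function.fixedPoints f) = 0 := by
    rw [Fintype.card_eq_zero_iff]
    constructor
    rintro ⟨x, hx⟩
    have : (f x : g.SplittingField) = x := congrArg Subtype.val hx
    exact (hrt x x.2).2 this
  rw [hfix, hcard, hdeg] at hmod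
  have : orderOf (Fintype.card F : ZMod r) % 2 = 0 := hmod
  rcases hodd with ⟨k, hk⟩
  omega

theorem pieceB {F : Type*} [Field F] [Fintype F] (r : ℕ) (hr : r.Prime) (hr2 : r ≠ 2)
    (hrF : (r : F) ≠ 0) (g : F[X]) (hg : g.Monic) (hirr : Irreducible g)
    (hdvd : g ∣ X ^ r - 1) (hne : g ≠ X - 1) :
    g.coeff 0 ≠ 0 ∧ (C (g.coeff 0)⁻¹ * g.reverse).Monic ∧
    Irreducible (C (g.coeff 0)⁻¹ * g.reverse) ∧
    (C (g.coeff 0)⁻¹ * g.reverse) ∣ X ^ r - 1 ∧ (C (g.coeff 0)⁻¹ * g.reverse) ≠ X - 1 ∧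
    (C ((C (g.coeff 0)⁻¹ * g.reverse).coeff 0)⁻¹ * (C (g.coeff 0)⁻¹ * g.reverse).reverse = g) ∧
    (Even (orderOf (Fintype.card F : ZMod r)) → C (g.coeff 0)⁻¹ * g.reverse = g) ∧
    (Odd (orderOf (Fintype.card F : ZMod r)) → C (g.coeff 0)⁻¹ * g.reverse ≠ g) := by
  obtain ⟨h1, h2, h3, h4, h5, h6⟩ := first6 r hr.pos g hg hirr hdvd hne
  exact ⟨h1, h2, h3, h4, h5, h6, part7 r hr hrF g hg hirr hdvd,
    part8 r hr hr2 hrF g hg hirr hdvd hne⟩

end Cfsg.Agent.helper6.S2645x
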