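import Mathlib
import Cfsg.Agent.Lib_helper6_S2670x
import Cfsg.Agent.Lib_helper9_S2670x
import Cfsg.Agent.Lib_helper20_S2670x
import Cfsg.Agent.Lib_helper24_S2670x

set_option autoImplicit false
open Polynomial

namespace Cfsg.Agent.helper6.S2670t

/-- A polynomial fixed by a nontrivial `r`-th root of unity and dividing `(X ^ r - c) ^ n`, `c ≠ 0`,
is `(X ^ r - c) ^ (n / r)`. -/
theorem fixed_eq {F : Type*} [Field F] (n r : ℕ) (hr : r.Prime) (μ : F) (hμ : μ ^ r = 1)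
    (hμ1 : μ ≠ 1) (f : F[X]) (hf : f.Monic) (hd : f.natDegree = n) (c : F) (hc0 : c ≠ 0)
    (h : f ∣ (X ^ r - C c) ^ n) (hfix : C (μ ^ n) * f.comp (C μ⁻¹ * X) = f) :
    r ∣ n ∧ f = (X ^ r - C c) ^ (n / r) := by
  have hμ0 : μ ≠ 0 := by
    intro h0
    rw [h0, zero_pow hr.ne_zero] at hμ
    exact zero_ne_one hμ
  by_cases hc : ∃ ν : F, ν ^ r = c
  · obtain ⟨ν, hν⟩ := hc
    have hν0 : ν ≠ 0 := by
      intro h0
      rw [h0, zero_pow hr.ne_zero] at hν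
      exact hc0 hν.symm
    have hνi : ν⁻¹ ≠ 0 := inv_ne_zero hν0
    obtain ⟨hgm, hgd, hgdvd, -, -⟩ := Cfsg.Agent.helper20.S2670x.pieceS2 n r ν⁻¹ hνi f hf hd
    have hg1 := hgdvd c h
    have hone : ν⁻¹ ^ r * c = 1 := by
      rw [← hν, ← mul_pow, inv_mul_cancel₀ hν0, one_pow]
    rw [hone] at hg1
    obtain ⟨hb1, hb2⟩ := Cfsg.Agent.helper9.S2670x.pieceS2b n f
    have hgfix : C (μ ^ n) * (C (ν⁻¹ ^ n) * f.comp (C ν⁻¹⁻¹ * X)).comp (C μ⁻¹ * X) =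
        C (ν⁻¹ ^ n) * f.comp (C ν⁻¹⁻¹ * X) := by
      rw [← hb2 μ ν⁻¹ hμ0 hνi, mul_comm μ ν⁻¹, hb2 ν⁻¹ μ hνi hμ0, hfix]
    obtain ⟨hrn, hg⟩ := Cfsg.Agent.helper24.S2670x.pieceS6 n r hr μ hμ hμ1 _ hgm hgd hg1 hgfix
    refine ⟨hrn, ?_⟩
    have hback : f = C (ν ^ n) * (C (ν⁻¹ ^ n) * f.comp (C ν⁻¹⁻¹ * X)).comp (C ν⁻¹ * X) := by
      rw [← hb2 ν ν⁻¹ hν0 hνi, mul_inv_cancel₀ hν0, hb1]
    obtain ⟨-, -, -, -, hpow⟩ := Cfsg.Agent.helper20.S2670x.pieceS2 n r ν hν0 _ hgm hgd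
    have h5 := hpow 1 (n / r) hg (Nat.mul_div_cancel' hrn)
    rw [← hback, mul_one, hν] at h5
    exact h5
  · push Not at hc
    exact Cfsg.Agent.helper6.S2670x.pieceS4 n r hr c hc f hf hd h

/-- The general count of fixed points. -/
theorem card_fixed {F : Type*} [Field F] (U : F → Prop) (hU : ∀ c, U c → c ≠ 0)
    (n r : ℕ) (hn : 1 ≤ n) (hr : r.Prime) (μ : F) (hμ : μ ^ r = 1) (hμ1 : μ ≠ 1) :
    Nat.card {f : F[X] // (f.Monic ∧ f.natDegree = n ∧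
        (∃ c : F, U c ∧ f ∣ (X ^ r - C c) ^ n) ∧ ¬ ∃ a : F, f = (X - C a) ^ n) ∧
        C (μ ^ n) * f.comp (C μ⁻¹ * X) = f} =
      Nat.card {c : F // U c} * (if r ∣ n then 1 else 0) := by
  have hμ0 : μ ≠ 0 := by
    intro h0
    rw [h0, zero_pow hr.ne_zero] at hμ
    exact zero_ne_one hμ
  by_cases hrn : r ∣ n
  · rw [if_pos hrn, mul_one]
    have hk : r * (n / r) = n := Nat.mul_div_cancel' hrn
    have hkpos : 0 < n / r := by
      rcases Nat.eq_zero_or_pos (n / r) with h0 | h0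
      · rw [h0, mul_zero] at hk; omega
      · exact h0
    symm
    have hmem : ∀ c : F, U c → (((X ^ r - C c : F[X]) ^ (n / r)).Monic ∧
        ((X ^ r - C c : F[X]) ^ (n / r)).natDegree = n ∧
        (∃ c' : F, U c' ∧ ((X ^ r - C c : F[X]) ^ (n / r)) ∣ (X ^ r - C c') ^ n) ∧
        ¬ ∃ a : F, ((X ^ r - C c : F[X]) ^ (n / r)) = (X - C a) ^ n) ∧
        C (μ ^ n) * ((X ^ r - C c : F[X]) ^ (n / r)).comp (C μ⁻¹ * X) =
          (X ^ r - C c : F[X]) ^ (n / r) := by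
      intro c hc
      have hmon : (X ^ r - C c : F[X]).Monic := monic_X_pow_sub_C c hr.ne_zero
      have hdeg : (X ^ r - C c : F[X]).natDegree = r := natDegree_X_pow_sub_C
      have hd' : ((X ^ r - C c : F[X]) ^ (n / r)).natDegree = n := by
        rw [hmon.natDegree_pow, hdeg, mul_comm]; exact hk
      refine ⟨⟨hmon.pow _, hd', ⟨c, hc, pow_dvd_pow _ (Nat.div_le_self n r)⟩, ?_⟩, ?_⟩
      · rintro ⟨a, ha⟩
        have h1 := congrArg (Polynomial.eval a) ha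
        simp only [eval_pow, eval_sub, eval_X, eval_C, sub_self] at h1
        rw [zero_pow (by omega : n ≠ 0)] at h1
        have h2 : a ^ r - c = 0 := pow_eq_zero_iff (hkpos.ne') |>.mp h1
        have hac : a ^ r = c := sub_eq_zero.mp h2
        have ha0 : a ≠ 0 := by
          intro h0
          rw [h0, zero_pow hr.ne_zero] at hac
          exact hU c hc hac.symm
        have h3 := congrArg (Polynomial.eval (a * μ)) ha
        simp only [eval_pow, eval_sub, eval_X, eval_C] at h3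
        rw [mul_pow, hμ, mul_one, hac, sub_self, zero_pow hkpos.ne'] at h3
        have h4 : a * μ - a = 0 := pow_eq_zero_iff (by omega : n ≠ 0) |>.mp h3.symm
        have h5 : a * (μ - 1) = 0 := by rw [mul_sub, mul_one]; exact h4
        rcases mul_eq_zero.mp h5 with h6 | h6
        · exact ha0 h6
        · exact hμ1 (sub_eq_zero.mp h6)
      · have h6 := (Cfsg.Agent.helper20.S2670x.pieceS2 n r μ hμ0 _ (hmon.pow (n / r)) hd').2.2.2.2
          c (n / r) rfl hk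
        rw [h6, hμ, one_mul]
    let Φ : {c : F // U c} → {f : F[X] // (f.Monic ∧ f.natDegree = n ∧
        (∃ c : F, U c ∧ f ∣ (X ^ r - C c) ^ n) ∧ ¬ ∃ a : F, f = (X - C a) ^ n) ∧
        C (μ ^ n) * f.comp (C μ⁻¹ * X) = f} :=
      fun c => ⟨(X ^ r - C (c : F)) ^ (n / r), hmem c.1 c.2⟩
    apply Nat.card_eq_of_bijective Φ
    constructor
    · intro c c' h
      apply Subtype.ext
      have h1 : (X ^ r - C (c : F) : F[X]) ^ (n / r) = (X ^ r - C (c' : F)) ^ (n / r) :=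
        congrArg Subtype.val h
      have hm := hmem c.1 c.2
      refine Cfsg.Agent.helper9.S2670x.pieceS3 n r hn hr.one_le _ hm.1.1 hm.1.2.1 c.1 c'.1
        (pow_dvd_pow _ (Nat.div_le_self n r)) ?_
      rw [h1]
      exact pow_dvd_pow _ (Nat.div_le_self n r)
    · rintro ⟨f, ⟨hf, hd, ⟨c, hc, hdvd⟩, hna⟩, hfix⟩
      refine ⟨⟨c, hc⟩, ?_⟩
      apply Subtype.ext
      exact (fixed_eq n r hr μ hμ hμ1 f hf hd c (hU c hc) hdvd hfix).2.symm
  · rw [if_neg hrn, mul_zero]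
    have : IsEmpty {f : F[X] // (f.Monic ∧ f.natDegree = n ∧
        (∃ c : F, U c ∧ f ∣ (X ^ r - C c) ^ n) ∧ ¬ ∃ a : F, f = (X - C a) ^ n) ∧
        C (μ ^ n) * f.comp (C μ⁻¹ * X) = f} := by
      constructor
      rintro ⟨f, ⟨hf, hd, ⟨c, hc, hdvd⟩, hna⟩, hfix⟩
      exact hrn (fixed_eq n r hr μ hμ hμ1 f hf hd c (hU c hc) hdvd hfix).1
    exact Nat.card_of_isEmpty

/-- PIECE T1 (S2670): fixed points of a nontrivial r-th root of unity -/
theorem pieceT1 {F : Type*} [Field F] [Fintype F] (n r : ℕ) (hn : 1 ≤ n) (hr : r.Prime)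
    (hrq : r ∣ Fintype.card F - 1) (μ : F) (hμ : μ ^ r = 1) (hμ1 : μ ≠ 1) :
    Nat.card {f : F[X] // (f.Monic ∧ f.natDegree = n ∧
        (∃ c : F, c ≠ 0 ∧ f ∣ (X ^ r - C c) ^ n) ∧ ¬ ∃ a : F, f = (X - C a) ^ n) ∧
        C (μ ^ n) * f.comp (C μ⁻¹ * X) = f} =
      (Fintype.card F - 1) * (if r ∣ n then 1 else 0) := by
  classical
  rw [card_fixed (fun c : F => c ≠ 0) (fun c hc => hc) n r hn hr μ hμ hμ1]
  congr 1
  rw [← Fintype.card_units, ← Nat.card_eq_fintype_card]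
  exact Nat.card_congr unitsEquivNeZero.symm

/-- PIECE P4b (S2672): fixed points of a nontrivial `r`-th root of unity. -/
theorem pieceP4b {K : Type*} [Field K] [Fintype K] {q : ℕ} (n r : ℕ) (hn : 2 ≤ n) (hr : r.Prime)
    (hrK : (r : K) ≠ 0)
    (hcardU : Nat.card {c : K // c ^ (q + 1) = 1} = q + 1)
    (μ : K) (hμ : μ ^ r = 1) (hμ1 : μ ≠ 1) :
    Nat.card {f : K[X] // (f.Monic ∧ f.natDegree = n ∧
      (∃ c : K, c ^ (q + 1) = 1 ∧ f ∣ (X ^ r - C c) ^ n) ∧ ¬ ∃ a : K, f = (X - C a) ^ n) ∧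
      C (μ ^ n) * f.comp (C μ⁻¹ * X) = f} = (q + 1) * (if r ∣ n then 1 else 0) := by
  rw [card_fixed (fun c : K => c ^ (q + 1) = 1) ?_ n r (by omega) hr μ hμ hμ1, hcardU]
  intro c hc h0
  rw [h0, zero_pow (Nat.succ_ne_zero q)] at hc
  exact zero_ne_one hc

end Cfsg.Agent.helper6.S2670t
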