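import Mathlib

set_option autoImplicit false

namespace Cfsg.Agent.helper6.S2670z

/-- The final arithmetic of the Burnside count: `m = q - 1 = r * t`, `C` the number of monic divisors
of degree `n` of `(X ^ r - 1) ^ n`, `e = [r ∣ n]`, `N` the number of orbits. -/
theorem burnside_arith (N m r t C e : ℕ) (hr : 0 < r) (ht : 0 < t) (hm : m = r * t)
    (he : e ≤ 1) (hC : r + e ≤ C)
    (h : N * m = t * (C - r) + (m - t) * e + (r - 1) * m * e) :
    N = (C - r - e) / r + r * e := by
  subst hm
  obtain ⟨D, rfl⟩ : ∃ D, C = r + e + D := ⟨C - (r + e), by omega⟩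
  obtain ⟨s, rfl⟩ : ∃ s, r = s + 1 := ⟨r - 1, by omega⟩
  have h1 : s + 1 + e + D - (s + 1) = e + D := by omega
  have h2 : (s + 1) * t - t = s * t := by
    rw [add_mul, one_mul]; omega
  have h3 : s + 1 - 1 = s := by omega
  rw [h1, h2, h3] at h
  have h4 : s + 1 + e + D - (s + 1) - e = D := by omega
  rw [h4]
  -- N * ((s+1) t) = t (e + D) + s t e + s (s+1) t e
  have h5 : t * (N * (s + 1)) = t * (D + (s + 1) * ((s + 1) * e)) := by
    nlinarith [h]
  have h6 : N * (s + 1) = D + (s + 1) * ((s + 1) * e) := Nat.eq_of_mul_eq_mul_left ht h5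
  have h7 : D = (s + 1) * (N - (s + 1) * e) := by
    have : (s + 1) * ((s + 1) * e) ≤ N * (s + 1) := by omega
    have h8 : (s + 1) * e ≤ N := by
      by_contra hcon
      push Not at hcon
      have : N * (s + 1) < (s + 1) * e * (s + 1) := Nat.mul_lt_mul_of_pos_right hcon (by omega)
      nlinarith
    rw [Nat.mul_sub, ]
    have : (s + 1) * N = N * (s + 1) := mul_comm _ _
    omega
  have h8 : (s + 1) * e ≤ N := by
    by_contra hcon
    push Not at hcon
    have : N * (s + 1) < (s + 1) * e * (s + 1) := Nat.mul_lt_mul_of_pos_right hcon (by omega)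
    nlinarith
  rw [h7, Nat.mul_div_cancel_left _ (by omega : 0 < s + 1)]
  omega

end Cfsg.Agent.helper6.S2670z
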