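import Mathlib
import Cfsg.Agent.Lib_helper6_S2645b

set_option autoImplicit false
open Polynomial
open Cfsg.Agent.helper6.S2645x

namespace Cfsg.Agent.helper6.S2671x

theorem reverse_map_inj {K : Type*} [Field K] (σ : K ≃+* K) (p : K[X]) :
    (p.map (σ : K →+* K)).reverse = p.reverse.map (σ : K →+* K) := by
  ext n
  rw [coeff_reverse, coeff_map, coeff_map, coeff_reverse,
    natDegree_map_eq_of_injective (f := (σ : K →+* K)) σ.injective]

theorem rcp_map {K : Type*} [Field K] (σ : K ≃+* K) (p : K[X]) :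
    C ((p.map (σ : K →+* K)).coeff 0)⁻¹ * (p.map (σ : K →+* K)).reverse =
      (C (p.coeff 0)⁻¹ * p.reverse).map (σ : K →+* K) := by
  rw [Polynomial.map_mul, map_C, reverse_map_inj, coeff_map]
  simp

theorem aeval_map_sigma {K L : Type*} [Field K] [Field L] [Algebra K L] (p m q : ℕ)
    (hp : p.Prime) [CharP L p] (hq : q = p ^ m) (σ : K ≃+* K) (hσq : ∀ a, σ a = a ^ q)
    (h : K[X]) (x : L) :
    aeval (x ^ q) (h.map (σ : K →+* K)) = (aeval x h) ^ q := by
  have : ExpChar L p := ExpChar.prime hp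
  have e : (algebraMap K L).comp (σ : K →+* K) =
      (iterateFrobenius L p m).comp (algebraMap K L) := by
    ext a
    simp [iterateFrobenius_def, hσq, hq]
  calc aeval (x ^ q) (h.map (σ : K →+* K))
      = eval₂ (algebraMap K L) (x ^ q) (h.map (σ : K →+* K)) := aeval_def _ _
    _ = eval₂ ((algebraMap K L).comp (σ : K →+* K)) (x ^ q) h := eval₂_map _ _ _
    _ = eval₂ ((iterateFrobenius L p m).comp (algebraMap K L)) (iterateFrobenius L p m x) h := by
        rw [e, iterateFrobenius_def, hq]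
    _ = iterateFrobenius L p m (eval₂ (algebraMap K L) x h) := (hom_eval₂ _ _ _ _).symm
    _ = (aeval x h) ^ q := by rw [iterateFrobenius_def, aeval_def, hq]

theorem pieceBu {K : Type*} [Field K] [Fintype K] {q : ℕ} (hK : Fintype.card K = q ^ 2)
    (σ : K ≃+* K) (hσq : ∀ a, σ a = a ^ q) (r : ℕ) (hr : r.Prime) (hr2 : r ≠ 2)
    (hrK : (r : K) ≠ 0) (g : K[X]) (hg : g.Monic) (hirr : Irreducible g)
    (hdvd : g ∣ X ^ r - 1) (hne : g ≠ X - 1) :
    g.coeff 0 ≠ 0 ∧ ((C (g.coeff 0)⁻¹ * g.reverse).map (σ : K →+* K)).Monic ∧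
    Irreducible ((C (g.coeff 0)⁻¹ * g.reverse).map (σ : K →+* K)) ∧
    ((C (g.coeff 0)⁻¹ * g.reverse).map (σ : K →+* K)) ∣ X ^ r - 1 ∧
    ((C (g.coeff 0)⁻¹ * g.reverse).map (σ : K →+* K)) ≠ X - 1 ∧
    ((C (((C (g.coeff 0)⁻¹ * g.reverse).map (σ : K →+* K)).coeff 0)⁻¹ *
      ((C (g.coeff 0)⁻¹ * g.reverse).map (σ : K →+* K)).reverse).map (σ : K →+* K) = g) ∧
    (orderOf (q : ZMod r) % 4 = 2 → (C (g.coeff 0)⁻¹ * g.reverse).map (σ : K →+* K) = g) ∧
    (orderOf (q : ZMod r) % 4 ≠ 2 → (C (g.coeff 0)⁻¹ * g.reverse).map (σ : K →+* K) ≠ g) := by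
  obtain ⟨h1, h2, h3, h4, h5, h6⟩ := first6 r hr.pos g hg hirr hdvd hne
  set g' := C (g.coeff 0)⁻¹ * g.reverse with hg'
  have hmapX : (X ^ r - 1 : K[X]).map (σ : K →+* K) = X ^ r - 1 := by simp
  have hmapX1 : (X - 1 : K[X]).map (σ : K →+* K) = X - 1 := by simp
  have hσσ : ∀ a, σ (σ a) = a := by
    intro a
    rw [hσq, hσq, ← pow_mul, ← pow_two, ← hK, FiniteField.pow_card]
  have hirr' : Irreducible (g'.map (σ : K →+* K)) := by
    have := (MulEquiv.irreducible_iff (Polynomial.mapEquiv σ) (x := g')).2 h3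
    simpa [Polynomial.mapEquiv] using this
  have hmon' : (g'.map (σ : K →+* K)).Monic := h2.map _
  -- characteristic data
  obtain ⟨p, hpc⟩ := CharP.exists K
  obtain ⟨n, hpp, hcard⟩ := FiniteField.card K p
  have hqdvd : q ∣ p ^ (n : ℕ) := by
    rw [← hcard, hK]; exact dvd_pow_self q two_ne_zero
  obtain ⟨m, -, hqm⟩ := (Nat.dvd_prime_pow hpp).1 hqdvd
  have hqpos : 0 < q := by rw [hqm]; exact pow_pos hpp.pos m
  -- the extension field
  have hFact : Fact (Irreducible g) := ⟨hirr⟩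
  have hCharL : CharP (AdjoinRoot g) p :=
    charP_of_injective_algebraMap (algebraMap K (AdjoinRoot g)).injective p
  set ζ : AdjoinRoot g := AdjoinRoot.root g with hζdef
  have hroot : ∀ f : K[X], aeval ζ f = 0 ↔ g ∣ f := fun f => by
    rw [hζdef, AdjoinRoot.aeval_eq, AdjoinRoot.mk_eq_zero]
  have hζg : aeval ζ g = 0 := (hroot g).2 dvd_rfl
  have hζr : ζ ^ r = 1 := by
    have := (hroot (X ^ r - 1)).2 hdvd
    simpa [sub_eq_zero] using this
  have hζ0 : ζ ≠ 0 := by
    intro h
    rw [h, zero_pow hr.pos.ne'] at hζr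
    exact zero_ne_one hζr
  have hm1 : (X - 1 : K[X]).Monic := by simpa using monic_X_sub_C (1 : K)
  have hd1 : (X - 1 : K[X]).natDegree = 1 := by simpa using natDegree_X_sub_C (1 : K)
  have hζ1 : ζ ≠ 1 := by
    intro h
    have : aeval ζ (X - 1 : K[X]) = 0 := by simp [h]
    have hd := (hroot _).1 this
    exact hne (eq_of_monic_of_dvd_of_natDegree_le hg hm1 hd
      (by rw [hd1]; exact hirr.natDegree_pos)).symm
  have hrFact : Fact r.Prime := ⟨hr⟩
  have hordζ : orderOf ζ = r := orderOf_eq_prime hζr hζ1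
  -- tau maps roots of g to roots of rho g
  have hτ : ∀ x : AdjoinRoot g, aeval x g = 0 → x ≠ 0 →
      aeval ((x⁻¹) ^ q) (g'.map (σ : K →+* K)) = 0 := by
    intro x hx hx0
    rw [aeval_map_sigma p m q hpp hqm σ hσq g' x⁻¹, hg', rcp_root g x hx0 hx,
      zero_pow hqpos.ne']
  -- ZMod data
  set a : ZMod r := (q : ZMod r) with ha
  have hcast : ((Fintype.card K : ℕ) : ZMod r) = a ^ 2 := by rw [hK]; push_cast; rfl
  have ha0 : a ≠ 0 := by
    intro h
    have := card_cast_ne_zero r hr hrK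
    rw [hcast, h] at this
    exact this (by simp)
  have hpos : 0 < orderOf a := by
    have h1 : a ^ (r - 1) = 1 := ZMod.pow_card_sub_one_eq_one ha0
    have h2 : orderOf a ∣ r - 1 := orderOf_dvd_of_pow_eq_one h1
    exact Nat.pos_of_dvd_of_pos h2 (Nat.sub_pos_of_lt hr.one_lt)
  have hord2 : orderOf ((Fintype.card K : ℕ) : ZMod r) =
      orderOf a / Nat.gcd (orderOf a) 2 := by
    rw [hcast, orderOf_pow' a two_ne_zero]
  refine ⟨h1, hmon', hirr', ?_, ?_, ?_, ?_, ?_⟩
  · have := Polynomial.map_dvd (σ : K →+* K) h4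
    rwa [hmapX] at this
  · intro e
    have h7 : g'.map (σ : K →+* K) = (X - 1 : K[X]).map (σ : K →+* K) := e.trans hmapX1.symm
    exact h5 (Polynomial.map_injective _ σ.injective h7)
  · rw [rcp_map σ g', h6, Polynomial.map_map]
    have : (σ : K →+* K).comp (σ : K →+* K) = RingHom.id K := by
      ext x; simp [hσσ]
    rw [this, Polynomial.map_id]
  · -- i % 4 = 2
    intro h42
    obtain ⟨j, hj⟩ : ∃ j, orderOf a = j + j := ⟨orderOf a / 2, by omega⟩
    have hjodd : j % 2 = 1 := by omega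
    have hjpos : 0 < j := by omega
    have hsq : a ^ j * a ^ j = 1 := by rw [← pow_add, ← hj, pow_orderOf_eq_one]
    have hne1 : a ^ j ≠ 1 := by
      intro h
      have := orderOf_le_of_pow_eq_one hjpos h
      omega
    have hm1' : a ^ j = -1 := (mul_self_eq_one_iff.1 hsq).resolve_left hne1
    obtain ⟨k, hk⟩ : ∃ k, j + 1 = 2 * k := ⟨(j + 1) / 2, by omega⟩
    have hdiv : r ∣ (q ^ 2) ^ k + q := by
      rw [← ZMod.natCast_eq_zero_iff]
      push_cast
      rw [← ha, ← pow_mul, ← hk, pow_succ, hm1']; ring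
    obtain ⟨w, hw⟩ := hdiv
    have hy : ζ ^ (q ^ 2) ^ k = (ζ⁻¹) ^ q := by
      rw [inv_pow]
      apply eq_inv_of_mul_eq_one_left
      rw [← pow_add, hw, pow_mul, hζr, one_pow]
    have hy1 : aeval ((ζ⁻¹) ^ q) g = 0 := by
      rw [← hy, ← hK]; exact aeval_pow_card g ζ hζg k
    have hy2 := hτ ζ hζg hζ0
    have e1 : g = minpoly K ((ζ⁻¹) ^ q) := minpoly.eq_of_irreducible_of_monic hirr hy1 hg
    have e2 : g'.map (σ : K →+* K) = minpoly K ((ζ⁻¹) ^ q) :=
      minpoly.eq_of_irreducible_of_monic hirr' hy2 hmon'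
    rw [e2, ← e1]
  · -- i % 4 ≠ 2
    intro h42 hself
    have hτ' : ∀ x : AdjoinRoot g, aeval x g = 0 → x ≠ 0 → aeval ((x⁻¹) ^ q) g = 0 := by
      intro x hx hx0
      have := hτ x hx hx0
      rwa [hself] at this
    rcases Nat.even_or_odd (orderOf a) with hev | hodd
    · -- i % 4 = 0
      obtain ⟨j, hj⟩ := hev
      have hj2 : j % 2 = 0 := by omega
      have hgcd : Nat.gcd (orderOf a) 2 = 2 := by
        rw [hj]; exact Nat.gcd_eq_right ⟨j, by ring⟩
      have hd : orderOf ((Fintype.card K : ℕ) : ZMod r) = j := by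
        rw [hord2, hgcd, hj]; omega
      have hrec : g' = g := by
        apply part7 r hr hrK g hg hirr hdvd
        rw [hd]; exact Nat.even_iff.2 hj2
      have hψ : ∀ x : AdjoinRoot g, aeval x g = 0 → aeval (x ^ q) g = 0 := by
        intro x hx
        have hgσ : g.map (σ : K →+* K) = g := by
          conv_lhs => rw [← hrec]
          exact hself
        have := aeval_map_sigma p m q hpp hqm σ hσq g x
        rw [hx, zero_pow hqpos.ne', hgσ] at this
        exact this
      have hall : ∀ t : ℕ, aeval (ζ ^ q ^ t) g = 0 := by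
        intro t
        induction t with
        | zero => simpa using hζg
        | succ t ih =>
          rw [pow_succ, pow_mul]; exact hψ _ ih
      classical
      have hinj : Set.InjOn (fun t : ℕ => ζ ^ q ^ t) (Finset.range (orderOf a) : Set ℕ) := by
        intro t ht t' ht' htt
        simp only [Finset.coe_range, Set.mem_Iio] at ht ht'
        have htt' : ζ ^ q ^ t = ζ ^ q ^ t' := htt
        have h1 : q ^ t ≡ q ^ t' [MOD r] := by
          have hfin : IsOfFinOrder ζ := isOfFinOrder_iff_pow_eq_one.2 ⟨r, hr.pos, hζr⟩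
          rw [← hordζ]; exact hfin.pow_eq_pow_iff_modEq.1 htt'
        have h2 : a ^ t = a ^ t' := by
          have := (ZMod.natCast_eq_natCast_iff _ _ _).2 h1
          push_cast at this
          exact this
        exact pow_injOn_Iio_orderOf ht ht' h2
      have hcardZ : ((Finset.range (orderOf a)).image (fun t : ℕ => ζ ^ q ^ t)).card =
          orderOf a := by
        rw [Finset.card_image_of_injOn hinj, Finset.card_range]
      have hne0 : g.map (algebraMap K (AdjoinRoot g)) ≠ 0 := (hg.map _).ne_zero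
      have hsub : ((Finset.range (orderOf a)).image (fun t : ℕ => ζ ^ q ^ t)).val ⊆
          (g.map (algebraMap K (AdjoinRoot g))).roots := by
        intro y hy
        rw [Finset.mem_val, Finset.mem_image] at hy
        obtain ⟨t, -, rfl⟩ := hy
        rw [mem_roots hne0, IsRoot.def, eval_map_algebraMap]
        exact hall t
      have hle := card_le_degree_of_subset_roots hsub
      rw [hcardZ, natDegree_map, natDegree_eq_orderOf r hr hrK g hg hirr hdvd hne, hd] at hle
      omega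
    · -- i odd
      obtain ⟨k, hk⟩ := hodd
      have hgcd : Nat.gcd (orderOf a) 2 = 1 := by
        rw [hk]; simp
      have hd : orderOf ((Fintype.card K : ℕ) : ZMod r) = orderOf a := by
        rw [hord2, hgcd, Nat.div_one]
      have hy0 : aeval (ζ ^ (q ^ 2) ^ k) g = 0 := by
        rw [← hK]; exact aeval_pow_card g ζ hζg k
      have hyne : ζ ^ (q ^ 2) ^ k ≠ 0 := pow_ne_zero _ hζ0
      have h3' := hτ' _ hy0 hyne
      have hmod : ((q ^ (2 * k + 1) : ℕ) : ZMod r) = ((1 : ℕ) : ZMod r) := by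
        push_cast
        rw [← ha, ← hk, pow_orderOf_eq_one]
      have hmod' : q ^ (2 * k + 1) ≡ 1 [MOD r] := (ZMod.natCast_eq_natCast_iff _ _ _).1 hmod
      have hge : 1 ≤ q ^ (2 * k + 1) := Nat.one_le_pow _ _ hqpos
      obtain ⟨w, hw⟩ := (Nat.modEq_iff_dvd' hge).1 hmod'.symm
      have hqi : q ^ (2 * k + 1) = 1 + r * w := by omega
      have hinvr : (ζ⁻¹) ^ r = 1 := by rw [inv_pow, hζr, inv_one]
      have hτy : ((ζ ^ (q ^ 2) ^ k)⁻¹) ^ q = ζ⁻¹ := by
        rw [← inv_pow, ← pow_mul, ← pow_mul, ← pow_succ, hqi, pow_add, pow_one, pow_mul, hinvr,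
          one_pow, mul_one]
      rw [hτy] at h3'
      have hrec : g' = g := rcp_eq_self_of_roots g hg hirr h1 ζ hζ0 hζg h3'
      exact part8 r hr hr2 hrK g hg hirr hdvd hne (by rw [hd]; exact ⟨k, hk⟩) hrec

end Cfsg.Agent.helper6.S2671x
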