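import Mathlib
import Cfsg.Agent.Lib_helper6_S2670x
import Cfsg.Agent.Lib_helper6_S2670z
import Cfsg.Agent.Lib_helper9_S2670x
import Cfsg.Agent.Lib_helper20_S2670x

set_option autoImplicit false
open Polynomial

namespace Cfsg.Agent.helper6.S2672x

/-- PIECE P6: final arithmetic. -/
theorem pieceP6 (N m r Ch e Q : ℕ) (hm : 0 < m) (hr : 2 ≤ r) (he : e ≤ 1) (hC : r + e ≤ Ch)
    (hQ : m * r = Q)
    (h : N * Q = (m * (Ch - r) + (Q - m) * e) + (r - 1) * (Q * e)) :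
    N = (Ch - r - e) / r + r * e := by
  refine Cfsg.Agent.helper6.S2670z.burnside_arith N Q r m Ch e (by omega) hm
    (by rw [← hQ, mul_comm]) he hC ?_
  rw [h, mul_assoc]

/-- PIECE P4c: no fixed points when `μ ^ r ≠ 1`. -/
theorem pieceP4c {K : Type*} [Field K] {q : ℕ} (n r : ℕ) (hn : 1 ≤ n) (hr : 1 ≤ r)
    (μ : K) (hμ0 : μ ≠ 0) (hμ : μ ^ r ≠ 1) (f : K[X]) (hf : f.Monic) (hd : f.natDegree = n)
    (c : K) (hc : c ^ (q + 1) = 1) (h : f ∣ (X ^ r - C c) ^ n)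
    (hfix : C (μ ^ n) * f.comp (C μ⁻¹ * X) = f) : False := by
  have h2 := (Cfsg.Agent.helper20.S2670x.pieceS2 n r μ hμ0 f hf hd).2.2.1 c h
  rw [hfix] at h2
  have h3 : c = μ ^ r * c := Cfsg.Agent.helper9.S2670x.pieceS3 n r hn hr f hf hd c (μ ^ r * c) h h2
  have hc0 : c ≠ 0 := by
    intro h0
    rw [h0, zero_pow (Nat.succ_ne_zero q)] at hc
    exact zero_ne_one hc
  apply hμ
  have h4 : (μ ^ r - 1) * c = 0 := by
    rw [sub_mul, one_mul, ← h3, sub_self]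
  rcases mul_eq_zero.mp h4 with h5 | h5
  · exact sub_eq_zero.mp h5
  · exact absurd h5 hc0

/-- PIECE P4a2: the count for `c` not an `r`-th power. -/
theorem pieceP4a2 {K : Type*} [Field K] [Fintype K] (n r : ℕ) (hn : 2 ≤ n) (hr : r.Prime)
    (c : K) (hc : ∀ b : K, b ^ r ≠ c) :
    Nat.card {f : K[X] // f.Monic ∧ f.natDegree = n ∧ f ∣ (X ^ r - C c) ^ n ∧
      ¬ ∃ a : K, f = (X - C a) ^ n} = if r ∣ n then 1 else 0 := by
  have hmon : (X ^ r - C c : K[X]).Monic := monic_X_pow_sub_C c hr.ne_zero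
  have hdeg : (X ^ r - C c : K[X]).natDegree = r := natDegree_X_pow_sub_C
  by_cases hrn : r ∣ n
  · rw [if_pos hrn]
    have hk : r * (n / r) = n := Nat.mul_div_cancel' hrn
    have hkpos : 0 < n / r := by
      rcases Nat.eq_zero_or_pos (n / r) with h0 | h0
      · rw [h0, mul_zero] at hk; omega
      · exact h0
    have hmem : ((X ^ r - C c : K[X]) ^ (n / r)).Monic ∧
        ((X ^ r - C c : K[X]) ^ (n / r)).natDegree = n ∧
        ((X ^ r - C c : K[X]) ^ (n / r)) ∣ (X ^ r - C c) ^ n ∧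
        ¬ ∃ a : K, ((X ^ r - C c : K[X]) ^ (n / r)) = (X - C a) ^ n := by
      refine ⟨hmon.pow _, ?_, pow_dvd_pow _ (Nat.div_le_self n r), ?_⟩
      · rw [hmon.natDegree_pow, hdeg, mul_comm]; exact hk
      · rintro ⟨a, ha⟩
        have h1 := congrArg (Polynomial.eval a) ha
        simp only [eval_pow, eval_sub, eval_X, eval_C, sub_self] at h1
        rw [zero_pow (by omega : n ≠ 0)] at h1
        have h2 : a ^ r - c = 0 := pow_eq_zero_iff (hkpos.ne') |>.mp h1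
        exact hc a (sub_eq_zero.mp h2)
    have huniq : ∀ x : {f : K[X] // f.Monic ∧ f.natDegree = n ∧ f ∣ (X ^ r - C c) ^ n ∧
        ¬ ∃ a : K, f = (X - C a) ^ n}, x = ⟨(X ^ r - C c) ^ (n / r), hmem⟩ := by
      rintro ⟨f, hf, hd, hdvd, -⟩
      apply Subtype.ext
      exact (Cfsg.Agent.helper6.S2670x.pieceS4 n r hr c hc f hf hd hdvd).2
    have : Unique {f : K[X] // f.Monic ∧ f.natDegree = n ∧ f ∣ (X ^ r - C c) ^ n ∧
        ¬ ∃ a : K, f = (X - C a) ^ n} := ⟨⟨⟨(X ^ r - C c) ^ (n / r), hmem⟩⟩, huniq⟩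
    exact Nat.card_unique
  · rw [if_neg hrn]
    have : IsEmpty {f : K[X] // f.Monic ∧ f.natDegree = n ∧ f ∣ (X ^ r - C c) ^ n ∧
        ¬ ∃ a : K, f = (X - C a) ^ n} := by
      constructor
      rintro ⟨f, hf, hd, hdvd, -⟩
      exact hrn (Cfsg.Agent.helper6.S2670x.pieceS4 n r hr c hc f hf hd hdvd).1
    exact Nat.card_of_isEmpty

end Cfsg.Agent.helper6.S2672x
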