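import Mathlib
import Cfsg.Agent.Lib_helper9_S2670x

set_option autoImplicit false
open Polynomial

namespace Cfsg.Agent.helper6.S2672y

/-- PIECE P5: the Burnside sum over the norm-one scalars. -/
theorem pieceP5 {K : Type*} [Field K] [Fintype K] {q r : ℕ} (T E : ℕ)
    (hsub : ∀ μ : K, μ ^ r = 1 → μ ^ (q + 1) = 1)
    (hcard : Nat.card {μ : K // μ ^ r = 1 ∧ μ ≠ 1} = r - 1)
    (Fx : {μ : K // μ ^ (q + 1) = 1} → ℕ)
    (h1 : ∀ μ : {μ : K // μ ^ (q + 1) = 1}, (μ : K) = 1 → Fx μ = T)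
    (h2 : ∀ μ : {μ : K // μ ^ (q + 1) = 1}, (μ : K) ^ r = 1 → (μ : K) ≠ 1 → Fx μ = E)
    (h3 : ∀ μ : {μ : K // μ ^ (q + 1) = 1}, (μ : K) ^ r ≠ 1 → Fx μ = 0) :
    ∑ᶠ μ, Fx μ = T + (r - 1) * E := by
  classical
  have : Fintype {μ : K // μ ^ (q + 1) = 1} := Fintype.ofFinite _
  rw [finsum_eq_sum_of_fintype]
  have hpt : ∀ μ : {μ : K // μ ^ (q + 1) = 1}, Fx μ =
      (if (μ : K) = 1 then T else 0) + (if ((μ : K) ^ r = 1 ∧ (μ : K) ≠ 1) then E else 0) := by
    intro μ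
    by_cases hμ1 : (μ : K) = 1
    · rw [if_pos hμ1, if_neg (fun h => h.2 hμ1), add_zero]
      exact h1 μ hμ1
    · rw [if_neg hμ1, zero_add]
      by_cases hμr : (μ : K) ^ r = 1
      · rw [if_pos ⟨hμr, hμ1⟩]
        exact h2 μ hμr hμ1
      · rw [if_neg (fun h => hμr h.1)]
        exact h3 μ hμr
  rw [Finset.sum_congr rfl (fun μ _ => hpt μ), Finset.sum_add_distrib]
  have hone : (Finset.univ.filter (fun μ : {μ : K // μ ^ (q + 1) = 1} => (μ : K) = 1)).card = 1 := by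
    rw [Finset.card_eq_one]
    refine ⟨⟨1, one_pow _⟩, ?_⟩
    ext μ
    simp only [Finset.mem_filter, Finset.mem_univ, true_and, Finset.mem_singleton]
    constructor
    · intro h
      exact Subtype.ext h
    · intro h
      rw [h]
  have hroots : (Finset.univ.filter (fun μ : {μ : K // μ ^ (q + 1) = 1} =>
      (μ : K) ^ r = 1 ∧ (μ : K) ≠ 1)).card = r - 1 := by
    rw [← hcard, ← Fintype.card_subtype, ← Nat.card_eq_fintype_card]
    apply Nat.card_congr
    exact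
      { toFun := fun x => ⟨x.1.1, x.2⟩
        invFun := fun y => ⟨⟨y.1, hsub y.1 y.2.1⟩, y.2⟩
        left_inv := fun x => rfl
        right_inv := fun y => rfl }
  rw [Finset.sum_ite, Finset.sum_const, Finset.sum_const_zero, add_zero, smul_eq_mul, hone, one_mul,
    Finset.sum_ite, Finset.sum_const, Finset.sum_const_zero, add_zero, smul_eq_mul, hroots]

theorem finite_polys {K : Type*} [Field K] [Fintype K] (n : ℕ) (p : K[X] → Prop) :
    Finite {f : K[X] // f.natDegree = n ∧ p f} := by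
  have hfin : Finite ↥(degreeLT K (n + 1)) :=
    Finite.of_equiv _ (degreeLTEquiv K (n + 1)).symm.toEquiv
  refine Finite.of_injective
    (fun f : {f : K[X] // f.natDegree = n ∧ p f} =>
      (⟨f.1, by
        rw [mem_degreeLT]
        refine lt_of_le_of_lt degree_le_natDegree ?_
        rw [f.2.1]
        exact_mod_cast Nat.lt_succ_self n⟩ : ↥(degreeLT K (n + 1)))) ?_
  intro f g h
  apply Subtype.ext
  have h' := congrArg Subtype.val h
  exact h'

/-- PIECE P4a4: total size of `P` from the fibre sizes (uses S2670 pieceS3 for disjointness). -/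
theorem pieceP4a4 {K : Type*} [Field K] [Fintype K] {q : ℕ} (n r : ℕ) (hn : 2 ≤ n) (hr : r.Prime)
    (A B m : ℕ)
    (hcardU : Nat.card {c : K // c ^ (q + 1) = 1} = q + 1)
    (hcardP : Nat.card {c : K // c ^ (q + 1) = 1 ∧ ∃ b : K, b ^ r = c} = m)
    (h1 : ∀ c : K, c ^ (q + 1) = 1 → (∃ b : K, b ^ r = c) →
      Nat.card {f : K[X] // f.Monic ∧ f.natDegree = n ∧ f ∣ (X ^ r - C c) ^ n ∧
        ¬ ∃ a : K, f = (X - C a) ^ n} = A)
    (h2 : ∀ c : K, c ^ (q + 1) = 1 → (¬ ∃ b : K, b ^ r = c) →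
      Nat.card {f : K[X] // f.Monic ∧ f.natDegree = n ∧ f ∣ (X ^ r - C c) ^ n ∧
        ¬ ∃ a : K, f = (X - C a) ^ n} = B) :
    Nat.card {f : K[X] // f.Monic ∧ f.natDegree = n ∧
      (∃ c : K, c ^ (q + 1) = 1 ∧ f ∣ (X ^ r - C c) ^ n) ∧ ¬ ∃ a : K, f = (X - C a) ^ n} =
      m * A + (q + 1 - m) * B := by
  classical
  have : Fintype {c : K // c ^ (q + 1) = 1} := Fintype.ofFinite _
  let Pc : {c : K // c ^ (q + 1) = 1} → Type _ := fun c =>
    {f : K[X] // f.Monic ∧ f.natDegree = n ∧ f ∣ (X ^ r - C (c : K)) ^ n ∧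
        ¬ ∃ a : K, f = (X - C a) ^ n}
  have hfin : ∀ c, Finite (Pc c) := by
    intro c
    have h0 := finite_polys (K := K) n (fun f => f.Monic ∧ f ∣ (X ^ r - C (c : K)) ^ n ∧
        ¬ ∃ a : K, f = (X - C a) ^ n)
    refine Finite.of_injective (fun f : Pc c =>
      (⟨f.1, f.2.2.1, f.2.1, f.2.2.2⟩ : {f : K[X] // f.natDegree = n ∧ (f.Monic ∧
        f ∣ (X ^ r - C (c : K)) ^ n ∧ ¬ ∃ a : K, f = (X - C a) ^ n)})) ?_
    intro f g h
    apply Subtype.ext
    have h' := congrArg Subtype.val h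
    exact h'
  let Φ : (Σ c, Pc c) → {f : K[X] // f.Monic ∧ f.natDegree = n ∧
      (∃ c : K, c ^ (q + 1) = 1 ∧ f ∣ (X ^ r - C c) ^ n) ∧ ¬ ∃ a : K, f = (X - C a) ^ n} :=
    fun x => ⟨x.2.1, x.2.2.1, x.2.2.2.1, ⟨x.1.1, x.1.2, x.2.2.2.2.1⟩, x.2.2.2.2.2⟩
  have hΦ : Function.Bijective Φ := by
    constructor
    · rintro ⟨c, f⟩ ⟨c', f'⟩ h
      have hff : f.1 = f'.1 := congrArg Subtype.val h
      have hcc : c = c' := by
        apply Subtype.ext
        refine Cfsg.Agent.helper9.S2670x.pieceS3 n r (by omega) hr.one_le f.1 f.2.1 f.2.2.1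
          c.1 c'.1 f.2.2.2.1 ?_
        rw [hff]
        exact f'.2.2.2.1
      subst hcc
      have : f = f' := Subtype.ext hff
      rw [this]
    · rintro ⟨f, hf, hd, ⟨c, hc, hdvd⟩, hna⟩
      exact ⟨⟨⟨c, hc⟩, ⟨f, hf, hd, hdvd, hna⟩⟩, rfl⟩
  rw [← Nat.card_eq_of_bijective Φ hΦ, Nat.card_sigma]
  have hpt : ∀ c : {c : K // c ^ (q + 1) = 1}, Nat.card (Pc c) =
      if (∃ b : K, b ^ r = (c : K)) then A else B := by
    intro c
    by_cases hb : ∃ b : K, b ^ r = (c : K)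
    · rw [if_pos hb]
      exact h1 c.1 c.2 hb
    · rw [if_neg hb]
      exact h2 c.1 c.2 hb
  rw [Finset.sum_congr rfl (fun c _ => hpt c), Finset.sum_ite, Finset.sum_const, Finset.sum_const,
    smul_eq_mul, smul_eq_mul]
  have hm : (Finset.univ.filter (fun c : {c : K // c ^ (q + 1) = 1} =>
      ∃ b : K, b ^ r = (c : K))).card = m := by
    rw [← hcardP, ← Fintype.card_subtype, ← Nat.card_eq_fintype_card]
    apply Nat.card_congr
    exact Equiv.subtypeSubtypeEquivSubtypeInter (fun c : K => c ^ (q + 1) = 1)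
      (fun c : K => ∃ b : K, b ^ r = c)
  have htot := Finset.card_filter_add_card_filter_not (s := (Finset.univ :
      Finset {c : K // c ^ (q + 1) = 1})) (fun c : {c : K // c ^ (q + 1) = 1} =>
      ∃ b : K, b ^ r = (c : K))
  rw [Finset.card_univ, ← Nat.card_eq_fintype_card, hcardU, hm] at htot
  rw [hm]
  have : (Finset.univ.filter (fun c : {c : K // c ^ (q + 1) = 1} =>
      ¬ ∃ b : K, b ^ r = (c : K))).card = q + 1 - m := by omega
  rw [this]

end Cfsg.Agent.helper6.S2672y
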