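import Mathlib
import Cfsg.Agent.Lib_helper24_CharQuot
import Cfsg.Agent.Lib_helper12_CharOps
import Cfsg.Agent.Lib_helper23_LinChar

set_option autoImplicit false

universe u

namespace Cfsg.Agent.helper6.S4885y

open Cfsg
open scoped ComplexConjugate commutatorElement

variable {G : Type u} [Group G]

/-- The regular character of `G ⧸ V`, inflated to `G`. -/
theorem sum_ker_deg_mul [Finite G] [Fintype (IrrCharacter G)] (V : Subgroup G) [V.Normal]
    [DecidablePred (fun χ : IrrCharacter G => ∀ n ∈ V, (χ : G → ℂ) n = (χ : G → ℂ) 1)]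
    [DecidablePred (fun g : G => g ∈ V)] (g : G) :
    ∑ χ ∈ Finset.univ.filter (fun χ : IrrCharacter G => ∀ n ∈ V, (χ : G → ℂ) n = (χ : G → ℂ) 1),
      (χ : G → ℂ) 1 * (χ : G → ℂ) g = if g ∈ V then (V.index : ℂ) else 0 := by
  have := Fintype.ofFinite (IrrCharacter (G ⧸ V))
  have h1 := helper24.irr_column_orthogonality (G := G ⧸ V) (QuotientGroup.mk g : G ⧸ V) 1
  rw [Finset.sum_subtype (p := fun χ : IrrCharacter G =>
      ∀ n ∈ V, (χ : G → ℂ) n = (χ : G → ℂ) 1) _ (fun χ => by simp)]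
  have h2 : ∑ ψ : IrrCharacter (G ⧸ V), (ψ : G ⧸ V → ℂ) (QuotientGroup.mk g : G ⧸ V) *
        conj ((ψ : G ⧸ V → ℂ) 1) =
      ∑ χ : {χ : IrrCharacter G // ∀ n ∈ V, (χ : G → ℂ) n = (χ : G → ℂ) 1},
        ((χ : IrrCharacter G) : G → ℂ) 1 * ((χ : IrrCharacter G) : G → ℂ) g := by
    refine Fintype.sum_equiv (helper24.inflEquiv V) _ _ (fun ψ => ?_)
    rw [helper24.inflEquiv_apply, helper24.inflEquiv_apply]
    obtain ⟨n, -, hn⟩ := helper24.irr_apply_one ψ.2
    rw [QuotientGroup.mk_one, hn, Complex.conj_natCast, mul_comm]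
  rw [← h2, h1]
  have h3 : IsConj (QuotientGroup.mk g : G ⧸ V) 1 ↔ g ∈ V := by
    rw [isConj_one_left, QuotientGroup.eq_one_iff]
  by_cases hg : g ∈ V
  · rw [if_pos hg, if_pos (h3.mpr hg)]
    have : Subgroup.centralizer ({1} : Set (G ⧸ V)) = ⊤ := by
      ext y
      simp [Subgroup.mem_centralizer_iff]
    rw [this, Subgroup.card_top]
    rfl
  · rw [if_neg hg, if_neg (fun h => hg (h3.mp h))]

/-- An element in the kernel of a character can be cancelled. -/
theorem irr_mul_of_eq_one [Finite G] {χ : G → ℂ} (hχ : IsIrrCharacter G χ) {x : G}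
    (hx : χ x = χ 1) (y : G) : χ (x * y) = χ y := by
  obtain ⟨n, ρ, -, rfl⟩ := hχ
  have h1 : ρ.character x = n := by
    rw [hx]; simp
  have h2 : ρ x = 1 := (helper24.rep_char_eq_degree_iff ρ x).mp h1
  simp [Representation.character, map_mul, h2]

/-- A Sylow `p`-subgroup meets a normal `p'`-subgroup trivially. -/
theorem eq_one_of_mem_sylow_of_mem [Finite G] (p : ℕ) [Fact p.Prime] (V : Subgroup G)
    (hV : (Nat.card V).Coprime p) (P : Sylow p G) {y : G} (hyP : y ∈ (P : Subgroup G))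
    (hyV : y ∈ V) : y = 1 := by
  obtain ⟨k, hk⟩ := P.isPGroup' ⟨y, hyP⟩
  have hk' : y ^ p ^ k = 1 := by
    have := congrArg Subtype.val hk
    simpa using this
  have h1 : orderOf y ∣ p ^ k := orderOf_dvd_of_pow_eq_one hk'
  have h2 : orderOf y ∣ Nat.card V := Subgroup.orderOf_dvd_natCard V hyV
  have h3 : (orderOf y).Coprime (p ^ k) :=
    Nat.Coprime.pow_right k (Nat.Coprime.coprime_dvd_left h2 hV)
  have h4 : orderOf y = 1 := Nat.Coprime.eq_one_of_dvd h3 h1
  exact orderOf_eq_one_iff.mp h4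

/-- PIECE X. -/
theorem pieceX {G : Type u} [Group G] [Finite G] (p : ℕ) [Fact p.Prime] (V : Subgroup G) [V.Normal]
    (hV : (Nat.card V).Coprime p) (P : Sylow p G) (x : G) (hxP : x ∈ (P : Subgroup G))
    (hx : ∀ χ : Cfsg.IrrCharacter G, (∀ n ∈ V, (χ : G → ℂ) n = (χ : G → ℂ) 1) →
      ¬ p ∣ Cfsg.charDegree (χ : G → ℂ) → (χ : G → ℂ) x = (χ : G → ℂ) 1) :
    x ∈ ⁅(P : Subgroup G), (P : Subgroup G)⁆ := by
  classical
  have := Fintype.ofFinite G
  have := Fintype.ofFinite (IrrCharacter G)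
  have := Fintype.ofFinite (↥(P : Subgroup G))
  set x' : ↥(P : Subgroup G) := ⟨x, hxP⟩ with hx'
  have hcP : (Nat.card ↥(P : Subgroup G) : ℂ) ≠ 0 := by
    have : 0 < Nat.card ↥(P : Subgroup G) := Nat.card_pos
    exact_mod_cast this.ne'
  have key : ∀ lam : ↥(P : Subgroup G) →* ℂˣ, lam x' = 1 := by
    intro lam
    set Λ : ↥(P : Subgroup G) → ℂ := fun y => ((lam y : ℂˣ) : ℂ) with hΛ
    have hΛirr : IsIrrCharacter ↥(P : Subgroup G) Λ := helper23.isIrrCharacter_of_hom lam
    have hm : ∀ χ : IrrCharacter G, ∃ m : ℕ,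
        classInner (fun y : ↥(P : Subgroup G) => (χ : G → ℂ) (y : G)) Λ = m := fun χ =>
      helper12.classInner_char_nat
        (helper12.isCharacter_restrict (P : Subgroup G) (helper24.irr_isCharacter χ.2))
        (helper24.irr_isCharacter hΛirr)
    choose m hm using hm
    set X : Finset (IrrCharacter G) := Finset.univ.filter (fun χ : IrrCharacter G =>
        ∀ n ∈ V, (χ : G → ℂ) n = (χ : G → ℂ) 1) with hX
    have hterm : ∀ χ : IrrCharacter G, ((charDegree (χ : G → ℂ) : ℂ)) * (m χ : ℂ) =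
        (Nat.card ↥(P : Subgroup G) : ℂ)⁻¹ * ∑ y : ↥(P : Subgroup G),
          ((χ : G → ℂ) 1 * (χ : G → ℂ) (y : G)) * conj (Λ y) := by
      intro χ
      rw [helper24.char_charDegree_cast (helper24.irr_isCharacter χ.2), ← hm χ, classInner]
      rw [Finset.mul_sum, Finset.mul_sum, Finset.mul_sum]
      refine Finset.sum_congr rfl (fun y _ => ?_)
      ring
    have hcol : ∀ y : ↥(P : Subgroup G), ∑ χ ∈ X,
        ((χ : G → ℂ) 1 * (χ : G → ℂ) (y : G)) * conj (Λ y) =
        if y = 1 then (V.index : ℂ) else 0 := by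
      intro y
      rw [← Finset.sum_mul, hX, sum_ker_deg_mul V (y : G)]
      by_cases hy : y = 1
      · subst hy
        simp [hΛ]
      · rw [if_neg hy, if_neg, zero_mul]
        intro hyV
        exact hy (Subtype.ext (eq_one_of_mem_sylow_of_mem p V hV P y.2 hyV))
    have hsumC : (∑ χ ∈ X, ((charDegree (χ : G → ℂ) : ℂ)) * (m χ : ℂ)) *
        (Nat.card ↥(P : Subgroup G) : ℂ) = (V.index : ℂ) := by
      rw [Finset.sum_congr rfl (fun χ _ => hterm χ), ← Finset.mul_sum, Finset.sum_comm,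
        Finset.sum_congr rfl (fun y _ => hcol y), Finset.sum_ite_eq' Finset.univ (1 : ↥(P : Subgroup G)),
        if_pos (Finset.mem_univ _)]
      field_simp
    have hsumN : (∑ χ ∈ X, charDegree (χ : G → ℂ) * m χ) * Nat.card ↥(P : Subgroup G) =
        V.index := by
      have : (((∑ χ ∈ X, charDegree (χ : G → ℂ) * m χ) * Nat.card ↥(P : Subgroup G) : ℕ) : ℂ) =
          ((V.index : ℕ) : ℂ) := by
        push_cast
        exact hsumC
      exact_mod_cast this
    have hA : Nat.card V * V.index = Nat.card G := Subgroup.card_mul_index V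
    have hB : Nat.card ↥(P : Subgroup G) * (P : Subgroup G).index = Nat.card G :=
      Subgroup.card_mul_index (P : Subgroup G)
    have hPpos : 0 < Nat.card ↥(P : Subgroup G) := Nat.card_pos
    have hnd : ¬ p ∣ ∑ χ ∈ X, charDegree (χ : G → ℂ) * m χ := by
      intro hdvd
      apply P.not_dvd_index
      have h5 : Nat.card ↥(P : Subgroup G) * (Nat.card V * ∑ χ ∈ X, charDegree (χ : G → ℂ) * m χ) =
          Nat.card ↥(P : Subgroup G) * (P : Subgroup G).index := by
        rw [hB, ← hA, ← hsumN]; ring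
      have h6 := Nat.eq_of_mul_eq_mul_left hPpos h5
      rw [← h6]
      exact Dvd.dvd.mul_left hdvd _
    obtain ⟨χ, hχX, hχ⟩ : ∃ χ ∈ X, ¬ p ∣ charDegree (χ : G → ℂ) * m χ := by
      by_contra hcon
      push Not at hcon
      exact hnd (Finset.dvd_sum hcon)
    have hχV : ∀ n ∈ V, (χ : G → ℂ) n = (χ : G → ℂ) 1 := by
      rw [hX, Finset.mem_filter] at hχX
      exact hχX.2
    have hdeg : ¬ p ∣ charDegree (χ : G → ℂ) := fun h => hχ (Dvd.dvd.mul_right h _)
    have hm0 : m χ ≠ 0 := by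
      intro h0
      apply hχ
      rw [h0, mul_zero]
      exact dvd_zero p
    have hχx : (χ : G → ℂ) x = (χ : G → ℂ) 1 := hx χ hχV hdeg
    have hshift : ∑ y : ↥(P : Subgroup G), (χ : G → ℂ) (y : G) * conj (Λ y) =
        conj (Λ x') * ∑ y : ↥(P : Subgroup G), (χ : G → ℂ) (y : G) * conj (Λ y) := by
      rw [Finset.mul_sum]
      rw [← Equiv.sum_comp (Equiv.mulLeft x')]
      refine Finset.sum_congr rfl (fun y _ => ?_)
      have h1 : ((x' * y : ↥(P : Subgroup G)) : G) = x * (y : G) := rfl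
      have h2 : Λ (x' * y) = Λ x' * Λ y := by
        simp [hΛ, map_mul]
      simp only [Equiv.coe_mulLeft]
      rw [h1, irr_mul_of_eq_one χ.2 hχx, h2, map_mul]
      ring
    have hS0 : ∑ y : ↥(P : Subgroup G), (χ : G → ℂ) (y : G) * conj (Λ y) ≠ 0 := by
      intro h0
      have := hm χ
      rw [classInner, h0, mul_zero] at this
      exact hm0 (by exact_mod_cast this.symm)
    have hconj : conj (Λ x') = 1 := by
      have h7 : (1 - conj (Λ x')) *
          ∑ y : ↥(P : Subgroup G), (χ : G → ℂ) (y : G) * conj (Λ y) = 0 := by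
        rw [sub_mul, one_mul, ← hshift, sub_self]
      rcases mul_eq_zero.mp h7 with h | h
      · exact (sub_eq_zero.mp h).symm
      · exact absurd h hS0
    have hΛx : Λ x' = 1 := by
      have := congrArg conj hconj
      simpa using this
    exact Units.ext hΛx
  -- duality
  by_contra hxc
  have hmap : Subgroup.map (P : Subgroup G).subtype
      ⁅(⊤ : Subgroup ↥(P : Subgroup G)), (⊤ : Subgroup ↥(P : Subgroup G))⁆ =
      ⁅(P : Subgroup G), (P : Subgroup G)⁆ := by
    rw [Subgroup.map_commutator, ← MonoidHom.range_eq_map, Subgroup.range_subtype]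
  have hx'c : x' ∉ commutator ↥(P : Subgroup G) := by
    intro h
    apply hxc
    rw [← hmap]
    rw [commutator_def] at h
    exact ⟨x', h, rfl⟩
  have ha : (Abelianization.of x' : Abelianization ↥(P : Subgroup G)) ≠ 1 := by
    intro h1
    exact hx'c ((QuotientGroup.eq_one_iff x').mp h1)
  have : NeZero ((Monoid.exponent (Abelianization ↥(P : Subgroup G)) : ℕ) : ℂ) :=
    ⟨by exact_mod_cast Monoid.exponent_ne_zero_of_finite⟩
  obtain ⟨φ, hφ⟩ :=
    CommGroup.exists_apply_ne_one_of_hasEnoughRootsOfUnity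
      (Abelianization ↥(P : Subgroup G)) ℂ ha
  exact hφ (key (φ.comp Abelianization.of))

end Cfsg.Agent.helper6.S4885y
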