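import Mathlib
import Cfsg.Agent.Lib_helper6_TriSolv
import Cfsg.Agent.Lib_helper6_TwoPow

set_option autoImplicit false

/-! A Sylow-type 2-subgroup of the centralizer of the transvection `1 + E₀₁` in `SL(5,2)` and its
centralizer (helper6). -/

namespace Cfsg.Agent.helper6.SL52

open Cfsg.Agent.helper6.TriSolv

abbrev SL : Type := Matrix.SpecialLinearGroup (Fin 5) (ZMod 2)

/-- position function: the index `0` is the largest, the index `1` the smallest -/
def pos : Fin 5 → ℕ := ![4, 0, 3, 2, 1]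

theorem pos_le (i : Fin 5) : pos i ≤ 4 := by
  fin_cases i <;> simp [pos]

theorem pos_zero : pos 0 = 4 := rfl
theorem pos_one : pos 1 = 0 := rfl

theorem pos_lt_of_ne_zero (i : Fin 5) (h : i ≠ 0) : pos i < 4 := by
  fin_cases i <;> simp_all [pos]

theorem pos_pos_of_ne_one (i : Fin 5) (h : i ≠ 1) : 0 < pos i := by
  fin_cases i <;> simp_all [pos]

/-- the unitriangular group with respect to `pos`, inside `SL(5,2)` -/
def U5 : Subgroup SL := (U pos (ZMod 2) 1).comap Matrix.SpecialLinearGroup.toGL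

theorem mem_U5 (g : SL) :
    g ∈ U5 ↔ Lk pos 0 (g : Matrix (Fin 5) (Fin 5) (ZMod 2)) ∧
      Lk pos 1 ((g : Matrix (Fin 5) (Fin 5) (ZMod 2)) - 1) := Iff.rfl

/-- entries of an element of `U5` -/
theorem U5_apply (g : SL) (hg : g ∈ U5) (i j : Fin 5) (hij : pos i ≤ pos j) :
    (g : Matrix (Fin 5) (Fin 5) (ZMod 2)) i j = if i = j then 1 else 0 := by
  have h := ((mem_U5 g).mp hg).2 i j (by omega)
  rw [Matrix.sub_apply, Matrix.one_apply] at h
  exact sub_eq_zero.mp h

/-- the transvection `1 + E_{ab}` as an element of `SL(5,2)` -/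
def tv (a b : Fin 5) (hab : a ≠ b) : SL :=
  ⟨Matrix.transvection a b 1, Matrix.det_transvection_of_ne a b hab 1⟩

theorem tv_val (a b : Fin 5) (hab : a ≠ b) :
    ((tv a b hab : SL) : Matrix (Fin 5) (Fin 5) (ZMod 2)) = 1 + Matrix.single a b 1 := rfl

theorem tv_mem (a b : Fin 5) (hab : a ≠ b) (h : pos b < pos a) : tv a b hab ∈ U5 := by
  rw [mem_U5, tv_val]
  have h1 : Lk pos 1 (Matrix.single a b (1 : ZMod 2)) := by
    intro i j hij
    apply Matrix.single_apply_of_ne
    rintro ⟨rfl, rfl⟩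
    omega
  constructor
  · intro i j hij
    rw [Matrix.add_apply, Lk_one i j hij, h1 i j (by omega), add_zero]
  · rw [add_sub_cancel_left]
    exact h1

/-- elements of `U5` commute with `s = 1 + E₀₁` -/
theorem U5_commute (s : SL) (hs : (s : Matrix (Fin 5) (Fin 5) (ZMod 2)) = Matrix.transvection 0 1 1)
    (g : SL) (hg : g ∈ U5) : g * s = s * g := by
  apply Subtype.ext
  rw [Matrix.SpecialLinearGroup.coe_mul, Matrix.SpecialLinearGroup.coe_mul, hs, Matrix.transvection,
    mul_add, add_mul, mul_one, one_mul]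
  congr 1
  ext a b
  by_cases hb : b = 1
  · subst hb
    rw [Matrix.mul_single_apply_same, mul_one]
    rw [U5_apply g hg a 0 (by rw [pos_zero]; exact pos_le a)]
    by_cases ha : a = 0
    · subst ha
      rw [Matrix.single_mul_apply_same, one_mul, if_pos rfl]
      rw [U5_apply g hg 1 1 le_rfl, if_pos rfl]
    · rw [if_neg ha, Matrix.single_mul_apply_of_ne _ _ _ _ _ ha]
  · rw [Matrix.mul_single_apply_of_ne _ _ _ _ _ hb]
    by_cases ha : a = 0
    · subst ha
      rw [Matrix.single_mul_apply_same, one_mul]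
      rw [U5_apply g hg 1 b (by rw [pos_one]; exact Nat.zero_le _), if_neg (Ne.symm hb)]
    · rw [Matrix.single_mul_apply_of_ne _ _ _ _ _ ha]

theorem sub_one_sq_char_two {R : Type*} [Ring R] [CharP R 2] (x : R) :
    (x - 1) * (x - 1) = x * x - 1 := by
  simp only [CharTwo.sub_eq_add]
  rw [mul_add, add_mul, add_mul, mul_one, one_mul, one_mul, add_assoc, ← add_assoc x x 1,
    CharTwo.add_self_eq_zero x, zero_add]

/-- squaring doubles the level in characteristic two -/
theorem sq_mem_U (k : ℕ) (g : GL (Fin 5) (ZMod 2)) (hg : g ∈ U pos (ZMod 2) k) :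
    g ^ 2 ∈ U pos (ZMod 2) (k + k) := by
  refine ⟨((U pos (ZMod 2) k).pow_mem hg 2).1, ?_⟩
  have h1 : ((g ^ 2 : GL (Fin 5) (ZMod 2)) : Matrix (Fin 5) (Fin 5) (ZMod 2)) - 1
      = ((g : Matrix (Fin 5) (Fin 5) (ZMod 2)) - 1) * ((g : Matrix (Fin 5) (Fin 5) (ZMod 2)) - 1) := by
    rw [pow_two, Units.val_mul, sub_one_sq_char_two]
  rw [h1]
  exact Lk_mul hg.2 hg.2

theorem U_mono {a b : ℕ} (h : a ≤ b) : U pos (ZMod 2) b ≤ U pos (ZMod 2) a :=
  fun _ hg => ⟨hg.1, Lk_mono h hg.2⟩

theorem pow_eight_eq_one (g : SL) (hg : g ∈ U5) : g ^ 8 = 1 := by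
  have h1 : Matrix.SpecialLinearGroup.toGL g ∈ U pos (ZMod 2) 1 := hg
  have h2 := sq_mem_U 1 _ h1
  have h4 := sq_mem_U (1 + 1) _ h2
  have h8 := sq_mem_U (1 + 1 + (1 + 1)) _ h4
  have hbot : U pos (ZMod 2) (1 + 1 + (1 + 1) + (1 + 1 + (1 + 1))) = ⊥ := by
    rw [eq_bot_iff, ← U_eq_bot (pos := pos) (F := ZMod 2)]
    apply U_mono
    have : Finset.univ.sup pos ≤ 4 := Finset.sup_le (fun i _ => pos_le i)
    omega
  rw [hbot, Subgroup.mem_bot] at h8
  apply Matrix.SpecialLinearGroup.toGL_injective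
  rw [map_pow, map_one]
  have : ((Matrix.SpecialLinearGroup.toGL g ^ 2) ^ 2) ^ 2 = Matrix.SpecialLinearGroup.toGL g ^ 8 := by
    rw [← pow_mul, ← pow_mul]
  rw [← this]
  exact h8

theorem isPGroup_U5 : IsPGroup 2 U5 := by
  intro g
  refine ⟨3, ?_⟩
  apply Subtype.ext
  rw [Subgroup.coe_pow, Subgroup.coe_one]
  exact pow_eight_eq_one g.1 g.2

/-- an element of `SL(5,2)` centralizing `U5` is `1` or `s` -/
theorem centralizer_U5 (s : SL) (hs : (s : Matrix (Fin 5) (Fin 5) (ZMod 2)) = Matrix.transvection 0 1 1)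
    (c : SL) (hc : ∀ g ∈ U5, c * g = g * c) : c = 1 ∨ c = s := by
  -- commutation with transvections
  have key : ∀ (a b : Fin 5) (hab : a ≠ b), pos b < pos a →
      (c : Matrix (Fin 5) (Fin 5) (ZMod 2)) * Matrix.single a b 1
        = Matrix.single a b 1 * (c : Matrix (Fin 5) (Fin 5) (ZMod 2)) := by
    intro a b hab h
    have h1 := hc _ (tv_mem a b hab h)
    have h2 := congrArg (fun x : SL => (x : Matrix (Fin 5) (Fin 5) (ZMod 2))) h1
    simp only [Matrix.SpecialLinearGroup.coe_mul, tv_val, mul_add, add_mul, mul_one, one_mul] at h2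
    exact add_left_cancel h2
  -- columns a ≠ 1
  have hcol : ∀ (a : Fin 5), a ≠ 1 → ∀ i, (c : Matrix (Fin 5) (Fin 5) (ZMod 2)) i a
      = if i = a then (c : Matrix (Fin 5) (Fin 5) (ZMod 2)) 1 1 else 0 := by
    intro a ha i
    have h1 := key a 1 ha (by rw [pos_one]; exact pos_pos_of_ne_one a ha)
    have h2 := congrFun (congrFun h1 i) 1
    rw [Matrix.mul_single_apply_same, mul_one] at h2
    rw [h2]
    by_cases hia : i = a
    · subst hia
      rw [Matrix.single_mul_apply_same, one_mul, if_pos rfl]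
    · rw [Matrix.single_mul_apply_of_ne _ _ _ _ _ hia, if_neg hia]
  -- rows b ≠ 0
  have hrow : ∀ (b : Fin 5), b ≠ 0 → ∀ j, (c : Matrix (Fin 5) (Fin 5) (ZMod 2)) b j
      = if j = b then (c : Matrix (Fin 5) (Fin 5) (ZMod 2)) 0 0 else 0 := by
    intro b hb j
    have h1 := key 0 b (Ne.symm hb) (by rw [pos_zero]; exact pos_lt_of_ne_zero b hb)
    have h2 := congrFun (congrFun h1 0) j
    rw [Matrix.single_mul_apply_same, one_mul] at h2
    rw [← h2]
    by_cases hjb : j = b
    · subst hjb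
      rw [Matrix.mul_single_apply_same, mul_one, if_pos rfl]
    · rw [Matrix.mul_single_apply_of_ne _ _ _ _ _ hjb, if_neg hjb]
  -- the diagonal entry
  have h00 : (c : Matrix (Fin 5) (Fin 5) (ZMod 2)) 0 0 = (c : Matrix (Fin 5) (Fin 5) (ZMod 2)) 1 1 := by
    have := hcol 0 (by decide) 0
    rw [if_pos rfl] at this
    exact this
  have h11 : (c : Matrix (Fin 5) (Fin 5) (ZMod 2)) 1 1 = 1 := by
    rcases Cfsg.Agent.helper6.TwoPow.zmod2_cases ((c : Matrix (Fin 5) (Fin 5) (ZMod 2)) 1 1) with h | h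
    · exfalso
      have hz : ∀ j, (c : Matrix (Fin 5) (Fin 5) (ZMod 2)) 1 j = 0 := by
        intro j
        rw [hrow 1 (by decide) j, h00, h]
        split_ifs <;> rfl
      have hdet := Matrix.det_eq_zero_of_row_eq_zero (A := (c : Matrix (Fin 5) (Fin 5) (ZMod 2))) 1 hz
      rw [c.2] at hdet
      exact one_ne_zero hdet
    · exact h
  -- shape of c
  have hshape : ∀ i j, (i, j) ≠ ((0 : Fin 5), (1 : Fin 5)) →
      (c : Matrix (Fin 5) (Fin 5) (ZMod 2)) i j = if i = j then 1 else 0 := by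
    intro i j hij
    by_cases hj : j = 1
    · subst hj
      have hi : i ≠ 0 := by
        intro h; subst h; exact hij rfl
      rw [hrow i hi 1, h00, h11]
      by_cases h : i = 1
      · subst h; simp
      · rw [if_neg (Ne.symm h), if_neg h]
    · rw [hcol j hj i, h11]
  rcases Cfsg.Agent.helper6.TwoPow.zmod2_cases ((c : Matrix (Fin 5) (Fin 5) (ZMod 2)) 0 1) with h | h
  · left
    apply Subtype.ext
    ext i j
    rw [Matrix.SpecialLinearGroup.coe_one, Matrix.one_apply]
    by_cases hij : (i, j) = ((0 : Fin 5), (1 : Fin 5))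
    · obtain ⟨rfl, rfl⟩ := Prod.mk.inj hij
      rw [h, if_neg (by decide)]
    · exact hshape i j hij
  · right
    apply Subtype.ext
    ext i j
    rw [hs, Matrix.transvection, Matrix.add_apply, Matrix.one_apply]
    by_cases hij : (i, j) = ((0 : Fin 5), (1 : Fin 5))
    · obtain ⟨rfl, rfl⟩ := Prod.mk.inj hij
      rw [h, if_neg (by decide), Matrix.single_apply_same, zero_add]
    · rw [hshape i j hij, Matrix.single_apply_of_ne, add_zero]
      rintro ⟨rfl, rfl⟩
      exact hij rfl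

end Cfsg.Agent.helper6.SL52
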