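import Mathlib
import Cfsg.Agent.Lib_helper7_Balance2
import Cfsg.Agent.Lib_helper7_ExtLayer

set_option autoImplicit false
open scoped commutatorElement

namespace Cfsg.Agent.helper7

variable {G : Type*} [Group G]

/-- A `p`-component commutes, modulo `O_{p'}(G)`, with every normal subgroup whose image in
`G / O_{p'}(G)` is a `p`-group. -/
theorem pcomp_comm_le_core [Finite G] {p : ℕ} (hp : p.Prime) {K R : Subgroup G}
    (hK : Cfsg.IsPComponent p K) (hRn : R.Normal)
    (hR : IsPGroup p ↥(R.map (QuotientGroup.mk' (Cfsg.pPrimeCore p G)))) :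
    ⁅K, R⁆ ≤ Cfsg.pPrimeCore p G := by
  haveI : Fact p.Prime := ⟨hp⟩
  obtain ⟨h1, h2, h3⟩ := isPComponent_iff.1 hK
  apply le_pPrimeCore_of_map_eq_bot
  rw [Subgroup.map_commutator]
  haveI : Group.IsNilpotent ↥(R.map (QuotientGroup.mk' (Cfsg.pPrimeCore p G))) := hR.isNilpotent
  apply h2.comm_solvable _ inferInstance
  apply SN.of_normal le_top
  intro g _
  haveI := Subgroup.Normal.map hRn (QuotientGroup.mk' (Cfsg.pPrimeCore p G))
    (QuotientGroup.mk'_surjective _)
  rw [Subgroup.normalizer_eq_top]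
  exact Subgroup.mem_top g

/-- `O_{p'}(N_G(P)) ≤ O_{p'}(G)` when `L_{p'}(G) = 1` and `P` is a `p`-subgroup. -/
theorem pPrimeCore_normalizer_le [Finite G] {p : ℕ} (hp : p.Prime) (hL : Cfsg.pLayer p G = ⊥)
    {P : Subgroup G} (hP : IsPGroup p ↥P) :
    (Cfsg.pPrimeCore p ↥(Subgroup.normalizer (P : Set G))).map
      (Subgroup.normalizer (P : Set G)).subtype ≤ Cfsg.pPrimeCore p G := by
  haveI : Fact p.Prime := ⟨hp⟩
  have hXN : (Cfsg.pPrimeCore p ↥(Subgroup.normalizer (P : Set G))).map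
      (Subgroup.normalizer (P : Set G)).subtype ≤ Subgroup.normalizer (P : Set G) :=
    Subgroup.map_subtype_le _
  have hX : (Nat.card ↥((Cfsg.pPrimeCore p ↥(Subgroup.normalizer (P : Set G))).map
      (Subgroup.normalizer (P : Set G)).subtype)).Coprime p := by
    rw [card_map_subtype]; exact pPrimeCore_coprime hp
  have hNX : Subgroup.normalizer (P : Set G) ≤ Subgroup.normalizer
      (((Cfsg.pPrimeCore p ↥(Subgroup.normalizer (P : Set G))).map
      (Subgroup.normalizer (P : Set G)).subtype : Subgroup G) : Set G) := by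
    rw [map_pPrimeCore_eq hp]
    exact piCoreIn_normal _ _
  have hdisj : (Cfsg.pPrimeCore p ↥(Subgroup.normalizer (P : Set G))).map
      (Subgroup.normalizer (P : Set G)).subtype ⊓ P = ⊥ := by
    apply Subgroup.inf_eq_bot_of_coprime
    obtain ⟨k, hk⟩ := IsPGroup.iff_card.1 hP
    rw [hk]
    exact Nat.Coprime.pow_right k hX
  apply balance_pprime hp hL hP hX
  · intro x hx
    rw [Subgroup.mem_centralizer_iff]
    intro a ha
    have h1 : x * a * x⁻¹ * a⁻¹ ∈ (Cfsg.pPrimeCore p ↥(Subgroup.normalizer (P : Set G))).map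
      (Subgroup.normalizer (P : Set G)).subtype ⊓ P := by
      constructor
      · have h2 := (Subgroup.mem_normalizer_iff.1 (hNX (Subgroup.le_normalizer ha)) x⁻¹).1
          (Subgroup.inv_mem _ hx)
        have : x * a * x⁻¹ * a⁻¹ = x * (a * x⁻¹ * a⁻¹) := by group
        rw [this]
        exact Subgroup.mul_mem _ hx h2
      · have h2 := (Subgroup.mem_normalizer_iff.1 (hXN hx) a).1 ha
        exact P.mul_mem h2 (P.inv_mem ha)
    rw [hdisj, Subgroup.mem_bot] at h1
    calc a * x = (x * a * x⁻¹ * a⁻¹)⁻¹ * (x * a) := by group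
      _ = x * a := by rw [h1]; group
  · exact inf_le_left.trans ((Subgroup.centralizer_le_normalizer _).trans hNX)

/-- `L_{p'}(N_G(P)) = 1` when `L_{p'}(G) = 1` and `P` is a `p`-subgroup. -/
theorem pLayer_normalizer_eq_bot [Finite G] {p : ℕ} (hp : p.Prime) (hL : Cfsg.pLayer p G = ⊥)
    {P : Subgroup G} (hP : IsPGroup p ↥P) :
    Cfsg.pLayer p ↥(Subgroup.normalizer (P : Set G)) = ⊥ := by
  haveI : Fact p.Prime := ⟨hp⟩
  rw [eq_bot_iff]
  unfold Cfsg.pLayer
  apply sSup_le
  intro K' hK'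
  exfalso
  -- `P` as a normal subgroup of `N`
  have hPn : (P.subgroupOf (Subgroup.normalizer (P : Set G))).Normal :=
    Subgroup.normal_subgroupOf_of_le_normalizer le_rfl
  have hPp : IsPGroup p ↥(P.subgroupOf (Subgroup.normalizer (P : Set G))) := hP.comap_subtype
  have hO'le := pPrimeCore_normalizer_le hp hL hP
  -- Step 1: `K'` centralizes `P`
  have h1 : ⁅K', P.subgroupOf (Subgroup.normalizer (P : Set G))⁆ = ⊥ := by
    rw [eq_bot_iff]
    have ha := pcomp_comm_le_core hp hK' hPn (hPp.map _)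
    have hb : ⁅K', P.subgroupOf (Subgroup.normalizer (P : Set G))⁆ ≤
        P.subgroupOf (Subgroup.normalizer (P : Set G)) := Subgroup.commutator_le_right _ _
    have hc : Cfsg.pPrimeCore p ↥(Subgroup.normalizer (P : Set G)) ⊓
        P.subgroupOf (Subgroup.normalizer (P : Set G)) = ⊥ := by
      apply Subgroup.inf_eq_bot_of_coprime
      obtain ⟨k, hk⟩ := IsPGroup.iff_card.1 hPp
      rw [hk]
      exact Nat.Coprime.pow_right k (pPrimeCore_coprime hp)
    rw [← hc]; exact le_inf ha hb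
  have hKP : K'.map (Subgroup.normalizer (P : Set G)).subtype ≤
      Subgroup.centralizer (P : Set G) := by
    rw [← Subgroup.commutator_eq_bot_iff_le_centralizer]
    have : ⁅K'.map (Subgroup.normalizer (P : Set G)).subtype, P⁆ =
        (⁅K', P.subgroupOf (Subgroup.normalizer (P : Set G))⁆).map
          (Subgroup.normalizer (P : Set G)).subtype := by
      rw [Subgroup.map_commutator, Subgroup.map_subgroupOf_eq_of_le Subgroup.le_normalizer]
    rw [this, h1, Subgroup.map_bot]
  -- Step 2: the subgroup `R = C_G(P) ∩ O_{p',p}(G)`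
  have hRN : Subgroup.centralizer (P : Set G) ⊓ Cfsg.pPrimePCore p G ≤
      Subgroup.normalizer (P : Set G) := inf_le_left.trans (Subgroup.centralizer_le_normalizer _)
  have hDn : (Cfsg.pPrimePCore p G).Normal := pPrimePCore_normal p
  have hNR : Subgroup.normalizer (P : Set G) ≤ Subgroup.normalizer
      ((Subgroup.centralizer (P : Set G) ⊓ Cfsg.pPrimePCore p G : Subgroup G) : Set G) := by
    intro g hg
    apply Subgroup.inf_normalizer_le_normalizer_inf
    refine Subgroup.mem_inf.2 ⟨normalizer_le_normalizer_centralizer P hg, ?_⟩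
    rw [Subgroup.normalizer_eq_top]
    exact Subgroup.mem_top g
  have hR'n : ((Subgroup.centralizer (P : Set G) ⊓ Cfsg.pPrimePCore p G).subgroupOf
      (Subgroup.normalizer (P : Set G))).Normal :=
    Subgroup.normal_subgroupOf_of_le_normalizer hNR
  -- `R ∩ O_{p'}(G)` is a normal `p'`-subgroup of `N`
  have hROn : Subgroup.normalizer (P : Set G) ≤ Subgroup.normalizer
      ((Subgroup.centralizer (P : Set G) ⊓ Cfsg.pPrimePCore p G ⊓ Cfsg.pPrimeCore p G :
        Subgroup G) : Set G) := by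
    intro g hg
    apply Subgroup.inf_normalizer_le_normalizer_inf
    refine Subgroup.mem_inf.2 ⟨hNR hg, ?_⟩
    rw [Subgroup.normalizer_eq_top]
    exact Subgroup.mem_top g
  have hRO : (Subgroup.centralizer (P : Set G) ⊓ Cfsg.pPrimePCore p G ⊓ Cfsg.pPrimeCore p G
      ).subgroupOf (Subgroup.normalizer (P : Set G)) ≤
      Cfsg.pPrimeCore p ↥(Subgroup.normalizer (P : Set G)) := by
    apply le_sSup
    refine ⟨Subgroup.normal_subgroupOf_of_le_normalizer hROn, ?_⟩
    rw [Nat.card_congr (Subgroup.subgroupOfEquivOfLe (inf_le_left.trans hRN)).toEquiv]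
    exact Nat.Coprime.coprime_dvd_left (Subgroup.card_dvd_of_le inf_le_right)
      (pPrimeCore_coprime hp)
  have hR'p : IsPGroup p ↥(((Subgroup.centralizer (P : Set G) ⊓ Cfsg.pPrimePCore p G).subgroupOf
      (Subgroup.normalizer (P : Set G))).map
      (QuotientGroup.mk' (Cfsg.pPrimeCore p ↥(Subgroup.normalizer (P : Set G))))) := by
    rintro ⟨_, ⟨r, hr, rfl⟩⟩
    rw [SetLike.mem_coe, Subgroup.mem_subgroupOf] at hr
    -- image of `r` in `G / O_{p'}(G)` lies in the `p`-group `O_p(G / O_{p'}(G))`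
    have hrD : QuotientGroup.mk' (Cfsg.pPrimeCore p G) (r : G) ∈
        Cfsg.pCore p (G ⧸ Cfsg.pPrimeCore p G) := hr.2
    obtain ⟨k, hk⟩ := (pCore_isPGroup hp) ⟨_, hrD⟩
    have hk' : QuotientGroup.mk' (Cfsg.pPrimeCore p G) ((r : G) ^ p ^ k) = 1 := by
      have := congrArg Subtype.val hk
      rw [map_pow]
      exact this
    have hk'' : (r : G) ^ p ^ k ∈ Cfsg.pPrimeCore p G := by
      rw [← ker_mk_pPrimeCore p, MonoidHom.mem_ker]; exact hk'
    refine ⟨k, ?_⟩
    apply Subtype.ext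
    show (QuotientGroup.mk' (Cfsg.pPrimeCore p ↥(Subgroup.normalizer (P : Set G))) r) ^ p ^ k = 1
    rw [← map_pow, ← MonoidHom.mem_ker, ker_mk_pPrimeCore]
    apply hRO
    rw [Subgroup.mem_subgroupOf]
    refine ⟨Subgroup.pow_mem _ hr _, ?_⟩
    exact hk''
  have h2 := pcomp_comm_le_core hp hK' hR'n hR'p
  -- Step 3 : apply the perfect balance lemma
  have hperf : ⁅K'.map (Subgroup.normalizer (P : Set G)).subtype,
      K'.map (Subgroup.normalizer (P : Set G)).subtype⁆ =
      K'.map (Subgroup.normalizer (P : Set G)).subtype := by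
    rw [← Subgroup.map_commutator, pcomp_perfect hK']
  have h3 : K'.map (Subgroup.normalizer (P : Set G)).subtype ≤ Cfsg.pPrimeCore p G := by
    apply balance_perfect hp hL hP hperf hKP
    rintro c hc hcD _ ⟨x, hx, rfl⟩
    apply hO'le
    have hcN : c ∈ Subgroup.normalizer (P : Set G) := Subgroup.centralizer_le_normalizer _ hc
    refine ⟨⟨c, hcN⟩ * x * ⟨c, hcN⟩⁻¹ * x⁻¹, ?_, rfl⟩
    apply h2
    have h4 : ⟨c, hcN⟩ * x * ⟨c, hcN⟩⁻¹ * x⁻¹ = (⁅x, ⟨c, hcN⟩⁆)⁻¹ := by
      rw [commutatorElement_def]; group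
    rw [h4]
    apply Subgroup.inv_mem
    apply Subgroup.commutator_mem_commutator hx
    rw [Subgroup.mem_subgroupOf]
    exact ⟨hc, hcD⟩
  -- contradiction: `K'` would be a `p'`-group
  have h5 : (Nat.card ↥K').Coprime p := by
    rw [← card_map_subtype]
    exact Nat.Coprime.coprime_dvd_left (Subgroup.card_dvd_of_le h3) (pPrimeCore_coprime hp)
  have h6 := pcomp_dvd_card hp hK'
  exact hp.one_lt.ne' (Nat.Coprime.eq_one_of_dvd h5.symm h6)

end Cfsg.Agent.helper7
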