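import Mathlib
import Cfsg.Agent.Lib_helper7_Balance3

set_option autoImplicit false
open scoped commutatorElement

namespace Cfsg.Agent.helper7

variable {G : Type*} [Group G]

/-- `O_{p'}(M) ≤ O_{p'}(G)` when `L_{p'}(G) = 1`, `C_G(P) ≤ M` and `O_{p'}(M)` centralizes the
`p`-subgroup `P`. -/
theorem pPrimeCore_sub_le [Finite G] {p : ℕ} (hp : p.Prime) (hL : Cfsg.pLayer p G = ⊥)
    {P M : Subgroup G} (hP : IsPGroup p ↥P) (hCM : Subgroup.centralizer (P : Set G) ≤ M)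
    (hXP : (Cfsg.pPrimeCore p ↥M).map M.subtype ≤ Subgroup.centralizer (P : Set G)) :
    (Cfsg.pPrimeCore p ↥M).map M.subtype ≤ Cfsg.pPrimeCore p G := by
  have hX : (Nat.card ↥((Cfsg.pPrimeCore p ↥M).map M.subtype)).Coprime p := by
    rw [card_map_subtype]; exact pPrimeCore_coprime hp
  have hNX : M ≤ Subgroup.normalizer (((Cfsg.pPrimeCore p ↥M).map M.subtype : Subgroup G) : Set G) := by
    rw [map_pPrimeCore_eq hp]
    exact piCoreIn_normal _ _
  apply balance_pprime hp hL hP hX hXP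
  exact inf_le_left.trans (hCM.trans hNX)

/-- `L_{p'}(M) = 1` when `L_{p'}(G) = 1`, `C_G(P) ≤ M ≤ N_G(P)`, `O_{p'}(M) ≤ O_{p'}(G)` and the
`p`-components of `M` centralize `P`. -/
theorem pLayer_sub_eq_bot [Finite G] {p : ℕ} (hp : p.Prime) (hL : Cfsg.pLayer p G = ⊥)
    {P M : Subgroup G} (hP : IsPGroup p ↥P) (hCM : Subgroup.centralizer (P : Set G) ≤ M)
    (hMN : M ≤ Subgroup.normalizer (P : Set G))
    (hO'le : (Cfsg.pPrimeCore p ↥M).map M.subtype ≤ Cfsg.pPrimeCore p G)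
    (hcent : ∀ K' : Subgroup ↥M, Cfsg.IsPComponent p K' →
      K'.map M.subtype ≤ Subgroup.centralizer (P : Set G)) :
    Cfsg.pLayer p ↥M = ⊥ := by
  haveI : Fact p.Prime := ⟨hp⟩
  rw [eq_bot_iff]
  unfold Cfsg.pLayer
  apply sSup_le
  intro K' hK'
  exfalso
  have hKP := hcent K' hK'
  have hRM : Subgroup.centralizer (P : Set G) ⊓ Cfsg.pPrimePCore p G ≤ M := inf_le_left.trans hCM
  have hDn : (Cfsg.pPrimePCore p G).Normal := pPrimePCore_normal p
  have hNR : M ≤ Subgroup.normalizer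
      ((Subgroup.centralizer (P : Set G) ⊓ Cfsg.pPrimePCore p G : Subgroup G) : Set G) := by
    intro g hg
    apply Subgroup.inf_normalizer_le_normalizer_inf
    refine Subgroup.mem_inf.2 ⟨normalizer_le_normalizer_centralizer P (hMN hg), ?_⟩
    rw [Subgroup.normalizer_eq_top]
    exact Subgroup.mem_top g
  have hR'n : ((Subgroup.centralizer (P : Set G) ⊓ Cfsg.pPrimePCore p G).subgroupOf M).Normal :=
    Subgroup.normal_subgroupOf_of_le_normalizer hNR
  have hROn : M ≤ Subgroup.normalizer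
      ((Subgroup.centralizer (P : Set G) ⊓ Cfsg.pPrimePCore p G ⊓ Cfsg.pPrimeCore p G :
        Subgroup G) : Set G) := by
    intro g hg
    apply Subgroup.inf_normalizer_le_normalizer_inf
    refine Subgroup.mem_inf.2 ⟨hNR hg, ?_⟩
    rw [Subgroup.normalizer_eq_top]
    exact Subgroup.mem_top g
  have hRO : (Subgroup.centralizer (P : Set G) ⊓ Cfsg.pPrimePCore p G ⊓ Cfsg.pPrimeCore p G
      ).subgroupOf M ≤ Cfsg.pPrimeCore p ↥M := by
    apply le_sSup
    refine ⟨Subgroup.normal_subgroupOf_of_le_normalizer hROn, ?_⟩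
    rw [Nat.card_congr (Subgroup.subgroupOfEquivOfLe (inf_le_left.trans hRM)).toEquiv]
    exact Nat.Coprime.coprime_dvd_left (Subgroup.card_dvd_of_le inf_le_right)
      (pPrimeCore_coprime hp)
  have hR'p : IsPGroup p ↥(((Subgroup.centralizer (P : Set G) ⊓ Cfsg.pPrimePCore p G).subgroupOf
      M).map (QuotientGroup.mk' (Cfsg.pPrimeCore p ↥M))) := by
    rintro ⟨_, ⟨r, hr, rfl⟩⟩
    rw [SetLike.mem_coe, Subgroup.mem_subgroupOf] at hr
    have hrD : QuotientGroup.mk' (Cfsg.pPrimeCore p G) (r : G) ∈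
        Cfsg.pCore p (G ⧸ Cfsg.pPrimeCore p G) := hr.2
    obtain ⟨k, hk⟩ := (pCore_isPGroup hp) ⟨_, hrD⟩
    have hk' : QuotientGroup.mk' (Cfsg.pPrimeCore p G) ((r : G) ^ p ^ k) = 1 := by
      have := congrArg Subtype.val hk
      rw [map_pow]
      exact this
    have hk'' : (r : G) ^ p ^ k ∈ Cfsg.pPrimeCore p G := by
      rw [← ker_mk_pPrimeCore p, MonoidHom.mem_ker]; exact hk'
    refine ⟨k, ?_⟩
    apply Subtype.ext
    show (QuotientGroup.mk' (Cfsg.pPrimeCore p ↥M) r) ^ p ^ k = 1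
    rw [← map_pow, ← MonoidHom.mem_ker, ker_mk_pPrimeCore]
    apply hRO
    rw [Subgroup.mem_subgroupOf]
    refine ⟨Subgroup.pow_mem _ hr _, ?_⟩
    exact hk''
  have h2 := pcomp_comm_le_core hp hK' hR'n hR'p
  have hperf : ⁅K'.map M.subtype, K'.map M.subtype⁆ = K'.map M.subtype := by
    rw [← Subgroup.map_commutator, pcomp_perfect hK']
  have h3 : K'.map M.subtype ≤ Cfsg.pPrimeCore p G := by
    apply balance_perfect hp hL hP hperf hKP
    rintro c hc hcD _ ⟨x, hx, rfl⟩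
    apply hO'le
    have hcN : c ∈ M := hCM hc
    refine ⟨⟨c, hcN⟩ * x * ⟨c, hcN⟩⁻¹ * x⁻¹, ?_, rfl⟩
    apply h2
    have h4 : ⟨c, hcN⟩ * x * ⟨c, hcN⟩⁻¹ * x⁻¹ = (⁅x, ⟨c, hcN⟩⁆)⁻¹ := by
      rw [commutatorElement_def]; group
    rw [h4]
    apply Subgroup.inv_mem
    apply Subgroup.commutator_mem_commutator hx
    rw [Subgroup.mem_subgroupOf]
    exact ⟨hc, hcD⟩
  have h5 : (Nat.card ↥K').Coprime p := by
    rw [← card_map_subtype]
    exact Nat.Coprime.coprime_dvd_left (Subgroup.card_dvd_of_le h3) (pPrimeCore_coprime hp)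
  have h6 := pcomp_dvd_card hp hK'
  exact hp.one_lt.ne' (Nat.Coprime.eq_one_of_dvd h5.symm h6)

/-- `L_{p'}(C_G(P)) = 1` when `L_{p'}(G) = 1` and `P` is a `p`-subgroup. -/
theorem pLayer_centralizer_eq_bot [Finite G] {p : ℕ} (hp : p.Prime) (hL : Cfsg.pLayer p G = ⊥)
    {P : Subgroup G} (hP : IsPGroup p ↥P) :
    Cfsg.pLayer p ↥(Subgroup.centralizer (P : Set G)) = ⊥ := by
  apply pLayer_sub_eq_bot hp hL hP le_rfl (Subgroup.centralizer_le_normalizer _)
  · exact pPrimeCore_sub_le hp hL hP le_rfl (Subgroup.map_subtype_le _)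
  · intro K' _
    exact Subgroup.map_subtype_le _

/-- If `C(O_p(Ḡ)) ≤ O_p(Ḡ)` for `Ḡ = G / O_{p'}(G)` then `L_{p'}(G) = 1`. -/
theorem pLayer_eq_bot_of_centralizer_le [Finite G] {p : ℕ} (hp : p.Prime)
    (hc : Subgroup.centralizer (Cfsg.pCore p (G ⧸ Cfsg.pPrimeCore p G) : Set (G ⧸ Cfsg.pPrimeCore p G))
      ≤ Cfsg.pCore p (G ⧸ Cfsg.pPrimeCore p G)) : Cfsg.pLayer p G = ⊥ := by
  rw [eq_bot_iff]
  unfold Cfsg.pLayer
  apply sSup_le
  intro K hK
  exfalso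
  obtain ⟨h1, h2, h3⟩ := isPComponent_iff.1 hK
  have hRF : Cfsg.pCore p (G ⧸ Cfsg.pPrimeCore p G) ≤
      fitOf (⊤ : Subgroup (G ⧸ Cfsg.pPrimeCore p G)) := by
    rw [pCore_eq hp]; exact piCoreIn_le_fitOf hp ⊤
  have hcF : K.map (QuotientGroup.mk' (Cfsg.pPrimeCore p G)) ≤
      Subgroup.centralizer ((fitOf (⊤ : Subgroup (G ⧸ Cfsg.pPrimeCore p G)) : Subgroup _) : Set _) :=
    Subgroup.commutator_eq_bot_iff_le_centralizer.1 h2.comm_fitOf
  have hKR : K.map (QuotientGroup.mk' (Cfsg.pPrimeCore p G)) ≤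
      Cfsg.pCore p (G ⧸ Cfsg.pPrimeCore p G) :=
    (hcF.trans (Subgroup.centralizer_le hRF)).trans hc
  have hKC : K.map (QuotientGroup.mk' (Cfsg.pPrimeCore p G)) ≤
      Subgroup.centralizer ((K.map (QuotientGroup.mk' (Cfsg.pPrimeCore p G)) : Subgroup _) : Set _) :=
    (hcF.trans (Subgroup.centralizer_le hRF)).trans (Subgroup.centralizer_le hKR)
  exact h2.2.not_abelian hKC

end Cfsg.Agent.helper7
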