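import Mathlib

set_option autoImplicit false

/-! Camina pairs, part 1: centralizer counting, the supplement lemma. -/

namespace Cfsg.Agent.helper7.Cam

section Q

variable {H Q : Type*} [Group H] [Group Q] [Finite H]

/-- Centralizers under a surjective homomorphism: `|C_Q(f g)| ≤ |C_H(g)|`, with equality exactly
when `g` is conjugate to every element of `g * ker f`. -/
theorem card_centralizer_map (f : H →* Q) (hf : Function.Surjective f) (g : H) :
    Nat.card (Subgroup.centralizer ({f g} : Set Q)) ≤
        Nat.card (Subgroup.centralizer ({g} : Set H)) ∧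
    (Nat.card (Subgroup.centralizer ({f g} : Set Q)) =
        Nat.card (Subgroup.centralizer ({g} : Set H)) ↔
      ∀ k ∈ f.ker, ∃ a : H, a * g * a⁻¹ = g * k) := by
  classical
  have hQ : Finite Q := Finite.of_surjective f hf
  let C : Subgroup H := Subgroup.centralizer ({g} : Set H)
  let D : Subgroup Q := Subgroup.centralizer ({f g} : Set Q)
  let T : Subgroup H := D.comap f
  have hCT : C ≤ T := by
    intro a ha
    have ha' : a * g = g * a := Subgroup.mem_centralizer_singleton_iff.mp ha
    show f a ∈ D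
    apply Subgroup.mem_centralizer_singleton_iff.mpr
    rw [← map_mul, ← map_mul, ha']
  -- the cardinality of `T`
  have hcardT : Nat.card T = Nat.card D * Nat.card f.ker := by
    have h1 : T.index = D.index := Subgroup.index_comap_of_surjective D hf
    have h2 : Nat.card T * T.index = Nat.card H := Subgroup.card_mul_index T
    have h3 : Nat.card D * D.index = Nat.card Q := Subgroup.card_mul_index D
    have h4 : Nat.card H = Nat.card (H ⧸ f.ker) * Nat.card f.ker :=
      Subgroup.card_eq_card_quotient_mul_card_subgroup f.ker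
    have h5 : Nat.card (H ⧸ f.ker) = Nat.card Q :=
      Nat.card_congr (QuotientGroup.quotientKerEquivOfSurjective f hf).toEquiv
    have h6 : D.index ≠ 0 := Subgroup.index_ne_zero_of_finite
    have h7 : Nat.card T * D.index = Nat.card D * Nat.card f.ker * D.index := by
      calc Nat.card T * D.index = Nat.card T * T.index := by rw [h1]
        _ = Nat.card H := h2
        _ = Nat.card Q * Nat.card f.ker := by rw [h4, h5]
        _ = Nat.card D * D.index * Nat.card f.ker := by rw [h3]
        _ = Nat.card D * Nat.card f.ker * D.index := by ring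
    exact Nat.eq_of_mul_eq_mul_right (Nat.pos_of_ne_zero h6) h7
  -- the injection `T / C → ker f`
  let s : Subgroup T := C.subgroupOf T
  have hcards : Nat.card s = Nat.card C :=
    Nat.card_congr (Subgroup.subgroupOfEquivOfLe hCT).toEquiv
  have hker : ∀ a : T, g⁻¹ * (a : H) * g * (a : H)⁻¹ ∈ f.ker := by
    intro a
    have ha : f (a : H) ∈ D := a.2
    have ha' : f (a : H) * f g = f g * f (a : H) := Subgroup.mem_centralizer_singleton_iff.mp ha
    rw [MonoidHom.mem_ker, map_mul, map_mul, map_mul, map_inv, map_inv, mul_assoc (f g)⁻¹, ha',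
      ← mul_assoc, inv_mul_cancel, one_mul, mul_inv_cancel]
  let ψ : T → f.ker := fun a => ⟨g⁻¹ * (a : H) * g * (a : H)⁻¹, hker a⟩
  have hψ : ∀ a b : T, ψ a = ψ b ↔ a⁻¹ * b ∈ s := by
    intro a b
    constructor
    · intro hab
      have h1 : g⁻¹ * (a : H) * g * (a : H)⁻¹ = g⁻¹ * (b : H) * g * (b : H)⁻¹ :=
        congrArg Subtype.val hab
      show ((a⁻¹ * b : T) : H) ∈ C
      apply Subgroup.mem_centralizer_singleton_iff.mpr
      have h2 : (a : H) * g * (a : H)⁻¹ = (b : H) * g * (b : H)⁻¹ := by
        have := congrArg (fun x => g * x) h1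
        simpa [mul_assoc] using this
      have h3 : ((a⁻¹ * b : T) : H) = (a : H)⁻¹ * (b : H) := rfl
      rw [h3]
      calc (a : H)⁻¹ * (b : H) * g = (a : H)⁻¹ * ((b : H) * g * (b : H)⁻¹) * (b : H) := by group
        _ = (a : H)⁻¹ * ((a : H) * g * (a : H)⁻¹) * (b : H) := by rw [h2]
        _ = g * ((a : H)⁻¹ * (b : H)) := by group
    · intro hab
      have h0 : ((a⁻¹ * b : T) : H) ∈ C := hab
      have h3 : ((a⁻¹ * b : T) : H) = (a : H)⁻¹ * (b : H) := rfl
      rw [h3] at h0
      have h1 : (a : H)⁻¹ * (b : H) * g = g * ((a : H)⁻¹ * (b : H)) :=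
        Subgroup.mem_centralizer_singleton_iff.mp h0
      apply Subtype.ext
      show g⁻¹ * (a : H) * g * (a : H)⁻¹ = g⁻¹ * (b : H) * g * (b : H)⁻¹
      have h2 : (b : H) * g * (b : H)⁻¹ = (a : H) * g * (a : H)⁻¹ := by
        calc (b : H) * g * (b : H)⁻¹
            = (a : H) * ((a : H)⁻¹ * (b : H) * g) * (b : H)⁻¹ := by group
          _ = (a : H) * (g * ((a : H)⁻¹ * (b : H))) * (b : H)⁻¹ := by rw [h1]
          _ = (a : H) * g * (a : H)⁻¹ := by group
      calc g⁻¹ * (a : H) * g * (a : H)⁻¹ = g⁻¹ * ((a : H) * g * (a : H)⁻¹) := by group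
        _ = g⁻¹ * ((b : H) * g * (b : H)⁻¹) := by rw [h2]
        _ = g⁻¹ * (b : H) * g * (b : H)⁻¹ := by group
  let φ : T ⧸ s → f.ker := Quotient.lift ψ (fun a b hab => by
    have : a⁻¹ * b ∈ s := QuotientGroup.leftRel_apply.mp hab
    exact (hψ a b).mpr this)
  have hφinj : Function.Injective φ := by
    intro x y
    refine Quotient.inductionOn₂ x y (fun a b hab => ?_)
    have h1 : ψ a = ψ b := hab
    exact Quotient.sound (QuotientGroup.leftRel_apply.mpr ((hψ a b).mp h1))
  have hTq : Nat.card T = Nat.card (T ⧸ s) * Nat.card C := by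
    rw [← hcards]; exact Subgroup.card_eq_card_quotient_mul_card_subgroup s
  have hkpos : 0 < Nat.card f.ker := Nat.card_pos
  have hCpos : 0 < Nat.card C := Nat.card_pos
  have hle : Nat.card (T ⧸ s) ≤ Nat.card f.ker := Nat.card_le_card_of_injective φ hφinj
  have hmain : Nat.card D * Nat.card f.ker = Nat.card (T ⧸ s) * Nat.card C := by
    rw [← hcardT, hTq]
  constructor
  · -- inequality
    have : Nat.card D * Nat.card f.ker ≤ Nat.card f.ker * Nat.card C := by
      rw [hmain]; exact Nat.mul_le_mul_right _ hle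
    have h2 : Nat.card f.ker * Nat.card D ≤ Nat.card f.ker * Nat.card C := by
      rw [mul_comm]; exact this
    exact Nat.le_of_mul_le_mul_left h2 hkpos
  · constructor
    · intro heq k hk
      -- φ is surjective
      have hcard : Nat.card (T ⧸ s) = Nat.card f.ker := by
        have h1 : Nat.card C * Nat.card f.ker = Nat.card (T ⧸ s) * Nat.card C := by
          rw [← hmain]
          show Nat.card C * Nat.card f.ker = Nat.card D * Nat.card f.ker
          rw [show Nat.card D = Nat.card C from heq]
        have h2 : Nat.card C * Nat.card f.ker = Nat.card C * Nat.card (T ⧸ s) := by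
          rw [h1, mul_comm]
        exact (Nat.eq_of_mul_eq_mul_left hCpos h2).symm
      have hfin : Finite (T ⧸ s) := inferInstance
      have hsurj : Function.Surjective φ := by
        have hbij : Function.Bijective φ :=
          (Nat.bijective_iff_injective_and_card φ).mpr ⟨hφinj, hcard⟩
        exact hbij.2
      obtain ⟨x, hx⟩ := hsurj ⟨k, hk⟩
      obtain ⟨a, rfl⟩ := Quotient.exists_rep x
      have h1 : ψ a = ⟨k, hk⟩ := hx
      have h2 : g⁻¹ * (a : H) * g * (a : H)⁻¹ = k := congrArg Subtype.val h1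
      refine ⟨(a : H), ?_⟩
      rw [← h2]; group
    · intro hcam
      have hsurj : Function.Surjective φ := by
        rintro ⟨k, hk⟩
        obtain ⟨a, ha⟩ := hcam k hk
        have haT : a ∈ T := by
          show f a ∈ D
          apply Subgroup.mem_centralizer_singleton_iff.mpr
          have h1 : f (a * g * a⁻¹) = f (g * k) := congrArg f ha
          rw [map_mul, map_mul, map_inv, map_mul, (MonoidHom.mem_ker).mp hk, mul_one] at h1
          calc f a * f g = f a * f g * (f a)⁻¹ * f a := by group
            _ = f g * f a := by rw [h1]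
        refine ⟨Quotient.mk _ ⟨a, haT⟩, ?_⟩
        apply Subtype.ext
        show g⁻¹ * a * g * a⁻¹ = k
        calc g⁻¹ * a * g * a⁻¹ = g⁻¹ * (a * g * a⁻¹) := by group
          _ = g⁻¹ * (g * k) := by rw [ha]
          _ = k := by group
      have hcard : Nat.card (T ⧸ s) = Nat.card f.ker :=
        Nat.card_congr (Equiv.ofBijective φ ⟨hφinj, hsurj⟩)
      have h1 : Nat.card D * Nat.card f.ker = Nat.card C * Nat.card f.ker := by
        rw [hmain, hcard, mul_comm]
      exact Nat.eq_of_mul_eq_mul_right hkpos h1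

end Q

section Basic

variable {G : Type*} [Group G]

/-- the Camina condition on a subgroup `N` -/
def IsCam (N : Subgroup G) : Prop :=
  ∀ g : G, g ∉ N → ∀ n ∈ N, ∃ x : G, x * g * x⁻¹ = g * n

theorem IsCam.card_centralizer [Finite G] {N : Subgroup G} [N.Normal] (h : IsCam N) {g : G}
    (hg : g ∉ N) :
    Nat.card (Subgroup.centralizer ({(QuotientGroup.mk g : G ⧸ N)} : Set (G ⧸ N))) =
      Nat.card (Subgroup.centralizer ({g} : Set G)) := by
  have h1 := (card_centralizer_map (QuotientGroup.mk' N) (QuotientGroup.mk'_surjective N) g).2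
  apply h1.mpr
  intro k hk
  rw [QuotientGroup.ker_mk'] at hk
  exact h g hg k hk

/-- the supplement lemma -/
theorem IsCam.supplement [Finite G] {N : Subgroup G} [N.Normal] (h : IsCam N) {H : Subgroup G}
    (hHN : H ⊔ N = ⊤) {g : G} (hgH : g ∈ H) (hg : g ∉ N) :
    Subgroup.centralizer ({g} : Set G) ≤ H ∧
      ∀ n ∈ N, n ∈ H → ∃ a ∈ H, a * g * a⁻¹ = g * n := by
  classical
  let f2 : H →* G ⧸ N := (QuotientGroup.mk' N).comp H.subtype
  have hf2 : Function.Surjective f2 := by
    intro q
    obtain ⟨x, rfl⟩ := QuotientGroup.mk_surjective q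
    have hx : x ∈ H ⊔ N := by rw [hHN]; exact Subgroup.mem_top x
    rw [← SetLike.mem_coe, Subgroup.mul_normal, Set.mem_mul] at hx
    obtain ⟨a, ha, n, hn, rfl⟩ := hx
    refine ⟨⟨a, ha⟩, ?_⟩
    show (QuotientGroup.mk a : G ⧸ N) = QuotientGroup.mk (a * n)
    rw [QuotientGroup.eq]
    simpa using hn
  let g' : H := ⟨g, hgH⟩
  have hfg : f2 g' = (QuotientGroup.mk g : G ⧸ N) := rfl
  have hQ := card_centralizer_map f2 hf2 g'
  rw [hfg] at hQ
  have hF2 := h.card_centralizer hg
  let C' : Subgroup H := Subgroup.centralizer ({g'} : Set H)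
  have hmap_le : C'.map H.subtype ≤ Subgroup.centralizer ({g} : Set G) := by
    rintro _ ⟨a, ha, rfl⟩
    have ha' : a * g' = g' * a := Subgroup.mem_centralizer_singleton_iff.mp ha
    apply Subgroup.mem_centralizer_singleton_iff.mpr
    exact congrArg Subtype.val ha'
  have hcardmap : Nat.card (C'.map H.subtype) = Nat.card C' :=
    (Nat.card_congr (C'.equivMapOfInjective H.subtype H.subtype_injective).toEquiv).symm
  have hge : Nat.card (Subgroup.centralizer ({g} : Set G)) ≤ Nat.card (C'.map H.subtype) := by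
    rw [hcardmap, ← hF2]; exact hQ.1
  have heq : C'.map H.subtype = Subgroup.centralizer ({g} : Set G) :=
    Subgroup.eq_of_le_of_card_ge hmap_le hge
  refine ⟨?_, ?_⟩
  · rw [← heq]; exact Subgroup.map_subtype_le C'
  · intro n hn hnH
    have hcardeq : Nat.card (Subgroup.centralizer ({(QuotientGroup.mk g : G ⧸ N)} : Set (G ⧸ N))) =
        Nat.card C' := by
      rw [hF2, ← heq, hcardmap]
    have hcam := hQ.2.mp hcardeq
    have hk : (⟨n, hnH⟩ : H) ∈ f2.ker := by
      rw [MonoidHom.mem_ker]
      show (QuotientGroup.mk n : G ⧸ N) = 1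
      exact (QuotientGroup.eq_one_iff n).mpr hn
    obtain ⟨a, ha⟩ := hcam ⟨n, hnH⟩ hk
    exact ⟨a, a.2, congrArg Subtype.val ha⟩

end Basic

end Cfsg.Agent.helper7.Cam
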