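import Mathlib
import Cfsg.Agent.Lib_helper7_Cam1

set_option autoImplicit false

/-! Camina pairs, part 2: element orders, bad primes. -/

namespace Cfsg.Agent.helper7.Cam

variable {G : Type*} [Group G]

/-- a non-identity element of a finite group has a power of prime order -/
theorem exists_pow_prime_order [Finite G] {x : G} (hx : x ≠ 1) :
    ∃ t : ℕ, t.Prime ∧ t ∣ orderOf x ∧ ∃ k : ℕ, orderOf (x ^ k) = t := by
  have h1 : orderOf x ≠ 1 := fun h => hx (orderOf_eq_one_iff.mp h)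
  obtain ⟨t, ht, htd⟩ := Nat.exists_prime_and_dvd h1
  exact ⟨t, ht, htd, orderOf x / t, orderOf_pow_orderOf_div (orderOf_pos x).ne' htd⟩

/-- (F1) an element of prime order `t` of `N` centralized by `g ∉ N` forces `t ∣ o(gN)` -/
theorem IsCam.prime_dvd_orderOf_mk [Finite G] {N : Subgroup G} [N.Normal] (h : IsCam N) {g x : G}
    (hg : g ∉ N) (hx : x ∈ N) {t : ℕ} (ht : t.Prime) (hxt : orderOf x = t)
    (hc : g * x = x * g) : t ∣ orderOf (QuotientGroup.mk g : G ⧸ N) := by
  by_contra hnd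
  have ho : orderOf g ≠ 0 := (orderOf_pos g).ne'
  obtain ⟨e, b, hb, hob⟩ := Nat.exists_eq_pow_mul_and_not_dvd ho t ht.ne_one
  have hbpos : 0 < b := by
    rcases Nat.eq_zero_or_pos b with h0 | h0
    · rw [h0, mul_zero] at hob; exact absurd hob ho
    · exact h0
  have hg'N : g ^ (t ^ e) ∉ N := by
    intro hin
    have h1 : (QuotientGroup.mk g : G ⧸ N) ^ (t ^ e) = 1 := by
      rw [← QuotientGroup.mk_pow]; exact (QuotientGroup.eq_one_iff _).mpr hin
    have h2 : orderOf (QuotientGroup.mk g : G ⧸ N) ∣ t ^ e := orderOf_dvd_of_pow_eq_one h1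
    obtain ⟨j, _, hj⟩ := (Nat.dvd_prime_pow ht).mp h2
    have hj0 : j = 0 := by
      by_contra hj0
      apply hnd
      rw [hj]; exact dvd_pow_self t hj0
    rw [hj0, pow_zero] at hj
    have : (QuotientGroup.mk g : G ⧸ N) = 1 := orderOf_eq_one_iff.mp hj
    exact hg ((QuotientGroup.eq_one_iff g).mp this)
  have hog' : orderOf (g ^ (t ^ e)) = b := by
    rw [orderOf_pow, hob, Nat.gcd_eq_right (Dvd.intro _ rfl), Nat.mul_div_cancel_left _
      (pow_pos ht.pos e)]
  have hcomm : Commute (g ^ (t ^ e)) x := Commute.pow_left hc (t ^ e)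
  have hcop : (orderOf (g ^ (t ^ e))).Coprime (orderOf x) := by
    rw [hog', hxt]
    exact ((Nat.Prime.coprime_iff_not_dvd ht).mpr hb).symm
  have hmul : orderOf (g ^ (t ^ e) * x) = b * t := by
    rw [hcomm.orderOf_mul_eq_mul_orderOf_of_coprime hcop, hog', hxt]
  obtain ⟨a, ha⟩ := h (g ^ (t ^ e)) hg'N x hx
  have h3 : orderOf (g ^ (t ^ e) * x) = b := by
    rw [← ha, ← hog']
    have := (MulAut.conj a).orderOf_eq (g ^ (t ^ e))
    rwa [MulAut.conj_apply] at this
  rw [hmul] at h3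
  have : t = 1 := by
    have h4 : b * t = b * 1 := by rw [h3, mul_one]
    exact Nat.eq_of_mul_eq_mul_left hbpos h4
  exact ht.ne_one this

/-- elements outside `N` whose order mod `N` is coprime to `|S|` act fixed-point-freely on `S ≤ N` -/
theorem IsCam.fpf_sub [Finite G] {N : Subgroup G} [N.Normal] (h : IsCam N) {g : G} (hg : g ∉ N)
    {S : Subgroup G} (hSN : S ≤ N)
    (hcop : ∀ t : ℕ, t.Prime → t ∣ orderOf (QuotientGroup.mk g : G ⧸ N) → ¬ t ∣ Nat.card S)
    {x : G} (hx : x ∈ S) (hc : g * x = x * g) : x = 1 := by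
  by_contra hx1
  obtain ⟨t, ht, htd, k, hk⟩ := exists_pow_prime_order hx1
  have hxk : x ^ k ∈ S := S.pow_mem hx k
  have hc' : g * x ^ k = x ^ k * g := (Commute.pow_right (show Commute g x from hc) k)
  have h1 := h.prime_dvd_orderOf_mk hg (hSN hxk) ht hk hc'
  apply hcop t ht h1
  have h2 : orderOf (⟨x ^ k, hxk⟩ : S) = t := by
    rw [← hk]; exact Subgroup.orderOf_mk (x ^ k) hxk
  rw [← h2]
  exact orderOf_dvd_natCard _

/-- a bad prime for `N`: some element of that prime order in `N` is centralized from outside `N` -/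
def Bad (N : Subgroup G) (t : ℕ) : Prop :=
  t.Prime ∧ ∃ x ∈ N, orderOf x = t ∧ ∃ y : G, y ∉ N ∧ y * x = x * y

theorem Bad.dvd_card {N : Subgroup G} {t : ℕ} (h : Bad N t) : t ∣ Nat.card N := by
  obtain ⟨_, x, hx, hxt, _⟩ := h
  have h2 : orderOf (⟨x, hx⟩ : N) = t := by
    rw [← hxt]; exact Subgroup.orderOf_mk x hx
  rw [← h2]
  exact orderOf_dvd_natCard _

theorem Bad.dvd_index [Finite G] {N : Subgroup G} [N.Normal] (hc : IsCam N) {t : ℕ}
    (h : Bad N t) : t ∣ N.index := by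
  obtain ⟨ht, x, hx, hxt, y, hy, hyx⟩ := h
  have h1 := hc.prime_dvd_orderOf_mk hy hx ht hxt hyx
  rw [Subgroup.index_eq_card]
  exact h1.trans (orderOf_dvd_natCard _)

/-- if the Frobenius-type conclusion fails there is a bad prime -/
theorem exists_bad [Finite G] {N : Subgroup G}
    (h : ¬ ∀ x ∈ N, x ≠ 1 → Subgroup.centralizer ({x} : Set G) ≤ N) : ∃ t, Bad N t := by
  push Not at h
  obtain ⟨x, hx, hx1, hcen⟩ := h
  obtain ⟨y, hy, hyN⟩ := SetLike.not_le_iff_exists.mp hcen
  have hyx : y * x = x * y := Subgroup.mem_centralizer_singleton_iff.mp hy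
  obtain ⟨t, ht, _, k, hk⟩ := exists_pow_prime_order hx1
  exact ⟨t, ht, x ^ k, N.pow_mem hx k, hk, y, hyN, Commute.pow_right (show Commute y x from hyx) k⟩

/-- a nontrivial normal subgroup of a finite `p`-group meets the centre nontrivially -/
theorem exists_central_of_normal {P : Type*} [Group P] [Finite P] {p : ℕ} [Fact p.Prime]
    (hP : IsPGroup p P) (M : Subgroup P) [M.Normal] (hM : M ≠ ⊥) :
    ∃ z ∈ M, z ≠ 1 ∧ ∀ g : P, g * z = z * g := by
  have hp : p.Prime := Fact.out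
  let _ : MulAction P ↥M := MulAction.compHom ↥M (MulAut.conjNormal (H := M))
  have hsmul : ∀ (g : P) (n : M), ((g • n : M) : P) = g * n * g⁻¹ :=
    fun g n => MulAut.conjNormal_apply g n
  have h1 := hP.card_modEq_card_fixedPoints ↥M
  have hMnt : Nontrivial ↥M := (Subgroup.nontrivial_iff_ne_bot M).2 hM
  obtain ⟨k, hk⟩ := IsPGroup.iff_card.1 (hP.to_subgroup M)
  have hk0 : k ≠ 0 := by
    intro h0
    rw [h0, pow_zero] at hk
    exact not_subsingleton ↥M (Nat.card_eq_one_iff_unique.1 hk).1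
  have hdvd : p ∣ Nat.card ↥M := by rw [hk]; exact dvd_pow_self p hk0
  have h2 : p ∣ Nat.card (MulAction.fixedPoints P ↥M) := by
    rw [← Nat.modEq_zero_iff_dvd] at hdvd ⊢
    exact h1.symm.trans hdvd
  by_contra hcon
  push Not at hcon
  have h3 : MulAction.fixedPoints P ↥M ⊆ {1} := by
    intro n hn
    rw [MulAction.mem_fixedPoints] at hn
    by_contra hn1
    have hn1' : (n : P) ≠ 1 := fun h => hn1 (Subtype.ext h)
    obtain ⟨g, hg⟩ := hcon n n.2 hn1'
    apply hg
    have := hsmul g n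
    rw [hn g] at this
    calc g * (n : P) = g * n * g⁻¹ * g := by group
      _ = n * g := by rw [← this]
  have h4 : Nat.card (MulAction.fixedPoints P ↥M) ≤ 1 := by
    have := Nat.card_mono (Set.finite_singleton (1 : ↥M)) h3
    simpa using this
  have h5 : (1 : ↥M) ∈ MulAction.fixedPoints P ↥M := by
    rw [MulAction.mem_fixedPoints]
    intro g
    apply Subtype.ext
    rw [hsmul]; simp
  have h6 : 0 < Nat.card (MulAction.fixedPoints P ↥M) := by
    have : Nonempty (MulAction.fixedPoints P ↥M) := ⟨⟨1, h5⟩⟩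
    exact Nat.card_pos
  have h7 : Nat.card (MulAction.fixedPoints P ↥M) = 1 := by omega
  rw [h7] at h2
  exact hp.one_lt.ne' (Nat.dvd_one.1 h2)

/-- a prime dividing both `|N|` and `|G : N|` is bad -/
theorem bad_of_dvd_both [Finite G] {N : Subgroup G} [N.Normal] {t : ℕ} (ht : t.Prime)
    (h1 : t ∣ Nat.card N) (h2 : t ∣ N.index) : Bad N t := by
  haveI : Fact t.Prime := ⟨ht⟩
  obtain ⟨x0, hx0⟩ := exists_prime_orderOf_dvd_card' (G := N) t h1
  have hx0' : orderOf (x0 : G) = t := by rw [← hx0]; exact (Subgroup.orderOf_coe x0)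
  have hpg : IsPGroup t (Subgroup.zpowers (x0 : G)) := by
    apply IsPGroup.of_card (n := 1)
    rw [Nat.card_zpowers, hx0', pow_one]
  obtain ⟨Q, hQ⟩ := hpg.exists_le_sylow
  have hx0Q : (x0 : G) ∈ (Q : Subgroup G) := hQ (Subgroup.mem_zpowers _)
  -- `Q` is not inside `N`
  have hQN : ¬ (Q : Subgroup G) ≤ N := by
    intro hle
    have h3 : N.index ∣ (Q : Subgroup G).index := Subgroup.index_dvd_of_le hle
    exact Q.not_dvd_index (h2.trans h3)
  obtain ⟨y, hyQ, hyN⟩ := SetLike.not_le_iff_exists.mp hQN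
  -- the normal subgroup `N ∩ Q` of `Q`
  let M : Subgroup (Q : Subgroup G) := N.subgroupOf (Q : Subgroup G)
  have hMne : M ≠ ⊥ := by
    intro hbot
    have hmem : (⟨(x0 : G), hx0Q⟩ : (Q : Subgroup G)) ∈ M := Subgroup.mem_subgroupOf.mpr x0.2
    rw [hbot, Subgroup.mem_bot] at hmem
    have h4 : (x0 : G) = 1 := congrArg Subtype.val hmem
    rw [h4, orderOf_one] at hx0'
    exact ht.ne_one hx0'.symm
  obtain ⟨z, hzM, hz1, hzc⟩ := exists_central_of_normal (p := t) Q.isPGroup' M hMne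
  have hz1' : (z : G) ≠ 1 := fun h => hz1 (Subtype.ext h)
  obtain ⟨t', ht', htd', k, hk⟩ := exists_pow_prime_order hz1'
  have htt : t' = t := by
    have h5 : orderOf (z : G) ∣ Nat.card (Q : Subgroup G) := by
      rw [Subgroup.orderOf_coe z]; exact orderOf_dvd_natCard _
    obtain ⟨n, hn⟩ := IsPGroup.iff_card.mp Q.isPGroup'
    rw [hn] at h5
    exact (Nat.prime_dvd_prime_iff_eq ht' ht).mp (ht'.dvd_of_dvd_pow (htd'.trans h5))
  refine ⟨ht, (z : G) ^ k, N.pow_mem (Subgroup.mem_subgroupOf.mp hzM) k, htt ▸ hk, y, hyN, ?_⟩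
  have h6 : (⟨y, hyQ⟩ : (Q : Subgroup G)) * z = z * ⟨y, hyQ⟩ := hzc ⟨y, hyQ⟩
  have h7 : y * (z : G) = (z : G) * y := congrArg Subtype.val h6
  exact Commute.pow_right (show Commute y (z : G) from h7) k

end Cfsg.Agent.helper7.Cam
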