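import Mathlib

set_option autoImplicit false

/-! Camina pairs, part 3: two fixed-point lemmas for automorphisms of finite abelian groups. -/

namespace Cfsg.Agent.helper7.Cam

open Finset

section Norm

variable {W : Type*} [CommGroup W]

/-- the "norm" of `w` along the powers `γ^0, …, γ^(n-1)` -/
def nrm (γ : MulAut W) (n : ℕ) (w : W) : W := ∏ i ∈ range n, (γ ^ i) w

theorem nrm_fixed (γ : MulAut W) (n : ℕ) (hγ : γ ^ n = 1) (w : W) : γ (nrm γ n w) = nrm γ n w := by
  unfold nrm
  rw [map_prod]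
  have h1 : ∀ i ∈ range n, γ ((γ ^ i) w) = (γ ^ (i + 1)) w := by
    intro i _
    rw [pow_succ', MulAut.mul_apply]
  rw [prod_congr rfl h1]
  have h2 := prod_range_succ (fun i => (γ ^ i) w) n
  have h3 := prod_range_succ' (fun i => (γ ^ i) w) n
  rw [h2] at h3
  simp only [hγ, pow_zero] at h3
  exact (mul_right_cancel h3).symm

theorem nrm_one_left (n : ℕ) (w : W) : nrm (1 : MulAut W) n w = w ^ n := by
  unfold nrm
  simp

/-- the product over `0 < i < n` -/
theorem prod_pos_eq (γ : MulAut W) (n : ℕ) (w : W) :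
    nrm γ (n + 1) w = w * ∏ i ∈ range n, (γ ^ (i + 1)) w := by
  unfold nrm
  rw [prod_range_succ', pow_zero, MulAut.one_apply, mul_comm]

end Norm

section EA

variable {W : Type*} [CommGroup W]

/-- an elementary abelian group of order `p²` cannot act on a nontrivial abelian `p'`-group with all
non-identity elements acting fixed-point-freely -/
theorem elem_abelian_fpf (α β : MulAut W) (p : ℕ) (hp : p.Prime)
    (hcomm : α * β = β * α) (hα : α ^ p = 1) (hβ : β ^ p = 1)
    (hfpf : ∀ i j : ℕ, ¬ (p ∣ i ∧ p ∣ j) → ∀ w : W, (α ^ i * β ^ j) w = w → w = 1)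
    (hcop : ∀ w : W, w ^ p = 1 → w = 1) : ∀ w : W, w = 1 := by
  intro w
  have hc : Commute α β := hcomm
  have hB : ∀ i j : ℕ, ¬ (p ∣ i ∧ p ∣ j) → ∀ w : W, nrm (α ^ i * β ^ j) p w = 1 := by
    intro i j hij w
    apply hfpf i j hij
    apply nrm_fixed
    have hc2 : Commute (α ^ i) (β ^ j) := (hc.pow_left i).pow_right j
    rw [hc2.mul_pow, ← pow_mul, ← pow_mul, mul_comm i p, mul_comm j p, pow_mul, pow_mul, hα, hβ,
      one_pow, one_pow, one_mul]
  -- step C
  have hC : ∏ i ∈ range p, nrm (α ^ 1 * β ^ i) p w = ∏ k ∈ range p, (α ^ k) (nrm (β ^ k) p w) := by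
    unfold nrm
    rw [prod_comm]
    apply prod_congr rfl
    intro k _
    rw [map_prod]
    apply prod_congr rfl
    intro i _
    have hc2 : Commute (α ^ 1) (β ^ i) := (hc.pow_left 1).pow_right i
    rw [hc2.mul_pow, pow_one, MulAut.mul_apply, ← pow_mul, ← pow_mul, mul_comm i k]
  have hL : ∏ i ∈ range p, nrm (α ^ 1 * β ^ i) p w = 1 := by
    apply prod_eq_one
    intro i _
    apply hB 1 i
    rintro ⟨h1, _⟩
    exact hp.one_lt.ne' (Nat.dvd_one.mp h1)
  have hR : ∏ k ∈ range p, (α ^ k) (nrm (β ^ k) p w) = w ^ p := by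
    obtain ⟨m, rfl⟩ : ∃ m, p = m + 1 := ⟨p - 1, (Nat.succ_pred_eq_of_pos hp.pos).symm⟩
    rw [prod_range_succ']
    have h0 : ∏ k ∈ range m, (α ^ (k + 1)) (nrm (β ^ (k + 1)) (m + 1) w) = 1 := by
      apply prod_eq_one
      intro k hk
      have hk' : k < m := mem_range.mp hk
      have h1 : nrm (β ^ (k + 1)) (m + 1) w = 1 := by
        have := hB 0 (k + 1) (by
          rintro ⟨_, h2⟩
          exact Nat.not_dvd_of_pos_of_lt (Nat.succ_pos k) (by omega) h2) w
        rwa [pow_zero, one_mul] at this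
      rw [h1, map_one]
    rw [h0, one_mul, pow_zero, pow_zero, MulAut.one_apply, nrm_one_left]
  apply hcop
  rw [← hR, ← hC, hL]

end EA

section FM

variable {G W : Type*} [Group G] [CommGroup W] [Finite W]

/-- a Frobenius group `F ⋊ ⟨h⟩` acting on an abelian group of order prime to `|F|` with all elements
outside `F` acting fixed-point-freely: then `F` acts trivially -/
theorem frob_module (ρ : G →* MulAut W) (F : Subgroup G) [Finite F] (h : G) (q : ℕ)
    (hq : q.Prime) (hhq : h ^ q = 1) (hhF : ∀ f ∈ F, h * f * h⁻¹ ∈ F)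
    (hfpf : ∀ f ∈ F, ∀ i, 0 < i → i < q → ∀ w : W, ρ (f * h ^ i) w = w → w = 1)
    (hcen : ∀ f ∈ F, ∀ i, 0 < i → i < q → h ^ i * f = f * h ^ i → f = 1)
    (hcop : (Nat.card F).Coprime (Nat.card W)) : ∀ f ∈ F, ∀ w, ρ f w = w := by
  classical
  haveI : Fintype F := Fintype.ofFinite F
  obtain ⟨m, rfl⟩ : ∃ m, q = m + 1 := ⟨q - 1, (Nat.succ_pred_eq_of_pos hq.pos).symm⟩
  have hm : 0 < m := by
    have := hq.one_lt; omega
  -- conjugation by powers of `h` preserves `F`
  have hconj : ∀ i : ℕ, ∀ f ∈ F, h ^ i * f * (h ^ i)⁻¹ ∈ F := by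
    intro i
    induction i with
    | zero => intro f hf; simpa using hf
    | succ i ih =>
      intro f hf
      have := hhF _ (ih f hf)
      have h2 : h ^ (i + 1) * f * (h ^ (i + 1))⁻¹ = h * (h ^ i * f * (h ^ i)⁻¹) * h⁻¹ := by
        rw [pow_succ']; group
      rw [h2]; exact this
  -- the norm along `h` is trivial
  have hρq : (ρ h) ^ (m + 1) = 1 := by rw [← map_pow, hhq, map_one]
  have hT : ∀ w : W, nrm (ρ h) (m + 1) w = 1 := by
    intro w
    have h1 := nrm_fixed (ρ h) (m + 1) hρq w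
    have h2 := hfpf 1 F.one_mem 1 Nat.one_pos (by omega) (nrm (ρ h) (m + 1) w)
    rw [one_mul, pow_one] at h2
    exact h2 h1
  have hTpos : ∀ w : W, ∏ i ∈ range m, ((ρ h) ^ (i + 1)) w = w⁻¹ := by
    intro w
    have h1 := prod_pos_eq (ρ h) m w
    rw [hT w] at h1
    exact eq_inv_of_mul_eq_one_right h1.symm
  intro f0 hf0 w0
  -- the key identity
  have key : ∀ w : W, ∏ f : F, ρ (f : G) w = w ^ Fintype.card F := by
    intro w
    -- the double product
    have way1 : ∏ i ∈ range (m + 1), ∏ f : F, ρ ((f : G) * h ^ i) w = 1 := by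
      rw [prod_comm]
      apply prod_eq_one
      intro f _
      have h1 : ∀ i ∈ range (m + 1), ρ ((f : G) * h ^ i) w = ρ (f : G) (((ρ h) ^ i) w) := by
        intro i _
        rw [map_mul, map_pow, MulAut.mul_apply]
      rw [prod_congr rfl h1, ← map_prod]
      have : ∏ i ∈ range (m + 1), ((ρ h) ^ i) w = nrm (ρ h) (m + 1) w := rfl
      rw [this, hT, map_one]
    have way2 : ∏ i ∈ range (m + 1), ∏ f : F, ρ ((f : G) * h ^ i) w =
        (∏ f : F, ρ (f : G) w) * (w ^ Fintype.card F)⁻¹ := by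
      rw [prod_range_succ']
      simp only [pow_zero, mul_one]
      rw [mul_comm]
      congr 1
      -- the terms with `0 < i`
      have hterm : ∀ i ∈ range m, ∏ f : F, ρ ((f : G) * h ^ (i + 1)) w =
          ∏ u : F, ρ ((u : G) * h ^ (i + 1) * (u : G)⁻¹) w := by
        intro i hi
        have hi' : i < m := mem_range.mp hi
        let θ : F → F := fun u => ⟨(u : G) * (h ^ (i + 1) * (u : G)⁻¹ * (h ^ (i + 1))⁻¹),
          F.mul_mem u.2 (hconj (i + 1) _ (F.inv_mem u.2))⟩
        have hθinj : Function.Injective θ := by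
          intro u v huv
          have h1 : (u : G) * (h ^ (i + 1) * (u : G)⁻¹ * (h ^ (i + 1))⁻¹) =
              (v : G) * (h ^ (i + 1) * (v : G)⁻¹ * (h ^ (i + 1))⁻¹) := congrArg Subtype.val huv
          have h2 : h ^ (i + 1) * ((v : G)⁻¹ * (u : G)) = ((v : G)⁻¹ * (u : G)) * h ^ (i + 1) := by
            have h3 : (u : G) * h ^ (i + 1) * (u : G)⁻¹ = (v : G) * h ^ (i + 1) * (v : G)⁻¹ := by
              have := congrArg (fun x => x * h ^ (i + 1)) h1
              simpa [mul_assoc] using this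
            calc h ^ (i + 1) * ((v : G)⁻¹ * (u : G))
                = (v : G)⁻¹ * ((v : G) * h ^ (i + 1) * (v : G)⁻¹) * (u : G) := by group
              _ = (v : G)⁻¹ * ((u : G) * h ^ (i + 1) * (u : G)⁻¹) * (u : G) := by rw [h3]
              _ = ((v : G)⁻¹ * (u : G)) * h ^ (i + 1) := by group
          have h4 := hcen ((v : G)⁻¹ * (u : G)) (F.mul_mem (F.inv_mem v.2) u.2) (i + 1)
            (Nat.succ_pos i) (by omega) h2
          apply Subtype.ext
          have : (u : G) = (v : G) * ((v : G)⁻¹ * (u : G)) := by group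
          rw [this, h4, mul_one]
        have hθbij : Function.Bijective θ := Finite.injective_iff_bijective.mp hθinj
        rw [← Function.Bijective.prod_comp hθbij (fun f : F => ρ ((f : G) * h ^ (i + 1)) w)]
        apply prod_congr rfl
        intro u _
        congr 2
        show (u : G) * (h ^ (i + 1) * (u : G)⁻¹ * (h ^ (i + 1))⁻¹) * h ^ (i + 1) = _
        group
      rw [prod_congr rfl hterm, prod_comm]
      have hu : ∀ u ∈ (univ : Finset F), ∏ i ∈ range m, ρ ((u : G) * h ^ (i + 1) * (u : G)⁻¹) w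
          = w⁻¹ := by
        intro u _
        have h1 : ∀ i ∈ range m, ρ ((u : G) * h ^ (i + 1) * (u : G)⁻¹) w =
            ρ (u : G) (((ρ h) ^ (i + 1)) ((ρ (u : G))⁻¹ w)) := by
          intro i _
          rw [map_mul, map_mul, map_pow, map_inv, MulAut.mul_apply, MulAut.mul_apply]
        rw [prod_congr rfl h1, ← map_prod, hTpos, map_inv, MulAut.apply_inv_self]
      rw [prod_congr rfl hu, prod_const, card_univ, inv_pow]
    rw [way1] at way2
    exact (mul_inv_eq_one.mp way2.symm)
  -- `w ^ |F|` is fixed by `F`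
  have hfix : ∀ w : W, ρ f0 (w ^ Fintype.card F) = w ^ Fintype.card F := by
    intro w
    rw [← key w, map_prod]
    have h1 : ∀ f ∈ (univ : Finset F), ρ f0 (ρ (f : G) w) =
        ρ (((⟨f0, hf0⟩ : F) * f : F) : G) w := by
      intro f _
      rw [Subgroup.coe_mul, map_mul, MulAut.mul_apply]
    rw [prod_congr rfl h1]
    exact Function.Bijective.prod_comp (Group.mulLeft_bijective (⟨f0, hf0⟩ : F))
      (fun f : F => ρ (f : G) w)
  -- every element is a `|F|`-th power
  have hcop' : (Nat.card W).Coprime (Fintype.card F) := by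
    rw [← Nat.card_eq_fintype_card]; exact hcop.symm
  obtain ⟨w1, hw1⟩ := (powCoprime hcop').surjective w0
  rw [powCoprime_apply] at hw1
  rw [← hw1]
  exact hfix w1

end FM

end Cfsg.Agent.helper7.Cam
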