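import Mathlib
import Cfsg.Agent.Lib_helper7_Cam2

set_option autoImplicit false

/-! Camina pairs, part 4: a rank two elementary abelian `p`-subgroup in the quotient. -/

namespace Cfsg.Agent.helper7.Cam

variable {G : Type*} [Group G] [Finite G]

/-- lifting a `p`-element of the quotient to a `p`-element -/
theorem exists_lift_pelement {N : Subgroup G} [N.Normal] {p : ℕ} (hp : p.Prime) (z : G ⧸ N)
    {j : ℕ} (hz : orderOf z = p ^ j) :
    ∃ y : G, (∃ e, orderOf y = p ^ e) ∧ orderOf (QuotientGroup.mk y : G ⧸ N) = p ^ j := by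
  obtain ⟨y0, rfl⟩ := QuotientGroup.mk_surjective z
  have ho : orderOf y0 ≠ 0 := (orderOf_pos y0).ne'
  obtain ⟨e, r, hr, hor⟩ := Nat.exists_eq_pow_mul_and_not_dvd ho p hp.ne_one
  have hrpos : 0 < r := by
    rcases Nat.eq_zero_or_pos r with h0 | h0
    · rw [h0, mul_zero] at hor; exact absurd hor ho
    · exact h0
  refine ⟨y0 ^ r, ⟨e, ?_⟩, ?_⟩
  · rw [orderOf_pow, hor, Nat.gcd_eq_right (Dvd.intro_left _ rfl), Nat.mul_div_cancel _ hrpos]
  · rw [QuotientGroup.mk_pow, Nat.Coprime.orderOf_pow]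
    · exact hz
    · rw [hz]
      exact Nat.Coprime.pow_left j ((Nat.Prime.coprime_iff_not_dvd hp).mpr hr)

/-- in a Camina pair, if `p` divides `|N|` and `|G : N|` then `G / N` contains `C_p × C_p` -/
theorem exists_rank_two {N : Subgroup G} [N.Normal] (hc : IsCam N) {p : ℕ} [hpf : Fact p.Prime]
    (hpN : p ∣ Nat.card N) (hpI : p ∣ N.index) :
    ∃ a b : G ⧸ N, a ^ p = 1 ∧ b ^ p = 1 ∧ a * b = b * a ∧
      ∀ i j : ℕ, a ^ i * b ^ j = 1 → p ∣ i ∧ p ∣ j := by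
  classical
  have hp : p.Prime := hpf.out
  haveI : Fintype G := Fintype.ofFinite G
  let 𝒮 : Finset G := Finset.univ.filter (fun y => ∃ e, orderOf y = p ^ e)
  have h1mem : (1 : G) ∈ 𝒮 := Finset.mem_filter.mpr ⟨Finset.mem_univ _, 0, by simp⟩
  obtain ⟨y, hy𝒮, hymax⟩ := Finset.exists_max_image 𝒮
    (fun y => orderOf (QuotientGroup.mk y : G ⧸ N)) ⟨1, h1mem⟩
  obtain ⟨e, hye⟩ := (Finset.mem_filter.mp hy𝒮).2
  have hyb_dvd : orderOf (QuotientGroup.mk y : G ⧸ N) ∣ p ^ e := by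
    rw [← hye]; exact orderOf_map_dvd (QuotientGroup.mk' N) y
  obtain ⟨k, hke, hk⟩ := (Nat.dvd_prime_pow hp).mp hyb_dvd
  have hmax : ∀ z : G ⧸ N, (∃ j, orderOf z = p ^ j) → orderOf z ≤ p ^ k := by
    rintro z ⟨j, hj⟩
    obtain ⟨y', ⟨e', he'⟩, hy'⟩ := exists_lift_pelement hp z hj
    have h1 := hymax y' (Finset.mem_filter.mpr ⟨Finset.mem_univ _, e', he'⟩)
    have h2 : orderOf (QuotientGroup.mk y' : G ⧸ N) ≤ orderOf (QuotientGroup.mk y : G ⧸ N) := h1
    rw [hy', hk] at h2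
    rw [hj]; exact h2
  have hk1 : 1 ≤ k := by
    rw [Subgroup.index_eq_card] at hpI
    obtain ⟨z, hz⟩ := exists_prime_orderOf_dvd_card' (G := G ⧸ N) p hpI
    have h1 := hmax z ⟨1, by rw [hz, pow_one]⟩
    rw [hz] at h1
    by_contra hk0
    have : k = 0 := by omega
    rw [this, pow_zero] at h1
    exact absurd h1 (not_le.mpr hp.one_lt)
  have hyN : y ∉ N := by
    intro hin
    have h1 : (QuotientGroup.mk y : G ⧸ N) = 1 := (QuotientGroup.eq_one_iff y).mpr hin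
    rw [h1, orderOf_one] at hk
    have : 1 < p ^ k := Nat.one_lt_pow (by omega) hp.one_lt
    omega
  -- a Sylow subgroup containing `y`
  have hpg : IsPGroup p (Subgroup.zpowers y) :=
    IsPGroup.of_card (n := e) (by rw [Nat.card_zpowers, hye])
  obtain ⟨P, hP⟩ := hpg.exists_le_sylow
  have hyP : y ∈ (P : Subgroup G) := hP (Subgroup.mem_zpowers y)
  -- `P ∩ N` is nontrivial
  obtain ⟨x0, hx0⟩ := exists_prime_orderOf_dvd_card' (G := N) p hpN
  have hx0' : orderOf (x0 : G) = p := by rw [← hx0]; exact Subgroup.orderOf_coe x0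
  have hpg1 : IsPGroup p (Subgroup.zpowers (x0 : G)) :=
    IsPGroup.of_card (n := 1) (by rw [Nat.card_zpowers, hx0', pow_one])
  obtain ⟨P1, hP1⟩ := hpg1.exists_le_sylow
  obtain ⟨g, hg⟩ := MulAction.exists_smul_eq G P1 P
  have hx1P : g * (x0 : G) * g⁻¹ ∈ (P : Subgroup G) := by
    rw [← hg, Sylow.coe_subgroup_smul]
    have := Subgroup.smul_mem_pointwise_smul (x0 : G) (MulAut.conj g) (P1 : Subgroup G)
      (hP1 (Subgroup.mem_zpowers _))
    rwa [MulAut.smul_def, MulAut.conj_apply] at this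
  have hx1N : g * (x0 : G) * g⁻¹ ∈ N := ‹N.Normal›.conj_mem _ x0.2 g
  have hx1ne : g * (x0 : G) * g⁻¹ ≠ 1 := by
    intro h
    have h2 : (x0 : G) = 1 := conj_eq_one_iff.mp h
    rw [h2, orderOf_one] at hx0'
    exact hp.ne_one hx0'.symm
  let M : Subgroup (P : Subgroup G) := N.subgroupOf (P : Subgroup G)
  have hMne : M ≠ ⊥ := by
    intro hbot
    have hmem : (⟨g * (x0 : G) * g⁻¹, hx1P⟩ : (P : Subgroup G)) ∈ M :=
      Subgroup.mem_subgroupOf.mpr hx1N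
    rw [hbot, Subgroup.mem_bot] at hmem
    exact hx1ne (congrArg Subtype.val hmem)
  obtain ⟨z, hzM, hz1, hzc⟩ := exists_central_of_normal (p := p) P.isPGroup' M hMne
  have hzN : (z : G) ∈ N := Subgroup.mem_subgroupOf.mp hzM
  have hz1' : (z : G) ≠ 1 := fun h => hz1 (Subtype.ext h)
  have hzy : y * (z : G) = (z : G) * y := congrArg Subtype.val (hzc ⟨y, hyP⟩)
  -- the abelian `p`-group `E`
  let E : Subgroup G := Subgroup.zpowers y ⊔ Subgroup.zpowers (z : G)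
  have hEP : E ≤ P := sup_le hP (Subgroup.zpowers_le.mpr z.2)
  have hEC : E ≤ Subgroup.centralizer ({y} : Set G) :=
    sup_le (Subgroup.zpowers_le.mpr (Subgroup.mem_centralizer_singleton_iff.mpr rfl))
      (Subgroup.zpowers_le.mpr (Subgroup.mem_centralizer_singleton_iff.mpr hzy.symm))
  obtain ⟨e', hE⟩ := IsPGroup.iff_card.mp (P.isPGroup'.to_le hEP)
  have hke' : k + 1 ≤ e' := by
    have h1 : Nat.card (Subgroup.zpowers y) ∣ Nat.card E := Subgroup.card_dvd_of_le le_sup_left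
    rw [Nat.card_zpowers, hye, hE] at h1
    have hee' : e ≤ e' := (Nat.pow_dvd_pow_iff_le_right hp.one_lt).mp h1
    by_contra hcon
    have hek : e = k := by omega
    have he'k : e' = k := by omega
    have hEq : Subgroup.zpowers y = E :=
      Subgroup.eq_of_le_of_card_ge le_sup_left (by rw [Nat.card_zpowers, hye, hE, hek, he'k])
    have hzmem : (z : G) ∈ Subgroup.zpowers y := by
      rw [hEq]; exact (le_sup_right : Subgroup.zpowers (z : G) ≤ E) (Subgroup.mem_zpowers _)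
    have hfin : IsOfFinOrder y := isOfFinOrder_of_finite y
    obtain ⟨m, hm⟩ := (Submonoid.mem_powers_iff _ _).mp (hfin.mem_powers_iff_mem_zpowers.mpr hzmem)
    have h2 : (QuotientGroup.mk y : G ⧸ N) ^ m = 1 := by
      rw [← QuotientGroup.mk_pow, hm]; exact (QuotientGroup.eq_one_iff _).mpr hzN
    have h3 : p ^ k ∣ m := hk ▸ orderOf_dvd_of_pow_eq_one h2
    have h4 : y ^ m = 1 := by
      apply orderOf_dvd_iff_pow_eq_one.mp
      rw [hye, hek]; exact h3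
    exact hz1' (hm ▸ h4)
  have hdvdC : p ^ (k + 1) ∣
      Nat.card (Subgroup.centralizer ({(QuotientGroup.mk y : G ⧸ N)} : Set (G ⧸ N))) := by
    rw [hc.card_centralizer hyN]
    have h1 : Nat.card E ∣ Nat.card (Subgroup.centralizer ({y} : Set G)) :=
      Subgroup.card_dvd_of_le hEC
    rw [hE] at h1
    exact (pow_dvd_pow p hke').trans h1
  obtain ⟨D, hD⟩ := Sylow.exists_subgroup_card_pow_prime p hdvdC
  have hexd : ∃ d : (Subgroup.centralizer ({(QuotientGroup.mk y : G ⧸ N)} : Set (G ⧸ N))),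
      d ∈ D ∧ (d : G ⧸ N) ∉ Subgroup.zpowers (QuotientGroup.mk y : G ⧸ N) := by
    by_contra hno
    push Not at hno
    have hle : D.map (Subgroup.subtype _) ≤ Subgroup.zpowers (QuotientGroup.mk y : G ⧸ N) := by
      rintro _ ⟨d, hd, rfl⟩; exact hno d hd
    have h1 := Subgroup.card_dvd_of_le hle
    have h2 : Nat.card (D.map (Subgroup.subtype _)) = Nat.card D :=
      (Nat.card_congr (D.equivMapOfInjective _ (Subgroup.subtype_injective _)).toEquiv).symm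
    rw [h2, hD, Nat.card_zpowers, hk] at h1
    have := (Nat.pow_dvd_pow_iff_le_right hp.one_lt).mp h1
    omega
  obtain ⟨d0, hd0D, hd0⟩ := hexd
  have hdy : (d0 : G ⧸ N) * (QuotientGroup.mk y : G ⧸ N) = QuotientGroup.mk y * (d0 : G ⧸ N) :=
    Subgroup.mem_centralizer_singleton_iff.mp d0.2
  have hdo : ∃ j, orderOf (d0 : G ⧸ N) = p ^ j := by
    have h1 : orderOf (⟨d0, hd0D⟩ : D) ∣ Nat.card D := orderOf_dvd_natCard _
    rw [hD, Subgroup.orderOf_mk, ← Subgroup.orderOf_coe] at h1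
    obtain ⟨j, _, hj⟩ := (Nat.dvd_prime_pow hp).mp h1
    exact ⟨j, hj⟩
  -- minimal power lying in `⟨ȳ⟩`
  have hex : ∃ i, (d0 : G ⧸ N) ^ (p ^ i) ∈ Subgroup.zpowers (QuotientGroup.mk y : G ⧸ N) := by
    obtain ⟨j, hj⟩ := hdo
    exact ⟨j, by rw [← hj, pow_orderOf_eq_one]; exact one_mem _⟩
  have hi : (d0 : G ⧸ N) ^ (p ^ (Nat.find hex)) ∈
      Subgroup.zpowers (QuotientGroup.mk y : G ⧸ N) := Nat.find_spec hex
  have hi0 : Nat.find hex ≠ 0 := by
    intro h0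
    rw [h0, pow_zero, pow_one] at hi
    exact hd0 hi
  obtain ⟨i', hi'⟩ : ∃ i', Nat.find hex = i' + 1 := Nat.exists_eq_succ_of_ne_zero hi0
  have hd1 : (d0 : G ⧸ N) ^ (p ^ i') ∉ Subgroup.zpowers (QuotientGroup.mk y : G ⧸ N) :=
    Nat.find_min hex (by omega : i' < Nat.find hex)
  have hd1p : ((d0 : G ⧸ N) ^ (p ^ i')) ^ p ∈ Subgroup.zpowers (QuotientGroup.mk y : G ⧸ N) := by
    have : ((d0 : G ⧸ N) ^ (p ^ i')) ^ p = (d0 : G ⧸ N) ^ (p ^ (Nat.find hex)) := by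
      rw [← pow_mul, hi', pow_succ]
    rw [this]; exact hi
  have hcy : Commute ((d0 : G ⧸ N) ^ (p ^ i')) (QuotientGroup.mk y : G ⧸ N) :=
    Commute.pow_left hdy _
  have hd1o : ((d0 : G ⧸ N) ^ (p ^ i')) ^ (p ^ k) = 1 := by
    obtain ⟨j, hj⟩ := hdo
    have h1 : orderOf ((d0 : G ⧸ N) ^ (p ^ i')) ∣ p ^ j := by rw [← hj]; exact orderOf_pow_dvd _
    obtain ⟨j1, _, hj1⟩ := (Nat.dvd_prime_pow hp).mp h1
    have h2 := hmax _ ⟨j1, hj1⟩
    rw [hj1] at h2
    have h3 : j1 ≤ k := (Nat.pow_le_pow_iff_right hp.one_lt).mp h2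
    apply orderOf_dvd_iff_pow_eq_one.mp
    rw [hj1]; exact pow_dvd_pow p h3
  have hfinq : IsOfFinOrder (QuotientGroup.mk y : G ⧸ N) := isOfFinOrder_of_finite _
  obtain ⟨j0, hj0⟩ := (Submonoid.mem_powers_iff _ _).mp
    (hfinq.mem_powers_iff_mem_zpowers.mpr hd1p)
  have hpk : p ^ k = p * p ^ (k - 1) := by
    rw [← pow_succ', Nat.sub_add_cancel hk1]
  have hpj0 : p ∣ j0 := by
    have h1 : (QuotientGroup.mk y : G ⧸ N) ^ (j0 * p ^ (k - 1)) = 1 := by
      rw [pow_mul, hj0, ← pow_mul, ← hpk, hd1o]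
    have h2 : p ^ k ∣ j0 * p ^ (k - 1) := hk ▸ orderOf_dvd_of_pow_eq_one h1
    rw [hpk] at h2
    exact (Nat.mul_dvd_mul_iff_right (pow_pos hp.pos _)).mp h2
  obtain ⟨j', rfl⟩ := hpj0
  -- the two generators
  refine ⟨(QuotientGroup.mk y : G ⧸ N) ^ (p ^ (k - 1)),
    (d0 : G ⧸ N) ^ (p ^ i') * ((QuotientGroup.mk y : G ⧸ N) ^ j')⁻¹, ?_, ?_, ?_, ?_⟩
  · rw [← pow_mul, mul_comm, ← hpk, ← hk, pow_orderOf_eq_one]
  · have hc2 : Commute ((d0 : G ⧸ N) ^ (p ^ i')) ((QuotientGroup.mk y : G ⧸ N) ^ j')⁻¹ :=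
      (hcy.pow_right j').inv_right
    rw [hc2.mul_pow, ← hj0, inv_pow, ← pow_mul, mul_comm j' p, mul_inv_cancel]
  · have h1 : Commute (QuotientGroup.mk y : G ⧸ N)
        ((d0 : G ⧸ N) ^ (p ^ i') * ((QuotientGroup.mk y : G ⧸ N) ^ j')⁻¹) :=
      hcy.symm.mul_right ((Commute.refl _).pow_right j').inv_right
    exact (h1.pow_left _)
  · intro i j hij
    have hbz : (d0 : G ⧸ N) ^ (p ^ i') * ((QuotientGroup.mk y : G ⧸ N) ^ j')⁻¹ ∉
        Subgroup.zpowers (QuotientGroup.mk y : G ⧸ N) := by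
      intro hb
      apply hd1
      have h2 := (Subgroup.zpowers (QuotientGroup.mk y : G ⧸ N)).mul_mem hb
        (Subgroup.pow_mem _ (Subgroup.mem_zpowers _) j')
      simpa using h2
    have hb1 : (d0 : G ⧸ N) ^ (p ^ i') * ((QuotientGroup.mk y : G ⧸ N) ^ j')⁻¹ ≠ 1 := by
      intro h1; rw [h1] at hbz; exact hbz (one_mem _)
    have hbp : ((d0 : G ⧸ N) ^ (p ^ i') * ((QuotientGroup.mk y : G ⧸ N) ^ j')⁻¹) ^ p = 1 := by
      have hc2 : Commute ((d0 : G ⧸ N) ^ (p ^ i')) ((QuotientGroup.mk y : G ⧸ N) ^ j')⁻¹ :=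
        (hcy.pow_right j').inv_right
      rw [hc2.mul_pow, ← hj0, inv_pow, ← pow_mul, mul_comm j' p, mul_inv_cancel]
    have hbo : orderOf ((d0 : G ⧸ N) ^ (p ^ i') * ((QuotientGroup.mk y : G ⧸ N) ^ j')⁻¹) = p :=
      orderOf_eq_prime hbp hb1
    have hbj : ((d0 : G ⧸ N) ^ (p ^ i') * ((QuotientGroup.mk y : G ⧸ N) ^ j')⁻¹) ^ j ∈
        Subgroup.zpowers (QuotientGroup.mk y : G ⧸ N) := by
      have h1 : ((d0 : G ⧸ N) ^ (p ^ i') * ((QuotientGroup.mk y : G ⧸ N) ^ j')⁻¹) ^ j =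
          (((QuotientGroup.mk y : G ⧸ N) ^ (p ^ (k - 1))) ^ i)⁻¹ :=
        eq_inv_of_mul_eq_one_right hij
      rw [h1]
      exact Subgroup.inv_mem _ (Subgroup.pow_mem _ (Subgroup.pow_mem _ (Subgroup.mem_zpowers _) _) _)
    have hpj : p ∣ j := by
      by_contra hnd
      have hcop : j.Coprime (orderOf ((d0 : G ⧸ N) ^ (p ^ i') *
          ((QuotientGroup.mk y : G ⧸ N) ^ j')⁻¹)) := by
        rw [hbo]; exact ((Nat.Prime.coprime_iff_not_dvd hp).mpr hnd).symm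
      obtain ⟨m, hm⟩ := exists_pow_eq_self_of_coprime hcop
      apply hbz
      rw [← hm]
      exact Subgroup.pow_mem _ hbj m
    refine ⟨?_, hpj⟩
    obtain ⟨j2, rfl⟩ := hpj
    rw [pow_mul, hbp, one_pow, mul_one] at hij
    have hao : orderOf ((QuotientGroup.mk y : G ⧸ N) ^ (p ^ (k - 1))) = p := by
      apply orderOf_eq_prime
      · rw [← pow_mul, mul_comm, ← hpk, ← hk, pow_orderOf_eq_one]
      · apply pow_ne_one_of_lt_orderOf (pow_pos hp.pos _).ne'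
        rw [hk]
        exact Nat.pow_lt_pow_right hp.one_lt (by omega)
    rw [← hao]
    exact orderOf_dvd_of_pow_eq_one hij

end Cfsg.Agent.helper7.Cam
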