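import Mathlib
import Cfsg.Agent.Lib_helper7_Cam3
import Cfsg.Agent.Lib_helper7_Cam4

set_option autoImplicit false

/-! Camina pairs, part 5: the induction. -/

namespace Cfsg.Agent.helper7.Cam

universe u

/-- conclusion of Camina's theorem -/
def Concl {G : Type u} [Group G] (N : Subgroup G) : Prop :=
  (∀ x ∈ N, x ≠ 1 → Subgroup.centralizer ({x} : Set G) ≤ N) ∨ IsPrimePow (Nat.card N) ∨
    IsPrimePow N.index

/-- the induction hypothesis -/
def IH (n : ℕ) : Prop :=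
  ∀ (H : Type u) [Group H] [Finite H] (K : Subgroup H) [K.Normal],
    Nat.card H < n → K ≠ ⊥ → K ≠ ⊤ → IsCam K → Concl K

/-- a Sylow subgroup of `N`, viewed in `G` -/
abbrev sylG {G : Type u} [Group G] {N : Subgroup G} {t : ℕ} (P : Sylow t ↥N) : Subgroup G :=
  (P : Subgroup ↥N).map N.subtype

theorem sylG_le {G : Type u} [Group G] {N : Subgroup G} {t : ℕ} (P : Sylow t ↥N) : sylG P ≤ N :=
  Subgroup.map_subtype_le _

theorem card_sylG {G : Type u} [Group G] [Finite G] {N : Subgroup G} {t : ℕ} [Fact t.Prime]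
    (P : Sylow t ↥N) :
    ∃ j, Nat.card (sylG P) = t ^ j := by
  obtain ⟨j, hj⟩ := IsPGroup.iff_card.mp P.isPGroup'
  refine ⟨j, ?_⟩
  rw [← hj]
  exact (Nat.card_congr
    ((P : Subgroup ↥N).equivMapOfInjective _ N.subtype_injective).toEquiv).symm

theorem supp_card {G : Type u} [Group G] [Finite G] {N : Subgroup G} [hN : N.Normal]
    (hc : IsCam N) (ih : IH.{u} (Nat.card G)) (hC : ¬ IsPrimePow N.index) {p : ℕ} (hp : Bad N p)
    {H : Subgroup G} (hHN : H ⊔ N = ⊤) (hH : H ≠ ⊤) : ∃ k, Nat.card ↥(H ⊓ N) = p ^ k := by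
  obtain ⟨hpp, x, hx, hxp, y, hy, hyx⟩ := hp
  have hyt : y ∈ H ⊔ N := by rw [hHN]; exact Subgroup.mem_top y
  rw [← SetLike.mem_coe, Subgroup.mul_normal, Set.mem_mul] at hyt
  obtain ⟨h, hh, n, hn, hhn⟩ := hyt
  have hhN : h ∉ N := by
    intro hin; apply hy; rw [← hhn]; exact N.mul_mem hin hn
  obtain ⟨a, ha⟩ := hc y hy n⁻¹ (N.inv_mem hn)
  have ha' : a * y * a⁻¹ = h := by rw [ha, ← hhn]; group
  have hx'N : a * x * a⁻¹ ∈ N := hN.conj_mem x hx a
  have hx'o : orderOf (a * x * a⁻¹) = p := by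
    have := (MulAut.conj a).orderOf_eq x
    rw [MulAut.conj_apply] at this; rw [this, hxp]
  have hcomm : h * (a * x * a⁻¹) = (a * x * a⁻¹) * h := by
    rw [← ha']
    calc a * y * a⁻¹ * (a * x * a⁻¹) = a * (y * x) * a⁻¹ := by group
      _ = a * (x * y) * a⁻¹ := by rw [hyx]
      _ = a * x * a⁻¹ * (a * y * a⁻¹) := by group
  obtain ⟨hcenH, _⟩ := hc.supplement hHN hh hhN
  have hx'H : a * x * a⁻¹ ∈ H :=
    hcenH (Subgroup.mem_centralizer_singleton_iff.mpr hcomm.symm)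
  let K : Subgroup ↥H := N.subgroupOf H
  have hKn : K.Normal := hN.subgroupOf H
  have hcardH : Nat.card ↥H < Nat.card G :=
    lt_of_le_of_ne (Subgroup.card_le_card_group H)
      (fun h' => hH (Subgroup.eq_top_of_card_eq H h'))
  have hx'1 : a * x * a⁻¹ ≠ 1 := by
    intro h1; rw [h1, orderOf_one] at hx'o; exact hpp.ne_one hx'o.symm
  have hKbot : K ≠ ⊥ := by
    intro hb
    have hm : (⟨a * x * a⁻¹, hx'H⟩ : H) ∈ K := Subgroup.mem_subgroupOf.mpr hx'N
    rw [hb, Subgroup.mem_bot] at hm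
    exact hx'1 (congrArg Subtype.val hm)
  have hKtop : K ≠ ⊤ := by
    intro ht
    have hm : (⟨h, hh⟩ : H) ∈ K := by rw [ht]; exact Subgroup.mem_top _
    exact hhN (Subgroup.mem_subgroupOf.mp hm)
  have hKcam : IsCam K := by
    intro g hg k hk
    have hgN : (g : G) ∉ N := fun hin => hg (Subgroup.mem_subgroupOf.mpr hin)
    obtain ⟨_, hcam⟩ := hc.supplement hHN g.2 hgN
    obtain ⟨b, hbH, hb⟩ := hcam (k : G) (Subgroup.mem_subgroupOf.mp hk) k.2
    exact ⟨⟨b, hbH⟩, Subtype.ext hb⟩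
  have hcardK : Nat.card K = Nat.card ↥(H ⊓ N) := by
    have h1 : (H ⊓ N).subgroupOf H = K := Subgroup.inf_subgroupOf_left N H
    rw [← h1]
    exact Nat.card_congr (Subgroup.subgroupOfEquivOfLe (inf_le_left : H ⊓ N ≤ H)).toEquiv
  rcases ih ↥H K hcardH hKbot hKtop hKcam with hA | hB | hC'
  · exfalso
    have h1 := hA ⟨a * x * a⁻¹, hx'H⟩ (Subgroup.mem_subgroupOf.mpr hx'N)
      (fun h1 => hx'1 (congrArg Subtype.val h1))
    have hmem : (⟨h, hh⟩ : H) ∈ Subgroup.centralizer ({(⟨a * x * a⁻¹, hx'H⟩ : H)} : Set H) :=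
      Subgroup.mem_centralizer_singleton_iff.mpr (Subtype.ext hcomm)
    exact hhN (Subgroup.mem_subgroupOf.mp (h1 hmem))
  · obtain ⟨r, k, hr, hk, hrk⟩ := (isPrimePow_nat_iff _).mp hB
    have hpK : p ∣ Nat.card K := by
      have h2 : orderOf (⟨⟨a * x * a⁻¹, hx'H⟩, Subgroup.mem_subgroupOf.mpr hx'N⟩ : K) = p := by
        rw [Subgroup.orderOf_mk, Subgroup.orderOf_mk, hx'o]
      rw [← h2]; exact orderOf_dvd_natCard _
    rw [← hrk] at hpK
    have : p = r := (Nat.prime_dvd_prime_iff_eq hpp hr).mp (hpp.dvd_of_dvd_pow hpK)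
    exact ⟨k, by rw [← hcardK, ← hrk, this]⟩
  · exfalso
    apply hC
    have h1 : K.index = N.index := by
      show N.relIndex H = N.index
      rw [← Subgroup.relIndex_sup_right, hHN, Subgroup.relIndex_top_right]
    rw [← h1]; exact hC'

theorem sylow_normal {G : Type u} [Group G] [Finite G] {N : Subgroup G} [hN : N.Normal]
    (hc : IsCam N) (ih : IH.{u} (Nat.card G)) (hC : ¬ IsPrimePow N.index) {p : ℕ} (hp : Bad N p)
    {s : ℕ} [hs : Fact s.Prime] (hsp : s ≠ p) (P : Sylow s ↥N) : (sylG P).Normal := by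
  rw [← Subgroup.normalizer_eq_top_iff]
  by_contra hH
  have hHN : Subgroup.normalizer (sylG P : Set G) ⊔ N = ⊤ := Sylow.normalizer_sup_eq_top P
  obtain ⟨k, hk⟩ := supp_card hc ih hC hp hHN hH
  have hle : sylG P ≤ Subgroup.normalizer (sylG P : Set G) ⊓ N :=
    le_inf Subgroup.le_normalizer (sylG_le P)
  have h1 := Subgroup.card_dvd_of_le hle
  obtain ⟨j, hcardT⟩ := card_sylG P
  rw [hcardT, hk] at h1
  have hj0 : j = 0 := by
    by_contra hj0
    have h2 : s ∣ p ^ k := (dvd_pow_self s hj0).trans h1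
    have := (Nat.prime_dvd_prime_iff_eq hs.out hp.1).mp (hs.out.dvd_of_dvd_pow h2)
    exact hsp this
  rw [hj0, pow_zero] at hcardT
  have hbot : sylG P = ⊥ := Subgroup.card_eq_one.mp hcardT
  apply hH
  rw [hbot]
  exact Subgroup.normalizer_eq_top_iff.mpr inferInstance

end Cfsg.Agent.helper7.Cam
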