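import Mathlib
import Cfsg.Agent.Lib_helper7_Cam5

set_option autoImplicit false

/-! Camina pairs, part 6: the final contradictions and the theorem. -/

namespace Cfsg.Agent.helper7.Cam

universe u

/-- the centre of a subgroup, as a subgroup of the ambient group -/
abbrev zS {G : Type u} [Group G] (S' : Subgroup G) : Subgroup G :=
  S' ⊓ Subgroup.centralizer (S' : Set G)

theorem zS_comm {G : Type u} [Group G] (S' : Subgroup G) {v w : G} (hv : v ∈ zS S')
    (hw : w ∈ zS S') : v * w = w * v := by
  have h1 : w ∈ Subgroup.centralizer (S' : Set G) := (Subgroup.mem_inf.mp hw).2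
  exact Subgroup.mem_centralizer_iff.mp h1 v (Subgroup.mem_inf.mp hv).1

/-- the commutative group structure on `zS S'` -/
@[reducible] def zSCommGroup {G : Type u} [Group G] (S' : Subgroup G) : CommGroup ↥(zS S') :=
  { (inferInstance : Group ↥(zS S')) with
    mul_comm := fun v w => Subtype.ext (zS_comm S' v.2 w.2) }

theorem final_contra {G : Type u} [Group G] [Finite G] {N : Subgroup G} [hN : N.Normal]
    (hc : IsCam N) {p : ℕ} [hpf : Fact p.Prime] (hpN : p ∣ Nat.card N) (hpI : p ∣ N.index)
    (hsyl : ∀ (t : ℕ) [Fact t.Prime], t ≠ p → ∀ P : Sylow t ↥N, (sylG P).Normal)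
    {s : ℕ} [hsf : Fact s.Prime] (hsp : s ≠ p) (hsN : s ∣ Nat.card N) (S : Sylow s ↥N)
    (P0 : Sylow p ↥N)
    (hP0 : sylG P0 ≤ Subgroup.centralizer ((zS (sylG S) : Subgroup G) : Set G)) : False := by
  classical
  have hp := hpf.out
  have hs := hsf.out
  haveI hSn : (sylG S).Normal := hsyl s hsp S
  haveI hVn : (zS (sylG S)).Normal := inferInstance
  have hVN : zS (sylG S) ≤ N := inf_le_left.trans (sylG_le S)
  obtain ⟨b, hb⟩ := card_sylG S
  have hVcard : ∃ b', Nat.card (zS (sylG S)) = s ^ b' := by
    have h1 : Nat.card (zS (sylG S)) ∣ Nat.card (sylG S) := Subgroup.card_dvd_of_le inf_le_left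
    rw [hb] at h1
    obtain ⟨b', _, hb'⟩ := (Nat.dvd_prime_pow hs).mp h1
    exact ⟨b', hb'⟩
  obtain ⟨b', hb'⟩ := hVcard
  -- `V` is nontrivial
  have hVne : ∃ z ∈ zS (sylG S), z ≠ 1 := by
    have hSpg : IsPGroup s (sylG S) := S.isPGroup'.map N.subtype
    have hb0 : b ≠ 0 := by
      intro h0
      rw [h0, pow_zero] at hb
      have h2 : Nat.card (S : Subgroup ↥N) = s ^ (Nat.card ↥N).factorization s :=
        S.card_eq_multiplicity
      have h3 : Nat.card (sylG S) = Nat.card (S : Subgroup ↥N) :=
        (Nat.card_congr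
          ((S : Subgroup ↥N).equivMapOfInjective _ N.subtype_injective).toEquiv).symm
      rw [h3, h2] at hb
      have h4 : 0 < (Nat.card ↥N).factorization s :=
        hs.factorization_pos_of_dvd Nat.card_pos.ne' hsN
      have : 1 < s ^ (Nat.card ↥N).factorization s := Nat.one_lt_pow h4.ne' hs.one_lt
      omega
    haveI : Nontrivial ↥(sylG S) := by
      rw [← Finite.one_lt_card_iff_nontrivial, hb]; exact Nat.one_lt_pow hb0 hs.one_lt
    haveI := hSpg.center_nontrivial
    obtain ⟨z, hz⟩ := exists_ne (1 : Subgroup.center ↥(sylG S))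
    refine ⟨((z : ↥(sylG S)) : G), Subgroup.mem_inf.mpr ⟨(z : ↥(sylG S)).2, ?_⟩, ?_⟩
    · rw [Subgroup.mem_centralizer_iff]
      intro h hh
      have := Subgroup.mem_center_iff.mp z.2 ⟨h, hh⟩
      exact congrArg Subtype.val this
    · intro h1; apply hz; apply Subtype.ext; apply Subtype.ext; exact h1
  -- `N` centralizes `V`
  have hNcen : N ≤ Subgroup.centralizer ((zS (sylG S) : Subgroup G) : Set G) := by
    let K' : Subgroup ↥N :=
      (Subgroup.centralizer ((zS (sylG S) : Subgroup G) : Set G)).subgroupOf N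
    have hK' : K' = ⊤ := by
      rw [← Subgroup.index_eq_one]
      by_contra hne
      obtain ⟨t, ht, htd⟩ := Nat.exists_prime_and_dvd hne
      haveI : Fact t.Prime := ⟨ht⟩
      have hex : ∃ Pt : Sylow t ↥N, (Pt : Subgroup ↥N) ≤ K' := by
        by_cases htp : t = p
        · subst htp
          refine ⟨P0, fun x hx => ?_⟩
          exact Subgroup.mem_subgroupOf.mpr (hP0 (Subgroup.mem_map_of_mem _ hx))
        · by_cases hts : t = s
          · subst hts
            refine ⟨S, fun x hx => ?_⟩
            apply Subgroup.mem_subgroupOf.mpr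
            rw [Subgroup.mem_centralizer_iff]
            intro v hv
            have hxS : (x : G) ∈ sylG S := Subgroup.mem_map_of_mem _ hx
            have hv2 : v ∈ Subgroup.centralizer (sylG S : Set G) := (Subgroup.mem_inf.mp hv).2
            exact (Subgroup.mem_centralizer_iff.mp hv2 (x : G) hxS).symm
          · obtain ⟨Pt⟩ : Nonempty (Sylow t ↥N) := inferInstance
            refine ⟨Pt, fun x hx => ?_⟩
            apply Subgroup.mem_subgroupOf.mpr
            have hPtn : (sylG Pt).Normal := hsyl t htp Pt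
            obtain ⟨c, hc'⟩ := card_sylG Pt
            have hdisj : Disjoint (sylG Pt) (sylG S) := by
              rw [disjoint_iff]
              apply Subgroup.inf_eq_bot_of_coprime
              rw [hc', hb]
              exact Nat.Coprime.pow _ _ ((Nat.coprime_primes ht hs).mpr hts)
            rw [Subgroup.mem_centralizer_iff]
            intro v hv
            have hxP : (x : G) ∈ sylG Pt := Subgroup.mem_map_of_mem _ hx
            have := Subgroup.commute_of_normal_of_disjoint (sylG Pt) (sylG S) hPtn hSn hdisj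
              (x : G) v hxP (Subgroup.mem_inf.mp hv).1
            exact this.eq.symm
      obtain ⟨Pt, hPt⟩ := hex
      have h1 : K'.index ∣ (Pt : Subgroup ↥N).index := Subgroup.index_dvd_of_le hPt
      exact Pt.not_dvd_index (htd.trans h1)
    intro n hn
    have : (⟨n, hn⟩ : N) ∈ K' := by rw [hK']; exact Subgroup.mem_top _
    exact Subgroup.mem_subgroupOf.mp this
  -- the action of `G / N` on `V`
  letI : CommGroup ↥(zS (sylG S)) := zSCommGroup (sylG S)
  let ρ : G →* MulAut ↥(zS (sylG S)) := MulAut.conjNormal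
  have hρ : ∀ (g : G) (w : ↥(zS (sylG S))), ((ρ g w : ↥(zS (sylG S))) : G) = g * w * g⁻¹ :=
    fun g w => MulAut.conjNormal_apply g w
  have hker : N ≤ ρ.ker := by
    intro n hn
    rw [MonoidHom.mem_ker]
    apply MulEquiv.ext
    intro w
    apply Subtype.ext
    rw [hρ, MulAut.one_apply]
    have h2 := Subgroup.mem_centralizer_iff.mp (hNcen hn) (w : G) w.2
    rw [← h2]; group
  let ρb : G ⧸ N →* MulAut ↥(zS (sylG S)) := QuotientGroup.lift N ρ hker
  have hρb : ∀ g : G, ρb (QuotientGroup.mk g) = ρ g := fun g => QuotientGroup.lift_mk N hker g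
  obtain ⟨a, b2, hap, hbp, hab, hind⟩ := exists_rank_two hc hpN hpI
  have hall : ∀ w : ↥(zS (sylG S)), w = 1 := by
    apply elem_abelian_fpf (ρb a) (ρb b2) p hp
    · rw [← map_mul, ← map_mul, hab]
    · rw [← map_pow, hap, map_one]
    · rw [← map_pow, hbp, map_one]
    · intro i j hij w hw
      rw [← map_pow, ← map_pow, ← map_mul] at hw
      have hc1 : a ^ i * b2 ^ j ≠ 1 := fun h1 => hij (hind i j h1)
      have hcp : (a ^ i * b2 ^ j) ^ p = 1 := by
        have hcm : Commute (a ^ i) (b2 ^ j) :=
          (Commute.pow_left (show Commute a b2 from hab) i).pow_right j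
        rw [hcm.mul_pow, ← pow_mul, ← pow_mul, mul_comm i p, mul_comm j p, pow_mul, pow_mul, hap,
          hbp, one_pow, one_pow, one_mul]
      have hco : orderOf (a ^ i * b2 ^ j) = p := orderOf_eq_prime hcp hc1
      obtain ⟨c, hcc⟩ := QuotientGroup.mk_surjective (a ^ i * b2 ^ j)
      rw [← hcc] at hw hco hc1
      have hcN : c ∉ N := fun hin => hc1 ((QuotientGroup.eq_one_iff c).mpr hin)
      rw [hρb] at hw
      have h2 : c * (w : G) = (w : G) * c := by
        have := congrArg Subtype.val hw
        rw [hρ] at this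
        calc c * (w : G) = c * w * c⁻¹ * c := by group
          _ = w * c := by rw [this]
      have hcop' : ∀ t : ℕ, t.Prime → t ∣ orderOf (QuotientGroup.mk c : G ⧸ N) →
          ¬ t ∣ Nat.card (zS (sylG S)) := by
        intro t ht htd
        rw [hco] at htd
        have htp : t = p := (Nat.prime_dvd_prime_iff_eq ht hp).mp htd
        rw [hb', htp]
        intro hd
        exact hsp ((Nat.prime_dvd_prime_iff_eq hp hs).mp (hp.dvd_of_dvd_pow hd)).symm
      have h3 := hc.fpf_sub hcN hVN hcop' w.2 h2
      exact Subtype.ext h3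
    · intro w hw
      have h1 : orderOf w ∣ p := orderOf_dvd_of_pow_eq_one hw
      have h2 : orderOf w ∣ s ^ b' := by rw [← hb']; exact orderOf_dvd_natCard w
      rcases (Nat.dvd_prime hp).mp h1 with h3 | h3
      · exact orderOf_eq_one_iff.mp h3
      · exfalso
        rw [h3] at h2
        exact hsp ((Nat.prime_dvd_prime_iff_eq hp hs).mp (hp.dvd_of_dvd_pow h2)).symm
  obtain ⟨z, hz, hz1⟩ := hVne
  exact hz1 (congrArg Subtype.val (hall ⟨z, hz⟩))

end Cfsg.Agent.helper7.Cam
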