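import Mathlib
import Cfsg.Agent.Lib_helper7_Cam6

set_option autoImplicit false

/-! Camina pairs, part 7: the coprime case and the theorem. -/

namespace Cfsg.Agent.helper7.Cam

universe u

theorem caseII_cen {G : Type u} [Group G] [Finite G] {N : Subgroup G} [hN : N.Normal]
    (hc : IsCam N) {p q s : ℕ} [hpf : Fact p.Prime] [hqf : Fact q.Prime] [hsf : Fact s.Prime]
    (hsp : s ≠ p) (hqI : q ∣ N.index) (hqN : ¬ q ∣ Nat.card N) (S : Sylow s ↥N)
    [hSn : (sylG S).Normal] (P0 : Sylow p ↥N) :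
    sylG P0 ≤ Subgroup.centralizer ((zS (sylG S) : Subgroup G) : Set G) := by
  classical
  have hp := hpf.out
  have hq := hqf.out
  have hs := hsf.out
  haveI hVn : (zS (sylG S)).Normal := inferInstance
  have hVN : zS (sylG S) ≤ N := inf_le_left.trans (sylG_le S)
  have hLN : Subgroup.normalizer (sylG P0 : Set G) ⊔ N = ⊤ := Sylow.normalizer_sup_eq_top P0
  have hqL : q ∣ Nat.card (Subgroup.normalizer (sylG P0 : Set G)) := by
    have h1 : N.relIndex (Subgroup.normalizer (sylG P0 : Set G)) = N.index := by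
      rw [← Subgroup.relIndex_sup_right, hLN, Subgroup.relIndex_top_right]
    have h2 : N.relIndex (Subgroup.normalizer (sylG P0 : Set G)) ∣
        Nat.card (Subgroup.normalizer (sylG P0 : Set G)) := Subgroup.relIndex_dvd_card _ _
    rw [h1] at h2
    exact hqI.trans h2
  obtain ⟨h0, hh0⟩ := exists_prime_orderOf_dvd_card'
    (G := ↥(Subgroup.normalizer (sylG P0 : Set G))) q hqL
  have hho : orderOf (h0 : G) = q := by rw [← hh0]; exact Subgroup.orderOf_coe h0
  have hhq : (h0 : G) ^ q = 1 := by rw [← hho]; exact pow_orderOf_eq_one _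
  have hhN : (h0 : G) ∉ N := by
    intro hin
    apply hqN
    have : orderOf (⟨(h0 : G), hin⟩ : N) = q := by rw [Subgroup.orderOf_mk, hho]
    rw [← this]; exact orderOf_dvd_natCard _
  have hmk1 : (QuotientGroup.mk (h0 : G) : G ⧸ N) ≠ 1 :=
    fun h1 => hhN ((QuotientGroup.eq_one_iff _).mp h1)
  have hmko : orderOf (QuotientGroup.mk (h0 : G) : G ⧸ N) = q :=
    orderOf_eq_prime (by rw [← QuotientGroup.mk_pow, hhq]; rfl) hmk1
  have hkey : ∀ f ∈ sylG P0, ∀ i, 0 < i → i < q →
      f * (h0 : G) ^ i ∉ N ∧ orderOf (QuotientGroup.mk (f * (h0 : G) ^ i) : G ⧸ N) = q := by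
    intro f hf i hi0 hiq
    have hfN : f ∈ N := sylG_le P0 hf
    have h1 : (QuotientGroup.mk (f * (h0 : G) ^ i) : G ⧸ N) =
        (QuotientGroup.mk (h0 : G) : G ⧸ N) ^ i := by
      rw [QuotientGroup.mk_mul, (QuotientGroup.eq_one_iff f).mpr hfN, one_mul,
        QuotientGroup.mk_pow]
    have h2 : orderOf ((QuotientGroup.mk (h0 : G) : G ⧸ N) ^ i) = q := by
      rw [Nat.Coprime.orderOf_pow, hmko]
      rw [hmko]
      exact (Nat.Prime.coprime_iff_not_dvd hq).mpr (Nat.not_dvd_of_pos_of_lt hi0 hiq)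
    rw [h1]
    refine ⟨?_, h2⟩
    intro hin
    have h3 : (QuotientGroup.mk (f * (h0 : G) ^ i) : G ⧸ N) = 1 :=
      (QuotientGroup.eq_one_iff _).mpr hin
    rw [h1] at h3
    rw [h3, orderOf_one] at h2
    exact hq.ne_one h2.symm
  have hcopN : ∀ g : G, orderOf (QuotientGroup.mk g : G ⧸ N) = q → ∀ t : ℕ, t.Prime →
      t ∣ orderOf (QuotientGroup.mk g : G ⧸ N) → ¬ t ∣ Nat.card N := by
    intro g hg t ht htd
    rw [hg] at htd
    have : t = q := (Nat.prime_dvd_prime_iff_eq ht hq).mp htd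
    rw [this]; exact hqN
  letI : CommGroup ↥(zS (sylG S)) := zSCommGroup (sylG S)
  let ρ : G →* MulAut ↥(zS (sylG S)) := MulAut.conjNormal
  have hρ : ∀ (g : G) (w : ↥(zS (sylG S))), ((ρ g w : ↥(zS (sylG S))) : G) = g * w * g⁻¹ :=
    fun g w => MulAut.conjNormal_apply g w
  have hcopFW : (Nat.card (sylG P0)).Coprime (Nat.card ↥(zS (sylG S))) := by
    obtain ⟨a, ha⟩ := card_sylG P0
    obtain ⟨b, hb⟩ := card_sylG S
    have h1 : Nat.card (zS (sylG S)) ∣ Nat.card (sylG S) := Subgroup.card_dvd_of_le inf_le_left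
    rw [hb] at h1
    obtain ⟨b', _, hb'⟩ := (Nat.dvd_prime_pow hs).mp h1
    rw [ha, hb']
    exact Nat.Coprime.pow _ _ ((Nat.coprime_primes hp hs).mpr (Ne.symm hsp))
  have hfm : ∀ f ∈ sylG P0, ∀ w : ↥(zS (sylG S)), ρ f w = w := by
    apply frob_module ρ (sylG P0) (h0 : G) q hq hhq
    · intro f hf
      exact (Subgroup.mem_normalizer_iff.mp h0.2 f).mp hf
    · intro f hf i hi0 hiq w hw
      obtain ⟨hgN, hgo⟩ := hkey f hf i hi0 hiq
      have h2 : f * (h0 : G) ^ i * (w : G) = (w : G) * (f * (h0 : G) ^ i) := by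
        have := congrArg Subtype.val hw
        rw [hρ] at this
        calc f * (h0 : G) ^ i * (w : G)
            = f * (h0 : G) ^ i * w * (f * (h0 : G) ^ i)⁻¹ * (f * (h0 : G) ^ i) := by group
          _ = w * (f * (h0 : G) ^ i) := by rw [this]
      have h3 := hc.fpf_sub hgN (le_refl N) (hcopN _ hgo) (hVN w.2) h2
      exact Subtype.ext h3
    · intro f hf i hi0 hiq hcomm
      obtain ⟨hgN, hgo⟩ := hkey 1 (Subgroup.one_mem _) i hi0 hiq
      rw [one_mul] at hgN hgo
      exact hc.fpf_sub hgN (le_refl N) (hcopN _ hgo) (sylG_le P0 hf) hcomm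
    · exact hcopFW
  intro f hf
  rw [Subgroup.mem_centralizer_iff]
  intro v hv
  have h1 := congrArg Subtype.val (hfm f hf ⟨v, hv⟩)
  rw [hρ] at h1
  have h2 : f * v * f⁻¹ = v := h1
  calc v * f = f * v * f⁻¹ * f := by rw [h2]
    _ = f * v := by group

/-- Camina's theorem, by induction on the order -/
theorem camina_aux : ∀ n : ℕ, ∀ (G : Type u) [Group G] [Finite G] (N : Subgroup G) [N.Normal],
    Nat.card G = n → N ≠ ⊥ → N ≠ ⊤ → IsCam N → Concl N := by
  intro n
  induction n using Nat.strong_induction_on with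
  | _ n ihn =>
    intro G _ _ N hN hcard hbot htop hc
    have ih : IH.{u} (Nat.card G) := by
      intro H _ _ K _ hlt hb ht hcam
      exact ihn (Nat.card H) (hcard ▸ hlt) H K rfl hb ht hcam
    by_contra hcon
    unfold Concl at hcon
    rw [not_or, not_or] at hcon
    obtain ⟨hA, hB, hC⟩ := hcon
    obtain ⟨p, hbad⟩ := exists_bad hA
    have hp : p.Prime := hbad.1
    haveI : Fact p.Prime := ⟨hp⟩
    have hpN := hbad.dvd_card
    have hpI := hbad.dvd_index hc
    -- a second prime dividing `|N|`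
    obtain ⟨s, hs, hsp, hsN⟩ : ∃ s, s.Prime ∧ s ≠ p ∧ s ∣ Nat.card N := by
      by_contra hno
      push Not at hno
      apply hB
      have h1 : Nat.card N = p ^ (Nat.card N).primeFactorsList.length :=
        Nat.eq_prime_pow_of_unique_prime_dvd Nat.card_pos.ne' (fun {d} hd hdd => by
          by_contra hne
          exact hno d hd hne hdd)
      rw [isPrimePow_nat_iff]
      refine ⟨p, _, hp, ?_, h1.symm⟩
      by_contra h0
      have h2 : (Nat.card N).primeFactorsList.length = 0 := by omega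
      rw [h2, pow_zero] at h1
      rw [h1] at hpN
      exact hp.one_lt.ne' (Nat.dvd_one.mp hpN)
    -- a second prime dividing `|G : N|`
    obtain ⟨q, hq, hqp, hqI⟩ : ∃ q, q.Prime ∧ q ≠ p ∧ q ∣ N.index := by
      by_contra hno
      push Not at hno
      apply hC
      have h1 : N.index = p ^ N.index.primeFactorsList.length :=
        Nat.eq_prime_pow_of_unique_prime_dvd Subgroup.index_ne_zero_of_finite
          (fun {d} hd hdd => by
            by_contra hne
            exact hno d hd hne hdd)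
      rw [isPrimePow_nat_iff]
      refine ⟨p, _, hp, ?_, h1.symm⟩
      by_contra h0
      have h2 : N.index.primeFactorsList.length = 0 := by omega
      rw [h2, pow_zero] at h1
      rw [h1] at hpI
      exact hp.one_lt.ne' (Nat.dvd_one.mp hpI)
    haveI : Fact s.Prime := ⟨hs⟩
    haveI : Fact q.Prime := ⟨hq⟩
    have hsyl : ∀ (t : ℕ) [Fact t.Prime], t ≠ p → ∀ P : Sylow t ↥N, (sylG P).Normal :=
      fun t _ htp P => sylow_normal hc ih hC hbad htp P
    obtain ⟨P0⟩ : Nonempty (Sylow p ↥N) := inferInstance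
    by_cases hI : ∃ q', q'.Prime ∧ q' ≠ p ∧ q' ∣ N.index ∧ q' ∣ Nat.card N
    · obtain ⟨q', hq', hq'p, hq'I, hq'N⟩ := hI
      haveI : Fact q'.Prime := ⟨hq'⟩
      have hbadq : Bad N q' := bad_of_dvd_both hq' hq'N hq'I
      obtain ⟨S⟩ : Nonempty (Sylow q' ↥N) := inferInstance
      have hSn : (sylG S).Normal := hsyl q' hq'p S
      have hPn : (sylG P0).Normal := sylow_normal hc ih hC hbadq (Ne.symm hq'p) P0
      apply final_contra hc hpN hpI hsyl hq'p hq'N S P0
      obtain ⟨a, ha⟩ := card_sylG P0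
      obtain ⟨b, hb⟩ := card_sylG S
      have hdisj : Disjoint (sylG P0) (sylG S) := by
        rw [disjoint_iff]
        apply Subgroup.inf_eq_bot_of_coprime
        rw [ha, hb]
        exact Nat.Coprime.pow _ _ ((Nat.coprime_primes hp hq').mpr (Ne.symm hq'p))
      intro f hf
      rw [Subgroup.mem_centralizer_iff]
      intro v hv
      have := Subgroup.commute_of_normal_of_disjoint (sylG P0) (sylG S) hPn hSn hdisj f v hf
        (Subgroup.mem_inf.mp hv).1
      exact this.eq.symm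
    · push Not at hI
      have hqN : ¬ q ∣ Nat.card N := hI q hq hqp hqI
      obtain ⟨S⟩ : Nonempty (Sylow s ↥N) := inferInstance
      haveI hSn : (sylG S).Normal := hsyl s hsp S
      exact final_contra hc hpN hpI hsyl hsp hsN S P0 (caseII_cen hc hsp hqI hqN S P0)

/-- Camina's theorem -/
theorem camina {G : Type u} [Group G] [Finite G] (N : Subgroup G) [N.Normal] (hN1 : N ≠ ⊥)
    (hN2 : N ≠ ⊤)
    (hcam : ∀ g : G, g ∉ N → ∀ n ∈ N, ∃ x : G, x * g * x⁻¹ = g * n) :
    (∀ x ∈ N, x ≠ 1 → Subgroup.centralizer ({x} : Set G) ≤ N) ∨ IsPrimePow (Nat.card N) ∨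
      IsPrimePow N.index :=
  camina_aux (Nat.card G) G N rfl hN1 hN2 hcam

end Cfsg.Agent.helper7.Cam
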