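import Mathlib

set_option autoImplicit false
open scoped Pointwise

namespace Cfsg.Agent.helper7

/-- For two `p`-subgroups `E`, `D` of a finite group `K` with `p ∣ |K|` there are `h` and an element `z` of
order `p` such that `z` centralizes `E` and `h z h⁻¹` centralizes `D`. -/
theorem exists_central_link {K : Type*} [Group K] [Finite K] {p : ℕ} [Fact p.Prime]
    (hK : p ∣ Nat.card K) {E D : Subgroup K} (hE : IsPGroup p ↥E) (hD : IsPGroup p ↥D) :
    ∃ h z : K, orderOf z = p ∧ (∀ e ∈ E, z * e = e * z) ∧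
      ∀ d ∈ D, (h * z * h⁻¹) * d = d * (h * z * h⁻¹) := by
  obtain ⟨S, hES⟩ := hE.exists_le_sylow
  obtain ⟨S', hDS'⟩ := hD.exists_le_sylow
  obtain ⟨h, hh⟩ := MulAction.exists_smul_eq K S S'
  -- `S` is nontrivial
  have hSp : p ∣ Nat.card ↥(S : Subgroup K) := by
    rw [Sylow.card_eq_multiplicity]
    exact dvd_pow_self p ((Nat.Prime.factorization_pos_of_dvd Fact.out Nat.card_pos.ne' hK).ne')
  haveI : Nontrivial ↥(S : Subgroup K) := by
    rw [← Finite.one_lt_card_iff_nontrivial]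
    exact lt_of_lt_of_le (Nat.Prime.one_lt Fact.out) (Nat.le_of_dvd Nat.card_pos hSp)
  haveI := S.isPGroup'.center_nontrivial
  have hZp : IsPGroup p ↥(Subgroup.center ↥(S : Subgroup K)) := S.isPGroup'.to_subgroup _
  have hZcard : p ∣ Nat.card ↥(Subgroup.center ↥(S : Subgroup K)) := by
    obtain ⟨n, hn⟩ := IsPGroup.iff_card.1 hZp
    rw [hn]
    have : n ≠ 0 := by
      rintro rfl
      rw [pow_zero] at hn
      have := Finite.one_lt_card (α := ↥(Subgroup.center ↥(S : Subgroup K)))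
      omega
    exact dvd_pow_self p this
  obtain ⟨z, hz⟩ := exists_prime_orderOf_dvd_card' (G := ↥(Subgroup.center ↥(S : Subgroup K))) p hZcard
  have hzc : ∀ s ∈ (S : Subgroup K), ((z : ↥(S : Subgroup K)) : K) * s = s * ((z : ↥(S : Subgroup K)) : K) := by
    intro s hs
    have := Subgroup.mem_center_iff.1 z.2 ⟨s, hs⟩
    exact (congrArg Subtype.val this).symm
  refine ⟨h, ((z : ↥(S : Subgroup K)) : K), ?_, fun e he => hzc e (hES he), ?_⟩
  · rw [Subgroup.orderOf_coe, Subgroup.orderOf_coe]; exact hz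
  · intro d hd
    have hd' : d ∈ ((h • S : Sylow p K) : Subgroup K) := by rw [hh]; exact hDS' hd
    rw [Sylow.coe_subgroup_smul, Subgroup.mem_pointwise_smul_iff_inv_smul_mem] at hd'
    have hd'' : h⁻¹ * d * h ∈ (S : Subgroup K) := by
      simpa [MulAut.smul_def] using hd'
    have := hzc _ hd''
    calc h * ↑↑z * h⁻¹ * d = h * (↑↑z * (h⁻¹ * d * h)) * h⁻¹ := by group
      _ = h * ((h⁻¹ * d * h) * ↑↑z) * h⁻¹ := by rw [this]
      _ = d * (h * ↑↑z * h⁻¹) := by group

end Cfsg.Agent.helper7
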