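import Mathlib

/-!
# Parity of the number of cyclic subgroups of order `2 ^ j` (helper7), part a

General pairing lemma and the first pairing (multiplication by a central involution).
-/

set_option autoImplicit false

namespace Cfsg.Agent.helper7.Cyc2

open Subgroup

/-- a finite type carrying a fixed-point-free involution on a subtype has an even subtype -/
theorem even_card_of_involution {α : Type*} [Finite α] (P : α → Prop) (f : α → α)
    (hP : ∀ a, P a → P (f a)) (hinv : ∀ a, P a → f (f a) = a) (hne : ∀ a, P a → f a ≠ a) :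
    Even (Nat.card {a // P a}) := by
  classical
  haveI : Fintype α := Fintype.ofFinite α
  rw [Nat.card_eq_fintype_card, Fintype.card_subtype]
  have h : ((Finset.univ.filter P).card : ZMod 2) = 0 := by
    rw [Finset.card_eq_sum_ones, Nat.cast_sum]
    apply Finset.sum_involution (fun a _ => f a)
    · intro a _
      simp only [Nat.cast_one]
      decide
    · intro a ha _
      exact hne a (Finset.mem_filter.mp ha).2
    · intro a ha
      exact Finset.mem_filter.mpr ⟨Finset.mem_univ _, hP a (Finset.mem_filter.mp ha).2⟩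
    · intro a ha
      exact hinv a (Finset.mem_filter.mp ha).2
  rw [ZMod.natCast_eq_zero_iff] at h
  exact even_iff_two_dvd.mpr h

variable {G : Type*} [Group G]

/-- the general pairing lemma on cyclic subgroups given by admissible generators -/
theorem even_card_of_pairing [Finite G] (𝒮 : G → Prop) (u : G → G)
    (ha : ∀ x, 𝒮 x → 𝒮 (u x))
    (hb : ∀ x x', 𝒮 x → 𝒮 x' → zpowers x = zpowers x' → zpowers (u x) = zpowers (u x'))
    (hc : ∀ x, 𝒮 x → zpowers (u (u x)) = zpowers x)
    (hd : ∀ x, 𝒮 x → zpowers (u x) ≠ zpowers x) :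
    Even (Nat.card {Z : Subgroup G // ∃ x, 𝒮 x ∧ Z = zpowers x}) := by
  classical
  set f : Subgroup G → Subgroup G := fun Z =>
    if h : ∃ x, 𝒮 x ∧ Z = zpowers x then zpowers (u h.choose) else Z with hf
  have key : ∀ Z, ∀ x, 𝒮 x → Z = zpowers x → f Z = zpowers (u x) := by
    intro Z x hx hZ
    have h : ∃ x, 𝒮 x ∧ Z = zpowers x := ⟨x, hx, hZ⟩
    simp only [hf, dif_pos h]
    have h1 := h.choose_spec
    exact hb _ _ h1.1 hx (h1.2.symm.trans hZ)
  apply even_card_of_involution _ f
  · rintro Z ⟨x, hx, hZ⟩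
    exact ⟨u x, ha x hx, key Z x hx hZ⟩
  · rintro Z ⟨x, hx, hZ⟩
    rw [key (f Z) (u x) (ha x hx) (key Z x hx hZ), hc x hx, hZ]
  · rintro Z ⟨x, hx, hZ⟩
    rw [key Z x hx hZ, hZ]
    exact hd x hx

/-- cyclic subgroups of order `n` are the `zpowers` of elements of order `n` -/
theorem cyc_iff [Finite G] (n : ℕ) (Z : Subgroup G) :
    (IsCyclic Z ∧ Nat.card Z = n) ↔ ∃ x, orderOf x = n ∧ Z = zpowers x := by
  constructor
  · rintro ⟨hc, hn⟩
    obtain ⟨g, hg⟩ := hc.exists_generator
    refine ⟨(g : G), ?_, ?_⟩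
    · rw [Subgroup.orderOf_coe, orderOf_eq_card_of_forall_mem_zpowers hg, hn]
    · ext y
      constructor
      · intro hy
        obtain ⟨k, hk⟩ := Subgroup.mem_zpowers_iff.mp (hg ⟨y, hy⟩)
        refine Subgroup.mem_zpowers_iff.mpr ⟨k, ?_⟩
        have := congrArg Subtype.val hk
        simpa using this
      · intro hy
        obtain ⟨k, hk⟩ := Subgroup.mem_zpowers_iff.mp hy
        rw [← hk]
        exact Z.zpow_mem g.2 k
  · rintro ⟨x, hx, rfl⟩
    refine ⟨inferInstance, ?_⟩
    rw [Nat.card_zpowers, hx]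

theorem zpowers_eq_of_mem_of_orderOf [Finite G] {x y : G} (h : y ∈ zpowers x)
    (ho : orderOf y = orderOf x) : zpowers y = zpowers x := by
  apply Subgroup.eq_of_le_of_card_ge
  · rw [Subgroup.zpowers_le]; exact h
  · rw [Nat.card_zpowers, Nat.card_zpowers, ho]

theorem orderOf_eq_of_zpowers_eq {x y : G} (h : zpowers x = zpowers y) :
    orderOf x = orderOf y := by
  rw [← Nat.card_zpowers, ← Nat.card_zpowers, h]

/-- a generator of a cyclic group of even order is an odd power of any other generator -/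
theorem exists_odd_zpow {x x' : G} (heven : Even (orderOf x)) (h : zpowers x = zpowers x') :
    ∃ l : ℤ, x' = x ^ (2 * l + 1) := by
  have h1 : x' ∈ zpowers x := h ▸ Subgroup.mem_zpowers x'
  obtain ⟨k, hk⟩ := Subgroup.mem_zpowers_iff.mp h1
  rcases Int.even_or_odd' k with ⟨l, rfl | rfl⟩
  · exfalso
    have h2 : x ∈ zpowers x' := h ▸ Subgroup.mem_zpowers x
    obtain ⟨i, hi⟩ := Subgroup.mem_zpowers_iff.mp h2
    rw [← hk, ← zpow_mul] at hi
    have h3 : x ^ (2 * l * i - 1) = 1 := by
      rw [zpow_sub, hi, zpow_one, mul_inv_cancel]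
    have h4 := (orderOf_dvd_iff_zpow_eq_one).mpr h3
    obtain ⟨c, hc⟩ := heven
    rw [hc] at h4
    have h5 : (2 : ℤ) ∣ 2 * l * i - 1 := by
      refine dvd_trans ⟨(c : ℤ), ?_⟩ h4
      push_cast; ring
    rw [mul_assoc] at h5
    generalize l * i = w at h5
    omega
  · exact ⟨l, hk.symm⟩

end Cfsg.Agent.helper7.Cyc2
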