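import Mathlib
import Cfsg.Agent.Lib_helper7_Cyc2a

/-!
# Parity of the number of cyclic subgroups of order `2 ^ j` (helper7), part b

First pairing: `⟨x⟩ ↦ ⟨x z⟩` for a central involution `z`, on the cyclic subgroups not
containing `z`.
-/

set_option autoImplicit false

namespace Cfsg.Agent.helper7.Cyc2

open Subgroup

variable {G : Type*} [Group G]

theorem zpow_odd_of_sq {z : G} (hz2 : z ^ 2 = 1) (l : ℤ) : z ^ (2 * l + 1) = z := by
  have h : z ^ (2 : ℤ) = 1 := by
    have : z ^ ((2 : ℕ) : ℤ) = 1 := by rw [zpow_natCast]; exact hz2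
    simpa using this
  rw [zpow_add, zpow_mul, h, one_zpow, one_mul, zpow_one]

theorem inv_eq_self_of_sq {z : G} (hz2 : z ^ 2 = 1) : z⁻¹ = z := by
  rw [inv_eq_iff_mul_eq_one, ← pow_two]; exact hz2

/-- order of `x z` when `z ∉ ⟨x⟩` -/
theorem orderOf_mul_central {x z : G} (hzc : ∀ g : G, g * z = z * g) (hz2 : z ^ 2 = 1)
    (j : ℕ) (hj : 1 ≤ j) (hx : orderOf x = 2 ^ j) (hzx : z ∉ zpowers x) :
    orderOf (x * z) = 2 ^ j := by
  obtain ⟨n, rfl⟩ : ∃ n, j = n + 1 := ⟨j - 1, by omega⟩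
  have hcomm : Commute x z := hzc x
  haveI : Fact (Nat.Prime 2) := ⟨Nat.prime_two⟩
  apply orderOf_eq_prime_pow
  · intro h
    rw [hcomm.mul_pow] at h
    rcases Nat.eq_zero_or_pos n with rfl | hn
    · simp only [pow_zero, pow_one] at h
      apply hzx
      have : z = x⁻¹ := by
        rw [eq_inv_iff_mul_eq_one, ← hcomm.eq]; exact h
      rw [this]
      exact Subgroup.inv_mem _ (Subgroup.mem_zpowers x)
    · have h2 : z ^ 2 ^ n = 1 := by
        obtain ⟨m, rfl⟩ : ∃ m, n = m + 1 := ⟨n - 1, by omega⟩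
        rw [pow_succ', pow_mul, hz2, one_pow]
      rw [h2, mul_one] at h
      have := orderOf_dvd_of_pow_eq_one h
      rw [hx] at this
      have h3 := Nat.le_of_dvd (by positivity) this
      have : 2 ^ n < 2 ^ (n + 1) := Nat.pow_lt_pow_right (by norm_num) (by omega)
      omega
  · rw [hcomm.mul_pow, ← hx, pow_orderOf_eq_one, one_mul, hx, pow_succ', pow_mul, hz2, one_pow]

/-- **L1**: the cyclic subgroups of order `2 ^ j` not containing a given central involution
are paired off. -/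
theorem even_card_not_mem [Finite G] (z : G) (hzc : ∀ g : G, g * z = z * g) (hz2 : z ^ 2 = 1)
    (j : ℕ) (hj : 1 ≤ j) :
    Even (Nat.card {Z : Subgroup G // (IsCyclic Z ∧ Nat.card Z = 2 ^ j) ∧ z ∉ Z}) := by
  have e : ∀ Z : Subgroup G, ((IsCyclic Z ∧ Nat.card Z = 2 ^ j) ∧ z ∉ Z) ↔
      ∃ x, (orderOf x = 2 ^ j ∧ z ∉ zpowers x) ∧ Z = zpowers x := by
    intro Z
    rw [cyc_iff]
    constructor
    · rintro ⟨⟨x, hx, rfl⟩, hz⟩
      exact ⟨x, ⟨hx, hz⟩, rfl⟩
    · rintro ⟨x, ⟨hx, hz⟩, rfl⟩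
      exact ⟨⟨x, hx, rfl⟩, hz⟩
  rw [Nat.card_congr (Equiv.subtypeEquivRight e)]
  have hev : ∀ x : G, orderOf x = 2 ^ j → Even (orderOf x) := by
    intro x hx
    rw [hx]
    exact (Nat.even_pow.mpr ⟨even_two, by omega⟩)
  have ha : ∀ x : G, (orderOf x = 2 ^ j ∧ z ∉ zpowers x) →
      (orderOf (x * z) = 2 ^ j ∧ z ∉ zpowers (x * z)) := by
    rintro x ⟨hx, hzx⟩
    have ho := orderOf_mul_central hzc hz2 j hj hx hzx
    refine ⟨ho, ?_⟩
    intro hz
    apply hzx
    have h1 : x ∈ zpowers (x * z) := by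
      have h := mul_mem (Subgroup.mem_zpowers (x * z)) (inv_mem hz)
      rwa [mul_inv_cancel_right] at h
    have h2 := zpowers_eq_of_mem_of_orderOf h1 (by rw [hx, ho])
    rw [h2]; exact hz
  apply even_card_of_pairing _ (fun x => x * z) ha
  · rintro x x' hx hx' h
    obtain ⟨l, rfl⟩ := exists_odd_zpow (hev x hx.1) h
    apply (zpowers_eq_of_mem_of_orderOf _ _).symm
    · have hcomm : Commute x z := hzc x
      have : x ^ (2 * l + 1) * z = (x * z) ^ (2 * l + 1) := by
        rw [hcomm.mul_zpow, zpow_odd_of_sq hz2]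
      rw [this]
      exact Subgroup.zpow_mem_zpowers _ _
    · rw [(ha _ hx').1, (ha _ hx).1]
  · rintro x hx
    have : x * z * z = x := by rw [mul_assoc, ← pow_two, hz2, mul_one]
    simp only [this]
  · rintro x ⟨hx, hzx⟩ h
    apply hzx
    have h1 : x * z ∈ zpowers x := h ▸ Subgroup.mem_zpowers _
    have h := mul_mem (inv_mem (Subgroup.mem_zpowers x)) h1
    rwa [inv_mul_cancel_left] at h

end Cfsg.Agent.helper7.Cyc2
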