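import Mathlib
import Cfsg.Agent.Lib_helper7_Cyc2b

/-!
# Parity of the number of cyclic subgroups of order `2 ^ j` (helper7), part c

Second pairing: `⟨x⟩ ↦ ⟨r x⟩` on the cyclic subgroups containing the central involution `z`,
where `r` is a non-central-or-central involution all of whose conjugates are `r` or `r z`.
-/

set_option autoImplicit false

namespace Cfsg.Agent.helper7.Cyc2

open Subgroup

variable {G : Type*} [Group G]

/-- the involutions of a cyclic group of order `2 ^ j` -/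
theorem invol_of_mem_zpowers {x y : G} (j : ℕ) (hj : 1 ≤ j) (hx : orderOf x = 2 ^ j)
    (hy : y ∈ zpowers x) (hy2 : y ^ 2 = 1) : y = 1 ∨ y = x ^ 2 ^ (j - 1) := by
  obtain ⟨n, rfl⟩ : ∃ n, j = n + 1 := ⟨j - 1, by omega⟩
  simp only [Nat.add_sub_cancel]
  obtain ⟨k, rfl⟩ := Subgroup.mem_zpowers_iff.mp hy
  have h1 : x ^ (k * 2) = 1 := by
    rw [zpow_mul]
    have : (x ^ k) ^ ((2 : ℕ) : ℤ) = 1 := by rw [zpow_natCast]; exact hy2
    simpa using this
  have h2 := (orderOf_dvd_iff_zpow_eq_one).mpr h1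
  rw [hx] at h2
  have h3 : ((2 : ℤ) ^ n) ∣ k := by
    have : ((2 : ℤ) ^ n) * 2 ∣ k * 2 := by
      have e : (((2 ^ (n + 1) : ℕ)) : ℤ) = (2 : ℤ) ^ n * 2 := by push_cast; ring
      rwa [e] at h2
    exact Int.dvd_of_mul_dvd_mul_right (by norm_num) this
  obtain ⟨t, rfl⟩ := h3
  set w := x ^ 2 ^ n with hw
  have hw2 : w ^ 2 = 1 := by
    rw [hw, ← pow_mul, ← pow_succ, ← hx, pow_orderOf_eq_one]
  have e : x ^ ((2 : ℤ) ^ n * t) = w ^ t := by
    rw [zpow_mul, hw]
    congr 1
    have : ((2 : ℤ) ^ n) = ((2 ^ n : ℕ) : ℤ) := by push_cast; rfl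
    rw [this, zpow_natCast]
  rw [e]
  rcases Int.even_or_odd' t with ⟨l, rfl | rfl⟩
  · left
    rw [zpow_mul]
    have : w ^ (2 : ℤ) = 1 := by
      have : w ^ ((2 : ℕ) : ℤ) = 1 := by rw [zpow_natCast]; exact hw2
      simpa using this
    rw [this, one_zpow]
  · right
    exact zpow_odd_of_sq hw2 l

theorem card_split {α : Type*} [Finite α] (P Q : α → Prop) :
    Nat.card {a // P a} = Nat.card {a // P a ∧ Q a} + Nat.card {a // P a ∧ ¬ Q a} := by
  classical
  haveI : Fintype α := Fintype.ofFinite α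
  rw [Nat.card_eq_fintype_card, Nat.card_eq_fintype_card, Nat.card_eq_fintype_card,
    Fintype.card_subtype, Fintype.card_subtype, Fintype.card_subtype,
    ← Finset.filter_filter, ← Finset.filter_filter,
    Finset.card_filter_add_card_filter_not]

section second

variable (z r : G) (hzc : ∀ g : G, g * z = z * g) (hz2 : z ^ 2 = 1) (hz1 : z ≠ 1)
  (hr2 : r ^ 2 = 1) (hr1 : r ≠ 1) (hrz : r ≠ z)
  (hr : ∀ g : G, g * r * g⁻¹ = r ∨ g * r * g⁻¹ = r * z)

/-- admissible generators for the second pairing -/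
def Adm (j : ℕ) (x : G) : Prop :=
  orderOf x = 2 ^ j ∧ x ^ 2 ^ (j - 1) = z ∧ (3 ≤ j ∨ x * r = r * x)

include hzc hz2 hz1 hr2 hr in
/-- the basic computation: `(r x)² = s x²` with `s ∈ {1, z}` killed by `2 ^ (j - 2)` -/
theorem adm_data (j : ℕ) (hj : 2 ≤ j) (x : G) (hx : Adm z r j x) :
    ∃ s : G, (s = 1 ∨ s = z) ∧ s ^ 2 ^ (j - 2) = 1 ∧ x * r = r * s * x ∧
      (r * x) ^ 2 = s * x ^ 2 ∧ Commute (x ^ 2) r := by
  obtain ⟨hxo, hxz, h3⟩ := hx
  have hrr : r * r = 1 := by rw [← pow_two]; exact hr2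
  have hzz : z * z = 1 := by rw [← pow_two]; exact hz2
  have main : ∀ s : G, (s = 1 ∨ s = z) → s ^ 2 ^ (j - 2) = 1 → x * r * x⁻¹ = r * s →
      ∃ s : G, (s = 1 ∨ s = z) ∧ s ^ 2 ^ (j - 2) = 1 ∧ x * r = r * s * x ∧
      (r * x) ^ 2 = s * x ^ 2 ∧ Commute (x ^ 2) r := by
    intro s hs hs2 hc
    have hsc : ∀ g : G, g * s = s * g := by
      rcases hs with rfl | rfl
      · intro g; simp
      · exact hzc
    have hss : s * s = 1 := by
      rcases hs with rfl | rfl
      · simp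
      · exact hzz
    have h1 : x * r = r * s * x := by
      rw [← hc]; group
    refine ⟨s, hs, hs2, h1, ?_, ?_⟩
    · calc (r * x) ^ 2 = r * (x * r) * x := by rw [pow_two]; group
        _ = r * (r * s * x) * x := by rw [h1]
        _ = (r * r) * s * (x * x) := by group
        _ = s * x ^ 2 := by rw [hrr, one_mul, pow_two]
    · show x ^ 2 * r = r * x ^ 2
      calc x ^ 2 * r = x * (x * r) := by rw [pow_two, mul_assoc]
        _ = x * (r * s * x) := by rw [h1]
        _ = (x * r) * s * x := by group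
        _ = r * s * x * s * x := by rw [h1]
        _ = r * s * (x * s) * x := by group
        _ = r * s * (s * x) * x := by rw [hsc x]
        _ = r * (s * s) * (x * x) := by group
        _ = r * x ^ 2 := by rw [hss, mul_one, pow_two]
  rcases hr x with hc | hc
  · exact main 1 (Or.inl rfl) (one_pow _) (by rw [hc, mul_one])
  · have hj3 : 3 ≤ j := by
      rcases h3 with h | h
      · exact h
      · exfalso
        apply hz1
        have : x * r * x⁻¹ = r := by rw [h]; group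
        rw [this] at hc
        exact (mul_eq_left.mp hc.symm)
    apply main z (Or.inr rfl) _ hc
    obtain ⟨m, hm⟩ : ∃ m, j - 2 = m + 1 := ⟨j - 3, by omega⟩
    rw [hm, pow_succ', pow_mul, hz2, one_pow]

include hzc hz2 hz1 hr2 hr in
theorem adm_pow (j : ℕ) (hj : 2 ≤ j) (x : G) (hx : Adm z r j x) :
    (r * x) ^ 2 ^ (j - 1) = z := by
  obtain ⟨s, hs, hs2, h1, h2, h3⟩ := adm_data z r hzc hz2 hz1 hr2 hr j hj x hx
  have hsc : Commute s (x ^ 2) := by
    rcases hs with rfl | rfl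
    · exact Commute.one_left _
    · exact (hzc (x ^ 2)).symm
  obtain ⟨m, rfl⟩ : ∃ m, j = m + 2 := ⟨j - 2, by omega⟩
  have e1 : m + 2 - 1 = (m + 2 - 2) + 1 := by omega
  rw [e1, pow_succ', pow_mul, h2, hsc.mul_pow, hs2, one_mul, ← pow_mul, ← pow_succ', ← e1]
  exact hx.2.1

include hzc hz2 hz1 hr2 hr in
theorem adm_mul (j : ℕ) (hj : 2 ≤ j) (x : G) (hx : Adm z r j x) : Adm z r j (r * x) := by
  have hp := adm_pow z r hzc hz2 hz1 hr2 hr j hj x hx
  have hrr : r * r = 1 := by rw [← pow_two]; exact hr2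
  refine ⟨?_, hp, ?_⟩
  · obtain ⟨n, rfl⟩ : ∃ n, j = n + 1 := ⟨j - 1, by omega⟩
    haveI : Fact (Nat.Prime 2) := ⟨Nat.prime_two⟩
    simp only [Nat.add_sub_cancel] at hp
    apply orderOf_eq_prime_pow
    · rw [hp]; exact hz1
    · rw [pow_succ, pow_mul, hp, hz2]
  · rcases hx.2.2 with h | h
    · exact Or.inl h
    · right
      calc r * x * r = r * (x * r) := by group
        _ = r * (r * x) := by rw [h]

include hzc hz2 hz1 hr2 hr in
theorem adm_congr [Finite G] (j : ℕ) (hj : 2 ≤ j) (x x' : G) (hx : Adm z r j x)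
    (hx' : Adm z r j x') (h : zpowers x = zpowers x') :
    zpowers (r * x) = zpowers (r * x') := by
  have hev : Even (orderOf x) := by
    rw [hx.1]; exact (Nat.even_pow.mpr ⟨even_two, by omega⟩)
  obtain ⟨l, rfl⟩ := exists_odd_zpow hev h
  obtain ⟨s, hs, hs2, h1, h2, h3⟩ := adm_data z r hzc hz2 hz1 hr2 hr j hj x hx
  have hsc : Commute s (x ^ 2) := by
    rcases hs with rfl | rfl
    · exact Commute.one_left _
    · exact (hzc (x ^ 2)).symm
  have hzmem : z ∈ zpowers (r * x) := by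
    rw [← adm_pow z r hzc hz2 hz1 hr2 hr j hj x hx]
    exact Subgroup.npow_mem_zpowers _ _
  have hsmem : s ∈ zpowers (r * x) := by
    rcases hs with rfl | rfl
    · exact one_mem _
    · exact hzmem
  have e : (r * x) ^ (2 * l + 1) = s ^ l * (r * x ^ (2 * l + 1)) := by
    have e2 : (r * x) ^ (2 : ℤ) = s * x ^ 2 := by
      have : (r * x) ^ ((2 : ℕ) : ℤ) = s * x ^ 2 := by rw [zpow_natCast]; exact h2
      simpa using this
    have e3 : (x ^ 2) ^ l * r = r * (x ^ 2) ^ l := (h3.zpow_left l).eq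
    have e4 : x ^ (2 * l + 1) = (x ^ 2) ^ l * x := by
      rw [zpow_add, zpow_mul, zpow_one, zpow_two, pow_two]
    rw [zpow_add, zpow_mul, zpow_one, e2, hsc.mul_zpow, e4]
    calc s ^ l * (x ^ 2) ^ l * (r * x) = s ^ l * ((x ^ 2) ^ l * r) * x := by group
      _ = s ^ l * (r * (x ^ 2) ^ l) * x := by rw [e3]
      _ = s ^ l * (r * ((x ^ 2) ^ l * x)) := by group
  apply (zpowers_eq_of_mem_of_orderOf _ _).symm
  · have : r * x ^ (2 * l + 1) = (s ^ l)⁻¹ * (r * x) ^ (2 * l + 1) := by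
      rw [e]; group
    rw [this]
    exact mul_mem (inv_mem (zpow_mem hsmem l)) (Subgroup.zpow_mem_zpowers _ _)
  · rw [(adm_mul z r hzc hz2 hz1 hr2 hr j hj _ hx').1, (adm_mul z r hzc hz2 hz1 hr2 hr j hj _ hx).1]

include hzc hz2 hz1 hr2 hr1 hrz hr in
/-- **L2**: the cyclic subgroups of order `2 ^ j` containing `z` (and centralising `r` when
`j = 2`) are paired off. -/
theorem even_card_mem [Finite G] (j : ℕ) (hj : 2 ≤ j) :
    Even (Nat.card {Z : Subgroup G // ((IsCyclic Z ∧ Nat.card Z = 2 ^ j) ∧ z ∈ Z) ∧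
      (3 ≤ j ∨ Z ≤ centralizer {r})}) := by
  have hrr : r * r = 1 := by rw [← pow_two]; exact hr2
  have e : ∀ Z : Subgroup G, (((IsCyclic Z ∧ Nat.card Z = 2 ^ j) ∧ z ∈ Z) ∧
      (3 ≤ j ∨ Z ≤ centralizer {r})) ↔ ∃ x, Adm z r j x ∧ Z = zpowers x := by
    intro Z
    rw [cyc_iff]
    constructor
    · rintro ⟨⟨⟨x, hx, rfl⟩, hz⟩, h3⟩
      refine ⟨x, ⟨hx, ?_, ?_⟩, rfl⟩
      · rcases invol_of_mem_zpowers j (by omega) hx hz hz2 with h | h
        · exact absurd h hz1
        · exact h.symm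
      · rcases h3 with h | h
        · exact Or.inl h
        · right
          have := h (Subgroup.mem_zpowers x)
          rw [Subgroup.mem_centralizer_singleton_iff] at this
          exact this
    · rintro ⟨x, ⟨hx, hxz, h3⟩, rfl⟩
      refine ⟨⟨⟨x, hx, rfl⟩, ?_⟩, ?_⟩
      · rw [← hxz]; exact Subgroup.npow_mem_zpowers _ _
      · rcases h3 with h | h
        · exact Or.inl h
        · right
          rw [Subgroup.zpowers_le, Subgroup.mem_centralizer_singleton_iff]
          exact h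
  rw [Nat.card_congr (Equiv.subtypeEquivRight e)]
  apply even_card_of_pairing _ (fun x => r * x)
    (fun x hx => adm_mul z r hzc hz2 hz1 hr2 hr j hj x hx)
    (fun x x' hx hx' h => adm_congr z r hzc hz2 hz1 hr2 hr j hj x x' hx hx' h)
  · intro x _
    have : r * (r * x) = x := by rw [← mul_assoc, hrr, one_mul]
    simp only [this]
  · intro x hx h
    have h1 : r * x ∈ zpowers x := h ▸ Subgroup.mem_zpowers _
    have h2 : r ∈ zpowers x := by
      have := mul_mem h1 (inv_mem (Subgroup.mem_zpowers x))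
      rwa [mul_inv_cancel_right] at this
    rcases invol_of_mem_zpowers j (by omega) hx.1 h2 hr2 with h | h
    · exact hr1 h
    · rw [hx.2.1] at h
      exact hrz h

end second

end Cfsg.Agent.helper7.Cyc2
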