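import Mathlib
import Cfsg.Agent.Lib_helper7_Cyc2c

/-!
# Parity of the number of cyclic subgroups of order `2 ^ j` (helper7), part d

The case `j = 2`: cyclic subgroups `⟨x⟩` of order four with `x² = z` and `x` not centralising
`r` correspond to the involutions of `G ⧸ R` outside the image of `C_G(r)`.
-/

set_option autoImplicit false

namespace Cfsg.Agent.helper7.Cyc2

open Subgroup

variable {G : Type*} [Group G]

/-- in a finite `2`-group, a nontrivial subgroup `D`: the number of solutions of `q² = 1`
outside `D` is even -/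
theorem even_card_invol_outside {Q : Type*} [Group Q] [Finite Q] (hQ : IsPGroup 2 Q)
    (D : Subgroup Q) (hD : D ≠ ⊥) :
    Even (Nat.card {q : Q // q ∉ D ∧ q ^ 2 = 1}) := by
  classical
  haveI : Fact (Nat.Prime 2) := ⟨Nat.prime_two⟩
  have h1 := card_split (fun q : Q => q ∉ D) (fun q : Q => q ^ 2 = 1)
  have h2 : Even (Nat.card {q : Q // q ∉ D ∧ ¬ q ^ 2 = 1}) := by
    apply even_card_of_involution _ (fun q => q⁻¹)
    · rintro q ⟨hq1, hq2⟩
      refine ⟨fun h => hq1 (by simpa using h), fun h => hq2 ?_⟩
      rw [inv_pow, inv_eq_one] at h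
      exact h
    · intro q _
      exact inv_inv q
    · rintro q ⟨_, hq2⟩ h
      apply hq2
      rw [pow_two]
      calc q * q = q⁻¹ * q := by rw [h]
        _ = 1 := inv_mul_cancel q
  have hDnt : Nontrivial D := (Subgroup.nontrivial_iff_ne_bot _).2 hD
  have hDe : Even (Nat.card D) := by
    obtain ⟨k, hk0, hk⟩ := (hQ.to_subgroup D).nontrivial_iff_card.mp hDnt
    rw [hk]
    exact (Nat.even_pow.mpr ⟨even_two, by omega⟩)
  have hQe : Even (Nat.card Q) := by
    have : Nat.card D ∣ Nat.card Q := Subgroup.card_subgroup_dvd_card D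
    exact (even_iff_two_dvd.mpr (dvd_trans (even_iff_two_dvd.mp hDe) this))
  have h3 : Even (Nat.card {q : Q // q ∉ D}) := by
    haveI : Fintype Q := Fintype.ofFinite Q
    have e1 : Nat.card {q : Q // q ∉ D} = Nat.card Q - Nat.card D := by
      rw [Nat.card_eq_fintype_card, Nat.card_eq_fintype_card, Nat.card_eq_fintype_card,
        Fintype.card_subtype_compl]
    rw [e1]
    have hle : Nat.card D ≤ Nat.card Q := Subgroup.card_le_card_group D
    exact (Nat.even_sub hle).mpr ⟨fun _ => hDe, fun _ => hQe⟩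
  rw [h1] at h3
  exact (Nat.even_add.mp h3).mpr h2

section third

variable (z r : G) (hzc : ∀ g : G, g * z = z * g) (hz2 : z ^ 2 = 1) (hz1 : z ≠ 1)
  (hr2 : r ^ 2 = 1) (hr1 : r ≠ 1) (hrz : r ≠ z)
  (hr : ∀ g : G, g * r * g⁻¹ = r ∨ g * r * g⁻¹ = r * z)
  (R : Subgroup G) [hRn : R.Normal] (hR : ∀ g : G, g ∈ R ↔ g = 1 ∨ g = z ∨ g = r ∨ g = r * z)

/-- admissible generators for the third count -/
def Adm3 (x : G) : Prop := x ^ 2 = z ∧ x * r ≠ r * x

include hr in
theorem conj_of_not_comm {x : G} (hx : x * r ≠ r * x) : x * r = r * z * x := by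
  rcases hr x with h | h
  · exfalso; apply hx
    calc x * r = (x * r * x⁻¹) * x := by group
      _ = r * x := by rw [h]
  · calc x * r = (x * r * x⁻¹) * x := by group
      _ = r * z * x := by rw [h]

include hz2 hz1 in
theorem adm3_orderOf {x : G} (hx : Adm3 z r x) : orderOf x = 2 ^ 2 := by
  haveI : Fact (Nat.Prime 2) := ⟨Nat.prime_two⟩
  apply orderOf_eq_prime_pow
  · rw [pow_one, hx.1]; exact hz1
  · have : x ^ 2 ^ (1 + 1) = (x ^ 2) ^ 2 := by rw [← pow_mul]; norm_num
    rw [this, hx.1, hz2]

include hr2 hr in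
/-- `(r x)² = z x²` when `x` does not centralise `r` -/
theorem sq_mul_of_not_comm {x : G} (hx : x * r ≠ r * x) : (r * x) ^ 2 = z * x ^ 2 := by
  have h1 := conj_of_not_comm z r hr hx
  have hrr : r * r = 1 := by rw [← pow_two]; exact hr2
  calc (r * x) ^ 2 = r * (x * r) * x := by rw [pow_two]; group
    _ = r * (r * z * x) * x := by rw [h1]
    _ = (r * r) * z * (x * x) := by group
    _ = z * x ^ 2 := by rw [hrr, one_mul, pow_two]

include hzc hz2 hz1 hr2 hr hR in
/-- two admissible elements with the same image in `G ⧸ R` generate the same subgroup -/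
theorem adm3_inj [Finite G] {x x' : G} (hx : Adm3 z r x) (hx' : Adm3 z r x')
    (h : (QuotientGroup.mk' R) x = (QuotientGroup.mk' R) x') : zpowers x' = zpowers x := by
  have hzz : z * z = 1 := by rw [← pow_two]; exact hz2
  have hrr : r * r = 1 := by rw [← pow_two]; exact hr2
  have h1 : x⁻¹ * x' ∈ R := by
    have := (QuotientGroup.eq (s := R) (a := x) (b := x')).mp h
    exact this
  apply zpowers_eq_of_mem_of_orderOf _
    (by rw [adm3_orderOf z r hz2 hz1 hx, adm3_orderOf z r hz2 hz1 hx'])
  -- x' = r * y with y = r * x' would not be admissible; work with left cosets via inverses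
  have hx'eq : x' = x * (x⁻¹ * x') := by group
  rcases (hR _).mp h1 with h2 | h2 | h2 | h2
  · rw [hx'eq, h2, mul_one]; exact Subgroup.mem_zpowers x
  · rw [hx'eq, h2, ← hx.1]
    exact mul_mem (Subgroup.mem_zpowers x) (Subgroup.npow_mem_zpowers x 2)
  · exfalso
    have h3 := conj_of_not_comm z r hr hx.2
    have h4 : x' ^ 2 = 1 := by
      rw [hx'eq, h2, pow_two]
      calc x * r * (x * r) = (x * r) * (x * r) := rfl
        _ = (r * z * x) * (r * z * x) := by rw [h3]
        _ = r * z * (x * r) * z * x := by group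
        _ = r * z * (r * z * x) * z * x := by rw [h3]
        _ = r * (z * r) * z * (x * z) * x := by group
        _ = r * (r * z) * z * (z * x) * x := by rw [hzc r, hzc x]
        _ = (r * r) * (z * z) * z * (x * x) := by group
        _ = z * x ^ 2 := by rw [hrr, hzz, one_mul, one_mul, pow_two]
        _ = 1 := by rw [hx.1, hzz]
    rw [hx'.1] at h4
    exact hz1 h4
  · exfalso
    have h3 := conj_of_not_comm z r hr hx.2
    have h4 : x' ^ 2 = 1 := by
      rw [hx'eq, h2, pow_two]
      calc x * (r * z) * (x * (r * z)) = (x * r) * z * ((x * r) * z) := by group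
        _ = (r * z * x) * z * ((r * z * x) * z) := by rw [h3]
        _ = r * z * (x * z) * r * z * (x * z) := by group
        _ = r * z * (z * x) * r * z * (z * x) := by rw [hzc x]
        _ = r * (z * z) * (x * r) * (z * z) * x := by group
        _ = r * (r * z * x) * x := by rw [hzz, mul_one, mul_one, h3]
        _ = (r * r) * z * (x * x) := by group
        _ = z * x ^ 2 := by rw [hrr, one_mul, pow_two]
        _ = 1 := by rw [hx.1, hzz]
    rw [hx'.1] at h4
    exact hz1 h4

include hz2 hz1 hR in
/-- generators of the same group have the same image in `G ⧸ R` -/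
theorem adm3_image_eq {x x' : G} (hx : Adm3 z r x) (_hx' : Adm3 z r x')
    (h : zpowers x = zpowers x') :
    (QuotientGroup.mk' R) x' = (QuotientGroup.mk' R) x := by
  have hev : Even (orderOf x) := by
    rw [adm3_orderOf z r hz2 hz1 hx]; decide
  obtain ⟨l, rfl⟩ := exists_odd_zpow hev h
  have hzR : (QuotientGroup.mk' R) z = 1 := by
    rw [QuotientGroup.mk'_apply, QuotientGroup.eq_one_iff]
    exact (hR z).mpr (Or.inr (Or.inl rfl))
  have e : x ^ (2 * l + 1) = z ^ l * x := by
    rw [zpow_add, zpow_mul, zpow_one, zpow_two, ← pow_two, hx.1]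
  rw [e, map_mul, map_zpow, hzR, one_zpow, one_mul]

end third

end Cfsg.Agent.helper7.Cyc2
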