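import Mathlib
import Cfsg.Agent.Lib_helper7_Cyc2d

/-!
# Parity of the number of cyclic subgroups of order `2 ^ j` (helper7), part e

The third count and the assembly for explicit `z`, `r`.
-/

set_option autoImplicit false

namespace Cfsg.Agent.helper7.Cyc2

open Subgroup

variable {G : Type*} [Group G]

section third

variable (z r : G) (hzc : ∀ g : G, g * z = z * g) (hz2 : z ^ 2 = 1) (hz1 : z ≠ 1)
  (hr2 : r ^ 2 = 1) (hr1 : r ≠ 1) (hrz : r ≠ z)
  (hr : ∀ g : G, g * r * g⁻¹ = r ∨ g * r * g⁻¹ = r * z)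
  (R : Subgroup G) [hRn : R.Normal] (hR : ∀ g : G, g ∈ R ↔ g = 1 ∨ g = z ∨ g = r ∨ g = r * z)

include hzc hr2 hR in
theorem comm_of_mem_R {ρ : G} (hρ : ρ ∈ R) : ρ * r = r * ρ := by
  rcases (hR ρ).mp hρ with h | h | h | h
  · rw [h]; simp
  · rw [h]; exact (hzc r).symm
  · rw [h]
  · rw [h]
    calc r * z * r = r * (z * r) := by group
      _ = r * (r * z) := by rw [hzc r]

include hzc hr2 hR in
theorem mem_map_iff (x : G) :
    (QuotientGroup.mk' R) x ∈ (centralizer ({r} : Set G)).map (QuotientGroup.mk' R) ↔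
      x * r = r * x := by
  constructor
  · rintro ⟨c, hc, hcx⟩
    rw [SetLike.mem_coe, Subgroup.mem_centralizer_singleton_iff] at hc
    have h1 : c⁻¹ * x ∈ R := (QuotientGroup.eq (s := R) (a := c) (b := x)).mp hcx
    have h2 := comm_of_mem_R z r hzc hr2 R hR h1
    calc x * r = c * ((c⁻¹ * x) * r) := by group
      _ = c * (r * (c⁻¹ * x)) := by rw [h2]
      _ = (c * r) * (c⁻¹ * x) := by group
      _ = (r * c) * (c⁻¹ * x) := by rw [hc]
      _ = r * x := by group
  · intro h
    exact ⟨x, by rw [SetLike.mem_coe, Subgroup.mem_centralizer_singleton_iff]; exact h, rfl⟩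

include hzc hz2 hz1 hr2 hr hR in
/-- **L3**: the cyclic subgroups `⟨x⟩` with `x² = z`, `x` not centralising `r`, are even in
number as soon as `C_G(r)` is not contained in `R`. -/
theorem even_card_third [Finite G] (hG : IsPGroup 2 G) (hc : ∃ c : G, c * r = r * c ∧ c ∉ R) :
    Even (Nat.card {Z : Subgroup G // ∃ x, Adm3 z r x ∧ Z = zpowers x}) := by
  classical
  set π := QuotientGroup.mk' R with hπ
  set D := (centralizer ({r} : Set G)).map π with hD
  have hrr : r * r = 1 := by rw [← pow_two]; exact hr2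
  have hzR : π z = 1 := by
    rw [hπ, QuotientGroup.mk'_apply, QuotientGroup.eq_one_iff]
    exact (hR z).mpr (Or.inr (Or.inl rfl))
  have hrR : π r = 1 := by
    rw [hπ, QuotientGroup.mk'_apply, QuotientGroup.eq_one_iff]
    exact (hR r).mpr (Or.inr (Or.inr (Or.inl rfl)))
  have hDne : D ≠ ⊥ := by
    obtain ⟨c, hc1, hc2⟩ := hc
    intro h
    have h1 : π c ∈ D := (mem_map_iff z r hzc hr2 R hR c).mpr hc1
    rw [h, Subgroup.mem_bot, hπ, QuotientGroup.mk'_apply, QuotientGroup.eq_one_iff] at h1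
    exact hc2 h1
  have hQ : IsPGroup 2 (G ⧸ R) := hG.to_quotient R
  have h1 := even_card_invol_outside hQ D hDne
  have hprop : ∀ x, Adm3 z r x → π x ∉ D ∧ (π x) ^ 2 = 1 := by
    intro x hx
    refine ⟨fun h => hx.2 ((mem_map_iff z r hzc hr2 R hR x).mp h), ?_⟩
    rw [← map_pow, hx.1, hzR]
  have e : Nat.card {Z : Subgroup G // ∃ x, Adm3 z r x ∧ Z = zpowers x}
      = Nat.card {q : G ⧸ R // q ∉ D ∧ q ^ 2 = 1} := by
    apply Nat.card_congr
    refine Equiv.ofBijective (fun Z => ⟨π Z.2.choose, hprop _ Z.2.choose_spec.1⟩) ⟨?_, ?_⟩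
    · rintro ⟨Z₁, h₁⟩ ⟨Z₂, h₂⟩ h
      have h' : π h₁.choose = π h₂.choose := congrArg Subtype.val h
      have := adm3_inj z r hzc hz2 hz1 hr2 hr R hR h₁.choose_spec.1 h₂.choose_spec.1 h'
      apply Subtype.ext
      show Z₁ = Z₂
      rw [h₁.choose_spec.2, h₂.choose_spec.2, this]
    · rintro ⟨q, hq1, hq2⟩
      obtain ⟨x, rfl⟩ := QuotientGroup.mk'_surjective R q
      have hxr : x * r ≠ r * x := fun h => hq1 ((mem_map_iff z r hzc hr2 R hR x).mpr h)
      have hx2 : x ^ 2 ∈ R := by
        have : π (x ^ 2) = 1 := by rw [map_pow]; exact hq2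
        rwa [hπ, QuotientGroup.mk'_apply, QuotientGroup.eq_one_iff] at this
      have key : ∃ x', Adm3 z r x' ∧ π x' = π x := by
        rcases (hR _).mp hx2 with h | h | h | h
        · refine ⟨r * x, ⟨?_, ?_⟩, ?_⟩
          · rw [sq_mul_of_not_comm z r hr2 hr hxr, h, mul_one]
          · intro h'
            apply hxr
            calc x * r = (r * r) * x * r := by rw [hrr, one_mul]
              _ = r * (r * x * r) := by group
              _ = r * (r * (r * x)) := by rw [h']
              _ = (r * r) * (r * x) := by group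
              _ = r * x := by rw [hrr, one_mul]
          · rw [map_mul, hrR, one_mul]
        · exact ⟨x, ⟨h, hxr⟩, rfl⟩
        · exfalso; apply hxr
          rw [← h, ← pow_succ', ← pow_succ]
        · exfalso; apply hxr
          have h3 : x * (r * z) = (r * z) * x := by
            rw [← h, ← pow_succ', ← pow_succ]
          have hzz : z * z = 1 := by rw [← pow_two]; exact hz2
          calc x * r = x * (r * z) * z := by rw [mul_assoc, mul_assoc, hzz, mul_one]
            _ = r * z * x * z := by rw [h3]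
            _ = r * (z * (x * z)) := by group
            _ = r * (z * (z * x)) := by rw [hzc x]
            _ = r * x := by rw [← mul_assoc z, hzz, one_mul]
      obtain ⟨x', hx', hπx'⟩ := key
      have hex : ∃ y, Adm3 z r y ∧ zpowers x' = zpowers y := ⟨x', hx', rfl⟩
      refine ⟨⟨zpowers x', hex⟩, ?_⟩
      apply Subtype.ext
      show π hex.choose = π x
      rw [← hπx']
      exact adm3_image_eq z r hz2 hz1 R hR hx' hex.choose_spec.1 hex.choose_spec.2
  rw [e]
  exact h1

include hzc hz2 hz1 hr2 hr1 hrz hr hR in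
/-- assembly for explicit `z` and `r` -/
theorem even_card_cyclic_aux [Finite G] (hG : IsPGroup 2 G)
    (hc : ∃ c : G, c * r = r * c ∧ c ∉ R) (j : ℕ) (hj : 2 ≤ j) :
    Even (Nat.card {Z : Subgroup G // IsCyclic Z ∧ Nat.card Z = 2 ^ j}) := by
  rw [card_split (fun Z : Subgroup G => IsCyclic Z ∧ Nat.card Z = 2 ^ j) (fun Z => z ∈ Z)]
  apply Even.add _ (even_card_not_mem z hzc hz2 j (by omega))
  rw [card_split (fun Z : Subgroup G => (IsCyclic Z ∧ Nat.card Z = 2 ^ j) ∧ z ∈ Z)
    (fun Z => 3 ≤ j ∨ Z ≤ centralizer {r})]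
  apply Even.add (even_card_mem z r hzc hz2 hz1 hr2 hr1 hrz hr j hj)
  by_cases h3 : 3 ≤ j
  · have : IsEmpty {Z : Subgroup G // ((IsCyclic Z ∧ Nat.card Z = 2 ^ j) ∧ z ∈ Z) ∧
        ¬ (3 ≤ j ∨ Z ≤ centralizer {r})} := by
      rw [isEmpty_subtype]
      rintro Z ⟨_, h⟩
      exact h (Or.inl h3)
    rw [Nat.card_of_isEmpty]
    exact ⟨0, rfl⟩
  · obtain rfl : j = 2 := by omega
    have e : ∀ Z : Subgroup G, (((IsCyclic Z ∧ Nat.card Z = 2 ^ 2) ∧ z ∈ Z) ∧
        ¬ (3 ≤ 2 ∨ Z ≤ centralizer {r})) ↔ ∃ x, Adm3 z r x ∧ Z = zpowers x := by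
      intro Z
      rw [cyc_iff]
      constructor
      · rintro ⟨⟨⟨x, hx, rfl⟩, hz⟩, hn⟩
        refine ⟨x, ⟨?_, ?_⟩, rfl⟩
        · rcases invol_of_mem_zpowers 2 (by omega) hx hz hz2 with h | h
          · exact absurd h hz1
          · rw [h]; norm_num
        · intro h
          apply hn
          right
          rw [Subgroup.zpowers_le, Subgroup.mem_centralizer_singleton_iff]
          exact h
      · rintro ⟨x, hx, rfl⟩
        refine ⟨⟨⟨x, adm3_orderOf z r hz2 hz1 hx, rfl⟩, ?_⟩, ?_⟩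
        · rw [← hx.1]; exact Subgroup.npow_mem_zpowers _ _
        · rintro (h | h)
          · omega
          · apply hx.2
            have := h (Subgroup.mem_zpowers x)
            rwa [Subgroup.mem_centralizer_singleton_iff] at this
    rw [Nat.card_congr (Equiv.subtypeEquivRight e)]
    exact even_card_third z r hzc hz2 hz1 hr2 hr R hR hG hc

end third

end Cfsg.Agent.helper7.Cyc2
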