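import Mathlib
import Cfsg.Agent.Lib_helper7_Cyc2e
import Cfsg.Agent.Lib_helper7_Meta2a

/-!
# Parity of the number of cyclic subgroups of order `2 ^ j` (helper7), part f

Final form: a `2`-group of order at least `16` with a normal four-subgroup has an even number
of cyclic subgroups of order `2 ^ j` for every `j ≥ 2`.
-/

set_option autoImplicit false

namespace Cfsg.Agent.helper7.Cyc2

open Subgroup

variable {G : Type*} [Group G]

/-- an element with at most two conjugates in a group of order at least `16` is centralised by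
some element outside any given subgroup of order `4` -/
theorem exists_comm_not_mem [Finite G] (r w : G) (hr : ∀ g : G, g * r * g⁻¹ = r ∨ g * r * g⁻¹ = w)
    (R : Subgroup G) (hR4 : Nat.card R = 4) (h16 : 16 ≤ Nat.card G) :
    ∃ c : G, c * r = r * c ∧ c ∉ R := by
  classical
  by_contra hcon
  push_neg at hcon
  haveI : Finite (ConjAct G) := inferInstanceAs (Finite G)
  set S := MulAction.stabilizer (ConjAct G) r with hS
  have h1 : S.index = (MulAction.orbit (ConjAct G) r).ncard := MulAction.index_stabilizer _ _
  have h2 : (MulAction.orbit (ConjAct G) r).ncard ≤ 2 := by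
    have hsub : MulAction.orbit (ConjAct G) r ⊆ ({r, w} : Set G) := by
      rintro y ⟨c, rfl⟩
      show c • r ∈ ({r, w} : Set G)
      rw [ConjAct.smul_def]
      rcases hr (ConjAct.ofConjAct c) with h | h
      · left; exact h
      · right; exact h
    calc (MulAction.orbit (ConjAct G) r).ncard ≤ ({r, w} : Set G).ncard :=
          Set.ncard_le_ncard hsub (Set.toFinite _)
      _ ≤ 2 := Set.ncard_insert_le _ _ |>.trans (by simp)
  have h3 : Nat.card S * S.index = Nat.card (ConjAct G) := Subgroup.card_mul_index S
  have h4 : Nat.card (ConjAct G) = Nat.card G := Nat.card_congr ConjAct.ofConjAct.toEquiv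
  have h5 : Nat.card S ≤ Nat.card R := by
    apply Nat.card_le_card_of_injective (fun c : S => (⟨ConjAct.ofConjAct (c : ConjAct G), ?_⟩ : R))
    · intro a b hab
      have := congrArg Subtype.val hab
      apply Subtype.ext
      exact ConjAct.ofConjAct.injective this
    · have hc : (c : ConjAct G) ∈ MulAction.stabilizer (ConjAct G) r := c.2
      rw [MulAction.mem_stabilizer_iff, ConjAct.smul_def] at hc
      apply hcon _
      calc ConjAct.ofConjAct (c : ConjAct G) * r
          = (ConjAct.ofConjAct (c : ConjAct G) * r * (ConjAct.ofConjAct (c : ConjAct G))⁻¹) *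
              ConjAct.ofConjAct (c : ConjAct G) := by group
        _ = r * ConjAct.ofConjAct (c : ConjAct G) := by rw [hc]
  have h6 : 0 < S.index := Nat.pos_of_ne_zero Subgroup.index_ne_zero_of_finite
  rw [h4] at h3
  rw [hR4] at h5
  rw [h1] at h3 h6
  nlinarith

/-- **main**: in a finite `2`-group of order at least `16` with a normal four-subgroup, the
number of cyclic subgroups of order `2 ^ j`, `j ≥ 2`, is even. -/
theorem even_card_cyclic [Finite G] (hG : IsPGroup 2 G) (R : Subgroup G) [hRn : R.Normal]
    (hR : IsKleinFour R) (h16 : 16 ≤ Nat.card G) (j : ℕ) (hj : 2 ≤ j) :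
    2 ∣ Nat.card {Z : Subgroup G // IsCyclic Z ∧ Nat.card Z = 2 ^ j} := by
  classical
  rw [← even_iff_two_dvd]
  have hR4 : Nat.card R = 4 := IsKleinFour.card_four
  have hRne : R ≠ ⊥ := by
    intro h
    rw [h, Subgroup.card_bot] at hR4
    omega
  obtain ⟨z, hzR, hzc, hzo⟩ := Cfsg.Agent.helper7.Meta2.central_invol_in_normal hG R hRne
  have hzc' : ∀ g : G, g * z = z * g := fun g => (Subgroup.mem_center_iff.mp hzc g)
  have hz2 : z ^ 2 = 1 := by rw [← hzo]; exact pow_orderOf_eq_one z
  have hz1 : z ≠ 1 := by
    intro h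
    rw [h, orderOf_one] at hzo
    omega
  have hsq : ∀ g ∈ R, g ^ 2 = 1 := by
    intro g hg
    have := IsKleinFour.mul_self (⟨g, hg⟩ : R)
    rw [pow_two]
    exact congrArg Subtype.val this
  obtain ⟨r, hrR, hr1, hrz⟩ : ∃ r ∈ R, r ≠ 1 ∧ r ≠ z := by
    by_contra hcon
    push_neg at hcon
    have hle : R ≤ zpowers z := by
      intro g hg
      by_cases h1 : g = 1
      · rw [h1]; exact one_mem _
      · rw [hcon g hg h1]; exact Subgroup.mem_zpowers z
    have := Subgroup.card_le_of_le hle
    rw [hR4, Nat.card_zpowers, hzo] at this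
    omega
  have hr2 : r ^ 2 = 1 := hsq r hrR
  have hRmem : ∀ g : G, g ∈ R ↔ g = 1 ∨ g = z ∨ g = r ∨ g = r * z := by
    intro g
    constructor
    · intro hg
      haveI : Fintype R := Fintype.ofFinite R
      have hu := IsKleinFour.eq_finset_univ (G := R) (x := ⟨r, hrR⟩) (y := ⟨z, hzR⟩)
        (fun h => hr1 (congrArg Subtype.val h)) (fun h => hz1 (congrArg Subtype.val h))
        (fun h => hrz (congrArg Subtype.val h))
      have hmem : (⟨g, hg⟩ : R) ∈ (Finset.univ : Finset R) := Finset.mem_univ _
      rw [← hu] at hmem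
      simp only [Finset.mem_insert, Finset.mem_singleton, Subtype.ext_iff, Subgroup.coe_mul,
        Subgroup.coe_one] at hmem
      tauto
    · rintro (h | h | h | h)
      · rw [h]; exact one_mem _
      · rw [h]; exact hzR
      · rw [h]; exact hrR
      · rw [h]; exact mul_mem hrR hzR
  have hr : ∀ g : G, g * r * g⁻¹ = r ∨ g * r * g⁻¹ = r * z := by
    intro g
    have hmem : g * r * g⁻¹ ∈ R := hRn.conj_mem r hrR g
    rcases (hRmem _).mp hmem with h | h | h | h
    · exfalso; apply hr1
      have : r = g⁻¹ * (g * r * g⁻¹) * g := by group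
      rw [this, h]; group
    · exfalso; apply hrz
      have : r = g⁻¹ * (g * r * g⁻¹) * g := by group
      rw [this, h, mul_assoc, ← hzc' g, ← mul_assoc, inv_mul_cancel, one_mul]
    · exact Or.inl h
    · exact Or.inr h
  have hc := exists_comm_not_mem r (r * z) hr R hR4 h16
  exact even_card_cyclic_aux z r hzc' hz2 hz1 hr2 hr1 hrz hr R hRmem hG hc j hj

end Cfsg.Agent.helper7.Cyc2
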