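import Mathlib
import Cfsg.Agent.Lib_helper7_Cyc2f
import Cfsg.Agent.Lib_helper7_MaxClass
import Cfsg.Agent.Lib_helper17_SCg

/-!
# Parity of the number of cyclic subgroups of order `2 ^ j` (helper7), part g

Variant with a centralising element outside `R`, the small orders, and the glue to the
count of subgroups of order `2 ^ k` modulo `4` (for S4157, `p = 2`).
-/

set_option autoImplicit false

namespace Cfsg.Agent.helper7.Cyc2

open Subgroup

variable {G : Type*} [Group G]

/-- variant of `even_card_cyclic`: instead of `16 ≤ |G|` assume that some element outside `R`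
centralises `R`. -/
theorem even_card_cyclic' [Finite G] (hG : IsPGroup 2 G) (R : Subgroup G) [hRn : R.Normal]
    (hR : IsKleinFour R) (hc : ∃ c : G, c ∉ R ∧ ∀ ρ ∈ R, c * ρ = ρ * c) (j : ℕ) (hj : 2 ≤ j) :
    2 ∣ Nat.card {Z : Subgroup G // IsCyclic Z ∧ Nat.card Z = 2 ^ j} := by
  classical
  rw [← even_iff_two_dvd]
  have hR4 : Nat.card R = 4 := IsKleinFour.card_four
  have hRne : R ≠ ⊥ := by
    intro h
    rw [h, Subgroup.card_bot] at hR4
    omega
  obtain ⟨z, hzR, hzc, hzo⟩ := Cfsg.Agent.helper7.Meta2.central_invol_in_normal hG R hRne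
  have hzc' : ∀ g : G, g * z = z * g := fun g => (Subgroup.mem_center_iff.mp hzc g)
  have hz2 : z ^ 2 = 1 := by rw [← hzo]; exact pow_orderOf_eq_one z
  have hz1 : z ≠ 1 := by
    intro h
    rw [h, orderOf_one] at hzo
    omega
  have hsq : ∀ g ∈ R, g ^ 2 = 1 := by
    intro g hg
    have := IsKleinFour.mul_self (⟨g, hg⟩ : R)
    rw [pow_two]
    exact congrArg Subtype.val this
  obtain ⟨r, hrR, hr1, hrz⟩ : ∃ r ∈ R, r ≠ 1 ∧ r ≠ z := by
    by_contra hcon
    push Not at hcon
    have hle : R ≤ zpowers z := by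
      intro g hg
      by_cases h1 : g = 1
      · rw [h1]; exact one_mem _
      · rw [hcon g hg h1]; exact Subgroup.mem_zpowers z
    have := Subgroup.card_le_of_le hle
    rw [hR4, Nat.card_zpowers, hzo] at this
    omega
  have hr2 : r ^ 2 = 1 := hsq r hrR
  have hRmem : ∀ g : G, g ∈ R ↔ g = 1 ∨ g = z ∨ g = r ∨ g = r * z := by
    intro g
    constructor
    · intro hg
      haveI : Fintype R := Fintype.ofFinite R
      have hu := IsKleinFour.eq_finset_univ (G := R) (x := ⟨r, hrR⟩) (y := ⟨z, hzR⟩)
        (fun h => hr1 (congrArg Subtype.val h)) (fun h => hz1 (congrArg Subtype.val h))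
        (fun h => hrz (congrArg Subtype.val h))
      have hmem : (⟨g, hg⟩ : R) ∈ (Finset.univ : Finset R) := Finset.mem_univ _
      rw [← hu] at hmem
      simp only [Finset.mem_insert, Finset.mem_singleton, Subtype.ext_iff, Subgroup.coe_mul,
        Subgroup.coe_one] at hmem
      tauto
    · rintro (h | h | h | h)
      · rw [h]; exact one_mem _
      · rw [h]; exact hzR
      · rw [h]; exact hrR
      · rw [h]; exact mul_mem hrR hzR
  have hr : ∀ g : G, g * r * g⁻¹ = r ∨ g * r * g⁻¹ = r * z := by
    intro g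
    have hmem : g * r * g⁻¹ ∈ R := hRn.conj_mem r hrR g
    rcases (hRmem _).mp hmem with h | h | h | h
    · exfalso; apply hr1
      have : r = g⁻¹ * (g * r * g⁻¹) * g := by group
      rw [this, h]; group
    · exfalso; apply hrz
      have : r = g⁻¹ * (g * r * g⁻¹) * g := by group
      rw [this, h, mul_assoc, ← hzc' g, ← mul_assoc, inv_mul_cancel, one_mul]
    · exact Or.inl h
    · exact Or.inr h
  obtain ⟨c, hcR, hcc⟩ := hc
  exact even_card_cyclic_aux z r hzc' hz2 hz1 hr2 hr1 hrz hr R hRmem hG
    ⟨c, hcc r hrR, hcR⟩ j hj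

/-- a group of order `8` whose class is not `2` is abelian -/
theorem comm_of_card_eight [Finite G] (hG : Nat.card G = 2 ^ 3)
    (hcl : Group.nilpotencyClass G ≠ 2) : ∀ a b : G, a * b = b * a := by
  haveI : Fact (Nat.Prime 2) := ⟨Nat.prime_two⟩
  have hP : IsPGroup 2 G := IsPGroup.of_card hG
  haveI : Group.IsNilpotent G := hP.isNilpotent
  haveI : Nontrivial G := by
    apply Finite.one_lt_card_iff_nontrivial.mp
    rw [hG]; norm_num
  by_contra hcon
  apply hcl
  have hZnt : Nontrivial (center G) := hP.center_nontrivial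
  have hZ2 : 2 ∣ Nat.card (center G) := by
    obtain ⟨k, hk0, hk⟩ := (hP.to_subgroup (center G)).nontrivial_iff_card.mp hZnt
    rw [hk]; exact dvd_pow_self _ (by omega)
  have hmul : Nat.card (G ⧸ center G) * Nat.card (center G) = 2 ^ 3 := by
    rw [← hG]; exact (Subgroup.card_eq_card_quotient_mul_card_subgroup (center G)).symm
  have hdvd : Nat.card (G ⧸ center G) ∣ 2 ^ 2 := by
    obtain ⟨t, ht⟩ := hZ2
    rw [ht] at hmul
    have : Nat.card (G ⧸ center G) * t = 2 ^ 2 := by
      have : 2 * (Nat.card (G ⧸ center G) * t) = 2 * 2 ^ 2 := by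
        have e : (2 : ℕ) * 2 ^ 2 = 2 ^ 3 := by norm_num
        rw [e, ← hmul]; ring
      exact Nat.eq_of_mul_eq_mul_left (by norm_num) this
    exact ⟨t, this.symm⟩
  have hqc := Cfsg.Agent.helper7.comm_of_card_dvd_prime_sq (p := 2) hdvd
  haveI : Nontrivial (G ⧸ center G) := by
    by_contra hnt
    rw [not_nontrivial_iff_subsingleton] at hnt
    apply hcon
    intro a b
    have ha : a ∈ center G := by
      rw [← QuotientGroup.eq_one_iff]
      exact Subsingleton.elim _ _
    exact ((Subgroup.mem_center_iff.mp ha) b).symm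
  rw [Group.nilpotencyClass_eq_quotient_center_plus_one,
    Cfsg.Agent.helper7.nilpotencyClass_eq_one_of_comm hqc]

/-- all orders: a `2`-group of order `2 ^ m`, class `≠ m - 1`, with a normal four-subgroup has
an even number of cyclic subgroups of order `2 ^ j`, `j ≥ 2`. -/
theorem two_dvd_card_cyclic [Finite G] (m : ℕ) (hG : Nat.card G = 2 ^ m)
    (hcl : Group.nilpotencyClass G ≠ m - 1) (R : Subgroup G) [hRn : R.Normal]
    (hR : IsKleinFour R) (j : ℕ) (hj : 2 ≤ j) :
    2 ∣ Nat.card {Z : Subgroup G // IsCyclic Z ∧ Nat.card Z = 2 ^ j} := by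
  haveI : Fact (Nat.Prime 2) := ⟨Nat.prime_two⟩
  have hP : IsPGroup 2 G := IsPGroup.of_card hG
  have hR4 : Nat.card R = 4 := IsKleinFour.card_four
  by_cases h4 : 4 ≤ m
  · apply even_card_cyclic hP R hR _ j hj
    rw [hG]
    calc 16 = 2 ^ 4 := by norm_num
      _ ≤ 2 ^ m := Nat.pow_le_pow_right (by norm_num) h4
  · have hdvd : Nat.card R ∣ Nat.card G := Subgroup.card_subgroup_dvd_card R
    rw [hR4, hG] at hdvd
    have hm2 : 2 ≤ m := by
      by_contra h
      have : m = 0 ∨ m = 1 := by omega
      rcases this with rfl | rfl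
      · norm_num at hdvd
      · norm_num at hdvd
    have hm : m = 2 ∨ m = 3 := by omega
    rcases hm with rfl | rfl
    · exfalso
      apply hcl
      have htop : R = ⊤ := by
        apply Subgroup.eq_top_of_card_eq
        rw [hR4, hG]; norm_num
      haveI : Nontrivial G := by
        apply Finite.one_lt_card_iff_nontrivial.mp
        rw [hG]; norm_num
      apply Cfsg.Agent.helper7.nilpotencyClass_eq_one_of_comm
      intro a b
      have ha : a ∈ R := htop ▸ Subgroup.mem_top a
      have hb : b ∈ R := htop ▸ Subgroup.mem_top b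
      have := IsKleinFour.isMulCommutative (G := R)
      exact congrArg Subtype.val (mul_comm' (⟨a, ha⟩ : R) ⟨b, hb⟩)
    · have hcomm := comm_of_card_eight hG (by simpa using hcl)
      have hne : R ≠ ⊤ := by
        intro h
        rw [h, Subgroup.card_top, hG] at hR4
        norm_num at hR4
      obtain ⟨c, -, hc⟩ := SetLike.exists_of_lt (lt_top_iff_ne_top.mpr hne)
      exact even_card_cyclic' hP R hR ⟨c, hc, fun ρ _ => hcomm c ρ⟩ j hj

end Cfsg.Agent.helper7.Cyc2
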