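import Mathlib
import Cfsg.Agent.Lib_helper7_Cyc2g

/-!
# Kulakoff-type congruence for `p = 2` given a normal four-subgroup (helper7), part h

Glue: `c_{k+1}` even, Frobenius for `s_{k+1}`, and helper17's `s_k ≡ 1 + 2 nc_{k+1} (mod 4)`.
-/

set_option autoImplicit false

namespace Cfsg.Agent.helper7.Cyc2

open Subgroup

variable {G : Type*} [Group G]

/-- for a `2`-group of order `2 ^ m`, class `≠ m - 1`, with a normal four-subgroup, the number
of subgroups of order `2 ^ k`, `1 ≤ k < m`, is `≡ 3 (mod 4)`. -/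
theorem kulakoff_two [Finite G] (m : ℕ) (hG : Nat.card G = 2 ^ m)
    (hcl : Group.nilpotencyClass G ≠ m - 1) (R : Subgroup G) [hRn : R.Normal]
    (hR : IsKleinFour R) (k : ℕ) (hk1 : 1 ≤ k) (hk2 : k < m) :
    Nat.card {H : Subgroup G // Nat.card H = 2 ^ k} ≡ 1 + 2 [MOD 2 ^ 2] := by
  haveI : Fact (Nat.Prime 2) := ⟨Nat.prime_two⟩
  have hdvd : 2 ^ (k + 1) ∣ Nat.card G := by
    rw [hG]; exact pow_dvd_pow 2 (by omega)
  obtain ⟨K, hK⟩ := Cfsg.Agent.helper17.SC.card_subgroups_mod_sq (G := G) 2 k hdvd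
  obtain ⟨K', hK'⟩ := Cfsg.Agent.helper17.SC.card_subgroups_modp (G := G) 2 (k + 1) hdvd
  obtain ⟨K'', hK''⟩ := two_dvd_card_cyclic m hG hcl R hR (k + 1) (by omega)
  have hsplit := card_split (fun T : Subgroup G => Nat.card T = 2 ^ (k + 1))
    (fun T => IsCyclic T)
  have hc : Nat.card {T : Subgroup G // Nat.card T = 2 ^ (k + 1) ∧ IsCyclic T}
      = Nat.card {Z : Subgroup G // IsCyclic Z ∧ Nat.card Z = 2 ^ (k + 1)} :=
    Nat.card_congr (Equiv.subtypeEquivRight (fun _ => and_comm))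
  rw [hc, hK''] at hsplit
  have hsplit' : (Nat.card {T : Subgroup G // Nat.card T = 2 ^ (k + 1)} : ℤ)
      = 2 * (K'' : ℤ) + (Nat.card {T : Subgroup G // Nat.card T = 2 ^ (k + 1) ∧ ¬ IsCyclic T} : ℤ) := by
    rw [hsplit]; push_cast; ring
  apply (Int.natCast_modEq_iff).mp
  rw [Int.modEq_iff_dvd]
  refine ⟨-(K' - (K'' : ℤ) + K), ?_⟩
  push_cast at hK hK' hsplit' ⊢
  linarith

end Cfsg.Agent.helper7.Cyc2
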