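import Mathlib
import Cfsg.Agent.Lib_helper7_E8a

set_option autoImplicit false
open Cfsg
open scoped commutatorElement Pointwise

namespace Cfsg.Agent.helper7

variable {G : Type*} [Group G]

theorem orderOf_coprime_two_of_piGrp {D : Subgroup G} (hD : PiGrp {q | q ≠ 2} D) {d : G}
    (hd : d ∈ D) : (orderOf d).Coprime 2 :=
  Nat.Coprime.symm ((Nat.Prime.coprime_iff_not_dvd Nat.prime_two).2
    (fun h => hD d hd 2 Nat.prime_two h rfl))

/-- If `z` inverts `V` and an element `d` of odd order normalizing `V`, then `d` centralizes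
`V`. -/
theorem centralizes_of_inverts {z d : G} {V : Subgroup G}
    (hVz : ∀ v ∈ V, z * v * z⁻¹ = v⁻¹) (hdz : z * d * z⁻¹ = d⁻¹)
    (hdV : d ∈ Subgroup.normalizer (V : Set G)) (hodd : (orderOf d).Coprime 2) :
    d ∈ Subgroup.centralizer (V : Set G) := by
  have h2 : d ^ 2 ∈ Subgroup.centralizer (V : Set G) := by
    rw [Subgroup.mem_centralizer_iff]
    intro v hv
    have h1 : d * v⁻¹ * d⁻¹ ∈ V := (Subgroup.mem_normalizer_iff.1 hdV v⁻¹).1 (V.inv_mem hv)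
    have h3 := hVz _ h1
    have h4 : z * (d * v⁻¹ * d⁻¹) * z⁻¹ =
        (z * d * z⁻¹) * (z * v * z⁻¹)⁻¹ * (z * d * z⁻¹)⁻¹ := by group
    rw [h4, hdz, hVz v hv, inv_inv, inv_inv] at h3
    have h5 : (d * v⁻¹ * d⁻¹)⁻¹ = d * v * d⁻¹ := by group
    rw [h5] at h3
    calc v * d ^ 2 = d * (d⁻¹ * v * d) * d := by rw [pow_two]; group
      _ = d * (d * v * d⁻¹) * d := by rw [h3]
      _ = d ^ 2 * v := by rw [pow_two]; group
  obtain ⟨m, hm⟩ := exists_pow_eq_self_of_coprime hodd.symm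
  rw [← hm]
  exact Subgroup.pow_mem _ h2 m

theorem balance_aux [Finite G] {x z : G} {Cy V D : Subgroup G}
    (hx2 : x ^ 2 = 1) (hxCy : x ∈ Cy) (hE : layerOf Cy = ⊥)
    (hV : V = piCoreIn {q | q ≠ 2} Cy)
    (hDpi : PiGrp {q | q ≠ 2} D) (hDCy : D ≤ Cy)
    (hDx : D ≤ Subgroup.centralizer ({x} : Set G))
    (hN : Cy ⊓ Subgroup.centralizer ({x} : Set G) ≤ Subgroup.normalizer (D : Set G))
    (hVz : ∀ v ∈ V, z * v * z⁻¹ = v⁻¹)
    (hDz : ∀ d ∈ D, z * d * z⁻¹ = d⁻¹) : D ≤ V := by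
  haveI : Fact (Nat.Prime 2) := ⟨Nat.prime_two⟩
  have hCyV : Cy ≤ Subgroup.normalizer (V : Set G) := by rw [hV]; exact piCoreIn_normal _ _
  have hDV : D ≤ Subgroup.centralizer (V : Set G) := fun d hd =>
    centralizes_of_inverts hVz (hDz d hd) (hCyV (hDCy hd)) (orderOf_coprime_two_of_piGrp hDpi hd)
  obtain ⟨C₁, hC₁⟩ : ∃ C₁ : Subgroup G, C₁ = Cy ⊓ Subgroup.centralizer (V : Set G) := ⟨_, rfl⟩
  have hC₁Cy : C₁ ≤ Cy := by rw [hC₁]; exact inf_le_left
  have hC₁V : C₁ ≤ Subgroup.centralizer (V : Set G) := by rw [hC₁]; exact inf_le_right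
  have hDC₁ : D ≤ C₁ := by rw [hC₁]; exact le_inf hDCy hDV
  have hCyC₁ : Cy ≤ Subgroup.normalizer (C₁ : Set G) := by
    intro g hg
    rw [hC₁]
    exact Subgroup.inf_normalizer_le_normalizer_inf
      ⟨Subgroup.le_normalizer hg, normalizer_le_normalizer_centralizer _ (hCyV hg)⟩
  have hsn : SN C₁ Cy := SN.of_normal hC₁Cy hCyC₁
  obtain ⟨R, hR⟩ : ∃ R : Subgroup G, R = piCoreIn {2} C₁ := ⟨_, rfl⟩
  have hRC₁ : R ≤ C₁ := by rw [hR]; exact piCoreIn_le _ _
  have hRpi : PiGrp {2} R := by rw [hR]; exact piCoreIn_piGrp _ _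
  have hRp : IsPGroup 2 ↥R := (isPGroup_iff_piGrp Nat.prime_two).2 hRpi
  have hC₁R : C₁ ≤ Subgroup.normalizer (R : Set G) := by rw [hR]; exact piCoreIn_normal _ _
  have hNR : Subgroup.normalizer (C₁ : Set G) ≤ Subgroup.normalizer (R : Set G) := by
    rw [hR]; exact normalizer_le_normalizer_radOf (fun g _ h => h.conj g) C₁
  have hF : fstarOf C₁ ≤ R ⊔ V := by
    apply sup_le
    · have := layerOf_le_of_sn hsn
      rw [hE] at this
      exact this.trans bot_le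
    · rw [fitOf_eq_iSup]
      apply iSup_le
      rintro ⟨p, hp⟩
      by_cases hp2 : p = 2
      · subst hp2
        rw [← hR]; exact le_sup_left
      · refine le_trans ?_ le_sup_right
        rw [hV]
        apply le_piCoreIn_of_sn
        · exact (SN.of_normal (piCoreIn_le _ _) (piCoreIn_normal _ _)).trans hsn
        · exact piGrp_ne_of_piGrp_singleton hp2 (piCoreIn_piGrp _ _)
  have hCR : C₁ ⊓ Subgroup.centralizer (R : Set G) ≤ R ⊔ V := by
    rintro g ⟨hg1, hg2⟩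
    have h1 : g ∈ Subgroup.centralizer ((R ⊔ V : Subgroup G) : Set G) :=
      mem_centralizer_sup hg2 (hC₁V hg1)
    have h2 : g ∈ Subgroup.centralizer ((fstarOf C₁ : Subgroup G) : Set G) :=
      Subgroup.centralizer_le hF h1
    exact hF (centralizer_fstarOf_le C₁ ⟨hg1, h2⟩)
  have hDR : D ⊓ R = ⊥ :=
    piGrp_inf_eq_bot (fun q h1 h2 => (h1 : q ≠ 2) (Set.mem_singleton_iff.1 h2)) hDpi hRpi
  have key : D ≤ Subgroup.centralizer (R : Set G) := by
    apply thompson_PxQ (isPGroup_zpowers_of_sq hx2)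
      ((coprime_card_iff_piGrp Nat.prime_two).2 hDpi) hRp
    · rw [Subgroup.zpowers_le, Subgroup.mem_centralizer_iff]
      intro d hd
      exact (mem_cen_singleton.1 (hDx hd)).symm
    · rw [Subgroup.zpowers_le]; exact hNR (hCyC₁ hxCy)
    · exact hDC₁.trans hC₁R
    · rintro u ⟨huR, hux⟩
      rw [Subgroup.mem_centralizer_iff]
      intro d hd
      have hux' : x * u = u * x :=
        (Subgroup.mem_centralizer_iff.1 hux) x (Subgroup.mem_zpowers x)
      have huN : u ∈ Subgroup.normalizer (D : Set G) :=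
        hN ⟨hC₁Cy (hRC₁ huR), mem_cen_singleton.2 hux'⟩
      exact (commute_of_inf_eq_bot hDR huR hd huN (hC₁R (hDC₁ hd))).symm
  intro d hd
  have h1 : d ∈ R ⊔ V := hCR ⟨hDC₁ hd, key hd⟩
  exact mem_of_odd_of_mem_sup hRp (hRC₁.trans hC₁V) h1 (orderOf_coprime_two_of_piGrp hDpi hd)

/-- Balance: `O(C(x)) ∩ C(y) ≤ O(C(y))`. -/
theorem oddCen_balance [Finite G] {x y z : G} (hxy : x * y = y * x) (hx2 : x ^ 2 = 1)
    (hE : layerOf (Subgroup.centralizer ({y} : Set G)) = ⊥)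
    (hVz : ∀ v ∈ oddCen y, z * v * z⁻¹ = v⁻¹)
    (hDz : ∀ d ∈ oddCen x ⊓ Subgroup.centralizer ({y} : Set G), z * d * z⁻¹ = d⁻¹) :
    oddCen x ⊓ Subgroup.centralizer ({y} : Set G) ≤ oddCen y := by
  apply balance_aux (x := x) (z := z) (Cy := Subgroup.centralizer ({y} : Set G)) hx2
    (mem_cen_singleton.2 hxy.symm) hE rfl
    ((oddCen_piGrp x).mono inf_le_left) inf_le_right (inf_le_left.trans (oddCen_le x)) _ hVz hDz
  rintro g ⟨hgy, hgx⟩
  exact Subgroup.inf_normalizer_le_normalizer_inf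
    ⟨oddCen_normal x hgx, Subgroup.le_normalizer hgy⟩

end Cfsg.Agent.helper7
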