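import Mathlib
import Cfsg.Agent.Lib_helper7_E8b

set_option autoImplicit false
open Cfsg
open scoped commutatorElement Pointwise

namespace Cfsg.Agent.helper7

variable {G : Type*} [Group G]

/-- A join of pairwise commuting `π`-subgroups is a `π`-group. -/
theorem piGrp_iSup_of_commute {ι : Sort*} {π : Set ℕ} {K : ι → Subgroup G}
    (hK : ∀ i, PiGrp π (K i))
    (hcomm : ∀ i j, ∀ a ∈ K i, ∀ b ∈ K j, a * b = b * a) : PiGrp π (⨆ i, K i) := by
  have h1 : ∀ i, K i ≤ Subgroup.centralizer ((⨆ j, K j : Subgroup G) : Set G) := by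
    intro i
    rw [Subgroup.le_centralizer_iff]
    apply iSup_le
    intro j b hb
    rw [Subgroup.mem_centralizer_iff]
    intro a ha
    exact hcomm i j a ha b hb
  have h2 : (⨆ j, K j) ≤ Subgroup.centralizer ((⨆ j, K j : Subgroup G) : Set G) := iSup_le h1
  intro x hx
  refine Subgroup.iSup_induction' (C := fun x _ => ∀ q, q.Prime → q ∣ orderOf x → q ∈ π) K
    ?_ ?_ ?_ hx
  · intro i x hx
    exact hK i x hx
  · intro q hq hdvd
    rw [orderOf_one] at hdvd
    exact absurd hdvd hq.not_dvd_one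
  · intro x y hx hy ihx ihy q hq hdvd
    have hc : Commute x y := (Subgroup.mem_centralizer_iff.1 (h2 hy) x hx)
    have h3 : q ∣ orderOf x * orderOf y := hdvd.trans hc.orderOf_mul_dvd_mul_orderOf
    rcases (Nat.Prime.dvd_mul hq).1 h3 with h4 | h4
    · exact ihx q hq h4
    · exact ihy q hq h4

theorem cj_cen_singleton (g y : G) :
    cj g (Subgroup.centralizer ({y} : Set G)) = Subgroup.centralizer ({g * y * g⁻¹} : Set G) := by
  ext x
  rw [mem_cj, mem_cen_singleton, mem_cen_singleton]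
  constructor
  · intro h1
    calc g * y * g⁻¹ * x = g * (y * (g⁻¹ * x * g)) * g⁻¹ := by group
      _ = g * ((g⁻¹ * x * g) * y) * g⁻¹ := by rw [h1]
      _ = x * (g * y * g⁻¹) := by group
  · intro h1
    calc y * (g⁻¹ * x * g) = g⁻¹ * ((g * y * g⁻¹) * x) * g := by group
      _ = g⁻¹ * (x * (g * y * g⁻¹)) * g := by rw [h1]
      _ = g⁻¹ * x * g * y := by group

theorem cj_oddCen (g y : G) : cj g (oddCen y) = oddCen (g * y * g⁻¹) := by
  unfold oddCen piCoreIn
  rw [cj_radOf (fun g _ h => h.conj g), cj_cen_singleton]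

theorem normalizer_le_normalizer_iSup_oddCen (Y : Subgroup G) :
    Subgroup.normalizer (Y : Set G) ≤ Subgroup.normalizer
      ((⨆ y : {y : G // y ∈ Y ∧ y ≠ 1}, oddCen (y : G) : Subgroup G) : Set G) := by
  have key : ∀ g ∈ Subgroup.normalizer (Y : Set G),
      cj g (⨆ y : {y : G // y ∈ Y ∧ y ≠ 1}, oddCen (y : G)) ≤
        ⨆ y : {y : G // y ∈ Y ∧ y ≠ 1}, oddCen (y : G) := by
    intro g hg
    have e0 : cj g (⨆ y : {y : G // y ∈ Y ∧ y ≠ 1}, oddCen (y : G)) =
        ⨆ y : {y : G // y ∈ Y ∧ y ≠ 1}, cj g (oddCen (y : G)) := Subgroup.map_iSup _ _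
    rw [e0]
    apply iSup_le
    rintro ⟨y, hy, hy1⟩
    have e : cj g (oddCen y) = oddCen (g * y * g⁻¹) := cj_oddCen g y
    have hy' : g * y * g⁻¹ ∈ Y := (Subgroup.mem_normalizer_iff.1 hg y).1 hy
    have hy1' : g * y * g⁻¹ ≠ 1 := by
      intro h0
      apply hy1
      have : y = g⁻¹ * (g * y * g⁻¹) * g := by group
      rw [this, h0]; group
    have := le_iSup (fun y : {y : G // y ∈ Y ∧ y ≠ 1} => oddCen (y : G)) ⟨_, hy', hy1'⟩
    rw [← e] at this
    exact this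
  intro g hg
  apply mem_normalizer_of_cj_eq
  apply le_antisymm (key g hg)
  have := key g⁻¹ (Subgroup.inv_mem _ hg)
  rw [cj_le_iff, inv_inv] at this
  exact this

/-- The hypotheses of the `E₈`-core theorem, stated internally. -/
structure E8Hyp (Y : Subgroup G) (z : G) : Prop where
  elem : Cfsg.IsElementaryAbelian 2 Y
  card8 : 8 ≤ Nat.card ↥Y
  layer : ∀ y ∈ Y, y ≠ 1 → layerOf (Subgroup.centralizer ({y} : Set G)) = ⊥
  zmem : z ∈ Y
  char2 : Subgroup.centralizer ({z} : Set G) ⊓ Subgroup.centralizer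
      ((piCoreIn {2} (Subgroup.centralizer ({z} : Set G)) : Subgroup G) : Set G) ≤
        piCoreIn {2} (Subgroup.centralizer ({z} : Set G))

namespace E8Hyp

variable [Finite G] {Y : Subgroup G} {z : G}

theorem sq (h : E8Hyp Y z) {y : G} (hy : y ∈ Y) : y ^ 2 = 1 := h.elem.2 y hy

theorem comm (h : E8Hyp Y z) {a b : G} (ha : a ∈ Y) (hb : b ∈ Y) : a * b = b * a :=
  comm_of_isMulCommutative h.elem.1 ha hb

theorem inverts (h : E8Hyp Y z) {y : G} (hy : y ∈ Y) : ∀ v ∈ oddCen y, z * v * z⁻¹ = v⁻¹ := by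
  apply inverts_of_fpf (h.sq h.zmem)
  · exact oddCen_normal y (mem_cen_singleton.2 (h.comm hy h.zmem))
  · exact oddCen_inf_cen_eq_bot (h.comm hy h.zmem) (h.sq hy) h.char2

theorem balance (h : E8Hyp Y z) {x y : G} (hx : x ∈ Y) (hy : y ∈ Y) (hy1 : y ≠ 1) :
    oddCen x ⊓ Subgroup.centralizer ({y} : Set G) ≤ oddCen y :=
  oddCen_balance (h.comm hx hy) (h.sq hx) (h.layer y hy hy1) (h.inverts hy)
    (fun d hd => h.inverts hx d hd.1)

theorem abelian (h : E8Hyp Y z) {y : G} (hy : y ∈ Y) :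
    ∀ u ∈ oddCen y, ∀ v ∈ oddCen y, u * v = v * u :=
  comm_of_inverts (h.inverts hy)

theorem le_normalizer_oddCen (h : E8Hyp Y z) {x : G} (hx : x ∈ Y) :
    Y ≤ Subgroup.normalizer ((oddCen x : Subgroup G) : Set G) := by
  intro a ha
  exact oddCen_normal x (mem_cen_singleton.2 (h.comm hx ha))

theorem commute (h : E8Hyp Y z) {x y : G} (hx : x ∈ Y) (hy : y ∈ Y) :
    oddCen x ≤ Subgroup.centralizer ((oddCen y : Subgroup G) : Set G) := by
  haveI : Fact (Nat.Prime 2) := ⟨Nat.prime_two⟩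
  have h4 : 2 ^ 2 ≤ Nat.card ↥Y := le_trans (by norm_num) h.card8
  have hodd : ∀ w : G, ¬ 2 ∣ Nat.card ↥(oddCen w) := by
    intro w
    have := (coprime_card_iff_piGrp Nat.prime_two).2 (oddCen_piGrp w)
    exact (Nat.Prime.coprime_iff_not_dvd Nat.prime_two).1 this.symm
  have g1 := gen_coprime_hyperplanes h.elem h4 (hodd x) (h.le_normalizer_oddCen hx)
  have g2 := gen_coprime_hyperplanes h.elem h4 (hodd y) (h.le_normalizer_oddCen hy)
  rw [g1]
  apply iSup_le
  rintro ⟨B₁, hB₁Y, hB₁i⟩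
  rw [Subgroup.le_centralizer_iff, g2]
  apply iSup_le
  rintro ⟨B₂, hB₂Y, hB₂i⟩
  have hne : B₁ ⊓ B₂ ≠ ⊥ := by
    intro hbot
    have h5 := Subgroup.relIndex_inf_le (H := B₁) (K := B₂) (L := Y)
    rw [hbot, Subgroup.relIndex_bot_left, hB₁i, hB₂i] at h5
    have := h.card8
    omega
  obtain ⟨e, he, he1⟩ := (Subgroup.bot_or_exists_ne_one _).resolve_left hne
  have heY : e ∈ Y := hB₁Y he.1
  rintro b ⟨hb1, hb2⟩
  rw [Subgroup.mem_centralizer_iff]
  rintro a ⟨ha1, ha2⟩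
  have ha : a ∈ oddCen e := h.balance hx heY he1
    ⟨ha1, mem_cen_singleton.2 (Subgroup.mem_centralizer_iff.1 ha2 e he.1)⟩
  have hb : b ∈ oddCen e := h.balance hy heY he1
    ⟨hb1, mem_cen_singleton.2 (Subgroup.mem_centralizer_iff.1 hb2 e he.2)⟩
  exact h.abelian heY a ha b hb

theorem piGrp_iSup (h : E8Hyp Y z) :
    PiGrp {q | q ≠ 2} (⨆ y : {y : G // y ∈ Y ∧ y ≠ 1}, oddCen (y : G)) := by
  apply piGrp_iSup_of_commute
  · intro i; exact oddCen_piGrp _
  · rintro ⟨x, hx, hx1⟩ ⟨y, hy, hy1⟩ a ha b hb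
    exact (Subgroup.mem_centralizer_iff.1 (h.commute hx hy ha) b hb).symm

theorem odd_card_iSup (h : E8Hyp Y z) :
    Odd (Nat.card ↥(⨆ y : {y : G // y ∈ Y ∧ y ≠ 1}, oddCen (y : G))) :=
  Nat.Coprime.odd_of_right ((coprime_card_iff_piGrp Nat.prime_two).2 h.piGrp_iSup)

end E8Hyp

end Cfsg.Agent.helper7
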