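import Mathlib
import Cfsg.Prelude.Def_Transfer
import Cfsg.Agent.Lib_helper3_EA
import Cfsg.Agent.Lib_helper7_Gen3
import Cfsg.Agent.Lib_helper7_NormalE2

/-! Elementary abelian 2-groups acting on abelian groups of odd order: eigen-elements and
the diagonal decomposition (helper7). -/

set_option autoImplicit false

namespace Cfsg.Agent.helper7

section Eigen

variable {G : Type*} [Group G]

/-- `x` is an eigen-element for `A`: every element of `A` centralizes or inverts it. -/
def IsEigen (A : Subgroup G) (x : G) : Prop := ∀ a ∈ A, a * x * a⁻¹ = x ∨ a * x * a⁻¹ = x⁻¹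

theorem IsEigen.pow {A : Subgroup G} {x : G} (h : IsEigen A x) (k : ℕ) : IsEigen A (x ^ k) := by
  intro a ha
  rcases h a ha with h1 | h1
  · left; rw [← conj_pow, h1]
  · right; rw [← conj_pow, h1, inv_pow]

theorem IsEigen.mono {A B : Subgroup G} {x : G} (h : IsEigen A x) (hBA : B ≤ A) : IsEigen B x :=
  fun a ha => h a (hBA ha)

theorem IsEigen.le_normalizer_zpowers {A : Subgroup G} {x : G} (h : IsEigen A x) :
    A ≤ Subgroup.normalizer ((Subgroup.zpowers x : Subgroup G) : Set G) := by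
  have key : ∀ a ∈ A, ∀ w ∈ Subgroup.zpowers x, a * w * a⁻¹ ∈ Subgroup.zpowers x := by
    intro a ha w hw
    obtain ⟨i, rfl⟩ := Subgroup.mem_zpowers_iff.mp hw
    rw [← conj_zpow]
    rcases h a ha with h1 | h1
    · rw [h1]; exact Subgroup.zpow_mem _ (Subgroup.mem_zpowers x) i
    · rw [h1]; exact Subgroup.zpow_mem _ (Subgroup.inv_mem _ (Subgroup.mem_zpowers x)) i
  intro a ha
  rw [Subgroup.mem_normalizer_iff]
  intro w
  constructor
  · exact key a ha w
  · intro hw
    have := key a⁻¹ (A.inv_mem ha) _ hw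
    have e : a⁻¹ * (a * w * a⁻¹) * a⁻¹⁻¹ = w := by group
    rwa [e] at this

theorem conj_mem_of_le_nmz {A T : Subgroup G} (h : A ≤ Subgroup.normalizer (T : Set G))
    {a w : G} (ha : a ∈ A) (hw : w ∈ T) : a * w * a⁻¹ ∈ T :=
  (Subgroup.mem_normalizer_iff.mp (h ha) w).mp hw

/-- **Eigenvector lemma**: an elementary abelian 2-group normalizing a nontrivial abelian subgroup `V`
has a nontrivial eigen-element in `V`. -/
theorem exists_eigen [Finite G] {A V : Subgroup G} (hA : Cfsg.IsElementaryAbelian 2 A)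
    (hVab : ∀ x ∈ V, ∀ y ∈ V, x * y = y * x) (hVne : V ≠ ⊥)
    (hAV : A ≤ Subgroup.normalizer (V : Set G)) : ∃ x ∈ V, x ≠ 1 ∧ IsEigen A x := by
  classical
  let 𝒮 : Set (Subgroup G) := {W | W ≤ V ∧ W ≠ ⊥ ∧ A ≤ Subgroup.normalizer (W : Set G)}
  have h𝒮 : 𝒮.Nonempty := ⟨V, le_rfl, hVne, hAV⟩
  obtain ⟨W, ⟨hWV, hWne, hAW⟩, hmin⟩ := (Set.toFinite 𝒮).exists_minimal h𝒮
  obtain ⟨x, hxW, hx1⟩ := (Subgroup.ne_bot_iff_exists_ne_one).mp hWne |>.imp
    (fun x hx => hx) |> fun ⟨x, hx⟩ => (⟨(x : G), x.2, fun h => hx (Subtype.ext h)⟩ :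
      ∃ x : G, x ∈ W ∧ x ≠ 1)
  refine ⟨x, hWV hxW, hx1, ?_⟩
  intro c hc
  have hc2 : c * c = 1 := by
    have := hA.2 c hc
    rwa [pow_two] at this
  have hcinv : c⁻¹ = c := inv_eq_of_mul_eq_one_right hc2
  -- the subgroup of elements of W inverted by c
  let T : Subgroup G :=
    { carrier := {w | w ∈ W ∧ c * w * c⁻¹ = w⁻¹}
      one_mem' := ⟨W.one_mem, by group⟩
      mul_mem' := by
        rintro a b ⟨ha, ha'⟩ ⟨hb, hb'⟩
        refine ⟨W.mul_mem ha hb, ?_⟩
        have e : c * (a * b) * c⁻¹ = (c * a * c⁻¹) * (c * b * c⁻¹) := by group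
        rw [e, ha', hb', mul_inv_rev]
        exact hVab _ (V.inv_mem (hWV ha)) _ (V.inv_mem (hWV hb))
      inv_mem' := by
        rintro a ⟨ha, ha'⟩
        refine ⟨W.inv_mem ha, ?_⟩
        have e : c * a⁻¹ * c⁻¹ = (c * a * c⁻¹)⁻¹ := by group
        rw [e, ha'] }
  have hTmem : ∀ w, w ∈ T ↔ w ∈ W ∧ c * w * c⁻¹ = w⁻¹ := fun w => Iff.rfl
  have hTW : T ≤ W := fun w hw => ((hTmem w).mp hw).1
  have hAT : A ≤ Subgroup.normalizer (T : Set G) := by
    apply le_normalizer_of_conj_mem
    intro a ha w hw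
    obtain ⟨hwW, hwc⟩ := (hTmem w).mp hw
    refine (hTmem _).mpr ⟨conj_mem_of_le_nmz hAW ha hwW, ?_⟩
    have hca : c * a = a * c := helper3.ea_comm hA hc ha
    calc c * (a * w * a⁻¹) * c⁻¹ = (c * a) * w * (c * a)⁻¹ := by group
      _ = (a * c) * w * (a * c)⁻¹ := by rw [hca]
      _ = a * (c * w * c⁻¹) * a⁻¹ := by group
      _ = a * w⁻¹ * a⁻¹ := by rw [hwc]
      _ = (a * w * a⁻¹)⁻¹ := by group
  by_cases hT : T = ⊥
  · left
    have hv : x⁻¹ * (c * x * c⁻¹) ∈ T := by
      refine (hTmem _).mpr ⟨W.mul_mem (W.inv_mem hxW) (conj_mem_of_le_nmz hAW hc hxW), ?_⟩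
      calc c * (x⁻¹ * (c * x * c⁻¹)) * c⁻¹ = (c * x * c⁻¹)⁻¹ * ((c * c) * x * (c * c)⁻¹) := by group
        _ = (c * x * c⁻¹)⁻¹ * x := by rw [hc2]; group
        _ = (x⁻¹ * (c * x * c⁻¹))⁻¹ := by group
    rw [hT, Subgroup.mem_bot] at hv
    have : c * x * c⁻¹ = x * (x⁻¹ * (c * x * c⁻¹)) := by group
    rw [this, hv, mul_one]
  · right
    have hWT : W ≤ T := hmin ⟨hTW.trans hWV, hT, hAT⟩ hTW
    exact ((hTmem x).mp (hWT hxW)).2

/-- a nontrivial eigen-element has a power of prime order which is again an eigen-element -/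
theorem exists_prime_eigen [Finite G] {A V : Subgroup G} {x : G} (hxV : x ∈ V) (hx1 : x ≠ 1)
    (hx : IsEigen A x) : ∃ y ∈ V, (orderOf y).Prime ∧ IsEigen A y := by
  have ho : orderOf x ≠ 0 := (orderOf_pos x).ne'
  have ho1 : orderOf x ≠ 1 := fun h => hx1 (orderOf_eq_one_iff.mp h)
  obtain ⟨q, hq, hqd⟩ := Nat.exists_prime_and_dvd ho1
  refine ⟨x ^ (orderOf x / q), V.pow_mem hxV _, ?_, hx.pow _⟩
  rw [orderOf_pow_orderOf_div ho hqd]
  exact hq

/-- **Diagonal decomposition**: an elementary abelian 2-group acting faithfully on an abelian group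
of odd order has a basis `b i` and eigen-elements `x i` of prime order with `b i` inverting `x i`
and centralizing `x j` for `j ≠ i`. -/
theorem eigen_decomp [Finite G] {A U : Subgroup G} (hA : Cfsg.IsElementaryAbelian 2 A)
    (hUab : ∀ x ∈ U, ∀ y ∈ U, x * y = y * x) (hUodd : Odd (Nat.card ↥U))
    (hAU : A ≤ Subgroup.normalizer (U : Set G)) :
    ∀ (k : ℕ) (A' : Subgroup G), A' ≤ A → Nat.card ↥A' = 2 ^ k →
      A' ⊓ Subgroup.centralizer (U : Set G) = ⊥ →
      ∃ (b x : Fin k → G), (∀ i, b i ∈ A') ∧ (∀ i, x i ∈ U) ∧ (∀ i, (orderOf (x i)).Prime) ∧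
        (∀ i, IsEigen A (x i)) ∧ (∀ i, b i * x i * (b i)⁻¹ = (x i)⁻¹) ∧
        (∀ i j, i ≠ j → b i * x j * (b i)⁻¹ = x j) ∧
        Subgroup.closure (Set.range b) = A' ∧
        (∀ t ∈ A', (∀ i, t * x i * t⁻¹ = x i) → t = 1) := by
  classical
  intro k
  induction k with
  | zero =>
    intro A' _ hcard _
    rw [pow_zero] at hcard
    have hbot : A' = ⊥ := Subgroup.card_eq_one.mp hcard
    refine ⟨Fin.elim0, Fin.elim0, fun i => i.elim0, fun i => i.elim0, fun i => i.elim0,
      fun i => i.elim0, fun i => i.elim0, fun i => i.elim0, ?_, ?_⟩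
    · rw [hbot]
      have : Set.range (Fin.elim0 : Fin 0 → G) = ∅ := Set.range_eq_empty _
      rw [this, Subgroup.closure_empty]
    · intro t ht _
      rw [hbot, Subgroup.mem_bot] at ht
      exact ht
  | succ k ih =>
    intro A' hA'A hcard hfaith
    -- a nontrivial element of A'
    have hA'ne : A' ≠ ⊥ := by
      intro h
      rw [h, Subgroup.card_bot] at hcard
      have : 2 ≤ 2 ^ (k + 1) := by
        calc 2 = 2 ^ 1 := rfl
          _ ≤ 2 ^ (k + 1) := Nat.pow_le_pow_right (by norm_num) (by omega)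
      omega
    obtain ⟨a, haA', ha1⟩ : ∃ a ∈ A', a ≠ 1 := by
      obtain ⟨a, ha⟩ := (Subgroup.ne_bot_iff_exists_ne_one).mp hA'ne
      exact ⟨(a : G), a.2, fun h => ha (Subtype.ext h)⟩
    have haA : a ∈ A := hA'A haA'
    have ha2 : a * a = 1 := by
      have := hA.2 a haA
      rwa [pow_two] at this
    -- a does not centralize U
    have hanc : a ∉ Subgroup.centralizer (U : Set G) := by
      intro h
      have : a ∈ A' ⊓ Subgroup.centralizer (U : Set G) := ⟨haA', h⟩
      rw [hfaith, Subgroup.mem_bot] at this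
      exact ha1 this
    obtain ⟨u, huU, hua⟩ : ∃ u ∈ U, a * u * a⁻¹ ≠ u := by
      by_contra hcon
      push Not at hcon
      apply hanc
      rw [Subgroup.mem_centralizer_iff]
      intro u hu
      have := hcon u hu
      calc u * a = (a * u * a⁻¹) * a := by rw [this]
        _ = a * u := by group
    -- the subgroup V of elements of U inverted by a
    let V : Subgroup G :=
      { carrier := {w | w ∈ U ∧ a * w * a⁻¹ = w⁻¹}
        one_mem' := ⟨U.one_mem, by group⟩
        mul_mem' := by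
          rintro c d ⟨hc, hc'⟩ ⟨hd, hd'⟩
          refine ⟨U.mul_mem hc hd, ?_⟩
          have e : a * (c * d) * a⁻¹ = (a * c * a⁻¹) * (a * d * a⁻¹) := by group
          rw [e, hc', hd', mul_inv_rev]
          exact hUab _ (U.inv_mem hc) _ (U.inv_mem hd)
        inv_mem' := by
          rintro c ⟨hc, hc'⟩
          refine ⟨U.inv_mem hc, ?_⟩
          have e : a * c⁻¹ * a⁻¹ = (a * c * a⁻¹)⁻¹ := by group
          rw [e, hc'] }
    have hVmem : ∀ w, w ∈ V ↔ w ∈ U ∧ a * w * a⁻¹ = w⁻¹ := fun w => Iff.rfl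
    have hVU : V ≤ U := fun w hw => ((hVmem w).mp hw).1
    have hAV : A ≤ Subgroup.normalizer (V : Set G) := by
      apply le_normalizer_of_conj_mem
      intro c hc w hw
      obtain ⟨hwU, hwa⟩ := (hVmem w).mp hw
      refine (hVmem _).mpr ⟨conj_mem_of_le_nmz hAU hc hwU, ?_⟩
      have hca : a * c = c * a := helper3.ea_comm hA haA hc
      calc a * (c * w * c⁻¹) * a⁻¹ = (a * c) * w * (a * c)⁻¹ := by group
        _ = (c * a) * w * (c * a)⁻¹ := by rw [hca]
        _ = c * (a * w * a⁻¹) * c⁻¹ := by group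
        _ = c * w⁻¹ * c⁻¹ := by rw [hwa]
        _ = (c * w * c⁻¹)⁻¹ := by group
    have hVne : V ≠ ⊥ := by
      intro h
      have hv : u⁻¹ * (a * u * a⁻¹) ∈ V := by
        refine (hVmem _).mpr ⟨U.mul_mem (U.inv_mem huU) (conj_mem_of_le_nmz hAU haA huU), ?_⟩
        calc a * (u⁻¹ * (a * u * a⁻¹)) * a⁻¹
            = (a * u * a⁻¹)⁻¹ * ((a * a) * u * (a * a)⁻¹) := by group
          _ = (a * u * a⁻¹)⁻¹ * u := by rw [ha2]; group
          _ = (u⁻¹ * (a * u * a⁻¹))⁻¹ := by group
      rw [h, Subgroup.mem_bot] at hv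
      apply hua
      have : a * u * a⁻¹ = u * (u⁻¹ * (a * u * a⁻¹)) := by group
      rw [this, hv, mul_one]
    obtain ⟨y, hyV, hy1, hyE⟩ := exists_eigen hA
      (fun x hx y hy => hUab x (hVU hx) y (hVU hy)) hVne hAV
    obtain ⟨x₀, hx₀V, hx₀p, hx₀E⟩ := exists_prime_eigen hyV hy1 hyE
    have hx₀U : x₀ ∈ U := hVU hx₀V
    have hax₀ : a * x₀ * a⁻¹ = x₀⁻¹ := ((hVmem x₀).mp hx₀V).2
    -- x₀ is not an involution
    have hx₀odd : Odd (orderOf x₀) := by
      have hd : orderOf x₀ ∣ Nat.card ↥U := by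
        have := orderOf_dvd_natCard (⟨x₀, hx₀U⟩ : ↥U)
        rwa [Subgroup.orderOf_mk] at this
      exact Odd.of_dvd_nat hUodd hd
    have hx₀ne : x₀ ≠ x₀⁻¹ := by
      intro h
      have h2 : x₀ ^ 2 = 1 := by
        rw [pow_two]
        calc x₀ * x₀ = x₀ * x₀⁻¹ := by rw [← h]
          _ = 1 := mul_inv_cancel x₀
      have hd := orderOf_dvd_of_pow_eq_one h2
      have h2' : orderOf x₀ = 2 := (Nat.prime_dvd_prime_iff_eq hx₀p Nat.prime_two).mp hd
      rw [h2'] at hx₀odd
      exact absurd hx₀odd (by decide)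
    -- the hyperplane H = C_{A'}(x₀)
    have hHmem : ∀ c, c ∈ A' ⊓ Subgroup.centralizer ({x₀} : Set G) ↔ c ∈ A' ∧ c * x₀ * c⁻¹ = x₀ := by
      intro c
      constructor
      · rintro ⟨h1, h2⟩
        refine ⟨h1, ?_⟩
        have := Subgroup.mem_centralizer_singleton_iff.mp h2
        rw [this]; group
      · rintro ⟨h1, h2⟩
        refine ⟨h1, Subgroup.mem_centralizer_singleton_iff.mpr ?_⟩
        calc c * x₀ = (c * x₀ * c⁻¹) * c := by group
          _ = x₀ * c := by rw [h2]
    have haH : a ∉ A' ⊓ Subgroup.centralizer ({x₀} : Set G) := by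
      intro h
      have := ((hHmem a).mp h).2
      rw [hax₀] at this
      exact hx₀ne this.symm
    have hHle : A' ⊓ Subgroup.centralizer ({x₀} : Set G) ≤ A' := inf_le_left
    have hidx : (A' ⊓ Subgroup.centralizer ({x₀} : Set G)).relIndex A' = 2 := by
      rw [Subgroup.relIndex, Subgroup.index_eq_two_iff]
      refine ⟨⟨a, haA'⟩, ?_⟩
      intro c
      have hcE := hx₀E (c : G) (hA'A c.2)
      rw [Subgroup.mem_subgroupOf, Subgroup.mem_subgroupOf]
      rcases hcE with h1 | h1
      · -- c centralizes x₀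
        refine Or.inr ⟨(hHmem _).mpr ⟨c.2, h1⟩, ?_⟩
        intro h
        have h2 := ((hHmem _).mp h).2
        apply hx₀ne
        have h2' : (c : G) * a * x₀ * ((c : G) * a)⁻¹ = x₀ := h2
        have h3 : (c : G) * a * x₀ * ((c : G) * a)⁻¹ = x₀⁻¹ := by
          calc (c : G) * a * x₀ * ((c : G) * a)⁻¹ = (c : G) * (a * x₀ * a⁻¹) * (c : G)⁻¹ := by group
            _ = (c : G) * x₀⁻¹ * (c : G)⁻¹ := by rw [hax₀]
            _ = ((c : G) * x₀ * (c : G)⁻¹)⁻¹ := by group
            _ = x₀⁻¹ := by rw [h1]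
        exact h2'.symm.trans h3
      · refine Or.inl ⟨(hHmem _).mpr ⟨A'.mul_mem c.2 haA', ?_⟩, ?_⟩
        · simp only [Subgroup.coe_mul]
          calc (c : G) * a * x₀ * ((c : G) * a)⁻¹ = (c : G) * (a * x₀ * a⁻¹) * (c : G)⁻¹ := by group
            _ = (c : G) * x₀⁻¹ * (c : G)⁻¹ := by rw [hax₀]
            _ = ((c : G) * x₀ * (c : G)⁻¹)⁻¹ := by group
            _ = x₀ := by rw [h1, inv_inv]
        · intro h
          have h2 := ((hHmem _).mp h).2
          rw [h1] at h2
          exact hx₀ne h2.symm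
    have hHcard : Nat.card ↥(A' ⊓ Subgroup.centralizer ({x₀} : Set G)) = 2 ^ k := by
      have h1 := card_inf_mul_relIndex (A' ⊓ Subgroup.centralizer ({x₀} : Set G)) A'
      rw [inf_eq_left.mpr hHle, hidx, hcard, pow_succ] at h1
      exact Nat.eq_of_mul_eq_mul_right (by norm_num) h1
    have hHfaith : (A' ⊓ Subgroup.centralizer ({x₀} : Set G)) ⊓ Subgroup.centralizer (U : Set G) = ⊥ := by
      rw [eq_bot_iff, ← hfaith]
      exact inf_le_inf_right _ hHle
    obtain ⟨b', x', hb', hx'U, hx'p, hx'E, hinv', hcen', hclo', hfa'⟩ :=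
      ih (A' ⊓ Subgroup.centralizer ({x₀} : Set G)) (hHle.trans hA'A) hHcard hHfaith
    -- adjust a so that it centralizes all x' j
    have hadj : ∀ s : Finset (Fin k), ∃ d ∈ A', d * x₀ * d⁻¹ = x₀⁻¹ ∧ ∀ j ∈ s, d * x' j * d⁻¹ = x' j := by
      intro s
      induction s using Finset.induction_on with
      | empty => exact ⟨a, haA', hax₀, fun j hj => absurd hj (Finset.notMem_empty j)⟩
      | insert j s hjs ihs =>
        obtain ⟨d, hdA', hdx₀, hds⟩ := ihs
        rcases hx'E j d (hA'A hdA') with h1 | h1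
        · refine ⟨d, hdA', hdx₀, ?_⟩
          intro i hi
          rcases Finset.mem_insert.mp hi with rfl | hi
          · exact h1
          · exact hds i hi
        · have hbj := (hHmem (b' j)).mp (hb' j)
          refine ⟨d * b' j, A'.mul_mem hdA' hbj.1, ?_, ?_⟩
          · calc d * b' j * x₀ * (d * b' j)⁻¹ = d * (b' j * x₀ * (b' j)⁻¹) * d⁻¹ := by group
              _ = d * x₀ * d⁻¹ := by rw [hbj.2]
              _ = x₀⁻¹ := hdx₀
          · intro i hi
            rcases Finset.mem_insert.mp hi with rfl | hi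
            · calc d * b' i * x' i * (d * b' i)⁻¹ = d * (b' i * x' i * (b' i)⁻¹) * d⁻¹ := by group
                _ = d * (x' i)⁻¹ * d⁻¹ := by rw [hinv' i]
                _ = (d * x' i * d⁻¹)⁻¹ := by group
                _ = x' i := by rw [h1, inv_inv]
            · have hne : j ≠ i := fun h => hjs (h ▸ hi)
              calc d * b' j * x' i * (d * b' j)⁻¹ = d * (b' j * x' i * (b' j)⁻¹) * d⁻¹ := by group
                _ = d * x' i * d⁻¹ := by rw [hcen' j i hne]
                _ = x' i := hds i hi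
    obtain ⟨d, hdA', hdx₀, hdall⟩ := hadj Finset.univ
    have hdH : d ∉ A' ⊓ Subgroup.centralizer ({x₀} : Set G) := by
      intro h
      have := ((hHmem d).mp h).2
      rw [hdx₀] at this
      exact hx₀ne this.symm
    refine ⟨Fin.cons d b', Fin.cons x₀ x', ?_, ?_, ?_, ?_, ?_, ?_, ?_, ?_⟩
    · intro i
      refine Fin.cases ?_ (fun j => ?_) i
      · simpa using hdA'
      · simpa using hHle (hb' j)
    · intro i
      refine Fin.cases ?_ (fun j => ?_) i
      · simpa using hx₀U
      · simpa using hx'U j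
    · intro i
      refine Fin.cases ?_ (fun j => ?_) i
      · simpa using hx₀p
      · simpa using hx'p j
    · intro i
      refine Fin.cases ?_ (fun j => ?_) i
      · simpa using hx₀E
      · simpa using hx'E j
    · intro i
      refine Fin.cases ?_ (fun j => ?_) i
      · simpa using hdx₀
      · simpa using hinv' j
    · intro i j
      refine Fin.cases ?_ (fun i' => ?_) i
      · refine Fin.cases ?_ (fun j' => ?_) j
        · intro h; exact absurd rfl h
        · intro _
          simpa using hdall j' (Finset.mem_univ _)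
      · refine Fin.cases ?_ (fun j' => ?_) j
        · intro _
          simpa using ((hHmem (b' i')).mp (hb' i')).2
        · intro h
          have hne : i' ≠ j' := fun e => h (by rw [e])
          simpa using hcen' i' j' hne
    · -- generation
      have hle : Subgroup.closure (Set.range (Fin.cons d b' : Fin (k + 1) → G)) ≤ A' := by
        rw [Subgroup.closure_le]
        rintro _ ⟨i, rfl⟩
        refine Fin.cases ?_ (fun j => ?_) i
        · simpa using hdA'
        · simpa using hHle (hb' j)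
      have hHle' : A' ⊓ Subgroup.centralizer ({x₀} : Set G) ≤
          Subgroup.closure (Set.range (Fin.cons d b' : Fin (k + 1) → G)) := by
        rw [← hclo']
        apply Subgroup.closure_mono
        rintro _ ⟨j, rfl⟩
        exact ⟨j.succ, by simp⟩
      have hdmem : d ∈ Subgroup.closure (Set.range (Fin.cons d b' : Fin (k + 1) → G)) :=
        Subgroup.subset_closure ⟨0, by simp⟩
      apply Subgroup.eq_of_le_of_card_ge hle
      -- the closure strictly contains H, of index 2 in A'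
      by_contra hlt
      push Not at hlt
      obtain ⟨m, hm⟩ : ∃ m, Nat.card ↥(Subgroup.closure (Set.range (Fin.cons d b' : Fin (k + 1) → G))) = 2 ^ m := by
        have hdvd : Nat.card ↥(Subgroup.closure (Set.range (Fin.cons d b' : Fin (k + 1) → G))) ∣ 2 ^ (k + 1) := by
          rw [← hcard]; exact Subgroup.card_dvd_of_le hle
        obtain ⟨m, _, hm⟩ := (Nat.dvd_prime_pow Nat.prime_two).mp hdvd
        exact ⟨m, hm⟩
      rw [hm, hcard] at hlt
      have hmk : m < k + 1 := (Nat.pow_lt_pow_iff_right (by norm_num)).mp hlt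
      have hge : 2 ^ k ≤ 2 ^ m := by
        rw [← hHcard, ← hm]; exact Subgroup.card_le_of_le hHle'
      have hkm : k ≤ m := (Nat.pow_le_pow_iff_right (by norm_num)).mp hge
      have hmk' : m = k := by omega
      have heq : A' ⊓ Subgroup.centralizer ({x₀} : Set G) =
          Subgroup.closure (Set.range (Fin.cons d b' : Fin (k + 1) → G)) :=
        Subgroup.eq_of_le_of_card_ge hHle' (by rw [hm, hHcard, hmk'])
      exact hdH (heq ▸ hdmem)
    · intro t ht hall
      have h0 : t * x₀ * t⁻¹ = x₀ := by simpa using hall 0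
      have htH : t ∈ A' ⊓ Subgroup.centralizer ({x₀} : Set G) := (hHmem t).mpr ⟨ht, h0⟩
      apply hfa' t htH
      intro j
      simpa using hall j.succ

end Eigen

end Cfsg.Agent.helper7
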