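import Mathlib
import Cfsg.Agent.Lib_helper7_Eigen
import Cfsg.Agent.Lib_helper7_Gen2

/-! Elementary abelian 2-groups acting faithfully on nilpotent groups of odd order: reduction to an
invariant self-centralizing abelian subgroup (helper7). -/

set_option autoImplicit false

namespace Cfsg.Agent.helper7

section Eigen2

variable {G : Type*} [Group G]

theorem eigen_sup_abelian {U : Subgroup G} {z : G} (hUab : ∀ x ∈ U, ∀ y ∈ U, x * y = y * x)
    (hzU : ∀ u ∈ U, z * u = u * z) :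
    ∀ x ∈ U ⊔ Subgroup.zpowers z, ∀ y ∈ U ⊔ Subgroup.zpowers z, x * y = y * x := by
  have hUU : U ≤ Subgroup.centralizer (U : Set G) :=
    fun x hx => Subgroup.mem_centralizer_iff.mpr (fun y hy => hUab y hy x hx)
  have hZU : Subgroup.zpowers z ≤ Subgroup.centralizer (U : Set G) := by
    rw [Subgroup.zpowers_le]
    exact Subgroup.mem_centralizer_iff.mpr (fun u hu => (hzU u hu).symm)
  have hUZ : U ≤ Subgroup.centralizer ((Subgroup.zpowers z : Subgroup G) : Set G) :=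
    Subgroup.le_centralizer_iff.mp hZU
  have hZZ : Subgroup.zpowers z ≤ Subgroup.centralizer ((Subgroup.zpowers z : Subgroup G) : Set G) := by
    intro x hx
    rw [Subgroup.mem_centralizer_iff]
    intro y hy
    obtain ⟨i, rfl⟩ := Subgroup.mem_zpowers_iff.mp hx
    obtain ⟨j, rfl⟩ := Subgroup.mem_zpowers_iff.mp hy
    exact zpow_mul_comm z j i
  have h : U ⊔ Subgroup.zpowers z ≤
      Subgroup.centralizer ((U ⊔ Subgroup.zpowers z : Subgroup G) : Set G) :=
    sup_le (Subgroup.le_centralizer_iff.mp (sup_le hUU hZU))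
      (Subgroup.le_centralizer_iff.mp (sup_le hUZ hZZ))
  intro x hx y hy
  exact Subgroup.mem_centralizer_iff.mp (h hy) x hx

/-- conjugating an element commuting with `U` by an element normalizing `U` -/
theorem conj_comm_of_normalizes {A U : Subgroup G} (hAU : A ≤ Subgroup.normalizer (U : Set G))
    {a w : G} (ha : a ∈ A) (hw : ∀ u ∈ U, w * u = u * w) :
    ∀ u ∈ U, (a * w * a⁻¹) * u = u * (a * w * a⁻¹) := by
  intro u hu
  have h1 : a⁻¹ * u * a⁻¹⁻¹ ∈ U := conj_mem_of_le_nmz hAU (A.inv_mem ha) hu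
  have h2 := hw _ h1
  calc a * w * a⁻¹ * u = a * (w * (a⁻¹ * u * a⁻¹⁻¹)) * a⁻¹ := by group
    _ = a * ((a⁻¹ * u * a⁻¹⁻¹) * w) * a⁻¹ := by rw [h2]
    _ = u * (a * w * a⁻¹) := by group

theorem orderOf_odd_of_mem [Finite G] {F : Subgroup G} (hFodd : Odd (Nat.card ↥F)) {x : G}
    (hx : x ∈ F) : Odd (orderOf x) := by
  have h1 : orderOf (⟨x, hx⟩ : ↥F) ∣ Nat.card ↥F := orderOf_dvd_natCard _
  rw [Subgroup.orderOf_mk] at h1
  exact Odd.of_dvd_nat hFodd h1

theorem eq_one_of_inv_eq_self_of_odd [Finite G] {c : G} (hodd : Odd (orderOf c)) (h : c = c⁻¹) :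
    c = 1 := by
  have h2 : c ^ 2 = 1 := by
    rw [pow_two]
    calc c * c = c * c⁻¹ := by rw [← h]
      _ = 1 := mul_inv_cancel c
  have hd := orderOf_dvd_of_pow_eq_one h2
  have h1 : orderOf c = 1 := by
    rcases (Nat.dvd_prime Nat.prime_two).mp hd with h | h
    · exact h
    · rw [h] at hodd; exact absurd hodd (by decide)
  exact orderOf_eq_one_iff.mp h1

/-- for an involution `t`, the commutator `g⁻¹ * (t g t⁻¹)` is inverted by `t` -/
theorem conj_comm_inv {t g : G} (ht2 : t * t = 1) :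
    t * (g⁻¹ * (t * g * t⁻¹)) * t⁻¹ = (g⁻¹ * (t * g * t⁻¹))⁻¹ := by
  have hti : t⁻¹ = t := inv_eq_of_mul_eq_one_left ht2
  calc t * (g⁻¹ * (t * g * t⁻¹)) * t⁻¹ = t * g⁻¹ * t * g * (t⁻¹ * t⁻¹) := by group
    _ = t * g⁻¹ * t * g := by rw [hti, ht2, mul_one]
    _ = t * g⁻¹ * t⁻¹ * g := by rw [hti]
    _ = (g⁻¹ * (t * g * t⁻¹))⁻¹ := by group

theorem mul_mem_of_relIndex_two {B A : Subgroup G} (h : B.relIndex A = 2) {a t : G} (ha : a ∈ A)
    (ht : t ∈ A) (haB : a ∉ B) (htB : t ∉ B) : a * t ∈ B := by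
  have h1 := Subgroup.mul_mem_iff_of_index_two (H := B.subgroupOf A) h
    (a := (⟨a, ha⟩ : ↥A)) (b := (⟨t, ht⟩ : ↥A))
  rw [Subgroup.mem_subgroupOf, Subgroup.mem_subgroupOf, Subgroup.mem_subgroupOf] at h1
  exact h1.mpr ⟨fun h => absurd h haB, fun h => absurd h htB⟩

/-- An elementary abelian 2-group `A` normalizing a nilpotent group `F` of odd order normalizes an
abelian subgroup `U` of `F` such that every element of `A` centralizing `U` centralizes `F`. -/
theorem exists_abelian_faithful [Finite G] {A F : Subgroup G} (hA : Cfsg.IsElementaryAbelian 2 A)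
    (hFnil : Group.IsNilpotent ↥F) (hFodd : Odd (Nat.card ↥F))
    (hAF : A ≤ Subgroup.normalizer (F : Set G)) :
    ∃ U : Subgroup G, U ≤ F ∧ (∀ x ∈ U, ∀ y ∈ U, x * y = y * x) ∧
      A ≤ Subgroup.normalizer (U : Set G) ∧
      ∀ t ∈ A, (∀ u ∈ U, t * u * t⁻¹ = u) → ∀ g ∈ F, t * g * t⁻¹ = g := by
  classical
  haveI : Fact (Nat.Prime 2) := ⟨Nat.prime_two⟩
  let 𝒮 : Set (Subgroup G) := {U | U ≤ F ∧ (∀ x ∈ U, ∀ y ∈ U, x * y = y * x) ∧
      A ≤ Subgroup.normalizer (U : Set G)}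
  have h𝒮fin : 𝒮.Finite := Set.toFinite _
  have h𝒮ne : 𝒮.Nonempty := by
    refine ⟨⊥, bot_le, ?_, ?_⟩
    · intro x hx y hy
      rw [Subgroup.mem_bot] at hx hy
      rw [hx, hy]
    · apply le_normalizer_of_conj_mem
      intro a _ w hw
      rw [Subgroup.mem_bot] at hw ⊢
      rw [hw]; group
  obtain ⟨U, hU𝒮, hmax⟩ := h𝒮fin.exists_maximal h𝒮ne
  obtain ⟨hUF, hUab, hAU⟩ := hU𝒮
  have hA2 : ∀ a ∈ A, a * a = 1 := by
    intro a ha
    have := helper3.ea_pow hA ha
    rwa [pow_two] at this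
  -- key: an eigen-element of `F` commuting with `U` lies in `U`
  have hkey : ∀ z ∈ F, (∀ u ∈ U, z * u = u * z) → IsEigen A z → z ∈ U := by
    intro z hzF hzU hzE
    have hmem : U ⊔ Subgroup.zpowers z ∈ 𝒮 := by
      refine ⟨sup_le hUF ((Subgroup.zpowers_le).mpr hzF), eigen_sup_abelian hUab hzU, ?_⟩
      exact (le_inf hAU hzE.le_normalizer_zpowers).trans
        (Subgroup.normalizer_inf_normalizer_le_normalizer_sup U (Subgroup.zpowers z))
    have := hmax hmem le_sup_left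
    exact this (le_sup_right (a := U) (Subgroup.mem_zpowers z))
  -- `U` is self-centralizing in `F`
  have hCU : ∀ w ∈ F, (∀ u ∈ U, w * u = u * w) → w ∈ U := by
    intro w₀ hw₀F hw₀U
    by_contra hw₀
    -- the centralizer of `U` in `F`
    have hCmem : ∀ w, w ∈ F ⊓ Subgroup.centralizer (U : Set G) ↔ w ∈ F ∧ ∀ u ∈ U, w * u = u * w := by
      intro w
      rw [Subgroup.mem_inf, Subgroup.mem_centralizer_iff]
      constructor
      · rintro ⟨h1, h2⟩
        exact ⟨h1, fun u hu => (h2 u hu).symm⟩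
      · rintro ⟨h1, h2⟩
        exact ⟨h1, fun u hu => (h2 u hu).symm⟩
    have hAC : A ≤ Subgroup.normalizer ((F ⊓ Subgroup.centralizer (U : Set G) : Subgroup G) : Set G) := by
      apply le_normalizer_of_conj_mem
      intro a ha w hw
      obtain ⟨hwF, hwU⟩ := (hCmem w).mp hw
      exact (hCmem _).mpr ⟨conj_mem_of_le_nmz hAF ha hwF, conj_comm_of_normalizes hAU ha hwU⟩
    have hCodd : ¬ 2 ∣ Nat.card ↥(F ⊓ Subgroup.centralizer (U : Set G) : Subgroup G) := by
      intro h2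
      have hd : Nat.card ↥(F ⊓ Subgroup.centralizer (U : Set G) : Subgroup G) ∣ Nat.card ↥F :=
        Subgroup.card_dvd_of_le inf_le_left
      have := Odd.of_dvd_nat hFodd (h2.trans hd)
      exact absurd this (by decide)
    have hgen := gen_coprime hA hCodd hAC
    have hnot : ¬ (F ⊓ Subgroup.centralizer (U : Set G)) ≤ U :=
      fun h => hw₀ (h ((hCmem w₀).mpr ⟨hw₀F, hw₀U⟩))
    rw [hgen] at hnot
    have hex : ∃ B : Subgroup G, B ≤ A ∧ B.relIndex A ≤ 2 ∧
        ¬ (F ⊓ Subgroup.centralizer (U : Set G)) ⊓ Subgroup.centralizer (B : Set G) ≤ U := by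
      by_contra hcon
      push_neg at hcon
      apply hnot
      unfold genC
      apply iSup_le
      rintro ⟨B, hBA, hidx⟩
      exact hcon B hBA hidx
    obtain ⟨B, hBA, hidx, hBnot⟩ := hex
    obtain ⟨w, hwCB, hwU'⟩ := SetLike.not_le_iff_exists.mp hBnot
    obtain ⟨hwC, hwB'⟩ := Subgroup.mem_inf.mp hwCB
    obtain ⟨hwF, hwU⟩ := (hCmem w).mp hwC
    have hwB : ∀ b ∈ B, b * w * b⁻¹ = w := by
      intro b hb
      have := Subgroup.mem_centralizer_iff.mp hwB' b hb
      rw [this]; group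
    by_cases hAB : A ≤ B
    · -- `w` is centralized by `A`
      exact hwU' (hkey w hwF hwU (fun a ha => Or.inl (hwB a (hAB ha))))
    · obtain ⟨t, htA, htB⟩ := SetLike.not_le_iff_exists.mp hAB
      have hidx2 : B.relIndex A = 2 := by
        have h0 : B.relIndex A ≠ 0 := by
          rw [Subgroup.relIndex]
          exact Subgroup.index_ne_zero_of_finite
        have h1 : B.relIndex A ≠ 1 := fun h => hAB (Subgroup.relIndex_eq_one.mp h)
        omega
      have ht2 : t * t = 1 := hA2 t htA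
      have hti : t⁻¹ = t := inv_eq_of_mul_eq_one_left ht2
      -- coset description
      have hcoset : ∀ y : G, (∀ b ∈ B, b * y * b⁻¹ = y) → ∀ a ∈ A, a ∉ B →
          a * y * a⁻¹ = t * y * t⁻¹ := by
        intro y hy a ha haB
        have hat := mul_mem_of_relIndex_two hidx2 ha htA haB htB
        have h1 := hy _ hat
        have hcomm : a * t = t * a := helper3.ea_comm hA ha htA
        calc a * y * a⁻¹ = t⁻¹ * ((a * t) * y * (a * t)⁻¹) * t := by rw [hcomm]; group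
          _ = t⁻¹ * y * t := by rw [h1]
          _ = t * y * t⁻¹ := by rw [hti]
      have hBconj : ∀ y : G, (∀ b ∈ B, b * y * b⁻¹ = y) → ∀ b ∈ B, b * (t * y * t⁻¹) * b⁻¹ = t * y * t⁻¹ := by
        intro y hy b hb
        have hcomm : b * t = t * b := helper3.ea_comm hA (hBA hb) htA
        calc b * (t * y * t⁻¹) * b⁻¹ = (b * t) * y * (b * t)⁻¹ := by group
          _ = t * (b * y * b⁻¹) * t⁻¹ := by rw [hcomm]; group
          _ = t * y * t⁻¹ := by rw [hy b hb]
      -- the commutator x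
      have hxF : w⁻¹ * (t * w * t⁻¹) ∈ F := F.mul_mem (F.inv_mem hwF) (conj_mem_of_le_nmz hAF htA hwF)
      have hxU : ∀ u ∈ U, (w⁻¹ * (t * w * t⁻¹)) * u = u * (w⁻¹ * (t * w * t⁻¹)) := by
        intro u hu
        have h1 := conj_comm_of_normalizes hAU htA hwU u hu
        have h2 : w⁻¹ * u = u * w⁻¹ := by
          have := hwU u hu
          calc w⁻¹ * u = w⁻¹ * (u * w) * w⁻¹ := by group
            _ = w⁻¹ * (w * u) * w⁻¹ := by rw [this]
            _ = u * w⁻¹ := by group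
        calc w⁻¹ * (t * w * t⁻¹) * u = w⁻¹ * ((t * w * t⁻¹) * u) := by group
          _ = w⁻¹ * (u * (t * w * t⁻¹)) := by rw [h1]
          _ = (w⁻¹ * u) * (t * w * t⁻¹) := by group
          _ = (u * w⁻¹) * (t * w * t⁻¹) := by rw [h2]
          _ = u * (w⁻¹ * (t * w * t⁻¹)) := by group
      have htx : t * (w⁻¹ * (t * w * t⁻¹)) * t⁻¹ = (w⁻¹ * (t * w * t⁻¹))⁻¹ := conj_comm_inv ht2
      have hBx : ∀ b ∈ B, b * (w⁻¹ * (t * w * t⁻¹)) * b⁻¹ = w⁻¹ * (t * w * t⁻¹) := by
        intro b hb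
        have h1 := hBconj w hwB b hb
        have h2 := hwB b hb
        calc b * (w⁻¹ * (t * w * t⁻¹)) * b⁻¹ = (b * w * b⁻¹)⁻¹ * (b * (t * w * t⁻¹) * b⁻¹) := by group
          _ = w⁻¹ * (t * w * t⁻¹) := by rw [h1, h2]
      have hxE : IsEigen A (w⁻¹ * (t * w * t⁻¹)) := by
        intro a ha
        by_cases haB : a ∈ B
        · exact Or.inl (hBx a haB)
        · right
          rw [hcoset _ hBx a ha haB, htx]
      have hxUmem : w⁻¹ * (t * w * t⁻¹) ∈ U := hkey _ hxF hxU hxE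
      -- the square root
      set x := w⁻¹ * (t * w * t⁻¹) with hxdef
      have hxodd : Odd (orderOf x) := orderOf_odd_of_mem hFodd hxF
      obtain ⟨m, hm⟩ := hxodd
      have hs2 : x ^ (m + 1) * x ^ (m + 1) = x := by
        rw [← pow_add]
        have : m + 1 + (m + 1) = orderOf x + 1 := by omega
        rw [this, pow_succ, pow_orderOf_eq_one, one_mul]
      have hsU : x ^ (m + 1) ∈ U := U.pow_mem hxUmem _
      have hts : t * x ^ (m + 1) * t⁻¹ = (x ^ (m + 1))⁻¹ := by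
        rw [← conj_pow, htx, inv_pow]
      have hBs : ∀ b ∈ B, b * x ^ (m + 1) * b⁻¹ = x ^ (m + 1) := by
        intro b hb
        rw [← conj_pow, hBx b hb]
      -- the fixed element w * s
      have htw : t * w * t⁻¹ = w * x := by rw [hxdef]; group
      have htws : t * (w * x ^ (m + 1)) * t⁻¹ = w * x ^ (m + 1) := by
        calc t * (w * x ^ (m + 1)) * t⁻¹ = (t * w * t⁻¹) * (t * x ^ (m + 1) * t⁻¹) := by group
          _ = w * x * (x ^ (m + 1))⁻¹ := by rw [htw, hts]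
          _ = w * (x ^ (m + 1) * x ^ (m + 1)) * (x ^ (m + 1))⁻¹ := by rw [hs2]
          _ = w * x ^ (m + 1) := by group
      have hBws : ∀ b ∈ B, b * (w * x ^ (m + 1)) * b⁻¹ = w * x ^ (m + 1) := by
        intro b hb
        calc b * (w * x ^ (m + 1)) * b⁻¹ = (b * w * b⁻¹) * (b * x ^ (m + 1) * b⁻¹) := by group
          _ = w * x ^ (m + 1) := by rw [hwB b hb, hBs b hb]
      have hwsE : IsEigen A (w * x ^ (m + 1)) := by
        intro a ha
        left
        by_cases haB : a ∈ B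
        · exact hBws a haB
        · rw [hcoset _ hBws a ha haB, htws]
      have hwsF : w * x ^ (m + 1) ∈ F := F.mul_mem hwF (hUF hsU)
      have hwsU : ∀ u ∈ U, (w * x ^ (m + 1)) * u = u * (w * x ^ (m + 1)) := by
        intro u hu
        calc w * x ^ (m + 1) * u = w * (x ^ (m + 1) * u) := by group
          _ = w * (u * x ^ (m + 1)) := by rw [hUab _ hsU u hu]
          _ = (w * u) * x ^ (m + 1) := by group
          _ = (u * w) * x ^ (m + 1) := by rw [hwU u hu]
          _ = u * (w * x ^ (m + 1)) := by group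
      have hwsmem : w * x ^ (m + 1) ∈ U := hkey _ hwsF hwsU hwsE
      apply hwU'
      have : w = (w * x ^ (m + 1)) * (x ^ (m + 1))⁻¹ := by group
      rw [this]
      exact U.mul_mem hwsmem (U.inv_mem hsU)
  refine ⟨U, hUF, hUab, hAU, ?_⟩
  -- faithful on `U` implies faithful on `F`
  intro t htA htU
  have ht2 : t * t = 1 := hA2 t htA
  by_contra hcon
  push_neg at hcon
  obtain ⟨g₀, hg₀F, hg₀⟩ := hcon
  -- D = C_F(t)
  let D : Subgroup G := F ⊓ Subgroup.centralizer ({t} : Set G)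
  have hDmem : ∀ d, d ∈ D ↔ d ∈ F ∧ t * d * t⁻¹ = d := by
    intro d
    constructor
    · rintro ⟨h1, h2⟩
      refine ⟨h1, ?_⟩
      have := Subgroup.mem_centralizer_singleton_iff.mp h2
      rw [← this]; group
    · rintro ⟨h1, h2⟩
      refine ⟨h1, Subgroup.mem_centralizer_singleton_iff.mpr ?_⟩
      calc d * t = (t * d * t⁻¹) * t := by rw [h2]
        _ = t * d := by group
  have hDF : D ≤ F := inf_le_left
  have hUD : U ≤ D := fun u hu => (hDmem u).mpr ⟨hUF hu, htU u hu⟩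
  have hDlt : D.subgroupOf F < ⊤ := by
    rw [lt_top_iff_ne_top]
    intro h
    rw [Subgroup.subgroupOf_eq_top] at h
    exact hg₀ ((hDmem g₀).mp (h hg₀F)).2
  have hnc := normalizerCondition_of_isNilpotent (G := ↥F) (D.subgroupOf F) hDlt
  obtain ⟨g, hgN, hgD⟩ := SetLike.exists_of_lt hnc
  rw [Subgroup.mem_subgroupOf] at hgD
  have hgnorm : ∀ d ∈ D, (g : G) * d * (g : G)⁻¹ ∈ D := by
    intro d hd
    have := (Subgroup.mem_normalizer_iff.mp hgN ⟨d, hDF hd⟩).mp (Subgroup.mem_subgroupOf.mpr hd)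
    rw [Subgroup.mem_subgroupOf] at this
    exact this
  -- the commutator c = g⁻¹ (t g t⁻¹)
  have hcF : (g : G)⁻¹ * (t * (g : G) * t⁻¹) ∈ F :=
    F.mul_mem (F.inv_mem g.2) (conj_mem_of_le_nmz hAF htA g.2)
  have hcD : ∀ d ∈ D, ((g : G)⁻¹ * (t * (g : G) * t⁻¹)) * d = d * ((g : G)⁻¹ * (t * (g : G) * t⁻¹)) := by
    intro d hd
    have h1 : t⁻¹ * d * t = d := by
      have := ((hDmem d).mp hd).2
      calc t⁻¹ * d * t = t⁻¹ * (t * d * t⁻¹) * t := by rw [this]
        _ = d := by group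
    have h2 : t * ((g : G) * d * (g : G)⁻¹) * t⁻¹ = (g : G) * d * (g : G)⁻¹ :=
      ((hDmem _).mp (hgnorm d hd)).2
    have h3 : ((g : G)⁻¹ * (t * (g : G) * t⁻¹)) * d * ((g : G)⁻¹ * (t * (g : G) * t⁻¹))⁻¹ = d := by
      calc ((g : G)⁻¹ * (t * (g : G) * t⁻¹)) * d * ((g : G)⁻¹ * (t * (g : G) * t⁻¹))⁻¹
          = (g : G)⁻¹ * (t * ((g : G) * (t⁻¹ * d * t) * (g : G)⁻¹) * t⁻¹) * (g : G) := by group
        _ = (g : G)⁻¹ * ((g : G) * d * (g : G)⁻¹) * (g : G) := by rw [h1, h2]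
        _ = d := by group
    exact mul_inv_eq_iff_eq_mul.mp h3
  have hcU : (g : G)⁻¹ * (t * (g : G) * t⁻¹) ∈ U := hCU _ hcF (fun u hu => hcD u (hUD hu))
  have hc1 : t * ((g : G)⁻¹ * (t * (g : G) * t⁻¹)) * t⁻¹ = (g : G)⁻¹ * (t * (g : G) * t⁻¹) :=
    htU _ hcU
  have hc2 := conj_comm_inv (g := (g : G)) ht2
  rw [hc1] at hc2
  have hc3 := eq_one_of_inv_eq_self_of_odd (orderOf_odd_of_mem hFodd hcF) hc2
  apply hgD
  refine (hDmem _).mpr ⟨g.2, ?_⟩
  calc t * (g : G) * t⁻¹ = (g : G) * ((g : G)⁻¹ * (t * (g : G) * t⁻¹)) := by group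
    _ = (g : G) := by rw [hc3, mul_one]

end Eigen2

end Cfsg.Agent.helper7
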