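import Mathlib
import Cfsg.Agent.Lib_helper7_Eigen2

/-! Diagonal decomposition for an elementary abelian 2-group acting faithfully on a nilpotent group
of odd order (helper7). -/

set_option autoImplicit false

namespace Cfsg.Agent.helper7

section Eigen3

variable {G : Type*} [Group G]

/-- **Diagonal decomposition, nilpotent case.** -/
theorem eigen_decomp_nilpotent [Finite G] {A F : Subgroup G} (hA : Cfsg.IsElementaryAbelian 2 A)
    (hFnil : Group.IsNilpotent ↥F) (hFodd : Odd (Nat.card ↥F))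
    (hAF : A ≤ Subgroup.normalizer (F : Set G))
    (hfaith : ∀ t ∈ A, (∀ g ∈ F, t * g * t⁻¹ = g) → t = 1) (k : ℕ) (hcard : Nat.card ↥A = 2 ^ k) :
    ∃ (b x : Fin k → G), (∀ i, b i ∈ A) ∧ (∀ i, x i ∈ F) ∧ (∀ i, (orderOf (x i)).Prime) ∧
        (∀ i, IsEigen A (x i)) ∧ (∀ i, b i * x i * (b i)⁻¹ = (x i)⁻¹) ∧
        (∀ i j, i ≠ j → b i * x j * (b i)⁻¹ = x j) ∧ (∀ i j, x i * x j = x j * x i) ∧
        Subgroup.closure (Set.range b) = A ∧
        (∀ t ∈ A, (∀ i, t * x i * t⁻¹ = x i) → t = 1) := by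
  obtain ⟨U, hUF, hUab, hAU, hUfaith⟩ := exists_abelian_faithful hA hFnil hFodd hAF
  have hUodd : Odd (Nat.card ↥U) := Odd.of_dvd_nat hFodd (Subgroup.card_dvd_of_le hUF)
  have hbot : A ⊓ Subgroup.centralizer (U : Set G) = ⊥ := by
    rw [eq_bot_iff]
    rintro t ⟨htA, htU⟩
    rw [Subgroup.mem_bot]
    apply hfaith t htA
    apply hUfaith t htA
    intro u hu
    have := Subgroup.mem_centralizer_iff.mp htU u hu
    rw [← this]; group
  obtain ⟨b, x, hb, hx, hxp, hxE, hinv, hcen, hclo, hfa⟩ :=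
    eigen_decomp hA hUab hUodd hAU k A le_rfl hcard hbot
  exact ⟨b, x, hb, fun i => hUF (hx i), hxp, hxE, hinv, hcen,
    fun i j => hUab _ (hx i) _ (hx j), hclo, hfa⟩

/-- An involution normalizing an odd-order group `L` and centralizing a self-centralizing normal
subgroup `F` of `L` centralizes `L`. -/
theorem centralizes_of_centralizes_selfcent [Finite G] {t : G} (ht2 : t * t = 1) {L F : Subgroup G}
    (hLodd : Odd (Nat.card ↥L)) (htL : ∀ g ∈ L, t * g * t⁻¹ ∈ L)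
    (hFn : ∀ g ∈ L, ∀ d ∈ F, g * d * g⁻¹ ∈ F)
    (hCF : ∀ w ∈ L, (∀ d ∈ F, w * d = d * w) → w ∈ F)
    (htF : ∀ d ∈ F, t * d * t⁻¹ = d) : ∀ g ∈ L, t * g * t⁻¹ = g := by
  intro g hg
  have hcL : g⁻¹ * (t * g * t⁻¹) ∈ L := L.mul_mem (L.inv_mem hg) (htL g hg)
  have hcD : ∀ d ∈ F, (g⁻¹ * (t * g * t⁻¹)) * d = d * (g⁻¹ * (t * g * t⁻¹)) := by
    intro d hd
    have h1 : t⁻¹ * d * t = d := by
      have := htF d hd
      calc t⁻¹ * d * t = t⁻¹ * (t * d * t⁻¹) * t := by rw [this]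
        _ = d := by group
    have h2 : t * (g * d * g⁻¹) * t⁻¹ = g * d * g⁻¹ := htF _ (hFn g hg d hd)
    have h3 : (g⁻¹ * (t * g * t⁻¹)) * d * (g⁻¹ * (t * g * t⁻¹))⁻¹ = d := by
      calc (g⁻¹ * (t * g * t⁻¹)) * d * (g⁻¹ * (t * g * t⁻¹))⁻¹
          = g⁻¹ * (t * (g * (t⁻¹ * d * t) * g⁻¹) * t⁻¹) * g := by group
        _ = g⁻¹ * (g * d * g⁻¹) * g := by rw [h1, h2]
        _ = d := by group
    exact mul_inv_eq_iff_eq_mul.mp h3
  have hcF : g⁻¹ * (t * g * t⁻¹) ∈ F := hCF _ hcL hcD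
  have hc1 : t * (g⁻¹ * (t * g * t⁻¹)) * t⁻¹ = g⁻¹ * (t * g * t⁻¹) := htF _ hcF
  have hc2 := conj_comm_inv (g := g) ht2
  rw [hc1] at hc2
  have hc3 := eq_one_of_inv_eq_self_of_odd (orderOf_odd_of_mem hLodd hcL) hc2
  calc t * g * t⁻¹ = g * (g⁻¹ * (t * g * t⁻¹)) := by group
    _ = g := by rw [hc3, mul_one]

/-- the subgroups `zpowers (x i)` for commuting elements of odd order, with `b i` inverting `x i`
and centralizing `x j`, are independent -/
theorem iSupIndep_zpowers_of_eigen [Finite G] {k : ℕ} {b x : Fin k → G}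
    (hodd : ∀ i, Odd (orderOf (x i)))
    (hinv : ∀ i, b i * x i * (b i)⁻¹ = (x i)⁻¹)
    (hcen : ∀ i j, i ≠ j → b i * x j * (b i)⁻¹ = x j) :
    iSupIndep (fun i => Subgroup.zpowers (x i)) := by
  intro i
  rw [disjoint_iff, eq_bot_iff]
  rintro y ⟨hy1, hy2⟩
  rw [Subgroup.mem_bot]
  -- b i inverts y
  have h1 : b i * y * (b i)⁻¹ = y⁻¹ := by
    obtain ⟨m, rfl⟩ := Subgroup.mem_zpowers_iff.mp hy1
    rw [← conj_zpow, hinv i, inv_zpow]
  -- b i centralizes y
  have h2 : y ∈ Subgroup.centralizer ({b i} : Set G) := by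
    have hle : (⨆ j, ⨆ (_ : j ≠ i), Subgroup.zpowers (x j)) ≤ Subgroup.centralizer ({b i} : Set G) := by
      apply iSup_le
      intro j
      apply iSup_le
      intro hj
      rw [Subgroup.zpowers_le, Subgroup.mem_centralizer_singleton_iff]
      have := hcen i j (Ne.symm hj)
      calc x j * b i = (b i * x j * (b i)⁻¹) * b i := by rw [this]
        _ = b i * x j := by group
    exact hle hy2
  have h3 : b i * y * (b i)⁻¹ = y := by
    have := Subgroup.mem_centralizer_singleton_iff.mp h2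
    rw [← this]; group
  rw [h3] at h1
  have hyodd : Odd (orderOf y) := by
    obtain ⟨m, rfl⟩ := Subgroup.mem_zpowers_iff.mp hy1
    exact Odd.of_dvd_nat (hodd i) (orderOf_dvd_of_pow_eq_one (by
      rw [← zpow_natCast, ← zpow_mul, mul_comm, zpow_mul, zpow_natCast, pow_orderOf_eq_one, one_zpow]))
  exact eq_one_of_inv_eq_self_of_odd hyodd h1

end Eigen3

end Cfsg.Agent.helper7
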