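import Mathlib
import Cfsg.Prelude.Def_Balance
import Cfsg.Agent.Lib_helper7_ExtLayer2

set_option autoImplicit false

namespace Cfsg.Agent.helper7

variable {G : Type*} [Group G]

/-- The internal form of `O(C_G(T₀))`. -/
def oddCoreCent (T₀ : Subgroup G) : Subgroup G :=
  piCoreIn {q | q ≠ 2} (Subgroup.centralizer (T₀ : Set G))

theorem map_oddCore_centralizer_eq [Finite G] (T₀ : Subgroup G) :
    (Cfsg.oddCore ↥(Subgroup.centralizer (T₀ : Set G))).map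
      (Subgroup.centralizer (T₀ : Set G)).subtype = oddCoreCent T₀ :=
  map_pPrimeCore_eq Nat.prime_two _

theorem cj_oddCoreCent (g : G) (T₀ : Subgroup G) :
    cj g (oddCoreCent T₀) = oddCoreCent (cj g T₀) := by
  unfold oddCoreCent piCoreIn
  rw [cj_radOf (fun g _ h => h.conj g), cj_centralizer]

theorem normalizer_le_normalizer_oddCoreCent (T₀ : Subgroup G) :
    Subgroup.normalizer (T₀ : Set G) ≤ Subgroup.normalizer ((oddCoreCent T₀ : Subgroup G) : Set G) := by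
  intro g hg
  apply mem_normalizer_of_cj_eq
  rw [cj_oddCoreCent, cj_eq_of_mem_normalizer hg]

theorem extendedTwoLayer_eq [Finite G] : Cfsg.extendedTwoLayer G =
    Cfsg.pLayer 2 G ⊔ Cfsg.oddCore G ⊔
      ⨆ T : Sylow 2 ↥(Cfsg.pLayer 2 G ⊔ Cfsg.pPrimePCore 2 G),
        oddCoreCent ((T : Subgroup ↥(Cfsg.pLayer 2 G ⊔ Cfsg.pPrimePCore 2 G)).map
          (Cfsg.pLayer 2 G ⊔ Cfsg.pPrimePCore 2 G).subtype) := by
  unfold Cfsg.extendedTwoLayer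
  congr 1
  apply iSup_congr
  intro T
  exact map_oddCore_centralizer_eq _

/-- `L_{2'}(G) O(G)` is normal. -/
theorem pLayer_sup_oddCore_normal : (Cfsg.pLayer 2 G ⊔ Cfsg.oddCore G).Normal := by
  haveI := pLayer_normal (G := G) 2
  infer_instance

/-- `W = L_{2'}(G) O_{2',2}(G)` is covered by `L_{2'}(G) O(G)` and a Sylow `2`-subgroup of `W`. -/
theorem extBase_le_sup_sylow [Finite G]
    (T : Sylow 2 ↥(Cfsg.pLayer 2 G ⊔ Cfsg.pPrimePCore 2 G)) :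
    ∀ w ∈ Cfsg.pLayer 2 G ⊔ Cfsg.pPrimePCore 2 G,
      ∃ b ∈ Cfsg.pLayer 2 G ⊔ Cfsg.oddCore G,
        ∃ t ∈ (T : Subgroup ↥(Cfsg.pLayer 2 G ⊔ Cfsg.pPrimePCore 2 G)).map
          (Cfsg.pLayer 2 G ⊔ Cfsg.pPrimePCore 2 G).subtype, w = b * t := by
  have hp : Nat.Prime 2 := Nat.prime_two
  haveI : Fact (Nat.Prime 2) := ⟨hp⟩
  haveI := pLayer_sup_oddCore_normal (G := G)
  set ρ := QuotientGroup.mk' (Cfsg.pLayer 2 G ⊔ Cfsg.oddCore G) with hρ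
  have hker : ρ.ker = Cfsg.pLayer 2 G ⊔ Cfsg.oddCore G := QuotientGroup.ker_mk' _
  -- the image of `W` is a 2-group
  have hWmap : (Cfsg.pLayer 2 G ⊔ Cfsg.pPrimePCore 2 G).map ρ = (Cfsg.pPrimePCore 2 G).map ρ := by
    rw [Subgroup.map_sup]
    have : (Cfsg.pLayer 2 G).map ρ = ⊥ := by
      rw [Subgroup.map_eq_bot_iff, hker]; exact le_sup_left
    rw [this, bot_sup_eq]
  have hRp : IsPGroup 2 ↥((Cfsg.pLayer 2 G ⊔ Cfsg.pPrimePCore 2 G).map ρ) := by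
    rw [hWmap]
    rintro ⟨_, z, hz, rfl⟩
    have hz' : QuotientGroup.mk' (Cfsg.pPrimeCore 2 G) z ∈
        Cfsg.pCore 2 (G ⧸ Cfsg.pPrimeCore 2 G) := hz
    have hR2 : IsPGroup 2 ↥(Cfsg.pCore 2 (G ⧸ Cfsg.pPrimeCore 2 G)) := by
      rw [pCore_eq hp]; exact piCoreIn_isPGroup hp ⊤
    obtain ⟨k, hk⟩ := hR2 ⟨_, hz'⟩
    refine ⟨k, Subtype.ext ?_⟩
    have hk' : (QuotientGroup.mk' (Cfsg.pPrimeCore 2 G) z) ^ 2 ^ k = 1 := by
      have := congrArg Subtype.val hk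
      simpa using this
    rw [← map_pow, ← MonoidHom.mem_ker, ker_mk_pPrimeCore] at hk'
    show (ρ z) ^ 2 ^ k = 1
    rw [← map_pow, ← MonoidHom.mem_ker, hker]
    exact le_sup_right (a := Cfsg.pLayer 2 G) hk'
  have hmap := map_sylow_eq_of_isPGroup ρ hRp T
  intro w hw
  have h1 : ρ w ∈ ((T : Subgroup ↥(Cfsg.pLayer 2 G ⊔ Cfsg.pPrimePCore 2 G)).map
      (Cfsg.pLayer 2 G ⊔ Cfsg.pPrimePCore 2 G).subtype).map ρ := by
    rw [hmap]; exact Subgroup.mem_map_of_mem _ hw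
  obtain ⟨t, ht, hte⟩ := h1
  refine ⟨w * t⁻¹, ?_, t, ht, by group⟩
  rw [← hker, MonoidHom.mem_ker, map_mul, map_inv, hte]
  group

/-- `L*_{2'}(G) = L_{2'}(G) O(G) O(C_G(T))` for any Sylow 2-subgroup `T` of `L_{2'}(G) O_{2',2}(G)`. -/
theorem extendedTwoLayer_eq_of_sylow [Finite G]
    (T : Sylow 2 ↥(Cfsg.pLayer 2 G ⊔ Cfsg.pPrimePCore 2 G)) :
    Cfsg.extendedTwoLayer G = Cfsg.pLayer 2 G ⊔ Cfsg.oddCore G ⊔
      oddCoreCent ((T : Subgroup ↥(Cfsg.pLayer 2 G ⊔ Cfsg.pPrimePCore 2 G)).map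
          (Cfsg.pLayer 2 G ⊔ Cfsg.pPrimePCore 2 G).subtype) := by
  have hp : Nat.Prime 2 := Nat.prime_two
  haveI : Fact (Nat.Prime 2) := ⟨hp⟩
  haveI hB := pLayer_sup_oddCore_normal (G := G)
  rw [extendedTwoLayer_eq]
  apply le_antisymm
  · apply sup_le le_sup_left
    apply iSup_le
    intro T'
    obtain ⟨w, hw⟩ := MulAction.exists_smul_eq ↥(Cfsg.pLayer 2 G ⊔ Cfsg.pPrimePCore 2 G) T T'
    -- `T'₀ = cj w T₀`
    have hT' : (T' : Subgroup ↥(Cfsg.pLayer 2 G ⊔ Cfsg.pPrimePCore 2 G)).map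
        (Cfsg.pLayer 2 G ⊔ Cfsg.pPrimePCore 2 G).subtype =
        cj (w : G) ((T : Subgroup ↥(Cfsg.pLayer 2 G ⊔ Cfsg.pPrimePCore 2 G)).map
          (Cfsg.pLayer 2 G ⊔ Cfsg.pPrimePCore 2 G).subtype) := by
      rw [← hw, Sylow.coe_subgroup_smul]
      ext x
      rw [mem_cj]
      constructor
      · rintro ⟨a, ha, rfl⟩
        rw [SetLike.mem_coe, Subgroup.mem_pointwise_smul_iff_inv_smul_mem] at ha
        refine ⟨_, ha, ?_⟩
        rw [← map_inv, MulAut.smul_def, MulAut.conj_apply, inv_inv]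
        rfl
      · rintro ⟨a, ha, hae⟩
        refine ⟨w * a * w⁻¹, ?_, ?_⟩
        · rw [SetLike.mem_coe, Subgroup.mem_pointwise_smul_iff_inv_smul_mem, ← map_inv,
            MulAut.smul_def, MulAut.conj_apply, inv_inv]
          have : w⁻¹ * (w * a * w⁻¹) * w = a := by group
          rw [this]; exact ha
        · have h2 : ((w * a * w⁻¹ : ↥(Cfsg.pLayer 2 G ⊔ Cfsg.pPrimePCore 2 G)) : G) =
              (w : G) * (a : G) * (w : G)⁻¹ := rfl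
          rw [Subgroup.subtype_apply, h2]
          have h3 : (a : G) = (w : G)⁻¹ * x * (w : G) := hae
          rw [h3]; group
    rw [hT', ← cj_oddCoreCent]
    obtain ⟨b, hb, t, ht, hwe⟩ := extBase_le_sup_sylow T (w : G) w.2
    rw [hwe, ← cj_cj]
    have htn : cj t (oddCoreCent ((T : Subgroup ↥(Cfsg.pLayer 2 G ⊔ Cfsg.pPrimePCore 2 G)).map
          (Cfsg.pLayer 2 G ⊔ Cfsg.pPrimePCore 2 G).subtype)) =
        oddCoreCent ((T : Subgroup ↥(Cfsg.pLayer 2 G ⊔ Cfsg.pPrimePCore 2 G)).map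
          (Cfsg.pLayer 2 G ⊔ Cfsg.pPrimePCore 2 G).subtype) :=
      cj_eq_of_mem_normalizer (normalizer_le_normalizer_oddCoreCent _ (Subgroup.le_normalizer ht))
    rw [htn]
    intro x hx
    rw [mem_cj] at hx
    have : x = (x * (b * (b⁻¹ * x * b)⁻¹ * b⁻¹)) * (b * (b⁻¹ * x * b) * b⁻¹) := by group
    have hx2 : x = (b * (b⁻¹ * x * b) * b⁻¹) := by group
    -- x = [b, y] y with y = b⁻¹ x b
    have hdecomp : x = (b * (b⁻¹ * x * b) * b⁻¹ * (b⁻¹ * x * b)⁻¹) * (b⁻¹ * x * b) := by group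
    rw [hdecomp]
    apply Subgroup.mul_mem
    · apply Subgroup.mem_sup_left
      have h4 : (b⁻¹ * x * b) * b⁻¹ * (b⁻¹ * x * b)⁻¹ ∈ Cfsg.pLayer 2 G ⊔ Cfsg.oddCore G :=
        hB.conj_mem _ (Subgroup.inv_mem _ hb) _
      have : b * (b⁻¹ * x * b) * b⁻¹ * (b⁻¹ * x * b)⁻¹ =
          b * ((b⁻¹ * x * b) * b⁻¹ * (b⁻¹ * x * b)⁻¹) := by group
      rw [this]
      exact Subgroup.mul_mem _ hb h4
    · exact Subgroup.mem_sup_right hx
  · apply sup_le le_sup_left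
    exact le_trans (le_iSup (fun T' : Sylow 2 ↥(Cfsg.pLayer 2 G ⊔ Cfsg.pPrimePCore 2 G) =>
      oddCoreCent ((T' : Subgroup ↥(Cfsg.pLayer 2 G ⊔ Cfsg.pPrimePCore 2 G)).map
          (Cfsg.pLayer 2 G ⊔ Cfsg.pPrimePCore 2 G).subtype)) T) le_sup_right

end Cfsg.Agent.helper7
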