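import Mathlib
import Cfsg.Statements.S0630
import Cfsg.Agent.Lib_helper7_PConstr
import Cfsg.Agent.Lib_helper7_PComp4

set_option autoImplicit false
open Cfsg

namespace Cfsg.Agent.S0630

open Cfsg.Agent.helper7

theorem layer_eq_bot_iff {G : Type*} [Group G] :
    Cfsg.layer G = ⊥ ↔ ∀ K : Subgroup G, ¬ Comp K ⊤ := by
  constructor
  · intro h K hK
    have : K ≤ Cfsg.layer G := le_sSup (isComponent_iff.2 hK)
    rw [h] at this
    exact hK.2.2.1 (le_bot_iff.1 this)
  · intro h
    rw [eq_bot_iff]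
    unfold Cfsg.layer
    apply sSup_le
    intro K hK
    exact absurd (isComponent_iff.1 hK) (h K)

theorem no_comp_of_equiv {G G' : Type*} [Group G] [Group G'] (e : G ≃* G')
    (h : ∀ K : Subgroup G, ¬ Comp K ⊤) : ∀ K : Subgroup G', ¬ Comp K ⊤ := by
  intro K hK
  rcases hK.map_top (f := e.symm.toMonoidHom) e.symm.surjective with h1 | h1
  · apply hK.2.2.1
    rw [eq_bot_iff]
    intro x hx
    have : e.symm.toMonoidHom x ∈ K.map e.symm.toMonoidHom := Subgroup.mem_map_of_mem _ hx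
    rw [h1, Subgroup.mem_bot] at this
    rw [Subgroup.mem_bot]
    have h2 : e.symm x = e.symm 1 := by rw [map_one]; exact this
    exact e.symm.injective h2
  · exact h _ h1

theorem pLayer_eq_bot_iff {G : Type*} [Group G] [Finite G] {p : ℕ} [Fact p.Prime] :
    Cfsg.pLayer p G = ⊥ ↔ Cfsg.layer (G ⧸ Cfsg.pPrimeCore p G) = ⊥ := by
  constructor
  · intro h
    rw [← map_pLayer_eq, h, Subgroup.map_bot]
  · intro h
    rw [eq_bot_iff]
    unfold Cfsg.pLayer
    apply sSup_le
    intro K hK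
    exfalso
    obtain ⟨-, h2, -⟩ := isPComponent_iff.1 hK
    exact (layer_eq_bot_iff.1 h) _ h2

/-- p-constraint passes to and from the quotient by the largest normal subgroup of order prime to p. -/
theorem result {G : Type*} [Group G] [Finite G] {p : ℕ} [Fact p.Prime] : Cfsg.IsPConstrained p G ↔ Cfsg.IsPConstrained p (G ⧸ Cfsg.pPrimeCore p G) := by
  have hp : p.Prime := Fact.out
  rw [isPConstrained_iff hp, isPConstrained_iff hp, pLayer_eq_bot_iff, pLayer_eq_bot_iff,
    layer_eq_bot_iff, layer_eq_bot_iff]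
  have hbot := pPrimeCore_quotient_eq_bot (G := G) hp
  have hinj : Function.Injective
      (QuotientGroup.mk' (Cfsg.pPrimeCore p (G ⧸ Cfsg.pPrimeCore p G))) := by
    rw [← MonoidHom.ker_eq_bot_iff, QuotientGroup.ker_mk', hbot]
  let e : (G ⧸ Cfsg.pPrimeCore p G) ≃*
      ((G ⧸ Cfsg.pPrimeCore p G) ⧸ Cfsg.pPrimeCore p (G ⧸ Cfsg.pPrimeCore p G)) :=
    MulEquiv.ofBijective (QuotientGroup.mk' _) ⟨hinj, QuotientGroup.mk'_surjective _⟩
  exact ⟨no_comp_of_equiv e, no_comp_of_equiv e.symm⟩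

end Cfsg.Agent.S0630
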