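import Mathlib
import Cfsg.Prelude.Def_MonsterType
import Cfsg.Agent.Lib_helper7_FStar2
import Cfsg.Agent.Lib_helper1_PGroup
import Cfsg.Agent.Lib_helper1_PCenter

set_option autoImplicit false
open Cfsg
open scoped commutatorElement Pointwise

/-! Large extraspecial 2-subgroups: basic facts (helper7). -/

namespace Cfsg.Agent.helper7

variable {G : Type*} [Group G]

theorem mem_zpowers_invol {z x : G} (hz : z * z = 1) (hx : x ∈ Subgroup.zpowers z) :
    x = 1 ∨ x = z := by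
  obtain ⟨k, rfl⟩ := Subgroup.mem_zpowers_iff.1 hx
  have h2 : z ^ (2 : ℤ) = 1 := by
    rw [zpow_ofNat, pow_two, hz]
  rcases Int.even_or_odd' k with ⟨m, hm | hm⟩
  · left
    rw [hm, zpow_mul, h2, one_zpow]
  · right
    rw [hm, zpow_add, zpow_mul, h2, one_zpow, one_mul, zpow_one]

/-- The facts about a large extraspecial 2-subgroup `Q` with centre `⟨z⟩` that are used. -/
structure LX (Q : Subgroup G) (z : G) : Prop where
  zQ : z ∈ Q
  z2 : z * z = 1
  z1 : z ≠ 1
  cen : ∀ g : G, (∀ q ∈ Q, q * g = g * q) → g = 1 ∨ g = z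
  comm : ∀ a ∈ Q, ∀ b ∈ Q, a * b * a⁻¹ * b⁻¹ = 1 ∨ a * b * a⁻¹ * b⁻¹ = z
  sq : ∀ a ∈ Q, a * a = 1 ∨ a * a = z
  nor : ∀ g : G, g * z = z * g → g ∈ Subgroup.normalizer (Q : Set G)
  odd : ∀ K : Subgroup G, Odd (Nat.card K) → Q ≤ Subgroup.normalizer (K : Set G) → K = ⊥
  pg : IsPGroup 2 Q
  zc : ∀ q ∈ Q, q * z = z * q

theorem LX.of_large [Finite G] {Q : Subgroup G} (hQ : Cfsg.IsLargeExtraspecial Q) {z : G}
    (hz : ((Subgroup.center ↥Q).map Q.subtype) = Subgroup.zpowers z) : LX Q z := by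
  obtain ⟨⟨⟨hpg, hfr, hco⟩, hcard⟩, hcen, hnor, hodd⟩ := hQ
  haveI : Fact (Nat.Prime 2) := ⟨Nat.prime_two⟩
  have hzmem : z ∈ (Subgroup.center ↥Q).map Q.subtype := by
    rw [hz]; exact Subgroup.mem_zpowers z
  obtain ⟨z', hz'c, hz'z⟩ := hzmem
  have hzQ : z ∈ Q := by rw [← hz'z]; exact z'.2
  have hcardz : Nat.card (Subgroup.zpowers z) = 2 := by
    rw [← hz, card_map_subtype, hcard]
  have hord : orderOf z = 2 := by rw [← hcardz, Nat.card_zpowers]
  have hz2 : z * z = 1 := by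
    rw [← pow_two, ← hord, pow_orderOf_eq_one]
  have hz1 : z ≠ 1 := by
    intro h
    rw [h, orderOf_one] at hord
    omega
  have hmapmem : ∀ x : ↥Q, x ∈ Subgroup.center ↥Q → (x : G) = 1 ∨ (x : G) = z := by
    intro x hx
    apply mem_zpowers_invol hz2
    rw [← hz]
    exact ⟨x, hx, rfl⟩
  refine ⟨hzQ, hz2, hz1, ?_, ?_, ?_, ?_, hodd, hpg, ?_⟩
  · intro g hg
    apply mem_zpowers_invol hz2
    rw [← hz, ← hcen, Subgroup.mem_centralizer_iff]
    intro q hq
    exact hg q hq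
  · intro a ha b hb
    have h1 : ⁅(⟨a, ha⟩ : ↥Q), ⟨b, hb⟩⁆ ∈ Subgroup.center ↥Q := by
      rw [← hco, commutator_def]
      exact Subgroup.commutator_mem_commutator (Subgroup.mem_top _) (Subgroup.mem_top _)
    have := hmapmem _ h1
    simpa [commutatorElement_def] using this
  · intro a ha
    have h1 : (⟨a, ha⟩ : ↥Q) ^ 2 ∈ Subgroup.center ↥Q := by
      rw [← hfr]
      exact Cfsg.Agent.helper1.pow_mem_frattini_of_isPGroup hpg _
    have := hmapmem _ h1
    simpa [pow_two] using this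
  · intro g hg
    apply hnor
    rw [hz, Subgroup.mem_centralizer_iff]
    intro y hy
    obtain ⟨k, rfl⟩ := Subgroup.mem_zpowers_iff.1 hy
    have : Commute g z := hg
    exact ((this.zpow_right k).eq).symm
  · intro q hq
    have h1 : z' ∈ Subgroup.center ↥Q := hz'c
    rw [Subgroup.mem_center_iff] at h1
    have := h1 ⟨q, hq⟩
    have h2 := congrArg Subtype.val this
    simp only [Subgroup.coe_mul] at h2
    rw [← hz'z]
    exact h2

/-- A nontrivial 2-subgroup normalized by `Q` contains `z`. -/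
theorem LX.z_mem_of_two [Finite G] {Q : Subgroup G} {z : G} (h : LX Q z) {R : Subgroup G}
    (hR : IsPGroup 2 R) (hne : R ≠ ⊥) (hQR : Q ≤ Subgroup.normalizer (R : Set G)) : z ∈ R := by
  haveI : Fact (Nat.Prime 2) := ⟨Nat.prime_two⟩
  have hP : IsPGroup 2 ↥(R ⊔ Q) := IsPGroup.to_sup_of_normal_left' hR h.pg hQR
  have hRP : R ≤ R ⊔ Q := le_sup_left
  have hnorm : (R.subgroupOf (R ⊔ Q)).Normal := by
    rw [Subgroup.normal_subgroupOf_iff_le_normalizer hRP]
    exact sup_le Subgroup.le_normalizer hQR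
  have hne' : R.subgroupOf (R ⊔ Q) ≠ ⊥ := by
    intro hb
    apply hne
    rw [Subgroup.subgroupOf_eq_bot, disjoint_iff, inf_eq_left.2 hRP] at hb
    exact hb
  obtain ⟨c, hcR, hcc, hc1⟩ :=
    Cfsg.Agent.helper1.exists_central_of_normal_ne_bot hP (R.subgroupOf (R ⊔ Q)) hne'
  rw [Subgroup.mem_subgroupOf] at hcR
  have hcen : ∀ q ∈ Q, q * (c : G) = (c : G) * q := by
    intro q hq
    rw [Subgroup.mem_center_iff] at hcc
    have := hcc ⟨q, (le_sup_right : Q ≤ R ⊔ Q) hq⟩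
    have h2 := congrArg Subtype.val this
    simpa using h2
  rcases h.cen _ hcen with h1 | h1
  · exfalso; apply hc1; exact Subtype.ext h1
  · rw [← h1]; exact hcR

/-- Decomposition of elements of `E = A × C_E(A)`: existence. -/
theorem exists_dec {A E : Subgroup G} (hAE : A ≤ E)
    (hn : E ≤ Subgroup.normalizer (A : Set G))
    (hgen : E ≤ A ⊔ (E ⊓ Subgroup.centralizer (A : Set G))) {e : G} (he : e ∈ E) :
    ∃ a ∈ A, ∃ c ∈ E ⊓ Subgroup.centralizer (A : Set G), e = a * c := by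
  have hn' : (E ⊓ Subgroup.centralizer (A : Set G)) ≤ Subgroup.normalizer (A : Set G) :=
    inf_le_left.trans hn
  have := hgen he
  rw [sup_comm] at this
  have h2 : e ∈ ((E ⊓ Subgroup.centralizer (A : Set G) : Subgroup G) : Set G) * (A : Set G) := by
    rw [← Subgroup.coe_mul_of_left_le_normalizer_right _ _ hn']
    exact this
  obtain ⟨c, hc, a, ha, rfl⟩ := h2
  have hc' : c ∈ E ⊓ Subgroup.centralizer (A : Set G) := hc
  have ha' : a ∈ A := ha
  refine ⟨a, ha', c, hc', ?_⟩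
  have hc2 : c ∈ Subgroup.centralizer (A : Set G) := hc'.2
  rw [Subgroup.mem_centralizer_iff] at hc2
  exact (hc2 a ha').symm

/-- Decomposition of elements of `E = A × C_E(A)`: uniqueness. -/
theorem dec_unique {A : Subgroup G} (hz : A ⊓ Subgroup.centralizer (A : Set G) = ⊥)
    {a a' c c' : G} (ha : a ∈ A) (ha' : a' ∈ A) (hc : c ∈ Subgroup.centralizer (A : Set G))
    (hc' : c' ∈ Subgroup.centralizer (A : Set G)) (h : a * c = a' * c') : a = a' ∧ c = c' := by
  have h1 : a'⁻¹ * a = c' * c⁻¹ := by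
    have : a'⁻¹ * (a * c) * c⁻¹ = a'⁻¹ * (a' * c') * c⁻¹ := by rw [h]
    calc a'⁻¹ * a = a'⁻¹ * (a * c) * c⁻¹ := by group
      _ = a'⁻¹ * (a' * c') * c⁻¹ := this
      _ = c' * c⁻¹ := by group
  have h2 : a'⁻¹ * a ∈ A ⊓ Subgroup.centralizer (A : Set G) := by
    refine ⟨A.mul_mem (A.inv_mem ha') ha, ?_⟩
    rw [h1]
    exact Subgroup.mul_mem _ hc' (Subgroup.inv_mem _ hc)
  rw [hz, Subgroup.mem_bot] at h2
  have h3 : a = a' := by
    calc a = a' * (a'⁻¹ * a) := by group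
      _ = a' := by rw [h2, mul_one]
  refine ⟨h3, ?_⟩
  rw [h3] at h
  exact mul_left_cancel h

end Cfsg.Agent.helper7
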