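import Mathlib
import Cfsg.Agent.Lib_helper7_LX1

set_option autoImplicit false
open Cfsg
open scoped commutatorElement Pointwise

/-! Large extraspecial 2-subgroups: no component centralizes `z` (helper7). -/

namespace Cfsg.Agent.helper7

variable {G : Type*} [Group G]

theorem le_normalizer_of_cj_le [Finite G] {X Q : Subgroup G} (h : ∀ q ∈ Q, cj q X ≤ X) :
    Q ≤ Subgroup.normalizer (X : Set G) := by
  intro q hq
  apply mem_normalizer_of_cj_eq
  exact Subgroup.eq_of_le_of_card_ge (h q hq) (by rw [card_cj])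

theorem cj_centralizer_singleton {g z : G} (hg : g * z = z * g) :
    cj g (Subgroup.centralizer ({z} : Set G)) = Subgroup.centralizer ({z} : Set G) := by
  ext x
  rw [mem_cj, Subgroup.mem_centralizer_singleton_iff, Subgroup.mem_centralizer_singleton_iff]
  have hz' : g * z * g⁻¹ = z := by rw [hg]; group
  have hz'' : g⁻¹ * z * g = z := by
    calc g⁻¹ * z * g = g⁻¹ * (z * g) := by group
      _ = g⁻¹ * (g * z) := by rw [hg]
      _ = z := by group
  constructor
  · intro h
    have h := h.symm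
    symm
    calc z * x = (g * z * g⁻¹) * x := by rw [hz']
      _ = g * (z * (g⁻¹ * x * g)) * g⁻¹ := by group
      _ = g * ((g⁻¹ * x * g) * z) * g⁻¹ := by rw [h]
      _ = x * (g * z * g⁻¹) := by group
      _ = x * z := by rw [hz']
  · intro h
    have h := h.symm
    symm
    calc z * (g⁻¹ * x * g) = (g⁻¹ * z * g) * (g⁻¹ * x * g) := by rw [hz'']
      _ = g⁻¹ * (z * x) * g := by group
      _ = g⁻¹ * (x * z) * g := by rw [h]
      _ = g⁻¹ * x * g * (g⁻¹ * z * g) := by group
      _ = g⁻¹ * x * g * z := by rw [hz'']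

/-- **Lemma A**: no component of `G` centralizes `z`. -/
theorem LX.no_comp_in_cent [Finite G] {Q : Subgroup G} {z : G} (h : LX Q z) {L : Subgroup G}
    (hL : Comp L ⊤) (hLz : L ≤ Subgroup.centralizer ({z} : Set G)) : False := by
  obtain ⟨S, hS⟩ : ∃ S : Set (Subgroup G),
      S = {L' | Comp L' ⊤ ∧ L' ≤ Subgroup.centralizer ({z} : Set G)} := ⟨_, rfl⟩
  obtain ⟨X, hX⟩ : ∃ X, X = sSup S := ⟨_, rfl⟩
  have hLX : L ≤ X := by rw [hX]; apply le_sSup; rw [hS]; exact ⟨hL, hLz⟩
  have hXE : X ≤ layerOf (⊤ : Subgroup G) := by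
    rw [hX]; apply sSup_le; intro L' hL'; rw [hS] at hL'; exact comp_le_layerOf hL'.1
  have hXz : X ≤ Subgroup.centralizer ({z} : Set G) := by
    rw [hX]; apply sSup_le; intro L' hL'; rw [hS] at hL'; exact hL'.2
  have hcen : ∀ x ∈ X, x * z = z * x := by
    intro x hx
    have := hXz hx
    rw [Subgroup.mem_centralizer_iff] at this
    exact (this z rfl).symm
  have hEX : layerOf (⊤ : Subgroup G) ≤ Subgroup.normalizer (X : Set G) := by
    apply le_normalizer_of_cj_le
    intro e he
    rw [hX, cj_sSup]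
    apply sSup_le
    rintro _ ⟨L', hL', rfl⟩
    have hL'' := hL'
    rw [hS] at hL''
    rw [cj_eq_of_mem_normalizer (hL''.1.layerOf_le_normalizer he)]
    exact le_sSup hL'
  have hQX : Q ≤ Subgroup.normalizer (X : Set G) := by
    apply le_normalizer_of_cj_le
    intro q hq
    rw [hX, cj_sSup]
    apply sSup_le
    rintro _ ⟨L', hL', rfl⟩
    apply le_sSup
    rw [hS] at hL' ⊢
    refine ⟨?_, ?_⟩
    · have := hL'.1.conj q
      have e : cj q (⊤ : Subgroup G) = ⊤ := by
        apply cj_eq_of_mem_normalizer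
        rw [Subgroup.normalizer_eq_top]; exact Subgroup.mem_top _
      rwa [e] at this
    · have := cj_mono (g := q) hL'.2
      rwa [cj_centralizer_singleton (h.zc q hq)] at this
  have hXQ : X ≤ Subgroup.normalizer (Q : Set G) := fun x hx => h.nor x (hcen x hx)
  obtain ⟨N, hN⟩ : ∃ N, N = X ⊓ Q := ⟨_, rfl⟩
  have hNX : X ≤ Subgroup.normalizer (N : Set G) := by
    rw [hN]
    intro x hx
    exact Subgroup.inf_normalizer_le_normalizer_inf ⟨Subgroup.le_normalizer hx, hXQ hx⟩
  have hsnX : SN X ⊤ := (SN.of_normal hXE hEX).trans (layerOf_sn ⊤)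
  have hsnN : SN N ⊤ := (SN.of_normal (by rw [hN]; exact inf_le_left) hNX).trans hsnX
  have hNp : IsPGroup 2 N := by
    rw [hN]; exact h.pg.to_le inf_le_right
  have : Fact (Nat.Prime 2) := ⟨Nat.prime_two⟩
  have hNF : N ≤ fitOf (⊤ : Subgroup G) := nilpotent_sn_le_fitOf hsnN hNp.isNilpotent
  have hLQN : ⁅L, Q⁆ ≤ N := by
    rw [Subgroup.commutator_le]
    intro l hl q hq
    rw [hN, commutatorElement_def]
    refine ⟨?_, ?_⟩
    · have h1 : q * l⁻¹ * q⁻¹ ∈ X := by
        have := hQX hq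
        rw [Subgroup.mem_normalizer_iff] at this
        exact (this l⁻¹).1 (X.inv_mem (hLX hl))
      have : l * q * l⁻¹ * q⁻¹ = l * (q * l⁻¹ * q⁻¹) := by group
      rw [this]
      exact X.mul_mem (hLX hl) h1
    · have h1 : l * q * l⁻¹ ∈ Q := by
        have := hXQ (hLX hl)
        rw [Subgroup.mem_normalizer_iff] at this
        exact (this q).1 hq
      exact Q.mul_mem h1 (Q.inv_mem hq)
  have hLF : ⁅L, fitOf (⊤ : Subgroup G)⁆ = ⊥ := hL.comm_fitOf
  have h1 : ⁅⁅L, Q⁆, L⁆ = ⊥ := by
    rw [eq_bot_iff, ← hLF, Subgroup.commutator_comm L (fitOf ⊤)]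
    exact Subgroup.commutator_mono (hLQN.trans hNF) le_rfl
  have h2 : ⁅⁅Q, L⁆, L⁆ = ⊥ := by
    rw [Subgroup.commutator_comm Q L]; exact h1
  have h3 : ⁅⁅L, L⁆, Q⁆ = ⊥ := Subgroup.commutator_commutator_eq_bot_of_rotate h1 h2
  rw [hL.2.1] at h3
  have h4 : L ≤ Subgroup.centralizer (Q : Set G) := le_centralizer_of_comm_eq_bot (by
    rw [Subgroup.commutator_comm]; exact h3)
  apply hL.2.not_abelian
  intro a ha
  rw [Subgroup.mem_centralizer_iff]
  intro b hb
  have ha' : a = 1 ∨ a = z := by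
    apply h.cen
    intro q hq
    have := h4 ha
    rw [Subgroup.mem_centralizer_iff] at this
    exact this q hq
  have hb' : b = 1 ∨ b = z := by
    apply h.cen
    intro q hq
    have := h4 hb
    rw [Subgroup.mem_centralizer_iff] at this
    exact this q hq
  rcases ha' with rfl | rfl <;> rcases hb' with rfl | rfl <;> simp

end Cfsg.Agent.helper7
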