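import Mathlib
import Cfsg.Agent.Lib_helper7_LX2

set_option autoImplicit false
open Cfsg
open scoped commutatorElement Pointwise

/-! Large extraspecial 2-subgroups: `z` lies in every nontrivial `Q`-invariant subgroup;
the case `O_2(G) ≠ 1` (helper7). -/

namespace Cfsg.Agent.helper7

variable {G : Type*} [Group G]

/-- `z` lies in every nontrivial subgroup normalized by `Q`. -/
theorem LX.z_mem_of_normalized [Finite G] {Q : Subgroup G} {z : G} (h : LX Q z) {R : Subgroup G}
    (hne : R ≠ ⊥) (hQR : Q ≤ Subgroup.normalizer (R : Set G)) : z ∈ R := by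
  haveI : Fact (Nat.Prime 2) := ⟨Nat.prime_two⟩
  have heven : 2 ∣ Nat.card R := by
    by_contra hodd
    apply hne
    apply h.odd R _ hQR
    rw [← Nat.not_even_iff_odd, even_iff_two_dvd]
    exact hodd
  have hconj : ∀ q ∈ Q, ∀ r ∈ R, q * r * q⁻¹ ∈ R := by
    intro q hq r hr
    have := hQR hq
    rw [Subgroup.mem_normalizer_iff] at this
    exact (this r).1 hr
  letI : MulAction ↥Q ↥R :=
    { smul := fun q r => ⟨(q : G) * (r : G) * (q : G)⁻¹, hconj q q.2 r r.2⟩
      one_smul := by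
        intro r
        apply Subtype.ext
        show ((1 : ↥Q) : G) * (r : G) * ((1 : ↥Q) : G)⁻¹ = (r : G)
        simp
      mul_smul := by
        intro a b r
        apply Subtype.ext
        show ((a * b : ↥Q) : G) * (r : G) * ((a * b : ↥Q) : G)⁻¹ =
          (a : G) * ((b : G) * (r : G) * (b : G)⁻¹) * (a : G)⁻¹
        simp only [Subgroup.coe_mul]
        group }
  have h1fix : (1 : ↥R) ∈ MulAction.fixedPoints ↥Q ↥R := by
    intro q
    apply Subtype.ext
    show (q : G) * ((1 : ↥R) : G) * (q : G)⁻¹ = ((1 : ↥R) : G)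
    simp
  obtain ⟨b, hb, hb1⟩ := h.pg.exists_fixed_point_of_prime_dvd_card_of_fixed_point ↥R heven h1fix
  have hcen : ∀ q ∈ Q, q * (b : G) = (b : G) * q := by
    intro q hq
    have := hb ⟨q, hq⟩
    have h2 : q * (b : G) * q⁻¹ = (b : G) := congrArg Subtype.val this
    calc q * (b : G) = (q * (b : G) * q⁻¹) * q := by group
      _ = (b : G) * q := by rw [h2]
  rcases h.cen _ hcen with h1 | h1
  · exfalso; apply hb1; exact (Subtype.ext h1).symm
  · rw [← h1]; exact b.2

theorem card_odd_of_piGrp [Finite G] {p : ℕ} (hp : p.Prime) (hp2 : p ≠ 2) {H : Subgroup G}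
    (hH : PiGrp {p} H) : Odd (Nat.card H) := by
  haveI : Fact p.Prime := ⟨hp⟩
  have h1 : IsPGroup p H := (isPGroup_iff_piGrp hp).2 hH
  obtain ⟨n, hn⟩ := IsPGroup.iff_card.1 h1
  rw [hn]
  exact (hp.odd_of_ne_two hp2).pow

theorem LX.fitOf_eq [Finite G] {Q : Subgroup G} {z : G} (h : LX Q z) :
    fitOf (⊤ : Subgroup G) = piCoreIn {2} ⊤ := by
  rw [fitOf_eq_iSup]
  apply le_antisymm
  · apply iSup_le
    rintro ⟨p, hp⟩
    by_cases hp2 : p = 2
    · subst hp2; exact le_rfl
    · have : piCoreIn {p} (⊤ : Subgroup G) = ⊥ := by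
        apply h.odd _ (card_odd_of_piGrp hp hp2 (piCoreIn_piGrp {p} ⊤))
        exact le_top.trans (piCoreIn_normal {p} ⊤)
      show piCoreIn {p} (⊤ : Subgroup G) ≤ _
      rw [this]; exact bot_le
  · exact le_iSup (fun p : {p : ℕ // p.Prime} => piCoreIn {p.1} (⊤ : Subgroup G)) ⟨2, Nat.prime_two⟩

/-- If every component is excluded, the layer is trivial. -/
theorem layerOf_eq_bot_of_forall {K : Subgroup G} (h : ∀ L, Comp L K → False) :
    layerOf K = ⊥ := by
  unfold layerOf
  rw [sSup_eq_bot]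
  intro L hL
  exact (h L hL).elim

/-- Case `O_2(G) ≠ 1`: the normal closure of `z` is abelian and `F*(G) = O_2(G)`. -/
theorem LX.case_two [Finite G] {Q : Subgroup G} {z : G} (h : LX Q z)
    (hO : piCoreIn {2} (⊤ : Subgroup G) ≠ ⊥) :
    (∀ a ∈ Subgroup.normalClosure ({z} : Set G), ∀ b ∈ Subgroup.normalClosure ({z} : Set G),
      a * b = b * a) ∧ fstarOf (⊤ : Subgroup G) = piCoreIn {2} ⊤ := by
  haveI : Fact (Nat.Prime 2) := ⟨Nat.prime_two⟩
  obtain ⟨R, hR⟩ : ∃ R, R = piCoreIn {2} (⊤ : Subgroup G) := ⟨_, rfl⟩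
  have hRp : IsPGroup 2 R := by
    rw [hR]; exact (isPGroup_iff_piGrp Nat.prime_two).2 (piCoreIn_piGrp {2} ⊤)
  have hRn : (⊤ : Subgroup G) ≤ Subgroup.normalizer (R : Set G) := by
    rw [hR]; exact piCoreIn_normal {2} ⊤
  obtain ⟨A, hA⟩ : ∃ A, A = R ⊓ Subgroup.centralizer (R : Set G) := ⟨_, rfl⟩
  have hAn : (⊤ : Subgroup G) ≤ Subgroup.normalizer (A : Set G) := by
    intro g _
    rw [hA]
    exact Subgroup.inf_normalizer_le_normalizer_inf
      ⟨hRn (Subgroup.mem_top g), normalizer_le_normalizer_centralizer R (hRn (Subgroup.mem_top g))⟩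
  have hAne : A ≠ ⊥ := by
    haveI : Nontrivial ↥R := (Subgroup.nontrivial_iff_ne_bot R).2 (by rw [hR]; exact hO)
    have hc := hRp.center_nontrivial
    obtain ⟨c, hc1⟩ := exists_ne (1 : ↥(Subgroup.center ↥R))
    intro hb
    apply hc1
    have hcA : ((c : ↥R) : G) ∈ A := by
      rw [hA, Subgroup.mem_inf]
      refine ⟨(c : ↥R).2, ?_⟩
      rw [Subgroup.mem_centralizer_iff]
      intro r hr
      have := c.2
      rw [Subgroup.mem_center_iff] at this
      have h2 := this ⟨r, hr⟩
      exact congrArg Subtype.val h2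
    rw [hb, Subgroup.mem_bot] at hcA
    apply Subtype.ext
    apply Subtype.ext
    exact hcA
  have hAp : IsPGroup 2 A := by rw [hA]; exact hRp.to_le inf_le_left
  have hzA : z ∈ A := h.z_mem_of_normalized hAne (le_top.trans hAn)
  have hAnormal : A.Normal := by
    rw [← Subgroup.normalizer_eq_top_iff]
    exact top_le_iff.1 hAn
  have hMA : Subgroup.normalClosure ({z} : Set G) ≤ A :=
    Subgroup.normalClosure_le_normal (Set.singleton_subset_iff.2 hzA)
  have hzR : z ∈ R := by rw [hA, Subgroup.mem_inf] at hzA; exact hzA.1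
  refine ⟨?_, ?_⟩
  · intro a ha b hb
    have ha' := hMA ha
    have hb' := hMA hb
    rw [hA, Subgroup.mem_inf] at ha' hb'
    have := hb'.2
    rw [Subgroup.mem_centralizer_iff] at this
    exact this a ha'.1
  · have hlay : layerOf (⊤ : Subgroup G) = ⊥ := by
      apply layerOf_eq_bot_of_forall
      intro L hL
      apply h.no_comp_in_cent hL
      have h1 : ⁅L, fitOf (⊤ : Subgroup G)⁆ = ⊥ := hL.comm_fitOf
      have h2 : fitOf (⊤ : Subgroup G) ≤ Subgroup.centralizer (L : Set G) :=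
        le_centralizer_of_comm_eq_bot h1
      intro l hl
      rw [Subgroup.mem_centralizer_singleton_iff]
      have hzF : z ∈ fitOf (⊤ : Subgroup G) := by
        rw [h.fitOf_eq, ← hR]; exact hzR
      have := h2 hzF
      rw [Subgroup.mem_centralizer_iff] at this
      exact this l hl
    unfold fstarOf
    rw [hlay, bot_sup_eq, h.fitOf_eq]

end Cfsg.Agent.helper7
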