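import Mathlib
import Cfsg.Agent.Lib_helper7_LX3

set_option autoImplicit false
open Cfsg
open scoped commutatorElement Pointwise

/-! Large extraspecial 2-subgroups: the case `O_2(G) = 1` (helper7). -/

namespace Cfsg.Agent.helper7

variable {G : Type*} [Group G]

theorem cj_top_lx (g : G) : cj g (⊤ : Subgroup G) = ⊤ := by
  apply cj_eq_of_mem_normalizer
  rw [Subgroup.normalizer_eq_top]; exact Subgroup.mem_top _

theorem Comp.conj_top_lx {L : Subgroup G} (h : Comp L ⊤) (g : G) : Comp (cj g L) ⊤ := by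
  have := h.conj g
  rwa [cj_top_lx] at this

theorem LX.fit_bot [Finite G] {Q : Subgroup G} {z : G} (h : LX Q z)
    (hO : piCoreIn {2} (⊤ : Subgroup G) = ⊥) : fitOf (⊤ : Subgroup G) = ⊥ := by
  rw [h.fitOf_eq, hO]

theorem LX.fstar_eq_layer [Finite G] {Q : Subgroup G} {z : G} (h : LX Q z)
    (hO : piCoreIn {2} (⊤ : Subgroup G) = ⊥) : fstarOf (⊤ : Subgroup G) = layerOf ⊤ := by
  unfold fstarOf
  rw [h.fit_bot hO, sup_bot_eq]

theorem LX.layer_ne_bot [Finite G] {Q : Subgroup G} {z : G} (h : LX Q z)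
    (hO : piCoreIn {2} (⊤ : Subgroup G) = ⊥) : layerOf (⊤ : Subgroup G) ≠ ⊥ := by
  intro hb
  have h1 := centralizer_fstarOf_le (⊤ : Subgroup G)
  rw [h.fstar_eq_layer hO, hb] at h1
  have h2 : z ∈ (⊤ : Subgroup G) ⊓ Subgroup.centralizer (((⊥ : Subgroup G) : Subgroup G) : Set G) := by
    rw [Subgroup.mem_inf]
    refine ⟨Subgroup.mem_top _, ?_⟩
    rw [Subgroup.mem_centralizer_iff]
    intro y hy
    have : y = 1 := hy
    rw [this]; simp
  have := h1 h2
  rw [Subgroup.mem_bot] at this
  exact h.z1 this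

theorem LX.z_mem_layer [Finite G] {Q : Subgroup G} {z : G} (h : LX Q z)
    (hO : piCoreIn {2} (⊤ : Subgroup G) = ⊥) : z ∈ layerOf (⊤ : Subgroup G) :=
  h.z_mem_of_normalized (h.layer_ne_bot hO) (le_top.trans (layerOf_normal ⊤))

theorem layerOf_top_normal : (layerOf (⊤ : Subgroup G)).Normal := by
  rw [← Subgroup.normalizer_eq_top_iff]
  exact top_le_iff.1 (layerOf_normal ⊤)

theorem LX.closure_eq_layer [Finite G] {Q : Subgroup G} {z : G} (h : LX Q z)
    (hO : piCoreIn {2} (⊤ : Subgroup G) = ⊥) :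
    Subgroup.normalClosure ({z} : Set G) = layerOf (⊤ : Subgroup G) := by
  have := layerOf_top_normal (G := G)
  apply le_antisymm
  · exact Subgroup.normalClosure_le_normal (Set.singleton_subset_iff.2 (h.z_mem_layer hO))
  · apply sSup_le
    intro L hL
    have hMsn : SN (Subgroup.normalClosure ({z} : Set G)) ⊤ := by
      apply SN.of_normal le_top
      rw [Subgroup.normalizer_eq_top]
    rcases comp_le_or_comm hL.1 hL.2 hMsn with h1 | h1
    · exact h1
    · exfalso
      apply h.no_comp_in_cent hL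
      have h2 : Subgroup.normalClosure ({z} : Set G) ≤ Subgroup.centralizer (L : Set G) :=
        le_centralizer_of_comm_eq_bot h1
      intro l hl
      rw [Subgroup.mem_centralizer_singleton_iff]
      have := h2 (Subgroup.subset_normalClosure (Set.mem_singleton z))
      rw [Subgroup.mem_centralizer_iff] at this
      exact this l hl

end Cfsg.Agent.helper7
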