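import Mathlib
import Cfsg.Agent.Lib_helper7_LX4

set_option autoImplicit false
open Cfsg
open scoped commutatorElement Pointwise

/-! Large extraspecial 2-subgroups: components when `O_2(G) = 1` (helper7). -/

namespace Cfsg.Agent.helper7

variable {G : Type*} [Group G]

theorem LX.comp_center_bot [Finite G] {Q : Subgroup G} {z : G} (h : LX Q z)
    (hO : piCoreIn {2} (⊤ : Subgroup G) = ⊥) {L : Subgroup G} (hL : Comp L ⊤) :
    L ⊓ Subgroup.centralizer (L : Set G) = ⊥ := by
  obtain ⟨Z, hZ⟩ : ∃ Z, Z = L ⊓ Subgroup.centralizer (L : Set G) := ⟨_, rfl⟩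
  rw [← hZ]
  have hZL : Z ≤ L := by rw [hZ]; exact inf_le_left
  have hn : L ≤ Subgroup.normalizer (Z : Set G) := by
    intro l hl
    rw [hZ]
    exact Subgroup.inf_normalizer_le_normalizer_inf
      ⟨Subgroup.le_normalizer hl, normalizer_le_normalizer_centralizer L (Subgroup.le_normalizer hl)⟩
  have hsn : SN Z ⊤ := (SN.of_normal hZL hn).trans hL.1
  have hcomm : ∀ a b : ↥Z, a * b = b * a := by
    intro a b
    apply Subtype.ext
    have ha : (a : G) ∈ L ⊓ Subgroup.centralizer (L : Set G) := hZ ▸ a.2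
    have hb : (b : G) ∈ L ⊓ Subgroup.centralizer (L : Set G) := hZ ▸ b.2
    rw [Subgroup.mem_inf] at ha hb
    have := hb.2
    rw [Subgroup.mem_centralizer_iff] at this
    exact this a ha.1
  have hnil : Group.IsNilpotent ↥Z := by
    letI : CommGroup ↥Z := { (inferInstance : Group ↥Z) with mul_comm := hcomm }
    exact CommGroup.isNilpotent
  have := nilpotent_sn_le_fitOf hsn hnil
  rw [h.fit_bot hO] at this
  exact le_bot_iff.1 this

theorem simple_of_qs {L : Subgroup G} (hqs : QS L)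
    (hz : L ⊓ Subgroup.centralizer (L : Set G) = ⊥) : IsSimpleGroup ↥L := by
  haveI : Nontrivial ↥L := (Subgroup.nontrivial_iff_ne_bot L).2 hqs.2.1
  refine ⟨fun N' hN' => ?_⟩
  have hNL : N'.map L.subtype ≤ L := Subgroup.map_subtype_le N'
  have hn : L ≤ Subgroup.normalizer ((N'.map L.subtype : Subgroup G) : Set G) := by
    rw [Subgroup.le_normalizer_iff]
    rintro k hk _ ⟨n, hn, rfl⟩
    exact ⟨⟨k, hk⟩ * n * ⟨k, hk⟩⁻¹, hN'.conj_mem n hn ⟨k, hk⟩, by simp⟩
  rcases hqs.2.2 _ hNL hn with h1 | h1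
  · right
    rw [eq_top_iff]
    intro x _
    have : (x : G) ∈ N'.map L.subtype := by rw [h1]; exact x.2
    obtain ⟨y, hy, hyx⟩ := this
    have : y = x := Subtype.ext hyx
    rw [← this]; exact hy
  · left
    rw [eq_bot_iff]
    intro x hx
    have h2 : (x : G) ∈ L ⊓ Subgroup.centralizer (L : Set G) := by
      rw [Subgroup.mem_inf]
      exact ⟨x.2, h1 ⟨x, hx, rfl⟩⟩
    rw [hz, Subgroup.mem_bot] at h2
    rw [Subgroup.mem_bot]
    exact Subtype.ext h2

theorem not_comm_of_qs {L : Subgroup G} (hqs : QS L) : ¬ IsMulCommutative ↥L := by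
  intro hc
  apply hqs.not_abelian
  intro a ha
  rw [Subgroup.mem_centralizer_iff]
  intro b hb
  have := hc.is_comm.comm (⟨b, hb⟩ : ↥L) ⟨a, ha⟩
  exact congrArg Subtype.val this

theorem le_centralizer_singleton_of_mem {L : Subgroup G} {z : G}
    (hz : z ∈ Subgroup.centralizer (L : Set G)) : L ≤ Subgroup.centralizer ({z} : Set G) := by
  intro l hl
  rw [Subgroup.mem_centralizer_singleton_iff]
  rw [Subgroup.mem_centralizer_iff] at hz
  exact hz l hl

theorem LX.layer_eq_of_normalized [Finite G] {Q : Subgroup G} {z : G} (h : LX Q z)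
    {L : Subgroup G} (hL : Comp L ⊤)
    (hQL : Q ≤ Subgroup.normalizer (L : Set G)) : layerOf (⊤ : Subgroup G) = L := by
  have hzL : z ∈ L := h.z_mem_of_normalized hL.2.2.1 hQL
  apply le_antisymm
  · apply sSup_le
    intro L' hL'
    by_cases hne : L' = L
    · rw [hne]
    · exfalso
      apply h.no_comp_in_cent hL'
      apply le_centralizer_singleton_of_mem
      have hc : ⁅L', L⁆ = ⊥ := hL'.comm_of_ne hL hne
      exact le_centralizer_of_comm_eq_bot hc hzL
  · exact comp_le_layerOf hL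

theorem LX.transitive [Finite G] {Q : Subgroup G} {z : G} (h : LX Q z)
    {L L' : Subgroup G} (hL : Comp L ⊤) (hL' : Comp L' ⊤) : ∃ v ∈ Q, L' = cj v L := by
  by_contra hcon
  push Not at hcon
  obtain ⟨O, hO⟩ : ∃ O, O = ⨆ v : ↥Q, cj (v : G) L := ⟨_, rfl⟩
  have hLO : L ≤ O := by
    rw [hO]
    have := le_iSup (fun v : ↥Q => cj (v : G) L) 1
    simpa [cj_one] using this
  have hOne : O ≠ ⊥ := by
    intro hb
    rw [hb] at hLO
    exact hL.2.2.1 (le_bot_iff.1 hLO)
  have hQO : Q ≤ Subgroup.normalizer (O : Set G) := by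
    apply le_normalizer_of_cj_le
    intro q hq
    rw [hO]
    unfold cj
    rw [Subgroup.map_iSup]
    apply iSup_le
    intro v
    have e : (cj (v : G) L).map (MulAut.conj q).toMonoidHom = cj ((⟨q, hq⟩ * v : ↥Q) : G) L := by
      show cj q (cj (v : G) L) = _
      rw [cj_cj]
      rfl
    show (cj (v : G) L).map (MulAut.conj q).toMonoidHom ≤ _
    rw [e]
    exact le_iSup (fun v : ↥Q => cj (v : G) L) (⟨q, hq⟩ * v)
  have hzO : z ∈ O := h.z_mem_of_normalized hOne hQO
  apply h.no_comp_in_cent hL'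
  apply le_centralizer_singleton_of_mem
  have hOc : O ≤ Subgroup.centralizer (L' : Set G) := by
    rw [hO]
    apply iSup_le
    intro v
    have hne : L' ≠ cj (v : G) L := hcon v v.2
    have hc : ⁅L', cj (v : G) L⁆ = ⊥ := hL'.comm_of_ne (hL.conj_top_lx v) hne
    exact le_centralizer_of_comm_eq_bot hc
  exact hOc hzO

theorem layer_le_sup_centralizer [Finite G] {L : Subgroup G} (hL : Comp L ⊤) :
    layerOf (⊤ : Subgroup G) ≤
      L ⊔ (layerOf (⊤ : Subgroup G) ⊓ Subgroup.centralizer (L : Set G)) := by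
  apply sSup_le
  intro L' hL'
  by_cases hne : L' = L
  · rw [hne]; exact le_sup_left
  · refine le_trans ?_ le_sup_right
    refine le_inf (comp_le_layerOf hL') ?_
    have hc : ⁅L, L'⁆ = ⊥ := hL.comm_of_ne hL' (Ne.symm hne)
    exact le_centralizer_of_comm_eq_bot hc

/-- The `L`-component of `z`. -/
theorem LX.exists_dec_z [Finite G] {Q : Subgroup G} {z : G} (h : LX Q z)
    (hO : piCoreIn {2} (⊤ : Subgroup G) = ⊥) {L : Subgroup G} (hL : Comp L ⊤) :
    ∃ z₁ ∈ L, ∃ w ∈ Subgroup.centralizer (L : Set G), z = z₁ * w ∧ z₁ ≠ 1 ∧ z₁ * z₁ = 1 := by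
  obtain ⟨z₁, hz₁, w, hw, hzw⟩ := exists_dec (comp_le_layerOf hL) hL.layerOf_le_normalizer
    (layer_le_sup_centralizer hL) (h.z_mem_layer hO)
  rw [Subgroup.mem_inf] at hw
  refine ⟨z₁, hz₁, w, hw.2, hzw, ?_, ?_⟩
  · intro h1
    apply h.no_comp_in_cent hL
    apply le_centralizer_singleton_of_mem
    rw [hzw, h1, one_mul]
    exact hw.2
  · have hwc := hw.2
    rw [Subgroup.mem_centralizer_iff] at hwc
    have h2 : (z₁ * z₁) * (w * w) = 1 * 1 := by
      have : z₁ * z₁ * (w * w) = (z₁ * w) * (z₁ * w) := by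
        have e := hwc z₁ hz₁
        calc z₁ * z₁ * (w * w) = z₁ * (z₁ * w) * w := by group
          _ = z₁ * (w * z₁) * w := by rw [e]
          _ = (z₁ * w) * (z₁ * w) := by group
      rw [this, ← hzw, h.z2, one_mul]
    exact (dec_unique (h.comp_center_bot hO hL) (L.mul_mem hz₁ hz₁) L.one_mem
      (Subgroup.mul_mem _ hw.2 hw.2) (Subgroup.one_mem _) h2).1

end Cfsg.Agent.helper7
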