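import Mathlib
import Cfsg.Agent.Lib_helper7_LX5
import Cfsg.Agent.Lib_helper19_N21a

set_option autoImplicit false
open Cfsg
open scoped commutatorElement Pointwise

/-! Large extraspecial 2-subgroups: a component moved by `Q` (helper7). -/

namespace Cfsg.Agent.helper7

variable {G : Type*} [Group G]

/-- A finite simple non-commutative group has no self-centralizing involution. -/
theorem false_of_self_centralizing_invol {H : Type*} [Group H] [Finite H] [IsSimpleGroup H]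
    (hH : ¬ IsMulCommutative H) (t : H) (ht1 : t ≠ 1) (ht2 : t * t = 1)
    (hc : ∀ x : H, x * t = t * x → x = 1 ∨ x = t) : False := by
  haveI : Fact (Nat.Prime 2) := ⟨Nat.prime_two⟩
  have hord : orderOf t = 2 := by
    apply orderOf_eq_prime
    · rw [pow_two]; exact ht2
    · exact ht1
  have hcardz : Nat.card (Subgroup.zpowers t) = 2 ^ 1 := by
    rw [Nat.card_zpowers, hord, pow_one]
  have h2 : 2 ∣ Nat.card H := by
    rw [← hord]; exact orderOf_dvd_natCard t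
  have h4 : ¬ 2 ^ (1 + 1) ∣ Nat.card H := by
    intro hdvd
    obtain ⟨K, hK, hle⟩ := Sylow.exists_subgroup_card_pow_succ hdvd hcardz
    have hKc : IsMulCommutative ↥K := IsPGroup.isMulCommutative_of_card_eq_prime_sq (p := 2) hK
    have hKle : K ≤ Subgroup.zpowers t := by
      intro k hk
      have htK : t ∈ K := hle (Subgroup.mem_zpowers t)
      have := hKc.is_comm.comm (⟨k, hk⟩ : ↥K) ⟨t, htK⟩
      have h3 : k * t = t * k := congrArg Subtype.val this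
      rcases hc k h3 with h5 | h5
      · rw [h5]; exact Subgroup.one_mem _
      · rw [h5]; exact Subgroup.mem_zpowers t
    have := Subgroup.card_le_of_le hKle
    rw [hK, hcardz] at this
    omega
  have hidx : (⊥ : Subgroup H).index % 4 = 2 := by
    rw [Subgroup.index_bot]
    have h4' : ¬ 4 ∣ Nat.card H := h4
    omega
  obtain ⟨U, hU, hUi⟩ := Cfsg.Agent.helper19.N21.exists_index_two_of_coset_invol
    (⊥ : Subgroup H) t (by rw [pow_two]; exact ht2) hidx (by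
      intro g hg
      rw [Subgroup.mem_bot] at hg
      apply ht1
      calc t = g * (g⁻¹ * t * g) * g⁻¹ := by group
        _ = 1 := by rw [hg]; group)
  rcases hU.eq_bot_or_eq_top with hb | hb
  · subst hb
    rw [Subgroup.index_bot] at hUi
    haveI : IsCyclic H := isCyclic_of_prime_card hUi
    exact hH IsCyclic.commutative
  · subst hb
    rw [Subgroup.index_top] at hUi
    omega

theorem Comp.le_centralizer_of_ne [Finite G] {L L' : Subgroup G} (hL : Comp L ⊤)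
    (hL' : Comp L' ⊤) (hne : L' ≠ L) : L' ≤ Subgroup.centralizer (L : Set G) :=
  le_centralizer_of_comm_eq_bot (hL.comm_of_ne hL' (Ne.symm hne))

theorem comm_prod {a a' b b' : G} (h1 : Commute a b) (h2 : Commute a b') (h3 : Commute a' b)
    (h4 : Commute a' b') :
    (a * b) * (a' * b') * (a * b)⁻¹ * (a' * b')⁻¹ =
      (a * a' * a⁻¹ * a'⁻¹) * (b * b' * b⁻¹ * b'⁻¹) := by
  have e1 : (a * b) * (a' * b') = (a * a') * (b * b') := h3.symm.mul_mul_mul_comm a b'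
  have e2 : (a * b)⁻¹ = a⁻¹ * b⁻¹ := by rw [mul_inv_rev]; exact (h1.inv_inv).symm.eq
  have e3 : (a' * b')⁻¹ = a'⁻¹ * b'⁻¹ := by rw [mul_inv_rev]; exact (h4.inv_inv).symm.eq
  have e4 : (a⁻¹ * b⁻¹) * (a'⁻¹ * b'⁻¹) = (a⁻¹ * a'⁻¹) * (b⁻¹ * b'⁻¹) :=
    (h3.symm.inv_inv).mul_mul_mul_comm a⁻¹ b'⁻¹
  have hc : Commute (b * b') (a⁻¹ * a'⁻¹) := by
    apply Commute.mul_left
    · exact Commute.mul_right h1.symm.inv_right h3.symm.inv_right
    · exact Commute.mul_right h2.symm.inv_right h4.symm.inv_right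
  have e5 : ((a * a') * (b * b')) * ((a⁻¹ * a'⁻¹) * (b⁻¹ * b'⁻¹)) =
      ((a * a') * (a⁻¹ * a'⁻¹)) * ((b * b') * (b⁻¹ * b'⁻¹)) := hc.mul_mul_mul_comm _ _
  calc (a * b) * (a' * b') * (a * b)⁻¹ * (a' * b')⁻¹
      = ((a * b) * (a' * b')) * ((a * b)⁻¹ * (a' * b')⁻¹) := by group
    _ = ((a * a') * (b * b')) * ((a⁻¹ * a'⁻¹) * (b⁻¹ * b'⁻¹)) := by rw [e1, e2, e3, e4]
    _ = ((a * a') * (a⁻¹ * a'⁻¹)) * ((b * b') * (b⁻¹ * b'⁻¹)) := e5
    _ = (a * a' * a⁻¹ * a'⁻¹) * (b * b' * b⁻¹ * b'⁻¹) := by group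

/-- The decomposition data of `z` with respect to a component `L`. -/
structure ZDec (L : Subgroup G) (z z₁ w : G) : Prop where
  z₁L : z₁ ∈ L
  wC : w ∈ Subgroup.centralizer (L : Set G)
  eq : z = z₁ * w
  ne : z₁ ≠ 1
  sq : z₁ * z₁ = 1

theorem LX.exists_zdec [Finite G] {Q : Subgroup G} {z : G} (h : LX Q z)
    (hO : piCoreIn {2} (⊤ : Subgroup G) = ⊥) {L : Subgroup G} (hL : Comp L ⊤) :
    ∃ z₁ w, ZDec L z z₁ w := by
  obtain ⟨z₁, h1, w, h2, h3, h4, h5⟩ := h.exists_dec_z hO hL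
  exact ⟨z₁, w, h1, h2, h3, h4, h5⟩

theorem ZDec.comm_z {L : Subgroup G} {z z₁ w x : G} (hd : ZDec L z z₁ w) (hx : x ∈ L)
    (hxz : x * z₁ = z₁ * x) : x * z = z * x := by
  have hw := hd.wC
  rw [Subgroup.mem_centralizer_iff] at hw
  have e := hw x hx
  rw [hd.eq]
  calc x * (z₁ * w) = (x * z₁) * w := by group
    _ = (z₁ * x) * w := by rw [hxz]
    _ = z₁ * (x * w) := by group
    _ = z₁ * (w * x) := by rw [e]
    _ = z₁ * w * x := by group

theorem ZDec.comm_z₁ {L : Subgroup G} {z z₁ w x : G} (hd : ZDec L z z₁ w) (hx : x ∈ L)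
    (hxz : x * z = z * x) : x * z₁ = z₁ * x := by
  have hw := hd.wC
  rw [Subgroup.mem_centralizer_iff] at hw
  have e := hw x hx
  rw [hd.eq] at hxz
  have : x * z₁ * w = z₁ * x * w := by
    calc x * z₁ * w = x * (z₁ * w) := by group
      _ = z₁ * w * x := hxz
      _ = z₁ * (w * x) := by group
      _ = z₁ * (x * w) := by rw [e]
      _ = z₁ * x * w := by group
  exact mul_right_cancel this

/-- For `x ∈ C_L(z₁)` and `u ∈ Q`, the commutator `[x, u]` lies in `Q`. -/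
theorem LX.dx_mem {Q : Subgroup G} {z : G} (h : LX Q z) {L : Subgroup G} {z₁ w : G}
    (hd : ZDec L z z₁ w) {u : G} (hu : u ∈ Q) {x : G} (hx : x ∈ L) (hxz : x * z₁ = z₁ * x) :
    x * (u * x⁻¹ * u⁻¹) ∈ Q := by
  have h1 : x ∈ Subgroup.normalizer (Q : Set G) := h.nor x (hd.comm_z hx hxz)
  rw [Subgroup.mem_normalizer_iff] at h1
  have h2 : x * u * x⁻¹ ∈ Q := (h1 u).1 hu
  have : x * (u * x⁻¹ * u⁻¹) = (x * u * x⁻¹) * u⁻¹ := by group
  rw [this]
  exact Q.mul_mem h2 (Q.inv_mem hu)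

/-- With three distinct conjugates of `L` under `Q`, `C_L(z₁) = ⟨z₁⟩`. -/
theorem LX.cent_small_of_three [Finite G] {Q : Subgroup G} {z : G} (h : LX Q z)
    (hO : piCoreIn {2} (⊤ : Subgroup G) = ⊥) {L : Subgroup G} (hL : Comp L ⊤) {z₁ w : G}
    (hd : ZDec L z z₁ w) {u v : G} (hu : u ∈ Q) (hv : v ∈ Q) (h1 : cj u L ≠ L)
    (h2 : cj v L ≠ L) (h3 : cj (v * u) L ≠ L) {x : G} (hx : x ∈ L) (hxz : x * z₁ = z₁ * x) :
    x = 1 ∨ x = z₁ := by
  have hdQ := h.dx_mem hd hu hx hxz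
  obtain ⟨y, hy⟩ : ∃ y, y = u * x⁻¹ * u⁻¹ := ⟨_, rfl⟩
  rw [← hy] at hdQ
  have hyL : y ∈ cj u L := by rw [hy]; exact cj_mem_cj (L.inv_mem hx)
  have hcu := hL.le_centralizer_of_ne (hL.conj_top_lx u) h1
  have hcv := hL.le_centralizer_of_ne (hL.conj_top_lx v) h2
  have hcvu := hL.le_centralizer_of_ne (hL.conj_top_lx (v * u)) h3
  obtain ⟨c, hc⟩ : ∃ c, c = y * (v * y⁻¹ * v⁻¹) * (v * x⁻¹ * v⁻¹) := ⟨_, rfl⟩
  have hcC : c ∈ Subgroup.centralizer (L : Set G) := by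
    rw [hc]
    refine Subgroup.mul_mem _ (Subgroup.mul_mem _ (hcu hyL) ?_) ?_
    · apply hcvu
      rw [← cj_cj]
      exact cj_mem_cj (Subgroup.inv_mem _ hyL)
    · apply hcv
      exact cj_mem_cj (L.inv_mem hx)
  have hcomm : (x * y) * v * (x * y)⁻¹ * v⁻¹ = x * c := by rw [hc]; group
  have hzc := h.comp_center_bot hO hL
  rcases h.comm _ hdQ v hv with h5 | h5
  · left
    rw [hcomm] at h5
    have : x * c = 1 * 1 := by rw [h5, one_mul]
    exact (dec_unique hzc hx L.one_mem hcC (Subgroup.one_mem _) this).1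
  · right
    rw [hcomm, hd.eq] at h5
    exact (dec_unique hzc hx hd.z₁L hcC hd.wC h5).1

/-- Squares and commutators in `C_L(z₁)` lie in `⟨z₁⟩`, when `Q` moves `L`. -/
theorem LX.sq_of_moved [Finite G] {Q : Subgroup G} {z : G} (h : LX Q z)
    (hO : piCoreIn {2} (⊤ : Subgroup G) = ⊥) {L : Subgroup G} (hL : Comp L ⊤) {z₁ w : G}
    (hd : ZDec L z z₁ w) {u : G} (hu : u ∈ Q) (h1 : cj u L ≠ L)
    {x : G} (hx : x ∈ L) (hxz : x * z₁ = z₁ * x) : x * x = 1 ∨ x * x = z₁ := by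
  have hdQ := h.dx_mem hd hu hx hxz
  obtain ⟨y, hy⟩ : ∃ y, y = u * x⁻¹ * u⁻¹ := ⟨_, rfl⟩
  rw [← hy] at hdQ
  have hyL : y ∈ cj u L := by rw [hy]; exact cj_mem_cj (L.inv_mem hx)
  have hcu := hL.le_centralizer_of_ne (hL.conj_top_lx u) h1
  have hyC := hcu hyL
  have hxy : Commute x y := by
    have := hyC
    rw [Subgroup.mem_centralizer_iff] at this
    exact this x hx
  have e : (x * y) * (x * y) = (x * x) * (y * y) := hxy.symm.mul_mul_mul_comm x y
  have hzc := h.comp_center_bot hO hL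
  rcases h.sq _ hdQ with h5 | h5
  · left
    rw [e] at h5
    have : (x * x) * (y * y) = 1 * 1 := by rw [h5, one_mul]
    exact (dec_unique hzc (L.mul_mem hx hx) L.one_mem (Subgroup.mul_mem _ hyC hyC)
      (Subgroup.one_mem _) this).1
  · right
    rw [e, hd.eq] at h5
    exact (dec_unique hzc (L.mul_mem hx hx) hd.z₁L (Subgroup.mul_mem _ hyC hyC) hd.wC h5).1

theorem LX.comm_of_moved [Finite G] {Q : Subgroup G} {z : G} (h : LX Q z)
    (hO : piCoreIn {2} (⊤ : Subgroup G) = ⊥) {L : Subgroup G} (hL : Comp L ⊤) {z₁ w : G}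
    (hd : ZDec L z z₁ w) {u : G} (hu : u ∈ Q) (h1 : cj u L ≠ L)
    {x x' : G} (hx : x ∈ L) (hxz : x * z₁ = z₁ * x) (hx' : x' ∈ L) (hxz' : x' * z₁ = z₁ * x') :
    x * x' * x⁻¹ * x'⁻¹ = 1 ∨ x * x' * x⁻¹ * x'⁻¹ = z₁ := by
  have hdQ := h.dx_mem hd hu hx hxz
  have hdQ' := h.dx_mem hd hu hx' hxz'
  obtain ⟨y, hy⟩ : ∃ y, y = u * x⁻¹ * u⁻¹ := ⟨_, rfl⟩
  obtain ⟨y', hy'⟩ : ∃ y', y' = u * x'⁻¹ * u⁻¹ := ⟨_, rfl⟩
  rw [← hy] at hdQ
  rw [← hy'] at hdQ'
  have hyL : y ∈ cj u L := by rw [hy]; exact cj_mem_cj (L.inv_mem hx)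
  have hyL' : y' ∈ cj u L := by rw [hy']; exact cj_mem_cj (L.inv_mem hx')
  have hcu := hL.le_centralizer_of_ne (hL.conj_top_lx u) h1
  have hyC := hcu hyL
  have hyC' := hcu hyL'
  have hcm : ∀ a ∈ L, ∀ b ∈ Subgroup.centralizer (L : Set G), Commute a b := by
    intro a ha b hb
    rw [Subgroup.mem_centralizer_iff] at hb
    exact hb a ha
  have e := comm_prod (hcm x hx y hyC) (hcm x hx y' hyC') (hcm x' hx' y hyC) (hcm x' hx' y' hyC')
  have hcL : x * x' * x⁻¹ * x'⁻¹ ∈ L :=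
    L.mul_mem (L.mul_mem (L.mul_mem hx hx') (L.inv_mem hx)) (L.inv_mem hx')
  have hcC : y * y' * y⁻¹ * y'⁻¹ ∈ Subgroup.centralizer (L : Set G) :=
    Subgroup.mul_mem _ (Subgroup.mul_mem _ (Subgroup.mul_mem _ hyC hyC') (Subgroup.inv_mem _ hyC))
      (Subgroup.inv_mem _ hyC')
  have hzc := h.comp_center_bot hO hL
  rcases h.comm _ hdQ _ hdQ' with h5 | h5
  · left
    rw [e] at h5
    have : (x * x' * x⁻¹ * x'⁻¹) * (y * y' * y⁻¹ * y'⁻¹) = 1 * 1 := by rw [h5, one_mul]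
    exact (dec_unique hzc hcL L.one_mem hcC (Subgroup.one_mem _) this).1
  · right
    rw [e, hd.eq] at h5
    exact (dec_unique hzc hcL hd.z₁L hcC hd.wC h5).1

end Cfsg.Agent.helper7
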