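import Mathlib
import Cfsg.Agent.Lib_helper7_LX6

set_option autoImplicit false
open Cfsg
open scoped commutatorElement Pointwise

/-! Large extraspecial 2-subgroups: exactly two components when `Q` moves one (helper7). -/

namespace Cfsg.Agent.helper7

variable {G : Type*} [Group G]

theorem cj_inv_eq_of_sq {v : G} {L : Subgroup G} (h : cj (v * v) L = L) : cj v⁻¹ L = cj v L := by
  have : cj v⁻¹ (cj (v * v) L) = cj v L := by
    rw [cj_cj]
    have : v⁻¹ * (v * v) = v := by group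
    rw [this]
  rwa [h] at this

theorem LX.cj_sq_eq [Finite G] {Q : Subgroup G} {z : G} (h : LX Q z)
    (hO : piCoreIn {2} (⊤ : Subgroup G) = ⊥) {L : Subgroup G} (hL : Comp L ⊤) {v : G}
    (hv : v ∈ Q) : cj (v * v) L = L := by
  rcases h.sq v hv with h1 | h1
  · rw [h1, cj_one]
  · rw [h1]
    exact cj_eq_of_mem_normalizer (hL.layerOf_le_normalizer (h.z_mem_layer hO))

theorem LX.two_components [Finite G] {Q : Subgroup G} {z : G} (h : LX Q z)
    (hO : piCoreIn {2} (⊤ : Subgroup G) = ⊥) {L : Subgroup G} (hL : Comp L ⊤) {u : G}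
    (hu : u ∈ Q) (h1 : cj u L ≠ L) {L' : Subgroup G} (hL' : Comp L' ⊤) :
    L' = L ∨ L' = cj u L := by
  by_contra hcon
  push Not at hcon
  obtain ⟨hne1, hne2⟩ := hcon
  obtain ⟨v, hv, hLv⟩ := h.transitive hL hL'
  have h2 : cj v L ≠ L := by rw [← hLv]; exact hne1
  have h3 : cj (v * u) L ≠ L := by
    intro h4
    apply hne2
    rw [← cj_cj] at h4
    have h5 : cj u L = cj v⁻¹ L := by
      have := congrArg (cj v⁻¹) h4
      rwa [cj_inv_cj] at this
    rw [h5, cj_inv_eq_of_sq (h.cj_sq_eq hO hL hv), hLv]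
  obtain ⟨z₁, w, hd⟩ := h.exists_zdec hO hL
  haveI := simple_of_qs hL.2 (h.comp_center_bot hO hL)
  apply false_of_self_centralizing_invol (H := ↥L) (not_comm_of_qs hL.2) ⟨z₁, hd.z₁L⟩
  · intro h4
    apply hd.ne
    exact congrArg Subtype.val h4
  · apply Subtype.ext
    exact hd.sq
  · intro x hx
    have hx' : (x : G) * z₁ = z₁ * (x : G) := congrArg Subtype.val hx
    rcases h.cent_small_of_three hO hL hd hu hv h1 h2 h3 x.2 hx' with h4 | h4
    · left; exact Subtype.ext h4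
    · right; exact Subtype.ext h4

theorem LX.layer_eq_sup [Finite G] {Q : Subgroup G} {z : G} (h : LX Q z)
    (hO : piCoreIn {2} (⊤ : Subgroup G) = ⊥) {L : Subgroup G} (hL : Comp L ⊤) {u : G}
    (hu : u ∈ Q) (h1 : cj u L ≠ L) : layerOf (⊤ : Subgroup G) = L ⊔ cj u L := by
  apply le_antisymm
  · apply sSup_le
    intro L' hL'
    rcases h.two_components hO hL hu h1 hL' with h2 | h2
    · rw [h2]; exact le_sup_left
    · rw [h2]; exact le_sup_right
  · exact sup_le (comp_le_layerOf hL) (comp_le_layerOf (hL.conj_top_lx u))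

/-- Elements of `L ⊔ L₂` centralizing `L` lie in `L₂`. -/
theorem LX.layer_inf_centralizer_le [Finite G] {Q : Subgroup G} {z : G} (h : LX Q z)
    (hO : piCoreIn {2} (⊤ : Subgroup G) = ⊥) {L : Subgroup G} (hL : Comp L ⊤) {u : G}
    (hu : u ∈ Q) (h1 : cj u L ≠ L) :
    layerOf (⊤ : Subgroup G) ⊓ Subgroup.centralizer (L : Set G) ≤ cj u L := by
  intro e he
  rw [Subgroup.mem_inf] at he
  obtain ⟨heE, heC⟩ := he
  rw [h.layer_eq_sup hO hL hu h1, sup_comm] at heE
  have hcu := hL.le_centralizer_of_ne (hL.conj_top_lx u) h1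
  have hn : cj u L ≤ Subgroup.normalizer (L : Set G) :=
    hcu.trans (Subgroup.centralizer_le_normalizer _)
  have h2 : e ∈ ((cj u L : Subgroup G) : Set G) * (L : Set G) := by
    rw [← Subgroup.coe_mul_of_left_le_normalizer_right _ _ hn]
    exact heE
  obtain ⟨b, hb, a, ha, hab⟩ := h2
  have hb' : b ∈ cj u L := hb
  have ha' : a ∈ L := ha
  have hab' : b * a = e := hab
  have haC : a ∈ L ⊓ Subgroup.centralizer (L : Set G) := by
    rw [Subgroup.mem_inf]
    refine ⟨ha', ?_⟩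
    have : a = b⁻¹ * e := by rw [← hab']; group
    rw [this]
    exact Subgroup.mul_mem _ (Subgroup.inv_mem _ (hcu hb')) heC
  rw [h.comp_center_bot hO hL, Subgroup.mem_bot] at haC
  rw [← hab', haC, mul_one]
  exact hb'

theorem LX.w_eq [Finite G] {Q : Subgroup G} {z : G} (h : LX Q z)
    (hO : piCoreIn {2} (⊤ : Subgroup G) = ⊥) {L : Subgroup G} (hL : Comp L ⊤) {u : G}
    (hu : u ∈ Q) (h1 : cj u L ≠ L) {z₁ w : G} (hd : ZDec L z z₁ w) : w = u * z₁ * u⁻¹ := by
  have hwE : w ∈ layerOf (⊤ : Subgroup G) := by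
    have : w = z₁⁻¹ * z := by rw [hd.eq]; group
    rw [this]
    exact Subgroup.mul_mem _ (Subgroup.inv_mem _ (comp_le_layerOf hL hd.z₁L)) (h.z_mem_layer hO)
  have hwL₂ : w ∈ cj u L := h.layer_inf_centralizer_le hO hL hu h1 (Subgroup.mem_inf.2 ⟨hwE, hd.wC⟩)
  have hw' : u⁻¹ * w * u ∈ L := mem_cj.1 hwL₂
  have hcu := hL.le_centralizer_of_ne (hL.conj_top_lx u) h1
  have hz' : u⁻¹ * z₁ * u ∈ cj u L := by
    rw [← cj_inv_eq_of_sq (h.cj_sq_eq hO hL hu)]
    have := cj_mem_cj (g := u⁻¹) hd.z₁L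
    rwa [inv_inv] at this
  have hz'C := hcu hz'
  have hzu : u⁻¹ * z * u = z := by
    have := h.zc u hu
    calc u⁻¹ * z * u = u⁻¹ * (z * u) := by group
      _ = u⁻¹ * (u * z) := by rw [this]
      _ = z := by group
  have hcomm : Commute (u⁻¹ * w * u) (u⁻¹ * z₁ * u) := by
    have := hz'C
    rw [Subgroup.mem_centralizer_iff] at this
    exact this _ hw'
  have e : z₁ * w = (u⁻¹ * w * u) * (u⁻¹ * z₁ * u) := by
    rw [hcomm.eq, ← hd.eq]
    calc z = u⁻¹ * z * u := hzu.symm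
      _ = u⁻¹ * (z₁ * w) * u := by rw [← hd.eq]
      _ = u⁻¹ * z₁ * u * (u⁻¹ * w * u) := by group
  have := (dec_unique (h.comp_center_bot hO hL) hd.z₁L hw' hd.wC hz'C e).1
  rw [this]; group

end Cfsg.Agent.helper7
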