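import Mathlib
import Cfsg.Agent.Lib_helper7_LX7
import Cfsg.Agent.Lib_helper19_Sylow

set_option autoImplicit false
open Cfsg
open scoped commutatorElement Pointwise

/-! Large extraspecial 2-subgroups: the centralizer of `z` in the layer, two components (helper7). -/

namespace Cfsg.Agent.helper7

variable {G : Type*} [Group G]

theorem center_ne_bot_of_pgroup [Finite G] {p : ℕ} [Fact p.Prime] {R : Subgroup G}
    (hRp : IsPGroup p R) (hne : R ≠ ⊥) : R ⊓ Subgroup.centralizer (R : Set G) ≠ ⊥ := by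
  haveI : Nontrivial ↥R := (Subgroup.nontrivial_iff_ne_bot R).2 hne
  have hc := hRp.center_nontrivial
  obtain ⟨c, hc1⟩ := exists_ne (1 : ↥(Subgroup.center ↥R))
  intro hb
  apply hc1
  have hcA : ((c : ↥R) : G) ∈ R ⊓ Subgroup.centralizer (R : Set G) := by
    rw [Subgroup.mem_inf]
    refine ⟨(c : ↥R).2, ?_⟩
    rw [Subgroup.mem_centralizer_iff]
    intro r hr
    have := c.2
    rw [Subgroup.mem_center_iff] at this
    have h2 := this ⟨r, hr⟩
    exact congrArg Subtype.val h2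
  rw [hb, Subgroup.mem_bot] at hcA
  apply Subtype.ext
  apply Subtype.ext
  exact hcA

/-- The second component and its decomposition data. -/
theorem LX.zdec_second [Finite G] {Q : Subgroup G} {z : G} (h : LX Q z)
    (hO : piCoreIn {2} (⊤ : Subgroup G) = ⊥) {L : Subgroup G} (hL : Comp L ⊤) {u : G}
    (hu : u ∈ Q) (h1 : cj u L ≠ L) {z₁ w : G} (hd : ZDec L z z₁ w) :
    ZDec (cj u L) z w z₁ := by
  have hcu := hL.le_centralizer_of_ne (hL.conj_top_lx u) h1
  have hw := h.w_eq hO hL hu h1 hd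
  have hwL : w ∈ cj u L := by rw [hw]; exact cj_mem_cj hd.z₁L
  have hz₁C : z₁ ∈ Subgroup.centralizer ((cj u L : Subgroup G) : Set G) := by
    rw [Subgroup.mem_centralizer_iff]
    intro y hy
    have := hcu hy
    rw [Subgroup.mem_centralizer_iff] at this
    exact (this z₁ hd.z₁L).symm
  have hcomm : z₁ * w = w * z₁ := by
    have := hd.wC
    rw [Subgroup.mem_centralizer_iff] at this
    exact this z₁ hd.z₁L
  refine ⟨hwL, hz₁C, by rw [hd.eq, hcomm], ?_, ?_⟩
  · intro h2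
    apply hd.ne
    rw [hw] at h2
    calc z₁ = u⁻¹ * (u * z₁ * u⁻¹) * u := by group
      _ = 1 := by rw [h2]; group
  · rw [hw]
    calc u * z₁ * u⁻¹ * (u * z₁ * u⁻¹) = u * (z₁ * z₁) * u⁻¹ := by group
      _ = 1 := by rw [hd.sq]; group

theorem LX.cj_second [Finite G] {Q : Subgroup G} {z : G} (h : LX Q z)
    (hO : piCoreIn {2} (⊤ : Subgroup G) = ⊥) {L : Subgroup G} (hL : Comp L ⊤) {u : G}
    (hu : u ∈ Q) (h1 : cj u L ≠ L) : cj u (cj u L) ≠ cj u L := by
  rw [cj_cj, h.cj_sq_eq hO hL hu]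
  exact Ne.symm h1

/-- Decomposition of the elements of `C_E(z)`. -/
theorem LX.dec_D [Finite G] {Q : Subgroup G} {z : G} (h : LX Q z)
    (hO : piCoreIn {2} (⊤ : Subgroup G) = ⊥) {L : Subgroup G} (hL : Comp L ⊤) {u : G}
    (hu : u ∈ Q) (h1 : cj u L ≠ L) {z₁ w : G} (hd : ZDec L z z₁ w) {e : G}
    (heE : e ∈ layerOf (⊤ : Subgroup G)) (hez : e * z = z * e) :
    ∃ a ∈ L, a * z₁ = z₁ * a ∧ ∃ c ∈ cj u L, c * w = w * c ∧ e = a * c := by
  obtain ⟨a, ha, c, hc, hac⟩ := exists_dec (comp_le_layerOf hL) hL.layerOf_le_normalizer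
    (layer_le_sup_centralizer hL) heE
  have hcL₂ : c ∈ cj u L := h.layer_inf_centralizer_le hO hL hu h1 hc
  have hcC : c ∈ Subgroup.centralizer (L : Set G) := (Subgroup.mem_inf.1 hc).2
  have hcm : ∀ a ∈ L, ∀ b ∈ Subgroup.centralizer (L : Set G), Commute a b := by
    intro a ha b hb
    rw [Subgroup.mem_centralizer_iff] at hb
    exact hb a ha
  have e1 : (a * c) * (z₁ * w) = (a * z₁) * (c * w) :=
    (hcm z₁ hd.z₁L c hcC).symm.mul_mul_mul_comm a w
  have e2 : (z₁ * w) * (a * c) = (z₁ * a) * (w * c) :=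
    (hcm a ha w hd.wC).symm.mul_mul_mul_comm z₁ c
  have e3 : (a * z₁) * (c * w) = (z₁ * a) * (w * c) := by
    rw [← e1, ← e2, ← hac, ← hd.eq]; exact hez
  have := dec_unique (h.comp_center_bot hO hL) (L.mul_mem ha hd.z₁L) (L.mul_mem hd.z₁L ha)
    (Subgroup.mul_mem _ hcC hd.wC) (Subgroup.mul_mem _ hd.wC hcC) e3
  exact ⟨a, ha, this.1, c, hcL₂, this.2, hac⟩

theorem pow_four_of_sq {x t : G} (ht : t * t = 1) (h : x * x = 1 ∨ x * x = t) : x ^ 4 = 1 := by
  have : x ^ 4 = (x * x) * (x * x) := by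
    rw [show (4 : ℕ) = 2 + 2 from rfl, pow_add, pow_two]
  rw [this]
  rcases h with h | h
  · rw [h, one_mul]
  · rw [h, ht]

theorem LX.D_pow_four [Finite G] {Q : Subgroup G} {z : G} (h : LX Q z)
    (hO : piCoreIn {2} (⊤ : Subgroup G) = ⊥) {L : Subgroup G} (hL : Comp L ⊤) {u : G}
    (hu : u ∈ Q) (h1 : cj u L ≠ L) {z₁ w : G} (hd : ZDec L z z₁ w) {e : G}
    (heE : e ∈ layerOf (⊤ : Subgroup G)) (hez : e * z = z * e) : e ^ 4 = 1 := by
  obtain ⟨a, ha, haz, c, hc, hcw, hac⟩ := h.dec_D hO hL hu h1 hd heE hez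
  have hd₂ := h.zdec_second hO hL hu h1 hd
  have ha4 : a ^ 4 = 1 := pow_four_of_sq hd.sq (h.sq_of_moved hO hL hd hu h1 ha haz)
  have hc4 : c ^ 4 = 1 := pow_four_of_sq hd₂.sq
    (h.sq_of_moved hO (hL.conj_top_lx u) hd₂ hu (h.cj_second hO hL hu h1) hc hcw)
  have hcu := hL.le_centralizer_of_ne (hL.conj_top_lx u) h1
  have hcomm : Commute a c := by
    have := hcu hc
    rw [Subgroup.mem_centralizer_iff] at this
    exact this a ha
  rw [hac, hcomm.mul_pow, ha4, hc4, one_mul]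

/-- `C_E(z)` as a subgroup. -/
def cenLayer (z : G) : Subgroup G :=
  layerOf (⊤ : Subgroup G) ⊓ Subgroup.centralizer ({z} : Set G)

theorem mem_cenLayer {z e : G} :
    e ∈ cenLayer z ↔ e ∈ layerOf (⊤ : Subgroup G) ∧ e * z = z * e := by
  unfold cenLayer
  rw [Subgroup.mem_inf, Subgroup.mem_centralizer_singleton_iff]

theorem LX.cenLayer_pgroup [Finite G] {Q : Subgroup G} {z : G} (h : LX Q z)
    (hO : piCoreIn {2} (⊤ : Subgroup G) = ⊥) {L : Subgroup G} (hL : Comp L ⊤) {u : G}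
    (hu : u ∈ Q) (h1 : cj u L ≠ L) : IsPGroup 2 ↥(cenLayer z) := by
  obtain ⟨z₁, w, hd⟩ := h.exists_zdec hO hL
  intro g
  refine ⟨2, ?_⟩
  have hg := mem_cenLayer.1 g.2
  apply Subtype.ext
  have := h.D_pow_four hO hL hu h1 hd hg.1 hg.2
  simpa using this

theorem LX.cenLayer_relIndex [Finite G] {Q : Subgroup G} {z : G} (h : LX Q z)
    (hO : piCoreIn {2} (⊤ : Subgroup G) = ⊥) :
    ¬ 2 ∣ (cenLayer z).relIndex (layerOf (⊤ : Subgroup G)) := by
  haveI : Fact (Nat.Prime 2) := ⟨Nat.prime_two⟩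
  have := layerOf_top_normal (G := G)
  obtain ⟨S, hQS⟩ := h.pg.exists_le_sylow
  obtain ⟨T, hT⟩ : ∃ T, T = (S : Subgroup G) ⊓ layerOf (⊤ : Subgroup G) := ⟨_, rfl⟩
  have hTidx : ¬ 2 ∣ T.relIndex (layerOf (⊤ : Subgroup G)) := by
    rw [hT]; exact Cfsg.Agent.helper19.sylow_inf_normal_not_dvd S _
  have hTne : T ≠ ⊥ := by
    intro hb
    apply hTidx
    rw [hb, Subgroup.relIndex_bot_left]
    by_contra hodd
    apply h.layer_ne_bot hO
    apply h.odd _ _ (le_top.trans (layerOf_normal ⊤))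
    rw [← Nat.not_even_iff_odd, even_iff_two_dvd]
    exact hodd
  have hTp : IsPGroup 2 T := by rw [hT]; exact S.2.to_le inf_le_left
  have hQT : Q ≤ Subgroup.normalizer (T : Set G) := by
    intro q hq
    rw [hT]
    exact Subgroup.inf_normalizer_le_normalizer_inf
      ⟨Subgroup.le_normalizer (hQS hq), layerOf_normal ⊤ (Subgroup.mem_top q)⟩
  have hQZ : Q ≤ Subgroup.normalizer ((T ⊓ Subgroup.centralizer (T : Set G) : Subgroup G) : Set G) := by
    intro q hq
    exact Subgroup.inf_normalizer_le_normalizer_inf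
      ⟨hQT hq, normalizer_le_normalizer_centralizer T (hQT hq)⟩
  have hzZ := h.z_mem_of_normalized (center_ne_bot_of_pgroup hTp hTne) hQZ
  have hTD : T ≤ cenLayer z := by
    intro t ht
    rw [mem_cenLayer]
    refine ⟨?_, ?_⟩
    · rw [hT] at ht; exact (Subgroup.mem_inf.1 ht).2
    · have := (Subgroup.mem_inf.1 hzZ).2
      rw [Subgroup.mem_centralizer_iff] at this
      exact this t ht
  intro hdvd
  exact hTidx (hdvd.trans (Subgroup.relIndex_dvd_of_le_left _ hTD))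

/-- Maximality of `C_E(z)` among the 2-subgroups of the layer. -/
theorem LX.cenLayer_max [Finite G] {Q : Subgroup G} {z : G} (h : LX Q z)
    (hO : piCoreIn {2} (⊤ : Subgroup G) = ⊥) {L : Subgroup G} (hL : Comp L ⊤) {u : G}
    (hu : u ∈ Q) (h1 : cj u L ≠ L) {P : Subgroup G} (hP : IsPGroup 2 P)
    (hDP : cenLayer z ≤ P) (hPE : P ≤ layerOf (⊤ : Subgroup G)) : P ≤ cenLayer z := by
  haveI : Fact (Nat.Prime 2) := ⟨Nat.prime_two⟩
  have hDp : IsPGroup 2 ↥((cenLayer z).subgroupOf (layerOf (⊤ : Subgroup G))) :=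
    IsPGroup.comap_subtype (h.cenLayer_pgroup hO hL hu h1)
  have hidx : ¬ 2 ∣ ((cenLayer z).subgroupOf (layerOf (⊤ : Subgroup G))).index :=
    h.cenLayer_relIndex hO
  have hPp : IsPGroup 2 ↥(P.subgroupOf (layerOf (⊤ : Subgroup G))) := IsPGroup.comap_subtype hP
  have hle : (cenLayer z).subgroupOf (layerOf (⊤ : Subgroup G)) ≤
      P.subgroupOf (layerOf (⊤ : Subgroup G)) := by
    intro x hx
    rw [Subgroup.mem_subgroupOf] at hx ⊢
    exact hDP hx
  have := (hDp.toSylow hidx).is_maximal' hPp hle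
  intro x hx
  have hx' : (⟨x, hPE hx⟩ : ↥(layerOf (⊤ : Subgroup G))) ∈
      P.subgroupOf (layerOf (⊤ : Subgroup G)) := by
    rw [Subgroup.mem_subgroupOf]; exact hx
  rw [this] at hx'
  exact hx'

end Cfsg.Agent.helper7
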