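import Mathlib
import Cfsg.Agent.Lib_helper7_LX8
import Cfsg.Agent.Lib_helper1_ElemAb

set_option autoImplicit false
open Cfsg
open scoped commutatorElement Pointwise

/-! Large extraspecial 2-subgroups: the Sylow 2-subgroup `C_L(z₁)` of `L` (helper7). -/

namespace Cfsg.Agent.helper7

variable {G : Type*} [Group G]

theorem mem_zpowers_of_or {z₁ x : G} (h : x = 1 ∨ x = z₁) : x ∈ Subgroup.zpowers z₁ := by
  rcases h with h | h
  · rw [h]; exact Subgroup.one_mem _
  · rw [h]; exact Subgroup.mem_zpowers z₁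

/-- `C_L(z₁)` is maximal among 2-subgroups of `L`. -/
theorem LX.cent_max [Finite G] {Q : Subgroup G} {z : G} (h : LX Q z)
    (hO : piCoreIn {2} (⊤ : Subgroup G) = ⊥) {L : Subgroup G} (hL : Comp L ⊤) {u : G}
    (hu : u ∈ Q) (h1 : cj u L ≠ L) {z₁ w : G} (hd : ZDec L z z₁ w) {P : Subgroup G}
    (hP : IsPGroup 2 P) (hPL : P ≤ L)
    (hCP : ∀ x ∈ L, x * z₁ = z₁ * x → x ∈ P) : ∀ x ∈ P, x * z₁ = z₁ * x := by
  haveI : Fact (Nat.Prime 2) := ⟨Nat.prime_two⟩
  have hd₂ := h.zdec_second hO hL hu h1 hd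
  have hcu := hL.le_centralizer_of_ne (hL.conj_top_lx u) h1
  obtain ⟨K, hK⟩ : ∃ K, K = cenLayer z ⊓ Subgroup.centralizer (L : Set G) := ⟨_, rfl⟩
  have hKp : IsPGroup 2 K := by
    rw [hK]; exact (h.cenLayer_pgroup hO hL hu h1).to_le inf_le_left
  have hKN : K ≤ Subgroup.normalizer (P : Set G) := by
    rw [hK]
    refine inf_le_right.trans ?_
    exact (Subgroup.centralizer_le hPL).trans (Subgroup.centralizer_le_normalizer _)
  have hP' : IsPGroup 2 ↥(P ⊔ K) := IsPGroup.to_sup_of_normal_left' hP hKp hKN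
  have hP'E : P ⊔ K ≤ layerOf (⊤ : Subgroup G) := by
    apply sup_le (hPL.trans (comp_le_layerOf hL))
    rw [hK]
    exact inf_le_left.trans inf_le_left
  have hDP' : cenLayer z ≤ P ⊔ K := by
    intro e he
    have he' := mem_cenLayer.1 he
    obtain ⟨a, ha, haz, c, hc, hcw, hac⟩ := h.dec_D hO hL hu h1 hd he'.1 he'.2
    rw [hac]
    apply Subgroup.mul_mem_sup (hCP a ha haz)
    rw [hK, Subgroup.mem_inf, mem_cenLayer]
    exact ⟨⟨comp_le_layerOf (hL.conj_top_lx u) hc, hd₂.comm_z hc hcw⟩, hcu hc⟩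
  have hmax := h.cenLayer_max hO hL hu h1 hP' hDP' hP'E
  intro x hx
  have hx' := mem_cenLayer.1 (hmax ((le_sup_left : P ≤ P ⊔ K) hx))
  exact hd.comm_z₁ (hPL hx) hx'.2

theorem LX.exists_sylow [Finite G] {Q : Subgroup G} {z : G} (h : LX Q z)
    (hO : piCoreIn {2} (⊤ : Subgroup G) = ⊥) {L : Subgroup G} (hL : Comp L ⊤) {u : G}
    (hu : u ∈ Q) (h1 : cj u L ≠ L) {z₁ w : G} (hd : ZDec L z z₁ w) :
    ∃ R : Sylow 2 ↥L,
      (R : Subgroup ↥L) = (Subgroup.centralizer ({z₁} : Set G)).subgroupOf L ∧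
      (frattini ↥(R : Subgroup ↥L)).map ((L.subtype).comp (R : Subgroup ↥L).subtype) ≤
        Subgroup.zpowers z₁ := by
  haveI : Fact (Nat.Prime 2) := ⟨Nat.prime_two⟩
  have hmem : ∀ g : ↥L, g ∈ (Subgroup.centralizer ({z₁} : Set G)).subgroupOf L ↔
      (g : G) * z₁ = z₁ * (g : G) := by
    intro g
    rw [Subgroup.mem_subgroupOf, Subgroup.mem_centralizer_singleton_iff]
  have hpg : IsPGroup 2 ↥((Subgroup.centralizer ({z₁} : Set G)).subgroupOf L) := by
    intro g
    refine ⟨2, ?_⟩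
    have hg := (hmem g.1).1 g.2
    have := pow_four_of_sq hd.sq (h.sq_of_moved hO hL hd hu h1 g.1.2 hg)
    apply Subtype.ext
    apply Subtype.ext
    simpa using this
  have hmax : ∀ {Q' : Subgroup ↥L}, IsPGroup 2 ↥Q' →
      (Subgroup.centralizer ({z₁} : Set G)).subgroupOf L ≤ Q' →
      Q' = (Subgroup.centralizer ({z₁} : Set G)).subgroupOf L := by
    intro Q' hQ' hle
    apply le_antisymm _ hle
    intro x hx
    rw [hmem]
    have hPp : IsPGroup 2 ↥(Q'.map L.subtype) := hQ'.map L.subtype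
    apply h.cent_max hO hL hu h1 hd hPp (Subgroup.map_subtype_le Q') _ (x : G) ⟨x, hx, rfl⟩
    intro y hy hyz
    exact ⟨⟨y, hy⟩, hle ((hmem ⟨y, hy⟩).2 hyz), rfl⟩
  refine ⟨⟨(Subgroup.centralizer ({z₁} : Set G)).subgroupOf L, hpg, hmax⟩, rfl, ?_⟩
  show (frattini ↥((Subgroup.centralizer ({z₁} : Set G)).subgroupOf L)).map
    ((L.subtype).comp ((Subgroup.centralizer ({z₁} : Set G)).subgroupOf L).subtype) ≤
      Subgroup.zpowers z₁
  obtain ⟨f, hf⟩ : ∃ f : ↥((Subgroup.centralizer ({z₁} : Set G)).subgroupOf L) →* G,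
      f = (L.subtype).comp ((Subgroup.centralizer ({z₁} : Set G)).subgroupOf L).subtype :=
    ⟨_, rfl⟩
  rw [← hf]
  have hfL : ∀ g, f g ∈ L := by intro g; rw [hf]; exact g.1.2
  have hfz : ∀ g, f g * z₁ = z₁ * f g := by
    intro g; rw [hf]; exact (hmem g.1).1 g.2
  rw [Subgroup.map_le_iff_le_comap]
  have hN : ((Subgroup.zpowers z₁).comap f).Normal := by
    constructor
    intro n hn g
    rw [Subgroup.mem_comap] at hn ⊢
    rw [map_mul, map_mul, map_inv]
    obtain ⟨k, hk⟩ := Subgroup.mem_zpowers_iff.1 hn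
    have hc : Commute (f g) (z₁ ^ k) := (show Commute (f g) z₁ from hfz g).zpow_right k
    rw [← hk, hc.eq]
    have : z₁ ^ k * f g * (f g)⁻¹ = z₁ ^ k := by group
    rw [this]
    exact Subgroup.zpow_mem_zpowers z₁ k
  apply Cfsg.Agent.helper1.frattini_le_of_elemAb_quot (p := 2)
  · rw [commutator_def, Subgroup.commutator_le]
    intro a _ b _
    rw [Subgroup.mem_comap, commutatorElement_def, map_mul, map_mul, map_mul, map_inv, map_inv]
    exact mem_zpowers_of_or
      (h.comm_of_moved hO hL hd hu h1 (hfL a) (hfz a) (hfL b) (hfz b))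
  · intro x
    rw [Subgroup.mem_comap, pow_two, map_mul]
    exact mem_zpowers_of_or (h.sq_of_moved hO hL hd hu h1 (hfL x) (hfz x))

/-- `Q` is not the largest normal 2-subgroup of `C_G(z)` in the two-component case. -/
theorem LX.Q_ne_pcore [Finite G] {Q : Subgroup G} {z : G} (h : LX Q z)
    (hO : piCoreIn {2} (⊤ : Subgroup G) = ⊥) {L : Subgroup G} (hL : Comp L ⊤) {u : G}
    (hu : u ∈ Q) (h1 : cj u L ≠ L) :
    Q ≠ (Cfsg.pCore 2 ↥(Subgroup.centralizer ({z} : Set G))).map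
      (Subgroup.centralizer ({z} : Set G)).subtype := by
  intro hQeq
  rw [map_pCore_eq Nat.prime_two] at hQeq
  obtain ⟨z₁, w, hd⟩ := h.exists_zdec hO hL
  have hDle : cenLayer z ≤ Subgroup.centralizer ({z} : Set G) := inf_le_right
  have hDn : Subgroup.centralizer ({z} : Set G) ≤ Subgroup.normalizer ((cenLayer z : Subgroup G) : Set G) := by
    intro g hg
    unfold cenLayer
    exact Subgroup.inf_normalizer_le_normalizer_inf
      ⟨layerOf_normal ⊤ (Subgroup.mem_top g), Subgroup.le_normalizer hg⟩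
  have hDQ : cenLayer z ≤ Q := by
    rw [hQeq]
    apply le_piCoreIn_of_sn (SN.of_normal hDle hDn)
    exact (isPGroup_iff_piGrp Nat.prime_two).1 (h.cenLayer_pgroup hO hL hu h1)
  have hcu := hL.le_centralizer_of_ne (hL.conj_top_lx u) h1
  have := simple_of_qs hL.2 (h.comp_center_bot hO hL)
  apply false_of_self_centralizing_invol (H := ↥L) (not_comm_of_qs hL.2) ⟨z₁, hd.z₁L⟩
  · intro h4
    apply hd.ne
    exact congrArg Subtype.val h4
  · apply Subtype.ext
    exact hd.sq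
  · intro x hx
    have hx' : (x : G) * z₁ = z₁ * (x : G) := congrArg Subtype.val hx
    have hxQ : (x : G) ∈ Q := by
      apply hDQ
      rw [mem_cenLayer]
      exact ⟨comp_le_layerOf hL x.2, hd.comm_z x.2 hx'⟩
    have hy : u * (x : G)⁻¹ * u⁻¹ ∈ Subgroup.centralizer (L : Set G) :=
      hcu (cj_mem_cj (L.inv_mem x.2))
    have e : (x : G) * u * (x : G)⁻¹ * u⁻¹ = (x : G) * (u * (x : G)⁻¹ * u⁻¹) := by group
    have hzc := h.comp_center_bot hO hL
    rcases h.comm _ hxQ u hu with h5 | h5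
    · left
      rw [e] at h5
      have : (x : G) * (u * (x : G)⁻¹ * u⁻¹) = 1 * 1 := by rw [h5, one_mul]
      exact Subtype.ext (dec_unique hzc x.2 L.one_mem hy (Subgroup.one_mem _) this).1
    · right
      rw [e, hd.eq] at h5
      exact Subtype.ext (dec_unique hzc x.2 hd.z₁L hy hd.wC h5).1

end Cfsg.Agent.helper7
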