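import Mathlib
import Cfsg.Agent.Lib_helper7_Meta2a

set_option autoImplicit false
set_option linter.style.haveILetI false
set_option linter.deprecated false
set_option linter.unusedVariables false
set_option linter.unusedSectionVars false

/-!
# 2-groups of sectional rank at most 2 are metacyclic: the rank relation lemma
-/

open scoped commutatorElement

namespace Cfsg.Agent.helper7.Meta2

universe u

variable {S : Type u} [Group S]

/-- Three commuting elements with squares in a central subgroup `N` of a group of sectional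
rank at most 2 satisfy a nontrivial relation modulo `N`. -/
theorem rank_relation [Finite S] (hr : Cfsg.SectionalPRankLE 2 2 S) (N : Subgroup S)
    (hNc : ∀ n ∈ N, ∀ g : S, n * g = g * n)
    (u v w : S) (huv : u * v = v * u) (huw : u * w = w * u) (hvw : v * w = w * v)
    (hu : u ^ 2 ∈ N) (hv : v ^ 2 ∈ N) (hw : w ^ 2 ∈ N) :
    u ∈ N ∨ v ∈ N ∨ u * v ∈ N ∨ w ∈ N ∨ u * w ∈ N ∨ v * w ∈ N ∨ u * v * w ∈ N := by
  classical
  obtain ⟨T, hTdef⟩ : ∃ T : Set S, T = insert u (insert v (insert w (N : Set S))) := ⟨_, rfl⟩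
  have hTmem : ∀ x, x ∈ T ↔ x = u ∨ x = v ∨ x = w ∨ x ∈ N := by
    intro x
    rw [hTdef]
    simp only [Set.mem_insert_iff, SetLike.mem_coe]
  have hcomm : ∀ x ∈ T, ∀ y ∈ T, x * y = y * x := by
    intro x hx y hy
    rw [hTmem] at hx hy
    rcases hx with rfl | rfl | rfl | hx
    · rcases hy with rfl | rfl | rfl | hy
      · rfl
      · exact huv
      · exact huw
      · exact (hNc y hy _).symm
    · rcases hy with rfl | rfl | rfl | hy
      · exact huv.symm
      · rfl
      · exact hvw
      · exact (hNc y hy _).symm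
    · rcases hy with rfl | rfl | rfl | hy
      · exact huw.symm
      · exact hvw.symm
      · rfl
      · exact (hNc y hy _).symm
    · exact hNc x hx y
  obtain ⟨X, hXdef⟩ : ∃ X : Subgroup S, X = Subgroup.closure T := ⟨_, rfl⟩
  have hXc : ∀ x ∈ X, ∀ y ∈ X, x * y = y * x := by
    intro x hx y hy
    rw [hXdef] at hx hy
    letI := Subgroup.closureCommGroupOfComm hcomm
    have := mul_comm (⟨x, hx⟩ : Subgroup.closure T) ⟨y, hy⟩
    exact congrArg Subtype.val this
  have huX : u ∈ X := by rw [hXdef]; exact Subgroup.subset_closure ((hTmem u).2 (Or.inl rfl))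
  have hvX : v ∈ X := by
    rw [hXdef]; exact Subgroup.subset_closure ((hTmem v).2 (Or.inr (Or.inl rfl)))
  have hwX : w ∈ X := by
    rw [hXdef]; exact Subgroup.subset_closure ((hTmem w).2 (Or.inr (Or.inr (Or.inl rfl))))
  have hNX : N ≤ X := by
    intro n hn
    rw [hXdef]; exact Subgroup.subset_closure ((hTmem n).2 (Or.inr (Or.inr (Or.inr hn))))
  have hsq : ∀ x ∈ X, x ^ 2 ∈ N := by
    intro x hx
    have hx' : x ∈ Subgroup.closure T := by rw [← hXdef]; exact hx
    induction hx' using Subgroup.closure_induction with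
    | mem y hy =>
      rw [hTmem] at hy
      rcases hy with rfl | rfl | rfl | hy
      · exact hu
      · exact hv
      · exact hw
      · exact N.pow_mem hy 2
    | one => simp
    | mul y y' hy hy' ihy ihy' =>
      have hyX : y ∈ X := by rw [hXdef]; exact hy
      have hy'X : y' ∈ X := by rw [hXdef]; exact hy'
      have hc : Commute y y' := hXc y hyX y' hy'X
      rw [hc.mul_pow]
      exact N.mul_mem (ihy hyX) (ihy' hy'X)
    | inv y hy ihy =>
      have hyX : y ∈ X := by rw [hXdef]; exact hy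
      rw [inv_pow]
      exact N.inv_mem (ihy hyX)
  haveI hNn : N.Normal := by
    refine ⟨fun n hn g => ?_⟩
    have : g * n * g⁻¹ = n := by
      rw [← hNc n hn g]; group
    rw [this]; exact hn
  obtain ⟨N', hN'def⟩ : ∃ N' : Subgroup ↥X, N' = N.subgroupOf X := ⟨_, rfl⟩
  haveI hN'n : N'.Normal := by rw [hN'def]; infer_instance
  have hmemN' : ∀ x : ↥X, x ∈ N' ↔ (x : S) ∈ N := by
    intro x; rw [hN'def, Subgroup.mem_subgroupOf]
  have hA : ∀ a : ↥X ⧸ N', a ^ 2 = 1 := by
    intro a
    induction a using QuotientGroup.induction_on with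
    | H x =>
      rw [← QuotientGroup.mk_pow, QuotientGroup.eq_one_iff, hmemN']
      exact hsq x x.2
  have hcardA : Nat.card (↥X ⧸ N') ≤ 2 ^ 2 := by
    apply Cfsg.Agent.helper9.SecRank.card_le_of_section hr hA X.subtype (QuotientGroup.mk' N')
    · intro x hx
      rw [MonoidHom.mem_ker] at hx
      have : x = 1 := Subtype.ext hx
      rw [this]; exact Subgroup.one_mem _
    · exact QuotientGroup.mk'_surjective N'
  have hAcomm : ∀ a b : ↥X ⧸ N', a * b = b * a :=
    Cfsg.Agent.helper9.SecRank.mul_comm_of_sq_eq_one hA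
  -- images
  obtain ⟨ub, hub⟩ : ∃ ub : ↥X ⧸ N', ub = QuotientGroup.mk (⟨u, huX⟩ : ↥X) := ⟨_, rfl⟩
  obtain ⟨vb, hvb⟩ : ∃ vb : ↥X ⧸ N', vb = QuotientGroup.mk (⟨v, hvX⟩ : ↥X) := ⟨_, rfl⟩
  obtain ⟨wb, hwb⟩ : ∃ wb : ↥X ⧸ N', wb = QuotientGroup.mk (⟨w, hwX⟩ : ↥X) := ⟨_, rfl⟩
  have key : ∀ (x : S) (hx : x ∈ X),
      (QuotientGroup.mk (⟨x, hx⟩ : ↥X) : ↥X ⧸ N') = 1 → x ∈ N := by
    intro x hx h1
    rw [QuotientGroup.eq_one_iff, hmemN'] at h1
    exact h1
  by_cases hub1 : ub = 1
  · left
    rw [hub] at hub1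
    exact key u huX hub1
  · have hub2 : ub ^ 2 = 1 := hA ub
    have hord : orderOf ub = 2 := orderOf_eq_prime hub2 hub1
    have hTc : Nat.card (Subgroup.zpowers ub) = 2 := by rw [Nat.card_zpowers, hord]
    have hidx := (Subgroup.zpowers ub).card_mul_index
    rw [hTc] at hidx
    have hidx_le : (Subgroup.zpowers ub).index ≤ 2 := by
      have : 2 * (Subgroup.zpowers ub).index ≤ 4 := by rw [hidx]; exact hcardA
      omega
    have hidx0 : (Subgroup.zpowers ub).index ≠ 0 := Subgroup.index_ne_zero_of_finite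
    by_cases hvT : vb ∈ Subgroup.zpowers ub
    · rcases mem_zpowers_of_sq ub vb hub2 hvT with h | h
      · right; left
        rw [hvb] at h
        exact key v hvX h
      · right; right; left
        have h1 : ub * vb = 1 := by rw [h, ← pow_two]; exact hub2
        rw [hub, hvb, ← QuotientGroup.mk_mul] at h1
        exact key (u * v) (X.mul_mem huX hvX) h1
    · by_cases hwT : wb ∈ Subgroup.zpowers ub
      · rcases mem_zpowers_of_sq ub wb hub2 hwT with h | h
        · right; right; right; left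
          rw [hwb] at h
          exact key w hwX h
        · right; right; right; right; left
          have h1 : ub * wb = 1 := by rw [h, ← pow_two]; exact hub2
          rw [hub, hwb, ← QuotientGroup.mk_mul] at h1
          exact key (u * w) (X.mul_mem huX hwX) h1
      · have hidx2 : (Subgroup.zpowers ub).index = 2 := by
          rcases Nat.lt_or_ge (Subgroup.zpowers ub).index 2 with hlt | hge
          · exfalso
            have h1 : (Subgroup.zpowers ub).index = 1 := by omega
            rw [Subgroup.index_eq_one] at h1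
            apply hvT
            rw [h1]; trivial
          · omega
        have hmem := (Subgroup.mul_mem_iff_of_index_two hidx2 (a := vb) (b := wb)).mpr
          ⟨fun h => absurd h hvT, fun h => absurd h hwT⟩
        rcases mem_zpowers_of_sq ub (vb * wb) hub2 hmem with h | h
        · right; right; right; right; right; left
          rw [hvb, hwb, ← QuotientGroup.mk_mul] at h
          exact key (v * w) (X.mul_mem hvX hwX) h
        · right; right; right; right; right; right
          have h1 : ub * (vb * wb) = 1 := by rw [h, ← pow_two]; exact hub2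
          rw [hub, hvb, hwb, ← QuotientGroup.mk_mul, ← QuotientGroup.mk_mul] at h1
          have := key (u * (v * w)) (X.mul_mem huX (X.mul_mem hvX hwX)) h1
          rwa [← mul_assoc] at this

/-- Elements of the closure of three central elements are products of powers. -/
theorem mem_closure_three_central (x₁ x₂ x₃ : S) (h₁ : x₁ ∈ Subgroup.center S)
    (h₂ : x₂ ∈ Subgroup.center S) (h₃ : x₃ ∈ Subgroup.center S) (y : S)
    (hy : y ∈ Subgroup.closure ({x₁, x₂, x₃} : Set S)) :
    ∃ i j k : ℤ, y = x₁ ^ i * x₂ ^ j * x₃ ^ k := by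
  letI : CommGroup (Subgroup.center S) :=
    { (inferInstance : Group (Subgroup.center S)) with
      mul_comm := fun a b => Subtype.ext ((Subgroup.mem_center_iff.mp a.2 b.1).symm) }
  obtain ⟨c₁, hc₁⟩ : ∃ c : Subgroup.center S, c = ⟨x₁, h₁⟩ := ⟨_, rfl⟩
  obtain ⟨c₂, hc₂⟩ : ∃ c : Subgroup.center S, c = ⟨x₂, h₂⟩ := ⟨_, rfl⟩
  obtain ⟨c₃, hc₃⟩ : ∃ c : Subgroup.center S, c = ⟨x₃, h₃⟩ := ⟨_, rfl⟩
  have e₁ : (c₁ : S) = x₁ := by rw [hc₁]
  have e₂ : (c₂ : S) = x₂ := by rw [hc₂]
  have e₃ : (c₃ : S) = x₃ := by rw [hc₃]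
  induction hy using Subgroup.closure_induction with
  | mem t ht =>
    simp only [Set.mem_insert_iff, Set.mem_singleton_iff] at ht
    rcases ht with rfl | rfl | rfl
    · exact ⟨1, 0, 0, by simp⟩
    · exact ⟨0, 1, 0, by simp⟩
    · exact ⟨0, 0, 1, by simp⟩
  | one => exact ⟨0, 0, 0, by simp⟩
  | mul t t' _ _ ht ht' =>
    obtain ⟨i, j, k, rfl⟩ := ht
    obtain ⟨i', j', k', rfl⟩ := ht'
    refine ⟨i + i', j + j', k + k', ?_⟩
    have h : c₁ ^ i * c₂ ^ j * c₃ ^ k * (c₁ ^ i' * c₂ ^ j' * c₃ ^ k') =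
        c₁ ^ (i + i') * c₂ ^ (j + j') * c₃ ^ (k + k') := by
      rw [zpow_add, zpow_add, zpow_add]
      simp only [mul_assoc, mul_comm, mul_left_comm]
    have h' := congrArg Subtype.val h
    simp only [Subgroup.coe_mul, SubgroupClass.coe_zpow, e₁, e₂, e₃] at h'
    exact h'
  | inv t _ ht =>
    obtain ⟨i, j, k, rfl⟩ := ht
    refine ⟨-i, -j, -k, ?_⟩
    have h : (c₁ ^ i * c₂ ^ j * c₃ ^ k)⁻¹ = c₁ ^ (-i) * c₂ ^ (-j) * c₃ ^ (-k) := by
      rw [zpow_neg, zpow_neg, zpow_neg, mul_inv, mul_inv]
    have h' := congrArg Subtype.val h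
    simp only [Subgroup.coe_mul, SubgroupClass.coe_zpow, Subgroup.coe_inv, e₁, e₂, e₃] at h'
    exact h'

/-- 2-adic descent on a pair of integers. -/
theorem exists_odd_decomp : ∀ (m : ℕ) (i j : ℤ), i.natAbs + j.natAbs = m → (i ≠ 0 ∨ j ≠ 0) →
    ∃ (n : ℕ) (p q : ℤ), (Odd p ∨ Odd q) ∧ i = p * 2 ^ n ∧ j = q * 2 ^ n := by
  intro m
  induction m using Nat.strong_induction_on with
  | _ m ih =>
    intro i j hm hne
    by_cases hi : Odd i
    · exact ⟨0, i, j, Or.inl hi, by simp, by simp⟩
    by_cases hj : Odd j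
    · exact ⟨0, i, j, Or.inr hj, by simp, by simp⟩
    rw [Int.not_odd_iff_even] at hi hj
    obtain ⟨i', hi'⟩ := hi
    obtain ⟨j', hj'⟩ := hj
    have hne' : i' ≠ 0 ∨ j' ≠ 0 := by
      rcases hne with h | h
      · left; intro h0; apply h; rw [hi', h0]; simp
      · right; intro h0; apply h; rw [hj', h0]; simp
    have hlt : i'.natAbs + j'.natAbs < m := by
      rw [← hm, hi', hj']
      have e1 : (i' + i').natAbs = 2 * i'.natAbs := by
        rw [← two_mul, Int.natAbs_mul]; rfl
      have e2 : (j' + j').natAbs = 2 * j'.natAbs := by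
        rw [← two_mul, Int.natAbs_mul]; rfl
      rw [e1, e2]
      have : 0 < i'.natAbs + j'.natAbs := by
        rcases hne' with h | h
        · have := Int.natAbs_pos.mpr h; omega
        · have := Int.natAbs_pos.mpr h; omega
      omega
    obtain ⟨n, p, q, hpq, hp, hq⟩ := ih _ hlt i' j' rfl hne'
    refine ⟨n + 1, p, q, hpq, ?_, ?_⟩
    · rw [hi', hp, pow_succ]; ring
    · rw [hj', hq, pow_succ]; ring

end Cfsg.Agent.helper7.Meta2
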