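import Mathlib
import Cfsg.Agent.Lib_helper7_Meta2b

set_option autoImplicit false
set_option linter.style.haveILetI false
set_option linter.deprecated false
set_option linter.unusedVariables false
set_option linter.unusedSectionVars false

/-!
# 2-groups of sectional rank at most 2 are metacyclic: Blackburn's lifting step
-/

open scoped commutatorElement

namespace Cfsg.Agent.helper7.Meta2

universe u

variable {S : Type u} [Group S]

theorem sq_zpow_eq {G : Type*} [Group G] (c : G) (j : ℤ) : (c ^ j) ^ 2 = (c ^ 2) ^ j := by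
  rw [← zpow_natCast (c ^ j) 2, ← zpow_mul, ← zpow_natCast c 2, ← zpow_mul, mul_comm]

/-- If `S / M` is metacyclic for a central subgroup `M` of order 2 inside `℧₁(S')` (or inside
`[S', S]` when `S'` has exponent 2), then `S` is metacyclic. -/
theorem blackburn_step [Finite S] (h2 : IsPGroup 2 S) (e : S) (hec : e ∈ Subgroup.center S)
    (he2 : orderOf e = 2) (M : Subgroup S) [hMn : M.Normal] (hMe : M = Subgroup.zpowers e)
    (hM : Cfsg.IsMetacyclic (S ⧸ M))
    (hU : e ∈ sqSub S ∨
      ((∀ s ∈ commutator S, s ^ 2 = 1) ∧ e ∈ ⁅commutator S, (⊤ : Subgroup S)⁆)) :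
    Cfsg.IsMetacyclic S := by
  classical
  obtain ⟨Nb, hNbn, hNbc, hQc⟩ := hM
  haveI := hNbn
  obtain ⟨ab, hab⟩ := hNbc.exists_generator
  obtain ⟨bb, hbb⟩ := hQc.exists_generator
  obtain ⟨a, ha⟩ := QuotientGroup.mk_surjective (ab : S ⧸ M)
  obtain ⟨b', hb'⟩ := QuotientGroup.mk_surjective bb
  obtain ⟨b, hb⟩ := QuotientGroup.mk_surjective b'
  have hee : e ^ 2 = 1 := by
    have := pow_orderOf_eq_one e
    rwa [he2] at this
  have hMcen : M ≤ Subgroup.center S := by
    rw [hMe, Subgroup.zpowers_le]; exact hec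
  have hMc : ∀ m ∈ M, ∀ g : S, m * g = g * m := by
    intro m hm g
    exact (Subgroup.mem_center_iff.mp (hMcen hm) g).symm
  have hMsq : ∀ m ∈ M, m ^ 2 = 1 := by
    intro m hm
    rw [hMe] at hm
    rcases mem_zpowers_of_sq e m hee hm with h | h
    · rw [h, one_pow]
    · rw [h, hee]
  obtain ⟨A, hAdef⟩ : ∃ A : Subgroup S, A = Nb.comap (QuotientGroup.mk' M) := ⟨_, rfl⟩
  haveI hAn : A.Normal := by rw [hAdef]; infer_instance
  have hmemA : ∀ x : S, x ∈ A ↔ (QuotientGroup.mk x : S ⧸ M) ∈ Nb := by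
    intro x; rw [hAdef, Subgroup.mem_comap]; rfl
  have hA1 : ∀ x ∈ A, ∃ k : ℤ, ∃ m ∈ M, x = a ^ k * m := by
    intro x hx
    have hx' := (hmemA x).mp hx
    obtain ⟨k, hk⟩ := Subgroup.mem_zpowers_iff.mp (hab ⟨_, hx'⟩)
    have hk' : ((ab : S ⧸ M)) ^ k = (QuotientGroup.mk x : S ⧸ M) := by
      have := congrArg Subtype.val hk
      simpa using this
    rw [← ha, ← QuotientGroup.mk_zpow] at hk'
    have hm := QuotientGroup.eq.mp hk'
    exact ⟨k, (a ^ k)⁻¹ * x, hm, by group⟩
  have hA2 : ∀ g : S, ∃ n : ℤ, ∃ x ∈ A, g = b ^ n * x := by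
    intro g
    obtain ⟨n, hn⟩ := Subgroup.mem_zpowers_iff.mp
      (hbb (QuotientGroup.mk (QuotientGroup.mk g : S ⧸ M)))
    rw [← hb', ← hb, ← QuotientGroup.mk_zpow, ← QuotientGroup.mk_zpow] at hn
    have h1 := QuotientGroup.eq.mp hn
    refine ⟨n, (b ^ n)⁻¹ * g, ?_, by group⟩
    rw [hmemA]
    simpa using h1
  have haA : a ∈ A := by
    rw [hmemA, ha]; exact ab.2
  have hbab : b * a * b⁻¹ ∈ A := hAn.conj_mem a haA b
  obtain ⟨k, m, hm, hk⟩ := hA1 _ hbab
  obtain ⟨c, hcdef⟩ : ∃ c : S, c = a ^ (k - 1) * m := ⟨_, rfl⟩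
  have hcomm : b * a * b⁻¹ * a⁻¹ = c := by
    rw [hk, hcdef, mul_assoc, hMc m hm a⁻¹, ← mul_assoc, zpow_sub_one]
  have ham : Commute a m := (hMc m hm a).symm
  have hac : Commute a c := by
    rw [hcdef]
    exact ((Commute.refl a).zpow_right (k - 1)).mul_right ham
  have hakm : Commute (a ^ k) m := ham.zpow_left k
  have hak1m : Commute (a ^ (k - 1)) m := ham.zpow_left (k - 1)
  have hbm : b * m * b⁻¹ = m := by
    rw [← hMc m hm b]; group
  have hbc : b * c * b⁻¹ = c ^ k := by
    have h1 : b * c * b⁻¹ = (b * a * b⁻¹) ^ (k - 1) * (b * m * b⁻¹) := by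
      rw [hcdef]
      have e1 : b * a ^ (k - 1) * b⁻¹ = (b * a * b⁻¹) ^ (k - 1) := by
        have := map_zpow (MulAut.conj b) a (k - 1)
        simpa [MulAut.conj_apply] using this
      rw [← e1]; group
    rw [h1, hbm, hk, hakm.mul_zpow, hcdef, hak1m.mul_zpow, ← zpow_mul, ← zpow_mul, mul_assoc,
      ← zpow_add_one, sub_add_cancel, mul_comm k (k - 1)]
  obtain ⟨C, hCdef⟩ : ∃ C : Subgroup S, C = Subgroup.zpowers c := ⟨_, rfl⟩
  have hcC : c ∈ C := by rw [hCdef]; exact Subgroup.mem_zpowers c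
  have hCa : a ∈ Subgroup.normalizer (C : Set S) := by
    apply Subgroup.mem_normalizer_fintype
    intro n hn
    rw [SetLike.mem_coe, hCdef] at hn ⊢
    obtain ⟨j, rfl⟩ := Subgroup.mem_zpowers_iff.mp hn
    have : a * c ^ j * a⁻¹ = c ^ j := by
      rw [(hac.zpow_right j).eq]; group
    rw [this]; exact hn
  have hCb : b ∈ Subgroup.normalizer (C : Set S) := by
    apply Subgroup.mem_normalizer_fintype
    intro n hn
    rw [SetLike.mem_coe, hCdef] at hn ⊢
    obtain ⟨j, rfl⟩ := Subgroup.mem_zpowers_iff.mp hn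
    have e1 : b * c ^ j * b⁻¹ = (b * c * b⁻¹) ^ j := by
      have := map_zpow (MulAut.conj b) c j
      simpa [MulAut.conj_apply] using this
    rw [e1, hbc, ← zpow_mul]
    exact Subgroup.zpow_mem_zpowers c _
  have hCm : ∀ m' ∈ M, m' ∈ Subgroup.normalizer (C : Set S) := by
    intro m' hm'
    apply Subgroup.mem_normalizer_fintype
    intro n hn
    have : m' * n * m'⁻¹ = n := by
      rw [hMc m' hm' n]; group
    rw [this]; exact hn
  haveI hCn : C.Normal := by
    rw [← Subgroup.normalizer_eq_top_iff, eq_top_iff]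
    intro g _
    obtain ⟨n, x, hx, rfl⟩ := hA2 g
    obtain ⟨k', m', hm', rfl⟩ := hA1 x hx
    exact Subgroup.mul_mem _ (Subgroup.zpow_mem _ hCb n)
      (Subgroup.mul_mem _ (Subgroup.zpow_mem _ hCa k') (hCm m' hm'))
  -- the quotient by `C` is commutative
  have hαβ : Commute (QuotientGroup.mk b : S ⧸ C) (QuotientGroup.mk a : S ⧸ C) := by
    rw [← commutatorElement_eq_one_iff_commute]
    have h1 : (QuotientGroup.mk (b * a * b⁻¹ * a⁻¹) : S ⧸ C) = 1 := by
      rw [hcomm, QuotientGroup.eq_one_iff]; exact hcC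
    rw [commutatorElement_def]
    simpa using h1
  have hμ : ∀ m' ∈ M, ∀ x : S ⧸ C, Commute (QuotientGroup.mk m' : S ⧸ C) x := by
    intro m' hm' x
    induction x using QuotientGroup.induction_on with
    | H g =>
      show (QuotientGroup.mk m' : S ⧸ C) * QuotientGroup.mk g =
        QuotientGroup.mk g * QuotientGroup.mk m'
      rw [← QuotientGroup.mk_mul, ← QuotientGroup.mk_mul, hMc m' hm' g]
  have hdec : ∀ g : S, ∃ (n k' : ℤ) (m' : S), m' ∈ M ∧ (QuotientGroup.mk g : S ⧸ C) =
      (QuotientGroup.mk b : S ⧸ C) ^ n * (QuotientGroup.mk a : S ⧸ C) ^ k' *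
        QuotientGroup.mk m' := by
    intro g
    obtain ⟨n, x, hx, rfl⟩ := hA2 g
    obtain ⟨k', m', hm', rfl⟩ := hA1 x hx
    refine ⟨n, k', m', hm', ?_⟩
    rw [QuotientGroup.mk_mul, QuotientGroup.mk_mul, QuotientGroup.mk_zpow, QuotientGroup.mk_zpow,
      mul_assoc]
  have hcommQ : ∀ g h : S, Commute (QuotientGroup.mk g : S ⧸ C) (QuotientGroup.mk h : S ⧸ C) := by
    intro g h
    obtain ⟨n, k1, m₁, hm₁, hg⟩ := hdec g
    obtain ⟨n', k2, m₂, hm₂, hh⟩ := hdec h
    rw [hg, hh]
    have c1 : Commute ((QuotientGroup.mk b : S ⧸ C) ^ n)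
        ((QuotientGroup.mk b : S ⧸ C) ^ n' * (QuotientGroup.mk a : S ⧸ C) ^ k2 *
          QuotientGroup.mk m₂) :=
      (((Commute.refl _).zpow_zpow n n').mul_right (hαβ.zpow_zpow n k2)).mul_right
        (hμ m₂ hm₂ _).symm
    have c2 : Commute ((QuotientGroup.mk a : S ⧸ C) ^ k1)
        ((QuotientGroup.mk b : S ⧸ C) ^ n' * (QuotientGroup.mk a : S ⧸ C) ^ k2 *
          QuotientGroup.mk m₂) :=
      ((hαβ.symm.zpow_zpow k1 n').mul_right ((Commute.refl _).zpow_zpow k1 k2)).mul_right
        (hμ m₂ hm₂ _).symm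
    have c3 : Commute (QuotientGroup.mk m₁ : S ⧸ C)
        ((QuotientGroup.mk b : S ⧸ C) ^ n' * (QuotientGroup.mk a : S ⧸ C) ^ k2 *
          QuotientGroup.mk m₂) := hμ m₁ hm₁ _
    exact (c1.mul_left c2).mul_left c3
  have hS'C : commutator S ≤ C := by
    rw [commutator_def, Subgroup.commutator_le]
    intro g _ h _
    rw [← QuotientGroup.eq_one_iff (N := C)]
    have : (QuotientGroup.mk ⁅g, h⁆ : S ⧸ C) =
        ⁅(QuotientGroup.mk g : S ⧸ C), (QuotientGroup.mk h : S ⧸ C)⁆ :=
      map_commutatorElement (QuotientGroup.mk' C) g h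
    rw [this, commutatorElement_eq_one_iff_commute]
    exact hcommQ g h
  have hcS' : c ∈ commutator S := by
    rw [← hcomm, commutator_def]
    have := Subgroup.commutator_mem_commutator (Subgroup.mem_top b) (Subgroup.mem_top a)
    rwa [commutatorElement_def] at this
  have hc2a : c ^ 2 ∈ Subgroup.zpowers a := by
    rw [hcdef, hak1m.mul_pow, hMsq m hm, mul_one]
    exact Subgroup.pow_mem _ (Subgroup.zpow_mem_zpowers a _) 2
  have heA : e ∈ Subgroup.zpowers a := by
    rcases hU with he | ⟨hsq, he⟩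
    · have hle : sqSub S ≤ Subgroup.zpowers a := by
        unfold sqSub
        rw [Subgroup.closure_le]
        rintro t ⟨s, hs, rfl⟩
        have hsC := hS'C hs
        rw [hCdef] at hsC
        obtain ⟨j, rfl⟩ := Subgroup.mem_zpowers_iff.mp hsC
        rw [SetLike.mem_coe, sq_zpow_eq]
        exact Subgroup.zpow_mem _ hc2a j
      exact hle he
    · exfalso
      have hc2 : c ^ 2 = 1 := hsq c hcS'
      have hccen : ∀ g : S, g * c = c * g := by
        intro g
        have h1 : g * c * g⁻¹ ∈ C := hCn.conj_mem c hcC g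
        rw [hCdef] at h1
        rcases mem_zpowers_of_sq c _ hc2 h1 with h | h
        · have hc1 : c = 1 := by
            have : c = g⁻¹ * (g * c * g⁻¹) * g := by group
            rw [this, h]; group
          rw [hc1, mul_one, one_mul]
        · calc g * c = (g * c * g⁻¹) * g := by group
            _ = c * g := by rw [h]
      have hbot : ⁅commutator S, (⊤ : Subgroup S)⁆ ≤ ⊥ := by
        rw [Subgroup.commutator_le]
        intro s hs g _
        rw [Subgroup.mem_bot, commutatorElement_eq_one_iff_mul_comm]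
        have hsC := hS'C hs
        rw [hCdef] at hsC
        rcases mem_zpowers_of_sq c s hc2 hsC with h | h
        · rw [h, one_mul, mul_one]
        · rw [h]; exact (hccen g).symm
      have he1 : e = 1 := by
        have := hbot he
        rwa [Subgroup.mem_bot] at this
      rw [he1, orderOf_one] at he2
      omega
  have hAeq : A = Subgroup.zpowers a := by
    apply le_antisymm
    · intro x hx
      obtain ⟨k', m', hm', rfl⟩ := hA1 x hx
      have hm'a : m' ∈ Subgroup.zpowers a := by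
        rw [hMe] at hm'
        exact (Subgroup.zpowers_le.mpr heA) hm'
      exact Subgroup.mul_mem _ (Subgroup.zpow_mem_zpowers a k') hm'a
    · rw [Subgroup.zpowers_le]; exact haA
  refine ⟨A, hAn, ?_, ?_⟩
  · rw [hAeq]; infer_instance
  · rw [isCyclic_iff_exists_zpowers_eq_top]
    refine ⟨(QuotientGroup.mk b : S ⧸ A), ?_⟩
    rw [eq_top_iff]
    intro x _
    induction x using QuotientGroup.induction_on with
    | H g =>
      obtain ⟨n, x, hx, rfl⟩ := hA2 g
      have hx1 : (QuotientGroup.mk x : S ⧸ A) = 1 := (QuotientGroup.eq_one_iff x).mpr hx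
      rw [QuotientGroup.mk_mul, hx1, mul_one, QuotientGroup.mk_zpow]
      exact Subgroup.zpow_mem_zpowers _ n

end Cfsg.Agent.helper7.Meta2
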