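import Mathlib
import Cfsg.Agent.Lib_helper7_Meta2c

set_option autoImplicit false
set_option linter.style.haveILetI false
set_option linter.deprecated false
set_option linter.unusedVariables false
set_option linter.unusedSectionVars false

/-!
# 2-groups of sectional rank at most 2 are metacyclic: class two, derived subgroup of order two
-/

open scoped commutatorElement

namespace Cfsg.Agent.helper7.Meta2

universe u

variable {S : Type u} [Group S]

/-- The standing hypotheses: `S' = ⟨z⟩` with `z` a central involution. -/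
structure C2Ctx (S : Type u) [Group S] [Finite S] (z : S) : Prop where
  h2 : IsPGroup 2 S
  hr : Cfsg.SectionalPRankLE 2 2 S
  hz2 : z ^ 2 = 1
  hz1 : z ≠ 1
  hzc : ∀ g : S, z * g = g * z
  hS' : commutator S ≤ Subgroup.zpowers z

namespace C2Ctx

variable [Finite S] {z : S}

theorem fin (C : C2Ctx S z) (y y' : S) (hgen : Subgroup.closure ({y, y'} : Set S) = ⊤)
    (hz : z ∈ Subgroup.zpowers y) : Cfsg.IsMetacyclic S :=
  metacyclic_of_comm_le y y' hgen (C.hS'.trans (Subgroup.zpowers_le.mpr hz))

theorem zz (C : C2Ctx S z) : z * z = 1 := by rw [← pow_two]; exact C.hz2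

theorem E1 (C : C2Ctx S z) (x y : S) : x * y = y * x ∨ x * y = y * x * z := by
  have h1 : ⁅x, y⁆ ∈ commutator S := by
    rw [commutator_def]
    exact Subgroup.commutator_mem_commutator (Subgroup.mem_top x) (Subgroup.mem_top y)
  rcases mem_zpowers_of_sq z _ C.hz2 (C.hS' h1) with h | h
  · left
    exact commutatorElement_eq_one_iff_mul_comm.mp h
  · right
    rw [commutatorElement_def] at h
    calc x * y = (x * y * x⁻¹ * y⁻¹) * (y * x) := by group
      _ = z * (y * x) := by rw [h]
      _ = y * x * z := C.hzc (y * x)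

theorem sqc (C : C2Ctx S z) (x g : S) : x ^ 2 * g = g * x ^ 2 := by
  rcases C.E1 x g with h | h
  · calc x ^ 2 * g = x * (x * g) := by rw [pow_two, mul_assoc]
      _ = x * (g * x) := by rw [h]
      _ = (x * g) * x := by group
      _ = (g * x) * x := by rw [h]
      _ = g * x ^ 2 := by rw [pow_two, mul_assoc]
  · calc x ^ 2 * g = x * (x * g) := by rw [pow_two, mul_assoc]
      _ = x * (g * x * z) := by rw [h]
      _ = (x * g) * x * z := by group
      _ = (g * x * z) * x * z := by rw [h]
      _ = g * x * (z * x) * z := by group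
      _ = g * x * (x * z) * z := by rw [C.hzc x]
      _ = g * x ^ 2 * (z * z) := by rw [pow_two]; group
      _ = g * x ^ 2 := by rw [C.zz, mul_one]

theorem swap (C : C2Ctx S z) {g h : S} (hgh : g * h = h * g * z) : h * g = g * h * z := by
  rw [hgh, mul_assoc, C.zz, mul_one]

theorem ne_comm (C : C2Ctx S z) {g h : S} (hgh : g * h = h * g * z) : g * h ≠ h * g := by
  intro h1
  rw [h1] at hgh
  apply C.hz1
  have : h * g * 1 = h * g * z := by rw [mul_one]; exact hgh
  exact (mul_left_cancel this).symm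

/-- `(Tz)`: a generator whose square is `z` times the square of a central Frattini element. -/
theorem caseTz (C : C2Ctx S z) (g h w : S) (hgen : Subgroup.closure ({g, h} : Set S) = ⊤)
    (hwc : ∀ x : S, w * x = x * w) (hwΦ : w ∈ frattini S) (hsq : g ^ 2 = z * w ^ 2) :
    Cfsg.IsMetacyclic S := by
  have hgen' : Subgroup.closure ({g * w⁻¹, h} : Set S) = ⊤ :=
    gen_mul_frattini g h w⁻¹ hgen ((frattini S).inv_mem hwΦ)
  have hc : Commute g w⁻¹ := by
    have : Commute g w := (hwc g).symm
    exact this.inv_right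
  have hy2 : (g * w⁻¹) ^ 2 = z := by
    rw [hc.mul_pow, hsq, inv_pow, mul_assoc, mul_inv_cancel, mul_one]
  apply C.fin (g * w⁻¹) h hgen'
  rw [← hy2]
  exact Subgroup.pow_mem _ (Subgroup.mem_zpowers _) 2

theorem sq_eq_one_of_mem (C : C2Ctx S z) (x : S) (j : ℤ) (hx : x = (x ^ 2) ^ j) : x = 1 := by
  obtain ⟨s, hs⟩ := (IsPGroup.iff_orderOf.mp C.h2) x
  have h1 : x ^ (2 * j - 1) = 1 := by
    rw [zpow_sub_one, zpow_mul, zpow_ofNat, ← hx, mul_inv_cancel]
  have h2 := (orderOf_dvd_iff_zpow_eq_one (x := x)).mpr h1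
  rw [hs] at h2
  rcases Nat.eq_zero_or_pos s with h0 | hpos
  · rw [h0, pow_zero] at hs
    exact orderOf_eq_one_iff.mp hs
  · exfalso
    have h3 : (2 : ℤ) ∣ ((2 ^ s : ℕ) : ℤ) := by
      push_cast
      exact dvd_pow_self 2 (ne_of_gt hpos)
    have h4 := h3.trans h2
    omega

/-- `(T0)`: a generator whose square is the square of a central Frattini element. -/
theorem caseT0 (C : C2Ctx S z) (g h w : S) (hgen : Subgroup.closure ({g, h} : Set S) = ⊤)
    (hgh : g * h = h * g * z)
    (hwc : ∀ x : S, w * x = x * w) (hwΦ : w ∈ frattini S) (hsq : g ^ 2 = w ^ 2) :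
    Cfsg.IsMetacyclic S := by
  obtain ⟨y, hydef⟩ : ∃ y : S, y = g * w⁻¹ := ⟨_, rfl⟩
  have hgen' : Subgroup.closure ({y, h} : Set S) = ⊤ := by
    rw [hydef]
    exact gen_mul_frattini g h w⁻¹ hgen ((frattini S).inv_mem hwΦ)
  have hwi : ∀ x : S, w⁻¹ * x = x * w⁻¹ := by
    intro x
    have : Commute w x := hwc x
    exact this.inv_left.eq
  have hc : Commute g w⁻¹ := (hwi g).symm
  have hy2 : y ^ 2 = 1 := by
    rw [hydef, hc.mul_pow, hsq, inv_pow, mul_inv_cancel]
  have hyh : y * h = h * y * z := by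
    rw [hydef]
    calc g * w⁻¹ * h = g * (w⁻¹ * h) := by group
      _ = g * (h * w⁻¹) := by rw [hwi h]
      _ = (g * h) * w⁻¹ := by group
      _ = (h * g * z) * w⁻¹ := by rw [hgh]
      _ = h * g * (z * w⁻¹) := by group
      _ = h * g * (w⁻¹ * z) := by rw [C.hzc w⁻¹]
      _ = h * (g * w⁻¹) * z := by group
  have hne := C.ne_comm hyh
  have hhy : h * y = y * h * z := C.swap hyh
  obtain ⟨q, hqdef⟩ : ∃ q : S, q = (h ^ 2) ^ 2 := ⟨_, rfl⟩
  have hqc : ∀ x : S, q * x = x * q := by
    intro x; rw [hqdef]; exact C.sqc (h ^ 2) x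
  have hN₂c : ∀ n ∈ Subgroup.zpowers q, ∀ x : S, n * x = x * n := by
    intro n hn x
    obtain ⟨j, rfl⟩ := Subgroup.mem_zpowers_iff.mp hn
    have : Commute q x := hqc x
    exact (this.zpow_left j).eq
  have hqh : q ∈ Subgroup.zpowers h := by
    rw [hqdef]
    exact Subgroup.pow_mem _ (Subgroup.pow_mem _ (Subgroup.mem_zpowers h) 2) 2
  have hgen'' : Subgroup.closure ({h, y} : Set S) = ⊤ := by
    rw [Set.pair_comm]; exact hgen'
  have hrel := rank_relation C.hr (Subgroup.zpowers q) hN₂c z y (h ^ 2) (C.hzc y) (C.hzc (h ^ 2))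
    (C.sqc h y).symm (by rw [C.hz2]; exact Subgroup.one_mem _)
    (by rw [hy2]; exact Subgroup.one_mem _) (by rw [← hqdef]; exact Subgroup.mem_zpowers q)
  rcases hrel with h1 | h1 | h1 | h1 | h1 | h1 | h1
  · -- z ∈ ⟨q⟩
    exact C.fin h y hgen'' ((Subgroup.zpowers_le.mpr hqh) h1)
  · -- y central
    exact absurd (hN₂c y h1 h) hne
  · -- z * y central
    exfalso
    apply hne
    have h3 := hN₂c (z * y) h1 h
    have h4 : z * (y * h) = z * (h * y) := by
      calc z * (y * h) = z * y * h := by group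
        _ = h * (z * y) := h3
        _ = (h * z) * y := by group
        _ = (z * h) * y := by rw [C.hzc h]
        _ = z * (h * y) := by group
    exact mul_left_cancel h4
  · -- h ^ 2 ∈ ⟨q⟩
    obtain ⟨j, hj⟩ := Subgroup.mem_zpowers_iff.mp h1
    have hh2 : h ^ 2 = 1 := C.sq_eq_one_of_mem (h ^ 2) j (by rw [← hqdef]; exact hj.symm)
    have hyh2 : (y * h) ^ 2 = z := by
      calc (y * h) ^ 2 = y * (h * y) * h := by rw [pow_two]; group
        _ = y * (y * h * z) * h := by rw [hhy]
        _ = y ^ 2 * h * (z * h) := by rw [pow_two]; group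
        _ = y ^ 2 * h * (h * z) := by rw [C.hzc h]
        _ = y ^ 2 * h ^ 2 * z := by rw [pow_two h]; group
        _ = z := by rw [hy2, hh2, one_mul, one_mul]
    have hgen3 : Subgroup.closure ({y * h, h} : Set S) = ⊤ := by
      rw [eq_top_iff, ← hgen', Subgroup.closure_le]
      intro t ht
      rcases ht with rfl | ht
      · have e1 : t = (t * h) * h⁻¹ := by group
        have h5 : (t * h) * h⁻¹ ∈ Subgroup.closure ({t * h, h} : Set S) :=
          Subgroup.mul_mem _ (Subgroup.subset_closure (Set.mem_insert _ _))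
            (Subgroup.inv_mem _ (Subgroup.subset_closure (Set.mem_insert_of_mem _ rfl)))
        rw [SetLike.mem_coe]
        rwa [← e1] at h5
      · rw [Set.mem_singleton_iff] at ht
        subst ht
        exact Subgroup.subset_closure (Set.mem_insert_of_mem _ rfl)
    apply C.fin (y * h) h hgen3
    rw [← hyh2]
    exact Subgroup.pow_mem _ (Subgroup.mem_zpowers _) 2
  · -- z * h ^ 2 ∈ ⟨q⟩
    have hz : z = (z * h ^ 2) * (h ^ 2)⁻¹ := by group
    apply C.fin h y hgen''
    rw [hz]
    exact Subgroup.mul_mem _ ((Subgroup.zpowers_le.mpr hqh) h1)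
      (Subgroup.inv_mem _ (Subgroup.pow_mem _ (Subgroup.mem_zpowers h) 2))
  · -- y * h ^ 2 central
    exfalso
    apply hne
    have h3 := hN₂c (y * h ^ 2) h1 h
    have h4 : (y * h) * h ^ 2 = (h * y) * h ^ 2 := by
      calc (y * h) * h ^ 2 = y * h ^ 2 * h := by group
        _ = h * (y * h ^ 2) := h3
        _ = (h * y) * h ^ 2 := by group
    exact mul_right_cancel h4
  · -- z * y * h ^ 2 central
    exfalso
    apply hne
    have h3 := hN₂c (z * y * h ^ 2) h1 h
    have h4 : z * ((y * h) * h ^ 2) = z * ((h * y) * h ^ 2) := by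
      calc z * ((y * h) * h ^ 2) = z * y * h ^ 2 * h := by group
        _ = h * (z * y * h ^ 2) := h3
        _ = (h * z) * (y * h ^ 2) := by group
        _ = (z * h) * (y * h ^ 2) := by rw [C.hzc h]
        _ = z * ((h * y) * h ^ 2) := by group
    exact mul_right_cancel (mul_left_cancel h4)

end C2Ctx

end Cfsg.Agent.helper7.Meta2
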