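import Mathlib
import Cfsg.Agent.Lib_helper7_Meta2d

set_option autoImplicit false
set_option linter.style.haveILetI false
set_option linter.deprecated false
set_option linter.unusedVariables false
set_option linter.unusedSectionVars false

/-!
# 2-groups of sectional rank at most 2 are metacyclic: the case `z ∈ ℧₁(Z₀)` and the main theorem
-/

open scoped commutatorElement

namespace Cfsg.Agent.helper7.Meta2

universe u

variable {S : Type u} [Group S]

theorem sq_zpow_mul {G : Type*} [Group G] (a : G) (p : ℤ) : (a ^ 2) ^ p = a ^ p * a ^ p := by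
  rw [pow_two, (Commute.refl a).mul_zpow]

namespace C2Ctx

variable [Finite S] {z : S}

/-- `(T1)`: `z` is a fourth-power product. -/
theorem caseT1 (C : C2Ctx S z) (a b : S) (hgen : Subgroup.closure ({a, b} : Set S) = ⊤)
    (i j : ℤ) (hz : z = (a ^ 2) ^ (2 * i) * (b ^ 2) ^ (2 * j)) : Cfsg.IsMetacyclic S := by
  haveI : Fact (Nat.Prime 2) := ⟨Nat.prime_two⟩
  have hij : i ≠ 0 ∨ j ≠ 0 := by
    by_contra hcon
    push Not at hcon
    apply C.hz1
    rw [hz, hcon.1, hcon.2]
    simp
  obtain ⟨n, p, q, hpq, hi, hj⟩ := exists_odd_decomp _ i j rfl hij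
  obtain ⟨y, hydef⟩ : ∃ y : S, y = a ^ p * b ^ q := ⟨_, rfl⟩
  have hPc : ∀ x : S, Commute (a ^ 2) x := fun x => C.sqc a x
  have hRc : ∀ x : S, Commute (b ^ 2) x := fun x => C.sqc b x
  have hy2 : ∃ ζ : S, (ζ = 1 ∨ ζ = z) ∧ y ^ 2 = (a ^ 2) ^ p * (b ^ 2) ^ q * ζ := by
    rcases C.E1 (b ^ q) (a ^ p) with h | h
    · refine ⟨1, Or.inl rfl, ?_⟩
      rw [hydef, sq_zpow_mul, sq_zpow_mul, mul_one]
      calc (a ^ p * b ^ q) ^ 2 = a ^ p * (b ^ q * a ^ p) * b ^ q := by rw [pow_two]; group
        _ = a ^ p * (a ^ p * b ^ q) * b ^ q := by rw [h]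
        _ = a ^ p * a ^ p * (b ^ q * b ^ q) := by group
    · refine ⟨z, Or.inr rfl, ?_⟩
      rw [hydef, sq_zpow_mul, sq_zpow_mul]
      calc (a ^ p * b ^ q) ^ 2 = a ^ p * (b ^ q * a ^ p) * b ^ q := by rw [pow_two]; group
        _ = a ^ p * (a ^ p * b ^ q * z) * b ^ q := by rw [h]
        _ = a ^ p * a ^ p * b ^ q * (z * b ^ q) := by group
        _ = a ^ p * a ^ p * b ^ q * (b ^ q * z) := by rw [C.hzc (b ^ q)]
        _ = a ^ p * a ^ p * (b ^ q * b ^ q) * z := by group
  obtain ⟨ζ, hζ, hy2⟩ := hy2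
  have hζ2 : ζ ^ 2 = 1 := by
    rcases hζ with h | h
    · rw [h, one_pow]
    · rw [h]; exact C.hz2
  have hζc : ∀ x : S, Commute ζ x := by
    intro x
    rcases hζ with h | h
    · rw [h]; exact Commute.one_left x
    · rw [h]; exact C.hzc x
  have hmain : (y ^ 2) ^ (2 ^ (n + 1)) = z := by
    have c1 : Commute ((a ^ 2) ^ p * (b ^ 2) ^ q) ζ := (hζc _).symm
    have c2 : Commute ((a ^ 2) ^ p) ((b ^ 2) ^ q) := (hPc _).zpow_left p
    have e1 : ((a ^ 2) ^ p) ^ (2 ^ (n + 1)) = (a ^ 2) ^ (2 * i) := by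
      rw [← zpow_natCast, ← zpow_mul]
      congr 1
      rw [hi]; push_cast; ring
    have e2 : ((b ^ 2) ^ q) ^ (2 ^ (n + 1)) = (b ^ 2) ^ (2 * j) := by
      rw [← zpow_natCast, ← zpow_mul]
      congr 1
      rw [hj]; push_cast; ring
    have e3 : ζ ^ (2 ^ (n + 1)) = 1 := by
      rw [pow_succ, mul_comm, pow_mul, hζ2, one_pow]
    rw [hy2, c1.mul_pow, c2.mul_pow, e1, e2, e3, mul_one, ← hz]
  have hzy : z ∈ Subgroup.zpowers y := by
    rw [← hmain]
    exact Subgroup.pow_mem _ (Subgroup.pow_mem _ (Subgroup.mem_zpowers y) 2) _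
  have hΦa : a ^ 2 ∈ frattini S := Cfsg.Agent.helper1.pow_mem_frattini_of_isPGroup C.h2 a
  have hΦb : b ^ 2 ∈ frattini S := Cfsg.Agent.helper1.pow_mem_frattini_of_isPGroup C.h2 b
  rcases hpq with hp | hq
  · -- p odd: `y` and `b` generate
    obtain ⟨p', hp'⟩ := hp
    have hgen' : Subgroup.closure ({y, b} : Set S) = ⊤ := by
      apply frattini_nongenerating
      rw [eq_top_iff, ← hgen, Subgroup.closure_le]
      have hyK : y ∈ Subgroup.closure ({y, b} : Set S) ⊔ frattini S :=
        Subgroup.mem_sup_left (Subgroup.subset_closure (Set.mem_insert _ _))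
      have hbK : b ∈ Subgroup.closure ({y, b} : Set S) ⊔ frattini S :=
        Subgroup.mem_sup_left (Subgroup.subset_closure (Set.mem_insert_of_mem _ rfl))
      intro t ht
      rcases ht with rfl | ht
      · have e1 : t = ((t ^ 2) ^ p')⁻¹ * (t ^ p * b ^ q * (b ^ q)⁻¹) := by
          rw [hp', zpow_add_one, zpow_mul, zpow_ofNat]; group
        rw [SetLike.mem_coe, e1]
        refine Subgroup.mul_mem _ (Subgroup.inv_mem _
          (Subgroup.mem_sup_right (Subgroup.zpow_mem _ hΦa p'))) ?_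
        refine Subgroup.mul_mem _ ?_ (Subgroup.inv_mem _ (Subgroup.zpow_mem _ hbK q))
        rw [← hydef]; exact hyK
      · rw [Set.mem_singleton_iff] at ht
        subst ht
        exact hbK
    exact C.fin y b hgen' hzy
  · -- q odd: `y` and `a` generate
    obtain ⟨q', hq'⟩ := hq
    have hgen' : Subgroup.closure ({y, a} : Set S) = ⊤ := by
      apply frattini_nongenerating
      rw [eq_top_iff, ← hgen, Subgroup.closure_le]
      have hyK : y ∈ Subgroup.closure ({y, a} : Set S) ⊔ frattini S :=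
        Subgroup.mem_sup_left (Subgroup.subset_closure (Set.mem_insert _ _))
      have haK : a ∈ Subgroup.closure ({y, a} : Set S) ⊔ frattini S :=
        Subgroup.mem_sup_left (Subgroup.subset_closure (Set.mem_insert_of_mem _ rfl))
      intro t ht
      rcases ht with rfl | ht
      · exact haK
      · rw [Set.mem_singleton_iff] at ht
        subst ht
        have e1 : t = ((t ^ 2) ^ q')⁻¹ * ((a ^ p)⁻¹ * (a ^ p * t ^ q)) := by
          rw [hq', zpow_add_one, zpow_mul, zpow_ofNat]; group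
        rw [SetLike.mem_coe, e1]
        refine Subgroup.mul_mem _ (Subgroup.inv_mem _
          (Subgroup.mem_sup_right (Subgroup.zpow_mem _ hΦb q'))) ?_
        refine Subgroup.mul_mem _ (Subgroup.inv_mem _ (Subgroup.zpow_mem _ haK p)) ?_
        rw [← hydef]; exact hyK
    exact C.fin y a hgen' hzy

end C2Ctx

/-- Class at most two with derived subgroup of exponent two. -/
theorem class2_case [Finite S] (h2 : IsPGroup 2 S) (hr : Cfsg.SectionalPRankLE 2 2 S) (a b : S)
    (hgen : Subgroup.closure ({a, b} : Set S) = ⊤)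
    (hsq : ∀ s ∈ commutator S, s ^ 2 = 1)
    (hcen : ∀ s ∈ commutator S, ∀ g : S, s * g = g * s) : Cfsg.IsMetacyclic S := by
  classical
  haveI : Fact (Nat.Prime 2) := ⟨Nat.prime_two⟩
  obtain ⟨z, hzdef⟩ : ∃ z : S, z = ⁅a, b⁆ := ⟨_, rfl⟩
  have hzS' : z ∈ commutator S := by
    rw [hzdef, commutator_def]
    exact Subgroup.commutator_mem_commutator (Subgroup.mem_top a) (Subgroup.mem_top b)
  have hz2 : z ^ 2 = 1 := hsq z hzS'
  have hzc : ∀ g : S, z * g = g * z := hcen z hzS'
  -- the derived subgroup is generated by `z`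
  obtain ⟨C, hCdef⟩ : ∃ C : Subgroup S, C = Subgroup.zpowers z := ⟨_, rfl⟩
  haveI hCn : C.Normal := by
    refine ⟨fun n hn g => ?_⟩
    rw [hCdef] at hn
    obtain ⟨j, rfl⟩ := Subgroup.mem_zpowers_iff.mp hn
    have hc : Commute z g := hzc g
    have : g * z ^ j * g⁻¹ = z ^ j := by
      rw [← (hc.zpow_left j).eq]; group
    rw [this, hCdef]; exact hn
  have hS' : commutator S ≤ Subgroup.zpowers z := by
    rw [← hCdef]
    have hαβ : Commute (QuotientGroup.mk a : S ⧸ C) (QuotientGroup.mk b : S ⧸ C) := by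
      rw [← commutatorElement_eq_one_iff_commute]
      have h1 : (QuotientGroup.mk ⁅a, b⁆ : S ⧸ C) = 1 := by
        rw [QuotientGroup.eq_one_iff, ← hzdef, hCdef]; exact Subgroup.mem_zpowers z
      have h3 : (QuotientGroup.mk ⁅a, b⁆ : S ⧸ C) =
          ⁅(QuotientGroup.mk a : S ⧸ C), (QuotientGroup.mk b : S ⧸ C)⁆ :=
        map_commutatorElement (QuotientGroup.mk' C) a b
      rw [← h3]; exact h1
    have hcl : Subgroup.closure ({(QuotientGroup.mk a : S ⧸ C), (QuotientGroup.mk b : S ⧸ C)} :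
        Set (S ⧸ C)) = ⊤ := by
      have := congrArg (Subgroup.map (QuotientGroup.mk' C)) hgen
      rw [MonoidHom.map_closure, Subgroup.map_top_of_surjective _ (QuotientGroup.mk'_surjective C),
        Set.image_pair] at this
      exact this
    have hcenter : Subgroup.center (S ⧸ C) = ⊤ := by
      rw [eq_top_iff, ← hcl, Subgroup.closure_le]
      have hK1 : ∀ x : S ⧸ C, x * (QuotientGroup.mk a : S ⧸ C) = QuotientGroup.mk a * x := by
        intro x
        have hx : x ∈ Subgroup.centralizer ({(QuotientGroup.mk a : S ⧸ C)} : Set (S ⧸ C)) := by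
          have hle : Subgroup.closure ({(QuotientGroup.mk a : S ⧸ C),
              (QuotientGroup.mk b : S ⧸ C)} : Set (S ⧸ C)) ≤
              Subgroup.centralizer ({(QuotientGroup.mk a : S ⧸ C)} : Set (S ⧸ C)) := by
            rw [Subgroup.closure_le]
            intro t ht
            rw [SetLike.mem_coe, Subgroup.mem_centralizer_iff]
            intro s hs
            rw [Set.mem_singleton_iff] at hs
            subst hs
            rcases ht with rfl | ht
            · rfl
            · rw [Set.mem_singleton_iff] at ht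
              subst ht
              exact hαβ.eq
          apply hle
          rw [hcl]; trivial
        rw [Subgroup.mem_centralizer_iff] at hx
        exact (hx _ rfl).symm
      have hK2 : ∀ x : S ⧸ C, x * (QuotientGroup.mk b : S ⧸ C) = QuotientGroup.mk b * x := by
        intro x
        have hx : x ∈ Subgroup.centralizer ({(QuotientGroup.mk b : S ⧸ C)} : Set (S ⧸ C)) := by
          have hle : Subgroup.closure ({(QuotientGroup.mk a : S ⧸ C),
              (QuotientGroup.mk b : S ⧸ C)} : Set (S ⧸ C)) ≤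
              Subgroup.centralizer ({(QuotientGroup.mk b : S ⧸ C)} : Set (S ⧸ C)) := by
            rw [Subgroup.closure_le]
            intro t ht
            rw [SetLike.mem_coe, Subgroup.mem_centralizer_iff]
            intro s hs
            rw [Set.mem_singleton_iff] at hs
            subst hs
            rcases ht with rfl | ht
            · exact hαβ.eq.symm
            · rw [Set.mem_singleton_iff] at ht
              subst ht
              rfl
          apply hle
          rw [hcl]; trivial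
        rw [Subgroup.mem_centralizer_iff] at hx
        exact (hx _ rfl).symm
      intro t ht
      rw [SetLike.mem_coe, Subgroup.mem_center_iff]
      rcases ht with rfl | ht
      · exact hK1
      · rw [Set.mem_singleton_iff] at ht
        subst ht
        exact hK2
    rw [commutator_def, Subgroup.commutator_le]
    intro g _ h _
    rw [← QuotientGroup.eq_one_iff (N := C)]
    have h3 : (QuotientGroup.mk ⁅g, h⁆ : S ⧸ C) =
        ⁅(QuotientGroup.mk g : S ⧸ C), (QuotientGroup.mk h : S ⧸ C)⁆ :=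
      map_commutatorElement (QuotientGroup.mk' C) g h
    rw [h3, commutatorElement_eq_one_iff_mul_comm]
    have hg : (QuotientGroup.mk g : S ⧸ C) ∈ Subgroup.center (S ⧸ C) := by rw [hcenter]; trivial
    exact (Subgroup.mem_center_iff.mp hg _).symm
  by_cases hz1 : z = 1
  · apply metacyclic_of_comm_le a b hgen
    refine hS'.trans ?_
    rw [Subgroup.zpowers_le, hz1]; exact Subgroup.one_mem _
  have C2 : C2Ctx S z := ⟨h2, hr, hz2, hz1, hzc, hS'⟩
  have hab : a * b = b * a * z := by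
    have h := hzdef
    rw [commutatorElement_def] at h
    calc a * b = (a * b * a⁻¹ * b⁻¹) * (b * a) := by group
      _ = z * (b * a) := by rw [← h]
      _ = b * a * z := hzc (b * a)
  have hba : b * a = a * b * z := C2.swap hab
  have hgen_ba : Subgroup.closure ({b, a} : Set S) = ⊤ := by rw [Set.pair_comm]; exact hgen
  have hgen_aba : Subgroup.closure ({a * b, a} : Set S) = ⊤ := by
    rw [eq_top_iff, ← hgen, Subgroup.closure_le]
    intro t ht
    rcases ht with rfl | ht
    · exact Subgroup.subset_closure (Set.mem_insert_of_mem _ rfl)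
    · rw [Set.mem_singleton_iff] at ht
      subst ht
      have e1 : t = a⁻¹ * (a * t) := by group
      have h5 : a⁻¹ * (a * t) ∈ Subgroup.closure ({a * t, a} : Set S) :=
        Subgroup.mul_mem _
          (Subgroup.inv_mem _ (Subgroup.subset_closure (Set.mem_insert_of_mem _ rfl)))
          (Subgroup.subset_closure (Set.mem_insert _ _))
      rw [SetLike.mem_coe]
      rwa [← e1] at h5
  have habsq : (a * b) ^ 2 = a ^ 2 * b ^ 2 * z := by
    calc (a * b) ^ 2 = a * (b * a) * b := by rw [pow_two]; group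
      _ = a * (a * b * z) * b := by rw [hba]
      _ = a * a * b * (z * b) := by group
      _ = a * a * b * (b * z) := by rw [hzc b]
      _ = a ^ 2 * b ^ 2 * z := by rw [pow_two, pow_two]; group
  have haba : (a * b) * a = a * (a * b) * z := by
    calc (a * b) * a = a * (b * a) := by group
      _ = a * (a * b * z) := by rw [hba]
      _ = a * (a * b) * z := by group
  -- the central subgroup `Z₀` and its squares
  obtain ⟨Z₀, hZ₀def⟩ : ∃ Z₀ : Subgroup S, Z₀ = Subgroup.closure ({a ^ 2, b ^ 2, z} : Set S) :=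
    ⟨_, rfl⟩
  have ha2cen : a ^ 2 ∈ Subgroup.center S :=
    Subgroup.mem_center_iff.mpr (fun g => (C2.sqc a g).symm)
  have hb2cen : b ^ 2 ∈ Subgroup.center S :=
    Subgroup.mem_center_iff.mpr (fun g => (C2.sqc b g).symm)
  have hzcen : z ∈ Subgroup.center S :=
    Subgroup.mem_center_iff.mpr (fun g => (hzc g).symm)
  have hZ₀cen : Z₀ ≤ Subgroup.center S := by
    rw [hZ₀def, Subgroup.closure_le]
    intro t ht
    simp only [Set.mem_insert_iff, Set.mem_singleton_iff] at ht
    rcases ht with rfl | rfl | rfl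
    · exact ha2cen
    · exact hb2cen
    · exact hzcen
  have hZ₀Φ : Z₀ ≤ frattini S := by
    rw [hZ₀def, Subgroup.closure_le]
    intro t ht
    simp only [Set.mem_insert_iff, Set.mem_singleton_iff] at ht
    rcases ht with rfl | rfl | rfl
    · exact Cfsg.Agent.helper1.pow_mem_frattini_of_isPGroup h2 a
    · exact Cfsg.Agent.helper1.pow_mem_frattini_of_isPGroup h2 b
    · exact Cfsg.Agent.helper1.commutator_le_frattini_of_isPGroup h2 hzS'
  have hZ₀c : ∀ w ∈ Z₀, ∀ g : S, w * g = g * w := by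
    intro w hw g
    exact (Subgroup.mem_center_iff.mp (hZ₀cen hw) g).symm
  let sqHom : ↥Z₀ →* S :=
    { toFun := fun w => (w : S) ^ 2
      map_one' := by simp
      map_mul' := fun w w' => by
        show ((w * w' : ↥Z₀) : S) ^ 2 = (w : S) ^ 2 * (w' : S) ^ 2
        rw [Subgroup.coe_mul]
        have hc : Commute (w : S) (w' : S) := hZ₀c w w.2 w'
        exact hc.mul_pow 2 }
  obtain ⟨N, hNdef⟩ : ∃ N : Subgroup S, N = sqHom.range := ⟨_, rfl⟩
  have hNmem : ∀ n : S, n ∈ N ↔ ∃ w ∈ Z₀, w ^ 2 = n := by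
    intro n
    rw [hNdef, MonoidHom.mem_range]
    constructor
    · rintro ⟨w, hw⟩
      exact ⟨w, w.2, hw⟩
    · rintro ⟨w, hw, hwn⟩
      exact ⟨⟨w, hw⟩, hwn⟩
  have hNc : ∀ n ∈ N, ∀ g : S, n * g = g * n := by
    intro n hn g
    obtain ⟨w, _, rfl⟩ := (hNmem n).mp hn
    exact C2.sqc w g
  have ha2Z : a ^ 2 ∈ Z₀ := by
    rw [hZ₀def]; exact Subgroup.subset_closure (by simp)
  have hb2Z : b ^ 2 ∈ Z₀ := by
    rw [hZ₀def]; exact Subgroup.subset_closure (by simp)
  have hrel := rank_relation hr N hNc z (a ^ 2) (b ^ 2) (hzc (a ^ 2)) (hzc (b ^ 2))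
    (C2.sqc a (b ^ 2)) (by rw [hz2]; exact Subgroup.one_mem _)
    ((hNmem _).mpr ⟨a ^ 2, ha2Z, rfl⟩) ((hNmem _).mpr ⟨b ^ 2, hb2Z, rfl⟩)
  rcases hrel with h1 | h1 | h1 | h1 | h1 | h1 | h1
  · -- z ∈ N
    obtain ⟨w, hw, hwz⟩ := (hNmem z).mp h1
    rw [hZ₀def] at hw
    obtain ⟨i, j, k, hwijk⟩ := mem_closure_three_central (a ^ 2) (b ^ 2) z ha2cen hb2cen hzcen w hw
    have hc1 : Commute ((a ^ 2) ^ i * (b ^ 2) ^ j) (z ^ k) := by
      have : Commute z ((a ^ 2) ^ i * (b ^ 2) ^ j) := hzc _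
      exact (this.zpow_left k).symm
    have hc2 : Commute ((a ^ 2) ^ i) ((b ^ 2) ^ j) := by
      have : Commute (a ^ 2) ((b ^ 2) ^ j) := C2.sqc a _
      exact this.zpow_left i
    have hzk : (z ^ k) ^ 2 = 1 := by
      rw [sq_zpow_eq, hz2, one_zpow]
    have hzeq : z = (a ^ 2) ^ (2 * i) * (b ^ 2) ^ (2 * j) := by
      rw [← hwz, hwijk, hc1.mul_pow, hc2.mul_pow, hzk, mul_one, sq_zpow_eq, sq_zpow_eq,
        ← sq_zpow_eq ((a ^ 2)), ← sq_zpow_eq (b ^ 2), ← zpow_natCast ((a ^ 2) ^ i) 2,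
        ← zpow_natCast ((b ^ 2) ^ j) 2, ← zpow_mul, ← zpow_mul, mul_comm i, mul_comm j]
      rfl
    exact C2.caseT1 a b hgen i j hzeq
  · -- a ^ 2 ∈ N
    obtain ⟨w, hw, hwz⟩ := (hNmem _).mp h1
    exact C2.caseT0 a b w hgen hab (hZ₀c w hw) (hZ₀Φ hw) hwz.symm
  · -- z * a ^ 2 ∈ N
    obtain ⟨w, hw, hwz⟩ := (hNmem _).mp h1
    apply C2.caseTz a b w hgen (hZ₀c w hw) (hZ₀Φ hw)
    rw [hwz, ← mul_assoc, C2.zz, one_mul]
  · -- b ^ 2 ∈ N
    obtain ⟨w, hw, hwz⟩ := (hNmem _).mp h1
    exact C2.caseT0 b a w hgen_ba hba (hZ₀c w hw) (hZ₀Φ hw) hwz.symm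
  · -- z * b ^ 2 ∈ N
    obtain ⟨w, hw, hwz⟩ := (hNmem _).mp h1
    apply C2.caseTz b a w hgen_ba (hZ₀c w hw) (hZ₀Φ hw)
    rw [hwz, ← mul_assoc, C2.zz, one_mul]
  · -- a ^ 2 * b ^ 2 ∈ N
    obtain ⟨w, hw, hwz⟩ := (hNmem _).mp h1
    apply C2.caseTz (a * b) a w hgen_aba (hZ₀c w hw) (hZ₀Φ hw)
    rw [habsq, hwz]
    exact (hzc _).symm
  · -- z * a ^ 2 * b ^ 2 ∈ N
    obtain ⟨w, hw, hwz⟩ := (hNmem _).mp h1
    apply C2.caseT0 (a * b) a w hgen_aba haba (hZ₀c w hw) (hZ₀Φ hw)
    rw [habsq, hwz]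
    calc a ^ 2 * b ^ 2 * z = z * (a ^ 2 * b ^ 2) := (hzc _).symm
      _ = z * a ^ 2 * b ^ 2 := by group

end Cfsg.Agent.helper7.Meta2
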