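import Mathlib
import Cfsg.Agent.Lib_helper7_Meta2c
import Cfsg.Agent.Lib_helper7_Meta2e

set_option autoImplicit false
set_option linter.style.haveILetI false
set_option linter.deprecated false
set_option linter.unusedVariables false
set_option linter.unusedSectionVars false

/-!
# 2-groups of sectional rank at most 2 are metacyclic: the main induction
-/

open scoped commutatorElement

namespace Cfsg.Agent.helper7.Meta2

universe u

/-- the quotient by a central subgroup of order two is smaller, and inherits the hypotheses -/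
theorem quot_step {S : Type u} [Group S] [Finite S] (h2 : IsPGroup 2 S)
    (hr : Cfsg.SectionalPRankLE 2 2 S) (e : S) (hec : e ∈ Subgroup.center S)
    (he2 : orderOf e = 2) :
    ∃ (M : Subgroup S) (_ : M.Normal), M = Subgroup.zpowers e ∧
      Nat.card (S ⧸ M) < Nat.card S ∧ IsPGroup 2 (S ⧸ M) ∧
      Cfsg.SectionalPRankLE 2 2 (S ⧸ M) := by
  have hMn : (Subgroup.zpowers e).Normal := by
    refine ⟨fun n hn g => ?_⟩
    have hnc : n ∈ Subgroup.center S :=
      (Subgroup.zpowers_le.mpr hec) hn
    have h1 : g * n * g⁻¹ = n := by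
      have := Subgroup.mem_center_iff.mp hnc g
      rw [this]; group
    rw [h1]; exact hn
  refine ⟨Subgroup.zpowers e, hMn, rfl, ?_, h2.to_quotient _, ?_⟩
  · have hcard := Subgroup.card_eq_card_quotient_mul_card_subgroup (Subgroup.zpowers e)
    rw [Nat.card_zpowers, he2] at hcard
    have hpos : 0 < Nat.card (S ⧸ Subgroup.zpowers e) := Nat.card_pos
    omega
  · exact Cfsg.Agent.helper9.SecRank.sectional_of_surjective hr
      (QuotientGroup.mk' (Subgroup.zpowers e)) (QuotientGroup.mk'_surjective _)

/-- **Blackburn**: a finite 2-group all of whose sections have rank at most two is metacyclic. -/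
theorem main : ∀ (n : ℕ) (S : Type u) [Group S] [Finite S], Nat.card S = n → IsPGroup 2 S →
    Cfsg.SectionalPRankLE 2 2 S → Cfsg.IsMetacyclic S := by
  intro n
  induction n using Nat.strong_induction_on with
  | _ n ih =>
    intro S _ _ hn h2 hr
    obtain ⟨a, b, hgen⟩ := two_gen h2 hr
    by_cases hU₁ : sqSub S = ⊥
    · -- all squares of commutators are trivial
      have hsq : ∀ s ∈ commutator S, s ^ 2 = 1 := by
        intro s hs
        have h1 : s ^ 2 ∈ sqSub S := Subgroup.subset_closure ⟨s, hs, rfl⟩
        rw [hU₁, Subgroup.mem_bot] at h1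
        exact h1
      by_cases hU₂ : ⁅commutator S, (⊤ : Subgroup S)⁆ = ⊥
      · -- class two
        have hcen : ∀ s ∈ commutator S, ∀ g : S, s * g = g * s := by
          intro s hs g
          have h1 : ⁅s, g⁆ ∈ ⁅commutator S, (⊤ : Subgroup S)⁆ :=
            Subgroup.commutator_mem_commutator hs (Subgroup.mem_top g)
          rw [hU₂, Subgroup.mem_bot] at h1
          exact commutatorElement_eq_one_iff_mul_comm.mp h1
        exact class2_case h2 hr a b hgen hsq hcen
      · obtain ⟨e, heU, hec, he2⟩ :=
          central_invol_in_normal h2 ⁅commutator S, (⊤ : Subgroup S)⁆ hU₂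
        obtain ⟨M, hMn, hMe, hcard, h2M, hrM⟩ := quot_step h2 hr e hec he2
        haveI := hMn
        have hM : Cfsg.IsMetacyclic (S ⧸ M) :=
          ih (Nat.card (S ⧸ M)) (hn ▸ hcard) (S ⧸ M) rfl h2M hrM
        exact blackburn_step h2 e hec he2 M hMe hM (Or.inr ⟨hsq, heU⟩)
    · obtain ⟨e, heU, hec, he2⟩ := central_invol_in_normal h2 (sqSub S) hU₁
      obtain ⟨M, hMn, hMe, hcard, h2M, hrM⟩ := quot_step h2 hr e hec he2
      haveI := hMn
      have hM : Cfsg.IsMetacyclic (S ⧸ M) :=
        ih (Nat.card (S ⧸ M)) (hn ▸ hcard) (S ⧸ M) rfl h2M hrM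
      exact blackburn_step h2 e hec he2 M hMe hM (Or.inl heU)

end Cfsg.Agent.helper7.Meta2
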