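import Mathlib
import Cfsg.Agent.Lib_helper5_Simple
import Cfsg.Agent.Lib_helper11_O504a
import Cfsg.Agent.S0143

set_option autoImplicit false
set_option linter.style.haveILetI false
set_option linter.deprecated false
set_option linter.unusedVariables false
set_option linter.unusedSectionVars false

/-!
# No simple group of order 1440: general lemmas on fixed points of involutions
-/

namespace Cfsg.Agent.helper7.O1440

variable {G : Type*} [Group G] [Finite G]

/-- In a simple group of order `> 2`, an involution acting on a finite set fixes a number of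
points congruent to the size of the set modulo `4` (it acts as an even permutation). -/
theorem invol_fixed_mod_four [IsSimpleGroup G] (hG : 2 < Nat.card G) {α : Type*} [MulAction G α]
    [Finite α] (t : G) (ht : t * t = 1) :
    ∃ k : ℕ, Nat.card α = Nat.card {x : α // t • x = x} + 4 * k := by
  classical
  letI : Fintype α := Fintype.ofFinite _
  let θ := MulAction.toPermHom G α
  let s : G →* ℤˣ := Equiv.Perm.sign.comp θ
  have hsker : s.ker = ⊤ := by
    rcases s.normal_ker.eq_bot_or_eq_top with h | h
    · exfalso
      have hsinj : Function.Injective s := (MonoidHom.ker_eq_bot_iff s).mp h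
      have := Nat.card_le_card_of_injective s hsinj
      rw [Nat.card_eq_fintype_card (α := ℤˣ), Fintype.card_units_int] at this
      omega
    · exact h
  have hst : Equiv.Perm.sign (θ t) = 1 := by
    have : t ∈ s.ker := by rw [hsker]; trivial
    exact this
  have hσ : (θ t) ^ 2 = 1 := by
    rw [pow_two, ← map_mul, ht, map_one]
  have h1 := Equiv.Perm.sign_of_pow_two_eq_one hσ
  have h2 := Equiv.Perm.two_dvd_card_support hσ
  have h3 := Equiv.Perm.card_fixedPoints (θ t)
  rw [Equiv.Perm.sum_cycleType] at h3
  obtain ⟨u, hu⟩ := h2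
  have hle : (θ t).support.card ≤ Fintype.card α := Finset.card_le_univ _
  have hfix : Fintype.card ↑(Function.fixedPoints ⇑(θ t)) =
      Nat.card {x : α // t • x = x} := by
    rw [Fintype.card_eq_nat_card]
    rfl
  rw [hst] at h1
  have hev : Even ((Fintype.card α - Fintype.card (Function.fixedPoints ⇑(θ t))) / 2) := by
    have := h1.symm
    rwa [neg_one_pow_eq_one_iff_even (by decide)] at this
  obtain ⟨k, hk⟩ := hev
  refine ⟨k, ?_⟩
  rw [← hfix, Nat.card_eq_fintype_card]
  omega

/-- An element commuting with a Sylow `p`-subgroup fixes `≡ 1 (mod p)` Sylow `p`-subgroups. -/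
theorem sylow_fixed_mod (p : ℕ) [Fact p.Prime] (P : Sylow p G) (t : G)
    (hcomm : ∀ x ∈ (P : Subgroup G), x * t = t * x) :
    Nat.card {Q : Sylow p G // t • Q = Q} % p = 1 := by
  classical
  have hp : p.Prime := Fact.out
  let S : SubMulAction (↥(P : Subgroup G)) (Sylow p G) :=
    { carrier := {Q | t • Q = Q}
      smul_mem' := by
        intro x Q hQ
        show t • (x • Q) = x • Q
        have hx : (x • Q : Sylow p G) = (x : G) • Q := rfl
        rw [hx, smul_smul, ← hcomm x x.2, mul_smul]
        have hQ' : t • Q = Q := hQ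
        rw [hQ'] }
  have hmod := IsPGroup.card_modEq_card_fixedPoints (p := p) (G := ↥(P : Subgroup G)) P.2 (↥S)
  have hPS : P ∈ S := by
    show t • P = P
    rw [Sylow.smul_eq_iff_mem_normalizer]
    have : t ∈ Subgroup.centralizer ((P : Subgroup G) : Set G) := by
      rw [Subgroup.mem_centralizer_iff]
      intro x hx
      exact hcomm x hx
    exact Subgroup.centralizer_le_normalizer _ this
  have hone : Nat.card (MulAction.fixedPoints (↥(P : Subgroup G)) (↥S)) = 1 := by
    rw [Nat.card_eq_one_iff_unique]
    refine ⟨⟨?_⟩, ⟨⟨⟨P, hPS⟩, ?_⟩⟩⟩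
    · rintro ⟨⟨Q, hQS⟩, hQ⟩ ⟨⟨Q', hQ'S⟩, hQ'⟩
      have key : ∀ (R : Sylow p G) (hRS : R ∈ S),
          (⟨R, hRS⟩ : ↥S) ∈ MulAction.fixedPoints (↥(P : Subgroup G)) (↥S) → R = P := by
        intro R hRS hR
        have hR' : R ∈ MulAction.fixedPoints (↥(P : Subgroup G)) (Sylow p G) := by
          intro x
          have := hR x
          exact congrArg Subtype.val this
        rw [P.2.sylow_mem_fixedPoints_iff] at hR'
        exact Sylow.ext (P.3 R.2 hR')
      have e1 := key Q hQS hQ
      have e2 := key Q' hQ'S hQ'
      subst e1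
      subst e2
      rfl
    · intro x
      apply Subtype.ext
      show x • P = P
      have hx : (x • P : Sylow p G) = (x : G) • P := rfl
      rw [hx, Sylow.smul_eq_iff_mem_normalizer]
      exact Subgroup.le_normalizer x.2
  rw [hone] at hmod
  have hcard : Nat.card (↥S) = Nat.card {Q : Sylow p G // t • Q = Q} := rfl
  rw [hcard] at hmod
  have := hmod
  rw [Nat.ModEq, Nat.mod_eq_of_lt hp.one_lt] at this
  exact this

end Cfsg.Agent.helper7.O1440
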