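import Mathlib
import Cfsg.Agent.Lib_helper7_O1440a

set_option autoImplicit false
set_option linter.style.haveILetI false
set_option linter.deprecated false
set_option linter.unusedVariables false
set_option linter.unusedSectionVars false

/-!
# No simple group of order 1440: Sylow 5-subgroups inverted by an involution
-/

namespace Cfsg.Agent.helper7.O1440

variable {G : Type*} [Group G] [Finite G]

/-- class size. -/
theorem ncard_conj_class (a : G) :
    {w : G | ∃ g : G, g * a * g⁻¹ = w}.ncard = (Subgroup.centralizer ({a} : Set G)).index := by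
  have h1 := MulAction.index_stabilizer (ConjAct G) a
  rw [ConjAct.stabilizer_eq_centralizer] at h1
  have h2 : MulAction.orbit (ConjAct G) a = {w : G | ∃ g : G, g * a * g⁻¹ = w} := by
    ext w
    rw [ConjAct.mem_orbit_conjAct, isConj_comm, isConj_iff]
    rfl
  rw [h2] at h1
  exact h1.symm

variable [hp5 : Fact (Nat.Prime 5)]

theorem sylow_eq_of_common (hsyl : ∀ Q : Sylow 5 G, Nat.card Q = 5) (Q Q' : Sylow 5 G) (y : G)
    (hy : y ∈ (Q : Subgroup G)) (hy' : y ∈ (Q' : Subgroup G)) (hy1 : y ≠ 1) : Q = Q' := by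
  have hd : Nat.card ((Q : Subgroup G) ⊓ (Q' : Subgroup G) : Subgroup G) ∣ 5 := by
    have := Subgroup.card_dvd_of_le
      (inf_le_left : (Q : Subgroup G) ⊓ (Q' : Subgroup G) ≤ (Q : Subgroup G))
    rwa [hsyl Q] at this
  rcases (Nat.dvd_prime (by norm_num : Nat.Prime 5)).mp hd with h | h
  · exfalso
    have hbot := Subgroup.card_eq_one.mp h
    have hmem : y ∈ ((Q : Subgroup G) ⊓ (Q' : Subgroup G) : Subgroup G) :=
      Subgroup.mem_inf.mpr ⟨hy, hy'⟩
    rw [hbot, Subgroup.mem_bot] at hmem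
    exact hy1 hmem
  · have e1 : ((Q : Subgroup G) ⊓ (Q' : Subgroup G) : Subgroup G) = Q :=
      Subgroup.eq_of_le_of_card_ge inf_le_left (by rw [hsyl Q, h])
    have e2 : ((Q : Subgroup G) ⊓ (Q' : Subgroup G) : Subgroup G) = Q' :=
      Subgroup.eq_of_le_of_card_ge inf_le_right (by rw [hsyl Q', h])
    exact Sylow.ext (e1.symm.trans e2)

theorem sylow_comm (hsyl : ∀ Q : Sylow 5 G, Nat.card Q = 5) (Q : Sylow 5 G) (a b : G)
    (ha : a ∈ (Q : Subgroup G)) (hb : b ∈ (Q : Subgroup G)) : a * b = b * a := by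
  haveI : IsCyclic ↥(Q : Subgroup G) := isCyclic_of_prime_card (hsyl Q)
  obtain ⟨g, hg⟩ := IsCyclic.exists_generator (α := ↥(Q : Subgroup G))
  obtain ⟨i, hi⟩ := Subgroup.mem_zpowers_iff.mp (hg ⟨a, ha⟩)
  obtain ⟨j, hj⟩ := Subgroup.mem_zpowers_iff.mp (hg ⟨b, hb⟩)
  have ha' : a = ((g ^ i : ↥(Q : Subgroup G)) : G) := by rw [hi]
  have hb' : b = ((g ^ j : ↥(Q : Subgroup G)) : G) := by rw [hj]
  rw [ha', hb', ← Subgroup.coe_mul, ← Subgroup.coe_mul, ← zpow_add, ← zpow_add, add_comm]

/-- An involution normalizing but not centralizing a Sylow 5-subgroup of order 5 inverts it. -/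
theorem inverts_of_not_le (t : G) (ht : t * t = 1) (hsyl : ∀ Q : Sylow 5 G, Nat.card Q = 5)
    (Q : Sylow 5 G) (hfix : t • Q = Q)
    (hnle : ¬ (Q : Subgroup G) ≤ Subgroup.centralizer ({t} : Set G)) :
    ∀ y ∈ (Q : Subgroup G), t * y * t = y⁻¹ := by
  have htinv : t⁻¹ = t := inv_eq_of_mul_eq_one_right ht
  have hnorm : ∀ y ∈ (Q : Subgroup G), t * y * t ∈ (Q : Subgroup G) := by
    intro y hy
    have hN := Sylow.smul_eq_iff_mem_normalizer.mp hfix
    have := (Subgroup.mem_normalizer_iff.mp hN y).mp hy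
    rwa [htinv] at this
  have hd : Nat.card ((Q : Subgroup G) ⊓ Subgroup.centralizer ({t} : Set G) : Subgroup G) ∣ 5 := by
    have := Subgroup.card_dvd_of_le
      (inf_le_left : (Q : Subgroup G) ⊓ Subgroup.centralizer ({t} : Set G) ≤ (Q : Subgroup G))
    rwa [hsyl Q] at this
  have hbot : ((Q : Subgroup G) ⊓ Subgroup.centralizer ({t} : Set G) : Subgroup G) = ⊥ := by
    rcases (Nat.dvd_prime (by norm_num : Nat.Prime 5)).mp hd with h | h
    · exact Subgroup.card_eq_one.mp h
    · exfalso
      apply hnle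
      have e1 : ((Q : Subgroup G) ⊓ Subgroup.centralizer ({t} : Set G) : Subgroup G) = Q :=
        Subgroup.eq_of_le_of_card_ge inf_le_left (by rw [hsyl Q, h])
      rw [← e1]
      exact inf_le_right
  intro y hy
  have hw := hnorm y hy
  have hcomm := sylow_comm hsyl Q (t * y * t) y hw hy
  have hz : y * (t * y * t) ∈
      ((Q : Subgroup G) ⊓ Subgroup.centralizer ({t} : Set G) : Subgroup G) := by
    refine Subgroup.mem_inf.mpr ⟨(Q : Subgroup G).mul_mem hy hw, ?_⟩
    rw [Subgroup.mem_centralizer_iff]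
    intro s hs
    rw [Set.mem_singleton_iff] at hs
    subst hs
    have e1 : s * (y * (s * y * s)) = y * s * y := by
      rw [← hcomm]
      calc s * (s * y * s * y) = (s * s) * y * s * y := by group
        _ = y * s * y := by rw [ht, one_mul]
    have e2 : y * (s * y * s) * s = y * s * y := by
      calc y * (s * y * s) * s = y * s * y * (s * s) := by group
        _ = y * s * y := by rw [ht, mul_one]
    rw [e1, e2]
  rw [hbot, Subgroup.mem_bot] at hz
  exact eq_inv_of_mul_eq_one_right hz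

/-- The involution `t * y` is conjugate to `t` when `t` inverts the element `y` of order 5. -/
theorem conj_of_inverts (t y : G) (ht : t * t = 1) (hy5 : y ^ 5 = 1) (hinv : t * y * t = y⁻¹) :
    y ^ 2 * t * (y ^ 2)⁻¹ = t * y := by
  have e1 : y * t = t * y⁻¹ := by
    calc y * t = (t * t) * y * t := by rw [ht, one_mul]
      _ = t * (t * y * t) := by group
      _ = t * y⁻¹ := by rw [hinv]
  have e2 : y ^ 2 * t = t * (y⁻¹) ^ 2 := by
    calc y ^ 2 * t = y * (y * t) := by rw [pow_two, mul_assoc]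
      _ = y * (t * y⁻¹) := by rw [e1]
      _ = (y * t) * y⁻¹ := by group
      _ = t * y⁻¹ * y⁻¹ := by rw [e1]
      _ = t * (y⁻¹) ^ 2 := by group
  have e3 : (y⁻¹) ^ 2 * (y ^ 2)⁻¹ = y := by
    calc (y⁻¹) ^ 2 * (y ^ 2)⁻¹ = (y ^ 5)⁻¹ * y := by group
      _ = y := by rw [hy5, inv_one, one_mul]
  rw [e2, mul_assoc, e3]

/-- The number of Sylow 5-subgroups normalized by an involution `t` is at most the number of
those centralized by `t`, plus `b` with `4 b + 1 ≤ |G : C(t)|`. -/
theorem fixed_le (t : G) (ht : t * t = 1) (hsyl : ∀ Q : Sylow 5 G, Nat.card Q = 5) :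
    ∃ b : ℕ, 4 * b + 1 ≤ (Subgroup.centralizer ({t} : Set G)).index ∧
      Nat.card {Q : Sylow 5 G // t • Q = Q} ≤
        Nat.card {Q : Sylow 5 G // (Q : Subgroup G) ≤ Subgroup.centralizer ({t} : Set G)} + b := by
  classical
  letI : Fintype G := Fintype.ofFinite _
  letI : Fintype (Sylow 5 G) := Fintype.ofFinite _
  obtain ⟨D, hD⟩ : ∃ D : Subgroup G, D = Subgroup.centralizer ({t} : Set G) := ⟨_, rfl⟩
  rw [← hD]
  let F2 : Finset (Sylow 5 G) :=
    Finset.univ.filter (fun Q => t • Q = Q ∧ ¬ (Q : Subgroup G) ≤ D)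
  let B : Sylow 5 G → Finset G := fun Q =>
    Finset.univ.filter (fun y : G => y ∈ (Q : Subgroup G) ∧ y ≠ 1)
  have hB : ∀ Q : Sylow 5 G, (B Q).card = 4 := by
    intro Q
    have h5 : (Finset.univ.filter (fun y : G => y ∈ (Q : Subgroup G))).card = 5 := by
      rw [← Fintype.card_subtype, ← Nat.card_eq_fintype_card]
      exact hsyl Q
    have hBQ : B Q = (Finset.univ.filter (fun y : G => y ∈ (Q : Subgroup G))).erase 1 := by
      ext y
      simp only [B, Finset.mem_filter, Finset.mem_univ, true_and, Finset.mem_erase]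
      exact and_comm
    rw [hBQ, Finset.card_erase_of_mem (by simp [one_mem]), h5]
  have hdisj : ∀ Q ∈ F2, ∀ Q' ∈ F2, Q ≠ Q' → Disjoint (B Q) (B Q') := by
    intro Q _ Q' _ hne
    rw [Finset.disjoint_left]
    intro y hy hy'
    simp only [B, Finset.mem_filter, Finset.mem_univ, true_and] at hy hy'
    exact hne (sylow_eq_of_common hsyl Q Q' y hy.1 hy'.1 hy.2)
  have hS : (F2.biUnion B).card = 4 * F2.card := by
    rw [Finset.card_biUnion hdisj, Finset.sum_congr rfl (fun Q _ => hB Q), Finset.sum_const,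
      smul_eq_mul, mul_comm]
  -- the image
  let T : Finset G := insert t ((F2.biUnion B).image (fun y => t * y))
  have hTcard : T.card = 4 * F2.card + 1 := by
    rw [Finset.card_insert_of_notMem, Finset.card_image_of_injective _ (mul_right_injective t), hS]
    intro hmem
    rw [Finset.mem_image] at hmem
    obtain ⟨y, hy, hty⟩ := hmem
    rw [Finset.mem_biUnion] at hy
    obtain ⟨Q, _, hyQ⟩ := hy
    simp only [B, Finset.mem_filter, Finset.mem_univ, true_and] at hyQ
    apply hyQ.2
    have : t * y = t * 1 := by rw [hty, mul_one]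
    exact mul_left_cancel this
  have hTsub : (T : Set G) ⊆ {w : G | ∃ g : G, g * t * g⁻¹ = w} := by
    intro w hw
    rw [Finset.mem_coe, Finset.mem_insert] at hw
    rcases hw with rfl | hw
    · exact ⟨1, by group⟩
    · rw [Finset.mem_image] at hw
      obtain ⟨y, hy, rfl⟩ := hw
      rw [Finset.mem_biUnion] at hy
      obtain ⟨Q, hQ, hyQ⟩ := hy
      simp only [B, Finset.mem_filter, Finset.mem_univ, true_and] at hyQ
      simp only [F2, Finset.mem_filter, Finset.mem_univ, true_and] at hQ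
      have hinv := inverts_of_not_le t ht hsyl Q hQ.1 (by rw [← hD]; exact hQ.2) y hyQ.1
      have hy5 : y ^ 5 = 1 := by
        have := pow_card_eq_one' (G := ↥(Q : Subgroup G)) (x := ⟨y, hyQ.1⟩)
        rw [hsyl Q] at this
        exact congrArg Subtype.val this
      exact ⟨y ^ 2, conj_of_inverts t y ht hy5 hinv⟩
  have hle : T.card ≤ D.index := by
    rw [hD, ← ncard_conj_class t, ← Set.ncard_coe_finset T]
    exact Set.ncard_le_ncard hTsub (Set.toFinite _)
  refine ⟨F2.card, by rw [← hTcard]; exact hle, ?_⟩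
  rw [Nat.card_eq_fintype_card, Nat.card_eq_fintype_card, Fintype.card_subtype,
    Fintype.card_subtype]
  have hsub : Finset.univ.filter (fun Q : Sylow 5 G => t • Q = Q) ⊆
      Finset.univ.filter (fun Q : Sylow 5 G => (Q : Subgroup G) ≤ D) ∪ F2 := by
    intro Q hQ
    simp only [Finset.mem_filter, Finset.mem_univ, true_and] at hQ
    simp only [F2, Finset.mem_union, Finset.mem_filter, Finset.mem_univ, true_and]
    by_cases h : (Q : Subgroup G) ≤ D
    · exact Or.inl h
    · exact Or.inr ⟨hQ, h⟩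
  exact (Finset.card_le_card hsub).trans (Finset.card_union_le _ _)

end Cfsg.Agent.helper7.O1440
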