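import Mathlib
import Cfsg.Agent.Lib_helper7_O1440b

set_option autoImplicit false
set_option linter.style.haveILetI false
set_option linter.deprecated false
set_option linter.unusedVariables false
set_option linter.unusedSectionVars false

/-!
# No simple group of order 1440: centralizers of involutions commuting with a Sylow 5-subgroup
-/

namespace Cfsg.Agent.helper7.O1440

open Cfsg.Agent.helper5

variable {G : Type*} [Group G] [Finite G]

variable [hp5 : Fact (Nat.Prime 5)]

/-- Sylow subgroups of `G` contained in `D` inject into the Sylow subgroups of `D`. -/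
theorem card_le_sylow_sub (D : Subgroup G) :
    Nat.card {Q : Sylow 5 G // (Q : Subgroup G) ≤ D} ≤ Nat.card (Sylow 5 ↥D) := by
  apply Nat.card_le_card_of_injective (fun Q => Q.1.subtype Q.2)
  rintro ⟨Q, hQ⟩ ⟨Q', hQ'⟩ hQQ'
  have h1 : ((Q.subtype hQ : Sylow 5 ↥D) : Subgroup ↥D) = ((Q'.subtype hQ' : Sylow 5 ↥D) : Subgroup ↥D) :=
    congrArg (fun R : Sylow 5 ↥D => (R : Subgroup ↥D)) hQQ'
  rw [Sylow.coe_subtype, Sylow.coe_subtype, Subgroup.subgroupOf_inj, inf_eq_left.mpr hQ,
    inf_eq_left.mpr hQ'] at h1
  exact Subtype.ext (Sylow.ext h1)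

variable [IsSimpleGroup G]

theorem nonab (h : Nat.card G = 1440) : ¬ ∀ a b : G, a * b = b * a := by
  obtain ⟨a, b, hab⟩ := nonabelian_of_card_not_prime (G := G) (by rw [h]; norm_num)
  intro hc
  exact hab (hc a b)

/-- An involution commuting with a Sylow 5-subgroup normalizes at least 16 of the 36 Sylow
5-subgroups. -/
theorem sixteen_le_fixed (h : Nat.card G = 1440) (hn : Nat.card (Sylow 5 G) = 36) (P : Sylow 5 G)
    (t : G) (ht : t * t = 1) (hcomm : ∀ x ∈ (P : Subgroup G), x * t = t * x) :
    16 ≤ Nat.card {Q : Sylow 5 G // t • Q = Q} := by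
  obtain ⟨k, hk⟩ := invol_fixed_mod_four (G := G) (by rw [h]; norm_num) (α := Sylow 5 G) t ht
  have h5 := sylow_fixed_mod 5 P t hcomm
  rw [hn] at hk
  omega

/-- The centralizer of an involution `t ∈ C(P)` lies in `N(P)`, provided `20 ∣ |N(P) ∩ C(t)|`. -/
theorem cent_le_norm (h : Nat.card G = 1440) (P : Sylow 5 G)
    (hsyl : ∀ Q : Sylow 5 G, Nat.card Q = 5)
    (hN : Nat.card (Subgroup.normalizer ((P : Subgroup G) : Set G)) = 40)
    (hn : Nat.card (Sylow 5 G) = 36)
    (t : G) (ht : t * t = 1) (ht1 : t ≠ 1)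
    (htC : t ∈ Subgroup.centralizer ((P : Subgroup G) : Set G))
    (hm20 : 20 ∣ Nat.card (Subgroup.normalizer ((P : Subgroup G) : Set G) ⊓
      Subgroup.centralizer ({t} : Set G) : Subgroup G)) :
    Subgroup.centralizer ({t} : Set G) ≤ Subgroup.normalizer ((P : Subgroup G) : Set G) := by
  classical
  obtain ⟨D, hD⟩ : ∃ D : Subgroup G, D = Subgroup.centralizer ({t} : Set G) := ⟨_, rfl⟩
  obtain ⟨N, hNdef⟩ : ∃ N : Subgroup G, N = Subgroup.normalizer ((P : Subgroup G) : Set G) :=
    ⟨_, rfl⟩
  rw [← hD, ← hNdef] at hm20 ⊢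
  rw [← hNdef] at hN
  have hcomm : ∀ x ∈ (P : Subgroup G), x * t = t * x := Subgroup.mem_centralizer_iff.mp htC
  have hPD : (P : Subgroup G) ≤ D := by
    intro x hx
    rw [hD, Subgroup.mem_centralizer_iff]
    intro y hy
    rw [Set.mem_singleton_iff] at hy
    subst hy
    exact (hcomm x hx).symm
  obtain ⟨m, hm⟩ : ∃ m, Nat.card (N ⊓ D : Subgroup G) = m := ⟨_, rfl⟩
  rw [hm] at hm20
  have hm40 : m ∣ 40 := by
    rw [← hm, ← hN]
    exact Subgroup.card_dvd_of_le inf_le_left
  have hm_cases : m = 20 ∨ m = 40 := by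
    have hle := Nat.le_of_dvd (by norm_num) hm40
    interval_cases m <;> omega
  let P' : Sylow 5 ↥D := P.subtype hPD
  obtain ⟨hmod, -, hmul⟩ := sylow_count_facts P'
  have hnorm : Subgroup.normalizer ((P' : Subgroup ↥D) : Set ↥D) = N.subgroupOf D := by
    have h1 : (P' : Subgroup ↥D) = (P : Subgroup G).subgroupOf D := Sylow.coe_subtype P hPD
    rw [h1, hNdef]
    exact (Subgroup.subgroupOf_normalizer_eq hPD).symm
  rw [hnorm, card_subgroupOf_eq_card_inf, hm] at hmul
  obtain ⟨n, hn'⟩ : ∃ n, Nat.card (Sylow 5 ↥D) = n := ⟨_, rfl⟩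
  rw [hn'] at hmod hmul
  have hDcard := Subgroup.card_mul_index D
  rw [h] at hDcard
  have hDdvd : Nat.card D ∣ 1440 := ⟨_, hDcard.symm⟩
  rw [← hmul] at hDdvd
  have hnab := nonab h
  have hfinal : n = 1 := by
    rcases hm_cases with rfl | rfl
    · have hn72 : n ∣ 72 := by
        have : n * 20 ∣ 72 * 20 := by simpa using hDdvd
        exact Nat.dvd_of_mul_dvd_mul_right (by norm_num) this
      have hle := Nat.le_of_dvd (by norm_num) hn72
      have hcases : n = 1 ∨ n = 6 ∨ n = 36 := by
        interval_cases n <;> omega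
      rcases hcases with rfl | rfl | rfl
      · rfl
      · exfalso
        have hidx : D.index = 12 := by
          rw [← hmul] at hDcard
          omega
        obtain ⟨b, hb, hfb⟩ := fixed_le t ht hsyl
        rw [← hD, hidx] at hb
        rw [← hD] at hfb
        have ha := card_le_sylow_sub D
        rw [hn'] at ha
        have h16 := sixteen_le_fixed h hn P t ht hcomm
        omega
      · exfalso
        have hidx : D.index = 2 ^ 1 := by
          rw [← hmul] at hDcard
          norm_num at hDcard ⊢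
          omega
        rw [hD] at hidx
        exact Cfsg.Agent.S0143.no_prime_power_class hnab 2 1 (by norm_num) t ht1 hidx
    · have hn36 : n ∣ 36 := by
        have : n * 40 ∣ 36 * 40 := by simpa using hDdvd
        exact Nat.dvd_of_mul_dvd_mul_right (by norm_num) this
      have hle := Nat.le_of_dvd (by norm_num) hn36
      have hcases : n = 1 ∨ n = 6 ∨ n = 36 := by
        interval_cases n <;> omega
      rcases hcases with rfl | rfl | rfl
      · rfl
      · exfalso
        have hidx : D.index = 6 := by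
          rw [← hmul] at hDcard
          omega
        have hDtop : D ≠ ⊤ := by
          intro htop
          rw [htop, Subgroup.index_top] at hidx
          omega
        have hdvd := Cfsg.Agent.helper11.O504.card_dvd_factorial_index D hDtop
        rw [h, hidx] at hdvd
        norm_num [Nat.factorial] at hdvd
      · exfalso
        have hidx : D.index = 2 ^ 0 := by
          rw [← hmul] at hDcard
          norm_num at hDcard ⊢
          omega
        rw [hD] at hidx
        exact Cfsg.Agent.S0143.no_prime_power_class hnab 2 0 (by norm_num) t ht1 hidx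
  subst hfinal
  rw [one_mul] at hmul
  have heq : (N ⊓ D : Subgroup G) = D :=
    Subgroup.eq_of_le_of_card_ge inf_le_right (by rw [hm, hmul])
  rw [← heq]
  exact inf_le_left

/-- The centralizer of an involution `t ∈ C(P)` is not all of `N(P)`. -/
theorem cent_ne_norm (h : Nat.card G = 1440) (P : Sylow 5 G)
    (hsyl : ∀ Q : Sylow 5 G, Nat.card Q = 5)
    (hN : Nat.card (Subgroup.normalizer ((P : Subgroup G) : Set G)) = 40)
    (hn : Nat.card (Sylow 5 G) = 36)
    (t : G) (ht : t * t = 1)
    (htC : t ∈ Subgroup.centralizer ((P : Subgroup G) : Set G))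
    (heq : Subgroup.centralizer ({t} : Set G) = Subgroup.normalizer ((P : Subgroup G) : Set G)) :
    False := by
  classical
  have hcomm : ∀ x ∈ (P : Subgroup G), x * t = t * x := Subgroup.mem_centralizer_iff.mp htC
  obtain ⟨b, hb, hfb⟩ := fixed_le t ht hsyl
  have h16 := sixteen_le_fixed h hn P t ht hcomm
  have hidx : (Subgroup.centralizer ({t} : Set G)).index = 36 := by
    have := Subgroup.card_mul_index (Subgroup.centralizer ({t} : Set G))
    rw [heq, hN, h] at this
    rw [heq]
    omega
  rw [hidx] at hb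
  have ha : Nat.card {Q : Sylow 5 G // (Q : Subgroup G) ≤ Subgroup.centralizer ({t} : Set G)} ≤ 1 := by
    rw [Finite.card_le_one_iff_subsingleton]
    have key : ∀ Q : Sylow 5 G, (Q : Subgroup G) ≤ Subgroup.centralizer ({t} : Set G) → Q = P := by
      intro Q hQ
      rw [heq] at hQ
      have hinf : (Q : Subgroup G) ⊓ Subgroup.normalizer ((P : Subgroup G) : Set G) =
          (Q : Subgroup G) ⊓ (P : Subgroup G) := Q.2.inf_normalizer_sylow P
      rw [inf_eq_left.mpr hQ] at hinf
      have hle2 : (Q : Subgroup G) ≤ (P : Subgroup G) := inf_eq_left.mp hinf.symm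
      apply Sylow.ext
      apply Subgroup.eq_of_le_of_card_ge hle2
      rw [hsyl, hsyl]
    refine ⟨?_⟩
    rintro ⟨Q, hQ⟩ ⟨Q', hQ'⟩
    apply Subtype.ext
    show Q = Q'
    rw [key Q hQ, key Q' hQ']
  omega

end Cfsg.Agent.helper7.O1440
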