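import Mathlib
import Cfsg.Agent.Lib_helper7_O1440c

set_option autoImplicit false
set_option linter.style.haveILetI false
set_option linter.deprecated false
set_option linter.unusedVariables false
set_option linter.unusedSectionVars false

/-!
# No simple group of order 1440: the case of 36 Sylow 5-subgroups
-/

namespace Cfsg.Agent.helper7.O1440

open Cfsg.Agent.helper5
open scoped Pointwise

variable {G : Type*} [Group G] [Finite G]

variable [hp5 : Fact (Nat.Prime 5)]

theorem eq_one_of_pow_five_of_sq (x : G) (h5 : x ^ 5 = 1) (h2 : x * x = 1) : x = 1 := by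
  have h : x ^ 5 = (x * x) * (x * x) * x := by simp [pow_succ, mul_assoc]
  rw [h, h2] at h5
  simpa using h5

theorem not_mem_sylow_of_invol (hsyl : ∀ Q : Sylow 5 G, Nat.card Q = 5) (P : Sylow 5 G) (t : G)
    (ht : t * t = 1) (ht1 : t ≠ 1) : t ∉ (P : Subgroup G) := by
  intro hmem
  apply ht1
  have := pow_card_eq_one' (G := ↥(P : Subgroup G)) (x := ⟨t, hmem⟩)
  rw [hsyl P] at this
  exact eq_one_of_pow_five_of_sq t (congrArg Subtype.val this) ht

theorem sylow_le_centralizer (hsyl : ∀ Q : Sylow 5 G, Nat.card Q = 5) (P : Sylow 5 G) :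
    (P : Subgroup G) ≤ Subgroup.centralizer ((P : Subgroup G) : Set G) := by
  intro a ha
  rw [Subgroup.mem_centralizer_iff]
  intro b hb
  exact sylow_comm hsyl P b a hb ha

/-- When `|C(P)| = 10`, the centralizer of `P` has a unique involution. -/
theorem unique_invol (hsyl : ∀ Q : Sylow 5 G, Nat.card Q = 5) (P : Sylow 5 G)
    (hC : Nat.card (Subgroup.centralizer ((P : Subgroup G) : Set G)) = 10) (t t' : G)
    (htC : t ∈ Subgroup.centralizer ((P : Subgroup G) : Set G))
    (ht'C : t' ∈ Subgroup.centralizer ((P : Subgroup G) : Set G))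
    (ht : t * t = 1) (ht1 : t ≠ 1) (ht' : t' * t' = 1) (ht'1 : t' ≠ 1) : t' = t := by
  obtain ⟨C, hCdef⟩ : ∃ C : Subgroup G, C = Subgroup.centralizer ((P : Subgroup G) : Set G) :=
    ⟨_, rfl⟩
  have hPC : (P : Subgroup G) ≤ C := by rw [hCdef]; exact sylow_le_centralizer hsyl P
  rw [← hCdef] at hC htC ht'C
  have hHcard : Nat.card ((P : Subgroup G).subgroupOf C) = 5 := by
    rw [card_subgroupOf_of_le hPC, hsyl P]
  have hidx : ((P : Subgroup G).subgroupOf C).index = 2 := by
    have := Subgroup.card_mul_index ((P : Subgroup G).subgroupOf C)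
    rw [hHcard, hC] at this
    omega
  have hmem := Subgroup.mul_mem_iff_of_index_two hidx (a := (⟨t', ht'C⟩ : ↥C)) (b := ⟨t, htC⟩)
  have hx : t' * t ∈ (P : Subgroup G) := by
    have h1 : (⟨t', ht'C⟩ : ↥C) * ⟨t, htC⟩ ∈ (P : Subgroup G).subgroupOf C := by
      rw [hmem, Subgroup.mem_subgroupOf, Subgroup.mem_subgroupOf]
      constructor
      · intro hh
        exact absurd hh (not_mem_sylow_of_invol hsyl P t' ht' ht'1)
      · intro hh
        exact absurd hh (not_mem_sylow_of_invol hsyl P t ht ht1)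
    rw [Subgroup.mem_subgroupOf] at h1
    exact h1
  have hcomm : (t' * t) * t = t * (t' * t) := by
    rw [hCdef] at htC
    exact Subgroup.mem_centralizer_iff.mp htC _ hx
  have hx5 : (t' * t) ^ 5 = 1 := by
    have := pow_card_eq_one' (G := ↥(P : Subgroup G)) (x := ⟨t' * t, hx⟩)
    rw [hsyl P] at this
    exact congrArg Subtype.val this
  have htt' : t' = (t' * t) * t := by
    rw [mul_assoc, ht, mul_one]
  have hx2 : (t' * t) * (t' * t) = 1 := by
    calc (t' * t) * (t' * t) = (t' * t) * ((t' * t) * t) * t := by rw [← htt']; group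
      _ = (t' * t) * (t * (t' * t)) * t := by rw [hcomm]
      _ = ((t' * t) * t) * ((t' * t) * t) := by group
      _ = t' * t' := by rw [← htt']
      _ = 1 := ht'
  have hx1 := eq_one_of_pow_five_of_sq (t' * t) hx5 hx2
  have : t' = t⁻¹ := eq_inv_of_mul_eq_one_left hx1
  rw [this]
  exact inv_eq_of_mul_eq_one_right ht

variable [IsSimpleGroup G]

/-- The case `|C(P)| = 10`. -/
theorem case10 (h : Nat.card G = 1440) (P : Sylow 5 G)
    (hsyl : ∀ Q : Sylow 5 G, Nat.card Q = 5)
    (hN : Nat.card (Subgroup.normalizer ((P : Subgroup G) : Set G)) = 40)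
    (hn : Nat.card (Sylow 5 G) = 36)
    (hC : Nat.card (Subgroup.centralizer ((P : Subgroup G) : Set G)) = 10) : False := by
  classical
  haveI : Fact (Nat.Prime 2) := ⟨by norm_num⟩
  obtain ⟨t', ht'⟩ := exists_prime_orderOf_dvd_card'
    (G := ↥(Subgroup.centralizer ((P : Subgroup G) : Set G))) 2 (by rw [hC]; norm_num)
  obtain ⟨t, htdef⟩ : ∃ t : G, t = (t' : G) := ⟨_, rfl⟩
  have ht2 : orderOf t = 2 := by rw [htdef, Subgroup.orderOf_coe]; exact ht'
  have ht1 : t ≠ 1 := by
    intro h1
    rw [h1, orderOf_one] at ht2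
    omega
  have ht : t * t = 1 := by
    have := pow_orderOf_eq_one t
    rwa [ht2, pow_two] at this
  have htC : t ∈ Subgroup.centralizer ((P : Subgroup G) : Set G) := by rw [htdef]; exact t'.2
  have hcomm : ∀ x ∈ (P : Subgroup G), x * t = t * x := Subgroup.mem_centralizer_iff.mp htC
  have hND : Subgroup.normalizer ((P : Subgroup G) : Set G) ≤
      Subgroup.centralizer ({t} : Set G) := by
    intro g hg
    have hconjC : g * t * g⁻¹ ∈ Subgroup.centralizer ((P : Subgroup G) : Set G) := by
      rw [Subgroup.mem_centralizer_iff]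
      intro x hx
      have hx' : g⁻¹ * x * g ∈ (P : Subgroup G) := by
        have := (Subgroup.mem_normalizer_iff.mp
          ((Subgroup.normalizer ((P : Subgroup G) : Set G)).inv_mem hg) x).mp hx
        simpa using this
      have hc := hcomm _ hx'
      calc x * (g * t * g⁻¹) = g * (g⁻¹ * x * g * t) * g⁻¹ := by group
        _ = g * (t * (g⁻¹ * x * g)) * g⁻¹ := by rw [hc]
        _ = g * t * g⁻¹ * x := by group
    have hsq : (g * t * g⁻¹) * (g * t * g⁻¹) = 1 := by
      calc (g * t * g⁻¹) * (g * t * g⁻¹) = g * (t * t) * g⁻¹ := by group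
        _ = 1 := by rw [ht]; group
    have hne : g * t * g⁻¹ ≠ 1 := by
      intro h1
      apply ht1
      have : t = g⁻¹ * (g * t * g⁻¹) * g := by group
      rw [this, h1]
      group
    have huniq := unique_invol hsyl P hC t (g * t * g⁻¹) htC hconjC ht ht1 hsq hne
    rw [Subgroup.mem_centralizer_iff]
    intro s hs
    rw [Set.mem_singleton_iff] at hs
    subst hs
    calc s * g = g * (g⁻¹ * (g * s * g⁻¹) * g) := by
          rw [huniq]
          group
      _ = g * s := by group
  have hm20 : 20 ∣ Nat.card (Subgroup.normalizer ((P : Subgroup G) : Set G) ⊓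
      Subgroup.centralizer ({t} : Set G) : Subgroup G) := by
    rw [inf_eq_left.mpr hND, hN]
    norm_num
  have hDN := cent_le_norm h P hsyl hN hn t ht ht1 htC hm20
  exact cent_ne_norm h P hsyl hN hn t ht htC (le_antisymm hDN hND)

end Cfsg.Agent.helper7.O1440
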