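import Mathlib
import Cfsg.Agent.Lib_helper7_O1440d

set_option autoImplicit false
set_option linter.style.haveILetI false
set_option linter.deprecated false
set_option linter.unusedVariables false
set_option linter.unusedSectionVars false

/-!
# No simple group of order 1440: the case `|C(P)| = 20` and the main theorem
-/

namespace Cfsg.Agent.helper7.O1440

open Cfsg.Agent.helper5
open scoped Pointwise

variable {G : Type*} [Group G] [Finite G]

variable [hp5 : Fact (Nat.Prime 5)]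

theorem twenty_dvd (hsyl : ∀ Q : Sylow 5 G, Nat.card Q = 5) (P : Sylow 5 G) (Q : Subgroup G)
    (hQ : Nat.card Q = 4) (hQC : Q ≤ Subgroup.centralizer ((P : Subgroup G) : Set G))
    (t : G) (ht : t ∈ Q) :
    20 ∣ Nat.card (Subgroup.normalizer ((P : Subgroup G) : Set G) ⊓
      Subgroup.centralizer ({t} : Set G) : Subgroup G) := by
  haveI : Fact (Nat.Prime 2) := ⟨by norm_num⟩
  have hPD : (P : Subgroup G) ≤ Subgroup.centralizer ({t} : Set G) := by
    intro x hx
    rw [Subgroup.mem_centralizer_iff]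
    intro y hy
    rw [Set.mem_singleton_iff] at hy
    subst hy
    have := Subgroup.mem_centralizer_iff.mp (hQC ht) x hx
    exact this.symm
  have hQcomm : ∀ a b : Q, a * b = b * a :=
    IsPGroup.commutative_of_card_eq_prime_sq (p := 2) (by rw [hQ]; norm_num)
  have hQD : Q ≤ Subgroup.centralizer ({t} : Set G) := by
    intro x hx
    rw [Subgroup.mem_centralizer_iff]
    intro y hy
    rw [Set.mem_singleton_iff] at hy
    subst hy
    have := hQcomm ⟨y, ht⟩ ⟨x, hx⟩
    exact congrArg Subtype.val this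
  have hQN : Q ≤ Subgroup.normalizer ((P : Subgroup G) : Set G) :=
    hQC.trans (Subgroup.centralizer_le_normalizer _)
  have hPN : (P : Subgroup G) ≤ Subgroup.normalizer ((P : Subgroup G) : Set G) :=
    Subgroup.le_normalizer
  have h5 : 5 ∣ Nat.card (Subgroup.normalizer ((P : Subgroup G) : Set G) ⊓
      Subgroup.centralizer ({t} : Set G) : Subgroup G) := by
    have := Subgroup.card_dvd_of_le (le_inf hPN hPD)
    rwa [hsyl P] at this
  have h4 : 4 ∣ Nat.card (Subgroup.normalizer ((P : Subgroup G) : Set G) ⊓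
      Subgroup.centralizer ({t} : Set G) : Subgroup G) := by
    have := Subgroup.card_dvd_of_le (le_inf hQN hQD)
    rwa [hQ] at this
  exact Nat.Coprime.mul_dvd_of_dvd_of_dvd (by norm_num : Nat.Coprime 4 5) h4 h5

variable [IsSimpleGroup G]

/-- The case `|C(P)| = 20`. -/
theorem case20 (h : Nat.card G = 1440) (P : Sylow 5 G)
    (hsyl : ∀ Q : Sylow 5 G, Nat.card Q = 5)
    (hN : Nat.card (Subgroup.normalizer ((P : Subgroup G) : Set G)) = 40)
    (hn : Nat.card (Sylow 5 G) = 36)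
    (hC : Nat.card (Subgroup.centralizer ((P : Subgroup G) : Set G)) = 20) : False := by
  classical
  haveI : Fact (Nat.Prime 2) := ⟨by norm_num⟩
  obtain ⟨N, hNdef⟩ : ∃ N : Subgroup G, N = Subgroup.normalizer ((P : Subgroup G) : Set G) :=
    ⟨_, rfl⟩
  obtain ⟨C, hCdef⟩ : ∃ C : Subgroup G, C = Subgroup.centralizer ((P : Subgroup G) : Set G) :=
    ⟨_, rfl⟩
  have hN0 := hN
  rw [← hNdef] at hN
  rw [← hCdef] at hC
  have hCN : C ≤ N := by
    rw [hCdef, hNdef]
    exact Subgroup.centralizer_le_normalizer _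
  -- Step A
  obtain ⟨K, hK⟩ := Sylow.exists_subgroup_card_pow_prime (G := ↥C) 2 (n := 2)
    (by rw [hC]; norm_num)
  obtain ⟨Q, hQdef⟩ : ∃ Q : Subgroup G, Q = K.map C.subtype := ⟨_, rfl⟩
  have hQ : Nat.card Q = 4 := by
    rw [hQdef, Subgroup.card_map_of_injective C.subtype_injective, hK]
    norm_num
  have hQC : Q ≤ C := by
    rw [hQdef]
    exact Subgroup.map_subtype_le K
  have hQN : Q ≤ N := hQC.trans hCN
  -- Step C
  have hQsub : Nat.card (Q.subgroupOf N) = 2 ^ 2 := by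
    rw [card_subgroupOf_of_le hQN, hQ]
    norm_num
  obtain ⟨K2, hK2c, hK2⟩ := Sylow.exists_subgroup_card_pow_prime_le (G := ↥N) 2 (n := 2) (m := 3)
    (by rw [hN]; norm_num) (Q.subgroupOf N) hQsub (by norm_num)
  obtain ⟨S2, hS2def⟩ : ∃ S2 : Subgroup G, S2 = K2.map N.subtype := ⟨_, rfl⟩
  have hS2 : Nat.card S2 = 8 := by
    rw [hS2def, Subgroup.card_map_of_injective N.subtype_injective, hK2c]
    norm_num
  have hS2N : S2 ≤ N := by
    rw [hS2def]
    exact Subgroup.map_subtype_le K2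
  have hQS2 : Q ≤ S2 := by
    intro x hx
    rw [hS2def]
    exact ⟨⟨x, hQN hx⟩, hK2 (Subgroup.mem_subgroupOf.mpr hx), rfl⟩
  -- Step D
  have hS2p : IsPGroup 2 S2 := IsPGroup.of_card (n := 3) (by rw [hS2]; norm_num)
  obtain ⟨S, hS⟩ := hS2p.exists_le_sylow
  have hScard : Nat.card (S : Subgroup G) = 32 := by
    have := (sylow_card_of_card_eq S 5 45 (by rw [h]; norm_num) (by norm_num)).1
    rw [this]
    norm_num
  -- Step E
  have hNS : N ⊓ (S : Subgroup G) = S2 := by
    symm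
    apply Subgroup.eq_of_le_of_card_ge (le_inf hS2N hS)
    have d1 : Nat.card (N ⊓ (S : Subgroup G) : Subgroup G) ∣ 40 := by
      rw [← hN]
      exact Subgroup.card_dvd_of_le inf_le_left
    have d2 : Nat.card (N ⊓ (S : Subgroup G) : Subgroup G) ∣ 32 := by
      rw [← hScard]
      exact Subgroup.card_dvd_of_le inf_le_right
    have d3 : Nat.card (N ⊓ (S : Subgroup G) : Subgroup G) ∣ Nat.gcd 40 32 := Nat.dvd_gcd d1 d2
    have d4 : Nat.gcd 40 32 = 8 := by norm_num
    rw [d4] at d3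
    rw [hS2]
    exact Nat.le_of_dvd (by norm_num) d3
  -- Step F
  haveI : Group.IsNilpotent ↥(S : Subgroup G) := S.2.isNilpotent
  have hlt : S2.subgroupOf (S : Subgroup G) < ⊤ := by
    rw [lt_top_iff_ne_top]
    intro htop
    have hle : (S : Subgroup G) ≤ S2 := Subgroup.subgroupOf_eq_top.mp htop
    have := Subgroup.card_le_of_le hle
    rw [hScard, hS2] at this
    omega
  have hnc := normalizerCondition_of_isNilpotent (G := ↥(S : Subgroup G)) _ hlt
  obtain ⟨g', hg'n, hg'⟩ := SetLike.exists_of_lt hnc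
  obtain ⟨g, hgdef⟩ : ∃ g : G, g = (g' : G) := ⟨_, rfl⟩
  have hgS : g ∈ (S : Subgroup G) := by rw [hgdef]; exact g'.2
  have hgS2 : g ∉ S2 := fun hh => hg' (by rw [Subgroup.mem_subgroupOf, ← hgdef]; exact hh)
  have hgN : g ∉ N := fun hh => hgS2 (by rw [← hNS]; exact ⟨hh, hgS⟩)
  have hgnorm : ∀ s ∈ S2, g * s * g⁻¹ ∈ S2 := by
    intro s hs
    have hsS : s ∈ (S : Subgroup G) := hS hs
    have h1 := (Subgroup.mem_normalizer_iff.mp hg'n ⟨s, hsS⟩).mp (Subgroup.mem_subgroupOf.mpr hs)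
    have h2 := Subgroup.mem_subgroupOf.mp h1
    rw [hgdef]
    simpa using h2
  -- Step G
  obtain ⟨Q', hQ'def⟩ : ∃ Q' : Subgroup G, Q' = Q.map (MulAut.conj g).toMonoidHom := ⟨_, rfl⟩
  have hQ' : Nat.card Q' = 4 := by
    rw [hQ'def, Subgroup.card_map_of_injective (MulAut.conj g).injective, hQ]
  have hQ'mem : ∀ y, y ∈ Q' ↔ ∃ s ∈ Q, g * s * g⁻¹ = y := by
    intro y
    rw [hQ'def, Subgroup.mem_map]
    simp only [MulEquiv.coe_toMonoidHom, MulAut.conj_apply]
  have hQ'S2 : Q' ≤ S2 := by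
    intro y hy
    obtain ⟨s, hs, rfl⟩ := (hQ'mem y).mp hy
    exact hgnorm s (hQS2 hs)
  have hne : Q ⊓ Q' ≠ ⊥ := by
    intro hbot
    let f : Q × Q' → S2 := fun ab => ⟨(ab.1 : G) * (ab.2 : G),
      S2.mul_mem (hQS2 ab.1.2) (hQ'S2 ab.2.2)⟩
    have hf : Function.Injective f := by
      rintro ⟨a, b⟩ ⟨a', b'⟩ hab
      have hab' : (a : G) * (b : G) = (a' : G) * (b' : G) := congrArg Subtype.val hab
      have hmem : (a' : G)⁻¹ * (a : G) ∈ Q ⊓ Q' := by
        refine ⟨Q.mul_mem (Q.inv_mem a'.2) a.2, ?_⟩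
        have hrw : (a' : G)⁻¹ * (a : G) = (b' : G) * (b : G)⁻¹ := by
          calc (a' : G)⁻¹ * (a : G) = (a' : G)⁻¹ * ((a : G) * (b : G)) * (b : G)⁻¹ := by group
            _ = (a' : G)⁻¹ * ((a' : G) * (b' : G)) * (b : G)⁻¹ := by rw [hab']
            _ = (b' : G) * (b : G)⁻¹ := by group
        rw [hrw]
        exact Q'.mul_mem b'.2 (Q'.inv_mem b.2)
      rw [hbot, Subgroup.mem_bot] at hmem
      have ha : (a : G) = (a' : G) := by
        have := inv_mul_eq_one.mp hmem
        exact this.symm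
      have hb : (b : G) = (b' : G) := by
        rw [ha] at hab'
        exact mul_left_cancel hab'
      exact Prod.ext (Subtype.ext ha) (Subtype.ext hb)
    have := Nat.card_le_card_of_injective f hf
    rw [Nat.card_prod, hQ, hQ', hS2] at this
    omega
  -- Step H
  have h2dvd : 2 ∣ Nat.card (Q ⊓ Q' : Subgroup G) := by
    have hd : Nat.card (Q ⊓ Q' : Subgroup G) ∣ 4 := by
      rw [← hQ]
      exact Subgroup.card_dvd_of_le inf_le_left
    have hne1 : Nat.card (Q ⊓ Q' : Subgroup G) ≠ 1 := by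
      intro h1
      exact hne (Subgroup.card_eq_one.mp h1)
    obtain ⟨k, hk⟩ : ∃ k, Nat.card (Q ⊓ Q' : Subgroup G) = k := ⟨_, rfl⟩
    rw [hk] at hd hne1 ⊢
    have hle := Nat.le_of_dvd (by norm_num) hd
    interval_cases k <;> omega
  obtain ⟨u', hu'⟩ := exists_prime_orderOf_dvd_card' (G := ↥(Q ⊓ Q' : Subgroup G)) 2 h2dvd
  obtain ⟨u, hudef⟩ : ∃ u : G, u = (u' : G) := ⟨_, rfl⟩
  have hu2 : orderOf u = 2 := by rw [hudef, Subgroup.orderOf_coe]; exact hu'
  have hu1 : u ≠ 1 := by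
    intro h1
    rw [h1, orderOf_one] at hu2
    omega
  have huu : u * u = 1 := by
    have := pow_orderOf_eq_one u
    rwa [hu2, pow_two] at this
  have huQ : u ∈ Q := by rw [hudef]; exact u'.2.1
  have huQ' : u ∈ Q' := by rw [hudef]; exact u'.2.2
  obtain ⟨t, htQ, htu⟩ := (hQ'mem u).mp huQ'
  have ht1 : t ≠ 1 := by
    rintro rfl
    apply hu1
    rw [← htu]
    simp
  have htt : t * t = 1 := by
    have e : t = g⁻¹ * u * g := by rw [← htu]; group
    calc t * t = g⁻¹ * (u * u) * g := by rw [e]; group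
      _ = 1 := by rw [huu]; group
  -- Step I
  rw [hCdef] at hQC
  have hCu := cent_le_norm h P hsyl hN0 hn u huu hu1 (hQC huQ)
    (twenty_dvd hsyl P Q hQ hQC u huQ)
  have hCt := cent_le_norm h P hsyl hN0 hn t htt ht1 (hQC htQ)
    (twenty_dvd hsyl P Q hQ hQC t htQ)
  -- Step J
  have hconj : ∀ x ∈ (P : Subgroup G), g * x * g⁻¹ ∈ N := by
    intro x hx
    rw [hNdef]
    apply hCu
    rw [Subgroup.mem_centralizer_iff]
    intro y hy
    rw [Set.mem_singleton_iff] at hy
    subst hy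
    have htx : x * t = t * x := Subgroup.mem_centralizer_iff.mp (hQC htQ) x hx
    rw [← htu]
    calc g * t * g⁻¹ * (g * x * g⁻¹) = g * (t * x) * g⁻¹ := by group
      _ = g * (x * t) * g⁻¹ := by rw [htx]
      _ = g * x * g⁻¹ * (g * t * g⁻¹) := by group
  have hle : ((g • P : Sylow 5 G) : Subgroup G) ≤ N := by
    intro y hy
    have hcoe : ((g • P : Sylow 5 G) : Subgroup G) = MulAut.conj g • (P : Subgroup G) :=
      Sylow.coe_subgroup_smul
    rw [hcoe, Subgroup.mem_smul_pointwise_iff_exists] at hy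
    obtain ⟨s, hs, rfl⟩ := hy
    rw [MulAut.smul_def, MulAut.conj_apply]
    exact hconj s hs
  have hpg : IsPGroup 5 ↥((g • P : Sylow 5 G) : Subgroup G) := (g • P).2
  have hinf : ((g • P : Sylow 5 G) : Subgroup G) ⊓
      Subgroup.normalizer ((P : Subgroup G) : Set G) =
      ((g • P : Sylow 5 G) : Subgroup G) ⊓ (P : Subgroup G) := hpg.inf_normalizer_sylow P
  rw [← hNdef, inf_eq_left.mpr hle] at hinf
  have hle2 : ((g • P : Sylow 5 G) : Subgroup G) ≤ (P : Subgroup G) := inf_eq_left.mp hinf.symm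
  have heq : g • P = P := by
    apply Sylow.ext
    apply Subgroup.eq_of_le_of_card_ge hle2
    rw [Sylow.card_eq_multiplicity, Sylow.card_eq_multiplicity]
  apply hgN
  rw [hNdef]
  exact Sylow.smul_eq_iff_mem_normalizer.mp heq

/-- The case `|C(P)| = 45` (16 Sylow 5-subgroups). -/
theorem case45 (h : Nat.card G = 1440) (P : Sylow 5 G)
    (hsyl : ∀ Q : Sylow 5 G, Nat.card Q = 5)
    (hC : Nat.card (Subgroup.centralizer ((P : Subgroup G) : Set G)) = 45) : False := by
  classical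
  haveI : Fact (Nat.Prime 3) := ⟨by norm_num⟩
  obtain ⟨C, hCdef⟩ : ∃ C : Subgroup G, C = Subgroup.centralizer ((P : Subgroup G) : Set G) :=
    ⟨_, rfl⟩
  rw [← hCdef] at hC
  obtain ⟨K, hK⟩ := Sylow.exists_subgroup_card_pow_prime (G := ↥C) 3 (n := 2)
    (by rw [hC]; norm_num)
  obtain ⟨Q, hQdef⟩ : ∃ Q : Subgroup G, Q = K.map C.subtype := ⟨_, rfl⟩
  have hQ : Nat.card Q = 9 := by
    rw [hQdef, Subgroup.card_map_of_injective C.subtype_injective, hK]
    norm_num
  have hQC : Q ≤ C := by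
    rw [hQdef]
    exact Subgroup.map_subtype_le K
  obtain ⟨y', hy'⟩ := exists_prime_orderOf_dvd_card' (G := ↥Q) 3 (by rw [hQ]; norm_num)
  obtain ⟨y, hydef⟩ : ∃ y : G, y = (y' : G) := ⟨_, rfl⟩
  have hy3 : orderOf y = 3 := by rw [hydef, Subgroup.orderOf_coe]; exact hy'
  have hy1 : y ≠ 1 := by
    intro h1
    rw [h1, orderOf_one] at hy3
    omega
  have hyQ : y ∈ Q := by rw [hydef]; exact y'.2
  have hQcomm : ∀ a b : Q, a * b = b * a :=
    IsPGroup.commutative_of_card_eq_prime_sq (p := 3) (by rw [hQ]; norm_num)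
  have hPD : (P : Subgroup G) ≤ Subgroup.centralizer ({y} : Set G) := by
    intro x hx
    rw [Subgroup.mem_centralizer_iff]
    intro s hs
    rw [Set.mem_singleton_iff] at hs
    subst hs
    have hsC := hQC hyQ
    rw [hCdef] at hsC
    have := Subgroup.mem_centralizer_iff.mp hsC x hx
    exact this.symm
  have hQD : Q ≤ Subgroup.centralizer ({y} : Set G) := by
    intro x hx
    rw [Subgroup.mem_centralizer_iff]
    intro s hs
    rw [Set.mem_singleton_iff] at hs
    subst hs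
    have := hQcomm ⟨s, hyQ⟩ ⟨x, hx⟩
    exact congrArg Subtype.val this
  have h5 : 5 ∣ Nat.card (Subgroup.centralizer ({y} : Set G)) := by
    have := Subgroup.card_dvd_of_le hPD
    rwa [hsyl P] at this
  have h9 : 9 ∣ Nat.card (Subgroup.centralizer ({y} : Set G)) := by
    have := Subgroup.card_dvd_of_le hQD
    rwa [hQ] at this
  have h45 : 45 ∣ Nat.card (Subgroup.centralizer ({y} : Set G)) :=
    Nat.Coprime.mul_dvd_of_dvd_of_dvd (by norm_num : Nat.Coprime 5 9) h5 h9
  obtain ⟨k, hk⟩ := h45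
  have hmul := Subgroup.card_mul_index (Subgroup.centralizer ({y} : Set G))
  rw [hk, h] at hmul
  have hidx32 : (Subgroup.centralizer ({y} : Set G)).index ∣ 2 ^ 5 := by
    refine ⟨k, ?_⟩
    have : 45 * (k * (Subgroup.centralizer ({y} : Set G)).index) = 45 * 32 := by
      rw [← mul_assoc, hmul]
    have := Nat.eq_of_mul_eq_mul_left (by norm_num) this
    rw [mul_comm]
    norm_num
    exact this.symm
  obtain ⟨j, -, hj⟩ := (Nat.dvd_prime_pow (by norm_num : Nat.Prime 2)).mp hidx32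
  exact Cfsg.Agent.S0143.no_prime_power_class (nonab h) 2 j (by norm_num) y hy1 hj

end Cfsg.Agent.helper7.O1440
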