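import Mathlib
import Cfsg.Agent.Lib_helper7_O1440e

set_option autoImplicit false
set_option linter.style.haveILetI false
set_option linter.deprecated false
set_option linter.unusedVariables false
set_option linter.unusedSectionVars false

/-!
# No simple group of order 1440
-/

namespace Cfsg.Agent.helper7.O1440

open Cfsg.Agent.helper5 Cfsg.Agent.helper11.O504

variable {G : Type*} [Group G] [Finite G] [IsSimpleGroup G]

theorem main (h : Nat.card G = 1440) : False := by
  classical
  haveI : Fact (Nat.Prime 5) := ⟨by norm_num⟩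
  obtain ⟨P⟩ : Nonempty (Sylow 5 G) := inferInstance
  have hsyl : ∀ Q : Sylow 5 G, Nat.card Q = 5 := by
    intro Q
    have := (sylow_card_of_card_eq Q 1 288 (by rw [h]; norm_num) (by norm_num)).1
    rwa [pow_one] at this
  obtain ⟨hc, hi⟩ := sylow_card_of_card_eq P 1 288 (by rw [h]; norm_num) (by norm_num)
  rw [pow_one] at hc
  obtain ⟨hmod, hdvd, hmul⟩ := sylow_count_facts P
  rw [hi] at hdvd
  rw [h] at hmul
  have hPbot : (P : Subgroup G) ≠ ⊥ := by
    intro hb
    rw [hb] at hc
    simp at hc
  have hPtop : (P : Subgroup G) ≠ ⊤ := by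
    intro hb
    rw [hb, Subgroup.card_top, h] at hc
    omega
  have hn1 := sylow_count_ne_one P hPbot hPtop
  haveI hcyc : IsCyclic ↥(P : Subgroup G) := isCyclic_of_prime_card hc
  have hnonab : ∃ a b : G, a * b ≠ b * a :=
    nonabelian_of_card_not_prime (G := G) (by rw [h]; norm_num)
  obtain ⟨r, hr, hr1, hrφ, hrn⟩ := automizer_facts hnonab P hPbot hcyc
  rw [hc, Nat.totient_prime (by norm_num)] at hrφ
  rw [hi] at hrn
  have hCN : Subgroup.centralizer ((P : Subgroup G) : Set G) ≤
      Subgroup.normalizer ((P : Subgroup G) : Set G) := Subgroup.centralizer_le_normalizer _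
  have hrel := Subgroup.relIndex_mul_index hCN
  rw [← hr] at hrel
  have hNidx : (Subgroup.normalizer ((P : Subgroup G) : Set G)).index = Nat.card (Sylow 5 G) :=
    P.card_eq_index_normalizer.symm
  rw [hNidx] at hrel
  have hCcard := Subgroup.card_mul_index (Subgroup.centralizer ((P : Subgroup G) : Set G))
  rw [h, ← hrel] at hCcard
  obtain ⟨n, hn⟩ : ∃ n, Nat.card (Sylow 5 G) = n := ⟨_, rfl⟩
  rw [hn] at hmod hdvd hmul hn1 hrn hrel hCcard hNidx
  have hr0 : r ≠ 0 := by
    rintro rfl
    simp at hrφ
  have hr4 : r ≤ 4 := Nat.le_of_dvd (by norm_num) hrφ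
  have hn5 : n = 6 ∨ n = 16 ∨ n = 36 ∨ n = 96 := by
    have hle := Nat.le_of_dvd (by norm_num) hdvd
    interval_cases n <;> omega
  rcases hn5 with rfl | rfl | rfl | rfl
  · -- n = 6
    have hNtop : Subgroup.normalizer ((P : Subgroup G) : Set G) ≠ ⊤ := by
      intro htop
      rw [htop, Subgroup.index_top] at hNidx
      omega
    have hdvd' := card_dvd_factorial_index _ hNtop
    rw [h, hNidx] at hdvd'
    norm_num [Nat.factorial] at hdvd'
  · -- n = 16
    have hr2 : r = 2 := by
      interval_cases r <;> omega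
    rw [hr2] at hCcard
    have hC45 : Nat.card (Subgroup.centralizer ((P : Subgroup G) : Set G)) = 45 := by omega
    exact case45 h P hsyl hC45
  · -- n = 36
    have hN40 : Nat.card (Subgroup.normalizer ((P : Subgroup G) : Set G)) = 40 := by omega
    have hr24 : r = 2 ∨ r = 4 := by
      interval_cases r <;> omega
    rcases hr24 with rfl | rfl
    · have hC20 : Nat.card (Subgroup.centralizer ((P : Subgroup G) : Set G)) = 20 := by omega
      exact case20 h P hsyl hN40 hn hC20
    · have hC10 : Nat.card (Subgroup.centralizer ((P : Subgroup G) : Set G)) = 10 := by omega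
      exact case10 h P hsyl hN40 hn hC10
  · -- n = 96
    interval_cases r <;> omega

end Cfsg.Agent.helper7.O1440
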