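import Mathlib
import Cfsg.Agent.Lib_helper18_MinNormal

set_option autoImplicit false

/-! O'Nan–Scott core, part 1: minimal `N`-invariant subgroups of a minimal normal subgroup. -/

namespace Cfsg.Agent.helper7.ONS

open Cfsg.Agent.helper18

variable {G : Type*} [Group G]

/-- conjugate of a subgroup -/
abbrev cjs (g : G) (X : Subgroup G) : Subgroup G := X.map (MulAut.conj g).toMonoidHom

theorem mem_cjs {g x : G} {X : Subgroup G} : x ∈ cjs g X ↔ ∃ y ∈ X, g * y * g⁻¹ = x := by
  unfold cjs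
  rw [Subgroup.mem_map]
  simp only [MulEquiv.coe_toMonoidHom, MulAut.conj_apply]

theorem conj_mem_cjs {g y : G} {X : Subgroup G} (hy : y ∈ X) : g * y * g⁻¹ ∈ cjs g X :=
  mem_cjs.mpr ⟨y, hy, rfl⟩

theorem cjs_mul (g h : G) (X : Subgroup G) : cjs (g * h) X = cjs g (cjs h X) := by
  ext x
  constructor
  · intro hx
    obtain ⟨y, hy, rfl⟩ := mem_cjs.mp hx
    refine mem_cjs.mpr ⟨h * y * h⁻¹, conj_mem_cjs hy, ?_⟩
    group
  · intro hx
    obtain ⟨y, hy, rfl⟩ := mem_cjs.mp hx
    obtain ⟨w, hw, rfl⟩ := mem_cjs.mp hy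
    refine mem_cjs.mpr ⟨w, hw, ?_⟩
    group

theorem cjs_one (X : Subgroup G) : cjs (1 : G) X = X := by
  ext x
  constructor
  · intro hx
    obtain ⟨y, hy, rfl⟩ := mem_cjs.mp hx
    simpa using hy
  · intro hx
    exact mem_cjs.mpr ⟨x, hx, by simp⟩

theorem cjs_mono (g : G) {X Y : Subgroup G} (h : X ≤ Y) : cjs g X ≤ cjs g Y :=
  Subgroup.map_mono h

theorem card_cjs (g : G) (X : Subgroup G) : Nat.card (cjs g X) = Nat.card X :=
  card_map_of_inj X _ (MulAut.conj g).injective

theorem cjs_ne_bot {g : G} {X : Subgroup G} (h : X ≠ ⊥) : cjs g X ≠ ⊥ := by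
  intro hb
  apply h
  rw [Subgroup.map_eq_bot_iff_of_injective _ (MulAut.conj g).injective] at hb
  exact hb

theorem cjs_inv_cjs (g : G) (X : Subgroup G) : cjs g⁻¹ (cjs g X) = X := by
  rw [← cjs_mul, inv_mul_cancel, cjs_one]

theorem cjs_cjs_inv (g : G) (X : Subgroup G) : cjs g (cjs g⁻¹ X) = X := by
  rw [← cjs_mul, mul_inv_cancel, cjs_one]

theorem cjs_le_iff (g : G) (X Y : Subgroup G) : cjs g X ≤ Y ↔ X ≤ cjs g⁻¹ Y := by
  constructor
  · intro h
    have := cjs_mono g⁻¹ h
    rwa [cjs_inv_cjs] at this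
  · intro h
    have := cjs_mono g h
    rwa [cjs_cjs_inv] at this

theorem cjs_centralizer (g : G) (X : Subgroup G) :
    cjs g (Subgroup.centralizer (X : Set G)) = Subgroup.centralizer (cjs g X : Set G) := by
  ext x
  constructor
  · intro hx
    obtain ⟨y, hy, rfl⟩ := mem_cjs.mp hx
    rw [Subgroup.mem_centralizer_iff]
    intro w hw
    obtain ⟨v, hv, rfl⟩ := mem_cjs.mp hw
    rw [Subgroup.mem_centralizer_iff] at hy
    have := hy v hv
    calc g * v * g⁻¹ * (g * y * g⁻¹) = g * (v * y) * g⁻¹ := by group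
      _ = g * (y * v) * g⁻¹ := by rw [this]
      _ = g * y * g⁻¹ * (g * v * g⁻¹) := by group
  · intro hx
    refine mem_cjs.mpr ⟨g⁻¹ * x * g, ?_, by group⟩
    rw [Subgroup.mem_centralizer_iff] at hx ⊢
    intro v hv
    have := hx (g * v * g⁻¹) (conj_mem_cjs hv)
    calc v * (g⁻¹ * x * g) = g⁻¹ * (g * v * g⁻¹ * x) * g := by group
      _ = g⁻¹ * (x * (g * v * g⁻¹)) * g := by rw [this]
      _ = g⁻¹ * x * g * v := by group

theorem cjs_inf (g : G) (X Y : Subgroup G) : cjs g (X ⊓ Y) = cjs g X ⊓ cjs g Y :=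
  Subgroup.map_inf _ _ _ (MulAut.conj g).injective

theorem cjs_normal (g : G) (N : Subgroup G) [hN : N.Normal] : cjs g N = N := by
  ext x
  constructor
  · intro hx
    obtain ⟨y, hy, rfl⟩ := mem_cjs.mp hx
    exact hN.conj_mem y hy g
  · intro hx
    refine mem_cjs.mpr ⟨g⁻¹ * x * g, ?_, by group⟩
    have := hN.conj_mem x hx g⁻¹
    simpa using this

theorem nnormal_cjs_eq [Finite G] {N X : Subgroup G} (hX : NNormal N X) {n : G} (hn : n ∈ N) :
    cjs n X = X :=
  Subgroup.eq_of_le_of_card_ge (hX.map_conj_le n hn) (le_of_eq (card_cjs n X).symm)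

/-- `T` is a minimal nontrivial subgroup of `N` normalised by `N`. -/
structure MinT (N T : Subgroup G) : Prop where
  nn : NNormal N T
  ne : T ≠ ⊥
  min : ∀ X : Subgroup G, NNormal N X → X ≠ ⊥ → Nat.card T ≤ Nat.card X

theorem exists_minT [Finite G] (N : Subgroup G) (hN : N ≠ ⊥) : ∃ T, MinT N T := by
  classical
  have hex : ∃ k, ∃ X : Subgroup G, NNormal N X ∧ X ≠ ⊥ ∧ Nat.card X = k :=
    ⟨_, N, ⟨le_refl _, fun n hn x hx => N.mul_mem (N.mul_mem hn hx) (N.inv_mem hn)⟩, hN, rfl⟩
  obtain ⟨S, hSN, hS1, hSk⟩ := Nat.find_spec hex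
  exact ⟨S, hSN, hS1, fun X hX hX1 => by
    rw [hSk]; exact Nat.find_min' hex ⟨X, hX, hX1, rfl⟩⟩

theorem MinT.eq_of_le [Finite G] {N T X : Subgroup G} (h : MinT N T) (hX : NNormal N X)
    (hX1 : X ≠ ⊥) (hle : X ≤ T) : X = T :=
  Subgroup.eq_of_le_of_card_ge hle (h.min X hX hX1)

theorem MinT.conj {N T : Subgroup G} [N.Normal] (h : MinT N T) (g : G) : MinT N (cjs g T) where
  nn := h.nn.conj g
  ne := cjs_ne_bot h.ne
  min := fun X hX hX1 => by rw [card_cjs]; exact h.min X hX hX1

theorem MinT.eq_or_disj [Finite G] {N A B : Subgroup G} (hA : MinT N A) (hB : MinT N B) :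
    A = B ∨ A ⊓ B = ⊥ := by
  by_cases h : A ⊓ B = ⊥
  · exact Or.inr h
  · left
    have h1 := hA.eq_of_le (hA.nn.inf hB.nn) h inf_le_left
    have h2 := hB.eq_of_le (hA.nn.inf hB.nn) h inf_le_right
    rw [← h1, h2]

theorem MinT.commute_of_ne [Finite G] {N A B : Subgroup G} (hA : MinT N A) (hB : MinT N B)
    (hne : A ≠ B) : ∀ x ∈ A, ∀ y ∈ B, x * y = y * x := by
  rcases hA.eq_or_disj hB with h | h
  · exact absurd h hne
  · exact hA.nn.commute hB.nn h

theorem MinT.le_centralizer_of_ne [Finite G] {N A B : Subgroup G} (hA : MinT N A)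
    (hB : MinT N B) (hne : A ≠ B) : A ≤ Subgroup.centralizer (B : Set G) := by
  intro x hx
  rw [Subgroup.mem_centralizer_iff]
  intro y hy
  exact (hA.commute_of_ne hB hne x hx y hy).symm

/-- the index type: the conjugates of `T` -/
abbrev Idx (T : Subgroup G) : Type _ := {X : Subgroup G // ∃ g : G, X = cjs g T}


/-- base point -/
def Idx.base (T : Subgroup G) : Idx T := ⟨T, 1, (cjs_one T).symm⟩

/-- action by conjugation -/
def Idx.act {T : Subgroup G} (g : G) (i : Idx T) : Idx T :=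
  ⟨cjs g i.1, by
    obtain ⟨h, hh⟩ := i.2
    exact ⟨g * h, by rw [hh, cjs_mul]⟩⟩

@[simp] theorem Idx.act_val {T : Subgroup G} (g : G) (i : Idx T) : (Idx.act g i).1 = cjs g i.1 := rfl

theorem Idx.act_act {T : Subgroup G} (g h : G) (i : Idx T) :
    Idx.act g (Idx.act h i) = Idx.act (g * h) i := by
  apply Subtype.ext
  simp only [Idx.act_val]
  rw [cjs_mul]

theorem Idx.act_one {T : Subgroup G} (i : Idx T) : Idx.act (1 : G) i = i := by
  apply Subtype.ext
  simp only [Idx.act_val]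
  rw [cjs_one]

theorem Idx.act_inj {T : Subgroup G} (g : G) : Function.Injective (Idx.act (T := T) g) := by
  intro i j h
  have := congrArg (Idx.act g⁻¹) h
  rwa [Idx.act_act, Idx.act_act, inv_mul_cancel, Idx.act_one, Idx.act_one] at this

theorem Idx.minT {N T : Subgroup G} [N.Normal] (h : MinT N T) (i : Idx T) : MinT N i.1 := by
  obtain ⟨g, hg⟩ := i.2
  rw [hg]
  exact h.conj g

/-- the join of all conjugates of `T` is `N` -/
theorem iSup_idx_eq [Finite G] {N T : Subgroup G} [N.Normal] (h : MinT N T)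
    (hmin : ∀ M : Subgroup G, M.Normal → M ≤ N → M = ⊥ ∨ M = N) :
    (⨆ i : Idx T, i.1) = N := by
  have hJn : (⨆ i : Idx T, i.1).Normal := by
    constructor
    intro n hn g
    have h1 : cjs g (⨆ i : Idx T, i.1) ≤ ⨆ i : Idx T, i.1 := by
      unfold cjs
      rw [Subgroup.map_iSup]
      apply iSup_le
      intro i
      exact le_iSup (fun i : Idx T => i.1) (Idx.act g i)
    exact h1 (conj_mem_cjs hn)
  have hJle : (⨆ i : Idx T, i.1) ≤ N := iSup_le fun i => (Idx.minT h i).nn.1
  rcases hmin _ hJn hJle with hb | hb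
  · exfalso
    apply h.ne
    rw [eq_bot_iff, ← hb]
    exact le_iSup (fun i : Idx T => i.1) (Idx.base T)
  · exact hb

/-- `T` is not commutative if `N` is not -/
theorem MinT.not_comm [Finite G] {N T : Subgroup G} [N.Normal] (h : MinT N T)
    (hmin : ∀ M : Subgroup G, M.Normal → M ≤ N → M = ⊥ ∨ M = N)
    (hnab : ¬ IsMulCommutative N) : ∃ x ∈ T, ∃ y ∈ T, x * y ≠ y * x := by
  by_contra hcon
  push Not at hcon
  apply hnab
  -- every conjugate of `T` is commutative
  have hall : ∀ i : Idx T, ∀ x ∈ i.1, ∀ y ∈ i.1, x * y = y * x := by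
    intro i x hx y hy
    obtain ⟨g, hg⟩ := i.2
    rw [hg] at hx hy
    obtain ⟨a, ha, rfl⟩ := mem_cjs.mp hx
    obtain ⟨b, hb, rfl⟩ := mem_cjs.mp hy
    have := hcon a ha b hb
    calc g * a * g⁻¹ * (g * b * g⁻¹) = g * (a * b) * g⁻¹ := by group
      _ = g * (b * a) * g⁻¹ := by rw [this]
      _ = g * b * g⁻¹ * (g * a * g⁻¹) := by group
  have hcen : ∀ i j : Idx T, i.1 ≤ Subgroup.centralizer (j.1 : Set G) := by
    intro i j
    by_cases hij : i.1 = j.1
    · intro x hx
      rw [Subgroup.mem_centralizer_iff]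
      intro y hy
      rw [← hij] at hy
      exact hall i y hy x hx
    · exact (Idx.minT h i).le_centralizer_of_ne (Idx.minT h j) hij
  have hN := iSup_idx_eq h hmin
  have h1 : ∀ j : Idx T, N ≤ Subgroup.centralizer (j.1 : Set G) := by
    intro j
    rw [← hN]
    exact iSup_le fun i => hcen i j
  have h2 : N ≤ Subgroup.centralizer (N : Set G) := by
    rw [Subgroup.le_centralizer_iff]
    conv_lhs => rw [← hN]
    apply iSup_le
    intro j
    rw [← Subgroup.le_centralizer_iff]
    exact h1 j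
  constructor
  constructor
  intro a b
  apply Subtype.ext
  have := h2 a.2
  rw [Subgroup.mem_centralizer_iff] at this
  exact (this b b.2).symm

/-- the centre of `T` is trivial -/
theorem MinT.center_bot [Finite G] {N T : Subgroup G} [N.Normal] (h : MinT N T)
    (hmin : ∀ M : Subgroup G, M.Normal → M ≤ N → M = ⊥ ∨ M = N)
    (hnab : ¬ IsMulCommutative N) : T ⊓ Subgroup.centralizer (T : Set G) = ⊥ := by
  by_contra hne
  have hnn : NNormal N (T ⊓ Subgroup.centralizer (T : Set G)) := by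
    refine ⟨inf_le_of_left_le h.nn.1, ?_⟩
    intro n hn x hx
    rw [Subgroup.mem_inf] at hx ⊢
    refine ⟨h.nn.2 n hn x hx.1, ?_⟩
    have h1 : n * x * n⁻¹ ∈ cjs n (Subgroup.centralizer (T : Set G)) := conj_mem_cjs hx.2
    rw [cjs_centralizer, nnormal_cjs_eq h.nn hn] at h1
    exact h1
  have h1 := h.eq_of_le hnn hne inf_le_left
  obtain ⟨x, hx, y, hy, hxy⟩ := h.not_comm hmin hnab
  apply hxy
  rw [← h1] at hx
  rw [Subgroup.mem_inf] at hx
  have := hx.2
  rw [Subgroup.mem_centralizer_iff] at this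
  exact (this y hy).symm

/-- normal subgroups of `T` are trivial -/
theorem MinT.simple_aux [Finite G] {N T : Subgroup G} [N.Normal] (h : MinT N T)
    (hmin : ∀ M : Subgroup G, M.Normal → M ≤ N → M = ⊥ ∨ M = N)
    (L : Subgroup G) (hLT : L ≤ T) (hL : ∀ t ∈ T, ∀ x ∈ L, t * x * t⁻¹ ∈ L) :
    L = ⊥ ∨ L = T := by
  by_cases hL1 : L = ⊥
  · exact Or.inl hL1
  right
  refine h.eq_of_le ⟨hLT.trans h.nn.1, ?_⟩ hL1 hLT
  -- `N` normalises `L`
  have hnorm : N ≤ Subgroup.normalizer (L : Set G) := by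
    rw [← iSup_idx_eq h hmin]
    apply iSup_le
    intro i
    by_cases hi : i.1 = T
    · rw [hi]
      intro t ht
      rw [Subgroup.mem_normalizer_iff]
      intro x
      constructor
      · intro hx
        exact hL t ht x hx
      · intro hx
        have := hL t⁻¹ (T.inv_mem ht) _ hx
        simpa [mul_assoc] using this
    · have hc := (Idx.minT h i).le_centralizer_of_ne h hi
      intro t ht
      rw [Subgroup.mem_normalizer_iff]
      intro x
      have hct := hc ht
      rw [Subgroup.mem_centralizer_iff] at hct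
      constructor
      · intro hx
        have := hct x (hLT hx)
        have h3 : t * x * t⁻¹ = x := by rw [← this]; group
        rw [h3]; exact hx
      · intro hx
        have h4 : t * x * t⁻¹ ∈ T := hLT hx
        have := hct _ h4
        have h3 : x = t * x * t⁻¹ := by
          have h5 : t * x * t⁻¹ * t = t * (t * x * t⁻¹) := this
          have h6 : t * x = t * (t * x * t⁻¹) := by rw [← h5]; group
          exact mul_left_cancel h6
        rw [h3]; exact hx
  intro n hn x hx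
  have := hnorm hn
  rw [Subgroup.mem_normalizer_iff] at this
  exact (this x).mp hx

end Cfsg.Agent.helper7.ONS
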