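import Mathlib
import Cfsg.Agent.Lib_helper7_ONS1

set_option autoImplicit false

/-! O'Nan–Scott core, part 2: the internal direct product and its projections. -/

namespace Cfsg.Agent.helper7.ONS

open Cfsg.Agent.helper18

variable {G : Type*} [Group G]

noncomputable instance idxFintype [Finite G] (T : Subgroup G) : Fintype (Idx T) :=
  Fintype.ofFinite _

noncomputable instance idxDecEq (T : Subgroup G) : DecidableEq (Idx T) := Classical.decEq _

/-- the standing hypotheses -/
structure Setup (N T : Subgroup G) : Prop where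
  minT : MinT N T
  hmin : ∀ M : Subgroup G, M.Normal → M ≤ N → M = ⊥ ∨ M = N
  hnab : ¬ IsMulCommutative N

theorem noncommPiCoprod_mem' {ι : Type*} [Fintype ι] {H : ι → Subgroup G}
    (hcomm : Pairwise fun i j : ι => ∀ x y : G, x ∈ H i → y ∈ H j → Commute x y)
    (C : Subgroup G) (f : ∀ i, H i) (hf : ∀ i, (f i : G) ∈ C) :
    Subgroup.noncommPiCoprod hcomm f ∈ C := by
  have : Subgroup.noncommPiCoprod hcomm f = Finset.univ.noncommProd (fun i => ((f i : H i) : G))
      (fun i _ j _ hij => hcomm hij _ _ (f i).2 (f j).2) := rfl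
  rw [this]
  apply Subgroup.noncommProd_mem
  intro i _
  exact hf i

section

variable [Finite G] {N T : Subgroup G} [N.Normal]

theorem Setup.idx_ne (_h : Setup N T) {i j : Idx T} (hij : i ≠ j) : i.1 ≠ j.1 :=
  fun h => hij (Subtype.ext h)

theorem Setup.pairwise_comm (h : Setup N T) :
    Pairwise fun i j : Idx T => ∀ x y : G, x ∈ i.1 → y ∈ j.1 → Commute x y := by
  intro i j hij x y hx hy
  exact (Idx.minT h.minT i).commute_of_ne (Idx.minT h.minT j) (h.idx_ne hij) x hx y hy

theorem Setup.center_bot (h : Setup N T) (i : Idx T) :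
    i.1 ⊓ Subgroup.centralizer (i.1 : Set G) = ⊥ :=
  (Idx.minT h.minT i).center_bot h.hmin h.hnab

theorem Setup.indep (h : Setup N T) : iSupIndep fun i : Idx T => i.1 := by
  intro i
  rw [disjoint_iff, eq_bot_iff, ← h.center_bot i]
  apply inf_le_inf_left
  apply iSup_le
  intro j
  apply iSup_le
  intro hji
  exact (Idx.minT h.minT j).le_centralizer_of_ne (Idx.minT h.minT i) (h.idx_ne hji)

/-- the product map -/
noncomputable def Setup.Phi (h : Setup N T) : (∀ i : Idx T, ↥(i.1)) →* G :=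
  Subgroup.noncommPiCoprod (H := fun i : Idx T => i.1) h.pairwise_comm

theorem Setup.Phi_inj (h : Setup N T) : Function.Injective h.Phi :=
  Subgroup.injective_noncommPiCoprod_of_iSupIndep h.indep

theorem Setup.Phi_range (h : Setup N T) : h.Phi.range = N := by
  unfold Setup.Phi
  rw [Subgroup.noncommPiCoprod_range]
  exact iSup_idx_eq h.minT h.hmin

theorem Setup.Phi_mem (h : Setup N T) (f : ∀ i : Idx T, ↥(i.1)) : h.Phi f ∈ N := by
  have h1 : h.Phi f ∈ h.Phi.range := ⟨f, rfl⟩
  rwa [h.Phi_range] at h1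

theorem Setup.Phi_mulSingle (h : Setup N T) (i : Idx T) (y : ↥(i.1)) :
    h.Phi (Pi.mulSingle i y) = y := by
  unfold Setup.Phi
  exact Subgroup.noncommPiCoprod_mulSingle (H := fun i : Idx T => i.1) i y

/-- the component formula -/
theorem Setup.Phi_split (h : Setup N T) (f : ∀ i : Idx T, ↥(i.1)) (j : Idx T) :
    ∃ c : G, c ∈ Subgroup.centralizer (j.1 : Set G) ∧ c ∈ N ∧ h.Phi f = (f j : G) * c := by
  have hf : f = Pi.mulSingle j (f j) * Function.update f j 1 := by
    funext i
    by_cases hij : i = j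
    · subst hij
      simp
    · simp [Pi.mulSingle_eq_of_ne hij, Function.update_of_ne hij]
  refine ⟨h.Phi (Function.update f j 1), ?_, h.Phi_mem _, ?_⟩
  · unfold Setup.Phi
    apply noncommPiCoprod_mem'
    intro i
    by_cases hij : i = j
    · subst hij
      simp
    · rw [Function.update_of_ne hij]
      exact (Idx.minT h.minT i).le_centralizer_of_ne (Idx.minT h.minT j) (h.idx_ne hij) (f i).2
  · conv_lhs => rw [hf]
    rw [map_mul, h.Phi_mulSingle]

/-- the isomorphism of the product with `N` -/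
noncomputable def Setup.Psi (h : Setup N T) : (∀ i : Idx T, ↥(i.1)) ≃* ↥N :=
  (MonoidHom.ofInjective h.Phi_inj).trans (MulEquiv.subgroupCongr h.Phi_range)

theorem Setup.Psi_coe (h : Setup N T) (f : ∀ i : Idx T, ↥(i.1)) : ((h.Psi f : ↥N) : G) = h.Phi f :=
  rfl

/-- the projection onto the `i`-th factor, with values in `G` -/
noncomputable def Setup.pr (h : Setup N T) (i : Idx T) : ↥N →* G :=
  (i.1.subtype).comp ((Pi.evalMonoidHom (fun i : Idx T => ↥(i.1)) i).comp h.Psi.symm.toMonoidHom)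

theorem Setup.pr_apply (h : Setup N T) (i : Idx T) (n : ↥N) :
    h.pr i n = ((h.Psi.symm n) i : G) := rfl

theorem Setup.pr_mem (h : Setup N T) (i : Idx T) (n : ↥N) : h.pr i n ∈ i.1 :=
  ((h.Psi.symm n) i).2

theorem Setup.pr_mem_N (h : Setup N T) (i : Idx T) (n : ↥N) : h.pr i n ∈ N :=
  (Idx.minT h.minT i).nn.1 (h.pr_mem i n)

/-- characterisation of the projection: `n = pr i n * c` with `c` centralising the factor -/
theorem Setup.pr_split (h : Setup N T) (i : Idx T) (n : ↥N) :
    ∃ c : G, c ∈ Subgroup.centralizer (i.1 : Set G) ∧ c ∈ N ∧ (n : G) = h.pr i n * c := by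
  obtain ⟨c, hc, hcN, hc2⟩ := h.Phi_split (h.Psi.symm n) i
  refine ⟨c, hc, hcN, ?_⟩
  rw [h.pr_apply, ← hc2, ← h.Psi_coe, MulEquiv.apply_symm_apply]

theorem Setup.pr_unique (h : Setup N T) (i : Idx T) (n : ↥N) (t c : G) (ht : t ∈ i.1)
    (hc : c ∈ Subgroup.centralizer (i.1 : Set G)) (hn : (n : G) = t * c) : h.pr i n = t := by
  obtain ⟨c', hc', _, hn'⟩ := h.pr_split i n
  -- `t⁻¹ * pr = c * c'⁻¹` lies in the factor and centralises it
  have h1 : t⁻¹ * h.pr i n = c * c'⁻¹ := by
    have : t * c = h.pr i n * c' := by rw [← hn, ← hn']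
    calc t⁻¹ * h.pr i n = t⁻¹ * (h.pr i n * c') * c'⁻¹ := by group
      _ = t⁻¹ * (t * c) * c'⁻¹ := by rw [this]
      _ = c * c'⁻¹ := by group
  have h2 : t⁻¹ * h.pr i n ∈ i.1 ⊓ Subgroup.centralizer (i.1 : Set G) := by
    rw [Subgroup.mem_inf]
    refine ⟨i.1.mul_mem (i.1.inv_mem ht) (h.pr_mem i n), ?_⟩
    rw [h1]
    exact Subgroup.mul_mem _ hc (Subgroup.inv_mem _ hc')
  rw [h.center_bot i, Subgroup.mem_bot] at h2
  have : h.pr i n = t * (t⁻¹ * h.pr i n) := by group
  rw [this, h2, mul_one]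

theorem Setup.pr_of_mem (h : Setup N T) (i : Idx T) (n : ↥N) (hn : (n : G) ∈ i.1) :
    h.pr i n = n :=
  h.pr_unique i n n 1 hn (Subgroup.one_mem _) (by simp)

theorem Setup.pr_of_mem_ne (h : Setup N T) {i j : Idx T} (hij : i ≠ j) (n : ↥N)
    (hn : (n : G) ∈ j.1) : h.pr i n = 1 :=
  h.pr_unique i n 1 n (Subgroup.one_mem _)
    ((Idx.minT h.minT j).le_centralizer_of_ne (Idx.minT h.minT i) (h.idx_ne hij.symm) hn) (by simp)

theorem Setup.pr_of_centralizer (h : Setup N T) (i : Idx T) (n : ↥N)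
    (hn : (n : G) ∈ Subgroup.centralizer (i.1 : Set G)) : h.pr i n = 1 :=
  h.pr_unique i n 1 n (Subgroup.one_mem _) hn (by simp)

theorem Setup.ext_pr (h : Setup N T) {n n' : ↥N} (hpr : ∀ i, h.pr i n = h.pr i n') : n = n' := by
  apply h.Psi.symm.injective
  funext i
  apply Subtype.ext
  exact hpr i

theorem Setup.exists_pr (h : Setup N T) (f : ∀ i : Idx T, ↥(i.1)) :
    ∃ n : ↥N, ∀ i, h.pr i n = f i := by
  refine ⟨h.Psi f, fun i => ?_⟩
  rw [h.pr_apply, MulEquiv.symm_apply_apply]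

/-- equivariance of the projections under conjugation -/
theorem Setup.pr_conj (h : Setup N T) (g : G) (i : Idx T) (n n' : ↥N)
    (hn' : (n' : G) = g * n * g⁻¹) : h.pr (Idx.act g i) n' = g * h.pr i n * g⁻¹ := by
  obtain ⟨c, hc, _, hnc⟩ := h.pr_split i n
  apply h.pr_unique (Idx.act g i) n' _ (g * c * g⁻¹)
  · exact conj_mem_cjs (h.pr_mem i n)
  · have : g * c * g⁻¹ ∈ cjs g (Subgroup.centralizer (i.1 : Set G)) := conj_mem_cjs hc
    rw [cjs_centralizer] at this
    exact this
  · rw [hn', hnc]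
    group

end

end Cfsg.Agent.helper7.ONS
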