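import Mathlib
import Cfsg.Agent.Lib_helper7_ONS2

set_option autoImplicit false

/-! O'Nan–Scott core, part 3: a maximal subgroup not containing `N`; the product case. -/

namespace Cfsg.Agent.helper7.ONS

open Cfsg.Agent.helper18

variable {G : Type*} [Group G]

/-- the product set `K P` as a subgroup, when `K` normalises `P` -/
def mulSub (K P : Subgroup G) (hnorm : ∀ k ∈ K, ∀ p ∈ P, k * p * k⁻¹ ∈ P) : Subgroup G where
  carrier := {x | ∃ k ∈ K, ∃ p ∈ P, x = k * p}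
  one_mem' := ⟨1, K.one_mem, 1, P.one_mem, by simp⟩
  mul_mem' := by
    rintro _ _ ⟨k, hk, p, hp, rfl⟩ ⟨k', hk', p', hp', rfl⟩
    refine ⟨k * k', K.mul_mem hk hk', (k'⁻¹ * p * k'⁻¹⁻¹) * p',
      P.mul_mem (hnorm k'⁻¹ (K.inv_mem hk') p hp) hp', by group⟩
  inv_mem' := by
    rintro _ ⟨k, hk, p, hp, rfl⟩
    refine ⟨k⁻¹, K.inv_mem hk, k * p⁻¹ * k⁻¹, hnorm k hk _ (P.inv_mem hp), by group⟩

theorem mem_mulSub {K P : Subgroup G} {hnorm : ∀ k ∈ K, ∀ p ∈ P, k * p * k⁻¹ ∈ P} {x : G} :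
    x ∈ mulSub K P hnorm ↔ ∃ k ∈ K, ∃ p ∈ P, x = k * p := Iff.rfl

theorem le_mulSub_left (K P : Subgroup G) (hnorm : ∀ k ∈ K, ∀ p ∈ P, k * p * k⁻¹ ∈ P) :
    K ≤ mulSub K P hnorm := fun k hk => ⟨k, hk, 1, P.one_mem, by simp⟩

theorem le_mulSub_right (K P : Subgroup G) (hnorm : ∀ k ∈ K, ∀ p ∈ P, k * p * k⁻¹ ∈ P) :
    P ≤ mulSub K P hnorm := fun p hp => ⟨1, K.one_mem, p, hp, by simp⟩

section

variable [Finite G] {N T K : Subgroup G} [N.Normal]

theorem exists_mul_of_coatom (hK : IsCoatom K) (hNK : ¬ N ≤ K) (g : G) :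
    ∃ k ∈ K, ∃ n ∈ N, g = k * n := by
  have hlt : K < K ⊔ N := by
    refine lt_of_le_of_ne le_sup_left ?_
    intro h
    apply hNK
    rw [h]
    exact le_sup_right
  have htop : K ⊔ N = ⊤ := hK.2 _ hlt
  have hg : g ∈ ((K ⊔ N : Subgroup G) : Set G) := by rw [htop]; trivial
  rw [Subgroup.mul_normal] at hg
  obtain ⟨k, hk, n, hn, rfl⟩ := Set.mem_mul.mp hg
  exact ⟨k, hk, n, hn, rfl⟩

/-- `K` is transitive on the factors -/
theorem Setup.transitive (h : Setup N T) (hK : IsCoatom K) (hNK : ¬ N ≤ K) (i j : Idx T) :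
    ∃ k ∈ K, Idx.act k i = j := by
  obtain ⟨a, ha⟩ := i.2
  obtain ⟨b, hb⟩ := j.2
  obtain ⟨k, hk, n, hn, hg⟩ := exists_mul_of_coatom hK hNK (b * a⁻¹)
  refine ⟨k, hk, ?_⟩
  apply Subtype.ext
  rw [Idx.act_val]
  have h1 : cjs n i.1 = i.1 := nnormal_cjs_eq (Idx.minT h.minT i).nn hn
  rw [← h1, ← cjs_mul, ← hg, hb]
  conv_lhs => rw [ha]
  rw [← cjs_mul]
  congr 1
  group

/-- the projection of `K ⊓ N` on the `i`-th factor -/
noncomputable def Setup.R (h : Setup N T) (K : Subgroup G) (i : Idx T) : Subgroup G :=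
  (K.subgroupOf N).map (h.pr i)

theorem Setup.mem_R (h : Setup N T) {K : Subgroup G} {i : Idx T} {t : G} :
    t ∈ h.R K i ↔ ∃ d : ↥N, (d : G) ∈ K ∧ h.pr i d = t := by
  unfold Setup.R
  rw [Subgroup.mem_map]
  constructor
  · rintro ⟨d, hd, rfl⟩
    exact ⟨d, Subgroup.mem_subgroupOf.mp hd, rfl⟩
  · rintro ⟨d, hd, rfl⟩
    exact ⟨d, Subgroup.mem_subgroupOf.mpr hd, rfl⟩

theorem Setup.R_le (h : Setup N T) (K : Subgroup G) (i : Idx T) : h.R K i ≤ i.1 := by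
  intro t ht
  obtain ⟨d, _, rfl⟩ := h.mem_R.mp ht
  exact h.pr_mem i d

theorem Setup.cjs_R_le (h : Setup N T) {K : Subgroup G} {k : G} (hk : k ∈ K) (i : Idx T) :
    cjs k (h.R K i) ≤ h.R K (Idx.act k i) := by
  intro t ht
  obtain ⟨s, hs, rfl⟩ := mem_cjs.mp ht
  obtain ⟨d, hd, rfl⟩ := h.mem_R.mp hs
  have hN : k * (d : G) * k⁻¹ ∈ N := Subgroup.Normal.conj_mem inferInstance _ d.2 k
  refine h.mem_R.mpr ⟨⟨k * (d : G) * k⁻¹, hN⟩, K.mul_mem (K.mul_mem hk hd) (K.inv_mem hk), ?_⟩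
  exact h.pr_conj k i d _ rfl

theorem Setup.R_act (h : Setup N T) {K : Subgroup G} {k : G} (hk : k ∈ K) (i : Idx T) :
    h.R K (Idx.act k i) = cjs k (h.R K i) := by
  apply le_antisymm
  · have := h.cjs_R_le (K.inv_mem hk) (Idx.act k i)
    rw [Idx.act_act, inv_mul_cancel, Idx.act_one, cjs_le_iff, inv_inv] at this
    exact this
  · exact h.cjs_R_le hk i

/-- the full product of the projections -/
noncomputable def Setup.P (h : Setup N T) (K : Subgroup G) : Subgroup G where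
  carrier := {x | ∃ hx : x ∈ N, ∀ i, h.pr i ⟨x, hx⟩ ∈ h.R K i}
  one_mem' := ⟨N.one_mem, fun i => by
    have : (⟨1, N.one_mem⟩ : ↥N) = 1 := rfl
    rw [this, map_one]; exact Subgroup.one_mem _⟩
  mul_mem' := by
    rintro x y ⟨hx, hx2⟩ ⟨hy, hy2⟩
    refine ⟨N.mul_mem hx hy, fun i => ?_⟩
    have : (⟨x * y, N.mul_mem hx hy⟩ : ↥N) = ⟨x, hx⟩ * ⟨y, hy⟩ := rfl
    rw [this, map_mul]
    exact Subgroup.mul_mem _ (hx2 i) (hy2 i)
  inv_mem' := by
    rintro x ⟨hx, hx2⟩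
    refine ⟨N.inv_mem hx, fun i => ?_⟩
    have : (⟨x⁻¹, N.inv_mem hx⟩ : ↥N) = ⟨x, hx⟩⁻¹ := rfl
    rw [this, map_inv]
    exact Subgroup.inv_mem _ (hx2 i)

theorem Setup.mem_P (h : Setup N T) {K : Subgroup G} {x : G} :
    x ∈ h.P K ↔ ∃ hx : x ∈ N, ∀ i, h.pr i ⟨x, hx⟩ ∈ h.R K i := Iff.rfl

theorem Setup.P_le (h : Setup N T) (K : Subgroup G) : h.P K ≤ N := fun _ hx => hx.1

theorem Setup.inf_le_P (h : Setup N T) (K : Subgroup G) : K ⊓ N ≤ h.P K := by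
  intro x hx
  rw [Subgroup.mem_inf] at hx
  exact ⟨hx.2, fun i => h.mem_R.mpr ⟨⟨x, hx.2⟩, hx.1, rfl⟩⟩

theorem Setup.P_norm (h : Setup N T) (K : Subgroup G) :
    ∀ k ∈ K, ∀ p ∈ h.P K, k * p * k⁻¹ ∈ h.P K := by
  intro k hk p hp
  obtain ⟨hpN, hp2⟩ := hp
  have hN : k * p * k⁻¹ ∈ N := Subgroup.Normal.conj_mem inferInstance _ hpN k
  refine ⟨hN, fun j => ?_⟩
  have hj : j = Idx.act k (Idx.act k⁻¹ j) := by
    rw [Idx.act_act, mul_inv_cancel, Idx.act_one]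
  rw [hj, h.pr_conj k (Idx.act k⁻¹ j) ⟨p, hpN⟩ ⟨k * p * k⁻¹, hN⟩ rfl, h.R_act hk]
  exact conj_mem_cjs (hp2 _)

/-- the product case -/
theorem Setup.case_prod (h : Setup N T) (hK : IsCoatom K) (hNK : ¬ N ≤ K)
    (hR : ∃ i, h.R K i ≠ i.1) :
    (∀ i, h.R K i ≠ i.1) ∧ ∀ n : ↥N, (n : G) ∈ K ↔ ∀ i, h.pr i n ∈ h.R K i := by
  obtain ⟨i₀, hi₀⟩ := hR
  constructor
  · intro i hi
    obtain ⟨k, hk, hki⟩ := h.transitive hK hNK i i₀
    apply hi₀
    rw [← hki, h.R_act hk, hi]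
    rfl
  · intro n
    constructor
    · intro hn i
      exact h.mem_R.mpr ⟨n, hn, rfl⟩
    · intro hn
      have hnP : (n : G) ∈ h.P K := ⟨n.2, hn⟩
      have hPK : h.P K ≤ K := by
        by_contra hcon
        have hlt : K < mulSub K (h.P K) (h.P_norm K) := by
          refine lt_of_le_of_ne (le_mulSub_left _ _ _) ?_
          intro heq
          exact hcon ((le_mulSub_right K (h.P K) (h.P_norm K)).trans (le_of_eq heq.symm))
        have htop := hK.2 _ hlt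
        -- then `N ≤ P`
        have hNP : N ≤ h.P K := by
          intro x hx
          have hx' : x ∈ mulSub K (h.P K) (h.P_norm K) := by rw [htop]; trivial
          obtain ⟨k, hk, p, hp, rfl⟩ := hx'
          have hkN : k ∈ N := by
            have : k = k * p * p⁻¹ := by group
            rw [this]
            exact N.mul_mem hx (N.inv_mem (h.P_le K hp))
          exact Subgroup.mul_mem _ (h.inf_le_P K ⟨hk, hkN⟩) hp
        apply hi₀
        apply le_antisymm (h.R_le K i₀)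
        intro t ht
        have htN : t ∈ N := (Idx.minT h.minT i₀).nn.1 ht
        obtain ⟨_, ht2⟩ := hNP htN
        have := ht2 i₀
        rwa [h.pr_of_mem i₀ ⟨t, htN⟩ ht] at this
      exact hPK hnP

end

end Cfsg.Agent.helper7.ONS
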