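import Mathlib
import Cfsg.Agent.Lib_helper7_ONS3

set_option autoImplicit false

/-! O'Nan–Scott core, part 4: the diagonal case (subdirect products of simple groups). -/

namespace Cfsg.Agent.helper7.ONS

open Cfsg.Agent.helper18

variable {G : Type*} [Group G] [Finite G] {N T : Subgroup G} [N.Normal]

/-- elements of `K ⊓ N` with trivial projections on a set of factors -/
noncomputable def Setup.Ls (h : Setup N T) (K : Subgroup G) (s : Finset (Idx T)) : Subgroup ↥N where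
  carrier := {d | (d : G) ∈ K ∧ ∀ j ∈ s, h.pr j d = 1}
  one_mem' := ⟨K.one_mem, fun j _ => map_one _⟩
  mul_mem' := by
    rintro a b ⟨ha, ha2⟩ ⟨hb, hb2⟩
    refine ⟨K.mul_mem ha hb, fun j hj => ?_⟩
    rw [map_mul, ha2 j hj, hb2 j hj, one_mul]
  inv_mem' := by
    rintro a ⟨ha, ha2⟩
    refine ⟨K.inv_mem ha, fun j hj => ?_⟩
    rw [map_inv, ha2 j hj, inv_one]

theorem Setup.mem_Ls (h : Setup N T) {K : Subgroup G} {s : Finset (Idx T)} {d : ↥N} :
    d ∈ h.Ls K s ↔ (d : G) ∈ K ∧ ∀ j ∈ s, h.pr j d = 1 := Iff.rfl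

theorem Setup.Ls_normal (h : Setup N T) (K : Subgroup G) (s : Finset (Idx T)) :
    ∀ x : ↥N, (x : G) ∈ K → ∀ a ∈ h.Ls K s, x * a * x⁻¹ ∈ h.Ls K s := by
  intro x hx a ha
  refine ⟨K.mul_mem (K.mul_mem hx ha.1) (K.inv_mem hx), fun j hj => ?_⟩
  rw [map_mul, map_mul, ha.2 j hj, map_inv, mul_one, mul_inv_cancel]

/-- surjectivity of the projections on `K ⊓ N` -/
theorem Setup.exists_of_full (h : Setup N T) {K : Subgroup G} (hfull : ∀ i, h.R K i = i.1)
    (i : Idx T) {t : G} (ht : t ∈ i.1) : ∃ d : ↥N, (d : G) ∈ K ∧ h.pr i d = t := by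
  rw [← hfull i] at ht
  exact h.mem_R.mp ht

theorem Setup.map_normal (h : Setup N T) {K : Subgroup G} (hfull : ∀ i, h.R K i = i.1)
    (A : Subgroup ↥N) (hA : ∀ x : ↥N, (x : G) ∈ K → ∀ a ∈ A, x * a * x⁻¹ ∈ A) (i : Idx T) :
    A.map (h.pr i) = ⊥ ∨ A.map (h.pr i) = i.1 := by
  apply (Idx.minT h.minT i).simple_aux h.hmin
  · rintro _ ⟨a, _, rfl⟩
    exact h.pr_mem i a
  · rintro t ht _ ⟨a, ha, rfl⟩
    obtain ⟨x, hx, rfl⟩ := h.exists_of_full hfull i ht
    refine ⟨x * a * x⁻¹, hA x hx a ha, ?_⟩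
    rw [map_mul, map_mul, map_inv]

theorem Setup.comm_images (h : Setup N T) {K : Subgroup G} (hfull : ∀ i, h.R K i = i.1)
    (A B : Subgroup ↥N) (hA : ∀ x : ↥N, (x : G) ∈ K → ∀ a ∈ A, x * a * x⁻¹ ∈ A)
    (hB : ∀ x : ↥N, (x : G) ∈ K → ∀ a ∈ B, x * a * x⁻¹ ∈ B) (i : Idx T)
    (hcomm : ∀ a ∈ A, ∀ b ∈ B, h.pr i (a * b * a⁻¹ * b⁻¹) = 1) :
    A.map (h.pr i) = ⊥ ∨ B.map (h.pr i) = ⊥ := by
  rcases h.map_normal hfull A hA i with hA1 | hA1
  · exact Or.inl hA1
  rcases h.map_normal hfull B hB i with hB1 | hB1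
  · exact Or.inr hB1
  exfalso
  obtain ⟨x, hx, y, hy, hxy⟩ := (Idx.minT h.minT i).not_comm h.hmin h.hnab
  rw [← hA1] at hx
  rw [← hB1] at hy
  obtain ⟨a, ha, rfl⟩ := hx
  obtain ⟨b, hb, rfl⟩ := hy
  apply hxy
  have := hcomm a ha b hb
  rw [map_mul, map_mul, map_mul, map_inv, map_inv] at this
  have h2 : h.pr i a * h.pr i b = (h.pr i a * h.pr i b * (h.pr i a)⁻¹ * (h.pr i b)⁻¹) *
      (h.pr i b * h.pr i a) := by group
  rw [h2, this, one_mul]

/-- two factors are related when the projections of `K ⊓ N` on them have the same kernel -/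
def Setup.rel (h : Setup N T) (K : Subgroup G) (i j : Idx T) : Prop :=
  ∀ d : ↥N, (d : G) ∈ K → (h.pr i d = 1 ↔ h.pr j d = 1)

theorem Setup.rel_refl (h : Setup N T) (K : Subgroup G) (i : Idx T) : h.rel K i i :=
  fun _ _ => Iff.rfl

theorem Setup.rel_symm (h : Setup N T) {K : Subgroup G} {i j : Idx T} (hij : h.rel K i j) :
    h.rel K j i := fun d hd => (hij d hd).symm

theorem Setup.rel_trans (h : Setup N T) {K : Subgroup G} {i j l : Idx T} (hij : h.rel K i j)
    (hjl : h.rel K j l) : h.rel K i l := fun d hd => (hij d hd).trans (hjl d hd)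

theorem Setup.R_ne_bot (h : Setup N T) {K : Subgroup G} (hfull : ∀ i, h.R K i = i.1)
    (i : Idx T) : ∃ d : ↥N, (d : G) ∈ K ∧ h.pr i d ≠ 1 := by
  obtain ⟨x, hx, hx1⟩ := Subgroup.exists_ne_one_of_nontrivial_aux (Idx.minT h.minT i).ne
  obtain ⟨d, hd, hd2⟩ := h.exists_of_full hfull i hx
  exact ⟨d, hd, by rw [hd2]; exact hx1⟩
where
  Subgroup.exists_ne_one_of_nontrivial_aux {X : Subgroup G} (hX : X ≠ ⊥) : ∃ x ∈ X, x ≠ 1 := by
    by_contra hcon
    push Not at hcon
    apply hX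
    rw [eq_bot_iff]
    intro x hx
    rw [Subgroup.mem_bot]
    exact hcon x hx

/-- if `ker pr_j ≤ ker pr_i` on `K ⊓ N` then `i` and `j` are related -/
theorem Setup.rel_of_ker_le (h : Setup N T) {K : Subgroup G} (hfull : ∀ i, h.R K i = i.1)
    {i j : Idx T} (hB : (h.Ls K {j}).map (h.pr i) = ⊥) : h.rel K i j := by
  intro d hd
  constructor
  · intro hdi
    rcases h.map_normal hfull (h.Ls K {i}) (h.Ls_normal K {i}) j with hb | hb
    · have : h.pr j d ∈ (h.Ls K {i}).map (h.pr j) :=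
        Subgroup.mem_map_of_mem _ ⟨hd, fun l hl => by
          rw [Finset.mem_singleton] at hl; rw [hl]; exact hdi⟩
      rw [hb, Subgroup.mem_bot] at this
      exact this
    · exfalso
      obtain ⟨d', hd', hd'1⟩ := h.R_ne_bot hfull i
      apply hd'1
      have h1 : h.pr j d' ∈ (h.Ls K {i}).map (h.pr j) := by
        rw [hb]; exact h.pr_mem j d'
      obtain ⟨x, hx, hx2⟩ := h1
      have hy : d' * x⁻¹ ∈ h.Ls K {j} := by
        refine ⟨K.mul_mem hd' (K.inv_mem hx.1), fun l hl => ?_⟩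
        rw [Finset.mem_singleton] at hl
        rw [hl, map_mul, map_inv, hx2, mul_inv_cancel]
      have h2 : h.pr i (d' * x⁻¹) ∈ (h.Ls K {j}).map (h.pr i) := Subgroup.mem_map_of_mem _ hy
      rw [hB, Subgroup.mem_bot, map_mul, map_inv, hx.2 i (Finset.mem_singleton_self i), inv_one,
        mul_one] at h2
      exact h2
  · intro hdj
    have : h.pr i d ∈ (h.Ls K {j}).map (h.pr i) :=
      Subgroup.mem_map_of_mem _ ⟨hd, fun l hl => by
        rw [Finset.mem_singleton] at hl; rw [hl]; exact hdj⟩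
    rw [hB, Subgroup.mem_bot] at this
    exact this

/-- the key lemma: killing the projections on unrelated factors keeps the `i`-th projection full -/
theorem Setup.Ls_full (h : Setup N T) {K : Subgroup G} (hfull : ∀ i, h.R K i = i.1) (i : Idx T) :
    ∀ s : Finset (Idx T), (∀ j ∈ s, ¬ h.rel K i j) → (h.Ls K s).map (h.pr i) = i.1 := by
  intro s
  induction s using Finset.induction_on with
  | empty =>
    intro _
    rw [← hfull i]
    ext t
    rw [h.mem_R, Subgroup.mem_map]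
    constructor
    · rintro ⟨d, hd, rfl⟩
      exact ⟨d, hd.1, rfl⟩
    · rintro ⟨d, hd, rfl⟩
      exact ⟨d, ⟨hd, fun j hj => absurd hj (Finset.notMem_empty j)⟩, rfl⟩
  | insert j s hj ih =>
    intro hrel
    have ihs := ih (fun j' hj' => hrel j' (Finset.mem_insert_of_mem hj'))
    have hnrel := hrel j (Finset.mem_insert_self j s)
    rcases h.map_normal hfull (h.Ls K (insert j s)) (h.Ls_normal K _) i with hbot | hfl
    · exfalso
      have hcomm : ∀ a ∈ h.Ls K s, ∀ b ∈ h.Ls K {j}, h.pr i (a * b * a⁻¹ * b⁻¹) = 1 := by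
        intro a ha b hb
        have hmem : a * b * a⁻¹ * b⁻¹ ∈ h.Ls K (insert j s) := by
          refine ⟨K.mul_mem (K.mul_mem (K.mul_mem ha.1 hb.1) (K.inv_mem ha.1)) (K.inv_mem hb.1),
            fun l hl => ?_⟩
          rw [Finset.mem_insert] at hl
          rw [map_mul, map_mul, map_mul, map_inv, map_inv]
          rcases hl with rfl | hl
          · rw [hb.2 l (Finset.mem_singleton_self l)]
            group
          · rw [ha.2 l hl]
            group
        have : h.pr i (a * b * a⁻¹ * b⁻¹) ∈ (h.Ls K (insert j s)).map (h.pr i) :=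
          Subgroup.mem_map_of_mem _ hmem
        rw [hbot, Subgroup.mem_bot] at this
        exact this
      rcases h.comm_images hfull _ _ (h.Ls_normal K s) (h.Ls_normal K {j}) i hcomm with hA | hB
      · rw [ihs] at hA
        exact (Idx.minT h.minT i).ne hA
      · exact hnrel (h.rel_of_ker_le hfull hB)
    · exact hfl

open Classical in
/-- for each factor `r` and `t ∈ r`, an element of `K ⊓ N` projecting to `t` on `r` and trivially
on all factors unrelated to `r` -/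
theorem Setup.exists_local (h : Setup N T) {K : Subgroup G} (hfull : ∀ i, h.R K i = i.1)
    (r : Idx T) {t : G} (ht : t ∈ r.1) :
    ∃ d : ↥N, (d : G) ∈ K ∧ h.pr r d = t ∧ ∀ j, ¬ h.rel K r j → h.pr j d = 1 := by
  have h1 := h.Ls_full hfull r (Finset.univ.filter fun j => ¬ h.rel K r j) (by
    intro j hj
    exact (Finset.mem_filter.mp hj).2)
  rw [← h1] at ht
  obtain ⟨d, hd, rfl⟩ := ht
  exact ⟨d, hd.1, rfl, fun j hj => hd.2 j (Finset.mem_filter.mpr ⟨Finset.mem_univ j, hj⟩)⟩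

/-- the relation is invariant under `K` -/
theorem Setup.rel_act (h : Setup N T) {K : Subgroup G} {k : G} (hk : k ∈ K) {i j : Idx T}
    (hij : h.rel K i j) : h.rel K (Idx.act k i) (Idx.act k j) := by
  intro d hd
  -- `d = k d' k⁻¹`
  have hN : k⁻¹ * (d : G) * k⁻¹⁻¹ ∈ N := Subgroup.Normal.conj_mem inferInstance _ d.2 k⁻¹
  have hd' : (d : G) = k * ((⟨k⁻¹ * (d : G) * k⁻¹⁻¹, hN⟩ : ↥N) : G) * k⁻¹ := by
    simp only
    group
  have hK' : ((⟨k⁻¹ * (d : G) * k⁻¹⁻¹, hN⟩ : ↥N) : G) ∈ K :=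
    K.mul_mem (K.mul_mem (K.inv_mem hk) hd) (K.inv_mem (K.inv_mem hk))
  rw [h.pr_conj k i _ d hd', h.pr_conj k j _ d hd']
  have := hij _ hK'
  constructor
  · intro h1
    have h2 : h.pr i ⟨k⁻¹ * (d : G) * k⁻¹⁻¹, hN⟩ = 1 := by
      have : h.pr i ⟨k⁻¹ * (d : G) * k⁻¹⁻¹, hN⟩ =
          k⁻¹ * (k * h.pr i ⟨k⁻¹ * (d : G) * k⁻¹⁻¹, hN⟩ * k⁻¹) * k := by group
      rw [this, h1]; group
    rw [this.mp h2]; group
  · intro h1
    have h2 : h.pr j ⟨k⁻¹ * (d : G) * k⁻¹⁻¹, hN⟩ = 1 := by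
      have : h.pr j ⟨k⁻¹ * (d : G) * k⁻¹⁻¹, hN⟩ =
          k⁻¹ * (k * h.pr j ⟨k⁻¹ * (d : G) * k⁻¹⁻¹, hN⟩ * k⁻¹) * k := by group
      rw [this, h1]; group
    rw [this.mpr h2]; group

theorem Setup.rel_act_iff (h : Setup N T) {K : Subgroup G} {k : G} (hk : k ∈ K) (i j : Idx T) :
    h.rel K (Idx.act k i) (Idx.act k j) ↔ h.rel K i j := by
  constructor
  · intro hij
    have := h.rel_act (K.inv_mem hk) hij
    rwa [Idx.act_act, Idx.act_act, inv_mul_cancel, Idx.act_one, Idx.act_one] at this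
  · exact h.rel_act hk

open Classical in
/-- the class of a factor -/
noncomputable def Setup.cls (h : Setup N T) (K : Subgroup G) (i : Idx T) : Finset (Idx T) :=
  Finset.univ.filter fun j => h.rel K i j

open Classical in
theorem Setup.mem_cls (h : Setup N T) {K : Subgroup G} {i j : Idx T} :
    j ∈ h.cls K i ↔ h.rel K i j := by
  unfold Setup.cls
  rw [Finset.mem_filter]
  exact ⟨fun hj => hj.2, fun hj => ⟨Finset.mem_univ j, hj⟩⟩

open Classical in
theorem Setup.card_cls_act (h : Setup N T) {K : Subgroup G} {k : G} (hk : k ∈ K) (i : Idx T) :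
    (h.cls K (Idx.act k i)).card = (h.cls K i).card := by
  have : h.cls K (Idx.act k i) = (h.cls K i).image (Idx.act k) := by
    ext j
    rw [h.mem_cls, Finset.mem_image]
    constructor
    · intro hj
      refine ⟨Idx.act k⁻¹ j, ?_, ?_⟩
      · rw [h.mem_cls]
        have hj' : h.rel K (Idx.act k i) (Idx.act k (Idx.act k⁻¹ j)) := by
          rw [Idx.act_act, mul_inv_cancel, Idx.act_one]; exact hj
        exact (h.rel_act_iff hk _ _).mp hj'
      · rw [Idx.act_act, mul_inv_cancel, Idx.act_one]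
    · rintro ⟨l, hl, rfl⟩
      rw [h.mem_cls] at hl
      exact h.rel_act hk hl
  rw [this, Finset.card_image_of_injective _ (Idx.act_inj k)]

theorem Setup.card_cls_eq (h : Setup N T) {K : Subgroup G} (hK : IsCoatom K) (hNK : ¬ N ≤ K)
    (i j : Idx T) : (h.cls K i).card = (h.cls K j).card := by
  obtain ⟨k, hk, rfl⟩ := h.transitive hK hNK i j
  exact (h.card_cls_act hk i).symm

/-- the classes have at least two elements -/
theorem Setup.two_le_card_cls (h : Setup N T) {K : Subgroup G} (hK : IsCoatom K) (hNK : ¬ N ≤ K)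
    (hfull : ∀ i, h.R K i = i.1) (i : Idx T) : 2 ≤ (h.cls K i).card := by
  classical
  by_contra hlt
  push Not at hlt
  -- all classes are singletons
  have hsing : ∀ r j : Idx T, h.rel K r j → j = r := by
    intro r j hrj
    have hc : (h.cls K r).card ≤ 1 := by
      rw [h.card_cls_eq hK hNK r i]; omega
    rw [Finset.card_le_one] at hc
    exact hc j (h.mem_cls.mpr hrj) r (h.mem_cls.mpr (h.rel_refl K r))
  apply hNK
  rw [← iSup_idx_eq h.minT h.hmin]
  apply iSup_le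
  intro r t ht
  obtain ⟨d, hd, hd1, hd2⟩ := h.exists_local hfull r ht
  have htN : t ∈ N := (Idx.minT h.minT r).nn.1 ht
  have : d = ⟨t, htN⟩ := by
    apply h.ext_pr
    intro l
    by_cases hl : l = r
    · subst hl
      rw [hd1, h.pr_of_mem l ⟨t, htN⟩ ht]
    · rw [hd2 l (fun hrl => hl (hsing r l hrl)), h.pr_of_mem_ne hl ⟨t, htN⟩ ht]
  rw [this] at hd
  exact hd

end Cfsg.Agent.helper7.ONS
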