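import Mathlib
import Cfsg.Agent.Lib_helper7_ONS4

set_option autoImplicit false

/-! O'Nan–Scott core, part 5: assembling the statement. -/

namespace Cfsg.Agent.helper7.ONS

open Cfsg.Agent.helper18

universe u

/-- two surjective homomorphisms with the same kernel differ by an isomorphism of the targets -/
theorem exists_iso_of_ker_eq {D A B : Type*} [Group D] [Group A] [Group B] (f : D →* A)
    (g : D →* B) (hf : Function.Surjective f) (hg : Function.Surjective g)
    (hk : ∀ x, f x = 1 ↔ g x = 1) : ∃ ψ : A ≃* B, ∀ x, ψ (f x) = g x := by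
  have hker : f.ker = g.ker := by
    ext x
    rw [MonoidHom.mem_ker, MonoidHom.mem_ker]
    exact hk x
  refine ⟨(QuotientGroup.quotientKerEquivOfSurjective f hf).symm.trans
    ((QuotientGroup.quotientMulEquivOfEq hker).trans
      (QuotientGroup.quotientKerEquivOfSurjective g hg)), fun x => ?_⟩
  have h1 : (QuotientGroup.quotientKerEquivOfSurjective f hf).symm (f x) =
      (QuotientGroup.mk x : D ⧸ f.ker) := by
    rw [MulEquiv.symm_apply_eq]; rfl
  simp only [MulEquiv.trans_apply, h1]
  rfl

/-- a copy in `Type` of a finite group -/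
theorem exists_type0_copy (A : Type u) [Group A] [Finite A] :
    ∃ (B : Type) (_ : Group B), Nonempty (A ≃* B) := by
  let e : {k : ℕ // k < Nat.card A} ≃ A :=
    (Fin.equivSubtype).symm.trans (Finite.equivFin A).symm
  letI : Group {k : ℕ // k < Nat.card A} := e.group
  exact ⟨{k : ℕ // k < Nat.card A}, inferInstance, ⟨(e.mulEquiv).symm⟩⟩

variable {G : Type u} [Group G] [Finite G] {N T : Subgroup G} [N.Normal]

/-- the corestricted projection -/
noncomputable def Setup.prT (h : Setup N T) (i : Idx T) : ↥N →* ↥(i.1) :=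
  (Pi.evalMonoidHom (fun i : Idx T => ↥(i.1)) i).comp h.Psi.symm.toMonoidHom

theorem Setup.prT_coe (h : Setup N T) (i : Idx T) (n : ↥N) : ((h.prT i n : ↥(i.1)) : G) = h.pr i n :=
  rfl

theorem Setup.prT_eq_iff (h : Setup N T) (i : Idx T) (n n' : ↥N) :
    h.prT i n = h.prT i n' ↔ h.pr i n = h.pr i n' := by
  rw [← h.prT_coe, ← h.prT_coe]
  exact Subtype.ext_iff

theorem Setup.prT_apply (h : Setup N T) (i : Idx T) (n : ↥N) : h.prT i n = (h.Psi.symm n) i := rfl

/-- `T` is a simple group -/
theorem Setup.simple (h : Setup N T) : IsSimpleGroup ↥T := by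
  have : Nontrivial ↥T := (Subgroup.nontrivial_iff_ne_bot T).mpr h.minT.ne
  refine ⟨fun L hL => ?_⟩
  rcases h.minT.simple_aux h.hmin (L.map T.subtype) (Subgroup.map_subtype_le L) (by
    rintro t ht _ ⟨x, hx, rfl⟩
    refine ⟨⟨t, ht⟩ * x * ⟨t, ht⟩⁻¹, hL.conj_mem x hx ⟨t, ht⟩, ?_⟩
    simp) with h1 | h1
  · left
    rw [Subgroup.map_eq_bot_iff_of_injective _ (Subgroup.subtype_injective T)] at h1
    exact h1
  · right
    rw [eq_top_iff]
    intro x _
    have hx : (x : G) ∈ L.map T.subtype := by rw [h1]; exact x.2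
    obtain ⟨y, hy, hyx⟩ := hx
    have : y = x := Subtype.ext hyx
    rw [← this]; exact hy

theorem Setup.not_comm (h : Setup N T) : ¬ IsMulCommutative ↥T := by
  intro hc
  obtain ⟨x, hx, y, hy, hxy⟩ := h.minT.not_comm h.hmin h.hnab
  apply hxy
  have := hc.is_comm.comm (⟨x, hx⟩ : ↥T) ⟨y, hy⟩
  exact congrArg Subtype.val this

/-- the diagonal criterion -/
theorem Setup.mem_of_diag (h : Setup N T) {K : Subgroup G} (hfull : ∀ i, h.R K i = i.1)
    (rep : Idx T → Idx T) (hrep1 : ∀ i, h.rel K i (rep i))
    (hrep2 : ∀ i j, h.rel K i j → rep i = rep j) {T0 : Type*} [Group T0]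
    (ε0 : ∀ r : Idx T, ↥(r.1) ≃* T0) (ε : ∀ i : Idx T, ↥(i.1) ≃* T0)
    (hε : ∀ i, ∀ d : ↥N, (d : G) ∈ K → ε i (h.prT i d) = ε0 (rep i) (h.prT (rep i) d))
    (n : ↥N) (hn : ∀ i, ε i (h.prT i n) = ε (rep i) (h.prT (rep i) n)) : (n : G) ∈ K := by
  classical
  have hrr : ∀ i, rep (rep i) = rep i := fun i => hrep2 (rep i) i (h.rel_symm (hrep1 i))
  -- on representatives `ε` and `ε0` agree
  have hεr : ∀ r, rep r = r → ∀ x : ↥N, ε r (h.prT r x) = ε0 r (h.prT r x) := by
    intro r hr x
    obtain ⟨d, hd, hd2⟩ := h.exists_of_full hfull r (h.pr_mem r x)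
    have hd3 : h.prT r d = h.prT r x := (h.prT_eq_iff r d x).mpr hd2
    rw [← hd3]
    have := hε r d hd
    rw [this]
    clear this hd3
    rw [hr]
  have claim : ∀ s : Finset (Idx T), (∀ r ∈ s, rep r = r) →
      ∃ d : ↥N, (d : G) ∈ K ∧ ∀ j, (rep j ∈ s → h.pr j d = h.pr j n) ∧
        (rep j ∉ s → h.pr j d = 1) := by
    intro s
    induction s using Finset.induction_on with
    | empty =>
      intro _
      exact ⟨1, K.one_mem, fun j => ⟨fun hj => absurd hj (Finset.notMem_empty _),
        fun _ => map_one _⟩⟩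
    | insert r s hrs ih =>
      intro hreps
      obtain ⟨d, hd, hd2⟩ := ih (fun r' hr' => hreps r' (Finset.mem_insert_of_mem hr'))
      have hr : rep r = r := hreps r (Finset.mem_insert_self r s)
      obtain ⟨dr, hdr, hdr1, hdr2⟩ := h.exists_local hfull r (h.pr_mem r n)
      refine ⟨d * dr, K.mul_mem hd hdr, fun j => ?_⟩
      by_cases hj : rep j = r
      · have hjs : rep j ∉ s := by rw [hj]; exact hrs
        have h1 : h.pr j d = 1 := (hd2 j).2 hjs
        have h2 : h.pr j dr = h.pr j n := by
          rw [← h.prT_eq_iff]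
          apply (ε j).injective
          rw [hε j dr hdr, hn j, hj, hεr r hr n]
          congr 1
          exact (h.prT_eq_iff r dr n).mpr hdr1
        constructor
        · intro _
          rw [map_mul, h1, h2, one_mul]
        · intro hjn
          exact absurd (by rw [hj]; exact Finset.mem_insert_self r s) hjn
      · have hnrel : ¬ h.rel K r j := by
          intro hrj
          apply hj
          rw [← hrep2 r j hrj, hr]
        have h2 : h.pr j dr = 1 := hdr2 j hnrel
        constructor
        · intro hjs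
          rw [Finset.mem_insert] at hjs
          rcases hjs with hjs | hjs
          · exact absurd hjs hj
          · rw [map_mul, h2, mul_one]
            exact (hd2 j).1 hjs
        · intro hjs
          rw [Finset.mem_insert, not_or] at hjs
          rw [map_mul, h2, mul_one]
          exact (hd2 j).2 hjs.2
  obtain ⟨d, hd, hd2⟩ := claim (Finset.univ.image rep) (by
    intro r hr
    obtain ⟨i, _, rfl⟩ := Finset.mem_image.mp hr
    exact hrr i)
  have : d = n := by
    apply h.ext_pr
    intro j
    exact (hd2 j).1 (Finset.mem_image_of_mem rep (Finset.mem_univ j))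
  rw [← this]
  exact hd

/-- the core of the O'Nan–Scott theorem, for a maximal subgroup `K` not containing the
non-abelian minimal normal subgroup `N` -/
theorem ons_core (N K : Subgroup G) [N.Normal] (hN : N ≠ ⊥)
    (hmin : ∀ M : Subgroup G, M.Normal → M ≤ N → M = ⊥ ∨ M = N) (hnab : ¬ IsMulCommutative N)
    (hK : IsCoatom K) (hNK : ¬ N ≤ K) :
    ∃ (T0 : Type) (_ : Group T0) (m : ℕ) (e : N ≃* (Fin m → T0)), IsSimpleGroup T0 ∧
      ¬ IsMulCommutative T0 ∧ 0 < m ∧
      ((∃ Ks : Fin m → Subgroup T0, (∀ i, Ks i ≠ ⊤) ∧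
          ∀ n : N, (n : G) ∈ K ↔ ∀ i, e n i ∈ Ks i) ∨
        (∃ (k : ℕ) (c : Fin m → Fin m), 2 ≤ k ∧
          (∀ j : Fin m, Nat.card {i : Fin m // c i = j} = k ∨
            Nat.card {i : Fin m // c i = j} = 0) ∧
          ∀ n : N, (n : G) ∈ K ↔ ∀ i j : Fin m, c i = c j → e n i = e n j)) := by
  classical
  obtain ⟨T, hT⟩ := exists_minT N hN
  have h : Setup N T := ⟨hT, hmin, hnab⟩
  obtain ⟨T0, instT0, ⟨τ⟩⟩ := exists_type0_copy ↥T
  have hsimpleT : IsSimpleGroup ↥T := h.simple
  have hsimple : IsSimpleGroup T0 := by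
    exact τ.symm.isSimpleGroup
  have hncomm : ¬ IsMulCommutative T0 := by
    intro hc
    apply h.not_comm
    constructor
    constructor
    intro a b
    apply τ.injective
    rw [map_mul, map_mul]
    exact hc.is_comm.comm _ _
  -- enumerate the factors
  let m := Fintype.card (Idx T)
  let σ : Idx T ≃ Fin m := Fintype.equivFin (Idx T)
  have hm : 0 < m := Fintype.card_pos_iff.mpr ⟨Idx.base T⟩
  -- identifications of the factors with `T0`
  have hε0 : ∀ r : Idx T, Nonempty (↥(r.1) ≃* T0) := by
    intro r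
    obtain ⟨g, hg⟩ := r.2
    exact ⟨(MulEquiv.subgroupCongr hg).trans
      ((T.equivMapOfInjective _ (MulAut.conj g).injective).symm.trans τ)⟩
  let ε0 : ∀ r : Idx T, ↥(r.1) ≃* T0 := fun r => (hε0 r).some
  by_cases hR : ∃ i, h.R K i ≠ i.1
  · -- the product case
    obtain ⟨hRall, hRiff⟩ := h.case_prod hK hNK hR
    let e : ↥N ≃* (Fin m → T0) :=
      h.Psi.symm.trans ((MulEquiv.piCongrRight ε0).trans (MulEquiv.arrowCongr σ (MulEquiv.refl T0)))
    have he : ∀ (n : ↥N) (x : Fin m), e n x = ε0 (σ.symm x) (h.prT (σ.symm x) n) := by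
      intro n x
      rfl
    refine ⟨T0, instT0, m, e, hsimple, hncomm, hm, Or.inl ?_⟩
    refine ⟨fun x => ((h.R K (σ.symm x)).subgroupOf (σ.symm x).1).map
      (ε0 (σ.symm x)).toMonoidHom, ?_, ?_⟩
    · intro x htop
      apply hRall (σ.symm x)
      apply le_antisymm (h.R_le K _)
      intro t ht
      have h1 : ε0 (σ.symm x) ⟨t, ht⟩ ∈ ((h.R K (σ.symm x)).subgroupOf (σ.symm x).1).map
          (ε0 (σ.symm x)).toMonoidHom := by
        have h0 : ε0 (σ.symm x) ⟨t, ht⟩ ∈ (⊤ : Subgroup T0) := Subgroup.mem_top _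
        rw [← htop] at h0
        exact h0
      obtain ⟨y, hy, hy2⟩ := h1
      have : y = ⟨t, ht⟩ := (ε0 (σ.symm x)).injective hy2
      rw [this] at hy
      exact Subgroup.mem_subgroupOf.mp hy
    · intro n
      rw [hRiff n]
      constructor
      · intro hn x
        rw [he]
        exact ⟨h.prT (σ.symm x) n, Subgroup.mem_subgroupOf.mpr (hn (σ.symm x)), rfl⟩
      · intro hn i
        have := hn (σ i)
        rw [he] at this
        obtain ⟨y, hy, hy2⟩ := this
        have hy3 : y = h.prT (σ.symm (σ i)) n := (ε0 (σ.symm (σ i))).injective hy2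
        rw [hy3] at hy
        have h4 := Subgroup.mem_subgroupOf.mp hy
        rw [h.prT_coe] at h4
        rw [Equiv.symm_apply_apply] at h4
        exact h4
  · -- the diagonal case
    push Not at hR
    have hfull : ∀ i, h.R K i = i.1 := hR
    -- representatives
    let S : Setoid (Idx T) := ⟨h.rel K, ⟨h.rel_refl K, fun hij => h.rel_symm hij,
      fun hij hjl => h.rel_trans hij hjl⟩⟩
    let rep : Idx T → Idx T := fun i => (Quotient.mk S i).out
    have hrep1 : ∀ i, h.rel K i (rep i) := by
      intro i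
      have : S.r (rep i) i := Quotient.exact (Quotient.out_eq (Quotient.mk S i))
      exact h.rel_symm this
    have hrep2 : ∀ i j, h.rel K i j → rep i = rep j := by
      intro i j hij
      have : Quotient.mk S i = Quotient.mk S j := Quotient.sound hij
      show (Quotient.mk S i).out = (Quotient.mk S j).out
      rw [this]
    have hrr : ∀ i, rep (rep i) = rep i := fun i => hrep2 (rep i) i (h.rel_symm (hrep1 i))
    -- adapted identifications
    have hεex : ∀ i : Idx T, ∃ ψ : ↥(i.1) ≃* T0, ∀ d : ↥N, (d : G) ∈ K →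
        ψ (h.prT i d) = ε0 (rep i) (h.prT (rep i) d) := by
      intro i
      let Dn : Subgroup ↥N := K.subgroupOf N
      let f : ↥Dn →* ↥(i.1) := (h.prT i).comp Dn.subtype
      let g : ↥Dn →* T0 := (ε0 (rep i)).toMonoidHom.comp ((h.prT (rep i)).comp Dn.subtype)
      have hf : Function.Surjective f := by
        intro t
        obtain ⟨d, hd, hd2⟩ := h.exists_of_full hfull i t.2
        exact ⟨⟨d, Subgroup.mem_subgroupOf.mpr hd⟩, Subtype.ext hd2⟩
      have hg : Function.Surjective g := by
        intro y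
        obtain ⟨d, hd, hd2⟩ := h.exists_of_full hfull (rep i) ((ε0 (rep i)).symm y).2
        refine ⟨⟨d, Subgroup.mem_subgroupOf.mpr hd⟩, ?_⟩
        show ε0 (rep i) (h.prT (rep i) d) = y
        have : h.prT (rep i) d = (ε0 (rep i)).symm y := Subtype.ext hd2
        rw [this, MulEquiv.apply_symm_apply]
      have hk : ∀ x, f x = 1 ↔ g x = 1 := by
        intro x
        have hx : ((x : ↥N) : G) ∈ K := Subgroup.mem_subgroupOf.mp x.2
        have h1 : f x = 1 ↔ h.pr i x = 1 := by
          show h.prT i x = 1 ↔ _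
          rw [← h.prT_coe, OneMemClass.coe_eq_one]
        have h2 : g x = 1 ↔ h.pr (rep i) x = 1 := by
          show ε0 (rep i) (h.prT (rep i) x) = 1 ↔ _
          rw [MulEquiv.map_eq_one_iff, ← h.prT_coe, OneMemClass.coe_eq_one]
        rw [h1, h2]
        exact hrep1 i x hx
      obtain ⟨ψ, hψ⟩ := exists_iso_of_ker_eq f g hf hg hk
      exact ⟨ψ, fun d hd => hψ ⟨d, Subgroup.mem_subgroupOf.mpr hd⟩⟩
    let ε : ∀ i : Idx T, ↥(i.1) ≃* T0 := fun i => (hεex i).choose
    have hε : ∀ i, ∀ d : ↥N, (d : G) ∈ K → ε i (h.prT i d) = ε0 (rep i) (h.prT (rep i) d) :=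
      fun i => (hεex i).choose_spec
    let e : ↥N ≃* (Fin m → T0) :=
      h.Psi.symm.trans ((MulEquiv.piCongrRight ε).trans (MulEquiv.arrowCongr σ (MulEquiv.refl T0)))
    have he : ∀ (n : ↥N) (x : Fin m), e n x = ε (σ.symm x) (h.prT (σ.symm x) n) := by
      intro n x
      rfl
    let i₀ : Idx T := Idx.base T
    refine ⟨T0, instT0, m, e, hsimple, hncomm, hm, Or.inr ?_⟩
    refine ⟨(h.cls K i₀).card, fun x => σ (rep (σ.symm x)), h.two_le_card_cls hK hNK hfull i₀,
      ?_, ?_⟩
    · -- fibres
      intro y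
      by_cases hy : rep (σ.symm y) = σ.symm y
      · left
        have e1 : {x : Fin m // σ (rep (σ.symm x)) = y} ≃ {i : Idx T // i ∈ h.cls K (σ.symm y)} := by
          refine (Equiv.subtypeEquiv σ.symm ?_)
          intro x
          rw [h.mem_cls]
          constructor
          · intro hx
            have : rep (σ.symm x) = σ.symm y := by rw [← hx, Equiv.symm_apply_apply]
            have h1 := hrep1 (σ.symm x)
            rw [this] at h1
            exact h.rel_symm h1
          · intro hx
            have := hrep2 _ _ hx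
            rw [hy] at this
            rw [← this, Equiv.apply_symm_apply]
        rw [Nat.card_congr e1, Nat.card_eq_fintype_card, Fintype.card_coe]
        exact h.card_cls_eq hK hNK _ _
      · right
        rw [Nat.card_eq_zero]
        left
        constructor
        rintro ⟨x, hx⟩
        apply hy
        have : σ.symm y = rep (σ.symm x) := by rw [← hx, Equiv.symm_apply_apply]
        rw [this, hrr]
    · intro n
      constructor
      · intro hn x y hxy
        rw [he, he, hε _ n hn, hε _ n hn]
        have : rep (σ.symm x) = rep (σ.symm y) := σ.injective hxy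
        rw [this]
      · intro hn
        apply h.mem_of_diag hfull rep hrep1 hrep2 ε0 ε hε n
        intro i
        have := hn (σ i) (σ (rep i)) (by
          show σ (rep (σ.symm (σ i))) = σ (rep (σ.symm (σ (rep i))))
          rw [Equiv.symm_apply_apply, Equiv.symm_apply_apply, hrr])
        have h1 : ∀ a : Idx T, e n (σ a) = ε a (h.prT a n) := by
          intro a
          rw [he]
          have h2 : σ.symm (σ a) = a := Equiv.symm_apply_apply σ a
          rw [h2]
        rw [h1, h1] at this
        exact this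

end Cfsg.Agent.helper7.ONS
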