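import Mathlib
import Cfsg.Agent.Lib_helper7_PQ

set_option autoImplicit false

namespace Cfsg.Agent.helper7

variable {G : Type*} [Group G]

/-- Let `X` normalize `Y`, with `X = ⁅X, X⁆ (X ∩ Y)`, such that all elements of `X` of prime power
order `q^k`, `q ≠ p`, lie in `Y`. Then `X ≤ Y`. -/
theorem le_of_pprime_elts_of_perfect_mod [Finite G] {p : ℕ} [Fact p.Prime] {X Y : Subgroup G}
    (hperf : X ≤ ⁅X, X⁆ ⊔ Y) (hn : X ≤ Subgroup.normalizer (Y : Set G))
    (h : ∀ q : ℕ, q.Prime → q ≠ p → ∀ x ∈ X, ∀ k : ℕ, x ^ q ^ k = 1 → x ∈ Y) : X ≤ Y := by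
  haveI : (Y.subgroupOf X).Normal := Subgroup.normal_subgroupOf_of_le_normalizer hn
  -- the index is a power of p
  have hidx : ∀ q : ℕ, q.Prime → q ∣ (Y.subgroupOf X).index → q = p := by
    intro q hq hdvd
    by_contra hqp
    haveI : Fact q.Prime := ⟨hq⟩
    obtain ⟨S⟩ : Nonempty (Sylow q ↥X) := inferInstance
    have hle : (S : Subgroup ↥X) ≤ Y.subgroupOf X := by
      intro x hx
      rw [Subgroup.mem_subgroupOf]
      obtain ⟨k, hk⟩ := S.isPGroup' ⟨x, hx⟩
      have hk' : (x : G) ^ q ^ k = 1 := by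
        have h2 : x ^ q ^ k = 1 := congrArg Subtype.val hk
        have h3 : ((x ^ q ^ k : ↥X) : G) = 1 := by rw [h2]; rfl
        simpa using h3
      exact h q hq hqp x x.2 k hk'
    exact S.not_dvd_index (dvd_trans hdvd (Subgroup.index_dvd_of_le hle))
  have hpow : (Y.subgroupOf X).index = p ^ ((Y.subgroupOf X).index).primeFactorsList.length :=
    Nat.eq_prime_pow_of_unique_prime_dvd (Subgroup.index_ne_zero_of_finite)
      (fun {d} hd hdvd => hidx d hd hdvd)
  have hPG : IsPGroup p (↥X ⧸ Y.subgroupOf X) := by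
    apply IsPGroup.of_card (n := ((Y.subgroupOf X).index).primeFactorsList.length)
    rw [← hpow]
    exact (Subgroup.index_eq_card (Y.subgroupOf X)).symm
  haveI : Group.IsNilpotent (↥X ⧸ Y.subgroupOf X) := hPG.isNilpotent
  -- the quotient is perfect
  have hsurj : Function.Surjective (QuotientGroup.mk' (Y.subgroupOf X)) :=
    QuotientGroup.mk'_surjective _
  have htop : (commutator ↥X) ⊔ Y.subgroupOf X = ⊤ := by
    rw [eq_top_iff]
    intro x _
    have hx := hperf x.2
    rw [← Subgroup.map_subtype_commutator] at hx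
    -- x ∈ map (commutator X) ⊔ Y
    have hmem : x ∈ ((commutator ↥X) ⊔ Y.subgroupOf X : Subgroup ↥X) := by
      have h1 : (commutator ↥X).map X.subtype ⊔ Y ⊓ X =
          ((commutator ↥X) ⊔ Y.subgroupOf X).map X.subtype := by
        rw [Subgroup.map_sup, Subgroup.subgroupOf_map_subtype]
      have h2 : (x : G) ∈ (commutator ↥X).map X.subtype ⊔ Y ⊓ X := by
        have hcX : (commutator ↥X).map X.subtype ≤ X := by
          rintro _ ⟨y, _, rfl⟩; exact y.2
        rw [sup_comm] at hx
        obtain ⟨y, hy, c, hc, hxe⟩ := mem_sup_of_normalizer (N₁ := Y)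
          (N₂ := (commutator ↥X).map X.subtype) (hcX.trans hn) hx
        have hyX : y ∈ X := by
          have : y = (x : G) * c⁻¹ := by rw [hxe]; group
          rw [this]
          exact X.mul_mem x.2 (X.inv_mem (hcX hc))
        rw [hxe]
        exact Subgroup.mul_mem _ (Subgroup.mem_sup_right (Subgroup.mem_inf.2 ⟨hy, hyX⟩))
          (Subgroup.mem_sup_left hc)
      rw [h1] at h2
      obtain ⟨y, hy, hyx⟩ := h2
      have : y = x := Subtype.ext hyx
      rw [← this]; exact hy
    exact hmem
  have hcomm : commutator (↥X ⧸ Y.subgroupOf X) = ⊤ := by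
    have h1 : (commutator ↥X).map (QuotientGroup.mk' (Y.subgroupOf X)) =
        commutator (↥X ⧸ Y.subgroupOf X) := by
      rw [commutator_def, commutator_def, Subgroup.map_commutator,
        Subgroup.map_top_of_surjective _ hsurj]
    rw [← h1]
    have h2 : ((commutator ↥X) ⊔ Y.subgroupOf X).map (QuotientGroup.mk' (Y.subgroupOf X)) = ⊤ := by
      rw [htop, Subgroup.map_top_of_surjective _ hsurj]
    rw [Subgroup.map_sup] at h2
    have h3 : (Y.subgroupOf X).map (QuotientGroup.mk' (Y.subgroupOf X)) = ⊥ := by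
      rw [Subgroup.map_eq_bot_iff, QuotientGroup.ker_mk']
    rwa [h3, sup_bot_eq] at h2
  have hsub : Subsingleton (↥X ⧸ Y.subgroupOf X) := by
    by_contra hns
    rw [not_subsingleton_iff_nontrivial] at hns
    have := Group.IsSolvable.commutator_lt_top_of_nontrivial (↥X ⧸ Y.subgroupOf X)
    rw [hcomm] at this
    exact lt_irrefl _ this
  have htop' := QuotientGroup.subgroup_eq_top_of_subsingleton _ hsub
  rw [Subgroup.subgroupOf_eq_top] at htop'
  exact htop'

end Cfsg.Agent.helper7
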