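import Mathlib
import Cfsg.Agent.Lib_helper7_PConstr

set_option autoImplicit false

namespace Cfsg.Agent.helper7

variable {G : Type*} [Group G]

/-- A quasisimple subgroup `L` has no central subgroup `Z` with `L / Z` a `p`-group. -/
theorem QS.not_pgroup_mod_central [Finite G] {p : ℕ} (hp : p.Prime) {L : Subgroup G} (hL : QS L)
    {m : ℕ} (hpow : ∀ y ∈ L, y ^ (p ^ m) ∈ Subgroup.centralizer (L : Set G)) : False := by
  haveI : Fact p.Prime := ⟨hp⟩
  have hQ : IsPGroup p (↥L ⧸ Subgroup.center ↥L) := by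
    intro q
    obtain ⟨y, rfl⟩ := QuotientGroup.mk_surjective q
    refine ⟨m, ?_⟩
    rw [← QuotientGroup.mk_pow, QuotientGroup.eq_one_iff, Subgroup.mem_center_iff]
    intro z
    have h1 := hpow y.1 y.2
    rw [Subgroup.mem_centralizer_iff] at h1
    apply Subtype.ext
    have := h1 z.1 z.2
    simpa using this
  have hnil : Group.IsNilpotent (↥L ⧸ Subgroup.center ↥L) := hQ.isNilpotent
  have hnil' : Group.IsNilpotent ↥L := Group.of_quotient_center_nilpotent hnil
  have hs : Group.IsSolvable ↥L := inferInstance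
  exact hL.not_le_solvable hs le_rfl

/-- A `p`-solvable finite group has trivial `p`-layer. -/
theorem pLayer_eq_bot_of_isPSolvable [Finite G] {p : ℕ} (hp : p.Prime)
    (h : Cfsg.IsPSolvable p G) : Cfsg.pLayer p G = ⊥ := by
  rw [eq_bot_iff]
  unfold Cfsg.pLayer
  apply sSup_le
  intro K hK
  exfalso
  obtain ⟨n, H, h0, hn, hmono, hnorm, hfac⟩ := h
  obtain ⟨hK1, hK2, hK3⟩ := isPComponent_iff.1 hK
  have key : ∀ i : ℕ, ∀ hi : i < n + 1, ¬ K ≤ H ⟨i, hi⟩ := by
    intro i
    induction i with
    | zero =>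
      intro hi hle
      have : (⟨0, hi⟩ : Fin (n + 1)) = 0 := rfl
      rw [this, h0] at hle
      exact pcomp_not_le_core hK (hle.trans bot_le)
    | succ i ih =>
      intro hi hle
      have hi' : i < n := Nat.lt_of_succ_lt_succ hi
      have hprev := ih (Nat.lt_of_succ_lt hi)
      have e1 : (⟨i, Nat.lt_of_succ_lt hi⟩ : Fin (n + 1)) = (⟨i, hi'⟩ : Fin n).castSucc := rfl
      have e2 : (⟨i + 1, hi⟩ : Fin (n + 1)) = (⟨i, hi'⟩ : Fin n).succ := rfl
      rw [e1] at hprev
      rw [e2] at hle
      haveI := hnorm (⟨i, hi'⟩ : Fin n).castSucc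
      have hMK : K ⊓ H (⟨i, hi'⟩ : Fin n).castSucc ≤ K := inf_le_left
      have hMn : K ≤ Subgroup.normalizer
          ((K ⊓ H (⟨i, hi'⟩ : Fin n).castSucc : Subgroup G) : Set G) := by
        intro k hk
        apply Subgroup.inf_normalizer_le_normalizer_inf
        refine Subgroup.mem_inf.2 ⟨Subgroup.le_normalizer hk, ?_⟩
        rw [Subgroup.normalizer_eq_top]
        exact Subgroup.mem_top k
      have hne : K ⊓ H (⟨i, hi'⟩ : Fin n).castSucc ≠ K := by
        intro he
        exact hprev (he ▸ inf_le_right)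
      rcases hfac ⟨i, hi'⟩ with ⟨m, hm⟩ | hm
      · -- `p`-factor
        rcases pcomp_normal_cases hK hMK hMn with h1 | h1
        · exact hne h1
        · apply QS.not_pgroup_mod_central hp hK2.2 (m := m)
          rintro _ ⟨k, hk, rfl⟩
          rw [← map_pow]
          have h2 : k ^ (p ^ m) ∈ K ⊓ H (⟨i, hi'⟩ : Fin n).castSucc := by
            refine ⟨K.pow_mem hk _, ?_⟩
            rw [← hm]
            exact Subgroup.pow_relIndex_mem _ (hle hk)
          have h4 : (K ⊓ H (⟨i, hi'⟩ : Fin n).castSucc).map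
              (QuotientGroup.mk' (Cfsg.pPrimeCore p G)) ≤
              Subgroup.centralizer ((K.map (QuotientGroup.mk' (Cfsg.pPrimeCore p G)) :
                Subgroup _) : Set _) := by
            rw [← Subgroup.commutator_eq_bot_iff_le_centralizer, ← Subgroup.map_commutator]
            exact map_eq_bot_of_le_pPrimeCore h1
          exact h4 (Subgroup.mem_map_of_mem _ h2)
      · -- `p'`-factor
        apply hne
        apply pcomp_eq_of_pprime_quotient hp hK hMK hMn hm
        intro k hk
        exact ⟨K.pow_mem hk _, Subgroup.pow_relIndex_mem _ (hle hk)⟩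
  have := key n (Nat.lt_succ_self n)
  have e : (⟨n, Nat.lt_succ_self n⟩ : Fin (n + 1)) = Fin.last n := rfl
  rw [e, hn] at this
  exact this le_top

/-- A `p`-solvable finite group is `p`-constrained. -/
theorem isPConstrained_of_isPSolvable [Finite G] {p : ℕ} (hp : p.Prime)
    (h : Cfsg.IsPSolvable p G) : Cfsg.IsPConstrained p G :=
  (isPConstrained_iff hp).2 (pLayer_eq_bot_of_isPSolvable hp h)

end Cfsg.Agent.helper7
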