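import Mathlib

set_option autoImplicit false

/-! Piece L0 of the S2531 swarm: fibres of `Projectivization.mk`. -/

namespace Cfsg.Agent.helper7.S2531x

variable {F : Type*} [Field F] [Finite F] {n : ℕ}

theorem proj_fiber_count (pred : Projectivization F (Fin n → F) → Prop) :
    (Nat.card F - 1) * Set.ncard {x : Projectivization F (Fin n → F) | pred x} =
      Set.ncard {v : Fin n → F | ∃ hv : v ≠ 0, pred (Projectivization.mk F v hv)} := by
  classical
  set X : Set (Projectivization F (Fin n → F)) := {x | pred x} with hX
  set S : Set (Fin n → F) := {v | ∃ hv : v ≠ 0, pred (Projectivization.mk F v hv)} with hS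
  -- the map
  have hmem : ∀ (x : ↥X) (c : Fˣ), c • (x : Projectivization F (Fin n → F)).rep ∈ S := by
    intro x c
    have hne : c • (x : Projectivization F (Fin n → F)).rep ≠ 0 := by
      intro h
      exact (x : Projectivization F (Fin n → F)).rep_nonzero ((smul_eq_zero_iff_eq c).mp h)
    refine ⟨hne, ?_⟩
    have : Projectivization.mk F (c • (x : Projectivization F (Fin n → F)).rep) hne = x := by
      conv_rhs => rw [← Projectivization.mk_rep (x : Projectivization F (Fin n → F))]
      rw [Projectivization.mk_eq_mk_iff]
      exact ⟨c, rfl⟩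
    rw [this]
    exact x.2
  let Φ : ↥X × Fˣ → ↥S := fun p => ⟨p.2 • (p.1 : Projectivization F (Fin n → F)).rep, hmem p.1 p.2⟩
  have hinj : Function.Injective Φ := by
    rintro ⟨x, c⟩ ⟨x', c'⟩ h
    have h' : c • (x : Projectivization F (Fin n → F)).rep =
        c' • (x' : Projectivization F (Fin n → F)).rep := congrArg Subtype.val h
    have hxx : (x : Projectivization F (Fin n → F)) = x' := by
      rw [← Projectivization.mk_rep (x : Projectivization F (Fin n → F)),
        ← Projectivization.mk_rep (x' : Projectivization F (Fin n → F)),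
        Projectivization.mk_eq_mk_iff]
      refine ⟨c⁻¹ * c', ?_⟩
      rw [mul_smul, ← h', smul_smul, inv_mul_cancel, one_smul]
    have hx : x = x' := Subtype.ext hxx
    subst hx
    have hc : c = c' := by
      have h2 : ((c : F) - (c' : F)) • (x : Projectivization F (Fin n → F)).rep = 0 := by
        rw [sub_smul]
        have : (c : F) • (x : Projectivization F (Fin n → F)).rep =
            (c' : F) • (x : Projectivization F (Fin n → F)).rep := h'
        rw [this, sub_self]
      rcases smul_eq_zero.mp h2 with h3 | h3
      · exact Units.ext (sub_eq_zero.mp h3)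
      · exact absurd h3 (x : Projectivization F (Fin n → F)).rep_nonzero
    rw [hc]
  have hsurj : Function.Surjective Φ := by
    rintro ⟨v, hv, hp⟩
    obtain ⟨a, ha⟩ := Projectivization.exists_smul_eq_mk_rep F v hv
    refine ⟨(⟨Projectivization.mk F v hv, hp⟩, a⁻¹), ?_⟩
    apply Subtype.ext
    show a⁻¹ • (Projectivization.mk F v hv).rep = v
    rw [← ha, smul_smul, inv_mul_cancel, one_smul]
  have hcard : Nat.card (↥X × Fˣ) = Nat.card ↥S :=
    Nat.card_congr (Equiv.ofBijective Φ ⟨hinj, hsurj⟩)
  rw [Nat.card_prod, Nat.card_units, Nat.card_coe_set_eq, Nat.card_coe_set_eq] at hcard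
  rw [← hcard, mul_comm]

end Cfsg.Agent.helper7.S2531x
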