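import Mathlib
import Cfsg.Agent.Lib_helper25_SpCountC
import Cfsg.Agent.S2389
import Cfsg.Agent.S2385

set_option autoImplicit false
open Polynomial

/-! Piece I of the S2645 swarm. -/

namespace Cfsg.Agent.helper7.S2645x

open Cfsg.Agent.helper25.SpCount

/-- `A^r = 1` implies that the characteristic polynomial divides a power of `X^r - 1`. -/
theorem charpoly_dvd_of_pow_eq_one {F : Type*} [Field F] {ι : Type*} [Fintype ι] [DecidableEq ι]
    (A : Matrix ι ι F) (r : ℕ) (hA : A ^ r = 1) :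
    A.charpoly ∣ (X ^ r - 1 : F[X]) ^ Fintype.card ι := by
  set B : Matrix ι ι F[X] := (C : F →+* F[X]).mapMatrix A with hB
  set Xs : Matrix ι ι F[X] := Matrix.scalar ι (X : F[X]) with hXs
  have hcomm : Commute Xs B := Matrix.scalar_commute _ (fun _ => Commute.all _ _) _
  have hBr : B ^ r = 1 := by rw [hB, ← map_pow, hA, map_one]
  have hXr : Xs ^ r = Matrix.scalar ι ((X : F[X]) ^ r) := by rw [hXs, ← map_pow]
  have key := hcomm.geom_sum₂_mul r
  rw [hBr, hXr] at key
  have h1 : Matrix.scalar ι ((X : F[X]) ^ r) - 1 = Matrix.scalar ι ((X : F[X]) ^ r - 1) := by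
    rw [map_sub, map_one]
  rw [h1] at key
  have hdet := congrArg Matrix.det key
  rw [Matrix.det_mul] at hdet
  have h2 : (Matrix.scalar ι ((X : F[X]) ^ r - 1)).det = ((X : F[X]) ^ r - 1) ^ Fintype.card ι := by
    rw [Matrix.scalar_apply, Matrix.det_diagonal, Finset.prod_const, Finset.card_univ]
  rw [h2] at hdet
  have h3 : (Xs - B).det = A.charpoly := rfl
  rw [h3] at hdet
  exact ⟨_, by rw [← hdet, mul_comm]⟩

/-- A matrix of order prime to the characteristic whose characteristic polynomial divides a power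
of `X^r - 1` satisfies `A^r = 1`. -/
theorem pow_eq_one_of_charpoly_dvd {F : Type*} [Field F] {ι : Type*} [Fintype ι] [DecidableEq ι]
    (A : Matrix ι ι F) (N r k : ℕ) (hN : A ^ N = 1) (hNF : (N : F) ≠ 0)
    (hdvd : A.charpoly ∣ (X ^ r - 1 : F[X]) ^ k) : A ^ r = 1 := by
  by_cases hk : k = 0
  · -- charpoly divides 1, so the matrix ring is trivial
    subst hk
    rw [pow_zero] at hdvd
    have hdeg : A.charpoly.natDegree = 0 := by
      have := Polynomial.natDegree_eq_zero_of_isUnit (isUnit_of_dvd_one hdvd)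
      exact this
    rw [Matrix.charpoly_natDegree_eq_dim] at hdeg
    haveI : IsEmpty ι := Fintype.card_eq_zero_iff.mp hdeg
    exact Subsingleton.elim _ _
  · have hsep : (X ^ N - C (1 : F) : F[X]).Separable := separable_X_pow_sub_C 1 hNF one_ne_zero
    have haev : aeval A (X ^ N - C (1 : F) : F[X]) = 0 := by
      rw [map_sub, map_pow, aeval_X, aeval_C, map_one, hN, sub_self]
    have hmin : minpoly F A ∣ (X ^ N - C (1 : F) : F[X]) := minpoly.dvd F A haev
    have hsq : Squarefree (minpoly F A) := hsep.squarefree.squarefree_of_dvd hmin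
    have h1 : minpoly F A ∣ (X ^ r - 1 : F[X]) ^ k :=
      (Matrix.minpoly_dvd_charpoly A).trans hdvd
    have h2 : minpoly F A ∣ (X ^ r - 1 : F[X]) := (hsq.dvd_pow_iff_dvd hk).mp h1
    obtain ⟨c, hc⟩ := h2
    have h3 : aeval A (X ^ r - 1 : F[X]) = 0 := by
      rw [hc, map_mul, minpoly.aeval, zero_mul]
    rw [map_sub, map_pow, aeval_X, map_one] at h3
    exact sub_eq_zero.mp h3


section Sp

variable {F : Type*} [Field F] [Fintype F]

theorem sp_natDegree (m : ℕ) (g : ↥(Matrix.symplecticGroup (Fin m) F)) :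
    (g : Matrix (Fin m ⊕ Fin m) (Fin m ⊕ Fin m) F).charpoly.natDegree = m + m := by
  rw [Matrix.charpoly_natDegree_eq_dim, Fintype.card_sum, Fintype.card_fin]

/-- Every self-reciprocal monic polynomial of degree `2m` is the characteristic polynomial of an
element of `Sp_{2m}(q)` of order prime to `p`. -/
theorem exists_sp_charpoly_eq (p : ℕ) [Fact p.Prime] [CharP F p] (m : ℕ) (f : F[X])
    (hm : f.Monic) (hd : f.natDegree = m + m)
    (hs : ∀ k, k ≤ m + m → f.coeff (m + m - k) = f.coeff k) :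
    ∃ g : ↥(Matrix.symplecticGroup (Fin m) F), (orderOf g).Coprime p ∧
      (g : Matrix (Fin m ⊕ Fin m) (Fin m ⊕ Fin m) F).charpoly = f := by
  classical
  let T := {c : ConjClasses ↥(Matrix.symplecticGroup (Fin m) F) //
      ∃ g : ↥(Matrix.symplecticGroup (Fin m) F), ConjClasses.mk g = c ∧ (orderOf g).Coprime p}
  let rep : T → ↥(Matrix.symplecticGroup (Fin m) F) := fun c => Classical.choose c.2
  have hrep : ∀ c : T, ConjClasses.mk (rep c) = c.1 ∧ (orderOf (rep c)).Coprime p :=
    fun c => Classical.choose_spec c.2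
  have hfin : Finite T := inferInstance
  have hcardT : Nat.card T = Fintype.card F ^ m := Cfsg.Agent.S2385.result rfl p m
  have hcardfun : Nat.card (Fin m → F) = Fintype.card F ^ m := by
    rw [Nat.card_eq_fintype_card, Fintype.card_fun, Fintype.card_fin]
  let Φ : T → (Fin m → F) := fun c j =>
    ((rep c : Matrix (Fin m ⊕ Fin m) (Fin m ⊕ Fin m) F)).charpoly.coeff ((j : ℕ) + 1)
  have hΦ : Function.Injective Φ := by
    intro c c' h
    have hcp : ((rep c : Matrix (Fin m ⊕ Fin m) (Fin m ⊕ Fin m) F)).charpoly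
        = ((rep c' : Matrix (Fin m ⊕ Fin m) (Fin m ⊕ Fin m) F)).charpoly := by
      apply poly_eq_of_symm (n := m) _ _ (Matrix.charpoly_monic _) (Matrix.charpoly_monic _)
        (sp_natDegree m _) (sp_natDegree m _) (charpoly_symm (rep c)) (charpoly_symm (rep c'))
      intro j hj
      exact congrFun h ⟨j, hj⟩
    have h2 := Cfsg.Agent.S2389.result p m (rep c) (rep c') (hrep c).2 (hrep c').2 hcp
    apply Subtype.ext
    rw [← (hrep c).1, ← (hrep c').1, ConjClasses.mk_eq_mk_iff_isConj]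
    exact h2
  have hbij : Function.Bijective Φ :=
    hΦ.bijective_of_nat_card_le (by rw [hcardT, hcardfun])
  obtain ⟨c, hc⟩ := hbij.2 (fun j => f.coeff ((j : ℕ) + 1))
  refine ⟨rep c, (hrep c).2, ?_⟩
  apply poly_eq_of_symm (n := m) _ _ (Matrix.charpoly_monic _) hm (sp_natDegree m _) hd
    (charpoly_symm (rep c)) hs
  intro j hj
  exact congrFun hc ⟨j, hj⟩

/-- PIECE I. -/
theorem pieceI (p : ℕ) [Fact p.Prime] [CharP F p] (m r : ℕ)
    (hr : r.Prime) (hrp : r ≠ p) :
    Nat.card {c : ConjClasses ↥(Matrix.symplecticGroup (Fin m) F) //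
      ∃ g : Matrix.symplecticGroup (Fin m) F, ConjClasses.mk g = c ∧ orderOf g = r} + 1 =
    Nat.card {f : F[X] // f.Monic ∧ f.natDegree = m + m ∧
      (∀ k, k ≤ m + m → f.coeff (m + m - k) = f.coeff k) ∧ f ∣ (X ^ r - 1) ^ (m + m)} := by
  classical
  have hp : p.Prime := Fact.out
  have hcop : Nat.Coprime r p := (Nat.coprime_primes hr hp).mpr hrp
  have hcard2 : Fintype.card (Fin m ⊕ Fin m) = m + m := by
    rw [Fintype.card_sum, Fintype.card_fin]
  set s : Set (ConjClasses ↥(Matrix.symplecticGroup (Fin m) F)) :=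
    {c | ∃ g : Matrix.symplecticGroup (Fin m) F, ConjClasses.mk g = c ∧ orderOf g = r} with hs
  set s' : Set (ConjClasses ↥(Matrix.symplecticGroup (Fin m) F)) :=
    {c | ∃ g : Matrix.symplecticGroup (Fin m) F, ConjClasses.mk g = c ∧ g ^ r = 1} with hs'
  have hone : ConjClasses.mk (1 : ↥(Matrix.symplecticGroup (Fin m) F)) ∉ s := by
    rintro ⟨g, hg, hgr⟩
    rw [ConjClasses.mk_eq_mk_iff_isConj] at hg
    have : g = 1 := isConj_one_left.mp hg
    rw [this, orderOf_one] at hgr
    exact hr.one_lt.ne hgr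
  have hins : s' = insert (ConjClasses.mk (1 : ↥(Matrix.symplecticGroup (Fin m) F))) s := by
    ext c
    constructor
    · rintro ⟨g, hg, hgr⟩
      have hdvd : orderOf g ∣ r := orderOf_dvd_of_pow_eq_one hgr
      rcases (Nat.dvd_prime hr).mp hdvd with h1 | h1
      · left
        rw [orderOf_eq_one_iff] at h1
        rw [← hg, h1]
      · right
        exact ⟨g, hg, h1⟩
    · rintro (h | ⟨g, hg, hgr⟩)
      · exact ⟨1, h.symm, one_pow r⟩
      · exact ⟨g, hg, by rw [← hgr]; exact pow_orderOf_eq_one g⟩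
  have hcount : Nat.card ↥s' = Nat.card ↥s + 1 := by
    rw [Nat.card_coe_set_eq, Nat.card_coe_set_eq, hins,
      Set.ncard_insert_of_notMem hone (Set.toFinite s)]
  show Nat.card ↥s + 1 = _
  rw [← hcount]
  -- the bijection
  let rep : ↥s' → ↥(Matrix.symplecticGroup (Fin m) F) := fun c => Classical.choose c.2
  have hrep : ∀ c : ↥s', ConjClasses.mk (rep c) = c.1 ∧ (rep c) ^ r = 1 :=
    fun c => Classical.choose_spec c.2
  have hordcop : ∀ g : ↥(Matrix.symplecticGroup (Fin m) F), g ^ r = 1 → (orderOf g).Coprime p :=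
    fun g hg => Nat.Coprime.coprime_dvd_left (orderOf_dvd_of_pow_eq_one hg) hcop
  have hdvd : ∀ g : ↥(Matrix.symplecticGroup (Fin m) F), g ^ r = 1 →
      (g : Matrix (Fin m ⊕ Fin m) (Fin m ⊕ Fin m) F).charpoly ∣ (X ^ r - 1) ^ (m + m) := by
    intro g hg
    have h1 : (g : Matrix (Fin m ⊕ Fin m) (Fin m ⊕ Fin m) F) ^ r = 1 := by
      have := congrArg Subtype.val hg
      simpa using this
    have := charpoly_dvd_of_pow_eq_one (g : Matrix (Fin m ⊕ Fin m) (Fin m ⊕ Fin m) F) r h1
    rwa [hcard2] at this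
  let Ψ : ↥s' → {f : F[X] // f.Monic ∧ f.natDegree = m + m ∧
      (∀ k, k ≤ m + m → f.coeff (m + m - k) = f.coeff k) ∧ f ∣ (X ^ r - 1) ^ (m + m)} :=
    fun c => ⟨(rep c : Matrix (Fin m ⊕ Fin m) (Fin m ⊕ Fin m) F).charpoly,
      Matrix.charpoly_monic _, sp_natDegree m _, charpoly_symm (rep c), hdvd _ (hrep c).2⟩
  have hΨinj : Function.Injective Ψ := by
    intro c c' h
    have hcp : (rep c : Matrix (Fin m ⊕ Fin m) (Fin m ⊕ Fin m) F).charpoly
        = (rep c' : Matrix (Fin m ⊕ Fin m) (Fin m ⊕ Fin m) F).charpoly := congrArg Subtype.val h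
    have h2 := Cfsg.Agent.S2389.result p m (rep c) (rep c') (hordcop _ (hrep c).2)
      (hordcop _ (hrep c').2) hcp
    apply Subtype.ext
    rw [← (hrep c).1, ← (hrep c').1, ConjClasses.mk_eq_mk_iff_isConj]
    exact h2
  have hΨsurj : Function.Surjective Ψ := by
    rintro ⟨f, hfm, hfd, hfs, hfdvd⟩
    obtain ⟨g, hgcop, hgf⟩ := exists_sp_charpoly_eq p m f hfm hfd hfs
    have hNF : ((orderOf g : ℕ) : F) ≠ 0 := by
      rw [Ne, CharP.cast_eq_zero_iff F p]
      intro hd
      have := Nat.Coprime.eq_one_of_dvd hgcop.symm hd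
      exact hp.one_lt.ne' this
    have hgN : (g : Matrix (Fin m ⊕ Fin m) (Fin m ⊕ Fin m) F) ^ orderOf g = 1 := by
      have h := congrArg Subtype.val (pow_orderOf_eq_one g)
      rw [SubmonoidClass.coe_pow] at h
      exact h
    have hgr : (g : Matrix (Fin m ⊕ Fin m) (Fin m ⊕ Fin m) F) ^ r = 1 :=
      pow_eq_one_of_charpoly_dvd _ (orderOf g) r (m + m) hgN hNF (by rw [hgf]; exact hfdvd)
    have hgr' : g ^ r = 1 := by
      apply Subtype.ext
      simpa using hgr
    let c : ↥s' := ⟨ConjClasses.mk g, g, rfl, hgr'⟩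
    refine ⟨c, ?_⟩
    apply Subtype.ext
    show (rep c : Matrix (Fin m ⊕ Fin m) (Fin m ⊕ Fin m) F).charpoly = f
    have hconj : IsConj (rep c) g := by
      rw [← ConjClasses.mk_eq_mk_iff_isConj]
      exact (hrep c).1
    rw [charpoly_eq_of_isConj_sp _ _ hconj, hgf]
  exact Nat.card_congr (Equiv.ofBijective Ψ ⟨hΨinj, hΨsurj⟩)

end Sp

end Cfsg.Agent.helper7.S2645x
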