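import Mathlib
import Cfsg.Agent.Lib_helper6_S2645b

set_option autoImplicit false
open Polynomial

/-! Piece Bu of the S2671 swarm (hedge). -/

namespace Cfsg.Agent.helper7.S2671x

open Cfsg.Agent.helper6.S2645x

theorem reverse_map_of_injective {R S : Type*} [Semiring R] [Semiring S] (f : R →+* S)
    (hf : Function.Injective f) (p : R[X]) : (p.map f).reverse = p.reverse.map f := by
  ext n
  rw [coeff_reverse, natDegree_map_eq_of_injective hf, coeff_map, coeff_map, coeff_reverse]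

/-- semilinear Frobenius evaluation -/
theorem aeval_pow_map {K L : Type*} [Field K] [Field L] [Algebra K L] (p n : ℕ) [Fact p.Prime]
    [CharP L p] (σ : K →+* K) (hσ : ∀ a, σ a = a ^ (p ^ n)) (h : K[X]) (x : L) :
    aeval (x ^ (p ^ n)) (h.map σ) = (aeval x h) ^ (p ^ n) := by
  haveI : ExpChar L p := ExpChar.prime Fact.out
  have hcomp : (iterateFrobenius L p n).comp (algebraMap K L) = (algebraMap K L).comp σ := by
    ext a
    simp only [RingHom.comp_apply, iterateFrobenius_def, hσ, map_pow]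
  have h1 : (aeval x h) ^ (p ^ n) = iterateFrobenius L p n (eval₂ (algebraMap K L) x h) := by
    rw [iterateFrobenius_def, aeval_def]
  rw [h1, hom_eval₂, hcomp, aeval_def, eval₂_map, iterateFrobenius_def]


theorem eq_of_common_root {K L : Type*} [Field K] [Field L] [Algebra K L] (f g : K[X])
    (hf : f.Monic) (hfi : Irreducible f) (hg : g.Monic) (hgi : Irreducible g) (y : L)
    (h1 : aeval y f = 0) (h2 : aeval y g = 0) : f = g := by
  rw [minpoly.eq_of_irreducible_of_monic hfi h1 hf, minpoly.eq_of_irreducible_of_monic hgi h2 hg]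

/-- arithmetic in `ZMod r`, first direction -/
theorem zmod_exists (r : ℕ) [Fact r.Prime] (a : ZMod r) (h : orderOf a % 4 = 2) :
    ∃ k : ℕ, (a ^ 2) ^ k = -a := by
  obtain ⟨t, ht⟩ : ∃ t, orderOf a = 4 * t + 2 := ⟨orderOf a / 4, by omega⟩
  have hsq : a ^ (2 * t + 1) * a ^ (2 * t + 1) = 1 := by
    rw [← pow_add, show 2 * t + 1 + (2 * t + 1) = 4 * t + 2 by ring, ← ht, pow_orderOf_eq_one]
  have hne1 : a ^ (2 * t + 1) ≠ 1 :=
    pow_ne_one_of_lt_orderOf (by omega) (by omega)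
  have hm1 : a ^ (2 * t + 1) = -1 := (mul_self_eq_one_iff.1 hsq).resolve_left hne1
  refine ⟨t + 1, ?_⟩
  rw [← pow_mul, show 2 * (t + 1) = (2 * t + 1) + 1 by ring, pow_succ, hm1]
  ring

/-- arithmetic in `ZMod r`, second direction -/
theorem zmod_mod4 (r : ℕ) [Fact r.Prime] (hr2 : r ≠ 2) (a : ZMod r) (ha : a ≠ 0) (k : ℕ)
    (h : (a ^ 2) ^ k = -a) : orderOf a % 4 = 2 := by
  have hr : r.Prime := Fact.out
  have h11 : (-1 : ZMod r) ≠ 1 := by
    haveI : Fact (2 < r) := ⟨lt_of_le_of_ne hr.two_le (Ne.symm hr2)⟩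
    exact ZMod.neg_one_ne_one
  -- an odd exponent `e` with `a ^ e = -1`
  obtain ⟨e, heodd, he⟩ : ∃ e : ℕ, Odd e ∧ a ^ e = -1 := by
    rcases Nat.eq_zero_or_pos k with hk | hk
    · subst hk
      rw [pow_zero] at h
      refine ⟨1, odd_one, ?_⟩
      rw [pow_one]
      have : a = -1 := by rw [h]; ring
      exact this
    · refine ⟨2 * k - 1, ⟨k - 1, by omega⟩, ?_⟩
      have h2 : a ^ (2 * k - 1) * a = -1 * a := by
        rw [← pow_succ, show 2 * k - 1 + 1 = 2 * k by omega, pow_mul, h]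
        ring
      exact mul_right_cancel₀ ha h2
  have h2e : a ^ (2 * e) = 1 := by
    rw [mul_comm, pow_mul, he]
    ring
  have hdvd : orderOf a ∣ 2 * e := orderOf_dvd_of_pow_eq_one h2e
  have hndvd : ¬ orderOf a ∣ e := by
    intro hd
    have := orderOf_dvd_iff_pow_eq_one.mp hd
    rw [he] at this
    exact h11 this
  obtain ⟨s, hs⟩ := heodd
  rcases Nat.even_or_odd (orderOf a) with hev | hod
  · obtain ⟨i', hi'⟩ := hev
    have h1 : i' ∣ e := by
      have : 2 * i' ∣ 2 * e := by rw [← two_mul] at hi'; rw [← hi']; exact hdvd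
      exact (Nat.mul_dvd_mul_iff_left (by norm_num)).mp this
    have hi'odd : Odd i' := by
      rcases Nat.even_or_odd i' with hev' | hod'
      · exfalso
        obtain ⟨u, hu⟩ := hev'
        obtain ⟨w, hw⟩ := h1
        have h3 : e = 2 * (u * w) := by rw [hw, hu]; ring
        omega
      · exact hod'
    obtain ⟨v, hv⟩ := hi'odd
    omega
  · exfalso
    apply hndvd
    have hcop : Nat.Coprime (orderOf a) 2 := by
      rw [Nat.coprime_two_right]
      exact hod
    exact hcop.dvd_of_dvd_mul_left hdvd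


/-- PIECE Bu, with the reciprocal polynomial as a variable. -/
theorem pieceBu_aux {K : Type*} [Field K] [Fintype K] {q : ℕ} (hK : Fintype.card K = q ^ 2)
    (σ : K ≃+* K) (hσq : ∀ a, σ a = a ^ q) (r : ℕ) (hr : r.Prime) (hr2 : r ≠ 2)
    (hrK : (r : K) ≠ 0) (g : K[X]) (hg : g.Monic) (hirr : Irreducible g)
    (hdvd : g ∣ X ^ r - 1) (hne : g ≠ X - 1)
    (g' : K[X]) (hg' : g' = C (g.coeff 0)⁻¹ * g.reverse) :
    g.coeff 0 ≠ 0 ∧ (g'.map (σ : K →+* K)).Monic ∧
    Irreducible (g'.map (σ : K →+* K)) ∧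
    (g'.map (σ : K →+* K)) ∣ X ^ r - 1 ∧
    (g'.map (σ : K →+* K)) ≠ X - 1 ∧
    ((C ((g'.map (σ : K →+* K)).coeff 0)⁻¹ *
      (g'.map (σ : K →+* K)).reverse).map (σ : K →+* K) = g) ∧
    (orderOf (q : ZMod r) % 4 = 2 → g'.map (σ : K →+* K) = g) ∧
    (orderOf (q : ZMod r) % 4 ≠ 2 → g'.map (σ : K →+* K) ≠ g) := by
  classical
  haveI : Fact r.Prime := ⟨hr⟩
  obtain ⟨h0, hmon', hirr', hdvd', hne', hinv'⟩ := first6 r hr.pos g hg hirr hdvd hne
  rw [← hg'] at hmon' hirr' hdvd' hne' hinv'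
  have hσinj : Function.Injective (σ : K →+* K) := σ.injective
  have hσσ : ∀ a, σ (σ a) = a := by
    intro a
    rw [hσq, hσq, ← pow_mul, ← sq, ← hK, FiniteField.pow_card]
  have hmapX : (X ^ r - 1 : K[X]).map (σ : K →+* K) = X ^ r - 1 := by simp
  have hmapX1 : (X - 1 : K[X]).map (σ : K →+* K) = X - 1 := by simp
  have hmonρ : (g'.map (σ : K →+* K)).Monic := hmon'.map _
  have hirrρ : Irreducible (g'.map (σ : K →+* K)) := by
    have := (MulEquiv.irreducible_iff (Polynomial.mapEquiv σ)).mpr hirr'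
    simpa using this
  have hdvdρ : g'.map (σ : K →+* K) ∣ X ^ r - 1 := by
    have := Polynomial.map_dvd (σ : K →+* K) hdvd'
    rwa [hmapX] at this
  have hneρ : g'.map (σ : K →+* K) ≠ X - 1 := by
    intro h
    rw [← hmapX1] at h
    exact hne' (Polynomial.map_injective _ hσinj h)
  have hinvρ : (C ((g'.map (σ : K →+* K)).coeff 0)⁻¹ *
      (g'.map (σ : K →+* K)).reverse).map (σ : K →+* K) = g := by
    rw [coeff_map, reverse_map_of_injective _ hσinj]
    have h1 : C (((σ : K →+* K) (g'.coeff 0))⁻¹) * g'.reverse.map (σ : K →+* K)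
        = (C ((g'.coeff 0)⁻¹) * g'.reverse).map (σ : K →+* K) := by
      rw [Polynomial.map_mul, map_C, map_inv₀ (σ : K →+* K)]
    rw [h1, hinv', map_map]
    have h2 : (σ : K →+* K).comp (σ : K →+* K) = RingHom.id K := by
      ext a
      simp [hσσ]
    rw [h2, map_id]
  refine ⟨h0, hmonρ, hirrρ, hdvdρ, hneρ, hinvρ, ?_, ?_⟩
  all_goals
    obtain ⟨p, hp⟩ := CharP.exists K
    obtain ⟨n, hpp, hcard⟩ := FiniteField.card K p
    haveI : Fact p.Prime := ⟨hpp⟩
    have hqdvd : q ∣ p ^ (n : ℕ) := by rw [← hcard, hK]; exact dvd_pow_self q two_ne_zero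
    obtain ⟨k, -, hqk⟩ := (Nat.dvd_prime_pow hpp).mp hqdvd
    haveI : CharP g.SplittingField p :=
      charP_of_injective_algebraMap (algebraMap K g.SplittingField).injective p
    have hsep : g.Separable := by
      have h1 : (X ^ r - C (1 : K)).Separable := separable_X_pow_sub_C (1 : K) hrK one_ne_zero
      rw [map_one] at h1
      exact h1.of_dvd hdvd
    have hcardR : Fintype.card (g.rootSet g.SplittingField) = g.natDegree :=
      card_rootSet_eq_natDegree hsep (SplittingField.splits g)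
    have hdeg := natDegree_eq_orderOf r hr hrK g hg hirr hdvd hne
    have hpos : 0 < Fintype.card (g.rootSet g.SplittingField) := by
      rw [hcardR]; exact hirr.natDegree_pos
    obtain ⟨⟨ζ, hζR⟩⟩ := Fintype.card_pos_iff.mp hpos
    have hζg : aeval ζ g = 0 := (mem_rootSet.mp hζR).2
    have hζr : ζ ^ r = 1 := by
      obtain ⟨w, hw⟩ := hdvd
      have : aeval ζ (X ^ r - 1 : K[X]) = 0 := by rw [hw, map_mul, hζg, zero_mul]
      simpa [sub_eq_zero] using this
    have hζ0 : ζ ≠ 0 := by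
      intro h
      rw [h, zero_pow hr.pos.ne'] at hζr
      exact zero_ne_one hζr
    have hζ1 : ζ ≠ 1 := by
      intro hx1
      have hev : g.eval 1 = 0 := by
        have h3 := hζg
        rw [hx1, ← map_one (algebraMap K g.SplittingField), aeval_algebraMap_apply] at h3
        have := (algebraMap K g.SplittingField).injective
        apply this
        rw [map_zero]
        simpa using h3
      have hdv : (X - C (1 : K)) ∣ g := dvd_iff_isRoot.2 hev
      have hass : Associated (X - C (1 : K)) g :=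
        (irreducible_X_sub_C (1 : K)).associated_of_dvd hirr hdv
      have := eq_of_monic_of_associated (monic_X_sub_C (1 : K)) hg hass
      rw [map_one] at this
      exact hne this.symm
    have hord : orderOf ζ = r := orderOf_eq_prime hζr hζ1
    have hfin : IsOfFinOrder ζ := isOfFinOrder_iff_pow_eq_one.mpr ⟨r, hr.pos, hζr⟩
    have hrcp : aeval ζ⁻¹ g' = 0 := by rw [hg']; exact rcp_root g ζ hζ0 hζg
    have hyρ : aeval ((ζ⁻¹) ^ q) (g'.map (σ : K →+* K)) = 0 := by
      have h1 := aeval_pow_map (L := g.SplittingField) p k (σ : K →+* K)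
        (fun a => by rw [RingEquiv.coe_toRingHom, hσq, hqk]) g' ζ⁻¹
      rw [hrcp, zero_pow (pow_ne_zero _ hpp.ne_zero), ← hqk] at h1
      exact h1
    have hyz : (ζ⁻¹) ^ q * ζ ^ q = 1 := by
      rw [← mul_pow, inv_mul_cancel₀ hζ0, one_pow]
    have hq0 : ((q : ℕ) : ZMod r) ≠ 0 := by
      have h1 := card_cast_ne_zero r hr hrK
      rw [hK] at h1
      intro h
      apply h1
      push_cast
      rw [h]
      ring
  · -- part 7
    intro h4
    obtain ⟨k', hk'⟩ := zmod_exists r ((q : ℕ) : ZMod r) h4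
    have hz : (((Fintype.card K) ^ k' + q : ℕ) : ZMod r) = 0 := by
      rw [hK]
      push_cast
      rw [hk']
      ring
    have hrd : r ∣ (Fintype.card K) ^ k' + q := (ZMod.natCast_eq_zero_iff _ _).mp hz
    have h1 : ζ ^ ((Fintype.card K) ^ k' + q) = 1 := by
      rw [← hord] at hrd
      exact orderOf_dvd_iff_pow_eq_one.mp hrd
    rw [pow_add] at h1
    have h2 : (ζ⁻¹) ^ q = ζ ^ (Fintype.card K) ^ k' := by
      have : (ζ ^ q)⁻¹ = ζ ^ (Fintype.card K) ^ k' := inv_eq_of_mul_eq_one_left h1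
      rw [inv_pow]; exact this
    have hyg : aeval ((ζ⁻¹) ^ q) g = 0 := by
      rw [h2]; exact aeval_pow_card g ζ hζg k'
    exact eq_of_common_root _ _ hmonρ hirrρ hg hirr _ hyρ hyg
  · -- part 8
    intro h4 heq
    apply h4
    have hyg : aeval ((ζ⁻¹) ^ q) g = 0 := by
      have h5 := hyρ
      rw [heq] at h5
      exact h5
    have hyR : (ζ⁻¹) ^ q ∈ g.rootSet g.SplittingField := mem_rootSet.mpr ⟨hg.ne_zero, hyg⟩
    let Φ : Fin g.natDegree → g.rootSet g.SplittingField := fun j =>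
      ⟨ζ ^ (Fintype.card K) ^ (j : ℕ), mem_rootSet.mpr ⟨hg.ne_zero, aeval_pow_card g ζ hζg j⟩⟩
    have hΦinj : Function.Injective Φ := by
      intro j l hjl
      have h1 : ζ ^ (Fintype.card K) ^ (j : ℕ) = ζ ^ (Fintype.card K) ^ (l : ℕ) :=
        congrArg Subtype.val hjl
      rw [hfin.pow_eq_pow_iff_modEq, hord] at h1
      have h2 : (((Fintype.card K) ^ (j : ℕ) : ℕ) : ZMod r)
          = (((Fintype.card K) ^ (l : ℕ) : ℕ) : ZMod r) :=
        (ZMod.natCast_eq_natCast_iff _ _ _).mpr h1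
      push_cast at h2
      have hj : (j : ℕ) ∈ Set.Iio (orderOf ((Fintype.card K : ℕ) : ZMod r)) := by
        rw [Set.mem_Iio, ← hdeg]; exact j.2
      have hl : (l : ℕ) ∈ Set.Iio (orderOf ((Fintype.card K : ℕ) : ZMod r)) := by
        rw [Set.mem_Iio, ← hdeg]; exact l.2
      exact Fin.ext (pow_injOn_Iio_orderOf hj hl h2)
    have hΦbij : Function.Bijective Φ :=
      (Fintype.bijective_iff_injective_and_card Φ).mpr ⟨hΦinj, by rw [Fintype.card_fin, hcardR]⟩
    obtain ⟨j, hj⟩ := hΦbij.2 ⟨_, hyR⟩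
    have h2 : ζ ^ (Fintype.card K) ^ (j : ℕ) = (ζ⁻¹) ^ q := congrArg Subtype.val hj
    have h1 : ζ ^ ((Fintype.card K) ^ (j : ℕ) + q) = 1 := by
      rw [pow_add, h2, hyz]
    have hrd : r ∣ (Fintype.card K) ^ (j : ℕ) + q := by
      rw [← hord]; exact orderOf_dvd_of_pow_eq_one h1
    have hz : (((Fintype.card K) ^ (j : ℕ) + q : ℕ) : ZMod r) = 0 :=
      (ZMod.natCast_eq_zero_iff _ _).mpr hrd
    rw [hK] at hz
    push_cast at hz
    have hk' : (((q : ℕ) : ZMod r) ^ 2) ^ (j : ℕ) = -((q : ℕ) : ZMod r) := by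
      rw [eq_neg_iff_add_eq_zero]; exact hz
    exact zmod_mod4 r hr2 _ hq0 _ hk'

/-- PIECE Bu -/
theorem pieceBu {K : Type*} [Field K] [Fintype K] {q : ℕ} (hK : Fintype.card K = q ^ 2)
    (σ : K ≃+* K) (hσq : ∀ a, σ a = a ^ q) (r : ℕ) (hr : r.Prime) (hr2 : r ≠ 2)
    (hrK : (r : K) ≠ 0) (g : K[X]) (hg : g.Monic) (hirr : Irreducible g)
    (hdvd : g ∣ X ^ r - 1) (hne : g ≠ X - 1) :
    g.coeff 0 ≠ 0 ∧ ((C (g.coeff 0)⁻¹ * g.reverse).map (σ : K →+* K)).Monic ∧
    Irreducible ((C (g.coeff 0)⁻¹ * g.reverse).map (σ : K →+* K)) ∧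
    ((C (g.coeff 0)⁻¹ * g.reverse).map (σ : K →+* K)) ∣ X ^ r - 1 ∧
    ((C (g.coeff 0)⁻¹ * g.reverse).map (σ : K →+* K)) ≠ X - 1 ∧
    ((C (((C (g.coeff 0)⁻¹ * g.reverse).map (σ : K →+* K)).coeff 0)⁻¹ *
      ((C (g.coeff 0)⁻¹ * g.reverse).map (σ : K →+* K)).reverse).map (σ : K →+* K) = g) ∧
    (orderOf (q : ZMod r) % 4 = 2 → (C (g.coeff 0)⁻¹ * g.reverse).map (σ : K →+* K) = g) ∧
    (orderOf (q : ZMod r) % 4 ≠ 2 → (C (g.coeff 0)⁻¹ * g.reverse).map (σ : K →+* K) ≠ g) :=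
  pieceBu_aux hK σ hσq r hr hr2 hrK g hg hirr hdvd hne _ rfl

end Cfsg.Agent.helper7.S2671x
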