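import Mathlib

set_option autoImplicit false

namespace Cfsg.Agent.helper7.S2672p

theorem pieceP7 (n r : ℕ) (hn : 2 ≤ n) (hr : 2 ≤ r) : r + 1 ≤ Nat.choose (n + r - 1) (r - 1) := by
  have h1 : Nat.choose (r + 1) (r - 1) ≤ Nat.choose (n + r - 1) (r - 1) :=
    Nat.choose_le_choose (r - 1) (by omega)
  have h2 : Nat.choose (r + 1) (r - 1) = Nat.choose (r + 1) 2 := by
    rw [← Nat.choose_symm (by omega : r - 1 ≤ r + 1)]
    congr 1
    omega
  have h3 : r + 1 ≤ Nat.choose (r + 1) 2 := by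
    rw [Nat.choose_two_right]
    have h4 : (r + 1) * (r + 1 - 1) = (r + 1) * r := by
      congr 1
    rw [h4]
    have h5 : 2 * (r + 1) ≤ (r + 1) * r := by nlinarith
    exact (Nat.le_div_iff_mul_le (by norm_num)).mpr (by omega)
  omega

end Cfsg.Agent.helper7.S2672p
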