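import Mathlib

set_option autoImplicit false

namespace Cfsg.Agent.helper7.S2672x

variable {G : Type*} [Group G]

local notation "ZG" => Subgroup.center G

/-- PIECE L1 (pure group theory + Burnside, Mathlib only). -/
theorem pieceL1 [Finite G] {X : Type*} (r : ℕ) (hr : r.Prime)
    (act : ↥(Subgroup.center G) → X → X)
    (hact1 : ∀ x, act 1 x = x) (hactmul : ∀ z w x, act (z * w) x = act z (act w x))
    (χ : G → X)
    (hχ : ∀ (z : ↥(Subgroup.center G)) (g : G), χ ((z : G) * g) = act z (χ g))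
    (hconj : ∀ g h : G, g ^ r ∈ Subgroup.center G → h ^ r ∈ Subgroup.center G →
      (χ g = χ h ↔ IsConj g h)) :
    Nat.card {C : ConjClasses (G ⧸ Subgroup.center G) //
        ∃ g : G ⧸ Subgroup.center G, ConjClasses.mk g = C ∧ orderOf g = r} *
      Nat.card ↥(Subgroup.center G) =
    ∑ᶠ z : ↥(Subgroup.center G), Nat.card {x : X //
      (∃ g : G, g ^ r ∈ Subgroup.center G ∧ g ∉ Subgroup.center G ∧ χ g = x) ∧ act z x = x} := by
  classical
  haveI : Fact r.Prime := ⟨hr⟩
  have hcomm : ∀ (z : ZG) (g : G), (z : G) * g = g * (z : G) := fun z g =>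
    ((Subgroup.mem_center_iff.mp z.2) g).symm
  have hpowmem : ∀ (z : ZG) (g : G), g ^ r ∈ ZG → ((z : G) * g) ^ r ∈ ZG := by
    intro z g hg
    have hc : Commute (z : G) g := hcomm z g
    rw [hc.mul_pow]
    exact Subgroup.mul_mem _ (Subgroup.pow_mem _ z.2 r) hg
  have hnotmem : ∀ (z : ZG) (g : G), g ∉ ZG → (z : G) * g ∉ ZG := by
    intro z g hg hmem
    apply hg
    have := Subgroup.mul_mem _ (Subgroup.inv_mem _ z.2) hmem
    simpa using this
  have hstab : ∀ (z : ZG) (x : X), (∃ g : G, g ^ r ∈ ZG ∧ g ∉ ZG ∧ χ g = x) →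
      ∃ g : G, g ^ r ∈ ZG ∧ g ∉ ZG ∧ χ g = act z x := by
    rintro z x ⟨g, hg1, hg2, rfl⟩
    exact ⟨(z : G) * g, hpowmem z g hg1, hnotmem z g hg2, hχ z g⟩
  let P := {x : X // ∃ g : G, g ^ r ∈ ZG ∧ g ∉ ZG ∧ χ g = x}
  let _ : MulAction ZG P :=
    { smul := fun z p => ⟨act z p.1, hstab z p.1 p.2⟩
      one_smul := fun p => Subtype.ext (hact1 p.1)
      mul_smul := fun z w p => Subtype.ext (hactmul z w p.1) }
  have hsmul : ∀ (z : ZG) (p : P), ((z • p : P) : X) = act z p.1 := fun _ _ => rfl
  have : Finite P := by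
    have hsurj : Function.Surjective
        (fun g : {g : G // g ^ r ∈ ZG ∧ g ∉ ZG} => (⟨χ g.1, g.1, g.2.1, g.2.2, rfl⟩ : P)) := by
      rintro ⟨x, g, hg1, hg2, rfl⟩
      exact ⟨⟨g, hg1, hg2⟩, rfl⟩
    exact Finite.of_surjective _ hsurj
  -- orders in the quotient
  have hord : ∀ g : G, g ^ r ∈ ZG → g ∉ ZG → orderOf (QuotientGroup.mk g : G ⧸ ZG) = r := by
    intro g hg1 hg2
    apply orderOf_eq_prime
    · rw [← QuotientGroup.mk_pow]
      exact (QuotientGroup.eq_one_iff _).mpr hg1
    · intro h1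
      exact hg2 ((QuotientGroup.eq_one_iff g).mp h1)
  -- classes versus orbits
  have hclass : ∀ g h : G, g ^ r ∈ ZG → h ^ r ∈ ZG →
      ((ConjClasses.mk (QuotientGroup.mk g : G ⧸ ZG) = ConjClasses.mk (QuotientGroup.mk h : G ⧸ ZG)) ↔
        ∃ z : ZG, χ g = act z (χ h)) := by
    intro g h hg hh
    rw [ConjClasses.mk_eq_mk_iff_isConj, isConj_iff]
    constructor
    · rintro ⟨c, hc⟩
      obtain ⟨k, rfl⟩ := QuotientGroup.mk_surjective c
      have h1 : (QuotientGroup.mk (k * g * k⁻¹) : G ⧸ ZG) = QuotientGroup.mk h := by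
        rw [← hc]; simp
      have h2 : (k * g * k⁻¹)⁻¹ * h ∈ ZG := QuotientGroup.eq.mp h1
      let z : ZG := ⟨(k * g * k⁻¹)⁻¹ * h, h2⟩
      refine ⟨z⁻¹, ?_⟩
      rw [← hχ]
      have h3 : ((z⁻¹ : ZG) : G) * h = k * g * k⁻¹ := by
        have h4 : (z : G) * (k * g * k⁻¹) = h := by
          rw [hcomm z]
          show (k * g * k⁻¹) * ((k * g * k⁻¹)⁻¹ * h) = h
          rw [mul_inv_cancel_left]
        rw [← h4]
        simp
      rw [h3]
      apply (hconj g (k * g * k⁻¹) hg ?_).mpr
      · exact isConj_iff.mpr ⟨k, rfl⟩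
      · rw [← h3]
        exact hpowmem _ h hh
    · rintro ⟨z, hz⟩
      rw [← hχ] at hz
      have h1 : IsConj g ((z : G) * h) := (hconj g _ hg (hpowmem z h hh)).mp hz
      obtain ⟨k, hk⟩ := isConj_iff.mp h1
      refine ⟨QuotientGroup.mk k, ?_⟩
      rw [← QuotientGroup.mk_inv, ← QuotientGroup.mk_mul, ← QuotientGroup.mk_mul, hk,
        QuotientGroup.mk_mul, (QuotientGroup.eq_one_iff (z : G)).mpr z.2, one_mul]
  -- the map from orbits to classes
  let ψ0 : P → {C : ConjClasses (G ⧸ ZG) // ∃ g : G ⧸ ZG, ConjClasses.mk g = C ∧ orderOf g = r} :=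
    fun p => ⟨ConjClasses.mk (QuotientGroup.mk (Classical.choose p.2)),
      QuotientGroup.mk (Classical.choose p.2), rfl,
      hord _ (Classical.choose_spec p.2).1 (Classical.choose_spec p.2).2.1⟩
  have hψ0 : ∀ p p' : P, (MulAction.orbitRel ZG P) p p' → ψ0 p = ψ0 p' := by
    intro p p' hpp
    rw [MulAction.orbitRel_apply, MulAction.mem_orbit_iff] at hpp
    obtain ⟨z, hz⟩ := hpp
    apply Subtype.ext
    show ConjClasses.mk (QuotientGroup.mk (Classical.choose p.2)) =
      ConjClasses.mk (QuotientGroup.mk (Classical.choose p'.2))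
    rw [hclass _ _ (Classical.choose_spec p.2).1 (Classical.choose_spec p'.2).1]
    refine ⟨z, ?_⟩
    rw [(Classical.choose_spec p.2).2.2, (Classical.choose_spec p'.2).2.2, ← hsmul, hz]
  let Ψ : Quotient (MulAction.orbitRel ZG P) →
      {C : ConjClasses (G ⧸ ZG) // ∃ g : G ⧸ ZG, ConjClasses.mk g = C ∧ orderOf g = r} :=
    Quotient.lift ψ0 hψ0
  have hΨbij : Function.Bijective Ψ := by
    constructor
    · intro a b
      induction a using Quotient.inductionOn with
      | h p =>
        induction b using Quotient.inductionOn with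
        | h p' =>
          intro hab
          have h1 : ConjClasses.mk (QuotientGroup.mk (Classical.choose p.2) : G ⧸ ZG) =
              ConjClasses.mk (QuotientGroup.mk (Classical.choose p'.2)) :=
            congrArg Subtype.val hab
          rw [hclass _ _ (Classical.choose_spec p.2).1 (Classical.choose_spec p'.2).1] at h1
          obtain ⟨z, hz⟩ := h1
          apply Quotient.sound
          show (MulAction.orbitRel ZG P) p p'
          rw [MulAction.orbitRel_apply, MulAction.mem_orbit_iff]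
          refine ⟨z, Subtype.ext ?_⟩
          rw [hsmul, ← (Classical.choose_spec p.2).2.2, ← (Classical.choose_spec p'.2).2.2, hz]
    · rintro ⟨C, gb, rfl, hgb⟩
      obtain ⟨g, rfl⟩ := QuotientGroup.mk_surjective gb
      have hg1 : g ^ r ∈ ZG := by
        rw [← QuotientGroup.eq_one_iff, QuotientGroup.mk_pow, ← hgb]
        exact pow_orderOf_eq_one _
      have hg2 : g ∉ ZG := by
        intro hmem
        rw [(QuotientGroup.eq_one_iff g).mpr hmem, orderOf_one] at hgb
        exact hr.one_lt.ne hgb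
      let p : P := ⟨χ g, g, hg1, hg2, rfl⟩
      refine ⟨Quotient.mk _ p, ?_⟩
      apply Subtype.ext
      show ConjClasses.mk (QuotientGroup.mk (Classical.choose p.2)) =
        ConjClasses.mk (QuotientGroup.mk g)
      rw [hclass _ _ (Classical.choose_spec p.2).1 hg1]
      exact ⟨1, by rw [hact1]; exact (Classical.choose_spec p.2).2.2⟩
  have : Fintype ZG := Fintype.ofFinite _
  have : Fintype P := Fintype.ofFinite _
  have : Fintype (Quotient (MulAction.orbitRel ZG P)) := Fintype.ofFinite _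
  have : ∀ z : ZG, Fintype (MulAction.fixedBy P z) := fun z => Fintype.ofFinite _
  have hB := MulAction.sum_card_fixedBy_eq_card_orbits_mul_card_group ZG P
  rw [← Nat.card_congr (Equiv.ofBijective Ψ hΨbij), finsum_eq_sum_of_fintype,
    Nat.card_eq_fintype_card, Nat.card_eq_fintype_card, ← hB]
  apply Finset.sum_congr rfl
  intro z _
  rw [← Nat.card_eq_fintype_card]
  apply Nat.card_congr
  exact
    { toFun := fun p => ⟨p.1.1, p.1.2, by
        have := p.2
        rw [MulAction.mem_fixedBy] at this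
        exact congrArg Subtype.val this⟩
      invFun := fun x => ⟨⟨x.1, x.2.1⟩, by
        rw [MulAction.mem_fixedBy]
        exact Subtype.ext x.2.2⟩
      left_inv := fun p => rfl
      right_inv := fun x => rfl }

end Cfsg.Agent.helper7.S2672x
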