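import Mathlib
import Cfsg.Agent.Lib_helper7_Gen4

set_option autoImplicit false

/-! Minimal invariant 2-subgroup on which an element `x` of order 3 acts nontrivially
(towards S3739): basic structure, elementwise. -/

namespace Cfsg.Agent.helper7.S3739m

variable {G : Type*} [Group G]

theorem inv_conj_mem [Finite G] {U : Subgroup G} {a : G} (h : ∀ u ∈ U, a * u * a⁻¹ ∈ U) :
    ∀ u ∈ U, a⁻¹ * u * a ∈ U := by
  have ha : a ∈ Subgroup.normalizer (U : Set G) := Subgroup.mem_normalizer_fintype h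
  intro u hu
  exact (Subgroup.mem_normalizer_iff''.mp ha u).mp hu

theorem conj_closure_mem {S : Set G} {a : G}
    (hS : ∀ s ∈ S, a * s * a⁻¹ ∈ Subgroup.closure S) :
    ∀ m ∈ Subgroup.closure S, a * m * a⁻¹ ∈ Subgroup.closure S := by
  intro m hm
  induction hm using Subgroup.closure_induction with
  | mem s hs => exact hS s hs
  | one => simp
  | mul y z _ _ hy hz =>
    have : a * (y * z) * a⁻¹ = (a * y * a⁻¹) * (a * z * a⁻¹) := by group
    rw [this]; exact mul_mem hy hz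
  | inv y _ hy =>
    have : a * y⁻¹ * a⁻¹ = (a * y * a⁻¹)⁻¹ := by group
    rw [this]; exact inv_mem hy

theorem cube_aux {x u n : G} (h1 : x * u = n * u * x) (hc : x * n = n * x) (hx3 : x ^ 3 = 1) :
    n ^ 3 = 1 := by
  have e1 : MulAut.conj x u = n * u := by rw [MulAut.conj_apply, h1]; group
  have e2 : MulAut.conj x n = n := by rw [MulAut.conj_apply, hc]; group
  have e3 : MulAut.conj x (MulAut.conj x (MulAut.conj x u)) = u := by
    simp only [MulAut.conj_apply]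
    have hx3' : x * x * x = 1 := by simpa [pow_succ] using hx3
    have : x * (x * (x * u * x⁻¹) * x⁻¹) * x⁻¹ = (x * x * x) * u * (x * x * x)⁻¹ := by group
    rw [this, hx3']; simp
  simp only [e1, e2, map_mul] at e3
  calc n ^ 3 = n * n * n := by simp [pow_succ]
    _ = n * (n * (n * u)) * u⁻¹ := by group
    _ = u * u⁻¹ := by rw [e3]
    _ = 1 := by group

theorem eq_one_of_pow_three {P : Subgroup G} (hP : IsPGroup 2 P) {n : G} (hn : n ∈ P)
    (h3 : n ^ 3 = 1) : n = 1 := by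
  obtain ⟨k, hk⟩ := hP ⟨n, hn⟩
  have hk' : n ^ (2 ^ k) = 1 := by
    have := congrArg Subtype.val hk
    simpa using this
  have hcop : Nat.Coprime 3 (2 ^ k) := Nat.Coprime.pow_right k (by decide)
  have h1 : orderOf n ∣ 3 := orderOf_dvd_of_pow_eq_one h3
  have h2 : orderOf n ∣ 2 ^ k := orderOf_dvd_of_pow_eq_one hk'
  have h3' : orderOf n ∣ Nat.gcd 3 (2 ^ k) := Nat.dvd_gcd h1 h2
  rw [hcop.gcd_eq_one, Nat.dvd_one] at h3'
  exact orderOf_eq_one_iff.mp h3'

/-- The cube trick. -/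
theorem cube_trick {P : Subgroup G} (hP : IsPGroup 2 P) {x u : G} (hx3 : x ^ 3 = 1)
    (hn : x * u * x⁻¹ * u⁻¹ ∈ P)
    (hc : x * (x * u * x⁻¹ * u⁻¹) = (x * u * x⁻¹ * u⁻¹) * x) :
    x * u = u * x := by
  have h1 : x * u = (x * u * x⁻¹ * u⁻¹) * u * x := by group
  have h3 := cube_aux h1 hc hx3
  have h4 := eq_one_of_pow_three hP hn h3
  calc x * u = (x * u * x⁻¹ * u⁻¹) * (u * x) := by group
    _ = u * x := by rw [h4, one_mul]

/-- The minimal situation. -/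
structure MinHyp (x d : G) (P : Subgroup G) : Prop where
  two : IsPGroup 2 P
  x3 : x ^ 3 = 1
  xd : x * d = d * x
  xP : ∀ u ∈ P, x * u * x⁻¹ ∈ P
  dP : ∀ u ∈ P, d * u * d⁻¹ ∈ P
  nt : ∃ u ∈ P, x * u ≠ u * x
  min : ∀ U : Subgroup G, U ≤ P → U ≠ P → (∀ u ∈ U, x * u * x⁻¹ ∈ U) →
    (∀ u ∈ U, d * u * d⁻¹ ∈ U) → ∀ u ∈ U, x * u = u * x

variable {x d : G} {P : Subgroup G}

theorem MinHyp.n_mem (h : MinHyp x d P) {u : G} (hu : u ∈ P) : x * u * x⁻¹ * u⁻¹ ∈ P :=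
  P.mul_mem (h.xP u hu) (P.inv_mem hu)

theorem MinHyp.min' (h : MinHyp x d P) (U : Subgroup G) (hUP : U ≤ P)
    (hxU : ∀ u ∈ U, x * u * x⁻¹ ∈ U) (hdU : ∀ u ∈ U, d * u * d⁻¹ ∈ U)
    (hn : ∀ u ∈ P, x * u * x⁻¹ * u⁻¹ ∈ U) : U = P := by
  by_contra hne
  have hc := h.min U hUP hne hxU hdU
  obtain ⟨u, hu, hux⟩ := h.nt
  exact hux (cube_trick h.two h.x3 (h.n_mem hu) (hc _ (hn u hu)))

/-- The fixed points of `x` in `P`. -/
def fixSub (x : G) (P : Subgroup G) : Subgroup G := P ⊓ Subgroup.centralizer {x}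

theorem mem_fixSub {x u : G} {P : Subgroup G} :
    u ∈ fixSub x P ↔ u ∈ P ∧ x * u = u * x := by
  unfold fixSub
  rw [Subgroup.mem_inf, Subgroup.mem_centralizer_iff]
  simp

theorem fixSub_le (x : G) (P : Subgroup G) : fixSub x P ≤ P := inf_le_left

theorem MinHyp.fix_ne (h : MinHyp x d P) : fixSub x P ≠ P := by
  intro he
  obtain ⟨u, hu, hux⟩ := h.nt
  rw [← he] at hu
  exact hux (mem_fixSub.mp hu).2

theorem MinHyp.fix_x (_h : MinHyp x d P) : ∀ u ∈ fixSub x P, x * u * x⁻¹ ∈ fixSub x P := by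
  intro u hu
  have h2 := (mem_fixSub.mp hu).2
  have : x * u * x⁻¹ = u := by rw [h2]; group
  rw [this]; exact hu

theorem MinHyp.fix_d (h : MinHyp x d P) : ∀ u ∈ fixSub x P, d * u * d⁻¹ ∈ fixSub x P := by
  intro u hu
  obtain ⟨h1, h2⟩ := mem_fixSub.mp hu
  refine mem_fixSub.mpr ⟨h.dP u h1, ?_⟩
  have hxd' : x * d⁻¹ = d⁻¹ * x := by
    have := h.xd
    calc x * d⁻¹ = d⁻¹ * (d * x) * d⁻¹ := by group
      _ = d⁻¹ * (x * d) * d⁻¹ := by rw [this]
      _ = d⁻¹ * x := by group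
  calc x * (d * u * d⁻¹) = (x * d) * u * d⁻¹ := by group
    _ = (d * x) * u * d⁻¹ := by rw [h.xd]
    _ = d * (x * u) * d⁻¹ := by group
    _ = d * (u * x) * d⁻¹ := by rw [h2]
    _ = d * u * (x * d⁻¹) := by group
    _ = d * u * (d⁻¹ * x) := by rw [hxd']
    _ = d * u * d⁻¹ * x := by group

theorem MinHyp.le_fix (h : MinHyp x d P) (U : Subgroup G) (hUP : U ≤ P) (hne : U ≠ P)
    (hxU : ∀ u ∈ U, x * u * x⁻¹ ∈ U) (hdU : ∀ u ∈ U, d * u * d⁻¹ ∈ U) : U ≤ fixSub x P :=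
  fun u hu => mem_fixSub.mpr ⟨hUP hu, h.min U hUP hne hxU hdU u hu⟩

theorem MinHyp.le_normalizer_fix [Finite G] (h : MinHyp x d P) :
    P ≤ Subgroup.normalizer (fixSub x P : Set G) := by
  have hxN : x ∈ Subgroup.normalizer (fixSub x P : Set G) :=
    Subgroup.mem_normalizer_fintype h.fix_x
  have hdN : d ∈ Subgroup.normalizer (fixSub x P : Set G) :=
    Subgroup.mem_normalizer_fintype h.fix_d
  have hN : Subgroup.normalizer (fixSub x P : Set G) ⊓ P = P := by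
    by_contra hne
    have hle := h.le_fix _ inf_le_right hne
      (fun v hv => Subgroup.mem_inf.mpr
        ⟨Subgroup.mul_mem _ (Subgroup.mul_mem _ hxN (Subgroup.mem_inf.mp hv).1)
          (Subgroup.inv_mem _ hxN), h.xP v (Subgroup.mem_inf.mp hv).2⟩)
      (fun v hv => Subgroup.mem_inf.mpr
        ⟨Subgroup.mul_mem _ (Subgroup.mul_mem _ hdN (Subgroup.mem_inf.mp hv).1)
          (Subgroup.inv_mem _ hdN), h.dP v (Subgroup.mem_inf.mp hv).2⟩)
    have : Fact (Nat.Prime 2) := ⟨Nat.prime_two⟩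
    obtain ⟨v, hvP, hvN, hvD⟩ :=
      Cfsg.Agent.helper7.exists_mem_normalizer_not_mem h.two (fixSub_le x P) h.fix_ne
    exact hvD (hle (Subgroup.mem_inf.mpr ⟨hvN, hvP⟩))
  intro u hu
  rw [← hN] at hu
  exact (Subgroup.mem_inf.mp hu).1

theorem MinHyp.fix_central [Finite G] (h : MinHyp x d P) :
    ∀ c ∈ fixSub x P, ∀ u ∈ P, c * u = u * c := by
  have hnorm := h.le_normalizer_fix
  have key : ∀ a : G, (∀ u ∈ fixSub x P, a * u * a⁻¹ ∈ fixSub x P) →
      ∀ v ∈ Subgroup.centralizer (fixSub x P : Set G),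
        a * v * a⁻¹ ∈ Subgroup.centralizer (fixSub x P : Set G) := by
    intro a ha v hv
    rw [Subgroup.mem_centralizer_iff]
    intro c hc
    have hc' := inv_conj_mem ha c hc
    have := (Subgroup.mem_centralizer_iff.mp hv) _ hc'
    calc c * (a * v * a⁻¹) = a * ((a⁻¹ * c * a) * v) * a⁻¹ := by group
      _ = a * (v * (a⁻¹ * c * a)) * a⁻¹ := by rw [this]
      _ = a * v * a⁻¹ * c := by group
  have hC : Subgroup.centralizer (fixSub x P : Set G) ⊓ P = P := by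
    apply h.min' _ inf_le_right
    · intro v hv
      exact Subgroup.mem_inf.mpr ⟨key x h.fix_x v (Subgroup.mem_inf.mp hv).1,
        h.xP v (Subgroup.mem_inf.mp hv).2⟩
    · intro v hv
      exact Subgroup.mem_inf.mpr ⟨key d h.fix_d v (Subgroup.mem_inf.mp hv).1,
        h.dP v (Subgroup.mem_inf.mp hv).2⟩
    · intro u hu
      refine Subgroup.mem_inf.mpr ⟨?_, h.n_mem hu⟩
      rw [Subgroup.mem_centralizer_iff]
      intro c hc
      have h1 : u⁻¹ * c * u ∈ fixSub x P :=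
        (Subgroup.mem_normalizer_iff''.mp (hnorm hu) c).mp hc
      have h2 : Commute x (u⁻¹ * c * u) := (mem_fixSub.mp h1).2
      have h2' : (u⁻¹ * c * u) * x⁻¹ = x⁻¹ * (u⁻¹ * c * u) := h2.symm.inv_right.eq
      have h3 : x * c = c * x := (mem_fixSub.mp hc).2
      calc c * (x * u * x⁻¹ * u⁻¹) = (c * x) * u * x⁻¹ * u⁻¹ := by group
        _ = (x * c) * u * x⁻¹ * u⁻¹ := by rw [h3]
        _ = x * u * ((u⁻¹ * c * u) * x⁻¹) * u⁻¹ := by group
        _ = x * u * (x⁻¹ * (u⁻¹ * c * u)) * u⁻¹ := by rw [h2']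
        _ = x * u * x⁻¹ * u⁻¹ * c := by group
  intro c hc u hu
  rw [← hC] at hu
  exact (Subgroup.mem_centralizer_iff.mp (Subgroup.mem_inf.mp hu).1) c hc

end Cfsg.Agent.helper7.S3739m
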