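import Mathlib
import Cfsg.Agent.Lib_helper7_S3739a

set_option autoImplicit false

/-! Squares and commutators of the minimal subgroup lie in the fixed points (towards S3739). -/

namespace Cfsg.Agent.helper7.S3739m

variable {G : Type*} [Group G]

/-- A nontrivial 2-subgroup has a proper subgroup containing all squares and commutators. -/
theorem exists_index_two [Finite G] (P : Subgroup G) (hP : IsPGroup 2 P) (hne : P ≠ ⊥) :
    ∃ H : Subgroup G, H ≤ P ∧ H ≠ P ∧ (∀ u ∈ P, u * u ∈ H) ∧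
      (∀ u ∈ P, ∀ v ∈ P, u * v * u⁻¹ * v⁻¹ ∈ H) := by
  haveI : Fact (Nat.Prime 2) := ⟨Nat.prime_two⟩
  obtain ⟨n, hn⟩ := hP.exists_card_eq
  have hn0 : n ≠ 0 := by
    rintro rfl
    rw [pow_zero] at hn
    exact hne (Subgroup.card_eq_one.mp hn)
  obtain ⟨k, rfl⟩ := Nat.exists_eq_succ_of_ne_zero hn0
  have hdvd : 2 ^ k ∣ Nat.card ↥P := by rw [hn]; exact pow_dvd_pow 2 (Nat.le_succ k)
  obtain ⟨K, hK⟩ := Sylow.exists_subgroup_card_pow_prime 2 hdvd
  have hidx : K.index = 2 := by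
    have h1 := K.index_mul_card
    rw [hK, hn, pow_succ] at h1
    have h2 : 0 < 2 ^ k := by positivity
    have : K.index * 2 ^ k = 2 * 2 ^ k := by rw [h1]; ring
    exact Nat.eq_of_mul_eq_mul_right h2 this
  refine ⟨K.map P.subtype, Subgroup.map_subtype_le K, ?_, ?_, ?_⟩
  · intro he
    have h1 : Nat.card ↥(K.map P.subtype) = Nat.card ↥K :=
      Subgroup.card_map_of_injective (Subgroup.subtype_injective P)
    rw [he, hn, hK] at h1
    have : 2 ^ k < 2 ^ (k + 1) := Nat.pow_lt_pow_right (by norm_num) (Nat.lt_succ_self k)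
    omega
  · intro u hu
    exact Subgroup.mem_map.mpr ⟨⟨u, hu⟩ * ⟨u, hu⟩, Subgroup.mul_self_mem_of_index_two hidx _, rfl⟩
  · intro u hu v hv
    refine Subgroup.mem_map.mpr
      ⟨(⟨u, hu⟩ : ↥P) * ⟨v, hv⟩ * (⟨u, hu⟩ : ↥P)⁻¹ * (⟨v, hv⟩ : ↥P)⁻¹, ?_, rfl⟩
    set a : ↥P := ⟨u, hu⟩
    set b : ↥P := ⟨v, hv⟩
    have : a * b * a⁻¹ * b⁻¹ = (a * b) * (a⁻¹ * b⁻¹) := by group
    rw [this, Subgroup.mul_mem_iff_of_index_two hidx, Subgroup.mul_mem_iff_of_index_two hidx,
      Subgroup.mul_mem_iff_of_index_two hidx, inv_mem_iff, inv_mem_iff]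

variable {x d : G} {P : Subgroup G}

theorem MinHyp.ne_bot (h : MinHyp x d P) : P ≠ ⊥ := by
  rintro rfl
  obtain ⟨u, hu, hux⟩ := h.nt
  rw [Subgroup.mem_bot] at hu
  subst hu
  exact hux (by simp)

theorem MinHyp.sq_comm_mem_fix [Finite G] (h : MinHyp x d P) :
    (∀ u ∈ P, u * u ∈ fixSub x P) ∧ (∀ u ∈ P, ∀ v ∈ P, u * v * u⁻¹ * v⁻¹ ∈ fixSub x P) := by
  obtain ⟨H, hHP, hHne, hHsq, hHc⟩ := exists_index_two P h.two h.ne_bot
  set S : Set G := {g | ∃ u ∈ P, g = u * u} ∪ {g | ∃ u ∈ P, ∃ v ∈ P, g = u * v * u⁻¹ * v⁻¹}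
    with hS
  have hSH : Subgroup.closure S ≤ H := by
    rw [Subgroup.closure_le]
    rintro g (⟨u, hu, rfl⟩ | ⟨u, hu, v, hv, rfl⟩)
    · exact hHsq u hu
    · exact hHc u hu v hv
  have hMP : Subgroup.closure S ≤ P := hSH.trans hHP
  have hMne : Subgroup.closure S ≠ P := by
    intro he
    exact hHne (le_antisymm hHP (he ▸ hSH))
  have hinv : ∀ a : G, (∀ u ∈ P, a * u * a⁻¹ ∈ P) →
      ∀ m ∈ Subgroup.closure S, a * m * a⁻¹ ∈ Subgroup.closure S := by
    intro a ha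
    apply conj_closure_mem
    rintro g (⟨u, hu, rfl⟩ | ⟨u, hu, v, hv, rfl⟩)
    · apply Subgroup.subset_closure
      left
      exact ⟨a * u * a⁻¹, ha u hu, by group⟩
    · apply Subgroup.subset_closure
      right
      exact ⟨a * u * a⁻¹, ha u hu, a * v * a⁻¹, ha v hv, by group⟩
  have hle := h.le_fix _ hMP hMne (hinv x h.xP) (hinv d h.dP)
  constructor
  · intro u hu
    exact hle (Subgroup.subset_closure (Or.inl ⟨u, hu, rfl⟩))
  · intro u hu v hv
    exact hle (Subgroup.subset_closure (Or.inr ⟨u, hu, v, hv, rfl⟩))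

/-- In class 2 with central squares, commutators have order at most 2. -/
theorem comm_sq_eq_one {u v c : G} (e1 : u * v = c * v * u) (hcu : c * u = u * c)
    (hs : (u * u) * v = v * (u * u)) : c * c = 1 := by
  have key : c * c * (v * u * u) = 1 * (v * u * u) := by
    calc c * c * (v * u * u) = c * (c * v * u) * u := by group
      _ = c * (u * v) * u := by rw [← e1]
      _ = (c * u) * v * u := by group
      _ = (u * c) * v * u := by rw [hcu]
      _ = u * (c * v * u) := by group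
      _ = u * (u * v) := by rw [← e1]
      _ = (u * u) * v := by group
      _ = v * (u * u) := hs
      _ = 1 * (v * u * u) := by group
  exact mul_right_cancel key

theorem mul_sq_of_comm {a b : G}
    (hcomm : (b * a * b⁻¹ * a⁻¹) * a = a * (b * a * b⁻¹ * a⁻¹)) :
    (a * b) * (a * b) = (b * a * b⁻¹ * a⁻¹) * (a * a) * (b * b) := by
  calc (a * b) * (a * b) = (a * (b * a * b⁻¹ * a⁻¹)) * (a * b * b) := by group
    _ = ((b * a * b⁻¹ * a⁻¹) * a) * (a * b * b) := by rw [hcomm]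
    _ = (b * a * b⁻¹ * a⁻¹) * (a * a) * (b * b) := by group

end Cfsg.Agent.helper7.S3739m
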