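import Mathlib
import Cfsg.Agent.Lib_helper7_S3739b

set_option autoImplicit false

/-! The minimal subgroup relative to a central four-group `W` (towards S3739). -/

namespace Cfsg.Agent.helper7.S3739m

variable {G : Type*} [Group G]

/-- Hypotheses on `W` relative to `P`. -/
structure WHyp (x d : G) (P W : Subgroup G) : Prop where
  Wc : ∀ w ∈ W, ∀ u ∈ P, w * u = u * w
  inv : ∀ i ∈ P, i * i = 1 → i ∈ W
  Wx : ∀ w ∈ W, x * w = w * x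
  Wd : ∀ w ∈ W, d * w * d⁻¹ ∈ W
  irr : ∀ Y : Subgroup G, Y ≤ W → (∀ y ∈ Y, d * y * d⁻¹ ∈ Y) → Y = ⊥ ∨ Y = W

variable {x d : G} {P W : Subgroup G}

theorem comm_mem_W [Finite G] (h : MinHyp x d P) (hW : WHyp x d P W) :
    ∀ u ∈ P, ∀ v ∈ P, u * v * u⁻¹ * v⁻¹ ∈ W := by
  intro u hu v hv
  have hcD := h.sq_comm_mem_fix.2 u hu v hv
  have hcP : u * v * u⁻¹ * v⁻¹ ∈ P := fixSub_le x P hcD
  have hcu := h.fix_central _ hcD u hu
  have hs := h.fix_central _ (h.sq_comm_mem_fix.1 u hu) v hv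
  have e1 : u * v = (u * v * u⁻¹ * v⁻¹) * v * u := by group
  exact hW.inv _ hcP (comm_sq_eq_one e1 hcu hs)

theorem WHyp.conj_x (hW : WHyp x d P W) {w : G} (hw : w ∈ W) : x * w * x⁻¹ = w := by
  rw [hW.Wx w hw]; group

/-- The elements of `P` whose square lies in `W`. -/
def sqSub [Finite G] (h : MinHyp x d P) (hW : WHyp x d P W) : Subgroup G where
  carrier := {u | u ∈ P ∧ u * u ∈ W}
  mul_mem' := by
    rintro u v ⟨hu, hu2⟩ ⟨hv, hv2⟩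
    refine ⟨P.mul_mem hu hv, ?_⟩
    have hc := comm_mem_W h hW v hv u hu
    rw [mul_sq_of_comm (hW.Wc _ hc u hu)]
    exact W.mul_mem (W.mul_mem hc hu2) hv2
  one_mem' := ⟨P.one_mem, by simp⟩
  inv_mem' := by
    rintro u ⟨hu, hu2⟩
    refine ⟨P.inv_mem hu, ?_⟩
    have : u⁻¹ * u⁻¹ = (u * u)⁻¹ := by group
    rw [this]; exact W.inv_mem hu2

theorem mem_sqSub [Finite G] (h : MinHyp x d P) (hW : WHyp x d P W) {u : G} :
    u ∈ sqSub h hW ↔ u ∈ P ∧ u * u ∈ W := Iff.rfl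

theorem sq_mem_W [Finite G] (h : MinHyp x d P) (hW : WHyp x d P W) :
    ∀ u ∈ P, u * u ∈ W := by
  have hK : sqSub h hW = P := by
    apply h.min' _ (fun u hu => ((mem_sqSub h hW).mp hu).1)
    · intro u hu
      obtain ⟨hu1, hu2⟩ := (mem_sqSub h hW).mp hu
      refine (mem_sqSub h hW).mpr ⟨h.xP u hu1, ?_⟩
      have : (x * u * x⁻¹) * (x * u * x⁻¹) = x * (u * u) * x⁻¹ := by group
      rw [this, hW.conj_x hu2]; exact hu2
    · intro u hu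
      obtain ⟨hu1, hu2⟩ := (mem_sqSub h hW).mp hu
      refine (mem_sqSub h hW).mpr ⟨h.dP u hu1, ?_⟩
      have : (d * u * d⁻¹) * (d * u * d⁻¹) = d * (u * u) * d⁻¹ := by group
      rw [this]; exact hW.Wd _ hu2
    · intro u hu
      refine (mem_sqSub h hW).mpr ⟨h.n_mem hu, ?_⟩
      have ha : x * u * x⁻¹ ∈ P := h.xP u hu
      have hb : u⁻¹ ∈ P := P.inv_mem hu
      have hc := comm_mem_W h hW u⁻¹ hb (x * u * x⁻¹) ha
      rw [mul_sq_of_comm (hW.Wc _ hc _ ha)]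
      have hsD := h.sq_comm_mem_fix.1 u hu
      have hsx : x * (u * u) = (u * u) * x := (mem_fixSub.mp hsD).2
      have e1 : (x * u * x⁻¹) * (x * u * x⁻¹) = u * u := by
        calc (x * u * x⁻¹) * (x * u * x⁻¹) = (x * (u * u)) * x⁻¹ := by group
          _ = (u * u) * x * x⁻¹ := by rw [hsx]
          _ = u * u := by group
      have e2 : u⁻¹ * u⁻¹ = (u * u)⁻¹ := by group
      rw [e1, e2, mul_assoc, mul_inv_cancel, mul_one]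
      exact hc
  intro u hu
  rw [← hK] at hu
  exact ((mem_sqSub h hW).mp hu).2

theorem W_le [Finite G] (h : MinHyp x d P) (hW : WHyp x d P W) : W ≤ P := by
  have hY : ∀ y ∈ P ⊓ W, d * y * d⁻¹ ∈ P ⊓ W := fun y hy =>
    Subgroup.mem_inf.mpr ⟨h.dP y (Subgroup.mem_inf.mp hy).1, hW.Wd y (Subgroup.mem_inf.mp hy).2⟩
  rcases hW.irr (P ⊓ W) inf_le_right hY with hbot | htop
  · exfalso
    obtain ⟨u, hu, hux⟩ := h.nt
    apply hux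
    have h1 : u * u ∈ P ⊓ W := Subgroup.mem_inf.mpr ⟨P.mul_mem hu hu, sq_mem_W h hW u hu⟩
    rw [hbot, Subgroup.mem_bot] at h1
    exact hW.Wx u (hW.inv u hu h1)
  · exact inf_eq_right.mp htop

theorem nw_mul {x u v w w' : G} (hw : w * (x * v * x⁻¹ * v⁻¹) = (x * v * x⁻¹ * v⁻¹) * w) :
    (x * u * x⁻¹ * u⁻¹) * w * ((x * v * x⁻¹ * v⁻¹) * w') =
      (x * (u * v) * x⁻¹ * (u * v)⁻¹) *
        (((x * v * x⁻¹ * v⁻¹)⁻¹ * u * ((x * v * x⁻¹ * v⁻¹)⁻¹)⁻¹ * u⁻¹)⁻¹ * w * w') := by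
  calc (x * u * x⁻¹ * u⁻¹) * w * ((x * v * x⁻¹ * v⁻¹) * w')
      = (x * u * x⁻¹ * u⁻¹) * (w * (x * v * x⁻¹ * v⁻¹)) * w' := by group
    _ = (x * u * x⁻¹ * u⁻¹) * ((x * v * x⁻¹ * v⁻¹) * w) * w' := by rw [hw]
    _ = _ := by group

theorem nw_inv {x u w : G}
    (hw : w⁻¹ * (x * u * x⁻¹ * u⁻¹)⁻¹ = (x * u * x⁻¹ * u⁻¹)⁻¹ * w⁻¹) :
    ((x * u * x⁻¹ * u⁻¹) * w)⁻¹ =
      (x * u⁻¹ * x⁻¹ * (u⁻¹)⁻¹) *
        (((x * u⁻¹ * x⁻¹ * (u⁻¹)⁻¹)⁻¹ * u * ((x * u⁻¹ * x⁻¹ * (u⁻¹)⁻¹)⁻¹)⁻¹ * u⁻¹) * w⁻¹) := by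
  calc ((x * u * x⁻¹ * u⁻¹) * w)⁻¹ = w⁻¹ * (x * u * x⁻¹ * u⁻¹)⁻¹ := by group
    _ = (x * u * x⁻¹ * u⁻¹)⁻¹ * w⁻¹ := by rw [hw]
    _ = _ := by group

/-- The elements `[x,u] w`. -/
def nwSub [Finite G] (h : MinHyp x d P) (hW : WHyp x d P W) : Subgroup G where
  carrier := {g | ∃ u ∈ P, ∃ w ∈ W, g = x * u * x⁻¹ * u⁻¹ * w}
  mul_mem' := by
    rintro _ _ ⟨u, hu, w, hw, rfl⟩ ⟨v, hv, w', hw', rfl⟩
    have hnv := h.n_mem hv
    refine ⟨u * v, P.mul_mem hu hv, _, ?_, nw_mul (hW.Wc w hw _ hnv)⟩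
    exact W.mul_mem (W.mul_mem (W.inv_mem (comm_mem_W h hW _ (P.inv_mem hnv) u hu)) hw) hw'
  one_mem' := ⟨1, P.one_mem, 1, W.one_mem, by group⟩
  inv_mem' := by
    rintro _ ⟨u, hu, w, hw, rfl⟩
    have hnu := h.n_mem hu
    have hnu' := h.n_mem (P.inv_mem hu)
    refine ⟨u⁻¹, P.inv_mem hu, _, ?_, nw_inv (hW.Wc _ (W.inv_mem hw) _ (P.inv_mem hnu))⟩
    exact W.mul_mem (comm_mem_W h hW _ (P.inv_mem hnu') u hu) (W.inv_mem hw)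

theorem mem_nwSub [Finite G] (h : MinHyp x d P) (hW : WHyp x d P W) {g : G} :
    g ∈ nwSub h hW ↔ ∃ u ∈ P, ∃ w ∈ W, g = x * u * x⁻¹ * u⁻¹ * w := Iff.rfl

theorem nwSub_eq [Finite G] (h : MinHyp x d P) (hW : WHyp x d P W) : nwSub h hW = P := by
  have hWP := W_le h hW
  apply h.min'
  · rintro _ ⟨u, hu, w, hw, rfl⟩
    exact P.mul_mem (h.n_mem hu) (hWP hw)
  · rintro _ ⟨u, hu, w, hw, rfl⟩
    refine ⟨x * u * x⁻¹, h.xP u hu, w, hw, ?_⟩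
    calc x * (x * u * x⁻¹ * u⁻¹ * w) * x⁻¹
        = (x * (x * u * x⁻¹) * x⁻¹ * (x * u * x⁻¹)⁻¹) * (x * w * x⁻¹) := by group
      _ = _ := by rw [hW.conj_x hw]
  · rintro _ ⟨u, hu, w, hw, rfl⟩
    refine ⟨d * u * d⁻¹, h.dP u hu, d * w * d⁻¹, hW.Wd w hw, ?_⟩
    have hdx : d * x * d⁻¹ = x := by rw [← h.xd]; group
    calc d * (x * u * x⁻¹ * u⁻¹ * w) * d⁻¹
        = (d * x * d⁻¹) * (d * u * d⁻¹) * (d * x * d⁻¹)⁻¹ * (d * u * d⁻¹)⁻¹ * (d * w * d⁻¹) := by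
          group
      _ = _ := by rw [hdx]
  · intro u hu
    exact ⟨u, hu, 1, W.one_mem, by group⟩

theorem fix_le_W [Finite G] (h : MinHyp x d P) (hW : WHyp x d P W) :
    ∀ c ∈ P, x * c = c * x → c ∈ W := by
  intro c hc hxc
  rw [← nwSub_eq h hW] at hc
  obtain ⟨v, hv, w, hw, hcw⟩ := (mem_nwSub h hW).mp hc
  have hnv : x * v * x⁻¹ * v⁻¹ = c * w⁻¹ := by rw [hcw]; group
  have hcomm : Commute x (c * w⁻¹) :=
    (show Commute x c from hxc).mul_right (show Commute x w from hW.Wx w hw).inv_right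
  have hxv : x * v = v * x := by
    apply cube_trick h.two h.x3 (h.n_mem hv)
    rw [hnv]; exact hcomm.eq
  have h1 : x * v * x⁻¹ * v⁻¹ = 1 := by rw [hxv]; group
  rw [h1] at hcw
  rw [hcw, one_mul]; exact hw

end Cfsg.Agent.helper7.S3739m
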