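import Mathlib
import Cfsg.Agent.Lib_helper7_S3739c

set_option autoImplicit false

/-! Existence of the minimal subgroup with all its properties (towards S3739). -/

namespace Cfsg.Agent.helper7.S3739m

variable {G : Type*} [Group G]

theorem exists_min [Finite G] (Q W : Subgroup G) (hQ2 : IsPGroup 2 Q) (x d : G)
    (hx3 : x ^ 3 = 1) (hxd : x * d = d * x)
    (hxQ : ∀ q ∈ Q, x * q * x⁻¹ ∈ Q) (hdQ : ∀ q ∈ Q, d * q * d⁻¹ ∈ Q)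
    (hnt : ∃ q ∈ Q, x * q ≠ q * x)
    (hWc : ∀ w ∈ W, ∀ q ∈ Q, w * q = q * w) (hinv : ∀ i ∈ Q, i * i = 1 → i ∈ W)
    (hWx : ∀ w ∈ W, x * w = w * x) (hWd : ∀ w ∈ W, d * w * d⁻¹ ∈ W)
    (hirr : ∀ Y : Subgroup G, Y ≤ W → (∀ y ∈ Y, d * y * d⁻¹ ∈ Y) → Y = ⊥ ∨ Y = W) :
    ∃ P : Subgroup G, P ≤ Q ∧ W ≤ P ∧ (∀ u ∈ P, x * u * x⁻¹ ∈ P) ∧
      (∀ u ∈ P, d * u * d⁻¹ ∈ P) ∧ (∃ u ∈ P, x * u ≠ u * x) ∧ (∀ u ∈ P, u * u ∈ W) ∧
      (∀ u ∈ P, x * u = u * x → u ∈ W) := by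
  classical
  let good : Subgroup G → Prop := fun U => U ≤ Q ∧ (∀ u ∈ U, x * u * x⁻¹ ∈ U) ∧
    (∀ u ∈ U, d * u * d⁻¹ ∈ U) ∧ ∃ u ∈ U, x * u ≠ u * x
  have hex : ∃ n : ℕ, ∃ U : Subgroup G, good U ∧ Nat.card U = n :=
    ⟨_, Q, ⟨le_rfl, hxQ, hdQ, hnt⟩, rfl⟩
  obtain ⟨P, hPgood, hPcard⟩ := Nat.find_spec hex
  have hmin : ∀ U : Subgroup G, good U → Nat.card P ≤ Nat.card U := fun U hU => by
    rw [hPcard]; exact Nat.find_min' hex ⟨U, hU, rfl⟩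
  obtain ⟨hPQ, hxP, hdP, hntP⟩ := hPgood
  have h : MinHyp x d P :=
    { two := hQ2.to_le hPQ
      x3 := hx3
      xd := hxd
      xP := hxP
      dP := hdP
      nt := hntP
      min := by
        intro U hUP hne hxU hdU
        by_contra hcon
        push_neg at hcon
        have hg : good U := ⟨hUP.trans hPQ, hxU, hdU, hcon⟩
        exact hne (Subgroup.eq_of_le_of_card_ge hUP (hmin U hg)) }
  have hW : WHyp x d P W :=
    { Wc := fun w hw u hu => hWc w hw u (hPQ hu)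
      inv := fun i hi => hinv i (hPQ hi)
      Wx := hWx
      Wd := hWd
      irr := hirr }
  exact ⟨P, hPQ, W_le h hW, hxP, hdP, hntP, sq_mem_W h hW, fix_le_W h hW⟩

end Cfsg.Agent.helper7.S3739m
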