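import Mathlib
import Cfsg.Agent.Lib_helper7_S3739d
import Cfsg.Agent.Lib_helper7_Balance
import Cfsg.Agent.Lib_helper3_S3739x
import Cfsg.Agent.Lib_helper17_S3739x
import Cfsg.Agent.Lib_helper16_AnisoB

set_option autoImplicit false

/-! Assembly for S3739, given the facts on `W` inside `O_2(G)`. -/

namespace Cfsg.Agent.helper7.S3739m

variable {G : Type*} [Group G]

theorem final_of_B [Finite G]
    (hno : ¬ ∃ E : Subgroup G, Cfsg.IsElementaryAbelian 2 E ∧ Nat.card E = 8)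
    (hchar : Subgroup.centralizer (Cfsg.pCore 2 G : Set G) ≤ Cfsg.pCore 2 G)
    (hsix : ∃ g : G, orderOf g = 6) (d : G)
    (hd : IsPGroup 3 ↥(Subgroup.zpowers d)) (W : Subgroup G)
    (hW : Cfsg.IsElementaryAbelian 2 W) (hW1 : W ≠ ⊥)
    (hdW : d ∈ Subgroup.normalizer (W : Set G))
    (hfpf : W ⊓ Subgroup.centralizer {d} = ⊥)
    (hWc : ∀ w ∈ W, ∀ q ∈ Cfsg.pCore 2 G, w * q = q * w)
    (hinv : ∀ i ∈ Cfsg.pCore 2 G, i * i = 1 → i ∈ W)
    (hWn : ∀ g : G, ∀ w ∈ W, g * w * g⁻¹ ∈ W) : False := by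
  have hW4 := Cfsg.Agent.helper3.S3739x.card_eq_four hno d W hW hW1 hdW hfpf
  have hirr : ∀ Y : Subgroup G, Y ≤ W → (∀ y ∈ Y, d * y * d⁻¹ ∈ Y) → Y = ⊥ ∨ Y = W :=
    fun Y hYW hdY =>
      Cfsg.Agent.helper3.S3739x.invariant_eq_bot_or hno d W hW hW1 hdW hfpf Y hYW hdY
  obtain ⟨x0, hx0, hx0W⟩ := Cfsg.Agent.helper17.S3739x.C1 hno W hW hW4 hWn hsix
  obtain ⟨x, hx, hxW, hxd⟩ := Cfsg.Agent.helper17.S3739x.C2 W hWn x0 hx0 hx0W d hd
  have hx3 : x ^ 3 = 1 := by rw [← hx]; exact pow_orderOf_eq_one x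
  have hQ2 : IsPGroup 2 ↥(Cfsg.pCore 2 G) := Cfsg.Agent.helper7.pCore_isPGroup Nat.prime_two
  have hQn : (Cfsg.pCore 2 G).Normal := Cfsg.Agent.helper7.pCore_normal' Nat.prime_two
  have hnt : ∃ q ∈ Cfsg.pCore 2 G, x * q ≠ q * x := by
    by_contra hcon
    push_neg at hcon
    have hxC : x ∈ Subgroup.centralizer (Cfsg.pCore 2 G : Set G) := by
      rw [Subgroup.mem_centralizer_iff]
      intro q hq
      exact (hcon q hq).symm
    have hxQ := hchar hxC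
    have h1 : x = 1 := eq_one_of_pow_three hQ2 hxQ hx3
    rw [h1, orderOf_one] at hx
    omega
  obtain ⟨P, hPQ, hWP, hxP, hdP, hntP, hsq, hfix⟩ :=
    exists_min (Cfsg.pCore 2 G) W hQ2 x d hx3 hxd
      (fun q hq => hQn.conj_mem q hq x) (fun q hq => hQn.conj_mem q hq d) hnt hWc hinv hxW
      (fun w hw => Cfsg.Agent.helper3.S3739x.conj_mem d W hdW hw) hirr
  have hWP' : W = P :=
    Cfsg.Agent.helper16.AnisoB.eq_of_aniso P W hWP hW4
      (fun w hw => Cfsg.Agent.helper3.S3739x.sq_eq_one W hW hw)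
      (fun w hw u hu => hWc w hw u (hPQ hu)) hsq (fun u hu => hinv u (hPQ hu)) x d hxP hdP hx3 hxW
      (fun w hw => Cfsg.Agent.helper3.S3739x.conj_mem d W hdW hw)
      (fun w hw hw1 h => hw1 (Cfsg.Agent.helper3.S3739x.fixed_eq_one d W hfpf hw h)) hfix
  obtain ⟨u, hu, hux⟩ := hntP
  rw [← hWP'] at hu
  exact hux (hxW u hu)

end Cfsg.Agent.helper7.S3739m
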