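import Mathlib
import Cfsg.Agent.Lib_helper7_S3739e
import Cfsg.Agent.Lib_helper7_Meta2a

set_option autoImplicit false

/-! Piece B for S3739: `W = Ω₁(Z(O_2(G)))`. -/

namespace Cfsg.Agent.helper7.S3739m

variable {G : Type*} [Group G]

/-- An involution centralizing the four-group `W` lies in `W`, if there is no `E_8`. -/
theorem invol_mem_of_centralizes [Finite G]
    (hno : ¬ ∃ E : Subgroup G, Cfsg.IsElementaryAbelian 2 E ∧ Nat.card E = 8)
    (W : Subgroup G) (hW : Cfsg.IsElementaryAbelian 2 W) (hW4 : Nat.card W = 4)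
    (t : G) (ht2 : t * t = 1) (htc : ∀ w ∈ W, t * w = w * t) : t ∈ W := by
  by_contra htW
  apply hno
  refine ⟨Cfsg.Agent.helper17.S3739x.adj W t ht2 htc,
    Cfsg.Agent.helper17.S3739x.elemAb_adj W hW t ht2 htc, ?_⟩
  rw [Cfsg.Agent.helper17.S3739x.card_adj W t ht2 htc htW, hW4]

/-- `Ω₁(Z(Q))`. -/
def omegaZ (Q : Subgroup G) : Subgroup G where
  carrier := {z | z ∈ Q ∧ z * z = 1 ∧ ∀ q ∈ Q, z * q = q * z}
  mul_mem' := by
    rintro a b ⟨ha, ha2, hac⟩ ⟨hb, hb2, hbc⟩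
    refine ⟨Q.mul_mem ha hb, ?_, ?_⟩
    · calc a * b * (a * b) = a * (b * a) * b := by group
        _ = a * (a * b) * b := by rw [hbc a ha]
        _ = (a * a) * (b * b) := by group
        _ = 1 := by rw [ha2, hb2, one_mul]
    · intro q hq
      calc a * b * q = a * (b * q) := by group
        _ = a * (q * b) := by rw [hbc q hq]
        _ = (a * q) * b := by group
        _ = (q * a) * b := by rw [hac q hq]
        _ = q * (a * b) := by group
  one_mem' := ⟨Q.one_mem, by simp, by simp⟩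
  inv_mem' := by
    rintro a ⟨ha, ha2, hac⟩
    have hinv : a⁻¹ = a := inv_eq_of_mul_eq_one_left ha2
    rw [Set.mem_setOf_eq, hinv]
    exact ⟨ha, ha2, hac⟩

theorem mem_omegaZ {Q : Subgroup G} {z : G} :
    z ∈ omegaZ Q ↔ z ∈ Q ∧ z * z = 1 ∧ ∀ q ∈ Q, z * q = q * z := Iff.rfl

theorem omegaZ_conj {Q : Subgroup G} (hQ : Q.Normal) (g : G) {z : G} (hz : z ∈ omegaZ Q) :
    g * z * g⁻¹ ∈ omegaZ Q := by
  obtain ⟨hzQ, hz2, hzc⟩ := hz
  refine ⟨hQ.conj_mem z hzQ g, ?_, ?_⟩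
  · calc g * z * g⁻¹ * (g * z * g⁻¹) = g * (z * z) * g⁻¹ := by group
      _ = 1 := by rw [hz2]; group
  · intro q hq
    have hq' : g⁻¹ * q * g ∈ Q := by
      have := hQ.conj_mem q hq g⁻¹
      simpa using this
    calc g * z * g⁻¹ * q = g * (z * (g⁻¹ * q * g)) * g⁻¹ := by group
      _ = g * ((g⁻¹ * q * g) * z) * g⁻¹ := by rw [hzc _ hq']
      _ = q * (g * z * g⁻¹) := by group

theorem omegaZ_elemAb (Q : Subgroup G) : Cfsg.IsElementaryAbelian 2 (omegaZ Q) := by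
  refine ⟨⟨⟨?_⟩⟩, ?_⟩
  · rintro ⟨a, ha⟩ ⟨b, hb⟩
    exact Subtype.ext (ha.2.2 b hb.1)
  · intro a ha
    rw [sq]; exact ha.2.1

theorem omegaZ_ne_bot [Finite G] (Q : Subgroup G) (hQ2 : IsPGroup 2 Q) (hQ : Q ≠ ⊥) :
    omegaZ Q ≠ ⊥ := by
  have htop : (⊤ : Subgroup ↥Q) ≠ ⊥ := by
    intro h
    apply hQ
    rw [Subgroup.eq_bot_iff_forall]
    intro q hq
    have : (⟨q, hq⟩ : ↥Q) ∈ (⊥ : Subgroup ↥Q) := h ▸ Subgroup.mem_top _
    rw [Subgroup.mem_bot] at this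
    exact congrArg Subtype.val this
  obtain ⟨e, -, hec, he2⟩ :=
    Cfsg.Agent.helper7.Meta2.central_invol_in_normal hQ2 (⊤ : Subgroup ↥Q) htop
  intro hbot
  have hmem : (e : G) ∈ omegaZ Q := by
    refine ⟨e.2, ?_, ?_⟩
    · have h1 : e ^ 2 = 1 := by rw [← he2]; exact pow_orderOf_eq_one e
      have h2 := congrArg Subtype.val h1
      simpa [sq] using h2
    · intro q hq
      have := (Subgroup.mem_center_iff.mp hec) ⟨q, hq⟩
      exact (congrArg Subtype.val this).symm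
  rw [hbot, Subgroup.mem_bot] at hmem
  have : e = 1 := Subtype.ext hmem
  rw [this, orderOf_one] at he2
  omega

/-- Piece B. -/
theorem pieceB [Finite G]
    (hno : ¬ ∃ E : Subgroup G, Cfsg.IsElementaryAbelian 2 E ∧ Nat.card E = 8)
    (hchar : Subgroup.centralizer (Cfsg.pCore 2 G : Set G) ≤ Cfsg.pCore 2 G)
    (d : G) (W : Subgroup G)
    (hW : Cfsg.IsElementaryAbelian 2 W) (hW1 : W ≠ ⊥)
    (hdW : d ∈ Subgroup.normalizer (W : Set G))
    (hfpf : W ⊓ Subgroup.centralizer {d} = ⊥) :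
    (∀ w ∈ W, ∀ q ∈ Cfsg.pCore 2 G, w * q = q * w) ∧
      (∀ i ∈ Cfsg.pCore 2 G, i * i = 1 → i ∈ W) ∧ (∀ g : G, ∀ w ∈ W, g * w * g⁻¹ ∈ W) := by
  haveI : Fact (Nat.Prime 2) := ⟨Nat.prime_two⟩
  have hW4 := Cfsg.Agent.helper3.S3739x.card_eq_four hno d W hW hW1 hdW hfpf
  have hQ2 : IsPGroup 2 ↥(Cfsg.pCore 2 G) := Cfsg.Agent.helper7.pCore_isPGroup Nat.prime_two
  haveI hQn : (Cfsg.pCore 2 G).Normal := Cfsg.Agent.helper7.pCore_normal' Nat.prime_two
  -- Q ≠ ⊥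
  have hQ1 : Cfsg.pCore 2 G ≠ ⊥ := by
    intro hbot
    apply hW1
    rw [Subgroup.eq_bot_iff_forall]
    intro w hw
    have hwC : w ∈ Subgroup.centralizer (Cfsg.pCore 2 G : Set G) := by
      rw [Subgroup.mem_centralizer_iff]
      intro q hq
      rw [SetLike.mem_coe, hbot, Subgroup.mem_bot] at hq
      rw [hq]; simp
    have := hchar hwC
    rw [hbot, Subgroup.mem_bot] at this
    exact this
  have hZ1 := omegaZ_ne_bot (Cfsg.pCore 2 G) hQ2 hQ1
  haveI hZn : (omegaZ (Cfsg.pCore 2 G)).Normal :=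
    ⟨fun z hz g => omegaZ_conj hQn g hz⟩
  -- Sylow 2-subgroup containing W
  have hW2 : IsPGroup 2 W := by
    intro g
    refine ⟨1, ?_⟩
    have h1 := hW.2 g.1 g.2
    apply Subtype.ext
    simpa using h1
  obtain ⟨T, hWT⟩ := hW2.exists_le_sylow
  have hQT : Cfsg.pCore 2 G ≤ T := hQ2.le_sylow_of_normal T
  have hZT : omegaZ (Cfsg.pCore 2 G) ≤ T := fun z hz => hQT hz.1
  -- a central involution of T inside Z1
  have hNne : (omegaZ (Cfsg.pCore 2 G)).subgroupOf T ≠ ⊥ := by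
    intro h
    apply hZ1
    rw [Subgroup.eq_bot_iff_forall]
    intro z hz
    have : (⟨z, hZT hz⟩ : ↥T) ∈ (omegaZ (Cfsg.pCore 2 G)).subgroupOf T := by
      rw [Subgroup.mem_subgroupOf]; exact hz
    rw [h, Subgroup.mem_bot] at this
    exact congrArg Subtype.val this
  obtain ⟨e, heN, hec, he2⟩ :=
    Cfsg.Agent.helper7.Meta2.central_invol_in_normal T.isPGroup'
      ((omegaZ (Cfsg.pCore 2 G)).subgroupOf T) hNne
  have hzZ : (e : G) ∈ omegaZ (Cfsg.pCore 2 G) := Subgroup.mem_subgroupOf.mp heN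
  have hz1 : (e : G) ≠ 1 := by
    intro h
    have : e = 1 := Subtype.ext h
    rw [this, orderOf_one] at he2
    omega
  have hzW : ∀ w ∈ W, (e : G) * w = w * (e : G) := by
    intro w hw
    have := (Subgroup.mem_center_iff.mp hec) ⟨w, hWT hw⟩
    exact (congrArg Subtype.val this).symm
  have hzinW : (e : G) ∈ W :=
    invol_mem_of_centralizes hno W hW hW4 _ hzZ.2.1 hzW
  -- W ≤ Z1
  have hWZ : W ≤ omegaZ (Cfsg.pCore 2 G) := by
    have hY : ∀ y ∈ W ⊓ omegaZ (Cfsg.pCore 2 G), d * y * d⁻¹ ∈ W ⊓ omegaZ (Cfsg.pCore 2 G) :=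
      fun y hy => Subgroup.mem_inf.mpr
        ⟨Cfsg.Agent.helper3.S3739x.conj_mem d W hdW (Subgroup.mem_inf.mp hy).1,
          omegaZ_conj hQn d (Subgroup.mem_inf.mp hy).2⟩
    rcases Cfsg.Agent.helper3.S3739x.invariant_eq_bot_or hno d W hW hW1 hdW hfpf _
      inf_le_left hY with hbot | htop
    · exfalso
      have : (e : G) ∈ W ⊓ omegaZ (Cfsg.pCore 2 G) := Subgroup.mem_inf.mpr ⟨hzinW, hzZ⟩
      rw [hbot, Subgroup.mem_bot] at this
      exact hz1 this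
    · exact inf_eq_left.mp htop
  -- Z1 = W
  have hZW : W = omegaZ (Cfsg.pCore 2 G) := by
    apply Subgroup.eq_of_le_of_card_ge hWZ
    rw [hW4]
    exact Cfsg.Agent.helper3.S3739x.card_le_four hno _ (omegaZ_elemAb _)
  have hWc : ∀ w ∈ W, ∀ q ∈ Cfsg.pCore 2 G, w * q = q * w :=
    fun w hw q hq => (hWZ hw).2.2 q hq
  refine ⟨hWc, ?_, ?_⟩
  · intro i hi hi2
    exact invol_mem_of_centralizes hno W hW hW4 i hi2 (fun w hw => (hWc w hw i hi).symm)
  · intro g w hw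
    rw [hZW]
    exact omegaZ_conj hQn g (hWZ hw)

end Cfsg.Agent.helper7.S3739m
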