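import Mathlib
import Cfsg.Prelude.Def_Characters
import Cfsg.Prelude.Def_Blocks
import Cfsg.Agent.Lib_helper12_CharOps
import Cfsg.Agent.Lib_helper24_CharKer
import Cfsg.Agent.Lib_helper5_Clifford
import Cfsg.Agent.Lib_helper23_LinChar

set_option autoImplicit false

namespace Cfsg.Agent.helper7.S4885x

open Cfsg
open scoped ComplexConjugate commutatorElement

universe u

/-- linear characters of a finite group separate elements outside the commutator subgroup -/
theorem exists_hom_ne_one {P : Type u} [Group P] [Finite P] (y : P) (hy : y ∉ commutator P) :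
    ∃ lam : P →* ℂˣ, lam y ≠ 1 := by
  have ha : (Abelianization.of y : Abelianization P) ≠ 1 := by
    intro h1
    exact hy ((QuotientGroup.eq_one_iff y).mp h1)
  have : NeZero ((Monoid.exponent (Abelianization P) : ℕ) : ℂ) :=
    ⟨by exact_mod_cast Monoid.exponent_ne_zero_of_finite⟩
  obtain ⟨φ, hφ⟩ :=
    CommGroup.exists_apply_ne_one_of_hasEnoughRootsOfUnity (Abelianization P) ℂ ha
  exact ⟨φ.comp Abelianization.of, by simpa using hφ⟩

/-- a linear character `θ` of a subgroup `H` of `p'`-index is a constituent of the restriction of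
some irreducible character of `p'`-degree -/
theorem exists_irr_pprime_over {Q : Type u} [Group Q] [Finite Q] (p : ℕ) [Fact p.Prime]
    (H : Subgroup Q) [Fintype H] (hH : ¬ p ∣ H.index) (θ : H →* ℂˣ) :
    ∃ ψ : IrrCharacter Q, ¬ p ∣ charDegree (ψ : Q → ℂ) ∧
      classInner (fun h : H => ((θ h : ℂˣ) : ℂ)) (fun h : H => (ψ : Q → ℂ) (h : Q)) ≠ 0 := by
  classical
  have : Fintype Q := Fintype.ofFinite _
  have : Fintype (IrrCharacter Q) := Fintype.ofFinite _
  set f : H → ℂ := fun h => ((θ h : ℂˣ) : ℂ) with hf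
  have hfc : IsCharacter H f := helper24.irr_isCharacter (helper23.isIrrCharacter_of_hom θ)
  have hΘ : IsCharacter Q (indFun H f) := helper12.isCharacter_indFun H hfc
  obtain ⟨a, hexp, ha, -⟩ := helper12.char_decomp hΘ
  have hdeg : indFun H f 1 = ((∑ φ : IrrCharacter Q, a φ * charDegree (φ : Q → ℂ) : ℕ) : ℂ) := by
    conv_lhs => rw [hexp]
    rw [Finset.sum_apply, Nat.cast_sum]
    apply Finset.sum_congr rfl
    intro φ _
    rw [Pi.smul_apply, smul_eq_mul, Nat.cast_mul,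
      helper24.char_charDegree_cast (helper24.irr_isCharacter φ.2)]
  rw [helper5.indFun_one] at hdeg
  have hf1 : f 1 = 1 := by simp [hf]
  rw [hf1, mul_one] at hdeg
  have hsum : H.index = ∑ φ : IrrCharacter Q, a φ * charDegree (φ : Q → ℂ) := by
    exact_mod_cast hdeg
  have hex : ∃ φ : IrrCharacter Q, ¬ p ∣ a φ * charDegree (φ : Q → ℂ) := by
    by_contra hcon
    push Not at hcon
    apply hH
    rw [hsum]
    exact Finset.dvd_sum (fun φ _ => hcon φ)
  obtain ⟨φ, hφ⟩ := hex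
  refine ⟨φ, fun hd => hφ (Dvd.dvd.mul_left hd _), ?_⟩
  have h := ha φ
  rw [helper12.classInner_indFun_eq_restrict H f _
    (helper24.char_isClassFunction (helper24.irr_isCharacter φ.2))] at h
  rw [h]
  intro h0
  have h00 : a φ = 0 := by exact_mod_cast h0
  apply hφ
  rw [h00, zero_mul]
  exact dvd_zero p

/-- if `y ∈ H` acts trivially in `ψ` and the linear character `θ` of `H` is a constituent of the
restriction of `ψ` to `H`, then `θ y = 1` -/
theorem hom_eq_one_of_constituent {Q : Type u} [Group Q] [Finite Q] (H : Subgroup Q) [Fintype H]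
    (θ : H →* ℂˣ) (ψ : IrrCharacter Q) (y : H) (hy : (ψ : Q → ℂ) (y : Q) = (ψ : Q → ℂ) 1)
    (hne : classInner (fun h : H => ((θ h : ℂˣ) : ℂ)) (fun h : H => (ψ : Q → ℂ) (h : Q)) ≠ 0) :
    θ y = 1 := by
  obtain ⟨n, ρ, hρ, hψ⟩ := ψ.2
  have hy1 : ρ (y : Q) = 1 := by
    rw [← helper24.rep_char_eq_degree_iff]
    rw [hψ, hy, ← hψ]
    simp [Representation.char_one]
  have hshift : ∀ g : Q, (ψ : Q → ℂ) (g * (y : Q)) = (ψ : Q → ℂ) g := by
    intro g
    rw [← hψ]
    simp only [Representation.character]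
    rw [map_mul, hy1, mul_one]
  unfold classInner at hne
  have hS : ∑ h : H, ((θ h : ℂˣ) : ℂ) * conj ((ψ : Q → ℂ) (h : Q)) =
      ((θ y : ℂˣ) : ℂ) * ∑ h : H, ((θ h : ℂˣ) : ℂ) * conj ((ψ : Q → ℂ) (h : Q)) := by
    rw [Finset.mul_sum]
    rw [← Equiv.sum_comp (Equiv.mulRight y)]
    apply Finset.sum_congr rfl
    intro h _
    simp only [Equiv.coe_mulRight, map_mul, Units.val_mul, Subgroup.coe_mul]
    rw [hshift]
    ring
  have hS0 : ∑ h : H, ((θ h : ℂˣ) : ℂ) * conj ((ψ : Q → ℂ) (h : Q)) ≠ 0 := by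
    intro h0
    apply hne
    rw [h0, mul_zero]
  have h1 : ((θ y : ℂˣ) : ℂ) = 1 := by
    have h2 : ((θ y : ℂˣ) : ℂ) * ∑ h : H, ((θ h : ℂˣ) : ℂ) * conj ((ψ : Q → ℂ) (h : Q)) =
        1 * ∑ h : H, ((θ h : ℂˣ) : ℂ) * conj ((ψ : Q → ℂ) (h : Q)) := by
      rw [one_mul]; exact hS.symm
    exact mul_right_cancel₀ hS0 h2
  exact Units.ext h1

/-- PIECE X of S4885 (note 1069) -/
theorem pieceX {G : Type u} [Group G] [Finite G] (p : ℕ) [Fact p.Prime] (V : Subgroup G) [V.Normal]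
    (hV : (Nat.card V).Coprime p) (P : Sylow p G) (x : G) (hxP : x ∈ (P : Subgroup G))
    (hx : ∀ χ : Cfsg.IrrCharacter G, (∀ n ∈ V, (χ : G → ℂ) n = (χ : G → ℂ) 1) →
      ¬ p ∣ Cfsg.charDegree (χ : G → ℂ) → (χ : G → ℂ) x = (χ : G → ℂ) 1) :
    x ∈ ⁅(P : Subgroup G), (P : Subgroup G)⁆ := by
  classical
  by_contra hxc
  have hy : (⟨x, hxP⟩ : (P : Subgroup G)) ∉ commutator (P : Subgroup G) := by
    intro hmem
    apply hxc
    have h1 : (commutator (P : Subgroup G)).map (P : Subgroup G).subtype =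
        ⁅(P : Subgroup G), (P : Subgroup G)⁆ := by
      rw [commutator_def, Subgroup.map_commutator, ← MonoidHom.range_eq_map, Subgroup.range_subtype]
    rw [← h1]
    exact ⟨⟨x, hxP⟩, hmem, rfl⟩
  obtain ⟨lam, hlam⟩ := exists_hom_ne_one _ hy
  let f : G →* G ⧸ V := QuotientGroup.mk' V
  let H : Subgroup (G ⧸ V) := (P : Subgroup G).map f
  let e0 : (P : Subgroup G) →* H := f.subgroupMap (P : Subgroup G)
  have he0s : Function.Surjective e0 := f.subgroupMap_surjective _
  have hPV : (P : Subgroup G) ⊓ V = ⊥ := by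
    apply disjoint_iff.mp
    apply Subgroup.disjoint_of_coprime_natCard
    obtain ⟨k, hk⟩ := (P.isPGroup').exists_card_eq
    rw [hk]
    exact Nat.Coprime.pow_left k hV.symm
  have he0i : Function.Injective e0 := by
    rw [injective_iff_map_eq_one]
    intro a ha
    have ha' : f (a : G) = 1 := congrArg Subtype.val ha
    have haV : (a : G) ∈ V := by
      rwa [QuotientGroup.mk'_apply, QuotientGroup.eq_one_iff] at ha'
    have hmem : (a : G) ∈ (P : Subgroup G) ⊓ V := ⟨a.2, haV⟩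
    rw [hPV, Subgroup.mem_bot] at hmem
    exact Subtype.ext hmem
  let e : (P : Subgroup G) ≃* H := MulEquiv.ofBijective e0 ⟨he0i, he0s⟩
  let θ : H →* ℂˣ := lam.comp e.symm.toMonoidHom
  have hHidx : ¬ p ∣ H.index := by
    have h1 : H.index ∣ (P : Subgroup G).index := by
      show ((P : Subgroup G).map f).index ∣ _
      exact Subgroup.index_map_dvd (P : Subgroup G) (QuotientGroup.mk'_surjective V)
    intro hd
    exact P.not_dvd_index (dvd_trans hd h1)
  have : Fintype H := Fintype.ofFinite _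
  obtain ⟨ψ, hψd, hψne⟩ := exists_irr_pprime_over p H hHidx θ
  let χ : IrrCharacter G :=
    ⟨(ψ : G ⧸ V → ℂ) ∘ (QuotientGroup.mk : G → G ⧸ V), helper24.irr_inflation V ψ.2⟩
  have hχV : ∀ n ∈ V, (χ : G → ℂ) n = (χ : G → ℂ) 1 := by
    intro n hn
    show (ψ : G ⧸ V → ℂ) (QuotientGroup.mk n) = (ψ : G ⧸ V → ℂ) (QuotientGroup.mk 1)
    rw [(QuotientGroup.eq_one_iff n).mpr hn, QuotientGroup.mk_one]
  have hχd : ¬ p ∣ charDegree (χ : G → ℂ) := by
    have h2 : charDegree (χ : G → ℂ) = charDegree (ψ : G ⧸ V → ℂ) := rfl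
    rw [h2]; exact hψd
  have hχx := hx χ hχV hχd
  have hψx : (ψ : G ⧸ V → ℂ) ((e ⟨x, hxP⟩ : H) : G ⧸ V) = (ψ : G ⧸ V → ℂ) 1 := hχx
  have h3 := hom_eq_one_of_constituent H θ ψ (e ⟨x, hxP⟩) hψx hψne
  apply hlam
  simpa [θ] using h3

end Cfsg.Agent.helper7.S4885x
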