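import Mathlib
import Cfsg.Agent.S3762
import Cfsg.Agent.Lib_helper7_Cyc2c

/-!
# 2-groups of symplectic type and exponent 4 (helper7), for S1774

From P. Hall's theorem (S3762): all commutators lie in `{1, c}` for a central involution-or-one `c`,
and the centre has at most one involution.
-/

set_option autoImplicit false

namespace Cfsg.Agent.helper7.Sy

open Subgroup

variable {T : Type*} [Group T]

/-- commuting subgroups: every element of the join is a product -/
theorem exists_mul_of_mem_sup {E R : Subgroup T} (hc : ∀ e ∈ E, ∀ r ∈ R, e * r = r * e)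
    {x : T} (hx : x ∈ E ⊔ R) : ∃ e ∈ E, ∃ r ∈ R, x = e * r := by
  have h1 : E ⊔ R = Subgroup.closure ((E : Set T) ∪ (R : Set T)) := by
    rw [Subgroup.closure_union, Subgroup.closure_eq, Subgroup.closure_eq]
  rw [h1] at hx
  induction hx using Subgroup.closure_induction with
  | mem y hy =>
    rcases hy with hy | hy
    · exact ⟨y, hy, 1, one_mem _, (mul_one y).symm⟩
    · exact ⟨1, one_mem _, y, hy, (one_mul y).symm⟩
  | one => exact ⟨1, one_mem _, 1, one_mem _, (mul_one 1).symm⟩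
  | mul a b _ _ iha ihb =>
    obtain ⟨e1, he1, r1, hr1, rfl⟩ := iha
    obtain ⟨e2, he2, r2, hr2, rfl⟩ := ihb
    refine ⟨e1 * e2, mul_mem he1 he2, r1 * r2, mul_mem hr1 hr2, ?_⟩
    calc e1 * r1 * (e2 * r2) = e1 * (r1 * e2) * r2 := by group
      _ = e1 * (e2 * r1) * r2 := by rw [hc e2 he2 r1 hr1]
      _ = e1 * e2 * (r1 * r2) := by group
  | inv a _ iha =>
    obtain ⟨e1, he1, r1, hr1, rfl⟩ := iha
    refine ⟨e1⁻¹, inv_mem he1, r1⁻¹, inv_mem hr1, ?_⟩
    rw [mul_inv_rev, hc e1⁻¹ (inv_mem he1) r1⁻¹ (inv_mem hr1)]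

/-- the structural consequence of Hall's theorem under exponent 4 -/
theorem comm_structure [Finite T] (hT : IsPGroup 2 T)
    (hsymp : ∀ A : Subgroup T, A.Characteristic → IsMulCommutative A → IsCyclic A)
    (h4 : ∀ x : T, x ^ 4 = 1) :
    ∃ c : T, (∀ x : T, x * c = c * x) ∧ c ^ 2 = 1 ∧
      ∀ a b : T, a * b * a⁻¹ * b⁻¹ = 1 ∨ a * b * a⁻¹ * b⁻¹ = c := by
  classical
  haveI : Fact (Nat.Prime 2) := ⟨Nat.prime_two⟩
  obtain ⟨E, R, hER, hsup, hE, hR⟩ := Cfsg.Agent.S3762.result hT hsymp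
  -- R is cyclic
  have hRc : IsCyclic R := by
    rcases hR with h | ⟨-, h16, h⟩
    · exact h
    · exfalso
      rcases h with ⟨m, ⟨e⟩⟩ | ⟨m, ⟨e⟩⟩ | ⟨n, hn, -, x, -, hx, -, -⟩
      · have ho : orderOf (e.symm (DihedralGroup.r 1)) = m := by
          rw [MulEquiv.orderOf_eq, DihedralGroup.orderOf_r_one]
        have hx4 : (e.symm (DihedralGroup.r 1)) ^ 4 = 1 := by
          apply Subtype.ext
          rw [Subgroup.coe_pow]
          exact h4 _
        have hd := orderOf_dvd_of_pow_eq_one hx4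
        rw [ho] at hd
        have hm : m ≤ 4 := Nat.le_of_dvd (by norm_num) hd
        have hc : Nat.card R = 2 * m := by
          rw [Nat.card_congr e.toEquiv, DihedralGroup.nat_card]
        omega
      · have ho : orderOf (e.symm (QuaternionGroup.a 1)) = 2 * m := by
          rw [MulEquiv.orderOf_eq, QuaternionGroup.orderOf_a_one]
        have hx4 : (e.symm (QuaternionGroup.a 1)) ^ 4 = 1 := by
          apply Subtype.ext
          rw [Subgroup.coe_pow]
          exact h4 _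
        have hd := orderOf_dvd_of_pow_eq_one hx4
        rw [ho] at hd
        have hm : 2 * m ≤ 4 := Nat.le_of_dvd (by norm_num) hd
        have hm0 : m ≠ 0 := by
          rintro rfl
          simp at hd
        haveI : NeZero m := ⟨hm0⟩
        have hc : Nat.card R = 4 * m := by
          rw [Nat.card_congr e.toEquiv, Nat.card_eq_fintype_card, QuaternionGroup.card]
        omega
      · have hx4 : x ^ 4 = 1 := by
          apply Subtype.ext
          rw [Subgroup.coe_pow]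
          exact h4 _
        have hd := orderOf_dvd_of_pow_eq_one hx4
        rw [hx] at hd
        have h8 : 2 ^ 3 ≤ 2 ^ n := Nat.pow_le_pow_right (by norm_num) hn
        have := Nat.le_of_dvd (by norm_num) hd
        omega
  have hRcomm : ∀ r1 ∈ R, ∀ r2 ∈ R, r1 * r2 = r2 * r1 := by
    intro r1 h1 r2 h2
    letI := IsCyclic.commGroup (α := R)
    exact congrArg Subtype.val (mul_comm (⟨r1, h1⟩ : R) ⟨r2, h2⟩)
  have hdec : ∀ x : T, ∃ e ∈ E, ∃ r ∈ R, x = e * r := by
    intro x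
    exact exists_mul_of_mem_sup hER (hsup ▸ Subgroup.mem_top x)
  -- commutators reduce to commutators in E
  have hcomm : ∀ e1 ∈ E, ∀ r1 ∈ R, ∀ e2 ∈ E, ∀ r2 ∈ R,
      (e1 * r1) * (e2 * r2) * (e1 * r1)⁻¹ * (e2 * r2)⁻¹ = e1 * e2 * e1⁻¹ * e2⁻¹ := by
    intro e1 he1 r1 hr1 e2 he2 r2 hr2
    have a1 := hER e2 he2 r1 hr1
    have a2 := hER e1⁻¹ (inv_mem he1) r2 hr2
    have a3 := hER e2⁻¹ (inv_mem he2) r1⁻¹ (inv_mem hr1)
    have a4 := hER e1⁻¹ (inv_mem he1) r1⁻¹ (inv_mem hr1)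
    have a5 := hRcomm r1 hr1 r2 hr2
    have a6 := hER e2⁻¹ (inv_mem he2) r2⁻¹ (inv_mem hr2)
    have a7 := hER e1⁻¹ (inv_mem he1) (r1 * r2) (mul_mem hr1 hr2)
    have a8 := hER e2⁻¹ (inv_mem he2) (r1 * r2 * r1⁻¹) (mul_mem (mul_mem hr1 hr2) (inv_mem hr1))
    calc (e1 * r1) * (e2 * r2) * (e1 * r1)⁻¹ * (e2 * r2)⁻¹
        = e1 * (r1 * e2) * r2 * (r1⁻¹ * e1⁻¹) * (r2⁻¹ * e2⁻¹) := by group
      _ = e1 * (e2 * r1) * r2 * (e1⁻¹ * r1⁻¹) * (e2⁻¹ * r2⁻¹) := by rw [a1, a4, a6]
      _ = e1 * e2 * ((r1 * r2) * e1⁻¹) * r1⁻¹ * e2⁻¹ * r2⁻¹ := by group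
      _ = e1 * e2 * (e1⁻¹ * (r1 * r2)) * r1⁻¹ * e2⁻¹ * r2⁻¹ := by rw [a7]
      _ = e1 * e2 * e1⁻¹ * ((r1 * r2 * r1⁻¹) * e2⁻¹) * r2⁻¹ := by group
      _ = e1 * e2 * e1⁻¹ * (e2⁻¹ * (r1 * r2 * r1⁻¹)) * r2⁻¹ := by rw [a8]
      _ = e1 * e2 * e1⁻¹ * e2⁻¹ * (r1 * r2 * r1⁻¹ * r2⁻¹) := by group
      _ = e1 * e2 * e1⁻¹ * e2⁻¹ * (r2 * r1 * r1⁻¹ * r2⁻¹) := by rw [a5]
      _ = e1 * e2 * e1⁻¹ * e2⁻¹ := by group
  rcases hE with hE | hE
  · -- E trivial: abelian
    refine ⟨1, fun x => by simp, one_pow 2, fun a b => Or.inl ?_⟩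
    obtain ⟨e1, he1, r1, hr1, rfl⟩ := hdec a
    obtain ⟨e2, he2, r2, hr2, rfl⟩ := hdec b
    rw [hcomm e1 he1 r1 hr1 e2 he2 r2 hr2]
    rw [hE, Subgroup.mem_bot] at he1 he2
    rw [he1, he2]; group
  · obtain ⟨⟨-, -, hcomE⟩, hcard⟩ := hE
    -- the centre of E has two elements
    have h2 : Nat.card (Subgroup.center E) = 2 := hcard
    obtain ⟨c', hc'⟩ := (Nat.card_eq_two_iff' (1 : Subgroup.center E)).mp h2
    have hc1 : c' ≠ 1 := hc'.1
    have hall : ∀ y : Subgroup.center E, y = 1 ∨ y = c' := by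
      intro y
      by_cases hy : y = 1
      · exact Or.inl hy
      · exact Or.inr (hc'.2 y hy)
    set c : T := ((c' : E) : T) with hcdef
    have hcE : c ∈ E := (c' : E).2
    have hcc : ∀ e ∈ E, e * c = c * e := by
      intro e he
      have := Subgroup.mem_center_iff.mp c'.2 ⟨e, he⟩
      exact congrArg Subtype.val this
    refine ⟨c, ?_, ?_, ?_⟩
    · intro x
      obtain ⟨e, he, r, hr, rfl⟩ := hdec x
      calc e * r * c = e * (c * r) := by rw [mul_assoc, hER c hcE r hr]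
        _ = (e * c) * r := by group
        _ = c * e * r := by rw [hcc e he]
        _ = c * (e * r) := by group
    · have : c' ^ 2 = 1 := by
        rcases hall (c' ^ 2) with h | h
        · exact h
        · exfalso
          apply hc1
          have : c' * c' = c' := by rw [← pow_two]; exact h
          exact mul_eq_left.mp this
      have h3 := congrArg (fun y : Subgroup.center E => ((y : E) : T)) this
      simpa using h3
    · intro a b
      obtain ⟨e1, he1, r1, hr1, rfl⟩ := hdec a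
      obtain ⟨e2, he2, r2, hr2, rfl⟩ := hdec b
      rw [hcomm e1 he1 r1 hr1 e2 he2 r2 hr2]
      have hmem : (⟨e1, he1⟩ : E) * ⟨e2, he2⟩ * (⟨e1, he1⟩ : E)⁻¹ * (⟨e2, he2⟩ : E)⁻¹ ∈ commutator E := by
        rw [commutator_def]
        have := Subgroup.commutator_mem_commutator (Subgroup.mem_top (⟨e1, he1⟩ : E))
          (Subgroup.mem_top (⟨e2, he2⟩ : E))
        rwa [commutatorElement_def] at this
      rw [hcomE] at hmem
      rcases hall ⟨_, hmem⟩ with h | h
      · left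
        have := congrArg (fun y : Subgroup.center E => ((y : E) : T)) h
        simpa using this
      · right
        have := congrArg (fun y : Subgroup.center E => ((y : E) : T)) h
        simpa using this

/-- a `2`-group of symplectic type has at most one central involution -/
theorem central_invol_unique [Finite T] (hT : IsPGroup 2 T)
    (hsymp : ∀ A : Subgroup T, A.Characteristic → IsMulCommutative A → IsCyclic A)
    {u v : T} (hu : ∀ x : T, x * u = u * x) (hv : ∀ x : T, x * v = v * x)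
    (hu2 : u ^ 2 = 1) (hv2 : v ^ 2 = 1) (hu1 : u ≠ 1) (hv1 : v ≠ 1) : u = v := by
  haveI : Fact (Nat.Prime 2) := ⟨Nat.prime_two⟩
  have hZc : IsCyclic (Subgroup.center T) :=
    hsymp _ inferInstance ⟨⟨fun a b => Subtype.ext (by
      simpa using (Subgroup.mem_center_iff.mp a.2 (b : T)).symm)⟩⟩
  obtain ⟨w, hw⟩ := hZc.exists_generator
  obtain ⟨k, hk⟩ := (hT.to_subgroup (Subgroup.center T)).exists_card_eq
  have hwo : orderOf (w : T) = 2 ^ k := by
    rw [Subgroup.orderOf_coe, orderOf_eq_card_of_forall_mem_zpowers hw, hk]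
  have hmem : ∀ y : T, (∀ x : T, x * y = y * x) → y ∈ Subgroup.zpowers (w : T) := by
    intro y hy
    have hyZ : y ∈ Subgroup.center T := Subgroup.mem_center_iff.mpr hy
    obtain ⟨n, hn⟩ := Subgroup.mem_zpowers_iff.mp (hw ⟨y, hyZ⟩)
    refine Subgroup.mem_zpowers_iff.mpr ⟨n, ?_⟩
    have := congrArg Subtype.val hn
    simpa using this
  have hk1 : 1 ≤ k := by
    by_contra h
    have hk0 : k = 0 := by omega
    rw [hk0, pow_zero, orderOf_eq_one_iff] at hwo
    have := hmem u hu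
    rw [hwo, Subgroup.zpowers_one_eq_bot, Subgroup.mem_bot] at this
    exact hu1 this
  rcases Cfsg.Agent.helper7.Cyc2.invol_of_mem_zpowers k hk1 hwo (hmem u hu) hu2 with h | h
  · exact absurd h hu1
  · rcases Cfsg.Agent.helper7.Cyc2.invol_of_mem_zpowers k hk1 hwo (hmem v hv) hv2 with h' | h'
    · exact absurd h' hv1
    · rw [h, h']

end Cfsg.Agent.helper7.Sy
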