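import Mathlib
import Cfsg.Agent.Lib_helper7_Gen4

/-!
# Fusion of a conjugate of `z` inside a symplectic-type `F*(C_G(z))` (helper7), for S1774

Abstract setting: `Q ≤ H = C_G(z)` a normal self-centralising `2`-subgroup of `H` whose commutators
lie in `{1, z}` and whose only central involution is `z`.  Part 1: elementary lemmas.
-/

set_option autoImplicit false

namespace Cfsg.Agent.helper7.Sy

open Subgroup

variable {G : Type*} [Group G]

structure Hyp (z : G) (Q : Subgroup G) : Prop where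
  hz2 : z ^ 2 = 1
  hz1 : z ≠ 1
  hQH : Q ≤ Subgroup.centralizer {z}
  hnorm : Subgroup.centralizer {z} ≤ Subgroup.normalizer (Q : Set G)
  hself : Subgroup.centralizer {z} ⊓ Subgroup.centralizer (Q : Set G) ≤ Q
  hQ2 : IsPGroup 2 Q
  hcomm : ∀ a ∈ Q, ∀ b ∈ Q, a * b * a⁻¹ * b⁻¹ = 1 ∨ a * b * a⁻¹ * b⁻¹ = z
  huniq : ∀ s ∈ Q, s ^ 2 = 1 → s ≠ 1 → (∀ q ∈ Q, q * s = s * q) → s = z

namespace Hyp

variable {z : G} {Q : Subgroup G}

theorem comm_z (h : Hyp z Q) {q : G} (hq : q ∈ Q) : q * z = z * q :=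
  Subgroup.mem_centralizer_singleton_iff.mp (h.hQH hq)

theorem z_mem (h : Hyp z Q) : z ∈ Q := by
  apply h.hself
  refine ⟨Subgroup.mem_centralizer_singleton_iff.mpr rfl, ?_⟩
  show z ∈ Subgroup.centralizer (Q : Set G)
  rw [Subgroup.mem_centralizer_iff]
  intro q hq
  exact h.comm_z hq

theorem zz (h : Hyp z Q) : z * z = 1 := by rw [← pow_two]; exact h.hz2

theorem z_inv (h : Hyp z Q) : z⁻¹ = z := inv_eq_of_mul_eq_one_right h.zz

/-- conjugation by an element of `H` preserves `Q` -/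
theorem conj_mem (h : Hyp z Q) {x : G} (hx : x * z = z * x) {q : G} (hq : q ∈ Q) :
    x * q * x⁻¹ ∈ Q := by
  have hxN := h.hnorm (Subgroup.mem_centralizer_singleton_iff.mpr hx)
  exact (Subgroup.mem_normalizer_iff.mp hxN q).mp hq

/-- an element of `H` centralising `Q` is a central element of `Q` -/
theorem mem_of_centralizes (h : Hyp z Q) {x : G} (hx : x * z = z * x)
    (hc : ∀ q ∈ Q, q * x = x * q) : x ∈ Q := by
  apply h.hself
  refine ⟨Subgroup.mem_centralizer_singleton_iff.mpr hx, ?_⟩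
  show x ∈ Subgroup.centralizer (Q : Set G)
  rw [Subgroup.mem_centralizer_iff]
  intro q hq
  exact hc q hq

/-- a non-central involution `s ≠ z` of `Q` is conjugate to `s z` in `Q` -/
theorem exists_flip (h : Hyp z Q) {s : G} (hs : s ∈ Q) (hs2 : s ^ 2 = 1) (hs1 : s ≠ 1)
    (hsz : s ≠ z) : ∃ q ∈ Q, q * s * q⁻¹ = s * z := by
  by_contra hcon
  push Not at hcon
  apply hsz
  apply h.huniq s hs hs2 hs1
  intro q hq
  rcases h.hcomm q hq s hs with h1 | h1
  · calc q * s = (q * s * q⁻¹ * s⁻¹) * (s * q) := by group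
      _ = s * q := by rw [h1, one_mul]
  · exfalso
    apply hcon q hq
    calc q * s * q⁻¹ = (q * s * q⁻¹ * s⁻¹) * s := by group
      _ = z * s := by rw [h1]
      _ = s * z := (h.comm_z hs).symm

end Hyp

/-- a Sylow `2`-subgroup of `K` containing a given `2`-subgroup, as a subgroup of `G` -/
theorem exists_sylow_ge [Finite G] (K P : Subgroup G) (hP : IsPGroup 2 P) (hPK : P ≤ K) :
    ∃ S : Subgroup G, P ≤ S ∧ S ≤ K ∧ IsPGroup 2 S ∧
      Nat.card S = 2 ^ (Nat.card K).factorization 2 ∧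
      ∀ S' : Subgroup G, S' ≤ K → IsPGroup 2 S' → S ≤ S' → S' = S := by
  haveI : Fact (Nat.Prime 2) := ⟨Nat.prime_two⟩
  have hP' : IsPGroup 2 (P.subgroupOf K) := hP.comap_subtype
  obtain ⟨S₀, hS₀⟩ := hP'.exists_le_sylow
  have hcard : Nat.card ((S₀ : Subgroup K).map K.subtype) = 2 ^ (Nat.card K).factorization 2 := by
    rw [Subgroup.card_map_of_injective K.subtype_injective]
    exact S₀.card_eq_multiplicity
  refine ⟨(S₀ : Subgroup K).map K.subtype, ?_, Subgroup.map_subtype_le _, S₀.2.map _, hcard, ?_⟩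
  · intro x hx
    exact ⟨⟨x, hPK hx⟩, hS₀ (by rw [Subgroup.mem_subgroupOf]; exact hx), rfl⟩
  · intro S' hS'K hS'2 hle
    symm
    apply Subgroup.eq_of_le_of_card_ge hle
    rw [hcard]
    obtain ⟨j, hj⟩ := hS'2.exists_card_eq
    rw [hj]
    apply Nat.pow_le_pow_right (by norm_num)
    have hdvd : 2 ^ j ∣ Nat.card K := by
      rw [← hj]
      exact Subgroup.card_dvd_of_le hS'K
    exact (Nat.Prime.pow_dvd_iff_le_factorization Nat.prime_two Nat.card_pos.ne').mp hdvd

theorem card_centralizer_conj (g z : G) :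
    Nat.card (Subgroup.centralizer ({g * z * g⁻¹} : Set G)) =
      Nat.card (Subgroup.centralizer ({z} : Set G)) := by
  apply Nat.card_congr
  refine
    { toFun := fun y => ⟨g⁻¹ * y * g, ?_⟩
      invFun := fun x => ⟨g * x * g⁻¹, ?_⟩
      left_inv := ?_
      right_inv := ?_ }
  · have hy := Subgroup.mem_centralizer_singleton_iff.mp y.2
    rw [Subgroup.mem_centralizer_singleton_iff]
    calc g⁻¹ * y * g * z = g⁻¹ * ((y : G) * (g * z * g⁻¹)) * g := by group
      _ = g⁻¹ * ((g * z * g⁻¹) * y) * g := by rw [hy]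
      _ = z * (g⁻¹ * y * g) := by group
  · have hx := Subgroup.mem_centralizer_singleton_iff.mp x.2
    rw [Subgroup.mem_centralizer_singleton_iff]
    calc g * x * g⁻¹ * (g * z * g⁻¹) = g * ((x : G) * z) * g⁻¹ := by group
      _ = g * (z * x) * g⁻¹ := by rw [hx]
      _ = g * z * g⁻¹ * (g * x * g⁻¹) := by group
  · intro y
    apply Subtype.ext
    show g * (g⁻¹ * (y : G) * g) * g⁻¹ = y
    group
  · intro x
    apply Subtype.ext
    show g⁻¹ * (g * (x : G) * g⁻¹) * g = x
    group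

end Cfsg.Agent.helper7.Sy
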