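import Mathlib
import Cfsg.Agent.Lib_helper7_Sy2

/-!
# Fusion inside a symplectic-type `F*(C_G(z))` (helper7), part 3: involutions centralising `C_Q(t)`
-/

set_option autoImplicit false

namespace Cfsg.Agent.helper7.Sy

open Subgroup

variable {G : Type*} [Group G] {z : G} {Q : Subgroup G}

/-- an involution of `C_G(z)` centralising `C_Q(t)` lies in `⟨z, t⟩` -/
theorem invol_mem_V (h : Hyp z Q) {t q0 x : G} (ht : t ∈ Q) (ht2 : t ^ 2 = 1)
    (hq0 : q0 ∈ Q) (hq0t : q0 * t * q0⁻¹ = t * z)
    (hxz : x * z = z * x) (hx2 : x ^ 2 = 1)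
    (hxR : ∀ r ∈ Q, r * t = t * r → x * r = r * x) :
    x = 1 ∨ x = z ∨ x = t ∨ x = z * t := by
  have hzz := h.zz
  have htt : t * t = 1 := by rw [← pow_two]; exact ht2
  have hxx : x * x = 1 := by rw [← pow_two]; exact hx2
  have hzq0 : q0 * z = z * q0 := h.comm_z hq0
  have hzt : t * z = z * t := h.comm_z ht
  have hq0i : q0⁻¹ ∈ Q := inv_mem hq0
  have hzq0i : q0⁻¹ * z = z * q0⁻¹ := h.comm_z hq0i
  have e1 : q0 * t = t * z * q0 := by
    calc q0 * t = (q0 * t * q0⁻¹) * q0 := by group
      _ = t * z * q0 := by rw [hq0t]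
  have e2 : t * q0 = q0 * t * z := by
    calc t * q0 = t * q0 * (z * z) := by rw [hzz, mul_one]
      _ = t * (q0 * z) * z := by group
      _ = t * (z * q0) * z := by rw [hzq0]
      _ = (t * z * q0) * z := by group
      _ = q0 * t * z := by rw [← e1]
  have e3 : q0⁻¹ * t = t * z * q0⁻¹ := by
    calc q0⁻¹ * t = q0⁻¹ * (t * q0) * q0⁻¹ := by group
      _ = q0⁻¹ * (q0 * t * z) * q0⁻¹ := by rw [e2]
      _ = t * (z * q0⁻¹) := by group
      _ = t * (q0⁻¹ * z) := by rw [hzq0i]
      _ = t * (z * q0⁻¹) := by rw [hzq0i]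
      _ = t * z * q0⁻¹ := by group
  -- coset decomposition
  have hcos : ∀ q ∈ Q, q * t = t * q ∨ (q0⁻¹ * q) * t = t * (q0⁻¹ * q) := by
    intro q hq
    rcases h.hcomm q hq t ht with h1 | h1
    · left
      calc q * t = (q * t * q⁻¹ * t⁻¹) * (t * q) := by group
        _ = t * q := by rw [h1, one_mul]
    · right
      have h2 : q * t = z * t * q := by
        calc q * t = (q * t * q⁻¹ * t⁻¹) * (t * q) := by group
          _ = z * t * q := by rw [h1]; group
      calc q0⁻¹ * q * t = q0⁻¹ * (q * t) := by group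
        _ = q0⁻¹ * (z * t * q) := by rw [h2]
        _ = (q0⁻¹ * z) * t * q := by group
        _ = (z * q0⁻¹) * t * q := by rw [hzq0i]
        _ = z * (q0⁻¹ * t) * q := by group
        _ = z * (t * z * q0⁻¹) * q := by rw [e3]
        _ = (z * t) * z * q0⁻¹ * q := by group
        _ = (t * z) * z * q0⁻¹ * q := by rw [hzt]
        _ = t * (z * z) * q0⁻¹ * q := by group
        _ = t * (q0⁻¹ * q) := by rw [hzz]; group
  set c := q0⁻¹ * (x * q0 * x⁻¹) with hc
  have hcQ : c ∈ Q := mul_mem hq0i (h.conj_mem hxz hq0)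
  have hxq0 : x * q0 * x⁻¹ = q0 * c := by rw [hc]; group
  -- (i) c centralises C_Q(t)
  have hcR : ∀ r ∈ Q, r * t = t * r → c * r = r * c := by
    intro r hr hrt
    have hr'Q : q0 * r * q0⁻¹ ∈ Q := mul_mem (mul_mem hq0 hr) hq0i
    have hzr : r * z = z * r := h.comm_z hr
    have hr't : (q0 * r * q0⁻¹) * t = t * (q0 * r * q0⁻¹) := by
      calc q0 * r * q0⁻¹ * t = q0 * r * (q0⁻¹ * t) := by group
        _ = q0 * r * (t * z * q0⁻¹) := by rw [e3]
        _ = q0 * (r * t) * z * q0⁻¹ := by group
        _ = q0 * (t * r) * z * q0⁻¹ := by rw [hrt]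
        _ = (q0 * t) * (r * z) * q0⁻¹ := by group
        _ = (t * z * q0) * (z * r) * q0⁻¹ := by rw [e1, hzr]
        _ = t * z * (q0 * z) * r * q0⁻¹ := by group
        _ = t * z * (z * q0) * r * q0⁻¹ := by rw [hzq0]
        _ = t * (z * z) * (q0 * r * q0⁻¹) := by group
        _ = t * (q0 * r * q0⁻¹) := by rw [hzz, mul_one]
    have hx1 := hxR r hr hrt
    have hx2' := hxR _ hr'Q hr't
    have h3 : (q0 * c) * r * (q0 * c)⁻¹ = q0 * r * q0⁻¹ := by
      calc (q0 * c) * r * (q0 * c)⁻¹ = (x * q0 * x⁻¹) * r * (x * q0 * x⁻¹)⁻¹ := by rw [hxq0]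
        _ = x * q0 * (x⁻¹ * r * x) * q0⁻¹ * x⁻¹ := by group
        _ = x * q0 * (x⁻¹ * (r * x)) * q0⁻¹ * x⁻¹ := by group
        _ = x * q0 * (x⁻¹ * (x * r)) * q0⁻¹ * x⁻¹ := by rw [hx1]
        _ = (x * (q0 * r * q0⁻¹)) * x⁻¹ := by group
        _ = ((q0 * r * q0⁻¹) * x) * x⁻¹ := by rw [hx2']
        _ = q0 * r * q0⁻¹ := by group
    calc c * r = q0⁻¹ * ((q0 * c) * r * (q0 * c)⁻¹) * q0 * c := by group
      _ = q0⁻¹ * (q0 * r * q0⁻¹) * q0 * c := by rw [h3]
      _ = r * c := by group
  have hct : c * t = t * c := hcR t ht rfl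
  have hxc : x * c = c * x := hxR c hcQ hct
  -- (iii) c² = 1
  have hcc : c * c = 1 := by
    have h1 : x * (x * q0 * x⁻¹) * x⁻¹ = q0 := by
      calc x * (x * q0 * x⁻¹) * x⁻¹ = (x * x) * q0 * (x * x)⁻¹ := by group
        _ = q0 := by rw [hxx]; group
    have h2 : x * (x * q0 * x⁻¹) * x⁻¹ = q0 * c * c := by
      calc x * (x * q0 * x⁻¹) * x⁻¹ = x * (q0 * c) * x⁻¹ := by rw [hxq0]
        _ = (x * q0 * x⁻¹) * (x * c) * x⁻¹ := by group
        _ = (q0 * c) * (c * x) * x⁻¹ := by rw [hxq0, hxc]
        _ = q0 * c * c := by group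
    rw [h1] at h2
    have : q0 * (c * c) = q0 * 1 := by rw [mul_one, ← mul_assoc]; exact h2.symm
    exact mul_left_cancel this
  have hci : c⁻¹ = c := inv_eq_of_mul_eq_one_right hcc
  -- (iv) c commutes with q0
  have hq0sq : (q0 * q0) * t = t * (q0 * q0) := by
    calc q0 * q0 * t = q0 * (q0 * t) := by group
      _ = q0 * (t * z * q0) := by rw [e1]
      _ = (q0 * t) * z * q0 := by group
      _ = (t * z * q0) * z * q0 := by rw [e1]
      _ = t * z * (q0 * z) * q0 := by group
      _ = t * z * (z * q0) * q0 := by rw [hzq0]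
      _ = t * (z * z) * (q0 * q0) := by group
      _ = t * (q0 * q0) := by rw [hzz, mul_one]
  have hxsq := hxR (q0 * q0) (mul_mem hq0 hq0) hq0sq
  have hcq0 : c * q0 = q0 * c := by
    have h1 : (q0 * c) * (q0 * c) = q0 * q0 := by
      calc (q0 * c) * (q0 * c) = (x * q0 * x⁻¹) * (x * q0 * x⁻¹) := by rw [hxq0]
        _ = (x * (q0 * q0)) * x⁻¹ := by group
        _ = ((q0 * q0) * x) * x⁻¹ := by rw [hxsq]
        _ = q0 * q0 := by group
    have h2 : c * q0 * c = q0 := by
      have : q0 * (c * q0 * c) = q0 * q0 := by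
        calc q0 * (c * q0 * c) = (q0 * c) * (q0 * c) := by group
          _ = q0 * q0 := h1
      exact mul_left_cancel this
    calc c * q0 = (c * q0 * c) * c⁻¹ := by group
      _ = q0 * c := by rw [h2, hci]
  -- (v) c is central in Q
  have hccent : ∀ q ∈ Q, q * c = c * q := by
    intro q hq
    rcases hcos q hq with h1 | h1
    · exact (hcR q hq h1).symm
    · have h2 := hcR _ (mul_mem hq0i hq) h1
      calc q * c = q0 * ((q0⁻¹ * q) * c) := by group
        _ = q0 * (c * (q0⁻¹ * q)) := by rw [h2]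
        _ = (q0 * c) * (q0⁻¹ * q) := by group
        _ = (c * q0) * (q0⁻¹ * q) := by rw [hcq0]
        _ = c * q := by group
  have hc1z : c = 1 ∨ c = z := by
    by_cases hc1 : c = 1
    · exact Or.inl hc1
    · exact Or.inr (h.huniq c hcQ (by rw [pow_two]; exact hcc) hc1 hccent)
  rcases hc1z with hc1 | hcz
  · -- x centralises Q
    have hxq0' : x * q0 = q0 * x := by
      calc x * q0 = (x * q0 * x⁻¹) * x := by group
        _ = q0 * x := by rw [hxq0, hc1, mul_one]
    have hxcent : ∀ q ∈ Q, q * x = x * q := by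
      intro q hq
      rcases hcos q hq with h1 | h1
      · exact (hxR q hq h1).symm
      · have h2 := hxR _ (mul_mem hq0i hq) h1
        calc q * x = q0 * ((q0⁻¹ * q) * x) := by group
          _ = q0 * (x * (q0⁻¹ * q)) := by rw [h2]
          _ = (q0 * x) * (q0⁻¹ * q) := by group
          _ = (x * q0) * (q0⁻¹ * q) := by rw [hxq0']
          _ = x * q := by group
    have hxQ := h.mem_of_centralizes hxz hxcent
    by_cases hx1 : x = 1
    · exact Or.inl hx1
    · exact Or.inr (Or.inl (h.huniq x hxQ hx2 hx1 hxcent))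
  · -- x t centralises Q
    have hxt : x * t = t * x := hxR t ht rfl
    have hxq0' : x * q0 = q0 * z * x := by
      calc x * q0 = (x * q0 * x⁻¹) * x := by group
        _ = q0 * z * x := by rw [hxq0, hcz]
    have hx'q0 : (x * t) * q0 = q0 * (x * t) := by
      calc x * t * q0 = x * (t * q0) := by group
        _ = x * (q0 * t * z) := by rw [e2]
        _ = (x * q0) * t * z := by group
        _ = (q0 * z * x) * t * z := by rw [hxq0']
        _ = q0 * (z * x) * (t * z) := by group
        _ = q0 * (x * z) * (z * t) := by rw [hxz, hzt]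
        _ = q0 * x * (z * z) * t := by group
        _ = q0 * (x * t) := by rw [hzz]; group
    have hx'cent : ∀ q ∈ Q, q * (x * t) = (x * t) * q := by
      intro q hq
      have hR : ∀ r ∈ Q, r * t = t * r → r * (x * t) = (x * t) * r := by
        intro r hr hrt
        have := hxR r hr hrt
        calc r * (x * t) = (r * x) * t := by group
          _ = (x * r) * t := by rw [this]
          _ = x * (r * t) := by group
          _ = x * (t * r) := by rw [hrt]
          _ = x * t * r := by group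
      rcases hcos q hq with h1 | h1
      · exact hR q hq h1
      · have h2 := hR _ (mul_mem hq0i hq) h1
        calc q * (x * t) = q0 * ((q0⁻¹ * q) * (x * t)) := by group
          _ = q0 * ((x * t) * (q0⁻¹ * q)) := by rw [h2]
          _ = (q0 * (x * t)) * (q0⁻¹ * q) := by group
          _ = ((x * t) * q0) * (q0⁻¹ * q) := by rw [hx'q0]
          _ = (x * t) * q := by group
    have hx'z : (x * t) * z = z * (x * t) := by
      calc x * t * z = x * (t * z) := by group
        _ = x * (z * t) := by rw [hzt]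
        _ = (x * z) * t := by group
        _ = (z * x) * t := by rw [hxz]
        _ = z * (x * t) := by group
    have hx'Q := h.mem_of_centralizes hx'z hx'cent
    have hx'2 : (x * t) ^ 2 = 1 := by
      rw [pow_two]
      calc x * t * (x * t) = x * (t * x) * t := by group
        _ = x * (x * t) * t := by rw [hxt]
        _ = (x * x) * (t * t) := by group
        _ = 1 := by rw [hxx, htt, mul_one]
    have hti : t⁻¹ = t := inv_eq_of_mul_eq_one_right htt
    by_cases hx'1 : x * t = 1
    · right; right; left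
      calc x = (x * t) * t⁻¹ := by group
        _ = t := by rw [hx'1, one_mul, hti]
    · right; right; right
      have := h.huniq _ hx'Q hx'2 hx'1 hx'cent
      calc x = (x * t) * t⁻¹ := by group
        _ = z * t := by rw [this, hti]

end Cfsg.Agent.helper7.Sy
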