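import Mathlib
import Cfsg.Agent.Lib_helper7_Sy3

/-!
# Fusion inside a symplectic-type `F*(C_G(z))` (helper7), part 4: the Sylow argument and the main
theorem in the abstract setting
-/

set_option autoImplicit false

namespace Cfsg.Agent.helper7.Sy

open Subgroup

variable {G : Type*} [Group G] {z : G} {Q : Subgroup G}

/-- an element centralising `t = g z g⁻¹` and moving `z` to `z t` -/
theorem exists_swap [Finite G] (h : Hyp z Q) {g : G} (hne : g * z * g⁻¹ ≠ z)
    (hin : g * z * g⁻¹ ∈ Q) :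
    ∃ y : G, y * (g * z * g⁻¹) = (g * z * g⁻¹) * y ∧ y * z * y⁻¹ = z * (g * z * g⁻¹) := by
  haveI : Fact (Nat.Prime 2) := ⟨Nat.prime_two⟩
  set t := g * z * g⁻¹ with htdef
  have ht2 : t ^ 2 = 1 := by rw [htdef, conj_pow, h.hz2]; group
  have ht1 : t ≠ 1 := by
    intro h1
    apply h.hz1
    have : z = g⁻¹ * t * g := by rw [htdef]; group
    rw [this, h1]; group
  have hzt : t * z = z * t := h.comm_z hin
  obtain ⟨q0, hq0, hq0t⟩ := h.exists_flip hin ht2 ht1 hne
  set H := Subgroup.centralizer ({z} : Set G) with hH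
  set H' := Subgroup.centralizer ({t} : Set G) with hH'
  have hR0C : Q ⊓ H' ≤ H ⊓ H' := inf_le_inf h.hQH le_rfl
  have hR02 : IsPGroup 2 (Q ⊓ H' : Subgroup G) := h.hQ2.to_le inf_le_left
  obtain ⟨S, hR0S, hSC, hS2, -, hSmax⟩ := exists_sylow_ge (H ⊓ H') (Q ⊓ H') hR02 hR0C
  have hSH : S ≤ H := hSC.trans inf_le_left
  have hSH' : S ≤ H' := hSC.trans inf_le_right
  have hSQ2 : IsPGroup 2 (S ⊔ Q : Subgroup G) :=
    IsPGroup.to_sup_of_normal_right' hS2 h.hQ2 (hSH.trans h.hnorm)
  obtain ⟨T, hSQT, -, -, hTcard, -⟩ := exists_sylow_ge H (S ⊔ Q) hSQ2 (sup_le hSH h.hQH)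
  obtain ⟨T', hST', hT'H', hT'2, hT'card, -⟩ := exists_sylow_ge H' S hS2 hSH'
  have hcardH : Nat.card H' = Nat.card H := card_centralizer_conj g z
  have hq0S : q0 ∉ S := by
    intro hq
    have h1 : q0 * t = t * q0 := Subgroup.mem_centralizer_singleton_iff.mp (hSH' hq)
    apply h.hz1
    have h2 : q0 * t * q0⁻¹ = t := by rw [h1]; group
    rw [h2] at hq0t
    exact (mul_eq_left.mp hq0t.symm)
  have hq0T : q0 ∈ T := hSQT (Subgroup.mem_sup_right hq0)
  have hST : S ≤ T := le_sup_left.trans hSQT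
  have hne' : S ≠ T' := by
    intro hEq
    apply hq0S
    have hc : Nat.card T ≤ Nat.card S := by
      rw [hEq, hT'card, hTcard, hcardH]
    rw [Subgroup.eq_of_le_of_card_ge hST hc]
    exact hq0T
  obtain ⟨y, hyT', hyN, hyS⟩ := Cfsg.Agent.helper7.exists_mem_normalizer_not_mem hT'2 hST' hne'
  have hyt : y * t = t * y := Subgroup.mem_centralizer_singleton_iff.mp (hT'H' hyT')
  have hzS : z ∈ S := by
    apply hR0S
    refine ⟨h.z_mem, ?_⟩
    exact Subgroup.mem_centralizer_singleton_iff.mpr hzt.symm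
  have hxS : y * z * y⁻¹ ∈ S := (Subgroup.mem_normalizer_iff.mp hyN z).mp hzS
  have hxz : (y * z * y⁻¹) * z = z * (y * z * y⁻¹) :=
    Subgroup.mem_centralizer_singleton_iff.mp (hSH hxS)
  have hx2 : (y * z * y⁻¹) ^ 2 = 1 := by rw [conj_pow, h.hz2]; group
  have hxR : ∀ r ∈ Q, r * t = t * r → (y * z * y⁻¹) * r = r * (y * z * y⁻¹) := by
    intro r hr hrt
    have hrS : r ∈ S := hR0S ⟨hr, Subgroup.mem_centralizer_singleton_iff.mpr hrt⟩
    have h1 : y⁻¹ * r * y ∈ S := by
      apply (Subgroup.mem_normalizer_iff.mp hyN _).mpr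
      have : y * (y⁻¹ * r * y) * y⁻¹ = r := by group
      rw [this]; exact hrS
    have h2 : (y⁻¹ * r * y) * z = z * (y⁻¹ * r * y) :=
      Subgroup.mem_centralizer_singleton_iff.mp (hSH h1)
    calc y * z * y⁻¹ * r = y * (z * (y⁻¹ * r * y)) * y⁻¹ := by group
      _ = y * ((y⁻¹ * r * y) * z) * y⁻¹ := by rw [h2]
      _ = r * (y * z * y⁻¹) := by group
  rcases invol_mem_V h hin ht2 hq0 hq0t hxz hx2 hxR with hx | hx | hx | hx
  · exfalso
    apply h.hz1
    have : z = y⁻¹ * (y * z * y⁻¹) * y := by group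
    rw [this, hx]; group
  · exfalso
    apply hyS
    have hyz : y * z = z * y := by
      calc y * z = (y * z * y⁻¹) * y := by group
        _ = z * y := by rw [hx]
    have hyH : y ∈ H := Subgroup.mem_centralizer_singleton_iff.mpr hyz
    have h1 : T' ⊓ H = S := by
      apply hSmax
      · exact le_inf inf_le_right (inf_le_left.trans hT'H')
      · exact hT'2.to_le inf_le_left
      · exact le_inf hST' hSH
    rw [← h1]
    exact ⟨hyT', hyH⟩
  · exfalso
    apply hne
    have h1 : y * z * y⁻¹ = y * t * y⁻¹ := by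
      rw [hx, hyt]; group
    have h2 : z = y⁻¹ * (y * z * y⁻¹) * y := by group
    rw [h2, h1]; group
  · exact ⟨y, hyt, hx⟩

/-- elements of the group generated by two commuting involutions -/
theorem mem_closure_pair {z t : G} (hz : z * z = 1) (ht : t * t = 1) (hzt : t * z = z * t)
    {u : G} (hu : u ∈ Subgroup.closure ({z, t} : Set G)) :
    u = 1 ∨ u = z ∨ u = t ∨ u = z * t := by
  have hzi : z⁻¹ = z := inv_eq_of_mul_eq_one_right hz
  have hti : t⁻¹ = t := inv_eq_of_mul_eq_one_right ht
  have h1 : z * t * z = t := by rw [← hzt, mul_assoc, hz, mul_one]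
  have h2 : z * t * t = z := by rw [mul_assoc, ht, mul_one]
  have h3 : z * (z * t) = t := by rw [← mul_assoc, hz, one_mul]
  have h4 : t * (z * t) = z := by rw [← mul_assoc, hzt, mul_assoc, ht, mul_one]
  have h5 : z * t * (z * t) = 1 := by rw [← mul_assoc, h1, ht]
  induction hu using Subgroup.closure_induction with
  | mem y hy =>
    rcases hy with rfl | hy
    · right; left; rfl
    · rw [Set.mem_singleton_iff] at hy
      right; right; left; exact hy
  | one => left; rfl
  | mul a b _ _ iha ihb =>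
    rcases iha with rfl | rfl | rfl | rfl <;> rcases ihb with rfl | rfl | rfl | rfl
    all_goals first
      | (left; simp [hz, ht, h5]; done)
      | (right; left; simp [hz, ht, h2, h4]; done)
      | (right; right; left; simp [hz, ht, hzt, h1, h3]; done)
      | (right; right; right; simp [hzt]; done)
  | inv a _ iha =>
    rcases iha with rfl | rfl | rfl | rfl
    · left; simp
    · right; left; exact hzi
    · right; right; left; exact hti
    · right; right; right
      rw [mul_inv_rev, hzi, hti, hzt]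

end Cfsg.Agent.helper7.Sy
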