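import Mathlib
import Cfsg.Agent.Lib_helper7_Sy4

/-!
# Fusion inside a symplectic-type `F*(C_G(z))` (helper7), part 5: the main theorem (abstract form)
-/

set_option autoImplicit false

namespace Cfsg.Agent.helper7.Sy

open Subgroup

variable {G : Type*} [Group G] {z : G} {Q : Subgroup G}

theorem main [Finite G] (h : Hyp z Q) (g : G) (hne : g * z * g⁻¹ ≠ z)
    (hin : g * z * g⁻¹ ∈ Q) :
    z ∈ Q.map (MulAut.conj g).toMonoidHom ∧
      ∀ u ∈ Subgroup.closure ({z, g * z * g⁻¹} : Set G),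
        ∀ v ∈ Subgroup.closure ({z, g * z * g⁻¹} : Set G), u ≠ 1 → v ≠ 1 → u ≠ v →
          ∃ x ∈ Q ⊔ Q.map (MulAut.conj g).toMonoidHom,
            x * z * x⁻¹ = u ∧ x * (g * z * g⁻¹) * x⁻¹ = v := by
  obtain ⟨y, hyt, hyz⟩ := exists_swap h hne hin
  set t := g * z * g⁻¹ with htdef
  have hzz := h.zz
  have ht2 : t ^ 2 = 1 := by rw [htdef, conj_pow, h.hz2]; group
  have htt : t * t = 1 := by rw [← pow_two]; exact ht2
  have ht1 : t ≠ 1 := by
    intro h1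
    apply h.hz1
    have : z = g⁻¹ * t * g := by rw [htdef]; group
    rw [this, h1]; group
  have hzt : t * z = z * t := h.comm_z hin
  obtain ⟨q0, hq0, hq0t⟩ := h.exists_flip hin ht2 ht1 hne
  have hq0z : q0 * z * q0⁻¹ = z := by rw [h.comm_z hq0]; group
  have hq0t' : q0 * t * q0⁻¹ = z * t := by rw [hq0t, hzt]
  -- w = y q0 maps t to z and z to z t
  have hwt : (y * q0) * t * (y * q0)⁻¹ = z := by
    calc (y * q0) * t * (y * q0)⁻¹ = y * (q0 * t * q0⁻¹) * y⁻¹ := by group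
      _ = y * (t * z) * y⁻¹ := by rw [hq0t]
      _ = (y * t) * y⁻¹ * (y * z * y⁻¹) := by group
      _ = (t * y) * y⁻¹ * (z * t) := by rw [hyt, hyz]
      _ = t * (z * t) := by group
      _ = t * (t * z) := by rw [hzt]
      _ = z := by rw [← mul_assoc, htt, one_mul]
  have hwz : (y * q0) * z * (y * q0)⁻¹ = z * t := by
    calc (y * q0) * z * (y * q0)⁻¹ = y * (q0 * z * q0⁻¹) * y⁻¹ := by group
      _ = z * t := by rw [hq0z, hyz]
  have hwgz : (y * q0 * g) * z = z * (y * q0 * g) := by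
    calc (y * q0 * g) * z = ((y * q0) * t * (y * q0)⁻¹) * (y * q0 * g) := by rw [htdef]; group
      _ = z * (y * q0 * g) := by rw [hwt]
  have hwgiz : (y * q0 * g)⁻¹ * z = z * (y * q0 * g)⁻¹ := by
    calc (y * q0 * g)⁻¹ * z = (y * q0 * g)⁻¹ * (z * (y * q0 * g)) * (y * q0 * g)⁻¹ := by group
      _ = (y * q0 * g)⁻¹ * ((y * q0 * g) * z) * (y * q0 * g)⁻¹ := by rw [hwgz]
      _ = z * (y * q0 * g)⁻¹ := by group
  -- s = g⁻¹ z g lies in Q
  have hsQ : g⁻¹ * z * g ∈ Q := by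
    have h1 : g⁻¹ * z * g = (y * q0 * g)⁻¹ * ((y * q0) * z * (y * q0)⁻¹) * (y * q0 * g)⁻¹⁻¹ := by
      group
    rw [h1, hwz]
    exact h.conj_mem hwgiz (mul_mem h.z_mem hin)
  have hzP : z ∈ Q.map (MulAut.conj g).toMonoidHom := by
    refine ⟨g⁻¹ * z * g, hsQ, ?_⟩
    show (MulAut.conj g) (g⁻¹ * z * g) = z
    rw [MulAut.conj_apply]; group
  refine ⟨hzP, ?_⟩
  -- the element p of P
  have hs2 : (g⁻¹ * z * g) ^ 2 = 1 := by
    have := conj_pow (a := g⁻¹) (b := z) (i := 2)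
    rw [inv_inv] at this
    rw [this, h.hz2]; group
  have hs1 : g⁻¹ * z * g ≠ 1 := by
    intro h1
    apply h.hz1
    have : z = g * (g⁻¹ * z * g) * g⁻¹ := by group
    rw [this, h1]; group
  have hsz : g⁻¹ * z * g ≠ z := by
    intro h1
    apply hne
    have : z = g * (g⁻¹ * z * g) * g⁻¹ := by group
    rw [htdef]
    nth_rewrite 2 [this]
    rw [h1]
  obtain ⟨q1, hq1, hq1s⟩ := h.exists_flip hsQ hs2 hs1 hsz
  have hpP : g * q1 * g⁻¹ ∈ Q.map (MulAut.conj g).toMonoidHom :=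
    ⟨q1, hq1, by show (MulAut.conj g) q1 = _; rw [MulAut.conj_apply]⟩
  have hpz : (g * q1 * g⁻¹) * z * (g * q1 * g⁻¹)⁻¹ = z * t := by
    calc (g * q1 * g⁻¹) * z * (g * q1 * g⁻¹)⁻¹ = g * (q1 * (g⁻¹ * z * g) * q1⁻¹) * g⁻¹ := by group
      _ = g * ((g⁻¹ * z * g) * z) * g⁻¹ := by rw [hq1s]
      _ = z * (g * z * g⁻¹) := by group
  have hpt : (g * q1 * g⁻¹) * t * (g * q1 * g⁻¹)⁻¹ = t := by
    calc (g * q1 * g⁻¹) * t * (g * q1 * g⁻¹)⁻¹ = g * (q1 * z * q1⁻¹) * g⁻¹ := by rw [htdef]; group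
      _ = g * z * g⁻¹ := by rw [h.comm_z hq1]; group
  set p := g * q1 * g⁻¹ with hpdef
  have hq0X : q0 ∈ Q ⊔ Q.map (MulAut.conj g).toMonoidHom := Subgroup.mem_sup_left hq0
  have hpX : p ∈ Q ⊔ Q.map (MulAut.conj g).toMonoidHom := Subgroup.mem_sup_right hpP
  -- actions on z t
  have hq0zt : q0 * (z * t) * q0⁻¹ = t := by
    calc q0 * (z * t) * q0⁻¹ = (q0 * z * q0⁻¹) * (q0 * t * q0⁻¹) := by group
      _ = z * (z * t) := by rw [hq0z, hq0t']
      _ = t := by rw [← mul_assoc, hzz, one_mul]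
  have hpzt : p * (z * t) * p⁻¹ = z := by
    calc p * (z * t) * p⁻¹ = (p * z * p⁻¹) * (p * t * p⁻¹) := by group
      _ = z * t * t := by rw [hpz, hpt]
      _ = z := by rw [mul_assoc, htt, mul_one]
  have hconj : ∀ a b c : G, (a * b) * c * (a * b)⁻¹ = a * (b * c * b⁻¹) * a⁻¹ := by
    intro a b c; group
  intro u hu v hv hu1 hv1 huv
  have hu' := mem_closure_pair hzz htt hzt hu
  have hv' := mem_closure_pair hzz htt hzt hv
  rcases hu' with rfl | rfl | rfl | rfl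
  · exact absurd rfl hu1
  · rcases hv' with rfl | rfl | rfl | rfl
    · exact absurd rfl hv1
    · exact absurd rfl huv
    · exact ⟨1, one_mem _, by group, by group⟩
    · exact ⟨q0, hq0X, hq0z, hq0t'⟩
  · rcases hv' with rfl | rfl | rfl | rfl
    · exact absurd rfl hv1
    · -- (t, z): q0 * (p * q0)
      refine ⟨q0 * (p * q0), mul_mem hq0X (mul_mem hpX hq0X), ?_, ?_⟩
      · rw [hconj, hconj, hq0z, hpz, hq0zt]
      · rw [hconj, hconj, hq0t', hpzt, hq0z]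
    · exact absurd rfl huv
    · -- (t, z t): q0 * p
      refine ⟨q0 * p, mul_mem hq0X hpX, ?_, ?_⟩
      · rw [hconj, hpz, hq0zt]
      · rw [hconj, hpt, hq0t']
  · rcases hv' with rfl | rfl | rfl | rfl
    · exact absurd rfl hv1
    · -- (z t, z): p * q0
      refine ⟨p * q0, mul_mem hpX hq0X, ?_, ?_⟩
      · rw [hconj, hq0z, hpz]
      · rw [hconj, hq0t', hpzt]
    · exact ⟨p, hpX, hpz, hpt⟩
    · exact absurd rfl huv

end Cfsg.Agent.helper7.Sy
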