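import Mathlib
import Cfsg.Agent.Lib_helper7_Sy1
import Cfsg.Agent.Lib_helper7_Sy5
import Cfsg.Agent.Lib_helper7_FStar
import Cfsg.Prelude.Def_ClassificationK

/-!
# Fusion inside a symplectic-type `F*(C_G(z))` (helper7), part 6: the concrete setting
-/

set_option autoImplicit false

namespace Cfsg.Agent.helper7.Sy

open Subgroup

variable {G : Type*} [Group G]

theorem hyp_of_symplectic [Finite G] (z : G) (hz : orderOf z = 2)
    (hQ : Cfsg.IsOfSymplecticType
      ↥(Cfsg.generalizedFittingSubgroup ↥(Subgroup.centralizer ({z} : Set G))))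
    (h4 : ∀ q ∈ (Cfsg.generalizedFittingSubgroup ↥(Subgroup.centralizer ({z} : Set G))).map
      (Subgroup.centralizer ({z} : Set G)).subtype, q ^ 4 = 1) :
    Hyp z ((Cfsg.generalizedFittingSubgroup ↥(Subgroup.centralizer ({z} : Set G))).map
      (Subgroup.centralizer ({z} : Set G)).subtype) := by
  set H := Subgroup.centralizer ({z} : Set G) with hH
  set F := Cfsg.generalizedFittingSubgroup ↥H with hF
  have hQeq : F.map H.subtype = Cfsg.Agent.helper7.fstarOf H :=
    Cfsg.Agent.helper7.map_generalizedFittingSubgroup_eq H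
  have hz2 : z ^ 2 = 1 := by rw [← hz]; exact pow_orderOf_eq_one z
  have hz1 : z ≠ 1 := by
    intro h
    rw [h, orderOf_one] at hz
    omega
  have hQH : F.map H.subtype ≤ H := Subgroup.map_subtype_le _
  have hself : H ⊓ Subgroup.centralizer ((F.map H.subtype : Subgroup G) : Set G) ≤ F.map H.subtype := by
    rw [hQeq]
    exact Cfsg.Agent.helper7.centralizer_fstarOf_le H
  have hcz : ∀ q ∈ F.map H.subtype, q * z = z * q := fun q hq =>
    Subgroup.mem_centralizer_singleton_iff.mp (hQH hq)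
  have hzQ : z ∈ F.map H.subtype := by
    apply hself
    refine ⟨Subgroup.mem_centralizer_singleton_iff.mpr rfl, ?_⟩
    show z ∈ Subgroup.centralizer ((F.map H.subtype : Subgroup G) : Set G)
    rw [Subgroup.mem_centralizer_iff]
    intro q hq
    exact hcz q hq
  -- the embedding
  set ι : ↥F →* G := H.subtype.comp F.subtype with hι
  have hιinj : Function.Injective ι := by
    intro a b hab
    apply Subtype.ext
    apply Subtype.ext
    exact hab
  have hmemQ : ∀ q : G, q ∈ F.map H.subtype ↔ ∃ x : ↥F, ι x = q := by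
    intro q
    constructor
    · rintro ⟨x, hx, rfl⟩
      exact ⟨⟨x, hx⟩, rfl⟩
    · rintro ⟨x, rfl⟩
      exact ⟨(x : ↥H), x.2, rfl⟩
  obtain ⟨zF, hzF⟩ := (hmemQ z).mp hzQ
  have hT2 : IsPGroup 2 ↥F := hQ.1
  have h4' : ∀ x : ↥F, x ^ 4 = 1 := by
    intro x
    apply hιinj
    rw [map_pow, map_one]
    exact h4 _ ((hmemQ _).mpr ⟨x, rfl⟩)
  obtain ⟨c, hcc, hc2, hcomm⟩ := comm_structure hT2 hQ.2 h4'
  have hzFc : ∀ x : ↥F, x * zF = zF * x := by
    intro x
    apply hιinj
    rw [map_mul, map_mul, hzF]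
    exact hcz _ ((hmemQ _).mpr ⟨x, rfl⟩)
  have hzF2 : zF ^ 2 = 1 := by
    apply hιinj
    rw [map_pow, map_one, hzF, hz2]
  have hzF1 : zF ≠ 1 := by
    intro h
    apply hz1
    rw [← hzF, h, map_one]
  have hcomm' : ∀ a b : ↥F, a * b * a⁻¹ * b⁻¹ = 1 ∨ a * b * a⁻¹ * b⁻¹ = zF := by
    intro a b
    by_cases hc1 : c = 1
    · rcases hcomm a b with h | h
      · exact Or.inl h
      · left; rw [h, hc1]
    · have : c = zF := central_invol_unique hT2 hQ.2 hcc hzFc hc2 hzF2 hc1 hzF1
      rw [← this]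
      exact hcomm a b
  refine
    { hz2 := hz2
      hz1 := hz1
      hQH := hQH
      hnorm := ?_
      hself := hself
      hQ2 := hT2.map _
      hcomm := ?_
      huniq := ?_ }
  · rw [hQeq]
    exact Cfsg.Agent.helper7.fstarOf_normal H
  · intro a ha b hb
    obtain ⟨a', rfl⟩ := (hmemQ a).mp ha
    obtain ⟨b', rfl⟩ := (hmemQ b).mp hb
    rcases hcomm' a' b' with h | h
    · left
      rw [← map_inv, ← map_inv, ← map_mul, ← map_mul, ← map_mul, h, map_one]
    · right
      rw [← map_inv, ← map_inv, ← map_mul, ← map_mul, ← map_mul, h, hzF]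
  · intro s hs hs2 hs1 hsc
    obtain ⟨s', rfl⟩ := (hmemQ s).mp hs
    have h1 : ∀ x : ↥F, x * s' = s' * x := by
      intro x
      apply hιinj
      rw [map_mul, map_mul]
      exact hsc _ ((hmemQ _).mpr ⟨x, rfl⟩)
    have h2 : s' ^ 2 = 1 := by
      apply hιinj
      rw [map_pow, map_one]
      exact hs2
    have h3 : s' ≠ 1 := by
      intro h
      apply hs1
      rw [h, map_one]
    rw [central_invol_unique hT2 hQ.2 h1 hzFc h2 hzF2 h3 hzF1, hzF]

end Cfsg.Agent.helper7.Sy
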