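import Mathlib
import Cfsg.Agent.Lib_helper19_N21a

/-!
Strong form of the Thompson transfer lemma for a central involution of a self-normalizing
Sylow 2-subgroup (helper7).
-/

set_option autoImplicit false
set_option linter.style.haveILetI false
set_option linter.unusedSectionVars false
set_option linter.unusedVariables false

namespace Cfsg.Agent.helper7

open Subgroup

section ThT

variable {G : Type*} [Group G] [Finite G]

/-- In a finite group, if conjugation by `g⁻¹` maps `S` into `S` then `g` normalizes `S`. -/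
theorem mem_normalizer_of_conj_mem (S : Subgroup G) (g : G)
    (h : ∀ s ∈ S, g⁻¹ * s * g ∈ S) : g ∈ Subgroup.normalizer (S : Set G) := by
  have hle : S.map (MulAut.conj g⁻¹).toMonoidHom ≤ S := by
    rintro _ ⟨s, hs, rfl⟩
    have := h s hs
    simpa [MulAut.conj_apply] using this
  have hcard : Nat.card (S.map (MulAut.conj g⁻¹).toMonoidHom) = Nat.card S :=
    Nat.card_congr (S.equivMapOfInjective _ (MulAut.conj g⁻¹).injective).symm.toEquiv
  have heq : S.map (MulAut.conj g⁻¹).toMonoidHom = S :=
    Subgroup.eq_of_le_of_card_ge hle (by rw [hcard])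
  have hinv : g⁻¹ ∈ Subgroup.normalizer (S : Set G) :=
    Subgroup.mem_normalizer_iff_map_conj_eq.mpr heq
  have := inv_mem hinv
  simpa using this

/-- Strong Thompson transfer: a central involution `u` of a self-normalizing Sylow 2-subgroup `S`
lying outside a maximal subgroup `M` of `S` forces a normal subgroup of index 2. -/
theorem strong_thompson_central (S M : Subgroup G) (hS2 : IsPGroup 2 S) (hodd : Odd S.index)
    (hN : Subgroup.normalizer (S : Set G) ≤ S) (hMS : M ≤ S) (hidx : M.relIndex S = 2) (u : G) (hu2 : u * u = 1)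
    (hucent : ∀ s ∈ S, s * u = u * s) (huM : u ∉ M) :
    ∃ U : Subgroup G, U.Normal ∧ U.index = 2 := by
  classical
  haveI : Fact (Nat.Prime 2) := ⟨Nat.prime_two⟩
  -- M is normal in S
  have hMn : (M.subgroupOf S).Normal := Subgroup.normal_of_index_eq_two hidx
  have hconj : ∀ s ∈ S, ∀ m ∈ M, s⁻¹ * m * s ∈ M := by
    intro s hs m hm
    have h1 : (⟨m, hMS hm⟩ : S) ∈ M.subgroupOf S := by
      rw [Subgroup.mem_subgroupOf]; exact hm
    have h2 := hMn.conj_mem _ h1 (⟨s, hs⟩⁻¹ : S)
    rw [Subgroup.mem_subgroupOf] at h2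
    simpa using h2
  -- the sub-action
  let F2 : SubMulAction S (G ⧸ S) :=
    { carrier := {q | ∃ g : G, (g : G ⧸ S) = q ∧ g⁻¹ * u * g ∈ M}
      smul_mem' := by
        rintro s q ⟨g, rfl, hg⟩
        refine ⟨(s : G) * g, ?_, ?_⟩
        · rfl
        · have hc := hucent s s.2
          have : ((s : G) * g)⁻¹ * u * ((s : G) * g) = g⁻¹ * u * g := by
            have h3 : (s : G)⁻¹ * u * (s : G) = u := by
              rw [mul_assoc, ← hc, ← mul_assoc, inv_mul_cancel, one_mul]
            calc ((s : G) * g)⁻¹ * u * ((s : G) * g)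
                = g⁻¹ * ((s : G)⁻¹ * u * (s : G)) * g := by group
              _ = g⁻¹ * u * g := by rw [h3]
          rw [this]; exact hg }
  have hF2 : ∀ g : G, ((g : G ⧸ S) ∈ F2) ↔ g⁻¹ * u * g ∈ M := by
    intro g
    constructor
    · rintro ⟨g', hgg, hg'⟩
      have hs : g'⁻¹ * g ∈ S := QuotientGroup.eq.mp hgg
      have := hconj _ hs _ hg'
      have he : (g'⁻¹ * g)⁻¹ * (g'⁻¹ * u * g') * (g'⁻¹ * g) = g⁻¹ * u * g := by group
      rwa [he] at this
    · intro hg; exact ⟨g, rfl, hg⟩
  -- card of F2 is even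
  have hF2even : Even (Nat.card F2) := by
    have hmod := hS2.card_modEq_card_fixedPoints F2
    have hfix : Nat.card (MulAction.fixedPoints S F2) = 0 := by
      rw [Nat.card_eq_zero]
      left
      constructor
      rintro ⟨⟨q, hq⟩, hq'⟩
      obtain ⟨g, rfl, hg⟩ := hq
      have hgN : g ∈ Subgroup.normalizer (S : Set G) := by
        apply mem_normalizer_of_conj_mem
        intro s hs
        have h1 := hq' ⟨s, hs⟩
        have h2 : (s : G) • ((g : G ⧸ S)) = (g : G ⧸ S) :=
          congrArg (fun w : F2 => (w : G ⧸ S)) h1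
        have h3 := (Cfsg.Agent.helper19.N21.smul_mk_eq_iff S s g).mp h2
        exact h3
      have hgS : g ∈ S := hN hgN
      have hc := hucent g hgS
      have : g⁻¹ * u * g = u := by
        rw [mul_assoc, ← hc, ← mul_assoc, inv_mul_cancel, one_mul]
      rw [this] at hg
      exact huM hg
    rw [hfix] at hmod
    exact (Nat.even_iff).mpr (by simpa [Nat.ModEq] using hmod)
  -- card of fixed points on G ⧸ M
  have hcardF : Nat.card {q : G ⧸ M // u • q = q} = Nat.card F2 * 2 := by
    let E := Subgroup.quotientEquivProdOfLE hMS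
    have hE : ∀ q : G ⧸ M, (u • q = q) ↔ (E q).1 ∈ F2 := by
      intro q
      induction q using QuotientGroup.induction_on with
      | H g =>
        rw [Cfsg.Agent.helper19.N21.smul_mk_eq_iff M u g]
        have : (E (g : G ⧸ M)).1 = (g : G ⧸ S) := rfl
        rw [this, hF2]
    have e1 : {q : G ⧸ M // u • q = q} ≃ {p : (G ⧸ S) × (S ⧸ M.subgroupOf S) // p.1 ∈ F2} :=
      Equiv.subtypeEquiv E hE
    have e2 : {p : (G ⧸ S) × (S ⧸ M.subgroupOf S) // p.1 ∈ F2} ≃ F2 × (S ⧸ M.subgroupOf S) :=
      { toFun := fun p => (⟨p.1.1, p.2⟩, p.1.2)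
        invFun := fun p => ⟨(p.1.1, p.2), p.1.2⟩
        left_inv := fun p => by rfl
        right_inv := fun p => by rfl }
    rw [Nat.card_congr (e1.trans e2), Nat.card_prod]
    congr 1
  -- index of M
  have hMidx : M.index = S.index * 2 := by
    rw [← Subgroup.relIndex_mul_index hMS, hidx, mul_comm]
  haveI : Fintype (G ⧸ M) := Fintype.ofFinite _
  have hcard : Fintype.card (G ⧸ M) = M.index := by
    rw [← Nat.card_eq_fintype_card, Subgroup.index_eq_card]
  have hle : Nat.card {q : G ⧸ M // u • q = q} ≤ Fintype.card (G ⧸ M) := by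
    rw [← Nat.card_eq_fintype_card]
    exact Nat.card_le_card_of_injective _ Subtype.val_injective
  apply Cfsg.Agent.helper19.N21.exists_index_two_of_invol (Ω := G ⧸ M) u (by rw [pow_two]; exact hu2)
  rw [hcardF] at hle ⊢
  rw [hcard, hMidx] at hle ⊢
  obtain ⟨a, ha⟩ := hodd
  obtain ⟨b, hb⟩ := hF2even
  rw [ha, hb] at hle ⊢
  rw [Nat.odd_iff]
  omega

end ThT

end Cfsg.Agent.helper7
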