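import Mathlib
import Cfsg.Agent.Lib_helper7_Transitivity

set_option autoImplicit false

namespace Cfsg.Agent.helper7

variable {G : Type*} [Group G]

/-- A maximal `q`-member of the family meets, after conjugation, every member in a Sylow
`q`-subgroup. -/
theorem exists_conj_inf_sylow [Finite G] {p : ℕ} [Fact p.Prime] {A : Subgroup G}
    (hA : Cfsg.IsElementaryAbelian p A) (hA3 : p ^ 3 ≤ Nat.card ↥A) {θ : G → Subgroup G}
    (hθ : Cfsg.IsSolvableSignalizerFunctor p A θ) {q : ℕ} [Fact q.Prime] {Q : Subgroup G}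
    (hQ : IsMaxQ p A θ q Q) {H : Subgroup G} (hH : H ∈ Cfsg.signalizerFamily p A θ) :
    ∃ c ∈ Cfsg.signalizerInf A θ,
      Nat.card ↥(cj c Q ⊓ H : Subgroup G) = q ^ (Nat.card ↥H).factorization q := by
  have hAp := isPGroup_of_elemAb hA
  obtain ⟨S₀, hS₀H, hS₀q, hS₀card, hAS₀⟩ :=
    exists_invariant_sylow q hAp hH.2.1 (family_normalizer hH)
  obtain ⟨Q', hQ', hSQ'⟩ := exists_isMaxQ_ge
    (family_of_le hH hS₀H (conj_mem_of_le_normalizer hAS₀)) hS₀q
  obtain ⟨c, hcC, hc⟩ := transitivity hA hA3 hθ _ Q Q' hQ hQ' rfl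
  refine ⟨c, hcC, ?_⟩
  rw [hc]
  apply le_antisymm
  · exact card_le_sylow inf_le_right (hQ'.2.1.to_le inf_le_left)
  · rw [← hS₀card]
    exact Nat.le_of_dvd Nat.card_pos (Subgroup.card_dvd_of_le (le_inf hSQ' hS₀H))

/-- a subgroup of `H` of Sylow order gives a Sylow subgroup of `↥H` -/
theorem exists_sylow_map_eq [Finite G] {q : ℕ} [Fact q.Prime] {S H : Subgroup G} (hSH : S ≤ H)
    (hcard : Nat.card ↥S = q ^ (Nat.card ↥H).factorization q) :
    ∃ P : Sylow q ↥H, (P : Subgroup ↥H).map H.subtype = S := by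
  have e : Nat.card ↥(S.subgroupOf H) = q ^ (Nat.card ↥H).factorization q := by
    rw [Nat.card_congr (Subgroup.subgroupOfEquivOfLe hSH).toEquiv]; exact hcard
  refine ⟨Sylow.ofCard _ e, ?_⟩
  rw [Sylow.coe_ofCard, Subgroup.map_subgroupOf_eq_of_le hSH]

end Cfsg.Agent.helper7
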