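import Mathlib
import Cfsg.Agent.Lib_helper7_CoprimeSylow
import Cfsg.Agent.Lib_helper7_Coprime

set_option autoImplicit false

namespace Cfsg.Agent.helper7

open scoped commutatorElement Pointwise

/-- The hypothesis package of the two-set coprime Baer–Suzuki lemma. -/
def TwoSet (p : ℕ) {G : Type*} [Group G] (P N : Subgroup G) (C D : Set G) : Prop :=
  (Nat.card ↥N).Coprime p ∧ N ⊔ P = ⊤ ∧ Subgroup.closure C = P ∧ Subgroup.closure D = P ∧
  ∀ x ∈ N, ∀ c ∈ C, ∀ d ∈ D, IsPGroup p ↥(Subgroup.closure ({x * c * x⁻¹, d} : Set G))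

theorem twoSet_quot {p : ℕ} {G : Type*} [Group G] {P N : Subgroup G} {C D : Set G}
    (h : TwoSet p P N C D) (K : Subgroup G) [K.Normal] :
    TwoSet p (P.map (QuotientGroup.mk' K)) (N.map (QuotientGroup.mk' K))
      (QuotientGroup.mk' K '' C) (QuotientGroup.mk' K '' D) := by
  obtain ⟨h1, h2, h3, h4, h5⟩ := h
  refine ⟨Nat.Coprime.coprime_dvd_left (Subgroup.card_map_dvd _ _) h1, ?_, ?_, ?_, ?_⟩
  · rw [← Subgroup.map_sup, h2]
    exact Subgroup.map_top_of_surjective _ (QuotientGroup.mk'_surjective K)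
  · rw [← MonoidHom.map_closure, h3]
  · rw [← MonoidHom.map_closure, h4]
  · rintro _ ⟨x, hx, rfl⟩ _ ⟨c, hc, rfl⟩ _ ⟨d, hd, rfl⟩
    have h6 := (h5 x hx c hc d hd).map (QuotientGroup.mk' K)
    rw [MonoidHom.map_closure, Set.image_pair, map_mul, map_mul, map_inv] at h6
    exact h6

theorem twoSet_sub {p : ℕ} {G : Type*} [Group G] {P N : Subgroup G} {C D : Set G}
    (h : TwoSet p P N C D) {N₀ : Subgroup G} (h₀ : N₀ ≤ N) :
    TwoSet p (P.subgroupOf (N₀ ⊔ P)) (N₀.subgroupOf (N₀ ⊔ P))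
      ((N₀ ⊔ P).subtype ⁻¹' C) ((N₀ ⊔ P).subtype ⁻¹' D) := by
  obtain ⟨h1, h2, h3, h4, h5⟩ := h
  have hpre : ∀ S : Set G, Subgroup.closure S = P →
      Subgroup.closure ((N₀ ⊔ P).subtype ⁻¹' S) = P.subgroupOf (N₀ ⊔ P) := by
    intro S hS
    apply Subgroup.map_injective (Subgroup.subtype_injective (N₀ ⊔ P))
    rw [MonoidHom.map_closure, Subgroup.map_subgroupOf_eq_of_le le_sup_right,
      Set.image_preimage_eq_of_subset, hS]
    intro s hs
    have : s ∈ P := by rw [← hS]; exact Subgroup.subset_closure hs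
    exact ⟨⟨s, le_sup_right (a := N₀) this⟩, rfl⟩
  refine ⟨?_, ?_, hpre C h3, hpre D h4, ?_⟩
  · rw [Nat.card_congr (Subgroup.subgroupOfEquivOfLe (le_sup_left (b := P))).toEquiv]
    exact Nat.Coprime.coprime_dvd_left (Subgroup.card_dvd_of_le h₀) h1
  · rw [← Subgroup.subgroupOf_sup le_sup_left le_sup_right, Subgroup.subgroupOf_self]
  · intro x hx c hc d hd
    have h6 := h5 (x : G) (h₀ (Subgroup.mem_subgroupOf.1 hx)) (c : G) hc (d : G) hd
    have h7 : (Subgroup.closure ({x * c * x⁻¹, d} : Set ↥(N₀ ⊔ P))).map (N₀ ⊔ P).subtype =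
        Subgroup.closure ({(x : G) * c * (x : G)⁻¹, (d : G)} : Set G) := by
      rw [MonoidHom.map_closure, Set.image_pair]
      simp
    rw [← h7] at h6
    exact h6.of_equiv (Subgroup.equivMapOfInjective _ _ (Subgroup.subtype_injective _)).symm


/-- `(H) ⇒ (*)`: every `x ∈ N` factors as `u * w` with `u ∈ C_N(d)` and `w ∈ C_N(c)`. -/
theorem twoSet_factor {p : ℕ} [Fact p.Prime] {G : Type*} [Group G] [Finite G] (P : Sylow p G)
    {N : Subgroup G} [N.Normal] {C D : Set G} (h : TwoSet p (P : Subgroup G) N C D)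
    {c d : G} (hc : c ∈ C) (hd : d ∈ D) {x : G} (hx : x ∈ N) :
    ∃ u ∈ N, ∃ w ∈ N, u * d = d * u ∧ w * c = c * w ∧ x = u * w := by
  obtain ⟨h1, h2, h3, h4, h5⟩ := h
  have hcP : c ∈ (P : Subgroup G) := by rw [← h3]; exact Subgroup.subset_closure hc
  have hdP : d ∈ (P : Subgroup G) := by rw [← h4]; exact Subgroup.subset_closure hd
  have hdisj : ∀ g : G, g ∈ (P : Subgroup G) → g ∈ N → g = 1 := by
    intro g hgP hgN
    obtain ⟨k, hk⟩ := IsPGroup.iff_card.1 P.isPGroup'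
    have hcop : (Nat.card ↥(P : Subgroup G)).Coprime (Nat.card ↥N) := by
      rw [hk]; exact Nat.Coprime.pow_left k h1.symm
    have := Subgroup.inf_eq_bot_of_coprime hcop
    have hg : g ∈ (P : Subgroup G) ⊓ N := ⟨hgP, hgN⟩
    rw [this] at hg
    exact Subgroup.mem_bot.1 hg
  obtain ⟨P', hP'⟩ := (h5 x hx c hc d hd).exists_le_sylow
  obtain ⟨g, hg⟩ := MulAction.exists_smul_eq G P P'
  have hgtop : g ∈ ((N ⊔ (P : Subgroup G) : Subgroup G) : Set G) := by rw [h2]; trivial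
  rw [Subgroup.normal_mul] at hgtop
  obtain ⟨n, hn, y, hy, rfl⟩ := Set.mem_mul.1 hgtop
  have hn' : n • P = P' := by
    rw [← hg, mul_smul, Sylow.smul_eq_iff_mem_normalizer.2 (Subgroup.le_normalizer hy)]
  have hconj : ∀ q ∈ Subgroup.closure ({x * c * x⁻¹, d} : Set G), n⁻¹ * q * n ∈ (P : Subgroup G) := by
    intro q hq
    have h6 : q ∈ (P' : Subgroup G) := hP' hq
    rw [← hn', Sylow.coe_subgroup_smul, Subgroup.mem_pointwise_smul_iff_inv_smul_mem] at h6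
    have : (MulAut.conj n)⁻¹ • q = n⁻¹ * q * n := by
      rw [MulAut.smul_def, MulAut.conj_inv_apply]
    rw [this] at h6
    exact h6
  have hd1 := hconj d (Subgroup.subset_closure (by simp))
  have hc1 := hconj (x * c * x⁻¹) (Subgroup.subset_closure (by simp))
  have hnN : n ∈ N := hn
  have e1 : d⁻¹ * (n⁻¹ * d * n) = 1 := by
    apply hdisj
    · exact Subgroup.mul_mem _ (Subgroup.inv_mem _ hdP) hd1
    · have : d⁻¹ * (n⁻¹ * d * n) = (d⁻¹ * n⁻¹ * d⁻¹⁻¹) * n := by group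
      rw [this]
      exact N.mul_mem (‹N.Normal›.conj_mem _ (N.inv_mem hnN) _) hnN
  have hwN : n⁻¹ * x ∈ N := N.mul_mem (N.inv_mem hnN) hx
  have e2 : c⁻¹ * (n⁻¹ * (x * c * x⁻¹) * n) = 1 := by
    apply hdisj
    · exact Subgroup.mul_mem _ (Subgroup.inv_mem _ hcP) hc1
    · have : c⁻¹ * (n⁻¹ * (x * c * x⁻¹) * n) = (c⁻¹ * (n⁻¹ * x) * c⁻¹⁻¹) * (n⁻¹ * x)⁻¹ := by group
      rw [this]
      exact N.mul_mem (‹N.Normal›.conj_mem _ hwN _) (N.inv_mem hwN)
  refine ⟨n, hnN, n⁻¹ * x, hwN, ?_, ?_, by group⟩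
  · have : n⁻¹ * d * n = d := by
      have := congrArg (fun t => d * t) e1
      simpa [mul_assoc] using this
    calc n * d = n * (n⁻¹ * d * n) := by rw [this]
      _ = d * n := by group
  · have : n⁻¹ * (x * c * x⁻¹) * n = c := by
      have := congrArg (fun t => c * t) e2
      simpa [mul_assoc] using this
    calc n⁻¹ * x * c = (n⁻¹ * (x * c * x⁻¹) * n) * (n⁻¹ * x) := by group
      _ = c * (n⁻¹ * x) := by rw [this]

/-- the counting consequence of `twoSet_factor` -/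
theorem twoSet_card_le {p : ℕ} [Fact p.Prime] {G : Type*} [Group G] [Finite G] (P : Sylow p G)
    {N : Subgroup G} [N.Normal] {C D : Set G} (h : TwoSet p (P : Subgroup G) N C D)
    {c d : G} (hc : c ∈ C) (hd : d ∈ D) :
    Nat.card ↥N ≤ Nat.card ↥(N ⊓ Subgroup.centralizer {d}) *
      Nat.card ↥(N ⊓ Subgroup.centralizer {c}) := by
  rw [← Nat.card_prod]
  let f : ↥(N ⊓ Subgroup.centralizer {d}) × ↥(N ⊓ Subgroup.centralizer {c}) → ↥N :=
    fun uw => ⟨(uw.1 : G) * (uw.2 : G), N.mul_mem uw.1.2.1 uw.2.2.1⟩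
  apply Nat.card_le_card_of_surjective f
  intro x
  obtain ⟨u, hu, w, hw, hud, hwc, hxe⟩ := twoSet_factor P h hc hd x.2
  refine ⟨(⟨u, hu, Subgroup.mem_centralizer_singleton_iff.2 hud⟩,
    ⟨w, hw, Subgroup.mem_centralizer_singleton_iff.2 hwc⟩), ?_⟩
  apply Subtype.ext
  show u * w = x
  exact hxe.symm


/-- Fixed-point subgroups of three commuting elements on an abelian group, pairwise meeting
trivially, are independent. -/
theorem indep_three {G : Type*} [Group G] {V : Subgroup G}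
    (hV : ∀ a ∈ V, ∀ b ∈ V, a * b = b * a) {t₀ t₁ t₂ : G}
    (h₀ : t₀ ∈ Subgroup.normalizer (V : Set G))
    (c01 : t₀ * t₁ = t₁ * t₀) (c02 : t₀ * t₂ = t₂ * t₀)
    (F01 : ∀ v ∈ V, v * t₀ = t₀ * v → v * t₁ = t₁ * v → v = 1)
    (F02 : ∀ v ∈ V, v * t₀ = t₀ * v → v * t₂ = t₂ * v → v = 1)
    (F12 : ∀ v ∈ V, v * t₁ = t₁ * v → v * t₂ = t₂ * v → v = 1)
    {a b c : G} (ha : a ∈ V) (hb : b ∈ V) (hc : c ∈ V)
    (ha0 : a * t₀ = t₀ * a) (hb1 : b * t₁ = t₁ * b) (hc2 : c * t₂ = t₂ * c)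
    (habc : a * b * c = 1) : a = 1 ∧ b = 1 ∧ c = 1 := by
  have hb'V : t₀ * b * t₀⁻¹ ∈ V := (Subgroup.mem_normalizer_iff.1 h₀ b).1 hb
  have hc'V : t₀ * c * t₀⁻¹ ∈ V := (Subgroup.mem_normalizer_iff.1 h₀ c).1 hc
  have e2 : t₀ * a * t₀⁻¹ = a := by rw [← ha0]; group
  have e3 : a * (t₀ * b * t₀⁻¹) * (t₀ * c * t₀⁻¹) = 1 := by
    calc a * (t₀ * b * t₀⁻¹) * (t₀ * c * t₀⁻¹)
        = (t₀ * a * t₀⁻¹) * (t₀ * b * t₀⁻¹) * (t₀ * c * t₀⁻¹) := by rw [e2]
      _ = t₀ * (a * b * c) * t₀⁻¹ := by group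
      _ = 1 := by rw [habc]; group
  have e4 : (t₀ * b * t₀⁻¹) * (t₀ * c * t₀⁻¹) = b * c := by
    have h1 : (t₀ * b * t₀⁻¹) * (t₀ * c * t₀⁻¹) = a⁻¹ :=
      eq_inv_of_mul_eq_one_right (by rw [← mul_assoc]; exact e3)
    have h2 : b * c = a⁻¹ := eq_inv_of_mul_eq_one_right (by rw [← mul_assoc]; exact habc)
    rw [h1, h2]
  have hu1V : t₀ * b * t₀⁻¹ * b⁻¹ ∈ V := V.mul_mem hb'V (V.inv_mem hb)
  have hu2V : t₀ * c * t₀⁻¹ * c⁻¹ ∈ V := V.mul_mem hc'V (V.inv_mem hc)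
  have e5 : (t₀ * b * t₀⁻¹ * b⁻¹) * (t₀ * c * t₀⁻¹ * c⁻¹) = 1 := by
    have hcomm : b⁻¹ * (t₀ * c * t₀⁻¹) = (t₀ * c * t₀⁻¹) * b⁻¹ := hV _ (V.inv_mem hb) _ hc'V
    calc (t₀ * b * t₀⁻¹ * b⁻¹) * (t₀ * c * t₀⁻¹ * c⁻¹)
        = (t₀ * b * t₀⁻¹) * (b⁻¹ * (t₀ * c * t₀⁻¹)) * c⁻¹ := by group
      _ = (t₀ * b * t₀⁻¹) * ((t₀ * c * t₀⁻¹) * b⁻¹) * c⁻¹ := by rw [hcomm]
      _ = ((t₀ * b * t₀⁻¹) * (t₀ * c * t₀⁻¹)) * b⁻¹ * c⁻¹ := by group
      _ = (b * c) * b⁻¹ * c⁻¹ := by rw [e4]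
      _ = (c * b) * b⁻¹ * c⁻¹ := by rw [hV b hb c hc]
      _ = 1 := by group
  have k10 : Commute t₁ t₀ := c01.symm
  have k1b : Commute t₁ b := hb1.symm
  have k20 : Commute t₂ t₀ := c02.symm
  have k2c : Commute t₂ c := hc2.symm
  have ku1 : Commute t₁ (t₀ * b * t₀⁻¹ * b⁻¹) :=
    ((k10.mul_right k1b).mul_right k10.inv_right).mul_right k1b.inv_right
  have ku2 : Commute t₂ (t₀ * c * t₀⁻¹ * c⁻¹) :=
    ((k20.mul_right k2c).mul_right k20.inv_right).mul_right k2c.inv_right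
  have e6 : t₀ * b * t₀⁻¹ * b⁻¹ = (t₀ * c * t₀⁻¹ * c⁻¹)⁻¹ := eq_inv_of_mul_eq_one_left e5
  have ku1' : Commute t₂ (t₀ * b * t₀⁻¹ * b⁻¹) := by rw [e6]; exact ku2.inv_right
  have hu1 : t₀ * b * t₀⁻¹ * b⁻¹ = 1 := F12 _ hu1V ku1.symm.eq ku1'.symm.eq
  have hu2 : t₀ * c * t₀⁻¹ * c⁻¹ = 1 := by
    rw [hu1] at e6
    have := congrArg (fun t => t⁻¹) e6
    simpa using this.symm
  have hb0 : b * t₀ = t₀ * b := by
    have : t₀ * b * t₀⁻¹ = b := by
      have := congrArg (fun t => t * b) hu1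
      simpa using this
    calc b * t₀ = (t₀ * b * t₀⁻¹) * t₀ := by rw [this]
      _ = t₀ * b := by group
  have hc0 : c * t₀ = t₀ * c := by
    have : t₀ * c * t₀⁻¹ = c := by
      have := congrArg (fun t => t * c) hu2
      simpa using this
    calc c * t₀ = (t₀ * c * t₀⁻¹) * t₀ := by rw [this]
      _ = t₀ * c := by group
  have hb1' : b = 1 := F01 b hb hb0 hb1
  have hc1' : c = 1 := F02 c hc hc0 hc2
  refine ⟨?_, hb1', hc1'⟩
  rw [hb1', hc1'] at habc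
  simpa using habc

/-- the counting form of `indep_three` -/
theorem card_three_le {G : Type*} [Group G] [Finite G] {V : Subgroup G}
    (hV : ∀ a ∈ V, ∀ b ∈ V, a * b = b * a) {t₀ t₁ t₂ : G}
    (h₀ : t₀ ∈ Subgroup.normalizer (V : Set G))
    (c01 : t₀ * t₁ = t₁ * t₀) (c02 : t₀ * t₂ = t₂ * t₀)
    (F01 : ∀ v ∈ V, v * t₀ = t₀ * v → v * t₁ = t₁ * v → v = 1)
    (F02 : ∀ v ∈ V, v * t₀ = t₀ * v → v * t₂ = t₂ * v → v = 1)
    (F12 : ∀ v ∈ V, v * t₁ = t₁ * v → v * t₂ = t₂ * v → v = 1) :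
    Nat.card ↥(V ⊓ Subgroup.centralizer {t₀}) * Nat.card ↥(V ⊓ Subgroup.centralizer {t₁}) *
      Nat.card ↥(V ⊓ Subgroup.centralizer {t₂}) ≤ Nat.card ↥V := by
  rw [← Nat.card_prod, ← Nat.card_prod]
  let f : (↥(V ⊓ Subgroup.centralizer {t₀}) × ↥(V ⊓ Subgroup.centralizer {t₁})) ×
      ↥(V ⊓ Subgroup.centralizer {t₂}) → ↥V :=
    fun x => ⟨(x.1.1 : G) * (x.1.2 : G) * (x.2 : G),
      V.mul_mem (V.mul_mem x.1.1.2.1 x.1.2.2.1) x.2.2.1⟩
  apply Nat.card_le_card_of_injective f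
  rintro ⟨⟨⟨a, haV, ha0⟩, ⟨b, hbV, hb1⟩⟩, ⟨c, hcV, hc2⟩⟩ ⟨⟨⟨a', haV', ha0'⟩, ⟨b', hbV', hb1'⟩⟩, ⟨c', hcV', hc2'⟩⟩ hxy
  have hxy' : a * b * c = a' * b' * c' := congrArg Subtype.val hxy
  replace ha0 : a * t₀ = t₀ * a := Subgroup.mem_centralizer_singleton_iff.1 ha0
  replace hb1 : b * t₁ = t₁ * b := Subgroup.mem_centralizer_singleton_iff.1 hb1
  replace hc2 : c * t₂ = t₂ * c := Subgroup.mem_centralizer_singleton_iff.1 hc2
  replace ha0' : a' * t₀ = t₀ * a' := Subgroup.mem_centralizer_singleton_iff.1 ha0'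
  replace hb1' : b' * t₁ = t₁ * b' := Subgroup.mem_centralizer_singleton_iff.1 hb1'
  replace hc2' : c' * t₂ = t₂ * c' := Subgroup.mem_centralizer_singleton_iff.1 hc2'
  replace haV : a ∈ V := haV
  replace hbV : b ∈ V := hbV
  replace hcV : c ∈ V := hcV
  replace haV' : a' ∈ V := haV'
  replace hbV' : b' ∈ V := hbV'
  replace hcV' : c' ∈ V := hcV'
  have key : (a'⁻¹ * a) * (b'⁻¹ * b) * (c'⁻¹ * c) = 1 := by
    have h1 : a * (b'⁻¹ * b) = (b'⁻¹ * b) * a := hV _ haV _ (V.mul_mem (V.inv_mem hbV') hbV)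
    have h2 : (a * b * c) * c'⁻¹ = c'⁻¹ * (a * b * c) :=
      hV _ (V.mul_mem (V.mul_mem haV hbV) hcV) _ (V.inv_mem hcV')
    have h3 : a * b'⁻¹ = b'⁻¹ * a := hV _ haV _ (V.inv_mem hbV')
    calc (a'⁻¹ * a) * (b'⁻¹ * b) * (c'⁻¹ * c)
        = a'⁻¹ * (a * b'⁻¹) * b * c'⁻¹ * c := by group
      _ = a'⁻¹ * (b'⁻¹ * a) * b * c'⁻¹ * c := by rw [h3]
      _ = a'⁻¹ * b'⁻¹ * (a * b * c'⁻¹ * c) := by group
      _ = a'⁻¹ * b'⁻¹ * (c'⁻¹ * (a * b * c)) := by
          congr 1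
          have h4 : c'⁻¹ * c = c * c'⁻¹ := hV _ (V.inv_mem hcV') _ hcV
          calc a * b * c'⁻¹ * c = a * b * (c'⁻¹ * c) := by group
            _ = a * b * (c * c'⁻¹) := by rw [h4]
            _ = (a * b * c) * c'⁻¹ := by group
            _ = c'⁻¹ * (a * b * c) := h2
      _ = a'⁻¹ * b'⁻¹ * (c'⁻¹ * (a' * b' * c')) := by rw [hxy']
      _ = a'⁻¹ * (b'⁻¹ * (c'⁻¹ * a')) * b' * c' := by group
      _ = a'⁻¹ * (b'⁻¹ * (a' * c'⁻¹)) * b' * c' := by rw [hV _ (V.inv_mem hcV') _ haV']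
      _ = a'⁻¹ * ((b'⁻¹ * a') * c'⁻¹) * b' * c' := by group
      _ = a'⁻¹ * ((a' * b'⁻¹) * c'⁻¹) * b' * c' := by rw [hV _ (V.inv_mem hbV') _ haV']
      _ = b'⁻¹ * (c'⁻¹ * b') * c' := by group
      _ = b'⁻¹ * (b' * c'⁻¹) * c' := by rw [hV _ (V.inv_mem hcV') _ hbV']
      _ = 1 := by group
  have cm : ∀ {u v t : G}, u * t = t * u → v * t = t * v → (u⁻¹ * v) * t = t * (u⁻¹ * v) := by
    intro u v t hu hv
    exact ((Commute.inv_left (show Commute u t from hu)).mul_left (show Commute v t from hv)).eq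
  obtain ⟨k1, k2, k3⟩ := indep_three hV h₀ c01 c02 F01 F02 F12
    (V.mul_mem (V.inv_mem haV') haV) (V.mul_mem (V.inv_mem hbV') hbV)
    (V.mul_mem (V.inv_mem hcV') hcV) (cm ha0' ha0) (cm hb1' hb1) (cm hc2' hc2) key
  have ea : a = a' := by
    have := congrArg (fun t => a' * t) k1
    simpa using this
  have eb : b = b' := by
    have := congrArg (fun t => b' * t) k2
    simpa using this
  have ec : c = c' := by
    have := congrArg (fun t => c' * t) k3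
    simpa using this
  subst ea eb ec
  rfl


theorem cj_inf_centralizer_le {G : Type*} [Group G] {V : Subgroup G} {g c : G}
    (hg : g ∈ Subgroup.normalizer (V : Set G)) :
    cj g (V ⊓ Subgroup.centralizer {c}) ≤ V ⊓ Subgroup.centralizer {g * c * g⁻¹} := by
  intro x hx
  rw [mem_cj] at hx
  obtain ⟨hxV, hxc⟩ := hx
  replace hxc : g⁻¹ * x * g * c = c * (g⁻¹ * x * g) := Subgroup.mem_centralizer_singleton_iff.1 hxc
  replace hxV : g⁻¹ * x * g ∈ V := hxV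
  refine ⟨?_, ?_⟩
  · have := (Subgroup.mem_normalizer_iff.1 hg (g⁻¹ * x * g)).1 hxV
    have e : g * (g⁻¹ * x * g) * g⁻¹ = x := by group
    rwa [e] at this
  · show x ∈ Subgroup.centralizer {g * c * g⁻¹}
    rw [Subgroup.mem_centralizer_singleton_iff]
    calc x * (g * c * g⁻¹) = g * ((g⁻¹ * x * g) * c) * g⁻¹ := by group
      _ = g * (c * (g⁻¹ * x * g)) * g⁻¹ := by rw [hxc]
      _ = g * c * g⁻¹ * x := by group

/-- the cube bound: if `e c e⁻¹ = z c` with `z` commuting with `c`, `e` and `z`, `z²` acting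
fixed-point-freely on the abelian group `V`, then `|C_V(c)|³ ≤ |V|`. -/
theorem card_cube_le {G : Type*} [Group G] [Finite G] {V : Subgroup G}
    (hV : ∀ a ∈ V, ∀ b ∈ V, a * b = b * a) {c z e : G}
    (heV : e ∈ Subgroup.normalizer (V : Set G)) (hcV : c ∈ Subgroup.normalizer (V : Set G))
    (hec : e * c * e⁻¹ = z * c) (hzc : z * c = c * z) (hze : z * e = e * z)
    (F1 : ∀ v ∈ V, v * z = z * v → v = 1) (F2 : ∀ v ∈ V, v * (z * z) = (z * z) * v → v = 1) :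
    (Nat.card ↥(V ⊓ Subgroup.centralizer {c})) ^ 3 ≤ Nat.card ↥V := by
  have kzc : Commute z c := hzc
  have kze : Commute z e := hze
  have c01 : c * (z * c) = (z * c) * c := ((kzc.symm).mul_right (Commute.refl c)).eq
  have c02 : c * (z * z * c) = (z * z * c) * c :=
    (((kzc.symm).mul_right kzc.symm).mul_right (Commute.refl c)).eq
  have F01 : ∀ v ∈ V, v * c = c * v → v * (z * c) = (z * c) * v → v = 1 := by
    intro v hv h1 h2
    apply F1 v hv
    have k1 : Commute v c := h1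
    have k2 : Commute v (z * c) := h2
    have := k2.mul_right k1.inv_right
    rw [mul_inv_cancel_right] at this
    exact this.eq
  have F02 : ∀ v ∈ V, v * c = c * v → v * (z * z * c) = (z * z * c) * v → v = 1 := by
    intro v hv h1 h2
    apply F2 v hv
    have k1 : Commute v c := h1
    have k2 : Commute v (z * z * c) := h2
    have := k2.mul_right k1.inv_right
    rw [mul_inv_cancel_right] at this
    exact this.eq
  have F12 : ∀ v ∈ V, v * (z * c) = (z * c) * v → v * (z * z * c) = (z * z * c) * v → v = 1 := by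
    intro v hv h1 h2
    apply F1 v hv
    have k1 : Commute v (z * c) := h1
    have k2 : Commute v (z * z * c) := h2
    have := k2.mul_right k1.inv_right
    have e : z * z * c * (z * c)⁻¹ = z := by group
    rw [e] at this
    exact this.eq
  have key := card_three_le hV hcV c01 c02 F01 F02 F12
  have e1 : Nat.card ↥(V ⊓ Subgroup.centralizer {c}) ≤ Nat.card ↥(V ⊓ Subgroup.centralizer {z * c}) := by
    have := cj_inf_centralizer_le (V := V) (c := c) heV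
    rw [hec] at this
    calc Nat.card ↥(V ⊓ Subgroup.centralizer {c}) = Nat.card ↥(cj e (V ⊓ Subgroup.centralizer {c})) :=
          (card_cj _ _).symm
      _ ≤ _ := Nat.le_of_dvd Nat.card_pos (Subgroup.card_dvd_of_le this)
  have e2 : Nat.card ↥(V ⊓ Subgroup.centralizer {c}) ≤
      Nat.card ↥(V ⊓ Subgroup.centralizer {z * z * c}) := by
    have hee : e * e ∈ Subgroup.normalizer (V : Set G) := Subgroup.mul_mem _ heV heV
    have := cj_inf_centralizer_le (V := V) (c := c) hee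
    have e3 : e * e * c * (e * e)⁻¹ = z * z * c := by
      calc e * e * c * (e * e)⁻¹ = e * (e * c * e⁻¹) * e⁻¹ := by group
        _ = e * (z * c) * e⁻¹ := by rw [hec]
        _ = (e * z) * c * e⁻¹ := by group
        _ = (z * e) * c * e⁻¹ := by rw [hze]
        _ = z * (e * c * e⁻¹) := by group
        _ = z * (z * c) := by rw [hec]
        _ = z * z * c := by group
    rw [e3] at this
    calc Nat.card ↥(V ⊓ Subgroup.centralizer {c}) =
          Nat.card ↥(cj (e * e) (V ⊓ Subgroup.centralizer {c})) := (card_cj _ _).symm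
      _ ≤ _ := Nat.le_of_dvd Nat.card_pos (Subgroup.card_dvd_of_le this)
  calc (Nat.card ↥(V ⊓ Subgroup.centralizer {c})) ^ 3
      = Nat.card ↥(V ⊓ Subgroup.centralizer {c}) * Nat.card ↥(V ⊓ Subgroup.centralizer {c}) *
        Nat.card ↥(V ⊓ Subgroup.centralizer {c}) := by ring
    _ ≤ Nat.card ↥(V ⊓ Subgroup.centralizer {c}) * Nat.card ↥(V ⊓ Subgroup.centralizer {z * c}) *
        Nat.card ↥(V ⊓ Subgroup.centralizer {z * z * c}) :=
        Nat.mul_le_mul (Nat.mul_le_mul le_rfl e1) e2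
    _ ≤ Nat.card ↥V := key

/-- a non-abelian `p`-subgroup has an element of the second centre outside the centre -/
theorem exists_second_center {p : ℕ} [Fact p.Prime] {G : Type*} [Group G] [Finite G]
    {P : Subgroup G} (hP : IsPGroup p ↥P) (hna : ¬ ∀ a ∈ P, ∀ b ∈ P, a * b = b * a) :
    ∃ e ∈ P, (∃ y ∈ P, e * y ≠ y * e) ∧
      ∀ y ∈ P, ∀ w ∈ P, (e * y * e⁻¹ * y⁻¹) * w = w * (e * y * e⁻¹ * y⁻¹) := by
  haveI : Nontrivial (↥P ⧸ Subgroup.center ↥P) := by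
    by_contra hnt
    rw [not_nontrivial_iff_subsingleton] at hnt
    apply hna
    intro a ha b hb
    have h1 : (QuotientGroup.mk (⟨a, ha⟩ : ↥P) : ↥P ⧸ Subgroup.center ↥P) = 1 :=
      Subsingleton.elim _ _
    rw [QuotientGroup.eq_one_iff, Subgroup.mem_center_iff] at h1
    have := h1 ⟨b, hb⟩
    exact (congrArg Subtype.val this).symm
  have hQ : IsPGroup p (↥P ⧸ Subgroup.center ↥P) := hP.to_quotient _
  haveI hcn : Nontrivial ↥(Subgroup.center (↥P ⧸ Subgroup.center ↥P)) := hQ.center_nontrivial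
  obtain ⟨⟨ebar, hebar⟩, hne⟩ := exists_ne (1 : ↥(Subgroup.center (↥P ⧸ Subgroup.center ↥P)))
  obtain ⟨e, rfl⟩ := QuotientGroup.mk_surjective ebar
  have hne' : (QuotientGroup.mk e : ↥P ⧸ Subgroup.center ↥P) ≠ 1 := by
    intro h
    apply hne
    exact Subtype.ext h
  refine ⟨e, e.2, ?_, ?_⟩
  · by_contra hall
    push Not at hall
    apply hne'
    rw [QuotientGroup.eq_one_iff, Subgroup.mem_center_iff]
    intro g
    apply Subtype.ext
    exact (hall g g.2).symm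
  · intro y hy w hw
    have h1 : (QuotientGroup.mk (e * ⟨y, hy⟩ * e⁻¹ * (⟨y, hy⟩ : ↥P)⁻¹) :
        ↥P ⧸ Subgroup.center ↥P) = 1 := by
      rw [Subgroup.mem_center_iff] at hebar
      have h2 := hebar (QuotientGroup.mk (⟨y, hy⟩ : ↥P))
      simp only [QuotientGroup.mk_mul, QuotientGroup.mk_inv]
      rw [← h2]
      group
    rw [QuotientGroup.eq_one_iff, Subgroup.mem_center_iff] at h1
    have := h1 ⟨w, hw⟩
    exact (congrArg Subtype.val this).symm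

end Cfsg.Agent.helper7
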