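import Mathlib
import Cfsg.Agent.Lib_helper7_TwoSet

set_option autoImplicit false

namespace Cfsg.Agent.helper7

open scoped commutatorElement Pointwise

theorem twoSet_disj {p : ℕ} [Fact p.Prime] {G : Type*} [Group G] [Finite G] (P : Sylow p G)
    {N : Subgroup G} (h1 : (Nat.card ↥N).Coprime p) :
    ∀ g : G, g ∈ (P : Subgroup G) → g ∈ N → g = 1 := by
  intro g hgP hgN
  obtain ⟨k, hk⟩ := IsPGroup.iff_card.1 P.isPGroup'
  have hcop : (Nat.card ↥(P : Subgroup G)).Coprime (Nat.card ↥N) := by
    rw [hk]; exact Nat.Coprime.pow_left k h1.symm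
  have := Subgroup.inf_eq_bot_of_coprime hcop
  have hg : g ∈ (P : Subgroup G) ⊓ N := ⟨hgP, hgN⟩
  rw [this] at hg
  exact Subgroup.mem_bot.1 hg

/-- In a minimal counterexample, a generating set of `P` contains an element with small
centralizer in `N`. -/
theorem exists_small_centralizer {p : ℕ} [Fact p.Prime] (hp3 : 3 ≤ p) {G : Type*} [Group G]
    [Finite G] {P N : Subgroup G} (hP : IsPGroup p ↥P) (hPN : P ≤ Subgroup.normalizer (N : Set G))
    (hPne : P ≠ ⊥)
    (hV : ∀ a ∈ N, ∀ b ∈ N, a * b = b * a)
    (M3 : ∀ z ∈ P, z ≠ 1 → (∀ y ∈ P, y * z = z * y) → ∀ v ∈ N, v * z = z * v → v = 1)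
    {C : Set G} (hC : Subgroup.closure C = P) :
    ∃ c ∈ C, (Nat.card ↥(N ⊓ Subgroup.centralizer {c})) ^ 3 ≤ Nat.card ↥N := by
  have hp : p.Prime := Fact.out
  have hCP : ∀ c ∈ C, c ∈ P := fun c hc => by rw [← hC]; exact Subgroup.subset_closure hc
  by_cases hab : ∀ a ∈ P, ∀ b ∈ P, a * b = b * a
  · -- abelian case
    have : ∃ c ∈ C, c ≠ 1 := by
      by_contra hall
      push Not at hall
      apply hPne
      rw [← hC, Subgroup.closure_eq_bot_iff]
      intro c hc
      exact hall c hc
    obtain ⟨c, hc, hc1⟩ := this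
    refine ⟨c, hc, ?_⟩
    have hbot : N ⊓ Subgroup.centralizer {c} = ⊥ := by
      rw [eq_bot_iff]
      rintro v ⟨hvN, hvc⟩
      rw [Subgroup.mem_bot]
      exact M3 c (hCP c hc) hc1 (fun y hy => hab y hy c (hCP c hc)) v hvN
        (Subgroup.mem_centralizer_singleton_iff.1 hvc)
    rw [hbot, Subgroup.card_bot, one_pow]
    exact Nat.card_pos
  · obtain ⟨e, heP, ⟨y, hyP, hye⟩, hcen⟩ := exists_second_center hP hab
    have : ∃ c ∈ C, e * c ≠ c * e := by
      by_contra hall
      push Not at hall
      apply hye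
      have hle : P ≤ Subgroup.centralizer {e} := by
        rw [← hC, Subgroup.closure_le]
        intro c hc
        show c ∈ Subgroup.centralizer {e}
        rw [Subgroup.mem_centralizer_singleton_iff]
        exact (hall c hc).symm
      exact (Subgroup.mem_centralizer_singleton_iff.1 (hle hyP)).symm
    obtain ⟨c, hc, hce⟩ := this
    have hcP := hCP c hc
    refine ⟨c, hc, ?_⟩
    set z : G := e * c * e⁻¹ * c⁻¹ with hz
    have hzP : z ∈ P := P.mul_mem (P.mul_mem (P.mul_mem heP hcP) (P.inv_mem heP)) (P.inv_mem hcP)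
    have hz1 : z ≠ 1 := by
      intro h
      apply hce
      have : e * c = z * (c * e) := by rw [hz]; group
      rw [this, h, one_mul]
    have hzcen : ∀ w ∈ P, w * z = z * w := fun w hw => (hcen c hcP w hw).symm
    have hzz1 : z * z ≠ 1 := by
      intro h
      obtain ⟨k, hk⟩ := (IsPGroup.iff_orderOf.1 hP) ⟨z, hzP⟩
      have h2 : z ^ 2 = 1 := by rw [pow_two]; exact h
      have h3 : z ^ (p ^ k) = 1 := by
        have : orderOf z = p ^ k := by
          rw [← hk]; exact (Subgroup.orderOf_mk z hzP).symm
        rw [← this]; exact pow_orderOf_eq_one z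
      have h4 : z ^ Nat.gcd 2 (p ^ k) = 1 := pow_gcd_eq_one.2 ⟨h2, h3⟩
      have h5 : Nat.gcd 2 (p ^ k) = 1 := by
        apply Nat.Coprime.pow_right
        rw [Nat.coprime_primes Nat.prime_two hp]
        omega
      rw [h5, pow_one] at h4
      exact hz1 h4
    have hzzP : z * z ∈ P := P.mul_mem hzP hzP
    have hzzcen : ∀ w ∈ P, w * (z * z) = (z * z) * w := by
      intro w hw
      have k : Commute w z := hzcen w hw
      exact (k.mul_right k).eq
    exact card_cube_le hV (hPN heP) (hPN hcP) (by rw [hz]; group) (hzcen c hcP).symm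
      (hzcen e heP).symm (M3 z hzP hz1 hzcen) (M3 (z * z) hzzP hzz1 hzzcen)


/-- the minimal counterexample analysis -/
theorem twoSet_core {p : ℕ} [Fact p.Prime] (hp3 : 3 ≤ p) {G : Type*} [Group G] [Finite G]
    (P : Sylow p G) {N : Subgroup G} [hNn : N.Normal] {C D : Set G}
    (h : TwoSet p (P : Subgroup G) N C D)
    (IHi : ∀ K : Subgroup G, K.Normal → K ≠ ⊥ → ⁅(P : Subgroup G), N⁆ ≤ K)
    (IHii : ∀ N₀ : Subgroup G, N₀ ≤ N → (P : Subgroup G) ≤ Subgroup.normalizer (N₀ : Set G) →
      N₀ ≠ N → ⁅(P : Subgroup G), N₀⁆ = ⊥) :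
    ⁅(P : Subgroup G), N⁆ = ⊥ := by
  by_contra hne
  have hp : p.Prime := Fact.out
  have hPN : (P : Subgroup G) ≤ Subgroup.normalizer (N : Set G) := by
    rw [Subgroup.normalizer_eq_top]; exact le_top
  have hPp : IsPGroup p ↥(P : Subgroup G) := P.isPGroup'
  have hNp : ¬ p ∣ Nat.card ↥N := (Nat.Prime.coprime_iff_not_dvd hp).1 h.1.symm
  have hdisj := twoSet_disj P h.1
  -- (M1)
  have hM1 : ⁅(P : Subgroup G), N⁆ = N := by
    by_contra hne1
    have hR : ⁅N, (P : Subgroup G)⁆ ≤ N := commutator_le_of_normalizer hPN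
    have hRn : (P : Subgroup G) ≤ Subgroup.normalizer ((⁅N, (P : Subgroup G)⁆ : Subgroup G) : Set G) :=
      fun g hg => mem_normalizer_commutator (hPN hg) (Subgroup.le_normalizer hg)
    have hRne : ⁅N, (P : Subgroup G)⁆ ≠ N := by
      rw [Subgroup.commutator_comm]; exact hne1
    have h1 := IHii _ hR hRn hRne
    rw [Subgroup.commutator_comm, commutator_commutator_eq hPp hPN hNp,
      Subgroup.commutator_comm] at h1
    exact hne h1
  have hNne : N ≠ ⊥ := by
    intro h0
    apply hne
    rw [hM1, h0]
  -- (M2)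
  have hV : ∀ a ∈ N, ∀ b ∈ N, a * b = b * a := by
    by_cases hq : ∃ q : ℕ, ∃ _ : Fact q.Prime, IsPGroup q ↥N
    · obtain ⟨q, hqf, hNq⟩ := hq
      haveI : Nontrivial ↥N := (Subgroup.nontrivial_iff_ne_bot N).2 hNne
      haveI hcn : Nontrivial ↥(Subgroup.center ↥N) := hNq.center_nontrivial
      obtain ⟨⟨z, hz⟩, hz1⟩ := exists_ne (1 : ↥(Subgroup.center ↥N))
      have hK : N ⊓ Subgroup.centralizer (N : Set G) ≠ ⊥ := by
        intro h0
        apply hz1
        have : (z : G) ∈ N ⊓ Subgroup.centralizer (N : Set G) := by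
          refine ⟨z.2, ?_⟩
          show (z : G) ∈ Subgroup.centralizer (N : Set G)
          rw [Subgroup.mem_centralizer_iff]
          intro g hg
          rw [Subgroup.mem_center_iff] at hz
          exact congrArg Subtype.val (hz ⟨g, hg⟩)
        rw [h0, Subgroup.mem_bot] at this
        apply Subtype.ext
        apply Subtype.ext
        exact this
      have hKn : (N ⊓ Subgroup.centralizer (N : Set G)).Normal :=
        Subgroup.normal_inf_normal _ _
      have := IHi _ hKn hK
      rw [hM1] at this
      intro a ha b hb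
      have h2 : a ∈ Subgroup.centralizer (N : Set G) := (this ha).2
      rw [Subgroup.mem_centralizer_iff] at h2
      exact (h2 b hb).symm
    · exfalso
      push Not at hq
      apply hne
      have hR : N ≤ N ⊓ Subgroup.centralizer ((P : Subgroup G) : Set G) := by
        have hdvd : Nat.card ↥N ∣ Nat.card ↥(N ⊓ Subgroup.centralizer ((P : Subgroup G) : Set G)) := by
          rw [← Nat.factorization_prime_le_iff_dvd Nat.card_pos.ne' Nat.card_pos.ne']
          intro q hqp
          haveI : Fact q.Prime := ⟨hqp⟩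
          obtain ⟨S, hSN, hSq, hScard, hPS⟩ := exists_invariant_sylow q hPp hNp hPN
          have hSne : S ≠ N := by
            intro h0
            apply hq q ⟨hqp⟩
            rw [← h0]; exact hSq
          have h1 := IHii S hSN hPS hSne
          rw [Subgroup.commutator_comm, Subgroup.commutator_eq_bot_iff_le_centralizer] at h1
          have h2 : S ≤ N ⊓ Subgroup.centralizer ((P : Subgroup G) : Set G) := le_inf hSN h1
          have h3 := Subgroup.card_dvd_of_le h2
          rw [hScard] at h3
          exact (Nat.Prime.pow_dvd_iff_le_factorization hqp Nat.card_pos.ne').1 h3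
        have := Subgroup.eq_of_le_of_card_ge (inf_le_left (a := N)
          (b := Subgroup.centralizer ((P : Subgroup G) : Set G)))
          (Nat.le_of_dvd Nat.card_pos hdvd)
        rw [this]
      rw [Subgroup.commutator_comm, Subgroup.commutator_eq_bot_iff_le_centralizer]
      exact hR.trans inf_le_right
  -- (M3)
  have M3 : ∀ z ∈ (P : Subgroup G), z ≠ 1 → (∀ y ∈ (P : Subgroup G), y * z = z * y) →
      ∀ v ∈ N, v * z = z * v → v = 1 := by
    intro z hzP hz1 hzc
    set K : Subgroup G := N ⊓ Subgroup.centralizer {z} with hK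
    have hKn : K.Normal := by
      rw [← Subgroup.normalizer_eq_top_iff, eq_top_iff, ← h.2.1]
      apply sup_le
      · intro n hn
        rw [Subgroup.mem_normalizer_iff]
        intro k
        have key : ∀ k ∈ K, ∀ m ∈ N, m * k * m⁻¹ = k := by
          intro k hk m hm
          rw [hV m hm k hk.1]; group
        constructor
        · intro hk
          rw [key k hk n hn]; exact hk
        · intro hk
          have := key _ hk n⁻¹ (N.inv_mem hn)
          have e : n⁻¹ * (n * k * n⁻¹) * n⁻¹⁻¹ = k := by group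
          rw [e] at this
          rw [this]; exact hk
      · apply le_normalizer_of_conj_mem
        rintro y hy k ⟨hkN, hkz⟩
        refine ⟨hNn.conj_mem k hkN y, ?_⟩
        show y * k * y⁻¹ ∈ Subgroup.centralizer {z}
        rw [Subgroup.mem_centralizer_singleton_iff]
        replace hkz : k * z = z * k := Subgroup.mem_centralizer_singleton_iff.1 hkz
        have hyz : Commute y z := hzc y hy
        have hkz' : Commute k z := hkz
        exact ((hyz.mul_left hkz').mul_left hyz.inv_left).eq
    by_cases hKb : K = ⊥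
    · intro v hvN hvz
      have : v ∈ K := ⟨hvN, Subgroup.mem_centralizer_singleton_iff.2 hvz⟩
      rw [hKb, Subgroup.mem_bot] at this
      exact this
    · exfalso
      have h1 := IHi K hKn hKb
      rw [hM1] at h1
      -- z centralizes N
      set K₂ : Subgroup G := (P : Subgroup G) ⊓ Subgroup.centralizer (N : Set G) with hK₂
      have hzK₂ : z ∈ K₂ := by
        refine ⟨hzP, ?_⟩
        show z ∈ Subgroup.centralizer (N : Set G)
        rw [Subgroup.mem_centralizer_iff]
        intro n hn
        exact Subgroup.mem_centralizer_singleton_iff.1 (h1 hn).2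
      have hK₂b : K₂ ≠ ⊥ := by
        intro h0
        rw [h0, Subgroup.mem_bot] at hzK₂
        exact hz1 hzK₂
      have hK₂n : K₂.Normal := by
        rw [← Subgroup.normalizer_eq_top_iff, eq_top_iff, ← h.2.1]
        apply sup_le
        · intro n hn
          rw [Subgroup.mem_normalizer_iff]
          intro k
          have key : ∀ k ∈ K₂, ∀ m ∈ N, m * k * m⁻¹ = k := by
            intro k hk m hm
            have : k ∈ Subgroup.centralizer (N : Set G) := hk.2
            rw [Subgroup.mem_centralizer_iff] at this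
            rw [this m hm]; group
          constructor
          · intro hk
            rw [key k hk n hn]; exact hk
          · intro hk
            have := key _ hk n⁻¹ (N.inv_mem hn)
            have e : n⁻¹ * (n * k * n⁻¹) * n⁻¹⁻¹ = k := by group
            rw [e] at this
            rw [this]; exact hk
        · apply le_normalizer_of_conj_mem
          rintro y hy k ⟨hkP, hkN⟩
          refine ⟨Subgroup.mul_mem _ (Subgroup.mul_mem _ hy hkP) (Subgroup.inv_mem _ hy), ?_⟩
          exact (Subgroup.normal_centralizer (H := N)).conj_mem k hkN y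
      have h2 := IHi K₂ hK₂n hK₂b
      apply hne
      rw [eq_bot_iff]
      intro g hg
      rw [Subgroup.mem_bot]
      apply hdisj g (h2 hg).1
      rw [hM1] at hg
      exact hg
  -- the count
  have hPne : (P : Subgroup G) ≠ ⊥ := by
    intro h0
    apply hne
    rw [h0]
    exact Subgroup.commutator_bot_left N
  obtain ⟨c, hc, hc3⟩ := exists_small_centralizer hp3 hPp hPN hPne hV M3 h.2.2.1
  obtain ⟨d, hd, hd3⟩ := exists_small_centralizer hp3 hPp hPN hPne hV M3 h.2.2.2.1
  have hle := twoSet_card_le P h hc hd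
  have hN2 : 2 ≤ Nat.card ↥N := by
    have := (Subgroup.one_lt_card_iff_ne_bot N).2 hNne
    omega
  set n := Nat.card ↥N
  set a := Nat.card ↥(N ⊓ Subgroup.centralizer {c})
  set b := Nat.card ↥(N ⊓ Subgroup.centralizer {d})
  have h6 : n ^ 3 ≤ n * n := by
    calc n ^ 3 ≤ (b * a) ^ 3 := Nat.pow_le_pow_left hle 3
      _ = b ^ 3 * a ^ 3 := by ring
      _ ≤ n * n := Nat.mul_le_mul hd3 hc3
  have h7 : n ^ 3 = n * n * n := by ring
  nlinarith

end Cfsg.Agent.helper7
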