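import Mathlib

set_option linter.style.haveILetI false
set_option autoImplicit false

/-!
# Zassenhaus groups with a regular normal subgroup: the field lemma

`card_of_aut_prime`: a finite field with an automorphism of prime order `r`
whose only fixed points are `0, 1` has `2 ^ r` elements (Artin).

`card_of_regular`: an abelian group of additive automorphisms acting regularly
on the nonzero vectors turns `V` into a field.
-/

namespace Cfsg.Agent.helper7.Zr

theorem card_of_aut_prime {F : Type*} [Field F] [Fintype F] (σ : F ≃+* F) (r : ℕ)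
    (hσ : orderOf σ = r) (hfix : ∀ x : F, σ x = x → x = 0 ∨ x = 1) : Fintype.card F = 2 ^ r := by
  classical
  haveI : Finite (F ≃+* F) := Finite.of_injective (fun e : F ≃+* F => (e : F → F)) (fun a b h => by
    ext x; exact congrFun h x)
  haveI : Fintype (Subgroup.zpowers σ) := Fintype.ofFinite _
  have h1 := FixedPoints.finrank_eq_card (Subgroup.zpowers σ) F
  have hcardG : Fintype.card (Subgroup.zpowers σ) = r := by
    rw [← Nat.card_eq_fintype_card, Nat.card_zpowers, hσ]
  rw [hcardG] at h1
  have hsub : ∀ x : F, x ∈ FixedPoints.subfield (Subgroup.zpowers σ) F ↔ x = 0 ∨ x = 1 := by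
    intro x
    constructor
    · intro hx
      have := hx ⟨σ, Subgroup.mem_zpowers σ⟩
      exact hfix x this
    · rintro (rfl | rfl)
      · exact zero_mem _
      · exact one_mem _
  have hcard2 : Nat.card (FixedPoints.subfield (Subgroup.zpowers σ) F) = 2 := by
    have hset : ((FixedPoints.subfield (Subgroup.zpowers σ) F : Subfield F) : Set F) = {0, 1} := by
      ext x
      simp only [SetLike.mem_coe, hsub, Set.mem_insert_iff, Set.mem_singleton_iff]
    have h2 : Nat.card (FixedPoints.subfield (Subgroup.zpowers σ) F) =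
        Nat.card ((FixedPoints.subfield (Subgroup.zpowers σ) F : Subfield F) : Set F) := rfl
    rw [h2, hset, Nat.card_coe_set_eq, Set.ncard_pair zero_ne_one]
  have h3 := Module.natCard_eq_pow_finrank (K := FixedPoints.subfield (Subgroup.zpowers σ) F) (V := F)
  rw [h1, hcard2] at h3
  rw [← Nat.card_eq_fintype_card]
  exact h3

theorem card_of_regular {V : Type*} [CommGroup V] [Fintype V]
    (K : Subgroup (MulAut V)) (hKc : ∀ a ∈ K, ∀ b ∈ K, a * b = b * a)
    (v0 : V) (hv0 : v0 ≠ 1)
    (hreg : ∀ v : V, v ≠ 1 → ∃ k ∈ K, k v0 = v)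
    (hinj : ∀ k ∈ K, ∀ k' ∈ K, k v0 = k' v0 → k = k')
    (σ : MulAut V) (hσK : ∀ k ∈ K, σ * k * σ⁻¹ ∈ K) (hσ0 : σ v0 = v0)
    (r : ℕ) (hr : r.Prime) (hσr : σ ^ r = 1) (hσ1 : σ ≠ 1)
    (hfix : ∀ v, σ v = v → v = 1 ∨ v = v0) :
    Fintype.card V = 2 ^ r := by
  classical
  have hκ : ∀ v : V, ∃ k : MulAut V, v ≠ 1 → (k ∈ K ∧ k v0 = v) := by
    intro v
    by_cases hv : v = 1
    · exact ⟨1, fun h => absurd hv h⟩
    · obtain ⟨k, hk, hkv⟩ := hreg v hv
      exact ⟨k, fun _ => ⟨hk, hkv⟩⟩
  choose κ hκ using hκ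
  have hm : ∃ m : V → V → V, (∀ y, m 1 y = 1) ∧ (∀ x y, x ≠ 1 → m x y = κ x y) :=
    ⟨fun x y => if x = 1 then 1 else κ x y, fun y => by simp, fun x y hx => by simp [hx]⟩
  obtain ⟨m, hm0, hmne⟩ := hm
  have hmz : ∀ x, m x 1 = 1 := by
    intro x
    by_cases hx : x = 1
    · rw [hx, hm0]
    · rw [hmne x 1 hx, map_one]
  have hmnz : ∀ x y, x ≠ 1 → y ≠ 1 → m x y ≠ 1 := by
    intro x y hx hy h
    rw [hmne x y hx] at h
    have : κ x y = κ x 1 := by rw [h, map_one]
    exact hy ((κ x).injective this)
  have hκmul : ∀ x y, x ≠ 1 → y ≠ 1 → κ (m x y) = κ x * κ y := by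
    intro x y hx hy
    have h1 := hκ (m x y) (hmnz x y hx hy)
    have h2 := hκ x hx
    have h3 := hκ y hy
    apply hinj _ h1.1 _ (K.mul_mem h2.1 h3.1)
    rw [h1.2, MulAut.mul_apply, h3.2, hmne x y hx]
  have hcomm : ∀ x y, m x y = m y x := by
    intro x y
    by_cases hx : x = 1
    · rw [hx, hm0, hmz]
    by_cases hy : y = 1
    · rw [hy, hm0, hmz]
    have h2 := hκ x hx
    have h3 := hκ y hy
    rw [hmne x y hx, hmne y x hy]
    calc κ x y = κ x (κ y v0) := by rw [h3.2]
      _ = (κ x * κ y) v0 := by rw [MulAut.mul_apply]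
      _ = (κ y * κ x) v0 := by rw [hKc _ h2.1 _ h3.1]
      _ = κ y (κ x v0) := by rw [MulAut.mul_apply]
      _ = κ y x := by rw [h2.2]
  have hassoc : ∀ x y z, m (m x y) z = m x (m y z) := by
    intro x y z
    by_cases hx : x = 1
    · rw [hx, hm0, hm0, hm0]
    by_cases hy : y = 1
    · rw [hy, hmz, hm0, hmz]
    rw [hmne (m x y) z (hmnz x y hx hy), hκmul x y hx hy, MulAut.mul_apply, hmne x _ hx,
      hmne y z hy]
  have hld : ∀ x y z, m x (y * z) = m x y * m x z := by
    intro x y z
    by_cases hx : x = 1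
    · rw [hx, hm0, hm0, hm0, mul_one]
    rw [hmne x _ hx, hmne x _ hx, hmne x _ hx, map_mul]
  have hrd : ∀ x y z, m (x * y) z = m x z * m y z := by
    intro x y z
    rw [hcomm (x * y) z, hld, hcomm z x, hcomm z y]
  have hκ1 : κ v0 = 1 := by
    have h1 := hκ v0 hv0
    apply hinj _ h1.1 _ K.one_mem
    rw [h1.2, MulAut.one_apply]
  have hone : ∀ y, m v0 y = y := by
    intro y
    rw [hmne v0 y hv0, hκ1, MulAut.one_apply]
  have hone' : ∀ y, m y v0 = y := by
    intro y
    rw [hcomm, hone]
  have hinv : ∀ x, x ≠ 1 → ∃ y, m x y = v0 := by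
    intro x hx
    refine ⟨(κ x)⁻¹ v0, ?_⟩
    rw [hmne x _ hx, ← MulAut.mul_apply, mul_inv_cancel, MulAut.one_apply]
  letI instR : CommRing (Additive V) :=
    { (inferInstance : AddCommGroup (Additive V)) with
      mul := fun x y => Additive.ofMul (m x.toMul y.toMul)
      one := Additive.ofMul v0
      mul_assoc := fun x y z => hassoc x.toMul y.toMul z.toMul
      one_mul := fun x => hone x.toMul
      mul_one := fun x => hone' x.toMul
      left_distrib := fun x y z => hld x.toMul y.toMul z.toMul
      right_distrib := fun x y z => hrd x.toMul y.toMul z.toMul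
      zero_mul := fun x => hm0 x.toMul
      mul_zero := fun x => hmz x.toMul
      mul_comm := fun x y => hcomm x.toMul y.toMul }
  have hone_def : (1 : Additive V) = Additive.ofMul v0 := rfl
  have hisf : IsField (Additive V) :=
    { exists_pair_ne := ⟨0, 1, by
        rw [hone_def]
        intro h
        exact hv0 (Additive.ofMul.injective h).symm⟩
      mul_comm := fun x y => hcomm x.toMul y.toMul
      mul_inv_cancel := by
        intro a ha
        have ha' : a.toMul ≠ 1 := fun h => ha (Additive.toMul.injective h)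
        obtain ⟨y, hy⟩ := hinv a.toMul ha'
        exact ⟨Additive.ofMul y, congrArg Additive.ofMul hy⟩ }
  letI instF : Field (Additive V) := hisf.toField
  have hσinv0 : σ⁻¹ v0 = v0 := by
    have : σ⁻¹ (σ v0) = v0 := by rw [← MulAut.mul_apply, inv_mul_cancel, MulAut.one_apply]
    rwa [hσ0] at this
  have hσne : ∀ x, x ≠ 1 → σ x ≠ 1 := by
    intro x hx h
    apply hx
    have : σ x = σ 1 := by rw [h, map_one]
    exact σ.injective this
  have hκσ : ∀ x, x ≠ 1 → κ (σ x) = σ * κ x * σ⁻¹ := by
    intro x hx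
    have h1 := hκ (σ x) (hσne x hx)
    have h2 := hκ x hx
    apply hinj _ h1.1 _ (hσK _ h2.1)
    rw [h1.2, MulAut.mul_apply, MulAut.mul_apply, hσinv0, h2.2]
  have hσmul : ∀ x y, σ (m x y) = m (σ x) (σ y) := by
    intro x y
    by_cases hx : x = 1
    · rw [hx, hm0, map_one, hm0]
    rw [hmne x y hx, hmne _ _ (hσne x hx), hκσ x hx, MulAut.mul_apply, MulAut.mul_apply,
      ← MulAut.mul_apply V σ⁻¹ σ, inv_mul_cancel, MulAut.one_apply]
  let τ : Additive V ≃+* Additive V :=
    { toFun := fun x => Additive.ofMul (σ x.toMul)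
      invFun := fun x => Additive.ofMul (σ.symm x.toMul)
      left_inv := fun x => congrArg Additive.ofMul (σ.left_inv x.toMul)
      right_inv := fun x => congrArg Additive.ofMul (σ.right_inv x.toMul)
      map_mul' := fun x y => congrArg Additive.ofMul (hσmul x.toMul y.toMul)
      map_add' := fun x y => congrArg Additive.ofMul (σ.map_mul x.toMul y.toMul) }
  have hτapp : ∀ x, τ x = Additive.ofMul (σ x.toMul) := fun _ => rfl
  have hτpow : ∀ n : ℕ, ∀ x, (τ ^ n) x = Additive.ofMul ((σ ^ n) x.toMul) := by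
    intro n
    induction n with
    | zero => intro x; simp
    | succ n ih =>
      intro x
      rw [pow_succ, pow_succ, RingAut.mul_apply, MulAut.mul_apply, ih, hτapp]
      rfl
  have hτr : τ ^ r = 1 := by
    ext x
    rw [hτpow, hσr]
    rfl
  have hτ1 : τ ≠ 1 := by
    intro h
    apply hσ1
    ext x
    have := congrArg (fun f : Additive V ≃+* Additive V => f (Additive.ofMul x)) h
    simp only [hτapp] at this
    exact Additive.ofMul.injective this
  haveI : Fact r.Prime := ⟨hr⟩
  have hord : orderOf τ = r := orderOf_eq_prime hτr hτ1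
  have := card_of_aut_prime τ r hord (by
    intro x hx
    rw [hτapp] at hx
    have hx' : σ x.toMul = x.toMul := Additive.ofMul.injective hx
    rcases hfix x.toMul hx' with h | h
    · left; exact Additive.toMul.injective h
    · right; rw [hone_def]; exact Additive.toMul.injective h)
  rw [← this]
  exact (Fintype.card_congr Additive.ofMul)

end Cfsg.Agent.helper7.Zr
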