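import Mathlib
import Cfsg.Agent.S0035
import Cfsg.Agent.S0042
import Cfsg.Agent.S0040

set_option linter.style.haveILetI false
set_option autoImplicit false

/-!
# Zassenhaus groups with a regular normal subgroup: group-theoretic part
-/

namespace Cfsg.Agent.helper7.Zr

open scoped Pointwise

/-- A finite nilpotent group all of whose Sylow subgroups are cyclic is commutative. -/
theorem comm_of_nilpotent_cyclic_sylow {G : Type*} [Group G] [Finite G]
    (hnil : Group.IsNilpotent G)
    (hcyc : ∀ (p : ℕ) [Fact p.Prime] (P : Sylow p G), IsCyclic P) : ∀ x y : G, x * y = y * x := by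
  obtain ⟨e⟩ := ((Group.isNilpotent_of_finite_tfae (G := G)).out 0 4).mp hnil
  intro x y
  obtain ⟨a, rfl⟩ := e.surjective x
  obtain ⟨b, rfl⟩ := e.surjective y
  rw [← map_mul, ← map_mul]
  congr 1
  funext p P
  haveI : Fact (p : ℕ).Prime := ⟨Nat.prime_of_mem_primeFactors p.2⟩
  haveI := hcyc p P
  show a p P * b p P = b p P * a p P
  exact (IsCyclic.commGroup : CommGroup P).mul_comm _ _

variable {G Ω : Type*} [Group G] [MulAction G Ω]

theorem finite_of_faithful [Fintype Ω] [FaithfulSMul G Ω] : Finite G :=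
  Finite.of_injective (MulAction.toPermHom G Ω) MulAction.toPerm_injective

/-- The two point stabilizer is a Frobenius complement in the one point stabilizer. -/
theorem isFrobCompl [FaithfulSMul G Ω] (h2 : MulAction.IsMultiplyPretransitive G Ω 2)
    (h3 : ∀ g : G, ∀ a b c : Ω, a ≠ b → b ≠ c → a ≠ c → g • a = a → g • b = b → g • c = c → g = 1)
    (g0 : G) (hg0 : g0 ≠ 1) (a b : Ω) (hab : a ≠ b) (hga : g0 • a = a) (hgb : g0 • b = b) :
    Cfsg.IsFrobeniusComplement (MulAction.stabilizer (MulAction.stabilizer G a) b) := by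
  have h2' : ∀ a b c d : Ω, a ≠ b → c ≠ d → ∃ g : G, g • a = c ∧ g • b = d :=
    fun a b c d h h' => MulAction.is_two_pretransitive_iff.mp h2 h h'
  refine ⟨?_, ?_, ?_⟩
  · intro h
    have hmem : (⟨g0, hga⟩ : MulAction.stabilizer G a) ∈
        MulAction.stabilizer (MulAction.stabilizer G a) b := by
      rw [MulAction.mem_stabilizer_iff]
      exact hgb
    rw [h, Subgroup.mem_bot] at hmem
    exact hg0 (congrArg Subtype.val hmem)
  · intro h
    -- g0 moves some point c
    have hc : ∃ c : Ω, g0 • c ≠ c := by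
      by_contra hcon
      push Not at hcon
      apply hg0
      apply FaithfulSMul.eq_of_smul_eq_smul (α := Ω)
      intro c
      rw [hcon c, one_smul]
    obtain ⟨c, hc⟩ := hc
    have hca : c ≠ a := fun h => hc (h ▸ hga)
    have hcb : c ≠ b := fun h => hc (h ▸ hgb)
    obtain ⟨t, hta, htb⟩ := h2' a b a c hab (Ne.symm hca)
    have hmem : (⟨t, hta⟩ : MulAction.stabilizer G a) ∈
        MulAction.stabilizer (MulAction.stabilizer G a) b := by
      rw [h]; exact Subgroup.mem_top _
    rw [MulAction.mem_stabilizer_iff] at hmem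
    have : t • b = b := hmem
    rw [htb] at this
    exact hcb this
  · intro h hh
    rw [eq_bot_iff]
    intro x hx
    rw [Subgroup.mem_bot]
    obtain ⟨hx1, hx2⟩ := Subgroup.mem_inf.mp hx
    rw [MulAction.mem_stabilizer_iff] at hx1
    rw [Subgroup.mem_pointwise_smul_iff_inv_smul_mem, MulAction.mem_stabilizer_iff] at hx2
    rw [MulAction.mem_stabilizer_iff] at hh
    -- x fixes a, b, h • b
    have hxa : (x : G) • a = a := x.2
    have hxb : (x : G) • b = b := hx1
    have hha : (h : G) • a = a := h.2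
    have hxc : (x : G) • ((h : G) • b) = (h : G) • b := by
      have h5 : ((MulAut.conj h)⁻¹ • x) = h⁻¹ * x * h := by
        simp [MulAut.smul_def, MulAut.conj_inv_apply]
      rw [h5] at hx2
      have h6 : ((h⁻¹ * x * h : MulAction.stabilizer G a) : G) • b = b := hx2
      have h7 : ((h⁻¹ * x * h : MulAction.stabilizer G a) : G) = (h : G)⁻¹ * (x : G) * (h : G) := by
        simp
      rw [h7, mul_smul, mul_smul] at h6
      have := congrArg (fun y => (h : G) • y) h6
      simpa using this
    have hhb : (h : G) • b ≠ b := hh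
    have hhba : (h : G) • b ≠ a := by
      intro h8
      have : (h : G) • b = (h : G) • a := by rw [h8, hha]
      exact hab (MulAction.injective (h : G) this).symm
    have := h3 (x : G) a b ((h : G) • b) hab (Ne.symm hhb) (Ne.symm hhba) hxa hxb hxc
    exact Subtype.ext this

/-- The Frobenius kernel of the one point stabilizer: a normal nilpotent subgroup acting
regularly on the remaining points. -/
theorem kernel_data [Fintype Ω] [FaithfulSMul G Ω] (h2 : MulAction.IsMultiplyPretransitive G Ω 2)
    (h3 : ∀ g : G, ∀ a b c : Ω, a ≠ b → b ≠ c → a ≠ c → g • a = a → g • b = b → g • c = c → g = 1)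
    (g0 : G) (hg0 : g0 ≠ 1) (a b : Ω) (hab : a ≠ b) (hga : g0 • a = a) (hgb : g0 • b = b) :
    ∃ K : Subgroup (MulAction.stabilizer G a), K.Normal ∧ Group.IsNilpotent K ∧
      (∀ k ∈ K, ∀ c : Ω, c ≠ a → (k : G) • c = c → k = 1) ∧
      (∀ c : Ω, c ≠ a → ∃ k ∈ K, (k : G) • b = c) ∧
      Nat.card K + 1 = Fintype.card Ω := by
  classical
  haveI : Finite G := finite_of_faithful (Ω := Ω)
  have h2' : ∀ a b c d : Ω, a ≠ b → c ≠ d → ∃ g : G, g • a = c ∧ g • b = d :=
    fun a b c d h h' => MulAction.is_two_pretransitive_iff.mp h2 h h'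
  have hF := isFrobCompl h2 h3 g0 hg0 a b hab hga hgb
  obtain ⟨K, hKset, hKn, hKnil⟩ := Cfsg.Agent.S0042.result _ hF
  obtain ⟨K', hK'set, -, hcompl⟩ := Cfsg.Agent.S0035.result _ hF
  have hKK : K = K' := SetLike.coe_injective (hKset.trans hK'set.symm)
  subst hKK
  have hsemi : ∀ k ∈ K, ∀ c : Ω, c ≠ a → (k : G) • c = c → k = 1 := by
    intro k hk c hca hkc
    have hk' : k ∈ (K : Set (MulAction.stabilizer G a)) := hk
    rw [hKset] at hk'
    rcases hk' with h | h
    · exact h
    · exfalso
      obtain ⟨t, hta, htb⟩ := h2' a b a c hab (Ne.symm hca)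
      apply h ⟨t, hta⟩
      rw [Subgroup.mem_pointwise_smul_iff_inv_smul_mem, MulAction.mem_stabilizer_iff]
      have h5 : ((MulAut.conj (⟨t, hta⟩ : MulAction.stabilizer G a))⁻¹ • k) =
          (⟨t, hta⟩ : MulAction.stabilizer G a)⁻¹ * k * ⟨t, hta⟩ := by
        simp [MulAut.smul_def, MulAut.conj_inv_apply]
      rw [h5]
      show ((((⟨t, hta⟩ : MulAction.stabilizer G a)⁻¹ * k * ⟨t, hta⟩ :
        MulAction.stabilizer G a)) : G) • b = b
      have h7 : ((((⟨t, hta⟩ : MulAction.stabilizer G a)⁻¹ * k * ⟨t, hta⟩ :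
        MulAction.stabilizer G a)) : G) = t⁻¹ * (k : G) * t := by
        simp
      rw [h7, mul_smul, mul_smul, htb, hkc, ← htb, inv_smul_smul]
  -- the orbit of b under the stabilizer
  have horb : MulAction.orbit (MulAction.stabilizer G a) b = ({a}ᶜ : Set Ω) := by
    ext c
    constructor
    · rintro ⟨h, rfl⟩
      show (h : G) • b ∈ ({a}ᶜ : Set Ω)
      intro h8
      have h9 : (h : G) • b = a := h8
      have : (h : G) • b = (h : G) • a := by rw [h9, h.2]
      exact hab (MulAction.injective (h : G) this).symm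
    · intro hc
      have hca : c ≠ a := hc
      obtain ⟨t, hta, htb⟩ := h2' a b a c hab (Ne.symm hca)
      exact ⟨⟨t, hta⟩, htb⟩
  have hidx := MulAction.index_stabilizer (MulAction.stabilizer G a) b
  rw [horb, Set.ncard_compl, Set.ncard_singleton, Nat.card_eq_fintype_card] at hidx
  have h1 := hcompl.card_mul_card
  have h4 := Subgroup.card_mul_index (MulAction.stabilizer (MulAction.stabilizer G a) b)
  have hEpos : 0 < Nat.card (MulAction.stabilizer (MulAction.stabilizer G a) b) := Nat.card_pos
  have hKcard : Nat.card K = Fintype.card Ω - 1 := by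
    rw [← hidx]
    have : Nat.card K * Nat.card (MulAction.stabilizer (MulAction.stabilizer G a) b) =
        (MulAction.stabilizer (MulAction.stabilizer G a) b).index *
          Nat.card (MulAction.stabilizer (MulAction.stabilizer G a) b) := by
      rw [h1, ← h4, mul_comm]
    exact Nat.eq_of_mul_eq_mul_right hEpos this
  have hΩpos : 0 < Fintype.card Ω := Fintype.card_pos_iff.mpr ⟨a⟩
  refine ⟨K, hKn, hKnil, hsemi, ?_, by omega⟩
  -- transitivity
  let f : K → {c : Ω // c ≠ a} := fun k => ⟨((k : MulAction.stabilizer G a) : G) • b, by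
    intro h8
    have : ((k : MulAction.stabilizer G a) : G) • b = ((k : MulAction.stabilizer G a) : G) • a := by
      rw [h8, (k : MulAction.stabilizer G a).2]
    exact hab (MulAction.injective _ this).symm⟩
  have hf : Function.Injective f := by
    intro k k' hkk
    have h8 : ((k : MulAction.stabilizer G a) : G) • b = ((k' : MulAction.stabilizer G a) : G) • b :=
      congrArg Subtype.val hkk
    have h9 : (((k'⁻¹ * k : K) : MulAction.stabilizer G a) : G) • b = b := by
      have : (((k'⁻¹ * k : K) : MulAction.stabilizer G a) : G) =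
          ((k' : MulAction.stabilizer G a) : G)⁻¹ * ((k : MulAction.stabilizer G a) : G) := by simp
      rw [this, mul_smul, h8, inv_smul_smul]
    have := hsemi _ (k'⁻¹ * k : K).2 b (Ne.symm hab) h9
    have h10 : (k'⁻¹ * k : K) = 1 := Subtype.ext this
    exact (inv_mul_eq_one.mp h10).symm
  have hcardeq : Nat.card K = Nat.card {c : Ω // c ≠ a} := by
    rw [hKcard, Nat.card_eq_fintype_card, Fintype.card_subtype_compl, Fintype.card_subtype_eq]
  have hbij := (Nat.bijective_iff_injective_and_card f).mpr ⟨hf, hcardeq⟩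
  intro c hca
  obtain ⟨k, hk⟩ := hbij.2 ⟨c, hca⟩
  exact ⟨k, k.2, congrArg Subtype.val hk⟩

end Cfsg.Agent.helper7.Zr
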