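import Mathlib
import Cfsg.Agent.Lib_helper7_Zr2

set_option linter.style.haveILetI false
set_option autoImplicit false

/-!
# Zassenhaus groups with a regular normal subgroup: the regular normal subgroup
-/

namespace Cfsg.Agent.helper7.Zr

open scoped Pointwise

/-- If all non-identity elements of a finite normal subgroup are conjugate, it is commutative. -/
theorem abelian_of_conj {G : Type*} [Group G] [Finite G] (N : Subgroup G) [N.Normal] (n0 : G)
    (hconj : ∀ x ∈ N, x ≠ 1 → ∃ g : G, g * n0 * g⁻¹ = x) : ∀ x ∈ N, ∀ y ∈ N, x * y = y * x := by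
  classical
  by_cases hN : N = ⊥
  · intro x hx y hy
    rw [hN, Subgroup.mem_bot] at hx hy
    rw [hx, hy]
  haveI : Nontrivial N := (Subgroup.nontrivial_iff_ne_bot N).mpr hN
  have hcard : 1 < Nat.card N := Finite.one_lt_card
  obtain ⟨q, hq, hqd⟩ := Nat.exists_prime_and_dvd (by omega : Nat.card N ≠ 1)
  haveI : Fact q.Prime := ⟨hq⟩
  obtain ⟨y0, hy0⟩ := exists_prime_orderOf_dvd_card' (G := N) q hqd
  have hy0' : orderOf (y0 : G) = q := by rw [Subgroup.orderOf_coe]; exact hy0
  have hy01 : (y0 : G) ≠ 1 := by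
    intro h
    rw [h, orderOf_one] at hy0'
    exact hq.one_lt.ne hy0'
  obtain ⟨g1, hg1⟩ := hconj _ y0.2 hy01
  have hoc : ∀ g : G, orderOf (g * n0 * g⁻¹) = orderOf n0 := by
    intro g
    have := MulEquiv.orderOf_eq (MulAut.conj g) n0
    rwa [MulAut.conj_apply] at this
  have hn0 : orderOf n0 = q := by
    rw [← hy0', ← hg1, hoc]
  have hord : ∀ x ∈ N, x ≠ 1 → orderOf x = q := by
    intro x hx hx1
    obtain ⟨g, hg⟩ := hconj x hx hx1
    rw [← hg, ← hn0]
    exact hoc g
  have hP : IsPGroup q N := by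
    intro x
    refine ⟨1, ?_⟩
    by_cases hx : x = 1
    · rw [hx, one_pow]
    · have h1 : orderOf (x : G) = q :=
        hord x x.2 (fun h => hx (Subtype.ext h))
      rw [pow_one]
      apply Subtype.ext
      rw [Subgroup.coe_pow, Subgroup.coe_one, ← h1]
      exact pow_orderOf_eq_one _
  haveI := hP.center_nontrivial
  obtain ⟨z, hz⟩ := exists_ne (1 : Subgroup.center N)
  have hz1 : ((z : N) : G) ≠ 1 := by
    intro h
    apply hz
    apply Subtype.ext
    apply Subtype.ext
    exact h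
  obtain ⟨g2, hg2⟩ := hconj _ (z : N).2 hz1
  have hzc : ∀ w ∈ N, w * ((z : N) : G) = ((z : N) : G) * w := by
    intro w hw
    have := Subgroup.mem_center_iff.mp z.2 ⟨w, hw⟩
    exact congrArg Subtype.val this
  intro x hx y hy
  by_cases hx1 : x = 1
  · rw [hx1, one_mul, mul_one]
  obtain ⟨g3, hg3⟩ := hconj x hx hx1
  -- x = t z t⁻¹ with t = g3 g2⁻¹
  have hn0' : n0 = g2⁻¹ * ((z : N) : G) * g2 := by
    rw [← hg2]; group
  have hxz : x = (g3 * g2⁻¹) * ((z : N) : G) * (g3 * g2⁻¹)⁻¹ := by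
    rw [← hg3, hn0']; group
  have hw : (g3 * g2⁻¹)⁻¹ * y * (g3 * g2⁻¹) ∈ N := by
    have := ‹N.Normal›.conj_mem y hy (g3 * g2⁻¹)⁻¹
    simpa using this
  have h5 := hzc _ hw
  rw [hxz]
  calc (g3 * g2⁻¹) * ((z : N) : G) * (g3 * g2⁻¹)⁻¹ * y
      = (g3 * g2⁻¹) * (((z : N) : G) * ((g3 * g2⁻¹)⁻¹ * y * (g3 * g2⁻¹))) * (g3 * g2⁻¹)⁻¹ := by
        group
    _ = (g3 * g2⁻¹) * (((g3 * g2⁻¹)⁻¹ * y * (g3 * g2⁻¹)) * ((z : N) : G)) * (g3 * g2⁻¹)⁻¹ := by
        rw [h5]
    _ = y * ((g3 * g2⁻¹) * ((z : N) : G) * (g3 * g2⁻¹)⁻¹) := by group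

section

variable {G Ω : Type*} [Group G] [MulAction G Ω]

/-- an element fixing `a` and centralizing the transitive subgroup `N` is trivial -/
theorem eq_one_of_centralizes [FaithfulSMul G Ω] (N : Subgroup G) (a : Ω)
    (hNex : ∀ c : Ω, ∃ x ∈ N, x • a = c) (h : G) (ha : h • a = a)
    (hc : ∀ x ∈ N, h * x = x * h) : h = 1 := by
  apply FaithfulSMul.eq_of_smul_eq_smul (α := Ω)
  intro c
  obtain ⟨x, hx, rfl⟩ := hNex c
  rw [one_smul, ← mul_smul, hc x hx, mul_smul, ha]

/-- an involution of the kernel inverts `N` -/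
theorem invol_inverts (a : Ω)
    (K : Subgroup (MulAction.stabilizer G a))
    (hsemi : ∀ k ∈ K, ∀ c : Ω, c ≠ a → (k : G) • c = c → k = 1)
    (N : Subgroup G) [N.Normal]
    (hNfree : ∀ x ∈ N, ∀ c : Ω, x • c = c → x = 1)
    (hNc : ∀ x ∈ N, ∀ y ∈ N, x * y = y * x)
    (t : MulAction.stabilizer G a) (ht : t ∈ K) (ht1 : t ≠ 1) (htt : (t : G) * (t : G) = 1) :
    ∀ x ∈ N, (t : G) * x * (t : G)⁻¹ = x⁻¹ := by
  intro x hx
  have hinv : (t : G)⁻¹ = (t : G) := inv_eq_of_mul_eq_one_left htt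
  have hx' : (t : G) * x * (t : G)⁻¹ ∈ N := ‹N.Normal›.conj_mem x hx _
  have hy : x * ((t : G) * x * (t : G)⁻¹) ∈ N := N.mul_mem hx hx'
  have hcomm : (t : G) * (x * ((t : G) * x * (t : G)⁻¹)) =
      (x * ((t : G) * x * (t : G)⁻¹)) * (t : G) := by
    have h1 : (t : G) * (x * ((t : G) * x * (t : G)⁻¹)) * (t : G)⁻¹ =
        ((t : G) * x * (t : G)⁻¹) * x := by
      rw [hinv]
      calc (t : G) * (x * ((t : G) * x * (t : G))) * (t : G)
          = (t : G) * x * (t : G) * x * ((t : G) * (t : G)) := by group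
        _ = (t : G) * x * (t : G) * x := by rw [htt, mul_one]
    have h2 : ((t : G) * x * (t : G)⁻¹) * x = x * ((t : G) * x * (t : G)⁻¹) := hNc _ hx' _ hx
    rw [h2] at h1
    calc (t : G) * (x * ((t : G) * x * (t : G)⁻¹))
        = ((t : G) * (x * ((t : G) * x * (t : G)⁻¹)) * (t : G)⁻¹) * (t : G) := by group
      _ = (x * ((t : G) * x * (t : G)⁻¹)) * (t : G) := by rw [h1]
  have hfix : (t : G) • ((x * ((t : G) * x * (t : G)⁻¹)) • a) =
      (x * ((t : G) * x * (t : G)⁻¹)) • a := by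
    rw [← mul_smul, hcomm, mul_smul, t.2]
  have hya : (x * ((t : G) * x * (t : G)⁻¹)) • a = a := by
    by_contra hne
    exact ht1 (hsemi t ht _ hne hfix)
  have hy1 := hNfree _ hy a hya
  exact (eq_inv_of_mul_eq_one_right hy1)

theorem K_odd [FaithfulSMul G Ω]
    (h3 : ∀ g : G, ∀ a b c : Ω, a ≠ b → b ≠ c → a ≠ c → g • a = a → g • b = b → g • c = c → g = 1)
    (g0 : G) (hg0 : g0 ≠ 1) (a b : Ω) (hab : a ≠ b) (hga : g0 • a = a) (hgb : g0 • b = b)
    (K : Subgroup (MulAction.stabilizer G a)) [K.Normal] [Finite K]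
    (hsemi : ∀ k ∈ K, ∀ c : Ω, c ≠ a → (k : G) • c = c → k = 1)
    (N : Subgroup G) [N.Normal]
    (hNex : ∀ c : Ω, ∃ x ∈ N, x • a = c) (hNfree : ∀ x ∈ N, ∀ c : Ω, x • c = c → x = 1)
    (hNc : ∀ x ∈ N, ∀ y ∈ N, x * y = y * x) : ¬ 2 ∣ Nat.card K := by
  intro h2d
  haveI : Fact (Nat.Prime 2) := ⟨Nat.prime_two⟩
  obtain ⟨s, hs⟩ := exists_prime_orderOf_dvd_card' (G := K) 2 h2d
  have hs1 : (s : MulAction.stabilizer G a) ≠ 1 := by
    intro h
    have : s = 1 := Subtype.ext h
    rw [this, orderOf_one] at hs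
    omega
  have hss : s * s = 1 := by
    have := pow_orderOf_eq_one s
    rw [hs, pow_two] at this
    exact this
  have hssG : ((s : MulAction.stabilizer G a) : G) * ((s : MulAction.stabilizer G a) : G) = 1 := by
    have := congrArg (fun k : K => ((k : MulAction.stabilizer G a) : G)) hss
    simpa using this
  -- the conjugate involution
  have he : ∃ e : MulAction.stabilizer G a, (e : G) = g0 := ⟨⟨g0, hga⟩, rfl⟩
  obtain ⟨e, he⟩ := he
  have hs2K : e * (s : MulAction.stabilizer G a) * e⁻¹ ∈ K := ‹K.Normal›.conj_mem _ s.2 e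
  have hs21 : e * (s : MulAction.stabilizer G a) * e⁻¹ ≠ 1 := by
    intro h
    apply hs1
    have : (s : MulAction.stabilizer G a) = e⁻¹ * (e * (s : MulAction.stabilizer G a) * e⁻¹) * e := by
      group
    rw [this, h]; group
  have hs2G : ((e * (s : MulAction.stabilizer G a) * e⁻¹ : MulAction.stabilizer G a) : G) =
      g0 * ((s : MulAction.stabilizer G a) : G) * g0⁻¹ := by
    simp [he]
  have hs2s : ((e * (s : MulAction.stabilizer G a) * e⁻¹ : MulAction.stabilizer G a) : G) *
      ((e * (s : MulAction.stabilizer G a) * e⁻¹ : MulAction.stabilizer G a) : G) = 1 := by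
    rw [hs2G]
    calc g0 * ((s : MulAction.stabilizer G a) : G) * g0⁻¹ *
          (g0 * ((s : MulAction.stabilizer G a) : G) * g0⁻¹)
        = g0 * (((s : MulAction.stabilizer G a) : G) * ((s : MulAction.stabilizer G a) : G)) *
            g0⁻¹ := by group
      _ = 1 := by rw [hssG]; group
  have hinv1 := invol_inverts a K hsemi N hNfree hNc _ s.2 hs1 hssG
  have hinv2 := invol_inverts a K hsemi N hNfree hNc _ hs2K hs21 hs2s
  -- the product centralizes N
  have hprod : ((e * (s : MulAction.stabilizer G a) * e⁻¹ : MulAction.stabilizer G a) : G) *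
      ((s : MulAction.stabilizer G a) : G) = 1 := by
    apply eq_one_of_centralizes N a hNex
    · rw [mul_smul, (s : MulAction.stabilizer G a).2,
        (e * (s : MulAction.stabilizer G a) * e⁻¹ : MulAction.stabilizer G a).2]
    · intro x hx
      have h1 := hinv1 x hx
      have h2 := hinv2 x⁻¹ (N.inv_mem hx)
      rw [inv_inv] at h2
      -- s2 * s1 * x = s2 * x⁻¹ * s1 = x * s2 * s1
      have h1' : ((s : MulAction.stabilizer G a) : G) * x =
          x⁻¹ * ((s : MulAction.stabilizer G a) : G) := by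
        rw [← h1]; group
      have h2' : ((e * (s : MulAction.stabilizer G a) * e⁻¹ : MulAction.stabilizer G a) : G) * x⁻¹ =
          x * ((e * (s : MulAction.stabilizer G a) * e⁻¹ : MulAction.stabilizer G a) : G) := by
        calc ((e * (s : MulAction.stabilizer G a) * e⁻¹ : MulAction.stabilizer G a) : G) * x⁻¹
            = (((e * (s : MulAction.stabilizer G a) * e⁻¹ : MulAction.stabilizer G a) : G) * x⁻¹ *
                ((e * (s : MulAction.stabilizer G a) * e⁻¹ : MulAction.stabilizer G a) : G)⁻¹) *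
                ((e * (s : MulAction.stabilizer G a) * e⁻¹ : MulAction.stabilizer G a) : G) := by
              group
          _ = x * ((e * (s : MulAction.stabilizer G a) * e⁻¹ : MulAction.stabilizer G a) : G) := by
              rw [h2]
      rw [mul_assoc, h1', ← mul_assoc, h2', mul_assoc]
  -- hence g0 commutes with s
  have hcomm : g0 * ((s : MulAction.stabilizer G a) : G) =
      ((s : MulAction.stabilizer G a) : G) * g0 := by
    rw [hs2G] at hprod
    have h5 : g0 * ((s : MulAction.stabilizer G a) : G) * g0⁻¹ =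
        ((s : MulAction.stabilizer G a) : G)⁻¹ := eq_inv_of_mul_eq_one_left hprod
    have h6 : ((s : MulAction.stabilizer G a) : G)⁻¹ = ((s : MulAction.stabilizer G a) : G) :=
      inv_eq_of_mul_eq_one_left hssG
    rw [h6] at h5
    calc g0 * ((s : MulAction.stabilizer G a) : G)
        = (g0 * ((s : MulAction.stabilizer G a) : G) * g0⁻¹) * g0 := by group
      _ = ((s : MulAction.stabilizer G a) : G) * g0 := by rw [h5]
  have hsb : ((s : MulAction.stabilizer G a) : G) • b ≠ b := by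
    intro h
    exact hs1 (hsemi _ s.2 b (Ne.symm hab) h)
  have hsba : ((s : MulAction.stabilizer G a) : G) • b ≠ a := by
    intro h
    have : ((s : MulAction.stabilizer G a) : G) • b = ((s : MulAction.stabilizer G a) : G) • a := by
      rw [h, (s : MulAction.stabilizer G a).2]
    exact hab (MulAction.injective _ this).symm
  have hfix : g0 • (((s : MulAction.stabilizer G a) : G) • b) =
      ((s : MulAction.stabilizer G a) : G) • b := by
    rw [← mul_smul, hcomm, mul_smul, hgb]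
  exact hg0 (h3 g0 a b _ hab (Ne.symm hsb) (Ne.symm hsba) hga hgb hfix)

end

end Cfsg.Agent.helper7.Zr
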