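import Mathlib
import Cfsg.Agent.Lib_helper7_Zr3

set_option linter.style.haveILetI false
set_option autoImplicit false

/-!
# Zassenhaus groups with a regular normal subgroup: the kernel is commutative
-/

namespace Cfsg.Agent.helper7.Zr

open scoped Pointwise

variable {G Ω : Type*} [Group G] [MulAction G Ω]

theorem K_comm [Fintype Ω] [FaithfulSMul G Ω] (a : Ω)
    (K : Subgroup (MulAction.stabilizer G a)) (hKnil : Group.IsNilpotent K)
    (hKodd : ¬ 2 ∣ Nat.card K)
    (hsemi : ∀ k ∈ K, ∀ c : Ω, c ≠ a → (k : G) • c = c → k = 1)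
    (N : Subgroup G) [N.Normal] (hNne : N ≠ ⊥)
    (hNfree : ∀ x ∈ N, ∀ c : Ω, x • c = c → x = 1) :
    ∀ k ∈ K, ∀ k' ∈ K, k * k' = k' * k := by
  classical
  haveI : Finite G := finite_of_faithful (Ω := Ω)
  have hKG : ∀ x : G, x ∈ K.map (MulAction.stabilizer G a).subtype ↔
      ∃ k ∈ K, (k : G) = x := by
    intro x
    rw [Subgroup.mem_map]
    rfl
  have hdisj : ∀ x : G, x ∈ N → x ∈ K.map (MulAction.stabilizer G a).subtype → x = 1 := by
    intro x hxN hxK
    obtain ⟨k, -, rfl⟩ := (hKG x).mp hxK
    exact hNfree _ hxN a k.2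
  have hle : K.map (MulAction.stabilizer G a).subtype ≤
      N ⊔ K.map (MulAction.stabilizer G a).subtype := le_sup_right
  have hleN : N ≤ N ⊔ K.map (MulAction.stabilizer G a).subtype := le_sup_left
  have hcompl : Subgroup.IsComplement'
      (N.subgroupOf (N ⊔ K.map (MulAction.stabilizer G a).subtype))
      ((K.map (MulAction.stabilizer G a).subtype).subgroupOf
        (N ⊔ K.map (MulAction.stabilizer G a).subtype)) := by
    apply Subgroup.isComplement'_of_disjoint_and_mul_eq_univ
    · rw [Subgroup.disjoint_def]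
      intro x hx1 hx2
      rw [Subgroup.mem_subgroupOf] at hx1 hx2
      exact Subtype.ext (hdisj _ hx1 hx2)
    · rw [Set.eq_univ_iff_forall]
      intro x
      have hx : (x : G) ∈ ((N ⊔ K.map (MulAction.stabilizer G a).subtype : Subgroup G) : Set G) :=
        x.2
      rw [Subgroup.normal_mul] at hx
      obtain ⟨n, hn, k, hk, hnk⟩ := hx
      refine ⟨⟨n, hleN hn⟩, ?_, ⟨k, hle hk⟩, ?_, ?_⟩
      · exact Subgroup.mem_subgroupOf.mpr hn
      · exact Subgroup.mem_subgroupOf.mpr hk
      · exact Subtype.ext hnk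
  have hN' : N.subgroupOf (N ⊔ K.map (MulAction.stabilizer G a).subtype) ≠ ⊥ := by
    intro h
    apply hNne
    rw [eq_bot_iff]
    intro x hx
    have : (⟨x, hleN hx⟩ : (N ⊔ K.map (MulAction.stabilizer G a).subtype : Subgroup G)) ∈
        N.subgroupOf (N ⊔ K.map (MulAction.stabilizer G a).subtype) :=
      Subgroup.mem_subgroupOf.mpr hx
    rw [h, Subgroup.mem_bot] at this
    rw [Subgroup.mem_bot]
    exact congrArg Subtype.val this
  have hfpf : ∀ h ∈ (K.map (MulAction.stabilizer G a).subtype).subgroupOf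
        (N ⊔ K.map (MulAction.stabilizer G a).subtype), h ≠ 1 →
      N.subgroupOf (N ⊔ K.map (MulAction.stabilizer G a).subtype) ⊓
        Subgroup.centralizer {h} = ⊥ := by
    intro h hh hh1
    rw [eq_bot_iff]
    intro x hx
    obtain ⟨hx1, hx2⟩ := Subgroup.mem_inf.mp hx
    rw [Subgroup.mem_subgroupOf] at hx1 hh
    rw [Subgroup.mem_centralizer_singleton_iff] at hx2
    obtain ⟨k, hk, hkh⟩ := (hKG _).mp hh
    have hk1 : k ≠ 1 := by
      intro h1
      apply hh1
      apply Subtype.ext
      rw [← hkh, h1]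
      rfl
    have hcomm : (x : G) * (h : G) = (h : G) * (x : G) := by
      have := congrArg Subtype.val hx2
      simpa using this
    have hfix : (k : G) • ((x : G) • a) = (x : G) • a := by
      rw [hkh, ← mul_smul, ← hcomm, mul_smul, ← hkh, k.2]
    have hxa : (x : G) • a = a := by
      by_contra hne
      exact hk1 (hsemi k hk _ hne hfix)
    rw [Subgroup.mem_bot]
    exact Subtype.ext (hNfree _ hx1 a hxa)
  -- the isomorphism
  let e : K ≃* ((K.map (MulAction.stabilizer G a).subtype).subgroupOf
        (N ⊔ K.map (MulAction.stabilizer G a).subtype)) :=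
    (K.equivMapOfInjective _ (Subgroup.subtype_injective _)).trans
      (Subgroup.subgroupOfEquivOfLe hle).symm
  have hcardK' : Nat.card ((K.map (MulAction.stabilizer G a).subtype).subgroupOf
        (N ⊔ K.map (MulAction.stabilizer G a).subtype)) = Nat.card K :=
    (Nat.card_congr e.toEquiv).symm
  have hnil' : Group.IsNilpotent ((K.map (MulAction.stabilizer G a).subtype).subgroupOf
        (N ⊔ K.map (MulAction.stabilizer G a).subtype)) :=
    Group.nilpotent_of_mulEquiv e
  have hcyc : ∀ (p : ℕ) [Fact p.Prime] (P : Sylow p ((K.map (MulAction.stabilizer G a).subtype).subgroupOf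
        (N ⊔ K.map (MulAction.stabilizer G a).subtype))), IsCyclic P := by
    intro p _ P
    rcases Cfsg.Agent.S0040.result _ _ hcompl hN' hfpf p P with h | ⟨n, ⟨f⟩⟩
    · exact h
    · exfalso
      apply hKodd
      rw [← hcardK']
      have h1 : Nat.card P = 4 * 2 ^ n := by
        rw [Nat.card_congr f.toEquiv, Nat.card_eq_fintype_card, QuaternionGroup.card]
      have h2 : Nat.card P ∣ Nat.card ((K.map (MulAction.stabilizer G a).subtype).subgroupOf
        (N ⊔ K.map (MulAction.stabilizer G a).subtype)) := Subgroup.card_subgroup_dvd_card _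
      rw [h1] at h2
      exact (Dvd.intro _ (by ring : 2 * (2 * 2 ^ n) = 4 * 2 ^ n)).trans h2
  have hcomm' := comm_of_nilpotent_cyclic_sylow hnil' hcyc
  intro k hk k' hk'
  have h1 := hcomm' (e ⟨k, hk⟩) (e ⟨k', hk'⟩)
  rw [← map_mul, ← map_mul] at h1
  have h2 := e.injective h1
  exact congrArg Subtype.val h2

end Cfsg.Agent.helper7.Zr
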