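import Mathlib
import Cfsg.Agent.Lib_helper7_Zr1
import Cfsg.Agent.Lib_helper7_Zr4

set_option linter.style.haveILetI false
set_option autoImplicit false

/-!
# Zassenhaus groups with a regular normal subgroup: degree `2 ^ p`
-/

namespace Cfsg.Agent.helper7.Zr

open scoped Pointwise

variable {G Ω : Type*} [Group G] [MulAction G Ω]

theorem zassenhaus_regular_normal [Fintype Ω] [FaithfulSMul G Ω]
    (h2 : MulAction.IsMultiplyPretransitive G Ω 2)
    (h3 : ∀ g : G, ∀ a b c : Ω, a ≠ b → b ≠ c → a ≠ c → g • a = a → g • b = b → g • c = c → g = 1)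
    (hfix : ∃ g : G, g ≠ 1 ∧ ∃ a b : Ω, a ≠ b ∧ g • a = a ∧ g • b = b)
    (N : Subgroup G) [N.Normal] (hNt : MulAction.IsPretransitive N Ω)
    (hNr : ∀ a : Ω, MulAction.stabilizer N a = ⊥) :
    ∃ p : ℕ, p.Prime ∧ Fintype.card Ω = 2 ^ p := by
  classical
  obtain ⟨g0, hg0, a, b, hab, hga, hgb⟩ := hfix
  haveI : Finite G := finite_of_faithful (Ω := Ω)
  obtain ⟨K, hKn, hKnil, hsemi, htrans, hKcard⟩ := kernel_data h2 h3 g0 hg0 a b hab hga hgb
  have hNex : ∀ c : Ω, ∃ x ∈ N, x • a = c := by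
    intro c
    obtain ⟨g, hg⟩ := hNt.exists_smul_eq a c
    exact ⟨g, g.2, hg⟩
  have hNfree : ∀ x ∈ N, ∀ c : Ω, x • c = c → x = 1 := by
    intro x hx c hxc
    have : (⟨x, hx⟩ : N) ∈ MulAction.stabilizer N c := by
      rw [MulAction.mem_stabilizer_iff]; exact hxc
    rw [hNr c, Subgroup.mem_bot] at this
    exact congrArg Subtype.val this
  have hNinj : ∀ x ∈ N, ∀ y ∈ N, x • a = y • a → x = y := by
    intro x hx y hy hxy
    have h1 : (y⁻¹ * x) • a = a := by rw [mul_smul, hxy, inv_smul_smul]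
    have := hNfree _ (N.mul_mem (N.inv_mem hy) hx) a h1
    exact (inv_mul_eq_one.mp this).symm
  obtain ⟨n0, hn0N, hn0⟩ := hNex b
  have hconj_smul : ∀ k : MulAction.stabilizer G a, ((k : G) * n0 * (k : G)⁻¹) • a = (k : G) • b := by
    intro k
    have hk : (k : G)⁻¹ • a = a := by
      have := k.2
      rw [MulAction.mem_stabilizer_iff] at this
      rw [inv_smul_eq_iff, this]
    rw [mul_smul, mul_smul, hk, hn0]
  have hconjK : ∀ x ∈ N, x ≠ 1 → ∃ k ∈ K, (k : G) * n0 * (k : G)⁻¹ = x := by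
    intro x hx hx1
    have hxa : x • a ≠ a := fun h => hx1 (hNfree x hx a h)
    obtain ⟨k, hk, hkb⟩ := htrans (x • a) hxa
    refine ⟨k, hk, ?_⟩
    apply hNinj _ (‹N.Normal›.conj_mem n0 hn0N _) _ hx
    rw [hconj_smul, hkb]
  have hNc := abelian_of_conj N n0 (fun x hx hx1 => by
    obtain ⟨k, _, h⟩ := hconjK x hx hx1
    exact ⟨k, h⟩)
  haveI : Finite K := inferInstance
  have hKodd := K_odd h3 g0 hg0 a b hab hga hgb K hsemi N hNex hNfree hNc
  have hn01 : n0 ≠ 1 := by
    intro h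
    rw [h, one_smul] at hn0
    exact hab hn0
  have hNne : N ≠ ⊥ := by
    intro h
    rw [h, Subgroup.mem_bot] at hn0N
    exact hn01 hn0N
  have hKc := K_comm a K hKnil hKodd hsemi N hNne hNfree
  -- an element of prime order in the two point stabilizer
  have hord0 : orderOf g0 ≠ 1 := fun h => hg0 (orderOf_eq_one_iff.mp h)
  obtain ⟨r, hr, hrd⟩ := Nat.exists_prime_and_dvd hord0
  have hordpos0 : 0 < orderOf g0 := orderOf_pos g0
  have hordpos : orderOf g0 ≠ 0 := hordpos0.ne'
  have hg1ord : orderOf (g0 ^ (orderOf g0 / r)) = r := orderOf_pow_orderOf_div hordpos hrd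
  have hg1a : (g0 ^ (orderOf g0 / r)) • a = a :=
    (MulAction.stabilizer G a).pow_mem (MulAction.mem_stabilizer_iff.mpr hga) _
  have hg1b : (g0 ^ (orderOf g0 / r)) • b = b :=
    (MulAction.stabilizer G b).pow_mem (MulAction.mem_stabilizer_iff.mpr hgb) _
  have hg11 : g0 ^ (orderOf g0 / r) ≠ 1 := by
    intro h
    rw [h, orderOf_one] at hg1ord
    exact hr.one_lt.ne hg1ord
  have hg1r : (g0 ^ (orderOf g0 / r)) ^ r = 1 := by
    have := pow_orderOf_eq_one (g0 ^ (orderOf g0 / r))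
    rwa [hg1ord] at this
  -- set up the field lemma
  letI : CommGroup N :=
    { (inferInstance : Group N) with
      mul_comm := fun x y => Subtype.ext (hNc x x.2 y y.2) }
  haveI : Fintype N := Fintype.ofFinite N
  have hρ : ∃ ρ : MulAction.stabilizer G a →* MulAut N,
      ∀ (k : MulAction.stabilizer G a) (x : N), ((ρ k x : N) : G) = (k : G) * x * (k : G)⁻¹ :=
    ⟨(MulAut.conjNormal (H := N)).comp (MulAction.stabilizer G a).subtype, fun k x => rfl⟩
  obtain ⟨ρ, hρ⟩ := hρ
  have hv0 : (⟨n0, hn0N⟩ : N) ≠ 1 := fun h => hn01 (congrArg Subtype.val h)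
  have key := card_of_regular (V := N) (K.map ρ)
    (by
      rintro _ ⟨k, hk, rfl⟩ _ ⟨k', hk', rfl⟩
      rw [← map_mul, ← map_mul, hKc k hk k' hk'])
    ⟨n0, hn0N⟩ hv0
    (by
      intro v hv
      have hv1 : (v : G) ≠ 1 := fun h => hv (Subtype.ext h)
      obtain ⟨k, hk, hkv⟩ := hconjK v v.2 hv1
      refine ⟨ρ k, Subgroup.mem_map_of_mem ρ hk, ?_⟩
      apply Subtype.ext
      rw [hρ]
      exact hkv)
    (by
      rintro _ ⟨k, hk, rfl⟩ _ ⟨k', hk', rfl⟩ hkk
      have h1 : (k : G) * n0 * (k : G)⁻¹ = (k' : G) * n0 * (k' : G)⁻¹ := by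
        have := congrArg Subtype.val hkk
        rwa [hρ, hρ] at this
      have h4 : (k : G) • b = (k' : G) • b := by
        rw [← hconj_smul, ← hconj_smul, h1]
      have h5 : ((k'⁻¹ * k : MulAction.stabilizer G a) : G) • b = b := by
        have : ((k'⁻¹ * k : MulAction.stabilizer G a) : G) = (k' : G)⁻¹ * (k : G) := by simp
        rw [this, mul_smul, h4, inv_smul_smul]
      have h6 := hsemi _ (K.mul_mem (K.inv_mem hk') hk) b (Ne.symm hab) h5
      rw [inv_mul_eq_one.mp h6])
    (ρ ⟨g0 ^ (orderOf g0 / r), hg1a⟩)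
    (by
      rintro _ ⟨k, hk, rfl⟩
      rw [← map_inv, ← map_mul, ← map_mul]
      exact Subgroup.mem_map_of_mem ρ (hKn.conj_mem k hk _))
    (by
      apply Subtype.ext
      rw [hρ]
      apply hNinj _ (‹N.Normal›.conj_mem n0 hn0N _) _ hn0N
      have := hconj_smul ⟨g0 ^ (orderOf g0 / r), hg1a⟩
      rw [this, hn0]
      exact hg1b)
    r hr
    (by
      rw [← map_pow]
      have : (⟨g0 ^ (orderOf g0 / r), hg1a⟩ : MulAction.stabilizer G a) ^ r = 1 := by
        apply Subtype.ext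
        rw [Subgroup.coe_pow]
        exact hg1r
      rw [this, map_one])
    (by
      intro h
      apply hg11
      apply eq_one_of_centralizes N a hNex _ hg1a
      intro x hx
      have h1 := congrArg (fun f : MulAut N => ((f ⟨x, hx⟩ : N) : G)) h
      simp only [hρ, MulAut.one_apply] at h1
      calc g0 ^ (orderOf g0 / r) * x
          = (g0 ^ (orderOf g0 / r) * x * (g0 ^ (orderOf g0 / r))⁻¹) * g0 ^ (orderOf g0 / r) := by
            group
        _ = x * g0 ^ (orderOf g0 / r) := by rw [h1])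
    (by
      intro v hv
      have h1 : g0 ^ (orderOf g0 / r) * (v : G) * (g0 ^ (orderOf g0 / r))⁻¹ = (v : G) := by
        have := congrArg Subtype.val hv
        rwa [hρ] at this
      have h4 : g0 ^ (orderOf g0 / r) * (v : G) = (v : G) * g0 ^ (orderOf g0 / r) := by
        calc g0 ^ (orderOf g0 / r) * (v : G)
            = (g0 ^ (orderOf g0 / r) * (v : G) * (g0 ^ (orderOf g0 / r))⁻¹) *
                g0 ^ (orderOf g0 / r) := by group
          _ = (v : G) * g0 ^ (orderOf g0 / r) := by rw [h1]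
      have hfixv : (g0 ^ (orderOf g0 / r)) • ((v : G) • a) = (v : G) • a := by
        rw [← mul_smul, h4, mul_smul, hg1a]
      by_cases hva : (v : G) • a = a
      · left
        exact Subtype.ext (hNfree _ v.2 a hva)
      · right
        by_cases hvb : (v : G) • a = b
        · apply Subtype.ext
          apply hNinj _ v.2 _ hn0N
          rw [hvb, hn0]
        · exfalso
          exact hg11 (h3 _ a b _ hab (Ne.symm hvb) (Ne.symm hva) hg1a hg1b hfixv))
  refine ⟨r, hr, ?_⟩
  rw [← key]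
  symm
  apply Fintype.card_congr
  exact Equiv.ofBijective (fun x : N => (x : G) • a)
    ⟨fun x y hxy => Subtype.ext (hNinj _ x.2 _ y.2 hxy), fun c => by
      obtain ⟨x, hx, hxc⟩ := hNex c
      exact ⟨⟨x, hx⟩, hxc⟩⟩

end Cfsg.Agent.helper7.Zr
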