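import Mathlib
import Cfsg.Prelude.Def_Transfer
import Cfsg.Agent.Lib_helper10_NPC

set_option autoImplicit false

/-!
# Cyclic Sylow subgroups: coprime automorphisms act without fixed points
-/

namespace Cfsg.Agent.helper8cs

open Subgroup

/-- A coprime-order endomorphism of a cyclic `p`-group fixing a nontrivial element is trivial. -/
theorem fix_all {A : Type*} [CommGroup A] [Finite A] [IsCyclic A] {p : ℕ} [hp : Fact p.Prime]
    (hA : IsPGroup p A) (φ : A →* A) (k : ℕ) (hk : k.Coprime p) (hφk : ∀ a, φ^[k] a = a)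
    (u : A) (hu : u ≠ 1) (hfix : φ u = u) : ∀ a : A, φ a = a := by
  classical
  haveI : Fintype A := Fintype.ofFinite A
  have hS : ∀ c : A, c ^ p = 1 → φ c = c := by
    obtain ⟨n, hn⟩ := (IsPGroup.iff_orderOf.mp hA) u
    have hn0 : n ≠ 0 := by
      rintro rfl
      rw [pow_zero, orderOf_eq_one_iff] at hn; exact hu hn
    obtain ⟨m, rfl⟩ := Nat.exists_eq_succ_of_ne_zero hn0
    obtain ⟨u', hu'⟩ : ∃ u', u' = u ^ (p ^ m) := ⟨_, rfl⟩
    have hu'ord : orderOf u' = p := by
      rw [hu', orderOf_pow_of_dvd (pow_ne_zero _ hp.out.ne_zero) (by rw [hn]; exact pow_dvd_pow p (Nat.le_succ m)), hn,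
        Nat.pow_div (Nat.le_succ m) hp.out.pos]
      simp
    have hu'fix : φ u' = u' := by rw [hu', map_pow, hfix]
    intro c hc
    have hsub : (Finset.univ.filter fun a : A => a ^ p = 1).card ≤ p :=
      IsCyclic.card_pow_eq_one_le hp.out.pos
    have hz : ((zpowers u' : Set A).toFinset) ⊆ Finset.univ.filter fun a : A => a ^ p = 1 := by
      intro a ha
      simp only [Set.mem_toFinset, SetLike.mem_coe] at ha
      obtain ⟨i, rfl⟩ := ha
      simp only [Finset.mem_filter, Finset.mem_univ, true_and]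
      rw [← zpow_natCast, ← zpow_mul, mul_comm, zpow_mul, zpow_natCast, ← hu'ord, pow_orderOf_eq_one,
        one_zpow]
    have hcardz : ((zpowers u' : Set A).toFinset).card = p := by
      rw [Set.toFinset_card, ← Nat.card_eq_fintype_card]
      exact (Nat.card_zpowers u').trans hu'ord
    have heq := Finset.eq_of_subset_of_card_le hz (by rw [hcardz]; exact hsub)
    have hcin : c ∈ (zpowers u' : Set A).toFinset := by
      rw [heq]; simp [hc]
    simp only [Set.mem_toFinset, SetLike.mem_coe] at hcin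
    obtain ⟨i, rfl⟩ := hcin
    rw [map_zpow, hu'fix]
  intro a
  induction' hn : orderOf a using Nat.strong_induction_on with n ih generalizing a
  by_cases ha : a = 1
  · rw [ha, map_one]
  have hpd : p ∣ orderOf a := by
    obtain ⟨j, hj⟩ := (IsPGroup.iff_orderOf.mp hA) a
    rw [hj]
    have : j ≠ 0 := by rintro rfl; rw [pow_zero, orderOf_eq_one_iff] at hj; exact ha hj
    exact dvd_pow_self p this
  have hlt : orderOf (a ^ p) < n := by
    rw [← hn, orderOf_pow_of_dvd hp.out.ne_zero hpd]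
    exact Nat.div_lt_self (orderOf_pos a) hp.out.one_lt
  have hap : φ (a ^ p) = a ^ p := ih _ hlt (a ^ p) rfl
  obtain ⟨c, hc⟩ : ∃ c, c = a⁻¹ * φ a := ⟨_, rfl⟩
  have hcp : c ^ p = 1 := by
    rw [hc, mul_pow, inv_pow, ← map_pow, hap, inv_mul_cancel]
  have hcfix : φ c = c := hS c hcp
  have hφa : φ a = a * c := by rw [hc, mul_inv_cancel_left]
  have hiter : ∀ j : ℕ, φ^[j] a = a * c ^ j := by
    intro j
    induction j with
    | zero => simp
    | succ j ihj =>
      rw [Function.iterate_succ_apply', ihj, map_mul, map_pow, hcfix, hφa, mul_assoc, ← pow_succ']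
  have hck : c ^ k = 1 := by
    have := hiter k
    rw [hφk] at this
    have h2 : a * c ^ k = a * 1 := by rw [mul_one]; exact this.symm
    exact mul_left_cancel h2
  have hc1 : c = 1 := by
    have h1 : orderOf c ∣ k := orderOf_dvd_of_pow_eq_one hck
    have h2 : orderOf c ∣ p := orderOf_dvd_of_pow_eq_one hcp
    have := Nat.dvd_gcd h1 h2
    rw [Nat.Coprime.gcd_eq_one hk] at this
    exact orderOf_eq_one_iff.mp (Nat.dvd_one.mp this)
  rw [hφa, hc1, mul_one]

/-- In a finite commutative group, an endomorphism without nontrivial fixed points makes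
`a ↦ a⁻¹ φ a` surjective. -/
theorem comm_surj {A : Type*} [CommGroup A] [Finite A] (φ : A →* A)
    (hfpf : ∀ a, φ a = a → a = 1) (b : A) : ∃ a, b = a⁻¹ * φ a := by
  let ψ : A →* A :=
    { toFun := fun a => a⁻¹ * φ a
      map_one' := by simp
      map_mul' := by
        intro a b
        rw [map_mul, mul_inv]
        exact mul_mul_mul_comm _ _ _ _ }
  have hinj : Function.Injective ψ := by
    rw [injective_iff_map_eq_one]
    intro a ha
    apply hfpf
    have : a⁻¹ * φ a = 1 := ha
    exact (inv_mul_eq_one.mp this).symm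
  obtain ⟨a, ha⟩ := (Finite.injective_iff_surjective.mp hinj) b
  exact ⟨a, ha.symm⟩


variable {G : Type*} [Group G]

/-- Conjugation by a normalizing element as an endomorphism. -/
def conjEnd (H : Subgroup G) (x : G) (hx : x ∈ Subgroup.normalizer (H : Set G)) : ↥H →* ↥H where
  toFun v := ⟨x * v * x⁻¹, (Subgroup.mem_normalizer_iff.mp hx v).mp v.2⟩
  map_one' := by ext; simp
  map_mul' a b := by ext; simp [mul_assoc]

theorem conjEnd_iterate (H : Subgroup G) (x : G) (hx : x ∈ Subgroup.normalizer (H : Set G)) (j : ℕ)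
    (v : ↥H) : (((conjEnd H x hx)^[j] v : ↥H) : G) = x ^ j * v * (x ^ j)⁻¹ := by
  induction j with
  | zero => simp
  | succ j ih =>
    rw [Function.iterate_succ_apply']
    show x * ((conjEnd H x hx)^[j] v : ↥H) * x⁻¹ = _
    rw [ih, pow_succ']
    group

variable [Finite G] {p : ℕ} [hp : Fact p.Prime]

theorem cyc_fix_all (H : Subgroup G) (hH : IsPGroup p H) (hcyc : IsCyclic H) (x : G)
    (hxn : x ∈ Subgroup.normalizer (H : Set G)) (hx : (orderOf x).Coprime p)
    (u : G) (huH : u ∈ H) (hu1 : u ≠ 1) (hfix : x * u * x⁻¹ = u) :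
    ∀ v ∈ H, x * v * x⁻¹ = v := by
  letI : CommGroup ↥H := IsCyclic.commGroup
  intro v hv
  have key := fix_all (A := ↥H) hH (conjEnd H x hxn) (orderOf x) hx
    (by
      intro a
      apply Subtype.ext
      rw [conjEnd_iterate, pow_orderOf_eq_one]
      simp)
    ⟨u, huH⟩ (by intro h; exact hu1 (congrArg Subtype.val h)) (Subtype.ext hfix) ⟨v, hv⟩
  exact congrArg Subtype.val key

theorem cyc_comm_surj (H : Subgroup G) (hcyc : IsCyclic H) (x : G)
    (hxn : x ∈ Subgroup.normalizer (H : Set G))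
    (hfpf : ∀ u ∈ H, x * u * x⁻¹ = u → u = 1) :
    ∀ v ∈ H, ∃ u ∈ H, v = u⁻¹ * (x * u * x⁻¹) := by
  letI : CommGroup ↥H := IsCyclic.commGroup
  intro v hv
  obtain ⟨a, ha⟩ := comm_surj (A := ↥H) (conjEnd H x hxn)
    (by
      intro a ha
      apply Subtype.ext
      exact hfpf a a.2 (congrArg Subtype.val ha)) ⟨v, hv⟩
  exact ⟨a, a.2, congrArg Subtype.val ha⟩

/-- A `p`-element normalizing a Sylow `p`-subgroup lies in it. -/
theorem pelem_mem_sylow (P : Sylow p G) (g : G) (hg : g ∈ Subgroup.normalizer ((P : Subgroup G) : Set G))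
    (k : ℕ) (hk : g ^ (p ^ k) = 1) : g ∈ (P : Subgroup G) := by
  have hZ : IsPGroup p (Subgroup.zpowers g) := by
    rintro ⟨a, ha⟩
    obtain ⟨i, rfl⟩ := Subgroup.mem_zpowers_iff.mp ha
    refine ⟨k, Subtype.ext ?_⟩
    show (g ^ i) ^ (p ^ k) = 1
    rw [← zpow_natCast, ← zpow_mul, mul_comm, zpow_mul, zpow_natCast, hk, one_zpow]
  have hle : Subgroup.zpowers g ≤ Subgroup.normalizer ((P : Subgroup G) : Set G) := by
    rw [Subgroup.zpowers_le]; exact hg
  have hsup : IsPGroup p (Subgroup.zpowers g ⊔ (P : Subgroup G) : Subgroup G) :=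
    IsPGroup.to_sup_of_normal_right' hZ P.isPGroup' hle
  have := P.is_maximal' hsup le_sup_right
  have h2 : Subgroup.zpowers g ≤ (P : Subgroup G) := by
    rw [← this]; exact le_sup_left
  exact h2 (Subgroup.mem_zpowers g)

/-- If every coprime-order element of `N(P)` centralizes the commutative Sylow subgroup `P`,
then `N(P) ≤ C(P)`. -/
theorem normalizer_le_centralizer_of (P : Sylow p G)
    (hcomm : ∀ a ∈ (P : Subgroup G), ∀ b ∈ (P : Subgroup G), a * b = b * a)
    (h : ∀ x ∈ Subgroup.normalizer ((P : Subgroup G) : Set G), (orderOf x).Coprime p →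
      x ∈ Subgroup.centralizer ((P : Subgroup G) : Set G)) :
    Subgroup.normalizer ((P : Subgroup G) : Set G) ≤ Subgroup.centralizer ((P : Subgroup G) : Set G) := by
  intro y hy
  -- decompose the order of y
  obtain ⟨a, m, hm, hord⟩ : ∃ a m : ℕ, ¬ p ∣ m ∧ orderOf y = p ^ a * m :=
    Nat.exists_eq_pow_mul_and_not_dvd (orderOf_pos y).ne' p hp.out.ne_one
  have hcop : Nat.Coprime (p ^ a) m :=
    Nat.Coprime.pow_left a ((Nat.Prime.coprime_iff_not_dvd hp.out).mpr hm)
  have h1 : y ^ (p ^ a) ∈ Subgroup.centralizer ((P : Subgroup G) : Set G) := by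
    apply h _ (Subgroup.pow_mem _ hy _)
    have ho : orderOf (y ^ (p ^ a)) = m := by
      rw [orderOf_pow_of_dvd (pow_ne_zero _ hp.out.ne_zero) (by rw [hord]; exact dvd_mul_right _ _), hord,
        Nat.mul_div_cancel_left _ (pow_pos hp.out.pos a)]
    rw [ho, Nat.coprime_comm]
    exact (Nat.Prime.coprime_iff_not_dvd hp.out).mpr hm
  have h2 : y ^ m ∈ Subgroup.centralizer ((P : Subgroup G) : Set G) := by
    have hmem : y ^ m ∈ (P : Subgroup G) := by
      apply pelem_mem_sylow P _ (Subgroup.pow_mem _ hy _) a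
      rw [← pow_mul, mul_comm, ← hord, pow_orderOf_eq_one]
    rw [Subgroup.mem_centralizer_iff]
    intro b hb
    exact hcomm b hb _ hmem
  -- Bezout
  have hb := Int.gcd_eq_gcd_ab (p ^ a : ℕ) m
  have hg1 : Int.gcd ((p ^ a : ℕ) : ℤ) (m : ℤ) = 1 := by
    rw [Int.gcd_natCast_natCast]; exact hcop
  rw [hg1] at hb
  have : y = (y ^ (p ^ a)) ^ (Int.gcdA (p ^ a : ℕ) m) * (y ^ m) ^ (Int.gcdB (p ^ a : ℕ) m) := by
    rw [← zpow_natCast, ← zpow_natCast, ← zpow_mul, ← zpow_mul, ← zpow_add]
    have h3 : ((p ^ a : ℕ) : ℤ) * Int.gcdA (p ^ a : ℕ) m + (m : ℤ) * Int.gcdB (p ^ a : ℕ) m = 1 := by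
      rw [← hb]; rfl
    rw [h3, zpow_one]
  rw [this]
  exact Subgroup.mul_mem _ (Subgroup.zpow_mem _ h1 _) (Subgroup.zpow_mem _ h2 _)

/-- L1: without a normal `p`-complement, some coprime-order element of `N(P)` does not centralize
the cyclic Sylow subgroup `P`. -/
theorem exists_coprime_normalizer (P : Sylow p G) (hcyc : IsCyclic P)
    (hno : ¬ Cfsg.HasNormalPComplement p G) :
    ∃ x ∈ Subgroup.normalizer ((P : Subgroup G) : Set G), (orderOf x).Coprime p ∧
      x ∉ Subgroup.centralizer ((P : Subgroup G) : Set G) := by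
  by_contra hcon
  push Not at hcon
  have hcomm : ∀ a ∈ (P : Subgroup G), ∀ b ∈ (P : Subgroup G), a * b = b * a := by
    intro a ha b hb
    letI : CommGroup ↥(P : Subgroup G) := IsCyclic.commGroup
    exact congrArg Subtype.val (mul_comm (⟨a, ha⟩ : ↥(P : Subgroup G)) ⟨b, hb⟩)
  have hNC := normalizer_le_centralizer_of P hcomm hcon
  exact hno ⟨P, _, inferInstance, MonoidHom.ker_transferSylow_isComplement' P hNC⟩

end Cfsg.Agent.helper8cs
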