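import Mathlib
import Cfsg.Prelude.Def_Transfer
import Cfsg.Agent.Lib_helper10_NPC
import Cfsg.Agent.Lib_helper8_CS1

set_option autoImplicit false

/-!
# Cyclic Sylow subgroup and abelian `p'`-subgroups: reduction steps
-/

universe u

namespace Cfsg.Agent.helper8cs

open Subgroup

/-- Every subgroup of order prime to `p` is commutative. -/
def AbP' (p : ℕ) (G : Type*) [Group G] : Prop :=
  ∀ H : Subgroup G, ¬ p ∣ Nat.card H → IsMulCommutative H

/-- The conclusion of the dichotomy. -/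
def Concl (p : ℕ) (G : Type*) [Group G] : Prop :=
  ∀ P : Sylow p G, IsCyclic P → Cfsg.HasNormalPComplement p G ∨ (P : Subgroup G).Normal

section basic

variable {G : Type*} [Group G] [Finite G] {p : ℕ} [hp : Fact p.Prime]

theorem not_dvd_card_of_forall (H : Subgroup G) (h : ∀ x ∈ H, orderOf x = p → False) :
    ¬ p ∣ Nat.card H := by
  intro hd
  obtain ⟨x, hx⟩ := exists_prime_orderOf_dvd_card' p hd
  exact h x x.2 (by rw [← hx, Subgroup.orderOf_coe])

theorem AbP'.comm {H : Subgroup G} (hab : AbP' p G) (hH : ¬ p ∣ Nat.card H) {a b : G} (ha : a ∈ H)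
    (hb : b ∈ H) : a * b = b * a := by
  have := (hab H hH).is_comm.comm ⟨a, ha⟩ ⟨b, hb⟩
  exact congrArg Subtype.val this

theorem AbP'.subgroup (hab : AbP' p G) (H : Subgroup G) : AbP' p ↥H := by
  intro K hK
  have hc : Nat.card (K.map H.subtype) = Nat.card K :=
    Subgroup.card_map_of_injective H.subtype_injective
  have hK' : ¬ p ∣ Nat.card (K.map H.subtype) := by rw [hc]; exact hK
  refine ⟨⟨fun a b => ?_⟩⟩
  apply Subtype.ext
  apply Subtype.ext
  exact hab.comm hK' (Subgroup.mem_map_of_mem _ a.2) (Subgroup.mem_map_of_mem _ b.2)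

theorem AbP'.quotient (hab : AbP' p G) (N : Subgroup G) [N.Normal] (hN : ¬ p ∣ Nat.card N) :
    AbP' p (G ⧸ N) := by
  intro Hb hHb
  have hH : ¬ p ∣ Nat.card (Hb.comap (QuotientGroup.mk' N)) := by
    apply not_dvd_card_of_forall
    intro x hx hox
    have hx' : (QuotientGroup.mk' N) x ∈ Hb := hx
    have hdvd : orderOf ((QuotientGroup.mk' N) x) ∣ p := by
      rw [← hox]; exact orderOf_map_dvd _ x
    rcases (Nat.dvd_prime hp.out).mp hdvd with h1 | h1
    · rw [orderOf_eq_one_iff] at h1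
      have hxN : x ∈ N := by rwa [← QuotientGroup.ker_mk' N, MonoidHom.mem_ker]
      apply hN
      have := orderOf_dvd_natCard (⟨x, hxN⟩ : ↥N)
      rwa [Subgroup.orderOf_mk, hox] at this
    · apply hHb
      have := orderOf_dvd_natCard (⟨_, hx'⟩ : ↥Hb)
      rwa [Subgroup.orderOf_mk, h1] at this
  refine ⟨⟨fun a b => ?_⟩⟩
  obtain ⟨a', ha'⟩ := QuotientGroup.mk'_surjective N a.1
  obtain ⟨b', hb'⟩ := QuotientGroup.mk'_surjective N b.1
  have ha'' : a' ∈ Hb.comap (QuotientGroup.mk' N) := by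
    show (QuotientGroup.mk' N) a' ∈ Hb
    rw [ha']; exact a.2
  have hb'' : b' ∈ Hb.comap (QuotientGroup.mk' N) := by
    show (QuotientGroup.mk' N) b' ∈ Hb
    rw [hb']; exact b.2
  have hc := hab.comm hH ha'' hb''
  apply Subtype.ext
  show a.1 * b.1 = b.1 * a.1
  rw [← ha', ← hb', ← map_mul, ← map_mul, hc]

/-- `N ⊔ ⟨x⟩` has order prime to `p` when `N` is a normal `p'`-subgroup and `x` has coprime order. -/
theorem not_dvd_card_sup_zpowers (N : Subgroup G) [N.Normal] (hN : ¬ p ∣ Nat.card N) (x : G)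
    (hx : (orderOf x).Coprime p) : ¬ p ∣ Nat.card (N ⊔ Subgroup.zpowers x : Subgroup G) := by
  apply not_dvd_card_of_forall
  intro h hh hoh
  have h1 : (QuotientGroup.mk' N) h ∈ (N ⊔ Subgroup.zpowers x).map (QuotientGroup.mk' N) :=
    Subgroup.mem_map_of_mem _ hh
  have hbot : N.map (QuotientGroup.mk' N) = ⊥ := by
    rw [Subgroup.map_eq_bot_iff, QuotientGroup.ker_mk']
  rw [Subgroup.map_sup, hbot, bot_sup_eq, MonoidHom.map_zpowers] at h1
  obtain ⟨i, hi⟩ := Subgroup.mem_zpowers_iff.mp h1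
  have hd1 : orderOf ((QuotientGroup.mk' N) h) ∣ p := by
    rw [← hoh]; exact orderOf_map_dvd _ h
  have hd2 : orderOf ((QuotientGroup.mk' N) h) ∣ orderOf x := by
    exact (orderOf_dvd_of_mem_zpowers h1).trans (orderOf_map_dvd _ x)
  have hd3 : orderOf ((QuotientGroup.mk' N) h) = 1 := by
    have := Nat.dvd_gcd hd2 hd1
    rw [Nat.Coprime.gcd_eq_one hx] at this
    exact Nat.dvd_one.mp this
  rw [orderOf_eq_one_iff] at hd3
  have hhN : h ∈ N := by rwa [← QuotientGroup.ker_mk' N, MonoidHom.mem_ker]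
  apply hN
  have := orderOf_dvd_natCard (⟨h, hhN⟩ : ↥N)
  rwa [Subgroup.orderOf_mk, hoh] at this

/-- Coprime-order elements centralize normal `p'`-subgroups when `p'`-subgroups are abelian. -/
theorem commute_of_normal_p' (hab : AbP' p G) (N : Subgroup G) [N.Normal] (hN : ¬ p ∣ Nat.card N)
    (x : G) (hx : (orderOf x).Coprime p) (n : G) (hn : n ∈ N) : x * n = n * x :=
  hab.comm (not_dvd_card_sup_zpowers N hN x hx)
    ((le_sup_right : Subgroup.zpowers x ≤ N ⊔ Subgroup.zpowers x) (Subgroup.mem_zpowers x))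
    ((le_sup_left : N ≤ N ⊔ Subgroup.zpowers x) hn)

end basic


section steps

variable {G : Type u} [Group G] [Finite G] {p : ℕ} [hp : Fact p.Prime]

/-- The induction hypothesis. -/
def IHyp (p : ℕ) (G : Type u) [Group G] : Prop :=
  ∀ (K : Type u) [Group K] [Finite K], Nat.card K < Nat.card G → AbP' p K → Concl p K

theorem sylow_comm (P : Sylow p G) (hcyc : IsCyclic P) :
    ∀ a ∈ (P : Subgroup G), ∀ b ∈ (P : Subgroup G), a * b = b * a := by
  intro a ha b hb
  let _ : CommGroup ↥(P : Subgroup G) := IsCyclic.commGroup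
  exact congrArg Subtype.val (mul_comm (⟨a, ha⟩ : ↥(P : Subgroup G)) ⟨b, hb⟩)

/-- A coprime-order element of `N(P)` not centralizing the cyclic `P` acts without fixed points. -/
theorem fpf_of_not_centralizer (P : Sylow p G) (hcyc : IsCyclic P) (x : G)
    (hxn : x ∈ Subgroup.normalizer ((P : Subgroup G) : Set G)) (hxc : (orderOf x).Coprime p)
    (hxnc : x ∉ Subgroup.centralizer ((P : Subgroup G) : Set G)) :
    ∀ u ∈ (P : Subgroup G), x * u * x⁻¹ = u → u = 1 := by
  intro u hu hfix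
  by_contra hu1
  apply hxnc
  rw [Subgroup.mem_centralizer_iff]
  intro v hv
  have := cyc_fix_all (P : Subgroup G) P.isPGroup' hcyc x hxn hxc u hu hu1 hfix v hv
  calc v * x = (x * v * x⁻¹) * x := by rw [this]
    _ = x * v := by group

theorem normal_of_normal_p' (IH : IHyp p G) (hab : AbP' p G) (P : Sylow p G) (hcyc : IsCyclic P)
    (hno : ¬ Cfsg.HasNormalPComplement p G) (N : Subgroup G) [hNn : N.Normal] (hN1 : N ≠ ⊥)
    (hNp : ¬ p ∣ Nat.card N) : (P : Subgroup G).Normal := by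
  obtain ⟨x, hxn, hxc, hxnc⟩ := exists_coprime_normalizer P hcyc hno
  have hfpf := fpf_of_not_centralizer P hcyc x hxn hxc hxnc
  have hcopN : (Nat.card N).Coprime p :=
    ((Nat.Prime.coprime_iff_not_dvd hp.out).mpr hNp).symm
  have hlt : Nat.card (G ⧸ N) < Nat.card G := by
    rw [Subgroup.card_eq_card_quotient_mul_card_subgroup N]
    have h1 : 1 < Nat.card N := by
      rw [Subgroup.one_lt_card_iff_ne_bot]; exact hN1
    have h2 : 0 < Nat.card (G ⧸ N) := Nat.card_pos
    nlinarith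
  have hcycq : IsCyclic ↥((P.mapSurjective (QuotientGroup.mk'_surjective N) : Sylow p (G ⧸ N)) :
      Subgroup (G ⧸ N)) := by
    rw [Sylow.coe_mapSurjective]
    haveI := hcyc
    exact isCyclic_of_surjective ((QuotientGroup.mk' N).subgroupMap (P : Subgroup G))
      (MonoidHom.subgroupMap_surjective _ _)
  have hq := IH (G ⧸ N) hlt (hab.quotient N hNp)
    (P.mapSurjective (QuotientGroup.mk'_surjective N)) hcycq
  rcases hq with hq | hq
  · exact absurd (helper10.npc_of_quotient_coprime N hcopN hq) hno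
  rw [Sylow.coe_mapSurjective] at hq
  have hPN : ∀ v ∈ (P : Subgroup G), ∀ n ∈ N, v * n = n * v := by
    intro v hv n hn
    obtain ⟨u, hu, rfl⟩ := cyc_comm_surj (P : Subgroup G) hcyc x hxn hfpf v hv
    have hc1 : ∀ m ∈ N, x * m = m * x := fun m hm => commute_of_normal_p' hab N hNp x hxc m hm
    have hun : u * n * u⁻¹ ∈ N := hNn.conj_mem n hn u
    have h1 : (x * u * x⁻¹) * n = (u * n * u⁻¹) * (x * u * x⁻¹) := by
      have e1 : x⁻¹ * n = n * x⁻¹ := by
        have := hc1 n hn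
        calc x⁻¹ * n = x⁻¹ * (n * x) * x⁻¹ := by group
          _ = x⁻¹ * (x * n) * x⁻¹ := by rw [this]
          _ = n * x⁻¹ := by group
      have e2 := hc1 _ hun
      calc (x * u * x⁻¹) * n = x * u * (x⁻¹ * n) := by group
        _ = x * u * (n * x⁻¹) := by rw [e1]
        _ = (x * (u * n * u⁻¹)) * u * x⁻¹ := by group
        _ = ((u * n * u⁻¹) * x) * u * x⁻¹ := by rw [e2]
        _ = _ := by group
    calc u⁻¹ * (x * u * x⁻¹) * n = u⁻¹ * ((x * u * x⁻¹) * n) := by group
      _ = u⁻¹ * ((u * n * u⁻¹) * (x * u * x⁻¹)) := by rw [h1]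
      _ = n * (u⁻¹ * (x * u * x⁻¹)) := by group
  refine ⟨fun v hv g => ?_⟩
  have hmem : (QuotientGroup.mk' N) (g * v * g⁻¹) ∈ (P : Subgroup G).map (QuotientGroup.mk' N) := by
    rw [map_mul, map_mul, map_inv]
    exact hq.conj_mem _ (Subgroup.mem_map_of_mem _ hv) _
  obtain ⟨v', hv', hv'eq⟩ := hmem
  obtain ⟨n, hn⟩ : ∃ n, n = v'⁻¹ * (g * v * g⁻¹) := ⟨_, rfl⟩
  have hnN : n ∈ N := by
    rw [hn, ← QuotientGroup.ker_mk' N, MonoidHom.mem_ker, map_mul, map_inv, hv'eq, inv_mul_cancel]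
  have hh : g * v * g⁻¹ = v' * n := by rw [hn]; group
  obtain ⟨j, hj⟩ := P.isPGroup' ⟨v, hv⟩
  have hvj : v ^ (p ^ j) = 1 := by
    have := congrArg Subtype.val hj
    simpa using this
  have hconj : (g * v * g⁻¹) ^ (p ^ j) = 1 := by
    rw [conj_pow, hvj]; group
  have hcomm : Commute v' n := hPN v' hv' n hnN
  rw [hh, hcomm.mul_pow] at hconj
  have hnj : n ^ (p ^ j) = (v' ^ (p ^ j))⁻¹ := by
    rw [eq_inv_iff_mul_eq_one, ← (hcomm.pow_pow _ _).eq]
    exact hconj
  have hnj1 : n ^ (p ^ j) = 1 := by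
    apply helper10.eq_one_of_mem_of_coprime (P : Subgroup G) N P.isPGroup' hcopN
    · rw [hnj]; exact Subgroup.inv_mem _ (Subgroup.pow_mem _ hv' _)
    · exact Subgroup.pow_mem _ hnN _
  have hn1 : n = 1 := by
    have h1 : orderOf n ∣ p ^ j := orderOf_dvd_of_pow_eq_one hnj1
    have h2 : orderOf n ∣ Nat.card N := Subgroup.orderOf_dvd_natCard N hnN
    have h3 : Nat.Coprime (p ^ j) (Nat.card N) := (Nat.Coprime.pow_right j hcopN).symm
    have := Nat.dvd_gcd h1 h2
    rw [Nat.Coprime.gcd_eq_one h3] at this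
    exact orderOf_eq_one_iff.mp (Nat.dvd_one.mp this)
  rw [hh, hn1, mul_one]
  exact hv'

end steps

end Cfsg.Agent.helper8cs
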