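import Mathlib
import Cfsg.Prelude.Def_Transfer
import Cfsg.Agent.Lib_helper10_NPC
import Cfsg.Agent.Lib_helper8_CS1
import Cfsg.Agent.Lib_helper8_CS2

set_option autoImplicit false

/-!
# Cyclic Sylow subgroup and abelian `p'`-subgroups: more reduction steps
-/

universe u

namespace Cfsg.Agent.helper8cs

open Subgroup

/-- In a finite cyclic group, a subgroup contains every element killed by its order. -/
theorem mem_of_pow_card_eq_one {A : Type*} [Group A] [Finite A] [IsCyclic A] (K : Subgroup A) (c : A)
    (hc : c ^ Nat.card K = 1) : c ∈ K := by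
  classical
  haveI : Fintype A := Fintype.ofFinite A
  have hpos : 0 < Nat.card K := Nat.card_pos
  have hsub : (Finset.univ.filter fun a : A => a ^ Nat.card K = 1).card ≤ Nat.card K :=
    IsCyclic.card_pow_eq_one_le hpos
  have hz : ((K : Set A).toFinset) ⊆ Finset.univ.filter fun a : A => a ^ Nat.card K = 1 := by
    intro a ha
    simp only [Set.mem_toFinset, SetLike.mem_coe] at ha
    simp only [Finset.mem_filter, Finset.mem_univ, true_and]
    have := pow_card_eq_one' (G := ↥K) (x := ⟨a, ha⟩)
    exact congrArg Subtype.val this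
  have hcardz : ((K : Set A).toFinset).card = Nat.card K := by
    rw [Set.toFinset_card, ← Nat.card_eq_fintype_card]
    rfl
  have heq := Finset.eq_of_subset_of_card_le hz (by rw [hcardz]; exact hsub)
  have hcin : c ∈ (K : Set A).toFinset := by
    rw [heq]
    simp only [Finset.mem_filter, Finset.mem_univ, true_and]
    exact hc
  simpa using hcin

variable {G : Type*} [Group G] [Finite G] {p : ℕ} [hp : Fact p.Prime]

/-- Subgroup version. -/
theorem mem_of_pow_card_eq_one' (H : Subgroup G) (hcyc : IsCyclic H) (K : Subgroup G) (hKH : K ≤ H)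
    (c : G) (hcH : c ∈ H) (hc : c ^ Nat.card K = 1) : c ∈ K := by
  haveI := hcyc
  have h1 : Nat.card (K.subgroupOf H) = Nat.card K :=
    Nat.card_congr (Subgroup.subgroupOfEquivOfLe hKH).toEquiv
  have := mem_of_pow_card_eq_one (A := ↥H) (K.subgroupOf H) ⟨c, hcH⟩
    (by rw [h1]; exact Subtype.ext hc)
  exact this

/-- Conjugation by an element normalizing a cyclic subgroup normalizes each of its subgroups. -/
theorem normalizer_le_normalizer_of_cyclic (H : Subgroup G) (hcyc : IsCyclic H) (K : Subgroup G)
    (hKH : K ≤ H) : Subgroup.normalizer (H : Set G) ≤ Subgroup.normalizer (K : Set G) := by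
  intro x hx
  have key : ∀ y ∈ Subgroup.normalizer (H : Set G), ∀ c ∈ K, y * c * y⁻¹ ∈ K := by
    intro y hy c hc
    apply mem_of_pow_card_eq_one' H hcyc K hKH
    · exact (Subgroup.mem_normalizer_iff.mp hy c).mp (hKH hc)
    · rw [conj_pow]
      have := pow_card_eq_one' (G := ↥K) (x := ⟨c, hc⟩)
      have h2 : c ^ Nat.card K = 1 := congrArg Subtype.val this
      rw [h2]; group
  rw [Subgroup.mem_normalizer_iff]
  intro c
  constructor
  · exact key x hx c
  · intro h
    have := key x⁻¹ (Subgroup.inv_mem _ hx) _ h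
    simpa [mul_assoc] using this

/-- Elements of coprime order lie in a normal complement of a Sylow subgroup. -/
theorem mem_of_coprime_of_complement (S : Sylow p G) (L : Subgroup G) [L.Normal]
    (hL : L.IsComplement' (S : Subgroup G)) (c : G) (hc : (orderOf c).Coprime p) : c ∈ L := by
  have hcard : Nat.card (G ⧸ L) = Nat.card S := by
    rw [← Subgroup.index_eq_card]; exact hL.symm.index_eq_card
  obtain ⟨n, hn⟩ := IsPGroup.iff_card.mp S.isPGroup'
  have h1 : orderOf ((QuotientGroup.mk' L) c) ∣ p ^ n := by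
    rw [← hn, ← hcard]; exact orderOf_dvd_natCard _
  have h2 : orderOf ((QuotientGroup.mk' L) c) ∣ orderOf c := orderOf_map_dvd _ c
  have h3 : Nat.Coprime (orderOf c) (p ^ n) := Nat.Coprime.pow_right n hc
  have := Nat.dvd_gcd h2 h1
  rw [Nat.Coprime.gcd_eq_one h3] at this
  have h4 := orderOf_eq_one_iff.mp (Nat.dvd_one.mp this)
  rwa [← QuotientGroup.ker_mk' L, MonoidHom.mem_ker]

/-- Transfer of the normalizer condition to a subgroup containing `P`. -/
theorem npc_subgroup_of_forall (P : Sylow p G) (hcyc : IsCyclic P) (H : Subgroup G)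
    (hPH : (P : Subgroup G) ≤ H)
    (h : ∀ x ∈ H, x ∈ Subgroup.normalizer ((P : Subgroup G) : Set G) → (orderOf x).Coprime p →
      x ∈ Subgroup.centralizer ((P : Subgroup G) : Set G)) :
    Cfsg.HasNormalPComplement p ↥H := by
  by_contra hno
  have hcyc' : IsCyclic ↥((P.subtype hPH : Sylow p ↥H) : Subgroup ↥H) := by
    rw [Sylow.coe_subtype]
    haveI := hcyc
    exact isCyclic_of_surjective (Subgroup.subgroupOfEquivOfLe hPH).symm.toMonoidHom
      (Subgroup.subgroupOfEquivOfLe hPH).symm.surjective
  obtain ⟨x, hxn, hxc, hxnc⟩ := exists_coprime_normalizer (P.subtype hPH) hcyc' hno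
  rw [Sylow.coe_subtype] at hxn hxnc
  apply hxnc
  have hxn' : (x : G) ∈ Subgroup.normalizer ((P : Subgroup G) : Set G) := by
    rw [Subgroup.mem_normalizer_iff]
    intro v
    constructor
    · intro hv
      have := (Subgroup.mem_normalizer_iff.mp hxn ⟨v, hPH hv⟩).mp (by
        rw [Subgroup.mem_subgroupOf]; exact hv)
      rw [Subgroup.mem_subgroupOf] at this
      simpa using this
    · intro hv
      have hvH : v ∈ H := by
        have h1 : (x : G)⁻¹ * ((x : G) * v * (x : G)⁻¹) * (x : G) ∈ H :=
          H.mul_mem (H.mul_mem (H.inv_mem x.2) (hPH hv)) x.2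
        have h2 : (x : G)⁻¹ * ((x : G) * v * (x : G)⁻¹) * (x : G) = v := by group
        rwa [h2] at h1
      have := (Subgroup.mem_normalizer_iff.mp hxn ⟨v, hvH⟩).mpr (by
        rw [Subgroup.mem_subgroupOf]; simpa using hv)
      rw [Subgroup.mem_subgroupOf] at this
      exact this
  have hxc' : (orderOf (x : G)).Coprime p := by rwa [Subgroup.orderOf_coe]
  have := h x x.2 hxn' hxc'
  rw [Subgroup.mem_centralizer_iff] at this ⊢
  intro v hv
  rw [SetLike.mem_coe, Subgroup.mem_subgroupOf] at hv
  exact Subtype.ext (this v hv)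

/-- Conversely, a normal `p`-complement in `H ≥ P` forces coprime-order elements of `N_H(P)` to
centralize `P`. -/
theorem centralizer_of_npc_subgroup (P : Sylow p G) (H : Subgroup G)
    (hPH : (P : Subgroup G) ≤ H) (hnpc : Cfsg.HasNormalPComplement p ↥H) (x : G) (hxH : x ∈ H)
    (hxn : x ∈ Subgroup.normalizer ((P : Subgroup G) : Set G)) (hxc : (orderOf x).Coprime p) :
    x ∈ Subgroup.centralizer ((P : Subgroup G) : Set G) := by
  have hF := helper10.frobCond_of_npc hnpc
  have hQ : IsPGroup p ((P : Subgroup G).subgroupOf H) := by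
    have := (P.subtype hPH).isPGroup'
    rwa [Sylow.coe_subtype] at this
  have hn : (⟨x, hxH⟩ : ↥H) ∈ Subgroup.normalizer (((P : Subgroup G).subgroupOf H : Subgroup ↥H) : Set ↥H) := by
    rw [Subgroup.mem_normalizer_iff]
    intro v
    rw [Subgroup.mem_subgroupOf, Subgroup.mem_subgroupOf]
    have := Subgroup.mem_normalizer_iff.mp hxn (v : G)
    simpa using this
  have := hF _ hQ ⟨x, hxH⟩ hn (by rw [← Subgroup.orderOf_coe]; exact hxc)
  rw [Subgroup.mem_centralizer_iff] at this ⊢
  intro v hv
  have h2 := this ⟨v, hPH hv⟩ (by rw [SetLike.mem_coe, Subgroup.mem_subgroupOf]; exact hv)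
  exact congrArg Subtype.val h2

end Cfsg.Agent.helper8cs
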