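import Mathlib
import Cfsg.Prelude.Def_Transfer
import Cfsg.Agent.Lib_helper10_NPC
import Cfsg.Agent.Lib_helper8_CS1
import Cfsg.Agent.Lib_helper8_CS2
import Cfsg.Agent.Lib_helper8_CS3

set_option autoImplicit false

/-!
# Cyclic Sylow subgroup and abelian `p'`-subgroups: reduction to the simple case
-/

universe u

namespace Cfsg.Agent.helper8cs

open Subgroup

variable {G : Type u} [Group G] [Finite G] {p : ℕ} [hp : Fact p.Prime]

theorem orderOf_conj' (g a : G) : orderOf (g * a * g⁻¹) = orderOf a := by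
  have := orderOf_injective (MulAut.conj g).toMonoidHom (MulAut.conj g).injective a
  simpa using this

/-- An element all of whose coprime-order powers are trivial is a `p`-element. -/
theorem exists_pow_eq_one_of (c : G) (h : ∀ a : ℕ, (orderOf (c ^ a)).Coprime p → c ^ a = 1) :
    ∃ k : ℕ, c ^ (p ^ k) = 1 := by
  obtain ⟨a, m, hm, hord⟩ : ∃ a m : ℕ, ¬ p ∣ m ∧ orderOf c = p ^ a * m :=
    Nat.exists_eq_pow_mul_and_not_dvd (orderOf_pos c).ne' p hp.out.ne_one
  refine ⟨a, h _ ?_⟩
  have ho : orderOf (c ^ (p ^ a)) = m := by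
    rw [orderOf_pow_of_dvd (pow_ne_zero _ hp.out.ne_zero) (by rw [hord]; exact dvd_mul_right _ _), hord,
      Nat.mul_div_cancel_left _ (pow_pos hp.out.pos a)]
  rw [ho, Nat.coprime_comm]
  exact (Nat.Prime.coprime_iff_not_dvd hp.out).mpr hm

/-- A normal subgroup with a normal `p`-complement is a `p`-group if `G` has no nontrivial normal
`p'`-subgroup. -/
theorem isPGroup_of_npc_normal
    (hNoP' : ∀ N : Subgroup G, N.Normal → ¬ p ∣ Nat.card N → N = ⊥)
    (C : Subgroup G) [hCn : C.Normal] (hnpc : Cfsg.HasNormalPComplement p ↥C) : IsPGroup p C := by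
  obtain ⟨S, L, hLn, hLS⟩ := hnpc
  haveI := hLn
  obtain ⟨s, hs⟩ : ∃ s : Set G, s = {c : G | c ∈ C ∧ (orderOf c).Coprime p} := ⟨_, rfl⟩
  have hTle : Subgroup.normalClosure s ≤ L.map C.subtype := by
    unfold Subgroup.normalClosure
    rw [Subgroup.closure_le]
    intro x hx
    rw [Group.mem_conjugatesOfSet_iff] at hx
    obtain ⟨a, ha, hax⟩ := hx
    rw [hs] at ha
    obtain ⟨g, hg⟩ := isConj_iff.mp hax
    have hxC : x ∈ C := by rw [← hg]; exact hCn.conj_mem a ha.1 g
    have hox : (orderOf x).Coprime p := by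
      rw [← hg, orderOf_conj']
      exact ha.2
    have := mem_of_coprime_of_complement S L hLS ⟨x, hxC⟩ (by rwa [Subgroup.orderOf_mk])
    exact ⟨⟨x, hxC⟩, this, rfl⟩
  have hcL : (Nat.card L).Coprime p := helper10.card_coprime_of_isComplement' S L hLS
  have hcard : Nat.card (L.map C.subtype) = Nat.card L :=
    Subgroup.card_map_of_injective C.subtype_injective
  have hTp : ¬ p ∣ Nat.card (Subgroup.normalClosure s) := by
    intro hd
    have h1 : p ∣ Nat.card L := by
      rw [← hcard]; exact hd.trans (Subgroup.card_dvd_of_le hTle)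
    have := Nat.Coprime.eq_one_of_dvd hcL.symm h1
    exact hp.out.one_lt.ne' this
  have hT := hNoP' _ Subgroup.normalClosure_normal hTp
  intro c
  obtain ⟨k, hk⟩ := exists_pow_eq_one_of (p := p) (c : G) (by
    intro a ha
    have hmem : (c : G) ^ a ∈ Subgroup.normalClosure s := by
      apply Subgroup.subset_normalClosure
      rw [hs]
      exact ⟨C.pow_mem c.2 a, ha⟩
    rw [hT, Subgroup.mem_bot] at hmem
    exact hmem)
  exact ⟨k, Subtype.ext (by simpa using hk)⟩

/-- Step B: a nontrivial normal `p`-subgroup forces `P` to be normal. -/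
theorem normal_of_normal_p (P : Sylow p G) (hcyc : IsCyclic P)
    (hNoP' : ∀ N : Subgroup G, N.Normal → ¬ p ∣ Nat.card N → N = ⊥)
    (R : Subgroup G) [hRn : R.Normal] (hR1 : R ≠ ⊥) (hRp : IsPGroup p R) :
    (P : Subgroup G).Normal := by
  have hRP : R ≤ P := hRp.le_sylow_of_normal P
  have hpR : p ∣ Nat.card R := by
    obtain ⟨n, hn⟩ := IsPGroup.iff_card.mp hRp
    rw [hn]
    have : n ≠ 0 := by
      rintro rfl
      rw [pow_zero, Subgroup.card_eq_one] at hn
      exact hR1 hn
    exact dvd_pow_self p this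
  obtain ⟨r', hr'⟩ := exists_prime_orderOf_dvd_card' p hpR
  obtain ⟨r, hr⟩ : ∃ r : G, r = (r' : G) := ⟨_, rfl⟩
  have hrR : r ∈ R := by rw [hr]; exact r'.2
  have hor : orderOf r = p := by rw [hr, Subgroup.orderOf_coe]; exact hr'
  have hr1 : r ≠ 1 := by
    intro h
    rw [h, orderOf_one] at hor
    exact hp.out.one_lt.ne hor
  have hZP : Subgroup.zpowers r ≤ (P : Subgroup G) := by
    rw [Subgroup.zpowers_le]; exact hRP hrR
  have hZR : Subgroup.zpowers r ≤ R := by
    rw [Subgroup.zpowers_le]; exact hrR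
  have hcardZ : Nat.card (Subgroup.zpowers r) = p := by rw [Nat.card_zpowers, hor]
  haveI hZn : (Subgroup.zpowers r).Normal := by
    refine ⟨fun c hc g => ?_⟩
    apply mem_of_pow_card_eq_one' (P : Subgroup G) hcyc _ hZP
    · exact hRP (hRn.conj_mem c (hZR hc) g)
    · rw [conj_pow]
      have := pow_card_eq_one' (G := ↥(Subgroup.zpowers r)) (x := ⟨c, hc⟩)
      have h2 : c ^ Nat.card (Subgroup.zpowers r) = 1 := congrArg Subtype.val this
      rw [h2]; group
  have hcomm := sylow_comm P hcyc
  have hPC : (P : Subgroup G) ≤ Subgroup.centralizer ((Subgroup.zpowers r : Subgroup G) : Set G) := by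
    intro v hv
    rw [Subgroup.mem_centralizer_iff]
    intro z hz
    exact hcomm z (hZP hz) v hv
  have hnpc : Cfsg.HasNormalPComplement p
      ↥(Subgroup.centralizer ((Subgroup.zpowers r : Subgroup G) : Set G)) := by
    apply npc_subgroup_of_forall P hcyc _ hPC
    intro x hxC hxn hxc
    by_contra hxnc
    have hfpf := fpf_of_not_centralizer P hcyc x hxn hxc hxnc
    apply hr1
    apply hfpf r (hRP hrR)
    have := (Subgroup.mem_centralizer_iff.mp hxC) r (Subgroup.mem_zpowers r)
    rw [← this]; group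
  have hCp := isPGroup_of_npc_normal hNoP' _ hnpc
  have := P.is_maximal' hCp hPC
  rw [← this]
  infer_instance

/-- Cyclicity of Sylow subgroups of subgroups. -/
theorem sylow_subgroup_cyclic (P : Sylow p G) (hcyc : IsCyclic P) (M : Subgroup G) (PM : Sylow p ↥M) :
    IsCyclic ↥(PM : Subgroup ↥M) := by
  obtain ⟨Q', hQ'⟩ := (PM.isPGroup'.map M.subtype).exists_le_sylow
  obtain ⟨g, hg⟩ := MulAction.exists_smul_eq G P Q'
  haveI := hcyc
  haveI h1 : IsCyclic ↥((g • P : Sylow p G) : Subgroup G) :=
    isCyclic_of_surjective (P.equivSMul g).toMonoidHom (P.equivSMul g).surjective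
  rw [hg] at h1
  haveI h2 : IsCyclic ↥(((PM : Subgroup ↥M).map M.subtype).subgroupOf (Q' : Subgroup G)) :=
    inferInstance
  haveI h3 : IsCyclic ↥((PM : Subgroup ↥M).map M.subtype) :=
    isCyclic_of_surjective (Subgroup.subgroupOfEquivOfLe hQ').toMonoidHom
      (Subgroup.subgroupOfEquivOfLe hQ').surjective
  exact isCyclic_of_surjective
    ((PM : Subgroup ↥M).equivMapOfInjective M.subtype M.subtype_injective).symm.toMonoidHom
    ((PM : Subgroup ↥M).equivMapOfInjective M.subtype M.subtype_injective).symm.surjective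

/-- Step C: all proper normal subgroups are trivial. -/
theorem normal_trivial (IH : IHyp p G) (hab : AbP' p G) (P : Sylow p G) (hcyc : IsCyclic P)
    (hNoP' : ∀ N : Subgroup G, N.Normal → ¬ p ∣ Nat.card N → N = ⊥)
    (hNoP : ∀ R : Subgroup G, R.Normal → IsPGroup p R → R = ⊥)
    (M : Subgroup G) [hMn : M.Normal] (hM : M ≠ ⊤) : M = ⊥ := by
  have hlt : Nat.card M < Nat.card G := by
    rcases (Subgroup.card_le_card_group M).lt_or_eq with h | h
    · exact h
    · exact absurd ((Subgroup.card_eq_iff_eq_top M).mp h) hM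
  obtain ⟨PM⟩ : Nonempty (Sylow p ↥M) := inferInstance
  have hq := IH ↥M hlt (hab.subgroup M) PM (sylow_subgroup_cyclic P hcyc M PM)
  rcases hq with hq | hq
  · exact hNoP M hMn (isPGroup_of_npc_normal hNoP' M hq)
  · haveI := PM.characteristic_of_normal hq
    have hn : ((PM : Subgroup ↥M).map M.subtype).Normal := inferInstance
    have hbot := hNoP _ hn (PM.isPGroup'.map _)
    have hPMbot : (PM : Subgroup ↥M) = ⊥ := by
      rw [Subgroup.map_eq_bot_iff_of_injective _ M.subtype_injective] at hbot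
      exact hbot
    apply hNoP' M hMn
    have := PM.not_dvd_index
    rwa [hPMbot, Subgroup.index_bot] at this

end Cfsg.Agent.helper8cs
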