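import Mathlib
import Cfsg.Prelude.Def_Transfer
import Cfsg.Agent.Lib_helper10_NPC
import Cfsg.Agent.Lib_helper8_CS1
import Cfsg.Agent.Lib_helper8_CS2
import Cfsg.Agent.Lib_helper8_CS3
import Cfsg.Agent.Lib_helper8_CS4

set_option autoImplicit false

/-!
# Cyclic Sylow subgroup and abelian `p'`-subgroups: the simple case, basic tools
-/

universe u

namespace Cfsg.Agent.helper8cs

open Subgroup

section general

variable {G : Type u} [Group G] [Finite G] {p : ℕ} [hp : Fact p.Prime]

/-- Coprime-order elements normalizing a `p'`-subgroup centralize it. -/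
theorem commute_of_normalizer_p' (hab : AbP' p G) (N : Subgroup G) (hN : ¬ p ∣ Nat.card N)
    (x : G) (hxn : x ∈ Subgroup.normalizer (N : Set G)) (hx : (orderOf x).Coprime p) (n : G)
    (hn : n ∈ N) : x * n = n * x := by
  haveI : (N.subgroupOf (Subgroup.normalizer (N : Set G))).Normal := Subgroup.normal_in_normalizer
  have hc : Nat.card (N.subgroupOf (Subgroup.normalizer (N : Set G))) = Nat.card N :=
    Nat.card_congr (Subgroup.subgroupOfEquivOfLe Subgroup.le_normalizer).toEquiv
  have := commute_of_normal_p' (hab.subgroup (Subgroup.normalizer (N : Set G)))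
    (N.subgroupOf (Subgroup.normalizer (N : Set G))) (by rw [hc]; exact hN) ⟨x, hxn⟩
    (by rw [Subgroup.orderOf_mk]; exact hx) ⟨n, Subgroup.le_normalizer hn⟩
    (by rw [Subgroup.mem_subgroupOf]; exact hn)
  exact congrArg Subtype.val this

/-- Bezout for powers. -/
theorem mem_of_pow_mem_of_coprime (K : Subgroup G) (y : G) (a m : ℕ) (hcop : Nat.Coprime a m)
    (h1 : y ^ a ∈ K) (h2 : y ^ m ∈ K) : y ∈ K := by
  have hb := Int.gcd_eq_gcd_ab (a : ℕ) m
  have hg1 : Int.gcd ((a : ℕ) : ℤ) (m : ℤ) = 1 := by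
    rw [Int.gcd_natCast_natCast]; exact hcop
  rw [hg1] at hb
  have : y = (y ^ a) ^ (Int.gcdA a m) * (y ^ m) ^ (Int.gcdB a m) := by
    rw [← zpow_natCast, ← zpow_natCast, ← zpow_mul, ← zpow_mul, ← zpow_add]
    have h3 : ((a : ℕ) : ℤ) * Int.gcdA a m + (m : ℤ) * Int.gcdB a m = 1 := by
      rw [← hb]; rfl
    rw [h3, zpow_one]
  rw [this]
  exact Subgroup.mul_mem _ (Subgroup.zpow_mem _ h1 _) (Subgroup.zpow_mem _ h2 _)

/-- Fixed points of a `p`-element acting on a normalized subgroup. -/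
theorem card_modEq_card_fixed (Q : Subgroup G) (w : G)
    (hw : w ∈ Subgroup.normalizer (Q : Set G)) (k : ℕ) (hwk : w ^ (p ^ k) = 1) :
    Nat.card Q ≡ Nat.card ↥(Q ⊓ Subgroup.centralizer ({w} : Set G)) [MOD p] := by
  classical
  haveI : Fintype ↥Q := Fintype.ofFinite _
  let f : Function.End ↥Q := ⇑(conjEnd Q w hw)
  have hpow : ∀ j : ℕ, ((f ^ j : Function.End ↥Q) : ↥Q → ↥Q) = (⇑(conjEnd Q w hw))^[j] := fun j =>
    hom_coe_pow (fun h : Function.End ↥Q ↦ (h : ↥Q → ↥Q)) rfl (fun _ _ ↦ rfl) f j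
  have hf : f ^ p ^ k = 1 := by
    funext c
    rw [hpow]
    apply Subtype.ext
    rw [conjEnd_iterate, hwk]
    simp
    rfl
  have h1 := Equiv.Perm.card_fixedPoints_modEq (f := f) hf
  rw [← Nat.card_eq_fintype_card, ← Nat.card_eq_fintype_card] at h1
  have h2 : Nat.card (Function.fixedPoints f) = Nat.card ↥(Q ⊓ Subgroup.centralizer ({w} : Set G)) := by
    apply Nat.card_congr
    refine
      { toFun := fun c => ⟨c.1.1, Subgroup.mem_inf.mpr ⟨c.1.2, ?_⟩⟩
        invFun := fun c => ⟨⟨c.1, (Subgroup.mem_inf.mp c.2).1⟩, ?_⟩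
        left_inv := fun c => rfl
        right_inv := fun c => rfl }
    · rw [Subgroup.mem_centralizer_singleton_iff]
      have := congrArg Subtype.val c.2
      have h3 : w * (c.1 : G) * w⁻¹ = (c.1 : G) := this
      calc (c.1 : G) * w = (w * (c.1 : G) * w⁻¹) * w := by rw [h3]
        _ = w * (c.1 : G) := by group
    · have := Subgroup.mem_centralizer_singleton_iff.mp (Subgroup.mem_inf.mp c.2).2
      apply Subtype.ext
      show w * (c : G) * w⁻¹ = (c : G)
      rw [← this]; group
  rw [h2] at h1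
  exact h1

end general

/-- The context of a minimal counterexample all of whose normal subgroups are trivial. -/
structure SimpleCtx (p : ℕ) (G : Type u) [Group G] where
  IH : IHyp p G
  hab : AbP' p G
  P : Sylow p G
  hcyc : IsCyclic P
  hsimple : ∀ M : Subgroup G, M.Normal → M = ⊥ ∨ M = ⊤
  hPn : ¬ (P : Subgroup G).Normal
  x : G
  hxn : x ∈ Subgroup.normalizer ((P : Subgroup G) : Set G)
  hxc : (orderOf x).Coprime p
  hxnc : x ∉ Subgroup.centralizer ((P : Subgroup G) : Set G)

namespace SimpleCtx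

variable {G : Type u} [Group G] [Finite G] {p : ℕ} [hp : Fact p.Prime] (S : SimpleCtx p G)

theorem hcomm : ∀ a ∈ (S.P : Subgroup G), ∀ b ∈ (S.P : Subgroup G), a * b = b * a :=
  sylow_comm S.P S.hcyc

theorem hfpf : ∀ u ∈ (S.P : Subgroup G), S.x * u * S.x⁻¹ = u → u = 1 :=
  fpf_of_not_centralizer S.P S.hcyc S.x S.hxn S.hxc S.hxnc

theorem P_ne_bot : (S.P : Subgroup G) ≠ ⊥ := by
  intro h
  apply S.hPn
  rw [h]; infer_instance

theorem P_ne_top : (S.P : Subgroup G) ≠ ⊤ := by
  intro h
  apply S.hPn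
  rw [h]; infer_instance

theorem P_le_centralizer : (S.P : Subgroup G) ≤ Subgroup.centralizer ((S.P : Subgroup G) : Set G) := by
  intro v hv
  rw [Subgroup.mem_centralizer_iff]
  intro z hz
  exact S.hcomm z hz v hv

/-- A proper subgroup containing `P` and `x` normalizes `P`. -/
theorem le_normalizer_of_proper (H : Subgroup G) (hH : H ≠ ⊤) (hPH : (S.P : Subgroup G) ≤ H)
    (hxH : S.x ∈ H) : H ≤ Subgroup.normalizer ((S.P : Subgroup G) : Set G) := by
  have hlt : Nat.card H < Nat.card G := by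
    rcases (Subgroup.card_le_card_group H).lt_or_eq with h | h
    · exact h
    · exact absurd ((Subgroup.card_eq_iff_eq_top H).mp h) hH
  have hcyc' : IsCyclic ↥((S.P.subtype hPH : Sylow p ↥H) : Subgroup ↥H) := by
    rw [Sylow.coe_subtype]
    haveI := S.hcyc
    exact isCyclic_of_surjective (Subgroup.subgroupOfEquivOfLe hPH).symm.toMonoidHom
      (Subgroup.subgroupOfEquivOfLe hPH).symm.surjective
  rcases S.IH ↥H hlt (S.hab.subgroup H) (S.P.subtype hPH) hcyc' with hq | hq
  · exact absurd (centralizer_of_npc_subgroup S.P H hPH hq S.x hxH S.hxn S.hxc) S.hxnc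
  · rw [Sylow.coe_subtype] at hq
    exact (Subgroup.normal_subgroupOf_iff_le_normalizer hPH).mp hq

/-- Normalizers of nontrivial subgroups of `P` lie in `N(P)`. -/
theorem normalizer_le (P₀ : Subgroup G) (hP₀ : P₀ ≤ (S.P : Subgroup G)) (h1 : P₀ ≠ ⊥) :
    Subgroup.normalizer (P₀ : Set G) ≤ Subgroup.normalizer ((S.P : Subgroup G) : Set G) := by
  have hle := normalizer_le_normalizer_of_cyclic (S.P : Subgroup G) S.hcyc P₀ hP₀
  apply S.le_normalizer_of_proper
  · intro htop
    have hn : P₀.Normal := Subgroup.normalizer_eq_top_iff.mp htop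
    rcases S.hsimple P₀ hn with h | h
    · exact h1 h
    · apply S.P_ne_top
      rw [eq_top_iff, ← h]; exact hP₀
  · exact Subgroup.le_normalizer.trans hle
  · exact hle S.hxn

end SimpleCtx

end Cfsg.Agent.helper8cs
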