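import Mathlib
import Cfsg.Prelude.Def_Transfer
import Cfsg.Agent.Lib_helper10_NPC
import Cfsg.Agent.Lib_helper8_CS1
import Cfsg.Agent.Lib_helper8_CS2
import Cfsg.Agent.Lib_helper8_CS3
import Cfsg.Agent.Lib_helper8_CS4
import Cfsg.Agent.Lib_helper8_CS5

set_option autoImplicit false

/-!
# Cyclic Sylow subgroup and abelian `p'`-subgroups: the simple case, self-centralizing `P`
-/

universe u

namespace Cfsg.Agent.helper8cs

open Subgroup

/-- If all prime power parts away from `p` are `1` mod `p`, so is the `p'`-part. -/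
theorem ordCompl_modEq_one (p : ℕ) [hp : Fact p.Prime] (n : ℕ) (hn : n ≠ 0)
    (h : ∀ q : ℕ, q.Prime → q ≠ p → q ∣ n → q ^ (n.factorization q) ≡ 1 [MOD p]) :
    n / p ^ (n.factorization p) ≡ 1 [MOD p] := by
  obtain ⟨m, hm⟩ : ∃ m, m = n / p ^ n.factorization p := ⟨_, rfl⟩
  rw [← hm]
  have hm0 : m ≠ 0 := by rw [hm]; exact (Nat.ordCompl_pos p hn).ne'
  have hfac : m.factorization = n.factorization.erase p := by
    rw [hm]; exact Nat.factorization_ordCompl n p
  have hpm : ¬ p ∣ m := by rw [hm]; exact Nat.not_dvd_ordCompl hp.out hn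
  have hmn : m ∣ n := by rw [hm]; exact Nat.ordCompl_dvd n p
  rw [← ZMod.natCast_eq_natCast_iff]
  conv_lhs => rw [← Nat.factorization_prod_pow_eq_self hm0]
  rw [Finsupp.prod, Nat.cast_prod, Nat.cast_one]
  apply Finset.prod_eq_one
  intro q hq
  rw [Nat.support_factorization] at hq
  have hqp : q.Prime := Nat.prime_of_mem_primeFactors hq
  have hqm : q ∣ m := Nat.dvd_of_mem_primeFactors hq
  have hne : q ≠ p := by rintro rfl; exact hpm hqm
  have he : m.factorization q = n.factorization q := by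
    rw [hfac, Finsupp.erase_ne hne]
  have := (ZMod.natCast_eq_natCast_iff _ _ p).mpr (h q hqp hne (hqm.trans hmn))
  rw [he]
  simpa using this

section general

variable {G : Type u} [Group G] [Finite G] {p : ℕ} [hp : Fact p.Prime]

theorem eq_one_of_mem_of_coprime_order (H : Subgroup G) (hH : IsPGroup p H) (g : G) (hg : g ∈ H)
    (hc : (orderOf g).Coprime p) : g = 1 := by
  obtain ⟨k, hk⟩ := hH ⟨g, hg⟩
  have h1 : g ^ (p ^ k) = 1 := congrArg Subtype.val hk
  have h2 : orderOf g ∣ p ^ k := orderOf_dvd_of_pow_eq_one h1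
  have h3 : orderOf g = 1 := Nat.Coprime.eq_one_of_dvd (hc.pow_right k) h2
  exact orderOf_eq_one_iff.mp h3

theorem isPGroup_zpowers_of_pow (w : G) (k : ℕ) (hk : w ^ (p ^ k) = 1) :
    IsPGroup p (Subgroup.zpowers w) := by
  rintro ⟨a, ha⟩
  obtain ⟨i, rfl⟩ := Subgroup.mem_zpowers_iff.mp ha
  refine ⟨k, Subtype.ext ?_⟩
  show (w ^ i) ^ (p ^ k) = 1
  rw [← zpow_natCast, ← zpow_mul, mul_comm, zpow_mul, zpow_natCast, hk, one_zpow]

theorem mem_centralizer_zpowers (u c : G) (hc : c * u = u * c) :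
    c ∈ Subgroup.centralizer ((Subgroup.zpowers u : Subgroup G) : Set G) := by
  rw [Subgroup.mem_centralizer_iff]
  intro z hz
  obtain ⟨i, rfl⟩ := Subgroup.mem_zpowers_iff.mp hz
  exact ((show Commute c u from hc).zpow_right i).eq.symm

theorem not_dvd_card_sylow_of_ne (q : ℕ) [hq : Fact q.Prime] (hqp : q ≠ p) (Q : Sylow q G) :
    ¬ p ∣ Nat.card (Q : Subgroup G) := by
  intro h
  obtain ⟨n, hn⟩ := Q.isPGroup'.exists_card_eq
  rw [hn] at h
  have := (Nat.prime_dvd_prime_iff_eq hp.out hq.out).mp (hp.out.dvd_of_dvd_pow h)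
  exact hqp this.symm

end general

namespace SimpleCtx

variable {G : Type u} [Group G] [Finite G] {p : ℕ} [hp : Fact p.Prime] (S : SimpleCtx p G)

include S in
/-- For a prime `q ≠ p`, some `p`-element normalizes but does not centralize a nontrivial Sylow
`q`-subgroup. -/
theorem exists_pelem_normalizer (q : ℕ) [hq : Fact q.Prime] (hqp : q ≠ p) (Q : Sylow q G)
    (hQ : (Q : Subgroup G) ≠ ⊥) :
    ∃ w ∈ Subgroup.normalizer ((Q : Subgroup G) : Set G), ∃ k : ℕ, w ^ (p ^ k) = 1 ∧
      w ∉ Subgroup.centralizer ((Q : Subgroup G) : Set G) := by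
  have hpQ : ¬ p ∣ Nat.card (Q : Subgroup G) := not_dvd_card_sylow_of_ne q hqp Q
  have hQcomm : ∀ a ∈ (Q : Subgroup G), ∀ b ∈ (Q : Subgroup G), a * b = b * a :=
    fun a ha b hb => S.hab.comm hpQ ha hb
  have hnot : ¬ Subgroup.normalizer ((Q : Subgroup G) : Set G) ≤
      Subgroup.centralizer ((Q : Subgroup G) : Set G) := by
    intro hNC
    have hcompl := MonoidHom.ker_transferSylow_isComplement' Q hNC
    rcases S.hsimple _ (inferInstance : (MonoidHom.transferSylow Q hNC).ker.Normal) with h | h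
    · rw [h] at hcompl
      have hQtop : (Q : Subgroup G) = ⊤ := Subgroup.isComplement'_bot_left.mp hcompl
      apply S.P_ne_bot
      rw [eq_bot_iff]
      intro u hu
      rw [Subgroup.mem_bot]
      apply eq_one_of_mem_of_coprime_order (S.P : Subgroup G) S.P.isPGroup' u hu
      have hd : orderOf u ∣ Nat.card (Q : Subgroup G) :=
        Subgroup.orderOf_dvd_natCard _ (by rw [hQtop]; exact Subgroup.mem_top u)
      apply Nat.Coprime.coprime_dvd_left hd
      rw [Nat.coprime_comm]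
      exact (Nat.Prime.coprime_iff_not_dvd hp.out).mpr hpQ
    · rw [h] at hcompl
      exact hQ (Subgroup.isComplement'_top_left.mp hcompl)
  have hex : ∃ g ∈ Subgroup.normalizer ((Q : Subgroup G) : Set G), (orderOf g).Coprime q ∧
      g ∉ Subgroup.centralizer ((Q : Subgroup G) : Set G) := by
    by_contra hcon
    push Not at hcon
    exact hnot (normalizer_le_centralizer_of Q hQcomm hcon)
  obtain ⟨g, hgn, -, hgc⟩ := hex
  obtain ⟨a, m, hm, hord⟩ : ∃ a m : ℕ, ¬ p ∣ m ∧ orderOf g = p ^ a * m :=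
    Nat.exists_eq_pow_mul_and_not_dvd (orderOf_pos g).ne' p hp.out.ne_one
  have hcop : Nat.Coprime (p ^ a) m :=
    Nat.Coprime.pow_left a ((Nat.Prime.coprime_iff_not_dvd hp.out).mpr hm)
  have h1 : g ^ (p ^ a) ∈ Subgroup.centralizer ((Q : Subgroup G) : Set G) := by
    have ho : orderOf (g ^ (p ^ a)) = m := by
      rw [orderOf_pow_of_dvd (pow_ne_zero _ hp.out.ne_zero) (by rw [hord]; exact dvd_mul_right _ _),
        hord, Nat.mul_div_cancel_left _ (pow_pos hp.out.pos a)]
    rw [Subgroup.mem_centralizer_iff]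
    intro b hb
    exact (commute_of_normalizer_p' S.hab (Q : Subgroup G) hpQ (g ^ (p ^ a))
      (Subgroup.pow_mem _ hgn _)
      (by rw [ho, Nat.coprime_comm]; exact (Nat.Prime.coprime_iff_not_dvd hp.out).mpr hm) b hb).symm
  refine ⟨g ^ m, Subgroup.pow_mem _ hgn _, a, ?_, ?_⟩
  · rw [← pow_mul, mul_comm, ← hord, pow_orderOf_eq_one]
  · intro h2
    exact hgc (mem_of_pow_mem_of_coprime _ g (p ^ a) m hcop h1 h2)

/-- I.1 -/
theorem centralizer_le_of_caseI
    (hI : Subgroup.centralizer ((S.P : Subgroup G) : Set G) ≤ (S.P : Subgroup G))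
    (u : G) (hu : u ∈ (S.P : Subgroup G)) (hu1 : u ≠ 1) (c : G) (hc : c * u = u * c) :
    c ∈ (S.P : Subgroup G) := by
  have hcn0 : c ∈ Subgroup.normalizer ((Subgroup.zpowers u : Subgroup G) : Set G) :=
    Subgroup.centralizer_le_normalizer _ (mem_centralizer_zpowers u c hc)
  have hcN : c ∈ Subgroup.normalizer ((S.P : Subgroup G) : Set G) :=
    S.normalizer_le (Subgroup.zpowers u) (Subgroup.zpowers_le.mpr hu)
      (Subgroup.zpowers_ne_bot.mpr hu1) hcn0
  obtain ⟨k, hk⟩ := exists_pow_eq_one_of (p := p) c (by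
    intro a ha
    have hcaN : c ^ a ∈ Subgroup.normalizer ((S.P : Subgroup G) : Set G) := Subgroup.pow_mem _ hcN a
    have hfix : c ^ a * u * (c ^ a)⁻¹ = u := by
      have : Commute (c ^ a) u := (show Commute c u from hc).pow_left a
      rw [this.eq]; group
    have hall := cyc_fix_all (S.P : Subgroup G) S.P.isPGroup' S.hcyc (c ^ a) hcaN ha u hu hu1 hfix
    have hcent : c ^ a ∈ Subgroup.centralizer ((S.P : Subgroup G) : Set G) := by
      rw [Subgroup.mem_centralizer_iff]
      intro v hv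
      have := hall v hv
      calc v * c ^ a = (c ^ a * v * (c ^ a)⁻¹) * c ^ a := by rw [this]
        _ = c ^ a * v := by group
    exact eq_one_of_mem_of_coprime_order (S.P : Subgroup G) S.P.isPGroup' _ (hI hcent) ha)
  exact pelem_mem_sylow S.P c hcN k hk

/-- I.2 -/
theorem pelem_of_commute_caseI
    (hI : Subgroup.centralizer ((S.P : Subgroup G) : Set G) ≤ (S.P : Subgroup G))
    (w : G) (hw1 : w ≠ 1) (k : ℕ) (hwk : w ^ (p ^ k) = 1) (c : G) (hc : c * w = w * c) :
    ∃ j : ℕ, c ^ (p ^ j) = 1 := by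
  have hZ : IsPGroup p (Subgroup.zpowers w) := isPGroup_zpowers_of_pow w k hwk
  obtain ⟨Q, hQ⟩ := hZ.exists_le_sylow
  obtain ⟨g, hg⟩ := MulAction.exists_smul_eq G Q S.P
  have hu : g * w * g⁻¹ ∈ (S.P : Subgroup G) := by
    rw [← hg, Sylow.coe_subgroup_smul]
    have := Subgroup.smul_mem_pointwise_smul w (MulAut.conj g) (Q : Subgroup G)
      (hQ (Subgroup.mem_zpowers w))
    rwa [MulAut.smul_def, MulAut.conj_apply] at this
  have hu1 : g * w * g⁻¹ ≠ 1 := by
    intro h
    exact hw1 (conj_eq_one_iff.mp h)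
  have hcomm : (g * c * g⁻¹) * (g * w * g⁻¹) = (g * w * g⁻¹) * (g * c * g⁻¹) := by
    calc (g * c * g⁻¹) * (g * w * g⁻¹) = g * (c * w) * g⁻¹ := by group
      _ = g * (w * c) * g⁻¹ := by rw [hc]
      _ = (g * w * g⁻¹) * (g * c * g⁻¹) := by group
  have hcP := S.centralizer_le_of_caseI hI _ hu hu1 _ hcomm
  obtain ⟨j, hj⟩ := S.P.isPGroup' ⟨_, hcP⟩
  refine ⟨j, ?_⟩
  have h1 : (g * c * g⁻¹) ^ (p ^ j) = 1 := congrArg Subtype.val hj
  rw [conj_pow] at h1
  exact conj_eq_one_iff.mp h1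

/-- I.3 -/
theorem card_sylow_modEq_one_caseI
    (hI : Subgroup.centralizer ((S.P : Subgroup G) : Set G) ≤ (S.P : Subgroup G))
    (q : ℕ) [hq : Fact q.Prime] (hqp : q ≠ p) (Q : Sylow q G) :
    Nat.card (Q : Subgroup G) ≡ 1 [MOD p] := by
  by_cases hQ : (Q : Subgroup G) = ⊥
  · rw [hQ, Subgroup.card_bot]
  obtain ⟨w, hwn, k, hwk, hwc⟩ := S.exists_pelem_normalizer q hqp Q hQ
  have hw1 : w ≠ 1 := by rintro rfl; exact hwc (Subgroup.one_mem _)
  have hfix : (Q : Subgroup G) ⊓ Subgroup.centralizer ({w} : Set G) = ⊥ := by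
    rw [eq_bot_iff]
    intro c hc
    obtain ⟨hcQ, hcw⟩ := Subgroup.mem_inf.mp hc
    rw [Subgroup.mem_centralizer_singleton_iff] at hcw
    obtain ⟨j, hj⟩ := S.pelem_of_commute_caseI hI w hw1 k hwk c hcw
    rw [Subgroup.mem_bot]
    exact eq_one_of_mem_of_coprime_order (p := q) (Q : Subgroup G) Q.isPGroup' c hcQ (by
      have : orderOf c ∣ p ^ j := orderOf_dvd_of_pow_eq_one hj
      exact Nat.Coprime.coprime_dvd_left this
        (Nat.Coprime.pow_left j ((Nat.coprime_primes hp.out hq.out).mpr hqp.symm)))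
  have := card_modEq_card_fixed (p := p) (Q : Subgroup G) w hwn k hwk
  rw [hfix, Subgroup.card_bot] at this
  exact this

/-- I.4 -/
theorem index_modEq_one_caseI
    (hI : Subgroup.centralizer ((S.P : Subgroup G) : Set G) ≤ (S.P : Subgroup G)) :
    (S.P : Subgroup G).index ≡ 1 [MOD p] := by
  have hn : Nat.card G ≠ 0 := Nat.card_pos.ne'
  have h := ordCompl_modEq_one p (Nat.card G) hn (by
    intro q hq hqp hqd
    haveI : Fact q.Prime := ⟨hq⟩
    obtain ⟨Q⟩ : Nonempty (Sylow q G) := inferInstance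
    have := S.card_sylow_modEq_one_caseI hI q hqp Q
    rwa [Sylow.card_eq_multiplicity] at this)
  have hidx : (S.P : Subgroup G).index = Nat.card G / p ^ (Nat.card G).factorization p := by
    have h1 := (S.P : Subgroup G).index_mul_card
    rw [Sylow.card_eq_multiplicity] at h1
    exact (Nat.div_eq_of_eq_mul_left (pow_pos hp.out.pos _) h1.symm).symm
  rw [hidx]; exact h

/-- Case I is impossible. -/
theorem caseI_false
    (hI : Subgroup.centralizer ((S.P : Subgroup G) : Set G) ≤ (S.P : Subgroup G)) : False := by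
  obtain ⟨N, hN⟩ : ∃ N : Subgroup G, N = Subgroup.normalizer ((S.P : Subgroup G) : Set G) := ⟨_, rfl⟩
  have hPN : (S.P : Subgroup G) ≤ N := by rw [hN]; exact Subgroup.le_normalizer
  have hidx := S.index_modEq_one_caseI hI
  have hmul : (S.P : Subgroup G).relIndex N * N.index = (S.P : Subgroup G).index :=
    Subgroup.relIndex_mul_index hPN
  have hNidx : N.index ≡ 1 [MOD p] := by
    have := card_sylow_modEq_one p G
    rw [Sylow.card_eq_index_normalizer S.P] at this
    rw [hN]; exact this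
  have hd1 : (S.P : Subgroup G).relIndex N ≡ 1 [MOD p] := by
    have h1 : (S.P : Subgroup G).relIndex N * N.index ≡ (S.P : Subgroup G).relIndex N * 1 [MOD p] :=
      Nat.ModEq.mul_left _ hNidx
    rw [hmul, mul_one] at h1
    exact h1.symm.trans hidx
  have hCP : Subgroup.centralizer ((S.P : Subgroup G) : Set G) = S.P :=
    le_antisymm hI S.P_le_centralizer
  have key := Subgroup.card_dvd_of_injective _
    (QuotientGroup.kerLift_injective (S.P : Subgroup G).normalizerMonoidHom)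
  rw [Subgroup.normalizerMonoidHom_ker, ← Subgroup.index, ← Subgroup.relIndex, hCP, ← hN] at key
  have hcopd : ((S.P : Subgroup G).relIndex N).Coprime p := by
    apply Nat.Coprime.coprime_dvd_left (Subgroup.relIndex_dvd_index_of_le hPN)
    rw [Nat.coprime_comm, Nat.Prime.coprime_iff_not_dvd hp.out]
    exact S.P.not_dvd_index
  obtain ⟨k, hk⟩ := S.P.2.exists_card_eq
  have hk0 : 0 < k := by
    rcases Nat.eq_zero_or_pos k with h0 | h0
    · exfalso
      rw [h0, pow_zero] at hk
      exact S.P_ne_bot (Subgroup.card_eq_one.mp hk)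
    · exact h0
  haveI := S.hcyc
  rw [IsCyclic.card_mulAut, hk, Nat.totient_prime_pow hp.out hk0] at key
  have hdvd : (S.P : Subgroup G).relIndex N ∣ p - 1 :=
    Nat.Coprime.dvd_of_dvd_mul_left (hcopd.pow_right _) key
  have hlt : (S.P : Subgroup G).relIndex N < p :=
    lt_of_le_of_lt (Nat.le_of_dvd (Nat.sub_pos_of_lt hp.out.one_lt) hdvd)
      (Nat.sub_lt hp.out.pos Nat.one_pos)
  have hone : (S.P : Subgroup G).relIndex N = 1 := Nat.ModEq.eq_of_lt_of_lt hd1 hlt hp.out.one_lt
  have hNP : N ≤ S.P := Subgroup.relIndex_eq_one.mp hone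
  rw [hN] at hNP
  exact S.hxnc (S.P_le_centralizer (hNP S.hxn))

end SimpleCtx

end Cfsg.Agent.helper8cs
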