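import Mathlib
import Cfsg.Prelude.Def_Transfer
import Cfsg.Agent.Lib_helper10_NPC
import Cfsg.Agent.Lib_helper8_CS1
import Cfsg.Agent.Lib_helper8_CS2
import Cfsg.Agent.Lib_helper8_CS3
import Cfsg.Agent.Lib_helper8_CS4
import Cfsg.Agent.Lib_helper8_CS5
import Cfsg.Agent.Lib_helper8_CS6

set_option autoImplicit false

/-!
# Cyclic Sylow subgroup and abelian `p'`-subgroups: complements and the action on `P`
-/

universe u

namespace Cfsg.Agent.helper8cs

open Subgroup

section general

variable {G : Type u} [Group G] [Finite G] {p : ℕ} [hp : Fact p.Prime]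

/-- A complement to `P` in its normalizer (Schur--Zassenhaus). -/
theorem exists_complement_in_normalizer (P : Sylow p G) :
    ∃ K : Subgroup G, K ≤ Subgroup.normalizer ((P : Subgroup G) : Set G) ∧
      (Nat.card K).Coprime p ∧
      ∀ n ∈ Subgroup.normalizer ((P : Subgroup G) : Set G),
        ∃ u ∈ (P : Subgroup G), ∃ k ∈ K, n = u * k := by
  obtain ⟨N, hN⟩ : ∃ N : Subgroup G, N = Subgroup.normalizer ((P : Subgroup G) : Set G) := ⟨_, rfl⟩
  have hPN : (P : Subgroup G) ≤ N := by rw [hN]; exact Subgroup.le_normalizer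
  haveI hnorm : ((P : Subgroup G).subgroupOf N).Normal := by
    rw [hN]; exact Subgroup.normal_in_normalizer
  have hcard : Nat.card ((P : Subgroup G).subgroupOf N) = Nat.card (P : Subgroup G) :=
    Nat.card_congr (Subgroup.subgroupOfEquivOfLe hPN).toEquiv
  have hidx : ((P : Subgroup G).subgroupOf N).index = (P : Subgroup G).relIndex N := rfl
  have hcopidx : ((P : Subgroup G).relIndex N).Coprime p := by
    apply Nat.Coprime.coprime_dvd_left (Subgroup.relIndex_dvd_index_of_le hPN)
    rw [Nat.coprime_comm, Nat.Prime.coprime_iff_not_dvd hp.out]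
    exact P.not_dvd_index
  obtain ⟨k, hk⟩ := P.2.exists_card_eq
  have hcop : Nat.Coprime (Nat.card ((P : Subgroup G).subgroupOf N))
      ((P : Subgroup G).subgroupOf N).index := by
    rw [hcard, hidx, hk]
    exact (Nat.Coprime.pow_right k hcopidx).symm
  obtain ⟨K', hK'⟩ := Subgroup.exists_right_complement'_of_coprime hcop
  refine ⟨K'.map N.subtype, ?_, ?_, ?_⟩
  · rw [← hN]; exact Subgroup.map_subtype_le K'
  · rw [Subgroup.card_map_of_injective N.subtype_injective]
    have := hK'.symm.index_eq_card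
    rw [← this, hidx]; exact hcopidx
  · intro n hn
    rw [← hN] at hn
    obtain ⟨⟨a, b⟩, hab, -⟩ := (Subgroup.isComplement_iff_existsUnique.mp hK') ⟨n, hn⟩
    refine ⟨(a : ↥N), ?_, (b : ↥N), ?_, ?_⟩
    · exact Subgroup.mem_subgroupOf.mp a.2
    · exact ⟨b, b.2, rfl⟩
    · have := congrArg Subtype.val hab
      exact this.symm

/-- The action of a `p'`-subgroup of `N(P)` on the cyclic Sylow subgroup `P`. -/
theorem card_eq_card_inf_centralizer_mul (P : Sylow p G) (hcyc : IsCyclic P)
    (hP : (P : Subgroup G) ≠ ⊥) (A : Subgroup G)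
    (hA : A ≤ Subgroup.normalizer ((P : Subgroup G) : Set G)) (hAp : (Nat.card A).Coprime p) :
    ∃ d : ℕ, Nat.card A = Nat.card ↥(A ⊓ Subgroup.centralizer ((P : Subgroup G) : Set G)) * d ∧
      d ∣ p - 1 ∧ ∀ e : ℕ, 0 < e → (∀ a ∈ A, a ^ e = 1) → d ≤ e := by
  classical
  -- an element of order p
  have hpP : p ∣ Nat.card (P : Subgroup G) := by
    obtain ⟨k, hk⟩ := P.2.exists_card_eq
    rcases Nat.eq_zero_or_pos k with h0 | h0
    · exfalso
      rw [h0, pow_zero] at hk
      exact hP (Subgroup.card_eq_one.mp hk)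
    · rw [hk]; exact dvd_pow_self p h0.ne'
  obtain ⟨r', hr'⟩ := exists_prime_orderOf_dvd_card' (G := ↥(P : Subgroup G)) p hpP
  obtain ⟨r, hrP, hr⟩ : ∃ r : G, r ∈ (P : Subgroup G) ∧ orderOf r = p :=
    ⟨r'.1, r'.2, by rw [Subgroup.orderOf_coe]; exact hr'⟩
  have hr1 : r ≠ 1 := by
    rintro rfl
    rw [orderOf_one] at hr
    exact hp.out.ne_one hr.symm
  obtain ⟨Z, hZ⟩ : ∃ Z : Subgroup G, Z = Subgroup.zpowers r := ⟨_, rfl⟩
  have hZP : Z ≤ (P : Subgroup G) := by rw [hZ, Subgroup.zpowers_le]; exact hrP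
  have hZcard : Nat.card Z = p := by rw [hZ, Nat.card_zpowers, hr]
  haveI hZcyc : IsCyclic ↥Z := by rw [hZ]; infer_instance
  have hAZ : A ≤ Subgroup.normalizer ((Z : Subgroup G) : Set G) :=
    hA.trans (normalizer_le_normalizer_of_cyclic (P : Subgroup G) hcyc Z hZP)
  let f : ↥A →* MulAut ↥Z := Z.normalizerMonoidHom.comp (Subgroup.inclusion hAZ)
  have hf : ∀ (a : ↥A) (z : ↥Z), ((f a z : ↥Z) : G) = (a : G) * z * (a : G)⁻¹ := fun a z => rfl
  -- kernel
  have hker : f.ker.map A.subtype = A ⊓ Subgroup.centralizer ((P : Subgroup G) : Set G) := by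
    ext a
    constructor
    · rintro ⟨a', ha', rfl⟩
      rw [SetLike.mem_coe, MonoidHom.mem_ker] at ha'
      refine Subgroup.mem_inf.mpr ⟨a'.2, ?_⟩
      have hfix : (a' : G) * r * (a' : G)⁻¹ = r := by
        have := hf a' ⟨r, by rw [hZ]; exact Subgroup.mem_zpowers r⟩
        rw [ha'] at this
        exact this.symm
      have hcop : (orderOf (a' : G)).Coprime p :=
        Nat.Coprime.coprime_dvd_left (Subgroup.orderOf_dvd_natCard _ a'.2) hAp
      have hall := cyc_fix_all (P : Subgroup G) P.isPGroup' hcyc (a' : G) (hA a'.2) hcop r hrP hr1 hfix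
      rw [Subgroup.mem_centralizer_iff]
      intro v hv
      have := hall v hv
      show v * (a' : G) = (a' : G) * v
      calc v * (a' : G) = ((a' : G) * v * (a' : G)⁻¹) * (a' : G) := by rw [this]
        _ = (a' : G) * v := by group
    · intro ha
      obtain ⟨haA, haC⟩ := Subgroup.mem_inf.mp ha
      refine ⟨⟨a, haA⟩, ?_, rfl⟩
      rw [SetLike.mem_coe, MonoidHom.mem_ker]
      ext z
      rw [hf]
      have := (Subgroup.mem_centralizer_iff.mp haC) (z : G) (hZP z.2)
      show a * (z : G) * a⁻¹ = (z : G)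
      rw [← this]; group
  have hcardker : Nat.card f.ker = Nat.card ↥(A ⊓ Subgroup.centralizer ((P : Subgroup G) : Set G)) := by
    rw [← hker, Subgroup.card_map_of_injective A.subtype_injective]
  refine ⟨Nat.card f.range, ?_, ?_, ?_⟩
  · rw [← hcardker, ← Subgroup.index_ker f, Subgroup.card_mul_index]
  · have h1 := Subgroup.card_subgroup_dvd_card f.range
    rwa [IsCyclic.card_mulAut, hZcard, Nat.totient_prime hp.out] at h1
  · intro e he hexp
    haveI : Fact (Nat.card ↥Z).Prime := ⟨by rw [hZcard]; exact hp.out⟩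
    haveI : IsCyclic (MulAut ↥Z) :=
      isCyclic_of_surjective (IsCyclic.mulAutMulEquiv ↥Z).symm.toMonoidHom
        (IsCyclic.mulAutMulEquiv ↥Z).symm.surjective
    haveI : Fintype (MulAut ↥Z) := Fintype.ofFinite _
    have h1 := IsCyclic.card_pow_eq_one_le (α := MulAut ↥Z) he
    have h2 : Nat.card ↥f.range ≤ Nat.card {τ : MulAut ↥Z // τ ^ e = 1} := by
      apply Nat.card_le_card_of_injective (fun τ => (⟨τ.1, by
        obtain ⟨a, ha⟩ := τ.2
        rw [← ha, ← map_pow]
        have : a ^ e = 1 := Subtype.ext (hexp a a.2)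
        rw [this, map_one]⟩ : {τ : MulAut ↥Z // τ ^ e = 1}))
      intro τ₁ τ₂ h
      have h' := congrArg (fun t : {τ : MulAut ↥Z // τ ^ e = 1} => (t : MulAut ↥Z)) h
      exact Subtype.ext h'
    rw [Nat.card_eq_fintype_card (α := {τ : MulAut ↥Z // τ ^ e = 1}), Fintype.card_subtype] at h2
    exact h2.trans h1

end general

end Cfsg.Agent.helper8cs
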