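import Mathlib
import Cfsg.Prelude.Def_Transfer
import Cfsg.Agent.Lib_helper10_NPC
import Cfsg.Agent.Lib_helper8_CS1
import Cfsg.Agent.Lib_helper8_CS2
import Cfsg.Agent.Lib_helper8_CS3
import Cfsg.Agent.Lib_helper8_CS4
import Cfsg.Agent.Lib_helper8_CS5
import Cfsg.Agent.Lib_helper8_CS6
import Cfsg.Agent.Lib_helper8_CS7

set_option autoImplicit false

/-!
# Cyclic Sylow subgroup and abelian `p'`-subgroups: the simple case, `C(P)` larger than `P`
-/

universe u

namespace Cfsg.Agent.helper8cs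

open Subgroup

section general

variable {G : Type u} [Group G]

theorem conj_commute_iff (w h c : G) :
    (w * h * w⁻¹) * (w * c * w⁻¹) = (w * c * w⁻¹) * (w * h * w⁻¹) ↔ h * c = c * h := by
  constructor
  · intro H
    have h1 : w * (h * c) * w⁻¹ = w * (c * h) * w⁻¹ := by
      calc w * (h * c) * w⁻¹ = (w * h * w⁻¹) * (w * c * w⁻¹) := by group
        _ = (w * c * w⁻¹) * (w * h * w⁻¹) := H
        _ = w * (c * h) * w⁻¹ := by group
    exact mul_left_cancel (mul_right_cancel h1)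
  · intro H
    calc (w * h * w⁻¹) * (w * c * w⁻¹) = w * (h * c) * w⁻¹ := by group
      _ = w * (c * h) * w⁻¹ := by rw [H]
      _ = (w * c * w⁻¹) * (w * h * w⁻¹) := by group

variable [Finite G]

/-- The injection `(a, b) ↦ a * w b w⁻¹`. -/
theorem card_sq_le (C : Subgroup G) (Q : Subgroup G) (w : G)
    (hg : ∀ c ∈ Q, c ∈ C → c ≠ 1 → w * c * w⁻¹ ∉ C)
    (A : Subgroup G) (hAQ : A ≤ Q) (hwA : ∀ c ∈ A, w * c * w⁻¹ ∈ A) :
    Nat.card ↥(A ⊓ C) * Nat.card ↥(A ⊓ C) ≤ Nat.card A := by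
  rw [← Nat.card_prod]
  apply Nat.card_le_card_of_injective
    (fun ab : ↥(A ⊓ C) × ↥(A ⊓ C) => (⟨(ab.1 : G) * (w * (ab.2 : G) * w⁻¹),
      A.mul_mem (Subgroup.mem_inf.mp ab.1.2).1 (hwA _ (Subgroup.mem_inf.mp ab.2.2).1)⟩ : ↥A))
  rintro ⟨a, b⟩ ⟨a', b'⟩ h
  have h1 : (a : G) * (w * (b : G) * w⁻¹) = (a' : G) * (w * (b' : G) * w⁻¹) :=
    congrArg Subtype.val h
  have h2 : w * ((b' : G) * (b : G)⁻¹) * w⁻¹ = (a' : G)⁻¹ * (a : G) := by
    have : (a' : G)⁻¹ * (a : G) = (w * (b' : G) * w⁻¹) * (w * (b : G) * w⁻¹)⁻¹ := by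
      rw [eq_mul_inv_iff_mul_eq, mul_assoc, h1]; group
    rw [this]; group
  have hbb : (b' : G) * (b : G)⁻¹ ∈ A ⊓ C := (A ⊓ C).mul_mem b'.2 ((A ⊓ C).inv_mem b.2)
  have haa : (a' : G)⁻¹ * (a : G) ∈ A ⊓ C := (A ⊓ C).mul_mem ((A ⊓ C).inv_mem a'.2) a.2
  have hb1 : (b' : G) * (b : G)⁻¹ = 1 := by
    by_contra hne
    apply hg _ (hAQ (Subgroup.mem_inf.mp hbb).1) (Subgroup.mem_inf.mp hbb).2 hne
    rw [h2]
    exact (Subgroup.mem_inf.mp haa).2
  have hb : (b' : G) = b := by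
    rw [mul_inv_eq_one] at hb1; exact hb1
  have ha : (a : G) = a' := by
    rw [hb] at h1
    exact mul_right_cancel h1
  exact Prod.ext (Subtype.ext ha) (Subtype.ext hb.symm)

end general

/-- The context of the case `C(P) ≠ P`. -/
structure Ctx2 (p : ℕ) (G : Type u) [Group G] extends SimpleCtx p G where
  K : Subgroup G
  hKN : K ≤ Subgroup.normalizer ((P : Subgroup G) : Set G)
  hKp : (Nat.card K).Coprime p
  hdec : ∀ n ∈ Subgroup.normalizer ((P : Subgroup G) : Set G),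
    ∃ u ∈ (P : Subgroup G), ∃ k ∈ K, n = u * k
  c₀ : G
  hc₀ : c₀ ∈ Subgroup.centralizer ((P : Subgroup G) : Set G)
  hc₀P : c₀ ∉ (P : Subgroup G)

namespace Ctx2

variable {G : Type u} [Group G] [Finite G] {p : ℕ} [hp : Fact p.Prime] (T : Ctx2 p G)

theorem hKnp : ¬ p ∣ Nat.card T.K := by
  intro h
  have := Nat.Coprime.eq_one_of_dvd T.hKp.symm h
  exact hp.out.ne_one this

theorem K_comm : ∀ a ∈ T.K, ∀ b ∈ T.K, a * b = b * a :=
  fun _ ha _ hb => T.hab.comm T.hKnp ha hb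

theorem P_inf_K (g : G) (hgP : g ∈ (T.P : Subgroup G)) (hgK : g ∈ T.K) : g = 1 :=
  eq_one_of_mem_of_coprime_order (T.P : Subgroup G) T.P.isPGroup' g hgP
    (Nat.Coprime.coprime_dvd_left (Subgroup.orderOf_dvd_natCard _ hgK) T.hKp)

/-- `K ∩ C(P)`. -/
def K₀ : Subgroup G := T.K ⊓ Subgroup.centralizer ((T.P : Subgroup G) : Set G)

theorem mem_K₀_iff (g : G) :
    g ∈ T.K₀ ↔ g ∈ T.K ∧ g ∈ Subgroup.centralizer ((T.P : Subgroup G) : Set G) :=
  Subgroup.mem_inf

theorem commute_P_of_mem_centralizer (c : G)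
    (hc : c ∈ Subgroup.centralizer ((T.P : Subgroup G) : Set G)) (u : G)
    (hu : u ∈ (T.P : Subgroup G)) : u * c = c * u :=
  (Subgroup.mem_centralizer_iff.mp hc) u hu

theorem mem_K₀_of_coprime (c : G) (hc : c ∈ Subgroup.centralizer ((T.P : Subgroup G) : Set G))
    (hco : (orderOf c).Coprime p) : c ∈ T.K₀ := by
  have hcN : c ∈ Subgroup.normalizer ((T.P : Subgroup G) : Set G) :=
    Subgroup.centralizer_le_normalizer _ hc
  obtain ⟨u, hu, k, hk, hcuk⟩ := T.hdec c hcN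
  have hkC : k ∈ Subgroup.centralizer ((T.P : Subgroup G) : Set G) := by
    have : k = u⁻¹ * c := by rw [hcuk]; group
    rw [this]
    exact Subgroup.mul_mem _ (Subgroup.inv_mem _ (T.toSimpleCtx.P_le_centralizer hu)) hc
  have huk : Commute u k := T.commute_P_of_mem_centralizer k hkC u hu
  have h1 : u ^ orderOf c * k ^ orderOf c = 1 := by
    rw [← huk.mul_pow, ← hcuk, pow_orderOf_eq_one]
  have h2 : u ^ orderOf c = 1 := by
    apply T.P_inf_K _ (Subgroup.pow_mem _ hu _)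
    have : u ^ orderOf c = (k ^ orderOf c)⁻¹ := eq_inv_of_mul_eq_one_left h1
    rw [this]
    exact Subgroup.inv_mem _ (Subgroup.pow_mem _ hk _)
  have hu1 : u = 1 :=
    eq_one_of_mem_of_coprime_order (T.P : Subgroup G) T.P.isPGroup' u hu
      (Nat.Coprime.coprime_dvd_left (orderOf_dvd_of_pow_eq_one h2) hco)
  rw [hu1, one_mul] at hcuk
  rw [hcuk]
  exact Subgroup.mem_inf.mpr ⟨hk, hkC⟩

theorem exists_K₀_ne_one : ∃ y ∈ T.K₀, y ≠ 1 := by
  have hcN : T.c₀ ∈ Subgroup.normalizer ((T.P : Subgroup G) : Set G) :=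
    Subgroup.centralizer_le_normalizer _ T.hc₀
  obtain ⟨u, hu, k, hk, hcuk⟩ := T.hdec T.c₀ hcN
  have hkC : k ∈ Subgroup.centralizer ((T.P : Subgroup G) : Set G) := by
    have : k = u⁻¹ * T.c₀ := by rw [hcuk]; group
    rw [this]
    exact Subgroup.mul_mem _ (Subgroup.inv_mem _ (T.toSimpleCtx.P_le_centralizer hu)) T.hc₀
  refine ⟨k, Subgroup.mem_inf.mpr ⟨hk, hkC⟩, ?_⟩
  rintro rfl
  apply T.hc₀P
  rw [hcuk, mul_one]; exact hu

include T in
theorem center_eq_bot : Subgroup.center G = ⊥ := by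
  rcases T.hsimple (Subgroup.center G) inferInstance with h | h
  · exact h
  · exfalso
    apply T.hPn
    refine ⟨fun n hn g => ?_⟩
    have hg : g ∈ Subgroup.center G := by rw [h]; exact Subgroup.mem_top g
    have := Subgroup.mem_center_iff.mp hg n
    have h2 : g * n * g⁻¹ = n := by rw [← this]; group
    rw [h2]; exact hn

/-- The centralizer of a nontrivial element of `K₀` is `N(P)`. -/
theorem commute_iff_mem_normalizer (y : G) (hy : y ∈ T.K₀) (hy1 : y ≠ 1) (g : G) :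
    g * y = y * g ↔ g ∈ Subgroup.normalizer ((T.P : Subgroup G) : Set G) := by
  obtain ⟨hyK, hyC⟩ := Subgroup.mem_inf.mp hy
  have hback : ∀ g ∈ Subgroup.normalizer ((T.P : Subgroup G) : Set G), g * y = y * g := by
    intro g hg
    obtain ⟨u, hu, k, hk, rfl⟩ := T.hdec g hg
    have h1 : u * y = y * u := T.commute_P_of_mem_centralizer y hyC u hu
    have h2 : k * y = y * k := T.K_comm k hk y hyK
    calc u * k * y = u * (k * y) := by group
      _ = u * (y * k) := by rw [h2]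
      _ = (u * y) * k := by group
      _ = (y * u) * k := by rw [h1]
      _ = y * (u * k) := by group
  constructor
  · intro hg
    have hle := T.toSimpleCtx.le_normalizer_of_proper (Subgroup.centralizer ({y} : Set G)) (by
        intro htop
        apply hy1
        have : y ∈ Subgroup.center G := by
          rw [Subgroup.mem_center_iff]
          intro g
          have hg : g ∈ Subgroup.centralizer ({y} : Set G) := by rw [htop]; exact Subgroup.mem_top g
          exact Subgroup.mem_centralizer_singleton_iff.mp hg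
        rw [T.center_eq_bot, Subgroup.mem_bot] at this
        exact this)
      (by
        intro u hu
        rw [Subgroup.mem_centralizer_singleton_iff]
        exact T.commute_P_of_mem_centralizer y hyC u hu)
      (by
        rw [Subgroup.mem_centralizer_singleton_iff]
        exact hback _ T.hxn)
    exact hle (Subgroup.mem_centralizer_singleton_iff.mpr hg)
  · exact hback g

/-- Data attached to a Sylow `q`-subgroup meeting `K₀`. -/
theorem sylow_data (q : ℕ) [hq : Fact q.Prime] (hqp : q ≠ p) (Q : Sylow q G) (y : G)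
    (hyQ : y ∈ (Q : Subgroup G)) (hyK : y ∈ T.K₀) (hy1 : y ≠ 1) :
    (∀ a ∈ (Q : Subgroup G), ∀ b ∈ (Q : Subgroup G), a * b = b * a) ∧
    ((Q : Subgroup G) ≤ Subgroup.normalizer ((T.P : Subgroup G) : Set G)) ∧
    ∃ w ∈ Subgroup.normalizer ((Q : Subgroup G) : Set G), ∃ k : ℕ, w ^ (p ^ k) = 1 ∧
      w ∉ Subgroup.normalizer ((T.P : Subgroup G) : Set G) ∧
      ∀ c ∈ (Q : Subgroup G), c ∈ Subgroup.centralizer ((T.P : Subgroup G) : Set G) → c ≠ 1 →
        w * c * w⁻¹ ∉ Subgroup.centralizer ((T.P : Subgroup G) : Set G) := by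
  have hpQ : ¬ p ∣ Nat.card (Q : Subgroup G) := not_dvd_card_sylow_of_ne q hqp Q
  have hQcomm : ∀ a ∈ (Q : Subgroup G), ∀ b ∈ (Q : Subgroup G), a * b = b * a :=
    fun a ha b hb => T.hab.comm hpQ ha hb
  have hQN : (Q : Subgroup G) ≤ Subgroup.normalizer ((T.P : Subgroup G) : Set G) := by
    intro c hc
    exact (T.commute_iff_mem_normalizer y hyK hy1 c).mp (hQcomm c hc y hyQ)
  have hQne : (Q : Subgroup G) ≠ ⊥ := by
    intro h
    rw [h, Subgroup.mem_bot] at hyQ
    exact hy1 hyQ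
  have hQcop : ∀ c ∈ (Q : Subgroup G), (orderOf c).Coprime p := by
    intro c hc
    apply Nat.Coprime.coprime_dvd_left (Subgroup.orderOf_dvd_natCard _ hc)
    rw [Nat.coprime_comm]
    exact (Nat.Prime.coprime_iff_not_dvd hp.out).mpr hpQ
  obtain ⟨w, hwn, k, hwk, hwc⟩ := T.toSimpleCtx.exists_pelem_normalizer q hqp Q hQne
  have hwN : w ∉ Subgroup.normalizer ((T.P : Subgroup G) : Set G) := by
    intro hwN
    have hwP : w ∈ (T.P : Subgroup G) := pelem_mem_sylow T.P w hwN k hwk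
    apply hwc
    rw [Subgroup.mem_centralizer_iff]
    intro c hc
    have hcN := hQN hc
    have hz1 : w * c * w⁻¹ * c⁻¹ ∈ (Q : Subgroup G) :=
      Subgroup.mul_mem _ ((Subgroup.mem_normalizer_iff.mp hwn c).mp hc) (Subgroup.inv_mem _ hc)
    have hz2 : w * c * w⁻¹ * c⁻¹ ∈ (T.P : Subgroup G) := by
      have : w * c * w⁻¹ * c⁻¹ = w * (c * w⁻¹ * c⁻¹) := by group
      rw [this]
      exact Subgroup.mul_mem _ hwP
        ((Subgroup.mem_normalizer_iff.mp hcN w⁻¹).mp (Subgroup.inv_mem _ hwP))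
    have hz : w * c * w⁻¹ * c⁻¹ = 1 :=
      eq_one_of_mem_of_coprime_order (T.P : Subgroup G) T.P.isPGroup' _ hz2 (hQcop _ hz1)
    have : w * c = c * w := by
      calc w * c = (w * c * w⁻¹ * c⁻¹) * (c * w) := by group
        _ = c * w := by rw [hz, one_mul]
    exact this.symm
  refine ⟨hQcomm, hQN, w, hwn, k, hwk, hwN, ?_⟩
  intro c hcQ hcC hc1 hcon
  apply hwN
  have hcK : c ∈ T.K₀ := T.mem_K₀_of_coprime c hcC (hQcop c hcQ)
  have hc'1 : w * c * w⁻¹ ≠ 1 := fun h => hc1 (conj_eq_one_iff.mp h)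
  have hc'K : w * c * w⁻¹ ∈ T.K₀ := T.mem_K₀_of_coprime _ hcon (by
    rw [orderOf_conj']; exact hQcop c hcQ)
  have hNN : w ∈ Subgroup.normalizer
      ((Subgroup.normalizer ((T.P : Subgroup G) : Set G) : Subgroup G) : Set G) := by
    rw [Subgroup.mem_normalizer_iff]
    intro h
    rw [← T.commute_iff_mem_normalizer c hcK hc1 h,
      ← T.commute_iff_mem_normalizer _ hc'K hc'1 (w * h * w⁻¹)]
    exact (conj_commute_iff w h c).symm
  have hnn := Sylow.normalizer_normalizer T.P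
  have h3 : w ∈ Subgroup.normalizer
      ((Subgroup.normalizer ((T.P : Sylow p G) : Set G) : Subgroup G) : Set G) := hNN
  rw [hnn] at h3
  exact h3

end Ctx2

end Cfsg.Agent.helper8cs
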