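import Mathlib
import Cfsg.Prelude.Def_Transfer
import Cfsg.Agent.Lib_helper10_NPC
import Cfsg.Agent.Lib_helper8_CS1
import Cfsg.Agent.Lib_helper8_CS2
import Cfsg.Agent.Lib_helper8_CS3
import Cfsg.Agent.Lib_helper8_CS4
import Cfsg.Agent.Lib_helper8_CS5
import Cfsg.Agent.Lib_helper8_CS6
import Cfsg.Agent.Lib_helper8_CS7
import Cfsg.Agent.Lib_helper8_CS8

set_option autoImplicit false

/-!
# Cyclic Sylow subgroup and abelian `p'`-subgroups: the primes in the case `C(P) ≠ P`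
-/

universe u

namespace Cfsg.Agent.helper8cs

open Subgroup

theorem nt_final (p q : ℕ) (hp : p.Prime) (hq : q.Prime) (hqp : q < p) (m : ℕ) (hm : m < 2)
    (h : q * q ≡ q ^ m [MOD p]) : q = 2 ∧ p = 3 := by
  have hq2 : 2 ≤ q := hq.two_le
  obtain ⟨r, rfl⟩ : ∃ r, q = r + 1 := ⟨q - 1, by omega⟩
  have hr1 : 1 ≤ r := by omega
  have hnd1 : ¬ p ∣ r := fun hd => by have := Nat.le_of_dvd (by omega) hd; omega
  have hnd2 : ¬ p ∣ r + 1 := fun hd => by have := Nat.le_of_dvd (by omega) hd; omega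
  interval_cases m
  · rw [pow_zero] at h
    have h1 : p ∣ (r + 1) * (r + 1) - 1 := (Nat.modEq_iff_dvd' (by nlinarith)).mp h.symm
    have h2 : (r + 1) * (r + 1) - 1 = r * (r + 2) := by
      apply Nat.sub_eq_of_eq_add; ring
    rw [h2] at h1
    rcases (Nat.Prime.dvd_mul hp).mp h1 with h3 | h3
    · exact absurd h3 hnd1
    · have h4 := Nat.le_of_dvd (by omega) h3
      have h5 : p = r + 2 := by omega
      rcases hq.eq_two_or_odd with h6 | h6
      · constructor <;> omega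
      · rcases hp.eq_two_or_odd with h7 | h7 <;> omega
  · rw [pow_one] at h
    have h1 : p ∣ (r + 1) * (r + 1) - (r + 1) := (Nat.modEq_iff_dvd' (by nlinarith)).mp h.symm
    have h2 : (r + 1) * (r + 1) - (r + 1) = (r + 1) * r := by
      apply Nat.sub_eq_of_eq_add; ring
    rw [h2] at h1
    rcases (Nat.Prime.dvd_mul hp).mp h1 with h3 | h3
    · exact absurd h3 hnd2
    · exact absurd h3 hnd1

section general

variable {G : Type u} [Group G]

/-- The elements of order dividing `q` in a commutative subgroup. -/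
def omegaSub (Q : Subgroup G) (hQ : ∀ a ∈ Q, ∀ b ∈ Q, a * b = b * a) (q : ℕ) : Subgroup G where
  carrier := {c | c ∈ Q ∧ c ^ q = 1}
  one_mem' := ⟨Q.one_mem, one_pow q⟩
  mul_mem' := by
    rintro a b ⟨ha, ha'⟩ ⟨hb, hb'⟩
    exact ⟨Q.mul_mem ha hb, by
      rw [(show Commute a b from hQ a ha b hb).mul_pow, ha', hb', one_mul]⟩
  inv_mem' := by
    rintro a ⟨ha, ha'⟩
    exact ⟨Q.inv_mem ha, by rw [inv_pow, ha', inv_one]⟩

theorem mem_omegaSub (Q : Subgroup G) (hQ : ∀ a ∈ Q, ∀ b ∈ Q, a * b = b * a) (q : ℕ) (c : G) :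
    c ∈ omegaSub Q hQ q ↔ c ∈ Q ∧ c ^ q = 1 := Iff.rfl

end general

namespace Ctx2

variable {G : Type u} [Group G] [Finite G] {p : ℕ} [hp : Fact p.Prime] (T : Ctx2 p G)

theorem prime_eq (q : ℕ) [hq : Fact q.Prime] (hqd : q ∣ Nat.card T.K₀) : q = 2 ∧ p = 3 := by
  have hK₀K : T.K₀ ≤ T.K := inf_le_left
  have hqp : q ≠ p := by
    rintro rfl
    exact T.hKnp (hqd.trans (Subgroup.card_dvd_of_le hK₀K))
  obtain ⟨y', hy'⟩ := exists_prime_orderOf_dvd_card' (G := ↥T.K₀) q hqd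
  obtain ⟨y, hyK, hyo⟩ : ∃ y : G, y ∈ T.K₀ ∧ orderOf y = q :=
    ⟨y'.1, y'.2, by rw [Subgroup.orderOf_coe]; exact hy'⟩
  have hy1 : y ≠ 1 := by
    rintro rfl
    rw [orderOf_one] at hyo
    exact hq.out.ne_one hyo.symm
  have hyq : y ^ q = 1 := by rw [← hyo]; exact pow_orderOf_eq_one y
  have hZ : IsPGroup q (Subgroup.zpowers y) :=
    isPGroup_zpowers_of_pow (p := q) y 1 (by rw [pow_one]; exact hyq)
  obtain ⟨Q, hQ⟩ := hZ.exists_le_sylow
  have hyQ : y ∈ (Q : Subgroup G) := hQ (Subgroup.mem_zpowers y)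
  obtain ⟨hQcomm, hQN, w, hwn, k, hwk, -, hg⟩ := T.sylow_data q hqp Q y hyQ hyK hy1
  have hyC : y ∈ Subgroup.centralizer ((T.P : Subgroup G) : Set G) := (Subgroup.mem_inf.mp hyK).2
  obtain ⟨E, hE⟩ : ∃ E : Subgroup G, E = omegaSub (Q : Subgroup G) hQcomm q := ⟨_, rfl⟩
  have hEmem : ∀ c, c ∈ E ↔ c ∈ (Q : Subgroup G) ∧ c ^ q = 1 := by
    intro c; rw [hE]; exact Iff.rfl
  have hEQ : E ≤ (Q : Subgroup G) := fun c hc => ((hEmem c).mp hc).1
  have hwE : ∀ c ∈ E, w * c * w⁻¹ ∈ E := by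
    intro c hc
    obtain ⟨h1, h2⟩ := (hEmem c).mp hc
    exact (hEmem _).mpr ⟨(Subgroup.mem_normalizer_iff.mp hwn c).mp h1, by
      rw [conj_pow, h2]; group⟩
  have hEcop : (Nat.card E).Coprime p := by
    apply Nat.Coprime.coprime_dvd_left (Subgroup.card_dvd_of_le hEQ)
    rw [Nat.coprime_comm]
    exact (Nat.Prime.coprime_iff_not_dvd hp.out).mpr (not_dvd_card_sylow_of_ne q hqp Q)
  obtain ⟨d, hd1, hd2, hd3⟩ := card_eq_card_inf_centralizer_mul T.P T.hcyc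
    T.toSimpleCtx.P_ne_bot E (hEQ.trans hQN) hEcop
  have hdq : d ≤ q := hd3 q hq.out.pos (fun a ha => ((hEmem a).mp ha).2)
  have hsq := card_sq_le (Subgroup.centralizer ((T.P : Subgroup G) : Set G)) (Q : Subgroup G) w hg
    E hEQ hwE
  obtain ⟨e₀, he₀⟩ : ∃ e₀, e₀ = Nat.card ↥(E ⊓ Subgroup.centralizer ((T.P : Subgroup G) : Set G)) :=
    ⟨_, rfl⟩
  rw [← he₀] at hd1 hsq
  have he₀pos : 0 < e₀ := by rw [he₀]; exact Nat.card_pos
  have he₀d : e₀ ≤ d := by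
    rw [hd1] at hsq
    exact Nat.le_of_mul_le_mul_left hsq he₀pos
  have hyE : y ∈ E := (hEmem y).mpr ⟨hyQ, hyq⟩
  have hyE₀ : y ∈ E ⊓ Subgroup.centralizer ((T.P : Subgroup G) : Set G) :=
    Subgroup.mem_inf.mpr ⟨hyE, hyC⟩
  have hqe₀ : q ∣ e₀ := by
    rw [← hyo, he₀]; exact Subgroup.orderOf_dvd_natCard _ hyE₀
  have hqle : q ≤ e₀ := Nat.le_of_dvd he₀pos hqe₀
  have he₀q : e₀ = q := le_antisymm (he₀d.trans hdq) hqle
  have hdq' : d = q := le_antisymm hdq (by rw [← he₀q]; exact he₀d)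
  have hEcard : Nat.card E = q * q := by rw [hd1, he₀q, hdq']
  have hqp1 : q ∣ p - 1 := by rw [← hdq']; exact hd2
  have hqltp : q < p :=
    lt_of_le_of_lt (Nat.le_of_dvd (Nat.sub_pos_of_lt hp.out.one_lt) hqp1)
      (Nat.sub_lt hp.out.pos Nat.one_pos)
  have hwnE : w ∈ Subgroup.normalizer ((E : Subgroup G) : Set G) := by
    rw [Subgroup.mem_normalizer_iff]
    intro c
    constructor
    · exact hwE c
    · intro hc
      obtain ⟨h1, h2⟩ := (hEmem _).mp hc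
      refine (hEmem c).mpr ⟨(Subgroup.mem_normalizer_iff.mp hwn c).mpr h1, ?_⟩
      rw [conj_pow] at h2
      exact conj_eq_one_iff.mp h2
  have hmod := card_modEq_card_fixed (p := p) E w hwnE k hwk
  obtain ⟨F, hF⟩ : ∃ F : Subgroup G, F = E ⊓ Subgroup.centralizer ({w} : Set G) := ⟨_, rfl⟩
  rw [← hF] at hmod
  have hFE : F ≤ E := by rw [hF]; exact inf_le_left
  have hFne : F ≠ E := by
    intro h
    have hyF : y ∈ F := by rw [h]; exact hyE
    rw [hF] at hyF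
    have hyw := Subgroup.mem_centralizer_singleton_iff.mp (Subgroup.mem_inf.mp hyF).2
    apply hg y hyQ hyC hy1
    have : w * y * w⁻¹ = y := by rw [← hyw]; group
    rw [this]; exact hyC
  have hFdvd : Nat.card F ∣ q ^ 2 := by
    rw [pow_two, ← hEcard]; exact Subgroup.card_dvd_of_le hFE
  obtain ⟨m, hm2, hFm⟩ := (Nat.dvd_prime_pow hq.out).mp hFdvd
  have hmne : m ≠ 2 := by
    rintro rfl
    apply hFne
    exact Subgroup.eq_of_le_of_card_ge hFE (by rw [hFm, hEcard, pow_two])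
  rw [hEcard, hFm] at hmod
  exact nt_final p q hp.out hq.out hqltp m (by omega) hmod

end Ctx2

end Cfsg.Agent.helper8cs
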