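import Mathlib
import Cfsg.Prelude.Def_Transfer
import Cfsg.Agent.Lib_helper10_NPC
import Cfsg.Agent.Lib_helper8_CS1
import Cfsg.Agent.Lib_helper8_CS2
import Cfsg.Agent.Lib_helper8_CS3
import Cfsg.Agent.Lib_helper8_CS4
import Cfsg.Agent.Lib_helper8_CS5
import Cfsg.Agent.Lib_helper8_CS6
import Cfsg.Agent.Lib_helper8_CS7
import Cfsg.Agent.Lib_helper8_CS8
import Cfsg.Agent.Lib_helper8_CS9

set_option autoImplicit false

/-!
# Cyclic Sylow subgroup and abelian `p'`-subgroups: the structure for `p = 3`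
-/

universe u

namespace Cfsg.Agent.helper8cs

open Subgroup

section general

variable {G : Type u} [Group G] [Finite G]

theorem mem_finset_of_card_le [DecidableEq G] (K : Subgroup G) (s : Finset G)
    (hs : ∀ a ∈ s, a ∈ K) (hc : Nat.card K ≤ s.card) : ∀ c ∈ K, c ∈ s := by
  classical
  haveI : Fintype G := Fintype.ofFinite G
  have h1 : s ⊆ (K : Set G).toFinset := fun a ha => Set.mem_toFinset.mpr (hs a ha)
  have h2 : ((K : Set G).toFinset).card = Nat.card K := by
    rw [Set.toFinset_card, Nat.card_eq_fintype_card]; rfl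
  have h3 := Finset.eq_of_subset_of_card_le h1 (by rw [h2]; exact hc)
  intro c hcK
  rw [h3]; exact Set.mem_toFinset.mpr hcK

theorem exists_conj_mem_sylow (q : ℕ) [hq : Fact q.Prime] (Q : Sylow q G) (e : G) (k : ℕ)
    (he : e ^ (q ^ k) = 1) : ∃ g : G, g * e * g⁻¹ ∈ (Q : Subgroup G) := by
  have hZ : IsPGroup q (Subgroup.zpowers e) := isPGroup_zpowers_of_pow e k he
  obtain ⟨Q', hQ'⟩ := hZ.exists_le_sylow
  obtain ⟨g, hg⟩ := MulAction.exists_smul_eq G Q' Q
  refine ⟨g, ?_⟩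
  rw [← hg, Sylow.coe_subgroup_smul]
  have := Subgroup.smul_mem_pointwise_smul e (MulAut.conj g) (Q' : Subgroup G)
    (hQ' (Subgroup.mem_zpowers e))
  rwa [MulAut.smul_def, MulAut.conj_apply] at this

end general

/-- The final configuration: `p = 3`, `K` a four-group. -/
structure Ctx3 (p : ℕ) (G : Type u) [Group G] extends Ctx2 p G where
  hp3 : p = 3
  y : G
  t : G
  hyK : y ∈ K
  hyC : y ∈ Subgroup.centralizer ((P : Subgroup G) : Set G)
  hy1 : y ≠ 1
  htK : t ∈ K
  htC : t ∉ Subgroup.centralizer ((P : Subgroup G) : Set G)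
  hKmem : ∀ c ∈ K, c = 1 ∨ c = y ∨ c = t ∨ c = y * t
  hyy : y * y = 1
  htt : t * t = 1
  Q : Sylow 2 G
  hQK : (Q : Subgroup G) = K
  hconj : ∀ c ∈ K, c ≠ 1 → ∃ g : G, g * c * g⁻¹ = y

namespace Ctx2

variable {G : Type u} [Group G] [Finite G] {p : ℕ} [hp : Fact p.Prime] (T : Ctx2 p G)

include T in
theorem nonempty_ctx3 : Nonempty (Ctx3 p G) := by
  classical
  obtain ⟨y₀, hy₀K, hy₀1⟩ := T.exists_K₀_ne_one
  have hK₀ne : T.K₀ ≠ ⊥ := fun h => hy₀1 (by rw [h, Subgroup.mem_bot] at hy₀K; exact hy₀K)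
  have hcard1 : Nat.card T.K₀ ≠ 1 := fun h => hK₀ne (Subgroup.card_eq_one.mp h)
  obtain ⟨q₀, hq₀, hq₀d⟩ := Nat.exists_prime_and_dvd hcard1
  haveI : Fact q₀.Prime := ⟨hq₀⟩
  obtain ⟨-, hp3⟩ := T.prime_eq q₀ hq₀d
  have hall : ∀ q : ℕ, q.Prime → q ∣ Nat.card T.K₀ → q = 2 := fun q hq hqd => by
    haveI : Fact q.Prime := ⟨hq⟩
    exact (T.prime_eq q hqd).1
  have hK₀pow : Nat.card T.K₀ = 2 ^ (Nat.card T.K₀).primeFactorsList.length :=
    Nat.eq_prime_pow_of_unique_prime_dvd Nat.card_pos.ne' (fun {d} hd hdd => hall d hd hdd)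
  obtain ⟨d, hd1, hd2, -⟩ := card_eq_card_inf_centralizer_mul T.P T.hcyc
    T.toSimpleCtx.P_ne_bot T.K T.hKN T.hKp
  have hd1' : Nat.card T.K = Nat.card T.K₀ * d := hd1
  have hd2' : d ∣ 2 := by rw [hp3] at hd2; exact hd2
  have hdle : d ≤ 2 := Nat.le_of_dvd (by norm_num) hd2'
  have hK2 : IsPGroup 2 T.K := by
    rcases (Nat.dvd_prime Nat.prime_two).mp hd2' with h | h
    · apply IsPGroup.of_card (n := (Nat.card T.K₀).primeFactorsList.length)
      rw [hd1', h, mul_one]; exact hK₀pow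
    · apply IsPGroup.of_card (n := (Nat.card T.K₀).primeFactorsList.length + 1)
      rw [hd1', h, pow_succ, ← hK₀pow]
  obtain ⟨Q, hKQ⟩ := hK2.exists_le_sylow
  have h2p : (2 : ℕ) ≠ p := by rw [hp3]; norm_num
  have hyK : y₀ ∈ T.K := (Subgroup.mem_inf.mp hy₀K).1
  have hyC : y₀ ∈ Subgroup.centralizer ((T.P : Subgroup G) : Set G) := (Subgroup.mem_inf.mp hy₀K).2
  have hy₀Q : y₀ ∈ (Q : Subgroup G) := hKQ hyK
  obtain ⟨hQcomm, hQN, w, hwn, k, hwk, hwN, hg⟩ := T.sylow_data 2 h2p Q y₀ hy₀Q hy₀K hy₀1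
  have hQK : (Q : Subgroup G) = T.K := by
    apply le_antisymm _ hKQ
    intro c hc
    obtain ⟨u, hu, k', hk', rfl⟩ := T.hdec c (hQN hc)
    have huQ : u ∈ (Q : Subgroup G) := by
      have : u = (u * k') * k'⁻¹ := by group
      rw [this]; exact Subgroup.mul_mem _ hc (Subgroup.inv_mem _ (hKQ hk'))
    have hu1 : u = 1 :=
      eq_one_of_mem_of_coprime_order (T.P : Subgroup G) T.P.isPGroup' u hu (by
        apply Nat.Coprime.coprime_dvd_left (Subgroup.orderOf_dvd_natCard _ huQ)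
        rw [Nat.coprime_comm]
        exact (Nat.Prime.coprime_iff_not_dvd hp.out).mpr (not_dvd_card_sylow_of_ne 2 h2p Q))
    rw [hu1, one_mul]; exact hk'
  have hwQ : ∀ c ∈ (Q : Subgroup G), w * c * w⁻¹ ∈ (Q : Subgroup G) :=
    fun c hc => (Subgroup.mem_normalizer_iff.mp hwn c).mp hc
  have hsq := card_sq_le (Subgroup.centralizer ((T.P : Subgroup G) : Set G)) (Q : Subgroup G) w hg
    (Q : Subgroup G) le_rfl hwQ
  rw [hQK] at hsq
  have hsq' : Nat.card T.K₀ * Nat.card T.K₀ ≤ Nat.card T.K := hsq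
  have hpos : 0 < Nat.card T.K₀ := Nat.card_pos
  have hle2 : Nat.card T.K₀ ≤ d := by
    rw [hd1'] at hsq'
    exact Nat.le_of_mul_le_mul_left hsq' hpos
  have hK₀2 : Nat.card T.K₀ = 2 := by omega
  have hd2eq : d = 2 := by omega
  have hK4 : Nat.card T.K = 4 := by rw [hd1', hK₀2, hd2eq]
  have hyy : y₀ * y₀ = 1 := by
    have h1 : orderOf y₀ ∣ 2 := by
      rw [← hK₀2]; exact Subgroup.orderOf_dvd_natCard _ hy₀K
    have := orderOf_dvd_iff_pow_eq_one.mp h1
    rwa [pow_two] at this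
  obtain ⟨t, ht⟩ : ∃ t, t = w * y₀ * w⁻¹ := ⟨_, rfl⟩
  have htK : t ∈ T.K := by rw [ht, ← hQK]; exact hwQ y₀ hy₀Q
  have htC : t ∉ Subgroup.centralizer ((T.P : Subgroup G) : Set G) := by
    rw [ht]; exact hg y₀ hy₀Q hyC hy₀1
  have htt : t * t = 1 := by
    rw [ht]
    calc w * y₀ * w⁻¹ * (w * y₀ * w⁻¹) = w * (y₀ * y₀) * w⁻¹ := by group
      _ = 1 := by rw [hyy]; group
  have hty : t * y₀ = y₀ * t := T.K_comm t htK y₀ hyK
  have h1y : (1 : G) ≠ y₀ := hy₀1.symm
  have h1t : (1 : G) ≠ t := by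
    intro h; apply htC; rw [← h]; exact Subgroup.one_mem _
  have hyt : y₀ ≠ t := by
    intro h; apply htC; rw [← h]; exact hyC
  have h1yt : (1 : G) ≠ y₀ * t := by
    intro h; apply htC
    have : y₀⁻¹ = t := inv_eq_iff_mul_eq_one.mpr h.symm
    rw [← this]; exact Subgroup.inv_mem _ hyC
  have hyyt : y₀ ≠ y₀ * t := by
    intro h
    apply h1t
    have : y₀ * 1 = y₀ * t := by rw [mul_one]; exact h
    exact mul_left_cancel this
  have htyt : t ≠ y₀ * t := by
    intro h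
    apply h1y
    have : 1 * t = y₀ * t := by rw [one_mul]; exact h
    exact mul_right_cancel this
  have hs4 : ({1, y₀, t, y₀ * t} : Finset G).card = 4 := by
    rw [Finset.card_insert_of_notMem, Finset.card_insert_of_notMem,
      Finset.card_insert_of_notMem, Finset.card_singleton]
    · simp only [Finset.mem_singleton]; exact htyt
    · simp only [Finset.mem_insert, Finset.mem_singleton, not_or]; exact ⟨hyt, hyyt⟩
    · simp only [Finset.mem_insert, Finset.mem_singleton, not_or]; exact ⟨h1y, h1t, h1yt⟩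
  have hKmem : ∀ c ∈ T.K, c = 1 ∨ c = y₀ ∨ c = t ∨ c = y₀ * t := by
    intro c hc
    have := mem_finset_of_card_le T.K ({1, y₀, t, y₀ * t} : Finset G) (by
      intro a ha
      simp only [Finset.mem_insert, Finset.mem_singleton] at ha
      rcases ha with rfl | rfl | rfl | rfl
      · exact Subgroup.one_mem _
      · exact hyK
      · exact htK
      · exact Subgroup.mul_mem _ hyK htK) (by rw [hK4, hs4]) c hc
    simpa only [Finset.mem_insert, Finset.mem_singleton] using this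
  -- conjugacy of the involutions of K
  have hwt : w * t * w⁻¹ = y₀ * t := by
    have hmem : w * t * w⁻¹ ∈ T.K := by
      rw [← hQK]; exact hwQ t (by rw [hQK]; exact htK)
    rcases hKmem _ hmem with h | h | h | h
    · exact absurd (conj_eq_one_iff.mp h).symm h1t
    · exfalso
      apply hwN
      have h2 : (w * w) * y₀ = y₀ * (w * w) := by
        have : (w * w) * y₀ * (w * w)⁻¹ = y₀ := by
          calc (w * w) * y₀ * (w * w)⁻¹ = w * (w * y₀ * w⁻¹) * w⁻¹ := by group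
            _ = y₀ := by rw [← ht, h]
        calc (w * w) * y₀ = ((w * w) * y₀ * (w * w)⁻¹) * (w * w) := by group
          _ = y₀ * (w * w) := by rw [this]
      have h3 : w ^ 2 ∈ Subgroup.normalizer ((T.P : Subgroup G) : Set G) := by
        rw [pow_two]
        exact (T.commute_iff_mem_normalizer y₀ hy₀K hy₀1 (w * w)).mp h2
      have h4 : w ^ (p ^ k) ∈ Subgroup.normalizer ((T.P : Subgroup G) : Set G) := by
        rw [hwk]; exact Subgroup.one_mem _
      refine mem_of_pow_mem_of_coprime _ w 2 (p ^ k) ?_ h3 h4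
      apply Nat.Coprime.pow_right
      rw [hp3]; norm_num
    · exfalso
      have : w * t * w⁻¹ = w * y₀ * w⁻¹ := by rw [h, ht]
      have h2 : t = y₀ := by
        have := mul_right_cancel this
        exact mul_left_cancel this
      exact hyt h2.symm
    · exact h
  have hconj : ∀ c ∈ T.K, c ≠ 1 → ∃ g : G, g * c * g⁻¹ = y₀ := by
    intro c hc hc1
    rcases hKmem c hc with h | h | h | h
    · exact absurd h hc1
    · exact ⟨1, by rw [h]; group⟩
    · refine ⟨w⁻¹, ?_⟩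
      rw [h, ht]; group
    · refine ⟨w, ?_⟩
      rw [h]
      calc w * (y₀ * t) * w⁻¹ = (w * y₀ * w⁻¹) * (w * t * w⁻¹) := by group
        _ = t * (y₀ * t) := by rw [← ht, hwt]
        _ = (t * y₀) * t := by group
        _ = (y₀ * t) * t := by rw [hty]
        _ = y₀ * (t * t) := by group
        _ = y₀ := by rw [htt, mul_one]
  exact ⟨{ toCtx2 := T, hp3 := hp3, y := y₀, t := t, hyK := hyK, hyC := hyC, hy1 := hy₀1,
           htK := htK, htC := htC, hKmem := hKmem, hyy := hyy, htt := htt, Q := Q, hQK := hQK,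
           hconj := hconj }⟩

end Ctx2

end Cfsg.Agent.helper8cs
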