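import Mathlib
import Cfsg.Prelude.Def_Transfer
import Cfsg.Agent.Lib_helper10_NPC
import Cfsg.Agent.Lib_helper8_CS1
import Cfsg.Agent.Lib_helper8_CS2
import Cfsg.Agent.Lib_helper8_CS3
import Cfsg.Agent.Lib_helper8_CS4
import Cfsg.Agent.Lib_helper8_CS5
import Cfsg.Agent.Lib_helper8_CS6
import Cfsg.Agent.Lib_helper8_CS7
import Cfsg.Agent.Lib_helper8_CS8
import Cfsg.Agent.Lib_helper8_CS9
import Cfsg.Agent.Lib_helper8_CS10

set_option autoImplicit false

/-!
# Cyclic Sylow subgroup and abelian `p'`-subgroups: involutions when `p = 3`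
-/

universe u

namespace Cfsg.Agent.helper8cs

open Subgroup

section general

variable {G : Type u} [Group G]

theorem inv_eq_self_of_sq (a : G) (ha : a * a = 1) : a⁻¹ = a :=
  inv_eq_of_mul_eq_one_left ha

theorem mem_normalizer_of_inv (a : G) (Z : Subgroup G) (ha : a * a = 1)
    (h : ∀ z ∈ Z, a * z * a⁻¹ ∈ Z) : a ∈ Subgroup.normalizer (Z : Set G) := by
  rw [Subgroup.mem_normalizer_iff]
  intro z
  constructor
  · exact h z
  · intro hz
    have h1 := h _ hz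
    have h2 : a * (a * z * a⁻¹) * a⁻¹ = (a * a) * z * (a * a)⁻¹ := by group
    rw [h2, ha] at h1
    simpa using h1

theorem orderOf_dvd_two_of_sq (a : G) (ha : a * a = 1) : orderOf a ∣ 2 := by
  apply orderOf_dvd_of_pow_eq_one
  rw [pow_two]; exact ha

end general

namespace Ctx3

variable {G : Type u} [Group G] [Finite G] {p : ℕ} [hp : Fact p.Prime] (U : Ctx3 p G)

include U in
theorem h2cop : Nat.Coprime 2 p := by rw [U.hp3]; norm_num

include U in
theorem inv_coprime (s : G) (hs : s * s = 1) : (orderOf s).Coprime p :=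
  Nat.Coprime.coprime_dvd_left (orderOf_dvd_two_of_sq s hs) U.h2cop

theorem hyK₀ : U.y ∈ U.toCtx2.K₀ := Subgroup.mem_inf.mpr ⟨U.hyK, U.hyC⟩

theorem hty : U.t * U.y = U.y * U.t := U.toCtx2.K_comm _ U.htK _ U.hyK

theorem one_mem_C : (1 : G) ∈ Subgroup.centralizer ((U.P : Subgroup G) : Set G) :=
  Subgroup.one_mem _

theorem yt_not_mem : U.y * U.t ∉ Subgroup.centralizer ((U.P : Subgroup G) : Set G) := by
  intro h
  apply U.htC
  have : U.t = U.y⁻¹ * (U.y * U.t) := by group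
  rw [this]
  exact Subgroup.mul_mem _ (Subgroup.inv_mem _ U.hyC) h

theorem K_sq (k : G) (hk : k ∈ U.K) : k * k = 1 := by
  rcases U.hKmem k hk with h | h | h | h
  · rw [h, one_mul]
  · rw [h]; exact U.hyy
  · rw [h]; exact U.htt
  · rw [h]
    calc U.y * U.t * (U.y * U.t) = U.y * (U.t * U.y) * U.t := by group
      _ = U.y * (U.y * U.t) * U.t := by rw [U.hty]
      _ = (U.y * U.y) * (U.t * U.t) := by group
      _ = 1 := by rw [U.hyy, U.htt, one_mul]

theorem K_cent (k : G) (hk : k ∈ U.K)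
    (hkC : k ∈ Subgroup.centralizer ((U.P : Subgroup G) : Set G)) : k = 1 ∨ k = U.y := by
  rcases U.hKmem k hk with h | h | h | h
  · exact Or.inl h
  · exact Or.inr h
  · rw [h] at hkC; exact absurd hkC U.htC
  · rw [h] at hkC; exact absurd hkC U.yt_not_mem

theorem K₀_mem (c : G) (hc : c ∈ U.toCtx2.K₀) : c = 1 ∨ c = U.y :=
  U.K_cent c (Subgroup.mem_inf.mp hc).1 (Subgroup.mem_inf.mp hc).2

theorem K_coprime (k : G) (hk : k ∈ U.K) : (orderOf k).Coprime p :=
  Nat.Coprime.coprime_dvd_left (Subgroup.orderOf_dvd_natCard _ hk) U.hKp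

theorem P_sq_eq_one (e : G) (he : e ∈ (U.P : Subgroup G)) (h : e * e = 1) : e = 1 :=
  eq_one_of_mem_of_coprime_order (U.P : Subgroup G) U.P.isPGroup' e he (U.inv_coprime e h)

theorem P_conj_mem (n : G) (hn : n ∈ Subgroup.normalizer ((U.P : Subgroup G) : Set G)) (v : G)
    (hv : v ∈ (U.P : Subgroup G)) : n * v * n⁻¹ ∈ (U.P : Subgroup G) :=
  (Subgroup.mem_normalizer_iff.mp hn v).mp hv

/-- Elements of `K` outside `C(P)` invert `P`. -/
theorem invert_of_K (k : G) (hk : k ∈ U.K)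
    (hkC : k ∉ Subgroup.centralizer ((U.P : Subgroup G) : Set G)) (v : G)
    (hv : v ∈ (U.P : Subgroup G)) : k * v * k⁻¹ = v⁻¹ := by
  have hkN := U.hKN hk
  have hfpf := fpf_of_not_centralizer U.P U.hcyc k hkN (U.K_coprime k hk) hkC
  have hkk := U.K_sq k hk
  have hv' : k * v * k⁻¹ ∈ (U.P : Subgroup G) := U.P_conj_mem k hkN v hv
  have hcomm := U.toSimpleCtx.hcomm
  have hfix : k * (v * (k * v * k⁻¹)) * k⁻¹ = v * (k * v * k⁻¹) := by
    calc k * (v * (k * v * k⁻¹)) * k⁻¹ = (k * v * k⁻¹) * ((k * k) * v * (k * k)⁻¹) := by group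
      _ = (k * v * k⁻¹) * v := by rw [hkk]; group
      _ = v * (k * v * k⁻¹) := hcomm _ hv' _ hv
  have h1 := hfpf _ (Subgroup.mul_mem _ hv hv') hfix
  exact (inv_eq_of_mul_eq_one_right h1).symm

/-- Involutions of `N(P)`: either `y` or inverting `P`. -/
theorem inv_N (n : G) (hn : n ∈ Subgroup.normalizer ((U.P : Subgroup G) : Set G)) (h1 : n ≠ 1)
    (h2 : n * n = 1) : n = U.y ∨ ∀ v ∈ (U.P : Subgroup G), n * v * n⁻¹ = v⁻¹ := by
  obtain ⟨u, hu, k, hk, hnuk⟩ := U.hdec n hn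
  by_cases hkC : k ∈ Subgroup.centralizer ((U.P : Subgroup G) : Set G)
  · left
    have hnC : n ∈ Subgroup.centralizer ((U.P : Subgroup G) : Set G) := by
      rw [hnuk]
      exact Subgroup.mul_mem _ (U.toSimpleCtx.P_le_centralizer hu) hkC
    have := U.toCtx2.mem_K₀_of_coprime n hnC (U.inv_coprime n h2)
    rcases U.K₀_mem n this with h | h
    · exact absurd h h1
    · exact h
  · right
    intro v hv
    have hinv := U.invert_of_K k hk hkC v hv
    have hvi : v⁻¹ ∈ (U.P : Subgroup G) := Subgroup.inv_mem _ hv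
    rw [hnuk]
    calc u * k * v * (u * k)⁻¹ = u * (k * v * k⁻¹) * u⁻¹ := by group
      _ = u * v⁻¹ * u⁻¹ := by rw [hinv]
      _ = v⁻¹ * u * u⁻¹ := by rw [U.toSimpleCtx.hcomm u hu v⁻¹ hvi]
      _ = v⁻¹ := by group

theorem inv_N_commute (n : G) (hn : n ∈ Subgroup.normalizer ((U.P : Subgroup G) : Set G))
    (h1 : n ≠ 1) (h2 : n * n = 1) (e : G) (he : e ∈ (U.P : Subgroup G)) (he1 : e ≠ 1)
    (hc : n * e = e * n) : n = U.y := by
  rcases U.inv_N n hn h1 h2 with h | h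
  · exact h
  · exfalso
    apply he1
    have h3 := h e he
    have h4 : n * e * n⁻¹ = e := by rw [hc]; group
    rw [h4] at h3
    apply U.P_sq_eq_one e he
    calc e * e = e * e⁻¹ := by rw [← h3]
      _ = 1 := by group

theorem inv_N_pair (b c : G) (hb : b ∈ Subgroup.normalizer ((U.P : Subgroup G) : Set G))
    (hc : c ∈ Subgroup.normalizer ((U.P : Subgroup G) : Set G)) (hb1 : b ≠ 1) (hb2 : b * b = 1)
    (hc1 : c ≠ 1) (hc2 : c * c = 1) (hby : b ≠ U.y) (hcy : c ≠ U.y) (hbc : b * c = c * b) :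
    c = b ∨ c = b * U.y := by
  have hB : ∀ v ∈ (U.P : Subgroup G), b * v * b⁻¹ = v⁻¹ :=
    (U.inv_N b hb hb1 hb2).resolve_left hby
  have hC : ∀ v ∈ (U.P : Subgroup G), c * v * c⁻¹ = v⁻¹ :=
    (U.inv_N c hc hc1 hc2).resolve_left hcy
  have hbcC : b * c ∈ Subgroup.centralizer ((U.P : Subgroup G) : Set G) := by
    rw [Subgroup.mem_centralizer_iff]
    intro v hv
    have h1 : (b * c) * v * (b * c)⁻¹ = v := by
      calc (b * c) * v * (b * c)⁻¹ = b * (c * v * c⁻¹) * b⁻¹ := by group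
        _ = b * v⁻¹ * b⁻¹ := by rw [hC v hv]
        _ = (v⁻¹)⁻¹ := hB _ (Subgroup.inv_mem _ hv)
        _ = v := inv_inv v
    calc v * (b * c) = ((b * c) * v * (b * c)⁻¹) * (b * c) := by rw [h1]
      _ = (b * c) * v := by group
  have hsq : (b * c) * (b * c) = 1 := by
    calc (b * c) * (b * c) = b * (c * b) * c := by group
      _ = b * (b * c) * c := by rw [hbc]
      _ = (b * b) * (c * c) := by group
      _ = 1 := by rw [hb2, hc2, one_mul]
  have hmem := U.toCtx2.mem_K₀_of_coprime (b * c) hbcC (U.inv_coprime _ hsq)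
  have hbi : b⁻¹ = b := inv_eq_self_of_sq b hb2
  rcases U.K₀_mem _ hmem with h | h
  · left
    have : c = b⁻¹ := eq_inv_of_mul_eq_one_right h
    rw [this, hbi]
  · right
    have : c = b⁻¹ * U.y := by rw [← h]; group
    rw [this, hbi]

theorem commute_y_iff (g : G) :
    g * U.y = U.y * g ↔ g ∈ Subgroup.normalizer ((U.P : Subgroup G) : Set G) :=
  U.toCtx2.commute_iff_mem_normalizer U.y U.hyK₀ U.hy1 g

theorem exists_conj_eq_y (s : G) (hs1 : s ≠ 1) (hs : s * s = 1) : ∃ g : G, g * s * g⁻¹ = U.y := by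
  obtain ⟨g, hg⟩ := exists_conj_mem_sylow 2 U.Q s 1 (by rw [pow_one, pow_two]; exact hs)
  rw [U.hQK] at hg
  obtain ⟨g', hg'⟩ := U.hconj _ hg (fun h => hs1 (conj_eq_one_iff.mp h))
  refine ⟨g' * g, ?_⟩
  rw [← hg']; group

theorem mem_N_of_invert (a e : G) (he : e ∈ (U.P : Subgroup G)) (he1 : e ≠ 1)
    (h : a * e * a⁻¹ = e⁻¹) (ha : a * a = 1) :
    a ∈ Subgroup.normalizer ((U.P : Subgroup G) : Set G) := by
  apply U.toSimpleCtx.normalizer_le (Subgroup.zpowers e) (Subgroup.zpowers_le.mpr he)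
    (Subgroup.zpowers_ne_bot.mpr he1)
  apply mem_normalizer_of_inv a _ ha
  intro z hz
  obtain ⟨i, rfl⟩ := Subgroup.mem_zpowers_iff.mp hz
  rw [← conj_zpow, h]
  exact Subgroup.zpow_mem _ (Subgroup.inv_mem _ (Subgroup.mem_zpowers e)) i

theorem mem_N_of_commute (c e : G) (he : e ∈ (U.P : Subgroup G)) (he1 : e ≠ 1)
    (h : c * e = e * c) : c ∈ Subgroup.normalizer ((U.P : Subgroup G) : Set G) :=
  U.toSimpleCtx.normalizer_le (Subgroup.zpowers e) (Subgroup.zpowers_le.mpr he)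
    (Subgroup.zpowers_ne_bot.mpr he1)
    (Subgroup.centralizer_le_normalizer _ (mem_centralizer_zpowers e c h))

include U in
/-- An involution inverting `d` forces `d ^ (2 * p ^ j) = 1`. -/
theorem dich (a d : G) (ha : a * a = 1) (h : a * d * a⁻¹ = d⁻¹) :
    ∃ j : ℕ, d ^ (2 * p ^ j) = 1 := by
  obtain ⟨j, m, hm, hord⟩ : ∃ j m : ℕ, ¬ p ∣ m ∧ orderOf d = p ^ j * m :=
    Nat.exists_eq_pow_mul_and_not_dvd (orderOf_pos d).ne' p hp.out.ne_one
  refine ⟨j, ?_⟩
  have ho : orderOf (d ^ (p ^ j)) = m := by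
    rw [orderOf_pow_of_dvd (pow_ne_zero _ hp.out.ne_zero) (by rw [hord]; exact dvd_mul_right _ _),
      hord, Nat.mul_div_cancel_left _ (pow_pos hp.out.pos j)]
  have hd' : a * d ^ (p ^ j) * a⁻¹ = (d ^ (p ^ j))⁻¹ := by
    rw [← conj_pow, h, inv_pow]
  have hZ : ¬ p ∣ Nat.card (Subgroup.zpowers (d ^ (p ^ j))) := by
    rw [Nat.card_zpowers, ho]; exact hm
  have haN : a ∈ Subgroup.normalizer ((Subgroup.zpowers (d ^ (p ^ j)) : Subgroup G) : Set G) := by
    apply mem_normalizer_of_inv a _ ha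
    intro z hz
    obtain ⟨i, rfl⟩ := Subgroup.mem_zpowers_iff.mp hz
    rw [← conj_zpow, hd']
    exact Subgroup.zpow_mem _ (Subgroup.inv_mem _ (Subgroup.mem_zpowers _)) i
  have hcomm := commute_of_normalizer_p' U.hab _ hZ a haN (U.inv_coprime a ha) (d ^ (p ^ j))
    (Subgroup.mem_zpowers _)
  have h1 : a * d ^ (p ^ j) * a⁻¹ = d ^ (p ^ j) := by rw [hcomm]; group
  rw [h1] at hd'
  have h2 : d ^ (p ^ j) * d ^ (p ^ j) = 1 := by
    calc d ^ (p ^ j) * d ^ (p ^ j) = d ^ (p ^ j) * (d ^ (p ^ j))⁻¹ := by rw [← hd']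
      _ = 1 := by group
  rw [two_mul, pow_add]
  exact h2

end Ctx3

end Cfsg.Agent.helper8cs
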