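import Mathlib

set_option autoImplicit false

/-!
# Regular friendship configurations do not exist for degree at least three
-/

namespace Cfsg.Agent.helper8cs

open Matrix Finset

/-- A finite nonempty set with a symmetric irreflexive relation in which every point has exactly
`k ≥ 3` neighbours and any two distinct points have exactly one common neighbour cannot exist. -/
theorem regular_friendship_false {V : Type*} [Fintype V] [DecidableEq V] [Nonempty V]
    (R : V → V → Prop) [DecidableRel R]
    (hsymm : ∀ a b, R a b → R b a) (hirr : ∀ a, ¬ R a a) (k : ℕ) (hk : 3 ≤ k)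
    (hreg : ∀ a, (Finset.univ.filter fun b => R a b).card = k)
    (hfr : ∀ a b, a ≠ b → (Finset.univ.filter fun c => R a c ∧ R c b).card = 1) : False := by
  obtain ⟨q, hq⟩ : ∃ q, q = (k - 1).minFac := ⟨_, rfl⟩
  have hqprime : q.Prime := by rw [hq]; exact Nat.minFac_prime (by omega)
  haveI : Fact q.Prime := ⟨hqprime⟩
  have hqd : q ∣ k - 1 := by rw [hq]; exact Nat.minFac_dvd _
  have hk1 : (k : ZMod q) = 1 := by
    have h1 : ((k - 1 : ℕ) : ZMod q) = 0 := (ZMod.natCast_eq_zero_iff _ _).mpr hqd
    have h2 : k = (k - 1) + 1 := by omega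
    rw [h2, Nat.cast_add, h1, zero_add, Nat.cast_one]
  let A : Matrix V V (ZMod q) := Matrix.of fun a b => if R a b then 1 else 0
  let J : Matrix V V (ZMod q) := Matrix.of fun _ _ => 1
  have hAA : A * A = J := by
    ext a b
    simp only [A, J, Matrix.mul_apply, Matrix.of_apply]
    have h1 : ∀ c, ((if R a c then (1 : ZMod q) else 0) * if R c b then 1 else 0)
        = if (R a c ∧ R c b) then 1 else 0 := by
      intro c
      by_cases h1 : R a c <;> by_cases h2 : R c b <;> simp [h1, h2]
    rw [Finset.sum_congr rfl (fun c _ => h1 c), Finset.sum_boole]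
    by_cases hab : a = b
    · subst hab
      have : (Finset.univ.filter fun c => R a c ∧ R c a) = Finset.univ.filter fun c => R a c := by
        ext c
        simp only [Finset.mem_filter, Finset.mem_univ, true_and]
        exact ⟨fun h => h.1, fun h => ⟨h, hsymm _ _ h⟩⟩
      rw [this, hreg, hk1]
    · rw [hfr a b hab, Nat.cast_one]
  have hAJ : A * J = J := by
    ext a b
    simp only [A, J, Matrix.mul_apply, Matrix.of_apply, mul_one]
    rw [Finset.sum_boole, hreg, hk1]
  have hpow : ∀ m : ℕ, 2 ≤ m → A ^ m = J := by
    intro m hm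
    induction m, hm using Nat.le_induction with
    | base => rw [pow_two, hAA]
    | succ m _ ih => rw [pow_succ', ih, hAJ]
  have hn : (Fintype.card V : ZMod q) = 1 := by
    have h1 : (A * A) * J = J := by rw [mul_assoc, hAJ, hAJ]
    rw [hAA] at h1
    obtain ⟨a⟩ := (inferInstance : Nonempty V)
    have h2 := congrFun (congrFun h1 a) a
    simp only [J, Matrix.mul_apply, Matrix.of_apply, mul_one, Finset.sum_const, Finset.card_univ,
      nsmul_eq_mul] at h2
    exact h2
  have htr := ZMod.trace_pow_card A
  have htA : Matrix.trace A = 0 := by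
    simp only [Matrix.trace, Matrix.diag, A, Matrix.of_apply]
    apply Finset.sum_eq_zero
    intro a _
    rw [if_neg (hirr a)]
  rw [htA, zero_pow hqprime.ne_zero, hpow q hqprime.two_le] at htr
  simp only [Matrix.trace, Matrix.diag, J, Matrix.of_apply, Finset.sum_const, Finset.card_univ,
    nsmul_eq_mul, mul_one] at htr
  rw [hn] at htr
  exact one_ne_zero htr

end Cfsg.Agent.helper8cs
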