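import Mathlib
import Cfsg.Prelude.Def_Transfer
import Cfsg.Agent.Lib_helper10_NPC
import Cfsg.Agent.Lib_helper8_Friend
import Cfsg.Agent.Lib_helper8_CS1
import Cfsg.Agent.Lib_helper8_CS2
import Cfsg.Agent.Lib_helper8_CS3
import Cfsg.Agent.Lib_helper8_CS4
import Cfsg.Agent.Lib_helper8_CS5
import Cfsg.Agent.Lib_helper8_CS6
import Cfsg.Agent.Lib_helper8_CS7
import Cfsg.Agent.Lib_helper8_CS8
import Cfsg.Agent.Lib_helper8_CS9
import Cfsg.Agent.Lib_helper8_CS10
import Cfsg.Agent.Lib_helper8_CS11

set_option autoImplicit false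

/-!
# Cyclic Sylow subgroup and abelian `p'`-subgroups: the commuting graph of involutions
-/

universe u

namespace Cfsg.Agent.helper8cs

open Subgroup

section general

variable {G : Type u} [Group G]

/-- Involutions. -/
def IsInvol (s : G) : Prop := s ≠ 1 ∧ s * s = 1

/-- Common neighbours in the commuting graph of involutions. -/
def CN (a b c : G) : Prop := IsInvol c ∧ c ≠ a ∧ c ≠ b ∧ c * a = a * c ∧ c * b = b * c

/-- Exactly one common neighbour. -/
def Friend (a b : G) : Prop := ∃ c, CN a b c ∧ ∀ c', CN a b c' → c' = c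

theorem IsInvol.conj {s : G} (h : IsInvol s) (g : G) : IsInvol (g * s * g⁻¹) :=
  ⟨fun h1 => h.1 (conj_eq_one_iff.mp h1), by
    calc g * s * g⁻¹ * (g * s * g⁻¹) = g * (s * s) * g⁻¹ := by group
      _ = 1 := by rw [h.2]; group⟩

theorem conj_inj (g a b : G) (h : g * a * g⁻¹ = g * b * g⁻¹) : a = b :=
  mul_left_cancel (mul_right_cancel h)

theorem CN.conj {a b c : G} (h : CN a b c) (g : G) :
    CN (g * a * g⁻¹) (g * b * g⁻¹) (g * c * g⁻¹) := by
  obtain ⟨h1, h2, h3, h4, h5⟩ := h
  refine ⟨h1.conj g, fun h => h2 (conj_inj g _ _ h), fun h => h3 (conj_inj g _ _ h), ?_, ?_⟩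
  · exact (conj_commute_iff g c a).mpr h4
  · exact (conj_commute_iff g c b).mpr h5

theorem Friend.of_conj (g a b : G) (h : Friend (g * a * g⁻¹) (g * b * g⁻¹)) : Friend a b := by
  obtain ⟨c, hc, huniq⟩ := h
  refine ⟨g⁻¹ * c * g⁻¹⁻¹, ?_, ?_⟩
  · have := hc.conj g⁻¹
    have e1 : g⁻¹ * (g * a * g⁻¹) * g⁻¹⁻¹ = a := by group
    have e2 : g⁻¹ * (g * b * g⁻¹) * g⁻¹⁻¹ = b := by group
    rwa [e1, e2] at this
  · intro c' hc'
    have := huniq _ (hc'.conj g)
    rw [← this]; group

/-- The type of involutions. -/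
abbrev InvT (G : Type u) [Group G] := {s : G // IsInvol s}

/-- Conjugation on involutions. -/
def conjV (g : G) : InvT G ≃ InvT G where
  toFun s := ⟨g * s.1 * g⁻¹, s.2.conj g⟩
  invFun s := ⟨g⁻¹ * s.1 * g⁻¹⁻¹, s.2.conj g⁻¹⟩
  left_inv s := by
    apply Subtype.ext
    show g⁻¹ * (g * s.1 * g⁻¹) * g⁻¹⁻¹ = s.1
    group
  right_inv s := by
    apply Subtype.ext
    show g * (g⁻¹ * s.1 * g⁻¹⁻¹) * g⁻¹ = s.1
    group

/-- The commuting relation on involutions. -/
def RelI (a b : InvT G) : Prop := a ≠ b ∧ a.1 * b.1 = b.1 * a.1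

theorem RelI_conj (g : G) (a b : InvT G) : RelI a b ↔ RelI (conjV g a) (conjV g b) := by
  constructor
  · rintro ⟨h1, h2⟩
    exact ⟨fun h => h1 ((conjV g).injective h), (conj_commute_iff g a.1 b.1).mpr h2⟩
  · rintro ⟨h1, h2⟩
    exact ⟨fun h => h1 (by rw [h]), (conj_commute_iff g a.1 b.1).mp h2⟩

end general

namespace Ctx3

variable {G : Type u} [Group G] [Finite G] {p : ℕ} [hp : Fact p.Prime] (U : Ctx3 p G)

theorem friend_y (b : G) (hb : IsInvol b)
    (hbN : b ∈ Subgroup.normalizer ((U.P : Subgroup G) : Set G)) (hby : b ≠ U.y) :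
    Friend U.y b := by
  have hbyc : b * U.y = U.y * b := (U.commute_y_iff b).mpr hbN
  have hbi : b⁻¹ = b := inv_eq_self_of_sq b hb.2
  refine ⟨b * U.y, ⟨⟨?_, ?_⟩, ?_, ?_, ?_, ?_⟩, ?_⟩
  · intro h
    apply hby
    have : U.y = b⁻¹ := eq_inv_of_mul_eq_one_right h
    rw [this, hbi]
  · calc b * U.y * (b * U.y) = b * (U.y * b) * U.y := by group
      _ = b * (b * U.y) * U.y := by rw [hbyc]
      _ = (b * b) * (U.y * U.y) := by group
      _ = 1 := by rw [hb.2, U.hyy, one_mul]
  · intro h
    apply hb.1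
    have : b * U.y = 1 * U.y := by rw [one_mul]; exact h
    exact mul_right_cancel this
  · intro h
    apply U.hy1
    have : b * U.y = b * 1 := by rw [mul_one]; exact h
    exact mul_left_cancel this
  · calc b * U.y * U.y = (U.y * b) * U.y := by rw [hbyc]
      _ = U.y * (b * U.y) := by group
  · calc b * U.y * b = b * (U.y * b) := by group
      _ = b * (b * U.y) := by rw [hbyc]
  · rintro c' ⟨hc', hc'y, hc'b, hcy, hcb⟩
    have hc'N := (U.commute_y_iff c').mp hcy
    rcases U.inv_N_pair b c' hbN hc'N hb.1 hb.2 hc'.1 hc'.2 hby hc'y hcb.symm with h | h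
    · exact absurd h hc'b
    · exact h

theorem friend_of_sq_mem (a b : G) (ha : IsInvol a) (hb : IsInvol b)
    (heP : (a * b) * (a * b) ∈ (U.P : Subgroup G)) (he1 : (a * b) * (a * b) ≠ 1) :
    Friend a b := by
  obtain ⟨e, he⟩ : ∃ e, e = (a * b) * (a * b) := ⟨_, rfl⟩
  rw [← he] at heP he1
  have hai := inv_eq_self_of_sq a ha.2
  have hbi := inv_eq_self_of_sq b hb.2
  have hinv : ((a * b) * (a * b))⁻¹ = (b * a) * (b * a) := by
    rw [mul_inv_rev, mul_inv_rev, hai, hbi]
  have hae : a * e * a⁻¹ = e⁻¹ := by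
    rw [he, hai, hinv]
    calc a * (a * b * (a * b)) * a = (a * a) * b * a * b * a := by group
      _ = (b * a) * (b * a) := by rw [ha.2]; group
  have hbe : b * e * b⁻¹ = e⁻¹ := by
    rw [he, hbi, hinv]
    calc b * (a * b * (a * b)) * b = b * a * b * a * (b * b) := by group
      _ = (b * a) * (b * a) := by rw [hb.2]; group
  have haN := U.mem_N_of_invert a e heP he1 hae ha.2
  have hbN := U.mem_N_of_invert b e heP he1 hbe hb.2
  have hyinv : IsInvol U.y := ⟨U.hy1, U.hyy⟩
  have hye : U.y * e * U.y⁻¹ = e := by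
    have := U.toCtx2.commute_P_of_mem_centralizer U.y U.hyC e heP
    rw [← this]; group
  have hne : ∀ s, s * e * s⁻¹ = e⁻¹ → U.y ≠ s := by
    intro s hs hys
    apply he1
    rw [← hys, hye] at hs
    apply U.P_sq_eq_one e heP
    calc e * e = e * e⁻¹ := by rw [← hs]
      _ = 1 := by group
  refine ⟨U.y, ⟨hyinv, hne a hae, hne b hbe, ?_, ?_⟩, ?_⟩
  · exact ((U.commute_y_iff a).mpr haN).symm
  · exact ((U.commute_y_iff b).mpr hbN).symm
  · rintro c' ⟨hc', -, -, hca, hcb⟩
    have hce : c' * e = e * c' := by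
      rw [he]
      calc c' * (a * b * (a * b)) = (c' * a) * b * (a * b) := by group
        _ = (a * c') * b * (a * b) := by rw [hca]
        _ = a * (c' * b) * (a * b) := by group
        _ = a * (b * c') * (a * b) := by rw [hcb]
        _ = a * b * (c' * a) * b := by group
        _ = a * b * (a * c') * b := by rw [hca]
        _ = a * b * a * (c' * b) := by group
        _ = a * b * a * (b * c') := by rw [hcb]
        _ = a * b * (a * b) * c' := by group
    have hcN := U.mem_N_of_commute c' e heP he1 hce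
    exact U.inv_N_commute c' hcN hc'.1 hc'.2 e heP he1 hce

include U in
theorem friend (a b : G) (ha : IsInvol a) (hb : IsInvol b) (hab : a ≠ b) : Friend a b := by
  have hai := inv_eq_self_of_sq a ha.2
  have hbi := inv_eq_self_of_sq b hb.2
  have hinv : a * (a * b) * a⁻¹ = (a * b)⁻¹ := by
    rw [mul_inv_rev, hai, hbi]
    calc a * (a * b) * a = (a * a) * b * a := by group
      _ = b * a := by rw [ha.2, one_mul]
  obtain ⟨j, hj⟩ := U.dich a (a * b) ha.2 hinv
  have hconjsq : ∀ g : G, g * a * g⁻¹ * (g * b * g⁻¹) * (g * a * g⁻¹ * (g * b * g⁻¹)) =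
      g * (a * b * (a * b)) * g⁻¹ := by
    intro g; group
  by_cases he : (a * b) * (a * b) = 1
  · have hcomm : a * b = b * a := by
      have : a * b = (a * b)⁻¹ := eq_inv_of_mul_eq_one_left he
      rw [mul_inv_rev, hai, hbi] at this
      exact this
    obtain ⟨g, hg⟩ := U.exists_conj_eq_y a ha.1 ha.2
    apply Friend.of_conj g
    rw [hg]
    apply U.friend_y _ (hb.conj g)
    · apply (U.commute_y_iff _).mp
      rw [← hg]
      exact (conj_commute_iff g b a).mpr hcomm.symm
    · intro h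
      apply hab
      rw [← hg] at h
      exact (conj_inj g _ _ h).symm
  · have hpow : ((a * b) * (a * b)) ^ (p ^ j) = 1 := by
      rw [← pow_two, ← pow_mul]; exact hj
    obtain ⟨g, hg⟩ := exists_conj_mem_sylow p U.P _ j hpow
    apply Friend.of_conj g
    apply U.friend_of_sq_mem _ _ (ha.conj g) (hb.conj g)
    · rw [hconjsq]; exact hg
    · rw [hconjsq]
      intro h; exact he (conj_eq_one_iff.mp h)

include U in
/-- The final contradiction. -/
theorem false_of_ctx3 : False := by
  classical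
  haveI : Fintype (InvT G) := Fintype.ofFinite _
  have hyinv : IsInvol U.y := ⟨U.hy1, U.hyy⟩
  haveI : Nonempty (InvT G) := ⟨⟨U.y, hyinv⟩⟩
  obtain ⟨yV, hyV⟩ : ∃ yV : InvT G, yV.1 = U.y := ⟨⟨U.y, hyinv⟩, rfl⟩
  obtain ⟨k, hk⟩ : ∃ k, k = (Finset.univ.filter fun b => RelI yV b).card := ⟨_, rfl⟩
  have hdeg : ∀ (g : G) (a : InvT G),
      (Finset.univ.filter fun b => RelI (conjV g a) b).card =
        (Finset.univ.filter fun b => RelI a b).card := by
    intro g a
    symm
    apply Finset.card_bij (fun b _ => conjV g b)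
    · intro b hb
      simp only [Finset.mem_filter, Finset.mem_univ, true_and] at hb ⊢
      exact (RelI_conj g a b).mp hb
    · intro b₁ _ b₂ _ h
      exact (conjV g).injective h
    · intro c hc
      simp only [Finset.mem_filter, Finset.mem_univ, true_and] at hc
      refine ⟨(conjV g).symm c, ?_, (conjV g).apply_symm_apply c⟩
      simp only [Finset.mem_filter, Finset.mem_univ, true_and]
      rw [RelI_conj g, Equiv.apply_symm_apply]; exact hc
  have hreg : ∀ a : InvT G, (Finset.univ.filter fun b => RelI a b).card = k := by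
    intro a
    obtain ⟨g, hg⟩ := U.exists_conj_eq_y a.1 a.2.1 a.2.2
    have : conjV g a = yV := Subtype.ext (hg.trans hyV.symm)
    rw [hk, ← this, hdeg]
  have hk3 : 3 ≤ k := by
    obtain ⟨r, hrP, hr1⟩ : ∃ r, r ∈ (U.P : Subgroup G) ∧ r ≠ 1 := by
      obtain ⟨r', hr'⟩ := (Subgroup.ne_bot_iff_exists_ne_one).mp U.toSimpleCtx.P_ne_bot
      exact ⟨r'.1, r'.2, fun h => hr' (Subtype.ext h)⟩
    have key : ∀ n : G, n ∈ Subgroup.normalizer ((U.P : Subgroup G) : Set G) →
        n ∉ Subgroup.centralizer ((U.P : Subgroup G) : Set G) → n * n = 1 →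
        ∃ v : InvT G, v.1 = n ∧ v ∈ Finset.univ.filter fun b => RelI yV b := by
      intro n hnN hnC hnn
      have hn1 : n ≠ 1 := by rintro rfl; exact hnC (Subgroup.one_mem _)
      refine ⟨⟨n, hn1, hnn⟩, rfl, ?_⟩
      simp only [Finset.mem_filter, Finset.mem_univ, true_and]
      refine ⟨?_, ?_⟩
      · intro h
        apply hnC
        have : U.y = n := by rw [← hyV]; exact congrArg Subtype.val h
        rw [← this]; exact U.hyC
      · show yV.1 * n = n * yV.1
        rw [hyV]
        exact ((U.commute_y_iff n).mpr hnN).symm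
    have htN := U.hKN U.htK
    have hytK : U.y * U.t ∈ U.K := Subgroup.mul_mem _ U.hyK U.htK
    have hrtN : r * U.t ∈ Subgroup.normalizer ((U.P : Subgroup G) : Set G) :=
      Subgroup.mul_mem _ (Subgroup.le_normalizer hrP) htN
    have hrtC : r * U.t ∉ Subgroup.centralizer ((U.P : Subgroup G) : Set G) := by
      intro h
      apply U.htC
      have : U.t = r⁻¹ * (r * U.t) := by group
      rw [this]
      exact Subgroup.mul_mem _ (Subgroup.inv_mem _ (U.toSimpleCtx.P_le_centralizer hrP)) h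
    have hrtsq : r * U.t * (r * U.t) = 1 := by
      have hinv := U.invert_of_K U.t U.htK U.htC r hrP
      calc r * U.t * (r * U.t) = r * (U.t * r * U.t⁻¹) * (U.t * U.t) := by group
        _ = r * r⁻¹ * 1 := by rw [hinv, U.htt]
        _ = 1 := by group
    obtain ⟨v1, h1, m1⟩ := key U.t htN U.htC U.htt
    obtain ⟨v2, h2, m2⟩ := key (U.y * U.t) (U.hKN hytK) U.yt_not_mem (U.K_sq _ hytK)
    obtain ⟨v3, h3, m3⟩ := key (r * U.t) hrtN hrtC hrtsq
    rw [hk]
    apply Nat.succ_le_of_lt
    rw [Finset.two_lt_card_iff]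
    refine ⟨v1, v2, v3, m1, m2, m3, ?_, ?_, ?_⟩
    · intro h
      have h' := congrArg Subtype.val h
      rw [h1, h2] at h'
      apply U.hy1
      have : 1 * U.t = U.y * U.t := by rw [one_mul]; exact h'
      exact (mul_right_cancel this).symm
    · intro h
      have h' := congrArg Subtype.val h
      rw [h1, h3] at h'
      apply hr1
      have : 1 * U.t = r * U.t := by rw [one_mul]; exact h'
      exact (mul_right_cancel this).symm
    · intro h
      have h' := congrArg Subtype.val h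
      rw [h2, h3] at h'
      apply hr1
      have : U.y = r := mul_right_cancel h'
      apply U.toCtx2.P_inf_K r hrP
      rw [← this]; exact U.hyK
  have hsymm : ∀ a b : InvT G, RelI a b → RelI b a := fun a b h => ⟨h.1.symm, h.2.symm⟩
  have hirr : ∀ a : InvT G, ¬ RelI a a := fun a h => h.1 rfl
  have hfr : ∀ a b : InvT G, a ≠ b →
      (Finset.univ.filter fun c => RelI a c ∧ RelI c b).card = 1 := by
    intro a b hab
    obtain ⟨c, ⟨hc, hca, hcb, hcac, hcbc⟩, huniq⟩ :=
      U.friend a.1 b.1 a.2 b.2 (fun h => hab (Subtype.ext h))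
    rw [Finset.card_eq_one]
    refine ⟨⟨c, hc⟩, ?_⟩
    rw [Finset.eq_singleton_iff_unique_mem]
    constructor
    · simp only [Finset.mem_filter, Finset.mem_univ, true_and]
      exact ⟨⟨fun h => hca (congrArg Subtype.val h).symm, hcac.symm⟩,
        ⟨fun h => hcb (congrArg Subtype.val h), hcbc⟩⟩
    · intro x hx
      simp only [Finset.mem_filter, Finset.mem_univ, true_and] at hx
      obtain ⟨⟨h1, h2⟩, ⟨h3, h4⟩⟩ := hx
      apply Subtype.ext
      apply huniq
      exact ⟨x.2, fun h => h1 (Subtype.ext h.symm), fun h => h3 (Subtype.ext h), h2.symm, h4⟩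
  exact regular_friendship_false RelI hsymm hirr k hk3 hreg hfr

end Ctx3

end Cfsg.Agent.helper8cs
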