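import Mathlib
import Cfsg.Prelude.Def_OddOrderLocal
import Cfsg.Agent.Lib_helper8_CS12

set_option autoImplicit false

/-!
# Abelian Sylow 3-subgroup with small normalizer: local structure
-/

universe u

namespace Cfsg.Agent.helper8ab

open Subgroup Cfsg.Agent.helper8cs

/-- The hypotheses, for a group all of whose normal subgroups are trivial. -/
structure ACtx (G : Type u) [Group G] where
  P : Sylow 3 G
  hcomm : ∀ a ∈ (P : Subgroup G), ∀ b ∈ (P : Subgroup G), a * b = b * a
  hN : Nat.card (Subgroup.normalizer ((P : Subgroup G) : Set G)) = 4 * Nat.card (P : Subgroup G)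
  hC : Nat.card (Subgroup.centralizer ((P : Subgroup G) : Set G)) = 2 * Nat.card (P : Subgroup G)
  hTI : ∀ g : G, g ∉ Subgroup.normalizer
      ((Subgroup.centralizer ((P : Subgroup G) : Set G) : Subgroup G) : Set G) →
    ∀ x ∈ Subgroup.centralizer ((P : Subgroup G) : Set G),
      g * x * g⁻¹ ∈ Subgroup.centralizer ((P : Subgroup G) : Set G) → x = 1
  heven : ∀ H : Subgroup G, H ≠ ⊤ → 2 ∣ Nat.card H → Nat.card H ∣ 4 * Nat.card (P : Subgroup G)
  hsimple : ∀ M : Subgroup G, M.Normal → M = ⊥ ∨ M = ⊤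
  y : G
  hyC : y ∈ Subgroup.centralizer ((P : Subgroup G) : Set G)
  hy1 : y ≠ 1
  hyy : y * y = 1

namespace ACtx

variable {G : Type u} [Group G] [Finite G] (A : ACtx G)

theorem P_le_C : (A.P : Subgroup G) ≤ Subgroup.centralizer ((A.P : Subgroup G) : Set G) := by
  intro v hv
  rw [Subgroup.mem_centralizer_iff]
  intro z hz
  exact A.hcomm z hz v hv

theorem C_le_N : Subgroup.centralizer ((A.P : Subgroup G) : Set G) ≤
    Subgroup.normalizer ((A.P : Subgroup G) : Set G) :=
  Subgroup.centralizer_le_normalizer _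

theorem commute_of_mem_C (c : G) (hc : c ∈ Subgroup.centralizer ((A.P : Subgroup G) : Set G))
    (u : G) (hu : u ∈ (A.P : Subgroup G)) : u * c = c * u :=
  (Subgroup.mem_centralizer_iff.mp hc) u hu

omit [Finite G] in
theorem sq_coprime3 (s : G) (hs : s * s = 1) : (orderOf s).Coprime 3 :=
  Nat.Coprime.coprime_dvd_left (orderOf_dvd_two_of_sq s hs) (by norm_num)

theorem odd_P (u : G) (hu : u ∈ (A.P : Subgroup G)) (h : u * u = 1) : u = 1 :=
  eq_one_of_mem_of_coprime_order (p := 3) (A.P : Subgroup G) A.P.isPGroup' u hu (sq_coprime3 u h)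

theorem y_not_mem_P : A.y ∉ (A.P : Subgroup G) := fun h => A.hy1 (A.odd_P A.y h A.hyy)

/-- `3`-elements of `C(P)` lie in `P`. -/
theorem mem_P_of_pow (c : G) (hc : c ∈ Subgroup.centralizer ((A.P : Subgroup G) : Set G)) (k : ℕ)
    (hk : c ^ (3 ^ k) = 1) : c ∈ (A.P : Subgroup G) :=
  pelem_mem_sylow A.P c (A.C_le_N hc) k hk

theorem NC_le_N : Subgroup.normalizer
    ((Subgroup.centralizer ((A.P : Subgroup G) : Set G) : Subgroup G) : Set G) ≤
    Subgroup.normalizer ((A.P : Subgroup G) : Set G) := by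
  intro g hg
  have key : ∀ g : G, g ∈ Subgroup.normalizer
      ((Subgroup.centralizer ((A.P : Subgroup G) : Set G) : Subgroup G) : Set G) →
      ∀ u ∈ (A.P : Subgroup G), g * u * g⁻¹ ∈ (A.P : Subgroup G) := by
    intro g hg u hu
    have h1 : g * u * g⁻¹ ∈ Subgroup.centralizer ((A.P : Subgroup G) : Set G) :=
      (Subgroup.mem_normalizer_iff.mp hg u).mp (A.P_le_C hu)
    obtain ⟨k, hk⟩ := A.P.isPGroup' ⟨u, hu⟩
    have hk' : u ^ (3 ^ k) = 1 := congrArg Subtype.val hk
    apply A.mem_P_of_pow _ h1 k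
    rw [conj_pow, hk']; group
  rw [Subgroup.mem_normalizer_iff]
  intro u
  constructor
  · exact key g hg u
  · intro hu
    have := key g⁻¹ (Subgroup.inv_mem _ hg) _ hu
    have e : g⁻¹ * (g * u * g⁻¹) * g⁻¹⁻¹ = u := by group
    rwa [e] at this

/-- Trivial intersection, in the form used. -/
theorem mem_N_of_conj (e : G) (he : e ∈ Subgroup.centralizer ((A.P : Subgroup G) : Set G))
    (he1 : e ≠ 1) (g : G)
    (h : g * e * g⁻¹ ∈ Subgroup.centralizer ((A.P : Subgroup G) : Set G)) :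
    g ∈ Subgroup.normalizer ((A.P : Subgroup G) : Set G) := by
  apply A.NC_le_N
  by_contra hg
  exact he1 (A.hTI g hg e he h)

theorem card_P_pos : 0 < Nat.card (A.P : Subgroup G) := Nat.card_pos

theorem index_P_in_C : ((A.P : Subgroup G).subgroupOf
    (Subgroup.centralizer ((A.P : Subgroup G) : Set G))).index = 2 := by
  have h1 := Subgroup.card_mul_index ((A.P : Subgroup G).subgroupOf
    (Subgroup.centralizer ((A.P : Subgroup G) : Set G)))
  have h2 : Nat.card ((A.P : Subgroup G).subgroupOf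
      (Subgroup.centralizer ((A.P : Subgroup G) : Set G))) = Nat.card (A.P : Subgroup G) :=
    Nat.card_congr (Subgroup.subgroupOfEquivOfLe A.P_le_C).toEquiv
  rw [h2, A.hC] at h1
  have := A.card_P_pos
  nlinarith

theorem index_C_in_N : ((Subgroup.centralizer ((A.P : Subgroup G) : Set G)).subgroupOf
    (Subgroup.normalizer ((A.P : Subgroup G) : Set G))).index = 2 := by
  have h1 := Subgroup.card_mul_index ((Subgroup.centralizer ((A.P : Subgroup G) : Set G)).subgroupOf
    (Subgroup.normalizer ((A.P : Subgroup G) : Set G)))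
  have h2 : Nat.card ((Subgroup.centralizer ((A.P : Subgroup G) : Set G)).subgroupOf
      (Subgroup.normalizer ((A.P : Subgroup G) : Set G))) =
      Nat.card (Subgroup.centralizer ((A.P : Subgroup G) : Set G)) :=
    Nat.card_congr (Subgroup.subgroupOfEquivOfLe A.C_le_N).toEquiv
  rw [h2, A.hC, A.hN] at h1
  have := A.card_P_pos
  nlinarith

theorem C_mul (c₁ c₂ : G) (h₁ : c₁ ∈ Subgroup.centralizer ((A.P : Subgroup G) : Set G))
    (h₂ : c₂ ∈ Subgroup.centralizer ((A.P : Subgroup G) : Set G))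
    (n₁ : c₁ ∉ (A.P : Subgroup G)) (n₂ : c₂ ∉ (A.P : Subgroup G)) :
    c₁ * c₂ ∈ (A.P : Subgroup G) := by
  have := (Subgroup.mul_mem_iff_of_index_two A.index_P_in_C
    (a := (⟨c₁, h₁⟩ : ↥(Subgroup.centralizer ((A.P : Subgroup G) : Set G))))
    (b := ⟨c₂, h₂⟩)).mpr (by
      rw [Subgroup.mem_subgroupOf, Subgroup.mem_subgroupOf]
      exact ⟨fun h => absurd h n₁, fun h => absurd h n₂⟩)
  rw [Subgroup.mem_subgroupOf] at this
  exact this

theorem N_mul (c₁ c₂ : G) (h₁ : c₁ ∈ Subgroup.normalizer ((A.P : Subgroup G) : Set G))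
    (h₂ : c₂ ∈ Subgroup.normalizer ((A.P : Subgroup G) : Set G))
    (n₁ : c₁ ∉ Subgroup.centralizer ((A.P : Subgroup G) : Set G))
    (n₂ : c₂ ∉ Subgroup.centralizer ((A.P : Subgroup G) : Set G)) :
    c₁ * c₂ ∈ Subgroup.centralizer ((A.P : Subgroup G) : Set G) := by
  have := (Subgroup.mul_mem_iff_of_index_two A.index_C_in_N
    (a := (⟨c₁, h₁⟩ : ↥(Subgroup.normalizer ((A.P : Subgroup G) : Set G))))
    (b := ⟨c₂, h₂⟩)).mpr (by
      rw [Subgroup.mem_subgroupOf, Subgroup.mem_subgroupOf]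
      exact ⟨fun h => absurd h n₁, fun h => absurd h n₂⟩)
  rw [Subgroup.mem_subgroupOf] at this
  exact this

/-- The only involution of `C(P)` is `y`. -/
theorem C_inv (c : G) (hc : c ∈ Subgroup.centralizer ((A.P : Subgroup G) : Set G))
    (hcc : c * c = 1) : c = 1 ∨ c = A.y := by
  by_cases hcP : c ∈ (A.P : Subgroup G)
  · exact Or.inl (A.odd_P c hcP hcc)
  · right
    have hu := A.C_mul c A.y hc A.hyC hcP A.y_not_mem_P
    have hyi : A.y⁻¹ = A.y := inv_eq_self_of_sq A.y A.hyy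
    have hcomm : (c * A.y) * A.y = A.y * (c * A.y) := A.commute_of_mem_C A.y A.hyC _ hu
    have hcy : c * A.y = A.y * c := by
      have h1 : c * A.y * A.y = c := by rw [mul_assoc, A.hyy, mul_one]
      rw [h1] at hcomm
      have h2 : A.y * (A.y * (c * A.y)) = A.y * c := by rw [← hcomm]
      rw [← mul_assoc, A.hyy, one_mul] at h2
      exact h2
    have h1 : (c * A.y) * (c * A.y) = 1 := by
      calc (c * A.y) * (c * A.y) = c * (A.y * c) * A.y := by group
        _ = c * (c * A.y) * A.y := by rw [hcy]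
        _ = (c * c) * (A.y * A.y) := by group
        _ = 1 := by rw [hcc, A.hyy, one_mul]
    have h2 := A.odd_P _ hu h1
    have : c = A.y⁻¹ := eq_inv_of_mul_eq_one_left h2
    rw [this, hyi]

theorem conj_mem_C (n : G) (hn : n ∈ Subgroup.normalizer ((A.P : Subgroup G) : Set G)) (c : G)
    (hc : c ∈ Subgroup.centralizer ((A.P : Subgroup G) : Set G)) :
    n * c * n⁻¹ ∈ Subgroup.centralizer ((A.P : Subgroup G) : Set G) := by
  rw [Subgroup.mem_centralizer_iff]
  intro v hv
  have hv' : n⁻¹ * v * n⁻¹⁻¹ ∈ (A.P : Subgroup G) :=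
    (Subgroup.mem_normalizer_iff.mp (Subgroup.inv_mem _ hn) v).mp hv
  have h1 := A.commute_of_mem_C c hc _ hv'
  calc v * (n * c * n⁻¹) = n * ((n⁻¹ * v * n⁻¹⁻¹) * c) * n⁻¹ := by group
    _ = n * (c * (n⁻¹ * v * n⁻¹⁻¹)) * n⁻¹ := by rw [h1]
    _ = n * c * n⁻¹ * v := by group

theorem commute_y_iff (g : G) :
    g * A.y = A.y * g ↔ g ∈ Subgroup.normalizer ((A.P : Subgroup G) : Set G) := by
  constructor
  · intro h
    apply A.mem_N_of_conj A.y A.hyC A.hy1 g
    have : g * A.y * g⁻¹ = A.y := by rw [h]; group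
    rw [this]; exact A.hyC
  · intro hg
    have h1 := A.conj_mem_C g hg A.y A.hyC
    have h2 : (g * A.y * g⁻¹) * (g * A.y * g⁻¹) = 1 := by
      calc (g * A.y * g⁻¹) * (g * A.y * g⁻¹) = g * (A.y * A.y) * g⁻¹ := by group
        _ = 1 := by rw [A.hyy]; group
    rcases A.C_inv _ h1 h2 with h | h
    · exact absurd (conj_eq_one_iff.mp h) A.hy1
    · calc g * A.y = (g * A.y * g⁻¹) * g := by group
        _ = A.y * g := by rw [h]

theorem inv_not_mem_C (n : G) (hn1 : n ≠ 1) (hnn : n * n = 1) (hny : n ≠ A.y) :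
    n ∉ Subgroup.centralizer ((A.P : Subgroup G) : Set G) := by
  intro h
  rcases A.C_inv n h hnn with h' | h'
  · exact hn1 h'
  · exact hny h'

theorem inv_N_commute (c a e : G)
    (hc : c ∈ Subgroup.normalizer ((A.P : Subgroup G) : Set G)) (hc1 : c ≠ 1) (hcc : c * c = 1)
    (ha : a ∈ Subgroup.normalizer ((A.P : Subgroup G) : Set G)) (ha1 : a ≠ 1) (haa : a * a = 1)
    (he : e ∈ (A.P : Subgroup G)) (he1 : e ≠ 1) (hae : a * e * a⁻¹ = e⁻¹) (hce : c * e = e * c) :
    c = A.y := by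
  by_contra hcy
  have hcC := A.inv_not_mem_C c hc1 hcc hcy
  have hee : e * e ≠ 1 := fun h => he1 (A.odd_P e he h)
  have haC : a ∉ Subgroup.centralizer ((A.P : Subgroup G) : Set G) := by
    intro h
    apply hee
    have h1 := A.commute_of_mem_C a h e he
    have h2 : a * e * a⁻¹ = e := by rw [← h1]; group
    rw [h2] at hae
    calc e * e = e * e⁻¹ := by rw [← hae]
      _ = 1 := by group
  have hac := A.N_mul a c ha hc haC hcC
  have h1 := A.commute_of_mem_C (a * c) hac e he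
  apply hee
  have h2 : (a * c) * e * (a * c)⁻¹ = e := by rw [← h1]; group
  have h3 : (a * c) * e * (a * c)⁻¹ = e⁻¹ := by
    calc (a * c) * e * (a * c)⁻¹ = a * (c * e) * c⁻¹ * a⁻¹ := by group
      _ = a * (e * c) * c⁻¹ * a⁻¹ := by rw [hce]
      _ = a * e * a⁻¹ := by group
      _ = e⁻¹ := hae
  rw [h2] at h3
  calc e * e = e * e⁻¹ := by rw [← h3]
    _ = 1 := by group

theorem inv_N_pair (b c : G) (hb : b ∈ Subgroup.normalizer ((A.P : Subgroup G) : Set G))
    (hc : c ∈ Subgroup.normalizer ((A.P : Subgroup G) : Set G)) (hb1 : b ≠ 1) (hb2 : b * b = 1)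
    (hc1 : c ≠ 1) (hc2 : c * c = 1) (hby : b ≠ A.y) (hcy : c ≠ A.y) (hbc : b * c = c * b) :
    c = b ∨ c = b * A.y := by
  have hbC := A.inv_not_mem_C b hb1 hb2 hby
  have hcC := A.inv_not_mem_C c hc1 hc2 hcy
  have hmem := A.N_mul b c hb hc hbC hcC
  have hsq : (b * c) * (b * c) = 1 := by
    calc (b * c) * (b * c) = b * (c * b) * c := by group
      _ = b * (b * c) * c := by rw [hbc]
      _ = (b * b) * (c * c) := by group
      _ = 1 := by rw [hb2, hc2, one_mul]
  have hbi : b⁻¹ = b := inv_eq_self_of_sq b hb2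
  rcases A.C_inv _ hmem hsq with h | h
  · left
    have : c = b⁻¹ := eq_inv_of_mul_eq_one_right h
    rw [this, hbi]
  · right
    have : c = b⁻¹ * A.y := by rw [← h]; group
    rw [this, hbi]

end ACtx

end Cfsg.Agent.helper8ab
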