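import Mathlib
import Cfsg.Prelude.Def_OddOrderLocal
import Cfsg.Agent.Lib_helper8_CS12
import Cfsg.Agent.Lib_helper8_AB1

set_option autoImplicit false

/-!
# Abelian Sylow 3-subgroup with small normalizer: the Sylow 2-subgroups
-/

universe u

namespace Cfsg.Agent.helper8ab

open Subgroup Cfsg.Agent.helper8cs

/-- The context with a Sylow 2-subgroup. -/
structure BCtx (G : Type u) [Group G] extends ACtx G where
  S : Sylow 2 G
  hyS : y ∈ (S : Subgroup G)
  hSstruct : ∀ c ∈ (S : Subgroup G), c ≠ 1 → c * c = 1 ∧ ∃ g : G, g * c * g⁻¹ = y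
  hScomm : ∀ a ∈ (S : Subgroup G), ∀ b ∈ (S : Subgroup G), a * b = b * a
  t : G
  htS : t ∈ (S : Subgroup G)
  ht1 : t ≠ 1
  hty : t ≠ y

namespace ACtx

variable {G : Type u} [Group G] [Finite G] (A : ACtx G)

include A in
theorem sylow2_ne_top (S : Sylow 2 G) : (S : Subgroup G) ≠ ⊤ := by
  intro htop
  have hPbot : ∀ u ∈ (A.P : Subgroup G), u = 1 := by
    intro u hu
    have huS : u ∈ (S : Subgroup G) := by rw [htop]; exact Subgroup.mem_top u
    exact eq_one_of_mem_of_coprime_order (p := 3) (A.P : Subgroup G) A.P.isPGroup' u hu (by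
      obtain ⟨k, hk⟩ := S.isPGroup' ⟨u, huS⟩
      have : u ^ (2 ^ k) = 1 := congrArg Subtype.val hk
      exact Nat.Coprime.coprime_dvd_left (orderOf_dvd_of_pow_eq_one this)
        (Nat.Coprime.pow_left k (by norm_num)))
  have hCtop : Subgroup.centralizer ((A.P : Subgroup G) : Set G) = ⊤ := by
    rw [eq_top_iff]
    intro g _
    rw [Subgroup.mem_centralizer_iff]
    intro v hv
    rw [hPbot v hv]; simp
  have hNtop : Subgroup.normalizer ((A.P : Subgroup G) : Set G) = ⊤ := by
    rw [eq_top_iff, ← hCtop]; exact A.C_le_N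
  have h1 := A.hN
  have h2 := A.hC
  rw [hNtop] at h1
  rw [hCtop] at h2
  have := A.card_P_pos
  omega

theorem exists_sylow2 :
    ∃ S : Sylow 2 G, A.y ∈ (S : Subgroup G) ∧ Nat.card (S : Subgroup G) = 4 := by
  haveI : Fact (Nat.Prime 2) := ⟨Nat.prime_two⟩
  have hZ : IsPGroup 2 (Subgroup.zpowers A.y) :=
    isPGroup_zpowers_of_pow (p := 2) A.y 1 (by rw [pow_one, pow_two]; exact A.hyy)
  obtain ⟨S, hS⟩ := hZ.exists_le_sylow
  have hyS : A.y ∈ (S : Subgroup G) := hS (Subgroup.mem_zpowers _)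
  refine ⟨S, hyS, ?_⟩
  have hStop := A.sylow2_ne_top S
  have h2S : 2 ∣ Nat.card (S : Subgroup G) := by
    have : orderOf A.y = 2 := orderOf_eq_prime (by rw [pow_two]; exact A.hyy) A.hy1
    have h := Subgroup.orderOf_dvd_natCard (S : Subgroup G) hyS
    rwa [this] at h
  have hdvd := A.heven _ hStop h2S
  obtain ⟨a, ha⟩ := S.isPGroup'.exists_card_eq
  obtain ⟨k, hk⟩ := A.P.isPGroup'.exists_card_eq
  have h4 : Nat.card (S : Subgroup G) ∣ 4 := by
    rw [hk] at hdvd
    rw [ha] at hdvd ⊢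
    exact Nat.Coprime.dvd_of_dvd_mul_right (Nat.Coprime.pow a k (by norm_num)) hdvd
  have h4G : 4 ∣ Nat.card G := by
    have := Subgroup.card_subgroup_dvd_card (Subgroup.normalizer ((A.P : Subgroup G) : Set G))
    rw [A.hN] at this
    exact (dvd_mul_right 4 _).trans this
  have h4S : 4 ∣ Nat.card (S : Subgroup G) := by
    have := S.pow_dvd_card_of_pow_dvd_card (n := 2) (by norm_num; exact h4G)
    norm_num at this
    exact this
  exact Nat.dvd_antisymm h4 h4S

include A in
theorem nonempty_bctx : Nonempty (BCtx G) := by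
  classical
  haveI : Fact (Nat.Prime 2) := ⟨Nat.prime_two⟩
  obtain ⟨S, hyS, hS4⟩ := A.exists_sylow2
  have hScomm : ∀ a ∈ (S : Subgroup G), ∀ b ∈ (S : Subgroup G), a * b = b * a := by
    have := IsPGroup.isMulCommutative_of_card_eq_prime_sq (p := 2) (G := ↥(S : Subgroup G))
      (by rw [hS4]; norm_num)
    intro a ha b hb
    exact congrArg Subtype.val (this.is_comm.comm ⟨a, ha⟩ ⟨b, hb⟩)
  have hnot : ¬ Subgroup.normalizer ((S : Subgroup G) : Set G) ≤
      Subgroup.centralizer ((S : Subgroup G) : Set G) := by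
    intro hNC
    have hcompl := MonoidHom.ker_transferSylow_isComplement' S hNC
    rcases A.hsimple _ (inferInstance : (MonoidHom.transferSylow S hNC).ker.Normal) with h | h
    · rw [h] at hcompl
      exact A.sylow2_ne_top S (Subgroup.isComplement'_bot_left.mp hcompl)
    · rw [h] at hcompl
      have : (S : Subgroup G) = ⊥ := Subgroup.isComplement'_top_left.mp hcompl
      rw [this, Subgroup.card_bot] at hS4
      omega
  obtain ⟨g, hgn, hgodd, hgc⟩ : ∃ g ∈ Subgroup.normalizer ((S : Subgroup G) : Set G),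
      (orderOf g).Coprime 2 ∧ g ∉ Subgroup.centralizer ((S : Subgroup G) : Set G) := by
    by_contra hcon
    push Not at hcon
    exact hnot (normalizer_le_centralizer_of S hScomm hcon)
  obtain ⟨a, haS, hag⟩ : ∃ a ∈ (S : Subgroup G), g * a * g⁻¹ ≠ a := by
    by_contra hcon
    push Not at hcon
    apply hgc
    rw [Subgroup.mem_centralizer_iff]
    intro b hb
    have := hcon b hb
    calc b * g = (g * b * g⁻¹) * g := by rw [this]
      _ = g * b := by group
  have hconjS : ∀ c ∈ (S : Subgroup G), g * c * g⁻¹ ∈ (S : Subgroup G) :=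
    fun c hc => (Subgroup.mem_normalizer_iff.mp hgn c).mp hc
  have ha'S : g * a * g⁻¹ ∈ (S : Subgroup G) := hconjS a haS
  have ha''S : g * (g * a * g⁻¹) * g⁻¹ ∈ (S : Subgroup G) := hconjS _ ha'S
  have ha1 : a ≠ 1 := by
    rintro rfl
    apply hag; group
  have ha'1 : g * a * g⁻¹ ≠ 1 := fun h => ha1 (conj_eq_one_iff.mp h)
  have ha''1 : g * (g * a * g⁻¹) * g⁻¹ ≠ 1 := fun h => ha'1 (conj_eq_one_iff.mp h)
  have h12 : g * (g * a * g⁻¹) * g⁻¹ ≠ g * a * g⁻¹ := fun h => hag (conj_inj g _ _ h)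
  have h02 : g * (g * a * g⁻¹) * g⁻¹ ≠ a := by
    intro h
    apply hag
    have h2 : g ^ 2 ∈ Subgroup.centralizer ({a} : Set G) := by
      rw [Subgroup.mem_centralizer_singleton_iff, pow_two]
      have : (g * g) * a * (g * g)⁻¹ = a := by
        calc (g * g) * a * (g * g)⁻¹ = g * (g * a * g⁻¹) * g⁻¹ := by group
          _ = a := h
      calc g * g * a = ((g * g) * a * (g * g)⁻¹) * (g * g) := by group
        _ = a * (g * g) := by rw [this]
    have h3 : g ^ (orderOf g) ∈ Subgroup.centralizer ({a} : Set G) := by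
      rw [pow_orderOf_eq_one]; exact Subgroup.one_mem _
    have h4 := mem_of_pow_mem_of_coprime _ g 2 (orderOf g) hgodd.symm h2 h3
    have h5 := Subgroup.mem_centralizer_singleton_iff.mp h4
    rw [h5]; group
  have hs4 : ({1, a, g * a * g⁻¹, g * (g * a * g⁻¹) * g⁻¹} : Finset G).card = 4 := by
    rw [Finset.card_insert_of_notMem, Finset.card_insert_of_notMem,
      Finset.card_insert_of_notMem, Finset.card_singleton]
    · simp only [Finset.mem_singleton]; exact fun h => h12 h.symm
    · simp only [Finset.mem_insert, Finset.mem_singleton, not_or]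
      exact ⟨fun h => hag h.symm, fun h => h02 h.symm⟩
    · simp only [Finset.mem_insert, Finset.mem_singleton, not_or]
      exact ⟨fun h => ha1 h.symm, fun h => ha'1 h.symm, fun h => ha''1 h.symm⟩
  have hSmem : ∀ c ∈ (S : Subgroup G), c = 1 ∨ c = a ∨ c = g * a * g⁻¹ ∨
      c = g * (g * a * g⁻¹) * g⁻¹ := by
    intro c hc
    have := mem_finset_of_card_le (S : Subgroup G)
      ({1, a, g * a * g⁻¹, g * (g * a * g⁻¹) * g⁻¹} : Finset G) (by
      intro x hx
      simp only [Finset.mem_insert, Finset.mem_singleton] at hx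
      rcases hx with rfl | rfl | rfl | rfl
      · exact Subgroup.one_mem _
      · exact haS
      · exact ha'S
      · exact ha''S) (by rw [hS4, hs4]) c hc
    simpa only [Finset.mem_insert, Finset.mem_singleton] using this
  have hconj : ∀ c ∈ (S : Subgroup G), c ≠ 1 → ∃ h : G, h * c * h⁻¹ = A.y := by
    intro c hc hc1
    rcases hSmem c hc with h | h | h | h
    · exact absurd h hc1
    · rcases hSmem A.y hyS with hy | hy | hy | hy
      · exact absurd hy A.hy1
      · exact ⟨1, by rw [h, hy]; group⟩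
      · exact ⟨g, by rw [h, hy]⟩
      · exact ⟨g * g, by rw [h, hy]; group⟩
    · rcases hSmem A.y hyS with hy | hy | hy | hy
      · exact absurd hy A.hy1
      · exact ⟨g⁻¹, by rw [h, hy]; group⟩
      · exact ⟨1, by rw [h, hy]; group⟩
      · exact ⟨g, by rw [h, hy]⟩
    · rcases hSmem A.y hyS with hy | hy | hy | hy
      · exact absurd hy A.hy1
      · exact ⟨(g * g)⁻¹, by rw [h, hy]; group⟩
      · exact ⟨g⁻¹, by rw [h, hy]; group⟩
      · exact ⟨1, by rw [h, hy]; group⟩
  have hstruct : ∀ c ∈ (S : Subgroup G), c ≠ 1 → c * c = 1 ∧ ∃ h : G, h * c * h⁻¹ = A.y := by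
    intro c hc hc1
    obtain ⟨h, hh⟩ := hconj c hc hc1
    refine ⟨?_, h, hh⟩
    have h1 : h * (c * c) * h⁻¹ = 1 := by
      calc h * (c * c) * h⁻¹ = (h * c * h⁻¹) * (h * c * h⁻¹) := by group
        _ = 1 := by rw [hh, A.hyy]
    exact conj_eq_one_iff.mp h1
  obtain ⟨t, htS, ht1, hty⟩ : ∃ t ∈ (S : Subgroup G), t ≠ 1 ∧ t ≠ A.y := by
    rcases hSmem A.y hyS with hy | hy | hy | hy
    · exact absurd hy A.hy1
    · exact ⟨g * a * g⁻¹, ha'S, ha'1, by rw [hy]; exact hag⟩
    · exact ⟨a, haS, ha1, by rw [hy]; exact fun h => hag h.symm⟩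
    · exact ⟨a, haS, ha1, by rw [hy]; exact fun h => h02 h.symm⟩
  exact ⟨{ toACtx := A, S := S, hyS := hyS, hSstruct := hstruct, hScomm := hScomm, t := t,
           htS := htS, ht1 := ht1, hty := hty }⟩

end ACtx

end Cfsg.Agent.helper8ab
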