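import Mathlib
import Cfsg.Prelude.Def_OddOrderLocal
import Cfsg.Agent.Lib_helper8_CS12
import Cfsg.Agent.Lib_helper8_AB1
import Cfsg.Agent.Lib_helper8_AB2

set_option autoImplicit false

/-!
# Abelian Sylow 3-subgroup with small normalizer: the commuting graph of involutions
-/

universe u

namespace Cfsg.Agent.helper8ab

open Subgroup Cfsg.Agent.helper8cs

namespace ACtx

variable {G : Type u} [Group G] [Finite G] (A : ACtx G)

include A in
theorem not_comm : ¬ (∀ a b : G, a * b = b * a) := by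
  intro hcomm
  have hCtop : Subgroup.centralizer ((A.P : Subgroup G) : Set G) = ⊤ := by
    rw [eq_top_iff]
    intro g _
    rw [Subgroup.mem_centralizer_iff]
    intro v _
    exact hcomm v g
  have hNtop : Subgroup.normalizer ((A.P : Subgroup G) : Set G) = ⊤ := by
    rw [eq_top_iff, ← hCtop]; exact A.C_le_N
  have h1 := A.hN
  have h2 := A.hC
  rw [hNtop] at h1
  rw [hCtop] at h2
  have := A.card_P_pos
  omega

end ACtx

namespace BCtx

variable {G : Type u} [Group G] [Finite G] (B : BCtx G)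

theorem exists_conj_eq_y (s : G) (hs1 : s ≠ 1) (hs : s * s = 1) : ∃ g : G, g * s * g⁻¹ = B.y := by
  haveI : Fact (Nat.Prime 2) := ⟨Nat.prime_two⟩
  obtain ⟨g, hg⟩ := exists_conj_mem_sylow 2 B.S s 1 (by rw [pow_one, pow_two]; exact hs)
  obtain ⟨-, g', hg'⟩ := B.hSstruct _ hg (fun h => hs1 (conj_eq_one_iff.mp h))
  refine ⟨g' * g, ?_⟩
  rw [← hg']; group

include B in
theorem sq_of_two_elem (x : G) (k : ℕ) (hx : x ^ (2 ^ k) = 1) : x * x = 1 := by
  haveI : Fact (Nat.Prime 2) := ⟨Nat.prime_two⟩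
  obtain ⟨g, hg⟩ := exists_conj_mem_sylow 2 B.S x k hx
  by_cases h1 : g * x * g⁻¹ = 1
  · rw [conj_eq_one_iff.mp h1, one_mul]
  · obtain ⟨h2, -⟩ := B.hSstruct _ hg h1
    have h3 : g * (x * x) * g⁻¹ = 1 := by
      calc g * (x * x) * g⁻¹ = (g * x * g⁻¹) * (g * x * g⁻¹) := by group
        _ = 1 := h2
    exact conj_eq_one_iff.mp h3

include B in
theorem dich (a b : G) (ha : IsInvol a) (hb : IsInvol b) (hab : a ≠ b) :
    ∃ j : ℕ, (a * b) ^ (2 * 3 ^ j) = 1 := by
  have hai := inv_eq_self_of_sq a ha.2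
  have hbi := inv_eq_self_of_sq b hb.2
  obtain ⟨d, hd⟩ : ∃ d, d = a * b := ⟨_, rfl⟩
  have had : a * d * a⁻¹ = d⁻¹ := by
    rw [hd, mul_inv_rev, hai, hbi]
    calc a * (a * b) * a = (a * a) * b * a := by group
      _ = b * a := by rw [ha.2, one_mul]
  have hbd : b * d * b⁻¹ = d⁻¹ := by
    rw [hd, mul_inv_rev, hai, hbi]
    calc b * (a * b) * b = b * a * (b * b) := by group
      _ = b * a := by rw [hb.2, mul_one]
  obtain ⟨H, hH⟩ : ∃ H : Subgroup G, H = Subgroup.closure {a, b} := ⟨_, rfl⟩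
  have haH : a ∈ H := by rw [hH]; exact Subgroup.subset_closure (by simp)
  have hbH : b ∈ H := by rw [hH]; exact Subgroup.subset_closure (by simp)
  have hnorm : ∀ x : G, x * x = 1 → x * d * x⁻¹ = d⁻¹ →
      x ∈ Subgroup.normalizer ((Subgroup.zpowers d : Subgroup G) : Set G) := by
    intro x hxx hxd
    apply mem_normalizer_of_inv x _ hxx
    intro z hz
    obtain ⟨i, rfl⟩ := Subgroup.mem_zpowers_iff.mp hz
    rw [← conj_zpow, hxd]
    exact Subgroup.zpow_mem _ (Subgroup.inv_mem _ (Subgroup.mem_zpowers d)) i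
  have hHtop : H ≠ ⊤ := by
    intro htop
    have hZn : (Subgroup.zpowers d).Normal := by
      rw [← Subgroup.normalizer_eq_top_iff, eq_top_iff, ← htop, hH, Subgroup.closure_le]
      intro x hx
      simp only [Set.mem_insert_iff, Set.mem_singleton_iff] at hx
      rcases hx with rfl | rfl
      · exact hnorm x ha.2 had
      · exact hnorm x hb.2 hbd
    rcases B.hsimple _ hZn with h | h
    · have h1 : d = 1 := by
        have := Subgroup.mem_zpowers d
        rw [h, Subgroup.mem_bot] at this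
        exact this
      apply hab
      rw [hd] at h1
      have : a = b⁻¹ := eq_inv_of_mul_eq_one_left h1
      rw [this, hbi]
    · apply B.toACtx.not_comm
      intro x z
      have hx : x ∈ Subgroup.zpowers d := by rw [h]; exact Subgroup.mem_top x
      have hz : z ∈ Subgroup.zpowers d := by rw [h]; exact Subgroup.mem_top z
      obtain ⟨i, rfl⟩ := Subgroup.mem_zpowers_iff.mp hx
      obtain ⟨j, rfl⟩ := Subgroup.mem_zpowers_iff.mp hz
      rw [← zpow_add, ← zpow_add, add_comm]
  have h2H : 2 ∣ Nat.card H := by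
    have : orderOf a = 2 := orderOf_eq_prime (by rw [pow_two]; exact ha.2) ha.1
    have h := Subgroup.orderOf_dvd_natCard H haH
    rwa [this] at h
  have hdvd := B.heven H hHtop h2H
  obtain ⟨k, hk⟩ := B.P.isPGroup'.exists_card_eq
  have hdH : d ∈ H := by rw [hd]; exact H.mul_mem haH hbH
  have hod : orderOf d ∣ 4 * 3 ^ k := by
    rw [← hk]; exact (Subgroup.orderOf_dvd_natCard H hdH).trans hdvd
  have h1 : d ^ (4 * 3 ^ k) = 1 := orderOf_dvd_iff_pow_eq_one.mp hod
  have h2 : (d ^ (3 ^ k)) ^ (2 ^ 2) = 1 := by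
    rw [← pow_mul]
    have : 3 ^ k * 2 ^ 2 = 4 * 3 ^ k := by ring
    rw [this]; exact h1
  have h3 := B.sq_of_two_elem _ 2 h2
  refine ⟨k, ?_⟩
  rw [← hd, two_mul, pow_add]; exact h3

theorem friend_y (b : G) (hb : IsInvol b)
    (hbN : b ∈ Subgroup.normalizer ((B.P : Subgroup G) : Set G)) (hby : b ≠ B.y) :
    Friend B.y b := by
  have hbyc : b * B.y = B.y * b := (B.toACtx.commute_y_iff b).mpr hbN
  have hbi : b⁻¹ = b := inv_eq_self_of_sq b hb.2
  refine ⟨b * B.y, ⟨⟨?_, ?_⟩, ?_, ?_, ?_, ?_⟩, ?_⟩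
  · intro h
    apply hby
    have : B.y = b⁻¹ := eq_inv_of_mul_eq_one_right h
    rw [this, hbi]
  · calc b * B.y * (b * B.y) = b * (B.y * b) * B.y := by group
      _ = b * (b * B.y) * B.y := by rw [hbyc]
      _ = (b * b) * (B.y * B.y) := by group
      _ = 1 := by rw [hb.2, B.hyy, one_mul]
  · intro h
    apply hb.1
    have : b * B.y = 1 * B.y := by rw [one_mul]; exact h
    exact mul_right_cancel this
  · intro h
    apply B.hy1
    have : b * B.y = b * 1 := by rw [mul_one]; exact h
    exact mul_left_cancel this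
  · calc b * B.y * B.y = (B.y * b) * B.y := by rw [hbyc]
      _ = B.y * (b * B.y) := by group
  · calc b * B.y * b = b * (B.y * b) := by group
      _ = b * (b * B.y) := by rw [hbyc]
  · rintro c' ⟨hc', hc'y, hc'b, hcy, hcb⟩
    have hc'N := (B.toACtx.commute_y_iff c').mp hcy
    rcases B.toACtx.inv_N_pair b c' hbN hc'N hb.1 hb.2 hc'.1 hc'.2 hby hc'y hcb.symm with h | h
    · exact absurd h hc'b
    · exact h

theorem friend_of_sq_mem (a b : G) (ha : IsInvol a) (hb : IsInvol b)
    (heP : (a * b) * (a * b) ∈ (B.P : Subgroup G)) (he1 : (a * b) * (a * b) ≠ 1) :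
    Friend a b := by
  obtain ⟨e, he⟩ : ∃ e, e = (a * b) * (a * b) := ⟨_, rfl⟩
  rw [← he] at heP he1
  have heC := B.toACtx.P_le_C heP
  have heiC : e⁻¹ ∈ Subgroup.centralizer ((B.P : Subgroup G) : Set G) := Subgroup.inv_mem _ heC
  have hai := inv_eq_self_of_sq a ha.2
  have hbi := inv_eq_self_of_sq b hb.2
  have hinv : ((a * b) * (a * b))⁻¹ = (b * a) * (b * a) := by
    rw [mul_inv_rev, mul_inv_rev, hai, hbi]
  have hae : a * e * a⁻¹ = e⁻¹ := by
    rw [he, hai, hinv]
    calc a * (a * b * (a * b)) * a = (a * a) * b * a * b * a := by group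
      _ = (b * a) * (b * a) := by rw [ha.2]; group
  have hbe : b * e * b⁻¹ = e⁻¹ := by
    rw [he, hbi, hinv]
    calc b * (a * b * (a * b)) * b = b * a * b * a * (b * b) := by group
      _ = (b * a) * (b * a) := by rw [hb.2]; group
  have haN := B.toACtx.mem_N_of_conj e heC he1 a (by rw [hae]; exact heiC)
  have hbN := B.toACtx.mem_N_of_conj e heC he1 b (by rw [hbe]; exact heiC)
  have hyinv : IsInvol B.y := ⟨B.hy1, B.hyy⟩
  have hye : B.y * e * B.y⁻¹ = e := by
    have := B.toACtx.commute_of_mem_C B.y B.hyC e heP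
    rw [← this]; group
  have hne : ∀ s, s * e * s⁻¹ = e⁻¹ → B.y ≠ s := by
    intro s hs hys
    apply he1
    rw [← hys, hye] at hs
    apply B.toACtx.odd_P e heP
    calc e * e = e * e⁻¹ := by rw [← hs]
      _ = 1 := by group
  refine ⟨B.y, ⟨hyinv, hne a hae, hne b hbe, ?_, ?_⟩, ?_⟩
  · exact ((B.toACtx.commute_y_iff a).mpr haN).symm
  · exact ((B.toACtx.commute_y_iff b).mpr hbN).symm
  · rintro c' ⟨hc', -, -, hca, hcb⟩
    have hce : c' * e = e * c' := by
      rw [he]
      calc c' * (a * b * (a * b)) = (c' * a) * b * (a * b) := by group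
        _ = (a * c') * b * (a * b) := by rw [hca]
        _ = a * (c' * b) * (a * b) := by group
        _ = a * (b * c') * (a * b) := by rw [hcb]
        _ = a * b * (c' * a) * b := by group
        _ = a * b * (a * c') * b := by rw [hca]
        _ = a * b * a * (c' * b) := by group
        _ = a * b * a * (b * c') := by rw [hcb]
        _ = a * b * (a * b) * c' := by group
    have hcN := B.toACtx.mem_N_of_conj e heC he1 c' (by
      have : c' * e * c'⁻¹ = e := by rw [hce]; group
      rw [this]; exact heC)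
    exact B.toACtx.inv_N_commute c' a e hcN hc'.1 hc'.2 haN ha.1 ha.2 heP he1 hae hce

include B in
theorem friend (a b : G) (ha : IsInvol a) (hb : IsInvol b) (hab : a ≠ b) : Friend a b := by
  have hai := inv_eq_self_of_sq a ha.2
  have hbi := inv_eq_self_of_sq b hb.2
  obtain ⟨j, hj⟩ := B.dich a b ha hb hab
  have hconjsq : ∀ g : G, g * a * g⁻¹ * (g * b * g⁻¹) * (g * a * g⁻¹ * (g * b * g⁻¹)) =
      g * (a * b * (a * b)) * g⁻¹ := by
    intro g; group
  by_cases he : (a * b) * (a * b) = 1
  · have hcomm : a * b = b * a := by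
      have : a * b = (a * b)⁻¹ := eq_inv_of_mul_eq_one_left he
      rw [mul_inv_rev, hai, hbi] at this
      exact this
    obtain ⟨g, hg⟩ := B.exists_conj_eq_y a ha.1 ha.2
    apply Friend.of_conj g
    rw [hg]
    apply B.friend_y _ (hb.conj g)
    · apply (B.toACtx.commute_y_iff _).mp
      rw [← hg]
      exact (conj_commute_iff g b a).mpr hcomm.symm
    · intro h
      apply hab
      rw [← hg] at h
      exact (conj_inj g _ _ h).symm
  · have hpow : ((a * b) * (a * b)) ^ (3 ^ j) = 1 := by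
      rw [← pow_two, ← pow_mul]; exact hj
    haveI : Fact (Nat.Prime 3) := ⟨Nat.prime_three⟩
    obtain ⟨g, hg⟩ := exists_conj_mem_sylow 3 B.P _ j hpow
    apply Friend.of_conj g
    apply B.friend_of_sq_mem _ _ (ha.conj g) (hb.conj g)
    · rw [hconjsq]; exact hg
    · rw [hconjsq]
      intro h; exact he (conj_eq_one_iff.mp h)

include B in
/-- The final contradiction. -/
theorem false_of_bctx : False := by
  classical
  haveI : Fintype (InvT G) := Fintype.ofFinite _
  have hyinv : IsInvol B.y := ⟨B.hy1, B.hyy⟩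
  haveI : Nonempty (InvT G) := ⟨⟨B.y, hyinv⟩⟩
  obtain ⟨yV, hyV⟩ : ∃ yV : InvT G, yV.1 = B.y := ⟨⟨B.y, hyinv⟩, rfl⟩
  obtain ⟨k, hk⟩ : ∃ k, k = (Finset.univ.filter fun b => RelI yV b).card := ⟨_, rfl⟩
  have hdeg : ∀ (g : G) (a : InvT G),
      (Finset.univ.filter fun b => RelI (conjV g a) b).card =
        (Finset.univ.filter fun b => RelI a b).card := by
    intro g a
    symm
    apply Finset.card_bij (fun b _ => conjV g b)
    · intro b hb
      simp only [Finset.mem_filter, Finset.mem_univ, true_and] at hb ⊢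
      exact (RelI_conj g a b).mp hb
    · intro b₁ _ b₂ _ h
      exact (conjV g).injective h
    · intro c hc
      simp only [Finset.mem_filter, Finset.mem_univ, true_and] at hc
      refine ⟨(conjV g).symm c, ?_, (conjV g).apply_symm_apply c⟩
      simp only [Finset.mem_filter, Finset.mem_univ, true_and]
      rw [RelI_conj g, Equiv.apply_symm_apply]; exact hc
  have hreg : ∀ a : InvT G, (Finset.univ.filter fun b => RelI a b).card = k := by
    intro a
    obtain ⟨g, hg⟩ := B.exists_conj_eq_y a.1 a.2.1 a.2.2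
    have : conjV g a = yV := Subtype.ext (hg.trans hyV.symm)
    rw [hk, ← this, hdeg]
  have hk3 : 3 ≤ k := by
    have key : ∀ n : G, n ∈ Subgroup.normalizer ((B.P : Subgroup G) : Set G) →
        n ∉ Subgroup.centralizer ((B.P : Subgroup G) : Set G) → n * n = 1 →
        ∃ v : InvT G, v.1 = n ∧ v ∈ Finset.univ.filter fun b => RelI yV b := by
      intro n hnN hnC hnn
      have hn1 : n ≠ 1 := by rintro rfl; exact hnC (Subgroup.one_mem _)
      refine ⟨⟨n, hn1, hnn⟩, rfl, ?_⟩
      simp only [Finset.mem_filter, Finset.mem_univ, true_and]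
      refine ⟨?_, ?_⟩
      · intro h
        apply hnC
        have : B.y = n := by rw [← hyV]; exact congrArg Subtype.val h
        rw [← this]; exact B.hyC
      · show yV.1 * n = n * yV.1
        rw [hyV]
        exact ((B.toACtx.commute_y_iff n).mpr hnN).symm
    have htt : B.t * B.t = 1 := (B.hSstruct B.t B.htS B.ht1).1
    have hty : B.t * B.y = B.y * B.t := B.hScomm _ B.htS _ B.hyS
    have htN : B.t ∈ Subgroup.normalizer ((B.P : Subgroup G) : Set G) :=
      (B.toACtx.commute_y_iff B.t).mp hty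
    have htC : B.t ∉ Subgroup.centralizer ((B.P : Subgroup G) : Set G) :=
      B.toACtx.inv_not_mem_C B.t B.ht1 htt B.hty
    have hyN : B.y ∈ Subgroup.normalizer ((B.P : Subgroup G) : Set G) := B.toACtx.C_le_N B.hyC
    have hytN : B.y * B.t ∈ Subgroup.normalizer ((B.P : Subgroup G) : Set G) :=
      Subgroup.mul_mem _ hyN htN
    have hytC : B.y * B.t ∉ Subgroup.centralizer ((B.P : Subgroup G) : Set G) := by
      intro h
      apply htC
      have : B.t = B.y⁻¹ * (B.y * B.t) := by group
      rw [this]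
      exact Subgroup.mul_mem _ (Subgroup.inv_mem _ B.hyC) h
    have hytsq : B.y * B.t * (B.y * B.t) = 1 := by
      calc B.y * B.t * (B.y * B.t) = B.y * (B.t * B.y) * B.t := by group
        _ = B.y * (B.y * B.t) * B.t := by rw [hty]
        _ = (B.y * B.y) * (B.t * B.t) := by group
        _ = 1 := by rw [B.hyy, htt, one_mul]
    obtain ⟨v, hvP, hvt⟩ : ∃ v ∈ (B.P : Subgroup G), v * B.t ≠ B.t * v := by
      by_contra hcon
      push Not at hcon
      apply htC
      rw [Subgroup.mem_centralizer_iff]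
      exact hcon
    have hvN : v ∈ Subgroup.normalizer ((B.P : Subgroup G) : Set G) := Subgroup.le_normalizer hvP
    have hvtN : v * B.t * v⁻¹ ∈ Subgroup.normalizer ((B.P : Subgroup G) : Set G) :=
      Subgroup.mul_mem _ (Subgroup.mul_mem _ hvN htN) (Subgroup.inv_mem _ hvN)
    have hvtC : v * B.t * v⁻¹ ∉ Subgroup.centralizer ((B.P : Subgroup G) : Set G) := by
      intro h
      apply htC
      have := B.toACtx.conj_mem_C v⁻¹ (Subgroup.inv_mem _ hvN) _ h
      have e : v⁻¹ * (v * B.t * v⁻¹) * v⁻¹⁻¹ = B.t := by group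
      rwa [e] at this
    have hvtsq : v * B.t * v⁻¹ * (v * B.t * v⁻¹) = 1 := by
      calc v * B.t * v⁻¹ * (v * B.t * v⁻¹) = v * (B.t * B.t) * v⁻¹ := by group
        _ = 1 := by rw [htt]; group
    obtain ⟨v1, h1, m1⟩ := key B.t htN htC htt
    obtain ⟨v2, h2, m2⟩ := key (B.y * B.t) hytN hytC hytsq
    obtain ⟨v3, h3, m3⟩ := key (v * B.t * v⁻¹) hvtN hvtC hvtsq
    rw [hk]
    apply Nat.succ_le_of_lt
    rw [Finset.two_lt_card_iff]
    refine ⟨v1, v2, v3, m1, m2, m3, ?_, ?_, ?_⟩
    · intro h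
      have h' := congrArg Subtype.val h
      rw [h1, h2] at h'
      apply B.hy1
      have : 1 * B.t = B.y * B.t := by rw [one_mul]; exact h'
      exact (mul_right_cancel this).symm
    · intro h
      have h' := congrArg Subtype.val h
      rw [h1, h3] at h'
      apply hvt
      calc v * B.t = (v * B.t * v⁻¹) * v := by group
        _ = B.t * v := by rw [← h']
    · intro h
      have h' := congrArg Subtype.val h
      rw [h2, h3] at h'
      apply B.toACtx.y_not_mem_P
      have hti : B.t⁻¹ = B.t := inv_eq_self_of_sq B.t htt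
      have e : B.y = v * (B.t * v⁻¹ * B.t⁻¹) := by
        calc B.y = (B.y * B.t) * B.t⁻¹ := by group
          _ = (v * B.t * v⁻¹) * B.t⁻¹ := by rw [h']
          _ = v * (B.t * v⁻¹ * B.t⁻¹) := by group
      rw [e]
      exact Subgroup.mul_mem _ hvP
        ((Subgroup.mem_normalizer_iff.mp htN v⁻¹).mp (Subgroup.inv_mem _ hvP))
  have hsymm : ∀ a b : InvT G, RelI a b → RelI b a := fun a b h => ⟨h.1.symm, h.2.symm⟩
  have hirr : ∀ a : InvT G, ¬ RelI a a := fun a h => h.1 rfl
  have hfr : ∀ a b : InvT G, a ≠ b →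
      (Finset.univ.filter fun c => RelI a c ∧ RelI c b).card = 1 := by
    intro a b hab
    obtain ⟨c, ⟨hc, hca, hcb, hcac, hcbc⟩, huniq⟩ :=
      B.friend a.1 b.1 a.2 b.2 (fun h => hab (Subtype.ext h))
    rw [Finset.card_eq_one]
    refine ⟨⟨c, hc⟩, ?_⟩
    rw [Finset.eq_singleton_iff_unique_mem]
    constructor
    · simp only [Finset.mem_filter, Finset.mem_univ, true_and]
      exact ⟨⟨fun h => hca (congrArg Subtype.val h).symm, hcac.symm⟩,
        ⟨fun h => hcb (congrArg Subtype.val h), hcbc⟩⟩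
    · intro x hx
      simp only [Finset.mem_filter, Finset.mem_univ, true_and] at hx
      obtain ⟨⟨h1, h2⟩, ⟨h3, h4⟩⟩ := hx
      apply Subtype.ext
      apply huniq
      exact ⟨x.2, fun h => h1 (Subtype.ext h.symm), fun h => h3 (Subtype.ext h), h2.symm, h4⟩
  exact regular_friendship_false RelI hsymm hirr k hk3 hreg hfr

end BCtx

end Cfsg.Agent.helper8ab
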