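import Mathlib
import Cfsg.Agent.Lib_helper8_CN2

set_option autoImplicit false

universe u

namespace Cfsg.Agent.helper8.CN

open Cfsg Cfsg.Agent.helper7 Cfsg.Agent.lead

variable {G : Type u} [Group G] [Finite G]

theorem pgroup_of_mem {p : ℕ} {D : Subgroup G} (hDp : IsPGroup p D) {b : G} (hb : b ∈ D) :
    ∃ k, b ^ p ^ k = 1 := by
  obtain ⟨k, hk⟩ := hDp ⟨b, hb⟩
  exact ⟨k, by simpa using congrArg Subtype.val hk⟩

theorem caseA (hCN : IsCNGroup G) (D : Subgroup G) [D.Normal] (p : ℕ) [Fact p.Prime]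
    (hDp : IsPGroup p D) (hDab : ∀ a ∈ D, ∀ b ∈ D, a * b = b * a) (q : ℕ) [Fact q.Prime]
    (hqp : q ≠ p) (xb : G ⧸ D) (hxb : orderOf xb = q) :
    Group.IsNilpotent (Subgroup.centralizer ({xb} : Set (G ⧸ D))) := by
  obtain ⟨x, rfl⟩ := QuotientGroup.mk_surjective xb
  have hxq : x ^ q ∈ D := by
    rw [← QuotientGroup.eq_one_iff, QuotientGroup.mk_pow, ← hxb, pow_orderOf_eq_one]
  obtain ⟨j, hj⟩ := pgroup_of_mem hDp hxq
  have hcop : Nat.Coprime (p ^ j) q :=
    Nat.Coprime.pow_left j ((Nat.coprime_primes Fact.out Fact.out).mpr hqp.symm)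
  obtain ⟨t, _, ht⟩ := Nat.exists_mul_mod_eq_one_of_coprime hcop (Fact.out : q.Prime).one_lt
  obtain ⟨x₀, hx₀⟩ : ∃ x₀, x₀ = x ^ (p ^ j * t) := ⟨_, rfl⟩
  have hx₀q : x₀ ^ q = 1 := by
    rw [hx₀, ← pow_mul]
    have : p ^ j * t * q = q * p ^ j * t := by ring
    rw [this, pow_mul, pow_mul, hj, one_pow]
  have hπ : ((x₀ : G) : G ⧸ D) = (x : G ⧸ D) := by
    rw [hx₀, QuotientGroup.mk_pow, ← pow_mod_orderOf, hxb, ht, pow_one]
  have hx1 : ((x : G) : G ⧸ D) ≠ 1 := by
    intro h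
    rw [h, orderOf_one] at hxb
    exact (Fact.out : q.Prime).one_lt.ne hxb
  have hx₀1 : x₀ ≠ 1 := by
    intro h
    apply hx1
    rw [← hπ, h]
    rfl
  have hord : orderOf x₀ = q := orderOf_eq_prime hx₀q hx₀1
  have hcardz : Nat.card (Subgroup.zpowers x₀) = q := by rw [Nat.card_zpowers, hord]
  obtain ⟨k, hk⟩ := hDp.exists_card_eq
  have hcopz : (Nat.card (Subgroup.zpowers x₀)).Coprime (Nat.card D) := by
    rw [hcardz, hk]
    exact Nat.Coprime.pow_right k ((Nat.coprime_primes Fact.out Fact.out).mpr hqp)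
  have hinf : D ⊓ Subgroup.zpowers x₀ = ⊥ := Subgroup.inf_eq_bot_of_coprime hcopz.symm
  have key : Subgroup.centralizer ({(x : G ⧸ D)} : Set (G ⧸ D)) =
      (Subgroup.centralizer ({x₀} : Set G)).map (QuotientGroup.mk' D) := by
    ext gb
    constructor
    · intro hgb
      obtain ⟨g, rfl⟩ := QuotientGroup.mk_surjective gb
      rw [Subgroup.mem_centralizer_iff] at hgb
      have hc : (x₀ : G ⧸ D) * (g : G ⧸ D) = (g : G ⧸ D) * (x₀ : G ⧸ D) := by
        rw [hπ]
        exact hgb _ rfl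
      obtain ⟨y₁, hy₁⟩ : ∃ y₁, y₁ = g * x₀ * g⁻¹ := ⟨_, rfl⟩
      have hy₁D : x₀⁻¹ * y₁ ∈ D := by
        rw [← QuotientGroup.eq, hy₁]
        have : ((g * x₀ * g⁻¹ : G) : G ⧸ D) = (g : G ⧸ D) * (x₀ : G ⧸ D) * (g : G ⧸ D)⁻¹ := rfl
        rw [this, ← hc, mul_inv_cancel_right]
      have hy₁B : y₁ ∈ cj g (Subgroup.zpowers x₀) := by
        rw [mem_cj, hy₁]
        have : g⁻¹ * (g * x₀ * g⁻¹) * g = x₀ := by group
        rw [this]
        exact Subgroup.mem_zpowers x₀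
      have hB : cj g (Subgroup.zpowers x₀) ≤ D ⊔ Subgroup.zpowers x₀ := by
        have h1 : cj g (Subgroup.zpowers x₀) = Subgroup.zpowers y₁ := by
          rw [hy₁]
          unfold cj
          rw [MonoidHom.map_zpowers]
          rfl
        rw [h1, Subgroup.zpowers_le]
        have h2 : y₁ = x₀ * (x₀⁻¹ * y₁) := by group
        rw [h2]
        exact Subgroup.mul_mem _ (Subgroup.mem_sup_right (Subgroup.mem_zpowers x₀))
          (Subgroup.mem_sup_left hy₁D)
      have hAD : Subgroup.zpowers x₀ ≤ Subgroup.normalizer (D : Set G) := by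
        rw [Subgroup.normalizer_eq_top]
        exact le_top
      obtain ⟨d, hd, hcj⟩ := sz_conj_semidirect (Subgroup.zpowers x₀) D hAD hcopz
        (Or.inr (isSolvable_of_comm (fun a b => Subtype.ext (hDab a.1 a.2 b.1 b.2))))
        (cj g (Subgroup.zpowers x₀)) hB (card_cj _ _)
      have hy : d * y₁ * d⁻¹ ∈ Subgroup.zpowers x₀ := by
        rw [← hcj, mem_cj]
        have : d⁻¹ * (d * y₁ * d⁻¹) * d = y₁ := by group
        rw [this]
        exact hy₁B
      have hyπ : ((d * y₁ * d⁻¹ : G) : G ⧸ D) = (x₀ : G ⧸ D) := by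
        have hd1 : ((d : G) : G ⧸ D) = 1 := (QuotientGroup.eq_one_iff d).mpr hd
        have h3 : ((d * y₁ * d⁻¹ : G) : G ⧸ D) =
            (d : G ⧸ D) * (y₁ : G ⧸ D) * (d : G ⧸ D)⁻¹ := rfl
        rw [h3, hd1, one_mul, inv_one, mul_one]
        exact (QuotientGroup.eq.mpr hy₁D).symm
      have hyx : d * y₁ * d⁻¹ = x₀ := by
        have h4 : x₀⁻¹ * (d * y₁ * d⁻¹) ∈ D ⊓ Subgroup.zpowers x₀ :=
          ⟨QuotientGroup.eq.mp hyπ.symm,
            Subgroup.mul_mem _ (Subgroup.inv_mem _ (Subgroup.mem_zpowers x₀)) hy⟩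
        rw [hinf, Subgroup.mem_bot] at h4
        exact (inv_mul_eq_one.mp h4).symm
      refine ⟨d * g, ?_, ?_⟩
      · change d * g ∈ Subgroup.centralizer ({x₀} : Set G)
        rw [Subgroup.mem_centralizer_iff]
        intro h hh
        rw [Set.mem_singleton_iff] at hh
        subst hh
        rw [hy₁] at hyx
        have h5 : d * (g * h * g⁻¹) * d⁻¹ * (d * g) = d * g * h := by group
        rw [hyx] at h5
        exact h5
      · have hd1 : ((d : G) : G ⧸ D) = 1 := (QuotientGroup.eq_one_iff d).mpr hd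
        change ((d * g : G) : G ⧸ D) = _
        have h6 : ((d * g : G) : G ⧸ D) = (d : G ⧸ D) * (g : G ⧸ D) := rfl
        rw [h6, hd1, one_mul]
    · rintro ⟨g, hg, rfl⟩
      change g ∈ Subgroup.centralizer ({x₀} : Set G) at hg
      rw [Subgroup.mem_centralizer_iff] at hg ⊢
      intro h hh
      rw [Set.mem_singleton_iff] at hh
      subst hh
      rw [← hπ]
      have := hg x₀ rfl
      change ((x₀ * g : G) : G ⧸ D) = ((g * x₀ : G) : G ⧸ D)
      rw [this]
  rw [key]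
  exact nilpotent_map _ _ (hCN x₀ hx₀1)

theorem comm_of_coprime_elt (hCN : IsCNGroup G) (D : Subgroup G) [D.Normal] (p : ℕ)
    [Fact p.Prime] (hDp : IsPGroup p D) (hDab : ∀ a ∈ D, ∀ b ∈ D, a * b = b * a) (x : G)
    (hx1 : ((x : G) : G ⧸ D) ≠ 1) (hxp : ∃ j, x ^ p ^ j = 1) (c : G)
    (hc : ((c : G) : G ⧸ D) * (x : G ⧸ D) = (x : G ⧸ D) * (c : G ⧸ D)) (r : ℕ) [Fact r.Prime]
    (hrp : r ≠ p) (i : ℕ) (hci : orderOf c = r ^ i) (b : G) (hbD : b ∈ D)
    (hbx : b * x = x * b) : c * b = b * c := by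
  have hfix : ∀ a ∈ Subgroup.zpowers c, a * x * a⁻¹ * x⁻¹ ∈ D := by
    intro a ha
    obtain ⟨n, rfl⟩ := Subgroup.mem_zpowers_iff.mp ha
    rw [← QuotientGroup.eq_one_iff]
    have h1 : ((c ^ n * x * (c ^ n)⁻¹ * x⁻¹ : G) : G ⧸ D) =
        (c : G ⧸ D) ^ n * (x : G ⧸ D) * ((c : G ⧸ D) ^ n)⁻¹ * (x : G ⧸ D)⁻¹ := rfl
    have h2 : Commute ((c : G ⧸ D) ^ n) (x : G ⧸ D) := Commute.zpow_left hc n
    rw [h1, h2.eq, mul_inv_cancel_right, mul_inv_cancel]
  obtain ⟨j, hj⟩ := hxp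
  have hxz : IsPGroup p (Subgroup.zpowers x) := by
    obtain ⟨l, _, hl⟩ := (Nat.dvd_prime_pow Fact.out).1 (orderOf_dvd_of_pow_eq_one hj)
    exact IsPGroup.of_card (n := l) (by rw [Nat.card_zpowers, hl])
  obtain ⟨K, hK⟩ : ∃ K : Subgroup G, K = D ⊔ Subgroup.zpowers x := ⟨_, rfl⟩
  have hKp : IsPGroup p K := by
    rw [hK]
    exact IsPGroup.to_sup_of_normal_left hDp hxz
  have hxK : x ∈ K := by
    rw [hK]
    exact Subgroup.mem_sup_right (Subgroup.mem_zpowers x)
  have hDK : D ≤ K := by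
    rw [hK]
    exact le_sup_left
  have hAK : Subgroup.zpowers c ≤ Subgroup.normalizer (K : Set G) := by
    rw [Subgroup.le_normalizer_iff]
    intro a ha k hk
    have haxa : a * x * a⁻¹ ∈ K := by
      have h3 : a * x * a⁻¹ = (a * x * a⁻¹ * x⁻¹) * x := by group
      rw [h3]
      exact K.mul_mem (hDK (hfix a ha)) hxK
    rw [hK] at hk
    rw [Subgroup.mem_sup_of_normal_left] at hk
    obtain ⟨d, hd, z, hz, rfl⟩ := hk
    obtain ⟨n, rfl⟩ := Subgroup.mem_zpowers_iff.mp hz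
    have h4 : a * (d * x ^ n) * a⁻¹ = (a * d * a⁻¹) * (a * x * a⁻¹) ^ n := by
      rw [conj_zpow]
      group
    rw [h4]
    exact K.mul_mem (hDK (Subgroup.Normal.conj_mem inferInstance d hd a)) (K.zpow_mem haxa n)
  obtain ⟨m, hm⟩ := hKp.exists_card_eq
  have hcop : (Nat.card (Subgroup.zpowers c)).Coprime (Nat.card K) := by
    rw [Nat.card_zpowers, hci, hm]
    exact Nat.Coprime.pow _ _ ((Nat.coprime_primes Fact.out Fact.out).mpr hrp)
  have hKsolv : Group.IsSolvable K := by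
    have := hKp.isNilpotent
    infer_instance
  have hNn : K ≤ Subgroup.normalizer (D : Set G) := by
    rw [Subgroup.normalizer_eq_top]
    exact le_top
  have hNA : Subgroup.zpowers c ≤ Subgroup.normalizer (D : Set G) := by
    rw [Subgroup.normalizer_eq_top]
    exact le_top
  obtain ⟨x', hx'mem, hx'D⟩ := coprime_fixed_coset (Subgroup.zpowers c) K hAK hcop
    (Or.inr hKsolv) D hDK hNn hNA x hxK hfix
  have hx'1 : x' ≠ 1 := by
    intro h
    apply hx1
    have := QuotientGroup.eq.mpr hx'D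
    rw [this, h]
    rfl
  have hcx' : c * x' = x' * c := by
    have := (Subgroup.mem_inf.mp hx'mem).2
    rw [Subgroup.mem_centralizer_iff] at this
    exact this c (Subgroup.mem_zpowers c)
  have hbx' : b * x' = x' * b := by
    have h6 : b * (x⁻¹ * x') = (x⁻¹ * x') * b := hDab b hbD _ hx'D
    calc b * x' = b * x * (x⁻¹ * x') := by group
      _ = x * (b * (x⁻¹ * x')) := by rw [hbx, mul_assoc]
      _ = x * ((x⁻¹ * x') * b) := by rw [h6]
      _ = x' * b := by group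
  have hL := hCN x' hx'1
  have hcL : c ∈ Subgroup.centralizer ({x'} : Set G) := by
    rw [Subgroup.mem_centralizer_iff]
    intro y hy
    rw [Set.mem_singleton_iff] at hy
    subst hy
    exact hcx'.symm
  have hbL : b ∈ Subgroup.centralizer ({x'} : Set G) := by
    rw [Subgroup.mem_centralizer_iff]
    intro y hy
    rw [Set.mem_singleton_iff] at hy
    subst hy
    exact hbx'.symm
  obtain ⟨kb, hkb⟩ := pgroup_of_mem hDp hbD
  exact Cfsg.Agent.helper17.MNN.commute_of_nilpotent_subgroup _ hL hrp hcL hbL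
    ⟨i, by rw [← hci]; exact pow_orderOf_eq_one c⟩ ⟨kb, hkb⟩

theorem caseB (hCN : IsCNGroup G) (D : Subgroup G) [D.Normal] (p : ℕ) [Fact p.Prime]
    (hDp : IsPGroup p D) (hDab : ∀ a ∈ D, ∀ b ∈ D, a * b = b * a) (hD1 : D ≠ ⊥)
    (xb : G ⧸ D) (hxb : orderOf xb = p) :
    Group.IsNilpotent (Subgroup.centralizer ({xb} : Set (G ⧸ D))) := by
  obtain ⟨x, rfl⟩ := QuotientGroup.mk_surjective xb
  have hx1 : ((x : G) : G ⧸ D) ≠ 1 := by
    intro h
    rw [h, orderOf_one] at hxb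
    exact (Fact.out : p.Prime).one_lt.ne hxb
  have hxq : x ^ p ∈ D := by
    rw [← QuotientGroup.eq_one_iff, QuotientGroup.mk_pow, ← hxb, pow_orderOf_eq_one]
  obtain ⟨j, hj⟩ := pgroup_of_mem hDp hxq
  have hxp : x ^ p ^ (j + 1) = 1 := by
    rw [pow_succ', pow_mul, hj]
  obtain ⟨C, hC⟩ : ∃ C : Subgroup G, C = (Subgroup.centralizer
    ({(x : G ⧸ D)} : Set (G ⧸ D))).comap (QuotientGroup.mk' D) := ⟨_, rfl⟩
  have hmemC : ∀ g : G, g ∈ C ↔ (x : G ⧸ D) * (g : G ⧸ D) = (g : G ⧸ D) * (x : G ⧸ D) := by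
    intro g
    rw [hC, Subgroup.mem_comap, Subgroup.mem_centralizer_iff]
    constructor
    · intro h
      exact h _ rfl
    · intro h y hy
      rw [Set.mem_singleton_iff] at hy
      subst hy
      exact h
  have hxC : x ∈ C := (hmemC x).mpr rfl
  have hDC : D ≤ C := by
    intro d hd
    rw [hmemC]
    have hd1 : ((d : G) : G ⧸ D) = 1 := (QuotientGroup.eq_one_iff d).mpr hd
    rw [hd1, mul_one, one_mul]
  have hNp : IsPGroup p (D.subgroupOf C) := hDp.comap_subtype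
  have hN1 : D.subgroupOf C ≠ ⊥ := by
    intro h
    rw [Subgroup.subgroupOf_eq_bot] at h
    exact hD1 (disjoint_self.mp (h.mono_right hDC))
  have hy : (⟨x, hxC⟩ : ↥C) ^ p ^ (j + 1) = 1 := Subtype.ext (by simpa using hxp)
  obtain ⟨S, b, hbN, hb1, hyS, hbc⟩ :=
    exists_sylow_central p (D.subgroupOf C) hNp hN1 ⟨x, hxC⟩ (j + 1) hy
  have hbD : (b : G) ∈ D := Subgroup.mem_subgroupOf.mp hbN
  have hbG1 : (b : G) ≠ 1 := fun h => hb1 (Subtype.ext h)
  have hbx : (b : G) * x = x * (b : G) := by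
    have := hbc ⟨x, hxC⟩ hyS
    exact (congrArg Subtype.val this).symm
  have htop : (Subgroup.centralizer ({(b : G)} : Set G)).subgroupOf C = ⊤ := by
    apply Cfsg.Agent.S3986.eq_top_of_forall_sylow_le
    intro r hr
    by_cases hrp : r = p
    · subst hrp
      refine ⟨S, fun s hs => ?_⟩
      rw [Subgroup.mem_subgroupOf, Subgroup.mem_centralizer_iff]
      intro y hy
      rw [Set.mem_singleton_iff] at hy
      subst hy
      exact (congrArg Subtype.val (hbc s hs)).symm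
    · obtain ⟨R⟩ : Nonempty (Sylow r ↥C) := inferInstance
      refine ⟨R, fun c hcR => ?_⟩
      obtain ⟨i, hi⟩ := orderOf_of_mem_sylow R hcR
      rw [Subgroup.mem_subgroupOf, Subgroup.mem_centralizer_iff]
      intro y hy
      rw [Set.mem_singleton_iff] at hy
      subst hy
      have hcC := (hmemC c.1).mp c.2
      have := comm_of_coprime_elt hCN D p hDp hDab x hx1 ⟨j + 1, hxp⟩ c.1 hcC.symm r hrp i
        (by rw [← hi, Subgroup.orderOf_coe]) (b : G) hbD hbx
      exact this.symm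
  have hCE : C ≤ Subgroup.centralizer ({(b : G)} : Set G) := by
    intro c hc
    have : (⟨c, hc⟩ : ↥C) ∈ (Subgroup.centralizer ({(b : G)} : Set G)).subgroupOf C := by
      rw [htop]
      exact Subgroup.mem_top _
    exact Subgroup.mem_subgroupOf.mp this
  have hCnil : Group.IsNilpotent C := nilpotent_of_le hCE (hCN _ hbG1)
  have hmap : Subgroup.centralizer ({(x : G ⧸ D)} : Set (G ⧸ D)) =
      C.map (QuotientGroup.mk' D) := by
    rw [hC, Subgroup.map_comap_eq_self_of_surjective (QuotientGroup.mk'_surjective D)]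
  rw [hmap]
  exact nilpotent_map _ _ hCnil

theorem cn_quotient_pgroup (hCN : IsCNGroup G) (D : Subgroup G) [D.Normal] (p : ℕ)
    [Fact p.Prime] (hDp : IsPGroup p D) (hDab : ∀ a ∈ D, ∀ b ∈ D, a * b = b * a)
    (hD1 : D ≠ ⊥) : IsCNGroup (G ⧸ D) := by
  intro gb hgb
  have hord : orderOf gb ≠ 1 := fun h => hgb (orderOf_eq_one_iff.mp h)
  obtain ⟨q, hq, hqd⟩ := Nat.exists_prime_and_dvd hord
  have : Fact q.Prime := ⟨hq⟩
  obtain ⟨xb, hxb⟩ : ∃ xb, xb = gb ^ (orderOf gb / q) := ⟨_, rfl⟩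
  have hxbq : orderOf xb = q := by
    rw [hxb]
    exact orderOf_pow_orderOf_div (orderOf_pos gb).ne' hqd
  have hle : Subgroup.centralizer ({gb} : Set (G ⧸ D)) ≤
      Subgroup.centralizer ({xb} : Set (G ⧸ D)) := by
    intro y hy
    rw [Subgroup.mem_centralizer_iff] at hy ⊢
    intro z hz
    rw [Set.mem_singleton_iff] at hz
    subst hz
    have h1 : Commute gb y := hy gb rfl
    rw [hxb]
    exact (h1.pow_left _).eq
  apply nilpotent_of_le hle
  by_cases hqp : q = p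
  · subst hqp
    exact caseB hCN D q hDp hDab hD1 xb hxbq
  · exact caseA hCN D p hDp hDab q hqp xb hxbq

end Cfsg.Agent.helper8.CN
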