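import Mathlib
import Cfsg.Prelude.Def_Transfer
import Cfsg.Agent.Lib_helper10_NPC
import Cfsg.Agent.Lib_helper8_Friend
import Cfsg.Agent.Lib_helper8_CS1
import Cfsg.Agent.Lib_helper8_CS2
import Cfsg.Agent.Lib_helper8_CS3
import Cfsg.Agent.Lib_helper8_CS4
import Cfsg.Agent.Lib_helper8_CS5
import Cfsg.Agent.Lib_helper8_CS6
import Cfsg.Agent.Lib_helper8_CS7
import Cfsg.Agent.Lib_helper8_CS8
import Cfsg.Agent.Lib_helper8_CS9
import Cfsg.Agent.Lib_helper8_CS10
import Cfsg.Agent.Lib_helper8_CS11
import Cfsg.Agent.Lib_helper8_CS12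

set_option autoImplicit false

/-!
# Cyclic Sylow subgroup and abelian `p'`-subgroups: the dichotomy
-/

universe u

namespace Cfsg.Agent.helper8cs

open Subgroup

theorem main_aux (p : ℕ) [hp : Fact p.Prime] (n : ℕ) :
    ∀ (G : Type u) [Group G] [Finite G], Nat.card G = n → AbP' p G → Concl p G := by
  induction n using Nat.strong_induction_on with
  | _ n ih =>
    intro G _ _ hn hab P hcyc
    have IH : IHyp p G := by
      intro K _ _ hlt habK
      exact ih (Nat.card K) (by rw [← hn]; exact hlt) K rfl habK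
    by_contra hcon
    obtain ⟨hno, hPn⟩ := not_or.mp hcon
    have hNoP' : ∀ N : Subgroup G, N.Normal → ¬ p ∣ Nat.card N → N = ⊥ := by
      intro N hNn hNp
      by_contra hN1
      haveI := hNn
      exact hPn (normal_of_normal_p' IH hab P hcyc hno N hN1 hNp)
    have hNoP : ∀ R : Subgroup G, R.Normal → IsPGroup p R → R = ⊥ := by
      intro R hRn hRp
      by_contra hR1
      haveI := hRn
      exact hPn (normal_of_normal_p P hcyc hNoP' R hR1 hRp)
    have hsimple : ∀ M : Subgroup G, M.Normal → M = ⊥ ∨ M = ⊤ := by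
      intro M hMn
      by_cases hM : M = ⊤
      · exact Or.inr hM
      · haveI := hMn
        exact Or.inl (normal_trivial IH hab P hcyc hNoP' hNoP M hM)
    obtain ⟨x, hxn, hxc, hxnc⟩ := exists_coprime_normalizer P hcyc hno
    let S : SimpleCtx p G :=
      { IH := IH, hab := hab, P := P, hcyc := hcyc, hsimple := hsimple, hPn := hPn, x := x,
        hxn := hxn, hxc := hxc, hxnc := hxnc }
    by_cases hI : Subgroup.centralizer ((P : Subgroup G) : Set G) ≤ (P : Subgroup G)
    · exact S.caseI_false hI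
    · obtain ⟨c₀, hc₀, hc₀P⟩ := SetLike.not_le_iff_exists.mp hI
      obtain ⟨K, hKN, hKp, hdec⟩ := exists_complement_in_normalizer P
      let T : Ctx2 p G :=
        { toSimpleCtx := S, K := K, hKN := hKN, hKp := hKp, hdec := hdec, c₀ := c₀, hc₀ := hc₀,
          hc₀P := hc₀P }
      obtain ⟨U⟩ := T.nonempty_ctx3
      exact U.false_of_ctx3

end Cfsg.Agent.helper8cs
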