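import Mathlib
import Cfsg.Agent.Lib_helper8_Cover
import Cfsg.Agent.Lib_helper23_ClassSum
import Cfsg.Agent.Lib_helper24_CharCount

/-!
Characters of a group generated by two commuting subgroups (helper8): restriction to each factor
is homogeneous, the product formula, and transfer of central characters.
-/

set_option autoImplicit false

namespace Cfsg.Agent.helper8.CentProd

open Cfsg Cfsg.Agent.helper24 Cfsg.Agent.helper8 Cfsg.Agent.helper5
open scoped ComplexConjugate

universe u

section OneSided
variable {G : Type u} [Group G] [Fintype G] (N : Subgroup G) [hN : N.Normal] [Fintype N]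

/-- `G` acts on `N` through inner automorphisms of `N` -/
def InnerAct : Prop := ∀ g : G, ∃ m : N, ∀ n : N, g * (n : G) * g⁻¹ = (m : G) * n * (m : G)⁻¹

theorem conjFunN_eq (hact : InnerAct N) {θ : N → ℂ} (hθ : IsClassFunction N θ) (g : G) :
    conjFunN N g θ = θ := by
  funext n
  rw [conjFunN_apply]
  obtain ⟨m, hm⟩ := hact g
  have : (⟨g * n * g⁻¹, hN.conj_mem n n.2 g⟩ : N) = m * n * m⁻¹ := by
    apply Subtype.ext
    simp [hm n]
  rw [this]
  exact hθ n m

/-- the restriction of an irreducible character to `N` is a multiple of one irreducible -/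
theorem homog (hact : InnerAct N) {χ : G → ℂ} (hχ : IsIrrCharacter G χ) :
    ∃ θ : IrrCharacter N, classInner (res N χ) (θ : N → ℂ) ≠ 0 ∧
      ∀ n : N, χ n = classInner (res N χ) (θ : N → ℂ) * (θ : N → ℂ) n := by
  classical
  haveI : Fintype (IrrCharacter N) := Fintype.ofFinite _
  obtain ⟨θ, hθ⟩ := Cover.exists_under N hχ
  refine ⟨θ, hθ, fun n => ?_⟩
  have hχcl : IsClassFunction G χ := char_isClassFunction (irr_isCharacter hχ)
  have hexp := classFunction_expansion (Cover.res_isClassFunction N hχcl)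
  have h1 := congrFun hexp n
  rw [res_apply, Finset.sum_apply] at h1
  rw [h1, Finset.sum_eq_single θ]
  · rfl
  · intro φ _ hφ
    by_cases h0 : classInner (res N χ) (φ : N → ℂ) = 0
    · rw [h0, zero_smul]; rfl
    · exfalso
      obtain ⟨g, hg⟩ := clifford_conj N hχ θ.2 φ.2 hθ h0
      rw [conjFunN_eq N hact (char_isClassFunction (irr_isCharacter θ.2))] at hg
      exact hφ (Subtype.ext hg)
  · intro h; exact absurd (Finset.mem_univ θ) h

/-- central characters of `G` at elements of `N` are central characters of `N` -/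
theorem centralChar_res (hact : InnerAct N) (χ : IrrCharacter G) (θ : IrrCharacter N)
    (hunder : classInner (res N (χ : G → ℂ)) (θ : N → ℂ) ≠ 0) (n : N) :
    centralChar (χ : G → ℂ) (n : G) = centralChar (θ : N → ℂ) n := by
  classical
  rw [← omegaFn_classInd (irr_isCharacter χ.2), ← omegaFn_classInd (irr_isCharacter θ.2)]
  rw [Cover.omegaFn_of_under N (classInd_isClassFunction (n : G)) ?_ χ.2 θ.2 hunder]
  · congr 1
    funext m
    rw [res_apply]
    unfold classInd
    have : IsConj (n : G) (m : G) ↔ IsConj n m := by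
      constructor
      · intro h
        obtain ⟨g, hg⟩ := isConj_iff.mp h
        obtain ⟨k, hk⟩ := hact g
        apply isConj_iff.mpr
        refine ⟨k, Subtype.ext ?_⟩
        simp only [Subgroup.coe_mul, Subgroup.coe_inv]
        rw [← hk n, hg]
      · intro h
        obtain ⟨k, hk⟩ := isConj_iff.mp h
        apply isConj_iff.mpr
        refine ⟨k, ?_⟩
        rw [← hk]
        simp
    by_cases hc : IsConj n m
    · rw [if_pos (this.mpr hc), if_pos hc]
    · rw [if_neg (fun h => hc (this.mp h)), if_neg hc]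
  · intro g hg
    unfold classInd
    rw [if_neg]
    intro h
    obtain ⟨k, hk⟩ := isConj_iff.mp h
    apply hg
    rw [← hk]
    exact hN.conj_mem n n.2 k

end OneSided

section TwoSided
variable {G : Type u} [Group G] [Fintype G] (H K : Subgroup G)

/-- `H` and `K` commute elementwise and every element is a product -/
structure CommGen : Prop where
  comm : ∀ h ∈ H, ∀ k ∈ K, h * k = k * h
  gen : ∀ g : G, ∃ h ∈ H, ∃ k ∈ K, g = h * k

variable {H K}

omit [Fintype G] in
theorem CommGen.symm (hc : CommGen H K) : CommGen K H := by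
  refine ⟨fun k hk h hh => (hc.comm h hh k hk).symm, fun g => ?_⟩
  obtain ⟨h, hh, k, hk, rfl⟩ := hc.gen g
  exact ⟨k, hk, h, hh, hc.comm h hh k hk⟩

omit [Fintype G] in
theorem CommGen.conj_eq (hc : CommGen H K) {a b : G} (ha : a ∈ H) (hb : b ∈ K) {n : G}
    (hn : n ∈ K) : a * b * n * (a * b)⁻¹ = b * n * b⁻¹ := by
  have hbk : b * n * b⁻¹ ∈ K := K.mul_mem (K.mul_mem hb hn) (K.inv_mem hb)
  have := hc.comm a ha (b * n * b⁻¹) hbk
  calc a * b * n * (a * b)⁻¹ = a * (b * n * b⁻¹) * a⁻¹ := by group
    _ = (b * n * b⁻¹) * a * a⁻¹ := by rw [this]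
    _ = b * n * b⁻¹ := by group

omit [Fintype G] in
theorem CommGen.normal_right (hc : CommGen H K) : K.Normal := by
  constructor
  intro n hn g
  obtain ⟨a, ha, b, hb, rfl⟩ := hc.gen g
  rw [hc.conj_eq ha hb hn]
  exact K.mul_mem (K.mul_mem hb hn) (K.inv_mem hb)

omit [Fintype G] in
theorem CommGen.normal_left (hc : CommGen H K) : H.Normal := hc.symm.normal_right

omit [Fintype G] in
theorem CommGen.innerAct_right (hc : CommGen H K) [K.Normal] : InnerAct K := by
  intro g
  obtain ⟨a, ha, b, hb, rfl⟩ := hc.gen g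
  exact ⟨⟨b, hb⟩, fun n => hc.conj_eq ha hb n.2⟩

omit [Fintype G] in
theorem CommGen.innerAct_left (hc : CommGen H K) [H.Normal] : InnerAct H :=
  hc.symm.innerAct_right

/-- the product formula -/
theorem CommGen.prod_formula (hc : CommGen H K) (χ : IrrCharacter G) {h k : G} (hh : h ∈ H)
    (hk : k ∈ K) :
    (χ : G → ℂ) (k * h) * (χ : G → ℂ) 1 = (χ : G → ℂ) k * (χ : G → ℂ) h := by
  have hterm : ∀ g : G, (χ : G → ℂ) (g * k * g⁻¹ * h) = (χ : G → ℂ) (k * h) := by
    intro g
    obtain ⟨a, ha, b, hb, rfl⟩ := hc.gen g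
    have e2 : b * k * b⁻¹ * h = b * (k * h) * b⁻¹ := by
      have := hc.comm h hh b⁻¹ (K.inv_mem hb)
      calc b * k * b⁻¹ * h = b * k * (b⁻¹ * h) := by group
        _ = b * k * (h * b⁻¹) := by rw [this]
        _ = b * (k * h) * b⁻¹ := by group
    rw [hc.conj_eq ha hb hk, e2]
    exact char_isClassFunction (irr_isCharacter χ.2) _ _
  have h1 := helper23.irr_sum_conj_mul χ k h
  rw [Finset.sum_congr rfl (fun g _ => hterm g), Finset.sum_const, Finset.card_univ,
    nsmul_eq_mul, Fintype.card_eq_nat_card] at h1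
  have hG : (Nat.card G : ℂ) ≠ 0 := by exact_mod_cast Nat.card_pos.ne'
  have hχ1 : (χ : G → ℂ) 1 ≠ 0 := irr_apply_one_ne_zero χ.2
  field_simp at h1
  linear_combination h1

end TwoSided

end Cfsg.Agent.helper8.CentProd
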