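import Mathlib
import Cfsg.Agent.Lib_helper8_Coh

set_option autoImplicit false

/-!
Coherence toolbox, part two (shared library, helper8): linear isometries on integer spans,
Bessel identity for an orthogonal family, a Gram expansion.
-/

namespace Cfsg.Agent.helper8.Coh

open Cfsg Cfsg.Agent.helper24 Cfsg.Agent.helper12 Cfsg.Agent.helper8
open scoped ComplexConjugate

universe u v
variable {L : Type u} [Group L] [Fintype L] {G : Type v} [Group G] [Fintype G]

theorem perp_comb (R' : Finset (G → ℂ)) (c : (G → ℂ) → ℂ) (α : G → ℂ)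
    (h : ∀ β ∈ R', classInner β α = 0) : classInner (∑ β ∈ R', c β • β) α = 0 := by
  rw [classInner_comb_left]
  apply Finset.sum_eq_zero
  intro β hβ
  rw [h β hβ, mul_zero]

theorem iso_zero {T : Set (L → ℂ)} {τ₁ : (L → ℂ) → (G → ℂ)}
    (h : IsLinearIsometryOn (zspan T) τ₁) : τ₁ 0 = 0 := by
  obtain ⟨-, hsmul, -, -⟩ := h
  have := hsmul 0 (Submodule.zero_mem (Submodule.span ℤ T)) 0
  simpa using this

theorem iso_sub {T : Set (L → ℂ)} {τ₁ : (L → ℂ) → (G → ℂ)}
    (h : IsLinearIsometryOn (zspan T) τ₁) {a b : L → ℂ} (ha : a ∈ Submodule.span ℤ T)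
    (hb : b ∈ Submodule.span ℤ T) : τ₁ (a - b) = τ₁ a - τ₁ b := by
  obtain ⟨hadd, hsmul, -, -⟩ := h
  have e : a - b = a + (-1 : ℤ) • b := by rw [neg_smul, one_smul, sub_eq_add_neg]
  rw [e, hadd a ha _ (Submodule.smul_mem _ _ hb), hsmul b hb, neg_smul, one_smul, sub_eq_add_neg]

theorem bessel_orth {ι : Type*} (s : Finset ι) (v : ι → G → ℂ) (N : ι → ℝ)
    (hN : ∀ i ∈ s, N i ≠ 0) (hvv : ∀ i ∈ s, classInner (v i) (v i) = (N i : ℂ))
    (hv0 : ∀ i ∈ s, ∀ j ∈ s, i ≠ j → classInner (v i) (v j) = 0)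
    (γ : G → ℂ) (w : ι → ℝ) (hw : ∀ i ∈ s, classInner γ (v i) = (w i : ℂ)) :
    classInner (γ - ∑ i ∈ s, ((w i / N i : ℝ) : ℂ) • v i)
        (γ - ∑ i ∈ s, ((w i / N i : ℝ) : ℂ) • v i)
      = classInner γ γ - ((∑ i ∈ s, w i ^ 2 / N i : ℝ) : ℂ) := by
  have e1 : classInner γ (∑ i ∈ s, ((w i / N i : ℝ) : ℂ) • v i)
      = ((∑ i ∈ s, w i ^ 2 / N i : ℝ) : ℂ) := by
    rw [classInner_sum_right, Complex.ofReal_sum]
    apply Finset.sum_congr rfl
    intro i hi
    rw [classInner_smul_right, hw i hi, Complex.conj_ofReal]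
    push_cast
    ring
  have e2 : classInner (∑ i ∈ s, ((w i / N i : ℝ) : ℂ) • v i) γ
      = ((∑ i ∈ s, w i ^ 2 / N i : ℝ) : ℂ) := by
    rw [← classInner_conj_symm, e1, Complex.conj_ofReal]
  have e3 : classInner (∑ i ∈ s, ((w i / N i : ℝ) : ℂ) • v i)
      (∑ i ∈ s, ((w i / N i : ℝ) : ℂ) • v i) = ((∑ i ∈ s, w i ^ 2 / N i : ℝ) : ℂ) := by
    rw [classInner_sum_left, Complex.ofReal_sum]
    apply Finset.sum_congr rfl
    intro i hi
    rw [classInner_smul_left, classInner_sum_right, Finset.sum_eq_single i]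
    · rw [classInner_smul_right, hvv i hi, Complex.conj_ofReal]
      have hNi : (N i : ℂ) ≠ 0 := by exact_mod_cast hN i hi
      push_cast
      field_simp
    · intro j hj hne
      rw [classInner_smul_right, hv0 i hi j hj (Ne.symm hne), mul_zero]
    · intro h
      exact absurd hi h
  rw [classInner_sub_left, classInner_sub_right, classInner_sub_right, e1, e2, e3]
  ring

theorem gram3 {H : Type*} [Group H] [Fintype H] (N : ℂ) (u₁ u₂ f g : H → ℂ) (a b a' b' : ℤ)
    (h11 : classInner u₁ u₁ = N) (h22 : classInner u₂ u₂ = N) (h12 : classInner u₁ u₂ = 0)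
    (h21 : classInner u₂ u₁ = 0) (h1g : classInner u₁ g = 0) (h2g : classInner u₂ g = 0)
    (hf1 : classInner f u₁ = 0) (hf2 : classInner f u₂ = 0) :
    classInner (a • u₁ + b • u₂ + f) (a' • u₁ + b' • u₂ + g)
      = (a : ℂ) * a' * N + (b : ℂ) * b' * N + classInner f g := by
  simp only [classInner_add_left, classInner_add_right, classInner_zsmul_left,
    classInner_zsmul_right, h11, h22, h12, h21, h1g, h2g, hf1, hf2]
  ring


end Cfsg.Agent.helper8.Coh
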