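import Cfsg.Statements.S1498

set_option autoImplicit false
open Cfsg

namespace Cfsg.Agent.S1498

theorem mem_of_normal_sup_coprime {T : Type*} [Group T] (N K : Subgroup T) [N.Normal]
    (hsup : N ⊔ K = ⊤) (m : T) (hcop : (Nat.card K).Coprime (orderOf m)) : m ∈ N := by
  have h1 : N.index ∣ Nat.card K := by
    have h := Subgroup.relIndex_sup_left (K := N) K
    rw [hsup, Subgroup.relIndex_top_right] at h
    rw [h]; exact Subgroup.relIndex_dvd_card _ _
  have hc : (N.index).Coprime (orderOf m) := Nat.Coprime.coprime_dvd_left h1 hcop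
  obtain ⟨j, hj⟩ := exists_pow_eq_self_of_coprime hc
  rw [← hj]; exact N.pow_mem (N.pow_index_mem m) j

theorem conj_le {G : Type*} [Group G] [Finite G] (A : Set G) (L : Subgroup G) (H : G → Subgroup G)
    (hD : Cfsg.DadeHypothesis A L H) (a : G) (ha : a ∈ A) (x : G) (hx : x ∈ L) :
    (H a).map (MulAut.conj x).toMonoidHom ≤ H (x * a * x⁻¹) := by
  set a' := x * a * x⁻¹ with ha'def
  have ha' : a' ∈ A := hD.conj_mem x hx a ha
  set T : Subgroup G := Subgroup.centralizer ({a'} : Set G) with hT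
  have hNT : H a' ≤ T := hD.le_centralizer a' ha'
  have hKT : L ⊓ T ≤ T := inf_le_right
  haveI hN : ((H a').subgroupOf T).Normal := by
    constructor
    intro n hn g
    rw [Subgroup.mem_subgroupOf] at hn ⊢
    have := hD.conj_mem_H a' ha' g g.2 n hn
    simpa using this
  have hsup : (H a').subgroupOf T ⊔ (L ⊓ T).subgroupOf T = ⊤ := by
    rw [← Subgroup.subgroupOf_sup hNT hKT, hD.sup_eq a' ha']
    exact Subgroup.subgroupOf_self _
  have hcardK : Nat.card ((L ⊓ T).subgroupOf T) = Nat.card ↥(L ⊓ T) :=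
    Nat.card_congr (Subgroup.subgroupOfEquivOfLe hKT).toEquiv
  rintro m hm
  rw [Subgroup.mem_map] at hm
  obtain ⟨u, hu, rfl⟩ := hm
  have huC : u ∈ Subgroup.centralizer ({a} : Set G) := hD.le_centralizer a ha hu
  have hmT : (MulAut.conj x).toMonoidHom u ∈ T := by
    rw [hT, Subgroup.mem_centralizer_singleton_iff]
    have h1 : u * a = a * u := Subgroup.mem_centralizer_singleton_iff.mp huC
    simp only [MulEquiv.toMonoidHom_eq_coe, MonoidHom.coe_coe, MulAut.conj_apply, ha'def]
    calc x * u * x⁻¹ * (x * a * x⁻¹) = x * (u * a) * x⁻¹ := by group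
      _ = x * (a * u) * x⁻¹ := by rw [h1]
      _ = x * a * x⁻¹ * (x * u * x⁻¹) := by group
  have hord : orderOf (⟨(MulAut.conj x).toMonoidHom u, hmT⟩ : T) = orderOf u := by
    rw [← Subgroup.orderOf_coe]
    simp only [MulEquiv.toMonoidHom_eq_coe, MonoidHom.coe_coe]
    exact (MulAut.conj x).orderOf_eq u
  have hcop : (Nat.card ((L ⊓ T).subgroupOf T)).Coprime
      (orderOf (⟨(MulAut.conj x).toMonoidHom u, hmT⟩ : T)) := by
    rw [hord, hcardK]
    have h1 := hD.coprime a ha a' ha'
    exact (Nat.Coprime.coprime_dvd_left ((H a).orderOf_dvd_natCard hu) h1).symm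
  have := mem_of_normal_sup_coprime _ _ hsup _ hcop
  rwa [Subgroup.mem_subgroupOf] at this

/-- Under the Dade hypothesis for (A, L, H): for a ∈ A and x ∈ L, the subgroup attached to x * a * x⁻¹ is the conjugate of H a by x. -/
theorem result {G : Type*} [Group G] [Finite G] (A : Set G) (L : Subgroup G) (H : G → Subgroup G) (hD : Cfsg.DadeHypothesis A L H) (a : G) (ha : a ∈ A) (x : G) (hx : x ∈ L) : H (x * a * x⁻¹) = (H a).map (MulAut.conj x).toMonoidHom := by
  apply le_antisymm
  · have ha' : x * a * x⁻¹ ∈ A := hD.conj_mem x hx a ha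
    have h := conj_le A L H hD (x * a * x⁻¹) ha' x⁻¹ (L.inv_mem hx)
    have e : x⁻¹ * (x * a * x⁻¹) * x⁻¹⁻¹ = a := by group
    rw [e] at h
    intro m hm
    rw [Subgroup.mem_map]
    refine ⟨x⁻¹ * m * x, ?_, ?_⟩
    · apply h
      rw [Subgroup.mem_map]
      exact ⟨m, hm, by simp [MulAut.conj_apply]⟩
    · simp [MulAut.conj_apply, mul_assoc]
  · exact conj_le A L H hD a ha x hx

end Cfsg.Agent.S1498
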