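import Cfsg.Statements.S1499

set_option autoImplicit false
open Cfsg

namespace Cfsg.Agent.S1499

variable {G : Type*} [Group G]

theorem pow_card_sub (K : Subgroup G) {x : G} (hx : x ∈ K) : x ^ Nat.card K = 1 := by
  have h : (⟨x, hx⟩ : K) ^ Nat.card K = 1 := pow_card_eq_one'
  have h2 : ((⟨x, hx⟩ : K) ^ Nat.card K : K).1 = ((1 : K) : G) := by rw [h]
  rwa [Subgroup.coe_pow, Subgroup.coe_one] at h2

/-- the `n`-part of a product of commuting elements of coprime exponents is determined. -/
theorem part_eq (s t : G) (n m : ℕ) (hnm : n.Coprime m) (hst : Commute s t)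
    (hs : s ^ n = 1) (ht : t ^ m = 1) :
    (s * t) ^ ((m : ℤ) * Nat.gcdB n m) = s := by
  have hb : ((Nat.gcd n m : ℕ) : ℤ) = n * Nat.gcdA n m + m * Nat.gcdB n m := Nat.gcd_eq_gcd_ab n m
  rw [Nat.Coprime.gcd_eq_one hnm] at hb
  rw [hst.mul_zpow]
  have h1 : t ^ ((m : ℤ) * Nat.gcdB n m) = 1 := by
    rw [zpow_mul, zpow_natCast, ht, one_zpow]
  have h2 : s ^ ((m : ℤ) * Nat.gcdB n m) = s := by
    have : (m : ℤ) * Nat.gcdB n m = 1 - n * Nat.gcdA n m := by
      have : ((1 : ℕ) : ℤ) = 1 := rfl
      linarith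
    rw [this, zpow_sub, zpow_one, zpow_mul, zpow_natCast, hs, one_zpow, inv_one, mul_one]
  rw [h1, h2, mul_one]

theorem uniq_decomp (s t s' t' : G) (n m : ℕ) (hnm : n.Coprime m) (hst : Commute s t)
    (hst' : Commute s' t') (hs : s ^ n = 1) (ht : t ^ m = 1) (hs' : s' ^ n = 1) (ht' : t' ^ m = 1)
    (h : s * t = s' * t') : s = s' := by
  rw [← part_eq s t n m hnm hst hs ht, ← part_eq s' t' n m hnm hst' hs' ht', h]

/-- Under the Dade hypothesis for (A, L, H), let a, b ∈ A. If an element of the coset a·H(a) is conjugate in G to an element of b·H(b), then a and b are conjugate by an element of L. Moreover the set normaliser of the coset a·H(a) is the centraliser of a. -/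
theorem result {G : Type*} [Group G] [Finite G] (A : Set G) (L : Subgroup G) (H : G → Subgroup G) (hD : Cfsg.DadeHypothesis A L H) (a b : G) (ha : a ∈ A) (hb : b ∈ A) : ((∃ u ∈ H a, ∃ v ∈ H b, ∃ g : G, g * (a * u) * g⁻¹ = b * v) → ∃ x ∈ L, x * a * x⁻¹ = b) ∧ Subgroup.normalizer ((fun u : G => a * u) '' (H a : Set G)) = Subgroup.centralizer ({a} : Set G) := by
  -- facts on orders
  have hmemCL : ∀ c ∈ A, c ∈ L ⊓ Subgroup.centralizer ({c} : Set G) := by
    intro c hc
    exact ⟨hD.subset hc, Subgroup.mem_centralizer_singleton_iff.mpr rfl⟩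
  have hcomm : ∀ c ∈ A, ∀ u ∈ H c, Commute c u := by
    intro c hc u hu
    have := Subgroup.mem_centralizer_singleton_iff.mp (hD.le_centralizer c hc hu)
    exact this.symm
  constructor
  · rintro ⟨u, hu, v, hv, g, hg⟩
    set n := Nat.card ↥(L ⊓ Subgroup.centralizer ({a} : Set G)) *
      Nat.card ↥(L ⊓ Subgroup.centralizer ({b} : Set G)) with hn
    set m := Nat.card (H a) * Nat.card (H b) with hm
    have hnm : n.Coprime m := by
      rw [hn, hm]
      apply Nat.Coprime.mul_left <;> apply Nat.Coprime.mul_right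
      · exact (hD.coprime a ha a ha).symm
      · exact (hD.coprime b hb a ha).symm
      · exact (hD.coprime a ha b hb).symm
      · exact (hD.coprime b hb b hb).symm
    have han : a ^ n = 1 := by rw [hn, pow_mul, pow_card_sub _ (hmemCL a ha), one_pow]
    have hbn : b ^ n = 1 := by rw [hn, mul_comm, pow_mul, pow_card_sub _ (hmemCL b hb), one_pow]
    have hum : u ^ m = 1 := by rw [hm, pow_mul, pow_card_sub _ hu, one_pow]
    have hvm : v ^ m = 1 := by rw [hm, mul_comm, pow_mul, pow_card_sub _ hv, one_pow]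
    have e : (g * a * g⁻¹) * (g * u * g⁻¹) = b * v := by rw [← hg]; group
    have hc1 : Commute (g * a * g⁻¹) (g * u * g⁻¹) := by
      have := hcomm a ha u hu
      show g * a * g⁻¹ * (g * u * g⁻¹) = g * u * g⁻¹ * (g * a * g⁻¹)
      calc g * a * g⁻¹ * (g * u * g⁻¹) = g * (a * u) * g⁻¹ := by group
        _ = g * (u * a) * g⁻¹ := by rw [this.eq]
        _ = g * u * g⁻¹ * (g * a * g⁻¹) := by group
    have hp1 : (g * a * g⁻¹) ^ n = 1 := by rw [conj_pow, han]; group
    have hp2 : (g * u * g⁻¹) ^ m = 1 := by rw [conj_pow, hum]; group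
    have hgab : g * a * g⁻¹ = b :=
      uniq_decomp _ _ _ _ n m hnm hc1 (hcomm b hb v hv) hp1 hp2 hbn hvm e
    obtain ⟨x, hx, hxe⟩ := hD.fusion a ha g (hgab ▸ hb)
    exact ⟨x, hx, hxe.trans hgab⟩
  · apply le_antisymm
    · intro g hg
      rw [Subgroup.mem_set_normalizer_iff] at hg
      have h1 : a ∈ (fun u : G => a * u) '' (H a : Set G) := ⟨1, (H a).one_mem, mul_one a⟩
      obtain ⟨u, hu, hue⟩ := (hg a).mp h1
      simp only at hue
      set n := Nat.card ↥(L ⊓ Subgroup.centralizer ({a} : Set G)) with hn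
      set m := Nat.card (H a) with hm
      have hnm : n.Coprime m := (hD.coprime a ha a ha).symm
      have han : a ^ n = 1 := pow_card_sub _ (hmemCL a ha)
      have hum : u ^ m = 1 := pow_card_sub _ hu
      have hp1 : (g * a * g⁻¹) ^ n = 1 := by rw [conj_pow, han]; group
      have e : a * u = (g * a * g⁻¹) * 1 := by rw [hue, mul_one]
      have := uniq_decomp a u (g * a * g⁻¹) 1 n m hnm (hcomm a ha u hu) (Commute.one_right _)
        han hum hp1 (one_pow m) e
      rw [Subgroup.mem_centralizer_singleton_iff]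
      calc g * a = (g * a * g⁻¹) * g := by group
        _ = a * g := by rw [← this]
    · intro c hc
      rw [Subgroup.mem_set_normalizer_iff]
      have hca : c * a = a * c := Subgroup.mem_centralizer_singleton_iff.mp hc
      have hca' : c⁻¹ * a = a * c⁻¹ :=
        Subgroup.mem_centralizer_singleton_iff.mp ((Subgroup.centralizer _).inv_mem hc)
      intro y
      constructor
      · rintro ⟨u, hu, rfl⟩
        refine ⟨c * u * c⁻¹, hD.conj_mem_H a ha c hc u hu, ?_⟩
        simp only
        calc a * (c * u * c⁻¹) = (a * c) * u * c⁻¹ := by group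
          _ = c * (a * u) * c⁻¹ := by rw [← hca]; group
      · rintro ⟨u, hu, hue⟩
        simp only at hue
        refine ⟨c⁻¹ * u * c, ?_, ?_⟩
        · have := hD.conj_mem_H a ha c⁻¹ ((Subgroup.centralizer _).inv_mem hc) u hu
          simpa using this
        · simp only
          calc a * (c⁻¹ * u * c) = (a * c⁻¹) * u * c := by group
            _ = c⁻¹ * (a * u) * c := by rw [← hca']; group
            _ = c⁻¹ * (c * y * c⁻¹) * c := by rw [hue]
            _ = y := by group

end Cfsg.Agent.S1499
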