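import Mathlib
import Cfsg.Prelude.Def_OddOrderChar
import Cfsg.Agent.S1498
import Cfsg.Agent.S1499

set_option autoImplicit false

/-!
The Dade map `Cfsg.dadeIsometry` (shared library, helper8): values, class-function property and
the master counting identity.
-/

namespace Cfsg.Agent.helper8

open scoped ComplexConjugate Pointwise
open Classical

variable {G : Type*} [Group G]

/-- If `z` conjugates an element of the coset `a H(a)` into that coset then `z` centralises `a`. -/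
theorem dade_stab [Finite G] (A : Set G) (L : Subgroup G) (H : G → Subgroup G)
    (hD : DadeHypothesis A L H) {a : G} (ha : a ∈ A) {u : G} (hu : u ∈ H a) {z : G} {u' : G}
    (hu' : u' ∈ H a) (h : z * (a * u) * z⁻¹ = a * u') :
    z ∈ Subgroup.centralizer ({a} : Set G) := by
  have hmemCL : a ∈ L ⊓ Subgroup.centralizer ({a} : Set G) :=
    ⟨hD.subset ha, Subgroup.mem_centralizer_singleton_iff.mpr rfl⟩
  have hcomm : ∀ v ∈ H a, Commute a v := fun v hv =>
    (Subgroup.mem_centralizer_singleton_iff.mp (hD.le_centralizer a ha hv)).symm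
  have hnm : (Nat.card ↥(L ⊓ Subgroup.centralizer ({a} : Set G))).Coprime (Nat.card (H a)) :=
    (hD.coprime a ha a ha).symm
  have han := Cfsg.Agent.S1499.pow_card_sub _ hmemCL
  have hum := Cfsg.Agent.S1499.pow_card_sub _ hu
  have hum' := Cfsg.Agent.S1499.pow_card_sub _ hu'
  have e : (z * a * z⁻¹) * (z * u * z⁻¹) = a * u' := by rw [← h]; group
  have hc1 : Commute (z * a * z⁻¹) (z * u * z⁻¹) := by
    have h1 := hcomm u hu
    show z * a * z⁻¹ * (z * u * z⁻¹) = z * u * z⁻¹ * (z * a * z⁻¹)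
    calc z * a * z⁻¹ * (z * u * z⁻¹) = z * (a * u) * z⁻¹ := by group
      _ = z * (u * a) * z⁻¹ := by rw [h1.eq]
      _ = z * u * z⁻¹ * (z * a * z⁻¹) := by group
  have hp1 : (z * a * z⁻¹) ^ Nat.card ↥(L ⊓ Subgroup.centralizer ({a} : Set G)) = 1 := by
    rw [conj_pow, han]; group
  have hp2 : (z * u * z⁻¹) ^ Nat.card (H a) = 1 := by rw [conj_pow, hum]; group
  have h3 := Cfsg.Agent.S1499.uniq_decomp _ _ _ _ _ _ hnm hc1 (hcomm u' hu') hp1 hp2 han hum' e
  rw [Subgroup.mem_centralizer_singleton_iff]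
  calc z * a = (z * a * z⁻¹) * z := by group
    _ = a * z := by rw [h3]

/-- Value of the Dade map on an element conjugate into a coset `a H(a)`. -/
theorem dade_apply [Finite G] (A : Set G) (L : Subgroup G) (H : G → Subgroup G)
    (hD : DadeHypothesis A L H) (α : L → ℂ) (hα : IsClassFunction L α) (g : G) (a : L)
    (ha : (a : G) ∈ A) (x u : G) (hu : u ∈ H a) (hx : x * g * x⁻¹ = a * u) :
    dadeIsometry A L H α g = α a := by
  have hex : ∃ a : ↥L, (a : G) ∈ A ∧ ∃ x : G, ∃ u ∈ H (a : G), x * g * x⁻¹ = (a : G) * u :=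
    ⟨a, ha, x, u, hu, hx⟩
  simp only [dadeIsometry, dif_pos hex]
  obtain ⟨ha', x', u', hu', hx'⟩ := Classical.choose_spec hex
  have hconj : (x * x'⁻¹) * (((Classical.choose hex : ↥L) : G) * u') * (x * x'⁻¹)⁻¹ = (a : G) * u := by
    rw [← hx', ← hx]; group
  obtain ⟨l, hl, hle⟩ := (Cfsg.Agent.S1499.result A L H hD ((Classical.choose hex : ↥L) : G) (a : G)
    ha' ha).1 ⟨u', hu', u, hu, x * x'⁻¹, hconj⟩
  have e : a = ⟨l, hl⟩ * Classical.choose hex * ⟨l, hl⟩⁻¹ := by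
    apply Subtype.ext
    simp [hle]
  rw [e, hα (Classical.choose hex) ⟨l, hl⟩]

/-- The Dade map vanishes on elements not conjugate into any coset `a H(a)`. -/
theorem dade_not (A : Set G) (L : Subgroup G) (H : G → Subgroup G) (α : L → ℂ) (g : G)
    (h : ¬ ∃ a : ↥L, (a : G) ∈ A ∧ ∃ x : G, ∃ u ∈ H (a : G), x * g * x⁻¹ = (a : G) * u) :
    dadeIsometry A L H α g = 0 := by
  simp only [dadeIsometry, dif_neg h]

/-- The Dade image of a class function is a class function. -/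
theorem dade_isClassFunction [Finite G] (A : Set G) (L : Subgroup G) (H : G → Subgroup G)
    (hD : DadeHypothesis A L H) (α : L → ℂ) (hα : IsClassFunction L α) :
    IsClassFunction G (dadeIsometry A L H α) := by
  intro g k
  by_cases h : ∃ a : ↥L, (a : G) ∈ A ∧ ∃ x : G, ∃ u ∈ H (a : G), x * g * x⁻¹ = (a : G) * u
  · obtain ⟨a, ha, x, u, hu, hx⟩ := h
    rw [dade_apply A L H hD α hα g a ha x u hu hx]
    apply dade_apply A L H hD α hα (k * g * k⁻¹) a ha (x * k⁻¹) u hu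
    rw [← hx]; group
  · rw [dade_not A L H α g h]
    apply dade_not
    rintro ⟨a, ha, x, u, hu, hx⟩
    apply h
    refine ⟨a, ha, x * k, u, hu, ?_⟩
    rw [← hx]; group

theorem card_H_conj [Finite G] (A : Set G) (L : Subgroup G) (H : G → Subgroup G)
    (hD : DadeHypothesis A L H) (a : L) (ha : (a : G) ∈ A) (l : L) :
    Nat.card (H ((l * a * l⁻¹ : L) : G)) = Nat.card (H (a : G)) := by
  have e : ((l * a * l⁻¹ : L) : G) = (l : G) * (a : G) * (l : G)⁻¹ := by simp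
  rw [e, Cfsg.Agent.S1498.result A L H hD (a : G) ha (l : G) l.2]
  exact Subgroup.card_map_of_injective (MulAut.conj (l : G)).injective

/-- The fibre count behind the Dade isometry. -/
theorem dade_fiber_sum [Fintype G] (A : Set G) (L : Subgroup G) [Fintype L] (H : G → Subgroup G)
    (hD : DadeHypothesis A L H) (w : L → ℂ)
    (hw : ∀ (a : L) (l : L), (a : G) ∈ A → w (l * a * l⁻¹) = w a) (g : G) (a₀ : L)
    (ha₀ : (a₀ : G) ∈ A) (x₀ u₀ : G) (hu₀ : u₀ ∈ H (a₀ : G)) (hx₀ : x₀ * g * x₀⁻¹ = a₀ * u₀) :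
    ∑ t : G × L × G, (if ((t.2.1 : G) ∈ A ∧ t.2.2 ∈ H (t.2.1 : G) ∧
        t.1 * g * t.1⁻¹ = (t.2.1 : G) * t.2.2) then w t.2.1 else 0)
      = ((Nat.card L : ℂ) * (Nat.card (H (a₀ : G)) : ℂ)) * w a₀ := by
  letI : Fintype (H (a₀ : G)) := Fintype.ofFinite _
  rw [← Finset.sum_filter]
  have hcommH : ∀ h ∈ H (a₀ : G), h * (a₀ : G) = (a₀ : G) * h := fun h hh =>
    Subgroup.mem_centralizer_singleton_iff.mp (hD.le_centralizer _ ha₀ hh)
  have key : ∑ t ∈ Finset.univ.filter (fun t : G × L × G => (t.2.1 : G) ∈ A ∧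
      t.2.2 ∈ H (t.2.1 : G) ∧ t.1 * g * t.1⁻¹ = (t.2.1 : G) * t.2.2), w t.2.1
      = ∑ _p : L × H (a₀ : G), w a₀ := by
    symm
    apply Finset.sum_nbij (fun p : L × H (a₀ : G) =>
      (((p.1 : G) * (p.2 : G) * x₀, p.1 * a₀ * p.1⁻¹,
        (p.1 : G) * ((p.2 : G) * u₀ * (p.2 : G)⁻¹) * (p.1 : G)⁻¹) : G × L × G))
    · -- maps into the filter
      rintro ⟨l, h⟩ -
      rw [Finset.mem_filter]
      refine ⟨Finset.mem_univ _, ?_, ?_, ?_⟩
      · show ((l * a₀ * l⁻¹ : L) : G) ∈ A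
        have e : ((l * a₀ * l⁻¹ : L) : G) = (l : G) * (a₀ : G) * (l : G)⁻¹ := by simp
        rw [e]
        exact hD.conj_mem l l.2 a₀ ha₀
      · show (l : G) * ((h : G) * u₀ * (h : G)⁻¹) * (l : G)⁻¹ ∈ H ((l * a₀ * l⁻¹ : L) : G)
        have e : ((l * a₀ * l⁻¹ : L) : G) = (l : G) * (a₀ : G) * (l : G)⁻¹ := by simp
        rw [e, Cfsg.Agent.S1498.result A L H hD (a₀ : G) ha₀ (l : G) l.2, Subgroup.mem_map]
        refine ⟨(h : G) * u₀ * (h : G)⁻¹, ?_, rfl⟩
        exact (H (a₀ : G)).mul_mem ((H (a₀ : G)).mul_mem h.2 hu₀) ((H (a₀ : G)).inv_mem h.2)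
      · show (l : G) * (h : G) * x₀ * g * ((l : G) * (h : G) * x₀)⁻¹
          = ((l * a₀ * l⁻¹ : L) : G) * ((l : G) * ((h : G) * u₀ * (h : G)⁻¹) * (l : G)⁻¹)
        have e : ((l * a₀ * l⁻¹ : L) : G) = (l : G) * (a₀ : G) * (l : G)⁻¹ := by simp
        rw [e]
        have hc := hcommH h h.2
        calc (l : G) * (h : G) * x₀ * g * ((l : G) * (h : G) * x₀)⁻¹
            = (l : G) * ((h : G) * (x₀ * g * x₀⁻¹) * (h : G)⁻¹) * (l : G)⁻¹ := by group
          _ = (l : G) * ((h : G) * ((a₀ : G) * u₀) * (h : G)⁻¹) * (l : G)⁻¹ := by rw [hx₀]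
          _ = (l : G) * (((h : G) * (a₀ : G)) * u₀ * (h : G)⁻¹) * (l : G)⁻¹ := by group
          _ = (l : G) * (((a₀ : G) * (h : G)) * u₀ * (h : G)⁻¹) * (l : G)⁻¹ := by rw [hc]
          _ = (l : G) * (a₀ : G) * (l : G)⁻¹ *
              ((l : G) * ((h : G) * u₀ * (h : G)⁻¹) * (l : G)⁻¹) := by group
    · -- injective
      rintro ⟨l, h⟩ - ⟨l', h'⟩ - heq
      have h1 : (l : G) * (h : G) * x₀ = (l' : G) * (h' : G) * x₀ := congrArg Prod.fst heq
      have h2 : (l : G) * (h : G) = (l' : G) * (h' : G) := mul_right_cancel h1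
      have h3 : (l' : G)⁻¹ * (l : G) = (h' : G) * (h : G)⁻¹ := by
        calc (l' : G)⁻¹ * (l : G) = (l' : G)⁻¹ * ((l : G) * (h : G)) * (h : G)⁻¹ := by group
          _ = (l' : G)⁻¹ * ((l' : G) * (h' : G)) * (h : G)⁻¹ := by rw [h2]
          _ = (h' : G) * (h : G)⁻¹ := by group
      have hmemH : (h' : G) * (h : G)⁻¹ ∈ H (a₀ : G) :=
        (H (a₀ : G)).mul_mem h'.2 ((H (a₀ : G)).inv_mem h.2)
      have hmemL : (h' : G) * (h : G)⁻¹ ∈ L := by
        rw [← h3]; exact L.mul_mem (L.inv_mem l'.2) l.2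
      have hbot : (h' : G) * (h : G)⁻¹ ∈ H (a₀ : G) ⊓
          (L ⊓ Subgroup.centralizer ({(a₀ : G)} : Set G)) :=
        ⟨hmemH, hmemL, hD.le_centralizer _ ha₀ hmemH⟩
      rw [hD.inf_eq_bot _ ha₀, Subgroup.mem_bot] at hbot
      have hh : (h' : G) = (h : G) := by
        calc (h' : G) = (h' : G) * (h : G)⁻¹ * (h : G) := by group
          _ = (h : G) := by rw [hbot, one_mul]
      have hl : (l : G) = (l' : G) := by
        rw [hh] at h2
        exact mul_right_cancel h2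
      have e1 : l = l' := Subtype.ext hl
      have e2 : h = h' := Subtype.ext hh.symm
      rw [e1, e2]
    · -- surjective
      rintro ⟨x, a, u⟩ ht
      rw [Finset.mem_coe, Finset.mem_filter] at ht
      obtain ⟨-, haA, huH, hxg⟩ := ht
      simp only at haA huH hxg
      -- y = x x₀⁻¹ conjugates a₀ u₀ to a u
      have hy : (x * x₀⁻¹) * ((a₀ : G) * u₀) * (x * x₀⁻¹)⁻¹ = (a : G) * u := by
        rw [← hx₀, ← hxg]; group
      obtain ⟨l, hl, hle⟩ := (Cfsg.Agent.S1499.result A L H hD (a₀ : G) (a : G) ha₀ haA).1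
        ⟨u₀, hu₀, u, huH, x * x₀⁻¹, hy⟩
      -- c = l⁻¹ y centralises a₀
      have hHa : H (a : G) = (H (a₀ : G)).map (MulAut.conj l).toMonoidHom := by
        rw [← hle]; exact Cfsg.Agent.S1498.result A L H hD (a₀ : G) ha₀ l hl
      have hu' : l⁻¹ * u * l ∈ H (a₀ : G) := by
        rw [hHa, Subgroup.mem_map] at huH
        obtain ⟨v, hv, hve⟩ := huH
        have : l⁻¹ * u * l = v := by
          rw [← hve]
          simp only [MulEquiv.toMonoidHom_eq_coe, MonoidHom.coe_coe, MulAut.conj_apply]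
          group
        rw [this]; exact hv
      have hc : (l⁻¹ * (x * x₀⁻¹)) * ((a₀ : G) * u₀) * (l⁻¹ * (x * x₀⁻¹))⁻¹
          = (a₀ : G) * (l⁻¹ * u * l) := by
        calc (l⁻¹ * (x * x₀⁻¹)) * ((a₀ : G) * u₀) * (l⁻¹ * (x * x₀⁻¹))⁻¹
            = l⁻¹ * ((x * x₀⁻¹) * ((a₀ : G) * u₀) * (x * x₀⁻¹)⁻¹) * l := by group
          _ = l⁻¹ * ((a : G) * u) * l := by rw [hy]
          _ = l⁻¹ * ((l * (a₀ : G) * l⁻¹) * u) * l := by rw [hle]
          _ = (a₀ : G) * (l⁻¹ * u * l) := by group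
      have hcC := dade_stab A L H hD ha₀ hu₀ hu' hc
      -- decompose c = k h' with k ∈ L ∩ C(a₀), h' ∈ H a₀
      have hnorm : L ⊓ Subgroup.centralizer ({(a₀ : G)} : Set G)
          ≤ Subgroup.normalizer ((H (a₀ : G) : Subgroup G) : Set G) := by
        intro c hcm
        rw [Subgroup.mem_set_normalizer_iff]
        intro h
        constructor
        · intro hh
          exact hD.conj_mem_H _ ha₀ c hcm.2 h hh
        · intro hh
          have := hD.conj_mem_H _ ha₀ c⁻¹ ((Subgroup.centralizer _).inv_mem hcm.2) _ hh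
          have e : c⁻¹ * (c * h * c⁻¹) * c⁻¹⁻¹ = h := by group
          rwa [e] at this
      have hcsup : l⁻¹ * (x * x₀⁻¹) ∈
          ((L ⊓ Subgroup.centralizer ({(a₀ : G)} : Set G)) ⊔ H (a₀ : G) : Subgroup G) := by
        rw [sup_comm, hD.sup_eq _ ha₀]; exact hcC
      have hcmul : l⁻¹ * (x * x₀⁻¹) ∈
          ((L ⊓ Subgroup.centralizer ({(a₀ : G)} : Set G) : Subgroup G) : Set G)
            * ((H (a₀ : G) : Subgroup G) : Set G) := by
        rw [← Subgroup.coe_mul_of_left_le_normalizer_right _ _ hnorm]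
        exact hcsup
      obtain ⟨k, hk, h', hh', hkh⟩ := Set.mem_mul.mp hcmul
      have hkL : k ∈ L := hk.1
      have hkC : k * (a₀ : G) = (a₀ : G) * k := Subgroup.mem_centralizer_singleton_iff.mp hk.2
      refine ⟨(⟨l * k, L.mul_mem hl hkL⟩, ⟨h', hh'⟩), Finset.mem_coe.mpr (Finset.mem_univ _), ?_⟩
      have hx : l * k * h' * x₀ = x := by
        have : l * k * h' = l * (k * h') := by group
        rw [this, hkh]; group
      have ha : (⟨l * k, L.mul_mem hl hkL⟩ : L) * a₀ * (⟨l * k, L.mul_mem hl hkL⟩ : L)⁻¹ = a := by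
        apply Subtype.ext
        show l * k * (a₀ : G) * (l * k)⁻¹ = (a : G)
        rw [← hle]
        calc l * k * (a₀ : G) * (l * k)⁻¹ = l * (k * (a₀ : G)) * k⁻¹ * l⁻¹ := by group
          _ = l * ((a₀ : G) * k) * k⁻¹ * l⁻¹ := by rw [hkC]
          _ = l * (a₀ : G) * l⁻¹ := by group
      -- third component is forced
      have hu3 : l * k * (h' * u₀ * h'⁻¹) * (l * k)⁻¹ = u := by
        have h1 : (a : G) * (l * k * (h' * u₀ * h'⁻¹) * (l * k)⁻¹) = (a : G) * u := by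
          rw [← hxg, ← hx]
          have hc' := hcommH h' hh'
          have ha' : (a : G) = l * k * (a₀ : G) * (l * k)⁻¹ := by rw [← ha]; rfl
          rw [ha']
          calc l * k * (a₀ : G) * (l * k)⁻¹ * (l * k * (h' * u₀ * h'⁻¹) * (l * k)⁻¹)
              = l * k * (((a₀ : G) * h') * u₀ * h'⁻¹) * (l * k)⁻¹ := by group
            _ = l * k * ((h' * (a₀ : G)) * u₀ * h'⁻¹) * (l * k)⁻¹ := by rw [hc']
            _ = l * k * (h' * ((a₀ : G) * u₀) * h'⁻¹) * (l * k)⁻¹ := by group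
            _ = l * k * (h' * (x₀ * g * x₀⁻¹) * h'⁻¹) * (l * k)⁻¹ := by rw [hx₀]
            _ = l * k * h' * x₀ * g * (l * k * h' * x₀)⁻¹ := by group
        exact mul_left_cancel h1
      show ((l * k * h' * x₀, (⟨l * k, L.mul_mem hl hkL⟩ : L) * a₀ *
        (⟨l * k, L.mul_mem hl hkL⟩ : L)⁻¹, l * k * (h' * u₀ * h'⁻¹) * (l * k)⁻¹) : G × L × G)
        = (x, a, u)
      rw [hx, ha, hu3]
    · -- values agree
      rintro ⟨l, h⟩ -
      exact (hw a₀ l ha₀).symm
  rw [key, Finset.sum_const, Finset.card_univ, Fintype.card_prod, nsmul_eq_mul,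
    Nat.card_eq_fintype_card, Nat.card_eq_fintype_card]
  push_cast
  ring

/-- Master counting identity for the Dade map. -/
theorem dade_master [Fintype G] (A : Set G) (L : Subgroup G) [Fintype L] (H : G → Subgroup G)
    (hD : DadeHypothesis A L H) (α : L → ℂ) (hα : IsClassFunction L α) (F : G → ℂ)
    (hF : IsClassFunction G F) :
    ∑ g : G, dadeIsometry A L H α g * F g
      = ((Nat.card G : ℂ) / (Nat.card L : ℂ)) * ∑ a : L, (if (a : G) ∈ A then
          α a * ((Nat.card (H (a : G)) : ℂ)⁻¹ *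
            ∑ u : G, (if u ∈ H (a : G) then F ((a : G) * u) else 0)) else 0) := by
  have hw : ∀ (a l : L), (a : G) ∈ A →
      (fun a : L => α a * (Nat.card (H (a : G)) : ℂ)⁻¹) (l * a * l⁻¹)
        = (fun a : L => α a * (Nat.card (H (a : G)) : ℂ)⁻¹) a := by
    intro a l ha
    simp only
    rw [hα a l, card_H_conj A L H hD a ha l]
  have hΘ : ∀ g : G, ∑ t : G × L × G, (if ((t.2.1 : G) ∈ A ∧ t.2.2 ∈ H (t.2.1 : G) ∧
        t.1 * g * t.1⁻¹ = (t.2.1 : G) * t.2.2)
        then (fun a : L => α a * (Nat.card (H (a : G)) : ℂ)⁻¹) t.2.1 else 0)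
      = (Nat.card L : ℂ) * dadeIsometry A L H α g := by
    intro g
    by_cases h : ∃ a : ↥L, (a : G) ∈ A ∧ ∃ x : G, ∃ u ∈ H (a : G), x * g * x⁻¹ = (a : G) * u
    · obtain ⟨a₀, ha₀, x₀, u₀, hu₀, hx₀⟩ := h
      rw [dade_fiber_sum A L H hD (fun a : L => α a * (Nat.card (H (a : G)) : ℂ)⁻¹) hw g a₀ ha₀
          x₀ u₀ hu₀ hx₀,
        dade_apply A L H hD α hα g a₀ ha₀ x₀ u₀ hu₀ hx₀]
      have hne : (Nat.card (H (a₀ : G)) : ℂ) ≠ 0 := by
        exact_mod_cast (Nat.card_pos (α := H (a₀ : G))).ne'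
      field_simp
    · rw [dade_not A L H α g h, mul_zero]
      apply Finset.sum_eq_zero
      rintro ⟨x, a, u⟩ -
      rw [if_neg]
      rintro ⟨haA, huH, hxg⟩
      exact h ⟨a, haA, x, u, huH, hxg⟩
  have hT1 : ∑ t : G × L × G, (if ((t.2.1 : G) ∈ A ∧ t.2.2 ∈ H (t.2.1 : G))
        then (α t.2.1 * (Nat.card (H (t.2.1 : G)) : ℂ)⁻¹) *
          F (t.1⁻¹ * ((t.2.1 : G) * t.2.2) * t.1) else 0)
      = (Nat.card G : ℂ) * ∑ a : L, (if (a : G) ∈ A then
          α a * ((Nat.card (H (a : G)) : ℂ)⁻¹ *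
            ∑ u : G, (if u ∈ H (a : G) then F ((a : G) * u) else 0)) else 0) := by
    have hx : ∀ x : G, ∑ y : L × G, (if ((y.1 : G) ∈ A ∧ y.2 ∈ H (y.1 : G))
          then (α y.1 * (Nat.card (H (y.1 : G)) : ℂ)⁻¹) * F (x⁻¹ * ((y.1 : G) * y.2) * x) else 0)
        = ∑ a : L, (if (a : G) ∈ A then
          α a * ((Nat.card (H (a : G)) : ℂ)⁻¹ *
            ∑ u : G, (if u ∈ H (a : G) then F ((a : G) * u) else 0)) else 0) := by
      intro x
      rw [Fintype.sum_prod_type]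
      apply Finset.sum_congr rfl
      intro a _
      dsimp only
      by_cases haA : (a : G) ∈ A
      · rw [if_pos haA, Finset.mul_sum, Finset.mul_sum]
        apply Finset.sum_congr rfl
        intro u _
        have hFx : F (x⁻¹ * ((a : G) * u) * x) = F ((a : G) * u) := by
          have h1 := hF ((a : G) * u) x⁻¹
          rwa [inv_inv] at h1
        by_cases huH : u ∈ H (a : G)
        · rw [if_pos ⟨haA, huH⟩, if_pos huH, hFx]
          ring
        · rw [if_neg (fun h => huH h.2), if_neg huH]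
          simp
      · rw [if_neg haA]
        apply Finset.sum_eq_zero
        intro u _
        rw [if_neg (fun h => haA h.1)]
    rw [Fintype.sum_prod_type]
    refine (Finset.sum_congr rfl (fun x _ => hx x)).trans ?_
    rw [Finset.sum_const, Finset.card_univ, nsmul_eq_mul, Nat.card_eq_fintype_card]
  have hT2 : ∑ t : G × L × G, (if ((t.2.1 : G) ∈ A ∧ t.2.2 ∈ H (t.2.1 : G))
        then (α t.2.1 * (Nat.card (H (t.2.1 : G)) : ℂ)⁻¹) *
          F (t.1⁻¹ * ((t.2.1 : G) * t.2.2) * t.1) else 0)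
      = ∑ g : G, (∑ t : G × L × G, (if ((t.2.1 : G) ∈ A ∧ t.2.2 ∈ H (t.2.1 : G) ∧
        t.1 * g * t.1⁻¹ = (t.2.1 : G) * t.2.2)
        then (fun a : L => α a * (Nat.card (H (a : G)) : ℂ)⁻¹) t.2.1 else 0)) * F g := by
    have ht : ∀ t : G × L × G, (if ((t.2.1 : G) ∈ A ∧ t.2.2 ∈ H (t.2.1 : G))
          then (α t.2.1 * (Nat.card (H (t.2.1 : G)) : ℂ)⁻¹) *
            F (t.1⁻¹ * ((t.2.1 : G) * t.2.2) * t.1) else 0)
        = ∑ g : G, (if ((t.2.1 : G) ∈ A ∧ t.2.2 ∈ H (t.2.1 : G) ∧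
          t.1 * g * t.1⁻¹ = (t.2.1 : G) * t.2.2)
          then (fun a : L => α a * (Nat.card (H (a : G)) : ℂ)⁻¹) t.2.1 else 0) * F g := by
      intro t
      rw [Finset.sum_eq_single (t.1⁻¹ * ((t.2.1 : G) * t.2.2) * t.1)]
      · have e : t.1 * (t.1⁻¹ * ((t.2.1 : G) * t.2.2) * t.1) * t.1⁻¹ = (t.2.1 : G) * t.2.2 := by
          group
        by_cases h : ((t.2.1 : G) ∈ A ∧ t.2.2 ∈ H (t.2.1 : G))
        · rw [if_pos h, if_pos ⟨h.1, h.2, e⟩]
        · rw [if_neg h, if_neg (fun h' => h ⟨h'.1, h'.2.1⟩), zero_mul]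
      · intro g _ hne
        rw [if_neg, zero_mul]
        rintro ⟨-, -, h3⟩
        apply hne
        rw [← h3]; group
      · intro h; exact absurd (Finset.mem_univ _) h
    rw [Finset.sum_congr rfl (fun t _ => ht t), Finset.sum_comm]
    apply Finset.sum_congr rfl
    intro g _
    rw [Finset.sum_mul]
  have hL : (Nat.card L : ℂ) ≠ 0 := by exact_mod_cast (Nat.card_pos (α := L)).ne'
  have h5 : (Nat.card L : ℂ) * ∑ g : G, dadeIsometry A L H α g * F g
      = (Nat.card G : ℂ) * ∑ a : L, (if (a : G) ∈ A then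
          α a * ((Nat.card (H (a : G)) : ℂ)⁻¹ *
            ∑ u : G, (if u ∈ H (a : G) then F ((a : G) * u) else 0)) else 0) := by
    rw [← hT1, hT2, Finset.mul_sum]
    apply Finset.sum_congr rfl
    intro g _
    rw [hΘ g]
    ring
  rw [div_mul_eq_mul_div, eq_div_iff hL, mul_comm]
  exact h5

end Cfsg.Agent.helper8
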