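import Mathlib
import Cfsg.Agent.Lib_helper8_CN2
import Cfsg.Agent.Lib_helper23_Hall
import Cfsg.Agent.Lib_helper15_Replace
import Cfsg.Agent.S0041

set_option autoImplicit false

universe u

namespace Cfsg.Agent.helper8.CN

open Cfsg
open scoped commutatorElement

/-- a nontrivial solvable normal subgroup contains a nontrivial normal abelian `p`-subgroup -/
theorem exists_normal_abelian_exp {G : Type*} [Group G] [Finite G] (H : Subgroup G)
    [hHn : H.Normal] (hsolv : Group.IsSolvable H) (hH1 : H ≠ ⊥) :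
    ∃ (p : ℕ) (_ : p.Prime) (D : Subgroup G), D.Normal ∧ D ≤ H ∧ D ≠ ⊥ ∧
      (∀ a ∈ D, ∀ b ∈ D, a * b = b * a) ∧ ∀ g ∈ D, g ^ p = 1 := by
  classical
  have hex : ∃ n, derivedSeries ↥H n = ⊥ := hsolv.solvable
  have hnt : Nontrivial ↥H := (Subgroup.nontrivial_iff_ne_bot H).mpr hH1
  have h0 : Nat.find hex ≠ 0 := by
    intro h
    have := Nat.find_spec hex
    rw [h, derivedSeries_zero] at this
    exact top_ne_bot this
  obtain ⟨m, hm⟩ := Nat.exists_eq_succ_of_ne_zero h0
  have hKne : derivedSeries ↥H m ≠ ⊥ := Nat.find_min hex (by omega)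
  have hKK : ⁅derivedSeries ↥H m, derivedSeries ↥H m⁆ = ⊥ := by
    have := Nat.find_spec hex
    rw [hm] at this
    exact this
  obtain ⟨K', hK'⟩ : ∃ K' : Subgroup G, K' = (derivedSeries ↥H m).map H.subtype := ⟨_, rfl⟩
  have hK'n : K'.Normal := by
    rw [hK']
    infer_instance
  have hK'H : K' ≤ H := by
    rw [hK']
    exact Subgroup.map_subtype_le _
  have hK'ne : K' ≠ ⊥ := by
    rw [hK']
    intro h
    apply hKne
    rw [Subgroup.map_eq_bot_iff_of_injective _ H.subtype_injective] at h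
    exact h
  have hK'ab : ∀ a ∈ K', ∀ b ∈ K', a * b = b * a := by
    intro a ha b hb
    rw [hK'] at ha hb
    obtain ⟨a', ha', rfl⟩ := ha
    obtain ⟨b', hb', rfl⟩ := hb
    have : ⁅a', b'⁆ ∈ ⁅derivedSeries ↥H m, derivedSeries ↥H m⁆ :=
      Subgroup.commutator_mem_commutator ha' hb'
    rw [hKK, Subgroup.mem_bot, commutatorElement_eq_one_iff_commute] at this
    have h2 := congrArg H.subtype this.eq
    simpa using h2
  have hcard : Nat.card K' ≠ 1 := fun h => hK'ne (Subgroup.card_eq_one.mp h)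
  obtain ⟨p, hp, hpK⟩ := Nat.exists_prime_and_dvd hcard
  have : Fact p.Prime := ⟨hp⟩
  let D : Subgroup G :=
    { carrier := {g | g ∈ K' ∧ g ^ p = 1}
      one_mem' := ⟨K'.one_mem, one_pow p⟩
      mul_mem' := by
        rintro a b ⟨ha, hap⟩ ⟨hb, hbp⟩
        refine ⟨K'.mul_mem ha hb, ?_⟩
        have hc : Commute a b := hK'ab a ha b hb
        rw [hc.mul_pow, hap, hbp, one_mul]
      inv_mem' := by
        rintro a ⟨ha, hap⟩
        exact ⟨K'.inv_mem ha, by rw [inv_pow, hap, inv_one]⟩ }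
  have hDmem : ∀ g, g ∈ D ↔ g ∈ K' ∧ g ^ p = 1 := fun g => Iff.rfl
  refine ⟨p, hp, D, ?_, ?_, ?_, ?_, ?_⟩
  · constructor
    intro a ha g
    rw [hDmem] at ha ⊢
    exact ⟨hK'n.conj_mem a ha.1 g, by rw [conj_pow, ha.2, mul_one, mul_inv_cancel]⟩
  · intro g hg
    exact hK'H ((hDmem g).mp hg).1
  · obtain ⟨a, ha⟩ := exists_prime_orderOf_dvd_card' (G := ↥K') p hpK
    intro h
    have h3 : (a : G) ∈ D := by
      rw [hDmem]
      refine ⟨a.2, ?_⟩
      have := pow_orderOf_eq_one a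
      rw [ha] at this
      have h4 := congrArg Subtype.val this
      simpa using h4
    rw [h, Subgroup.mem_bot] at h3
    have h5 : a = 1 := Subtype.ext h3
    rw [h5, orderOf_one] at ha
    exact hp.one_lt.ne ha
  · intro a ha b hb
    exact hK'ab a ((hDmem a).mp ha).1 b ((hDmem b).mp hb).1
  · intro g hg
    exact ((hDmem g).mp hg).2

end Cfsg.Agent.helper8.CN
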