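import Mathlib
import Cfsg.Prelude.Def_Characters
import Cfsg.Agent.Lib_helper8_Virtual
import Cfsg.Agent.Lib_helper8_Coh
import Cfsg.Agent.Lib_helper24_CharValues

set_option autoImplicit false

/-!
Coherence of a family of "differences" of equal degree (shared library, helper8): a family
`v i j` of virtual characters vanishing at `1` behaving like `e_i - e_j` is of the form
`ε (f i - f j)` for irreducible characters `f i`.
-/

namespace Cfsg.Agent.helper8.EqDeg

open scoped ComplexConjugate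
open Cfsg Cfsg.Agent.helper24 Cfsg.Agent.helper8

theorem diff_of_norm_two {X : Type*} [Group X] [Fintype X] {θ : X → ℂ}
    (hθ : IsGeneralizedCharacter X θ) (h2 : classInner θ θ = 2) (h1 : θ 1 = 0) :
    ∃ a b : X → ℂ, IsIrrCharacter X a ∧ IsIrrCharacter X b ∧ a ≠ b ∧ θ = a - b := by
  obtain ⟨e₀, e₁, ψ₀, ψ₁, he₀, he₁, hψ₀, hψ₁, hne, hθeq⟩ := virt_norm_two hθ h2
  obtain ⟨m, hm0, hm⟩ := irr_apply_one hψ₀
  obtain ⟨n, hn0, hn⟩ := irr_apply_one hψ₁
  have hval : e₀ * (m : ℂ) + e₁ * (n : ℂ) = 0 := by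
    have := congrFun hθeq 1
    rw [h1] at this
    simp only [Pi.add_apply, Pi.smul_apply, smul_eq_mul, hm, hn] at this
    exact this.symm
  rcases he₀ with rfl | rfl <;> rcases he₁ with rfl | rfl
  · exfalso
    have h3 : ((m + n : ℕ) : ℂ) = 0 := by push_cast; linear_combination hval
    have := Nat.cast_eq_zero.mp h3
    omega
  · exact ⟨ψ₀, ψ₁, hψ₀, hψ₁, hne, by rw [hθeq]; simp [sub_eq_add_neg]⟩
  · exact ⟨ψ₁, ψ₀, hψ₁, hψ₀, hne.symm, by rw [hθeq]; simp [sub_eq_add_neg, add_comm]⟩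
  · exfalso
    have h3 : ((m + n : ℕ) : ℂ) = 0 := by push_cast; linear_combination -hval
    have := Nat.cast_eq_zero.mp h3
    omega

theorem ip4 {X : Type*} [Group X] [Fintype X] {a b c d : X → ℂ}
    (ha : IsIrrCharacter X a) (hb : IsIrrCharacter X b) (hc : IsIrrCharacter X c)
    (hd : IsIrrCharacter X d) (hab : a ≠ b) (hcd : c ≠ d)
    (h : classInner (a - b) (c - d) = 1) : (a = c ∧ b ≠ d) ∨ (b = d ∧ a ≠ c) := by
  classical
  rw [classInner_sub_left, Cfsg.Agent.helper8.classInner_sub_right,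
    Cfsg.Agent.helper8.classInner_sub_right, irr_classInner ha hc, irr_classInner ha hd,
    irr_classInner hb hc, irr_classInner hb hd] at h
  by_cases h1 : a = c
  · by_cases h2 : b = d
    · exfalso
      have h3 : a ≠ d := fun h3 => hcd (h1.symm.trans h3)
      have h4 : b ≠ c := fun h4 => hab (h1.trans h4.symm)
      rw [if_pos h1, if_pos h2, if_neg h3, if_neg h4] at h
      norm_num at h
    · exact Or.inl ⟨h1, h2⟩
  · by_cases h2 : b = d
    · exact Or.inr ⟨h2, h1⟩
    · exfalso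
      rw [if_neg h1, if_neg h2] at h
      by_cases h3 : a = d
      · by_cases h4 : b = c
        · rw [if_pos h3, if_pos h4] at h; norm_num at h
        · rw [if_pos h3, if_neg h4] at h; norm_num at h
      · by_cases h4 : b = c
        · rw [if_neg h3, if_pos h4] at h; norm_num at h
        · rw [if_neg h3, if_neg h4] at h; norm_num at h

theorem eqdeg_coherent {X : Type*} [Group X] [Fintype X] {ι : Type*} (v : ι → ι → X → ℂ)
    (hgc : ∀ i j, IsGeneralizedCharacter X (v i j)) (h1 : ∀ i j, v i j 1 = 0)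
    (hadd : ∀ i j k, v i j + v j k = v i k)
    (hnorm : ∀ i j, i ≠ j → classInner (v i j) (v i j) = 2)
    (hip : ∀ i j k, i ≠ j → i ≠ k → j ≠ k → classInner (v i j) (v i k) = 1) :
    ∃ (ε : ℂ) (f : ι → IrrCharacter X), (ε = 1 ∨ ε = -1) ∧ Function.Injective f ∧
      ∀ i j, v i j = ε • ((f i : X → ℂ) - (f j : X → ℂ)) := by
  classical
  by_cases hne : Nonempty ι
  swap
  · exact ⟨1, fun i => (hne ⟨i⟩).elim, Or.inl rfl, fun i => (hne ⟨i⟩).elim,
      fun i => (hne ⟨i⟩).elim⟩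
  obtain ⟨i₀⟩ := hne
  have hvii : ∀ i, v i i = 0 := by
    intro i
    have := hadd i i i
    exact add_eq_left.mp this
  have hsub : ∀ i j, v i j = v i₀ j - v i₀ i := by
    intro i j
    rw [← hadd i₀ i j]
    abel
  have hinj_core : ∀ i j, v i₀ i = v i₀ j → i = j := by
    intro i j h
    by_contra hij
    have h0 : v i j = 0 := by rw [hsub i j, h, sub_self]
    have := hnorm i j hij
    rw [h0] at this
    simp [classInner] at this
  have hdec : ∀ j, j ≠ i₀ → ∃ a b : X → ℂ, IsIrrCharacter X a ∧ IsIrrCharacter X b ∧ a ≠ b ∧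
      v i₀ j = a - b :=
    fun j hj => diff_of_norm_two (hgc _ _) (hnorm _ _ hj.symm) (h1 _ _)
  choose! a b ha hb hab hv using hdec
  have hip' : ∀ j k, j ≠ i₀ → k ≠ i₀ → j ≠ k → classInner (a j - b j) (a k - b k) = 1 := by
    intro j k hj hk hjk
    rw [← hv j hj, ← hv k hk]
    exact hip i₀ j k hj.symm hk.symm hjk
  have key : (∃ μ₀ : X → ℂ, IsIrrCharacter X μ₀ ∧ ∀ j, j ≠ i₀ → IsIrrCharacter X (μ₀ - v i₀ j)) ∨
      (∃ μ₀ : X → ℂ, IsIrrCharacter X μ₀ ∧ ∀ j, j ≠ i₀ → IsIrrCharacter X (μ₀ + v i₀ j)) := by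
    by_cases h : ∃ j₁, j₁ ≠ i₀
    · obtain ⟨j₁, hj₁⟩ := h
      by_cases hall : ∀ j, j ≠ i₀ → a j = a j₁
      · left
        refine ⟨a j₁, ha j₁ hj₁, fun j hj => ?_⟩
        rw [hv j hj, hall j hj, sub_sub_cancel]
        exact hb j hj
      · right
        push Not at hall
        obtain ⟨j₂, hj₂, hne2⟩ := hall
        have hj12 : j₂ ≠ j₁ := fun h => hne2 (h ▸ rfl)
        have hb12 : b j₂ = b j₁ := by
          rcases ip4 (ha j₂ hj₂) (hb j₂ hj₂) (ha j₁ hj₁) (hb j₁ hj₁) (hab j₂ hj₂) (hab j₁ hj₁)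
            (hip' j₂ j₁ hj₂ hj₁ hj12) with ⟨h, _⟩ | ⟨h, _⟩
          · exact absurd h hne2
          · exact h
        refine ⟨b j₁, hb j₁ hj₁, fun j hj => ?_⟩
        have hbj : b j = b j₁ := by
          by_cases hjj : j = j₁
          · rw [hjj]
          rcases ip4 (ha j hj) (hb j hj) (ha j₁ hj₁) (hb j₁ hj₁) (hab j hj) (hab j₁ hj₁)
            (hip' j j₁ hj hj₁ hjj) with ⟨p1, p2⟩ | ⟨p, _⟩
          · by_cases hjj2 : j = j₂
            · rw [hjj2] at p1
              exact absurd p1 hne2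
            · rcases ip4 (ha j hj) (hb j hj) (ha j₂ hj₂) (hb j₂ hj₂) (hab j hj) (hab j₂ hj₂)
                (hip' j j₂ hj hj₂ hjj2) with ⟨p3, _⟩ | ⟨p3, _⟩
              · exact absurd (p3.symm.trans p1) hne2
              · exact p3.trans hb12
          · exact p
        rw [hv j hj, hbj, add_sub_cancel]
        exact ha j hj
    · left
      exact ⟨fun _ => 1, isIrrCharacter_one, fun j hj => absurd ⟨j, hj⟩ h⟩
  rcases key with ⟨μ₀, hμ, hirr⟩ | ⟨μ₀, hμ, hirr⟩
  · have hfirr : ∀ j, IsIrrCharacter X (μ₀ - v i₀ j) := by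
      intro j
      by_cases hj : j = i₀
      · rw [hj, hvii, sub_zero]; exact hμ
      · exact hirr j hj
    refine ⟨1, fun j => ⟨μ₀ - v i₀ j, hfirr j⟩, Or.inl rfl, ?_, ?_⟩
    · intro i j h
      have h' : μ₀ - v i₀ i = μ₀ - v i₀ j := congrArg Subtype.val h
      exact hinj_core i j (sub_right_injective h')
    · intro i j
      rw [one_smul, hsub i j]
      show v i₀ j - v i₀ i = (μ₀ - v i₀ i) - (μ₀ - v i₀ j)
      abel
  · have hfirr : ∀ j, IsIrrCharacter X (μ₀ + v i₀ j) := by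
      intro j
      by_cases hj : j = i₀
      · rw [hj, hvii, add_zero]; exact hμ
      · exact hirr j hj
    refine ⟨-1, fun j => ⟨μ₀ + v i₀ j, hfirr j⟩, Or.inr rfl, ?_, ?_⟩
    · intro i j h
      have h' : μ₀ + v i₀ i = μ₀ + v i₀ j := congrArg Subtype.val h
      exact hinj_core i j (add_right_injective μ₀ h')
    · intro i j
      rw [hsub i j]
      show v i₀ j - v i₀ i = (-1 : ℂ) • ((μ₀ + v i₀ i) - (μ₀ + v i₀ j))
      rw [neg_one_smul]
      abel

end Cfsg.Agent.helper8.EqDeg
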