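import Mathlib
import Cfsg.Prelude.Def_LieClassical
import Cfsg.Agent.Lib_helper11_Unitary

set_option autoImplicit false

namespace Cfsg.Agent.helper8.GUcenter

open Matrix Cfsg.Agent.helper11.Unitary

/-- The centre of `GU_n(q)` consists of its scalar matrices. -/
theorem mem_center_GU_iff {K : Type*} [Field K] [Fintype K] {q n : ℕ}
    (hK : Fintype.card K = q ^ 2) (g : ↥(Cfsg.GU n K q)) :
    g ∈ Subgroup.center ↥(Cfsg.GU n K q) ↔
      ∃ c : K, ((g : GL (Fin n) K) : Matrix (Fin n) (Fin n) K) = c • 1 := by
  classical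
  obtain ⟨Z, hZ⟩ : ∃ Z : Matrix (Fin n) (Fin n) K,
      Z = ((g : GL (Fin n) K) : Matrix (Fin n) (Fin n) K) := ⟨_, rfl⟩
  rw [← hZ]
  constructor
  · intro hg
    rw [Subgroup.mem_center_iff] at hg
    have hcomm : ∀ h : ↥(Cfsg.GU n K q),
        ((h : GL (Fin n) K) : Matrix (Fin n) (Fin n) K) * Z =
          Z * ((h : GL (Fin n) K) : Matrix (Fin n) (Fin n) K) := by
      intro h
      have h1 := hg h
      have h2 := congrArg
        (fun x : ↥(Cfsg.GU n K q) => ((x : GL (Fin n) K) : Matrix (Fin n) (Fin n) K)) h1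
      rw [hZ]
      exact h2
    obtain ⟨l, hl1, hlq⟩ := exists_norm_one_ne_one hK
    have hoff : ∀ i k : Fin n, i ≠ k → Z i k = 0 := by
      intro i k hik
      obtain ⟨d, hd'⟩ : ∃ d : Fin n → K, d = fun a => if a = i then l else 1 := ⟨_, rfl⟩
      have hdi : d i = l := by rw [hd']; exact if_pos rfl
      have hdk : d k = 1 := by rw [hd']; exact if_neg (Ne.symm hik)
      have hd : ∀ a, d a * d a ^ q = 1 := by
        intro a
        rw [hd']
        by_cases h : a = i
        · simp only [if_pos h]; exact hlq
        · simp only [if_neg h]; rw [one_pow, one_mul]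
      have hpres : ∀ u v, Cfsg.hermForm n K q (Matrix.diagonal d *ᵥ u) (Matrix.diagonal d *ᵥ v) =
          Cfsg.hermForm n K q u v := by
        intro u v
        unfold Cfsg.hermForm
        apply Finset.sum_congr rfl
        intro a _
        rw [Matrix.mulVec_diagonal, Matrix.mulVec_diagonal, mul_pow]
        calc d a * u a * (d a ^ q * v a ^ q) = (d a * d a ^ q) * (u a * v a ^ q) := by ring
          _ = u a * v a ^ q := by rw [hd, one_mul]
      have h1 := hcomm (mkGU hK (Matrix.diagonal d) hpres)
      rw [coe_mkGU] at h1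
      have h2 := congrFun (congrFun h1 i) k
      rw [Matrix.diagonal_mul, Matrix.mul_diagonal, hdi, hdk, mul_one] at h2
      have h3 : (l - 1) * Z i k = 0 := by rw [sub_mul, one_mul, h2, sub_self]
      rcases mul_eq_zero.mp h3 with h | h
      · exact absurd (sub_eq_zero.mp h) hl1
      · exact h
    have hdiag : ∀ i j : Fin n, Z i i = Z j j := by
      intro i j
      obtain ⟨A, hA'⟩ : ∃ A : Matrix (Fin n) (Fin n) K,
          A = Matrix.of (fun a b => if b = Equiv.swap i j a then (1 : K) else 0) := ⟨_, rfl⟩
      have hA : ∀ u : Fin n → K, A *ᵥ u = u ∘ (Equiv.swap i j) := by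
        intro u
        funext a
        rw [hA']
        simp [Matrix.mulVec, dotProduct]
      have hpres : ∀ u v, Cfsg.hermForm n K q (A *ᵥ u) (A *ᵥ v) = Cfsg.hermForm n K q u v := by
        intro u v
        rw [hA, hA]
        unfold Cfsg.hermForm
        exact Equiv.sum_comp (Equiv.swap i j) (fun a => u a * v a ^ q)
      have h1 := hcomm (mkGU hK A hpres)
      rw [coe_mkGU] at h1
      have h2 := congrFun (congrFun h1 i) j
      have e1 : (A * Z) i j = Z j j := by
        rw [hA']
        simp [Matrix.mul_apply]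
      have e2 : (Z * A) i j = Z i i := by
        rw [Matrix.mul_apply, Finset.sum_eq_single i]
        · rw [hA']
          simp
        · intro c _ hci
          rw [hoff i c (Ne.symm hci), zero_mul]
        · intro h
          exact absurd (Finset.mem_univ i) h
      rw [e1, e2] at h2
      exact h2.symm
    rcases Nat.eq_zero_or_pos n with hn | hn
    · subst hn
      exact ⟨0, Subsingleton.elim _ _⟩
    · refine ⟨Z ⟨0, hn⟩ ⟨0, hn⟩, ?_⟩
      ext a b
      rw [Matrix.smul_apply, Matrix.one_apply]
      by_cases hab : a = b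
      · subst hab
        rw [if_pos rfl, smul_eq_mul, mul_one]
        exact hdiag a _
      · rw [if_neg hab, smul_zero]
        exact hoff a b hab
  · rintro ⟨c, hc⟩
    rw [Subgroup.mem_center_iff]
    intro h
    apply Subtype.ext
    apply Units.ext
    show ((h : GL (Fin n) K) : Matrix (Fin n) (Fin n) K) *
        ((g : GL (Fin n) K) : Matrix (Fin n) (Fin n) K) =
      ((g : GL (Fin n) K) : Matrix (Fin n) (Fin n) K) *
        ((h : GL (Fin n) K) : Matrix (Fin n) (Fin n) K)
    rw [← hZ, hc]
    simp

end Cfsg.Agent.helper8.GUcenter
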