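import Mathlib
import Cfsg.Prelude.Def_SporadicCombinatorics

set_option autoImplicit false

namespace Cfsg.Agent.helper8.Hexa

open Cfsg

/-- addition table of the model of the field with four elements -/
def addK (a b : Fin 4) : Fin 4 := ![![0,1,2,3],![1,0,3,2],![2,3,0,1],![3,2,1,0]] a b

/-- multiplication table of the model -/
def mulK (a b : Fin 4) : Fin 4 := ![![0,0,0,0],![0,1,2,3],![0,2,3,1],![0,3,1,2]] a b

/-- generators in the model -/
def wK : Fin 3 → Fin 6 → Fin 4 := ![![2,3,3,2,3,2], ![3,2,2,3,3,2], ![3,2,3,2,2,3]]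

/-- encoding in the model -/
def encK (a b c : Fin 4) : Fin 6 → Fin 4 :=
  fun i => addK (addK (mulK a (wK 0 i)) (mulK b (wK 1 i))) (mulK c (wK 2 i))

/-- weight in the model -/
def wtK (y : Fin 6 → Fin 4) : ℕ := (Finset.univ.filter fun i => y i ≠ 0).card

theorem addK_eq_zero : ∀ a b : Fin 4, addK a b = 0 → a = b := by decide

theorem encK_inj : ∀ a b c a' b' c' : Fin 4, encK a b c = encK a' b' c' →
    a = a' ∧ b = b' ∧ c = c' := by decide +kernel

theorem wtK_enc : ∀ a b c : Fin 4, wtK (encK a b c) = 0 ∨ wtK (encK a b c) = 4 ∨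
    wtK (encK a b c) = 6 := by decide +kernel

/-- parameter type -/
abbrev T3 : Type := Fin 4 × Fin 4 × Fin 4

theorem cntK4 : (Finset.univ.filter fun t : T3 => wtK (encK t.1 t.2.1 t.2.2) = 4).card = 45 := by
  decide +kernel

theorem cntK6 : (Finset.univ.filter fun t : T3 => wtK (encK t.1 t.2.1 t.2.2) = 6).card = 18 := by
  decide +kernel

section field

variable {F : Type*} [Field F] (ω : F)

/-- the map from the model -/
def phi : Fin 4 → F := ![0, 1, ω, ω + 1]

theorem two_eq_zero [Fintype F] (hF : Fintype.card F = 4) : (2 : F) = 0 := by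
  have h4 : (4 : ℕ) • (1 : F) = 0 := by
    rw [← hF]
    exact card_nsmul_eq_zero
  have : (2 : F) ^ 2 = 0 := by
    rw [nsmul_eq_mul, mul_one] at h4
    rw [← h4]
    norm_num
  exact pow_eq_zero_iff (two_ne_zero) |>.mp this

theorem phi_zero : phi ω 0 = 0 := by simp [phi]

theorem phi_one : phi ω 1 = 1 := by simp [phi]

theorem phi_add (h2 : (2 : F) = 0) : ∀ a b, phi ω (addK a b) = phi ω a + phi ω b := by
  intro a b
  fin_cases a <;> fin_cases b <;> simp [phi, addK] <;> grind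

theorem phi_mul (h2 : (2 : F) = 0) (hω : ω ^ 2 + ω + 1 = 0) :
    ∀ a b, phi ω (mulK a b) = phi ω a * phi ω b := by
  intro a b
  fin_cases a <;> fin_cases b <;> simp [phi, mulK] <;> grind

theorem phi_eq_zero (_h2 : (2 : F) = 0) (hω : ω ^ 2 + ω + 1 = 0) :
    ∀ a, phi ω a = 0 → a = 0 := by
  intro a h
  fin_cases a
  · rfl
  · simp [phi] at h
  · exfalso
    simp [phi] at h
    rw [h] at hω
    simp at hω
  · exfalso
    simp [phi] at h
    have : ω = -1 := eq_neg_of_add_eq_zero_left h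
    rw [this] at hω
    simp at hω

theorem phi_injective (h2 : (2 : F) = 0) (hω : ω ^ 2 + ω + 1 = 0) :
    Function.Injective (phi ω) := by
  intro a b h
  apply addK_eq_zero
  apply phi_eq_zero ω h2 hω
  rw [phi_add ω h2, h]
  linear_combination (phi ω b) * h2

theorem phi_bijective [Fintype F] (hF : Fintype.card F = 4) (hω : ω ^ 2 + ω + 1 = 0) :
    Function.Bijective (phi ω) := by
  rw [Fintype.bijective_iff_injective_and_card]
  exact ⟨phi_injective ω (two_eq_zero hF) hω, by rw [hF]; rfl⟩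

theorem phi_ne_zero_iff (h2 : (2 : F) = 0) (hω : ω ^ 2 + ω + 1 = 0) (a : Fin 4) :
    phi ω a ≠ 0 ↔ a ≠ 0 := by
  constructor
  · rintro h rfl
    exact h (phi_zero ω)
  · intro h h'
    exact h (phi_eq_zero ω h2 hω a h')

/-- the map on vectors -/
def phiV (y : Fin 6 → Fin 4) : Fin 6 → F := fun i => phi ω (y i)

theorem phiV_injective (h2 : (2 : F) = 0) (hω : ω ^ 2 + ω + 1 = 0) :
    Function.Injective (phiV ω) := by
  intro y y' h
  funext i
  exact phi_injective ω h2 hω (congrFun h i)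

theorem sq_eq (h2 : (2 : F) = 0) (hω : ω ^ 2 + ω + 1 = 0) : ω ^ 2 = ω + 1 := by
  linear_combination hω - (ω + 1) * h2

theorem hexacode_eq (h2 : (2 : F) = 0) (hω : ω ^ 2 + ω + 1 = 0) :
    hexacode F ω = Submodule.span F {phiV ω (wK 0), phiV ω (wK 1), phiV ω (wK 2)} := by
  have e0 : ![ω, ω ^ 2, ω ^ 2, ω, ω ^ 2, ω] = phiV ω (wK 0) := by
    funext i
    fin_cases i <;> simp [phiV, wK, phi, sq_eq ω h2 hω]
  have e1 : ![ω ^ 2, ω, ω, ω ^ 2, ω ^ 2, ω] = phiV ω (wK 1) := by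
    funext i
    fin_cases i <;> simp [phiV, wK, phi, sq_eq ω h2 hω]
  have e2 : ![ω ^ 2, ω, ω ^ 2, ω, ω, ω ^ 2] = phiV ω (wK 2) := by
    funext i
    fin_cases i <;> simp [phiV, wK, phi, sq_eq ω h2 hω]
  rw [hexacode, e0, e1, e2]

theorem phiV_enc (h2 : (2 : F) = 0) (hω : ω ^ 2 + ω + 1 = 0) (a b c : Fin 4) :
    phiV ω (encK a b c) =
      phi ω a • phiV ω (wK 0) + phi ω b • phiV ω (wK 1) + phi ω c • phiV ω (wK 2) := by
  funext i
  simp only [phiV, encK, phi_add ω h2, phi_mul ω h2 hω, Pi.add_apply, Pi.smul_apply, smul_eq_mul]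

theorem mem_hexacode_iff [Fintype F] (hF : Fintype.card F = 4) (hω : ω ^ 2 + ω + 1 = 0)
    (x : Fin 6 → F) : x ∈ hexacode F ω ↔ ∃ a b c : Fin 4, x = phiV ω (encK a b c) := by
  have h2 := two_eq_zero hF
  rw [hexacode_eq ω h2 hω, Submodule.mem_span_triple]
  constructor
  · rintro ⟨a, b, c, rfl⟩
    obtain ⟨a', rfl⟩ := (phi_bijective ω hF hω).2 a
    obtain ⟨b', rfl⟩ := (phi_bijective ω hF hω).2 b
    obtain ⟨c', rfl⟩ := (phi_bijective ω hF hω).2 c
    exact ⟨a', b', c', (phiV_enc ω h2 hω a' b' c').symm⟩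
  · rintro ⟨a, b, c, rfl⟩
    exact ⟨phi ω a, phi ω b, phi ω c, (phiV_enc ω h2 hω a b c).symm⟩

theorem wt_phiV [DecidableEq F] (h2 : (2 : F) = 0) (hω : ω ^ 2 + ω + 1 = 0) (y : Fin 6 → Fin 4) :
    (Finset.univ.filter fun i => phiV ω y i ≠ 0).card = wtK y := by
  unfold wtK
  congr 1
  ext i
  rw [Finset.mem_filter, Finset.mem_filter]
  simp only [Finset.mem_univ, true_and]
  exact phi_ne_zero_iff ω h2 hω (y i)

/-- parametrisation of the code -/
def Phi (t : T3) : Fin 6 → F := phiV ω (encK t.1 t.2.1 t.2.2)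

theorem Phi_injective (h2 : (2 : F) = 0) (hω : ω ^ 2 + ω + 1 = 0) :
    Function.Injective (Phi ω) := by
  intro t t' h
  have := encK_inj _ _ _ _ _ _ (phiV_injective ω h2 hω h)
  obtain ⟨a, b, c⟩ := t
  obtain ⟨a', b', c'⟩ := t'
  simp only at this
  rw [this.1, this.2.1, this.2.2]

theorem mem_hexacode_iff' [Fintype F] (hF : Fintype.card F = 4) (hω : ω ^ 2 + ω + 1 = 0)
    (x : Fin 6 → F) : x ∈ hexacode F ω ↔ ∃ t : T3, Phi ω t = x := by
  rw [mem_hexacode_iff ω hF hω]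
  constructor
  · rintro ⟨a, b, c, rfl⟩
    exact ⟨(a, b, c), rfl⟩
  · rintro ⟨⟨a, b, c⟩, rfl⟩
    exact ⟨a, b, c, rfl⟩

theorem card_hexacode [Fintype F] (hF : Fintype.card F = 4) (hω : ω ^ 2 + ω + 1 = 0) :
    Nat.card ↥(hexacode F ω) = 64 := by
  have h2 := two_eq_zero hF
  have e : T3 ≃ ↥(hexacode F ω) :=
    Equiv.ofBijective (fun t => ⟨Phi ω t, (mem_hexacode_iff' ω hF hω _).mpr ⟨t, rfl⟩⟩) (by
      constructor
      · intro t t' h
        exact Phi_injective ω h2 hω (congrArg Subtype.val h)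
      · rintro ⟨x, hx⟩
        obtain ⟨t, rfl⟩ := (mem_hexacode_iff' ω hF hω _).mp hx
        exact ⟨t, rfl⟩)
  rw [← Nat.card_congr e, Nat.card_eq_fintype_card]
  simp only [T3, Fintype.card_prod, Fintype.card_fin]

theorem ncard_wt [Fintype F] [DecidableEq F] (hF : Fintype.card F = 4) (hω : ω ^ 2 + ω + 1 = 0)
    (k : ℕ) :
    {x : Fin 6 → F | x ∈ hexacode F ω ∧ (Finset.univ.filter fun i => x i ≠ 0).card = k}.ncard =
      (Finset.univ.filter fun t : T3 => wtK (encK t.1 t.2.1 t.2.2) = k).card := by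
  have h2 := two_eq_zero hF
  have h : {x : Fin 6 → F | x ∈ hexacode F ω ∧ (Finset.univ.filter fun i => x i ≠ 0).card = k} =
      Phi ω '' {t : T3 | wtK (encK t.1 t.2.1 t.2.2) = k} := by
    ext x
    constructor
    · rintro ⟨hx, hk⟩
      obtain ⟨t, rfl⟩ := (mem_hexacode_iff' ω hF hω _).mp hx
      refine ⟨t, ?_, rfl⟩
      change wtK _ = k
      rw [← wt_phiV ω h2 hω]
      exact hk
    · rintro ⟨t, ht, rfl⟩
      refine ⟨(mem_hexacode_iff' ω hF hω _).mpr ⟨t, rfl⟩, ?_⟩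
      change (Finset.univ.filter fun i => phiV ω _ i ≠ 0).card = k
      rw [wt_phiV ω h2 hω]
      exact ht
  rw [h, Set.ncard_image_of_injective _ (Phi_injective ω h2 hω), Set.ncard_eq_toFinset_card']
  congr 1
  ext t
  simp

end field

end Cfsg.Agent.helper8.Hexa
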