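import Mathlib
import Cfsg.Agent.Lib_helper8_Hexa

set_option autoImplicit false

namespace Cfsg.Agent.helper8.Hexa

open Cfsg Equiv

/-- systematic generators in the model -/
def rK : Fin 3 → Fin 6 → Fin 4 := ![![1, 0, 0, 1, 3, 2], ![0, 1, 0, 1, 2, 3], ![0, 0, 1, 1, 1, 1]]

/-- systematic encoding -/
def sysK (a b c : Fin 4) : Fin 6 → Fin 4 :=
  fun i => addK (addK (mulK a (rK 0 i)) (mulK b (rK 1 i))) (mulK c (rK 2 i))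

/-- membership test in the model -/
def memK (y : Fin 6 → Fin 4) : Prop := sysK (y 0) (y 1) (y 2) = y

instance (y : Fin 6 → Fin 4) : Decidable (memK y) := by
  unfold memK; infer_instance

theorem sys_enc : ∀ a b c : Fin 4, memK (encK a b c) := by decide +kernel

theorem enc_sys : ∀ a b c : Fin 4, ∃ a' b' c', encK a' b' c' = sysK a b c := by decide +kernel

theorem memK_iff (y : Fin 6 → Fin 4) : memK y ↔ ∃ a b c, encK a b c = y := by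
  constructor
  · intro h
    obtain ⟨a, b, c, e⟩ := enc_sys (y 0) (y 1) (y 2)
    exact ⟨a, b, c, e.trans h⟩
  · rintro ⟨a, b, c, rfl⟩
    exact sys_enc a b c

/-- validity of a monomial map in the model -/
def validK (σ : Perm (Fin 6)) (c : Fin 6 → Fin 4) : Prop :=
  ∀ k : Fin 3, memK (fun i => mulK (c i) (wK k (σ.symm i)))

instance (σ : Perm (Fin 6)) (c : Fin 6 → Fin 4) : Decidable (validK σ c) := by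
  unfold validK; infer_instance

theorem diagK : ∀ c0 c1 c2 c3 c4 c5 : Fin 4, c0 ≠ 0 → c1 ≠ 0 → c2 ≠ 0 → c3 ≠ 0 → c4 ≠ 0 →
    c5 ≠ 0 → validK 1 ![c0, c1, c2, c3, c4, c5] →
    c0 = c1 ∧ c0 = c2 ∧ c0 = c3 ∧ c0 = c4 ∧ c0 = c5 := by decide +kernel

theorem swapK : ∀ c0 c1 c2 c3 c4 c5 : Fin 4, c0 ≠ 0 → c1 ≠ 0 → c2 ≠ 0 → c3 ≠ 0 → c4 ≠ 0 →
    c5 ≠ 0 → ¬ validK (swap 0 1) ![c0, c1, c2, c3, c4, c5] := by decide +kernel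

/-- witnesses for the three-cycles -/
def witL : List (List (Fin 4)) := [[1, 1, 1, 1, 1, 1],
  [1, 1, 1, 1, 1, 1],
  [1, 1, 1, 1, 1, 1],
  [1, 1, 1, 1, 1, 1],
  [1, 1, 1, 1, 1, 1],
  [1, 1, 1, 1, 1, 1],
  [1, 1, 1, 1, 1, 1],
  [1, 1, 1, 1, 1, 1],
  [1, 1, 1, 1, 2, 3],
  [1, 1, 1, 1, 3, 2],
  [1, 1, 2, 3, 1, 1],
  [1, 1, 3, 2, 1, 1],
  [1, 1, 1, 1, 1, 1],
  [1, 1, 1, 1, 3, 2],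
  [1, 1, 1, 1, 1, 1],
  [1, 1, 1, 1, 2, 3],
  [1, 3, 3, 2, 2, 1],
  [1, 2, 2, 3, 1, 3],
  [1, 1, 1, 1, 1, 1],
  [1, 1, 1, 1, 2, 3],
  [1, 1, 1, 1, 3, 2],
  [1, 1, 1, 1, 1, 1],
  [1, 2, 3, 2, 3, 1],
  [1, 3, 2, 3, 1, 2],
  [1, 1, 1, 1, 1, 1],
  [1, 1, 3, 2, 1, 1],
  [1, 3, 2, 1, 3, 2],
  [1, 2, 1, 3, 2, 3],
  [1, 1, 1, 1, 1, 1],
  [1, 1, 2, 3, 1, 1],
  [1, 1, 1, 1, 1, 1],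
  [1, 1, 2, 3, 1, 1],
  [1, 2, 3, 1, 3, 2],
  [1, 3, 1, 2, 2, 3],
  [1, 1, 3, 2, 1, 1],
  [1, 1, 1, 1, 1, 1],
  [1, 1, 1, 1, 1, 1],
  [1, 1, 1, 1, 1, 1],
  [1, 1, 1, 1, 3, 2],
  [1, 1, 1, 1, 2, 3],
  [1, 1, 3, 2, 1, 1],
  [1, 1, 2, 3, 1, 1],
  [1, 1, 1, 1, 1, 1],
  [1, 1, 1, 1, 1, 1],
  [1, 1, 1, 1, 1, 1],
  [1, 1, 1, 1, 1, 1],
  [1, 1, 1, 1, 1, 1],
  [1, 1, 1, 1, 1, 1],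
  [1, 1, 1, 1, 2, 3],
  [1, 1, 1, 1, 1, 1],
  [1, 1, 1, 1, 1, 1],
  [1, 1, 1, 1, 3, 2],
  [1, 3, 1, 2, 2, 3],
  [1, 2, 1, 3, 2, 3],
  [1, 1, 1, 1, 3, 2],
  [1, 1, 1, 1, 1, 1],
  [1, 1, 1, 1, 2, 3],
  [1, 1, 1, 1, 1, 1],
  [1, 2, 3, 1, 3, 2],
  [1, 3, 2, 1, 3, 2],
  [1, 1, 2, 3, 1, 1],
  [1, 1, 1, 1, 1, 1],
  [1, 3, 2, 3, 1, 2],
  [1, 2, 2, 3, 1, 3],
  [1, 1, 1, 1, 1, 1],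
  [1, 1, 3, 2, 1, 1],
  [1, 1, 3, 2, 1, 1],
  [1, 1, 1, 1, 1, 1],
  [1, 2, 3, 2, 3, 1],
  [1, 3, 3, 2, 2, 1],
  [1, 1, 2, 3, 1, 1],
  [1, 1, 1, 1, 1, 1],
  [1, 1, 1, 1, 1, 1],
  [1, 1, 1, 1, 2, 3],
  [1, 1, 1, 1, 1, 1],
  [1, 1, 1, 1, 3, 2],
  [1, 3, 2, 1, 3, 2],
  [1, 2, 3, 1, 3, 2],
  [1, 1, 1, 1, 3, 2],
  [1, 1, 1, 1, 1, 1],
  [1, 1, 1, 1, 1, 1],
  [1, 1, 1, 1, 2, 3],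
  [1, 3, 2, 3, 1, 2],
  [1, 2, 3, 2, 3, 1],
  [1, 1, 1, 1, 1, 1],
  [1, 1, 1, 1, 1, 1],
  [1, 1, 1, 1, 1, 1],
  [1, 1, 1, 1, 1, 1],
  [1, 1, 1, 1, 1, 1],
  [1, 1, 1, 1, 1, 1],
  [1, 1, 1, 1, 2, 3],
  [1, 1, 1, 1, 3, 2],
  [1, 1, 1, 1, 1, 1],
  [1, 1, 1, 1, 1, 1],
  [1, 2, 3, 3, 3, 3],
  [1, 3, 2, 2, 2, 2],
  [1, 3, 3, 2, 2, 1],
  [1, 3, 1, 2, 2, 3],
  [1, 1, 1, 1, 1, 1],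
  [1, 3, 2, 2, 2, 2],
  [1, 1, 1, 1, 1, 1],
  [1, 2, 3, 3, 3, 3],
  [1, 2, 2, 3, 1, 3],
  [1, 2, 1, 3, 2, 3],
  [1, 1, 1, 1, 1, 1],
  [1, 2, 3, 3, 3, 3],
  [1, 3, 2, 2, 2, 2],
  [1, 1, 1, 1, 1, 1],
  [1, 1, 1, 1, 1, 1],
  [1, 1, 1, 1, 3, 2],
  [1, 1, 1, 1, 2, 3],
  [1, 1, 1, 1, 1, 1],
  [1, 2, 1, 3, 2, 3],
  [1, 3, 1, 2, 2, 3],
  [1, 1, 1, 1, 2, 3],
  [1, 1, 1, 1, 1, 1],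
  [1, 1, 1, 1, 3, 2],
  [1, 1, 1, 1, 1, 1],
  [1, 2, 2, 3, 1, 3],
  [1, 3, 3, 2, 2, 1],
  [1, 1, 1, 1, 3, 2],
  [1, 1, 1, 1, 2, 3],
  [1, 1, 1, 1, 1, 1],
  [1, 1, 1, 1, 1, 1],
  [1, 3, 2, 2, 2, 2],
  [1, 2, 3, 3, 3, 3],
  [1, 1, 1, 1, 1, 1],
  [1, 1, 1, 1, 1, 1],
  [1, 1, 1, 1, 1, 1],
  [1, 1, 1, 1, 1, 1],
  [1, 1, 1, 1, 1, 1],
  [1, 1, 1, 1, 1, 1],
  [1, 2, 3, 2, 3, 1],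
  [1, 2, 3, 1, 3, 2],
  [1, 2, 3, 3, 3, 3],
  [1, 1, 1, 1, 1, 1],
  [1, 1, 1, 1, 1, 1],
  [1, 3, 2, 2, 2, 2],
  [1, 3, 2, 3, 1, 2],
  [1, 3, 2, 1, 3, 2],
  [1, 3, 2, 2, 2, 2],
  [1, 1, 1, 1, 1, 1],
  [1, 2, 3, 3, 3, 3],
  [1, 1, 1, 1, 1, 1],
  [1, 1, 1, 1, 1, 1],
  [1, 1, 2, 3, 1, 1],
  [1, 3, 3, 2, 2, 1],
  [1, 2, 3, 2, 3, 1],
  [1, 1, 1, 1, 1, 1],
  [1, 1, 3, 2, 1, 1],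
  [1, 1, 3, 2, 1, 1],
  [1, 1, 1, 1, 1, 1],
  [1, 3, 1, 2, 2, 3],
  [1, 2, 3, 1, 3, 2],
  [1, 1, 1, 1, 1, 1],
  [1, 1, 2, 3, 1, 1],
  [1, 3, 2, 1, 3, 2],
  [1, 3, 2, 3, 1, 2],
  [1, 1, 1, 1, 1, 1],
  [1, 2, 3, 3, 3, 3],
  [1, 1, 1, 1, 1, 1],
  [1, 3, 2, 2, 2, 2],
  [1, 2, 1, 3, 2, 3],
  [1, 2, 2, 3, 1, 3],
  [1, 3, 2, 2, 2, 2],
  [1, 1, 1, 1, 1, 1],
  [1, 1, 1, 1, 1, 1],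
  [1, 2, 3, 3, 3, 3],
  [1, 1, 1, 1, 1, 1],
  [1, 1, 1, 1, 1, 1],
  [1, 1, 1, 1, 1, 1],
  [1, 1, 1, 1, 1, 1],
  [1, 1, 1, 1, 1, 1],
  [1, 1, 1, 1, 1, 1],
  [1, 1, 2, 3, 1, 1],
  [1, 1, 3, 2, 1, 1],
  [1, 2, 3, 3, 3, 3],
  [1, 3, 2, 2, 2, 2],
  [1, 1, 1, 1, 1, 1],
  [1, 1, 1, 1, 1, 1],
  [1, 1, 1, 1, 1, 1],
  [1, 1, 3, 2, 1, 1],
  [1, 2, 2, 3, 1, 3],
  [1, 3, 2, 3, 1, 2],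
  [1, 1, 2, 3, 1, 1],
  [1, 1, 1, 1, 1, 1],
  [1, 1, 2, 3, 1, 1],
  [1, 1, 1, 1, 1, 1],
  [1, 2, 1, 3, 2, 3],
  [1, 3, 2, 1, 3, 2],
  [1, 1, 3, 2, 1, 1],
  [1, 1, 1, 1, 1, 1],
  [1, 2, 3, 1, 3, 2],
  [1, 2, 3, 2, 3, 1],
  [1, 1, 1, 1, 1, 1],
  [1, 3, 2, 2, 2, 2],
  [1, 2, 3, 3, 3, 3],
  [1, 1, 1, 1, 1, 1],
  [1, 3, 1, 2, 2, 3],
  [1, 3, 3, 2, 2, 1],
  [1, 2, 3, 3, 3, 3],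
  [1, 1, 1, 1, 1, 1],
  [1, 3, 2, 2, 2, 2],
  [1, 1, 1, 1, 1, 1],
  [1, 1, 3, 2, 1, 1],
  [1, 1, 2, 3, 1, 1],
  [1, 3, 2, 2, 2, 2],
  [1, 2, 3, 3, 3, 3],
  [1, 1, 1, 1, 1, 1],
  [1, 1, 1, 1, 1, 1],
  [1, 1, 1, 1, 1, 1],
  [1, 1, 1, 1, 1, 1],
  [1, 1, 1, 1, 1, 1],
  [1, 1, 1, 1, 1, 1],
  [1, 1, 1, 1, 1, 1],
  [1, 1, 1, 1, 1, 1]]

/-- witness function -/
def witK (a b c : Fin 6) : Fin 6 → Fin 4 :=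
  fun i => (witL.getD (36 * a.val + 6 * b.val + c.val) []).getD i.val 1

theorem wit_ne : ∀ a b c i : Fin 6, witK a b c i ≠ 0 := by decide +kernel

theorem wit_valid : ∀ a b c : Fin 6, a ≠ b → a ≠ c → b ≠ c →
    validK (swap a b * swap a c) (witK a b c) := by decide +kernel

end Cfsg.Agent.helper8.Hexa
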