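import Mathlib
import Cfsg.Agent.Lib_helper8_Hexa2

set_option autoImplicit false

namespace Cfsg.Agent.helper8.Hexa

open Cfsg Equiv

theorem vec_eta {α : Type*} (f : Fin 6 → α) : f = ![f 0, f 1, f 2, f 3, f 4, f 5] := by
  funext i
  fin_cases i <;> rfl

theorem alt_le_of_three (P : Subgroup (Perm (Fin 6)))
    (h : ∀ a b c : Fin 6, a ≠ b → a ≠ c → b ≠ c → swap a b * swap a c ∈ P) :
    alternatingGroup (Fin 6) ≤ P := by
  have hsame : ∀ a b c : Fin 6, a ≠ b → a ≠ c → swap a b * swap a c ∈ P := by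
    intro a b c ab ac
    by_cases bc : b = c
    · subst bc
      simp [one_mem]
    · exact h a b c ab ac bc
  have hswap : ∀ σ τ : Perm (Fin 6), σ.IsSwap → τ.IsSwap → σ * τ ∈ P := by
    rintro σ τ ⟨a, b, ab, rfl⟩ ⟨c, d, cd, rfl⟩
    by_cases ac : a = c
    · subst ac
      exact hsame a b d ab cd
    have h' : swap a b * swap c d = swap a b * swap a c * (swap c a * swap c d) := by
      simp [swap_comm c a, mul_assoc]
    rw [h']
    exact mul_mem (hsame a b c ab ac) (hsame c a d (Ne.symm ac) cd)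
  intro σ hσ
  suffices hind : ∀ (n : ℕ) (l : List (Perm (Fin 6))) (_ : ∀ g, g ∈ l → g.IsSwap)
      (_ : l.length = 2 * n), l.prod ∈ P by
    obtain ⟨l, rfl, hl⟩ := Equiv.Perm.truncSwapFactors σ
    obtain ⟨n, hn⟩ := (Equiv.Perm.prod_list_swap_mem_alternatingGroup_iff_even_length hl).1 hσ
    rw [← two_mul] at hn
    exact hind n l hl hn
  intro n
  induction n with
  | zero =>
    intro l hl hn
    simp [List.length_eq_zero_iff.1 hn, one_mem]
  | succ n ih =>
    intro l hl hn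
    rw [Nat.mul_succ] at hn
    obtain ⟨a, l, rfl⟩ := l.exists_of_length_succ hn
    rw [List.length_cons, Nat.succ_inj] at hn
    obtain ⟨b, l, rfl⟩ := l.exists_of_length_succ hn
    rw [List.prod_cons, List.prod_cons, ← mul_assoc]
    apply mul_mem
    · exact hswap a b (hl a (by simp)) (hl b (by simp))
    · exact ih l (fun g hg => hl g (by simp [hg])) (by simpa using hn)

section abstract

variable {F : Type*} [Field F] (ω : F)

/-- validity of a monomial map -/
def Valid (σ : Perm (Fin 6)) (c : Fin 6 → Fˣ) : Prop :=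
  ∀ x ∈ hexacode F ω, monomialMap σ c x ∈ hexacode F ω

/-- the monomial map as a linear map -/
def monoLin (σ : Perm (Fin 6)) (c : Fin 6 → Fˣ) : (Fin 6 → F) →ₗ[F] (Fin 6 → F) where
  toFun := monomialMap σ c
  map_add' x y := by
    funext i
    simp only [monomialMap, Pi.add_apply, mul_add]
  map_smul' r x := by
    funext i
    simp only [monomialMap, Pi.smul_apply, smul_eq_mul, RingHom.id_apply]
    ring

theorem valid_iff_gens (h2 : (2 : F) = 0) (hω : ω ^ 2 + ω + 1 = 0) (σ : Perm (Fin 6))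
    (c : Fin 6 → Fˣ) :
    Valid ω σ c ↔ ∀ k : Fin 3, monomialMap σ c (phiV ω (wK k)) ∈ hexacode F ω := by
  constructor
  · intro h k
    apply h
    rw [hexacode_eq ω h2 hω]
    apply Submodule.subset_span
    fin_cases k <;> simp
  · intro h
    have hle : hexacode F ω ≤ (hexacode F ω).comap (monoLin σ c) := by
      conv_lhs => rw [hexacode_eq ω h2 hω]
      rw [Submodule.span_le]
      intro v hv
      simp only [Set.mem_insert_iff, Set.mem_singleton_iff] at hv
      rcases hv with rfl | rfl | rfl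
      · exact h 0
      · exact h 1
      · exact h 2
    exact fun x hx => hle hx

theorem mono_phiV (h2 : (2 : F) = 0) (hω : ω ^ 2 + ω + 1 = 0) (σ : Perm (Fin 6))
    (c : Fin 6 → Fˣ) (cK : Fin 6 → Fin 4) (hcK : ∀ i, phi ω (cK i) = (c i : F))
    (y : Fin 6 → Fin 4) :
    monomialMap σ c (phiV ω y) = phiV ω (fun i => mulK (cK i) (y (σ.symm i))) := by
  funext i
  simp only [monomialMap, phiV, phi_mul ω h2 hω, hcK]

theorem valid_iff_validK [Fintype F] (hF : Fintype.card F = 4) (hω : ω ^ 2 + ω + 1 = 0)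
    (σ : Perm (Fin 6)) (c : Fin 6 → Fˣ) (cK : Fin 6 → Fin 4)
    (hcK : ∀ i, phi ω (cK i) = (c i : F)) : Valid ω σ c ↔ validK σ cK := by
  have h2 := two_eq_zero hF
  rw [valid_iff_gens ω h2 hω]
  unfold validK
  refine forall_congr' fun k => ?_
  rw [mono_phiV ω h2 hω σ c cK hcK, mem_hexacode_iff ω hF hω, memK_iff]
  constructor
  · rintro ⟨a, b, c', h⟩
    exact ⟨a, b, c', (phiV_injective ω h2 hω h).symm⟩
  · rintro ⟨a, b, c', h⟩
    exact ⟨a, b, c', by rw [h]⟩

theorem exists_cK [Fintype F] (hF : Fintype.card F = 4) (hω : ω ^ 2 + ω + 1 = 0)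
    (c : Fin 6 → Fˣ) :
    ∃ cK : Fin 6 → Fin 4, (∀ i, phi ω (cK i) = (c i : F)) ∧ ∀ i, cK i ≠ 0 := by
  choose cK hcK using fun i => (phi_bijective ω hF hω).2 (c i : F)
  refine ⟨cK, hcK, fun i h0 => ?_⟩
  have := hcK i
  rw [h0, phi_zero] at this
  exact (c i).ne_zero this.symm

theorem diag_const [Fintype F] (hF : Fintype.card F = 4) (hω : ω ^ 2 + ω + 1 = 0)
    (c : Fin 6 → Fˣ) (h : Valid ω 1 c) : ∀ i j, c i = c j := by
  obtain ⟨cK, hcK, hne⟩ := exists_cK ω hF hω c
  have hv := (valid_iff_validK ω hF hω 1 c cK hcK).mp h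
  rw [vec_eta cK] at hv
  obtain ⟨e1, e2, e3, e4, e5⟩ :=
    diagK _ _ _ _ _ _ (hne 0) (hne 1) (hne 2) (hne 3) (hne 4) (hne 5) hv
  have hall : ∀ i, cK i = cK 0 := by
    intro i
    fin_cases i
    exacts [rfl, e1.symm, e2.symm, e3.symm, e4.symm, e5.symm]
  intro i j
  apply Units.ext
  rw [← hcK i, ← hcK j, hall i, hall j]

theorem not_valid_swap [Fintype F] (hF : Fintype.card F = 4) (hω : ω ^ 2 + ω + 1 = 0)
    (c : Fin 6 → Fˣ) : ¬ Valid ω (swap 0 1) c := by
  intro h
  obtain ⟨cK, hcK, hne⟩ := exists_cK ω hF hω c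
  have hv := (valid_iff_validK ω hF hω _ c cK hcK).mp h
  rw [vec_eta cK] at hv
  exact swapK _ _ _ _ _ _ (hne 0) (hne 1) (hne 2) (hne 3) (hne 4) (hne 5) hv

theorem three_valid [Fintype F] (hF : Fintype.card F = 4) (hω : ω ^ 2 + ω + 1 = 0)
    (a b c : Fin 6) (ab : a ≠ b) (ac : a ≠ c) (bc : b ≠ c) :
    ∃ c' : Fin 6 → Fˣ, Valid ω (swap a b * swap a c) c' := by
  have h2 := two_eq_zero hF
  refine ⟨fun i => Units.mk0 (phi ω (witK a b c i))
    ((phi_ne_zero_iff ω h2 hω _).mpr (wit_ne a b c i)), ?_⟩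
  rw [valid_iff_validK ω hF hω _ _ (witK a b c) (fun i => rfl)]
  exact wit_valid a b c ab ac bc

theorem mono_mul (σ τ : Perm (Fin 6)) (c d : Fin 6 → Fˣ) (x : Fin 6 → F) :
    monomialMap σ c (monomialMap τ d x) =
      monomialMap (σ * τ) (fun i => c i * d (σ.symm i)) x := by
  funext i
  simp only [monomialMap, Units.val_mul]
  have : (σ * τ).symm i = τ.symm (σ.symm i) := rfl
  rw [this]
  ring

theorem valid_one : Valid ω 1 (fun _ => 1) := by
  intro x hx
  have : monomialMap 1 (fun _ => (1 : Fˣ)) x = x := by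
    funext i
    simp only [monomialMap, Units.val_one, one_mul]
    rfl
  rw [this]
  exact hx

theorem valid_mul {σ τ : Perm (Fin 6)} {c d : Fin 6 → Fˣ} (hσ : Valid ω σ c)
    (hτ : Valid ω τ d) : Valid ω (σ * τ) (fun i => c i * d (σ.symm i)) := by
  intro x hx
  rw [← mono_mul]
  exact hσ _ (hτ _ hx)

theorem mono_injective (σ : Perm (Fin 6)) (c : Fin 6 → Fˣ) :
    Function.Injective (monomialMap σ c : (Fin 6 → F) → (Fin 6 → F)) := by
  intro x y h
  funext i
  have := congrFun h (σ i)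
  simp only [monomialMap, Equiv.symm_apply_apply] at this
  exact (Units.mul_right_inj _).mp this

theorem valid_surj [Finite F] {σ : Perm (Fin 6)} {c : Fin 6 → Fˣ} (h : Valid ω σ c)
    {y : Fin 6 → F} (hy : y ∈ hexacode F ω) :
    ∃ x ∈ hexacode F ω, monomialMap σ c x = y := by
  let g : ↥(hexacode F ω) → ↥(hexacode F ω) := fun x => ⟨monomialMap σ c x.1, h x.1 x.2⟩
  have hinj : Function.Injective g := by
    intro x x' hxx
    exact Subtype.ext (mono_injective σ c (congrArg Subtype.val hxx))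
  obtain ⟨x, hx⟩ := (Finite.injective_iff_surjective.mp hinj) ⟨y, hy⟩
  exact ⟨x.1, x.2, congrArg Subtype.val hx⟩

theorem valid_inv [Finite F] {σ : Perm (Fin 6)} {c : Fin 6 → Fˣ} (h : Valid ω σ c) :
    Valid ω σ⁻¹ (fun i => (c (σ i))⁻¹) := by
  intro y hy
  obtain ⟨x, hx, rfl⟩ := valid_surj ω h hy
  have : monomialMap σ⁻¹ (fun i => (c (σ i))⁻¹) (monomialMap σ c x) = x := by
    funext i
    simp only [monomialMap]
    have e1 : (σ⁻¹).symm i = σ i := rfl
    rw [e1, Equiv.symm_apply_apply, ← mul_assoc, ← Units.val_mul, inv_mul_cancel,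
      Units.val_one, one_mul]
  rw [this]
  exact hx

/-- the permutation parts of the monomial automorphisms -/
def autPerm [Finite F] : Subgroup (Perm (Fin 6)) where
  carrier := {σ | ∃ c, Valid ω σ c}
  one_mem' := ⟨_, valid_one ω⟩
  mul_mem' := by
    rintro σ τ ⟨c, hc⟩ ⟨d, hd⟩
    exact ⟨_, valid_mul ω hc hd⟩
  inv_mem' := by
    rintro σ ⟨c, hc⟩
    exact ⟨_, valid_inv ω hc⟩

theorem autPerm_eq [Fintype F] (hF : Fintype.card F = 4) (hω : ω ^ 2 + ω + 1 = 0) :
    autPerm ω = alternatingGroup (Fin 6) := by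
  have hle : alternatingGroup (Fin 6) ≤ autPerm ω :=
    alt_le_of_three _ (fun a b c ab ac bc => three_valid ω hF hω a b c ab ac bc)
  apply le_antisymm _ hle
  intro σ hσ
  by_contra hodd
  have h1 : σ * swap 0 1 ∈ alternatingGroup (Fin 6) := by
    rw [Equiv.Perm.mem_alternatingGroup] at hodd ⊢
    rw [map_mul, Equiv.Perm.sign_swap (by decide)]
    rcases Int.units_eq_one_or (Equiv.Perm.sign σ) with h | h
    · exact absurd h hodd
    · rw [h]
      rfl
  have h2 : swap 0 1 ∈ autPerm ω := by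
    have := mul_mem (inv_mem hσ) (hle h1)
    rwa [inv_mul_cancel_left] at this
  obtain ⟨c, hc⟩ := h2
  exact not_valid_swap ω hF hω c hc

theorem valid_smul {σ : Perm (Fin 6)} {c₀ : Fin 6 → Fˣ} (u : Fˣ) (h : Valid ω σ c₀) :
    Valid ω σ (fun i => u * c₀ i) := by
  intro x hx
  have : monomialMap σ (fun i => u * c₀ i) x = (u : F) • monomialMap σ c₀ x := by
    funext i
    simp only [monomialMap, Units.val_mul, Pi.smul_apply, smul_eq_mul, mul_assoc]
  rw [this]
  exact Submodule.smul_mem _ _ (h x hx)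

theorem valid_iff_smul [Fintype F] (hF : Fintype.card F = 4) (hω : ω ^ 2 + ω + 1 = 0)
    {σ : Perm (Fin 6)} {c₀ : Fin 6 → Fˣ} (h₀ : Valid ω σ c₀) (c : Fin 6 → Fˣ) :
    Valid ω σ c ↔ ∃ u : Fˣ, c = fun i => u * c₀ i := by
  constructor
  · intro hc
    have hd : Valid ω 1 (fun i => c i * (c₀ i)⁻¹) := by
      intro y hy
      obtain ⟨x, hx, rfl⟩ := valid_surj ω h₀ hy
      have : monomialMap 1 (fun i => c i * (c₀ i)⁻¹) (monomialMap σ c₀ x) =
          monomialMap σ c x := by
        funext i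
        simp only [monomialMap, Units.val_mul]
        have e : (1 : Perm (Fin 6)).symm i = i := rfl
        rw [e, mul_assoc, ← mul_assoc (((c₀ i)⁻¹ : Fˣ) : F), ← Units.val_mul, inv_mul_cancel,
          Units.val_one, one_mul]
      rw [this]
      exact hc x hx
    have hconst := diag_const ω hF hω _ hd
    refine ⟨c 0 * (c₀ 0)⁻¹, ?_⟩
    funext i
    have := hconst i 0
    rw [← this, inv_mul_cancel_right]
  · rintro ⟨u, rfl⟩
    exact valid_smul ω u h₀

theorem card_fiber [Fintype F] (hF : Fintype.card F = 4) (hω : ω ^ 2 + ω + 1 = 0)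
    {σ : Perm (Fin 6)} {c₀ : Fin 6 → Fˣ} (h₀ : Valid ω σ c₀) :
    Nat.card {c : Fin 6 → Fˣ // Valid ω σ c} = 3 := by
  have e : Fˣ ≃ {c : Fin 6 → Fˣ // Valid ω σ c} :=
    Equiv.ofBijective (fun u => ⟨fun i => u * c₀ i, valid_smul ω u h₀⟩) (by
      constructor
      · intro u u' h
        have := congrFun (congrArg Subtype.val h) 0
        exact mul_right_cancel this
      · rintro ⟨c, hc⟩
        obtain ⟨u, rfl⟩ := (valid_iff_smul ω hF hω h₀ c).mp hc
        exact ⟨u, rfl⟩)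
  rw [← Nat.card_congr e, Nat.card_units, Nat.card_eq_fintype_card, hF]

theorem card_aut [Fintype F] (hF : Fintype.card F = 4) (hω : ω ^ 2 + ω + 1 = 0) :
    Nat.card {f : Perm (Fin 6) × (Fin 6 → Fˣ) //
      ∀ x ∈ hexacode F ω, monomialMap f.1 f.2 x ∈ hexacode F ω} = 1080 := by
  classical
  change Nat.card {f : Perm (Fin 6) × (Fin 6 → Fˣ) // Valid ω f.1 f.2} = 1080
  rw [Nat.card_congr (Equiv.subtypeProdEquivSigmaSubtype (fun σ c => Valid ω σ c))]
  rw [Nat.card_sigma]
  have hfib : ∀ σ : Perm (Fin 6), Nat.card {c : Fin 6 → Fˣ // Valid ω σ c} =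
      if σ ∈ alternatingGroup (Fin 6) then 3 else 0 := by
    intro σ
    split_ifs with h
    · rw [← autPerm_eq ω hF hω] at h
      obtain ⟨c₀, h₀⟩ := h
      exact card_fiber ω hF hω h₀
    · have : IsEmpty {c : Fin 6 → Fˣ // Valid ω σ c} :=
        ⟨fun ⟨c, hc⟩ => h (by rw [← autPerm_eq ω hF hω]; exact ⟨c, hc⟩)⟩
      exact Nat.card_of_isEmpty
  simp_rw [hfib]
  rw [Finset.sum_ite, Finset.sum_const, Finset.sum_const_zero, add_zero, smul_eq_mul]
  have hA : (Finset.univ.filter fun σ : Perm (Fin 6) => σ ∈ alternatingGroup (Fin 6)).card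
      = 360 := by
    rw [← Fintype.card_of_subtype (p := fun σ : Perm (Fin 6) => σ ∈ alternatingGroup (Fin 6))
      _ (by simp)]
    have := card_alternatingGroup (α := Fin 6)
    rw [Fintype.card_fin] at this
    exact this
  rw [hA]

end abstract

end Cfsg.Agent.helper8.Hexa
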