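import Mathlib
import Cfsg.Agent.S0948
import Cfsg.Agent.Lib_helper10_Sylow
import Cfsg.Agent.Lib_helper24_BlockOrth3
import Cfsg.Agent.Lib_helper24_SecondMain2

set_option autoImplicit false
set_option linter.style.haveILetI false
set_option linter.unusedVariables false
set_option linter.unusedSectionVars false

namespace Cfsg.Agent.helper8.KleinCount

open Cfsg

universe u

section Basic

variable {G : Type u} [Group G]

theorem inv_eq_self_of_sq {a : G} (ha : a * a = 1) : a⁻¹ = a :=
  inv_eq_of_mul_eq_one_left ha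

theorem sq_of_orderOf_two {a : G} (ha : orderOf a = 2) : a * a = 1 := by
  rw [← sq, ← ha]
  exact pow_orderOf_eq_one a

theorem orderOf_two_of_sq {a : G} (ha : a * a = 1) (h1 : a ≠ 1) : orderOf a = 2 := by
  have h3 : orderOf a ∣ 2 := orderOf_dvd_of_pow_eq_one (by rw [sq]; exact ha)
  rcases (Nat.dvd_prime Nat.prime_two).mp h3 with h | h
  · exact absurd (orderOf_eq_one_iff.mp h) h1
  · exact h

/-- two involutions whose product has odd order are conjugate by a power of the product -/
theorem dihedral_conj {a b : G} (ha : a * a = 1) (hb : b * b = 1)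
    (hodd : Odd (orderOf (a * b))) :
    ∃ r ∈ Subgroup.zpowers (a * b), a = r * b * r⁻¹ := by
  obtain ⟨k, hk⟩ := hodd
  refine ⟨(a * b) ^ (k + 1), Subgroup.npow_mem_zpowers _ _, ?_⟩
  obtain ⟨w, hw⟩ : ∃ w : G, w = a * b := ⟨_, rfl⟩
  rw [← hw] at hk ⊢
  have hbinv : b⁻¹ = b := inv_eq_self_of_sq hb
  have hainv : a⁻¹ = a := inv_eq_self_of_sq ha
  have hconj : b * w * b⁻¹ = w⁻¹ := by
    rw [hw, hbinv, mul_inv_rev, hainv, hbinv]
    rw [mul_assoc, mul_assoc, hb, mul_one]
  have hconjpow : b * w ^ (k + 1) * b⁻¹ = (w ^ (k + 1))⁻¹ := by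
    rw [← conj_pow, hconj, inv_pow]
  have hsq : w ^ (k + 1) * w ^ (k + 1) = w := by
    rw [← pow_add]
    have : k + 1 + (k + 1) = orderOf w + 1 := by omega
    rw [this, pow_succ, pow_orderOf_eq_one, one_mul]
  have h1 : b * (w ^ (k + 1))⁻¹ * b⁻¹ = w ^ (k + 1) := by
    have h2 : (b * w ^ (k + 1) * b⁻¹)⁻¹ = b * (w ^ (k + 1))⁻¹ * b⁻¹ := by group
    rw [← h2, hconjpow, inv_inv]
  calc a = w * b := by rw [hw, mul_assoc, hb, mul_one]
    _ = w ^ (k + 1) * w ^ (k + 1) * b := by rw [hsq]
    _ = w ^ (k + 1) * (b * (w ^ (k + 1))⁻¹ * b⁻¹) * b := by rw [h1]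
    _ = w ^ (k + 1) * b * (w ^ (k + 1))⁻¹ := by group

theorem isPGroup_zpowers_of_sq {a : G} (ha : a * a = 1) : IsPGroup 2 (Subgroup.zpowers a) := by
  rintro ⟨g, hg⟩
  obtain ⟨n, rfl⟩ := Subgroup.mem_zpowers_iff.1 hg
  refine ⟨1, Subtype.ext ?_⟩
  show (a ^ n) ^ (2 ^ 1) = 1
  rw [pow_one, sq, ← zpow_add, ← two_mul, zpow_mul, zpow_two, ha, one_zpow]

theorem zpowers_le_normalizer_of_commute {a : G} (K : Subgroup G)
    (h : ∀ k ∈ K, a * k = k * a) : Subgroup.zpowers a ≤ Subgroup.normalizer (K : Set G) := by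
  apply Subgroup.zpowers_le.2
  rw [Subgroup.mem_normalizer_iff]
  intro k
  constructor
  · intro hk
    rw [h k hk, mul_inv_cancel_right]
    exact hk
  · intro hk
    have h1 := h _ hk
    have h2 : a * k * a⁻¹ = k := by
      have e : a * (a * k * a⁻¹) = a * k := by
        rw [h1]
        group
      exact mul_left_cancel e
    rw [← h2]
    exact hk

end Basic

section Sylow

variable {G : Type u} [Group G] [Finite G]

/-- a 2-subgroup can be conjugated into the Sylow subgroup -/
theorem two_group_conj (P : Sylow 2 G) (R : Subgroup G) (hR : IsPGroup 2 R) :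
    ∃ g : G, ∀ r ∈ R, g * r * g⁻¹ ∈ (P : Subgroup G) := by
  haveI : Fact (Nat.Prime 2) := ⟨Nat.prime_two⟩
  obtain ⟨g, hg⟩ := Cfsg.Agent.helper10.pgroup_conj_into_sylow P R hR
  exact ⟨g, fun r hr => hg (Cfsg.Agent.helper10.conj_mem_map_conj R g r hr)⟩

/-- 2-elements are involutions or trivial -/
theorem two_elt_sq (P : Sylow 2 G) (hP : IsKleinFour (P : Subgroup G)) (g : G)
    (hg : ∃ k : ℕ, orderOf g = 2 ^ k) : g * g = 1 := by
  obtain ⟨k, hk⟩ := hg
  have hR : IsPGroup 2 (Subgroup.zpowers g) := by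
    apply IsPGroup.of_card (n := k)
    rw [Nat.card_zpowers, hk]
  obtain ⟨x, hx⟩ := two_group_conj P _ hR
  have h1 := hx g (Subgroup.mem_zpowers g)
  have h2 : (x * g * x⁻¹) * (x * g * x⁻¹) = 1 := by
    by_cases h : x * g * x⁻¹ = 1
    · rw [h, one_mul]
    · exact sq_of_orderOf_two (Cfsg.Agent.S0948.klein_elems _ hP _ h1 h)
  have h3 : x * (g * g) * x⁻¹ = 1 := by
    rw [← h2]
    group
  have h4 : g * g = x⁻¹ * (x * (g * g) * x⁻¹) * x := by group
  rw [h4, h3]
  group

/-- two commuting involutions can be conjugated into the Sylow subgroup -/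
theorem comm_inv_conj (P : Sylow 2 G) {a b : G} (ha : a * a = 1) (hb : b * b = 1)
    (hab : a * b = b * a) :
    ∃ g : G, g * a * g⁻¹ ∈ (P : Subgroup G) ∧ g * b * g⁻¹ ∈ (P : Subgroup G) := by
  have hR : IsPGroup 2 ((Subgroup.zpowers a ⊔ Subgroup.zpowers b : Subgroup G)) := by
    apply IsPGroup.to_sup_of_normal_right' (isPGroup_zpowers_of_sq ha) (isPGroup_zpowers_of_sq hb)
    apply zpowers_le_normalizer_of_commute
    intro k hk
    obtain ⟨n, rfl⟩ := Subgroup.mem_zpowers_iff.1 hk
    exact ((show Commute a b from hab).zpow_right n).eq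
  obtain ⟨g, hg⟩ := two_group_conj P _ hR
  exact ⟨g, hg a (Subgroup.mem_sup_left (Subgroup.mem_zpowers a)),
    hg b (Subgroup.mem_sup_right (Subgroup.mem_zpowers b))⟩

/-- an involution centralizing the Sylow subgroup lies in it -/
theorem cent_inv_mem (P : Sylow 2 G) {c : G} (hc : c * c = 1)
    (hcP : ∀ x ∈ (P : Subgroup G), c * x = x * c) : c ∈ (P : Subgroup G) := by
  have hR : IsPGroup 2 ((Subgroup.zpowers c ⊔ (P : Subgroup G) : Subgroup G)) := by
    apply IsPGroup.to_sup_of_normal_right' (isPGroup_zpowers_of_sq hc) P.isPGroup'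
    exact zpowers_le_normalizer_of_commute _ hcP
  have h1 := P.is_maximal' hR le_sup_right
  have h2 : c ∈ Subgroup.zpowers c ⊔ (P : Subgroup G) :=
    Subgroup.mem_sup_left (Subgroup.mem_zpowers c)
  rw [h1] at h2
  exact h2

/-- the elements of a four-group -/
theorem klein_four_elems (P : Sylow 2 G) (hP : IsKleinFour (P : Subgroup G)) {a b : G}
    (haP : a ∈ (P : Subgroup G)) (hbP : b ∈ (P : Subgroup G)) (ha1 : a ≠ 1) (hb1 : b ≠ 1)
    (hab : a ≠ b) : ∀ x ∈ (P : Subgroup G), x = 1 ∨ x = a ∨ x = b ∨ x = a * b := by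
  classical
  haveI : Fintype (P : Subgroup G) := Fintype.ofFinite _
  have ha2 := sq_of_orderOf_two (Cfsg.Agent.S0948.klein_elems _ hP a haP ha1)
  have hb2 := sq_of_orderOf_two (Cfsg.Agent.S0948.klein_elems _ hP b hbP hb1)
  have habP : a * b ∈ (P : Subgroup G) := Subgroup.mul_mem _ haP hbP
  obtain ⟨S, hS⟩ : ∃ S : Finset (P : Subgroup G),
    S = {1, ⟨a, haP⟩, ⟨b, hbP⟩, ⟨a * b, habP⟩} := ⟨_, rfl⟩
  have hcard : S.card = 4 := by
    rw [hS]
    have h1 : (⟨b, hbP⟩ : (P : Subgroup G)) ∉ ({⟨a * b, habP⟩} : Finset (P : Subgroup G)) := by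
      rw [Finset.mem_singleton]
      intro h
      have h' : b = a * b := congrArg Subtype.val h
      apply ha1
      have : a * b = 1 * b := by rw [one_mul]; exact h'.symm
      exact mul_right_cancel this
    have h2 : (⟨a, haP⟩ : (P : Subgroup G)) ∉
        ({⟨b, hbP⟩, ⟨a * b, habP⟩} : Finset (P : Subgroup G)) := by
      rw [Finset.mem_insert, Finset.mem_singleton]
      rintro (h | h)
      · exact hab (congrArg Subtype.val h)
      · have h' : a = a * b := congrArg Subtype.val h
        apply hb1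
        have : a * b = a * 1 := by rw [mul_one]; exact h'.symm
        exact mul_left_cancel this
    have h3 : (1 : (P : Subgroup G)) ∉
        ({⟨a, haP⟩, ⟨b, hbP⟩, ⟨a * b, habP⟩} : Finset (P : Subgroup G)) := by
      rw [Finset.mem_insert, Finset.mem_insert, Finset.mem_singleton]
      rintro (h | h | h)
      · exact ha1 (congrArg Subtype.val h).symm
      · exact hb1 (congrArg Subtype.val h).symm
      · have h' : 1 = a * b := congrArg Subtype.val h
        apply hab
        have h4 : a * b = a * a := by rw [ha2]; exact h'.symm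
        exact (mul_left_cancel h4).symm
    rw [Finset.card_insert_of_notMem h3, Finset.card_insert_of_notMem h2,
      Finset.card_insert_of_notMem h1, Finset.card_singleton]
  have huniv : S = Finset.univ := by
    apply Finset.eq_univ_of_card
    rw [hcard, Fintype.card_eq_nat_card, hP.card_four]
  intro x hx
  have hxS : (⟨x, hx⟩ : (P : Subgroup G)) ∈ S := by
    rw [huniv]
    exact Finset.mem_univ _
  rw [hS, Finset.mem_insert, Finset.mem_insert, Finset.mem_insert, Finset.mem_singleton] at hxS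
  rcases hxS with h | h | h | h
  · exact Or.inl (congrArg Subtype.val h)
  · exact Or.inr (Or.inl (congrArg Subtype.val h))
  · exact Or.inr (Or.inr (Or.inl (congrArg Subtype.val h)))
  · exact Or.inr (Or.inr (Or.inr (congrArg Subtype.val h)))

end Sylow

section Fusion

variable {G : Type u} [Group G] [Finite G]

theorem conj_sq {g a : G} (ha : a * a = 1) : (g * a * g⁻¹) * (g * a * g⁻¹) = 1 := by
  have : (g * a * g⁻¹) * (g * a * g⁻¹) = g * (a * a) * g⁻¹ := by group
  rw [this, ha]
  group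

theorem conj_comm {g a b : G} (hab : a * b = b * a) :
    (g * a * g⁻¹) * (g * b * g⁻¹) = (g * b * g⁻¹) * (g * a * g⁻¹) := by
  have h1 : (g * a * g⁻¹) * (g * b * g⁻¹) = g * (a * b) * g⁻¹ := by group
  have h2 : (g * b * g⁻¹) * (g * a * g⁻¹) = g * (b * a) * g⁻¹ := by group
  rw [h1, h2, hab]

theorem conj_eq_iff {g a b : G} : g * a * g⁻¹ = g * b * g⁻¹ ↔ a = b := by
  constructor
  · intro h
    have : a = g⁻¹ * (g * a * g⁻¹) * g := by group
    rw [this, h]
    group
  · intro h
    rw [h]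

/-- an involution commuting with two distinct commuting involutions lies in their four-group -/
theorem three_comm (P : Sylow 2 G) (hP : IsKleinFour (P : Subgroup G)) {t j z : G}
    (ht : t * t = 1) (hj : j * j = 1) (hz : z * z = 1) (ht1 : t ≠ 1) (hj1 : j ≠ 1)
    (htj : t ≠ j) (hc1 : t * j = j * t) (hc2 : z * t = t * z) (hc3 : z * j = j * z) :
    z = 1 ∨ z = t ∨ z = j ∨ z = t * j := by
  obtain ⟨g, hgt, hgj⟩ := comm_inv_conj P ht hj hc1
  have ha1 : g * t * g⁻¹ ≠ 1 := by
    intro h
    apply ht1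
    have e : g * t * g⁻¹ = g * 1 * g⁻¹ := by rw [h]; group
    exact conj_eq_iff.1 e
  have hb1 : g * j * g⁻¹ ≠ 1 := by
    intro h
    apply hj1
    have e : g * j * g⁻¹ = g * 1 * g⁻¹ := by rw [h]; group
    exact conj_eq_iff.1 e
  have hab : g * t * g⁻¹ ≠ g * j * g⁻¹ := fun h => htj (conj_eq_iff.1 h)
  have hel := klein_four_elems P hP hgt hgj ha1 hb1 hab
  have hcP : ∀ x ∈ (P : Subgroup G), (g * z * g⁻¹) * x = x * (g * z * g⁻¹) := by
    intro x hx
    rcases hel x hx with h | h | h | h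
    · rw [h, mul_one, one_mul]
    · rw [h]
      exact conj_comm hc2
    · rw [h]
      exact conj_comm hc3
    · rw [h]
      have e : g * t * g⁻¹ * (g * j * g⁻¹) = g * (t * j) * g⁻¹ := by group
      rw [e]
      apply conj_comm
      rw [← mul_assoc, hc2, mul_assoc, hc3, mul_assoc]
  have hzP := cent_inv_mem P (conj_sq (g := g) hz) hcP
  rcases hel _ hzP with h | h | h | h
  · left
    have e : g * z * g⁻¹ = g * 1 * g⁻¹ := by rw [h]; group
    exact conj_eq_iff.1 e
  · right; left
    exact conj_eq_iff.1 h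
  · right; right; left
    exact conj_eq_iff.1 h
  · right; right; right
    have e : g * t * g⁻¹ * (g * j * g⁻¹) = g * (t * j) * g⁻¹ := by group
    rw [e] at h
    exact conj_eq_iff.1 h

/-- the centralizer of an involution of the four-group has a normal 2-complement -/
theorem centralizer_complement (P : Sylow 2 G) (hP : IsKleinFour (P : Subgroup G)) (z : G)
    (hzP : z ∈ (P : Subgroup G)) (hz2 : orderOf z = 2)
    (hPH : (P : Subgroup G) ≤ Subgroup.centralizer ({z} : Set G)) :
    ∃ N : Subgroup (Subgroup.centralizer ({z} : Set G)), N.Normal ∧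
      Subgroup.IsComplement' N ((P.subtype hPH : Sylow 2 (Subgroup.centralizer ({z} : Set G))) :
        Subgroup (Subgroup.centralizer ({z} : Set G))) := by
  classical
  haveI : Fact (Nat.Prime 2) := ⟨Nat.prime_two⟩
  have hPcard : Nat.card (P : Subgroup G) = 4 := hP.card_four
  set Q : Sylow 2 (Subgroup.centralizer ({z} : Set G)) := P.subtype hPH with hQdef
  have hQcoe : (Q : Subgroup (Subgroup.centralizer ({z} : Set G))) =
      (P : Subgroup G).subgroupOf (Subgroup.centralizer ({z} : Set G)) := Sylow.coe_subtype P hPH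
  let eQ : (Q : Subgroup (Subgroup.centralizer ({z} : Set G))) ≃* (P : Subgroup G) :=
    (MulEquiv.subgroupCongr hQcoe).trans (Subgroup.subgroupOfEquivOfLe hPH)
  have hQK : IsKleinFour (Q : Subgroup (Subgroup.centralizer ({z} : Set G))) :=
    ⟨by rw [Nat.card_congr eQ.toEquiv]; exact hPcard,
      by rw [Monoid.exponent_eq_of_mulEquiv eQ]; exact hP.exponent_two⟩
  haveI : IsAddKleinFour (ZMod (2 ^ 1) × ZMod (2 ^ 1)) := by
    show IsAddKleinFour (ZMod 2 × ZMod 2)
    infer_instance
  haveI := hQK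
  obtain ⟨e⟩ : Nonempty ((Q : Subgroup (Subgroup.centralizer ({z} : Set G))) ≃*
      Multiplicative (ZMod (2 ^ 1) × ZMod (2 ^ 1))) := IsKleinFour.nonempty_mulEquiv
  rcases Cfsg.Agent.S0946.result Q 1 le_rfl e with ⟨N, hN, hc⟩ | hall
  · exact ⟨N, hN, hc⟩
  · exfalso
    have hzH : z ∈ Subgroup.centralizer ({z} : Set G) := hPH hzP
    obtain ⟨a, haP, ha1, haz⟩ : ∃ a ∈ (P : Subgroup G), a ≠ 1 ∧ a ≠ z := by
      haveI : Fintype (P : Subgroup G) := Fintype.ofFinite _
      have hlt : ({1, ⟨z, hzP⟩} : Finset (P : Subgroup G)).card <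
          (Finset.univ : Finset (P : Subgroup G)).card := by
        rw [Finset.card_univ, Fintype.card_eq_nat_card, hPcard]
        exact lt_of_le_of_lt (Finset.card_insert_le _ _) (by simp)
      obtain ⟨a, -, ha⟩ := Finset.exists_mem_notMem_of_card_lt_card hlt
      refine ⟨a, a.2, ?_, ?_⟩
      · intro h
        apply ha
        have : a = 1 := Subtype.ext h
        rw [this]
        simp
      · intro h
        apply ha
        have : a = ⟨z, hzP⟩ := Subtype.ext h
        rw [this]
        simp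
    have ha2 : orderOf a = 2 := Cfsg.Agent.S0948.klein_elems _ hP a haP ha1
    have h1 : orderOf (⟨z, hzH⟩ : Subgroup.centralizer ({z} : Set G)) = 2 := by
      rw [← Subgroup.orderOf_coe]
      exact hz2
    have h2 : orderOf (⟨a, hPH haP⟩ : Subgroup.centralizer ({z} : Set G)) = 2 := by
      rw [← Subgroup.orderOf_coe]
      exact ha2
    obtain ⟨c, hc⟩ := isConj_iff.mp (hall _ _ h1 h2)
    have hc' : (c : G) * z * (c : G)⁻¹ = a := by
      have := congrArg Subtype.val hc
      simpa using this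
    have hcz : z * (c : G) = (c : G) * z :=
      Subgroup.mem_centralizer_iff.mp c.2 z (Set.mem_singleton _)
    apply haz
    rw [← hc', ← hcz, mul_inv_cancel_right]

/-- commutators of elements of the centralizer of an involution of the four-group with elements of
the four-group have odd order -/
theorem comm_odd (P : Sylow 2 G) (hP : IsKleinFour (P : Subgroup G)) {a x : G}
    (haP : a ∈ (P : Subgroup G)) (ha2 : orderOf a = 2) (hxP : x ∈ (P : Subgroup G)) (c : G)
    (hca : c * a = a * c) : Odd (orderOf (c * x * c⁻¹ * x⁻¹)) := by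
  classical
  haveI : Fact (Nat.Prime 2) := ⟨Nat.prime_two⟩
  have hPH : (P : Subgroup G) ≤ Subgroup.centralizer ({a} : Set G) := by
    intro y hy
    rw [Subgroup.mem_centralizer_singleton_iff]
    exact Cfsg.Agent.S0948.klein_comm _ hP y hy a haP
  obtain ⟨N, hN, hcomp⟩ := centralizer_complement P hP a haP ha2 hPH
  obtain ⟨Q, hQ⟩ : ∃ Q : Sylow 2 (Subgroup.centralizer ({a} : Set G)), Q = P.subtype hPH :=
    ⟨_, rfl⟩
  rw [← hQ] at hcomp
  have hQmem : ∀ y : Subgroup.centralizer ({a} : Set G),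
      y ∈ (Q : Subgroup (Subgroup.centralizer ({a} : Set G))) ↔ (y : G) ∈ (P : Subgroup G) := by
    intro y
    rw [hQ, Sylow.coe_subtype, Subgroup.mem_subgroupOf]
  have hcH : c ∈ Subgroup.centralizer ({a} : Set G) := by
    rw [Subgroup.mem_centralizer_singleton_iff]
    exact hca
  obtain ⟨⟨n, q⟩, hnq⟩ := hcomp.2 ⟨c, hcH⟩
  have hnq' : (n : Subgroup.centralizer ({a} : Set G)) * (q : Subgroup.centralizer ({a} : Set G)) =
      ⟨c, hcH⟩ := hnq
  have hqP : ((q : Subgroup.centralizer ({a} : Set G)) : G) ∈ (P : Subgroup G) :=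
    (hQmem _).1 q.2
  have hqx : ((q : Subgroup.centralizer ({a} : Set G)) : G) * x =
      x * ((q : Subgroup.centralizer ({a} : Set G)) : G) :=
    Cfsg.Agent.S0948.klein_comm _ hP _ hqP x hxP
  have hxH : x ∈ Subgroup.centralizer ({a} : Set G) := hPH hxP
  -- the commutator lies in `N`
  have hmem : (⟨c, hcH⟩ : Subgroup.centralizer ({a} : Set G)) * ⟨x, hxH⟩ *
      (⟨c, hcH⟩ : Subgroup.centralizer ({a} : Set G))⁻¹ * (⟨x, hxH⟩)⁻¹ ∈ N := by
    rw [← hnq']
    have hq' : (q : Subgroup.centralizer ({a} : Set G)) * ⟨x, hxH⟩ =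
        ⟨x, hxH⟩ * (q : Subgroup.centralizer ({a} : Set G)) := by
      apply Subtype.ext
      push_cast
      exact hqx
    have e : (n : Subgroup.centralizer ({a} : Set G)) * (q : Subgroup.centralizer ({a} : Set G)) *
        ⟨x, hxH⟩ * ((n : Subgroup.centralizer ({a} : Set G)) *
          (q : Subgroup.centralizer ({a} : Set G)))⁻¹ * (⟨x, hxH⟩)⁻¹ =
        (n : Subgroup.centralizer ({a} : Set G)) *
          (⟨x, hxH⟩ * (n : Subgroup.centralizer ({a} : Set G))⁻¹ * (⟨x, hxH⟩)⁻¹) := by
      have e1 : (n : Subgroup.centralizer ({a} : Set G)) *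
          (q : Subgroup.centralizer ({a} : Set G)) * ⟨x, hxH⟩ =
          (n : Subgroup.centralizer ({a} : Set G)) * (⟨x, hxH⟩ *
            (q : Subgroup.centralizer ({a} : Set G))) := by
        rw [mul_assoc, hq']
      rw [e1]
      group
    rw [e]
    exact N.mul_mem n.2 (hN.conj_mem _ (N.inv_mem n.2) _)
  obtain ⟨w, hw⟩ : ∃ w : Subgroup.centralizer ({a} : Set G),
    w = (⟨c, hcH⟩ : Subgroup.centralizer ({a} : Set G)) * ⟨x, hxH⟩ *
      (⟨c, hcH⟩ : Subgroup.centralizer ({a} : Set G))⁻¹ * (⟨x, hxH⟩)⁻¹ := ⟨_, rfl⟩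
  rw [← hw] at hmem
  have hwG : (w : G) = c * x * c⁻¹ * x⁻¹ := by
    rw [hw]
    push_cast
    rfl
  rw [← hwG, Subgroup.orderOf_coe]
  have h1 : orderOf (⟨w, hmem⟩ : N) ∣ Nat.card N := orderOf_dvd_natCard _
  have h2 : orderOf (⟨w, hmem⟩ : N) = orderOf w := by
    rw [← Subgroup.orderOf_coe]
  rw [h2] at h1
  have h3 : (Q : Subgroup (Subgroup.centralizer ({a} : Set G))).index = Nat.card N :=
    hcomp.index_eq_card
  have h4 : ¬ 2 ∣ Nat.card N := by
    rw [← h3]
    exact Q.not_dvd_index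
  rw [← Nat.not_even_iff_odd, even_iff_two_dvd]
  exact fun h => h4 (dvd_trans h h1)

theorem orderOf_conj_eq (g x : G) : orderOf (g * x * g⁻¹) = orderOf x := by
  have := orderOf_injective (MulAut.conj g).toMonoidHom (MulAut.conj g).injective x
  simpa [MulAut.conj_apply] using this

/-- the same for an arbitrary pair of commuting involutions -/
theorem comm_odd' (P : Sylow 2 G) (hP : IsKleinFour (P : Subgroup G)) {t x : G}
    (ht2 : orderOf t = 2) (hx : x * x = 1) (htx : t * x = x * t) (c : G)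
    (hct : c * t = t * c) : Odd (orderOf (c * x * c⁻¹ * x⁻¹)) := by
  obtain ⟨g, hgt, hgx⟩ := comm_inv_conj P (sq_of_orderOf_two ht2) hx htx
  have h1 : orderOf (g * t * g⁻¹) = 2 := by
    rw [← ht2]
    exact orderOf_conj_eq g t
  have h2 : (g * c * g⁻¹) * (g * t * g⁻¹) = (g * t * g⁻¹) * (g * c * g⁻¹) := conj_comm hct
  have h3 := comm_odd P hP hgt h1 hgx (g * c * g⁻¹) h2
  have e : g * c * g⁻¹ * (g * x * g⁻¹) * (g * c * g⁻¹)⁻¹ * (g * x * g⁻¹)⁻¹ =
      g * (c * x * c⁻¹ * x⁻¹) * g⁻¹ := by group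
  rw [e] at h3
  rw [← orderOf_conj_eq g (c * x * c⁻¹ * x⁻¹)]
  exact h3

end Fusion

section TwoPart

variable {G : Type u} [Group G] [Finite G]

/-- an element inverting `w` centralizes every involution among the powers of `w` -/
theorem comm_of_invert {a w t : G} (haw : a * w * a⁻¹ = w⁻¹) (ht : t * t = 1) (n : ℤ)
    (htn : t = w ^ n) : a * t = t * a := by
  have h1 : a * t * a⁻¹ = t⁻¹ := by
    rw [htn, ← conj_zpow, haw, inv_zpow]
  rw [inv_eq_self_of_sq ht] at h1
  calc a * t = (a * t * a⁻¹) * a := by group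
    _ = t * a := by rw [h1]

/-- the 2-part of an element of even order is an involution -/
theorem two_part_inv (P : Sylow 2 G) (hP : IsKleinFour (P : Subgroup G)) (w : G)
    (hw : 2 ∣ orderOf w) :
    ∃ t : G, orderOf t = 2 ∧ (∃ n : ℤ, t = w ^ n) ∧ Odd (orderOf (w * t)) := by
  haveI : Fact (Nat.Prime 2) := ⟨Nat.prime_two⟩
  obtain ⟨t, ht⟩ := Cfsg.Agent.helper24.exists_isPPart 2 w
  have hn := Cfsg.Agent.helper24.ppart_eq_zpow Nat.prime_two ht
  obtain ⟨y, hty, hc, hk, hy⟩ := ht
  have ht2 : t * t = 1 := two_elt_sq P hP t hk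
  have ht1 : t ≠ 1 := by
    rintro rfl
    rw [one_mul] at hty
    rw [hty] at hy
    exact hy hw
  refine ⟨t, orderOf_two_of_sq ht2 ht1, hn, ?_⟩
  have e : w * t = y := by
    rw [← hty, hc.eq, mul_assoc, ht2, mul_one]
  rw [e, ← Nat.not_even_iff_odd, even_iff_two_dvd]
  exact hy

end TwoPart

section Count

variable {G : Type u} [Group G] [Fintype G] [DecidableEq G]

/-- orbit counting for the conjugation action of a centralizer -/
theorem orbit_card (z x : G) :
    (Finset.univ.filter (fun y : G => ∃ c : G, c * z = z * c ∧ c * x * c⁻¹ = y)).card *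
      (Finset.univ.filter (fun c : G => c * z = z * c ∧ c * x = x * c)).card =
    (Finset.univ.filter (fun c : G => c * z = z * c)).card := by
  classical
  obtain ⟨O, hO⟩ : ∃ O : Finset G,
    O = Finset.univ.filter (fun y : G => ∃ c : G, c * z = z * c ∧ c * x * c⁻¹ = y) := ⟨_, rfl⟩
  obtain ⟨S, hS⟩ : ∃ S : Finset G,
    S = Finset.univ.filter (fun c : G => c * z = z * c ∧ c * x = x * c) := ⟨_, rfl⟩
  obtain ⟨C, hC⟩ : ∃ C : Finset G,
    C = Finset.univ.filter (fun c : G => c * z = z * c) := ⟨_, rfl⟩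
  rw [← hO, ← hS, ← hC]
  have memO : ∀ y, y ∈ O ↔ ∃ c : G, c * z = z * c ∧ c * x * c⁻¹ = y := by
    intro y
    rw [hO, Finset.mem_filter]
    simp
  have memS : ∀ c, c ∈ S ↔ (c * z = z * c ∧ c * x = x * c) := by
    intro y
    rw [hS, Finset.mem_filter]
    simp
  have memC : ∀ c, c ∈ C ↔ c * z = z * c := by
    intro y
    rw [hC, Finset.mem_filter]
    simp
  have h1 : C.card = ∑ y ∈ O, (C.filter (fun c => c * x * c⁻¹ = y)).card := by
    apply Finset.card_eq_sum_card_fiberwise
    intro c hc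
    exact (memO _).2 ⟨c, (memC c).1 hc, rfl⟩
  have h2 : ∀ y ∈ O, (C.filter (fun c => c * x * c⁻¹ = y)).card = S.card := by
    intro y hy
    obtain ⟨c₀, hc₀, rfl⟩ := (memO y).1 hy
    have hc₀' : c₀⁻¹ * z = z * c₀⁻¹ := by
      calc c₀⁻¹ * z = c₀⁻¹ * (z * c₀) * c₀⁻¹ := by group
        _ = c₀⁻¹ * (c₀ * z) * c₀⁻¹ := by rw [hc₀]
        _ = z * c₀⁻¹ := by group
    apply Finset.card_bij (fun c _ => c₀⁻¹ * c)
    · intro c hc
      rw [Finset.mem_filter] at hc
      obtain ⟨hcC, hcx⟩ := hc
      have hcz := (memC c).1 hcC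
      rw [memS]
      refine ⟨?_, ?_⟩
      · rw [mul_assoc, hcz, ← mul_assoc, hc₀', mul_assoc]
      · have e1 : c * x = c₀ * x * c₀⁻¹ * c := by
          rw [← hcx]
          group
        calc c₀⁻¹ * c * x = c₀⁻¹ * (c * x) := by group
          _ = c₀⁻¹ * (c₀ * x * c₀⁻¹ * c) := by rw [e1]
          _ = x * (c₀⁻¹ * c) := by group
    · intro a _ b _ h
      exact mul_left_cancel h
    · intro d hd
      obtain ⟨hdz, hdx⟩ := (memS d).1 hd
      refine ⟨c₀ * d, ?_, by group⟩
      rw [Finset.mem_filter, memC]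
      refine ⟨?_, ?_⟩
      · rw [mul_assoc, hdz, ← mul_assoc, hc₀, mul_assoc]
      · calc c₀ * d * x * (c₀ * d)⁻¹ = c₀ * (d * x) * d⁻¹ * c₀⁻¹ := by group
          _ = c₀ * (x * d) * d⁻¹ * c₀⁻¹ := by rw [hdx]
          _ = c₀ * x * c₀⁻¹ := by group
  rw [h1, Finset.sum_congr rfl h2, Finset.sum_const, smul_eq_mul]

/-- the number of elements centralizing `z` is the order of its centralizer -/
theorem card_cent_filter (z : G) :
    (Finset.univ.filter (fun c : G => c * z = z * c)).card =
      Nat.card (Subgroup.centralizer ({z} : Set G)) := by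
  classical
  rw [Nat.card_eq_fintype_card]
  symm
  apply Fintype.card_of_subtype
  intro c
  rw [Finset.mem_filter, Subgroup.mem_centralizer_singleton_iff]
  constructor
  · rintro ⟨_, h⟩
    exact h
  · intro h
    exact ⟨Finset.mem_univ _, h⟩

theorem card_filter_conj (g : G) (p : G → Prop) [DecidablePred p] :
    (Finset.univ.filter (fun c : G => p (g⁻¹ * c * g))).card = (Finset.univ.filter p).card := by
  apply Finset.card_bij (fun c _ => g⁻¹ * c * g)
  · intro c hc
    rw [Finset.mem_filter] at hc ⊢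
    exact ⟨Finset.mem_univ _, hc.2⟩
  · intro a _ b _ h
    exact mul_left_cancel (mul_right_cancel h)
  · intro d hd
    refine ⟨g * d * g⁻¹, ?_, by group⟩
    rw [Finset.mem_filter] at hd ⊢
    refine ⟨Finset.mem_univ _, ?_⟩
    have e : g⁻¹ * (g * d * g⁻¹) * g = d := by group
    rw [e]
    exact hd.2

theorem comm_conj_iff {g c t : G} :
    c * (g * t * g⁻¹) = (g * t * g⁻¹) * c ↔ (g⁻¹ * c * g) * t = t * (g⁻¹ * c * g) := by
  constructor
  · intro h
    calc g⁻¹ * c * g * t = g⁻¹ * (c * (g * t * g⁻¹)) * g := by group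
      _ = g⁻¹ * ((g * t * g⁻¹) * c) * g := by rw [h]
      _ = t * (g⁻¹ * c * g) := by group
  · intro h
    calc c * (g * t * g⁻¹) = g * ((g⁻¹ * c * g) * t) * g⁻¹ := by group
      _ = g * (t * (g⁻¹ * c * g)) * g⁻¹ := by rw [h]
      _ = (g * t * g⁻¹) * c := by group

/-- conjugate elements have centralizers of the same order -/
theorem card_cent_conj (g t : G) :
    (Finset.univ.filter (fun c : G => c * (g * t * g⁻¹) = (g * t * g⁻¹) * c)).card =
    (Finset.univ.filter (fun c : G => c * t = t * c)).card := by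
  rw [← card_filter_conj g (fun c : G => c * t = t * c)]
  congr 1
  apply Finset.filter_congr
  intro c _
  exact comm_conj_iff

/-- the common centralizer of two distinct commuting involutions has the order of `C(P)` -/
theorem cent2_card (P : Sylow 2 G) (hP : IsKleinFour (P : Subgroup G)) {a b : G}
    (ha : a * a = 1) (hb : b * b = 1) (ha1 : a ≠ 1) (hb1 : b ≠ 1) (hab : a ≠ b)
    (hcomm : a * b = b * a) :
    (Finset.univ.filter (fun c : G => c * a = a * c ∧ c * b = b * c)).card =
      Nat.card (Subgroup.centralizer ((P : Subgroup G) : Set G)) := by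
  classical
  obtain ⟨g, hga, hgb⟩ := comm_inv_conj P ha hb hcomm
  have hga1 : g * a * g⁻¹ ≠ 1 := by
    intro h
    apply ha1
    have e : (1 : G) = g * 1 * g⁻¹ := by group
    rw [e] at h
    exact conj_eq_iff.1 h
  have hgb1 : g * b * g⁻¹ ≠ 1 := by
    intro h
    apply hb1
    have e : (1 : G) = g * 1 * g⁻¹ := by group
    rw [e] at h
    exact conj_eq_iff.1 h
  have hgab : g * a * g⁻¹ ≠ g * b * g⁻¹ := fun h => hab (conj_eq_iff.1 h)
  have hel := klein_four_elems P hP hga hgb hga1 hgb1 hgab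
  have h1 : Nat.card (Subgroup.centralizer ((P : Subgroup G) : Set G)) =
      (Finset.univ.filter (fun c : G => c * (g * a * g⁻¹) = (g * a * g⁻¹) * c ∧
        c * (g * b * g⁻¹) = (g * b * g⁻¹) * c)).card := by
    rw [Nat.card_eq_fintype_card]
    apply Fintype.card_of_subtype
    intro c
    rw [Finset.mem_filter, Subgroup.mem_centralizer_iff]
    constructor
    · rintro ⟨_, h1, h2⟩ x hx
      rcases hel x hx with rfl | rfl | rfl | rfl
      · simp
      · exact h1.symm
      · exact h2.symm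
      · rw [mul_assoc, ← h2, ← mul_assoc, ← h1, mul_assoc]
    · intro h
      exact ⟨Finset.mem_univ _, (h _ hga).symm, (h _ hgb).symm⟩
  rw [h1, ← card_filter_conj g (fun c : G => c * a = a * c ∧ c * b = b * c)]
  congr 1
  apply Finset.filter_congr
  intro c _
  rw [comm_conj_iff, comm_conj_iff]

/-- a third involution of the four-group -/
theorem exists_third (P : Sylow 2 G) (hP : IsKleinFour (P : Subgroup G)) {J : G}
    (hJ : J ∈ (P : Subgroup G)) : ∃ t₀ ∈ (P : Subgroup G), t₀ ≠ 1 ∧ t₀ ≠ J := by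
  classical
  by_contra hcon
  push Not at hcon
  haveI : Fintype (P : Subgroup G) := Fintype.ofFinite _
  have hcard : Fintype.card (P : Subgroup G) = 4 := by
    rw [← Nat.card_eq_fintype_card]
    exact hP.card_four
  have hsub : (Finset.univ : Finset (P : Subgroup G)) ⊆ {1, ⟨J, hJ⟩} := by
    intro x _
    rw [Finset.mem_insert, Finset.mem_singleton]
    by_cases hx : (x : G) = 1
    · left
      exact Subtype.ext hx
    · right
      exact Subtype.ext (hcon x x.2 hx)
  have h1 := Finset.card_le_card hsub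
  rw [Finset.card_univ, hcard] at h1
  have h2 : ({1, ⟨J, hJ⟩} : Finset (P : Subgroup G)).card ≤ 2 := Finset.card_le_two
  omega

/-- fusion of involutions of the four-group is controlled by its normalizer -/
theorem fusion_J (P : Sylow 2 G) (hP : IsKleinFour (P : Subgroup G)) {J : G}
    (hJ : J ∈ (P : Subgroup G)) {g : G} (hg : g * J * g⁻¹ ∈ (P : Subgroup G)) :
    ∃ n : G, (∀ x ∈ (P : Subgroup G), n * x * n⁻¹ ∈ (P : Subgroup G)) ∧
      n * (g * J * g⁻¹) * n⁻¹ = J := by
  haveI : Fact (Nat.Prime 2) := ⟨Nat.prime_two⟩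
  have hcent : ∀ y ∈ (P : Subgroup G), y ∈ Subgroup.centralizer ((P : Subgroup G) : Set G) := by
    intro y hy
    rw [Subgroup.mem_centralizer_iff]
    intro h hh
    exact Cfsg.Agent.S0948.klein_comm _ hP h hh y hy
  have h1 := P.conj_eq_normalizer_conj_of_mem_centralizer J g⁻¹ (hcent J hJ)
    (by rw [inv_inv]; exact hcent _ hg)
  obtain ⟨n, hn, hn'⟩ := h1
  rw [inv_inv] at hn'
  refine ⟨n, ?_, ?_⟩
  · intro x hx
    exact (Subgroup.mem_normalizer_iff.1 hn x).1 hx
  · rw [hn']
    group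

end Count

section Count2

variable {G : Type u} [Group G] [Fintype G] [DecidableEq G]

theorem conj_ne_one {g a : G} (ha : a ≠ 1) : g * a * g⁻¹ ≠ 1 := by
  intro h
  apply ha
  have e : (1 : G) = g * 1 * g⁻¹ := by group
  rw [e] at h
  exact conj_eq_iff.1 h

theorem inv_comm_of_comm {c z : G} (h : c * z = z * c) : c⁻¹ * z = z * c⁻¹ := by
  calc c⁻¹ * z = c⁻¹ * (z * c) * c⁻¹ := by group
    _ = c⁻¹ * (c * z) * c⁻¹ := by rw [h]
    _ = z * c⁻¹ := by group

/-- the involutions commuting with `J` other than `J`: two orbits under `C(J)` -/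
theorem T_card (P : Sylow 2 G) (hP : IsKleinFour (P : Subgroup G)) {J : G}
    (hJ : J ∈ (P : Subgroup G)) (hJ2 : orderOf J = 2) :
    (Finset.univ.filter (fun t : G => orderOf t = 2 ∧ t ≠ J ∧ t * J = J * t)).card *
      Nat.card (Subgroup.centralizer ((P : Subgroup G) : Set G)) =
    2 * Nat.card (Subgroup.centralizer ({J} : Set G)) := by
  classical
  have hJJ : J * J = 1 := sq_of_orderOf_two hJ2
  have hJ1 : J ≠ 1 := by
    rintro rfl
    simp at hJ2
  obtain ⟨t₀, ht₀P, ht₀1, ht₀J⟩ := exists_third P hP hJ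
  have ht₀2 : orderOf t₀ = 2 := Cfsg.Agent.S0948.klein_elems _ hP t₀ ht₀P ht₀1
  have ht₀t₀ : t₀ * t₀ = 1 := sq_of_orderOf_two ht₀2
  have hJt₀ : J * t₀ = t₀ * J := Cfsg.Agent.S0948.klein_comm _ hP J hJ t₀ ht₀P
  have hel := klein_four_elems P hP hJ ht₀P hJ1 ht₀1 (Ne.symm ht₀J)
  obtain ⟨x, hx⟩ : ∃ x : G, x = J * t₀ := ⟨_, rfl⟩
  have hxP : x ∈ (P : Subgroup G) := by
    rw [hx]
    exact Subgroup.mul_mem _ hJ ht₀P
  have hx1 : x ≠ 1 := by
    rw [hx]
    intro h
    apply ht₀J
    have : t₀ = J⁻¹ := (eq_inv_of_mul_eq_one_right h)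
    rw [this, inv_eq_self_of_sq hJJ]
  have hxJ : x ≠ J := by
    rw [hx]
    intro h
    apply ht₀1
    have : J * t₀ = J * 1 := by rw [h, mul_one]
    exact mul_left_cancel this
  have hx2 : orderOf x = 2 := Cfsg.Agent.S0948.klein_elems _ hP x hxP hx1
  have hxx : x * x = 1 := sq_of_orderOf_two hx2
  have hJx : J * x = x * J := Cfsg.Agent.S0948.klein_comm _ hP J hJ x hxP
  obtain ⟨O₁, hO₁⟩ : ∃ O : Finset G,
    O = Finset.univ.filter (fun y : G => ∃ c : G, c * J = J * c ∧ c * t₀ * c⁻¹ = y) := ⟨_, rfl⟩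
  obtain ⟨O₂, hO₂⟩ : ∃ O : Finset G,
    O = Finset.univ.filter (fun y : G => ∃ c : G, c * J = J * c ∧ c * x * c⁻¹ = y) := ⟨_, rfl⟩
  have memO₁ : ∀ y, y ∈ O₁ ↔ ∃ c : G, c * J = J * c ∧ c * t₀ * c⁻¹ = y := by
    intro y
    rw [hO₁, Finset.mem_filter]
    simp
  have memO₂ : ∀ y, y ∈ O₂ ↔ ∃ c : G, c * J = J * c ∧ c * x * c⁻¹ = y := by
    intro y
    rw [hO₂, Finset.mem_filter]
    simp
  -- orbit sizes
  have hc1 : O₁.card * Nat.card (Subgroup.centralizer ((P : Subgroup G) : Set G)) =
      Nat.card (Subgroup.centralizer ({J} : Set G)) := by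
    rw [← cent2_card P hP hJJ ht₀t₀ hJ1 ht₀1 (Ne.symm ht₀J) hJt₀, ← card_cent_filter, hO₁]
    exact orbit_card J t₀
  have hc2 : O₂.card * Nat.card (Subgroup.centralizer ((P : Subgroup G) : Set G)) =
      Nat.card (Subgroup.centralizer ({J} : Set G)) := by
    rw [← cent2_card P hP hJJ hxx hJ1 hx1 (Ne.symm hxJ) hJx, ← card_cent_filter, hO₂]
    exact orbit_card J x
  -- the set is the disjoint union of the two orbits
  have hdisj : Disjoint O₁ O₂ := by
    rw [Finset.disjoint_left]
    intro y hy1 hy2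
    obtain ⟨c, hc, hcy⟩ := (memO₁ y).1 hy1
    obtain ⟨c', hc', hcy'⟩ := (memO₂ y).1 hy2
    -- d = c'⁻¹ c centralizes J and moves t₀ to x
    have hd : (c'⁻¹ * c) * J = J * (c'⁻¹ * c) := by
      rw [mul_assoc, hc, ← mul_assoc, inv_comm_of_comm hc', mul_assoc]
    have hdt : (c'⁻¹ * c) * t₀ * (c'⁻¹ * c)⁻¹ = x := by
      calc (c'⁻¹ * c) * t₀ * (c'⁻¹ * c)⁻¹ = c'⁻¹ * (c * t₀ * c⁻¹) * c' := by group
        _ = c'⁻¹ * (c' * x * c'⁻¹) * c' := by rw [hcy, hcy']
        _ = x := by group
    have hodd := comm_odd P hP hJ hJ2 ht₀P (c'⁻¹ * c) hd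
    rw [hdt, hx, inv_eq_self_of_sq ht₀t₀, mul_assoc, ht₀t₀, mul_one, hJ2] at hodd
    exact absurd hodd (by decide)
  have hunion : Finset.univ.filter (fun t : G => orderOf t = 2 ∧ t ≠ J ∧ t * J = J * t) =
      O₁ ∪ O₂ := by
    ext t
    rw [Finset.mem_filter, Finset.mem_union, memO₁, memO₂]
    constructor
    · rintro ⟨_, ht2, htJ, htc⟩
      have htt : t * t = 1 := sq_of_orderOf_two ht2
      obtain ⟨g, hgt, hgJ⟩ := comm_inv_conj P htt hJJ htc
      obtain ⟨n, hnP, hnJ⟩ := fusion_J P hP hJ hgJ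
      have hcJ : (n * g) * J = J * (n * g) := by
        have e : (n * g) * J * (n * g)⁻¹ = J := by
          calc (n * g) * J * (n * g)⁻¹ = n * (g * J * g⁻¹) * n⁻¹ := by group
            _ = J := hnJ
        calc (n * g) * J = ((n * g) * J * (n * g)⁻¹) * (n * g) := by group
          _ = J * (n * g) := by rw [e]
      have hctP : (n * g) * t * (n * g)⁻¹ ∈ (P : Subgroup G) := by
        have e : (n * g) * t * (n * g)⁻¹ = n * (g * t * g⁻¹) * n⁻¹ := by group
        rw [e]
        exact hnP _ hgt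
      have hct1 : (n * g) * t * (n * g)⁻¹ ≠ 1 := by
        apply conj_ne_one
        rintro rfl
        simp at ht2
      have hctJ : (n * g) * t * (n * g)⁻¹ ≠ J := by
        intro h
        apply htJ
        have e : J = (n * g) * J * (n * g)⁻¹ := by
          rw [hcJ]
          group
        rw [e] at h
        exact conj_eq_iff.1 h
      have hcinv : (n * g)⁻¹ * J = J * (n * g)⁻¹ := inv_comm_of_comm hcJ
      rcases hel _ hctP with h | h | h | h
      · exact absurd h hct1
      · exact absurd h hctJ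
      · left
        refine ⟨(n * g)⁻¹, hcinv, ?_⟩
        rw [← h]
        group
      · right
        refine ⟨(n * g)⁻¹, hcinv, ?_⟩
        rw [hx, ← h]
        group
    · rintro (⟨c, hc, rfl⟩ | ⟨c, hc, rfl⟩)
      · refine ⟨Finset.mem_univ _, ?_, ?_, ?_⟩
        · rw [orderOf_conj_eq, ht₀2]
        · intro h
          apply ht₀J
          have e : J = c * J * c⁻¹ := by
            rw [hc]
            group
          rw [e] at h
          exact conj_eq_iff.1 h
        · calc c * t₀ * c⁻¹ * J = c * t₀ * (c⁻¹ * J) := by group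
            _ = c * t₀ * (J * c⁻¹) := by rw [inv_comm_of_comm hc]
            _ = c * (t₀ * J) * c⁻¹ := by group
            _ = c * (J * t₀) * c⁻¹ := by rw [hJt₀]
            _ = (c * J) * t₀ * c⁻¹ := by group
            _ = (J * c) * t₀ * c⁻¹ := by rw [hc]
            _ = J * (c * t₀ * c⁻¹) := by group
      · refine ⟨Finset.mem_univ _, ?_, ?_, ?_⟩
        · rw [orderOf_conj_eq, hx2]
        · intro h
          apply hxJ
          have e : J = c * J * c⁻¹ := by
            rw [hc]
            group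
          rw [e] at h
          exact conj_eq_iff.1 h
        · calc c * x * c⁻¹ * J = c * x * (c⁻¹ * J) := by group
            _ = c * x * (J * c⁻¹) := by rw [inv_comm_of_comm hc]
            _ = c * (x * J) * c⁻¹ := by group
            _ = c * (J * x) * c⁻¹ := by rw [hJx]
            _ = (c * J) * x * c⁻¹ := by group
            _ = (J * c) * x * c⁻¹ := by rw [hc]
            _ = J * (c * x * c⁻¹) := by group
  rw [hunion, Finset.card_union_of_disjoint hdisj, add_mul, hc1, hc2]
  ring

/-- the involutions `u` centralizing `t` with `u J t` of odd order form one orbit under `C(t)` -/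
theorem A_card (P : Sylow 2 G) (hP : IsKleinFour (P : Subgroup G))
    (hone : ∀ s t : G, orderOf s = 2 → orderOf t = 2 → IsConj s t)
    {J t : G} (hJ2 : orderOf J = 2) (ht2 : orderOf t = 2) (htJ : t ≠ J) (hc : t * J = J * t) :
    (Finset.univ.filter (fun u : G => orderOf u = 2 ∧ u * t = t * u ∧
        Odd (orderOf (u * J * t)))).card *
      Nat.card (Subgroup.centralizer ((P : Subgroup G) : Set G)) =
    Nat.card (Subgroup.centralizer ({J} : Set G)) := by
  classical
  have hJJ : J * J = 1 := sq_of_orderOf_two hJ2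
  have htt : t * t = 1 := sq_of_orderOf_two ht2
  have hJ1 : J ≠ 1 := by
    rintro rfl
    simp at hJ2
  have ht1 : t ≠ 1 := by
    rintro rfl
    simp at ht2
  obtain ⟨x, hx⟩ : ∃ x : G, x = J * t := ⟨_, rfl⟩
  have hxx : x * x = 1 := by
    rw [hx]
    calc J * t * (J * t) = J * (t * J) * t := by group
      _ = J * (J * t) * t := by rw [hc]
      _ = (J * J) * (t * t) := by group
      _ = 1 := by rw [hJJ, htt, one_mul]
  have hx1 : x ≠ 1 := by
    rw [hx]
    intro h
    apply htJ
    have : t = J⁻¹ := (eq_inv_of_mul_eq_one_right h)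
    rw [this, inv_eq_self_of_sq hJJ]
  have hxt : t ≠ x := by
    rw [hx]
    intro h
    apply hJ1
    have : J * t = 1 * t := by rw [← h, one_mul]
    exact mul_right_cancel this
  have htx : t * x = x * t := by
    rw [hx, ← mul_assoc, hc]
  have hx2 : orderOf x = 2 := orderOf_two_of_sq hxx hx1
  -- the set is an orbit
  have hset : Finset.univ.filter (fun u : G => orderOf u = 2 ∧ u * t = t * u ∧
        Odd (orderOf (u * J * t))) =
      Finset.univ.filter (fun y : G => ∃ c : G, c * t = t * c ∧ c * x * c⁻¹ = y) := by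
    apply Finset.filter_congr
    intro u _
    constructor
    · rintro ⟨hu2, hut, hodd⟩
      have huu : u * u = 1 := sq_of_orderOf_two hu2
      have e : u * J * t = u * x := by rw [hx, mul_assoc]
      rw [e] at hodd
      obtain ⟨r, hr, hur⟩ := dihedral_conj huu hxx hodd
      refine ⟨r, ?_, hur.symm⟩
      obtain ⟨n, rfl⟩ := Subgroup.mem_zpowers_iff.1 hr
      have hcomm : Commute (u * x) t := by
        show u * x * t = t * (u * x)
        rw [mul_assoc, ← htx, ← mul_assoc, hut, mul_assoc]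
      exact (hcomm.zpow_left n).eq
    · rintro ⟨c, hct, rfl⟩
      refine ⟨?_, ?_, ?_⟩
      · rw [orderOf_conj_eq, hx2]
      · calc c * x * c⁻¹ * t = c * x * (c⁻¹ * t) := by group
          _ = c * x * (t * c⁻¹) := by rw [inv_comm_of_comm hct]
          _ = c * (x * t) * c⁻¹ := by group
          _ = c * (t * x) * c⁻¹ := by rw [htx]
          _ = (c * t) * x * c⁻¹ := by group
          _ = (t * c) * x * c⁻¹ := by rw [hct]
          _ = t * (c * x * c⁻¹) := by group
      · have e : c * x * c⁻¹ * J * t = c * x * c⁻¹ * x⁻¹ := by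
          rw [inv_eq_self_of_sq hxx, hx]
          group
        rw [e]
        exact comm_odd' P hP ht2 hxx htx c hct
  rw [hset]
  have h1 := orbit_card t x
  rw [cent2_card P hP htt hxx ht1 hx1 hxt htx] at h1
  rw [h1]
  obtain ⟨g, hg⟩ := isConj_iff.1 (hone t J ht2 hJ2)
  rw [← card_cent_filter, ← hg]
  exact (card_cent_conj g t).symm

theorem A_ppart {J t u : G} (hJJ : J * J = 1) (ht2 : orderOf t = 2) (huu : u * u = 1)
    (htJ : t * J = J * t) (hut : u * t = t * u) (hodd : Odd (orderOf (u * J * t))) :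
    IsPPart 2 (J * u) t := by
  have htt : t * t = 1 := sq_of_orderOf_two ht2
  refine ⟨t * J * u, ?_, ?_, ⟨1, by rw [ht2, pow_one]⟩, ?_⟩
  · rw [← mul_assoc, ← mul_assoc, htt, one_mul]
  · show t * (t * J * u) = t * J * u * t
    calc t * (t * J * u) = t * (t * J) * u := by group
      _ = t * (J * t) * u := by rw [htJ]
      _ = t * J * (t * u) := by group
      _ = t * J * (u * t) := by rw [hut]
      _ = t * J * u * t := by group
  · have e : t * J * u = (u * J * t)⁻¹ := by
      rw [mul_inv_rev, mul_inv_rev, inv_eq_self_of_sq htt, inv_eq_self_of_sq hJJ,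
        inv_eq_self_of_sq huu, mul_assoc]
    rw [e, orderOf_inv, ← even_iff_two_dvd, Nat.not_even_iff_odd]
    exact hodd

/-- the number of involutions `u` with `J u` of even order -/
theorem E_card (P : Sylow 2 G) (hP : IsKleinFour (P : Subgroup G))
    (hone : ∀ s t : G, orderOf s = 2 → orderOf t = 2 → IsConj s t)
    {J : G} (hJ : J ∈ (P : Subgroup G)) (hJ2 : orderOf J = 2) :
    (Finset.univ.filter (fun u : G => orderOf u = 2 ∧ 2 ∣ orderOf (J * u))).card *
      Nat.card (Subgroup.centralizer ((P : Subgroup G) : Set G)) ^ 2 =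
    2 * Nat.card (Subgroup.centralizer ({J} : Set G)) ^ 2 := by
  classical
  have hJJ : J * J = 1 := sq_of_orderOf_two hJ2
  obtain ⟨T, hT⟩ : ∃ T : Finset G,
    T = Finset.univ.filter (fun t : G => orderOf t = 2 ∧ t ≠ J ∧ t * J = J * t) := ⟨_, rfl⟩
  obtain ⟨A, hA⟩ : ∃ A : G → Finset G, A = fun t =>
    Finset.univ.filter (fun u : G => orderOf u = 2 ∧ u * t = t * u ∧
        Odd (orderOf (u * J * t))) := ⟨_, rfl⟩
  have memT : ∀ t, t ∈ T ↔ (orderOf t = 2 ∧ t ≠ J ∧ t * J = J * t) := by
    intro t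
    rw [hT, Finset.mem_filter]
    simp
  have memA : ∀ t u, u ∈ A t ↔ (orderOf u = 2 ∧ u * t = t * u ∧
        Odd (orderOf (u * J * t))) := by
    intro t u
    rw [hA, Finset.mem_filter]
    simp
  have hE : Finset.univ.filter (fun u : G => orderOf u = 2 ∧ 2 ∣ orderOf (J * u)) =
      T.biUnion A := by
    ext u
    rw [Finset.mem_filter, Finset.mem_biUnion]
    constructor
    · rintro ⟨_, hu2, hdvd⟩
      have huu : u * u = 1 := sq_of_orderOf_two hu2
      obtain ⟨t, ht2, ⟨n, htn⟩, hodd⟩ := two_part_inv P hP (J * u) hdvd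
      have htt : t * t = 1 := sq_of_orderOf_two ht2
      have hJw : J * (J * u) * J⁻¹ = (J * u)⁻¹ := by
        rw [mul_inv_rev, ← mul_assoc, hJJ, one_mul, inv_eq_self_of_sq huu]
      have huw : u * (J * u) * u⁻¹ = (J * u)⁻¹ := by
        calc u * (J * u) * u⁻¹ = u * J := by group
          _ = u⁻¹ * J⁻¹ := by rw [inv_eq_self_of_sq huu, inv_eq_self_of_sq hJJ]
          _ = (J * u)⁻¹ := by rw [mul_inv_rev]
      have hJt : J * t = t * J := comm_of_invert hJw htt n htn
      have hut : u * t = t * u := comm_of_invert huw htt n htn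
      have htJ : t ≠ J := by
        intro h
        rw [h] at hodd
        have e : J * u * J = J * u * J⁻¹ := by rw [inv_eq_self_of_sq hJJ]
        rw [e, orderOf_conj_eq, hu2] at hodd
        exact absurd hodd (by decide)
      refine ⟨t, (memT t).2 ⟨ht2, htJ, hJt.symm⟩, (memA t u).2 ⟨hu2, hut, ?_⟩⟩
      have e : u * J * t = (J * u * t)⁻¹ := by
        calc u * J * t = u * (J * t) := by group
          _ = u * (t * J) := by rw [hJt]
          _ = (u * t) * J := by group
          _ = (t * u) * J := by rw [hut]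
          _ = t * (u * J) := by group
          _ = t⁻¹ * (u⁻¹ * J⁻¹) := by
            rw [inv_eq_self_of_sq htt, inv_eq_self_of_sq huu, inv_eq_self_of_sq hJJ]
          _ = (J * u * t)⁻¹ := by rw [mul_inv_rev, mul_inv_rev]
      rw [e, orderOf_inv]
      exact hodd
    · rintro ⟨t, ht, hu⟩
      obtain ⟨ht2, htJ, htc⟩ := (memT t).1 ht
      obtain ⟨hu2, hut, hodd⟩ := (memA t u).1 hu
      refine ⟨Finset.mem_univ _, hu2, ?_⟩
      obtain ⟨y, hty, hcy, _, hy⟩ := A_ppart hJJ ht2 (sq_of_orderOf_two hu2) htc hut hodd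
      rw [← hty, hcy.orderOf_mul_eq_mul_orderOf_of_coprime
        (by rw [ht2]; exact (Nat.Prime.coprime_iff_not_dvd Nat.prime_two).2 hy), ht2]
      exact dvd_mul_right _ _
  have hdisj : ∀ t ∈ T, ∀ t' ∈ T, t ≠ t' → Disjoint (A t) (A t') := by
    intro t ht t' ht' hne
    rw [Finset.disjoint_left]
    intro u hu hu'
    apply hne
    obtain ⟨ht2, htJ, htc⟩ := (memT t).1 ht
    obtain ⟨hu2, hut, hodd⟩ := (memA t u).1 hu
    obtain ⟨ht2', htJ', htc'⟩ := (memT t').1 ht'
    obtain ⟨_, hut', hodd'⟩ := (memA t' u).1 hu'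
    exact Cfsg.Agent.helper24.isPPart_unique Nat.prime_two
      (A_ppart hJJ ht2 (sq_of_orderOf_two hu2) htc hut hodd)
      (A_ppart hJJ ht2' (sq_of_orderOf_two hu2) htc' hut' hodd')
  have hAcard : ∀ t ∈ T, (A t).card * Nat.card (Subgroup.centralizer ((P : Subgroup G) : Set G)) =
      Nat.card (Subgroup.centralizer ({J} : Set G)) := by
    intro t ht
    obtain ⟨ht2, htJ, htc⟩ := (memT t).1 ht
    rw [hA]
    exact A_card P hP hone hJ2 ht2 htJ htc
  have hTcard := T_card P hP hJ hJ2
  rw [← hT] at hTcard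
  rw [hE, Finset.card_biUnion hdisj, sq, ← mul_assoc, Finset.sum_mul,
    Finset.sum_congr rfl hAcard, Finset.sum_const, smul_eq_mul, mul_assoc, mul_comm _ (Nat.card _),
    ← mul_assoc, hTcard]
  ring

/-- the class of involutions -/
theorem K_card (hone : ∀ s t : G, orderOf s = 2 → orderOf t = 2 → IsConj s t)
    {J : G} (hJ2 : orderOf J = 2) :
    (Finset.univ.filter (fun u : G => orderOf u = 2)).card *
      Nat.card (Subgroup.centralizer ({J} : Set G)) = Nat.card G := by
  classical
  have h1 := orbit_card (1 : G) J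
  have e1 : Finset.univ.filter (fun y : G => ∃ c : G, c * 1 = 1 * c ∧ c * J * c⁻¹ = y) =
      Finset.univ.filter (fun u : G => orderOf u = 2) := by
    apply Finset.filter_congr
    intro u _
    constructor
    · rintro ⟨c, _, rfl⟩
      rw [orderOf_conj_eq, hJ2]
    · intro hu
      obtain ⟨c, hc⟩ := isConj_iff.1 (hone J u hJ2 hu)
      exact ⟨c, by rw [mul_one, one_mul], hc⟩
  have e2 : Finset.univ.filter (fun c : G => c * 1 = 1 * c ∧ c * J = J * c) =
      Finset.univ.filter (fun c : G => c * J = J * c) := by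
    apply Finset.filter_congr
    intro c _
    simp
  have e3 : Finset.univ.filter (fun c : G => c * 1 = 1 * c) = Finset.univ := by
    apply Finset.filter_true_of_mem
    intro c _
    rw [mul_one, one_mul]
  rw [e1, e2, e3, card_cent_filter, Finset.card_univ, ← Nat.card_eq_fintype_card] at h1
  exact h1

end Count2

end Cfsg.Agent.helper8.KleinCount
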