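import Mathlib
import Cfsg.Prelude.Def_SporadicCombinatorics

set_option autoImplicit false

namespace Cfsg.Agent.helper8.Mono

open Cfsg Equiv

variable {α F : Type*} [Field F] (C : Submodule F (α → F))

/-- validity of a monomial map for a code -/
def Valid (σ : Perm α) (c : α → Fˣ) : Prop :=
  ∀ x ∈ C, monomialMap σ c x ∈ C

/-- the monomial map as a linear map -/
def monoLin (σ : Perm α) (c : α → Fˣ) : (α → F) →ₗ[F] (α → F) where
  toFun := monomialMap σ c
  map_add' x y := by
    funext i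
    simp only [monomialMap, Pi.add_apply, mul_add]
  map_smul' r x := by
    funext i
    simp only [monomialMap, Pi.smul_apply, smul_eq_mul, RingHom.id_apply]
    ring

theorem valid_of_span {σ : Perm α} {c : α → Fˣ} (S : Set (α → F)) (hC : C = Submodule.span F S)
    (h : ∀ v ∈ S, monomialMap σ c v ∈ C) : Valid C σ c := by
  have hle : C ≤ C.comap (monoLin σ c) := by
    conv_lhs => rw [hC]
    rw [Submodule.span_le]
    intro v hv
    exact h v hv
  exact fun x hx => hle hx

theorem mono_mul (σ τ : Perm α) (c d : α → Fˣ) (x : α → F) :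
    monomialMap σ c (monomialMap τ d x) =
      monomialMap (σ * τ) (fun i => c i * d (σ.symm i)) x := by
  funext i
  simp only [monomialMap, Units.val_mul]
  have : (σ * τ).symm i = τ.symm (σ.symm i) := rfl
  rw [this]
  ring

theorem mono_one (x : α → F) : monomialMap 1 (fun _ => (1 : Fˣ)) x = x := by
  funext i
  simp only [monomialMap, Units.val_one, one_mul]
  rfl

theorem valid_one : Valid C 1 (fun _ => 1) := by
  intro x hx
  rw [mono_one]
  exact hx

theorem valid_mul {σ τ : Perm α} {c d : α → Fˣ} (hσ : Valid C σ c)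
    (hτ : Valid C τ d) : Valid C (σ * τ) (fun i => c i * d (σ.symm i)) := by
  intro x hx
  rw [← mono_mul]
  exact hσ _ (hτ _ hx)

theorem mono_injective (σ : Perm α) (c : α → Fˣ) :
    Function.Injective (monomialMap σ c : (α → F) → (α → F)) := by
  intro x y h
  funext i
  have := congrFun h (σ i)
  simp only [monomialMap, Equiv.symm_apply_apply] at this
  exact (Units.mul_right_inj _).mp this

theorem valid_surj [Finite α] [Finite F] {σ : Perm α} {c : α → Fˣ} (h : Valid C σ c)
    {y : α → F} (hy : y ∈ C) : ∃ x ∈ C, monomialMap σ c x = y := by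
  let g : ↥C → ↥C := fun x => ⟨monomialMap σ c x.1, h x.1 x.2⟩
  have hinj : Function.Injective g := by
    intro x x' hxx
    exact Subtype.ext (mono_injective σ c (congrArg Subtype.val hxx))
  obtain ⟨x, hx⟩ := (Finite.injective_iff_surjective.mp hinj) ⟨y, hy⟩
  exact ⟨x.1, x.2, congrArg Subtype.val hx⟩

theorem valid_inv [Finite α] [Finite F] {σ : Perm α} {c : α → Fˣ} (h : Valid C σ c) :
    Valid C σ⁻¹ (fun i => (c (σ i))⁻¹) := by
  intro y hy
  obtain ⟨x, hx, rfl⟩ := valid_surj C h hy
  have : monomialMap σ⁻¹ (fun i => (c (σ i))⁻¹) (monomialMap σ c x) = x := by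
    funext i
    simp only [monomialMap]
    have e1 : (σ⁻¹).symm i = σ i := rfl
    rw [e1, Equiv.symm_apply_apply, ← mul_assoc, ← Units.val_mul, inv_mul_cancel,
      Units.val_one, one_mul]
  rw [this]
  exact hx

/-- the permutation parts of the monomial automorphisms -/
def autPerm [Finite α] [Finite F] : Subgroup (Perm α) where
  carrier := {σ | ∃ c, Valid C σ c}
  one_mem' := ⟨_, valid_one C⟩
  mul_mem' := by
    rintro σ τ ⟨c, hc⟩ ⟨d, hd⟩
    exact ⟨_, valid_mul C hc hd⟩
  inv_mem' := by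
    rintro σ ⟨c, hc⟩
    exact ⟨_, valid_inv C hc⟩

theorem mem_autPerm [Finite α] [Finite F] {σ : Perm α} :
    σ ∈ autPerm C ↔ ∃ c, Valid C σ c := Iff.rfl

theorem valid_diag_mul {σ : Perm α} {c₀ d : α → Fˣ} (hd : Valid C 1 d) (h₀ : Valid C σ c₀) :
    Valid C σ (fun i => d i * c₀ i) := by
  intro x hx
  have : monomialMap σ (fun i => d i * c₀ i) x = monomialMap 1 d (monomialMap σ c₀ x) := by
    funext i
    simp only [monomialMap, Units.val_mul]
    have e : (1 : Perm α).symm i = i := rfl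
    rw [e, mul_assoc]
  rw [this]
  exact hd _ (h₀ x hx)

theorem valid_div [Finite α] [Finite F] {σ : Perm α} {c₀ c : α → Fˣ} (h₀ : Valid C σ c₀)
    (hc : Valid C σ c) : Valid C 1 (fun i => c i * (c₀ i)⁻¹) := by
  intro y hy
  obtain ⟨x, hx, rfl⟩ := valid_surj C h₀ hy
  have : monomialMap 1 (fun i => c i * (c₀ i)⁻¹) (monomialMap σ c₀ x) =
      monomialMap σ c x := by
    funext i
    simp only [monomialMap, Units.val_mul]
    have e : (1 : Perm α).symm i = i := rfl
    rw [e, mul_assoc, ← mul_assoc (((c₀ i)⁻¹ : Fˣ) : F), ← Units.val_mul, inv_mul_cancel,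
      Units.val_one, one_mul]
  rw [this]
  exact hc x hx

theorem card_fiber [Finite α] [Finite F] {σ : Perm α} {c₀ : α → Fˣ} (h₀ : Valid C σ c₀) :
    Nat.card {c : α → Fˣ // Valid C σ c} = Nat.card {d : α → Fˣ // Valid C 1 d} := by
  apply Nat.card_congr
  refine ⟨fun c => ⟨fun i => c.1 i * (c₀ i)⁻¹, valid_div C h₀ c.2⟩,
    fun d => ⟨fun i => d.1 i * c₀ i, valid_diag_mul C d.2 h₀⟩, ?_, ?_⟩
  · rintro ⟨c, hc⟩
    apply Subtype.ext
    funext i
    simp
  · rintro ⟨d, hd⟩
    apply Subtype.ext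
    funext i
    simp

theorem card_total [Fintype α] [DecidableEq α] [Finite F] :
    Nat.card {f : Perm α × (α → Fˣ) // ∀ x ∈ C, monomialMap f.1 f.2 x ∈ C} =
      Nat.card ↥(autPerm C) * Nat.card {d : α → Fˣ // Valid C 1 d} := by
  classical
  change Nat.card {f : Perm α × (α → Fˣ) // Valid C f.1 f.2} = _
  rw [Nat.card_congr (Equiv.subtypeProdEquivSigmaSubtype (fun σ c => Valid C σ c))]
  rw [Nat.card_sigma]
  have hfib : ∀ σ : Perm α, Nat.card {c : α → Fˣ // Valid C σ c} =
      if σ ∈ autPerm C then Nat.card {d : α → Fˣ // Valid C 1 d} else 0 := by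
    intro σ
    split_ifs with h
    · obtain ⟨c₀, h₀⟩ := h
      exact card_fiber C h₀
    · have : IsEmpty {c : α → Fˣ // Valid C σ c} := ⟨fun ⟨c, hc⟩ => h ⟨c, hc⟩⟩
      exact Nat.card_of_isEmpty
  rw [Finset.sum_congr rfl (fun σ _ => hfib σ)]
  rw [Finset.sum_ite, Finset.sum_const, Finset.sum_const_zero, add_zero, smul_eq_mul]
  congr 1
  rw [Nat.card_eq_fintype_card]
  exact (Fintype.card_of_subtype (p := fun σ : Perm α => σ ∈ autPerm C) _ (by simp)).symm

end Cfsg.Agent.helper8.Mono
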