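import Mathlib
import Cfsg.Agent.Lib_helper11_S2645a
import Cfsg.Agent.Lib_helper20_S2671x
import Cfsg.Agent.Lib_helper26_S2645x

set_option autoImplicit false
open Polynomial

namespace Cfsg.Agent.helper8.S2670x

/-- PIECE S5: the count for `c = 1` -/
theorem pieceS5 {F : Type*} [Field F] [Fintype F] (n r : ℕ) (hr : r.Prime)
    (hrq : r ∣ Fintype.card F - 1) :
    Nat.card {f : F[X] // f.Monic ∧ f.natDegree = n ∧ f ∣ (X ^ r - C 1) ^ n} =
      Nat.choose (n + r - 1) (r - 1) := by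
  classical
  haveI : Fact r.Prime := ⟨hr⟩
  have hq1 : 1 ≤ Fintype.card F := Fintype.card_pos
  have hq : ((Fintype.card F : ℕ) : ZMod r) = 1 := by
    have h1 : ((Fintype.card F - 1 : ℕ) : ZMod r) = 0 := (ZMod.natCast_eq_zero_iff _ _).mpr hrq
    rw [Nat.cast_sub hq1, Nat.cast_one, sub_eq_zero] at h1
    exact h1
  have hrF : (r : F) ≠ 0 := by
    intro h0
    obtain ⟨p, hp⟩ := CharP.exists F
    obtain ⟨k, hpp, hcard⟩ := FiniteField.card F p
    rw [CharP.cast_eq_zero_iff F p] at h0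
    have hpr : p = r := (Nat.prime_dvd_prime_iff_eq hpp hr).mp h0
    have h2 : ((Fintype.card F : ℕ) : ZMod r) = 0 := by
      rw [hcard, hpr]
      push_cast
      rw [ZMod.natCast_self]
      exact zero_pow k.ne_zero
    rw [hq] at h2
    exact one_ne_zero h2
  obtain ⟨S, hS, hX, hprod, hcard⟩ := Cfsg.Agent.helper11.S2645a.pieceA (F := F) r hr hrF
  rw [hq, orderOf_one] at hS hcard
  rw [mul_one] at hcard
  obtain ⟨hC1a, hC1b, hC1c⟩ :=
    Cfsg.Agent.helper20.S2671x.pieceC1n (F := F) r n 1 one_pos S hS hX hprod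
  have hC1 : (C 1 : F[X]) = 1 := map_one C
  rw [hC1]
  have h1 : ∀ M : Multiset F[X], Multiset.card M ≤ n → 1 * Multiset.card M ≤ n :=
    fun M h => by rwa [one_mul]
  have hPM : Nat.card {f : F[X] // f.Monic ∧ f.natDegree = n ∧ f ∣ (X ^ r - 1) ^ n} =
      Nat.card {M : Multiset F[X] // (∀ g ∈ M, g ∈ S) ∧ Multiset.card M ≤ n} := by
    symm
    apply Nat.card_congr
    refine Equiv.ofBijective (fun M => ⟨(X - 1) ^ (n - 1 * Multiset.card M.1) * M.1.prod,
      (hC1a M.1 M.2.1 (h1 _ M.2.2)).1, (hC1a M.1 M.2.1 (h1 _ M.2.2)).2.1,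
      (hC1a M.1 M.2.1 (h1 _ M.2.2)).2.2⟩) ⟨?_, ?_⟩
    · intro M M' h
      apply Subtype.ext
      exact hC1b M.1 M'.1 M.2.1 M'.2.1 (h1 _ M.2.2) (h1 _ M'.2.2) (congrArg Subtype.val h)
    · rintro ⟨f, hfm, hfd, hfdvd⟩
      obtain ⟨M, hMS, hMi, hfM⟩ := hC1c f hfm hfd hfdvd
      refine ⟨⟨M, hMS, by rwa [one_mul] at hMi⟩, ?_⟩
      apply Subtype.ext
      exact hfM.symm
  rw [hPM, Cfsg.Agent.helper26.S2645x.pieceD1 S n, hcard]
  have h3 : n + (r - 1) = n + r - 1 := by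
    have := hr.one_lt
    omega
  rw [h3]

end Cfsg.Agent.helper8.S2670x
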