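import Mathlib
import Cfsg.Agent.Lib_helper6_S2645b

set_option autoImplicit false
open Polynomial

namespace Cfsg.Agent.helper8.S2671x

open Cfsg.Agent.helper6.S2645x

/-- twisted Frobenius on roots -/
theorem twist_root {K L : Type*} [Field K] [Field L] [Algebra K L] (p k : ℕ) [Fact p.Prime]
    [CharP L p] (σ : K ≃+* K) (q : ℕ) (hq : q = p ^ k) (hσq : ∀ a, σ a = a ^ q) (h : K[X]) (x : L)
    (hx : aeval x h = 0) : aeval (x ^ q) (h.map (σ : K →+* K)) = 0 := by
  subst hq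
  have hcomp : (iterateFrobenius L p k).comp (algebraMap K L) =
      (algebraMap K L).comp (σ : K →+* K) := by
    ext a
    rw [RingHom.comp_apply, RingHom.comp_apply, iterateFrobenius_def, ← map_pow]
    congr 1
    exact (hσq a).symm
  have h1 : aeval (x ^ p ^ k) (h.map (σ : K →+* K)) = iterateFrobenius L p k (aeval x h) := by
    rw [aeval_def, eval₂_map, ← hcomp, aeval_def, hom_eval₂, iterateFrobenius_def]
  rw [h1, hx, map_zero]

theorem arith (i N : ℕ) (hN : Odd N) (h1 : i ∣ 2 * N) (h2 : ¬ i ∣ N) : i % 4 = 2 := by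
  rcases Nat.even_or_odd i with he | ho
  · obtain ⟨m, hm⟩ := he
    have hmN : m ∣ N := by
      have : 2 * m ∣ 2 * N := by rwa [two_mul, ← hm]
      exact (Nat.mul_dvd_mul_iff_left two_pos).mp this
    have hmodd : Odd m := hN.of_dvd_nat hmN
    obtain ⟨t, ht⟩ := hmodd
    omega
  · exfalso
    apply h2
    have hc : Nat.Coprime i 2 := Nat.coprime_two_right.mpr ho
    exact hc.dvd_of_dvd_mul_left h1

theorem roots_are_frob_powers {K L : Type*} [Field K] [Fintype K] [Field L] [Algebra K L]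
    (r : ℕ) (hr : r.Prime) (hrK : (r : K) ≠ 0) (g : K[X]) (hg : g.Monic) (hirr : Irreducible g)
    (hdvd : g ∣ X ^ r - 1) (hne : g ≠ X - 1) (ζ x : L) (hζ : aeval ζ g = 0)
    (hζr : ζ ^ r = 1) (hζ1 : ζ ≠ 1) (hx : aeval x g = 0) :
    ∃ j : ℕ, x = ζ ^ (Fintype.card K) ^ j := by
  classical
  haveI : Fact r.Prime := ⟨hr⟩
  have hd := natDegree_eq_orderOf r hr hrK g hg hirr hdvd hne
  have hord : orderOf ζ = r := orderOf_eq_prime hζr hζ1
  have hfin : IsOfFinOrder ζ := isOfFinOrder_iff_pow_eq_one.mpr ⟨r, hr.pos, hζr⟩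
  have hQ0 : ((Fintype.card K : ℕ) : ZMod r) ≠ 0 := card_cast_ne_zero r hr hrK
  have hQfin : IsOfFinOrder ((Fintype.card K : ℕ) : ZMod r) := by
    rw [isOfFinOrder_iff_pow_eq_one]
    exact ⟨r - 1, Nat.sub_pos_of_lt hr.one_lt, ZMod.pow_card_sub_one_eq_one hQ0⟩
  have hg0 : g.map (algebraMap K L) ≠ 0 := (hg.map _).ne_zero
  let S := (Finset.range g.natDegree).image (fun j => ζ ^ (Fintype.card K) ^ j)
  have hSsub : S ⊆ (g.map (algebraMap K L)).roots.toFinset := by
    intro y hy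
    obtain ⟨j, -, rfl⟩ := Finset.mem_image.mp hy
    rw [Multiset.mem_toFinset, mem_roots hg0, IsRoot.def, eval_map_algebraMap]
    exact aeval_pow_card g ζ hζ j
  have hScard : S.card = g.natDegree := by
    rw [Finset.card_image_of_injOn, Finset.card_range]
    intro j hj k hk hjk
    have hjk' : ζ ^ (Fintype.card K) ^ j = ζ ^ (Fintype.card K) ^ k := hjk
    have h1 : (Fintype.card K) ^ j ≡ (Fintype.card K) ^ k [MOD r] := by
      rw [← hord]
      exact hfin.pow_eq_pow_iff_modEq.mp hjk'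
    have h2 : ((Fintype.card K : ℕ) : ZMod r) ^ j = ((Fintype.card K : ℕ) : ZMod r) ^ k := by
      have := (ZMod.natCast_eq_natCast_iff _ _ _).mpr h1
      push_cast at this
      exact this
    have h3 := hQfin.pow_eq_pow_iff_modEq.mp h2
    rw [← hd] at h3
    exact Nat.ModEq.eq_of_lt_of_lt h3 (Finset.mem_range.mp hj) (Finset.mem_range.mp hk)
  have hle : (g.map (algebraMap K L)).roots.toFinset.card ≤ g.natDegree := by
    calc (g.map (algebraMap K L)).roots.toFinset.card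
        ≤ Multiset.card (g.map (algebraMap K L)).roots := Multiset.toFinset_card_le _
      _ ≤ (g.map (algebraMap K L)).natDegree := card_roots' _
      _ = g.natDegree := natDegree_map _
  have hEq : S = (g.map (algebraMap K L)).roots.toFinset :=
    Finset.eq_of_subset_of_card_le hSsub (by rw [hScard]; exact hle)
  have hxmem : x ∈ (g.map (algebraMap K L)).roots.toFinset := by
    rw [Multiset.mem_toFinset, mem_roots hg0, IsRoot.def, eval_map_algebraMap]
    exact hx
  rw [← hEq] at hxmem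
  obtain ⟨j, -, hj⟩ := Finset.mem_image.mp hxmem
  exact ⟨j, hj.symm⟩

theorem reverse_map_equiv {K : Type*} [Field K] (σ : K ≃+* K) (f : K[X]) :
    (f.map (σ : K →+* K)).reverse = f.reverse.map (σ : K →+* K) := by
  unfold reverse
  rw [natDegree_map_eq_of_injective (RingEquiv.injective σ), reflect_map]

/-- PIECE Bu -/
theorem pieceBu {K : Type*} [Field K] [Fintype K] {q : ℕ} (hK : Fintype.card K = q ^ 2)
    (σ : K ≃+* K) (hσq : ∀ a, σ a = a ^ q) (r : ℕ) (hr : r.Prime) (hr2 : r ≠ 2)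
    (hrK : (r : K) ≠ 0) (g : K[X]) (hg : g.Monic) (hirr : Irreducible g)
    (hdvd : g ∣ X ^ r - 1) (hne : g ≠ X - 1) :
    g.coeff 0 ≠ 0 ∧ ((C (g.coeff 0)⁻¹ * g.reverse).map (σ : K →+* K)).Monic ∧
    Irreducible ((C (g.coeff 0)⁻¹ * g.reverse).map (σ : K →+* K)) ∧
    ((C (g.coeff 0)⁻¹ * g.reverse).map (σ : K →+* K)) ∣ X ^ r - 1 ∧
    ((C (g.coeff 0)⁻¹ * g.reverse).map (σ : K →+* K)) ≠ X - 1 ∧
    ((C (((C (g.coeff 0)⁻¹ * g.reverse).map (σ : K →+* K)).coeff 0)⁻¹ *
      ((C (g.coeff 0)⁻¹ * g.reverse).map (σ : K →+* K)).reverse).map (σ : K →+* K) = g) ∧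
    (orderOf (q : ZMod r) % 4 = 2 → (C (g.coeff 0)⁻¹ * g.reverse).map (σ : K →+* K) = g) ∧
    (orderOf (q : ZMod r) % 4 ≠ 2 → (C (g.coeff 0)⁻¹ * g.reverse).map (σ : K →+* K) ≠ g) := by
  classical
  obtain ⟨h1, h2, h3, h4, h5, h6⟩ := first6 r hr.pos g hg hirr hdvd hne
  have hσσ : ∀ a, σ (σ a) = a := by
    intro a
    rw [hσq, hσq, ← pow_mul, ← sq, ← hK, FiniteField.pow_card]
  have hσinj : Function.Injective (σ : K →+* K) := RingEquiv.injective σ
  obtain ⟨g', hg'⟩ : ∃ g' : K[X], g' = C (g.coeff 0)⁻¹ * g.reverse := ⟨_, rfl⟩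
  rw [← hg'] at h2 h3 h4 h5 h6 ⊢
  have hmapX1 : (X - 1 : K[X]).map (σ : K →+* K) = X - 1 := by
    rw [Polynomial.map_sub, Polynomial.map_X, Polynomial.map_one]
  have hmapXr : (X ^ r - 1 : K[X]).map (σ : K →+* K) = X ^ r - 1 := by
    rw [Polynomial.map_sub, Polynomial.map_pow, Polynomial.map_X, Polynomial.map_one]
  have hmon : (g'.map (σ : K →+* K)).Monic := h2.map _
  have hirr' : Irreducible (g'.map (σ : K →+* K)) := by
    have := (MulEquiv.irreducible_iff (Polynomial.mapEquiv σ)).mpr h3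
    rwa [Polynomial.mapEquiv_apply] at this
  have hdvd' : g'.map (σ : K →+* K) ∣ X ^ r - 1 := by
    rw [← hmapXr]
    exact Polynomial.map_dvd _ h4
  have hne' : g'.map (σ : K →+* K) ≠ X - 1 := by
    intro h
    rw [← hmapX1] at h
    exact h5 (Polynomial.map_injective _ hσinj h)
  have hinv : (C ((g'.map (σ : K →+* K)).coeff 0)⁻¹ *
      (g'.map (σ : K →+* K)).reverse).map (σ : K →+* K) = g := by
    rw [reverse_map_equiv, coeff_map]
    have e1 : C ((σ : K →+* K) (g'.coeff 0))⁻¹ * g'.reverse.map (σ : K →+* K) =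
        (C (g'.coeff 0)⁻¹ * g'.reverse).map (σ : K →+* K) := by
      rw [Polynomial.map_mul, Polynomial.map_C, map_inv₀ (σ : K →+* K)]
    rw [e1, h6, Polynomial.map_map]
    have e2 : (σ : K →+* K).comp (σ : K →+* K) = RingHom.id K := by
      ext a
      exact hσσ a
    rw [e2, Polynomial.map_id]
  haveI : Fact (Irreducible g) := ⟨hirr⟩
  obtain ⟨p, hp⟩ := CharP.exists K
  obtain ⟨n, hpp, hcard⟩ := FiniteField.card K p
  haveI : Fact p.Prime := ⟨hpp⟩
  haveI : Fact r.Prime := ⟨hr⟩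
  obtain ⟨k, -, hqk⟩ := (Nat.dvd_prime_pow hpp).1
    (show q ∣ p ^ (n : ℕ) by rw [← hcard, hK]; exact dvd_pow_self q two_ne_zero)
  haveI : CharP (AdjoinRoot g) p :=
    charP_of_injective_algebraMap (algebraMap K (AdjoinRoot g)).injective p
  obtain ⟨ζ, hζdef⟩ : ∃ ζ : AdjoinRoot g, ζ = AdjoinRoot.root g := ⟨_, rfl⟩
  have hroot : ∀ f : K[X], aeval ζ f = 0 ↔ g ∣ f := fun f => by
    rw [hζdef, AdjoinRoot.aeval_eq, AdjoinRoot.mk_eq_zero]
  have hζg : aeval ζ g = 0 := (hroot g).2 dvd_rfl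
  have hζr : ζ ^ r = 1 := by
    have := (hroot (X ^ r - 1)).2 hdvd
    simpa [sub_eq_zero] using this
  have hζ0 : ζ ≠ 0 := by
    intro h
    rw [h, zero_pow hr.pos.ne'] at hζr
    exact zero_ne_one hζr
  have hm1 : (X - 1 : K[X]).Monic := by simpa using monic_X_sub_C (1 : K)
  have hd1 : (X - 1 : K[X]).natDegree = 1 := by simpa using natDegree_X_sub_C (1 : K)
  have hζ1 : ζ ≠ 1 := by
    intro h
    have : aeval ζ (X - 1 : K[X]) = 0 := by simp [h]
    have hd := (hroot _).1 this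
    exact hne (eq_of_monic_of_dvd_of_natDegree_le hg hm1 hd
      (by rw [hd1]; exact hirr.natDegree_pos)).symm
  have hy : aeval ((ζ ^ q)⁻¹) (g'.map (σ : K →+* K)) = 0 := by
    have := twist_root p k σ q hqk hσq g' ζ⁻¹ (by rw [hg']; exact rcp_root g ζ hζ0 hζg)
    rwa [inv_pow] at this
  obtain ⟨a, ha⟩ : ∃ a : ZMod r, a = (q : ZMod r) := ⟨_, rfl⟩
  rw [← ha]
  have hQ : ((Fintype.card K : ℕ) : ZMod r) = a ^ 2 := by
    rw [hK, ha]
    push_cast
    rfl
  have hQ0 : ((Fintype.card K : ℕ) : ZMod r) ≠ 0 := card_cast_ne_zero r hr hrK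
  have ha0 : a ≠ 0 := by
    intro h
    apply hQ0
    rw [hQ, h]
    ring
  refine ⟨h1, hmon, hirr', hdvd', hne', hinv, ?_, ?_⟩
  · intro hi
    obtain ⟨t, ht⟩ : ∃ t, orderOf a = 4 * t + 2 := ⟨orderOf a / 4, by omega⟩
    have hsq : a ^ (2 * t + 1) * a ^ (2 * t + 1) = 1 := by
      rw [← pow_add, show 2 * t + 1 + (2 * t + 1) = orderOf a by omega, pow_orderOf_eq_one]
    have hne1 : a ^ (2 * t + 1) ≠ 1 := by
      intro h
      have := orderOf_le_of_pow_eq_one (by omega : 0 < 2 * t + 1) h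
      omega
    have hmm : a ^ (2 * t + 1) = -1 := (mul_self_eq_one_iff.1 hsq).resolve_left hne1
    have hdiv : r ∣ (Fintype.card K) ^ (t + 1) + q := by
      rw [← ZMod.natCast_eq_zero_iff]
      push_cast
      rw [hQ, ← ha, ← pow_mul, show 2 * (t + 1) = (2 * t + 1) + 1 by ring, pow_succ, hmm]
      ring
    obtain ⟨w, hw⟩ := hdiv
    have hinvq : ζ ^ (Fintype.card K) ^ (t + 1) = (ζ ^ q)⁻¹ := by
      apply eq_inv_of_mul_eq_one_left
      rw [← pow_add, hw, pow_mul, hζr, one_pow]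
    have hyg : aeval ((ζ ^ q)⁻¹) g = 0 := by
      rw [← hinvq]
      exact aeval_pow_card g ζ hζg (t + 1)
    have e1 := minpoly.eq_of_irreducible_of_monic hirr hyg hg
    have e2 := minpoly.eq_of_irreducible_of_monic hirr' hy hmon
    rw [e2, ← e1]
  · intro hi hself
    apply hi
    have hyg : aeval ((ζ ^ q)⁻¹) g = 0 := by
      have hy2 := hy
      rw [hself] at hy2
      exact hy2
    obtain ⟨j, hj⟩ := roots_are_frob_powers r hr hrK g hg hirr hdvd hne ζ ((ζ ^ q)⁻¹) hζg hζr hζ1 hyg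
    have h7 : ζ ^ ((Fintype.card K) ^ j + q) = 1 := by
      rw [pow_add, ← hj, inv_mul_cancel₀ (pow_ne_zero _ hζ0)]
    have hord : orderOf ζ = r := orderOf_eq_prime hζr hζ1
    have h8 : r ∣ (Fintype.card K) ^ j + q := by
      rw [← hord]
      exact orderOf_dvd_of_pow_eq_one h7
    have h9 : (a ^ 2) ^ j + a = 0 := by
      have := (ZMod.natCast_eq_zero_iff _ _).mpr h8
      push_cast at this
      rwa [hQ, ← ha] at this
    obtain ⟨N, hNodd, hN⟩ : ∃ N, Odd N ∧ a ^ N = -1 := by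
      rcases Nat.eq_zero_or_pos j with hj0 | hjpos
      · refine ⟨1, odd_one, ?_⟩
        rw [hj0, pow_zero] at h9
        rw [pow_one]
        exact eq_neg_of_add_eq_zero_right h9
      · obtain ⟨j', rfl⟩ : ∃ j', j = j' + 1 := ⟨j - 1, by omega⟩
        refine ⟨2 * j' + 1, ⟨j', rfl⟩, ?_⟩
        have : a * (a ^ (2 * j' + 1) + 1) = 0 := by
          rw [← h9]
          ring
        rcases mul_eq_zero.mp this with h | h
        · exact absurd h ha0
        · exact eq_neg_of_add_eq_zero_left h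
    have hneg1 : (-1 : ZMod r) ≠ 1 := by
      intro h
      have h2' : ((2 : ℕ) : ZMod r) = 0 := by
        push_cast
        have : (1 : ZMod r) + 1 = -1 + 1 := by rw [h]
        rw [← one_add_one_eq_two, this]
        ring
      have hdv : r ∣ 2 := (ZMod.natCast_eq_zero_iff 2 r).mp h2'
      exact hr2 ((Nat.prime_dvd_prime_iff_eq hr Nat.prime_two).mp hdv)
    have hd1' : orderOf a ∣ 2 * N := by
      apply orderOf_dvd_of_pow_eq_one
      rw [mul_comm, pow_mul, hN]
      ring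
    have hd2 : ¬ orderOf a ∣ N := by
      intro h
      have := orderOf_dvd_iff_pow_eq_one.mp h
      rw [hN] at this
      exact hneg1 this
    exact arith (orderOf a) N hNodd hd1' hd2

end Cfsg.Agent.helper8.S2671x
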