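import Mathlib
import Cfsg.Prelude.Def_LieClassical
import Cfsg.Agent.Lib_helper11_S2645a
import Cfsg.Agent.Lib_helper8_S2671x
import Cfsg.Agent.Lib_helper20_S2671x
import Cfsg.Agent.Lib_helper15_S2671x
import Cfsg.Agent.Lib_helper26_S2645x
import Cfsg.Agent.Lib_helper26_S2645y

set_option autoImplicit false
open Polynomial

namespace Cfsg.Agent.helper8.S2671asm

theorem monic_irr_dvd_eq' {F : Type*} [Field F] (a b : F[X]) (ha : a.Monic) (hb : b.Monic)
    (hai : Irreducible a) (hbi : Irreducible b) (h : a ∣ b) : a = b := by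
  have h1 : Associated a b := by
    rcases h with ⟨c, hc⟩
    rcases hbi.isUnit_or_isUnit hc with hu | hu
    · exact absurd hu hai.not_isUnit
    · exact ⟨hu.unit, by rw [IsUnit.unit_spec, ← hc]⟩
  exact eq_of_monic_of_associated ha hb h1

/-- Assembly of S2671 from the pieces, given piece Iu as a hypothesis. -/
theorem assembly {K : Type*} [Field K] [Fintype K] {p q n r i b s : ℕ} [Fact p.Prime] [CharP K p]
    (hK : Fintype.card K = q ^ 2) (hr : r.Prime) (hr2 : r ≠ 2) (hrp : r ≠ p)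
    (hi : i = orderOf (q : ZMod r)) (hb : b = if Odd i then i else i / 2) (hs : s * b = r - 1)
    (σ : K ≃+* K) (hσq : ∀ a, σ a = a ^ q)
    (hIu : Nat.card {c : ConjClasses ↥(Cfsg.GU n K q) //
        ∃ g : ↥(Cfsg.GU n K q), ConjClasses.mk g = c ∧ orderOf g = r} + 1 =
      Nat.card {f : K[X] // f.Monic ∧ f.natDegree = n ∧
        (∀ k, k ≤ n → f.coeff (n - k) = f.coeff 0 * σ (f.coeff k)) ∧ f ∣ (X ^ r - 1) ^ n}) :
    Nat.card {C : ConjClasses ↥(Cfsg.GU n K q) //
        ∃ g : ↥(Cfsg.GU n K q), ConjClasses.mk g = C ∧ orderOf g = r} =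
      if i % 4 = 2 then Nat.choose (2 * n / i + s) s - 1
      else Nat.choose (n / (2 * b) + s / 2) (s / 2) - 1 := by
  classical
  have hrK : (r : K) ≠ 0 := by
    intro h0
    rw [CharP.cast_eq_zero_iff K p] at h0
    exact hrp ((Nat.prime_dvd_prime_iff_eq Fact.out hr).mp h0).symm
  haveI : Fact r.Prime := ⟨hr⟩
  have hσσ : ∀ a, σ (σ a) = a := fun a => by
    rw [hσq, hσq, ← pow_mul, ← sq, ← hK, FiniteField.pow_card]
  have hbpos : 0 < b := by
    rcases Nat.eq_zero_or_pos b with h | h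
    · rw [h, mul_zero] at hs
      have := hr.two_le
      omega
    · exact h
  have hordK : orderOf ((Fintype.card K : ℕ) : ZMod r) = b := by
    rw [hK]
    push_cast
    rw [orderOf_pow' _ two_ne_zero, ← hi, hb]
    split_ifs with hodd
    · have h1 : Nat.gcd i 2 = 1 := Nat.coprime_two_right.mpr hodd
      rw [h1, Nat.div_one]
    · have heven : Even i := Nat.not_odd_iff_even.mp hodd
      have h1 : Nat.gcd i 2 = 2 := Nat.gcd_eq_right (even_iff_two_dvd.mp heven)
      rw [h1]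
  obtain ⟨S, hS, hX, hprod, hcard⟩ := Cfsg.Agent.helper11.S2645a.pieceA (F := K) r hr hrK
  rw [hordK] at hS hcard
  have hSs : S.card = s := Nat.eq_of_mul_eq_mul_right hbpos (hcard.trans hs.symm)
  have hSdvd : ∀ g ∈ S, g ∣ (X ^ r - 1 : K[X]) := by
    intro g hg
    rw [hprod]
    exact Dvd.dvd.mul_left (Finset.dvd_prod_of_mem _ hg) _
  have hSne : ∀ g ∈ S, g ≠ (X - 1 : K[X]) := by
    intro g hg h
    exact hX (h ▸ hg)
  have hB := fun g (hg : g ∈ S) => Cfsg.Agent.helper8.S2671x.pieceBu hK σ hσq r hr hr2 hrK g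
    (hS g hg).1 (hS g hg).2.1 (hSdvd g hg) (hSne g hg)
  rw [← hi] at hB
  have hX1 : (X - 1 : K[X]) = X - C 1 := by rw [map_one]
  have hrec : ∀ g ∈ S, (C (g.coeff 0)⁻¹ * g.reverse).map (σ : K →+* K) ∈ S := by
    intro g hg
    obtain ⟨-, hmon, hirr, hdvd, hne, -, -, -⟩ := hB g hg
    rw [hprod] at hdvd
    rcases (hirr.prime.dvd_mul).mp hdvd with h | h
    · exfalso
      apply hne
      apply monic_irr_dvd_eq' _ _ hmon _ hirr _ h
      · rw [hX1]; exact monic_X_sub_C 1
      · rw [hX1]; exact irreducible_X_sub_C 1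
    · obtain ⟨g', hg', hdvd'⟩ := Prime.exists_mem_finset_dvd hirr.prime h
      have := monic_irr_dvd_eq' _ _ hmon (hS g' hg').1 hirr (hS g' hg').2.1 hdvd'
      rw [this]
      exact hg'
  have hinv : ∀ g ∈ S, (C (((C (g.coeff 0)⁻¹ * g.reverse).map (σ : K →+* K)).coeff 0)⁻¹ *
      ((C (g.coeff 0)⁻¹ * g.reverse).map (σ : K →+* K)).reverse).map (σ : K →+* K) = g :=
    fun g hg => (hB g hg).2.2.2.2.2.1
  obtain ⟨hC1a, hC1b, hC1c⟩ :=
    Cfsg.Agent.helper20.S2671x.pieceC1n (F := K) r n b hbpos S hS hX hprod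
  have hC2 := Cfsg.Agent.helper15.S2671x.pieceC2u σ hσσ r n b hr hr2 hbpos S hS hX hprod hrec hinv
  have hPM : Nat.card {f : K[X] // f.Monic ∧ f.natDegree = n ∧
      (∀ k, k ≤ n → f.coeff (n - k) = f.coeff 0 * σ (f.coeff k)) ∧ f ∣ (X ^ r - 1) ^ n} =
      Nat.card {M : Multiset K[X] // (∀ g ∈ M, g ∈ S) ∧
        M.map (fun g => (C (g.coeff 0)⁻¹ * g.reverse).map (σ : K →+* K)) = M ∧
        b * Multiset.card M ≤ n} := by
    symm
    apply Nat.card_congr
    refine Equiv.ofBijective (fun M => ⟨(X - 1) ^ (n - b * Multiset.card M.1) * M.1.prod,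
      (hC1a M.1 M.2.1 M.2.2.2).1, (hC1a M.1 M.2.1 M.2.2.2).2.1,
      (hC2 M.1 M.2.1 M.2.2.2).mpr M.2.2.1, (hC1a M.1 M.2.1 M.2.2.2).2.2⟩) ⟨?_, ?_⟩
    · intro M M' h
      apply Subtype.ext
      exact hC1b M.1 M'.1 M.2.1 M'.2.1 M.2.2.2 M'.2.2.2 (congrArg Subtype.val h)
    · rintro ⟨f, hfm, hfd, hfp, hfdvd⟩
      obtain ⟨M, hMS, hMi, hfM⟩ := hC1c f hfm hfd hfdvd
      refine ⟨⟨M, hMS, ?_, hMi⟩, ?_⟩
      · apply (hC2 M hMS hMi).mp
        rw [← hfM]
        exact hfp
      · apply Subtype.ext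
        exact hfM.symm
  have hle : ∀ M : Multiset K[X], b * Multiset.card M ≤ n ↔ Multiset.card M ≤ n / b := by
    intro M
    rw [Nat.le_div_iff_mul_le hbpos, mul_comm]
  have hcount : Nat.card {M : Multiset K[X] // (∀ g ∈ M, g ∈ S) ∧
      M.map (fun g => (C (g.coeff 0)⁻¹ * g.reverse).map (σ : K →+* K)) = M ∧
      b * Multiset.card M ≤ n} =
      if i % 4 = 2 then Nat.choose (2 * n / i + s) s else Nat.choose (n / (2 * b) + s / 2) (s / 2) := by
    by_cases h42 : i % 4 = 2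
    · rw [if_pos h42]
      have hnodd : ¬ Odd i := by
        intro ho
        obtain ⟨t, ht⟩ := ho
        omega
      have hib : i = 2 * b := by
        rw [if_neg hnodd] at hb
        omega
      have hfixall : ∀ g ∈ S, (C (g.coeff 0)⁻¹ * g.reverse).map (σ : K →+* K) = g :=
        fun g hg => (hB g hg).2.2.2.2.2.2.1 h42
      have h1 : Nat.card {M : Multiset K[X] // (∀ g ∈ M, g ∈ S) ∧
          M.map (fun g => (C (g.coeff 0)⁻¹ * g.reverse).map (σ : K →+* K)) = M ∧
          b * Multiset.card M ≤ n} =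
          Nat.card {M : Multiset K[X] // (∀ g ∈ M, g ∈ S) ∧ Multiset.card M ≤ n / b} := by
        apply Nat.card_congr
        apply Equiv.subtypeEquivRight
        intro M
        constructor
        · rintro ⟨h1, -, h3⟩
          exact ⟨h1, (hle M).mp h3⟩
        · rintro ⟨h1, h3⟩
          refine ⟨h1, ?_, (hle M).mpr h3⟩
          have : M.map (fun g => (C (g.coeff 0)⁻¹ * g.reverse).map (σ : K →+* K)) =
              M.map (fun g => g) :=
            Multiset.map_congr rfl (fun g hg => hfixall g (h1 g hg))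
          rw [this, Multiset.map_id']
      rw [h1, Cfsg.Agent.helper26.S2645x.pieceD1 S, hSs, hib, Nat.mul_div_mul_left _ _ two_pos]
    · rw [if_neg h42]
      have hfix : ∀ g ∈ S, (C (g.coeff 0)⁻¹ * g.reverse).map (σ : K →+* K) ≠ g :=
        fun g hg => (hB g hg).2.2.2.2.2.2.2 h42
      have h1 : Nat.card {M : Multiset K[X] // (∀ g ∈ M, g ∈ S) ∧
          M.map (fun g => (C (g.coeff 0)⁻¹ * g.reverse).map (σ : K →+* K)) = M ∧
          b * Multiset.card M ≤ n} =
          Nat.card {M : Multiset K[X] // (∀ g ∈ M, g ∈ S) ∧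
          M.map (fun g => (C (g.coeff 0)⁻¹ * g.reverse).map (σ : K →+* K)) = M ∧
          Multiset.card M ≤ n / b} := by
        apply Nat.card_congr
        apply Equiv.subtypeEquivRight
        intro M
        rw [hle]
      rw [h1, Cfsg.Agent.helper26.S2645x.pieceD2 S
        (fun g => (C (g.coeff 0)⁻¹ * g.reverse).map (σ : K →+* K)) hrec hinv hfix, hSs,
        Nat.div_div_eq_div_mul, mul_comm b 2]
  rw [hPM, hcount] at hIu
  by_cases h42 : i % 4 = 2
  · rw [if_pos h42] at hIu ⊢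
    omega
  · rw [if_neg h42] at hIu ⊢
    omega

end Cfsg.Agent.helper8.S2671asm
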