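import Mathlib

set_option autoImplicit false
open Polynomial

namespace Cfsg.Agent.helper8.S2672m

variable {F : Type*} [Field F] {ι : Type*} [Fintype ι] [DecidableEq ι]

/-- if `A ^ r = c • 1` then the characteristic polynomial of `A` divides `(X ^ r - C c) ^ card`. -/
theorem charpoly_dvd_of_pow_eq_smul (A : Matrix ι ι F) (r : ℕ) (c : F) (hA : A ^ r = c • 1) :
    A.charpoly ∣ (X ^ r - C c) ^ Fintype.card ι := by
  have hcomm : Commute (Matrix.scalar ι (X : F[X])) (C.mapMatrix A) :=
    Matrix.scalar_commute _ (fun _ => Commute.all _ _) _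
  have h1 := hcomm.geom_sum₂_mul r
  have h2 : (C.mapMatrix A) ^ r = Matrix.scalar ι (C c) := by
    rw [← map_pow, hA]
    ext i j
    by_cases hij : i = j
    · subst hij
      simp
    · simp [hij]
  have h3 : (Matrix.scalar ι (X : F[X])) ^ r - (C.mapMatrix A) ^ r =
      Matrix.scalar ι (X ^ r - C c : F[X]) := by
    rw [h2, ← map_pow, map_sub]
  rw [h3] at h1
  have h4 := congrArg Matrix.det h1
  have hdet : (Matrix.scalar ι (X ^ r - C c : F[X])).det = (X ^ r - C c) ^ Fintype.card ι := by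
    rw [Matrix.scalar_apply, Matrix.det_diagonal, Finset.prod_const, Finset.card_univ]
  rw [Matrix.det_mul, hdet] at h4
  have hcp : A.charpoly = (Matrix.scalar ι (X : F[X]) - C.mapMatrix A).det := rfl
  rw [← h4, hcp]
  exact Dvd.intro_left _ rfl

/-- a matrix of finite order `N` invertible in `F` has squarefree minimal polynomial. -/
theorem squarefree_minpoly (A : Matrix ι ι F) (N : ℕ) (hN : A ^ N = 1) (hNF : (N : F) ≠ 0) :
    Squarefree (minpoly F A) := by
  have hsep : (X ^ N - C (1 : F) : F[X]).Separable :=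
    Polynomial.separable_X_pow_sub_C 1 hNF one_ne_zero
  have hdvd : minpoly F A ∣ X ^ N - C (1 : F) := by
    apply minpoly.dvd
    rw [map_sub, map_pow, aeval_X, aeval_C, map_one, hN, sub_self]
  exact hsep.squarefree.squarefree_of_dvd hdvd

/-- semisimple converse: if the characteristic polynomial divides a power of `X ^ r - C c`, then
`A ^ r = c • 1`. -/
theorem pow_eq_smul_of_charpoly_dvd (A : Matrix ι ι F) (N : ℕ) (hN : A ^ N = 1)
    (hNF : (N : F) ≠ 0) (r m : ℕ) (hm : m ≠ 0) (c : F)
    (h : A.charpoly ∣ (X ^ r - C c) ^ m) : A ^ r = c • 1 := by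
  have hsq := squarefree_minpoly A N hN hNF
  have h1 : minpoly F A ∣ (X ^ r - C c : F[X]) ^ m :=
    dvd_trans (Matrix.minpoly_dvd_charpoly A) h
  have h2 : minpoly F A ∣ (X ^ r - C c : F[X]) := (hsq.dvd_pow_iff_dvd hm).mp h1
  obtain ⟨d, hd⟩ := h2
  have h3 : aeval A (X ^ r - C c : F[X]) = 0 := by
    rw [hd, map_mul, minpoly.aeval, zero_mul]
  rw [map_sub, map_pow, aeval_X, aeval_C, sub_eq_zero] at h3
  rw [h3, Algebra.algebraMap_eq_smul_one]

/-- a semisimple matrix whose characteristic polynomial is `(X - C a) ^ m` is scalar. -/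
theorem eq_smul_of_charpoly_eq (A : Matrix ι ι F) (N : ℕ) (hN : A ^ N = 1)
    (hNF : (N : F) ≠ 0) (m : ℕ) (hm : m ≠ 0) (a : F)
    (h : A.charpoly = (X - C a) ^ m) : A = a • 1 := by
  have h1 := pow_eq_smul_of_charpoly_dvd A N hN hNF 1 m hm a (by rw [pow_one, h])
  rwa [pow_one] at h1

/-- the characteristic polynomial of a scalar matrix. -/
theorem charpoly_smul_one (a : F) :
    (a • (1 : Matrix ι ι F)).charpoly = (X - C a) ^ Fintype.card ι := by
  have h : (a • (1 : Matrix ι ι F)) = Matrix.diagonal (fun _ => a) := by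
    rw [Matrix.smul_one_eq_diagonal]
  rw [h, Matrix.charpoly_diagonal]
  simp

end Cfsg.Agent.helper8.S2672m
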