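import Mathlib
import Cfsg.Prelude.Def_LieClassical
import Cfsg.Agent.Lib_helper11_Unitary
import Cfsg.Agent.Lib_helper8_GUcenter

set_option autoImplicit false

namespace Cfsg.Agent.helper8.S2672x

open Matrix Cfsg.Agent.helper11.Unitary Cfsg.Agent.helper8.GUcenter

/-- PIECE P2: the centre of GU_n(q) (n ≥ 2) is the group of scalars of norm 1. -/
theorem pieceP2 {K : Type*} [Field K] [Fintype K] {q n : ℕ} (hK : Fintype.card K = q ^ 2)
    (hn : 2 ≤ n) :
    ∃ e : ↥(Subgroup.center ↥(Cfsg.GU n K q)) ≃ {μ : K // μ ^ (q + 1) = 1},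
      ∀ z : ↥(Subgroup.center ↥(Cfsg.GU n K q)),
        (((z : ↥(Cfsg.GU n K q)) : GL (Fin n) K) : Matrix (Fin n) (Fin n) K) =
          ((e z : K)) • (1 : Matrix (Fin n) (Fin n) K) := by
  classical
  have hq0 : q ≠ 0 := q_ne_zero hK
  obtain ⟨i0⟩ : Nonempty (Fin n) := ⟨⟨0, by omega⟩⟩
  have hentry : ∀ c d : K, (c • (1 : Matrix (Fin n) (Fin n) K)) = d • 1 → c = d := by
    intro c d h
    have h1 := congrFun (congrFun h i0) i0
    rw [Matrix.smul_apply, Matrix.smul_apply, Matrix.one_apply_eq, smul_eq_mul, smul_eq_mul,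
      mul_one, mul_one] at h1
    exact h1
  have hex : ∀ z : ↥(Subgroup.center ↥(Cfsg.GU n K q)), ∃ c : K,
      (((z : ↥(Cfsg.GU n K q)) : GL (Fin n) K) : Matrix (Fin n) (Fin n) K) = c • 1 :=
    fun z => (mem_center_GU_iff hK z.1).mp z.2
  have hnorm : ∀ (g : ↥(Cfsg.GU n K q)) (c : K),
      ((g : GL (Fin n) K) : Matrix (Fin n) (Fin n) K) = c • 1 → c ^ (q + 1) = 1 := by
    intro g c hc
    have h1 := (mem_GU_iff (g : GL (Fin n) K)).mp g.2 (Pi.single i0 1) (Pi.single i0 1)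
    rw [hc, Matrix.smul_mulVec, Matrix.one_mulVec, herm_smul_left, herm_smul_right,
      herm_single_right hq0, Pi.single_eq_same, mul_one] at h1
    rw [pow_succ']
    exact h1
  have hpres : ∀ μ : K, μ ^ (q + 1) = 1 → ∀ u v : Fin n → K,
      Cfsg.hermForm n K q ((μ • (1 : Matrix (Fin n) (Fin n) K)) *ᵥ u)
        ((μ • (1 : Matrix (Fin n) (Fin n) K)) *ᵥ v) = Cfsg.hermForm n K q u v := by
    intro μ hμ u v
    rw [Matrix.smul_mulVec, Matrix.one_mulVec, Matrix.smul_mulVec, Matrix.one_mulVec,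
      herm_smul_left, herm_smul_right, ← mul_assoc, ← pow_succ', hμ, one_mul]
  let f : ↥(Subgroup.center ↥(Cfsg.GU n K q)) → {μ : K // μ ^ (q + 1) = 1} := fun z =>
    ⟨Classical.choose (hex z), hnorm z.1 _ (Classical.choose_spec (hex z))⟩
  have hf : ∀ z : ↥(Subgroup.center ↥(Cfsg.GU n K q)),
      (((z : ↥(Cfsg.GU n K q)) : GL (Fin n) K) : Matrix (Fin n) (Fin n) K) =
      ((f z : K)) • (1 : Matrix (Fin n) (Fin n) K) := fun z => Classical.choose_spec (hex z)
  have hbij : Function.Bijective f := by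
    constructor
    · intro z z' h
      apply Subtype.ext
      apply Subtype.ext
      apply Units.ext
      rw [hf z, hf z', h]
    · intro μ
      have hc : (mkGU hK (μ.1 • (1 : Matrix (Fin n) (Fin n) K)) (hpres μ.1 μ.2)) ∈
          Subgroup.center ↥(Cfsg.GU n K q) := by
        rw [mem_center_GU_iff hK]
        exact ⟨μ.1, coe_mkGU hK _ _⟩
      refine ⟨⟨_, hc⟩, ?_⟩
      apply Subtype.ext
      apply hentry
      rw [← hf]
      exact coe_mkGU hK _ _
  exact ⟨Equiv.ofBijective f hbij, fun z => hf z⟩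

end Cfsg.Agent.helper8.S2672x
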