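import Mathlib
import Cfsg.Agent.Lib_helper16_S2670x

set_option autoImplicit false

namespace Cfsg.Agent.helper8.S2672y

open Cfsg.Agent.helper16.S2670x

/-- PIECE P4a3: `r`-th powers among the norm-one elements (`r` odd prime, `r ∣ q + 1`). -/
theorem pieceP4a3 {K : Type*} [Field K] [Fintype K] {q r : ℕ} (hK : Fintype.card K = q ^ 2)
    (hr : r.Prime) (hr2 : r ≠ 2) (hrq : r ∣ q + 1) :
    (∀ c : K, c ^ (q + 1) = 1 → (∃ b : K, b ^ r = c) → ∃ b : K, b ^ (q + 1) = 1 ∧ b ^ r = c) ∧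
    Nat.card {c : K // c ^ (q + 1) = 1} = q + 1 ∧
    Nat.card {c : K // c ^ (q + 1) = 1 ∧ ∃ b : K, b ^ r = c} * r = q + 1 ∧
    (∀ μ : K, μ ^ r = 1 → μ ^ (q + 1) = 1) ∧
    Nat.card {μ : K // μ ^ r = 1 ∧ μ ≠ 1} = r - 1 ∧
    r ∣ Fintype.card K - 1 ∧ (r : K) ≠ 0 := by
  classical
  haveI : Fact r.Prime := ⟨hr⟩
  have hq0 : q ≠ 0 := by
    intro h
    have hpos : 0 < Fintype.card K := Fintype.card_pos
    rw [hK, h] at hpos
    simp at hpos
  obtain ⟨q', rfl⟩ : ∃ q', q = q' + 1 := ⟨q - 1, by omega⟩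
  have hrq' : r ∣ q' + 2 := hrq
  have hN : Fintype.card K - 1 = q' * (q' + 2) := by
    rw [hK, show (q' + 1) ^ 2 = q' * (q' + 2) + 1 by ring, Nat.add_sub_cancel]
  have hcardU : Nat.card Kˣ = q' * (q' + 2) := by
    rw [Nat.card_eq_fintype_card, Fintype.card_units, hN]
  have h6 : r ∣ Fintype.card K - 1 := by
    rw [hN]
    exact Dvd.dvd.mul_left hrq' _
  have hq1 : ((Fintype.card K : ℕ) : ZMod r) = 1 := by
    have h1 : ((Fintype.card K - 1 : ℕ) : ZMod r) = 0 := (ZMod.natCast_eq_zero_iff _ _).mpr h6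
    rw [Nat.cast_sub Fintype.card_pos, Nat.cast_one, sub_eq_zero] at h1
    exact h1
  have h7 : (r : K) ≠ 0 := by
    intro h0
    obtain ⟨p, hp⟩ := CharP.exists K
    obtain ⟨k, hpp, hcard⟩ := FiniteField.card K p
    rw [CharP.cast_eq_zero_iff K p] at h0
    have hpr : p = r := (Nat.prime_dvd_prime_iff_eq hpp hr).mp h0
    have h2 : ((Fintype.card K : ℕ) : ZMod r) = 0 := by
      rw [hcard, hpr]
      push_cast
      rw [ZMod.natCast_self]
      exact zero_pow k.ne_zero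
    rw [hq1] at h2
    exact one_ne_zero h2
  have h4 : ∀ μ : K, μ ^ r = 1 → μ ^ (q' + 1 + 1) = 1 := by
    intro μ hμ
    obtain ⟨k, hk⟩ := hrq
    rw [hk, pow_mul, hμ, one_pow]
  have hcop : Nat.Coprime r q' := by
    rw [Nat.Prime.coprime_iff_not_dvd hr]
    intro h
    have h2 : r ∣ 2 := (Nat.dvd_add_right h).mp hrq'
    exact hr2 ((Nat.prime_dvd_prime_iff_eq hr Nat.prime_two).mp h2)
  have h1 : ∀ c : K, c ^ (q' + 1 + 1) = 1 → (∃ b : K, b ^ r = c) →
      ∃ b : K, b ^ (q' + 1 + 1) = 1 ∧ b ^ r = c := by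
    rintro c hc ⟨b, hb⟩
    refine ⟨b, ?_, hb⟩
    have hb0 : b ≠ 0 := by
      intro h0
      rw [h0, zero_pow hr.ne_zero] at hb
      rw [← hb, zero_pow (by omega)] at hc
      exact zero_ne_one hc
    have e1 : b ^ (r * (q' + 2)) = 1 := by
      rw [pow_mul, hb]
      exact hc
    have e2 : b ^ (q' * (q' + 2)) = 1 := by
      rw [← hN]
      exact FiniteField.pow_card_sub_one_eq_one b hb0
    have d1 := orderOf_dvd_of_pow_eq_one e1
    have d2 := orderOf_dvd_of_pow_eq_one e2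
    have d3 : orderOf b ∣ Nat.gcd (r * (q' + 2)) (q' * (q' + 2)) := Nat.dvd_gcd d1 d2
    rw [Nat.gcd_mul_right, hcop.gcd_eq_one, one_mul] at d3
    exact orderOf_dvd_iff_pow_eq_one.mp d3
  have hker : ∀ d : ℕ, 0 < d → d ∣ q' * (q' + 2) → Nat.card {μ : K // μ ^ d = 1} = d := by
    intro d hd hdvd
    rw [← Nat.card_congr (kerEquiv (F := K) d hd), IsCyclic.card_powMonoidHom_ker, hcardU]
    exact Nat.gcd_eq_right hdvd
  have h2 : Nat.card {c : K // c ^ (q' + 1 + 1) = 1} = q' + 1 + 1 :=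
    hker _ (by omega) (Dvd.intro_left _ rfl)
  have h5 : Nat.card {μ : K // μ ^ r = 1 ∧ μ ≠ 1} = r - 1 := by
    have hr' := hker r hr.pos (by rw [← hN]; exact h6)
    rw [Nat.card_eq_fintype_card, Fintype.card_subtype] at hr' ⊢
    have hset : (Finset.univ.filter (fun μ : K => μ ^ r = 1 ∧ μ ≠ 1)) =
        (Finset.univ.filter (fun μ : K => μ ^ r = 1)).erase 1 := by
      ext μ
      simp [and_comm]
    rw [hset, Finset.card_erase_of_mem (by simp), hr']
  have h3 : Nat.card {c : K // c ^ (q' + 1 + 1) = 1 ∧ ∃ b : K, b ^ r = c} * r = q' + 1 + 1 := by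
    have hmemU : ∀ u : Kˣ, u ∈ (powMonoidHom (q' + 1 + 1) : Kˣ →* Kˣ).ker ↔
        (u : K) ^ (q' + 1 + 1) = 1 := by
      intro u
      rw [MonoidHom.mem_ker, powMonoidHom_apply]
      constructor
      · intro h
        have := congrArg Units.val h
        simpa using this
      · intro h
        apply Units.ext
        simpa using h
    have hUcard : Nat.card ↥(powMonoidHom (q' + 1 + 1) : Kˣ →* Kˣ).ker = q' + 1 + 1 := by
      rw [Nat.card_congr (kerEquiv (F := K) (q' + 1 + 1) (by omega))]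
      exact h2
    have hrange := IsCyclic.card_powMonoidHom_range
      ↥(powMonoidHom (q' + 1 + 1) : Kˣ →* Kˣ).ker r
    rw [hUcard, Nat.gcd_eq_right hrq] at hrange
    have hpow : ∀ y : ↥(powMonoidHom r : ↥(powMonoidHom (q' + 1 + 1) : Kˣ →* Kˣ).ker →*
        ↥(powMonoidHom (q' + 1 + 1) : Kˣ →* Kˣ).ker).range,
        ∃ b : K, b ^ r = ((y.1.1 : Kˣ) : K) := by
      intro y
      obtain ⟨x, hx⟩ := y.2
      refine ⟨((x.1 : Kˣ) : K), ?_⟩
      rw [powMonoidHom_apply] at hx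
      have := congrArg (fun u : ↥(powMonoidHom (q' + 1 + 1) : Kˣ →* Kˣ).ker =>
        ((u.1 : Kˣ) : K)) hx
      simpa using this
    have hbij : Nat.card ↥(powMonoidHom r : ↥(powMonoidHom (q' + 1 + 1) : Kˣ →* Kˣ).ker →*
        ↥(powMonoidHom (q' + 1 + 1) : Kˣ →* Kˣ).ker).range =
        Nat.card {c : K // c ^ (q' + 1 + 1) = 1 ∧ ∃ b : K, b ^ r = c} := by
      apply Nat.card_congr
      refine Equiv.ofBijective (fun y => ⟨((y.1.1 : Kˣ) : K), (hmemU _).mp y.1.2, hpow y⟩)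
        ⟨?_, ?_⟩
      · intro y y' h
        have h1' : ((y.1.1 : Kˣ) : K) = ((y'.1.1 : Kˣ) : K) := congrArg Subtype.val h
        apply Subtype.ext
        apply Subtype.ext
        apply Units.ext
        exact h1'
      · rintro ⟨c, hc, hbc⟩
        obtain ⟨b, hb1, hb2⟩ := h1 c hc hbc
        have hb0 : b ≠ 0 := by
          intro h0
          rw [h0, zero_pow (by omega)] at hb1
          exact zero_ne_one hb1
        have hub : Units.mk0 b hb0 ∈ (powMonoidHom (q' + 1 + 1) : Kˣ →* Kˣ).ker :=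
          (hmemU _).mpr hb1
        refine ⟨⟨(⟨Units.mk0 b hb0, hub⟩ : ↥(powMonoidHom (q' + 1 + 1) : Kˣ →* Kˣ).ker) ^ r,
          ⟨⟨Units.mk0 b hb0, hub⟩, rfl⟩⟩, ?_⟩
        apply Subtype.ext
        show ((((⟨Units.mk0 b hb0, hub⟩ : ↥(powMonoidHom (q' + 1 + 1) : Kˣ →* Kˣ).ker) ^ r).1 :
          Kˣ) : K) = c
        rw [SubmonoidClass.coe_pow, Units.val_pow_eq_pow_val]
        exact hb2
    rw [← hbij, hrange]
    exact Nat.div_mul_cancel hrq
  exact ⟨h1, h2, h3, h4, h5, h6, h7⟩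

end Cfsg.Agent.helper8.S2672y
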