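import Mathlib
import Cfsg.Prelude.Def_SporadicCombinatorics

set_option autoImplicit false

namespace Cfsg.Agent.helper8.TG

open Cfsg

/-- index of an array point -/
def idx (p : ArrayPt) : ℕ := 3 * p.1.val + ZMod.val p.2

/-- word given by a table -/
def ofList (l : List (ZMod 3)) : ArrayPt → ZMod 3 := fun p => l.getD (idx p) 0

/-- the point of a given index -/
def pt (k : ℕ) : ArrayPt := (⟨(k / 3) % 4, Nat.mod_lt _ (by norm_num)⟩, ((k % 3 : ℕ) : ZMod 3))

theorem idx_pt : ∀ k : Fin 12, idx (pt k) = k := by decide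

theorem pt_idx : ∀ p : ArrayPt, pt (idx p) = p := by decide

theorem idx_lt : ∀ p : ArrayPt, idx p < 12 := by decide

/-- decidable form of the defining condition -/
def Chk (x : ArrayPt → ZMod 3) : Prop :=
  ∃ s : ZMod 3, (∀ i : Fin 4, ∑ r : ZMod 3, x (i, r) = -s) ∧
    ∀ a b : ZMod 3, ∑ i : Fin 4, x (i, (a • ![0, 1, 1, 1] + b • ![1, 0, 1, 2] : Fin 4 → ZMod 3) i) = s

instance (x : ArrayPt → ZMod 3) : Decidable (Chk x) := by
  unfold Chk; infer_instance

theorem mem_iff (x : ArrayPt → ZMod 3) : x ∈ ternaryGolayCode ↔ Chk x := by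
  change IsTernaryGolayWord x ↔ Chk x
  unfold IsTernaryGolayWord Chk tetracode
  constructor
  · rintro ⟨s, h1, h2⟩
    exact ⟨s, h1, fun a b => h2 _ (Submodule.mem_span_pair.mpr ⟨a, b, rfl⟩)⟩
  · rintro ⟨s, h1, h2⟩
    refine ⟨s, h1, fun t ht => ?_⟩
    obtain ⟨a, b, rfl⟩ := Submodule.mem_span_pair.mp ht
    exact h2 a b

/-- generator matrix in reduced echelon form, pivots 0,1,2,3,4,6 -/
def G : Fin 6 → ArrayPt → ZMod 3 := ![
  ofList [1, 0, 0, 0, 0, 1, 0, 0, 1, 1, 1, 2],
  ofList [0, 1, 0, 0, 0, 1, 0, 2, 2, 2, 0, 2],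
  ofList [0, 0, 1, 0, 0, 1, 0, 1, 0, 2, 1, 1],
  ofList [0, 0, 0, 1, 0, 2, 0, 2, 1, 2, 1, 0],
  ofList [0, 0, 0, 0, 1, 2, 0, 1, 2, 0, 1, 2],
  ofList [0, 0, 0, 0, 0, 0, 1, 1, 1, 2, 2, 2]]

/-- pivot positions -/
def piv : Fin 6 → ArrayPt := ![pt 0, pt 1, pt 2, pt 3, pt 4, pt 6]

theorem G_chk : ∀ j : Fin 6, Chk (G j) := by decide +kernel

theorem G_mem (j : Fin 6) : G j ∈ ternaryGolayCode := (mem_iff _).mpr (G_chk j)

theorem G_piv : ∀ j k : Fin 6, G j (piv k) = if j = k then 1 else 0 := by decide +kernel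

/-- the parameter type -/
abbrev T6 : Type := ZMod 3 × ZMod 3 × ZMod 3 × ZMod 3 × ZMod 3 × ZMod 3

/-- coefficient vector of a parameter -/
def cf (t : T6) : Fin 6 → ZMod 3 := ![t.1, t.2.1, t.2.2.1, t.2.2.2.1, t.2.2.2.2.1, t.2.2.2.2.2]

/-- encoding -/
def enc (t : T6) : ArrayPt → ZMod 3 := fun p => ∑ j, cf t j * G j p

theorem enc_eq (t : T6) : enc t = ∑ j, cf t j • G j := by
  funext p
  simp [enc, Finset.sum_apply]

theorem enc_mem (t : T6) : enc t ∈ ternaryGolayCode := by
  rw [enc_eq]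
  exact Submodule.sum_mem _ fun j _ => Submodule.smul_mem _ _ (G_mem j)

/-- decoding: read off the pivots -/
def dec (x : ArrayPt → ZMod 3) : T6 := (x (pt 0), x (pt 1), x (pt 2), x (pt 3), x (pt 4), x (pt 6))

theorem cf_dec (x : ArrayPt → ZMod 3) : ∀ j, cf (dec x) j = x (piv j) := by
  intro j
  fin_cases j <;> rfl

theorem enc_piv (t : T6) (k : Fin 6) : enc t (piv k) = cf t k := by
  simp only [enc, G_piv]
  simp

theorem dec_enc (t : T6) : dec (enc t) = t := by
  have h := enc_piv t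
  have h0 := h 0
  have h1 := h 1
  have h2 := h 2
  have h3 := h 3
  have h4 := h 4
  have h5 := h 5
  simp only [piv, cf] at h0 h1 h2 h3 h4 h5
  obtain ⟨a, b, c, d, e, f⟩ := t
  simp only [dec]
  simp only [Matrix.cons_val_zero, Matrix.cons_val_one] at h0 h1
  simp only [Matrix.cons_val] at h2 h3 h4 h5
  rw [h0, h1, h2, h3, h4, h5]

/-- words vanishing on the pivots -/
def W (a b c d e f : ZMod 3) : ArrayPt → ZMod 3 := ofList [0, 0, 0, 0, 0, a, 0, b, c, d, e, f]

theorem W_zero : ∀ a b c d e f : ZMod 3, Chk (W a b c d e f) →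
    a = 0 ∧ b = 0 ∧ c = 0 ∧ d = 0 ∧ e = 0 ∧ f = 0 := by decide +kernel

theorem eq_ofList (x : ArrayPt → ZMod 3) :
    x = ofList [x (pt 0), x (pt 1), x (pt 2), x (pt 3), x (pt 4), x (pt 5), x (pt 6), x (pt 7),
      x (pt 8), x (pt 9), x (pt 10), x (pt 11)] := by
  funext p
  have h : ∀ k : Fin 12, ofList [x (pt 0), x (pt 1), x (pt 2), x (pt 3), x (pt 4), x (pt 5),
      x (pt 6), x (pt 7), x (pt 8), x (pt 9), x (pt 10), x (pt 11)] (pt k) = x (pt k) := by
    intro k
    simp only [ofList, idx_pt]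
    fin_cases k <;> rfl
  have := h ⟨idx p, idx_lt p⟩
  simp only [pt_idx] at this
  exact this.symm

theorem eq_zero_of_piv {y : ArrayPt → ZMod 3} (hy : y ∈ ternaryGolayCode)
    (h : ∀ k, y (piv k) = 0) : y = 0 := by
  have h0 := h 0
  have h1 := h 1
  have h2 := h 2
  have h3 := h 3
  have h4 := h 4
  have h5 := h 5
  simp only [piv] at h0 h1 h2 h3 h4 h5
  simp only [Matrix.cons_val_zero, Matrix.cons_val_one] at h0 h1
  simp only [Matrix.cons_val] at h2 h3 h4 h5
  have e := eq_ofList y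
  rw [h0, h1, h2, h3, h4, h5] at e
  have hc : Chk (W (y (pt 5)) (y (pt 7)) (y (pt 8)) (y (pt 9)) (y (pt 10)) (y (pt 11))) := by
    have := (mem_iff y).mp hy
    rw [e] at this
    exact this
  obtain ⟨a, b, c, d, e', f⟩ := W_zero _ _ _ _ _ _ hc
  rw [e, a, b, c, d, e', f]
  funext p
  have : ∀ p : ArrayPt, ofList [0, 0, 0, 0, 0, 0, 0, 0, 0, 0, 0, 0] p = 0 := by decide
  exact this p

theorem enc_dec {x : ArrayPt → ZMod 3} (hx : x ∈ ternaryGolayCode) : enc (dec x) = x := by
  have h : x - enc (dec x) = 0 := by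
    apply eq_zero_of_piv (Submodule.sub_mem _ hx (enc_mem _))
    intro k
    rw [Pi.sub_apply, enc_piv, cf_dec, sub_self]
  exact (sub_eq_zero.mp h).symm

/-- the code is in bijection with the parameter space -/
def equivCode : T6 ≃ ↥ternaryGolayCode where
  toFun t := ⟨enc t, enc_mem t⟩
  invFun x := dec x.1
  left_inv t := dec_enc t
  right_inv x := Subtype.ext (enc_dec x.2)

theorem enc_injective : Function.Injective enc := fun a b h => by
  rw [← dec_enc a, ← dec_enc b, h]

theorem card_code : Nat.card ↥ternaryGolayCode = 729 := by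
  rw [← Nat.card_congr equivCode, Nat.card_eq_fintype_card]
  simp only [T6, Fintype.card_prod, ZMod.card]

theorem wt_enc : ∀ t : T6, (ternarySupport (enc t)).card = 0 ∨ (ternarySupport (enc t)).card = 6 ∨
    (ternarySupport (enc t)).card = 9 ∨ (ternarySupport (enc t)).card = 12 := by decide +kernel

theorem cnt6 : (Finset.univ.filter fun t : T6 => (ternarySupport (enc t)).card = 6).card = 264 := by
  decide +kernel

theorem cnt9 : (Finset.univ.filter fun t : T6 => (ternarySupport (enc t)).card = 9).card = 440 := by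
  decide +kernel

theorem cnt12 : (Finset.univ.filter fun t : T6 => (ternarySupport (enc t)).card = 12).card = 24 := by
  decide +kernel

theorem eq_zero_of_card_eq_zero {x : ArrayPt → ZMod 3} (h : (ternarySupport x).card = 0) : x = 0 := by
  rw [Finset.card_eq_zero, ternarySupport, Finset.filter_eq_empty_iff] at h
  funext p
  have := h (Finset.mem_univ p)
  push Not at this
  exact this

theorem wt_code {x : ArrayPt → ZMod 3} (hx : x ∈ ternaryGolayCode) :
    x = 0 ∨ (ternarySupport x).card = 6 ∨ (ternarySupport x).card = 9 ∨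
      (ternarySupport x).card = 12 := by
  have h := wt_enc (dec x)
  rw [enc_dec hx] at h
  rcases h with h | h
  · exact Or.inl (eq_zero_of_card_eq_zero h)
  · exact Or.inr h

theorem ncard_wt (k : ℕ) :
    {x : ArrayPt → ZMod 3 | x ∈ ternaryGolayCode ∧ (ternarySupport x).card = k}.ncard =
      (Finset.univ.filter fun t : T6 => (ternarySupport (enc t)).card = k).card := by
  have h : {x : ArrayPt → ZMod 3 | x ∈ ternaryGolayCode ∧ (ternarySupport x).card = k} =
      enc '' {t : T6 | (ternarySupport (enc t)).card = k} := by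
    ext x
    constructor
    · rintro ⟨hx, hk⟩
      refine ⟨dec x, ?_, enc_dec hx⟩
      change (ternarySupport (enc (dec x))).card = k
      rw [enc_dec hx]
      exact hk
    · rintro ⟨t, ht, rfl⟩
      exact ⟨enc_mem t, ht⟩
  rw [h, Set.ncard_image_of_injective _ enc_injective, Set.ncard_eq_toFinset_card']
  congr 1
  ext t
  simp

/-- dot product -/
def dot (x y : ArrayPt → ZMod 3) : ZMod 3 := ∑ p, x p * y p

theorem G_dot : ∀ j k : Fin 6, dot (G j) (G k) = 0 := by decide +kernel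

theorem dot_enc_left (t : T6) (y : ArrayPt → ZMod 3) :
    dot (enc t) y = ∑ j, cf t j * dot (G j) y := by
  simp only [dot, enc, Finset.sum_mul, Finset.mul_sum]
  rw [Finset.sum_comm]
  refine Finset.sum_congr rfl fun j _ => Finset.sum_congr rfl fun p _ => ?_
  ring

theorem dot_symm (x y : ArrayPt → ZMod 3) : dot x y = dot y x := by
  simp only [dot, mul_comm]

theorem dot_code {x y : ArrayPt → ZMod 3} (hx : x ∈ ternaryGolayCode)
    (hy : y ∈ ternaryGolayCode) : dot x y = 0 := by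
  rw [← enc_dec hx, ← enc_dec hy, dot_enc_left]
  refine Finset.sum_eq_zero fun j _ => ?_
  rw [dot_symm, dot_enc_left]
  have : ∀ k, dot (G k) (G j) = 0 := fun k => G_dot k j
  simp [this]

/-- general table lookup -/
def ofL {α : Type*} (d : α) (l : List α) : ArrayPt → α := fun p => l.getD (idx p) d

theorem eq_ofL {α : Type*} (d : α) (x : ArrayPt → α) :
    x = ofL d [x (pt 0), x (pt 1), x (pt 2), x (pt 3), x (pt 4), x (pt 5), x (pt 6), x (pt 7),
      x (pt 8), x (pt 9), x (pt 10), x (pt 11)] := by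
  funext p
  have h : ∀ k : Fin 12, ofL d [x (pt 0), x (pt 1), x (pt 2), x (pt 3), x (pt 4), x (pt 5),
      x (pt 6), x (pt 7), x (pt 8), x (pt 9), x (pt 10), x (pt 11)] (pt k) = x (pt k) := by
    intro k
    simp only [ofL, idx_pt]
    fin_cases k <;> rfl
  have := h ⟨idx p, idx_lt p⟩
  simp only [pt_idx] at this
  exact this.symm

/-- sign vector from a list of booleans -/
def sg (l : List Bool) : ArrayPt → ZMod 3 := fun p => if ofL false l p then 2 else 1

theorem sign_brute : ∀ b0 b1 b2 b3 b4 b5 b6 b7 b8 b9 b10 b11 : Bool,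
    (∀ j : Fin 6, Chk (fun p => sg [b0, b1, b2, b3, b4, b5, b6, b7, b8, b9, b10, b11] p * G j p)) →
    (∀ k : Fin 12, [b0, b1, b2, b3, b4, b5, b6, b7, b8, b9, b10, b11].getD k false = false) ∨
    (∀ k : Fin 12, [b0, b1, b2, b3, b4, b5, b6, b7, b8, b9, b10, b11].getD k false = true) := by
  decide +kernel

end Cfsg.Agent.helper8.TG
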