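import Mathlib
import Cfsg.Agent.Lib_helper8_TGolay

set_option autoImplicit false

namespace Cfsg.Agent.helper8.TG

open Cfsg

theorem mem_supp {x : ArrayPt → ZMod 3} {p : ArrayPt} : p ∈ ternarySupport x ↔ x p ≠ 0 := by
  simp [ternarySupport]

theorem supp_neg (x : ArrayPt → ZMod 3) : ternarySupport (-x) = ternarySupport x := by
  ext p
  simp [mem_supp]

theorem eq_zero_of_card_lt {z : ArrayPt → ZMod 3} (hz : z ∈ ternaryGolayCode)
    (h : (ternarySupport z).card < 6) : z = 0 := by
  rcases wt_code hz with h1 | h1 | h1 | h1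
  · exact h1
  · omega
  · omega
  · omega

theorem zmod3_cases : ∀ a b : ZMod 3, a ≠ 0 → b ≠ 0 → a ≠ b → a + b = 0 := by decide

theorem zmod3_neg_self : ∀ a : ZMod 3, a = -a → a = 0 := by decide

theorem hexad_pm {x y : ArrayPt → ZMod 3} (hx : x ∈ ternaryGolayCode) (hy : y ∈ ternaryGolayCode)
    (wx : (ternarySupport x).card = 6) (wy : (ternarySupport y).card = 6)
    (h5 : 5 ≤ (ternarySupport x ∩ ternarySupport y).card) : y = x ∨ y = -x := by
  classical
  obtain ⟨A, hA⟩ : ∃ A, A = ternarySupport x ∩ ternarySupport y := ⟨_, rfl⟩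
  obtain ⟨U, hU⟩ : ∃ U, U = ternarySupport x ∪ ternarySupport y := ⟨_, rfl⟩
  rw [← hA] at h5
  have hsplit := Finset.card_filter_add_card_filter_not (s := A) (p := fun p => x p = y p)
  have hUA : U.card + A.card = 12 := by
    rw [hU, hA, Finset.card_union_add_card_inter, wx, wy]
  have hAU : A ⊆ U := by
    rw [hA, hU]
    exact Finset.inter_subset_left.trans Finset.subset_union_left
  by_cases h3 : 3 ≤ (A.filter fun p => x p = y p).card
  · left
    have hz : x - y ∈ ternaryGolayCode := Submodule.sub_mem _ hx hy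
    have hsub : ternarySupport (x - y) ⊆ U \ (A.filter fun p => x p = y p) := by
      intro p hp
      rw [mem_supp, Pi.sub_apply] at hp
      rw [Finset.mem_sdiff, hU, Finset.mem_union, mem_supp, mem_supp, Finset.mem_filter]
      constructor
      · by_contra hcon
        push Not at hcon
        rw [hcon.1, hcon.2] at hp
        exact hp (sub_self 0)
      · rintro ⟨_, hxy⟩
        exact hp (sub_eq_zero.mpr hxy)
    have hcard := Finset.card_le_card hsub
    rw [Finset.card_sdiff_of_subset ((Finset.filter_subset _ _).trans hAU)] at hcard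
    have : x - y = 0 := eq_zero_of_card_lt hz (by omega)
    exact (sub_eq_zero.mp this).symm
  · right
    have h3' : 3 ≤ (A.filter fun p => ¬ x p = y p).card := by omega
    have hz : x + y ∈ ternaryGolayCode := Submodule.add_mem _ hx hy
    have hsub : ternarySupport (x + y) ⊆ U \ (A.filter fun p => ¬ x p = y p) := by
      intro p hp
      rw [mem_supp, Pi.add_apply] at hp
      rw [Finset.mem_sdiff, hU, Finset.mem_union, mem_supp, mem_supp, Finset.mem_filter]
      constructor
      · by_contra hcon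
        push Not at hcon
        rw [hcon.1, hcon.2] at hp
        exact hp (add_zero 0)
      · rintro ⟨hpA, hxy⟩
        rw [hA, Finset.mem_inter, mem_supp, mem_supp] at hpA
        exact hp (zmod3_cases _ _ hpA.1 hpA.2 hxy)
    have hcard := Finset.card_le_card hsub
    rw [Finset.card_sdiff_of_subset ((Finset.filter_subset _ _).trans hAU)] at hcard
    have : x + y = 0 := eq_zero_of_card_lt hz (by omega)
    exact (neg_eq_of_add_eq_zero_right this).symm ▸ rfl

/-- the hexads -/
def Hex : Set (Finset ArrayPt) :=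
  {h : Finset ArrayPt | ∃ x ∈ ternaryGolayCode, ternarySupport x = h ∧ h.card = 6}

theorem hexad_unique {b b' s : Finset ArrayPt} (hb : b ∈ Hex) (hb' : b' ∈ Hex) (hs : s.card = 5)
    (h1 : s ⊆ b) (h2 : s ⊆ b') : b = b' := by
  obtain ⟨x, hx, rfl, wx⟩ := hb
  obtain ⟨y, hy, rfl, wy⟩ := hb'
  have h5 : 5 ≤ (ternarySupport x ∩ ternarySupport y).card := by
    rw [← hs]
    exact Finset.card_le_card (Finset.subset_inter h1 h2)
  rcases hexad_pm hx hy wx wy h5 with h | h
  · rw [h]
  · rw [h, supp_neg]

/-- weight six parameters -/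
def W6 : Finset T6 := Finset.univ.filter fun t : T6 => (ternarySupport (enc t)).card = 6

/-- hexads as a finset -/
def HF : Finset (Finset ArrayPt) := W6.image fun t => ternarySupport (enc t)

theorem mem_W6 {t : T6} : t ∈ W6 ↔ (ternarySupport (enc t)).card = 6 := by
  simp [W6]

theorem mem_HF {h : Finset ArrayPt} : h ∈ HF ↔ h ∈ Hex := by
  rw [HF, Finset.mem_image]
  constructor
  · rintro ⟨t, ht, rfl⟩
    exact ⟨enc t, enc_mem t, rfl, mem_W6.mp ht⟩
  · rintro ⟨x, hx, rfl, wx⟩
    refine ⟨dec x, ?_, by rw [enc_dec hx]⟩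
    rw [mem_W6, enc_dec hx]
    exact wx

theorem coe_HF : (HF : Set (Finset ArrayPt)) = Hex := by
  ext h
  exact mem_HF

theorem card_of_mem_HF {h : Finset ArrayPt} (hh : h ∈ HF) : h.card = 6 := by
  obtain ⟨x, _, _, w⟩ := mem_HF.mp hh
  exact w

theorem fiber_card {b : Finset ArrayPt} (hb : b ∈ HF) :
    (W6.filter fun t => ternarySupport (enc t) = b).card = 2 := by
  classical
  rw [HF, Finset.mem_image] at hb
  obtain ⟨t0, ht0, rfl⟩ := hb
  have w0 := mem_W6.mp ht0
  have hneg : -enc t0 ∈ ternaryGolayCode := Submodule.neg_mem _ (enc_mem t0)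
  obtain ⟨t1, ht1⟩ : ∃ t1, t1 = dec (-enc t0) := ⟨_, rfl⟩
  have e1 : enc t1 = -enc t0 := by rw [ht1, enc_dec hneg]
  have hne : t0 ≠ t1 := by
    intro h
    have h2 : enc t0 = -enc t0 := by
      conv_lhs => rw [h]
      exact e1
    have h3 : enc t0 = 0 := by
      funext p
      exact zmod3_neg_self _ (congrFun h2 p)
    rw [h3] at w0
    simp [ternarySupport] at w0
  have : (W6.filter fun t => ternarySupport (enc t) = ternarySupport (enc t0)) = {t0, t1} := by
    ext t
    rw [Finset.mem_filter, Finset.mem_insert, Finset.mem_singleton]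
    constructor
    · rintro ⟨ht, hs⟩
      have h5 : 5 ≤ (ternarySupport (enc t0) ∩ ternarySupport (enc t)).card := by
        rw [hs, Finset.inter_self, w0]
        norm_num
      rcases hexad_pm (enc_mem t0) (enc_mem t) w0 (mem_W6.mp ht) h5 with h | h
      · exact Or.inl (enc_injective h)
      · exact Or.inr (enc_injective (h.trans e1.symm))
    · rintro (rfl | rfl)
      · exact ⟨ht0, rfl⟩
      · refine ⟨?_, by rw [e1, supp_neg]⟩
        rw [mem_W6, e1, supp_neg]
        exact w0
  rw [this, Finset.card_pair hne]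

theorem card_HF : HF.card = 132 := by
  classical
  have h := Finset.card_eq_sum_card_fiberwise (f := fun t => ternarySupport (enc t)) (s := W6)
    (t := HF) (fun t ht => Finset.mem_image_of_mem _ ht)
  rw [Finset.sum_congr rfl (fun b hb => fiber_card hb)] at h
  have h6 : W6.card = 264 := cnt6
  rw [h6, Finset.sum_const, smul_eq_mul] at h
  omega

theorem c65 : Nat.choose 6 5 = 6 := by decide

theorem c125 : Nat.choose 12 5 = 792 := by decide

set_option linter.constructorNameAsVariable false in
theorem steiner_exists {s : Finset ArrayPt} (hs : s.card = 5) : ∃ b ∈ HF, s ⊆ b := by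
  classical
  have hdisj : ∀ x ∈ HF, ∀ y ∈ HF, x ≠ y →
      Disjoint (x.powersetCard 5) (y.powersetCard 5) := by
    intro x hx y hy hxy
    rw [Finset.disjoint_left]
    intro u hu hu'
    rw [Finset.mem_powersetCard] at hu hu'
    exact hxy (hexad_unique (mem_HF.mp hx) (mem_HF.mp hy) hu.2 hu.1 hu'.1)
  have hcard : (HF.biUnion fun h => h.powersetCard 5).card = 792 := by
    rw [Finset.card_biUnion hdisj]
    rw [Finset.sum_congr rfl (fun b hb => by
      rw [Finset.card_powersetCard, card_of_mem_HF hb])]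
    rw [Finset.sum_const, card_HF, c65]
    norm_num
  have hsub : (HF.biUnion fun h => h.powersetCard 5) ⊆
      (Finset.univ : Finset ArrayPt).powersetCard 5 := by
    intro u hu
    rw [Finset.mem_biUnion] at hu
    obtain ⟨h, _, hu⟩ := hu
    rw [Finset.mem_powersetCard] at hu ⊢
    exact ⟨Finset.subset_univ _, hu.2⟩
  have hall : ((Finset.univ : Finset ArrayPt).powersetCard 5).card = 792 := by
    have c12 : Fintype.card ArrayPt = 12 := by
      simp only [Fintype.card_prod, Fintype.card_fin, ZMod.card]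
    rw [Finset.card_powersetCard, Finset.card_univ, c12, c125]
  have heq := Finset.eq_of_subset_of_card_le hsub (by rw [hall, hcard])
  have hmem : s ∈ (Finset.univ : Finset ArrayPt).powersetCard 5 := by
    rw [Finset.mem_powersetCard]
    exact ⟨Finset.subset_univ _, hs⟩
  rw [← heq, Finset.mem_biUnion] at hmem
  obtain ⟨b, hb, hsb⟩ := hmem
  rw [Finset.mem_powersetCard] at hsb
  exact ⟨b, hb, hsb.1⟩

theorem steiner : IsSteinerSystem 5 6 Hex ∧ Hex.ncard = 132 := by
  refine ⟨⟨?_, ?_⟩, ?_⟩
  · rintro b ⟨x, _, _, w⟩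
    exact w
  · intro s hs
    obtain ⟨b, hb, hsb⟩ := steiner_exists hs
    refine ⟨b, ⟨mem_HF.mp hb, hsb⟩, ?_⟩
    rintro b' ⟨hb', hsb'⟩
    exact hexad_unique hb' (mem_HF.mp hb) hs hsb' hsb
  · rw [← coe_HF, Set.ncard_coe_finset, card_HF]

end Cfsg.Agent.helper8.TG
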