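import Mathlib
import Cfsg.Agent.Lib_helper8_TGolay2

set_option autoImplicit false

namespace Cfsg.Agent.helper8.TG

open Cfsg

/-- the hexads as index lists -/
def hexL : List (List ℕ) := [[0, 1, 2, 3, 4, 5],
  [0, 1, 2, 3, 6, 9],
  [0, 1, 2, 3, 7, 11],
  [0, 1, 2, 3, 8, 10],
  [0, 1, 2, 4, 6, 11],
  [0, 1, 2, 4, 7, 10],
  [0, 1, 2, 4, 8, 9],
  [0, 1, 2, 5, 6, 10],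
  [0, 1, 2, 5, 7, 9],
  [0, 1, 2, 5, 8, 11],
  [0, 1, 2, 6, 7, 8],
  [0, 1, 2, 9, 10, 11],
  [0, 1, 3, 4, 6, 8],
  [0, 1, 3, 4, 7, 9],
  [0, 1, 3, 4, 10, 11],
  [0, 1, 3, 5, 6, 11],
  [0, 1, 3, 5, 7, 8],
  [0, 1, 3, 5, 9, 10],
  [0, 1, 3, 6, 7, 10],
  [0, 1, 3, 8, 9, 11],
  [0, 1, 4, 5, 6, 7],
  [0, 1, 4, 5, 8, 10],
  [0, 1, 4, 5, 9, 11],
  [0, 1, 4, 6, 9, 10],
  [0, 1, 4, 7, 8, 11],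
  [0, 1, 5, 6, 8, 9],
  [0, 1, 5, 7, 10, 11],
  [0, 1, 6, 7, 9, 11],
  [0, 1, 6, 8, 10, 11],
  [0, 1, 7, 8, 9, 10],
  [0, 2, 3, 4, 6, 10],
  [0, 2, 3, 4, 7, 8],
  [0, 2, 3, 4, 9, 11],
  [0, 2, 3, 5, 6, 7],
  [0, 2, 3, 5, 8, 9],
  [0, 2, 3, 5, 10, 11],
  [0, 2, 3, 6, 8, 11],
  [0, 2, 3, 7, 9, 10],
  [0, 2, 4, 5, 6, 8],
  [0, 2, 4, 5, 7, 11],
  [0, 2, 4, 5, 9, 10],
  [0, 2, 4, 6, 7, 9],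
  [0, 2, 4, 8, 10, 11],
  [0, 2, 5, 6, 9, 11],
  [0, 2, 5, 7, 8, 10],
  [0, 2, 6, 7, 10, 11],
  [0, 2, 6, 8, 9, 10],
  [0, 2, 7, 8, 9, 11],
  [0, 3, 4, 5, 6, 9],
  [0, 3, 4, 5, 7, 10],
  [0, 3, 4, 5, 8, 11],
  [0, 3, 4, 6, 7, 11],
  [0, 3, 4, 8, 9, 10],
  [0, 3, 5, 6, 8, 10],
  [0, 3, 5, 7, 9, 11],
  [0, 3, 6, 7, 8, 9],
  [0, 3, 6, 9, 10, 11],
  [0, 3, 7, 8, 10, 11],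
  [0, 4, 5, 6, 10, 11],
  [0, 4, 5, 7, 8, 9],
  [0, 4, 6, 7, 8, 10],
  [0, 4, 6, 8, 9, 11],
  [0, 4, 7, 9, 10, 11],
  [0, 5, 6, 7, 8, 11],
  [0, 5, 6, 7, 9, 10],
  [0, 5, 8, 9, 10, 11],
  [1, 2, 3, 4, 6, 7],
  [1, 2, 3, 4, 8, 11],
  [1, 2, 3, 4, 9, 10],
  [1, 2, 3, 5, 6, 8],
  [1, 2, 3, 5, 7, 10],
  [1, 2, 3, 5, 9, 11],
  [1, 2, 3, 6, 10, 11],
  [1, 2, 3, 7, 8, 9],
  [1, 2, 4, 5, 6, 9],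
  [1, 2, 4, 5, 7, 8],
  [1, 2, 4, 5, 10, 11],
  [1, 2, 4, 6, 8, 10],
  [1, 2, 4, 7, 9, 11],
  [1, 2, 5, 6, 7, 11],
  [1, 2, 5, 8, 9, 10],
  [1, 2, 6, 7, 9, 10],
  [1, 2, 6, 8, 9, 11],
  [1, 2, 7, 8, 10, 11],
  [1, 3, 4, 5, 6, 10],
  [1, 3, 4, 5, 7, 11],
  [1, 3, 4, 5, 8, 9],
  [1, 3, 4, 6, 9, 11],
  [1, 3, 4, 7, 8, 10],
  [1, 3, 5, 6, 7, 9],
  [1, 3, 5, 8, 10, 11],
  [1, 3, 6, 7, 8, 11],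
  [1, 3, 6, 8, 9, 10],
  [1, 3, 7, 9, 10, 11],
  [1, 4, 5, 6, 8, 11],
  [1, 4, 5, 7, 9, 10],
  [1, 4, 6, 7, 8, 9],
  [1, 4, 6, 7, 10, 11],
  [1, 4, 8, 9, 10, 11],
  [1, 5, 6, 7, 8, 10],
  [1, 5, 6, 9, 10, 11],
  [1, 5, 7, 8, 9, 11],
  [2, 3, 4, 5, 6, 11],
  [2, 3, 4, 5, 7, 9],
  [2, 3, 4, 5, 8, 10],
  [2, 3, 4, 6, 8, 9],
  [2, 3, 4, 7, 10, 11],
  [2, 3, 5, 6, 9, 10],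
  [2, 3, 5, 7, 8, 11],
  [2, 3, 6, 7, 8, 10],
  [2, 3, 6, 7, 9, 11],
  [2, 3, 8, 9, 10, 11],
  [2, 4, 5, 6, 7, 10],
  [2, 4, 5, 8, 9, 11],
  [2, 4, 6, 7, 8, 11],
  [2, 4, 6, 9, 10, 11],
  [2, 4, 7, 8, 9, 10],
  [2, 5, 6, 7, 8, 9],
  [2, 5, 6, 8, 10, 11],
  [2, 5, 7, 9, 10, 11],
  [3, 4, 5, 6, 7, 8],
  [3, 4, 5, 9, 10, 11],
  [3, 4, 6, 7, 9, 10],
  [3, 4, 6, 8, 10, 11],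
  [3, 4, 7, 8, 9, 11],
  [3, 5, 6, 7, 10, 11],
  [3, 5, 6, 8, 9, 11],
  [3, 5, 7, 8, 9, 10],
  [4, 5, 6, 7, 9, 11],
  [4, 5, 6, 8, 9, 10],
  [4, 5, 7, 8, 10, 11],
  [6, 7, 8, 9, 10, 11]]

/-- parameters of words with these supports -/
def hexT : List T6 := [(1, 1, 1, 2, 2, 0),
  (1, 2, 2, 2, 0, 2),
  (1, 2, 1, 1, 0, 0),
  (1, 1, 2, 1, 0, 0),
  (1, 1, 2, 0, 1, 1),
  (1, 2, 2, 0, 2, 0),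
  (1, 2, 1, 0, 1, 0),
  (1, 2, 1, 0, 0, 1),
  (1, 1, 2, 0, 0, 0),
  (1, 2, 2, 0, 0, 0),
  (1, 1, 1, 0, 0, 2),
  (1, 1, 1, 0, 0, 0),
  (1, 2, 0, 1, 2, 1),
  (1, 1, 0, 1, 1, 0),
  (1, 2, 0, 2, 1, 0),
  (1, 1, 0, 1, 0, 2),
  (1, 2, 0, 2, 0, 0),
  (1, 2, 0, 1, 0, 0),
  (1, 1, 0, 2, 0, 1),
  (1, 1, 0, 2, 0, 0),
  (1, 2, 0, 0, 1, 2),
  (1, 1, 0, 0, 1, 0),
  (1, 2, 0, 0, 2, 0),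
  (1, 1, 0, 0, 2, 2),
  (1, 1, 0, 0, 2, 0),
  (1, 1, 0, 0, 0, 1),
  (1, 1, 0, 0, 0, 0),
  (1, 2, 0, 0, 0, 1),
  (1, 2, 0, 0, 0, 2),
  (1, 2, 0, 0, 0, 0),
  (1, 0, 1, 1, 1, 2),
  (1, 0, 2, 2, 1, 0),
  (1, 0, 2, 1, 2, 0),
  (1, 0, 2, 1, 0, 1),
  (1, 0, 1, 1, 0, 0),
  (1, 0, 2, 2, 0, 0),
  (1, 0, 1, 2, 0, 1),
  (1, 0, 1, 2, 0, 0),
  (1, 0, 2, 0, 2, 2),
  (1, 0, 1, 0, 1, 0),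
  (1, 0, 2, 0, 1, 0),
  (1, 0, 1, 0, 2, 1),
  (1, 0, 1, 0, 2, 0),
  (1, 0, 1, 0, 0, 2),
  (1, 0, 1, 0, 0, 0),
  (1, 0, 2, 0, 0, 2),
  (1, 0, 2, 0, 0, 1),
  (1, 0, 2, 0, 0, 0),
  (1, 0, 0, 2, 1, 1),
  (1, 0, 0, 1, 2, 0),
  (1, 0, 0, 1, 1, 0),
  (1, 0, 0, 2, 2, 2),
  (1, 0, 0, 2, 2, 0),
  (1, 0, 0, 2, 0, 2),
  (1, 0, 0, 2, 0, 0),
  (1, 0, 0, 1, 0, 2),
  (1, 0, 0, 1, 0, 1),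
  (1, 0, 0, 1, 0, 0),
  (1, 0, 0, 0, 2, 1),
  (1, 0, 0, 0, 2, 0),
  (1, 0, 0, 0, 1, 1),
  (1, 0, 0, 0, 1, 2),
  (1, 0, 0, 0, 1, 0),
  (1, 0, 0, 0, 0, 1),
  (1, 0, 0, 0, 0, 2),
  (1, 0, 0, 0, 0, 0),
  (0, 1, 2, 1, 2, 2),
  (0, 1, 1, 1, 1, 0),
  (0, 1, 2, 2, 1, 0),
  (0, 1, 2, 2, 0, 1),
  (0, 1, 1, 1, 0, 0),
  (0, 1, 2, 1, 0, 0),
  (0, 1, 1, 2, 0, 2),
  (0, 1, 1, 2, 0, 0),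
  (0, 1, 1, 0, 1, 2),
  (0, 1, 2, 0, 1, 0),
  (0, 1, 2, 0, 2, 0),
  (0, 1, 1, 0, 2, 1),
  (0, 1, 1, 0, 2, 0),
  (0, 1, 1, 0, 0, 1),
  (0, 1, 1, 0, 0, 0),
  (0, 1, 2, 0, 0, 1),
  (0, 1, 2, 0, 0, 2),
  (0, 1, 2, 0, 0, 0),
  (0, 1, 0, 1, 1, 1),
  (0, 1, 0, 2, 1, 0),
  (0, 1, 0, 1, 2, 0),
  (0, 1, 0, 2, 2, 1),
  (0, 1, 0, 2, 2, 0),
  (0, 1, 0, 2, 0, 2),
  (0, 1, 0, 2, 0, 0),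
  (0, 1, 0, 1, 0, 1),
  (0, 1, 0, 1, 0, 2),
  (0, 1, 0, 1, 0, 0),
  (0, 1, 0, 0, 2, 2),
  (0, 1, 0, 0, 2, 0),
  (0, 1, 0, 0, 1, 1),
  (0, 1, 0, 0, 1, 2),
  (0, 1, 0, 0, 1, 0),
  (0, 1, 0, 0, 0, 2),
  (0, 1, 0, 0, 0, 1),
  (0, 1, 0, 0, 0, 0),
  (0, 0, 1, 1, 2, 1),
  (0, 0, 1, 1, 1, 0),
  (0, 0, 1, 2, 1, 0),
  (0, 0, 1, 2, 2, 2),
  (0, 0, 1, 2, 2, 0),
  (0, 0, 1, 2, 0, 1),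
  (0, 0, 1, 2, 0, 0),
  (0, 0, 1, 1, 0, 1),
  (0, 0, 1, 1, 0, 2),
  (0, 0, 1, 1, 0, 0),
  (0, 0, 1, 0, 2, 2),
  (0, 0, 1, 0, 2, 0),
  (0, 0, 1, 0, 1, 2),
  (0, 0, 1, 0, 1, 1),
  (0, 0, 1, 0, 1, 0),
  (0, 0, 1, 0, 0, 1),
  (0, 0, 1, 0, 0, 2),
  (0, 0, 1, 0, 0, 0),
  (0, 0, 0, 1, 1, 2),
  (0, 0, 0, 1, 1, 0),
  (0, 0, 0, 1, 2, 1),
  (0, 0, 0, 1, 2, 2),
  (0, 0, 0, 1, 2, 0),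
  (0, 0, 0, 1, 0, 2),
  (0, 0, 0, 1, 0, 1),
  (0, 0, 0, 1, 0, 0),
  (0, 0, 0, 0, 1, 1),
  (0, 0, 0, 0, 1, 2),
  (0, 0, 0, 0, 1, 0),
  (0, 0, 0, 0, 0, 1)]

/-- bitmap of the hexad masks -/
def hexBitmap : ℕ := 56616434707392290493830608686343291913914207267407100963219031830768072610285952384273428868990593566594531319248978386164614129186098547051904027326856690386308343293234278131309831744515181060286237810205130283103071290812054500368720198549051777816520950195780427498749531016477947655071436515763187716147807729653932424073800312514691696682453497752566981157710252895858815880899027283754989393177790847186837342033871457340078508457877837459072047229248428918672118116567167685143878547773333450076844940658859214999325129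602501558851104976923982750693009120964632814193991680354893635030030836333415463315325253678746787809320187128156980823899637471492220311404941243786052492713182738134328711663684007242320418419141695329129535182791143355222521244263987029853496949810499493143085305780784673064128200836929668874800415841456585828974398871352587171226866468138417067278060298687515445872572279023192332183263791556260396583867539176980932805504251174452757142201001178607968280416838410976781783026036177284703664475156443601415081467147860243572819336534469608973602680420013884416783892022513924126910480808755978114617278929873061085508796110570687671481576307753911406027929554142807522829481803776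

/-- mask of a finset -/
def mk (s : Finset ArrayPt) : ℕ := ∑ p ∈ s, 2 ^ idx p

theorem bitmap_of_W6 : ∀ t : T6, (ternarySupport (enc t)).card = 6 →
    hexBitmap.testBit (mk (ternarySupport (enc t))) = true := by decide +kernel

theorem hexL_supp : ∀ k : Fin 132, ∀ p : ArrayPt,
    (enc (hexT.getD k 0) p ≠ 0 ↔ idx p ∈ hexL.getD k []) := by decide +kernel

theorem hexL_good : ∀ l ∈ hexL, l.Nodup ∧ l.length = 6 ∧ ∀ i ∈ l, i < 12 := by decide +kernel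

theorem hexL_length : hexL.length = 132 := by decide +kernel

/-- hexads with a given last entry -/
def hexLn (n : ℕ) : List (List ℕ) := hexL.filter fun l => l.getLast? = some n

theorem hexLn_le : ∀ n : Fin 12, ∀ l ∈ hexLn n, ∀ i ∈ l, i ≤ n.val := by decide +kernel

/-- image mask -/
def imgMask (t : List ℕ) (l : List ℕ) : ℕ := (l.map fun i => 2 ^ t.getD i 0).sum

/-- partial check -/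
def K (n : ℕ) (t : List ℕ) : Bool :=
  decide t.Nodup && (hexLn n).all fun l => hexBitmap.testBit (imgMask t l)

/-- nested rigidity statement -/
def Rig : ℕ → ℕ → List ℕ → Prop
  | 0, _, t => t = List.range 12
  | fuel + 1, n, t => ∀ a : Fin 12, K n (t ++ [a.val]) = true → Rig fuel (n + 1) (t ++ [a.val])

/-- decision procedure -/
def decRig : ∀ (fuel n : ℕ) (t : List ℕ), Decidable (Rig fuel n t)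
  | 0, _, t => inferInstanceAs (Decidable (t = List.range 12))
  | fuel + 1, n, t =>
    haveI := fun a : Fin 12 => decRig fuel (n + 1) (t ++ [a.val])
    inferInstanceAs (Decidable (∀ a : Fin 12, K n (t ++ [a.val]) = true →
      Rig fuel (n + 1) (t ++ [a.val])))

instance (fuel n : ℕ) (t : List ℕ) : Decidable (Rig fuel n t) := decRig fuel n t

theorem rigid : Rig 7 5 [0, 1, 2, 3, 4] := by decide +kernel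

/-- witness permutations -/
def wtab : List (List ℕ) := [[0, 1, 2, 3, 4, 5, 6, 7, 8, 9, 10, 11],
  [1, 0, 2, 3, 4, 5, 11, 9, 10, 7, 8, 6],
  [2, 0, 1, 3, 4, 5, 8, 6, 7, 10, 11, 9],
  [3, 0, 1, 2, 4, 5, 10, 7, 6, 8, 9, 11],
  [4, 0, 1, 2, 3, 5, 6, 9, 10, 11, 7, 8],
  [5, 0, 1, 2, 3, 4, 9, 6, 8, 7, 11, 10],
  [6, 0, 1, 2, 3, 9, 5, 4, 7, 10, 8, 11],
  [7, 0, 1, 2, 3, 11, 10, 8, 9, 4, 5, 6],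
  [8, 0, 1, 2, 3, 10, 7, 11, 4, 6, 9, 5],
  [9, 0, 1, 2, 3, 6, 4, 5, 11, 8, 10, 7],
  [10, 0, 1, 2, 3, 8, 11, 7, 5, 9, 6, 4],
  [11, 0, 1, 2, 3, 7, 8, 10, 6, 5, 4, 9],
  [0, 1, 2, 3, 4, 5, 6, 7, 8, 9, 10, 11],
  [0, 1, 2, 3, 4, 5, 6, 7, 8, 9, 10, 11],
  [0, 2, 1, 3, 4, 5, 9, 10, 11, 6, 7, 8],
  [0, 3, 1, 2, 4, 5, 11, 8, 9, 7, 6, 10],
  [0, 4, 1, 2, 3, 5, 8, 11, 7, 9, 10, 6],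
  [0, 5, 1, 2, 3, 4, 10, 7, 11, 6, 8, 9],
  [0, 6, 1, 2, 3, 9, 11, 10, 8, 4, 7, 5],
  [0, 7, 1, 2, 3, 11, 6, 4, 5, 8, 9, 10],
  [0, 8, 1, 2, 3, 10, 5, 6, 9, 11, 4, 7],
  [0, 9, 1, 2, 3, 6, 7, 8, 10, 5, 11, 4],
  [0, 10, 1, 2, 3, 8, 4, 9, 6, 7, 5, 11],
  [0, 11, 1, 2, 3, 7, 9, 5, 4, 10, 6, 8],
  [0, 1, 2, 3, 4, 5, 6, 7, 8, 9, 10, 11],
  [0, 1, 2, 3, 4, 5, 6, 7, 8, 9, 10, 11],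
  [0, 1, 2, 3, 4, 5, 6, 7, 8, 9, 10, 11],
  [0, 1, 3, 2, 4, 5, 7, 6, 10, 11, 8, 9],
  [0, 1, 4, 2, 3, 5, 9, 10, 6, 8, 11, 7],
  [0, 1, 5, 2, 3, 4, 6, 8, 9, 10, 7, 11],
  [0, 1, 6, 2, 3, 9, 4, 7, 5, 11, 10, 8],
  [0, 1, 7, 2, 3, 11, 8, 9, 10, 6, 4, 5],
  [0, 1, 8, 2, 3, 10, 11, 4, 7, 5, 6, 9],
  [0, 1, 9, 2, 3, 6, 5, 11, 4, 7, 8, 10],
  [0, 1, 10, 2, 3, 8, 7, 5, 11, 4, 9, 6],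
  [0, 1, 11, 2, 3, 7, 10, 6, 8, 9, 5, 4],
  [0, 1, 2, 3, 4, 5, 6, 7, 8, 9, 10, 11],
  [0, 1, 2, 3, 4, 5, 6, 7, 8, 9, 10, 11],
  [0, 1, 2, 3, 4, 5, 6, 7, 8, 9, 10, 11],
  [0, 1, 2, 3, 4, 5, 6, 7, 8, 9, 10, 11],
  [0, 1, 2, 4, 3, 5, 10, 9, 11, 7, 6, 8],
  [0, 1, 2, 5, 3, 4, 8, 6, 7, 11, 9, 10],
  [0, 1, 2, 6, 3, 9, 7, 4, 10, 8, 5, 11],
  [0, 1, 2, 7, 3, 11, 9, 8, 4, 5, 10, 6],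
  [0, 1, 2, 8, 3, 10, 4, 11, 6, 9, 7, 5],
  [0, 1, 2, 9, 3, 6, 11, 5, 8, 10, 4, 7],
  [0, 1, 2, 10, 3, 8, 5, 7, 9, 6, 11, 4],
  [0, 1, 2, 11, 3, 7, 6, 10, 5, 4, 8, 9],
  [0, 1, 2, 3, 4, 5, 6, 7, 8, 9, 10, 11],
  [0, 1, 2, 3, 4, 5, 6, 7, 8, 9, 10, 11],
  [0, 1, 2, 3, 4, 5, 6, 7, 8, 9, 10, 11],
  [0, 1, 2, 3, 4, 5, 6, 7, 8, 9, 10, 11],
  [0, 1, 2, 3, 4, 5, 6, 7, 8, 9, 10, 11],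
  [0, 1, 2, 3, 5, 4, 9, 11, 10, 6, 8, 7],
  [0, 1, 2, 3, 6, 9, 5, 8, 11, 4, 7, 10],
  [0, 1, 2, 3, 7, 11, 10, 5, 6, 8, 9, 4],
  [0, 1, 2, 3, 8, 10, 7, 9, 5, 11, 4, 6],
  [0, 1, 2, 3, 9, 6, 4, 10, 7, 5, 11, 8],
  [0, 1, 2, 3, 10, 8, 11, 6, 4, 7, 5, 9],
  [0, 1, 2, 3, 11, 7, 8, 4, 9, 10, 6, 5]]

/-- their inverses -/
def wtabi : List (List ℕ) := [[0, 1, 2, 3, 4, 5, 6, 7, 8, 9, 10, 11],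
  [1, 0, 2, 3, 4, 5, 11, 9, 10, 7, 8, 6],
  [1, 2, 0, 3, 4, 5, 7, 8, 6, 11, 9, 10],
  [1, 2, 3, 0, 4, 5, 8, 7, 9, 10, 6, 11],
  [1, 2, 3, 4, 0, 5, 6, 10, 11, 7, 8, 9],
  [1, 2, 3, 4, 5, 0, 7, 9, 8, 6, 11, 10],
  [1, 2, 3, 4, 7, 6, 0, 8, 10, 5, 9, 11],
  [1, 2, 3, 4, 9, 10, 11, 0, 7, 8, 6, 5],
  [1, 2, 3, 4, 8, 11, 9, 6, 0, 10, 5, 7],
  [1, 2, 3, 4, 6, 7, 5, 11, 9, 0, 10, 8],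
  [1, 2, 3, 4, 11, 8, 10, 7, 5, 9, 0, 6],
  [1, 2, 3, 4, 10, 9, 8, 5, 6, 11, 7, 0],
  [0, 1, 2, 3, 4, 5, 6, 7, 8, 9, 10, 11],
  [0, 1, 2, 3, 4, 5, 6, 7, 8, 9, 10, 11],
  [0, 2, 1, 3, 4, 5, 9, 10, 11, 6, 7, 8],
  [0, 2, 3, 1, 4, 5, 10, 9, 7, 8, 11, 6],
  [0, 2, 3, 4, 1, 5, 11, 8, 6, 9, 10, 7],
  [0, 2, 3, 4, 5, 1, 9, 7, 10, 11, 6, 8],
  [0, 2, 3, 4, 9, 11, 1, 10, 8, 5, 7, 6],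
  [0, 2, 3, 4, 7, 8, 6, 1, 9, 10, 11, 5],
  [0, 2, 3, 4, 10, 6, 7, 11, 1, 8, 5, 9],
  [0, 2, 3, 4, 11, 9, 5, 6, 7, 1, 8, 10],
  [0, 2, 3, 4, 6, 10, 8, 9, 5, 7, 1, 11],
  [0, 2, 3, 4, 8, 7, 10, 5, 11, 6, 9, 1],
  [0, 1, 2, 3, 4, 5, 6, 7, 8, 9, 10, 11],
  [0, 1, 2, 3, 4, 5, 6, 7, 8, 9, 10, 11],
  [0, 1, 2, 3, 4, 5, 6, 7, 8, 9, 10, 11],
  [0, 1, 3, 2, 4, 5, 7, 6, 10, 11, 8, 9],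
  [0, 1, 3, 4, 2, 5, 8, 11, 9, 6, 7, 10],
  [0, 1, 3, 4, 5, 2, 6, 10, 7, 8, 9, 11],
  [0, 1, 3, 4, 6, 8, 2, 7, 11, 5, 10, 9],
  [0, 1, 3, 4, 10, 11, 9, 2, 6, 7, 8, 5],
  [0, 1, 3, 4, 7, 9, 10, 8, 2, 11, 5, 6],
  [0, 1, 3, 4, 8, 6, 5, 9, 10, 2, 11, 7],
  [0, 1, 3, 4, 9, 7, 11, 6, 5, 10, 2, 8],
  [0, 1, 3, 4, 11, 10, 7, 5, 8, 9, 6, 2],
  [0, 1, 2, 3, 4, 5, 6, 7, 8, 9, 10, 11],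
  [0, 1, 2, 3, 4, 5, 6, 7, 8, 9, 10, 11],
  [0, 1, 2, 3, 4, 5, 6, 7, 8, 9, 10, 11],
  [0, 1, 2, 3, 4, 5, 6, 7, 8, 9, 10, 11],
  [0, 1, 2, 4, 3, 5, 10, 9, 11, 7, 6, 8],
  [0, 1, 2, 4, 5, 3, 7, 8, 6, 10, 11, 9],
  [0, 1, 2, 4, 7, 10, 3, 6, 9, 5, 8, 11],
  [0, 1, 2, 4, 8, 9, 11, 3, 7, 6, 10, 5],
  [0, 1, 2, 4, 6, 11, 8, 10, 3, 9, 5, 7],
  [0, 1, 2, 4, 10, 7, 5, 11, 8, 3, 9, 6],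
  [0, 1, 2, 4, 11, 6, 9, 7, 5, 8, 3, 10],
  [0, 1, 2, 4, 9, 8, 6, 5, 10, 11, 7, 3],
  [0, 1, 2, 3, 4, 5, 6, 7, 8, 9, 10, 11],
  [0, 1, 2, 3, 4, 5, 6, 7, 8, 9, 10, 11],
  [0, 1, 2, 3, 4, 5, 6, 7, 8, 9, 10, 11],
  [0, 1, 2, 3, 4, 5, 6, 7, 8, 9, 10, 11],
  [0, 1, 2, 3, 4, 5, 6, 7, 8, 9, 10, 11],
  [0, 1, 2, 3, 5, 4, 9, 11, 10, 6, 8, 7],
  [0, 1, 2, 3, 9, 6, 4, 10, 7, 5, 11, 8],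
  [0, 1, 2, 3, 11, 7, 8, 4, 9, 10, 6, 5],
  [0, 1, 2, 3, 10, 8, 11, 6, 4, 7, 5, 9],
  [0, 1, 2, 3, 6, 9, 5, 8, 11, 4, 7, 10],
  [0, 1, 2, 3, 8, 10, 7, 9, 5, 11, 4, 6],
  [0, 1, 2, 3, 7, 11, 10, 5, 6, 8, 9, 4]]

/-- witness signs -/
def wsg : List (List ℕ) := [[1, 1, 1, 1, 1, 1, 1, 1, 1, 1, 1, 1],
  [1, 1, 1, 1, 1, 1, 1, 1, 1, 1, 1, 1],
  [1, 1, 1, 1, 1, 1, 1, 1, 1, 1, 1, 1],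
  [1, 1, 2, 2, 1, 1, 2, 2, 1, 2, 1, 2],
  [1, 1, 2, 1, 2, 1, 1, 2, 2, 2, 2, 1],
  [1, 1, 2, 1, 1, 2, 2, 1, 2, 1, 2, 2],
  [1, 2, 1, 1, 2, 1, 2, 2, 2, 1, 1, 2],
  [1, 2, 2, 2, 2, 1, 1, 1, 1, 1, 2, 2],
  [1, 1, 1, 2, 1, 1, 2, 2, 1, 1, 2, 1],
  [1, 2, 1, 1, 1, 2, 1, 2, 1, 2, 2, 2],
  [1, 1, 1, 2, 1, 1, 1, 1, 2, 2, 1, 2],
  [1, 2, 2, 2, 1, 2, 1, 2, 2, 1, 1, 1],
  [1, 1, 1, 1, 1, 1, 1, 1, 1, 1, 1, 1],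
  [1, 1, 1, 1, 1, 1, 1, 1, 1, 1, 1, 1],
  [1, 1, 1, 1, 1, 1, 1, 1, 1, 1, 1, 1],
  [1, 1, 2, 2, 1, 1, 2, 2, 1, 2, 1, 2],
  [1, 1, 2, 1, 2, 1, 1, 2, 2, 2, 2, 1],
  [1, 1, 2, 1, 1, 2, 2, 1, 2, 1, 2, 2],
  [1, 2, 1, 1, 2, 1, 2, 2, 2, 1, 1, 2],
  [1, 2, 2, 2, 2, 1, 1, 1, 1, 1, 2, 2],
  [1, 1, 1, 2, 1, 1, 2, 2, 1, 1, 2, 1],
  [1, 2, 1, 1, 1, 2, 1, 2, 1, 2, 2, 2],
  [1, 1, 1, 2, 1, 1, 1, 1, 2, 2, 1, 2],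
  [1, 2, 2, 2, 1, 2, 1, 2, 2, 1, 1, 1],
  [1, 1, 1, 1, 1, 1, 1, 1, 1, 1, 1, 1],
  [1, 1, 1, 1, 1, 1, 1, 1, 1, 1, 1, 1],
  [1, 1, 1, 1, 1, 1, 1, 1, 1, 1, 1, 1],
  [1, 1, 2, 2, 1, 1, 2, 2, 1, 2, 1, 2],
  [1, 1, 2, 1, 2, 1, 1, 2, 2, 2, 2, 1],
  [1, 1, 2, 1, 1, 2, 2, 1, 2, 1, 2, 2],
  [1, 2, 1, 1, 2, 1, 2, 2, 2, 1, 1, 2],
  [1, 2, 2, 2, 2, 1, 1, 1, 1, 1, 2, 2],
  [1, 1, 1, 2, 1, 1, 2, 2, 1, 1, 2, 1],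
  [1, 2, 1, 1, 1, 2, 1, 2, 1, 2, 2, 2],
  [1, 1, 1, 2, 1, 1, 1, 1, 2, 2, 1, 2],
  [1, 2, 2, 2, 1, 2, 1, 2, 2, 1, 1, 1],
  [1, 1, 1, 1, 1, 1, 1, 1, 1, 1, 1, 1],
  [1, 1, 1, 1, 1, 1, 1, 1, 1, 1, 1, 1],
  [1, 1, 1, 1, 1, 1, 1, 1, 1, 1, 1, 1],
  [1, 1, 1, 1, 1, 1, 1, 1, 1, 1, 1, 1],
  [1, 1, 1, 1, 1, 1, 1, 1, 1, 1, 1, 1],
  [1, 1, 1, 1, 1, 1, 1, 1, 1, 1, 1, 1],
  [1, 2, 2, 1, 1, 1, 1, 1, 1, 1, 1, 1],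
  [1, 2, 1, 2, 2, 2, 2, 2, 2, 2, 2, 2],
  [1, 1, 2, 2, 2, 2, 2, 2, 2, 2, 2, 2],
  [1, 2, 2, 1, 1, 1, 1, 1, 1, 1, 1, 1],
  [1, 1, 2, 2, 2, 2, 2, 2, 2, 2, 2, 2],
  [1, 2, 1, 2, 2, 2, 2, 2, 2, 2, 2, 2],
  [1, 1, 1, 1, 1, 1, 1, 1, 1, 1, 1, 1],
  [1, 1, 1, 1, 1, 1, 1, 1, 1, 1, 1, 1],
  [1, 1, 1, 1, 1, 1, 1, 1, 1, 1, 1, 1],
  [1, 1, 1, 1, 1, 1, 1, 1, 1, 1, 1, 1],
  [1, 1, 1, 1, 1, 1, 1, 1, 1, 1, 1, 1],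
  [1, 1, 1, 1, 1, 1, 1, 1, 1, 1, 1, 1],
  [1, 2, 2, 1, 1, 1, 1, 1, 1, 1, 1, 1],
  [1, 2, 1, 2, 2, 2, 2, 2, 2, 2, 2, 2],
  [1, 1, 2, 2, 2, 2, 2, 2, 2, 2, 2, 2],
  [1, 2, 2, 1, 1, 1, 1, 1, 1, 1, 1, 1],
  [1, 1, 2, 2, 2, 2, 2, 2, 2, 2, 2, 2],
  [1, 2, 1, 2, 2, 2, 2, 2, 2, 2, 2, 2]]

/-- witness permutation as a function -/
def wf (k m i : ℕ) : ℕ := (wtab.getD (12 * k + m) []).getD i 0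

/-- inverse -/
def wfi (k m i : ℕ) : ℕ := (wtabi.getD (12 * k + m) []).getD i 0

/-- sign -/
def ws (k m i : ℕ) : ZMod 3 := (((wsg.getD (12 * k + m) []).getD i 1 : ℕ) : ZMod 3)

theorem wit_perm : ∀ k : Fin 5, ∀ m : Fin 12, ∀ i : Fin 12,
    wf k m i < 12 ∧ wfi k m i < 12 ∧ wfi k m (wf k m i) = i ∧ wf k m (wfi k m i) = i := by
  decide +kernel

theorem wit_fix : ∀ k : Fin 5, ∀ m : Fin 12, k.val ≤ m.val →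
    (∀ i : Fin 5, i.val < k.val → wf k m i = i) ∧ wf k m k = m := by decide +kernel

theorem wit_sign : ∀ k : Fin 5, ∀ m : Fin 12, ∀ i : Fin 12, ws k m i = 1 ∨ ws k m i = 2 := by
  decide +kernel

theorem wit_chk : ∀ k : Fin 5, ∀ m : Fin 12, ∀ j : Fin 6,
    Chk (fun p => ws k m (idx p) * G j (pt (wfi k m (idx p)))) := by decide +kernel

end Cfsg.Agent.helper8.TG
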