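import Cfsg.Statements.S1593
import Mathlib
import Cfsg.Agent.Lib_helper8_TGolay

set_option autoImplicit false
open Cfsg

namespace Cfsg.Agent.S1593

open Cfsg.Agent.helper8.TG

/-- The only sign changes preserving the length-12 ternary code are the identity and negation of all coordinates. -/
theorem result (c : Cfsg.ArrayPt → (ZMod 3)ˣ) (h : (∀ x ∈ Cfsg.ternaryGolayCode, Cfsg.monomialMap 1 c x ∈ Cfsg.ternaryGolayCode)) : (∀ p, c p = 1) ∨ (∀ p, c p = -1) := by
  classical
  have hu : ∀ u : (ZMod 3)ˣ, u = 1 ∨ u = -1 := by decide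
  have hval : ∀ u : (ZMod 3)ˣ, ((u : ZMod 3)) = if decide (u = -1) = true then 2 else 1 := by decide
  obtain ⟨B, hB⟩ : ∃ B : ArrayPt → Bool, B = fun p => decide (c p = -1) := ⟨_, rfl⟩
  have hB' := eq_ofL false B
  have hsg : (fun p => ((c p : (ZMod 3)ˣ) : ZMod 3)) = sg [B (pt 0), B (pt 1), B (pt 2), B (pt 3),
      B (pt 4), B (pt 5), B (pt 6), B (pt 7), B (pt 8), B (pt 9), B (pt 10), B (pt 11)] := by
    funext p
    simp only [sg]
    rw [← hB', hB]
    exact hval (c p)
  have hchk : ∀ j : Fin 6, Chk (fun p => sg [B (pt 0), B (pt 1), B (pt 2), B (pt 3),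
      B (pt 4), B (pt 5), B (pt 6), B (pt 7), B (pt 8), B (pt 9), B (pt 10), B (pt 11)] p * G j p) := by
    intro j
    have h1 := h (G j) (G_mem j)
    rw [mem_iff] at h1
    rw [← hsg]
    have : Cfsg.monomialMap 1 c (G j) = fun p => ((c p : (ZMod 3)ˣ) : ZMod 3) * G j p := by
      funext p
      simp only [Cfsg.monomialMap]
      rfl
    rw [this] at h1
    exact h1
  have hpt : ∀ p : ArrayPt, ∃ k : Fin 12, pt k = p := fun p => ⟨⟨idx p, idx_lt p⟩, pt_idx p⟩
  have hget : ∀ k : Fin 12, [B (pt 0), B (pt 1), B (pt 2), B (pt 3),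
      B (pt 4), B (pt 5), B (pt 6), B (pt 7), B (pt 8), B (pt 9), B (pt 10), B (pt 11)].getD k false
        = B (pt k) := by
    intro k
    fin_cases k <;> rfl
  rcases sign_brute _ _ _ _ _ _ _ _ _ _ _ _ hchk with h0 | h0
  · left
    intro p
    obtain ⟨k, rfl⟩ := hpt p
    have := h0 k
    rw [hget, hB] at this
    rcases hu (c (pt k)) with h2 | h2
    · exact h2
    · simp [h2] at this
  · right
    intro p
    obtain ⟨k, rfl⟩ := hpt p
    have := h0 k
    rw [hget, hB] at this
    simpa using this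

end Cfsg.Agent.S1593
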