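import Mathlib
import Cfsg.Agent.Lib_helper8_TGolay3
import Cfsg.Agent.Lib_helper8_Mono
import Cfsg.Agent.S1593

set_option autoImplicit false

namespace Cfsg.Agent.helper8.TG

open Cfsg Equiv Cfsg.Agent.helper8.Mono
open scoped Pointwise

theorem idx_pt' {n : ℕ} (h : n < 12) : idx (pt n) = n := idx_pt ⟨n, h⟩

theorem supp_mono (σ : Perm ArrayPt) (c : ArrayPt → (ZMod 3)ˣ) (x : ArrayPt → ZMod 3) :
    ternarySupport (monomialMap σ c x) = (ternarySupport x).image σ := by
  ext p
  rw [mem_supp, Finset.mem_image]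
  simp only [monomialMap]
  constructor
  · intro h
    refine ⟨σ.symm p, ?_, σ.apply_symm_apply p⟩
    rw [mem_supp]
    intro h0
    apply h
    rw [h0, mul_zero]
  · rintro ⟨q, hq, rfl⟩
    rw [mem_supp] at hq
    rw [σ.symm_apply_apply]
    exact mul_ne_zero (c _).ne_zero hq

theorem autPerm_le : autPerm ternaryGolayCode ≤ setSystemAut Hex := by
  intro σ hσ
  obtain ⟨c, hc⟩ := hσ
  change σ ∈ MulAction.stabilizer (Perm ArrayPt) Hex
  rw [MulAction.mem_stabilizer_set_iff_smul_set_subset (Set.toFinite Hex)]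
  rintro _ ⟨b, hb, rfl⟩
  obtain ⟨x, hx, rfl, w⟩ := hb
  refine ⟨monomialMap σ c x, hc x hx, ?_, ?_⟩
  · rw [supp_mono]
    rfl
  · change (σ • ternarySupport x).card = 6
    rw [Finset.card_smul_finset]
    exact w

theorem card_diag :
    Nat.card {d : ArrayPt → (ZMod 3)ˣ // Valid ternaryGolayCode 1 d} = 2 := by
  have hset : {d : ArrayPt → (ZMod 3)ˣ | Valid ternaryGolayCode 1 d} =
      {(fun _ => 1), (fun _ => -1)} := by
    ext d
    simp only [Set.mem_ofPred_eq, Set.mem_insert_iff, Set.mem_singleton_iff]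
    constructor
    · intro h
      rcases Cfsg.Agent.S1593.result d h with h1 | h1
      · left
        funext p
        exact h1 p
      · right
        funext p
        exact h1 p
    · rintro (rfl | rfl)
      · exact valid_one _
      · intro x hx
        have : monomialMap 1 (fun _ => (-1 : (ZMod 3)ˣ)) x = -x := by
          funext i
          simp only [monomialMap, Units.val_neg, Units.val_one, neg_mul, one_mul, Pi.neg_apply]
          rfl
        rw [this]
        exact Submodule.neg_mem _ hx
  have hne : (fun _ : ArrayPt => (1 : (ZMod 3)ˣ)) ≠ (fun _ => -1) := by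
    intro h
    have := congrFun h (pt 0)
    revert this
    decide
  have := Set.ncard_pair hne
  rw [← hset] at this
  rw [← this]
  exact (Nat.card_coe_set_eq _)

/-- the witness permutation -/
def wperm (k : Fin 5) (m : Fin 12) : Perm ArrayPt where
  toFun p := pt (wf k m (idx p))
  invFun p := pt (wfi k m (idx p))
  left_inv p := by
    have h := wit_perm k m ⟨idx p, idx_lt p⟩
    simp only at h
    change pt (wfi k m (idx (pt (wf k m (idx p))))) = p
    rw [idx_pt' h.1, h.2.2.1, pt_idx]
  right_inv p := by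
    have h := wit_perm k m ⟨idx p, idx_lt p⟩
    simp only at h
    change pt (wf k m (idx (pt (wfi k m (idx p))))) = p
    rw [idx_pt' h.2.1, h.2.2.2, pt_idx]

/-- the witness signs -/
def wc (k : Fin 5) (m : Fin 12) : ArrayPt → (ZMod 3)ˣ :=
  fun p => if ws k m (idx p) = 2 then -1 else 1

theorem wc_val (k : Fin 5) (m : Fin 12) (p : ArrayPt) :
    ((wc k m p : (ZMod 3)ˣ) : ZMod 3) = ws k m (idx p) := by
  unfold wc
  rcases wit_sign k m ⟨idx p, idx_lt p⟩ with h | h
  · simp only at h
    rw [h]
    decide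
  · simp only at h
    rw [h]
    decide

theorem valid_of_gens {σ : Perm ArrayPt} {c : ArrayPt → (ZMod 3)ˣ}
    (h : ∀ j, monomialMap σ c (G j) ∈ ternaryGolayCode) : Valid ternaryGolayCode σ c := by
  intro x hx
  rw [← enc_dec hx, enc_eq]
  have : monomialMap σ c (∑ j, cf (dec x) j • G j) =
      ∑ j, cf (dec x) j • monomialMap σ c (G j) := by
    change monoLin σ c _ = _
    rw [map_sum]
    refine Finset.sum_congr rfl fun j _ => ?_
    rw [map_smul]
    rfl
  rw [this]
  exact Submodule.sum_mem _ fun j _ => Submodule.smul_mem _ _ (h j)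

theorem wperm_valid (k : Fin 5) (m : Fin 12) :
    Valid ternaryGolayCode (wperm k m) (wc k m) := by
  apply valid_of_gens
  intro j
  rw [mem_iff]
  have : monomialMap (wperm k m) (wc k m) (G j) =
      fun p => ws k m (idx p) * G j (pt (wfi k m (idx p))) := by
    funext p
    simp only [monomialMap, wc_val]
    rfl
  rw [this]
  exact wit_chk k m j

theorem step (k : Fin 5) (q : ArrayPt) (hq : ∀ i : Fin 5, i.val < k.val → q ≠ pt i) :
    ∃ g ∈ autPerm ternaryGolayCode,
      (∀ i : Fin 5, i.val < k.val → g (pt i) = pt i) ∧ g (pt k) = q := by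
  have hkm : k.val ≤ idx q := by
    by_contra hlt
    push Not at hlt
    have h5 : idx q < 5 := lt_trans hlt k.isLt
    exact hq ⟨idx q, h5⟩ hlt (pt_idx q).symm
  obtain ⟨m, hm⟩ : ∃ m : Fin 12, m.val = idx q := ⟨⟨idx q, idx_lt q⟩, rfl⟩
  rw [← hm] at hkm
  have hfix := wit_fix k m hkm
  refine ⟨wperm k m, ⟨wc k m, wperm_valid k m⟩, ?_, ?_⟩
  · intro i hi
    change pt (wf k m (idx (pt i))) = pt i
    rw [idx_pt' (lt_trans i.isLt (by norm_num)), hfix.1 i hi]
  · change pt (wf k m (idx (pt k))) = q
    rw [idx_pt' (lt_trans k.isLt (by norm_num)), hfix.2, hm, pt_idx]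

theorem five_trans (q : Fin 5 → ArrayPt) (hq : Function.Injective q) :
    ∀ n ≤ 5, ∃ g ∈ autPerm ternaryGolayCode, ∀ i : Fin 5, i.val < n → g (pt i) = q i := by
  intro n
  induction n with
  | zero =>
    intro _
    exact ⟨1, one_mem _, fun i hi => absurd hi (Nat.not_lt_zero _)⟩
  | succ n ih =>
    intro hn
    obtain ⟨g, hg, hgi⟩ := ih (by omega)
    obtain ⟨k, hk⟩ : ∃ k : Fin 5, k.val = n := ⟨⟨n, by omega⟩, rfl⟩
    have hq' : ∀ i : Fin 5, i.val < k.val → g⁻¹ (q k) ≠ pt i := by
      intro i hi h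
      have h1 : q k = g (pt i) := by
        rw [← h]
        simp
      rw [hgi i (by omega)] at h1
      have := hq h1
      rw [this] at hi
      exact lt_irrefl _ hi
    obtain ⟨h, hh, hfix, hk'⟩ := step k _ hq'
    refine ⟨g * h, mul_mem hg hh, fun i hi => ?_⟩
    rcases Nat.lt_succ_iff_lt_or_eq.mp hi with hlt | heq
    · rw [Perm.mul_apply, hfix i (by omega), hgi i hlt]
    · have : i = k := Fin.ext (by omega)
      rw [this, Perm.mul_apply, hk']
      simp

theorem card_ge : 95040 ≤ Nat.card ↥(autPerm ternaryGolayCode) := by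
  have hpt_inj : Function.Injective (fun i : Fin 5 => pt i) := by
    intro i j h
    have := congrArg idx h
    simp only at this
    rw [idx_pt' (lt_trans i.isLt (by norm_num)), idx_pt' (lt_trans j.isLt (by norm_num))] at this
    exact Fin.ext this
  let Φ : ↥(autPerm ternaryGolayCode) → (Fin 5 ↪ ArrayPt) :=
    fun g => ⟨fun i => g.1 (pt i), fun i j h => hpt_inj (g.1.injective h)⟩
  have hsurj : Function.Surjective Φ := by
    intro q
    obtain ⟨g, hg, hgi⟩ := five_trans q q.injective 5 le_rfl
    refine ⟨⟨g, hg⟩, ?_⟩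
    apply DFunLike.ext
    intro i
    exact hgi i i.isLt
  have := Nat.card_le_card_of_surjective Φ hsurj
  rw [Nat.card_eq_fintype_card, Fintype.card_embedding_eq] at this
  have c12 : Fintype.card ArrayPt = 12 := by
    simp only [Fintype.card_prod, Fintype.card_fin, ZMod.card]
  rw [c12, Fintype.card_fin] at this
  exact this

end Cfsg.Agent.helper8.TG
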