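import Mathlib
import Cfsg.Agent.Lib_helper8_TGolay4

set_option autoImplicit false

namespace Cfsg.Agent.helper8.TG

open Cfsg Equiv Cfsg.Agent.helper8.Mono
open scoped Pointwise

theorem getD_take {l : List ℕ} {m i : ℕ} (h : i < m) : (l.take m).getD i 0 = l.getD i 0 := by
  simp [List.getD_eq_getElem?_getD, List.getElem?_take_of_lt h]

theorem pt_inj {i j : ℕ} (hi : i < 12) (hj : j < 12) (h : pt i = pt j) : i = j := by
  have := congrArg idx h
  rwa [idx_pt' hi, idx_pt' hj] at this

theorem idx_inj : Function.Injective idx := fun p q h => by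
  rw [← pt_idx p, ← pt_idx q, h]

theorem c12 : Fintype.card ArrayPt = 12 := by
  simp only [Fintype.card_prod, Fintype.card_fin, ZMod.card]

section rigid

variable (ρ : Perm ArrayPt)

/-- the index function of a permutation -/
def fidx (i : ℕ) : ℕ := idx (ρ (pt i))

/-- the table of a permutation -/
def tfull : List ℕ := (List.range 12).map (fidx ρ)

theorem tfull_length : (tfull ρ).length = 12 := by simp [tfull]

theorem tfull_getD {i : ℕ} (h : i < 12) : (tfull ρ).getD i 0 = fidx ρ i := by
  simp [tfull, List.getD_eq_getElem?_getD, h]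

theorem tfull_nodup : (tfull ρ).Nodup := by
  unfold tfull
  apply List.Nodup.map_on _ List.nodup_range
  intro i hi j hj h
  rw [List.mem_range] at hi hj
  exact pt_inj hi hj (ρ.injective (idx_inj h))

theorem mk_smul (l : List ℕ) (hl : l.Nodup) (hl12 : ∀ i ∈ l, i < 12) :
    mk (ρ • (l.map pt).toFinset) = imgMask (tfull ρ) l := by
  unfold mk imgMask
  have hnd : (l.map pt).Nodup :=
    List.Nodup.map_on (fun i hi j hj h => pt_inj (hl12 i hi) (hl12 j hj) h) hl
  change ∑ p ∈ ((l.map pt).toFinset.image (fun p => ρ p)), 2 ^ idx p = _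
  rw [Finset.sum_image (fun a _ b _ h => ρ.injective h)]
  rw [List.sum_toFinset _ hnd, List.map_map]
  congr 1
  apply List.map_congr_left
  intro i hi
  simp only [Function.comp]
  rw [tfull_getD ρ (hl12 i hi)]
  rfl

theorem hexL_mem_Hex {l : List ℕ} (hl : l ∈ hexL) : (l.map pt).toFinset ∈ Hex := by
  obtain ⟨hnd, hlen, h12⟩ := hexL_good l hl
  obtain ⟨k, hk, hkl⟩ := List.getElem_of_mem hl
  have hk' : k < 132 := by
    rw [← hexL_length]
    exact hk
  have hs := hexL_supp ⟨k, hk'⟩
  simp only at hs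
  have e1 : hexL.getD k [] = l := by
    rw [List.getD_eq_getElem?_getD, List.getElem?_eq_getElem hk, hkl]
    rfl
  rw [e1] at hs
  have hnd' : (l.map pt).Nodup :=
    List.Nodup.map_on (fun i hi j hj h => pt_inj (h12 i hi) (h12 j hj) h) hnd
  refine ⟨enc (hexT.getD k 0), enc_mem _, ?_, ?_⟩
  · ext p
    rw [mem_supp, hs p, List.mem_toFinset, List.mem_map]
    constructor
    · intro h
      exact ⟨idx p, h, pt_idx p⟩
    · rintro ⟨i, hi, rfl⟩
      rw [idx_pt' (h12 i hi)]
      exact hi
  · exact (List.toFinset_card_of_nodup hnd').trans (by rw [List.length_map, hlen])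

theorem bitmap_of_Hex {s : Finset ArrayPt} (hs : s ∈ Hex) :
    hexBitmap.testBit (mk s) = true := by
  obtain ⟨x, hx, rfl, w⟩ := hs
  have := bitmap_of_W6 (dec x)
  rw [enc_dec hx] at this
  exact this w

theorem smul_mem_Hex (hρ : ρ ∈ setSystemAut Hex) {b : Finset ArrayPt} (hb : b ∈ Hex) :
    ρ • b ∈ Hex := by
  have h : ρ • Hex = Hex := hρ
  rw [← h]
  exact Set.smul_mem_smul_set hb

theorem K_take (hρ : ρ ∈ setSystemAut Hex) (n : Fin 12) :
    K n ((tfull ρ).take (n + 1)) = true := by
  unfold K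
  rw [Bool.and_eq_true, decide_eq_true_eq, List.all_eq_true]
  refine ⟨(tfull_nodup ρ).sublist (List.take_sublist _ _), ?_⟩
  intro l hl
  have hlL : l ∈ hexL := List.mem_of_mem_filter hl
  obtain ⟨hnd, hlen, h12⟩ := hexL_good l hlL
  have hle := hexLn_le n l hl
  have : imgMask ((tfull ρ).take (n + 1)) l = imgMask (tfull ρ) l := by
    unfold imgMask
    congr 1
    apply List.map_congr_left
    intro i hi
    rw [getD_take (Nat.lt_succ_of_le (hle i hi))]
  rw [this, ← mk_smul ρ l hnd h12]
  exact bitmap_of_Hex (smul_mem_Hex ρ hρ (hexL_mem_Hex hlL))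

theorem rig_ind (hρ : ρ ∈ setSystemAut Hex) : ∀ fuel n, n + fuel = 12 →
    Rig fuel n ((tfull ρ).take n) → tfull ρ = List.range 12 := by
  intro fuel
  induction fuel with
  | zero =>
    intro n hn h
    have : n = 12 := by omega
    subst this
    rw [List.take_of_length_le (by rw [tfull_length])] at h
    exact h
  | succ fuel ih =>
    intro n hn h
    have hn12 : n < 12 := by omega
    have hstep : (tfull ρ).take (n + 1) =
        (tfull ρ).take n ++ [((⟨fidx ρ n, idx_lt _⟩ : Fin 12)).val] := by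
      rw [List.take_add_one]
      congr 1
      simp [tfull, hn12]
    have h' := h ⟨fidx ρ n, idx_lt _⟩
    rw [← hstep] at h'
    exact ih (n + 1) (by omega) (h' (K_take ρ hρ ⟨n, hn12⟩))

theorem fixes_all (hρ : ρ ∈ setSystemAut Hex) (hfix : ∀ i : Fin 5, ρ (pt i) = pt i) :
    ρ = 1 := by
  have e : ∀ i, i < 5 → fidx ρ i = i := by
    intro i hi
    have := hfix ⟨i, hi⟩
    simp only at this
    unfold fidx
    rw [this, idx_pt' (by omega)]
  have hrange : List.range 12 = [0, 1, 2, 3, 4, 5, 6, 7, 8, 9, 10, 11] := by decide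
  have h5 : (tfull ρ).take 5 = [0, 1, 2, 3, 4] := by
    simp only [tfull, hrange, List.map, List.take]
    rw [e 0 (by norm_num), e 1 (by norm_num), e 2 (by norm_num), e 3 (by norm_num),
      e 4 (by norm_num)]
  have hr := rigid
  rw [← h5] at hr
  have ht := rig_ind ρ hρ 7 5 rfl hr
  ext1 p
  have hp := idx_lt p
  have h1 := tfull_getD ρ hp
  rw [ht] at h1
  have h2 : (List.range 12).getD (idx p) 0 = idx p := by
    simp [List.getD_eq_getElem?_getD, hp]
  rw [h2] at h1
  unfold fidx at h1
  rw [pt_idx] at h1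
  exact idx_inj h1.symm

end rigid

theorem card_le : Nat.card ↥(setSystemAut Hex) ≤ 95040 := by
  have hpt_inj : Function.Injective (fun i : Fin 5 => pt i) := by
    intro i j h
    exact Fin.ext (pt_inj (lt_trans i.isLt (by norm_num)) (lt_trans j.isLt (by norm_num)) h)
  let Ψ : ↥(setSystemAut Hex) → (Fin 5 ↪ ArrayPt) :=
    fun g => ⟨fun i => g.1 (pt i), fun i j h => hpt_inj (g.1.injective h)⟩
  have hinj : Function.Injective Ψ := by
    intro g h hgh
    have h1 : (h⁻¹ * g).1 = 1 := by
      apply fixes_all _ (h⁻¹ * g).2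
      intro i
      have := congrArg (fun e : Fin 5 ↪ ArrayPt => e i) hgh
      change g.1 (pt i) = h.1 (pt i) at this
      change (h.1)⁻¹ (g.1 (pt i)) = pt i
      rw [this]
      simp
    have h2 : h⁻¹ * g = 1 := Subtype.ext h1
    exact (inv_mul_eq_one.mp h2).symm
  have := Nat.card_le_card_of_injective Ψ hinj
  rw [Nat.card_eq_fintype_card (α := Fin 5 ↪ ArrayPt), Fintype.card_embedding_eq, c12,
    Fintype.card_fin] at this
  exact this

theorem autPerm_eq : autPerm ternaryGolayCode = setSystemAut Hex :=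
  Subgroup.eq_of_le_of_card_ge autPerm_le (card_le.trans card_ge)

theorem card_autPerm : Nat.card ↥(autPerm ternaryGolayCode) = 95040 := by
  apply le_antisymm _ card_ge
  rw [autPerm_eq]
  exact card_le

theorem card_mono : Nat.card {f : Perm ArrayPt × (ArrayPt → (ZMod 3)ˣ) //
    ∀ x ∈ ternaryGolayCode, monomialMap f.1 f.2 x ∈ ternaryGolayCode} = 190080 := by
  rw [card_total, card_autPerm, card_diag]

end Cfsg.Agent.helper8.TG
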