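import Mathlib
import Cfsg.Prelude.Def_Characters
import Cfsg.Prelude.Def_OddOrderChar
import Cfsg.Agent.Lib_helper8_Ind
import Cfsg.Agent.Lib_helper8_Clifford
import Cfsg.Agent.Lib_helper8_Virtual
import Cfsg.Agent.Lib_helper5_Clifford
import Cfsg.Agent.Lib_helper12_CharOps
import Cfsg.Agent.Lib_helper12_Clifford
import Cfsg.Agent.Lib_helper24_CharCount
import Cfsg.Agent.Lib_helper24_CharWed
import Cfsg.Agent.Lib_helper24_CharIntegral
import Cfsg.Agent.Lib_helper24_CharValues
import Cfsg.Agent.S1528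

/-!
Frobenius-type normaliser `N` with normal subgroup `K` containing the centraliser of each of its
non-identity elements: the irreducible characters of `N` not trivial on `K` are exactly the
characters induced from the non-principal irreducible characters of `K`; a degree argument for
integrality; and the constancy lemma on `K` minus the identity.
-/

set_option autoImplicit false

namespace Cfsg.Agent.helper8.TIFN

open Cfsg Cfsg.Agent.helper8 Cfsg.Agent.helper24
open scoped ComplexConjugate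

universe u

/-- Induction from a normal subgroup does not see conjugation of the inducing function. -/
theorem indFun_conjFunN {G : Type u} [Group G] [Fintype G] (H : Subgroup G) [hN : H.Normal]
    (g : G) (θ : H → ℂ) : indFun H (conjFunN H g θ) = indFun H θ := by
  funext z
  show (Nat.card H : ℂ)⁻¹ * ∑ x : G, extendByZero H (conjFunN H g θ) (x⁻¹ * z * x)
    = (Nat.card H : ℂ)⁻¹ * ∑ x : G, extendByZero H θ (x⁻¹ * z * x)
  congr 1
  rw [← Equiv.sum_comp (Equiv.mulRight g⁻¹) (fun x : G => extendByZero H θ (x⁻¹ * z * x))]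
  apply Finset.sum_congr rfl
  intro x _
  rw [← extendByZero_conj]
  congr 1
  simp only [Equiv.coe_mulRight, mul_inv_rev, inv_inv]
  group

variable {N : Type u} [Group N]

/-- The irreducible characters of `N` that are not trivial on `K`. -/
def rel (K : Subgroup N) : Set (N → ℂ) :=
  {χ | IsIrrCharacter N χ ∧ ∃ k : N, k ∈ K ∧ χ k ≠ χ 1}

/-- The function induced from the principal character of a normal subgroup is constant on it. -/
theorem indFun_one_const [Fintype N] (K : Subgroup N) [hK : K.Normal] (k : N) (hk : k ∈ K) :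
    indFun K (fun _ : K => (1 : ℂ)) k = indFun K (fun _ : K => (1 : ℂ)) 1 := by
  show (Nat.card K : ℂ)⁻¹ * ∑ x : N, extendByZero K (fun _ : K => (1 : ℂ)) (x⁻¹ * k * x)
    = (Nat.card K : ℂ)⁻¹ * ∑ x : N, extendByZero K (fun _ : K => (1 : ℂ)) (x⁻¹ * 1 * x)
  congr 1
  apply Finset.sum_congr rfl
  intro x _
  have h1 : x⁻¹ * k * x ∈ K := by
    have := hK.conj_mem k hk x⁻¹
    rwa [inv_inv] at this
  have h2 : x⁻¹ * 1 * x ∈ K := by
    rw [mul_one, inv_mul_cancel]; exact K.one_mem
  rw [Cfsg.Agent.helper5.extendByZero_of_mem K _ _ h1,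
    Cfsg.Agent.helper5.extendByZero_of_mem K _ _ h2]

/-- Every relevant character is induced from a non-principal irreducible character of `K`. -/
theorem rel_induced [Fintype N] (K : Subgroup N) [hK : K.Normal]
    (hC : ∀ n ∈ K, n ≠ 1 → Subgroup.centralizer ({n} : Set N) ≤ K)
    {χ : N → ℂ} (hχ : χ ∈ rel K) :
    ∃ φ : K → ℂ, IsIrrCharacter K φ ∧ φ ≠ (fun _ => 1) ∧ χ = indFun K φ := by
  obtain ⟨hirr, k, hk, hne⟩ := hχ
  obtain ⟨φ, hφ, hχφ⟩ := Cfsg.Agent.S1528.result K hC χ hirr ⟨k, hk, hne⟩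
  refine ⟨φ, hφ, ?_, hχφ⟩
  intro h1
  apply hne
  rw [hχφ, h1]
  exact indFun_one_const K k hk

/-- Conversely the function induced from a non-principal irreducible character of `K` is a
relevant (irreducible) character. -/
theorem ind_mem_rel [Fintype N] (K : Subgroup N) [hK : K.Normal]
    (hC : ∀ n ∈ K, n ≠ 1 → Subgroup.centralizer ({n} : Set N) ≤ K)
    {φ : K → ℂ} (hφ : IsIrrCharacter K φ) (hne : φ ≠ (fun _ => 1)) :
    indFun K φ ∈ rel K := by
  classical
  haveI : Fintype K := Fintype.ofFinite K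
  obtain ⟨X, hX, hXφ⟩ := Cfsg.Agent.helper12.exists_irr_over K hφ
  have hXrel : X ∈ rel K := by
    refine ⟨hX, ?_⟩
    by_contra hcon
    push Not at hcon
    apply hXφ
    have e : (fun n : K => X n) = (X 1) • (fun _ : K => (1 : ℂ)) := by
      funext n
      rw [Pi.smul_apply, smul_eq_mul, mul_one]
      exact hcon n n.2
    rw [e, classInner_smul_left, irr_classInner_ne isIrrCharacter_one hφ (Ne.symm hne), mul_zero]
  obtain ⟨φ', hφ', hne', hXφ'⟩ := rel_induced K hC hXrel
  have h1 := Cfsg.Agent.helper5.classInner_res_indFun K φ' φ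
  have e1 : Cfsg.Agent.helper5.res K (indFun K φ') = fun n : K => X n := by
    rw [← hXφ']; rfl
  rw [e1] at h1
  have hex : ∃ x : N, classInner (conjFunN K x⁻¹ φ') φ ≠ 0 := by
    by_contra hcon
    push Not at hcon
    apply hXφ
    rw [h1, Finset.sum_eq_zero (fun x _ => hcon x), mul_zero]
  obtain ⟨x, hx⟩ := hex
  have hconj : conjFunN K x⁻¹ φ' = φ := by
    by_contra hcon
    exact hx (irr_classInner_ne (isIrrCharacter_conjFunN K x⁻¹ hφ') hφ hcon)
  rw [← hconj, indFun_conjFunN, ← hXφ']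
  exact hXrel

/-- A complex number whose product with every non-principal irreducible degree is an integer is
itself an integer (provided there is a non-principal irreducible character at all). -/
theorem int_of_mul_degree {K : Type u} [Group K] [Finite K] (x : ℂ)
    (h : ∀ φ : K → ℂ, IsIrrCharacter K φ → φ ≠ (fun _ => 1) → ∃ z : ℤ, x * φ 1 = z)
    {φ₀ : K → ℂ} (hφ₀ : IsIrrCharacter K φ₀) (hne : φ₀ ≠ (fun _ => 1)) : ∃ z : ℤ, x = z := by
  classical
  haveI : Fintype (IrrCharacter K) := Fintype.ofFinite _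
  have hsum := sum_irr_degree_sq (G := K)
  set P : IrrCharacter K := ⟨fun _ => 1, isIrrCharacter_one⟩ with hP
  have hPdeg : charDegree (P : K → ℂ) = 1 := charDegree_natCast _ 1 (by simp [hP])
  rw [← Finset.add_sum_erase Finset.univ _ (Finset.mem_univ P), hPdeg, one_pow] at hsum
  have hz : ∀ φ : IrrCharacter K, φ ≠ P → ∃ z : ℤ, x * (charDegree (φ : K → ℂ) : ℂ) = z := by
    intro φ hφP
    rw [char_charDegree_cast (irr_isCharacter φ.2)]
    apply h φ.1 φ.2
    intro h1
    apply hφP
    exact Subtype.ext h1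
  have h2 : ∃ z : ℤ,
      x * ((∑ φ ∈ Finset.univ.erase P, charDegree (φ : K → ℂ) ^ 2 : ℕ) : ℂ) = z := by
    choose! zf hzf using hz
    refine ⟨∑ φ ∈ Finset.univ.erase P, zf φ * (charDegree (φ : K → ℂ) : ℤ), ?_⟩
    push_cast
    rw [Finset.mul_sum]
    apply Finset.sum_congr rfl
    intro φ hφ
    rw [← hzf φ (Finset.ne_of_mem_erase hφ)]
    ring
  have h3 : ∃ z : ℤ, x * (Nat.card K : ℂ) = z := by
    obtain ⟨z, hz0⟩ := h φ₀ hφ₀ hne
    obtain ⟨c, hc⟩ := irr_degree_dvd_card hφ₀
    refine ⟨z * c, ?_⟩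
    rw [hc]
    push_cast
    rw [char_charDegree_cast (irr_isCharacter hφ₀), ← mul_assoc, hz0]
  obtain ⟨z2, hz2⟩ := h2
  obtain ⟨z3, hz3⟩ := h3
  refine ⟨z3 - z2, ?_⟩
  push_cast
  rw [← hz3, ← hz2, ← hsum]
  push_cast
  ring

/-- The constancy lemma: a class function of `N` whose inner products with the relevant characters
are proportional to their degrees is constant on `K` minus the identity. -/
theorem const_on_K [Fintype N] (K : Subgroup N) [hK : K.Normal] [Fintype K]
    (hC : ∀ n ∈ K, n ≠ 1 → Subgroup.centralizer ({n} : Set N) ≤ K)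
    {F : N → ℂ} (hF : IsClassFunction N F)
    (hprop : ∀ η ∈ rel K, ∀ ξ ∈ rel K, ξ 1 * classInner F η = η 1 * classInner F ξ)
    {ξ₀ : N → ℂ} (hξ₀ : ξ₀ ∈ rel K) :
    ∃ x : ℂ, (∀ φ : K → ℂ, IsIrrCharacter K φ → φ ≠ (fun _ => 1) →
        classInner (fun k : K => F k) φ = x * φ 1) ∧
      ∀ k : N, k ∈ K → k ≠ 1 →
        F k = classInner (fun k : K => F k) (fun _ => (1 : ℂ)) - x := by
  classical
  haveI : Fintype (IrrCharacter K) := Fintype.ofFinite _
  have hξ1 : ξ₀ 1 ≠ 0 := irr_apply_one_ne_zero hξ₀.1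
  have part1 : ∀ φ : K → ℂ, IsIrrCharacter K φ → φ ≠ (fun _ => 1) →
      classInner (fun k : K => F k) φ
        = ((K.index : ℂ) * classInner F ξ₀ / ξ₀ 1) * φ 1 := by
    intro φ hφ hne
    have hη := ind_mem_rel K hC hφ hne
    have h1 := hprop _ hη _ hξ₀
    rw [Cfsg.Agent.helper5.indFun_one] at h1
    have h2 : classInner (fun k : K => F k) φ = classInner F (indFun K φ) := by
      rw [← classInner_conj_symm, ← Cfsg.Agent.helper8.frobenius K φ F hF, classInner_conj_symm]
    rw [h2]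
    field_simp
    linear_combination h1
  refine ⟨(K.index : ℂ) * classInner F ξ₀ / ξ₀ 1, part1, ?_⟩
  intro k hk hk1
  set x : ℂ := (K.index : ℂ) * classInner F ξ₀ / ξ₀ 1 with hx
  set f : K → ℂ := fun k : K => F k with hf
  have hfcl : IsClassFunction K f := by
    intro g h
    show F ((h * g * h⁻¹ : K) : N) = F (g : N)
    rw [Subgroup.coe_mul, Subgroup.coe_mul, Subgroup.coe_inv]
    exact hF _ _
  have hexp := classFunction_expansion hfcl
  set P : IrrCharacter K := ⟨fun _ => 1, isIrrCharacter_one⟩ with hP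
  have hk1' : (⟨k, hk⟩ : K) ≠ 1 := by
    intro h
    apply hk1
    exact congrArg Subtype.val h
  have hcol := irr_column_orthogonality (G := K) (⟨k, hk⟩ : K) 1
  rw [if_neg (by rw [isConj_one_left]; exact hk1'),
    ← Finset.add_sum_erase Finset.univ _ (Finset.mem_univ P)] at hcol
  have hPk : (P : K → ℂ) ⟨k, hk⟩ = 1 := rfl
  have hP1 : (P : K → ℂ) 1 = 1 := rfl
  simp only [hPk, hP1, map_one, mul_one] at hcol
  have hval : F k = ∑ φ : IrrCharacter K, (classInner f (φ : K → ℂ) • (φ : K → ℂ)) ⟨k, hk⟩ := by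
    have h0 : F k = f ⟨k, hk⟩ := rfl
    rw [h0, ← Finset.sum_apply, ← hexp]
  rw [hval, ← Finset.add_sum_erase Finset.univ _ (Finset.mem_univ P)]
  have hterm : ∀ φ ∈ Finset.univ.erase P,
      (classInner f (φ : K → ℂ) • (φ : K → ℂ)) ⟨k, hk⟩
        = x * ((φ : K → ℂ) ⟨k, hk⟩ * conj ((φ : K → ℂ) 1)) := by
    intro φ hφ
    have hφP : (φ : K → ℂ) ≠ fun _ => 1 := by
      intro h
      exact Finset.ne_of_mem_erase hφ (Subtype.ext h)
    rw [Pi.smul_apply, smul_eq_mul, part1 φ.1 φ.2 hφP]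
    obtain ⟨n, -, hn⟩ := irr_apply_one φ.2
    rw [hn, Complex.conj_natCast]
    ring
  rw [Finset.sum_congr rfl hterm, ← Finset.mul_sum, Pi.smul_apply, smul_eq_mul, hPk, mul_one]
  have : ∑ φ ∈ Finset.univ.erase P, (φ : K → ℂ) ⟨k, hk⟩ * conj ((φ : K → ℂ) 1) = -1 := by
    linear_combination hcol
  rw [this]
  ring

end Cfsg.Agent.helper8.TIFN
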