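import Cfsg.Statements.S0850
import Mathlib
import Cfsg.Agent.Lib_helper5_Ind

set_option autoImplicit false
open Cfsg

namespace Cfsg.Agent.S0850

open Cfsg.Agent.helper5

/-- The normalizer acts on the subgroup by conjugation. -/
@[reducible] def normAct {G : Type*} [Group G] (K : Subgroup G) :
    MulAction (Subgroup.normalizer (K : Set G)) K where
  smul n k := ⟨(n : G) * k * (n : G)⁻¹, (Subgroup.mem_normalizer_iff.mp n.2 k).mp k.2⟩
  one_smul k := by apply Subtype.ext; simp [HSMul.hSMul]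
  mul_smul a b k := by apply Subtype.ext; simp [HSMul.hSMul, mul_assoc]

theorem part1 {G : Type*} [Group G] [Finite G] (K : Subgroup G)
    (hTI : ∀ g : G, g ∉ Subgroup.normalizer (K : Set G) → ∀ k ∈ K, g * k * g⁻¹ ∈ K → k = 1)
    (hC : ∀ k ∈ K, k ≠ 1 → Subgroup.centralizer ({k} : Set G) ≤ K) :
    ∀ x ∈ Subgroup.normalizer (K : Set G), x ∉ K → ∀ g : G, g * x * g⁻¹ ∉ K := by
  classical
  intro x hxN hxK g hy
  have hgN : g ∉ Subgroup.normalizer (K : Set G) := by
    intro hg
    exact hxK ((Subgroup.mem_normalizer_iff.mp hg x).mpr hy)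
  have hx1 : x ≠ 1 := fun h => hxK (h ▸ K.one_mem)
  have hord : orderOf x ≠ 1 := fun h => hx1 (orderOf_eq_one_iff.mp h)
  obtain ⟨p, hp, hpd⟩ := Nat.exists_prime_and_dvd hord
  haveI : Fact p.Prime := ⟨hp⟩
  have hpos : 0 < orderOf x := orderOf_pos x
  set z : G := x ^ (orderOf x / p) with hz
  have hzord : orderOf z = p := orderOf_pow_orderOf_div hpos.ne' hpd
  have hz1 : z ≠ 1 := by
    intro h
    rw [h, orderOf_one] at hzord
    exact hp.one_lt.ne hzord
  have hzN : z ∈ Subgroup.normalizer (K : Set G) := Subgroup.pow_mem _ hxN _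
  have hgz : g * z * g⁻¹ ∈ K := by
    have : g * z * g⁻¹ = (g * x * g⁻¹) ^ (orderOf x / p) := by
      rw [hz, conj_pow]
    rw [this]; exact K.pow_mem hy _
  have hzK : z ∉ K := fun h => hz1 (hTI g hgN z h hgz)
  -- p divides |K|
  have hpK : p ∣ Nat.card K := by
    have h1 : orderOf (g * z * g⁻¹) = p := by
      rw [← hzord, ← MulAut.conj_apply]
      exact MulEquiv.orderOf_eq _ _
    have h2 : orderOf (⟨g * z * g⁻¹, hgz⟩ : K) = p := by
      rw [← h1]; exact Subgroup.orderOf_mk _ _
    rw [← h2]; exact orderOf_dvd_natCard _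
  -- fixed point count
  letI := normAct K
  let zN : Subgroup.normalizer (K : Set G) := ⟨z, hzN⟩
  have hzNord : orderOf zN = p := by
    rw [← hzord]; exact Subgroup.orderOf_mk _ _
  have hZ : IsPGroup p (Subgroup.zpowers zN) := by
    apply IsPGroup.of_card (n := 1)
    rw [Nat.card_zpowers, hzNord, pow_one]
  have key := hZ.card_modEq_card_fixedPoints K
  have hfix : MulAction.fixedPoints (Subgroup.zpowers zN) K = {1} := by
    ext k
    simp only [MulAction.mem_fixedPoints, Set.mem_singleton_iff]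
    constructor
    · intro hk
      by_contra hk1
      have h1 := hk ⟨zN, Subgroup.mem_zpowers zN⟩
      have h2 : z * (k : G) * z⁻¹ = (k : G) := congrArg Subtype.val h1
      have hk1' : (k : G) ≠ 1 := fun h => hk1 (Subtype.ext h)
      have hzc : z ∈ Subgroup.centralizer ({(k : G)} : Set G) := by
        rw [Subgroup.mem_centralizer_iff]
        intro w hw
        rw [Set.mem_singleton_iff] at hw
        subst hw
        calc (k : G) * z = (z * (k : G) * z⁻¹) * z := by rw [h2]
          _ = z * (k : G) := by group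
      exact hzK (hC k k.2 hk1' hzc)
    · intro hk n
      subst hk
      apply Subtype.ext
      show ((n : Subgroup.normalizer (K : Set G)) : G) * ((1 : K) : G) * ((n : Subgroup.normalizer (K : Set G)) : G)⁻¹ = ((1 : K) : G)
      simp
  rw [hfix] at key
  have h1 : Nat.card ({1} : Set K) = 1 := by simp
  rw [h1] at key
  have h0 : Nat.card K ≡ 0 [MOD p] := (Nat.modEq_zero_iff_dvd).mpr hpK
  have := key.symm.trans h0
  have h3 : p ∣ 1 := by
    have := (Nat.modEq_zero_iff_dvd).mp this
    exact this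
  exact hp.one_lt.ne' (Nat.dvd_one.mp h3)

theorem part2 {G : Type*} [Group G] [Fintype G] (K N : Subgroup G)
    (hTI : ∀ g : G, g ∉ N → ∀ k ∈ K, g * k * g⁻¹ ∈ K → k = 1)
    (hp1 : ∀ x ∈ N, x ∉ K → ∀ g : G, g * x * g⁻¹ ∉ K)
    (ϑ : N → ℂ) (hcl : Cfsg.IsClassFunction N ϑ) (hvan : ∀ x : N, (x : G) ∉ K → ϑ x = 0)
    (h1 : ϑ 1 = 0) (x : N) : Cfsg.indFun N ϑ x = ϑ x := by
  classical
  have hNne : (Nat.card N : ℂ) ≠ 0 := by exact_mod_cast Nat.card_pos.ne'
  unfold indFun
  -- each term of the sum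
  have hterm : ∀ g : G, extendByZero N ϑ (g⁻¹ * (x : G) * g) = if g ∈ N then ϑ x else 0 := by
    intro g
    by_cases hxK : (x : G) ∈ K
    · by_cases hx1 : x = 1
      · subst hx1
        have : g⁻¹ * ((1 : N) : G) * g = ((1 : N) : G) := by simp
        rw [this, extendByZero_coe, h1]; simp
      · by_cases hg : g ∈ N
        · rw [if_pos hg]
          have hmem : g⁻¹ * (x : G) * g ∈ N := N.mul_mem (N.mul_mem (N.inv_mem hg) x.2) hg
          rw [extendByZero_of_mem N ϑ _ hmem]
          have := hcl x ⟨g, hg⟩⁻¹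
          rw [← this]
          congr 1
          apply Subtype.ext
          simp
        · rw [if_neg hg]
          by_cases hmem : g⁻¹ * (x : G) * g ∈ N
          · rw [extendByZero_of_mem N ϑ _ hmem]
            apply hvan
            show g⁻¹ * (x : G) * g ∉ K
            intro hk
            have hginv : g⁻¹ ∉ N := fun h => hg (by simpa using N.inv_mem h)
            have := hTI g⁻¹ hginv (x : G) hxK (by simpa using hk)
            exact hx1 (Subtype.ext this)
          · exact extendByZero_of_not_mem N ϑ _ hmem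
    · have hx0 : ϑ x = 0 := hvan x hxK
      rw [hx0]
      simp only [ite_self]
      by_cases hmem : g⁻¹ * (x : G) * g ∈ N
      · rw [extendByZero_of_mem N ϑ _ hmem]
        apply hvan
        show g⁻¹ * (x : G) * g ∉ K
        have := hp1 (x : G) x.2 hxK g⁻¹
        simpa using this
      · exact extendByZero_of_not_mem N ϑ _ hmem
  simp only [hterm]
  rw [Finset.sum_ite, Finset.sum_const_zero, add_zero, Finset.sum_const, nsmul_eq_mul]
  have hcard : (Finset.univ.filter (fun g : G => g ∈ N)).card = Nat.card N := by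
    rw [Nat.card_eq_fintype_card, Fintype.card_subtype]
  rw [hcard, ← mul_assoc, inv_mul_cancel₀ hNne, one_mul]

theorem result {G : Type*} [Group G] [Fintype G] (K : Subgroup G) (hTI : ∀ g : G, g ∉ Subgroup.normalizer (K : Set G) → ∀ k ∈ K, g * k * g⁻¹ ∈ K → k = 1) (hlt : K < Subgroup.normalizer (K : Set G)) (hC : ∀ k ∈ K, k ≠ 1 → Subgroup.centralizer ({k} : Set G) ≤ K) : (∀ x ∈ Subgroup.normalizer (K : Set G), x ∉ K → ∀ g : G, g * x * g⁻¹ ∉ K) ∧ ∀ (ϑ : Subgroup.normalizer (K : Set G) → ℂ), Cfsg.IsClassFunction (Subgroup.normalizer (K : Set G)) ϑ → (∀ x : Subgroup.normalizer (K : Set G), (x : G) ∉ K → ϑ x = 0) → ϑ 1 = 0 → ∀ x : Subgroup.normalizer (K : Set G), Cfsg.indFun (Subgroup.normalizer (K : Set G)) ϑ x = ϑ x := by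
  have hp1 := part1 K hTI hC
  refine ⟨hp1, ?_⟩
  intro ϑ hcl hvan h1 x
  exact part2 K _ hTI hp1 ϑ hcl hvan h1 x

end Cfsg.Agent.S0850
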