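import Cfsg.Statements.S1529
import Mathlib
import Cfsg.Agent.Lib_helper8_Virtual
import Cfsg.Agent.S1509
-- import your own Cfsg.Agent.* helpers here

set_option autoImplicit false
open Cfsg

namespace Cfsg.Agent.S1529


open scoped ComplexConjugate
open Cfsg.Agent.helper24 Cfsg.Agent.helper12 Cfsg.Agent.helper8

/-- Let N be a subgroup of the finite group G, S a set of irreducible characters of N with at least two members, and τ₁ a linear isometry on the integer combinations of S with virtual-character values such that τ₁ α vanishes at 1 whenever α ∈ ℤ[S] does. Then there is ε ∈ {1, −1} such that ε • τ₁ χ is an irreducible character of G for every χ ∈ S, and distinct members of S give distinct characters. -/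
theorem result {G : Type*} [Group G] [Fintype G] (N : Subgroup G) [Fintype N] (S : Set (N → ℂ)) (hirr : ∀ χ ∈ S, Cfsg.IsIrrCharacter N χ) (htwo : ∃ χ ∈ S, ∃ ψ ∈ S, χ ≠ ψ) (τ₁ : (N → ℂ) → (G → ℂ)) (hτ₁ : Cfsg.IsLinearIsometryOn (Cfsg.zspan S) τ₁) (h0 : ∀ α ∈ Cfsg.zspan S, α 1 = 0 → τ₁ α 1 = 0) : ∃ ε : ℂ, (ε = 1 ∨ ε = -1) ∧ (∀ χ ∈ S, Cfsg.IsIrrCharacter G (ε • τ₁ χ)) ∧ (∀ χ ∈ S, ∀ ψ ∈ S, τ₁ χ = τ₁ ψ → χ = ψ) := by
  obtain ⟨hadd, hsmul, hiso, hvirt⟩ := hτ₁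
  have hmem : ∀ χ ∈ S, χ ∈ Cfsg.zspan S := fun χ h => Submodule.subset_span h
  have hdec : ∀ χ ∈ S, ∃ (e : ℂ) (X : G → ℂ), (e = 1 ∨ e = -1) ∧ IsIrrCharacter G X ∧
      τ₁ χ = e • X := by
    intro χ hχ
    have hn : classInner (τ₁ χ) (τ₁ χ) = 1 := by
      rw [hiso χ (hmem χ hχ) χ (hmem χ hχ), irr_classInner_self (hirr χ hχ)]
    rcases virt_norm_one (hvirt χ (hmem χ hχ)) hn with h | h
    · exact ⟨1, τ₁ χ, Or.inl rfl, h, by simp⟩
    · exact ⟨-1, -τ₁ χ, Or.inr rfl, h, by simp⟩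
  have hsign : ∀ χ ∈ S, ∀ ψ ∈ S, ∀ (e e' : ℂ) (X X' : G → ℂ), (e = 1 ∨ e = -1) →
      (e' = 1 ∨ e' = -1) → IsIrrCharacter G X → IsIrrCharacter G X' → τ₁ χ = e • X →
      τ₁ ψ = e' • X' → e = e' := by
    intro χ hχ ψ hψ e e' X X' he he' hX hX' hτχ hτψ
    obtain ⟨m, hm0, hm⟩ := irr_apply_one (hirr χ hχ)
    obtain ⟨n, hn0, hn⟩ := irr_apply_one (hirr ψ hψ)
    obtain ⟨a, ha0, ha⟩ := irr_apply_one hX
    obtain ⟨b, hb0, hb⟩ := irr_apply_one hX'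
    have h1 : ((n : ℤ) • χ) ∈ Cfsg.zspan S :=
      Submodule.smul_mem (Submodule.span ℤ S) (n : ℤ) (hmem χ hχ)
    have h2 : ((-(m : ℤ)) • ψ) ∈ Cfsg.zspan S :=
      Submodule.smul_mem (Submodule.span ℤ S) (-(m : ℤ)) (hmem ψ hψ)
    have h3 : ((n : ℤ) • χ + (-(m : ℤ)) • ψ) ∈ Cfsg.zspan S :=
      Submodule.add_mem (Submodule.span ℤ S) h1 h2
    have hval : ((n : ℤ) • χ + (-(m : ℤ)) • ψ) 1 = 0 := by
      simp only [Pi.add_apply, Pi.smul_apply]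
      simp only [hm, hn, zsmul_eq_mul]
      push_cast
      ring
    have hz := h0 _ h3 hval
    rw [hadd _ h1 _ h2, hsmul χ (hmem χ hχ), hsmul ψ (hmem ψ hψ), hτχ, hτψ] at hz
    simp only [Pi.add_apply, Pi.smul_apply] at hz
    simp only [zsmul_eq_mul, smul_eq_mul, ha, hb] at hz
    apply Cfsg.Agent.S1509.sign_eq e e' he he' (n * a) (m * b) (Nat.mul_pos hn0 ha0)
      (Nat.mul_pos hm0 hb0)
    push_cast at hz ⊢
    linear_combination hz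
  obtain ⟨χ₀, hχ₀, -, -, -⟩ := htwo
  obtain ⟨e₀, X₀, he₀, hX₀, hτ₀⟩ := hdec χ₀ hχ₀
  refine ⟨e₀, he₀, ?_, ?_⟩
  · intro χ hχ
    obtain ⟨e, X, he, hX, hτ⟩ := hdec χ hχ
    have hee : e₀ = e := hsign χ₀ hχ₀ χ hχ e₀ e X₀ X he₀ he hX₀ hX hτ₀ hτ
    subst hee
    rw [hτ, smul_smul]
    have hsq : e₀ * e₀ = 1 := by rcases he₀ with h | h <;> rw [h] <;> norm_num
    rw [hsq, one_smul]
    exact hX
  · intro χ hχ ψ hψ heq
    by_contra hne
    have h1 := hiso χ (hmem χ hχ) ψ (hmem ψ hψ)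
    rw [← heq, hiso χ (hmem χ hχ) χ (hmem χ hχ), irr_classInner_self (hirr χ hχ),
      irr_classInner_ne (hirr χ hχ) (hirr ψ hψ) hne] at h1
    exact one_ne_zero h1

end Cfsg.Agent.S1529
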