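import Mathlib
import Cfsg.Agent.Lib_helper8_TIFN
import Cfsg.Agent.Lib_helper8_Coh
import Cfsg.Agent.S0850
import Cfsg.Agent.S1529

/-!
A trivial-intersection subgroup `K` with Frobenius-type normaliser `N` in `G`, the set `S` of
irreducible characters of `N` not trivial on `K`, and an isometry `star` on the integer span of
`S` extending induction: the difference between `star χ` and `χ` on `K`.
-/

set_option autoImplicit false

namespace Cfsg.Agent.helper8.TIFN

open Cfsg Cfsg.Agent.helper8 Cfsg.Agent.helper24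
open scoped ComplexConjugate

universe u

theorem gc_isClassFunction {G : Type u} [Group G] {Ψ : G → ℂ} (h : IsGeneralizedCharacter G Ψ) :
    IsClassFunction G Ψ := by
  obtain ⟨a, b, ha, hb, rfl⟩ := h
  exact isClassFunction_sub (char_isClassFunction ha) (char_isClassFunction hb)

theorem zspan_subset {X : Type u} {S : Set (X → ℂ)} {χ : X → ℂ} (h : χ ∈ S) : χ ∈ zspan S :=
  Submodule.subset_span h

theorem zspan_smul_mem {X : Type u} {S : Set (X → ℂ)} {χ : X → ℂ} (n : ℤ) (h : χ ∈ zspan S) :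
    n • χ ∈ zspan S :=
  Submodule.smul_mem (Submodule.span ℤ S) n h

theorem zspan_add_mem {X : Type u} {S : Set (X → ℂ)} {a b : X → ℂ} (ha : a ∈ zspan S)
    (hb : b ∈ zspan S) : a + b ∈ zspan S :=
  Submodule.add_mem (Submodule.span ℤ S) ha hb

/-- The hypotheses shared by the statements on a coherent set of exceptional characters. -/
structure Setup {G : Type u} [Group G] [Fintype G] (K N : Subgroup G) [Fintype N]
    (S : Set (N → ℂ)) (star : (N → ℂ) → (G → ℂ)) : Prop where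
  hN : N = Subgroup.normalizer (K : Set G)
  hTI : ∀ g : G, g ∉ N → ∀ k ∈ K, g * k * g⁻¹ ∈ K → k = 1
  hC : ∀ k ∈ K, k ≠ 1 → Subgroup.centralizer ({k} : Set G) ≤ K
  hS : S = rel (K.subgroupOf N)
  hstar : IsLinearIsometryOn (zspan S) star
  hext : ∀ α ∈ zspanOn S ({1}ᶜ : Set N), star α = indFun N α

variable {G : Type u} [Group G] [Fintype G] {K N : Subgroup G} [Fintype N]
  {S : Set (N → ℂ)} {star : (N → ℂ) → (G → ℂ)}

theorem Setup.normal (h : Setup K N S star) : (K.subgroupOf N).Normal := by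
  rw [h.hN]; exact Subgroup.normal_in_normalizer

theorem Setup.cent (h : Setup K N S star) : ∀ n ∈ K.subgroupOf N, n ≠ 1 →
    Subgroup.centralizer ({n} : Set N) ≤ K.subgroupOf N := by
  intro n hn hn1 x hx
  rw [Subgroup.mem_subgroupOf]
  apply h.hC (n : G) (Subgroup.mem_subgroupOf.mp hn) (fun h' => hn1 (Subtype.ext h'))
  rw [Subgroup.mem_centralizer_singleton_iff] at hx ⊢
  exact congrArg Subtype.val hx

theorem Setup.mem_S (h : Setup K N S star) {χ : N → ℂ} (hχ : χ ∈ S) :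
    χ ∈ rel (K.subgroupOf N) := by
  rw [← h.hS]; exact hχ

theorem Setup.span_props (h : Setup K N S star) {α : N → ℂ} (hα : α ∈ zspan S) :
    IsClassFunction N α ∧ ∀ x : N, (x : G) ∉ K → α x = 0 := by
  haveI := h.normal
  have hα' : α ∈ Submodule.span ℤ S := hα
  clear hα
  induction hα' using Submodule.span_induction with
  | mem χ hχ =>
    have hχ' := h.mem_S hχ
    refine ⟨char_isClassFunction (irr_isCharacter hχ'.1), ?_⟩
    obtain ⟨φ, hφ, -, rfl⟩ := rel_induced _ h.cent hχ'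
    intro x hx
    exact indFun_of_not_mem_normal _ φ x (fun h' => hx (Subgroup.mem_subgroupOf.mp h'))
  | zero => exact ⟨isClassFunction_zero, fun _ _ => rfl⟩
  | add a b _ _ ha hb =>
    refine ⟨isClassFunction_add ha.1 hb.1, ?_⟩
    intro x hx
    rw [Pi.add_apply, ha.2 x hx, hb.2 x hx, add_zero]
  | smul n a _ ha =>
    constructor
    · intro g k
      rw [Pi.smul_apply, Pi.smul_apply, ha.1 g k]
    · intro x hx
      rw [Pi.smul_apply, ha.2 x hx, smul_zero]

theorem Setup.star_eq (h : Setup K N S star) {α : N → ℂ}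
    (hα : α ∈ zspanOn S ({1}ᶜ : Set N)) (x : N) : star α x = α x := by
  rw [h.hext α hα]
  have hp1 : ∀ x ∈ N, x ∉ K → ∀ g : G, g * x * g⁻¹ ∉ K := by
    rw [h.hN]
    exact Cfsg.Agent.S0850.part1 K (by rw [← h.hN]; exact h.hTI) h.hC
  obtain ⟨hcl, hvan⟩ := h.span_props hα.1
  exact Cfsg.Agent.S0850.part2 K N h.hTI hp1 α hcl hvan (hα.2 1 (by simp)) x

theorem Setup.inner_star (h : Setup K N S star) {Ψ : G → ℂ} (hΨ : IsClassFunction G Ψ)
    {α : N → ℂ} (hα : α ∈ zspanOn S ({1}ᶜ : Set N)) :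
    classInner Ψ (star α) = classInner (fun n : N => Ψ n) α := by
  rw [h.hext α hα, ← classInner_conj_symm, frobenius N α Ψ hΨ, classInner_conj_symm]

theorem Setup.delta_orth (h : Setup K N S star) {χ : N → ℂ} (hχ : χ ∈ S)
    {α : N → ℂ} (hα : α ∈ zspanOn S ({1}ᶜ : Set N)) :
    classInner ((fun n : N => star χ n) - χ) α = 0 := by
  have hχz : χ ∈ zspan S := zspan_subset hχ
  have hgc := h.hstar.2.2.2 χ hχz
  have hcl : IsClassFunction G (star χ) := gc_isClassFunction hgc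
  rw [classInner_sub_left, ← h.inner_star hcl hα, h.hstar.2.2.1 χ hχz α hα.1, sub_self]

theorem Setup.alpha_mem (h : Setup K N S star) {η ξ : N → ℂ} (hη : η ∈ S) (hξ : ξ ∈ S) :
    ((charDegree ξ : ℤ) • η + (-(charDegree η : ℤ)) • ξ) ∈ zspanOn S ({1}ᶜ : Set N) := by
  constructor
  · exact zspan_add_mem (zspan_smul_mem _ (zspan_subset hη)) (zspan_smul_mem _ (zspan_subset hξ))
  · intro x hx
    have hx1 : x = 1 := by simpa using hx
    rw [hx1, Pi.add_apply, Pi.smul_apply, Pi.smul_apply,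
      ← char_charDegree_cast (irr_isCharacter (h.mem_S hη).1),
      ← char_charDegree_cast (irr_isCharacter (h.mem_S hξ).1)]
    simp only [zsmul_eq_mul]
    push_cast
    ring

theorem Setup.hprop (h : Setup K N S star) {F : N → ℂ}
    (hF : ∀ α ∈ zspanOn S ({1}ᶜ : Set N), classInner F α = 0) :
    ∀ η ∈ rel (K.subgroupOf N), ∀ ξ ∈ rel (K.subgroupOf N),
      ξ 1 * classInner F η = η 1 * classInner F ξ := by
  intro η hη ξ hξ
  rw [← h.hS] at hη hξ
  have h1 := hF _ (h.alpha_mem hη hξ)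
  rw [classInner_add_right, Coh.classInner_zsmul_right, Coh.classInner_zsmul_right] at h1
  push_cast at h1
  rw [char_charDegree_cast (irr_isCharacter (h.mem_S hη).1),
    char_charDegree_cast (irr_isCharacter (h.mem_S hξ).1)] at h1
  linear_combination h1

theorem Setup.delta_prop (h : Setup K N S star) {χ ξ : N → ℂ} (hχ : χ ∈ S) (hξ : ξ ∈ S)
    (x : N) : ξ 1 * (star χ x - χ x) = χ 1 * (star ξ x - ξ x) := by
  have hα := h.alpha_mem hχ hξ
  have h1 := h.star_eq hα x
  have hχz : χ ∈ zspan S := zspan_subset hχ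
  have hξz : ξ ∈ zspan S := zspan_subset hξ
  obtain ⟨hadd, hsmul, -, -⟩ := h.hstar
  rw [hadd _ (zspan_smul_mem _ hχz) _ (zspan_smul_mem _ hξz), hsmul χ hχz, hsmul ξ hξz] at h1
  rw [Pi.add_apply, Pi.add_apply, Pi.smul_apply, Pi.smul_apply, Pi.smul_apply, Pi.smul_apply] at h1
  simp only [zsmul_eq_mul] at h1
  push_cast at h1
  rw [char_charDegree_cast (irr_isCharacter (h.mem_S hχ).1),
    char_charDegree_cast (irr_isCharacter (h.mem_S hξ).1)] at h1
  linear_combination h1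

/-- On `K` minus the identity, `star χ - χ` is a constant rational integer. -/
theorem Setup.int_delta (h : Setup K N S star) {χ : N → ℂ} (hχ : χ ∈ S) :
    ∃ m : ℤ, ∀ k : N, (k : G) ∈ K → k ≠ 1 → star χ k - χ k = m := by
  classical
  haveI := h.normal
  haveI : Fintype (K.subgroupOf N) := Fintype.ofFinite _
  have hχ' := h.mem_S hχ
  set F : N → ℂ := (fun n : N => star χ n) - χ with hF
  have hχz : χ ∈ zspan S := zspan_subset hχ
  have hgc := h.hstar.2.2.2 χ hχz
  have hFcl : IsClassFunction N F := by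
    apply isClassFunction_sub
    · intro g k
      show star χ ((k * g * k⁻¹ : N) : G) = star χ (g : G)
      rw [Subgroup.coe_mul, Subgroup.coe_mul, Subgroup.coe_inv]
      exact gc_isClassFunction hgc _ _
    · exact char_isClassFunction (irr_isCharacter hχ'.1)
  obtain ⟨x, hx1, hx2⟩ := const_on_K (K.subgroupOf N) h.cent hFcl
    (h.hprop (fun α hα => h.delta_orth hχ hα)) hχ'
  have hFgc : IsGeneralizedCharacter (K.subgroupOf N) (fun k : K.subgroupOf N => F k) := by
    obtain ⟨a, b, ha, hb, hab⟩ := hgc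
    have h1 : IsGeneralizedCharacter (K.subgroupOf N)
        (fun k : K.subgroupOf N => star χ ((k : N) : G)) := by
      refine ⟨fun k => a ((k : N) : G), fun k => b ((k : N) : G), ?_, ?_, ?_⟩
      · exact Cfsg.Agent.helper12.isCharacter_restrict (K.subgroupOf N)
          (Cfsg.Agent.helper12.isCharacter_restrict N ha)
      · exact Cfsg.Agent.helper12.isCharacter_restrict (K.subgroupOf N)
          (Cfsg.Agent.helper12.isCharacter_restrict N hb)
      · funext k; rw [hab]; rfl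
    have h2 : IsGeneralizedCharacter (K.subgroupOf N) (fun k : K.subgroupOf N => χ k) :=
      Coh.gc_of_char (Cfsg.Agent.helper12.isCharacter_restrict _ (irr_isCharacter hχ'.1))
    exact Coh.gc_sub h1 h2
  obtain ⟨φ₀, hφ₀, hne₀, -⟩ := rel_induced _ h.cent hχ'
  have hxint : ∃ z : ℤ, x = z := by
    apply int_of_mul_degree x _ hφ₀ hne₀
    intro φ hφ hne
    obtain ⟨z, hz⟩ := virt_inner_int hFgc (Coh.gc_of_char (irr_isCharacter hφ))
    exact ⟨z, by rw [← hx1 φ hφ hne, hz]⟩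
  obtain ⟨z, hz⟩ := hxint
  obtain ⟨z1, hz1⟩ := virt_inner_int hFgc
    (Coh.gc_of_char (irr_isCharacter (isIrrCharacter_one (G := K.subgroupOf N))))
  refine ⟨z1 - z, ?_⟩
  intro k hk hk1
  have h3 := hx2 k (Subgroup.mem_subgroupOf.mpr hk) hk1
  have hFk : F k = star χ k - χ k := rfl
  rw [← hFk, h3, hz1, hz]
  push_cast
  rfl

/-- The conclusion of the statement on the restriction of exceptional characters. -/
theorem Setup.main853 (h : Setup K N S star) (hne : ∃ χ, χ ∈ S) :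
    ∃ m : ℤ, ∀ χ ∈ S, ∀ k : N, (k : G) ∈ K → k ≠ 1 →
      star χ k - χ k = (m : ℂ) * χ 1 / ((K.subgroupOf N).index : ℂ) := by
  classical
  haveI := h.normal
  obtain ⟨χ₀, hχ₀⟩ := hne
  have hχ₀' := h.mem_S hχ₀
  obtain ⟨φ₀, hφ₀, hne₀, hχφ₀⟩ := rel_induced _ h.cent hχ₀'
  obtain ⟨m₀, hm₀⟩ := h.int_delta hχ₀
  obtain ⟨-, k₀, hk₀, hk₀ne⟩ := hχ₀'
  have hk₀1 : k₀ ≠ 1 := by rintro rfl; exact hk₀ne rfl
  have hk₀K : (k₀ : G) ∈ K := Subgroup.mem_subgroupOf.mp hk₀
  have he0 : ((K.subgroupOf N).index : ℂ) ≠ 0 := by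
    exact_mod_cast (Subgroup.index_ne_zero_of_finite (H := K.subgroupOf N))
  have hφ₀1 : φ₀ 1 ≠ 0 := irr_apply_one_ne_zero hφ₀
  have hχ₀1 : χ₀ 1 = ((K.subgroupOf N).index : ℂ) * φ₀ 1 := by
    rw [hχφ₀, Cfsg.Agent.helper5.indFun_one]
  have hx : ∃ z : ℤ, (m₀ : ℂ) / φ₀ 1 = z := by
    apply int_of_mul_degree _ _ hφ₀ hne₀
    intro φ hφ hne
    have hη := ind_mem_rel _ h.cent hφ hne
    rw [← h.hS] at hη
    obtain ⟨mη, hmη⟩ := h.int_delta hη
    refine ⟨mη, ?_⟩
    have h1 := h.delta_prop hχ₀ hη k₀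
    rw [hm₀ k₀ hk₀K hk₀1, hmη k₀ hk₀K hk₀1, hχ₀1, Cfsg.Agent.helper5.indFun_one] at h1
    rw [div_mul_eq_mul_div, div_eq_iff hφ₀1]
    apply mul_left_cancel₀ he0
    linear_combination h1
  obtain ⟨m, hm⟩ := hx
  refine ⟨m, ?_⟩
  intro χ hχ k hk hk1
  have h1 := h.delta_prop hχ₀ hχ k
  rw [hm₀ k hk hk1, hχ₀1] at h1
  have h2 : star χ k - χ k = χ 1 * m₀ / (((K.subgroupOf N).index : ℂ) * φ₀ 1) := by
    rw [eq_div_iff (mul_ne_zero he0 hφ₀1)]
    linear_combination (-1 : ℂ) * h1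
  rw [h2, ← hm]
  field_simp

/-- With at least two exceptional characters, `star χ` is not constant on `K` minus the
identity. -/
theorem Setup.nonconst (h : Setup K N S star) (htwo : ∃ χ ∈ S, ∃ ξ ∈ S, χ ≠ ξ)
    {χ : N → ℂ} (hχ : χ ∈ S) :
    ∃ a ∈ K, ∃ b ∈ K, a ≠ 1 ∧ b ≠ 1 ∧ star χ a ≠ star χ b := by
  classical
  haveI := h.normal
  haveI : Fintype (K.subgroupOf N) := Fintype.ofFinite _
  by_contra hcon
  push Not at hcon
  have hKN : K ≤ N := by rw [h.hN]; exact Subgroup.le_normalizer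
  obtain ⟨m, hm⟩ := h.int_delta hχ
  have hχ' := h.mem_S hχ
  obtain ⟨hχirr, k₀, hk₀, hk₀ne⟩ := hχ'
  have hk₀1 : k₀ ≠ 1 := by rintro rfl; exact hk₀ne rfl
  have hk₀K : (k₀ : G) ∈ K := Subgroup.mem_subgroupOf.mp hk₀
  -- χ is constant on K minus the identity
  have hconst : ∀ k : N, (k : G) ∈ K → k ≠ 1 → χ k = χ k₀ := by
    intro k hk hk1
    have e1 := hm k hk hk1
    have e2 := hm k₀ hk₀K hk₀1
    have e3 := hcon (k : G) hk (k₀ : G) hk₀K
      (fun h' => hk1 (Subtype.ext h')) (fun h' => hk₀1 (Subtype.ext h'))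
    linear_combination e3 - e1 + e2
  -- another member of S
  obtain ⟨ξ, hξ, hξχ⟩ : ∃ ξ ∈ S, ξ ≠ χ := by
    obtain ⟨χ₁, h1, χ₂, h2, h12⟩ := htwo
    by_cases hc : χ₁ = χ
    · exact ⟨χ₂, h2, fun h' => h12 (hc.trans h'.symm)⟩
    · exact ⟨χ₁, h1, hc⟩
  have hξ' := h.mem_S hξ
  obtain ⟨θ, hθ, hθne, hξθ⟩ := rel_induced _ h.cent hξ'
  have h0 : classInner ξ χ = 0 := irr_classInner_ne hξ'.1 hχirr hξχ
  rw [hξθ, frobenius (K.subgroupOf N) θ χ (char_isClassFunction (irr_isCharacter hχirr))] at h0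
  have h1 : classInner θ (fun _ : K.subgroupOf N => (1 : ℂ)) = 0 :=
    irr_classInner_ne hθ isIrrCharacter_one hθne
  have hcard : (Nat.card (K.subgroupOf N) : ℂ)⁻¹ ≠ 0 := by
    apply inv_ne_zero
    exact_mod_cast (Nat.card_pos (α := K.subgroupOf N)).ne'
  unfold classInner at h0 h1
  have h0' := (mul_eq_zero.mp h0).resolve_left hcard
  have h1' := (mul_eq_zero.mp h1).resolve_left hcard
  simp only [map_one, mul_one] at h1'
  have h2 : ∑ k : K.subgroupOf N, θ k * (conj (χ k) - conj (χ k₀)) = 0 := by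
    simp only [mul_sub, Finset.sum_sub_distrib, ← Finset.sum_mul]
    rw [h0', h1', zero_mul, sub_zero]
  rw [Finset.sum_eq_single (1 : K.subgroupOf N)] at h2
  · have hθ1 : θ 1 ≠ 0 := irr_apply_one_ne_zero hθ
    have h3 := (mul_eq_zero.mp h2).resolve_left hθ1
    apply hk₀ne
    have h4 : conj (χ ((1 : K.subgroupOf N) : N)) = conj (χ k₀) := sub_eq_zero.mp h3
    have h5 := (starRingEnd ℂ).injective h4
    rw [← h5]
    rfl
  · intro k _ hk1
    have : χ (k : N) = χ k₀ := by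
      apply hconst (k : N) (Subgroup.mem_subgroupOf.mp k.2)
      intro h'
      exact hk1 (Subtype.ext h')
    rw [this, sub_self, mul_zero]
  · intro h'
    exact absurd (Finset.mem_univ _) h'

/-- A class function of `G` orthogonal to every `star χ` is constant on `K` minus the identity. -/
theorem Setup.const_of_orth (h : Setup K N S star) (hne : ∃ χ, χ ∈ S) {ψ : G → ℂ}
    (hψcl : IsClassFunction G ψ) (horth : ∀ χ ∈ S, classInner ψ (star χ) = 0) :
    ∀ a ∈ K, ∀ b ∈ K, a ≠ 1 → b ≠ 1 → ψ a = ψ b := by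
  classical
  haveI := h.normal
  haveI : Fintype (K.subgroupOf N) := Fintype.ofFinite _
  obtain ⟨hadd, hsmul, -, -⟩ := h.hstar
  have hstar0 : star 0 = 0 := by
    have h0 : (0 : N → ℂ) ∈ zspan S := Submodule.zero_mem (Submodule.span ℤ S)
    have := hsmul 0 h0 0
    rwa [zero_smul, zero_smul] at this
  have step1 : ∀ α ∈ Submodule.span ℤ S, classInner ψ (star α) = 0 := by
    intro α hα
    induction hα using Submodule.span_induction with
    | mem χ hχ => exact horth χ hχ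
    | zero => rw [hstar0, classInner_zero_right]
    | add a b ha hb iha ihb =>
      rw [hadd a ha b hb, classInner_add_right, iha, ihb, add_zero]
    | smul n a ha iha =>
      rw [hsmul a ha n, Coh.classInner_zsmul_right, iha, mul_zero]
  have step2 : ∀ α ∈ zspanOn S ({1}ᶜ : Set N), classInner (fun n : N => ψ n) α = 0 := by
    intro α hα
    rw [← h.inner_star hψcl hα]
    exact step1 α hα.1
  have hFcl : IsClassFunction N (fun n : N => ψ n) := by
    intro g k
    show ψ ((k * g * k⁻¹ : N) : G) = ψ (g : G)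
    rw [Subgroup.coe_mul, Subgroup.coe_mul, Subgroup.coe_inv]
    exact hψcl _ _
  obtain ⟨χ₀, hχ₀⟩ := hne
  obtain ⟨x, -, hx2⟩ := const_on_K (K.subgroupOf N) h.cent hFcl (h.hprop step2) (h.mem_S hχ₀)
  have hKN : K ≤ N := by rw [h.hN]; exact Subgroup.le_normalizer
  intro a ha b hb ha1 hb1
  have e1 := hx2 ⟨a, hKN ha⟩ (Subgroup.mem_subgroupOf.mpr ha) (fun h' => ha1 (congrArg Subtype.val h'))
  have e2 := hx2 ⟨b, hKN hb⟩ (Subgroup.mem_subgroupOf.mpr hb) (fun h' => hb1 (congrArg Subtype.val h'))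
  exact e1.trans e2.symm

end Cfsg.Agent.helper8.TIFN
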