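import Mathlib
import Cfsg.Agent.S0120
import Cfsg.Agent.S0946

set_option autoImplicit false

/-! Coprime automorphisms of `p`-groups: the minimal configuration has exponent `p` (or `4`). -/

namespace Cfsg.Agent.helper9

open scoped commutatorElement
open Cfsg.Agent.helper1 Cfsg.Agent.S0120 Cfsg.Agent.S0946

universe u

/-- A coprime automorphism of a finite `p`-group fixing pointwise every proper invariant subgroup is
trivial, unless the group has exponent `p` (exponent dividing `4` for `p = 2`). -/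
theorem aut_trivial_or_exponent {G : Type u} [Group G] [Finite G] {p : ℕ} [hp : Fact p.Prime]
    (hG : IsPGroup p G) (a : MulAut G) (k : ℕ) (hk : Nat.Coprime k p) (hak : a ^ k = 1)
    (hA : ∀ H : Subgroup G, H ≠ ⊤ → (∀ x ∈ H, a x ∈ H) → ∀ x ∈ H, a x = x) :
    (∀ x : G, a x = x) ∨ (∀ x : G, x ^ p = 1 ∨ (p = 2 ∧ x ^ 4 = 1)) := by
  obtain ⟨D, hD⟩ : ∃ D : Subgroup G, D = Subgroup.closure {d : G | ∃ x : G, d = x⁻¹ * a x} :=
    ⟨_, rfl⟩
  have hDgen : ∀ x : G, x⁻¹ * a x ∈ D := fun x => hD ▸ Subgroup.subset_closure ⟨x, rfl⟩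
  have hDinv : ∀ x ∈ D, a x ∈ D := by
    have h1 : D ≤ D.comap a.toMonoidHom := by
      rw [hD, Subgroup.closure_le]
      rintro d ⟨x, rfl⟩
      rw [← hD]
      show a (x⁻¹ * a x) ∈ D
      rw [map_mul, map_inv]
      exact hDgen (a x)
    exact fun x hx => h1 hx
  by_cases hDtop : D = ⊤
  swap
  · left
    intro x
    have h1 := hA D hDtop hDinv _ (hDgen x)
    exact fixed_of_comm_fixed hG a k hk hak x h1
  by_cases hsub : Subsingleton G
  · left
    intro x
    exact Subsingleton.elim _ _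
  rw [not_subsingleton_iff_nontrivial] at hsub
  have hΦtop : frattini G ≠ ⊤ := by
    obtain ⟨M, hM⟩ := (eq_top_or_exists_le_coatom (⊥ : Subgroup G)).resolve_left bot_ne_top
    intro h
    have := frattini_le_coatom hM.1
    rw [h, top_le_iff] at this
    exact hM.1.1 this
  have hΦinv : ∀ z ∈ frattini G, a z ∈ frattini G := by
    intro z hz
    have := (frattini_characteristic (G := G)).fixed a
    rw [← this] at hz
    exact hz
  have hΦfix := hA (frattini G) hΦtop hΦinv
  have hΦcent : ∀ z ∈ frattini G, ∀ y : G, z * y = y * z := by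
    have h1 : D ≤ Subgroup.centralizer ((frattini G : Subgroup G) : Set G) := by
      rw [hD, Subgroup.closure_le]
      rintro d ⟨y, rfl⟩
      rw [SetLike.mem_coe, Subgroup.mem_centralizer_iff]
      intro z hz
      have h2 : y * z * y⁻¹ ∈ frattini G :=
        (inferInstance : (frattini G).Normal).conj_mem z hz y
      have h3 := hΦfix _ h2
      rw [map_mul, map_mul, map_inv, hΦfix z hz] at h3
      calc z * (y⁻¹ * a y) = y⁻¹ * (y * z * y⁻¹) * a y := by group
        _ = y⁻¹ * (a y * z * (a y)⁻¹) * a y := by rw [h3]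
        _ = y⁻¹ * a y * z := by group
    intro z hz y
    have h2 : y ∈ Subgroup.centralizer ((frattini G : Subgroup G) : Set G) :=
      h1 (hDtop ▸ Subgroup.mem_top y)
    rw [Subgroup.mem_centralizer_iff] at h2
    exact h2 z hz
  -- commutator data for a pair
  have hpair : ∀ x d : G, ∃ c : G, d * x = x * d * c ∧ Commute c x ∧ Commute c d ∧ c ^ p = 1 := by
    intro x d
    have hcΦ : ⁅d⁻¹, x⁻¹⁆ ∈ frattini G := by
      apply commutator_le_frattini_of_isPGroup hG
      rw [commutator_def]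
      exact Subgroup.commutator_mem_commutator (Subgroup.mem_top _) (Subgroup.mem_top _)
    have hcx : Commute ⁅d⁻¹, x⁻¹⁆ x := hΦcent _ hcΦ x
    have hdx : d * x = x * d * ⁅d⁻¹, x⁻¹⁆ := by
      rw [commutatorElement_def]; group
    refine ⟨_, hdx, hcx, hΦcent _ hcΦ d, ?_⟩
    have hxpΦ : x ^ p ∈ frattini G := pow_mem_frattini_of_isPGroup hG x
    have h1 := mul_pow_comm_class2 x d _ hdx hcx p
    have h2 : d * x ^ p = x ^ p * d := (hΦcent _ hxpΦ d).symm
    rw [h2] at h1
    have h3 : x ^ p * d * 1 = x ^ p * d * ⁅d⁻¹, x⁻¹⁆ ^ p := by rw [mul_one]; exact h1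
    exact (mul_left_cancel h3).symm
  by_cases hp2 : p = 2
  · -- the case `p = 2`
    subst hp2
    have hsq : ∀ x d : G, ∃ c : G, c ^ 2 = 1 ∧ (x * d) ^ 2 = x ^ 2 * d ^ 2 * c ∧
        (x * d) ^ 4 = x ^ 4 * d ^ 4 := by
      intro x d
      obtain ⟨c, hdx, hcx, hcd, hc2⟩ := hpair x d
      refine ⟨c, hc2, ?_, ?_⟩
      · have h1 := mul_pow_class2 x d c hdx hcx hcd 2
        rw [h1]
        simp [Finset.sum_range_succ]
      · have h1 := mul_pow_class2 x d c hdx hcx hcd 4
        rw [h1]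
        have h6 : c ^ (∑ i ∈ Finset.range 4, i) = 1 := by
          have : (∑ i ∈ Finset.range 4, i) = 2 * 3 := by decide
          rw [this, pow_mul, hc2, one_pow]
        rw [h6, mul_one]
    obtain ⟨Ω, hΩ⟩ : ∃ Ω : Subgroup G, ∀ x, x ∈ Ω ↔ x ^ 4 = 1 :=
      ⟨{ carrier := {x | x ^ 4 = 1}
         mul_mem' := by
          intro x d hx hd
          obtain ⟨c, _, _, h4⟩ := hsq x d
          show (x * d) ^ 4 = 1
          rw [h4, hx, hd, one_mul]
         one_mem' := one_pow 4
         inv_mem' := by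
          intro x hx
          show x⁻¹ ^ 4 = 1
          rw [inv_pow, hx, inv_one] }, fun x => Iff.rfl⟩
    by_cases hΩtop : Ω = ⊤
    · right
      intro x
      right
      exact ⟨rfl, (hΩ x).mp (hΩtop ▸ Subgroup.mem_top x)⟩
    · left
      have hΩfix := hA Ω hΩtop (fun x hx => by
        rw [hΩ] at hx ⊢
        rw [← map_pow, hx, map_one])
      intro x
      obtain ⟨c, hc2, h2, _⟩ := hsq x (x⁻¹ * a x)
      have hax : a x = x * (x⁻¹ * a x) := by group
      have hx2Φ : x ^ 2 ∈ frattini G := pow_mem_frattini_of_isPGroup hG x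
      rw [← hax, ← map_pow, hΦfix _ hx2Φ] at h2
      have h3 : (x⁻¹ * a x) ^ 2 * c = 1 := by
        have : x ^ 2 * 1 = x ^ 2 * ((x⁻¹ * a x) ^ 2 * c) := by
          rw [mul_one, ← mul_assoc]; exact h2
        exact (mul_left_cancel this).symm
      have h4 : (x⁻¹ * a x) ^ 4 = 1 := by
        have h5 : (x⁻¹ * a x) ^ 2 = c⁻¹ := eq_inv_of_mul_eq_one_left h3
        have : (x⁻¹ * a x) ^ 4 = ((x⁻¹ * a x) ^ 2) ^ 2 := by rw [← pow_mul]
        rw [this, h5, inv_pow, hc2, inv_one]
      exact fixed_of_comm_fixed hG a k hk hak x (hΩfix _ ((hΩ _).mpr h4))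
  · -- odd `p`
    have hsum : ∀ c : G, c ^ p = 1 → c ^ (∑ i ∈ Finset.range p, i) = 1 := by
      intro c hcp
      have h1 : p ∣ ∑ i ∈ Finset.range p, i := by
        have h2 := Finset.sum_range_id_mul_two p
        have h3 : p ∣ (∑ i ∈ Finset.range p, i) * 2 := by rw [h2]; exact Dvd.intro _ rfl
        have h4 : Nat.Coprime p 2 := (Nat.coprime_primes hp.out Nat.prime_two).mpr hp2
        exact h4.dvd_of_dvd_mul_right h3
      obtain ⟨t, ht⟩ := h1
      rw [ht, pow_mul, hcp, one_pow]
    obtain ⟨Ω, hΩ⟩ : ∃ Ω : Subgroup G, ∀ x, x ∈ Ω ↔ x ^ p = 1 :=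
      ⟨{ carrier := {x | x ^ p = 1}
         mul_mem' := by
          intro x d hx hd
          obtain ⟨c, hdx, hcx, hcd, hcp⟩ := hpair x d
          show (x * d) ^ p = 1
          rw [mul_pow_class2 x d c hdx hcx hcd p, hsum c hcp, hx, hd, one_mul, one_mul]
         one_mem' := one_pow p
         inv_mem' := by
          intro x hx
          show x⁻¹ ^ p = 1
          rw [inv_pow, hx, inv_one] }, fun x => Iff.rfl⟩
    by_cases hΩtop : Ω = ⊤
    · right
      intro x
      left
      exact (hΩ x).mp (hΩtop ▸ Subgroup.mem_top x)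
    · left
      have hΩfix := hA Ω hΩtop (fun x hx => by
        rw [hΩ] at hx ⊢
        rw [← map_pow, hx, map_one])
      exact Cfsg.Agent.S0120.main p hp2 _ G rfl hG a k hk hak
        (fun x hx => hΩfix x ((hΩ x).mpr hx))

/-- Reduction of Frobenius' condition to `p`-subgroups of exponent `p` (dividing `4` if `p = 2`). -/
theorem centralizes_of_minimal {G : Type u} [Group G] [Finite G] {p : ℕ} [hp : Fact p.Prime]
    (C : Subgroup G → Prop) (hCsub : ∀ Q R : Subgroup G, R ≤ Q → C Q → C R)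
    (hstep : ∀ Q : Subgroup G, C Q → IsPGroup p Q →
      (∀ x ∈ Q, x ^ p = 1 ∨ (p = 2 ∧ x ^ 4 = 1)) →
      ∀ g ∈ Subgroup.normalizer (Q : Set G), Nat.Coprime (orderOf g) p →
        g ∈ Subgroup.centralizer (Q : Set G)) :
    ∀ (m : ℕ) (Q : Subgroup G), Nat.card Q = m → C Q → IsPGroup p Q →
      ∀ g ∈ Subgroup.normalizer (Q : Set G), Nat.Coprime (orderOf g) p →
        g ∈ Subgroup.centralizer (Q : Set G) := by
  intro m
  induction m using Nat.strong_induction_on with
  | _ m ih =>
  intro Q hm hCQ hQ g hg hcop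
  obtain ⟨α, hα⟩ : ∃ α : MulAut ↥Q, α = conjAut Q g hg := ⟨_, rfl⟩
  have hαk : α ^ (orderOf g) = 1 := by
    ext x
    rw [hα, conjAut_pow, pow_orderOf_eq_one]
    simp
  have hA : ∀ H : Subgroup ↥Q, H ≠ ⊤ → (∀ x ∈ H, α x ∈ H) → ∀ x ∈ H, α x = x := by
    intro H hH h1 x hx
    have hk0 : orderOf g ≠ 0 := (orderOf_pos g).ne'
    have h2 := symm_mem_of_invariant α (orderOf g) hk0 hαk H h1
    have hRQ : H.map Q.subtype ≤ Q := by
      rintro _ ⟨y, _, rfl⟩
      exact y.2
    have hRcard : Nat.card (H.map Q.subtype) < m := by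
      rw [Subgroup.card_map_of_injective Q.subtype_injective, ← hm]
      exact lt_of_le_of_ne (Subgroup.card_le_card_group H)
        (fun h => hH (Subgroup.eq_top_of_card_eq H h))
    have hgR : g ∈ Subgroup.normalizer ((H.map Q.subtype : Subgroup G) : Set G) := by
      rw [Subgroup.mem_normalizer_iff]
      intro y
      constructor
      · rintro ⟨z, hz, rfl⟩
        exact ⟨α z, h1 z hz, by rw [hα]; rfl⟩
      · rintro ⟨z, hz, hzy⟩
        refine ⟨α.symm z, h2 z hz, ?_⟩
        have h3 : ((α.symm z : ↥Q) : G) = g⁻¹ * (z : G) * g := by rw [hα]; rfl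
        have h4 : (z : G) = g * y * g⁻¹ := hzy
        rw [Subgroup.coe_subtype, h3, h4]
        group
    have hcent := ih _ hRcard (H.map Q.subtype) rfl (hCsub Q _ hRQ hCQ) (hQ.to_le hRQ) g hgR hcop
    rw [Subgroup.mem_centralizer_iff] at hcent
    have h3 := hcent (x : G) ⟨x, hx, rfl⟩
    apply Subtype.ext
    rw [hα, conjAut_apply, ← h3]
    group
  rcases aut_trivial_or_exponent hQ α (orderOf g) hcop hαk hA with h | h
  · rw [Subgroup.mem_centralizer_iff]
    intro x hx
    have h1 := congrArg (fun z : ↥Q => (z : G)) (h ⟨x, hx⟩)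
    rw [hα] at h1
    simp only [conjAut_apply] at h1
    calc x * g = (g * x * g⁻¹) * g := by rw [h1]
      _ = g * x := by group
  · apply hstep Q hCQ hQ _ g hg hcop
    intro x hx
    rcases h ⟨x, hx⟩ with h1 | ⟨h1, h2⟩
    · left
      have := congrArg (fun z : ↥Q => (z : G)) h1
      simpa using this
    · right
      refine ⟨h1, ?_⟩
      have := congrArg (fun z : ↥Q => (z : G)) h2
      simpa using this

end Cfsg.Agent.helper9
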