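import Mathlib
import Cfsg.Agent.Lib_lead_Wielandt

set_option autoImplicit false

/-!
Generalised zipper lemma (Flavell's generation theorem), part A: normal closures inside
subgroups, the family of `A`-generated proper subgroups and its join, transport under
conjugation, relative form of Flavell's normalizer lemma.
-/

namespace Cfsg.Agent.helper9.WZ

open Cfsg.Agent.helper7 Cfsg.Agent.lead

universe u

variable {G : Type u} [Group G]

/-- join of the `H`-conjugates of `A` -/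
def ncl (A H : Subgroup G) : Subgroup G := sSup {B | ∃ h ∈ H, B = cj h A}

theorem cj_le_ncl {A H : Subgroup G} {h : G} (hh : h ∈ H) : cj h A ≤ ncl A H :=
  le_sSup ⟨h, hh, rfl⟩

theorem le_ncl_self (A H : Subgroup G) : A ≤ ncl A H := by
  have := cj_le_ncl (A := A) (H := H) (h := 1) H.one_mem
  rwa [cj_one] at this

theorem cj_eq_self_of_mem {H : Subgroup G} {h : G} (hh : h ∈ H) : cj h H = H :=
  cj_eq_of_mem_normalizer (Subgroup.le_normalizer hh)

theorem ncl_le {A H : Subgroup G} (hAH : A ≤ H) : ncl A H ≤ H := by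
  apply sSup_le
  rintro B ⟨h, hh, rfl⟩
  calc cj h A ≤ cj h H := cj_mono hAH
    _ = H := cj_eq_self_of_mem hh

theorem ncl_mono_right (A : Subgroup G) {H H' : Subgroup G} (h : H ≤ H') : ncl A H ≤ ncl A H' := by
  apply sSup_le
  rintro B ⟨x, hx, rfl⟩
  exact cj_le_ncl (h hx)

theorem cj_ncl_le (g : G) (A H : Subgroup G) : cj g (ncl A H) ≤ ncl (cj g A) (cj g H) := by
  rw [cj_le_iff]
  apply sSup_le
  rintro B ⟨h, hh, rfl⟩
  rw [← cj_le_iff]
  have e : cj g (cj h A) = cj (g * h * g⁻¹) (cj g A) := by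
    rw [cj_cj, cj_cj]
    congr 1
    group
  rw [e]
  exact cj_le_ncl (cj_mem_cj hh)

theorem le_normalizer_ncl [Finite G] (A H : Subgroup G) :
    H ≤ Subgroup.normalizer ((ncl A H : Subgroup G) : Set G) := by
  intro k hk
  apply mem_normalizer_sSup
  rintro L ⟨h, hh, rfl⟩
  exact ⟨k * h, H.mul_mem hk hh, cj_cj k h A⟩

/-- the family of proper `A`-generated subgroups containing `A` -/
def Fam (A : Subgroup G) : Set (Subgroup G) := {H | A ≤ H ∧ H ≠ ⊤ ∧ H ≤ ncl A H}

/-- its join -/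
def YY (A : Subgroup G) : Subgroup G := sSup (Fam A)

theorem self_mem_Fam {A : Subgroup G} (hA : A ≠ ⊤) : A ∈ Fam A :=
  ⟨le_rfl, hA, le_ncl_self A A⟩

theorem self_le_YY {A : Subgroup G} (hA : A ≠ ⊤) : A ≤ YY A := le_sSup (self_mem_Fam hA)

theorem YY_le_ncl (A : Subgroup G) : YY A ≤ ncl A (YY A) := by
  apply sSup_le
  rintro H hH
  exact hH.2.2.trans (ncl_mono_right A (le_sSup hH))

theorem cj_top (g : G) : cj g (⊤ : Subgroup G) = ⊤ := by
  ext x; rw [mem_cj]; simp

theorem cj_ne_top {g : G} {H : Subgroup G} (h : H ≠ ⊤) : cj g H ≠ ⊤ := by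
  intro e
  apply h
  have := congrArg (cj g⁻¹) e
  rwa [cj_inv_cj, cj_top] at this

theorem cj_mem_Fam {A H : Subgroup G} (g : G) (h : H ∈ Fam A) : cj g H ∈ Fam (cj g A) := by
  obtain ⟨h1, h2, h3⟩ := h
  exact ⟨cj_mono h1, cj_ne_top h2, (cj_mono h3).trans (cj_ncl_le g A H)⟩

theorem cj_YY_le (g : G) (A : Subgroup G) : cj g (YY A) ≤ YY (cj g A) := by
  rw [cj_le_iff]
  apply sSup_le
  intro H hH
  rw [← cj_le_iff]
  exact le_sSup (cj_mem_Fam g hH)

theorem YY_cj (g : G) (A : Subgroup G) : YY (cj g A) = cj g (YY A) := by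
  apply le_antisymm _ (cj_YY_le g A)
  have := cj_YY_le g⁻¹ (cj g A)
  rw [cj_inv_cj] at this
  have := cj_mono (g := g) this
  rwa [cj_cj_inv] at this

/-- generation is transitive -/
theorem le_ncl_trans [Finite G] {A S L : Subgroup G} (hS : S ≤ ncl A S) (hSL : S ≤ L)
    (hL : L ≤ ncl S L) : L ≤ ncl A L := by
  refine hL.trans ?_
  apply sSup_le
  rintro B ⟨l, hl, rfl⟩
  have h1 : S ≤ ncl A L := hS.trans (ncl_mono_right A hSL)
  calc cj l S ≤ cj l (ncl A L) := cj_mono h1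
    _ = ncl A L := cj_eq_of_mem_normalizer (le_normalizer_ncl A L hl)

theorem Fam_subset [Finite G] {A S : Subgroup G} (hAS : A ≤ S) (hS : S ≤ ncl A S) :
    Fam S ⊆ Fam A := by
  rintro L ⟨h1, h2, h3⟩
  exact ⟨hAS.trans h1, h2, le_ncl_trans hS h1 h3⟩

theorem YY_mono [Finite G] {A S : Subgroup G} (hAS : A ≤ S) (hS : S ≤ ncl A S) : YY S ≤ YY A :=
  sSup_le_sSup (Fam_subset hAS hS)

/-- subnormal closure: a subnormal `A`-generated subgroup between `A` and `X` -/
theorem exists_closure [Finite G] (A : Subgroup G) : ∀ (n : ℕ) (X : Subgroup G), Nat.card X = n →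
    A ≤ X → ∃ S : Subgroup G, A ≤ S ∧ S ≤ X ∧ SN S X ∧ S ≤ ncl A S := by
  intro n
  induction n using Nat.strong_induction_on with
  | _ n IH =>
    intro X hn hAX
    by_cases h : X ≤ ncl A X
    · exact ⟨X, hAX, le_rfl, SN.refl X, h⟩
    · have hle : ncl A X ≤ X := ncl_le hAX
      have hlt : Nat.card (ncl A X : Subgroup G) < n := by
        rw [← hn]
        refine lt_of_le_of_ne (Subgroup.card_le_of_le hle) ?_
        intro hc
        exact h (Subgroup.eq_of_le_of_card_ge hle hc.ge).ge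
      obtain ⟨S, h1, h2, h3, h4⟩ := IH _ hlt (ncl A X) rfl (le_ncl_self A X)
      exact ⟨S, h1, h2.trans hle, h3.trans (SN.of_normal hle (le_normalizer_ncl A X)), h4⟩

/-- a subnormal subgroup whose conjugates generate is everything -/
theorem eq_of_sn_of_le_ncl [Finite G] {T L : Subgroup G} (h : SN T L) (hL : L ≤ ncl T L) :
    T = L := by
  by_contra hne
  obtain ⟨N, h1, h2, h3, h4⟩ := h.exists_normal hne
  apply h4
  apply le_antisymm h2
  refine hL.trans ?_
  apply sSup_le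
  rintro B ⟨l, hl, rfl⟩
  calc cj l T ≤ cj l N := cj_mono h1
    _ = N := cj_eq_of_mem_normalizer (h3 hl)

theorem sn_bot (M : Subgroup G) : SN (⊥ : Subgroup G) M := by
  apply SN.of_normal bot_le
  intro x _
  rw [Subgroup.mem_normalizer_iff]
  intro y
  simp only [Subgroup.mem_bot]
  constructor
  · rintro rfl; group
  · intro h
    have : y = x⁻¹ * (x * y * x⁻¹) * x := by group
    rw [this, h]; group

theorem sn_sSup [Finite G] {M : Subgroup G} (T : Set (Subgroup G)) (hT : ∀ U ∈ T, SN U M) :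
    SN (sSup T) M := by
  have hfin : T.Finite := Set.toFinite T
  induction T, hfin using Set.Finite.induction_on with
  | empty => rw [sSup_empty]; exact sn_bot M
  | insert _ _ ih =>
    rw [sSup_insert]
    exact Cfsg.Agent.lead.SN.sup (hT _ (Set.mem_insert _ _))
      (ih fun U hU => hT U (Set.mem_insert_of_mem _ hU))

theorem exists_conj_of_sn' [Finite G] {S K : Subgroup G} (h : SN S K)
    (hn : ¬ K ≤ Subgroup.normalizer (S : Set G)) :
    ∃ x ∈ K, x ∉ Subgroup.normalizer (S : Set G) ∧ cj x S ≤ Subgroup.normalizer (S : Set G) := by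
  cases h with
  | refl => exact absurd Subgroup.le_normalizer hn
  | step _ K₁ _ h1 h2 h3 => exact exists_conj_le_normalizer h1 h2 h3 hn

/-- Flavell's normalizer lemma, relative to a subgroup `M`. -/
theorem flavell_rel [Finite G] (M : Subgroup G) (S S₀ : Set (Subgroup G))
    (hS : ∀ U ∈ S, SN U M) (hconj : ∀ U ∈ S, ∀ m ∈ M, cj m U ∈ S) (h₀ : S₀ ⊂ S) :
    ∃ X ∈ S, X ∉ S₀ ∧ X ≤ Subgroup.normalizer ((sSup S₀ : Subgroup G) : Set G) := by
  set J := sSup S₀ with hJ
  have hSN : SN J M := sn_sSup S₀ fun U hU => hS U (h₀.subset hU)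
  obtain ⟨X₁, hX₁S, hX₁⟩ := Set.exists_of_ssubset h₀
  by_cases hn : M ≤ Subgroup.normalizer (J : Set G)
  · exact ⟨X₁, hX₁S, hX₁, (hS X₁ hX₁S).le.trans hn⟩
  obtain ⟨x, hxM, hxJ, hxn⟩ := exists_conj_of_sn' hSN hn
  have hnot : ¬ cj x J ≤ J := by
    intro h
    apply hxJ
    apply mem_normalizer_of_cj_eq
    exact Subgroup.eq_of_le_of_card_ge h (by rw [card_cj])
  obtain ⟨X₀, hX₀, hX₀J⟩ : ∃ X₀ ∈ S₀, ¬ cj x X₀ ≤ J := by
    by_contra hcon
    push Not at hcon
    apply hnot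
    rw [cj_le_iff]
    apply sSup_le
    intro X₀ hX₀
    rw [← cj_le_iff]
    exact hcon X₀ hX₀
  refine ⟨cj x X₀, hconj X₀ (h₀.subset hX₀) x hxM, ?_, ?_⟩
  · intro hmem
    exact hX₀J (le_sSup hmem)
  · exact (cj_mono (le_sSup hX₀)).trans hxn

end Cfsg.Agent.helper9.WZ
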