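import Mathlib
import Cfsg.Agent.Lib_helper9_WZa

set_option autoImplicit false

/-!
Generalised zipper lemma (Flavell's generation theorem), part B: the inductive context and
the local lemmas about the special maximal subgroups `M_C`.
-/

namespace Cfsg.Agent.helper9.WZ

open Cfsg.Agent.helper7 Cfsg.Agent.lead

universe u

variable {G : Type u} [Group G]

/-- `A` lies in a unique maximal subgroup (weak form) -/
def Uniq (A : Subgroup G) : Prop :=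
  ∃ M : Subgroup G, M ≠ ⊤ ∧ ∀ X : Subgroup G, A ≤ X → X ≠ ⊤ → X ≤ M

/-- `M` is the unique maximal subgroup containing `YY C` -/
def Spec (C M : Subgroup G) : Prop :=
  M < ⊤ ∧ YY C ≤ M ∧ ∀ H : Subgroup G, YY C ≤ H → H < ⊤ → H ≤ M

/-- the inductive context of a minimal counterexample -/
structure Ctx (c : ℕ) (𝒞 : Set (Subgroup G)) : Prop where
  conj : ∀ C ∈ 𝒞, ∀ g : G, cj g C ∈ 𝒞
  card : ∀ C ∈ 𝒞, Nat.card C = c
  nclc : ∀ C ∈ 𝒞, ∀ N : Subgroup G, C ≤ N →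
    (⊤ : Subgroup G) ≤ Subgroup.normalizer (N : Set G) → N = ⊤
  ne_top : ∀ C ∈ 𝒞, C ≠ ⊤
  yy : ∀ C ∈ 𝒞, YY C ≠ ⊤
  nuniq : ∀ C ∈ 𝒞, ¬ Uniq C
  ih : ∀ T : Subgroup G, c < Nat.card T → (∃ C ∈ 𝒞, C ≤ T) → T ≠ ⊤ → YY T ≠ ⊤ → Uniq T

section

variable [Finite G] {c : ℕ} {𝒞 : Set (Subgroup G)}

theorem not_sn_top (hc : Ctx c 𝒞) {C S : Subgroup G} (hC : C ∈ 𝒞) (hCS : C ≤ S) (hS : S ≠ ⊤) :
    ¬ SN S ⊤ := by
  intro h
  obtain ⟨N, h1, _, h3, h4⟩ := h.exists_normal hS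
  exact h4 (hc.nclc C hC N (hCS.trans h1) h3)

theorem L_Ysn (hc : Ctx c 𝒞) {C : Subgroup G} (hC : C ∈ 𝒞) {H : Subgroup G} (hH : H ≠ ⊤)
    (hYH : YY C ≤ H) : SN (YY C) H := by
  obtain ⟨S, h1, h2, h3, h4⟩ := exists_closure (YY C) _ H rfl hYH
  have hCY : C ≤ YY C := self_le_YY (hc.ne_top C hC)
  have hSne : S ≠ ⊤ := by
    rintro rfl
    exact hH (top_le_iff.mp h2)
  have hS : S ∈ Fam C := ⟨hCY.trans h1, hSne, le_ncl_trans (YY_le_ncl C) h1 h4⟩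
  have : S = YY C := le_antisymm (le_sSup hS) h1
  rwa [this] at h3

theorem L_spec (hc : Ctx c 𝒞) {C : Subgroup G} (hC : C ∈ 𝒞) : ∃ M, Spec C M := by
  have hCY : C ≤ YY C := self_le_YY (hc.ne_top C hC)
  have hY := hc.yy C hC
  obtain ⟨M, h1, h2, h3⟩ := zipper _ ⊤ (YY C) rfl le_top
    (fun H hYH hH => L_Ysn hc hC hH.ne hYH) (not_sn_top hc hC hCY hY)
  exact ⟨M, h1, h2, h3⟩

theorem Spec_max {C M H : Subgroup G} (hs : Spec C M) (hMH : M ≤ H) (hH : H ≠ ⊤) : H = M :=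
  le_antisymm (hs.2.2 H (hs.2.1.trans hMH) (lt_top_iff_ne_top.mpr hH)) hMH

theorem C_le_M (hc : Ctx c 𝒞) {C M : Subgroup G} (hC : C ∈ 𝒞) (hs : Spec C M) : C ≤ M :=
  (self_le_YY (hc.ne_top C hC)).trans hs.2.1

theorem Spec_conj {C M : Subgroup G} (hs : Spec C M) (g : G) : Spec (cj g C) (cj g M) := by
  refine ⟨lt_top_iff_ne_top.mpr (cj_ne_top hs.1.ne), ?_, ?_⟩
  · rw [YY_cj]; exact cj_mono hs.2.1
  · intro H hYH hH
    rw [YY_cj, cj_le_iff] at hYH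
    have h1 : cj g⁻¹ H ≤ M := hs.2.2 _ hYH (lt_top_iff_ne_top.mpr (cj_ne_top hH.ne))
    have := cj_mono (g := g) h1
    rwa [cj_cj_inv] at this

theorem Spec_conj_mem {C M : Subgroup G} (hs : Spec C M) {m : G} (hm : m ∈ M) :
    Spec (cj m C) M := by
  have := Spec_conj hs m
  rwa [cj_eq_self_of_mem hm] at this

theorem L_norm (hc : Ctx c 𝒞) {C M : Subgroup G} (hC : C ∈ 𝒞) (hs : Spec C M) :
    Subgroup.normalizer (C : Set G) ≤ M := by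
  have h1 : Subgroup.normalizer (C : Set G) ≤
      Subgroup.normalizer ((YY C : Subgroup G) : Set G) := by
    intro g hg
    apply mem_normalizer_of_cj_eq
    rw [← YY_cj, cj_eq_of_mem_normalizer hg]
  have h2 : Subgroup.normalizer ((YY C : Subgroup G) : Set G) ≠ ⊤ := by
    intro h
    exact hc.yy C hC (hc.nclc C hC _ (self_le_YY (hc.ne_top C hC)) h.ge)
  exact h1.trans (hs.2.2 _ Subgroup.le_normalizer (lt_top_iff_ne_top.mpr h2))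

theorem L_step2 (hc : Ctx c 𝒞) {C M : Subgroup G} (hC : C ∈ 𝒞) (hs : Spec C M)
    {X : Subgroup G} (hX : X ≠ ⊤) (hCX : C ≤ X) (hXM : ¬ X ≤ M) : SN C X := by
  obtain ⟨S, h1, h2, h3, h4⟩ := exists_closure C _ X rfl hCX
  have hSne : S ≠ ⊤ := by
    rintro rfl
    exact hX (top_le_iff.mp h2)
  have hSF : S ∈ Fam C := ⟨h1, hSne, h4⟩
  have hSM : S ≤ M := (le_sSup hSF).trans hs.2.1
  by_cases hCS : C = S
  · rw [hCS]; exact h3
  · exfalso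
    have hcard : c < Nat.card S := by
      rw [← hc.card C hC]
      refine lt_of_le_of_ne (Subgroup.card_le_of_le h1) ?_
      intro h
      exact hCS (Subgroup.eq_of_le_of_card_ge h1 h.ge)
    have hYS : YY S ≠ ⊤ := by
      intro h
      have h5 : YY S ≤ M := (YY_mono h1 h4).trans hs.2.1
      rw [h] at h5
      exact hs.1.ne (top_le_iff.mp h5)
    obtain ⟨M', hM', hU⟩ := hc.ih S hcard ⟨C, hC, h1⟩ hSne hYS
    have hMM' : M ≤ M' := hU M hSM hs.1.ne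
    have h6 : M' = M := Spec_max hs hMM' hM'
    have h7 : X ≤ M' := hU X h2 hX
    rw [h6] at h7
    exact hXM h7

theorem L_nsn (hc : Ctx c 𝒞) {C M : Subgroup G} (hC : C ∈ 𝒞) (hs : Spec C M) : ¬ SN C M := by
  intro hsn
  have hprop : ∀ H : Subgroup G, C ≤ H → H < ⊤ → SN C H := by
    intro H hCH hH
    by_cases h : H ≤ M
    · exact hsn.of_le hCH h
    · exact L_step2 hc hC hs hH.ne hCH h
  obtain ⟨M₀, h1, _, h3⟩ := zipper _ ⊤ C rfl le_top hprop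
    (not_sn_top hc hC le_rfl (hc.ne_top C hC))
  exact hc.nuniq C hC ⟨M₀, h1.ne, fun X hCX hX => h3 X hCX (lt_top_iff_ne_top.mpr hX)⟩

theorem L_step3 (hc : Ctx c 𝒞) {C M : Subgroup G} (hC : C ∈ 𝒞) (hs : Spec C M)
    {B : Subgroup G} (hBM : B ≤ M) (hBC : ¬ B ≤ C)
    (hyp : ∀ X : Subgroup G, X ≠ ⊤ → C ≤ X → B ≤ X → ¬ X ≤ M → SN B X) :
    ∀ X : Subgroup G, X ≠ ⊤ → C ≤ X → B ≤ X → X ≤ M := by
  intro X hX hCX hBX
  by_contra hXM
  have hCM : C ≤ M := C_le_M hc hC hs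
  have hTM : C ⊔ B ≤ M := sup_le hCM hBM
  have hTne : C ⊔ B ≠ ⊤ := by
    intro h
    rw [h] at hTM
    exact hs.1.ne (top_le_iff.mp hTM)
  have hCT : C ≤ C ⊔ B := le_sup_left
  have hcard : c < Nat.card (C ⊔ B : Subgroup G) := by
    rw [← hc.card C hC]
    refine lt_of_le_of_ne (Subgroup.card_le_of_le hCT) ?_
    intro h
    have h' : C = C ⊔ B := Subgroup.eq_of_le_of_card_ge hCT h.ge
    apply hBC
    rw [h']
    exact le_sup_right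
  have hYT : YY (C ⊔ B) ≤ M := by
    apply sSup_le
    rintro L ⟨h1, h2, h3⟩
    by_contra hLM
    have s1 : SN C L := L_step2 hc hC hs h2 (hCT.trans h1) hLM
    have s2 : SN B L := hyp L h2 (hCT.trans h1) (le_sup_right.trans h1) hLM
    have s3 : SN (C ⊔ B) L := Cfsg.Agent.lead.SN.sup s1 s2
    have h4 : C ⊔ B = L := eq_of_sn_of_le_ncl s3 h3
    rw [← h4] at hLM
    exact hLM hTM
  have hYT' : YY (C ⊔ B) ≠ ⊤ := by
    intro h
    rw [h] at hYT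
    exact hs.1.ne (top_le_iff.mp hYT)
  obtain ⟨M', hM', hU⟩ := hc.ih (C ⊔ B) hcard ⟨C, hC, hCT⟩ hTne hYT'
  have hMM' : M ≤ M' := hU M hTM hs.1.ne
  have h6 : M' = M := Spec_max hs hMM' hM'
  have h7 : X ≤ M' := hU X (sup_le hCX hBX) hX
  rw [h6] at h7
  exact hXM h7

theorem not_le_of_ne (hc : Ctx c 𝒞) {C B : Subgroup G} (hC : C ∈ 𝒞) (hB : B ∈ 𝒞) (hne : B ≠ C) :
    ¬ B ≤ C := by
  intro h
  exact hne (Subgroup.eq_of_le_of_card_ge h (by rw [hc.card C hC, hc.card B hB]))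

theorem L_r3 (hc : Ctx c 𝒞) {C M : Subgroup G} (hC : C ∈ 𝒞) (hs : Spec C M) {m : G} (hm : m ∈ M)
    (hne : cj m C ≠ C) : ∀ X : Subgroup G, X ≠ ⊤ → C ≤ X → cj m C ≤ X → X ≤ M := by
  have hB : cj m C ∈ 𝒞 := hc.conj C hC m
  have hsB : Spec (cj m C) M := Spec_conj_mem hs hm
  have hBM : cj m C ≤ M := C_le_M hc hB hsB
  exact L_step3 hc hC hs hBM (not_le_of_ne hc hC hB hne)
    (fun X hX _ hBX hXM => L_step2 hc hB hsB hX hBX hXM)

theorem L_r3' (hc : Ctx c 𝒞) {C M : Subgroup G} (hC : C ∈ 𝒞) (hs : Spec C M)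
    {X : Subgroup G} (hX : X ≠ ⊤) (hCX : C ≤ X) (hXM : ¬ X ≤ M) :
    X ⊓ M ≤ Subgroup.normalizer (C : Set G) := by
  rintro m ⟨hmX, hmM⟩
  by_contra hmn
  have hne : cj m C ≠ C := fun h => hmn (mem_normalizer_of_cj_eq h)
  have hle : cj m C ≤ X := by
    calc cj m C ≤ cj m X := cj_mono hCX
      _ = X := cj_eq_self_of_mem hmX
  exact hXM (L_r3 hc hC hs hmM hne X hX hCX hle)

theorem L_clique (hc : Ctx c 𝒞) {C B M MB K : Subgroup G} (hC : C ∈ 𝒞) (hB : B ∈ 𝒞)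
    (hne : B ≠ C) (hs : Spec C M) (hsB : Spec B MB) (hBM : B ≤ M) (hK : K ≠ ⊤) (hCK : C ≤ K)
    (hBK : B ≤ K) (hKM : ¬ K ≤ M) : C ≤ MB := by
  by_contra hCMB
  apply hKM
  exact L_step3 hc hC hs hBM (not_le_of_ne hc hC hB hne)
    (fun X hX hCX hBX _ => L_step2 hc hB hsB hX hBX (fun h => hCMB (hCX.trans h))) K hK hCK hBK

theorem L_distinct (hc : Ctx c 𝒞) {C B M MB K : Subgroup G} (hC : C ∈ 𝒞) (hB : B ∈ 𝒞)
    (hne : B ≠ C) (hs : Spec C M) (hsB : Spec B MB) (hBM : B ≤ M) (hK : K ≠ ⊤) (hCK : C ≤ K)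
    (hBK : B ≤ K) (hKM : ¬ K ≤ M) : MB ≠ M := by
  intro he
  rw [he] at hsB
  apply hKM
  exact L_step3 hc hC hs hBM (not_le_of_ne hc hC hB hne)
    (fun X hX _ hBX hXM => L_step2 hc hB hsB hX hBX hXM) K hK hCK hBK

theorem L_nrm (hc : Ctx c 𝒞) {C B M MB K : Subgroup G} (hC : C ∈ 𝒞) (hB : B ∈ 𝒞)
    (hne : B ≠ C) (hs : Spec C M) (hsB : Spec B MB) (hBM : B ≤ M) (hK : K ≠ ⊤) (hCK : C ≤ K)
    (hBK : B ≤ K) (hKM : ¬ K ≤ M) : C ≤ Subgroup.normalizer (B : Set G) ∧ SN B M := by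
  have hd : MB ≠ M := L_distinct hc hC hB hne hs hsB hBM hK hCK hBK hKM
  have hMMB : ¬ M ≤ MB := fun h => hd (Spec_max hs h hsB.1.ne)
  have hCMB : C ≤ MB := L_clique hc hC hB hne hs hsB hBM hK hCK hBK hKM
  have hCM : C ≤ M := C_le_M hc hC hs
  exact ⟨(le_inf hCM hCMB).trans (L_r3' hc hB hsB hs.1.ne hBM hMMB),
    L_step2 hc hB hsB hs.1.ne hBM hMMB⟩

end

end Cfsg.Agent.helper9.WZ
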