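import Mathlib
import Cfsg.Agent.Lib_helper9_WZb

set_option autoImplicit false

/-!
Generalised zipper lemma (Flavell's generation theorem), part C: the final contradiction,
the induction and the bridge to normal closures in subgroups.
-/

namespace Cfsg.Agent.helper9.WZ

open Cfsg.Agent.helper7 Cfsg.Agent.lead

universe u

variable {G : Type u} [Group G]

section

variable [Finite G] {c : ℕ} {𝒞 : Set (Subgroup G)}

theorem L_final (hc : Ctx c 𝒞) {C M K : Subgroup G} (hC : C ∈ 𝒞) (hs : Spec C M)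
    (hK : K ≠ ⊤) (hCK : C ≤ K) (hKM : ¬ K ≤ M)
    (hN : Subgroup.normalizer ((sSup {B | B ∈ 𝒞 ∧ B ≤ M ∧ B ≤ K} : Subgroup G) : Set G) ⊓ M ≤ K) :
    False := by
  have hCM : C ≤ M := C_le_M hc hC hs
  have hsnCK : SN C K := L_step2 hc hC hs hK hCK hKM
  have hnsn : ¬ SN C M := L_nsn hc hC hs
  have hKN : ¬ K ≤ Subgroup.normalizer (C : Set G) := fun h => hKM (h.trans (L_norm hc hC hs))
  obtain ⟨x, hxK, hxN, hxle⟩ := exists_conj_of_sn' hsnCK hKN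
  have hB₀𝒞 : cj x C ∈ 𝒞 := hc.conj C hC x
  have hB₀M : cj x C ≤ M := hxle.trans (L_norm hc hC hs)
  have hB₀K : cj x C ≤ K := (cj_mono hCK).trans (cj_eq_self_of_mem hxK).le
  have hB₀ne : cj x C ≠ C := fun h => hxN (mem_normalizer_of_cj_eq h)
  have hT : sSup {B | B ∈ 𝒞 ∧ B ≤ M ∧ B ≤ K} =
      C ⊔ sSup ({B | B ∈ 𝒞 ∧ B ≤ M ∧ B ≤ K} \ {C}) := by
    have h1 : {B | B ∈ 𝒞 ∧ B ≤ M ∧ B ≤ K} = insert C ({B | B ∈ 𝒞 ∧ B ≤ M ∧ B ≤ K} \ {C}) := by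
      rw [Set.insert_diff_singleton, Set.insert_eq_of_mem]
      exact ⟨hC, hCM, hCK⟩
    conv_lhs => rw [h1]
    rw [sSup_insert]
  have hfacts : ∀ B ∈ ({B | B ∈ 𝒞 ∧ B ≤ M ∧ B ≤ K} \ {C} : Set (Subgroup G)), ∀ MB, Spec B MB →
      MB ≠ M ∧ C ≤ Subgroup.normalizer (B : Set G) ∧ SN B M := by
    rintro B ⟨⟨hB, hBM, hBK⟩, hBne⟩ MB hsB
    have hBne' : B ≠ C := hBne
    exact ⟨L_distinct hc hC hB hBne' hs hsB hBM hK hCK hBK hKM,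
      L_nrm hc hC hB hBne' hs hsB hBM hK hCK hBK hKM⟩
  have hJM : sSup ({B | B ∈ 𝒞 ∧ B ≤ M ∧ B ≤ K} \ {C}) ≤ M := sSup_le fun B hB => hB.1.2.1
  have hJK : sSup ({B | B ∈ 𝒞 ∧ B ≤ M ∧ B ≤ K} \ {C}) ≤ K := sSup_le fun B hB => hB.1.2.2
  have hS1 : ∀ U ∈ ({U | (U ∈ 𝒞 ∧ U ≤ M ∧ SN U M) ∨ ∃ m ∈ M, U = cj m (YY C)} :
      Set (Subgroup G)), SN U M := by
    rintro U (⟨_, _, h⟩ | ⟨m, hm, rfl⟩)
    · exact h
    · have := (L_Ysn hc hC hs.1.ne hs.2.1).conj m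
      rwa [cj_eq_self_of_mem hm] at this
  have hS2 : ∀ U ∈ ({U | (U ∈ 𝒞 ∧ U ≤ M ∧ SN U M) ∨ ∃ m ∈ M, U = cj m (YY C)} :
      Set (Subgroup G)), ∀ m ∈ M,
      cj m U ∈ ({U | (U ∈ 𝒞 ∧ U ≤ M ∧ SN U M) ∨ ∃ m ∈ M, U = cj m (YY C)} :
      Set (Subgroup G)) := by
    rintro U (⟨h1, h2, h3⟩ | ⟨m', hm', rfl⟩) m hm
    · left
      refine ⟨hc.conj U h1 m, ?_, ?_⟩
      · calc cj m U ≤ cj m M := cj_mono h2
          _ = M := cj_eq_self_of_mem hm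
      · have := h3.conj m
        rwa [cj_eq_self_of_mem hm] at this
    · right
      exact ⟨m * m', M.mul_mem hm hm', cj_cj m m' _⟩
  have hS3 : ({B | B ∈ 𝒞 ∧ B ≤ M ∧ B ≤ K} \ {C} : Set (Subgroup G)) ⊂
      {U | (U ∈ 𝒞 ∧ U ≤ M ∧ SN U M) ∨ ∃ m ∈ M, U = cj m (YY C)} := by
    rw [Set.ssubset_def]
    constructor
    · intro B hB
      obtain ⟨MB, hsB⟩ := L_spec hc hB.1.1
      left
      exact ⟨hB.1.1, hB.1.2.1, (hfacts B hB MB hsB).2.2⟩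
    · intro hsub
      have hY : YY C ∈ ({U | (U ∈ 𝒞 ∧ U ≤ M ∧ SN U M) ∨ ∃ m ∈ M, U = cj m (YY C)} :
          Set (Subgroup G)) := Or.inr ⟨1, M.one_mem, (cj_one _).symm⟩
      have h0 := hsub hY
      have h1 : YY C ∈ 𝒞 := h0.1.1
      have h2 : C = YY C := Subgroup.eq_of_le_of_card_ge (self_le_YY (hc.ne_top C hC))
        (by rw [hc.card C hC, hc.card _ h1])
      exact h0.2 h2.symm
  obtain ⟨X, hX𝒮, hX𝒮₀, hXN⟩ := flavell_rel M _ _ hS1 hS2 hS3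
  have hXM : X ≤ M := (hS1 X hX𝒮).le
  have hact : Subgroup.normalizer
      ((sSup ({B | B ∈ 𝒞 ∧ B ≤ M ∧ B ≤ K} \ {C}) : Subgroup G) : Set G) ⊓ M ≤
      Subgroup.normalizer (C : Set G) := by
    rintro m ⟨hmJ, hmM⟩
    by_contra hmn
    have hne : cj m C ≠ C := fun h => hmn (mem_normalizer_of_cj_eq h)
    have hr3 := L_r3 hc hC hs hmM hne
    have hB₀𝒮₀ : cj x C ∈ ({B | B ∈ 𝒞 ∧ B ≤ M ∧ B ≤ K} \ {C} : Set (Subgroup G)) :=
      ⟨⟨hB₀𝒞, hB₀M, hB₀K⟩, hB₀ne⟩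
    have hm' : m⁻¹ ∈ Subgroup.normalizer
        ((sSup ({B | B ∈ 𝒞 ∧ B ≤ M ∧ B ≤ K} \ {C}) : Subgroup G) : Set G) :=
      Subgroup.inv_mem _ hmJ
    have hB'J : cj m⁻¹ (cj x C) ≤ sSup ({B | B ∈ 𝒞 ∧ B ≤ M ∧ B ≤ K} \ {C}) := by
      calc cj m⁻¹ (cj x C) ≤ cj m⁻¹ (sSup ({B | B ∈ 𝒞 ∧ B ≤ M ∧ B ≤ K} \ {C})) :=
            cj_mono (le_sSup hB₀𝒮₀)
        _ = sSup ({B | B ∈ 𝒞 ∧ B ≤ M ∧ B ≤ K} \ {C}) := cj_eq_of_mem_normalizer hm'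
    have hB'ne : cj m⁻¹ (cj x C) ≠ C := by
      intro h
      have h1 : cj x C = cj m C := by rw [← cj_cj_inv m (cj x C), h]
      rw [h1] at hB₀K
      exact hKM (hr3 K hK hCK hB₀K)
    have hB'𝒮₀ : cj m⁻¹ (cj x C) ∈ ({B | B ∈ 𝒞 ∧ B ≤ M ∧ B ≤ K} \ {C} : Set (Subgroup G)) :=
      ⟨⟨hc.conj _ hB₀𝒞 _, hB'J.trans hJM, hB'J.trans hJK⟩, hB'ne⟩
    obtain ⟨MB', hsB'⟩ := L_spec hc hB'𝒮₀.1.1
    obtain ⟨MB₀, hsB₀⟩ := L_spec hc hB₀𝒞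
    have h1 : C ≤ Subgroup.normalizer ((cj m⁻¹ (cj x C) : Subgroup G) : Set G) :=
      (hfacts _ hB'𝒮₀ MB' hsB').2.1
    have h2 : cj m C ≤ Subgroup.normalizer ((cj x C : Subgroup G) : Set G) := by
      have := cj_mono (g := m) h1
      rwa [cj_normalizer, cj_cj_inv] at this
    have h3 : C ≤ Subgroup.normalizer ((cj x C : Subgroup G) : Set G) :=
      (hfacts _ hB₀𝒮₀ MB₀ hsB₀).2.1
    have h4 : Subgroup.normalizer ((cj x C : Subgroup G) : Set G) ≤ MB₀ := L_norm hc hB₀𝒞 hsB₀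
    have h5 : MB₀ ≤ M := hr3 MB₀ hsB₀.1.ne (h3.trans h4) (h2.trans h4)
    have h6 : M = MB₀ := Spec_max hsB₀ h5 hs.1.ne
    exact (hfacts _ hB₀𝒮₀ MB₀ hsB₀).1 h6.symm
  have hXNC : X ≤ Subgroup.normalizer (C : Set G) := (le_inf hXN hXM).trans hact
  have hXNT : X ≤ Subgroup.normalizer
      ((sSup {B | B ∈ 𝒞 ∧ B ≤ M ∧ B ≤ K} : Subgroup G) : Set G) := by
    rw [hT]
    exact (le_inf hXNC hXN).trans (le_normalizer_sup C _)
  have hXK : X ≤ K := (le_inf hXNT hXM).trans hN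
  rcases hX𝒮 with ⟨h1, h2, h3⟩ | ⟨m, hm, rfl⟩
  · have hXC : X = C := by
      by_contra hne
      exact hX𝒮₀ ⟨⟨h1, h2, hXK⟩, hne⟩
    rw [hXC] at h3
    exact hnsn h3
  · have hsB : Spec (cj m C) M := Spec_conj_mem hs hm
    rw [← YY_cj] at hXK
    exact hKM (hsB.2.2 K hXK (lt_top_iff_ne_top.mpr hK))

theorem L_main (hc : Ctx c 𝒞) (hne : 𝒞.Nonempty) : False := by
  classical
  let Θ : Set (Subgroup G × Subgroup G × Subgroup G) :=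
    {t | t.1 ∈ 𝒞 ∧ Spec t.1 t.2.1 ∧ t.2.2 ≠ ⊤ ∧ t.1 ≤ t.2.2 ∧ ¬ t.2.2 ≤ t.2.1}
  let f : Subgroup G × Subgroup G × Subgroup G → ℕ :=
    fun t => Set.ncard {D | D ∈ 𝒞 ∧ D ≤ t.2.1 ∧ D ≤ t.2.2}
  have hΘne : Θ.Nonempty := by
    obtain ⟨C, hC⟩ := hne
    obtain ⟨M, hs⟩ := L_spec hc hC
    by_contra hcon
    apply hc.nuniq C hC
    refine ⟨M, hs.1.ne, fun X hCX hX => ?_⟩
    by_contra hXM
    exact hcon ⟨(C, M, X), hC, hs, hX, hCX, hXM⟩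
  obtain ⟨⟨C, M, K⟩, ⟨hC, hs, hK, hCK, hKM⟩, hmax⟩ :=
    Set.exists_max_image Θ f (Set.toFinite Θ) hΘne
  simp only at hC hs hK hCK hKM
  have hCM : C ≤ M := C_le_M hc hC hs
  have hCT : C ≤ sSup {D | D ∈ 𝒞 ∧ D ≤ M ∧ D ≤ K} := le_sSup ⟨hC, hCM, hCK⟩
  have hTK : sSup {D | D ∈ 𝒞 ∧ D ≤ M ∧ D ≤ K} ≤ K := sSup_le fun D hD => hD.2.2
  have hkey : ∀ C' M' K' : Subgroup G, (C', M', K') ∈ Θ →
      {D | D ∈ 𝒞 ∧ D ≤ M ∧ D ≤ K} ⊆ {D | D ∈ 𝒞 ∧ D ≤ M' ∧ D ≤ K'} →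
      {D | D ∈ 𝒞 ∧ D ≤ M' ∧ D ≤ K'} = {D | D ∈ 𝒞 ∧ D ≤ M ∧ D ≤ K} := by
    intro C' M' K' hmem hsub
    exact (Set.eq_of_subset_of_ncard_le hsub (hmax _ hmem) (Set.toFinite _)).symm
  by_cases h1 : Subgroup.normalizer
      ((sSup {D | D ∈ 𝒞 ∧ D ≤ M ∧ D ≤ K} : Subgroup G) : Set G) ⊓ M ≤ K
  · exact L_final hc hC hs hK hCK hKM h1
  by_cases h2 : Subgroup.normalizer
      ((sSup {D | D ∈ 𝒞 ∧ D ≤ M ∧ D ≤ K} : Subgroup G) : Set G) ≤ M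
  · have h3 : ∃ C₀ ∈ ({D | D ∈ 𝒞 ∧ D ≤ M ∧ D ≤ K} : Set (Subgroup G)), ¬ SN C₀ K := by
      by_contra hcon
      push Not at hcon
      have hS1 : ∀ U ∈ ({D | D ∈ 𝒞 ∧ D ≤ K ∧ SN D K} : Set (Subgroup G)), SN U K :=
        fun U hU => hU.2.2
      have hS2 : ∀ U ∈ ({D | D ∈ 𝒞 ∧ D ≤ K ∧ SN D K} : Set (Subgroup G)), ∀ k ∈ K,
          cj k U ∈ ({D | D ∈ 𝒞 ∧ D ≤ K ∧ SN D K} : Set (Subgroup G)) := by
        rintro U ⟨h1, h2, h3⟩ k hk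
        refine ⟨hc.conj U h1 k, ?_, ?_⟩
        · calc cj k U ≤ cj k K := cj_mono h2
            _ = K := cj_eq_self_of_mem hk
        · have := h3.conj k
          rwa [cj_eq_self_of_mem hk] at this
      have hsub : ({D | D ∈ 𝒞 ∧ D ≤ M ∧ D ≤ K} : Set (Subgroup G)) ⊆
          {D | D ∈ 𝒞 ∧ D ≤ K ∧ SN D K} := fun D hD => ⟨hD.1, hD.2.2, hcon D hD⟩
      by_cases heq : ({D | D ∈ 𝒞 ∧ D ≤ M ∧ D ≤ K} : Set (Subgroup G)) =
          {D | D ∈ 𝒞 ∧ D ≤ K ∧ SN D K}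
      · have h4 : K ≤ Subgroup.normalizer
            ((sSup {D | D ∈ 𝒞 ∧ D ≤ M ∧ D ≤ K} : Subgroup G) : Set G) := by
          intro k hk
          apply mem_normalizer_sSup
          intro L hL
          rw [heq] at hL ⊢
          exact hS2 L hL k hk
        exact hKM (h4.trans h2)
      · have hss : ({D | D ∈ 𝒞 ∧ D ≤ M ∧ D ≤ K} : Set (Subgroup G)) ⊂
            {D | D ∈ 𝒞 ∧ D ≤ K ∧ SN D K} := LE.le.ssubset_of_ne hsub heq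
        obtain ⟨X, hX𝒮, hX𝒬, hXN⟩ := flavell_rel K _ _ hS1 hS2 hss
        exact hX𝒬 ⟨hX𝒮.1, hXN.trans h2, hX𝒮.2.1⟩
    obtain ⟨C₀, ⟨hC₀, hC₀M, hC₀K⟩, hC₀sn⟩ := h3
    obtain ⟨M₀, hs₀⟩ := L_spec hc hC₀
    have hKM₀ : K ≤ M₀ := by
      by_contra h
      exact hC₀sn (L_step2 hc hC₀ hs₀ hK hC₀K h)
    have hC₀ne : C₀ ≠ C := by
      rintro rfl
      exact hC₀sn (L_step2 hc hC hs hK hCK hKM)
    have hd : M₀ ≠ M := L_distinct hc hC hC₀ hC₀ne hs hs₀ hC₀M hK hCK hC₀K hKM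
    have hMM₀ : ¬ M ≤ M₀ := fun h => hd (Spec_max hs h hs₀.1.ne)
    have hmem : (C₀, M₀, M) ∈ Θ := ⟨hC₀, hs₀, hs.1.ne, hC₀M, hMM₀⟩
    have hsub : ({D | D ∈ 𝒞 ∧ D ≤ M ∧ D ≤ K} : Set (Subgroup G)) ⊆
        {D | D ∈ 𝒞 ∧ D ≤ M₀ ∧ D ≤ M} := fun D hD => ⟨hD.1, hD.2.2.trans hKM₀, hD.2.1⟩
    have heq := hkey _ _ _ hmem hsub
    apply L_final hc hC₀ hs₀ hs.1.ne hC₀M hMM₀
    rw [heq]
    exact inf_le_left.trans h2
  · have hNT : Subgroup.normalizer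
        ((sSup {D | D ∈ 𝒞 ∧ D ≤ M ∧ D ≤ K} : Subgroup G) : Set G) ≠ ⊤ := by
      intro h
      have h3 : sSup {D | D ∈ 𝒞 ∧ D ≤ M ∧ D ≤ K} = ⊤ := hc.nclc C hC _ hCT h.ge
      rw [h3] at hTK
      exact hK (top_le_iff.mp hTK)
    have hmem : (C, M, Subgroup.normalizer
        ((sSup {D | D ∈ 𝒞 ∧ D ≤ M ∧ D ≤ K} : Subgroup G) : Set G)) ∈ Θ :=
      ⟨hC, hs, hNT, hCT.trans Subgroup.le_normalizer, h2⟩
    have hsub : ({D | D ∈ 𝒞 ∧ D ≤ M ∧ D ≤ K} : Set (Subgroup G)) ⊆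
        {D | D ∈ 𝒞 ∧ D ≤ M ∧ D ≤ Subgroup.normalizer
          ((sSup {D | D ∈ 𝒞 ∧ D ≤ M ∧ D ≤ K} : Subgroup G) : Set G)} :=
      fun D hD => ⟨hD.1, hD.2.1, (le_sSup hD).trans Subgroup.le_normalizer⟩
    have heq := hkey _ _ _ hmem hsub
    apply L_final hc hC hs hNT (hCT.trans Subgroup.le_normalizer) h2
    rw [heq]
    exact inf_le_left

/-- Flavell's generation theorem in the `ncl`-language. -/
theorem main_aux : ∀ (d : ℕ) (A : Subgroup G), Nat.card G - Nat.card A = d →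
    (∀ N : Subgroup G, A ≤ N → (⊤ : Subgroup G) ≤ Subgroup.normalizer (N : Set G) → N = ⊤) →
    A ≠ ⊤ → YY A ≠ ⊤ → Uniq A := by
  intro d
  induction d using Nat.strong_induction_on with
  | _ d IH =>
    intro A hd hncl hA hY
    by_contra hU
    have hctx : Ctx (Nat.card A) {C | ∃ g : G, C = cj g A} :=
      { conj := by
          rintro C ⟨g, rfl⟩ h
          exact ⟨h * g, cj_cj h g A⟩
        card := by
          rintro C ⟨g, rfl⟩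
          exact card_cj g A
        nclc := by
          rintro C ⟨g, rfl⟩ N hN hn
          have h1 : A ≤ cj g⁻¹ N := by rwa [← cj_le_iff]
          have h2 : cj g⁻¹ N = N := cj_eq_of_mem_normalizer (hn (Subgroup.mem_top _))
          rw [h2] at h1
          exact hncl N h1 hn
        ne_top := by
          rintro C ⟨g, rfl⟩
          exact cj_ne_top hA
        yy := by
          rintro C ⟨g, rfl⟩
          rw [YY_cj]
          exact cj_ne_top hY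
        nuniq := by
          rintro C ⟨g, rfl⟩ ⟨M, hM, hU'⟩
          apply hU
          refine ⟨cj g⁻¹ M, cj_ne_top hM, fun X hAX hX => ?_⟩
          have := hU' (cj g X) (cj_mono hAX) (cj_ne_top hX)
          rwa [cj_le_iff] at this
        ih := by
          rintro T hcard ⟨C, ⟨g, rfl⟩, hCT⟩ hT hYT
          have hTle : Nat.card T ≤ Nat.card G := Subgroup.card_le_card_group T
          apply IH (Nat.card G - Nat.card T) (by omega) T rfl _ hT hYT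
          intro N hTN hn
          have h1 : A ≤ cj g⁻¹ N := by
            rw [← cj_le_iff]; exact hCT.trans hTN
          have h2 : cj g⁻¹ N = N := cj_eq_of_mem_normalizer (hn (Subgroup.mem_top _))
          rw [h2] at h1
          exact hncl N h1 hn }
    exact L_main hctx ⟨A, 1, (cj_one A).symm⟩

end

/-- bridge: if `H` is the join of the `H`-conjugates of `A`, the normal closure of `A` in `H` is
everything -/
theorem normalClosure_subgroupOf_eq_top {A H : Subgroup G} (hAH : A ≤ H) (hH : H ≤ ncl A H) :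
    Subgroup.normalClosure ((A.subgroupOf H : Subgroup ↥H) : Set ↥H) = ⊤ := by
  rw [eq_top_iff]
  have key : ncl A H ≤ (Subgroup.normalClosure ((A.subgroupOf H : Subgroup ↥H) : Set ↥H)).map
      H.subtype := by
    apply sSup_le
    rintro B ⟨h, hh, rfl⟩
    intro x hx
    rw [mem_cj] at hx
    have haH : h⁻¹ * x * h ∈ H := hAH hx
    have hmem : (⟨h⁻¹ * x * h, haH⟩ : H) ∈
        Subgroup.normalClosure ((A.subgroupOf H : Subgroup ↥H) : Set ↥H) :=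
      Subgroup.subset_normalClosure (Subgroup.mem_subgroupOf.mpr hx)
    have hn := (Subgroup.normalClosure_normal
      (s := ((A.subgroupOf H : Subgroup ↥H) : Set ↥H))).conj_mem _ hmem ⟨h, hh⟩
    refine ⟨_, hn, ?_⟩
    simp only [Subgroup.coe_subtype, Subgroup.coe_mul, Subgroup.coe_inv]
    group
  intro y _
  obtain ⟨z, hz, hzy⟩ := key (hH y.2)
  have : z = y := Subtype.ext hzy
  rwa [this] at hz

end Cfsg.Agent.helper9.WZ
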