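import Mathlib
import Cfsg.Agent.Lib_helper9_WZc

set_option autoImplicit false

/-!
Iterated commutators with an automorphism generate (Flavell): if `G = [G, α]` then
`G = ⟨[g, α, …, α]⟩`.  Proof through the semidirect product `G ⋊ ⟨α⟩` and the generation theorem.
-/

namespace Cfsg.Agent.helper9.FC

open Cfsg.Agent.helper7 Cfsg.Agent.helper9.WZ

universe u

section basic

variable {G : Type u} [Group G]

/-- commutator map with an automorphism -/
def phi (α : MulAut G) : G → G := fun c => c * (α c)⁻¹

theorem phi_comm (α : MulAut G) (c : G) : α (phi α c) = phi α (α c) := by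
  simp [phi]

theorem iter_comm (α : MulAut G) (k : ℕ) (c : G) :
    α ((phi α)^[k] c) = (phi α)^[k] (α c) := by
  induction k generalizing c with
  | zero => rfl
  | succ k ih =>
    rw [Function.iterate_succ_apply, Function.iterate_succ_apply, ih, phi_comm]

/-- the stabilizer of a subgroup in the automorphism group -/
def stab (D : Subgroup G) : Subgroup (MulAut G) where
  carrier := {z | ∀ d, z d ∈ D ↔ d ∈ D}
  one_mem' := fun _ => Iff.rfl
  mul_mem' := by
    intro y z hy hz d
    exact (hy (z d)).trans (hz d)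
  inv_mem' := by
    intro z hz d
    have := hz (z⁻¹ d)
    rw [MulAut.apply_inv_self] at this
    exact this.symm

theorem mem_stab_closure {α : MulAut G} {S : Set G} (h : α '' S = S) :
    α ∈ stab (Subgroup.closure S) := by
  have hm : (Subgroup.closure S).map α.toMonoidHom = Subgroup.closure S := by
    rw [MonoidHom.map_closure]
    congr 1
  intro d
  constructor
  · intro hd
    have hd' : α d ∈ (Subgroup.closure S).map α.toMonoidHom := by rw [hm]; exact hd
    obtain ⟨d', hd'', he⟩ := hd'
    have : d' = d := α.injective he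
    rwa [← this]
  · intro hd
    have : α d ∈ (Subgroup.closure S).map α.toMonoidHom := ⟨d, hd, rfl⟩
    rwa [hm] at this

theorem mem_stab_range_iter (α : MulAut G) (k : ℕ) :
    α ∈ stab (Subgroup.closure (Set.range ((phi α)^[k]))) := by
  apply mem_stab_closure
  ext y
  constructor
  · rintro ⟨_, ⟨c, rfl⟩, rfl⟩
    exact ⟨α c, (iter_comm α k c).symm⟩
  · rintro ⟨c, rfl⟩
    refine ⟨(phi α)^[k] (α⁻¹ c), ⟨_, rfl⟩, ?_⟩
    rw [iter_comm, MulAut.apply_inv_self]

/-- restriction of an automorphism to an invariant subgroup -/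
def restr (α : MulAut G) (D : Subgroup G) (h : α ∈ stab D) : MulAut D where
  toFun := fun d => ⟨α d, (h d).mpr d.2⟩
  invFun := fun d => ⟨α⁻¹ d, by
    have := h (α⁻¹ d)
    rw [MulAut.apply_inv_self] at this
    exact this.mp d.2⟩
  left_inv := fun d => Subtype.ext (by simp)
  right_inv := fun d => Subtype.ext (by simp)
  map_mul' := fun x y => Subtype.ext (by simp)

theorem restr_apply (α : MulAut G) (D : Subgroup G) (h : α ∈ stab D) (d : D) :
    ((restr α D h d : D) : G) = α d := rfl

theorem phi_restr (α : MulAut G) (D : Subgroup G) (h : α ∈ stab D) (d : D) :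
    ((phi (restr α D h) d : D) : G) = phi α d := by
  simp [phi, restr_apply]

theorem iter_restr (α : MulAut G) (D : Subgroup G) (h : α ∈ stab D) (k : ℕ) (d : D) :
    (((phi (restr α D h))^[k] d : D) : G) = (phi α)^[k] d := by
  induction k generalizing d with
  | zero => rfl
  | succ k ih =>
    rw [Function.iterate_succ_apply, Function.iterate_succ_apply, ih, phi_restr]

/-- the semidirect product `G ⋊ ⟨α⟩` -/
abbrev Gam (α : MulAut G) : Type u :=
  G ⋊[(Subgroup.zpowers α).subtype] (Subgroup.zpowers α)

theorem finite_Gam [Finite G] (α : MulAut G) : Finite (Gam α) :=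
  Finite.of_equiv _ SemidirectProduct.equivProd.symm

/-- the element `α` of the semidirect product -/
def aa (α : MulAut G) : Gam α := SemidirectProduct.inr ⟨α, Subgroup.mem_zpowers α⟩

/-- the subgroup `D ⋊ ⟨α⟩` for an invariant subgroup `D` -/
def EE (α : MulAut G) (D : Subgroup G) (h : α ∈ stab D) : Subgroup (Gam α) where
  carrier := {x | x.left ∈ D}
  one_mem' := D.one_mem
  mul_mem' := by
    intro x y hx hy
    show (x * y).left ∈ D
    rw [SemidirectProduct.mul_left]
    refine D.mul_mem hx ?_
    have hz : (x.right : MulAut G) ∈ stab D := (Subgroup.zpowers_le.mpr h) x.right.2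
    exact (hz y.left).mpr hy
  inv_mem' := by
    intro x hx
    show (x⁻¹).left ∈ D
    rw [SemidirectProduct.inv_left]
    have hz : ((x.right⁻¹ : Subgroup.zpowers α) : MulAut G) ∈ stab D :=
      (Subgroup.zpowers_le.mpr h) (x.right⁻¹).2
    exact (hz _).mpr (D.inv_mem hx)

theorem mem_EE {α : MulAut G} {D : Subgroup G} {h : α ∈ stab D} {x : Gam α} :
    x ∈ EE α D h ↔ x.left ∈ D := Iff.rfl

theorem aa_mem_EE {α : MulAut G} {D : Subgroup G} {h : α ∈ stab D} : aa α ∈ EE α D h :=
  D.one_mem

theorem conj_aa_left (α : MulAut G) (x : Gam α) : (x * aa α * x⁻¹).left = phi α x.left := by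
  have hc : x.right * (⟨α, Subgroup.mem_zpowers α⟩ : Subgroup.zpowers α) =
      ⟨α, Subgroup.mem_zpowers α⟩ * x.right := mul_comm' _ _
  rw [SemidirectProduct.mul_left, SemidirectProduct.mul_left, SemidirectProduct.mul_right,
    SemidirectProduct.inv_left]
  simp only [aa, SemidirectProduct.left_inr, SemidirectProduct.right_inr, map_one, mul_one]
  rw [hc, map_mul, MulAut.mul_apply]
  have h1 : ((Subgroup.zpowers α).subtype x.right⁻¹) = ((Subgroup.zpowers α).subtype x.right)⁻¹ :=
    map_inv _ _
  rw [h1, MulAut.apply_inv_self]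
  simp [phi]

theorem inl_phi (α : MulAut G) (g : G) :
    (SemidirectProduct.inl (phi α g) : Gam α) =
      SemidirectProduct.inl g * aa α * (SemidirectProduct.inl g)⁻¹ * (aa α)⁻¹ := by
  have h1 := SemidirectProduct.inl_aut (φ := (Subgroup.zpowers α).subtype)
    (⟨α, Subgroup.mem_zpowers α⟩ : Subgroup.zpowers α) g⁻¹
  have h2 : (SemidirectProduct.inl (phi α g) : Gam α) =
      SemidirectProduct.inl g * SemidirectProduct.inl (α g⁻¹) := by
    rw [← map_mul]; simp [phi]
  rw [h2]
  have h3 : (SemidirectProduct.inl (α g⁻¹) : Gam α) =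
      aa α * (SemidirectProduct.inl g)⁻¹ * (aa α)⁻¹ := by
    rw [← map_inv, aa, ← map_inv]
    exact h1
  rw [h3]
  group

theorem inr_mem_zpowers (α : MulAut G) (z : Subgroup.zpowers α) :
    (SemidirectProduct.inr z : Gam α) ∈ Subgroup.zpowers (aa α) := by
  obtain ⟨i, hi⟩ := Subgroup.mem_zpowers_iff.mp z.2
  have : z = (⟨α, Subgroup.mem_zpowers α⟩ : Subgroup.zpowers α) ^ i := Subtype.ext (by simp [hi])
  rw [this, map_zpow]
  exact Subgroup.zpow_mem_zpowers _ i

theorem mem_iff_inl_left (α : MulAut G) {H : Subgroup (Gam α)} (ha : aa α ∈ H) (x : Gam α) :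
    x ∈ H ↔ SemidirectProduct.inl x.left ∈ H := by
  have hx := SemidirectProduct.inl_left_mul_inr_right x
  have hr : (SemidirectProduct.inr x.right : Gam α) ∈ H :=
    (Subgroup.zpowers_le.mpr ha) (inr_mem_zpowers α x.right)
  constructor
  · intro h
    have : SemidirectProduct.inl x.left = x * (SemidirectProduct.inr x.right)⁻¹ := by
      rw [eq_mul_inv_iff_mul_eq]; exact hx
    rw [this]
    exact H.mul_mem h (H.inv_mem hr)
  · intro h
    rw [← hx]
    exact H.mul_mem h hr

end basic

end Cfsg.Agent.helper9.FC
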