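import Mathlib
import Cfsg.Agent.Lib_helper9_FC

set_option autoImplicit false

/-!
Iterated commutators with an automorphism generate (Flavell), main induction.
-/

namespace Cfsg.Agent.helper9.FC

open Cfsg.Agent.helper7 Cfsg.Agent.helper9.WZ

universe u

/-- in `G ⋊ ⟨α⟩`: a normal subgroup containing `α` is everything -/
theorem nclcond {G : Type u} [Group G] (α : MulAut G)
    (hG : Subgroup.closure (Set.range (phi α)) = ⊤) (N : Subgroup (Gam α))
    (hAN : Subgroup.zpowers (aa α) ≤ N)
    (hn : (⊤ : Subgroup (Gam α)) ≤ Subgroup.normalizer (N : Set (Gam α))) : N = ⊤ := by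
  have ha : aa α ∈ N := hAN (Subgroup.mem_zpowers _)
  have hN : N.Normal := Subgroup.normalizer_eq_top_iff.mp (top_le_iff.mp hn)
  have h1 : Subgroup.closure (Set.range (phi α)) ≤ N.comap SemidirectProduct.inl := by
    rw [Subgroup.closure_le]
    rintro _ ⟨g, rfl⟩
    show SemidirectProduct.inl (phi α g) ∈ N
    rw [inl_phi]
    exact N.mul_mem (hN.conj_mem _ ha _) (N.inv_mem ha)
  rw [hG] at h1
  rw [eq_top_iff]
  intro x _
  rw [mem_iff_inl_left α ha]
  exact h1 (Subgroup.mem_top x.left)

theorem zpowers_ne_top {G : Type u} [Group G] [Nontrivial G] (α : MulAut G)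
    (hG : Subgroup.closure (Set.range (phi α)) = ⊤) : Subgroup.zpowers (aa α) ≠ ⊤ := by
  intro h
  have hcomm : ∀ x y : Gam α, x * y = y * x := by
    intro x y
    have hx : x ∈ Subgroup.zpowers (aa α) := by rw [h]; exact Subgroup.mem_top x
    have hy : y ∈ Subgroup.zpowers (aa α) := by rw [h]; exact Subgroup.mem_top y
    obtain ⟨i, rfl⟩ := Subgroup.mem_zpowers_iff.mp hx
    obtain ⟨j, rfl⟩ := Subgroup.mem_zpowers_iff.mp hy
    rw [← zpow_add, ← zpow_add, add_comm]
  have h1 : ∀ g : G, phi α g = 1 := by
    intro g
    apply SemidirectProduct.inl_injective (φ := (Subgroup.zpowers α).subtype)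
    rw [inl_phi, map_one, hcomm (SemidirectProduct.inl g) (aa α)]
    group
  have h2 : Subgroup.closure (Set.range (phi α)) = ⊥ := by
    rw [Subgroup.closure_eq_bot_iff]
    rintro _ ⟨g, rfl⟩
    exact h1 g
  rw [h2] at hG
  exact bot_ne_top hG

theorem main : ∀ (n : ℕ) (G : Type u) [Group G] [Finite G], Nat.card G = n → ∀ (α : MulAut G),
    Subgroup.closure (Set.range (phi α)) = ⊤ → ∀ k : ℕ, 1 ≤ k →
    Subgroup.closure (Set.range ((phi α)^[k])) = ⊤ := by
  intro n
  induction n using Nat.strong_induction_on with
  | _ n IH =>
    intro G _ _ hn α hG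
    by_cases hsub : Subsingleton G
    · intro k _
      rw [eq_top_iff]
      intro x _
      rw [Subsingleton.elim x 1]
      exact Subgroup.one_mem _
    rw [not_subsingleton_iff_nontrivial] at hsub
    haveI := finite_Gam α
    have hncl := nclcond α hG
    have hA : Subgroup.zpowers (aa α) ≠ ⊤ := zpowers_ne_top α hG
    have hstab : ∀ k, α ∈ stab (Subgroup.closure (Set.range ((phi α)^[k]))) :=
      mem_stab_range_iter α
    have hEtop : ∀ k, EE α _ (hstab k) = ⊤ →
        Subgroup.closure (Set.range ((phi α)^[k])) = ⊤ := by
      intro k h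
      rw [eq_top_iff]
      intro g _
      have : (SemidirectProduct.inl g : Gam α) ∈ EE α _ (hstab k) := by
        rw [h]; exact Subgroup.mem_top _
      exact this
    by_cases hY : YY (Subgroup.zpowers (aa α)) = ⊤
    · intro k hk
      apply hEtop k
      rw [eq_top_iff]
      refine le_trans hY.ge ?_
      apply sSup_le
      rintro H ⟨hAH, hHne, hHncl⟩
      have haH : aa α ∈ H := hAH (Subgroup.mem_zpowers _)
      have hGinv : α ∈ stab (H.comap SemidirectProduct.inl) := by
        intro d
        show SemidirectProduct.inl (α d) ∈ H ↔ SemidirectProduct.inl d ∈ H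
        have h1 := SemidirectProduct.inl_aut (φ := (Subgroup.zpowers α).subtype)
          (⟨α, Subgroup.mem_zpowers α⟩ : Subgroup.zpowers α) d
        have h2 : (SemidirectProduct.inl (α d) : Gam α) =
            aa α * SemidirectProduct.inl d * (aa α)⁻¹ := by
          rw [aa, ← map_inv]; exact h1
        rw [h2]
        constructor
        · intro h
          have := H.mul_mem (H.mul_mem (H.inv_mem haH) h) haH
          have e : (aa α)⁻¹ * (aa α * SemidirectProduct.inl d * (aa α)⁻¹) * aa α =
              SemidirectProduct.inl d := by group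
          rwa [e] at this
        · intro h
          exact H.mul_mem (H.mul_mem haH h) (H.inv_mem haH)
      have hleft : ∀ h ∈ H, h.left ∈ H.comap SemidirectProduct.inl := by
        intro h hh
        exact (mem_iff_inl_left α haH h).mp hh
      have hGne : H.comap SemidirectProduct.inl ≠ ⊤ := by
        intro h
        apply hHne
        rw [eq_top_iff]
        intro x _
        rw [mem_iff_inl_left α haH]
        have : x.left ∈ H.comap SemidirectProduct.inl := by rw [h]; exact Subgroup.mem_top _
        exact this
      have hFinv : α ∈ stab (Subgroup.closure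
          (phi α '' ((H.comap SemidirectProduct.inl : Subgroup G) : Set G))) := by
        apply mem_stab_closure
        ext y
        constructor
        · rintro ⟨_, ⟨d, hd, rfl⟩, rfl⟩
          exact ⟨α d, (hGinv d).mpr hd, (phi_comm α d).symm⟩
        · rintro ⟨d, hd, rfl⟩
          refine ⟨phi α (α⁻¹ d), ⟨α⁻¹ d, ?_, rfl⟩, ?_⟩
          · have := hGinv (α⁻¹ d)
            rw [MulAut.apply_inv_self] at this
            exact this.mp hd
          · rw [phi_comm, MulAut.apply_inv_self]
      have hHF : H ≤ EE α _ hFinv := by
        refine hHncl.trans ?_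
        apply sSup_le
        rintro B ⟨h, hh, rfl⟩
        have hcz : cj h (Subgroup.zpowers (aa α)) = Subgroup.zpowers (h * aa α * h⁻¹) := by
          show (Subgroup.zpowers (aa α)).map (MulAut.conj h).toMonoidHom = _
          rw [MonoidHom.map_zpowers]
          rfl
        rw [hcz, Subgroup.zpowers_le, mem_EE, conj_aa_left]
        exact Subgroup.subset_closure ⟨h.left, hleft h hh, rfl⟩
      have hGF : H.comap SemidirectProduct.inl ≤ Subgroup.closure
          (phi α '' ((H.comap SemidirectProduct.inl : Subgroup G) : Set G)) := by
        intro g hg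
        exact hHF hg
      have hcard : Nat.card (H.comap SemidirectProduct.inl : Subgroup G) < n := by
        rw [← hn]
        refine lt_of_le_of_ne (Subgroup.card_le_card_group _) ?_
        intro h
        exact hGne (Subgroup.eq_top_of_card_eq _ h)
      have hgen : Subgroup.closure (Set.range (phi (restr α _ hGinv))) = ⊤ := by
        rw [eq_top_iff]
        intro y _
        have hy : (y : G) ∈ Subgroup.closure
            (phi α '' ((H.comap SemidirectProduct.inl : Subgroup G) : Set G)) := hGF y.2
        have hmap : (Subgroup.closure (Set.range (phi (restr α _ hGinv)))).map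
            (Subgroup.subtype _) = Subgroup.closure
            (phi α '' ((H.comap SemidirectProduct.inl : Subgroup G) : Set G)) := by
          rw [MonoidHom.map_closure]
          congr 1
          ext z
          constructor
          · rintro ⟨_, ⟨d, rfl⟩, rfl⟩
            exact ⟨d, d.2, (phi_restr α _ hGinv d).symm⟩
          · rintro ⟨d, hd, rfl⟩
            exact ⟨_, ⟨⟨d, hd⟩, rfl⟩, phi_restr α _ hGinv ⟨d, hd⟩⟩
        rw [← hmap] at hy
        obtain ⟨y', hy', he⟩ := hy
        have : y' = y := Subtype.ext he
        rwa [← this]
      have hIH := IH _ hcard (H.comap SemidirectProduct.inl : Subgroup G) rfl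
        (restr α _ hGinv) hgen k hk
      have hGD : H.comap SemidirectProduct.inl ≤
          Subgroup.closure (Set.range ((phi α)^[k])) := by
        intro g hg
        have h1 : (⟨g, hg⟩ : (H.comap SemidirectProduct.inl : Subgroup G)) ∈
            Subgroup.closure (Set.range ((phi (restr α _ hGinv))^[k])) := by
          rw [hIH]; exact Subgroup.mem_top _
        have h2 : (Subgroup.closure (Set.range ((phi (restr α _ hGinv))^[k]))).map
            (Subgroup.subtype _) ≤ Subgroup.closure (Set.range ((phi α)^[k])) := by
          rw [MonoidHom.map_closure]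
          apply Subgroup.closure_mono
          rintro _ ⟨_, ⟨d, rfl⟩, rfl⟩
          exact ⟨d, (iter_restr α _ hGinv k d).symm⟩
        exact h2 ⟨_, h1, rfl⟩
      intro h hh
      rw [mem_EE]
      exact hGD (hleft h hh)
    · obtain ⟨M, hM, hU⟩ := main_aux _ (Subgroup.zpowers (aa α)) rfl hncl hA hY
      have hAM : Subgroup.zpowers (aa α) ≤ M := hU _ le_rfl hA
      have haM : aa α ∈ M := hAM (Subgroup.mem_zpowers _)
      intro k hk
      induction k, hk using Nat.le_induction with
      | base => rw [Function.iterate_one]; exact hG
      | succ k hk ih =>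
        by_contra hD
        have hE : EE α _ (hstab (k + 1)) ≠ ⊤ := fun h => hD (hEtop (k + 1) h)
        have hEM : EE α _ (hstab (k + 1)) ≤ M :=
          hU _ (Subgroup.zpowers_le.mpr aa_mem_EE) hE
        have hex : ∃ g : G, (SemidirectProduct.inl ((phi α)^[k] g) : Gam α) ∉ M := by
          by_contra hcon
          push Not at hcon
          have h1 : Subgroup.closure (Set.range ((phi α)^[k])) ≤
              M.comap SemidirectProduct.inl := by
            rw [Subgroup.closure_le]
            rintro _ ⟨g, rfl⟩
            exact hcon g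
          rw [ih] at h1
          apply hM
          rw [eq_top_iff]
          intro x _
          rw [mem_iff_inl_left α haM]
          exact h1 (Subgroup.mem_top x.left)
        obtain ⟨g, hg⟩ := hex
        have h1 : (SemidirectProduct.inl (phi α ((phi α)^[k] g)) : Gam α) ∈ M := by
          apply hEM
          rw [mem_EE]
          show phi α ((phi α)^[k] g) ∈ _
          apply Subgroup.subset_closure
          exact ⟨g, Function.iterate_succ_apply' (phi α) k g⟩
        rw [inl_phi] at h1
        have h2 : SemidirectProduct.inl ((phi α)^[k] g) * aa α *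
            (SemidirectProduct.inl ((phi α)^[k] g))⁻¹ ∈ M := by
          have := M.mul_mem h1 haM
          rwa [inv_mul_cancel_right] at this
        have h3 : Subgroup.zpowers (aa α) ≤
            cj (SemidirectProduct.inl ((phi α)^[k] g))⁻¹ M := by
          rw [Subgroup.zpowers_le, mem_cj, inv_inv]
          exact h2
        have h4 : cj (SemidirectProduct.inl ((phi α)^[k] g))⁻¹ M ≤ M :=
          hU _ h3 (cj_ne_top hM)
        have h5 : cj (SemidirectProduct.inl ((phi α)^[k] g))⁻¹ M = M :=
          Subgroup.eq_of_le_of_card_ge h4 (by rw [card_cj])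
        have h6 : (SemidirectProduct.inl ((phi α)^[k] g))⁻¹ ∈
            Subgroup.normalizer (M : Set (Gam α)) := mem_normalizer_of_cj_eq h5
        have h7 : Subgroup.normalizer (M : Set (Gam α)) ≠ ⊤ := by
          intro h
          exact hM (hncl M hAM h.ge)
        have h8 : Subgroup.normalizer (M : Set (Gam α)) ≤ M :=
          hU _ (hAM.trans Subgroup.le_normalizer) h7
        exact hg (M.inv_mem_iff.mp (h8 h6))

end Cfsg.Agent.helper9.FC
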