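import Mathlib
import Cfsg.Agent.Lib_helper19_KPi2

set_option autoImplicit false
set_option linter.style.haveILetI false
set_option linter.unusedSectionVars false
set_option linter.unusedVariables false

/-! Refinements of the class-counting lemmas of `helper19` (`KP`, `KPi`), used for `S3898`:
a sum form of `kS_le_mul`, the Burnside orbit count for the action of `N_G(P)` on a Sylow
subgroup `P`, and a Frattini-argument divisibility. -/

namespace Cfsg.Agent.helper9.KPiA

open Cfsg.Agent.helper19
open Cfsg.Agent.S4106 (pdecomp kS_le orderOf_eq_of_isConj)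

universe u

/-- sum form of `kS_le_mul`: classes of `(insert r S₀)`-elements are parametrised by a class of
`r`-elements `u` and a class of `S₀`-elements of `C_G(u)`. -/
theorem kS_insert_le_sum (S₀ : Finset ℕ) (r : ℕ) [hr : Fact r.Prime]
    (G : Type u) [Group G] [Finite G] [Fintype (PClasses r G)] :
    Nat.card (KS (insert r S₀) G) ≤
      ∑ c : PClasses r G, Nat.card (KS S₀ ↥(Subgroup.centralizer ({repP c} : Set G))) := by
  classical
  have hp : r.Prime := hr.out
  let T := Σ c : PClasses r G, KS S₀ ↥(Subgroup.centralizer ({repP c} : Set G))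
  have hfprop : ∀ (c : PClasses r G) (D : KS S₀ ↥(Subgroup.centralizer ({repP c} : Set G))),
      ∀ q : ℕ, q.Prime → (∃ g : G, ConjClasses.mk g =
        ConjClasses.mk ((repP c : G) * ((Quotient.out D.1 : ↥(Subgroup.centralizer ({repP c} : Set G))) : G)) ∧
          q ∣ orderOf g) → q ∈ insert r S₀ := by
    intro c D q hq hex
    obtain ⟨h, hh, hqh⟩ := hex
    have ho := orderOf_eq_of_isConj (ConjClasses.mk_eq_mk_iff_isConj.mp hh)
    rw [ho] at hqh
    set w := (Quotient.out D.1 : ↥(Subgroup.centralizer ({repP c} : Set G))) with hw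
    have hcomm : Commute (repP c : G) (w : G) := (Subgroup.mem_centralizer_singleton_iff.mp w.2).symm
    have h1 := dvd_trans hqh hcomm.orderOf_mul_dvd_mul_orderOf
    rcases (Nat.Prime.dvd_mul hq).mp h1 with h2 | h2
    · obtain ⟨k, hk⟩ := orderOf_repP c
      rw [hk] at h2
      have := (Nat.prime_dvd_prime_iff_eq hq hp).mp (hq.dvd_of_dvd_pow h2)
      rw [this]
      exact Finset.mem_insert_self r S₀
    · apply Finset.mem_insert_of_mem
      apply D.2 q hq
      refine ⟨w, Quotient.out_eq _, ?_⟩
      rwa [Subgroup.orderOf_coe] at h2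
  let f : T → KS (insert r S₀) G :=
    fun x => ⟨ConjClasses.mk ((repP x.1 : G) *
      ((Quotient.out x.2.1 : ↥(Subgroup.centralizer ({repP x.1} : Set G))) : G)), hfprop x.1 x.2⟩
  have hfsurj : Function.Surjective f := by
    rintro ⟨C, hC⟩
    obtain ⟨g, rfl⟩ := ConjClasses.exists_rep C
    obtain ⟨u, v, huv, hcomm, hug, hvg, ⟨k, hk⟩, hvco⟩ := pdecomp r g
    set cu : PClasses r G := ⟨ConjClasses.mk u, mk_mem_pclasses' u k hk⟩ with hcu
    have hconj : IsConj u (repP cu) := by
      rw [← ConjClasses.mk_eq_mk_iff_isConj]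
      exact (mk_repP cu).symm
    obtain ⟨x, hx⟩ := isConj_iff.mp hconj
    have hv'C : x * v * x⁻¹ ∈ Subgroup.centralizer ({repP cu} : Set G) := by
      rw [Subgroup.mem_centralizer_singleton_iff, ← hx]
      calc x * v * x⁻¹ * (x * u * x⁻¹) = x * (v * u) * x⁻¹ := by group
        _ = x * (u * v) * x⁻¹ := by rw [hcomm]
        _ = x * u * x⁻¹ * (x * v * x⁻¹) := by group
    have hDprop : ∀ q : ℕ, q.Prime → (∃ h : ↥(Subgroup.centralizer ({repP cu} : Set G)),
        ConjClasses.mk h = ConjClasses.mk ⟨x * v * x⁻¹, hv'C⟩ ∧ q ∣ orderOf h) → q ∈ S₀ := by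
      intro q hq hex
      obtain ⟨h, hh, hqh⟩ := hex
      have ho := orderOf_eq_of_isConj (ConjClasses.mk_eq_mk_iff_isConj.mp hh)
      rw [ho, Subgroup.orderOf_mk] at hqh
      have hov : orderOf (x * v * x⁻¹) = orderOf v := by
        have := MulEquiv.orderOf_eq (MulAut.conj x) v
        simpa [MulAut.conj_apply] using this
      rw [hov] at hqh
      have hqg : q ∣ orderOf g := dvd_trans hqh (orderOf_dvd_of_mem_zpowers hvg)
      have hmem := hC q hq ⟨g, rfl, hqg⟩
      rcases Finset.mem_insert.mp hmem with h1 | h1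
      · exfalso
        rw [h1] at hqh
        have := Nat.dvd_gcd hqh (dvd_refl r)
        rw [hvco.gcd_eq_one] at this
        exact hp.one_lt.ne' (Nat.dvd_one.mp this)
      · exact h1
    refine ⟨⟨cu, ⟨ConjClasses.mk ⟨x * v * x⁻¹, hv'C⟩, hDprop⟩⟩, ?_⟩
    apply Subtype.ext
    show ConjClasses.mk ((repP cu : G) * ((Quotient.out (ConjClasses.mk (⟨x * v * x⁻¹, hv'C⟩ :
      ↥(Subgroup.centralizer ({repP cu} : Set G)))) : ↥(Subgroup.centralizer ({repP cu} : Set G))) : G)) =
      ConjClasses.mk g
    set w := (Quotient.out (ConjClasses.mk (⟨x * v * x⁻¹, hv'C⟩ :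
      ↥(Subgroup.centralizer ({repP cu} : Set G)))) : ↥(Subgroup.centralizer ({repP cu} : Set G))) with hw
    have hwc : ConjClasses.mk w = ConjClasses.mk ⟨x * v * x⁻¹, hv'C⟩ := Quotient.out_eq _
    obtain ⟨c, hc⟩ := isConj_iff.mp (ConjClasses.mk_eq_mk_iff_isConj.mp hwc)
    have hc' : (c : G) * (w : G) * (c : G)⁻¹ = x * v * x⁻¹ := by
      have := congrArg Subtype.val hc
      simpa using this
    have hcu' : (c : G) * (repP cu) = (repP cu) * (c : G) :=
      Subgroup.mem_centralizer_singleton_iff.mp c.2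
    rw [ConjClasses.mk_eq_mk_iff_isConj, isConj_iff]
    refine ⟨x⁻¹ * (c : G), ?_⟩
    have h1 : (c : G) * ((repP cu) * (w : G)) * (c : G)⁻¹ = (x * u * x⁻¹) * (x * v * x⁻¹) := by
      rw [← hc', hx]
      calc (c : G) * ((repP cu) * (w : G)) * (c : G)⁻¹
          = ((c : G) * (repP cu)) * (w : G) * (c : G)⁻¹ := by group
        _ = ((repP cu) * (c : G)) * (w : G) * (c : G)⁻¹ := by rw [hcu']
        _ = (repP cu) * ((c : G) * (w : G) * (c : G)⁻¹) := by group
    calc x⁻¹ * (c : G) * ((repP cu) * (w : G)) * (x⁻¹ * (c : G))⁻¹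
        = x⁻¹ * ((c : G) * ((repP cu) * (w : G)) * (c : G)⁻¹) * x := by group
      _ = x⁻¹ * ((x * u * x⁻¹) * (x * v * x⁻¹)) * x := by rw [h1]
      _ = u * v := by group
      _ = g := huv
  have hcard := Nat.card_le_card_of_surjective f hfsurj
  refine le_trans hcard ?_
  rw [Nat.card_sigma]

/-- Burnside orbit count for `N_G(P)` acting on `P`:
`p · k_p(G) · |N| ≤ |N| |P| + |C_N(P)| (p-1) |P|`. -/
theorem kp_orbit_bound {G : Type*} [Group G] [Finite G] {p : ℕ} [Fact p.Prime] (P : Sylow p G) :
    p * (Nat.card (PClasses p G) * Nat.card ↥(Subgroup.normalizer ((P : Subgroup G) : Set G))) ≤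
      Nat.card ↥(Subgroup.normalizer ((P : Subgroup G) : Set G)) * Nat.card ↥(P : Subgroup G) +
      Nat.card ↥((Subgroup.centralizer ((P : Subgroup G) : Set G)).subgroupOf
        (Subgroup.normalizer ((P : Subgroup G) : Set G))) * ((p - 1) * Nat.card ↥(P : Subgroup G)) := by
  classical
  have hpp : p.Prime := Fact.out
  -- orbits
  have hT : Nat.card (PClasses p G) ≤
      Nat.card (Quotient (MulAction.orbitRel ↥(Subgroup.normalizer ((P : Subgroup G) : Set G)) ↥(P : Subgroup G))) := by
    let F : Quotient (MulAction.orbitRel ↥(Subgroup.normalizer ((P : Subgroup G) : Set G)) ↥(P : Subgroup G)) →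
        PClasses p G :=
      Quotient.lift (fun x : ↥(P : Subgroup G) => (⟨ConjClasses.mk (x : G), mk_mem_pclasses P x x.2⟩ : PClasses p G))
        (by
          intro x y hxy
          have hxy' : x ∈ MulAction.orbit ↥(Subgroup.normalizer ((P : Subgroup G) : Set G)) y := hxy
          obtain ⟨g, hg⟩ := hxy'
          apply Subtype.ext
          simp only
          rw [ConjClasses.mk_eq_mk_iff_isConj, isConj_iff]
          refine ⟨(g : G)⁻¹, ?_⟩
          rw [← hg]
          have e : ((g • y : ↥(P : Subgroup G)) : G) = (g : G) * (y : G) * (g : G)⁻¹ := rfl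
          simp only [e]
          group)
    apply Nat.card_le_card_of_surjective F
    intro c
    obtain ⟨x, hxP, hxc⟩ := exists_mem_sylow_of_pclass P c
    exact ⟨Quotient.mk _ ⟨x, hxP⟩, Subtype.ext hxc⟩
  haveI : Fintype ↥(Subgroup.normalizer ((P : Subgroup G) : Set G)) := Fintype.ofFinite _
  haveI : Fintype ↥(P : Subgroup G) := Fintype.ofFinite _
  haveI : ∀ g : ↥(Subgroup.normalizer ((P : Subgroup G) : Set G)),
      Fintype (MulAction.fixedBy ↥(P : Subgroup G) g) := fun g => Fintype.ofFinite _
  haveI : Fintype (Quotient (MulAction.orbitRel ↥(Subgroup.normalizer ((P : Subgroup G) : Set G)) ↥(P : Subgroup G))) :=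
    Fintype.ofFinite _
  have hB := MulAction.sum_card_fixedBy_eq_card_orbits_mul_card_group
    ↥(Subgroup.normalizer ((P : Subgroup G) : Set G)) ↥(P : Subgroup G)
  -- the kernel
  set C : Subgroup ↥(Subgroup.normalizer ((P : Subgroup G) : Set G)) :=
    (Subgroup.centralizer ((P : Subgroup G) : Set G)).subgroupOf (Subgroup.normalizer ((P : Subgroup G) : Set G)) with hC
  obtain ⟨n, hn⟩ := P.isPGroup'.exists_card_eq
  -- fixed points as a subgroup
  have hfix : ∀ g : ↥(Subgroup.normalizer ((P : Subgroup G) : Set G)),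
      p * Fintype.card (MulAction.fixedBy ↥(P : Subgroup G) g) ≤
        Nat.card ↥(P : Subgroup G) + (if g ∈ C then (p - 1) * Nat.card ↥(P : Subgroup G) else 0) := by
    intro g
    set S : Subgroup ↥(P : Subgroup G) := (Subgroup.centralizer ({(g : G)} : Set G)).subgroupOf (P : Subgroup G) with hS
    have hcard : Fintype.card (MulAction.fixedBy ↥(P : Subgroup G) g) = Nat.card S := by
      rw [← Nat.card_eq_fintype_card]
      apply Nat.card_congr
      apply Equiv.subtypeEquivRight
      intro x
      rw [MulAction.mem_fixedBy, hS, Subgroup.mem_subgroupOf, Subgroup.mem_centralizer_iff]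
      constructor
      · intro h y hy
        rw [Set.mem_singleton_iff] at hy
        subst hy
        have h1 := congrArg Subtype.val h
        have h2 : (g : G) * (x : G) * (g : G)⁻¹ = (x : G) := h1
        calc (g : G) * (x : G) = ((g : G) * (x : G) * (g : G)⁻¹) * g := by group
          _ = (x : G) * g := by rw [h2]
      · intro h
        apply Subtype.ext
        have h1 := h (g : G) rfl
        show (g : G) * (x : G) * (g : G)⁻¹ = (x : G)
        rw [h1]; group
    rw [hcard]
    by_cases hg : g ∈ C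
    · rw [if_pos hg]
      have hle : Nat.card S ≤ Nat.card ↥(P : Subgroup G) := Subgroup.card_le_card_group S
      have hp1 : 1 ≤ p := hpp.one_lt.le
      calc p * Nat.card S ≤ p * Nat.card ↥(P : Subgroup G) := Nat.mul_le_mul_left _ hle
        _ = Nat.card ↥(P : Subgroup G) + (p - 1) * Nat.card ↥(P : Subgroup G) :=
          mul_eq_add_pred_mul p _ hp1
    · rw [if_neg hg, add_zero]
      have hSne : S ≠ ⊤ := by
        intro hS'
        apply hg
        rw [hC, Subgroup.mem_subgroupOf, Subgroup.mem_centralizer_iff]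
        intro y hy
        have : (⟨y, hy⟩ : ↥(P : Subgroup G)) ∈ S := by rw [hS']; trivial
        rw [hS, Subgroup.mem_subgroupOf, Subgroup.mem_centralizer_iff] at this
        exact (this (g : G) rfl).symm
      have hd : Nat.card S ∣ p ^ n := by rw [← hn]; exact Subgroup.card_subgroup_dvd_card S
      obtain ⟨j, hjn, hj⟩ := (Nat.dvd_prime_pow hpp).1 hd
      have hjlt : j < n := by
        rcases Nat.lt_or_ge j n with h | h
        · exact h
        · exfalso
          apply hSne
          apply Subgroup.eq_top_of_card_eq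
          rw [hj, hn, le_antisymm hjn h]
      rw [hj, hn, ← pow_succ']
      exact Nat.pow_le_pow_right hpp.pos hjlt
  -- sum up
  have hsum : p * ∑ g : ↥(Subgroup.normalizer ((P : Subgroup G) : Set G)),
      Fintype.card (MulAction.fixedBy ↥(P : Subgroup G) g) ≤
      Nat.card ↥(Subgroup.normalizer ((P : Subgroup G) : Set G)) * Nat.card ↥(P : Subgroup G) +
        Nat.card C * ((p - 1) * Nat.card ↥(P : Subgroup G)) := by
    rw [Finset.mul_sum]
    calc ∑ g : ↥(Subgroup.normalizer ((P : Subgroup G) : Set G)),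
          p * Fintype.card (MulAction.fixedBy ↥(P : Subgroup G) g)
        ≤ ∑ g : ↥(Subgroup.normalizer ((P : Subgroup G) : Set G)),
          (Nat.card ↥(P : Subgroup G) + (if g ∈ C then (p - 1) * Nat.card ↥(P : Subgroup G) else 0)) :=
          Finset.sum_le_sum (fun g _ => hfix g)
      _ = _ := by
          rw [Finset.sum_add_distrib, Finset.sum_const, sum_ite_mem_subgroup, Finset.card_univ,
            smul_eq_mul]
          simp only [Nat.card_eq_fintype_card]
  rw [hB] at hsum
  rw [← Nat.card_eq_fintype_card, ← Nat.card_eq_fintype_card] at hsum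
  calc p * (Nat.card (PClasses p G) * Nat.card ↥(Subgroup.normalizer ((P : Subgroup G) : Set G)))
      ≤ p * (Nat.card (Quotient (MulAction.orbitRel ↥(Subgroup.normalizer ((P : Subgroup G) : Set G))
          ↥(P : Subgroup G))) * Nat.card ↥(Subgroup.normalizer ((P : Subgroup G) : Set G))) :=
        Nat.mul_le_mul_left _ (Nat.mul_le_mul_right _ hT)
    _ ≤ _ := hsum

/-- if `|N_G(P) : C_G(P)| ≥ 3` (and not `p = 3 = |N:C|`), then `k_p(G) ≤ |P|/2`. -/
theorem kp_half_of_index {G : Type*} [Group G] [Finite G] {p : ℕ} [Fact p.Prime] (P : Sylow p G)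
    (hp3 : 3 ≤ p)
    (hm : 3 ≤ (Subgroup.centralizer ((P : Subgroup G) : Set G)).relIndex
      (Subgroup.normalizer ((P : Subgroup G) : Set G)))
    (h33 : ¬ ((Subgroup.centralizer ((P : Subgroup G) : Set G)).relIndex
      (Subgroup.normalizer ((P : Subgroup G) : Set G)) = 3 ∧ p = 3)) :
    2 * Nat.card (PClasses p G) ≤ Nat.card ↥(P : Subgroup G) := by
  have hB := kp_orbit_bound P
  set N := Subgroup.normalizer ((P : Subgroup G) : Set G) with hN
  set C : Subgroup ↥N := (Subgroup.centralizer ((P : Subgroup G) : Set G)).subgroupOf N with hC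
  have hidx : (Subgroup.centralizer ((P : Subgroup G) : Set G)).relIndex N = C.index := rfl
  rw [hidx] at hm h33
  have hcm : Nat.card C * C.index = Nat.card N := C.card_mul_index
  set k := Nat.card (PClasses p G) with hk
  set b := Nat.card ↥(P : Subgroup G) with hb
  set c := Nat.card C with hc
  set m := C.index with hmdef
  have hcpos : 0 < c := Nat.card_pos
  obtain ⟨q, hq⟩ : ∃ q, p = q + 1 := ⟨p - 1, by omega⟩
  have hq1 : p - 1 = q := by omega
  rw [hq1, ← hcm] at hB
  -- c * (p k m) ≤ c * (m b + q b)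
  have h1 : c * (p * (k * m)) ≤ c * (m * b + q * b) := by
    calc c * (p * (k * m)) = p * (k * (c * m)) := by ring
      _ ≤ c * m * b + c * (q * b) := hB
      _ = c * (m * b + q * b) := by ring
  have h2 : p * (k * m) ≤ m * b + q * b := Nat.le_of_mul_le_mul_left h1 hcpos
  have hA : 2 * (m + q) ≤ p * m := by
    have hq2 : 2 ≤ q := by omega
    by_cases hm3 : m = 3
    · have hp3' : p ≠ 3 := fun h => h33 ⟨hm3, h⟩
      have hq3 : 3 ≤ q := by omega
      rw [hm3, hq]; nlinarith
    · have hm4 : 4 ≤ m := by omega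
      rw [hq]; nlinarith
  have hpm : 0 < p * m := by positivity
  have h3 : (p * m) * (2 * k) ≤ (p * m) * b := by
    calc (p * m) * (2 * k) = 2 * (p * (k * m)) := by ring
      _ ≤ 2 * (m * b + q * b) := Nat.mul_le_mul_left _ h2
      _ = (2 * (m + q)) * b := by ring
      _ ≤ (p * m) * b := Nat.mul_le_mul_right _ hA
  exact Nat.le_of_mul_le_mul_left h3 hpm

/-- if `|N_G(P) : C_G(P)|` is a prime then `P` is abelian. -/
theorem sylow_le_centralizer_of_prime_relIndex {G : Type*} [Group G] [Finite G] {p : ℕ} [Fact p.Prime]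
    (P : Sylow p G) {q : ℕ} (hq : q.Prime)
    (hm : (Subgroup.centralizer ((P : Subgroup G) : Set G)).relIndex
      (Subgroup.normalizer ((P : Subgroup G) : Set G)) = q) :
    (P : Subgroup G) ≤ Subgroup.centralizer ((P : Subgroup G) : Set G) := by
  by_contra hcon
  obtain ⟨x, hxP, hxC⟩ := SetLike.not_le_iff_exists.mp hcon
  set N := Subgroup.normalizer ((P : Subgroup G) : Set G) with hN
  set C := Subgroup.centralizer ((P : Subgroup G) : Set G) with hC
  have hCN : C ≤ N := Subgroup.centralizer_le_normalizer _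
  have hPN : (P : Subgroup G) ≤ N := Subgroup.le_normalizer
  set D := N ⊓ Subgroup.centralizer ({x} : Set G) with hD
  have hCD : C ≤ D := by
    refine le_inf hCN ?_
    apply Subgroup.centralizer_le
    intro y hy
    rw [Set.mem_singleton_iff] at hy
    rw [hy]; exact hxP
  have hDN : D ≤ N := inf_le_left
  have hxD : x ∈ D := by
    refine Subgroup.mem_inf.2 ⟨hPN hxP, ?_⟩
    rw [Subgroup.mem_centralizer_singleton_iff]
  have hmul := Subgroup.relIndex_mul_relIndex C D N hCD hDN
  rw [hm] at hmul
  have hdvd : C.relIndex D ∣ q := Dvd.intro _ hmul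
  rcases (Nat.dvd_prime hq).mp hdvd with h1 | h1
  · rw [Subgroup.relIndex_eq_one] at h1
    exact hxC (h1 hxD)
  · rw [h1] at hmul
    have h2 : D.relIndex N = 1 := by
      have hq0 : 0 < q := hq.pos
      have : q * D.relIndex N = q * 1 := by rw [hmul, mul_one]
      exact Nat.eq_of_mul_eq_mul_left hq0 this
    rw [Subgroup.relIndex_eq_one] at h2
    apply hxC
    rw [hC, Subgroup.mem_centralizer_iff]
    intro y hy
    have hy' : y ∈ Subgroup.centralizer ({x} : Set G) := (Subgroup.mem_inf.1 (h2 (hPN hy))).2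
    rw [Subgroup.mem_centralizer_singleton_iff] at hy'
    exact hy'

/-- if `P` is abelian then `p ∤ |N_G(P) : C_G(P)|`. -/
theorem not_dvd_relIndex_of_le_centralizer {G : Type*} [Group G] [Finite G] {p : ℕ} [Fact p.Prime]
    (P : Sylow p G) (h : (P : Subgroup G) ≤ Subgroup.centralizer ((P : Subgroup G) : Set G)) :
    ¬ p ∣ (Subgroup.centralizer ((P : Subgroup G) : Set G)).relIndex
      (Subgroup.normalizer ((P : Subgroup G) : Set G)) := by
  intro hd
  have h1 : (Subgroup.centralizer ((P : Subgroup G) : Set G)).relIndex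
      (Subgroup.normalizer ((P : Subgroup G) : Set G)) ∣
      (P : Subgroup G).relIndex (Subgroup.normalizer ((P : Subgroup G) : Set G)) :=
    Subgroup.relIndex_dvd_of_le_left _ h
  have h2 : (P : Subgroup G).relIndex (Subgroup.normalizer ((P : Subgroup G) : Set G)) ∣
      (P : Subgroup G).index := Subgroup.relIndex_dvd_index_of_le Subgroup.le_normalizer
  exact P.not_dvd_index (hd.trans (h1.trans h2))

/-- Frattini argument: if `R ≤ K ⊴ G` and `R ≤ X`, then `|X : X ∩ K|` divides `|N_G(R) ∩ X|`. -/
theorem frattini_relIndex_dvd {G : Type*} [Group G] [Finite G] {r : ℕ} [Fact r.Prime] (R : Sylow r G)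
    (K : Subgroup G) [K.Normal] (hRK : (R : Subgroup G) ≤ K) (X : Subgroup G)
    (hRX : (R : Subgroup G) ≤ X) :
    K.relIndex X ∣ Nat.card ↥(Subgroup.normalizer ((R : Subgroup G) : Set G) ⊓ X) := by
  have hle : ((R.subtype hRX : Sylow r ↥X) : Subgroup ↥X) ≤ K.subgroupOf X := by
    rw [Sylow.coe_subtype]
    intro y hy
    rw [Subgroup.mem_subgroupOf] at hy ⊢
    exact hRK hy
  have hF := Sylow.normalizer_sup_eq_top' (R.subtype hRX) hle
  have hF' : (Subgroup.normalizer ((R : Subgroup G) : Set G)).subgroupOf X ⊔ K.subgroupOf X = ⊤ := by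
    rw [Subgroup.subgroupOf_normalizer_eq hRX]
    exact hF
  have h1 := Subgroup.relIndex_sup_right (H := (Subgroup.normalizer ((R : Subgroup G) : Set G)).subgroupOf X)
    (K := K.subgroupOf X)
  rw [hF', Subgroup.relIndex_top_right] at h1
  have h2 : K.relIndex X = (K.subgroupOf X).index := rfl
  rw [h2, h1]
  have h3 : (K.subgroupOf X).relIndex ((Subgroup.normalizer ((R : Subgroup G) : Set G)).subgroupOf X) ∣
      Nat.card ↥((Subgroup.normalizer ((R : Subgroup G) : Set G)).subgroupOf X) :=
    Subgroup.relIndex_dvd_card _ _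
  have h4 : Nat.card ↥((Subgroup.normalizer ((R : Subgroup G) : Set G)).subgroupOf X) =
      Nat.card ↥(Subgroup.normalizer ((R : Subgroup G) : Set G) ⊓ X) := by
    rw [← Subgroup.inf_subgroupOf_right]
    exact Nat.card_congr (Subgroup.subgroupOfEquivOfLe inf_le_right).toEquiv
  rw [← h4]
  exact h3

end Cfsg.Agent.helper9.KPiA
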