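import Mathlib
import Cfsg.Agent.Lib_helper9_KPiA

set_option autoImplicit false
set_option linter.style.haveILetI false
set_option linter.unusedSectionVars false
set_option linter.unusedVariables false

/-! The weighted class count for `S3898`: `G` with a normal 2-complement, `R` a Sylow `r`-subgroup
(`r` odd) with `|N_G(R) : C_G(R)| = 2`. -/

namespace Cfsg.Agent.helper9.KPiB

open Cfsg.Agent.helper19
open Cfsg.Agent.helper9.KPiA

universe u

/-- conjugate elements have centralizers of the same order. -/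
theorem card_centralizer_conj {G : Type*} [Group G] (c x : G) :
    Nat.card ↥(Subgroup.centralizer ({c * x * c⁻¹} : Set G)) =
      Nat.card ↥(Subgroup.centralizer ({x} : Set G)) := by
  apply Nat.card_congr
  refine ⟨fun y => ⟨c⁻¹ * y.1 * c, ?_⟩, fun y => ⟨c * y.1 * c⁻¹, ?_⟩, ?_, ?_⟩
  · have h := Subgroup.mem_centralizer_singleton_iff.mp y.2
    rw [Subgroup.mem_centralizer_singleton_iff]
    calc c⁻¹ * y.1 * c * x = c⁻¹ * (y.1 * (c * x * c⁻¹)) * c := by group
      _ = c⁻¹ * ((c * x * c⁻¹) * y.1) * c := by rw [h]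
      _ = x * (c⁻¹ * y.1 * c) := by group
  · have h := Subgroup.mem_centralizer_singleton_iff.mp y.2
    rw [Subgroup.mem_centralizer_singleton_iff]
    calc c * y.1 * c⁻¹ * (c * x * c⁻¹) = c * (y.1 * x) * c⁻¹ := by group
      _ = c * (x * y.1) * c⁻¹ := by rw [h]
      _ = c * x * c⁻¹ * (c * y.1 * c⁻¹) := by group
  · intro y
    apply Subtype.ext
    show c * (c⁻¹ * y.1 * c) * c⁻¹ = y.1
    group
  · intro y
    apply Subtype.ext
    show c⁻¹ * (c * y.1 * c⁻¹) * c = y.1
    group

/-- the weighted count of classes of `r`-elements when `|N_G(R) : C_G(R)| = 2` and `G` has a normal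
2-complement `K`. -/
theorem caseB_bound {G : Type u} [Group G] [Finite G] {r : ℕ} [Fact r.Prime] (hr3 : 3 ≤ r)
    (R : Sylow r G) (K : Subgroup G) [K.Normal] (hKodd : ¬ 2 ∣ Nat.card ↥K)
    (hKidx : ∃ n, K.index = 2 ^ n)
    (hm : (Subgroup.centralizer ((R : Subgroup G) : Set G)).relIndex
      (Subgroup.normalizer ((R : Subgroup G) : Set G)) = 2)
    [Fintype (PClasses r G)] :
    2 * ∑ c : PClasses r G,
        2 ^ (Nat.card ↥(Subgroup.centralizer ({repP c} : Set G))).factorization 2 ≤
      2 ^ (Nat.card G).factorization 2 * Nat.card ↥(R : Subgroup G) := by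
  classical
  have hrp : r.Prime := Fact.out
  set N := Subgroup.normalizer ((R : Subgroup G) : Set G) with hN
  set C := Subgroup.centralizer ((R : Subgroup G) : Set G) with hC
  have hCN : C ≤ N := Subgroup.centralizer_le_normalizer _
  have hRN : (R : Subgroup G) ≤ N := Subgroup.le_normalizer
  have hRC : (R : Subgroup G) ≤ C := sylow_le_centralizer_of_prime_relIndex R Nat.prime_two hm
  -- R ≤ K
  have hRK : (R : Subgroup G) ≤ K := by
    intro x hx
    obtain ⟨n, hn⟩ := hKidx
    obtain ⟨j, hj⟩ := (R.2 ⟨x, hx⟩)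
    have hj' : x ^ r ^ j = 1 := by
      have := congrArg Subtype.val hj
      simpa using this
    have h1 : orderOf (QuotientGroup.mk (s := K) x) ∣ r ^ j := by
      apply orderOf_dvd_of_pow_eq_one
      rw [← QuotientGroup.mk_pow, hj', QuotientGroup.mk_one]
    have h2 : orderOf (QuotientGroup.mk (s := K) x) ∣ 2 ^ n := by
      rw [← hn, Subgroup.index_eq_card]
      exact orderOf_dvd_natCard _
    have hco : Nat.Coprime (r ^ j) (2 ^ n) := by
      apply Nat.Coprime.pow
      rw [Nat.coprime_primes hrp Nat.prime_two]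
      omega
    have h3 : orderOf (QuotientGroup.mk (s := K) x) = 1 :=
      Nat.Coprime.eq_one_of_dvd (Nat.Coprime.coprime_dvd_left h1 hco) h2
    rw [orderOf_eq_one_iff, QuotientGroup.eq_one_iff] at h3
    exact h3
  have hc1 : ∀ x : G, 2 ^ (Nat.card ↥(Subgroup.centralizer ({x} : Set G))).factorization 2 ≤
      2 ^ (Nat.card G).factorization 2 := by
    intro x
    apply Nat.pow_le_pow_right (by norm_num)
    have hd : Nat.card ↥(Subgroup.centralizer ({x} : Set G)) ∣ Nat.card G :=
      Subgroup.card_subgroup_dvd_card _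
    exact (Nat.factorization_le_iff_dvd Nat.card_pos.ne' Nat.card_pos.ne').mpr hd 2
  have hc2 : ∀ x ∈ (R : Subgroup G), ¬ N ≤ Subgroup.centralizer ({x} : Set G) →
      2 * 2 ^ (Nat.card ↥(Subgroup.centralizer ({x} : Set G))).factorization 2 ≤
        2 ^ (Nat.card G).factorization 2 := by
    intro x hx hNX
    set X := Subgroup.centralizer ({x} : Set G) with hX
    have hRX : (R : Subgroup G) ≤ X := by
      intro y hy
      rw [hX, Subgroup.mem_centralizer_singleton_iff]
      have := (Subgroup.mem_centralizer_iff.mp (hRC hy)) x hx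
      exact this.symm
    have hCX : C ≤ X := by
      apply Subgroup.centralizer_le
      intro y hy
      rw [Set.mem_singleton_iff] at hy
      rw [hy]; exact hx
    have hfr := frattini_relIndex_dvd R K hRK X hRX
    have hmul := Subgroup.relIndex_mul_relIndex C (N ⊓ X) N (le_inf hCN hCX) inf_le_left
    rw [hm] at hmul
    have hne1 : (N ⊓ X).relIndex N ≠ 1 := by
      intro h
      rw [Subgroup.relIndex_eq_one] at h
      exact hNX (fun y hy => (Subgroup.mem_inf.1 (h hy)).2)
    have h2 : (N ⊓ X).relIndex N = 2 := by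
      have hd : (N ⊓ X).relIndex N ∣ 2 := Dvd.intro_left _ hmul
      rcases (Nat.dvd_prime Nat.prime_two).mp hd with h | h
      · exact absurd h hne1
      · exact h
    have hcardN : Nat.card ↥(N ⊓ X) * 2 = Nat.card ↥N := by
      have h3 := Subgroup.card_mul_index ((N ⊓ X).subgroupOf N)
      have e : Nat.card ↥((N ⊓ X).subgroupOf N) = Nat.card ↥(N ⊓ X) :=
        Nat.card_congr (Subgroup.subgroupOfEquivOfLe inf_le_left).toEquiv
      have e2 : ((N ⊓ X).subgroupOf N).index = 2 := h2
      rw [e, e2] at h3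
      exact h3
    have hcardX : Nat.card ↥(K.subgroupOf X) * K.relIndex X = Nat.card ↥X :=
      Subgroup.card_mul_index (K.subgroupOf X)
    have hoddKX : ¬ 2 ∣ Nat.card ↥(K.subgroupOf X) := by
      intro h
      apply hKodd
      have h4 : Nat.card ↥(K.subgroupOf X) ∣ Nat.card ↥K := by
        have e : Nat.card ↥(K.subgroupOf X) = Nat.card ↥(K ⊓ X) := by
          rw [← Subgroup.inf_subgroupOf_right]
          exact Nat.card_congr (Subgroup.subgroupOfEquivOfLe inf_le_right).toEquiv
        rw [e]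
        exact Subgroup.card_dvd_of_le inf_le_left
      exact h.trans h4
    set e := (Nat.card ↥X).factorization 2 with he
    have hpowX : 2 ^ e ∣ Nat.card ↥X := Nat.ordProj_dvd _ _
    have hpow2 : 2 ^ e ∣ K.relIndex X := by
      rw [← hcardX] at hpowX
      have hco : Nat.Coprime (2 ^ e) (Nat.card ↥(K.subgroupOf X)) := by
        apply Nat.Coprime.pow_left
        rw [Nat.Prime.coprime_iff_not_dvd Nat.prime_two]
        exact hoddKX
      exact hco.dvd_of_dvd_mul_left hpowX
    have hpow3 : 2 ^ (e + 1) ∣ Nat.card G := by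
      rw [pow_succ]
      have h5 : 2 ^ e * 2 ∣ Nat.card ↥(N ⊓ X) * 2 := Nat.mul_dvd_mul_right (hpow2.trans hfr) 2
      rw [hcardN] at h5
      exact h5.trans (Subgroup.card_subgroup_dvd_card N)
    have hle : e + 1 ≤ (Nat.card G).factorization 2 :=
      (Nat.prime_two.pow_dvd_iff_le_factorization Nat.card_pos.ne').mp hpow3
    calc 2 * 2 ^ e = 2 ^ (e + 1) := by rw [pow_succ]; ring
      _ ≤ 2 ^ (Nat.card G).factorization 2 := Nat.pow_le_pow_right (by norm_num) hle
  -- the count
  haveI : Fintype ↥(R : Subgroup G) := Fintype.ofFinite _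
  set F' : Subgroup ↥(R : Subgroup G) :=
    (Subgroup.centralizer (N : Set G)).subgroupOf (R : Subgroup G) with hF'
  let Φ : ↥(R : Subgroup G) → PClasses r G :=
    fun x => ⟨ConjClasses.mk (x : G), mk_mem_pclasses R x x.2⟩
  let h : ↥(R : Subgroup G) → ℕ := fun a => if a ∈ F' then 4 else 1
  have hh1 : ∀ a, 1 ≤ h a := by
    intro a
    simp only [h]
    split_ifs <;> norm_num
  set A := 2 ^ (Nat.card G).factorization 2 with hA
  have hper : ∀ (c : PClasses r G) [Fintype {a : ↥(R : Subgroup G) // Φ a = c}],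
      4 * 2 ^ (Nat.card ↥(Subgroup.centralizer ({repP c} : Set G))).factorization 2 ≤
      A * ∑ a : {a : ↥(R : Subgroup G) // Φ a = c}, h a.1 := by
    intro c inst
    obtain ⟨x, hxR, hxc⟩ := exists_mem_sylow_of_pclass R c
    have hconj : IsConj x (repP c) := by
      rw [← ConjClasses.mk_eq_mk_iff_isConj, hxc]; exact (mk_repP c).symm
    obtain ⟨d, hd⟩ := isConj_iff.mp hconj
    have hg : Nat.card ↥(Subgroup.centralizer ({repP c} : Set G)) =
        Nat.card ↥(Subgroup.centralizer ({x} : Set G)) := by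
      rw [← hd]; exact card_centralizer_conj d x
    rw [hg]
    set ex := (Nat.card ↥(Subgroup.centralizer ({x} : Set G))).factorization 2 with hex
    have hΦx : Φ ⟨x, hxR⟩ = c := Subtype.ext hxc
    by_cases hxF : (⟨x, hxR⟩ : ↥(R : Subgroup G)) ∈ F'
    · have hsingle : h ⟨x, hxR⟩ ≤ ∑ a : {a : ↥(R : Subgroup G) // Φ a = c}, h a.1 :=
        Finset.single_le_sum (f := fun a : {a : ↥(R : Subgroup G) // Φ a = c} => h a.1)
          (fun i _ => Nat.zero_le _)
          (Finset.mem_univ (⟨⟨x, hxR⟩, hΦx⟩ : {a : ↥(R : Subgroup G) // Φ a = c}))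
      have h4 : h ⟨x, hxR⟩ = 4 := if_pos hxF
      rw [h4] at hsingle
      calc 4 * 2 ^ ex ≤ 4 * A := Nat.mul_le_mul_left _ (hc1 x)
        _ = A * 4 := by ring
        _ ≤ _ := Nat.mul_le_mul_left _ hsingle
    · have hxcen : x ∉ Subgroup.centralizer (N : Set G) := by
        intro hcon; apply hxF; rw [hF', Subgroup.mem_subgroupOf]; exact hcon
      rw [Subgroup.mem_centralizer_iff] at hxcen
      push Not at hxcen
      obtain ⟨t, htN, htx⟩ := hxcen
      have hNX : ¬ N ≤ Subgroup.centralizer ({x} : Set G) := by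
        intro hcon
        have h5 := hcon htN
        rw [Subgroup.mem_centralizer_singleton_iff] at h5
        exact htx h5
      have hbound := hc2 x hxR hNX
      have hx'R : t * x * t⁻¹ ∈ (R : Subgroup G) := by
        have h6 := (Subgroup.mem_normalizer_iff.mp htN) x
        exact h6.mp hxR
      have hne : (⟨t * x * t⁻¹, hx'R⟩ : ↥(R : Subgroup G)) ≠ ⟨x, hxR⟩ := by
        intro hcon
        have h1 : t * x * t⁻¹ = x := congrArg Subtype.val hcon
        apply htx
        calc t * x = (t * x * t⁻¹) * t := by group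
          _ = x * t := by rw [h1]
      have hΦx' : Φ ⟨t * x * t⁻¹, hx'R⟩ = c := by
        apply Subtype.ext
        show ConjClasses.mk (t * x * t⁻¹) = c.1
        rw [← hxc, ConjClasses.mk_eq_mk_iff_isConj, isConj_iff]
        exact ⟨t⁻¹, by group⟩
      set a1 : {a : ↥(R : Subgroup G) // Φ a = c} := ⟨⟨x, hxR⟩, hΦx⟩ with ha1
      set a2 : {a : ↥(R : Subgroup G) // Φ a = c} := ⟨⟨t * x * t⁻¹, hx'R⟩, hΦx'⟩ with ha2
      have ha12 : a1 ≠ a2 := by
        intro hcon
        apply hne
        have h7 := congrArg (fun a : {a : ↥(R : Subgroup G) // Φ a = c} => a.1) hcon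
        exact h7.symm
      have hpair : 2 ≤ ∑ a : {a : ↥(R : Subgroup G) // Φ a = c}, h a.1 := by
        calc 2 ≤ h a1.1 + h a2.1 := by
              have h8 := hh1 a1.1
              have h9 := hh1 a2.1
              omega
          _ = ∑ a ∈ ({a1, a2} : Finset {a : ↥(R : Subgroup G) // Φ a = c}), h a.1 :=
              (Finset.sum_pair (f := fun a : {a : ↥(R : Subgroup G) // Φ a = c} => h a.1) ha12).symm
          _ ≤ ∑ a : {a : ↥(R : Subgroup G) // Φ a = c}, h a.1 :=
              Finset.sum_le_sum_of_subset (Finset.subset_univ _)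
      calc 4 * 2 ^ ex = 2 * (2 * 2 ^ ex) := by ring
        _ ≤ 2 * A := Nat.mul_le_mul_left _ hbound
        _ = A * 2 := by ring
        _ ≤ _ := Nat.mul_le_mul_left _ hpair
  have hsumh : ∑ a : ↥(R : Subgroup G), h a = Nat.card ↥(R : Subgroup G) + Nat.card ↥F' * 3 := by
    have h10 : ∀ a : ↥(R : Subgroup G), h a = 1 + (if a ∈ F' then 3 else 0) := by
      intro a
      simp only [h]
      split_ifs <;> norm_num
    rw [Finset.sum_congr rfl (fun a _ => h10 a), Finset.sum_add_distrib, Finset.sum_const,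
      sum_ite_mem_subgroup, Finset.card_univ, smul_eq_mul, mul_one]
    simp only [Nat.card_eq_fintype_card]
  have hF'le : Nat.card ↥F' * 3 ≤ Nat.card ↥(R : Subgroup G) := by
    have hne : F' ≠ ⊤ := by
      intro htop
      have hNC : N ≤ C := by
        intro n hn
        rw [hC, Subgroup.mem_centralizer_iff]
        intro y hy
        have hy' : (⟨y, hy⟩ : ↥(R : Subgroup G)) ∈ F' := by rw [htop]; trivial
        rw [hF', Subgroup.mem_subgroupOf, Subgroup.mem_centralizer_iff] at hy'
        exact (hy' n hn).symm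
      have h11 := Subgroup.relIndex_eq_one.mpr hNC
      rw [hm] at h11
      norm_num at h11
    have hidx1 : F'.index ≠ 1 := fun h => hne (Subgroup.index_eq_one.1 h)
    have hmulF := F'.card_mul_index
    obtain ⟨n, hn⟩ := R.isPGroup'.exists_card_eq
    have hdvd : F'.index ∣ r ^ n := by rw [← hn]; exact Subgroup.index_dvd_card F'
    obtain ⟨j, hjn, hj⟩ := (Nat.dvd_prime_pow hrp).1 hdvd
    have hj0 : j ≠ 0 := by
      rintro rfl
      exact hidx1 (by rw [hj, pow_zero])
    have h3 : 3 ≤ F'.index := by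
      rw [hj]
      calc 3 ≤ r := hr3
        _ = r ^ 1 := (pow_one r).symm
        _ ≤ r ^ j := Nat.pow_le_pow_right hrp.pos (Nat.one_le_iff_ne_zero.mpr hj0)
    calc Nat.card ↥F' * 3 ≤ Nat.card ↥F' * F'.index := Nat.mul_le_mul_left _ h3
      _ = _ := hmulF
  have hfib := Fintype.sum_fiberwise Φ h
  have htotal : 4 * ∑ c : PClasses r G,
      2 ^ (Nat.card ↥(Subgroup.centralizer ({repP c} : Set G))).factorization 2 ≤
      A * (Nat.card ↥(R : Subgroup G) + Nat.card ↥F' * 3) := by
    rw [Finset.mul_sum, ← hsumh, ← hfib, Finset.mul_sum]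
    exact Finset.sum_le_sum (fun c _ => @hper c _)
  set S := ∑ c : PClasses r G,
      2 ^ (Nat.card ↥(Subgroup.centralizer ({repP c} : Set G))).factorization 2 with hS
  set b := Nat.card ↥(R : Subgroup G) with hb
  have h12 : A * (b + Nat.card ↥F' * 3) ≤ A * (2 * b) := Nat.mul_le_mul_left _ (by omega)
  have h13 : 2 * (2 * S) ≤ 2 * (A * b) := by
    calc 2 * (2 * S) = 4 * S := by ring
      _ ≤ A * (b + Nat.card ↥F' * 3) := htotal
      _ ≤ A * (2 * b) := h12
      _ = 2 * (A * b) := by ring
  exact Nat.le_of_mul_le_mul_left h13 (by norm_num)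

end Cfsg.Agent.helper9.KPiB
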