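import Mathlib
import Cfsg.Statements.S3895
import Cfsg.Agent.Lib_helper20_K2b

set_option autoImplicit false
set_option linter.style.haveILetI false
open Cfsg

namespace Cfsg.Agent.S3895

open Cfsg.Agent.helper20.K2

universe u

theorem exists_iso {G : Type u} [Group G] [Finite G] (S : Sylow 2 G) (hev : Even (Nat.card S))
    (hlt : Nat.card S < 2 * Nat.card (K2 G)) : ∃ x ∈ S, x ≠ 1 ∧ Iso S x := by
  classical
  by_contra hno
  have hno' : ∀ x ∈ S, x ≠ 1 → ∃ g : G, g * x * g⁻¹ ∈ S ∧ g * x * g⁻¹ ≠ x := by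
    intro x hx hx1
    by_contra h
    apply hno
    refine ⟨x, hx, hx1, ?_⟩
    intro g hg
    by_contra hne
    exact h ⟨g, hg, hne⟩
  have h1 : ∀ c : K2 G, ∃ a : S, ConjClasses.mk (a : G) = c.1 := by
    intro c
    obtain ⟨y, hy, k, hk⟩ := exists_rep c
    obtain ⟨g, hg⟩ := Cfsg.Agent.helper12.bs_two_elt_conj_into_sylow S y k hk
    refine ⟨⟨g * y * g⁻¹, hg⟩, ?_⟩
    rw [← hy, ConjClasses.mk_eq_mk_iff_isConj, isConj_iff]
    exact ⟨g⁻¹, by group⟩
  choose a ha using h1
  have h2 : ∀ c : K2 G, c.1 ≠ ConjClasses.mk 1 →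
      ∃ b : S, ConjClasses.mk (b : G) = c.1 ∧ b ≠ a c := by
    intro c hc
    have ha1 : ((a c : S) : G) ≠ 1 := by
      intro h
      apply hc
      rw [← ha c, h]
    obtain ⟨g, hg, hne⟩ := hno' _ (a c).2 ha1
    refine ⟨⟨g * (a c : G) * g⁻¹, hg⟩, ?_, ?_⟩
    · rw [← ha c, ConjClasses.mk_eq_mk_iff_isConj, isConj_iff]
      exact ⟨g⁻¹, by group⟩
    · intro h
      apply hne
      exact congrArg Subtype.val h
  choose b hb using h2
  have hinj : Function.Injective (fun p : K2 G × Bool =>
      (if p.2 = true then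
        (if h : p.1.1 = ConjClasses.mk 1 then (Sum.inr () : S ⊕ Unit) else Sum.inl (b p.1 h))
      else Sum.inl (a p.1) : S ⊕ Unit)) := by
    rintro ⟨c, i⟩ ⟨c', i'⟩ h
    simp only at h
    have hext : c.1 = c'.1 → c = c' := fun h => Subtype.ext h
    cases i <;> cases i'
    · simp only [Bool.false_eq_true, if_false] at h
      have h3 : a c = a c' := Sum.inl.inj h
      have h4 : c = c' := hext (by rw [← ha c, ← ha c', h3])
      rw [h4]
    · simp only [Bool.false_eq_true, if_false, if_true] at h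
      split_ifs at h with h5
      have h3 : a c = b c' h5 := Sum.inl.inj h
      have h4 : c = c' := hext (by rw [← ha c, ← (hb c' h5).1, h3])
      subst h4
      exact absurd h3.symm (hb c h5).2
    · simp only [Bool.false_eq_true, if_false, if_true] at h
      split_ifs at h with h5
      have h3 : b c h5 = a c' := Sum.inl.inj h
      have h4 : c = c' := hext (by rw [← ha c', ← (hb c h5).1, h3])
      subst h4
      exact absurd h3 (hb c h5).2
    · simp only [if_true] at h
      split_ifs at h with h5 h6 h6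
      · have h4 : c = c' := hext (by rw [h5, h6])
        rw [h4]
      · have h3 : b c h5 = b c' h6 := Sum.inl.inj h
        have h4 : c = c' := hext (by rw [← (hb c h5).1, ← (hb c' h6).1, h3])
        rw [h4]
  have hcard := Nat.card_le_card_of_injective _ hinj
  rw [Nat.card_prod, Nat.card_sum, Nat.card_eq_fintype_card (α := Bool),
    Nat.card_eq_fintype_card (α := Unit)] at hcard
  simp only [Fintype.card_bool, Fintype.card_unit] at hcard
  obtain ⟨m, hm⟩ := hev
  omega

theorem main : ∀ (n : ℕ) (G : Type u) [Group G] [Finite G], Nat.card G = n →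
    2 ^ (Nat.card G).factorization 2 < 2 * Nat.card (K2 G) → Cfsg.HasNormalPComplement 2 G := by
  intro n
  induction n using Nat.strong_induction_on with
  | _ n ih =>
    intro G _ _ hcard hlt
    haveI : Fact (Nat.Prime 2) := ⟨Nat.prime_two⟩
    by_cases h2 : 2 ∣ Nat.card G
    swap
    · exact Cfsg.Agent.helper10.npc_of_not_dvd h2
    obtain ⟨S⟩ : Nonempty (Sylow 2 G) := inferInstance
    have hS : Nat.card S = 2 ^ (Nat.card G).factorization 2 := S.card_eq_multiplicity
    have hf1 : 1 ≤ (Nat.card G).factorization 2 :=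
      (Nat.Prime.dvd_iff_one_le_factorization Nat.prime_two Nat.card_pos.ne').1 h2
    have hev : Even (Nat.card S) := by
      rw [hS]
      exact (Nat.even_pow.2 ⟨even_two, by omega⟩)
    obtain ⟨x, hxS, hx1, hxi⟩ := exists_iso S hev (by rw [hS]; exact hlt)
    have hcomm := hxi.comm_mem_oddCore hxS
    have hOn : (oddCore G).Normal := Cfsg.Agent.helper1.pPrimeCore_normal 2
    have hOodd : Odd (Nat.card (oddCore G)) :=
      Nat.coprime_two_right.mp (Cfsg.Agent.helper1.pPrimeCore_coprime (G := G) 2)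
    by_cases hO : oddCore G = ⊥
    · -- x central
      have hxc : ∀ g : G, g * x = x * g := by
        intro g
        have := hcomm g
        rw [hO, Subgroup.mem_bot] at this
        calc g * x = (x * g * x⁻¹ * g⁻¹)⁻¹ * (x * g) := by group
          _ = x * g := by rw [this]; group
      obtain ⟨Z, hZdef⟩ : ∃ Z, Z = Subgroup.zpowers x := ⟨_, rfl⟩
      have hZc : Z ≤ Subgroup.center G := by
        rw [hZdef, Subgroup.zpowers_le, Subgroup.mem_center_iff]; exact hxc
      haveI hZn : Z.Normal := ⟨fun n hn g => by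
        have := Subgroup.mem_center_iff.mp (hZc hn) g
        have e : g * n * g⁻¹ = n := by rw [this]; group
        rw [e]; exact hn⟩
      have hZS : Z ≤ S := by rw [hZdef, Subgroup.zpowers_le]; exact hxS
      have hZ2 : IsPGroup 2 Z := S.isPGroup'.to_le hZS
      obtain ⟨j, hj⟩ := IsPGroup.iff_card.mp hZ2
      have hj0 : j ≠ 0 := by
        rintro rfl
        rw [pow_zero, Subgroup.card_eq_one] at hj
        apply hx1
        have : x ∈ Z := by rw [hZdef]; exact Subgroup.mem_zpowers x
        rw [hj] at this; exact Subgroup.mem_bot.mp this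
      have hmul : Nat.card G = Nat.card (G ⧸ Z) * Nat.card Z :=
        Subgroup.card_eq_card_quotient_mul_card_subgroup Z
      have hqpos : Nat.card (G ⧸ Z) ≠ 0 := Nat.card_pos.ne'
      have hfac : (Nat.card G).factorization 2 = (Nat.card (G ⧸ Z)).factorization 2 + j := by
        rw [hmul, Nat.factorization_mul hqpos (by rw [hj]; positivity), hj,
          Nat.Prime.factorization_pow Nat.prime_two]
        simp
      have hk := card_le_mul_quot (G := G) Z
      have hlt' : 2 ^ (Nat.card (G ⧸ Z)).factorization 2 < 2 * Nat.card (K2 (G ⧸ Z)) := by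
        rw [hfac, pow_add] at hlt
        rw [hj] at hk
        have hpos : 0 < 2 ^ j := by positivity
        have h3 : 2 ^ j * 2 ^ (Nat.card (G ⧸ Z)).factorization 2 <
            2 ^ j * (2 * Nat.card (K2 (G ⧸ Z))) := by nlinarith
        exact Nat.lt_of_mul_lt_mul_left h3
      have hlt2 : Nat.card (G ⧸ Z) < n := by
        rw [← hcard, hmul, hj]
        have h3 : 2 ≤ 2 ^ j := by
          calc 2 = 2 ^ 1 := by norm_num
            _ ≤ 2 ^ j := Nat.pow_le_pow_right (by norm_num) (by omega)
        have h4 : 0 < Nat.card (G ⧸ Z) := Nat.card_pos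
        nlinarith
      have := ih _ hlt2 (G ⧸ Z) rfl hlt'
      exact npc_of_quotient_central Z hZc hZ2 this
    · -- quotient by the odd core
      haveI := hOn
      have hmul : Nat.card G = Nat.card (G ⧸ oddCore G) * Nat.card (oddCore G) :=
        Subgroup.card_eq_card_quotient_mul_card_subgroup _
      have hnd : ¬ 2 ∣ Nat.card (oddCore G) := by
        intro h
        exact (Nat.not_even_iff_odd.mpr hOodd) (even_iff_two_dvd.mpr h)
      have hfac : (Nat.card G).factorization 2 = (Nat.card (G ⧸ oddCore G)).factorization 2 := by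
        rw [hmul, Nat.factorization_mul Nat.card_pos.ne' Nat.card_pos.ne']
        simp [Nat.factorization_eq_zero_of_not_dvd hnd]
      have hk := card_le_quot_of_odd (G := G) hOodd
      have hlt' : 2 ^ (Nat.card (G ⧸ oddCore G)).factorization 2 <
          2 * Nat.card (K2 (G ⧸ oddCore G)) := by
        rw [← hfac]; omega
      have hlt2 : Nat.card (G ⧸ oddCore G) < n := by
        rw [← hcard, hmul]
        have h3 : 1 < Nat.card (oddCore G) := (Subgroup.one_lt_card_iff_ne_bot _).mpr hO
        have h4 : 0 < Nat.card (G ⧸ oddCore G) := Nat.card_pos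
        nlinarith
      have := ih _ hlt2 (G ⧸ oddCore G) rfl hlt'
      exact Cfsg.Agent.helper10.npc_of_quotient_coprime (oddCore G)
        (Nat.coprime_two_right.mpr hOodd) this

/-- the map from classes of `P` to classes of 2-elements of `G` -/
noncomputable def clMap {G : Type u} [Group G] [Finite G] (P : Sylow 2 G)
    (c : ConjClasses ↥(P : Subgroup G)) : K2 G :=
  ⟨ConjClasses.map (P : Subgroup G).subtype c, by
    obtain ⟨s, rfl⟩ := ConjClasses.mk_surjective c
    show ∀ x ∈ (ConjClasses.mk ((s : G))).carrier, ∃ k : ℕ, orderOf x = 2 ^ k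
    rw [isTwo_mk_iff]
    obtain ⟨k, hk⟩ := P.isPGroup' s
    have h1 : (s : G) ^ 2 ^ k = 1 := by simpa using congrArg Subtype.val hk
    exact two_pow_of_dvd (orderOf_dvd_of_pow_eq_one h1)⟩

theorem clMap_mk {G : Type u} [Group G] [Finite G] (P : Sylow 2 G) (s : ↥(P : Subgroup G)) :
    (clMap P (ConjClasses.mk s)).1 = ConjClasses.mk (s : G) := rfl

theorem clMap_surjective {G : Type u} [Group G] [Finite G] (P : Sylow 2 G) :
    Function.Surjective (clMap P) := by
  intro c
  obtain ⟨y, hy, k, hk⟩ := exists_rep c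
  obtain ⟨g, hg⟩ := Cfsg.Agent.helper12.bs_two_elt_conj_into_sylow P y k hk
  refine ⟨ConjClasses.mk ⟨g * y * g⁻¹, hg⟩, ?_⟩
  apply Subtype.ext
  rw [clMap_mk, ← hy, ConjClasses.mk_eq_mk_iff_isConj, isConj_iff]
  exact ⟨g⁻¹, by group⟩

theorem clMap_injective {G : Type u} [Group G] [Finite G] (P : Sylow 2 G)
    (h : Cfsg.HasNormalPComplement 2 G) : Function.Injective (clMap P) := by
  haveI : Fact (Nat.Prime 2) := ⟨Nat.prime_two⟩
  obtain ⟨P0, N, hNn, hNP0⟩ := h
  haveI := hNn
  have hcop : (Nat.card N).Coprime 2 := Cfsg.Agent.helper10.card_coprime_of_isComplement' P0 N hNP0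
  have hP : Nat.card (P : Subgroup G) = Nat.card (P0 : Subgroup G) := by
    rw [P.card_eq_multiplicity, P0.card_eq_multiplicity]
  have hcm : Nat.card N * Nat.card (P : Subgroup G) = Nat.card G := by
    rw [hP]; exact hNP0.card_mul_card
  have hcop2 : (Nat.card N).Coprime (Nat.card (P : Subgroup G)) := by
    rw [P.card_eq_multiplicity]
    exact Nat.Coprime.pow_right _ hcop
  have hNP : N.IsComplement' (P : Subgroup G) := Subgroup.isComplement'_of_coprime hcm hcop2
  intro c c' hcc
  obtain ⟨s, rfl⟩ := ConjClasses.mk_surjective c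
  obtain ⟨s', rfl⟩ := ConjClasses.mk_surjective c'
  have h1 : (clMap P (ConjClasses.mk s)).1 = (clMap P (ConjClasses.mk s')).1 := by rw [hcc]
  rw [clMap_mk, clMap_mk, ConjClasses.mk_eq_mk_iff_isConj, isConj_iff] at h1
  obtain ⟨g, hg⟩ := h1
  have hgtop : g ∈ N ⊔ (P : Subgroup G) := by rw [hNP.sup_eq_top]; exact Subgroup.mem_top g
  obtain ⟨n, hn, u, hu, rfl⟩ := (Subgroup.mem_sup_of_normal_left).1 hgtop
  have h2 : u * (s : G) * u⁻¹ ∈ (P : Subgroup G) :=
    (P : Subgroup G).mul_mem ((P : Subgroup G).mul_mem hu s.2) ((P : Subgroup G).inv_mem hu)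
  have h3 : (u * (s : G) * u⁻¹)⁻¹ * (s' : G) ∈ N := by
    have e : (u * (s : G) * u⁻¹)⁻¹ * (s' : G) =
        ((u * (s : G) * u⁻¹)⁻¹ * n * (u * (s : G) * u⁻¹)⁻¹⁻¹) * n⁻¹ := by
      rw [← hg]; group
    rw [e]
    exact N.mul_mem (hNn.conj_mem _ hn _) (N.inv_mem hn)
  have h4 : (u * (s : G) * u⁻¹)⁻¹ * (s' : G) ∈ (P : Subgroup G) :=
    (P : Subgroup G).mul_mem ((P : Subgroup G).inv_mem h2) s'.2
  have h5 : (u * (s : G) * u⁻¹)⁻¹ * (s' : G) = 1 := by
    have hd := hNP.disjoint
    rw [Subgroup.disjoint_def] at hd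
    exact hd h3 h4
  have h6 : u * (s : G) * u⁻¹ = (s' : G) := by
    calc u * (s : G) * u⁻¹ = (u * (s : G) * u⁻¹) * ((u * (s : G) * u⁻¹)⁻¹ * (s' : G)) := by
          rw [h5, mul_one]
      _ = (s' : G) := by group
  rw [ConjClasses.mk_eq_mk_iff_isConj, isConj_iff]
  exact ⟨⟨u, hu⟩, Subtype.ext h6⟩

/-- Let G be a finite group with Sylow 2-subgroup P, and write k₂(G) for the number of conjugacy classes of G consisting of 2-elements (elements of 2-power order, the identity included). Then k₂(G) > |P|/2 if and only if G has a normal 2-complement and P has more than |P|/2 conjugacy classes. -/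
theorem result {G : Type*} [Group G] [Finite G] (P : Sylow 2 G) :
    Nat.card ↥(P : Subgroup G) < 2 * Nat.card {c : ConjClasses G // ∀ x ∈ c.carrier, ∃ k : ℕ, orderOf x = 2 ^ k} ↔
      Cfsg.HasNormalPComplement 2 G ∧ Nat.card ↥(P : Subgroup G) < 2 * Nat.card (ConjClasses ↥(P : Subgroup G)) := by
  haveI : Fact (Nat.Prime 2) := ⟨Nat.prime_two⟩
  haveI : Finite (ConjClasses ↥(P : Subgroup G)) := Quotient.finite _
  constructor
  · intro h
    have hP : Nat.card (P : Subgroup G) = 2 ^ (Nat.card G).factorization 2 := P.card_eq_multiplicity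
    refine ⟨main _ G rfl (by rw [← hP]; exact h), ?_⟩
    have h1 : Nat.card (K2 G) ≤ Nat.card (ConjClasses ↥(P : Subgroup G)) :=
      Nat.card_le_card_of_surjective _ (clMap_surjective P)
    have h2 : Nat.card ↥(P : Subgroup G) < 2 * Nat.card (K2 G) := h
    omega
  · rintro ⟨hnpc, h⟩
    have h1 : Nat.card (ConjClasses ↥(P : Subgroup G)) ≤ Nat.card (K2 G) :=
      Nat.card_le_card_of_injective _ (clMap_injective P hnpc)
    show Nat.card ↥(P : Subgroup G) < 2 * Nat.card (K2 G)
    omega

end Cfsg.Agent.S3895
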