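import Mathlib
import Cfsg.Prelude.Def_OddOrderLocal
import Cfsg.Prelude.Def_Transfer
import Cfsg.Agent.S3895
import Cfsg.Agent.Lib_helper9_KPiB

set_option autoImplicit false
set_option linter.style.haveILetI false
set_option linter.unusedSectionVars false
set_option linter.unusedVariables false

/-! `S3898`: if `2 ∈ π` and `k_π(G) > |G|_π / 2` then `G` has a normal `π`-complement and an abelian
Hall `π \ {2}`-subgroup. -/

namespace Cfsg.Agent.helper9.KPiC

open Cfsg.Agent.helper19
open Cfsg.Agent.helper9.KPiA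
open Cfsg.Agent.helper9.KPiB
open Cfsg.Agent.S4106 (kS_le)
open scoped commutatorElement

universe u

/-- the local step: for odd `r ∈ π`, `N_G(R) ≤ C_G(R)`. -/
theorem normalizer_le_centralizer_of_many {G : Type u} [Group G] [Finite G] (π : Finset ℕ)
    (hπ : ∀ r ∈ π, r.Prime) (h2 : 2 ∈ π)
    (hk : π.prod (fun r => r ^ (Nat.card G).factorization r) < 2 * Nat.card (KS π G))
    (K : Subgroup G) [K.Normal] (hKodd : ¬ 2 ∣ Nat.card ↥K) (hKidx : ∃ n, K.index = 2 ^ n)
    (r : ℕ) (hr : r ∈ π) (hr2 : r ≠ 2) [Fact r.Prime] (R : Sylow r G) :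
    Subgroup.normalizer ((R : Subgroup G) : Set G) ≤ Subgroup.centralizer ((R : Subgroup G) : Set G) := by
  classical
  have hrp : r.Prime := Fact.out
  have hr3 : 3 ≤ r := by
    have := hrp.two_le
    omega
  by_contra hNC
  have hm1 : (Subgroup.centralizer ((R : Subgroup G) : Set G)).relIndex
      (Subgroup.normalizer ((R : Subgroup G) : Set G)) ≠ 1 :=
    fun h => hNC (Subgroup.relIndex_eq_one.mp h)
  have hm0 : (Subgroup.centralizer ((R : Subgroup G) : Set G)).relIndex
      (Subgroup.normalizer ((R : Subgroup G) : Set G)) ≠ 0 := Subgroup.index_ne_zero_of_finite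
  haveI : Fintype (PClasses r G) := Fintype.ofFinite _
  have hprodr : π.prod (fun q => q ^ (Nat.card G).factorization q) =
      Nat.card (R : Subgroup G) * (π.erase r).prod (fun q => q ^ (Nat.card G).factorization q) := by
    rw [Sylow.card_eq_multiplicity,
      Finset.mul_prod_erase π (fun q => q ^ (Nat.card G).factorization q) hr]
  rcases Nat.lt_or_ge ((Subgroup.centralizer ((R : Subgroup G) : Set G)).relIndex
      (Subgroup.normalizer ((R : Subgroup G) : Set G))) 3 with hlt | hge
  · have hm : (Subgroup.centralizer ((R : Subgroup G) : Set G)).relIndex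
        (Subgroup.normalizer ((R : Subgroup G) : Set G)) = 2 := by omega
    have h2e : 2 ∈ π.erase r := Finset.mem_erase.2 ⟨fun h => hr2 h.symm, h2⟩
    have hsum := kS_insert_le_sum (π.erase r) r G
    rw [Finset.insert_erase hr] at hsum
    set E' := ((π.erase r).erase 2).prod (fun q => q ^ (Nat.card G).factorization q) with hE'
    have hterm : ∀ c : PClasses r G,
        Nat.card (KS (π.erase r) ↥(Subgroup.centralizer ({repP c} : Set G))) ≤
        2 ^ (Nat.card ↥(Subgroup.centralizer ({repP c} : Set G))).factorization 2 * E' := by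
      intro c
      refine le_trans (kS_le (π.erase r) (fun q hq => hπ q (Finset.mem_of_mem_erase hq)) _) ?_
      rw [← Finset.mul_prod_erase (π.erase r)
        (fun q => q ^ (Nat.card ↥(Subgroup.centralizer ({repP c} : Set G))).factorization q) h2e]
      apply Nat.mul_le_mul_left
      apply Finset.prod_le_prod
      · intro q _; exact Nat.zero_le _
      · intro q hq
        apply Nat.pow_le_pow_right
          (hπ q (Finset.mem_of_mem_erase (Finset.mem_of_mem_erase hq))).pos
        have hd : Nat.card ↥(Subgroup.centralizer ({repP c} : Set G)) ∣ Nat.card G :=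
          Subgroup.card_subgroup_dvd_card _
        exact (Nat.factorization_le_iff_dvd Nat.card_pos.ne' Nat.card_pos.ne').mpr hd q
    have hB := caseB_bound hr3 R K hKodd hKidx hm
    set S := ∑ c : PClasses r G,
      2 ^ (Nat.card ↥(Subgroup.centralizer ({repP c} : Set G))).factorization 2 with hS
    have hsum2 : Nat.card (KS π G) ≤ S * E' := by
      refine le_trans hsum ?_
      rw [hS, Finset.sum_mul]
      exact Finset.sum_le_sum (fun c _ => hterm c)
    have hprod2 : (π.erase r).prod (fun q => q ^ (Nat.card G).factorization q) =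
        2 ^ (Nat.card G).factorization 2 * E' := by
      rw [hE', Finset.mul_prod_erase (π.erase r) (fun q => q ^ (Nat.card G).factorization q) h2e]
    rw [hprodr, hprod2] at hk
    have hfin : 2 * Nat.card (KS π G) ≤
        Nat.card (R : Subgroup G) * (2 ^ (Nat.card G).factorization 2 * E') := by
      calc 2 * Nat.card (KS π G) ≤ 2 * (S * E') := Nat.mul_le_mul_left _ hsum2
        _ = (2 * S) * E' := by ring
        _ ≤ (2 ^ (Nat.card G).factorization 2 * Nat.card (R : Subgroup G)) * E' :=
          Nat.mul_le_mul_right _ hB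
        _ = Nat.card (R : Subgroup G) * (2 ^ (Nat.card G).factorization 2 * E') := by ring
    omega
  · have h33 : ¬ ((Subgroup.centralizer ((R : Subgroup G) : Set G)).relIndex
        (Subgroup.normalizer ((R : Subgroup G) : Set G)) = 3 ∧ r = 3) := by
      rintro ⟨h3, hr3'⟩
      have hRC := sylow_le_centralizer_of_prime_relIndex R Nat.prime_three h3
      have h4 := not_dvd_relIndex_of_le_centralizer R hRC
      rw [h3] at h4
      apply h4
      rw [hr3']
    have hhalf := kp_half_of_index R hr3 hge h33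
    have hmul := kS_le_mul (π.erase r) r (fun q hq => hπ q (Finset.mem_of_mem_erase hq)) G
    rw [Finset.insert_erase hr] at hmul
    rw [hprodr] at hk
    have hfin : 2 * Nat.card (KS π G) ≤ Nat.card (R : Subgroup G) *
        (π.erase r).prod (fun q => q ^ (Nat.card G).factorization q) := by
      calc 2 * Nat.card (KS π G)
          ≤ 2 * (Nat.card (PClasses r G) *
              (π.erase r).prod (fun q => q ^ (Nat.card G).factorization q)) :=
            Nat.mul_le_mul_left _ hmul
        _ = (2 * Nat.card (PClasses r G)) *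
              (π.erase r).prod (fun q => q ^ (Nat.card G).factorization q) := by ring
        _ ≤ _ := Nat.mul_le_mul_right _ hhalf
    omega

/-- `S3898`. -/
theorem kpi2_main {G : Type u} [Group G] [Finite G] (π : Finset ℕ) (hπ : ∀ r ∈ π, r.Prime)
    (h2 : 2 ∈ π)
    (hk : π.prod (fun r => r ^ (Nat.card G).factorization r) <
      2 * Nat.card {c : ConjClasses G // ∀ x ∈ c.carrier, ∀ r : ℕ, r.Prime → r ∣ orderOf x → r ∈ π}) :
    (∃ N : Subgroup G, N.Normal ∧ (∀ r : ℕ, r.Prime → r ∣ Nat.card ↥N → r ∉ π) ∧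
      ∀ r : ℕ, r.Prime → r ∣ N.index → r ∈ π) ∧
    ∃ H : Subgroup G, Cfsg.IsPiHall ((↑π : Set ℕ) \ {2}) H ∧ IsMulCommutative ↥H := by
  classical
  have hcardeq : Nat.card {c : ConjClasses G // ∀ x ∈ c.carrier, ∀ r : ℕ, r.Prime → r ∣ orderOf x → r ∈ π} =
      Nat.card (KS π G) := by
    apply Nat.card_congr
    apply Equiv.subtypeEquivRight
    intro c
    constructor
    · intro h q hq ⟨g, hg, hqg⟩
      exact h g (by rw [ConjClasses.mem_carrier_iff_mk_eq]; exact hg) q hq hqg
    · intro h x hx q hq hqx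
      exact h q hq ⟨x, by rwa [ConjClasses.mem_carrier_iff_mk_eq] at hx, hqx⟩
  rw [hcardeq] at hk
  haveI : Fact (Nat.Prime 2) := ⟨Nat.prime_two⟩
  obtain ⟨P⟩ : Nonempty (Sylow 2 G) := inferInstance
  have hmul2 := kS_le_mul (π.erase 2) 2 (fun q hq => hπ q (Finset.mem_of_mem_erase hq)) G
  rw [Finset.insert_erase h2] at hmul2
  have hprod2 : π.prod (fun q => q ^ (Nat.card G).factorization q) =
      Nat.card (P : Subgroup G) * (π.erase 2).prod (fun q => q ^ (Nat.card G).factorization q) := by
    rw [Sylow.card_eq_multiplicity,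
      Finset.mul_prod_erase π (fun q => q ^ (Nat.card G).factorization q) h2]
  have hk2 : Nat.card ↥(P : Subgroup G) < 2 * Nat.card (PClasses 2 G) := by
    have hk' := hk
    rw [hprod2] at hk'
    set E := (π.erase 2).prod (fun q => q ^ (Nat.card G).factorization q) with hE
    have h1 : Nat.card ↥(P : Subgroup G) * E < (2 * Nat.card (PClasses 2 G)) * E := by
      calc Nat.card ↥(P : Subgroup G) * E < 2 * Nat.card (KS π G) := hk'
        _ ≤ 2 * (Nat.card (PClasses 2 G) * E) := Nat.mul_le_mul_left _ hmul2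
        _ = (2 * Nat.card (PClasses 2 G)) * E := by ring
    exact Nat.lt_of_mul_lt_mul_right h1
  obtain ⟨P', K, hKn, hKc⟩ := ((Cfsg.Agent.S3895.result P).mp hk2).1
  haveI := hKn
  have hKodd : ¬ 2 ∣ Nat.card ↥K := by
    have h1 : (P' : Subgroup G).index = Nat.card ↥K := hKc.index_eq_card
    rw [← h1]
    exact P'.not_dvd_index
  have hKidx : ∃ n, K.index = 2 ^ n := by
    have h1 : K.index = Nat.card ↥(P' : Subgroup G) := hKc.symm.index_eq_card
    obtain ⟨n, hn⟩ := P'.isPGroup'.exists_card_eq
    exact ⟨n, by rw [h1, hn]⟩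
  have hL : ∀ r ∈ π.erase 2, ∃ L : Subgroup G, L.Normal ∧ ¬ r ∣ Nat.card L ∧
      (∀ q : ℕ, q.Prime → q ∣ L.index → q = r) ∧ commutator G ≤ L := by
    intro r hr'
    have hr : r ∈ π := Finset.mem_of_mem_erase hr'
    have hr2 : r ≠ 2 := Finset.ne_of_mem_erase hr'
    haveI : Fact r.Prime := ⟨hπ r hr⟩
    have hrp : r.Prime := hπ r hr
    obtain ⟨R⟩ : Nonempty (Sylow r G) := inferInstance
    have hNC := normalizer_le_centralizer_of_many π hπ h2 hk K hKodd hKidx r hr hr2 R
    refine ⟨(MonoidHom.transferSylow R hNC).ker, inferInstance,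
      MonoidHom.not_dvd_card_ker_transferSylow R hNC, ?_, ?_⟩
    · intro q hq hqd
      have hc := MonoidHom.ker_transferSylow_isComplement' R hNC
      have h1 : (MonoidHom.transferSylow R hNC).ker.index = Nat.card (R : Subgroup G) :=
        hc.symm.index_eq_card
      obtain ⟨k, hk'⟩ := R.2.exists_card_eq
      rw [h1, hk'] at hqd
      exact (Nat.prime_dvd_prime_iff_eq hq hrp).mp (hq.dvd_of_dvd_pow hqd)
    · rw [commutator_def, Subgroup.commutator_le]
      intro a _ b _
      rw [MonoidHom.mem_ker, map_commutatorElement]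
      have hcomm : ∀ x y : ↥(R : Subgroup G), x * y = y * x := fun x y =>
        Subtype.ext ((hNC (Subgroup.le_normalizer y.2)) x x.2)
      rw [commutatorElement_def, hcomm _ ((MonoidHom.transferSylow R hNC) b)]
      group
  obtain ⟨N₀, hN₀n, hN₀card, hN₀idx, hN₀c⟩ := exists_inter_comm (π.erase 2) hL
  haveI := hN₀n
  refine ⟨⟨K ⊓ N₀, inferInstance, ?_, ?_⟩, ?_⟩
  · intro r hrp hrd hrπ
    by_cases hr2 : r = 2
    · rw [hr2] at hrd
      exact hKodd (hrd.trans (Subgroup.card_dvd_of_le inf_le_left))
    · exact hN₀card r (Finset.mem_erase.2 ⟨hr2, hrπ⟩)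
        (hrd.trans (Subgroup.card_dvd_of_le inf_le_right))
  · intro q hq hqd
    have h1 : (K ⊓ N₀).index = K.relIndex N₀ * N₀.index := by
      rw [← Subgroup.inf_relIndex_right, Subgroup.relIndex_mul_index inf_le_right]
    rw [h1] at hqd
    rcases (Nat.Prime.dvd_mul hq).mp hqd with h | h
    · have h3 : K.relIndex N₀ ∣ K.index := Subgroup.relIndex_dvd_index_of_normal K N₀
      obtain ⟨n, hn⟩ := hKidx
      have h4 := h.trans h3
      rw [hn] at h4
      have h5 := (Nat.prime_dvd_prime_iff_eq hq Nat.prime_two).mp (hq.dvd_of_dvd_pow h4)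
      rw [h5]; exact h2
    · exact Finset.mem_of_mem_erase (hN₀idx q hq h)
  · have hcop : (Nat.card N₀).Coprime N₀.index := by
      apply Nat.coprime_of_dvd
      intro q hq hq1 hq2
      exact hN₀card q (hN₀idx q hq hq2) hq1
    obtain ⟨H, hH⟩ := Subgroup.exists_right_complement'_of_coprime hcop
    refine ⟨H, ⟨?_, ?_⟩, ⟨⟨fun a b => ?_⟩⟩⟩
    · intro q hq hqd
      have h6 : N₀.index = Nat.card H := hH.symm.index_eq_card
      rw [← h6] at hqd
      have hmem := hN₀idx q hq hqd
      exact ⟨Finset.mem_coe.2 (Finset.mem_of_mem_erase hmem),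
        fun h => (Finset.ne_of_mem_erase hmem) (Set.mem_singleton_iff.1 h)⟩
    · intro q _ hqπ hqd
      have h6 : H.index = Nat.card N₀ := hH.index_eq_card
      rw [h6] at hqd
      have hq' : q ∈ π.erase 2 :=
        Finset.mem_erase.2 ⟨fun h => hqπ.2 (Set.mem_singleton_iff.2 h), Finset.mem_coe.1 hqπ.1⟩
      exact hN₀card q hq' hqd
    · have h1 : ⁅(a : G), (b : G)⁆ ∈ N₀ := by
        apply hN₀c
        rw [commutator_def]
        exact Subgroup.commutator_mem_commutator (Subgroup.mem_top _) (Subgroup.mem_top _)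
      have h2' : ⁅(a : G), (b : G)⁆ ∈ H := by
        rw [commutatorElement_def]
        exact H.mul_mem (H.mul_mem (H.mul_mem a.2 b.2) (H.inv_mem a.2)) (H.inv_mem b.2)
      have h3 : ⁅(a : G), (b : G)⁆ ∈ N₀ ⊓ H := Subgroup.mem_inf.2 ⟨h1, h2'⟩
      rw [hH.disjoint.eq_bot, Subgroup.mem_bot, commutatorElement_eq_one_iff_mul_comm] at h3
      exact Subtype.ext h3

end Cfsg.Agent.helper9.KPiC
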