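import Mathlib
import Cfsg.Agent.Lib_helper9_NilA
import Cfsg.Agent.Lib_helper9_NilD

set_option autoImplicit false

/-! Structure and conjugacy of the nilpotent subgroups of `S_n`, `n ≡ 3 (mod 4)`, of the largest
possible order `3 * 2 ^ v (n - 3)`. -/

namespace Cfsg.Agent.helper9.Nil

open Equiv Cfsg.Agent.helper21.SylPerm

variable {n : ℕ}

/-- permutations fixing the support of `t` pointwise -/
def fixer (t : Perm (Fin n)) : Subgroup (Perm (Fin n)) :=
  (Perm.ofSubtype : Perm {x // x ∉ t.support} →* Perm (Fin n)).range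

theorem mem_fixer {t q : Perm (Fin n)} : q ∈ fixer t ↔ ∀ x, t x ≠ x → q x = x := by
  unfold fixer
  rw [Perm.mem_range_ofSubtype_iff]
  constructor
  · intro h x hx
    by_contra hq
    have h1 := h (Finset.mem_coe.mpr (Perm.mem_support.mpr hq))
    simp only [Set.mem_ofPred_eq] at h1
    exact h1 (Perm.mem_support.mpr hx)
  · intro h x hx
    have hx' : q x ≠ x := Perm.mem_support.mp (Finset.mem_coe.mp hx)
    simp only [Set.mem_ofPred_eq]
    intro ht
    exact hx' (h x (Perm.mem_support.mp ht))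

theorem card_fixer (t : Perm (Fin n)) : Nat.card (fixer t) = (n - t.support.card).factorial := by
  unfold fixer
  rw [← Nat.card_congr (MonoidHom.ofInjective
      (Perm.ofSubtype_injective (p := fun x => x ∉ t.support))).toEquiv,
    Nat.card_perm, Nat.card_eq_fintype_card, Fintype.card_subtype_compl, Fintype.card_coe,
    Fintype.card_fin]

theorem commute_of_mem_fixer {t q : Perm (Fin n)} (h : q ∈ fixer t) : Commute q t := by
  rw [mem_fixer] at h
  apply Perm.Disjoint.commute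
  intro x
  by_cases hx : t x = x
  · right; exact hx
  · left; exact h x hx

theorem conj_mem_fixer {t q : Perm (Fin n)} (g : Perm (Fin n)) (h : q ∈ fixer t) :
    g * q * g⁻¹ ∈ fixer (g * t * g⁻¹) := by
  rw [mem_fixer] at h ⊢
  intro x hx
  have h1 : t (g⁻¹ x) ≠ g⁻¹ x := by
    intro h2
    apply hx
    simp only [Perm.mul_apply]
    rw [h2]; simp
  have h3 := h _ h1
  simp only [Perm.mul_apply]
  rw [h3]; simp

theorem fix_of_commute {t q : Perm (Fin n)} (ht : t.IsThreeCycle) (hc : Commute q t)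
    (e : ℕ) (hq : q ^ (2 ^ e) = 1) : q ∈ fixer t := by
  rw [mem_fixer]
  intro x hx
  have hcyc := ht.isCycle
  have hqx : t (q x) ≠ q x := by
    intro h
    apply hx
    have h1 := congrArg (fun f : Perm (Fin n) => f x) hc.eq
    simp only [Perm.mul_apply] at h1
    have h2 : q (t x) = q x := by rw [h1]; exact h
    exact q.injective h2
  obtain ⟨i, hi⟩ := hcyc.exists_pow_eq hx hqx
  have key : ∀ r : ℕ, (q ^ r) x = (t ^ (i * r)) x := by
    intro r
    induction r with
    | zero => simp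
    | succ r ih =>
      rw [pow_succ', Perm.mul_apply, ih]
      have hc' : Commute q (t ^ (i * r)) := hc.pow_right _
      have h1 := congrArg (fun f : Perm (Fin n) => f x) hc'.eq
      simp only [Perm.mul_apply] at h1
      rw [h1, ← hi, ← Perm.mul_apply, ← pow_add]
      congr 2
  have h1 := key (2 ^ e)
  rw [hq] at h1
  have h2 : t ^ (i * 2 ^ e) = 1 := (hcyc.pow_eq_one_iff' hx).mpr h1.symm
  have h3 : 3 ∣ i * 2 ^ e := by
    rw [← ht.orderOf]; exact orderOf_dvd_of_pow_eq_one h2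
  have h4 : 3 ∣ i := by
    have hcop : Nat.Coprime 3 (2 ^ e) := Nat.Coprime.pow_right _ (by norm_num)
    exact hcop.dvd_of_dvd_mul_right h3
  have h5 : t ^ i = 1 := by
    obtain ⟨j, rfl⟩ := h4
    rw [pow_mul, ← ht.orderOf, pow_orderOf_eq_one, one_pow]
  rw [← hi, h5]; rfl

theorem v_mono {a b : ℕ} (h : a ≤ b) : v a ≤ v b := by
  have h1 := v_add_le a (b - a)
  rw [Nat.add_sub_cancel' h] at h1
  omega

theorem max_structure (hn : n % 4 = 3) (N : Subgroup (Perm (Fin n))) (hN : Group.IsNilpotent N)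
    (hc : Nat.card N = 3 * 2 ^ v (n - 3)) :
    ∃ (t : Perm (Fin n)) (Q : Subgroup (Perm (Fin n))), t.IsThreeCycle ∧ Q ≤ fixer t ∧
      Nat.card Q = 2 ^ v (n - 3) ∧ N = Subgroup.zpowers t ⊔ Q := by
  classical
  haveI : Fact (Nat.Prime 3) := ⟨Nat.prime_three⟩
  haveI : Fact (Nat.Prime 2) := ⟨Nat.prime_two⟩
  have h3 : 3 ∣ Nat.card N := by rw [hc]; exact Dvd.intro _ rfl
  obtain ⟨t0, ht0⟩ := exists_prime_orderOf_dvd_card' 3 h3
  set t : Perm (Fin n) := (t0 : Perm (Fin n)) with htdef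
  have hto : orderOf t = 3 := by rw [htdef, Subgroup.orderOf_coe]; exact ht0
  obtain ⟨S⟩ : Nonempty (Sylow 2 N) := inferInstance
  set Q : Subgroup (Perm (Fin n)) := (S : Subgroup N).map N.subtype with hQdef
  have hQN : Q ≤ N := by
    rintro _ ⟨y, _, rfl⟩; exact y.2
  have hfac : (Nat.card N).factorization 2 = v (n - 3) := by
    rw [hc, Nat.factorization_mul (by norm_num) (by positivity),
      Nat.Prime.factorization_pow Nat.prime_two]
    simp [Nat.factorization_eq_zero_of_not_dvd]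
  have hQc : Nat.card Q = 2 ^ v (n - 3) := by
    rw [hQdef, Subgroup.card_map_of_injective (Subgroup.subtype_injective N),
      S.card_eq_multiplicity, hfac]
  have hQ2 : ∀ q ∈ Q, ∃ e : ℕ, q ^ (2 ^ e) = 1 := by
    rintro _ ⟨y, hy, rfl⟩
    obtain ⟨e, he⟩ := S.2 ⟨y, hy⟩
    refine ⟨e, ?_⟩
    have h1 := congrArg (fun z : (S : Subgroup N) => ((z : N) : Perm (Fin n))) he
    simpa using h1
  have hQt : ∀ q ∈ Q, Commute q t := by
    rintro _ ⟨y, hy, rfl⟩
    obtain ⟨e, he⟩ := S.2 ⟨y, hy⟩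
    have he' : y ^ (2 ^ e) = 1 := by
      have h1 := congrArg (fun z : (S : Subgroup N) => (z : N)) he
      simpa using h1
    have hcop : (orderOf y).Coprime (orderOf t0) := by
      rw [ht0]
      have hd : orderOf y ∣ 2 ^ e := orderOf_dvd_of_pow_eq_one he'
      exact Nat.Coprime.coprime_dvd_left hd (Nat.Coprime.pow_left _ (by norm_num))
    have h1 := commute_of_coprime hN y t0 hcop
    have h' := congrArg (fun z : N => (z : Perm (Fin n))) h1.eq
    exact h'
  obtain ⟨m, hm⟩ := Perm.cycleType_prime_order (σ := t) (by rw [hto]; exact Nat.prime_three)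
  rw [hto] at hm
  have hcent := Perm.nat_card_centralizer t
  have hsum : t.cycleType.sum = 3 * (m + 1) := by
    rw [hm, Multiset.sum_replicate]; simp [mul_comm]
  have hprod : t.cycleType.prod = 3 ^ (m + 1) := by rw [hm, Multiset.prod_replicate]
  have hfin : ∏ k ∈ t.cycleType.toFinset, (t.cycleType.count k).factorial
      = (m + 1).factorial := by
    have hfs : (Multiset.replicate (m + 1) 3).toFinset = {3} := by
      ext k
      rw [Multiset.mem_toFinset, Multiset.mem_replicate, Finset.mem_singleton]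
      constructor
      · intro h; exact h.2
      · intro h; exact ⟨Nat.succ_ne_zero m, h⟩
    rw [hm, hfs, Finset.prod_singleton, Multiset.count_replicate_self]
  rw [hsum, hprod, hfin, Fintype.card_fin] at hcent
  have h3m : 3 * (m + 1) ≤ n := by
    have h1 := t.sum_cycleType
    rw [hsum] at h1
    rw [h1]
    calc t.support.card ≤ (Finset.univ : Finset (Fin n)).card := Finset.card_le_univ _
      _ = n := by simp
  have hQcent : Q ≤ Subgroup.centralizer {t} := by
    intro q hq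
    rw [Subgroup.mem_centralizer_singleton_iff]
    exact (hQt q hq).eq
  have hdvd : 2 ^ v (n - 3) ∣ (n - 3 * (m + 1)).factorial * 3 ^ (m + 1) * (m + 1).factorial := by
    rw [← hQc, ← hcent]
    exact Subgroup.card_dvd_of_le hQcent
  have hdvd2 : 2 ^ v (n - 3) ∣ (n - 2 * (m + 1)).factorial := by
    have hcop : Nat.Coprime (2 ^ v (n - 3)) (3 ^ (m + 1)) := Nat.Coprime.pow _ _ (by norm_num)
    have h1 : 2 ^ v (n - 3) ∣ (n - 3 * (m + 1)).factorial * (m + 1).factorial := by
      have e1 : (n - 3 * (m + 1)).factorial * 3 ^ (m + 1) * (m + 1).factorial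
          = 3 ^ (m + 1) * ((n - 3 * (m + 1)).factorial * (m + 1).factorial) := by ring
      rw [e1] at hdvd
      exact hcop.dvd_of_dvd_mul_left hdvd
    refine h1.trans ?_
    have h2 := Nat.factorial_mul_factorial_dvd_factorial_add (n - 3 * (m + 1)) (m + 1)
    have e : n - 3 * (m + 1) + (m + 1) = n - 2 * (m + 1) := by omega
    rwa [e] at h2
  have hle : v (n - 3) ≤ v (n - 2 * (m + 1)) := le_v_of_dvd hdvd2
  have hm0 : m = 0 := by
    by_contra hne
    have hm1 : 1 ≤ m := Nat.one_le_iff_ne_zero.mpr hne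
    obtain ⟨j, hj⟩ : ∃ j, n = 4 * j + 3 := ⟨n / 4, by omega⟩
    have hj1 : 1 ≤ j := by omega
    obtain ⟨j', rfl⟩ : ∃ j', j = j' + 1 := ⟨j - 1, by omega⟩
    have e1 : n - 3 = 4 * (j' + 1) := by omega
    have h2 : v (n - 2 * (m + 1)) ≤ v (4 * j' + 3) := v_mono (by omega)
    have h4 := v_four_succ j'
    have h5 := v_four_add_three j'
    rw [e1] at hle
    omega
  subst hm0
  have ht3 : t.IsThreeCycle := by
    unfold Perm.IsThreeCycle
    rw [hm]; rfl
  refine ⟨t, Q, ht3, ?_, hQc, ?_⟩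
  · intro q hq
    obtain ⟨e, he⟩ := hQ2 q hq
    exact fix_of_commute ht3 (hQt q hq) e he
  · symm
    apply Subgroup.eq_of_le_of_card_ge
    · exact sup_le (by rw [Subgroup.zpowers_le]; exact t0.2) hQN
    · rw [hc]
      have hd1 : 3 ∣ Nat.card ↥(Subgroup.zpowers t ⊔ Q) := by
        have h1 := Subgroup.card_dvd_of_le
          (le_sup_left : Subgroup.zpowers t ≤ Subgroup.zpowers t ⊔ Q)
        rwa [Nat.card_zpowers, hto] at h1
      have hd2 : 2 ^ v (n - 3) ∣ Nat.card ↥(Subgroup.zpowers t ⊔ Q) := by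
        have h1 := Subgroup.card_dvd_of_le (le_sup_right : Q ≤ Subgroup.zpowers t ⊔ Q)
        rwa [hQc] at h1
      have hcop : Nat.Coprime 3 (2 ^ v (n - 3)) := Nat.Coprime.pow_right _ (by norm_num)
      exact Nat.le_of_dvd Nat.card_pos (hcop.mul_dvd_of_dvd_of_dvd hd1 hd2)

theorem sylow_conj_in {G : Type*} [Group G] [Finite G] (S A B : Subgroup G) (hA : A ≤ S)
    (hB : B ≤ S) (k : ℕ) (hS : (Nat.card S).factorization 2 = k) (hAc : Nat.card A = 2 ^ k)
    (hBc : Nat.card B = 2 ^ k) :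
    ∃ h ∈ S, A.map (MulAut.conj h).toMonoidHom = B := by
  haveI : Fact (Nat.Prime 2) := ⟨Nat.prime_two⟩
  have hA' : Nat.card (A.subgroupOf S) = 2 ^ (Nat.card S).factorization 2 := by
    rw [hS, Nat.card_congr (Subgroup.subgroupOfEquivOfLe hA).toEquiv, hAc]
  have hB' : Nat.card (B.subgroupOf S) = 2 ^ (Nat.card S).factorization 2 := by
    rw [hS, Nat.card_congr (Subgroup.subgroupOfEquivOfLe hB).toEquiv, hBc]
  let PA : Sylow 2 S := Sylow.ofCard (A.subgroupOf S) hA'
  let PB : Sylow 2 S := Sylow.ofCard (B.subgroupOf S) hB'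
  obtain ⟨h, hh⟩ := MulAction.exists_smul_eq S PA PB
  refine ⟨h.1, h.2, ?_⟩
  apply Subgroup.eq_of_le_of_card_ge
  · rintro _ ⟨a, ha, rfl⟩
    have h1 : (⟨a, hA ha⟩ : S) ∈ (PA : Subgroup S) := by
      show (⟨a, hA ha⟩ : S) ∈ A.subgroupOf S
      rw [Subgroup.mem_subgroupOf]; exact ha
    have h2 : h * ⟨a, hA ha⟩ * h⁻¹ ∈ (PB : Subgroup S) := by
      rw [← hh, Sylow.coe_subgroup_smul]
      have h3 := Subgroup.smul_mem_pointwise_smul _ (MulAut.conj h) _ h1
      simpa [MulAut.smul_def] using h3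
    have h4 : h * ⟨a, hA ha⟩ * h⁻¹ ∈ B.subgroupOf S := h2
    rw [Subgroup.mem_subgroupOf] at h4
    simpa using h4
  · rw [hBc, Subgroup.card_map_of_injective (MulEquiv.injective _), hAc]

theorem max_conj (hn : n % 4 = 3) (N₁ N₂ : Subgroup (Perm (Fin n)))
    (h1 : Group.IsNilpotent N₁) (h2 : Group.IsNilpotent N₂)
    (hc1 : Nat.card N₁ = 3 * 2 ^ v (n - 3)) (hc2 : Nat.card N₂ = 3 * 2 ^ v (n - 3)) :
    ∃ g : Perm (Fin n), N₂ = N₁.map (MulAut.conj g).toMonoidHom := by
  classical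
  obtain ⟨t₁, Q₁, ht₁, hQ₁, hQc₁, hN₁⟩ := max_structure hn N₁ h1 hc1
  obtain ⟨t₂, Q₂, ht₂, hQ₂, hQc₂, hN₂⟩ := max_structure hn N₂ h2 hc2
  have hconj : IsConj t₁ t₂ := by
    rw [Perm.isConj_iff_cycleType_eq, ht₁.cycleType, ht₂.cycleType]
  obtain ⟨g, hg⟩ := isConj_iff.mp hconj
  have hQ₁'f : Q₁.map (MulAut.conj g).toMonoidHom ≤ fixer t₂ := by
    rintro _ ⟨q, hq, rfl⟩
    rw [← hg]
    exact conj_mem_fixer g (hQ₁ hq)
  have hQ₁'c : Nat.card (Q₁.map (MulAut.conj g).toMonoidHom) = 2 ^ v (n - 3) := by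
    rw [Subgroup.card_map_of_injective (MulEquiv.injective _), hQc₁]
  have hS : (Nat.card (fixer t₂)).factorization 2 = v (n - 3) := by
    rw [card_fixer, ht₂.card_support, Nat.factorization_def _ Nat.prime_two]; rfl
  obtain ⟨h, hhS, hh⟩ := sylow_conj_in (fixer t₂) _ Q₂ hQ₁'f hQ₂ _ hS hQ₁'c hQc₂
  have hcomm : h * t₂ * h⁻¹ = t₂ := by
    have h3 := (commute_of_mem_fixer hhS).eq
    rw [h3]; group
  refine ⟨h * g, ?_⟩
  rw [hN₂, hN₁, Subgroup.map_sup, MonoidHom.map_zpowers]
  congr 1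
  · congr 1
    simp only [MulEquiv.coe_toMonoidHom, MulAut.conj_apply]
    rw [← hcomm, ← hg]; group
  · rw [← hh, Subgroup.map_map]
    congr 1

end Cfsg.Agent.helper9.Nil
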