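import Mathlib
import Cfsg.Agent.Lib_helper9_NilE

set_option autoImplicit false

/-! Structure and conjugacy of the nilpotent subgroups of `A_n`, `n ≡ 3 (mod 4)`, `n ≥ 7`, of
order `3 * 2 ^ (v (n - 3) - 1)`. -/

namespace Cfsg.Agent.helper9.Nil

open Equiv Cfsg.Agent.helper21.SylPerm

variable {n : ℕ}

theorem card_inf_alt {α : Type*} [Fintype α] [DecidableEq α] [Nontrivial α]
    (K : Subgroup (Perm α)) (hK : ¬ K ≤ alternatingGroup α) :
    Nat.card ↥(K ⊓ alternatingGroup α) * 2 = Nat.card K := by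
  have h1 := Subgroup.relIndex_mul_relIndex ⊥ (K ⊓ alternatingGroup α) K bot_le inf_le_left
  rw [Subgroup.relIndex_bot_left, Subgroup.relIndex_bot_left, Subgroup.inf_relIndex_left] at h1
  have h2 : (alternatingGroup α).relIndex K ∣ 2 := by
    have := Subgroup.relIndex_dvd_index_of_normal (alternatingGroup α) K
    rwa [alternatingGroup.index_eq_two] at this
  have h3 : (alternatingGroup α).relIndex K ≠ 1 := by
    intro h; exact hK (Subgroup.relIndex_eq_one.mp h)
  have h4 : (alternatingGroup α).relIndex K = 2 := by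
    rcases (Nat.dvd_prime Nat.prime_two).mp h2 with h | h
    · exact absurd h h3
    · exact h
  rw [h4] at h1
  exact h1

theorem max_structure_alt (hn : n % 4 = 3) (h7 : 7 ≤ n) (N : Subgroup (Perm (Fin n)))
    (hNA : N ≤ alternatingGroup (Fin n)) (hN : Group.IsNilpotent N)
    (hc : Nat.card N = 3 * 2 ^ (v (n - 3) - 1)) :
    ∃ (t : Perm (Fin n)) (Q : Subgroup (Perm (Fin n))), t.IsThreeCycle ∧ Q ≤ fixer t ∧
      Q ≤ alternatingGroup (Fin n) ∧
      Nat.card Q = 2 ^ (v (n - 3) - 1) ∧ N = Subgroup.zpowers t ⊔ Q := by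
  classical
  haveI : Fact (Nat.Prime 3) := ⟨Nat.prime_three⟩
  haveI : Fact (Nat.Prime 2) := ⟨Nat.prime_two⟩
  haveI : Nontrivial (Fin n) := Fin.nontrivial_iff_two_le.mpr (by omega)
  have h3 : 3 ∣ Nat.card N := by rw [hc]; exact Dvd.intro _ rfl
  obtain ⟨t0, ht0⟩ := exists_prime_orderOf_dvd_card' 3 h3
  set t : Perm (Fin n) := (t0 : Perm (Fin n)) with htdef
  have hto : orderOf t = 3 := by rw [htdef, Subgroup.orderOf_coe]; exact ht0
  obtain ⟨S⟩ : Nonempty (Sylow 2 N) := inferInstance
  set Q : Subgroup (Perm (Fin n)) := (S : Subgroup N).map N.subtype with hQdef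
  have hQN : Q ≤ N := by
    rintro _ ⟨y, _, rfl⟩; exact y.2
  have hfac : (Nat.card N).factorization 2 = v (n - 3) - 1 := by
    rw [hc, Nat.factorization_mul (by norm_num) (by positivity),
      Nat.Prime.factorization_pow Nat.prime_two]
    simp [Nat.factorization_eq_zero_of_not_dvd]
  have hQc : Nat.card Q = 2 ^ (v (n - 3) - 1) := by
    rw [hQdef, Subgroup.card_map_of_injective (Subgroup.subtype_injective N),
      S.card_eq_multiplicity, hfac]
  have hQ2 : ∀ q ∈ Q, ∃ e : ℕ, q ^ (2 ^ e) = 1 := by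
    rintro _ ⟨y, hy, rfl⟩
    obtain ⟨e, he⟩ := S.2 ⟨y, hy⟩
    refine ⟨e, ?_⟩
    have h1 := congrArg (fun z : (S : Subgroup N) => ((z : N) : Perm (Fin n))) he
    simpa using h1
  have hQt : ∀ q ∈ Q, Commute q t := by
    rintro _ ⟨y, hy, rfl⟩
    obtain ⟨e, he⟩ := S.2 ⟨y, hy⟩
    have he' : y ^ (2 ^ e) = 1 := by
      have h1 := congrArg (fun z : (S : Subgroup N) => (z : N)) he
      simpa using h1
    have hcop : (orderOf y).Coprime (orderOf t0) := by
      rw [ht0]
      have hd : orderOf y ∣ 2 ^ e := orderOf_dvd_of_pow_eq_one he'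
      exact Nat.Coprime.coprime_dvd_left hd (Nat.Coprime.pow_left _ (by norm_num))
    have h1 := commute_of_coprime hN y t0 hcop
    have h' := congrArg (fun z : N => (z : Perm (Fin n))) h1.eq
    exact h'
  obtain ⟨m, hm⟩ := Perm.cycleType_prime_order (σ := t) (by rw [hto]; exact Nat.prime_three)
  rw [hto] at hm
  have hcent := Perm.nat_card_centralizer t
  have hsum : t.cycleType.sum = 3 * (m + 1) := by
    rw [hm, Multiset.sum_replicate]; simp [mul_comm]
  have hprod : t.cycleType.prod = 3 ^ (m + 1) := by rw [hm, Multiset.prod_replicate]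
  have hfin : ∏ k ∈ t.cycleType.toFinset, (t.cycleType.count k).factorial
      = (m + 1).factorial := by
    have hfs : (Multiset.replicate (m + 1) 3).toFinset = {3} := by
      ext k
      rw [Multiset.mem_toFinset, Multiset.mem_replicate, Finset.mem_singleton]
      constructor
      · intro h; exact h.2
      · intro h; exact ⟨Nat.succ_ne_zero m, h⟩
    rw [hm, hfs, Finset.prod_singleton, Multiset.count_replicate_self]
  rw [hsum, hprod, hfin, Fintype.card_fin] at hcent
  have h3m : 3 * (m + 1) ≤ n := by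
    have h1 := t.sum_cycleType
    rw [hsum] at h1
    rw [h1]
    calc t.support.card ≤ (Finset.univ : Finset (Fin n)).card := Finset.card_le_univ _
      _ = n := by simp
  have hQA : Q ≤ alternatingGroup (Fin n) := hQN.trans hNA
  have hQcent : Q ≤ Subgroup.centralizer {t} ⊓ alternatingGroup (Fin n) := by
    intro q hq
    rw [Subgroup.mem_inf]
    refine ⟨?_, hQA hq⟩
    rw [Subgroup.mem_centralizer_singleton_iff]
    exact (hQt q hq).eq
  obtain ⟨j, hj⟩ : ∃ j, n = 4 * j + 3 := ⟨n / 4, by omega⟩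
  have hj1 : 1 ≤ j := by omega
  obtain ⟨j', rfl⟩ : ∃ j', j = j' + 1 := ⟨j - 1, by omega⟩
  have e1 : n - 3 = 4 * (j' + 1) := by omega
  have hv1 : 1 ≤ v (n - 3) := by
    have h4 := v_four_succ j'
    rw [e1]; omega
  have hm0 : m = 0 := by
    by_contra hne
    have hm1 : 1 ≤ m := Nat.one_le_iff_ne_zero.mpr hne
    have hnotle : ¬ Subgroup.centralizer {t} ≤ alternatingGroup (Fin n) := by
      intro hle
      have h1 := Perm.count_le_one_of_centralizer_le_alternating hle 3
      rw [hm, Multiset.count_replicate_self] at h1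
      omega
    have hcard2 := card_inf_alt (Subgroup.centralizer {t}) hnotle
    have hdvd : 2 ^ v (n - 3) ∣
        (n - 3 * (m + 1)).factorial * 3 ^ (m + 1) * (m + 1).factorial := by
      rw [← hcent, ← hcard2]
      have h1 := Subgroup.card_dvd_of_le hQcent
      rw [hQc] at h1
      have e2 : 2 ^ v (n - 3) = 2 ^ (v (n - 3) - 1) * 2 := by
        rw [← pow_succ]; congr 1; omega
      rw [e2]
      exact Nat.mul_dvd_mul_right h1 2
    have hdvd2 : 2 ^ v (n - 3) ∣ (n - 2 * (m + 1)).factorial := by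
      have hcop : Nat.Coprime (2 ^ v (n - 3)) (3 ^ (m + 1)) := Nat.Coprime.pow _ _ (by norm_num)
      have h1 : 2 ^ v (n - 3) ∣ (n - 3 * (m + 1)).factorial * (m + 1).factorial := by
        have e1 : (n - 3 * (m + 1)).factorial * 3 ^ (m + 1) * (m + 1).factorial
            = 3 ^ (m + 1) * ((n - 3 * (m + 1)).factorial * (m + 1).factorial) := by ring
        rw [e1] at hdvd
        exact hcop.dvd_of_dvd_mul_left hdvd
      refine h1.trans ?_
      have h2 := Nat.factorial_mul_factorial_dvd_factorial_add (n - 3 * (m + 1)) (m + 1)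
      have e : n - 3 * (m + 1) + (m + 1) = n - 2 * (m + 1) := by omega
      rwa [e] at h2
    have hle : v (n - 3) ≤ v (n - 2 * (m + 1)) := le_v_of_dvd hdvd2
    have h2 : v (n - 2 * (m + 1)) ≤ v (4 * j' + 3) := v_mono (by omega)
    have h4 := v_four_succ j'
    have h5 := v_four_add_three j'
    rw [e1] at hle
    omega
  subst hm0
  have ht3 : t.IsThreeCycle := by
    unfold Perm.IsThreeCycle
    rw [hm]; rfl
  refine ⟨t, Q, ht3, ?_, hQA, hQc, ?_⟩
  · intro q hq
    obtain ⟨e, he⟩ := hQ2 q hq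
    exact fix_of_commute ht3 (hQt q hq) e he
  · symm
    apply Subgroup.eq_of_le_of_card_ge
    · exact sup_le (by rw [Subgroup.zpowers_le]; exact t0.2) hQN
    · rw [hc]
      have hd1 : 3 ∣ Nat.card ↥(Subgroup.zpowers t ⊔ Q) := by
        have h1 := Subgroup.card_dvd_of_le
          (le_sup_left : Subgroup.zpowers t ≤ Subgroup.zpowers t ⊔ Q)
        rwa [Nat.card_zpowers, hto] at h1
      have hd2 : 2 ^ (v (n - 3) - 1) ∣ Nat.card ↥(Subgroup.zpowers t ⊔ Q) := by
        have h1 := Subgroup.card_dvd_of_le (le_sup_right : Q ≤ Subgroup.zpowers t ⊔ Q)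
        rwa [hQc] at h1
      have hcop : Nat.Coprime 3 (2 ^ (v (n - 3) - 1)) := Nat.Coprime.pow_right _ (by norm_num)
      exact Nat.le_of_dvd Nat.card_pos (hcop.mul_dvd_of_dvd_of_dvd hd1 hd2)

end Cfsg.Agent.helper9.Nil
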