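import Mathlib
import Cfsg.Agent.Lib_helper9_NilH

set_option autoImplicit false

/-! Conjugacy in `A_n` of the nilpotent subgroups of `A_n` of order `3 * 2 ^ (v (n - 3) - 1)`. -/

namespace Cfsg.Agent.helper9.Nil

open Equiv Cfsg.Agent.helper21.SylPerm

variable {n : ℕ}

/-- an odd permutation (a transposition) fixing the support of a three-cycle pointwise -/
theorem exists_odd_fixer (h5 : 5 ≤ n) (t : Perm (Fin n)) (ht : t.IsThreeCycle) :
    ∃ s ∈ fixer t, Perm.sign s = -1 := by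
  classical
  have hcard : 1 < (Finset.univ \ t.support).card := by
    rw [Finset.card_sdiff_of_subset (Finset.subset_univ _), ht.card_support, Finset.card_univ,
      Fintype.card_fin]
    omega
  obtain ⟨x, hx, y, hy, hxy⟩ := Finset.one_lt_card.mp hcard
  rw [Finset.mem_sdiff] at hx hy
  refine ⟨swap x y, ?_, Perm.sign_swap hxy⟩
  rw [mem_fixer]
  intro z hz
  have hzs : z ∈ t.support := Perm.mem_support.mpr hz
  apply swap_apply_of_ne_of_ne
  · rintro rfl; exact hx.2 hzs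
  · rintro rfl; exact hy.2 hzs

theorem max_conj_alt (hn : n % 4 = 3) (h7 : 7 ≤ n) (N₁ N₂ : Subgroup (Perm (Fin n)))
    (hA1 : N₁ ≤ alternatingGroup (Fin n)) (hA2 : N₂ ≤ alternatingGroup (Fin n))
    (h1 : Group.IsNilpotent N₁) (h2 : Group.IsNilpotent N₂)
    (hc1 : Nat.card N₁ = 3 * 2 ^ (v (n - 3) - 1)) (hc2 : Nat.card N₂ = 3 * 2 ^ (v (n - 3) - 1)) :
    ∃ g ∈ alternatingGroup (Fin n), N₂ = N₁.map (MulAut.conj g).toMonoidHom := by
  classical
  haveI : Nontrivial (Fin n) := Fin.nontrivial_iff_two_le.mpr (by omega)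
  obtain ⟨t₁, Q₁, ht₁, hQ₁, hQA₁, hQc₁, hN₁⟩ := max_structure_alt hn h7 N₁ hA1 h1 hc1
  obtain ⟨t₂, Q₂, ht₂, hQ₂, hQA₂, hQc₂, hN₂⟩ := max_structure_alt hn h7 N₂ hA2 h2 hc2
  have hconj : IsConj t₁ t₂ := by
    rw [Perm.isConj_iff_cycleType_eq, ht₁.cycleType, ht₂.cycleType]
  obtain ⟨g0, hg0⟩ := isConj_iff.mp hconj
  obtain ⟨s, hsf, hss⟩ := exists_odd_fixer (by omega) t₂ ht₂
  -- an even conjugating element
  obtain ⟨g, hgA, hg⟩ : ∃ g ∈ alternatingGroup (Fin n), g * t₁ * g⁻¹ = t₂ := by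
    rcases Int.units_eq_one_or (Perm.sign g0) with hs | hs
    · exact ⟨g0, Perm.mem_alternatingGroup.mpr hs, hg0⟩
    · refine ⟨s * g0, ?_, ?_⟩
      · rw [Perm.mem_alternatingGroup, map_mul, hss, hs]; rfl
      · have h3 := (commute_of_mem_fixer hsf).eq
        calc s * g0 * t₁ * (s * g0)⁻¹ = s * (g0 * t₁ * g0⁻¹) * s⁻¹ := by group
          _ = s * t₂ * s⁻¹ := by rw [hg0]
          _ = t₂ := by rw [h3]; group
  set S' : Subgroup (Perm (Fin n)) := fixer t₂ ⊓ alternatingGroup (Fin n) with hS'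
  have hQ₁'f : Q₁.map (MulAut.conj g).toMonoidHom ≤ S' := by
    rintro _ ⟨q, hq, rfl⟩
    rw [hS', Subgroup.mem_inf]
    constructor
    · rw [← hg]
      exact conj_mem_fixer g (hQ₁ hq)
    · simp only [MulEquiv.coe_toMonoidHom, MulAut.conj_apply]
      have hqA := hQA₁ hq
      rw [Perm.mem_alternatingGroup] at hqA hgA ⊢
      rw [map_mul, map_mul, map_inv, hqA, hgA]; rfl
  have hQ₂' : Q₂ ≤ S' := by
    intro q hq
    rw [hS', Subgroup.mem_inf]
    exact ⟨hQ₂ hq, hQA₂ hq⟩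
  have hQ₁'c : Nat.card (Q₁.map (MulAut.conj g).toMonoidHom) = 2 ^ (v (n - 3) - 1) := by
    rw [Subgroup.card_map_of_injective (MulEquiv.injective _), hQc₁]
  have hnotle : ¬ fixer t₂ ≤ alternatingGroup (Fin n) := by
    intro hle
    have h3 := hle hsf
    rw [Perm.mem_alternatingGroup, hss] at h3
    exact absurd h3 (by decide)
  have hS'card : Nat.card S' * 2 = (n - 3).factorial := by
    rw [hS', card_inf_alt _ hnotle, card_fixer, ht₂.card_support]
  have hS : (Nat.card S').factorization 2 = v (n - 3) - 1 := by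
    have h3 : ((n - 3).factorial).factorization 2 = v (n - 3) := by
      rw [Nat.factorization_def _ Nat.prime_two]; rfl
    rw [← hS'card, Nat.factorization_mul (Nat.card_pos.ne') (by norm_num)] at h3
    simp only [Finsupp.coe_add, Pi.add_apply, Nat.Prime.factorization_self Nat.prime_two] at h3
    omega
  obtain ⟨h, hhS, hh⟩ := sylow_conj_in S' _ Q₂ hQ₁'f hQ₂' _ hS hQ₁'c hQc₂
  rw [hS', Subgroup.mem_inf] at hhS
  have hcomm : h * t₂ * h⁻¹ = t₂ := by
    have h3 := (commute_of_mem_fixer hhS.1).eq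
    rw [h3]; group
  refine ⟨h * g, Subgroup.mul_mem _ hhS.2 hgA, ?_⟩
  rw [hN₂, hN₁, Subgroup.map_sup, MonoidHom.map_zpowers]
  congr 1
  · congr 1
    simp only [MulEquiv.coe_toMonoidHom, MulAut.conj_apply]
    rw [← hcomm, ← hg]; group
  · rw [← hh, Subgroup.map_map]
    congr 1

end Cfsg.Agent.helper9.Nil
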