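import Mathlib
import Cfsg.Agent.Lib_helper9_NilE

set_option autoImplicit false

/-! Existence of a nilpotent subgroup `P × C_3` of `A_n` (`n ≥ 3`), `P` a Sylow 2-subgroup of
`A_{n-3}`. -/

namespace Cfsg.Agent.helper9.Nil

open Equiv Cfsg.Agent.helper21.SylPerm

theorem exists_max_alt {n : ℕ} (hn3 : 3 ≤ n) (P : Sylow 2 (alternatingGroup (Fin (n - 3)))) :
    ∃ M : Subgroup (alternatingGroup (Fin n)), Group.IsNilpotent M ∧
      Nat.card M = 3 * Nat.card P ∧
      Nonempty (M ≃* (↥(P : Subgroup (alternatingGroup (Fin (n - 3)))) ×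
        Multiplicative (ZMod 3))) := by
  classical
  haveI : Fact (Nat.Prime 2) := ⟨Nat.prime_two⟩
  let a : Fin n := ⟨0, by omega⟩
  let b : Fin n := ⟨1, by omega⟩
  let c : Fin n := ⟨2, by omega⟩
  have hab : a ≠ b := by simp [a, b, Fin.ext_iff]
  have hac : a ≠ c := by simp [a, c, Fin.ext_iff]
  have hbc : b ≠ c := by simp [b, c, Fin.ext_iff]
  set t : Perm (Fin n) := swap a b * swap a c with ht
  have ht3 : t.IsThreeCycle := Perm.isThreeCycle_swap_mul_swap_same hab hac hbc
  have hto : orderOf t = 3 := ht3.orderOf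
  have hta : t a ≠ a := by
    have h1 : t a = c := by
      rw [ht, Perm.mul_apply, swap_apply_left, swap_apply_of_ne_of_ne hac.symm hbc.symm]
    rw [h1]; exact hac.symm
  have hcard : Fintype.card {x // x ∉ t.support} = n - 3 := by
    rw [Fintype.card_subtype_compl, Fintype.card_coe, ht3.card_support, Fintype.card_fin]
  let e : Fin (n - 3) ≃ {x // x ∉ t.support} := (Fintype.equivFinOfCardEq hcard).symm
  let ψ : Perm (Fin (n - 3)) →* Perm (Fin n) :=
    (Perm.ofSubtype).comp e.permCongrHom.toMonoidHom
  have hψinj : Function.Injective ψ :=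
    Perm.ofSubtype_injective.comp e.permCongrHom.injective
  have hψfix : ∀ σ, ψ σ ∈ fixer t := fun σ => ⟨_, rfl⟩
  have hψsign : ∀ σ, Perm.sign (ψ σ) = Perm.sign σ := by
    intro σ
    show Perm.sign (Perm.ofSubtype (e.permCongrHom σ)) = Perm.sign σ
    rw [Perm.sign_ofSubtype]
    show Perm.sign (e.permCongr σ) = Perm.sign σ
    exact Perm.sign_permCongr e σ
  let f : (P : Subgroup (alternatingGroup (Fin (n - 3)))) →* Perm (Fin n) :=
    ψ.comp ((alternatingGroup (Fin (n - 3))).subtype.comp
      (P : Subgroup (alternatingGroup (Fin (n - 3)))).subtype)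
  have hfinj : Function.Injective f :=
    hψinj.comp ((Subgroup.subtype_injective _).comp (Subgroup.subtype_injective _))
  have hfapp : ∀ p, f p = ψ ((p : alternatingGroup (Fin (n - 3))) : Perm (Fin (n - 3))) :=
    fun p => rfl
  let g : Multiplicative (ZMod 3) →* Perm (Fin n) :=
    { toFun := fun z => t ^ (Multiplicative.toAdd z).val
      map_one' := by simp
      map_mul' := by
        intro x y
        rw [← pow_add]
        have h1 : (Multiplicative.toAdd (x * y)).val =
            ((Multiplicative.toAdd x).val + (Multiplicative.toAdd y).val) % 3 := by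
          rw [toAdd_mul, ZMod.val_add]
        rw [h1]
        calc t ^ (((Multiplicative.toAdd x).val + (Multiplicative.toAdd y).val) % 3)
            = t ^ (((Multiplicative.toAdd x).val + (Multiplicative.toAdd y).val) % orderOf t) := by
              rw [hto]
          _ = t ^ ((Multiplicative.toAdd x).val + (Multiplicative.toAdd y).val) :=
              pow_mod_orderOf _ _ }
  have hgapp : ∀ z, g z = t ^ (Multiplicative.toAdd z).val := fun z => rfl
  have hginj : Function.Injective g := by
    intro x y hxy
    rw [hgapp, hgapp] at hxy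
    have hx : (Multiplicative.toAdd x).val < orderOf t := by rw [hto]; exact ZMod.val_lt _
    have hy : (Multiplicative.toAdd y).val < orderOf t := by rw [hto]; exact ZMod.val_lt _
    have h1 := pow_injOn_Iio_orderOf hx hy hxy
    exact Multiplicative.toAdd.injective (ZMod.val_injective 3 h1)
  have comm : ∀ (p : (P : Subgroup (alternatingGroup (Fin (n - 3)))))
      (z : Multiplicative (ZMod 3)), Commute (f p) (g z) := by
    intro p z
    rw [hgapp]
    exact (commute_of_mem_fixer (hψfix _)).pow_right _
  have hdisj : Disjoint f.range g.range := by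
    rw [Subgroup.disjoint_def]
    rintro x ⟨p, rfl⟩ ⟨z, hz⟩
    have hfix := mem_fixer.mp (hψfix ((p : alternatingGroup (Fin (n - 3))) : Perm (Fin (n - 3))))
    have h1 : (t ^ (Multiplicative.toAdd z).val) a = a := by
      rw [← hgapp, hz]
      exact hfix a hta
    have h2 := (ht3.isCycle.pow_eq_one_iff' hta).mpr h1
    rw [← hz, hgapp]; exact h2
  have hΦ : Function.Injective (f.noncommCoprod g comm) :=
    (MonoidHom.noncommCoprod_injective f g comm).mpr ⟨hfinj, hginj, hdisj⟩
  have hmem : ∀ x, (f.noncommCoprod g comm) x ∈ alternatingGroup (Fin n) := by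
    rintro ⟨p, z⟩
    rw [MonoidHom.noncommCoprod_apply, Perm.mem_alternatingGroup, map_mul, hfapp, hψsign, hgapp,
      map_pow, ht3.sign, one_pow, mul_one]
    exact Perm.mem_alternatingGroup.mp (p : alternatingGroup (Fin (n - 3))).2
  let Φ' : (↥(P : Subgroup (alternatingGroup (Fin (n - 3)))) × Multiplicative (ZMod 3)) →*
      alternatingGroup (Fin n) :=
    (f.noncommCoprod g comm).codRestrict (alternatingGroup (Fin n)) hmem
  have hΦ' : Function.Injective Φ' := by
    intro x y hxy
    apply hΦ
    have := congrArg (fun w : alternatingGroup (Fin n) => (w : Perm (Fin n))) hxy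
    exact this
  refine ⟨Φ'.range, ?_, ?_, ⟨(MonoidHom.ofInjective hΦ').symm⟩⟩
  · haveI : Group.IsNilpotent (P : Subgroup (alternatingGroup (Fin (n - 3)))) := P.2.isNilpotent
    exact Group.nilpotent_of_surjective Φ'.rangeRestrict Φ'.rangeRestrict_surjective
  · rw [← Nat.card_congr (MonoidHom.ofInjective hΦ').toEquiv, Nat.card_prod]
    simp [mul_comm]

end Cfsg.Agent.helper9.Nil
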