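import Mathlib
import Cfsg.Agent.Lib_helper9_NilI
import Cfsg.Agent.Lib_helper9_NilJ

set_option autoImplicit false

/-! Assembly of the `A_n` statement (`n ≡ 3 (mod 4)`, `n ≥ 7`) from the order bound. -/

namespace Cfsg.Agent.helper9.Nil

open Equiv Cfsg.Agent.helper21.SylPerm

theorem card_sylow_alt {k : ℕ} (hk : 2 ≤ k) (P : Sylow 2 (alternatingGroup (Fin k))) :
    Nat.card P = 2 ^ (v k - 1) := by
  classical
  haveI : Fact (Nat.Prime 2) := ⟨Nat.prime_two⟩
  haveI : Nontrivial (Fin k) := Fin.nontrivial_iff_two_le.mpr hk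
  have h1 : 2 * Nat.card (alternatingGroup (Fin k)) = k.factorial := by
    rw [Nat.card_eq_fintype_card, two_mul_card_alternatingGroup, Fintype.card_perm,
      Fintype.card_fin]
  have h3 : (k.factorial).factorization 2 = v k := by
    rw [Nat.factorization_def _ Nat.prime_two]; rfl
  rw [← h1, Nat.factorization_mul (by norm_num) (Nat.card_pos.ne')] at h3
  simp only [Finsupp.coe_add, Pi.add_apply, Nat.Prime.factorization_self Nat.prime_two] at h3
  rw [P.card_eq_multiplicity]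
  congr 1
  omega

theorem conj_alt_of_bound (n : ℕ) (hn : n % 4 = 3) (h7 : 7 ≤ n)
    (N₁ N₂ : Subgroup (alternatingGroup (Fin n))) (h1 : Group.IsNilpotent N₁)
    (h2 : Group.IsNilpotent N₂)
    (hc1 : Nat.card N₁ = 3 * 2 ^ (v (n - 3) - 1)) (hc2 : Nat.card N₂ = 3 * 2 ^ (v (n - 3) - 1)) :
    ∃ g : alternatingGroup (Fin n), N₂ = N₁.map (MulAut.conj g).toMonoidHom := by
  classical
  let A := alternatingGroup (Fin n)
  have hinj : Function.Injective A.subtype := Subgroup.subtype_injective A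
  have hle : ∀ N : Subgroup A, N.map A.subtype ≤ A := by
    rintro N _ ⟨y, _, rfl⟩; exact y.2
  have hnil : ∀ N : Subgroup A, Group.IsNilpotent N → Group.IsNilpotent (N.map A.subtype) := by
    intro N hN
    exact (Group.isNilpotent_congr (N.equivMapOfInjective A.subtype hinj)).mp hN
  have hcard : ∀ N : Subgroup A, Nat.card (N.map A.subtype) = Nat.card N := fun N =>
    Subgroup.card_map_of_injective hinj
  obtain ⟨g, hgA, hg⟩ := max_conj_alt hn h7 (N₁.map A.subtype) (N₂.map A.subtype)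
    (hle N₁) (hle N₂) (hnil N₁ h1) (hnil N₂ h2) (by rw [hcard, hc1]) (by rw [hcard, hc2])
  refine ⟨⟨g, hgA⟩, ?_⟩
  ext x
  constructor
  · intro hx
    have h3 : (x : Perm (Fin n)) ∈ N₂.map A.subtype := ⟨x, hx, rfl⟩
    rw [hg] at h3
    obtain ⟨_, ⟨y, hy, rfl⟩, hyx⟩ := h3
    refine ⟨y, hy, ?_⟩
    apply Subtype.ext
    simpa using hyx
  · rintro ⟨y, hy, rfl⟩
    have h3 : g * (y : Perm (Fin n)) * g⁻¹ ∈ N₂.map A.subtype := by
      rw [hg]
      exact ⟨(y : Perm (Fin n)), ⟨y, hy, rfl⟩, by simp⟩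
    obtain ⟨z, hz, hzx⟩ := h3
    have : z = (MulAut.conj (⟨g, hgA⟩ : A)) y := by
      apply Subtype.ext
      simpa using hzx
    rw [MulEquiv.coe_toMonoidHom, ← this]
    exact hz

end Cfsg.Agent.helper9.Nil
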