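import Mathlib
import Cfsg.Agent.Lib_helper9_NilK

set_option autoImplicit false

/-! The `A_n` statement (`n ≡ 3 (mod 4)`, `n ≥ 7`) assuming the order bound for nilpotent
subgroups of `A_n`. -/

namespace Cfsg.Agent.helper9.Nil

open Equiv Cfsg.Agent.helper21.SylPerm

theorem alt_statement_of_bound (n : ℕ) (hn : n % 4 = 3) (h7 : 7 ≤ n)
    (P : Sylow 2 (alternatingGroup (Fin (n - 3))))
    (hb : ∀ N : Subgroup (alternatingGroup (Fin n)), Group.IsNilpotent N →
      Nat.card N ≤ 3 * 2 ^ (v (n - 3) - 1)) :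
    (∀ N : Subgroup (alternatingGroup (Fin n)), Group.IsNilpotent N → Nat.card N ≤ 3 * Nat.card P) ∧
    (∃ M : Subgroup (alternatingGroup (Fin n)), Group.IsNilpotent M ∧ Nat.card M = 3 * Nat.card P ∧
      Nonempty (M ≃* (↥(P : Subgroup (alternatingGroup (Fin (n - 3)))) × Multiplicative (ZMod 3)))) ∧
    (∀ N₁ N₂ : Subgroup (alternatingGroup (Fin n)), Group.IsNilpotent N₁ → Group.IsNilpotent N₂ →
      Nat.card N₁ = 3 * Nat.card P → Nat.card N₂ = 3 * Nat.card P →
      ∃ g : alternatingGroup (Fin n), N₂ = N₁.map (MulAut.conj g).toMonoidHom) := by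
  have hP : Nat.card P = 2 ^ (v (n - 3) - 1) := card_sylow_alt (by omega) P
  refine ⟨?_, ?_, ?_⟩
  · intro N hN
    rw [hP]; exact hb N hN
  · exact exists_max_alt (by omega) P
  · intro N₁ N₂ h1 h2 hc1 hc2
    rw [hP] at hc1 hc2
    exact conj_alt_of_bound n hn h7 N₁ N₂ h1 h2 hc1 hc2

end Cfsg.Agent.helper9.Nil
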