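import Mathlib
import Cfsg.Agent.Lib_helper9_Offender

set_option autoImplicit false
set_option linter.style.haveILetI false
set_option linter.unusedSectionVars false

/-! Best offenders II: minimal best offenders are transvection groups (KS 9.3.2). -/

namespace Cfsg.Agent.helper9.Off

open Cfsg
open scoped commutatorElement

variable {G : Type*} [Group G] [Finite G] {p : ℕ} [Fact p.Prime]

/-- The commutator map `v ↦ [v, a]` on an abelian subgroup `V` normalized by `a`. -/
noncomputable def commHom (V : Subgroup G) (hVc : ∀ x ∈ V, ∀ y ∈ V, x * y = y * x) (a : G)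
    (ha : a ∈ Subgroup.normalizer (V : Set G)) : ↥V →* G :=
  MonoidHom.mk' (fun v => (v : G) * a * (v : G)⁻¹ * a⁻¹) (by
    intro v w
    have hv' : a * (v : G)⁻¹ * a⁻¹ ∈ V :=
      (Subgroup.mem_normalizer_iff.mp ha _).mp (V.inv_mem v.2)
    have hw' : a * (w : G)⁻¹ * a⁻¹ ∈ V :=
      (Subgroup.mem_normalizer_iff.mp ha _).mp (V.inv_mem w.2)
    have e1 : ((v * w : ↥V) : G) * a * ((v * w : ↥V) : G)⁻¹ * a⁻¹ =
        (v : G) * ((w : G) * (a * (w : G)⁻¹ * a⁻¹) * (a * (v : G)⁻¹ * a⁻¹)) := by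
      rw [Subgroup.coe_mul]; group
    have e2 : (v : G) * a * (v : G)⁻¹ * a⁻¹ * ((w : G) * a * (w : G)⁻¹ * a⁻¹) =
        (v : G) * ((a * (v : G)⁻¹ * a⁻¹) * ((w : G) * (a * (w : G)⁻¹ * a⁻¹))) := by group
    show ((v * w : ↥V) : G) * a * ((v * w : ↥V) : G)⁻¹ * a⁻¹ =
      (v : G) * a * (v : G)⁻¹ * a⁻¹ * ((w : G) * a * (w : G)⁻¹ * a⁻¹)
    rw [e1, e2]
    congr 1
    have hww : (w : G) * (a * (w : G)⁻¹ * a⁻¹) ∈ V := V.mul_mem w.2 hw'
    exact hVc _ hww _ hv')

theorem commHom_apply (V : Subgroup G) (hVc : ∀ x ∈ V, ∀ y ∈ V, x * y = y * x) (a : G)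
    (ha : a ∈ Subgroup.normalizer (V : Set G)) (v : ↥V) :
    commHom V hVc a ha v = ⁅(v : G), a⁆ := rfl

/-- For `A` of prime order normalizing the abelian group `V`: `|[V,A]|` divides `|V : C_V(A)|`. -/
theorem card_commutator_dvd {V A : Subgroup G} (hVc : ∀ x ∈ V, ∀ y ∈ V, x * y = y * x)
    (hAV : A ≤ Subgroup.normalizer (V : Set G)) (hA : Nat.card A = p) :
    Nat.card ↥⁅V, A⁆ * Nat.card ↥(V ⊓ Subgroup.centralizer (A : Set G)) ∣ Nat.card V := by
  have hp : p.Prime := Fact.out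
  -- a generator
  have hne : A ≠ ⊥ := by
    intro h
    rw [h, Subgroup.card_bot] at hA
    exact hp.one_lt.ne' hA.symm
  obtain ⟨a, haA, ha1⟩ : ∃ a ∈ A, a ≠ 1 := by
    by_contra h; push Not at h; exact hne ((Subgroup.eq_bot_iff_forall _).mpr h)
  have hzA : Subgroup.zpowers a = A := by
    apply Subgroup.eq_of_le_of_card_ge ((Subgroup.zpowers_le).mpr haA)
    rw [Nat.card_zpowers, hA]
    have h1 : orderOf a ∣ p := by rw [← hA]; exact Subgroup.orderOf_dvd_natCard A haA
    rcases (Nat.dvd_prime hp).mp h1 with h2 | h2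
    · exact absurd (orderOf_eq_one_iff.mp h2) ha1
    · rw [h2]
  have haN : a ∈ Subgroup.normalizer (V : Set G) := hAV haA
  set f := commHom V hVc a haN with hf
  -- the range is normalized by a
  have hconj : ∀ (i : ℕ) (v : ↥V), a ^ i * (v : G) * (a ^ i)⁻¹ ∈ V := by
    intro i v
    have h1 : a ^ i ∈ Subgroup.normalizer (V : Set G) := Subgroup.pow_mem _ haN i
    exact (Subgroup.mem_normalizer_iff.mp h1 _).mp v.2
  have hrange : ∀ (i : ℕ) (v : ↥V), ⁅(v : G), a ^ i⁆ ∈ f.range := by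
    intro i
    induction i with
    | zero =>
      intro v
      rw [pow_zero, commutatorElement_def]
      simp
    | succ i ih =>
      intro v
      have e1 : ⁅(v : G), a ^ (i + 1)⁆ =
          ⁅(v : G), a ^ i⁆ * ⁅a ^ i * (v : G) * (a ^ i)⁻¹, a⁆ := by
        rw [pow_succ, commutatorElement_def, commutatorElement_def, commutatorElement_def]
        have hc : a ^ i * a = a * a ^ i := (pow_succ a i).symm.trans (pow_succ' a i)
        have hc' : (a ^ i)⁻¹ * a⁻¹ = a⁻¹ * (a ^ i)⁻¹ := by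
          rw [← mul_inv_rev, ← mul_inv_rev, hc]
        calc (v : G) * (a ^ i * a) * (v : G)⁻¹ * (a ^ i * a)⁻¹
            = (v : G) * a ^ i * (v : G)⁻¹ * (a ^ i)⁻¹ *
              (a ^ i * (v : G) * a * (v : G)⁻¹ * (a⁻¹ * (a ^ i)⁻¹)) := by
              rw [mul_inv_rev]; group
          _ = (v : G) * a ^ i * (v : G)⁻¹ * (a ^ i)⁻¹ *
              (a ^ i * (v : G) * a * (v : G)⁻¹ * ((a ^ i)⁻¹ * a⁻¹)) := by rw [hc']
          _ = (v : G) * a ^ i * (v : G)⁻¹ * (a ^ i)⁻¹ *
              (a ^ i * (v : G) * ((a ^ i)⁻¹ * (a ^ i * a)) * (v : G)⁻¹ * ((a ^ i)⁻¹ * a⁻¹)) := by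
              group
          _ = (v : G) * a ^ i * (v : G)⁻¹ * (a ^ i)⁻¹ *
              (a ^ i * (v : G) * ((a ^ i)⁻¹ * (a * a ^ i)) * (v : G)⁻¹ * ((a ^ i)⁻¹ * a⁻¹)) := by
              rw [hc]
          _ = (v : G) * a ^ i * (v : G)⁻¹ * (a ^ i)⁻¹ *
              (a ^ i * (v : G) * (a ^ i)⁻¹ * a * (a ^ i * (v : G) * (a ^ i)⁻¹)⁻¹ * a⁻¹) := by
              group
      rw [e1]
      refine f.range.mul_mem (ih v) ?_
      exact ⟨⟨_, hconj i v⟩, rfl⟩
  have hcomm_le : ⁅V, A⁆ ≤ f.range := by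
    rw [Subgroup.commutator_le]
    intro v hv a' ha'
    rw [← hzA] at ha'
    obtain ⟨i, rfl⟩ := (Submonoid.mem_powers_iff _ _).mp (mem_powers_iff_mem_zpowers.mpr ha')
    exact hrange i ⟨v, hv⟩
  -- kernel
  have hker : Nat.card f.ker = Nat.card ↥(V ⊓ Subgroup.centralizer (A : Set G)) := by
    have h1 : f.ker = (V ⊓ Subgroup.centralizer (A : Set G)).subgroupOf V := by
      ext v
      rw [MonoidHom.mem_ker, Subgroup.mem_subgroupOf, Subgroup.mem_inf]
      constructor
      · intro h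
        refine ⟨v.2, ?_⟩
        have h2 : (v : G) * a * (v : G)⁻¹ * a⁻¹ = 1 := h
        have h3 : (v : G) * a = a * (v : G) := by
          calc (v : G) * a = ((v : G) * a * (v : G)⁻¹ * a⁻¹) * (a * (v : G)) := by group
            _ = a * (v : G) := by rw [h2, one_mul]
        rw [← hzA, Subgroup.mem_centralizer_iff]
        intro b hb
        obtain ⟨k, rfl⟩ := Subgroup.mem_zpowers_iff.mp hb
        exact ((Commute.zpow_right (show Commute (v : G) a from h3) k).eq).symm
      · rintro ⟨-, h⟩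
        rw [Subgroup.mem_centralizer_iff] at h
        have h3 := h a haA
        show (v : G) * a * (v : G)⁻¹ * a⁻¹ = 1
        rw [← h3]; group
    rw [h1]
    exact Nat.card_congr (Subgroup.subgroupOfEquivOfLe inf_le_left).toEquiv
  have h1 : f.ker.index = Nat.card f.range := Subgroup.index_ker f
  have h2 := Subgroup.index_mul_card f.ker
  rw [h1, hker] at h2
  rw [← h2]
  exact Nat.mul_dvd_mul_right (Subgroup.card_dvd_of_le hcomm_le) _

/-- KS 9.3.2: a minimal nontrivially acting best offender is a transvection group. -/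
theorem minimal_best {V H : Subgroup G} (S : Setup p V H) {A : Subgroup G} (hAH : A ≤ H)
    (hA : Cfsg.IsBestOffenderOn p V A) (hAV : ⁅V, A⁆ ≠ ⊥)
    (hmin : ∀ B : Subgroup G, B ≤ A → Cfsg.IsBestOffenderOn p V B → ⁅V, B⁆ ≠ ⊥ → B = A) :
    Nat.card A = p ∧ Nat.card ↥(⁅V, A⁆) = p ∧
      ((V ⊓ Subgroup.centralizer (A : Set G))).relIndex V = p := by
  have hp : p.Prime := Fact.out
  have hA1 : A ≠ ⊥ := by
    rintro rfl
    apply hAV
    rw [eq_bot_iff, Subgroup.commutator_le]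
    intro v _ a ha
    have : a = 1 := ha
    rw [this, commutatorElement_def]
    simp
  obtain ⟨B, hBA, hidx, hBbest, -, -⟩ := exists_best_hyperplane S hAH hA le_rfl hA1
  have hB1 : B = ⊥ := by
    by_contra hne
    have hVB : ⁅V, B⁆ ≠ ⊥ := by
      intro h
      rw [Subgroup.commutator_eq_bot_iff_le_centralizer] at h
      have h2 : B ≤ Subgroup.centralizer (V : Set G) := Subgroup.le_centralizer_iff.mp h
      apply hne
      rw [eq_bot_iff]
      intro b hb
      exact eq_one_of_mem_of_centralizes S (hAH (hBA hb)) (h2 hb)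
    have := hmin B hBA hBbest hVB
    rw [this, Subgroup.relIndex_self] at hidx
    exact hp.one_lt.ne' hidx.symm
  have hcardA : Nat.card A = p := by
    have := card_relIndex hBA
    rw [hidx, hB1, Subgroup.card_bot, one_mul] at this
    exact this.symm
  have hm := best_card S _ A rfl hAH hA
  unfold mV at hm
  rw [hcardA] at hm
  have hrel : (V ⊓ Subgroup.centralizer (A : Set G)).relIndex V = p := by
    have h1 := card_relIndex (A := V) (B := V ⊓ Subgroup.centralizer (A : Set G)) inf_le_left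
    rw [← hm, mul_comm] at h1
    exact Nat.eq_of_mul_eq_mul_right Nat.card_pos h1
  refine ⟨hcardA, ?_, hrel⟩
  have hVc : ∀ x ∈ V, ∀ y ∈ V, x * y = y * x := fun x hx y hy =>
    congrArg Subtype.val (S.hV.1.is_comm.comm ⟨x, hx⟩ ⟨y, hy⟩)
  have hdvd := card_commutator_dvd hVc (hAH.trans S.hHV) hcardA
  rw [← hm] at hdvd
  have hd2 : Nat.card ↥⁅V, A⁆ ∣ p := by
    have hpos : 0 < Nat.card ↥(V ⊓ Subgroup.centralizer (A : Set G)) := Nat.card_pos
    exact Nat.dvd_of_mul_dvd_mul_right hpos hdvd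
  rcases (Nat.dvd_prime hp).mp hd2 with h | h
  · exact absurd (Subgroup.card_eq_one.mp h) hAV
  · exact h

end Cfsg.Agent.helper9.Off
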