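import Mathlib
import Cfsg.Agent.Lib_helper9_Offender2
import Cfsg.Agent.S0606

set_option autoImplicit false
set_option linter.style.haveILetI false
set_option linter.unusedSectionVars false

/-! Best offenders III: decomposition into minimal best offenders (KS 9.3.3). -/

namespace Cfsg.Agent.helper9.Off

open Cfsg
open scoped commutatorElement

variable {G : Type*} [Group G] [Finite G] {p : ℕ} [Fact p.Prime]

/-- `M` is an independent join of best offenders of order `p`. -/
def Dec (p : ℕ) (V M : Subgroup G) : Prop :=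
  ∃ (ι : Type) (_ : Finite ι) (B : ι → Subgroup G),
    (∀ i, B i ≤ M ∧ Cfsg.IsBestOffenderOn p V (B i) ∧ Nat.card (B i) = p) ∧
      iSupIndep B ∧ ⨆ i, B i = M

theorem dec_extend {V M B₁ T : Subgroup G} (hMc : ∀ x ∈ M, ∀ y ∈ M, x * y = y * x)
    (hB₁M : B₁ ≤ M) (hTM : T ≤ M) (hTbest : Cfsg.IsBestOffenderOn p V T)
    (hTcard : Nat.card T = p) (hdisj : T ⊓ B₁ = ⊥) (hsup : T ⊔ B₁ = M) (hD : Dec p V B₁) :
    Dec p V M := by
  obtain ⟨ι, hfin, B, hB, hind, hsupB⟩ := hD
  refine ⟨Option ι, inferInstance, fun o => o.elim T B, ?_, ?_, ?_⟩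
  · intro o
    cases o with
    | none => exact ⟨hTM, hTbest, hTcard⟩
    | some i => exact ⟨(hB i).1.trans hB₁M, (hB i).2.1, (hB i).2.2⟩
  · intro o
    cases o with
    | none =>
      have e1 : (⨆ (j : Option ι) (_ : j ≠ none), (j.elim T B : Subgroup G)) = ⨆ i, B i := by
        rw [iSup_option]
        simp
      rw [e1, hsupB]
      exact disjoint_iff.mpr hdisj
    | some i =>
      have e1 : (⨆ (j : Option ι) (_ : j ≠ some i), (j.elim T B : Subgroup G)) =
          T ⊔ ⨆ (b : ι) (_ : b ≠ i), B b := by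
        rw [iSup_option]
        simp
      rw [e1]
      show Disjoint (B i) (T ⊔ ⨆ (b : ι) (_ : b ≠ i), B b)
      have hCle : (⨆ (b : ι) (_ : b ≠ i), B b) ≤ B₁ := by
        rw [← hsupB]
        exact iSup₂_le fun b _ => le_iSup B b
      have hTN : T ≤ Subgroup.normalizer ((⨆ (b : ι) (_ : b ≠ i), B b : Subgroup G) : Set G) := by
        refine le_trans ?_ (Subgroup.centralizer_le_normalizer _)
        intro t ht
        rw [Subgroup.mem_centralizer_iff]
        intro c hc
        exact hMc c (hB₁M (hCle hc)) t (hTM ht)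
      rw [Subgroup.disjoint_def]
      intro x hxB hxS
      have hxS' : x ∈ ((T ⊔ ⨆ (b : ι) (_ : b ≠ i), B b : Subgroup G) : Set G) := hxS
      rw [Subgroup.coe_mul_of_left_le_normalizer_right _ _ hTN] at hxS'
      obtain ⟨t, ht, c, hc, rfl⟩ := Set.mem_mul.mp hxS'
      have hBi : B i ≤ B₁ := by rw [← hsupB]; exact le_iSup B i
      have htB₁ : t ∈ B₁ := by
        have : t = (t * c) * c⁻¹ := by group
        rw [this]
        exact B₁.mul_mem (hBi hxB) (B₁.inv_mem (hCle hc))
      have ht1 : t = 1 := by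
        have : t ∈ T ⊓ B₁ := ⟨ht, htB₁⟩
        rw [hdisj] at this
        exact this
      rw [ht1, one_mul] at hxB ⊢
      exact (Subgroup.disjoint_def.mp (hind i)) hxB hc
  · rw [iSup_option]
    show T ⊔ ⨆ b, B b = M
    rw [hsupB, hsup]

/-- KS 9.3.3, general index type. -/
theorem dec_of_best {V H : Subgroup G} (S : Setup p V H) :
    ∀ (n : ℕ) (M : Subgroup G), Nat.card M = n → M ≤ H → Cfsg.IsBestOffenderOn p V M →
      Dec p V M := by
  have hp : p.Prime := Fact.out
  intro n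
  induction n using Nat.strong_induction_on with
  | _ n ih =>
  intro M hn hMH hM
  by_cases hM1 : M = ⊥
  · subst hM1
    refine ⟨Empty, inferInstance, fun e => e.elim, fun e => e.elim, fun e => e.elim, ?_⟩
    exact iSup_of_empty _
  obtain ⟨B₁, hB₁M, hidx₁, hB₁best, -, -⟩ := exists_best_hyperplane S hMH hM le_rfl hM1
  have hcard₁ := card_relIndex hB₁M
  rw [hidx₁] at hcard₁
  have hMe := best_elemAb S hMH hM
  have hMc : ∀ x ∈ M, ∀ y ∈ M, x * y = y * x := fun x hx y hy =>
    congrArg Subtype.val (hMe.1.is_comm.comm ⟨x, hx⟩ ⟨y, hy⟩)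
  by_cases hB₁ : B₁ = ⊥
  · rw [hB₁, Subgroup.card_bot, one_mul] at hcard₁
    refine ⟨Unit, inferInstance, fun _ => M, fun _ => ⟨le_rfl, hM, hcard₁.symm⟩, ?_, ?_⟩
    · intro i
      have : (⨆ (j : Unit) (_ : j ≠ i), M) = ⊥ := by
        simp
      rw [this]
      exact disjoint_bot_right
    · exact iSup_const
  obtain ⟨B₂, hB₂M, hidx₂, hB₂best, -, hB₁₂⟩ := exists_best_hyperplane S hMH hM hB₁M hB₁
  have hcard₂ := card_relIndex hB₂M
  rw [hidx₂] at hcard₂
  have hlt : ∀ B : Subgroup G, Nat.card B * p = Nat.card M → Nat.card B < n := by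
    intro B hB
    rw [← hn, ← hB]
    have : 0 < Nat.card B := Nat.card_pos
    have := hp.two_le
    nlinarith
  have hD₁ := ih _ (hlt B₁ hcard₁) B₁ rfl (hB₁M.trans hMH) hB₁best
  obtain ⟨ι', hfin', B', hB', -, hsup'⟩ := ih _ (hlt B₂ hcard₂) B₂ rfl (hB₂M.trans hMH) hB₂best
  have hex : ∃ j, ¬ (B' j ≤ B₁) := by
    by_contra h
    push Not at h
    have h1 : B₂ ≤ B₁ := by rw [← hsup']; exact iSup_le h
    have h2 : Nat.card B₁ = Nat.card B₂ := by
      have : Nat.card B₁ * p = Nat.card B₂ * p := by rw [hcard₁, hcard₂]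
      exact Nat.eq_of_mul_eq_mul_right hp.pos this
    have h3 : B₂ = B₁ := Subgroup.eq_of_le_of_card_ge h1 (le_of_eq h2)
    exact hB₁₂ (le_of_eq h3.symm)
  obtain ⟨j, hj⟩ := hex
  obtain ⟨hTB₂, hTbest, hTcard⟩ := hB' j
  have hTM : B' j ≤ M := hTB₂.trans hB₂M
  have hdisj : B' j ⊓ B₁ = ⊥ := by
    have h1 : Nat.card ↥(B' j ⊓ B₁) ∣ p := by
      rw [← hTcard]; exact Subgroup.card_dvd_of_le inf_le_left
    rcases (Nat.dvd_prime hp).mp h1 with h | h
    · exact Subgroup.card_eq_one.mp h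
    · exfalso
      apply hj
      have h2 : B' j ⊓ B₁ = B' j :=
        Subgroup.eq_of_le_of_card_ge inf_le_left (by rw [h, hTcard])
      rw [← h2]
      exact inf_le_right
  have hsup : B' j ⊔ B₁ = M := by
    apply Subgroup.eq_of_le_of_card_ge (sup_le hTM hB₁M)
    have h1 := Cfsg.Agent.S0606.card_mul_card_le (B' j) B₁
    rw [hdisj, Subgroup.card_bot, mul_one, hTcard] at h1
    rw [← hcard₁, mul_comm]
    exact h1
  exact dec_extend hMc hB₁M hTM hTbest hTcard hdisj hsup hD₁

/-- KS 9.3.3 in the `Fin k` form with minimality spelled out. -/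
theorem dec_fin {V H : Subgroup G} (S : Setup p V H) {A : Subgroup G} (hAH : A ≤ H)
    (hA : Cfsg.IsBestOffenderOn p V A) :
    ∃ (k : ℕ) (B : Fin k → Subgroup G),
      (∀ i, B i ≤ A ∧ Cfsg.IsBestOffenderOn p V (B i) ∧ ⁅V, B i⁆ ≠ ⊥ ∧
        ∀ C : Subgroup G, C ≤ B i → Cfsg.IsBestOffenderOn p V C → ⁅V, C⁆ ≠ ⊥ → C = B i) ∧
      iSupIndep B ∧ ⨆ i, B i = A := by
  have hp : p.Prime := Fact.out
  obtain ⟨ι, hfin, B, hB, hind, hsup⟩ := dec_of_best S _ A rfl hAH hA
  have e : ι ≃ Fin (Nat.card ι) := Finite.equivFin ι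
  refine ⟨Nat.card ι, fun i => B (e.symm i), ?_, hind.comp e.symm.injective, ?_⟩
  · intro i
    obtain ⟨h1, h2, h3⟩ := hB (e.symm i)
    refine ⟨h1, h2, ?_, ?_⟩
    · intro h
      rw [Subgroup.commutator_eq_bot_iff_le_centralizer] at h
      have h4 : B (e.symm i) ≤ Subgroup.centralizer (V : Set G) :=
        Subgroup.le_centralizer_iff.mp h
      have h5 : B (e.symm i) = ⊥ := by
        rw [eq_bot_iff]
        intro b hb
        exact eq_one_of_mem_of_centralizes S (hAH (h1 hb)) (h4 hb)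
      rw [h5, Subgroup.card_bot] at h3
      exact hp.one_lt.ne' h3.symm
    · intro C hC _ hVC
      have hC1 : C ≠ ⊥ := by
        rintro rfl
        apply hVC
        rw [eq_bot_iff, Subgroup.commutator_le]
        intro v _ a ha
        have : a = 1 := ha
        rw [this, commutatorElement_def]
        simp
      have h4 : Nat.card C ∣ p := by rw [← h3]; exact Subgroup.card_dvd_of_le hC
      rcases (Nat.dvd_prime hp).mp h4 with h | h
      · exact absurd (Subgroup.card_eq_one.mp h) hC1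
      · exact Subgroup.eq_of_le_of_card_ge hC (by rw [h, h3])
  · rw [← hsup]
    exact e.symm.iSup_comp (g := B)

end Cfsg.Agent.helper9.Off
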