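import Mathlib
import Cfsg.Agent.Lib_helper9_Offender3
import Cfsg.Agent.Lib_lead_Coprime3
import Cfsg.Agent.Lib_helper26_EssP2
import Cfsg.Agent.Lib_helper4_RedH
import Cfsg.Agent.Lib_helper15_Replace

set_option autoImplicit false
set_option linter.unusedSectionVars false

/-!
# Two minimal offenders generate `SL₂(p)` (Kurzweil–Stellmacher 9.3.4)
-/

namespace Cfsg.Agent.helper9.Off

open scoped commutatorElement
open Matrix

variable {G : Type*} [Group G]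

/-- the elements normalizing `U` and moving `W` only inside `U`. -/
def stabSub (W U : Subgroup G) : Subgroup G where
  carrier := {g | g ∈ Subgroup.normalizer (U : Set G) ∧ ∀ w ∈ W, ⁅w, g⁆ ∈ U}
  one_mem' := ⟨Subgroup.one_mem _, fun w _ => by
    rw [commutatorElement_one_right]; exact U.one_mem⟩
  mul_mem' := by
    rintro g h ⟨hg, hg'⟩ ⟨hh, hh'⟩
    refine ⟨Subgroup.mul_mem _ hg hh, fun w hw => ?_⟩
    have e : ⁅w, g * h⁆ = ⁅w, g⁆ * (g * ⁅w, h⁆ * g⁻¹) := by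
      simp only [commutatorElement_def]; group
    rw [e]
    exact U.mul_mem (hg' w hw) ((Subgroup.mem_normalizer_iff.mp hg _).mp (hh' w hw))
  inv_mem' := by
    rintro g ⟨hg, hg'⟩
    refine ⟨Subgroup.inv_mem _ hg, fun w hw => ?_⟩
    have e : ⁅w, g⁻¹⁆ = g⁻¹ * (⁅w, g⁆)⁻¹ * g⁻¹⁻¹ := by
      simp only [commutatorElement_def]; group
    rw [e]
    exact (Subgroup.mem_normalizer_iff.mp (Subgroup.inv_mem _ hg) _).mp (U.inv_mem (hg' w hw))

theorem le_stabSub {W U X : Subgroup G} (hXU : X ≤ Subgroup.normalizer (U : Set G))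
    (h : ⁅W, X⁆ ≤ U) : X ≤ stabSub W U :=
  fun _ hx => ⟨hXU hx, fun _ hw => h (Subgroup.commutator_mem_commutator hw hx)⟩

theorem commutator_le_of_le_stabSub {W U X : Subgroup G} (h : X ≤ stabSub W U) : ⁅W, X⁆ ≤ U := by
  rw [Subgroup.commutator_le]
  intro w hw x hx
  exact (h hx).2 w hw

theorem commutator_lt_of_normalized' [Finite G] {p : ℕ} [Fact p.Prime] (T C : Subgroup G)
    (hT : IsPGroup p T) (hCT : C ≤ T)
    (hTC : T ≤ Subgroup.normalizer (C : Set G)) (hC : C ≠ ⊥) : ⁅C, T⁆ < C := by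
  have hle : ⁅C, T⁆ ≤ C := Subgroup.le_normalizer_iff_commutator_le_left.mp hTC
  refine lt_of_le_of_ne hle ?_
  intro heq
  apply hC
  haveI : Group.IsNilpotent ↥T := hT.isNilpotent
  obtain ⟨n, hn⟩ := (Subgroup.isNilpotent_iff_lowerCentralSeries T).mp inferInstance
  have hall : ∀ m, C ≤ T.lowerCentralSeries m := by
    intro m
    induction m with
    | zero => exact hCT
    | succ m ih =>
      rw [Subgroup.lowerCentralSeries_succ]
      calc C = ⁅C, T⁆ := heq.symm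
        _ ≤ ⁅T.lowerCentralSeries m, T⁆ := Subgroup.commutator_mono ih le_rfl
  rw [eq_bot_iff, ← hn]
  exact hall n

/-- a `p`-group normalizing a group of order `p` centralizes it. -/
theorem centralizes_of_card_prime [Finite G] {p : ℕ} [Fact p.Prime] {X U : Subgroup G}
    (hX : IsPGroup p X) (hU : Nat.card U = p)
    (hXU : X ≤ Subgroup.normalizer (U : Set G)) : X ≤ Subgroup.centralizer (U : Set G) := by
  have hp : p.Prime := Fact.out
  have hUp : IsPGroup p U := IsPGroup.of_card (n := 1) (by rw [hU, pow_one])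
  have hT : IsPGroup p ↥(X ⊔ U) := IsPGroup.to_sup_of_normal_right' hX hUp hXU
  have hUne : U ≠ ⊥ := by
    intro h
    rw [h, Subgroup.card_bot] at hU
    exact hp.one_lt.ne hU
  have hTU : X ⊔ U ≤ Subgroup.normalizer (U : Set G) := sup_le hXU Subgroup.le_normalizer
  have hlt := commutator_lt_of_normalized' (p := p) (X ⊔ U) U hT le_sup_right hTU hUne
  have hbot : ⁅U, X ⊔ U⁆ = ⊥ := by
    have h1 : Nat.card ↥⁅U, X ⊔ U⁆ ∣ p := by
      have := Subgroup.card_dvd_of_le hlt.le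
      rwa [hU] at this
    rcases (Nat.dvd_prime hp).mp h1 with h | h
    · exact Subgroup.card_eq_one.mp h
    · exfalso
      exact hlt.ne (Subgroup.eq_of_le_of_card_ge hlt.le (by rw [hU, h]))
  have h2 : U ≤ Subgroup.centralizer ((X ⊔ U : Subgroup G) : Set G) :=
    Subgroup.commutator_eq_bot_iff_le_centralizer.mp hbot
  exact le_sup_left.trans (Subgroup.le_centralizer_iff.mp h2)

theorem commutator_eq_bot_of_chain [Finite G] {V W U T : Subgroup G}
    (hVs : Group.IsSolvable V) (hTV : T ≤ Subgroup.normalizer (V : Set G))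
    (hcop : (Nat.card T).Coprime (Nat.card V))
    (h1 : ⁅V, T⁆ ≤ W) (h2 : ⁅W, T⁆ ≤ U) (h3 : ⁅U, T⁆ = ⊥) : ⁅V, T⁆ = ⊥ := by
  have hcc := Cfsg.Agent.lead.coprime_commutator_commutator T V hTV hcop (Or.inr hVs)
  have h4 : ⁅V, T⁆ ≤ U := by
    calc ⁅V, T⁆ = ⁅⁅V, T⁆, T⁆ := hcc.symm
      _ ≤ ⁅W, T⁆ := Subgroup.commutator_mono h1 le_rfl
      _ ≤ U := h2
  rw [eq_bot_iff]
  calc ⁅V, T⁆ = ⁅⁅V, T⁆, T⁆ := hcc.symm
    _ ≤ ⁅U, T⁆ := Subgroup.commutator_mono h4 le_rfl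
    _ = ⊥ := h3

section GLsec

variable {p : ℕ} [hp : Fact p.Prime]

/-- two distinct nontrivial `p`-subgroups generating a group `X ≤ GL₂(p)` : `X ≅ SL₂(p)`. -/
theorem sl2_of_two_pgroups {X : Type*} [Group X] [Finite X]
    (ι : X →* GL (Fin 2) (ZMod p)) (hι : Function.Injective ι) (A₀ B₀ : Subgroup X)
    (hA : IsPGroup p A₀) (hB : IsPGroup p B₀) (hA1 : A₀ ≠ ⊥) (hB1 : B₀ ≠ ⊥) (hne : A₀ ≠ B₀)
    (htop : A₀ ⊔ B₀ = ⊤) :
    Nonempty (X ≃* SpecialLinearGroup (Fin 2) (ZMod p)) := by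
  have hτ : Function.Injective (SpecialLinearGroup.toGL :
      SpecialLinearGroup (Fin 2) (ZMod p) → GL (Fin 2) (ZMod p)) :=
    SpecialLinearGroup.toGL_injective
  have hAle := Cfsg.Agent.h26EssP2.pgroup_le_range_toGL _ (hA.map ι)
  have hBle := Cfsg.Agent.h26EssP2.pgroup_le_range_toGL _ (hB.map ι)
  have hmapcomap : ∀ Q : Subgroup (GL (Fin 2) (ZMod p)),
      Q ≤ (SpecialLinearGroup.toGL : SpecialLinearGroup (Fin 2) (ZMod p) →* GL (Fin 2) (ZMod p)).range →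
      (Q.comap SpecialLinearGroup.toGL).map SpecialLinearGroup.toGL = Q := by
    intro Q hQ
    rw [Subgroup.map_comap_eq, inf_eq_right.mpr hQ]
  have hRAp : IsPGroup p ((A₀.map ι).comap
      (SpecialLinearGroup.toGL : SpecialLinearGroup (Fin 2) (ZMod p) →* GL (Fin 2) (ZMod p))) :=
    (hA.map ι).comap_of_injective _ hτ
  have hRBp : IsPGroup p ((B₀.map ι).comap
      (SpecialLinearGroup.toGL : SpecialLinearGroup (Fin 2) (ZMod p) →* GL (Fin 2) (ZMod p))) :=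
    (hB.map ι).comap_of_injective _ hτ
  have hRA1 : (A₀.map ι).comap
      (SpecialLinearGroup.toGL : SpecialLinearGroup (Fin 2) (ZMod p) →* GL (Fin 2) (ZMod p)) ≠ ⊥ := by
    intro h0
    have h1 := hmapcomap _ hAle
    rw [h0, Subgroup.map_bot] at h1
    exact hA1 ((Subgroup.map_eq_bot_iff_of_injective A₀ hι).mp h1.symm)
  have hRB1 : (B₀.map ι).comap
      (SpecialLinearGroup.toGL : SpecialLinearGroup (Fin 2) (ZMod p) →* GL (Fin 2) (ZMod p)) ≠ ⊥ := by
    intro h0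
    have h1 := hmapcomap _ hBle
    rw [h0, Subgroup.map_bot] at h1
    exact hB1 ((Subgroup.map_eq_bot_iff_of_injective B₀ hι).mp h1.symm)
  obtain ⟨S₁, hS₁⟩ := Cfsg.Agent.h26EssP2.exists_sylow_eq _ hRAp hRA1
  obtain ⟨S₂, hS₂⟩ := Cfsg.Agent.h26EssP2.exists_sylow_eq _ hRBp hRB1
  have hS12 : S₁ ≠ S₂ := by
    intro h
    apply hne
    have h1 : (S₁ : Subgroup (SpecialLinearGroup (Fin 2) (ZMod p))) = S₂ := by rw [h]
    rw [hS₁, hS₂] at h1
    have h2 := congrArg (Subgroup.map (SpecialLinearGroup.toGL :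
      SpecialLinearGroup (Fin 2) (ZMod p) →* GL (Fin 2) (ZMod p))) h1
    rw [hmapcomap _ hAle, hmapcomap _ hBle] at h2
    exact Subgroup.map_injective hι h2
  have htop2 := Cfsg.Agent.helper11.SL2U.sylow_sup_eq_top p S₁ S₂ hS12
  have hrange : ι.range = (SpecialLinearGroup.toGL :
      SpecialLinearGroup (Fin 2) (ZMod p) →* GL (Fin 2) (ZMod p)).range := by
    rw [MonoidHom.range_eq_map, MonoidHom.range_eq_map, ← htop, ← htop2, Subgroup.map_sup,
      Subgroup.map_sup, hS₁, hS₂, hmapcomap _ hAle, hmapcomap _ hBle]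
  exact ⟨(MonoidHom.ofInjective hι).trans ((MulEquiv.subgroupCongr hrange).trans
    (MonoidHom.ofInjective hτ).symm)⟩

end GLsec

/-- The configuration of two offenders of order `p` whose generators differ by an element of the
`p'`-core. -/
structure Pair (p : ℕ) (V H A B : Subgroup G) (a b : G) : Prop where
  hAH : A ≤ H
  hBH : B ≤ H
  hcA : Nat.card A = p
  hcB : Nat.card B = p
  hUa : Nat.card ↥⁅V, A⁆ = p
  hUb : Nat.card ↥⁅V, B⁆ = p
  hCa : Nat.card V ≤ Nat.card ↥(V ⊓ Subgroup.centralizer (A : Set G)) * p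
  hCb : Nat.card V ≤ Nat.card ↥(V ⊓ Subgroup.centralizer (B : Set G)) * p
  ha : a ∈ A
  hb : b ∈ B
  ht : b * a⁻¹ ∈ Qof p H
  hne : b ≠ a

theorem Pair.symm {p : ℕ} {V H A B : Subgroup G} {a b : G} (P : Pair p V H A B a b) :
    Pair p V H B A b a :=
  { hAH := P.hBH, hBH := P.hAH, hcA := P.hcB, hcB := P.hcA, hUa := P.hUb, hUb := P.hUa,
    hCa := P.hCb, hCb := P.hCa, ha := P.hb, hb := P.ha,
    ht := by
      have := (Qof p H).inv_mem P.ht
      rwa [_root_.mul_inv_rev, inv_inv] at this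
    hne := P.hne.symm }

section Main

variable [Finite G] {p : ℕ} [Fact p.Prime] {V H A B : Subgroup G} {a b : G}

theorem V_comm (S : Setup p V H) : V ≤ Subgroup.centralizer (V : Set G) := by
  intro x hx
  rw [Subgroup.mem_centralizer_iff]
  intro y hy
  have := S.hV.1.is_comm.comm (⟨y, hy⟩ : ↥V) ⟨x, hx⟩
  exact congrArg Subtype.val this

theorem V_le_normalizer_of_le (S : Setup p V H) {X : Subgroup G} (hX : X ≤ V) :
    V ≤ Subgroup.normalizer (X : Set G) :=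
  (V_comm S).trans ((Subgroup.centralizer_le (SetLike.coe_subset_coe.2 hX)).trans
    (Subgroup.centralizer_le_normalizer _))

namespace Pair

theorem t_ne_one (P : Pair p V H A B a b) : b * a⁻¹ ≠ 1 :=
  fun h => P.hne (mul_inv_eq_one.mp h)

theorem t_mem (P : Pair p V H A B a b) : b * a⁻¹ ∈ A ⊔ B :=
  (A ⊔ B).mul_mem (Subgroup.mem_sup_right P.hb) ((A ⊔ B).inv_mem (Subgroup.mem_sup_left P.ha))

theorem pA (P : Pair p V H A B a b) : IsPGroup p ↥A :=
  IsPGroup.of_card (n := 1) (by rw [P.hcA, pow_one])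

theorem A_norm (S : Setup p V H) (P : Pair p V H A B a b) :
    A ≤ Subgroup.normalizer (V : Set G) := P.hAH.trans S.hHV

theorem Ua_le (S : Setup p V H) (P : Pair p V H A B a b) : ⁅V, A⁆ ≤ V :=
  Cfsg.Agent.helper7.commutator_le_of_normalizer (P.A_norm S)

theorem A_normUa (S : Setup p V H) (P : Pair p V H A B a b) :
    A ≤ Subgroup.normalizer ((⁅V, A⁆ : Subgroup G) : Set G) := fun _ hx =>
  Cfsg.Agent.helper7.mem_normalizer_commutator (P.A_norm S hx) (Subgroup.le_normalizer hx)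

theorem A_centUa (S : Setup p V H) (P : Pair p V H A B a b) :
    A ≤ Subgroup.centralizer ((⁅V, A⁆ : Subgroup G) : Set G) :=
  centralizes_of_card_prime P.pA P.hUa (P.A_normUa S)

theorem comm_sup (S : Setup p V H) (P : Pair p V H A B a b) :
    ⁅V, A ⊔ B⁆ = ⁅V, A⁆ ⊔ ⁅V, B⁆ := by
  apply le_antisymm
  · have hW₀V : ⁅V, A⁆ ⊔ ⁅V, B⁆ ≤ V := sup_le (P.Ua_le S) (P.symm.Ua_le S)
    have hAN : A ≤ Subgroup.normalizer ((⁅V, A⁆ ⊔ ⁅V, B⁆ : Subgroup G) : Set G) := by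
      apply Subgroup.le_normalizer_iff_commutator_le_left.mpr
      exact (Subgroup.commutator_mono hW₀V le_rfl).trans le_sup_left
    have hBN : B ≤ Subgroup.normalizer ((⁅V, A⁆ ⊔ ⁅V, B⁆ : Subgroup G) : Set G) := by
      apply Subgroup.le_normalizer_iff_commutator_le_left.mpr
      exact (Subgroup.commutator_mono hW₀V le_rfl).trans le_sup_right
    have hE : A ⊔ B ≤ stabSub V (⁅V, A⁆ ⊔ ⁅V, B⁆) :=
      sup_le (le_stabSub hAN le_sup_left) (le_stabSub hBN le_sup_right)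
    exact commutator_le_of_le_stabSub hE
  · exact sup_le (Subgroup.commutator_mono le_rfl le_sup_left)
      (Subgroup.commutator_mono le_rfl le_sup_right)

theorem no_chain (S : Setup p V H) (P : Pair p V H A B a b) (W U : Subgroup G)
    (h1 : ⁅V, A ⊔ B⁆ ≤ W) (h2 : ⁅W, A ⊔ B⁆ ≤ U) (h3 : ⁅U, A ⊔ B⁆ = ⊥) : False := by
  have hp : p.Prime := Fact.out
  have hTE : Subgroup.zpowers (b * a⁻¹) ≤ A ⊔ B := by
    rw [Subgroup.zpowers_le]; exact P.t_mem
  have hTQ : Subgroup.zpowers (b * a⁻¹) ≤ Qof p H := by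
    rw [Subgroup.zpowers_le]; exact P.ht
  have hTH : Subgroup.zpowers (b * a⁻¹) ≤ H := hTQ.trans (Qof_le p H)
  have hTV : Subgroup.zpowers (b * a⁻¹) ≤ Subgroup.normalizer (V : Set G) := hTH.trans S.hHV
  have hVp : IsPGroup p ↥V := isPGroup_of_elemAb S.hV
  obtain ⟨n, hn⟩ := (IsPGroup.iff_card).mp hVp
  have hcop : (Nat.card (Subgroup.zpowers (b * a⁻¹))).Coprime (Nat.card V) := by
    rw [hn]
    apply Nat.Coprime.pow_right
    rw [Nat.coprime_comm]
    apply (Nat.Prime.coprime_iff_not_dvd hp).mpr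
    intro hd
    exact Qof_coprime (p := p) H (dvd_trans hd (Subgroup.card_dvd_of_le hTQ))
  have hVs : Group.IsSolvable ↥V := isSolvable_of_comm (fun x y => S.hV.1.is_comm.comm x y)
  have hbot := commutator_eq_bot_of_chain hVs hTV hcop
    ((Subgroup.commutator_mono le_rfl hTE).trans h1)
    ((Subgroup.commutator_mono le_rfl hTE).trans h2)
    (by rw [eq_bot_iff, ← h3]; exact Subgroup.commutator_mono le_rfl hTE)
  have h4 : V ≤ Subgroup.centralizer ((Subgroup.zpowers (b * a⁻¹) : Subgroup G) : Set G) :=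
    Subgroup.commutator_eq_bot_iff_le_centralizer.mp hbot
  have h5 := Subgroup.le_centralizer_iff.mp h4
  have h6 : b * a⁻¹ = 1 := eq_one_of_mem_of_centralizes S (hTH (Subgroup.mem_zpowers _))
    (h5 (Subgroup.mem_zpowers _))
  exact P.t_ne_one h6

theorem Ua_ne_Ub (S : Setup p V H) (P : Pair p V H A B a b) : ⁅V, A⁆ ≠ ⁅V, B⁆ := by
  intro heq
  have hW : ⁅V, A ⊔ B⁆ = ⁅V, A⁆ := by rw [P.comm_sup S, ← heq, sup_idem]
  have hE : A ⊔ B ≤ Subgroup.centralizer ((⁅V, A⁆ : Subgroup G) : Set G) := by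
    apply sup_le (P.A_centUa S)
    rw [heq]; exact P.symm.A_centUa S
  have hc : ⁅⁅V, A⁆, A ⊔ B⁆ = ⊥ :=
    Subgroup.commutator_eq_bot_iff_le_centralizer.mpr (Subgroup.le_centralizer_iff.mp hE)
  exact P.no_chain S ⁅V, A⁆ ⊥ hW.le hc.le (Subgroup.commutator_bot_left _)

theorem not_A_centUb (S : Setup p V H) (P : Pair p V H A B a b) :
    ¬ A ≤ Subgroup.centralizer ((⁅V, B⁆ : Subgroup G) : Set G) := by
  intro hA
  have h1 : ⁅V, A ⊔ B⁆ ≤ ⁅V, A⁆ ⊔ ⁅V, B⁆ := (P.comm_sup S).le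
  have hE3 : A ⊔ B ≤ Subgroup.centralizer ((⁅V, B⁆ : Subgroup G) : Set G) :=
    sup_le hA (P.symm.A_centUa S)
  have h3 : ⁅⁅V, B⁆, A ⊔ B⁆ = ⊥ :=
    Subgroup.commutator_eq_bot_iff_le_centralizer.mpr (Subgroup.le_centralizer_iff.mp hE3)
  have hAW : A ≤ Subgroup.centralizer ((⁅V, A⁆ ⊔ ⁅V, B⁆ : Subgroup G) : Set G) := by
    rw [Cfsg.Agent.helper15.centralizer_sup_eq]
    exact le_inf (P.A_centUa S) hA
  have h2 : ⁅⁅V, A⁆ ⊔ ⁅V, B⁆, A ⊔ B⁆ ≤ ⁅V, B⁆ := by
    apply commutator_le_of_le_stabSub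
    apply sup_le
    · apply le_stabSub (hA.trans (Subgroup.centralizer_le_normalizer _))
      rw [Subgroup.commutator_eq_bot_iff_le_centralizer.mpr (Subgroup.le_centralizer_iff.mp hAW)]
      exact bot_le
    · apply le_stabSub (P.symm.A_normUa S)
      exact Subgroup.commutator_mono (sup_le (P.Ua_le S) (P.symm.Ua_le S)) le_rfl
  exact P.no_chain S (⁅V, A⁆ ⊔ ⁅V, B⁆) ⁅V, B⁆ h1 h2 h3

theorem Ua_inf_Ub (S : Setup p V H) (P : Pair p V H A B a b) : ⁅V, A⁆ ⊓ ⁅V, B⁆ = ⊥ := by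
  have hp : p.Prime := Fact.out
  have h1 : Nat.card ↥(⁅V, A⁆ ⊓ ⁅V, B⁆) ∣ p := by
    have := Subgroup.card_dvd_of_le (inf_le_left : ⁅V, A⁆ ⊓ ⁅V, B⁆ ≤ ⁅V, A⁆)
    rwa [P.hUa] at this
  rcases (Nat.dvd_prime hp).mp h1 with h | h
  · exact Subgroup.card_eq_one.mp h
  · exfalso
    have e1 : ⁅V, A⁆ ⊓ ⁅V, B⁆ = ⁅V, A⁆ :=
      Subgroup.eq_of_le_of_card_ge inf_le_left (by rw [h, P.hUa])
    have e2 : ⁅V, A⁆ ⊓ ⁅V, B⁆ = ⁅V, B⁆ :=
      Subgroup.eq_of_le_of_card_ge inf_le_right (by rw [h, P.hUb])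
    exact P.Ua_ne_Ub S (e1.symm.trans e2)

theorem card_W (S : Setup p V H) (P : Pair p V H A B a b) :
    Nat.card ↥(⁅V, A ⊔ B⁆) = p ^ 2 := by
  rw [P.comm_sup S]
  have hn : ⁅V, A⁆ ≤ Subgroup.normalizer ((⁅V, B⁆ : Subgroup G) : Set G) :=
    (P.Ua_le S).trans (V_le_normalizer_of_le S (P.symm.Ua_le S))
  have := Cfsg.Agent.helper15.card_sup_mul_card_inf_of_le_normalizer ⁅V, A⁆ ⁅V, B⁆ hn
  rw [P.Ua_inf_Ub S, Subgroup.card_bot, mul_one, P.hUa, P.hUb] at this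
  rw [this, sq]

theorem W_inf_centA (S : Setup p V H) (P : Pair p V H A B a b) :
    (⁅V, A⁆ ⊔ ⁅V, B⁆) ⊓ Subgroup.centralizer (A : Set G) = ⁅V, A⁆ := by
  have hp : p.Prime := Fact.out
  have hcW : Nat.card ↥(⁅V, A⁆ ⊔ ⁅V, B⁆) = p ^ 2 := by
    rw [← P.comm_sup S]; exact P.card_W S
  have hle : ⁅V, A⁆ ≤ (⁅V, A⁆ ⊔ ⁅V, B⁆) ⊓ Subgroup.centralizer (A : Set G) :=
    le_inf le_sup_left (Subgroup.le_centralizer_iff.mp (P.A_centUa S))
  symm
  apply Subgroup.eq_of_le_of_card_ge hle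
  rw [P.hUa]
  have hd : Nat.card ↥((⁅V, A⁆ ⊔ ⁅V, B⁆) ⊓ Subgroup.centralizer (A : Set G)) ∣ p ^ 2 := by
    rw [← hcW]; exact Subgroup.card_dvd_of_le inf_le_left
  obtain ⟨k, hk, hk'⟩ := (Nat.dvd_prime_pow hp).mp hd
  rw [hk']
  have hk2 : k ≠ 2 := by
    rintro rfl
    have e : (⁅V, A⁆ ⊔ ⁅V, B⁆) ⊓ Subgroup.centralizer (A : Set G) = ⁅V, A⁆ ⊔ ⁅V, B⁆ :=
      Subgroup.eq_of_le_of_card_ge inf_le_left (by rw [hk', hcW])
    apply P.not_A_centUb S
    apply Subgroup.le_centralizer_iff.mp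
    calc ⁅V, B⁆ ≤ ⁅V, A⁆ ⊔ ⁅V, B⁆ := le_sup_right
      _ = (⁅V, A⁆ ⊔ ⁅V, B⁆) ⊓ Subgroup.centralizer (A : Set G) := e.symm
      _ ≤ Subgroup.centralizer (A : Set G) := inf_le_right
  have hk1 : k ≤ 1 := by omega
  calc p ^ k ≤ p ^ 1 := Nat.pow_le_pow_right hp.pos hk1
    _ = p := pow_one p

theorem W_inf_centE (S : Setup p V H) (P : Pair p V H A B a b) :
    ⁅V, A ⊔ B⁆ ⊓ Subgroup.centralizer ((A ⊔ B : Subgroup G) : Set G) = ⊥ := by
  have h1 := P.W_inf_centA S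
  have h2 := P.symm.W_inf_centA S
  rw [sup_comm] at h2
  rw [eq_bot_iff]
  intro x hx
  rw [P.comm_sup S, Cfsg.Agent.helper15.centralizer_sup_eq] at hx
  obtain ⟨hxW, hxC⟩ := Subgroup.mem_inf.mp hx
  obtain ⟨hxA, hxB⟩ := Subgroup.mem_inf.mp hxC
  have hxa : x ∈ ⁅V, A⁆ := by rw [← h1]; exact ⟨hxW, hxA⟩
  have hxb : x ∈ ⁅V, B⁆ := by rw [← h2]; exact ⟨hxW, hxB⟩
  have : x ∈ ⁅V, A⁆ ⊓ ⁅V, B⁆ := ⟨hxa, hxb⟩
  rwa [P.Ua_inf_Ub S] at this

theorem card_CV (S : Setup p V H) (P : Pair p V H A B a b) :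
    Nat.card V ≤ Nat.card ↥(V ⊓ Subgroup.centralizer ((A ⊔ B : Subgroup G) : Set G)) * p ^ 2 := by
  have hn : V ⊓ Subgroup.centralizer (A : Set G) ≤
      Subgroup.normalizer ((V ⊓ Subgroup.centralizer (B : Set G) : Subgroup G) : Set G) :=
    inf_le_left.trans (V_le_normalizer_of_le S inf_le_left)
  have hprod := Cfsg.Agent.helper15.card_sup_mul_card_inf_of_le_normalizer
    (V ⊓ Subgroup.centralizer (A : Set G)) (V ⊓ Subgroup.centralizer (B : Set G)) hn
  have hinf : (V ⊓ Subgroup.centralizer (A : Set G)) ⊓ (V ⊓ Subgroup.centralizer (B : Set G)) =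
      V ⊓ Subgroup.centralizer ((A ⊔ B : Subgroup G) : Set G) := by
    rw [Cfsg.Agent.helper15.centralizer_sup_eq]
    exact (inf_inf_distrib_left _ _ _).symm
  rw [hinf] at hprod
  have hsle : Nat.card ↥((V ⊓ Subgroup.centralizer (A : Set G)) ⊔
      (V ⊓ Subgroup.centralizer (B : Set G))) ≤ Nat.card V :=
    Subgroup.card_le_of_le (sup_le inf_le_left inf_le_left)
  have hvpos : 0 < Nat.card V := Nat.card_pos
  have h1 := P.hCa
  have h2 := P.hCb
  have key : Nat.card V * Nat.card V ≤ Nat.card V *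
      (Nat.card ↥(V ⊓ Subgroup.centralizer ((A ⊔ B : Subgroup G) : Set G)) * p ^ 2) := by
    calc Nat.card V * Nat.card V
        ≤ (Nat.card ↥(V ⊓ Subgroup.centralizer (A : Set G)) * p) *
          (Nat.card ↥(V ⊓ Subgroup.centralizer (B : Set G)) * p) := Nat.mul_le_mul h1 h2
      _ = (Nat.card ↥(V ⊓ Subgroup.centralizer (A : Set G)) *
          Nat.card ↥(V ⊓ Subgroup.centralizer (B : Set G))) * p ^ 2 := by ring
      _ = (Nat.card ↥((V ⊓ Subgroup.centralizer (A : Set G)) ⊔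
            (V ⊓ Subgroup.centralizer (B : Set G))) *
          Nat.card ↥(V ⊓ Subgroup.centralizer ((A ⊔ B : Subgroup G) : Set G))) * p ^ 2 := by
        rw [hprod]
      _ ≤ (Nat.card V *
          Nat.card ↥(V ⊓ Subgroup.centralizer ((A ⊔ B : Subgroup G) : Set G))) * p ^ 2 := by
        gcongr
      _ = _ := by ring
  exact Nat.le_of_mul_le_mul_left key hvpos

theorem E_norm (S : Setup p V H) (P : Pair p V H A B a b) :
    A ⊔ B ≤ Subgroup.normalizer (V : Set G) := sup_le (P.A_norm S) (P.symm.A_norm S)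

theorem W_le (S : Setup p V H) (P : Pair p V H A B a b) : ⁅V, A ⊔ B⁆ ≤ V :=
  Cfsg.Agent.helper7.commutator_le_of_normalizer (P.E_norm S)

theorem V_decomp (S : Setup p V H) (P : Pair p V H A B a b) :
    ⁅V, A ⊔ B⁆ ⊔ (V ⊓ Subgroup.centralizer ((A ⊔ B : Subgroup G) : Set G)) = V := by
  have hle : ⁅V, A ⊔ B⁆ ⊔ (V ⊓ Subgroup.centralizer ((A ⊔ B : Subgroup G) : Set G)) ≤ V :=
    sup_le (P.W_le S) inf_le_left
  apply Subgroup.eq_of_le_of_card_ge hle
  have hn : ⁅V, A ⊔ B⁆ ≤ Subgroup.normalizer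
      ((V ⊓ Subgroup.centralizer ((A ⊔ B : Subgroup G) : Set G) : Subgroup G) : Set G) :=
    (P.W_le S).trans (V_le_normalizer_of_le S inf_le_left)
  have hprod := Cfsg.Agent.helper15.card_sup_mul_card_inf_of_le_normalizer _ _ hn
  have hinf : ⁅V, A ⊔ B⁆ ⊓ (V ⊓ Subgroup.centralizer ((A ⊔ B : Subgroup G) : Set G)) = ⊥ := by
    rw [eq_bot_iff, ← P.W_inf_centE S]
    exact inf_le_inf_left _ inf_le_right
  rw [hinf, Subgroup.card_bot, mul_one, P.card_W S] at hprod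
  rw [hprod, mul_comm]
  exact P.card_CV S

theorem faithful (S : Setup p V H) (P : Pair p V H A B a b) :
    (A ⊔ B) ⊓ Subgroup.centralizer ((⁅V, A ⊔ B⁆ : Subgroup G) : Set G) = ⊥ := by
  rw [eq_bot_iff]
  intro g hg
  obtain ⟨hgE, hgW⟩ := Subgroup.mem_inf.mp hg
  have hgH : g ∈ H := (sup_le P.hAH P.hBH) hgE
  have h1 : V ≤ Subgroup.centralizer ((Subgroup.zpowers g : Subgroup G) : Set G) := by
    calc V = ⁅V, A ⊔ B⁆ ⊔ (V ⊓ Subgroup.centralizer ((A ⊔ B : Subgroup G) : Set G)) :=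
          (P.V_decomp S).symm
      _ ≤ _ := by
        apply sup_le
        · apply Subgroup.le_centralizer_iff.mp
          rw [Subgroup.zpowers_le]; exact hgW
        · refine inf_le_right.trans (Subgroup.centralizer_le ?_)
          exact SetLike.coe_subset_coe.2 (by rw [Subgroup.zpowers_le]; exact hgE)
  have hgV : g ∈ Subgroup.centralizer (V : Set G) :=
    (Subgroup.le_centralizer_iff.mp h1) (Subgroup.mem_zpowers g)
  exact eq_one_of_mem_of_centralizes S hgH hgV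

theorem a_ne_one (P : Pair p V H A B a b) : a ≠ 1 := by
  intro ha1
  have hb1 : b ∈ Qof p H := by
    have := P.ht
    rwa [ha1, inv_one, mul_one] at this
  have hT : Subgroup.zpowers b = ⊥ :=
    eq_bot_of_le_Qof (p := p) (H := H) (P.symm.pA.to_le (by rw [Subgroup.zpowers_le]; exact P.hb))
      (by rw [Subgroup.zpowers_le]; exact hb1)
  have : b = 1 := by
    have := Subgroup.mem_zpowers b
    rwa [hT, Subgroup.mem_bot] at this
  exact P.hne (this.trans ha1.symm)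

theorem A_eq_zpowers (P : Pair p V H A B a b) : A = Subgroup.zpowers a := by
  have hp : p.Prime := Fact.out
  have hle : Subgroup.zpowers a ≤ A := by rw [Subgroup.zpowers_le]; exact P.ha
  symm
  apply Subgroup.eq_of_le_of_card_ge hle
  rw [P.hcA]
  have h1 : Nat.card (Subgroup.zpowers a) ∣ p := by
    have := Subgroup.card_dvd_of_le hle
    rwa [P.hcA] at this
  rcases (Nat.dvd_prime hp).mp h1 with h | h
  · exfalso
    have h2 : Subgroup.zpowers a = ⊥ := Subgroup.card_eq_one.mp h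
    have := Subgroup.mem_zpowers a
    rw [h2, Subgroup.mem_bot] at this
    exact P.a_ne_one this
  · exact h.ge

theorem A_ne_B (P : Pair p V H A B a b) : A ≠ B := by
  intro hAB
  have htA : b * a⁻¹ ∈ A := A.mul_mem (hAB ▸ P.hb) (A.inv_mem P.ha)
  have hT : Subgroup.zpowers (b * a⁻¹) = ⊥ :=
    eq_bot_of_le_Qof (p := p) (H := H) (P.pA.to_le (by rw [Subgroup.zpowers_le]; exact htA))
      (by rw [Subgroup.zpowers_le]; exact P.ht)
  have := Subgroup.mem_zpowers (b * a⁻¹)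
  rw [hT, Subgroup.mem_bot] at this
  exact P.t_ne_one this

theorem W_norm (S : Setup p V H) (P : Pair p V H A B a b) :
    A ⊔ B ≤ Subgroup.normalizer ((⁅V, A ⊔ B⁆ : Subgroup G) : Set G) := fun _ hx =>
  Cfsg.Agent.helper7.mem_normalizer_commutator (P.E_norm S hx) (Subgroup.le_normalizer hx)

theorem iso_sl2 (S : Setup p V H) (P : Pair p V H A B a b) :
    Nonempty (↥(A ⊔ B) ≃* SpecialLinearGroup (Fin 2) (ZMod p)) := by
  have hp : p.Prime := Fact.out
  -- the action on `W`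
  let ρ : ↥(A ⊔ B) →* MulAut ↥(⁅V, A ⊔ B⁆) :=
    (Subgroup.normalizerMonoidHom ⁅V, A ⊔ B⁆).comp (Subgroup.inclusion (P.W_norm S))
  have hρ : Function.Injective ρ := by
    rw [injective_iff_map_eq_one]
    intro g hg
    have h1 : Subgroup.inclusion (P.W_norm S) g ∈
        (Subgroup.normalizerMonoidHom ⁅V, A ⊔ B⁆).ker := hg
    rw [Subgroup.normalizerMonoidHom_ker, Subgroup.mem_subgroupOf] at h1
    have h2 : (g : G) ∈ (A ⊔ B) ⊓ Subgroup.centralizer ((⁅V, A ⊔ B⁆ : Subgroup G) : Set G) :=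
      ⟨g.2, h1⟩
    rw [P.faithful S, Subgroup.mem_bot] at h2
    exact Subtype.ext h2
  obtain ⟨Θ, hΘ⟩ := Cfsg.Agent.h26EssP2.exists_theta (H := ↥(⁅V, A ⊔ B⁆)) (p := p)
    (fun x y => by
      apply Subtype.ext
      have := (V_comm S) (P.W_le S y.2)
      rw [Subgroup.mem_centralizer_iff] at this
      exact this x.1 (P.W_le S x.2))
    (fun x => by
      apply Subtype.ext
      rw [Subgroup.coe_pow]
      exact S.hV.2 x.1 (P.W_le S x.2))
    (P.card_W S)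
  have hι : Function.Injective (Θ.comp ρ) := hΘ.comp hρ
  have hAE : A ≤ A ⊔ B := le_sup_left
  have hBE : B ≤ A ⊔ B := le_sup_right
  have hA0 : IsPGroup p (A.subgroupOf (A ⊔ B)) := P.pA.comap_subtype
  have hB0 : IsPGroup p (B.subgroupOf (A ⊔ B)) := P.symm.pA.comap_subtype
  have hne_of : ∀ {X : Subgroup G}, X ≤ A ⊔ B → X.subgroupOf (A ⊔ B) = ⊥ → X = ⊥ := by
    intro X hX h0
    rw [eq_bot_iff]
    intro x hx
    have : (⟨x, hX hx⟩ : ↥(A ⊔ B)) ∈ X.subgroupOf (A ⊔ B) := Subgroup.mem_subgroupOf.mpr hx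
    rw [h0, Subgroup.mem_bot] at this
    exact congrArg Subtype.val this
  have hA1 : A.subgroupOf (A ⊔ B) ≠ ⊥ := by
    intro h0
    have := hne_of hAE h0
    have hc := P.hcA
    rw [this, Subgroup.card_bot] at hc
    exact hp.one_lt.ne hc
  have hB1 : B.subgroupOf (A ⊔ B) ≠ ⊥ := by
    intro h0
    have := hne_of hBE h0
    have hc := P.hcB
    rw [this, Subgroup.card_bot] at hc
    exact hp.one_lt.ne hc
  have hne : A.subgroupOf (A ⊔ B) ≠ B.subgroupOf (A ⊔ B) := by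
    intro h
    apply P.A_ne_B
    ext x
    constructor
    · intro hx
      have : (⟨x, hAE hx⟩ : ↥(A ⊔ B)) ∈ A.subgroupOf (A ⊔ B) := Subgroup.mem_subgroupOf.mpr hx
      rw [h] at this
      exact Subgroup.mem_subgroupOf.mp this
    · intro hx
      have : (⟨x, hBE hx⟩ : ↥(A ⊔ B)) ∈ B.subgroupOf (A ⊔ B) := Subgroup.mem_subgroupOf.mpr hx
      rw [← h] at this
      exact Subgroup.mem_subgroupOf.mp this
  have htop : A.subgroupOf (A ⊔ B) ⊔ B.subgroupOf (A ⊔ B) = ⊤ := by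
    rw [← Subgroup.subgroupOf_sup hAE hBE, Subgroup.subgroupOf_self]
  exact sl2_of_two_pgroups (Θ.comp ρ) hι _ _ hA0 hB0 hA1 hB1 hne htop

theorem B_le_sup (P : Pair p V H A B a b) : B ≤ A ⊔ (Qof p H ⊓ (A ⊔ B)) := by
  have hB := P.symm.A_eq_zpowers
  have hb' : b ∈ A ⊔ (Qof p H ⊓ (A ⊔ B)) := by
    have h := Subgroup.mul_mem (A ⊔ (Qof p H ⊓ (A ⊔ B)))
      (Subgroup.mem_sup_right (⟨P.ht, P.t_mem⟩ : b * a⁻¹ ∈ Qof p H ⊓ (A ⊔ B)))
      (Subgroup.mem_sup_left P.ha)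
    rwa [inv_mul_cancel_right] at h
  exact hB.le.trans (Subgroup.zpowers_le.mpr hb')

theorem p_cases (S : Setup p V H) (P : Pair p V H A B a b) : p = 2 ∨ p = 3 := by
  have hp : p.Prime := Fact.out
  by_contra hcon
  have hp5 : 5 ≤ p := by
    rcases Nat.lt_or_ge p 5 with h | h
    · exfalso
      have h2 := hp.two_le
      interval_cases p
      · exact hcon (Or.inl rfl)
      · exact hcon (Or.inr rfl)
      · norm_num at hp
    · exact h
  obtain ⟨φ⟩ := P.iso_sl2 S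
  have hperf : commutator ↥(A ⊔ B) = ⊤ := by
    have h0 := Cfsg.Agent.helper4.Red.commutator_sl2_eq_top (p := p) hp5
    have h1 : (commutator (SpecialLinearGroup (Fin 2) (ZMod p))).map φ.symm.toMonoidHom =
        commutator ↥(A ⊔ B) := by
      rw [commutator_def, commutator_def, Subgroup.map_commutator, ← MonoidHom.range_eq_map,
        MonoidHom.range_eq_top.mpr φ.symm.surjective]
    rw [← h1, h0, ← MonoidHom.range_eq_map, MonoidHom.range_eq_top.mpr φ.symm.surjective]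
  have hEH : A ⊔ B ≤ H := sup_le P.hAH P.hBH
  have hKn : ((Qof p H).subgroupOf (A ⊔ B)).Normal :=
    Subgroup.normal_subgroupOf_of_le_normalizer (hEH.trans (Qof_normalizer p H))
  have hsup : A ⊔ (Qof p H ⊓ (A ⊔ B)) = A ⊔ B := by
    apply le_antisymm
    · exact sup_le le_sup_left inf_le_right
    · exact sup_le le_sup_left P.B_le_sup
  have htop : A.subgroupOf (A ⊔ B) ⊔ (Qof p H).subgroupOf (A ⊔ B) = ⊤ := by
    rw [← Subgroup.inf_subgroupOf_right (Qof p H) (A ⊔ B),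
      ← Subgroup.subgroupOf_sup le_sup_left inf_le_right, hsup, Subgroup.subgroupOf_self]
  have hidx : ((Qof p H).subgroupOf (A ⊔ B)).index ∣ p := by
    have h1 := Subgroup.relIndex_sup_right (H := A.subgroupOf (A ⊔ B))
      (K := (Qof p H).subgroupOf (A ⊔ B))
    rw [htop, Subgroup.relIndex_top_right] at h1
    rw [h1]
    have h2 : ((Qof p H).subgroupOf (A ⊔ B)).relIndex (A.subgroupOf (A ⊔ B)) ∣
        Nat.card (A.subgroupOf (A ⊔ B)) := Subgroup.index_dvd_card _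
    have h3 : Nat.card (A.subgroupOf (A ⊔ B)) = p := by
      rw [Nat.card_congr (Subgroup.subgroupOfEquivOfLe (le_sup_left : A ≤ A ⊔ B)).toEquiv]
      exact P.hcA
    rwa [h3] at h2
  have hidx' : ∃ m, ((Qof p H).subgroupOf (A ⊔ B)).index = p ^ m := by
    rcases (Nat.dvd_prime hp).mp hidx with h | h
    · exact ⟨0, by rw [h, pow_zero]⟩
    · exact ⟨1, by rw [h, pow_one]⟩
  obtain ⟨m, hm⟩ := hidx'
  have hK := Cfsg.Agent.helper4.Red.eq_top_of_index_pow (p := p) hperf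
    ((Qof p H).subgroupOf (A ⊔ B)) hm
  have hAQ : A ≤ Qof p H := by
    intro x hx
    have : (⟨x, (le_sup_left : A ≤ A ⊔ B) hx⟩ : ↥(A ⊔ B)) ∈ (Qof p H).subgroupOf (A ⊔ B) := by
      rw [hK]; exact Subgroup.mem_top _
    exact Subgroup.mem_subgroupOf.mp this
  have hAbot := eq_bot_of_le_Qof (p := p) (H := H) P.pA hAQ
  have hc := P.hcA
  rw [hAbot, Subgroup.card_bot] at hc
  exact hp.one_lt.ne hc

end Pair

end Main

end Cfsg.Agent.helper9.Off
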