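import Mathlib
import Cfsg.Agent.Lib_helper9_Offender4
import Cfsg.Agent.Lib_helper12_Card

set_option autoImplicit false
set_option linter.unusedSectionVars false

/-!
# `[O_{p'}(H), A] A ≅ SL₂(p)` for a minimal offender `A` (Kurzweil–Stellmacher 9.3.5)
-/

namespace Cfsg.Agent.helper9.Off

open scoped commutatorElement
open Matrix Cfsg.Agent.helper7

variable {G : Type*} [Group G]

/-- The numerical data of a minimal nontrivially acting best offender. -/
structure Min (p : ℕ) (V H A : Subgroup G) : Prop where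
  hAH : A ≤ H
  hcA : Nat.card A = p
  hUa : Nat.card ↥⁅V, A⁆ = p
  hCa : Nat.card ↥(V ⊓ Subgroup.centralizer (A : Set G)) * p = Nat.card V

theorem cj_inf_centralizer_le (V A : Subgroup G) {g : G}
    (hg : g ∈ Subgroup.normalizer (V : Set G)) :
    cj g (V ⊓ Subgroup.centralizer (A : Set G)) ≤
      V ⊓ Subgroup.centralizer ((cj g A : Subgroup G) : Set G) := by
  rintro _ ⟨y, hy, rfl⟩
  obtain ⟨hyV, hyC⟩ := Subgroup.mem_inf.mp hy
  simp only [MulEquiv.coe_toMonoidHom, MulAut.conj_apply]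
  refine ⟨(Subgroup.mem_normalizer_iff.mp hg y).mp hyV, ?_⟩
  show g * y * g⁻¹ ∈ Subgroup.centralizer ((cj g A : Subgroup G) : Set G)
  rw [Subgroup.mem_centralizer_iff]
  rintro _ ⟨z, hz, rfl⟩
  simp only [MulEquiv.coe_toMonoidHom, MulAut.conj_apply]
  rw [Subgroup.mem_centralizer_iff] at hyC
  have h1 := hyC z hz
  calc g * z * g⁻¹ * (g * y * g⁻¹) = g * (z * y) * g⁻¹ := by group
    _ = g * (y * z) * g⁻¹ := by rw [h1]
    _ = g * y * g⁻¹ * (g * z * g⁻¹) := by group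

theorem zpowers_le_centralizer_zpowers {g h : G} (hc : g * h = h * g) :
    Subgroup.zpowers g ≤ Subgroup.centralizer ((Subgroup.zpowers h : Subgroup G) : Set G) := by
  rw [Subgroup.zpowers_le, Subgroup.mem_centralizer_iff]
  intro y hy
  obtain ⟨k, rfl⟩ := Subgroup.mem_zpowers_iff.mp hy
  exact (Commute.zpow_left (show Commute h g from hc.symm) k).eq

section Main

variable [Finite G] {p : ℕ} [Fact p.Prime] {V H A B : Subgroup G} {a b : G}

theorem eq_zpowers_of_card_prime {X : Subgroup G} (hX : Nat.card X = p) {g : G} (hg : g ∈ X)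
    (hg1 : g ≠ 1) : X = Subgroup.zpowers g := by
  have hp : p.Prime := Fact.out
  have hle : Subgroup.zpowers g ≤ X := by rw [Subgroup.zpowers_le]; exact hg
  symm
  apply Subgroup.eq_of_le_of_card_ge hle
  rw [hX]
  have h1 : Nat.card (Subgroup.zpowers g) ∣ p := by
    have := Subgroup.card_dvd_of_le hle
    rwa [hX] at this
  rcases (Nat.dvd_prime hp).mp h1 with h | h
  · exfalso
    have h2 : Subgroup.zpowers g = ⊥ := Subgroup.card_eq_one.mp h
    have := Subgroup.mem_zpowers g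
    rw [h2, Subgroup.mem_bot] at this
    exact hg1 this
  · exact h.ge

theorem Min.of_minimal (S : Setup p V H) (hAH : A ≤ H)
    (hA : Cfsg.IsBestOffenderOn p V A) (hAV : ⁅V, A⁆ ≠ ⊥)
    (hmin : ∀ B : Subgroup G, B ≤ A → Cfsg.IsBestOffenderOn p V B → ⁅V, B⁆ ≠ ⊥ → B = A) :
    Min p V H A := by
  obtain ⟨hcA, hUa, hidx⟩ := minimal_best S hAH hA hAV hmin
  refine ⟨hAH, hcA, hUa, ?_⟩
  have := card_relIndex (inf_le_left : V ⊓ Subgroup.centralizer (A : Set G) ≤ V)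
  rwa [hidx] at this

theorem Min.conj (S : Setup p V H) (M : Min p V H A) {g : G} (hg : g ∈ H) :
    Min p V H (cj g A) := by
  have hgV : g ∈ Subgroup.normalizer (V : Set G) := S.hHV hg
  have hgV' : g⁻¹ ∈ Subgroup.normalizer (V : Set G) := S.hHV (H.inv_mem hg)
  refine ⟨?_, ?_, ?_, ?_⟩
  · rintro _ ⟨y, hy, rfl⟩
    simp only [MulEquiv.coe_toMonoidHom, MulAut.conj_apply]
    exact H.mul_mem (H.mul_mem hg (M.hAH hy)) (H.inv_mem hg)
  · rw [card_cj]; exact M.hcA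
  · have hcomm : ⁅V, cj g A⁆ = cj g ⁅V, A⁆ := by
      rw [cj_commutator, cj_eq_of_mem_normalizer hgV]
    rw [hcomm, card_cj]; exact M.hUa
  · have h1 := Subgroup.card_le_of_le (cj_inf_centralizer_le V A hgV)
    rw [card_cj] at h1
    have h2 := Subgroup.card_le_of_le (cj_inf_centralizer_le V (cj g A) hgV')
    rw [card_cj, cj_inv_cj] at h2
    rw [le_antisymm h2 h1]
    exact M.hCa

theorem Pair.of_min (MA : Min p V H A) (MB : Min p V H B) (ha : a ∈ A) (hb : b ∈ B)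
    (ht : b * a⁻¹ ∈ Qof p H) (hne : b ≠ a) : Pair p V H A B a b :=
  { hAH := MA.hAH, hBH := MB.hAH, hcA := MA.hcA, hcB := MB.hcA, hUa := MA.hUa, hUb := MB.hUa,
    hCa := MA.hCa.ge, hCb := MB.hCa.ge, ha := ha, hb := hb, ht := ht, hne := hne }

/-- there is an element of the `p'`-core not centralizing `A`. -/
theorem exists_not_centralizing (S : Setup p V H) (MA : Min p V H A) :
    ∃ x ∈ Qof p H, x ∉ Subgroup.centralizer (A : Set G) := by
  have hp : p.Prime := Fact.out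
  by_contra hcon
  push Not at hcon
  have hAQ : A ≤ Qof p H := by
    intro g hg
    apply mem_Qof_of_centralizes S (MA.hAH hg)
    rw [Subgroup.mem_centralizer_iff]
    intro q hq
    have := hcon q hq
    rw [Subgroup.mem_centralizer_iff] at this
    exact (this g hg).symm
  have hAp : IsPGroup p ↥A := IsPGroup.of_card (n := 1) (by rw [MA.hcA, pow_one])
  have hAbot := eq_bot_of_le_Qof (p := p) (H := H) hAp hAQ
  have hc := MA.hcA
  rw [hAbot, Subgroup.card_bot] at hc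
  exact hp.one_lt.ne hc

/-- the pair `A, A^x`. -/
theorem pair_of_conj (S : Setup p V H) (MA : Min p V H A) {x : G} (hx : x ∈ Qof p H)
    (hxA : x ∉ Subgroup.centralizer (A : Set G)) :
    ∃ a ∈ A, Pair p V H A (cj x A) a (x * a * x⁻¹) := by
  have hex : ∃ a ∈ A, a * x ≠ x * a := by
    by_contra hcon
    push Not at hcon
    exact hxA (Subgroup.mem_centralizer_iff.mpr hcon)
  obtain ⟨a, ha, hax⟩ := hex
  have hxH : x ∈ H := Qof_le p H hx
  refine ⟨a, ha, Pair.of_min MA (MA.conj S hxH) ha (cj_mem_cj ha) ?_ ?_⟩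
  · have h1 : a * x⁻¹ * a⁻¹ ∈ Qof p H :=
      (Subgroup.mem_normalizer_iff.mp (Qof_normalizer p H (MA.hAH ha)) x⁻¹).mp
        (Subgroup.inv_mem _ hx)
    have h2 : x * a * x⁻¹ * a⁻¹ = x * (a * x⁻¹ * a⁻¹) := by group
    rw [h2]
    exact Subgroup.mul_mem _ hx h1
  · intro h
    apply hax
    calc a * x = (x * a * x⁻¹) * x := by rw [h]
      _ = x * a := by group

/-- every conjugate of `A` under the `p'`-core lies in `⟨A, B⟩`. -/
theorem Pair.conj_le (S : Setup p V H) (P : Pair p V H A B a b) (MA : Min p V H A)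
    (MB : Min p V H B) {y : G} (hy : y ∈ Qof p H) : cj y A ≤ A ⊔ B := by
  have hp : p.Prime := Fact.out
  have hyH : y ∈ H := Qof_le p H hy
  have hAz := P.A_eq_zpowers
  have hBz := P.symm.A_eq_zpowers
  have haH : a ∈ H := P.hAH P.ha
  have hbH : b ∈ H := P.hBH P.hb
  have hQn := Qof_normalizer p H
  obtain ⟨a₃, ha₃⟩ : ∃ a₃, a₃ = y * a * y⁻¹ := ⟨_, rfl⟩
  have ha₃mem : a₃ ∈ cj y A := by rw [ha₃]; exact cj_mem_cj P.ha
  have M₃ := MA.conj S hyH
  have hcjz : cj y A = Subgroup.zpowers a₃ := by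
    apply eq_zpowers_of_card_prime M₃.hcA ha₃mem
    intro h1
    apply P.a_ne_one
    have : a = y⁻¹ * a₃ * y := by rw [ha₃]; group
    rw [this, h1]; group
  by_cases h3a : a₃ = a
  · rw [hcjz, h3a, ← hAz]; exact le_sup_left
  have ht1 : a₃ * a⁻¹ ∈ Qof p H := by
    have h1 : a * y⁻¹ * a⁻¹ ∈ Qof p H :=
      (Subgroup.mem_normalizer_iff.mp (hQn haH) y⁻¹).mp (Subgroup.inv_mem _ hy)
    have h2 : a₃ * a⁻¹ = y * (a * y⁻¹ * a⁻¹) := by rw [ha₃]; group
    rw [h2]; exact Subgroup.mul_mem _ hy h1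
  have P₁ : Pair p V H A (cj y A) a a₃ := Pair.of_min MA M₃ P.ha ha₃mem ht1 h3a
  have hnc := P₁.not_A_centUb S
  have hex : ∃ u₃ ∈ ⁅V, cj y A⁆, u₃ * a ≠ a * u₃ := by
    by_contra hcon
    push Not at hcon
    apply hnc
    exact hAz.le.trans (Subgroup.zpowers_le.mpr (Subgroup.mem_centralizer_iff.mpr hcon))
  obtain ⟨u₃, hu₃, hu₃a⟩ := hex
  have hu₃V : u₃ ∈ V := P₁.symm.Ua_le S hu₃
  have hu₃1 : u₃ ≠ 1 := by
    rintro rfl
    exact hu₃a (by rw [one_mul, mul_one])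
  have hU₃z : ⁅V, cj y A⁆ = Subgroup.zpowers u₃ := eq_zpowers_of_card_prime M₃.hUa hu₃ hu₃1
  obtain ⟨c, hc⟩ : ∃ c, c = a * u₃ * a⁻¹ * u₃⁻¹ := ⟨_, rfl⟩
  have hcUa : c ∈ ⁅V, A⁆ := by
    have h1 : ⁅u₃, a⁆ ∈ ⁅V, A⁆ := Subgroup.commutator_mem_commutator hu₃V P.ha
    have h2 : c = (⁅u₃, a⁆)⁻¹ := by rw [hc, commutatorElement_def]; group
    rw [h2]; exact Subgroup.inv_mem _ h1
  have hc1 : c ≠ 1 := by
    intro h
    apply hu₃a
    have : u₃ * a = c⁻¹ * (a * u₃) := by rw [hc]; group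
    rw [this, h, inv_one, one_mul]
  have hac : a * c = c * a := by
    have := P.A_centUa S P.ha
    rw [Subgroup.mem_centralizer_iff] at this
    exact (this c hcUa).symm
  have hUaz : ⁅V, A⁆ = Subgroup.zpowers c := eq_zpowers_of_card_prime P.hUa hcUa hc1
  have hbc : c * b ≠ b * c := by
    intro h
    apply P.symm.not_A_centUb S
    rw [hUaz]
    exact hBz.le.trans (zpowers_le_centralizer_zpowers h.symm)
  have hVc : ∀ x ∈ V, ∀ y ∈ V, x * y = y * x := fun x hx y hy => by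
    have := (V_comm S) hy
    rw [Subgroup.mem_centralizer_iff] at this
    exact this x hx
  have hbN : b ∈ Subgroup.normalizer (V : Set G) := S.hHV hbH
  have hcV : c ∈ V := P.Ua_le S hcUa
  have hδc : commHom V hVc b hbN ⟨c, hcV⟩ ∈ ⁅V, B⁆ := by
    rw [commHom_apply]; exact Subgroup.commutator_mem_commutator hcV P.hb
  have hδc1 : commHom V hVc b hbN ⟨c, hcV⟩ ≠ 1 := by
    rw [commHom_apply]
    intro h
    exact hbc (commutatorElement_eq_one_iff_mul_comm.mp h)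
  have hUbz : ⁅V, B⁆ = Subgroup.zpowers (commHom V hVc b hbN ⟨c, hcV⟩) :=
    eq_zpowers_of_card_prime P.hUb hδc hδc1
  have hδu : commHom V hVc b hbN ⟨u₃, hu₃V⟩ ∈
      Subgroup.zpowers (commHom V hVc b hbN ⟨c, hcV⟩) := by
    rw [← hUbz, commHom_apply]; exact Subgroup.commutator_mem_commutator hu₃V P.hb
  obtain ⟨n, hn⟩ : ∃ n : ℕ, (commHom V hVc b hbN ⟨c, hcV⟩) ^ n =
      commHom V hVc b hbN ⟨u₃, hu₃V⟩ := by
    have := mem_powers_iff_mem_zpowers.mpr hδu
    exact (Submonoid.mem_powers_iff _ _).mp this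
  have hδcp : (commHom V hVc b hbN ⟨c, hcV⟩) ^ p = 1 := S.hV.2 _ (P.symm.Ua_le S hδc)
  obtain ⟨k, hk⟩ : ∃ k, k = n * (p - 1) := ⟨_, rfl⟩
  have hwV : c ^ k * u₃ ∈ V := V.mul_mem (V.pow_mem hcV k) hu₃V
  have hδw : commHom V hVc b hbN ⟨c ^ k * u₃, hwV⟩ = 1 := by
    have e : (⟨c ^ k * u₃, hwV⟩ : ↥V) = ⟨c, hcV⟩ ^ k * ⟨u₃, hu₃V⟩ := by
      apply Subtype.ext; simp
    rw [e, map_mul, map_pow, ← hn, ← pow_add]
    have h2 : k + n = p * n := by
      rw [hk]
      calc n * (p - 1) + n = n * (p - 1 + 1) := by ring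
        _ = n * p := by rw [Nat.sub_add_cancel hp.one_le]
        _ = p * n := mul_comm _ _
    rw [h2, pow_mul, hδcp, one_pow]
  have hwb : (c ^ k * u₃) * b = b * (c ^ k * u₃) := by
    have := hδw
    rw [commHom_apply] at this
    exact commutatorElement_eq_one_iff_mul_comm.mp this
  have hconj : ∀ m : ℕ, a ^ m * u₃ * (a ^ m)⁻¹ = c ^ m * u₃ := by
    intro m
    induction m with
    | zero => simp
    | succ m ih =>
      have hacm : a * c ^ m = c ^ m * a := (Commute.pow_right (show Commute a c from hac) m).eq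
      calc a ^ (m + 1) * u₃ * (a ^ (m + 1))⁻¹ = a * (a ^ m * u₃ * (a ^ m)⁻¹) * a⁻¹ := by
            rw [pow_succ']; group
        _ = a * (c ^ m * u₃) * a⁻¹ := by rw [ih]
        _ = (a * c ^ m) * u₃ * a⁻¹ := by group
        _ = (c ^ m * a) * u₃ * a⁻¹ := by rw [hacm]
        _ = c ^ m * (a * u₃ * a⁻¹ * u₃⁻¹) * u₃ := by group
        _ = c ^ m * c * u₃ := by rw [hc]
        _ = c ^ (m + 1) * u₃ := by rw [pow_succ]
  -- the conjugate by `a ^ k`
  have hgH : a ^ k ∈ H := H.pow_mem haH k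
  have hgV : a ^ k ∈ Subgroup.normalizer (V : Set G) := S.hHV hgH
  have M₃' := M₃.conj S hgH
  have hmem' : a ^ k * a₃ * (a ^ k)⁻¹ ∈ cj (a ^ k) (cj y A) := cj_mem_cj ha₃mem
  have hU' : ⁅V, cj (a ^ k) (cj y A)⁆ = Subgroup.zpowers (c ^ k * u₃) := by
    have h1 : ⁅V, cj (a ^ k) (cj y A)⁆ = cj (a ^ k) ⁅V, cj y A⁆ := by
      rw [cj_commutator, cj_eq_of_mem_normalizer hgV]
    rw [h1, hU₃z]
    show (Subgroup.zpowers u₃).map (MulAut.conj (a ^ k)).toMonoidHom = _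
    rw [MonoidHom.map_zpowers]
    simp only [MulEquiv.coe_toMonoidHom, MulAut.conj_apply]
    rw [hconj k]
  by_cases h3b : a ^ k * a₃ * (a ^ k)⁻¹ = b
  · have e : a₃ = (a ^ k)⁻¹ * b * a ^ k := by rw [← h3b]; group
    rw [hcjz, Subgroup.zpowers_le, e]
    have hak : a ^ k ∈ A ⊔ B := Subgroup.pow_mem _ (Subgroup.mem_sup_left P.ha) k
    exact Subgroup.mul_mem _ (Subgroup.mul_mem _ (Subgroup.inv_mem _ hak)
      (Subgroup.mem_sup_right P.hb)) hak
  · exfalso
    have hga : a ^ k * a * (a ^ k)⁻¹ = a := by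
      have : a ^ k * a = a * a ^ k := (Commute.pow_left (Commute.refl a) k).eq
      rw [this]; group
    have ht2 : a ^ k * a₃ * (a ^ k)⁻¹ * b⁻¹ ∈ Qof p H := by
      have e : a ^ k * a₃ * (a ^ k)⁻¹ * b⁻¹ =
          (a ^ k * (a₃ * a⁻¹) * (a ^ k)⁻¹) * ((a ^ k * a * (a ^ k)⁻¹) * b⁻¹) := by group
      rw [e, hga]
      apply Subgroup.mul_mem
      · exact (Subgroup.mem_normalizer_iff.mp (hQn hgH) _).mp ht1
      · have := (Qof p H).inv_mem P.ht
        rwa [_root_.mul_inv_rev, inv_inv] at this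
    have P₂ : Pair p V H B (cj (a ^ k) (cj y A)) b (a ^ k * a₃ * (a ^ k)⁻¹) :=
      Pair.of_min MB M₃' P.hb hmem' ht2 h3b
    apply P₂.not_A_centUb S
    rw [hU']
    exact hBz.le.trans (zpowers_le_centralizer_zpowers hwb.symm)

theorem Pair.comm_le (S : Setup p V H) (P : Pair p V H A B a b) (MA : Min p V H A)
    (MB : Min p V H B) : ⁅Qof p H, A⁆ ≤ Qof p H ⊓ (A ⊔ B) := by
  rw [Subgroup.commutator_le]
  intro q hq g hg
  have hgH : g ∈ H := P.hAH hg
  refine ⟨?_, ?_⟩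
  · have h1 : g * q⁻¹ * g⁻¹ ∈ Qof p H :=
      (Subgroup.mem_normalizer_iff.mp (Qof_normalizer p H hgH) q⁻¹).mp (Subgroup.inv_mem _ hq)
    have h2 : ⁅q, g⁆ = q * (g * q⁻¹ * g⁻¹) := by rw [commutatorElement_def]; group
    rw [h2]
    exact Subgroup.mul_mem _ hq h1
  · have h1 : q * g * q⁻¹ ∈ A ⊔ B := P.conj_le S MA MB hq (cj_mem_cj hg)
    rw [commutatorElement_def]
    exact Subgroup.mul_mem _ h1 (Subgroup.inv_mem _ (Subgroup.mem_sup_left hg))

theorem Pair.card_E (S : Setup p V H) (P : Pair p V H A B a b) :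
    Nat.card ↥(A ⊔ B) = p * (p ^ 2 - 1) := by
  obtain ⟨φ⟩ := P.iso_sl2 S
  rw [Nat.card_congr φ.toEquiv, Cfsg.Agent.helper12.card_SL2, ZMod.card]

theorem Pair.sup_K (P : Pair p V H A B a b) : A ⊔ (Qof p H ⊓ (A ⊔ B)) = A ⊔ B := by
  apply le_antisymm
  · exact sup_le le_sup_left inf_le_right
  · exact sup_le le_sup_left P.B_le_sup

theorem Pair.A_inf_Q (P : Pair p V H A B a b) : A ⊓ Qof p H = ⊥ :=
  eq_bot_of_le_Qof (p := p) (H := H) (P.pA.to_le inf_le_left) inf_le_right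

theorem Pair.card_K (S : Setup p V H) (P : Pair p V H A B a b) :
    Nat.card ↥(Qof p H ⊓ (A ⊔ B)) = p ^ 2 - 1 := by
  have hp : p.Prime := Fact.out
  have hn : A ≤ Subgroup.normalizer ((Qof p H ⊓ (A ⊔ B) : Subgroup G) : Set G) := by
    refine (le_inf (P.hAH.trans (Qof_normalizer p H))
      ((le_sup_left : A ≤ A ⊔ B).trans Subgroup.le_normalizer)).trans ?_
    exact Subgroup.inf_normalizer_le_normalizer_inf
  have hprod := Cfsg.Agent.helper15.card_sup_mul_card_inf_of_le_normalizer A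
    (Qof p H ⊓ (A ⊔ B)) hn
  have hinf : A ⊓ (Qof p H ⊓ (A ⊔ B)) = ⊥ := by
    rw [eq_bot_iff, ← P.A_inf_Q]
    exact le_inf inf_le_left (inf_le_right.trans inf_le_left)
  rw [hinf, Subgroup.card_bot, mul_one, P.sup_K, P.card_E S, P.hcA] at hprod
  exact (Nat.eq_of_mul_eq_mul_left hp.pos hprod).symm

/-- if moreover `b a⁻¹ ∈ [Q, A]` then `[Q, A] = Q ∩ ⟨A, B⟩`. -/
theorem Pair.comm_eq (S : Setup p V H) (P : Pair p V H A B a b) (MA : Min p V H A)
    (MB : Min p V H B) (hba : b * a⁻¹ ∈ ⁅Qof p H, A⁆) :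
    ⁅Qof p H, A⁆ = Qof p H ⊓ (A ⊔ B) := by
  have hp : p.Prime := Fact.out
  have hle := P.comm_le S MA MB
  apply Subgroup.eq_of_le_of_card_ge hle
  rw [P.card_K S]
  -- `⟨A, B⟩ ≤ [Q, A] A`
  have hAn : A ≤ Subgroup.normalizer ((⁅Qof p H, A⁆ : Subgroup G) : Set G) := fun g hg =>
    mem_normalizer_commutator (Qof_normalizer p H (P.hAH hg)) (Subgroup.le_normalizer hg)
  have hBle : B ≤ A ⊔ ⁅Qof p H, A⁆ := by
    refine P.symm.A_eq_zpowers.le.trans (Subgroup.zpowers_le.mpr ?_)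
    have h := Subgroup.mul_mem (A ⊔ ⁅Qof p H, A⁆) (Subgroup.mem_sup_right hba)
      (Subgroup.mem_sup_left P.ha)
    rwa [inv_mul_cancel_right] at h
  have hsup : A ⊔ ⁅Qof p H, A⁆ = A ⊔ B := by
    apply le_antisymm
    · exact sup_le le_sup_left (hle.trans inf_le_right)
    · exact sup_le le_sup_left hBle
  have hprod := Cfsg.Agent.helper15.card_sup_mul_card_inf_of_le_normalizer A ⁅Qof p H, A⁆ hAn
  have hinf : A ⊓ ⁅Qof p H, A⁆ = ⊥ := by
    rw [eq_bot_iff, ← P.A_inf_Q]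
    exact le_inf inf_le_left (inf_le_right.trans (hle.trans inf_le_left))
  rw [hinf, Subgroup.card_bot, mul_one, hsup, P.card_E S, P.hcA] at hprod
  exact (Nat.eq_of_mul_eq_mul_left hp.pos hprod).le

end Main

section Q8

/-- two non-commuting elements of order 4 in `SL₂(3)`. -/
def mI : SpecialLinearGroup (Fin 2) (ZMod 3) := ⟨!![0, -1; 1, 0], by decide⟩

def mJ : SpecialLinearGroup (Fin 2) (ZMod 3) := ⟨!![1, 1; 1, -1], by decide⟩

theorem mI_pow : mI ^ 4 = 1 := by decide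

theorem mJ_pow : mJ ^ 4 = 1 := by decide

theorem mI_mJ : mI * mJ ≠ mJ * mI := by decide

theorem exists_noncomm_of_index_three {X : Type*} [Group X] [Finite X]
    (φ : X ≃* SpecialLinearGroup (Fin 2) (ZMod 3)) (D : Subgroup X) [D.Normal]
    (hD : D.index = 3) : ∃ u ∈ D, ∃ v ∈ D, u * v ≠ v * u := by
  have hmem : ∀ g : X, g ^ 4 = 1 → g ∈ D := by
    intro g hg
    have h3 : (QuotientGroup.mk' D g) ^ 3 = 1 := by
      have := pow_card_eq_one' (G := X ⧸ D) (x := QuotientGroup.mk' D g)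
      rwa [← Subgroup.index_eq_card, hD] at this
    have h4 : (QuotientGroup.mk' D g) ^ 4 = 1 := by rw [← map_pow, hg, map_one]
    have h1 : QuotientGroup.mk' D g = 1 := by
      calc QuotientGroup.mk' D g = (QuotientGroup.mk' D g) ^ 4 * ((QuotientGroup.mk' D g) ^ 3)⁻¹ := by
            group
        _ = 1 := by rw [h3, h4, inv_one, mul_one]
    exact (QuotientGroup.eq_one_iff g).mp h1
  refine ⟨φ.symm mI, hmem _ (by rw [← map_pow, mI_pow, map_one]),
    φ.symm mJ, hmem _ (by rw [← map_pow, mJ_pow, map_one]), ?_⟩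
  intro h
  have := congrArg φ h
  rw [map_mul, map_mul, φ.apply_symm_apply, φ.apply_symm_apply] at this
  exact mI_mJ this

end Q8

end Cfsg.Agent.helper9.Off
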