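import Mathlib
import Cfsg.Agent.Lib_helper9_Offender5

set_option autoImplicit false
set_option linter.unusedSectionVars false

/-!
# The groups `E_A = [O_{p'}(H), A] A` and their modules `W_A = [V, E_A]`
-/

namespace Cfsg.Agent.helper9.Off

open scoped commutatorElement
open Matrix Cfsg.Agent.helper7

variable {G : Type*} [Group G]

/-- `E_A = [O_{p'}(H), A] A`. -/
def EA (p : ℕ) (H A : Subgroup G) : Subgroup G := ⁅Qof p H, A⁆ ⊔ A

theorem centralizes_of_card_two {X U : Subgroup G} (hU : Nat.card U = 2)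
    (hXU : X ≤ Subgroup.normalizer (U : Set G)) : X ≤ Subgroup.centralizer (U : Set G) := by
  intro x hx
  rw [Subgroup.mem_centralizer_iff]
  intro u hu
  by_cases hu1 : u = 1
  · rw [hu1, one_mul, mul_one]
  · obtain ⟨y, -, hy⟩ := (Nat.card_eq_two_iff' (1 : ↥U)).mp hU
    have hxu : x * u * x⁻¹ ∈ U := (Subgroup.mem_normalizer_iff.mp (hXU hx) u).mp hu
    have h1 : (⟨u, hu⟩ : ↥U) = y := hy _ (fun h => hu1 (congrArg Subtype.val h))
    have h2 : (⟨x * u * x⁻¹, hxu⟩ : ↥U) = y := hy _ (fun h => hu1 (by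
      have h3 : x * u * x⁻¹ = 1 := congrArg Subtype.val h
      have h4 : u = x⁻¹ * (x * u * x⁻¹) * x := by group
      rw [h4, h3]; group))
    have h3 : x * u * x⁻¹ = u := congrArg Subtype.val (h2.trans h1.symm)
    calc u * x = (x * u * x⁻¹) * x := by rw [h3]
      _ = x * u := by group

theorem commutator_le_centralizer_of_cyclic {X U : Subgroup G}
    (hXU : X ≤ Subgroup.normalizer (U : Set G)) [hU : IsCyclic ↥U] :
    ⁅X, X⁆ ≤ Subgroup.centralizer (U : Set G) := by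
  rw [Subgroup.commutator_le]
  intro x hx y hy
  have hx' := hXU hx
  have hy' := hXU hy
  have hmem : ⁅x, y⁆ ∈ Subgroup.normalizer (U : Set G) := by
    rw [commutatorElement_def]
    exact Subgroup.mul_mem _ (Subgroup.mul_mem _ (Subgroup.mul_mem _ hx' hy')
      (Subgroup.inv_mem _ hx')) (Subgroup.inv_mem _ hy')
  have h1 : U.normalizerMonoidHom ⟨⁅x, y⁆, hmem⟩ = 1 := by
    have e : (⟨⁅x, y⁆, hmem⟩ : ↥(Subgroup.normalizer (U : Set G))) =
        ⁅(⟨x, hx'⟩ : ↥(Subgroup.normalizer (U : Set G))), ⟨y, hy'⟩⁆ := Subtype.ext rfl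
    rw [e, map_commutatorElement, commutatorElement_eq_one_iff_mul_comm]
    exact Cfsg.Agent.h26EssP2.mulAut_comm_of_cyclic _ _
  have h2 : (⟨⁅x, y⁆, hmem⟩ : ↥(Subgroup.normalizer (U : Set G))) ∈
      U.normalizerMonoidHom.ker := h1
  rw [Subgroup.normalizerMonoidHom_ker, Subgroup.mem_subgroupOf] at h2
  exact h2

/-- decomposition of elements of a join inside an abelian group. -/
theorem exists_mul_of_mem_sup {V X Y : Subgroup G}
    (hVc : V ≤ Subgroup.centralizer (V : Set G)) (hX : X ≤ V) (hY : Y ≤ V) {g : G}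
    (hg : g ∈ X ⊔ Y) : ∃ x ∈ X, ∃ y ∈ Y, g = x * y := by
  have hn : X ≤ Subgroup.normalizer (Y : Set G) :=
    hX.trans (hVc.trans ((Subgroup.centralizer_le (SetLike.coe_subset_coe.2 hY)).trans
      (Subgroup.centralizer_le_normalizer _)))
  have h1 : (g : G) ∈ ((X ⊔ Y : Subgroup G) : Set G) := hg
  rw [Subgroup.coe_mul_of_left_le_normalizer_right X Y hn] at h1
  obtain ⟨x, hx, y, hy, rfl⟩ := Set.mem_mul.mp h1
  exact ⟨x, hx, y, hy, rfl⟩

section Main

variable [Finite G] {p : ℕ} [Fact p.Prime] {V H A B A' : Subgroup G} {a b : G}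

theorem le_normalizer_centralizer {X D : Subgroup G}
    (h : X ≤ Subgroup.normalizer (D : Set G)) :
    X ≤ Subgroup.normalizer ((Subgroup.centralizer (D : Set G) : Subgroup G) : Set G) := by
  intro x hx
  rw [Subgroup.mem_normalizer_iff]
  intro c
  constructor
  · intro hc
    exact normalizer_le_normalizer_centralizer' D (h hx) hc
  · intro hc
    have := normalizer_le_normalizer_centralizer' D (h (X.inv_mem hx)) hc
    have e : x⁻¹ * (x * c * x⁻¹) * x⁻¹⁻¹ = c := by group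
    rwa [e] at this


theorem Pair.EA_eq (S : Setup p V H) (P : Pair p V H A B a b) (MA : Min p V H A)
    (MB : Min p V H B) (hba : b * a⁻¹ ∈ ⁅Qof p H, A⁆) : EA p H A = A ⊔ B := by
  have hle := P.comm_le S MA MB
  have hBle : B ≤ A ⊔ ⁅Qof p H, A⁆ := by
    refine P.symm.A_eq_zpowers.le.trans (Subgroup.zpowers_le.mpr ?_)
    have h := Subgroup.mul_mem (A ⊔ ⁅Qof p H, A⁆) (Subgroup.mem_sup_right hba)
      (Subgroup.mem_sup_left P.ha)
    rwa [inv_mul_cancel_right] at h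
  unfold EA
  rw [sup_comm]
  apply le_antisymm
  · exact sup_le le_sup_left (hle.trans inf_le_right)
  · exact sup_le le_sup_left hBle

theorem Min.exists_loc (S : Setup p V H) (MA : Min p V H A) :
    ∃ (B : Subgroup G) (a b : G), Pair p V H A B a b ∧ Min p V H B ∧ EA p H A = A ⊔ B ∧
      ⁅Qof p H, A⁆ = Qof p H ⊓ (A ⊔ B) := by
  obtain ⟨x, hxQ, hxA⟩ := exists_not_centralizing S MA
  obtain ⟨a, ha, P⟩ := pair_of_conj S MA hxQ hxA
  have MB := MA.conj S (Qof_le p H hxQ)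
  have hba : x * a * x⁻¹ * a⁻¹ ∈ ⁅Qof p H, A⁆ := by
    have := Subgroup.commutator_mem_commutator hxQ ha
    rwa [commutatorElement_def] at this
  exact ⟨cj x A, a, x * a * x⁻¹, P, MB, P.EA_eq S MA MB hba, P.comm_eq S MA MB hba⟩

theorem A_le_EA (p : ℕ) (H A : Subgroup G) : A ≤ EA p H A := le_sup_right

theorem D_le_EA (p : ℕ) (H A : Subgroup G) : ⁅Qof p H, A⁆ ≤ EA p H A := le_sup_left

theorem EA_le (MA : Min p V H A) : EA p H A ≤ H := by
  unfold EA
  refine sup_le ?_ MA.hAH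
  exact (commutator_le_of_normalizer (MA.hAH.trans (Qof_normalizer p H))).trans (Qof_le p H)

theorem EA_card (S : Setup p V H) (MA : Min p V H A) :
    Nat.card ↥(EA p H A) = p * (p ^ 2 - 1) := by
  obtain ⟨B, a, b, P, MB, hE, hD⟩ := MA.exists_loc S
  rw [hE]; exact P.card_E S

theorem WA_card (S : Setup p V H) (MA : Min p V H A) :
    Nat.card ↥(⁅V, EA p H A⁆) = p ^ 2 := by
  obtain ⟨B, a, b, P, MB, hE, hD⟩ := MA.exists_loc S
  rw [hE]; exact P.card_W S

theorem WA_inf (S : Setup p V H) (MA : Min p V H A) :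
    ⁅V, EA p H A⁆ ⊓ Subgroup.centralizer ((EA p H A : Subgroup G) : Set G) = ⊥ := by
  obtain ⟨B, a, b, P, MB, hE, hD⟩ := MA.exists_loc S
  rw [hE]; exact P.W_inf_centE S

theorem V_decomp_EA (S : Setup p V H) (MA : Min p V H A) :
    ⁅V, EA p H A⁆ ⊔ (V ⊓ Subgroup.centralizer ((EA p H A : Subgroup G) : Set G)) = V := by
  obtain ⟨B, a, b, P, MB, hE, hD⟩ := MA.exists_loc S
  rw [hE]; exact P.V_decomp S

theorem EA_faithful (S : Setup p V H) (MA : Min p V H A) :
    EA p H A ⊓ Subgroup.centralizer ((⁅V, EA p H A⁆ : Subgroup G) : Set G) = ⊥ := by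
  obtain ⟨B, a, b, P, MB, hE, hD⟩ := MA.exists_loc S
  rw [hE]; exact P.faithful S

theorem EA_iso (S : Setup p V H) (MA : Min p V H A) :
    Nonempty (↥(EA p H A) ≃* SpecialLinearGroup (Fin 2) (ZMod p)) := by
  obtain ⟨B, a, b, P, MB, hE, hD⟩ := MA.exists_loc S
  rw [hE]; exact P.iso_sl2 S

theorem Min.p_cases (S : Setup p V H) (MA : Min p V H A) : p = 2 ∨ p = 3 := by
  obtain ⟨B, a, b, P, MB, hE, hD⟩ := MA.exists_loc S
  exact P.p_cases S

theorem WA_le (S : Setup p V H) (MA : Min p V H A) : ⁅V, EA p H A⁆ ≤ V :=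
  commutator_le_of_normalizer ((EA_le MA).trans S.hHV)

theorem EA_norm_WA (S : Setup p V H) (MA : Min p V H A) :
    EA p H A ≤ Subgroup.normalizer ((⁅V, EA p H A⁆ : Subgroup G) : Set G) := fun _ hx =>
  mem_normalizer_commutator (S.hHV (EA_le MA hx)) (Subgroup.le_normalizer hx)

theorem D_eq (S : Setup p V H) (MA : Min p V H A) :
    ⁅Qof p H, A⁆ = Qof p H ⊓ EA p H A := by
  obtain ⟨B, a, b, P, MB, hE, hD⟩ := MA.exists_loc S
  rw [hE]; exact hD

theorem D_card (S : Setup p V H) (MA : Min p V H A) :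
    Nat.card ↥(⁅Qof p H, A⁆) = p ^ 2 - 1 := by
  obtain ⟨B, a, b, P, MB, hE, hD⟩ := MA.exists_loc S
  rw [hD]; exact P.card_K S

theorem D_ne_bot (S : Setup p V H) (MA : Min p V H A) : ⁅Qof p H, A⁆ ≠ ⊥ := by
  have hp : p.Prime := Fact.out
  intro h
  have hc := D_card S MA
  rw [h, Subgroup.card_bot] at hc
  have h2 := hp.two_le
  have : 2 ^ 2 ≤ p ^ 2 := Nat.pow_le_pow_left h2 2
  omega

theorem Q_norm_D (p : ℕ) (H A : Subgroup G) :
    Qof p H ≤ Subgroup.normalizer ((⁅Qof p H, A⁆ : Subgroup G) : Set G) :=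
  Cfsg.Agent.lead.le_normalizer_commutator_left (Qof p H) A

theorem Q_norm_EA (S : Setup p V H) (MA : Min p V H A) :
    Qof p H ≤ Subgroup.normalizer ((EA p H A : Subgroup G) : Set G) := by
  obtain ⟨B, a, b, P, MB, hE, hD⟩ := MA.exists_loc S
  intro y hy
  apply mem_normalizer_of_cj_eq
  have hle : cj y (EA p H A) ≤ EA p H A := by
    have h1 : cj y (EA p H A) = cj y ⁅Qof p H, A⁆ ⊔ cj y A := Subgroup.map_sup _ _ _
    rw [h1, cj_eq_of_mem_normalizer (Q_norm_D p H A hy)]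
    apply sup_le (D_le_EA p H A)
    rw [hE]
    exact P.conj_le S MA MB hy
  exact Subgroup.eq_of_le_of_card_ge hle (by rw [card_cj])

theorem Q_norm_WA (S : Setup p V H) (MA : Min p V H A) :
    Qof p H ≤ Subgroup.normalizer ((⁅V, EA p H A⁆ : Subgroup G) : Set G) := fun _ hx =>
  mem_normalizer_commutator (S.hHV (Qof_le p H hx)) (Q_norm_EA S MA hx)

theorem EA_conj (MA : Min p V H A) {h : G} (hh : h ∈ H) :
    cj h (EA p H A) = EA p H (cj h A) := by
  unfold EA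
  have h1 : cj h (⁅Qof p H, A⁆ ⊔ A) = cj h ⁅Qof p H, A⁆ ⊔ cj h A := Subgroup.map_sup _ _ _
  rw [h1, cj_commutator, cj_eq_of_mem_normalizer (Qof_normalizer p H hh)]

theorem WA_conj (S : Setup p V H) (MA : Min p V H A) {h : G} (hh : h ∈ H) :
    cj h ⁅V, EA p H A⁆ = ⁅V, EA p H (cj h A)⁆ := by
  rw [cj_commutator, cj_eq_of_mem_normalizer (S.hHV hh), EA_conj MA hh]

theorem Pair.no_inv_line (S : Setup p V H) (P : Pair p V H A B a b) {L : Subgroup G}
    (hLW : L ≤ ⁅V, A ⊔ B⁆) (hL : Nat.card L = p)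
    (hEL : A ⊔ B ≤ Subgroup.normalizer (L : Set G)) : False := by
  have hp : p.Prime := Fact.out
  have hAL : A ≤ Subgroup.centralizer (L : Set G) :=
    centralizes_of_card_prime P.pA hL (le_sup_left.trans hEL)
  have hBL : B ≤ Subgroup.centralizer (L : Set G) :=
    centralizes_of_card_prime P.symm.pA hL (le_sup_right.trans hEL)
  have hLW' : L ≤ ⁅V, A⁆ ⊔ ⁅V, B⁆ := by rw [← P.comm_sup S]; exact hLW
  have h1 : L ≤ ⁅V, A⁆ :=
    (le_inf hLW' (Subgroup.le_centralizer_iff.mp hAL)).trans (P.W_inf_centA S).le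
  have h2 : L ≤ ⁅V, B⁆ := by
    have h3 := P.symm.W_inf_centA S
    rw [sup_comm] at h3
    exact (le_inf hLW' (Subgroup.le_centralizer_iff.mp hBL)).trans h3.le
  have h3 : L ≤ ⊥ := (le_inf h1 h2).trans (P.Ua_inf_Ub S).le
  have h4 : L = ⊥ := le_bot_iff.mp h3
  rw [h4, Subgroup.card_bot] at hL
  exact hp.one_lt.ne hL

theorem Pair.E_norm_K (P : Pair p V H A B a b) :
    A ⊔ B ≤ Subgroup.normalizer ((Qof p H ⊓ (A ⊔ B) : Subgroup G) : Set G) :=
  (le_inf ((sup_le P.hAH P.hBH).trans (Qof_normalizer p H)) Subgroup.le_normalizer).trans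
    Subgroup.inf_normalizer_le_normalizer_inf

theorem Pair.K_ne_bot (S : Setup p V H) (P : Pair p V H A B a b) :
    Qof p H ⊓ (A ⊔ B) ≠ ⊥ := by
  intro h
  have : b * a⁻¹ ∈ Qof p H ⊓ (A ⊔ B) := ⟨P.ht, P.t_mem⟩
  rw [h, Subgroup.mem_bot] at this
  exact P.t_ne_one this

/-- for `p = 3` the `p'`-part of `⟨A, B⟩` is not abelian. -/
theorem Pair.K_noncomm (S : Setup p V H) (P : Pair p V H A B a b) (h3 : p = 3) :
    ∃ u ∈ Qof p H ⊓ (A ⊔ B), ∃ v ∈ Qof p H ⊓ (A ⊔ B), u * v ≠ v * u := by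
  subst h3
  obtain ⟨φ⟩ := P.iso_sl2 S
  have hEH : A ⊔ B ≤ H := sup_le P.hAH P.hBH
  have hKn : ((Qof 3 H).subgroupOf (A ⊔ B)).Normal :=
    Subgroup.normal_subgroupOf_of_le_normalizer (hEH.trans (Qof_normalizer 3 H))
  have hidx : ((Qof 3 H).subgroupOf (A ⊔ B)).index = 3 := by
    have h1 := Subgroup.card_mul_index ((Qof 3 H).subgroupOf (A ⊔ B))
    have h2 : Nat.card ((Qof 3 H).subgroupOf (A ⊔ B)) = 8 := by
      rw [← Subgroup.inf_subgroupOf_right,
        Nat.card_congr (Subgroup.subgroupOfEquivOfLe inf_le_right).toEquiv, P.card_K S]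
      norm_num
    rw [h2, P.card_E S] at h1
    norm_num at h1
    omega
  obtain ⟨u, hu, v, hv, huv⟩ := exists_noncomm_of_index_three φ _ hidx
  refine ⟨(u : G), ⟨Subgroup.mem_subgroupOf.mp hu, u.2⟩, (v : G),
    ⟨Subgroup.mem_subgroupOf.mp hv, v.2⟩, ?_⟩
  intro h
  apply huv
  exact Subtype.ext h

/-- `O_{p'}(⟨A,B⟩)` acts irreducibly on `[V, ⟨A,B⟩]`. -/
theorem Pair.K_irred (S : Setup p V H) (P : Pair p V H A B a b) {L : Subgroup G}
    (hLW : L ≤ ⁅V, A ⊔ B⁆) (hL : Nat.card L = p)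
    (hDL : Qof p H ⊓ (A ⊔ B) ≤ Subgroup.normalizer (L : Set G)) : False := by
  have hp : p.Prime := Fact.out
  rcases P.p_cases S with h2 | h3
  · -- `p = 2`
    have hDc : Qof p H ⊓ (A ⊔ B) ≤ Subgroup.centralizer (L : Set G) :=
      centralizes_of_card_two (by rw [hL, h2]) hDL
    have hEn : A ⊔ B ≤ Subgroup.normalizer
        ((⁅V, A ⊔ B⁆ ⊓ Subgroup.centralizer ((Qof p H ⊓ (A ⊔ B) : Subgroup G) : Set G) :
          Subgroup G) : Set G) :=
      (le_inf (P.W_norm S) (le_normalizer_centralizer P.E_norm_K)).trans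
        Subgroup.inf_normalizer_le_normalizer_inf
    have hLL : L ≤ ⁅V, A ⊔ B⁆ ⊓
        Subgroup.centralizer ((Qof p H ⊓ (A ⊔ B) : Subgroup G) : Set G) :=
      le_inf hLW (Subgroup.le_centralizer_iff.mp hDc)
    have hne : ⁅V, A ⊔ B⁆ ⊓
        Subgroup.centralizer ((Qof p H ⊓ (A ⊔ B) : Subgroup G) : Set G) ≠ ⁅V, A ⊔ B⁆ := by
      intro h
      have h1 : ⁅V, A ⊔ B⁆ ≤ Subgroup.centralizer ((Qof p H ⊓ (A ⊔ B) : Subgroup G) : Set G) :=
        inf_eq_left.mp h
      have h2' : Qof p H ⊓ (A ⊔ B) ≤ (A ⊔ B) ⊓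
          Subgroup.centralizer ((⁅V, A ⊔ B⁆ : Subgroup G) : Set G) :=
        le_inf inf_le_right (Subgroup.le_centralizer_iff.mp h1)
      rw [P.faithful S] at h2'
      exact P.K_ne_bot S (le_bot_iff.mp h2')
    have hd : Nat.card ↥(⁅V, A ⊔ B⁆ ⊓
        Subgroup.centralizer ((Qof p H ⊓ (A ⊔ B) : Subgroup G) : Set G)) ∣ p ^ 2 := by
      rw [← P.card_W S]; exact Subgroup.card_dvd_of_le inf_le_left
    obtain ⟨k, hk, hk'⟩ := (Nat.dvd_prime_pow hp).mp hd
    have hk2 : k ≠ 2 := by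
      rintro rfl
      exact hne (Subgroup.eq_of_le_of_card_ge inf_le_left (by rw [hk', P.card_W S]))
    have hk0 : k ≠ 0 := by
      rintro rfl
      rw [pow_zero] at hk'
      have h1 := Subgroup.card_le_of_le hLL
      rw [hL, hk'] at h1
      exact absurd h1 (not_le.mpr hp.one_lt)
    have hk1 : k = 1 := by omega
    rw [hk1, pow_one] at hk'
    exact P.no_inv_line S inf_le_left hk' hEn
  · -- `p = 3`
    obtain ⟨u, hu, v, hv, huv⟩ := P.K_noncomm S h3
    have haE : a ∈ A ⊔ B := Subgroup.mem_sup_left P.ha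
    have hcjD : cj a (Qof p H ⊓ (A ⊔ B)) = Qof p H ⊓ (A ⊔ B) :=
      cj_eq_of_mem_normalizer (P.E_norm_K haE)
    have hcjW : cj a ⁅V, A ⊔ B⁆ = ⁅V, A ⊔ B⁆ := cj_eq_of_mem_normalizer (P.W_norm S haE)
    have hDL1 : Qof p H ⊓ (A ⊔ B) ≤ Subgroup.normalizer ((cj a L : Subgroup G) : Set G) := by
      calc Qof p H ⊓ (A ⊔ B) = cj a (Qof p H ⊓ (A ⊔ B)) := hcjD.symm
        _ ≤ cj a (Subgroup.normalizer (L : Set G)) := cj_mono hDL
        _ ≤ _ := Subgroup.le_normalizer_map _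
    have hL1W : cj a L ≤ ⁅V, A ⊔ B⁆ := by
      calc cj a L ≤ cj a ⁅V, A ⊔ B⁆ := cj_mono hLW
        _ = _ := hcjW
    have hL1c : Nat.card ↥(cj a L) = p := by rw [card_cj]; exact hL
    by_cases hLL : cj a L = L
    · have haN : a ∈ Subgroup.normalizer (L : Set G) := mem_normalizer_of_cj_eq hLL
      have hAN : A ≤ Subgroup.normalizer (L : Set G) :=
        P.A_eq_zpowers.le.trans (Subgroup.zpowers_le.mpr haN)
      have hEN : A ⊔ B ≤ Subgroup.normalizer (L : Set G) := by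
        rw [← P.sup_K]
        exact sup_le hAN hDL
      exact P.no_inv_line S hLW hL hEN
    · have hinf : L ⊓ cj a L = ⊥ := by
        have h1 : Nat.card ↥(L ⊓ cj a L) ∣ p := by
          have := Subgroup.card_dvd_of_le (inf_le_left : L ⊓ cj a L ≤ L)
          rwa [hL] at this
        rcases (Nat.dvd_prime hp).mp h1 with h | h
        · exact Subgroup.card_eq_one.mp h
        · exfalso
          have e1 : L ⊓ cj a L = L :=
            Subgroup.eq_of_le_of_card_ge inf_le_left (by rw [h, hL])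
          have e2 : L ⊓ cj a L = cj a L :=
            Subgroup.eq_of_le_of_card_ge inf_le_right (by rw [h, hL1c])
          exact hLL (e2.symm.trans e1)
      have hsup : L ⊔ cj a L = ⁅V, A ⊔ B⁆ := by
        apply Subgroup.eq_of_le_of_card_ge (sup_le hLW hL1W)
        have hn : L ≤ Subgroup.normalizer ((cj a L : Subgroup G) : Set G) :=
          (hLW.trans (P.W_le S)).trans (V_le_normalizer_of_le S (hL1W.trans (P.W_le S)))
        have hprod := Cfsg.Agent.helper15.card_sup_mul_card_inf_of_le_normalizer L (cj a L) hn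
        rw [hinf, Subgroup.card_bot, mul_one, hL, hL1c] at hprod
        rw [hprod, P.card_W S, sq]
      haveI : IsCyclic ↥L := by
        haveI : Fact (Nat.card ↥L).Prime := ⟨by rw [hL]; exact hp⟩
        exact isCyclic_of_prime_card (p := Nat.card ↥L) rfl
      haveI : IsCyclic ↥(cj a L) := by
        haveI : Fact (Nat.card ↥(cj a L)).Prime := ⟨by rw [hL1c]; exact hp⟩
        exact isCyclic_of_prime_card (p := Nat.card ↥(cj a L)) rfl
      have hc1 := commutator_le_centralizer_of_cyclic hDL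
      have hc2 := commutator_le_centralizer_of_cyclic hDL1
      have hc : ⁅Qof p H ⊓ (A ⊔ B), Qof p H ⊓ (A ⊔ B)⁆ ≤
          Subgroup.centralizer ((⁅V, A ⊔ B⁆ : Subgroup G) : Set G) := by
        rw [← hsup, Cfsg.Agent.helper15.centralizer_sup_eq]
        exact le_inf hc1 hc2
      have hbot : ⁅Qof p H ⊓ (A ⊔ B), Qof p H ⊓ (A ⊔ B)⁆ ≤ ⊥ := by
        rw [← P.faithful S]
        exact le_inf ((commutator_le_of_normalizer Subgroup.le_normalizer).trans inf_le_right) hc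
      have h1 : ⁅u, v⁆ ∈ (⊥ : Subgroup G) := hbot (Subgroup.commutator_mem_commutator hu hv)
      rw [Subgroup.mem_bot] at h1
      exact huv (commutatorElement_eq_one_iff_mul_comm.mp h1)

theorem D_irred (S : Setup p V H) (MA : Min p V H A) {L : Subgroup G}
    (hLW : L ≤ ⁅V, EA p H A⁆) (hL : Nat.card L = p)
    (hDL : ⁅Qof p H, A⁆ ≤ Subgroup.normalizer (L : Set G)) : False := by
  obtain ⟨B, a, b, P, MB, hE, hD⟩ := MA.exists_loc S
  rw [hE] at hLW
  rw [hD] at hDL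
  exact P.K_irred S hLW hL hDL

/-- two of the modules `W_A` are equal or independent. -/
theorem W_cases (S : Setup p V H) (MA : Min p V H A) (MA' : Min p V H A') :
    ⁅V, EA p H A⁆ = ⁅V, EA p H A'⁆ ∨
      (⁅V, EA p H A⁆ ⊓ ⁅V, EA p H A'⁆ = ⊥ ∧
        ⁅Qof p H, A'⁆ ≤ Subgroup.centralizer ((⁅V, EA p H A⁆ : Subgroup G) : Set G) ∧
        ⁅Qof p H, A⁆ ≤ Subgroup.centralizer ((⁅V, EA p H A'⁆ : Subgroup G) : Set G)) := by
  have hp : p.Prime := Fact.out
  have hQI : Qof p H ≤ Subgroup.normalizer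
      ((⁅V, EA p H A⁆ ⊓ ⁅V, EA p H A'⁆ : Subgroup G) : Set G) :=
    (le_inf (Q_norm_WA S MA) (Q_norm_WA S MA')).trans Subgroup.inf_normalizer_le_normalizer_inf
  have hDQ : ⁅Qof p H, A⁆ ≤ Qof p H :=
    commutator_le_of_normalizer (MA.hAH.trans (Qof_normalizer p H))
  have hDQ' : ⁅Qof p H, A'⁆ ≤ Qof p H :=
    commutator_le_of_normalizer (MA'.hAH.trans (Qof_normalizer p H))
  have hd : Nat.card ↥(⁅V, EA p H A⁆ ⊓ ⁅V, EA p H A'⁆) ∣ p ^ 2 := by
    rw [← WA_card S MA]; exact Subgroup.card_dvd_of_le inf_le_left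
  obtain ⟨k, hk, hk'⟩ := (Nat.dvd_prime_pow hp).mp hd
  have hk012 : k = 0 ∨ k = 1 ∨ k = 2 := by omega
  rcases hk012 with rfl | rfl | rfl
  · right
    rw [pow_zero] at hk'
    have hbot : ⁅V, EA p H A⁆ ⊓ ⁅V, EA p H A'⁆ = ⊥ := Subgroup.card_eq_one.mp hk'
    refine ⟨hbot, ?_, ?_⟩
    · apply Subgroup.le_centralizer_iff.mp
      apply Subgroup.commutator_eq_bot_iff_le_centralizer.mp
      rw [eq_bot_iff, ← hbot]
      apply le_inf
      · exact commutator_le_of_normalizer (hDQ'.trans (Q_norm_WA S MA))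
      · exact Subgroup.commutator_mono (WA_le S MA) (D_le_EA p H A')
    · apply Subgroup.le_centralizer_iff.mp
      apply Subgroup.commutator_eq_bot_iff_le_centralizer.mp
      rw [eq_bot_iff, ← hbot]
      apply le_inf
      · exact Subgroup.commutator_mono (WA_le S MA') (D_le_EA p H A)
      · exact commutator_le_of_normalizer (hDQ.trans (Q_norm_WA S MA'))
  · exfalso
    rw [pow_one] at hk'
    exact D_irred S MA inf_le_left hk' (hDQ.trans hQI)
  · left
    have e1 : ⁅V, EA p H A⁆ ⊓ ⁅V, EA p H A'⁆ = ⁅V, EA p H A⁆ :=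
      Subgroup.eq_of_le_of_card_ge inf_le_left (by rw [hk', WA_card S MA])
    have e2 : ⁅V, EA p H A⁆ ⊓ ⁅V, EA p H A'⁆ = ⁅V, EA p H A'⁆ :=
      Subgroup.eq_of_le_of_card_ge inf_le_right (by rw [hk', WA_card S MA'])
    exact e1.symm.trans e2

/-- every minimal offender normalizes every module `W_{A'}`. -/
theorem A_norm_WA' (S : Setup p V H) (MA : Min p V H A) (MA' : Min p V H A') :
    A ≤ Subgroup.normalizer ((⁅V, EA p H A'⁆ : Subgroup G) : Set G) := by
  have hp : p.Prime := Fact.out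
  rcases W_cases S MA MA' with heq | ⟨hbot, hD'W, -⟩
  · rw [← heq]
    exact (A_le_EA p H A).trans (EA_norm_WA S MA)
  obtain ⟨B, a, b, P, MB, hE, hD⟩ := MA.exists_loc S
  refine P.A_eq_zpowers.le.trans (Subgroup.zpowers_le.mpr ?_)
  apply mem_normalizer_of_cj_eq
  by_contra hne
  have haH : a ∈ H := MA.hAH P.ha
  have MA'' := MA'.conj S haH
  have hW'' : cj a ⁅V, EA p H A'⁆ = ⁅V, EA p H (cj a A')⁆ := WA_conj S MA' haH
  rw [hW''] at hne
  -- `D'` centralizes `W''`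
  have hD'W'' : ⁅Qof p H, A'⁆ ≤
      Subgroup.centralizer ((⁅V, EA p H (cj a A')⁆ : Subgroup G) : Set G) := by
    rcases W_cases S MA'' MA' with h | ⟨-, h, -⟩
    · exact absurd h hne
    · exact h
  -- `W ∩ W'' = 1`
  have hWW'' : ⁅V, EA p H A⁆ ⊓ ⁅V, EA p H (cj a A')⁆ = ⊥ := by
    rcases W_cases S MA MA'' with h | ⟨h, -, -⟩
    · exfalso
      have hainv : a⁻¹ ∈ Subgroup.normalizer ((⁅V, EA p H A⁆ : Subgroup G) : Set G) :=
        EA_norm_WA S MA (A_le_EA p H A (A.inv_mem P.ha))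
      have h1 : cj a⁻¹ ⁅V, EA p H (cj a A')⁆ = ⁅V, EA p H A'⁆ := by
        rw [← hW'', cj_inv_cj]
      have h2 : cj a⁻¹ ⁅V, EA p H A⁆ = ⁅V, EA p H A⁆ := cj_eq_of_mem_normalizer hainv
      rw [← h, h2] at h1
      rw [h1] at hbot
      rw [inf_idem] at hbot
      have hc := WA_card S MA'
      rw [hbot, Subgroup.card_bot] at hc
      have : 2 ^ 2 ≤ p ^ 2 := Nat.pow_le_pow_left hp.two_le 2
      omega
    · exact h
  -- `W'' ≤ W W'`
  have hW''le : ⁅V, EA p H (cj a A')⁆ ≤ ⁅V, EA p H A⁆ ⊔ ⁅V, EA p H A'⁆ := by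
    rw [← hW'']
    rintro _ ⟨w, hw, rfl⟩
    simp only [MulEquiv.coe_toMonoidHom, MulAut.conj_apply]
    have hwV : w ∈ V := WA_le S MA' hw
    have h1 : ⁅w, a⁆ ∈ ⁅V, EA p H A⁆ :=
      Subgroup.commutator_mem_commutator hwV (A_le_EA p H A P.ha)
    have h2 : a * w * a⁻¹ = (⁅w, a⁆)⁻¹ * w := by rw [commutatorElement_def]; group
    rw [h2]
    exact Subgroup.mul_mem _ (Subgroup.mem_sup_left (Subgroup.inv_mem _ h1))
      (Subgroup.mem_sup_right hw)
  have hcard : ∀ {X Y : Subgroup G}, X ≤ V → Y ≤ V → X ⊓ Y = ⊥ → Nat.card X = p ^ 2 →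
      Nat.card Y = p ^ 2 → Nat.card ↥(X ⊔ Y) = p ^ 2 * p ^ 2 := by
    intro X Y hX hY hXY hcX hcY
    have hn : X ≤ Subgroup.normalizer (Y : Set G) := hX.trans (V_le_normalizer_of_le S hY)
    have hprod := Cfsg.Agent.helper15.card_sup_mul_card_inf_of_le_normalizer X Y hn
    rw [hXY, Subgroup.card_bot, mul_one, hcX, hcY] at hprod
    exact hprod
  have hsupeq : ⁅V, EA p H A⁆ ⊔ ⁅V, EA p H (cj a A')⁆ = ⁅V, EA p H A⁆ ⊔ ⁅V, EA p H A'⁆ := by
    apply Subgroup.eq_of_le_of_card_ge (sup_le le_sup_left hW''le)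
    rw [hcard (WA_le S MA) (WA_le S MA'') hWW'' (WA_card S MA) (WA_card S MA''),
      hcard (WA_le S MA) (WA_le S MA') hbot (WA_card S MA) (WA_card S MA')]
  have hD'W' : ⁅Qof p H, A'⁆ ≤
      Subgroup.centralizer ((⁅V, EA p H A'⁆ : Subgroup G) : Set G) := by
    have h1 : ⁅Qof p H, A'⁆ ≤ Subgroup.centralizer
        ((⁅V, EA p H A⁆ ⊔ ⁅V, EA p H (cj a A')⁆ : Subgroup G) : Set G) := by
      rw [Cfsg.Agent.helper15.centralizer_sup_eq]
      exact le_inf hD'W hD'W''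
    rw [hsupeq] at h1
    exact h1.trans (Subgroup.centralizer_le (SetLike.coe_subset_coe.2 le_sup_right))
  have hD'bot : ⁅Qof p H, A'⁆ ≤ ⊥ := by
    rw [← EA_faithful S MA']
    exact le_inf (D_le_EA p H A') hD'W'
  exact D_ne_bot S MA' (le_bot_iff.mp hD'bot)

end Main

end Cfsg.Agent.helper9.Off
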