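import Mathlib
import Cfsg.Agent.Lib_helper9_Offender6

set_option autoImplicit false
set_option linter.unusedSectionVars false

/-!
# The structure theorem for failure of factorization (Kurzweil–Stellmacher 9.3.7, 9.3.8)
-/

namespace Cfsg.Agent.helper9.Off

open scoped commutatorElement
open Matrix Cfsg.Agent.helper7

variable {G : Type*} [Group G]

section Main

variable [Finite G] {p : ℕ} [Fact p.Prime] {V H A B A' : Subgroup G} {a b : G}

/-- An element of `H` centralizing a `Q`-invariant `W ≤ V` and `V / W` is trivial. -/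
theorem trivial_of_stab (S : Setup p V H) {W : Subgroup G} (hWV : W ≤ V)
    (hQW : Qof p H ≤ Subgroup.normalizer (W : Set G)) {h : G} (hh : h ∈ H)
    (hc : h ∈ Subgroup.centralizer (W : Set G)) (hs : ∀ v ∈ V, ⁅v, h⁆ ∈ W) : h = 1 := by
  have hp : p.Prime := Fact.out
  -- the stability group
  have hN : h ∈ H ⊓ Subgroup.centralizer (W : Set G) ⊓ stabSub V W :=
    ⟨⟨hh, hc⟩, ⟨Subgroup.centralizer_le_normalizer _ hc, hs⟩⟩
  -- Lemma A
  have hA : ∀ n ∈ H ⊓ Subgroup.centralizer (W : Set G) ⊓ stabSub V W, n ^ p = 1 := by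
    rintro n ⟨⟨hnH, hnC⟩, hnS⟩
    have hnp : n ^ p ∈ Subgroup.centralizer (V : Set G) := by
      rw [Subgroup.mem_centralizer_iff]
      intro v hv
      obtain ⟨w, hw⟩ : ∃ w, w = n * v * n⁻¹ * v⁻¹ := ⟨_, rfl⟩
      have hwW : w ∈ W := by
        have h1 : ⁅v, n⁆ ∈ W := hnS.2 v hv
        have h2 : w = (⁅v, n⁆)⁻¹ := by rw [hw, commutatorElement_def]; group
        rw [h2]; exact W.inv_mem h1
      have hnw : n * w = w * n := by
        have hnC' : n ∈ Subgroup.centralizer (W : Set G) := hnC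
        rw [Subgroup.mem_centralizer_iff] at hnC'
        exact (hnC' w hwW).symm
      have hconj : ∀ m : ℕ, n ^ m * v * (n ^ m)⁻¹ = w ^ m * v := by
        intro m
        induction m with
        | zero => simp
        | succ m ih =>
          have hnwm : n * w ^ m = w ^ m * n :=
            (Commute.pow_right (show Commute n w from hnw) m).eq
          calc n ^ (m + 1) * v * (n ^ (m + 1))⁻¹ = n * (n ^ m * v * (n ^ m)⁻¹) * n⁻¹ := by
                rw [pow_succ']; group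
            _ = n * (w ^ m * v) * n⁻¹ := by rw [ih]
            _ = (n * w ^ m) * v * n⁻¹ := by group
            _ = (w ^ m * n) * v * n⁻¹ := by rw [hnwm]
            _ = w ^ m * (n * v * n⁻¹ * v⁻¹) * v := by group
            _ = w ^ m * w * v := by rw [hw]
            _ = w ^ (m + 1) * v := by rw [pow_succ]
      have h1 := hconj p
      rw [S.hV.2 w (hWV hwW), one_mul] at h1
      calc v * n ^ p = (n ^ p * v * (n ^ p)⁻¹) * n ^ p := by rw [h1]
        _ = n ^ p * v := by group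
    exact eq_one_of_mem_of_centralizes S (H.pow_mem hnH p) hnp
  -- Lemma B
  have hB : ∀ n ∈ H ⊓ Subgroup.centralizer (W : Set G) ⊓ stabSub V W, n ∈ Qof p H → n = 1 := by
    intro n hn hnQ
    have h1 : orderOf n ∣ p := orderOf_dvd_of_pow_eq_one (hA n hn)
    rcases (Nat.dvd_prime hp).mp h1 with h | h
    · exact orderOf_eq_one_iff.mp h
    · exfalso
      apply Qof_coprime (p := p) H
      have h2 : orderOf (⟨n, hnQ⟩ : ↥(Qof p H)) = orderOf n := by
        rw [← Subgroup.orderOf_coe]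
      have h3 : orderOf (⟨n, hnQ⟩ : ↥(Qof p H)) ∣ Nat.card ↥(Qof p H) := orderOf_dvd_natCard _
      rw [h2, h] at h3
      exact h3
  -- Lemma C
  have hC : ∀ y ∈ Qof p H, ∀ n ∈ H ⊓ Subgroup.centralizer (W : Set G) ⊓ stabSub V W,
      y * n * y⁻¹ ∈ H ⊓ Subgroup.centralizer (W : Set G) ⊓ stabSub V W := by
    rintro y hy n ⟨⟨hnH, hnC⟩, hnS⟩
    have hyH : y ∈ H := Qof_le p H hy
    have hyW := hQW hy
    refine ⟨⟨H.mul_mem (H.mul_mem hyH hnH) (H.inv_mem hyH),
      normalizer_le_normalizer_centralizer' W hyW hnC⟩, ?_, ?_⟩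
    · exact Subgroup.mul_mem _ (Subgroup.mul_mem _ hyW hnS.1) (Subgroup.inv_mem _ hyW)
    · intro v hv
      have hv' : y⁻¹ * v * y⁻¹⁻¹ ∈ V :=
        (Subgroup.mem_normalizer_iff.mp (S.hHV (H.inv_mem hyH)) v).mp hv
      have h1 : ⁅y⁻¹ * v * y⁻¹⁻¹, n⁆ ∈ W := hnS.2 _ hv'
      have h2 : ⁅v, y * n * y⁻¹⁆ = y * ⁅y⁻¹ * v * y⁻¹⁻¹, n⁆ * y⁻¹ := by
        simp only [commutatorElement_def]; group
      rw [h2]
      exact (Subgroup.mem_normalizer_iff.mp hyW _).mp h1
  -- `h` centralizes `Q`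
  have hcQ : h ∈ Subgroup.centralizer (Qof p H : Set G) := by
    rw [Subgroup.mem_centralizer_iff]
    intro y hy
    have hyH : y ∈ H := Qof_le p H hy
    have h1 : h * y * h⁻¹ * y⁻¹ ∈ Qof p H := by
      have : h * y * h⁻¹ ∈ Qof p H :=
        (Subgroup.mem_normalizer_iff.mp (Qof_normalizer p H hh) y).mp hy
      exact Subgroup.mul_mem _ this (Subgroup.inv_mem _ hy)
    have h2 : h * y * h⁻¹ * y⁻¹ ∈ H ⊓ Subgroup.centralizer (W : Set G) ⊓ stabSub V W := by
      have h3 := hC y hy h⁻¹ (Subgroup.inv_mem _ hN)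
      have h4 : h * y * h⁻¹ * y⁻¹ = h * (y * h⁻¹ * y⁻¹) := by group
      rw [h4]
      exact Subgroup.mul_mem _ hN h3
    have h3 := hB _ h2 h1
    calc y * h = (h * y * h⁻¹ * y⁻¹)⁻¹ * (h * y) := by group
      _ = h * y := by rw [h3, inv_one, one_mul]
  exact hB h hN (mem_Qof_of_centralizes S hh hcQ)

/-- `W_A = W_{A'}` forces `E_A = E_{A'}`. -/
theorem EA_eq_of_WA_eq (S : Setup p V H) (MA : Min p V H A) (MA' : Min p V H A')
    (hW : ⁅V, EA p H A⁆ = ⁅V, EA p H A'⁆) : EA p H A = EA p H A' := by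
  have hp : p.Prime := Fact.out
  have hWV : ⁅V, EA p H A⁆ ≤ V := WA_le S MA
  have hFH : EA p H A ⊔ EA p H A' ≤ H := sup_le (EA_le MA) (EA_le MA')
  have hN' : EA p H A' ≤ Subgroup.normalizer ((⁅V, EA p H A⁆ : Subgroup G) : Set G) := by
    rw [hW]; exact EA_norm_WA S MA'
  have hFW : EA p H A ⊔ EA p H A' ≤
      Subgroup.normalizer ((⁅V, EA p H A⁆ : Subgroup G) : Set G) :=
    sup_le (EA_norm_WA S MA) hN'
  have hFs : EA p H A ⊔ EA p H A' ≤ stabSub V ⁅V, EA p H A⁆ :=
    sup_le (le_stabSub (EA_norm_WA S MA) le_rfl) (le_stabSub hN' hW.ge)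
  let ρ : ↥(EA p H A ⊔ EA p H A') →* MulAut ↥(⁅V, EA p H A⁆) :=
    (Subgroup.normalizerMonoidHom ⁅V, EA p H A⁆).comp (Subgroup.inclusion hFW)
  have hρ : Function.Injective ρ := by
    rw [injective_iff_map_eq_one]
    intro g hg
    have h1 : Subgroup.inclusion hFW g ∈
        (Subgroup.normalizerMonoidHom ⁅V, EA p H A⁆).ker := hg
    rw [Subgroup.normalizerMonoidHom_ker, Subgroup.mem_subgroupOf] at h1
    have h2 : (g : G) = 1 := trivial_of_stab S hWV (Q_norm_WA S MA) (hFH g.2) h1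
      (fun v hv => (hFs g.2).2 v hv)
    exact Subtype.ext h2
  obtain ⟨Θ, hΘ⟩ := Cfsg.Agent.h26EssP2.exists_theta (H := ↥(⁅V, EA p H A⁆)) (p := p)
    (fun x y => by
      apply Subtype.ext
      have := (V_comm S) (hWV y.2)
      rw [Subgroup.mem_centralizer_iff] at this
      exact this x.1 (hWV x.2))
    (fun x => by
      apply Subtype.ext
      rw [Subgroup.coe_pow]
      exact S.hV.2 x.1 (hWV x.2))
    (WA_card S MA)
  have hι : Function.Injective (Θ.comp ρ) := hΘ.comp hρ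
  -- `p`-subgroups land in `SL₂`
  have hpsub : ∀ X : Subgroup G, IsPGroup p ↥X → X ≤ EA p H A ⊔ EA p H A' →
      X ≤ (((SpecialLinearGroup.toGL : SpecialLinearGroup (Fin 2) (ZMod p) →*
        GL (Fin 2) (ZMod p)).range.comap (Θ.comp ρ)).map (EA p H A ⊔ EA p H A').subtype) := by
    intro X hX hXF g hg
    have hX0 : IsPGroup p (X.subgroupOf (EA p H A ⊔ EA p H A')) := hX.comap_subtype
    have h1 := Cfsg.Agent.h26EssP2.pgroup_le_range_toGL _ (hX0.map (Θ.comp ρ))
    refine ⟨⟨g, hXF hg⟩, ?_, rfl⟩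
    apply h1
    exact ⟨⟨g, hXF hg⟩, Subgroup.mem_subgroupOf.mpr hg, rfl⟩
  obtain ⟨B, a, b, P, MB, hE, hD⟩ := MA.exists_loc S
  obtain ⟨B', a', b', P', MB', hE', hD'⟩ := MA'.exists_loc S
  have hFle : EA p H A ⊔ EA p H A' ≤
      (((SpecialLinearGroup.toGL : SpecialLinearGroup (Fin 2) (ZMod p) →*
        GL (Fin 2) (ZMod p)).range.comap (Θ.comp ρ)).map (EA p H A ⊔ EA p H A').subtype) := by
    have hAF : A ≤ EA p H A ⊔ EA p H A' := (A_le_EA p H A).trans le_sup_left
    have hBF : B ≤ EA p H A ⊔ EA p H A' := by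
      refine le_trans ?_ (le_sup_left : EA p H A ≤ _)
      rw [hE]; exact le_sup_right
    have hA'F : A' ≤ EA p H A ⊔ EA p H A' := (A_le_EA p H A').trans le_sup_right
    have hB'F : B' ≤ EA p H A ⊔ EA p H A' := by
      refine le_trans ?_ (le_sup_right : EA p H A' ≤ _)
      rw [hE']; exact le_sup_right
    apply sup_le
    · exact hE.le.trans (sup_le (hpsub A P.pA hAF) (hpsub B P.symm.pA hBF))
    · exact hE'.le.trans (sup_le (hpsub A' P'.pA hA'F) (hpsub B' P'.symm.pA hB'F))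
  have hrange : (Θ.comp ρ).range ≤ (SpecialLinearGroup.toGL :
      SpecialLinearGroup (Fin 2) (ZMod p) →* GL (Fin 2) (ZMod p)).range := by
    rintro _ ⟨f, rfl⟩
    obtain ⟨f', hf', hff'⟩ := hFle f.2
    have : f' = f := Subtype.ext hff'
    rw [← this]
    exact hf'
  have hcardF : Nat.card ↥(EA p H A ⊔ EA p H A') ≤ p * (p ^ 2 - 1) := by
    calc Nat.card ↥(EA p H A ⊔ EA p H A') = Nat.card (Θ.comp ρ).range :=
          Nat.card_congr (MonoidHom.ofInjective hι).toEquiv
      _ ≤ Nat.card (SpecialLinearGroup.toGL :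
          SpecialLinearGroup (Fin 2) (ZMod p) →* GL (Fin 2) (ZMod p)).range :=
          Subgroup.card_le_of_le hrange
      _ = Nat.card (SpecialLinearGroup (Fin 2) (ZMod p)) :=
          (Nat.card_congr (MonoidHom.ofInjective SpecialLinearGroup.toGL_injective).toEquiv).symm
      _ = p * (p ^ 2 - 1) := by rw [Cfsg.Agent.helper12.card_SL2, ZMod.card]
  have e1 : EA p H A = EA p H A ⊔ EA p H A' :=
    Subgroup.eq_of_le_of_card_ge le_sup_left (by rw [EA_card S MA]; exact hcardF)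
  have e2 : EA p H A' = EA p H A ⊔ EA p H A' :=
    Subgroup.eq_of_le_of_card_ge le_sup_right (by rw [EA_card S MA']; exact hcardF)
  exact e1.trans e2.symm

/-- two of the groups `E_A` are equal or the second centralizes the module of the first. -/
theorem EA_cases (S : Setup p V H) (MA : Min p V H A) (MA' : Min p V H A') :
    EA p H A = EA p H A' ∨
      EA p H A' ≤ H ⊓ Subgroup.centralizer ((⁅V, EA p H A⁆ : Subgroup G) : Set G) := by
  rcases W_cases S MA MA' with heq | ⟨hbot, hD'W, -⟩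
  · left; exact EA_eq_of_WA_eq S MA MA' heq
  · right
    refine le_inf (EA_le MA') ?_
    unfold EA
    refine sup_le hD'W ?_
    apply Subgroup.le_centralizer_iff.mp
    apply Subgroup.commutator_eq_bot_iff_le_centralizer.mp
    rw [eq_bot_iff, ← hbot]
    apply le_inf
    · exact commutator_le_of_normalizer (A_norm_WA' S MA' MA)
    · exact Subgroup.commutator_mono (WA_le S MA) (A_le_EA p H A')

/-- an element of `H` normalizing `W_A` normalizes `E_A`. -/
theorem mem_normalizer_EA (S : Setup p V H) (MA : Min p V H A) {h : G} (hh : h ∈ H)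
    (hW : h ∈ Subgroup.normalizer ((⁅V, EA p H A⁆ : Subgroup G) : Set G)) :
    h ∈ Subgroup.normalizer ((EA p H A : Subgroup G) : Set G) := by
  apply mem_normalizer_of_cj_eq
  rw [EA_conj MA hh]
  symm
  apply EA_eq_of_WA_eq S MA (MA.conj S hh)
  rw [← WA_conj S MA hh, cj_eq_of_mem_normalizer hW]

/-- The minimal offenders of the statements. -/
def IsMinOff (p : ℕ) (V H A : Subgroup G) : Prop :=
  A ≤ H ∧ Cfsg.IsBestOffenderOn p V A ∧ ⁅V, A⁆ ≠ ⊥ ∧
    ∀ B : Subgroup G, B ≤ A → Cfsg.IsBestOffenderOn p V B → ⁅V, B⁆ ≠ ⊥ → B = A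

theorem IsMinOff.min (S : Setup p V H) (h : IsMinOff p V H A) : Min p V H A :=
  Min.of_minimal S h.1 h.2.1 h.2.2.1 h.2.2.2

theorem H_le_iSup_min (S : Setup p V H)
    (hS3 : H = ⨆ A : {A : Subgroup G // A ≤ H ∧ Cfsg.IsBestOffenderOn p V A}, (A : Subgroup G)) :
    H ≤ ⨆ A : {A : Subgroup G // IsMinOff p V H A}, (A : Subgroup G) := by
  refine hS3.le.trans (iSup_le ?_)
  rintro ⟨A₀, hA₀H, hA₀⟩
  obtain ⟨k, B, hB, -, hsup⟩ := dec_fin S hA₀H hA₀
  show A₀ ≤ _
  rw [← hsup]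
  refine iSup_le (fun i => ?_)
  obtain ⟨h1, h2, h3, h4⟩ := hB i
  exact le_iSup_of_le (⟨B i, h1.trans hA₀H, h2, h3, h4⟩ : {A : Subgroup G // IsMinOff p V H A})
    le_rfl

theorem H_norm_WA (S : Setup p V H)
    (hS3 : H = ⨆ A : {A : Subgroup G // A ≤ H ∧ Cfsg.IsBestOffenderOn p V A}, (A : Subgroup G))
    (MA : Min p V H A) :
    H ≤ Subgroup.normalizer ((⁅V, EA p H A⁆ : Subgroup G) : Set G) := by
  refine (H_le_iSup_min S hS3).trans (iSup_le ?_)
  rintro ⟨A', hA'⟩
  exact A_norm_WA' S (hA'.min S) MA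

theorem H_norm_EA (S : Setup p V H)
    (hS3 : H = ⨆ A : {A : Subgroup G // A ≤ H ∧ Cfsg.IsBestOffenderOn p V A}, (A : Subgroup G))
    (MA : Min p V H A) :
    H ≤ Subgroup.normalizer ((EA p H A : Subgroup G) : Set G) := fun _ hh =>
  mem_normalizer_EA S MA hh (H_norm_WA S hS3 MA hh)

theorem EA_sup_C (S : Setup p V H)
    (hS3 : H = ⨆ A : {A : Subgroup G // A ≤ H ∧ Cfsg.IsBestOffenderOn p V A}, (A : Subgroup G))
    (MA : Min p V H A) :
    EA p H A ⊔ (H ⊓ Subgroup.centralizer ((⁅V, EA p H A⁆ : Subgroup G) : Set G)) = H := by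
  apply le_antisymm
  · exact sup_le (EA_le MA) inf_le_left
  · refine (H_le_iSup_min S hS3).trans (iSup_le ?_)
    rintro ⟨A', hA'⟩
    rcases EA_cases S MA (hA'.min S) with h | h
    · exact ((A_le_EA p H A').trans h.ge).trans le_sup_left
    · exact ((A_le_EA p H A').trans h).trans le_sup_right

theorem C_norm_EA (S : Setup p V H) (MA : Min p V H A) :
    H ⊓ Subgroup.centralizer ((⁅V, EA p H A⁆ : Subgroup G) : Set G) ≤
      Subgroup.normalizer ((EA p H A : Subgroup G) : Set G) := fun _ hc =>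
  mem_normalizer_EA S MA hc.1 (Subgroup.centralizer_le_normalizer _ hc.2)

theorem EA_comm_C (S : Setup p V H) (MA : Min p V H A) :
    ⁅EA p H A, H ⊓ Subgroup.centralizer ((⁅V, EA p H A⁆ : Subgroup G) : Set G)⁆ = ⊥ := by
  rw [eq_bot_iff, ← EA_faithful S MA]
  apply le_inf
  · exact commutator_le_of_normalizer (C_norm_EA S MA)
  · have hEn : EA p H A ≤ Subgroup.normalizer
        ((H ⊓ Subgroup.centralizer ((⁅V, EA p H A⁆ : Subgroup G) : Set G) : Subgroup G) :
          Set G) :=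
      (le_inf ((EA_le MA).trans Subgroup.le_normalizer)
        (le_normalizer_centralizer (EA_norm_WA S MA))).trans
        Subgroup.inf_normalizer_le_normalizer_inf
    rw [Subgroup.commutator_comm]
    exact (commutator_le_of_normalizer hEn).trans inf_le_right

theorem V_comm_C (S : Setup p V H) (MA : Min p V H A) :
    ⁅V, H ⊓ Subgroup.centralizer ((⁅V, EA p H A⁆ : Subgroup G) : Set G)⁆ ≤
      V ⊓ Subgroup.centralizer ((EA p H A : Subgroup G) : Set G) := by
  have hCY : H ⊓ Subgroup.centralizer ((⁅V, EA p H A⁆ : Subgroup G) : Set G) ≤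
      Subgroup.normalizer ((V ⊓ Subgroup.centralizer ((EA p H A : Subgroup G) : Set G) :
        Subgroup G) : Set G) :=
    (le_inf (inf_le_left.trans S.hHV) (le_normalizer_centralizer (C_norm_EA S MA))).trans
      Subgroup.inf_normalizer_le_normalizer_inf
  rw [Subgroup.commutator_le]
  intro v hv c hc
  have hvd : v ∈ ⁅V, EA p H A⁆ ⊔
      (V ⊓ Subgroup.centralizer ((EA p H A : Subgroup G) : Set G)) := by
    rw [V_decomp_EA S MA]; exact hv
  obtain ⟨w, hw, y, hy, rfl⟩ := exists_mul_of_mem_sup (V_comm S) (WA_le S MA) inf_le_left hvd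
  have hcw : c * w⁻¹ * c⁻¹ = w⁻¹ := by
    have this : c ∈ Subgroup.centralizer ((⁅V, EA p H A⁆ : Subgroup G) : Set G) := hc.2
    rw [Subgroup.mem_centralizer_iff] at this
    have h1 := this w⁻¹ (Subgroup.inv_mem _ hw)
    calc c * w⁻¹ * c⁻¹ = (w⁻¹ * c) * c⁻¹ := by rw [h1]
      _ = w⁻¹ := by group
  have hyc : ⁅y, c⁆ ∈ V ⊓ Subgroup.centralizer ((EA p H A : Subgroup G) : Set G) := by
    have h1 : c * y⁻¹ * c⁻¹ ∈ V ⊓ Subgroup.centralizer ((EA p H A : Subgroup G) : Set G) :=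
      (Subgroup.mem_normalizer_iff.mp (hCY hc) _).mp (Subgroup.inv_mem _ hy)
    have h2 : ⁅y, c⁆ = y * (c * y⁻¹ * c⁻¹) := by rw [commutatorElement_def]; group
    rw [h2]
    exact Subgroup.mul_mem _ hy h1
  have h1 : ⁅w * y, c⁆ = w * ⁅y, c⁆ * (c * w⁻¹ * c⁻¹) := by
    simp only [commutatorElement_def]; group
  rw [h1, hcw]
  have hwV : w ∈ V := WA_le S MA hw
  have h2 : w * ⁅y, c⁆ = ⁅y, c⁆ * w := by
    have := (V_comm S) hwV
    rw [Subgroup.mem_centralizer_iff] at this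
    exact (this _ hyc.1).symm
  rw [h2, mul_inv_cancel_right]
  exact hyc

end Main

end Cfsg.Agent.helper9.Off
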