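import Mathlib
import Cfsg.Agent.Lib_helper9_Offender7

set_option autoImplicit false
set_option linter.unusedSectionVars false

/-!
# The structure theorem: direct product decompositions
-/

namespace Cfsg.Agent.helper9.Off

open scoped commutatorElement
open Matrix Cfsg.Agent.helper7

variable {G : Type*} [Group G]

section Main

variable [Finite G] {p : ℕ} [Fact p.Prime] {V H : Subgroup G}

/-- the groups `E_A` for minimal offenders `A`. -/
def IsE (p : ℕ) (V H E : Subgroup G) : Prop := ∃ A, IsMinOff p V H A ∧ E = EA p H A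

theorem IsE.props (S : Setup p V H)
    (hS3 : H = ⨆ A : {A : Subgroup G // A ≤ H ∧ Cfsg.IsBestOffenderOn p V A}, (A : Subgroup G))
    {E : Subgroup G} (hE : IsE p V H E) :
    H ≤ Subgroup.normalizer (E : Set G) ∧
      Nonempty (↥E ≃* SpecialLinearGroup (Fin 2) (ZMod p)) ∧ Nat.card ↥(⁅V, E⁆) = p ^ 2 := by
  obtain ⟨A, hA, rfl⟩ := hE
  exact ⟨H_norm_EA S hS3 (hA.min S), EA_iso S (hA.min S), WA_card S (hA.min S)⟩

theorem IsE.cases (S : Setup p V H) {E₁ E₂ : Subgroup G} (h1 : IsE p V H E₁)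
    (h2 : IsE p V H E₂) :
    E₁ = E₂ ∨ E₂ ≤ H ⊓ Subgroup.centralizer ((⁅V, E₁⁆ : Subgroup G) : Set G) := by
  obtain ⟨A₁, hA₁, rfl⟩ := h1
  obtain ⟨A₂, hA₂, rfl⟩ := h2
  exact EA_cases S (hA₁.min S) (hA₂.min S)

theorem IsE.le (S : Setup p V H) {E : Subgroup G} (hE : IsE p V H E) : E ≤ H := by
  obtain ⟨A, hA, rfl⟩ := hE
  exact EA_le (hA.min S)

theorem IsE.W_le (S : Setup p V H) {E : Subgroup G} (hE : IsE p V H E) : ⁅V, E⁆ ≤ V := by
  obtain ⟨A, hA, rfl⟩ := hE
  exact WA_le S (hA.min S)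

theorem IsE.faithful (S : Setup p V H) {E : Subgroup G} (hE : IsE p V H E) :
    E ⊓ Subgroup.centralizer ((⁅V, E⁆ : Subgroup G) : Set G) = ⊥ := by
  obtain ⟨A, hA, rfl⟩ := hE
  exact EA_faithful S (hA.min S)

theorem IsE.W_inf (S : Setup p V H) {E : Subgroup G} (hE : IsE p V H E) :
    ⁅V, E⁆ ⊓ Subgroup.centralizer ((E : Subgroup G) : Set G) = ⊥ := by
  obtain ⟨A, hA, rfl⟩ := hE
  exact WA_inf S (hA.min S)

theorem IsE.V_decomp (S : Setup p V H) {E : Subgroup G} (hE : IsE p V H E) :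
    ⁅V, E⁆ ⊔ (V ⊓ Subgroup.centralizer ((E : Subgroup G) : Set G)) = V := by
  obtain ⟨A, hA, rfl⟩ := hE
  exact V_decomp_EA S (hA.min S)

theorem exists_minOff (S : Setup p V H)
    (hS3 : H = ⨆ A : {A : Subgroup G // A ≤ H ∧ Cfsg.IsBestOffenderOn p V A}, (A : Subgroup G))
    (hH1 : H ≠ ⊥) : ∃ A, IsMinOff p V H A := by
  by_contra hne
  have hemp : IsEmpty {A : Subgroup G // IsMinOff p V H A} := ⟨fun ⟨A, hA⟩ => hne ⟨A, hA⟩⟩
  have h := H_le_iSup_min S hS3
  rw [iSup_of_empty] at h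
  exact hH1 (le_bot_iff.mp h)

variable {ι : Type*} (f : ι → Subgroup G)

theorem indep_E (S : Setup p V H) (hf : Function.Injective f) (hE : ∀ i, IsE p V H (f i)) :
    iSupIndep f := by
  intro i
  have hle : (⨆ j, ⨆ (_ : j ≠ i), f j) ≤
      H ⊓ Subgroup.centralizer ((⁅V, f i⁆ : Subgroup G) : Set G) := by
    refine iSup₂_le (fun j hj => ?_)
    rcases IsE.cases S (hE i) (hE j) with h | h
    · exact absurd (hf h).symm hj
    · exact h
  rw [disjoint_iff, eq_bot_iff, ← IsE.faithful S (hE i)]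
  exact inf_le_inf_left _ (hle.trans inf_le_right)

theorem iSup_E (S : Setup p V H)
    (hS3 : H = ⨆ A : {A : Subgroup G // A ≤ H ∧ Cfsg.IsBestOffenderOn p V A}, (A : Subgroup G))
    (hE : ∀ i, IsE p V H (f i)) (hsurj : ∀ A, IsMinOff p V H A → ∃ i, f i = EA p H A) :
    (⨆ i, f i) = H := by
  apply le_antisymm
  · exact iSup_le (fun i => IsE.le S (hE i))
  · refine (H_le_iSup_min S hS3).trans (iSup_le ?_)
    rintro ⟨A, hA⟩
    obtain ⟨i, hi⟩ := hsurj A hA
    exact le_iSup_of_le i (hi ▸ A_le_EA p H A)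

theorem decomp_finset (S : Setup p V H) (hf : Function.Injective f)
    (hE : ∀ i, IsE p V H (f i)) (s : Finset ι) :
    (V ⊓ Subgroup.centralizer ((s.sup f : Subgroup G) : Set G)) ⊓
        s.sup (fun i => ⁅V, f i⁆) = ⊥ ∧
      (V ⊓ Subgroup.centralizer ((s.sup f : Subgroup G) : Set G)) ⊔
        s.sup (fun i => ⁅V, f i⁆) = V := by
  classical
  induction s using Finset.induction_on with
  | empty =>
    rw [Finset.sup_empty, Finset.sup_empty, centralizer_bot_eq_top]
    simp
  | insert i₀ s hi₀ ih =>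
    obtain ⟨ih1, ih2⟩ := ih
    rw [Finset.sup_insert, Finset.sup_insert]
    have hXV : s.sup (fun i => ⁅V, f i⁆) ≤ V :=
      Finset.sup_le (fun j _ => IsE.W_le S (hE j))
    have hW₀V : ⁅V, f i₀⁆ ≤ V := IsE.W_le S (hE i₀)
    have hα : s.sup f ≤ Subgroup.centralizer ((⁅V, f i₀⁆ : Subgroup G) : Set G) := by
      refine Finset.sup_le (fun j hj => ?_)
      rcases IsE.cases S (hE i₀) (hE j) with h | h
      · exfalso
        have := hf h
        rw [this] at hi₀
        exact hi₀ hj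
      · exact h.trans inf_le_right
    have hβ : s.sup (fun i => ⁅V, f i⁆) ≤
        Subgroup.centralizer ((f i₀ : Subgroup G) : Set G) := by
      refine Finset.sup_le (fun j hj => ?_)
      apply Subgroup.le_centralizer_iff.mp
      rcases IsE.cases S (hE j) (hE i₀) with h | h
      · exfalso
        have := hf h
        rw [← this] at hi₀
        exact hi₀ hj
      · exact h.trans inf_le_right
    constructor
    · rw [eq_bot_iff]
      intro g hg
      obtain ⟨⟨hgV, hgC⟩, hgX⟩ := hg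
      have hgC' : g ∈ Subgroup.centralizer ((f i₀ ⊔ s.sup f : Subgroup G) : Set G) := hgC
      rw [Cfsg.Agent.helper15.centralizer_sup_eq] at hgC'
      obtain ⟨hgC0, hgCs⟩ := hgC'
      obtain ⟨w, hw, x, hx, rfl⟩ := exists_mul_of_mem_sup (V_comm S) hW₀V hXV hgX
      have hxC0 := hβ hx
      have hwC0 : w ∈ Subgroup.centralizer ((f i₀ : Subgroup G) : Set G) := by
        have h1 := Subgroup.mul_mem _ hgC0 (Subgroup.inv_mem _ hxC0)
        rwa [mul_inv_cancel_right] at h1
      have hw1 : w = 1 := by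
        have h1 : w ∈ ⁅V, f i₀⁆ ⊓ Subgroup.centralizer ((f i₀ : Subgroup G) : Set G) :=
          ⟨hw, hwC0⟩
        rw [IsE.W_inf S (hE i₀), Subgroup.mem_bot] at h1
        exact h1
      rw [hw1, one_mul] at hgV hgCs ⊢
      have h2 : x ∈ (V ⊓ Subgroup.centralizer ((s.sup f : Subgroup G) : Set G)) ⊓
          s.sup (fun i => ⁅V, f i⁆) := ⟨⟨hgV, hgCs⟩, hx⟩
      rw [ih1] at h2
      exact h2
    · apply le_antisymm
      · exact sup_le inf_le_left (sup_le hW₀V hXV)
      · intro v hv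
        have hv' : v ∈ (V ⊓ Subgroup.centralizer ((s.sup f : Subgroup G) : Set G)) ⊔
            s.sup (fun i => ⁅V, f i⁆) := by rw [ih2]; exact hv
        obtain ⟨c, hc, x, hx, rfl⟩ := exists_mul_of_mem_sup (V_comm S) inf_le_left hXV hv'
        have hc' : c ∈ ⁅V, f i₀⁆ ⊔
            (V ⊓ Subgroup.centralizer ((f i₀ : Subgroup G) : Set G)) := by
          rw [IsE.V_decomp S (hE i₀)]; exact hc.1
        obtain ⟨w, hw, y, hy, rfl⟩ := exists_mul_of_mem_sup (V_comm S) hW₀V inf_le_left hc'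
        have hwCs : w ∈ Subgroup.centralizer ((s.sup f : Subgroup G) : Set G) :=
          (Subgroup.le_centralizer_iff.mp hα) hw
        have hyCs : y ∈ Subgroup.centralizer ((s.sup f : Subgroup G) : Set G) := by
          have h1 := Subgroup.mul_mem _ (Subgroup.inv_mem _ hwCs) hc.2
          rwa [inv_mul_cancel_left] at h1
        have hyC : y ∈ V ⊓ Subgroup.centralizer ((f i₀ ⊔ s.sup f : Subgroup G) : Set G) := by
          refine ⟨hy.1, ?_⟩
          rw [Cfsg.Agent.helper15.centralizer_sup_eq]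
          exact ⟨hy.2, hyCs⟩
        exact Subgroup.mul_mem _ (Subgroup.mul_mem _
          (Subgroup.mem_sup_right (Subgroup.mem_sup_left hw)) (Subgroup.mem_sup_left hyC))
          (Subgroup.mem_sup_right (Subgroup.mem_sup_right hx))

theorem decomp_V (S : Setup p V H) [Finite ι] (hf : Function.Injective f)
    (hE : ∀ i, IsE p V H (f i)) (hsup : (⨆ i, f i) = H) :
    (V ⊓ Subgroup.centralizer (H : Set G)) ⊓ (⨆ i, ⁅V, f i⁆) = ⊥ ∧
      (V ⊓ Subgroup.centralizer (H : Set G)) ⊔ (⨆ i, ⁅V, f i⁆) = V := by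
  classical
  haveI : Fintype ι := Fintype.ofFinite ι
  have h := decomp_finset f S hf hE Finset.univ
  rw [Finset.sup_univ_eq_iSup, Finset.sup_univ_eq_iSup, hsup] at h
  exact h

theorem indep_V (S : Setup p V H) [Finite ι] (hf : Function.Injective f)
    (hE : ∀ i, IsE p V H (f i)) (hsup : (⨆ i, f i) = H) :
    iSupIndep (fun o : Option ι => o.elim (V ⊓ Subgroup.centralizer (H : Set G))
      (fun i => ⁅V, f i⁆)) := by
  intro o
  cases o with
  | none =>
    have hle : (⨆ j : Option ι, ⨆ (_ : j ≠ none), j.elim (V ⊓ Subgroup.centralizer (H : Set G))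
        (fun i => ⁅V, f i⁆)) ≤ ⨆ i, ⁅V, f i⁆ := by
      refine iSup₂_le (fun j hj => ?_)
      cases j with
      | none => exact absurd rfl hj
      | some i => exact le_iSup (fun i => ⁅V, f i⁆) i
    rw [disjoint_iff, eq_bot_iff, ← (decomp_V f S hf hE hsup).1]
    exact inf_le_inf_left _ hle
  | some i =>
    have hle : (⨆ j : Option ι, ⨆ (_ : j ≠ some i),
        j.elim (V ⊓ Subgroup.centralizer (H : Set G)) (fun i => ⁅V, f i⁆)) ≤
        Subgroup.centralizer ((f i : Subgroup G) : Set G) := by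
      refine iSup₂_le (fun j hj => ?_)
      cases j with
      | none =>
        exact inf_le_right.trans (Subgroup.centralizer_le
          (SetLike.coe_subset_coe.2 (IsE.le S (hE i))))
      | some j =>
        have hji : j ≠ i := fun h => hj (by rw [h])
        show ⁅V, f j⁆ ≤ _
        apply Subgroup.le_centralizer_iff.mp
        rcases IsE.cases S (hE j) (hE i) with h | h
        · exact absurd (hf h) hji
        · exact h.trans inf_le_right
    show Disjoint ⁅V, f i⁆ _
    rw [disjoint_iff, eq_bot_iff, ← IsE.W_inf S (hE i)]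
    exact inf_le_inf_left _ hle

end Main

end Cfsg.Agent.helper9.Off
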