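import Mathlib
import Cfsg.Agent.Lib_helper9_Offender8
import Cfsg.Agent.Lib_helper25_Sylow

set_option autoImplicit false
set_option linter.unusedSectionVars false
set_option linter.unusedVariables false

/-!
# Coprime operator groups on the failure-of-factorization structure
A `q`-group `Y` normalizing `V` and `H` permutes the components `E_A`; the stabilizer of a
component centralizes it, and orbit products give fixed points of `Y` projecting onto a component.
-/

namespace Cfsg.Agent.helper9.OffCop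

open Cfsg.Agent.helper7 Cfsg.Agent.helper9.Off
open scoped commutatorElement

section lists

variable {G : Type*} [Group G]

theorem list_prod_conj_eq {l : List G} (hnd : l.Nodup) (hc : ∀ a ∈ l, ∀ b ∈ l, Commute a b)
    (z : G) (hz : ∀ a, a ∈ l → z * a * z⁻¹ ∈ l) (hz' : ∀ a, a ∈ l → z⁻¹ * a * z ∈ l) :
    z * l.prod * z⁻¹ = l.prod := by
  have h1 : z * l.prod * z⁻¹ = (l.map (MulAut.conj z)).prod := by
    rw [← map_list_prod, MulAut.conj_apply]
  rw [h1]
  have hnd' : (l.map (MulAut.conj z)).Nodup := hnd.map (MulAut.conj z).injective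
  have hperm : l.Perm (l.map (MulAut.conj z)) := by
    rw [List.perm_ext_iff_of_nodup hnd hnd']
    intro a
    rw [List.mem_map]
    constructor
    · intro ha
      refine ⟨z⁻¹ * a * z, hz' a ha, ?_⟩
      rw [MulAut.conj_apply]; group
    · rintro ⟨b, hb, rfl⟩
      rw [MulAut.conj_apply]
      exact hz b hb
  exact (hperm.prod_eq' (List.pairwise_of_forall_mem_list hc)).symm

theorem list_prod_eq_mul_erase [DecidableEq G] {l : List G}
    (hc : ∀ a ∈ l, ∀ b ∈ l, Commute a b) {g : G} (hg : g ∈ l) :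
    l.prod = g * (l.erase g).prod := by
  have h := (List.perm_cons_erase hg).prod_eq' (List.pairwise_of_forall_mem_list hc)
  rw [h, List.prod_cons]

variable [Finite G]

/-- the list of distinct conjugates of `g` under `Y`. -/
noncomputable def orbL (Y : Subgroup G) (g : G) : List G :=
  (Set.toFinite {a : G | ∃ y ∈ Y, a = y * g * y⁻¹}).toFinset.toList

theorem mem_orbL {Y : Subgroup G} {g a : G} : a ∈ orbL Y g ↔ ∃ y ∈ Y, a = y * g * y⁻¹ := by
  unfold orbL
  rw [Finset.mem_toList, Set.Finite.mem_toFinset]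
  rfl

theorem orbL_nodup (Y : Subgroup G) (g : G) : (orbL Y g).Nodup := by
  unfold orbL
  exact Finset.nodup_toList _

theorem self_mem_orbL (Y : Subgroup G) (g : G) : g ∈ orbL Y g :=
  mem_orbL.mpr ⟨1, Y.one_mem, by simp⟩

/-- the product of the distinct conjugates. -/
noncomputable def orbProd (Y : Subgroup G) (g : G) : G := (orbL Y g).prod

theorem orbProd_conj {Y : Subgroup G} {g : G}
    (hc : ∀ a ∈ orbL Y g, ∀ b ∈ orbL Y g, Commute a b) {z : G} (hz : z ∈ Y) :
    z * orbProd Y g * z⁻¹ = orbProd Y g := by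
  unfold orbProd
  apply list_prod_conj_eq (orbL_nodup Y g) hc
  · intro a ha
    obtain ⟨y, hy, rfl⟩ := mem_orbL.mp ha
    refine mem_orbL.mpr ⟨z * y, Y.mul_mem hz hy, ?_⟩
    group
  · intro a ha
    obtain ⟨y, hy, rfl⟩ := mem_orbL.mp ha
    refine mem_orbL.mpr ⟨z⁻¹ * y, Y.mul_mem (Y.inv_mem hz) hy, ?_⟩
    group

theorem orbProd_mem_centralizer {Y : Subgroup G} {g : G}
    (hc : ∀ a ∈ orbL Y g, ∀ b ∈ orbL Y g, Commute a b) :
    orbProd Y g ∈ Subgroup.centralizer (Y : Set G) := by
  rw [Subgroup.mem_centralizer_iff]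
  intro z hz
  have h := orbProd_conj hc hz
  calc z * orbProd Y g = (z * orbProd Y g * z⁻¹) * z := by group
    _ = orbProd Y g * z := by rw [h]

end lists

section main

variable {G : Type*} [Group G] [Finite G] {p : ℕ} [Fact p.Prime] {V H A A' : Subgroup G}

theorem min_cj (M : Min p V H A) {g : G} (hgV : g ∈ Subgroup.normalizer (V : Set G))
    (hgH : g ∈ Subgroup.normalizer (H : Set G)) : Min p V H (cj g A) := by
  have hgV' : g⁻¹ ∈ Subgroup.normalizer (V : Set G) := Subgroup.inv_mem _ hgV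
  refine ⟨?_, ?_, ?_, ?_⟩
  · calc cj g A ≤ cj g H := cj_mono M.hAH
      _ = H := cj_eq_of_mem_normalizer hgH
  · rw [card_cj]; exact M.hcA
  · have hcomm : ⁅V, cj g A⁆ = cj g ⁅V, A⁆ := by
      rw [cj_commutator, cj_eq_of_mem_normalizer hgV]
    rw [hcomm, card_cj]; exact M.hUa
  · have h1 := Subgroup.card_le_of_le (cj_inf_centralizer_le V A hgV)
    rw [card_cj] at h1
    have h2 := Subgroup.card_le_of_le (cj_inf_centralizer_le V (cj g A) hgV')
    rw [card_cj, cj_inv_cj] at h2
    rw [le_antisymm h2 h1]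
    exact M.hCa

theorem le_Qof {T : Subgroup G} (hTH : T ≤ H) (hn : H ≤ Subgroup.normalizer (T : Set G))
    (hc : ¬ p ∣ Nat.card ↥T) : T ≤ Qof p H := by
  have hp : p.Prime := Fact.out
  have h1 : (T.subgroupOf H) ≤ Cfsg.pPrimeCore p ↥H := by
    apply Cfsg.Agent.helper1.le_pPrimeCore
    · exact (Subgroup.normal_subgroupOf_iff_le_normalizer hTH).mpr hn
    · rw [Nat.card_congr (Subgroup.subgroupOfEquivOfLe hTH).toEquiv]
      exact ((Nat.Prime.coprime_iff_not_dvd hp).mpr hc).symm
  intro t ht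
  exact ⟨⟨t, hTH ht⟩, h1 (Subgroup.mem_subgroupOf.mpr ht), rfl⟩

theorem Qof_cj {g : G} (hgH : g ∈ Subgroup.normalizer (H : Set G)) :
    cj g (Qof p H) = Qof p H := by
  apply Subgroup.eq_of_le_of_card_ge
  · apply le_Qof
    · calc cj g (Qof p H) ≤ cj g H := cj_mono (Qof_le p H)
        _ = H := cj_eq_of_mem_normalizer hgH
    · calc H = cj g H := (cj_eq_of_mem_normalizer hgH).symm
        _ ≤ cj g (Subgroup.normalizer ((Qof p H : Subgroup G) : Set G)) :=
            cj_mono (Qof_normalizer p H)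
        _ ≤ _ := Subgroup.le_normalizer_map _
    · rw [card_cj]; exact Qof_coprime H
  · rw [card_cj]

theorem EA_cj {g : G} (hgH : g ∈ Subgroup.normalizer (H : Set G)) :
    EA p H (cj g A) = cj g (EA p H A) := by
  unfold EA
  have h1 : cj g (⁅Qof p H, A⁆ ⊔ A) = cj g ⁅Qof p H, A⁆ ⊔ cj g A := Subgroup.map_sup _ _ _
  rw [h1, cj_commutator, Qof_cj hgH]

/-- distinct components commute, and the second centralizes the module of the first. -/
theorem comp_comm (S : Setup p V H) (MA : Min p V H A) (MA' : Min p V H A')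
    (hne : EA p H A ≠ EA p H A') :
    EA p H A' ≤ Subgroup.centralizer ((EA p H A : Subgroup G) : Set G) ⊓
      Subgroup.centralizer ((⁅V, EA p H A⁆ : Subgroup G) : Set G) := by
  rcases EA_cases S MA MA' with h | h
  · exact absurd h hne
  · refine le_inf ?_ (h.trans inf_le_right)
    have h1 := EA_comm_C S MA
    have h2 : ⁅EA p H A, EA p H A'⁆ = ⊥ := by
      rw [eq_bot_iff, ← h1]
      exact Subgroup.commutator_mono le_rfl h
    rw [Subgroup.commutator_comm] at h2
    exact Subgroup.commutator_eq_bot_iff_le_centralizer.mp h2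

variable {q : ℕ} [Fact q.Prime] {Y : Subgroup G}

/-- `q` does not divide `p (p² - 1)`. -/
theorem q_not_dvd (S : Setup p V H) (MA : Min p V H A) (hq : ¬ q ∣ Nat.card ↥H) :
    ¬ q ∣ p * (p ^ 2 - 1) := by
  intro h
  apply hq
  rw [← EA_card S MA] at h
  exact h.trans (Subgroup.card_dvd_of_le (EA_le MA))

/-- the stabilizer of a component centralizes its module. -/
theorem stab_le_centralizer_W (S : Setup p V H) (MA : Min p V H A) (hY : IsPGroup q ↥Y)
    (hYV : Y ≤ Subgroup.normalizer (V : Set G)) (hq : ¬ q ∣ Nat.card ↥H) :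
    Y ⊓ Subgroup.normalizer ((EA p H A : Subgroup G) : Set G) ≤
      Subgroup.centralizer ((⁅V, EA p H A⁆ : Subgroup G) : Set G) := by
  have hp : p.Prime := Fact.out
  obtain ⟨Y₁, hY₁⟩ : ∃ Y₁ : Subgroup G,
      Y₁ = Y ⊓ Subgroup.normalizer ((EA p H A : Subgroup G) : Set G) := ⟨_, rfl⟩
  obtain ⟨W, hW⟩ : ∃ W : Subgroup G, W = ⁅V, EA p H A⁆ := ⟨_, rfl⟩
  rw [← hY₁, ← hW]
  have hY₁p : IsPGroup q ↥Y₁ := by rw [hY₁]; exact hY.to_le inf_le_left
  have hY₁W : Y₁ ≤ Subgroup.normalizer (W : Set G) := by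
    intro y hy
    rw [hY₁] at hy
    rw [hW]
    exact mem_normalizer_commutator (hYV hy.1) hy.2
  have hWcard : Nat.card ↥W = p ^ 2 := by rw [hW]; exact WA_card S MA
  have hqd := q_not_dvd S MA hq
  -- `W ≤ C(Y₁)`
  suffices hWC : W ≤ Subgroup.centralizer (Y₁ : Set G) by
    intro y hy
    rw [Subgroup.mem_centralizer_iff]
    intro w hw
    have := Subgroup.mem_centralizer_iff.mp (hWC hw) y hy
    exact this.symm
  by_contra hcon
  have hne : ((W : Set G) \ (Subgroup.centralizer (Y₁ : Set G) : Set G)).Nonempty := by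
    by_contra hemp
    rw [Set.not_nonempty_iff_eq_empty, Set.sdiff_eq_empty] at hemp
    exact hcon hemp
  -- the order of the fixed points
  have hdvd : Nat.card ↥(W ⊓ Subgroup.centralizer (Y₁ : Set G)) ∣ p ^ 2 := by
    rw [← hWcard]; exact Subgroup.card_dvd_of_le inf_le_left
  obtain ⟨j, hj, hcj⟩ := (Nat.dvd_prime_pow hp).mp hdvd
  have hcardX : Nat.card ↥((W : Set G) \ (Subgroup.centralizer (Y₁ : Set G) : Set G)) =
      p ^ 2 - p ^ j := by
    rw [Nat.card_coe_set_eq, ← Set.sdiff_self_inter, Set.ncard_sdiff Set.inter_subset_left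
      (Set.toFinite _), ← Nat.card_coe_set_eq, ← Nat.card_coe_set_eq]
    have e1 : Nat.card ↥(W : Set G) = p ^ 2 := hWcard
    have e2 : Nat.card ↥((W : Set G) ∩ (Subgroup.centralizer (Y₁ : Set G) : Set G)) = p ^ j := by
      rw [← hcj]; rfl
    rw [e1, e2]
  have hjlt : j < 2 := by
    rcases Nat.lt_or_ge j 2 with h | h
    · exact h
    · exfalso
      have hj2 : j = 2 := le_antisymm hj h
      have : W ⊓ Subgroup.centralizer (Y₁ : Set G) = W := by
        apply Subgroup.eq_of_le_of_card_ge inf_le_left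
        rw [hcj, hj2, hWcard]
      exact hcon (inf_eq_left.mp this)
  have hnd : ¬ q ∣ Nat.card ↥((W : Set G) \ (Subgroup.centralizer (Y₁ : Set G) : Set G)) := by
    rw [hcardX]
    intro hd
    apply hqd
    have h2 : (p ^ 2 - p ^ j) ∣ p * (p ^ 2 - 1) := by
      interval_cases j
      · rw [pow_zero]; exact Dvd.intro_left p rfl
      · rw [pow_one]
        have hp1 : 1 ≤ p := hp.one_lt.le
        have e : p * (p ^ 2 - 1) = (p ^ 2 - p) * (p + 1) := by
          obtain ⟨k, rfl⟩ : ∃ k, p = k + 1 := ⟨p - 1, by omega⟩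
          have e1 : (k + 1) ^ 2 - 1 = k * (k + 2) := by
            have : (k + 1) ^ 2 = k * (k + 2) + 1 := by ring
            omega
          have e2 : (k + 1) ^ 2 - (k + 1) = k * (k + 1) := by
            have : (k + 1) ^ 2 = k * (k + 1) + (k + 1) := by ring
            omega
          rw [e1, e2]; ring
        rw [e]; exact Dvd.intro _ rfl
    exact hd.trans h2
  obtain ⟨x, hx, hfix⟩ := exists_fixed_of_invariant hY₁p
    ((W : Set G) \ (Subgroup.centralizer (Y₁ : Set G) : Set G))
    (by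
      intro g hg x hx
      refine ⟨(Subgroup.mem_normalizer_iff.mp (hY₁W hg) x).mp hx.1, ?_⟩
      intro hxc
      apply hx.2
      have hxc' : g * x * g⁻¹ ∈ Subgroup.centralizer (Y₁ : Set G) := hxc
      show x ∈ Subgroup.centralizer (Y₁ : Set G)
      rw [Subgroup.mem_centralizer_iff] at hxc' ⊢
      intro y hy
      have h1 := hxc' (g * y * g⁻¹) (Y₁.mul_mem (Y₁.mul_mem hg hy) (Y₁.inv_mem hg))
      have h2 : g * (y * x) * g⁻¹ = g * (x * y) * g⁻¹ := by
        calc g * (y * x) * g⁻¹ = (g * y * g⁻¹) * (g * x * g⁻¹) := by group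
          _ = (g * x * g⁻¹) * (g * y * g⁻¹) := h1
          _ = g * (x * y) * g⁻¹ := by group
      exact mul_left_cancel (mul_right_cancel h2))
    hnd
  apply hx.2
  show x ∈ Subgroup.centralizer (Y₁ : Set G)
  rw [Subgroup.mem_centralizer_iff]
  intro y hy
  have := hfix y hy
  calc y * x = (y * x * y⁻¹) * y := by group
    _ = x * y := by rw [this]

/-- the stabilizer of a component centralizes it. -/
theorem stab_le_centralizer_E (S : Setup p V H) (MA : Min p V H A) (hY : IsPGroup q ↥Y)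
    (hYV : Y ≤ Subgroup.normalizer (V : Set G)) (hq : ¬ q ∣ Nat.card ↥H) :
    Y ⊓ Subgroup.normalizer ((EA p H A : Subgroup G) : Set G) ≤
      Subgroup.centralizer ((EA p H A : Subgroup G) : Set G) := by
  intro z hz
  have hzW := stab_le_centralizer_W S MA hY hYV hq hz
  rw [Subgroup.mem_centralizer_iff]
  intro e he
  -- `⁅e, z⁆ ∈ E ⊓ C(W) = ⊥`
  have h1 : ⁅e, z⁆ ∈ EA p H A := by
    have : z * e⁻¹ * z⁻¹ ∈ EA p H A :=
      (Subgroup.mem_normalizer_iff.mp hz.2 e⁻¹).mp (Subgroup.inv_mem _ he)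
    have e1 : ⁅e, z⁆ = e * (z * e⁻¹ * z⁻¹) := by rw [commutatorElement_def]; group
    rw [e1]; exact Subgroup.mul_mem _ he this
  have h2 : ⁅e, z⁆ ∈ Subgroup.centralizer ((⁅V, EA p H A⁆ : Subgroup G) : Set G) := by
    have hn := le_normalizer_centralizer (EA_norm_WA S MA) he
    have h3 : e * z * e⁻¹ ∈ Subgroup.centralizer ((⁅V, EA p H A⁆ : Subgroup G) : Set G) :=
      (Subgroup.mem_normalizer_iff.mp hn z).mp hzW
    have e1 : ⁅e, z⁆ = (e * z * e⁻¹) * z⁻¹ := by rw [commutatorElement_def]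
    rw [e1]
    exact Subgroup.mul_mem _ h3 (Subgroup.inv_mem _ hzW)
  have h3 : ⁅e, z⁆ ∈ EA p H A ⊓
      Subgroup.centralizer ((⁅V, EA p H A⁆ : Subgroup G) : Set G) := ⟨h1, h2⟩
  rw [EA_faithful S MA, Subgroup.mem_bot, commutatorElement_eq_one_iff_mul_comm] at h3
  exact h3

end main

end Cfsg.Agent.helper9.OffCop
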