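import Mathlib
import Cfsg.Agent.Lib_helper9_OffCop1

set_option autoImplicit false
set_option linter.unusedSectionVars false
set_option linter.unusedVariables false

/-!
# Orbit products over a component, and generation by a Sylow subgroup and fixed points
-/

namespace Cfsg.Agent.helper9.OffCop

open Cfsg.Agent.helper7 Cfsg.Agent.helper9.Off
open scoped commutatorElement

variable {G : Type*} [Group G] [Finite G] {p : ℕ} [Fact p.Prime] {V H A : Subgroup G}
  {q : ℕ} [Fact q.Prime] {Y : Subgroup G}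

/-- the standing hypotheses on the operator group `Y`. -/
structure Ctx (p q : ℕ) (V H Y : Subgroup G) : Prop where
  S : Setup p V H
  hY : IsPGroup q ↥Y
  hYV : Y ≤ Subgroup.normalizer (V : Set G)
  hYH : Y ≤ Subgroup.normalizer (H : Set G)
  hq : ¬ q ∣ Nat.card ↥H

theorem Ctx.min (C : Ctx p q V H Y) (MA : Min p V H A) {y : G} (hy : y ∈ Y) :
    Min p V H (cj y A) := min_cj MA (C.hYV hy) (C.hYH hy)

theorem Ctx.EA_cj (C : Ctx p q V H Y) {y : G} (hy : y ∈ Y) :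
    EA p H (cj y A) = cj y (EA p H A) := OffCop.EA_cj (C.hYH hy)

theorem Ctx.fix_of_cj_eq (C : Ctx p q V H Y) (MA : Min p V H A) {y g : G} (hy : y ∈ Y)
    (hg : g ∈ EA p H A) (h : cj y (EA p H A) = EA p H A) : y * g * y⁻¹ = g := by
  have h1 : y ∈ Y ⊓ Subgroup.normalizer ((EA p H A : Subgroup G) : Set G) :=
    ⟨hy, mem_normalizer_of_cj_eq h⟩
  have h2 := stab_le_centralizer_E C.S MA C.hY C.hYV C.hq h1
  rw [Subgroup.mem_centralizer_iff] at h2
  rw [← h2 g hg]; group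

theorem Ctx.orb_mem (C : Ctx p q V H Y) (MA : Min p V H A) {g : G} (hg : g ∈ EA p H A) :
    ∀ c ∈ orbL Y g, c ∈ H := by
  intro c hc
  obtain ⟨y, hy, rfl⟩ := mem_orbL.mp hc
  have h1 : y * g * y⁻¹ ∈ cj y (EA p H A) := cj_mem_cj hg
  rw [← C.EA_cj hy] at h1
  exact EA_le (C.min MA hy) h1

theorem Ctx.orb_other (C : Ctx p q V H Y) (MA : Min p V H A) {g : G} (hg : g ∈ EA p H A) :
    ∀ c ∈ orbL Y g, c ≠ g → c ∈ Subgroup.centralizer ((EA p H A : Subgroup G) : Set G) ⊓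
      Subgroup.centralizer ((⁅V, EA p H A⁆ : Subgroup G) : Set G) := by
  intro c hc hne
  obtain ⟨y, hy, rfl⟩ := mem_orbL.mp hc
  have h1 : y * g * y⁻¹ ∈ cj y (EA p H A) := cj_mem_cj hg
  have hne' : EA p H A ≠ EA p H (cj y A) := by
    intro h
    rw [C.EA_cj hy] at h
    exact hne (C.fix_of_cj_eq MA hy hg h.symm)
  rw [← C.EA_cj hy] at h1
  exact comp_comm C.S MA (C.min MA hy) hne' h1

theorem Ctx.orb_comm (C : Ctx p q V H Y) (MA : Min p V H A) {g : G} (hg : g ∈ EA p H A) :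
    ∀ a ∈ orbL Y g, ∀ b ∈ orbL Y g, Commute a b := by
  intro a ha b hb
  obtain ⟨y, hy, rfl⟩ := mem_orbL.mp ha
  obtain ⟨y', hy', rfl⟩ := mem_orbL.mp hb
  by_cases h : cj y (EA p H A) = cj y' (EA p H A)
  · have h1 : cj (y⁻¹ * y') (EA p H A) = EA p H A := by
      rw [← cj_cj, ← h, cj_inv_cj]
    have h2 := C.fix_of_cj_eq MA (Y.mul_mem (Y.inv_mem hy) hy') hg h1
    have h3 : y' * g * y'⁻¹ = y * g * y⁻¹ := by
      calc y' * g * y'⁻¹ = y * ((y⁻¹ * y') * g * (y⁻¹ * y')⁻¹) * y⁻¹ := by group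
        _ = y * g * y⁻¹ := by rw [h2]
    rw [h3]
  · have hne : EA p H (cj y A) ≠ EA p H (cj y' A) := by
      rw [C.EA_cj hy, C.EA_cj hy']; exact h
    have h1 := comp_comm C.S (C.min MA hy) (C.min MA hy') hne
    have hb' : y' * g * y'⁻¹ ∈ EA p H (cj y' A) := by
      rw [C.EA_cj hy']; exact cj_mem_cj hg
    have ha' : y * g * y⁻¹ ∈ EA p H (cj y A) := by
      rw [C.EA_cj hy]; exact cj_mem_cj hg
    have h2 : y' * g * y'⁻¹ ∈ Subgroup.centralizer ((EA p H (cj y A) : Subgroup G) : Set G) :=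
      (h1 hb').1
    rw [Subgroup.mem_centralizer_iff] at h2
    exact h2 _ ha'

/-- the orbit product of an element of a component. -/
theorem Ctx.orbProd_spec (C : Ctx p q V H Y) (MA : Min p V H A) {g : G} (hg : g ∈ EA p H A) :
    orbProd Y g ∈ H ⊓ Subgroup.centralizer (Y : Set G) ∧
      ∃ r ∈ Subgroup.centralizer ((EA p H A : Subgroup G) : Set G) ⊓
        Subgroup.centralizer ((⁅V, EA p H A⁆ : Subgroup G) : Set G), orbProd Y g = g * r := by
  classical
  refine ⟨⟨?_, orbProd_mem_centralizer (C.orb_comm MA hg)⟩, ?_⟩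
  · exact Subgroup.list_prod_mem _ (C.orb_mem MA hg)
  · refine ⟨((orbL Y g).erase g).prod, ?_, ?_⟩
    · apply Subgroup.list_prod_mem
      intro c hc
      rw [(orbL_nodup Y g).mem_erase_iff] at hc
      exact C.orb_other MA hg c hc.2 hc.1
    · exact list_prod_eq_mul_erase (C.orb_comm MA hg) (self_mem_orbL Y g)

/-- a component lies in the group generated by a Sylow subgroup and the fixed points. -/
theorem Ctx.comp_le (C : Ctx p q V H Y)
    (hS3 : H = ⨆ A : {A : Subgroup G // A ≤ H ∧ Cfsg.IsBestOffenderOn p V A}, (A : Subgroup G))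
    (MA : Min p V H A) {P : Subgroup G} (hPH : P ≤ H) (hP : Cfsg.Agent.helper25.IsSylowIn p P H) :
    EA p H A ≤ P ⊔ (H ⊓ Subgroup.centralizer (Y : Set G)) := by
  have hT : Cfsg.Agent.helper25.IsSylowIn p (P ⊓ EA p H A) (EA p H A) :=
    Cfsg.Agent.helper25.isSylowIn_inf_of_normal hPH hP (EA_le MA) (H_norm_EA C.S hS3 MA)
  have key : ∀ A' : Subgroup G, A' ≤ EA p H A → IsPGroup p ↥A' →
      A' ≤ P ⊔ (H ⊓ Subgroup.centralizer (Y : Set G)) := by
    intro A' hA'E hA'p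
    obtain ⟨k, hk, hkT⟩ := Cfsg.Agent.helper25.exists_cj_le_of_isSylowIn hT hA'E hA'p
    obtain ⟨hd, r, hr, hdr⟩ := C.orbProd_spec MA (Subgroup.inv_mem _ hk)
    have h1 : A' ≤ cj k⁻¹ (P ⊓ EA p H A) := by
      calc A' = cj k⁻¹ (cj k A') := (cj_inv_cj k A').symm
        _ ≤ cj k⁻¹ (P ⊓ EA p H A) := Cfsg.Agent.helper7.cj_mono hkT
    have h2 : cj r (P ⊓ EA p H A) = P ⊓ EA p H A := by
      apply cj_eq_of_mem_normalizer
      apply Subgroup.centralizer_le_normalizer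
      exact Subgroup.centralizer_le (SetLike.coe_subset_coe.mpr inf_le_right) hr.1
    have h3 : cj (orbProd Y k⁻¹) (P ⊓ EA p H A) = cj k⁻¹ (P ⊓ EA p H A) := by
      rw [hdr, ← Cfsg.Agent.helper7.cj_cj, h2]
    have h4 : cj (orbProd Y k⁻¹) (P ⊓ EA p H A) ≤
        P ⊔ (H ⊓ Subgroup.centralizer (Y : Set G)) := by
      have hdR : orbProd Y k⁻¹ ∈ P ⊔ (H ⊓ Subgroup.centralizer (Y : Set G)) :=
        Subgroup.mem_sup_right hd
      calc cj (orbProd Y k⁻¹) (P ⊓ EA p H A)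
          ≤ cj (orbProd Y k⁻¹) (P ⊔ (H ⊓ Subgroup.centralizer (Y : Set G))) :=
            Cfsg.Agent.helper7.cj_mono (inf_le_left.trans le_sup_left)
        _ = _ := cj_eq_of_mem_normalizer (Subgroup.le_normalizer hdR)
    rw [h3] at h4
    exact h1.trans h4
  obtain ⟨B, a, b, Pr, MB, hE, -⟩ := MA.exists_loc C.S
  have hp : p.Prime := Fact.out
  have hAp : IsPGroup p ↥A := IsPGroup.of_card (n := 1) (by rw [MA.hcA, pow_one])
  have hBp : IsPGroup p ↥B := IsPGroup.of_card (n := 1) (by rw [MB.hcA, pow_one])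
  have hAE : A ≤ EA p H A := A_le_EA p H A
  have hBE : B ≤ EA p H A := by rw [hE]; exact le_sup_right
  conv_lhs => rw [hE]
  exact sup_le (key A hAE hAp) (key B hBE hBp)

/-- **Generation**: `H` is generated by a Sylow `p`-subgroup and the fixed points of `Y`. -/
theorem Ctx.gen (C : Ctx p q V H Y)
    (hS3 : H = ⨆ A : {A : Subgroup G // A ≤ H ∧ Cfsg.IsBestOffenderOn p V A}, (A : Subgroup G))
    {P : Subgroup G} (hPH : P ≤ H) (hP : Cfsg.Agent.helper25.IsSylowIn p P H) :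
    H ≤ P ⊔ (H ⊓ Subgroup.centralizer (Y : Set G)) := by
  refine (H_le_iSup_min C.S hS3).trans (iSup_le ?_)
  rintro ⟨A, hA⟩
  exact (A_le_EA p H A).trans (C.comp_le hS3 (hA.min C.S) hPH hP)

end Cfsg.Agent.helper9.OffCop
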