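import Mathlib
import Cfsg.Agent.Lib_helper9_OffCop2

set_option autoImplicit false
set_option linter.unusedSectionVars false
set_option linter.unusedVariables false

/-!
# Recognition of `SL₂(p)` acting on a plane, from two `p`-elements
-/

namespace Cfsg.Agent.helper9.OffCop

open Cfsg.Agent.helper7 Cfsg.Agent.helper9.Off
open scoped commutatorElement MatrixGroups
open Matrix

section recog

variable {G : Type*} [Group G] [Finite G] {p : ℕ} [Fact p.Prime]

/-- two elements acting as `p`-elements generating distinct subgroups on a plane `W` generate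
a group inducing `SL₂(p)` on `W`. -/
theorem lemmaR (W : Subgroup G) (hW : Cfsg.IsElementaryAbelian p W) (hWc : Nat.card W = p ^ 2)
    (a b : G) (haN : a ∈ Subgroup.normalizer (W : Set G))
    (hbN : b ∈ Subgroup.normalizer (W : Set G))
    (hap : a ^ p ∈ Subgroup.centralizer (W : Set G))
    (hbp : b ^ p ∈ Subgroup.centralizer (W : Set G))
    (ha : a ∉ Subgroup.centralizer (W : Set G)) (hb : b ∉ Subgroup.centralizer (W : Set G))
    (hne : ∀ k : ℤ, b * (a ^ k)⁻¹ ∉ Subgroup.centralizer (W : Set G)) :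
    ∃ hn : ((Subgroup.centralizer (W : Set G)).subgroupOf (Subgroup.closure {a, b})).Normal,
      Nonempty ((↥(Subgroup.closure ({a, b} : Set G)) ⧸
        (Subgroup.centralizer (W : Set G)).subgroupOf (Subgroup.closure {a, b})) ≃*
        SpecialLinearGroup (Fin 2) (ZMod p)) := by
  have hDN : Subgroup.closure ({a, b} : Set G) ≤ Subgroup.normalizer (W : Set G) := by
    rw [Subgroup.closure_le]
    rintro x (rfl | rfl)
    · exact haN
    · exact hbN
  have haD : a ∈ Subgroup.closure ({a, b} : Set G) := Subgroup.subset_closure (by simp)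
  have hbD : b ∈ Subgroup.closure ({a, b} : Set G) := Subgroup.subset_closure (by simp)
  let ρ : ↥(Subgroup.closure ({a, b} : Set G)) →* MulAut ↥W :=
    (Subgroup.normalizerMonoidHom W).comp (Subgroup.inclusion hDN)
  have hmem : ∀ x : ↥(Subgroup.closure ({a, b} : Set G)),
      x ∈ ρ.ker ↔ (x : G) ∈ Subgroup.centralizer (W : Set G) := by
    intro x
    have h1 : x ∈ ρ.ker ↔ Subgroup.inclusion hDN x ∈ (Subgroup.normalizerMonoidHom W).ker := by
      rw [MonoidHom.mem_ker, MonoidHom.mem_ker]; rfl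
    rw [h1, Subgroup.normalizerMonoidHom_ker, Subgroup.mem_subgroupOf]
    rfl
  have hker : ρ.ker =
      (Subgroup.centralizer (W : Set G)).subgroupOf (Subgroup.closure {a, b}) := by
    ext x
    rw [hmem, Subgroup.mem_subgroupOf]
  have hn : ((Subgroup.centralizer (W : Set G)).subgroupOf (Subgroup.closure {a, b})).Normal := by
    rw [← hker]; infer_instance
  refine ⟨hn, ?_⟩
  obtain ⟨Θ, hΘ⟩ := Cfsg.Agent.h26EssP2.exists_theta (H := ↥W) (p := p)
    (fun x y => by
      have := hW.1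
      exact this.is_comm.comm x y)
    (fun x => by
      apply Subtype.ext
      rw [Subgroup.coe_pow]
      exact hW.2 x.1 x.2)
    hWc
  have hι : Function.Injective (Θ.comp (QuotientGroup.kerLift ρ)) :=
    hΘ.comp (QuotientGroup.kerLift_injective ρ)
  -- the two generators in the quotient
  obtain ⟨α, hα⟩ : ∃ α : ↥(Subgroup.closure ({a, b} : Set G)) ⧸ ρ.ker,
      α = QuotientGroup.mk (⟨a, haD⟩ : ↥(Subgroup.closure ({a, b} : Set G))) := ⟨_, rfl⟩
  obtain ⟨β, hβ⟩ : ∃ β : ↥(Subgroup.closure ({a, b} : Set G)) ⧸ ρ.ker,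
      β = QuotientGroup.mk (⟨b, hbD⟩ : ↥(Subgroup.closure ({a, b} : Set G))) := ⟨_, rfl⟩
  have hαp : α ^ p = 1 := by
    rw [hα, ← QuotientGroup.mk_pow, QuotientGroup.eq_one_iff, hmem]
    exact hap
  have hβp : β ^ p = 1 := by
    rw [hβ, ← QuotientGroup.mk_pow, QuotientGroup.eq_one_iff, hmem]
    exact hbp
  have hα1 : α ≠ 1 := by
    rw [hα]
    intro h
    rw [QuotientGroup.eq_one_iff, hmem] at h
    exact ha h
  have hβ1 : β ≠ 1 := by
    rw [hβ]
    intro h
    rw [QuotientGroup.eq_one_iff, hmem] at h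
    exact hb h
  have hpg : ∀ γ : ↥(Subgroup.closure ({a, b} : Set G)) ⧸ ρ.ker, γ ^ p = 1 →
      IsPGroup p ↥(Subgroup.zpowers γ) := by
    intro γ hγ
    rintro ⟨g, hg⟩
    obtain ⟨k, rfl⟩ := Subgroup.mem_zpowers_iff.mp hg
    refine ⟨1, ?_⟩
    apply Subtype.ext
    rw [pow_one, Subgroup.coe_pow, Subgroup.coe_one]
    show (γ ^ k) ^ p = 1
    rw [← zpow_natCast, ← _root_.zpow_mul, mul_comm, _root_.zpow_mul, zpow_natCast, hγ, _root_.one_zpow]
  have hne' : Subgroup.zpowers α ≠ Subgroup.zpowers β := by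
    intro h
    have h1 : β ∈ Subgroup.zpowers α := by rw [h]; exact Subgroup.mem_zpowers β
    obtain ⟨k, hk⟩ := Subgroup.mem_zpowers_iff.mp h1
    apply hne k
    have h2 : (QuotientGroup.mk ((⟨b, hbD⟩ : ↥(Subgroup.closure ({a, b} : Set G))) *
        ((⟨a, haD⟩ : ↥(Subgroup.closure ({a, b} : Set G))) ^ k)⁻¹) :
        ↥(Subgroup.closure ({a, b} : Set G)) ⧸ ρ.ker) = 1 := by
      rw [QuotientGroup.mk_mul, QuotientGroup.mk_inv, QuotientGroup.mk_zpow, ← hα, ← hβ, hk,
        mul_inv_cancel]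
    rw [QuotientGroup.eq_one_iff, hmem] at h2
    simpa using h2
  have htop : Subgroup.zpowers α ⊔ Subgroup.zpowers β = ⊤ := by
    rw [eq_top_iff]
    have h1 : (⊤ : Subgroup (↥(Subgroup.closure ({a, b} : Set G)) ⧸ ρ.ker)) =
        (⊤ : Subgroup ↥(Subgroup.closure ({a, b} : Set G))).map (QuotientGroup.mk' ρ.ker) := by
      rw [← MonoidHom.range_eq_map]
      exact (MonoidHom.range_eq_top.mpr (QuotientGroup.mk'_surjective _)).symm
    rw [h1, ← Subgroup.closure_closure_coe_preimage (k := ({a, b} : Set G)),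
      MonoidHom.map_closure, Subgroup.closure_le]
    rintro _ ⟨x, hx, rfl⟩
    have hx' : (x : G) = a ∨ (x : G) = b := hx
    rcases hx' with h | h
    · have : x = ⟨a, haD⟩ := Subtype.ext h
      rw [this]
      apply Subgroup.mem_sup_left
      rw [hα]
      exact Subgroup.mem_zpowers _
    · have : x = ⟨b, hbD⟩ := Subtype.ext h
      rw [this]
      apply Subgroup.mem_sup_right
      rw [hβ]
      exact Subgroup.mem_zpowers _
  obtain ⟨e⟩ := sl2_of_two_pgroups (Θ.comp (QuotientGroup.kerLift ρ)) hι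
    (Subgroup.zpowers α) (Subgroup.zpowers β) (hpg α hαp) (hpg β hβp)
    (fun h => hα1 (Subgroup.zpowers_eq_bot.mp h)) (fun h => hβ1 (Subgroup.zpowers_eq_bot.mp h))
    hne' htop
  exact ⟨(QuotientGroup.quotientMulEquivOfEq hker.symm).trans e⟩

end recog

end Cfsg.Agent.helper9.OffCop
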