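import Mathlib
import Cfsg.Agent.Lib_helper9_OffCop3

set_option autoImplicit false
set_option linter.unusedSectionVars false
set_option linter.unusedVariables false

/-!
# The norm map of a coprime operator group on `V`, and the diagonal plane
-/

namespace Cfsg.Agent.helper9.OffCop

open Cfsg.Agent.helper7 Cfsg.Agent.helper9.Off
open scoped commutatorElement

variable {G : Type*} [Group G] [Finite G] {p : ℕ} [Fact p.Prime] {V H A : Subgroup G}
  {q : ℕ} [Fact q.Prime] {Y : Subgroup G}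

/-- the commutative group structure on `V`. -/
@[reducible] noncomputable def commV (S : Setup p V H) : CommGroup ↥V :=
  { (inferInstance : Group ↥V) with
    mul_comm := fun a b => by
      have := S.hV.1
      exact this.is_comm.comm a b }

/-- conjugation by an element normalizing `V`. -/
noncomputable def kap (V : Subgroup G) (d : G) (hd : d ∈ Subgroup.normalizer (V : Set G)) :
    ↥V ≃* ↥V := V.normalizerMonoidHom ⟨d, hd⟩

theorem kap_coe (d : G) (hd : d ∈ Subgroup.normalizer (V : Set G)) (v : ↥V) :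
    ((kap V d hd v : ↥V) : G) = d * v * d⁻¹ := rfl

/-- the norm map of `Y` on `V`. -/
noncomputable def nu (C : Ctx p q V H Y) : ↥V →* ↥V :=
  letI := commV C.S
  letI := Fintype.ofFinite ↥Y
  ∏ y : ↥Y, (kap V (y : G) (C.hYV y.2)).toMonoidHom

theorem nu_apply (C : Ctx p q V H Y) (v : ↥V) :
    letI := commV C.S
    letI := Fintype.ofFinite ↥Y
    nu C v = ∏ y : ↥Y, kap V (y : G) (C.hYV y.2) v := by
  letI := commV C.S
  letI := Fintype.ofFinite ↥Y
  unfold nu
  rw [MonoidHom.finset_prod_apply]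
  rfl

/-- elements of `N(V)` commuting with `Y` commute with the norm. -/
theorem nu_comm (C : Ctx p q V H Y) {d : G} (hd : d ∈ Subgroup.normalizer (V : Set G))
    (hdY : d ∈ Subgroup.centralizer (Y : Set G)) (v : ↥V) :
    kap V d hd (nu C v) = nu C (kap V d hd v) := by
  letI := commV C.S
  letI := Fintype.ofFinite ↥Y
  rw [nu_apply, nu_apply, map_prod]
  apply Finset.prod_congr rfl
  intro y _
  apply Subtype.ext
  rw [kap_coe, kap_coe, kap_coe, kap_coe]
  rw [Subgroup.mem_centralizer_iff] at hdY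
  have h := hdY y y.2
  have h' : d * (y : G)⁻¹ = (y : G)⁻¹ * d := by
    calc d * (y : G)⁻¹ = (y : G)⁻¹ * ((y : G) * d) * (y : G)⁻¹ := by group
      _ = (y : G)⁻¹ * (d * (y : G)) * (y : G)⁻¹ := by rw [h]
      _ = (y : G)⁻¹ * d := by group
  calc d * ((y : G) * (v : G) * (y : G)⁻¹) * d⁻¹
      = (d * (y : G)) * (v : G) * ((y : G)⁻¹ * d⁻¹) := by group
    _ = ((y : G) * d) * (v : G) * ((y : G)⁻¹ * d⁻¹) := by rw [h]
    _ = (y : G) * (d * (v : G)) * ((y : G)⁻¹ * d⁻¹) := by group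
    _ = (y : G) * (d * (v : G)) * (d * (y : G))⁻¹ := by rw [_root_.mul_inv_rev]
    _ = (y : G) * (d * (v : G)) * ((y : G) * d)⁻¹ := by rw [h]
    _ = (y : G) * (d * (v : G) * d⁻¹) * (y : G)⁻¹ := by group

/-- the norm is fixed by `Y`. -/
theorem nu_fixed (C : Ctx p q V H Y) {z : G} (hz : z ∈ Y) (v : ↥V) :
    z * (nu C v : G) * z⁻¹ = (nu C v : G) := by
  letI := commV C.S
  letI := Fintype.ofFinite ↥Y
  have h1 : z * (nu C v : G) * z⁻¹ = ((kap V z (C.hYV hz) (nu C v) : ↥V) : G) := rfl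
  rw [h1]
  congr 1
  rw [nu_apply, map_prod]
  have h2 : ∀ y : ↥Y, kap V z (C.hYV hz) (kap V (y : G) (C.hYV y.2) v) =
      kap V ((⟨z, hz⟩ * y : ↥Y) : G) (C.hYV (⟨z, hz⟩ * y : ↥Y).2) v := by
    intro y
    apply Subtype.ext
    rw [kap_coe, kap_coe, kap_coe]
    show z * ((y : G) * (v : G) * (y : G)⁻¹) * z⁻¹ = (z * (y : G)) * (v : G) * (z * (y : G))⁻¹
    group
  rw [Finset.prod_congr rfl (fun y _ => h2 y)]
  exact Fintype.prod_equiv (Equiv.mulLeft (⟨z, hz⟩ : ↥Y)) _ _ (fun y => rfl)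

theorem nu_mem_centralizer (C : Ctx p q V H Y) (v : ↥V) :
    (nu C v : G) ∈ Subgroup.centralizer (Y : Set G) := by
  rw [Subgroup.mem_centralizer_iff]
  intro z hz
  have h := nu_fixed C hz v
  calc z * (nu C v : G) = (z * (nu C v : G) * z⁻¹) * z := by group
    _ = (nu C v : G) * z := by rw [h]

theorem q_ne_p (C : Ctx p q V H Y) (MA : Min p V H A) : q ≠ p := by
  intro h
  apply q_not_dvd C.S MA C.hq
  rw [h]
  exact Dvd.intro _ rfl

/-- the norm on the module of a component. -/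
theorem nu_W (C : Ctx p q V H Y) (MA : Min p V H A) {w : G} (hw : w ∈ ⁅V, EA p H A⁆) :
    ∃ n : ℕ, n.Coprime p ∧ ∃ r ∈ V ⊓ Subgroup.centralizer ((EA p H A : Subgroup G) : Set G),
      (nu C ⟨w, WA_le C.S MA hw⟩ : G) = w ^ n * r := by
  classical
  letI := commV C.S
  letI := Fintype.ofFinite ↥Y
  have hp : p.Prime := Fact.out
  have hq : q.Prime := Fact.out
  rw [nu_apply]
  rw [← Finset.prod_filter_mul_prod_filter_not Finset.univ
    (fun y : ↥Y => (y : G) ∈ Subgroup.normalizer ((EA p H A : Subgroup G) : Set G))]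
  have h1 : ∀ y ∈ Finset.univ.filter
      (fun y : ↥Y => (y : G) ∈ Subgroup.normalizer ((EA p H A : Subgroup G) : Set G)),
      kap V (y : G) (C.hYV y.2) ⟨w, WA_le C.S MA hw⟩ = ⟨w, WA_le C.S MA hw⟩ := by
    intro y hy
    rw [Finset.mem_filter] at hy
    have hc := stab_le_centralizer_W C.S MA C.hY C.hYV C.hq ⟨y.2, hy.2⟩
    rw [Subgroup.mem_centralizer_iff] at hc
    apply Subtype.ext
    rw [kap_coe]
    show (y : G) * w * (y : G)⁻¹ = w
    rw [← hc w hw]; group
  rw [Finset.prod_congr rfl h1, Finset.prod_const]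
  refine ⟨(Finset.univ.filter
      (fun y : ↥Y => (y : G) ∈ Subgroup.normalizer ((EA p H A : Subgroup G) : Set G))).card,
    ?_, ?_⟩
  · -- the cardinality is a power of `q`
    have hcard : (Finset.univ.filter
        (fun y : ↥Y => (y : G) ∈ Subgroup.normalizer ((EA p H A : Subgroup G) : Set G))).card =
        Nat.card ↥((Subgroup.normalizer ((EA p H A : Subgroup G) : Set G)).subgroupOf Y) := by
      rw [Nat.card_eq_fintype_card, Fintype.card_subtype]
      rfl
    rw [hcard]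
    obtain ⟨m, hm⟩ := IsPGroup.iff_card.mp C.hY
    have hdvd : Nat.card ↥((Subgroup.normalizer ((EA p H A : Subgroup G) : Set G)).subgroupOf Y) ∣
        q ^ m := by
      rw [← hm]; exact Subgroup.card_subgroup_dvd_card _
    apply Nat.Coprime.coprime_dvd_left hdvd
    apply Nat.Coprime.pow_left
    exact (Nat.coprime_primes hq hp).mpr (q_ne_p C MA)
  · have hmem : (∏ y ∈ Finset.univ.filter
        (fun y : ↥Y => ¬ (y : G) ∈ Subgroup.normalizer ((EA p H A : Subgroup G) : Set G)),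
        kap V (y : G) (C.hYV y.2) ⟨w, WA_le C.S MA hw⟩) ∈
        (V ⊓ Subgroup.centralizer ((EA p H A : Subgroup G) : Set G)).subgroupOf V := by
      apply Subgroup.prod_mem
      intro y hy
      rw [Finset.mem_filter] at hy
      rw [Subgroup.mem_subgroupOf, kap_coe]
      refine ⟨(kap V (y : G) (C.hYV y.2) ⟨w, WA_le C.S MA hw⟩).2, ?_⟩
      have hne : EA p H (cj (y : G) A) ≠ EA p H A := by
        intro h
        rw [C.EA_cj y.2] at h
        exact hy.2 (mem_normalizer_of_cj_eq h)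
      have h2 := comp_comm C.S (C.min MA y.2) MA hne
      have h3 : (y : G) * w * (y : G)⁻¹ ∈ ⁅V, EA p H (cj (y : G) A)⁆ := by
        rw [C.EA_cj y.2]
        have : cj (y : G) ⁅V, EA p H A⁆ = ⁅V, cj (y : G) (EA p H A)⁆ := by
          rw [cj_commutator, cj_eq_of_mem_normalizer (C.hYV y.2)]
        rw [← this]
        exact cj_mem_cj hw
      show (y : G) * w * (y : G)⁻¹ ∈ Subgroup.centralizer ((EA p H A : Subgroup G) : Set G)
      rw [Subgroup.mem_centralizer_iff]
      intro e he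
      have h4 : e ∈ Subgroup.centralizer ((⁅V, EA p H (cj (y : G) A)⁆ : Subgroup G) : Set G) :=
        (h2 he).2
      rw [Subgroup.mem_centralizer_iff] at h4
      exact (h4 _ h3).symm
    refine ⟨_, Subgroup.mem_subgroupOf.mp hmem, ?_⟩
    rw [Subgroup.coe_mul, Subgroup.coe_pow]

/-- the norm is injective on the module of a component. -/
theorem nu_W_inj (C : Ctx p q V H Y) (MA : Min p V H A) {w : G} (hw : w ∈ ⁅V, EA p H A⁆)
    (h1 : nu C ⟨w, WA_le C.S MA hw⟩ = 1) : w = 1 := by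
  have hp : p.Prime := Fact.out
  obtain ⟨n, hn, r, hr, hnr⟩ := nu_W C MA hw
  rw [h1, Subgroup.coe_one] at hnr
  have h2 : w ^ n ∈ ⁅V, EA p H A⁆ ⊓ Subgroup.centralizer ((EA p H A : Subgroup G) : Set G) := by
    refine ⟨Subgroup.pow_mem _ hw n, ?_⟩
    have : w ^ n = r⁻¹ := eq_inv_of_mul_eq_one_left hnr.symm
    rw [this]
    exact Subgroup.inv_mem _ hr.2
  rw [WA_inf C.S MA, Subgroup.mem_bot] at h2
  have h3 : w ^ p = 1 := C.S.hV.2 w (WA_le C.S MA hw)
  have h4 : orderOf w ∣ Nat.gcd n p :=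
    Nat.dvd_gcd (orderOf_dvd_of_pow_eq_one h2) (orderOf_dvd_of_pow_eq_one h3)
  rw [hn, Nat.dvd_one] at h4
  exact orderOf_eq_one_iff.mp h4

end Cfsg.Agent.helper9.OffCop
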