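import Mathlib
import Cfsg.Agent.Lib_helper9_OffCop4

set_option autoImplicit false
set_option linter.unusedSectionVars false
set_option linter.unusedVariables false

/-!
# The diagonal plane and the diagonal `SL₂(p)` in the fixed points of a coprime operator group
-/

namespace Cfsg.Agent.helper9.OffCop

open Cfsg.Agent.helper7 Cfsg.Agent.helper9.Off
open scoped commutatorElement MatrixGroups
open Matrix

variable {G : Type*} [Group G] [Finite G] {p : ℕ} [Fact p.Prime] {V H A : Subgroup G}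
  {q : ℕ} [Fact q.Prime] {Y : Subgroup G}

theorem isEA_of_le {W : Subgroup G} (hV : Cfsg.IsElementaryAbelian p V) (hWV : W ≤ V) :
    Cfsg.IsElementaryAbelian p W := by
  refine ⟨⟨⟨?_⟩⟩, fun a ha => hV.2 a (hWV ha)⟩
  intro a b
  apply Subtype.ext
  have := hV.1
  have h := this.is_comm.comm (⟨a, hWV a.2⟩ : ↥V) ⟨b, hWV b.2⟩
  show (a : G) * (b : G) = (b : G) * (a : G)
  exact congrArg Subtype.val h

/-- the diagonal plane. -/
noncomputable def Wbar (C : Ctx p q V H Y) (A : Subgroup G) : Subgroup G :=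
  (((⁅V, EA p H A⁆ : Subgroup G).subgroupOf V).map (nu C)).map V.subtype

theorem mem_Wbar (C : Ctx p q V H Y) (MA : Min p V H A) {x : G} :
    x ∈ Wbar C A ↔ ∃ w, ∃ hw : w ∈ ⁅V, EA p H A⁆, x = (nu C ⟨w, WA_le C.S MA hw⟩ : G) := by
  unfold Wbar
  constructor
  · rintro ⟨_, ⟨v, hv, rfl⟩, rfl⟩
    exact ⟨v, Subgroup.mem_subgroupOf.mp hv, rfl⟩
  · rintro ⟨w, hw, rfl⟩
    exact ⟨_, ⟨⟨w, WA_le C.S MA hw⟩, Subgroup.mem_subgroupOf.mpr hw, rfl⟩, rfl⟩

theorem Wbar_le (C : Ctx p q V H Y) (MA : Min p V H A) :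
    Wbar C A ≤ V ⊓ Subgroup.centralizer (Y : Set G) := by
  intro x hx
  obtain ⟨w, hw, rfl⟩ := (mem_Wbar C MA).mp hx
  exact ⟨(nu C _).2, nu_mem_centralizer C _⟩

theorem Wbar_card (C : Ctx p q V H Y) (MA : Min p V H A) : Nat.card ↥(Wbar C A) = p ^ 2 := by
  unfold Wbar
  rw [Subgroup.card_map_of_injective V.subtype_injective]
  have hinj : Function.Injective
      ((nu C).comp ((⁅V, EA p H A⁆ : Subgroup G).subgroupOf V).subtype) := by
    rw [injective_iff_map_eq_one]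
    rintro ⟨⟨w, hwV⟩, hw⟩ h
    have hw' : w ∈ ⁅V, EA p H A⁆ := Subgroup.mem_subgroupOf.mp hw
    have h1 : nu C ⟨w, WA_le C.S MA hw'⟩ = 1 := h
    have := nu_W_inj C MA hw' h1
    apply Subtype.ext
    apply Subtype.ext
    exact this
  have hr : ((nu C).comp ((⁅V, EA p H A⁆ : Subgroup G).subgroupOf V).subtype).range =
      ((⁅V, EA p H A⁆ : Subgroup G).subgroupOf V).map (nu C) := by
    rw [MonoidHom.range_comp, Subgroup.range_subtype]
  rw [← hr, ← Nat.card_congr (MonoidHom.ofInjective hinj).toEquiv,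
    Nat.card_congr (Subgroup.subgroupOfEquivOfLe (WA_le C.S MA)).toEquiv]
  exact WA_card C.S MA

/-- conjugation by suitable elements preserves the diagonal plane. -/
theorem conj_mem_Wbar (C : Ctx p q V H Y) (MA : Min p V H A) {d : G}
    (hdV : d ∈ Subgroup.normalizer (V : Set G)) (hdY : d ∈ Subgroup.centralizer (Y : Set G))
    (hdW : d ∈ Subgroup.normalizer ((⁅V, EA p H A⁆ : Subgroup G) : Set G)) {x : G}
    (hx : x ∈ Wbar C A) : d * x * d⁻¹ ∈ Wbar C A := by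
  obtain ⟨w, hw, rfl⟩ := (mem_Wbar C MA).mp hx
  have hw' : d * w * d⁻¹ ∈ ⁅V, EA p H A⁆ := (Subgroup.mem_normalizer_iff.mp hdW w).mp hw
  refine (mem_Wbar C MA).mpr ⟨d * w * d⁻¹, hw', ?_⟩
  have h1 := nu_comm C hdV hdY ⟨w, WA_le C.S MA hw⟩
  have h2 := congrArg Subtype.val h1
  rw [kap_coe] at h2
  rw [h2]
  rfl

theorem mem_normalizer_Wbar (C : Ctx p q V H Y) (MA : Min p V H A) {d : G}
    (hdV : d ∈ Subgroup.normalizer (V : Set G)) (hdY : d ∈ Subgroup.centralizer (Y : Set G))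
    (hdW : d ∈ Subgroup.normalizer ((⁅V, EA p H A⁆ : Subgroup G) : Set G)) :
    d ∈ Subgroup.normalizer ((Wbar C A : Subgroup G) : Set G) := by
  rw [Subgroup.mem_normalizer_iff]
  intro x
  constructor
  · exact conj_mem_Wbar C MA hdV hdY hdW
  · intro hx
    have := conj_mem_Wbar C MA (Subgroup.inv_mem _ hdV) (Subgroup.inv_mem _ hdY)
      (Subgroup.inv_mem _ hdW) hx
    have e : d⁻¹ * (d * x * d⁻¹) * d⁻¹⁻¹ = x := by group
    rwa [e] at this

theorem mem_centralizer_Wbar_iff (C : Ctx p q V H Y) (MA : Min p V H A) {d : G}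
    (hdV : d ∈ Subgroup.normalizer (V : Set G)) (hdY : d ∈ Subgroup.centralizer (Y : Set G))
    (hdW : d ∈ Subgroup.normalizer ((⁅V, EA p H A⁆ : Subgroup G) : Set G)) :
    d ∈ Subgroup.centralizer ((Wbar C A : Subgroup G) : Set G) ↔
      d ∈ Subgroup.centralizer ((⁅V, EA p H A⁆ : Subgroup G) : Set G) := by
  rw [Subgroup.mem_centralizer_iff, Subgroup.mem_centralizer_iff]
  have key : ∀ w, ∀ hw : w ∈ ⁅V, EA p H A⁆,
      d * (nu C ⟨w, WA_le C.S MA hw⟩ : G) * d⁻¹ =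
        (nu C ⟨d * w * d⁻¹, WA_le C.S MA ((Subgroup.mem_normalizer_iff.mp hdW w).mp hw)⟩ : G) := by
    intro w hw
    have h1 := nu_comm C hdV hdY ⟨w, WA_le C.S MA hw⟩
    have h2 := congrArg Subtype.val h1
    rw [kap_coe] at h2
    rw [h2]
    rfl
  constructor
  · intro h w hw
    have h1 := h _ ((mem_Wbar C MA).mpr ⟨w, hw, rfl⟩)
    have h2 : d * (nu C ⟨w, WA_le C.S MA hw⟩ : G) * d⁻¹ = (nu C ⟨w, WA_le C.S MA hw⟩ : G) := by
      rw [← h1]; group
    rw [key w hw] at h2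
    have hw' : d * w * d⁻¹ ∈ ⁅V, EA p H A⁆ := (Subgroup.mem_normalizer_iff.mp hdW w).mp hw
    -- `nu (d w d⁻¹ w⁻¹) = 1`
    have hw'' : d * w * d⁻¹ * w⁻¹ ∈ ⁅V, EA p H A⁆ :=
      Subgroup.mul_mem _ hw' (Subgroup.inv_mem _ hw)
    have h3 : nu C ⟨d * w * d⁻¹ * w⁻¹, WA_le C.S MA hw''⟩ = 1 := by
      have e : (⟨d * w * d⁻¹ * w⁻¹, WA_le C.S MA hw''⟩ : ↥V) =
          ⟨d * w * d⁻¹, WA_le C.S MA hw'⟩ * (⟨w, WA_le C.S MA hw⟩ : ↥V)⁻¹ := rfl
      rw [e, map_mul, map_inv, Subtype.ext h2, mul_inv_cancel]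
    have h4 := nu_W_inj C MA hw'' h3
    calc w * d = (d * w * d⁻¹ * w⁻¹)⁻¹ * (d * w) := by group
      _ = d * w := by rw [h4, inv_one, one_mul]
  · intro h x hx
    obtain ⟨w, hw, rfl⟩ := (mem_Wbar C MA).mp hx
    have h1 : d * w * d⁻¹ = w := by rw [← h w hw]; group
    have h2 := key w hw
    have h3 : (nu C ⟨d * w * d⁻¹, WA_le C.S MA
        ((Subgroup.mem_normalizer_iff.mp hdW w).mp hw)⟩ : G) =
        (nu C ⟨w, WA_le C.S MA hw⟩ : G) := by
      congr 2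
      exact Subtype.ext h1
    rw [h3] at h2
    calc (nu C ⟨w, WA_le C.S MA hw⟩ : G) * d
        = (d * (nu C ⟨w, WA_le C.S MA hw⟩ : G) * d⁻¹) * d := by rw [h2]
      _ = d * (nu C ⟨w, WA_le C.S MA hw⟩ : G) := by group

end Cfsg.Agent.helper9.OffCop
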