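import Mathlib
import Cfsg.Agent.Lib_helper9_OffCop5

set_option autoImplicit false
set_option linter.unusedSectionVars false
set_option linter.unusedVariables false

/-!
# The diagonal `SL₂(p)` in the fixed points of a coprime operator group (abstract level)
-/

namespace Cfsg.Agent.helper9.OffCop

open Cfsg.Agent.helper7 Cfsg.Agent.helper9.Off
open scoped commutatorElement MatrixGroups
open Matrix

variable {G : Type*} [Group G] [Finite G] {p : ℕ} [Fact p.Prime] {V H A : Subgroup G}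
  {q : ℕ} [Fact q.Prime] {Y : Subgroup G}

theorem diag_sl2 (C : Ctx p q V H Y)
    (hS3 : H = ⨆ A : {A : Subgroup G // A ≤ H ∧ Cfsg.IsBestOffenderOn p V A}, (A : Subgroup G))
    (hH1 : H ≠ ⊥) :
    (p = 2 ∨ p = 3) ∧ ∃ W D : Subgroup G, W ≤ V ⊓ Subgroup.centralizer (Y : Set G) ∧
      D ≤ H ⊓ Subgroup.centralizer (Y : Set G) ∧ Nat.card W = p ^ 2 ∧
      D ≤ Subgroup.normalizer (W : Set G) ∧
      ∃ hn : ((Subgroup.centralizer (W : Set G)).subgroupOf D).Normal,
        Nonempty ((↥D ⧸ (Subgroup.centralizer (W : Set G)).subgroupOf D) ≃*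
          SpecialLinearGroup (Fin 2) (ZMod p)) := by
  obtain ⟨A, hA⟩ := exists_minOff C.S hS3 hH1
  have MA := hA.min C.S
  obtain ⟨B, a, b, Pr, MB, hE, -⟩ := MA.exists_loc C.S
  refine ⟨MA.p_cases C.S, ?_⟩
  have haE : a ∈ EA p H A := A_le_EA p H A Pr.ha
  have hbE : b ∈ EA p H A := by rw [hE]; exact Subgroup.mem_sup_right Pr.hb
  obtain ⟨ha', ra, hra, hae⟩ := C.orbProd_spec MA haE
  obtain ⟨hb', rb, hrb, hbe⟩ := C.orbProd_spec MA hbE
  have hWea : Cfsg.IsElementaryAbelian p (⁅V, EA p H A⁆ : Subgroup G) :=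
    isEA_of_le C.S.hV (WA_le C.S MA)
  have hWc := WA_card C.S MA
  have hfaith := EA_faithful C.S MA
  have hEN := EA_norm_WA C.S MA
  have hCN : Subgroup.centralizer ((⁅V, EA p H A⁆ : Subgroup G) : Set G) ≤
      Subgroup.normalizer ((⁅V, EA p H A⁆ : Subgroup G) : Set G) :=
    Subgroup.centralizer_le_normalizer _
  -- commutation
  have hcE : ∀ r ∈ Subgroup.centralizer ((EA p H A : Subgroup G) : Set G), ∀ e ∈ EA p H A,
      Commute e r := fun r hr e he => Subgroup.mem_centralizer_iff.mp hr e he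
  have hpow : ∀ x ∈ EA p H A, x ∈ A ∨ x ∈ B → x ^ p = 1 := by
    intro x _ hx
    rcases hx with hx | hx
    · have := pow_card_eq_one' (G := ↥A) (x := ⟨x, hx⟩)
      rw [MA.hcA] at this
      exact congrArg Subtype.val this
    · have := pow_card_eq_one' (G := ↥B) (x := ⟨x, hx⟩)
      rw [MB.hcA] at this
      exact congrArg Subtype.val this
  have haN : orbProd Y a ∈ Subgroup.normalizer ((⁅V, EA p H A⁆ : Subgroup G) : Set G) := by
    rw [hae]; exact Subgroup.mul_mem _ (hEN haE) (hCN hra.2)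
  have hbN : orbProd Y b ∈ Subgroup.normalizer ((⁅V, EA p H A⁆ : Subgroup G) : Set G) := by
    rw [hbe]; exact Subgroup.mul_mem _ (hEN hbE) (hCN hrb.2)
  have hap : orbProd Y a ^ p ∈ Subgroup.centralizer ((⁅V, EA p H A⁆ : Subgroup G) : Set G) := by
    rw [hae, (hcE ra hra.1 a haE).mul_pow, hpow a haE (Or.inl Pr.ha), one_mul]
    exact Subgroup.pow_mem _ hra.2 _
  have hbp : orbProd Y b ^ p ∈ Subgroup.centralizer ((⁅V, EA p H A⁆ : Subgroup G) : Set G) := by
    rw [hbe, (hcE rb hrb.1 b hbE).mul_pow, hpow b hbE (Or.inr Pr.hb), one_mul]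
    exact Subgroup.pow_mem _ hrb.2 _
  have hbot : ∀ x ∈ EA p H A,
      x ∈ Subgroup.centralizer ((⁅V, EA p H A⁆ : Subgroup G) : Set G) → x = 1 := by
    intro x hx hxc
    have : x ∈ EA p H A ⊓ Subgroup.centralizer ((⁅V, EA p H A⁆ : Subgroup G) : Set G) :=
      ⟨hx, hxc⟩
    rw [hfaith] at this
    exact Subgroup.mem_bot.mp this
  have ha : orbProd Y a ∉ Subgroup.centralizer ((⁅V, EA p H A⁆ : Subgroup G) : Set G) := by
    intro h
    rw [hae] at h
    have h1 : a ∈ Subgroup.centralizer ((⁅V, EA p H A⁆ : Subgroup G) : Set G) := by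
      have := Subgroup.mul_mem _ h (Subgroup.inv_mem _ hra.2)
      rwa [mul_inv_cancel_right] at this
    exact Pr.a_ne_one (hbot a haE h1)
  have hb : orbProd Y b ∉ Subgroup.centralizer ((⁅V, EA p H A⁆ : Subgroup G) : Set G) := by
    intro h
    rw [hbe] at h
    have h1 : b ∈ Subgroup.centralizer ((⁅V, EA p H A⁆ : Subgroup G) : Set G) := by
      have := Subgroup.mul_mem _ h (Subgroup.inv_mem _ hrb.2)
      rwa [mul_inv_cancel_right] at this
    exact Pr.symm.a_ne_one (hbot b hbE h1)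
  have hne : ∀ k : ℤ, orbProd Y b * (orbProd Y a ^ k)⁻¹ ∉
      Subgroup.centralizer ((⁅V, EA p H A⁆ : Subgroup G) : Set G) := by
    intro k h
    have hu : (a ^ k)⁻¹ ∈ EA p H A := Subgroup.inv_mem _ (Subgroup.zpow_mem _ haE k)
    have ht1 : rb * (ra ^ k)⁻¹ ∈ Subgroup.centralizer ((EA p H A : Subgroup G) : Set G) :=
      Subgroup.mul_mem _ hrb.1 (Subgroup.inv_mem _ (Subgroup.zpow_mem _ hra.1 k))
    have ht2 : rb * (ra ^ k)⁻¹ ∈
        Subgroup.centralizer ((⁅V, EA p H A⁆ : Subgroup G) : Set G) :=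
      Subgroup.mul_mem _ hrb.2 (Subgroup.inv_mem _ (Subgroup.zpow_mem _ hra.2 k))
    have hcomm : (a ^ k)⁻¹ * (rb * (ra ^ k)⁻¹) = (rb * (ra ^ k)⁻¹) * (a ^ k)⁻¹ :=
      (hcE _ ht1 _ hu).eq
    have e1 : orbProd Y b * (orbProd Y a ^ k)⁻¹ = b * (a ^ k)⁻¹ * (rb * (ra ^ k)⁻¹) := by
      rw [hae, hbe, (hcE ra hra.1 a haE).mul_zpow, _root_.mul_inv_rev]
      calc b * rb * ((ra ^ k)⁻¹ * (a ^ k)⁻¹) = b * ((rb * (ra ^ k)⁻¹) * (a ^ k)⁻¹) := by group
        _ = b * ((a ^ k)⁻¹ * (rb * (ra ^ k)⁻¹)) := by rw [hcomm]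
        _ = b * (a ^ k)⁻¹ * (rb * (ra ^ k)⁻¹) := by group
    rw [e1] at h
    have h1 : b * (a ^ k)⁻¹ ∈ Subgroup.centralizer ((⁅V, EA p H A⁆ : Subgroup G) : Set G) := by
      have := Subgroup.mul_mem _ h (Subgroup.inv_mem _ ht2)
      rwa [mul_inv_cancel_right] at this
    have h2 := hbot _ (Subgroup.mul_mem _ hbE hu) h1
    have h3 : b = a ^ k := by
      rw [mul_inv_eq_one] at h2; exact h2
    have hbA : b ∈ A := by rw [h3]; exact Subgroup.zpow_mem _ Pr.ha k
    apply Pr.A_ne_B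
    have hBA : B ≤ A := by
      rw [Pr.symm.A_eq_zpowers]; exact Subgroup.zpowers_le.mpr hbA
    symm
    apply Subgroup.eq_of_le_of_card_ge hBA
    rw [MA.hcA, MB.hcA]
  obtain ⟨hn, ⟨e⟩⟩ := lemmaR (⁅V, EA p H A⁆ : Subgroup G) hWea hWc (orbProd Y a) (orbProd Y b)
    haN hbN hap hbp ha hb hne
  -- the subgroup `D`
  have hDall : Subgroup.closure ({orbProd Y a, orbProd Y b} : Set G) ≤
      (H ⊓ Subgroup.centralizer (Y : Set G)) ⊓
        Subgroup.normalizer ((⁅V, EA p H A⁆ : Subgroup G) : Set G) := by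
    rw [Subgroup.closure_le]
    rintro x (rfl | rfl)
    · exact ⟨ha', haN⟩
    · exact ⟨hb', hbN⟩
  have hdV : ∀ d ∈ Subgroup.closure ({orbProd Y a, orbProd Y b} : Set G),
      d ∈ Subgroup.normalizer (V : Set G) := fun d hd => C.S.hHV (hDall hd).1.1
  have hdY : ∀ d ∈ Subgroup.closure ({orbProd Y a, orbProd Y b} : Set G),
      d ∈ Subgroup.centralizer (Y : Set G) := fun d hd => (hDall hd).1.2
  have hdW : ∀ d ∈ Subgroup.closure ({orbProd Y a, orbProd Y b} : Set G),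
      d ∈ Subgroup.normalizer ((⁅V, EA p H A⁆ : Subgroup G) : Set G) := fun d hd => (hDall hd).2
  have heq : (Subgroup.centralizer ((Wbar C A : Subgroup G) : Set G)).subgroupOf
      (Subgroup.closure ({orbProd Y a, orbProd Y b} : Set G)) =
      (Subgroup.centralizer ((⁅V, EA p H A⁆ : Subgroup G) : Set G)).subgroupOf
      (Subgroup.closure ({orbProd Y a, orbProd Y b} : Set G)) := by
    ext d
    rw [Subgroup.mem_subgroupOf, Subgroup.mem_subgroupOf]
    exact mem_centralizer_Wbar_iff C MA (hdV _ d.2) (hdY _ d.2) (hdW _ d.2)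
  haveI := hn
  have hn' : ((Subgroup.centralizer ((Wbar C A : Subgroup G) : Set G)).subgroupOf
      (Subgroup.closure ({orbProd Y a, orbProd Y b} : Set G))).Normal := by
    rw [heq]; exact hn
  refine ⟨Wbar C A, Subgroup.closure ({orbProd Y a, orbProd Y b} : Set G), Wbar_le C MA,
    fun d hd => (hDall hd).1, Wbar_card C MA, ?_, hn', ?_⟩
  · intro d hd
    exact mem_normalizer_Wbar C MA (hdV _ hd) (hdY _ hd) (hdW _ hd)
  · haveI := hn'
    exact ⟨(QuotientGroup.quotientMulEquivOfEq heq).trans e⟩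

end Cfsg.Agent.helper9.OffCop
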