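import Mathlib
import Cfsg.Prelude.Def_CaseTheorems

set_option autoImplicit false

/-! Transport of `PRankLE` along subgroups, and a few facts on index two subgroups. -/

namespace Cfsg.Agent.helper9

section PRank

variable {G : Type*} [Group G]

/-- `p`-rank of a subgroup, phrased with subgroups of the ambient group -/
theorem prankLE_subgroup_iff (p k : ℕ) (H : Subgroup G) :
    Cfsg.PRankLE p k ↥H ↔ ∀ A : Subgroup G, A ≤ H → (∀ a ∈ A, ∀ b ∈ A, a * b = b * a) →
      (∀ a ∈ A, a ^ p = 1) → Nat.card A ≤ p ^ k := by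
  constructor
  · intro h A hAH hcomm hexp
    have h1 := h (A.subgroupOf H)
      ⟨⟨fun a b => Subtype.ext (Subtype.ext (hcomm _ a.2 _ b.2))⟩⟩
      (fun a ha => Subtype.ext (hexp _ ha))
    rwa [Nat.card_congr (Subgroup.subgroupOfEquivOfLe hAH).toEquiv] at h1
  · intro h A hA hexp
    have h1 := h (A.map H.subtype)
      (by
        rintro _ ⟨a, _, rfl⟩
        exact a.2)
      (by
        rintro _ ⟨a, ha, rfl⟩ _ ⟨b, hb, rfl⟩
        have := hA.is_comm.comm (⟨a, ha⟩ : A) ⟨b, hb⟩
        have h2 := congrArg (fun z : ↥A => ((z : ↥H) : G)) this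
        simpa using h2)
      (by
        rintro _ ⟨a, ha, rfl⟩
        have := hexp a ha
        have h2 := congrArg (fun z : ↥H => (z : G)) this
        simpa using h2)
    rwa [Subgroup.card_map_of_injective H.subtype_injective] at h1

end PRank

section IndexTwo

variable {G : Type*} [Group G] [Finite G]

/-- a nontrivial homomorphism to a finite `2`-group yields a subgroup of index two -/
theorem exists_index_two_of_hom {A : Type*} [Group A] [Finite A] (hA : IsPGroup 2 A)
    (f : G →* A) (g : G) (hg : f g ≠ 1) : ∃ H : Subgroup G, H.index = 2 := by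
  have hB : IsPGroup 2 f.range := hA.to_subgroup _
  obtain ⟨k, hk⟩ := hB.exists_card_eq
  have hk0 : k ≠ 0 := by
    rintro rfl
    rw [pow_zero] at hk
    have h1 : f.range = ⊥ := Subgroup.card_eq_one.mp hk
    have h2 : f g ∈ f.range := ⟨g, rfl⟩
    rw [h1] at h2
    exact hg (Subgroup.mem_bot.mp h2)
  obtain ⟨j, rfl⟩ : ∃ j, k = j + 1 := Nat.exists_eq_succ_of_ne_zero hk0
  haveI : Fact (Nat.Prime 2) := ⟨Nat.prime_two⟩
  obtain ⟨K, hK⟩ := Sylow.exists_subgroup_card_pow_prime (G := f.range) 2 (n := j) (by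
    rw [hk]; exact pow_dvd_pow 2 (Nat.le_succ j))
  have hKi : K.index = 2 := by
    have h1 := K.card_mul_index
    rw [hK, hk, pow_succ] at h1
    exact Nat.eq_of_mul_eq_mul_left (by positivity) h1
  refine ⟨K.comap f.rangeRestrict, ?_⟩
  rw [Subgroup.index_comap_of_surjective _ f.rangeRestrict_surjective, hKi]

open scoped IsMulCommutative in
/-- in a group with no subgroup of index two and commutative Sylow `2`-subgroup `S`, no
nontrivial element of `S` is centralized by `N(S)` -/
theorem eq_one_of_central_normalizer (hG : ∀ H : Subgroup G, H.index ≠ 2) (S : Sylow 2 G)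
    [hS : IsMulCommutative (S : Subgroup G)] (u : G) (huS : u ∈ (S : Subgroup G))
    (hu : ∀ n ∈ Subgroup.normalizer ((S : Subgroup G) : Set G), n * u * n⁻¹ = u) : u = 1 := by
  haveI : Fact (Nat.Prime 2) := ⟨Nat.prime_two⟩
  by_contra hne
  have key : ∀ (k : ℕ) (g₀ : G), g₀⁻¹ * u ^ k * g₀ ∈ (S : Subgroup G) →
      g₀⁻¹ * u ^ k * g₀ = u ^ k := by
    intro k g₀ h
    obtain ⟨n, hn, hn2⟩ := Sylow.conj_eq_normalizer_conj_of_mem S (u ^ k) g₀ (pow_mem huS k) h
    rw [hn2]
    have h1 := hu n⁻¹ (inv_mem hn)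
    rw [inv_inv] at h1
    have h2 : n⁻¹ * u ^ k * n = (n⁻¹ * u * n) ^ k := by
      have h3 := conj_pow (a := n⁻¹) (b := u) (i := k)
      rw [inv_inv] at h3
      exact h3.symm
    rw [h2, h1]
  have hV := MonoidHom.transfer_eq_pow (MonoidHom.id (S : Subgroup G)) u key
  have hne' : u ^ (S : Subgroup G).index ≠ 1 := by
    intro h1
    have hdvd : orderOf u ∣ (S : Subgroup G).index := orderOf_dvd_of_pow_eq_one h1
    obtain ⟨j, hj⟩ := S.2 ⟨u, huS⟩
    have hj' : u ^ 2 ^ j = 1 := by
      have := congrArg (fun z : ↥(S : Subgroup G) => (z : G)) hj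
      simpa using this
    obtain ⟨i, _, hi⟩ := (Nat.dvd_prime_pow Nat.prime_two).mp (orderOf_dvd_of_pow_eq_one hj')
    rcases Nat.eq_zero_or_pos i with rfl | hipos
    · rw [pow_zero, orderOf_eq_one_iff] at hi
      exact hne hi
    · have h2 : 2 ∣ orderOf u := by
        rw [hi]; exact dvd_pow_self 2 hipos.ne'
      exact S.not_dvd_index (h2.trans hdvd)
  obtain ⟨H, hH⟩ := exists_index_two_of_hom (A := ↥(S : Subgroup G)) S.2
    (MonoidHom.transfer (MonoidHom.id (S : Subgroup G))) u (by
      rw [hV]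
      intro h
      apply hne'
      have := congrArg (fun z : ↥(S : Subgroup G) => (z : G)) h
      simpa using this)
  exact hG H hH

end IndexTwo

end Cfsg.Agent.helper9
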