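import Mathlib

set_option autoImplicit false

/-!
# Quaternion-type actions on abelian groups of odd order force square order

`sq_main` : a finite abelian group `K` of odd order with endomorphisms `α β` satisfying
`α² = β² = -1`, `αβ = -βα` has square order.
`card_sq_of_quat` : the same inside a group `L` for a normal subgroup `K` inverted by `z = x² = y²`.
-/

namespace Cfsg.Agent.helper9.QuatSq

variable {K : Type*} [CommGroup K] [Finite K]

/-- Quaternion-type pair of endomorphisms. -/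
structure QAct (α β : K →* K) : Prop where
  hα : ∀ k, α (α k) = k⁻¹
  hβ : ∀ k, β (β k) = k⁻¹
  hαβ : ∀ k, α (β k) = (β (α k))⁻¹

/-- Invariant subgroups. -/
def InvSub (α β : K →* K) (W : Subgroup K) : Prop := (∀ w ∈ W, α w ∈ W) ∧ (∀ w ∈ W, β w ∈ W)

theorem QAct.βαβ {α β : K →* K} (h : QAct α β) (k : K) : β (α (β k)) = α k := by
  rw [h.hαβ, map_inv, h.hβ, inv_inv]

theorem comm_identity (w u : K) (a b : ℕ) :
    ((w⁻¹) ^ a * (u⁻¹) ^ b) ^ a * (u ^ a * (w⁻¹) ^ b) ^ b = (w⁻¹) ^ (a * a + b * b) := by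
  rw [mul_pow, mul_pow, ← pow_mul, ← pow_mul, ← pow_mul, ← pow_mul, inv_pow u, mul_comm b a,
    mul_assoc, inv_mul_cancel_left, ← pow_add]

/-- The elementary abelian case. -/
theorem sq_elem {α β : K →* K} (h : QAct α β) {p : ℕ} [hp : Fact p.Prime] (hp2 : p ≠ 2)
    (W : Subgroup K) (hW : InvSub α β W) (hWp : ∀ w ∈ W, w ^ p = 1) : IsSquare (Nat.card W) := by
  obtain ⟨a0, b0, hab⟩ := ZMod.sq_add_sq p (-1 : ZMod p)
  obtain ⟨a, ha⟩ : ∃ a : ℕ, a = a0.val := ⟨_, rfl⟩
  obtain ⟨b, hb⟩ : ∃ b : ℕ, b = b0.val := ⟨_, rfl⟩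
  have hdvd : p ∣ a * a + b * b + 1 := by
    rw [← ZMod.natCast_eq_zero_iff]
    push_cast
    rw [ha, hb, ZMod.natCast_zmod_val, ZMod.natCast_zmod_val, ← pow_two, ← pow_two, hab]
    ring
  have hWpow : ∀ w ∈ W, (w⁻¹) ^ (a * a + b * b) = w := by
    intro w hw
    obtain ⟨c, hc⟩ := hdvd
    have h1 : w ^ (a * a + b * b + 1) = 1 := by rw [hc, pow_mul, hWp w hw, one_pow]
    rw [pow_succ] at h1
    rw [inv_pow]
    exact inv_eq_of_mul_eq_one_right h1
  obtain ⟨δ, hδ⟩ : ∃ δ : K →* K, ∀ k, δ k = α k ^ a * β k ^ b :=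
    ⟨(powMonoidHom a).comp α * (powMonoidHom b).comp β, fun k => rfl⟩
  have hδδ : ∀ w ∈ W, δ (δ w) = w := by
    intro w hw
    rw [hδ (δ w), hδ w, map_mul, map_mul, map_pow, map_pow, map_pow, map_pow, h.hα, h.hαβ, h.hβ,
      comm_identity]
    exact hWpow w hw
  have hδW : ∀ w ∈ W, δ w ∈ W := by
    intro w hw
    rw [hδ]
    exact W.mul_mem (W.pow_mem (hW.1 w hw) a) (W.pow_mem (hW.2 w hw) b)
  -- γ = αβ anticommutes with δ
  have hγδ : ∀ k : K, δ (α (β k)) = (α (β (δ k)))⁻¹ := by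
    intro k
    rw [hδ (α (β k)), hδ k, h.hα, h.βαβ, map_mul, map_mul, map_pow, map_pow, map_pow, map_pow,
      h.hβ, h.hαβ (α k), h.hα, map_inv, map_inv, mul_inv, inv_pow, inv_pow, inv_pow, inv_inv,
      inv_pow, inv_inv]
  have hγγ : ∀ k : K, α (β (α (β k))) = k⁻¹ := by
    intro k; rw [h.βαβ, h.hα]
  have hγinj : Function.Injective (fun k : K => α (β k)) := by
    intro k l hkl
    have := congrArg (fun t => α (β t)) hkl
    simp only [hγγ] at this
    exact inv_injective this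
  -- eigen-subgroups
  obtain ⟨Ep, hEp⟩ : ∃ Ep : Subgroup K, Ep = W ⊓ MonoidHom.eqLocus δ (MonoidHom.id K) := ⟨_, rfl⟩
  obtain ⟨Em, hEm⟩ : ∃ Em : Subgroup K, Em = W ⊓ MonoidHom.eqLocus δ (invMonoidHom : K →* K) :=
    ⟨_, rfl⟩
  have hEpmem : ∀ k, k ∈ Ep ↔ k ∈ W ∧ δ k = k := by
    intro k; rw [hEp, Subgroup.mem_inf]; rfl
  have hEmmem : ∀ k, k ∈ Em ↔ k ∈ W ∧ δ k = k⁻¹ := by
    intro k; rw [hEm, Subgroup.mem_inf]; rfl
  have hγpm : ∀ k ∈ Ep, α (β k) ∈ Em := by
    intro k hk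
    obtain ⟨hkW, hk1⟩ := (hEpmem k).mp hk
    rw [hEmmem]
    exact ⟨hW.1 _ (hW.2 _ hkW), by rw [hγδ, hk1]⟩
  have hγmp : ∀ k ∈ Em, α (β k) ∈ Ep := by
    intro k hk
    obtain ⟨hkW, hk1⟩ := (hEmmem k).mp hk
    rw [hEpmem]
    exact ⟨hW.1 _ (hW.2 _ hkW), by rw [hγδ, hk1, map_inv, map_inv, inv_inv]⟩
  have hle1 : Nat.card Ep ≤ Nat.card Em :=
    Nat.card_le_card_of_injective (fun k : Ep => (⟨α (β k.1), hγpm k.1 k.2⟩ : Em))
      (fun k l hkl => Subtype.ext (hγinj (congrArg Subtype.val hkl)))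
  have hle2 : Nat.card Em ≤ Nat.card Ep :=
    Nat.card_le_card_of_injective (fun k : Em => (⟨α (β k.1), hγmp k.1 k.2⟩ : Ep))
      (fun k l hkl => Subtype.ext (hγinj (congrArg Subtype.val hkl)))
  have heq : Nat.card Em = Nat.card Ep := le_antisymm hle2 hle1
  -- no 2-torsion in W
  have hodd : ∀ w ∈ W, w * w = 1 → w = 1 := by
    intro w hw hww
    have h1 : orderOf w ∣ 2 := orderOf_dvd_of_pow_eq_one (by rw [pow_two]; exact hww)
    have h2 : orderOf w ∣ p := orderOf_dvd_of_pow_eq_one (hWp w hw)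
    have h3 : Nat.Coprime 2 p := (Nat.coprime_primes Nat.prime_two hp.out).mpr (Ne.symm hp2)
    have h4 := Nat.dvd_gcd h1 h2
    rw [h3] at h4
    exact orderOf_eq_one_iff.mp (Nat.dvd_one.mp h4)
  -- the product map is a bijection Ep × Em → W
  have hbij : Function.Bijective (fun uv : Ep × Em =>
      (⟨uv.1.1 * uv.2.1, W.mul_mem ((hEpmem _).mp uv.1.2).1 ((hEmmem _).mp uv.2.2).1⟩ : W)) := by
    constructor
    · rintro ⟨⟨u, hu⟩, ⟨v, hv⟩⟩ ⟨⟨u', hu'⟩, ⟨v', hv'⟩⟩ huv
      have h1 : u * v = u' * v' := congrArg Subtype.val huv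
      obtain ⟨huW, hu1⟩ := (hEpmem u).mp hu
      obtain ⟨hu'W, hu'1⟩ := (hEpmem u').mp hu'
      obtain ⟨hvW, hv1⟩ := (hEmmem v).mp hv
      obtain ⟨hv'W, hv'1⟩ := (hEmmem v').mp hv'
      -- t = u'⁻¹ u = v' v⁻¹
      have h2 : u'⁻¹ * u = v' * v⁻¹ := by
        rw [inv_mul_eq_iff_eq_mul, ← mul_assoc, ← h1, mul_assoc, mul_inv_cancel, mul_one]
      have h3 : δ (u'⁻¹ * u) = u'⁻¹ * u := by rw [map_mul, map_inv, hu1, hu'1]
      have h4 : δ (u'⁻¹ * u) = (u'⁻¹ * u)⁻¹ := by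
        rw [h2, map_mul, map_inv, hv1, hv'1, mul_inv, inv_inv]
      have h5 : (u'⁻¹ * u) * (u'⁻¹ * u) = 1 := by
        have : u'⁻¹ * u = (u'⁻¹ * u)⁻¹ := h3.symm.trans h4
        calc (u'⁻¹ * u) * (u'⁻¹ * u) = (u'⁻¹ * u) * (u'⁻¹ * u)⁻¹ := by rw [← this]
          _ = 1 := mul_inv_cancel _
      have h6 := hodd _ (W.mul_mem (W.inv_mem hu'W) huW) h5
      have h7 : u = u' := by
        have := inv_mul_eq_one.mp h6
        exact this.symm
      have h8 : v = v' := by
        rw [h7] at h1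
        exact mul_left_cancel h1
      simp only [Prod.mk.injEq, Subtype.mk.injEq]
      exact ⟨h7, h8⟩
    · rintro ⟨w, hw⟩
      obtain ⟨t, ht⟩ : ∃ t, p + 1 = 2 * t := by
        have := hp.out.eq_one_or_self_of_dvd 2
        rcases Nat.even_or_odd p with he | ho
        · exfalso
          rcases this (even_iff_two_dvd.mp he) with h | h
          · omega
          · exact hp2 h.symm
        · obtain ⟨c, hc⟩ := ho
          exact ⟨c + 1, by omega⟩
      have hu : (w * δ w) ^ t ∈ Ep := by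
        rw [hEpmem]
        refine ⟨W.pow_mem (W.mul_mem hw (hδW w hw)) t, ?_⟩
        rw [map_pow, map_mul, hδδ w hw, mul_comm]
      have hv : (w * (δ w)⁻¹) ^ t ∈ Em := by
        rw [hEmmem]
        refine ⟨W.pow_mem (W.mul_mem hw (W.inv_mem (hδW w hw))) t, ?_⟩
        rw [map_pow, map_mul, map_inv, hδδ w hw, ← inv_pow, mul_inv, inv_inv, mul_comm]
      refine ⟨(⟨_, hu⟩, ⟨_, hv⟩), ?_⟩
      apply Subtype.ext
      show (w * δ w) ^ t * (w * (δ w)⁻¹) ^ t = w
      rw [← mul_pow, mul_mul_mul_comm, mul_inv_cancel, mul_one, ← pow_two, ← pow_mul, ← ht, pow_succ,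
        hWp w hw, one_mul]
  have hcard : Nat.card W = Nat.card Ep * Nat.card Em := by
    rw [← Nat.card_prod]
    exact (Nat.card_congr (Equiv.ofBijective _ hbij)).symm
  rw [hcard, heq]
  exact ⟨Nat.card Ep, rfl⟩

/-- Invariant subgroups of an odd-order abelian group with a quaternion-type action have square
order. -/
theorem sq_main {α β : K →* K} (h : QAct α β) (hodd : Odd (Nat.card K)) :
    ∀ n : ℕ, ∀ W : Subgroup K, InvSub α β W → Nat.card W = n → IsSquare n := by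
  intro n
  induction n using Nat.strong_induction_on with
  | _ n ih =>
    intro W hW hn
    by_cases hbot : W = ⊥
    · subst hbot
      rw [Subgroup.card_bot] at hn
      subst hn
      exact ⟨1, rfl⟩
    have hne1 : Nat.card W ≠ 1 := fun h1 => hbot (Subgroup.card_eq_one.mp h1)
    obtain ⟨p, hp, hpd⟩ := Nat.exists_prime_and_dvd hne1
    haveI : Fact p.Prime := ⟨hp⟩
    have hp2 : p ≠ 2 := by
      rintro rfl
      have h2 : 2 ∣ Nat.card K := hpd.trans (Subgroup.card_subgroup_dvd_card W)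
      exact (Nat.not_even_iff_odd.mpr hodd) (even_iff_two_dvd.mpr h2)
    obtain ⟨f, hf⟩ : ∃ f : K →* K, ∀ k, f k = k ^ p := ⟨powMonoidHom p, fun k => rfl⟩
    obtain ⟨Ω, hΩ⟩ : ∃ Ω : Subgroup K, Ω = W ⊓ f.ker := ⟨_, rfl⟩
    obtain ⟨V, hV⟩ : ∃ V : Subgroup K, V = W.map f := ⟨_, rfl⟩
    have hΩmem : ∀ k, k ∈ Ω ↔ k ∈ W ∧ k ^ p = 1 := by
      intro k
      rw [hΩ, Subgroup.mem_inf, MonoidHom.mem_ker, hf]
    have hΩinv : InvSub α β Ω := by
      constructor
      · intro w hw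
        obtain ⟨h1, h2⟩ := (hΩmem w).mp hw
        exact (hΩmem _).mpr ⟨hW.1 w h1, by rw [← map_pow, h2, map_one]⟩
      · intro w hw
        obtain ⟨h1, h2⟩ := (hΩmem w).mp hw
        exact (hΩmem _).mpr ⟨hW.2 w h1, by rw [← map_pow, h2, map_one]⟩
    have hVinv : InvSub α β V := by
      constructor
      · intro w hw
        rw [hV] at hw ⊢
        obtain ⟨u, hu, rfl⟩ := Subgroup.mem_map.mp hw
        exact Subgroup.mem_map.mpr ⟨α u, hW.1 u hu, by rw [hf, hf, map_pow]⟩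
      · intro w hw
        rw [hV] at hw ⊢
        obtain ⟨u, hu, rfl⟩ := Subgroup.mem_map.mp hw
        exact Subgroup.mem_map.mpr ⟨β u, hW.2 u hu, by rw [hf, hf, map_pow]⟩
    have hcard : Nat.card W = Nat.card Ω * Nat.card V := by
      obtain ⟨g, hg⟩ : ∃ g : W →* K, g = f.comp W.subtype := ⟨_, rfl⟩
      have h1 : Nat.card g.ker * Nat.card g.range = Nat.card W := by
        rw [← Subgroup.index_ker, Subgroup.card_mul_index]
      have h2 : g.range = V := by
        rw [hg, hV, MonoidHom.range_comp, Subgroup.range_subtype]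
      have h3 : Nat.card g.ker = Nat.card Ω := by
        have h4 : g.ker = Ω.subgroupOf W := by
          ext x
          rw [MonoidHom.mem_ker, Subgroup.mem_subgroupOf, hΩmem, hg, MonoidHom.comp_apply, hf]
          constructor
          · intro hx
            exact ⟨x.2, hx⟩
          · intro hx
            exact hx.2
        rw [h4]
        exact Nat.card_congr (Subgroup.subgroupOfEquivOfLe (by rw [hΩ]; exact inf_le_left)).toEquiv
      rw [← h1, h2, h3]
    have hΩne : Ω ≠ ⊥ := by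
      obtain ⟨x, hx⟩ := exists_prime_orderOf_dvd_card' p hpd
      intro hb
      have hx1 : (x : K) ∈ Ω := by
        rw [hΩmem]
        refine ⟨x.2, ?_⟩
        have : x ^ p = 1 := by rw [← hx]; exact pow_orderOf_eq_one x
        have h5 := congrArg Subtype.val this
        simpa using h5
      rw [hb, Subgroup.mem_bot] at hx1
      have hx2 : x = 1 := Subtype.ext hx1
      rw [hx2, orderOf_one] at hx
      exact hp.one_lt.ne hx
    by_cases hΩW : Ω = W
    · rw [← hn]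
      exact sq_elem h hp2 W hW (fun w hw => ((hΩmem w).mp (hΩW ▸ hw)).2)
    · have hΩle : Ω ≤ W := by rw [hΩ]; exact inf_le_left
      have hΩlt : Nat.card Ω < Nat.card W := by
        rcases lt_or_ge (Nat.card Ω) (Nat.card W) with hlt | hge
        · exact hlt
        · exfalso
          apply hΩW
          exact Subgroup.eq_of_le_of_card_ge hΩle hge
      have hΩpos : 1 < Nat.card Ω := by
        rcases Nat.lt_or_ge 1 (Nat.card Ω) with hlt | hge
        · exact hlt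
        · exfalso
          apply hΩne
          have hpos : 0 < Nat.card Ω := Nat.card_pos
          exact Subgroup.card_eq_one.mp (by omega)
      have hVpos : 0 < Nat.card V := Nat.card_pos
      have hVlt : Nat.card V < Nat.card W := by
        rw [hcard]
        nlinarith
      have s1 := ih _ (hn ▸ hΩlt) Ω hΩinv rfl
      have s2 := ih _ (hn ▸ hVlt) V hVinv rfl
      rw [← hn, hcard]
      exact s1.mul s2

/-- An involution acting fixed-point-freely on a finite normal subgroup inverts it, and the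
subgroup has odd order. -/
theorem inverts_of_fpf_involution {L : Type*} [Group L] (K : Subgroup L) [hKn : K.Normal]
    [Finite K] (z : L) (hz : z * z = 1) (hfix : ∀ k ∈ K, z * k = k * z → k = 1) :
    (∀ k ∈ K, z * k * z⁻¹ = k⁻¹) ∧ Odd (Nat.card K) := by
  have hzinv : z⁻¹ = z := inv_eq_of_mul_eq_one_right hz
  have hinj : Function.Injective
      (fun k : K => (⟨(k : L)⁻¹ * (z * k * z⁻¹), K.mul_mem (K.inv_mem k.2) (hKn.conj_mem k k.2 z)⟩ : K)) := by
    intro k l hkl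
    have h1 : (k : L)⁻¹ * (z * k * z⁻¹) = (l : L)⁻¹ * (z * l * z⁻¹) := congrArg Subtype.val hkl
    have h2 : z * ((l : L) * (k : L)⁻¹) = ((l : L) * (k : L)⁻¹) * z := by
      have h3 : (l : L) * ((k : L)⁻¹ * (z * k * z⁻¹)) * z * (k : L)⁻¹ = (l : L) * ((l : L)⁻¹ * (z * l * z⁻¹)) * z * (k : L)⁻¹ := by
        rw [h1]
      have h4 : (l : L) * ((k : L)⁻¹ * (z * k * z⁻¹)) * z * (k : L)⁻¹ = ((l : L) * (k : L)⁻¹) * z := by
        group
      have h5 : (l : L) * ((l : L)⁻¹ * (z * l * z⁻¹)) * z * (k : L)⁻¹ = z * ((l : L) * (k : L)⁻¹) := by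
        group
      rw [← h4, ← h5, h3]
    have h6 := hfix _ (K.mul_mem l.2 (K.inv_mem k.2)) h2
    have h7 : (l : L) = k := mul_inv_eq_one.mp h6
    exact Subtype.ext h7.symm
  have hsurj := Finite.surjective_of_injective hinj
  have hinv : ∀ k ∈ K, z * k * z⁻¹ = k⁻¹ := by
    intro k hk
    obtain ⟨t, ht⟩ := hsurj ⟨k, hk⟩
    have h1 : (t : L)⁻¹ * (z * t * z⁻¹) = k := congrArg Subtype.val ht
    rw [← h1]
    have h2 : z * ((t : L)⁻¹ * (z * t * z⁻¹)) * z⁻¹ = z * (t : L)⁻¹ * z * t * (z * z)⁻¹ := by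
      group
    have h3 : ((t : L)⁻¹ * (z * t * z⁻¹))⁻¹ = z * (t : L)⁻¹ * z⁻¹ * t := by
      group
    rw [h2, h3, hz, inv_one, mul_one, hzinv]
  refine ⟨hinv, ?_⟩
  rw [← Nat.not_even_iff_odd]
  intro he
  obtain ⟨k, hk⟩ := exists_prime_orderOf_dvd_card' 2 (even_iff_two_dvd.mp he)
  have hk2 : (k : L) * k = 1 := by
    have : k ^ 2 = 1 := by rw [← hk]; exact pow_orderOf_eq_one k
    have h5 := congrArg Subtype.val this
    rw [pow_two] at h5
    simpa using h5
  have hkinv : (k : L)⁻¹ = k := inv_eq_of_mul_eq_one_right hk2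
  have h1 := hinv k k.2
  rw [hkinv] at h1
  have h2 : z * (k : L) = k * z := by
    calc z * (k : L) = (z * k * z⁻¹) * z := by group
      _ = k * z := by rw [h1]
  have h3 := hfix k k.2 h2
  have h4 : k = 1 := Subtype.ext h3
  rw [h4, orderOf_one] at hk
  omega

/-- A normal subgroup `K` of odd order inverted by `z = x² = y²` where `y x y⁻¹ = x⁻¹`
has square order. -/
theorem card_sq_of_quat {L : Type*} [Group L] (K : Subgroup L) [hKn : K.Normal] [Finite K]
    (x y z : L) (hx : x * x = z) (hy : y * y = z) (hyx : y * x * y⁻¹ = x⁻¹)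
    (hinv : ∀ k ∈ K, z * k * z⁻¹ = k⁻¹) (hodd : Odd (Nat.card K)) : IsSquare (Nat.card K) := by
  have hcomm : ∀ k l : K, k * l = l * k := by
    intro k l
    apply Subtype.ext
    have h1 := hinv _ (K.mul_mem k.2 l.2)
    have h2 := hinv _ k.2
    have h3 := hinv _ l.2
    have h4 : z * ((k : L) * l) * z⁻¹ = (z * k * z⁻¹) * (z * l * z⁻¹) := by group
    rw [h4, h2, h3, mul_inv_rev] at h1
    have h5 : ((k : L)⁻¹ * (l : L)⁻¹)⁻¹ = ((l : L)⁻¹ * (k : L)⁻¹)⁻¹ := by rw [h1]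
    rw [mul_inv_rev, mul_inv_rev, inv_inv, inv_inv] at h5
    show (k : L) * l = l * k
    exact h5.symm
  let _ : CommGroup K := { (inferInstance : Group K) with mul_comm := hcomm }
  obtain ⟨α, hα⟩ : ∃ α : K →* K, ∀ k : K, ((α k : K) : L) = x * k * x⁻¹ :=
    ⟨MonoidHom.mk' (fun k : K => (⟨x * k * x⁻¹, hKn.conj_mem k k.2 x⟩ : K))
      (fun a b => Subtype.ext (by show x * ((a : L) * b) * x⁻¹ = (x * a * x⁻¹) * (x * b * x⁻¹); group)),
      fun k => rfl⟩
  obtain ⟨β, hβ⟩ : ∃ β : K →* K, ∀ k : K, ((β k : K) : L) = y * k * y⁻¹ :=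
    ⟨MonoidHom.mk' (fun k : K => (⟨y * k * y⁻¹, hKn.conj_mem k k.2 y⟩ : K))
      (fun a b => Subtype.ext (by show y * ((a : L) * b) * y⁻¹ = (y * a * y⁻¹) * (y * b * y⁻¹); group)),
      fun k => rfl⟩
  have hxy : x * y = z * (y * x) := by
    have h1 : y * x = x⁻¹ * y := by
      rw [← hyx]; group
    rw [h1, ← hx]; group
  have hQ : QAct α β := by
    refine ⟨?_, ?_, ?_⟩
    · intro k
      apply Subtype.ext
      rw [hα, hα]
      have h1 : x * (x * (k : L) * x⁻¹) * x⁻¹ = (x * x) * k * (x * x)⁻¹ := by group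
      rw [h1, hx, hinv k k.2]
      rfl
    · intro k
      apply Subtype.ext
      rw [hβ, hβ]
      have h1 : y * (y * (k : L) * y⁻¹) * y⁻¹ = (y * y) * k * (y * y)⁻¹ := by group
      rw [h1, hy, hinv k k.2]
      rfl
    · intro k
      apply Subtype.ext
      rw [hα, hβ]
      have h1 : x * (y * (k : L) * y⁻¹) * x⁻¹ = (x * y) * k * (x * y)⁻¹ := by group
      have h2 : (z * (y * x)) * (k : L) * (z * (y * x))⁻¹ = z * (y * (x * k * x⁻¹) * y⁻¹) * z⁻¹ := by
        group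
      rw [h1, hxy, h2, ← hα, ← hβ, hinv _ (β (α k)).2]
      rfl
  have := sq_main hQ hodd (Nat.card K) ⊤ ⟨fun _ _ => Subgroup.mem_top _, fun _ _ => Subgroup.mem_top _⟩
    Subgroup.card_top
  exact this

end Cfsg.Agent.helper9.QuatSq
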