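import Mathlib
import Cfsg.Agent.Lib_helper24_CharCount
import Cfsg.Agent.Lib_helper24_CharIntegral
import Cfsg.Agent.Lib_helper23_Integral

set_option autoImplicit false

namespace Cfsg.Agent.helper9.RealOdd

open Cfsg Cfsg.Agent.helper24
open scoped ComplexConjugate

universe u

theorem isIntegral_natCast_complex' (n : ℕ) : IsIntegral ℤ (n : ℂ) := by
  have := isIntegral_algebraMap (R := ℤ) (A := ℂ) (x := (n : ℤ))
  simpa using this

theorem isIntegral_two_complex : IsIntegral ℤ (2 : ℂ) := by
  simpa using isIntegral_natCast_complex' 2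

/-- the square of a sum is the sum of squares modulo twice an algebraic integer -/
theorem sq_sum_mod_two {ι : Type*} (s : Finset ι) (a : ι → ℂ) (ha : ∀ i, IsIntegral ℤ (a i)) :
    ∃ γ : ℂ, IsIntegral ℤ γ ∧ (∑ i ∈ s, a i) ^ 2 = ∑ i ∈ s, a i ^ 2 + 2 * γ := by
  classical
  induction s using Finset.induction_on with
  | empty => exact ⟨0, isIntegral_zero, by simp⟩
  | insert i s hi ih =>
    obtain ⟨γ, hγ, h⟩ := ih
    refine ⟨γ + a i * ∑ j ∈ s, a j, hγ.add ((ha i).mul (IsIntegral.sum _ fun j _ => ha j)), ?_⟩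
    rw [Finset.sum_insert hi, Finset.sum_insert hi, add_sq, h]
    ring

/-- A finite group with a non-identity real element whose centralizer has odd order has an
irreducible character of even degree. -/
theorem exists_even_degree {G : Type u} [Group G] [Finite G] (x : G) (hx1 : x ≠ 1)
    (hreal : IsConj x x⁻¹) (hodd : Odd (Nat.card ↥(Subgroup.centralizer ({x} : Set G)))) :
    ∃ χ : IrrCharacter G, Even (charDegree (χ : G → ℂ)) := by
  classical
  by_contra hcon
  push Not at hcon
  have := Fintype.ofFinite (IrrCharacter G)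
  have hreal' : ∀ χ : IrrCharacter G, conj ((χ : G → ℂ) x) = (χ : G → ℂ) x := by
    intro χ
    rw [char_conj_eq (irr_isCharacter χ.2)]
    exact (isClassFunction_iff_isConj.mp (char_isClassFunction (irr_isCharacter χ.2)) _ _
      hreal).symm
  have hO1 := irr_column_orthogonality (G := G) x x
  rw [if_pos (IsConj.refl x)] at hO1
  have hO2 := irr_column_orthogonality (G := G) x 1
  have hnc : ¬ IsConj x 1 := by
    intro h
    exact hx1 (isConj_one_left.mp h)
  rw [if_neg hnc] at hO2
  have hO1' : ∑ χ : IrrCharacter G, ((χ : G → ℂ) x) ^ 2 =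
      (Nat.card (Subgroup.centralizer ({x} : Set G)) : ℂ) := by
    rw [← hO1]
    refine Finset.sum_congr rfl fun χ _ => ?_
    rw [hreal' χ, pow_two]
  -- degrees are odd
  have hdeg : ∀ χ : IrrCharacter G, ∃ e : ℕ, (χ : G → ℂ) 1 = 2 * (e : ℂ) + 1 := by
    intro χ
    have h1 := hcon χ
    rw [Nat.not_even_iff_odd] at h1
    obtain ⟨e, he⟩ := h1
    refine ⟨e, ?_⟩
    rw [← char_charDegree_cast (irr_isCharacter χ.2), he]
    push_cast; ring
  choose e he using hdeg
  have hint : ∀ χ : IrrCharacter G, IsIntegral ℤ ((χ : G → ℂ) x) := fun χ =>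
    Cfsg.Agent.helper23.irr_isIntegral χ x
  set β : ℂ := ∑ χ : IrrCharacter G, (e χ : ℂ) * (χ : G → ℂ) x with hβ
  have hβint : IsIntegral ℤ β :=
    IsIntegral.sum _ fun χ _ => (isIntegral_natCast_complex' (e χ)).mul (hint χ)
  have hsum : ∑ χ : IrrCharacter G, (χ : G → ℂ) x = -2 * β := by
    have h1 : ∑ χ : IrrCharacter G, (χ : G → ℂ) x * conj ((χ : G → ℂ) 1) =
        2 * β + ∑ χ : IrrCharacter G, (χ : G → ℂ) x := by
      rw [hβ, Finset.mul_sum, ← Finset.sum_add_distrib]
      refine Finset.sum_congr rfl fun χ _ => ?_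
      rw [he χ]
      simp only [map_add, map_mul, map_one, Complex.conj_natCast, Complex.conj_ofNat]
      ring
    rw [hO2] at h1
    linear_combination -h1
  obtain ⟨γ, hγ, hsq⟩ := sq_sum_mod_two Finset.univ (fun χ : IrrCharacter G => (χ : G → ℂ) x) hint
  rw [hsum, hO1'] at hsq
  have hhalf : IsIntegral ℤ ((Nat.card (Subgroup.centralizer ({x} : Set G)) : ℂ) / ((2 : ℕ) : ℂ)) := by
    have : (Nat.card (Subgroup.centralizer ({x} : Set G)) : ℂ) / ((2 : ℕ) : ℂ) =
        2 * β ^ 2 - γ := by
      push_cast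
      field_simp
      linear_combination -hsq
    rw [this]
    exact (isIntegral_two_complex.mul (hβint.pow 2)).sub hγ
  have hdvd := dvd_of_isIntegral_div (by norm_num : (2 : ℕ) ≠ 0) hhalf
  rw [Nat.odd_iff] at hodd
  omega

end Cfsg.Agent.helper9.RealOdd
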