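import Mathlib

set_option autoImplicit false

namespace Cfsg.Agent.helper9.S2645d

open Finset

/-- hockey stick in the form needed -/
theorem sum_choose_aux (s' N : ℕ) :
    ∑ k ∈ Finset.range (N + 1), (s' + k).choose k = (s' + N + 1).choose N := by
  induction N with
  | zero => simp
  | succ N ih =>
    rw [Finset.sum_range_succ, ih]
    have h1 : s' + (N + 1) + 1 = (s' + N + 1) + 1 := by omega
    have h2 : s' + (N + 1) = s' + N + 1 := by omega
    have h3 := Nat.choose_succ_succ (s' + N + 1) N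
    rw [h1, h2, h3]

/-- the finset of multisets of card `k` with entries in `S` -/
noncomputable def layer {α : Type*} [DecidableEq α] (S : Finset α) (k : ℕ) : Finset (Multiset α) :=
  (Finset.univ : Finset (Sym ↥S k)).image (fun m : Sym ↥S k => (m.1 : Multiset ↥S).map Subtype.val)

theorem mem_layer {α : Type*} [DecidableEq α] (S : Finset α) (k : ℕ) (M : Multiset α) :
    M ∈ layer S k ↔ (∀ g ∈ M, g ∈ S) ∧ Multiset.card M = k := by
  unfold layer
  constructor
  · intro h
    obtain ⟨m, -, rfl⟩ := Finset.mem_image.1 h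
    refine ⟨?_, ?_⟩
    · intro g hg
      obtain ⟨x, -, rfl⟩ := Multiset.mem_map.1 hg
      exact x.2
    · rw [Multiset.card_map]
      exact m.2
  · rintro ⟨h1, h2⟩
    refine Finset.mem_image.2 ⟨⟨M.pmap (fun a h => (⟨a, h⟩ : ↥S)) h1, ?_⟩, Finset.mem_univ _, ?_⟩
    · rw [Multiset.card_pmap]; exact h2
    · show Multiset.map Subtype.val (M.pmap (fun a h => (⟨a, h⟩ : ↥S)) h1) = M
      rw [Multiset.map_pmap]
      rw [Multiset.pmap_eq_map]
      exact Multiset.map_id' M

theorem card_layer {α : Type*} [DecidableEq α] (S : Finset α) (k : ℕ) :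
    (layer S k).card = (S.card + k - 1).choose k := by
  unfold layer
  rw [Finset.card_image_of_injective]
  · rw [Finset.card_univ, Sym.card_sym_eq_choose]
    simp
  · intro m m' h
    have h' : (m.1 : Multiset ↥S) = (m'.1 : Multiset ↥S) :=
      Multiset.map_injective Subtype.val_injective h
    exact Subtype.ext h'

theorem pieceD1 {α : Type*} [DecidableEq α] (S : Finset α) (N : ℕ) :
    Nat.card {M : Multiset α // (∀ g ∈ M, g ∈ S) ∧ Multiset.card M ≤ N} =
      Nat.choose (N + S.card) S.card := by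
  classical
  have hT : ∀ M : Multiset α, M ∈ (Finset.range (N + 1)).biUnion (layer S) ↔
      ((∀ g ∈ M, g ∈ S) ∧ Multiset.card M ≤ N) := by
    intro M
    rw [Finset.mem_biUnion]
    constructor
    · rintro ⟨k, hk, hM⟩
      rw [mem_layer] at hM
      rw [Finset.mem_range] at hk
      exact ⟨hM.1, by omega⟩
    · rintro ⟨h1, h2⟩
      exact ⟨Multiset.card M, Finset.mem_range.2 (by omega), (mem_layer S _ M).2 ⟨h1, rfl⟩⟩
  rw [Nat.subtype_card _ hT, Finset.card_biUnion]
  · simp only [card_layer]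
    rcases Nat.eq_zero_or_pos S.card with h0 | hpos
    · rw [h0]
      simp only [Nat.zero_add, Nat.add_zero, Nat.choose_zero_right]
      rw [Finset.sum_eq_single 0]
      · simp
      · intro k _ hk
        have : 0 + k - 1 < k := by omega
        simpa using Nat.choose_eq_zero_of_lt this
      · intro h; exact absurd (Finset.mem_range.2 (Nat.succ_pos N)) h
    · obtain ⟨s', hs'⟩ : ∃ s', S.card = s' + 1 := ⟨S.card - 1, by omega⟩
      rw [hs']
      have : ∀ k, (s' + 1 + k - 1).choose k = (s' + k).choose k := by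
        intro k
        have : s' + 1 + k - 1 = s' + k := by omega
        rw [this]
      simp only [this]
      rw [sum_choose_aux]
      have h3 : s' + N + 1 = N + (s' + 1) := by omega
      rw [h3]
      exact Nat.choose_symm_add
  · intro k _ k' _ hkk'
    rw [Function.onFun, Finset.disjoint_left]
    intro M hM hM'
    rw [mem_layer] at hM hM'
    exact hkk' (hM.2.symm.trans hM'.2)

/-- `ρ ∘ ρ` is the identity on a multiset with entries in `S` -/
theorem map_rho_rho {α : Type*} (S : Finset α) (ρ : α → α) (hρρ : ∀ g ∈ S, ρ (ρ g) = g)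
    (M : Multiset α) (hM : ∀ g ∈ M, g ∈ S) : (M.map ρ).map ρ = M := by
  rw [Multiset.map_map]
  have : Multiset.map (ρ ∘ ρ) M = Multiset.map (fun x => x) M :=
    Multiset.map_congr rfl (fun x hx => hρρ x (hM x hx))
  rw [this, Multiset.map_id']

/-- the reduction of D2 to D1, for a given set `R` of orbit representatives -/
theorem core {α : Type*} [DecidableEq α] (S R : Finset α) (ρ : α → α) (hRS : R ⊆ S)
    (hρS : ∀ g ∈ S, ρ g ∈ S) (hρρ : ∀ g ∈ S, ρ (ρ g) = g)
    (hR1 : ∀ g ∈ S, g ∈ R → ρ g ∉ R) (hR2 : ∀ g ∈ S, g ∉ R → ρ g ∈ R) (N : ℕ) :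
    Nat.card {M : Multiset α // (∀ g ∈ M, g ∈ S) ∧ M.map ρ = M ∧ Multiset.card M ≤ N} =
      Nat.card {M : Multiset α // (∀ g ∈ M, g ∈ R) ∧ Multiset.card M ≤ N / 2} := by
  classical
  -- key identity: for a ρ-invariant multiset on S, the part outside R is the ρ-image of the part in R
  have key : ∀ M : Multiset α, (∀ g ∈ M, g ∈ S) → M.map ρ = M →
      M.filter (fun x => ¬ x ∈ R) = (M.filter (fun x => x ∈ R)).map ρ := by
    intro M hM hinv
    have h1 : Multiset.filter (fun x => ¬ x ∈ R) M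
        = Multiset.filter (fun x => ¬ x ∈ R) (M.map ρ) := by rw [hinv]
    rw [h1, Multiset.filter_map]
    congr 1
    apply Multiset.filter_congr
    intro x hx
    have hxS := hM x hx
    simp only [Function.comp]
    constructor
    · intro h
      by_contra hxR
      exact h (hR2 x hxS hxR)
    · intro h
      exact hR1 x hxS h
  have hsplit : ∀ M : Multiset α, (∀ g ∈ M, g ∈ S) → M.map ρ = M →
      M = M.filter (fun x => x ∈ R) + (M.filter (fun x => x ∈ R)).map ρ := by
    intro M hM hinv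
    rw [← key M hM hinv]
    exact (Multiset.filter_add_not (fun x => x ∈ R) M).symm
  refine Nat.card_congr
    { toFun := fun M => ⟨M.1.filter (fun x => x ∈ R), ?_, ?_⟩
      invFun := fun M' => ⟨M'.1 + M'.1.map ρ, ?_, ?_, ?_⟩
      left_inv := ?_
      right_inv := ?_ }
  · intro g hg
    exact (Multiset.mem_filter.1 hg).2
  · obtain ⟨M, hM, hinv, hc⟩ := M
    have h := hsplit M hM hinv
    have hc' : Multiset.card M = Multiset.card (M.filter (fun x => x ∈ R))
        + Multiset.card (M.filter (fun x => x ∈ R)) := by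
      conv_lhs => rw [h]
      rw [Multiset.card_add, Multiset.card_map]
    show Multiset.card (M.filter (fun x => x ∈ R)) ≤ N / 2
    omega
  · intro g hg
    rcases Multiset.mem_add.1 hg with h | h
    · exact hRS (M'.2.1 g h)
    · obtain ⟨x, hx, rfl⟩ := Multiset.mem_map.1 h
      exact hρS x (hRS (M'.2.1 x hx))
  · rw [Multiset.map_add, map_rho_rho S ρ hρρ M'.1 (fun g hg => hRS (M'.2.1 g hg)), add_comm]
  · rw [Multiset.card_add, Multiset.card_map]
    have := M'.2.2
    omega
  · rintro ⟨M, hM, hinv, hc⟩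
    apply Subtype.ext
    show M.filter (fun x => x ∈ R) + (M.filter (fun x => x ∈ R)).map ρ = M
    exact (hsplit M hM hinv).symm
  · rintro ⟨M', hM', hc⟩
    apply Subtype.ext
    show (M' + M'.map ρ).filter (fun x => x ∈ R) = M'
    rw [Multiset.filter_add]
    have h1 : M'.filter (fun x => x ∈ R) = M' := Multiset.filter_eq_self.2 hM'
    have h2 : (M'.map ρ).filter (fun x => x ∈ R) = 0 := by
      apply Multiset.filter_eq_nil.2
      intro a ha
      obtain ⟨x, hx, rfl⟩ := Multiset.mem_map.1 ha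
      exact hR1 x (hRS (hM' x hx)) (hM' x hx)
    rw [h1, h2, add_zero]

theorem card_reps {α : Type*} [DecidableEq α] (S R : Finset α) (ρ : α → α) (hRS : R ⊆ S)
    (hρS : ∀ g ∈ S, ρ g ∈ S) (hρρ : ∀ g ∈ S, ρ (ρ g) = g)
    (hR1 : ∀ g ∈ S, g ∈ R → ρ g ∉ R) (hR2 : ∀ g ∈ S, g ∉ R → ρ g ∈ R) :
    S.card = 2 * R.card := by
  have h1 : (S \ R).card = R.card := by
    symm
    apply Finset.card_bij (fun g _ => ρ g)
    · intro g hg
      exact Finset.mem_sdiff.2 ⟨hρS g (hRS hg), hR1 g (hRS hg) hg⟩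
    · intro g hg g' hg' h
      have := congrArg ρ h
      rwa [hρρ g (hRS hg), hρρ g' (hRS hg')] at this
    · intro b hb
      obtain ⟨hbS, hbR⟩ := Finset.mem_sdiff.1 hb
      exact ⟨ρ b, hR2 b hbS hbR, hρρ b hbS⟩
  have h2 := Finset.card_sdiff_add_card_eq_card hRS
  omega

theorem pieceD2 {α : Type*} [DecidableEq α] (S : Finset α) (ρ : α → α)
    (hρS : ∀ g ∈ S, ρ g ∈ S) (hρρ : ∀ g ∈ S, ρ (ρ g) = g) (hfix : ∀ g ∈ S, ρ g ≠ g) (N : ℕ) :
    Nat.card {M : Multiset α // (∀ g ∈ M, g ∈ S) ∧ M.map ρ = M ∧ Multiset.card M ≤ N} =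
      Nat.choose (N / 2 + S.card / 2) (S.card / 2) := by
  classical
  letI lo : LinearOrder α := IsWellOrder.linearOrder WellOrderingRel
  let R : Finset α := S.filter (fun g => g < ρ g)
  have hRS : R ⊆ S := Finset.filter_subset _ _
  have hR1 : ∀ g ∈ S, g ∈ R → ρ g ∉ R := by
    intro g hgS hgR hρR
    have h1 : g < ρ g := (Finset.mem_filter.1 hgR).2
    have h2 : ρ g < ρ (ρ g) := (Finset.mem_filter.1 hρR).2
    rw [hρρ g hgS] at h2
    exact lt_asymm h1 h2
  have hR2 : ∀ g ∈ S, g ∉ R → ρ g ∈ R := by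
    intro g hgS hgR
    have h1 : ¬ g < ρ g := fun h => hgR (Finset.mem_filter.2 ⟨hgS, h⟩)
    have h2 : ρ g < g := lt_of_le_of_ne (not_lt.1 h1) (hfix g hgS)
    refine Finset.mem_filter.2 ⟨hρS g hgS, ?_⟩
    rw [hρρ g hgS]
    exact h2
  rw [core S R ρ hRS hρS hρρ hR1 hR2 N, pieceD1 R (N / 2),
    card_reps S R ρ hRS hρS hρρ hR1 hR2]
  have : 2 * R.card / 2 = R.card := by omega
  rw [this]

end Cfsg.Agent.helper9.S2645d
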