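import Mathlib

set_option autoImplicit false

namespace Cfsg.Agent.helper9.S2670t

/-- PIECE T6: the final arithmetic -/
theorem pieceT6 (orb X q1 R N1 C r e : ℕ) (hr : 2 ≤ r) (hR : R * r = q1) (hq1 : 0 < q1)
    (he : e ≤ 1) (hB : orb * q1 = X + (r - 1) * q1 * e) (hX : X = R * N1 + (q1 - R) * e)
    (hN : N1 + r = C) (hfix : q1 * e ≤ X) : orb = (C - r - e) / r + r * e := by
  subst hN
  obtain ⟨t, rfl⟩ : ∃ t, r = t + 1 := ⟨r - 1, by omega⟩
  have ht : 1 ≤ t := by omega
  have hRpos : 0 < R := by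
    rcases Nat.eq_zero_or_pos R with h | h
    · rw [h, Nat.zero_mul] at hR; omega
    · exact h
  have hq : q1 - R = R * t := by
    rw [← hR]
    have : R * (t + 1) = R * t + R := by ring
    omega
  have h1 : t + 1 - 1 = t := by omega
  rw [h1] at hB
  rw [hq] at hX
  subst hX
  rw [← hR] at hB hfix
  have hC : N1 + (t + 1) - (t + 1) - e = N1 - e := by omega
  rw [hC]
  rcases Nat.eq_zero_or_pos e with he0 | hepos
  · subst he0
    simp only [Nat.mul_zero, Nat.add_zero, Nat.sub_zero] at hB ⊢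
    have h2 : R * (orb * (t + 1)) = R * N1 := by
      calc R * (orb * (t + 1)) = orb * (R * (t + 1)) := by ring
        _ = R * N1 := hB
    have h3 : orb * (t + 1) = N1 := Nat.eq_of_mul_eq_mul_left hRpos h2
    rw [← h3, Nat.mul_div_cancel _ (Nat.succ_pos t)]
  · have he1 : e = 1 := by omega
    subst he1
    simp only [Nat.mul_one] at hB hfix ⊢
    have h2 : R * (orb * (t + 1)) = R * (N1 + t + t * (t + 1)) := by
      calc R * (orb * (t + 1)) = orb * (R * (t + 1)) := by ring
        _ = R * N1 + R * t + t * (R * (t + 1)) := hB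
        _ = R * (N1 + t + t * (t + 1)) := by ring
    have h3 : orb * (t + 1) = N1 + t + t * (t + 1) := Nat.eq_of_mul_eq_mul_left hRpos h2
    have h4 : R * (t + 1) ≤ R * (N1 + t) := by
      calc R * (t + 1) ≤ R * N1 + R * t := hfix
        _ = R * (N1 + t) := by ring
    have h5 : t + 1 ≤ N1 + t := Nat.le_of_mul_le_mul_left h4 hRpos
    have hN1 : 1 ≤ N1 := by omega
    have horb : t + 1 ≤ orb := by
      by_contra hlt
      have : orb ≤ t := by omega
      have : orb * (t + 1) ≤ t * (t + 1) := Nat.mul_le_mul_right _ this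
      omega
    obtain ⟨d, hd⟩ : ∃ d, orb = d + (t + 1) := ⟨orb - (t + 1), by omega⟩
    subst hd
    have h6 : N1 - 1 = d * (t + 1) := by
      have : (d + (t + 1)) * (t + 1) = d * (t + 1) + (t + 1) * (t + 1) := by ring
      have h7 : (t + 1) * (t + 1) = t * (t + 1) + t + 1 := by ring
      omega
    rw [h6, Nat.mul_div_cancel _ (Nat.succ_pos t)]

end Cfsg.Agent.helper9.S2670t
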