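import Mathlib

set_option autoImplicit false
open Polynomial

namespace Cfsg.Agent.helper9.S2670y

/-- the basic computation: scaling `X ^ r - C c` -/
theorem scale_binom {F : Type*} [Field F] (r : ℕ) (μ : F) (hμ : μ ≠ 0) (c : F) :
    C (μ ^ r) * (X ^ r - C c : F[X]).comp (C μ⁻¹ * X) = X ^ r - C (μ ^ r * c) := by
  rw [sub_comp, X_pow_comp, C_comp, mul_pow, ← C_pow, mul_sub, ← mul_assoc, ← C_mul, ← C_mul,
    ← mul_pow, mul_inv_cancel₀ hμ, one_pow, C_1, one_mul]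

/-- PIECE S2: basic facts on the scaling `f ↦ C (μ ^ n) * f.comp (C μ⁻¹ * X)` -/
theorem pieceS2 {F : Type*} [Field F] (n r : ℕ) (μ : F) (hμ : μ ≠ 0) (f : F[X]) (hf : f.Monic)
    (hd : f.natDegree = n) :
    (C (μ ^ n) * f.comp (C μ⁻¹ * X)).Monic ∧ (C (μ ^ n) * f.comp (C μ⁻¹ * X)).natDegree = n ∧
    (∀ c : F, f ∣ (X ^ r - C c) ^ n →
      (C (μ ^ n) * f.comp (C μ⁻¹ * X)) ∣ (X ^ r - C (μ ^ r * c)) ^ n) ∧
    (∀ a : F, f = (X - C a) ^ n → C (μ ^ n) * f.comp (C μ⁻¹ * X) = (X - C (μ * a)) ^ n) ∧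
    (∀ (c : F) (k : ℕ), f = (X ^ r - C c) ^ k → r * k = n →
      C (μ ^ n) * f.comp (C μ⁻¹ * X) = (X ^ r - C (μ ^ r * c)) ^ k) := by
  have hμi : μ⁻¹ ≠ 0 := inv_ne_zero hμ
  have hμn : μ ^ n ≠ 0 := pow_ne_zero n hμ
  have hdeg1 : (C μ⁻¹ * X : F[X]).natDegree = 1 := natDegree_C_mul_X _ hμi
  have hdegc : (f.comp (C μ⁻¹ * X)).natDegree = n := by
    rw [natDegree_comp, hdeg1, mul_one, hd]
  have hpow : ∀ (p : F[X]) (k : ℕ),
      C ((μ ^ r) ^ k) * (p ^ k).comp (C μ⁻¹ * X) = (C (μ ^ r) * p.comp (C μ⁻¹ * X)) ^ k := by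
    intro p k
    rw [pow_comp, mul_pow, C_pow]
  refine ⟨?_, ?_, ?_, ?_, ?_⟩
  · unfold Monic
    rw [leadingCoeff_mul, leadingCoeff_C, leadingCoeff_comp (by rw [hdeg1]; exact one_ne_zero),
      hf.leadingCoeff, one_mul, leadingCoeff_C_mul_X, hd, ← mul_pow, mul_inv_cancel₀ hμ, one_pow]
  · rw [natDegree_C_mul hμn, hdegc]
  · intro c hc
    obtain ⟨q, hq⟩ := hc
    refine ⟨C ((μ ^ r) ^ n * (μ ^ n)⁻¹) * q.comp (C μ⁻¹ * X), ?_⟩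
    have h1 : (X ^ r - C (μ ^ r * c) : F[X]) ^ n
        = C ((μ ^ r) ^ n) * ((X ^ r - C c : F[X]) ^ n).comp (C μ⁻¹ * X) := by
      rw [hpow, scale_binom r μ hμ c]
    rw [h1, hq, mul_comp]
    have h2 : (C ((μ ^ r) ^ n) : F[X]) = C (μ ^ n) * C ((μ ^ r) ^ n * (μ ^ n)⁻¹) := by
      rw [← C_mul, mul_comm ((μ ^ r) ^ n), ← mul_assoc, mul_inv_cancel₀ hμn, one_mul]
    rw [h2]
    ring
  · intro a ha
    have h1 := scale_binom 1 μ hμ a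
    simp only [pow_one] at h1
    rw [ha]
    have h3 : C (μ ^ n) * ((X - C a : F[X]) ^ n).comp (C μ⁻¹ * X)
        = (C μ * (X - C a : F[X]).comp (C μ⁻¹ * X)) ^ n := by
      rw [pow_comp, mul_pow, C_pow]
    rw [h3, h1]
  · intro c k hfk hrk
    rw [hfk, ← hrk, pow_mul, hpow, scale_binom r μ hμ c]

end Cfsg.Agent.helper9.S2670y
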