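import Mathlib

set_option autoImplicit false

namespace Cfsg.Agent.helper9.S2672p

theorem pieceP7 (n r : ℕ) (hn : 2 ≤ n) (hr : 2 ≤ r) : r + 1 ≤ Nat.choose (n + r - 1) (r - 1) := by
  have h1 : Nat.choose (r + 1) (r - 1) ≤ Nat.choose (n + r - 1) (r - 1) :=
    Nat.choose_le_choose (r - 1) (by omega)
  have h2 : Nat.choose (r + 1) (r - 1) = Nat.choose (r + 1) 2 := by
    have : r + 1 = (r - 1) + 2 := by omega
    exact Nat.choose_symm_of_eq_add this
  have h3 : Nat.choose (r + 1) 2 = (r + 1) * (r + 1 - 1) / 2 := Nat.choose_two_right (r + 1)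
  have h4 : r + 1 ≤ (r + 1) * (r + 1 - 1) / 2 := by
    rw [Nat.le_div_iff_mul_le (by norm_num)]
    have : r + 1 - 1 = r := by omega
    rw [this]
    nlinarith
  omega

end Cfsg.Agent.helper9.S2672p
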