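import Mathlib
import Cfsg.Agent.Lib_helper7_Subnormalizer

set_option autoImplicit false

/-! Subnormalizer counting (Casolo), relative form: basic definitions and the `p`-step. -/

namespace Cfsg.Agent.helper9.SNC

open Cfsg.Agent.helper7

variable {G : Type*} [Group G]

/-- `H` is subnormal in `⟨H, g⟩` iff some `p`-subgroup containing `H` is normalized by `g`. -/
theorem sub_iff [Finite G] (p : ℕ) [hp : Fact p.Prime]
    (H : Subgroup G) (hH : IsPGroup p H) (g : G) :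
    ((H).subgroupOf (H ⊔ Subgroup.zpowers g)).IsSubnormal ↔
      ∃ R : Subgroup G, IsPGroup p ↥R ∧ H ≤ R ∧ g ∈ Subgroup.normalizer (R : Set G) := by
  constructor
  · intro h
    have hsn : SN H (H ⊔ Subgroup.zpowers g) := sn_iff.2 ⟨le_sup_left, h⟩
    have hle := (sn_iff_le_piCoreIn hp.out hH).1 hsn
    have hg : g ∈ Subgroup.normalizer ((piCoreIn {p} (H ⊔ Subgroup.zpowers g) : Subgroup G) : Set G) :=
      piCoreIn_normal _ _ (Subgroup.mem_sup_right (Subgroup.mem_zpowers g))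
    exact ⟨_, piCoreIn_isPGroup hp.out _, hle, hg⟩
  · rintro ⟨R, hRp, hHR, hg⟩
    have hLN : H ⊔ Subgroup.zpowers g ≤ Subgroup.normalizer (R : Set G) :=
      sup_le (hHR.trans Subgroup.le_normalizer) ((Subgroup.zpowers_le).2 hg)
    have hN : R ⊓ (H ⊔ Subgroup.zpowers g) ≤ piCoreIn {p} (H ⊔ Subgroup.zpowers g) := by
      apply le_piCoreIn_of_normal hp.out (hRp.to_le inf_le_left) inf_le_right
      intro a ha
      apply Subgroup.inf_normalizer_le_normalizer_inf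
      exact ⟨hLN ha, Subgroup.le_normalizer ha⟩
    have hle : H ≤ piCoreIn {p} (H ⊔ Subgroup.zpowers g) :=
      (le_inf hHR le_sup_left).trans hN
    exact (sn_iff.1 ((sn_iff_le_piCoreIn hp.out hH).2 hle)).2

/-- `R/N` is a `p`-group (elementwise form). -/
def PQ (p : ℕ) (N R : Subgroup G) : Prop :=
  N ≤ R ∧ ∀ x ∈ R, ∃ k : ℕ, x ^ (p ^ k) ∈ N

/-- The relative subnormalizer set: `g` normalizes some `R ≥ H, N` with `R/N` a `p`-group. -/
def TT (p : ℕ) (H N : Subgroup G) : Set G :=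
  {g | ∃ R : Subgroup G, PQ p N R ∧ H ≤ R ∧ g ∈ Subgroup.normalizer (R : Set G)}

theorem PQ_bot_iff (p : ℕ) (R : Subgroup G) : PQ p ⊥ R ↔ IsPGroup p ↥R := by
  constructor
  · rintro ⟨-, h⟩ ⟨x, hx⟩
    obtain ⟨k, hk⟩ := h x hx
    refine ⟨k, ?_⟩
    apply Subtype.ext
    simpa using hk
  · intro h
    refine ⟨bot_le, fun x hx => ?_⟩
    obtain ⟨k, hk⟩ := h ⟨x, hx⟩
    refine ⟨k, ?_⟩
    have := congrArg Subtype.val hk
    simpa using this

theorem TT_bot [Finite G] (p : ℕ) [Fact p.Prime] (H : Subgroup G) (hH : IsPGroup p H) :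
    TT p H ⊥ = {g | ((H).subgroupOf (H ⊔ Subgroup.zpowers g)).IsSubnormal} := by
  ext g
  show (∃ R : Subgroup G, PQ p ⊥ R ∧ H ≤ R ∧ g ∈ Subgroup.normalizer (R : Set G)) ↔
    ((H).subgroupOf (H ⊔ Subgroup.zpowers g)).IsSubnormal
  rw [sub_iff p H hH g]
  constructor
  · rintro ⟨R, h1, h2, h3⟩
    exact ⟨R, (PQ_bot_iff p R).1 h1, h2, h3⟩
  · rintro ⟨R, h1, h2, h3⟩
    exact ⟨R, (PQ_bot_iff p R).2 h1, h2, h3⟩

theorem TT_top (p : ℕ) (H : Subgroup G) : TT p H ⊤ = Set.univ := by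
  ext g
  simp only [Set.mem_univ, iff_true]
  refine ⟨⊤, ⟨le_rfl, fun x _ => ⟨0, Subgroup.mem_top _⟩⟩, le_top, ?_⟩
  rw [Subgroup.mem_normalizer_iff]
  intro h
  simp

/-- `g` normalizing `A` and `B` normalizes `A ⊔ B`. -/
theorem mem_normalizer_sup {A B : Subgroup G} {g : G}
    (hA : g ∈ Subgroup.normalizer (A : Set G)) (hB : g ∈ Subgroup.normalizer (B : Set G)) :
    g ∈ Subgroup.normalizer ((A ⊔ B : Subgroup G) : Set G) := by
  apply mem_normalizer_of_cj_eq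
  rw [Cfsg.Agent.helper20.cj_sup, cj_eq_of_mem_normalizer hA, cj_eq_of_mem_normalizer hB]

theorem mem_normalizer_of_normal {A : Subgroup G} [A.Normal] (g : G) :
    g ∈ Subgroup.normalizer (A : Set G) := by
  rw [Subgroup.normalizer_eq_top]; exact Subgroup.mem_top g

/-- power of a product modulo a normal subgroup -/
theorem pow_mem_of_mul {N' : Subgroup G} [N'.Normal] {r n x : G} (hn : n ∈ N') (hx : x = r * n)
    (m : ℕ) (hr : r ^ m ∈ N') : x ^ m ∈ N' := by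
  rw [← QuotientGroup.eq_one_iff] at hr ⊢
  have : (x : G ⧸ N') = (r : G ⧸ N') := by
    rw [hx, QuotientGroup.mk_mul, (QuotientGroup.eq_one_iff n).2 hn, mul_one]
  rw [QuotientGroup.mk_pow, this, ← QuotientGroup.mk_pow]
  exact hr

/-- passing to a larger normal subgroup -/
theorem TT_mono (p : ℕ) (H : Subgroup G) {N N' : Subgroup G} [N'.Normal] (hNN' : N ≤ N') :
    TT p H N ⊆ TT p H N' := by
  rintro g ⟨R, ⟨hNR, hR⟩, hHR, hg⟩
  refine ⟨R ⊔ N', ⟨le_sup_right, ?_⟩, hHR.trans le_sup_left,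
    mem_normalizer_sup hg (mem_normalizer_of_normal g)⟩
  intro x hx
  have hx' : x ∈ ((R ⊔ N' : Subgroup G) : Set G) := hx
  rw [Subgroup.mul_normal] at hx'
  obtain ⟨r, hr, n, hn, rfl⟩ := hx'
  obtain ⟨k, hk⟩ := hR r hr
  exact ⟨k, pow_mem_of_mul hn rfl _ (hNN' hk)⟩

/-- The `p`-step: if `N'/N` is a `p`-group the relative sets coincide. -/
theorem TT_eq_of_PQ (p : ℕ) (H : Subgroup G) {N N' : Subgroup G} [N'.Normal] (h : PQ p N N') :
    TT p H N = TT p H N' := by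
  apply Set.Subset.antisymm (TT_mono p H h.1)
  rintro g ⟨R, ⟨hNR, hR⟩, hHR, hg⟩
  refine ⟨R, ⟨h.1.trans hNR, ?_⟩, hHR, hg⟩
  intro x hx
  obtain ⟨k, hk⟩ := hR x hx
  obtain ⟨j, hj⟩ := h.2 _ hk
  refine ⟨k + j, ?_⟩
  rw [pow_add, pow_mul]
  exact hj

/-- `TT p H N'` is closed under right multiplication by `N'`. -/
theorem TT_mul_mem (p : ℕ) (H : Subgroup G) {N' : Subgroup G} {g n : G}
    (hg : g ∈ TT p H N') (hn : n ∈ N') : g * n ∈ TT p H N' := by
  obtain ⟨R, hPQ, hHR, hgR⟩ := hg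
  refine ⟨R, hPQ, hHR, ?_⟩
  exact Subgroup.mul_mem _ hgR (Subgroup.le_normalizer (hPQ.1 hn))

end Cfsg.Agent.helper9.SNC
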