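import Mathlib
import Cfsg.Agent.Lib_helper9_SNCa

set_option autoImplicit false

/-! Subnormalizer counting: general tools (double counting, Sylow supplements). -/

namespace Cfsg.Agent.helper9.SNC

open Cfsg.Agent.helper7

/-- One-sided fibre count. -/
theorem card_rel {γ δ : Type*} [Finite γ] [Finite δ] (s : γ → δ → Prop) (C : Set γ) (c : ℕ)
    (h1 : ∀ a ∈ C, Nat.card {b // s a b} = c) (h2 : ∀ a, a ∉ C → ∀ b, ¬ s a b) :
    Nat.card {x : γ × δ // s x.1 x.2} = Nat.card C * c := by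
  classical
  haveI := Fintype.ofFinite γ
  rw [Nat.card_congr (Equiv.subtypeProdEquivSigmaSubtype s), Nat.card_sigma]
  have : ∀ a : γ, Nat.card {b // s a b} = if a ∈ C then c else 0 := by
    intro a
    by_cases ha : a ∈ C
    · rw [if_pos ha]; exact h1 a ha
    · rw [if_neg ha]
      haveI : IsEmpty {b // s a b} := ⟨fun ⟨b, hb⟩ => h2 a ha b hb⟩
      exact Nat.card_of_isEmpty
  simp_rw [this]
  rw [Finset.sum_ite, Finset.sum_const, Finset.sum_const_zero, add_zero, smul_eq_mul]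
  congr 1
  rw [Nat.card_eq_fintype_card, Fintype.card_subtype]

/-- Double counting of a relation with constant fibre sizes on both sides. -/
theorem double_count {α β : Type*} [Finite α] [Finite β] (r : α → β → Prop)
    (A : Set α) (B : Set β) (c₁ c₂ : ℕ)
    (hA : ∀ a ∈ A, Nat.card {b // r a b} = c₁) (hA' : ∀ a, a ∉ A → ∀ b, ¬ r a b)
    (hB : ∀ b ∈ B, Nat.card {a // r a b} = c₂) (hB' : ∀ b, b ∉ B → ∀ a, ¬ r a b) :
    Nat.card A * c₁ = Nat.card B * c₂ := by
  have e : {x : α × β // r x.1 x.2} ≃ {y : β × α // r y.2 y.1} :=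
    (Equiv.prodComm α β).subtypeEquiv (by intro x; rfl)
  rw [← card_rel r A c₁ hA hA', Nat.card_congr e]
  exact card_rel (fun b a => r a b) B c₂ hB hB'

variable {G : Type*} [Group G]

/-- An element with two coprime powers in a subgroup lies in it. -/
theorem mem_of_pow_mem_of_coprime {N : Subgroup G} {x : G} {a b : ℕ} (hab : Nat.Coprime a b)
    (ha : x ^ a ∈ N) (hb : x ^ b ∈ N) : x ∈ N := by
  have h : x = (x ^ a) ^ (Nat.gcdA a b) * (x ^ b) ^ (Nat.gcdB a b) := by
    rw [← zpow_natCast, ← zpow_natCast, ← zpow_mul, ← zpow_mul, ← zpow_add, ← Nat.gcd_eq_gcd_ab,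
      hab, Nat.cast_one, zpow_one]
  rw [h]
  exact N.mul_mem (N.zpow_mem ha _) (N.zpow_mem hb _)

/-- If `K/N` is a `p`-group and `N'/N` a `p'`-group then `K ∩ N' = N`. -/
theorem inf_le_of_PQ {p : ℕ} {N N' K : Subgroup G} [N.Normal]
    (hcop : (N.relIndex N').Coprime p) (hK : PQ p N K) : K ⊓ N' ≤ N := by
  rintro x ⟨hxK, hxN'⟩
  obtain ⟨k, hk⟩ := hK.2 x hxK
  have h2 : x ^ (N.relIndex N') ∈ N := by
    have := Subgroup.pow_index_mem (N.subgroupOf N') (⟨x, hxN'⟩ : ↥N')
    rw [Subgroup.mem_subgroupOf] at this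
    have h3 : x ^ (N.subgroupOf N').index ∈ N := by simpa using this
    exact h3
  exact mem_of_pow_mem_of_coprime (Nat.Coprime.pow_left k hcop.symm) hk h2

/-- A Sylow `p`-subgroup of `L` supplements any normal `M ≤ L` with `L/M` a `p`-group. -/
theorem sylow_sup_eq [Finite G] {p : ℕ} [hp : Fact p.Prime] {L M : Subgroup G} [M.Normal]
    (hML : M ≤ L) (hpq : ∀ x ∈ L, ∃ k : ℕ, x ^ (p ^ k) ∈ M) (Q : Sylow p ↥L) :
    (Q : Subgroup ↥L).map L.subtype ⊔ M = L := by
  have hPG : IsPGroup p (↥L ⧸ M.subgroupOf L) := by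
    intro q
    induction q using QuotientGroup.induction_on with
    | H x =>
      obtain ⟨k, hk⟩ := hpq x.1 x.2
      refine ⟨k, ?_⟩
      rw [← QuotientGroup.mk_pow, QuotientGroup.eq_one_iff, Subgroup.mem_subgroupOf]
      simpa using hk
  obtain ⟨n, hn⟩ := (IsPGroup.iff_card).1 hPG
  have hidx : (M.subgroupOf L).index = p ^ n := by rw [Subgroup.index_eq_card]; exact hn
  have hA : ((Q : Subgroup ↥L) ⊔ M.subgroupOf L).index = 1 := by
    have d1 : ((Q : Subgroup ↥L) ⊔ M.subgroupOf L).index ∣ (Q : Subgroup ↥L).index :=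
      Subgroup.index_dvd_of_le le_sup_left
    have d2 : ((Q : Subgroup ↥L) ⊔ M.subgroupOf L).index ∣ p ^ n := by
      rw [← hidx]; exact Subgroup.index_dvd_of_le le_sup_right
    obtain ⟨j, -, hj⟩ := (Nat.dvd_prime_pow hp.out).1 d2
    rcases Nat.eq_zero_or_pos j with h0 | hpos
    · rw [hj, h0, pow_zero]
    · exfalso
      apply Q.not_dvd_index
      refine dvd_trans ?_ d1
      rw [hj]
      exact dvd_pow_self p hpos.ne'
  have htop := Subgroup.index_eq_one.1 hA
  have := congrArg (Subgroup.map L.subtype) htop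
  rw [Subgroup.map_sup, Subgroup.map_subgroupOf_eq_of_le hML, ← MonoidHom.range_eq_map,
    Subgroup.range_subtype] at this
  exact this

end Cfsg.Agent.helper9.SNC
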