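import Mathlib
import Cfsg.Agent.Lib_helper9_SNCb

set_option autoImplicit false

/-! Subnormalizer counting: the family of "Sylow subgroups modulo `N`" of `U`. -/

namespace Cfsg.Agent.helper9.SNC

open Cfsg.Agent.helper7

variable {G : Type*} [Group G]

/-- `K/N` is a Sylow `p`-subgroup of `U/N` complementing `N'/N`. -/
def KK (p : ℕ) (N N' U K : Subgroup G) : Prop :=
  PQ p N K ∧ K ≤ U ∧ K ⊔ N' = U

theorem cj_normal (g : G) (N : Subgroup G) [N.Normal] : cj g N = N :=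
  cj_eq_of_mem_normalizer (mem_normalizer_of_normal g)

theorem KK_of_sylow [Finite G] {p : ℕ} [hp : Fact p.Prime] {N N' U : Subgroup G} [N.Normal]
    [N'.Normal] (hNN' : N ≤ N') (hU : PQ p N' U) (Q : Sylow p ↥U) :
    KK p N N' U ((Q : Subgroup ↥U).map U.subtype ⊔ N) := by
  refine ⟨⟨le_sup_right, ?_⟩, sup_le (Subgroup.map_subtype_le _) (hNN'.trans hU.1), ?_⟩
  · intro x hx
    have hx' : x ∈ (((Q : Subgroup ↥U).map U.subtype ⊔ N : Subgroup G) : Set G) := hx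
    rw [Subgroup.mul_normal] at hx'
    obtain ⟨q, hq, n, hn, rfl⟩ := hx'
    obtain ⟨y, hy, rfl⟩ := hq
    obtain ⟨k, hk⟩ := Q.2 ⟨y, hy⟩
    refine ⟨k, pow_mem_of_mul hn rfl _ ?_⟩
    have h1 : y ^ (p ^ k) = 1 := by
      have := congrArg Subtype.val hk
      simpa using this
    have h2 : (U.subtype y) ^ (p ^ k) = 1 := by
      rw [← map_pow, h1, map_one]
    rw [h2]; exact N.one_mem
  · rw [sup_assoc, sup_eq_right.2 hNN']
    exact sylow_sup_eq hU.1 hU.2 Q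

theorem exists_KK [Finite G] {p : ℕ} [hp : Fact p.Prime] {N N' U H : Subgroup G} [N.Normal]
    [N'.Normal] (hNN' : N ≤ N') (hU : PQ p N' U) (hH : IsPGroup p ↥H) (hHU : H ≤ U) :
    ∃ K₀, KK p N N' U K₀ ∧ H ≤ K₀ := by
  obtain ⟨Q, hQ⟩ := (hH.comap_subtype (K := U)).exists_le_sylow
  refine ⟨_, KK_of_sylow hNN' hU Q, ?_⟩
  intro h hh
  apply Subgroup.mem_sup_left
  exact ⟨⟨h, hHU hh⟩, hQ (show (⟨h, hHU hh⟩ : ↥U) ∈ H.comap U.subtype from hh), rfl⟩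

theorem KK_eq_of_le {p : ℕ} {N N' U K₁ K₂ : Subgroup G} [N.Normal] [N'.Normal]
    (hcop : (N.relIndex N').Coprime p) (h2 : PQ p N K₂) (h2U : K₂ ≤ U)
    (hN1 : N ≤ K₁) (h1 : K₁ ⊔ N' = U) (hle : K₁ ≤ K₂) : K₁ = K₂ := by
  apply le_antisymm hle
  intro x hx
  have hxU : x ∈ ((K₁ ⊔ N' : Subgroup G) : Set G) := by rw [h1]; exact h2U hx
  rw [Subgroup.mul_normal] at hxU
  obtain ⟨k, hk, n, hn, rfl⟩ := hxU
  have hn2 : n ∈ K₂ := by
    have := K₂.mul_mem (K₂.inv_mem (hle hk)) hx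
    simpa using this
  have : n ∈ N := inf_le_of_PQ hcop h2 ⟨hn2, hn⟩
  exact K₁.mul_mem hk (hN1 this)

theorem KK_exists_sylow [Finite G] {p : ℕ} [hp : Fact p.Prime] {N N' U K : Subgroup G} [N.Normal]
    [N'.Normal] (hNN' : N ≤ N') (hcop : (N.relIndex N').Coprime p) (hU : PQ p N' U)
    (hK : KK p N N' U K) : ∃ Q : Sylow p ↥U, K = (Q : Subgroup ↥U).map U.subtype ⊔ N := by
  obtain ⟨P₁⟩ : Nonempty (Sylow p ↥K) := inferInstance
  have hP₁' : IsPGroup p ↥((P₁ : Subgroup ↥K).map K.subtype) := P₁.2.map K.subtype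
  obtain ⟨Q, hQ⟩ := (hP₁'.comap_subtype (K := U)).exists_le_sylow
  refine ⟨Q, ?_⟩
  have hKe : (P₁ : Subgroup ↥K).map K.subtype ⊔ N = K := sylow_sup_eq hK.1.1 hK.1.2 P₁
  have hle : K ≤ (Q : Subgroup ↥U).map U.subtype ⊔ N := by
    rw [← hKe]
    apply sup_le_sup_right
    intro x hx
    have hxU : x ∈ U := hK.2.1 (Subgroup.map_subtype_le _ hx)
    exact ⟨⟨x, hxU⟩, hQ (show (⟨x, hxU⟩ : ↥U) ∈ Subgroup.comap U.subtype _ from hx), rfl⟩
  have hQK := KK_of_sylow hNN' hU Q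
  exact KK_eq_of_le hcop hQK.1 hQK.2.1 hK.1.1 hK.2.2 hle

theorem map_smul_sylow {p : ℕ} {U : Subgroup G} (u : ↥U) (Q : Sylow p ↥U) :
    ((u • Q : Sylow p ↥U) : Subgroup ↥U).map U.subtype
      = cj (u : G) ((Q : Subgroup ↥U).map U.subtype) := by
  ext x
  rw [mem_cj]
  constructor
  · rintro ⟨y, hy, rfl⟩
    have hy' : y ∈ ((u • Q : Sylow p ↥U) : Subgroup ↥U) := hy
    rw [Sylow.coe_subgroup_smul, Subgroup.mem_pointwise_smul_iff_inv_smul_mem] at hy'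
    refine ⟨_, hy', ?_⟩
    simp [MulAut.smul_def, mul_assoc]
  · rintro ⟨y, hy, hyx⟩
    refine ⟨u * y * u⁻¹, ?_, ?_⟩
    · show u * y * u⁻¹ ∈ ((u • Q : Sylow p ↥U) : Subgroup ↥U)
      rw [Sylow.coe_subgroup_smul, Subgroup.mem_pointwise_smul_iff_inv_smul_mem]
      have : (MulAut.conj u)⁻¹ • (u * y * u⁻¹) = y := by
        simp [MulAut.smul_def, mul_assoc]
      rw [this]; exact hy
    · have h1 : (U.subtype y : G) = (u : G)⁻¹ * x * u := hyx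
      show ((u * y * u⁻¹ : ↥U) : G) = x
      have h2 : (y : G) = (u : G)⁻¹ * x * u := h1
      simp only [Subgroup.coe_mul, Subgroup.coe_inv, h2]
      group

theorem KK_conj [Finite G] {p : ℕ} [hp : Fact p.Prime] {N N' U K K₀ : Subgroup G} [N.Normal]
    [N'.Normal] (hNN' : N ≤ N') (hcop : (N.relIndex N').Coprime p) (hU : PQ p N' U)
    (hK : KK p N N' U K) (hK₀ : KK p N N' U K₀) : ∃ n ∈ N', K = cj n K₀ := by
  obtain ⟨Q₁, h1⟩ := KK_exists_sylow hNN' hcop hU hK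
  obtain ⟨Q₀, h0⟩ := KK_exists_sylow hNN' hcop hU hK₀
  obtain ⟨u, hu⟩ := MulAction.exists_smul_eq ↥U Q₀ Q₁
  have hKu : K = cj (u : G) K₀ := by
    rw [h1, h0, Cfsg.Agent.helper20.cj_sup, cj_normal (u : G) N, ← hu, map_smul_sylow]
  have huU : (u : G) ∈ ((N' ⊔ K₀ : Subgroup G) : Set G) := by
    rw [sup_comm, hK₀.2.2]; exact u.2
  rw [Subgroup.normal_mul] at huU
  obtain ⟨n, hn, k, hk, hnk⟩ := huU
  refine ⟨n, hn, ?_⟩
  rw [hKu, ← hnk, ← cj_cj, cj_eq_of_mem_normalizer (Subgroup.le_normalizer hk)]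

/-- The conjugates of `K` by elements of `N'` that contain `H` are those by elements
centralizing `H` modulo `N`. -/
theorem le_cj_iff {p : ℕ} {N N' K H : Subgroup G} [N.Normal] [N'.Normal]
    (hcop : (N.relIndex N').Coprime p) (hK : PQ p N K) (hHK : H ≤ K) {n : G} (hn : n ∈ N') :
    H ≤ cj n K ↔ ∀ h ∈ H, h * n * h⁻¹ * n⁻¹ ∈ N := by
  constructor
  · intro hle h hh
    -- apply to `h⁻¹`
    have h1 : n⁻¹ * h⁻¹ * n ∈ K := mem_cj.1 (hle (H.inv_mem hh))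
    have h2 : h * (n⁻¹ * h⁻¹ * n) ∈ K := K.mul_mem (hHK hh) h1
    have h3 : h * (n⁻¹ * h⁻¹ * n) ∈ N' := by
      have : h * (n⁻¹ * h⁻¹ * n) = (h * n⁻¹ * h⁻¹) * n := by group
      rw [this]
      exact N'.mul_mem (Subgroup.Normal.conj_mem inferInstance _ (N'.inv_mem hn) h) hn
    have h4 : h * (n⁻¹ * h⁻¹ * n) ∈ N := inf_le_of_PQ hcop hK ⟨h2, h3⟩
    have h5 : n * (h * (n⁻¹ * h⁻¹ * n)) * n⁻¹ ∈ N := Subgroup.Normal.conj_mem inferInstance _ h4 n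
    have h6 : (n * (h * (n⁻¹ * h⁻¹ * n)) * n⁻¹)⁻¹ ∈ N := N.inv_mem h5
    have e : (n * (h * (n⁻¹ * h⁻¹ * n)) * n⁻¹)⁻¹ = h * n * h⁻¹ * n⁻¹ := by group
    rw [e] at h6
    exact h6
  · intro hc h hh
    rw [mem_cj]
    have h1 : h * n * h⁻¹ * n⁻¹ ∈ N := hc _ hh
    have h2 : n⁻¹ * (h * n * h⁻¹ * n⁻¹) * n⁻¹⁻¹ ∈ N :=
      Subgroup.Normal.conj_mem inferInstance _ h1 n⁻¹
    have e : n⁻¹ * h * n = (n⁻¹ * (h * n * h⁻¹ * n⁻¹) * n⁻¹⁻¹) * h := by group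
    rw [e]
    exact K.mul_mem (hK.1 h2) (hHK hh)

end Cfsg.Agent.helper9.SNC
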