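import Mathlib
import Cfsg.Agent.Lib_helper9_SNCc

set_option autoImplicit false

/-! Subnormalizer counting: the `p'`-step (fibre count). -/

namespace Cfsg.Agent.helper9.SNC

open Cfsg.Agent.helper7

variable {G : Type*} [Group G]

theorem PQ_sup {p : ℕ} {N N' R : Subgroup G} [N'.Normal] (hNN' : N ≤ N') (hR : PQ p N R) :
    PQ p N' (R ⊔ N') := by
  refine ⟨le_sup_right, ?_⟩
  intro x hx
  have hx' : x ∈ ((R ⊔ N' : Subgroup G) : Set G) := hx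
  rw [Subgroup.mul_normal] at hx'
  obtain ⟨r, hr, n, hn, rfl⟩ := hx'
  obtain ⟨k, hk⟩ := hR.2 r hr
  exact ⟨k, pow_mem_of_mul hn rfl _ (hNN' hk)⟩

theorem exists_min_witness [Finite G] {p : ℕ} {H N' : Subgroup G} {g₀ : G}
    (hg₀ : g₀ ∈ TT p H N') :
    ∃ U, PQ p N' U ∧ H ≤ U ∧ g₀ ∈ Subgroup.normalizer (U : Set G) ∧
      ∀ R', PQ p N' R' → H ≤ R' → g₀ ∈ Subgroup.normalizer (R' : Set G) → U ≤ R' := by
  obtain ⟨R₀, h01, h02, h03⟩ := hg₀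
  refine ⟨sInf {R' | PQ p N' R' ∧ H ≤ R' ∧ g₀ ∈ Subgroup.normalizer (R' : Set G)}, ⟨?_, ?_⟩, ?_, ?_, ?_⟩
  · exact le_sInf (fun R' h => h.1.1)
  · intro x hx
    exact h01.2 x ((sInf_le (show R₀ ∈ {R' | PQ p N' R' ∧ H ≤ R' ∧
      g₀ ∈ Subgroup.normalizer (R' : Set G)} from ⟨h01, h02, h03⟩)) hx)
  · exact le_sInf (fun R' h => h.2.1)
  · rw [Subgroup.mem_normalizer_iff]
    intro x
    simp only [Subgroup.mem_sInf]
    constructor
    · intro h R' hR'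
      exact (Subgroup.mem_normalizer_iff.1 hR'.2.2 x).1 (h R' hR')
    · intro h R' hR'
      exact (Subgroup.mem_normalizer_iff.1 hR'.2.2 x).2 (h R' hR')
  · intro R' h1 h2 h3
    exact sInf_le ⟨h1, h2, h3⟩

theorem mem_normalizer_of_coset {N' R' : Subgroup G} (hN'R' : N' ≤ R') {g g₀ : G}
    (hgg : g⁻¹ * g₀ ∈ N') (h : g₀ ∈ Subgroup.normalizer (R' : Set G)) :
    g ∈ Subgroup.normalizer (R' : Set G) := by
  have e : g = g₀ * (g⁻¹ * g₀)⁻¹ := by group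
  rw [e]
  exact Subgroup.mul_mem _ h (Subgroup.le_normalizer (hN'R' (N'.inv_mem hgg)))

theorem mem_normalizer_of_coset' {N' R' : Subgroup G} (hN'R' : N' ≤ R') {g g₀ : G}
    (hgg : g⁻¹ * g₀ ∈ N') (h : g ∈ Subgroup.normalizer (R' : Set G)) :
    g₀ ∈ Subgroup.normalizer (R' : Set G) := by
  have e : g₀ = g * (g⁻¹ * g₀) := by group
  rw [e]
  exact Subgroup.mul_mem _ h (Subgroup.le_normalizer (hN'R' hgg))

theorem exists_KK_of_mem {p : ℕ} {H N N' U : Subgroup G} [N.Normal] [N'.Normal] (hNN' : N ≤ N')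
    {g : G} (hU : PQ p N' U) (hHU : H ≤ U) (hUn : g ∈ Subgroup.normalizer (U : Set G))
    (hUmin : ∀ R', PQ p N' R' → H ≤ R' → g ∈ Subgroup.normalizer (R' : Set G) → U ≤ R')
    (hg : g ∈ TT p H N) :
    ∃ K, KK p N N' U K ∧ H ≤ K ∧ g ∈ Subgroup.normalizer (K : Set G) := by
  obtain ⟨R, hR, hHR, hgR⟩ := hg
  have hle : U ≤ R ⊔ N' := hUmin _ (PQ_sup hNN' hR) (hHR.trans le_sup_left)
    (mem_normalizer_sup hgR (mem_normalizer_of_normal g))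
  refine ⟨R ⊓ U, ⟨⟨le_inf hR.1 (hNN'.trans hU.1), fun x hx => hR.2 x hx.1⟩, inf_le_right, ?_⟩,
    le_inf hHR hHU, Subgroup.inf_normalizer_le_normalizer_inf ⟨hgR, hUn⟩⟩
  apply le_antisymm (sup_le inf_le_right hU.1)
  intro x hx
  have hx' : x ∈ ((R ⊔ N' : Subgroup G) : Set G) := hle hx
  rw [Subgroup.mul_normal] at hx'
  obtain ⟨r, hr, n, hn, rfl⟩ := hx'
  have hrU : r ∈ U := by
    have := U.mul_mem hx (U.inv_mem (hU.1 hn))
    simpa using this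
  exact Subgroup.mul_mem _ (Subgroup.mem_sup_left ⟨hr, hrU⟩) (Subgroup.mem_sup_right hn)

theorem KK_unique {p : ℕ} {H N N' U K₁ K₂ : Subgroup G} [N.Normal] [N'.Normal] (hNN' : N ≤ N')
    (hcop : (N.relIndex N').Coprime p) {g : G}
    (hUmin : ∀ R', PQ p N' R' → H ≤ R' → g ∈ Subgroup.normalizer (R' : Set G) → U ≤ R')
    (h1 : KK p N N' U K₁) (hH1 : H ≤ K₁) (hg1 : g ∈ Subgroup.normalizer (K₁ : Set G))
    (h2 : KK p N N' U K₂) (hH2 : H ≤ K₂) (hg2 : g ∈ Subgroup.normalizer (K₂ : Set G)) :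
    K₁ = K₂ := by
  have hD : PQ p N (K₁ ⊓ K₂) := ⟨le_inf h1.1.1 h2.1.1, fun x hx => h1.1.2 x hx.1⟩
  have hle : U ≤ (K₁ ⊓ K₂) ⊔ N' := hUmin _ (PQ_sup hNN' hD) ((le_inf hH1 hH2).trans le_sup_left)
    (mem_normalizer_sup (Subgroup.inf_normalizer_le_normalizer_inf ⟨hg1, hg2⟩)
      (mem_normalizer_of_normal g))
  have hU' : U = K₁ ⊔ N' := h1.2.2.symm
  have hDU : (K₁ ⊓ K₂) ⊔ N' = U := by
    apply le_antisymm _ hle
    rw [hU']
    exact sup_le_sup_right inf_le_left _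
  have e1 : K₁ ⊓ K₂ = K₁ := KK_eq_of_le hcop h1.1 h1.2.1 hD.1 hDU inf_le_left
  have e2 : K₁ ⊓ K₂ = K₂ := KK_eq_of_le hcop h2.1 h2.2.1 hD.1 hDU inf_le_right
  rw [← e1, e2]

theorem KK_cj {p : ℕ} {N N' U K : Subgroup G} [N.Normal] [N'.Normal] {g : G}
    (hUn : g ∈ Subgroup.normalizer (U : Set G)) (hK : KK p N N' U K) :
    KK p N N' U (cj g K) := by
  refine ⟨⟨?_, ?_⟩, ?_, ?_⟩
  · have := cj_mono (g := g) hK.1.1
    rwa [cj_normal g N] at this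
  · intro x hx
    rw [mem_cj] at hx
    obtain ⟨k, hk⟩ := hK.1.2 _ hx
    refine ⟨k, ?_⟩
    have h1 : g * (g⁻¹ * x * g) ^ (p ^ k) * g⁻¹ ∈ N := Subgroup.Normal.conj_mem inferInstance _ hk g
    have e : g * (g⁻¹ * x * g) ^ (p ^ k) * g⁻¹ = x ^ (p ^ k) := by
      have : g⁻¹ * x * g = g⁻¹ * x * g⁻¹⁻¹ := by rw [inv_inv]
      rw [this, conj_pow]
      group
    rwa [e] at h1
  · have := cj_mono (g := g) hK.2.1
    rwa [cj_eq_of_mem_normalizer hUn] at this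
  · have := congrArg (cj g) hK.2.2
    rwa [Cfsg.Agent.helper20.cj_sup, cj_normal g N', cj_eq_of_mem_normalizer hUn] at this

theorem exists_frattini [Finite G] {p : ℕ} [hp : Fact p.Prime] {N N' U K₀ : Subgroup G}
    [N.Normal] [N'.Normal] (hNN' : N ≤ N') (hcop : (N.relIndex N').Coprime p) {g₀ : G}
    (hU : PQ p N' U) (hUn : g₀ ∈ Subgroup.normalizer (U : Set G)) (hK₀ : KK p N N' U K₀) :
    ∃ g₁, g₁⁻¹ * g₀ ∈ N' ∧ g₁ ∈ Subgroup.normalizer (K₀ : Set G) := by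
  obtain ⟨n, hn, hnK⟩ := KK_conj hNN' hcop hU (KK_cj hUn hK₀) hK₀
  refine ⟨n⁻¹ * g₀, ?_, ?_⟩
  · have : (n⁻¹ * g₀)⁻¹ * g₀ = g₀⁻¹ * n * g₀⁻¹⁻¹ := by group
    rw [this]
    exact Subgroup.Normal.conj_mem inferInstance _ hn _
  · apply mem_normalizer_of_cj_eq
    rw [← cj_cj, hnK, cj_inv_cj]

theorem mem_normalizer_cj_iff {n g : G} {K : Subgroup G} :
    g ∈ Subgroup.normalizer ((cj n K : Subgroup G) : Set G) ↔
      n⁻¹ * g * n ∈ Subgroup.normalizer (K : Set G) := by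
  rw [← cj_normalizer, mem_cj]

theorem card_c1 {N' K₀ : Subgroup G} [N'.Normal] {n g₀ g₁ : G} (hn : n ∈ N')
    (hg₁ : g₁⁻¹ * g₀ ∈ N') (hg₁K : g₁ ∈ Subgroup.normalizer (K₀ : Set G)) :
    Nat.card {g // g⁻¹ * g₀ ∈ N' ∧ g ∈ Subgroup.normalizer ((cj n K₀ : Subgroup G) : Set G)} =
      Nat.card ↥(N' ⊓ Subgroup.normalizer (K₀ : Set G)) := by
  have hset : {g | g⁻¹ * g₀ ∈ N' ∧ g ∈ Subgroup.normalizer ((cj n K₀ : Subgroup G) : Set G)} =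
      (fun m => n * (g₁ * m) * n⁻¹) '' ((N' ⊓ Subgroup.normalizer (K₀ : Set G) : Subgroup G) : Set G) := by
    ext g
    constructor
    · rintro ⟨h1, h2⟩
      rw [mem_normalizer_cj_iff] at h2
      refine ⟨g₁⁻¹ * (n⁻¹ * g * n), ⟨?_, ?_⟩, by group⟩
      · have e : g₁⁻¹ * (n⁻¹ * g * n) = (g₁⁻¹ * n⁻¹ * g₁⁻¹⁻¹) * (g₁⁻¹ * g₀) * (g⁻¹ * g₀)⁻¹ * n := by
          group
        rw [e]
        exact N'.mul_mem (N'.mul_mem (N'.mul_mem
          (Subgroup.Normal.conj_mem inferInstance _ (N'.inv_mem hn) _) hg₁) (N'.inv_mem h1)) hn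
      · exact Subgroup.mul_mem _ (Subgroup.inv_mem _ hg₁K) h2
    · rintro ⟨m, ⟨hm1, hm2⟩, rfl⟩
      refine ⟨?_, ?_⟩
      · have e : (n * (g₁ * m) * n⁻¹)⁻¹ * g₀ = n * m⁻¹ * (g₁⁻¹ * n⁻¹ * g₁⁻¹⁻¹) * (g₁⁻¹ * g₀) := by
          group
        rw [e]
        exact N'.mul_mem (N'.mul_mem (N'.mul_mem hn (N'.inv_mem hm1))
          (Subgroup.Normal.conj_mem inferInstance _ (N'.inv_mem hn) _)) hg₁
      · rw [mem_normalizer_cj_iff]
        have e : n⁻¹ * (n * (g₁ * m) * n⁻¹) * n = g₁ * m := by group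
        rw [e]
        exact Subgroup.mul_mem _ hg₁K hm2
  show Nat.card ↥{g | g⁻¹ * g₀ ∈ N' ∧ g ∈ Subgroup.normalizer ((cj n K₀ : Subgroup G) : Set G)} = _
  rw [hset, Nat.card_image_of_injective]
  · rfl
  · intro a b hab
    simpa using hab

theorem card_c2 [Finite G] {p : ℕ} [hp : Fact p.Prime] {H N N' U K₀ Kg : Subgroup G}
    [N.Normal] [N'.Normal] (hNN' : N ≤ N') (hcop : (N.relIndex N').Coprime p)
    (hU : PQ p N' U) (hK₀ : KK p N N' U K₀) {g : G} (hKg : KK p N N' U Kg) (hHKg : H ≤ Kg)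
    (hgKg : g ∈ Subgroup.normalizer (Kg : Set G))
    (huniq : ∀ K, KK p N N' U K → H ≤ K → g ∈ Subgroup.normalizer (K : Set G) → K = Kg) :
    Nat.card {n // n ∈ N' ∧ H ≤ cj n K₀ ∧ g ∈ Subgroup.normalizer ((cj n K₀ : Subgroup G) : Set G)} =
      Nat.card ↥(N' ⊓ Subgroup.normalizer (K₀ : Set G)) := by
  obtain ⟨n₁, hn₁, hKgn⟩ := KK_conj hNN' hcop hU hKg hK₀
  have hset : {n | n ∈ N' ∧ H ≤ cj n K₀ ∧ g ∈ Subgroup.normalizer ((cj n K₀ : Subgroup G) : Set G)} =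
      (fun m => n₁ * m) '' ((N' ⊓ Subgroup.normalizer (K₀ : Set G) : Subgroup G) : Set G) := by
    ext n
    constructor
    · rintro ⟨h1, h2, h3⟩
      have hnU : n ∈ Subgroup.normalizer (U : Set G) := Subgroup.le_normalizer (hU.1 h1)
      have := huniq _ (KK_cj hnU hK₀) h2 h3
      refine ⟨n₁⁻¹ * n, ⟨N'.mul_mem (N'.inv_mem hn₁) h1, ?_⟩, by group⟩
      apply mem_normalizer_of_cj_eq
      rw [← cj_cj, this, hKgn, cj_inv_cj]
    · rintro ⟨m, ⟨hm1, hm2⟩, rfl⟩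
      have e : cj (n₁ * m) K₀ = Kg := by
        rw [← cj_cj, cj_eq_of_mem_normalizer hm2, hKgn]
      refine ⟨N'.mul_mem hn₁ hm1, ?_, ?_⟩
      · rw [e]; exact hHKg
      · rw [e]; exact hgKg
  show Nat.card ↥{n | n ∈ N' ∧ H ≤ cj n K₀ ∧
    g ∈ Subgroup.normalizer ((cj n K₀ : Subgroup G) : Set G)} = _
  rw [hset, Nat.card_image_of_injective]
  · rfl
  · intro a b hab
    simpa using hab

end Cfsg.Agent.helper9.SNC
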