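import Mathlib
import Cfsg.Agent.Lib_helper9_SNCd

set_option autoImplicit false

/-! Subnormalizer counting: the `p'`-step (statement) . -/

namespace Cfsg.Agent.helper9.SNC

open Cfsg.Agent.helper7

variable {G : Type*} [Group G]

theorem card_fiber [Finite G] {p : ℕ} [hp : Fact p.Prime] {H N N' : Subgroup G}
    [N.Normal] [N'.Normal] (hNN' : N ≤ N') (hcop : (N.relIndex N').Coprime p)
    (hH : IsPGroup p ↥H) {g₀ : G} (hg₀ : g₀ ∈ TT p H N') :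
    Nat.card {g // g ∈ TT p H N ∧ g⁻¹ * g₀ ∈ N'} =
      Nat.card {u // u ∈ N' ∧ ∀ h ∈ H, h * u * h⁻¹ * u⁻¹ ∈ N} := by
  obtain ⟨U, hU, hHU, hUn, hUmin⟩ := exists_min_witness hg₀
  obtain ⟨K₀, hK₀, hHK₀⟩ := exists_KK hNN' hU hH hHU
  obtain ⟨g₁, hg₁, hg₁K⟩ := exists_frattini hNN' hcop hU hUn hK₀
  have hνpos : 0 < Nat.card ↥(N' ⊓ Subgroup.normalizer (K₀ : Set G)) := Nat.card_pos
  have key := double_count
    (fun g n : G => g⁻¹ * g₀ ∈ N' ∧ n ∈ N' ∧ H ≤ cj n K₀ ∧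
      g ∈ Subgroup.normalizer ((cj n K₀ : Subgroup G) : Set G))
    {g | g ∈ TT p H N ∧ g⁻¹ * g₀ ∈ N'}
    {u | u ∈ N' ∧ ∀ h ∈ H, h * u * h⁻¹ * u⁻¹ ∈ N}
    (Nat.card ↥(N' ⊓ Subgroup.normalizer (K₀ : Set G)))
    (Nat.card ↥(N' ⊓ Subgroup.normalizer (K₀ : Set G))) ?_ ?_ ?_ ?_
  · exact Nat.eq_of_mul_eq_mul_right hνpos key
  · -- fibres over `g` in the fibre
    rintro g ⟨hgT, hgg⟩
    have hUn' : g ∈ Subgroup.normalizer (U : Set G) := mem_normalizer_of_coset hU.1 hgg hUn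
    have hUmin' : ∀ R', PQ p N' R' → H ≤ R' → g ∈ Subgroup.normalizer (R' : Set G) → U ≤ R' :=
      fun R' h1 h2 h3 => hUmin R' h1 h2 (mem_normalizer_of_coset' h1.1 hgg h3)
    obtain ⟨Kg, hKg, hHKg, hgKg⟩ := exists_KK_of_mem hNN' hU hHU hUn' hUmin' hgT
    have huniq : ∀ K, KK p N N' U K → H ≤ K → g ∈ Subgroup.normalizer (K : Set G) → K = Kg :=
      fun K h1 h2 h3 => KK_unique hNN' hcop hUmin' h1 h2 h3 hKg hHKg hgKg
    rw [← card_c2 hNN' hcop hU hK₀ hKg hHKg hgKg huniq]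
    apply Nat.card_congr
    apply Equiv.subtypeEquivRight
    intro n
    constructor
    · rintro ⟨-, h2, h3, h4⟩; exact ⟨h2, h3, h4⟩
    · rintro ⟨h2, h3, h4⟩; exact ⟨hgg, h2, h3, h4⟩
  · rintro g hg n ⟨h1, h2, h3, h4⟩
    apply hg
    refine ⟨⟨cj n K₀, ?_, h3, h4⟩, h1⟩
    exact (KK_cj (Subgroup.le_normalizer (hU.1 h2)) hK₀).1
  · rintro u ⟨hu1, hu2⟩
    rw [← card_c1 hu1 hg₁ hg₁K]
    apply Nat.card_congr
    apply Equiv.subtypeEquivRight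
    intro g
    constructor
    · rintro ⟨h1, -, -, h4⟩; exact ⟨h1, h4⟩
    · rintro ⟨h1, h4⟩
      exact ⟨h1, hu1, (le_cj_iff hcop hK₀.1 hHK₀ hu1).2 hu2, h4⟩
  · rintro u hu g ⟨-, h2, h3, -⟩
    exact hu ⟨h2, (le_cj_iff hcop hK₀.1 hHK₀ h2).1 h3⟩

/-- The `p'`-step. -/
theorem card_TT_mul [Finite G] {p : ℕ} [hp : Fact p.Prime] {H N N' : Subgroup G}
    [N.Normal] [N'.Normal] (hNN' : N ≤ N') (hcop : (N.relIndex N').Coprime p)
    (hH : IsPGroup p ↥H) :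
    Nat.card (TT p H N) * Nat.card N' =
      Nat.card (TT p H N') * Nat.card {u // u ∈ N' ∧ ∀ h ∈ H, h * u * h⁻¹ * u⁻¹ ∈ N} := by
  apply double_count (fun g g' : G => g ∈ TT p H N ∧ g⁻¹ * g' ∈ N') (TT p H N) (TT p H N')
  · intro g hg
    have hset : {g' | g ∈ TT p H N ∧ g⁻¹ * g' ∈ N'} = (fun m => g * m) '' (N' : Set G) := by
      ext g'
      constructor
      · rintro ⟨-, h⟩
        exact ⟨g⁻¹ * g', h, by group⟩
      · rintro ⟨m, hm, rfl⟩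
        refine ⟨hg, ?_⟩
        have : g⁻¹ * (g * m) = m := by group
        rw [this]; exact hm
    show Nat.card ↥{g' | g ∈ TT p H N ∧ g⁻¹ * g' ∈ N'} = _
    rw [hset, Nat.card_image_of_injective]
    · rfl
    · intro a b hab
      simpa using hab
  · rintro g hg g' ⟨h, -⟩
    exact hg h
  · intro g' hg'
    exact card_fiber hNN' hcop hH hg'
  · rintro g' hg' g ⟨h1, h2⟩
    apply hg'
    have : g' = g * (g⁻¹ * g') := by group
    rw [this]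
    exact TT_mul_mem p H (TT_mono p H hNN' h1) h2

end Cfsg.Agent.helper9.SNC
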