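import Mathlib
import Cfsg.Agent.Lib_helper9_SNCe

set_option autoImplicit false

/-! Subnormalizer counting: assembly along a normal series with `p`- and `p'`-factors. -/

namespace Cfsg.Agent.helper9.SNC

open Cfsg.Agent.helper7

theorem telescoping : ∀ (n : ℕ) (f : Fin (n + 1) → ℕ) (a e : Fin n → ℕ),
    (∀ i : Fin n, f i.castSucc * a i = f i.succ * e i) →
    f 0 * ∏ i, a i = f (Fin.last n) * ∏ i, e i := by
  intro n
  induction n with
  | zero =>
    intro f a e _
    simp
  | succ n ih =>
    intro f a e h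
    have ih' := ih (fun i => f i.castSucc) (fun i => a i.castSucc) (fun i => e i.castSucc)
      (fun i => by
        have := h i.castSucc
        rw [Fin.succ_castSucc] at this
        exact this)
    have hl := h (Fin.last n)
    rw [Fin.succ_last] at hl
    rw [Fin.prod_univ_castSucc, Fin.prod_univ_castSucc (f := e)]
    have h0 : f (Fin.castSucc 0) = f 0 := by rw [Fin.castSucc_zero]
    simp only [h0] at ih'
    calc f 0 * ((∏ i : Fin n, a i.castSucc) * a (Fin.last n))
        = (f 0 * ∏ i : Fin n, a i.castSucc) * a (Fin.last n) := by ring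
      _ = (f (Fin.last n).castSucc * ∏ i : Fin n, e i.castSucc) * a (Fin.last n) := by rw [ih']
      _ = (f (Fin.last n).castSucc * a (Fin.last n)) * ∏ i : Fin n, e i.castSucc := by ring
      _ = (f (Fin.last (n + 1)) * e (Fin.last n)) * ∏ i : Fin n, e i.castSucc := by rw [hl]
      _ = f (Fin.last (n + 1)) * ((∏ i : Fin n, e i.castSucc) * e (Fin.last n)) := by ring

variable {G : Type*} [Group G]

theorem card_mul_relIndex' {N N' : Subgroup G} (h : N ≤ N') :
    Nat.card N * N.relIndex N' = Nat.card N' := by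
  have := Subgroup.relIndex_mul_relIndex ⊥ N N' bot_le h
  rwa [Subgroup.relIndex_bot_left, Subgroup.relIndex_bot_left] at this

/-- the centralizer of `H` in `N'` modulo `N` -/
def CCsub (H N N' : Subgroup G) [N.Normal] : Subgroup G where
  carrier := {u | u ∈ N' ∧ ∀ h ∈ H, h * u * h⁻¹ * u⁻¹ ∈ N}
  one_mem' := ⟨N'.one_mem, fun h _ => by simp [N.one_mem]⟩
  mul_mem' := by
    rintro u v ⟨hu1, hu2⟩ ⟨hv1, hv2⟩
    refine ⟨N'.mul_mem hu1 hv1, fun h hh => ?_⟩
    have e : h * (u * v) * h⁻¹ * (u * v)⁻¹ = (h * u * h⁻¹ * u⁻¹) * (u * (h * v * h⁻¹ * v⁻¹) * u⁻¹) := by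
      group
    rw [e]
    exact N.mul_mem (hu2 h hh) (Subgroup.Normal.conj_mem inferInstance _ (hv2 h hh) u)
  inv_mem' := by
    rintro u ⟨hu1, hu2⟩
    refine ⟨N'.inv_mem hu1, fun h hh => ?_⟩
    have e : h * u⁻¹ * h⁻¹ * u⁻¹⁻¹ = u⁻¹ * (h * u * h⁻¹ * u⁻¹)⁻¹ * u⁻¹⁻¹ := by group
    rw [e]
    exact Subgroup.Normal.conj_mem inferInstance _ (N.inv_mem (hu2 h hh)) u⁻¹

theorem le_CCsub {H N N' : Subgroup G} [N.Normal] (h : N ≤ N') : N ≤ CCsub H N N' := by
  intro n hn
  refine ⟨h hn, fun x _ => ?_⟩
  exact N.mul_mem (Subgroup.Normal.conj_mem inferInstance _ hn x) (N.inv_mem hn)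

theorem main [Finite G] (p : ℕ) [hp : Fact p.Prime] (H : Subgroup G) (hH : IsPGroup p H)
    (P : Sylow p G) (n : ℕ) (M : Fin (n + 1) → Subgroup G) (h0 : M 0 = ⊥)
    (hn : M (Fin.last n) = ⊤) (hmono : Monotone M) (hnormal : ∀ i, (M i).Normal)
    (hfac : ∀ i : Fin n, (∃ m : ℕ, (M i.castSucc).relIndex (M i.succ) = p ^ m) ∨
      ((M i.castSucc).relIndex (M i.succ)).Coprime p) :
    Nat.card {g : G // ((H).subgroupOf (H ⊔ Subgroup.zpowers g)).IsSubnormal} =
      Nat.card (P : Subgroup G) *
        ∏ i : Fin n, (if ((M i.castSucc).relIndex (M i.succ)).Coprime p then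
          Nat.card {u : G // u ∈ M i.succ ∧ ∀ h ∈ H, h * u * h⁻¹ * u⁻¹ ∈ M i.castSucc} /
            Nat.card (M i.castSucc)
          else 1) := by
  classical
  set r : Fin n → ℕ := fun i => (M i.castSucc).relIndex (M i.succ) with hr
  set e : Fin n → ℕ := fun i => (if (r i).Coprime p then
          Nat.card {u : G // u ∈ M i.succ ∧ ∀ h ∈ H, h * u * h⁻¹ * u⁻¹ ∈ M i.castSucc} /
            Nat.card (M i.castSucc) else 1) with he
  set a : Fin n → ℕ := fun i => if (r i).Coprime p then r i else 1 with ha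
  set b : Fin n → ℕ := fun i => if (r i).Coprime p then 1 else r i with hb
  have hle : ∀ i : Fin n, M i.castSucc ≤ M i.succ := fun i => hmono (Fin.castSucc_le_succ i)
  have hrpos : ∀ i, 0 < r i := fun i => Nat.pos_of_ne_zero
    (Subgroup.index_ne_zero_of_finite (H := (M i.castSucc).subgroupOf (M i.succ)))
  -- the step
  have hstep : ∀ i : Fin n, Nat.card (TT p H (M i.castSucc)) * a i =
      Nat.card (TT p H (M i.succ)) * e i := by
    intro i
    haveI := hnormal i.castSucc
    haveI := hnormal i.succ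
    by_cases hc : (r i).Coprime p
    · simp only [ha, he, if_pos hc]
      have h1 := card_TT_mul (H := H) (hle i) hc hH
      have h2 : Nat.card (M i.castSucc) * r i = Nat.card (M i.succ) := card_mul_relIndex' (hle i)
      have h3 : Nat.card (M i.castSucc) ∣
          Nat.card {u : G // u ∈ M i.succ ∧ ∀ h ∈ H, h * u * h⁻¹ * u⁻¹ ∈ M i.castSucc} :=
        Subgroup.card_dvd_of_le (le_CCsub (H := H) (hle i))
      obtain ⟨q, hq⟩ := h3
      have hMpos : 0 < Nat.card (M i.castSucc) := Nat.card_pos
      rw [hq, Nat.mul_div_cancel_left _ hMpos]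
      rw [hq, ← h2] at h1
      apply Nat.eq_of_mul_eq_mul_left hMpos
      calc Nat.card (M i.castSucc) * (Nat.card (TT p H (M i.castSucc)) * r i)
          = Nat.card (TT p H (M i.castSucc)) * (Nat.card (M i.castSucc) * r i) := by ring
        _ = Nat.card (TT p H (M i.succ)) * (Nat.card (M i.castSucc) * q) := h1
        _ = Nat.card (M i.castSucc) * (Nat.card (TT p H (M i.succ)) * q) := by ring
    · simp only [ha, he, if_neg hc, mul_one]
      rcases hfac i with ⟨m, hm⟩ | h
      · have hPQ : PQ p (M i.castSucc) (M i.succ) := by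
          refine ⟨hle i, fun x hx => ⟨m, ?_⟩⟩
          have := Subgroup.pow_index_mem ((M i.castSucc).subgroupOf (M i.succ)) (⟨x, hx⟩ : ↥(M i.succ))
          rw [Subgroup.mem_subgroupOf] at this
          have h3 : x ^ ((M i.castSucc).subgroupOf (M i.succ)).index ∈ M i.castSucc := by
            simpa using this
          have h4 : ((M i.castSucc).subgroupOf (M i.succ)).index = p ^ m := hm
          rwa [h4] at h3
        rw [TT_eq_of_PQ p H hPQ]
      · exact absurd h hc
  have htel := telescoping n (fun i => Nat.card (TT p H (M i))) a e hstep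
  simp only [h0, hn] at htel
  rw [TT_bot p H hH, TT_top] at htel
  have hG : Nat.card (Set.univ : Set G) = Nat.card G := Nat.card_congr (Equiv.Set.univ G)
  rw [hG] at htel
  -- order of G
  have hcardG : 1 * ∏ i, r i = Nat.card G * ∏ _i : Fin n, 1 := by
    have := telescoping n (fun i => Nat.card (M i)) r (fun _ => 1)
      (fun i => by rw [mul_one]; exact card_mul_relIndex' (hle i))
    simp only [h0, hn] at this
    rw [Subgroup.card_bot, Subgroup.card_top] at this
    exact this
  rw [one_mul, Finset.prod_const_one, mul_one] at hcardG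
  have hrab : ∀ i, r i = a i * b i := by
    intro i
    by_cases hc : (r i).Coprime p
    · simp only [ha, hb, if_pos hc, mul_one]
    · simp only [ha, hb, if_neg hc, one_mul]
  have hprod : ∏ i, r i = (∏ i, a i) * ∏ i, b i := by
    rw [← Finset.prod_mul_distrib]
    exact Finset.prod_congr rfl (fun i _ => hrab i)
  have hacop : (∏ i, a i).Coprime p := by
    apply Nat.Coprime.prod_left
    intro i _
    by_cases hc : (r i).Coprime p
    · simp only [ha, if_pos hc]; exact hc
    · simp only [ha, if_neg hc]; exact Nat.coprime_one_left p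
  have hbpow : ∃ k, ∏ i, b i = p ^ k := by
    have : ∀ i, ∃ m, b i = p ^ m := by
      intro i
      by_cases hc : (r i).Coprime p
      · exact ⟨0, by simp only [hb, if_pos hc, pow_zero]⟩
      · rcases hfac i with ⟨m, hm⟩ | h
        · exact ⟨m, by simp only [hb, if_neg hc]; exact hm⟩
        · exact absurd h hc
    choose m hm using this
    exact ⟨∑ i, m i, by rw [← Finset.prod_pow_eq_pow_sum]; exact Finset.prod_congr rfl (fun i _ => hm i)⟩
  obtain ⟨k, hk⟩ := hbpow
  have hapos : 0 < ∏ i, a i := by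
    apply Finset.prod_pos
    intro i _
    by_cases hc : (r i).Coprime p
    · simp only [ha, if_pos hc]; exact hrpos i
    · simp only [ha, if_neg hc]; exact Nat.one_pos
  have hP : Nat.card (P : Subgroup G) = ∏ i, b i := by
    rw [Sylow.card_eq_multiplicity, hk, ← hcardG, hprod, hk]
    congr 1
    rw [Nat.factorization_mul hapos.ne' (pow_ne_zero _ hp.out.ne_zero)]
    have h1 : (∏ i, a i).factorization p = 0 :=
      Nat.factorization_eq_zero_of_not_dvd (fun h => by
        have := Nat.Coprime.eq_one_of_dvd hacop.symm h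
        exact hp.out.one_lt.ne' this)
    simp [h1, hp.out.factorization_pow]
  rw [hP]
  apply Nat.eq_of_mul_eq_mul_right hapos
  have e1 : Nat.card {g : G // ((H).subgroupOf (H ⊔ Subgroup.zpowers g)).IsSubnormal} =
      Nat.card ↥{g : G | ((H).subgroupOf (H ⊔ Subgroup.zpowers g)).IsSubnormal} := rfl
  rw [e1, htel, ← hcardG, hprod]
  ring

end Cfsg.Agent.helper9.SNC
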