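import Mathlib
import Cfsg.Agent.Lib_helper12_ZS5

set_option autoImplicit false

/-!
helper9: a strongly closed 2-subgroup `A` normalizing `H` with `O(H) = 1` and `A ∩ H = 1` centralizes `H`
(via Glauberman's Z*-theorem applied in `AH / C_A(H)`).
-/

namespace Cfsg.Agent.helper9.StrCl

open Cfsg

universe u

/-- `H` has no nontrivial odd-order subgroup normalized by `H` -/
def NoOddNormal {K : Type u} [Group K] (H : Subgroup K) : Prop :=
  ∀ M : Subgroup K, M ≤ H → (∀ h ∈ H, ∀ m ∈ M, h * m * h⁻¹ ∈ M) → Odd (Nat.card M) → M = ⊥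

theorem noOddNormal_of_oddCore {K : Type u} [Group K] (H : Subgroup K)
    (hO : Cfsg.oddCore ↥H = ⊥) : NoOddNormal H := by
  intro M hMH hnorm hodd
  have hn : (M.subgroupOf H).Normal := by
    constructor
    intro m hm h
    rw [Subgroup.mem_subgroupOf] at hm ⊢
    simpa using hnorm h h.2 m hm
  have hcard : Nat.card (M.subgroupOf H) = Nat.card M :=
    Nat.card_congr (Subgroup.subgroupOfEquivOfLe hMH).toEquiv
  have hle : M.subgroupOf H ≤ Cfsg.oddCore ↥H := by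
    apply le_sSup
    exact ⟨hn, by rw [hcard]; exact Nat.coprime_two_right.mpr hodd⟩
  rw [hO] at hle
  rw [eq_bot_iff]
  intro m hm
  have h1 : (⟨m, hMH hm⟩ : H) ∈ M.subgroupOf H := by rw [Subgroup.mem_subgroupOf]; exact hm
  have h2 := hle h1
  rw [Subgroup.mem_bot] at h2 ⊢
  exact congrArg Subtype.val h2

theorem noOddNormal_map {K₁ K₂ : Type u} [Group K₁] [Group K₂] (f : K₁ →* K₂)
    (H : Subgroup K₁) (hinj : ∀ x ∈ H, f x = 1 → x = 1) (h : NoOddNormal H) :
    NoOddNormal (H.map f) := by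
  intro M₂ hM₂ hnorm hodd
  set M₁ : Subgroup K₁ := M₂.comap f ⊓ H with hM₁
  have hmap : M₁.map f = M₂ := by
    apply le_antisymm
    · rintro _ ⟨x, hx, rfl⟩; exact hx.1
    · intro y hy
      obtain ⟨x, hxH, rfl⟩ := hM₂ hy
      exact ⟨x, ⟨hy, hxH⟩, rfl⟩
  have hcard : Nat.card M₁ = Nat.card M₂ := by
    have hi : Function.Injective (f.comp M₁.subtype) := by
      rw [injective_iff_map_eq_one]
      intro x hx
      exact Subtype.ext (hinj x x.2.2 hx)
    have hr : (f.comp M₁.subtype).range = M₂ := by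
      rw [MonoidHom.range_comp, Subgroup.range_subtype, hmap]
    rw [← hr]
    exact Nat.card_congr (MonoidHom.ofInjective hi).toEquiv
  have h1 : M₁ = ⊥ := by
    apply h M₁ inf_le_right
    · intro k hk m hm
      refine ⟨?_, H.mul_mem (H.mul_mem hk hm.2) (H.inv_mem hk)⟩
      show f (k * m * k⁻¹) ∈ M₂
      rw [map_mul, map_mul, map_inv]
      exact hnorm (f k) (Subgroup.mem_map_of_mem f hk) (f m) hm.1
    · rw [hcard]; exact hodd
  rw [← hmap, h1, Subgroup.map_bot]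

theorem noOddNormal_subgroupOf {G : Type u} [Group G] (H K : Subgroup G) (hHK : H ≤ K)
    (h : NoOddNormal H) : NoOddNormal (H.subgroupOf K) := by
  intro M hM hnorm hodd
  have h1 : M.map K.subtype = ⊥ := by
    apply h
    · rintro _ ⟨m, hm, rfl⟩
      exact Subgroup.mem_subgroupOf.mp (hM hm)
    · rintro k hk _ ⟨m, hm, rfl⟩
      refine ⟨(⟨k, hHK hk⟩ : K) * m * (⟨k, hHK hk⟩ : K)⁻¹, ?_, rfl⟩
      exact hnorm _ (by rw [Subgroup.mem_subgroupOf]; exact hk) m hm
    · rw [Subgroup.card_map_of_injective K.subtype_injective]; exact hodd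
  exact (Subgroup.map_eq_bot_iff_of_injective M K.subtype_injective).mp h1

/-- an involution of `Z(A)` centralizes `H` -/
theorem central_involution_centralizes {K : Type u} [Group K] [Finite K] (T : Sylow 2 K)
    (A H : Subgroup K)
    (hsc : ∀ x ∈ A, ∀ k : K, k * x * k⁻¹ ∈ T → k * x * k⁻¹ ∈ A)
    (hHn : H.Normal) (hgen : ∀ k : K, ∃ h ∈ H, ∃ a ∈ A, k = h * a) (hdisj : A ⊓ H = ⊥)
    (hno : NoOddNormal H) (a : K) (haA : a ∈ A) (hac : ∀ b ∈ A, b * a = a * b)
    (ha2 : orderOf a = 2) :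
    ∀ y ∈ H, a * y = y * a := by
  have hiso : ∀ k : K, k * a * k⁻¹ ∈ T → k * a * k⁻¹ = a := by
    intro k hk
    obtain ⟨h, hh, b, hb, rfl⟩ := hgen k
    have e1 : h * b * a * (h * b)⁻¹ = h * a * h⁻¹ := by
      have := hac b hb
      calc h * b * a * (h * b)⁻¹ = h * (b * a) * b⁻¹ * h⁻¹ := by group
        _ = h * (a * b) * b⁻¹ * h⁻¹ := by rw [this]
        _ = h * a * h⁻¹ := by group
    rw [e1] at hk ⊢
    have h1 : h * a * h⁻¹ ∈ A := hsc a haA h hk
    have h2 : h * a * h⁻¹ * a⁻¹ ∈ A ⊓ H := by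
      refine ⟨A.mul_mem h1 (A.inv_mem haA), ?_⟩
      have : h * a * h⁻¹ * a⁻¹ = h * (a * h⁻¹ * a⁻¹) := by group
      rw [this]
      exact H.mul_mem hh (hHn.conj_mem _ (H.inv_mem hh) a)
    rw [hdisj, Subgroup.mem_bot] at h2
    exact mul_inv_eq_one.mp h2
  obtain ⟨N, hNn, hNodd, hN⟩ := Cfsg.Agent.helper12.zs_sylow_form T a ha2 hiso
  have hM : N ⊓ H = ⊥ := by
    apply hno _ inf_le_right
    · intro h hh m hm
      exact ⟨hNn.conj_mem _ hm.1 h, hHn.conj_mem _ hm.2 h⟩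
    · exact Odd.of_dvd_nat hNodd (Subgroup.card_dvd_of_le inf_le_left)
  intro y hy
  have h1 : a * y * a⁻¹ * y⁻¹ ∈ N ⊓ H :=
    ⟨hN y, H.mul_mem (hHn.conj_mem _ hy a) (H.inv_mem hy)⟩
  rw [hM, Subgroup.mem_bot] at h1
  have h2 := mul_inv_eq_one.mp h1
  calc a * y = a * y * a⁻¹ * a := by group
    _ = y * a := by rw [h2]

end Cfsg.Agent.helper9.StrCl
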