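import Mathlib
import Cfsg.Agent.Lib_helper9_StrCl

set_option autoImplicit false

/-!
helper9: strongly closed `A` with `K = HA`, `H` normal, `A ∩ H = 1`, `O(H) = 1` centralizes `H`.
-/

namespace Cfsg.Agent.helper9.StrCl

open Cfsg

universe u

theorem exists_central_involution {K : Type u} [Group K] [Finite K] (A : Subgroup K)
    (hA : IsPGroup 2 A) (hne : A ≠ ⊥) :
    ∃ a ∈ A, (∀ b ∈ A, b * a = a * b) ∧ orderOf a = 2 := by
  haveI : Fact (Nat.Prime 2) := ⟨Nat.prime_two⟩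
  haveI : Nontrivial A := (Subgroup.nontrivial_iff_ne_bot A).mpr hne
  haveI : Nontrivial (Subgroup.center A) := hA.center_nontrivial
  have hZ : IsPGroup 2 (Subgroup.center A) := hA.to_subgroup _
  obtain ⟨n, hn⟩ := IsPGroup.iff_card.mp hZ
  have hn0 : n ≠ 0 := by
    intro h0
    rw [h0, pow_zero] at hn
    have : Subsingleton (Subgroup.center A) := (Nat.card_eq_one_iff_unique.mp hn).1
    exact not_subsingleton _ this
  have h2 : 2 ∣ Nat.card (Subgroup.center A) := by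
    rw [hn]; exact dvd_pow_self 2 hn0
  obtain ⟨c, hc⟩ := exists_prime_orderOf_dvd_card' (G := Subgroup.center A) 2 h2
  refine ⟨((c : A) : K), (c : A).2, ?_, ?_⟩
  · intro b hb
    have := Subgroup.mem_center_iff.mp c.2 ⟨b, hb⟩
    exact congrArg Subtype.val this
  · rw [Subgroup.orderOf_coe, Subgroup.orderOf_coe]; exact hc

theorem commute_of_top {K : Type u} [Group K] [Finite K] (T : Sylow 2 K)
    (A H : Subgroup K) (hAT : A ≤ T)
    (hsc : ∀ x ∈ A, ∀ k : K, k * x * k⁻¹ ∈ T → k * x * k⁻¹ ∈ A)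
    (hHn : H.Normal) (hgen : ∀ k : K, ∃ h ∈ H, ∃ a ∈ A, k = h * a) (hdisj : A ⊓ H = ⊥)
    (hno : NoOddNormal H) : ∀ a ∈ A, ∀ y ∈ H, a * y = y * a := by
  classical
  haveI : Fact (Nat.Prime 2) := ⟨Nat.prime_two⟩
  let A₁ : Subgroup K := A ⊓ Subgroup.centralizer (H : Set K)
  have hA₁mem : ∀ x, x ∈ A₁ ↔ x ∈ A ∧ ∀ y ∈ H, y * x = x * y := by
    intro x
    show x ∈ A ⊓ Subgroup.centralizer (H : Set K) ↔ _
    rw [Subgroup.mem_inf, Subgroup.mem_centralizer_iff]; rfl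
  have hA₁A : A₁ ≤ A := inf_le_left
  have hA₁n : A₁.Normal := by
    constructor
    intro x hx k
    obtain ⟨h, hh, b, hb, rfl⟩ := hgen k
    rw [hA₁mem] at hx ⊢
    have hx' : b * x * b⁻¹ ∈ A ∧ ∀ y ∈ H, y * (b * x * b⁻¹) = (b * x * b⁻¹) * y := by
      refine ⟨A.mul_mem (A.mul_mem hb hx.1) (A.inv_mem hb), ?_⟩
      intro y hy
      have hy' : b⁻¹ * y * b ∈ H := by
        have := hHn.conj_mem y hy b⁻¹
        simpa using this
      have := hx.2 _ hy'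
      calc y * (b * x * b⁻¹) = b * ((b⁻¹ * y * b) * x) * b⁻¹ := by group
        _ = b * (x * (b⁻¹ * y * b)) * b⁻¹ := by rw [this]
        _ = b * x * b⁻¹ * y := by group
    have e : h * b * x * (h * b)⁻¹ = h * (b * x * b⁻¹) * h⁻¹ := by group
    have e2 : h * (b * x * b⁻¹) * h⁻¹ = b * x * b⁻¹ := by
      rw [hx'.2 h hh]; group
    rw [e, e2]; exact hx'
  by_contra hcon
  push Not at hcon
  obtain ⟨a₀, ha₀A, y₀, hy₀H, hne₀⟩ := hcon
  have ha₀ : a₀ ∉ A₁ := by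
    intro h
    exact hne₀ ((hA₁mem a₀).mp h |>.2 y₀ hy₀H).symm
  let π : K →* K ⧸ A₁ := QuotientGroup.mk' A₁
  have hπs : Function.Surjective π := QuotientGroup.mk'_surjective A₁
  have hker : ∀ x, π x = 1 ↔ x ∈ A₁ := fun x => QuotientGroup.eq_one_iff x
  have hπeq : ∀ x y, π x = π y → x⁻¹ * y ∈ A₁ := by
    intro x y hxy
    rw [← hker, map_mul, map_inv, hxy, inv_mul_cancel]
  let Tb : Sylow 2 (K ⧸ A₁) := T.mapSurjective hπs
  have hTb : ∀ x, x ∈ Tb ↔ x ∈ (T : Subgroup K).map π := fun x => Iff.rfl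
  -- facts in the quotient
  have hscb : ∀ x ∈ A.map π, ∀ k : K ⧸ A₁, k * x * k⁻¹ ∈ Tb → k * x * k⁻¹ ∈ A.map π := by
    rintro _ ⟨x, hx, rfl⟩ kb hk
    obtain ⟨k, rfl⟩ := hπs kb
    rw [hTb] at hk
    obtain ⟨t, ht, hteq⟩ := hk
    have h1 : t⁻¹ * (k * x * k⁻¹) ∈ A₁ := by
      apply hπeq
      rw [hteq, map_mul, map_mul, map_inv]
    have h2 : k * x * k⁻¹ ∈ T := by
      have h3 : t⁻¹ * (k * x * k⁻¹) ∈ (T : Subgroup K) := hAT (hA₁A h1)
      have h4 := (T : Subgroup K).mul_mem ht h3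
      rwa [mul_inv_cancel_left] at h4
    have h5 := hsc x hx k h2
    refine ⟨k * x * k⁻¹, h5, ?_⟩
    rw [map_mul, map_mul, map_inv]
  have hHbn : (H.map π).Normal := hHn.map π hπs
  have hgenb : ∀ k : K ⧸ A₁, ∃ h ∈ H.map π, ∃ a ∈ A.map π, k = h * a := by
    intro kb
    obtain ⟨k, rfl⟩ := hπs kb
    obtain ⟨h, hh, a, ha, rfl⟩ := hgen k
    exact ⟨π h, Subgroup.mem_map_of_mem π hh, π a, Subgroup.mem_map_of_mem π ha, map_mul π h a⟩
  have hdisjb : A.map π ⊓ H.map π = ⊥ := by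
    rw [eq_bot_iff]
    rintro _ ⟨⟨a, ha, rfl⟩, ⟨h, hh, hha⟩⟩
    have h1 : a⁻¹ * h ∈ A₁ := hπeq a h hha.symm
    have h2 : h ∈ A := by
      have := A.mul_mem ha (hA₁A h1)
      rwa [mul_inv_cancel_left] at this
    have h3 : h ∈ A ⊓ H := ⟨h2, hh⟩
    rw [hdisj, Subgroup.mem_bot] at h3
    rw [Subgroup.mem_bot, ← hha, h3, map_one]
  have hnob : NoOddNormal (H.map π) := by
    apply noOddNormal_map π H _ hno
    intro x hx hx1
    have h1 : x ∈ A ⊓ H := ⟨hA₁A ((hker x).mp hx1), hx⟩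
    rw [hdisj, Subgroup.mem_bot] at h1
    exact h1
  have hAb2 : IsPGroup 2 (A.map π) := (T.2.to_le hAT).map π
  have hAbne : A.map π ≠ ⊥ := by
    intro h
    have : π a₀ ∈ A.map π := Subgroup.mem_map_of_mem π ha₀A
    rw [h, Subgroup.mem_bot, hker] at this
    exact ha₀ this
  obtain ⟨ab, habA, habc, hab2⟩ := exists_central_involution (A.map π) hAb2 hAbne
  have hcen := central_involution_centralizes Tb (A.map π) (H.map π) hscb hHbn hgenb hdisjb hnob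
    ab habA habc hab2
  obtain ⟨a, ha, rfl⟩ := habA
  have haA₁ : a ∈ A₁ := by
    rw [hA₁mem]
    refine ⟨ha, ?_⟩
    intro y hy
    have h1 := hcen (π y) (Subgroup.mem_map_of_mem π hy)
    have h2 : a * y * a⁻¹ * y⁻¹ ∈ A₁ := by
      rw [← hker, map_mul, map_mul, map_mul, map_inv, map_inv, h1]
      group
    have h3 : a * y * a⁻¹ * y⁻¹ ∈ A ⊓ H :=
      ⟨hA₁A h2, H.mul_mem (hHn.conj_mem _ hy a) (H.inv_mem hy)⟩
    rw [hdisj, Subgroup.mem_bot] at h3
    have h4 := mul_inv_eq_one.mp h3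
    calc y * a = a * y * a⁻¹ * a := by rw [h4]
      _ = a * y := by group
  have : π a = 1 := (hker a).mpr haA₁
  rw [this, orderOf_one] at hab2
  omega

end Cfsg.Agent.helper9.StrCl
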