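import Mathlib
import Cfsg.Agent.Lib_helper9_Offender7
import Cfsg.Agent.Lib_lead_Wielandt
import Cfsg.Agent.Lib_helper23_TI

set_option autoImplicit false
set_option linter.unusedSectionVars false

/-!
# Two subnormal subgroups acting irreducibly on their commutator modules
(Kurzweil–Stellmacher 9.3.6)
-/

namespace Cfsg.Agent.helper9.SubnPair

open scoped commutatorElement
open Cfsg.Agent.helper7 Cfsg.Agent.helper9.Off

universe u

variable {G : Type u} [Group G] [Finite G] {p : ℕ} [Fact p.Prime]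

/-- the ambient hypotheses. -/
structure Amb (p : ℕ) (V E : Subgroup G) : Prop where
  hV : Cfsg.IsElementaryAbelian p V
  hEV : E ≤ Subgroup.normalizer (V : Set G)
  hf : E ⊓ Subgroup.centralizer (V : Set G) = ⊥
  hNP : ∀ P : Subgroup G, SN P E → IsPGroup p ↥P → P = ⊥

theorem Amb.sub {V E F : Subgroup G} (A : Amb p V E) (hF : SN F E) : Amb p V F :=
  ⟨A.hV, hF.le.trans A.hEV, le_bot_iff.mp ((inf_le_inf_right _ hF.le).trans A.hf.le),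
    fun P hP hPp => A.hNP P (hP.trans hF) hPp⟩

theorem V_comm' {V : Subgroup G} (hV : Cfsg.IsElementaryAbelian p V) :
    V ≤ Subgroup.centralizer (V : Set G) := by
  intro x hx
  rw [Subgroup.mem_centralizer_iff]
  intro y hy
  have := hV.1.is_comm.comm (⟨y, hy⟩ : ↥V) ⟨x, hx⟩
  exact congrArg Subtype.val this

theorem V_le_norm {V X : Subgroup G} (hV : Cfsg.IsElementaryAbelian p V) (hX : X ≤ V) :
    V ≤ Subgroup.normalizer (X : Set G) :=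
  (V_comm' hV).trans ((Subgroup.centralizer_le (SetLike.coe_subset_coe.2 hX)).trans
    (Subgroup.centralizer_le_normalizer _))

theorem stab_pow {V U : Subgroup G} (hexp : ∀ u ∈ U, u ^ p = 1) {x : G}
    (hx1 : ∀ v ∈ V, ⁅v, x⁆ ∈ U) (hx2 : x ∈ Subgroup.centralizer (U : Set G)) :
    x ^ p ∈ Subgroup.centralizer (V : Set G) := by
  rw [Subgroup.mem_centralizer_iff]
  intro v hv
  obtain ⟨w, hw⟩ : ∃ w, w = x * v * x⁻¹ * v⁻¹ := ⟨_, rfl⟩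
  have hwU : w ∈ U := by
    have h1 : ⁅v, x⁆ ∈ U := hx1 v hv
    have h2 : w = (⁅v, x⁆)⁻¹ := by rw [hw, commutatorElement_def]; group
    rw [h2]; exact U.inv_mem h1
  have hxw : x * w = w * x := by
    rw [Subgroup.mem_centralizer_iff] at hx2
    exact (hx2 w hwU).symm
  have hconj : ∀ m : ℕ, x ^ m * v * (x ^ m)⁻¹ = w ^ m * v := by
    intro m
    induction m with
    | zero => simp
    | succ m ih =>
      have hxwm : x * w ^ m = w ^ m * x :=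
        (Commute.pow_right (show Commute x w from hxw) m).eq
      calc x ^ (m + 1) * v * (x ^ (m + 1))⁻¹ = x * (x ^ m * v * (x ^ m)⁻¹) * x⁻¹ := by
            rw [pow_succ']; group
        _ = x * (w ^ m * v) * x⁻¹ := by rw [ih]
        _ = (x * w ^ m) * v * x⁻¹ := by group
        _ = (w ^ m * x) * v * x⁻¹ := by rw [hxwm]
        _ = w ^ m * (x * v * x⁻¹ * v⁻¹) * v := by group
        _ = w ^ m * w * v := by rw [hw]
        _ = w ^ (m + 1) * v := by rw [pow_succ]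
  have h1 := hconj p
  rw [hexp w hwU, one_mul] at h1
  calc v * x ^ p = (x ^ p * v * (x ^ p)⁻¹) * x ^ p := by rw [h1]
    _ = x ^ p * v := by group

theorem Amb.chain_pgroup {V E X U : Subgroup G} (A : Amb p V E) (hXE : X ≤ E) (hUV : U ≤ V)
    (h1 : ⁅V, X⁆ ≤ U) (h2 : X ≤ Subgroup.centralizer (U : Set G)) : IsPGroup p ↥X := by
  intro g
  refine ⟨1, ?_⟩
  rw [pow_one]
  apply Subtype.ext
  rw [Subgroup.coe_pow, Subgroup.coe_one]
  have h3 : (g : G) ^ p ∈ Subgroup.centralizer (V : Set G) :=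
    stab_pow (fun u hu => A.hV.2 u (hUV hu))
      (fun v hv => h1 (Subgroup.commutator_mem_commutator hv g.2)) (h2 g.2)
  have h4 : (g : G) ^ p ∈ E ⊓ Subgroup.centralizer (V : Set G) := ⟨E.pow_mem (hXE g.2) p, h3⟩
  rw [A.hf] at h4
  exact Subgroup.mem_bot.mp h4

theorem stabSub_conj {V W : Subgroup G} {g s : G}
    (hgV : g⁻¹ ∈ Subgroup.normalizer (V : Set G)) (hgW : g ∈ Subgroup.normalizer (W : Set G))
    (hs : s ∈ stabSub V W) : g * s * g⁻¹ ∈ stabSub V W := by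
  refine ⟨Subgroup.mul_mem _ (Subgroup.mul_mem _ hgW hs.1) (Subgroup.inv_mem _ hgW), ?_⟩
  intro v hv
  have hv' : g⁻¹ * v * g⁻¹⁻¹ ∈ V := (Subgroup.mem_normalizer_iff.mp hgV v).mp hv
  have h1 : ⁅g⁻¹ * v * g⁻¹⁻¹, s⁆ ∈ W := hs.2 _ hv'
  have h2 : ⁅v, g * s * g⁻¹⁆ = g * ⁅g⁻¹ * v * g⁻¹⁻¹, s⁆ * g⁻¹ := by
    simp only [commutatorElement_def]; group
  rw [h2]
  exact (Subgroup.mem_normalizer_iff.mp hgW _).mp h1

/-- irreducible action on the commutator. -/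
def Irr (V X : Subgroup G) : Prop :=
  ∀ U : Subgroup G, U ≤ ⁅V, X⁆ → X ≤ Subgroup.normalizer (U : Set G) → U = ⊥ ∨ U = ⁅V, X⁆

theorem comm_cj {V X : Subgroup G} {g : G} (hg : g ∈ Subgroup.normalizer (V : Set G)) :
    ⁅V, cj g X⁆ = cj g ⁅V, X⁆ := by
  rw [cj_commutator, cj_eq_of_mem_normalizer hg]

theorem Irr.conj {V X : Subgroup G} (h : Irr V X) {g : G}
    (hg : g ∈ Subgroup.normalizer (V : Set G)) : Irr V (cj g X) := by
  intro U hU hXU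
  rw [comm_cj hg] at hU ⊢
  have h1 : cj g⁻¹ U ≤ ⁅V, X⁆ := by rw [cj_le_iff, inv_inv]; exact hU
  have h2 : X ≤ Subgroup.normalizer ((cj g⁻¹ U : Subgroup G) : Set G) := by
    calc X = cj g⁻¹ (cj g X) := (cj_inv_cj g X).symm
      _ ≤ cj g⁻¹ (Subgroup.normalizer (U : Set G)) := cj_mono hXU
      _ ≤ _ := Subgroup.le_normalizer_map _
  rcases h _ h1 h2 with h3 | h3
  · left; exact cj_eq_bot_iff.mp h3
  · right
    rw [← h3, cj_cj_inv]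

theorem cj_inj {g : G} {H K : Subgroup G} (h : cj g H = cj g K) : H = K :=
  Subgroup.map_injective (MulAut.conj g).injective h

theorem cj_W_le {V X Y : Subgroup G} (hXV : ⁅V, X⁆ ≤ V) {z : G} (hz : z ∈ Y) :
    cj z ⁅V, X⁆ ≤ ⁅V, X⁆ ⊔ ⁅V, Y⁆ := by
  rintro _ ⟨w, hw, rfl⟩
  simp only [MulEquiv.coe_toMonoidHom, MulAut.conj_apply]
  have h1 : ⁅w, z⁆ ∈ ⁅V, Y⁆ := Subgroup.commutator_mem_commutator (hXV hw) hz
  have h2 : z * w * z⁻¹ = (⁅w, z⁆)⁻¹ * w := by rw [commutatorElement_def]; group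
  rw [h2]
  exact Subgroup.mul_mem _ (Subgroup.mem_sup_right (Subgroup.inv_mem _ h1))
    (Subgroup.mem_sup_left hw)

/-- the case where `E₂` normalizes `[V, E₁]`. -/
theorem lemmaN {V E₁ E₂ : Subgroup G} (A : Amb p V (E₁ ⊔ E₂)) (hirr₂ : Irr V E₂)
    (h21 : ¬ ⁅V, E₂⁆ ≤ ⁅V, E₁⁆)
    (hN : E₂ ≤ Subgroup.normalizer ((⁅V, E₁⁆ : Subgroup G) : Set G)) :
    ⁅E₁, E₂⁆ = ⊥ ∧ ⁅V, E₁⁆ ⊓ ⁅V, E₂⁆ = ⊥ := by
  have hE₁V : E₁ ≤ Subgroup.normalizer (V : Set G) := le_sup_left.trans A.hEV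
  have hE₂V : E₂ ≤ Subgroup.normalizer (V : Set G) := le_sup_right.trans A.hEV
  have hW₁V : ⁅V, E₁⁆ ≤ V := commutator_le_of_normalizer hE₁V
  have hE₁W₁ : E₁ ≤ Subgroup.normalizer ((⁅V, E₁⁆ : Subgroup G) : Set G) := fun x hx =>
    mem_normalizer_commutator (hE₁V hx) (Subgroup.le_normalizer hx)
  have hE₂W₂ : E₂ ≤ Subgroup.normalizer ((⁅V, E₂⁆ : Subgroup G) : Set G) := fun x hx =>
    mem_normalizer_commutator (hE₂V hx) (Subgroup.le_normalizer hx)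
  have hI : ⁅V, E₁⁆ ⊓ ⁅V, E₂⁆ = ⊥ := by
    rcases hirr₂ (⁅V, E₁⁆ ⊓ ⁅V, E₂⁆) inf_le_right
      ((le_inf hN hE₂W₂).trans Subgroup.inf_normalizer_le_normalizer_inf) with h | h
    · exact h
    · exact absurd (inf_eq_right.mp h) h21
  refine ⟨?_, hI⟩
  have hE₂c : E₂ ≤ Subgroup.centralizer ((⁅V, E₁⁆ : Subgroup G) : Set G) := by
    apply Subgroup.le_centralizer_iff.mp
    apply Subgroup.commutator_eq_bot_iff_le_centralizer.mp
    rw [eq_bot_iff, ← hI]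
    exact le_inf (commutator_le_of_normalizer hN) (Subgroup.commutator_mono hW₁V le_rfl)
  have hXE : ⁅E₁, E₂⁆ ≤ E₁ ⊔ E₂ :=
    (Subgroup.commutator_mono le_sup_left le_sup_right).trans
      (commutator_le_of_normalizer Subgroup.le_normalizer)
  have hXc : ⁅E₁, E₂⁆ ≤ Subgroup.centralizer ((⁅V, E₁⁆ : Subgroup G) : Set G) := by
    rw [Subgroup.commutator_le]
    intro e₁ h₁ e₂ h₂
    rw [commutatorElement_def]
    exact Subgroup.mul_mem _ (normalizer_le_normalizer_centralizer' _ (hE₁W₁ h₁) (hE₂c h₂))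
      (Subgroup.inv_mem _ (hE₂c h₂))
  have hXs : ⁅E₁, E₂⁆ ≤ stabSub V ⁅V, E₁⁆ := by
    rw [Subgroup.commutator_le]
    intro e₁ h₁ e₂ h₂
    have e : ⁅e₁, e₂⁆ = e₁ * (e₂ * e₁⁻¹ * e₂⁻¹) := by rw [commutatorElement_def]; group
    rw [e]
    have hs : E₁ ≤ stabSub V ⁅V, E₁⁆ := le_stabSub hE₁W₁ le_rfl
    exact Subgroup.mul_mem _ (hs h₁)
      (stabSub_conj (hE₂V (E₂.inv_mem h₂)) (hN h₂) (Subgroup.inv_mem _ (hs h₁)))
  have hXp : IsPGroup p ↥⁅E₁, E₂⁆ :=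
    A.chain_pgroup hXE hW₁V (commutator_le_of_le_stabSub hXs) hXc
  have hXn : E₁ ⊔ E₂ ≤ Subgroup.normalizer ((⁅E₁, E₂⁆ : Subgroup G) : Set G) := by
    apply sup_le (Cfsg.Agent.lead.le_normalizer_commutator_left E₁ E₂)
    rw [Subgroup.commutator_comm]
    exact Cfsg.Agent.lead.le_normalizer_commutator_left E₂ E₁
  exact A.hNP _ (SN.of_normal hXE hXn) hXp

/-- the statement proved by induction on `|⟨E₁, E₂⟩|`. -/
def Stmt (G : Type u) [Group G] (p n : ℕ) : Prop :=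
  ∀ (V E₁ E₂ : Subgroup G), Nat.card ↥(E₁ ⊔ E₂) = n → Amb p V (E₁ ⊔ E₂) →
    SN E₁ (E₁ ⊔ E₂) → SN E₂ (E₁ ⊔ E₂) → Irr V E₁ → Irr V E₂ →
    ¬ ⁅V, E₁⁆ ≤ ⁅V, E₂⁆ → ¬ ⁅V, E₂⁆ ≤ ⁅V, E₁⁆ → 2 < Nat.card E₁ → 2 < Nat.card E₂ →
    ⁅E₁, E₂⁆ = ⊥ ∧ ⁅V, E₁⁆ ⊓ ⁅V, E₂⁆ = ⊥

theorem key {n : ℕ} (IH : ∀ m < n, Stmt G p m) {V E X : Subgroup G} (hn : Nat.card E = n)
    (A : Amb p V E) (hX : SN X E) (hXne : X ≠ E) (hirr : Irr V X) (hc : 2 < Nat.card X) :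
    ∀ g ∈ E, ∀ h ∈ E, cj g ⁅V, X⁆ ≠ cj h ⁅V, X⁆ →
      ⁅cj g X, cj h X⁆ = ⊥ ∧ cj g ⁅V, X⁆ ⊓ cj h ⁅V, X⁆ = ⊥ := by
  intro g hg h hh hne
  obtain ⟨M, hXM, hME, hEM, hMne⟩ := hX.exists_normal hXne
  have hcjE : ∀ k ∈ E, cj k E = E := fun k hk =>
    cj_eq_of_mem_normalizer (Subgroup.le_normalizer hk)
  have hcjM : ∀ k ∈ E, cj k X ≤ M := fun k hk => by
    calc cj k X ≤ cj k M := cj_mono hXM
      _ = M := cj_eq_of_mem_normalizer (hEM hk)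
  have hSNk : ∀ k ∈ E, SN (cj k X) E := fun k hk => by
    have := hX.conj k
    rwa [hcjE k hk] at this
  have hFM : cj g X ⊔ cj h X ≤ M := sup_le (hcjM g hg) (hcjM h hh)
  have hFE : cj g X ⊔ cj h X ≤ E := hFM.trans hME
  have hlt : Nat.card ↥(cj g X ⊔ cj h X) < n := by
    have h1 := Subgroup.card_le_of_le hFM
    have h2 : Nat.card M < Nat.card E := by
      by_contra hcon
      push Not at hcon
      exact hMne (Subgroup.eq_of_le_of_card_ge hME hcon)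
    omega
  have hSNF : SN (cj g X ⊔ cj h X) E := Cfsg.Agent.lead.SN.sup (hSNk g hg) (hSNk h hh)
  have hWg := comm_cj (V := V) (X := X) (A.hEV hg)
  have hWh := comm_cj (V := V) (X := X) (A.hEV hh)
  have hinc : ∀ {U U' : Subgroup G}, Nat.card U = Nat.card U' → U ≠ U' → ¬ U ≤ U' := by
    intro U U' hcard hne' hle
    exact hne' (Subgroup.eq_of_le_of_card_ge hle hcard.ge)
  have hcards : Nat.card ↥(cj g ⁅V, X⁆) = Nat.card ↥(cj h ⁅V, X⁆) := by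
    rw [card_cj, card_cj]
  have := IH _ hlt V (cj g X) (cj h X) rfl (A.sub hSNF)
    ((hSNk g hg).of_le le_sup_left hFE) ((hSNk h hh).of_le le_sup_right hFE)
    (hirr.conj (A.hEV hg)) (hirr.conj (A.hEV hh))
    (by rw [hWg, hWh]; exact hinc hcards hne)
    (by rw [hWg, hWh]; exact hinc hcards.symm hne.symm)
    (by rw [card_cj]; exact hc) (by rw [card_cj]; exact hc)
  rw [hWg, hWh] at this
  exact this

theorem card_sup_of_inf_bot {V X Y : Subgroup G} (hV : Cfsg.IsElementaryAbelian p V)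
    (hX : X ≤ V) (hY : Y ≤ V) :
    Nat.card ↥(X ⊔ Y) * Nat.card ↥(X ⊓ Y) = Nat.card X * Nat.card Y :=
  Cfsg.Agent.helper15.card_sup_mul_card_inf_of_le_normalizer X Y (hX.trans (V_le_norm hV hY))

theorem main : ∀ n : ℕ, Stmt G p n := by
  intro n
  induction n using Nat.strong_induction_on with
  | _ n IH =>
  intro V E₁ E₂ hn A hs₁ hs₂ hirr₁ hirr₂ h12 h21 hc₁ hc₂
  by_cases hN1 : E₂ ≤ Subgroup.normalizer ((⁅V, E₁⁆ : Subgroup G) : Set G)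
  · exact lemmaN A hirr₂ h21 hN1
  by_cases hN2 : E₁ ≤ Subgroup.normalizer ((⁅V, E₂⁆ : Subgroup G) : Set G)
  · have A' : Amb p V (E₂ ⊔ E₁) := by rw [sup_comm]; exact A
    obtain ⟨h1, h2⟩ := lemmaN A' hirr₁ h12 hN2
    exact ⟨by rw [Subgroup.commutator_comm]; exact h1, by rw [inf_comm]; exact h2⟩
  exfalso
  have hE₁E : E₁ ≤ E₁ ⊔ E₂ := le_sup_left
  have hE₂E : E₂ ≤ E₁ ⊔ E₂ := le_sup_right
  have hE₁V : E₁ ≤ Subgroup.normalizer (V : Set G) := hE₁E.trans A.hEV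
  have hE₂V : E₂ ≤ Subgroup.normalizer (V : Set G) := hE₂E.trans A.hEV
  have hW₁V : ⁅V, E₁⁆ ≤ V := commutator_le_of_normalizer hE₁V
  have hW₂V : ⁅V, E₂⁆ ≤ V := commutator_le_of_normalizer hE₂V
  have hE₁W₁ : E₁ ≤ Subgroup.normalizer ((⁅V, E₁⁆ : Subgroup G) : Set G) := fun x hx =>
    mem_normalizer_commutator (hE₁V hx) (Subgroup.le_normalizer hx)
  have hE₂W₂ : E₂ ≤ Subgroup.normalizer ((⁅V, E₂⁆ : Subgroup G) : Set G) := fun x hx =>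
    mem_normalizer_commutator (hE₂V hx) (Subgroup.le_normalizer hx)
  have hne₁ : E₁ ≠ E₁ ⊔ E₂ := by
    intro h
    apply h21
    have : E₂ ≤ E₁ := by rw [h]; exact le_sup_right
    exact Subgroup.commutator_mono le_rfl this
  have hne₂ : E₂ ≠ E₁ ⊔ E₂ := by
    intro h
    apply h12
    have : E₁ ≤ E₂ := by rw [h]; exact le_sup_left
    exact Subgroup.commutator_mono le_rfl this
  have K₁ := key IH hn A hs₁ hne₁ hirr₁ hc₁
  have K₂ := key IH hn A hs₂ hne₂ hirr₂ hc₂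
  obtain ⟨x, hxE₂, hxN⟩ := SetLike.not_le_iff_exists.mp hN1
  obtain ⟨y, hyE₁, hyN⟩ := SetLike.not_le_iff_exists.mp hN2
  have hxW : cj x ⁅V, E₁⁆ ≠ ⁅V, E₁⁆ := fun h => hxN (mem_normalizer_of_cj_eq h)
  have hyW : cj y ⁅V, E₂⁆ ≠ ⁅V, E₂⁆ := fun h => hyN (mem_normalizer_of_cj_eq h)
  have h1E : (1 : G) ∈ E₁ ⊔ E₂ := Subgroup.one_mem _
  -- (i)
  obtain ⟨hc1, hi1⟩ := K₁ x (hE₂E hxE₂) 1 h1E (by rw [cj_one]; exact hxW)
  obtain ⟨-, hi2⟩ := K₂ y (hE₁E hyE₁) 1 h1E (by rw [cj_one]; exact hyW)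
  rw [cj_one] at hc1 hi1 hi2
  -- (ii)
  have hle1 : ∀ z ∈ E₂, cj z ⁅V, E₁⁆ ≤ ⁅V, E₁⁆ ⊔ ⁅V, E₂⁆ := fun z hz => cj_W_le hW₁V hz
  have hle2 : ∀ z ∈ E₁, cj z ⁅V, E₂⁆ ≤ ⁅V, E₁⁆ ⊔ ⁅V, E₂⁆ := fun z hz => by
    rw [sup_comm]; exact cj_W_le hW₂V hz
  -- (iii)
  have hcjW₁V : cj x ⁅V, E₁⁆ ≤ V := (hle1 x hxE₂).trans (sup_le hW₁V hW₂V)
  have hcjW₂V : cj y ⁅V, E₂⁆ ≤ V := (hle2 y hyE₁).trans (sup_le hW₁V hW₂V)
  have e1 := card_sup_of_inf_bot A.hV hcjW₁V hW₁V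
  rw [hi1, Subgroup.card_bot, mul_one, card_cj] at e1
  have e2 := card_sup_of_inf_bot A.hV hcjW₂V hW₂V
  rw [hi2, Subgroup.card_bot, mul_one, card_cj] at e2
  have e3 := card_sup_of_inf_bot A.hV hW₁V hW₂V
  have l1 : Nat.card ↥(cj x ⁅V, E₁⁆ ⊔ ⁅V, E₁⁆) ≤ Nat.card ↥(⁅V, E₁⁆ ⊔ ⁅V, E₂⁆) :=
    Subgroup.card_le_of_le (sup_le (hle1 x hxE₂) le_sup_left)
  have l2 : Nat.card ↥(cj y ⁅V, E₂⁆ ⊔ ⁅V, E₂⁆) ≤ Nat.card ↥(⁅V, E₁⁆ ⊔ ⁅V, E₂⁆) :=
    Subgroup.card_le_of_le (sup_le (hle2 y hyE₁) le_sup_right)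
  have q1pos : 0 < Nat.card ↥(⁅V, E₁⁆) := Nat.card_pos
  have q2pos : 0 < Nat.card ↥(⁅V, E₂⁆) := Nat.card_pos
  have ipos : 0 < Nat.card ↥(⁅V, E₁⁆ ⊓ ⁅V, E₂⁆) := Nat.card_pos
  have hq : Nat.card ↥(⁅V, E₁⁆) = Nat.card ↥(⁅V, E₂⁆) := by
    rw [e1] at l1
    rw [e2] at l2
    have h3 : Nat.card ↥(⁅V, E₁⁆ ⊔ ⁅V, E₂⁆) ≤ Nat.card ↥(⁅V, E₁⁆) * Nat.card ↥(⁅V, E₂⁆) := by
      rw [← e3]
      exact Nat.le_mul_of_pos_right _ ipos
    have h4 : Nat.card ↥(⁅V, E₁⁆) ≤ Nat.card ↥(⁅V, E₂⁆) :=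
      Nat.le_of_mul_le_mul_left (l1.trans h3) q1pos
    have h5 : Nat.card ↥(⁅V, E₂⁆) ≤ Nat.card ↥(⁅V, E₁⁆) := by
      have := l2.trans h3
      rw [mul_comm (Nat.card ↥(⁅V, E₁⁆))] at this
      exact Nat.le_of_mul_le_mul_left this q2pos
    exact le_antisymm h4 h5
  have hI : ⁅V, E₁⁆ ⊓ ⁅V, E₂⁆ = ⊥ := by
    rw [← Subgroup.card_eq_one]
    rw [e1] at l1
    rw [← hq] at e3
    have h3 : Nat.card ↥(⁅V, E₁⁆ ⊔ ⁅V, E₂⁆) * Nat.card ↥(⁅V, E₁⁆ ⊓ ⁅V, E₂⁆) ≤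
        Nat.card ↥(⁅V, E₁⁆ ⊔ ⁅V, E₂⁆) * 1 := by
      rw [e3, mul_one]; exact l1
    have h4 := Nat.le_of_mul_le_mul_left h3 (lt_of_lt_of_le (Nat.mul_pos q1pos q1pos) l1)
    omega
  have hU : cj x ⁅V, E₁⁆ ⊔ ⁅V, E₁⁆ = ⁅V, E₁⁆ ⊔ ⁅V, E₂⁆ := by
    apply Subgroup.eq_of_le_of_card_ge (sup_le (hle1 x hxE₂) le_sup_left)
    rw [e1]
    rw [hI, Subgroup.card_bot, mul_one, ← hq] at e3
    exact e3.le
  -- `U` is invariant, `C_E(U) = 1`
  have hE₁U : E₁ ≤ Subgroup.normalizer ((⁅V, E₁⁆ ⊔ ⁅V, E₂⁆ : Subgroup G) : Set G) := by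
    intro z hz
    apply mem_normalizer_of_cj_eq
    apply Subgroup.eq_of_le_of_card_ge _ (by rw [card_cj])
    have h1 : cj z (⁅V, E₁⁆ ⊔ ⁅V, E₂⁆) = cj z ⁅V, E₁⁆ ⊔ cj z ⁅V, E₂⁆ := Subgroup.map_sup _ _ _
    rw [h1, cj_eq_of_mem_normalizer (hE₁W₁ hz)]
    exact sup_le le_sup_left (hle2 z hz)
  have hE₂U : E₂ ≤ Subgroup.normalizer ((⁅V, E₁⁆ ⊔ ⁅V, E₂⁆ : Subgroup G) : Set G) := by
    intro z hz
    apply mem_normalizer_of_cj_eq
    apply Subgroup.eq_of_le_of_card_ge _ (by rw [card_cj])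
    have h1 : cj z (⁅V, E₁⁆ ⊔ ⁅V, E₂⁆) = cj z ⁅V, E₁⁆ ⊔ cj z ⁅V, E₂⁆ := Subgroup.map_sup _ _ _
    rw [h1, cj_eq_of_mem_normalizer (hE₂W₂ hz)]
    exact sup_le (hle1 z hz) le_sup_right
  have hEU : E₁ ⊔ E₂ ≤ Subgroup.normalizer ((⁅V, E₁⁆ ⊔ ⁅V, E₂⁆ : Subgroup G) : Set G) :=
    sup_le hE₁U hE₂U
  have hEs : E₁ ⊔ E₂ ≤ stabSub V (⁅V, E₁⁆ ⊔ ⁅V, E₂⁆) :=
    sup_le (le_stabSub hE₁U le_sup_left) (le_stabSub hE₂U le_sup_right)
  have hCU : (E₁ ⊔ E₂) ⊓ Subgroup.centralizer ((⁅V, E₁⁆ ⊔ ⁅V, E₂⁆ : Subgroup G) : Set G) = ⊥ := by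
    apply A.hNP
    · apply SN.of_normal inf_le_left
      exact (le_inf Subgroup.le_normalizer (le_normalizer_centralizer hEU)).trans
        Subgroup.inf_normalizer_le_normalizer_inf
    · exact A.chain_pgroup inf_le_left (sup_le hW₁V hW₂V)
        ((Subgroup.commutator_mono le_rfl inf_le_left).trans (commutator_le_of_le_stabSub hEs))
        inf_le_right
  -- (iv)
  have hiv : ∀ z ∈ E₂, cj z ⁅V, E₁⁆ = ⁅V, E₁⁆ ∨ cj z ⁅V, E₁⁆ = cj x ⁅V, E₁⁆ := by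
    intro z hz
    by_contra hcon
    push Not at hcon
    obtain ⟨hz1, hzx⟩ := hcon
    have hzE : z ∈ E₁ ⊔ E₂ := hE₂E hz
    obtain ⟨hca, hia⟩ := K₁ z hzE 1 h1E (by rw [cj_one]; exact hz1)
    rw [cj_one] at hca hia
    obtain ⟨hcb, hib⟩ := K₁ z hzE x (hE₂E hxE₂) hzx
    have hzV : z ∈ Subgroup.normalizer (V : Set G) := hE₂V hz
    have hxV : x ∈ Subgroup.normalizer (V : Set G) := hE₂V hxE₂
    have hFV : cj z E₁ ≤ Subgroup.normalizer (V : Set G) := by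
      have := SN.le (hs₁.conj z)
      rw [cj_eq_of_mem_normalizer (Subgroup.le_normalizer hzE)] at this
      exact this.trans A.hEV
    have hFE : cj z E₁ ≤ E₁ ⊔ E₂ := by
      have := SN.le (hs₁.conj z)
      rwa [cj_eq_of_mem_normalizer (Subgroup.le_normalizer hzE)] at this
    -- `cj z E₁` centralizes `W₁`
    have hcW₁ : cj z E₁ ≤ Subgroup.centralizer ((⁅V, E₁⁆ : Subgroup G) : Set G) := by
      have hn : cj z E₁ ≤ Subgroup.normalizer ((⁅V, E₁⁆ : Subgroup G) : Set G) := fun k hk =>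
        mem_normalizer_commutator (hFV hk)
          (Subgroup.centralizer_le_normalizer _
            ((Subgroup.commutator_eq_bot_iff_le_centralizer.mp hca) hk))
      apply Subgroup.le_centralizer_iff.mp
      apply Subgroup.commutator_eq_bot_iff_le_centralizer.mp
      rw [eq_bot_iff, ← hia, inf_comm]
      apply le_inf (commutator_le_of_normalizer hn)
      rw [← comm_cj hzV]
      exact Subgroup.commutator_mono hW₁V le_rfl
    have hcW₁' : cj z E₁ ≤ Subgroup.centralizer ((cj x ⁅V, E₁⁆ : Subgroup G) : Set G) := by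
      have hn : cj z E₁ ≤ Subgroup.normalizer ((cj x ⁅V, E₁⁆ : Subgroup G) : Set G) := by
        intro k hk
        rw [← comm_cj hxV]
        exact mem_normalizer_commutator (hFV hk)
          (Subgroup.centralizer_le_normalizer _
            ((Subgroup.commutator_eq_bot_iff_le_centralizer.mp hcb) hk))
      apply Subgroup.le_centralizer_iff.mp
      apply Subgroup.commutator_eq_bot_iff_le_centralizer.mp
      rw [eq_bot_iff, ← hib, inf_comm]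
      apply le_inf (commutator_le_of_normalizer hn)
      rw [← comm_cj hzV]
      exact Subgroup.commutator_mono hcjW₁V le_rfl
    have hcU : cj z E₁ ≤ Subgroup.centralizer ((cj z ⁅V, E₁⁆ : Subgroup G) : Set G) := by
      have h1 : cj z E₁ ≤ Subgroup.centralizer
          ((cj x ⁅V, E₁⁆ ⊔ ⁅V, E₁⁆ : Subgroup G) : Set G) := by
        rw [Cfsg.Agent.helper15.centralizer_sup_eq]
        exact le_inf hcW₁' hcW₁
      rw [hU] at h1
      exact h1.trans (Subgroup.centralizer_le (SetLike.coe_subset_coe.2 (hle1 z hz)))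
    have hpg : IsPGroup p ↥(cj z E₁) :=
      A.chain_pgroup hFE ((hle1 z hz).trans (sup_le hW₁V hW₂V)) (comm_cj hzV).le hcU
    have hSN : SN (cj z E₁) (E₁ ⊔ E₂) := by
      have := hs₁.conj z
      rwa [cj_eq_of_mem_normalizer (Subgroup.le_normalizer hzE)] at this
    have hbot := A.hNP _ hSN hpg
    have hcard : Nat.card ↥(cj z E₁) = 1 := by rw [hbot, Subgroup.card_bot]
    rw [card_cj] at hcard
    omega
  -- (v)
  have hx2 : cj x (cj x ⁅V, E₁⁆) = ⁅V, E₁⁆ := by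
    rw [cj_cj]
    rcases hiv (x * x) (E₂.mul_mem hxE₂ hxE₂) with h | h
    · exact h
    · exfalso
      rw [← cj_cj] at h
      exact hxW (cj_inj h)
  have hE0c : E₂ ⊓ Subgroup.normalizer ((⁅V, E₁⁆ : Subgroup G) : Set G) ≤
      (E₁ ⊔ E₂) ⊓ Subgroup.centralizer ((⁅V, E₁⁆ ⊔ ⁅V, E₂⁆ : Subgroup G) : Set G) := by
    apply le_inf (inf_le_left.trans hE₂E)
    rw [← hU, Cfsg.Agent.helper15.centralizer_sup_eq]
    apply le_inf
    · -- centralizes `cj x W₁`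
      have hn : E₂ ⊓ Subgroup.normalizer ((⁅V, E₁⁆ : Subgroup G) : Set G) ≤
          Subgroup.normalizer ((cj x ⁅V, E₁⁆ : Subgroup G) : Set G) := by
        rintro z ⟨hz, hzN⟩
        apply mem_normalizer_of_cj_eq
        rw [cj_cj]
        rcases hiv (z * x) (E₂.mul_mem hz hxE₂) with h | h
        · exfalso
          rw [← cj_cj] at h
          have h2 : cj z ⁅V, E₁⁆ = ⁅V, E₁⁆ := cj_eq_of_mem_normalizer hzN
          exact hxW (cj_inj (h.trans h2.symm))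
        · exact h
      have hbot : cj x ⁅V, E₁⁆ ⊓ ⁅V, E₂⁆ = ⊥ := by
        have h1 : cj x (⁅V, E₁⁆ ⊓ ⁅V, E₂⁆) = cj x ⁅V, E₁⁆ ⊓ cj x ⁅V, E₂⁆ :=
          Subgroup.map_inf _ _ _ (MulAut.conj x).injective
        rw [hI, cj_bot, cj_eq_of_mem_normalizer (hE₂W₂ hxE₂)] at h1
        exact h1.symm
      apply Subgroup.le_centralizer_iff.mp
      apply Subgroup.commutator_eq_bot_iff_le_centralizer.mp
      rw [eq_bot_iff, ← hbot]
      exact le_inf (commutator_le_of_normalizer hn)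
        (Subgroup.commutator_mono hcjW₁V inf_le_left)
    · apply Subgroup.le_centralizer_iff.mp
      apply Subgroup.commutator_eq_bot_iff_le_centralizer.mp
      rw [eq_bot_iff, ← hI]
      exact le_inf (commutator_le_of_normalizer inf_le_right)
        (Subgroup.commutator_mono hW₁V inf_le_left)
  rw [hCU] at hE0c
  have hE0 : ∀ z ∈ E₂, z ∈ Subgroup.normalizer ((⁅V, E₁⁆ : Subgroup G) : Set G) → z = 1 :=
    fun z hz hzN => Subgroup.mem_bot.mp (hE0c ⟨hz, hzN⟩)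
  -- (vi)
  have hsub : (E₂ : Set G) ⊆ {1, x} := by
    intro z hz
    rcases hiv z hz with h | h
    · left
      exact hE0 z hz (mem_normalizer_of_cj_eq h)
    · right
      have h2 : cj (x⁻¹ * z) ⁅V, E₁⁆ = ⁅V, E₁⁆ := by
        rw [← cj_cj, h, cj_inv_cj]
      have h3 := hE0 (x⁻¹ * z) (E₂.mul_mem (E₂.inv_mem hxE₂) hz) (mem_normalizer_of_cj_eq h2)
      show z = x
      calc z = x * (x⁻¹ * z) := by group
        _ = x := by rw [h3, mul_one]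
  have hcard : Nat.card ↥E₂ ≤ 2 := by
    have h1 : Nat.card ↥E₂ = (E₂ : Set G).ncard := Nat.card_coe_set_eq _
    rw [h1]
    calc (E₂ : Set G).ncard ≤ ({1, x} : Set G).ncard := Set.ncard_le_ncard hsub (Set.toFinite _)
      _ ≤ ({x} : Set G).ncard + 1 := Set.ncard_insert_le 1 {x}
      _ = 2 := by rw [Set.ncard_singleton]
  omega

end Cfsg.Agent.helper9.SubnPair
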