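import Mathlib
import Cfsg.Agent.Lib_helper4_PS2
import Cfsg.Agent.Lib_helper15_CharP
import Cfsg.Agent.Lib_helper9_Offender8

set_option autoImplicit false
set_option linter.unusedSectionVars false

/-!
# Failure of Thompson factorization: transport to the model `V ⋊ G/C_G(V)`
(Kurzweil–Stellmacher 9.3.9/9.3.10 set-up)
-/

namespace Cfsg.Agent.helper9.TFModel

open Cfsg.Agent.helper4.PS Cfsg.Agent.helper23 Cfsg.Agent.helper9.Off
open scoped commutatorElement

section general

variable {G : Type*} [Group G]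

/-- `PSReach` restricts to subgroups. -/
theorem psreach_sub {p : ℕ} (hp : p.Prime) (H : Subgroup G) {N : Subgroup G}
    (h : PSReach p N) : PSReach p (N.subgroupOf H) := by
  induction h with
  | bot => rw [Subgroup.bot_subgroupOf]; exact PSReach.bot
  | step K L hK hKL hn hfac ih =>
    have hKn : K.Normal := hK.normal
    refine PSReach.step _ _ ih (Subgroup.subgroupOf_mono H hKL) ?_ ?_
    · exact Subgroup.normal_subgroupOf
    · have e1 : (K.subgroupOf H).relIndex (L.subgroupOf H) = (K ⊓ H).relIndex (L ⊓ H) := by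
        show (K.comap H.subtype).relIndex (L.subgroupOf H) = _
        rw [Subgroup.relIndex_comap, Subgroup.subgroupOf_map_subtype,
          ← Subgroup.inf_relIndex_right K (L ⊓ H), ← Subgroup.inf_relIndex_right (K ⊓ H) (L ⊓ H)]
        congr 1
        ext x
        simp only [Subgroup.mem_inf]
        constructor
        · rintro ⟨h1, h2, h3⟩; exact ⟨⟨h1, h3⟩, h2, h3⟩
        · rintro ⟨⟨h1, h3⟩, h2, -⟩; exact ⟨h1, h2, h3⟩
      have hd : (K.subgroupOf H).relIndex (L.subgroupOf H) ∣ K.relIndex L := by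
        rw [e1]; exact relIndex_inf_dvd hKn hKL
      rcases hfac with ⟨m, hm⟩ | hcop
      · left
        rw [hm] at hd
        obtain ⟨j, -, hj⟩ := (Nat.dvd_prime_pow hp).1 hd
        exact ⟨j, hj⟩
      · right
        exact Nat.Coprime.coprime_dvd_left hd hcop

/-- subgroups of `p`-solvable groups are `p`-solvable -/
theorem isPSolvable_sub {p : ℕ} (hp : p.Prime) (h : Cfsg.IsPSolvable p G) (H : Subgroup G) :
    Cfsg.IsPSolvable p H := by
  rw [isPSolvable_iff_psreach] at h ⊢
  have := psreach_sub hp H h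
  rwa [Subgroup.top_subgroupOf] at this

/-- `O_p` of a normal subgroup lies in `O_p` of the group. -/
theorem pCore_sub_eq_bot [Finite G] {p : ℕ} [Fact p.Prime] (N : Subgroup G) [hN : N.Normal]
    (h : Cfsg.pCore p G = ⊥) : Cfsg.pCore p ↥N = ⊥ := by
  have h2 : ((Cfsg.pCore p ↥N).map N.subtype) ≤ Cfsg.pCore p G := by
    apply Cfsg.Agent.helper1.le_pCore
    · constructor
      rintro _ ⟨t, ht, rfl⟩ x
      have h3 := Cfsg.Agent.helper15.pCore_map_equiv p (MulAut.conjNormal x : ↥N ≃* ↥N)
      have ht' : (MulAut.conjNormal x : ↥N ≃* ↥N) t ∈ Cfsg.pCore p ↥N := by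
        rw [← h3]; exact ⟨t, ht, rfl⟩
      exact ⟨_, ht', by simp [MulAut.conjNormal_apply]⟩
    · exact (Cfsg.Agent.helper1.pCore_isPGroup p).map _
  rw [h] at h2
  exact (Subgroup.map_eq_bot_iff_of_injective _ N.subtype_injective).mp (le_bot_iff.mp h2)

theorem card_eq_inf_mul_map {G' : Type*} [Group G'] (f : G →* G') (B : Subgroup G) :
    Nat.card B = Nat.card ↥(B ⊓ f.ker) * Nat.card (B.map f) := by
  rw [← Subgroup.relIndex_ker B f, ← Subgroup.inf_relIndex_right,
    ← Subgroup.relIndex_bot_left (B ⊓ f.ker), ← Subgroup.relIndex_bot_left B, inf_comm]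
  exact (Subgroup.relIndex_mul_relIndex ⊥ (f.ker ⊓ B) B bot_le inf_le_right).symm

end general

section model

variable {G : Type*} [Group G] (V : Subgroup G) [V.Normal]

/-- the map `G → V ⋊ G/C_G(V)` -/
noncomputable def toM : G →* Model V :=
  (SemidirectProduct.inr).comp (QuotientGroup.mk' (Subgroup.centralizer (V : Set G)))

theorem toM_apply (g : G) : toM V g = SemidirectProduct.inr (QuotientGroup.mk g) := rfl

theorem toM_ker : (toM V).ker = Subgroup.centralizer (V : Set G) := by
  ext x
  rw [MonoidHom.mem_ker, toM_apply]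
  constructor
  · intro h
    have h1 : (QuotientGroup.mk x : G ⧸ Subgroup.centralizer (V : Set G)) = 1 :=
      SemidirectProduct.inr_injective (by rw [h, map_one])
    exact (QuotientGroup.eq_one_iff x).mp h1
  · intro h
    rw [(QuotientGroup.eq_one_iff x).mpr h, map_one]

theorem toM_range : (toM V).range = mH' V := by
  ext x
  constructor
  · rintro ⟨g, rfl⟩
    exact ⟨_, rfl⟩
  · rintro ⟨q, rfl⟩
    obtain ⟨g, rfl⟩ := QuotientGroup.mk_surjective q
    exact ⟨g, rfl⟩

theorem toM_mul_inl (g : G) (v : V) :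
    toM V g * SemidirectProduct.inl v =
      SemidirectProduct.inl (⟨g * v * g⁻¹, (‹V.Normal›).conj_mem v v.2 g⟩ : V) * toM V g := by
  rw [toM_apply, inr_mul_inl]
  congr 2

/-- fixed points in the model -/
theorem fix_model (A : Subgroup G) :
    mV' V ⊓ Subgroup.centralizer ((A.map (toM V) : Subgroup (Model V)) : Set (Model V)) =
      ((V ⊓ Subgroup.centralizer (A : Set G)).subgroupOf V).map SemidirectProduct.inl := by
  ext x
  constructor
  · rintro ⟨⟨v, rfl⟩, hx⟩
    refine ⟨v, ?_, rfl⟩
    rw [SetLike.mem_coe, Subgroup.mem_subgroupOf]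
    refine ⟨v.2, ?_⟩
    show (v : G) ∈ Subgroup.centralizer (A : Set G)
    rw [Subgroup.mem_centralizer_iff]
    intro a ha
    have hx' : (SemidirectProduct.inl v : Model V) ∈
        Subgroup.centralizer ((A.map (toM V) : Subgroup (Model V)) : Set (Model V)) := hx
    rw [Subgroup.mem_centralizer_iff] at hx'
    have h1 := hx' (toM V a) ⟨a, ha, rfl⟩
    rw [toM_mul_inl] at h1
    have h2 := SemidirectProduct.inl_injective (mul_right_cancel h1)
    have h3 : a * (v : G) * a⁻¹ = v := congrArg Subtype.val h2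
    calc a * (v : G) = (a * v * a⁻¹) * a := by group
      _ = v * a := by rw [h3]
  · rintro ⟨v, hv, rfl⟩
    rw [SetLike.mem_coe, Subgroup.mem_subgroupOf] at hv
    refine ⟨⟨v, rfl⟩, ?_⟩
    show (SemidirectProduct.inl v : Model V) ∈
        Subgroup.centralizer ((A.map (toM V) : Subgroup (Model V)) : Set (Model V))
    rw [Subgroup.mem_centralizer_iff]
    rintro _ ⟨a, ha, rfl⟩
    rw [toM_mul_inl]
    congr 2
    apply Subtype.ext
    have := (Subgroup.mem_centralizer_iff.mp hv.2) a ha
    show a * (v : G) * a⁻¹ = v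
    calc a * (v : G) * a⁻¹ = (v * a) * a⁻¹ := by rw [this]
      _ = v := by group

theorem card_fix_model (A : Subgroup G) :
    Nat.card ↥(mV' V ⊓ Subgroup.centralizer ((A.map (toM V) : Subgroup (Model V)) :
      Set (Model V))) = Nat.card ↥(V ⊓ Subgroup.centralizer (A : Set G)) := by
  rw [fix_model, Subgroup.card_map_of_injective SemidirectProduct.inl_injective]
  exact Nat.card_congr (Subgroup.subgroupOfEquivOfLe inf_le_left).toEquiv

variable [Finite G] {p : ℕ} [Fact p.Prime]

/-- best offenders on `V` map to best offenders on the model of `V`. -/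
theorem best_model {A : Subgroup G} (hA : Cfsg.IsBestOffenderOn p V A) :
    Cfsg.IsBestOffenderOn p (mV' V) (A.map (toM V)) := by
  obtain ⟨h1, h2, h3⟩ := hA
  have hcomm : ∀ x ∈ A.map (toM V), ∀ y ∈ A.map (toM V), x * y = y * x := by
    rintro _ ⟨a, ha, rfl⟩ _ ⟨b, hb, rfl⟩
    have hab : ⁅a, b⁆ ∈ (toM V).ker := by
      rw [toM_ker]; exact h2 (Subgroup.commutator_mem_commutator ha hb)
    rw [MonoidHom.mem_ker, map_commutatorElement, commutatorElement_eq_one_iff_mul_comm] at hab
    exact hab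
  refine ⟨?_, ?_, ?_⟩
  · intro B' hB'
    obtain ⟨B, hBA, hCB, rfl⟩ : ∃ B : Subgroup G, B ≤ A ∧
        A ⊓ (toM V).ker ≤ B ∧ B.map (toM V) = B' := by
      refine ⟨A ⊓ B'.comap (toM V), inf_le_left, ?_, ?_⟩
      · intro x hx
        refine ⟨hx.1, ?_⟩
        show toM V x ∈ B'
        rw [(MonoidHom.mem_ker).mp hx.2]
        exact Subgroup.one_mem _
      · apply le_antisymm
        · rintro _ ⟨b, hb, rfl⟩
          exact hb.2
        · intro y hy
          obtain ⟨a, ha, rfl⟩ := hB' hy
          exact ⟨a, ⟨ha, hy⟩, rfl⟩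
    rw [card_fix_model, card_fix_model]
    have hB := card_eq_inf_mul_map (toM V) B
    have hAc := card_eq_inf_mul_map (toM V) A
    have hker : B ⊓ (toM V).ker = A ⊓ (toM V).ker :=
      le_antisymm (inf_le_inf_right _ hBA) (le_inf hCB inf_le_right)
    rw [hker] at hB
    have hmain := h1 B hBA
    rw [hB, hAc, mul_assoc, mul_assoc] at hmain
    exact Nat.le_of_mul_le_mul_left hmain Nat.card_pos
  · have : ⁅A.map (toM V), A.map (toM V)⁆ = ⊥ := by
      rw [Subgroup.commutator_eq_bot_iff_le_centralizer]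
      intro x hx
      rw [Subgroup.mem_centralizer_iff]
      intro y hy
      exact hcomm y hy x hx
    rw [this]
    exact bot_le
  · rintro _ ⟨a, ha, rfl⟩
    have : a ^ p ∈ (toM V).ker := by rw [toM_ker]; exact h3 a ha
    rw [← map_pow, (MonoidHom.mem_ker).mp this]
    exact Subgroup.one_mem _

/-- the set-up for the image of a normal subgroup. -/
theorem setup_sub (hsep : Cfsg.IsPSolvable p G) (hV : Cfsg.IsElementaryAbelian p V)
    (hO : Cfsg.pCore p (G ⧸ Subgroup.centralizer (V : Set G)) = ⊥)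
    (N : Subgroup G) [hN : N.Normal] : Setup p (mV' V) (N.map (toM V)) := by
  have hp : p.Prime := Fact.out
  have S := setup_model V hsep hV hO
  have hle : N.map (toM V) ≤ mH' V := by
    rw [← toM_range]
    rintro _ ⟨n, -, rfl⟩
    exact ⟨n, rfl⟩
  refine ⟨S.hV, hle.trans S.hHV, le_bot_iff.mp ((inf_le_inf_right _ hle).trans S.hf.le), ?_⟩
  -- the quotient image of `N`
  let Nb : Subgroup (G ⧸ Subgroup.centralizer (V : Set G)) :=
    N.map (QuotientGroup.mk' (Subgroup.centralizer (V : Set G)))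
  have hNb : Nb.Normal := hN.map _ (QuotientGroup.mk'_surjective _)
  have hQsolv : Cfsg.IsPSolvable p (G ⧸ Subgroup.centralizer (V : Set G)) :=
    isPSolvable_of_surjective hp (QuotientGroup.mk' _) (QuotientGroup.mk'_surjective _) hsep
  have hNbsolv : Cfsg.IsPSolvable p ↥Nb := isPSolvable_sub hp hQsolv Nb
  have hNbcore : Cfsg.pCore p ↥Nb = ⊥ := pCore_sub_eq_bot Nb hO
  have hmm : N.map (toM V) = Nb.map SemidirectProduct.inr := by
    unfold toM
    rw [← Subgroup.map_map]
  rw [hmm]
  let e : ↥Nb ≃* ↥(Nb.map (SemidirectProduct.inr : _ →* Model V)) :=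
    Nb.equivMapOfInjective _ SemidirectProduct.inr_injective
  have hsolv : Cfsg.IsPSolvable p ↥(Nb.map (SemidirectProduct.inr : _ →* Model V)) :=
    isPSolvable_of_surjective hp e.toMonoidHom e.surjective hNbsolv
  have hcore : Cfsg.pCore p ↥(Nb.map (SemidirectProduct.inr : _ →* Model V)) = ⊥ := by
    rw [← Cfsg.Agent.helper15.pCore_map_equiv p e, hNbcore, Subgroup.map_bot]
  exact hall_higman_123' (psreach_of_isPSolvable hsolv) hcore

/-- pulling back a subgroup of the model. -/
theorem pullback (N : Subgroup G) (E' : Subgroup (Model V)) (hE'N : E' ≤ N.map (toM V))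
    (hnorm : N.map (toM V) ≤ Subgroup.normalizer (E' : Set (Model V))) :
    ∃ E : Subgroup G, Subgroup.centralizer (V : Set G) ≤ E ∧
      E ≤ N ⊔ Subgroup.centralizer (V : Set G) ∧
      N ⊔ Subgroup.centralizer (V : Set G) ≤ Subgroup.normalizer (E : Set G) ∧
      ∃ hn : ((Subgroup.centralizer (V : Set G)).subgroupOf E).Normal,
        Nonempty ((↥E ⧸ (Subgroup.centralizer (V : Set G)).subgroupOf E) ≃* ↥E') := by
  refine ⟨E'.comap (toM V), ?_, ?_, ?_, ?_⟩
  · intro c hc
    rw [← toM_ker] at hc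
    rw [Subgroup.mem_comap, (MonoidHom.mem_ker).mp hc]
    exact Subgroup.one_mem _
  · intro g hg
    obtain ⟨n, hn, hng⟩ := hE'N (Subgroup.mem_comap.mp hg)
    have h1 : n⁻¹ * g ∈ (toM V).ker := by
      rw [MonoidHom.mem_ker, map_mul, map_inv, hng, inv_mul_cancel]
    rw [toM_ker] at h1
    have h2 : g = n * (n⁻¹ * g) := by group
    rw [h2]
    exact Subgroup.mul_mem _ (Subgroup.mem_sup_left hn) (Subgroup.mem_sup_right h1)
  · have key : ∀ g : G, toM V g ∈ Subgroup.normalizer (E' : Set (Model V)) →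
        g ∈ Subgroup.normalizer ((E'.comap (toM V) : Subgroup G) : Set G) := by
      intro g hg
      rw [Subgroup.mem_normalizer_iff]
      intro x
      rw [Subgroup.mem_comap, Subgroup.mem_comap, map_mul, map_mul, map_inv]
      exact Subgroup.mem_normalizer_iff.mp hg _
    apply sup_le
    · intro n hn
      exact key n (hnorm ⟨n, hn, rfl⟩)
    · intro c hc
      rw [← toM_ker] at hc
      apply key
      rw [(MonoidHom.mem_ker).mp hc]
      exact Subgroup.one_mem _
  · let φ : ↥(E'.comap (toM V)) →* ↥E' := (toM V).subgroupComap E'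
    have hφ : Function.Surjective φ := by
      rintro ⟨y, hy⟩
      obtain ⟨n, -, hny⟩ := hE'N hy
      refine ⟨⟨n, ?_⟩, ?_⟩
      · rw [Subgroup.mem_comap, hny]; exact hy
      · apply Subtype.ext
        exact hny
    have hker : φ.ker = (Subgroup.centralizer (V : Set G)).subgroupOf (E'.comap (toM V)) := by
      ext x
      rw [MonoidHom.mem_ker, Subgroup.mem_subgroupOf]
      have hk : (x : G) ∈ Subgroup.centralizer (V : Set G) ↔ toM V (x : G) = 1 := by
        have := SetLike.ext_iff.mp (toM_ker V) (x : G)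
        rw [← this, MonoidHom.mem_ker]
      rw [hk]
      constructor
      · intro h
        exact congrArg Subtype.val h
      · intro h
        apply Subtype.ext
        exact h
    have hn : ((Subgroup.centralizer (V : Set G)).subgroupOf (E'.comap (toM V))).Normal := by
      rw [← hker]; infer_instance
    refine ⟨hn, ⟨?_⟩⟩
    exact (QuotientGroup.quotientMulEquivOfEq hker.symm).trans
      (QuotientGroup.quotientKerEquivOfSurjective φ hφ)

/-- **Failure of Thompson factorization** in the model form. -/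
theorem main (hsep : Cfsg.IsPSolvable p G) (hV : Cfsg.IsElementaryAbelian p V)
    (hO : Cfsg.pCore p (G ⧸ Subgroup.centralizer (V : Set G)) = ⊥)
    (N : Subgroup G) [hN : N.Normal]
    (hgen : N = ⨆ A : {A : Subgroup G // A ≤ N ∧ Cfsg.IsBestOffenderOn p V A}, (A : Subgroup G))
    (hne : ¬ N ≤ Subgroup.centralizer (V : Set G)) :
    (p = 2 ∨ p = 3) ∧ ∃ E : Subgroup G, Subgroup.centralizer (V : Set G) ≤ E ∧
      E ≤ N ⊔ Subgroup.centralizer (V : Set G) ∧
      N ⊔ Subgroup.centralizer (V : Set G) ≤ Subgroup.normalizer (E : Set G) ∧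
      ∃ hn : ((Subgroup.centralizer (V : Set G)).subgroupOf E).Normal,
        Nonempty ((↥E ⧸ (Subgroup.centralizer (V : Set G)).subgroupOf E) ≃*
          Matrix.SpecialLinearGroup (Fin 2) (ZMod p)) := by
  have S := setup_sub V hsep hV hO N
  have hS3 : N.map (toM V) = ⨆ A : {A : Subgroup (Model V) // A ≤ N.map (toM V) ∧
      Cfsg.IsBestOffenderOn p (mV' V) A}, (A : Subgroup (Model V)) := by
    apply le_antisymm
    · rw [Subgroup.map_le_iff_le_comap]
      conv_lhs => rw [hgen]
      apply iSup_le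
      rintro ⟨A, hAN, hA⟩
      rw [← Subgroup.map_le_iff_le_comap]
      exact le_iSup_of_le (⟨A.map (toM V), Subgroup.map_mono hAN, best_model V hA⟩ :
        {A : Subgroup (Model V) // A ≤ N.map (toM V) ∧
          Cfsg.IsBestOffenderOn p (mV' V) A}) le_rfl
    · exact iSup_le (fun A => A.2.1)
  have hH1 : N.map (toM V) ≠ ⊥ := by
    intro h
    apply hne
    rw [← toM_ker]
    intro n hn
    rw [MonoidHom.mem_ker]
    have : toM V n ∈ N.map (toM V) := ⟨n, hn, rfl⟩
    rw [h] at this
    exact Subgroup.mem_bot.mp this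
  obtain ⟨A₀, hA₀⟩ := exists_minOff S hS3 hH1
  refine ⟨(hA₀.min S).p_cases S, ?_⟩
  have hE : IsE p (mV' V) (N.map (toM V)) (EA p (N.map (toM V)) A₀) := ⟨A₀, hA₀, rfl⟩
  obtain ⟨h1, ⟨iso⟩, -⟩ := IsE.props S hS3 hE
  obtain ⟨E, hCE, hEN, hNE, hn, ⟨e⟩⟩ := pullback V N _ (hE.le S) h1
  exact ⟨E, hCE, hEN, hNE, hn, ⟨e.trans iso⟩⟩

end model

end Cfsg.Agent.helper9.TFModel
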