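import Mathlib
import Cfsg.Agent.Lib_helper9_TFModel
import Cfsg.Agent.Lib_helper9_OffCop2

set_option autoImplicit false
set_option linter.unusedSectionVars false
set_option linter.unusedVariables false

/-!
# Coprime operators and the model `V ⋊ G/C_G(V)`
-/

namespace Cfsg.Agent.helper9.TFModel

open Cfsg.Agent.helper4.PS Cfsg.Agent.helper23 Cfsg.Agent.helper9.Off
open scoped commutatorElement

section cop

variable {G : Type*} [Group G] (V : Subgroup G) [V.Normal]

theorem mV'_normal : (mV' V).Normal := by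
  unfold mV'
  rw [SemidirectProduct.range_inl_eq_ker_rightHom]
  infer_instance

theorem mV'_ea {p : ℕ} (hV : Cfsg.IsElementaryAbelian p V) :
    Cfsg.IsElementaryAbelian p (mV' V) := by
  refine ⟨⟨⟨?_⟩⟩, ?_⟩
  · rintro ⟨_, ⟨a, rfl⟩⟩ ⟨_, ⟨b, rfl⟩⟩
    apply Subtype.ext
    show (SemidirectProduct.inl a : Model V) * SemidirectProduct.inl b =
      SemidirectProduct.inl b * SemidirectProduct.inl a
    rw [← map_mul, ← map_mul]
    congr 1
    have := hV.1
    exact this.is_comm.comm a b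
  · rintro _ ⟨a, rfl⟩
    rw [← map_pow]
    have : a ^ p = 1 := Subtype.ext (by simpa using hV.2 a a.2)
    rw [this, map_one]

theorem mH'_faithful :
    mH' V ⊓ Subgroup.centralizer ((mV' V : Subgroup (Model V)) : Set (Model V)) = ⊥ := by
  rw [eq_bot_iff]
  rintro x ⟨⟨q, rfl⟩, hx⟩
  rw [Subgroup.mem_bot]
  have hx : (SemidirectProduct.inr q : Model V) ∈
      Subgroup.centralizer ((mV' V : Subgroup (Model V)) : Set (Model V)) := hx
  rw [Subgroup.mem_centralizer_iff] at hx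
  have hq : actQ V q = 1 := by
    ext v
    have h1 := hx (SemidirectProduct.inl v) ⟨v, rfl⟩
    rw [inr_mul_inl] at h1
    have h2 := mul_right_cancel h1
    have h3 := SemidirectProduct.inl_injective h2
    rw [MulAut.one_apply, ← h3]
  have : q = 1 := actQ_injective V (by rw [hq, map_one])
  rw [this, map_one]

theorem map_toM_le (N : Subgroup G) : N.map (toM V) ≤ mH' V := by
  rw [← toM_range]
  rintro _ ⟨n, -, rfl⟩
  exact ⟨n, rfl⟩

theorem toM_mem_normalizer_map (N : Subgroup G) [hN : N.Normal] (g : G) :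
    toM V g ∈ Subgroup.normalizer ((N.map (toM V) : Subgroup (Model V)) : Set (Model V)) := by
  rw [Subgroup.mem_normalizer_iff]
  intro x
  constructor
  · rintro ⟨n, hn, rfl⟩
    exact ⟨g * n * g⁻¹, hN.conj_mem n hn g, by rw [map_mul, map_mul, map_inv]⟩
  · rintro ⟨n, hn, hx⟩
    refine ⟨g⁻¹ * n * g, ?_, ?_⟩
    · have := hN.conj_mem n hn g⁻¹
      rwa [inv_inv] at this
    · rw [map_mul, map_mul, map_inv, hx]; group

variable [Finite G] {p : ℕ} [Fact p.Prime]

/-- the set-up from intrinsic hypotheses on the image. -/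
theorem setup_of_core (hV : Cfsg.IsElementaryAbelian p V) (N : Subgroup G)
    (hsolv : Cfsg.IsPSolvable p ↥(N.map (toM V)))
    (hcore : Cfsg.pCore p ↥(N.map (toM V)) = ⊥) : Setup p (mV' V) (N.map (toM V)) := by
  refine ⟨mV'_ea V hV, ?_, ?_, ?_⟩
  · haveI := mV'_normal V
    rw [Subgroup.normalizer_eq_top]
    exact le_top
  · exact le_bot_iff.mp ((inf_le_inf_right _ (map_toM_le V N)).trans (mH'_faithful V).le)
  · exact hall_higman_123' (psreach_of_isPSolvable hsolv) hcore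

theorem hS3_model (N : Subgroup G)
    (hgen : N = ⨆ A : {A : Subgroup G // A ≤ N ∧ Cfsg.IsBestOffenderOn p V A}, (A : Subgroup G)) :
    N.map (toM V) = ⨆ A : {A : Subgroup (Model V) // A ≤ N.map (toM V) ∧
      Cfsg.IsBestOffenderOn p (mV' V) A}, (A : Subgroup (Model V)) := by
  apply le_antisymm
  · rw [Subgroup.map_le_iff_le_comap]
    conv_lhs => rw [hgen]
    apply iSup_le
    rintro ⟨A, hAN, hA⟩
    rw [← Subgroup.map_le_iff_le_comap]
    exact le_iSup_of_le (⟨A.map (toM V), Subgroup.map_mono hAN, best_model V hA⟩ :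
      {A : Subgroup (Model V) // A ≤ N.map (toM V) ∧
        Cfsg.IsBestOffenderOn p (mV' V) A}) le_rfl
  · exact iSup_le (fun A => A.2.1)

/-- the image of a Sylow subgroup is a Sylow subgroup of the image. -/
theorem isSylowIn_map {G' : Type*} [Group G'] [Finite G'] (f : G →* G') {P N : Subgroup G}
    (hPN : P ≤ N) (hP : Cfsg.Agent.helper25.IsSylowIn p P N) :
    Cfsg.Agent.helper25.IsSylowIn p (P.map f) (N.map f) := by
  have hp : p.Prime := Fact.out
  have hPp : IsPGroup p ↥P := hP.isPGroup hPN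
  rw [Cfsg.Agent.helper25.isSylowIn_iff_card (Subgroup.map_mono hPN)]
  rw [Cfsg.Agent.helper25.isSylowIn_iff_card hPN] at hP
  have h1 := card_eq_inf_mul_map f P
  have h2 := card_eq_inf_mul_map f N
  have h3 : Nat.card ↥(P ⊓ f.ker) ≤ p ^ (Nat.card ↥(N ⊓ f.ker)).factorization p :=
    Cfsg.Agent.helper25.card_le_of_isPGroup_le (inf_le_inf_right _ hPN) (hPp.to_le inf_le_left)
  have h4 : Nat.card ↥(P.map f) ≤ p ^ (Nat.card ↥(N.map f)).factorization p :=
    Cfsg.Agent.helper25.card_le_of_isPGroup_le (Subgroup.map_mono hPN) (hPp.map f)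
  have h5 : (Nat.card ↥N).factorization p =
      (Nat.card ↥(N ⊓ f.ker)).factorization p + (Nat.card ↥(N.map f)).factorization p := by
    rw [h2, Nat.factorization_mul Nat.card_pos.ne' Nat.card_pos.ne']
    rfl
  rw [h1, h5, pow_add] at hP
  apply le_antisymm h4
  by_contra hlt
  push Not at hlt
  have hpos : 0 < Nat.card ↥(P ⊓ f.ker) := Nat.card_pos
  have : Nat.card ↥(P ⊓ f.ker) * Nat.card ↥(P.map f) <
      p ^ (Nat.card ↥(N ⊓ f.ker)).factorization p * p ^ (Nat.card ↥(N.map f)).factorization p :=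
    calc Nat.card ↥(P ⊓ f.ker) * Nat.card ↥(P.map f)
        < Nat.card ↥(P ⊓ f.ker) * p ^ (Nat.card ↥(N.map f)).factorization p :=
          Nat.mul_lt_mul_of_pos_left hlt hpos
      _ ≤ _ := Nat.mul_le_mul_right _ h3
  omega

variable {q : ℕ} [Fact q.Prime]

/-- lifting fixed points of a coprime operator group. -/
theorem lift_fixed (N : Subgroup G) [hN : N.Normal] (Y : Subgroup G) (hY : IsPGroup q ↥Y)
    (hq : ¬ q ∣ Nat.card ↥N) {d' : Model V}
    (hd' : d' ∈ N.map (toM V) ⊓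
      Subgroup.centralizer (((Y.map (toM V)) : Subgroup (Model V)) : Set (Model V))) :
    ∃ d ∈ N ⊓ Subgroup.centralizer (Y : Set G), toM V d = d' := by
  obtain ⟨⟨n₀, hn₀, hn₀d⟩, hdc⟩ := hd'
  have hdc' : d' ∈ Subgroup.centralizer (((Y.map (toM V)) : Subgroup (Model V)) :
      Set (Model V)) := hdc
  rw [Subgroup.mem_centralizer_iff] at hdc'
  let Ω : Set G := {n | n ∈ N ∧ toM V n = d'}
  have hinv : ∀ g ∈ Y, ∀ x ∈ Ω, g * x * g⁻¹ ∈ Ω := by
    rintro g hg x ⟨hxN, hxd⟩
    refine ⟨hN.conj_mem x hxN g, ?_⟩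
    rw [map_mul, map_mul, map_inv, hxd]
    have := hdc' (toM V g) ⟨g, hg, rfl⟩
    rw [this]; group
  have hcard : Nat.card ↥Ω = Nat.card ↥(N ⊓ (toM V).ker) := by
    apply Nat.card_congr
    refine Equiv.ofBijective (fun x => ⟨n₀⁻¹ * (x : G), ?_⟩) ⟨?_, ?_⟩
    · obtain ⟨hxN, hxd⟩ := x.2
      refine ⟨N.mul_mem (N.inv_mem hn₀) hxN, ?_⟩
      show n₀⁻¹ * (x : G) ∈ (toM V).ker
      rw [MonoidHom.mem_ker, map_mul, map_inv, hn₀d, hxd, inv_mul_cancel]
    · intro x y hxy
      have : n₀⁻¹ * (x : G) = n₀⁻¹ * (y : G) := congrArg Subtype.val hxy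
      exact Subtype.ext (mul_left_cancel this)
    · rintro ⟨k, hkN, hkk⟩
      refine ⟨⟨n₀ * k, N.mul_mem hn₀ hkN, ?_⟩, ?_⟩
      · rw [map_mul, hn₀d, (MonoidHom.mem_ker).mp hkk, mul_one]
      · apply Subtype.ext
        show n₀⁻¹ * (n₀ * k) = k
        group
  have hnd : ¬ q ∣ Nat.card ↥Ω := by
    rw [hcard]
    intro h
    exact hq (h.trans (Subgroup.card_dvd_of_le inf_le_left))
  obtain ⟨d, ⟨hdN, hdd⟩, hfix⟩ := Cfsg.Agent.helper7.exists_fixed_of_invariant hY Ω hinv hnd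
  refine ⟨d, ⟨hdN, ?_⟩, hdd⟩
  show d ∈ Subgroup.centralizer (Y : Set G)
  rw [Subgroup.mem_centralizer_iff]
  intro y hy
  have := hfix y hy
  calc y * d = (y * d * y⁻¹) * y := by group
    _ = d * y := by rw [this]

/-- the coprime operator context in the model. -/
theorem ctx_model (hV : Cfsg.IsElementaryAbelian p V) (N : Subgroup G) [hN : N.Normal]
    (hsolv : Cfsg.IsPSolvable p ↥(N.map (toM V)))
    (hcore : Cfsg.pCore p ↥(N.map (toM V)) = ⊥)
    (Y : Subgroup G) (hY : IsPGroup q ↥Y) (hq : ¬ q ∣ Nat.card ↥N) :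
    Cfsg.Agent.helper9.OffCop.Ctx p q (mV' V) (N.map (toM V)) (Y.map (toM V)) := by
  refine ⟨setup_of_core V hV N hsolv hcore, hY.map _, ?_, ?_, ?_⟩
  · haveI := mV'_normal V
    rw [Subgroup.normalizer_eq_top]
    exact le_top
  · rintro _ ⟨y, -, rfl⟩
    exact toM_mem_normalizer_map V N y
  · intro h
    exact hq (h.trans (Subgroup.card_map_dvd N (toM V)))

/-- **Generation by a Sylow subgroup, the kernel and the fixed points.** -/
theorem gen_cop (hV : Cfsg.IsElementaryAbelian p V) (N : Subgroup G) [hN : N.Normal]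
    (hsolv : Cfsg.IsPSolvable p ↥(N.map (toM V)))
    (hcore : Cfsg.pCore p ↥(N.map (toM V)) = ⊥)
    (hgen : N = ⨆ A : {A : Subgroup G // A ≤ N ∧ Cfsg.IsBestOffenderOn p V A}, (A : Subgroup G))
    (Y : Subgroup G) (hY : IsPGroup q ↥Y) (hq : ¬ q ∣ Nat.card ↥N)
    (P : Subgroup G) (hPN : P ≤ N) (hP : Cfsg.Agent.helper25.IsSylowIn p P N) :
    N ≤ P ⊔ (N ⊓ Subgroup.centralizer (Y : Set G)) ⊔
      (N ⊓ Subgroup.centralizer (V : Set G)) := by
  have C := ctx_model V hV N hsolv hcore Y hY hq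
  have hS3 := hS3_model V N hgen
  have hg := C.gen hS3 (Subgroup.map_mono hPN) (isSylowIn_map (toM V) hPN hP)
  have hle : P.map (toM V) ⊔ (N.map (toM V) ⊓
      Subgroup.centralizer (((Y.map (toM V)) : Subgroup (Model V)) : Set (Model V))) ≤
      (P ⊔ (N ⊓ Subgroup.centralizer (Y : Set G))).map (toM V) := by
    apply sup_le
    · exact Subgroup.map_mono le_sup_left
    · intro d' hd'
      obtain ⟨d, hd, rfl⟩ := lift_fixed V N Y hY hq hd'
      exact ⟨d, Subgroup.mem_sup_right hd, rfl⟩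
  intro n hn
  obtain ⟨m, hm, hmn⟩ := hle (hg ⟨n, hn, rfl⟩)
  have hmN : m ∈ N := (sup_le hPN inf_le_left : P ⊔ (N ⊓ Subgroup.centralizer (Y : Set G)) ≤ N) hm
  have h1 : m⁻¹ * n ∈ (toM V).ker := by
    rw [MonoidHom.mem_ker, map_mul, map_inv, hmn, inv_mul_cancel]
  have h1' : m⁻¹ * n ∈ Subgroup.centralizer (V : Set G) := by
    have := SetLike.ext_iff.mp (toM_ker V) (m⁻¹ * n)
    exact this.mp h1
  have h2 : n = m * (m⁻¹ * n) := by group
  rw [h2]
  exact Subgroup.mul_mem _ (Subgroup.mem_sup_left hm)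
    (Subgroup.mem_sup_right ⟨N.mul_mem (N.inv_mem hmN) hn, h1'⟩)

end cop

end Cfsg.Agent.helper9.TFModel
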