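import Cfsg.Statements.S0601
import Cfsg.Agent.Lib_helper3_PLocal
import Mathlib

set_option autoImplicit false
open Cfsg

namespace Cfsg.Agent.S0601

/-- the generating set of `⨆ S, Ω₁(Z(S))` -/
def gens {G : Type*} [Group G] (p : ℕ) : Set G :=
  ⋃ S : Sylow p G, {x : G | x ∈ ((S : Subgroup G) ⊓ Subgroup.centralizer ((S : Subgroup G) : Set G)) ∧ x ^ p = 1}

theorem iSup_eq_closure {G : Type*} [Group G] (p : ℕ) :
    (⨆ S : Sylow p G, Cfsg.omegaOne p (((S : Subgroup G)) ⊓ Subgroup.centralizer ((S : Subgroup G) : Set G)))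
      = Subgroup.closure (gens (G := G) p) := by
  unfold gens
  rw [Subgroup.closure_iUnion]
  rfl

theorem gens_conj {G : Type*} [Group G] (p : ℕ) {x : G} (hx : x ∈ gens (G := G) p) (g : G) :
    g * x * g⁻¹ ∈ gens (G := G) p := by
  unfold gens at hx ⊢
  rw [Set.mem_iUnion] at hx ⊢
  obtain ⟨S, ⟨hxS, hxC⟩, hxp⟩ := hx
  refine ⟨g • S, ⟨?_, ?_⟩, ?_⟩
  · rw [Sylow.coe_subgroup_smul]
    exact helper3.conj_mem_conj_smul g x _ hxS
  · show g * x * g⁻¹ ∈ Subgroup.centralizer (((g • S : Sylow p G) : Subgroup G) : Set G)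
    rw [Subgroup.mem_centralizer_iff]
    intro h hh
    rw [SetLike.mem_coe, Sylow.coe_subgroup_smul, helper3.mem_conj_smul_iff] at hh
    have h1 : g⁻¹ * h * g * x = x * (g⁻¹ * h * g) := Subgroup.mem_centralizer_iff.mp hxC _ hh
    calc h * (g * x * g⁻¹) = g * (g⁻¹ * h * g * x) * g⁻¹ := by group
      _ = g * (x * (g⁻¹ * h * g)) * g⁻¹ := by rw [h1]
      _ = g * x * g⁻¹ * h := by group
  · rw [conj_pow, hxp, mul_one, mul_inv_cancel]

theorem closure_normal_of_conj {G : Type*} [Group G] (T : Set G)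
    (hT : ∀ x ∈ T, ∀ g : G, g * x * g⁻¹ ∈ T) : (Subgroup.closure T).Normal := by
  refine ⟨fun n hn g => ?_⟩
  induction hn using Subgroup.closure_induction with
  | mem y hy => exact Subgroup.subset_closure (hT y hy g)
  | one => simp
  | mul a b _ _ iha ihb =>
    have : g * (a * b) * g⁻¹ = (g * a * g⁻¹) * (g * b * g⁻¹) := by group
    rw [this]
    exact Subgroup.mul_mem _ iha ihb
  | inv a _ iha =>
    have : g * a⁻¹ * g⁻¹ = (g * a * g⁻¹)⁻¹ := by group
    rw [this]
    exact Subgroup.inv_mem _ iha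


/-- When O_p(G) contains its centralizer, the normal closure of Ω₁(Z(S)) is elementary abelian and G has no nontrivial normal p-subgroup modulo its centralizer. -/
theorem result {G : Type*} [Group G] [Finite G] {p : ℕ} [Fact p.Prime] (hc : Subgroup.centralizer (Cfsg.pCore p G : Set G) ≤ Cfsg.pCore p G) : (⨆ S : Sylow p G, Cfsg.omegaOne p (((S : Subgroup G)) ⊓ Subgroup.centralizer ((S : Subgroup G) : Set G))).Normal ∧ Cfsg.IsElementaryAbelian p (⨆ S : Sylow p G, Cfsg.omegaOne p (((S : Subgroup G)) ⊓ Subgroup.centralizer ((S : Subgroup G) : Set G))) ∧ ∀ D : Subgroup G, D.Normal → Subgroup.centralizer ((⨆ S : Sylow p G, Cfsg.omegaOne p (((S : Subgroup G)) ⊓ Subgroup.centralizer ((S : Subgroup G) : Set G)) : Subgroup G) : Set G) ≤ D → (∃ k : ℕ, (Subgroup.centralizer ((⨆ S : Sylow p G, Cfsg.omegaOne p (((S : Subgroup G)) ⊓ Subgroup.centralizer ((S : Subgroup G) : Set G)) : Subgroup G) : Set G)).relIndex D = p ^ k) → D = Subgroup.centralizer ((⨆ S : Sylow p G, Cfsg.omegaOne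 p (((S : Subgroup G)) ⊓ Subgroup.centralizer ((S : Subgroup G) : Set G)) : Subgroup G) : Set G) := by
  rw [iSup_eq_closure]
  have hgc : ∀ x ∈ gens (G := G) p, x ∈ Cfsg.pCore p G ∧
      x ∈ Subgroup.centralizer (Cfsg.pCore p G : Set G) := by
    intro x hx
    unfold gens at hx
    rw [Set.mem_iUnion] at hx
    obtain ⟨S, ⟨hxS, hxC⟩, hxp⟩ := hx
    have h1 : x ∈ Subgroup.centralizer (Cfsg.pCore p G : Set G) :=
      Subgroup.centralizer_le (helper1.pCore_le_sylow S) hxC
    exact ⟨hc h1, h1⟩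
  have hN : (Subgroup.closure (gens (G := G) p)).Normal :=
    closure_normal_of_conj _ (fun x hx g => gens_conj p hx g)
  refine ⟨hN, ?_, ?_⟩
  · apply helper3.ea_closure
    · intro a ha b hb
      exact (Subgroup.mem_centralizer_iff.mp (hgc b hb).2 a (hgc a ha).1)
    · intro a ha
      unfold gens at ha
      rw [Set.mem_iUnion] at ha
      obtain ⟨S, _, hap⟩ := ha
      exact hap
  · intro D hD hCD hk
    obtain ⟨k, hk⟩ := hk
    haveI := hN
    apply le_antisymm _ hCD
    intro x hx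
    rw [helper3.mem_centralizer_closure_iff]
    intro t ht
    have ht' := ht
    unfold gens at ht'
    rw [Set.mem_iUnion] at ht'
    obtain ⟨S, ⟨htS, htC⟩, htp⟩ := ht'
    have hxc := helper3.mk_mem_pCore_of_relIndex
      (Subgroup.centralizer (Subgroup.closure (gens (G := G) p) : Set G)) hD hk hx
    obtain ⟨s, hs, hsx⟩ := helper3.exists_sylow_mul_of_mem_pCore _ hxc S
    have h1 : Commute s t := (Subgroup.mem_centralizer_iff.mp htC s hs)
    have h2 : Commute t (s⁻¹ * x) :=
      (Subgroup.mem_centralizer_iff.mp hsx t (Subgroup.subset_closure ht))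
    have hx' : x = s * (s⁻¹ * x) := by group
    have h3 : Commute t x := by
      rw [hx']
      exact h1.symm.mul_right h2
    exact h3.eq

end Cfsg.Agent.S0601
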