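import Cfsg.Statements.S0602
import Cfsg.Agent.Lib_helper3_EA
import Mathlib

set_option autoImplicit false
open Cfsg

namespace Cfsg.Agent.S0602


/-- The Thompson subgroup is characteristic, and nontrivial as soon as p divides the group order. -/
theorem result {G : Type*} [Group G] [Finite G] {p : ℕ} [Fact p.Prime] : (Cfsg.thompsonSubgroup p G).Characteristic ∧ (p ∣ Nat.card G → Cfsg.thompsonSubgroup p G ≠ ⊥) := by
  constructor
  · rw [Subgroup.characteristic_iff_map_le]
    intro φ
    rw [Subgroup.map_le_iff_le_comap]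
    unfold Cfsg.thompsonSubgroup
    apply sSup_le
    intro A hA
    rw [← Subgroup.map_le_iff_le_comap]
    exact le_sSup (helper3.maxEA_map_equiv φ hA)
  · intro hdvd hbot
    obtain ⟨x, hx⟩ := exists_prime_orderOf_dvd_card' p hdvd
    obtain ⟨A, hA⟩ := helper3.exists_maxEA p G
    have hAJ : A ≤ Cfsg.thompsonSubgroup p G := helper3.maxEA_le_thompson hA
    have hxp : x ^ p = 1 := by rw [← hx]; exact pow_orderOf_eq_one x
    have hZ : Cfsg.IsElementaryAbelian p (Subgroup.zpowers x) := helper3.ea_zpowers x hxp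
    have h1 : Nat.card (Subgroup.zpowers x) ≤ Nat.card A := hA.2 _ hZ
    rw [Nat.card_zpowers, hx] at h1
    have hAbot : A = ⊥ := le_bot_iff.mp (hbot ▸ hAJ)
    rw [hAbot, Subgroup.card_bot] at h1
    exact absurd h1 (by have := (Fact.out : p.Prime).one_lt; omega)

end Cfsg.Agent.S0602
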