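import Cfsg.Statements.S0604
import Cfsg.Agent.Lib_helper3_EA
import Cfsg.Agent.Lib_helper3_Basic
import Mathlib

set_option autoImplicit false
open Cfsg

namespace Cfsg.Agent.S0604


/-- The Thompson subgroup of G is the join of the Thompson subgroups of its Sylow p-subgroups. -/
theorem result {G : Type*} [Group G] [Finite G] {p : ℕ} [Fact p.Prime] : Cfsg.thompsonSubgroup p G = ⨆ S : Sylow p G, Cfsg.thompsonSubgroupOf p (S : Subgroup G) := by
  apply le_antisymm
  · unfold Cfsg.thompsonSubgroup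
    apply sSup_le
    intro A hA
    obtain ⟨S, hS⟩ := IsPGroup.exists_le_sylow (helper3.ea_isPGroup hA.1)
    exact le_trans (helper3.le_thompsonSubgroupOf hA hS) (le_iSup (fun S : Sylow p G => Cfsg.thompsonSubgroupOf p (S : Subgroup G)) S)
  · apply iSup_le
    intro S
    obtain ⟨A₀, hA₀⟩ := helper3.exists_maxEA p G
    obtain ⟨S₀, hS₀⟩ := IsPGroup.exists_le_sylow (helper3.ea_isPGroup hA₀.1)
    obtain ⟨g, hg⟩ := MulAction.exists_smul_eq G S₀ S
    have hA₁ : A₀.map (MulAut.conj g).toMonoidHom ∈ Cfsg.maxElementaryAbelianSubgroups p G :=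
      helper3.maxEA_map_equiv (MulAut.conj g) hA₀
    have hA₁S : A₀.map (MulAut.conj g).toMonoidHom ≤ (S : Subgroup G) := by
      rw [← hg, Sylow.coe_subgroup_smul, helper3.conj_smul_eq_map]
      exact Subgroup.map_mono hS₀
    exact helper3.thompsonSubgroupOf_le hA₁ hA₁S

end Cfsg.Agent.S0604
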