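import Cfsg.Statements.S0608
import Cfsg.Agent.Lib_helper3_ThompsonOf
import Cfsg.Agent.S0601
import Cfsg.Agent.S0604
import Cfsg.Agent.Lib_helper19_Sylow
import Mathlib

set_option autoImplicit false
open Cfsg

namespace Cfsg.Agent.S0608


/-- With trivial p'-core, Thompson factorizability is equivalent to J(G) centralizing the subgroup generated by all Ω₁(Z(S)), S Sylow. -/
theorem result {G : Type*} [Group G] [Finite G] {p : ℕ} [Fact p.Prime] (hO : Cfsg.pPrimeCore p G = ⊥) : Cfsg.IsThompsonFactorizable p G ↔ Cfsg.thompsonSubgroup p G ≤ Subgroup.centralizer ((⨆ S : Sylow p G, Cfsg.omegaOne p (((S : Subgroup G)) ⊓ Subgroup.centralizer ((S : Subgroup G) : Set G)) : Subgroup G) : Set G) := by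
  have hWn : (⨆ S : Sylow p G, Cfsg.omegaOne p (((S : Subgroup G)) ⊓
      Subgroup.centralizer ((S : Subgroup G) : Set G))).Normal := by
    rw [S0601.iSup_eq_closure]
    exact S0601.closure_normal_of_conj _ (fun x hx g => S0601.gens_conj p hx g)
  constructor
  · intro hTF
    rw [S0604.result]
    apply iSup_le
    intro S
    rw [S0601.iSup_eq_closure, Subgroup.centralizer_closure]
    intro j hj
    rw [Subgroup.mem_centralizer_iff]
    intro t ht
    unfold S0601.gens at ht
    rw [Set.mem_iUnion] at ht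
    obtain ⟨S', ⟨htS, htC⟩, htp⟩ := ht
    obtain ⟨h, hh⟩ := MulAction.exists_smul_eq G S S'
    replace htS : t ∈ (S' : Subgroup G) := htS
    replace htC : t ∈ Subgroup.centralizer ((S' : Subgroup G) : Set G) := htC
    have htS' : h⁻¹ * t * h ∈ (S : Subgroup G) := by
      rw [← hh, Sylow.coe_subgroup_smul, helper3.mem_conj_smul_iff] at htS
      exact htS
    have htC' : h⁻¹ * t * h ∈ Subgroup.centralizer ((S : Subgroup G) : Set G) := by
      rw [Subgroup.mem_centralizer_iff]
      intro s hs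
      have hs' : h * s * h⁻¹ ∈ (S' : Subgroup G) := by
        rw [← hh, Sylow.coe_subgroup_smul]
        exact helper3.conj_mem_conj_smul h s _ hs
      have h1 : h * s * h⁻¹ * t = t * (h * s * h⁻¹) := Subgroup.mem_centralizer_iff.mp htC _ hs'
      calc s * (h⁻¹ * t * h) = h⁻¹ * (h * s * h⁻¹ * t) * h := by group
        _ = h⁻¹ * (t * (h * s * h⁻¹)) * h := by rw [h1]
        _ = h⁻¹ * t * h * s := by group
    have htp' : (h⁻¹ * t * h) ^ p = 1 := by
      have e : h⁻¹ * t * h = h⁻¹ * t * (h⁻¹)⁻¹ := by rw [inv_inv]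
      rw [e, conj_pow, htp, mul_one, mul_inv_cancel]
    have htZ : h⁻¹ * t * h ∈ Cfsg.omegaOne p (((S : Subgroup G)) ⊓
        Subgroup.centralizer ((S : Subgroup G) : Set G)) :=
      Subgroup.subset_closure ⟨⟨htS', htC'⟩, htp'⟩
    obtain ⟨x, hx, c, hc, n, hn, hg⟩ := hTF S h⁻¹
    rw [hO, Subgroup.mem_bot] at hx
    subst hx
    have hct : (h⁻¹ * t * h) * c = c * (h⁻¹ * t * h) := Subgroup.mem_centralizer_iff.mp hc _ htZ
    have hnj : n * j * n⁻¹ ∈ Cfsg.thompsonSubgroupOf p (S : Subgroup G) :=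
      (Subgroup.mem_normalizer_iff.mp hn j).mp hj
    have hnjS : n * j * n⁻¹ ∈ (S : Subgroup G) := helper3.thompsonSubgroupOf_le_self p _ hnj
    have h2 : (n * j * n⁻¹) * (h⁻¹ * t * h) = (h⁻¹ * t * h) * (n * j * n⁻¹) :=
      Subgroup.mem_centralizer_iff.mp htC' _ hnjS
    have hh' : h = n⁻¹ * c⁻¹ := by
      rw [← inv_inv h, hg]; group
    subst hh'
    have e1 : (n⁻¹ * c⁻¹)⁻¹ * t * (n⁻¹ * c⁻¹) = c * (n * t * n⁻¹) * c⁻¹ := by group
    rw [e1] at hct h2
    have e2 : c * (n * t * n⁻¹) * c⁻¹ = n * t * n⁻¹ := by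
      have h3 : c * (c * (n * t * n⁻¹) * c⁻¹) = c * (n * t * n⁻¹) := by
        rw [← hct]; group
      exact mul_left_cancel h3
    rw [e2] at h2
    calc t * j = n⁻¹ * ((n * t * n⁻¹) * (n * j * n⁻¹)) * n := by group
      _ = n⁻¹ * ((n * j * n⁻¹) * (n * t * n⁻¹)) * n := by rw [h2]
      _ = j * t := by group
  · intro hJ S g
    have hfr := helper19.frattini_inf S (Subgroup.centralizer
      ((⨆ S : Sylow p G, Cfsg.omegaOne p (((S : Subgroup G)) ⊓
        Subgroup.centralizer ((S : Subgroup G) : Set G)) : Subgroup G) : Set G))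
    have hg : g ∈ ((Subgroup.centralizer
      ((⨆ S : Sylow p G, Cfsg.omegaOne p (((S : Subgroup G)) ⊓
        Subgroup.centralizer ((S : Subgroup G) : Set G)) : Subgroup G) : Set G) ⊔
        Subgroup.normalizer ((((S : Subgroup G)) ⊓ Subgroup.centralizer
      ((⨆ S : Sylow p G, Cfsg.omegaOne p (((S : Subgroup G)) ⊓
        Subgroup.centralizer ((S : Subgroup G) : Set G)) : Subgroup G) : Set G) : Subgroup G) : Set G) :
          Subgroup G) : Set G) := by
      rw [SetLike.mem_coe, sup_comm, hfr]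
      exact Subgroup.mem_top g
    rw [Subgroup.normal_mul] at hg
    obtain ⟨k, hk, n, hn, hkn⟩ := hg
    refine ⟨1, Subgroup.one_mem _, k, ?_, n, ?_, ?_⟩
    · refine Subgroup.centralizer_le ?_ hk
      exact le_iSup (fun S : Sylow p G => Cfsg.omegaOne p (((S : Subgroup G)) ⊓
        Subgroup.centralizer ((S : Subgroup G) : Set G))) S
    · have hJS : Cfsg.thompsonSubgroupOf p (S : Subgroup G) ≤ Subgroup.centralizer
          ((⨆ S : Sylow p G, Cfsg.omegaOne p (((S : Subgroup G)) ⊓
            Subgroup.centralizer ((S : Subgroup G) : Set G)) : Subgroup G) : Set G) := by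
        refine le_trans ?_ hJ
        rw [S0604.result]
        exact le_iSup (fun S : Sylow p G => Cfsg.thompsonSubgroupOf p (S : Subgroup G)) S
      have e := helper3.thompsonSubgroupOf_eq_of_le (p := p)
        (inf_le_left : (S : Subgroup G) ⊓ Subgroup.centralizer
          ((⨆ S : Sylow p G, Cfsg.omegaOne p (((S : Subgroup G)) ⊓
            Subgroup.centralizer ((S : Subgroup G) : Set G)) : Subgroup G) : Set G) ≤ (S : Subgroup G))
        (le_inf (helper3.thompsonSubgroupOf_le_self p _) hJS)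
      rw [← e]
      exact helper3.normalizer_le_normalizer_thompsonSubgroupOf p _ hn
    · rw [one_mul]; exact hkn.symm

end Cfsg.Agent.S0608
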