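import Mathlib
import Cfsg.Statements.S0618
import Cfsg.Agent.S0601
import Cfsg.Agent.S0602
import Cfsg.Agent.S0606
import Cfsg.Agent.S0608
import Cfsg.Agent.Lib_helper9_TFModel

set_option autoImplicit false
open Cfsg

namespace Cfsg.Agent.S0618

/-- `O_p(G/C) = 1` from the subgroup formulation. -/
theorem pCore_quot_eq_bot {G : Type*} [Group G] [Finite G] {p : ℕ} [Fact p.Prime]
    (C : Subgroup G) [hC : C.Normal]
    (hD : ∀ D : Subgroup G, D.Normal → C ≤ D → (∃ k : ℕ, C.relIndex D = p ^ k) → D = C) :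
    Cfsg.pCore p (G ⧸ C) = ⊥ := by
  have hn : (Cfsg.pCore p (G ⧸ C)).Normal := Cfsg.Agent.helper1.pCore_normal p
  have h1 : (Cfsg.pCore p (G ⧸ C)).comap (QuotientGroup.mk' C) = C := by
    apply hD
    · exact hn.comap _
    · intro c hc
      rw [Subgroup.mem_comap, QuotientGroup.mk'_apply, (QuotientGroup.eq_one_iff c).mpr hc]
      exact Subgroup.one_mem _
    · have h2 := Subgroup.relIndex_ker
        ((Cfsg.pCore p (G ⧸ C)).comap (QuotientGroup.mk' C)) (QuotientGroup.mk' C)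
      rw [QuotientGroup.ker_mk',
        Subgroup.map_comap_eq_self_of_surjective (QuotientGroup.mk'_surjective C)] at h2
      rw [h2]
      exact (Cfsg.Agent.helper1.pCore_isPGroup p).exists_card_eq
  have h3 := Subgroup.map_comap_eq_self_of_surjective (QuotientGroup.mk'_surjective C)
    (Cfsg.pCore p (G ⧸ C))
  rw [h1] at h3
  rw [← h3, Subgroup.map_eq_bot_iff, QuotientGroup.ker_mk']

/-- A p-separable group with trivial p'-core in which the Thompson factorization fails has p = 2 or 3, and J(G) induces on the normal closure of Ω₁(Z(S)) a group containing a normal SL(2, p). -/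
theorem result {G : Type*} [Group G] [Finite G] {p : ℕ} [Fact p.Prime] (hsep : Cfsg.IsPSolvable p G) (hO : Cfsg.pPrimeCore p G = ⊥) (hnf : ¬ Cfsg.IsThompsonFactorizable p G) : (p = 2 ∨ p = 3) ∧ ∃ E : Subgroup G, Subgroup.centralizer ((⨆ S : Sylow p G, Cfsg.omegaOne p ((S : Subgroup G) ⊓ Subgroup.centralizer ((S : Subgroup G) : Set G))) : Set G) ≤ E ∧ E ≤ Cfsg.thompsonSubgroup p G ⊔ Subgroup.centralizer ((⨆ S : Sylow p G, Cfsg.omegaOne p ((S : Subgroup G) ⊓ Subgroup.centralizer ((S : Subgroup G) : Set G))) : Set G) ∧ Cfsg.thompsonSubgroup p G ⊔ Subgroup.centralizer ((⨆ S : Sylow p G, Cfsg.omegaOne p ((S : Subgroup G) ⊓ Subgroup.centralizer ((S : Subgroup G) : Set G))) : Set G) ≤ Subgroup.normalizer (E : Set G) ∧ ∃ hn : ((Subgroup.centralizer ((⨆ S : Sylow p G, Cfsg.omegaOne p ((S : Subgroup G) ⊓ Subgroup.centralizer ((S : Subgroup G) : Set G))) : Set G)).subgroupOf E).Normal, Nonempty ((↥E ⧸ (Subgroup.centralizer ((⨆ S : Sylow p G, Cfsg.omegaOne p ((S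 : Subgroup G) ⊓ Subgroup.centralizer ((S : Subgroup G) : Set G))) : Set G)).subgroupOf E) ≃* Matrix.SpecialLinearGroup (Fin 2) (ZMod p)) := by
  have hc : Subgroup.centralizer (Cfsg.pCore p G : Set G) ≤ Cfsg.pCore p G :=
    Cfsg.Agent.helper23.hall_higman_123 (Cfsg.Agent.helper23.psreach_of_isPSolvable hsep) hO
  obtain ⟨hVn, hVe, hD⟩ := Cfsg.Agent.S0601.result (p := p) hc
  have hJ := mt (Cfsg.Agent.S0608.result (p := p) hO).mpr hnf
  obtain ⟨V, hVdef⟩ : ∃ V : Subgroup G, V = ⨆ S : Sylow p G,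
      Cfsg.omegaOne p ((S : Subgroup G) ⊓ Subgroup.centralizer ((S : Subgroup G) : Set G)) :=
    ⟨_, rfl⟩
  have hCU : Subgroup.centralizer ((⨆ S : Sylow p G, Cfsg.omegaOne p ((S : Subgroup G) ⊓
      Subgroup.centralizer ((S : Subgroup G) : Set G))) : Set G) =
      Subgroup.centralizer (V : Set G) := by
    rw [hVdef, Subgroup.iSup_eq_closure, Subgroup.centralizer_closure, Set.iSup_eq_iUnion]
  rw [hCU]
  rw [← hVdef] at hVn hVe hD hJ
  haveI := hVn
  have hOp : Cfsg.pCore p (G ⧸ Subgroup.centralizer (V : Set G)) = ⊥ :=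
    pCore_quot_eq_bot _ hD
  haveI hJn : (Cfsg.thompsonSubgroup p G).Normal := by
    haveI := (Cfsg.Agent.S0602.result (G := G) (p := p)).1
    exact Subgroup.normal_of_characteristic _
  have hgen : Cfsg.thompsonSubgroup p G = ⨆ A : {A : Subgroup G //
      A ≤ Cfsg.thompsonSubgroup p G ∧ Cfsg.IsBestOffenderOn p V A}, (A : Subgroup G) := by
    apply le_antisymm
    · apply sSup_le
      intro A hA
      exact le_iSup_of_le (⟨A, le_sSup hA, Cfsg.Agent.S0606.result V hVe A hA⟩ :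
        {A : Subgroup G // A ≤ Cfsg.thompsonSubgroup p G ∧ Cfsg.IsBestOffenderOn p V A}) le_rfl
    · exact iSup_le (fun A => A.2.1)
  exact Cfsg.Agent.helper9.TFModel.main V hsep hVe hOp (Cfsg.thompsonSubgroup p G) hgen hJ

end Cfsg.Agent.S0618
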