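import Mathlib
import Cfsg.Agent.Lib_helper9_TFCop
import Cfsg.Agent.S0601
import Cfsg.Agent.S0602
import Cfsg.Agent.S0604
import Cfsg.Agent.S0606
import Cfsg.Agent.S0618

set_option autoImplicit false
set_option linter.unusedSectionVars false
set_option linter.unusedVariables false

/-!
# Coprime operators: the dictionary between `↥K` and `↥(N_G(K))`
-/

namespace Cfsg.Agent.helper9.TFModel

open Cfsg.Agent.helper4.PS Cfsg.Agent.helper23 Cfsg.Agent.helper9.Off
open scoped commutatorElement

section general

/-- the normal closure of `Ω₁(Z(S))` is characteristic. -/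
theorem V_char (T : Type*) [Group T] [Finite T] (p : ℕ) [Fact p.Prime] :
    (⨆ S : Sylow p T, Cfsg.omegaOne p ((S : Subgroup T) ⊓
      Subgroup.centralizer ((S : Subgroup T) : Set T))).Characteristic := by
  rw [Subgroup.characteristic_iff_map_le]
  intro ϕ
  rw [Subgroup.map_iSup]
  apply iSup_le
  intro S
  have hcard : Nat.card ↥((S : Subgroup T).map ϕ.toMonoidHom) =
      p ^ (Nat.card T).factorization p := by
    rw [Subgroup.card_map_of_injective ϕ.injective]; exact S.card_eq_multiplicity
  refine le_trans ?_ (le_iSup _ (Sylow.ofCard _ hcard))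
  rw [Sylow.coe_ofCard]
  unfold Cfsg.omegaOne
  rw [MonoidHom.map_closure]
  apply Subgroup.closure_mono
  rintro _ ⟨x, ⟨⟨hxS, hxC⟩, hxp⟩, rfl⟩
  refine ⟨⟨⟨x, hxS, rfl⟩, ?_⟩, ?_⟩
  · show ϕ.toMonoidHom x ∈ Subgroup.centralizer _
    rw [Subgroup.mem_centralizer_iff]
    rintro _ ⟨s, hs, rfl⟩
    have hxC' : x ∈ Subgroup.centralizer ((S : Subgroup T) : Set T) := hxC
    rw [Subgroup.mem_centralizer_iff] at hxC'
    rw [← map_mul, ← map_mul, hxC' s hs]
  · show (ϕ.toMonoidHom x) ^ p = 1
    rw [← map_pow, hxp, map_one]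

variable {G : Type*} [Group G]

theorem nmh_coe (K : Subgroup G) (g : ↥(Subgroup.normalizer (K : Set G))) (k : ↥K) :
    ((K.normalizerMonoidHom g k : ↥K) : G) = (g : G) * (k : G) * (g : G)⁻¹ := rfl

/-- the image of a characteristic subgroup of `K` in `N_G(K)` is normal. -/
theorem map_inclusion_normal (K : Subgroup G) (B : Subgroup ↥K) [hB : B.Characteristic] :
    (B.map (Subgroup.inclusion (Subgroup.le_normalizer (H := K)))).Normal := by
  constructor
  rintro _ ⟨b, hb, rfl⟩ g
  have h1 : K.normalizerMonoidHom g b ∈ B := by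
    have := (Subgroup.characteristic_iff_map_eq.mp hB) (K.normalizerMonoidHom g)
    rw [← this]
    exact ⟨b, hb, rfl⟩
  refine ⟨K.normalizerMonoidHom g b, h1, ?_⟩
  apply Subtype.ext
  rfl

/-- best offenders are carried along injective homomorphisms. -/
theorem best_map_injective {G' : Type*} [Group G'] {p : ℕ} (f : G →* G')
    (hf : Function.Injective f) {V A : Subgroup G} (hA : Cfsg.IsBestOffenderOn p V A) :
    Cfsg.IsBestOffenderOn p (V.map f) (A.map f) := by
  obtain ⟨h1, h2, h3⟩ := hA
  have hfix : ∀ B : Subgroup G, V.map f ⊓ Subgroup.centralizer ((B.map f : Subgroup G') : Set G') =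
      (V ⊓ Subgroup.centralizer (B : Set G)).map f := by
    intro B
    ext y
    constructor
    · rintro ⟨⟨v, hv, rfl⟩, hy⟩
      refine ⟨v, ⟨hv, ?_⟩, rfl⟩
      have hy' : f v ∈ Subgroup.centralizer ((B.map f : Subgroup G') : Set G') := hy
      rw [Subgroup.mem_centralizer_iff] at hy'
      show v ∈ Subgroup.centralizer (B : Set G)
      rw [Subgroup.mem_centralizer_iff]
      intro b hb
      apply hf
      rw [map_mul, map_mul]
      exact hy' (f b) ⟨b, hb, rfl⟩
    · rintro ⟨v, ⟨hv, hvc⟩, rfl⟩
      refine ⟨⟨v, hv, rfl⟩, ?_⟩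
      show f v ∈ Subgroup.centralizer ((B.map f : Subgroup G') : Set G')
      rw [Subgroup.mem_centralizer_iff]
      rintro _ ⟨b, hb, rfl⟩
      have hvc' : v ∈ Subgroup.centralizer (B : Set G) := hvc
      rw [Subgroup.mem_centralizer_iff] at hvc'
      rw [← map_mul, ← map_mul, hvc' b hb]
  have hcent : (Subgroup.centralizer (V : Set G)).map f ≤
      Subgroup.centralizer ((V.map f : Subgroup G') : Set G') := by
    rintro _ ⟨c, hc, rfl⟩
    rw [Subgroup.mem_centralizer_iff]
    rintro _ ⟨v, hv, rfl⟩
    have hc' : c ∈ Subgroup.centralizer (V : Set G) := hc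
    rw [Subgroup.mem_centralizer_iff] at hc'
    rw [← map_mul, ← map_mul, hc' v hv]
  refine ⟨?_, ?_, ?_⟩
  · intro B' hB'
    have hB'eq : (B'.comap f).map f = B' := by
      apply le_antisymm (Subgroup.map_comap_le _ _)
      intro y hy
      obtain ⟨a, -, rfl⟩ := hB' hy
      exact ⟨a, hy, rfl⟩
    have hBA : B'.comap f ≤ A := by
      intro x hx
      obtain ⟨a, ha, hax⟩ := hB' (Subgroup.mem_comap.mp hx)
      rw [← hf hax]; exact ha
    rw [← hB'eq, hfix, hfix, Subgroup.card_map_of_injective hf, Subgroup.card_map_of_injective hf,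
      Subgroup.card_map_of_injective hf, Subgroup.card_map_of_injective hf]
    exact h1 _ hBA
  · rw [← Subgroup.map_commutator]
    exact (Subgroup.map_mono h2).trans hcent
  · rintro _ ⟨a, ha, rfl⟩
    rw [← map_pow]
    exact hcent ⟨_, h3 a ha, rfl⟩

/-- images of a subgroup under two homomorphisms with the same kernel are isomorphic. -/
theorem map_equiv_of_ker_eq {A B C : Type*} [Group A] [Group B] [Group C] (f : A →* B)
    (g : A →* C) (h : f.ker = g.ker) (N : Subgroup A) : Nonempty (↥(N.map f) ≃* ↥(N.map g)) := by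
  have hk : (f.subgroupMap N).ker = (g.subgroupMap N).ker := by
    ext x
    rw [MonoidHom.mem_ker, MonoidHom.mem_ker]
    have e1 : f.subgroupMap N x = 1 ↔ (x : A) ∈ f.ker := by
      rw [MonoidHom.mem_ker]
      constructor
      · intro hx; exact congrArg Subtype.val hx
      · intro hx; exact Subtype.ext hx
    have e2 : g.subgroupMap N x = 1 ↔ (x : A) ∈ g.ker := by
      rw [MonoidHom.mem_ker]
      constructor
      · intro hx; exact congrArg Subtype.val hx
      · intro hx; exact Subtype.ext hx
    rw [e1, e2, h]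
  exact ⟨((QuotientGroup.quotientKerEquivOfSurjective _
    (f.subgroupMap_surjective N)).symm.trans (QuotientGroup.quotientMulEquivOfEq hk)).trans
    (QuotientGroup.quotientKerEquivOfSurjective _ (g.subgroupMap_surjective N))⟩

end general

end Cfsg.Agent.helper9.TFModel
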