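import Mathlib
import Cfsg.Agent.Lib_helper9_TFCop2

set_option autoImplicit false
set_option linter.unusedSectionVars false
set_option linter.unusedVariables false

/-!
# Coprime operators: the set-up inside `N_G(K)`
-/

namespace Cfsg.Agent.helper9.TFModel

open Cfsg.Agent.helper4.PS Cfsg.Agent.helper23 Cfsg.Agent.helper9.Off
open scoped commutatorElement

section dict

universe u

variable {G : Type u} [Group G] (K : Subgroup G) (p : ℕ)

/-- the inclusion `K → N_G(K)` -/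
abbrev iota : ↥K →* ↥(Subgroup.normalizer (K : Set G)) :=
  Subgroup.inclusion (Subgroup.le_normalizer (H := K))

theorem iota_injective : Function.Injective (iota K) :=
  Subgroup.inclusion_injective _

/-- the normal closure of `Ω₁(Z(S))` in `K` -/
abbrev VK : Subgroup ↥K :=
  ⨆ S : Sylow p ↥K, Cfsg.omegaOne p ((S : Subgroup ↥K) ⊓
    Subgroup.centralizer ((S : Subgroup ↥K) : Set ↥K))

/-- its image in `N_G(K)` -/
abbrev V1 : Subgroup ↥(Subgroup.normalizer (K : Set G)) := (VK K p).map (iota K)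

/-- the image of `J(K)` in `N_G(K)` -/
abbrev J1 : Subgroup ↥(Subgroup.normalizer (K : Set G)) :=
  (Cfsg.thompsonSubgroup p ↥K).map (iota K)

variable [Finite G] [Fact p.Prime]

instance V1_normal : (V1 K p).Normal := by
  haveI := V_char ↥K p
  exact map_inclusion_normal K (VK K p)

instance J1_normal : (J1 K p).Normal := by
  haveI := (Cfsg.Agent.S0602.result (G := ↥K) (p := p)).1
  exact map_inclusion_normal K (Cfsg.thompsonSubgroup p ↥K)

theorem iota_mem_centralizer_V1 (x : ↥K) :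
    iota K x ∈ Subgroup.centralizer ((V1 K p : Subgroup _) : Set _) ↔
      x ∈ Subgroup.centralizer ((VK K p : Subgroup ↥K) : Set ↥K) := by
  rw [Subgroup.mem_centralizer_iff, Subgroup.mem_centralizer_iff]
  constructor
  · intro h v hv
    apply iota_injective K
    rw [map_mul, map_mul]
    exact h _ ⟨v, hv, rfl⟩
  · rintro h _ ⟨v, hv, rfl⟩
    rw [← map_mul, ← map_mul, h v hv]

variable {p}

theorem hc_of (hsep : Cfsg.IsPSolvable p ↥K) (hO : Cfsg.pPrimeCore p ↥K = ⊥) :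
    Subgroup.centralizer (Cfsg.pCore p ↥K : Set ↥K) ≤ Cfsg.pCore p ↥K :=
  hall_higman_123 (psreach_of_isPSolvable hsep) hO

theorem VK_ea (hsep : Cfsg.IsPSolvable p ↥K) (hO : Cfsg.pPrimeCore p ↥K = ⊥) :
    Cfsg.IsElementaryAbelian p (VK K p) :=
  (Cfsg.Agent.S0601.result (p := p) (hc_of K hsep hO)).2.1

theorem V1_ea (hsep : Cfsg.IsPSolvable p ↥K) (hO : Cfsg.pPrimeCore p ↥K = ⊥) :
    Cfsg.IsElementaryAbelian p (V1 K p) := by
  have h := VK_ea K hsep hO
  refine ⟨⟨⟨?_⟩⟩, ?_⟩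
  · rintro ⟨_, ⟨a, ha, rfl⟩⟩ ⟨_, ⟨b, hb, rfl⟩⟩
    apply Subtype.ext
    show iota K a * iota K b = iota K b * iota K a
    have := h.1
    have hab : a * b = b * a :=
      congrArg Subtype.val (this.is_comm.comm (⟨a, ha⟩ : ↥(VK K p)) ⟨b, hb⟩)
    rw [← map_mul, ← map_mul, hab]
  · rintro _ ⟨a, ha, rfl⟩
    rw [← map_pow, h.2 a ha, map_one]

theorem pCore_quot (hsep : Cfsg.IsPSolvable p ↥K) (hO : Cfsg.pPrimeCore p ↥K = ⊥) :
    haveI : (VK K p).Normal := (Cfsg.Agent.S0601.result (p := p) (hc_of K hsep hO)).1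
    Cfsg.pCore p (↥K ⧸ Subgroup.centralizer ((VK K p : Subgroup ↥K) : Set ↥K)) = ⊥ := by
  obtain ⟨hVn, hVe, hD⟩ := Cfsg.Agent.S0601.result (p := p) (hc_of K hsep hO)
  haveI := hVn
  exact Cfsg.Agent.S0618.pCore_quot_eq_bot _ hD

theorem ker_toM_iota :
    ((toM (V1 K p)).comp (iota K)).ker =
      Subgroup.centralizer ((VK K p : Subgroup ↥K) : Set ↥K) := by
  ext x
  rw [MonoidHom.mem_ker, MonoidHom.comp_apply, ← MonoidHom.mem_ker]
  have := SetLike.ext_iff.mp (toM_ker (V1 K p)) (iota K x)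
  rw [this]
  exact iota_mem_centralizer_V1 K p x

theorem hsolv1 (hsep : Cfsg.IsPSolvable p ↥K) :
    Cfsg.IsPSolvable p ↥((J1 K p).map (toM (V1 K p))) := by
  have hp : p.Prime := Fact.out
  have h1 : Cfsg.IsPSolvable p ↥(Cfsg.thompsonSubgroup p ↥K) := isPSolvable_sub hp hsep _
  have h2 : Cfsg.IsPSolvable p ↥((Cfsg.thompsonSubgroup p ↥K).map ((toM (V1 K p)).comp (iota K))) :=
    isPSolvable_of_surjective hp _ (MonoidHom.subgroupMap_surjective _ _) h1
  rwa [← Subgroup.map_map] at h2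

theorem hcore1 (hsep : Cfsg.IsPSolvable p ↥K) (hO : Cfsg.pPrimeCore p ↥K = ⊥) :
    Cfsg.pCore p ↥((J1 K p).map (toM (V1 K p))) = ⊥ := by
  obtain ⟨hVn, hVe, hD⟩ := Cfsg.Agent.S0601.result (p := p) (hc_of K hsep hO)
  haveI := hVn
  have hOp : Cfsg.pCore p (↥K ⧸ Subgroup.centralizer ((VK K p : Subgroup ↥K) : Set ↥K)) = ⊥ :=
    Cfsg.Agent.S0618.pCore_quot_eq_bot _ hD
  haveI hJn : (Cfsg.thompsonSubgroup p ↥K).Normal := by
    haveI := (Cfsg.Agent.S0602.result (G := ↥K) (p := p)).1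
    exact Subgroup.normal_of_characteristic _
  have hNb : ((Cfsg.thompsonSubgroup p ↥K).map (QuotientGroup.mk'
      (Subgroup.centralizer ((VK K p : Subgroup ↥K) : Set ↥K)))).Normal :=
    hJn.map _ (QuotientGroup.mk'_surjective _)
  have h1 : Cfsg.pCore p ↥((Cfsg.thompsonSubgroup p ↥K).map (QuotientGroup.mk'
      (Subgroup.centralizer ((VK K p : Subgroup ↥K) : Set ↥K)))) = ⊥ :=
    pCore_sub_eq_bot _ hOp
  have hk : (QuotientGroup.mk' (Subgroup.centralizer ((VK K p : Subgroup ↥K) : Set ↥K))).ker =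
      ((toM (V1 K p)).comp (iota K)).ker := by
    rw [QuotientGroup.ker_mk', ker_toM_iota]
  obtain ⟨e⟩ := map_equiv_of_ker_eq _ _ hk (Cfsg.thompsonSubgroup p ↥K)
  have h2 : Cfsg.pCore p ↥((Cfsg.thompsonSubgroup p ↥K).map
      ((toM (V1 K p)).comp (iota K))) = ⊥ := by
    rw [← Cfsg.Agent.helper15.pCore_map_equiv p e, h1, Subgroup.map_bot]
  rwa [← Subgroup.map_map] at h2

theorem hgen1 (hsep : Cfsg.IsPSolvable p ↥K) (hO : Cfsg.pPrimeCore p ↥K = ⊥) :
    J1 K p = ⨆ A : {A : Subgroup ↥(Subgroup.normalizer (K : Set G)) //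
      A ≤ J1 K p ∧ Cfsg.IsBestOffenderOn p (V1 K p) A}, (A : Subgroup _) := by
  obtain ⟨hVn, hVe, hD⟩ := Cfsg.Agent.S0601.result (p := p) (hc_of K hsep hO)
  haveI := hVn
  apply le_antisymm
  · rw [Subgroup.map_le_iff_le_comap]
    apply sSup_le
    intro A hA
    rw [← Subgroup.map_le_iff_le_comap]
    have hb : Cfsg.IsBestOffenderOn p (VK K p) A := Cfsg.Agent.S0606.result (VK K p) hVe A hA
    exact le_iSup_of_le (⟨A.map (iota K), Subgroup.map_mono (le_sSup hA),
      best_map_injective (iota K) (iota_injective K) hb⟩ :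
      {A : Subgroup ↥(Subgroup.normalizer (K : Set G)) //
        A ≤ J1 K p ∧ Cfsg.IsBestOffenderOn p (V1 K p) A}) le_rfl
  · exact iSup_le (fun A => A.2.1)

end dict

end Cfsg.Agent.helper9.TFModel
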