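import Mathlib
import Cfsg.Agent.Lib_helper9_TFCop3
import Cfsg.Agent.Lib_helper9_OffCop6

set_option autoImplicit false
set_option linter.unusedSectionVars false
set_option linter.unusedVariables false

/-!
# Transferring a section `D / C_D(W)` along a homomorphism, and the `SL₂(p)` in the fixed points
-/

namespace Cfsg.Agent.helper9.TFModel

open Cfsg.Agent.helper4.PS Cfsg.Agent.helper23 Cfsg.Agent.helper9.Off
open scoped commutatorElement MatrixGroups
open Matrix

section transfer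

variable {G₁ : Type*} {G₂ : Type*} [Group G₁] [Group G₂]

theorem le_normalizer_of_conj_mem {D W : Subgroup G₁}
    (h : ∀ d ∈ D, ∀ w ∈ W, d * w * d⁻¹ ∈ W) : D ≤ Subgroup.normalizer (W : Set G₁) := by
  intro d hd
  rw [Subgroup.mem_normalizer_iff]
  intro w
  refine ⟨h d hd w, fun hw => ?_⟩
  have := h d⁻¹ (D.inv_mem hd) _ hw
  have e : d⁻¹ * (d * w * d⁻¹) * d⁻¹⁻¹ = w := by group
  rwa [e] at this

theorem sect_transfer (f : G₁ →* G₂) (W₁ D₁ : Subgroup G₁) (W₂ D₂ : Subgroup G₂)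
    (hD : D₁.map f = D₂)
    (hC : ∀ d ∈ D₁, d ∈ Subgroup.centralizer (W₁ : Set G₁) ↔
      f d ∈ Subgroup.centralizer (W₂ : Set G₂)) :
    (∀ hn₂ : ((Subgroup.centralizer (W₂ : Set G₂)).subgroupOf D₂).Normal,
      ∃ hn₁ : ((Subgroup.centralizer (W₁ : Set G₁)).subgroupOf D₁).Normal,
        Nonempty ((↥D₁ ⧸ (Subgroup.centralizer (W₁ : Set G₁)).subgroupOf D₁) ≃*
          (↥D₂ ⧸ (Subgroup.centralizer (W₂ : Set G₂)).subgroupOf D₂))) ∧
    (∀ hn₁ : ((Subgroup.centralizer (W₁ : Set G₁)).subgroupOf D₁).Normal,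
      ∃ hn₂ : ((Subgroup.centralizer (W₂ : Set G₂)).subgroupOf D₂).Normal,
        Nonempty ((↥D₂ ⧸ (Subgroup.centralizer (W₂ : Set G₂)).subgroupOf D₂) ≃*
          (↥D₁ ⧸ (Subgroup.centralizer (W₁ : Set G₁)).subgroupOf D₁))) := by
  subst hD
  have hφ : Function.Surjective (f.subgroupMap D₁) := f.subgroupMap_surjective D₁
  have hcomap : ((Subgroup.centralizer (W₂ : Set G₂)).subgroupOf (D₁.map f)).comap
      (f.subgroupMap D₁) = (Subgroup.centralizer (W₁ : Set G₁)).subgroupOf D₁ := by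
    ext x
    rw [Subgroup.mem_comap, Subgroup.mem_subgroupOf, Subgroup.mem_subgroupOf]
    exact (hC x x.2).symm
  have partA : ∀ hn₂ : ((Subgroup.centralizer (W₂ : Set G₂)).subgroupOf (D₁.map f)).Normal,
      ∃ hn₁ : ((Subgroup.centralizer (W₁ : Set G₁)).subgroupOf D₁).Normal,
        Nonempty ((↥D₁ ⧸ (Subgroup.centralizer (W₁ : Set G₁)).subgroupOf D₁) ≃*
          (↥(D₁.map f) ⧸ (Subgroup.centralizer (W₂ : Set G₂)).subgroupOf (D₁.map f))) := by
    intro hn₂
    have hψ : Function.Surjective ((QuotientGroup.mk'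
        ((Subgroup.centralizer (W₂ : Set G₂)).subgroupOf (D₁.map f))).comp (f.subgroupMap D₁)) :=
      (QuotientGroup.mk'_surjective _).comp hφ
    have hker : ((QuotientGroup.mk'
        ((Subgroup.centralizer (W₂ : Set G₂)).subgroupOf (D₁.map f))).comp
          (f.subgroupMap D₁)).ker = (Subgroup.centralizer (W₁ : Set G₁)).subgroupOf D₁ := by
      rw [← hcomap]
      ext x
      rw [MonoidHom.mem_ker, Subgroup.mem_comap, MonoidHom.comp_apply, QuotientGroup.mk'_apply,
        QuotientGroup.eq_one_iff]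
    have hn₁ : ((Subgroup.centralizer (W₁ : Set G₁)).subgroupOf D₁).Normal := by
      rw [← hker]; infer_instance
    exact ⟨hn₁, ⟨(QuotientGroup.quotientMulEquivOfEq hker.symm).trans
      (QuotientGroup.quotientKerEquivOfSurjective _ hψ)⟩⟩
  refine ⟨partA, ?_⟩
  intro hn₁
  have hn₂ : ((Subgroup.centralizer (W₂ : Set G₂)).subgroupOf (D₁.map f)).Normal := by
    have := hn₁.map (f.subgroupMap D₁) hφ
    rw [← hcomap, Subgroup.map_comap_eq_self_of_surjective hφ] at this
    exact this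
  obtain ⟨hn₁', ⟨e⟩⟩ := partA hn₂
  exact ⟨hn₂, ⟨e.symm⟩⟩

theorem sect_transfer_inj (f : G₁ →* G₂) (hf : Function.Injective f) (W D : Subgroup G₁)
    (hn : ((Subgroup.centralizer (W : Set G₁)).subgroupOf D).Normal) :
    ∃ hn' : ((Subgroup.centralizer ((W.map f : Subgroup G₂) : Set G₂)).subgroupOf
        (D.map f)).Normal,
      Nonempty ((↥(D.map f) ⧸ (Subgroup.centralizer ((W.map f : Subgroup G₂) : Set G₂)).subgroupOf
        (D.map f)) ≃* (↥D ⧸ (Subgroup.centralizer (W : Set G₁)).subgroupOf D)) := by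
  refine (sect_transfer f W D (W.map f) (D.map f) rfl ?_).2 hn
  intro d _
  rw [Subgroup.mem_centralizer_iff, Subgroup.mem_centralizer_iff]
  constructor
  · rintro h _ ⟨w, hw, rfl⟩
    rw [← map_mul, ← map_mul, h w hw]
  · intro h w hw
    apply hf
    rw [map_mul, map_mul]
    exact h _ ⟨w, hw, rfl⟩

theorem isEA_map {p : ℕ} (f : G₁ →* G₂) {W : Subgroup G₁}
    (hW : Cfsg.IsElementaryAbelian p W) : Cfsg.IsElementaryAbelian p (W.map f) := by
  refine ⟨⟨⟨?_⟩⟩, ?_⟩
  · rintro ⟨_, ⟨a, ha, rfl⟩⟩ ⟨_, ⟨b, hb, rfl⟩⟩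
    apply Subtype.ext
    show f a * f b = f b * f a
    have := hW.1
    have hab : a * b = b * a :=
      congrArg Subtype.val (this.is_comm.comm (⟨a, ha⟩ : ↥W) ⟨b, hb⟩)
    rw [← map_mul, ← map_mul, hab]
  · rintro _ ⟨a, ha, rfl⟩
    rw [← map_pow, hW.2 a ha, map_one]

end transfer

section cop

variable {G : Type*} [Group G] (V : Subgroup G) [V.Normal]
variable [Finite G] {p : ℕ} [Fact p.Prime] {q : ℕ} [Fact q.Prime]

/-- **The `SL₂(p)` in the fixed points of a coprime operator group.** -/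
theorem sl2_cop (hV : Cfsg.IsElementaryAbelian p V) (N : Subgroup G) [hN : N.Normal]
    (hsolv : Cfsg.IsPSolvable p ↥(N.map (toM V)))
    (hcore : Cfsg.pCore p ↥(N.map (toM V)) = ⊥)
    (hgen : N = ⨆ A : {A : Subgroup G // A ≤ N ∧ Cfsg.IsBestOffenderOn p V A}, (A : Subgroup G))
    (Y : Subgroup G) (hY : IsPGroup q ↥Y) (hq : ¬ q ∣ Nat.card ↥N)
    (hne : ¬ N ≤ Subgroup.centralizer (V : Set G)) :
    (p = 2 ∨ p = 3) ∧ ∃ W D : Subgroup G, W ≤ V ⊓ Subgroup.centralizer (Y : Set G) ∧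
      D ≤ N ⊓ Subgroup.centralizer (Y : Set G) ∧ Nat.card W = p ^ 2 ∧
      D ≤ Subgroup.normalizer (W : Set G) ∧
      ∃ hn : ((Subgroup.centralizer (W : Set G)).subgroupOf D).Normal,
        Nonempty ((↥D ⧸ (Subgroup.centralizer (W : Set G)).subgroupOf D) ≃*
          SpecialLinearGroup (Fin 2) (ZMod p)) := by
  have C := ctx_model V hV N hsolv hcore Y hY hq
  have hS3 := hS3_model V N hgen
  have hH1 : N.map (toM V) ≠ ⊥ := by
    intro h
    apply hne
    intro n hn
    have h1 : toM V n ∈ N.map (toM V) := ⟨n, hn, rfl⟩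
    rw [h, Subgroup.mem_bot] at h1
    exact (SetLike.ext_iff.mp (toM_ker V) n).mp ((MonoidHom.mem_ker).mpr h1)
  obtain ⟨hp23, W', D', hW', hD', hW'c, hD'N, hn', ⟨e'⟩⟩ :=
    Cfsg.Agent.helper9.OffCop.diag_sl2 C hS3 hH1
  have hW'V : W' ≤ (SemidirectProduct.inl : ↥V →* Model V).range := hW'.trans inf_le_left
  have hWmem : ∀ w : G, w ∈ (W'.comap (SemidirectProduct.inl : ↥V →* Model V)).map V.subtype ↔
      ∃ hv : w ∈ V, (SemidirectProduct.inl (⟨w, hv⟩ : ↥V) : Model V) ∈ W' := by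
    intro w
    constructor
    · rintro ⟨v, hv, rfl⟩
      exact ⟨v.2, hv⟩
    · rintro ⟨hv, h⟩
      exact ⟨⟨w, hv⟩, h, rfl⟩
  -- conjugation formula
  have hconj : ∀ (d : G) (v : ↥V), toM V d * SemidirectProduct.inl v * (toM V d)⁻¹ =
      SemidirectProduct.inl (⟨d * v * d⁻¹, (‹V.Normal›).conj_mem v v.2 d⟩ : ↥V) := by
    intro d v
    rw [toM_mul_inl, mul_inv_cancel_right]
  have hDmap : (N ⊓ Subgroup.centralizer (Y : Set G) ⊓ D'.comap (toM V)).map (toM V) = D' := by
    apply le_antisymm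
    · rintro _ ⟨d, hd, rfl⟩
      exact hd.2
    · intro d' hd'
      obtain ⟨d, hd, rfl⟩ := lift_fixed V N Y hY hq (hD' hd')
      exact ⟨d, ⟨hd, hd'⟩, rfl⟩
  have hC : ∀ d ∈ N ⊓ Subgroup.centralizer (Y : Set G) ⊓ D'.comap (toM V),
      d ∈ Subgroup.centralizer
        (((W'.comap (SemidirectProduct.inl : ↥V →* Model V)).map V.subtype : Subgroup G) : Set G) ↔
      toM V d ∈ Subgroup.centralizer (W' : Set (Model V)) := by
    intro d _
    rw [Subgroup.mem_centralizer_iff, Subgroup.mem_centralizer_iff]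
    constructor
    · intro h x hx
      obtain ⟨v, rfl⟩ := hW'V hx
      have hvW : (v : G) ∈ (W'.comap (SemidirectProduct.inl : ↥V →* Model V)).map V.subtype :=
        (hWmem _).mpr ⟨v.2, hx⟩
      have h1 := h _ hvW
      have h2 : d * (v : G) * d⁻¹ = v := by rw [← h1]; group
      rw [toM_mul_inl]
      congr 2
      exact Subtype.ext h2.symm
    · intro h w hw
      obtain ⟨hv, hw'⟩ := (hWmem w).mp hw
      have h1 := h _ hw'
      rw [toM_mul_inl] at h1
      have h2 := SemidirectProduct.inl_injective (mul_right_cancel h1)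
      have h3 : w = d * w * d⁻¹ := congrArg Subtype.val h2
      calc w * d = (d * w * d⁻¹) * d := by rw [← h3]
        _ = d * w := by group
  refine ⟨hp23, (W'.comap (SemidirectProduct.inl : ↥V →* Model V)).map V.subtype,
    N ⊓ Subgroup.centralizer (Y : Set G) ⊓ D'.comap (toM V), ?_, inf_le_left, ?_, ?_, ?_⟩
  · intro w hw
    obtain ⟨hv, hw'⟩ := (hWmem w).mp hw
    have h1 := hW' hw'
    have h2 : (mV' V ⊓ Subgroup.centralizer ((Y.map (toM V) : Subgroup (Model V)) :
        Set (Model V))) = _ := fix_model V Y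
    have h1' : (SemidirectProduct.inl (⟨w, hv⟩ : ↥V) : Model V) ∈
        mV' V ⊓ Subgroup.centralizer ((Y.map (toM V) : Subgroup (Model V)) : Set (Model V)) := h1
    rw [h2] at h1'
    obtain ⟨v', hv', hvv⟩ := h1'
    have h3 := SemidirectProduct.inl_injective hvv
    have h4 : (v' : G) ∈ V ⊓ Subgroup.centralizer (Y : Set G) := Subgroup.mem_subgroupOf.mp hv'
    rw [h3] at h4
    exact h4
  · have h1 : Nat.card ↥((W'.comap (SemidirectProduct.inl : ↥V →* Model V)).map
        (SemidirectProduct.inl : ↥V →* Model V)) =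
        Nat.card ↥(W'.comap (SemidirectProduct.inl : ↥V →* Model V)) :=
      Subgroup.card_map_of_injective SemidirectProduct.inl_injective
    rw [Subgroup.map_comap_eq, inf_eq_right.mpr hW'V] at h1
    rw [Subgroup.card_map_of_injective V.subtype_injective, ← h1, hW'c]
  · apply le_normalizer_of_conj_mem
    intro d hd w hw
    obtain ⟨hv, hw'⟩ := (hWmem w).mp hw
    have hdN : toM V d ∈ Subgroup.normalizer (W' : Set (Model V)) := hD'N hd.2
    have h1 := (Subgroup.mem_normalizer_iff.mp hdN _).mp hw'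
    rw [hconj] at h1
    exact (hWmem _).mpr ⟨_, h1⟩
  · obtain ⟨hn₁, ⟨e⟩⟩ := (sect_transfer (toM V) _ _ W' D' hDmap hC).1 hn'
    exact ⟨hn₁, ⟨e.trans e'⟩⟩

end cop

end Cfsg.Agent.helper9.TFModel
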