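import Mathlib
import Cfsg.Agent.Lib_helper1_ElemAb
import Cfsg.Agent.Lib_helper10_Alperin
import Cfsg.Agent.Lib_helper10_Reach

set_option autoImplicit false

/-! TI-subgroups of 2-groups with nontrivial Frattini subgroup commute. -/

namespace Cfsg.Agent.helper9

open Cfsg.Agent.helper10

section PowFour

/-- in a `2`-group, if `x ^ 4 = 1` implies `x ^ 2 = 1` then every element squares to `1` -/
theorem sq_eq_one_of_forall_pow_four {R : Type*} [Group R] (hR : IsPGroup 2 R)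
    (h : ∀ x : R, x ^ 4 = 1 → x ^ 2 = 1) (x : R) : x ^ 2 = 1 := by
  have key : ∀ k : ℕ, ∀ y : R, y ^ (2 ^ k) = 1 → y ^ 2 = 1 := by
    intro k
    induction k with
    | zero =>
      intro y hy
      rw [pow_zero, pow_one] at hy
      rw [hy, one_pow]
    | succ k ih =>
      intro y hy
      cases k with
      | zero => simpa using hy
      | succ k =>
        apply ih
        have h1 : (y ^ (2 ^ k)) ^ 4 = 1 := by
          rw [← pow_mul]
          have : 2 ^ k * 4 = 2 ^ (k + 1 + 1) := by ring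
          rw [this]; exact hy
        have h2 := h _ h1
        rw [← pow_mul] at h2
        have : 2 ^ k * 2 = 2 ^ (k + 1) := by ring
        rw [this] at h2
        exact h2
  obtain ⟨k, hk⟩ := hR x
  exact key k x hk

/-- a finite `2`-group with nontrivial Frattini subgroup has an element of order `4` -/
theorem exists_pow_four_of_frattini_ne_bot {R : Type*} [Group R] [Finite R] (hR : IsPGroup 2 R)
    (h : frattini R ≠ ⊥) : ∃ x : R, x ^ 4 = 1 ∧ x ^ 2 ≠ 1 := by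
  by_contra hcon
  push Not at hcon
  have hsq : ∀ x : R, x ^ 2 = 1 := sq_eq_one_of_forall_pow_four hR hcon
  apply h
  rw [eq_bot_iff]
  haveI : Fact (Nat.Prime 2) := ⟨Nat.prime_two⟩
  apply Cfsg.Agent.helper1.frattini_le_of_elemAb_quot (p := 2) (⊥ : Subgroup R)
  · rw [commutator_def, Subgroup.commutator_le]
    intro a _ b _
    rw [Subgroup.mem_bot, commutatorElement_eq_one_iff_mul_comm]
    have ha := hsq a
    have hb := hsq b
    have hab := hsq (a * b)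
    rw [pow_two] at ha hb hab
    have ha' : a⁻¹ = a := inv_eq_of_mul_eq_one_right ha
    have hb' : b⁻¹ = b := inv_eq_of_mul_eq_one_right hb
    have hab' : (a * b)⁻¹ = a * b := inv_eq_of_mul_eq_one_right hab
    calc a * b = (a * b)⁻¹ := hab'.symm
      _ = b⁻¹ * a⁻¹ := mul_inv_rev a b
      _ = b * a := by rw [ha', hb']
  · intro x
    rw [Subgroup.mem_bot]
    exact hsq x

end PowFour

section TI

variable {S : Type*} [Group S]

/-- a proper subgroup of a `p`-subgroup `M` lies in a proper subgroup normalized by `M` -/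
theorem exists_normal_proper_overgroup [Finite S] {p : ℕ} [Fact p.Prime] (M : Subgroup S)
    (hM : IsPGroup p M) :
    ∀ (k : ℕ) (D : Subgroup S), Nat.card M - Nat.card D = k → D < M →
      ∃ K : Subgroup S, D ≤ K ∧ K < M ∧ ∀ m ∈ M, K.map (MulAut.conj m).toMonoidHom = K := by
  intro k
  induction k using Nat.strong_induction_on with
  | _ k IH =>
    intro D hk hlt
    have hlt' := lt_inf_normalizer_of_lt hM hlt
    by_cases hN : M ⊓ Subgroup.normalizer (D : Set S) = M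
    · refine ⟨D, le_rfl, hlt, ?_⟩
      intro m hm
      have : m ∈ M ⊓ Subgroup.normalizer (D : Set S) := by rw [hN]; exact hm
      exact (mem_normalizer_iff_map_conj D m).mp (Subgroup.mem_inf.mp this).2
    · have hNlt : M ⊓ Subgroup.normalizer (D : Set S) < M := lt_of_le_of_ne inf_le_left hN
      have h1 : Nat.card D < Nat.card ↥(M ⊓ Subgroup.normalizer (D : Set S)) :=
        card_lt_card_of_lt hlt'
      have h2 : Nat.card ↥(M ⊓ Subgroup.normalizer (D : Set S)) < Nat.card M :=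
        card_lt_card_of_lt hNlt
      obtain ⟨K, hK1, hK2, hK3⟩ := IH (Nat.card M - Nat.card ↥(M ⊓ Subgroup.normalizer (D : Set S)))
        (by omega) _ rfl hNlt
      exact ⟨K, hlt'.le.trans hK1, hK2, hK3⟩

/-- the boundary element: some `2`-power power `t` of `x` moves `R` while `t ^ 2` fixes it -/
theorem exists_boundary_pow (R : Subgroup S) :
    ∀ (k : ℕ) (x : S), x ^ (2 ^ k) = 1 → R.map (MulAut.conj x).toMonoidHom ≠ R →
      ∃ j : ℕ, R.map (MulAut.conj (x ^ j)).toMonoidHom ≠ R ∧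
        R.map (MulAut.conj ((x ^ j) ^ 2)).toMonoidHom = R := by
  intro k
  induction k with
  | zero =>
    intro x hx hne
    rw [pow_zero, pow_one] at hx
    rw [hx, map_conj_one] at hne
    exact absurd rfl hne
  | succ k ih =>
    intro x hx hne
    by_cases h2 : R.map (MulAut.conj (x ^ 2)).toMonoidHom = R
    · exact ⟨1, by rw [pow_one]; exact hne, by rw [pow_one]; exact h2⟩
    · have hx2 : (x ^ 2) ^ (2 ^ k) = 1 := by
        rw [← pow_mul]
        have : 2 * 2 ^ k = 2 ^ (k + 1) := by ring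
        rw [this]; exact hx
      obtain ⟨j, hj1, hj2⟩ := ih (x ^ 2) hx2 h2
      refine ⟨2 * j, ?_, ?_⟩
      · rw [pow_mul]; exact hj1
      · rw [pow_mul]; exact hj2

end TI

section Core

variable {S : Type*} [Group S] [Finite S]

/-- Step 1: if `E` normalizes `D`, and the `D`-conjugates of `E` different from `E` meet `E`
trivially and commute with it, then `D` and `E` commute. -/
theorem ti_step1 (D E : Subgroup S) (hcard : Nat.card D = Nat.card E) (hDE : D ⊓ E = ⊥)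
    (hEconj : ∀ d ∈ D, E.map (MulAut.conj d).toMonoidHom = E ∨
      (E.map (MulAut.conj d).toMonoidHom ⊓ E = ⊥ ∧
        ∀ a ∈ E, ∀ b ∈ E.map (MulAut.conj d).toMonoidHom, a * b = b * a))
    (hnorm : ∀ e ∈ E, D.map (MulAut.conj e).toMonoidHom = D) :
    ∀ d ∈ D, ∀ e ∈ E, d * e = e * d := by
  have hnorm1 : ∀ e ∈ E, ∀ x ∈ D, e * x * e⁻¹ ∈ D := by
    intro e he x hx
    have := conj_mem_map_conj D e x hx
    rwa [hnorm e he] at this
  have hnorm2 : ∀ e ∈ E, ∀ x ∈ D, e⁻¹ * x * e ∈ D := by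
    intro e he x hx
    have := hnorm1 e⁻¹ (E.inv_mem he) x hx
    rwa [inv_inv] at this
  by_cases hall : ∀ d ∈ D, E.map (MulAut.conj d).toMonoidHom = E
  · intro d hd e he
    have h1 : d * e * d⁻¹ * e⁻¹ ∈ E := by
      have := conj_mem_map_conj E d e he
      rw [hall d hd] at this
      exact E.mul_mem this (E.inv_mem he)
    have h2 : d * e * d⁻¹ * e⁻¹ ∈ D := by
      have h3 : d * e * d⁻¹ * e⁻¹ = d * (e * d⁻¹ * e⁻¹) := by group
      rw [h3]
      exact D.mul_mem hd (hnorm1 e he _ (D.inv_mem hd))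
    have h3 : d * e * d⁻¹ * e⁻¹ ∈ D ⊓ E := Subgroup.mem_inf.mpr ⟨h2, h1⟩
    rw [hDE, Subgroup.mem_bot] at h3
    calc d * e = (d * e * d⁻¹ * e⁻¹) * (e * d) := by group
      _ = e * d := by rw [h3, one_mul]
  · exfalso
    push Not at hall
    obtain ⟨d, hd, hne⟩ := hall
    rcases hEconj d hd with h | ⟨hti, hcomm⟩
    · exact hne h
    -- the map `e ↦ e⁻¹ d e d⁻¹`
    have hmemD : ∀ e ∈ E, e⁻¹ * d * e * d⁻¹ ∈ D := fun e he =>
      D.mul_mem (hnorm2 e he d hd) (D.inv_mem hd)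
    have hmemC : ∀ e ∈ E, e⁻¹ * d * e * d⁻¹ ∈ Subgroup.centralizer (E : Set S) := by
      intro e he
      rw [Subgroup.mem_centralizer_iff]
      intro e₁ he₁
      obtain ⟨c, hc⟩ : ∃ c, c = e⁻¹ * d * e * d⁻¹ := ⟨_, rfl⟩
      rw [← hc]
      have hcD : c ∈ D := by rw [hc]; exact hmemD e he
      have hec : e * c = d * e * d⁻¹ := by rw [hc]; group
      have h1 : e₁ * (e * c) = (e * c) * e₁ := by
        rw [hec]
        exact hcomm e₁ he₁ _ (conj_mem_map_conj E d e he)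
      have h2 : c * e₁ * c⁻¹ * e₁⁻¹ = e⁻¹ * e₁ * e * e₁⁻¹ := by
        calc c * e₁ * c⁻¹ * e₁⁻¹ = e⁻¹ * ((e * c) * e₁) * c⁻¹ * e₁⁻¹ := by group
          _ = e⁻¹ * (e₁ * (e * c)) * c⁻¹ * e₁⁻¹ := by rw [h1]
          _ = e⁻¹ * e₁ * e * e₁⁻¹ := by group
      have h3 : c * e₁ * c⁻¹ * e₁⁻¹ ∈ E := by
        rw [h2]
        exact E.mul_mem (E.mul_mem (E.mul_mem (E.inv_mem he) he₁) he) (E.inv_mem he₁)
      have h4 : c * e₁ * c⁻¹ * e₁⁻¹ ∈ D := by
        have h5 : c * e₁ * c⁻¹ * e₁⁻¹ = c * (e₁ * c⁻¹ * e₁⁻¹) := by group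
        rw [h5]
        exact D.mul_mem hcD (hnorm1 e₁ he₁ _ (D.inv_mem hcD))
      have h5 : c * e₁ * c⁻¹ * e₁⁻¹ ∈ D ⊓ E := Subgroup.mem_inf.mpr ⟨h4, h3⟩
      rw [hDE, Subgroup.mem_bot] at h5
      calc e₁ * c = (c * e₁ * c⁻¹ * e₁⁻¹)⁻¹ * (c * e₁) := by group
        _ = c * e₁ := by rw [h5, inv_one, one_mul]
    have hinj : Function.Injective (fun e : ↥E =>
        (⟨(e : S)⁻¹ * d * (e : S) * d⁻¹, Subgroup.mem_inf.mpr ⟨hmemD e e.2, hmemC e e.2⟩⟩ :
          ↥(D ⊓ Subgroup.centralizer (E : Set S)))) := by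
      intro e e' hee
      have h1 : (e : S)⁻¹ * d * (e : S) * d⁻¹ = (e' : S)⁻¹ * d * (e' : S) * d⁻¹ :=
        congrArg (fun z : ↥(D ⊓ Subgroup.centralizer (E : Set S)) => (z : S)) hee
      have h2 : d * ((e' : S) * (e : S)⁻¹) * d⁻¹ = (e' : S) * (e : S)⁻¹ := by
        calc d * ((e' : S) * (e : S)⁻¹) * d⁻¹
            = (e' : S) * ((e' : S)⁻¹ * d * (e' : S) * d⁻¹) * (d * (e : S)⁻¹ * d⁻¹) := by group
          _ = (e' : S) * ((e : S)⁻¹ * d * (e : S) * d⁻¹) * (d * (e : S)⁻¹ * d⁻¹) := by rw [h1]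
          _ = (e' : S) * (e : S)⁻¹ := by group
      have h3 : (e' : S) * (e : S)⁻¹ ∈ E := E.mul_mem e'.2 (E.inv_mem e.2)
      have h4 : (e' : S) * (e : S)⁻¹ ∈ E.map (MulAut.conj d).toMonoidHom := by
        rw [← h2]; exact conj_mem_map_conj E d _ h3
      have h5 : (e' : S) * (e : S)⁻¹ ∈ E.map (MulAut.conj d).toMonoidHom ⊓ E :=
        Subgroup.mem_inf.mpr ⟨h4, h3⟩
      rw [hti, Subgroup.mem_bot] at h5
      apply Subtype.ext
      exact (mul_inv_eq_one.mp h5).symm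
    have hle := Nat.card_le_card_of_injective _ hinj
    have hlt : D ⊓ Subgroup.centralizer (E : Set S) < D := by
      refine lt_of_le_of_ne inf_le_left ?_
      intro heq
      apply hne
      have hdc : d ∈ Subgroup.centralizer (E : Set S) := by
        have : d ∈ D ⊓ Subgroup.centralizer (E : Set S) := by rw [heq]; exact hd
        exact (Subgroup.mem_inf.mp this).2
      rw [Subgroup.mem_centralizer_iff] at hdc
      ext x
      rw [mem_map_conj_iff]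
      constructor
      · intro hx
        have h1 := hdc _ hx
        have h2 : x = d⁻¹ * x * d := by
          calc x = (d * (d⁻¹ * x * d)) * d⁻¹ := by group
            _ = (d⁻¹ * x * d * d) * d⁻¹ := by rw [h1]
            _ = d⁻¹ * x * d := by group
        rw [h2]; exact hx
      · intro hx
        have h1 := hdc _ hx
        have h2 : d⁻¹ * x * d = x := by
          calc d⁻¹ * x * d = d⁻¹ * (x * d) := by group
            _ = d⁻¹ * (d * x) := by rw [h1]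
            _ = x := by group
        rw [h2]; exact hx
    have hlt' := card_lt_card_of_lt hlt
    omega

/-- squares of elements moving `T` are trivial -/
theorem ti_sq_eq_one (R T : Subgroup S) (r t : S) (hr : r ∈ R) (ht : t ∈ T)
    (hRt : R.map (MulAut.conj t).toMonoidHom ⊓ R = ⊥)
    (hRRt : ∀ a ∈ R, ∀ b ∈ R.map (MulAut.conj t).toMonoidHom, a * b = b * a)
    (hTTr : ∀ a ∈ T, ∀ b ∈ T.map (MulAut.conj r).toMonoidHom, a * b = b * a)
    (ht2 : R.map (MulAut.conj (t ^ 2)).toMonoidHom = R) : r ^ 2 = 1 := by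
  have hc1 : Commute r (t * r⁻¹ * t⁻¹) :=
    hRRt r hr _ (conj_mem_map_conj R t r⁻¹ (R.inv_mem hr))
  have hc2 : Commute (r * t * r⁻¹) t⁻¹ :=
    (hTTr t⁻¹ (T.inv_mem ht) _ (conj_mem_map_conj T r t ht)).symm
  have hw1 : (r * t * r⁻¹ * t⁻¹) ^ 2 = (r * t * r⁻¹) ^ 2 * (t⁻¹) ^ 2 := hc2.mul_pow 2
  have hw2 : (r * t * r⁻¹ * t⁻¹) ^ 2 = r ^ 2 * (t * r⁻¹ * t⁻¹) ^ 2 := by
    have h : r * t * r⁻¹ * t⁻¹ = r * (t * r⁻¹ * t⁻¹) := by group
    rw [h]; exact hc1.mul_pow 2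
  rw [conj_pow] at hw1
  rw [conj_pow] at hw2
  have hy : t * r⁻¹ ^ 2 * t⁻¹ = r⁻¹ * (t ^ 2 * r⁻¹ * (t ^ 2)⁻¹) := by
    calc t * r⁻¹ ^ 2 * t⁻¹ = (r ^ 2)⁻¹ * (r ^ 2 * (t * r⁻¹ ^ 2 * t⁻¹)) := by group
      _ = (r ^ 2)⁻¹ * (r * t ^ 2 * r⁻¹ * (t⁻¹) ^ 2) := by rw [← hw2, hw1]
      _ = r⁻¹ * (t ^ 2 * r⁻¹ * (t ^ 2)⁻¹) := by group
  have h1 : t * r⁻¹ ^ 2 * t⁻¹ ∈ R.map (MulAut.conj t).toMonoidHom :=
    conj_mem_map_conj R t _ (R.pow_mem (R.inv_mem hr) 2)
  have h2 : t * r⁻¹ ^ 2 * t⁻¹ ∈ R := by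
    rw [hy]
    refine R.mul_mem (R.inv_mem hr) ?_
    have := conj_mem_map_conj R (t ^ 2) r⁻¹ (R.inv_mem hr)
    rwa [ht2] at this
  have h3 : t * r⁻¹ ^ 2 * t⁻¹ ∈ R.map (MulAut.conj t).toMonoidHom ⊓ R :=
    Subgroup.mem_inf.mpr ⟨h1, h2⟩
  rw [hRt, Subgroup.mem_bot] at h3
  have h4 : r⁻¹ ^ 2 = 1 := by
    calc r⁻¹ ^ 2 = t⁻¹ * (t * r⁻¹ ^ 2 * t⁻¹) * t := by group
      _ = 1 := by rw [h3]; group
  rw [inv_pow, inv_eq_one] at h4
  exact h4

/-- the final contradiction -/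
theorem ti_contra (R T : Subgroup S) (r₀ r t : S) (hr₀ : r₀ ∈ R) (hr : r ∈ R) (ht : t ∈ T)
    (h4 : r₀ ^ 4 = 1) (h2 : r₀ ^ 2 ≠ 1) (hr2 : r ^ 2 = 1) (hrr₀ : (r * r₀) ^ 2 = 1)
    (hr₀T : T.map (MulAut.conj r₀).toMonoidHom = T)
    (hRt : R.map (MulAut.conj t).toMonoidHom ⊓ R = ⊥)
    (hRRt : ∀ a ∈ R, ∀ b ∈ R.map (MulAut.conj t).toMonoidHom, a * b = b * a)
    (hTr : T.map (MulAut.conj r).toMonoidHom ⊓ T = ⊥) : False := by
  obtain ⟨a', ha'⟩ : ∃ a', a' = t * r₀⁻¹ * t⁻¹ := ⟨_, rfl⟩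
  have ha'R : a' ∈ R.map (MulAut.conj t).toMonoidHom := by
    rw [ha']; exact conj_mem_map_conj R t _ (R.inv_mem hr₀)
  have hc0 : Commute r₀ a' := hRRt r₀ hr₀ a' ha'R
  have hc0' : Commute r₀⁻¹ a' := hRRt r₀⁻¹ (R.inv_mem hr₀) a' ha'R
  have hcr : Commute r a' := hRRt r hr a' ha'R
  have hinv4 : r₀⁻¹ ^ 2 = r₀ ^ 2 := by
    have h5 : r₀ ^ 2 * r₀ ^ 2 = 1 := by rw [← pow_add]; exact h4
    rw [inv_pow]
    exact inv_eq_of_mul_eq_one_right h5
  have hrinv : r⁻¹ = r := by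
    rw [pow_two] at hr2
    exact inv_eq_of_mul_eq_one_right hr2
  have hconj : r * r₀ * r⁻¹ = r₀⁻¹ := by
    rw [pow_two] at hrr₀
    rw [hrinv]
    calc r * r₀ * r = (r * r₀ * (r * r₀)) * r₀⁻¹ := by group
      _ = r₀⁻¹ := by rw [hrr₀, one_mul]
  -- `u`
  have hu : r₀ * t * r₀⁻¹ * t⁻¹ = r₀ * a' := by rw [ha']; group
  have huT : r₀ * t * r₀⁻¹ * t⁻¹ ∈ T := by
    have := conj_mem_map_conj T r₀ t ht
    rw [hr₀T] at this
    exact T.mul_mem this (T.inv_mem ht)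
  have hu2 : (r₀ * t * r₀⁻¹ * t⁻¹) ^ 2 = r₀ ^ 2 * a' ^ 2 := by
    rw [hu]; exact hc0.mul_pow 2
  have hv : r * (r₀ * t * r₀⁻¹ * t⁻¹) * r⁻¹ = r₀⁻¹ * a' := by
    rw [hu]
    calc r * (r₀ * a') * r⁻¹ = (r * r₀ * r⁻¹) * ((r * a') * r⁻¹) := by group
      _ = r₀⁻¹ * ((a' * r) * r⁻¹) := by rw [hconj, hcr.eq]
      _ = r₀⁻¹ * a' := by group
  have hv2 : (r * (r₀ * t * r₀⁻¹ * t⁻¹) * r⁻¹) ^ 2 = r₀ ^ 2 * a' ^ 2 := by
    rw [hv, hc0'.mul_pow 2, hinv4]
  have huv : (r₀ * t * r₀⁻¹ * t⁻¹) ^ 2 ∈ T.map (MulAut.conj r).toMonoidHom := by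
    rw [hu2, ← hv2, conj_pow]
    exact conj_mem_map_conj T r _ (T.pow_mem huT 2)
  have h5 : (r₀ * t * r₀⁻¹ * t⁻¹) ^ 2 ∈ T.map (MulAut.conj r).toMonoidHom ⊓ T :=
    Subgroup.mem_inf.mpr ⟨huv, T.pow_mem huT 2⟩
  rw [hTr, Subgroup.mem_bot, hu2] at h5
  have ha'2 : a' ^ 2 = t * r₀ ^ 2 * t⁻¹ := by
    rw [ha', conj_pow, hinv4]
  rw [ha'2] at h5
  have h6 : t * r₀ ^ 2 * t⁻¹ = (r₀ ^ 2)⁻¹ := eq_inv_of_mul_eq_one_right h5
  have h7 : t * r₀ ^ 2 * t⁻¹ ∈ R.map (MulAut.conj t).toMonoidHom ⊓ R := by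
    refine Subgroup.mem_inf.mpr ⟨conj_mem_map_conj R t _ (R.pow_mem hr₀ 2), ?_⟩
    rw [h6]; exact R.inv_mem (R.pow_mem hr₀ 2)
  rw [hRt, Subgroup.mem_bot] at h7
  apply h2
  calc r₀ ^ 2 = t⁻¹ * (t * r₀ ^ 2 * t⁻¹) * t := by group
    _ = 1 := by rw [h7]; group

end Core

section Main

variable {S : Type*} [Group S] [Finite S]

/-- **TI-subgroups with nontrivial Frattini subgroup in a `2`-group commute** (ambient form):
`M` is a `2`-subgroup, `Δ` an `M`-invariant family of subgroups of `M` of the same order, each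
containing an element of order `4`, pairwise meeting trivially. -/
theorem ti_commute_aux : ∀ (n : ℕ) (M : Subgroup S) (Δ : Set (Subgroup S)), Nat.card M = n →
    IsPGroup 2 M → (∀ D ∈ Δ, D ≤ M) →
    (∀ m ∈ M, ∀ D ∈ Δ, D.map (MulAut.conj m).toMonoidHom ∈ Δ) →
    (∀ D ∈ Δ, ∃ x ∈ D, x ^ 4 = 1 ∧ x ^ 2 ≠ 1) →
    (∀ D ∈ Δ, ∀ E ∈ Δ, Nat.card D = Nat.card E) →
    (∀ D ∈ Δ, ∀ E ∈ Δ, D = E ∨ D ⊓ E = ⊥) →
    ∀ R ∈ Δ, ∀ T ∈ Δ, R ≠ T → ∀ r ∈ R, ∀ t ∈ T, r * t = t * r := by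
  intro n
  induction n using Nat.strong_induction_on with
  | _ n IH =>
    intro M Δ hn hM hle hinv h4 hord hti R hR T hT hne
    haveI : Fact (Nat.Prime 2) := ⟨Nat.prime_two⟩
    have hpair : ∀ M' : Subgroup S, M' ≤ M → Nat.card M' < n → ∀ D ∈ Δ, ∀ E ∈ Δ, D ≤ M' →
        E ≤ M' → D ≠ E → ∀ a ∈ D, ∀ b ∈ E, a * b = b * a := by
      intro M' hM'M hM'n D hD E hE hDM hEM hDE
      refine IH (Nat.card M') hM'n M' {F | F ∈ Δ ∧ F ≤ M'} rfl (hM.to_le hM'M) (fun F hF => hF.2)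
        (fun m hm F hF => ⟨hinv m (hM'M hm) F hF.1, ?_⟩) (fun F hF => h4 F hF.1)
        (fun F hF F' hF' => hord F hF.1 F' hF'.1) (fun F hF F' hF' => hti F hF.1 F' hF'.1)
        D ⟨hD, hDM⟩ E ⟨hE, hEM⟩ hDE
      rintro _ ⟨f, hf, rfl⟩
      exact M'.mul_mem (M'.mul_mem hm (hF.2 hf)) (M'.inv_mem hm)
    by_cases hsup : R ⊔ T = M
    · have hconj : ∀ D ∈ Δ, D ≠ M → ∀ m ∈ M, D.map (MulAut.conj m).toMonoidHom ≠ D →
          ∀ a ∈ D, ∀ b ∈ D.map (MulAut.conj m).toMonoidHom, a * b = b * a := by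
        intro D hD hDM m hm hne'
        have hlt : D < M := lt_of_le_of_ne (hle D hD) hDM
        obtain ⟨K, hK1, hK2, hK3⟩ := exists_normal_proper_overgroup M hM _ D rfl hlt
        have hmK : D.map (MulAut.conj m).toMonoidHom ≤ K := by
          rw [← hK3 m hm]; exact Subgroup.map_mono hK1
        have hcardK : Nat.card K < n := by rw [← hn]; exact card_lt_card_of_lt hK2
        exact hpair K hK2.le hcardK D hD _ (hinv m hm D hD) hK1 hmK (Ne.symm hne')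
      have hRM : R ≠ M := by
        intro h
        have h1 : T = R := Subgroup.eq_of_le_of_card_ge (by rw [h]; exact hle T hT)
          (hord R hR T hT).le
        exact hne h1.symm
      have hTM : T ≠ M := by
        intro h
        have h1 : R = T := Subgroup.eq_of_le_of_card_ge (by rw [h]; exact hle R hR)
          (hord T hT R hR).le
        exact hne h1
      have hRT : R ⊓ T = ⊥ := (hti R hR T hT).resolve_left hne
      have hTc : ∀ d ∈ R, T.map (MulAut.conj d).toMonoidHom = T ∨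
          (T.map (MulAut.conj d).toMonoidHom ⊓ T = ⊥ ∧
            ∀ a ∈ T, ∀ b ∈ T.map (MulAut.conj d).toMonoidHom, a * b = b * a) := by
        intro d hd
        by_cases h : T.map (MulAut.conj d).toMonoidHom = T
        · left; exact h
        · right
          exact ⟨(hti _ (hinv d (hle R hR hd) T hT) T hT).resolve_left h,
            hconj T hT hTM d (hle R hR hd) h⟩
      have hRc : ∀ d ∈ T, R.map (MulAut.conj d).toMonoidHom = R ∨
          (R.map (MulAut.conj d).toMonoidHom ⊓ R = ⊥ ∧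
            ∀ a ∈ R, ∀ b ∈ R.map (MulAut.conj d).toMonoidHom, a * b = b * a) := by
        intro d hd
        by_cases h : R.map (MulAut.conj d).toMonoidHom = R
        · left; exact h
        · right
          exact ⟨(hti _ (hinv d (hle T hT hd) R hR) R hR).resolve_left h,
            hconj R hR hRM d (hle T hT hd) h⟩
      by_cases hTn : ∀ e ∈ T, R.map (MulAut.conj e).toMonoidHom = R
      · exact ti_step1 R T (hord R hR T hT) hRT hTc hTn
      by_cases hRn : ∀ e ∈ R, T.map (MulAut.conj e).toMonoidHom = T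
      · have h1 := ti_step1 T R (hord T hT R hR) (by rw [inf_comm]; exact hRT) hRc hRn
        intro r hr t ht
        exact (h1 t ht r hr).symm
      exfalso
      push Not at hTn hRn
      obtain ⟨t₀, ht₀, hne₀⟩ := hTn
      obtain ⟨r₁, hr₁, hne₁⟩ := hRn
      obtain ⟨k, hk⟩ := hM ⟨t₀, hle T hT ht₀⟩
      have hk' : t₀ ^ (2 ^ k) = 1 := by
        have := congrArg (fun z : ↥M => (z : S)) hk
        simpa using this
      obtain ⟨j, hj1, hj2⟩ := exists_boundary_pow R k t₀ hk' hne₀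
      have htT : t₀ ^ j ∈ T := T.pow_mem ht₀ j
      have htM : t₀ ^ j ∈ M := hle T hT htT
      have hRti : R.map (MulAut.conj (t₀ ^ j)).toMonoidHom ⊓ R = ⊥ :=
        (hti _ (hinv _ htM R hR) R hR).resolve_left hj1
      have hRRt := hconj R hR hRM (t₀ ^ j) htM hj1
      have hsq : ∀ r ∈ R, T.map (MulAut.conj r).toMonoidHom ≠ T → r ^ 2 = 1 := by
        intro r hr hner
        exact ti_sq_eq_one R T r (t₀ ^ j) hr htT hRti hRRt
          (hconj T hT hTM r (hle R hR hr) hner) hj2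
      obtain ⟨r₀, hr₀, h4r, h2r⟩ := h4 R hR
      have hr₀T : T.map (MulAut.conj r₀).toMonoidHom = T := by
        by_contra h
        exact h2r (hsq r₀ hr₀ h)
      have hr1sq := hsq r₁ hr₁ hne₁
      have hne₂ : T.map (MulAut.conj (r₁ * r₀)).toMonoidHom ≠ T := by
        rw [map_conj_mul, hr₀T]; exact hne₁
      have hr10sq := hsq (r₁ * r₀) (R.mul_mem hr₁ hr₀) hne₂
      have hTri : T.map (MulAut.conj r₁).toMonoidHom ⊓ T = ⊥ :=
        (hti _ (hinv _ (hle R hR hr₁) T hT) T hT).resolve_left hne₁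
      exact ti_contra R T r₀ r₁ (t₀ ^ j) hr₀ hr₁ htT h4r h2r hr1sq hr10sq hr₀T hRti hRRt hTri
    · have hlt : R ⊔ T < M := lt_of_le_of_ne (sup_le (hle R hR) (hle T hT)) hsup
      have hcard : Nat.card ↥(R ⊔ T) < n := by rw [← hn]; exact card_lt_card_of_lt hlt
      exact hpair (R ⊔ T) hlt.le hcard R hR T hT le_sup_left le_sup_right hne

end Main

end Cfsg.Agent.helper9
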