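import Mathlib
import Cfsg.Statements.S0029
import Cfsg.Agent.Lib_lead_Coprime5

set_option autoImplicit false
open Cfsg

namespace Cfsg.Agent.S0029

open Cfsg.Agent.lead Cfsg.Agent.helper7

theorem mem_normalizer_of_conj_mem {G : Type*} [Group G] (H : Subgroup G) (a : G)
    (h1 : ∀ x ∈ H, a * x * a⁻¹ ∈ H) (h2 : ∀ x ∈ H, a⁻¹ * x * a ∈ H) :
    a ∈ Subgroup.normalizer (H : Set G) := by
  rw [Subgroup.mem_normalizer_iff]
  intro x
  constructor
  · exact h1 x
  · intro hx
    have := h2 _ hx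
    have e : a⁻¹ * (a * x * a⁻¹) * a = x := by group
    rwa [e] at this

theorem result {G : Type*} [Group G] [Finite G] (A K : Subgroup G)
    (hAK : A ≤ Subgroup.normalizer (K : Set G))
    (hcop : (Nat.card A).Coprime (Nat.card (frattini K)))
    (htriv : ∀ a ∈ A, ∀ k ∈ K, a * k * a⁻¹ * k⁻¹ ∈ (frattini K).map K.subtype) :
    A ≤ Subgroup.centralizer (K : Set G) := by
  set Φ : Subgroup G := (frattini K).map K.subtype with hΦ
  have hΦK : Φ ≤ K := Subgroup.map_subtype_le _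
  have hΦcard : Nat.card Φ = Nat.card (frattini K) :=
    Subgroup.card_map_of_injective K.subtype_injective
  have hcopΦ : (Nat.card A).Coprime (Nat.card Φ) := by rw [hΦcard]; exact hcop
  -- elements of N(K) normalize Φ
  have hconj : ∀ a ∈ Subgroup.normalizer (K : Set G), ∀ x ∈ Φ, a * x * a⁻¹ ∈ Φ := by
    intro a ha x hx
    obtain ⟨y, hy, rfl⟩ := hx
    let φ : MulAut K := K.normalizerMonoidHom ⟨a, ha⟩
    have hchar : (frattini K).map φ.toMonoidHom = frattini K :=
      Subgroup.characteristic_iff_map_eq.mp inferInstance φ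
    have h1 : φ y ∈ frattini K := by
      rw [← hchar]; exact ⟨y, hy, rfl⟩
    refine ⟨φ y, h1, ?_⟩
    show ((K.normalizerMonoidHom ⟨a, ha⟩ y : K) : G) = _
    rw [Subgroup.normalizerMonoidHom_apply_apply_coe]
    rfl
  have hNKΦ : Subgroup.normalizer (K : Set G) ≤ Subgroup.normalizer (Φ : Set G) := by
    intro a ha
    apply mem_normalizer_of_conj_mem Φ a (hconj a ha)
    intro x hx
    have := hconj a⁻¹ (Subgroup.inv_mem _ ha) x hx
    rwa [inv_inv] at this
  have hAΦ : A ≤ Subgroup.normalizer (Φ : Set G) := hAK.trans hNKΦ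
  have hKΦ : K ≤ Subgroup.normalizer (Φ : Set G) := Subgroup.le_normalizer.trans hNKΦ
  have hsolvΦ : Group.IsSolvable Φ := by
    haveI : Group.IsNilpotent (frattini K) := frattini_nilpotent
    exact Group.isSolvable_of_surjective
      (f := K.subtype.subgroupMap (frattini K)) (K.subtype.subgroupMap_surjective (frattini K))
  -- K normalizes A
  have hKA : K ≤ Subgroup.normalizer (A : Set G) := by
    have key : ∀ k ∈ K, ∃ d ∈ Φ, d * k ∈ Subgroup.normalizer (A : Set G) := by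
      intro k hk
      have hB : cj k A ≤ Φ ⊔ A := by
        intro y hy
        have hy' := hy
        rw [mem_cj] at hy'
        set a := k⁻¹ * y * k with ha
        have h1 := htriv a hy' k⁻¹ (K.inv_mem hk)
        have h2 : k * (a * k⁻¹ * a⁻¹ * k⁻¹⁻¹) * k⁻¹ ∈ Φ :=
          (Subgroup.mem_normalizer_iff.mp (hKΦ hk) _).mp h1
        have h3 : k * (a * k⁻¹ * a⁻¹ * k⁻¹⁻¹) * k⁻¹ = y * a⁻¹ := by rw [ha]; group
        rw [h3] at h2
        have h5 : y = (y * a⁻¹) * a := by group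
        rw [h5]
        exact Subgroup.mul_mem _ (Subgroup.mem_sup_left h2) (Subgroup.mem_sup_right hy')
      obtain ⟨d, hd, hdA⟩ := sz_conj_semidirect A Φ hAΦ hcopΦ (Or.inr hsolvΦ) (cj k A) hB (card_cj _ _)
      rw [cj_cj] at hdA
      exact ⟨d, hd, mem_normalizer_of_cj_eq hdA⟩
    set M : Subgroup K := (K ⊓ Subgroup.normalizer (A : Set G)).subgroupOf K with hM
    have hMtop : M = ⊤ := by
      apply frattini_nongenerating
      rw [eq_top_iff]
      intro k _
      obtain ⟨d, hd, hdk⟩ := key k k.2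
      obtain ⟨d', hd', hdd⟩ := hd
      have h1 : d' * k ∈ M := by
        rw [hM, Subgroup.mem_subgroupOf]
        refine Subgroup.mem_inf.mpr ⟨(d' * k).2, ?_⟩
        have : ((d' * k : K) : G) = d * k := by rw [Subgroup.coe_mul, ← hdd]; rfl
        rw [this]; exact hdk
      have h2 : k = d'⁻¹ * (d' * k) := by group
      rw [h2]
      exact Subgroup.mul_mem _ (Subgroup.mem_sup_right (Subgroup.inv_mem _ hd'))
        (Subgroup.mem_sup_left h1)
    intro k hk
    have : (⟨k, hk⟩ : K) ∈ M := hMtop ▸ Subgroup.mem_top _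
    rw [hM, Subgroup.mem_subgroupOf] at this
    exact (Subgroup.mem_inf.mp this).2
  have hAΦbot : A ⊓ Φ = ⊥ := Subgroup.inf_eq_bot_of_coprime hcopΦ
  intro a ha
  rw [Subgroup.mem_centralizer_iff]
  intro k hk
  have h1 := htriv a ha k hk
  have h2 : a * k * a⁻¹ * k⁻¹ ∈ A := by
    have h3 : k * a⁻¹ * k⁻¹ ∈ A :=
      (Subgroup.mem_normalizer_iff.mp (hKA hk) a⁻¹).mp (A.inv_mem ha)
    have : a * k * a⁻¹ * k⁻¹ = a * (k * a⁻¹ * k⁻¹) := by group
    rw [this]; exact A.mul_mem ha h3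
  have h4 : a * k * a⁻¹ * k⁻¹ ∈ A ⊓ Φ := Subgroup.mem_inf.mpr ⟨h2, h1⟩
  rw [hAΦbot, Subgroup.mem_bot] at h4
  calc k * a = (a * k * a⁻¹ * k⁻¹)⁻¹ * (a * k) := by group
    _ = a * k := by rw [h4]; group

end Cfsg.Agent.S0029
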