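import Mathlib
import Cfsg.Prelude.Def_Local
import Cfsg.Agent.Lib_helper9_TI
import Cfsg.Agent.Lib_helper1_Core
import Cfsg.Agent.Lib_helper1_PGroup
import Cfsg.Agent.Lib_helper7_FStar
import Cfsg.Agent.S0029

set_option autoImplicit false

/-! Abelian TI-subgroups in groups with `F*(X) = O_2(X)`. -/

namespace Cfsg.Agent.helper9

open Cfsg Cfsg.Agent.helper10

section Conj

variable {X : Type*} [Group X] [Finite X]

/-- The conjugates (under `W`) of a TI-subgroup `U` with an element of order `4`, all lying in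
the `2`-group `M ≤ W`, either equal `U` or commute with `U`. -/
theorem ti_conj_commute (M W U : Subgroup X) (hM : IsPGroup 2 M) (hMW : M ≤ W)
    (hUM : ∀ g ∈ W, U.map (MulAut.conj g).toMonoidHom ≤ M)
    (hx : ∃ x ∈ U, x ^ 4 = 1 ∧ x ^ 2 ≠ 1)
    (hti : ∀ h ∈ W, U.map (MulAut.conj h).toMonoidHom = U ∨
      U.map (MulAut.conj h).toMonoidHom ⊓ U = ⊥) :
    ∀ g ∈ W, U.map (MulAut.conj g).toMonoidHom = U ∨
      ∀ a ∈ U, ∀ b ∈ U.map (MulAut.conj g).toMonoidHom, a * b = b * a := by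
  intro g hg
  by_cases heq : U.map (MulAut.conj g).toMonoidHom = U
  · left; exact heq
  right
  obtain ⟨Δ, hΔ⟩ : ∃ Δ : Set (Subgroup X), ∀ D, D ∈ Δ ↔
      ∃ k ∈ W, D = U.map (MulAut.conj k).toMonoidHom := ⟨{D | ∃ k ∈ W, D = _}, fun D => Iff.rfl⟩
  have hU : U ∈ Δ := (hΔ U).mpr ⟨1, W.one_mem, (map_conj_one U).symm⟩
  have hgU : U.map (MulAut.conj g).toMonoidHom ∈ Δ := (hΔ _).mpr ⟨g, hg, rfl⟩
  refine ti_commute_aux (Nat.card M) M Δ rfl hM ?_ ?_ ?_ ?_ ?_ U hU _ hgU (Ne.symm heq)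
  · intro D hD
    obtain ⟨k, hk, rfl⟩ := (hΔ D).mp hD
    exact hUM k hk
  · intro m hm D hD
    obtain ⟨k, hk, rfl⟩ := (hΔ D).mp hD
    exact (hΔ _).mpr ⟨m * k, W.mul_mem (hMW hm) hk, (map_conj_mul U m k).symm⟩
  · intro D hD
    obtain ⟨k, hk, rfl⟩ := (hΔ D).mp hD
    obtain ⟨x, hxU, hx4, hx2⟩ := hx
    refine ⟨k * x * k⁻¹, conj_mem_map_conj U k x hxU, ?_, ?_⟩
    · rw [conj_pow, hx4]; group
    · rw [conj_pow]
      intro h
      apply hx2
      calc x ^ 2 = k⁻¹ * (k * x ^ 2 * k⁻¹) * k := by group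
        _ = 1 := by rw [h]; group
  · intro D hD E hE
    obtain ⟨k, hk, rfl⟩ := (hΔ D).mp hD
    obtain ⟨k', hk', rfl⟩ := (hΔ E).mp hE
    rw [card_map_conj, card_map_conj]
  · intro D hD E hE
    obtain ⟨k, hk, rfl⟩ := (hΔ D).mp hD
    obtain ⟨k', hk', rfl⟩ := (hΔ E).mp hE
    have hk'eq : k' = k * (k⁻¹ * k') := by group
    rcases hti (k⁻¹ * k') (W.mul_mem (W.inv_mem hk) hk') with h | h
    · left
      rw [hk'eq, map_conj_mul, h]
    · right
      rw [hk'eq, map_conj_mul, inf_comm,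
        ← Subgroup.map_inf _ _ _ (MulAut.conj k).injective, h, Subgroup.map_bot]

end Conj

section Frattini

variable {X : Type*} [Group X] [Finite X]

theorem comm_of_conj_mul_inv_eq_one {G : Type*} [Group G] {u v : G}
    (h : u * v * u⁻¹ * v⁻¹ = 1) : u * v = v * u := by
  calc u * v = (u * v * u⁻¹ * v⁻¹) * (v * u) := by group
    _ = v * u := by rw [h, one_mul]

/-- Elements acting trivially on `Q / Φ(Q)`, `Q = O_2(X)`, lie in `Q` provided `C_X(Q) ≤ Q`. -/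
theorem mem_pCore_of_trivial_on_frattini_quotient
    (hCQ : Subgroup.centralizer ((pCore 2 X : Subgroup X) : Set X) ≤ pCore 2 X) (b : X)
    (hb : ∀ q ∈ pCore 2 X, b * q * b⁻¹ * q⁻¹ ∈ (frattini ↥(pCore 2 X)).map (pCore 2 X).subtype) :
    b ∈ pCore 2 X := by
  haveI : Fact (Nat.Prime 2) := ⟨Nat.prime_two⟩
  haveI hQn : (pCore 2 X).Normal := Cfsg.Agent.helper1.pCore_normal 2
  have hQ2 : IsPGroup 2 ↥(pCore 2 X) := Cfsg.Agent.helper1.pCore_isPGroup 2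
  obtain ⟨Φ, hΦ⟩ : ∃ Φ : Subgroup X, Φ = (frattini ↥(pCore 2 X)).map (pCore 2 X).subtype :=
    ⟨_, rfl⟩
  haveI hΦn : Φ.Normal := by rw [hΦ]; infer_instance
  rw [← hΦ] at hb
  haveI hQmn : ((pCore 2 X).map (QuotientGroup.mk' Φ)).Normal :=
    Subgroup.Normal.map hQn _ (QuotientGroup.mk'_surjective Φ)
  obtain ⟨Y, hY⟩ : ∃ Y : Subgroup X, Y = (Subgroup.centralizer
      (((pCore 2 X).map (QuotientGroup.mk' Φ) : Subgroup (X ⧸ Φ)) : Set (X ⧸ Φ))).comap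
      (QuotientGroup.mk' Φ) := ⟨_, rfl⟩
  haveI hYn : Y.Normal := by
    rw [hY]
    exact Subgroup.Normal.comap inferInstance _
  have hmem1 : ∀ y ∈ Y, ∀ q ∈ pCore 2 X, y * q * y⁻¹ * q⁻¹ ∈ Φ := by
    intro y hy q hq
    rw [hY, Subgroup.mem_comap, Subgroup.mem_centralizer_iff] at hy
    have h1 := hy _ (Subgroup.mem_map_of_mem (QuotientGroup.mk' Φ) hq)
    rw [← QuotientGroup.eq_one_iff]
    have h2 : ((y * q * y⁻¹ * q⁻¹ : X) : X ⧸ Φ) =
        (QuotientGroup.mk' Φ y) * (QuotientGroup.mk' Φ q) * (QuotientGroup.mk' Φ y)⁻¹ *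
          (QuotientGroup.mk' Φ q)⁻¹ := by
      simp
    rw [h2, ← h1]
    group
  have hmem2 : ∀ y : X, (∀ q ∈ pCore 2 X, y * q * y⁻¹ * q⁻¹ ∈ Φ) → y ∈ Y := by
    intro y hy
    rw [hY, Subgroup.mem_comap, Subgroup.mem_centralizer_iff]
    rintro _ ⟨q, hq, rfl⟩
    have h1 := (QuotientGroup.eq_one_iff _).mpr (hy q hq)
    have h2 : ((y * q * y⁻¹ * q⁻¹ : X) : X ⧸ Φ) =
        (QuotientGroup.mk' Φ y) * (QuotientGroup.mk' Φ q) * (QuotientGroup.mk' Φ y)⁻¹ *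
          (QuotientGroup.mk' Φ q)⁻¹ := by
      simp
    rw [h2] at h1
    exact (comm_of_conj_mul_inv_eq_one h1).symm
  have hY2 : IsPGroup 2 ↥Y := by
    rintro ⟨y, hy⟩
    obtain ⟨k, m, hm, hkm⟩ := Nat.exists_eq_two_pow_mul_odd (orderOf_pos y).ne'
    refine ⟨k, Subtype.ext ?_⟩
    show y ^ (2 ^ k) = 1
    have hy'm : (y ^ (2 ^ k)) ^ m = 1 := by rw [← pow_mul, ← hkm, pow_orderOf_eq_one]
    have hy'Y : y ^ (2 ^ k) ∈ Y := Y.pow_mem hy _
    have hZY : Subgroup.zpowers (y ^ (2 ^ k)) ≤ Y := (Subgroup.zpowers_le).mpr hy'Y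
    have hord : orderOf (y ^ (2 ^ k)) ∣ m := orderOf_dvd_of_pow_eq_one hy'm
    have hZc : Subgroup.zpowers (y ^ (2 ^ k)) ≤
        Subgroup.centralizer ((pCore 2 X : Subgroup X) : Set X) := by
      apply Cfsg.Agent.S0029.result
      · rw [Subgroup.normalizer_eq_top]; exact le_top
      · rw [Nat.card_zpowers]
        obtain ⟨i, hi⟩ := (hQ2.to_subgroup (frattini ↥(pCore 2 X))).exists_card_eq
        rw [hi]
        exact Nat.Coprime.coprime_dvd_left hord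
          (Nat.Coprime.pow_right i (Nat.coprime_two_right.mpr hm))
      · intro a ha q hq
        rw [← hΦ]
        exact hmem1 a (hZY ha) q hq
    have hy'Q : y ^ (2 ^ k) ∈ pCore 2 X := hCQ (hZc (Subgroup.mem_zpowers _))
    obtain ⟨j, hj⟩ := hQ2 ⟨y ^ (2 ^ k), hy'Q⟩
    have hj' : (y ^ (2 ^ k)) ^ (2 ^ j) = 1 := by
      have := congrArg (fun z : ↥(pCore 2 X) => (z : X)) hj
      simpa using this
    have hord2 : orderOf (y ^ (2 ^ k)) ∣ 2 ^ j := orderOf_dvd_of_pow_eq_one hj'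
    have hone : orderOf (y ^ (2 ^ k)) = 1 :=
      Nat.eq_one_of_dvd_coprimes (Nat.Coprime.pow_right j (Nat.coprime_two_right.mpr hm))
        hord hord2
    exact orderOf_eq_one_iff.mp hone
  exact Cfsg.Agent.helper1.le_pCore hYn hY2 (hmem2 b hb)

end Frattini

end Cfsg.Agent.helper9
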