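import Mathlib
import Cfsg.Agent.Lib_lead_SL23

set_option autoImplicit false

/-!
# A `Q₈` recognition core

In a finite group with a central element `z`, `z² = 1`, which is the only involution, in which
centralizers of elements other than `1, z` are abelian: a `2`-subgroup `R` normalized by an element
`a` of odd order such that no `s ∈ R` outside `{1,z}` commutes with its `a`-conjugate is a
quaternion group of order `8`, `a³ = 1`, and `R⟨a⟩ ≅ SL(2,3)`.
-/

namespace Cfsg.Agent.lead.Q8Core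

open Cfsg.Agent.lead.SL23

section basic

variable {G : Type*} [Group G]

theorem mem_zpowers_invol {z x : G} (hz2 : z * z = 1) :
    x ∈ Subgroup.zpowers z ↔ x = 1 ∨ x = z := by
  constructor
  · intro h
    obtain ⟨k, rfl⟩ := Subgroup.mem_zpowers_iff.1 h
    rcases Int.even_or_odd' k with ⟨m, hm | hm⟩
    · left; rw [hm, zpow_mul, zpow_two, hz2, one_zpow]
    · right; rw [hm, zpow_add, zpow_mul, zpow_two, hz2, one_zpow, one_mul, zpow_one]
  · rintro (rfl | rfl)
    · exact Subgroup.one_mem _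
    · exact Subgroup.mem_zpowers _

theorem commute_of_sq {a s : G} (hodd : Odd (orderOf a)) (h : Commute (a ^ 2) s) : Commute a s := by
  obtain ⟨r, hr⟩ := hodd
  have hg2 : a = (a ^ 2) ^ (r + 1) := by
    rw [← pow_mul, show 2 * (r + 1) = orderOf a + 1 by omega, pow_succ, pow_orderOf_eq_one,
      one_mul]
  rw [hg2]; exact h.pow_left _

theorem cj_mul (g x y : G) : g * (x * y) * g⁻¹ = (g * x * g⁻¹) * (g * y * g⁻¹) := by group

theorem cj_comp (g h x : G) : (g * h) * x * (g * h)⁻¹ = g * (h * x * h⁻¹) * g⁻¹ := by group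

theorem ji_eq' {i j : G} (hji : j * i * j⁻¹ = i⁻¹) : j * i = i⁻¹ * j := by
  rw [← hji]
  simp only [mul_assoc, inv_mul_cancel, mul_one]

/-- passing from `(i, j, g)` with `g j g⁻¹ = j i` to `(i, j i, g⁻¹)` -/
theorem swap_case {i j g : G} (hsq : j ^ 2 = i ^ 2) (hji : j * i * j⁻¹ = i⁻¹)
    (hgi : g * i * g⁻¹ = j) (hgj : g * j * g⁻¹ = j * i) :
    (j * i) ^ 2 = i ^ 2 ∧ (j * i) * i * (j * i)⁻¹ = i⁻¹ ∧ g⁻¹ * i * g⁻¹⁻¹ = j * i ∧
      g⁻¹ * (j * i) * g⁻¹⁻¹ = i * (j * i) := by
  have hjij : j * i * j = i := jij_eq hsq hji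
  refine ⟨?_, ?_, ?_, ?_⟩
  · rw [pow_two, ← mul_assoc, hjij, pow_two]
  · have : j * i * i * (j * i)⁻¹ = j * i * j⁻¹ := by
      simp only [_root_.mul_inv_rev, mul_assoc, mul_inv_cancel_left]
    rw [this, hji]
  · have h1 : g * (j * i) * g⁻¹ = i := by
      have : g * (j * i) * g⁻¹ = (g * j * g⁻¹) * (g * i * g⁻¹) := by
        simp only [mul_assoc, inv_mul_cancel_left]
      rw [this, hgj, hgi, hjij]
    rw [inv_inv]
    nth_rewrite 1 [← h1]
    simp only [mul_assoc, inv_mul_cancel_left, inv_mul_cancel, mul_one]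
  · have h2 : i * (j * i) = j := by
      rw [ji_eq' hji, mul_inv_cancel_left]
    rw [h2, inv_inv, ← hgj]
    simp only [mul_assoc, inv_mul_cancel_left, inv_mul_cancel, mul_one]

end basic

section core

variable {G : Type*} [Group G]

theorem core [Finite G] (z a : G) (R : Subgroup G)
    (hz2 : z * z = 1) (hzc : ∀ g : G, g * z = z * g)
    (H1 : ∀ t : G, t * t = 1 → t = 1 ∨ t = z)
    (H2 : ∀ c : G, c ≠ 1 → c ≠ z → ∀ x y : G, x * c = c * x → y * c = c * y → x * y = y * x)
    (hR2 : IsPGroup 2 R) (haR : a ∈ Subgroup.normalizer (R : Set G)) (hodd : Odd (orderOf a))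
    (K : ∀ s ∈ R, (a * s * a⁻¹) * s = s * (a * s * a⁻¹) → s = 1 ∨ s = z)
    (hnt : ∃ s ∈ R, s ≠ 1 ∧ s ≠ z) :
    ∃ i j b : G, (b = a ∨ b = a⁻¹) ∧ orderOf i = 4 ∧ j ^ 2 = i ^ 2 ∧ j * i * j⁻¹ = i⁻¹ ∧
      b * i * b⁻¹ = j ∧ b * j * b⁻¹ = i * j ∧ b ^ 3 = 1 ∧ i ∈ R ∧ j ∈ R ∧
      ∀ r ∈ R, r ∈ Subgroup.closure ({i, j} : Set G) := by
  classical
  have hconj : ∀ r ∈ R, a * r * a⁻¹ ∈ R := fun r hr => (Subgroup.mem_normalizer_iff.1 haR r).1 hr
  have hconj' : ∀ r ∈ R, a⁻¹ * r * a ∈ R := by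
    intro r hr
    apply (Subgroup.mem_normalizer_iff.1 haR (a⁻¹ * r * a)).2
    have e : a * (a⁻¹ * r * a) * a⁻¹ = r := by group
    rw [e]; exact hr
  have hcjz : ∀ g : G, g * z * g⁻¹ = z := fun g => by rw [hzc g, mul_inv_cancel_right]
  have hzinv : z⁻¹ = z := inv_eq_of_mul_eq_one_left hz2
  obtain ⟨s0, hs0R, hs01, hs0z⟩ := hnt
  have : Fact (Nat.Prime 2) := ⟨Nat.prime_two⟩
  -- Step A: z ∈ R and z ≠ 1
  have hRnt : Nontrivial R := ⟨⟨⟨s0, hs0R⟩, 1, fun h => hs01 (congrArg Subtype.val h)⟩⟩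
  have hcnt : Nontrivial (Subgroup.center R) := hR2.center_nontrivial
  obtain ⟨⟨c, hcc⟩, hc1⟩ := exists_ne (1 : Subgroup.center R)
  have hc1' : (c : G) ≠ 1 := by
    intro h
    apply hc1
    apply Subtype.ext
    apply Subtype.ext
    exact h
  have hcz : (c : G) = z := by
    have hcom : (a * (c : G) * a⁻¹) * c = c * (a * (c : G) * a⁻¹) := by
      have := Subgroup.mem_center_iff.1 hcc ⟨a * (c : G) * a⁻¹, hconj c c.2⟩
      exact congrArg Subtype.val this
    rcases K c c.2 hcom with h | h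
    · exact absurd h hc1'
    · exact h
  have hzR : z ∈ R := hcz ▸ c.2
  have hz1 : z ≠ 1 := hcz ▸ hc1'
  have hoz : orderOf z = 2 := orderOf_eq_prime (by rw [pow_two]; exact hz2) hz1
  -- Step A2: the element i
  have hcen : ∀ x ∈ Subgroup.zpowers z, ∀ g : G, g * x = x * g := by
    intro x hx g
    rcases (mem_zpowers_invol hz2).1 hx with rfl | rfl
    · simp
    · exact hzc g
  obtain ⟨N, hNdef⟩ : ∃ N : Subgroup R, N = (Subgroup.zpowers z).subgroupOf R := ⟨_, rfl⟩
  have hNmem : ∀ n : R, n ∈ N ↔ ((n : G) = 1 ∨ (n : G) = z) := by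
    intro n
    rw [hNdef, Subgroup.mem_subgroupOf, mem_zpowers_invol hz2]
  have hNn : N.Normal := by
    refine ⟨fun n hn g => ?_⟩
    have h1 : (n : G) ∈ Subgroup.zpowers z := by
      rw [mem_zpowers_invol hz2]; exact (hNmem n).1 hn
    have h2 : ((g * n * g⁻¹ : R) : G) = (n : G) := by
      push_cast
      rw [hcen _ h1 g, mul_inv_cancel_right]
    rw [hNmem, h2]
    exact (hNmem n).1 hn
  have hquot2 : IsPGroup 2 (R ⧸ N) := hR2.to_quotient N
  have hqnt : Nontrivial (R ⧸ N) := by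
    refine ⟨⟨(QuotientGroup.mk ⟨s0, hs0R⟩ : R ⧸ N), 1, ?_⟩⟩
    intro h
    rw [QuotientGroup.eq_one_iff, hNmem] at h
    rcases h with h | h
    · exact hs01 h
    · exact hs0z h
  have hqcnt : Nontrivial (Subgroup.center (R ⧸ N)) := hquot2.center_nontrivial
  obtain ⟨⟨ubar, hubar⟩, hu1⟩ := exists_ne (1 : Subgroup.center (R ⧸ N))
  obtain ⟨u, rfl⟩ := QuotientGroup.mk_surjective ubar
  obtain ⟨i, hi⟩ : ∃ i : G, i = (u : G) := ⟨_, rfl⟩
  have hiR : i ∈ R := hi ▸ u.2
  have hunot : u ∉ N := by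
    intro h
    apply hu1
    apply Subtype.ext
    exact (QuotientGroup.eq_one_iff u).2 h
  have hi1 : i ≠ 1 := fun h => hunot ((hNmem u).2 (Or.inl (hi ▸ h)))
  have hiz : i ≠ z := fun h => hunot ((hNmem u).2 (Or.inr (hi ▸ h)))
  have hiU : ∀ r ∈ R, i * r * i⁻¹ * r⁻¹ = 1 ∨ i * r * i⁻¹ * r⁻¹ = z := by
    intro r hr
    have h1 := Subgroup.mem_center_iff.1 hubar (QuotientGroup.mk ⟨r, hr⟩ : R ⧸ N)
    have h2 : ((u * ⟨r, hr⟩ * u⁻¹ * (⟨r, hr⟩ : R)⁻¹ : R) : R ⧸ N) = 1 := by
      rw [QuotientGroup.mk_mul, QuotientGroup.mk_mul, QuotientGroup.mk_mul, QuotientGroup.mk_inv,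
        QuotientGroup.mk_inv, ← h1]
      group
    rw [QuotientGroup.eq_one_iff, hNmem] at h2
    rw [hi]
    exact h2
  -- Step B
  obtain ⟨j, hj⟩ : ∃ j, j = a * i * a⁻¹ := ⟨_, rfl⟩
  have hjR : j ∈ R := hj ▸ hconj i hiR
  have hj1 : j ≠ 1 := by
    intro h
    apply hi1
    have : i = a⁻¹ * j * a := by rw [hj]; group
    rw [this, h]; group
  have hjz : j ≠ z := by
    intro h
    apply hiz
    have e : i = a⁻¹ * j * a := by rw [hj]; group
    rw [e, h]
    have := hcjz a⁻¹
    rwa [inv_inv] at this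
  have hzi : j * i * j⁻¹ = z * i := by
    have hcomm_ji : j * i * j⁻¹ * i⁻¹ = 1 ∨ j * i * j⁻¹ * i⁻¹ = z := by
      have e : j * i * j⁻¹ * i⁻¹ = (i * j * i⁻¹ * j⁻¹)⁻¹ := by group
      rcases hiU j hjR with h | h
      · left; rw [e, h, inv_one]
      · right; rw [e, h, hzinv]
    rcases hcomm_ji with h | h
    · exfalso
      have hc : j * i = i * j := mul_inv_eq_iff_eq_mul.1 (mul_inv_eq_one.1 h)
      rcases K i hiR (by rw [← hj]; exact hc) with h1 | h1
      · exact hi1 h1
      · exact hiz h1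
    · exact mul_inv_eq_iff_eq_mul.1 h
  have hzC : ∀ g : G, Commute z g := fun g => (hzc g).symm
  have hii : i * i = z := by
    have s1 : SemiconjBy j i (z * i) := mul_inv_eq_iff_eq_mul.1 hzi
    have s2 : SemiconjBy j (i * i) (z * i * (z * i)) := s1.mul_right s1
    have e : z * i * (z * i) = i * i := by
      rw [Commute.mul_mul_mul_comm (hzC i).symm, hz2, one_mul]
    rw [e] at s2
    have hw : j * (i * i) = (i * i) * j := s2
    have e2 : a * (i * i) * a⁻¹ = j * j := by rw [hj]; group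
    have hK := K (i * i) (R.mul_mem hiR hiR) (by
      rw [e2]
      calc j * j * (i * i) = j * (j * (i * i)) := by simp only [mul_assoc]
        _ = j * ((i * i) * j) := by rw [hw]
        _ = (j * (i * i)) * j := by simp only [mul_assoc]
        _ = (i * i) * j * j := by rw [hw]
        _ = i * i * (j * j) := by simp only [mul_assoc])
    rcases hK with h | h
    · rcases H1 i h with h' | h'
      · exact absurd h' hi1
      · exact absurd h' hiz
    · exact h
  have hjj : j * j = z := by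
    have e2 : j * j = a * (i * i) * a⁻¹ := by rw [hj]; group
    rw [e2, hii, hcjz]
  have hiinv : i⁻¹ = z * i := by
    apply inv_eq_of_mul_eq_one_right
    rw [← mul_assoc, hzc i, mul_assoc, hii, hz2]
  have hjinv : j⁻¹ = z * j := by
    apply inv_eq_of_mul_eq_one_right
    rw [← mul_assoc, hzc j, mul_assoc, hjj, hz2]
  have hoi : orderOf i = 4 := by
    refine orderOf_eq_prime_pow (p := 2) (n := 1) ?_ ?_
    · rw [pow_one, pow_two, hii]; exact hz1
    · have : i ^ 2 ^ (1 + 1) = (i * i) * (i * i) := by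
        change i ^ 4 = _
        rw [show (4 : ℕ) = 2 + 2 from rfl, pow_add, pow_two]
      rw [this, hii, hz2]
  have hsq : j ^ 2 = i ^ 2 := by rw [pow_two, pow_two, hjj, hii]
  have hji : j * i * j⁻¹ = i⁻¹ := by rw [hzi, hiinv]
  have hzj : i * j * i⁻¹ = z * j := by
    have h1 : j * i = z * i * j := mul_inv_eq_iff_eq_mul.1 hzi
    have h2 : i * j = z * (j * i) := by
      rw [h1, ← mul_assoc, ← mul_assoc, hz2, one_mul]
    rw [h2, mul_assoc, mul_assoc, mul_inv_cancel, mul_one]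
  have hij_ne : i * j ≠ j * i := by
    intro h
    have h1 : i * j * i⁻¹ = j := by rw [h, mul_inv_cancel_right]
    rw [hzj] at h1
    exact hz1 (mul_eq_right.1 h1)
  have comm_both : ∀ c : G, c * i = i * c → c * j = j * c → c = 1 ∨ c = z := by
    intro c hci hcj
    by_contra hcon
    rw [not_or] at hcon
    exact hij_ne (H2 c hcon.1 hcon.2 i j hci.symm hcj.symm)
  -- Step C
  have hjU : ∀ r ∈ R, r * j * r⁻¹ = j ∨ r * j * r⁻¹ = z * j := by
    intro r hr
    have h1 := hiU (a⁻¹ * r * a) (hconj' r hr)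
    have e : r * j * r⁻¹ * j⁻¹ = (a * (i * (a⁻¹ * r * a) * i⁻¹ * (a⁻¹ * r * a)⁻¹) * a⁻¹)⁻¹ := by
      rw [hj]; group
    rcases h1 with h | h
    · left
      rw [h, mul_one, mul_inv_cancel, inv_one] at e
      exact mul_inv_eq_one.1 e
    · right
      rw [h, hcjz, hzinv] at e
      exact mul_inv_eq_iff_eq_mul.1 e
  have hiU' : ∀ r ∈ R, r * i * r⁻¹ = i ∨ r * i * r⁻¹ = z * i := by
    intro r hr
    have e : r * i * r⁻¹ * i⁻¹ = (i * r * i⁻¹ * r⁻¹)⁻¹ := by group
    rcases hiU r hr with h | h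
    · left
      rw [h, inv_one] at e
      exact mul_inv_eq_one.1 e
    · right
      rw [h, hzinv] at e
      exact mul_inv_eq_iff_eq_mul.1 e
  have stepC : ∀ r ∈ R, ∃ c q : G, (c = 1 ∨ c = z) ∧ (q = 1 ∨ q = j ∨ q = i ∨ q = j * i) ∧
      r * q = c := by
    intro r hr
    -- first fix i
    obtain ⟨r', q', hq', hr'R, hr'eq, hr'i⟩ : ∃ r' q' : G, (q' = 1 ∨ q' = j) ∧ r' ∈ R ∧
        r' = r * q' ∧ r' * i * r'⁻¹ = i := by
      rcases hiU' r hr with h | h
      · exact ⟨r, 1, Or.inl rfl, hr, (mul_one r).symm, h⟩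
      · refine ⟨r * j, j, Or.inr rfl, R.mul_mem hr hjR, rfl, ?_⟩
        rw [cj_comp, hzi, cj_mul, hcjz, h, ← mul_assoc, hz2, one_mul]
    obtain ⟨r'', q'', hq'', hr''eq, hr''i, hr''j⟩ : ∃ r'' q'' : G, (q'' = 1 ∨ q'' = i) ∧
        r'' = r' * q'' ∧ r'' * i * r''⁻¹ = i ∧ r'' * j * r''⁻¹ = j := by
      rcases hjU r' hr'R with h | h
      · exact ⟨r', 1, Or.inl rfl, (mul_one r').symm, hr'i, h⟩
      · refine ⟨r' * i, i, Or.inr rfl, rfl, ?_, ?_⟩
        · rw [cj_comp, mul_inv_cancel_right, hr'i]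
        · rw [cj_comp, hzj, cj_mul, hcjz, h, ← mul_assoc, hz2, one_mul]
    have hc := comm_both r'' (mul_inv_eq_iff_eq_mul.1 hr''i) (mul_inv_eq_iff_eq_mul.1 hr''j)
    refine ⟨r'', q' * q'', hc, ?_, ?_⟩
    · rcases hq' with h1 | h1 <;> rcases hq'' with h2 | h2
      · left; rw [h1, h2, mul_one]
      · right; right; left; rw [h1, h2, one_mul]
      · right; left; rw [h1, h2, mul_one]
      · right; right; right; rw [h1, h2]
    · rw [hr''eq, hr'eq, mul_assoc]
  -- Step D
  obtain ⟨k, hk⟩ : ∃ k, k = a * j * a⁻¹ := ⟨_, rfl⟩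
  have hkR : k ∈ R := hk ▸ hconj j hjR
  have hk1 : k ≠ 1 := by
    intro h
    apply hj1
    have : j = a⁻¹ * k * a := by rw [hk]; group
    rw [this, h]; group
  have hkz : k ≠ z := by
    intro h
    apply hjz
    have e : j = a⁻¹ * k * a := by rw [hk]; group
    rw [e, h]
    have := hcjz a⁻¹
    rwa [inv_inv] at this
  have hcC : ∀ c : G, (c = 1 ∨ c = z) → ∀ g : G, g * c = c * g := by
    rintro c (h | h) g
    · rw [h]; simp
    · rw [h]; exact hzc g
  have hkcases : k = i * j ∨ k = j * i := by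
    obtain ⟨c, q, hc, hq, hkq⟩ := stepC k hkR
    rcases hq with hq | hq | hq | hq
    · exfalso
      rw [hq, mul_one] at hkq
      rcases hc with h | h
      · exact hk1 (hkq.trans h)
      · exact hkz (hkq.trans h)
    · exfalso
      rw [hq] at hkq
      -- k * j = c, so k commutes with j
      have hkc : k = c * j⁻¹ := eq_mul_inv_of_mul_eq hkq
      have hcomm : k * j = j * k := by
        rw [hkq, hkc, ← mul_assoc, hcC c hc j, mul_assoc, mul_inv_cancel, mul_one]
      rcases K j hjR (by rw [← hk]; exact hcomm) with h | h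
      · exact hj1 h
      · exact hjz h
    · exfalso
      rw [hq] at hkq
      -- k * i = c, k = c * i⁻¹ : a^4 centralizes i
      have hkc : k = c * i⁻¹ := eq_mul_inv_of_mul_eq hkq
      have h2 : a ^ 2 * i * (a ^ 2)⁻¹ = c * i⁻¹ := by
        rw [← hkc, hk, hj]
        simp only [pow_two, _root_.mul_inv_rev, mul_assoc]
      have hcc' : c * c = 1 := by
        rcases hc with h | h
        · rw [h]; simp
        · rw [h]; exact hz2
      have hcinv : c⁻¹ = c := inv_eq_of_mul_eq_one_left hcc'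
      have h4 : (a ^ 2) ^ 2 * i * ((a ^ 2) ^ 2)⁻¹ = i := by
        have e : (a ^ 2) ^ 2 * i * ((a ^ 2) ^ 2)⁻¹ =
            a ^ 2 * (a ^ 2 * i * (a ^ 2)⁻¹) * (a ^ 2)⁻¹ := by
          rw [pow_two (a ^ 2)]
          simp only [_root_.mul_inv_rev, mul_assoc]
        have hcj2 : a ^ 2 * c * (a ^ 2)⁻¹ = c := by
          rw [hcC c hc (a ^ 2), mul_inv_cancel_right]
        have e3 : a ^ 2 * i⁻¹ * (a ^ 2)⁻¹ = (a ^ 2 * i * (a ^ 2)⁻¹)⁻¹ := by
          simp only [_root_.mul_inv_rev, inv_inv, mul_assoc]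
        rw [e, h2, cj_mul, hcj2, e3, h2, _root_.mul_inv_rev, inv_inv, hcinv, ← mul_assoc,
          ← hcC c hc i, mul_assoc, hcc', mul_one]
      have hodd2 : Odd (orderOf (a ^ 2)) := hodd.of_dvd_nat (orderOf_pow_dvd 2)
      have hc4 : Commute ((a ^ 2) ^ 2) i := mul_inv_eq_iff_eq_mul.1 h4
      have hc1 : Commute a i := commute_of_sq hodd (commute_of_sq hodd2 hc4)
      have hji' : j = i := by rw [hj, hc1.eq, mul_inv_cancel_right]
      rw [hji', mul_inv_cancel_right] at hzi
      exact hz1 (mul_eq_right.1 hzi.symm)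
    · -- k * (j * i) = c
      rw [hq] at hkq
      have hkc : k = c * (j * i)⁻¹ := eq_mul_inv_of_mul_eq hkq
      have e : (j * i)⁻¹ = i * j := by
        rw [_root_.mul_inv_rev, hiinv, hjinv, mul_assoc, ← mul_assoc i z j, hzc i, mul_assoc,
          ← mul_assoc, hz2, one_mul]
      rw [e] at hkc
      rcases hc with h | h
      · left; rw [hkc, h, one_mul]
      · right
        rw [hkc, h]
        have h1 : j * i = z * i * j := mul_inv_eq_iff_eq_mul.1 hzi
        rw [h1, mul_assoc]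
  -- closure facts
  have hzcl : z ∈ Subgroup.closure ({i, j} : Set G) := by
    rw [← hii]
    exact Subgroup.mul_mem _ (Subgroup.subset_closure (by simp)) (Subgroup.subset_closure (by simp))
  have hicl : i ∈ Subgroup.closure ({i, j} : Set G) := Subgroup.subset_closure (by simp)
  have hjcl : j ∈ Subgroup.closure ({i, j} : Set G) := Subgroup.subset_closure (by simp)
  have hRcl : ∀ r ∈ R, r ∈ Subgroup.closure ({i, j} : Set G) := by
    intro r hr
    obtain ⟨c, q, hc, hq, hrq⟩ := stepC r hr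
    have hrc : r = c * q⁻¹ := eq_mul_inv_of_mul_eq hrq
    rw [hrc]
    apply Subgroup.mul_mem
    · rcases hc with h | h
      · rw [h]; exact Subgroup.one_mem _
      · rw [h]; exact hzcl
    · apply Subgroup.inv_mem
      rcases hq with h | h | h | h
      · rw [h]; exact Subgroup.one_mem _
      · rw [h]; exact hjcl
      · rw [h]; exact hicl
      · rw [h]; exact Subgroup.mul_mem _ hjcl hicl
  have cube_one : ∀ b : G, Odd (orderOf b) → b ^ 3 * i = i * b ^ 3 → b ^ 3 * j = j * b ^ 3 →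
      b ^ 3 = 1 := by
    intro b hb h1 h2
    rcases comm_both (b ^ 3) h1 h2 with h | h
    · exact h
    · exfalso
      have h3 : orderOf z ∣ orderOf b := by
        rw [← h]; exact orderOf_pow_dvd 3
      rw [hoz] at h3
      obtain ⟨m, hm⟩ := hb
      omega
  rcases hkcases with hkij | hkji
  · refine ⟨i, j, a, Or.inl rfl, hoi, hsq, hji, hj.symm, by rw [← hk, hkij], ?_, hiR, hjR, hRcl⟩
    have hgj : a * j * a⁻¹ = i * j := by rw [← hk, hkij]
    exact cube_one a hodd (cube_comm_i hsq hji hj.symm hgj) (cube_comm_j hsq hji hj.symm hgj)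
  · have hgj : a * j * a⁻¹ = j * i := by rw [← hk, hkji]
    obtain ⟨r1, r2, r3, r4⟩ := swap_case hsq hji hj.symm hgj
    have hodd' : Odd (orderOf a⁻¹) := by rw [orderOf_inv]; exact hodd
    refine ⟨i, j * i, a⁻¹, Or.inr rfl, hoi, r1, r2, r3, r4, ?_, hiR, R.mul_mem hjR hiR, ?_⟩
    · have c1 := cube_comm_i r1 r2 r3 r4
      have c2 := cube_comm_j r1 r2 r3 r4
      apply cube_one a⁻¹ hodd' c1
      have hC1 : Commute (a⁻¹ ^ 3) i := c1
      have hC2 : Commute (a⁻¹ ^ 3) (j * i) := c2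
      have : Commute (a⁻¹ ^ 3) (j * i * i⁻¹) := hC2.mul_right hC1.inv_right
      rw [mul_inv_cancel_right] at this
      exact this
    · intro r hr
      have h1 := hRcl r hr
      have hle : Subgroup.closure ({i, j} : Set G) ≤ Subgroup.closure ({i, j * i} : Set G) := by
        rw [Subgroup.closure_le]
        intro x hx
        rcases hx with rfl | rfl
        · exact Subgroup.subset_closure (by simp)
        · have hx1 : x * i ∈ Subgroup.closure ({i, x * i} : Set G) :=
            Subgroup.subset_closure (by simp)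
          have hx2 : i ∈ Subgroup.closure ({i, x * i} : Set G) :=
            Subgroup.subset_closure (by simp)
          have := Subgroup.mul_mem _ hx1 (Subgroup.inv_mem _ hx2)
          rwa [mul_inv_cancel_right] at this
      exact hle h1

end core

section isos

open Matrix QuaternionGroup Cfsg.Agent.helper11.QuatPres

variable {Y : Type*} [Group Y] {i j g : Y}

/-- the closure of `i, j, g` satisfying the `SL(2,3)` relations is `SL(2,3)` -/
theorem closure_equiv_sl23 (hi : orderOf i = 4) (hj : j ^ 2 = i ^ 2) (hji : j * i * j⁻¹ = i⁻¹)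
    (hg : g ^ 3 = 1) (hgi : g * i * g⁻¹ = j) (hgj : g * j * g⁻¹ = i * j) :
    Nonempty (↥(Subgroup.closure ({i, j, g} : Set Y)) ≃*
      SpecialLinearGroup (Fin 2) (ZMod 3)) := by
  obtain ⟨H, hH⟩ : ∃ H : Subgroup Y, H = Subgroup.closure {i, j, g} := ⟨_, rfl⟩
  rw [← hH]
  have hiH : i ∈ H := by rw [hH]; exact Subgroup.subset_closure (by simp)
  have hjH : j ∈ H := by rw [hH]; exact Subgroup.subset_closure (by simp)
  have hgH : g ∈ H := by rw [hH]; exact Subgroup.subset_closure (by simp)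
  let i' : H := ⟨i, hiH⟩
  let j' : H := ⟨j, hjH⟩
  let g' : H := ⟨g, hgH⟩
  have e1 : j' ^ 2 = i' ^ 2 := Subtype.ext hj
  have e2 : j' * i' * j'⁻¹ = i'⁻¹ := Subtype.ext hji
  have e3 : g' * i' * g'⁻¹ = j' := Subtype.ext hgi
  have e4 : g' * j' * g'⁻¹ = i' * j' := Subtype.ext hgj
  have e5 : g' ^ 3 = 1 := Subtype.ext hg
  have e6 : orderOf i' = 4 := by rw [Subgroup.orderOf_mk]; exact hi
  have e7 : Subgroup.closure ({i', j', g'} : Set H) = ⊤ := by
    rw [eq_top_iff]
    have h2 : Subgroup.closure (Subtype.val ⁻¹' ({i, j, g} : Set Y) : Set H) = ⊤ := by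
      subst hH
      exact Subgroup.closure_closure_coe_preimage
    rw [← h2]
    apply Subgroup.closure_mono
    intro x hx
    rcases hx with h | h | h
    · left; exact Subtype.ext h
    · right; left; exact Subtype.ext h
    · right; right; exact Subtype.ext h
  exact mulEquiv_sl23_of_gens e6 e1 e2 e5 e3 e4 e7

/-- a subgroup generated by `i, j` with the quaternion relations is `Q₈` -/
theorem equiv_quaternion (hi : orderOf i = 4) (hj : j ^ 2 = i ^ 2) (hji : j * i * j⁻¹ = i⁻¹)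
    (R : Subgroup Y) (hiR : i ∈ R) (hjR : j ∈ R)
    (hR : ∀ r ∈ R, r ∈ Subgroup.closure ({i, j} : Set Y)) :
    Nonempty (↥R ≃* QuaternionGroup 2) := by
  have hinj := fnHom_injective hi hj hji
  have hrange : R = (fnHom i j hi hj hji).range := by
    apply le_antisymm
    · intro r hr
      have h1 := hR r hr
      have hle : Subgroup.closure ({i, j} : Set Y) ≤ (fnHom i j hi hj hji).range := by
        rw [Subgroup.closure_le]
        intro x hx
        rcases hx with rfl | rfl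
        · exact ⟨a 1, fnHom_a_one hi hj hji⟩
        · exact ⟨xa 0, fnHom_xa_zero hi hj hji⟩
      exact hle h1
    · rintro _ ⟨u, rfl⟩
      rcases u with l | l
      · change e i l ∈ R
        exact R.pow_mem hiR _
      · change j * e i l ∈ R
        exact R.mul_mem hjR (R.pow_mem hiR _)
  exact ⟨(MulEquiv.subgroupCongr hrange).trans (MonoidHom.ofInjective hinj).symm⟩

end isos

end Cfsg.Agent.lead.Q8Core
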