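import Cfsg.Statements.S0106
import Cfsg.Agent.S0071
import Cfsg.Agent.Lib_lead_SL23

set_option autoImplicit false
open Cfsg

namespace Cfsg.Agent.S0106

open Cfsg.Agent.lead.SL23

section aux

variable {G : Type*} [Group G]

theorem mem_normalizer_of_conj_mem₂ [Finite G] (H : Subgroup G) (n : G)
    (h : ∀ x ∈ H, n * x * n⁻¹ ∈ H) : n ∈ Subgroup.normalizer (H : Set G) := by
  rw [Subgroup.mem_normalizer_iff]
  intro x
  refine ⟨h x, fun hx => ?_⟩
  let φ : H → H := fun y => ⟨n * y * n⁻¹, h y y.2⟩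
  have hinj : Function.Injective φ := by
    intro a b hab
    have := congrArg Subtype.val hab
    simp only [φ] at this
    apply Subtype.ext
    exact mul_left_cancel (mul_right_cancel this)
  obtain ⟨y, hy⟩ := (Finite.injective_iff_surjective.mp hinj) ⟨n * x * n⁻¹, hx⟩
  have := congrArg Subtype.val hy
  simp only [φ] at this
  have hyx : (y : G) = x := mul_left_cancel (mul_right_cancel this)
  rw [← hyx]; exact y.2

theorem orderOf_conj₂ (g x : G) : orderOf (g * x * g⁻¹) = orderOf x :=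
  orderOf_injective (MulAut.conj g).toMonoidHom (MulAut.conj g).injective x

/-- an element of odd order normalizing a cyclic `2`-group centralizes it -/
theorem cyc_centralize [Finite G] {c g : G} {s : ℕ} (hc : orderOf c = 2 ^ s)
    (hodd : Odd (orderOf g)) (hn : g * c * g⁻¹ ∈ Subgroup.zpowers c) : g * c * g⁻¹ = c := by
  obtain ⟨Z, hZ⟩ : ∃ Z : Subgroup G, Z = Subgroup.zpowers c := ⟨_, rfl⟩
  have hcyc : IsCyclic Z := by rw [hZ]; infer_instance
  have hcZ : c ∈ Z := by rw [hZ]; exact Subgroup.mem_zpowers c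
  have hgN : g ∈ Subgroup.normalizer (Z : Set G) := by
    apply mem_normalizer_of_conj_mem₂
    intro x hx
    rw [hZ] at hx ⊢
    obtain ⟨k, rfl⟩ := Subgroup.mem_zpowers_iff.1 hx
    rw [← conj_zpow]
    exact Subgroup.zpow_mem _ hn k
  let g' : Subgroup.normalizer (Z : Set G) := ⟨g, hgN⟩
  have h1 : orderOf (Z.normalizerMonoidHom g') ∣ orderOf g := by
    have := orderOf_map_dvd Z.normalizerMonoidHom g'
    rwa [Subgroup.orderOf_mk] at this
  have h2 : orderOf (Z.normalizerMonoidHom g') ∣ 2 ^ (s - 1) := by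
    have hcard : Nat.card (MulAut Z) = (Nat.card Z).totient := IsCyclic.card_mulAut Z
    have hZc : Nat.card Z = 2 ^ s := by rw [hZ, Nat.card_zpowers, hc]
    rw [hZc] at hcard
    have hdvd := orderOf_dvd_natCard (Z.normalizerMonoidHom g')
    rw [hcard] at hdvd
    rcases Nat.eq_zero_or_pos s with rfl | hs
    · simpa using hdvd
    · rw [Nat.totient_prime_pow Nat.prime_two hs] at hdvd
      simpa using hdvd
  have h3 : orderOf (Z.normalizerMonoidHom g') = 1 := by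
    have hcop : Nat.Coprime (orderOf g) (2 ^ (s - 1)) :=
      Nat.Coprime.pow_right _ (Nat.coprime_two_right.2 hodd)
    exact (Nat.Coprime.coprime_dvd_left h1 hcop).eq_one_of_dvd h2
  have h4 : Z.normalizerMonoidHom g' = 1 := orderOf_eq_one_iff.1 h3
  have h5 : g' ∈ Z.normalizerMonoidHom.ker := h4
  rw [Subgroup.normalizerMonoidHom_ker, Subgroup.mem_subgroupOf] at h5
  have h6 := Subgroup.mem_centralizer_iff.1 h5 c hcZ
  change c * g = g * c at h6
  rw [← h6, mul_inv_cancel_right]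

/-- stability: an odd order element acting trivially on `n` with `q ↦ q n` forces `n = 1` -/
theorem stab_trivial {q n g : G} {s : ℕ} (hodd : Odd (orderOf g)) (hq : g * q * g⁻¹ = q * n)
    (hn : g * n * g⁻¹ = n) (hn2 : n ^ 2 ^ s = 1) : n = 1 := by
  have hk : ∀ k : ℕ, g ^ k * q * (g ^ k)⁻¹ = q * n ^ k := by
    intro k
    induction k with
    | zero => simp
    | succ k ih =>
      have h1 : g ^ (k + 1) * q * (g ^ (k + 1))⁻¹ = g * (g ^ k * q * (g ^ k)⁻¹) * g⁻¹ := by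
        rw [pow_succ']
        simp only [_root_.mul_inv_rev, mul_assoc]
      have h2 : g * (q * n ^ k) * g⁻¹ = (g * q * g⁻¹) * (g * n * g⁻¹) ^ k := by
        rw [conj_pow]
        simp only [mul_assoc, inv_mul_cancel_left]
      rw [h1, ih, h2, hq, hn, pow_succ', mul_assoc]
  have h1 := hk (orderOf g)
  rw [pow_orderOf_eq_one, one_mul, inv_one, mul_one] at h1
  have h2 : n ^ orderOf g = 1 := mul_eq_left.1 h1.symm
  have h3 : orderOf n ∣ orderOf g := orderOf_dvd_of_pow_eq_one h2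
  have h4 : orderOf n ∣ 2 ^ s := orderOf_dvd_of_pow_eq_one hn2
  have hcop : Nat.Coprime (orderOf g) (2 ^ s) :=
    Nat.Coprime.pow_right _ (Nat.coprime_two_right.2 hodd)
  exact orderOf_eq_one_iff.1 ((Nat.Coprime.coprime_dvd_left h3 hcop).eq_one_of_dvd h4)

theorem ji_eq {i j : G} (hji : j * i * j⁻¹ = i⁻¹) : j * i = i⁻¹ * j := by
  rw [← hji]
  simp only [mul_assoc, inv_mul_cancel, mul_one]

theorem ij_eq {i j : G} (hji : j * i * j⁻¹ = i⁻¹) : i * j = j * i⁻¹ := by
  have h := ji_eq hji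
  calc i * j = i * (j * i) * i⁻¹ := by simp only [mul_assoc, mul_inv_cancel, mul_one]
    _ = i * (i⁻¹ * j) * i⁻¹ := by rw [h]
    _ = j * i⁻¹ := by simp only [mul_inv_cancel_left]

/-- the fusion argument -/
theorem fusion [Finite G] (T : Subgroup G) (x : G) (hT : IsPGroup 2 T)
    (F1 : ∀ t ∈ T, t ∉ Subgroup.zpowers x →
      orderOf t = 4 ∧ ∀ u ∈ Subgroup.zpowers x, t * u * t⁻¹ = u⁻¹)
    (F2 : ∀ s ∈ T, ∀ t ∈ T, orderOf s = 2 → orderOf t = 2 → s = t)
    (F4 : ∀ s ∈ T, ∀ t ∈ T, s ∉ Subgroup.zpowers x → t ∉ Subgroup.zpowers x →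
      s⁻¹ * t ∈ Subgroup.zpowers x)
    (Q : Subgroup G) (hQ : Q ≤ T) (g : G) (hg : g ∈ Subgroup.normalizer (Q : Set G))
    (hodd : Odd (orderOf g)) (hgc : g ∉ Subgroup.centralizer (Q : Set G)) :
    ∃ i j g' : G, orderOf i = 4 ∧ j ^ 2 = i ^ 2 ∧ j * i * j⁻¹ = i⁻¹ ∧ g' * i * g'⁻¹ = j ∧
      g' * j * g'⁻¹ = i * j ∧ Odd (orderOf g') := by
  obtain ⟨X, hX⟩ : ∃ X : Subgroup G, X = Subgroup.zpowers x := ⟨_, rfl⟩
  rw [← hX] at F1 F4
  have hXcyc : IsCyclic X := by rw [hX]; infer_instance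
  have hAcyc : IsCyclic (Q ⊓ X : Subgroup G) := Subgroup.isCyclic_of_le inf_le_right
  obtain ⟨i, hi⟩ := (Subgroup.isCyclic_iff_exists_zpowers_eq_top _).1 hAcyc
  have hiA : i ∈ Q ⊓ X := by rw [← hi]; exact Subgroup.mem_zpowers i
  have hiQ : i ∈ Q := hiA.1
  have hiX : i ∈ X := hiA.2
  have hconjQ : ∀ q ∈ Q, g * q * g⁻¹ ∈ Q := fun q hq => (Subgroup.mem_normalizer_iff.1 hg q).1 hq
  have h2pow : ∀ t ∈ T, ∃ s, orderOf t = 2 ^ s := by
    intro t ht
    obtain ⟨s, hs⟩ := hT ⟨t, ht⟩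
    have h1 : t ^ 2 ^ s = 1 := by
      have := congrArg Subtype.val hs
      simpa using this
    obtain ⟨r, _, hr⟩ := (Nat.dvd_prime_pow Nat.prime_two).1 (orderOf_dvd_of_pow_eq_one h1)
    exact ⟨r, hr⟩
  obtain ⟨j, hj⟩ : ∃ j, j = g * i * g⁻¹ := ⟨_, rfl⟩
  have hjQ : j ∈ Q := by rw [hj]; exact hconjQ i hiQ
  obtain ⟨si, hsi⟩ := h2pow i (hQ hiQ)
  -- j ∉ X
  have hjX : j ∉ X := by
    intro hjX
    have hjA : g * i * g⁻¹ ∈ Subgroup.zpowers i := by rw [hi, ← hj]; exact ⟨hjQ, hjX⟩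
    have hfix : g * i * g⁻¹ = i := cyc_centralize hsi hodd hjA
    have hA : ∀ u ∈ Q ⊓ X, g * u * g⁻¹ = u := by
      intro u hu
      rw [← hi] at hu
      obtain ⟨k, rfl⟩ := Subgroup.mem_zpowers_iff.1 hu
      rw [← conj_zpow, hfix]
    apply hgc
    rw [Subgroup.mem_centralizer_iff]
    intro q hq
    have key : g * q * g⁻¹ = q := by
      by_cases hqX : q ∈ X
      · exact hA q ⟨hq, hqX⟩
      · obtain ⟨q', hq'⟩ : ∃ q', q' = g * q * g⁻¹ := ⟨_, rfl⟩
        have hq'Q : q' ∈ Q := by rw [hq']; exact hconjQ q hq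
        have hq'X : q' ∉ X := by
          intro h
          have h1 := hA q' ⟨hq'Q, h⟩
          have h2 : q' = q := by
            have : g * q' * g⁻¹ = g * q * g⁻¹ := h1.trans hq'
            exact mul_left_cancel (mul_right_cancel this)
          exact hqX (h2 ▸ h)
        have hn : q⁻¹ * q' ∈ X := F4 q (hQ hq) q' (hQ hq'Q) hqX hq'X
        have hnQ : q⁻¹ * q' ∈ Q := Q.mul_mem (Q.inv_mem hq) hq'Q
        have hfixn := hA _ ⟨hnQ, hn⟩
        obtain ⟨s', hs'⟩ := h2pow (q⁻¹ * q') (hQ hnQ)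
        have h3 : q⁻¹ * q' = 1 :=
          stab_trivial (s := s') hodd
            (show g * q * g⁻¹ = q * (q⁻¹ * q') by rw [mul_inv_cancel_left, hq']) hfixn
            (by rw [← hs']; exact pow_orderOf_eq_one _)
        rw [← hq']
        exact (inv_mul_eq_one.1 h3).symm
    calc q * g = (g * q * g⁻¹) * g := by rw [key]
      _ = g * q := by simp only [mul_assoc, inv_mul_cancel, mul_one]
  obtain ⟨ho4, hinv⟩ := F1 j (hQ hjQ) hjX
  have hoi : orderOf i = 4 := by
    rw [← ho4, hj, orderOf_conj₂]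
  have hji : j * i * j⁻¹ = i⁻¹ := hinv i hiX
  have hsq : j ^ 2 = i ^ 2 := by
    apply F2 _ (T.pow_mem (hQ hjQ) 2) _ (T.pow_mem (hQ hiQ) 2)
    · rw [orderOf_pow_of_dvd (by norm_num) (by rw [ho4]; norm_num), ho4]
    · rw [orderOf_pow_of_dvd (by norm_num) (by rw [hoi]; norm_num), hoi]
  have hi4 : i ^ 4 = 1 := by rw [← hoi]; exact pow_orderOf_eq_one i
  have hjij : j * i * j = i := jij_eq hsq hji
  obtain ⟨k, hk⟩ : ∃ k, k = g * j * g⁻¹ := ⟨_, rfl⟩
  have hkQ : k ∈ Q := by rw [hk]; exact hconjQ j hjQ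
  -- if g fixes j then contradiction
  have hnofix : g * j * g⁻¹ ≠ j := by
    intro h
    have h1 : g * j * g⁻¹ = g * i * g⁻¹ := h.trans hj
    have h2 : j = i := mul_left_cancel (mul_right_cancel h1)
    exact hjX (h2 ▸ hiX)
  have hkX : k ∉ X := by
    intro hkX
    have hkA : k ∈ Subgroup.zpowers i := by rw [hi]; exact ⟨hkQ, hkX⟩
    have hodd2 : Odd (orderOf (g ^ 2)) := hodd.of_dvd_nat (orderOf_pow_dvd 2)
    have h2 : g ^ 2 * i * (g ^ 2)⁻¹ = k := by
      rw [hk, hj]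
      simp only [pow_two, _root_.mul_inv_rev, mul_assoc]
    have hfix2 : g ^ 2 * i * (g ^ 2)⁻¹ = i :=
      cyc_centralize hsi hodd2 (by rw [h2]; exact hkA)
    obtain ⟨r, hr⟩ := hodd
    have hg2 : g = (g ^ 2) ^ (r + 1) := by
      rw [← pow_mul, show 2 * (r + 1) = orderOf g + 1 by omega, pow_succ, pow_orderOf_eq_one,
        one_mul]
    have hcomm : Commute (g ^ 2) i := mul_inv_eq_iff_eq_mul.1 hfix2
    have hcomm' : Commute g i := by rw [hg2]; exact hcomm.pow_left _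
    have h3 : j = i := by rw [hj, hcomm'.eq, mul_inv_cancel_right]
    exact hjX (h3 ▸ hiX)
  have hnX : j⁻¹ * k ∈ X := F4 j (hQ hjQ) k (hQ hkQ) hjX hkX
  have hnA : j⁻¹ * k ∈ Subgroup.zpowers i := by
    rw [hi]; exact ⟨Q.mul_mem (Q.inv_mem hjQ) hkQ, hnX⟩
  obtain ⟨l, hl, hl'⟩ : ∃ l < 4, i ^ l = j⁻¹ * k := by
    have h1 : j⁻¹ * k ∈ Submonoid.powers i := mem_powers_iff_mem_zpowers.2 hnA
    obtain ⟨n, hn⟩ := (Submonoid.mem_powers_iff _ _).1 h1
    refine ⟨n % 4, Nat.mod_lt _ (by norm_num), ?_⟩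
    rw [← hoi, pow_mod_orderOf, hn]
  have hk_eq : k = j * i ^ l := by rw [hl', mul_inv_cancel_left]
  have hkj : k ∉ Subgroup.zpowers j := by
    intro h
    obtain ⟨sj, hsj⟩ := h2pow j (hQ hjQ)
    exact hnofix (cyc_centralize hsj hodd (by rw [← hk]; exact h))
  interval_cases l
  · exfalso
    apply hkj
    rw [hk_eq, pow_zero, mul_one]
    exact Subgroup.mem_zpowers j
  · -- k = j * i
    rw [pow_one] at hk_eq
    refine ⟨i, j * i, g⁻¹, hoi, ?_, ?_, ?_, ?_, ?_⟩
    · rw [pow_two, ← mul_assoc, hjij, pow_two]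
    · have : j * i * i * (j * i)⁻¹ = j * i * j⁻¹ := by
        simp only [_root_.mul_inv_rev, mul_assoc, mul_inv_cancel_left]
      rw [this, hji]
    · have h1 : g * (j * i) * g⁻¹ = i := by
        have : g * (j * i) * g⁻¹ = (g * j * g⁻¹) * (g * i * g⁻¹) := by
          simp only [mul_assoc, inv_mul_cancel_left]
        rw [this, ← hk, ← hj, hk_eq, hjij]
      rw [inv_inv]
      nth_rewrite 1 [← h1]
      simp only [mul_assoc, inv_mul_cancel_left, inv_mul_cancel, mul_one]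
    · have h2 : i * (j * i) = j := by
        rw [ji_eq hji, mul_inv_cancel_left]
      rw [h2, inv_inv, ← hk_eq, hk]
      simp only [mul_assoc, inv_mul_cancel_left, inv_mul_cancel, mul_one]
    · rw [orderOf_inv]; exact hodd
  · exfalso
    apply hkj
    rw [hk_eq, ← hsq, ← pow_succ']
    exact Subgroup.pow_mem _ (Subgroup.mem_zpowers j) _
  · -- k = j * i^3 = i * j
    refine ⟨i, j, g, hoi, hsq, hji, hj.symm, ?_, hodd⟩
    rw [← hk, hk_eq, ij_eq hji]
    congr 1
    apply eq_inv_of_mul_eq_one_left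
    rw [← pow_succ, hi4]

end aux

section quat

open QuaternionGroup

theorem quat_sq_eq_one₂ {m : ℕ} [NeZero m] (z : QuaternionGroup m) (hz : z ^ 2 = 1) :
    z = 1 ∨ z = QuaternionGroup.a (m : ZMod (2 * m)) := by
  rcases z with i | i
  · rw [sq, QuaternionGroup.a_mul_a, QuaternionGroup.one_def] at hz
    have h0 : i + i = 0 := by
      injection hz
    have hv := congrArg ZMod.val h0
    rw [ZMod.val_add, ZMod.val_zero] at hv
    have hlt := ZMod.val_lt i
    have hm : 0 < m := Nat.pos_of_ne_zero (NeZero.ne m)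
    have hcases : i.val = 0 ∨ i.val = m := by
      have h2 : (i.val + i.val) % (2 * m) = 0 := hv
      rcases Nat.lt_or_ge (i.val + i.val) (2 * m) with h | h
      · rw [Nat.mod_eq_of_lt h] at h2; left; omega
      · have h3 : (i.val + i.val) % (2 * m) = i.val + i.val - 2 * m := by
          rw [Nat.mod_eq_sub_mod h, Nat.mod_eq_of_lt (by omega)]
        rw [h3] at h2; right; omega
    rcases hcases with h | h
    · left
      rw [QuaternionGroup.one_def]
      congr 1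
      exact (ZMod.val_eq_zero i).1 h
    · right
      congr 1
      rw [← ZMod.natCast_zmod_val i, h]
  · exfalso
    rw [QuaternionGroup.xa_sq, QuaternionGroup.one_def] at hz
    have h0 : (m : ZMod (2 * m)) = 0 := by injection hz
    rw [ZMod.natCast_eq_zero_iff] at h0
    have hm : 0 < m := Nat.pos_of_ne_zero (NeZero.ne m)
    have := Nat.le_of_dvd hm h0
    omega

theorem quat_invol {m : ℕ} [NeZero m] (z : QuaternionGroup m) (hz : orderOf z = 2) :
    z = a (m : ZMod (2 * m)) := by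
  have h2 : z ^ 2 = 1 := by rw [← hz]; exact pow_orderOf_eq_one z
  rcases quat_sq_eq_one₂ z h2 with h | h
  · rw [h, orderOf_one] at hz; omega
  · exact h

theorem quat_mem_zpowers {m : ℕ} [NeZero m] (u : QuaternionGroup m) :
    u ∈ Subgroup.zpowers (a 1 : QuaternionGroup m) ↔ ∃ l, u = a l := by
  constructor
  · intro h
    have h1 := mem_powers_iff_mem_zpowers.2 h
    obtain ⟨k, hk⟩ := (Submonoid.mem_powers_iff _ _).1 h1
    exact ⟨k, by rw [← hk, a_one_pow]⟩
  · rintro ⟨l, rfl⟩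
    have : (a l : QuaternionGroup m) = (a 1) ^ l.val := by
      rw [a_one_pow, ZMod.natCast_zmod_val]
    rw [this]
    exact Subgroup.pow_mem _ (Subgroup.mem_zpowers _) _

end quat

open QuaternionGroup in
/-- A finite group with generalized quaternion Sylow 2-subgroups either has a normal 2-complement or has a section isomorphic to SL(2,3). -/
theorem result {G : Type*} [Group G] [Finite G] (T : Sylow 2 G) (n : ℕ) (hn : 1 ≤ n) (hT : Nonempty ((T : Subgroup G) ≃* QuaternionGroup (2 ^ n))) : Cfsg.HasNormalPComplement 2 G ∨ ∃ (H K : Subgroup G) (hK : (K.subgroupOf H).Normal), Nonempty ((H ⧸ K.subgroupOf H) ≃* Matrix.SpecialLinearGroup (Fin 2) (ZMod 3)) := by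
  by_cases hN : Cfsg.HasNormalPComplement 2 G
  · exact Or.inl hN
  right
  obtain ⟨e⟩ := hT
  have : Fact (Nat.Prime 2) := ⟨Nat.prime_two⟩
  have hm : NeZero (2 ^ n) := ⟨by positivity⟩
  have hF : ¬ ∀ Q : Subgroup G, Q ≤ (T : Subgroup G) → ∀ g ∈ Subgroup.normalizer (Q : Set G),
      Nat.Coprime (orderOf g) 2 → g ∈ Subgroup.centralizer (Q : Set G) := by
    intro h
    obtain ⟨N, hN1, hN2⟩ := (Cfsg.Agent.S0071.result T).2 h
    exact hN ⟨T, N, hN1, hN2⟩
  simp only [not_forall] at hF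
  obtain ⟨Q, hQ, g, hg, hcop, hgc⟩ := hF
  have hodd : Odd (orderOf g) := Nat.coprime_two_right.1 hcop
  let ψ : QuaternionGroup (2 ^ n) →* G := (T : Subgroup G).subtype.comp e.symm.toMonoidHom
  have hψinj : Function.Injective ψ := fun u v h => e.symm.injective (Subtype.ext h)
  have hψsurj : ∀ t ∈ (T : Subgroup G), ∃ u, ψ u = t := fun t ht => ⟨e ⟨t, ht⟩, by simp [ψ]⟩
  obtain ⟨x, hx⟩ : ∃ x, x = ψ (a 1) := ⟨_, rfl⟩
  have hmemX : ∀ u, ψ u ∈ Subgroup.zpowers x ↔ ∃ l, u = a l := by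
    intro u
    rw [hx, ← MonoidHom.map_zpowers, ← quat_mem_zpowers]
    constructor
    · rintro ⟨v, hv, hvu⟩
      rwa [← hψinj hvu]
    · intro h; exact ⟨u, h, rfl⟩
  have F1 : ∀ t ∈ (T : Subgroup G), t ∉ Subgroup.zpowers x →
      orderOf t = 4 ∧ ∀ u ∈ Subgroup.zpowers x, t * u * t⁻¹ = u⁻¹ := by
    intro t ht htX
    obtain ⟨u, rfl⟩ := hψsurj t ht
    rcases u with l | l
    · exact absurd ((hmemX _).2 ⟨l, rfl⟩) htX
    · refine ⟨by rw [orderOf_injective ψ hψinj, orderOf_xa], ?_⟩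
      have hcx : ψ (xa l) * x * (ψ (xa l))⁻¹ = x⁻¹ := by
        rw [hx, ← map_inv, ← map_mul, ← map_mul, ← map_inv]
        congr 1
        rw [mul_inv_eq_iff_eq_mul, xa_mul_a]
        apply eq_inv_mul_of_mul_eq
        rw [a_mul_xa, add_sub_cancel_right]
      intro w hw
      obtain ⟨k, rfl⟩ := Subgroup.mem_zpowers_iff.1 hw
      rw [← conj_zpow, hcx, inv_zpow]
  have F2 : ∀ s ∈ (T : Subgroup G), ∀ t ∈ (T : Subgroup G), orderOf s = 2 → orderOf t = 2 →
      s = t := by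
    intro s hs t ht hos hot
    obtain ⟨u, rfl⟩ := hψsurj s hs
    obtain ⟨v, rfl⟩ := hψsurj t ht
    rw [orderOf_injective ψ hψinj] at hos hot
    rw [quat_invol u hos, quat_invol v hot]
  have F4 : ∀ s ∈ (T : Subgroup G), ∀ t ∈ (T : Subgroup G), s ∉ Subgroup.zpowers x →
      t ∉ Subgroup.zpowers x → s⁻¹ * t ∈ Subgroup.zpowers x := by
    intro s hs t ht hsX htX
    obtain ⟨u, rfl⟩ := hψsurj s hs
    obtain ⟨v, rfl⟩ := hψsurj t ht
    rcases u with l | l
    · exact absurd ((hmemX _).2 ⟨l, rfl⟩) hsX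
    rcases v with l' | l'
    · exact absurd ((hmemX _).2 ⟨l', rfl⟩) htX
    rw [← map_inv, ← map_mul, hmemX]
    refine ⟨l' - l, ?_⟩
    rw [inv_mul_eq_iff_eq_mul, xa_mul_a, add_sub_cancel]
  obtain ⟨i, j, g', h1, h2, h3, h4, h5, h6⟩ :=
    fusion (T : Subgroup G) x T.isPGroup' F1 F2 F4 Q hQ g hg hodd hgc
  exact section_sl23 h1 h2 h3 h4 h5 h6

end Cfsg.Agent.S0106
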