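import Mathlib
import Cfsg.Agent.S0106
import Cfsg.Agent.Lib_lead_Q8Core
import Cfsg.Agent.Lib_helper1_Core
import Cfsg.Agent.Lib_helper6_AutIdx

set_option autoImplicit false

/-!
# Dihedral / semidihedral Sylow `2`-subgroups and `SL(2,3)`

A group with a dihedral or semidihedral Sylow `2`-subgroup `T`, `Z(T)` normal, `C_G(O_2(G)) ≤ O_2(G)`
and `G ≠ T` has a normal subgroup isomorphic to `SL(2,3)`.
-/

namespace Cfsg.Agent.lead.DihSL23

open Cfsg.Agent.S0106 Cfsg.Agent.lead.SL23 Cfsg.Agent.lead.Q8Core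

/-- the facts about a dihedral / semidihedral subgroup `T` with cyclic maximal subgroup `⟨x⟩`
and central involution `z` that the fusion argument needs -/
structure DS {G : Type*} [Group G] (T : Subgroup G) (x z : G) : Prop where
  xT : x ∈ T
  z1 : z ≠ 1
  z2 : z * z = 1
  zC : z ∈ Subgroup.zpowers x
  sqC : ∀ c ∈ Subgroup.zpowers x, c * c = 1 → c = 1 ∨ c = z
  sqO : ∀ t ∈ T, t ∉ Subgroup.zpowers x → t * t = 1 ∨ t * t = z
  conj4 : ∀ t ∈ T, t ∉ Subgroup.zpowers x → ∀ c ∈ Subgroup.zpowers x, c ^ 4 = 1 →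
    t * c * t⁻¹ = c⁻¹
  quot : ∀ u ∈ T, ∀ v ∈ T, u ∉ Subgroup.zpowers x → v ∉ Subgroup.zpowers x →
    u⁻¹ * v ∈ Subgroup.zpowers x
  pow2 : ∀ t ∈ T, ∃ s, orderOf t = 2 ^ s
  cen : ∀ w ∈ T, (∀ t ∈ T, t * w = w * t) → w = 1 ∨ w = z
  zcen : ∀ t ∈ T, t * z = z * t

theorem pow_four_eq {G : Type*} [Group G] (w : G) : w ^ 4 = (w * w) * (w * w) := by
  simp only [pow_succ, pow_zero, one_mul, mul_assoc]

theorem ds_of_gens {G : Type*} [Group G] [Finite G] (T : Subgroup G) (m e : ℕ) (hm : 1 ≤ m)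
    (hcard : Nat.card T = 2 ^ (m + 1 + 1)) (x y : G) (hxT : x ∈ T) (hyT : y ∈ T)
    (hox : orderOf x = 2 ^ (m + 1)) (hoy : orderOf y = 2) (hrel : y * x * y⁻¹ = x ^ e)
    (he : e + 1 = 2 ^ (m + 1) ∨ (e + 1 = 2 ^ m ∧ 2 ≤ m)) :
    DS T x (x ^ 2 ^ m) := by
  classical
  obtain ⟨z, hz⟩ : ∃ z, z = x ^ 2 ^ m := ⟨_, rfl⟩
  rw [← hz]
  obtain ⟨C, hC⟩ : ∃ C : Subgroup G, C = Subgroup.zpowers x := ⟨_, rfl⟩
  have hxC : x ∈ C := by rw [hC]; exact Subgroup.mem_zpowers x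
  have hCT : C ≤ T := by rw [hC]; exact Subgroup.zpowers_le.2 hxT
  have hx2 : x ^ 2 ^ (m + 1) = 1 := by rw [← hox]; exact pow_orderOf_eq_one x
  have hz2 : z * z = 1 := by
    rw [hz, ← pow_add, ← two_mul, ← pow_succ']; exact hx2
  have hz1 : z ≠ 1 := by
    intro h
    rw [hz] at h
    have h1 := orderOf_dvd_of_pow_eq_one h
    rw [hox] at h1
    have h2 := Nat.le_of_dvd (by positivity) h1
    have h3 : 2 ^ m < 2 ^ (m + 1) := Nat.pow_lt_pow_right (by norm_num) (Nat.lt_succ_self m)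
    omega
  have hzC : z ∈ C := by rw [hz]; exact C.pow_mem hxC _
  have hCpow : ∀ c ∈ C, ∃ k : ℕ, c = x ^ k := by
    intro c hc
    rw [hC] at hc
    have h1 : c ∈ Submonoid.powers x := mem_powers_iff_mem_zpowers.2 hc
    obtain ⟨k, hk⟩ := (Submonoid.mem_powers_iff _ _).1 h1
    exact ⟨k, hk.symm⟩
  have hCcomm : ∀ a ∈ C, ∀ b ∈ C, a * b = b * a := by
    intro a ha b hb
    obtain ⟨k, rfl⟩ := hCpow a ha
    obtain ⟨l, rfl⟩ := hCpow b hb
    rw [← pow_add, ← pow_add, add_comm]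
  have hCtop : ∀ c ∈ C, c ^ 2 ^ (m + 1) = 1 := by
    intro c hc
    obtain ⟨k, rfl⟩ := hCpow c hc
    rw [← pow_mul, mul_comm, pow_mul, hx2, one_pow]
  have hsqC : ∀ c ∈ C, c * c = 1 → c = 1 ∨ c = z := by
    intro c hc h
    obtain ⟨k, rfl⟩ := hCpow c hc
    rw [← pow_add] at h
    have h1 := orderOf_dvd_of_pow_eq_one h
    rw [hox, pow_succ'] at h1
    have h2 : 2 ^ m ∣ k := by
      have h3 : 2 * 2 ^ m ∣ 2 * k := by rwa [two_mul k]
      exact (Nat.mul_dvd_mul_iff_left (by norm_num : 0 < 2)).1 h3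
    obtain ⟨l, rfl⟩ := h2
    rw [pow_mul, ← hz]
    rcases Nat.even_or_odd' l with ⟨r, hr | hr⟩
    · left; rw [hr, pow_mul, pow_two, hz2, one_pow]
    · right; rw [hr, pow_succ, pow_mul, pow_two, hz2, one_pow, one_mul]
  have hyc : ∀ c ∈ C, y * c * y⁻¹ = c ^ e := by
    intro c hc
    obtain ⟨k, rfl⟩ := hCpow c hc
    rw [← conj_pow, hrel, ← pow_mul, ← pow_mul, mul_comm]
  have hpsi : ∀ c ∈ C, c ^ (e + 1) = 1 ∨ c ^ (e + 1) = z := by
    intro c hc
    rcases he with he | ⟨he, _⟩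
    · left; rw [he]; exact hCtop c hc
    · rw [he]
      apply hsqC _ (C.pow_mem hc _)
      rw [← pow_add, ← two_mul, ← pow_succ']
      exact hCtop c hc
  have hpsi4 : ∀ c ∈ C, c ^ 4 = 1 → c ^ (e + 1) = 1 := by
    intro c hc h4
    rcases he with he | ⟨he, hm2⟩
    · rw [he]; exact hCtop c hc
    · rw [he]
      have h5 : (2 : ℕ) ^ m = 4 * 2 ^ (m - 2) := by
        have h6 : m = (m - 2) + 2 := by omega
        conv_lhs => rw [h6]
        rw [pow_add]; ring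
      rw [h5, pow_mul, h4, one_pow]
  have hyc' : ∀ c ∈ C, y * c * y⁻¹ = c ^ (e + 1) * c⁻¹ := by
    intro c hc
    rw [hyc c hc, pow_succ, mul_inv_cancel_right]
  have hyc4 : ∀ c ∈ C, c ^ 4 = 1 → y * c * y⁻¹ = c⁻¹ := by
    intro c hc h4
    rw [hyc' c hc, hpsi4 c hc h4, one_mul]
  have hnx : y * x * y⁻¹ ≠ x := by
    intro h
    have h0 := hyc' x hxC
    rw [h] at h0
    have h1 : x * x = x ^ (e + 1) := by
      calc x * x = (x ^ (e + 1) * x⁻¹) * x := by rw [← h0]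
        _ = x ^ (e + 1) := by rw [inv_mul_cancel_right]
    have h4 : x ^ 4 = 1 := by
      rcases hpsi x hxC with h2 | h2
      · rw [pow_four_eq, h1, h2, one_mul]
      · rw [pow_four_eq, h1, h2, hz2]
    have h5 := hpsi4 x hxC h4
    rw [h5] at h1
    have h6 : orderOf x ∣ 2 := orderOf_dvd_of_pow_eq_one (by rw [pow_two]; exact h1)
    rw [hox] at h6
    have h7 := Nat.le_of_dvd (by norm_num) h6
    have h8 : 2 ^ 1 < 2 ^ (m + 1) := Nat.pow_lt_pow_right (by norm_num) (by omega)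
    omega
  have hyC : y ∉ C := by
    intro h
    apply hnx
    rw [hCcomm y h x hxC, mul_inv_cancel_right]
  have hCcard : Nat.card C = 2 ^ (m + 1) := by rw [hC, Nat.card_zpowers, hox]
  have hidx : (C.subgroupOf T).index = 2 := by
    have h1 := Subgroup.relIndex_mul_relIndex ⊥ C T bot_le hCT
    rw [Subgroup.relIndex_bot_left, Subgroup.relIndex_bot_left, hcard, hCcard] at h1
    have h2 : (2 : ℕ) ^ (m + 1 + 1) = 2 ^ (m + 1) * 2 := pow_succ 2 (m + 1)
    rw [h2] at h1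
    exact Nat.eq_of_mul_eq_mul_left (by positivity) h1
  have hquot : ∀ u ∈ T, ∀ v ∈ T, u ∉ C → v ∉ C → u⁻¹ * v ∈ C := by
    intro u hu v hv huC hvC
    have h1 := Subgroup.mul_mem_iff_of_index_two hidx (a := (⟨u, hu⟩ : T)⁻¹) (b := ⟨v, hv⟩)
    simp only [Subgroup.mem_subgroupOf, Subgroup.coe_mul, Subgroup.coe_inv, inv_mem_iff] at h1
    exact h1.2 ⟨fun h => absurd h huC, fun h => absurd h hvC⟩
  have hout : ∀ t ∈ T, t ∉ C → ∃ c0 ∈ C, t = y * c0 := by
    intro t ht htC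
    exact ⟨y⁻¹ * t, hquot y hyT t ht hyC htC, by rw [mul_inv_cancel_left]⟩
  have hyy : y * y = 1 := by
    have h := pow_orderOf_eq_one y
    rwa [hoy, pow_two] at h
  have hyinv : y⁻¹ = y := inv_eq_of_mul_eq_one_left hyy
  have htc : ∀ t ∈ T, t ∉ C → ∀ c ∈ C, t * c * t⁻¹ = y * c * y⁻¹ := by
    intro t ht htC c hc
    obtain ⟨c0, hc0, rfl⟩ := hout t ht htC
    have h1 : c0 * c * c0⁻¹ = c := by rw [hCcomm c0 hc0 c hc, mul_inv_cancel_right]
    calc y * c0 * c * (y * c0)⁻¹ = y * (c0 * c * c0⁻¹) * y⁻¹ := by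
          simp only [_root_.mul_inv_rev, mul_assoc]
      _ = y * c * y⁻¹ := by rw [h1]
  have hsqO : ∀ t ∈ T, t ∉ C → t * t = 1 ∨ t * t = z := by
    intro t ht htC
    obtain ⟨c0, hc0, rfl⟩ := hout t ht htC
    have h1 : y * c0 * (y * c0) = c0 ^ (e + 1) := by
      calc y * c0 * (y * c0) = (y * c0 * y⁻¹) * c0 := by rw [hyinv]; simp only [mul_assoc]
        _ = c0 ^ (e + 1) := by rw [hyc c0 hc0, ← pow_succ]
    rw [h1]
    exact hpsi c0 hc0
  have hconj4 : ∀ t ∈ T, t ∉ C → ∀ c ∈ C, c ^ 4 = 1 → t * c * t⁻¹ = c⁻¹ := by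
    intro t ht htC c hc h4
    rw [htc t ht htC c hc, hyc4 c hc h4]
  have hz4 : z ^ 4 = 1 := by rw [pow_four_eq, hz2, one_mul]
  have hzinv : z⁻¹ = z := inv_eq_of_mul_eq_one_left hz2
  have hzcen : ∀ t ∈ T, t * z = z * t := by
    intro t ht
    by_cases htC : t ∈ C
    · exact hCcomm t htC z hzC
    · have h1 := hconj4 t ht htC z hzC hz4
      rw [hzinv] at h1
      exact mul_inv_eq_iff_eq_mul.1 h1
  have hcen : ∀ w ∈ T, (∀ t ∈ T, t * w = w * t) → w = 1 ∨ w = z := by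
    intro w hw hcomm
    by_cases hwC : w ∈ C
    · have h1 : y * w * y⁻¹ = w := by rw [hcomm y hyT, mul_inv_cancel_right]
      have h2 := hyc' w hwC
      rw [h1] at h2
      have h3 : w * w = w ^ (e + 1) := by
        calc w * w = (w ^ (e + 1) * w⁻¹) * w := by rw [← h2]
          _ = w ^ (e + 1) := by rw [inv_mul_cancel_right]
      have h4 : w ^ 4 = 1 := by
        rcases hpsi w hwC with h | h
        · rw [pow_four_eq, h3, h, one_mul]
        · rw [pow_four_eq, h3, h, hz2]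
      rw [hpsi4 w hwC h4] at h3
      exact hsqC w hwC h3
    · exfalso
      apply hnx
      rw [← htc w hw hwC x hxC, ← hcomm x hxT, mul_inv_cancel_right]
  have hpow2 : ∀ t ∈ T, ∃ s, orderOf t = 2 ^ s := by
    intro t ht
    have h1 := Subgroup.orderOf_dvd_natCard T ht
    rw [hcard] at h1
    obtain ⟨r, _, hr⟩ := (Nat.dvd_prime_pow Nat.prime_two).1 h1
    exact ⟨r, hr⟩
  subst hC
  exact ⟨hxT, hz1, hz2, hzC, hsqC, hsqO, hconj4, hquot, hpow2, hcen, hzcen⟩

theorem ds_of_dihedral {G : Type*} [Group G] [Finite G] (T : Sylow 2 G) (n : ℕ) (hn : 4 ≤ n)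
    (e : ↥(T : Subgroup G) ≃* DihedralGroup n) : ∃ x z : G, DS (T : Subgroup G) x z := by
  have hcard : Nat.card (T : Subgroup G) = 2 * n := by
    rw [Nat.card_congr e.toEquiv, DihedralGroup.nat_card]
  obtain ⟨k, hk⟩ := IsPGroup.iff_card.1 T.isPGroup'
  have hk1 : 3 ≤ k := by
    by_contra h
    push_neg at h
    have h1 : 2 ^ k ≤ 2 ^ 2 := Nat.pow_le_pow_right (by norm_num) (by omega)
    rw [← hk, hcard] at h1
    norm_num at h1
    omega
  obtain ⟨m, rfl⟩ : ∃ m, k = m + 1 + 1 := ⟨k - 2, by omega⟩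
  have hn2 : n = 2 ^ (m + 1) := by
    have h1 : 2 * n = 2 * 2 ^ (m + 1) := by rw [← hcard, hk, pow_succ']
    exact Nat.eq_of_mul_eq_mul_left (by norm_num) h1
  have hm : 1 ≤ m := by
    by_contra h
    have h0 : m = 0 := by omega
    subst h0
    norm_num at hn2
    omega
  obtain ⟨x, hx⟩ : ∃ x : ↥(T : Subgroup G), x = e.symm (DihedralGroup.r 1) := ⟨_, rfl⟩
  obtain ⟨y, hy⟩ : ∃ y : ↥(T : Subgroup G), y = e.symm (DihedralGroup.sr 0) := ⟨_, rfl⟩
  have hox : orderOf x = 2 ^ (m + 1) := by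
    rw [hx, MulEquiv.orderOf_eq, DihedralGroup.orderOf_r_one, hn2]
  have hoy : orderOf y = 2 := by
    rw [hy, MulEquiv.orderOf_eq, DihedralGroup.orderOf_sr]
  have hrel0 : y * x * y⁻¹ = x⁻¹ := by
    apply e.injective
    rw [map_mul, map_mul, map_inv, map_inv, hx, hy, MulEquiv.apply_symm_apply,
      MulEquiv.apply_symm_apply]
    apply eq_inv_of_mul_eq_one_left
    have h : (DihedralGroup.sr (0 : ZMod n))⁻¹ = DihedralGroup.sr 0 := rfl
    rw [h, DihedralGroup.sr_mul_r, DihedralGroup.sr_mul_sr, DihedralGroup.r_mul_r,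
      DihedralGroup.one_def]
    congr 1
    ring
  have hx2 : (x : G) ^ 2 ^ (m + 1) = 1 := by
    have h := pow_orderOf_eq_one x
    rw [hox] at h
    have h2 := congrArg Subtype.val h
    simpa using h2
  have hrel : (y : G) * x * (y : G)⁻¹ = (x : G) ^ (2 ^ (m + 1) - 1) := by
    have h1 := congrArg Subtype.val hrel0
    have h2 : (x : G) ^ (2 ^ (m + 1) - 1) = (x : G)⁻¹ := by
      apply eq_inv_of_mul_eq_one_left
      rw [← pow_succ, Nat.sub_add_cancel Nat.one_le_two_pow, hx2]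
    rw [h2]
    simpa using h1
  refine ⟨x, _, ds_of_gens (T : Subgroup G) m (2 ^ (m + 1) - 1) hm hk x y x.2 y.2 ?_ ?_ hrel ?_⟩
  · rw [Subgroup.orderOf_coe]; exact hox
  · rw [Subgroup.orderOf_coe]; exact hoy
  · left; exact Nat.sub_add_cancel Nat.one_le_two_pow

/-- the fusion argument: an odd-order element acting nontrivially on a normal `2`-subgroup `Q`
of `T` produces the `SL(2,3)` relations, and `Q` is quaternion of order `8` -/
theorem fusionD {G : Type*} [Group G] [Finite G] (T : Subgroup G) (x z : G) (hDS : DS T x z)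
    (Q : Subgroup G) (hQ : Q ≤ T) (g : G) (hconjQ : ∀ q ∈ Q, g * q * g⁻¹ ∈ Q)
    (hgz : g * z * g⁻¹ = z) (hodd : Odd (orderOf g))
    (hgc : g ∉ Subgroup.centralizer (Q : Set G)) :
    ∃ i j g' : G, i ∈ Q ∧ j ∈ Q ∧ orderOf i = 4 ∧ j ^ 2 = i ^ 2 ∧ j * i * j⁻¹ = i⁻¹ ∧
      g' * i * g'⁻¹ = j ∧ g' * j * g'⁻¹ = i * j ∧ Odd (orderOf g') ∧
      (∀ r ∈ Q, r ∈ Subgroup.closure ({i, j} : Set G)) ∧
      (∀ w ∈ Q, (∀ q ∈ Q, q * w = w * q) → w = 1 ∨ w = z) := by
  classical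
  obtain ⟨X, hX⟩ : ∃ X : Subgroup G, X = Subgroup.zpowers x := ⟨_, rfl⟩
  have hsqC := hDS.sqC
  have hsqO := hDS.sqO
  have hconj4 := hDS.conj4
  have F4 := hDS.quot
  have hzX : z ∈ X := by rw [hX]; exact hDS.zC
  rw [← hX] at hsqC hsqO hconj4 F4
  have hzz := hDS.z2
  have hz1 := hDS.z1
  have h2pow := hDS.pow2
  have hXcyc : IsCyclic X := by rw [hX]; infer_instance
  have hAcyc : IsCyclic (Q ⊓ X : Subgroup G) := Subgroup.isCyclic_of_le inf_le_right
  obtain ⟨i, hi⟩ := (Subgroup.isCyclic_iff_exists_zpowers_eq_top _).1 hAcyc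
  have hiA : i ∈ Q ⊓ X := by rw [← hi]; exact Subgroup.mem_zpowers i
  have hiQ : i ∈ Q := hiA.1
  have hiX : i ∈ X := hiA.2
  obtain ⟨j, hj⟩ : ∃ j, j = g * i * g⁻¹ := ⟨_, rfl⟩
  have hjQ : j ∈ Q := by rw [hj]; exact hconjQ i hiQ
  obtain ⟨si, hsi⟩ := h2pow i (hQ hiQ)
  -- j ∉ X
  have hjX : j ∉ X := by
    intro hjX
    have hjA : g * i * g⁻¹ ∈ Subgroup.zpowers i := by rw [hi, ← hj]; exact ⟨hjQ, hjX⟩
    have hfix : g * i * g⁻¹ = i := cyc_centralize hsi hodd hjA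
    have hA : ∀ u ∈ Q ⊓ X, g * u * g⁻¹ = u := by
      intro u hu
      rw [← hi] at hu
      obtain ⟨k, rfl⟩ := Subgroup.mem_zpowers_iff.1 hu
      rw [← conj_zpow, hfix]
    apply hgc
    rw [Subgroup.mem_centralizer_iff]
    intro q hq
    have key : g * q * g⁻¹ = q := by
      by_cases hqX : q ∈ X
      · exact hA q ⟨hq, hqX⟩
      · obtain ⟨q', hq'⟩ : ∃ q', q' = g * q * g⁻¹ := ⟨_, rfl⟩
        have hq'Q : q' ∈ Q := by rw [hq']; exact hconjQ q hq
        have hq'X : q' ∉ X := by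
          intro h
          have h1 := hA q' ⟨hq'Q, h⟩
          have h2 : q' = q := by
            have : g * q' * g⁻¹ = g * q * g⁻¹ := h1.trans hq'
            exact mul_left_cancel (mul_right_cancel this)
          exact hqX (h2 ▸ h)
        have hn : q⁻¹ * q' ∈ X := F4 q (hQ hq) q' (hQ hq'Q) hqX hq'X
        have hnQ : q⁻¹ * q' ∈ Q := Q.mul_mem (Q.inv_mem hq) hq'Q
        have hfixn := hA _ ⟨hnQ, hn⟩
        obtain ⟨s', hs'⟩ := h2pow (q⁻¹ * q') (hQ hnQ)
        have h3 : q⁻¹ * q' = 1 :=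
          stab_trivial (s := s') hodd
            (show g * q * g⁻¹ = q * (q⁻¹ * q') by rw [mul_inv_cancel_left, hq']) hfixn
            (by rw [← hs']; exact pow_orderOf_eq_one _)
        rw [← hq']
        exact (inv_mul_eq_one.1 h3).symm
    calc q * g = (g * q * g⁻¹) * g := by rw [key]
      _ = g * q := by simp only [mul_assoc, inv_mul_cancel, mul_one]
  -- squares
  have hjj : j * j = z := by
    rcases hsqO j (hQ hjQ) hjX with h | h
    · exfalso
      have h1 : i * i = 1 := by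
        have h2 : g * (i * i) * g⁻¹ = g * 1 * g⁻¹ := by
          rw [cj_mul, ← hj, h, mul_one, mul_inv_cancel]
        exact mul_left_cancel (mul_right_cancel h2)
      rcases hsqC i hiX h1 with h2 | h2
      · apply hjX
        rw [hj, h2, mul_one, mul_inv_cancel]
        exact X.one_mem
      · apply hjX
        rw [hj, h2, hgz]
        exact hzX
    · exact h
  have hii : i * i = z := by
    have h1 : g * (i * i) * g⁻¹ = g * z * g⁻¹ := by
      rw [cj_mul, ← hj, hjj, hgz]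
    exact mul_left_cancel (mul_right_cancel h1)
  have hi4 : i ^ 4 = 1 := by rw [pow_four_eq, hii, hzz]
  have hoi : orderOf i = 4 := by
    have h1 : ¬ i ^ 2 ^ 1 = 1 := by
      rw [pow_one, pow_two, hii]; exact hz1
    have h2 : i ^ 2 ^ (1 + 1) = 1 := by
      have h3 : (2 : ℕ) ^ (1 + 1) = 4 := by norm_num
      rw [h3]; exact hi4
    have h3 := orderOf_eq_prime_pow (p := 2) h1 h2
    rw [h3]; norm_num
  have hji : j * i * j⁻¹ = i⁻¹ := hconj4 j (hQ hjQ) hjX i hiX hi4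
  have hsq : j ^ 2 = i ^ 2 := by rw [pow_two, pow_two, hjj, hii]
  have hjij : j * i * j = i := jij_eq hsq hji
  -- generation and centre
  have hgen : ∀ j0 ∈ Q, j0 ∉ X → ∀ r ∈ Q, r ∈ Subgroup.closure ({i, j0} : Set G) := by
    intro j0 hj0Q hj0X r hr
    have hiS : i ∈ Subgroup.closure ({i, j0} : Set G) := Subgroup.subset_closure (by simp)
    have hjS : j0 ∈ Subgroup.closure ({i, j0} : Set G) := Subgroup.subset_closure (by simp)
    have hA : ∀ a ∈ Q ⊓ X, a ∈ Subgroup.closure ({i, j0} : Set G) := by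
      intro a ha
      rw [← hi] at ha
      exact (Subgroup.zpowers_le.2 hiS) ha
    by_cases hrX : r ∈ X
    · exact hA r ⟨hr, hrX⟩
    · have h1 : j0⁻¹ * r ∈ X := F4 j0 (hQ hj0Q) r (hQ hr) hj0X hrX
      have h2 := hA _ ⟨Q.mul_mem (Q.inv_mem hj0Q) hr, h1⟩
      have h3 : r = j0 * (j0⁻¹ * r) := by rw [mul_inv_cancel_left]
      rw [h3]
      exact Subgroup.mul_mem _ hjS h2
  have hcenQ : ∀ w ∈ Q, (∀ q ∈ Q, q * w = w * q) → w = 1 ∨ w = z := by
    intro w hw hcomm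
    by_cases hwX : w ∈ X
    · have hwA : w ∈ Subgroup.zpowers i := by rw [hi]; exact ⟨hw, hwX⟩
      have hw4 : w ^ 4 = 1 := by
        have h1 : w ∈ Submonoid.powers i := mem_powers_iff_mem_zpowers.2 hwA
        obtain ⟨k, hk⟩ := (Submonoid.mem_powers_iff _ _).1 h1
        rw [← hk, ← pow_mul, mul_comm, pow_mul, hi4, one_pow]
      have h1 : j * w * j⁻¹ = w⁻¹ := hconj4 j (hQ hjQ) hjX w hwX hw4
      have h2 : j * w * j⁻¹ = w := by rw [hcomm j hjQ, mul_inv_cancel_right]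
      have h3 : w * w = 1 := mul_eq_one_iff_eq_inv.2 (h2.symm.trans h1)
      exact hsqC w hwX h3
    · exfalso
      have h1 : w * i * w⁻¹ = i⁻¹ := hconj4 w (hQ hw) hwX i hiX hi4
      have h2 : w * i * w⁻¹ = i := by rw [← hcomm i hiQ, mul_inv_cancel_right]
      have h3 : i * i = 1 := mul_eq_one_iff_eq_inv.2 (h2.symm.trans h1)
      rw [hii] at h3
      exact hz1 h3
  obtain ⟨k, hk⟩ : ∃ k, k = g * j * g⁻¹ := ⟨_, rfl⟩
  have hkQ : k ∈ Q := by rw [hk]; exact hconjQ j hjQ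
  have hnofix : g * j * g⁻¹ ≠ j := by
    intro h
    have h1 : g * j * g⁻¹ = g * i * g⁻¹ := h.trans hj
    have h2 : j = i := mul_left_cancel (mul_right_cancel h1)
    exact hjX (h2 ▸ hiX)
  have hkX : k ∉ X := by
    intro hkX
    have hkA : k ∈ Subgroup.zpowers i := by rw [hi]; exact ⟨hkQ, hkX⟩
    have hodd2 : Odd (orderOf (g ^ 2)) := hodd.of_dvd_nat (orderOf_pow_dvd 2)
    have h2 : g ^ 2 * i * (g ^ 2)⁻¹ = k := by
      rw [hk, hj]
      simp only [pow_two, _root_.mul_inv_rev, mul_assoc]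
    have hfix2 : g ^ 2 * i * (g ^ 2)⁻¹ = i :=
      cyc_centralize hsi hodd2 (by rw [h2]; exact hkA)
    obtain ⟨r, hr⟩ := hodd
    have hg2 : g = (g ^ 2) ^ (r + 1) := by
      rw [← pow_mul, show 2 * (r + 1) = orderOf g + 1 by omega, pow_succ, pow_orderOf_eq_one,
        one_mul]
    have hcomm : Commute (g ^ 2) i := mul_inv_eq_iff_eq_mul.1 hfix2
    have hcomm' : Commute g i := by rw [hg2]; exact hcomm.pow_left _
    have h3 : j = i := by rw [hj, hcomm'.eq, mul_inv_cancel_right]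
    exact hjX (h3 ▸ hiX)
  have hnX : j⁻¹ * k ∈ X := F4 j (hQ hjQ) k (hQ hkQ) hjX hkX
  have hnA : j⁻¹ * k ∈ Subgroup.zpowers i := by
    rw [hi]; exact ⟨Q.mul_mem (Q.inv_mem hjQ) hkQ, hnX⟩
  obtain ⟨l, hl, hl'⟩ : ∃ l < 4, i ^ l = j⁻¹ * k := by
    have h1 : j⁻¹ * k ∈ Submonoid.powers i := mem_powers_iff_mem_zpowers.2 hnA
    obtain ⟨n, hn⟩ := (Submonoid.mem_powers_iff _ _).1 h1
    refine ⟨n % 4, Nat.mod_lt _ (by norm_num), ?_⟩
    rw [← hoi, pow_mod_orderOf, hn]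
  have hk_eq : k = j * i ^ l := by rw [hl', mul_inv_cancel_left]
  have hkj : k ∉ Subgroup.zpowers j := by
    intro h
    obtain ⟨sj, hsj⟩ := h2pow j (hQ hjQ)
    exact hnofix (cyc_centralize hsj hodd (by rw [← hk]; exact h))
  interval_cases l
  · exfalso
    apply hkj
    rw [hk_eq, pow_zero, mul_one]
    exact Subgroup.mem_zpowers j
  · -- k = j * i
    rw [pow_one] at hk_eq
    have hjiX : j * i ∉ X := by
      intro h
      apply hjX
      have h5 : j = (j * i) * i⁻¹ := by rw [mul_inv_cancel_right]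
      rw [h5]
      exact X.mul_mem h (X.inv_mem hiX)
    obtain ⟨s1, s2, s3, s4⟩ := swap_case hsq hji hj.symm (hk.symm.trans hk_eq)
    exact ⟨i, j * i, g⁻¹, hiQ, Q.mul_mem hjQ hiQ, hoi, s1, s2, s3, s4,
      by rw [orderOf_inv]; exact hodd, hgen (j * i) (Q.mul_mem hjQ hiQ) hjiX, hcenQ⟩
  · exfalso
    apply hkj
    rw [hk_eq, ← hsq, ← pow_succ']
    exact Subgroup.pow_mem _ (Subgroup.mem_zpowers j) _
  · -- k = j * i^3 = i * j
    refine ⟨i, j, g, hiQ, hjQ, hoi, hsq, hji, hj.symm, ?_, hodd, hgen j hjQ hjX, hcenQ⟩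
    rw [← hk, hk_eq, ij_eq hji]
    congr 1
    apply eq_inv_of_mul_eq_one_left
    rw [← pow_succ, hi4]

theorem main {G : Type*} [Group G] [Finite G] (T : Sylow 2 G) (x z : G)
    (hDS : DS (T : Subgroup G) x z)
    (hcent : Subgroup.centralizer ((Cfsg.pCore 2 G : Subgroup G) : Set G) ≤ Cfsg.pCore 2 G)
    (hne : (T : Subgroup G) ≠ ⊤)
    (hZ : ((T : Subgroup G) ⊓ Subgroup.centralizer ((T : Subgroup G) : Set G)).Normal) :
    ∃ U : Subgroup G, U.Normal ∧
      Nonempty (↥U ≃* Matrix.SpecialLinearGroup (Fin 2) (ZMod 3)) := by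
  classical
  obtain ⟨Q, hQdef⟩ : ∃ Q : Subgroup G, Q = Cfsg.pCore 2 G := ⟨_, rfl⟩
  rw [← hQdef] at hcent
  haveI hQn : Q.Normal := by rw [hQdef]; exact Cfsg.Agent.helper1.pCore_normal 2
  have hQT : Q ≤ T := by rw [hQdef]; exact Cfsg.Agent.helper1.pCore_le_sylow T
  have hzT : z ∈ (T : Subgroup G) := (Subgroup.zpowers_le.2 hDS.xT) hDS.zC
  have hzZ : z ∈ (T : Subgroup G) ⊓ Subgroup.centralizer ((T : Subgroup G) : Set G) := by
    refine Subgroup.mem_inf.2 ⟨hzT, ?_⟩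
    rw [Subgroup.mem_centralizer_iff]
    intro t ht
    exact hDS.zcen t ht
  have hzG : ∀ g : G, g * z * g⁻¹ = z := by
    intro g
    have h1 := hZ.conj_mem z hzZ g
    have h2 : g * z * g⁻¹ = 1 ∨ g * z * g⁻¹ = z := by
      apply hDS.cen _ h1.1
      intro t ht
      exact (Subgroup.mem_centralizer_iff.1 h1.2) t ht
    rcases h2 with h | h
    · exfalso
      apply hDS.z1
      have h3 : g * z * g⁻¹ = g * 1 * g⁻¹ := by rw [h, mul_one, mul_inv_cancel]
      exact mul_left_cancel (mul_right_cancel h3)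
    · exact h
  -- an element of odd prime order
  obtain ⟨g, hgodd, hg1⟩ : ∃ g : G, Odd (orderOf g) ∧ g ≠ 1 := by
    have hidx : (T : Subgroup G).index ≠ 1 := by
      intro h; exact hne (Subgroup.index_eq_one.1 h)
    obtain ⟨r, hr, hrdvd⟩ := Nat.exists_prime_and_dvd hidx
    haveI : Fact r.Prime := ⟨hr⟩
    have hr2 : r ≠ 2 := by
      rintro rfl
      exact T.not_dvd_index hrdvd
    have hrG : r ∣ Nat.card G := hrdvd.trans (Subgroup.index_dvd_card _)
    obtain ⟨g, hg⟩ := exists_prime_orderOf_dvd_card' r hrG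
    refine ⟨g, ?_, ?_⟩
    · rw [hg]; exact hr.odd_of_ne_two hr2
    · intro h; rw [h, orderOf_one] at hg; exact hr.one_lt.ne hg
  have hgQ : g ∉ Q := by
    intro h
    obtain ⟨s, hs⟩ := hDS.pow2 g (hQT h)
    rw [hs] at hgodd
    rcases Nat.eq_zero_or_pos s with rfl | hs0
    · rw [pow_zero, orderOf_eq_one_iff] at hs; exact hg1 hs
    · exact (Nat.not_even_iff_odd.2 hgodd) (Nat.even_pow.2 ⟨even_two, hs0.ne'⟩)
  have hgc : g ∉ Subgroup.centralizer (Q : Set G) := fun h => hgQ (hcent h)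
  obtain ⟨i, j, b, hiQ, hjQ, hoi, hsq, hji, hbi, hbj, hbodd, hgen, hcenQ⟩ :=
    fusionD (T : Subgroup G) x z hDS Q hQT g (fun q hq => hQn.conj_mem q hq g) (hzG g) hgodd hgc
  have hb3 : b ^ 3 = 1 := by
    have hci := cube_comm_i hsq hji hbi hbj
    have hcj := cube_comm_j hsq hji hbi hbj
    have hcl : Subgroup.closure ({i, j} : Set G) ≤ Subgroup.centralizer {b ^ 3} := by
      rw [Subgroup.closure_le]
      intro u hu
      rw [SetLike.mem_coe, Subgroup.mem_centralizer_singleton_iff]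
      rcases hu with h | h
      · rw [h]; exact hci.symm
      · rw [Set.mem_singleton_iff] at h; rw [h]; exact hcj.symm
    have hb3c : b ^ 3 ∈ Subgroup.centralizer (Q : Set G) := by
      rw [Subgroup.mem_centralizer_iff]
      intro q hq
      exact Subgroup.mem_centralizer_singleton_iff.1 (hcl (hgen q hq))
    have hb3Q := hcent hb3c
    obtain ⟨s, hs⟩ := hDS.pow2 _ (hQT hb3Q)
    have hodd3 : Odd (orderOf (b ^ 3)) := hbodd.of_dvd_nat (orderOf_pow_dvd 3)
    rw [hs] at hodd3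
    rcases Nat.eq_zero_or_pos s with rfl | hs0
    · rwa [pow_zero, orderOf_eq_one_iff] at hs
    · exact absurd (Nat.even_pow.2 ⟨even_two, hs0.ne'⟩) (Nat.not_even_iff_odd.2 hodd3)
  obtain ⟨U, hU⟩ : ∃ U : Subgroup G, U = Subgroup.closure ({i, j, b} : Set G) := ⟨_, rfl⟩
  have hUe : Nonempty (↥U ≃* Matrix.SpecialLinearGroup (Fin 2) (ZMod 3)) := by
    rw [hU]; exact closure_equiv_sl23 hoi hsq hji hb3 hbi hbj
  obtain ⟨eU⟩ := hUe
  obtain ⟨eQ⟩ := equiv_quaternion hoi hsq hji Q hiQ hjQ hgen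
  refine ⟨U, ?_, ⟨eU⟩⟩
  have hU24 : Nat.card U = 24 := by
    rw [Nat.card_congr eU.toEquiv]; exact card_sl23
  let φ : G →* MulAut Q := MulAut.conjNormal
  have hker : φ.ker ≤ Subgroup.zpowers z := by
    intro w hw
    rw [MonoidHom.mem_ker] at hw
    have hwc : w ∈ Subgroup.centralizer (Q : Set G) := by
      rw [Subgroup.mem_centralizer_iff]
      intro q hq
      have h1 : ((φ w ⟨q, hq⟩ : Q) : G) = (((1 : MulAut Q) ⟨q, hq⟩ : Q) : G) := by rw [hw]
      have h2 : w * q * w⁻¹ = q := by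
        simpa [φ, MulAut.conjNormal_apply] using h1
      exact (mul_inv_eq_iff_eq_mul.1 h2).symm
    have hwQ := hcent hwc
    have hwz : w = 1 ∨ w = z :=
      hcenQ w hwQ (fun q hq => (Subgroup.mem_centralizer_iff.1 hwc) q hq)
    rcases hwz with h | h
    · rw [h]; exact Subgroup.one_mem _
    · rw [h]; exact Subgroup.mem_zpowers _
  have hz2' : orderOf z = 2 := orderOf_eq_prime (by rw [pow_two]; exact hDS.z2) hDS.z1
  have hkercard : Nat.card φ.ker ∣ 2 := by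
    have h := Subgroup.card_dvd_of_le hker
    rwa [Nat.card_zpowers, hz2'] at h
  have hrange : Nat.card φ.range ∣ 24 :=
    (Subgroup.card_subgroup_dvd_card φ.range).trans
      (Cfsg.Agent.helper6.AutIdx.card_mulAut_q8_dvd eQ)
  have hG48 : Nat.card G ∣ 2 * 24 := by
    have h1 := Subgroup.card_mul_index φ.ker
    rw [Subgroup.index_ker] at h1
    rw [← h1]
    exact Nat.mul_dvd_mul hkercard hrange
  have h1 := Subgroup.card_mul_index U
  rw [hU24] at h1
  have hidx : U.index ∣ 2 := by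
    rw [← h1] at hG48
    have h2 : 24 * U.index ∣ 24 * 2 := by rwa [mul_comm 24 2]
    exact (Nat.mul_dvd_mul_iff_left (by norm_num : 0 < 24)).1 h2
  have hidx' : U.index = 1 ∨ U.index = 2 := by
    have h2 := Nat.le_of_dvd (by norm_num) hidx
    have h0 : U.index ≠ 0 := Subgroup.index_ne_zero_of_finite
    omega
  rcases hidx' with h | h
  · rw [Subgroup.index_eq_one.1 h]; infer_instance
  · exact Subgroup.normal_of_index_eq_two h

end Cfsg.Agent.lead.DihSL23
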