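import Mathlib
import Cfsg.Agent.Lib_helper23_PSolv2

set_option autoImplicit false
set_option linter.style.haveILetI false

namespace Cfsg.Agent.lead

open Cfsg

universe u

section
variable {G : Type u} [Group G]

theorem upperPSeries_le_succ (p n : ℕ) :
    (upperPSeries p G n).1 ≤ (upperPSeries p G (n + 1)).1 := by
  by_cases hn : Even n
  · rw [helper23.upperPSeries_succ_of_even p n hn]; exact helper23.le_comap_mk' _ _
  · rw [helper23.upperPSeries_succ_of_not_even p n hn]; exact helper23.le_comap_mk' _ _

theorem upperPSeries_mono (p : ℕ) : Monotone (fun n => (upperPSeries p G n).1) :=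
  monotone_nat_of_le_succ (upperPSeries_le_succ p)

theorem upperPSeries_zero (p : ℕ) : (upperPSeries p G 0).1 = ⊥ := by
  rw [upperPSeries]

theorem card_map_mk'_eq_relIndex (U M : Subgroup G) [U.Normal] :
    Nat.card (M.map (QuotientGroup.mk' U)) = U.relIndex M := by
  have h1 := Subgroup.relIndex_ker M (QuotientGroup.mk' U)
  rw [QuotientGroup.ker_mk'] at h1
  exact h1.symm

theorem relIndex_comap_mk' (N : Subgroup G) [N.Normal] (X' : Subgroup (G ⧸ N)) :
    N.relIndex (X'.comap (QuotientGroup.mk' N)) = Nat.card X' := by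
  rw [← card_map_mk'_eq_relIndex,
    Subgroup.map_comap_eq_self_of_surjective (QuotientGroup.mk'_surjective N)]

theorem le_upperPSeries_succ_of_even [Finite G] (p n : ℕ) (hn : Even n) (N M : Subgroup G)
    [M.Normal] (hN : N ≤ (upperPSeries p G n).1) (hcop : (N.relIndex M).Coprime p) :
    M ≤ (upperPSeries p G (n + 1)).1 := by
  rw [helper23.upperPSeries_succ_of_even p n hn]
  intro x hx
  rw [Subgroup.mem_comap]
  have hYn : (M.map (QuotientGroup.mk' (upperPSeries p G n).1)).Normal :=
    Subgroup.Normal.map inferInstance _ (QuotientGroup.mk'_surjective _)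
  have hYc : (Nat.card (M.map (QuotientGroup.mk' (upperPSeries p G n).1))).Coprime p := by
    rw [card_map_mk'_eq_relIndex]
    exact Nat.Coprime.coprime_dvd_left (Subgroup.relIndex_dvd_of_le_left M hN) hcop
  exact helper1.le_pPrimeCore hYn hYc ⟨x, hx, rfl⟩

theorem le_upperPSeries_succ_of_odd [Finite G] (p n : ℕ) [hp : Fact p.Prime] (hn : ¬ Even n)
    (N M : Subgroup G) [M.Normal] (hN : N ≤ (upperPSeries p G n).1) (m : ℕ)
    (hpow : N.relIndex M = p ^ m) :
    M ≤ (upperPSeries p G (n + 1)).1 := by
  rw [helper23.upperPSeries_succ_of_not_even p n hn]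
  intro x hx
  rw [Subgroup.mem_comap]
  have hYn : (M.map (QuotientGroup.mk' (upperPSeries p G n).1)).Normal :=
    Subgroup.Normal.map inferInstance _ (QuotientGroup.mk'_surjective _)
  have hd : (upperPSeries p G n).1.relIndex M ∣ p ^ m :=
    hpow ▸ Subgroup.relIndex_dvd_of_le_left M hN
  obtain ⟨j, _, hj⟩ := (Nat.dvd_prime_pow hp.out).1 hd
  have hYp : IsPGroup p (M.map (QuotientGroup.mk' (upperPSeries p G n).1)) :=
    IsPGroup.of_card (n := j) (by rw [card_map_mk'_eq_relIndex, hj])
  exact helper1.le_pCore hYn hYp ⟨x, hx, rfl⟩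

/-- The upper `p`-series of `G / O_{p',p}(G)` pulls back into the upper `p`-series of `G`,
shifted by two. -/
theorem comap_upperPSeries_quotient_le [Finite G] (p : ℕ) [hp : Fact p.Prime] (j : ℕ) :
    ((upperPSeries p (G ⧸ (upperPSeries p G 2).1) j).1).comap
      (QuotientGroup.mk' (upperPSeries p G 2).1) ≤ (upperPSeries p G (j + 2)).1 := by
  induction j with
  | zero =>
    rw [upperPSeries_zero, MonoidHom.comap_bot, QuotientGroup.ker_mk']
  | succ j ih =>
    have hsurj := QuotientGroup.mk'_surjective (upperPSeries p G 2).1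
    have hMn : (((upperPSeries p (G ⧸ (upperPSeries p G 2).1) (j + 1)).1).comap
        (QuotientGroup.mk' (upperPSeries p G 2).1)).Normal := Subgroup.Normal.comap inferInstance _
    have hrel : (((upperPSeries p (G ⧸ (upperPSeries p G 2).1) j).1).comap
        (QuotientGroup.mk' (upperPSeries p G 2).1)).relIndex
        (((upperPSeries p (G ⧸ (upperPSeries p G 2).1) (j + 1)).1).comap
        (QuotientGroup.mk' (upperPSeries p G 2).1)) =
        ((upperPSeries p (G ⧸ (upperPSeries p G 2).1) j).1).relIndex
          ((upperPSeries p (G ⧸ (upperPSeries p G 2).1) (j + 1)).1) := by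
      rw [Subgroup.relIndex_comap, Subgroup.map_comap_eq_self_of_surjective hsurj]
    by_cases hj : Even j
    · have hj2 : Even (j + 2) := by
        obtain ⟨k, hk⟩ := hj; exact ⟨k + 1, by omega⟩
      have hcop : ((((upperPSeries p (G ⧸ (upperPSeries p G 2).1) j).1).comap
        (QuotientGroup.mk' (upperPSeries p G 2).1)).relIndex
        (((upperPSeries p (G ⧸ (upperPSeries p G 2).1) (j + 1)).1).comap
        (QuotientGroup.mk' (upperPSeries p G 2).1))).Coprime p := by
        rw [hrel, helper23.upperPSeries_succ_of_even p j hj, relIndex_comap_mk']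
        exact helper1.pPrimeCore_coprime p
      have := le_upperPSeries_succ_of_even p (j + 2) hj2 _ _ ih hcop
      exact this
    · have hj2 : ¬ Even (j + 2) := by
        intro h; apply hj
        obtain ⟨k, hk⟩ := h; exact ⟨k - 1, by omega⟩
      obtain ⟨m, hm⟩ := (IsPGroup.iff_card (p := p)).mp
        (helper1.pCore_isPGroup (G := (G ⧸ (upperPSeries p G 2).1) ⧸
          (upperPSeries p (G ⧸ (upperPSeries p G 2).1) j).1) p)
      have hpow : (((upperPSeries p (G ⧸ (upperPSeries p G 2).1) j).1).comap
        (QuotientGroup.mk' (upperPSeries p G 2).1)).relIndex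
        (((upperPSeries p (G ⧸ (upperPSeries p G 2).1) (j + 1)).1).comap
        (QuotientGroup.mk' (upperPSeries p G 2).1)) = p ^ m := by
        rw [hrel, helper23.upperPSeries_succ_of_not_even p j hj, relIndex_comap_mk', hm]
      have := le_upperPSeries_succ_of_odd p (j + 2) hj2 _ _ ih m hpow
      exact this

end

end Cfsg.Agent.lead
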