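import Cfsg.Statements.S5035
import Cfsg.Agent.Lib_helper25_RootSub

set_option autoImplicit false
open Cfsg

namespace Cfsg.Agent.S5035

open Cfsg.Agent.helper25

theorem lead_map_conjBy {G H : Type*} [Group G] [Group H] (f : G →* H) (A : Subgroup G) (g : G) :
    (Cfsg.conjBy A g).map f = Cfsg.conjBy (A.map f) (f g) := by
  ext y
  rw [mem_conjBy_iff]
  constructor
  · rintro ⟨x, hx, rfl⟩
    rw [SetLike.mem_coe, mem_conjBy_iff] at hx
    exact ⟨g⁻¹ * x * g, hx, by simp⟩
  · rintro ⟨a, ha, hay⟩
    refine ⟨g * a * g⁻¹, conj_mem_conjBy A g ha, ?_⟩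
    rw [map_mul, map_mul, map_inv, hay]
    group

theorem lead_cond_map {G H : Type*} [Group G] [Group H] (f : G →* H) {A B : Subgroup G}
    (h : Cfsg.RankOneCondition A B) (hne : A.map f ≠ B.map f) :
    Cfsg.RankOneCondition (A.map f) (B.map f) := by
  rintro _ ⟨a, ha, rfl⟩ ha1
  have ha1' : a ≠ 1 := by
    rintro rfl
    exact ha1 (map_one f)
  obtain ⟨b, hb, hb1, hab⟩ := h a ha ha1'
  have hmap : Cfsg.conjBy (A.map f) (f b)⁻¹ = Cfsg.conjBy (B.map f) (f a)⁻¹ := by
    rw [← map_inv, ← map_inv, ← lead_map_conjBy, ← lead_map_conjBy, hab]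
  refine ⟨f b, ⟨b, hb, rfl⟩, ?_, hmap⟩
  intro hfb
  rw [hfb, inv_one, conjBy_one] at hmap
  have h1 : Cfsg.conjBy (A.map f) (f a) = B.map f := (conjBy_eq_iff (A.map f) (B.map f) (f a)).mpr hmap
  rw [conjBy_of_mem (A.map f) ⟨a, ha, rfl⟩] at h1
  exact hne h1

theorem lead_rankOne_map {G H : Type*} [Group G] [Group H] (f : G →* H) {A B : Subgroup G}
    (h : Cfsg.IsRankOnePair A B) (hne : A.map f ≠ B.map f) :
    Cfsg.IsRankOnePair (A.map f) (B.map f) := by
  refine ⟨hne, ?_, ?_, lead_cond_map f h.cond_left hne, lead_cond_map f h.cond_right hne.symm⟩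
  · have := h.nilpotent_left
    exact Group.nilpotent_of_surjective (f.subgroupMap A) (f.subgroupMap_surjective A)
  · have := h.nilpotent_right
    exact Group.nilpotent_of_surjective (f.subgroupMap B) (f.subgroupMap_surjective B)

theorem lead_comm_self {H : Type*} [Group H] (A : Subgroup H) [IsMulCommutative A] : ⁅A, A⁆ = ⊥ := by
  rw [Subgroup.commutator_eq_bot_iff_le_centralizer]
  intro x hx
  rw [Subgroup.mem_centralizer_iff]
  intro y hy
  exact setLike_mul_comm hy hx

theorem lead_commCase_map {G H : Type*} [Group G] [Group H] (f : G →* H) {S : Set (Subgroup G)}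
    {A B : Subgroup G} (hc : Cfsg.RootCommutatorCase S A B) :
    Cfsg.RootCommutatorCase ((fun A : Subgroup G => A.map f) '' S) (A.map f) (B.map f) := by
  obtain ⟨h1, h2, h3, h4⟩ := hc
  have hcm : (⁅A, B⁆).map f = ⁅A.map f, B.map f⁆ := Subgroup.map_commutator A B f
  refine ⟨⟨⁅A, B⁆, h1, hcm⟩, ?_, ?_, ?_⟩
  · rw [← hcm, ← Subgroup.map_sup]
    rintro _ ⟨c, hc, rfl⟩ _ ⟨x, hx, rfl⟩
    rw [← map_mul, ← map_mul, h2 c hc x hx]
  · rintro _ ⟨a, ha, rfl⟩ ha1
    have ha1' : a ≠ 1 := by
      rintro rfl
      exact ha1 (map_one f)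
    rw [← hcm, ← h3 a ha ha1', MonoidHom.map_closure, Subgroup.coe_map, Set.image_image, Set.image_image]
    congr 1
    apply Set.image_congr
    intro b _
    simp
  · rintro _ ⟨b, hb, rfl⟩ hb1
    have hb1' : b ≠ 1 := by
      rintro rfl
      exact hb1 (map_one f)
    rw [← hcm, ← h4 b hb hb1', MonoidHom.map_closure, Subgroup.coe_map, Set.image_image, Set.image_image]
    congr 1
    apply Set.image_congr
    intro a _
    simp

theorem lead_ker_step {G H : Type*} [Group G] [Group H] (f : G →* H) {A B : Subgroup G}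
    (h : Cfsg.IsRankOnePair A B) (hA : A ≤ f.ker) : B ≤ f.ker := by
  obtain ⟨a, ha, ha1⟩ := rankOne_exists_left h
  obtain ⟨b, hb, hb1, hab⟩ := h.cond_left a ha ha1
  intro y hy
  have h1 : a⁻¹ * y * a⁻¹⁻¹ ∈ Cfsg.conjBy B a⁻¹ := conj_mem_conjBy B a⁻¹ hy
  rw [← hab, mem_conjBy_iff] at h1
  have h2 := hA h1
  rw [MonoidHom.mem_ker] at h2 ⊢
  have h3 : f a = 1 := MonoidHom.mem_ker.mp (hA ha)
  simp only [map_mul, map_inv, inv_inv, h3, inv_one, one_mul, mul_one] at h2
  have h4 : f y = (f b)⁻¹ * (f b * f y * (f b)⁻¹) * f b := by group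
  rw [h4, h2, mul_one, inv_mul_cancel]


/-- Let S be a set of abstract root subgroups of G whose graph of rank one pairs is connected, and f a homomorphism from G onto a group H. Then either the images of the members of S form a set of abstract root subgroups of H whose graph of rank one pairs is again connected, or H equals the image of a member of S. -/
theorem result {G H : Type*} [Group G] [Group H] {S : Set (Subgroup G)} (hS : Cfsg.IsRootSubgroupSet S)
    (hc : Cfsg.IsConnectedFamily (Cfsg.FAdj S) S) (f : G →* H) (hf : Function.Surjective f) :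
    (Cfsg.IsRootSubgroupSet ((fun A : Subgroup G => A.map f) '' S) ∧
      Cfsg.IsConnectedFamily (Cfsg.FAdj ((fun A : Subgroup G => A.map f) '' S)) ((fun A : Subgroup G => A.map f) '' S)) ∨
    ∃ A ∈ S, A.map f = ⊤ := by
  classical
  by_cases hbot : ∃ A ∈ S, A.map f = ⊥
  · right
    obtain ⟨A, hA, hAbot⟩ := hbot
    refine ⟨A, hA, ?_⟩
    have hAK : A ≤ f.ker := (Subgroup.map_eq_bot_iff A).mp hAbot
    have hall0 : ∀ C, Relation.ReflTransGen (Cfsg.FAdj S) A C → C ≤ f.ker := by
      intro C hpath
      induction hpath with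
      | refl => exact hAK
      | tail _ hbc ih => exact lead_ker_step f hbc.2.2 ih
    have hall : ∀ C ∈ S, C ≤ f.ker := fun C hC => hall0 C (hc A hA C hC)
    have htop : (⊤ : Subgroup G) ≤ f.ker := by
      rw [← hS.generates]
      exact iSup₂_le hall
    rw [eq_top_iff]
    intro h _
    obtain ⟨g, rfl⟩ := hf h
    have : f g = 1 := MonoidHom.mem_ker.mp (htop (Subgroup.mem_top g))
    rw [this]
    exact Subgroup.one_mem _
  · left
    simp only [not_exists, not_and] at hbot
    have hstep : ∀ A ∈ S, ∀ B ∈ S, Cfsg.IsRankOnePair A B →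
        A.map f = B.map f ∨ Cfsg.IsRankOnePair (A.map f) (B.map f) := by
      intro A _ B _ h
      by_cases hne : A.map f = B.map f
      · exact Or.inl hne
      · exact Or.inr (lead_rankOne_map f h hne)
    constructor
    · refine ⟨?_, ?_, ?_, ?_, ?_⟩
      · rintro _ ⟨A, hA, rfl⟩
        have := hS.commutative A hA
        exact Subgroup.map_isMulCommutative A f
      · rintro _ ⟨A, hA, rfl⟩
        exact hbot A hA
      · rw [eq_top_iff, ← Subgroup.map_top_of_surjective f hf, ← hS.generates, Subgroup.map_iSup]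
        refine iSup_le fun A => ?_
        rw [Subgroup.map_iSup]
        refine iSup_le fun hA => ?_
        exact le_iSup₂_of_le (A.map f) ⟨A, hA, rfl⟩ le_rfl
      · rintro _ ⟨A, hA, rfl⟩ h
        obtain ⟨g, rfl⟩ := hf h
        exact ⟨Cfsg.conjBy A g, hS.conj_mem A hA g, lead_map_conjBy f A g⟩
      · rintro _ ⟨A, hA, rfl⟩ _ ⟨B, hB, rfl⟩
        rcases hS.pair A hA B hB with h | h | h
        · left
          show ⁅A.map f, B.map f⁆ = ⊥
          rw [← Subgroup.map_commutator, h, Subgroup.map_bot]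
        · rcases hstep A hA B hB h with he | hr
          · left
            show ⁅A.map f, B.map f⁆ = ⊥
            rw [← he]
            have := hS.commutative A hA
            have := Subgroup.map_isMulCommutative A f
            exact lead_comm_self (A.map f)
          · right; left; exact hr
        · right; right; exact lead_commCase_map f h
    · have key : ∀ A B, Relation.ReflTransGen (Cfsg.FAdj S) A B →
          Relation.ReflTransGen (Cfsg.FAdj ((fun A : Subgroup G => A.map f) '' S)) (A.map f) (B.map f) := by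
        intro A B hpath
        induction hpath with
        | refl => exact Relation.ReflTransGen.refl
        | @tail C D _ hbc ih =>
          rcases hstep C hbc.1 D hbc.2.1 hbc.2.2 with he | hr
          · rw [← he]
            exact ih
          · exact Relation.ReflTransGen.tail ih ⟨⟨C, hbc.1, rfl⟩, ⟨D, hbc.2.1, rfl⟩, hr⟩
      rintro _ ⟨A, hA, rfl⟩ _ ⟨B, hB, rfl⟩
      exact key A B (hc A hA B hB)

end Cfsg.Agent.S5035
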