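import Cfsg.Agent.Lib_helper25_RootSub
import Cfsg.Agent.S5035

set_option autoImplicit false

namespace Cfsg.Agent.lead

open Cfsg Cfsg.Agent.helper25
open scoped commutatorElement

variable {G : Type*} [Group G]

theorem rs_mem_normalizer_of_commute (K : Subgroup G) (g : G) (h : ∀ k ∈ K, g * k = k * g) :
    g ∈ Subgroup.normalizer (K : Set G) := by
  rw [Subgroup.mem_normalizer_iff]
  intro x
  constructor
  · intro hx
    rw [h x hx, mul_inv_cancel_right]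
    exact hx
  · intro hx
    have h1 := h _ hx
    have h2 : x = g * x * g⁻¹ := by
      calc x = g⁻¹ * ((g * x * g⁻¹) * g) := by group
        _ = g⁻¹ * (g * (g * x * g⁻¹)) := by rw [h1]
        _ = g * x * g⁻¹ := by group
    rw [h2]
    exact hx

theorem rs_conjBy_of_commute (D : Subgroup G) (c : G) (h : ∀ d ∈ D, d * c = c * d) :
    conjBy D c = D :=
  (conjBy_eq_self_iff D c).mpr (rs_mem_normalizer_of_commute D c (fun d hd => (h d hd).symm))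

theorem rs_sup_mem {A C : Subgroup G} (hcomm : ∀ a ∈ A, ∀ c ∈ C, a * c = c * a) {x : G}
    (hx : x ∈ A ⊔ C) : ∃ a ∈ A, ∃ c ∈ C, x = a * c := by
  have hle : A ≤ Subgroup.normalizer (C : Set G) := fun a ha =>
    rs_mem_normalizer_of_commute C a (fun c hc => hcomm a ha c hc)
  have hx' : x ∈ ((A ⊔ C : Subgroup G) : Set G) := hx
  rw [Subgroup.coe_mul_of_left_le_normalizer_right A C hle] at hx'
  obtain ⟨a, ha, c, hc, rfl⟩ := Set.mem_mul.mp hx'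
  exact ⟨a, ha, c, hc, rfl⟩

theorem rs_rankOne_conj {A D : Subgroup G} (h : IsRankOnePair A D) (g : G) :
    IsRankOnePair (conjBy A g) (conjBy D g) :=
  Cfsg.Agent.S5035.lead_rankOne_map (MulAut.conj g).toMonoidHom h
    (fun he => h.ne (conjBy_inj A D g he))

/-- T1: a member with a rank one partner meets every other member trivially. -/
theorem rs_TI {S : Set (Subgroup G)} (hS : IsRootSubgroupSet S) {A D E : Subgroup G}
    (hD : D ∈ S) (h : IsRankOnePair A D) (hE : E ∈ S) {x : G} (hxA : x ∈ A) (hxE : x ∈ E)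
    (hx1 : x ≠ 1) : E = A := by
  rcases hS.pair E hE D hD with hc | hr | hcc
  · exact absurd (rankOne_normalizer_left h hxA (le_normalizer_of_commutator_eq_bot hc hxE)) hx1
  · obtain ⟨d₁, hd₁, _, h1⟩ := hr.cond_left x hxE hx1
    obtain ⟨d₂, hd₂, _, h2⟩ := h.cond_left x hxA hx1
    have h3 : conjBy E d₁⁻¹ = conjBy A d₂⁻¹ := h1.trans h2.symm
    have h4 : E = conjBy A (d₁ * d₂⁻¹) := by
      have := (conjBy_eq_iff E _ d₁⁻¹).mp h3
      rw [inv_inv, conjBy_conjBy] at this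
      exact this
    by_contra hne
    have hΩ : E ∈ unipotentSubgroups A D :=
      ⟨d₁ * d₂⁻¹, Subgroup.mem_sup_right (D.mul_mem hd₁ (D.inv_mem hd₂)), h4⟩
    exact hx1 (rankOne_regular h hΩ hne hxA (conjBy_of_mem E hxE))
  · exfalso
    obtain ⟨_, hcen, _, _⟩ := hcc
    apply rankOne_commutators_not_central h (hS.commutative D hD) hxA hx1
    intro b hb b' hb'
    have hm : x * b * x⁻¹ * b⁻¹ ∈ ⁅E, D⁆ := by
      rw [← commutatorElement_def]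
      exact Subgroup.commutator_mem_commutator hxE hb
    exact hcen _ hm b' (Subgroup.mem_sup_right hb')

/-- T2. -/
theorem rs_T2 {S : Set (Subgroup G)} (hS : IsRootSubgroupSet S) {A D A₁ : Subgroup G}
    (C : Subgroup G) (hA : A ∈ S) (hD : D ∈ S) (h : IsRankOnePair A D) (hA₁ : A₁ ∈ S)
    (hCA : ∀ a ∈ A, ∀ c ∈ C, a * c = c * a) (hCD : ∀ d ∈ D, ∀ c ∈ C, d * c = c * d)
    (hle : ∀ y ∈ A₁, ∃ a ∈ A, ∃ c ∈ C, y = a * c) : A₁ = A ∨ A₁ ≤ C := by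
  by_cases hAC : A₁ ≤ C
  · exact Or.inr hAC
  left
  obtain ⟨y, hy, hyC⟩ := SetLike.not_le_iff_exists.mp hAC
  obtain ⟨a, ha, c, hc, hyac⟩ := hle y hy
  have ha1 : a ≠ 1 := by
    rintro rfl
    rw [one_mul] at hyac
    exact hyC (hyac ▸ hc)
  have hy1 : y ≠ 1 := by
    rintro rfl
    exact hyC C.one_mem
  have hkey : ∀ d ∈ D, y * d * y⁻¹ * d⁻¹ = a * d * a⁻¹ * d⁻¹ := by
    intro d hd
    have hcd := hCD d hd c hc
    rw [hyac]
    calc a * c * d * (a * c)⁻¹ * d⁻¹ = a * (c * d) * c⁻¹ * a⁻¹ * d⁻¹ := by group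
      _ = a * (d * c) * c⁻¹ * a⁻¹ * d⁻¹ := by rw [hcd]
      _ = a * d * a⁻¹ * d⁻¹ := by group
  have hcomm_fail : (∀ b ∈ D, ∀ b' ∈ D, (y * b * y⁻¹ * b⁻¹) * b' = b' * (y * b * y⁻¹ * b⁻¹)) →
      False := by
    intro hc'
    apply rankOne_commutators_not_central h (hS.commutative D hD) ha ha1
    intro b hb b' hb'
    rw [← hkey b hb]
    exact hc' b hb b' hb'
  rcases hS.pair A₁ hA₁ D hD with hc' | hr | hcc
  · exfalso
    apply hcomm_fail
    intro b hb b' _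
    have := commute_of_commutator_eq_bot hc' hy hb
    have e : y * b * y⁻¹ * b⁻¹ = 1 := by
      rw [this]; group
    rw [e, one_mul, mul_one]
  · obtain ⟨d₁, hd₁, _, h1⟩ := hr.cond_left y hy hy1
    obtain ⟨d₂, hd₂, _, h2⟩ := h.cond_left a ha ha1
    have hyinv : conjBy D y⁻¹ = conjBy D a⁻¹ := by
      have e : y⁻¹ = a⁻¹ * c⁻¹ := by
        rw [hyac, hCA a ha c hc]; group
      rw [e, ← conjBy_conjBy]
      rw [rs_conjBy_of_commute D c⁻¹ (fun d hd => hCD d hd c⁻¹ (C.inv_mem hc))]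
    have h3 : conjBy A₁ d₁⁻¹ = conjBy A d₂⁻¹ := (h1.trans hyinv).trans h2.symm
    have h4 : A₁ = conjBy A (d₁ * d₂⁻¹) := by
      have := (conjBy_eq_iff A₁ _ d₁⁻¹).mp h3
      rw [inv_inv, conjBy_conjBy] at this
      exact this
    by_contra hne
    have hΩ : A₁ ∈ unipotentSubgroups A D :=
      ⟨d₁ * d₂⁻¹, Subgroup.mem_sup_right (D.mul_mem hd₁ (D.inv_mem hd₂)), h4⟩
    apply rankOne_not_normalizes h hΩ hne
    intro a' ha'
    apply rs_mem_normalizer_of_commute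
    intro y' hy'
    obtain ⟨a'', ha'', c'', hc'', rfl⟩ := hle y' hy'
    have := hS.commutative A hA
    have e1 : a' * a'' = a'' * a' := setLike_mul_comm ha' ha''
    calc a' * (a'' * c'') = (a' * a'') * c'' := by rw [mul_assoc]
      _ = (a'' * a') * c'' := by rw [e1]
      _ = a'' * (a' * c'') := by rw [mul_assoc]
      _ = a'' * (c'' * a') := by rw [hCA a' ha' c'' hc'']
      _ = a'' * c'' * a' := by rw [mul_assoc]
  · exfalso
    apply hcomm_fail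
    obtain ⟨_, hcen, _, _⟩ := hcc
    intro b hb b' hb'
    have hm : y * b * y⁻¹ * b⁻¹ ∈ ⁅A₁, D⁆ := by
      rw [← commutatorElement_def]
      exact Subgroup.commutator_mem_commutator hy hb
    exact hcen _ hm b' (Subgroup.mem_sup_right hb')

theorem rs_left_normalizes_commutator (A B : Subgroup G) :
    A ≤ Subgroup.normalizer ((⁅A, B⁆ : Subgroup G) : Set G) := by
  have hle : ∀ a ∈ A, conjBy ⁅A, B⁆ a ≤ ⁅A, B⁆ := by
    intro a ha
    show (⁅A, B⁆).map (MulAut.conj a).toMonoidHom ≤ ⁅A, B⁆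
    rw [Subgroup.map_commutator, Subgroup.commutator_le]
    rintro _ ⟨a₀, ha₀, rfl⟩ _ ⟨b₀, hb₀, rfl⟩
    show ⁅a * a₀ * a⁻¹, a * b₀ * a⁻¹⁆ ∈ ⁅A, B⁆
    have e : ⁅a * a₀ * a⁻¹, a * b₀ * a⁻¹⁆ = ⁅a * a₀, b₀⁆ * ⁅a, b₀⁆⁻¹ := by
      simp only [commutatorElement_def]; group
    rw [e]
    exact Subgroup.mul_mem _ (Subgroup.commutator_mem_commutator (A.mul_mem ha ha₀) hb₀)
      (Subgroup.inv_mem _ (Subgroup.commutator_mem_commutator ha hb₀))
  intro a ha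
  rw [← conjBy_eq_self_iff]
  apply le_antisymm (hle a ha)
  have h1 := hle a⁻¹ (A.inv_mem ha)
  have h2 : conjBy (conjBy ⁅A, B⁆ a⁻¹) a ≤ conjBy ⁅A, B⁆ a := Subgroup.map_mono h1
  rwa [conjBy_conjBy, mul_inv_cancel, conjBy_one] at h2

/-- T0: for a rank one pair, the commutator is not a member. -/
theorem rs_rankOne_comm_notin {S : Set (Subgroup G)} (hS : IsRootSubgroupSet S) {A B : Subgroup G}
    (hA : A ∈ S) (hB : B ∈ S) (h : IsRankOnePair A B) : ⁅A, B⁆ ∉ S := by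
  intro hC
  have hAN := rs_left_normalizes_commutator A B
  have := hS.commutative A hA
  obtain ⟨a, ha, ha1⟩ := rankOne_exists_left h
  obtain ⟨b, hb, hb1, hab⟩ := h.cond_left a ha ha1
  have hA'Ω : conjBy A b⁻¹ ∈ unipotentSubgroups A B :=
    ⟨b⁻¹, Subgroup.mem_sup_right (B.inv_mem hb), rfl⟩
  have hA'ne : conjBy A b⁻¹ ≠ A := by
    intro he
    have := rankOne_normalizer_right h (B.inv_mem hb) ((conjBy_eq_self_iff A b⁻¹).mp he)
    exact hb1 (inv_eq_one.mp this)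
  have hA'elt : ∀ y ∈ conjBy A b⁻¹, ∃ a' ∈ A, ∃ c ∈ ⁅A, B⁆, y = a' * c := by
    intro y hy
    rw [mem_conjBy_iff] at hy
    refine ⟨_, hy, ⁅(b⁻¹⁻¹ * y * b⁻¹)⁻¹, b⁻¹⁆, ?_, ?_⟩
    · exact Subgroup.commutator_mem_commutator (A.inv_mem hy) (B.inv_mem hb)
    · simp only [commutatorElement_def]; group
  rcases hS.pair A hA _ hC with hc | hr | hcc
  · apply rankOne_not_normalizes h hA'Ω hA'ne
    intro a' ha'
    apply rs_mem_normalizer_of_commute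
    intro y hy
    obtain ⟨a'', ha'', c, hc', rfl⟩ := hA'elt y hy
    have e1 : a' * a'' = a'' * a' := setLike_mul_comm ha' ha''
    have e2 : a' * c = c * a' := commute_of_commutator_eq_bot hc ha' hc'
    calc a' * (a'' * c) = (a' * a'') * c := by rw [mul_assoc]
      _ = (a'' * a') * c := by rw [e1]
      _ = a'' * (a' * c) := by rw [mul_assoc]
      _ = a'' * (c * a') := by rw [e2]
      _ = a'' * c * a' := by rw [mul_assoc]
  · obtain ⟨a₀, ha₀, ha₀1⟩ := rankOne_exists_left hr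
    exact ha₀1 (rankOne_normalizer_left hr ha₀ (hAN ha₀))
  · obtain ⟨hE, hcen, _, _⟩ := hcc
    -- every element of B is a product a₁ * c₂
    have hBelt : ∀ b' ∈ B, ∃ a₁ ∈ A, ∃ c₂ ∈ ⁅A, B⁆, b' = a₁ * c₂ := by
      intro b' hb'
      have h1 : a⁻¹ * b' * a⁻¹⁻¹ ∈ conjBy B a⁻¹ := conj_mem_conjBy B a⁻¹ hb'
      rw [← hab] at h1
      obtain ⟨a₁, ha₁, c₁, hc₁, he⟩ := hA'elt _ h1
      refine ⟨a₁, ha₁, a * c₁ * a⁻¹, ?_, ?_⟩
      · exact (Subgroup.mem_normalizer_iff.mp (hAN ha) c₁).mp hc₁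
      · have e1 : a * a₁ = a₁ * a := setLike_mul_comm ha ha₁
        calc b' = a * (a⁻¹ * b' * a⁻¹⁻¹) * a⁻¹ := by group
          _ = a * (a₁ * c₁) * a⁻¹ := by rw [he]
          _ = (a * a₁) * c₁ * a⁻¹ := by group
          _ = (a₁ * a) * c₁ * a⁻¹ := by rw [e1]
          _ = a₁ * (a * c₁ * a⁻¹) := by group
    have hCE : ⁅A, B⁆ ≤ ⁅A, ⁅A, B⁆⁆ := by
      rw [Subgroup.commutator_le]
      intro a'' ha'' b' hb'
      obtain ⟨a₁, ha₁, c₂, hc₂, rfl⟩ := hBelt b' hb'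
      have hm : ⁅a'', c₂⁆ ∈ ⁅A, ⁅A, B⁆⁆ := Subgroup.commutator_mem_commutator ha'' hc₂
      have e1 : a'' * a₁ = a₁ * a'' := setLike_mul_comm ha'' ha₁
      have e2 := hcen _ hm a₁ (Subgroup.mem_sup_left ha₁)
      have e3 : ⁅a'', a₁ * c₂⁆ = a₁ * ⁅a'', c₂⁆ * a₁⁻¹ := by
        simp only [commutatorElement_def]
        calc a'' * (a₁ * c₂) * a''⁻¹ * (a₁ * c₂)⁻¹ = (a'' * a₁) * c₂ * a''⁻¹ * c₂⁻¹ * a₁⁻¹ := by group
          _ = (a₁ * a'') * c₂ * a''⁻¹ * c₂⁻¹ * a₁⁻¹ := by rw [e1]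
          _ = a₁ * (a'' * c₂ * a''⁻¹ * c₂⁻¹) * a₁⁻¹ := by group
      rw [e3, ← e2, mul_inv_cancel_right]
      exact hm
    have hbot : ⁅A, ⁅A, B⁆⁆ = ⊥ := by
      rw [Subgroup.commutator_eq_bot_iff_le_centralizer]
      intro a' ha'
      rw [Subgroup.mem_centralizer_iff]
      intro c hc
      exact hcen c (hCE hc) a' (Subgroup.mem_sup_left ha')
    exact hS.ne_bot _ hE hbot

section CommCase

variable {S : Set (Subgroup G)} {A B : Subgroup G}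

theorem rs_cc_mem {a b : G} (ha : a ∈ A) (hb : b ∈ B) : a * b * a⁻¹ * b⁻¹ ∈ ⁅A, B⁆ := by
  rw [← commutatorElement_def]
  exact Subgroup.commutator_mem_commutator ha hb

theorem rs_cc_symm (hcc : RootCommutatorCase S A B) : RootCommutatorCase S B A := by
  obtain ⟨h1, h2, h3, h4⟩ := hcc
  have hinv : ∀ (X Y : Subgroup G) (x : G),
      Subgroup.closure ((fun y : G => y * x * y⁻¹ * x⁻¹) '' (Y : Set G)) =
      Subgroup.closure ((fun y : G => x * y * x⁻¹ * y⁻¹) '' (Y : Set G)) := by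
    intro X Y x
    apply le_antisymm
    · rw [Subgroup.closure_le]
      rintro _ ⟨y, hy, rfl⟩
      have : y * x * y⁻¹ * x⁻¹ = (x * y * x⁻¹ * y⁻¹)⁻¹ := by group
      show y * x * y⁻¹ * x⁻¹ ∈ _
      rw [this]
      exact Subgroup.inv_mem _ (Subgroup.subset_closure ⟨y, hy, rfl⟩)
    · rw [Subgroup.closure_le]
      rintro _ ⟨y, hy, rfl⟩
      have : x * y * x⁻¹ * y⁻¹ = (y * x * y⁻¹ * x⁻¹)⁻¹ := by group
      show x * y * x⁻¹ * y⁻¹ ∈ _
      rw [this]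
      exact Subgroup.inv_mem _ (Subgroup.subset_closure ⟨y, hy, rfl⟩)
  refine ⟨?_, ?_, ?_, ?_⟩
  · rw [Subgroup.commutator_comm]; exact h1
  · rw [Subgroup.commutator_comm, sup_comm]; exact h2
  · intro b hb hb1
    rw [Subgroup.commutator_comm, ← h4 b hb hb1]
    exact (hinv B A b).symm
  · intro a ha ha1
    rw [Subgroup.commutator_comm, ← h3 a ha ha1]
    exact hinv A B a

theorem rs_cc_comm_left (hcc : RootCommutatorCase S A B) {c a : G} (hc : c ∈ ⁅A, B⁆) (ha : a ∈ A) :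
    c * a = a * c := hcc.2.1 c hc a (Subgroup.mem_sup_left ha)

theorem rs_cc_comm_right (hcc : RootCommutatorCase S A B) {c b : G} (hc : c ∈ ⁅A, B⁆) (hb : b ∈ B) :
    c * b = b * c := hcc.2.1 c hc b (Subgroup.mem_sup_right hb)

theorem rs_cc_hom (hcc : RootCommutatorCase S A B) {a b₁ b₂ : G} (ha : a ∈ A) (hb₁ : b₁ ∈ B)
    (hb₂ : b₂ ∈ B) :
    a * (b₁ * b₂) * a⁻¹ * (b₁ * b₂)⁻¹ = (a * b₁ * a⁻¹ * b₁⁻¹) * (a * b₂ * a⁻¹ * b₂⁻¹) := by
  have hz := rs_cc_comm_right hcc (rs_cc_mem ha hb₂) (B.inv_mem hb₁)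
  calc a * (b₁ * b₂) * a⁻¹ * (b₁ * b₂)⁻¹
      = a * b₁ * a⁻¹ * ((a * b₂ * a⁻¹ * b₂⁻¹) * b₁⁻¹) := by group
    _ = a * b₁ * a⁻¹ * (b₁⁻¹ * (a * b₂ * a⁻¹ * b₂⁻¹)) := by rw [hz]
    _ = (a * b₁ * a⁻¹ * b₁⁻¹) * (a * b₂ * a⁻¹ * b₂⁻¹) := by group

theorem rs_cc_surj (hcc : RootCommutatorCase S A B) {a : G} (ha : a ∈ A) (ha1 : a ≠ 1) {c : G}
    (hc : c ∈ ⁅A, B⁆) : ∃ b ∈ B, a * b * a⁻¹ * b⁻¹ = c := by
  let K : Subgroup G :=
    { carrier := {c | ∃ b ∈ B, a * b * a⁻¹ * b⁻¹ = c}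
      one_mem' := ⟨1, B.one_mem, by group⟩
      mul_mem' := by
        rintro _ _ ⟨b₁, hb₁, rfl⟩ ⟨b₂, hb₂, rfl⟩
        exact ⟨b₁ * b₂, B.mul_mem hb₁ hb₂, rs_cc_hom hcc ha hb₁ hb₂⟩
      inv_mem' := by
        rintro _ ⟨b, hb, rfl⟩
        refine ⟨b⁻¹, B.inv_mem hb, ?_⟩
        have h1 := rs_cc_hom hcc ha hb (B.inv_mem hb)
        rw [mul_inv_cancel] at h1
        have h2 : (1 : G) = (a * b * a⁻¹ * b⁻¹) * (a * b⁻¹ * a⁻¹ * b⁻¹⁻¹) := by
          rw [← h1]; group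
        exact (eq_inv_of_mul_eq_one_right h2.symm) }
  have hle : ⁅A, B⁆ ≤ K := by
    rw [← hcc.2.2.1 a ha ha1, Subgroup.closure_le]
    rintro _ ⟨b, hb, rfl⟩
    exact ⟨b, hb, rfl⟩
  exact hle hc

end CommCase

section Main

variable {S : Set (Subgroup G)} {A B D : Subgroup G}

theorem rs_cc_disj (hS : IsRootSubgroupSet S) (hD : D ∈ S)
    (h : IsRankOnePair A D) (hcc : RootCommutatorCase S A B) {x : G} (hxA : x ∈ A)
    (hxC : x ∈ ⁅A, B⁆) : x = 1 := by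
  by_contra hx1
  have hCA : ⁅A, B⁆ = A := rs_TI hS hD h hcc.1 hxA hxC hx1
  have hbot : ⁅A, B⁆ = ⊥ := by
    rw [Subgroup.commutator_eq_bot_iff_le_centralizer]
    intro a ha
    rw [Subgroup.mem_centralizer_iff]
    intro b hb
    have haC : a ∈ ⁅A, B⁆ := by rw [hCA]; exact ha
    exact (rs_cc_comm_right hcc haC hb).symm
  exact hS.ne_bot _ hcc.1 hbot

theorem rs_cc_norm (hS : IsRootSubgroupSet S) (hD : D ∈ S)
    (h : IsRankOnePair A D) (hcc : RootCommutatorCase S A B) {b : G} (hb : b ∈ B)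
    (hn : b ∈ Subgroup.normalizer (A : Set G)) : b = 1 := by
  by_contra hb1
  have hle : ⁅A, B⁆ ≤ A := by
    rw [← hcc.2.2.2 b hb hb1, Subgroup.closure_le]
    rintro _ ⟨a, ha, rfl⟩
    have h1 : b * a⁻¹ * b⁻¹ ∈ A := (Subgroup.mem_normalizer_iff.mp hn a⁻¹).mp (A.inv_mem ha)
    have e : a * b * a⁻¹ * b⁻¹ = a * (b * a⁻¹ * b⁻¹) := by group
    show a * b * a⁻¹ * b⁻¹ ∈ A
    rw [e]
    exact A.mul_mem ha h1
  obtain ⟨c, hc⟩ := (Subgroup.ne_bot_iff_exists_ne_one).mp (hS.ne_bot _ hcc.1)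
  exact hc (Subtype.ext (rs_cc_disj hS hD h hcc (hle c.2) c.2))

theorem rs_cc_inj (hS : IsRootSubgroupSet S) (hA : A ∈ S) (hD : D ∈ S)
    (h : IsRankOnePair A D) (hcc : RootCommutatorCase S A B) {a b : G} (ha : a ∈ A) (ha1 : a ≠ 1)
    (hb : b ∈ B) (hab : a * b = b * a) : b = 1 := by
  have h1 : a ∈ conjBy A b := by
    have e : a = b * a * b⁻¹ := by rw [← hab]; group
    rw [e]
    exact conj_mem_conjBy A b ha
  have h2 : conjBy A b = A := rs_TI hS hD h (hS.conj_mem A hA b) ha h1 ha1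
  exact rs_cc_norm hS hD h hcc hb ((conjBy_eq_self_iff A b).mp h2)

theorem rs_conj_elt (hcc : RootCommutatorCase S A B) {b : G} (hb : b ∈ B) {y : G}
    (hy : y ∈ conjBy A b) : ∃ a ∈ A, ∃ c ∈ ⁅A, B⁆, y = a * c := by
  rw [mem_conjBy_iff] at hy
  refine ⟨_, hy, (b⁻¹ * y * b)⁻¹ * b * (b⁻¹ * y * b)⁻¹⁻¹ * b⁻¹, rs_cc_mem (A.inv_mem hy) hb, ?_⟩
  group

theorem rs_exists_conj (hcc : RootCommutatorCase S A B) {a c : G} (ha : a ∈ A) (ha1 : a ≠ 1)
    (hc : c ∈ ⁅A, B⁆) : ∃ b ∈ B, a * c ∈ conjBy A b := by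
  have ha1' : a⁻¹ ≠ 1 := fun h => ha1 (inv_eq_one.mp h)
  obtain ⟨b, hb, hbc⟩ := rs_cc_surj hcc (A.inv_mem ha) ha1' hc
  refine ⟨b, hb, ?_⟩
  have e : a * c = b * a * b⁻¹ := by
    rw [← hbc]; group
  rw [e]
  exact conj_mem_conjBy A b ha

theorem rs_comm_of_conj_eq {d c e : G} (h : d * e * d⁻¹ * e⁻¹ = d * c * d⁻¹ * c⁻¹) :
    d * (c⁻¹ * e) = (c⁻¹ * e) * d := by
  have h1 : e * d⁻¹ * e⁻¹ = c * d⁻¹ * c⁻¹ := by
    have := congrArg (fun t => d⁻¹ * t) h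
    simpa [mul_assoc] using this
  have h2 : e * d * e⁻¹ = c * d * c⁻¹ := by
    have := congrArg Inv.inv h1
    simpa [mul_assoc] using this
  symm
  calc (c⁻¹ * e) * d = c⁻¹ * (e * d * e⁻¹) * e := by group
    _ = c⁻¹ * (c * d * c⁻¹) * e := by rw [h2]
    _ = d * (c⁻¹ * e) := by group

/-- a member inside `⁅A, B⁆` equals `⁅A, B⁆`. -/
theorem rs_sub_eq (hS : IsRootSubgroupSet S) (hA : A ∈ S) (hB : B ∈ S) (hD : D ∈ S)
    (h : IsRankOnePair A D) (hcc : RootCommutatorCase S A B) {E : Subgroup G} (hE : E ∈ S)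
    (hEC : E ≤ ⁅A, B⁆) : E = ⁅A, B⁆ := by
  have hC := hcc.1
  obtain ⟨e, he⟩ := (Subgroup.ne_bot_iff_exists_ne_one).mp (hS.ne_bot E hE)
  have he1 : (e : G) ≠ 1 := fun h1 => he (Subtype.ext h1)
  rcases hS.pair _ hC D hD with hc | hr | hcc2
  · exfalso
    obtain ⟨b, hb⟩ := (Subgroup.ne_bot_iff_exists_ne_one).mp (hS.ne_bot B hB)
    have hb1 : (b : G) ≠ 1 := fun h1 => hb (Subtype.ext h1)
    have hT2 := rs_T2 hS ⁅A, B⁆ hA hD h (hS.conj_mem A hA b)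
      (fun a ha c hc' => (rs_cc_comm_left hcc hc' ha).symm)
      (fun d hd c hc' => (commute_of_commutator_eq_bot hc hc' hd).symm)
      (fun y hy => rs_conj_elt hcc b.2 hy)
    rcases hT2 with h1 | h1
    · exact hb1 (rs_cc_norm hS hD h hcc b.2 ((conjBy_eq_self_iff A b).mp h1))
    · obtain ⟨a, ha, ha1⟩ := rankOne_exists_left h
      have h2 : (b : G) * a * (b : G)⁻¹ ∈ ⁅A, B⁆ := h1 (conj_mem_conjBy A b ha)
      have h3 := rs_cc_comm_right hcc h2 b.2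
      have h4 : a = (b : G) * a * (b : G)⁻¹ := by
        calc a = (b : G)⁻¹ * ((b : G) * a * (b : G)⁻¹ * b) := by group
          _ = (b : G)⁻¹ * (b * ((b : G) * a * (b : G)⁻¹)) := by rw [h3]
          _ = (b : G) * a * (b : G)⁻¹ := by group
      exact ha1 (rs_cc_disj hS hD h hcc ha (h4 ▸ h2))
  · exact rs_TI hS hD hr hE (hEC e.2) e.2 he1
  · rcases hS.pair E hE D hD with hc3 | hr3 | hcc3
    · exfalso
      have hbot : ⁅⁅A, B⁆, D⁆ = ⊥ := by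
        rw [← hcc2.2.2.1 e (hEC e.2) he1, Subgroup.closure_eq_bot_iff]
        rintro _ ⟨d, hd, rfl⟩
        have := commute_of_commutator_eq_bot hc3 e.2 hd
        show (e : G) * d * (e : G)⁻¹ * d⁻¹ = 1
        rw [this]; group
      exact hS.ne_bot _ hcc2.1 hbot
    · exact (rs_TI hS hD hr3 hC e.2 (hEC e.2) he1).symm
    · have hMN : ⁅E, D⁆ = ⁅⁅A, B⁆, D⁆ := by
        rw [← hcc2.2.2.1 e (hEC e.2) he1, ← hcc3.2.2.1 e e.2 he1]
      apply le_antisymm hEC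
      intro c hc
      obtain ⟨d, hd⟩ := (Subgroup.ne_bot_iff_exists_ne_one).mp (hS.ne_bot D hD)
      have hd1 : (d : G) ≠ 1 := fun h1 => hd (Subtype.ext h1)
      have hcc2' := rs_cc_symm hcc2
      have hcc3' := rs_cc_symm hcc3
      have hm : (d : G) * c * (d : G)⁻¹ * c⁻¹ ∈ ⁅D, E⁆ := by
        rw [Subgroup.commutator_comm, hMN, Subgroup.commutator_comm]
        exact rs_cc_mem d.2 hc
      obtain ⟨e', he', hee⟩ := rs_cc_surj hcc3' d.2 hd1 hm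
      have hcomm := rs_comm_of_conj_eq hee
      have hw : c⁻¹ * e' ∈ ⁅A, B⁆ := Subgroup.mul_mem _ (Subgroup.inv_mem _ hc) (hEC he')
      have := rs_cc_inj hS hD hA (RankOnePair_symm h) hcc2' d.2 hd1 hw hcomm
      have hce : c = e' := by
        calc c = c * (c⁻¹ * e') := by rw [this, mul_one]
          _ = e' := by group
      rw [hce]; exact he'

end Main

end Cfsg.Agent.lead
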