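import Cfsg.Agent.Lib_lead_RootSub9

set_option autoImplicit false

namespace Cfsg.Agent.lead

open Cfsg Cfsg.Agent.helper25
open scoped commutatorElement

variable {G : Type*} [Group G]

/-- A rank one pair `(A, B)` acting on `C ⊔ ⁅C, B⁆` with `⁅A, ⁅C, B⁆⁆ = C` is special. -/
theorem rs_special {S : Set (Subgroup G)} (hS : IsRootSubgroupSet S) {A B C : Subgroup G}
    (hA : A ∈ S) (hB : B ∈ S) (hC : C ∈ S) (hAB : IsRankOnePair A B)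
    (hACc : ∀ a ∈ A, ∀ c ∈ C, a * c = c * a) (hcc : RootCommutatorCase S C B)
    (hccAK : RootCommutatorCase S A ⁅C, B⁆) (hPC : ⁅A, ⁅C, B⁆⁆ = C) :
    ∀ a ∈ A, a ≠ 1 → ∀ b ∈ B, b ≠ 1 → conjBy A b⁻¹ = conjBy B a⁻¹ →
      b⁻¹ * a * b = a⁻¹ * b⁻¹ * a := by
  have k36 : RS36 S C B ⁅C, B⁆ A :=
    ⟨hS, hC, hB, hcc.1, hA, hcc, rfl, rs_cc_symm hccAK, by rw [Subgroup.commutator_comm]; exact hPC⟩
  intro a ha ha1 b hb _ hrel
  have hx : b⁻¹ * a * b ∈ conjBy B a⁻¹ := by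
    rw [← hrel]
    have h1 := conj_mem_conjBy A b⁻¹ ha
    rwa [inv_inv] at h1
  rw [mem_conjBy_iff, inv_inv] at hx
  obtain ⟨b', hb'⟩ : ∃ b', b' = a * (b⁻¹ * a * b) * a⁻¹ := ⟨_, rfl⟩
  rw [← hb'] at hx
  have hxe : b⁻¹ * a * b = a⁻¹ * b' * a := by
    rw [hb']
    group
  suffices h : b' * b = 1 by
    have h1 : b' = b⁻¹ := eq_inv_of_mul_eq_one_left h
    rw [hxe, h1]
  have hcomC : ∀ c ∈ C, (b' * b) * c = c * (b' * b) := by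
    intro c hc
    obtain ⟨κ, hκd⟩ : ∃ κ, κ = b * c * b⁻¹ * c⁻¹ := ⟨_, rfl⟩
    obtain ⟨κ', hκ'd⟩ : ∃ κ', κ' = b' * c * b'⁻¹ * c⁻¹ := ⟨_, rfl⟩
    have hκ : κ ∈ ⁅C, B⁆ := by
      have h1 := Subgroup.inv_mem _ (rs_cc_mem (A := C) (B := B) hc hb)
      have e : (c * b * c⁻¹ * b⁻¹)⁻¹ = b * c * b⁻¹ * c⁻¹ := by group
      rw [e] at h1
      rw [hκd]
      exact h1
    have hκ' : κ' ∈ ⁅C, B⁆ := by
      have h1 := Subgroup.inv_mem _ (rs_cc_mem (A := C) (B := B) hc hx)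
      have e : (c * b' * c⁻¹ * b'⁻¹)⁻¹ = b' * c * b'⁻¹ * c⁻¹ := by group
      rw [e] at h1
      rw [hκ'd]
      exact h1
    obtain ⟨c₁, hc₁d⟩ : ∃ c₁, c₁ = a * κ * a⁻¹ * κ⁻¹ := ⟨_, rfl⟩
    obtain ⟨c₂, hc₂d⟩ : ∃ c₂, c₂ = a⁻¹ * κ' * a * κ'⁻¹ := ⟨_, rfl⟩
    have hc₁ : c₁ ∈ C := by
      have h := rs_cc_mem (A := A) (B := ⁅C, B⁆) ha hκ
      rw [hPC] at h
      rw [hc₁d]
      exact h
    have hc₂ : c₂ ∈ C := by
      have h := rs_cc_mem (A := A) (B := ⁅C, B⁆) (A.inv_mem ha) hκ'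
      rw [hPC, inv_inv] at h
      rw [hc₂d]
      exact h
    obtain ⟨κ₁, hκ₁d⟩ : ∃ κ₁, κ₁ = b⁻¹ * c₁ * b * c₁⁻¹ := ⟨_, rfl⟩
    obtain ⟨κ₂, hκ₂d⟩ : ∃ κ₂, κ₂ = b⁻¹ * c * b * c⁻¹ := ⟨_, rfl⟩
    have hκ₁ : κ₁ ∈ ⁅C, B⁆ := by
      have h1 := Subgroup.inv_mem _ (rs_cc_mem (A := C) (B := B) hc₁ (B.inv_mem hb))
      have e : (c₁ * b⁻¹ * c₁⁻¹ * b⁻¹⁻¹)⁻¹ = b⁻¹ * c₁ * b * c₁⁻¹ := by group
      rw [e] at h1
      rw [hκ₁d]
      exact h1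
    have hκ₂ : κ₂ ∈ ⁅C, B⁆ := by
      have h1 := Subgroup.inv_mem _ (rs_cc_mem (A := C) (B := B) hc (B.inv_mem hb))
      have e : (c * b⁻¹ * c⁻¹ * b⁻¹⁻¹)⁻¹ = b⁻¹ * c * b * c⁻¹ := by group
      rw [e] at h1
      rw [hκ₂d]
      exact h1
    have hac : a * c * a⁻¹ = c := by
      rw [hACc a ha c hc, mul_inv_cancel_right]
    have hac' : a⁻¹ * c * a = c := by
      rw [mul_assoc, ← hACc a ha c hc, inv_mul_cancel_left]
    have hbκ : b⁻¹ * κ * b = κ := by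
      have h1 : κ * b = b * κ := rs_cc_comm_right hcc hκ hb
      rw [mul_assoc, h1, inv_mul_cancel_left]
    have hb'κ : b' * κ * b'⁻¹ = κ := by
      have h1 : κ * b' = b' * κ := rs_cc_comm_right hcc hκ hx
      rw [← h1, mul_inv_cancel_right]
    have i1 : (a⁻¹ * b' * a) * c * (a⁻¹ * b' * a)⁻¹ = c₂ * κ' * c := by
      calc (a⁻¹ * b' * a) * c * (a⁻¹ * b' * a)⁻¹ = a⁻¹ * (b' * (a * c * a⁻¹) * b'⁻¹) * a := by group
        _ = a⁻¹ * (b' * c * b'⁻¹) * a := by rw [hac]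
        _ = (a⁻¹ * (b' * c * b'⁻¹ * c⁻¹) * a * (b' * c * b'⁻¹ * c⁻¹)⁻¹) * (b' * c * b'⁻¹ * c⁻¹) *
              (a⁻¹ * c * a) := by group
        _ = c₂ * κ' * c := by rw [hac', ← hκ'd, ← hc₂d]
    have i2 : (b⁻¹ * a * b) * c * (b⁻¹ * a * b)⁻¹ = κ₁ * c₁ * κ * κ₂ * c := by
      calc (b⁻¹ * a * b) * c * (b⁻¹ * a * b)⁻¹
          = b⁻¹ * (a * (b * c * b⁻¹ * c⁻¹) * a⁻¹ * (b * c * b⁻¹ * c⁻¹)⁻¹ * (b * c * b⁻¹ * c⁻¹) *
              (a * c * a⁻¹)) * b := by group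
        _ = b⁻¹ * (c₁ * κ * c) * b := by rw [hac, ← hκd, ← hc₁d]
        _ = (b⁻¹ * c₁ * b * c₁⁻¹) * c₁ * (b⁻¹ * κ * b) * (b⁻¹ * c * b * c⁻¹) * c := by group
        _ = κ₁ * c₁ * κ * κ₂ * c := by rw [hbκ, ← hκ₁d, ← hκ₂d]
    have E : c₂ * κ' * c = κ₁ * c₁ * κ * κ₂ * c := by
      rw [← i1, ← i2, hxe]
    have E' : c₂ * κ' = κ₁ * c₁ * κ * κ₂ := mul_right_cancel E
    have hc₁κ₁ : c₁⁻¹ * κ₁ * c₁ = κ₁ := by
      have h1 : κ₁ * c₁ = c₁ * κ₁ := rs_cc_comm_left hcc hκ₁ hc₁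
      rw [mul_assoc, h1, inv_mul_cancel_left]
    have hw : c₁⁻¹ * c₂ = κ₁ * κ * κ₂ * κ'⁻¹ := by
      calc c₁⁻¹ * c₂ = c₁⁻¹ * (c₂ * κ') * κ'⁻¹ := by group
        _ = c₁⁻¹ * (κ₁ * c₁ * κ * κ₂) * κ'⁻¹ := by rw [E']
        _ = (c₁⁻¹ * κ₁ * c₁) * κ * κ₂ * κ'⁻¹ := by group
        _ = κ₁ * κ * κ₂ * κ'⁻¹ := by rw [hc₁κ₁]
    have hwC : c₁⁻¹ * c₂ ∈ C := C.mul_mem (C.inv_mem hc₁) hc₂
    have hwK : c₁⁻¹ * c₂ ∈ ⁅C, B⁆ := by
      rw [hw]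
      exact Subgroup.mul_mem _ (Subgroup.mul_mem _ (Subgroup.mul_mem _ hκ₁ hκ) hκ₂)
        (Subgroup.inv_mem _ hκ')
    have hw1 : c₁⁻¹ * c₂ = 1 := rs_cc_disj' hcc hS hwC hwK
    have hc12 : c₂ = c₁ := (inv_mul_eq_one.mp hw1).symm
    have hc₂a : a * c₂ * a⁻¹ = c₂ := by
      rw [hACc a ha c₂ hc₂, mul_inv_cancel_right]
    have h5 : (a * κ * a⁻¹ * κ⁻¹) * (a * κ' * a⁻¹ * κ'⁻¹) = 1 := by
      have e : a * κ' * a⁻¹ * κ'⁻¹ = (a * c₂ * a⁻¹)⁻¹ := by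
        rw [hc₂d]
        group
      rw [e, hc₂a, hc12, hc₁d, mul_inv_cancel]
    have h6 : a * (κ * κ') * a⁻¹ * (κ * κ')⁻¹ = 1 := by
      rw [rs_cc_hom hccAK ha hκ hκ']
      exact h5
    have h7 : a * (κ * κ') = (κ * κ') * a :=
      commutatorElement_eq_one_iff_mul_comm.mp (by rw [commutatorElement_def]; exact h6)
    have h8 : κ * κ' = 1 :=
      rs_cc_inj hS hA hB hAB hccAK ha ha1 (Subgroup.mul_mem _ hκ hκ') h7
    have h9 : (b' * b) * c * (b' * b)⁻¹ = c := by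
      calc (b' * b) * c * (b' * b)⁻¹
          = (b' * (b * c * b⁻¹ * c⁻¹) * b'⁻¹) * (b' * c * b'⁻¹ * c⁻¹) * c := by group
        _ = κ * κ' * c := by rw [← hκd, ← hκ'd, hb'κ]
        _ = c := by rw [h8, one_mul]
    calc (b' * b) * c = ((b' * b) * c * (b' * b)⁻¹) * (b' * b) := by group
      _ = c * (b' * b) := by rw [h9]
  have hcomK : ∀ κ ∈ ⁅C, B⁆, (b' * b) * κ = κ * (b' * b) := by
    intro κ hκ
    exact ((show Commute b' κ from (rs_cc_comm_right hcc hκ hx).symm).mul_left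
      (show Commute b κ from (rs_cc_comm_right hcc hκ hb).symm)).eq
  have hcent : b' * b ∈ Subgroup.centralizer ((C ⊔ ⁅C, B⁆ : Subgroup G) : Set G) := by
    have hle : C ⊔ ⁅C, B⁆ ≤ Subgroup.centralizer ({b' * b} : Set G) := by
      apply sup_le
      · intro c hc
        rw [Subgroup.mem_centralizer_iff]
        intro y hy
        rw [Set.mem_singleton_iff] at hy
        rw [hy]
        exact hcomC c hc
      · intro κ hκ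
        rw [Subgroup.mem_centralizer_iff]
        intro y hy
        rw [Set.mem_singleton_iff] at hy
        rw [hy]
        exact hcomK κ hκ
    rw [Subgroup.mem_centralizer_iff]
    intro y hy
    have h1 := hle hy
    rw [Subgroup.mem_centralizer_iff] at h1
    exact (h1 _ rfl).symm
  have hBA : IsRankOnePair B A := RankOnePair_symm hAB
  have hbb : b' * b ∈ B := B.mul_mem hx hb
  have hn : b' * b ∈ Subgroup.normalizer (A : Set G) :=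
    rs_mem_normalizer_of_commute A (b' * b) (fun a' ha' =>
      k36.ker_central hBA (Subgroup.mem_sup_left hbb) hcent (Subgroup.mem_sup_right ha'))
  exact rankOne_normalizer_left hBA hbb hn

end Cfsg.Agent.lead
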